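import Mathlib

set_option autoImplicit false

/-! Orders, generation and simplicity for the special linear groups. -/

namespace Cfsg.Agent.Classical

open Matrix
open scoped commutatorElement

variable {F : Type*} [Field F]

theorem natCard_units_field [Fintype F] : Nat.card Fˣ = Fintype.card F - 1 := by
  rw [Nat.card_units, Nat.card_eq_fintype_card]

theorem natCard_GL_eq_SL_mul [Finite F] (n : ℕ) (hn : 1 ≤ n) :
    Nat.card (GL (Fin n) F) = Nat.card Fˣ * Nat.card (Matrix.SpecialLinearGroup (Fin n) F) := by
  haveI : Nonempty (Fin n) := ⟨⟨0, hn⟩⟩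
  let d : GL (Fin n) F →* Fˣ := Matrix.GeneralLinearGroup.det
  have hs : Function.Surjective d := Matrix.GeneralLinearGroup.det_surjective
  have hr : (Matrix.SpecialLinearGroup.toGL (n := Fin n) (R := F)).range = d.ker := by
    ext g
    constructor
    · rintro ⟨A, rfl⟩
      exact MonoidHom.mem_ker.2 (Units.ext (by simp [d]))
    · intro hg
      refine ⟨⟨(g : Matrix (Fin n) (Fin n) F), ?_⟩, Units.ext rfl⟩
      simpa [d, Units.ext_iff] using MonoidHom.mem_ker.1 hg
  rw [d.ker.card_eq_card_quotient_mul_card_subgroup,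
    Nat.card_congr (QuotientGroup.quotientKerEquivOfSurjective d hs).toEquiv, ← hr,
    Nat.card_congr (MonoidHom.ofInjective
      (fun A B h => Subtype.ext (congrArg Units.val h) : Function.Injective
        (Matrix.SpecialLinearGroup.toGL (n := Fin n) (R := F)))).toEquiv]

theorem natCard_center_SL [Finite F] (n : ℕ) :
    Nat.card (Subgroup.center (Matrix.SpecialLinearGroup (Fin n) F)) = Nat.gcd (max n 1) (Nat.card Fˣ) := by
  classical
  rw [Nat.card_congr Matrix.SpecialLinearGroup.center_equiv_rootsOfUnity.toEquiv, Fintype.card_fin,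
    Nat.gcd_comm]
  have : rootsOfUnity (max n 1) F = (powMonoidHom (max n 1) : Fˣ →* Fˣ).ker := rfl
  rw [this, IsCyclic.card_powMonoidHom_ker]

theorem natCard_PSL_mul [Finite F] (n : ℕ) (hn : 1 ≤ n) :
    Nat.gcd n (Nat.card Fˣ) * Nat.card (Matrix.ProjectiveSpecialLinearGroup (Fin n) F) =
      Nat.card (Matrix.SpecialLinearGroup (Fin n) F) := by
  rw [(Subgroup.center (Matrix.SpecialLinearGroup (Fin n) F)).card_eq_card_quotient_mul_card_subgroup,
    natCard_center_SL, max_eq_left hn, mul_comm]

theorem natCard_PGL_eq_SL [Finite F] (n : ℕ) :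
    Nat.card (Matrix.ProjGenLinGroup (Fin n) F) = Nat.card (Matrix.SpecialLinearGroup (Fin n) F) := by
  rcases Nat.eq_zero_or_pos n with rfl | hn
  · haveI : Subsingleton (Matrix.ProjGenLinGroup (Fin 0) F) :=
      Matrix.ProjGenLinGroup.mk_surjective.subsingleton
    rw [Nat.card_unique, Nat.card_unique]
  haveI : Nonempty (Fin n) := ⟨⟨0, hn⟩⟩
  have h1 := natCard_GL_eq_SL_mul (F := F) n hn
  have h2 := (Subgroup.center (GL (Fin n) F)).card_eq_card_quotient_mul_card_subgroup
  have h3 : Nat.card (Subgroup.center (GL (Fin n) F)) = Nat.card Fˣ := by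
    refine (Nat.card_congr (Equiv.ofBijective (fun u : Fˣ => (⟨Matrix.GeneralLinearGroup.scalar (Fin n) u, ?_⟩ :
      Subgroup.center (GL (Fin n) F))) ⟨?_, ?_⟩)).symm
    · rw [Matrix.GeneralLinearGroup.center_eq_range_scalar]
      exact ⟨u, rfl⟩
    · intro u v h
      have := congrArg (fun g : Subgroup.center (GL (Fin n) F) =>
        ((g : GL (Fin n) F) : Matrix (Fin n) (Fin n) F) (⟨0, hn⟩ : Fin n) ⟨0, hn⟩) h
      exact Units.ext (by simpa using this)
    · rintro ⟨g, hg⟩
      rw [Matrix.GeneralLinearGroup.center_eq_range_scalar] at hg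
      obtain ⟨u, rfl⟩ := hg
      exact ⟨u, rfl⟩
  rw [h3] at h2
  have h4 : 0 < Nat.card Fˣ := Nat.card_pos
  show Nat.card (GL (Fin n) F ⧸ Subgroup.center (GL (Fin n) F)) = _
  exact Nat.eq_of_mul_eq_mul_right h4 (h2.symm.trans (h1.trans (mul_comm _ _)))

section Trans

variable {ι : Type*} [Fintype ι] [DecidableEq ι]

/-- `[x_ik(c), x_kj(1)] = x_ij(c)`. -/
theorem transvection_eq_commutator {i j k : ι} (hij : i ≠ j) (hik : i ≠ k) (hkj : k ≠ j) (c : F) :
    ⁅Matrix.SpecialLinearGroup.transvection hik c, Matrix.SpecialLinearGroup.transvection hkj (1 : F)⁆ =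
      Matrix.SpecialLinearGroup.transvection hij c := by
  rw [commutatorElement_def, Matrix.SpecialLinearGroup.transvection_inv,
    Matrix.SpecialLinearGroup.transvection_inv]
  refine Subtype.ext ?_
  simp only [Matrix.SpecialLinearGroup.coe_mul, Matrix.SpecialLinearGroup.transvection_coe]
  simp [Matrix.transvection, mul_add, add_mul, Matrix.single_mul_single_same,
    Matrix.single_mul_single_of_ne, hij, hij.symm, hik, hik.symm, hkj, hkj.symm]
  ext a b
  simp only [Matrix.add_apply, Matrix.single_apply, Matrix.one_apply, Matrix.neg_apply]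
  split_ifs <;> ring

theorem transvection_mem_closure {i j : ι} (hij : i ≠ j) (c : F) :
    Matrix.SpecialLinearGroup.transvection hij c ∈ Subgroup.closure
      (Set.range (Matrix.TransvectionStruct.toSpecialLinearGroup :
        Matrix.TransvectionStruct ι F → Matrix.SpecialLinearGroup ι F)) :=
  Subgroup.subset_closure ⟨⟨i, j, hij, c⟩, rfl⟩

theorem diag2n_eq_transvections {i j : ι} (hij : i ≠ j) (a : F) (ha : a ≠ 0) :
    Matrix.SpecialLinearGroup.diag2n hij a ha = Matrix.SpecialLinearGroup.transvection hij a *
      Matrix.SpecialLinearGroup.transvection hij.symm (-a⁻¹) *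
      Matrix.SpecialLinearGroup.transvection hij a *
      Matrix.SpecialLinearGroup.transvection hij (-1) *
      Matrix.SpecialLinearGroup.transvection hij.symm 1 *
      Matrix.SpecialLinearGroup.transvection hij (-1) := by
  refine Subtype.ext (Matrix.ext_iff_mulVec.2 fun v => funext fun k => ?_)
  simp only [Matrix.SpecialLinearGroup.coe_mul, Matrix.SpecialLinearGroup.transvection_coe,
    Matrix.SpecialLinearGroup.diag2n_coe, ← Matrix.mulVec_mulVec, Matrix.transvection,
    Matrix.add_mulVec, Matrix.one_mulVec, Matrix.single_mulVec_eq, Matrix.mulVec_diagonal]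
  simp only [Pi.add_apply, Pi.smul_apply, smul_eq_mul, Pi.single_apply]
  by_cases hki : k = i
  · subst hki; simp [hij, hij.symm]; field_simp; ring
  · by_cases hkj : k = j
    · subst hkj; simp [hij, hij.symm]; field_simp; ring
    · simp [hki, hkj]

theorem SL_closure_transvections :
    Subgroup.closure (Set.range (Matrix.TransvectionStruct.toSpecialLinearGroup :
        Matrix.TransvectionStruct ι F → Matrix.SpecialLinearGroup ι F)) = ⊤ := by
  rcases subsingleton_or_nontrivial ι with h | h
  · exact Subsingleton.elim _ _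
  refine eq_top_iff.2 fun M _ => ?_
  refine Matrix.SpecialLinearGroup.diagonal_transvection_induction' _ M (fun i j hij c hc => ?_)
    (fun i j hij a => transvection_mem_closure hij a) (fun _ _ => mul_mem)
  rw [diag2n_eq_transvections]
  exact mul_mem (mul_mem (mul_mem (mul_mem (mul_mem (transvection_mem_closure _ _)
    (transvection_mem_closure _ _)) (transvection_mem_closure _ _)) (transvection_mem_closure _ _))
    (transvection_mem_closure _ _)) (transvection_mem_closure _ _)

theorem SL_commutator_eq_top_of_three_le (h3 : 3 ≤ Fintype.card ι) :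
    commutator (Matrix.SpecialLinearGroup ι F) = ⊤ := by
  refine eq_top_iff.2 ?_
  rw [← SL_closure_transvections, Subgroup.closure_le]
  rintro _ ⟨⟨i, j, hij, c⟩, rfl⟩
  obtain ⟨k, -, hk⟩ := Finset.exists_mem_notMem_of_card_lt_card (s := ({i, j} : Finset ι)) (t := Finset.univ)
    (lt_of_le_of_lt Finset.card_le_two (by rw [Finset.card_univ]; omega))
  simp only [Finset.mem_insert, Finset.mem_singleton, not_or] at hk
  show Matrix.SpecialLinearGroup.transvection hij c ∈ commutator _
  rw [← transvection_eq_commutator hij (Ne.symm hk.1) hk.2 c]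
  exact Subgroup.commutator_mem_commutator (Subgroup.mem_top _) (Subgroup.mem_top _)

open scoped LinearAlgebra.Projectivization in
theorem iSup_lineStab_eq_top :
    (⨆ p : ℙ F (ι → F), Matrix.SpecialLinearGroup.lineStab p.submodule) =
      (⊤ : Subgroup (Matrix.SpecialLinearGroup ι F)) := by
  refine eq_top_iff.2 ?_
  rw [← SL_closure_transvections, Subgroup.closure_le]
  rintro _ ⟨⟨i, j, hij, c⟩, rfl⟩
  have hv : (Pi.single i (1 : F) : ι → F) ≠ 0 := Pi.single_ne_zero_iff.2 one_ne_zero
  refine Subgroup.mem_iSup_of_mem (Projectivization.mk F _ hv) ?_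
  rw [Projectivization.submodule_mk]
  exact SL2Gen.transvection_mem_lineStab hij c

open scoped LinearAlgebra.Projectivization in
/-- The Iwasawa structure of `PSL` on the projective space. -/
noncomputable abbrev pslIwasawa :
    MulAction.IwasawaStructure (Matrix.ProjectiveSpecialLinearGroup ι F) (ℙ F (ι → F)) where
  T := PSL.iwasawaT
  is_comm p := by
    have hSL : IsMulCommutative (Matrix.SpecialLinearGroup.lineStab (F := F) (ι := ι) p.submodule) := by
      rw [← Projectivization.mk_rep p, Projectivization.submodule_mk]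
      exact Matrix.SpecialLinearGroup.lineStab_isMulCommutative_of_span p.rep p.rep_nonzero
    exact Subgroup.map_isMulCommutative _ _
  is_conj g p := by
    obtain ⟨g_SL, rfl⟩ := QuotientGroup.mk_surjective g
    rw [Matrix.ProjectiveSpecialLinearGroup.smul_proj_mk]
    change Subgroup.map _ _ = _
    rw [PSL.smul_submodule, Matrix.SpecialLinearGroup.lineStab_smul,
      PSL.iwasawaT_map_conj]
  is_generator := by
    rw [← Subgroup.map_iSup, iSup_lineStab_eq_top]
    exact Subgroup.map_top_of_surjective _ (QuotientGroup.mk'_surjective _)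

theorem PSL_simple_of_three_le [Nontrivial ι] (h3 : 3 ≤ Fintype.card ι) :
    IsSimpleGroup (Matrix.ProjectiveSpecialLinearGroup ι F) := by
  have : Group.IsPerfect (Matrix.SpecialLinearGroup ι F) := ⟨SL_commutator_eq_top_of_three_le h3⟩
  have hp : Group.IsPerfect (Matrix.ProjectiveSpecialLinearGroup ι F) := inferInstance
  exact MulAction.IwasawaStructure.isSimpleGroup hp.commutator_eq_top pslIwasawa inferInstance

end Trans

end Cfsg.Agent.Classical
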