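import Mathlib
import Cfsg.Agent.Lib.Classical.SLGroup

/-! Perfectness in all degrees, commutators in `GL`, normal subgroups of `SL`. -/

set_option autoImplicit false

namespace Cfsg.Agent.Classical

open Matrix
open scoped commutatorElement

variable {F : Type*} [Field F] {ι : Type*} [Fintype ι] [DecidableEq ι]

theorem diag_mul_transvection {i j : ι} (c : F) (d : ι → F) :
    Matrix.diagonal d * Matrix.transvection i j c =
      Matrix.diagonal d + Matrix.single i j (d i * c) := by
  rw [Matrix.transvection, mul_add, mul_one]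
  congr 1
  ext a b
  rw [Matrix.diagonal_mul, Matrix.single_apply, Matrix.single_apply]
  by_cases h : i = a ∧ j = b
  · simp [h.1, h.2]
  · simp [h]

theorem transvection_mul_diag {i j : ι} (c : F) (d : ι → F) :
    Matrix.transvection i j c * Matrix.diagonal d =
      Matrix.diagonal d + Matrix.single i j (c * d j) := by
  rw [Matrix.transvection, add_mul, one_mul]
  congr 1
  ext a b
  rw [Matrix.mul_diagonal, Matrix.single_apply, Matrix.single_apply]
  by_cases h : i = a ∧ j = b
  · simp [h.1, h.2]
  · simp [h]

theorem diag2n_conj_transvection {i j : ι} (hij : i ≠ j) (a : F) (ha : a ≠ 0) (c : F) :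
    Matrix.SpecialLinearGroup.diag2n hij a ha * Matrix.SpecialLinearGroup.transvection hij c *
      (Matrix.SpecialLinearGroup.diag2n hij a ha)⁻¹ =
      Matrix.SpecialLinearGroup.transvection hij (a ^ 2 * c) := by
  rw [mul_inv_eq_iff_eq_mul]
  refine Subtype.ext ?_
  simp only [Matrix.SpecialLinearGroup.coe_mul, Matrix.SpecialLinearGroup.transvection_coe,
    Matrix.SpecialLinearGroup.diag2n_coe]
  simp only [← Matrix.transvection.eq_def]
  rw [diag_mul_transvection, transvection_mul_diag]
  congr 2
  simp [hij, hij.symm]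
  field_simp

theorem SL_commutator_eq_top_of_exists (h : ∃ a : F, a ≠ 0 ∧ a ^ 2 ≠ 1) :
    commutator (Matrix.SpecialLinearGroup ι F) = ⊤ := by
  obtain ⟨a, ha, ha2⟩ := h
  refine eq_top_iff.2 ?_
  rw [← SL_closure_transvections, Subgroup.closure_le]
  rintro _ ⟨⟨i, j, hij, c⟩, rfl⟩
  show Matrix.SpecialLinearGroup.transvection hij c ∈ commutator _
  have key : ⁅Matrix.SpecialLinearGroup.diag2n hij a ha,
      Matrix.SpecialLinearGroup.transvection hij (c / (a ^ 2 - 1))⁆ =
      Matrix.SpecialLinearGroup.transvection hij c := by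
    rw [commutatorElement_def, diag2n_conj_transvection, Matrix.SpecialLinearGroup.transvection_inv]
    refine Subtype.ext ?_
    simp only [Matrix.SpecialLinearGroup.coe_mul, Matrix.SpecialLinearGroup.transvection_coe]
    simp only [← Matrix.transvection.eq_def]
    rw [Matrix.transvection_mul_transvection_same _ _ hij]
    congr 1
    field_simp [sub_ne_zero.2 ha2]
    ring
  rw [← key]
  exact Subgroup.commutator_mem_commutator (Subgroup.mem_top _) (Subgroup.mem_top _)

/-- Apart from `SL_2(2)` and `SL_2(3)`, special linear groups are perfect. -/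
theorem SL_commutator_eq_top (h : Fintype.card ι = 2 → ∃ a : F, a ≠ 0 ∧ a ^ 2 ≠ 1) :
    commutator (Matrix.SpecialLinearGroup ι F) = ⊤ := by
  by_cases h2 : Fintype.card ι = 2
  · exact SL_commutator_eq_top_of_exists (h h2)
  by_cases h3 : 3 ≤ Fintype.card ι
  · exact SL_commutator_eq_top_of_three_le h3
  have : Subsingleton ι := Fintype.card_le_one_iff_subsingleton.1 (by omega)
  exact Subsingleton.elim _ _

theorem exists_sq_ne_one_field [Fintype F] (h : 4 ≤ Fintype.card F) :
    ∃ a : F, a ≠ 0 ∧ a ^ 2 ≠ 1 := by
  classical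
  obtain ⟨a, -, ha⟩ := Finset.exists_mem_notMem_of_card_lt_card (s := ({0, 1, -1} : Finset F))
    (t := Finset.univ) (lt_of_le_of_lt Finset.card_le_three (by rw [Finset.card_univ]; omega))
  simp only [Finset.mem_insert, Finset.mem_singleton, not_or] at ha
  exact ⟨a, ha.1, fun h => (sq_eq_one_iff.1 h).elim ha.2.1 ha.2.2⟩

/-- A normal subgroup of a perfect `SL` with simple `PSL` is central or everything. -/
theorem SL_normal_eq_top {n : ℕ} [IsSimpleGroup (Matrix.ProjectiveSpecialLinearGroup (Fin n) F)]
    (hperf : commutator (Matrix.SpecialLinearGroup (Fin n) F) = ⊤)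
    (N : Subgroup (Matrix.SpecialLinearGroup (Fin n) F)) [N.Normal]
    (hN : ¬ N ≤ Subgroup.center (Matrix.SpecialLinearGroup (Fin n) F)) : N = ⊤ := by
  set Z := Subgroup.center (Matrix.SpecialLinearGroup (Fin n) F)
  have hq : Function.Surjective (QuotientGroup.mk' Z) := QuotientGroup.mk'_surjective _
  rcases (Subgroup.Normal.map ‹N.Normal› (QuotientGroup.mk' Z) hq).eq_bot_or_eq_top with h | h
  · rw [Subgroup.map_eq_bot_iff, QuotientGroup.ker_mk'] at h
    exact absurd h hN
  · have hsup : N ⊔ Z = ⊤ := by
      have := congrArg (Subgroup.comap (QuotientGroup.mk' Z)) h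
      rwa [Subgroup.comap_map_eq, QuotientGroup.ker_mk', Subgroup.comap_top] at this
    refine top_le_iff.1 ?_
    rw [← hperf]
    exact Subgroup.Normal.commutator_le_of_self_sup_commutative_eq_top hsup inferInstance

theorem PSL_isSimple [Fintype F] {n : ℕ} (hn : 2 ≤ n) (h : n = 2 → 4 ≤ Fintype.card F) :
    IsSimpleGroup (Matrix.ProjectiveSpecialLinearGroup (Fin n) F) := by
  rcases eq_or_lt_of_le hn with rfl | h3
  · exact Matrix.ProjectiveSpecialLinearGroup.rank_two_simple
      (by rw [Nat.card_eq_fintype_card]; exact h rfl)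
  · have : Nontrivial (Fin n) := Fin.nontrivial_iff_two_le.2 hn
    exact PSL_simple_of_three_le (by rw [Fintype.card_fin]; omega)

theorem GL_ker_det_eq_range_toGL :
    (Matrix.GeneralLinearGroup.det : GL ι F →* Fˣ).ker =
      (Matrix.SpecialLinearGroup.toGL (n := ι) (R := F)).range := by
  ext g
  constructor
  · intro hg
    refine ⟨⟨(g : Matrix ι ι F), ?_⟩, Units.ext rfl⟩
    simpa [Units.ext_iff] using MonoidHom.mem_ker.1 hg
  · rintro ⟨A, rfl⟩
    exact MonoidHom.mem_ker.2 (Units.ext (by simp))

theorem GL_commutator_eq_ker_det (h : Fintype.card ι = 2 → ∃ a : F, a ≠ 0 ∧ a ≠ 1) :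
    commutator (GL ι F) = (Matrix.GeneralLinearGroup.det : GL ι F →* Fˣ).ker := by
  refine le_antisymm (Abelianization.commutator_subset_ker _) ?_
  rw [GL_ker_det_eq_range_toGL, MonoidHom.range_eq_map]
  by_cases h3 : 3 ≤ Fintype.card ι
  · rw [← SL_commutator_eq_top_of_three_le (F := F) h3, commutator_def, commutator_def,
      Subgroup.map_commutator]
    exact Subgroup.commutator_mono le_top le_top
  by_cases h2 : Fintype.card ι = 2
  · obtain ⟨a, ha0, ha1⟩ := h h2
    rw [← SL_closure_transvections, MonoidHom.map_closure, Subgroup.closure_le]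
    rintro _ ⟨_, ⟨⟨i, j, hij, c⟩, rfl⟩, rfl⟩
    set d : ι → F := fun k => if k = i then a else 1 with hd
    have hd0 : Matrix.det (Matrix.diagonal d) ≠ 0 := by
      rw [Matrix.det_diagonal]
      exact Finset.prod_ne_zero_iff.2 fun k _ => by simp only [hd]; split_ifs <;> simp [ha0]
    set D : GL ι F := Matrix.GeneralLinearGroup.mkOfDetNeZero _ hd0
    have key : ⁅D, Matrix.SpecialLinearGroup.toGL
          (Matrix.SpecialLinearGroup.transvection hij (c / (a - 1)))⁆ =
        Matrix.SpecialLinearGroup.toGL (Matrix.SpecialLinearGroup.transvection hij c) := by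
      have h1 : D * Matrix.SpecialLinearGroup.toGL
          (Matrix.SpecialLinearGroup.transvection hij (c / (a - 1))) =
          Matrix.SpecialLinearGroup.toGL (Matrix.SpecialLinearGroup.transvection hij c) *
          (Matrix.SpecialLinearGroup.toGL (Matrix.SpecialLinearGroup.transvection hij (c / (a - 1))) * D) := by
        refine Units.ext ?_
        show Matrix.diagonal d * Matrix.transvection i j (c / (a - 1)) =
          Matrix.transvection i j c * (Matrix.transvection i j (c / (a - 1)) * Matrix.diagonal d)
        rw [← Matrix.mul_assoc, Matrix.transvection_mul_transvection_same _ _ hij, diag_mul_transvection,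
          transvection_mul_diag]
        congr 2
        simp only [hd, if_pos, if_neg hij.symm]
        field_simp [sub_ne_zero.2 ha1]
        ring
      rw [commutatorElement_def, h1]; group
    show Matrix.SpecialLinearGroup.toGL (Matrix.SpecialLinearGroup.transvection hij c) ∈ commutator _
    rw [← key]
    exact Subgroup.commutator_mem_commutator (Subgroup.mem_top _) (Subgroup.mem_top _)
  · have : Subsingleton ι := Fintype.card_le_one_iff_subsingleton.1 (by omega)
    rw [Subsingleton.elim (⊤ : Subgroup (Matrix.SpecialLinearGroup ι F)) ⊥, Subgroup.map_bot]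
    exact bot_le

end Cfsg.Agent.Classical
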