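import Mathlib

set_option autoImplicit false

/-! Basic tools on element orders in matrix groups over fields: projective lifts, shifts, idempotents. -/

namespace Cfsg.Agent.Classical

open Matrix

variable {F : Type*} [Field F] {n : ℕ}

/-- A matrix in `SL_n` is central iff it is scalar. -/
theorem slMem_center_iff (A : Matrix.SpecialLinearGroup (Fin n) F) :
    A ∈ Subgroup.center (Matrix.SpecialLinearGroup (Fin n) F) ↔
      ∃ c : F, (A : Matrix (Fin n) (Fin n) F) = Matrix.scalar (Fin n) c := by
  rw [Matrix.SpecialLinearGroup.mem_center_iff]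
  constructor
  · rintro ⟨c, -, h⟩
    exact ⟨c, h.symm⟩
  · rintro ⟨c, h⟩
    refine ⟨c, ?_, h.symm⟩
    have := A.2
    rw [h, Matrix.scalar_apply, Matrix.det_diagonal, Finset.prod_const, Finset.card_univ] at this
    exact this

/-- The map to `PSL_n`. -/
def slToPSL (n : ℕ) (F : Type*) [Field F] :
    Matrix.SpecialLinearGroup (Fin n) F →* Matrix.ProjectiveSpecialLinearGroup (Fin n) F :=
  QuotientGroup.mk' _

theorem slToPSL_surjective : Function.Surjective (slToPSL n F) :=
  QuotientGroup.mk'_surjective _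

theorem slToPSL_eq_one_iff (A : Matrix.SpecialLinearGroup (Fin n) F) :
    slToPSL n F A = 1 ↔ ∃ c : F, (A : Matrix (Fin n) (Fin n) F) = Matrix.scalar (Fin n) c := by
  rw [← slMem_center_iff]
  exact QuotientGroup.eq_one_iff A

theorem slToPSL_pow_eq_one_iff (A : Matrix.SpecialLinearGroup (Fin n) F) (k : ℕ) :
    slToPSL n F A ^ k = 1 ↔ ∃ c : F, (A : Matrix (Fin n) (Fin n) F) ^ k = Matrix.scalar (Fin n) c := by
  rw [← map_pow, slToPSL_eq_one_iff, Matrix.SpecialLinearGroup.coe_pow]

/-- The shift matrix of a nilpotent block on the first `s` coordinates. -/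
def shiftMatrix (F : Type*) [Field F] (n s : ℕ) : Matrix (Fin n) (Fin n) F :=
  Matrix.of fun i j => if (j : ℕ) = i + 1 ∧ (j : ℕ) < s then 1 else 0

theorem shiftMatrix_pow (s m : ℕ) (i j : Fin n) : (shiftMatrix F n s ^ m) i j =
    if (j : ℕ) = i + m ∧ (m = 0 ∨ (j : ℕ) < s) then 1 else 0 := by
  induction m generalizing j with
  | zero => simp [Matrix.one_apply, Fin.ext_iff, eq_comm]
  | succ m ih =>
    rw [pow_succ, Matrix.mul_apply]
    simp only [ih]
    simp only [shiftMatrix, Matrix.of_apply]
    by_cases h : (i : ℕ) + m < n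
    · rw [Finset.sum_eq_single ⟨i + m, h⟩]
      · dsimp only
        by_cases hj : (j : ℕ) = i + (m + 1) ∧ (j : ℕ) < s
        · rw [if_pos ⟨rfl, Or.inr (by omega)⟩, if_pos ⟨by omega, hj.2⟩, if_pos ⟨hj.1, Or.inr hj.2⟩, one_mul]
        · rw [if_neg (c := (j : ℕ) = i + m + 1 ∧ (j : ℕ) < s) (fun h' => hj ⟨by omega, h'.2⟩), mul_zero,
            if_neg fun h' => hj ⟨h'.1, h'.2.resolve_left (by omega)⟩]
      · intro b _ hb
        rw [if_neg, zero_mul]
        exact fun h' => hb (Fin.ext h'.1)
      · simp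
    · rw [if_neg (by omega)]
      refine Finset.sum_eq_zero fun b _ => ?_
      rw [if_neg (by omega), zero_mul]

theorem shiftMatrix_pow_eq_zero {s m : ℕ} (hm : s ≤ m) (hm0 : m ≠ 0) : shiftMatrix F n s ^ m = 0 := by
  ext i j
  rw [shiftMatrix_pow, if_neg]
  · rfl
  · rintro ⟨h1, h2 | h2⟩ <;> omega

theorem le_of_shiftMatrix_pow_eq_scalar {s m : ℕ} (hs : s ≤ n) (hm0 : m ≠ 0) {c : F}
    (h : shiftMatrix F n s ^ m = Matrix.scalar (Fin n) c) : s ≤ m := by
  by_contra hlt
  push Not at hlt
  have := congrFun (congrFun h ⟨0, by omega⟩) ⟨m, by omega⟩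
  rw [shiftMatrix_pow, if_pos ⟨by simp, Or.inr hlt⟩, Matrix.scalar_apply, Matrix.diagonal_apply_ne _
    (fun hh => hm0 (congrArg Fin.val hh).symm)] at this
  exact one_ne_zero this

/-- The determinant of `u` on the range of an idempotent and `v` on its kernel. -/
theorem det_idempotent_combination {V : Type*} [AddCommGroup V] [Module F V] [FiniteDimensional F V]
    (e : Module.End F V) (he : IsIdempotentElem e) (u v : F) :
    LinearMap.det (u • e + v • (1 - e)) =
      u ^ Module.finrank F (LinearMap.range e) * v ^ Module.finrank F (LinearMap.ker e) := by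
  have hc : IsCompl (LinearMap.range e) (LinearMap.ker e) :=
    (LinearMap.IsIdempotentElem.isCompl he : IsCompl (LinearMap.range e) (LinearMap.ker e))
  let E := Submodule.prodEquivOfIsCompl _ _ hc
  have key : u • e + v • (1 - e) = E.toLinearMap ∘ₗ
      ((u • LinearMap.id).prodMap (v • LinearMap.id)) ∘ₗ E.symm.toLinearMap := by
    refine LinearMap.ext fun x => ?_
    obtain ⟨⟨a, b⟩, rfl⟩ := E.surjective x
    obtain ⟨w, hw⟩ := a.2
    have ha : e (a : V) = a := by
      rw [← hw]
      exact congrArg (fun f : Module.End F V => f w) he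
    have hb : e (b : V) = 0 := LinearMap.mem_ker.1 b.2
    simp [E, Submodule.coe_prodEquivOfIsCompl', ha, hb, smul_add]
  rw [key, LinearMap.det_conj, LinearMap.det_prodMap, LinearMap.det_smul, LinearMap.det_smul,
    LinearMap.det_id, LinearMap.det_id, mul_one, mul_one]

end Cfsg.Agent.Classical
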