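import Mathlib
import Cfsg.Agent.Lib.Block.SL2Char.McKayTwo
import Cfsg.Agent.Lib.Fus.PSLTwo

/-!
Sylow subgroups of `SL(2, q)` and their centralizers and normalizers.
-/

set_option autoImplicit false
set_option linter.unusedSectionVars false

namespace Cfsg.Agent.Classical.SLTwoSylow

universe u w

/-- recognition of the generalised quaternion group -/
theorem nonempty_quaternion_mulEquiv {P : Type u} [Group P] [Finite P] (n : ℕ) [NeZero n] (a b : P)
    (hcard : Nat.card P = 4 * n) (ha : orderOf a = 2 * n) (hb : b ∉ Subgroup.zpowers a)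
    (hconj : b * a * b⁻¹ = a⁻¹) (hbb : b * b = a ^ n) : Nonempty (QuaternionGroup n ≃* P) := by
  have hn : n ≠ 0 := NeZero.ne n
  let χ : ZMod (2 * n) → P := fun i => a ^ i.val
  have hadd : ∀ i j, χ (i + j) = χ i * χ j := by
    intro i j
    show a ^ (i + j).val = a ^ i.val * a ^ j.val
    rw [← pow_add, ZMod.val_add]
    conv_rhs => rw [← pow_mod_orderOf, ha]
  have h0 : χ 0 = 1 := by simp [χ]
  have hsub : ∀ i j, χ (j - i) = (χ i)⁻¹ * χ j := by
    intro i j
    refine eq_inv_mul_iff_mul_eq.2 ?_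
    rw [← hadd, add_sub_cancel]
  have hn' : χ (n : ZMod (2 * n)) = a ^ n := by
    show a ^ ((n : ZMod (2 * n))).val = a ^ n
    rw [ZMod.val_natCast, Nat.mod_eq_of_lt (by omega)]
  have hswap : ∀ i, χ i * b = b * (χ i)⁻¹ := by
    intro i
    have h1 : (b * a * b⁻¹) ^ i.val = (a⁻¹) ^ i.val := by rw [hconj]
    rw [conj_pow, inv_pow] at h1
    have h2 : b * (χ i) * b⁻¹ = (χ i)⁻¹ := h1
    have h3 : b * (χ i) = (χ i)⁻¹ * b := mul_inv_eq_iff_eq_mul.1 h2
    calc χ i * b = χ i * (b * χ i) * (χ i)⁻¹ := by group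
      _ = b * (χ i)⁻¹ := by rw [h3]; group
  let f : QuaternionGroup n →* P :=
    { toFun := fun g => match g with
        | .a i => χ i
        | .xa i => b * χ i
      map_one' := h0
      map_mul' := by
        rintro (i | i) (j | j)
        · exact hadd i j
        · show b * χ (j - i) = χ i * (b * χ j)
          rw [← mul_assoc, hswap, hsub, mul_assoc]
        · show b * χ (i + j) = b * χ i * χ j
          rw [hadd, mul_assoc]
        · show χ ((n : ZMod (2 * n)) + j - i) = b * χ i * (b * χ j)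
          rw [show (n : ZMod (2 * n)) + j - i = (n : ZMod (2 * n)) + (j - i) by ring, hadd, hn', hsub,
            ← hbb]
          calc b * b * ((χ i)⁻¹ * χ j) = b * (b * (χ i)⁻¹) * χ j := by group
            _ = b * (χ i * b) * χ j := by rw [hswap]
            _ = b * χ i * (b * χ j) := by group }
  have hinj : Function.Injective f := by
    have hχ : Function.Injective χ := by
      intro i j h
      have := pow_injOn_Iio_orderOf (x := a) (show i.val < orderOf a by rw [ha]; exact ZMod.val_lt i)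
        (show j.val < orderOf a by rw [ha]; exact ZMod.val_lt j) h
      exact ZMod.val_injective _ this
    have hmem : ∀ i, χ i ∈ Subgroup.zpowers a := fun i => Subgroup.npow_mem_zpowers a _
    rintro (i | i) (j | j) h
    · exact congrArg _ (hχ h)
    · exfalso; apply hb
      change χ i = b * χ j at h
      rw [show b = χ i * (χ j)⁻¹ by rw [h]; group]
      exact mul_mem (hmem i) (inv_mem (hmem j))
    · exfalso; apply hb
      change b * χ i = χ j at h
      rw [show b = χ j * (χ i)⁻¹ by rw [← h]; group]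
      exact mul_mem (hmem j) (inv_mem (hmem i))
    · change b * χ i = b * χ j at h
      exact congrArg _ (hχ (mul_left_cancel h))
  refine ⟨MulEquiv.ofBijective f ((Nat.bijective_iff_injective_and_card _).2 ⟨hinj, ?_⟩)⟩
  rw [hcard, Nat.card_eq_fintype_card, QuaternionGroup.card]

theorem exists_conj_le {G : Type u} [Group G] [Finite G] {ℓ : ℕ} [Fact ℓ.Prime] (H : Subgroup G)
    (hv : (Nat.card G).factorization ℓ ≤ (Nat.card H).factorization ℓ) (P : Sylow ℓ G) :
    ∃ g : G, (P : Subgroup G) ≤ H.map (MulAut.conj g).toMonoidHom := by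
  obtain ⟨P₀⟩ := (inferInstance : Nonempty (Sylow ℓ H))
  have hle : (Nat.card H).factorization ℓ ≤ (Nat.card G).factorization ℓ :=
    (Nat.factorization_le_iff_dvd Nat.card_pos.ne' Nat.card_pos.ne').2
      (Subgroup.card_subgroup_dvd_card H) ℓ
  have hc : Nat.card ((P₀ : Subgroup H).map H.subtype) = ℓ ^ (Nat.card G).factorization ℓ := by
    rw [Subgroup.card_map_of_injective (Subgroup.subtype_injective _), Sylow.card_eq_multiplicity,
      le_antisymm hle hv]
  obtain ⟨g, hg⟩ := MulAction.exists_smul_eq G (Sylow.ofCard _ hc) P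
  refine ⟨g, fun x hx => ?_⟩
  rw [← hg] at hx
  obtain ⟨y, hy, hyx⟩ := hx
  exact ⟨y, Subgroup.map_subtype_le _ hy, hyx⟩

theorem isCyclic_sylow_of_hom {G : Type u} [Group G] [Finite G] {A : Type w} [CommGroup A]
    [IsCyclic A] (ψ : A →* G) (hψ : Function.Injective ψ) {ℓ : ℕ} [Fact ℓ.Prime]
    (hv : (Nat.card G).factorization ℓ ≤ (Nat.card A).factorization ℓ) (P : Sylow ℓ G) :
    IsCyclic (P : Subgroup G) := by
  obtain ⟨g, hg⟩ := exists_conj_le ψ.range
    (by rwa [← Nat.card_congr (MonoidHom.ofInjective hψ).toEquiv]) P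
  rw [← MonoidHom.range_comp] at hg
  haveI : IsCyclic ((MulAut.conj g).toMonoidHom.comp ψ).range :=
    isCyclic_of_surjective _ (MonoidHom.rangeRestrict_surjective _)
  exact isCyclic_of_injective (Subgroup.inclusion hg) (Subgroup.inclusion_injective hg)

open Cfsg.Agent.Block.SL2Char Matrix

variable {F : Type u} [Field F] [Fintype F] [DecidableEq F]

local notation "SS" => Matrix.SpecialLinearGroup (Fin 2) F

variable {A : Type w} [CommGroup A] [IsCyclic A] [Finite A]
  {φ : A →* Matrix.SpecialLinearGroup (Fin 2) F} {m : ℕ}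

omit [IsCyclic A] [Finite A] in
theorem isTorus_conj (h : IsTorus φ m) (g : SS) :
    IsTorus ((MulAut.conj g).toMonoidHom.comp φ) m := by
  refine ⟨(MulAut.conj g).injective.comp h.inj, h.card, h.two_le, fun a ha y hy => ?_,
    fun a b ha hc => ?_, fun a => ?_⟩
  · simp only [MonoidHom.comp_apply, MulEquiv.coe_toMonoidHom, MulAut.conj_apply] at hy
    obtain ⟨c, hc⟩ := h.cent a ha (g⁻¹ * y * g) (by
      calc g⁻¹ * y * g * φ a = g⁻¹ * (y * (g * φ a * g⁻¹)) * g := by group
        _ = g⁻¹ * (g * φ a * g⁻¹ * y) * g := by rw [hy]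
        _ = φ a * (g⁻¹ * y * g) := by group)
    refine ⟨c, ?_⟩
    simp only [MonoidHom.comp_apply, MulEquiv.coe_toMonoidHom, MulAut.conj_apply, hc]
    group
  · refine h.conj a b ha ?_
    have h1 : IsConj (φ a) (g * φ a * g⁻¹) := isConj_iff.2 ⟨g, rfl⟩
    have h2 : IsConj (φ b) (g * φ b * g⁻¹) := isConj_iff.2 ⟨g, rfl⟩
    exact (h1.trans hc).trans h2.symm
  · exact MonoidHom.map_isConj (MulAut.conj g).toMonoidHom (h.inverted a)

theorem odd_sylow (h : IsTorus φ m) {ℓ : ℕ} [Fact ℓ.Prime] (hℓ : ℓ ≠ 2) (hdvd : ℓ ∣ 2 * m)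
    (hv : (Nat.card SS).factorization ℓ = (2 * m).factorization ℓ) (P : Sylow ℓ SS) :
    Nat.card (Subgroup.centralizer ((P : Subgroup SS) : Set SS)) = 2 * m ∧
    IsCyclic (Subgroup.centralizer ((P : Subgroup SS) : Set SS)) ∧
    Nat.card (Subgroup.normalizer ((P : Subgroup SS) : Set SS)) = 2 * (2 * m) := by
  have hm := h.two_le
  obtain ⟨g, hg⟩ := exists_conj_le φ.range (by rw [h.card_range, hv]) P
  rw [← MonoidHom.range_comp] at hg
  set ψ := (MulAut.conj g).toMonoidHom.comp φ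
  have h' : IsTorus ψ m := isTorus_conj h g
  have hℓp : ℓ.Prime := Fact.out
  have hne : (P : Subgroup SS) ≠ ⊥ := by
    intro hbot
    have h1 := Sylow.card_eq_multiplicity P
    rw [hbot, Subgroup.card_bot, hv] at h1
    have h2 := hℓp.factorization_pos_of_dvd (show 2 * m ≠ 0 by omega) hdvd
    have := Nat.one_lt_pow h2.ne' hℓp.one_lt
    omega
  obtain ⟨x, hxP, hx1⟩ := (Subgroup.bot_or_exists_ne_one _).resolve_left hne
  obtain ⟨a, rfl⟩ := hg hxP
  have haa : a * a ≠ 1 := by
    intro e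
    apply hx1
    have h2 : orderOf (ψ a) ∣ 2 := orderOf_dvd_of_pow_eq_one (by rw [sq, ← map_mul, e, map_one])
    obtain ⟨k, hk⟩ := (IsPGroup.iff_orderOf.1 P.2) ⟨ψ a, hxP⟩
    rw [Subgroup.orderOf_mk] at hk
    rw [← orderOf_eq_one_iff]
    exact Nat.eq_one_of_dvd_coprimes ((Nat.coprime_primes Nat.prime_two hℓp).2 hℓ.symm |>.pow_right k)
      h2 (dvd_of_eq hk)
  have hC : Subgroup.centralizer ((P : Subgroup SS) : Set SS) = ψ.range := by
    refine le_antisymm ?_ ?_
    · refine le_trans (Subgroup.centralizer_le ?_) (h'.centralizer_singleton haa).le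
      exact Set.singleton_subset_iff.2 hxP
    · rw [← h'.centralizer_range]
      exact le_trans le_rfl (Subgroup.centralizer_le hg)
  rw [hC, h'.normalizer_sub hg haa hxP]
  exact ⟨h'.card_range, isCyclic_of_surjective _ (MonoidHom.rangeRestrict_surjective _),
    h'.card_normalizer⟩

theorem two_sylow (h : IsTorus φ m) (hodd : Odd (Fintype.card F)) (hm : 2 ∣ m)
    (hv : (Nat.card SS).factorization 2 = (2 * m).factorization 2 + 1) (P : Sylow 2 SS) :
    (∃ k : ℕ, 1 ≤ k ∧ Nonempty ((P : Subgroup SS) ≃* QuaternionGroup (2 ^ k))) ∧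
    Subgroup.centralizer ((P : Subgroup SS) : Set SS) = Subgroup.center SS ∧
    (4 ∣ m → Subgroup.normalizer ((P : Subgroup SS) : Set SS) = (P : Subgroup SS)) ∧
    (¬ 4 ∣ m → Nat.card (Subgroup.normalizer ((P : Subgroup SS) : Set SS)) = 3 * Nat.card P) := by
  classical
  have hm2 := h.two_le
  set a := (2 * m).factorization 2 with hadef
  have hdvd : ∀ k, 2 ^ k ∣ 2 * m ↔ k ≤ a := fun k =>
    Nat.Prime.pow_dvd_iff_le_factorization Nat.prime_two (by omega)
  have ha2 : 2 ≤ a := (hdvd 2).1 (by obtain ⟨c, rfl⟩ := hm; exact ⟨c, by ring⟩)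
  obtain ⟨g, hg⟩ := exists_conj_le (ℓ := 2) (Subgroup.normalizer (φ.range : Set SS)) (by
    rw [h.card_normalizer, Nat.factorization_mul two_ne_zero (by omega), Finsupp.add_apply,
      Nat.Prime.factorization_self Nat.prime_two, hv]
    omega) P
  rw [Subgroup.map_equiv_normalizer_eq, ← MonoidHom.range_comp] at hg
  set ψ := (MulAut.conj g).toMonoidHom.comp φ
  have h' : IsTorus ψ m := isTorus_conj h g
  set R : Subgroup SS := ψ.range with hR
  set NT : Subgroup SS := Subgroup.normalizer (R : Set SS) with hNT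
  obtain ⟨hidxN, -, -, -⟩ := h'.normalizer_facts
  have hcP : Nat.card P = 2 ^ (a + 1) := by rw [Sylow.card_eq_multiplicity, hv]
  have hout2 : ∀ p q : SS, p ∈ NT → q ∈ NT → p ∉ R → q ∉ R → p * q ∈ R := fun p q hp hq hpR hqR =>
    (Subgroup.mul_mem_iff_of_index_two (a := (⟨p, hp⟩ : NT)) (b := ⟨q, hq⟩) hidxN).2
      (iff_of_false hpR hqR)
  obtain ⟨w, hwP, hwR⟩ : ∃ w, w ∈ (P : Subgroup SS) ∧ w ∉ R := by
    refine SetLike.not_le_iff_exists.1 fun hle => ?_
    have h1 := Subgroup.card_dvd_of_le hle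
    rw [h'.card_range] at h1
    have := (hdvd (a + 1)).1 (hcP ▸ h1)
    omega
  set Q : Subgroup A := (P : Subgroup SS).comap ψ with hQ
  have hmemQ : ∀ x, x ∈ Q ↔ ψ x ∈ (P : Subgroup SS) := fun x => Iff.rfl
  have hQcard : Nat.card Q = 2 ^ a := by
    have hidx : (R.subgroupOf (P : Subgroup SS)).index = 2 := by
      refine Subgroup.index_eq_two_iff.2 ⟨⟨w, hwP⟩, fun p => ?_⟩
      simp only [Subgroup.mem_subgroupOf, Subgroup.coe_mul]
      by_cases hp : (p : SS) ∈ R
      · exact Or.inr ⟨hp, fun hpw => hwR ((Subgroup.mul_mem_cancel_left _ hp).1 hpw)⟩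
      · exact Or.inl ⟨hout2 _ _ (hg p.2) (hg hwP) hp hwR, hp⟩
    have h1 := Subgroup.card_mul_index (R.subgroupOf (P : Subgroup SS))
    rw [hidx, hcP, pow_succ] at h1
    rw [← Nat.eq_of_mul_eq_mul_right two_pos h1]
    refine Nat.card_congr (Equiv.ofBijective (fun x => ⟨⟨ψ x.1, x.2⟩, ⟨x.1, rfl⟩⟩) ⟨?_, ?_⟩)
    · intro x y e
      exact Subtype.ext (h'.inj (congrArg (fun t : R.subgroupOf (P : Subgroup SS) =>
        ((t : (P : Subgroup SS)) : SS)) e))
    · rintro ⟨⟨y, hy⟩, hyR⟩
      obtain ⟨x, hx⟩ := hyR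
      exact ⟨⟨x, show ψ x ∈ (P : Subgroup SS) by rw [hx]; exact hy⟩, Subtype.ext (Subtype.ext hx)⟩
  obtain ⟨⟨e, heQ⟩, hgen⟩ := IsCyclic.exists_generator (α := Q)
  have he : orderOf e = 2 ^ a := by
    rw [← hQcard, ← orderOf_eq_card_of_forall_mem_zpowers hgen, Subgroup.orderOf_mk]
  have hgenQ : ∀ x ∈ Q, x ∈ Subgroup.zpowers e := by
    intro x hx
    obtain ⟨k, hk⟩ := hgen ⟨x, hx⟩
    exact ⟨k, congrArg Subtype.val hk⟩
  have hee : e * e ≠ 1 := fun e1 => by
    have h1 := orderOf_dvd_of_pow_eq_one (show e ^ 2 = 1 by rw [sq, e1])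
    rw [he] at h1
    have := Nat.le_of_dvd two_pos h1
    have := Nat.pow_le_pow_right two_pos ha2
    omega
  have heP : ψ e ∈ (P : Subgroup SS) := heQ
  have hinvP : ∀ p ∈ (P : Subgroup SS), p ∉ R → ∀ x, p * ψ x * p⁻¹ = ψ x⁻¹ := fun p hp hpR =>
    (((h'.mem_normalizer_iff).1 (hg hp)).resolve_left hpR).2
  have hww : w * w = -1 := h'.sq_eq_neg_one hodd (hg hwP) hwR
  have hx0 : orderOf (ψ e) = 2 ^ a := by rw [orderOf_injective ψ h'.inj, he]
  have hhalf : ψ e ^ (2 ^ (a - 1)) = -1 := by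
    have h1 : ψ e ^ (2 ^ (a - 1)) * ψ e ^ (2 ^ (a - 1)) = 1 := by
      rw [← pow_add, ← two_mul, ← pow_succ', Nat.sub_add_cancel (by omega), ← hx0,
        pow_orderOf_eq_one]
    refine (neg_inj_sq hodd h1).resolve_left fun h2 => ?_
    have h3 := Nat.le_of_dvd (by positivity) (orderOf_dvd_of_pow_eq_one h2)
    rw [hx0] at h3
    have := Nat.pow_lt_pow_right (show 1 < 2 by norm_num) (show a - 1 < a by omega)
    omega
  refine ⟨⟨a - 1, by omega, ?_⟩, ?_, ?_⟩
  · haveI : NeZero (2 ^ (a - 1)) := ⟨by positivity⟩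
    obtain ⟨i⟩ := nonempty_quaternion_mulEquiv (P := (P : Subgroup SS)) (2 ^ (a - 1)) ⟨ψ e, heP⟩
      ⟨w, hwP⟩
      (by rw [hcP, show 4 = 2 ^ 2 from rfl, ← pow_add]; congr 1; omega)
      (by rw [Subgroup.orderOf_mk, hx0, ← pow_succ']; congr 1; omega)
      (fun ⟨k, hk⟩ => hwR ⟨e ^ k, by
        rw [map_zpow]; exact congrArg Subtype.val hk⟩)
      (Subtype.ext (by simpa using hinvP w hwP hwR e))
      (Subtype.ext (by simp [hww, hhalf]))
    exact ⟨i.symm⟩
  · refine le_antisymm (fun y hy => ?_) (Subgroup.center_le_centralizer _)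
    rw [Subgroup.mem_centralizer_iff] at hy
    obtain ⟨c, rfl⟩ := h'.cent e hee y (hy _ heP).symm
    have h2 : ψ c * ψ c = 1 := by
      have h3 := hinvP w hwP hwR c
      rw [hy w hwP, mul_inv_cancel_right, map_inv] at h3
      nth_rewrite 2 [h3]
      exact mul_inv_cancel _
    refine Subgroup.mem_center_iff.2 fun t => ?_
    rcases neg_inj_sq hodd h2 with e' | e' <;> simp [e']
  set NP : Subgroup SS := Subgroup.normalizer ((P : Subgroup SS) : Set SS) with hNP
  have hNR : ∀ y ∈ NP, y ∈ R → y ∈ (P : Subgroup SS) := by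
    rintro y hy ⟨x, rfl⟩
    have h1 := mul_mem ((Subgroup.mem_normalizer_iff.1 hy w).1 hwP) (inv_mem hwP)
    have h2 := hinvP w hwP hwR x⁻¹
    rw [inv_inv] at h2
    have h3 : x * x ∈ Q := by
      rw [hmemQ, map_mul]
      convert h1 using 1
      calc ψ x * ψ x = ψ x * (w * ψ x⁻¹ * w⁻¹) := by rw [h2]
        _ = ψ x * w * (ψ x)⁻¹ * w⁻¹ := by rw [map_inv]; group
    rw [← hmemQ, ← QuotientGroup.eq_one_iff, ← orderOf_eq_one_iff]
    have h4 : orderOf (x : A ⧸ Q) ∣ 2 := orderOf_dvd_of_pow_eq_one (by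
      rw [sq, ← QuotientGroup.mk_mul, QuotientGroup.eq_one_iff]; exact h3)
    rcases (Nat.dvd_prime Nat.prime_two).1 h4 with h5 | h5
    · exact h5
    · exfalso
      have h6 : 2 ∣ Q.index := h5 ▸ orderOf_dvd_natCard _
      have h7 := Q.card_mul_index
      rw [hQcard, h.card] at h7
      have := (hdvd (a + 1)).1 (by rw [← h7, pow_succ]; exact mul_dvd_mul_left _ h6)
      omega
  have hNN : ∀ y ∈ NP, y ∈ NT → y ∈ (P : Subgroup SS) := by
    intro y hy hyT
    by_cases hyR : y ∈ R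
    · exact hNR y hy hyR
    · exact (Subgroup.mul_mem_cancel_right _ hwP).1
        (hNR _ (mul_mem hy (Subgroup.le_normalizer hwP)) (hout2 y w hyT (hg hwP) hyR hwR))
  have hstab : ∀ y ∈ NP, y * ψ e * y⁻¹ ∈ R → y ∈ (P : Subgroup SS) := fun y hy hyR =>
    hNN y hy ((h'.mem_normalizer_iff).2 (h'.mem_or_inverts hee hyR))
  have hord4 : ∀ y ∈ (P : Subgroup SS), y ∉ R → y ^ 4 = 1 := fun y hy hyR => by
    rw [show 4 = 2 * 2 from rfl, pow_mul, sq, sq, h'.sq_eq_neg_one hodd (hg hy) hyR, neg_mul_neg,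
      one_mul]
  have h4m : 4 ∣ m ↔ 3 ≤ a := by
    rw [← hdvd, show (2 : ℕ) ^ 3 = 2 * 4 from rfl, Nat.mul_dvd_mul_iff_left two_pos]
  refine ⟨fun h4 => le_antisymm (fun y hy => ?_) Subgroup.le_normalizer, fun h4 => ?_⟩
  · refine hstab y hy (by_contra fun hn => ?_)
    have h1 := hord4 _ ((Subgroup.mem_normalizer_iff.1 hy _).1 heP) hn
    rw [conj_pow, conj_eq_one_iff] at h1
    have h2 := orderOf_dvd_of_pow_eq_one h1
    rw [hx0, show 4 = 2 ^ 2 from rfl, Nat.pow_dvd_pow_iff_le_right Nat.one_lt_two] at h2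
    have := h4m.1 h4
    omega
  have ha : a = 2 := by
    have : ¬ 3 ≤ a := fun h3 => h4 (h4m.2 h3)
    omega
  set i := ψ e with hidef
  have hii : i * i = -1 := by
    rw [ha] at hhalf
    simpa [sq] using hhalf
  have hne1 : (-1 : SS) ≠ 1 := fun e' => hee (h'.inj (by rw [map_mul, map_one, ← hidef, hii, e']))
  have hiinv : i⁻¹ = -i := inv_eq_of_mul_eq_one_right (by rw [mul_neg, hii, neg_neg])
  have hwi : w * i = -(i * w) := by
    have := hinvP w hwP hwR e
    rw [map_inv, ← hidef, hiinv, mul_inv_eq_iff_eq_mul, neg_mul] at this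
    exact this
  have hinPR : ∀ p ∈ (P : Subgroup SS), p ∈ R → p = 1 ∨ p = -1 ∨ p = i ∨ p = -i := by
    rintro p hp ⟨x, rfl⟩
    obtain ⟨n, rfl⟩ := mem_powers_iff_mem_zpowers.2 (hgenQ x hp)
    show ψ (e ^ n) = 1 ∨ _
    rw [map_pow, ← hidef, ← pow_mod_orderOf, hidef, hx0, ha, ← hidef]
    have := Nat.mod_lt n (show 2 ^ 2 > 0 by norm_num)
    interval_cases n % 2 ^ 2
    · left; exact pow_zero i
    · right; right; left; exact pow_one i
    · right; left; rw [sq, hii]
    · right; right; right; rw [pow_succ, sq, hii, neg_one_mul]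
  have hcases : ∀ p ∈ (P : Subgroup SS), p = 1 ∨ p = -1 ∨ p = i ∨ p = -i ∨ p = w ∨ p = -w ∨
      p = i * w ∨ p = -(i * w) := by
    intro p hp
    by_cases hpR : p ∈ R
    · rcases hinPR p hp hpR with e' | e' | e' | e' <;> simp [e']
    · have h1 := hinPR (p * w⁻¹) (mul_mem hp (inv_mem hwP))
        (hout2 p w⁻¹ (hg hp) (hg (inv_mem hwP)) hpR fun hh => hwR (inv_mem_iff.1 hh))
      simp only [mul_inv_eq_iff_eq_mul] at h1
      rcases h1 with e' | e' | e' | e' <;> simp [e']
  obtain ⟨x, hx1, hx2⟩ := exists_triality hodd hii hww hwi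
  have hx3 : x * (i * w) * x⁻¹ = w := by
    rw [show x * (i * w) * x⁻¹ = x * i * x⁻¹ * (x * w * x⁻¹) by group, hx1, hx2, mul_assoc, hwi,
      mul_neg, ← mul_assoc, hii, neg_one_mul, neg_neg]
  have hxN : x ∈ NP := by
    have hnegP : (-1 : SS) ∈ (P : Subgroup SS) := hii ▸ mul_mem heP heP
    have hiwP : i * w ∈ (P : Subgroup SS) := mul_mem heP hwP
    have key : ∀ p, x * p * x⁻¹ ∈ (P : Subgroup SS) → x * (-p) * x⁻¹ ∈ (P : Subgroup SS) :=
      fun p hp => by
        rw [mul_neg, neg_mul, ← neg_one_mul]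
        exact mul_mem hnegP hp
    have h1 : x * (1 : SS) * x⁻¹ ∈ (P : Subgroup SS) := by
      rw [mul_one, mul_inv_cancel]; exact one_mem _
    have hle : ∀ p ∈ (P : Subgroup SS), x * p * x⁻¹ ∈ (P : Subgroup SS) := by
      intro p hp
      rcases hcases p hp with rfl | rfl | rfl | rfl | rfl | rfl | rfl | rfl
      exacts [h1, key _ h1, hx1 ▸ hiwP, key _ (hx1 ▸ hiwP), hx2 ▸ heP, key _ (hx2 ▸ heP),
        (by rw [hx3]; exact hwP), key _ (by rw [hx3]; exact hwP)]
    refine Subgroup.mem_normalizer_iff_map_conj_eq.2 (Subgroup.eq_of_le_of_card_ge ?_ ?_)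
    · rintro _ ⟨p, hp, rfl⟩
      exact hle p hp
    · rw [Subgroup.card_map_of_injective (MulEquiv.injective _)]
  let f : NP → Set SS := fun y => {(y : SS) * i * (y : SS)⁻¹, -((y : SS) * i * (y : SS)⁻¹)}
  have hf : ∀ y z : NP, f y = f z ↔ (y : SS)⁻¹ * (z : SS) ∈ (P : Subgroup SS) := by
    intro y z
    have hsymm : f y = f z ↔ (y : SS)⁻¹ * z * i * ((y : SS)⁻¹ * z)⁻¹ = i ∨
        (y : SS)⁻¹ * z * i * ((y : SS)⁻¹ * z)⁻¹ = -i := by
      have hcj : ∀ t : SS, (z : SS) * i * (z : SS)⁻¹ = (y : SS) * t * (y : SS)⁻¹ ↔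
          (y : SS)⁻¹ * z * i * ((y : SS)⁻¹ * z)⁻¹ = t := by
        intro t
        constructor <;> intro h1
        · calc (y : SS)⁻¹ * z * i * ((y : SS)⁻¹ * z)⁻¹
              = (y : SS)⁻¹ * ((z : SS) * i * (z : SS)⁻¹) * y := by group
            _ = t := by rw [h1]; group
        · rw [← h1]; group
      rw [← hcj, ← hcj, mul_neg, neg_mul]
      simp only [f]
      rw [Set.pair_eq_pair_iff]
      constructor
      · rintro (⟨h1, -⟩ | ⟨h1, -⟩)
        · exact Or.inl h1.symm
        · exact Or.inr (by rw [h1, neg_neg])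
      · rintro (h1 | h1)
        · exact Or.inl ⟨h1.symm, by rw [h1]⟩
        · exact Or.inr ⟨by rw [h1, neg_neg], by rw [h1]⟩
    rw [hsymm]
    constructor
    · intro h1
      refine hstab _ (mul_mem (inv_mem y.2) z.2) ?_
      rcases h1 with h1 | h1 <;> rw [h1]
      · exact ⟨e, rfl⟩
      · exact ⟨e⁻¹, by rw [map_inv, ← hidef, hiinv]⟩
    · intro h1
      rcases (h'.mem_normalizer_iff).1 (hg h1) with ⟨c, hc⟩ | ⟨-, hi'⟩
      · left
        rw [← hc, hidef, ← map_inv, ← map_mul, ← map_mul, mul_inv_cancel_comm]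
      · right
        rw [hidef, hi', map_inv, ← hidef, hiinv]
  have hiR : i ∈ R := ⟨e, rfl⟩
  have hnR : ∀ {s : SS}, s ∈ R → -s ∈ R := fun {s} hs => by
    rw [← neg_one_mul, ← hii]
    exact mul_mem (mul_mem hiR hiR) hs
  have hwn : ∀ {s : SS}, s ∈ R → w ≠ s ∧ w ≠ -s := fun {s} hs =>
    ⟨fun e' => hwR (e' ▸ hs), fun e' => hwR (e' ▸ hnR hs)⟩
  have hd1 : ({i, -i} : Set SS) ≠ {w, -w} := fun e' => by
    rcases Set.pair_eq_pair_iff.1 e' with ⟨h1, -⟩ | ⟨-, h1⟩
    · exact (hwn hiR).1 h1.symm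
    · exact (hwn hiR).2 h1.symm
  have hd2 : ({i, -i} : Set SS) ≠ {i * w, -(i * w)} := fun e' => by
    rcases Set.pair_eq_pair_iff.1 e' with ⟨h1, -⟩ | ⟨h1, -⟩
    · exact (hwn (one_mem R)).1 (mul_left_cancel (h1.symm.trans (mul_one i).symm))
    · refine (hwn (one_mem R)).2 (mul_left_cancel (a := i) ?_)
      rw [mul_neg, mul_one]
      exact (neg_eq_iff_eq_neg.2 h1).symm
  have hd3 : ({w, -w} : Set SS) ≠ {i * w, -(i * w)} := fun e' => by
    rcases Set.pair_eq_pair_iff.1 e' with ⟨h1, -⟩ | ⟨h1, -⟩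
    · have : i = 1 := mul_right_cancel (h1.symm.trans (one_mul w).symm)
      exact hne1 (by rw [← hii, this, one_mul])
    · have : i = -1 := mul_right_cancel (b := w) (by rw [neg_one_mul]; exact (neg_eq_iff_eq_neg.2 h1).symm)
      exact hne1 (by rw [← hii, this, neg_mul_neg, one_mul])
  have hrange : Set.range f = {{i, -i}, {w, -w}, {i * w, -(i * w)}} := by
    refine Set.Subset.antisymm ?_ ?_
    · rintro _ ⟨y, rfl⟩
      have hyP : (y : SS) * i * (y : SS)⁻¹ ∈ (P : Subgroup SS) :=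
        (Subgroup.mem_normalizer_iff.1 y.2 _).1 heP
      have hsq : ∀ {s : SS}, (y : SS) * i * (y : SS)⁻¹ = s → s * s = -1 := fun {s} hs => by
        rw [← hs, show (y : SS) * i * (y : SS)⁻¹ * ((y : SS) * i * (y : SS)⁻¹) =
          y * (i * i) * (y : SS)⁻¹ by group, hii, mul_neg, mul_one, neg_mul, mul_inv_cancel]
      rcases hcases _ hyP with e' | e' | e' | e' | e' | e' | e' | e'
      · exact absurd ((one_mul _).symm.trans (hsq e')).symm hne1
      · exact absurd (by simpa using hsq e') hne1.symm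
      all_goals simp [f, e', Set.pair_comm]
    · rintro _ (rfl | rfl | rfl)
      · exact ⟨1, by simp [f]⟩
      · refine ⟨⟨x, hxN⟩ * ⟨x, hxN⟩, ?_⟩
        simp only [f, Subgroup.coe_mul]
        rw [show x * x * i * (x * x)⁻¹ = x * (x * i * x⁻¹) * x⁻¹ by group, hx1, hx3]
      · exact ⟨⟨x, hxN⟩, by simp only [f]; rw [hx1]⟩
  have h3 : Nat.card (Set.range f) = 3 := by
    rw [hrange, Nat.card_coe_set_eq, Set.ncard_insert_of_notMem (by simp [hd1, hd2]),
      Set.ncard_pair hd3]
  have hle : (P : Subgroup SS) ≤ NP := Subgroup.le_normalizer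
  have hidx : ((P : Subgroup SS).subgroupOf NP).index = 3 := by
    rw [← h3, Subgroup.index_eq_card]
    refine Nat.card_congr (Equiv.ofBijective (Quotient.lift (fun y => (⟨f y, y, rfl⟩ : Set.range f))
      fun y z hyz => Subtype.ext ((hf y z).2 ?_)) ⟨?_, ?_⟩)
    · exact Subgroup.mem_subgroupOf.1 (QuotientGroup.leftRel_apply.1 hyz)
    · rintro ⟨y⟩ ⟨z⟩ hyz
      exact Quotient.sound (QuotientGroup.leftRel_apply.2 (Subgroup.mem_subgroupOf.2
        ((hf y z).1 (congrArg Subtype.val hyz))))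
    · rintro ⟨_, y, rfl⟩
      exact ⟨Quotient.mk'' y, rfl⟩
  rw [← Subgroup.card_mul_index ((P : Subgroup SS).subgroupOf NP), hidx,
    Nat.card_congr (Subgroup.subgroupOfEquivOfLe hle).toEquiv, mul_comm]

theorem natCard_factorization {ℓ : ℕ} (hℓ : ℓ.Prime) (hq : ¬ ℓ ∣ Fintype.card F) :
    (Nat.card SS).factorization ℓ =
      (Fintype.card F - 1).factorization ℓ + (Fintype.card F + 1).factorization ℓ := by
  have h1 := Fintype.one_lt_card (α := F)
  rw [Fus.PSLTwo.natCard_SL_two, Nat.factorization_mul (by omega)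
      (Nat.mul_ne_zero (by omega) (by omega)), Nat.factorization_mul (by omega) (by omega),
    Finsupp.add_apply, Finsupp.add_apply, Nat.factorization_eq_zero_of_not_dvd hq, zero_add]

theorem factorization_two_mul_odd {n : ℕ} (hn : n % 2 = 1) : (2 * n).factorization 2 = 1 := by
  rw [Nat.factorization_mul two_ne_zero (by omega), Finsupp.add_apply,
    Nat.Prime.factorization_self Nat.prime_two, Nat.factorization_eq_zero_of_not_dvd (by omega)]

/-- the Sylow 2-subgroups of `SL(2, q)`, `q` odd -/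
theorem two_sylow_SL (hodd : Odd (Fintype.card F)) (P : Sylow 2 SS) :
    (∃ k : ℕ, 1 ≤ k ∧ Nonempty ((P : Subgroup SS) ≃* QuaternionGroup (2 ^ k))) ∧
    Subgroup.centralizer ((P : Subgroup SS) : Set SS) = Subgroup.center SS ∧
    ((Fintype.card F % 8 = 1 ∨ Fintype.card F % 8 = 7) →
      Subgroup.normalizer ((P : Subgroup SS) : Set SS) = (P : Subgroup SS)) ∧
    ((Fintype.card F % 8 = 3 ∨ Fintype.card F % 8 = 5) →
      Nat.card (Subgroup.normalizer ((P : Subgroup SS) : Set SS)) = 3 * Nat.card P) := by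
  have h1 := Nat.odd_iff.1 hodd
  have h2 := Fintype.one_lt_card (α := F)
  have hv := natCard_factorization (F := F) Nat.prime_two (show ¬ 2 ∣ Fintype.card F by omega)
  rcases (show Fintype.card F % 4 = 1 ∨ Fintype.card F % 4 = 3 by omega) with h4 | h4
  · obtain ⟨hA, hB, hC, hD⟩ := two_sylow (isTorus_diS hodd (by omega)) hodd (by omega) (by
      rw [hv, show 2 * ((Fintype.card F - 1) / 2) = Fintype.card F - 1 by omega,
        show Fintype.card F + 1 = 2 * ((Fintype.card F + 1) / 2) by omega,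
        factorization_two_mul_odd (by omega)]) P
    exact ⟨hA, hB, fun h8 => hC (by omega), fun h8 => hD (by omega)⟩
  · obtain ⟨K, _, _, _, _, hK⟩ := exists_model F
    obtain ⟨hA, hB, hC, hD⟩ := two_sylow (isTorus_ellS K hK hodd) hodd (by omega) (by
      rw [hv, show 2 * ((Fintype.card F + 1) / 2) = Fintype.card F + 1 by omega,
        show Fintype.card F - 1 = 2 * ((Fintype.card F - 1) / 2) by omega,
        factorization_two_mul_odd (by omega), add_comm]) P
    exact ⟨hA, hB, fun h8 => hC (by omega), fun h8 => hD (by omega)⟩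

theorem odd_sylow_SL (hodd : Odd (Fintype.card F)) {ℓ : ℕ} [Fact ℓ.Prime] (hℓ : ℓ ≠ 2)
    (P : Sylow ℓ SS) :
    (ℓ ∣ Fintype.card F - 1 →
      Nat.card (Subgroup.centralizer ((P : Subgroup SS) : Set SS)) = Fintype.card F - 1 ∧
      IsCyclic (Subgroup.centralizer ((P : Subgroup SS) : Set SS)) ∧
      Nat.card (Subgroup.normalizer ((P : Subgroup SS) : Set SS)) = 2 * (Fintype.card F - 1)) ∧
    (ℓ ∣ Fintype.card F + 1 →
      Nat.card (Subgroup.centralizer ((P : Subgroup SS) : Set SS)) = Fintype.card F + 1 ∧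
      IsCyclic (Subgroup.centralizer ((P : Subgroup SS) : Set SS)) ∧
      Nat.card (Subgroup.normalizer ((P : Subgroup SS) : Set SS)) = 2 * (Fintype.card F + 1)) := by
  have h1 := Nat.odd_iff.1 hodd
  have h2 := Fintype.one_lt_card (α := F)
  have hℓp : ℓ.Prime := Fact.out
  have hℓ3 : 3 ≤ ℓ := by have := hℓp.two_le; omega
  constructor <;> intro hd
  · have hnp : ¬ ℓ ∣ Fintype.card F + 1 := fun hh => by
      have := Nat.le_of_dvd two_pos (show ℓ ∣ 2 by
        have := Nat.dvd_sub hh hd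
        rwa [show Fintype.card F + 1 - (Fintype.card F - 1) = 2 by omega] at this)
      omega
    have hnq : ¬ ℓ ∣ Fintype.card F := fun hh => by
      have := Nat.le_of_dvd one_pos (show ℓ ∣ 1 by
        have := Nat.dvd_sub hh hd
        rwa [show Fintype.card F - (Fintype.card F - 1) = 1 by omega] at this)
      omega
    have h5 : 5 ≤ Fintype.card F := by
      by_contra hh
      have := Nat.le_of_dvd (by omega) hd
      have hF3 : Fintype.card F = 3 := by omega
      rw [hF3] at hd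
      have := Nat.le_of_dvd (by norm_num) hd
      omega
    have := odd_sylow (isTorus_diS hodd h5) hℓ
      (by rw [show 2 * ((Fintype.card F - 1) / 2) = Fintype.card F - 1 by omega]; exact hd)
      (by rw [natCard_factorization hℓp hnq, Nat.factorization_eq_zero_of_not_dvd hnp, add_zero,
        show 2 * ((Fintype.card F - 1) / 2) = Fintype.card F - 1 by omega]) P
    rwa [show 2 * ((Fintype.card F - 1) / 2) = Fintype.card F - 1 by omega] at this
  · have hnp : ¬ ℓ ∣ Fintype.card F - 1 := fun hh => by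
      have := Nat.le_of_dvd two_pos (show ℓ ∣ 2 by
        have := Nat.dvd_sub hd hh
        rwa [show Fintype.card F + 1 - (Fintype.card F - 1) = 2 by omega] at this)
      omega
    have hnq : ¬ ℓ ∣ Fintype.card F := fun hh => by
      have := Nat.le_of_dvd one_pos (show ℓ ∣ 1 by
        have := Nat.dvd_sub hd hh
        rwa [show Fintype.card F + 1 - Fintype.card F = 1 by omega] at this)
      omega
    obtain ⟨K, _, _, _, _, hK⟩ := exists_model F
    have := odd_sylow (isTorus_ellS K hK hodd) hℓ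
      (by rw [show 2 * ((Fintype.card F + 1) / 2) = Fintype.card F + 1 by omega]; exact hd)
      (by rw [natCard_factorization hℓp hnq, Nat.factorization_eq_zero_of_not_dvd hnp, zero_add,
        show 2 * ((Fintype.card F + 1) / 2) = Fintype.card F + 1 by omega]) P
    rwa [show 2 * ((Fintype.card F + 1) / 2) = Fintype.card F + 1 by omega] at this

/-- Sylow subgroups of `SL(2, q)` for odd primes other than the characteristic are cyclic. -/
theorem isCyclic_sylow_SL {r : ℕ} [Fact r.Prime] (hr : r ≠ 2) (hrq : ¬ r ∣ Fintype.card F)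
    (R : Sylow r SS) : IsCyclic (R : Subgroup SS) := by
  have hrp : r.Prime := Fact.out
  have h2 := Fintype.one_lt_card (α := F)
  have hv := natCard_factorization (F := F) hrp hrq
  by_cases hd : r ∣ Fintype.card F + 1
  · have hnp : ¬ r ∣ Fintype.card F - 1 := fun hh => by
      have := Nat.le_of_dvd two_pos (show r ∣ 2 by
        have := Nat.dvd_sub hd hh
        rwa [show Fintype.card F + 1 - (Fintype.card F - 1) = 2 by omega] at this)
      have := hrp.two_le
      omega
    obtain ⟨K, _, _, _, _, hK⟩ := exists_model F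
    refine isCyclic_sylow_of_hom (ellS K hK) (ellS_injective K hK) ?_ R
    rw [hv, Nat.card_eq_fintype_card, card_U1 K hK, Nat.factorization_eq_zero_of_not_dvd hnp,
      zero_add]
  · refine isCyclic_sylow_of_hom (diS (F := F)) diS_injective ?_ R
    rw [hv, Nat.factorization_eq_zero_of_not_dvd hd, add_zero, Nat.card_units,
      Nat.card_eq_fintype_card]

end Cfsg.Agent.Classical.SLTwoSylow
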