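import Mathlib
import Cfsg.Agent.Lib.Invol.Dihedral
import Cfsg.Agent.Lib.Fus.SmallSimple

/-!
Recognition of dihedral groups, `A₄`, `S₄` and `A₅` from a cyclic subgroup and its normaliser,
as needed for the subgroups of `PSL(2, q)`.
-/

set_option autoImplicit false

namespace Cfsg.Agent.Dickson

open scoped Pointwise

universe u

variable {X : Type u} [Group X]

/-- A cyclic subgroup of index two inverted by an involution outside gives a dihedral group. -/
theorem nonempty_dihedral (A : Subgroup X) [Finite X] [IsCyclic A] (hidx : A.index = 2)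
    {w : X} (hw : w ∉ A) (hw2 : w * w = 1) (hinv : ∀ a ∈ A, w * a * w⁻¹ = a⁻¹) :
    Nonempty (X ≃* DihedralGroup (Nat.card A)) := by
  obtain ⟨a, ha⟩ := IsCyclic.exists_generator (α := A)
  have hn : orderOf (a : X) = Nat.card A := by
    rw [Subgroup.orderOf_coe]; exact orderOf_eq_card_of_forall_mem_zpowers ha
  haveI : NeZero (Nat.card A) := ⟨Nat.card_pos.ne'⟩
  set f := Invol.dihedralHom (a : X) w (hn ▸ pow_orderOf_eq_one _) hw2 (hinv a a.2) with hf
  have hsurj : Function.Surjective f := by
    rw [← MonoidHom.range_eq_top, eq_top_iff]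
    have hA : A ≤ f.range := by
      intro x hx
      obtain ⟨k, hk⟩ := Subgroup.mem_zpowers_iff.mp (ha ⟨x, hx⟩)
      exact ⟨DihedralGroup.r k, by rw [hf, Invol.dihedralHom_r]; exact congrArg Subtype.val hk⟩
    intro x _
    by_cases hx : x ∈ A
    · exact hA hx
    · have hwr : w ∈ f.range := ⟨DihedralGroup.sr (0 : ℤ), by
        rw [hf, Invol.dihedralHom_sr]; simp⟩
      have := (Subgroup.mul_mem_iff_of_index_two hidx (a := x) (b := w)).mpr
        (iff_of_false hx hw)
      simpa using f.range.mul_mem (hA this) (f.range.inv_mem hwr)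
  have hcard : Nat.card (DihedralGroup (Nat.card A)) = Nat.card X := by
    rw [DihedralGroup.nat_card, ← Subgroup.card_mul_index A, hidx, mul_comm]
  exact ⟨(MulEquiv.ofBijective f (hsurj.bijective_of_nat_card_le hcard.le)).symm⟩

/-- A group of order twelve with a self-normalising subgroup of order three is `A₄`. -/
theorem nonempty_alternating_four [Finite X] (hX : Nat.card X = 12) (P : Subgroup X)
    (hP : Nat.card P = 3) (hN : Subgroup.normalizer (P : Set X) = P) :
    Nonempty (X ≃* alternatingGroup (Fin 4)) := by
  classical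
  haveI : Fintype (X ⧸ P) := Fintype.ofFinite _
  have hidx : Nat.card (X ⧸ P) = 4 := by
    have := Subgroup.card_mul_index P
    rw [hP, hX] at this
    rw [← Subgroup.index_eq_card]; omega
  set f := MulAction.toPermHom X (X ⧸ P) with hf
  have hker : f.ker = ⊥ := by
    have h1 : f.ker ≤ P := P.normalCore_eq_ker ▸ P.normalCore_le
    refine (Subgroup.eq_bot_or_eq_top_of_prime_card (f.ker.subgroupOf P)
      (hp := ⟨by rw [hP]; exact Nat.prime_three⟩)).elim (fun h => ?_) (fun h => ?_)
    · exact le_bot_iff.mp fun x hx => by
        have : (⟨x, h1 hx⟩ : P) ∈ f.ker.subgroupOf P := hx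
        rw [h] at this
        simpa using congrArg Subtype.val (Subgroup.mem_bot.mp this)
    · have hPk : P = f.ker := le_antisymm (Subgroup.subgroupOf_eq_top.mp h) h1
      have hnorm : P.Normal := hPk ▸ inferInstance
      rw [Subgroup.normalizer_eq_top_iff.mpr hnorm] at hN
      rw [← hN, Subgroup.card_top, hX] at hP
      omega
  have hinj : Function.Injective f := (MonoidHom.ker_eq_bot_iff f).mp hker
  have hrange : f.range = alternatingGroup (X ⧸ P) := by
    refine Equiv.Perm.eq_alternatingGroup_of_index_eq_two ?_
    have h1 := Subgroup.card_mul_index f.range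
    rw [← Nat.card_congr (MonoidHom.ofInjective hinj).toEquiv, hX, Nat.card_perm, hidx] at h1
    simp [Nat.factorial] at h1
    omega
  exact ⟨(MonoidHom.ofInjective hinj).trans ((MulEquiv.subgroupCongr hrange).trans
    (Equiv.altCongrHom (Fintype.equivFinOfCardEq (by rw [← Nat.card_eq_fintype_card, hidx]))))⟩

/-- A group of order twenty-four with a self-centralising subgroup of order three whose normaliser
has order six is `S₄`. -/
theorem nonempty_perm_four [Finite X] (hX : Nat.card X = 24) (P : Subgroup X) (hP : Nat.card P = 3)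
    (hN : Nat.card (Subgroup.normalizer (P : Set X)) = 6)
    (hC : Subgroup.centralizer (P : Set X) ≤ P) :
    Nonempty (X ≃* Equiv.Perm (Fin 4)) := by
  classical
  set N := Subgroup.normalizer (P : Set X) with hNdef
  haveI : Fintype (X ⧸ N) := Fintype.ofFinite _
  have hidx : Nat.card (X ⧸ N) = 4 := by
    have := Subgroup.card_mul_index N
    rw [hN, hX] at this
    rw [← Subgroup.index_eq_card]; omega
  set f := MulAction.toPermHom X (X ⧸ N) with hf
  have hKN : f.ker ≤ N := N.normalCore_eq_ker ▸ N.normalCore_le
  haveI : Fact (Nat.Prime 3) := ⟨Nat.prime_three⟩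
  have hPnn : ¬ P.Normal := fun h => by
    have h1 : N = ⊤ := Subgroup.normalizer_eq_top_iff.mpr h
    rw [h1, Subgroup.card_top, hX] at hN
    omega
  -- the kernel contains no element of order three
  have h3 : ¬ (3 ∣ Nat.card f.ker) := fun h => by
    obtain ⟨x, hx⟩ := exists_prime_orderOf_dvd_card' 3 h
    have hxN : (x : X) ∈ N := hKN x.2
    -- all elements of order three of the normaliser lie in `P`
    have hmemP : ∀ y : X, y ∈ N → orderOf y = 3 → y ∈ P := by
      intro y hy hyo
      have hPN : (P.subgroupOf N).index = 2 := by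
        have := Subgroup.card_mul_index (P.subgroupOf N)
        rw [Nat.card_congr (Subgroup.subgroupOfEquivOfLe (Subgroup.le_normalizer : P ≤ N)).toEquiv, hP, hN] at this
        omega
      have hsq := Subgroup.sq_mem_of_index_two hPN ⟨y, hy⟩
      have hy4 : y ^ 2 * y ^ 2 = y := by
        rw [← pow_add, show 2 + 2 = 3 + 1 from rfl, pow_add, ← hyo, pow_orderOf_eq_one, one_mul, pow_one]
      rw [← hy4]
      exact P.mul_mem hsq hsq
    have hxo : orderOf (x : X) = 3 := by rw [Subgroup.orderOf_coe]; exact hx
    have hzP : Subgroup.zpowers (x : X) = P :=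
      Subgroup.eq_of_le_of_card_ge (Subgroup.zpowers_le.mpr (hmemP _ hxN hxo))
        (by rw [hP, Nat.card_zpowers, hxo])
    refine hPnn ⟨fun a ha g => ?_⟩
    have haK : a ∈ f.ker := by
      rw [← hzP] at ha
      exact (Subgroup.zpowers_le.mpr x.2) ha
    by_cases ha1 : a = 1
    · simp [ha1]
    have hao : orderOf a = 3 := (Nat.prime_three.eq_one_or_self_of_dvd _
      (hP ▸ P.orderOf_dvd_natCard ha)).resolve_left (fun e => ha1 (orderOf_eq_one_iff.mp e))
    have hc : orderOf (g * a * g⁻¹) = 3 := by
      rw [← hao]; exact orderOf_injective (MulAut.conj g).toMonoidHom (MulAut.conj g).injective a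
    exact hmemP _ (hKN ((inferInstance : f.ker.Normal).conj_mem a haK g)) hc
  have hker : f.ker = ⊥ := by
    have hd : Nat.card f.ker ∣ 6 := hN ▸ Subgroup.card_dvd_of_le hKN
    have hd2 : Nat.card f.ker = 1 ∨ Nat.card f.ker = 2 := by
      have := Nat.le_of_dvd (by norm_num) hd
      interval_cases hk : Nat.card f.ker <;> simp_all
    rcases hd2 with h | h
    · exact Subgroup.eq_bot_of_card_eq _ h
    · exfalso
      obtain ⟨x, hx1, hxuniq⟩ := (Nat.card_eq_two_iff' (1 : f.ker)).mp h
      have hxC : (x : X) ∈ Subgroup.centralizer (P : Set X) := by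
        intro g _
        have e : (⟨g * x * g⁻¹, (inferInstance : f.ker.Normal).conj_mem _ x.2 g⟩ : f.ker) = x := by
          refine hxuniq _ fun e => hx1 (Subtype.ext ?_)
          have e' : g * (x : X) * g⁻¹ = 1 := congrArg Subtype.val e
          rw [Subgroup.coe_one, ← conj_eq_one_iff]
          exact e'
        exact (mul_inv_eq_iff_eq_mul.mp (congrArg Subtype.val e))
      have h2 : orderOf (x : X) ∣ 3 := hP ▸ P.orderOf_dvd_natCard (hC hxC)
      rw [Subgroup.orderOf_coe] at h2
      have h2' : orderOf x = 2 := by
        have hd : orderOf x ∣ 2 := h ▸ orderOf_dvd_natCard x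
        exact (Nat.prime_two.eq_one_or_self_of_dvd _ hd).resolve_left
          (fun e => hx1 (orderOf_eq_one_iff.mp e))
      rw [h2'] at h2
      norm_num at h2
  have hinj : Function.Injective f := (MonoidHom.ker_eq_bot_iff f).mp hker
  have hbij := hinj.bijective_of_nat_card_le
    (by rw [Nat.card_perm, hidx, hX]; simp [Nat.factorial])
  exact ⟨(MulEquiv.ofBijective f hbij).trans
    (Equiv.permCongrHom (Fintype.equivFinOfCardEq (by rw [← Nat.card_eq_fintype_card, hidx])))⟩

theorem dvd_sixty_cases (m : ℕ) (hm : m < 61) (hd : m ∣ 60) :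
    (3 ∣ m → 5 ∣ m → 25 ≤ m → m = 30 ∨ m = 60) ∧
    (¬ 3 ∣ m → m ≤ 20) ∧ (¬ 5 ∣ m → m ≤ 20) ∧ (¬ 5 ∣ m → ¬ 3 ∣ m → m ∣ 4) := by
  have h : m ∈ Nat.divisors 60 := Nat.mem_divisors.mpr ⟨hd, by norm_num⟩
  rw [show Nat.divisors 60 = {1, 2, 3, 4, 5, 6, 10, 12, 15, 20, 30, 60} by decide] at h
  simp only [Finset.mem_insert, Finset.mem_singleton] at h
  rcases h with rfl | rfl | rfl | rfl | rfl | rfl | rfl | rfl | rfl | rfl | rfl | rfl <;> norm_num

/-- A group of order sixty with self-centralising subgroups of orders three and five, each of index two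
in its normaliser, is `A₅`. -/
theorem nonempty_alternating_five [Finite X] (hX : Nat.card X = 60) (P R : Subgroup X)
    (hP : Nat.card P = 3) (hR : Nat.card R = 5)
    (hNP : Nat.card (Subgroup.normalizer (P : Set X)) = 6)
    (hNR : Nat.card (Subgroup.normalizer (R : Set X)) = 10)
    (hCR : Subgroup.centralizer (R : Set X) ≤ R) :
    Nonempty (X ≃* alternatingGroup (Fin 5)) := by
  classical
  -- the number of conjugates and of their non-trivial elements
  have key : ∀ (r : ℕ) (Q : Subgroup X), r.Prime → Nat.card Q = r →
      (60 / r) % r ≠ 0 → ∀ M : Subgroup X, M.Normal → r ∣ Nat.card M →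
      Nat.card {x : X // orderOf x = r} + 1 ≤ Nat.card M ∧
      Nat.card {x : X // orderOf x = r} =
        (Subgroup.normalizer (Q : Set X)).index * (r - 1) := by
    intro r Q hr hQ hndvd M hM hrM
    haveI : Fact r.Prime := ⟨hr⟩
    have hfac : (Nat.card X).factorization r = 1 := by
      rw [hX]
      have hd : r ∣ 60 := hX ▸ hQ ▸ Subgroup.card_subgroup_dvd_card Q
      have e : (60 : ℕ) = r * (60 / r) := (Nat.mul_div_cancel' hd).symm
      have h0 : 60 / r ≠ 0 := fun h => by rw [h] at e; simp at e
      rw [e, Nat.factorization_mul hr.ne_zero h0, Finsupp.add_apply, hr.factorization_self,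
        Nat.factorization_eq_zero_of_not_dvd]
      exact fun h => hndvd (Nat.mod_eq_zero_of_dvd h)
    let S : Sylow r X := Sylow.ofCard Q (by rw [hQ, hfac, pow_one])
    have hSQ : (S : Subgroup X) = Q := rfl
    have hcardS : Nat.card (Sylow r X) = (Subgroup.normalizer (Q : Set X)).index :=
      hSQ ▸ S.card_eq_index_normalizer
    -- every element of order `r` generates a Sylow subgroup
    have hSy : ∀ T : Sylow r X, Nat.card (T : Subgroup X) = r := fun T => by
      rw [T.card_eq_multiplicity, hfac, pow_one]
    let e : {x : X // orderOf x = r} ≃ Σ T : Sylow r X, {x : (T : Subgroup X) // x ≠ 1} :=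
      { toFun := fun x => ⟨Sylow.ofCard (Subgroup.zpowers x.1) (by rw [Nat.card_zpowers, x.2, hfac, pow_one]),
          ⟨⟨x.1, Subgroup.mem_zpowers _⟩, fun h => hr.ne_one (by
            have h' : x.1 = 1 := congrArg Subtype.val h
            rw [← x.2, h', orderOf_one])⟩⟩
        invFun := fun T => ⟨T.2.1.1, by
          have h1 := (T.1 : Subgroup X).orderOf_dvd_natCard T.2.1.2
          rw [hSy] at h1
          exact (hr.eq_one_or_self_of_dvd _ h1).resolve_left fun e =>
            T.2.2 (Subtype.ext (orderOf_eq_one_iff.mp e))⟩
        left_inv := fun x => rfl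
        right_inv := fun ⟨T, ⟨⟨x, hx⟩, hx1⟩⟩ => by
          have hxo : orderOf x = r := by
            have h1 := (T : Subgroup X).orderOf_dvd_natCard hx
            rw [hSy] at h1
            exact (hr.eq_one_or_self_of_dvd _ h1).resolve_left fun e =>
              hx1 (Subtype.ext (orderOf_eq_one_iff.mp e))
          have hT : Subgroup.zpowers x = (T : Subgroup X) :=
            Subgroup.eq_of_le_of_card_ge (Subgroup.zpowers_le.mpr hx)
              (by rw [hSy, Nat.card_zpowers, hxo])
          obtain rfl : Sylow.ofCard (Subgroup.zpowers x) (by rw [Nat.card_zpowers, hxo, hfac, pow_one]) = T :=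
            Sylow.ext hT
          rfl }
    have hcount : Nat.card {x : X // orderOf x = r} =
        (Subgroup.normalizer (Q : Set X)).index * (r - 1) := by
      haveI : Fintype (Sylow r X) := Fintype.ofFinite _
      rw [Nat.card_congr e, Nat.card_sigma, ← hcardS, Nat.card_eq_fintype_card (α := Sylow r X)]
      rw [Finset.sum_eq_card_nsmul (s := Finset.univ) (b := r - 1), Finset.card_univ, smul_eq_mul]
      intro T _
      haveI : Fintype (T : Subgroup X) := Fintype.ofFinite _
      have h1 := hSy T
      rw [Nat.card_eq_fintype_card] at h1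
      rw [Nat.card_eq_fintype_card, Fintype.card_subtype_compl, Fintype.card_subtype_eq, h1]
    refine ⟨?_, hcount⟩
    -- they all lie in `M`
    have hall : ∀ x : X, orderOf x = r → x ∈ M := by
      intro x hx
      obtain ⟨y, hy⟩ := exists_prime_orderOf_dvd_card' r hrM
      have hy' : orderOf (y : X) = r := by rw [Subgroup.orderOf_coe]; exact hy
      let T₁ : Sylow r X := Sylow.ofCard (Subgroup.zpowers x) (by rw [Nat.card_zpowers, hx, hfac, pow_one])
      let T₂ : Sylow r X := Sylow.ofCard (Subgroup.zpowers (y : X))
        (by rw [Nat.card_zpowers, hy', hfac, pow_one])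
      obtain ⟨g, hg⟩ := MulAction.exists_smul_eq X T₂ T₁
      have hx' : x ∈ (g • T₂ : Sylow r X) := by rw [hg]; exact Subgroup.mem_zpowers x
      change x ∈ MulAut.conj g • Subgroup.zpowers (y : X) at hx'
      rw [Subgroup.mem_smul_pointwise_iff_exists] at hx'
      obtain ⟨w, hw, rfl⟩ := hx'
      exact hM.conj_mem w ((Subgroup.zpowers_le.mpr y.2) hw) g
    let φ : Option {x : X // orderOf x = r} → M := fun o => o.elim 1 fun x => ⟨x.1, hall x.1 x.2⟩
    have hφ : Function.Injective φ := by
      rintro (_ | ⟨x, hx⟩) (_ | ⟨y, hy⟩) h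
      · rfl
      · exfalso
        have h' : (1 : X) = y := congrArg Subtype.val h
        rw [← h', orderOf_one] at hy
        exact hr.ne_one hy.symm
      · exfalso
        have h' : x = (1 : X) := congrArg Subtype.val h
        rw [h', orderOf_one] at hx
        exact hr.ne_one hx.symm
      · have h' : x = y := congrArg Subtype.val h
        subst h'
        rfl
    have := Nat.card_le_card_of_injective φ hφ
    rwa [Finite.card_option] at this
  have hiP : (Subgroup.normalizer (P : Set X)).index = 10 := by
    have := Subgroup.card_mul_index (Subgroup.normalizer (P : Set X))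
    rw [hNP, hX] at this; omega
  have hiR : (Subgroup.normalizer (R : Set X)).index = 6 := by
    have := Subgroup.card_mul_index (Subgroup.normalizer (R : Set X))
    rw [hNR, hX] at this; omega
  haveI : Nontrivial X := Finite.one_lt_card_iff_nontrivial.mp (by rw [hX]; norm_num)
  haveI : IsSimpleGroup X := by
    refine ⟨fun M hM => ?_⟩
    have hd : Nat.card M ∣ 60 := hX ▸ Subgroup.card_subgroup_dvd_card M
    have hle := Nat.le_of_dvd (by norm_num) hd
    by_cases h5 : 5 ∣ Nat.card M
    · obtain ⟨h1, h2⟩ := key 5 R (by norm_num) hR (by norm_num) M hM h5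
      rw [hiR] at h2
      by_cases h3 : 3 ∣ Nat.card M
      · obtain ⟨h1', h2'⟩ := key 3 P Nat.prime_three hP (by norm_num) M hM h3
        rw [hiP] at h2'
        -- the two kinds of elements are distinct
        let ψ : {x : X // orderOf x = 5} ⊕ {x : X // orderOf x = 3} → {x : X // orderOf x = 5 ∨ orderOf x = 3} :=
          Sum.elim (fun x => ⟨x.1, Or.inl x.2⟩) (fun x => ⟨x.1, Or.inr x.2⟩)
        have h30 : Nat.card M = 30 ∨ Nat.card M = 60 := by
          exact (dvd_sixty_cases _ (by omega) hd).1 h3 h5 (by omega)
        rcases h30 with h30 | h30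
        · exfalso
          -- forty-four elements of order three or five cannot lie in a group of order thirty
          have hsub : ∀ x : X, orderOf x = 5 ∨ orderOf x = 3 → x ∈ M := by
            intro x hx
            have hidx2 : M.index = 2 := by
              have := Subgroup.card_mul_index M
              rw [h30, hX] at this; omega
            have hsq := Subgroup.sq_mem_of_index_two hidx2 x
            rcases hx with hx | hx
            · have e : x = x ^ 2 * x ^ 2 * x ^ 2 := by
                rw [← pow_add, ← pow_add, show 2 + 2 + 2 = 5 + 1 from rfl, pow_succ, ← hx,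
                  pow_orderOf_eq_one, one_mul]
              rw [e]; exact M.mul_mem (M.mul_mem hsq hsq) hsq
            · have e : x = x ^ 2 * x ^ 2 := by
                rw [← pow_add, show 2 + 2 = 3 + 1 from rfl, pow_succ, ← hx,
                  pow_orderOf_eq_one, one_mul]
              rw [e]; exact M.mul_mem hsq hsq
          have hinj : Function.Injective (fun z => (⟨(ψ z).1, hsub _ (ψ z).2⟩ : M)) := by
            rintro (⟨x, hx⟩ | ⟨x, hx⟩) (⟨y, hy⟩ | ⟨y, hy⟩) h <;>
              have h' : x = y := congrArg Subtype.val h <;> subst h'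
            · rfl
            · rw [hx] at hy; norm_num at hy
            · rw [hx] at hy; norm_num at hy
            · rfl
          have := Nat.card_le_card_of_injective _ hinj
          rw [Nat.card_sum, h30] at this
          omega
        · exact Or.inr (Subgroup.eq_top_of_card_eq M (by rw [h30, hX]))
      · exfalso
        have := (dvd_sixty_cases _ (by omega) hd).2.1 h3
        omega
    · by_cases h3 : 3 ∣ Nat.card M
      · exfalso
        obtain ⟨h1', h2'⟩ := key 3 P Nat.prime_three hP (by norm_num) M hM h3
        rw [hiP] at h2'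
        have := (dvd_sixty_cases _ (by omega) hd).2.2.1 h5
        omega
      · refine Or.inl (Subgroup.eq_bot_of_card_eq M ?_)
        by_contra hne
        have hM4 := (dvd_sixty_cases _ (by omega) hd).2.2.2 h5 h3
        -- an element of order five centralises the non-trivial elements
        haveI : Fact (Nat.Prime 5) := ⟨by norm_num⟩
        have hRp : IsPGroup 5 R := IsPGroup.of_card (n := 1) (by rw [hR, pow_one])
        haveI := hM
        letI : MulAction R M := MulAction.compHom M
          ((MulAut.conjNormal : X →* MulAut M).comp R.subtype)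
        have hmod := hRp.card_modEq_card_fixedPoints (α := M)
        have hfix : Nat.card (MulAction.fixedPoints R M) = Nat.card M := by
          have h1 : Nat.card (MulAction.fixedPoints R M) ≤ Nat.card M :=
            Nat.card_le_card_of_injective _ Subtype.val_injective
          have h4 := Nat.le_of_dvd (by norm_num) hM4
          unfold Nat.ModEq at hmod
          omega
        have hcen : ∀ m : M, (m : X) ∈ R := by
          intro m
          refine hCR fun r hr => ?_
          have hall : m ∈ MulAction.fixedPoints R M := by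
            have hs : Function.Surjective (Subtype.val : MulAction.fixedPoints R M → M) :=
              (Subtype.val_injective.bijective_of_nat_card_le hfix.ge).2
            obtain ⟨w, hw⟩ := hs m
            exact hw ▸ w.2
          have h1 : r * (m : X) * r⁻¹ = m := congrArg Subtype.val (hall ⟨r, hr⟩)
          exact mul_inv_eq_iff_eq_mul.mp h1
        have hMR : Nat.card M ∣ 5 := hR ▸ Subgroup.card_dvd_of_le (fun x hx => hcen ⟨x, hx⟩)
        have := Nat.dvd_gcd hM4 hMR
        exact hne (Nat.dvd_one.mp (by simpa using this))
  exact Fus.alternating_five_of_card hX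

end Cfsg.Agent.Dickson
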