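import Cfsg.Agent.Lib.Classical.DicksonClasses
import Cfsg.Agent.Lib.Classical.DicksonSmall

/-!
The abstract form of Dickson's classification: groups with the partition of `DicksonData`.
-/

set_option autoImplicit false

namespace Cfsg.Agent.Dickson

open scoped Pointwise

universe u

namespace Data

variable {X : Type u} [Group X] [Finite X] {p : ℕ} (D : Data X p)

/-- The possible structures. -/
def Kind : Prop :=
  Nat.card X = 1 ∨
  (∃ a : X, a ≠ 1 ∧ a ^ p ≠ 1 ∧ D.T a = ⊤) ∨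
  (∃ a : X, a ≠ 1 ∧ a ^ p ≠ 1 ∧ (D.T a).index = 2 ∧ Subgroup.normalizer (D.T a : Set X) = ⊤ ∧
    Nonempty (X ≃* DihedralGroup (Nat.card (D.T a)))) ∨
  (∃ a : X, a ≠ 1 ∧ a ^ p = 1 ∧ Subgroup.normalizer (D.T a : Set X) = ⊤) ∨
  (Nat.card X = 12 ∧ Nonempty (X ≃* alternatingGroup (Fin 4)) ∧ (¬ p ∣ Nat.card X ∨ p = 3)) ∨
  (Nat.card X = 24 ∧ Nonempty (X ≃* Equiv.Perm (Fin 4)) ∧ ¬ p ∣ Nat.card X) ∨
  (Nat.card X = 60 ∧ Nonempty (X ≃* alternatingGroup (Fin 5)) ∧ (¬ p ∣ Nat.card X ∨ p = 3)) ∨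
  (∃ (a : X) (t : ℕ), a ≠ 1 ∧ a ^ p = 1 ∧ 3 ≤ Nat.card (D.T a) ∧ 2 ≤ t ∧
    (t = Nat.card (D.T a) - 1 ∨ 2 * t = Nat.card (D.T a) - 1) ∧
    Nat.card (Subgroup.normalizer (D.T a : Set X)) = Nat.card (D.T a) * t ∧
    Nat.card X = Nat.card (D.T a) * t * (Nat.card (D.T a) + 1))

/-- Data extracted from an entry of the class list. -/
theorem entry_facts {a : X} (ha : a ≠ 1) (hap : a ^ p ≠ 1) {d s : ℕ}
    (hd : (entry (D.T a)).2.1 = d) (hs : (entry (D.T a)).2.2 = s) :
    Nat.card (D.T a) = d ∧ Nat.card (Subgroup.normalizer (D.T a : Set X)) = s * d := by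
  refine ⟨hd, ?_⟩
  subst hd hs
  exact (Nat.div_mul_cancel (Subgroup.card_dvd_of_le Subgroup.le_normalizer)).symm

theorem centralizer_T_le {a : X} (ha : a ≠ 1) (hap : a ^ p ≠ 1) (hd : 3 ≤ Nat.card (D.T a)) :
    Subgroup.centralizer (D.T a : Set X) ≤ D.T a := by
  haveI := D.semi_cyclic ha hap
  obtain ⟨b, hb⟩ := IsCyclic.exists_generator (α := D.T a)
  have hbo : orderOf (b : X) = Nat.card (D.T a) := by
    rw [Subgroup.orderOf_coe]; exact orderOf_eq_card_of_forall_mem_zpowers hb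
  have hb1 : (b : X) ≠ 1 := fun e => by rw [e, orderOf_one] at hbo; omega
  have hb2 : (b : X) * b ≠ 1 := fun e => by
    have := Nat.le_of_dvd (by norm_num) (orderOf_dvd_of_pow_eq_one ((pow_two (b : X)).trans e))
    omega
  intro g hg
  have := D.mem_of_commute hb1 (D.semi_of_ne ha hap b.2 hb1) hb2 (hg (b : X) b.2).symm
  rwa [D.same ha b.2 hb1] at this

theorem kind_of_full {a : X} (ha : a ≠ 1) (hap : a ^ p ≠ 1)
    (h : Nat.card (D.T a) = Nat.card X) : D.Kind :=
  Or.inr (Or.inl ⟨a, ha, hap, Subgroup.eq_top_of_card_eq _ h⟩)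

theorem kind_of_half {a : X} (ha : a ≠ 1) (hap : a ^ p ≠ 1)
    (hN : Nat.card (Subgroup.normalizer (D.T a : Set X)) = 2 * Nat.card (D.T a))
    (h : 2 * Nat.card (D.T a) = Nat.card X) : D.Kind := by
  have htop := Subgroup.eq_top_of_card_eq _ (hN.trans h)
  have hidx : (D.T a).index = 2 := by
    have h1 := Subgroup.card_mul_index (D.T a)
    rw [← h, mul_comm 2] at h1
    exact Nat.eq_of_mul_eq_mul_left Nat.card_pos h1
  obtain ⟨w, hw⟩ : ∃ w, w ∉ D.T a := by
    by_contra hc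
    push Not at hc
    rw [(eq_top_iff.mpr fun x _ => hc x : D.T a = ⊤), Subgroup.index_top] at hidx
    omega
  have hwN := (D.mem_normalizer_iff ha (g := w)).mp (htop ▸ Subgroup.mem_top w)
  obtain ⟨hw2, hinv⟩ := D.semi_flip ha hap hwN hw
  haveI := D.semi_cyclic ha hap
  exact Or.inr (Or.inr (Or.inl ⟨a, ha, hap, hidx, htop, nonempty_dihedral _ hidx hw hw2 hinv⟩))

theorem kind_of_three {a : X} (ha : a ≠ 1) (hap : a ^ p ≠ 1) (hd : Nat.card (D.T a) = 3)
    (hN : Nat.card (Subgroup.normalizer (D.T a : Set X)) = 3) (hX : Nat.card X = 12)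
    (hp : ¬ p ∣ Nat.card X ∨ p = 3) : D.Kind :=
  Or.inr (Or.inr (Or.inr (Or.inr (Or.inl ⟨hX, nonempty_alternating_four hX _ hd
    (Subgroup.eq_of_le_of_card_ge Subgroup.le_normalizer (by rw [hd, hN])).symm, hp⟩))))

theorem not_twelve {a : X} (hd : Nat.card (D.T a) = 3) (hX : Nat.card X = 12)
    (hN : (Subgroup.normalizer (D.T a : Set X)).index = 2) : False := by
  haveI : Fact (Nat.Prime 3) := ⟨Nat.prime_three⟩
  have hf : (Nat.card X).factorization 3 = 1 := by
    rw [hX, show (12 : ℕ) = 3 * 4 by norm_num, Nat.factorization_mul (by norm_num) (by norm_num),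
      Finsupp.add_apply, Nat.prime_three.factorization_self,
      Nat.factorization_eq_zero_of_not_dvd (by norm_num : ¬ 3 ∣ 4)]
  let P : Sylow 3 X := Sylow.ofCard (D.T a) (by rw [hd, hf, pow_one])
  have h := card_sylow_modEq_one 3 X
  rw [P.card_eq_index_normalizer] at h
  change (Subgroup.normalizer (D.T a : Set X)).index ≡ 1 [MOD 3] at h
  rw [hN] at h
  norm_num [Nat.ModEq] at h

/-- The case in which `p` does not divide the order. -/
theorem kind_coprime (hp : p.Prime) (hX : ¬ p ∣ Nat.card X) : D.Kind := by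
  rcases eq_or_ne (Nat.card X) 1 with h1 | h1
  · exact Or.inl h1
  obtain ⟨l, hl, -, hsum⟩ := D.exists_list
  have hg : 2 ≤ Nat.card X := by
    have := Nat.card_pos (α := X); omega
  have huni : Nat.card {x : X // x ≠ 1 ∧ x ^ p = 1} = 0 := by
    haveI : IsEmpty {x : X // x ≠ 1 ∧ x ^ p = 1} :=
      ⟨fun ⟨x, h1, h2⟩ => hX (orderOf_eq_prime (hp := ⟨hp⟩) h2 h1 ▸ orderOf_dvd_natCard x)⟩
    exact Nat.card_of_isEmpty
  have hsplit := card_split (X := X) (p := p)
  rw [huni, Nat.zero_add, ← hsum] at hsplit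
  have hadm : ∀ x ∈ l, Adm (Nat.card X) x := fun x hx => by
    obtain ⟨a, ha, hap, rfl⟩ := hl x hx; exact D.adm_entry ha hap
  rcases solve_coprime hg hadm hsplit with ⟨x, hx, hs, hd⟩ | ⟨x, hx, hs, hd⟩ | ⟨h12, x, hx, hd, hs⟩ |
      ⟨h12, x, hx, hh, hd, -⟩ | ⟨h24, x, hx, hd, hs⟩ | ⟨h60, ⟨x, hx, hd, hs⟩, y, hy, hd', hs'⟩
  · obtain ⟨a, ha, hap, rfl⟩ := hl x hx
    exact D.kind_of_full ha hap hd
  · obtain ⟨a, ha, hap, rfl⟩ := hl x hx
    obtain ⟨e1, e2⟩ := D.entry_facts ha hap rfl hs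
    exact D.kind_of_half ha hap e2 hd
  · obtain ⟨a, ha, hap, rfl⟩ := hl x hx
    obtain ⟨e1, e2⟩ := D.entry_facts ha hap hd hs
    exact D.kind_of_three ha hap e1 (by simpa using e2) h12 (Or.inl hX)
  · obtain ⟨a, ha, hap, rfl⟩ := hl x hx
    exact (D.not_twelve hd h12 hh).elim
  · obtain ⟨a, ha, hap, rfl⟩ := hl x hx
    obtain ⟨e1, e2⟩ := D.entry_facts ha hap hd hs
    exact Or.inr (Or.inr (Or.inr (Or.inr (Or.inr (Or.inl ⟨h24, nonempty_perm_four h24 _ e1
      (by simpa using e2) (D.centralizer_T_le ha hap (by omega)), hX⟩)))))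
  · obtain ⟨a, ha, hap, rfl⟩ := hl x hx
    obtain ⟨b, hb, hbp, rfl⟩ := hl y hy
    obtain ⟨e1, e2⟩ := D.entry_facts ha hap hd hs
    obtain ⟨f1, f2⟩ := D.entry_facts hb hbp hd' hs'
    exact Or.inr (Or.inr (Or.inr (Or.inr (Or.inr (Or.inr (Or.inl ⟨h60,
      nonempty_alternating_five h60 _ _ e1 f1 (by simpa using e2) (by simpa using f2)
        (D.centralizer_T_le hb hbp (by omega)), Or.inl hX⟩))))))

include D in
/-- The complement in the normaliser of a Sylow `p`-subgroup is contained in a torus. -/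
theorem exists_torus (hp : p.Prime) (P : Sylow p X) (hP : (P : Subgroup X) ≠ ⊥) :
    ∃ t : ℕ, Nat.card (Subgroup.normalizer ((P : Subgroup X) : Set X)) = Nat.card (P : Subgroup X) * t ∧
      t ∣ Nat.card (P : Subgroup X) - 1 ∧ 1 ≤ t ∧
      (t = 1 ∨ ∃ c : X, c ≠ 1 ∧ c ^ p ≠ 1 ∧ Nat.card (D.T c) = t) := by
  classical
  haveI : Fact p.Prime := ⟨hp⟩
  obtain ⟨u, huP, hu1⟩ := (P : Subgroup X).bot_or_exists_ne_one.resolve_left hP
  obtain ⟨hup, hPu⟩ := D.sylow_eq hp P huP hu1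
  set N := Subgroup.normalizer ((P : Subgroup X) : Set X) with hN
  set P' : Subgroup N := (P : Subgroup X).subgroupOf N with hP'
  haveI : P'.Normal := Subgroup.normal_in_normalizer
  have hle : (P : Subgroup X) ≤ N := Subgroup.le_normalizer
  have hP'c : Nat.card P' = Nat.card (P : Subgroup X) :=
    Nat.card_congr (Subgroup.subgroupOfEquivOfLe hle).toEquiv
  have hcop : Nat.Coprime (Nat.card P') P'.index := by
    have h1 : P'.index ∣ (P : Subgroup X).index := Subgroup.relIndex_dvd_index_of_le hle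
    rw [hP'c]
    exact P.card_coprime_index.coprime_dvd_right h1
  obtain ⟨C', hC'⟩ := Subgroup.exists_right_complement'_of_coprime hcop
  set C : Subgroup X := C'.map N.subtype with hC
  set t := Nat.card C with ht
  have htC' : t = Nat.card C' := Subgroup.card_map_of_injective N.subtype_injective
  have hcard : Nat.card N = Nat.card (P : Subgroup X) * t := by
    rw [htC', ← hP'c, hC'.card_mul]
  have hCN : C ≤ N := Subgroup.map_subtype_le C'
  have hCP : ∀ c ∈ C, c ∈ (P : Subgroup X) → c = 1 := by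
    rintro c ⟨c', hc', rfl⟩ hcP
    have : c' ∈ P' ⊓ C' := ⟨hcP, hc'⟩
    rw [hC'.disjoint.eq_bot] at this
    rw [Subgroup.mem_bot.mp this]; rfl
  have hnormu : ∀ c ∈ N, c * u * c⁻¹ ∈ D.T u := fun c hc => by
    rw [← hPu]; exact (Subgroup.mem_normalizer_iff.mp hc u).mp huP
  have htp : ¬ p ∣ t := by
    intro h
    have h1 : p ∣ Nat.card (P : Subgroup X) := by
      have h2 := (P : Subgroup X).orderOf_dvd_natCard huP
      rwa [orderOf_eq_prime hup hu1] at h2
    rw [← hP'c] at h1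
    rw [htC', ← hC'.symm.index_eq_card] at h
    exact Nat.not_coprime_of_dvd_of_dvd hp.one_lt h1 h hcop
  have hCsemi : ∀ c ∈ C, c ≠ 1 → c ^ p ≠ 1 := fun c hc hc1 h =>
    htp (orderOf_eq_prime h hc1 ▸ C.orderOf_dvd_natCard hc)
  -- freeness
  have hfree : ∀ c ∈ C, ∀ v ∈ (P : Subgroup X), v ≠ 1 → c * v * c⁻¹ = v → c = 1 := by
    intro c hc v hv hv1 h
    obtain ⟨hvp, hPv⟩ := D.sylow_eq hp P hv hv1
    exact hCP c hc (hPv ▸ D.uni_cent hv1 hvp (mul_inv_eq_iff_eq_mul.mp h))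
  have hdvd : t ∣ Nat.card (P : Subgroup X) - 1 := by
    letI : MulAction C {v : (P : Subgroup X) // v ≠ 1} :=
      { smul := fun c v => ⟨⟨c * v.1 * (c : X)⁻¹,
          (Subgroup.mem_normalizer_iff.mp (hCN c.2) _).mp v.1.2⟩,
          fun e => v.2 (Subtype.ext (conj_eq_one_iff.mp (congrArg Subtype.val e)))⟩
        one_smul := fun v => Subtype.ext (Subtype.ext (by simp [HSMul.hSMul, SMul.smul]))
        mul_smul := fun c d v => Subtype.ext (Subtype.ext (by simp [HSMul.hSMul, SMul.smul, mul_assoc])) }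
    have h := card_dvd_of_free (C := C) (α := {v : (P : Subgroup X) // v ≠ 1}) (fun c v h =>
      Subtype.ext (hfree c c.2 v.1 v.1.2 (fun e => v.2 (Subtype.ext e))
        (congrArg (fun w : {v : (P : Subgroup X) // v ≠ 1} => (w.1 : X)) h)))
    haveI : Fintype (P : Subgroup X) := Fintype.ofFinite _
    rwa [Nat.card_eq_fintype_card (α := {v : (P : Subgroup X) // v ≠ 1}), Fintype.card_subtype_compl,
      Fintype.card_subtype_eq, ← Nat.card_eq_fintype_card] at h
  refine ⟨t, hcard, hdvd, Nat.card_pos, ?_⟩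
  rcases eq_or_ne C ⊥ with hCb | hCb
  · left; rw [ht, hCb, Subgroup.card_bot]
  right
  obtain ⟨a, haC, ha1⟩ := C.bot_or_exists_ne_one.resolve_left hCb
  have hap := hCsemi a haC ha1
  refine ⟨a, ha1, hap, ?_⟩
  -- `C` is abelian
  have hcomm : ∀ g ∈ C, Commute g a := by
    intro g hg
    have h1 := D.borel_comm hu1 hup (hnormu g (hCN hg)) (hnormu a (hCN haC))
    rw [← hPu] at h1
    have h2 := hCP _ (C.mul_mem (C.mul_mem (C.mul_mem hg haC) (C.inv_mem hg)) (C.inv_mem haC)) h1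
    show g * a = a * g
    calc g * a = (g * a * g⁻¹ * a⁻¹) * (a * g) := by group
      _ = a * g := by rw [h2, one_mul]
  have hCT : C ≤ D.T a := by
    intro g hg
    by_contra hgT
    have he : g * a * g⁻¹ = a := by rw [(hcomm g hg).eq, mul_inv_cancel_right]
    obtain ⟨hg2, hinv⟩ := D.semi_flip ha1 hap (by rw [he]; exact D.self a) hgT
    have ha2 : a * a = 1 := by
      have := hinv a (D.self a)
      rw [he] at this
      exact mul_eq_one_iff_eq_inv.mpr this
    -- two distinct involutions both invert `u`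
    have key : ∀ c ∈ C, c * c = 1 → c ≠ 1 → c * u * c⁻¹ = u⁻¹ := by
      intro c hc hc2 hc1
      have hcu : c * u * c⁻¹ ∈ (P : Subgroup X) := (Subgroup.mem_normalizer_iff.mp (hCN hc) u).mp huP
      have hcm : Commute u (c * u * c⁻¹) := D.comm hu1 (D.self u) (hPu ▸ hcu)
      set v := u * (c * u * c⁻¹) with hv
      by_contra hne
      refine hc1 (hfree c hc v ((P : Subgroup X).mul_mem huP hcu) (fun e => hne ?_) ?_)
      · exact eq_inv_of_mul_eq_one_right e
      · have hci : c⁻¹ = c := inv_eq_of_mul_eq_one_right hc2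
        rw [hv]
        calc c * (u * (c * u * c⁻¹)) * c⁻¹
            = (c * u * c⁻¹) * ((c * c) * u * (c⁻¹ * c⁻¹)) := by group
          _ = (c * u * c⁻¹) * u := by rw [hc2, hci, hc2]; group
          _ = u * (c * u * c⁻¹) := hcm.eq.symm
    have h1 := key a haC ha2 ha1
    have h2 := key g hg hg2 (fun e => hgT (e ▸ (D.T a).one_mem))
    have h3 : g * a = 1 := by
      refine hfree _ (C.mul_mem hg haC) u huP hu1 ?_
      calc g * a * u * (g * a)⁻¹ = g * (a * u * a⁻¹) * g⁻¹ := by group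
        _ = u := by rw [h1, ← conj_inv, h2, inv_inv]
    refine hgT ?_
    rw [mul_eq_one_iff_eq_inv.mp h3]
    exact (D.T a).inv_mem (D.self a)
  refine le_antisymm ?_ (Subgroup.card_le_of_le hCT)
  have hTN : D.T a ≤ N := fun x hx => by
    have := D.borel_torus hu1 hup hap (hnormu a (hCN haC)) hx
    rw [hN, hPu, D.mem_normalizer_iff hu1]
    exact this
  have h1 : Nat.card (D.T a) ∣ Nat.card (P : Subgroup X) * t := hcard ▸ Subgroup.card_dvd_of_le hTN
  have h2 : Nat.Coprime (Nat.card (D.T a)) (Nat.card (P : Subgroup X)) := by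
    rw [P.card_eq_multiplicity]
    exact Nat.Coprime.pow_right _ ((hp.coprime_iff_not_dvd.mpr (D.not_dvd_card hp ha1 hap)).symm)
  exact Nat.le_of_dvd Nat.card_pos (h2.dvd_of_dvd_mul_left h1)

/-- The case in which `p` divides the order. -/
theorem kind_modular (hp : p.Prime) (hX : p ∣ Nat.card X) : D.Kind := by
  classical
  haveI : Fact p.Prime := ⟨hp⟩
  obtain ⟨P⟩ : Nonempty (Sylow p X) := inferInstance
  have hP : (P : Subgroup X) ≠ ⊥ := P.ne_bot_of_dvd_card hX
  obtain ⟨u, huP, hu1⟩ := (P : Subgroup X).bot_or_exists_ne_one.resolve_left hP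
  obtain ⟨hup, hPu⟩ := D.sylow_eq hp P huP hu1
  obtain ⟨k, hk⟩ := D.card_sylow_eq hp P
  rcases Nat.eq_zero_or_pos k with rfl | hkpos
  · refine Or.inr (Or.inr (Or.inr (Or.inl ⟨u, hu1, hup, ?_⟩)))
    rw [← hPu]
    refine Subgroup.index_eq_one.mp ?_
    exact P.card_eq_index_normalizer.symm.trans (hk.trans (by rw [Nat.zero_mul]))
  obtain ⟨t, hN, hdvd, ht, hC⟩ := D.exists_torus hp P hP
  obtain ⟨l, hl, hmem, hsum⟩ := D.exists_list
  set e := Nat.card (P : Subgroup X) with he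
  set n := Nat.card (Sylow p X) with hn
  have he2 : 2 ≤ e := by
    have : 1 < e := (P : Subgroup X).one_lt_card_iff_ne_bot.mpr hP
    omega
  have hgn : Nat.card X = e * t * n := by
    rw [← hN, hn, P.card_eq_index_normalizer]
    exact (Subgroup.card_mul_index _).symm
  have hadm : ∀ x ∈ l, Adm (Nat.card X) x := fun x hx => by
    obtain ⟨a, ha, hap, rfl⟩ := hl x hx; exact D.adm_entry ha hap
  have hC' : t = 1 ∨ ∃ x ∈ l, x.2.1 = t := hC.imp_right fun ⟨c, hc, hcp, hct⟩ =>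
    ⟨_, hmem c hc hcp, hct⟩
  have hsplit := card_split (X := X) (p := p)
  rw [D.card_uni hp P, ← hsum, Nat.add_comm, ← hn, ← he] at hsplit
  rcases solve_modular hadm hgn hk hkpos he2 ht hdvd hC' hsplit with
    ⟨-, -, x, hx, hs, hd⟩ | ⟨he3, ht1, h12⟩ | ⟨he3, ht2, h60, y, hy, hd, hs⟩ | ⟨hk1, he3, ht2, htt⟩
  · obtain ⟨a, ha, hap, rfl⟩ := hl x hx
    obtain ⟨e1, e2⟩ := D.entry_facts ha hap rfl hs
    exact D.kind_of_half ha hap e2 hd
  all_goals try
    have hp3 : p = 3 := by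
      have h := P.card_eq_multiplicity
      rw [← he, he3] at h
      have hd : p ∣ 3 := by
        rw [h]
        refine dvd_pow_self p fun h0 => ?_
        rw [h0, pow_zero] at h; omega
      exact (Nat.prime_dvd_prime_iff_eq hp Nat.prime_three).mp hd
  · refine Or.inr (Or.inr (Or.inr (Or.inr (Or.inl ⟨h12, nonempty_alternating_four h12 (P : Subgroup X)
      (by rw [← he, he3]) ?_, Or.inr hp3⟩))))
    exact (Subgroup.eq_of_le_of_card_ge Subgroup.le_normalizer
      (le_of_eq (by rw [hN, ← he, ht1, mul_one]))).symm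
  · obtain ⟨b, hb, hbp, rfl⟩ := hl y hy
    obtain ⟨f1, f2⟩ := D.entry_facts hb hbp hd hs
    exact Or.inr (Or.inr (Or.inr (Or.inr (Or.inr (Or.inr (Or.inl ⟨h60,
      nonempty_alternating_five h60 (P : Subgroup X) _ (by rw [← he, he3]) f1 (by rw [hN, he3, ht2])
        (by simpa using f2) (D.centralizer_T_le hb hbp (by omega)), Or.inr hp3⟩))))))
  · refine Or.inr (Or.inr (Or.inr (Or.inr (Or.inr (Or.inr (Or.inr ⟨u, t, hu1, hup, ?_, ht2, ?_, ?_, ?_⟩))))))
    · rw [← hPu]; exact he3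
    · rw [← hPu]; exact htt
    · rw [← hPu]; exact hN
    · rw [← hPu, hgn, hk, hk1, one_mul, Nat.add_comm 1]

theorem classify (hp : p.Prime) : D.Kind := by
  by_cases h : p ∣ Nat.card X
  · exact D.kind_modular hp h
  · exact D.kind_coprime hp h

end Data

end Cfsg.Agent.Dickson
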