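import Mathlib

/-!
The axioms used in the classification of the subgroups of `PSL(2, q)`: a partition of the non-trivial
elements into conjugate abelian subgroups, split into unipotent and semisimple ones.
-/

set_option autoImplicit false

namespace Cfsg.Agent.Dickson

open scoped Pointwise

universe u

/-- A family of abelian subgroups `T a` behaving like the maximal tori and unipotent subgroups of
`PSL(2, q)`. -/
structure Data (X : Type u) [Group X] (p : ℕ) where
  /-- the subgroup attached to an element -/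
  T : X → Subgroup X
  self : ∀ a : X, a ∈ T a
  same : ∀ {a b : X}, a ≠ 1 → b ∈ T a → b ≠ 1 → T b = T a
  conj : ∀ (g : X) {a x : X}, a ≠ 1 → x ∈ T a → g * x * g⁻¹ ∈ T (g * a * g⁻¹)
  comm : ∀ {a x y : X}, a ≠ 1 → x ∈ T a → y ∈ T a → Commute x y
  uni_exp : ∀ {a b : X}, a ≠ 1 → a ^ p = 1 → b ∈ T a → b ^ p = 1
  uni_cent : ∀ {a g : X}, a ≠ 1 → a ^ p = 1 → Commute g a → g ∈ T a
  semi_cyclic : ∀ {a : X}, a ≠ 1 → a ^ p ≠ 1 → IsCyclic (T a)
  semi_coprime : ∀ {a : X}, a ≠ 1 → a ^ p ≠ 1 → ¬ p ∣ orderOf a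
  semi_flip : ∀ {a g : X}, a ≠ 1 → a ^ p ≠ 1 → g * a * g⁻¹ ∈ T a → g ∉ T a →
    g * g = 1 ∧ ∀ b ∈ T a, g * b * g⁻¹ = b⁻¹
  semi_mul : ∀ {a g h : X}, a ≠ 1 → a ^ p ≠ 1 → g * a * g⁻¹ ∈ T a → g ∉ T a →
    h * a * h⁻¹ ∈ T a → h ∉ T a → g * h ∈ T a
  borel_comm : ∀ {a g h : X}, a ≠ 1 → a ^ p = 1 → g * a * g⁻¹ ∈ T a → h * a * h⁻¹ ∈ T a →
    g * h * g⁻¹ * h⁻¹ ∈ T a
  borel_torus : ∀ {a c x : X}, a ≠ 1 → a ^ p = 1 → c ^ p ≠ 1 → c * a * c⁻¹ ∈ T a → x ∈ T c →
    x * a * x⁻¹ ∈ T a

namespace Data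

variable {X : Type u} [Group X] {p : ℕ} (D : Data X p)

theorem T_conj (g : X) {a : X} (ha : a ≠ 1) : D.T (g * a * g⁻¹) = MulAut.conj g • D.T a := by
  refine le_antisymm (fun y hy => ?_) (fun y hy => ?_)
  · rw [Subgroup.mem_smul_pointwise_iff_exists]
    refine ⟨g⁻¹ * y * g, ?_, by simp [MulAut.smul_def, mul_assoc]⟩
    have := D.conj g⁻¹ (a := g * a * g⁻¹) (x := y) (fun h => ha (conj_eq_one_iff.mp h)) hy
    simpa [mul_assoc] using this
  · rw [Subgroup.mem_smul_pointwise_iff_exists] at hy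
    obtain ⟨x, hx, rfl⟩ := hy
    exact D.conj g ha hx

theorem smul_T_eq_iff {a g : X} (ha : a ≠ 1) :
    MulAut.conj g • D.T a = D.T a ↔ g * a * g⁻¹ ∈ D.T a := by
  constructor
  · intro h
    exact h.le ((Subgroup.smul_mem_pointwise_smul a (MulAut.conj g) (D.T a)) (D.self a))
  · intro h
    rw [← D.T_conj g ha]
    exact D.same ha h (fun e => ha (conj_eq_one_iff.mp e))

theorem mem_normalizer_iff {a g : X} (ha : a ≠ 1) :
    g ∈ Subgroup.normalizer (D.T a : Set X) ↔ g * a * g⁻¹ ∈ D.T a := by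
  rw [← D.smul_T_eq_iff ha, Subgroup.mem_normalizer_iff, SetLike.ext_iff]
  constructor
  · intro h y
    rw [Subgroup.mem_smul_pointwise_iff_exists]
    constructor
    · rintro ⟨x, hx, rfl⟩; exact (h x).mp hx
    · intro hy
      exact ⟨g⁻¹ * y * g, (h _).mpr (by simpa [mul_assoc] using hy), by simp [MulAut.smul_def, mul_assoc]⟩
  · intro h x
    have := h (g * x * g⁻¹)
    rw [Subgroup.mem_smul_pointwise_iff_exists] at this
    constructor
    · intro hx; exact this.mp ⟨x, hx, rfl⟩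
    · intro hx
      obtain ⟨y, hy, e⟩ := this.mpr hx
      have : y = x := (MulAut.conj g).injective e
      rwa [this] at hy

theorem uni_iff {a b : X} (ha : a ≠ 1) (hb : b ∈ D.T a) (hb1 : b ≠ 1) : b ^ p = 1 ↔ a ^ p = 1 := by
  constructor
  · intro h
    exact D.uni_exp hb1 h (D.same ha hb hb1 ▸ D.self a)
  · intro h; exact D.uni_exp ha h hb

theorem isPGroup_T (hp : p.Prime) {a : X} (ha : a ≠ 1) (hap : a ^ p = 1) : IsPGroup p (D.T a) :=
  fun x => ⟨1, Subtype.ext (by simpa using D.uni_exp ha hap x.2)⟩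

theorem not_dvd_card (hp : p.Prime) [Finite X] {a : X} (ha : a ≠ 1) (hap : a ^ p ≠ 1) :
    ¬ p ∣ Nat.card (D.T a) := by
  intro h
  haveI : Fact p.Prime := ⟨hp⟩
  obtain ⟨x, hx⟩ := exists_prime_orderOf_dvd_card' p h
  have hx' : orderOf (x : X) = p := by rw [Subgroup.orderOf_coe]; exact hx
  have hx1 : (x : X) ≠ 1 := fun e => hp.ne_one (by rw [← hx', e, orderOf_one])
  exact hap ((D.uni_iff ha x.2 hx1).mp (orderOf_dvd_iff_pow_eq_one.mp hx'.dvd))

theorem semi_of_ne {a b : X} (ha : a ≠ 1) (hap : a ^ p ≠ 1) (hb : b ∈ D.T a) (hb1 : b ≠ 1) : b ^ p ≠ 1 :=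
  fun h => hap ((D.uni_iff ha hb hb1).mp h)

/-- The centraliser of an element of order at least three of a torus. -/
theorem mem_of_commute {a g : X} (ha : a ≠ 1) (hap : a ^ p ≠ 1) (ha2 : a * a ≠ 1) (h : Commute g a) :
    g ∈ D.T a := by
  by_contra hg
  have he : g * a * g⁻¹ = a := by rw [h.eq, mul_inv_cancel_right]
  obtain ⟨-, hinv⟩ := D.semi_flip ha hap (by rw [he]; exact D.self a) hg
  have := hinv a (D.self a)
  rw [he] at this
  exact ha2 (mul_eq_one_iff_eq_inv.mpr this)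

/-- The subgroups of a subgroup. -/
def restrict (H : Subgroup X) : Data H p where
  T a := (D.T a).subgroupOf H
  self a := D.self _
  same := fun {a b} ha hb hb1 => by
    exact congrArg (fun K => K.subgroupOf H) (D.same (fun e => ha (Subtype.ext e)) hb (fun e => hb1 (Subtype.ext e)))
  conj g := fun {a x} ha hx => D.conj _ (fun e => ha (Subtype.ext e)) hx
  comm := fun {a x y} ha hx hy => Subtype.ext (D.comm (fun e => ha (Subtype.ext e)) hx hy)
  uni_exp := fun {a b} ha hap hb =>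
    Subtype.ext (by simpa using D.uni_exp (fun e => ha (Subtype.ext e)) (by simpa using congrArg Subtype.val hap) hb)
  uni_cent := fun {a g} ha hap h =>
    D.uni_cent (fun e => ha (Subtype.ext e)) (by simpa using congrArg Subtype.val hap) (congrArg Subtype.val h.eq)
  semi_cyclic := fun {a} ha hap => by
    haveI := D.semi_cyclic (fun e => ha (Subtype.ext e)) (fun e => hap (Subtype.ext (by simpa using e)))
    exact isCyclic_of_injective
      (⟨⟨fun x => (⟨x.1.1, x.2⟩ : D.T a), rfl⟩, fun _ _ => rfl⟩ : (D.T a).subgroupOf H →* D.T a)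
      (fun x y e => Subtype.ext (Subtype.ext (congrArg (fun z : D.T a => (z : X)) e)))
  semi_coprime := fun {a} ha hap => by
    have e : orderOf (a : X) = orderOf a := orderOf_injective H.subtype Subtype.coe_injective a
    refine fun h => ?_
    refine absurd (h.trans e.symm.dvd) ?_
    exact D.semi_coprime (fun e => ha (Subtype.ext e)) (fun e => hap (Subtype.ext (by simpa using e)))
  semi_flip := fun {a g} ha hap hg hgn => by
    obtain ⟨h1, h2⟩ := D.semi_flip (fun e => ha (Subtype.ext e))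
      (fun e => hap (Subtype.ext (by simpa using e))) hg hgn
    exact ⟨Subtype.ext h1, fun b hb => Subtype.ext (h2 b hb)⟩
  semi_mul := fun {a g h} ha hap hg hgn hh hhn =>
    D.semi_mul (fun e => ha (Subtype.ext e)) (fun e => hap (Subtype.ext (by simpa using e))) hg hgn hh hhn
  borel_comm := fun {a g h} ha hap hg hh =>
    D.borel_comm (fun e => ha (Subtype.ext e)) (by simpa using congrArg Subtype.val hap) hg hh
  borel_torus := fun {a c x} ha hap hc hca hx =>
    D.borel_torus (fun e => ha (Subtype.ext e)) (by simpa using congrArg Subtype.val hap)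
      (fun e => hc (Subtype.ext (by simpa using e))) hca hx

end Data

end Cfsg.Agent.Dickson
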