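import Mathlib
import Cfsg.Agent.Lib.Grp.SL2Coord
import Cfsg.Agent.Lib.Recog.PSLTwoSpectrum
import Cfsg.Agent.Lib.Classical.DicksonData

/-!
`PSL(2, F)` carries the partition of `DicksonData`: images of centralisers of non-scalar elements.
-/

set_option autoImplicit false

namespace Cfsg.Agent.Dickson

open Matrix Cfsg.Agent.Grp.SL2 Cfsg.Agent.PSL2Spec

variable {F : Type*} [Field F]

local notation "SL₂" => Matrix.SpecialLinearGroup (Fin 2) F
local notation "PSL₂" => Matrix.ProjectiveSpecialLinearGroup (Fin 2) F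

theorem isScalar_neg {x : SL₂} : IsScalar (-x) ↔ IsScalar x := by
  constructor
  · rintro (h | h)
    · exact Or.inr (by rw [← neg_neg x, h])
    · exact Or.inl (neg_injective h)
  · rintro (rfl | rfl)
    · exact Or.inr rfl
    · exact Or.inl (neg_neg 1)

theorem conjHom_neg (P : Matrix (Fin 2) (Fin 2) F) (hP : IsUnit P.det) (x : SL₂) :
    conjHom P hP (-x) = -conjHom P hP x :=
  Subtype.ext (by simp [conjHom_coe, Matrix.SpecialLinearGroup.coe_neg])

/-- An element with the same trace commuting with a semisimple element is it or its inverse. -/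
theorem commute_inv_cases {x y : SL₂} (hx : IsSemi x) (h : Commute x y) (ht : tr y = tr x) :
    y = x ∨ y = x⁻¹ := by
  by_cases h2 : (2 : F) = 0
  · obtain ⟨a, b, hy⟩ := exists_linear hx.1 h
    have hd := det_eq x
    have hdy := det_eq y
    rw [hy] at hdy
    simp at hdy
    have hty : a * tr x + 2 * b = tr x := by
      have h' := ht
      unfold tr at h'
      rw [hy] at h'
      simp at h'
      unfold tr
      linear_combination h'
    have ht0 : tr x ≠ 0 := fun e => hx.2 (by rw [e]; linear_combination -2 * h2)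
    rw [h2, zero_mul, add_zero] at hty
    have ha : a = 1 := mul_right_cancel₀ ht0 (by rw [hty, one_mul])
    subst ha
    have hdy' : b * (b + tr x) = 0 := by
      rw [tr]; linear_combination hdy - hd
    rcases mul_eq_zero.mp hdy' with hb | hb
    · exact Or.inl (Subtype.ext (by rw [hy, hb]; simp))
    · refine Or.inr (Subtype.ext ?_)
      have hb' : b = -tr x := eq_neg_of_add_eq_zero_left hb
      have hneg : ∀ c : F, -c = c := fun c => by linear_combination (-c) * h2
      rw [hy, hb', Matrix.SpecialLinearGroup.coe_inv, Matrix.adjugate_fin_two, tr]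
      ext i j; fin_cases i <;> fin_cases j <;> simp [hneg]
      · linear_combination (x : Matrix (Fin 2) (Fin 2) F) 0 0 * h2
      · linear_combination (x : Matrix (Fin 2) (Fin 2) F) 1 1 * h2
  · exact eq_or_eq_inv hx.1 h ht hx.2 h2

/-- A non-scalar element which is not semisimple is unipotent up to sign. -/
theorem exists_frame {x : SL₂} (hx : ¬ IsScalar x) (h : tr x ^ 2 = 4) :
    ∃ (P : Matrix (Fin 2) (Fin 2) F) (hP : IsUnit P.det),
      x = conjHom P hP (up 1) ∨ x = -conjHom P hP (up 1) := by
  have h' : tr x = 2 ∨ tr x = -2 := sq_eq_sq_iff_eq_or_eq_neg.mp (h.trans (by norm_num))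
  rcases h' with h' | h'
  · obtain ⟨P, hP, e⟩ := exists_up h' (fun e => hx (Or.inl e))
    exact ⟨P, hP, Or.inl e.symm⟩
  · obtain ⟨P, hP, e⟩ := exists_up (a := -x) (by rw [tr_neg, h', neg_neg]) (fun e => hx (Or.inr (by rw [← neg_neg x, e])))
    exact ⟨P, hP, Or.inr (by rw [e, neg_neg])⟩

section Semi

/-- The group of elements commuting with `x`. -/
abbrev cen (x : SL₂) : Subgroup SL₂ := Subgroup.centralizer {x}

theorem mem_cen {x y : SL₂} : y ∈ cen x ↔ Commute y x := Subgroup.mem_centralizer_singleton_iff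

/-- The centraliser of a semisimple element embeds in the multiplicative group of a field. -/
theorem exists_char {x : SL₂} (hx : IsSemi x) :
    ∃ χ : cen x →* AlgebraicClosure F, Function.Injective χ := by
  let K := AlgebraicClosure F
  let φ := algebraMap F K
  obtain ⟨lam, hlam⟩ := IsAlgClosed.exists_root
    (Polynomial.X ^ 2 - Polynomial.C (φ (tr x)) * Polynomial.X + 1 : Polynomial K) (by
      have e : (Polynomial.X ^ 2 - Polynomial.C (φ (tr x)) * Polynomial.X + 1 : Polynomial K).natDegree = 2 := by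
        compute_degree!
      exact fun h0 => by simp [Polynomial.natDegree_eq_of_degree_eq_some h0] at e)
  have hl : lam ^ 2 - φ (tr x) * lam + 1 = 0 := by simpa using hlam
  let X' : Matrix (Fin 2) (Fin 2) K := (x : Matrix (Fin 2) (Fin 2) F).map φ
  have hd : φ (x.1 0 0) * φ (x.1 1 1) - φ (x.1 0 1) * φ (x.1 1 0) = 1 := by
    rw [← map_mul, ← map_mul, ← map_sub, det_eq, map_one]
  have hdet : (X' - lam • 1).det = 0 := by
    simp only [Matrix.det_fin_two, X', Matrix.sub_apply, Matrix.map_apply, Matrix.smul_apply,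
      Matrix.one_apply_eq, Matrix.one_apply_ne (show (0 : Fin 2) ≠ 1 by decide),
      Matrix.one_apply_ne (show (1 : Fin 2) ≠ 0 by decide), smul_eq_mul, mul_zero, mul_one, sub_zero]
    simp only [tr, map_add] at hl
    linear_combination hl + hd
  obtain ⟨v, hv0, hv⟩ := Matrix.exists_mulVec_eq_zero_iff.mpr hdet
  have hXv : X' *ᵥ v = lam • v := by
    rwa [Matrix.sub_mulVec, sub_eq_zero, Matrix.smul_mulVec, Matrix.one_mulVec] at hv
  have hex : ∀ y : cen x, ∃ c : K, ((y : SL₂) : Matrix (Fin 2) (Fin 2) F).map φ *ᵥ v = c • v := by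
    intro y
    obtain ⟨a, b, hy⟩ := exists_linear hx.1 (mem_cen.mp y.2).symm
    refine ⟨φ a * lam + φ b, ?_⟩
    have e : ((y : SL₂) : Matrix (Fin 2) (Fin 2) F).map φ = φ a • X' + φ b • 1 := by
      ext i j
      rw [hy]
      fin_cases i <;> fin_cases j <;> simp [X']
    rw [e, Matrix.add_mulVec, Matrix.smul_mulVec, Matrix.smul_mulVec, Matrix.one_mulVec, hXv, smul_smul,
      add_smul]
  choose c hc using hex
  have huniq : ∀ {a b : K}, a • v = b • v → a = b := fun {a b} h => by
    by_contra hne
    have : (a - b) • v = 0 := by rw [sub_smul, h, sub_self]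
    exact hv0 ((smul_eq_zero.mp this).resolve_left (sub_ne_zero.mpr hne))
  let χ : cen x →* K :=
    { toFun := c
      map_one' := huniq (by rw [← hc]; simp)
      map_mul' := fun y z => huniq (by
        rw [← hc]
        simp only [Subgroup.coe_mul, Matrix.SpecialLinearGroup.coe_mul, Matrix.map_mul]
        rw [← Matrix.mulVec_mulVec, hc, Matrix.mulVec_smul, hc, smul_smul, mul_comm]) }
  refine ⟨χ, (injective_iff_map_eq_one χ).mpr fun y hy => ?_⟩
  have hyv := hc y
  rw [show c y = 1 from hy, one_smul] at hyv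
  have hdet1 : (((y : SL₂) : Matrix (Fin 2) (Fin 2) F).map φ - 1).det = 0 :=
    Matrix.exists_mulVec_eq_zero_iff.mp ⟨v, hv0, by rw [Matrix.sub_mulVec, hyv, Matrix.one_mulVec, sub_self]⟩
  have hty : tr (y : SL₂) = 2 := by
    refine φ.injective ?_
    have hdy : φ ((y : SL₂).1 0 0) * φ ((y : SL₂).1 1 1) - φ ((y : SL₂).1 0 1) * φ ((y : SL₂).1 1 0) = 1 := by
      rw [← map_mul, ← map_mul, ← map_sub, det_eq, map_one]
    simp only [Matrix.det_fin_two, Matrix.sub_apply, Matrix.map_apply, Matrix.one_apply_eq,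
      Matrix.one_apply_ne (show (0 : Fin 2) ≠ 1 by decide),
      Matrix.one_apply_ne (show (1 : Fin 2) ≠ 0 by decide), sub_zero] at hdet1
    simp only [tr, map_add, map_ofNat]
    linear_combination hdy - hdet1
  have hsc : IsScalar (y : SL₂) := by
    by_contra hns
    exact (hx.of_commute hns (mem_cen.mp y.2).symm).2 (by rw [hty]; norm_num)
  refine Subtype.ext ?_
  rcases hsc with h | h
  · exact h
  · rw [h]
    rw [h, tr_neg, tr_one] at hty
    have h4 : (2 : F) + 2 = 0 := by linear_combination -hty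
    by_cases h2 : (2 : F) = 0
    · refine Subtype.ext ?_
      ext i j
      fin_cases i <;> fin_cases j <;> simp
      all_goals linear_combination -h2
    · exfalso
      rcases mul_eq_zero.mp (show (2 : F) * 2 = 0 by linear_combination h4) with e | e <;> exact h2 e

theorem isCyclic_cen [Finite F] {x : SL₂} (hx : IsSemi x) : IsCyclic (cen x) := by
  obtain ⟨χ, hχ⟩ := exists_char hx
  exact isCyclic_of_subgroup_isDomain χ hχ

theorem not_dvd_card_cen [Finite F] {x : SL₂} (hx : IsSemi x) (p : ℕ) [hp : Fact p.Prime] [CharP F p] :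
    ¬ p ∣ Nat.card (cen x) := by
  intro h
  obtain ⟨y, hy⟩ := exists_prime_orderOf_dvd_card' p h
  obtain ⟨χ, hχ⟩ := exists_char hx
  haveI : CharP (AlgebraicClosure F) p := charP_of_injective_algebraMap (algebraMap F _).injective p
  have h1 : χ y ^ p = 1 := by rw [← map_pow, ← hy, pow_orderOf_eq_one, map_one]
  have h2 : (χ y - 1) ^ p = 0 := by rw [sub_pow_char, h1, one_pow, sub_self]
  have : y = 1 := hχ (by rw [map_one]; exact sub_eq_zero.mp (pow_eq_zero_iff hp.out.ne_zero |>.mp h2))
  rw [this, orderOf_one] at hy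
  exact hp.out.ne_one hy.symm

/-- Elements inverting a semisimple element square to `-1`. -/
theorem sq_of_invert {x g : SL₂} (hx : IsSemi x) (h : g * x * g⁻¹ = x⁻¹) (hg : ¬ Commute g x) :
    g * g = -1 := by
  have hns : ¬ IsScalar g := fun hs => hg (hs.commute x)
  refine (mul_self_eq_neg_one hns).mpr ?_
  by_contra ht
  refine hg ?_
  have hc : Commute (g * g) x := by
    show g * g * x = x * (g * g)
    have h' : g * x⁻¹ * g⁻¹ = x := by
      rw [← conj_inv, h, inv_inv]
    calc g * g * x = g * (g * x * g⁻¹) * g := by group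
      _ = g * x⁻¹ * g := by rw [h]
      _ = (g * x⁻¹ * g⁻¹) * (g * g) := by group
      _ = x * (g * g) := by rw [h']
  have e := congrArg Subtype.val hc.eq
  simp only [Matrix.SpecialLinearGroup.coe_mul, cayley, sub_mul, mul_sub, Matrix.smul_mul, Matrix.mul_smul,
    one_mul, mul_one] at e
  exact Subtype.ext (smul_right_injective _ ht (sub_left_injective e))

end Semi

section Upper

theorem up_one_not_scalar : ¬ IsScalar (up (1 : F) : SL₂) := by
  rintro (h | h) <;>
  · have := congrFun (congrFun (congrArg Subtype.val h) 0) 1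
    simp [up] at this

theorem commute_up_one_iff {y : SL₂} : Commute y (up (1 : F)) ↔
    (y : Matrix (Fin 2) (Fin 2) F) 1 0 = 0 ∧
      (y : Matrix (Fin 2) (Fin 2) F) 0 0 = (y : Matrix (Fin 2) (Fin 2) F) 1 1 := by
  constructor
  · intro h
    have e0 := congrArg Subtype.val h.eq
    simp only [Matrix.SpecialLinearGroup.coe_mul] at e0
    have e00 := congrFun (congrFun e0 0) 0
    have e01 := congrFun (congrFun e0 0) 1
    simp [up, Matrix.mul_apply, Fin.sum_univ_two] at e00 e01
    exact ⟨e00, by linear_combination e01⟩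
  · rintro ⟨h1, h2⟩
    refine Subtype.ext ?_
    simp only [Matrix.SpecialLinearGroup.coe_mul]
    ext i j
    fin_cases i <;> fin_cases j <;> simp [up, Matrix.mul_apply, Fin.sum_univ_two, h1, h2, add_comm]

theorem commutator_commute_up {g h : SL₂} (hg : (g : Matrix (Fin 2) (Fin 2) F) 1 0 = 0)
    (hh : (h : Matrix (Fin 2) (Fin 2) F) 1 0 = 0) : Commute (g * h * g⁻¹ * h⁻¹) (up (1 : F)) := by
  rw [commute_up_one_iff]
  have d1 := det_eq g
  have d2 := det_eq h
  rw [hg] at d1
  rw [hh] at d2
  constructor <;>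
    simp [Matrix.SpecialLinearGroup.coe_inv, Matrix.adjugate_fin_two, Matrix.mul_apply, Fin.sum_univ_two, hg, hh]
  ring

theorem lower_of_commute {c x : SL₂} (hc : ¬ IsScalar c) (hc0 : (c : Matrix (Fin 2) (Fin 2) F) 1 0 = 0)
    (h : Commute x c) : (x : Matrix (Fin 2) (Fin 2) F) 1 0 = 0 := by
  obtain ⟨a, b, e⟩ := exists_linear hc h.symm
  rw [e]
  simp [hc0]

end Upper

section Proj

variable [Fintype F]

theorem proj_surjective : Function.Surjective (proj : SL₂ →* PSL₂) := QuotientGroup.mk'_surjective _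

theorem proj_one_iff {x : SL₂} : proj x = 1 ↔ IsScalar x := by
  rw [proj_eq_one_iff]
  constructor
  · rintro ⟨c, -, e⟩; exact isScalar_of_coe e
  · rintro (rfl | rfl)
    · exact ⟨1, one_pow 2, by simp⟩
    · exact ⟨-1, by ring, by simp⟩

theorem proj_eq_iff {x y : SL₂} : proj x = proj y ↔ y = x ∨ y = -x := by
  rw [eq_comm, ← mul_inv_eq_one, ← map_inv, ← map_mul, proj_one_iff]
  unfold IsScalar
  constructor
  · rintro (h | h) <;> rw [mul_inv_eq_iff_eq_mul] at h
    · exact Or.inl (by rw [h, one_mul])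
    · exact Or.inr (by rw [h, neg_one_mul])
  · rintro (rfl | rfl)
    · exact Or.inl (mul_inv_cancel _)
    · exact Or.inr (by rw [neg_mul, mul_inv_cancel])

theorem proj_neg (x : SL₂) : proj (-x) = proj x := (proj_eq_iff.mpr (Or.inr rfl)).symm

/-- A chosen lift. -/
noncomputable def lift (a : PSL₂) : SL₂ := Function.surjInv proj_surjective a

theorem proj_lift (a : PSL₂) : proj (lift a) = a := Function.surjInv_eq _ a

theorem lift_not_scalar {a : PSL₂} (ha : a ≠ 1) : ¬ IsScalar (lift a) := fun h =>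
  ha (by rw [← proj_lift a, proj_one_iff.mpr h])

/-- The subgroup attached to an element. -/
noncomputable def tor (a : PSL₂) : Subgroup PSL₂ := (cen (lift a)).map proj

theorem commute_neg_iff {x y : SL₂} : Commute y (-x) ↔ Commute y x :=
  ⟨fun h => by simpa using h.neg_right, fun h => h.neg_right⟩

theorem mem_tor_iff {x y : SL₂} : proj y ∈ tor (proj x) ↔ Commute y x := by
  have hl : ∀ z : SL₂, Commute z (lift (proj x)) ↔ Commute z x := fun z => by
    rcases proj_eq_iff.mp (proj_lift (proj x)).symm with e | e <;> rw [e]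
    exact commute_neg_iff
  unfold tor
  rw [Subgroup.mem_map]
  constructor
  · rintro ⟨z, hz, e⟩
    rw [mem_cen, hl] at hz
    rcases proj_eq_iff.mp e with rfl | rfl
    · exact hz
    · exact hz.neg_left
  · intro h
    exact ⟨y, mem_cen.mpr ((hl y).mpr h), rfl⟩

theorem tor_eq (x : SL₂) : tor (proj x) = (cen x).map proj := by
  ext a
  obtain ⟨y, rfl⟩ := proj_surjective a
  rw [mem_tor_iff, Subgroup.mem_map]
  constructor
  · intro h; exact ⟨y, mem_cen.mpr h, rfl⟩
  · rintro ⟨z, hz, e⟩
    rcases proj_eq_iff.mp e with rfl | rfl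
    · exact mem_cen.mp hz
    · exact (mem_cen.mp hz).neg_left

theorem conj_mem_tor_iff {x g : SL₂} :
    proj g * proj x * (proj g)⁻¹ ∈ tor (proj x) ↔ Commute (g * x * g⁻¹) x := by
  rw [← map_inv, ← map_mul, ← map_mul, mem_tor_iff]

variable (p : ℕ) [hp : Fact p.Prime] [CharP F p]

theorem pow_eq_one_of_tr {x : SL₂} (hx : tr x ^ 2 = 4) : proj x ^ p = 1 := by
  by_cases hs : IsScalar x
  · rw [proj_one_iff.mpr hs, one_pow]
  obtain ⟨P, hP, e⟩ := exists_frame hs hx
  have h1 : proj (conjHom P hP (up (1 : F))) ^ p = 1 := by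
    rw [← map_pow, ← map_pow, up_pow, CharP.cast_eq_zero, zero_mul, up_zero, map_one, map_one]
  rcases e with rfl | rfl
  · exact h1
  · rw [proj_neg]; exact h1

theorem pow_eq_one_iff {x : SL₂} (hns : ¬ IsScalar x) : proj x ^ p = 1 ↔ tr x ^ 2 = 4 := by
  refine ⟨fun h => ?_, pow_eq_one_of_tr p⟩
  by_contra h4
  have hs : IsSemi x := ⟨hns, h4⟩
  have ho : orderOf (proj x) = p := orderOf_eq_prime h (fun e => hns (proj_one_iff.mp e))
  have h1 : p ∣ orderOf x := ho ▸ orderOf_map_dvd proj x
  exact not_dvd_card_cen hs p (h1.trans ((cen x).orderOf_dvd_natCard (mem_cen.mpr (Commute.refl x))))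

theorem semi_lift {a : PSL₂} (ha : a ≠ 1) (hap : a ^ p ≠ 1) : IsSemi (lift a) :=
  ⟨lift_not_scalar ha, fun h => hap (by rw [← proj_lift a]; exact pow_eq_one_of_tr p h)⟩

theorem uni_frame {a : PSL₂} (ha : a ≠ 1) (hap : a ^ p = 1) :
    ∃ (P : Matrix (Fin 2) (Fin 2) F) (hP : IsUnit P.det), a = proj (conjHom P hP (up 1)) := by
  have hns := lift_not_scalar ha
  obtain ⟨P, hP, e⟩ := exists_frame hns ((pow_eq_one_iff p hns).mp (by rw [proj_lift]; exact hap))
  refine ⟨P, hP, ?_⟩
  conv_lhs => rw [← proj_lift a]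
  rcases e with e | e <;> rw [e]
  rw [proj_neg]

/-- The partition of `PSL(2, F)`. -/
noncomputable def pslData : Data PSL₂ p where
  T := tor
  self a := by
    have h := (mem_tor_iff (x := lift a) (y := lift a)).mpr (Commute.refl _)
    rwa [proj_lift] at h
  same := fun {a b} ha hb hb1 => by
    obtain ⟨x, rfl⟩ := proj_surjective a
    obtain ⟨y, rfl⟩ := proj_surjective b
    rw [mem_tor_iff] at hb
    have hx : ¬ IsScalar x := fun h => ha (proj_one_iff.mpr h)
    have hy : ¬ IsScalar y := fun h => hb1 (proj_one_iff.mpr h)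
    ext c
    obtain ⟨z, rfl⟩ := proj_surjective c
    rw [mem_tor_iff, mem_tor_iff]
    exact ⟨fun h => commute_trans hy h hb, fun h => commute_trans hx h hb.symm⟩
  conj := fun g {a x} ha hx => by
    obtain ⟨u, rfl⟩ := proj_surjective g
    obtain ⟨y, rfl⟩ := proj_surjective a
    obtain ⟨z, rfl⟩ := proj_surjective x
    rw [mem_tor_iff] at hx
    rw [← map_inv, ← map_mul, ← map_mul, ← map_mul, ← map_mul, mem_tor_iff]
    exact (Commute.conj_iff u).mpr hx
  comm := fun {a x y} ha hx hy => by
    obtain ⟨w, rfl⟩ := proj_surjective a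
    obtain ⟨u, rfl⟩ := proj_surjective x
    obtain ⟨v, rfl⟩ := proj_surjective y
    rw [mem_tor_iff] at hx hy
    exact (commute_trans (fun h => ha (proj_one_iff.mpr h)) hx hy.symm).map proj
  uni_exp := fun {a b} ha hap hb => by
    obtain ⟨x, rfl⟩ := proj_surjective a
    obtain ⟨y, rfl⟩ := proj_surjective b
    rw [mem_tor_iff] at hb
    by_cases hy : IsScalar y
    · rw [proj_one_iff.mpr hy, one_pow]
    have hx : ¬ IsScalar x := fun h => ha (proj_one_iff.mpr h)
    refine pow_eq_one_of_tr p ?_
    by_contra h4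
    exact (IsSemi.of_commute ⟨hy, h4⟩ hx hb).2 ((pow_eq_one_iff p hx).mp hap)
  uni_cent := fun {a g} ha hap h => by
    obtain ⟨x, rfl⟩ := proj_surjective a
    obtain ⟨u, rfl⟩ := proj_surjective g
    rw [mem_tor_iff]
    have hx : ¬ IsScalar x := fun h => ha (proj_one_iff.mpr h)
    have he : proj (u * x * u⁻¹) = proj x := by
      rw [map_mul, map_mul, map_inv, h.eq, mul_inv_cancel_right]
    rcases proj_eq_iff.mp he with e | e
    · exact mul_inv_eq_iff_eq_mul.mp e.symm
    · have ht := congrArg tr e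
      rw [tr_neg, tr_conj] at ht
      by_cases h2 : (2 : F) = 0
      · have hx' : -(u * x * u⁻¹) = u * x * u⁻¹ := Subtype.ext (Matrix.ext fun i j => by
          simp only [Matrix.SpecialLinearGroup.coe_neg, Matrix.neg_apply]
          linear_combination -((u * x * u⁻¹).1 i j) * h2)
        rw [hx'] at e
        exact mul_inv_eq_iff_eq_mul.mp e.symm
      · exfalso
        have h0 : tr x = 0 := (mul_eq_zero.mp (by linear_combination ht : (2 : F) * tr x = 0)).resolve_left h2
        have h4 := (pow_eq_one_iff p hx).mp hap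
        rw [h0] at h4
        exact h2 ((mul_eq_zero.mp (by linear_combination -h4 : (2 : F) * 2 = 0)).elim id id)
  semi_cyclic := fun {a} ha hap => by
    haveI := isCyclic_cen (semi_lift p ha hap)
    exact isCyclic_of_surjective _ (proj.subgroupMap_surjective (cen (lift a)))
  semi_coprime := fun {a} ha hap h => by
    refine not_dvd_card_cen (semi_lift p ha hap) p ?_
    refine (h.trans ?_).trans ((cen (lift a)).orderOf_dvd_natCard (mem_cen.mpr (Commute.refl _)))
    conv_lhs => rw [← proj_lift a]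
    exact orderOf_map_dvd proj _
  semi_flip := fun {a g} ha hap hg hgn => by
    have hs := semi_lift p ha hap
    obtain ⟨x, hx, rfl⟩ : ∃ x, IsSemi x ∧ proj x = a := ⟨lift a, hs, proj_lift a⟩
    obtain ⟨u, rfl⟩ := proj_surjective g
    rw [conj_mem_tor_iff] at hg
    rw [mem_tor_iff] at hgn
    have he : u * x * u⁻¹ = x⁻¹ :=
      (commute_inv_cases hx hg.symm (tr_conj u x)).resolve_left fun e => hgn (mul_inv_eq_iff_eq_mul.mp e)
    refine ⟨by rw [← map_mul, sq_of_invert hx he hgn, proj_one_iff.mpr (Or.inr rfl)], fun b hb => ?_⟩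
    obtain ⟨y, rfl⟩ := proj_surjective b
    rw [mem_tor_iff] at hb
    by_cases hy : IsScalar y
    · rw [proj_one_iff.mpr hy]; simp
    have hc : Commute (u * y * u⁻¹) x := by
      have h1 := (Commute.conj_iff u).mpr hb
      rw [he] at h1
      exact inv_inv x ▸ h1.inv_right
    have hys : IsSemi y := hx.of_commute hy hb.symm
    rcases commute_inv_cases hys (commute_trans hx.1 hb hc.symm) (tr_conj u y) with e | e
    · exact absurd (commute_trans hy (mul_inv_eq_iff_eq_mul.mp e) hb) hgn
    · rw [← map_inv, ← map_mul, ← map_mul, e, map_inv]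
  semi_mul := fun {a g h} ha hap hg hgn hh hhn => by
    have hs := semi_lift p ha hap
    obtain ⟨x, hx, rfl⟩ : ∃ x, IsSemi x ∧ proj x = a := ⟨lift a, hs, proj_lift a⟩
    obtain ⟨u, rfl⟩ := proj_surjective g
    obtain ⟨v, rfl⟩ := proj_surjective h
    rw [conj_mem_tor_iff] at hg hh
    rw [mem_tor_iff] at hgn hhn
    have he : u * x * u⁻¹ = x⁻¹ :=
      (commute_inv_cases hx hg.symm (tr_conj u x)).resolve_left fun e => hgn (mul_inv_eq_iff_eq_mul.mp e)
    have he' : v * x * v⁻¹ = x⁻¹ :=
      (commute_inv_cases hx hh.symm (tr_conj v x)).resolve_left fun e => hhn (mul_inv_eq_iff_eq_mul.mp e)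
    rw [← map_mul, mem_tor_iff]
    refine mul_inv_eq_iff_eq_mul.mp ?_
    calc u * v * x * (u * v)⁻¹ = u * (v * x * v⁻¹) * u⁻¹ := by group
      _ = x := by rw [he', ← conj_inv, he, inv_inv]
  borel_comm := fun {a g h} ha hap hg hh => by
    obtain ⟨P, hP, rfl⟩ := uni_frame p ha hap
    obtain ⟨u, rfl⟩ := proj_surjective g
    obtain ⟨v, rfl⟩ := proj_surjective h
    obtain ⟨u, rfl⟩ := conjHom_surjective P hP u
    obtain ⟨v, rfl⟩ := conjHom_surjective P hP v
    rw [conj_mem_tor_iff, ← map_inv, ← map_mul, ← map_mul,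
      commute_map_iff (conjHom_injective P hP), lower_entry_iff] at hg hh
    simp only [← map_inv, ← map_mul]
    rw [mem_tor_iff]
    exact (commutator_commute_up hg hh).map (conjHom P hP)
  borel_torus := fun {a c x} ha hap hc hca hx => by
    obtain ⟨P, hP, rfl⟩ := uni_frame p ha hap
    obtain ⟨w, rfl⟩ := proj_surjective c
    obtain ⟨z, rfl⟩ := proj_surjective x
    obtain ⟨w, rfl⟩ := conjHom_surjective P hP w
    obtain ⟨z, rfl⟩ := conjHom_surjective P hP z
    rw [mem_tor_iff, commute_map_iff (conjHom_injective P hP)] at hx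
    rw [conj_mem_tor_iff, ← map_inv, ← map_mul, ← map_mul,
      commute_map_iff (conjHom_injective P hP), lower_entry_iff] at hca ⊢
    refine lower_of_commute (fun hs => hc ?_) hca hx
    have : proj (conjHom P hP w) = 1 := by
      rcases hs with rfl | rfl
      · rw [map_one, map_one]
      · rw [conjHom_neg, map_one, proj_neg, map_one]
    rw [this, one_pow]

end Proj

end Cfsg.Agent.Dickson
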