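import Mathlib
import Cfsg.Agent.Lib.Classical.SLGroup
import Cfsg.Agent.Lib.Fus.PSLTwo
import Cfsg.Agent.Lib.Classical.DicksonSL

/-!
A subgroup of `SL(2, F)` whose points at infinity form a subfield line comes from that subfield.
-/

set_option autoImplicit false

namespace Cfsg.Agent.Dickson

open Matrix Cfsg.Agent.Grp.SL2

section Maps

variable {F E : Type*} [Field F] [Field E]

/-- The map of projective linear groups induced by a ring homomorphism. -/
def pglMap (f : E →+* F) : Matrix.ProjGenLinGroup (Fin 2) E →* Matrix.ProjGenLinGroup (Fin 2) F :=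
  Matrix.ProjGenLinGroup.lift (Matrix.ProjGenLinGroup.mk.comp (Matrix.GeneralLinearGroup.map f)) (by
    refine MonoidHom.ext fun u => ?_
    show Matrix.ProjGenLinGroup.mk _ = 1
    rw [show Matrix.GeneralLinearGroup.map f (Matrix.GeneralLinearGroup.scalar (Fin 2) u) =
      Matrix.GeneralLinearGroup.scalar (Fin 2) (Units.map f.toMonoidHom u) from Units.ext (by
        ext i j; fin_cases i <;> fin_cases j <;> simp)]
    exact Matrix.ProjGenLinGroup.mk_scalar _)

theorem pglMap_mk (f : E →+* F) (g : GL (Fin 2) E) :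
    pglMap f (Matrix.ProjGenLinGroup.mk g) = Matrix.ProjGenLinGroup.mk (Matrix.GeneralLinearGroup.map f g) :=
  rfl

theorem pglMap_injective (f : E →+* F) : Function.Injective (pglMap f) := by
  rw [injective_iff_map_eq_one]
  intro x
  induction x using Matrix.ProjGenLinGroup.induction_on with | mk g => ?_
  intro h
  rw [pglMap_mk, ← map_one Matrix.ProjGenLinGroup.mk, eq_comm, Matrix.ProjGenLinGroup.mk_eq_mk_iff] at h
  obtain ⟨u, hu⟩ := h
  have e := fun i j => congrArg (fun z : GL (Fin 2) F => (z : Matrix (Fin 2) (Fin 2) F) i j) hu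
  have e00 := e 0 0
  have e11 := e 1 1
  have e01 := e 0 1
  have e10 := e 1 0
  simp at e00 e11 e01 e10
  have h01 : (g : Matrix (Fin 2) (Fin 2) E) 0 1 = 0 := f.injective (by rw [map_zero]; exact e01.symm)
  have h10 : (g : Matrix (Fin 2) (Fin 2) E) 1 0 = 0 := f.injective (by rw [map_zero]; exact e10.symm)
  have h11 : (g : Matrix (Fin 2) (Fin 2) E) 0 0 = (g : Matrix (Fin 2) (Fin 2) E) 1 1 :=
    f.injective (e00.symm.trans e11)
  have h0 : (g : Matrix (Fin 2) (Fin 2) E) 0 0 ≠ 0 := fun h => u.ne_zero (by rw [e00, h, map_zero])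
  rw [← map_one Matrix.ProjGenLinGroup.mk, eq_comm, Matrix.ProjGenLinGroup.mk_eq_mk_iff]
  refine ⟨Units.mk0 _ h0, Units.ext ?_⟩
  ext i j
  fin_cases i <;> fin_cases j <;> simp [h01, h10, h11]

/-- The image of `PSL(2, E)` in `PGL(2, F)`. -/
def pslImg (f : E →+* F) : Subgroup (Matrix.ProjGenLinGroup (Fin 2) F) :=
  ((pglMap f).comp (Matrix.ProjectiveSpecialLinearGroup.toPGL (n := Fin 2) (R := E))).range

theorem pslImg_le (f : E →+* F) : pslImg f ≤ (pglMap f).range := by
  rintro _ ⟨x, rfl⟩; exact ⟨_, rfl⟩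

theorem nonempty_pglImg (f : E →+* F) :
    Nonempty ((pglMap f).range ≃* Matrix.ProjGenLinGroup (Fin 2) E) :=
  ⟨(MonoidHom.ofInjective (pglMap_injective f)).symm⟩

theorem nonempty_pslImg (f : E →+* F) :
    Nonempty (pslImg f ≃* Matrix.ProjectiveSpecialLinearGroup (Fin 2) E) :=
  ⟨(MonoidHom.ofInjective (f := (pglMap f).comp Matrix.ProjectiveSpecialLinearGroup.toPGL)
    ((pglMap_injective f).comp Matrix.ProjectiveSpecialLinearGroup.toPGL_injective)).symm⟩

end Maps

section Core

variable {F : Type*} [Field F] [Fintype F]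

local notation "SL₂" => Matrix.SpecialLinearGroup (Fin 2) F

/-- The class of a matrix of determinant one in `PGL`. -/
abbrev toP : SL₂ →* Matrix.ProjGenLinGroup (Fin 2) F :=
  Matrix.ProjGenLinGroup.mk.comp Matrix.SpecialLinearGroup.toGL

/-- A column lies on the projective line of a subfield. -/
theorem exists_coord (K : Subfield F) {a b : F} (h : a ≠ 0 ∨ b ≠ 0) (hK : b = 0 ∨ a / b ∈ K) :
    ∃ (c : F) (k l : K), a = c * k ∧ b = c * l := by
  by_cases hb : b = 0
  · exact ⟨a, 1, 0, by simp, by simp [hb]⟩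
  · exact ⟨b, ⟨a / b, hK.resolve_left hb⟩, 1, by simp [mul_div_cancel₀ _ hb], by simp⟩

/-- A subgroup all of whose elements preserve the projective line of `K` lies in `PGL(2, K)`. -/
theorem toP_mem_range (K : Subfield F) (Y : Subgroup SL₂) {w : SL₂} (hw : w ∈ Y)
    (hu : up (1 : F) ∈ Y) (hw10 : w.1 1 0 ≠ 0) (hw00 : w.1 0 0 = 0)
    (hpts : ∀ y ∈ Y, y.1 1 0 ≠ 0 → y.1 0 0 / y.1 1 0 ∈ K) {y : SL₂} (hy : y ∈ Y) :
    toP y ∈ (pglMap K.subtype).range := by
  have d := det_eq y
  have hcol : ∀ z ∈ Y, z.1 1 0 = 0 ∨ z.1 0 0 / z.1 1 0 ∈ K := fun z hz =>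
    (em (z.1 1 0 = 0)).imp_right (hpts z hz)
  have hyw := hcol _ (Y.mul_mem hy hw)
  have hyuw := hcol _ (Y.mul_mem (Y.mul_mem hy hu) hw)
  rw [Matrix.SpecialLinearGroup.coe_mul] at hyw
  rw [Matrix.SpecialLinearGroup.coe_mul, Matrix.SpecialLinearGroup.coe_mul] at hyuw
  simp [Matrix.mul_apply, Fin.sum_univ_two, hw00, up, mul_div_mul_right _ _ hw10, hw10] at hyw hyuw
  have n1 : y.1 0 0 ≠ 0 ∨ y.1 1 0 ≠ 0 := by
    by_contra hc; push Not at hc
    rw [hc.1, hc.2] at d; simp at d
  have n2 : y.1 0 1 ≠ 0 ∨ y.1 1 1 ≠ 0 := by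
    by_contra hc; push Not at hc
    rw [hc.1, hc.2] at d; simp at d
  have n3 : y.1 0 0 + y.1 0 1 ≠ 0 ∨ y.1 1 0 + y.1 1 1 ≠ 0 := by
    by_contra hc; push Not at hc
    exact one_ne_zero (by linear_combination -d + y.1 1 1 * hc.1 - y.1 0 1 * hc.2 : (1 : F) = 0)
  obtain ⟨α, k0, k1, e00, e10⟩ := exists_coord K n1 (hcol y hy)
  obtain ⟨β, l0, l1, e01, e11⟩ := exists_coord K n2 hyw
  obtain ⟨γ, m0, m1, f0, f1⟩ := exists_coord K n3 hyuw
  rw [e00, e01] at f0
  rw [e10, e11] at f1
  rw [e00, e01, e10, e11] at d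
  have hγ : γ ≠ 0 := by
    intro h
    rw [h, zero_mul] at f0 f1
    rw [e00, e01, e10, e11, f0, f1] at n3
    simp at n3
  let D : K := k0 * l1 - k1 * l0
  have hD : (D : F) ≠ 0 := by
    intro h
    have h' : (k0 : F) * l1 - k1 * l0 = 0 := by simpa [D] using h
    exact one_ne_zero (by linear_combination -d + α * β * h' : (1 : F) = 0)
  let cA : K := (m0 * l1 - m1 * l0) / D
  let cB : K := (k0 * m1 - k1 * m0) / D
  have hα : α = γ * (cA : F) := by
    simp only [cA, Subfield.coe_div, Subfield.coe_sub, Subfield.coe_mul]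
    rw [← mul_div_assoc, eq_div_iff hD]
    simp only [D, Subfield.coe_sub, Subfield.coe_mul]
    linear_combination (l1 : F) * f0 - (l0 : F) * f1
  have hβ : β = γ * (cB : F) := by
    simp only [cB, Subfield.coe_div, Subfield.coe_sub, Subfield.coe_mul]
    rw [← mul_div_assoc, eq_div_iff hD]
    simp only [D, Subfield.coe_sub, Subfield.coe_mul]
    linear_combination (k0 : F) * f1 - (k1 : F) * f0
  let M : Matrix (Fin 2) (Fin 2) K := !![cA * k0, cB * l0; cA * k1, cB * l1]
  have hM : M.det ≠ 0 := by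
    intro h
    have h' := congrArg (fun z : K => (z : F)) h
    simp only [M, Matrix.det_fin_two_of, Subfield.coe_sub, Subfield.coe_mul, ZeroMemClass.coe_zero] at h'
    rw [hα, hβ] at d
    exact one_ne_zero (by linear_combination -d + γ * γ * h' : (1 : F) = 0)
  refine ⟨Matrix.ProjGenLinGroup.mk (Matrix.GeneralLinearGroup.mkOfDetNeZero M hM), ?_⟩
  rw [pglMap_mk]
  show _ = Matrix.ProjGenLinGroup.mk _
  rw [Matrix.ProjGenLinGroup.mk_eq_mk_iff]
  refine ⟨Units.mk0 γ hγ, Units.ext ?_⟩
  ext i j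
  fin_cases i <;> fin_cases j <;>
    simp [M, e00, e01, e10, e11, hα, hβ, Matrix.GeneralLinearGroup.mkOfDetNeZero] <;> ring

/-- A subgroup of order at least half that of `PGL(2, K)` inside it, containing the squares. -/
theorem eq_img_of_card [Finite (Matrix.ProjGenLinGroup (Fin 2) F)] (K : Subfield F)
    (J : Subgroup (Matrix.ProjGenLinGroup (Fin 2) F))
    (hle : J ≤ (pglMap K.subtype).range) {e t : ℕ} (he : Nat.card K = e) (he3 : 3 ≤ e)
    (hJ : Nat.card J = e * t * (e + 1)) (ht : t = e - 1 ∨ 2 * t = e - 1) :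
    J = (pglMap K.subtype).range ∨ J = pslImg K.subtype := by
  classical
  haveI : Fintype K := Fintype.ofFinite K
  have hR : Nat.card (pglMap K.subtype).range = e * ((e - 1) * (e + 1)) := by
    rw [← Nat.card_congr (MonoidHom.ofInjective (pglMap_injective K.subtype)).toEquiv,
      Classical.natCard_PGL_eq_SL, Fus.PSLTwo.natCard_SL_two, ← Nat.card_eq_fintype_card, he]
  rcases ht with rfl | ht
  · exact Or.inl (Subgroup.eq_of_le_of_card_ge hle (by rw [hR, hJ, mul_assoc]))
  right
  set J' := J.comap (pglMap K.subtype) with hJ'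
  have hmap : J'.map (pglMap K.subtype) = J := by
    rw [hJ', Subgroup.map_comap_eq, inf_eq_right.mpr hle]
  have hJ'c : Nat.card J' = e * t * (e + 1) := by
    rw [← hJ, ← hmap, Subgroup.card_map_of_injective (pglMap_injective K.subtype)]
  have hidx : J'.index = 2 := by
    have h1 := Subgroup.card_mul_index J'
    rw [hJ'c, Classical.natCard_PGL_eq_SL, Fus.PSLTwo.natCard_SL_two, ← Nat.card_eq_fintype_card, he,
      ← ht] at h1
    have : 0 < e * t * (e + 1) := by
      have : 0 < t := by omega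
      positivity
    refine Nat.eq_of_mul_eq_mul_left this ?_
    rw [h1]; ring
  have h2K : (2 : K) ≠ 0 := by
    intro h
    have h2 : Even (Fintype.card K) := by
      rw [even_iff_two_dvd]
      haveI : CharP K 2 := (CharTwo.of_one_ne_zero_of_two_eq_zero one_ne_zero h)
      obtain ⟨n, -, hn⟩ := FiniteField.card K 2
      rw [hn]; exact dvd_pow_self 2 n.pos.ne'
    rw [← Nat.card_eq_fintype_card, he] at h2
    obtain ⟨m, hm⟩ := h2
    omega
  have key : ∀ (i j : Fin 2) (hij : i ≠ j) (c : K),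
      Matrix.SpecialLinearGroup.toPGL (Matrix.SpecialLinearGroup.transvection hij c) ∈ J' := by
    intro i j hij c
    have hs := Subgroup.sq_mem_of_index_two hidx
      (Matrix.SpecialLinearGroup.toPGL (Matrix.SpecialLinearGroup.transvection hij (c / 2)))
    rw [← map_pow] at hs
    convert hs using 2
    rw [pow_two]
    refine Subtype.ext ?_
    simp only [Matrix.SpecialLinearGroup.coe_mul, Matrix.SpecialLinearGroup.transvection_coe]
    rw [← Matrix.transvection, ← Matrix.transvection, Matrix.transvection_mul_transvection_same i j hij,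
      ← two_mul, mul_div_cancel₀ c h2K]
  have hpsl : (Matrix.ProjectiveSpecialLinearGroup.toPGL (n := Fin 2) (R := K)).range ≤ J' := by
    rintro _ ⟨x, rfl⟩
    obtain ⟨z, rfl⟩ := QuotientGroup.mk_surjective x
    have htop : Subgroup.comap (Matrix.SpecialLinearGroup.toPGL (n := Fin 2) (R := K)) J' = ⊤ := by
      rw [eq_top_iff, ← Classical.SL_closure_transvections, Subgroup.closure_le]
      rintro _ ⟨⟨i, j, hij, c⟩, rfl⟩
      exact key i j hij c
    exact htop.ge (Subgroup.mem_top z)
  refine (Subgroup.eq_of_le_of_card_ge ?_ (le_of_eq ?_)).symm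
  · rw [← hmap]
    rintro _ ⟨x, rfl⟩
    exact Subgroup.mem_map_of_mem _ (hpsl ⟨x, rfl⟩)
  · obtain ⟨iso⟩ := nonempty_pslImg K.subtype
    have h2 := Classical.natCard_PSL_mul (F := K) 2 (by norm_num)
    rw [Classical.natCard_units_field, Fus.PSLTwo.natCard_SL_two, ← Nat.card_eq_fintype_card, he, ← ht,
      Nat.gcd_mul_right_right] at h2
    rw [Nat.card_congr iso.toEquiv, hJ]
    refine (Nat.eq_of_mul_eq_mul_left two_pos ?_).symm
    rw [h2]; ring

/-- The subfield stabilising an additive subgroup. -/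
theorem exists_subfield (A : AddSubgroup F) {e t : ℕ} (hA : Nat.card A = e) (hA1 : (1 : F) ∈ A)
    (he : 3 ≤ e) (M : Finset F) (hMc : M.card = t) (hM0 : (0 : F) ∉ M) (hte : e - 1 ≤ 2 * t)
    (hMA : ∀ m ∈ M, ∀ a ∈ A, m * a ∈ A) : ∃ K : Subfield F, (K : Set F) = (A : Set F) := by
  classical
  let S : Subring F :=
    { carrier := {x | ∀ a ∈ A, x * a ∈ A}
      mul_mem' := fun {x y} hx hy a ha => by rw [mul_assoc]; exact hx _ (hy a ha)
      one_mem' := fun a ha => by rwa [one_mul]
      add_mem' := fun {x y} hx hy a ha => by rw [add_mul]; exact A.add_mem (hx a ha) (hy a ha)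
      zero_mem' := fun a _ => by rw [zero_mul]; exact A.zero_mem
      neg_mem' := fun {x} hx a ha => by rw [neg_mul]; exact A.neg_mem (hx a ha) }
  let K : Subfield F :=
    { S with
      inv_mem' := fun x hx => by
        by_cases hx0 : x = 0
        · subst hx0; rw [_root_.inv_zero]; exact S.zero_mem
        intro a ha
        let f : A → A := fun b => ⟨x * b, hx b b.2⟩
        have hf : Function.Injective f := fun b c h =>
          Subtype.ext (mul_left_cancel₀ hx0 (congrArg Subtype.val h))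
        obtain ⟨b, hb⟩ := (Finite.injective_iff_surjective.mp hf) ⟨a, ha⟩
        have h' : x * b = a := congrArg Subtype.val hb
        rw [← h', inv_mul_cancel_left₀ hx0]
        exact b.2 }
  refine ⟨K, ?_⟩
  have hKA : ∀ x ∈ K, x ∈ A := fun x hx => mul_one x ▸ hx 1 hA1
  let V : Submodule K F :=
    { carrier := A
      add_mem' := A.add_mem
      zero_mem' := A.zero_mem
      smul_mem' := fun c a ha => c.2 a ha }
  haveI : Fintype K := Fintype.ofFinite K
  haveI : Fintype V := Fintype.ofFinite V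
  have hV : Nat.card A = Fintype.card K ^ Module.finrank K V := by
    rw [← Module.card_eq_pow_finrank, ← Nat.card_eq_fintype_card]; rfl
  have hMK : t + 1 ≤ Fintype.card K := by
    have hsub : insert (0 : F) M ⊆ Finset.univ.filter (fun x => x ∈ K) := by
      intro x hx
      refine Finset.mem_filter.mpr ⟨Finset.mem_univ _, ?_⟩
      rcases Finset.mem_insert.mp hx with rfl | hx
      · exact K.zero_mem
      · exact hMA x hx
    have := Finset.card_le_card hsub
    rwa [Finset.card_insert_of_notMem hM0, hMc, ← Fintype.card_subtype] at this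
  have hfin : Module.finrank K V ≤ 1 := by
    by_contra hc
    have : Fintype.card K ^ 2 ≤ e := hA ▸ hV ▸ Nat.pow_le_pow_right (by omega) (by omega)
    have h2 : (t + 1) * (t + 1) ≤ e := (Nat.mul_le_mul hMK hMK).trans (by rw [← sq]; exact this)
    have : t * 2 ≤ t * (t + 1) := by
      rcases Nat.eq_zero_or_pos t with rfl | ht
      · simp
      · exact Nat.mul_le_mul_left _ (by omega)
    have : (t + 1) * (t + 1) = t * (t + 1) + t + 1 := by ring
    omega
  have hcard : Nat.card A ≤ Nat.card K := by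
    rw [hV, Nat.card_eq_fintype_card]
    exact (Nat.pow_le_pow_right (by omega) hfin).trans (pow_one _).le
  refine Set.eq_of_subset_of_ncard_le hKA ?_ (Set.toFinite _)
  exact hcard

end Core

end Cfsg.Agent.Dickson
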