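import Mathlib
import Cfsg.Agent.Lib.Classical.DicksonAbstract
import Cfsg.Agent.Lib.Classical.DicksonSubfield

/-!
Dickson's classification of the subgroups of `PSL(2, F)` for a finite field `F`.
-/

set_option autoImplicit false

namespace Cfsg.Agent.Dickson

open Matrix Cfsg.Agent.Grp.SL2 Cfsg.Agent.PSL2Spec

variable {F : Type*} [Field F] [Fintype F]

local notation "SL₂" => Matrix.SpecialLinearGroup (Fin 2) F
local notation "cj" => Cfsg.Agent.Grp.SL2.conjHom
local notation "PSL₂" => Matrix.ProjectiveSpecialLinearGroup (Fin 2) F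

theorem finite_pgl : Finite (Matrix.ProjGenLinGroup (Fin 2) F) :=
  Finite.of_surjective _ Matrix.ProjGenLinGroup.mk_surjective

/-- A subgroup conjugate to `PSL(2, K)` or `PGL(2, K)` for a subfield `K`. -/
def SubfieldType (H : Subgroup PSL₂) : Prop :=
  ∃ (K : Subfield F) (P : GL (Fin 2) F), 3 ≤ Nat.card K ∧
    (H.map Matrix.ProjectiveSpecialLinearGroup.toPGL =
        ((pglMap K.subtype).range).map (MulAut.conj (Matrix.ProjGenLinGroup.mk P)).toMonoidHom ∨
      H.map Matrix.ProjectiveSpecialLinearGroup.toPGL =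
        (pslImg K.subtype).map (MulAut.conj (Matrix.ProjGenLinGroup.mk P)).toMonoidHom)

theorem conjHom_eq_iff (P : Matrix (Fin 2) (Fin 2) F) (hP : IsUnit P.det) (x z : SL₂) :
    cj P hP x = z ↔ P * (x : Matrix (Fin 2) (Fin 2) F) = (z : Matrix (Fin 2) (Fin 2) F) * P := by
  constructor
  · rintro rfl
    rw [conjHom_coe, Matrix.mul_assoc, Matrix.nonsing_inv_mul _ hP, mul_one]
  · intro h
    refine Subtype.ext ?_
    rw [conjHom_coe, h, Matrix.mul_assoc, Matrix.mul_nonsing_inv _ hP, mul_one]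

theorem conjHom_comp (P Q : Matrix (Fin 2) (Fin 2) F) (hP : IsUnit P.det) (hQ : IsUnit Q.det)
    (hPQ : IsUnit (P * Q).det) (x : SL₂) :
    cj P hP (cj Q hQ x) = cj (P * Q) hPQ x :=
  Subtype.ext (by simp only [conjHom_coe, Matrix.mul_inv_rev, Matrix.mul_assoc])

theorem toPGL_proj (y : SL₂) :
    Matrix.ProjectiveSpecialLinearGroup.toPGL (proj y) = toP y := rfl

theorem toP_conjHom (P : GL (Fin 2) F) (hP : IsUnit (P : Matrix (Fin 2) (Fin 2) F).det) (y : SL₂) :
    toP (cj (P : Matrix (Fin 2) (Fin 2) F) hP y) =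
      Matrix.ProjGenLinGroup.mk P * toP y * (Matrix.ProjGenLinGroup.mk P)⁻¹ := by
  simp only [toP, MonoidHom.comp_apply, ← map_inv, ← map_mul]
  refine congrArg _ (Units.ext ?_)
  rw [Units.val_mul, Units.val_mul, Matrix.coe_units_inv]
  rfl

/-- The point at infinity is moved to this point. -/
noncomputable def pt (y : SL₂) : Option F := by
  classical exact if y.1 1 0 = 0 then none else some (y.1 0 0 / y.1 1 0)

theorem pt_neg (y : SL₂) : pt (-y) = pt y := by
  unfold pt
  split <;> split <;> simp_all [neg_div_neg_eq]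

theorem pt_eq_none {y : SL₂} : pt y = none ↔ y.1 1 0 = 0 := by
  unfold pt
  split <;> simp_all

theorem pt_eq_some {y : SL₂} {x : F} : pt y = some x ↔ y.1 1 0 ≠ 0 ∧ y.1 0 0 / y.1 1 0 = x := by
  unfold pt
  split <;> simp_all

theorem inv_mul_lower (y z : SL₂) :
    (y⁻¹ * z).1 1 0 = y.1 0 0 * z.1 1 0 - y.1 1 0 * z.1 0 0 := by
  simp [Matrix.SpecialLinearGroup.coe_inv, Matrix.adjugate_fin_two, Matrix.mul_apply, Fin.sum_univ_two]
  ring

theorem pt_eq_pt {y z : SL₂} : pt y = pt z ↔ (y⁻¹ * z).1 1 0 = 0 := by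
  rw [inv_mul_lower]
  have dy := det_eq y
  have dz := det_eq z
  by_cases hy : y.1 1 0 = 0
  · rw [pt_eq_none.mpr hy, eq_comm, pt_eq_none, hy, zero_mul, sub_zero]
    refine ⟨fun h => by rw [h, mul_zero], fun h => (mul_eq_zero.mp h).resolve_left fun h0 => ?_⟩
    rw [hy, h0] at dy; simp at dy
  · rw [eq_comm, pt_eq_some.mpr ⟨hy, rfl⟩, pt_eq_some]
    constructor
    · rintro ⟨hz, h⟩
      rw [div_eq_div_iff hz hy] at h
      linear_combination -h
    · intro h
      have hz : z.1 1 0 ≠ 0 := fun hz => by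
        rw [hz, mul_zero, zero_sub, neg_eq_zero, mul_eq_zero] at h
        rw [hz, h.resolve_left hy] at dz
        simp at dz
      exact ⟨hz, by rw [div_eq_div_iff hz hy]; linear_combination -h⟩

theorem eq_pm_up {y : SL₂} (h : Commute y (up (1 : F))) : ∃ s, y = up s ∨ y = -up s := by
  obtain ⟨h1, h2⟩ := commute_up_one_iff.mp h
  have d := det_eq y
  rw [h1, h2, mul_zero, sub_zero] at d
  rcases mul_self_eq_one_iff.mp d with e | e
  · refine ⟨y.1 0 1, Or.inl (Subtype.ext ?_)⟩
    ext i j; fin_cases i <;> fin_cases j <;> simp [up, h1, h2, e]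
  · refine ⟨-(y.1 0 1), Or.inr (Subtype.ext ?_)⟩
    rw [Matrix.SpecialLinearGroup.coe_neg]
    ext i j; fin_cases i <;> fin_cases j <;> simp [up, h1, h2, e]

theorem eq_of_up_eq {r s : F} (h : (up s : SL₂) = up r ∨ (up s : SL₂) = -up r) : s = r := by
  rcases h with h | h <;>
    have e00 := congrFun (congrFun (congrArg Subtype.val h) 0) 0 <;>
    have e01 := congrFun (congrFun (congrArg Subtype.val h) 0) 1
  · simpa [up] using e01
  · rw [Matrix.SpecialLinearGroup.coe_neg] at e00 e01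
    simp [up] at e00 e01
    linear_combination e01 - r * e00

variable (p : ℕ) [hp : Fact p.Prime] [CharP F p]

/-- The conclusion in the linear case of the abstract classification. -/
theorem subfield_of_kind (H : Subgroup PSL₂) (a : H) (t : ℕ) (ha : a ≠ 1) (hap : a ^ p = 1)
    (he3 : 3 ≤ Nat.card (((pslData (F := F) p).restrict H).T a))
    (htt : t = Nat.card (((pslData (F := F) p).restrict H).T a) - 1 ∨
      2 * t = Nat.card (((pslData (F := F) p).restrict H).T a) - 1)
    (hN : Nat.card (Subgroup.normalizer (((pslData (F := F) p).restrict H).T a : Set H)) =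
      Nat.card (((pslData (F := F) p).restrict H).T a) * t)
    (hH : Nat.card H = Nat.card (((pslData (F := F) p).restrict H).T a) * t *
      (Nat.card (((pslData (F := F) p).restrict H).T a) + 1)) :
    SubfieldType H := by
  classical
  haveI := finite_pgl (F := F)
  set D := (pslData (F := F) p).restrict H with hD
  set e := Nat.card (D.T a) with he
  set N := Subgroup.normalizer (D.T a : Set H) with hNdef
  obtain ⟨P, hP, hPa⟩ := uni_frame p (a := (a : PSL₂)) (fun h => ha (Subtype.ext h))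
    (by rw [← Subgroup.coe_pow, hap]; rfl)
  let φ : SL₂ →* PSL₂ := (proj : SL₂ →* PSL₂).comp (cj P hP)
  have hφs : Function.Surjective φ := proj_surjective.comp (conjHom_surjective P hP)
  have hφeq : ∀ y z, φ y = φ z → z = y ∨ z = -y := fun y z h => by
    rcases proj_eq_iff.mp h with e' | e'
    · exact Or.inl (conjHom_injective P hP e')
    · exact Or.inr (conjHom_injective P hP (by rw [conjHom_neg]; exact e'))
  have hφneg : ∀ y, φ (-y) = φ y := fun y => by simp only [φ, MonoidHom.comp_apply, conjHom_neg, proj_neg]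
  choose pre hpre using fun h : H => hφs (h : PSL₂)
  let Y : Subgroup SL₂ := H.comap φ
  have hmemT : ∀ (h : H) (y : SL₂), φ y = h → (h ∈ D.T a ↔ Commute y (up 1)) := by
    intro h y hy
    show (h : PSL₂) ∈ tor (a : PSL₂) ↔ _
    rw [hPa, ← hy]
    show proj (cj P hP y) ∈ tor (proj (cj P hP (up 1))) ↔ _
    rw [mem_tor_iff, commute_map_iff (conjHom_injective P hP)]
  have hmemN : ∀ (h : H) (y : SL₂), φ y = h → (h ∈ N ↔ y.1 1 0 = 0) := by
    intro h y hy
    rw [hNdef, D.mem_normalizer_iff ha, hmemT (h * a * h⁻¹) (y * up 1 * y⁻¹) ?_, lower_entry_iff]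
    simp only [Subgroup.coe_mul, Subgroup.coe_inv, map_mul, map_inv, hy]
    rw [hPa]
    rfl
  have hptpre : ∀ (h : H) (y : SL₂), φ y = h → pt (pre h) = pt y := by
    intro h y hy
    rcases hφeq y (pre h) (hy.trans (hpre h).symm) with e' | e' <;> rw [e']
    exact pt_neg y
  -- the subgroup of translations
  let A0 : AddSubgroup F :=
    { carrier := {s | up s ∈ Y}
      add_mem' := fun {r s} hr hs => by show up (r + s) ∈ Y; rw [← up_mul]; exact Y.mul_mem hr hs
      zero_mem' := by show up (0 : F) ∈ Y; rw [up_zero]; exact Y.one_mem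
      neg_mem' := fun {s} hs => by
        show up (-s) ∈ Y
        rw [eq_inv_of_mul_eq_one_left (show up (-s) * up s = (1 : SL₂) by rw [up_mul, neg_add_cancel, up_zero])]
        exact Y.inv_mem hs }
  have hA0 : Nat.card A0 = e := by
    let f : A0 → D.T a := fun s => ⟨⟨φ (up s.1), s.2⟩, (hmemT _ (up s.1) rfl).mpr (commute_up _ _)⟩
    refine Nat.card_eq_of_bijective f ⟨fun r s h => ?_, fun h => ?_⟩
    · have h' : φ (up r.1) = φ (up s.1) := congrArg (fun z : D.T a => ((z : H) : PSL₂)) h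
      exact Subtype.ext (eq_of_up_eq (hφeq _ _ h')).symm
    · have hc := (hmemT h.1 (pre h.1) (hpre h.1)).mp h.2
      obtain ⟨s, hs⟩ := eq_pm_up hc
      have hφh : φ (up s) = ((h : H) : PSL₂) := by
        rcases hs with e' | e'
        · rw [← e', hpre]
        · rw [← hφneg, ← e', hpre]
      refine ⟨⟨s, show φ (up s) ∈ H by rw [hφh]; exact h.1.2⟩, Subtype.ext (Subtype.ext hφh)⟩
  -- the points
  let Ω : Finset F := Finset.univ.filter (fun x => ∃ y ∈ Y, pt y = some x)
  have hΩ : Ω.card = e := by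
    let S : Finset (Option F) := insert none (Ω.map ⟨some, Option.some_injective _⟩)
    have hS : S.card = Ω.card + 1 := by
      rw [Finset.card_insert_of_notMem (by simp), Finset.card_map]
    let Ψ : H ⧸ N → {o // o ∈ S} := Quotient.lift (s := QuotientGroup.leftRel N)
      (fun h => (⟨pt (pre h), by
        cases hc : pt (pre h) with
        | none => exact Finset.mem_insert_self ..
        | some x =>
          refine Finset.mem_insert_of_mem (Finset.mem_map_of_mem _ (Finset.mem_filter.mpr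
            ⟨Finset.mem_univ x, pre h, ?_, hc⟩))
          show φ (pre h) ∈ H
          rw [hpre]; exact h.2⟩ : {o // o ∈ S}))
      (fun h k hhk => Subtype.ext (by
        rw [pt_eq_pt]
        exact (hmemN (h⁻¹ * k) ((pre h)⁻¹ * pre k) (by simp [hpre])).mp (QuotientGroup.leftRel_apply.mp hhk)))
    have hΨ : Function.Bijective Ψ := by
      constructor
      · intro x y
        induction x using QuotientGroup.induction_on with | H h => ?_
        induction y using QuotientGroup.induction_on with | H k => ?_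
        intro e'
        refine QuotientGroup.eq.mpr ?_
        exact (hmemN (h⁻¹ * k) ((pre h)⁻¹ * pre k) (by simp [hpre])).mpr
          (pt_eq_pt.mp (congrArg Subtype.val e'))
      · rintro ⟨o, ho⟩
        rcases Finset.mem_insert.mp ho with rfl | ho
        · refine ⟨((1 : H) : H ⧸ N), Subtype.ext ?_⟩
          show pt (pre 1) = none
          rw [hptpre 1 1 (map_one φ), pt_eq_none]
          simp
        · obtain ⟨x, hx, rfl⟩ := Finset.mem_map.mp ho
          obtain ⟨-, y, hy, hyx⟩ := Finset.mem_filter.mp hx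
          refine ⟨((⟨φ y, hy⟩ : H) : H ⧸ N), Subtype.ext ?_⟩
          show pt (pre _) = some x
          rw [hptpre _ y rfl, hyx]
    have hc := Nat.card_eq_of_bijective Ψ hΨ
    rw [← Subgroup.index_eq_card, Nat.card_eq_fintype_card, Fintype.card_coe, hS] at hc
    have h1 := Subgroup.card_mul_index N
    rw [hN, hH, hc] at h1
    have hpos : 0 < e * t := by
      have : 0 < t := by omega
      positivity
    have := Nat.eq_of_mul_eq_mul_left hpos h1
    omega
  -- the multipliers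
  have hup0 : ∀ (y : SL₂), y.1 1 0 = 0 → y.1 0 0 ≠ 0 := fun y hy h0 => by
    have d := det_eq y
    rw [hy, h0] at d; simp at d
  let θ : N →* Fˣ :=
    { toFun := fun h => (Units.mk0 _ (hup0 _ ((hmemN h.1 (pre h.1) (hpre h.1)).mp h.2))) ^ 2
      map_one' := by
        refine Units.ext ?_
        simp only [Units.val_pow_eq_pow_val, Units.val_mk0, Units.val_one]
        rcases hφeq 1 (pre (1 : H)) (((map_one φ)).trans (hpre 1).symm) with e' | e' <;> rw [Subgroup.coe_one, e'] <;> simp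
      map_mul' := fun h k => by
        refine Units.ext ?_
        simp only [Units.val_mul, Units.val_pow_eq_pow_val, Units.val_mk0, ← mul_pow]
        have hk := (hmemN k.1 (pre k.1) (hpre k.1)).mp k.2
        have hmul : (pre h.1 * pre k.1).1 0 0 = (pre h.1).1 0 0 * (pre k.1).1 0 0 := by
          simp [Matrix.mul_apply, Fin.sum_univ_two, hk]
        rcases hφeq (pre h.1 * pre k.1) (pre (h * k : N).1) (by simp [hpre]) with e' | e' <;>
          rw [e', ← hmul] <;> simp }
  have hθ : ∀ (h : N) (y : SL₂), φ y = (h : H) → (θ h : F) = y.1 0 0 ^ 2 := by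
    intro h y hy
    show (((Units.mk0 _ (hup0 _ ((hmemN h.1 (pre h.1) (hpre h.1)).mp h.2))) ^ 2 : Fˣ) : F) = _
    rw [Units.val_pow_eq_pow_val, Units.val_mk0]
    rcases hφeq y (pre h.1) (hy.trans (hpre h.1).symm) with e' | e' <;> rw [e'] <;> simp
  have hker : θ.ker = (D.T a).subgroupOf N := by
    ext h
    rw [MonoidHom.mem_ker, Subgroup.mem_subgroupOf, hmemT h.1 (pre h.1) (hpre h.1), commute_up_one_iff,
      Units.ext_iff, hθ h (pre h.1) (hpre h.1), Units.val_one]
    have hlow := (hmemN h.1 (pre h.1) (hpre h.1)).mp h.2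
    have d := det_eq (pre h.1)
    rw [hlow, mul_zero, sub_zero] at d
    constructor
    · intro h2
      exact ⟨hlow, mul_left_cancel₀ (hup0 _ hlow) (((sq _).symm.trans h2).trans d.symm)⟩
    · rintro ⟨-, h2⟩
      rw [← h2] at d; rw [sq, d]
  have hrange : Nat.card θ.range = t := by
    have h1 := Subgroup.card_mul_index θ.ker
    rw [Subgroup.index_ker] at h1
    rw [hker, Nat.card_congr (Subgroup.subgroupOfEquivOfLe (Subgroup.le_normalizer : D.T a ≤ N)).toEquiv,
      hN] at h1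
    exact Nat.eq_of_mul_eq_mul_left (by omega) h1
  let M : Finset F := Finset.univ.filter (fun m => ∃ y ∈ Y, y.1 1 0 = 0 ∧ y.1 0 0 ^ 2 = m)
  have hM : M.card = t := by
    rw [← hrange, ← Fintype.card_coe, ← Nat.card_eq_fintype_card]
    let f : θ.range → {m // m ∈ M} := fun u => ⟨((u : Fˣ) : F), by
      obtain ⟨h, hh⟩ := u.2
      refine Finset.mem_filter.mpr ⟨Finset.mem_univ _, pre h.1, ?_, (hmemN h.1 (pre h.1) (hpre h.1)).mp h.2, ?_⟩
      · show φ (pre h.1) ∈ H
        rw [hpre]; exact h.1.2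
      · rw [← hh, hθ h (pre h.1) (hpre h.1)]⟩
    refine (Nat.card_eq_of_bijective f ⟨fun u v h => Subtype.ext (Units.ext (congrArg Subtype.val h)), ?_⟩).symm
    rintro ⟨m, hm⟩
    obtain ⟨-, y, hy, hy0, hym⟩ := Finset.mem_filter.mp hm
    let h : N := ⟨⟨φ y, hy⟩, (hmemN _ y rfl).mpr hy0⟩
    exact ⟨⟨θ h, h, rfl⟩, Subtype.ext ((hθ h y rfl).trans hym)⟩
  have hMA : ∀ m ∈ M, ∀ s ∈ A0, m * s ∈ A0 := by
    intro m hm s hs
    obtain ⟨-, y, hy, hy0, rfl⟩ := Finset.mem_filter.mp hm
    show up (_ * s) ∈ Y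
    rw [← conj_up hy0 s]
    exact Y.mul_mem (Y.mul_mem hy hs) (Y.inv_mem hy)
  have hM0 : (0 : F) ∉ M := fun h => by
    obtain ⟨-, y, -, hy0, hym⟩ := Finset.mem_filter.mp h
    exact hup0 y hy0 (pow_eq_zero_iff two_ne_zero |>.mp hym)
  -- normalise: the points are a translate of the translations
  obtain ⟨b, hb⟩ := Finset.card_pos.mp (by omega : 0 < Ω.card)
  have hΩA : ∀ x ∈ Ω, x - b ∈ A0 := by
    haveI : Fintype A0 := Fintype.ofFinite _
    let T : Finset F := (Finset.univ.filter (fun s => s ∈ A0)).map (addRightEmbedding b)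
    have hsub : T ⊆ Ω := by
      intro x hx
      obtain ⟨s, hs, rfl⟩ := Finset.mem_map.mp hx
      obtain ⟨-, y, hy, hyb⟩ := Finset.mem_filter.mp hb
      obtain ⟨hy10, hyv⟩ := pt_eq_some.mp hyb
      refine Finset.mem_filter.mpr ⟨Finset.mem_univ _, up s * y, Y.mul_mem (Finset.mem_filter.mp hs).2 hy, ?_⟩
      rw [pt_eq_some]
      simp only [Matrix.SpecialLinearGroup.coe_mul]
      simp only [up, Matrix.mul_apply, Fin.sum_univ_two, Matrix.of_apply, Matrix.cons_val', Matrix.cons_val_zero,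
        Matrix.cons_val_one, Matrix.cons_val_fin_one, one_mul, zero_mul, zero_add]
      refine ⟨hy10, ?_⟩
      rw [← hyv]
      simp only [addRightEmbedding_apply]
      field_simp
      ring
    have heq : T = Ω := Finset.eq_of_subset_of_card_le hsub (by
      rw [Finset.card_map, hΩ, ← hA0, Nat.card_eq_fintype_card, Fintype.card_of_subtype]
      exact fun x => ⟨fun h => (Finset.mem_filter.mp h).2, fun h => Finset.mem_filter.mpr ⟨Finset.mem_univ _, h⟩⟩)
    intro x hx
    rw [← heq] at hx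
    obtain ⟨s, hs, rfl⟩ := Finset.mem_map.mp hx
    simpa using (Finset.mem_filter.mp hs).2
  obtain ⟨a0, ha0, ha00⟩ : ∃ s ∈ A0, s ≠ 0 := by
    by_contra hc
    push Not at hc
    haveI : Subsingleton A0 := ⟨fun r s => Subtype.ext ((hc _ r.2).trans (hc _ s.2).symm)⟩
    have := Finite.card_le_one_iff_subsingleton.mpr this
    omega
  have hQ : IsUnit (!![a0, b; 0, 1] : Matrix (Fin 2) (Fin 2) F).det := by
    simpa [Matrix.det_fin_two_of, isUnit_iff_ne_zero] using ha00
  set Q : Matrix (Fin 2) (Fin 2) F := !![a0, b; 0, 1] with hQdef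
  let Y' : Subgroup SL₂ := Y.comap (cj Q hQ)
  have hrel : ∀ y : SL₂, (cj Q hQ y).1 1 0 * a0 = y.1 1 0 ∧
      (cj Q hQ y).1 0 0 * a0 = a0 * y.1 0 0 + b * y.1 1 0 := by
    intro y
    have h := (conjHom_eq_iff Q hQ y _).mp rfl
    have h10 := congrFun (congrFun h 1) 0
    have h00 := congrFun (congrFun h 0) 0
    simp [hQdef, Matrix.mul_apply, Fin.sum_univ_two] at h10 h00
    exact ⟨h10.symm, h00.symm⟩
  have hQup : ∀ s : F, cj Q hQ (up s) = up (a0 * s) := fun s => by
    rw [conjHom_eq_iff]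
    ext i j
    fin_cases i <;> fin_cases j <;> simp [hQdef, up, Matrix.mul_apply, Fin.sum_univ_two]
    ring
  let A : AddSubgroup F := A0.comap (AddMonoidHom.mulLeft a0)
  have hA : Nat.card A = e := by
    rw [← hA0]
    refine Nat.card_eq_of_bijective (fun s => (⟨a0 * s.1, s.2⟩ : A0))
      ⟨fun r s h => Subtype.ext (mul_left_cancel₀ ha00 (congrArg Subtype.val h)), fun s => ?_⟩
    exact ⟨⟨a0⁻¹ * s.1, show a0 * (a0⁻¹ * s.1) ∈ A0 by rw [mul_inv_cancel_left₀ ha00]; exact s.2⟩,
      Subtype.ext (mul_inv_cancel_left₀ ha00 _)⟩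
  have hA1 : (1 : F) ∈ A := show a0 * 1 ∈ A0 by rw [mul_one]; exact ha0
  obtain ⟨K, hK⟩ := exists_subfield A hA hA1 he3 M hM hM0 (by omega) (fun m hm s hs => by
    show a0 * (m * s) ∈ A0
    rw [mul_left_comm]
    exact hMA m hm _ hs)
  have hKmem : ∀ x, x ∈ K ↔ a0 * x ∈ A0 := fun x => by rw [← SetLike.mem_coe, hK]; rfl
  have hu1 : up (1 : F) ∈ Y' := by
    show cj Q hQ (up 1) ∈ Y
    rw [hQup, mul_one]; exact ha0
  obtain ⟨w, hwY, hw10, hw00⟩ : ∃ w ∈ Y', w.1 1 0 ≠ 0 ∧ w.1 0 0 = 0 := by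
    obtain ⟨-, z, hz, hzb⟩ := Finset.mem_filter.mp hb
    obtain ⟨w, rfl⟩ := conjHom_surjective Q hQ z
    obtain ⟨r1, r2⟩ := hrel w
    obtain ⟨z10, hzv⟩ := pt_eq_some.mp hzb
    refine ⟨w, hz, r1 ▸ mul_ne_zero z10 ha00, ?_⟩
    rw [div_eq_iff z10] at hzv
    rw [hzv] at r2
    have : a0 * w.1 0 0 = 0 := by linear_combination -r2 + b * r1
    exact (mul_eq_zero.mp this).resolve_left ha00
  have hpts : ∀ y ∈ Y', y.1 1 0 ≠ 0 → y.1 0 0 / y.1 1 0 ∈ K := by
    intro y hy hy10
    obtain ⟨r1, r2⟩ := hrel y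
    have z10 : (cj Q hQ y).1 1 0 ≠ 0 := fun h => hy10 (by rw [← r1, h, zero_mul])
    have hmem := hΩA _ (Finset.mem_filter.mpr ⟨Finset.mem_univ _, cj Q hQ y, hy, pt_eq_some.mpr ⟨z10, rfl⟩⟩)
    rw [hKmem]
    convert hmem using 1
    rw [show (cj Q hQ y).1 0 0 / (cj Q hQ y).1 1 0 =
      ((cj Q hQ y).1 0 0 * a0) / ((cj Q hQ y).1 1 0 * a0) from (mul_div_mul_right _ _ ha00).symm, r2, r1]
    field_simp
    ring
  set J := Y'.map toP with hJdef
  have hJle : J ≤ (pglMap K.subtype).range := by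
    rintro _ ⟨y, hy, rfl⟩
    exact toP_mem_range K Y' hwY hu1 hw10 hw00 hpts hy
  have hPQ : IsUnit (P * Q).det := by rw [Matrix.det_mul]; exact hP.mul hQ
  let G0 : GL (Fin 2) F := Matrix.GeneralLinearGroup.mkOfDetNeZero (P * Q) (isUnit_iff_ne_zero.mp hPQ)
  have hmap : H.map Matrix.ProjectiveSpecialLinearGroup.toPGL =
      J.map (MulAut.conj (Matrix.ProjGenLinGroup.mk G0)).toMonoidHom := by
    have key : ∀ y : SL₂, Matrix.ProjectiveSpecialLinearGroup.toPGL (φ (cj Q hQ y)) =
        Matrix.ProjGenLinGroup.mk G0 * toP y * (Matrix.ProjGenLinGroup.mk G0)⁻¹ := by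
      intro y
      simp only [φ, MonoidHom.comp_apply, toPGL_proj]
      rw [conjHom_comp P Q hP hQ hPQ]
      exact toP_conjHom G0 hPQ y
    ext x
    constructor
    · rintro ⟨h, hh, rfl⟩
      obtain ⟨z, rfl⟩ := hφs h
      obtain ⟨y, rfl⟩ := conjHom_surjective Q hQ z
      exact ⟨toP y, Subgroup.mem_map_of_mem _ (show y ∈ Y' from hh), (key y).symm⟩
    · rintro ⟨_, ⟨y, hy, rfl⟩, rfl⟩
      exact ⟨φ (cj Q hQ y), hy, key y⟩
  have hJc : Nat.card J = e * t * (e + 1) := by
    rw [← hH, ← Subgroup.card_map_of_injective (Matrix.ProjectiveSpecialLinearGroup.toPGL_injective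
      (n := Fin 2) (R := F)), hmap, Subgroup.card_map_of_injective (f := (MulAut.conj (Matrix.ProjGenLinGroup.mk G0)).toMonoidHom)
        (MulAut.conj (Matrix.ProjGenLinGroup.mk G0)).injective]
  have hKc : Nat.card K = e := by
    rw [← hA]
    exact Nat.card_congr (Equiv.setCongr hK)
  refine ⟨K, G0, by omega, ?_⟩
  rcases eq_img_of_card K J hJle hKc he3 hJc htt with e' | e' <;> rw [hmap, e']
  · exact Or.inl rfl
  · exact Or.inr rfl

/-- The possibilities for a subgroup of `PSL(2, F)`. -/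
inductive Shape (H : Subgroup PSL₂) : Prop
  | trivial (h : H = ⊥)
  | cyclic (a : PSL₂) (ha : a ∈ H) (ha1 : a ≠ 1) (hap : a ^ p ≠ 1) (h : H ≤ tor a)
  | dihedral (a : PSL₂) (ha : a ∈ H) (ha1 : a ≠ 1) (hap : a ^ p ≠ 1)
      (hidx : ((tor a).subgroupOf H).index = 2) (h : H ≤ Subgroup.normalizer (tor a : Set PSL₂))
      (iso : Nonempty (H ≃* DihedralGroup (Nat.card ((tor a).subgroupOf H))))
  | borel (a : PSL₂) (ha : a ∈ H) (ha1 : a ≠ 1) (hap : a ^ p = 1)
      (h : H ≤ Subgroup.normalizer (tor a : Set PSL₂))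
  | alt4 (hc : Nat.card H = 12) (iso : Nonempty (H ≃* alternatingGroup (Fin 4)))
      (hp : ¬ p ∣ Nat.card H ∨ p = 3)
  | perm4 (hc : Nat.card H = 24) (iso : Nonempty (H ≃* Equiv.Perm (Fin 4))) (hp : ¬ p ∣ Nat.card H)
  | alt5 (hc : Nat.card H = 60) (iso : Nonempty (H ≃* alternatingGroup (Fin 5)))
      (hp : ¬ p ∣ Nat.card H ∨ p = 3)
  | subfield (h : SubfieldType H)

/-- Dickson's classification. -/
theorem dickson (H : Subgroup PSL₂) : Shape p H := by
  have hmem : ∀ a : H, (((pslData (F := F) p).restrict H).T a) = (tor (a : PSL₂)).subgroupOf H :=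
    fun a => rfl
  have hle : ∀ a : H, a ≠ 1 → Subgroup.normalizer (((pslData (F := F) p).restrict H).T a : Set H) = ⊤ →
      H ≤ Subgroup.normalizer (tor (a : PSL₂) : Set PSL₂) := by
    intro a ha h x hx
    have := ((pslData (F := F) p).restrict H).mem_normalizer_iff ha (g := ⟨x, hx⟩)
    rw [h] at this
    exact ((pslData (F := F) p).mem_normalizer_iff (fun e => ha (Subtype.ext e))).mpr
      (this.mp (Subgroup.mem_top _))
  have hcoe : ∀ {a : H}, a ≠ 1 → ((a : PSL₂) ≠ 1) := fun ha e => ha (Subtype.ext e)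
  have hpow : ∀ {a : H}, a ^ p ≠ 1 → ((a : PSL₂) ^ p ≠ 1) := fun ha e =>
    ha (Subtype.ext (by simpa using e))
  rcases ((pslData (F := F) p).restrict H).classify hp.out with h | ⟨a, ha, hap, h⟩ |
    ⟨a, ha, hap, hidx, hN, iso⟩ | ⟨a, ha, hap, hN⟩ | ⟨h1, h2, h3⟩ | ⟨h1, h2, h3⟩ | ⟨h1, h2, h3⟩ |
    ⟨a, t, ha, hap, he3, ht2, htt, hN, hH⟩
  · exact .trivial (Subgroup.eq_bot_of_card_eq _ h)
  · exact .cyclic a a.2 (hcoe ha) (hpow hap) (Subgroup.subgroupOf_eq_top.mp h)
  · exact .dihedral a a.2 (hcoe ha) (hpow hap) hidx (hle a ha hN) iso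
  · exact .borel a a.2 (hcoe ha) (by simpa using congrArg Subtype.val hap) (hle a ha hN)
  · exact .alt4 h1 h2 h3
  · exact .perm4 h1 h2 h3
  · exact .alt5 h1 h2 h3
  · exact .subfield (subfield_of_kind p H a t ha hap he3 htt hN hH)

end Cfsg.Agent.Dickson
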