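import Mathlib
import Cfsg.Agent.Lib.Classical.DicksonMain

/-!
Basic numerical and structural facts about the subgroups occurring in Dickson's classification.
-/

set_option autoImplicit false

namespace Cfsg.Agent.Dickson

open Matrix Cfsg.Agent.Grp.SL2 Cfsg.Agent.PSL2Spec

section Congr

variable {K L : Type*} [Field K] [Field L]

theorem nonempty_psl_congr (e : K ≃+* L) :
    Nonempty (Matrix.ProjectiveSpecialLinearGroup (Fin 2) K ≃* Matrix.ProjectiveSpecialLinearGroup (Fin 2) L) := by
  obtain ⟨i⟩ := nonempty_pslImg (e : K →+* L)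
  have htop : pslImg (e : K →+* L) = (Matrix.ProjectiveSpecialLinearGroup.toPGL (n := Fin 2) (R := L)).range := by
    ext x
    constructor
    · rintro ⟨y, rfl⟩
      obtain ⟨z, rfl⟩ := QuotientGroup.mk_surjective y
      refine ⟨QuotientGroup.mk (Matrix.SpecialLinearGroup.map (e : K →+* L) z), ?_⟩
      show Matrix.ProjGenLinGroup.mk _ = Matrix.ProjGenLinGroup.mk _
      refine congrArg _ (Units.ext ?_)
      ext i j
      simp
    · rintro ⟨y, rfl⟩
      obtain ⟨z, rfl⟩ := QuotientGroup.mk_surjective y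
      refine ⟨QuotientGroup.mk (Matrix.SpecialLinearGroup.map (e.symm : L →+* K) z), ?_⟩
      show Matrix.ProjGenLinGroup.mk _ = Matrix.ProjGenLinGroup.mk _
      refine congrArg _ (Units.ext ?_)
      ext i j
      simp
  exact ⟨i.symm.trans ((MulEquiv.subgroupCongr htop).trans
    (MonoidHom.ofInjective Matrix.ProjectiveSpecialLinearGroup.toPGL_injective).symm)⟩

theorem pglMap_surjective (e : K ≃+* L) : Function.Surjective (pglMap (e : K →+* L)) := by
  intro x
  induction x using Matrix.ProjGenLinGroup.induction_on with | mk g => ?_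
  refine ⟨Matrix.ProjGenLinGroup.mk (Matrix.GeneralLinearGroup.map (e.symm : L →+* K) g), ?_⟩
  rw [pglMap_mk]
  refine congrArg _ (Units.ext ?_)
  ext i j
  simp

theorem nonempty_pgl_congr (e : K ≃+* L) :
    Nonempty (Matrix.ProjGenLinGroup (Fin 2) K ≃* Matrix.ProjGenLinGroup (Fin 2) L) :=
  ⟨MulEquiv.ofBijective (pglMap (e : K →+* L)) ⟨pglMap_injective _, pglMap_surjective e⟩⟩

/-- Every finite field has a model in `Type`. -/
theorem exists_type_model (K : Type*) [Field K] [Finite K] :
    ∃ (K' : Type) (_ : Field K') (_ : Fintype K'), Nonempty (K' ≃+* K) := by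
  haveI : Fintype K := Fintype.ofFinite K
  obtain ⟨p, hc⟩ := CharP.exists K
  obtain ⟨n, hp, hn⟩ := FiniteField.card K p
  haveI : Fact p.Prime := ⟨hp⟩
  haveI : Fintype (GaloisField p n) := Fintype.ofFinite _
  exact ⟨GaloisField p n, inferInstance, inferInstance, ⟨FiniteField.ringEquivOfCardEq (by
    rw [← Nat.card_eq_fintype_card, GaloisField.card p n n.pos.ne', hn])⟩⟩

end Congr

variable {F : Type*} [Field F] [Fintype F]

local notation "PSL₂" => Matrix.ProjectiveSpecialLinearGroup (Fin 2) F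

theorem SubfieldType.nonempty {H : Subgroup PSL₂} (h : SubfieldType H) :
    ∃ (K : Type) (_ : Field K) (_ : Fintype K) (m : ℕ), 3 ≤ Fintype.card K ∧ Fintype.card K ^ m = Fintype.card F ∧
      (Nonempty (H ≃* Matrix.ProjectiveSpecialLinearGroup (Fin 2) K) ∨
        Nonempty (H ≃* Matrix.ProjGenLinGroup (Fin 2) K)) := by
  obtain ⟨K, P, h3, h⟩ := h
  haveI : Fintype K := Fintype.ofFinite K
  obtain ⟨K', hF', hK', ⟨e⟩⟩ := exists_type_model K
  have hc : Fintype.card K' = Fintype.card K := Fintype.card_congr e.toEquiv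
  refine ⟨K', hF', hK', Module.finrank K F, by rw [hc, ← Nat.card_eq_fintype_card]; exact h3,
    by rw [hc, ← Module.card_eq_pow_finrank], ?_⟩
  let j := Subgroup.equivMapOfInjective H _ (Matrix.ProjectiveSpecialLinearGroup.toPGL_injective (n := Fin 2) (R := F))
  rcases h with h | h
  · obtain ⟨i⟩ := nonempty_pglImg K.subtype
    obtain ⟨c⟩ := nonempty_pgl_congr e
    exact Or.inr ⟨j.trans ((MulEquiv.subgroupCongr h).trans
      ((Subgroup.equivMapOfInjective _ _ (MulEquiv.injective _)).symm.trans (i.trans c.symm)))⟩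
  · obtain ⟨i⟩ := nonempty_pslImg K.subtype
    obtain ⟨c⟩ := nonempty_psl_congr e
    exact Or.inl ⟨j.trans ((MulEquiv.subgroupCongr h).trans
      ((Subgroup.equivMapOfInjective _ _ (MulEquiv.injective _)).symm.trans (i.trans c.symm)))⟩

variable (p : ℕ) [hp : Fact p.Prime] [CharP F p]

/-- The orders of the cyclic tori. -/
theorem card_tor_dvd {a : PSL₂} (ha : a ≠ 1) (hap : a ^ p ≠ 1) :
    Nat.card (tor a) ∣ (Fintype.card F - 1) / Nat.gcd 2 (Fintype.card F - 1) ∨
      Nat.card (tor a) ∣ (Fintype.card F + 1) / Nat.gcd 2 (Fintype.card F - 1) := by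
  haveI : IsCyclic (tor a) := (pslData (F := F) p).semi_cyclic ha hap
  obtain ⟨g, hg⟩ := IsCyclic.exists_generator (α := tor a)
  have ho : orderOf (g : PSL₂) = Nat.card (tor a) := by
    rw [Subgroup.orderOf_coe]; exact orderOf_eq_card_of_forall_mem_zpowers hg
  rcases order_dvd p (g : PSL₂) with h | h | h
  · exfalso
    have hd := (pslData (F := F) p).not_dvd_card hp.out ha hap
    have h1 : orderOf (g : PSL₂) = 1 :=
      (hp.out.eq_one_or_self_of_dvd _ h).resolve_right fun e => hd (dvd_of_eq (e.symm.trans ho))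
    rw [ho] at h1
    have hb : tor a = ⊥ := Subgroup.eq_bot_of_card_eq _ h1
    exact ha (Subgroup.mem_bot.mp (hb ▸ (pslData (F := F) p).self a))
  · exact Or.inl (ho ▸ h)
  · exact Or.inr (ho ▸ h)

end Cfsg.Agent.Dickson
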