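import Mathlib
import Cfsg.Agent.Lib.Classical.DicksonFacts

/-!
Exact orders of the tori and Borel subgroups of `PSL(2, F)` and of their normalisers.
-/

set_option autoImplicit false

namespace Cfsg.Agent.Dickson

open Matrix Cfsg.Agent.Grp.SL2 Cfsg.Agent.PSL2Spec

variable {F : Type*} [Field F] [Fintype F]

local notation "SL₂" => Matrix.SpecialLinearGroup (Fin 2) F
local notation "cj" => Cfsg.Agent.Grp.SL2.conjHom
local notation "PSL₂" => Matrix.ProjectiveSpecialLinearGroup (Fin 2) F

variable (F) in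
/-- `gcd 2 (q - 1)`. -/
def del : ℕ := Nat.gcd 2 (Fintype.card F - 1)

variable (F) in
theorem del_cases : (del F = 1 ∧ Even (Fintype.card F)) ∨ (del F = 2 ∧ Odd (Fintype.card F)) := by
  have := Fintype.one_lt_card (α := F)
  rcases Nat.even_or_odd (Fintype.card F) with h | h
  · refine Or.inl ⟨Nat.coprime_two_left.mpr ?_, h⟩
    obtain ⟨m, hm⟩ := h
    exact ⟨m - 1, by omega⟩
  · refine Or.inr ⟨Nat.gcd_eq_left ?_, h⟩
    obtain ⟨m, hm⟩ := h
    exact ⟨m, by omega⟩

variable (F) in
theorem del_dvd : del F ∣ Fintype.card F - 1 ∧ del F ∣ Fintype.card F + 1 := dd_dvd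

theorem card_ker_proj : Nat.card (proj : SL₂ →* PSL₂).ker = del F := by
  rw [proj, QuotientGroup.ker_mk', Classical.natCard_center_SL, Classical.natCard_units_field]
  rfl

theorem card_map_proj (A : Subgroup SL₂) (h : ∀ z, IsScalar z → z ∈ A) :
    Nat.card (A.map proj) * del F = Nat.card A := by
  have hle : (proj : SL₂ →* PSL₂).ker ≤ A := fun z hz => h z (proj_one_iff.mp hz)
  have h1 := Subgroup.card_mul_index ((proj : SL₂ →* PSL₂).subgroupMap A).ker
  have hk : ((proj : SL₂ →* PSL₂).subgroupMap A).ker = (proj : SL₂ →* PSL₂).ker.subgroupOf A := by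
    ext x
    rw [MonoidHom.mem_ker, Subgroup.mem_subgroupOf, MonoidHom.mem_ker]
    exact Subtype.ext_iff
  rw [Subgroup.index_ker, MonoidHom.range_eq_top.mpr ((proj : SL₂ →* PSL₂).subgroupMap_surjective A),
    Subgroup.card_top, hk, Nat.card_congr (Subgroup.subgroupOfEquivOfLe hle).toEquiv, card_ker_proj] at h1
  rw [mul_comm, h1]

section Semi

/-- The centraliser of `x` in the general linear group. -/
abbrev cenGL (x : SL₂) : Subgroup (GL (Fin 2) F) :=
  Subgroup.centralizer {Matrix.SpecialLinearGroup.toGL x}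

theorem linear_mem_cenGL {x : SL₂} {u : GL (Fin 2) F} (a b : F)
    (hu : (u : Matrix (Fin 2) (Fin 2) F) = a • (x : Matrix (Fin 2) (Fin 2) F) + b • 1) : u ∈ cenGL x := by
  rw [Subgroup.mem_centralizer_singleton_iff]
  refine Units.ext ?_
  show (u : Matrix (Fin 2) (Fin 2) F) * x = x * u
  rw [hu, add_mul, mul_add, Matrix.smul_mul, Matrix.mul_smul, Matrix.smul_mul, Matrix.mul_smul, one_mul, mul_one]

theorem det_linear (x : SL₂) (a b : F) :
    (a • (x : Matrix (Fin 2) (Fin 2) F) + b • 1).det = a ^ 2 + a * b * tr x + b ^ 2 := by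
  have h := det_eq x
  simp [Matrix.det_fin_two, tr]
  linear_combination a ^ 2 * h

theorem card_cen_ge {x : SL₂} (hx : ¬ IsScalar x) : Fintype.card F - 1 ≤ Nat.card (cen x) := by
  classical
  haveI : Fintype (GL (Fin 2) F) := Fintype.ofFinite _
  set q := Fintype.card F with hq
  have hq1 := Fintype.one_lt_card (α := F)
  -- pairs with non-zero norm
  let P : Finset (F × F) := Finset.univ.filter (fun ab => ab.1 ^ 2 + ab.1 * ab.2 * tr x + ab.2 ^ 2 ≠ 0)
  have hP : (q - 1) * (q - 1) ≤ P.card := by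
    have hz : (Finset.univ.filter (fun ab : F × F => ab.1 ^ 2 + ab.1 * ab.2 * tr x + ab.2 ^ 2 = 0)).card ≤
        2 * q - 1 := by
      rw [Finset.card_eq_sum_card_fiberwise (f := Prod.fst) (t := Finset.univ) (fun _ _ => Finset.mem_univ _),
        ← Finset.add_sum_erase _ _ (Finset.mem_univ (0 : F))]
      have h0 : ((Finset.univ.filter (fun ab : F × F => ab.1 ^ 2 + ab.1 * ab.2 * tr x + ab.2 ^ 2 = 0)).filter
          (fun ab => ab.1 = 0)).card ≤ 1 := by
        refine Finset.card_le_one.mpr fun u hu v hv => ?_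
        simp only [Finset.mem_filter, Finset.mem_univ, true_and] at hu hv
        obtain ⟨hu1, hu2⟩ := hu
        obtain ⟨hv1, hv2⟩ := hv
        rw [hu2] at hu1; rw [hv2] at hv1
        simp at hu1 hv1
        exact Prod.ext (hu2.trans hv2.symm) (hu1.trans hv1.symm)
      have h1 : ∀ a ∈ (Finset.univ : Finset F).erase 0,
          ((Finset.univ.filter (fun ab : F × F => ab.1 ^ 2 + ab.1 * ab.2 * tr x + ab.2 ^ 2 = 0)).filter
            (fun ab => ab.1 = a)).card ≤ 2 := by
        intro a _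
        by_contra hc
        obtain ⟨u, v, w, hu, hv, hw, huv, huw, hvw⟩ := Finset.two_lt_card_iff.mp (not_le.mp hc)
        simp only [Finset.mem_filter, Finset.mem_univ, true_and] at hu hv hw
        obtain ⟨hu, rfl⟩ := hu
        obtain ⟨hv, hv1⟩ := hv
        obtain ⟨hw, hw1⟩ := hw
        rw [hv1] at hv; rw [hw1] at hw
        have d1 : u.2 - v.2 ≠ 0 := sub_ne_zero.mpr fun e => huv (Prod.ext hv1.symm e)
        have d2 : u.2 - w.2 ≠ 0 := sub_ne_zero.mpr fun e => huw (Prod.ext hw1.symm e)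
        have d3 : v.2 - w.2 ≠ 0 := sub_ne_zero.mpr fun e => hvw (Prod.ext (hv1.trans hw1.symm) e)
        have e1 : u.1 * tr x + u.2 + v.2 = 0 :=
          (mul_eq_zero.mp (show (u.2 - v.2) * (u.1 * tr x + u.2 + v.2) = 0 by linear_combination hu - hv)).resolve_left d1
        have e2 : u.1 * tr x + u.2 + w.2 = 0 :=
          (mul_eq_zero.mp (show (u.2 - w.2) * (u.1 * tr x + u.2 + w.2) = 0 by linear_combination hu - hw)).resolve_left d2
        exact d3 (by linear_combination e1 - e2)
      have h2 := Finset.sum_le_card_nsmul _ _ 2 h1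
      rw [Finset.card_erase_of_mem (Finset.mem_univ _), Finset.card_univ, smul_eq_mul, ← hq] at h2
      omega
    have h3 := Finset.card_filter_add_card_filter_not (s := (Finset.univ : Finset (F × F)))
      (fun ab => ab.1 ^ 2 + ab.1 * ab.2 * tr x + ab.2 ^ 2 = 0)
    rw [Finset.card_univ, Fintype.card_prod, ← hq] at h3
    obtain ⟨m, hm⟩ : ∃ m, q = m + 1 := ⟨q - 1, by omega⟩
    have : q * q = (q - 1) * (q - 1) + (2 * q - 1) := by
      rw [hm, Nat.add_sub_cancel, show 2 * (m + 1) - 1 = 2 * m + 1 by omega]; ring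
    have h4 : P.card = (Finset.univ.filter
        (fun ab : F × F => ¬ (ab.1 ^ 2 + ab.1 * ab.2 * tr x + ab.2 ^ 2 = 0))).card := by congr
    rw [h4]
    omega
  -- they give elements of the centraliser in `GL`
  have hcard : P.card ≤ Nat.card (cenGL x) := by
    rw [← Fintype.card_coe, ← Nat.card_eq_fintype_card]
    have hdet : ∀ ab : {ab // ab ∈ P},
        (ab.1.1 • (x : Matrix (Fin 2) (Fin 2) F) + ab.1.2 • 1).det ≠ 0 := fun ab => by
      rw [det_linear]; exact (Finset.mem_filter.mp ab.2).2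
    refine Nat.card_le_card_of_injective (fun ab : {ab // ab ∈ P} =>
      (⟨Matrix.GeneralLinearGroup.mkOfDetNeZero _ (hdet ab), linear_mem_cenGL _ _ rfl⟩ : cenGL x)) ?_
    intro ab cd h
    have e : ab.1.1 • (x : Matrix (Fin 2) (Fin 2) F) + ab.1.2 • 1 =
        cd.1.1 • (x : Matrix (Fin 2) (Fin 2) F) + cd.1.2 • 1 :=
      congrArg (fun u : cenGL x => ((u : GL (Fin 2) F) : Matrix (Fin 2) (Fin 2) F)) h
    have e1 : ab.1.1 = cd.1.1 := by
      by_contra hne
      refine hx (isScalar_of_coe (c := (cd.1.2 - ab.1.2) / (ab.1.1 - cd.1.1)) ?_)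
      have e' : (ab.1.1 - cd.1.1) • (x : Matrix (Fin 2) (Fin 2) F) = (cd.1.2 - ab.1.2) • 1 := by
        rw [sub_smul, sub_smul, sub_eq_sub_iff_add_eq_add, e]; abel
      rw [div_eq_inv_mul, ← smul_smul, ← e', inv_smul_smul₀ (sub_ne_zero.mpr hne)]
    refine Subtype.ext (Prod.ext e1 ?_)
    rw [e1] at e
    have e2 := congrArg (fun M : Matrix (Fin 2) (Fin 2) F => M 0 0) (add_left_cancel e)
    simpa using e2
  -- compare with the determinant
  let δ : cenGL x →* Fˣ := Matrix.GeneralLinearGroup.det.comp (cenGL x).subtype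
  have hker : Nat.card δ.ker ≤ Nat.card (cen x) := by
    refine Nat.card_le_card_of_injective (fun u : δ.ker =>
      (⟨⟨((u : cenGL x) : GL (Fin 2) F).1, congrArg Units.val u.2⟩, ?_⟩ : cen x)) ?_
    · refine mem_cen.mpr (Subtype.ext ?_)
      exact congrArg Units.val (Subgroup.mem_centralizer_singleton_iff.mp (u : cenGL x).2)
    · intro u v h
      exact Subtype.ext (Subtype.ext (Units.ext (congrArg (fun y : cen x => ((y : SL₂) : Matrix (Fin 2) (Fin 2) F)) h)))
  have h4 := Subgroup.card_mul_index δ.ker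
  rw [Subgroup.index_ker] at h4
  have h5 : Nat.card δ.range ≤ q - 1 := by
    rw [← Classical.natCard_units_field]
    exact Nat.card_le_card_of_injective _ Subtype.val_injective
  have h6 : (q - 1) * (q - 1) ≤ Nat.card (cen x) * (q - 1) :=
    (hP.trans hcard).trans (h4 ▸ Nat.mul_le_mul hker h5)
  exact Nat.le_of_mul_le_mul_right h6 (by omega)

/-- A determinant-one element inverting a semisimple element. -/
theorem exists_inverter {x : SL₂} (hx : IsSemi x) : ∃ g : SL₂, g * x * g⁻¹ = x⁻¹ ∧ ¬ Commute g x := by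
  classical
  set X := (x : Matrix (Fin 2) (Fin 2) F) with hX
  obtain ⟨a, b, c, htr, hdet⟩ : ∃ a b c : F, a * (X 0 0 - X 1 1) + b * X 1 0 + c * X 0 1 = 0 ∧
      -(a * a) - b * c ≠ 0 := by
    by_cases h01 : X 0 1 = 0
    · by_cases h10 : X 1 0 = 0
      · exact ⟨0, 1, 1, by rw [h01, h10]; ring, by simp⟩
      · exact ⟨X 1 0, -(X 0 0 - X 1 1), 0, by ring, by simpa using h10⟩
    · exact ⟨X 0 1, 0, -(X 0 0 - X 1 1), by ring, by simpa using h01⟩
  set G : Matrix (Fin 2) (Fin 2) F := !![a, b; c, -a] with hG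
  have hGd : G.det = -(a * a) - b * c := by simp [hG, Matrix.det_fin_two]
  -- adjust the determinant inside the algebra of `x`
  obtain ⟨r, s, hrs⟩ : ∃ r s : F, r ^ 2 + r * s * tr x + s ^ 2 = G.det⁻¹ := by
    by_cases h2 : (2 : F) = 0
    · haveI : CharP F 2 := CharTwo.of_one_ne_zero_of_two_eq_zero one_ne_zero h2
      obtain ⟨s, hs⟩ := FiniteField.isSquare_of_char_two (ringChar.eq F 2) G.det⁻¹
      exact ⟨0, s, by rw [hs]; ring⟩
    · have hodd : Fintype.card F % 2 = 1 := by
        refine FiniteField.odd_card_of_char_ne_two fun h => h2 ?_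
        haveI : CharP F 2 := by rw [← h]; exact ringChar.charP F
        exact CharTwo.two_eq_zero
      have hD : 1 - tr x ^ 2 / 4 ≠ 0 := fun h => hx.2 (by
        have h4 : (4 : F) ≠ 0 := fun e => h2 ((mul_eq_zero.mp (by linear_combination e : (2 : F) * 2 = 0)).elim id id)
        field_simp at h
        linear_combination -h)
      obtain ⟨u, v, huv⟩ := FiniteField.exists_root_sum_quadratic
        (f := (Polynomial.X ^ 2 : Polynomial F))
        (g := Polynomial.C (1 - tr x ^ 2 / 4) * Polynomial.X ^ 2 - Polynomial.C G.det⁻¹)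
        (Polynomial.degree_X_pow 2) (by
          rw [Polynomial.degree_sub_eq_left_of_degree_lt] <;>
            rw [Polynomial.degree_C_mul_X_pow 2 hD]
          · rfl
          · exact lt_of_le_of_lt Polynomial.degree_C_le (by norm_num)) hodd
      simp only [Polynomial.eval_pow, Polynomial.eval_X, Polynomial.eval_sub, Polynomial.eval_mul,
        Polynomial.eval_C] at huv
      refine ⟨v, u - v * tr x / 2, ?_⟩
      have h4 : (4 : F) = 2 * 2 := by norm_num
      rw [h4] at huv
      field_simp at huv ⊢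
      linear_combination huv
  have hdG : (((r • X + s • 1) * G).det) = 1 := by
    rw [Matrix.det_mul, det_linear, hrs, inv_mul_cancel₀ (hGd ▸ hdet)]
  let g : SL₂ := ⟨(r • X + s • 1) * G, hdG⟩
  have hGX : G * X = (x⁻¹ : SL₂).1 * G := by
    rw [Matrix.SpecialLinearGroup.coe_inv, Matrix.adjugate_fin_two, ← hX]
    ext i j
    fin_cases i <;> fin_cases j <;> simp [hG, Matrix.mul_apply, Fin.sum_univ_two] <;>
      first | linear_combination htr | linear_combination -htr | ring1
  have hinv : g * x = x⁻¹ * g := by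
    refine Subtype.ext ?_
    show (r • X + s • 1) * G * X = (x⁻¹ : SL₂).1 * ((r • X + s • 1) * G)
    have hc : Commute (r • X + s • 1) (x⁻¹ : SL₂).1 := by
      have : Commute X (x⁻¹ : SL₂).1 := congrArg Subtype.val ((Commute.refl x).inv_right).eq
      exact (this.smul_left r).add_left ((Commute.one_left _).smul_left s)
    rw [mul_assoc, hGX, ← mul_assoc, hc.eq, mul_assoc]
  refine ⟨g, mul_inv_eq_iff_eq_mul.mpr hinv, fun hc => ?_⟩
  have hxx : x = x⁻¹ := by
    rw [hc.eq] at hinv
    exact mul_right_cancel hinv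
  have hsq : x * x = 1 := by nth_rw 2 [hxx]; exact mul_inv_cancel x
  by_cases h2 : (2 : F) = 0
  · have h := cayley x
    rw [← Matrix.SpecialLinearGroup.coe_mul, hsq, Matrix.SpecialLinearGroup.coe_one] at h
    have e : tr x • X = 0 := by
      rw [eq_sub_iff_add_eq, ← two_smul F (1 : Matrix (Fin 2) (Fin 2) F), h2, zero_smul] at h
      exact h.symm
    rcases smul_eq_zero.mp e with e | e
    · exact hx.2 (by rw [e]; linear_combination -2 * h2)
    · have := x.2
      rw [← hX, e] at this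
      simp at this
  · exact hx.1 (mul_self_eq_one h2 hsq)

end Semi

variable (p : ℕ) [hp : Fact p.Prime] [CharP F p]

/-- The exact orders of the cyclic tori. -/
theorem card_tor_semi {a : PSL₂} (ha : a ≠ 1) (hap : a ^ p ≠ 1) :
    Nat.card (tor a) = (Fintype.card F - 1) / del F ∨ Nat.card (tor a) = (Fintype.card F + 1) / del F := by
  have hs := semi_lift p ha hap
  have h1 := card_map_proj (cen (lift a)) (fun z hz => mem_cen.mpr (hz.commute _))
  have h2 : Fintype.card F - 1 ≤ Nat.card (tor a) * del F := by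
    show _ ≤ Nat.card ((cen (lift a)).map proj) * _
    rw [h1]; exact card_cen_ge hs.1
  have h3 : 2 ≤ Nat.card (tor a) := by
    show 1 < _
    rw [Subgroup.one_lt_card_iff_ne_bot]
    exact fun hb => ha (Subgroup.mem_bot.mp (hb ▸ (pslData (F := F) p).self a))
  obtain ⟨⟨u, hu⟩, ⟨v, hv⟩⟩ := del_dvd F
  have hq := Fintype.one_lt_card (α := F)
  have hu' : (Fintype.card F - 1) / del F = u := by
    rw [hu]; exact Nat.mul_div_cancel_left _ (Nat.gcd_pos_of_pos_left _ two_pos)
  have hv' : (Fintype.card F + 1) / del F = v := by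
    rw [hv]; exact Nat.mul_div_cancel_left _ (Nat.gcd_pos_of_pos_left _ two_pos)
  rw [hu', hv']
  have hdiv := card_tor_dvd p ha hap
  change Nat.card (tor a) ∣ (Fintype.card F - 1) / del F ∨ Nat.card (tor a) ∣ (Fintype.card F + 1) / del F at hdiv
  rw [hu', hv'] at hdiv
  rw [hu] at h2
  have hdu : u ≤ Nat.card (tor a) := Nat.le_of_mul_le_mul_left (by rwa [mul_comm (Nat.card _)] at h2)
    (Nat.gcd_pos_of_pos_left _ two_pos)
  rcases hdiv with h | h
  · rcases Nat.eq_zero_or_pos u with rfl | hu0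
    · simp at hu; omega
    · exact Or.inl (le_antisymm (Nat.le_of_dvd hu0 h) hdu)
  · obtain ⟨m, hm⟩ := h
    rcases del_cases F with ⟨hd, -⟩ | ⟨hd, -⟩ <;> rw [hd] at hu hv
    · have hm3 : m < 4 := by
        by_contra hc
        have : Nat.card (tor a) * 4 ≤ Nat.card (tor a) * m := Nat.mul_le_mul_left _ (by omega)
        omega
      interval_cases m <;> omega
    · have hm3 : m < 4 := by
        by_contra hc
        have : Nat.card (tor a) * 4 ≤ Nat.card (tor a) * m := Nat.mul_le_mul_left _ (by omega)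
        omega
      interval_cases m <;> omega

theorem exists_flip {a : PSL₂} (ha : a ≠ 1) (hap : a ^ p ≠ 1) :
    ∃ g : PSL₂, g ∈ Subgroup.normalizer (tor a : Set PSL₂) ∧ g ∉ tor a := by
  have hs := semi_lift p ha hap
  obtain ⟨x, hx, rfl⟩ : ∃ x, IsSemi x ∧ proj x = a := ⟨lift a, hs, proj_lift a⟩
  obtain ⟨g, hg, hgn⟩ := exists_inverter hx
  refine ⟨proj g, ((pslData (F := F) p).mem_normalizer_iff ha).mpr ?_, fun h => hgn (mem_tor_iff.mp h)⟩
  show proj g * proj x * (proj g)⁻¹ ∈ tor (proj x)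
  rw [conj_mem_tor_iff, hg]
  exact (Commute.refl x).inv_left

theorem normalizer_tor {a : PSL₂} (ha : a ≠ 1) (hap : a ^ p ≠ 1) :
    Nat.card (Subgroup.normalizer (tor a : Set PSL₂)) = 2 * Nat.card (tor a) ∧
      Nonempty (Subgroup.normalizer (tor a : Set PSL₂) ≃* DihedralGroup (Nat.card (tor a))) := by
  set N := Subgroup.normalizer (tor a : Set PSL₂) with hN
  set D := pslData (F := F) p
  have hcard : Nat.card N = 2 * Nat.card (tor a) := by
    rcases D.card_normalizer ha hap with e | e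
    · obtain ⟨g, hg, hgn⟩ := exists_flip p ha hap
      exact absurd ((Subgroup.eq_of_le_of_card_ge Subgroup.le_normalizer (le_of_eq e)).ge hg) hgn
    · exact e
  refine ⟨hcard, ?_⟩
  obtain ⟨g, hg, hgn⟩ := exists_flip p ha hap
  obtain ⟨h2, hinv⟩ := D.semi_flip ha hap ((D.mem_normalizer_iff ha).mp hg) hgn
  set A := (tor a).subgroupOf N with hA
  have hAc : Nat.card A = Nat.card (tor a) :=
    Nat.card_congr (Subgroup.subgroupOfEquivOfLe Subgroup.le_normalizer).toEquiv
  have hidx : A.index = 2 := by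
    have h := Subgroup.card_mul_index A
    rw [hAc, hcard, mul_comm 2] at h
    exact Nat.eq_of_mul_eq_mul_left Nat.card_pos h
  haveI : IsCyclic (tor a) := D.semi_cyclic ha hap
  haveI : IsCyclic A := isCyclic_of_surjective _ (Subgroup.subgroupOfEquivOfLe Subgroup.le_normalizer).symm.surjective
  obtain ⟨i⟩ := nonempty_dihedral A hidx (w := ⟨g, hg⟩) hgn (Subtype.ext h2)
    (fun b hb => Subtype.ext (hinv b hb))
  rw [hAc] at i
  exact ⟨i⟩

/-- Both cyclic tori occur. -/
theorem exists_tor_minus (h : 2 ≤ (Fintype.card F - 1) / del F) :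
    ∃ a : PSL₂, a ≠ 1 ∧ a ^ p ≠ 1 ∧ Nat.card (tor a) = (Fintype.card F - 1) / del F := by
  obtain ⟨g, hg⟩ := exists_order_split (F := F)
  change orderOf g = (Fintype.card F - 1) / del F at hg
  have hg1 : g ≠ 1 := fun e => by rw [e, orderOf_one] at hg; omega
  have hgp : g ^ p ≠ 1 := fun e => by
    have ho := orderOf_eq_prime e hg1
    rw [hg] at ho
    obtain ⟨⟨u, hu⟩, -⟩ := del_dvd F
    have h1 : p ∣ Fintype.card F - 1 := ho ▸ Nat.div_dvd_of_dvd ⟨u, hu⟩
    have h2 : p ∣ Fintype.card F := by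
      obtain ⟨n, -, hn⟩ := FiniteField.card F p
      rw [hn]; exact dvd_pow_self p n.pos.ne'
    have := Fintype.one_lt_card (α := F)
    have h3 := Nat.dvd_sub h2 h1
    rw [show Fintype.card F - (Fintype.card F - 1) = 1 by omega] at h3
    exact hp.out.one_lt.ne' (Nat.dvd_one.mp h3)
  refine ⟨g, hg1, hgp, ?_⟩
  have hd : orderOf g ∣ Nat.card (tor g) := Subgroup.orderOf_dvd_natCard _ ((pslData (F := F) p).self g)
  refine (card_tor_semi p hg1 hgp).resolve_right fun e => ?_
  rw [e, hg] at hd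
  obtain ⟨⟨u, hu⟩, ⟨v, hv⟩⟩ := del_dvd F
  have hpos : 0 < del F := Nat.gcd_pos_of_pos_left _ two_pos
  rw [hu, hv, Nat.mul_div_cancel_left _ hpos, Nat.mul_div_cancel_left _ hpos] at hd
  rw [hu, Nat.mul_div_cancel_left _ hpos] at h
  obtain ⟨m, rfl⟩ := hd
  have := Fintype.one_lt_card (α := F)
  rcases del_cases F with ⟨hdel, hev⟩ | ⟨hdel, -⟩ <;> rw [hdel] at hu hv
  · obtain ⟨k, hk⟩ := hev
    rcases Nat.lt_or_ge m 3 with hm | hm
    · interval_cases m <;> omega
    · have : u * 3 ≤ u * m := Nat.mul_le_mul_left _ hm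
      omega
  · rcases Nat.lt_or_ge m 2 with hm | hm
    · interval_cases m <;> omega
    · have : u * 2 ≤ u * m := Nat.mul_le_mul_left _ hm
      omega

theorem exists_tor_plus :
    ∃ a : PSL₂, a ≠ 1 ∧ a ^ p ≠ 1 ∧ Nat.card (tor a) = (Fintype.card F + 1) / del F := by
  obtain ⟨g, hg⟩ := exists_order_nonsplit (F := F) p
  change orderOf g = (Fintype.card F + 1) / del F at hg
  obtain ⟨⟨u, hu⟩, ⟨v, hv⟩⟩ := del_dvd F
  have hpos : 0 < del F := Nat.gcd_pos_of_pos_left _ two_pos
  have hq := Fintype.one_lt_card (α := F)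
  rw [hv, Nat.mul_div_cancel_left _ hpos] at hg
  rw [hv, Nat.mul_div_cancel_left _ hpos]
  have h : 2 ≤ v := by rcases del_cases F with ⟨hdel, -⟩ | ⟨hdel, -⟩ <;> rw [hdel] at hv <;> omega
  have hg1 : g ≠ 1 := fun e => by rw [e, orderOf_one] at hg; omega
  have hgp : g ^ p ≠ 1 := fun e => by
    have ho := orderOf_eq_prime e hg1
    rw [hg] at ho
    have h1 : p ∣ Fintype.card F + 1 := hv ▸ ho ▸ Dvd.intro_left _ rfl
    have h2 : p ∣ Fintype.card F := by
      obtain ⟨n, -, hn⟩ := FiniteField.card F p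
      rw [hn]; exact dvd_pow_self p n.pos.ne'
    exact hp.out.one_lt.ne' (Nat.dvd_one.mp ((Nat.dvd_add_right h2).mp h1))
  refine ⟨g, hg1, hgp, ?_⟩
  have hd : orderOf g ∣ Nat.card (tor g) := Subgroup.orderOf_dvd_natCard _ ((pslData (F := F) p).self g)
  rcases card_tor_semi p hg1 hgp with e | e
  · exfalso
    rw [e, hg, hu, Nat.mul_div_cancel_left _ hpos] at hd
    have := Nat.le_of_dvd (Nat.pos_of_ne_zero fun h0 => by rw [h0, mul_zero] at hu; omega) hd
    rcases del_cases F with ⟨hdel, -⟩ | ⟨hdel, -⟩ <;> rw [hdel] at hu hv <;> omega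
  · rw [e, hv, Nat.mul_div_cancel_left _ hpos]

theorem card_psl : Nat.card PSL₂ * del F = Fintype.card F * ((Fintype.card F - 1) * (Fintype.card F + 1)) := by
  have h := Classical.natCard_PSL_mul (F := F) 2 (by norm_num)
  rw [Fus.PSLTwo.natCard_SL_two, Classical.natCard_units_field] at h
  rw [mul_comm]
  exact h

theorem card_tor_uni {a : PSL₂} (ha : a ≠ 1) (hap : a ^ p = 1) :
    Nat.card (tor a) = Fintype.card F := by
  obtain ⟨P, hP, rfl⟩ := uni_frame p ha hap
  rw [← Nat.card_eq_fintype_card]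
  refine (Nat.card_eq_of_bijective (fun s : F => (⟨proj (cj P hP (up s)),
    mem_tor_iff.mpr ((commute_up s 1).map _)⟩ : tor _)) ⟨fun r s h => ?_, fun b => ?_⟩).symm
  · rcases proj_eq_iff.mp (congrArg Subtype.val h) with e | e
    · exact (eq_of_up_eq (Or.inl (conjHom_injective P hP e))).symm
    · rw [← conjHom_neg] at e
      exact (eq_of_up_eq (Or.inr (conjHom_injective P hP e))).symm
  · obtain ⟨z, hz⟩ := proj_surjective (b : PSL₂)
    obtain ⟨y, rfl⟩ := conjHom_surjective P hP z
    have hy : Commute y (up 1) := (commute_map_iff (conjHom_injective P hP)).mp (mem_tor_iff.mp (hz ▸ b.2))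
    obtain ⟨s, e | e⟩ := eq_pm_up hy <;> refine ⟨s, Subtype.ext ?_⟩ <;> rw [← hz, e]
    rw [conjHom_neg, proj_neg]

theorem card_borel {a : PSL₂} (ha : a ≠ 1) (hap : a ^ p = 1) :
    Nat.card (Subgroup.normalizer (tor a : Set PSL₂)) * del F =
      Fintype.card F * (Fintype.card F - 1) := by
  obtain ⟨P, hP, rfl⟩ := uni_frame p ha hap
  let U : Subgroup SL₂ :=
    { carrier := {y | y.1 1 0 = 0}
      mul_mem' := fun {x y} hx hy => by
        show (x * y).1 1 0 = 0
        simp only [Set.mem_setOf_eq] at hx hy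
        simp [Matrix.mul_apply, Fin.sum_univ_two, hx, hy]
      one_mem' := by simp
      inv_mem' := fun {x} hx => by
        show (x⁻¹).1 1 0 = 0
        simp only [Set.mem_setOf_eq] at hx
        simp [Matrix.SpecialLinearGroup.coe_inv, Matrix.adjugate_fin_two, hx] }
  have hmap : Subgroup.normalizer (tor (proj (cj P hP (up 1))) : Set PSL₂) = (U.map (cj P hP)).map proj := by
    ext b
    obtain ⟨z, rfl⟩ := proj_surjective b
    obtain ⟨y, rfl⟩ := conjHom_surjective P hP z
    refine Iff.trans ((pslData (F := F) p).mem_normalizer_iff ha) ?_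
    show proj _ * proj _ * (proj _)⁻¹ ∈ tor _ ↔ _
    rw [conj_mem_tor_iff, ← map_inv, ← map_mul, ← map_mul, commute_map_iff (conjHom_injective P hP),
      lower_entry_iff]
    constructor
    · intro h; exact Subgroup.mem_map_of_mem _ (Subgroup.mem_map_of_mem _ h)
    · rintro ⟨_, ⟨w, hw, rfl⟩, e⟩
      rcases proj_eq_iff.mp e with e | e
      · rw [conjHom_injective P hP e]; exact hw
      · rw [← conjHom_neg] at e
        rw [conjHom_injective P hP e]
        show (-w).1 1 0 = 0
        have hw' : w.1 1 0 = 0 := hw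
        simp [hw']
  have hU : Nat.card U = Fintype.card F * (Fintype.card F - 1) := by
    rw [← Classical.natCard_units_field, ← Nat.card_eq_fintype_card, mul_comm, ← Nat.card_prod]
    let mk : Fˣ × F → U := fun p => ⟨⟨!![(p.1 : F), p.2; 0, ((p.1⁻¹ : Fˣ) : F)], by simp [Matrix.det_fin_two]⟩,
      show (!![(p.1 : F), p.2; 0, ((p.1⁻¹ : Fˣ) : F)] : Matrix (Fin 2) (Fin 2) F) 1 0 = 0 by simp⟩
    refine (Nat.card_eq_of_bijective mk ⟨fun p r h => ?_, fun y => ?_⟩).symm
    · have h' := congrArg (fun y : U => ((y : SL₂) : Matrix (Fin 2) (Fin 2) F)) h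
      have h00 := congrFun (congrFun h' 0) 0
      have h01 := congrFun (congrFun h' 0) 1
      simp [mk] at h00 h01
      exact Prod.ext (Units.ext h00) h01
    · have d := det_eq (y : SL₂)
      have h10 : (y : SL₂).1 1 0 = 0 := y.2
      rw [h10, mul_zero, sub_zero] at d
      refine ⟨(⟨_, _, d, by rw [mul_comm, d]⟩, (y : SL₂).1 0 1), Subtype.ext (Subtype.ext ?_)⟩
      ext i j
      fin_cases i <;> fin_cases j <;> simp [mk, h10]
  rw [hmap, card_map_proj, Subgroup.card_map_of_injective (conjHom_injective P hP), hU]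
  intro z hz
  rcases hz with rfl | rfl
  · exact Subgroup.one_mem _
  · exact ⟨-1, by show (-1 : SL₂).1 1 0 = 0; simp, by rw [conjHom_neg, map_one]⟩

end Cfsg.Agent.Dickson
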