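import Mathlib

/-! Normal forms of symmetric, alternating, Hermitian and quadratic forms over finite fields. -/

set_option autoImplicit false

namespace Cfsg.Agent.Classical

section Split

variable {F V : Type*} [Field F] [AddCommGroup V] [Module F V] [FiniteDimensional F V]

theorem finrank_inf_ker (W : Submodule F V) (φ : V →ₗ[F] F) {e : V} (he : e ∈ W) (h : φ e = 1) :
    Module.finrank F (W ⊓ φ.ker : Submodule F V) + 1 = Module.finrank F W := by
  set ψ : W →ₗ[F] F := φ.comp W.subtype
  have hs : Function.Surjective ψ := fun c => ⟨c • ⟨e, he⟩, by simp [ψ, h]⟩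
  have h1 := ψ.finrank_range_add_finrank_ker
  rw [LinearMap.range_eq_top.2 hs, finrank_top, Module.finrank_self] at h1
  have h2 : ψ.ker.map W.subtype = (W ⊓ φ.ker : Submodule F V) := by
    ext x
    constructor
    · rintro ⟨y, hy, rfl⟩; exact ⟨y.2, hy⟩
    · rintro ⟨hx, hx'⟩; exact ⟨⟨x, hx⟩, hx', rfl⟩
  rw [← h2, Submodule.finrank_map_subtype_eq]
  omega

theorem finrank_inf_two_kers (W : Submodule F V) (φ ψ : V →ₗ[F] F) {e f : V} (he : e ∈ W)
    (hf : f ∈ W) (h1 : φ e = 1) (h3 : φ f = 0) (h4 : ψ f = 1) :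
    Module.finrank F (W ⊓ φ.ker ⊓ ψ.ker : Submodule F V) + 2 = Module.finrank F W := by
  have ha := finrank_inf_ker W φ he h1
  have hb := finrank_inf_ker (W ⊓ φ.ker) ψ (e := f) ⟨hf, h3⟩ h4
  omega

theorem linearIndependent_of_orth {ι : Type*} (b : ι → V) (φ : ι → (V →ₗ[F] F))
    (h : ∀ i j, i ≠ j → φ i (b j) = 0) (hne : ∀ i, φ i (b i) ≠ 0) : LinearIndependent F b := by
  refine linearIndependent_iff'.2 fun s g hg i hi => ?_
  have h1 := congrArg (φ i) hg
  rw [map_sum, map_zero, Finset.sum_eq_single i (fun j _ hj => by rw [map_smul, h i j hj.symm, smul_zero])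
    (fun hn => absurd hi hn), map_smul, smul_eq_mul] at h1
  exact (mul_eq_zero.1 h1).resolve_right (hne i)

end Split

section Symmetric

variable {F V : Type*} [Field F] [AddCommGroup V] [Module F V] [FiniteDimensional F V]
  (B : LinearMap.BilinForm F V)

theorem exists_aniso_in (h2 : (2 : F) ≠ 0) (hS : B.IsSymm) {W : Submodule F V}
    (hW : ∀ w ∈ W, w ≠ 0 → ∃ u ∈ W, B w u ≠ 0) (h : 0 < Module.finrank F W) :
    ∃ v ∈ W, B v v ≠ 0 := by
  obtain ⟨w, hw, hw0⟩ : ∃ w ∈ W, w ≠ 0 :=
    W.exists_mem_ne_zero_of_ne_bot (fun h0 => by rw [h0, finrank_bot] at h; exact lt_irrefl _ h)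
  obtain ⟨u, hu, hwu⟩ := hW w hw hw0
  by_contra hcon
  push Not at hcon
  have h1 := hcon (w + u) (W.add_mem hw hu)
  rw [map_add, map_add, LinearMap.add_apply, LinearMap.add_apply, hcon w hw, hcon u hu, hS.eq u w] at h1
  exact hwu (mul_left_cancel₀ h2 (by linear_combination h1))

theorem nondeg_inf_ker (hS : B.IsSymm) {W : Submodule F V}
    (hW : ∀ w ∈ W, w ≠ 0 → ∃ u ∈ W, B w u ≠ 0) {v : V} (hv : v ∈ W) (hvv : B v v ≠ 0) :
    ∀ w ∈ (W ⊓ LinearMap.ker (B v) : Submodule F V), w ≠ 0 →
      ∃ u ∈ (W ⊓ LinearMap.ker (B v) : Submodule F V), B w u ≠ 0 := by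
  rintro w ⟨hw, hwv⟩ hw0
  obtain ⟨u, hu, hwu⟩ := hW w hw hw0
  refine ⟨u - (B v u / B v v) • v, ⟨W.sub_mem hu (W.smul_mem _ hv), ?_⟩, ?_⟩
  · simp [LinearMap.mem_ker, div_mul_cancel₀ _ hvv]
  · have h0 : B w v = 0 := by rw [hS.eq]; exact hwv
    simp [h0, hwu]

theorem finrank_inf_orth {W : Submodule F V} {v : V} (hv : v ∈ W) (hvv : B v v ≠ 0) :
    Module.finrank F (W ⊓ LinearMap.ker (B v) : Submodule F V) + 1 = Module.finrank F W := by
  have h := finrank_inf_ker W ((B v v)⁻¹ • B v) hv
    (by rw [LinearMap.smul_apply, smul_eq_mul, inv_mul_cancel₀ hvv])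
  rwa [LinearMap.ker_smul _ _ (inv_ne_zero hvv)] at h

theorem exists_norm_one_in [Finite F] (h2 : (2 : F) ≠ 0) (hS : B.IsSymm) {W : Submodule F V}
    (hW : ∀ w ∈ W, w ≠ 0 → ∃ u ∈ W, B w u ≠ 0) (h : 2 ≤ Module.finrank F W) :
    ∃ v ∈ W, B v v = 1 := by
  obtain ⟨v, hv, hvv⟩ := exists_aniso_in B h2 hS hW (by omega)
  have hr := finrank_inf_orth B hv hvv
  obtain ⟨w, ⟨hw, hvw⟩, hww⟩ := exists_aniso_in B h2 hS (nondeg_inf_ker B hS hW hv hvv) (by omega)
  have := Fintype.ofFinite F
  have hc : ringChar F ≠ 2 := fun hc => h2 (by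
    exact_mod_cast (ringChar.spec F 2).2 (by rw [hc]))
  obtain ⟨a, b, hab⟩ := FiniteField.exists_root_sum_quadratic (R := F)
    (f := Polynomial.C (B v v) * Polynomial.X ^ 2)
    (g := Polynomial.C (B w w) * Polynomial.X ^ 2 - Polynomial.C 1)
    (Polynomial.degree_C_mul_X_pow 2 hvv)
    (by
      rw [Polynomial.degree_sub_C (by rw [Polynomial.degree_C_mul_X_pow 2 hww]; decide)]
      exact Polynomial.degree_C_mul_X_pow 2 hww)
    (FiniteField.odd_card_of_char_ne_two hc)
  refine ⟨a • v + b • w, W.add_mem (W.smul_mem _ hv) (W.smul_mem _ hw), ?_⟩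
  have h0 : B v w = 0 := hvw
  have h0' : B w v = 0 := by rw [hS.eq]; exact hvw
  simp at hab
  simp [h0, h0']
  linear_combination hab

/-- Orthogonal family with norms `1,…,1,d` in a non-degenerate subspace. -/
theorem exists_diag_family [Finite F] (h2 : (2 : F) ≠ 0) (hS : B.IsSymm) (n : ℕ) :
    ∀ W : Submodule F V, (∀ w ∈ W, w ≠ 0 → ∃ u ∈ W, B w u ≠ 0) → Module.finrank F W = n + 1 →
      ∃ (b : Fin (n + 1) → V) (d : F), d ≠ 0 ∧ (∀ i, b i ∈ W) ∧
        (∀ i j, i ≠ j → B (b i) (b j) = 0) ∧ (∀ i, i ≠ Fin.last n → B (b i) (b i) = 1) ∧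
        B (b (Fin.last n)) (b (Fin.last n)) = d := by
  induction n with
  | zero =>
    intro W hW h
    obtain ⟨v, hv, hvv⟩ := exists_aniso_in B h2 hS hW (by omega)
    exact ⟨fun _ => v, B v v, hvv, fun _ => hv, fun i j hij => absurd (Subsingleton.elim (α := Fin 1) i j) hij,
      fun i hi => absurd (Subsingleton.elim (α := Fin 1) _ _) hi, rfl⟩
  | succ n ih =>
    intro W hW h
    obtain ⟨v, hv, hvv⟩ := exists_norm_one_in B h2 hS hW (by omega)
    have hvv0 : B v v ≠ 0 := by rw [hvv]; exact one_ne_zero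
    have hr := finrank_inf_orth B hv hvv0
    obtain ⟨b, d, hd, hbW, horth, hone, hlast⟩ := ih _ (nondeg_inf_ker B hS hW hv hvv0) (by omega)
    refine ⟨Fin.cons v b, d, hd, ?_, ?_, ?_, ?_⟩
    · intro i; induction i using Fin.cases with
      | zero => simpa using hv
      | succ i => simpa using (hbW i).1
    · intro i j hij
      induction i using Fin.cases with
      | zero =>
        induction j using Fin.cases with
        | zero => exact absurd rfl hij
        | succ j => simpa using (hbW j).2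
      | succ i =>
        induction j using Fin.cases with
        | zero => simpa using (hS.eq (b i) v).trans (hbW i).2
        | succ j => simpa using horth i j (fun h => hij (congrArg Fin.succ h))
    · intro i hi
      induction i using Fin.cases with
      | zero => simpa using hvv
      | succ i => simpa using hone i (fun h => hi (by rw [h, Fin.succ_last]))
    · rw [← Fin.succ_last]; simpa using hlast

theorem exists_diag_basis [Finite F] (h2 : (2 : F) ≠ 0) (hS : B.IsSymm) (hB : B.Nondegenerate)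
    {n : ℕ} (hn : Module.finrank F V = n + 1) :
    ∃ (b : Module.Basis (Fin (n + 1)) F V) (d : F), d ≠ 0 ∧ (∀ i j, i ≠ j → B (b i) (b j) = 0) ∧
      (∀ i, i ≠ Fin.last n → B (b i) (b i) = 1) ∧ B (b (Fin.last n)) (b (Fin.last n)) = d := by
  obtain ⟨b, d, hd, -, horth, hone, hlast⟩ := exists_diag_family B h2 hS n ⊤
    (fun w _ hw => by
      by_contra hcon
      push Not at hcon
      exact hw (hB.1 w fun u => hcon u trivial)) (by rw [finrank_top, hn])
  have hli : LinearIndependent F b := linearIndependent_of_orth b (fun i => B (b i)) horth fun i => by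
    by_cases hi : i = Fin.last n
    · rw [hi, hlast]; exact hd
    · rw [hone i hi]; exact one_ne_zero
  refine ⟨basisOfLinearIndependentOfCardEqFinrank hli (by rw [Fintype.card_fin, hn]), d, hd, ?_⟩
  rw [coe_basisOfLinearIndependentOfCardEqFinrank]
  exact ⟨horth, hone, hlast⟩

theorem exists_orthonormal_family_char_two [Finite F] [CharP F 2] (hS : B.IsSymm) (n : ℕ) :
    ∀ W : Submodule F V, (∀ w ∈ W, w ≠ 0 → ∃ u ∈ W, B w u ≠ 0) → Module.finrank F W = n →
      (n ≠ 0 → ∃ v ∈ W, B v v ≠ 0) →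
      ∃ b : Fin n → V, (∀ i, b i ∈ W) ∧ ∀ i j, B (b i) (b j) = if i = j then 1 else 0 := by
  induction n with
  | zero => exact fun W _ _ _ => ⟨Fin.elim0, fun i => i.elim0, fun i => i.elim0⟩
  | succ n ih =>
    intro W hW h hna
    have := Fintype.ofFinite F
    have two : (2 : F) = 0 := CharTwo.two_eq_zero
    have scale : ∀ v, B v v ≠ 0 → ∃ c : F, B (c • v) (c • v) = 1 := by
      intro v hv
      obtain ⟨c, hc⟩ := FiniteField.isSquare_of_char_two (ringChar.eq F 2) (B v v)
      refine ⟨c⁻¹, ?_⟩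
      simp [hc]
      have : c ≠ 0 := fun h0 => hv (by rw [hc, h0, mul_zero])
      field_simp
    obtain ⟨v, hv, hvv, hgood⟩ : ∃ v ∈ W, B v v = 1 ∧
        (n ≠ 0 → ∃ w ∈ (W ⊓ LinearMap.ker (B v) : Submodule F V), B w w ≠ 0) := by
      obtain ⟨v₀, hv₀, hvv₀⟩ := hna n.succ_ne_zero
      obtain ⟨c, hc⟩ := scale v₀ hvv₀
      set v := c • v₀
      have hv : v ∈ W := W.smul_mem _ hv₀
      by_cases halt : n ≠ 0 → ∃ w ∈ (W ⊓ LinearMap.ker (B v) : Submodule F V), B w w ≠ 0
      · exact ⟨v, hv, hc, halt⟩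
      · push Not at halt
        obtain ⟨hn0, halt⟩ := halt
        have hv0 : B v v ≠ 0 := by rw [hc]; exact one_ne_zero
        have hnd := nondeg_inf_ker B hS hW hv hv0
        have hr := finrank_inf_orth B hv hv0
        obtain ⟨e, he, he0⟩ : ∃ e ∈ (W ⊓ LinearMap.ker (B v) : Submodule F V), e ≠ 0 :=
          Submodule.exists_mem_ne_zero_of_ne_bot (fun h0 => by rw [h0, finrank_bot] at hr; omega)
        obtain ⟨f₀, hf₀, hef₀⟩ := hnd e he he0
        set f := (B e f₀)⁻¹ • f₀
        have hf : f ∈ (W ⊓ LinearMap.ker (B v) : Submodule F V) := Submodule.smul_mem _ _ hf₀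
        have hef : B e f = 1 := by simp [f, inv_mul_cancel₀ hef₀]
        have hee := halt e he
        have hff := halt f hf
        have hve : B v e = 0 := he.2
        have hev : B e v = 0 := by rw [hS.eq]; exact he.2
        have hvf : B v f = 0 := hf.2
        have hfv : B f v = 0 := by rw [hS.eq]; exact hf.2
        refine ⟨v + e, W.add_mem hv he.1, by simp [hc, hee, hve, hev],
          fun _ => ⟨v + f, ⟨W.add_mem hv hf.1, ?_⟩, by simp [hc, hff, hvf, hfv]⟩⟩
        show B (v + e) (v + f) = 0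
        simp [hc, hef, hvf, hev]
        linear_combination two
    have hvv0 : B v v ≠ 0 := by rw [hvv]; exact one_ne_zero
    have hr := finrank_inf_orth B hv hvv0
    obtain ⟨b, hbW, hb⟩ := ih _ (nondeg_inf_ker B hS hW hv hvv0) (by omega) hgood
    refine ⟨Fin.cons v b, fun i => ?_, fun i j => ?_⟩
    · induction i using Fin.cases with
      | zero => simpa using hv
      | succ i => simpa using (hbW i).1
    · induction i using Fin.cases with
      | zero =>
        induction j using Fin.cases with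
        | zero => simpa using hvv
        | succ j => simpa [(Fin.succ_ne_zero j).symm] using (hbW j).2
      | succ i =>
        induction j using Fin.cases with
        | zero => simpa [Fin.succ_ne_zero i] using (hS.eq (b i) v).trans (hbW i).2
        | succ j => simpa using hb i j

end Symmetric

section Alternating

variable {F V : Type*} [Field F] [AddCommGroup V] [Module F V] [FiniteDimensional F V]
  (B : LinearMap.BilinForm F V)

theorem exists_symplectic_family (hA : B.IsAlt) (n : ℕ) :
    ∀ W : Submodule F V, Module.finrank F W = n →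
      ∃ (m k : ℕ) (e f : Fin m → V) (r : Fin k → V),
        2 * m + k = n ∧ (∀ i, e i ∈ W ∧ f i ∈ W) ∧ (∀ j, r j ∈ W) ∧
        (∀ i j, B (e i) (f j) = if i = j then 1 else 0) ∧ (∀ i j, B (e i) (e j) = 0) ∧
        (∀ i j, B (f i) (f j) = 0) ∧ (∀ j, ∀ w ∈ W, B (r j) w = 0) ∧
        W ≤ Submodule.span F (Set.range e ∪ Set.range f ∪ Set.range r) := by
  induction n using Nat.strong_induction_on with
  | _ n ih =>
    intro W hW
    have hsw : ∀ u v, B u v = -B v u := fun u v => by rw [LinearMap.IsAlt.neg hA v u]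
    by_cases hz : ∀ u ∈ W, ∀ v ∈ W, B u v = 0
    · let c := Module.finBasisOfFinrankEq F W hW
      refine ⟨0, n, Fin.elim0, Fin.elim0, fun j => (c j : V), by omega, fun i => i.elim0,
        fun j => (c j).2, fun i => i.elim0, fun i => i.elim0, fun i => i.elim0,
        fun j w hw => hz _ (c j).2 w hw, fun w hw => ?_⟩
      refine Submodule.span_mono Set.subset_union_right ?_
      have h1 := Submodule.mem_map_of_mem (f := W.subtype) (c.mem_span ⟨w, hw⟩)
      rwa [Submodule.map_span, ← Set.range_comp] at h1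
    · push Not at hz
      obtain ⟨e₀, he₀, f₁, hf₁, hef⟩ := hz
      set f₀ := (B e₀ f₁)⁻¹ • f₁
      have hf₀ : f₀ ∈ W := W.smul_mem _ hf₁
      have h1 : B e₀ f₀ = 1 := by simp [f₀, inv_mul_cancel₀ hef]
      have hr := finrank_inf_two_kers W (-(B f₀)) (B e₀) he₀ hf₀
        (by rw [LinearMap.neg_apply, hsw f₀ e₀, neg_neg, h1]) (by rw [LinearMap.neg_apply, hA, neg_zero]) h1
      set W' := W ⊓ LinearMap.ker (-(B f₀)) ⊓ LinearMap.ker (B e₀)
      obtain ⟨m, k, e, f, r, hmk, hef', hrW, hEF, hEE, hFF, hrad, hspan⟩ := ih _ (by omega) W' rfl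
      have hW'e : ∀ w ∈ W', B e₀ w = 0 := fun w hw => hw.2
      have hW'f : ∀ w ∈ W', B f₀ w = 0 := fun w hw => neg_eq_zero.1 hw.1.2
      have hsplit : ∀ w ∈ W, w - (-(B f₀ w)) • e₀ - (B e₀ w) • f₀ ∈ W' := fun w hw =>
        ⟨⟨W.sub_mem (W.sub_mem hw (W.smul_mem _ he₀)) (W.smul_mem _ hf₀), by
          simp [LinearMap.mem_ker, hA f₀, hsw f₀ e₀, h1]⟩, by
          simp [LinearMap.mem_ker, hA e₀, h1]⟩
      refine ⟨m + 1, k, Fin.cons e₀ e, Fin.cons f₀ f, r, by omega, fun i => ?_, fun j => (hrW j).1.1,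
        fun i j => ?_, fun i j => ?_, fun i j => ?_, fun j w hw => ?_, fun w hw => ?_⟩
      · induction i using Fin.cases with
        | zero => simpa using And.intro he₀ hf₀
        | succ i => simpa using And.intro (hef' i).1.1.1 (hef' i).2.1.1
      · induction i using Fin.cases with
        | zero =>
          induction j using Fin.cases with
          | zero => simpa using h1
          | succ j => simpa [(Fin.succ_ne_zero j).symm] using hW'e _ (hef' j).2
        | succ i =>
          induction j using Fin.cases with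
          | zero =>
            simpa [Fin.succ_ne_zero i, hsw (e i) f₀] using hW'f _ (hef' i).1
          | succ j => simpa using hEF i j
      · induction i using Fin.cases with
        | zero =>
          induction j using Fin.cases with
          | zero => simpa using hA e₀
          | succ j => simpa using hW'e _ (hef' j).1
        | succ i =>
          induction j using Fin.cases with
          | zero => simpa [hsw (e i) e₀] using hW'e _ (hef' i).1
          | succ j => simpa using hEE i j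
      · induction i using Fin.cases with
        | zero =>
          induction j using Fin.cases with
          | zero => simpa using hA f₀
          | succ j => simpa using hW'f _ (hef' j).2
        | succ i =>
          induction j using Fin.cases with
          | zero => simpa [hsw (f i) f₀] using hW'f _ (hef' i).2
          | succ j => simpa using hFF i j
      · have h2 := hrad j _ (hsplit w hw)
        have h3 : B (r j) e₀ = 0 := by rw [hsw, hW'e _ (hrW j), neg_zero]
        have h4 : B (r j) f₀ = 0 := by rw [hsw, hW'f _ (hrW j), neg_zero]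
        simpa [h3, h4] using h2
      · have hmem : ∀ x, x ∈ Set.range (Fin.cons e₀ e) ∪ Set.range (Fin.cons f₀ f) ∪ Set.range r →
            x ∈ Submodule.span F (Set.range (Fin.cons e₀ e : Fin (m + 1) → V) ∪
              Set.range (Fin.cons f₀ f : Fin (m + 1) → V) ∪ Set.range r) := fun x hx =>
          Submodule.subset_span hx
        have h2 := Submodule.span_mono (R := F)
          (t := Set.range (Fin.cons e₀ e : Fin (m + 1) → V) ∪
            Set.range (Fin.cons f₀ f : Fin (m + 1) → V) ∪ Set.range r)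
          (by simp only [Fin.range_cons]; grind) (hspan (hsplit w hw))
        have he' := hmem e₀ (Or.inl (Or.inl ⟨0, rfl⟩))
        have hf' := hmem f₀ (Or.inl (Or.inr ⟨0, rfl⟩))
        have h3 := Submodule.add_mem _ (Submodule.add_mem _ h2 (Submodule.smul_mem _ (B e₀ w) hf'))
          (Submodule.smul_mem _ (-(B f₀ w)) he')
        simpa using h3

end Alternating

section Hermitian

variable {F : Type*} [Field F] {σ : F →+* F}

/-- The norm map to the fixed field of an involution is onto (finite fields). -/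
theorem exists_norm_eq [Finite F] (hσ : σ ≠ RingHom.id F) (hσ2 : ∀ a, σ (σ a) = a) {t : F}
    (ht : σ t = t) (ht0 : t ≠ 0) : ∃ c : F, c * σ c = t := by
  let s : Fˣ →* Fˣ := Units.map σ.toMonoidHom
  have hs : ∀ u : Fˣ, ((s u : Fˣ) : F) = σ (u : F) := fun u => rfl
  let N : Fˣ →* Fˣ := MonoidHom.mk' (fun u => u * s u)
    (fun a b => by rw [map_mul, mul_mul_mul_comm])
  let φ : Fˣ →* Fˣ := MonoidHom.mk' (fun u => u * (s u)⁻¹)
    (fun a b => by rw [map_mul, _root_.mul_inv_rev, mul_comm (s b)⁻¹, mul_mul_mul_comm])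
  have h90 : φ.range = N.ker := by
    ext c
    constructor
    · rintro ⟨u, rfl⟩
      refine MonoidHom.mem_ker.2 (Units.ext ?_)
      show ((u : F) * ((s u)⁻¹ : Fˣ)) * σ ((u : F) * ((s u)⁻¹ : Fˣ)) = 1
      rw [Units.val_inv_eq_inv_val, hs, map_mul, map_inv₀, hσ2]
      field_simp
    · intro hc
      have hc' : (c : F) * σ (c : F) = 1 := congrArg Units.val (MonoidHom.mem_ker.1 hc)
      obtain ⟨a, ha⟩ : ∃ a, a + (c : F) * σ a ≠ 0 := by
        by_contra h
        push Not at h
        have h1 := h 1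
        rw [map_one, mul_one] at h1
        refine hσ (RingHom.ext fun a => ?_)
        show σ a = a
        linear_combination -h a + σ a * h1
      refine ⟨Units.mk0 _ ha, Units.ext ?_⟩
      show (a + (c : F) * σ a) * (((s (Units.mk0 _ ha))⁻¹ : Fˣ) : F) = (c : F)
      rw [Units.val_inv_eq_inv_val, hs, Units.val_mk0]
      have hne : σ (a + (c : F) * σ a) ≠ 0 := (map_ne_zero σ).2 ha
      field_simp
      rw [map_add, map_mul, hσ2]
      linear_combination -a * hc'
  have hle : N.range ≤ φ.ker := by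
    rintro _ ⟨u, rfl⟩
    refine MonoidHom.mem_ker.2 (Units.ext ?_)
    show ((u : F) * σ (u : F)) * (((s (N u))⁻¹ : Fˣ) : F) = 1
    rw [Units.val_inv_eq_inv_val, hs]
    show _ * (σ ((u : F) * σ (u : F)))⁻¹ = 1
    rw [map_mul, hσ2]
    field_simp
  have h1 := N.ker.card_eq_card_quotient_mul_card_subgroup
  have h2 := φ.ker.card_eq_card_quotient_mul_card_subgroup
  rw [Nat.card_congr (QuotientGroup.quotientKerEquivRange N).toEquiv] at h1
  rw [Nat.card_congr (QuotientGroup.quotientKerEquivRange φ).toEquiv, h90, mul_comm] at h2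
  have heq : N.range = φ.ker := Subgroup.eq_of_le_of_card_ge hle
    (Nat.eq_of_mul_eq_mul_right Nat.card_pos (h1.symm.trans h2)).ge
  have hmem : Units.mk0 t ht0 ∈ φ.ker := by
    refine MonoidHom.mem_ker.2 (Units.ext ?_)
    show t * (((s (Units.mk0 t ht0))⁻¹ : Fˣ) : F) = 1
    rw [Units.val_inv_eq_inv_val, hs, Units.val_mk0, ht, mul_inv_cancel₀ ht0]
  rw [← heq] at hmem
  obtain ⟨u, hu⟩ := hmem
  exact ⟨u, congrArg Units.val hu⟩

variable {V : Type*} [AddCommGroup V] [Module F V] [FiniteDimensional F V]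
  (B : V →ₛₗ[σ] V →ₗ[F] F)

theorem exists_orthonormal_family_herm [Finite F] (hσ : σ ≠ RingHom.id F)
    (hσ2 : ∀ a, σ (σ a) = a) (hS : B.IsSymm) (n : ℕ) :
    ∀ W : Submodule F V, (∀ w ∈ W, w ≠ 0 → ∃ u ∈ W, B w u ≠ 0) → Module.finrank F W = n →
      ∃ b : Fin n → V, (∀ i, b i ∈ W) ∧ ∀ i j, B (b i) (b j) = if i = j then 1 else 0 := by
  induction n with
  | zero => exact fun W _ _ => ⟨Fin.elim0, fun i => i.elim0, fun i => i.elim0⟩
  | succ n ih =>
    intro W hW h
    obtain ⟨v₀, hv₀, hvv₀⟩ : ∃ v ∈ W, B v v ≠ 0 := by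
      obtain ⟨w, hw, hw0⟩ : ∃ w ∈ W, w ≠ 0 :=
        W.exists_mem_ne_zero_of_ne_bot (fun h0 => by rw [h0, finrank_bot] at h; omega)
      obtain ⟨u, hu, hwu⟩ := hW w hw hw0
      obtain ⟨a, ha⟩ : ∃ a : F, σ a ≠ a := by
        by_contra h
        push Not at h
        exact hσ (RingHom.ext h)
      by_contra hcon
      push Not at hcon
      have h1 := hcon (w + u) (W.add_mem hw hu)
      have h2 := hcon (w + a • u) (W.add_mem hw (W.smul_mem _ hu))
      simp only [map_add, LinearMap.map_smulₛₗ, map_smul, LinearMap.add_apply, LinearMap.smul_apply,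
        smul_eq_mul, RingHom.id_apply, hcon w hw, hcon u hu] at h1 h2
      have h3 : (σ a - a) * B w u = 0 := by linear_combination σ a * h1 - h2
      exact hwu ((mul_eq_zero.1 h3).resolve_left (sub_ne_zero.2 ha))
    obtain ⟨c, hc⟩ := exists_norm_eq hσ hσ2 (hS.eq v₀ v₀) hvv₀
    have hc0 : c ≠ 0 := by rintro rfl; rw [zero_mul] at hc; exact hvv₀ hc.symm
    set v := c⁻¹ • v₀
    have hv : v ∈ W := W.smul_mem _ hv₀
    have hvv : B v v = 1 := by
      simp [v, ← hc]
      have : σ c ≠ 0 := by simpa using hc0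
      field_simp
    have hr := finrank_inf_ker W (B v) hv hvv
    have hnd : ∀ w ∈ (W ⊓ LinearMap.ker (B v) : Submodule F V), w ≠ 0 →
        ∃ u ∈ (W ⊓ LinearMap.ker (B v) : Submodule F V), B w u ≠ 0 := by
      rintro w ⟨hw, hwv⟩ hw0
      obtain ⟨u, hu, hwu⟩ := hW w hw hw0
      have hwv' : B w v = 0 := by rw [← hS.eq, show B v w = 0 from hwv, map_zero]
      exact ⟨u - B v u • v, ⟨W.sub_mem hu (W.smul_mem _ hv), by simp [LinearMap.mem_ker, hvv]⟩,
        by simp [hwv', hwu]⟩
    obtain ⟨b, hbW, hb⟩ := ih _ hnd (by omega)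
    refine ⟨Fin.cons v b, fun i => ?_, fun i j => ?_⟩
    · induction i using Fin.cases with
      | zero => simpa using hv
      | succ i => simpa using (hbW i).1
    · induction i using Fin.cases with
      | zero =>
        induction j using Fin.cases with
        | zero => simpa using hvv
        | succ j => simpa [(Fin.succ_ne_zero j).symm] using (hbW j).2
      | succ i =>
        induction j using Fin.cases with
        | zero =>
          have h0 : B v (b i) = 0 := (hbW i).2
          simp [Fin.succ_ne_zero i, ← hS.eq v (b i), h0]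
        | succ j => simpa using hb i j

end Hermitian

section Quadratic

variable {F V : Type*} [Field F] [AddCommGroup V] [Module F V] [FiniteDimensional F V]
  (Q : QuadraticForm F V)

omit [FiniteDimensional F V] in
theorem quad_add_smul' (x v : V) (a : F) :
    Q (x + a • v) = Q x + a * a * Q v + a * QuadraticMap.polarBilin Q x v := by
  rw [QuadraticMap.map_add ⇑Q x (a • v), QuadraticMap.map_smul, QuadraticMap.polar_smul_right,
    QuadraticMap.polarBilin_apply_apply, smul_eq_mul, smul_eq_mul]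

omit [FiniteDimensional F V] in
theorem polarBilin_isSymm : LinearMap.BilinForm.IsSymm (QuadraticMap.polarBilin Q) :=
  ⟨fun u v => QuadraticMap.polar_comm (⇑Q) u v⟩

omit [FiniteDimensional F V] in
theorem polarBilin_self (u : V) : QuadraticMap.polarBilin Q u u = 2 * Q u := by
  show QuadraticMap.polar (⇑Q) u u = _
  rw [QuadraticMap.polar_self, nsmul_eq_mul]; norm_num

omit [FiniteDimensional F V] in
theorem polarBilin_singular {u : V} (h : Q u = 0) : QuadraticMap.polarBilin Q u u = 0 := by
  rw [polarBilin_self, h, mul_zero]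

theorem exists_singular_in [Finite F] {W : Submodule F V}
    (hW : ∀ w ∈ W, w ≠ 0 → ∃ u ∈ W, QuadraticMap.polarBilin Q w u ≠ 0)
    (h : 3 ≤ Module.finrank F W) : ∃ v ∈ W, v ≠ 0 ∧ Q v = 0 := by
  have := Fintype.ofFinite F
  set f := QuadraticMap.polarBilin Q
  have hS := polarBilin_isSymm Q
  obtain ⟨v, hv, hv0⟩ : ∃ v ∈ W, v ≠ 0 :=
    W.exists_mem_ne_zero_of_ne_bot (fun h0 => by rw [h0, finrank_bot] at h; omega)
  by_cases hQv : Q v = 0
  · exact ⟨v, hv, hv0, hQv⟩
  by_cases h2 : (2 : F) = 0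
  · have : CharP F 2 := (CharP.charP_iff_prime_eq_zero Nat.prime_two).2 (by exact_mod_cast h2)
    obtain ⟨u₀, hu₀, hvu⟩ := hW v hv hv0
    have hr := finrank_inf_ker W ((f v u₀)⁻¹ • f v) hu₀
      (by rw [LinearMap.smul_apply, smul_eq_mul, inv_mul_cancel₀ hvu])
    rw [LinearMap.ker_smul _ _ (inv_ne_zero hvu)] at hr
    obtain ⟨w, hw, hwv⟩ : ∃ w ∈ (W ⊓ LinearMap.ker (f v) : Submodule F V), w ∉ Submodule.span F {v} := by
      by_contra hcon
      push Not at hcon
      have h1 := Submodule.finrank_mono (s := (W ⊓ LinearMap.ker (f v) : Submodule F V)) hcon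
      rw [finrank_span_singleton hv0] at h1
      omega
    obtain ⟨a, ha⟩ : IsSquare (Q w / Q v) := FiniteField.isSquare_of_char_two (ringChar.eq F 2) _
    refine ⟨w + a • v, W.add_mem hw.1 (W.smul_mem _ hv), fun h0 => hwv ?_, ?_⟩
    · rw [eq_neg_of_add_eq_zero_left h0]
      exact Submodule.neg_mem _ (Submodule.smul_mem _ _ (Submodule.mem_span_singleton_self v))
    · have h0 : f w v = 0 := by rw [hS.eq]; exact hw.2
      rw [quad_add_smul', h0, mul_zero, add_zero, ← ha, div_mul_cancel₀ _ hQv]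
      linear_combination Q w * h2
  · have hvv : f v v ≠ 0 := by rw [polarBilin_self]; exact mul_ne_zero h2 hQv
    have hr := finrank_inf_orth f hv hvv
    have hnd := nondeg_inf_ker f hS hW hv hvv
    obtain ⟨w, hw, hw0⟩ := exists_aniso_in f h2 hS hnd (by omega)
    have hr2 := finrank_inf_orth f hw hw0
    obtain ⟨u, hu, huu⟩ := exists_aniso_in f h2 hS (nondeg_inf_ker f hS hnd hw hw0) (by omega)
    have hQw : Q w ≠ 0 := fun h0 => hw0 (polarBilin_singular Q h0)
    have hc : ringChar F ≠ 2 := fun hc => h2 (by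
      exact_mod_cast (ringChar.spec F 2).2 (by rw [hc]))
    obtain ⟨a, b, hab⟩ := FiniteField.exists_root_sum_quadratic (R := F)
      (f := Polynomial.C (Q v) * Polynomial.X ^ 2)
      (g := Polynomial.C (Q w) * Polynomial.X ^ 2 + Polynomial.C (Q u))
      (Polynomial.degree_C_mul_X_pow 2 hQv)
      (by
        rw [Polynomial.degree_add_C (by rw [Polynomial.degree_C_mul_X_pow 2 hQw]; decide)]
        exact Polynomial.degree_C_mul_X_pow 2 hQw)
      (FiniteField.odd_card_of_char_ne_two hc)
    simp at hab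
    have h1 : f v w = 0 := hw.2
    have h3 : f v u = 0 := hu.1.2
    have h4 : f w u = 0 := hu.2
    refine ⟨u + a • v + b • w, W.add_mem (W.add_mem hu.1.1 (W.smul_mem _ hv)) (W.smul_mem _ hw.1),
      fun h0 => huu ?_, ?_⟩
    · have h5 := congrArg (f u) h0
      rw [map_add, map_add, map_smul, map_smul, map_zero, hS.eq u v, h3, hS.eq u w, h4, smul_zero,
        smul_zero, add_zero, add_zero] at h5
      exact h5
    · rw [quad_add_smul', quad_add_smul', map_add, map_smul, LinearMap.add_apply, LinearMap.smul_apply,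
        hS.eq u v, h3, hS.eq u w, h4, h1]
      simp
      linear_combination hab

theorem exists_partner {W : Submodule F V}
    (hW : ∀ w ∈ W, w ≠ 0 → ∃ u ∈ W, QuadraticMap.polarBilin Q w u ≠ 0) {e : V} (he : e ∈ W)
    (he0 : e ≠ 0) (hQe : Q e = 0) :
    ∃ f ∈ W, Q f = 0 ∧ QuadraticMap.polarBilin Q e f = 1 := by
  obtain ⟨u, hu, heu⟩ := hW e he he0
  set B := QuadraticMap.polarBilin Q
  set u' := (B e u)⁻¹ • u
  have hu' : u' ∈ W := W.smul_mem _ hu
  have h1 : B e u' = 1 := by simp [u', inv_mul_cancel₀ heu]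
  refine ⟨u' + (-Q u') • e, W.add_mem hu' (W.smul_mem _ he), ?_, ?_⟩
  · rw [quad_add_smul', hQe, (polarBilin_isSymm Q).eq u' e, h1]; ring
  · rw [map_add, h1, map_smul, polarBilin_singular Q hQe, smul_zero, add_zero]

/-- Split a non-degenerate subspace into hyperbolic pairs and an anisotropic rest. -/
theorem exists_hyperbolic_family [Finite F] (n : ℕ) :
    ∀ W : Submodule F V, (∀ w ∈ W, w ≠ 0 → ∃ u ∈ W, QuadraticMap.polarBilin Q w u ≠ 0) →
      Module.finrank F W = n →
      ∃ (k : ℕ) (e f : Fin k → V) (R : Submodule F V),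
        2 * k + Module.finrank F R = n ∧ Module.finrank F R ≤ 2 ∧ R ≤ W ∧
        (∀ i, e i ∈ W ∧ f i ∈ W ∧ Q (e i) = 0 ∧ Q (f i) = 0) ∧
        (∀ i j, QuadraticMap.polarBilin Q (e i) (f j) = if i = j then 1 else 0) ∧
        (∀ i j, QuadraticMap.polarBilin Q (e i) (e j) = 0 ∧ QuadraticMap.polarBilin Q (f i) (f j) = 0) ∧
        (∀ i, ∀ r ∈ R, QuadraticMap.polarBilin Q (e i) r = 0 ∧ QuadraticMap.polarBilin Q (f i) r = 0) ∧
        (∀ r ∈ R, Q r = 0 → r = 0) ∧
        (∀ w ∈ R, w ≠ 0 → ∃ u ∈ R, QuadraticMap.polarBilin Q w u ≠ 0) ∧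
        W ≤ Submodule.span F (Set.range e ∪ Set.range f) ⊔ R := by
  induction n using Nat.strong_induction_on with
  | _ n ih =>
    intro W hW hWn
    have hsing : ∀ u, Q u = 0 → QuadraticMap.polarBilin Q u u = 0 := fun u hu => polarBilin_singular Q hu
    have hpart : ∀ {e : V}, e ∈ W → e ≠ 0 → Q e = 0 →
        ∃ f ∈ W, Q f = 0 ∧ QuadraticMap.polarBilin Q e f = 1 := fun he he0 hQe => exists_partner Q hW he he0 hQe
    have hbig : 3 ≤ Module.finrank F W → ∃ v ∈ W, v ≠ 0 ∧ Q v = 0 := exists_singular_in Q hW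
    have hS := polarBilin_isSymm Q
    obtain ⟨B, hB⟩ : ∃ B, B = QuadraticMap.polarBilin Q := ⟨_, rfl⟩
    simp only [← hB] at *
    by_cases hz : ∀ w ∈ W, Q w = 0 → w = 0
    · refine ⟨0, Fin.elim0, Fin.elim0, W, by omega, ?_, le_rfl, fun i => i.elim0, fun i => i.elim0,
        fun i => i.elim0, fun i => i.elim0, hz, hW, le_sup_right⟩
      by_contra hlt
      obtain ⟨v, hv, hv0, hQv⟩ := hbig (by omega)
      exact hv0 (hz v hv hQv)
    · push Not at hz
      obtain ⟨e₀, he₀, hQe, hne⟩ := hz
      obtain ⟨f₀, hf₀, hQf, h1⟩ := hpart he₀ hne hQe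
      have hee : B e₀ e₀ = 0 := hsing _ hQe
      have hff : B f₀ f₀ = 0 := hsing _ hQf
      have h1' : B f₀ e₀ = 1 := (hS.eq f₀ e₀).trans h1
      have hr := finrank_inf_two_kers W (B f₀) (B e₀) he₀ hf₀ h1' hff h1
      set W' := W ⊓ LinearMap.ker (B f₀) ⊓ LinearMap.ker (B e₀)
      have hW'e : ∀ w ∈ W', B e₀ w = 0 := fun w hw => hw.2
      have hW'f : ∀ w ∈ W', B f₀ w = 0 := fun w hw => hw.1.2
      have hsplit : ∀ w ∈ W, w - (B f₀ w) • e₀ - (B e₀ w) • f₀ ∈ W' := fun w hw =>
        ⟨⟨W.sub_mem (W.sub_mem hw (W.smul_mem _ he₀)) (W.smul_mem _ hf₀), by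
          simp [LinearMap.mem_ker, hff, h1']⟩, by simp [LinearMap.mem_ker, hee, h1]⟩
      have hnd : ∀ w ∈ W', w ≠ 0 → ∃ u ∈ W', B w u ≠ 0 := by
        intro w hw hw0
        obtain ⟨u, hu, hwu⟩ := hW w hw.1.1 hw0
        refine ⟨_, hsplit u hu, ?_⟩
        simp [hS.eq w e₀, hS.eq w f₀, hW'e w hw, hW'f w hw, hwu]
      obtain ⟨k, e, f, R, hk, hR2, hRW, hmem, hEF, hEE, hER, hAn, hRn, hspan⟩ :=
        ih _ (by omega) W' hnd rfl
      refine ⟨k + 1, Fin.cons e₀ e, Fin.cons f₀ f, R, by omega, hR2, fun r hr' => (hRW hr').1.1,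
        fun i => ?_, fun i j => ?_, fun i j => ?_, fun i r hr' => ?_, hAn, hRn, fun w hw => ?_⟩
      · induction i using Fin.cases with
        | zero => exact ⟨he₀, hf₀, hQe, hQf⟩
        | succ i => simpa using And.intro (hmem i).1.1.1 (And.intro (hmem i).2.1.1.1 (hmem i).2.2)
      · induction i using Fin.cases with
        | zero =>
          induction j using Fin.cases with
          | zero => simpa using h1
          | succ j => simpa [(Fin.succ_ne_zero j).symm] using hW'e _ (hmem j).2.1
        | succ i =>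
          induction j using Fin.cases with
          | zero => simpa [Fin.succ_ne_zero i, hS.eq (e i) f₀] using hW'f _ (hmem i).1
          | succ j => simpa using hEF i j
      · induction i using Fin.cases with
        | zero =>
          induction j using Fin.cases with
          | zero => exact ⟨hee, hff⟩
          | succ j => simpa using And.intro (hW'e _ (hmem j).1) (hW'f _ (hmem j).2.1)
        | succ i =>
          induction j using Fin.cases with
          | zero =>
            simpa [hS.eq (e i) e₀, hS.eq (f i) f₀] using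
              And.intro (hW'e _ (hmem i).1) (hW'f _ (hmem i).2.1)
          | succ j => simpa using hEE i j
      · induction i using Fin.cases with
        | zero => exact ⟨hW'e r (hRW hr'), hW'f r (hRW hr')⟩
        | succ i => simpa using hER i r hr'
      · set S := Submodule.span F (Set.range (Fin.cons e₀ e : Fin (k + 1) → V) ∪
          Set.range (Fin.cons f₀ f : Fin (k + 1) → V)) ⊔ R
        have he' : e₀ ∈ S := Submodule.mem_sup_left (Submodule.subset_span (Or.inl ⟨0, rfl⟩))
        have hf' : f₀ ∈ S := Submodule.mem_sup_left (Submodule.subset_span (Or.inr ⟨0, rfl⟩))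
        have hle : Submodule.span F (Set.range e ∪ Set.range f) ⊔ R ≤ S :=
          sup_le_sup_right (Submodule.span_mono (by simp only [Fin.range_cons]; grind)) R
        have h3 := S.add_mem (S.add_mem (hle (hspan (hsplit w hw))) (S.smul_mem (B e₀ w) hf'))
          (S.smul_mem (B f₀ w) he')
        simpa using h3

end Quadratic

end Cfsg.Agent.Classical
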