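import Mathlib

/-! Witt's extension theorem for quadratic, alternating and Hermitian forms. -/

set_option autoImplicit false

namespace Cfsg.Agent.Classical

section Generic

variable {F V T : Type*} [Field F] [AddCommGroup V] [Module F V] [FiniteDimensional F V]

/-- The inductive skeleton of Witt's theorem. -/
theorem witt_of_step (b : V → V → T)
    (step : ∀ (X' : Submodule F V) (x y : V), x ∉ X' → y ∉ X' → b x x = b y y →
      (∀ z ∈ X', b z x = b z y ∧ b x z = b y z) →
      ∃ g : V ≃ₗ[F] V, (∀ u v, b (g u) (g v) = b u v) ∧ (∀ z ∈ X', g z = z) ∧ g x = y) :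
    ∀ (X : Submodule F V) (ψ : X →ₗ[F] V), Function.Injective ψ →
      (∀ x x' : X, b (ψ x) (ψ x') = b (x : V) (x' : V)) →
      ∃ g : V ≃ₗ[F] V, (∀ u v, b (g u) (g v) = b u v) ∧ ∀ x : X, g (x : V) = ψ x := by
  suffices ∀ n, ∀ (X : Submodule F V), Module.finrank F X = n → ∀ (ψ : X →ₗ[F] V),
      Function.Injective ψ → (∀ x x' : X, b (ψ x) (ψ x') = b (x : V) (x' : V)) →
      ∃ g : V ≃ₗ[F] V, (∀ u v, b (g u) (g v) = b u v) ∧ ∀ x : X, g (x : V) = ψ x from
    fun X => this _ X rfl
  intro n
  induction n with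
  | zero =>
    intro X hX ψ _ _
    refine ⟨LinearEquiv.refl F V, fun u v => rfl, fun x => ?_⟩
    rw [Submodule.finrank_eq_zero] at hX
    subst hX
    have : x = 0 := Subtype.ext ((Submodule.mem_bot F).1 x.2)
    simp [this]
  | succ n ih =>
    intro X hX ψ hinj hψ
    let e := Module.finBasisOfFinrankEq F X hX
    set x : V := (e 0 : V) with hx
    set X' : Submodule F V := Submodule.span F (Set.range fun i : Fin n => (e i.succ : V))
    have hle : X' ≤ X := Submodule.span_le.2 (by rintro _ ⟨i, rfl⟩; exact (e i.succ).2)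
    have hli : LinearIndependent F (fun i => (e i : V)) :=
      e.linearIndependent.map' X.subtype X.ker_subtype
    have hxX' : x ∉ X' := by
      have h := hli.notMem_span_image (s := Set.range Fin.succ) (x := 0)
        (by rintro ⟨i, hi⟩; exact Fin.succ_ne_zero i hi)
      rwa [← Set.range_comp] at h
    have hrk : Module.finrank F X' = n := by
      show Module.finrank F (Submodule.span F (Set.range ((fun i => (e i : V)) ∘ Fin.succ))) = n
      rw [finrank_span_eq_card (hli.comp Fin.succ (Fin.succ_injective n)), Fintype.card_fin]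
    obtain ⟨g, hg, hgx⟩ := ih X' hrk (ψ.comp (Submodule.inclusion hle))
      (hinj.comp (Submodule.inclusion_injective hle)) (fun z z' => hψ _ _)
    have hgx' : ∀ z (hz : z ∈ X'), g z = ψ ⟨z, hle hz⟩ := fun z hz => hgx ⟨z, hz⟩
    set y := g.symm (ψ (e 0))
    have hgs : ∀ u v, b (g.symm u) (g.symm v) = b u v := fun u v => by
      conv_rhs => rw [← g.apply_symm_apply u, ← g.apply_symm_apply v, hg]
    have hy : y ∉ X' := by
      intro hy
      have h1 := hgx' y hy
      rw [g.apply_symm_apply] at h1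
      exact hxX' (by rw [hx, congrArg Subtype.val (hinj h1)]; exact hy)
    obtain ⟨h, hh, hfix, hhx⟩ := step X' x y hxX' hy (by rw [hgs, hψ]) (fun z hz => by
      have h1 : g.symm (ψ ⟨z, hle hz⟩) = z := by rw [← hgx' z hz, g.symm_apply_apply]
      constructor
      · conv_rhs => rw [← h1, hgs, hψ]
      · conv_rhs => rw [← h1, hgs, hψ])
    refine ⟨h.trans g, fun u v => by rw [LinearEquiv.trans_apply, LinearEquiv.trans_apply, hg, hh], ?_⟩
    have key : (((h.trans g : V ≃ₗ[F] V) : V →ₗ[F] V).comp X.subtype) = ψ := by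
      refine e.ext fun i => ?_
      induction i using Fin.cases with
      | zero =>
        show g (h x) = _
        rw [hhx, g.apply_symm_apply]
      | succ i =>
        have hm : (e i.succ : V) ∈ X' := Submodule.subset_span ⟨i, rfl⟩
        show g (h (e i.succ : V)) = _
        rw [hfix _ hm, hgx' _ hm]
    exact fun z => LinearMap.congr_fun key z

theorem exists_dual_eq_one (S : Submodule F V) {x : V} (hx : x ∉ S) :
    ∃ φ : Module.Dual F V, φ x = 1 ∧ ∀ z ∈ S, φ z = 0 := by
  obtain ⟨φ, h1, h2⟩ := Submodule.exists_dual_map_eq_bot_of_notMem hx inferInstance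
  refine ⟨(φ x)⁻¹ • φ, by simp [h1], fun z hz => ?_⟩
  have : φ z ∈ S.map φ := Submodule.mem_map_of_mem hz
  rw [h2, Submodule.mem_bot] at this
  simp [this]

theorem exists_bilin_eq_one (B : LinearMap.BilinForm F V) (hB : B.Nondegenerate)
    (S : Submodule F V) {x : V} (hx : x ∉ S) : ∃ w, B w x = 1 ∧ ∀ z ∈ S, B w z = 0 := by
  obtain ⟨φ, h1, h2⟩ := exists_dual_eq_one S hx
  obtain ⟨w, hw⟩ := (B.toDual hB).surjective φ
  have h : ∀ u, B w u = φ u := fun u => by rw [← hw]; rfl
  exact ⟨w, by rw [h, h1], fun z hz => by rw [h]; exact h2 z hz⟩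

/-- A linear map preserving `b`, with a left inverse on the nose, gives an equivalence. -/
theorem exists_equiv_of_injective (L : V →ₗ[F] V) (hL : Function.Injective L) :
    ∃ g : V ≃ₗ[F] V, ∀ v, g v = L v :=
  ⟨LinearEquiv.ofBijective L ⟨hL, LinearMap.injective_iff_surjective.1 hL⟩, fun _ => rfl⟩

end Generic

section Alternating

variable {F V : Type*} [Field F] [AddCommGroup V] [Module F V] [FiniteDimensional F V]
  (B : LinearMap.BilinForm F V)

theorem injective_of_preserves (hB : B.Nondegenerate) (L : V →ₗ[F] V)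
    (h : ∀ u v, B (L u) (L v) = B u v) : Function.Injective L := by
  refine (injective_iff_map_eq_zero L).2 fun u hu => hB.1 u fun v => ?_
  rw [← h, hu]; simp

theorem witt_alternating (hB : B.Nondegenerate) (hA : B.IsAlt) (X : Submodule F V)
    (ψ : X →ₗ[F] V) (hinj : Function.Injective ψ)
    (hψ : ∀ x x' : X, B (ψ x) (ψ x') = B (x : V) (x' : V)) :
    ∃ g : V ≃ₗ[F] V, (∀ u v : V, B (g u) (g v) = B u v) ∧ ∀ x : X, g (x : V) = ψ x := by
  refine witt_of_step (fun u v => B u v) ?_ X ψ hinj hψ
  intro X' x y hx hy _ hz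
  have hsw : ∀ u v, B u v = -B v u := fun u v => by rw [LinearMap.IsAlt.neg hA v u]
  set d := y - x with hd
  have hdX : ∀ z ∈ X', B d z = 0 := fun z hz' => by
    rw [hd, map_sub, LinearMap.sub_apply, (hz z hz').2, sub_self]
  have hXd : ∀ z ∈ X', B z d = 0 := fun z hz' => by rw [hsw, hdX z hz', neg_zero]
  by_cases hxy : B x y = 0
  · have hxd : B x d = 0 := by rw [hd, map_sub, hA x, hxy, sub_zero]
    have hdx : B d x = 0 := by rw [hsw, hxd, neg_zero]
    by_cases hmem : x ∈ X' ⊔ Submodule.span F {d}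
    · obtain ⟨x', hx', v, hv, hsum⟩ := Submodule.mem_sup.1 hmem
      obtain ⟨c, rfl⟩ := Submodule.mem_span_singleton.1 hv
      have hdX' : d ∉ X' := fun h => hx (hsum ▸ X'.add_mem hx' (X'.smul_mem c h))
      have hc : c ≠ 0 := by rintro rfl; rw [zero_smul, add_zero] at hsum; exact hx (hsum ▸ hx')
      have hy' : y = x' + (c + 1) • d := by
        rw [add_smul, one_smul, ← add_assoc, hsum, hd, add_sub_cancel]
      have hc1 : c + 1 ≠ 0 := by intro h; rw [h, zero_smul, add_zero] at hy'; exact hy (hy' ▸ hx')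
      obtain ⟨e, he, heX⟩ := exists_bilin_eq_one B hB X' hdX'
      set a := (c + 1) / c with ha
      have ha0 : a ≠ 0 := div_ne_zero hc1 hc
      let L : V →ₗ[F] V := LinearMap.id + ((a - 1) • (B e)).smulRight d
        + ((a⁻¹ - 1) • (-(B d))).smulRight e
      have hL : ∀ z, L z = z + ((a - 1) * B e z) • d + ((a⁻¹ - 1) * -(B d z)) • e := fun z => rfl
      have hde : B d e = -1 := by rw [hsw, he]
      have hpres : ∀ u v, B (L u) (L v) = B u v := by
        intro u v
        simp only [hL, map_add, map_smul, LinearMap.add_apply, LinearMap.smul_apply, smul_eq_mul,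
          hA d, hA e, he, hde, hsw u d, hsw u e]
        field_simp
        ring
      obtain ⟨g, hg⟩ := exists_equiv_of_injective L (injective_of_preserves B hB L hpres)
      have hfix : ∀ z ∈ X', g z = z := fun z hz' => by
        simp [hg, hL, hdX z hz', heX z hz']
      refine ⟨g, fun u v => by rw [hg, hg]; exact hpres u v, hfix, ?_⟩
      rw [← hsum, map_add, map_smul, hfix x' hx', hg, hL, he, hA d, hy']
      simp only [neg_zero, mul_zero, zero_smul, add_zero, mul_one]
      match_scalars <;> first | ring1 | (rw [ha]; field_simp; ring)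
    · obtain ⟨w, hw, hwS⟩ := exists_bilin_eq_one B hB _ hmem
      have hwd : B w d = 0 := hwS d (Submodule.mem_sup_right (Submodule.mem_span_singleton_self d))
      let L : V →ₗ[F] V := LinearMap.id + (B d).smulRight w + (B w).smulRight d
      have hL : ∀ z, L z = z + (B d z) • w + (B w z) • d := fun z => rfl
      have hdw : B d w = 0 := by rw [hsw, hwd, neg_zero]
      have hpres : ∀ u v, B (L u) (L v) = B u v := by
        intro u v
        simp only [hL, map_add, map_smul, LinearMap.add_apply, LinearMap.smul_apply, smul_eq_mul,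
          hA d, hA w, hwd, hdw, hsw u d, hsw u w]
        ring
      obtain ⟨g, hg⟩ := exists_equiv_of_injective L (injective_of_preserves B hB L hpres)
      refine ⟨g, fun u v => by rw [hg, hg]; exact hpres u v, fun z hz' => ?_, ?_⟩
      · simp [hg, hL, hdX z hz', hwS z (Submodule.mem_sup_left hz')]
      · rw [hg, hL, hdx, hw, zero_smul, add_zero, one_smul, hd, add_sub_cancel]
  · have hxd : B x d = B x y := by rw [hd, map_sub, hA x, sub_zero]
    let L : V →ₗ[F] V := LinearMap.id + ((B x y)⁻¹ • (-(B d))).smulRight d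
    have hL : ∀ z, L z = z + ((B x y)⁻¹ * -(B d z)) • d := fun z => rfl
    have hpres : ∀ u v, B (L u) (L v) = B u v := by
      intro u v
      simp only [hL, map_add, map_smul, LinearMap.add_apply, LinearMap.smul_apply, smul_eq_mul,
        hA d, hsw u d]
      ring
    obtain ⟨g, hg⟩ := exists_equiv_of_injective L (injective_of_preserves B hB L hpres)
    refine ⟨g, fun u v => by rw [hg, hg]; exact hpres u v, fun z hz' => ?_, ?_⟩
    · simp [hg, hL, hdX z hz']
    · rw [hg, hL, hsw d x, neg_neg, hxd, inv_mul_cancel₀ hxy, one_smul, hd, add_sub_cancel]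

end Alternating

section Quadratic

variable {F V : Type*} [Field F] [AddCommGroup V] [Module F V] [FiniteDimensional F V]
  (Q : QuadraticForm F V)

theorem polar_preserved_of_map {L : V →ₗ[F] V} (h : ∀ v, Q (L v) = Q v) (u v : V) :
    QuadraticMap.polarBilin Q (L u) (L v) = QuadraticMap.polarBilin Q u v := by
  simp only [QuadraticMap.polarBilin_apply_apply, QuadraticMap.polar, ← map_add, h]

theorem quad_expand (x v : V) (a : F) :
    Q (x + a • v) = Q x + a * a * Q v + a * QuadraticMap.polarBilin Q x v := by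
  rw [QuadraticMap.map_add ⇑Q x (a • v), QuadraticMap.map_smul, QuadraticMap.polar_smul_right,
    QuadraticMap.polarBilin_apply_apply, smul_eq_mul, smul_eq_mul]

/-- Witt's extension theorem for quadratic forms with non-degenerate polar form, any field. -/
theorem witt_quadratic (hQ : (QuadraticMap.polarBilin Q).Nondegenerate) (X : Submodule F V)
    (ψ : X →ₗ[F] V) (hinj : Function.Injective ψ) (hψ : ∀ x : X, Q (ψ x) = Q (x : V)) :
    ∃ g : V ≃ₗ[F] V, (∀ v : V, Q (g v) = Q v) ∧ ∀ x : X, g (x : V) = ψ x := by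
  set f := QuadraticMap.polarBilin Q
  have hsw : ∀ u v, f u v = f v u := fun u v => QuadraticMap.polar_comm (⇑Q) u v
  have hself : ∀ u, f u u = 2 * Q u := fun u => by
    show QuadraticMap.polar (⇑Q) u u = _
    rw [QuadraticMap.polar_self, nsmul_eq_mul]; norm_num
  suffices ∃ g : V ≃ₗ[F] V, (∀ u v : V, ((Q (g u), f (g u) (g v)) : F × F) = (Q u, f u v)) ∧
      ∀ x : X, g (x : V) = ψ x by
    obtain ⟨g, hg, hgx⟩ := this
    exact ⟨g, fun v => congrArg Prod.fst (hg v v), hgx⟩
  refine witt_of_step (fun u v => ((Q u, f u v) : F × F)) ?_ X ψ hinj ?_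
  swap
  · intro x x'
    refine Prod.ext (hψ x) ?_
    show QuadraticMap.polar (⇑Q) (ψ x) (ψ x') = QuadraticMap.polar (⇑Q) (x : V) (x' : V)
    simp only [QuadraticMap.polar, ← map_add, hψ, Submodule.coe_add]
  intro X' x y hx hy hxy hz
  simp only [Prod.mk.injEq] at hxy hz ⊢
  have hQxy : Q x = Q y := hxy.1
  suffices ∃ g : V ≃ₗ[F] V, (∀ v, Q (g v) = Q v) ∧ (∀ z ∈ X', g z = z) ∧ g x = y by
    obtain ⟨g, hg, h1, h2⟩ := this
    exact ⟨g, fun u v => ⟨hg u, polar_preserved_of_map Q (L := (g : V →ₗ[F] V)) hg u v⟩, h1, h2⟩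
  have mk : ∀ L : V →ₗ[F] V, (∀ v, Q (L v) = Q v) → ∃ g : V ≃ₗ[F] V, ∀ v, g v = L v := fun L h =>
    exists_equiv_of_injective L (injective_of_preserves f hQ L (polar_preserved_of_map Q h))
  set d := y - x with hd
  have hdX : ∀ z ∈ X', f d z = 0 := fun z hz' => by
    rw [hd, map_sub, LinearMap.sub_apply, hsw x z, hsw y z, (hz z hz').1.2, sub_self]
  have hQd : Q d = -(f d x) := by
    have h1 := quad_expand Q y x (-1)
    rw [neg_one_smul, ← sub_eq_add_neg, ← hd] at h1
    rw [h1, hd, map_sub, LinearMap.sub_apply, hself, hQxy]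
    ring
  by_cases hd0 : Q d = 0
  · have hdx : f d x = 0 := neg_eq_zero.1 (hQd ▸ hd0)
    have hdd : f d d = 0 := by rw [hself, hd0, mul_zero]
    by_cases hmem : x ∈ X' ⊔ Submodule.span F {d}
    · obtain ⟨x', hx', v, hv, hsum⟩ := Submodule.mem_sup.1 hmem
      obtain ⟨c, rfl⟩ := Submodule.mem_span_singleton.1 hv
      have hdX' : d ∉ X' := fun h => hx (hsum ▸ X'.add_mem hx' (X'.smul_mem c h))
      have hc : c ≠ 0 := by rintro rfl; rw [zero_smul, add_zero] at hsum; exact hx (hsum ▸ hx')
      have hy' : y = x' + (c + 1) • d := by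
        rw [add_smul, one_smul, ← add_assoc, hsum, hd, add_sub_cancel]
      have hc1 : c + 1 ≠ 0 := by intro h; rw [h, zero_smul, add_zero] at hy'; exact hy (hy' ▸ hx')
      obtain ⟨e₀, he₀, heX₀⟩ := exists_bilin_eq_one f hQ X' hdX'
      obtain ⟨e, he⟩ : ∃ e, e = e₀ + (-Q e₀) • d := ⟨_, rfl⟩
      have hQe : Q e = 0 := by
        rw [he, quad_expand, hd0]
        have : f e₀ d = 1 := he₀
        rw [this]; ring
      have hed : f e d = 1 := by
        rw [he, map_add, map_smul, LinearMap.add_apply, LinearMap.smul_apply, he₀, hdd, smul_zero,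
          add_zero]
      have heX : ∀ z ∈ X', f e z = 0 := fun z hz' => by
        rw [he, map_add, map_smul, LinearMap.add_apply, LinearMap.smul_apply, heX₀ z hz', hdX z hz',
          smul_zero, add_zero]
      set a := (c + 1) / c with ha
      have ha0 : a ≠ 0 := div_ne_zero hc1 hc
      let L : V →ₗ[F] V := LinearMap.id + ((a - 1) • (f e)).smulRight d
        + ((a⁻¹ - 1) • (f d)).smulRight e
      have hL : ∀ z, L z = z + ((a - 1) * f e z) • d + ((a⁻¹ - 1) * f d z) • e := fun z => rfl
      have hpres : ∀ z, Q (L z) = Q z := by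
        intro z
        rw [hL, quad_expand, quad_expand, map_add, map_smul, LinearMap.add_apply,
          LinearMap.smul_apply, hd0, hQe, hsw d e, hed, hsw z d, hsw z e, smul_eq_mul]
        field_simp
        ring
      obtain ⟨g, hg⟩ := mk L hpres
      have hfix : ∀ z ∈ X', g z = z := fun z hz' => by
        rw [hg, hL, hdX z hz', heX z hz']; simp
      refine ⟨g, fun v => by rw [hg]; exact hpres v, hfix, ?_⟩
      rw [← hsum, map_add, map_smul, hfix x' hx', hg, hL, hed, hdd, hy']
      simp only [mul_zero, zero_smul, add_zero, mul_one]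
      match_scalars <;> first | ring1 | (rw [ha]; field_simp; ring)
    · obtain ⟨w, hw, hwS⟩ := exists_bilin_eq_one f hQ _ hmem
      have hwd : f w d = 0 := hwS d (Submodule.mem_sup_right (Submodule.mem_span_singleton_self d))
      let L : V →ₗ[F] V := LinearMap.id + (-(f d)).smulRight w
        + ((f w) - Q w • (f d)).smulRight d
      have hL : ∀ z, L z = z + (-(f d z)) • w + (f w z - Q w * f d z) • d := fun z => rfl
      have hpres : ∀ z, Q (L z) = Q z := by
        intro z
        rw [hL, quad_expand, quad_expand, map_add, map_smul, LinearMap.add_apply,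
          LinearMap.smul_apply, hd0, hwd, hsw z d, hsw z w, smul_eq_mul]
        ring
      obtain ⟨g, hg⟩ := mk L hpres
      refine ⟨g, fun v => by rw [hg]; exact hpres v, fun z hz' => ?_, ?_⟩
      · rw [hg, hL, hdX z hz', hwS z (Submodule.mem_sup_left hz')]; simp
      · rw [hg, hL, hdx, hw, neg_zero, zero_smul, add_zero, mul_zero, sub_zero, one_smul, hd,
          add_sub_cancel]
  · let L : V →ₗ[F] V := LinearMap.id + (-(Q d)⁻¹ • (f d)).smulRight d
    have hL : ∀ z, L z = z + (-(Q d)⁻¹ * f d z) • d := fun z => rfl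
    have hpres : ∀ z, Q (L z) = Q z := fun z => by
      rw [hL, quad_expand, hsw z d]; field_simp; ring
    obtain ⟨g, hg⟩ := mk L hpres
    refine ⟨g, fun v => by rw [hg]; exact hpres v, fun z hz' => ?_, ?_⟩
    · rw [hg, hL, hdX z hz']; simp
    · have hfdx : f d x = -Q d := by rw [hQd, neg_neg]
      rw [hg, hL, hfdx, neg_mul_neg, inv_mul_cancel₀ hd0, one_smul, hd, add_sub_cancel]

end Quadratic

section Hermitian

variable {F V : Type*} [Field F] [AddCommGroup V] [Module F V] [FiniteDimensional F V]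
  {σ : F →+* F} (B : V →ₛₗ[σ] V →ₗ[F] F)

theorem exists_trace_eq (hσ : σ ≠ RingHom.id F) (hσ2 : ∀ a, σ (σ a) = a) {t : F} (ht : σ t = t) :
    ∃ ν, ν + σ ν = t := by
  obtain ⟨a, ha⟩ : ∃ a, a + σ a ≠ 0 := by
    by_contra h
    push Not at h
    have h1 := h 1
    rw [map_one] at h1
    refine hσ (RingHom.ext fun a => ?_)
    show σ a = a
    linear_combination h a - a * h1
  refine ⟨t * (a / (a + σ a)), ?_⟩
  rw [map_mul, map_div₀, ht, map_add, hσ2, add_comm (σ a) a, ← mul_add, ← add_div, div_self ha,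
    mul_one]

theorem exists_herm_eq (hσ2 : ∀ a, σ (σ a) = a) (hS : B.IsSymm) (hB : B.Nondegenerate)
    (φ : Module.Dual F V) : ∃ w, ∀ z, B w z = φ z := by
  classical
  let e := Module.finBasis F V
  let L : V →ₗ[F] (Fin (Module.finrank F V) → F) := LinearMap.pi fun i => B (e i)
  have hinj : Function.Injective L := by
    refine (injective_iff_map_eq_zero L).2 fun v hv => hB.2 v fun u => ?_
    have h2 : (B v : V →ₗ[F] F) = 0 := e.ext fun i => by
      have h3 : B (e i) v = 0 := congrFun hv i
      rw [← hS.eq, h3, map_zero]; rfl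
    rw [← hS.eq, h2, LinearMap.zero_apply, map_zero]
  obtain ⟨w, hw⟩ := (LinearMap.injective_iff_surjective_of_finrank_eq_finrank
    (Module.finrank_fin_fun F).symm).1 hinj (fun i => σ (φ (e i)))
  refine ⟨w, fun z => ?_⟩
  have h : (B w : V →ₗ[F] F) = φ := e.ext fun i => by
    have h3 : B (e i) w = σ (φ (e i)) := congrFun hw i
    rw [← hS.eq, h3, hσ2]
  rw [h]

theorem witt_hermitian (hσ : σ ≠ RingHom.id F) (hσ2 : ∀ a, σ (σ a) = a) (hS : B.IsSymm)
    (hB : B.Nondegenerate) (X : Submodule F V) (ψ : X →ₗ[F] V) (hinj : Function.Injective ψ)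
    (hψ : ∀ x x' : X, B (ψ x) (ψ x') = B (x : V) (x' : V)) :
    ∃ g : V ≃ₗ[F] V, (∀ u v : V, B (g u) (g v) = B u v) ∧ ∀ x : X, g (x : V) = ψ x := by
  refine witt_of_step (fun u v => B u v) ?_ X ψ hinj hψ
  intro X' x y hx hy hxy hz
  have mk : ∀ L : V →ₗ[F] V, (∀ u v, B (L u) (L v) = B u v) → ∃ g : V ≃ₗ[F] V, ∀ v, g v = L v :=
    fun L h => exists_equiv_of_injective L ((injective_iff_map_eq_zero L).2 fun u hu =>
      hB.1 u fun v => by rw [← h, hu, map_zero, LinearMap.zero_apply])
  have hsymm : ∀ u v, σ (B u v) = B v u := hS.eq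
  set d := y - x with hd
  have hdX : ∀ z ∈ X', B d z = 0 := fun z hz' => by
    rw [hd, map_sub, LinearMap.sub_apply, (hz z hz').2, sub_self]
  have hrel : σ (B d x) + B d x + B d d = 0 := by
    rw [hsymm, hd]
    simp only [map_sub, LinearMap.sub_apply]
    linear_combination (norm := ring_nf) -hxy
  by_cases hμ : B d x = 0
  · have hxd : B x d = 0 := by rw [← hsymm, hμ, map_zero]
    have hdd : B d d = 0 := by rwa [hμ, map_zero, zero_add, zero_add] at hrel
    by_cases hmem : x ∈ X' ⊔ Submodule.span F {d}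
    · obtain ⟨x', hx', v, hv, hsum⟩ := Submodule.mem_sup.1 hmem
      obtain ⟨c, rfl⟩ := Submodule.mem_span_singleton.1 hv
      have hdX' : d ∉ X' := fun h => hx (hsum ▸ X'.add_mem hx' (X'.smul_mem c h))
      have hc : c ≠ 0 := by rintro rfl; rw [zero_smul, add_zero] at hsum; exact hx (hsum ▸ hx')
      have hy' : y = x' + (c + 1) • d := by
        rw [add_smul, one_smul, ← add_assoc, hsum, hd, add_sub_cancel]
      have hc1 : c + 1 ≠ 0 := by intro h; rw [h, zero_smul, add_zero] at hy'; exact hy (hy' ▸ hx')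
      obtain ⟨φ, hφ1, hφ2⟩ := exists_dual_eq_one X' hdX'
      obtain ⟨e₀, he₀⟩ := exists_herm_eq B hσ2 hS hB φ
      obtain ⟨ν, hν⟩ := exists_trace_eq hσ hσ2 (hsymm e₀ e₀)
      set e := e₀ + (-ν) • d with he
      have h1 : B e₀ d = 1 := by rw [he₀, hφ1]
      have h2 : B d e₀ = 1 := by rw [← hsymm, h1, map_one]
      have hee : B e e = 0 := by
        simp only [he, map_add, LinearMap.map_smulₛₗ, map_smul, LinearMap.add_apply,
          LinearMap.smul_apply, smul_eq_mul, h1, h2, hdd, map_neg, ← hν]
        ring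
      have hed : B e d = 1 := by
        simp only [he, map_add, LinearMap.map_smulₛₗ, LinearMap.add_apply, LinearMap.smul_apply,
          smul_eq_mul, h1, hdd, mul_zero, add_zero]
      have hde : B d e = 1 := by rw [← hsymm, hed, map_one]
      have heX : ∀ z ∈ X', B e z = 0 := fun z hz' => by
        simp only [he, map_add, LinearMap.map_smulₛₗ, LinearMap.add_apply, LinearMap.smul_apply,
          smul_eq_mul, he₀, hφ2 z hz', hdX z hz', mul_zero, add_zero]
      set a := (c + 1) / c with ha
      have ha0 : a ≠ 0 := div_ne_zero hc1 hc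
      have hb0 : σ a ≠ 0 := by simpa using ha0
      let L : V →ₗ[F] V := LinearMap.id + ((a - 1) • (B e)).smulRight d
        + (((σ a)⁻¹ - 1) • (B d)).smulRight e
      have hL : ∀ z, L z = z + ((a - 1) * B e z) • d + (((σ a)⁻¹ - 1) * B d z) • e := fun z => rfl
      have hpres : ∀ u v, B (L u) (L v) = B u v := by
        intro u v
        simp only [hL, map_add, LinearMap.map_smulₛₗ, map_smul, LinearMap.add_apply,
          LinearMap.smul_apply, smul_eq_mul, map_mul, map_sub, map_one, map_inv₀, hσ2, hsymm,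
          hdd, hee, hed, hde, RingHom.id_apply]
        field_simp
        ring
      obtain ⟨g, hg⟩ := mk L hpres
      have hfix : ∀ z ∈ X', g z = z := fun z hz' => by
        rw [hg, hL, hdX z hz', heX z hz']; simp
      refine ⟨g, fun u v => by rw [hg, hg]; exact hpres u v, hfix, ?_⟩
      rw [← hsum, map_add, map_smul, hfix x' hx', hg, hL, hed, hdd, hy']
      simp only [mul_zero, zero_smul, add_zero, mul_one]
      match_scalars <;> first | ring1 | (rw [ha]; field_simp; ring)
    · obtain ⟨φ, hφ1, hφ2⟩ := exists_dual_eq_one _ hmem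
      obtain ⟨w, hw⟩ := exists_herm_eq B hσ2 hS hB φ
      obtain ⟨ν, hν⟩ := exists_trace_eq hσ hσ2 (hsymm w w)
      have hwd : B w d = 0 := by
        rw [hw]; exact hφ2 d (Submodule.mem_sup_right (Submodule.mem_span_singleton_self d))
      have hdw : B d w = 0 := by rw [← hsymm, hwd, map_zero]
      let L : V →ₗ[F] V := LinearMap.id + (-(B d)).smulRight w
        + ((B w) - ν • (B d)).smulRight d
      have hL : ∀ z, L z = z + (-(B d z)) • w + (B w z - ν * B d z) • d := fun z => rfl
      have hpres : ∀ u v, B (L u) (L v) = B u v := by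
        intro u v
        simp only [hL, map_add, LinearMap.map_smulₛₗ, map_smul, LinearMap.add_apply,
          LinearMap.smul_apply, smul_eq_mul, map_mul, map_sub, map_neg, hsymm, hdd, hwd, hdw,
          ← hν, RingHom.id_apply]
        ring
      obtain ⟨g, hg⟩ := mk L hpres
      refine ⟨g, fun u v => by rw [hg, hg]; exact hpres u v, fun z hz' => ?_, ?_⟩
      · rw [hg, hL, hdX z hz', hw, hφ2 z (Submodule.mem_sup_left hz')]; simp
      · rw [hg, hL, hμ, hw, hφ1, neg_zero, zero_smul, add_zero, mul_zero, sub_zero, one_smul, hd,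
          add_sub_cancel]
  · let L : V →ₗ[F] V := LinearMap.id + ((B d x)⁻¹ • (B d)).smulRight d
    have hL : ∀ z, L z = z + ((B d x)⁻¹ * B d z) • d := fun z => rfl
    have hσμ : σ (B d x) ≠ 0 := by simpa using hμ
    have hdd : B d d = -σ (B d x) - B d x := by linear_combination hrel
    have hpres : ∀ u v, B (L u) (L v) = B u v := by
      intro u v
      simp only [hL, map_add, LinearMap.map_smulₛₗ, map_smul, LinearMap.add_apply,
        LinearMap.smul_apply, smul_eq_mul, map_mul, map_inv₀, hdd, ← hsymm d u, RingHom.id_apply]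
      field_simp
      ring
    obtain ⟨g, hg⟩ := mk L hpres
    refine ⟨g, fun u v => by rw [hg, hg]; exact hpres u v, fun z hz' => ?_, ?_⟩
    · rw [hg, hL, hdX z hz']; simp
    · rw [hg, hL, inv_mul_cancel₀ hμ, one_smul, hd, add_sub_cancel]

end Hermitian

end Cfsg.Agent.Classical
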