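import Mathlib
import Cfsg.Prelude.Def_LieClassical
import Cfsg.Agent.Lib.Classical.Witt
import Cfsg.Agent.Lib.Classical.NormalForms

/-! The standard Hermitian space over the field with `q ^ 2` elements: counts and group orders. -/

set_option autoImplicit false

namespace Cfsg.Agent.Classical

variable {F : Type*} [Field F] [Fintype F] {q : ℕ}

theorem two_le_q (hF : Fintype.card F = q ^ 2) : 2 ≤ q := by
  by_contra h
  have h1 := Fintype.one_lt_card (α := F)
  have : q ^ 2 ≤ 1 ^ 2 := Nat.pow_le_pow_left (by omega) 2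
  omega

theorem add_pow_q (hF : Fintype.card F = q ^ 2) (a b : F) : (a + b) ^ q = a ^ q + b ^ q := by
  obtain ⟨p, hcp⟩ := CharP.exists F
  obtain ⟨j, hp, hj⟩ := FiniteField.card F p
  obtain ⟨k, -, rfl⟩ := (Nat.dvd_prime_pow hp).1 (show q ∣ p ^ (j : ℕ) from
    hj ▸ hF ▸ dvd_pow_self q two_ne_zero)
  have := Fact.mk hp
  exact add_pow_char_pow a b p k

/-- The involutory automorphism `x ↦ x ^ q`. -/
def qFrob (hF : Fintype.card F = q ^ 2) : F →+* F where
  toFun x := x ^ q
  map_one' := one_pow q
  map_mul' a b := mul_pow a b q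
  map_zero' := zero_pow (by have := two_le_q hF; omega)
  map_add' := add_pow_q hF

theorem qFrob_apply (hF : Fintype.card F = q ^ 2) (x : F) : qFrob hF x = x ^ q := rfl

theorem qFrob_qFrob (hF : Fintype.card F = q ^ 2) (x : F) : qFrob hF (qFrob hF x) = x := by
  rw [qFrob_apply, qFrob_apply, ← pow_mul, ← sq, ← hF, FiniteField.pow_card]

theorem qFrob_ne_id (hF : Fintype.card F = q ^ 2) : qFrob hF ≠ RingHom.id F := by
  intro h
  obtain ⟨u, hu⟩ := IsCyclic.exists_ofOrder_eq_natCard (α := Fˣ)
  have h2 := two_le_q hF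
  have h1 : u ^ (q - 1) = 1 := by
    refine mul_left_cancel (a := u) ?_
    rw [mul_one, ← pow_succ', Nat.sub_add_cancel (by omega)]
    exact Units.ext (by rw [Units.val_pow_eq_pow_val]; exact RingHom.congr_fun h (u : F))
  have h3 := Nat.le_of_dvd (by omega) (orderOf_dvd_of_pow_eq_one h1)
  rw [hu, Nat.card_units, Nat.card_eq_fintype_card, hF] at h3
  have : q * 2 ≤ q ^ 2 := by rw [sq]; exact Nat.mul_le_mul_left q h2
  omega

/-- A non-zero fixed element is the norm of exactly `q + 1` elements. -/
theorem natCard_norm_eq (hF : Fintype.card F = q ^ 2) {t : F} (ht : t ^ q = t) (ht0 : t ≠ 0) :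
    Nat.card {c : F // c ^ (q + 1) = t} = q + 1 := by
  obtain ⟨c₀, hc₀⟩ := exists_norm_eq (qFrob_ne_id hF) (qFrob_qFrob hF) (t := t) ht ht0
  rw [qFrob_apply, ← pow_succ'] at hc₀
  have hc0 : c₀ ≠ 0 := by rintro rfl; rw [zero_pow (by omega)] at hc₀; exact ht0 hc₀.symm
  let e : (powMonoidHom (q + 1) : Fˣ →* Fˣ).ker ≃ {c : F // c ^ (q + 1) = t} :=
    { toFun := fun u => ⟨(u.1 : F) * c₀, by
        rw [mul_pow, hc₀, ← Units.val_pow_eq_pow_val]
        have : u.1 ^ (q + 1) = 1 := u.2
        rw [this, Units.val_one, one_mul]⟩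
      invFun := fun c => ⟨Units.mk0 (c.1 / c₀) (div_ne_zero (fun h => ht0 (by
          rw [← c.2, h, zero_pow (by omega)])) hc0), MonoidHom.mem_ker.2 (Units.ext (by
          show (c.1 / c₀) ^ (q + 1) = 1
          rw [div_pow, c.2, hc₀, div_self ht0]))⟩
      left_inv := fun u => Subtype.ext (Units.ext (by simp [hc0]))
      right_inv := fun c => Subtype.ext (by simp [hc0]) }
  rw [← Nat.card_congr e, IsCyclic.card_powMonoidHom_ker, Nat.card_units, Nat.card_eq_fintype_card, hF]
  refine Nat.gcd_eq_right ⟨q - 1, ?_⟩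
  obtain ⟨r, rfl⟩ : ∃ r, q = r + 1 := ⟨q - 1, by have := two_le_q hF; omega⟩
  rw [Nat.add_sub_cancel, show (r + 1) ^ 2 = (r + 1 + 1) * r + 1 by ring, Nat.add_sub_cancel]

theorem hermForm_add_left (n : ℕ) (u u' v : Fin n → F) :
    hermForm n F q (u + u') v = hermForm n F q u v + hermForm n F q u' v := by
  simp [hermForm, add_mul, Finset.sum_add_distrib]

theorem hermForm_smul_left (n : ℕ) (c : F) (u v : Fin n → F) :
    hermForm n F q (c • u) v = c * hermForm n F q u v := by
  simp [hermForm, Finset.mul_sum, mul_assoc]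

theorem hermForm_symm (hF : Fintype.card F = q ^ 2) (n : ℕ) (u v : Fin n → F) :
    (hermForm n F q u v) ^ q = hermForm n F q v u := by
  rw [hermForm, ← qFrob_apply hF, map_sum]
  refine Finset.sum_congr rfl fun i _ => ?_
  rw [map_mul, ← qFrob_apply hF (v i), qFrob_qFrob, qFrob_apply, mul_comm]

/-- The standard Hermitian form as a sesquilinear map (semilinear in the first argument). -/
def hermB (hF : Fintype.card F = q ^ 2) (n : ℕ) :
    (Fin n → F) →ₛₗ[qFrob hF] (Fin n → F) →ₗ[F] F :=
  LinearMap.mk₂'ₛₗ (qFrob hF) (RingHom.id F) (fun u v => hermForm n F q v u)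
    (fun u u' v => by simp [hermForm, add_pow_q hF, mul_add, Finset.sum_add_distrib])
    (fun c u v => by
      show hermForm n F q v (c • u) = qFrob hF c * hermForm n F q v u
      simp only [hermForm, qFrob_apply, Finset.mul_sum, Pi.smul_apply, smul_eq_mul, mul_pow]
      exact Finset.sum_congr rfl fun i _ => by ring)
    (fun u v v' => hermForm_add_left n v v' u)
    (fun c u v => hermForm_smul_left n c v u)

theorem hermB_apply (hF : Fintype.card F = q ^ 2) (n : ℕ) (u v : Fin n → F) :
    hermB hF n u v = hermForm n F q v u := rfl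

theorem hermForm_single_right (hF : Fintype.card F = q ^ 2) (n : ℕ) (u : Fin n → F) (i : Fin n) :
    hermForm n F q u (Pi.single i 1) = u i := by
  classical
  have hq : q ≠ 0 := by have := two_le_q hF; omega
  rw [hermForm, Finset.sum_eq_single i (fun j _ hj => by simp [hj, hq]) (by simp)]
  simp

theorem hermB_isSymm (hF : Fintype.card F = q ^ 2) (n : ℕ) : (hermB hF n).IsSymm :=
  ⟨fun u v => hermForm_symm hF n v u⟩

theorem hermB_nondegenerate (hF : Fintype.card F = q ^ 2) (n : ℕ) : (hermB hF n).Nondegenerate := by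
  classical
  refine ⟨fun u hu => funext fun i => ?_, fun v hv => funext fun i => ?_⟩
  · have h := hu (Pi.single i 1)
    rw [hermB_apply, ← hermForm_symm hF, hermForm_single_right hF] at h
    exact eq_zero_of_pow_eq_zero h
  · have h := hv (Pi.single i 1)
    rwa [hermB_apply, hermForm_single_right hF] at h

/-- Number of vectors of a given norm. -/
noncomputable def normCount (n : ℕ) (F : Type*) [Field F] (q : ℕ) (c : F) : ℕ :=
  Nat.card {v : Fin n → F // hermForm n F q v v = c}

theorem hermForm_cons (n : ℕ) (x y : F) (u v : Fin n → F) :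
    hermForm (n + 1) F q (Fin.cons x u) (Fin.cons y v) = x * y ^ q + hermForm n F q u v := by
  simp [hermForm, Fin.sum_univ_succ]

theorem normCount_succ (hF : Fintype.card F = q ^ 2) (n : ℕ) {c : F} (hc : c ^ q = c) :
    normCount (n + 1) F q c + q * normCount n F q c = (q + 1) * q ^ (2 * n) := by
  classical
  let e : {v : Fin (n + 1) → F // hermForm (n + 1) F q v v = c} ≃
      Σ w : Fin n → F, {x : F // x ^ (q + 1) = c - hermForm n F q w w} :=
    { toFun := fun v => ⟨Fin.tail v.1, v.1 0, eq_sub_of_add_eq (by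
        have := v.2
        rw [← Fin.cons_self_tail v.1, hermForm_cons, ← pow_succ'] at this
        exact this)⟩
      invFun := fun s => ⟨Fin.cons s.2.1 s.1, by
        rw [hermForm_cons, ← pow_succ', s.2.2, sub_add_cancel]⟩
      left_inv := fun v => Subtype.ext (Fin.cons_self_tail v.1)
      right_inv := fun s => rfl }
  have hfib : ∀ w : Fin n → F, Nat.card {x : F // x ^ (q + 1) = c - hermForm n F q w w} +
      q * (if hermForm n F q w w = c then 1 else 0) = q + 1 := by
    intro w
    split_ifs with h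
    · have : Nat.card {x : F // x ^ (q + 1) = c - hermForm n F q w w} = 1 := by
        rw [h, sub_self]
        exact Nat.card_eq_one_iff_unique.2 ⟨⟨fun x y => Subtype.ext
          ((eq_zero_of_pow_eq_zero x.2).trans (eq_zero_of_pow_eq_zero y.2).symm)⟩, ⟨⟨0, zero_pow (by omega)⟩⟩⟩
      omega
    · rw [natCard_norm_eq hF (by rw [← qFrob_apply hF, map_sub, qFrob_apply, qFrob_apply, hc,
        hermForm_symm hF]) (sub_ne_zero.2 (Ne.symm h))]
      omega
  have hsum := Finset.sum_congr (s₁ := Finset.univ) rfl (fun w _ => hfib w)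
  rw [Finset.sum_add_distrib, ← Finset.mul_sum, Finset.sum_boole, ← Nat.card_sigma, ← Nat.card_congr e,
    Finset.sum_const, Finset.card_univ, Fintype.card_fun, Fintype.card_fin, hF, smul_eq_mul,
    ← pow_mul, mul_comm (q ^ (2 * n))] at hsum
  rw [normCount, normCount, Nat.card_eq_fintype_card (α := {v : Fin n → F // _}), Fintype.card_subtype]
  simpa using hsum

theorem normCount_one (hF : Fintype.card F = q ^ 2) (n : ℕ) :
    (normCount n F q (1 : F) : ℤ) * q = (q : ℤ) ^ (2 * n) - (-1) ^ n * (q : ℤ) ^ n := by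
  induction n with
  | zero =>
    have : normCount 0 F q (1 : F) = 0 := by
      have : IsEmpty {v : Fin 0 → F // hermForm 0 F q v v = 1} := ⟨fun v => by
        have := v.2; simp [hermForm] at this⟩
      exact Nat.card_of_isEmpty
    simp [this]
  | succ k ih =>
    have h := congrArg (Nat.cast : ℕ → ℤ) (normCount_succ hF k (c := 1) (one_pow q))
    push_cast at h
    linear_combination (q : ℤ) * h - (q : ℤ) * ih

theorem normCount_zero (hF : Fintype.card F = q ^ 2) (n : ℕ) :
    (normCount n F q (0 : F) : ℤ) * q =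
      (q : ℤ) ^ (2 * n) + (-1) ^ n * ((q : ℤ) ^ (n + 1) - (q : ℤ) ^ n) := by
  induction n with
  | zero =>
    have : normCount 0 F q (0 : F) = 1 := Nat.card_eq_one_iff_unique.2
      ⟨inferInstance, ⟨⟨0, by simp [hermForm]⟩⟩⟩
    simp [this]
  | succ k ih =>
    have hq : q ≠ 0 := by have := two_le_q hF; omega
    have h := congrArg (Nat.cast : ℕ → ℤ) (normCount_succ hF k (c := 0) (zero_pow hq))
    push_cast at h
    linear_combination (q : ℤ) * h - (q : ℤ) * ih

/-- Number of isometries of the standard Hermitian space. -/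
noncomputable def uCard (n : ℕ) (F : Type*) [Field F] (q : ℕ) : ℕ :=
  Nat.card {g : (Fin n → F) ≃ₗ[F] (Fin n → F) //
    ∀ u v, hermForm n F q (g u) (g v) = hermForm n F q u v}

omit [Fintype F] in
theorem natCard_GU (n : ℕ) : Nat.card (GU n F q) = uCard n F q := by
  let e : GL (Fin n) F ≃* ((Fin n → F) ≃ₗ[F] (Fin n → F)) :=
    (Matrix.GeneralLinearGroup.toLin).trans
      (LinearMap.GeneralLinearGroup.generalLinearEquiv F (Fin n → F))
  refine Nat.card_congr (Equiv.subtypeEquiv e.toEquiv fun g => ?_)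
  exact Iff.rfl

theorem uCard_succ (hF : Fintype.card F = q ^ 2) (n : ℕ) :
    uCard (n + 1) F q = normCount (n + 1) F q (1 : F) * uCard n F q := by
  classical
  set h := hermForm (n + 1) F q with hh
  let E : Fin (n + 1) → F := Pi.single 0 1
  have hE : ∀ x, h x E = x 0 := fun x => hermForm_single_right hF (n + 1) x 0
  have hEE : h E E = 1 := by rw [hE]; simp [E]
  have hex : ∀ p : {v : Fin (n + 1) → F // h v v = 1},
      ∃ g : {g : (Fin (n + 1) → F) ≃ₗ[F] (Fin (n + 1) → F) // ∀ u v, h (g u) (g v) = h u v},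
        g.1 E = p.1 := by
    rintro ⟨p, hp⟩
    let X := Submodule.span F ({E} : Set (Fin (n + 1) → F))
    let ψ : X →ₗ[F] (Fin (n + 1) → F) :=
      ((LinearMap.toSpanSingleton F _ p).comp (LinearMap.proj 0)).comp X.subtype
    have hx : ∀ x : X, (x : Fin (n + 1) → F) = (x : Fin (n + 1) → F) 0 • E := fun x => by
      obtain ⟨c, hc⟩ := Submodule.mem_span_singleton.1 x.2
      rw [← hc]; simp [E]
    have hψ : ∀ x : X, ψ x = (x : Fin (n + 1) → F) 0 • p := fun x => rfl
    have hp0 : p ≠ 0 := by rintro rfl; simp [hh, hermForm] at hp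
    obtain ⟨g, hg, hgx⟩ := witt_hermitian (hermB hF (n + 1)) (qFrob_ne_id hF) (qFrob_qFrob hF)
      (hermB_isSymm hF _) (hermB_nondegenerate hF _) X ψ
      (fun x y hxy => Subtype.ext (by
        rw [hψ, hψ] at hxy
        rw [hx x, hx y, smul_left_injective F hp0 hxy]))
      (fun x y => by
        rw [hψ, hψ]
        conv_rhs => rw [hx x, hx y]
        simp only [LinearMap.map_smulₛₗ, LinearMap.smul_apply, smul_eq_mul, RingHom.id_apply, hermB_apply, ← hh]
        rw [hp, hEE])
    refine ⟨⟨g, fun u v => hg v u⟩, ?_⟩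
    have := hgx ⟨E, Submodule.mem_span_singleton_self E⟩
    simpa [hψ, E] using this
  choose sec hsec using hex
  let ext1 : ((Fin n → F) ≃ₗ[F] (Fin n → F)) → (Fin (n + 1) → F) ≃ₗ[F] (Fin (n + 1) → F) := fun k =>
    { toFun := fun x => Fin.cons (x 0) (k (Fin.tail x))
      invFun := fun x => Fin.cons (x 0) (k.symm (Fin.tail x))
      map_add' := fun x y => by
        funext i; refine Fin.cases ?_ ?_ i
        · simp
        · intro j; simp [show Fin.tail (x + y) = Fin.tail x + Fin.tail y from rfl]
      map_smul' := fun c x => by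
        funext i; refine Fin.cases ?_ ?_ i
        · simp
        · intro j; simp [show Fin.tail (c • x) = c • Fin.tail x from rfl]
      left_inv := fun x => by simp
      right_inv := fun x => by simp }
  have hext : ∀ k x, ext1 k x = Fin.cons (x 0) (k (Fin.tail x)) := fun k x => rfl
  have hextp : ∀ k : {k : (Fin n → F) ≃ₗ[F] (Fin n → F) //
      ∀ u v, hermForm n F q (k u) (k v) = hermForm n F q u v},
      ∀ u v, h (ext1 k.1 u) (ext1 k.1 v) = h u v := fun k u v => by
    conv_rhs => rw [hh, ← Fin.cons_self_tail u, ← Fin.cons_self_tail v, hermForm_cons]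
    rw [hh, hext, hext, hermForm_cons, k.2]
  let φ : {v : Fin (n + 1) → F // h v v = 1} × {k : (Fin n → F) ≃ₗ[F] (Fin n → F) //
      ∀ u v, hermForm n F q (k u) (k v) = hermForm n F q u v} →
      {g : (Fin (n + 1) → F) ≃ₗ[F] (Fin (n + 1) → F) // ∀ u v, h (g u) (g v) = h u v} := fun s =>
    ⟨(ext1 s.2.1).trans (sec s.1).1, fun u v => by
      rw [LinearEquiv.trans_apply, LinearEquiv.trans_apply, (sec s.1).2, hextp]⟩
  have hextE : ∀ k : (Fin n → F) ≃ₗ[F] (Fin n → F), ext1 k E = E := fun k => by
    rw [hext]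
    funext i; refine Fin.cases ?_ ?_ i
    · simp
    · intro j
      have ht : Fin.tail E = 0 := funext fun l => by simp [E, Fin.tail, Fin.succ_ne_zero]
      simp [ht, E, Fin.succ_ne_zero]
  rw [uCard, uCard, normCount, ← Nat.card_prod]
  refine (Nat.card_congr (Equiv.ofBijective φ ⟨?_, ?_⟩)).symm
  · rintro ⟨p, k⟩ ⟨p', k'⟩ heq
    have hh' := congrArg Subtype.val heq
    have e1 := LinearEquiv.congr_fun hh' E
    simp only [φ, LinearEquiv.trans_apply, hextE] at e1
    have hp : p = p' := Subtype.ext ((hsec p).symm.trans (e1.trans (hsec p')))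
    subst hp
    refine Prod.ext rfl (Subtype.ext (LinearEquiv.ext fun v => ?_))
    have e2 := (sec p).1.injective (LinearEquiv.congr_fun hh' (Fin.cons 0 v))
    have e3 := congrArg Fin.tail e2
    simpa [ext1] using e3
  · rintro ⟨g, hg⟩
    let p : {v : Fin (n + 1) → F // h v v = 1} := ⟨g E, (hg E E).trans hEE⟩
    set k := g.trans (sec p).1.symm with hk
    have hkp : ∀ u v, h (k u) (k v) = h u v := fun u v => by
      have h1 := (sec p).2 ((sec p).1.symm (g u)) ((sec p).1.symm (g v))
      rw [LinearEquiv.apply_symm_apply, LinearEquiv.apply_symm_apply, hg] at h1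
      exact h1.symm
    have hkE : k E = E := by
      rw [hk, LinearEquiv.trans_apply]
      exact (LinearEquiv.symm_apply_eq _).2 (hsec p).symm
    have hk0 : ∀ x, (k x) 0 = x 0 := fun x => by
      have h1 := hkp x E
      rwa [hkE, hE, hE] at h1
    let L : (Fin n → F) →ₗ[F] (Fin n → F) :=
      { toFun := fun w => Fin.tail (k (Fin.cons 0 w))
        map_add' := fun a b => by
          rw [show (Fin.cons 0 (a + b) : Fin (n + 1) → F) = Fin.cons 0 a + Fin.cons 0 b from by
            funext i; refine Fin.cases ?_ ?_ i <;> simp, map_add]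
          rfl
        map_smul' := fun c a => by
          rw [show (Fin.cons 0 (c • a) : Fin (n + 1) → F) = c • Fin.cons 0 a from by
            funext i; refine Fin.cases ?_ ?_ i <;> simp, map_smul]
          rfl }
    have hLk : ∀ w, k (Fin.cons 0 w) = Fin.cons 0 (L w) := fun w => by
      have h1 := hk0 (Fin.cons 0 w)
      rw [Fin.cons_zero] at h1
      conv_lhs => rw [← Fin.cons_self_tail (k (Fin.cons 0 w)), h1]
      rfl
    have hLp : ∀ u v, hermForm n F q (L u) (L v) = hermForm n F q u v := fun u v => by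
      have h1 := hkp (Fin.cons 0 u) (Fin.cons 0 v)
      rw [hLk, hLk, hh, hermForm_cons, hermForm_cons] at h1
      simpa using h1
    have hinj : Function.Injective L := (injective_iff_map_eq_zero L).2 fun v hv => by
      have : k (Fin.cons 0 v) = k 0 := by
        rw [hLk, hv, map_zero]; funext i; refine Fin.cases ?_ ?_ i <;> simp
      have h2 := congrArg Fin.tail (k.injective this)
      rw [Fin.tail_cons] at h2
      exact h2
    obtain ⟨k', hk'⟩ := exists_equiv_of_injective L hinj
    refine ⟨(p, ⟨k', fun u v => by rw [hk', hk']; exact hLp u v⟩), Subtype.ext (LinearEquiv.ext fun x => ?_)⟩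
    show (sec p).1 (ext1 k' x) = g x
    have hkx : k x = ext1 k' x := by
      have hdec : x = x 0 • E + Fin.cons 0 (Fin.tail x) := by
        funext i; refine Fin.cases ?_ ?_ i
        · simp [E]
        · intro j; simp [E, Fin.succ_ne_zero, Fin.tail]
      conv_lhs => rw [hdec, map_add, map_smul, hkE, hLk, ← hk']
      rw [hext]
      funext i; refine Fin.cases ?_ ?_ i
      · simp [E]
      · intro j; simp [E, Fin.succ_ne_zero]
    rw [← hkx, hk, LinearEquiv.trans_apply, LinearEquiv.apply_symm_apply]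

theorem order_GU (hF : Fintype.card F = q ^ 2) (n : ℕ) :
    (Nat.card (GU n F q) : ℤ) = (q : ℤ) ^ (n * (n - 1) / 2) *
      ∏ i ∈ Finset.range n, ((q : ℤ) ^ (i + 1) + (-1) ^ i) := by
  rw [natCard_GU]
  induction n with
  | zero =>
    have : uCard 0 F q = 1 := Nat.card_eq_one_iff_unique.2
      ⟨⟨fun g h => Subtype.ext (LinearEquiv.ext fun v => Subsingleton.elim _ _)⟩,
        ⟨⟨LinearEquiv.refl F _, fun u v => rfl⟩⟩⟩
    simp [this]
  | succ k ih =>
    have hq : (q : ℤ) ≠ 0 := by have := two_le_q hF; omega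
    have hN : (normCount (k + 1) F q (1 : F) : ℤ) = (q : ℤ) ^ k * ((q : ℤ) ^ (k + 1) + (-1) ^ k) :=
      mul_right_cancel₀ hq ((normCount_one hF (k + 1)).trans (by ring))
    have hexp : (k + 1) * (k + 1 - 1) / 2 = k + k * (k - 1) / 2 := by
      rcases k with _ | j
      · rfl
      · simp only [Nat.add_sub_cancel]
        rw [show (j + 1 + 1) * (j + 1) = (j + 1) * j + (j + 1) * 2 by ring,
          Nat.add_mul_div_right _ _ (by norm_num)]
        ring
    rw [uCard_succ hF, Nat.cast_mul, hN, ih, Finset.prod_range_succ, hexp, pow_add]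
    ring

theorem det_unitary (hF : Fintype.card F = q ^ 2) {n : ℕ} {M : Matrix (Fin n) (Fin n) F}
    (hM : ∀ u v, hermForm n F q (M.mulVec u) (M.mulVec v) = hermForm n F q u v) :
    M.det * M.det ^ q = 1 := by
  classical
  have h : M.transpose * M.map (qFrob hF) = 1 := by
    ext i j
    have h1 := hM (Pi.single i 1) (Pi.single j 1)
    rw [hermForm_single_right hF, Pi.single_apply] at h1
    simp only [hermForm, Matrix.mulVec_single_one] at h1
    simpa [Matrix.mul_apply, Matrix.one_apply, qFrob_apply, eq_comm] using h1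
  have h2 := congrArg Matrix.det h
  rw [Matrix.det_mul, Matrix.det_transpose, Matrix.det_one, ← RingHom.mapMatrix_apply, ← RingHom.map_det,
    qFrob_apply] at h2
  exact h2

theorem natCard_GU_eq_SU (hF : Fintype.card F = q ^ 2) {n : ℕ} (hn : 1 ≤ n) :
    Nat.card (GU n F q) = (q + 1) * Nat.card (SU n F q) := by
  classical
  let d : GU n F q →* Fˣ := Matrix.GeneralLinearGroup.det.comp (GU n F q).subtype
  have hd : ∀ g : GU n F q, (d g : F) = Matrix.det ((g : GL (Fin n) F) : Matrix (Fin n) (Fin n) F) :=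
    fun g => rfl
  have hrange : d.range = (powMonoidHom (q + 1) : Fˣ →* Fˣ).ker := by
    ext c
    constructor
    · rintro ⟨g, rfl⟩
      refine MonoidHom.mem_ker.2 (Units.ext ?_)
      show (d g : F) ^ (q + 1) = 1
      rw [hd, pow_succ']
      exact det_unitary hF g.2
    · intro hc
      have hc' : (c : F) * (c : F) ^ q = 1 := by
        rw [← pow_succ']; exact congrArg Units.val (MonoidHom.mem_ker.1 hc)
      let D : Fin n → F := Function.update 1 ⟨0, hn⟩ (c : F)
      have hDD : ∀ i, D i * D i ^ q = 1 := fun i => by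
        by_cases hi : i = ⟨0, hn⟩
        · simp [D, hi, hc']
        · simp [D, hi]
      have hdet : (Matrix.diagonal D).det = (c : F) := by
        simp [D, Finset.prod_update_of_mem]
      refine ⟨⟨Matrix.GeneralLinearGroup.mkOfDetNeZero (Matrix.diagonal D) (by rw [hdet]; exact c.ne_zero),
        fun u v => ?_⟩, Units.ext ?_⟩
      · show hermForm n F q (Matrix.mulVec (Matrix.diagonal D) u) (Matrix.mulVec (Matrix.diagonal D) v) = _
        refine Finset.sum_congr rfl fun i _ => ?_
        rw [Matrix.mulVec_diagonal, Matrix.mulVec_diagonal, mul_pow]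
        linear_combination (u i * v i ^ q) * hDD i
      · rw [hd]; exact hdet
  let e : d.ker ≃ SU n F q :=
    { toFun := fun g => ⟨⟨((g.1 : GL (Fin n) F) : Matrix (Fin n) (Fin n) F),
          (hd g.1).symm.trans (congrArg Units.val (MonoidHom.mem_ker.1 g.2))⟩, fun u v => g.1.2 u v⟩
      invFun := fun s => ⟨⟨Matrix.SpecialLinearGroup.toGL s.1, fun u v => s.2 u v⟩,
        MonoidHom.mem_ker.2 (Units.ext ((hd _).trans s.1.2))⟩
      left_inv := fun g => Subtype.ext (Subtype.ext (Units.ext rfl))
      right_inv := fun s => rfl }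
  rw [d.ker.card_eq_card_quotient_mul_card_subgroup,
    Nat.card_congr (QuotientGroup.quotientKerEquivRange d).toEquiv, hrange, Nat.card_congr e,
    IsCyclic.card_powMonoidHom_ker, Nat.card_units, Nat.card_eq_fintype_card, hF]
  congr 1
  refine Nat.gcd_eq_right ⟨q - 1, ?_⟩
  obtain ⟨r, rfl⟩ : ∃ r, q = r + 1 := ⟨q - 1, by have := two_le_q hF; omega⟩
  rw [Nat.add_sub_cancel, show (r + 1) ^ 2 = (r + 1 + 1) * r + 1 by ring, Nat.add_sub_cancel]

theorem cast_gu_factor {q : ℕ} (hq : 1 ≤ q) (i : ℕ) :
    (((if Even i then q ^ (i + 1) + 1 else q ^ (i + 1) - 1) : ℕ) : ℤ) = (q : ℤ) ^ (i + 1) + (-1) ^ i := by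
  rcases Nat.even_or_odd i with he | ho
  · rw [if_pos he, he.neg_one_pow]; push_cast; ring
  · rw [if_neg (Nat.not_even_iff_odd.2 ho), ho.neg_one_pow, Nat.cast_sub (Nat.one_le_pow _ _ hq)]
    push_cast; ring

end Cfsg.Agent.Classical
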