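import Mathlib
import Cfsg.Prelude.Def_LieClassical
import Cfsg.Agent.Lib.Classical.Unit

/-! Matrix criterion for unitarity, the centre of `SU_n` and the map to `PSU_n`. -/

set_option autoImplicit false

namespace Cfsg.Agent.Classical

open Matrix

variable {F : Type*} [Field F] [Fintype F] {q n : ℕ}

theorem hermForm_eq_dotProduct (hF : Fintype.card F = q ^ 2) (u v : Fin n → F) :
    hermForm n F q u v = u ⬝ᵥ fun i => qFrob hF (v i) := rfl

theorem preserves_of_transpose_mul (hF : Fintype.card F = q ^ 2) {M : Matrix (Fin n) (Fin n) F}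
    (hM : Mᵀ * M.map (qFrob hF) = 1) (u v : Fin n → F) :
    hermForm n F q (M *ᵥ u) (M *ᵥ v) = hermForm n F q u v := by
  have h1 : (fun i => qFrob hF ((M *ᵥ v) i)) = M.map (qFrob hF) *ᵥ fun i => qFrob hF (v i) :=
    funext fun i => RingHom.map_mulVec (qFrob hF) M v i
  rw [hermForm_eq_dotProduct hF, hermForm_eq_dotProduct hF, h1, Matrix.dotProduct_mulVec,
    ← Matrix.vecMul_transpose, Matrix.vecMul_vecMul, hM, Matrix.vecMul_one]

theorem transpose_mul_of_preserves (hF : Fintype.card F = q ^ 2) {M : Matrix (Fin n) (Fin n) F}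
    (hM : ∀ u v, hermForm n F q (M *ᵥ u) (M *ᵥ v) = hermForm n F q u v) :
    Mᵀ * M.map (qFrob hF) = 1 := by
  classical
  ext i j
  have h1 := hM (Pi.single i 1) (Pi.single j 1)
  rw [hermForm_single_right hF, Pi.single_apply] at h1
  simp only [hermForm, Matrix.mulVec_single_one] at h1
  simpa [Matrix.mul_apply, Matrix.one_apply, qFrob_apply, eq_comm] using h1

/-- The matrix of an element of `SU_n`. -/
abbrev suVal (s : SU n F q) : Matrix (Fin n) (Fin n) F := s.1.1

omit [Fintype F] in
theorem suVal_pow (s : SU n F q) (k : ℕ) : suVal (s ^ k) = suVal s ^ k := by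
  show ((s ^ k : SU n F q) : Matrix.SpecialLinearGroup (Fin n) F).1 = _
  rw [SubgroupClass.coe_pow]
  exact Matrix.SpecialLinearGroup.coe_pow _ _

omit [Fintype F] in
theorem suVal_ext {s t : SU n F q} (h : suVal s = suVal t) : s = t :=
  Subtype.ext (Subtype.ext h)

omit [Fintype F] in
theorem suVal_mul (s t : SU n F q) : suVal (s * t) = suVal s * suVal t := rfl

/-- An element of `SU_n` from a matrix. -/
def suMk (hF : Fintype.card F = q ^ 2) (M : Matrix (Fin n) (Fin n) F) (hdet : M.det = 1)
    (hM : Mᵀ * M.map (qFrob hF) = 1) : SU n F q :=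
  ⟨⟨M, hdet⟩, fun u v => preserves_of_transpose_mul hF hM u v⟩

theorem suVal_suMk (hF : Fintype.card F = q ^ 2) (M : Matrix (Fin n) (Fin n) F) (hdet : M.det = 1)
    (hM : Mᵀ * M.map (qFrob hF) = 1) : suVal (suMk hF M hdet hM) = M := rfl

theorem suVal_transpose_mul (hF : Fintype.card F = q ^ 2) (s : SU n F q) :
    (suVal s)ᵀ * (suVal s).map (qFrob hF) = 1 :=
  transpose_mul_of_preserves hF fun u v => s.2 u v

theorem exists_norm_one_sq_ne_one (hF : Fintype.card F = q ^ 2) : ∃ c : F, c ^ (q + 1) = 1 ∧ c ^ 2 ≠ 1 := by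
  classical
  by_contra hcon
  push Not at hcon
  have h3 : 3 ≤ Fintype.card {c : F // c ^ (q + 1) = 1} := by
    rw [← Nat.card_eq_fintype_card, natCard_norm_eq hF (one_pow q) one_ne_zero]
    have := two_le_q hF; omega
  have h2 : Fintype.card {c : F // c ^ (q + 1) = 1} ≤ 2 := by
    rw [Fintype.card_subtype]
    refine (Finset.card_le_card fun c hc => ?_).trans (Finset.card_le_two (a := (1 : F)) (b := -1))
    rcases sq_eq_one_iff.1 (hcon c (Finset.mem_filter.1 hc).2) with h | h <;> simp [h]
  omega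

theorem transpose_mul_diagonal (hF : Fintype.card F = q ^ 2) {D : Fin n → F} (hD : ∀ l, D l ^ (q + 1) = 1) :
    (Matrix.diagonal D)ᵀ * (Matrix.diagonal D).map (qFrob hF) = 1 := by
  rw [Matrix.diagonal_transpose, Matrix.diagonal_map (map_zero _), Matrix.diagonal_mul_diagonal,
    ← Matrix.diagonal_one]
  congr 1
  funext l
  show D l * qFrob hF (D l) = 1
  rw [qFrob_apply, ← pow_succ', hD]

/-- A central element of `SU_n` is scalar. -/
theorem suVal_scalar_of_mem_center (hF : Fintype.card F = q ^ 2) {s : SU n F q}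
    (hs : s ∈ Subgroup.center (SU n F q)) : ∃ c : F, suVal s = Matrix.scalar (Fin n) c := by
  classical
  obtain ⟨c, hc, hc2⟩ := exists_norm_one_sq_ne_one hF
  have hc0 : c ≠ 0 := by
    rintro rfl; rw [zero_pow (by omega)] at hc; exact zero_ne_one hc
  have hcom : ∀ t : SU n F q, suVal t * suVal s = suVal s * suVal t := fun t => by
    rw [← suVal_mul, ← suVal_mul, Subgroup.mem_center_iff.1 hs t]
  have hoff : ∀ i j, i ≠ j → suVal s i j = 0 := by
    intro i j hij
    let D : Fin n → F := fun l => if l = i then c else if l = j then c⁻¹ else 1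
    have hD : ∀ l, D l ^ (q + 1) = 1 := fun l => by
      simp only [D]; split_ifs <;> simp [hc]
    have hdet : (Matrix.diagonal D).det = 1 := by
      rw [Matrix.det_diagonal, Finset.prod_eq_mul i j hij (fun l _ hl => by simp [D, hl.1, hl.2])
        (by simp) (by simp)]
      simp [D, hij.symm, hc0]
    have h := congrFun (congrFun (hcom (suMk hF _ hdet (transpose_mul_diagonal hF hD))) i) j
    rw [suVal_suMk, Matrix.diagonal_mul, Matrix.mul_diagonal] at h
    have h' : (c ^ 2 - 1) * suVal s i j = 0 := by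
      simp [D, hij.symm] at h
      field_simp at h
      linear_combination h
    exact (mul_eq_zero.1 h').resolve_left (sub_ne_zero.2 hc2)
  have hdiag : ∀ i j, suVal s i i = suVal s j j := by
    intro i j
    rcases eq_or_ne i j with rfl | hij
    · rfl
    let π : Equiv.Perm (Fin n) := Equiv.swap i j
    let E : Fin n → F := fun l => if l = i then -1 else 1
    have hdet : (Matrix.diagonal E * π.permMatrix F).det = 1 := by
      rw [Matrix.det_mul, Matrix.det_diagonal, Matrix.det_permutation, Finset.prod_eq_single i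
        (fun l _ hl => by simp [E, hl]) (by simp)]
      simp [E, π, Equiv.Perm.sign_swap hij]
    have hP : (Matrix.diagonal E * π.permMatrix F)ᵀ * (Matrix.diagonal E * π.permMatrix F).map (qFrob hF) = 1 := by
      refine transpose_mul_of_preserves hF fun u v => ?_
      simp only [← Matrix.mulVec_mulVec, Matrix.permMatrix_mulVec]
      refine Eq.trans ?_ (Equiv.sum_comp π (fun l => u l * v l ^ q))
      refine Finset.sum_congr rfl fun l _ => ?_
      rw [Matrix.mulVec_diagonal, Matrix.mulVec_diagonal, mul_pow]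
      have hE : E l * E l ^ q = 1 := by
        simp only [E]
        split_ifs
        · rw [← qFrob_apply hF, map_neg, map_one]; ring
        · simp
      simp only [Function.comp]
      linear_combination (u (π l) * v (π l) ^ q) * hE
    have h := congrFun (congrFun (hcom (suMk hF _ hdet hP)) i) j
    rw [suVal_suMk, Matrix.mul_apply, Matrix.mul_apply, Finset.sum_eq_single j, Finset.sum_eq_single i] at h
    · simpa [Equiv.Perm.permMatrix, PEquiv.toMatrix_apply, π, E] using h.symm
    · intro l _ hl; simp [hoff i l (Ne.symm hl)]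
    · simp
    · intro l _ hl; simp [Equiv.Perm.permMatrix, PEquiv.toMatrix_apply, π, E, Ne.symm hl]
    · simp
  rcases Nat.eq_zero_or_pos n with rfl | hn
  · exact ⟨1, Matrix.ext fun i => i.elim0⟩
  refine ⟨suVal s ⟨0, hn⟩ ⟨0, hn⟩, ?_⟩
  ext i j
  rw [Matrix.scalar_apply, Matrix.diagonal_apply]
  split_ifs with h
  · rw [← h]; exact hdiag i _
  · exact hoff i j h

omit [Fintype F] in
theorem mem_center_of_suVal_scalar {s : SU n F q} {c : F} (h : suVal s = Matrix.scalar (Fin n) c) :
    s ∈ Subgroup.center (SU n F q) :=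
  Subgroup.mem_center_iff.2 fun t => suVal_ext (by
    rw [suVal_mul, suVal_mul, h]
    exact ((Matrix.scalar_commute c (fun r => Commute.all c r) (suVal t)).eq).symm)

/-- The quotient map to `PSU`. -/
def suToPSU (n : ℕ) (F : Type*) [Field F] (q : ℕ) : SU n F q →* PSU n F q :=
  QuotientGroup.mk' _

theorem suToPSU_pow_eq_one_iff (hF : Fintype.card F = q ^ 2) (s : SU n F q) (k : ℕ) :
    suToPSU n F q s ^ k = 1 ↔ ∃ c : F, suVal s ^ k = Matrix.scalar (Fin n) c := by
  rw [← map_pow, ← suVal_pow]
  constructor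
  · exact fun h => suVal_scalar_of_mem_center hF ((QuotientGroup.eq_one_iff _).1 h)
  · rintro ⟨c, hc⟩
    exact (QuotientGroup.eq_one_iff _).2 (mem_center_of_suVal_scalar hc)

/-- Scalars in `SU_n`. -/
theorem natCard_center_SU (hF : Fintype.card F = q ^ 2) (hn : 1 ≤ n) :
    Nat.card (Subgroup.center (SU n F q)) = Nat.gcd n (q + 1) := by
  classical
  have hq := two_le_q hF
  let φ : (powMonoidHom (Nat.gcd n (q + 1)) : Fˣ →* Fˣ).ker → Subgroup.center (SU n F q) := fun u =>
    have hg : (u.1 : F) ^ Nat.gcd n (q + 1) = 1 := congrArg Units.val (show u.1 ^ Nat.gcd n (q + 1) = 1 from u.2)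
    have hn1 : (u.1 : F) ^ n = 1 :=
      orderOf_dvd_iff_pow_eq_one.1 ((orderOf_dvd_of_pow_eq_one hg).trans (Nat.gcd_dvd_left _ _))
    have hq1 : (u.1 : F) ^ (q + 1) = 1 :=
      orderOf_dvd_iff_pow_eq_one.1 ((orderOf_dvd_of_pow_eq_one hg).trans (Nat.gcd_dvd_right _ _))
    ⟨suMk hF (Matrix.diagonal fun _ => (u.1 : F)) (by rw [Matrix.det_diagonal]; simpa using hn1)
      (transpose_mul_diagonal hF fun _ => hq1), mem_center_of_suVal_scalar (c := (u.1 : F)) rfl⟩
  have hbij : Function.Bijective φ := by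
    constructor
    · intro u v h
      have h1 := congrFun (congrFun (congrArg (fun z => suVal z.1) h) ⟨0, by omega⟩) ⟨0, by omega⟩
      simp [φ, suVal_suMk] at h1
      exact Subtype.ext (Units.ext h1)
    · rintro ⟨s, hs⟩
      obtain ⟨c, hc⟩ := suVal_scalar_of_mem_center hF hs
      have hd : (suVal s).det = 1 := s.1.2
      rw [hc, Matrix.scalar_apply, Matrix.det_diagonal, Finset.prod_const, Finset.card_univ,
        Fintype.card_fin] at hd
      have h2 := congrFun (congrFun (suVal_transpose_mul hF s) ⟨0, by omega⟩) ⟨0, by omega⟩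
      rw [hc, Matrix.scalar_apply, Matrix.diagonal_transpose, Matrix.diagonal_map (map_zero _),
        Matrix.diagonal_mul_diagonal, Matrix.diagonal_apply_eq, Matrix.one_apply_eq, qFrob_apply,
        ← pow_succ'] at h2
      have hc0 : c ≠ 0 := by rintro rfl; rw [zero_pow (by omega)] at h2; exact zero_ne_one h2
      refine ⟨⟨Units.mk0 c hc0, Units.ext ?_⟩, Subtype.ext (suVal_ext ?_)⟩
      · show c ^ Nat.gcd n (q + 1) = 1
        exact pow_gcd_eq_one.2 ⟨hd, h2⟩
      · rw [hc]; rfl
  rw [← Nat.card_congr (Equiv.ofBijective φ hbij), IsCyclic.card_powMonoidHom_ker, Nat.card_units,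
    Nat.card_eq_fintype_card, hF]
  refine Nat.gcd_eq_right ((Nat.gcd_dvd_right n (q + 1)).trans ⟨q - 1, ?_⟩)
  obtain ⟨r, rfl⟩ : ∃ r, q = r + 1 := ⟨q - 1, by omega⟩
  rw [Nat.add_sub_cancel, show (r + 1) ^ 2 = (r + 1 + 1) * r + 1 by ring, Nat.add_sub_cancel]

end Cfsg.Agent.Classical
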