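import Mathlib
import Cfsg.Agent.Lib.Classical.DicksonTorus
import Cfsg.Agent.Lib.Block.SL2Char.McKayTwo

/-!
Klein four-subgroups of `PSL(2, F)`, `q` odd, and their normalisers `A₄` and `S₄`.
-/

set_option autoImplicit false

namespace Cfsg.Agent.Dickson

open Matrix Cfsg.Agent.Grp.SL2 Cfsg.Agent.PSL2Spec

variable {F : Type*} [Field F] [Fintype F]

local notation "SL₂" => Matrix.SpecialLinearGroup (Fin 2) F
local notation "PSL₂" => Matrix.ProjectiveSpecialLinearGroup (Fin 2) F

theorem two_ne_zero_of_odd_card (hodd : Odd (Fintype.card F)) : (2 : F) ≠ 0 :=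
  Fus.PSLTwo.two_ne_zero_of_odd (Nat.odd_iff.mp hodd)

theorem char_ne_two_of_odd_card (hodd : Odd (Fintype.card F)) (p : ℕ) [Fact p.Prime] [CharP F p] : p ≠ 2 := by
  rintro rfl
  haveI : CharP F 2 := ‹_›
  exact two_ne_zero_of_odd_card hodd CharTwo.two_eq_zero

/-- Lifts of a Klein four-group. -/
structure Quat (x y : SL₂) : Prop where
  xx : x * x = -1
  yy : y * y = -1
  yx : y * x = -(x * y)

theorem proj_negOne : (proj (-1 : SL₂) : PSL₂) = 1 := proj_one_iff.mpr (Or.inr rfl)

theorem Quat.proj_ne_one (h2 : (2 : F) ≠ 0) {x : SL₂} (hx : x * x = -1) : (proj x : PSL₂) ≠ 1 := by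
  intro h
  have h1 : (1 : SL₂) = -1 := by
    rcases proj_one_iff.mp h with rfl | rfl
    · simpa using hx
    · simpa using hx
  have := congrFun (congrFun (congrArg Subtype.val h1) 0) 0
  simp at this
  exact h2 (by linear_combination this)

theorem Quat.swap {x y : SL₂} (h : Quat x y) : Quat y x :=
  ⟨h.yy, h.xx, by rw [h.yx, neg_neg]⟩

theorem Quat.third {x y : SL₂} (h : Quat x y) : Quat x (x * y) := by
  refine ⟨h.xx, ?_, ?_⟩
  · calc x * y * (x * y) = x * (y * x) * y := by group
      _ = -1 := by rw [h.yx]; simp only [mul_neg, neg_mul, ← mul_assoc, h.xx]; simp [h.yy]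
  · calc x * y * x = x * (y * x) := mul_assoc _ _ _
      _ = -(x * (x * y)) := by rw [h.yx, mul_neg]

theorem Quat.ne (h2 : (2 : F) ≠ 0) {x y : SL₂} (h : Quat x y) : (proj x : PSL₂) ≠ proj y := by
  intro e
  have h1 : (1 : SL₂) = -1 := by
    have hyx := h.yx
    rcases proj_eq_iff.mp e with rfl | rfl
    · rw [h.xx] at hyx; simpa using hyx.symm
    · simp only [neg_mul, mul_neg, neg_neg, h.xx] at hyx
      simpa using hyx
  have := congrFun (congrFun (congrArg Subtype.val h1) 0) 0
  simp at this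
  exact h2 (by linear_combination this)

theorem Quat.sq_proj {x : SL₂} (hx : x * x = -1) : (proj x : PSL₂) * proj x = 1 := by
  rw [← map_mul, hx, proj_negOne]

theorem Quat.comm {x y : SL₂} (h : Quat x y) : (proj y : PSL₂) * proj x = proj x * proj y := by
  rw [← map_mul, ← map_mul, h.yx, proj_neg]

/-- The four-group. -/
def Quat.klein {x y : SL₂} (h : Quat x y) : Subgroup PSL₂ where
  carrier := {g | g = 1 ∨ g = proj x ∨ g = proj y ∨ g = proj x * proj y}
  one_mem' := Or.inl rfl
  mul_mem' := by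
    have a2 := Quat.sq_proj h.xx
    have b2 := Quat.sq_proj h.yy
    have ba := h.comm
    have aab : (proj x : PSL₂) * (proj x * proj y) = proj y := by rw [← mul_assoc, a2, one_mul]
    have aba : (proj x : PSL₂) * proj y * proj x = proj y := by rw [mul_assoc, ba, aab]
    have bab : (proj y : PSL₂) * (proj x * proj y) = proj x := by rw [← mul_assoc, ba, mul_assoc, b2, mul_one]
    have abb : (proj x : PSL₂) * proj y * proj y = proj x := by rw [mul_assoc, b2, mul_one]
    have abab : (proj x : PSL₂) * proj y * (proj x * proj y) = 1 := by rw [mul_assoc, bab, a2]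
    rintro g k (rfl | rfl | rfl | rfl) (rfl | rfl | rfl | rfl) <;>
      simp [a2, b2, ba, aab, aba, bab, abb, abab]
  inv_mem' := by
    have a2 := inv_eq_of_mul_eq_one_right (Quat.sq_proj h.xx)
    have b2 := inv_eq_of_mul_eq_one_right (Quat.sq_proj h.yy)
    rintro g (rfl | rfl | rfl | rfl)
    · simp
    · simp [a2]
    · simp [b2]
    · simp [_root_.mul_inv_rev, a2, b2, h.comm]

theorem Quat.mem_klein {x y : SL₂} {h : Quat x y} {g : PSL₂} :
    g ∈ h.klein ↔ g = 1 ∨ g = proj x ∨ g = proj y ∨ g = proj x * proj y := Iff.rfl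

theorem Quat.card_klein (h2 : (2 : F) ≠ 0) {x y : SL₂} (h : Quat x y) : Nat.card h.klein = 4 := by
  classical
  have ha := Quat.proj_ne_one h2 h.xx
  have hb := Quat.proj_ne_one h2 h.yy
  have hab := h.ne h2
  have hc : (proj x : PSL₂) * proj y ≠ 1 := by
    rw [← map_mul]; exact Quat.proj_ne_one h2 h.third.yy
  rw [show Nat.card h.klein = Set.ncard (h.klein : Set PSL₂) from rfl,
    show (h.klein : Set PSL₂) = ↑({1, proj x, proj y, proj x * proj y} : Finset PSL₂) by
      ext g; simp [Quat.mem_klein], Set.ncard_coe_finset]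
  rw [Finset.card_insert_of_notMem, Finset.card_insert_of_notMem, Finset.card_insert_of_notMem,
    Finset.card_singleton]
  · simp; exact ha
  · simp [hab]; exact hb
  · simp [ha.symm, hb.symm, hc.symm]

theorem Quat.isKleinFour (h2 : (2 : F) ≠ 0) {x y : SL₂} (h : Quat x y) : IsKleinFour h.klein := by
  refine ⟨h.card_klein h2, ?_⟩
  have hsq : ∀ g : h.klein, g ^ 2 = 1 := by
    rintro ⟨g, hg⟩
    refine Subtype.ext ?_
    show g ^ 2 = 1
    rw [sq]
    rcases hg with rfl | rfl | rfl | rfl
    · simp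
    · exact Quat.sq_proj h.xx
    · exact Quat.sq_proj h.yy
    · rw [← map_mul]; exact Quat.sq_proj h.third.yy
  refine Nat.dvd_antisymm (Monoid.exponent_dvd_of_forall_pow_eq_one hsq) ?_
  have hx : orderOf (⟨proj x, Or.inr (Or.inl rfl)⟩ : h.klein) = 2 :=
    orderOf_eq_prime (hsq _) fun e => Quat.proj_ne_one h2 h.xx (congrArg Subtype.val e)
  exact (dvd_of_eq hx.symm).trans (Monoid.order_dvd_exponent _)

/-- Elements centralising both generators lie in the four-group. -/
theorem Quat.centralizer (h2 : (2 : F) ≠ 0) {x y : SL₂} (h : Quat x y) {g : PSL₂}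
    (hga : Commute g (proj x)) (hgb : Commute g (proj y)) : g ∈ h.klein := by
  obtain ⟨u, rfl⟩ := proj_surjective g
  have sign : ∀ z : SL₂, Commute (proj u : PSL₂) (proj z) → u * z = z * u ∨ u * z = -(z * u) := by
    intro z hz
    rcases proj_eq_iff.mp (show proj (u * z) = proj (z * u) by rw [map_mul, map_mul]; exact hz.eq) with e | e
    · exact Or.inl e.symm
    · exact Or.inr (by rw [e, neg_neg])
  have hboth : ∀ v : SL₂, v * x = x * v → v * y = y * v → IsScalar v := by
    intro v vx vy
    have hxs : ¬ IsScalar x := fun hs => Quat.proj_ne_one h2 h.xx (proj_one_iff.mpr hs)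
    obtain ⟨a, b, e⟩ := exists_linear hxs (show Commute x v from vx.symm)
    have e' := congrArg Subtype.val vy
    have e'' := congrArg Subtype.val h.yx
    simp only [Matrix.SpecialLinearGroup.coe_mul, Matrix.SpecialLinearGroup.coe_neg] at e' e''
    rw [e, add_mul, mul_add, Matrix.smul_mul, Matrix.mul_smul, Matrix.smul_mul, Matrix.mul_smul, one_mul,
      mul_one, e'', smul_neg] at e'
    have h0 : (a + a) • ((x * y : SL₂) : Matrix (Fin 2) (Fin 2) F) = 0 := by
      rw [add_smul, Matrix.SpecialLinearGroup.coe_mul]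
      have := add_right_cancel e'
      nth_rw 2 [this]
      rw [add_neg_cancel]
    rcases smul_eq_zero.mp h0 with ha | ha
    · have : a = 0 := (mul_eq_zero.mp (by linear_combination ha : (2 : F) * a = 0)).resolve_left h2
      rw [this, zero_smul, zero_add] at e
      exact isScalar_of_coe e
    · have := (x * y : SL₂).2
      rw [ha] at this
      simp at this
  rcases sign x hga with e1 | e1 <;> rcases sign y hgb with e2 | e2
  · exact Or.inl (proj_one_iff.mpr (hboth u e1 e2))
  · -- commutes with `x`, anticommutes with `y`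
    refine Or.inr (Or.inl ?_)
    have hs := hboth (u * x) (by rw [mul_assoc, ← mul_assoc x u x, ← e1, mul_assoc]) (by
      rw [mul_assoc, show x * y = -(y * x) by rw [h.yx, neg_neg], mul_neg, ← mul_assoc, e2, neg_mul,
        neg_neg, mul_assoc])
    have := proj_one_iff.mpr hs
    rw [map_mul, mul_eq_one_iff_eq_inv, inv_eq_of_mul_eq_one_right (Quat.sq_proj h.xx)] at this
    exact this
  · refine Or.inr (Or.inr (Or.inl ?_))
    have hs := hboth (u * y) (by
      rw [mul_assoc, h.yx, mul_neg, ← mul_assoc, e1, neg_mul, neg_neg, mul_assoc])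
      (by rw [mul_assoc, ← mul_assoc y u y, ← e2, mul_assoc])
    have := proj_one_iff.mpr hs
    rw [map_mul, mul_eq_one_iff_eq_inv, inv_eq_of_mul_eq_one_right (Quat.sq_proj h.yy)] at this
    exact this
  · refine Or.inr (Or.inr (Or.inr ?_))
    have hs := hboth (u * (x * y)) (by
      calc u * (x * y) * x = u * x * (y * x) := by group
        _ = x * u * (x * y) := by rw [h.yx, e1, neg_mul, mul_neg, neg_neg]
        _ = x * (u * (x * y)) := mul_assoc _ _ _) (by
      calc u * (x * y) * y = u * (x * (y * y)) := by group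
        _ = -(u * x) := by rw [h.yy, mul_neg_one, mul_neg]
        _ = x * u := by rw [e1, neg_neg]
        _ = y * (u * (x * y)) := by
          rw [← mul_assoc u, e1, neg_mul, mul_neg]
          calc x * u = -(x * u * (y * y)) := by rw [h.yy, mul_neg_one, neg_neg]
            _ = -(x * (u * y) * y) := by group
            _ = x * y * u * y := by rw [e2]; simp only [mul_neg, neg_mul, neg_neg, ← mul_assoc]
            _ = -(y * x * u * y) := by rw [h.yx]; simp only [neg_mul, neg_neg]
            _ = -(y * (x * u * y)) := by group)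
    have := proj_one_iff.mpr hs
    rw [map_mul, map_mul, mul_eq_one_iff_eq_inv] at this
    rw [this, _root_.mul_inv_rev, inv_eq_of_mul_eq_one_right (Quat.sq_proj h.xx),
      inv_eq_of_mul_eq_one_right (Quat.sq_proj h.yy), h.comm]

/-- A Klein four-subgroup has quaternion lifts. -/
theorem exists_quat_of_isKleinFour (hodd : Odd (Fintype.card F)) {V : Subgroup PSL₂} (hV : IsKleinFour V) :
    ∃ (x y : SL₂) (h : Quat x y), h.klein = V := by
  classical
  obtain ⟨p, hc⟩ := CharP.exists F
  haveI : Fact p.Prime := ⟨CharP.char_is_prime F p⟩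
  have h2 := two_ne_zero_of_odd_card hodd
  have hlift : ∀ a : PSL₂, a ≠ 1 → a * a = 1 → ∃ x : SL₂, proj x = a ∧ x * x = -1 := by
    intro a ha ha2
    obtain ⟨x, rfl⟩ := proj_surjective a
    refine ⟨x, rfl, ?_⟩
    rw [← map_mul, proj_one_iff] at ha2
    exact ha2.resolve_left fun e => ha (proj_one_iff.mpr (mul_self_eq_one h2 e))
  have hcard : Nat.card V = 4 := hV.card_four
  have hsq : ∀ a : V, a * a = 1 := IsKleinFour.mul_self
  haveI : Fintype V := Fintype.ofFinite V
  obtain ⟨a, ha⟩ := Fintype.exists_ne_of_one_lt_card (by rw [← Nat.card_eq_fintype_card, hcard]; norm_num) (1 : V)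
  obtain ⟨b, hb⟩ : ∃ b : V, b ∉ ({1, a} : Finset V) := by
    by_contra hc
    push Not at hc
    have := Finset.card_le_card (s := (Finset.univ : Finset V)) (t := {1, a}) (fun z _ => hc z)
    rw [Finset.card_univ, ← Nat.card_eq_fintype_card, hcard] at this
    have := this.trans (Finset.card_le_two (a := (1 : V)) (b := a))
    omega
  simp only [Finset.mem_insert, Finset.mem_singleton, not_or] at hb
  have ha' : (a : PSL₂) ≠ 1 := fun e => ha (Subtype.ext e)
  have hb' : (b : PSL₂) ≠ 1 := fun e => hb.1 (Subtype.ext e)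
  obtain ⟨x, hx, hxx⟩ := hlift a ha' (congrArg Subtype.val (hsq a))
  obtain ⟨y, hy, hyy⟩ := hlift b hb' (congrArg Subtype.val (hsq b))
  have hab : (a : PSL₂) * b = b * a := by
    have h1 := hsq (a * b)
    have h2 : a * b = b * a := by
      have := inv_eq_of_mul_eq_one_right h1
      rw [_root_.mul_inv_rev, inv_eq_of_mul_eq_one_right (hsq a), inv_eq_of_mul_eq_one_right (hsq b)] at this
      exact this.symm
    exact congrArg Subtype.val h2
  have hyx : y * x = -(x * y) := by
    rcases proj_eq_iff.mp (show proj (x * y) = proj (y * x) by rw [map_mul, map_mul, hx, hy, hab]) with e | e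
    · exfalso
      have hsemi : a.1 ^ p ≠ 1 := by
        intro e'
        have hp2 := char_ne_two_of_odd_card hodd p
        have ho := orderOf_eq_prime e' ha'
        rw [orderOf_eq_prime (show a.1 ^ 2 = 1 by rw [sq]; exact congrArg Subtype.val (hsq a)) ha'] at ho
        exact hp2 ho.symm
      haveI : IsCyclic (tor (a : PSL₂)) := (pslData (F := F) p).semi_cyclic ha' hsemi
      have hbt : (b : PSL₂) ∈ tor (a : PSL₂) := by
        rw [← hx, ← hy, mem_tor_iff]; exact e
      haveI : Finite (tor (a : PSL₂)) := inferInstance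
      let a₀ : tor (a : PSL₂) := ⟨a, (pslData (F := F) p).self _⟩
      let b₀ : tor (a : PSL₂) := ⟨b, hbt⟩
      haveI : Fintype (tor (a : PSL₂)) := Fintype.ofFinite _
      have h3 := IsCyclic.card_pow_eq_one_le (α := tor (a : PSL₂)) two_pos
      have h4 : ({1, a₀, b₀} : Finset (tor (a : PSL₂))) ⊆
          Finset.univ.filter (fun z => z ^ 2 = 1) := by
        intro z hz
        simp only [Finset.mem_insert, Finset.mem_singleton] at hz
        refine Finset.mem_filter.mpr ⟨Finset.mem_univ _, Subtype.ext ?_⟩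
        rcases hz with rfl | rfl | rfl
        · simp
        · simpa [sq, a₀] using congrArg Subtype.val (hsq a)
        · simpa [sq, b₀] using congrArg Subtype.val (hsq b)
      have h5 := (Finset.card_le_card h4).trans h3
      rw [Finset.card_insert_of_notMem, Finset.card_insert_of_notMem, Finset.card_singleton] at h5
      · omega
      · simp only [Finset.mem_singleton, a₀, b₀, Subtype.mk.injEq]
        exact fun e => hb.2 (Subtype.ext (congrArg Subtype.val e).symm)
      · simp only [Finset.mem_insert, Finset.mem_singleton, a₀, b₀]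
        rintro (e | e)
        · exact ha' (congrArg Subtype.val e).symm
        · exact hb' (congrArg Subtype.val e).symm
    · exact e
  refine ⟨x, y, ⟨hxx, hyy, hyx⟩, Subgroup.eq_of_le_of_card_ge ?_
    (by rw [hcard, Quat.card_klein h2])⟩
  rintro g (rfl | rfl | rfl | rfl)
  · exact V.one_mem
  · rw [hx]; exact a.2
  · rw [hy]; exact b.2
  · rw [hx, hy]; exact V.mul_mem a.2 b.2

/-- Klein four-subgroups exist. -/
theorem exists_quat (hodd : Odd (Fintype.card F)) : ∃ x y : SL₂, Quat x y := by
  obtain ⟨a, b, hab⟩ := Fus.PSLTwo.exists_sq_add_sq (Nat.odd_iff.mp hodd) (-1 : F)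
  refine ⟨Fus.PSLTwo.mk2 0 1 (-1) 0 (by ring), Fus.PSLTwo.mk2 a b b (-a) (by linear_combination -hab),
    ?_, ?_, ?_⟩ <;>
    refine Subtype.ext ?_ <;>
    simp only [Matrix.SpecialLinearGroup.coe_mul, Matrix.SpecialLinearGroup.coe_neg,
      Matrix.SpecialLinearGroup.coe_one, Fus.PSLTwo.coe_mk2] <;>
    ext i j <;> fin_cases i <;> fin_cases j <;> simp [Matrix.mul_apply, Fin.sum_univ_two] <;>
    first | linear_combination hab | ring1

/-- In a finite group it is enough to map a subgroup into itself. -/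
theorem mem_normalizer_of_forall {G : Type*} [Group G] [Finite G] {H : Subgroup G} {t : G}
    (ht : ∀ g ∈ H, t * g * t⁻¹ ∈ H) : t ∈ Subgroup.normalizer (H : Set G) := by
  have h1 : H.map (MulAut.conj t).toMonoidHom = H :=
    Subgroup.eq_of_le_of_card_ge (by rintro _ ⟨g, hg, rfl⟩; exact ht g hg)
      (Subgroup.card_map_of_injective (MulAut.conj t).injective).ge
  rw [Subgroup.mem_normalizer_iff]
  refine fun g => ⟨ht g, fun hg => ?_⟩
  rw [← h1] at hg
  obtain ⟨k, hk, e⟩ := hg
  have : k = g := (MulAut.conj t).injective e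
  rwa [this] at hk

section Normalizer

variable {x y : Matrix.SpecialLinearGroup (Fin 2) F} (hodd : Odd (Fintype.card F)) (h : Quat x y)
include hodd

theorem exists_three : ∃ t : PSL₂, orderOf t = 3 ∧ t ∈ Subgroup.normalizer (h.klein : Set PSL₂) ∧
    t * proj x * t⁻¹ = proj x * proj y ∧ t * proj y * t⁻¹ = proj x := by
  classical
  have h2 := two_ne_zero_of_odd_card hodd
  obtain ⟨w, hw1, hw2⟩ := Block.SL2Char.exists_triality hodd h.xx h.yy h.yx
  set t : PSL₂ := proj w with ht
  have e1 : t * proj x * t⁻¹ = proj x * proj y := by rw [ht, ← map_inv, ← map_mul, ← map_mul, hw1, map_mul]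
  have e2 : t * proj y * t⁻¹ = proj x := by rw [ht, ← map_inv, ← map_mul, ← map_mul, hw2]
  have e3 : t * (proj x * proj y) * t⁻¹ = proj y := by
    rw [← conj_mul, e1, e2, mul_assoc, h.comm, ← mul_assoc, Quat.sq_proj h.xx, one_mul]
  have htN : t ∈ Subgroup.normalizer (h.klein : Set PSL₂) := by
    refine mem_normalizer_of_forall fun g hg => ?_
    rcases hg with rfl | rfl | rfl | rfl
    · simp [Quat.mem_klein]
    · rw [e1]; exact Or.inr (Or.inr (Or.inr rfl))
    · rw [e2]; exact Or.inr (Or.inl rfl)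
    · rw [e3]; exact Or.inr (Or.inr (Or.inl rfl))
  have hnc : ¬ Commute t (proj x) := fun hc => by
    rw [hc.eq, mul_inv_cancel_right] at e1
    exact Quat.proj_ne_one h2 h.yy (mul_eq_left.mp e1.symm)
  have ht3 : t ^ 3 ∈ h.klein := by
    refine h.centralizer h2 ?_ ?_
    · refine mul_inv_eq_iff_eq_mul.mp ?_
      calc t ^ 3 * proj x * (t ^ 3)⁻¹ = t * (t * (t * proj x * t⁻¹) * t⁻¹) * t⁻¹ := by
            rw [pow_succ, pow_two]; simp only [_root_.mul_inv_rev, mul_assoc]
        _ = proj x := by rw [e1, e3, e2]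
    · refine mul_inv_eq_iff_eq_mul.mp ?_
      calc t ^ 3 * proj y * (t ^ 3)⁻¹ = t * (t * (t * proj y * t⁻¹) * t⁻¹) * t⁻¹ := by
            rw [pow_succ, pow_two]; simp only [_root_.mul_inv_rev, mul_assoc]
        _ = proj y := by rw [e2, e1, e3]
  refine ⟨t, orderOf_eq_prime (hp := ⟨Nat.prime_three⟩) ?_ (fun e => hnc (by rw [e]; exact Commute.one_left _)),
    htN, e1, e2⟩
  -- the cube is fixed by `t`
  have hfix : t * t ^ 3 * t⁻¹ = t ^ 3 := by group
  rcases ht3 with e | e | e | e
  · exact e
  · rw [e, e1] at hfix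
    exact absurd (mul_eq_left.mp hfix) (Quat.proj_ne_one h2 h.yy)
  · rw [e, e2] at hfix
    exact absurd hfix (h.ne h2)
  · rw [e, e3] at hfix
    exact absurd (mul_eq_right.mp hfix.symm) (Quat.proj_ne_one h2 h.xx)

/-- The normaliser acts on the three involutions, with kernel the four-group. -/
theorem card_normalizer_dvd :
    Nat.card (Subgroup.normalizer (h.klein : Set PSL₂)) = 12 ∨
      Nat.card (Subgroup.normalizer (h.klein : Set PSL₂)) = 24 := by
  classical
  have h2 := two_ne_zero_of_odd_card hodd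
  set N := Subgroup.normalizer (h.klein : Set PSL₂) with hN
  let φ : N →* MulAut h.klein := Subgroup.normalizerMonoidHom h.klein
  have hker : φ.ker = h.klein.subgroupOf N := by
    ext g
    rw [Subgroup.normalizerMonoidHom_ker, Subgroup.mem_subgroupOf, Subgroup.mem_subgroupOf]
    constructor
    · intro hg
      exact h.centralizer h2 (hg _ (Or.inr (Or.inl rfl))).symm (hg _ (Or.inr (Or.inr (Or.inl rfl)))).symm
    · intro hg z hz
      haveI := (h.isKleinFour h2)
      have hc := congrArg Subtype.val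
        (IsKleinFour.isMulCommutative.is_comm.comm (⟨z, hz⟩ : h.klein) ⟨(g : PSL₂), hg⟩)
      exact hc
  -- the image embeds in the permutations of the three non-trivial elements
  let ι : MulAut h.klein →* Equiv.Perm {z : h.klein // z ≠ 1} :=
    { toFun := fun e => e.toEquiv.subtypeEquiv (fun z => by simp)
      map_one' := Equiv.ext fun z => rfl
      map_mul' := fun e f => Equiv.ext fun z => rfl }
  have hι : Function.Injective ι := fun e f hef => MulEquiv.ext fun z => by
    by_cases hz : z = 1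
    · rw [hz, map_one, map_one]
    · exact congrArg Subtype.val (DFunLike.congr_fun hef ⟨z, hz⟩)
  have h6 : Nat.card φ.range ∣ 6 := by
    have h1 : Nat.card (φ.range.map ι) ∣ Nat.card (Equiv.Perm {z : h.klein // z ≠ 1}) :=
      Subgroup.card_subgroup_dvd_card _
    rw [Subgroup.card_map_of_injective hι, Nat.card_perm] at h1
    haveI : Fintype h.klein := Fintype.ofFinite _
    rw [Nat.card_eq_fintype_card (α := {z : h.klein // z ≠ 1}), Fintype.card_subtype_compl,
      Fintype.card_subtype_eq, ← Nat.card_eq_fintype_card, h.card_klein h2] at h1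
    exact h1
  have hcard := Subgroup.card_mul_index φ.ker
  rw [Subgroup.index_ker, hker,
    Nat.card_congr (Subgroup.subgroupOfEquivOfLe (Subgroup.le_normalizer : h.klein ≤ N)).toEquiv,
    h.card_klein h2] at hcard
  obtain ⟨t, ht, htN, -, -⟩ := exists_three hodd h
  have h3 : 3 ∣ Nat.card N := ht ▸ Subgroup.orderOf_dvd_natCard N htN
  have := Nat.le_of_dvd (by norm_num) h6
  interval_cases hc : Nat.card φ.range <;> omega

/-- When two is a square the normaliser has order 24. -/
theorem card_normalizer_of_square (hsq : IsSquare (2 : F)) :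
    Nat.card (Subgroup.normalizer (h.klein : Set PSL₂)) = 24 := by
  classical
  have h2 := two_ne_zero_of_odd_card hodd
  obtain ⟨r, hr⟩ := hsq
  have hr0 : r ≠ 0 := fun e => h2 (by rw [hr, e, mul_zero])
  set X := (x : Matrix (Fin 2) (Fin 2) F) with hX
  set Y := (y : Matrix (Fin 2) (Fin 2) F) with hY
  have htx : tr x = 0 := (mul_self_eq_neg_one (fun hs => Quat.proj_ne_one h2 h.xx (proj_one_iff.mpr hs))).mp h.xx
  let s : SL₂ := ⟨r⁻¹ • X + r⁻¹ • 1, by
    rw [det_linear, htx]
    field_simp
    linear_combination hr⟩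
  have hXX : X * X = -1 := by simpa using congrArg Subtype.val h.xx
  have hYX : Y * X = -(X * Y) := by simpa using congrArg Subtype.val h.yx
  have s1 : (proj s : PSL₂) * proj x * (proj s)⁻¹ = proj x := by
    rw [← map_inv, ← map_mul, ← map_mul]
    refine congrArg _ (mul_inv_eq_iff_eq_mul.mpr (Subtype.ext ?_))
    show (r⁻¹ • X + r⁻¹ • 1) * X = X * (r⁻¹ • X + r⁻¹ • 1)
    simp [add_mul, mul_add]
  have s2 : (proj s : PSL₂) * proj y * (proj s)⁻¹ = proj x * proj y := by
    rw [← map_inv, ← map_mul, ← map_mul, ← map_mul]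
    refine congrArg _ (mul_inv_eq_iff_eq_mul.mpr (Subtype.ext ?_))
    show (r⁻¹ • X + r⁻¹ • 1) * Y = X * Y * (r⁻¹ • X + r⁻¹ • 1)
    rw [add_mul, mul_add, Matrix.smul_mul, Matrix.smul_mul, Matrix.mul_smul, Matrix.mul_smul, one_mul, mul_one,
      mul_assoc X Y X, hYX, mul_neg, ← mul_assoc, hXX, neg_one_mul, neg_neg, add_comm]
  set N := Subgroup.normalizer (h.klein : Set PSL₂) with hN
  have hsN : proj s ∈ N := by
    refine mem_normalizer_of_forall fun g hg => ?_
    rcases hg with rfl | rfl | rfl | rfl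
    · simp [Quat.mem_klein]
    · rw [s1]; exact Or.inr (Or.inl rfl)
    · rw [s2]; exact Or.inr (Or.inr (Or.inr rfl))
    · rw [← conj_mul, s1, s2, ← mul_assoc, Quat.sq_proj h.xx, one_mul]; exact Or.inr (Or.inr (Or.inl rfl))
  refine (card_normalizer_dvd hodd h).resolve_left fun h12 => ?_
  -- otherwise the element of order four squares into the four-group with index three
  haveI : (h.klein.subgroupOf N).Normal := Subgroup.normal_in_normalizer
  have hidx : (h.klein.subgroupOf N).index = 3 := by
    have := Subgroup.card_mul_index (h.klein.subgroupOf N)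
    rw [Nat.card_congr (Subgroup.subgroupOfEquivOfLe (Subgroup.le_normalizer : h.klein ≤ N)).toEquiv,
      h.card_klein h2, h12] at this
    omega
  have hcube : (⟨proj s, hsN⟩ : N) ^ 3 ∈ h.klein.subgroupOf N :=
    hidx ▸ Subgroup.pow_index_mem _ _
  have hss : (s * s : SL₂) = x := by
    refine Subtype.ext ?_
    show (r⁻¹ • X + r⁻¹ • 1) * (r⁻¹ • X + r⁻¹ • 1) = X
    rw [add_mul, mul_add, mul_add, Matrix.smul_mul, Matrix.smul_mul, Matrix.smul_mul, Matrix.smul_mul,
      Matrix.mul_smul, Matrix.mul_smul, Matrix.mul_smul, Matrix.mul_smul, one_mul, mul_one, hXX,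
      one_mul]
    have : r⁻¹ * r⁻¹ + r⁻¹ * r⁻¹ = 1 := by field_simp; linear_combination hr
    simp only [smul_smul, smul_neg]
    rw [show ∀ (c : F) (A B : Matrix (Fin 2) (Fin 2) F), -(c • B) + c • A + (c • A + c • B) = (c + c) • A from
      fun c A B => by rw [add_smul]; abel, this, one_smul]
  have hsk : proj s ∈ h.klein := by
    have h3 : (proj s : PSL₂) ^ 3 ∈ h.klein := hcube
    rw [pow_succ', pow_two, ← map_mul, hss] at h3
    have := h.klein.mul_mem h3 (h.klein.inv_mem (show proj x ∈ h.klein from Or.inr (Or.inl rfl)))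
    simpa using this
  have hfix : (proj s : PSL₂) * proj y * (proj s)⁻¹ = proj y := by
    haveI := h.isKleinFour h2
    have hc := congrArg Subtype.val (IsKleinFour.isMulCommutative.is_comm.comm
      (⟨proj s, hsk⟩ : h.klein) ⟨proj y, Or.inr (Or.inr (Or.inl rfl))⟩)
    simp only [Subgroup.coe_mul] at hc
    rw [hc, mul_inv_cancel_right]
  rw [s2] at hfix
  exact Quat.proj_ne_one h2 h.xx (mul_eq_right.mp hfix)

theorem no_fixed_klein {t : PSL₂} (e1 : t * proj x * t⁻¹ = proj x * proj y)
    (e2 : t * proj y * t⁻¹ = proj x) {v : PSL₂} (hv : v ∈ h.klein) (hfix : t * v * t⁻¹ = v) : v = 1 := by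
  have h2 := two_ne_zero_of_odd_card hodd
  rcases hv with rfl | rfl | rfl | rfl
  · rfl
  · rw [e1] at hfix; exact absurd (mul_eq_left.mp hfix) (Quat.proj_ne_one h2 h.yy)
  · rw [e2] at hfix; exact absurd hfix (h.ne h2)
  · rw [← conj_mul, e1, e2, mul_assoc, h.comm, ← mul_assoc, Quat.sq_proj h.xx, one_mul] at hfix
    exact absurd (mul_eq_right.mp hfix.symm) (Quat.proj_ne_one h2 h.xx)

/-- The four-group extended by the triality. -/
theorem exists_alt4 : ∃ (t : PSL₂) (A : Subgroup PSL₂), orderOf t = 3 ∧ t ∈ A ∧ h.klein ≤ A ∧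
    A ≤ Subgroup.normalizer (h.klein : Set PSL₂) ∧ Nat.card A = 12 ∧
    Nonempty (A ≃* alternatingGroup (Fin 4)) ∧
    (Nat.card (Subgroup.normalizer (h.klein : Set PSL₂)) = 24 →
      Nonempty (Subgroup.normalizer (h.klein : Set PSL₂) ≃* Equiv.Perm (Fin 4))) := by
  classical
  have h2 := two_ne_zero_of_odd_card hodd
  obtain ⟨t, ht, htN, e1, e2⟩ := Cfsg.Agent.Dickson.exists_three hodd h
  haveI : Fact (Nat.Prime 3) := ⟨Nat.prime_three⟩
  set V := h.klein with hV
  set N := Subgroup.normalizer (V : Set PSL₂) with hN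
  have hVN : V ≤ N := Subgroup.le_normalizer
  have htV : Subgroup.zpowers t ⊓ V = ⊥ := by
    refine Subgroup.inf_eq_bot_of_coprime ?_
    rw [Nat.card_zpowers, ht, h.card_klein h2]
    norm_num
  -- the product
  let A : Subgroup PSL₂ :=
    { carrier := {g | ∃ v ∈ V, ∃ k : ℤ, g = v * t ^ k}
      one_mem' := ⟨1, V.one_mem, 0, by simp⟩
      mul_mem' := by
        rintro g k ⟨v, hv, i, rfl⟩ ⟨w, hw, j, rfl⟩
        refine ⟨v * (t ^ i * w * (t ^ i)⁻¹), V.mul_mem hv
          ((Subgroup.mem_normalizer_iff.mp (N.zpow_mem htN i) w).mp hw), i + j, ?_⟩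
        rw [_root_.zpow_add]; group
      inv_mem' := by
        rintro g ⟨v, hv, i, rfl⟩
        refine ⟨(t ^ (-i)) * v⁻¹ * (t ^ (-i))⁻¹,
          (Subgroup.mem_normalizer_iff.mp (N.zpow_mem htN _) _).mp (V.inv_mem hv), -i, by group⟩ }
  have hA : Nat.card A = 12 := by
    let f : V × Subgroup.zpowers t → A := fun p => ⟨p.1 * p.2, p.1, p.1.2, by
      obtain ⟨k, hk⟩ := Subgroup.mem_zpowers_iff.mp p.2.2
      exact ⟨k, by rw [hk]⟩⟩
    rw [← Nat.card_eq_of_bijective f ⟨fun p r hpr => ?_, fun g => ?_⟩, Nat.card_prod, h.card_klein h2,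
      Nat.card_zpowers, ht]
    · have e : (p.1 : PSL₂) * p.2 = r.1 * r.2 := congrArg Subtype.val hpr
      have e' : (r.1 : PSL₂)⁻¹ * p.1 = r.2 * (p.2 : PSL₂)⁻¹ := by
        rw [inv_mul_eq_iff_eq_mul, ← mul_assoc, ← e, mul_inv_cancel_right]
      have hm : (r.1 : PSL₂)⁻¹ * p.1 ∈ Subgroup.zpowers t ⊓ V :=
        ⟨e' ▸ (Subgroup.zpowers t).mul_mem r.2.2 ((Subgroup.zpowers t).inv_mem p.2.2),
          V.mul_mem (V.inv_mem r.1.2) p.1.2⟩
      rw [htV, Subgroup.mem_bot] at hm
      have h1 : r.1 = p.1 := Subtype.ext (inv_mul_eq_one.mp hm)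
      rw [h1] at e
      exact Prod.ext h1.symm (Subtype.ext (mul_left_cancel e))
    · obtain ⟨v, hv, k, hk⟩ := g.2
      exact ⟨(⟨v, hv⟩, ⟨t ^ k, k, rfl⟩), Subtype.ext hk.symm⟩
  have hVA : V ≤ A := fun v hv => ⟨v, hv, 0, by simp⟩
  have htA : t ∈ A := ⟨1, V.one_mem, 1, by simp⟩
  have hAN : A ≤ N := by
    rintro g ⟨v, hv, k, rfl⟩
    exact N.mul_mem (hVN hv) (N.zpow_mem htN k)
  -- no non-trivial element of the four-group normalises `⟨t⟩`
  have hkey : ∀ v ∈ V, v * t * v⁻¹ ∈ Subgroup.zpowers t → v = 1 := by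
    intro v hv hm
    refine no_fixed_klein hodd h e1 e2 hv ?_
    have h1 : v * t * v⁻¹ * t⁻¹ ∈ Subgroup.zpowers t ⊓ V := by
      refine ⟨(Subgroup.zpowers t).mul_mem hm ((Subgroup.zpowers t).inv_mem (Subgroup.mem_zpowers t)), ?_⟩
      rw [mul_assoc v t, mul_assoc v, show t * v⁻¹ * t⁻¹ = t * v⁻¹ * t⁻¹ from rfl]
      exact V.mul_mem hv ((Subgroup.mem_normalizer_iff.mp htN _).mp (V.inv_mem hv))
    rw [htV, Subgroup.mem_bot, mul_inv_eq_one, mul_inv_eq_iff_eq_mul] at h1
    rw [← h1, mul_inv_cancel_right]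
  -- Sylow subgroups of order three
  have hsyl : ∀ B : Subgroup PSL₂, ∀ htB : t ∈ B, V ≤ B → B ≤ N → (Nat.card B = 12 ∨ Nat.card B = 24) →
      Nat.card (Subgroup.zpowers (⟨t, htB⟩ : B)) = 3 ∧
      (Subgroup.normalizer (Subgroup.zpowers (⟨t, htB⟩ : B) : Set B)).index = 4 := by
    intro B htB hVB hBN hB
    have hz : Nat.card (Subgroup.zpowers (⟨t, htB⟩ : B)) = 3 := by
      rw [Nat.card_zpowers, Subgroup.orderOf_mk, ht]
    refine ⟨hz, ?_⟩
    have hfac : (Nat.card B).factorization 3 = 1 := by
      rcases hB with e | e <;> rw [e]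
      · rw [show (12 : ℕ) = 3 * 4 by norm_num, Nat.factorization_mul (by norm_num) (by norm_num),
          Finsupp.add_apply, Nat.prime_three.factorization_self,
          Nat.factorization_eq_zero_of_not_dvd (by norm_num : ¬ 3 ∣ 4)]
      · rw [show (24 : ℕ) = 3 * 8 by norm_num, Nat.factorization_mul (by norm_num) (by norm_num),
          Finsupp.add_apply, Nat.prime_three.factorization_self,
          Nat.factorization_eq_zero_of_not_dvd (by norm_num : ¬ 3 ∣ 8)]
    let P : Sylow 3 B := Sylow.ofCard (Subgroup.zpowers ⟨t, htB⟩) (by rw [hz, hfac, pow_one])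
    have hn : Nat.card (Sylow 3 B) = (Subgroup.normalizer (Subgroup.zpowers (⟨t, htB⟩ : B) : Set B)).index :=
      P.card_eq_index_normalizer
    have hd : Nat.card (Sylow 3 B) ∣ 8 := by
      have h1 := P.card_dvd_index
      have h2 := Subgroup.card_mul_index (P : Subgroup B)
      rw [show Nat.card (P : Subgroup B) = 3 from hz] at h2
      rcases hB with e | e <;> rw [e] at h2
      · exact h1.trans (by rw [show (P : Subgroup B).index = 4 by omega]; norm_num)
      · rwa [show (P : Subgroup B).index = 8 by omega] at h1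
    have hm := card_sylow_modEq_one 3 B
    have hne : Nat.card (Sylow 3 B) ≠ 1 := fun e => by
      rw [hn, Subgroup.index_eq_one] at e
      have hx : proj x ∈ V := Or.inr (Or.inl rfl)
      have hmem := (Subgroup.mem_normalizer_iff.mp (e.ge (Subgroup.mem_top (⟨proj x, hVB hx⟩ : B)))
        ⟨t, htB⟩).mp (Subgroup.mem_zpowers _)
      obtain ⟨k, hk⟩ := Subgroup.mem_zpowers_iff.mp hmem
      have := hkey _ hx ⟨k, by simpa using congrArg Subtype.val hk⟩
      exact Quat.proj_ne_one h2 h.xx this
    rw [← hn]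
    unfold Nat.ModEq at hm
    have := Nat.le_of_dvd (by norm_num) hd
    interval_cases Nat.card (Sylow 3 B) <;> omega
  refine ⟨t, A, ht, htA, hVA, hAN, hA, ?_, ?_⟩
  · obtain ⟨hz, hi⟩ := hsyl A htA hVA hAN (Or.inl hA)
    refine nonempty_alternating_four hA (Subgroup.zpowers ⟨t, htA⟩) hz ?_
    refine (Subgroup.eq_of_le_of_card_ge Subgroup.le_normalizer ?_).symm
    have h1 := Subgroup.card_mul_index (Subgroup.normalizer (Subgroup.zpowers (⟨t, htA⟩ : A) : Set A))
    rw [hi, hA] at h1
    omega
  · intro h24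
    obtain ⟨hz, hi⟩ := hsyl N htN hVN le_rfl (Or.inr h24)
    have hN6 : Nat.card (Subgroup.normalizer (Subgroup.zpowers (⟨t, htN⟩ : N) : Set N)) = 6 := by
      have h1 := Subgroup.card_mul_index (Subgroup.normalizer (Subgroup.zpowers (⟨t, htN⟩ : N) : Set N))
      rw [hi, h24] at h1
      omega
    refine nonempty_perm_four h24 (Subgroup.zpowers ⟨t, htN⟩) hz hN6 ?_
    intro g hg
    have hgt : (g : PSL₂) * t = t * g := congrArg Subtype.val (hg _ (Subgroup.mem_zpowers _)).symm
    -- conjugation by `g` fixes the triality, hence powers of it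
    have hgA : (g : PSL₂) ^ 2 ∈ A := by
      have hidx : ((A.subgroupOf N)).index = 2 := by
        have h1 := Subgroup.card_mul_index (A.subgroupOf N)
        rw [Nat.card_congr (Subgroup.subgroupOfEquivOfLe hAN).toEquiv, hA, h24] at h1
        omega
      exact Subgroup.sq_mem_of_index_two hidx g
    by_contra hgn
    -- the centraliser in the normaliser has order three or six; six would give an involution centralising `t`
    have hle : Subgroup.centralizer (Subgroup.zpowers (⟨t, htN⟩ : N) : Set N) ≤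
        Subgroup.normalizer (Subgroup.zpowers (⟨t, htN⟩ : N) : Set N) :=
      Subgroup.centralizer_le_normalizer _
    set C := Subgroup.centralizer (Subgroup.zpowers (⟨t, htN⟩ : N) : Set N) with hC
    have hzC : Subgroup.zpowers (⟨t, htN⟩ : N) ≤ C := Subgroup.zpowers_le.mpr (fun z hz => by
      obtain ⟨k, rfl⟩ := hz
      exact ((Commute.refl (⟨t, htN⟩ : N)).zpow_left k).eq)
    have hC6 : Nat.card C = 6 := by
      have h1 : 3 ∣ Nat.card C := hz ▸ Subgroup.card_dvd_of_le hzC
      have h2 : Nat.card C ∣ 6 := hN6 ▸ Subgroup.card_dvd_of_le hle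
      have h3 : Nat.card C ≠ 3 := fun e => hgn
        ((Subgroup.eq_of_le_of_card_ge hzC (by rw [e, hz])).ge hg)
      have := Nat.le_of_dvd (by norm_num) h2
      interval_cases Nat.card C <;> omega
    haveI : Fact (Nat.Prime 2) := ⟨Nat.prime_two⟩
    obtain ⟨c, hc⟩ := exists_prime_orderOf_dvd_card' 2 (show 2 ∣ Nat.card C by rw [hC6]; norm_num)
    have hct : ((c : N) : PSL₂) * t = t * ((c : N) : PSL₂) :=
      congrArg Subtype.val ((c.2 _ (Subgroup.mem_zpowers _))).symm
    have hc2 : ((c : N) : PSL₂) * ((c : N) : PSL₂) = 1 := by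
      have := pow_orderOf_eq_one c
      rw [hc, sq] at this
      exact congrArg (fun z : C => ((z : N) : PSL₂)) this
    have hc1 : ((c : N) : PSL₂) ≠ 1 := fun e => by
      rw [show c = 1 from Subtype.ext (Subtype.ext e), orderOf_one] at hc
      norm_num at hc
    -- `c` permutes the involutions commuting with the triality, so fixes them all
    have fixall : ∀ v ∈ V, ((c : N) : PSL₂) * v * ((c : N) : PSL₂)⁻¹ = v := by
      set cc := ((c : N) : PSL₂) with hcc
      have hcN : cc ∈ N := (c : N).2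
      have himg := (Subgroup.mem_normalizer_iff.mp hcN (proj x)).mp (Or.inr (Or.inl rfl))
      have e3 : t * (proj x * proj y) * t⁻¹ = proj y := by
        rw [← conj_mul, e1, e2, mul_assoc, h.comm, ← mul_assoc, Quat.sq_proj h.xx, one_mul]
      have cconj : ∀ v, cc * (t * v * t⁻¹) * cc⁻¹ = t * (cc * v * cc⁻¹) * t⁻¹ := fun v => by
        calc cc * (t * v * t⁻¹) * cc⁻¹ = (cc * t) * v * (cc * t)⁻¹ := by group
          _ = (t * cc) * v * (t * cc)⁻¹ := by rw [hct]
          _ = _ := by group
      have hxy : cc * (proj x * proj y) * cc⁻¹ = t * (cc * proj x * cc⁻¹) * t⁻¹ := by rw [← e1, cconj]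
      have hy : cc * proj y * cc⁻¹ = t * (cc * (proj x * proj y) * cc⁻¹) * t⁻¹ := by rw [← cconj, e3]
      have hfx : cc * proj x * cc⁻¹ = proj x := by
        have hinv : cc * (cc * proj x * cc⁻¹) * cc⁻¹ = proj x := by
          calc cc * (cc * proj x * cc⁻¹) * cc⁻¹ = (cc * cc) * proj x * (cc * cc)⁻¹ := by group
            _ = proj x := by rw [hc2]; group
        rcases himg with e | e | e | e
        · exact absurd (conj_eq_one_iff.mp e) (Quat.proj_ne_one h2 h.xx)
        · exact e
        · rw [e] at hinv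
          rw [hy, hxy, e, e2, e1] at hinv
          exact absurd (mul_eq_left.mp hinv) (Quat.proj_ne_one h2 h.yy)
        · rw [e] at hinv
          rw [hxy, e, e3] at hinv
          exact absurd hinv (h.ne h2).symm
      have hfxy : cc * (proj x * proj y) * cc⁻¹ = proj x * proj y := by rw [hxy, hfx, e1]
      intro v hv
      rcases hv with rfl | rfl | rfl | rfl
      · simp
      · exact hfx
      · rw [hy, hfxy, e3]
      · exact hfxy
    have hcV : ((c : N) : PSL₂) ∈ V := h.centralizer h2
      (mul_inv_eq_iff_eq_mul.mp (fixall _ (Or.inr (Or.inl rfl))))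
      (mul_inv_eq_iff_eq_mul.mp (fixall _ (Or.inr (Or.inr (Or.inl rfl)))))
    exact hc1 (hkey _ hcV (by rw [hct, mul_inv_cancel_right]; exact Subgroup.mem_zpowers t))

end Normalizer

end Cfsg.Agent.Dickson
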