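import Mathlib
import Cfsg.Agent.Lib.Classical.DicksonKlein

/-!
Centralisers, involutions and small-order elements of `PSL(2, F)`.
-/

set_option autoImplicit false

namespace Cfsg.Agent.Dickson

open Matrix Cfsg.Agent.Grp.SL2 Cfsg.Agent.PSL2Spec

variable {F : Type*} [Field F] [Fintype F]

local notation "PSL₂" => Matrix.ProjectiveSpecialLinearGroup (Fin 2) F

/-- The two orders of tori are coprime. -/
theorem tori_coprime : Nat.Coprime ((Fintype.card F - 1) / del F) ((Fintype.card F + 1) / del F) := by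
  have hq := Fintype.one_lt_card (α := F)
  obtain ⟨⟨u, hu⟩, ⟨v, hv⟩⟩ := del_dvd F
  have hpos : 0 < del F := Nat.gcd_pos_of_pos_left _ two_pos
  rw [hu, hv, Nat.mul_div_cancel_left _ hpos, Nat.mul_div_cancel_left _ hpos]
  rcases del_cases F with ⟨hd, hev⟩ | ⟨hd, -⟩ <;> rw [hd] at hu hv
  · have h2 : v = u + 2 := by omega
    rw [h2, Nat.coprime_self_add_right, Nat.coprime_two_right]
    obtain ⟨m, hm⟩ := hev
    exact ⟨m - 1, by omega⟩
  · have h2 : v = u + 1 := by omega
    rw [h2, Nat.coprime_self_add_right]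
    exact Nat.coprime_one_right u

theorem isSquare_two_iff_mod (hodd : Odd (Fintype.card F)) : IsSquare (2 : F) ↔ Fintype.card F % 8 = 1 ∨ Fintype.card F % 8 = 7 := by
  rw [FiniteField.isSquare_two_iff]
  obtain ⟨m, hm⟩ := hodd
  omega

theorem perm_four_orderOf : ∃ s : Equiv.Perm (Fin 4), orderOf s = 4 := by
  refine ⟨finRotate 4, ?_⟩
  rw [(isCycle_finRotate).orderOf, support_finRotate]
  rfl

variable (p : ℕ) [hp : Fact p.Prime] [hch : CharP F p]
include p hp hch

theorem dvd_card_field : p ∣ Fintype.card F := by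
  obtain ⟨n, -, hn⟩ := FiniteField.card F p
  rw [hn]
  exact dvd_pow_self p n.pos.ne'

theorem p_eq_two (heven : Even (Fintype.card F)) : p = 2 := by
  obtain ⟨n, -, hn⟩ := FiniteField.card F p
  rw [hn, even_iff_two_dvd] at heven
  exact ((Nat.prime_dvd_prime_iff_eq Nat.prime_two hp.out).mp (Nat.prime_two.dvd_of_dvd_pow heven)).symm

theorem odd_of_p (h : p ≠ 2) : Odd (Fintype.card F) := by
  rcases Nat.even_or_odd (Fintype.card F) with he | ho
  · exact absurd (p_eq_two p he) h
  · exact ho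

theorem tor_pos {a : PSL₂} (ha : a ≠ 1) : 2 ≤ Nat.card (tor a) := by
  show 1 < _
  rw [Subgroup.one_lt_card_iff_ne_bot]
  exact fun hb => ha (Subgroup.mem_bot.mp (hb ▸ (pslData (F := F) p).self a))

/-- The centraliser of an element of order at least three. -/
theorem centralizer_eq_tor {g : PSL₂} (hg : g ≠ 1) (h2 : g ^ p = 1 ∨ g * g ≠ 1) :
    Subgroup.centralizer ({g} : Set PSL₂) = tor g := by
  set D := pslData (F := F) p
  refine le_antisymm (fun x hx => ?_) (fun x hx => ?_)
  · have hc : Commute x g := Subgroup.mem_centralizer_singleton_iff.mp hx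
    rcases em (g ^ p = 1) with h | h
    · exact D.uni_cent hg h hc
    · exact D.mem_of_commute hg h (h2.resolve_left h) hc
  · rw [Subgroup.mem_centralizer_singleton_iff]
    exact (D.comm hg hx (D.self g)).eq

/-- The centraliser of an involution in odd characteristic. -/
theorem centralizer_involution {g : PSL₂} (hg : g ≠ 1) (hp2 : g ^ p ≠ 1) (h2 : g * g = 1) :
    Subgroup.centralizer ({g} : Set PSL₂) = Subgroup.normalizer (tor g : Set PSL₂) := by
  set D := pslData (F := F) p
  refine le_antisymm (fun x hx => ?_) (fun x hx => ?_)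
  · have hc : Commute x g := Subgroup.mem_centralizer_singleton_iff.mp hx
    refine (D.mem_normalizer_iff hg).mpr ?_
    rw [hc.eq, mul_inv_cancel_right]
    exact D.self g
  · rw [Subgroup.mem_centralizer_singleton_iff]
    have hx' := (D.mem_normalizer_iff hg).mp hx
    by_cases hxt : x ∈ tor g
    · exact (D.comm hg hxt (D.self g)).eq
    · obtain ⟨-, hinv⟩ := D.semi_flip hg hp2 hx' hxt
      have := hinv g (D.self g)
      rw [inv_eq_of_mul_eq_one_right h2, mul_inv_eq_iff_eq_mul] at this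
      exact this

/-- An element generating a torus. -/
theorem exists_generator {a : PSL₂} (ha : a ≠ 1) (hap : a ^ p ≠ 1) :
    ∃ g : PSL₂, g ≠ 1 ∧ g ^ p ≠ 1 ∧ orderOf g = Nat.card (tor a) ∧ tor g = tor a := by
  set D := pslData (F := F) p
  haveI : IsCyclic (tor a) := D.semi_cyclic ha hap
  obtain ⟨g, hg⟩ := IsCyclic.exists_generator (α := tor a)
  have ho : orderOf (g : PSL₂) = Nat.card (tor a) := by
    rw [Subgroup.orderOf_coe]; exact orderOf_eq_card_of_forall_mem_zpowers hg
  have hg1 : (g : PSL₂) ≠ 1 := fun e => by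
    have := tor_pos p ha
    rw [e, orderOf_one] at ho; omega
  exact ⟨g, hg1, D.semi_of_ne ha hap g.2 hg1, ho, D.same ha g.2 hg1⟩

/-- An element of order `n` when `n` divides a torus. -/
theorem exists_orderOf_dvd {a : PSL₂} (ha : a ≠ 1) (hap : a ^ p ≠ 1) {n : ℕ} (hn : n ∣ Nat.card (tor a)) :
    ∃ g : PSL₂, g ∈ tor a ∧ orderOf g = n := by
  obtain ⟨g, hg1, hgp, ho, ht⟩ := exists_generator p ha hap
  exact ⟨g ^ (orderOf g / n), (tor a).pow_mem (ht ▸ (pslData (F := F) p).self g) _,
    orderOf_pow_orderOf_div (orderOf_pos g).ne' (ho ▸ hn)⟩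

/-- A torus containing an element of order `n ≥ 2` dividing a torus order has that order. -/
theorem card_tor_of_dvd {a : PSL₂} (ha : a ≠ 1) (hap : a ^ p ≠ 1) {n : ℕ} (hn : 2 ≤ n)
    (h : n ∣ Nat.card (tor a)) :
    (n ∣ (Fintype.card F - 1) / del F → Nat.card (tor a) = (Fintype.card F - 1) / del F) ∧
    (n ∣ (Fintype.card F + 1) / del F → Nat.card (tor a) = (Fintype.card F + 1) / del F) := by
  have key : ¬ (n ∣ (Fintype.card F - 1) / del F ∧ n ∣ (Fintype.card F + 1) / del F) := fun ⟨h1, h2⟩ => by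
    exact absurd (Nat.eq_one_of_dvd_coprimes (tori_coprime (F := F)) h1 h2) (by omega)
  rcases card_tor_semi p ha hap with e | e
  · exact ⟨fun _ => e, fun h2 => absurd ⟨e ▸ h, h2⟩ key⟩
  · exact ⟨fun h1 => absurd ⟨h1, e ▸ h⟩ key, fun _ => e⟩

section Odd

variable (hodd : Odd (Fintype.card F))
include hodd

theorem involution_semi {g : PSL₂} (hg : orderOf g = 2) : g ≠ 1 ∧ g ^ p ≠ 1 ∧ g * g = 1 := by
  have h2 : g * g = 1 := by rw [← sq]; exact orderOf_dvd_iff_pow_eq_one.mp hg.dvd
  have h1 : g ≠ 1 := fun e => by rw [e, orderOf_one] at hg; omega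
  refine ⟨h1, fun h => ?_, h2⟩
  exact char_ne_two_of_odd_card hodd p ((orderOf_eq_prime h h1).symm.trans hg)

/-- The even torus order. -/
theorem card_tor_involution {g : PSL₂} (hg : orderOf g = 2) :
    2 ∣ Nat.card (tor g) ∧
    (Fintype.card F % 4 = 1 → Nat.card (tor g) = (Fintype.card F - 1) / 2) ∧
    (Fintype.card F % 4 = 3 → Nat.card (tor g) = (Fintype.card F + 1) / 2) := by
  obtain ⟨h1, hgp, -⟩ := involution_semi p hodd hg
  have hd : 2 ∣ Nat.card (tor g) := hg.symm.dvd.trans (Subgroup.orderOf_dvd_natCard (tor g) ((pslData (F := F) p).self g))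
  have hdel : del F = 2 := by
    rcases del_cases F with ⟨-, he⟩ | ⟨hd, -⟩
    · exact absurd he (Nat.not_even_iff_odd.mpr hodd)
    · exact hd
  refine ⟨hd, fun h => ?_, fun h => ?_⟩
  · have := (card_tor_of_dvd p h1 hgp le_rfl hd).1 (by rw [hdel]; omega)
    rwa [hdel] at this
  · have := (card_tor_of_dvd p h1 hgp le_rfl hd).2 (by rw [hdel]; omega)
    rwa [hdel] at this

theorem exists_involution : ∃ g : PSL₂, orderOf g = 2 := by
  obtain ⟨x, y, h⟩ := exists_quat (F := F) hodd
  refine ⟨proj x, orderOf_eq_prime ?_ (Quat.proj_ne_one (two_ne_zero_of_odd_card hodd) h.xx)⟩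
  rw [sq]
  exact Quat.sq_proj h.xx

/-- Elements of order four. -/
theorem mod_eight_of_order_four {g : PSL₂} (hg : orderOf g = 4) :
    Fintype.card F % 8 = 1 ∨ Fintype.card F % 8 = 7 := by
  have h1 : g ≠ 1 := fun e => by rw [e, orderOf_one] at hg; omega
  have hgp : g ^ p ≠ 1 := fun h => by
    have := orderOf_eq_prime h h1
    exact (by norm_num : ¬ Nat.Prime 4) (hg.symm.trans this ▸ hp.out)
  have hd : 4 ∣ Nat.card (tor g) := hg.symm.dvd.trans (Subgroup.orderOf_dvd_natCard (tor g) ((pslData (F := F) p).self g))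
  have hdel : del F = 2 := by
    rcases del_cases F with ⟨-, he⟩ | ⟨hd, -⟩
    · exact absurd he (Nat.not_even_iff_odd.mpr hodd)
    · exact hd
  obtain ⟨m, hm⟩ := hodd
  rcases card_tor_semi p h1 hgp with e | e <;> rw [e, hdel] at hd <;> omega

end Odd

/-- A copy of `S₄` forces `q ≡ ±1 (mod 8)`. -/
theorem mod_eight_of_perm_four {H : Subgroup PSL₂} (e : H ≃* Equiv.Perm (Fin 4)) :
    Odd (Fintype.card F) ∧ (Fintype.card F % 8 = 1 ∨ Fintype.card F % 8 = 7) := by
  obtain ⟨s, hs⟩ := perm_four_orderOf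
  have hg : orderOf ((e.symm s : H) : PSL₂) = 4 := by
    rw [Subgroup.orderOf_coe, MulEquiv.orderOf_eq, hs]
  have hodd : Odd (Fintype.card F) := by
    refine odd_of_p p fun hp2 => ?_
    set g := ((e.symm s : H) : PSL₂)
    have h1 : g ≠ 1 := fun e => by rw [e, orderOf_one] at hg; omega
    by_cases hgp : g ^ p = 1
    · have := orderOf_eq_prime hgp h1
      omega
    · exact (pslData (F := F) p).semi_coprime h1 hgp (by rw [hg, hp2]; norm_num)
  exact ⟨hodd, mod_eight_of_order_four p hodd hg⟩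

/-- The order of the normaliser of a four-group. -/
theorem card_normalizer_klein (hodd : Odd (Fintype.card F))
    {x y : Matrix.SpecialLinearGroup (Fin 2) F} (h : Quat x y) :
    ((Fintype.card F % 8 = 1 ∨ Fintype.card F % 8 = 7) →
      Nat.card (Subgroup.normalizer (h.klein : Set PSL₂)) = 24) ∧
    (¬ (Fintype.card F % 8 = 1 ∨ Fintype.card F % 8 = 7) →
      Nat.card (Subgroup.normalizer (h.klein : Set PSL₂)) = 12) := by
  refine ⟨fun hm => card_normalizer_of_square hodd h ((isSquare_two_iff_mod hodd).mpr hm), fun hm => ?_⟩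
  refine (card_normalizer_dvd hodd h).resolve_right fun h24 => hm ?_
  obtain ⟨t, A, -, -, -, -, -, -, hS⟩ := exists_alt4 hodd h
  exact (mod_eight_of_perm_four p (hS h24).some).2

end Cfsg.Agent.Dickson
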