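import Mathlib
import Cfsg.Agent.Lib.Classical.DicksonCentral
import Cfsg.Agent.Lib.Block.SL2Char.Tetra

/-!
The number of Klein four-subgroups of `PSL(2, q)`, `q` odd.
-/

set_option autoImplicit false

namespace Cfsg.Agent.Dickson

universe u

section General

variable {G : Type u} [Group G]

/-- The four-group generated by two commuting involutions. -/
def fourGroup {a b : G} (ha : a * a = 1) (hb : b * b = 1) (hab : a * b = b * a) : Subgroup G where
  carrier := {g | g = 1 ∨ g = a ∨ g = b ∨ g = a * b}
  one_mem' := Or.inl rfl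
  mul_mem' := by
    have aab : a * (a * b) = b := by rw [← mul_assoc, ha, one_mul]
    have bab : b * (a * b) = a := by rw [hab, ← mul_assoc, hb, one_mul]
    have aba : a * b * a = b := by rw [mul_assoc, ← hab, aab]
    have abb : a * b * b = a := by rw [mul_assoc, hb, mul_one]
    have abab : a * b * (a * b) = 1 := by rw [mul_assoc, bab, ha]
    have ba := hab.symm
    rintro g k (rfl | rfl | rfl | rfl) (rfl | rfl | rfl | rfl) <;>
      simp [ha, hb, ba, aab, aba, bab, abb, abab]
  inv_mem' := by
    have a1 := inv_eq_of_mul_eq_one_right ha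
    have b1 := inv_eq_of_mul_eq_one_right hb
    rintro g (rfl | rfl | rfl | rfl)
    · simp
    · simp [a1]
    · simp [b1]
    · simp [mul_inv_rev, a1, b1, hab.symm]

theorem isKleinFour_fourGroup {a b : G} (ha : a * a = 1) (hb : b * b = 1) (hab : a * b = b * a)
    (ha1 : a ≠ 1) (hb1 : b ≠ 1) (hne : a ≠ b) : IsKleinFour (fourGroup ha hb hab) := by
  classical
  have hc : a * b ≠ 1 := fun e => hne ((mul_eq_one_iff_eq_inv.mp e).trans (inv_eq_of_mul_eq_one_right hb))
  have hcard : Nat.card (fourGroup ha hb hab) = 4 := by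
    rw [show Nat.card (fourGroup ha hb hab) = Set.ncard (fourGroup ha hb hab : Set G) from rfl,
      show (fourGroup ha hb hab : Set G) = ↑({1, a, b, a * b} : Finset G) by
        ext g; simp [fourGroup], Set.ncard_coe_finset]
    rw [Finset.card_insert_of_notMem, Finset.card_insert_of_notMem, Finset.card_insert_of_notMem,
      Finset.card_singleton]
    · simp; exact ha1
    · simp [hne]; exact hb1
    · simp [ha1.symm, hb1.symm, hc.symm]
  refine ⟨hcard, ?_⟩
  have hsq : ∀ g : fourGroup ha hb hab, g ^ 2 = 1 := by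
    rintro ⟨g, hg⟩
    refine Subtype.ext ?_
    show g ^ 2 = 1
    rw [sq]
    rcases hg with rfl | rfl | rfl | rfl
    · simp
    · exact ha
    · exact hb
    · calc a * b * (a * b) = a * (b * a) * b := by group
        _ = (a * a) * (b * b) := by rw [← hab]; group
        _ = 1 := by rw [ha, hb, one_mul]
  refine Nat.dvd_antisymm (Monoid.exponent_dvd_of_forall_pow_eq_one hsq) ?_
  have hx : orderOf (⟨a, Or.inr (Or.inl rfl)⟩ : fourGroup ha hb hab) = 2 :=
    orderOf_eq_prime (hsq _) fun e => ha1 (congrArg Subtype.val e)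
  exact (dvd_of_eq hx.symm).trans (Monoid.order_dvd_exponent _)

/-- Six ordered pairs of commuting involutions for each four-group. -/
theorem card_pairs [Finite G] :
    Nat.card {q : G × G // orderOf q.1 = 2 ∧ orderOf q.2 = 2 ∧ Commute q.1 q.2 ∧ q.1 ≠ q.2} =
      6 * Nat.card {V : Subgroup G // IsKleinFour V} := by
  classical
  haveI : Fintype {V : Subgroup G // IsKleinFour V} := Fintype.ofFinite _
  have hord : ∀ {x : G}, orderOf x = 2 → x * x = 1 ∧ x ≠ 1 := fun {x} h =>
    ⟨by rw [← sq]; exact orderOf_dvd_iff_pow_eq_one.mp h.dvd, fun e => by rw [e, orderOf_one] at h; omega⟩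
  let f : (Σ V : {V : Subgroup G // IsKleinFour V}, {r : V.1 × V.1 // r.1 ≠ 1 ∧ r.2 ≠ 1 ∧ r.1 ≠ r.2}) →
      {q : G × G // orderOf q.1 = 2 ∧ orderOf q.2 = 2 ∧ Commute q.1 q.2 ∧ q.1 ≠ q.2} := fun z => by
    haveI := z.1.2
    have o : ∀ r : z.1.1, r ≠ 1 → orderOf (r : G) = 2 := fun r hr => by
      rw [Subgroup.orderOf_coe]
      exact orderOf_eq_prime (by rw [sq]; exact IsKleinFour.mul_self r) hr
    exact ⟨(z.2.1.1, z.2.1.2), o _ z.2.2.1, o _ z.2.2.2.1,
      congrArg Subtype.val (IsKleinFour.isMulCommutative.is_comm.comm z.2.1.1 z.2.1.2),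
      fun e => z.2.2.2.2 (Subtype.ext e)⟩
  have hf : Function.Bijective f := by
    constructor
    · rintro ⟨⟨V, hV⟩, ⟨⟨a, b⟩, ha, hb, hab⟩⟩ ⟨⟨W, hW⟩, ⟨⟨c, d⟩, hc, hd, hcd⟩⟩ e
      have e1 : (a : G) = c := congrArg (fun q => q.1.1) e
      have e2 : (b : G) = d := congrArg (fun q => q.1.2) e
      obtain rfl : V = W := by
        obtain ⟨ha2, ha1⟩ : (a : G) * a = 1 ∧ (a : G) ≠ 1 :=
          ⟨congrArg Subtype.val (IsKleinFour.mul_self a), fun e => ha (Subtype.ext e)⟩
        have hb2 : (b : G) * b = 1 := congrArg Subtype.val (IsKleinFour.mul_self b)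
        have hcom : (a : G) * b = b * a := congrArg Subtype.val (IsKleinFour.isMulCommutative.is_comm.comm a b)
        have hK := isKleinFour_fourGroup ha2 hb2 hcom ha1 (fun e => hb (Subtype.ext e)) (fun e => hab (Subtype.ext e))
        have key : ∀ U : Subgroup G, IsKleinFour U → (a : G) ∈ U → (b : G) ∈ U → fourGroup ha2 hb2 hcom = U := by
          intro U hU hau hbu
          refine Subgroup.eq_of_le_of_card_ge ?_ (by rw [hU.card_four, hK.card_four])
          rintro g (rfl | rfl | rfl | rfl)
          · exact U.one_mem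
          · exact hau
          · exact hbu
          · exact U.mul_mem hau hbu
        exact (key V hV a.2 b.2).symm.trans (key W hW (e1 ▸ c.2) (e2 ▸ d.2))
      obtain rfl : a = c := Subtype.ext e1
      obtain rfl : b = d := Subtype.ext e2
      rfl
    · rintro ⟨⟨a, b⟩, ha, hb, hab, hne⟩
      obtain ⟨ha2, ha1⟩ := hord ha
      obtain ⟨hb2, hb1⟩ := hord hb
      exact ⟨⟨⟨_, isKleinFour_fourGroup ha2 hb2 hab.eq ha1 hb1 hne⟩,
        ⟨(⟨a, Or.inr (Or.inl rfl)⟩, ⟨b, Or.inr (Or.inr (Or.inl rfl))⟩),
          fun e => ha1 (congrArg Subtype.val e), fun e => hb1 (congrArg Subtype.val e),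
          fun e => hne (congrArg Subtype.val e)⟩⟩, rfl⟩
  rw [← Nat.card_eq_of_bijective f hf, Nat.card_sigma,
    Nat.card_eq_fintype_card (α := {V : Subgroup G // IsKleinFour V})]
  rw [Finset.sum_eq_card_nsmul (s := Finset.univ) (b := 6), Finset.card_univ, smul_eq_mul, mul_comm]
  rintro ⟨V, hV⟩ _
  haveI : Fintype V := Fintype.ofFinite V
  rw [Nat.card_eq_fintype_card, Fintype.card_of_subtype ((Finset.univ.erase (1 : V)).offDiag)]
  · rw [Finset.offDiag_card, Finset.card_erase_of_mem (Finset.mem_univ _), Finset.card_univ,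
      ← Nat.card_eq_fintype_card, hV.card_four]
  · intro r
    simp [Finset.mem_offDiag, and_assoc]

end General

open Cfsg.Agent.PSL2Spec

variable {F : Type*} [Field F] [Fintype F]

/-- The number of Klein four-subgroups. -/
theorem card_kleins (hodd : Odd (Fintype.card F)) :
    12 * Nat.card {V : Subgroup (Matrix.ProjectiveSpecialLinearGroup (Fin 2) F) // IsKleinFour V} =
      Nat.card (Matrix.ProjectiveSpecialLinearGroup (Fin 2) F) := by
  classical
  obtain ⟨p, hc⟩ := CharP.exists F
  haveI : Fact p.Prime := ⟨CharP.char_is_prime F p⟩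
  set G := Matrix.ProjectiveSpecialLinearGroup (Fin 2) F
  obtain ⟨a₀, ha₀⟩ := exists_involution p hodd
  set n := Nat.card (tor a₀) with hn
  have hinvcard : ∀ a : G, orderOf a = 2 → Nat.card (tor a) = n := by
    intro a ha
    obtain ⟨-, h1, h3⟩ := card_tor_involution p hodd ha
    obtain ⟨-, g1, g3⟩ := card_tor_involution p hodd ha₀
    have : Fintype.card F % 4 = 1 ∨ Fintype.card F % 4 = 3 := by
      obtain ⟨m, hm⟩ := hodd; omega
    rcases this with h | h
    · rw [h1 h, hn, g1 h]
    · rw [h3 h, hn, g3 h]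
  -- the involutions
  have hinv : Nat.card {a : G // orderOf a = 2} * (2 * n) = Nat.card G := by
    obtain ⟨h1, hp1, h2⟩ := involution_semi p hodd ha₀
    have := Block.SL2Char.card_conj_mul_centralizer a₀
    rw [centralizer_involution p h1 hp1 h2, (normalizer_tor p h1 hp1).1] at this
    rw [← this, ← hn]
    congr 1
    refine Nat.card_congr (Equiv.subtypeEquivRight fun a => ⟨fun ha => ?_, fun ha => ?_⟩)
    · exact Fus.PSLTwo.involutions_conj (Nat.odd_iff.mp hodd) ha₀ ha
    · obtain ⟨g, rfl⟩ := isConj_iff.mp ha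
      exact (orderOf_injective (MulAut.conj g).toMonoidHom (MulAut.conj g).injective a₀).trans ha₀
  -- the involutions commuting with one
  have hcomm : ∀ a : {a : G // orderOf a = 2},
      Nat.card {b : G // orderOf b = 2 ∧ Commute a.1 b ∧ a.1 ≠ b} = n := by
    rintro ⟨a, ha⟩
    obtain ⟨h1, hp1, h2⟩ := involution_semi p hodd ha
    set D := pslData (F := F) p
    set N := Subgroup.normalizer (tor a : Set G) with hN
    have hC := centralizer_involution p h1 hp1 h2
    have key : ∀ b : G, (orderOf b = 2 ∧ Commute a b ∧ a ≠ b) ↔ b ∈ N ∧ b ∉ tor a := by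
      intro b
      constructor
      · rintro ⟨hb, hab, hne⟩
        refine ⟨?_, fun hbt => ?_⟩
        · rw [hN, ← hC, Subgroup.mem_centralizer_singleton_iff]; exact hab.eq.symm
        · haveI : IsCyclic (tor a) := D.semi_cyclic h1 hp1
          haveI : Fintype (tor a) := Fintype.ofFinite _
          have h3 := IsCyclic.card_pow_eq_one_le (α := tor a) two_pos
          let a' : tor a := ⟨a, D.self a⟩
          let b' : tor a := ⟨b, hbt⟩
          have hb2 : b ^ 2 = 1 := orderOf_dvd_iff_pow_eq_one.mp hb.dvd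
          have ha2 : a ^ 2 = 1 := orderOf_dvd_iff_pow_eq_one.mp ha.dvd
          have h4 : ({1, a', b'} : Finset (tor a)) ⊆ Finset.univ.filter (fun z => z ^ 2 = 1) := by
            intro z hz
            simp only [Finset.mem_insert, Finset.mem_singleton] at hz
            refine Finset.mem_filter.mpr ⟨Finset.mem_univ _, Subtype.ext ?_⟩
            rcases hz with rfl | rfl | rfl
            · simp
            · simpa [a'] using ha2
            · simpa [b'] using hb2
          have h5 := (Finset.card_le_card h4).trans h3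
          have hb1 : b ≠ 1 := fun e => by rw [e, orderOf_one] at hb; omega
          rw [Finset.card_insert_of_notMem, Finset.card_insert_of_notMem, Finset.card_singleton] at h5
          · omega
          · simp only [Finset.mem_singleton]
            exact fun e => hne (congrArg Subtype.val e)
          · simp only [Finset.mem_insert, Finset.mem_singleton]
            rintro (e | e)
            · exact h1 (congrArg Subtype.val e).symm
            · exact hb1 (congrArg Subtype.val e).symm
      · rintro ⟨hbN, hbt⟩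
        have hbc : Commute b a := Subgroup.mem_centralizer_singleton_iff.mp (hC.symm ▸ hbN)
        obtain ⟨hb2, -⟩ := D.semi_flip h1 hp1 ((D.mem_normalizer_iff h1).mp hbN) hbt
        refine ⟨orderOf_eq_prime (by rw [sq]; exact hb2) (fun e => hbt (e ▸ (tor a).one_mem)),
          hbc.symm, fun e => hbt (e ▸ D.self a)⟩
    rw [Nat.card_congr (Equiv.subtypeEquivRight key),
      show Nat.card {b : G // b ∈ N ∧ b ∉ tor a} = Set.ncard ((N : Set G) \ (tor a : Set G)) from rfl,
      Set.ncard_sdiff (fun x hx => Subgroup.le_normalizer hx),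
      show Set.ncard (N : Set G) = Nat.card N from rfl, show Set.ncard (tor a : Set G) = Nat.card (tor a) from rfl,
      (normalizer_tor p h1 hp1).1, hinvcard a ha]
    omega
  have hpairs : Nat.card {q : G × G // orderOf q.1 = 2 ∧ orderOf q.2 = 2 ∧ Commute q.1 q.2 ∧ q.1 ≠ q.2} =
      Nat.card {a : G // orderOf a = 2} * n := by
    haveI : Fintype {a : G // orderOf a = 2} := Fintype.ofFinite _
    rw [Nat.card_congr (β := Σ a : {a : G // orderOf a = 2}, {b : G // orderOf b = 2 ∧ Commute a.1 b ∧ a.1 ≠ b})
      { toFun := fun q => ⟨⟨q.1.1, q.2.1⟩, ⟨q.1.2, q.2.2⟩⟩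
        invFun := fun z => ⟨(z.1.1, z.2.1), z.1.2, z.2.2⟩
        left_inv := fun q => rfl
        right_inv := fun z => rfl },
      Nat.card_sigma, Finset.sum_congr rfl (fun a _ => hcomm a), Finset.sum_const, Finset.card_univ,
      ← Nat.card_eq_fintype_card, smul_eq_mul]
  rw [card_pairs] at hpairs
  rw [← hinv, show Nat.card {a : G // orderOf a = 2} * (2 * n) = 2 * (Nat.card {a : G // orderOf a = 2} * n) by ring,
    ← hpairs]
  ring

end Cfsg.Agent.Dickson
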