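import Mathlib
import Cfsg.Agent.Lib.Classical.SLGroup

/-!
Sylow subgroups in the defining characteristic: GL(n,q) order, and the unipotent radical of GL(2,q).
-/

set_option autoImplicit false
set_option linter.unusedSectionVars false

open scoped Pointwise MatrixGroups

namespace Cfsg.Agent.Classical.GLTwoSylow

open Matrix

variable {F : Type*} [Field F] [Fintype F]

theorem card_GL_eq (n : ℕ) : Nat.card (GL (Fin n) F) =
    Fintype.card F ^ (n * (n - 1) / 2) * ∏ i : Fin n, (Fintype.card F ^ (n - (i : ℕ)) - 1) := by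
  rw [Matrix.card_GL_field]
  have h : ∀ i : Fin n, Fintype.card F ^ n - Fintype.card F ^ (i : ℕ) =
      Fintype.card F ^ (i : ℕ) * (Fintype.card F ^ (n - (i : ℕ)) - 1) := fun i => by
    rw [Nat.mul_sub, mul_one, ← pow_add, Nat.add_sub_cancel' i.2.le]
  rw [Finset.prod_congr rfl fun i _ => h i, Finset.prod_mul_distrib, Finset.prod_pow_eq_pow_sum,
    Fin.sum_univ_eq_sum_range (fun i => i), Finset.sum_range_id]

theorem sylow_card (p : ℕ) [Fact p.Prime] [CharP F p] (n : ℕ) (P : Sylow p (GL (Fin n) F)) :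
    Nat.card P = Fintype.card F ^ (n * (n - 1) / 2) := by
  obtain ⟨f, hp, hf⟩ := FiniteField.card F p
  rw [Sylow.card_eq_multiplicity, card_GL_eq, hf, ← pow_mul]
  have hm : ¬ p ∣ ∏ i : Fin n, ((p ^ (f : ℕ)) ^ (n - (i : ℕ)) - 1) := by
    intro h
    obtain ⟨i, -, hi⟩ := hp.prime.exists_mem_finset_dvd h
    have h1 : p ∣ (p ^ (f : ℕ)) ^ (n - (i : ℕ)) :=
      dvd_pow (dvd_pow_self p f.ne_zero) (by have := i.2; omega)
    have h2 := Nat.dvd_sub h1 hi
    rw [Nat.sub_sub_self (Nat.one_le_pow _ _ (pow_pos hp.pos _))] at h2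
    exact hp.not_dvd_one h2
  have hne : (∏ i : Fin n, ((p ^ (f : ℕ)) ^ (n - (i : ℕ)) - 1)) ≠ 0 := fun e => hm (e ▸ dvd_zero p)
  congr 1
  rw [Nat.factorization_mul (pow_ne_zero _ hp.ne_zero) hne, Finsupp.add_apply, hp.factorization_pow,
    Finsupp.single_eq_same, Nat.factorization_eq_zero_of_not_dvd hm, add_zero]

/-- The upper unitriangular element. -/
def u (t : F) : GL (Fin 2) F :=
  ⟨!![1, t; 0, 1], !![1, -t; 0, 1], by ext i j; fin_cases i <;> fin_cases j <;> simp,
    by ext i j; fin_cases i <;> fin_cases j <;> simp⟩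

theorem u_add (s t : F) : u (s + t) = u s * u t := by
  ext i j; fin_cases i <;> fin_cases j <;> simp [u, add_comm]

/-- The homomorphism of the unipotent radical. -/
def uHom : Multiplicative F →* GL (Fin 2) F :=
  MonoidHom.mk' (fun t => u t.toAdd) fun s t => u_add _ _

theorem uHom_injective : Function.Injective (uHom (F := F)) := fun s t h => by
  have := congrArg (fun g : GL (Fin 2) F => (g : Matrix (Fin 2) (Fin 2) F) 0 1) h
  simpa [uHom, u] using this

theorem card_uRange : Nat.card (uHom (F := F)).range = Fintype.card F := by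
  rw [← Nat.card_congr (MonoidHom.ofInjective uHom_injective).toEquiv, Nat.card_eq_fintype_card, Fintype.card_multiplicative]

theorem sylow_eq_conj (p : ℕ) [Fact p.Prime] [CharP F p] (P : Sylow p (GL (Fin 2) F)) :
    ∃ g : GL (Fin 2) F, (P : Subgroup (GL (Fin 2) F)) = MulAut.conj g • (uHom (F := F)).range := by
  classical
  obtain ⟨f, hp, hf⟩ := FiniteField.card F p
  have hU : IsPGroup p (uHom (F := F)).range := IsPGroup.of_card (n := f) (by rw [card_uRange, hf])
  obtain ⟨S, hS⟩ := hU.exists_le_sylow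
  have he : (uHom (F := F)).range = S := Subgroup.eq_of_le_of_card_ge hS (by
    rw [sylow_card p 2 S, card_uRange]; simp)
  obtain ⟨g, hg⟩ := MulAction.exists_smul_eq (GL (Fin 2) F) S P
  exact ⟨g, by rw [he, ← hg]; rfl⟩

theorem mem_uRange {x : GL (Fin 2) F} : x ∈ (uHom (F := F)).range ↔
    (x : Matrix (Fin 2) (Fin 2) F) 0 0 = 1 ∧ (x : Matrix (Fin 2) (Fin 2) F) 1 0 = 0 ∧ (x : Matrix (Fin 2) (Fin 2) F) 1 1 = 1 := by
  constructor
  · rintro ⟨t, rfl⟩; simp [uHom, u]
  · rintro ⟨h0, h1, h2⟩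
    refine ⟨Multiplicative.ofAdd ((x : Matrix (Fin 2) (Fin 2) F) 0 1), Units.ext ?_⟩
    ext i j; fin_cases i <;> fin_cases j <;> simp [uHom, u, h0, h1, h2]

theorem lower_zero_of_conj {g : GL (Fin 2) F} {t : F} (ht : t ≠ 0) (h : g * u t * g⁻¹ ∈ (uHom (F := F)).range) :
    (g : Matrix (Fin 2) (Fin 2) F) 1 0 = 0 := by
  obtain ⟨s, hs⟩ := h
  have h' : g * u t = u s.toAdd * g := by rw [show u s.toAdd = g * u t * g⁻¹ from hs]; group
  have e := congrArg (fun x : GL (Fin 2) F => (x : Matrix (Fin 2) (Fin 2) F) 1 1) h'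
  simp [u, Matrix.mul_apply, Fin.sum_univ_two] at e
  exact e.resolve_right ht

theorem conj_u_of_lower_zero {g : GL (Fin 2) F} (h : (g : Matrix (Fin 2) (Fin 2) F) 1 0 = 0) (t : F) :
    ∃ s, g * u t * g⁻¹ = u s := by
  set a := (g : Matrix (Fin 2) (Fin 2) F) 0 0 with ha
  set d := (g : Matrix (Fin 2) (Fin 2) F) 1 1 with hd
  have hdet : (g : Matrix (Fin 2) (Fin 2) F).det ≠ 0 := (Matrix.GeneralLinearGroup.det g).ne_zero
  rw [Matrix.det_fin_two, h, mul_zero, sub_zero, ← ha, ← hd] at hdet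
  refine ⟨a * t / d, ?_⟩
  rw [mul_inv_eq_iff_eq_mul]
  refine Units.ext ?_
  ext i j
  fin_cases i <;> fin_cases j <;> simp [u, Matrix.mul_apply, Fin.sum_univ_two, h, ← ha, ← hd]
  rw [div_mul_cancel₀ _ (right_ne_zero_of_mul hdet)]
  ring

/-- The Borel subgroup. -/
def borel (F : Type*) [Field F] : Subgroup (GL (Fin 2) F) where
  carrier := {g | (g : Matrix (Fin 2) (Fin 2) F) 1 0 = 0}
  one_mem' := by simp
  mul_mem' := fun {a b} ha hb => by
    simp only [Set.mem_setOf_eq, Units.val_mul, Matrix.mul_apply, Fin.sum_univ_two] at ha hb ⊢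
    rw [ha, hb]; ring
  inv_mem' := fun {a} ha => by
    simp only [Set.mem_setOf_eq] at ha ⊢
    have h := congrFun (congrFun (congrArg (fun x : GL (Fin 2) F => (x : Matrix (Fin 2) (Fin 2) F)) (inv_mul_cancel a)) 1) 0
    rw [Units.val_mul, Matrix.mul_apply, Fin.sum_univ_two, ha, mul_zero, add_zero, Units.val_one, Matrix.one_apply_ne (by decide)] at h
    have hdet : (a : Matrix (Fin 2) (Fin 2) F).det ≠ 0 := (Matrix.GeneralLinearGroup.det a).ne_zero
    rw [Matrix.det_fin_two, ha, mul_zero, sub_zero] at hdet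
    exact (mul_eq_zero.mp h).resolve_right (left_ne_zero_of_mul hdet)

theorem normalizer_uRange :
    Subgroup.normalizer ((uHom (F := F)).range : Set (GL (Fin 2) F)) = borel F := by
  ext g
  rw [Subgroup.mem_normalizer_iff]
  constructor
  · intro h
    exact lower_zero_of_conj one_ne_zero ((h (u 1)).mp ⟨Multiplicative.ofAdd 1, rfl⟩)
  · intro hg x
    constructor
    · rintro ⟨t, rfl⟩
      obtain ⟨s, hs⟩ := conj_u_of_lower_zero hg t.toAdd
      exact ⟨Multiplicative.ofAdd s, hs.symm⟩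
    · rintro ⟨t, ht⟩
      obtain ⟨s, hs⟩ := conj_u_of_lower_zero ((borel F).inv_mem hg) t.toAdd
      refine ⟨Multiplicative.ofAdd s, ?_⟩
      show u s = x
      rw [← hs, show u t.toAdd = g * x * g⁻¹ from ht]; group

theorem normalizer_sylow (p : ℕ) [Fact p.Prime] [CharP F p] (P : Sylow p (GL (Fin 2) F)) :
    ∃ g : GL (Fin 2) F, Subgroup.normalizer ((P : Subgroup (GL (Fin 2) F)) : Set (GL (Fin 2) F)) =
      (borel F).map (MulAut.conj g).toMonoidHom := by
  obtain ⟨g, hg⟩ := sylow_eq_conj p P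
  refine ⟨g, ?_⟩
  rw [← normalizer_uRange, Subgroup.map_equiv_normalizer_eq, hg]
  rfl

theorem natCard_ne_zero : Nat.card {a : F // a ≠ 0} = Fintype.card F - 1 := by
  classical
  rw [Nat.card_eq_fintype_card, Fintype.card_subtype_compl, Fintype.card_subtype_eq]

theorem card_borel : Nat.card (borel F) = Fintype.card F * (Fintype.card F - 1) ^ 2 := by
  classical
  let e : borel F ≃ {a : F // a ≠ 0} × F × {a : F // a ≠ 0} :=
    { toFun := fun g => (⟨((g : GL (Fin 2) F) : Matrix (Fin 2) (Fin 2) F) 0 0, fun h => by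
          have := (Matrix.GeneralLinearGroup.det (g : GL (Fin 2) F)).ne_zero
          exact this (by simp [Matrix.det_fin_two, h, show ((g : GL (Fin 2) F) : Matrix (Fin 2) (Fin 2) F) 1 0 = 0 from g.2])⟩,
        ((g : GL (Fin 2) F) : Matrix (Fin 2) (Fin 2) F) 0 1, ⟨((g : GL (Fin 2) F) : Matrix (Fin 2) (Fin 2) F) 1 1, fun h => by
          have := (Matrix.GeneralLinearGroup.det (g : GL (Fin 2) F)).ne_zero
          exact this (by simp [Matrix.det_fin_two, h, show ((g : GL (Fin 2) F) : Matrix (Fin 2) (Fin 2) F) 1 0 = 0 from g.2])⟩)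
      invFun := fun x => ⟨Matrix.GeneralLinearGroup.mkOfDetNeZero !![x.1.1, x.2.1; 0, x.2.2.1] (by
          simp [Matrix.det_fin_two_of, x.1.2, x.2.2.2]), by
          show (!![x.1.1, x.2.1; 0, x.2.2.1] : Matrix (Fin 2) (Fin 2) F) 1 0 = 0; simp⟩
      left_inv := fun g => by
        refine Subtype.ext (Units.ext ?_)
        ext i j
        fin_cases i <;> fin_cases j <;> simp [Matrix.GeneralLinearGroup.mkOfDetNeZero]
        exact (show ((g : GL (Fin 2) F) : Matrix (Fin 2) (Fin 2) F) 1 0 = 0 from g.2).symm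
      right_inv := fun x => by simp [Matrix.GeneralLinearGroup.mkOfDetNeZero] }
  rw [Nat.card_congr e, Nat.card_prod, Nat.card_prod, natCard_ne_zero, Nat.card_eq_fintype_card (α := F)]
  ring

theorem index_borel : (borel F).index = Fintype.card F + 1 := by
  have h := (borel F).card_mul_index
  rw [card_borel, Matrix.card_GL_field, Fin.prod_univ_two] at h
  obtain ⟨r, hr⟩ : ∃ r, Fintype.card F = r + 2 := ⟨Fintype.card F - 2, by have := Fintype.one_lt_card (α := F); omega⟩
  rw [hr, show r + 2 - 1 = r + 1 from rfl] at h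
  rw [hr]
  simp only [Fin.val_zero, Fin.val_one, pow_zero, pow_one] at h
  rw [show (r + 2) ^ 2 - 1 = (r + 1) * (r + 3) by rw [show (r + 2) ^ 2 = (r + 1) * (r + 3) + 1 by ring]; rfl,
    show (r + 2) ^ 2 - (r + 2) = (r + 2) * (r + 1) by rw [show (r + 2) ^ 2 = (r + 2) * (r + 1) + (r + 2) by ring]; omega] at h
  have h' : (r + 2) * (r + 1) ^ 2 * (borel F).index = (r + 2) * (r + 1) ^ 2 * (r + 2 + 1) := by rw [h]; ring
  exact Nat.eq_of_mul_eq_mul_left (by positivity) h'

theorem centralizer_u {t : F} (ht : t ≠ 0) (g : GL (Fin 2) F) :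
    g * u t = u t * g ↔ (g : Matrix (Fin 2) (Fin 2) F) 1 0 = 0 ∧ (g : Matrix (Fin 2) (Fin 2) F) 0 0 = (g : Matrix (Fin 2) (Fin 2) F) 1 1 := by
  constructor
  · intro h
    have e1 := congrArg (fun x : GL (Fin 2) F => (x : Matrix (Fin 2) (Fin 2) F) 1 1) h
    have e2 := congrArg (fun x : GL (Fin 2) F => (x : Matrix (Fin 2) (Fin 2) F) 0 1) h
    simp [u, Matrix.mul_apply, Fin.sum_univ_two] at e1 e2
    refine ⟨e1.resolve_right ht, mul_right_cancel₀ ht ?_⟩
    linear_combination e2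
  · rintro ⟨h1, h2⟩
    refine Units.ext ?_
    ext i j
    fin_cases i <;> fin_cases j <;> simp [u, Matrix.mul_apply, Fin.sum_univ_two, h1, h2] <;> ring

end Cfsg.Agent.Classical.GLTwoSylow
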