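import Cfsg.Agent.Lib.Classical.MatrixOrders

/-! Orders of unipotent elements of `GL d` in characteristic `p`. -/

set_option autoImplicit false

namespace Cfsg.Agent.Lie

variable {F : Type*} [Field F] (p : ℕ) [Fact p.Prime] [CharP F p] {d : ℕ}

omit [Fact p.Prime] [CharP F p] in
theorem nilpotent_matrix_pow_card {N : Matrix (Fin d) (Fin d) F} (hN : IsNilpotent N) : N ^ d = 0 := by
  have h : IsNilpotent (Matrix.toLinAlgEquiv' N) := hN.map Matrix.toLinAlgEquiv'
  have h1 := LinearMap.aeval_self_charpoly (Matrix.toLinAlgEquiv' N)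
  rw [h.charpoly_eq_X_pow_finrank, map_pow, Polynomial.aeval_X, Module.finrank_fin_fun,
    ← map_pow, map_eq_zero_iff _ (Matrix.toLinAlgEquiv' (R := F)).injective] at h1
  exact h1

theorem unipotent_pow_char (u : GL (Fin d) F) (j : ℕ) (hd : 1 ≤ d) :
    ((u : Matrix (Fin d) (Fin d) F) - 1) ^ p ^ j =
      ((u ^ p ^ j : GL (Fin d) F) : Matrix (Fin d) (Fin d) F) - 1 := by
  haveI : Nonempty (Fin d) := ⟨⟨0, hd⟩⟩
  haveI : CharP (Matrix (Fin d) (Fin d) F) p := charP_of_injective_ringHom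
    (f := algebraMap F (Matrix (Fin d) (Fin d) F)) (algebraMap F _).injective p
  rw [sub_pow_char_pow_of_commute _ _ (Commute.one_right _), one_pow, Units.val_pow_eq_pow_val]

theorem unipotent_pow_clog (u : GL (Fin d) F)
    (hu : IsNilpotent ((u : Matrix (Fin d) (Fin d) F) - 1)) : u ^ p ^ Nat.clog p d = 1 := by
  rcases Nat.eq_zero_or_pos d with rfl | hd
  · exact Subsingleton.elim _ _
  refine Units.ext ?_
  have h := unipotent_pow_char p u (Nat.clog p d) hd
  rw [pow_eq_zero_of_le (Nat.le_pow_clog (Fact.out : p.Prime).one_lt d)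
    (nilpotent_matrix_pow_card hu)] at h
  exact sub_eq_zero.1 h.symm

theorem unipotent_order_le (u : GL (Fin d) F)
    (hu : IsNilpotent ((u : Matrix (Fin d) (Fin d) F) - 1)) : orderOf u ≤ p ^ Nat.clog p d :=
  orderOf_le_of_pow_eq_one (pow_pos (Fact.out : p.Prime).pos _) (unipotent_pow_clog p u hu)

theorem unipotent_order_eq (u : GL (Fin d) F)
    (hu : IsNilpotent ((u : Matrix (Fin d) (Fin d) F) - 1))
    (h : ((u : Matrix (Fin d) (Fin d) F) - 1) ^ (d - 1) ≠ 0) :
    orderOf u = p ^ Nat.clog p d := by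
  obtain ⟨j, hj, e⟩ := (Nat.dvd_prime_pow (Fact.out : p.Prime)).1
    (orderOf_dvd_of_pow_eq_one (unipotent_pow_clog p u hu))
  rcases hj.lt_or_eq with hlt | rfl
  swap
  · exact e
  rcases Nat.lt_or_ge 1 d with hd | hd
  swap
  · rw [Nat.clog_of_right_le_one hd] at hlt; omega
  refine absurd ?_ h
  have h1 : p ^ j ≤ d - 1 := by
    have h3 : p ^ j ≤ p ^ (Nat.clog p d).pred :=
      Nat.pow_le_pow_right (Fact.out : p.Prime).pos (by rw [Nat.pred_eq_sub_one]; omega)
    have h4 := Nat.pow_pred_clog_lt_self (Fact.out : p.Prime).one_lt hd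
    omega
  refine pow_eq_zero_of_le h1 ?_
  rw [unipotent_pow_char p u j (by omega), ← e, pow_orderOf_eq_one, Units.val_one, sub_self]

theorem p_element_order_lt (hd : 1 ≤ d) (g : GL (Fin d) F) (hg : ∃ j : ℕ, orderOf g = p ^ j) :
    orderOf g < p * d := by
  obtain ⟨j, hj⟩ := hg
  have hu : IsNilpotent ((g : Matrix (Fin d) (Fin d) F) - 1) :=
    ⟨p ^ j, by rw [unipotent_pow_char p g j hd, ← hj, pow_orderOf_eq_one, Units.val_one, sub_self]⟩
  refine lt_of_le_of_lt (unipotent_order_le p g hu) ?_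
  have hp := (Fact.out : p.Prime).one_lt
  rcases Nat.lt_or_ge 1 d with h | h
  · have h4 := Nat.pow_pred_clog_lt_self hp h
    have h5 : 0 < Nat.clog p d := Nat.clog_pos hp h
    calc p ^ Nat.clog p d = p * p ^ (Nat.clog p d).pred := by
          rw [← pow_succ', Nat.pred_eq_sub_one, Nat.sub_add_cancel h5]
      _ < p * d := Nat.mul_lt_mul_of_pos_left h4 (by omega)
  · rw [Nat.clog_of_right_le_one h, pow_zero]
    nlinarith

theorem exists_p_element_order_ge (hd : 1 ≤ d) :
    ∃ g : GL (Fin d) F, (∃ j : ℕ, orderOf g = p ^ j) ∧ d ≤ orderOf g := by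
  have hN : IsNilpotent (Classical.shiftMatrix F d d) :=
    ⟨d, Classical.shiftMatrix_pow_eq_zero le_rfl (by omega)⟩
  obtain ⟨g, hg⟩ := hN.isUnit_one_add
  have hu : (g : Matrix (Fin d) (Fin d) F) - 1 = Classical.shiftMatrix F d d := by
    rw [hg, add_sub_cancel_left]
  have he := unipotent_order_eq p g (hu.symm ▸ hN) (by
    rw [hu]
    intro e
    have h1 := congrFun (congrFun e ⟨0, by omega⟩) ⟨d - 1, by omega⟩
    rw [Classical.shiftMatrix_pow, if_pos ⟨by simp, Or.inr (by simp; omega)⟩] at h1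
    exact one_ne_zero h1)
  exact ⟨g, ⟨_, he⟩, he ▸ Nat.le_pow_clog (Fact.out : p.Prime).one_lt d⟩

end Cfsg.Agent.Lie
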