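import Cfsg.Agent.Lib.Classical.UnitHeisenberg

/-!
Unitary transvections: transitivity, centralisers of Heisenberg groups, and the image of a transvection
group under an automorphism of `PSU_n`.
-/

set_option autoImplicit false
set_option linter.unusedSectionVars false

namespace Cfsg.Agent.Classical.PSUAut

open Matrix
open scoped Pointwise

variable {F : Type*} [Field F] [Fintype F] {q n : ℕ}

local notation "V" => (Fin n → F)
local notation "Mn" => Matrix (Fin n) (Fin n) F
local notation "PS" => PSU n F q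

section
variable (hF : Fintype.card F = q ^ 2)

local notation "h" => hermForm n F q
local notation "cj" => qFrob hF
local notation "π" => suToPSU n F q

omit [Fintype F] in
theorem su_form (s : SU n F q) (x y : V) : h (suVal s *ᵥ x) (suVal s *ᵥ y) = h x y := s.2 x y

omit [Fintype F] in
theorem suVal_inv_mul (s : SU n F q) : suVal s⁻¹ * suVal s = 1 := by
  rw [← suVal_mul, inv_mul_cancel]; rfl

omit [Fintype F] in
theorem suVal_mul_inv (s : SU n F q) : suVal s * suVal s⁻¹ = 1 := by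
  rw [← suVal_mul, mul_inv_cancel]; rfl

omit [Fintype F] in
theorem su_injective (s : SU n F q) {x : V} (hx : suVal s *ᵥ x = 0) : x = 0 := by
  have h1 := congrArg (suVal s⁻¹ *ᵥ ·) hx
  simpa [Matrix.mulVec_mulVec, suVal_inv_mul] using h1

omit [Fintype F] in
theorem pi_surjective : Function.Surjective (suToPSU n F q) := QuotientGroup.mk'_surjective _

include hF

theorem pi_eq_one_iff {s : SU n F q} : π s = 1 ↔ ∃ l : F, suVal s = l • (1 : Mn) := by
  have h1 : π s = 1 ↔ s ∈ Subgroup.center (SU n F q) := QuotientGroup.eq_one_iff s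
  rw [h1]
  constructor
  · intro hs
    obtain ⟨c, hc⟩ := suVal_scalar_of_mem_center hF hs
    exact ⟨c, by rw [hc, Matrix.scalar_apply, ← Matrix.smul_one_eq_diagonal]⟩
  · rintro ⟨l, hl⟩
    exact mem_center_of_suVal_scalar (c := l) (by rw [hl, Matrix.scalar_apply, ← Matrix.smul_one_eq_diagonal])

theorem pi_eq_iff {s t : SU n F q} : π s = π t ↔ ∃ l : F, suVal s = l • suVal t := by
  constructor
  · intro e
    obtain ⟨l, hl⟩ := (pi_eq_one_iff hF).1 (show π (s * t⁻¹) = 1 by rw [map_mul, map_inv, e, mul_inv_cancel])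
    refine ⟨l, ?_⟩
    rw [suVal_mul] at hl
    have := congrArg (· * suVal t) hl
    simpa [Matrix.mul_assoc, suVal_inv_mul] using this
  · rintro ⟨l, hl⟩
    have h1 : π (s * t⁻¹) = 1 := (pi_eq_one_iff hF).2 ⟨l, by rw [suVal_mul, hl, Matrix.smul_mul, suVal_mul_inv]⟩
    rwa [map_mul, map_inv, mul_inv_eq_one] at h1

/-- A scalar multiple of a unipotent element is unipotent only trivially. -/
theorem eq_of_smul {A B : Mn} {l : F} {N : ℕ} (hn : 1 ≤ n) {p : ℕ} [Fact p.Prime] [CharP F p]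
    (hN : N = p * p) (hA : A ^ N = 1) (hB : B ^ N = 1) (e : A = l • B) : l = 1 ∧ A = B := by
  haveI : Nonempty (Fin n) := ⟨⟨0, hn⟩⟩
  rw [e, smul_pow, hB] at hA
  have h1 : l ^ (p * p) = 1 := by
    have := congrFun (congrFun hA ⟨0, hn⟩) ⟨0, hn⟩
    simpa [hN] using this
  have h2 : l = 1 := frobenius_inj F p (frobenius_inj F p (by
    simpa [frobenius_def, ← pow_mul] using h1))
  exact ⟨h2, by rw [e, h2, one_smul]⟩

theorem eMat_eq_of_pi_eq (hn : 1 ≤ n) {e e' w w' : V} {c c' : F} (H : EOK (q := q) e w c)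
    (H' : EOK (q := q) e' w' c') (he : π (eSU hF H) = π (eSU hF H')) : eMat q e w c = eMat q e' w' c' := by
  obtain ⟨p, hp⟩ := CharP.exists F
  haveI : Fact p.Prime := ⟨CharP.char_is_prime F p⟩
  obtain ⟨l, hl⟩ := (pi_eq_iff hF).1 he
  exact (eq_of_smul hF hn (p := p) rfl (eMat_pow_char hF H) (eMat_pow_char hF H') hl).2

omit hF in
theorem tv_apply (v : V) (c : F) (x : V) : eMat q v 0 c *ᵥ x = x + ((c * h x v) • v - h x 0 • v) := by
  rw [eMat_mulVec, smul_zero]; module

theorem tv_apply' (v : V) (c : F) (x : V) : eMat q v 0 c *ᵥ x = x + (c * h x v) • v := by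
  rw [tv_apply, h_zero_right hF, zero_smul, sub_zero]

theorem tv_smul (v : V) (a c : F) : eMat q (a • v) 0 c = eMat q v 0 (a * cj a * c) := by
  refine Matrix.ext_iff_mulVec.2 fun x => ?_
  rw [tv_apply' hF, tv_apply' hF, h_smul_right hF, smul_smul]
  congr 2
  ring

theorem exists_smul_of_tv_eq {v w : V} {c d : F} (hv : v ≠ 0) (hc : c ≠ 0)
    (e : eMat q v 0 c = eMat q w 0 d) : ∃ a : F, a ≠ 0 ∧ v = a • w := by
  obtain ⟨x, hx⟩ := exists_h_eq hF hv 1
  have h1 := congrArg (· *ᵥ x) e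
  simp only [tv_apply' hF, add_right_inj] at h1
  have hxv : h x v = 1 := by rw [← cj_h hF, hx, map_one]
  rw [hxv, mul_one] at h1
  refine ⟨c⁻¹ * (d * h x w), fun h0 => hv ?_, ?_⟩
  · have : c • v = 0 := by
      rw [h1]
      rcases mul_eq_zero.1 h0 with h0 | h0
      · exact absurd h0 (inv_ne_zero hc)
      · rw [h0, zero_smul]
    exact (smul_eq_zero.1 this).resolve_left hc
  · rw [← smul_smul, ← h1, smul_smul, inv_mul_cancel₀ hc, one_smul]

theorem tv_coeff_inj {v : V} {c d : F} (hv : v ≠ 0) (e : eMat q v 0 c = eMat q v 0 d) : c = d := by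
  obtain ⟨x, hx⟩ := exists_h_eq hF hv 1
  have h1 := congrArg (· *ᵥ x) e
  simp only [tv_apply' hF, add_right_inj] at h1
  rw [show h x v = 1 by rw [← cj_h hF, hx, map_one], mul_one, mul_one] at h1
  exact smul_left_injective F hv h1

theorem eMat_conj (s : SU n F q) (e w : V) (c : F) :
    suVal s * eMat q e w c * suVal s⁻¹ = eMat q (suVal s *ᵥ e) (suVal s *ᵥ w) c := by
  rw [mul_eMat (su_form s), Matrix.mul_assoc, suVal_mul_inv, Matrix.mul_one]

theorem eSU_conj (s : SU n F q) {e w : V} {c : F} (H : EOK (q := q) e w c) :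
    s * eSU hF H * s⁻¹ = eSU hF (H.map (su_form s)) :=
  suVal_ext (by rw [suVal_mul, suVal_mul]; exact eMat_conj hF s e w c)

/-- The transvection group of an isotropic vector, in `PSU`. -/
def rootU (v : V) : Set PS :=
  {y | ∃ (s : SU n F q) (c : F), c + cj c = 0 ∧ suVal s = eMat q v 0 c ∧ π s = y}

/-- The transvections of `PSU`. -/
def transU (n : ℕ) : Set (PSU n F q) :=
  {y | ∃ v : Fin n → F, v ≠ 0 ∧ hermForm n F q v v = 0 ∧ y ∈ rootU (n := n) hF v}

theorem mem_rootU {v : V} (hv : h v v = 0) {c : F} (hc : c + cj c = 0) :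
    π (eSU hF (eOK_transvection hF hv hc)) ∈ rootU hF v := ⟨_, c, hc, rfl, rfl⟩

theorem rootU_smul (v : V) {a : F} (ha : a ≠ 0) : rootU hF (a • v) = rootU hF v := by
  have hfix : cj (a * cj a) = a * cj a := by rw [map_mul, cj_cj, mul_comm]
  have hne : a * cj a ≠ 0 := mul_ne_zero ha ((map_ne_zero _).2 ha)
  ext y
  constructor
  · rintro ⟨s, c, hc, hs, rfl⟩
    exact ⟨s, a * cj a * c, by rw [map_mul, hfix, ← mul_add, hc, mul_zero], by rw [hs, tv_smul hF], rfl⟩
  · rintro ⟨s, c, hc, hs, rfl⟩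
    refine ⟨s, c / (a * cj a), by rw [map_div₀, hfix, ← add_div, hc, zero_div], ?_, rfl⟩
    rw [hs, tv_smul hF, mul_div_cancel₀ _ hne]

theorem rootU_conj (s : SU n F q) (v : V) :
    MulAut.conj (π s) '' rootU hF v = rootU hF (suVal s *ᵥ v) := by
  ext y
  constructor
  · rintro ⟨_, ⟨t, c, hc, ht, rfl⟩, rfl⟩
    refine ⟨s * t * s⁻¹, c, hc, ?_, by simp⟩
    rw [suVal_mul, suVal_mul, ht, eMat_conj hF, Matrix.mulVec_zero]
  · rintro ⟨t, c, hc, ht, rfl⟩
    refine ⟨π (s⁻¹ * t * s), ⟨_, c, hc, ?_, rfl⟩, by simp [mul_assoc]⟩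
    have h1 := eMat_conj hF s⁻¹ (suVal s *ᵥ v) 0 c
    rw [inv_inv] at h1
    rw [suVal_mul, suVal_mul, ht, h1, Matrix.mulVec_mulVec, suVal_inv_mul, Matrix.one_mulVec,
      Matrix.mulVec_zero]

theorem tv_ne_one (hn : 1 ≤ n) {s : SU n F q} {v : V} {c : F} (hv : v ≠ 0) (hvv : h v v = 0)
    (hc : c + cj c = 0) (hc0 : c ≠ 0) (hs : suVal s = eMat q v 0 c) : π s ≠ 1 := by
  intro h1
  have hs' : s = eSU hF (eOK_transvection hF hvv hc) := suVal_ext hs
  rw [hs', ← map_one π, ← eSU_zero hF hvv] at h1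
  exact hc0 (tv_coeff_inj hF hv (eMat_eq_of_pi_eq hF hn _ _ h1))

theorem comm_of_orth {v w : V} (hvw : h v w = 0) {s t : SU n F q} {c d : F}
    (hs : suVal s = eMat q v 0 c) (ht : suVal t = eMat q w 0 d) : Commute s t := by
  refine suVal_ext (Matrix.ext_iff_mulVec.2 fun x => ?_)
  rw [suVal_mul, suVal_mul, hs, ht, ← Matrix.mulVec_mulVec, ← Matrix.mulVec_mulVec]
  simp only [tv_apply' hF, h_add_left, h_smul_left, hvw, h_comm_zero hF hvw, mul_zero, add_zero]
  abel

theorem orth_of_comm (hn : 1 ≤ n) {v w : V} (hv : v ≠ 0) (hw : w ≠ 0) (hvv : h v v = 0) (hww : h w w = 0)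
    {s t : SU n F q} {c d : F} (hc : c + cj c = 0) (hd : d + cj d = 0) (hc0 : c ≠ 0) (hd0 : d ≠ 0)
    (hs : suVal s = eMat q v 0 c) (ht : suVal t = eMat q w 0 d) (hcomm : Commute (π s) (π t)) :
    h v w = 0 := by
  by_contra hne
  have ht' : t = eSU hF (eOK_transvection hF hww hd) := suVal_ext ht
  have he : π (s * t * s⁻¹) = π t := by
    rw [map_mul, map_mul, map_inv, hcomm.eq, mul_inv_cancel_right]
  rw [ht', eSU_conj hF] at he
  have h1 := eMat_eq_of_pi_eq hF hn _ _ he
  rw [Matrix.mulVec_zero] at h1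
  have hsw : suVal s *ᵥ w ≠ 0 := fun h0 => hw (su_injective s h0)
  obtain ⟨a, -, ha⟩ := exists_smul_of_tv_eq hF hsw hd0 h1
  rw [hs, tv_apply' hF] at ha
  have hwv : h w v ≠ 0 := fun h0 => hne (h_comm_zero hF h0)
  have hv' : v = ((c * h w v)⁻¹ * (a - 1)) • w := by
    rw [← smul_smul, sub_smul, one_smul, ← ha, add_sub_cancel_left, smul_smul,
      inv_mul_cancel₀ (mul_ne_zero hc0 hwv), one_smul]
  refine hne ?_
  rw [hv', h_smul_left, hww, mul_zero]

theorem exists_sep {v w : V} (hv : ¬∃ a : F, v = a • w) : ∃ x, h x v = 1 ∧ h x w = 0 := by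
  have hex : ∃ x, h x w = 0 ∧ h x v ≠ 0 := by
    by_contra hcon
    push Not at hcon
    by_cases hw : w = 0
    · refine hv ⟨0, ?_⟩
      rw [zero_smul]
      exact eq_zero_of_h hF fun x => h_comm_zero hF (hcon x (by rw [hw, h_zero_right hF]))
    obtain ⟨x0, hx0⟩ := exists_h_eq hF hw 1
    have hx0w : h x0 w = 1 := by rw [← cj_h hF, hx0, map_one]
    refine hv ⟨cj (h x0 v), sub_eq_zero.1 (eq_zero_of_h hF fun x => h_comm_zero hF ?_)⟩
    have h1 := hcon (x - h x w • x0) (by rw [h_sub_left, h_smul_left, hx0w, mul_one, sub_self])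
    rw [h_sub_left, h_smul_left] at h1
    rw [h_sub_right hF, h_smul_right hF, cj_cj]
    linear_combination h1
  obtain ⟨x, hxw, hxv⟩ := hex
  exact ⟨(h x v)⁻¹ • x, by rw [h_smul_left, inv_mul_cancel₀ hxv], by rw [h_smul_left, hxw, mul_zero]⟩

theorem par_of_prod (hn : 1 ≤ n) {v w : V} (hv : v ≠ 0) (hw : w ≠ 0) (hvv : h v v = 0)
    (hww : h w w = 0) (hvw : h v w = 0) {s t : SU n F q} {c d : F} (hc : c + cj c = 0) (hd : d + cj d = 0)
    (hc0 : c ≠ 0) (hd0 : d ≠ 0) (hs : suVal s = eMat q v 0 c) (ht : suVal t = eMat q w 0 d)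
    (hprod : π s * π t ∈ transU hF n) : ∃ a : F, a ≠ 0 ∧ v = a • w := by
  obtain ⟨p, hp⟩ := CharP.exists F
  haveI : Fact p.Prime := ⟨CharP.char_is_prime F p⟩
  obtain ⟨z, hz, hzz, r, k, hk, hr, he⟩ := hprod
  rw [← map_mul] at he
  obtain ⟨l, hl⟩ := (pi_eq_iff hF).1 he
  have hA : (suVal (s * t)) ^ (p * p) = 1 := by
    rw [suVal_mul, (show Commute (suVal s) (suVal t) from by
      have := congrArg suVal (comm_of_orth hF hvw hs ht).eq
      rwa [suVal_mul, suVal_mul] at this).mul_pow, hs, ht,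
      eMat_pow_char hF (eOK_transvection hF hvv hc), eMat_pow_char hF (eOK_transvection hF hww hd), one_mul]
  have h1 := (eq_of_smul hF hn (p := p) rfl (hr ▸ eMat_pow_char hF (eOK_transvection hF hzz hk)) hA hl).2
  rw [suVal_mul, hs, ht, hr] at h1
  by_contra hcon
  push Not at hcon
  have hnv : ¬∃ a : F, v = a • w := fun ⟨a, ha⟩ => hcon a (fun h0 => hv (by rw [ha, h0, zero_smul])) ha
  have hnw : ¬∃ a : F, w = a • v := fun ⟨a, ha⟩ =>
    hnv ⟨a⁻¹, by rw [ha, smul_smul, inv_mul_cancel₀ (fun h0 => hw (by rw [ha, h0, zero_smul])), one_smul]⟩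
  have key : ∀ x, (k * h x z) • z = (c * h x v) • v + (d * h x w) • w := fun x => by
    have h2 := congrArg (· *ᵥ x) h1
    simp only [← Matrix.mulVec_mulVec, tv_apply' hF, h_add_left, h_smul_left, h_comm_zero hF hvw, mul_zero,
      add_zero, add_assoc, add_right_inj] at h2
    rw [h2, add_comm]
  obtain ⟨x, hxv, hxw⟩ := exists_sep hF hnv
  obtain ⟨y, hyw, hyv⟩ := exists_sep hF hnw
  have e1 := key x
  have e2 := key y
  rw [hxv, hxw, mul_one, mul_zero, zero_smul, add_zero] at e1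
  rw [hyv, hyw, mul_one, mul_zero, zero_smul, zero_add] at e2
  have hkx : k * h x z ≠ 0 := fun h0 => hv ((smul_eq_zero.1 (by rw [← e1, h0, zero_smul])).resolve_left hc0)
  refine hnw ⟨d⁻¹ * (k * h y z) * ((k * h x z)⁻¹ * c), ?_⟩
  rw [← smul_smul, ← smul_smul ((k * h x z)⁻¹), ← e1, smul_smul (k * h x z)⁻¹, inv_mul_cancel₀ hkx, one_smul,
    ← smul_smul, e2, smul_smul, inv_mul_cancel₀ hd0, one_smul]

/-- An element of `GU` mapping a hyperbolic pair to another one. -/
theorem exists_gu_pair {e f v w : V} (P : IsPair (q := q) e f) (P' : IsPair (q := q) v w) :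
    ∃ g : GL (Fin n) F, g ∈ GU n F q ∧ (g : Mn) *ᵥ e = v ∧ (g : Mn) *ᵥ f = w := by
  classical
  set X : Submodule F V := Submodule.span F {e, f}
  let L : V →ₗ[F] V :=
    { toFun := fun x => h x f • v + h x e • w
      map_add' := fun x y => by simp only [h_add_left]; module
      map_smul' := fun a x => by simp only [h_smul_left, RingHom.id_apply]; module }
  have hX : ∀ x ∈ X, x = h x f • e + h x e • f := by
    intro x hx
    obtain ⟨a, b, rfl⟩ := Submodule.mem_span_pair.1 hx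
    simp only [h_add_left, h_smul_left, P.ee, P.ef, P.ff, P.fe hF, mul_zero, mul_one, add_zero, zero_add]
  have hform : ∀ x ∈ X, ∀ y ∈ X, h (L x) (L y) = h x y := by
    intro x hx y hy
    conv_rhs => rw [hX x hx, hX y hy]
    simp only [L, LinearMap.coe_mk, AddHom.coe_mk, h_add_left, h_add_right hF, h_smul_left, h_smul_right hF,
      P.ee, P.ef, P.ff, P.fe hF, P'.ee, P'.ef, P'.ff, P'.fe hF]
  have hinj : Function.Injective (L.comp X.subtype) := by
    refine (injective_iff_map_eq_zero _).2 fun x hx => Subtype.ext ?_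
    have h1 : ∀ y ∈ X, h (x : V) y = 0 := fun y hy => by
      rw [← hform _ x.2 y hy, show L (x : V) = 0 from hx, h_zero_left]
    have he' := h1 e (Submodule.subset_span (by simp))
    have hf' := h1 f (Submodule.subset_span (by simp))
    rw [hX _ x.2, he', hf']; simp
  obtain ⟨g, hg, hgx⟩ := witt_hermitian (hermB hF n) (qFrob_ne_id hF) (qFrob_qFrob hF) (hermB_isSymm hF n)
    (hermB_nondegenerate hF n) X (L.comp X.subtype) hinj (fun x y => by
      rw [hermB_apply, hermB_apply]; exact hform _ y.2 _ x.2)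
  have hu : IsUnit (LinearMap.toMatrix' (g : V →ₗ[F] V)).det := by
    rw [← Matrix.isUnit_iff_isUnit_det]
    refine Matrix.mulVec_injective_iff_isUnit.1 fun a b hab => g.injective ?_
    simpa [LinearMap.toMatrix'_mulVec] using hab
  refine ⟨Matrix.GeneralLinearGroup.mk'' _ hu, fun x y => ?_, ?_, ?_⟩
  · show h (LinearMap.toMatrix' (g : V →ₗ[F] V) *ᵥ x) (LinearMap.toMatrix' (g : V →ₗ[F] V) *ᵥ y) = h x y
    rw [LinearMap.toMatrix'_mulVec, LinearMap.toMatrix'_mulVec]
    exact hg y x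
  · show LinearMap.toMatrix' (g : V →ₗ[F] V) *ᵥ e = v
    rw [LinearMap.toMatrix'_mulVec]
    refine (hgx ⟨e, Submodule.subset_span (by simp)⟩).trans ?_
    simp [L, P.ef, P.ee]
  · show LinearMap.toMatrix' (g : V →ₗ[F] V) *ᵥ f = w
    rw [LinearMap.toMatrix'_mulVec]
    refine (hgx ⟨f, Submodule.subset_span (by simp)⟩).trans ?_
    simp [L, P.ff, P.fe hF]

/-- An anisotropic vector orthogonal to a hyperbolic pair. -/
theorem exists_aniso_orth (hn : 3 ≤ n) {e f : V} (P : IsPair (q := q) e f) :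
    ∃ u, h u e = 0 ∧ h u f = 0 ∧ h u u ≠ 0 := by
  classical
  obtain ⟨x, hx⟩ : ∃ x : V, x ∉ Submodule.span F {e, f} := by
    by_contra hcon
    push Not at hcon
    have h1 : (⊤ : Submodule F V) ≤ Submodule.span F (({e, f} : Finset V) : Set V) := fun x _ => by
      simpa using hcon x
    have h2 := (Submodule.finrank_mono h1).trans (finrank_span_finset_le_card _)
    rw [finrank_top, Module.finrank_pi, Fintype.card_fin] at h2
    have := Finset.card_le_two (a := e) (b := f)
    omega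
  set w := wPart (q := q) e f x
  obtain ⟨hwe, hwf⟩ := wPart_orth hF P x
  have hw : w ≠ 0 := fun h0 => hx (by
    rw [wPart_eq (q := q) e f x, show wPart (q := q) e f x = 0 from h0, add_zero]
    exact Submodule.mem_span_pair.2 ⟨_, _, rfl⟩)
  by_cases hww : h w w ≠ 0
  · exact ⟨w, hwe, hwf, hww⟩
  push Not at hww
  obtain ⟨y, hy⟩ := exists_h_eq hF hw 1
  set u := wPart (q := q) e f y
  obtain ⟨hue, huf⟩ := wPart_orth hF P y
  have hwu : h w u = 1 := by
    have := congrArg (h w) (wPart_eq (q := q) e f y)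
    rw [h_add_right hF, h_add_right hF, h_smul_right hF, h_smul_right hF, hwe, hwf, hy] at this
    rw [show u = wPart (q := q) e f y from rfl]
    linear_combination -this
  by_cases huu : h u u ≠ 0
  · exact ⟨u, hue, huf, huu⟩
  push Not at huu
  obtain ⟨t, ht⟩ : ∃ t : F, t + cj t ≠ 0 := by
    obtain ⟨c, hc⟩ := exists_trace_eq hF (a := (1 : F)) (map_one _)
    exact ⟨c, by rw [hc]; exact one_ne_zero⟩
  refine ⟨t • w + u, ?_, ?_, ?_⟩
  · rw [h_add_left, h_smul_left, hwe, hue]; ring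
  · rw [h_add_left, h_smul_left, hwf, huf]; ring
  · rw [h_add_left, h_add_right hF, h_add_right hF, h_smul_left, h_smul_left, h_smul_right hF, h_smul_right hF,
      hww, hwu, huu, ← cj_h hF w u, hwu, map_one]
    simpa using ht

theorem det_norm_one {g : GL (Fin n) F} (hg : g ∈ GU n F q) :
    (g : Mn).det * cj (g : Mn).det = 1 := by
  have h1 := congrArg Matrix.det (transpose_mul_of_preserves hF (M := (g : Mn)) hg)
  rw [Matrix.det_mul, Matrix.det_transpose, Matrix.det_one, ← RingHom.mapMatrix_apply, ← RingHom.map_det] at h1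
  exact h1

/-- A pseudo-reflection. -/
theorem exists_reflection {u : V} (hu : h u u ≠ 0) {a : F} (ha : a * cj a = 1) :
    ∃ g : GL (Fin n) F, g ∈ GU n F q ∧ (g : Mn).det = a ∧
      ∀ x, (g : Mn) *ᵥ x = x + ((a - 1) * h x u / h u u) • u := by
  classical
  set M : Mn := 1 + ((a - 1) / h u u) • vecMulVec u (fun i => u i ^ q)
  have hd : ∀ x : V, (fun i => u i ^ q) ⬝ᵥ x = h x u := fun x => by
    simp [hermForm, dotProduct, mul_comm]
  have hMv : ∀ x, M *ᵥ x = x + ((a - 1) * h x u / h u u) • u := fun x => by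
    funext i
    simp [M, Matrix.add_mulVec, Matrix.smul_mulVec, Matrix.vecMulVec_mulVec, hd]
    ring
  have hdet : M.det = a := by
    rw [show M = 1 + vecMulVec (((a - 1) / h u u) • u) (fun i => u i ^ q) from by
        ext i j; simp [M, Matrix.vecMulVec_apply]]
    rw [Matrix.vecMulVec_eq Unit, Matrix.det_one_add_replicateCol_mul_replicateRow, dotProduct_smul, hd,
      smul_eq_mul, div_mul_cancel₀ _ hu]
    ring
  have ha0 : a ≠ 0 := fun h0 => by simp [h0] at ha
  refine ⟨Matrix.GeneralLinearGroup.mk'' M (hdet ▸ ha0.isUnit), fun x y => ?_, hdet, hMv⟩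
  show h (M *ᵥ x) (M *ᵥ y) = h x y
  rw [hMv, hMv]
  simp only [h_add_left, h_add_right hF, h_smul_left, h_smul_right hF, map_div₀, map_mul, map_sub, map_one,
    cj_h hF, cj_h_self hF]
  field_simp
  linear_combination (h x u * h u y) * ha

theorem exists_su_pair (hn : 3 ≤ n) {e f v w : V} (P : IsPair (q := q) e f) (P' : IsPair (q := q) v w) :
    ∃ s : SU n F q, suVal s *ᵥ e = v ∧ suVal s *ᵥ f = w := by
  obtain ⟨g, hg, hge, hgf⟩ := exists_gu_pair hF P P'
  obtain ⟨u, hue, huf, huu⟩ := exists_aniso_orth hF hn P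
  set δ := (g : Mn).det
  have hδ := det_norm_one hF hg
  obtain ⟨g', hg', hdet, hg'v⟩ := exists_reflection hF huu (a := δ⁻¹)
    (by rw [map_inv₀, ← mul_inv, hδ, inv_one])
  have hδ0 : δ ≠ 0 := fun h0 => by simp [show (g : Mn).det = 0 from h0] at hδ
  refine ⟨⟨⟨(g : Mn) * (g' : Mn), by rw [Matrix.det_mul, hdet]; exact mul_inv_cancel₀ hδ0⟩,
    fun x y => ?_⟩, ?_, ?_⟩
  · show h (((g : Mn) * (g' : Mn)) *ᵥ x) (((g : Mn) * (g' : Mn)) *ᵥ y) = h x y
    rw [← Matrix.mulVec_mulVec, ← Matrix.mulVec_mulVec]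
    exact (hg _ _).trans (hg' x y)
  · show ((g : Mn) * (g' : Mn)) *ᵥ e = v
    rw [← Matrix.mulVec_mulVec, hg'v, h_comm_zero hF hue, mul_zero, zero_div, zero_smul, add_zero, hge]
  · show ((g : Mn) * (g' : Mn)) *ᵥ f = w
    rw [← Matrix.mulVec_mulVec, hg'v, h_comm_zero hF huf, mul_zero, zero_div, zero_smul, add_zero, hgf]

theorem su_transitive (hn : 3 ≤ n) {v w : V} (hv : v ≠ 0) (hvv : h v v = 0) (hw : w ≠ 0) (hww : h w w = 0) :
    ∃ s : SU n F q, suVal s *ᵥ v = w := by
  obtain ⟨v', hP⟩ := exists_pair hF hv hvv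
  obtain ⟨w', hP'⟩ := exists_pair hF hw hww
  obtain ⟨s, hs, -⟩ := exists_su_pair hF hn hP hP'
  exact ⟨s, hs⟩

omit hF in
/-- The Heisenberg group as a subgroup of `SU`. -/
def heisU (hF : Fintype.card F = q ^ 2) (e : V) (he : h e e = 0) : Subgroup (SU n F q) where
  carrier := {s | ∃ w c, EOK (q := q) e w c ∧ suVal s = eMat q e w c}
  one_mem' := ⟨0, 0, EOK.zero hF he, (eMat_zero hF e).symm⟩
  mul_mem' := by
    rintro s t ⟨w, c, H, hs⟩ ⟨w', c', H', ht⟩
    exact ⟨_, _, H.mul hF H', by rw [suVal_mul, hs, ht, eMat_mul hF H H']⟩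
  inv_mem' := by
    rintro s ⟨w, c, H, hs⟩
    obtain ⟨p, hp⟩ := CharP.exists F
    haveI : Fact p.Prime := ⟨CharP.char_is_prime F p⟩
    obtain ⟨c', H', he'⟩ := eMat_pow hF H (p * p - 1)
    have h1 : s ^ (p * p) = 1 := suVal_ext (by rw [suVal_pow, hs, eMat_pow_char hF H]; rfl)
    have h2 : 1 ≤ p * p := Nat.one_le_iff_ne_zero.2 (by simp [(Fact.out : p.Prime).ne_zero])
    have h3 : s⁻¹ = s ^ (p * p - 1) := inv_eq_of_mul_eq_one_right (by
      rw [← pow_succ', Nat.sub_add_cancel h2, h1])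
    exact ⟨_, c', H', by rw [h3, suVal_pow, hs, he']⟩

theorem eSU_mem_heisU {e w : V} {c : F} (H : EOK (q := q) e w c) :
    eSU hF H ∈ heisU hF e H.ee := ⟨w, c, H, rfl⟩

theorem isPGroup_heisU {p : ℕ} [Fact p.Prime] [CharP F p] {e : V} (he : h e e = 0) :
    IsPGroup p (heisU hF e he) := by
  rintro ⟨s, w, c, H, hs⟩
  exact ⟨2, Subtype.ext (suVal_ext (by
    rw [SubgroupClass.coe_pow, suVal_pow, hs, sq, eMat_pow_char hF H]; rfl))⟩

/-- The centraliser of a Heisenberg group. -/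
theorem centralizer_heis (hn : 3 ≤ n) {e f : V} (P : IsPair (q := q) e f) {s : SU n F q}
    (hcomm : ∀ u ∈ heisU hF e P.ee, Commute (π s) (π u)) :
    ∃ (l c : F), c + cj c = 0 ∧ suVal s = l • eMat q e 0 c := by
  obtain ⟨t, ht0, ht⟩ := exists_trace_zero hF
  have conj_eq : ∀ w c, EOK (q := q) e w c →
      eMat q (suVal s *ᵥ e) (suVal s *ᵥ w) c = eMat q e w c := by
    intro w c H
    refine eMat_eq_of_pi_eq hF (by omega) (H.map (su_form s)) H ?_
    rw [← eSU_conj hF s H, map_mul, map_mul, map_inv, (hcomm _ (eSU_mem_heisU hF H)).eq, mul_inv_cancel_right]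
  have h0 := conj_eq 0 t (eOK_transvection hF P.ee ht)
  rw [Matrix.mulVec_zero] at h0
  obtain ⟨l, hl0, hl⟩ := exists_smul_of_tv_eq hF (fun h' => P.ne_zero (su_injective s h')) ht0 h0
  have hN : l * cj l = 1 := by
    rw [hl, tv_smul hF] at h0
    exact mul_right_cancel₀ ht0 ((tv_coeff_inj hF P.ne_zero h0).trans (one_mul t).symm)
  have hcl : cj l ≠ 0 := (map_ne_zero _).2 hl0
  have hperp : ∀ w, h w e = 0 → suVal s *ᵥ w = l • w := by
    have formula : ∀ w, h w e = 0 →
        suVal s *ᵥ w = l • w + (l * (l * h f (suVal s *ᵥ w) - h f w)) • e := by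
      intro w hw
      obtain ⟨c, H⟩ := EOK.exists_c hF P.ee hw
      have h1 := congrArg (· *ᵥ f) (conj_eq w c H)
      simp only [hl, eMat_mulVec, h_smul_right hF, P.fe hF, mul_one, add_right_inj] at h1
      have h2 := congrArg (l • ·) h1
      simp only [smul_add, smul_sub, smul_smul, hN, one_smul] at h2
      rw [show l * (c * cj l * l) = c * l by linear_combination (c * l) * hN] at h2
      linear_combination (norm := module) h2
    obtain ⟨a, ha⟩ : ∃ a : F, cj a ≠ a := by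
      by_contra hcon
      push Not at hcon
      exact qFrob_ne_id hF (RingHom.ext hcon)
    intro w hw
    have f1 := formula w hw
    have f2 := formula (a • w) (by rw [h_smul_left, hw, mul_zero])
    rw [Matrix.mulVec_smul, h_smul_right hF, h_smul_right hF] at f2
    have f3 : ((cj a - a) * (l * (l * h f (suVal s *ᵥ w) - h f w))) • e = 0 := by
      linear_combination (norm := module) a • f1 - f2
    have hγ : l * (l * h f (suVal s *ᵥ w) - h f w) = 0 := (mul_eq_zero.1 ((smul_eq_zero.1 f3).resolve_right P.ne_zero)).resolve_left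
      (sub_ne_zero.2 ha)
    rw [f1, hγ, zero_smul, add_zero]
  set d := suVal s *ᵥ f - l • f
  have hd : ∀ w, h w e = 0 → h d w = 0 := fun w hw => by
    have h1 := su_form s f w
    rw [hperp w hw, h_smul_right hF] at h1
    rw [h_sub_left, h_smul_left]
    linear_combination l * h1 - (h (suVal s *ᵥ f) w) * hN
  have hde : d = h d f • e := by
    refine sub_eq_zero.1 (eq_zero_of_h hF fun x => ?_)
    obtain ⟨hwe, hwf⟩ := wPart_orth hF P x
    have hdw := hd _ hwe
    have hde0 : h d e = 0 := hd e P.ee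
    conv_lhs => rw [wPart_eq (q := q) e f x]
    simp only [h_sub_left, h_smul_left, h_add_right hF, h_smul_right hF, hde0, hdw, P.ee, P.ef,
      h_comm_zero hF hwe]
    ring
  set k := h d f
  have hk : k * cj l + l * cj k = 0 := by
    have h1 := su_form s f f
    rw [show suVal s *ᵥ f = l • f + k • e by rw [← hde]; simp only [d]; abel, P.ff] at h1
    simp only [h_add_left, h_add_right hF, h_smul_left, h_smul_right hF, P.ee, P.ef, P.ff, P.fe hF] at h1
    linear_combination h1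
  refine ⟨l, k * cj l, ?_, Matrix.ext_iff_mulVec.2 fun x => ?_⟩
  · rw [map_mul, cj_cj]; linear_combination hk
  · rw [Matrix.smul_mulVec, tv_apply' hF]
    have hsplit : suVal s *ᵥ x = suVal s *ᵥ (x - h x e • f) + h x e • (suVal s *ᵥ f) := by
      rw [← Matrix.mulVec_smul, ← Matrix.mulVec_add, sub_add_cancel]
    rw [hsplit, hperp _ (by rw [h_sub_left, h_smul_left, P.fe hF, mul_one, sub_self]),
      show suVal s *ᵥ f = l • f + k • e by rw [← hde]; simp only [d]; abel]
    rw [smul_add l x, smul_smul l,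
      show l * (k * cj l * h x e) = h x e * k by linear_combination (h x e * k) * hN]
    module

theorem p_dvd_isoCount (hn : 3 ≤ n) {p : ℕ} [Fact p.Prime] [CharP F p] :
    p ∣ normCount n F q (0 : F) := by
  have h1 := normCount_zero hF n
  obtain ⟨j, -, hj⟩ := FiniteField.card F p
  have hpq : p ∣ q := (Fact.out : p.Prime).dvd_of_dvd_pow (n := 2) (by rw [← hF, hj]; exact dvd_pow_self p j.ne_zero)
  have hq := two_le_q hF
  have h2 : (normCount n F q (0 : F) : ℤ) =
      (q : ℤ) ^ (2 * n - 1) + (-1) ^ n * ((q : ℤ) ^ n - (q : ℤ) ^ (n - 1)) := by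
    refine mul_right_cancel₀ (show (q : ℤ) ≠ 0 by exact_mod_cast (by omega : q ≠ 0)) (h1.trans ?_)
    obtain ⟨m, rfl⟩ : ∃ m, n = m + 1 := ⟨n - 1, by omega⟩
    rw [show 2 * (m + 1) - 1 = 2 * m + 1 by omega, show m + 1 - 1 = m by omega]
    ring
  refine Int.natCast_dvd_natCast.1 (h2 ▸ ?_)
  have hpq' : (p : ℤ) ∣ (q : ℤ) := Int.natCast_dvd_natCast.2 hpq
  exact dvd_add (hpq'.trans (dvd_pow_self _ (by omega)))
    (Dvd.dvd.mul_left (dvd_sub (hpq'.trans (dvd_pow_self _ (by omega))) (hpq'.trans (dvd_pow_self _ (by omega)))) _)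

/-- Automorphisms of `PSU` map transvections to transvections. -/
theorem map_transU (hn : 3 ≤ n) (β : MulAut PS) {x : PS} (hx : x ∈ transU hF n) :
    β x ∈ transU hF n := by
  classical
  obtain ⟨p, hp⟩ := CharP.exists F
  haveI : Fact p.Prime := ⟨CharP.char_is_prime F p⟩
  obtain ⟨v, hv, hvv, t, c, hc, ht, rfl⟩ := hx
  have hn1 : 1 ≤ n := by omega
  by_cases hc0 : c = 0
  · refine ⟨v, hv, hvv, t, c, hc, ht, ?_⟩
    have : t = 1 := suVal_ext (by rw [ht, hc0, eMat_zero hF]; rfl)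
    rw [this, map_one, map_one]
  set S : Subgroup (SU n F q) :=
    { carrier := {s | suVal s *ᵥ v = v}
      one_mem' := Matrix.one_mulVec v
      mul_mem' := fun {a b} ha hb => by
        show suVal (a * b) *ᵥ v = v
        rw [suVal_mul, ← Matrix.mulVec_mulVec, show suVal b *ᵥ v = v from hb]; exact ha
      inv_mem' := fun {a} ha => by
        show suVal a⁻¹ *ᵥ v = v
        conv_lhs => arg 2; rw [← show suVal a *ᵥ v = v from ha]
        rw [Matrix.mulVec_mulVec, suVal_inv_mul, Matrix.one_mulVec] }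
  have hindex : S.index + 1 = normCount n F q (0 : F) := by
    let f : SU n F q ⧸ S → {w : V // w ≠ 0 ∧ h w w = 0} := Quotient.lift
      (fun s => ⟨suVal s *ᵥ v, fun h0 => hv (su_injective s h0), by rw [su_form, hvv]⟩)
      (fun a b hab => Subtype.ext (by
        have h1 : suVal (a⁻¹ * b) *ᵥ v = v := (QuotientGroup.leftRel_apply (s := S)).1 hab
        show suVal a *ᵥ v = suVal b *ᵥ v
        conv_lhs => rw [← h1, Matrix.mulVec_mulVec, ← suVal_mul, mul_inv_cancel_left]))
    have hf : Function.Bijective f := by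
      constructor
      · rintro ⟨a⟩ ⟨b⟩ hab
        refine Quotient.sound ((QuotientGroup.leftRel_apply (s := S)).2 ?_)
        show suVal (a⁻¹ * b) *ᵥ v = v
        have h1 : suVal a *ᵥ v = suVal b *ᵥ v := congrArg Subtype.val hab
        rw [suVal_mul, ← Matrix.mulVec_mulVec, ← h1, Matrix.mulVec_mulVec, suVal_inv_mul, Matrix.one_mulVec]
      · rintro ⟨w, hw, hww⟩
        obtain ⟨s, hs⟩ := su_transitive hF hn hv hvv hw hww
        exact ⟨Quotient.mk _ s, Subtype.ext hs⟩
    rw [Subgroup.index, Nat.card_eq_of_bijective f hf, Nat.card_eq_fintype_card, Fintype.card_subtype,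
      normCount, Nat.card_eq_fintype_card, Fintype.card_subtype]
    rw [← Finset.card_insert_of_notMem (a := (0 : V)) (by simp)]
    refine congrArg Finset.card (Finset.ext fun w => ?_)
    by_cases hw : w = 0 <;> simp [hw, h_zero_left]
  obtain ⟨P0⟩ := (inferInstance : Nonempty (Sylow p (S.map π)))
  set P0' := (P0 : Subgroup (S.map π)).map (S.map π).subtype
  have hP0p : IsPGroup p P0' := P0.2.map _
  have hcent : ∀ y ∈ P0', Commute (π t) y := by
    rintro _ ⟨⟨_, s, hs, rfl⟩, -, rfl⟩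
    have h1 : s * t * s⁻¹ = t := suVal_ext (by
      rw [suVal_mul, suVal_mul, ht, eMat_conj hF, show suVal s *ᵥ v = v from hs, Matrix.mulVec_zero])
    exact (show Commute t s from (mul_inv_eq_iff_eq_mul.1 h1).symm).map π
  obtain ⟨P, hP⟩ := hP0p.exists_le_sylow
  have hPeq : P0' = (P : Subgroup PS) := by
    refine Subgroup.eq_of_le_of_card_ge hP ?_
    rw [Sylow.card_eq_multiplicity, Subgroup.card_map_of_injective (Subgroup.subtype_injective _),
      Sylow.card_eq_multiplicity]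
    refine Nat.pow_le_pow_right (Fact.out : p.Prime).pos ?_
    have hdvd : (S.map π).index ∣ S.index := Subgroup.index_map_dvd S pi_surjective
    have hcop : ¬ p ∣ (S.map π).index := by
      intro hd
      have h3 := Nat.dvd_sub (p_dvd_isoCount hF hn (p := p)) (hd.trans hdvd)
      rw [← hindex, Nat.add_sub_cancel_left] at h3
      exact (Fact.out : p.Prime).one_lt.ne' (Nat.dvd_one.1 h3)
    rw [← Subgroup.card_mul_index (S.map π), Nat.factorization_mul Nat.card_pos.ne'
      Subgroup.index_ne_zero_of_finite, Finsupp.add_apply, Nat.factorization_eq_zero_of_not_dvd hcop,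
      add_zero]
  have hone : π t ^ (p * p) = 1 := by
    rw [← map_pow, show t ^ (p * p) = 1 from suVal_ext (by
      rw [suVal_pow, ht, eMat_pow_char hF (eOK_transvection hF hvv hc)]; rfl), map_one]
  have htP : π t ∈ (P : Subgroup PS) := by
    have hnorm : π t ∈ Subgroup.normalizer ((P : Subgroup PS) : Set PS) := by
      refine Subgroup.mem_normalizer_iff.2 fun y => ?_
      rw [← hPeq]
      constructor
      · intro hy; rwa [(hcent y hy).eq, mul_inv_cancel_right]
      · intro hy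
        have h1 := (hcent _ hy).eq
        have : y = π t * y * (π t)⁻¹ := by
          rw [mul_assoc _ y, mul_assoc] at h1
          simpa [mul_assoc] using (mul_left_cancel h1).symm
        rwa [this]
    have hpz : IsPGroup p (Subgroup.zpowers (π t)) := by
      obtain ⟨k, -, hk⟩ := (Nat.dvd_prime_pow (Fact.out : p.Prime)).1
        ((orderOf_dvd_of_pow_eq_one hone).trans (dvd_of_eq (sq p).symm))
      exact IsPGroup.of_card (n := k) (by rw [Nat.card_zpowers, hk])
    have hsup := hpz.to_sup_of_normal_right' P.2 (Subgroup.zpowers_le.2 hnorm)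
    rw [← P.3 hsup le_sup_right]
    exact Subgroup.mem_sup_left (Subgroup.mem_zpowers _)
  obtain ⟨e, hee⟩ : ∃ e : V, e ≠ 0 ∧ h e e = 0 := ⟨v, hv, hvv⟩
  obtain ⟨f, P'⟩ := exists_pair hF hee.1 hee.2
  have hUp : IsPGroup p ((heisU hF e P'.ee).map π) := (isPGroup_heisU hF P'.ee).map _
  obtain ⟨Q, hQ⟩ := hUp.exists_le_sylow
  obtain ⟨R, hR⟩ := (P.2.map β.toMonoidHom).exists_le_sylow
  obtain ⟨g, hg⟩ := MulAction.exists_smul_eq PS Q R
  have hRmap : (R : Subgroup PS) = (P : Subgroup PS).map β.toMonoidHom := (Subgroup.eq_of_le_of_card_ge hR (by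
    rw [Subgroup.card_map_of_injective β.injective, Sylow.card_eq_multiplicity,
      Sylow.card_eq_multiplicity])).symm
  have hz : ∀ u ∈ heisU hF e P'.ee, Commute (g⁻¹ * β (π t) * g) (π u) := by
    intro u hu
    have h1 : g * π u * g⁻¹ ∈ (R : Subgroup PS) := by
      rw [← hg]
      show g * π u * g⁻¹ ∈ (MulAut.conj g • (Q : Subgroup PS) : Subgroup PS)
      exact ⟨π u, hQ (Subgroup.mem_map_of_mem _ hu), rfl⟩
    rw [hRmap] at h1
    obtain ⟨y, hy, hyu⟩ := h1
    rw [hPeq.symm] at hy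
    have h2 : Commute (β (π t)) (g * π u * g⁻¹) := by
      rw [← show β y = g * π u * g⁻¹ from hyu]
      exact (hcent y hy).map β.toMonoidHom
    have := h2.map (MulAut.conj g⁻¹).toMonoidHom
    simpa [mul_assoc] using this
  obtain ⟨z, hz'⟩ := pi_surjective (n := n) (q := q) (g⁻¹ * β (π t) * g)
  obtain ⟨l, c', hc', hzeq⟩ := centralizer_heis hF hn P' (s := z) (fun u hu => hz' ▸ hz u hu)
  set z' := eSU hF (eOK_transvection hF P'.ee hc')
  have hzz' : π z = π z' := (pi_eq_iff hF).2 ⟨l, hzeq⟩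
  obtain ⟨k, hk⟩ := pi_surjective (n := n) (q := q) g
  refine ⟨suVal k *ᵥ e, fun h0 => P'.ne_zero (su_injective k h0), by rw [su_form, P'.ee], k * z' * k⁻¹, c',
    hc', ?_, ?_⟩
  · rw [suVal_mul, suVal_mul, show suVal z' = eMat q e 0 c' from rfl, eMat_conj hF, Matrix.mulVec_zero]
  · rw [map_mul, map_mul, map_inv, ← hzz', hz', hk]
    group

/-- Automorphisms permute the transvection groups. -/
theorem exists_image_rootU (hn : 3 ≤ n) (β : MulAut PS) {v : V} (hv : v ≠ 0) (hvv : h v v = 0) :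
    ∃ w : V, w ≠ 0 ∧ h w w = 0 ∧ β '' rootU hF v = rootU hF w := by
  have hn1 : 1 ≤ n := by omega
  obtain ⟨t0, ht0, htt⟩ := exists_trace_zero hF
  have sub : ∀ (γ : MulAut PS) {v : V}, v ≠ 0 → h v v = 0 →
      ∃ w : V, w ≠ 0 ∧ h w w = 0 ∧ γ '' rootU hF v ⊆ rootU hF w := by
    intro γ v hv hvv
    obtain ⟨w, hw, hww, s, d, hd, hs, hsd⟩ := map_transU hF hn γ ⟨v, hv, hvv, mem_rootU hF hvv htt⟩
    have hd0 : d ≠ 0 := fun h0 => tv_ne_one hF hn1 (s := eSU hF (eOK_transvection hF hvv htt)) hv hvv htt ht0 rfl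
      (γ.injective (by rw [map_one, ← hsd, show s = 1 from suVal_ext (by rw [hs, h0, eMat_zero hF]; rfl),
        map_one]))
    refine ⟨w, hw, hww, ?_⟩
    rintro _ ⟨_, ⟨r, c, hc, hr, rfl⟩, rfl⟩
    by_cases hc0 : c = 0
    · refine ⟨1, 0, by simp, by rw [eMat_zero hF]; rfl, ?_⟩
      rw [show r = 1 from suVal_ext (by rw [hr, hc0, eMat_zero hF]; rfl), map_one, map_one]
    obtain ⟨u, hu, huu, r', e, he, hr', hre⟩ := map_transU hF hn γ ⟨v, hv, hvv, r, c, hc, hr, rfl⟩
    have he0 : e ≠ 0 := fun h0 => tv_ne_one hF hn1 hv hvv hc hc0 hr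
      (γ.injective (by rw [map_one, ← hre, show r' = 1 from suVal_ext (by rw [hr', h0, eMat_zero hF]; rfl),
        map_one]))
    have hcomm : Commute (π r') (π s) := by
      rw [hre, hsd]
      exact ((comm_of_orth hF hvv hr rfl).map π).map γ.toMonoidHom
    have horth := orth_of_comm hF hn1 hu hw huu hww he hd he0 hd0 hr' hs hcomm
    have hprod : π r' * π s ∈ transU hF n := by
      rw [hre, hsd, ← map_mul]
      refine map_transU hF hn γ ⟨v, hv, hvv, r * eSU hF (eOK_transvection hF hvv htt), c + t0, ?_, ?_,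
        map_mul _ _ _⟩
      · rw [map_add]; linear_combination hc + htt
      · rw [suVal_mul, hr, suVal_eSU, eMat_mul hF (eOK_transvection hF hvv hc) (eOK_transvection hF hvv htt),
          add_zero, h_zero_left, sub_zero]
    obtain ⟨a, ha, rfl⟩ := par_of_prod hF hn1 hu hw huu hww horth he hd he0 hd0 hr' hs hprod
    refine ⟨r', a * cj a * e, ?_, by rw [hr', tv_smul hF], hre⟩
    rw [map_mul, map_mul, cj_cj]
    linear_combination (a * cj a) * he
  obtain ⟨w, hw, hww, hsub⟩ := sub β hv hvv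
  obtain ⟨v', hv', hvv', hsub'⟩ := sub β⁻¹ hw hww
  obtain ⟨r, c, hc, hr, hrc⟩ : π (eSU hF (eOK_transvection hF hvv htt)) ∈ rootU hF v' :=
    hsub' ⟨_, hsub ⟨_, mem_rootU hF hvv htt, rfl⟩, by simp⟩
  have h1 : eMat q v' 0 c = eMat q v 0 t0 := by
    have hr' : r = eSU hF (eOK_transvection hF hvv' hc) := suVal_ext hr
    exact eMat_eq_of_pi_eq hF hn1 _ _ (hr' ▸ hrc)
  obtain ⟨a, ha0, ha⟩ := exists_smul_of_tv_eq hF hv ht0 h1.symm
  refine ⟨w, hw, hww, hsub.antisymm fun y hy => ⟨(β⁻¹ : MulAut PS) y, ?_, by simp⟩⟩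
  rw [ha, rootU_smul hF _ ha0]
  exact hsub' ⟨y, hy, rfl⟩

theorem rootU_inj (hn : 1 ≤ n) {v w : V} (hv : v ≠ 0) (hvv : h v v = 0) (hww : h w w = 0)
    (e : rootU hF v = rootU hF w) : ∃ a : F, a ≠ 0 ∧ v = a • w := by
  obtain ⟨t0, ht0, htt⟩ := exists_trace_zero hF
  obtain ⟨r, c, hc, hr, hrc⟩ : π (eSU hF (eOK_transvection hF hvv htt)) ∈ rootU hF w :=
    e ▸ mem_rootU hF hvv htt
  have hr' : r = eSU hF (eOK_transvection hF hww hc) := suVal_ext hr
  exact exists_smul_of_tv_eq hF hv ht0 (eMat_eq_of_pi_eq hF hn _ _ (hr' ▸ hrc)).symm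

theorem orth_iff (hn : 3 ≤ n) {β : MulAut PS} {v w v' w' : V} (hv : v ≠ 0) (hw : w ≠ 0) (hv' : v' ≠ 0)
    (hw' : w' ≠ 0) (hvv : h v v = 0) (hww : h w w = 0) (hvv' : h v' v' = 0) (hww' : h w' w' = 0)
    (e : β '' rootU hF v = rootU hF v') (e' : β '' rootU hF w = rootU hF w') :
    h v w = 0 ↔ h v' w' = 0 := by
  have hn1 : 1 ≤ n := by omega
  obtain ⟨t0, ht0, htt⟩ := exists_trace_zero hF
  obtain ⟨r, c, hc, hr, hrc⟩ : β (π (eSU hF (eOK_transvection hF hvv htt))) ∈ rootU hF v' :=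
    e ▸ Set.mem_image_of_mem β (mem_rootU hF hvv htt)
  obtain ⟨s, d, hd, hs, hsd⟩ : β (π (eSU hF (eOK_transvection hF hww htt))) ∈ rootU hF w' :=
    e' ▸ Set.mem_image_of_mem β (mem_rootU hF hww htt)
  have hc0 : c ≠ 0 := fun h0 => tv_ne_one hF hn1 (s := eSU hF (eOK_transvection hF hvv htt)) hv hvv htt ht0 rfl
    (β.injective (by rw [map_one, ← hrc, show r = 1 from suVal_ext (by rw [hr, h0, eMat_zero hF]; rfl), map_one]))
  have hd0 : d ≠ 0 := fun h0 => tv_ne_one hF hn1 (s := eSU hF (eOK_transvection hF hww htt)) hw hww htt ht0 rfl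
    (β.injective (by rw [map_one, ← hsd, show s = 1 from suVal_ext (by rw [hs, h0, eMat_zero hF]; rfl), map_one]))
  constructor
  · intro h1
    refine orth_of_comm hF hn1 hv' hw' hvv' hww' hc hd hc0 hd0 hr hs ?_
    rw [hrc, hsd]
    exact ((comm_of_orth hF h1 rfl rfl).map π).map β.toMonoidHom
  · intro h1
    refine orth_of_comm hF hn1 (s := eSU hF (eOK_transvection hF hvv htt))
      (t := eSU hF (eOK_transvection hF hww htt)) hv hw hvv hww htt htt ht0 ht0 rfl rfl ?_
    have h2 := (comm_of_orth hF h1 hr hs).map π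
    rw [hrc, hsd] at h2
    simpa using h2.map β.symm.toMonoidHom

end

end Cfsg.Agent.Classical.PSUAut
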