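import Cfsg.Agent.Lib.Lie.UnitTwoGenCore
import Cfsg.Agent.Lib.Classical.UnipotentOrder
import Cfsg.Agent.Lib.Classical.UnitRootGroups

/-!
`SU_{3+k}(q)`, `q ≥ 3`, is generated by a regular unipotent of `SU_3` and a conjugator times a Heisenberg
element times a cyclic permutation of the remaining coordinates.
-/

set_option autoImplicit false
set_option linter.unusedSectionVars false

namespace Cfsg.Agent.Classical.UnitTwoGen

open Matrix Cfsg.Agent.Classical.PSUAut Cfsg.Agent.Fus.UnitN

variable {F : Type*} [Field F] [Fintype F] {q : ℕ}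

section Top

variable {n : ℕ} (hF : Fintype.card F = q ^ 2)

include hF

/-- A subgroup containing all transvections is the whole group. -/
theorem top_of_transvections {G : Subgroup (SU n F q)} (hn : 3 ≤ n) (hnq : ¬ (n = 3 ∧ q = 2))
    (hall : ∀ (v : Fin n → F) (c : F) (H : EOK (q := q) v 0 c), eSU hF H ∈ G) : G = ⊤ := by
  refine top_le_iff.1 (le_of_eq_of_le ?_ (Subgroup.normalCore_le G))
  refine (Cfsg.Agent.Lie.RepDegSU.eq_top_of_transvections hF (Subgroup.normalCore_normal G) ?_ hn hnq).symm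
  intro v c H g
  have H' : EOK (q := q) (suVal g *ᵥ v) 0 c := by
    have := H.map (q := q) (su_form g)
    rwa [Matrix.mulVec_zero] at this
  rw [show g * eSU hF H * g⁻¹ = eSU hF H' from ?_]
  · exact hall _ _ H'
  · rw [eSU_conj hF g H]
    exact eSU_congr hF _ _ (Matrix.mulVec_zero _) rfl

theorem eMat_smul_point (e w : Fin n → F) (a c : F) :
    eMat q (a • e) w c = eMat q e (qFrob hF a • w) (a * qFrob hF a * c) := by
  refine Matrix.ext_iff_mulVec.2 fun x => ?_
  simp only [eMat_mulVec, h_smul_right hF, cj_cj hF]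
  module

end Top

section Embed

variable {k : ℕ}

local notation "V" => (Fin (3 + k) → F)
local notation "h" => hermForm (3 + k) F q

/-- A block diagonal matrix. -/
def blk (A : Matrix (Fin 3) (Fin 3) F) (B : Matrix (Fin k) (Fin k) F) : Matrix (Fin (3 + k)) (Fin (3 + k)) F :=
  (Matrix.fromBlocks A 0 0 B).submatrix finSumFinEquiv.symm finSumFinEquiv.symm

theorem blk_mulVec (A : Matrix (Fin 3) (Fin 3) F) (B : Matrix (Fin k) (Fin k) F) (a : Fin 3 → F) (b : Fin k → F) :
    blk A B *ᵥ Fin.append a b = Fin.append (A *ᵥ a) (B *ᵥ b) := by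
  rw [blk, Matrix.submatrix_mulVec_equiv, Equiv.symm_symm]
  have h1 : Fin.append a b ∘ finSumFinEquiv = Sum.elim a b := by
    funext i; rcases i with i | i <;> simp
  rw [h1, Matrix.fromBlocks_mulVec]
  funext i
  refine Fin.addCases (fun i => ?_) (fun i => ?_) i <;> simp

theorem det_blk (A : Matrix (Fin 3) (Fin 3) F) (B : Matrix (Fin k) (Fin k) F) :
    (blk A B).det = A.det * B.det := by
  rw [blk, Matrix.det_submatrix_equiv_self, Matrix.det_fromBlocks_zero₂₁]

theorem append_split (x : V) : x = Fin.append (fun i => x (Fin.castAdd k i)) (fun i => x (Fin.natAdd 3 i)) :=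
  Fin.append_castAdd_natAdd.symm

theorem h_append (a a' : Fin 3 → F) (b b' : Fin k → F) :
    h (Fin.append a b) (Fin.append a' b') = hermForm 3 F q a a' + hermForm k F q b b' := by
  simp [hermForm, Fin.sum_univ_add]

theorem append_add (a a' : Fin 3 → F) (b b' : Fin k → F) :
    Fin.append (a + a') (b + b') = Fin.append a b + Fin.append a' b' := by
  funext i; refine Fin.addCases (fun i => ?_) (fun i => ?_) i <;> simp

theorem append_smul (c : F) (a : Fin 3 → F) (b : Fin k → F) :
    Fin.append (c • a) (c • b) = c • Fin.append a b := by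
  funext i; refine Fin.addCases (fun i => ?_) (fun i => ?_) i <;> simp

theorem append_zero : Fin.append (0 : Fin 3 → F) (0 : Fin k → F) = (0 : V) := by
  funext i; refine Fin.addCases (fun i => ?_) (fun i => ?_) i <;> simp

/-- A block element of `SU`. -/
def blkSU (A : Matrix (Fin 3) (Fin 3) F) (B : Matrix (Fin k) (Fin k) F) (hd : A.det * B.det = 1)
    (hA : ∀ x y, hermForm 3 F q (A *ᵥ x) (A *ᵥ y) = hermForm 3 F q x y)
    (hB : ∀ x y, hermForm k F q (B *ᵥ x) (B *ᵥ y) = hermForm k F q x y) : SU (3 + k) F q :=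
  ⟨⟨blk A B, (det_blk A B).trans hd⟩, fun x y => by
    show h (blk A B *ᵥ x) (blk A B *ᵥ y) = h x y
    rw [append_split x, append_split y, blk_mulVec, blk_mulVec, h_append, h_append, hA, hB]⟩

theorem blkSU_apply (A : Matrix (Fin 3) (Fin 3) F) (B : Matrix (Fin k) (Fin k) F) (hd : A.det * B.det = 1)
    (hA : ∀ x y, hermForm 3 F q (A *ᵥ x) (A *ᵥ y) = hermForm 3 F q x y)
    (hB : ∀ x y, hermForm k F q (B *ᵥ x) (B *ᵥ y) = hermForm k F q x y) (a : Fin 3 → F) (b : Fin k → F) :
    suVal (blkSU A B hd hA hB) *ᵥ Fin.append a b = Fin.append (A *ᵥ a) (B *ᵥ b) := blk_mulVec A B a b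

theorem su_det (s : SU 3 F q) : (suVal s).det = 1 := s.1.2

theorem su_ext_append {s t : SU (3 + k) F q}
    (H : ∀ a b, suVal s *ᵥ Fin.append a b = suVal t *ᵥ Fin.append a b) : s = t :=
  su_ext fun x => by rw [append_split x]; exact H _ _

/-- The embedding of `SU_3`. -/
def emb (k : ℕ) : SU 3 F q →* SU (3 + k) F q where
  toFun s := blkSU (suVal s) 1 (by rw [su_det, Matrix.det_one, one_mul]) (su_form s)
    (fun x y => by simp only [Matrix.one_mulVec])
  map_one' := su_ext_append fun a b => by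
    rw [blkSU_apply, suVal_one', suVal_one', Matrix.one_mulVec, Matrix.one_mulVec, Matrix.one_mulVec]
  map_mul' s t := su_ext_append fun a b => by
    rw [blkSU_apply, mulVec_mul, mulVec_mul, blkSU_apply, blkSU_apply, Matrix.one_mulVec, Matrix.one_mulVec]

theorem emb_apply (s : SU 3 F q) (a : Fin 3 → F) (b : Fin k → F) :
    suVal (emb k s) *ᵥ Fin.append a b = Fin.append (suVal s *ᵥ a) b := by
  rw [emb, MonoidHom.coe_mk, OneHom.coe_mk, blkSU_apply, Matrix.one_mulVec]

/-- A vector of the first block. -/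
def inX (a : Fin 3 → F) : V := Fin.append a 0

/-- A vector of the second block. -/
def inY (b : Fin k → F) : V := Fin.append 0 b

theorem append_eq (a : Fin 3 → F) (b : Fin k → F) : Fin.append a b = inX a + inY b := by
  rw [inX, inY, ← append_add, add_zero, zero_add]

variable (hF : Fintype.card F = q ^ 2)

local notation "cj" => qFrob hF

include hF

theorem h_X_X (a a' : Fin 3 → F) : h (inX (k := k) a) (inX a') = hermForm 3 F q a a' := by
  rw [inX, inX, h_append, h_zero_left, add_zero]

theorem h_X_Y (a : Fin 3 → F) (b : Fin k → F) : h (inX a) (inY b) = 0 := by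
  rw [inX, inY, h_append, h_zero_left, h_zero_right hF, add_zero]

theorem h_Y_X (a : Fin 3 → F) (b : Fin k → F) : h (inY b) (inX a) = 0 := by
  rw [inX, inY, h_append, h_zero_left, h_zero_right hF, add_zero]

/-- The Heisenberg group of `e` is embedded. -/
theorem emb_eSU {e w : Fin 3 → F} {c : F} (H : EOK (q := q) e w c) :
    ∃ H' : EOK (q := q) (inX (k := k) e) (inX w) c, emb k (eSU hF H) = eSU hF H' := by
  have H' : EOK (q := q) (inX (k := k) e) (inX w) c :=
    ⟨by rw [h_X_X hF]; exact H.ee, by rw [h_X_X hF]; exact H.we, by rw [h_X_X hF]; exact H.cc⟩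
  refine ⟨H', su_ext_append fun a b => ?_⟩
  rw [emb_apply, suVal_eSU, suVal_eSU, eMat_mulVec, eMat_mulVec, inX, inX, h_append, h_append,
    h_zero_right hF, add_zero, add_zero]
  funext i
  refine Fin.addCases (fun i => ?_) (fun i => ?_) i <;> simp

end Embed

section Gen

variable {k : ℕ} (hF : Fintype.card F = q ^ 2)

local notation "V" => (Fin (3 + k) → F)
local notation "h" => hermForm (3 + k) F q
local notation "cj" => qFrob hF
local notation "SUn" => SU (3 + k) F q

/-- Some Heisenberg element at `e` with linear part `w` lies in `G`. -/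
def InU (G : Subgroup (SU (3 + k) F q)) (e w : Fin (3 + k) → F) : Prop :=
  ∃ (c : F) (H : EOK (q := q) e w c), eSU hF H ∈ G

include hF

theorem InU.add {G : Subgroup (SU (3 + k) F q)} {e w w' : V} :
    InU hF G e w → InU hF G e w' → InU hF G e (w + w')
  | ⟨_, H, hG⟩, ⟨_, H', hG'⟩ => ⟨_, H.mul hF H', (eSU_mul hF H H') ▸ mul_mem hG hG'⟩

theorem InU.conj {G : Subgroup (SU (3 + k) F q)} {e w : V} {g : SU (3 + k) F q} (hg : g ∈ G) :
    InU hF G e w → InU hF G (suVal g *ᵥ e) (suVal g *ᵥ w)
  | ⟨c, H, hG⟩ => ⟨c, H.map (su_form g), by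
    rw [← eSU_conj hF g H]; exact mul_mem (mul_mem hg hG) (inv_mem hg)⟩

theorem InU.of_smul {G : Subgroup (SU (3 + k) F q)} {e w : V} {a : F} (ha : a ≠ 0) :
    InU hF G (a • e) w → InU hF G e (cj a • w)
  | ⟨c, H, hG⟩ => by
    have h1 : EOK (q := q) e (cj a • w) (a * cj a * c) := by
      refine ⟨?_, ?_, ?_⟩
      · have h0 := H.ee
        rw [h_smul_left, h_smul_right hF, ← mul_assoc, mul_eq_zero] at h0
        exact h0.resolve_left (mul_ne_zero ha ((map_ne_zero (qFrob hF)).2 ha))
      · have h0 := H.we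
        rw [h_smul_right hF, mul_eq_zero] at h0
        rw [h_smul_left, h0.resolve_left ((map_ne_zero (qFrob hF)).2 ha), mul_zero]
      · have h0 := H.cc
        rw [cj_pow hF] at h0 ⊢
        rw [h_smul_left, h_smul_right hF, map_mul, map_mul, cj_cj hF]
        linear_combination (a * cj a) * h0
    exact ⟨_, h1, by
      rw [show eSU hF h1 = eSU hF H from suVal_ext (by rw [suVal_eSU, suVal_eSU, eMat_smul_point hF])]
      exact hG⟩

/-- Generation from the embedded group and one more element. -/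
theorem eq_top_core (hq : 3 ≤ q) (hk : 0 < k) {G : Subgroup (SU (3 + k) F q)} (hX : ∀ s, emb k s ∈ G)
    {e : Fin 3 → F} (he0 : e ≠ 0) (hee : hermForm 3 F q e e = 0) {τ : SU (3 + k) F q} {ω : F} (hω : cj ω * ω = 1)
    (hτX : ∀ a, suVal τ *ᵥ inX a = ω • inX a)
    (hτY : ∀ i : Fin k, suVal τ *ᵥ inY (Pi.single i 1) = inY (Pi.single ((finRotate k).symm i) 1))
    {c : F} (H : EOK (q := q) (inX e) (inY (Pi.single ⟨0, hk⟩ 1)) c) (hc : eSU hF H * τ ∈ G) : G = ⊤ := by
  classical
  have hω0 : ω ≠ 0 := fun h0 => one_ne_zero (α := F) (by rw [← hω, h0, mul_zero])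
  set y₀ : V := inY (Pi.single ⟨0, hk⟩ 1) with hy₀
  -- scaled copies of the new direction
  have hsc : ∀ α : F, α ≠ 0 → InU hF G (inX e) ((cj α - 1) • y₀) := by
    intro α hα
    obtain ⟨s, hs⟩ := su_transitive hF le_rfl he0 hee (smul_ne_zero hα he0)
      (by rw [h_smul_left, h_smul_right hF, hee, mul_zero, mul_zero])
    have hcomm : emb k s * τ = τ * emb k s := su_ext_append fun a b => by
      have hτ : ∀ a b, suVal τ *ᵥ Fin.append a b = Fin.append (ω • a) (fun j => (suVal τ *ᵥ inY b) (Fin.natAdd 3 j)) := by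
        intro a b
        have hsum : inY b = ∑ i, b i • inY (Pi.single i (1 : F)) := by
          funext j
          refine Fin.addCases (fun j => ?_) (fun j => ?_) j <;>
            simp [inY, Finset.sum_apply, Pi.single_apply]
        rw [append_eq a b, Matrix.mulVec_add, hτX]
        funext j
        refine Fin.addCases (fun j => ?_) (fun j => ?_) j
        · rw [hsum, Matrix.mulVec_sum, Pi.add_apply, Finset.sum_apply,
            Finset.sum_eq_zero fun i _ => by rw [Matrix.mulVec_smul, hτY]; simp [inY]]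
          simp [inX]
        · simp [inX]
      rw [mulVec_mul, mulVec_mul, emb_apply, hτ, hτ, emb_apply, Matrix.mulVec_smul]
    have h1 : emb k s * (eSU hF H * τ) * (emb k s)⁻¹ * (eSU hF H * τ)⁻¹ ∈ G :=
      mul_mem (mul_mem (mul_mem (hX s) hc) (inv_mem (hX s))) (inv_mem hc)
    rw [show emb k s * (eSU hF H * τ) * (emb k s)⁻¹ * (eSU hF H * τ)⁻¹ =
      (emb k s * eSU hF H * (emb k s)⁻¹) * (emb k s * τ) * (emb k s)⁻¹ * τ⁻¹ * (eSU hF H)⁻¹ by group,
      hcomm, show ∀ A B C : SUn, A * (τ * B) * B⁻¹ * τ⁻¹ * C = A * C from fun A B C => by group,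
      eSU_conj hF (emb k s) H] at h1
    have e1 : suVal (emb k s) *ᵥ inX e = α • inX e := by rw [inX, emb_apply, hs, ← append_smul, smul_zero]
    have e2 : suVal (emb k s) *ᵥ y₀ = y₀ := by rw [hy₀, inY, emb_apply, Matrix.mulVec_zero]
    have H2 : EOK (q := q) (inX e) (cj α • y₀) (α * cj α * c) := by
      refine ⟨H.ee, by rw [h_smul_left, H.we, mul_zero], ?_⟩
      have h0 := H.cc
      rw [cj_pow hF] at h0 ⊢
      rw [h_smul_left, h_smul_right hF, map_mul, map_mul, cj_cj hF]
      linear_combination (α * cj α) * h0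
    rw [show eSU hF (H.map (su_form (emb k s))) = eSU hF H2 from suVal_ext (by
      rw [suVal_eSU, suVal_eSU, e1, e2, eMat_smul_point hF])] at h1
    have H3 : EOK (q := q) (inX e) (-y₀) (cj c) := by
      refine ⟨H.ee, by rw [h_neg_left, H.we, neg_zero], ?_⟩
      have h0 := H.cc
      rw [cj_pow hF] at h0 ⊢
      rw [h_neg_left, h_neg_right hF, cj_cj hF]
      linear_combination h0
    have hinv : (eSU hF H)⁻¹ = eSU hF H3 := inv_eq_of_mul_eq_one_right (by
      rw [eSU_mul hF H H3, ← eSU_zero hF H.ee]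
      refine eSU_congr hF _ _ (add_neg_cancel _) ?_
      have h0 := H.cc
      rw [cj_pow hF] at h0
      rw [h_neg_left]
      linear_combination h0)
    rw [hinv, eSU_mul hF] at h1
    rw [show (cj α - 1) • y₀ = cj α • y₀ + -y₀ by module]
    exact ⟨_, _, h1⟩
  have hline : ∀ β : F, InU hF G (inX e) (β • y₀) := by
    have hne : ∀ β : F, β ≠ -1 → InU hF G (inX e) (β • y₀) := fun β hβ => by
      have h1 := hsc (cj (β + 1)) ((map_ne_zero (qFrob hF)).2 fun h0 => hβ (eq_neg_of_add_eq_zero_left h0))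
      rwa [cj_cj hF, add_sub_cancel_right] at h1
    intro β
    by_cases hβ : β ≠ -1
    · exact hne β hβ
    push Not at hβ
    subst hβ
    obtain ⟨x, hx⟩ : ∃ x, x ∉ ({0, -1} : Finset F) := by
      by_contra hcon
      push Not at hcon
      have h1 := Finset.card_le_card (s := Finset.univ) (t := ({0, -1} : Finset F)) fun x _ => hcon x
      rw [Finset.card_univ, hF] at h1
      have := Finset.card_le_two (a := (0 : F)) (b := -1)
      nlinarith
    simp only [Finset.mem_insert, Finset.mem_singleton, not_or] at hx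
    have h1 := (hne x hx.2).add hF (hne (-1 - x) fun h0 => hx.1 (by linear_combination -h0))
    rwa [← add_smul, add_sub_cancel] at h1
  -- the centre
  have hcent : ∀ (c : F) (H0 : EOK (q := q) (inX e) 0 c), eSU hF H0 ∈ G := by
    intro c H0
    have H3 : EOK (q := q) e 0 c := by
      refine ⟨hee, h_zero_left e, ?_⟩
      have := H0.cc
      rwa [h_zero_left] at this ⊢
    obtain ⟨H', h'⟩ := emb_eSU (k := k) hF H3
    rw [show eSU hF H0 = eSU hF H' from eSU_congr hF _ _ append_zero.symm rfl, ← h']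
    exact hX _
  have hfix : ∀ {w : V} {c : F} (H1 : EOK (q := q) (inX e) w c), InU hF G (inX e) w → eSU hF H1 ∈ G := by
    rintro w c H1 ⟨c', H', hG⟩
    have Hd : EOK (q := q) (inX e) 0 (c - c') := eOK_transvection hF H1.ee (by
      have h1 := H1.cc
      have h2 := H'.cc
      rw [cj_pow hF] at h1 h2
      rw [map_sub]; linear_combination h1 - h2)
    have e1 : eSU hF H1 = eSU hF Hd * eSU hF H' := by
      rw [eSU_mul hF Hd H']
      exact eSU_congr hF _ _ (zero_add _).symm (by rw [h_zero_right hF]; ring)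
    rw [e1]
    exact mul_mem (hcent _ Hd) hG
  have hτG : τ ∈ G := by
    have h1 := hline 1
    rw [one_smul] at h1
    have h2 := mul_mem (inv_mem (hfix H h1)) hc
    rwa [inv_mul_cancel_left] at h2
  have hY : ∀ (i : Fin k) (β : F), InU hF G (inX e) (β • inY (Pi.single i 1)) := by
    have step : ∀ i : Fin k, (∀ β : F, InU hF G (inX e) (β • inY (Pi.single i 1))) →
        ∀ β : F, InU hF G (inX e) (β • inY (Pi.single ((finRotate k).symm i) 1)) := by
      intro i hi β
      have h1 := (hi (ω * β)).conj hF hτG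
      rw [hτX, Matrix.mulVec_smul, hτY] at h1
      have h2 := h1.of_smul hF hω0
      rwa [smul_smul, ← mul_assoc, hω, one_mul] at h2
    have pows : ∀ m : ℕ, ∀ β : F,
        InU hF G (inX e) (β • inY (Pi.single (((finRotate k).symm ^ m : Equiv.Perm (Fin k)) ⟨0, hk⟩) 1)) := by
      intro m
      induction m with
      | zero => simpa using hline
      | succ m ih => rw [pow_succ']; exact step _ ih
    intro i β
    obtain ⟨k', rfl⟩ := Nat.exists_eq_succ_of_ne_zero hk.ne'
    obtain _ | k'' := k'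
    · rw [show i = ⟨0, hk⟩ from Subsingleton.elim (α := Fin 1) _ _]; exact hline β
    · have hcyc : ((finRotate (k'' + 2))⁻¹ : Equiv.Perm (Fin (k'' + 2))).IsCycle := isCycle_finRotate.inv
      have hsupp : ∀ j : Fin (k'' + 2), (finRotate (k'' + 2))⁻¹ j ≠ j := fun j hj => by
        rw [Equiv.Perm.inv_eq_iff_eq, finRotate_succ_apply] at hj
        exact one_ne_zero (α := Fin (k'' + 2)) (add_left_cancel (a := j) (by rw [add_zero]; exact hj.symm))
      obtain ⟨m, -, hm⟩ := (hcyc.sameCycle (hsupp ⟨0, hk⟩) (hsupp i)).exists_pow_eq'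
      rw [← hm]; exact pows m β
  -- the whole Heisenberg group
  have hH : ∀ {w : V} {c : F} (H1 : EOK (q := q) (inX e) w c), eSU hF H1 ∈ G := by
    intro w c H1
    refine hfix H1 ?_
    obtain ⟨a, b, rfl⟩ : ∃ (a : Fin 3 → F) (b : Fin k → F), w = Fin.append a b := ⟨_, _, append_split w⟩
    have ha : hermForm 3 F q a e = 0 := by
      have := H1.we
      rwa [inX, h_append, h_zero_right hF, add_zero] at this
    obtain ⟨c₁, hc₁⟩ := EOK.exists_c hF hee ha
    obtain ⟨H', h'⟩ := emb_eSU (k := k) hF hc₁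
    have hzero : InU hF G (inX e) 0 := ⟨0, EOK.zero hF H1.ee, (eSU_zero hF H1.ee).symm ▸ one_mem _⟩
    rw [append_eq]
    refine InU.add hF ⟨c₁, H', h' ▸ hX _⟩ ?_
    have key : ∀ S : Finset (Fin k), InU hF G (inX e) (∑ i ∈ S, b i • inY (Pi.single i (1 : F))) := by
      intro S
      induction S using Finset.induction_on with
      | empty => simpa using hzero
      | insert i S hi ih => rw [Finset.sum_insert hi]; exact (hY i (b i)).add hF ih
    have hsum : inY b = ∑ i, b i • inY (Pi.single i (1 : F)) := by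
      funext j
      refine Fin.addCases (fun j => ?_) (fun j => ?_) j <;> simp [inY, Finset.sum_apply, Pi.single_apply]
    rw [hsum]; exact key _
  -- all transvections
  let P : Set V := {x | ∀ (c : F) (H0 : EOK (q := q) x 0 c), eSU hF H0 ∈ G}
  have hPmap : ∀ g ∈ G, ∀ x, x ∈ P → suVal g *ᵥ x ∈ P := by
    intro g hg x hx c H0
    have H1 : EOK (q := q) x 0 c :=
      ⟨by rw [← su_form g]; exact H0.ee, h_zero_left x, by have := H0.cc; rwa [h_zero_left] at this ⊢⟩
    rw [show eSU hF H0 = g * eSU hF H1 * g⁻¹ by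
      rw [eSU_conj hF g H1]; exact eSU_congr hF _ _ (Matrix.mulVec_zero _).symm rfl]
    exact mul_mem (mul_mem hg (hx c H1)) (inv_mem hg)
  have hPsmul : ∀ (a : F) x, x ∈ P → a • x ∈ P := by
    intro a x hx c H0
    rcases eq_or_ne a 0 with rfl | ha
    · have : eSU hF H0 = 1 := suVal_ext (Matrix.ext_iff_mulVec.2 fun y => by
        rw [suVal_eSU, eMat_mulVec, suVal_one', Matrix.one_mulVec]; simp [h_zero_right hF])
      rw [this]; exact one_mem _
    have H1 : EOK (q := q) x 0 (a * cj a * c) := by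
      refine eOK_transvection hF ?_ ?_
      · have h0 := H0.ee
        rw [h_smul_left, h_smul_right hF, ← mul_assoc, mul_eq_zero] at h0
        exact h0.resolve_left (mul_ne_zero ha ((map_ne_zero (qFrob hF)).2 ha))
      · have h0 := H0.cc
        rw [h_zero_left, cj_pow hF] at h0
        rw [map_mul, map_mul, cj_cj hF]
        linear_combination (a * cj a) * h0
    rw [show eSU hF H0 = eSU hF H1 from suVal_ext (by
      rw [suVal_eSU, suVal_eSU, eMat_smul_point hF, smul_zero])]
    exact hx _ H1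
  have heP : inX e ∈ P := fun c H0 => hH H0
  obtain ⟨f, hf⟩ := exists_pair hF (n := 3) he0 hee
  have hXP : ∀ a, a ≠ 0 → hermForm 3 F q a a = 0 → inX a ∈ P := by
    intro a ha haa
    obtain ⟨s, hs⟩ := su_transitive hF le_rfl he0 hee ha haa
    have := hPmap _ (hX s) _ heP
    rwa [inX, emb_apply, hs] at this
  have hfP : inX f ∈ P := hXP f (hf.swap hF).ne_zero hf.ff
  have near : ∀ x, h x x = 0 → h x (inX e) ≠ 0 → x ∈ P := by
    intro x hxx hxe
    set t := h x (inX e)
    set x' := t⁻¹ • x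
    have h1 : h x' (inX e) = 1 := by rw [h_smul_left, inv_mul_cancel₀ hxe]
    have h1' : h (inX e) x' = 1 := by rw [← cj_h hF, h1, map_one]
    have h2 : h x' x' = 0 := by rw [h_smul_left, h_smul_right hF, hxx, mul_zero, mul_zero]
    have he : h (inX e) (inX (k := k) e) = 0 := by rw [h_X_X hF]; exact hee
    have hef : h (inX e) (inX (k := k) f) = 1 := by rw [h_X_X hF]; exact hf.ef
    have hfe : h (inX f) (inX (k := k) e) = 1 := by rw [← cj_h hF, hef, map_one]
    have hff : h (inX f) (inX (k := k) f) = 0 := by rw [h_X_X hF]; exact hf.ff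
    set γ := h x' (inX f)
    set w := x' - inX f - γ • inX e
    have hγ : h (inX f) x' = cj γ := (cj_h hF _ _).symm
    have H1 : EOK (q := q) (inX e) w γ := by
      refine ⟨he, ?_, ?_⟩
      · rw [h_sub_left, h_sub_left, h1, hfe, h_smul_left, he]; ring
      · rw [cj_pow hF]
        simp only [w, h_sub_left, h_sub_right hF, h_smul_left, h_smul_right hF, h1, h1', h2, he, hef, hfe, hff, hγ]
        ring
    have h3 : suVal (eSU hF H1) *ᵥ inX f = x' := by
      rw [suVal_eSU, eMat_mulVec, hfe]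
      simp only [w, h_sub_right hF, h_smul_right hF, hfe, hff, hγ]
      module
    have h4 := hPsmul t _ (hPmap _ (hH H1) _ hfP)
    rwa [h3, smul_smul, mul_inv_cancel₀ hxe, one_smul] at h4
  have nearX : ∀ x, h x x = 0 → ∀ a, hermForm 3 F q a a = 0 → h x (inX a) ≠ 0 → x ∈ P := by
    intro x hxx a haa hxa
    have ha : a ≠ 0 := fun h0 => hxa (by rw [h0, inX, append_zero, h_zero_right hF])
    obtain ⟨s, hs⟩ := su_transitive hF le_rfl he0 hee ha haa
    have hv : suVal (emb k s) *ᵥ inX e = inX a := by rw [inX, emb_apply, hs]; rfl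
    have h1 : h (suVal (emb k s)⁻¹ *ᵥ x) (inX e) ≠ 0 := by
      rw [← su_form (emb k s), (inv_apply _ x).2, hv]; exact hxa
    have := hPmap _ (hX s) _ (near _ (by rw [su_form]; exact hxx) h1)
    rwa [(inv_apply _ x).2] at this
  refine top_of_transvections hF (by omega) (by omega) fun v c' H0 => ?_
  suffices hv : v ∈ P from hv c' H0
  by_cases h1 : h v (inX e) ≠ 0
  · exact near v H0.ee h1
  by_cases h2 : h v (inX f) ≠ 0
  · exact nearX v H0.ee f hf.ff h2
  push Not at h1 h2
  rcases eq_or_ne v 0 with rfl | hv0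
  · simpa using hPsmul 0 _ heP
  obtain ⟨z, hz⟩ := exists_h_eq hF hv0 (1 : F)
  set w := wPart (q := q) (inX e) (inX f) z with hw
  have P' : IsPair (q := q) (inX (k := k) e) (inX f) :=
    ⟨by rw [h_X_X hF]; exact hee, by rw [h_X_X hF]; exact hf.ff, by rw [h_X_X hF]; exact hf.ef⟩
  obtain ⟨hwe, hwf⟩ := wPart_orth hF P' z
  have hvw : h v w = 1 := by
    rw [hw, wPart, h_sub_right hF, h_add_right hF, h_smul_right hF, h_smul_right hF, hz, h1, h2]
    ring
  obtain ⟨c₁, H1⟩ := EOK.exists_c hF P'.ee hwe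
  set x := suVal (eSU hF H1) *ᵥ v with hx
  have hxe : h x (inX f) ≠ 0 := by
    rw [hx, suVal_eSU, eMat_mulVec, h1, hvw]
    simp [h_add_left, h_sub_left, h_smul_left, h_neg_left, h2, P'.ef]
  have hxP := nearX x (by rw [hx, su_form]; exact H0.ee) f hf.ff hxe
  have := hPmap _ (inv_mem (hH H1)) _ hxP
  rwa [hx, (inv_apply _ v).1] at this

/-- Two generators for `n ≥ 4`, `q ≥ 3`. -/
theorem two_generated_embed (hq : 3 ≤ q) (hk : 0 < k) (h3 : Cfsg.Agent.Lie.SUGen.TwoGen (F := F) q) :
    ∃ a b : SU (3 + k) F q, Subgroup.closure ({a, b} : Set (SU (3 + k) F q)) = ⊤ := by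
  classical
  obtain ⟨u, g, ⟨⟨N, hN⟩, hu2⟩, hug⟩ := h3
  set M := suVal u - 1
  have hN3 : M ^ 3 = 0 := Cfsg.Agent.Lie.nilpotent_matrix_pow_card ⟨N, hN⟩
  obtain ⟨x, hx⟩ : ∃ x, (M ^ 2) *ᵥ x ≠ 0 := by
    by_contra hcon
    push Not at hcon
    exact hu2 (Matrix.ext_iff_mulVec.2 fun x => by rw [Matrix.zero_mulVec]; exact hcon x)
  set e := (M ^ 2) *ᵥ x
  have hMe : M *ᵥ e = 0 := by
    rw [Matrix.mulVec_mulVec, ← pow_succ', hN3, Matrix.zero_mulVec]
  have hue : suVal u *ᵥ e = e := by
    rw [Matrix.sub_mulVec, Matrix.one_mulVec, sub_eq_zero] at hMe; exact hMe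
  have hee : hermForm 3 F q e e = 0 := by
    have h1 : ∀ z, hermForm 3 F q e (M *ᵥ z) = 0 := fun z => by
      rw [Matrix.sub_mulVec, Matrix.one_mulVec, h_sub_right hF]
      conv_lhs => arg 1; rw [← hue, su_form]
      exact sub_self _
    have := h1 (M *ᵥ x)
    rwa [Matrix.mulVec_mulVec, ← pow_two] at this
  set σ := finRotate k
  set ω : F := ((Equiv.Perm.sign σ : ℤ) : F) with hω
  have hω2 : ω * ω = 1 := by
    rw [hω, ← Int.cast_mul, ← Units.val_mul, Int.units_mul_self]; simp
  have hcω : cj ω = ω := by rw [hω, map_intCast]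
  let τ : SU (3 + k) F q := blkSU (ω • (1 : Matrix (Fin 3) (Fin 3) F)) (σ.permMatrix F)
    (by rw [Matrix.det_smul, Matrix.det_one, Matrix.det_permutation, ← hω, Fintype.card_fin]
        linear_combination (ω * ω + 1) * hω2)
    (fun a b => by
      rw [Matrix.smul_mulVec, Matrix.smul_mulVec, Matrix.one_mulVec, Matrix.one_mulVec, h_smul_left,
        h_smul_right hF, hcω, ← mul_assoc, hω2, one_mul])
    (fun a b => by
      rw [Matrix.permMatrix_mulVec, Matrix.permMatrix_mulVec]
      exact Equiv.sum_comp σ fun i => a i * b i ^ q)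
  set y₀ : Fin k → F := Pi.single ⟨0, hk⟩ 1
  obtain ⟨c, H⟩ := EOK.exists_c hF (e := inX (k := k) e) (w := inY y₀)
    (by rw [h_X_X hF]; exact hee) (h_Y_X hF _ _)
  refine ⟨emb k u, emb k g * (eSU hF H * τ), ?_⟩
  set G := Subgroup.closure ({emb k u, emb k g * (eSU hF H * τ)} : Set (SU (3 + k) F q))
  have hcomm : Commute (eSU hF H * τ) (emb k u) := by
    refine Commute.mul_left ?_ ?_
    · have h1 := eSU_conj hF (emb k u) H
      have h2 : eSU hF (H.map (su_form (emb k u))) = eSU hF H := suVal_ext (by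
        rw [suVal_eSU, suVal_eSU, inX, inY, emb_apply, emb_apply, hue, Matrix.mulVec_zero])
      rw [h2, mul_inv_eq_iff_eq_mul] at h1
      exact h1.symm
    · refine su_ext_append fun a b => ?_
      rw [mulVec_mul, mulVec_mul, emb_apply, blkSU_apply, blkSU_apply, emb_apply, Matrix.smul_mulVec,
        Matrix.one_mulVec, Matrix.smul_mulVec, Matrix.one_mulVec, Matrix.mulVec_smul]
  have hu : emb k u ∈ G := Subgroup.subset_closure (Or.inl rfl)
  have hb : emb k g * (eSU hF H * τ) ∈ G := Subgroup.subset_closure (Or.inr rfl)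
  have hgug : emb k (g * u * g⁻¹) ∈ G := by
    have h1 := mul_mem (mul_mem hb hu) (inv_mem hb)
    rwa [show emb k g * (eSU hF H * τ) * emb k u * (emb k g * (eSU hF H * τ))⁻¹ =
      emb k g * ((eSU hF H * τ) * emb k u * (eSU hF H * τ)⁻¹) * (emb k g)⁻¹ by group,
      hcomm.eq, mul_inv_cancel_right, ← map_inv, ← map_mul, ← map_mul] at h1
  have hX : ∀ s, emb k s ∈ G := fun s => by
    have htop : ⊤ ≤ Subgroup.comap (emb k) G := by
      rw [← hug, Subgroup.closure_le]
      rintro _ (rfl | rfl)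
      · exact hu
      · exact hgug
    exact htop (Subgroup.mem_top s)
  have hcG : eSU hF H * τ ∈ G := by
    have h1 := mul_mem (inv_mem (hX g)) hb
    rwa [inv_mul_cancel_left] at h1
  refine eq_top_core hF hq hk hX (fun h0 => hx h0) hee (τ := τ) (ω := ω) (by rw [hcω, hω2]) (fun a => ?_)
    (fun i => ?_) H hcG
  · rw [inX, blkSU_apply, Matrix.smul_mulVec, Matrix.one_mulVec, Matrix.mulVec_zero, ← append_smul, smul_zero]
  · rw [inY, blkSU_apply, Matrix.smul_mulVec, Matrix.one_mulVec, smul_zero, Matrix.permMatrix_mulVec]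
    congr 1
    funext j
    simp only [Function.comp_apply, Pi.single_apply, σ]
    refine if_congr ⟨fun hj => ?_, fun hj => ?_⟩ rfl rfl
    · rw [← hj, Equiv.symm_apply_apply]
    · rw [hj, Equiv.apply_symm_apply]

end Gen

end Cfsg.Agent.Classical.UnitTwoGen
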