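import Cfsg.Agent.Lib.Classical.OddCoreForms

/-!
Semilinear maps centralising the sign changes, rotations and reflections of a diagonal form up to scalars.
-/

set_option autoImplicit false
set_option linter.unusedSectionVars false

namespace Cfsg.Agent.Classical.Commutant

open Matrix

variable {F : Type*} [Field F] {ι : Type*} [Fintype ι] [DecidableEq ι]

/-- Commutation up to a scalar and a twist. -/
def Comm (τ : F ≃+* F) (g : GL ι F) (A : Matrix ι ι F) : Prop :=
  ∃ c : F, (g : Matrix ι ι F) * A.map τ = c • (A * (g : Matrix ι ι F))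

/-- Sign change in two coordinates. -/
def sgn (i j : ι) : Matrix ι ι F := diagonal fun k => if k = i ∨ k = j then -1 else 1

/-- A matrix supported on a coordinate plane. -/
def pl (i j : ι) (a b c e : F) : Matrix ι ι F := Matrix.of fun x y =>
  if x = i then (if y = i then a else if y = j then b else 0)
  else if x = j then (if y = i then c else if y = j then e else 0)
  else if x = y then 1 else 0

theorem pl_ii (i j : ι) (a b c e : F) : pl i j a b c e i i = a := by simp [pl]

theorem pl_ij {i j : ι} (h : i ≠ j) (a b c e : F) : pl i j a b c e i j = b := by simp [pl, Ne.symm h]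

theorem pl_other {i j k : ι} (hi : k ≠ i) (hj : k ≠ j) (a b c e : F) : pl i j a b c e k k = 1 := by
  simp [pl, hi, hj]

theorem pl_mulVec {i j : ι} (h : i ≠ j) (a b c e : F) (x : ι → F) :
    pl i j a b c e *ᵥ x = fun k => if k = i then a * x i + b * x j
      else if k = j then c * x i + e * x j else x k := by
  funext k
  simp only [Matrix.mulVec, dotProduct, pl, Matrix.of_apply]
  by_cases hi : k = i
  · subst hi
    rw [if_pos rfl, Finset.sum_eq_add_of_mem k j (Finset.mem_univ _) (Finset.mem_univ _) h]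
    · simp [Ne.symm h]
    · intro y _ hy; simp [hy.1, hy.2]
  · by_cases hj : k = j
    · subst hj
      rw [if_neg hi, if_pos rfl, Finset.sum_eq_add_of_mem i k (Finset.mem_univ _) (Finset.mem_univ _) h]
      · simp [hi]
      · intro y _ hy; simp [hy.1, hy.2, hi]
    · rw [if_neg hi, if_neg hj, Finset.sum_eq_single k]
      · simp [hi, hj]
      · intro y _ hy; simp [hi, hj, Ne.symm hy]
      · simp

theorem pl_transpose {i j : ι} (h : i ≠ j) (a b c e : F) : (pl i j a b c e)ᵀ = pl i j a c b e := by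
  ext x y
  simp only [Matrix.transpose_apply, pl, Matrix.of_apply]
  by_cases hxi : x = i <;> by_cases hxj : x = j <;> by_cases hyi : y = i <;> by_cases hyj : y = j <;>
    simp_all [eq_comm]

theorem pl_map (i j : ι) (a b c e : F) {K : Type*} [Field K] (f : F →+* K) :
    (pl i j a b c e).map f = pl i j (f a) (f b) (f c) (f e) := by
  ext x y
  simp only [Matrix.map_apply, pl, Matrix.of_apply]
  split_ifs <;> simp

theorem pl_det {i j : ι} (h : i ≠ j) (a b c e : F) : (pl i j a b c e).det = a * e - b * c := by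
  let s : ι ≃ (Fin 2) ⊕ {k : ι // k ≠ i ∧ k ≠ j} :=
    { toFun := fun k => if hi : k = i then Sum.inl 0 else if hj : k = j then Sum.inl 1 else Sum.inr ⟨k, hi, hj⟩
      invFun := Sum.elim ![i, j] Subtype.val
      left_inv := fun k => by
        by_cases hi : k = i
        · simp [hi]
        · by_cases hj : k = j
          · simp [hj, Ne.symm h]
          · simp [hi, hj]
      right_inv := fun x => by
        rcases x with x | ⟨k, hi, hj⟩
        · fin_cases x <;> simp [Ne.symm h]
        · simp [hi, hj] }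
  have e1 : pl i j a b c e = (Matrix.fromBlocks !![a, b; c, e] 0 0
      (1 : Matrix {k : ι // k ≠ i ∧ k ≠ j} {k : ι // k ≠ i ∧ k ≠ j} F)).submatrix s s := by
    ext x y
    simp only [Matrix.submatrix_apply, pl, Matrix.of_apply, s, Equiv.coe_fn_mk]
    by_cases hxi : x = i <;> by_cases hxj : x = j <;> by_cases hyi : y = i <;> by_cases hyj : y = j <;>
      simp_all [Matrix.one_apply, Subtype.ext_iff]
  rw [e1, Matrix.det_submatrix_equiv_self, Matrix.det_fromBlocks_zero₂₁, Matrix.det_one, mul_one,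
    Matrix.det_fin_two_of]

theorem sgn_mul {i j k : ι} (hij : i ≠ j) (hjk : j ≠ k) (hik : i ≠ k) :
    sgn i j * sgn j k = (sgn i k : Matrix ι ι F) := by
  rw [sgn, sgn, sgn, Matrix.diagonal_mul_diagonal]
  congr 1
  funext x
  by_cases hi : x = i <;> by_cases hj : x = j <;> by_cases hk : x = k <;> simp_all

theorem sgn_sq (i j : ι) : sgn i j * sgn i j = (1 : Matrix ι ι F) := by
  rw [sgn, Matrix.diagonal_mul_diagonal, ← Matrix.diagonal_one]
  congr 1
  funext x
  split_ifs <;> simp

theorem sgn_det {i j : ι} (h : i ≠ j) : (sgn i j : Matrix ι ι F).det = 1 := by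
  rw [sgn, Matrix.det_diagonal, Finset.prod_eq_mul i j h]
  · simp
  · intro x _ hx; simp [hx.1, hx.2]
  · simp
  · simp

theorem sgn_pl {i j k : ι} (hij : i ≠ j) (hik : i ≠ k) (hjk : j ≠ k) :
    pl i j (0 : F) 1 (-1) 0 * sgn i k = sgn j k * pl i j 0 1 (-1) 0 := by
  ext x y
  rw [sgn, sgn, Matrix.mul_diagonal, Matrix.diagonal_mul]
  simp only [pl, Matrix.of_apply]
  by_cases hxi : x = i <;> by_cases hxj : x = j <;> by_cases hyi : y = i <;> by_cases hyj : y = j <;>
    by_cases hxk : x = k <;> by_cases hyk : y = k <;> simp_all [eq_comm]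

theorem sgn_map (i j : ι) {K : Type*} [Field K] (f : F →+* K) : (sgn i j).map f = (sgn i j : Matrix ι ι K) := by
  rw [sgn, sgn, Matrix.diagonal_map (map_zero f)]
  congr 1
  funext x
  show f (if x = i ∨ x = j then -1 else 1) = _
  split_ifs <;> simp

variable {τ : F ≃+* F} {g : GL ι F}

theorem comm_smul_eq {A : Matrix ι ι F} (hA : IsUnit A.det) (hn : Nonempty ι) {c c' : F}
    (h : c • (A * (g : Matrix ι ι F)) = c' • (A * (g : Matrix ι ι F))) : c = c' := by
  by_contra hne
  have h0 : A * (g : Matrix ι ι F) = 0 :=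
    (smul_eq_zero.1 (show (c - c') • (A * (g : Matrix ι ι F)) = 0 by rw [sub_smul, h, sub_self])).resolve_left
      (sub_ne_zero.2 hne)
  have := congrArg Matrix.det h0
  rw [Matrix.det_mul, Matrix.det_zero] at this
  exact (mul_ne_zero hA.ne_zero g.det_ne_zero) this

/-- The centraliser is diagonal, constant away from one coordinate. -/
theorem diag_of_signs (hn : 3 ≤ Fintype.card ι) (h2 : (2 : F) ≠ 0) (k₀ : ι)
    (hE : ∀ i j, i ≠ j → Comm τ g (sgn i j))
    (hP : ∀ i j, i ≠ j → i ≠ k₀ → j ≠ k₀ → Comm τ g (pl i j 0 1 (-1) 0)) :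
    (∀ a b, a ≠ b → (g : Matrix ι ι F) a b = 0) ∧ (∀ a, (g : Matrix ι ι F) a a ≠ 0) ∧
      ∀ i j, i ≠ k₀ → j ≠ k₀ → (g : Matrix ι ι F) i i = (g : Matrix ι ι F) j j := by
  classical
  haveI hne : Nonempty ι := Fintype.card_pos_iff.1 (by omega)
  have hthird : ∀ i j : ι, ∃ k, k ≠ i ∧ k ≠ j := fun i j => by
    by_contra hcon
    push Not at hcon
    have : (Finset.univ : Finset ι) ⊆ {i, j} := fun k _ => by
      by_cases hki : k = i
      · simp [hki]
      · simp [hcon k hki]
    have := (Finset.card_le_card this).trans Finset.card_le_two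
    rw [Finset.card_univ] at this
    omega
  have hneg : (-1 : F) ≠ 1 := fun e => h2 (by linear_combination -e)
  choose c hc using hE
  have hcsgn : ∀ i j (h : i ≠ j), (g : Matrix ι ι F) * sgn i j = c i j h • (sgn i j * (g : Matrix ι ι F)) := by
    intro i j h
    have := hc i j h
    rw [show (τ : F → F) = (τ.toRingHom : F →+* F) from rfl, sgn_map] at this
    exact this
  -- entries
  have hentry : ∀ i j (h : i ≠ j) a b, (g : Matrix ι ι F) a b ≠ 0 →
      (if b = i ∨ b = j then (-1 : F) else 1) = c i j h * (if a = i ∨ a = j then -1 else 1) := by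
    intro i j h a b hab
    have := congrFun (congrFun (hcsgn i j h) a) b
    rw [sgn, Matrix.mul_diagonal, Matrix.smul_apply, Matrix.diagonal_mul, smul_eq_mul] at this
    refine mul_left_cancel₀ hab ?_
    linear_combination this
  have hmul : ∀ i j k (h1 : i ≠ j) (h3 : j ≠ k) (h4 : i ≠ k), c i k h4 = c i j h1 * c j k h3 := by
    intro i j k h1 h3 h4
    refine comm_smul_eq (g := g) (A := sgn i k) (by rw [sgn_det h4]; exact isUnit_one) hne ?_
    rw [← hcsgn]
    conv_lhs => rw [← sgn_mul h1 h3 h4, ← Matrix.mul_assoc, hcsgn i j h1, Matrix.smul_mul, Matrix.mul_assoc,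
      hcsgn j k h3, Matrix.mul_smul, smul_smul, ← Matrix.mul_assoc, sgn_mul h1 h3 h4]
  have hsq : ∀ i j (h : i ≠ j), c i j h * c i j h = 1 := fun i j h => by
    refine comm_smul_eq (g := g) (A := (1 : Matrix ι ι F)) (by rw [Matrix.det_one]; exact isUnit_one) hne ?_
    rw [one_smul, Matrix.one_mul]
    conv_rhs => rw [← Matrix.mul_one (g : Matrix ι ι F), ← sgn_sq i j, ← Matrix.mul_assoc, hcsgn i j h,
      Matrix.smul_mul, Matrix.mul_assoc, hcsgn i j h, Matrix.mul_smul, smul_smul, ← Matrix.mul_assoc, sgn_sq,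
      Matrix.one_mul]
  have hconj : ∀ i j (hi : i ≠ k₀) (hj : j ≠ k₀), i ≠ j → c i k₀ hi = c j k₀ hj := by
    intro i j hi hj hij
    obtain ⟨e, he⟩ := hP i j hij hi hj
    have hpm : (pl i j (0 : F) 1 (-1) 0).map τ = pl i j 0 1 (-1) 0 := by
      rw [show (τ : F → F) = (τ.toRingHom : F →+* F) from rfl, pl_map]; simp
    rw [hpm] at he
    have hd : IsUnit (pl i j (0 : F) 1 (-1) 0 * sgn i k₀).det := by
      rw [Matrix.det_mul, pl_det hij, sgn_det hi]; simp
    have he0 : e ≠ 0 := by
      rintro rfl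
      rw [zero_smul] at he
      have := congrArg Matrix.det he
      rw [Matrix.det_mul, pl_det hij, Matrix.det_zero] at this
      simp [g.det_ne_zero] at this
    refine mul_left_cancel₀ he0 (comm_smul_eq (g := g) hd hne ?_)
    calc (e * c i k₀ hi) • (pl i j (0 : F) 1 (-1) 0 * sgn i k₀ * (g : Matrix ι ι F))
        = (g : Matrix ι ι F) * pl i j (0 : F) 1 (-1) 0 * sgn i k₀ := by
          rw [he, Matrix.smul_mul, Matrix.mul_assoc _ (g : Matrix ι ι F), hcsgn i k₀ hi, Matrix.mul_smul,
            smul_smul, ← Matrix.mul_assoc]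
      _ = (g : Matrix ι ι F) * sgn j k₀ * pl i j (0 : F) 1 (-1) 0 := by
          rw [Matrix.mul_assoc, sgn_pl hij hi hj, ← Matrix.mul_assoc]
      _ = (e * c j k₀ hj) • (pl i j (0 : F) 1 (-1) 0 * sgn i k₀ * (g : Matrix ι ι F)) := by
          rw [hcsgn j k₀ hj, Matrix.smul_mul, Matrix.mul_assoc _ (g : Matrix ι ι F), he, Matrix.mul_smul,
            smul_smul, ← Matrix.mul_assoc, sgn_pl hij hi hj, mul_comm e]
  have hns : ∀ i j (h : i ≠ j), i ≠ k₀ → j ≠ k₀ → c i j h = 1 := by
    intro i j h hi hj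
    have e := hmul i j k₀ h hj hi
    rw [hconj i j hi hj h] at e
    calc c i j h = c i j h * (c j k₀ hj * c j k₀ hj) := by rw [hsq, mul_one]
      _ = 1 := by rw [← mul_assoc, ← e, hsq]
  obtain ⟨a₀, ha₀⟩ : ∃ a, (g : Matrix ι ι F) a k₀ ≠ 0 := by
    by_contra hcon
    push Not at hcon
    exact g.det_ne_zero (Matrix.det_eq_zero_of_column_eq_zero k₀ hcon)
  have hak : a₀ = k₀ := by
    by_contra hne'
    obtain ⟨j, hj, hja⟩ := hthird k₀ a₀
    have := hentry a₀ j (Ne.symm hja) a₀ k₀ ha₀
    rw [hns a₀ j _ hne' hj, if_neg (by rintro (h | h); exacts [hne' h.symm, hj h.symm]), if_pos (Or.inl rfl),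
      one_mul] at this
    exact hneg this.symm
  have hall : ∀ i j (h : i ≠ j), c i j h = 1 := by
    intro i j h
    have := hentry i j h k₀ k₀ (hak ▸ ha₀)
    split_ifs at this
    · linear_combination this
    · linear_combination -this
  have hoff : ∀ a b, a ≠ b → (g : Matrix ι ι F) a b = 0 := fun a b hab => by
    by_contra hne'
    obtain ⟨j, hja, hjb⟩ := hthird a b
    have := hentry a j (Ne.symm hja) a b hne'
    rw [hall, one_mul, if_pos (Or.inl rfl), if_neg (by rintro (h | h); exacts [hab h.symm, hjb h.symm])] at this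
    exact hneg this.symm
  have hdiag : ∀ a, (g : Matrix ι ι F) a a ≠ 0 := fun a e => g.det_ne_zero
    (Matrix.det_eq_zero_of_column_eq_zero a fun b => by
      by_cases h : b = a
      · rw [h, e]
      · exact hoff b a h)
  refine ⟨hoff, hdiag, fun i j hi hj => ?_⟩
  by_cases hij : i = j
  · rw [hij]
  obtain ⟨e, he⟩ := hP i j hij hi hj
  have hg : (g : Matrix ι ι F) = diagonal fun a => (g : Matrix ι ι F) a a := by
    ext a b
    by_cases h : a = b
    · subst h; simp
    · rw [hoff a b h, Matrix.diagonal_apply_ne _ h]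
  obtain ⟨k, hki, hkj⟩ := hthird i j
  rw [hg] at he
  have h1 := congrFun (congrFun he k) k
  have h3 := congrFun (congrFun he i) j
  simp [Matrix.diagonal_mul, Matrix.mul_diagonal, pl_other hki hkj, pl_ij hij] at h1 h3
  have he1 : e = 1 := mul_right_cancel₀ (hdiag k) (show e * (g : Matrix ι ι F) k k = 1 * (g : Matrix ι ι F) k k by linear_combination -h1)
  rw [he1, one_mul] at h3
  exact h3

/-- The twist fixes the entries. -/
theorem fixed_of_comm {i j k : ι} (hij : i ≠ j) (hki : k ≠ i) (hkj : k ≠ j)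
    (hoff : ∀ a b, a ≠ b → (g : Matrix ι ι F) a b = 0) (hdiag : ∀ a, (g : Matrix ι ι F) a a ≠ 0)
    (heq : (g : Matrix ι ι F) i i = (g : Matrix ι ι F) j j) {a b c' e' : F}
    (h : Comm τ g (pl i j a b c' e')) : τ a = a ∧ τ b = b := by
  obtain ⟨e, he⟩ := h
  have hg : (g : Matrix ι ι F) = diagonal fun a => (g : Matrix ι ι F) a a := by
    ext a b
    by_cases h : a = b
    · subst h; simp
    · rw [hoff a b h, Matrix.diagonal_apply_ne _ h]
  rw [hg] at he
  have h1 := congrFun (congrFun he k) k
  have h3 := congrFun (congrFun he i) i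
  have h4 := congrFun (congrFun he i) j
  simp [Matrix.diagonal_mul, Matrix.mul_diagonal, pl_other hki hkj, pl_ij hij, pl_ii] at h1 h3 h4
  have he1 : e = 1 := mul_right_cancel₀ (hdiag k) (show e * (g : Matrix ι ι F) k k = 1 * (g : Matrix ι ι F) k k by linear_combination -h1)
  rw [he1, one_mul] at h3 h4
  exact ⟨mul_left_cancel₀ (hdiag i) (by linear_combination h3),
    mul_left_cancel₀ (hdiag i) (by rw [h4, ← heq]; ring)⟩

/-- Two diagonal entries linked by an off-diagonal entry. -/
theorem link (hoff : ∀ a b, a ≠ b → (g : Matrix ι ι F) a b = 0) (hdiag : ∀ a, (g : Matrix ι ι F) a a ≠ 0)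
    {A : Matrix ι ι F} (hA : A.map τ = A) (h : Comm τ g A) {x a b : ι} (hx : A x x ≠ 0) (hab : A a b ≠ 0) :
    (g : Matrix ι ι F) a a = (g : Matrix ι ι F) b b := by
  obtain ⟨e, he⟩ := h
  have hg : (g : Matrix ι ι F) = diagonal fun a => (g : Matrix ι ι F) a a := by
    ext a b
    by_cases h : a = b
    · subst h; simp
    · rw [hoff a b h, Matrix.diagonal_apply_ne _ h]
  rw [hg, hA] at he
  have h1 := congrFun (congrFun he x) x
  have h3 := congrFun (congrFun he a) b
  simp only [Matrix.diagonal_mul, Matrix.mul_diagonal, Matrix.smul_apply, smul_eq_mul] at h1 h3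
  have he1 : e = 1 := mul_right_cancel₀ (mul_ne_zero hx (hdiag x)) (by linear_combination -h1)
  rw [he1, one_mul] at h3
  exact mul_right_cancel₀ hab (by linear_combination h3)

theorem scalar_of (hoff : ∀ a b, a ≠ b → (g : Matrix ι ι F) a b = 0) {μ : F}
    (h : ∀ a, (g : Matrix ι ι F) a a = μ) : (g : Matrix ι ι F) = μ • 1 := by
  ext a b
  by_cases hab : a = b
  · subst hab; simp [h]
  · simp [hoff a b hab, hab]

end Cfsg.Agent.Classical.Commutant
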