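import Cfsg.Agent.Lib.Grp.Cores

/-!
A criterion for a trivial `O_{p'}` in the centraliser of an outer automorphism of prime order: the
fixed point group contains a normalised subgroup with small centraliser and no normal `p'`-subgroups.
-/

set_option autoImplicit false

namespace Cfsg.Agent.Classical

theorem balance_iff {K : Type*} [Group K] [Finite K]
    (hK : Function.Injective (MulAut.conj : K →* MulAut K)) {A : Subgroup (MulAut K)}
    (hinn : ∀ k, MulAut.conj k ∈ A) {p : ℕ} [Fact p.Prime] {x : MulAut K}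
    (hord : orderOf x = p) (hxinn : ∀ k, MulAut.conj k ≠ x) {P₀ : Subgroup K} (hP₀ : P₀ ≠ ⊥)
    (hfix : ∀ u ∈ P₀, x u = u) (hnorm : ∀ k, x k = k → ∀ u ∈ P₀, k * u * k⁻¹ ∈ P₀)
    (hcent : ∀ β : MulAut K, Commute β x → (∀ u ∈ P₀, β u = u) → β ∈ Subgroup.zpowers x)
    (hdiv : p ∣ Nat.card ↥(MonoidHom.eqLocus x.toMonoidHom (MonoidHom.id K)) → p ∣ Nat.card P₀)
    (hnon : p ∣ Nat.card P₀ → ∀ M : Subgroup P₀, M.Normal → (Nat.card M).Coprime p → M = ⊥) :
    pPrimeCore p ↥(A ⊓ Subgroup.centralizer {x}) ≠ ⊥ ↔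
      Nat.Coprime p (Nat.card ↥(MonoidHom.eqLocus x.toMonoidHom (MonoidHom.id K))) := by
  classical
  set L := MonoidHom.eqLocus x.toMonoidHom (MonoidHom.id K)
  set C := A ⊓ Subgroup.centralizer {x}
  haveI : Finite (MulAut K) := Finite.of_injective (fun φ => (φ : K → K)) DFunLike.coe_injective
  have hL : ∀ {k}, k ∈ L ↔ x k = k := Iff.rfl
  have hconjL : ∀ k ∈ L, Commute (MulAut.conj k) x := fun k hk => MulEquiv.ext fun z => by
    simp only [MulAut.mul_apply, MulAut.conj_apply, map_mul, map_inv, hL.1 hk]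
  let ι : L →* C := ((MulAut.conj).comp L.subtype).codRestrict C fun k =>
    ⟨hinn _, Subgroup.mem_centralizer_singleton_iff.2 (hconjL _ k.2)⟩
  have hι : Function.Injective ι := fun a b e => Subtype.ext (hK (congrArg Subtype.val e))
  have hC : ∀ c : C, ∀ k ∈ L, (c : MulAut K) k ∈ L := fun c k hk => by
    rw [hL]
    have h1 := DFunLike.congr_fun (Subgroup.mem_centralizer_singleton_iff.1 c.2.2) k
    rw [MulAut.mul_apply, MulAut.mul_apply, hL.1 hk] at h1
    exact h1.symm
  have hιconj : ∀ (c : C) (k : L), c * ι k * c⁻¹ = ι ⟨_, hC c k k.2⟩ := fun c k =>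
    Subtype.ext (MulEquiv.ext fun z => by
      show (c : MulAut K) ((k : K) * ((c : MulAut K).symm z) * (k : K)⁻¹) =
        (c : MulAut K) k * z * ((c : MulAut K) k)⁻¹
      rw [map_mul, map_mul, map_inv, MulEquiv.apply_symm_apply])
  constructor
  · intro hne
    by_contra hcop
    have hpL : p ∣ Nat.card L := by
      by_contra hnd
      exact hcop ((Fact.out : p.Prime).coprime_iff_not_dvd.2 hnd)
    set N := pPrimeCore p ↥C
    haveI hNn : N.Normal := Grp.pPrimeCore_isNormal
    have hNc : (Nat.card N).Coprime p := Grp.pPrimeCore_coprime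
    have hPL : P₀ ≤ L := fun u hu => hL.2 (hfix u hu)
    -- nothing of `P₀` lies in the core
    set jP : P₀ →* C := ι.comp (Subgroup.inclusion hPL)
    have hjP : Function.Injective jP := hι.comp (Subgroup.inclusion_injective hPL)
    have hM : N.comap jP = ⊥ := by
      refine hnon (hdiv hpL) _ (hNn.comap _) (hNc.coprime_dvd_left ?_)
      refine Subgroup.card_dvd_of_injective ((jP.comp (N.comap jP).subtype).codRestrict N fun u => u.2) ?_
      exact fun a b e => Subtype.ext (hjP (congrArg Subtype.val e))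
    have hMu : ∀ u (hu : u ∈ P₀), jP ⟨u, hu⟩ ∈ N → u = 1 := fun u hu h1 => by
      have : (⟨u, hu⟩ : P₀) ∈ N.comap jP := h1
      rw [hM, Subgroup.mem_bot] at this
      exact congrArg Subtype.val this
    have hz : ∀ β ∈ Subgroup.zpowers x, β ≠ 1 → x ∈ Subgroup.zpowers β := fun β hβ hβ1 => by
      have h1 : orderOf β = p := ((Fact.out : p.Prime).eq_one_or_self_of_dvd _
        (hord ▸ orderOf_dvd_of_mem_zpowers hβ)).resolve_left fun h => hβ1 (orderOf_eq_one_iff.1 h)
      have h2 : Subgroup.zpowers β = Subgroup.zpowers x :=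
        Subgroup.eq_of_le_of_card_ge (Subgroup.zpowers_le.2 hβ)
          (by rw [Nat.card_zpowers, Nat.card_zpowers, h1, hord])
      exact h2 ▸ Subgroup.mem_zpowers x
    -- nor anything of `L`
    have hML : ∀ l : L, ι l ∈ N → l = 1 := by
      intro l hl
      have hcomm : ∀ u ∈ P₀, MulAut.conj (l : K) u = u := by
        intro u hu
        have h1 : (l : K) * u * (l : K)⁻¹ * u⁻¹ ∈ P₀ :=
          mul_mem (hnorm l (hL.1 l.2) u hu) (inv_mem hu)
        have h2 : jP ⟨_, h1⟩ ∈ N := by
          have e : jP ⟨_, h1⟩ = ι l * (jP ⟨u, hu⟩ * (ι l)⁻¹ * (jP ⟨u, hu⟩)⁻¹) := by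
            simp only [jP, MonoidHom.comp_apply, ← map_inv, ← map_mul]
            congr 1
            exact Subtype.ext (by simp [mul_assoc])
          rw [e]
          exact mul_mem hl (hNn.conj_mem _ (inv_mem hl) _)
        have h3 := hMu _ h1 h2
        rw [mul_inv_eq_one] at h3
        simpa using h3
      have hmem := hcent _ (hconjL _ l.2) hcomm
      by_contra hl1
      have h4 : MulAut.conj (l : K) ≠ 1 := fun e => hl1 (Subtype.ext (hK (e.trans (map_one _).symm)))
      obtain ⟨k, hk⟩ := Subgroup.mem_zpowers_iff.1 (hz _ hmem h4)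
      exact hxinn ((l : K) ^ k) (by rw [map_zpow, hk])
    refine hne ((Subgroup.eq_bot_iff_forall _).2 fun n hn => ?_)
    have hfixn : ∀ u ∈ P₀, (n : MulAut K) u = u := by
      intro u hu
      set a : L := ⟨(n : MulAut K) u, hC n u (hPL hu)⟩
      set b : L := ⟨u, hPL hu⟩
      have h2 : ι (a * b⁻¹) ∈ N := by
        have e : ι (a * b⁻¹) = n * (ι b * n⁻¹ * (ι b)⁻¹) := by
          rw [map_mul, map_inv, ← hιconj n b]
          group
        rw [e]
        exact mul_mem hn (hNn.conj_mem _ (inv_mem hn) _)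
      exact congrArg Subtype.val (mul_inv_eq_one.1 (hML _ h2))
    have hmem := hcent _ (Subgroup.mem_centralizer_singleton_iff.1 n.2.2) hfixn
    have h1 : orderOf n ∣ p := by
      rw [← Subgroup.orderOf_coe, ← hord]; exact orderOf_dvd_of_mem_zpowers hmem
    have h2 : orderOf n ∣ Nat.card N := by
      rw [← Subgroup.orderOf_mk n hn]; exact orderOf_dvd_natCard _
    exact orderOf_eq_one_iff.1 (Nat.eq_one_of_dvd_coprimes hNc h2 h1)
  · intro hcop hbot
    refine hP₀ ((Subgroup.eq_bot_iff_forall _).2 fun u hu => ?_)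
    have hn : (ι.range).Normal := ⟨by rintro _ ⟨k, rfl⟩ c; exact ⟨_, (hιconj c k).symm⟩⟩
    have hle : ι.range ≤ pPrimeCore p ↥C := Grp.le_pPrimeCore hn (by
      rw [← Nat.card_congr (MonoidHom.ofInjective hι).toEquiv]; exact hcop.symm)
    rw [hbot] at hle
    have h1 : ι ⟨u, hL.2 (hfix u hu)⟩ = 1 := Subgroup.mem_bot.1 (hle ⟨_, rfl⟩)
    exact congrArg Subtype.val (hι (h1.trans (map_one _).symm))

end Cfsg.Agent.Classical
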