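import Mathlib
import Cfsg.Prelude.Def_ClassicalGeometry

/-! Symplectic form, transvections and transitivity properties of the symplectic group. -/

set_option autoImplicit false

namespace Cfsg.Agent.Classical

open Matrix

variable {F : Type*} [Field F] {m : ℕ}

/-- `sympForm` as a bilinear form. -/
noncomputable def sympB (m : ℕ) (F : Type*) [Field F] : LinearMap.BilinForm F (Fin m ⊕ Fin m → F) :=
  Matrix.toBilin' (Matrix.J (Fin m) F)

theorem sympB_apply (u v : Fin m ⊕ Fin m → F) : sympB m F u v = sympForm m F u v :=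
  Matrix.toBilin'_apply' _ _ _

theorem J_mulVec_inl (v : Fin m ⊕ Fin m → F) (i : Fin m) :
    (Matrix.J (Fin m) F *ᵥ v) (Sum.inl i) = -v (Sum.inr i) := by
  simp [Matrix.J, Matrix.fromBlocks_mulVec, Matrix.neg_mulVec]

theorem J_mulVec_inr (v : Fin m ⊕ Fin m → F) (i : Fin m) :
    (Matrix.J (Fin m) F *ᵥ v) (Sum.inr i) = v (Sum.inl i) := by
  simp [Matrix.J, Matrix.fromBlocks_mulVec]

theorem sympForm_eq_sum (u v : Fin m ⊕ Fin m → F) :
    sympForm m F u v = ∑ i, (u (Sum.inr i) * v (Sum.inl i) - u (Sum.inl i) * v (Sum.inr i)) := by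
  rw [sympForm, dotProduct, Fintype.sum_sum_type, Finset.sum_sub_distrib]
  simp only [J_mulVec_inl, J_mulVec_inr, mul_neg, Finset.sum_neg_distrib]
  ring

theorem sympForm_self (u : Fin m ⊕ Fin m → F) : sympForm m F u u = 0 := by
  rw [sympForm_eq_sum]; exact Finset.sum_eq_zero fun i _ => by ring

theorem sympForm_swap (u v : Fin m ⊕ Fin m → F) : sympForm m F u v = -sympForm m F v u := by
  rw [sympForm_eq_sum, sympForm_eq_sum, ← Finset.sum_neg_distrib]
  exact Finset.sum_congr rfl fun i _ => by ring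

theorem sympForm_add_left (u u' v : Fin m ⊕ Fin m → F) :
    sympForm m F (u + u') v = sympForm m F u v + sympForm m F u' v := by
  simp only [← sympB_apply, map_add, LinearMap.add_apply]

theorem sympForm_add_right (u v v' : Fin m ⊕ Fin m → F) :
    sympForm m F u (v + v') = sympForm m F u v + sympForm m F u v' := by
  simp only [← sympB_apply, map_add]

theorem sympForm_sub_left (u u' v : Fin m ⊕ Fin m → F) :
    sympForm m F (u - u') v = sympForm m F u v - sympForm m F u' v := by
  simp only [← sympB_apply, map_sub, LinearMap.sub_apply]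

theorem sympForm_sub_right (u v v' : Fin m ⊕ Fin m → F) :
    sympForm m F u (v - v') = sympForm m F u v - sympForm m F u v' := by
  simp only [← sympB_apply, map_sub]

theorem sympForm_smul_left (c : F) (u v : Fin m ⊕ Fin m → F) :
    sympForm m F (c • u) v = c * sympForm m F u v := by
  simp only [← sympB_apply, map_smul, LinearMap.smul_apply, smul_eq_mul]

theorem sympForm_smul_right (c : F) (u v : Fin m ⊕ Fin m → F) :
    sympForm m F u (c • v) = c * sympForm m F u v := by
  simp only [← sympB_apply, map_smul, smul_eq_mul]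

@[simp] theorem sympForm_zero_left (v : Fin m ⊕ Fin m → F) : sympForm m F 0 v = 0 := by
  simp [sympForm_eq_sum]

@[simp] theorem sympForm_zero_right (v : Fin m ⊕ Fin m → F) : sympForm m F v 0 = 0 := by
  simp [sympForm_eq_sum]

theorem sympForm_single_inl (u : Fin m ⊕ Fin m → F) (i : Fin m) (a : F) :
    sympForm m F u (Pi.single (Sum.inl i) a) = u (Sum.inr i) * a := by
  classical
  rw [sympForm_eq_sum, Finset.sum_eq_single i]
  · simp
  · intro j _ hj; simp [hj]
  · simp

theorem sympForm_single_inr (u : Fin m ⊕ Fin m → F) (i : Fin m) (a : F) :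
    sympForm m F u (Pi.single (Sum.inr i) a) = -(u (Sum.inl i) * a) := by
  classical
  rw [sympForm_eq_sum, Finset.sum_eq_single i]
  · simp
  · intro j _ hj; simp [hj]
  · simp

theorem eq_zero_of_sympForm_eq_zero {u : Fin m ⊕ Fin m → F}
    (h : ∀ v, sympForm m F u v = 0) : u = 0 := by
  funext x
  rcases x with i | i
  · have := h (Pi.single (Sum.inr i) 1)
    rw [sympForm_single_inr] at this
    simpa using this
  · have := h (Pi.single (Sum.inl i) 1)
    rw [sympForm_single_inl] at this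
    simpa using this

theorem exists_sympForm_eq_one {u : Fin m ⊕ Fin m → F} (hu : u ≠ 0) :
    ∃ v, sympForm m F u v = 1 := by
  by_contra hcon
  push Not at hcon
  refine hu (eq_zero_of_sympForm_eq_zero fun v => ?_)
  by_contra h
  exact hcon ((sympForm m F u v)⁻¹ • v) (by rw [sympForm_smul_right, inv_mul_cancel₀ h])

theorem sympB_nondegenerate : (sympB m F).Nondegenerate := by
  rw [sympB, LinearMap.BilinForm.nondegenerate_toBilin'_iff_det_ne_zero]
  exact (Matrix.isUnit_det_J _ _).ne_zero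

/-- Membership of the symplectic group via the form. -/
theorem mem_symplecticGroup_iff_form {A : Matrix (Fin m ⊕ Fin m) (Fin m ⊕ Fin m) F} :
    A ∈ Matrix.symplecticGroup (Fin m) F ↔
      ∀ u v, sympForm m F (A *ᵥ u) (A *ᵥ v) = sympForm m F u v := by
  rw [SymplecticGroup.mem_iff']
  have key : ∀ u v, sympForm m F (A *ᵥ u) (A *ᵥ v) = u ⬝ᵥ ((Aᵀ * Matrix.J (Fin m) F * A) *ᵥ v) :=
    fun u v => by
      rw [sympForm, ← Matrix.mulVec_mulVec, ← Matrix.mulVec_mulVec, Matrix.dotProduct_mulVec u Aᵀ,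
        Matrix.vecMul_transpose]
  constructor
  · intro h u v; rw [key, h]; rfl
  · intro h
    refine Matrix.ext_iff_mulVec.2 fun v => dotProduct_eq _ _ fun u => ?_
    rw [dotProduct_comm, dotProduct_comm (Matrix.J (Fin m) F *ᵥ v)]
    exact (key u v).symm.trans (h u v)

theorem sympForm_map (A : Matrix.symplecticGroup (Fin m) F) (u v : Fin m ⊕ Fin m → F) :
    sympForm m F ((A : Matrix (Fin m ⊕ Fin m) (Fin m ⊕ Fin m) F) *ᵥ u)
      ((A : Matrix (Fin m ⊕ Fin m) (Fin m ⊕ Fin m) F) *ᵥ v) = sympForm m F u v :=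
  mem_symplecticGroup_iff_form.1 A.2 u v

theorem sympTransvection_mulVec (v : Fin m ⊕ Fin m → F) (c : F) (x : Fin m ⊕ Fin m → F) :
    sympTransvection m v c *ᵥ x = x + (c * sympForm m F x v) • v := by
  rw [sympTransvection, Matrix.add_mulVec, Matrix.one_mulVec, Matrix.smul_mulVec,
    Matrix.vecMulVec_mulVec, op_smul_eq_smul, smul_smul, sympForm,
    dotProduct_comm x]

theorem sympTransvection_mem (v : Fin m ⊕ Fin m → F) (c : F) :
    sympTransvection m v c ∈ Matrix.symplecticGroup (Fin m) F := by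
  refine mem_symplecticGroup_iff_form.2 fun x y => ?_
  simp only [sympTransvection_mulVec, sympForm_add_left, sympForm_add_right, sympForm_smul_left,
    sympForm_smul_right, sympForm_self, sympForm_swap v y]
  ring

/-- The transvection as an element of the symplectic group. -/
noncomputable def sympTv (v : Fin m ⊕ Fin m → F) (c : F) : Matrix.symplecticGroup (Fin m) F :=
  ⟨sympTransvection m v c, sympTransvection_mem v c⟩

theorem sympTransvection_mul (v : Fin m ⊕ Fin m → F) (c d : F) :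
    sympTransvection m v c * sympTransvection m v d = sympTransvection m v (c + d) := by
  refine Matrix.ext_iff_mulVec.2 fun x => ?_
  simp only [← Matrix.mulVec_mulVec, sympTransvection_mulVec, sympForm_add_left, sympForm_smul_left,
    sympForm_self, mul_zero, add_zero]
  module

theorem sympTv_zero (v : Fin m ⊕ Fin m → F) : sympTv v 0 = 1 :=
  Subtype.ext (by simp [sympTv, sympTransvection])

theorem sympTv_mul (v : Fin m ⊕ Fin m → F) (c d : F) :
    sympTv v c * sympTv v d = sympTv v (c + d) :=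
  Subtype.ext (sympTransvection_mul v c d)

theorem sympTv_inv (v : Fin m ⊕ Fin m → F) (c : F) : (sympTv v c)⁻¹ = sympTv v (-c) :=
  inv_eq_of_mul_eq_one_right (by rw [sympTv_mul, add_neg_cancel, sympTv_zero])

theorem sympTransvection_smul (v : Fin m ⊕ Fin m → F) (a c : F) :
    sympTransvection m (a • v) c = sympTransvection m v (a ^ 2 * c) := by
  refine Matrix.ext_iff_mulVec.2 fun x => ?_
  simp only [sympTransvection_mulVec, sympForm_smul_right, smul_smul]
  congr 2; ring

theorem mul_sympTransvection_eq {A : Matrix (Fin m ⊕ Fin m) (Fin m ⊕ Fin m) F}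
    (hA : A ∈ Matrix.symplecticGroup (Fin m) F) (v : Fin m ⊕ Fin m → F) (c : F) :
    A * sympTransvection m v c = sympTransvection m (A *ᵥ v) c * A := by
  refine Matrix.ext_iff_mulVec.2 fun x => ?_
  simp only [← Matrix.mulVec_mulVec, sympTransvection_mulVec, Matrix.mulVec_add, Matrix.mulVec_smul,
    mem_symplecticGroup_iff_form.1 hA]

theorem sympTv_conj (A : Matrix.symplecticGroup (Fin m) F) (v : Fin m ⊕ Fin m → F) (c : F) :
    A * sympTv v c * A⁻¹ = sympTv ((A : Matrix (Fin m ⊕ Fin m) (Fin m ⊕ Fin m) F) *ᵥ v) c := by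
  rw [mul_inv_eq_iff_eq_mul]
  exact Subtype.ext (mul_sympTransvection_eq A.2 v c)

/-- The set of transvections in the symplectic group. -/
def sympTvSet (m : ℕ) (F : Type*) [Field F] : Set (Matrix.symplecticGroup (Fin m) F) :=
  {A | ∃ (w : Fin m ⊕ Fin m → F) (c : F),
    (A : Matrix (Fin m ⊕ Fin m) (Fin m ⊕ Fin m) F) = sympTransvection m w c}

theorem sympTv_mem_closure (v : Fin m ⊕ Fin m → F) (c : F) :
    sympTv v c ∈ Subgroup.closure (sympTvSet m F) :=
  Subgroup.subset_closure ⟨v, c, rfl⟩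

/-- A vector non-orthogonal to two given non-zero vectors. -/
theorem exists_sympForm_ne_zero_both {v w : Fin m ⊕ Fin m → F} (hv : v ≠ 0) (hw : w ≠ 0) :
    ∃ z, sympForm m F v z ≠ 0 ∧ sympForm m F w z ≠ 0 := by
  obtain ⟨a, ha⟩ := exists_sympForm_eq_one hv
  obtain ⟨b, hb⟩ := exists_sympForm_eq_one hw
  by_cases h1 : sympForm m F w a = 0
  · by_cases h2 : sympForm m F v b = 0
    · refine ⟨a + b, ?_, ?_⟩
      · rw [sympForm_add_right, ha, h2]; simp
      · rw [sympForm_add_right, hb, h1]; simp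
    · exact ⟨b, h2, by simp [hb]⟩
  · exact ⟨a, by simp [ha], h1⟩

theorem sympTv_move {v w : Fin m ⊕ Fin m → F} (h : sympForm m F v w ≠ 0) :
    sympTransvection m (w - v) (sympForm m F v w)⁻¹ *ᵥ v = w := by
  rw [sympTransvection_mulVec, sympForm_sub_right, sympForm_self, sub_zero, inv_mul_cancel₀ h,
    one_smul, add_sub_cancel]

theorem exists_closure_mulVec_eq {v w : Fin m ⊕ Fin m → F} (hv : v ≠ 0) (hw : w ≠ 0) :
    ∃ A ∈ Subgroup.closure (sympTvSet m F),
      (A : Matrix (Fin m ⊕ Fin m) (Fin m ⊕ Fin m) F) *ᵥ v = w := by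
  obtain ⟨z, hz1, hz2⟩ := exists_sympForm_ne_zero_both hv hw
  refine ⟨sympTv (w - z) (sympForm m F z w)⁻¹ * sympTv (z - v) (sympForm m F v z)⁻¹,
    Subgroup.mul_mem _ (sympTv_mem_closure _ _) (sympTv_mem_closure _ _), ?_⟩
  show (sympTransvection m (w - z) _ * sympTransvection m (z - v) _) *ᵥ v = w
  rw [← Matrix.mulVec_mulVec, sympTv_move hz1, sympTv_move]
  rwa [sympForm_swap, neg_ne_zero]

theorem exists_closure_pair {u v u' v' : Fin m ⊕ Fin m → F} (h : sympForm m F u v = 1)
    (h' : sympForm m F u' v' = 1) :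
    ∃ A ∈ Subgroup.closure (sympTvSet m F),
      (A : Matrix (Fin m ⊕ Fin m) (Fin m ⊕ Fin m) F) *ᵥ u = u' ∧
      (A : Matrix (Fin m ⊕ Fin m) (Fin m ⊕ Fin m) F) *ᵥ v = v' := by
  have hu : u ≠ 0 := by rintro rfl; simp at h
  have hu' : u' ≠ 0 := by rintro rfl; simp at h'
  obtain ⟨A, hA, hAu⟩ := exists_closure_mulVec_eq hu hu'
  -- move the second vector fixing the first
  have step : ∀ a b : Fin m ⊕ Fin m → F, sympForm m F u' a = 1 → sympForm m F u' b = 1 →
      sympForm m F a b ≠ 0 → ∃ B ∈ Subgroup.closure (sympTvSet m F),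
        (B : Matrix (Fin m ⊕ Fin m) (Fin m ⊕ Fin m) F) *ᵥ u' = u' ∧
        (B : Matrix (Fin m ⊕ Fin m) (Fin m ⊕ Fin m) F) *ᵥ a = b := by
    intro a b ha hb hab
    refine ⟨sympTv (b - a) (sympForm m F a b)⁻¹, sympTv_mem_closure _ _, ?_, sympTv_move hab⟩
    show sympTransvection m _ _ *ᵥ u' = u'
    rw [sympTransvection_mulVec, sympForm_sub_right, ha, hb, sub_self, mul_zero, zero_smul, add_zero]
  set w := (A : Matrix (Fin m ⊕ Fin m) (Fin m ⊕ Fin m) F) *ᵥ v
  have hw : sympForm m F u' w = 1 := by rw [← hAu, sympForm_map, h]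
  by_cases hwv : sympForm m F w v' = 0
  · have hz : sympForm m F u' (w + u') = 1 := by
      rw [sympForm_add_right, hw, sympForm_self, add_zero]
    obtain ⟨B, hB, hBu, hBw⟩ := step w (w + u') hw hz (by
      rw [sympForm_add_right, sympForm_self, zero_add, sympForm_swap, hw]; simp)
    obtain ⟨C, hC, hCu, hCw⟩ := step (w + u') v' hz h' (by
      rw [sympForm_add_left, hwv, h']; simp)
    refine ⟨C * B * A, Subgroup.mul_mem _ (Subgroup.mul_mem _ hC hB) hA, ?_, ?_⟩
    · rw [Submonoid.coe_mul, Submonoid.coe_mul, ← Matrix.mulVec_mulVec, hAu, ← Matrix.mulVec_mulVec,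
        hBu, hCu]
    · rw [Submonoid.coe_mul, Submonoid.coe_mul, ← Matrix.mulVec_mulVec, ← Matrix.mulVec_mulVec]
      show _ *ᵥ (_ *ᵥ w) = v'
      rw [hBw, hCw]
  · obtain ⟨B, hB, hBu, hBw⟩ := step w v' hw h' hwv
    refine ⟨B * A, Subgroup.mul_mem _ hB hA, ?_, ?_⟩
    · rw [Submonoid.coe_mul, ← Matrix.mulVec_mulVec, hAu, hBu]
    · rw [Submonoid.coe_mul, ← Matrix.mulVec_mulVec]; exact hBw

theorem symp_pretransitive {v w : Fin m ⊕ Fin m → F} (hv : v ≠ 0) (hw : w ≠ 0) :
    ∃ A : Matrix.symplecticGroup (Fin m) F,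
      (A : Matrix (Fin m ⊕ Fin m) (Fin m ⊕ Fin m) F) *ᵥ v = w :=
  let ⟨A, _, h⟩ := exists_closure_mulVec_eq hv hw
  ⟨A, h⟩

theorem eq_scalar_of_commute_sympTv (A : Matrix.symplecticGroup (Fin m) F)
    (h : ∀ v, A * sympTv v 1 = sympTv v 1 * A) :
    ∃ l : F, l ^ 2 = 1 ∧ (m ≠ 0 → (A : Matrix (Fin m ⊕ Fin m) (Fin m ⊕ Fin m) F) = l • 1) := by
  classical
  rcases Nat.eq_zero_or_pos m with hm | hm
  · exact ⟨1, one_pow 2, fun h => absurd hm h⟩
  set a := Matrix.toLin' (A : Matrix (Fin m ⊕ Fin m) (Fin m ⊕ Fin m) F) with ha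
  have hline : ∀ v, v ≠ 0 → ∃ r : F, a v = r • v := by
    intro v hv
    obtain ⟨x, hx⟩ := exists_sympForm_eq_one hv
    set w := (A : Matrix (Fin m ⊕ Fin m) (Fin m ⊕ Fin m) F) *ᵥ v
    have h1 : sympTransvection m w 1 = sympTransvection m v 1 := by
      have h2 : sympTv w 1 = sympTv v 1 := by
        rw [← sympTv_conj, h v, mul_inv_cancel_right]
      exact congrArg Subtype.val h2
    have h3 : (-1 : F) • v = (sympForm m F x w) • w := by
      have := congrArg (fun M => M *ᵥ x) h1
      simp only [sympTransvection_mulVec, one_mul, add_right_inj] at this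
      rw [this, sympForm_swap x v, hx]
    have hne : sympForm m F x w ≠ 0 := fun h0 => by
      rw [h0, zero_smul, neg_one_smul, neg_eq_zero] at h3; exact hv h3
    refine ⟨-(sympForm m F x w)⁻¹, ?_⟩
    show Matrix.toLin' (A : Matrix (Fin m ⊕ Fin m) (Fin m ⊕ Fin m) F) v = _
    rw [Matrix.toLin'_apply]
    calc w = (sympForm m F x w)⁻¹ • (sympForm m F x w • w) := by rw [inv_smul_smul₀ hne]
      _ = _ := by rw [← h3, smul_smul, mul_neg_one]
  have : FiniteDimensional F (Fin m ⊕ Fin m → F) := inferInstance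
  obtain ⟨l, hl⟩ : ∃ l : F, a = l • LinearMap.id := by
    refine LinearMap.exists_eq_smul_id_of_forall_notLinearIndependent fun v => ?_
    rcases eq_or_ne v 0 with rfl | hv
    · exact fun hli => (hli.ne_zero 0) (by simp)
    · obtain ⟨r, hr⟩ := hline v hv
      intro hli
      have := LinearIndependent.pair_iff.1 hli r (-1) (by rw [hr]; simp)
      simpa using this.2
  have hA : (A : Matrix (Fin m ⊕ Fin m) (Fin m ⊕ Fin m) F) = l • 1 := by
    apply Matrix.toLin'.injective
    rw [← ha, hl, map_smul, Matrix.toLin'_one]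
  refine ⟨l, ?_, fun _ => hA⟩
  let i : Fin m ⊕ Fin m := Sum.inl ⟨0, hm⟩
  obtain ⟨y, hy⟩ := exists_sympForm_eq_one (u := Pi.single i (1 : F)) (by simp)
  have := sympForm_map A (Pi.single i (1 : F)) y
  rw [hA, Matrix.smul_mulVec, Matrix.one_mulVec, Matrix.smul_mulVec, Matrix.one_mulVec,
    sympForm_smul_left, sympForm_smul_right, hy, mul_one] at this
  rw [sq]; exact this

end Cfsg.Agent.Classical
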