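import Mathlib
import Cfsg.Agent.Lib.Classical.Symp

/-! Generation by transvections and order of the symplectic group. -/

set_option autoImplicit false

namespace Cfsg.Agent.Classical

open Matrix

variable {F : Type*} [Field F] {m : ℕ}

/-- The transvections with centre in `W`. -/
def sympTvIn (W : Submodule F (Fin m ⊕ Fin m → F)) : Set (Matrix.symplecticGroup (Fin m) F) :=
  {A | ∃ w ∈ W, ∃ c : F, A = sympTv w c}

/-- A submodule on which the form is non-degenerate. -/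
def SympNondeg (W : Submodule F (Fin m ⊕ Fin m → F)) : Prop :=
  ∀ v ∈ W, v ≠ 0 → ∃ w ∈ W, sympForm m F v w = 1

theorem sympNondeg_top : SympNondeg (⊤ : Submodule F (Fin m ⊕ Fin m → F)) :=
  fun _ _ hv => let ⟨w, hw⟩ := exists_sympForm_eq_one hv; ⟨w, trivial, hw⟩

theorem closure_tvIn_le (W : Submodule F (Fin m ⊕ Fin m → F)) :
    Subgroup.closure (sympTvIn W) ≤ Subgroup.closure (sympTvSet m F) := by
  refine (Subgroup.closure_le _).2 ?_
  rintro _ ⟨w, _, c, rfl⟩
  exact sympTv_mem_closure w c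

theorem closure_tvIn_fix {W : Submodule F (Fin m ⊕ Fin m → F)} {A : Matrix.symplecticGroup (Fin m) F}
    (hA : A ∈ Subgroup.closure (sympTvIn W)) {x : Fin m ⊕ Fin m → F}
    (hx : ∀ w ∈ W, sympForm m F x w = 0) :
    (A : Matrix (Fin m ⊕ Fin m) (Fin m ⊕ Fin m) F) *ᵥ x = x := by
  induction hA using Subgroup.closure_induction with
  | mem A hA =>
    obtain ⟨w, hw, c, rfl⟩ := hA
    show sympTransvection m w c *ᵥ x = x
    rw [sympTransvection_mulVec, hx w hw, mul_zero, zero_smul, add_zero]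
  | one => simp
  | mul a b _ _ iha ihb => rw [Submonoid.coe_mul, ← Matrix.mulVec_mulVec, ihb, iha]
  | inv a _ iha =>
    conv_lhs => rw [← iha]
    rw [Matrix.mulVec_mulVec, ← Submonoid.coe_mul, inv_mul_cancel, Submonoid.coe_one, Matrix.one_mulVec]

theorem exists_sympForm_ne_zero_both_in {W : Submodule F (Fin m ⊕ Fin m → F)} (hW : SympNondeg W)
    {v w : Fin m ⊕ Fin m → F} (hvW : v ∈ W) (hwW : w ∈ W) (hv : v ≠ 0) (hw : w ≠ 0) :
    ∃ z ∈ W, sympForm m F v z ≠ 0 ∧ sympForm m F w z ≠ 0 := by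
  obtain ⟨a, haW, ha⟩ := hW v hvW hv
  obtain ⟨b, hbW, hb⟩ := hW w hwW hw
  by_cases h1 : sympForm m F w a = 0
  · by_cases h2 : sympForm m F v b = 0
    · refine ⟨a + b, W.add_mem haW hbW, ?_, ?_⟩
      · rw [sympForm_add_right, ha, h2]; simp
      · rw [sympForm_add_right, hb, h1]; simp
    · exact ⟨b, hbW, h2, by simp [hb]⟩
  · exact ⟨a, haW, by simp [ha], h1⟩

theorem exists_tvIn_mulVec_eq {W : Submodule F (Fin m ⊕ Fin m → F)} (hW : SympNondeg W)
    {v w : Fin m ⊕ Fin m → F} (hvW : v ∈ W) (hwW : w ∈ W) (hv : v ≠ 0) (hw : w ≠ 0) :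
    ∃ A ∈ Subgroup.closure (sympTvIn W),
      (A : Matrix (Fin m ⊕ Fin m) (Fin m ⊕ Fin m) F) *ᵥ v = w := by
  obtain ⟨z, hzW, hz1, hz2⟩ := exists_sympForm_ne_zero_both_in hW hvW hwW hv hw
  refine ⟨sympTv (w - z) (sympForm m F z w)⁻¹ * sympTv (z - v) (sympForm m F v z)⁻¹,
    Subgroup.mul_mem _ (Subgroup.subset_closure ⟨_, W.sub_mem hwW hzW, _, rfl⟩)
      (Subgroup.subset_closure ⟨_, W.sub_mem hzW hvW, _, rfl⟩), ?_⟩
  show (sympTransvection m (w - z) _ * sympTransvection m (z - v) _) *ᵥ v = w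
  rw [← Matrix.mulVec_mulVec, sympTv_move hz1, sympTv_move]
  rwa [sympForm_swap, neg_ne_zero]

theorem exists_tvIn_pair {W : Submodule F (Fin m ⊕ Fin m → F)} (hW : SympNondeg W)
    {u v u' v' : Fin m ⊕ Fin m → F} (huW : u ∈ W) (hvW : v ∈ W) (hu'W : u' ∈ W) (hv'W : v' ∈ W)
    (h : sympForm m F u v = 1) (h' : sympForm m F u' v' = 1) :
    ∃ A ∈ Subgroup.closure (sympTvIn W),
      (A : Matrix (Fin m ⊕ Fin m) (Fin m ⊕ Fin m) F) *ᵥ u = u' ∧
      (A : Matrix (Fin m ⊕ Fin m) (Fin m ⊕ Fin m) F) *ᵥ v = v' := by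
  have hu : u ≠ 0 := by rintro rfl; simp at h
  have hu' : u' ≠ 0 := by rintro rfl; simp at h'
  obtain ⟨A, hA, hAu⟩ := exists_tvIn_mulVec_eq hW huW hu'W hu hu'
  have hWA : ∀ B ∈ Subgroup.closure (sympTvIn W), ∀ x ∈ W,
      (B : Matrix (Fin m ⊕ Fin m) (Fin m ⊕ Fin m) F) *ᵥ x ∈ W := by
    intro B hB
    induction hB using Subgroup.closure_induction'' with
    | mem B hB =>
      obtain ⟨w, hw, c, rfl⟩ := hB
      intro x hx
      show sympTransvection m w c *ᵥ x ∈ W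
      rw [sympTransvection_mulVec]
      exact W.add_mem hx (W.smul_mem _ hw)
    | inv_mem B hB =>
      obtain ⟨w, hw, c, rfl⟩ := hB
      intro x hx
      rw [sympTv_inv]
      show sympTransvection m w (-c) *ᵥ x ∈ W
      rw [sympTransvection_mulVec]
      exact W.add_mem hx (W.smul_mem _ hw)
    | one => intro x hx; simpa using hx
    | mul a b _ _ iha ihb =>
      intro x hx
      rw [Submonoid.coe_mul, ← Matrix.mulVec_mulVec]
      exact iha _ (ihb x hx)
  have step : ∀ a ∈ W, ∀ b ∈ W, sympForm m F u' a = 1 → sympForm m F u' b = 1 →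
      sympForm m F a b ≠ 0 → ∃ B ∈ Subgroup.closure (sympTvIn W),
        (B : Matrix (Fin m ⊕ Fin m) (Fin m ⊕ Fin m) F) *ᵥ u' = u' ∧
        (B : Matrix (Fin m ⊕ Fin m) (Fin m ⊕ Fin m) F) *ᵥ a = b := by
    intro a haW b hbW ha hb hab
    refine ⟨sympTv (b - a) (sympForm m F a b)⁻¹,
      Subgroup.subset_closure ⟨_, W.sub_mem hbW haW, _, rfl⟩, ?_, sympTv_move hab⟩
    show sympTransvection m _ _ *ᵥ u' = u'
    rw [sympTransvection_mulVec, sympForm_sub_right, ha, hb, sub_self, mul_zero, zero_smul, add_zero]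
  set w := (A : Matrix (Fin m ⊕ Fin m) (Fin m ⊕ Fin m) F) *ᵥ v
  have hwW : w ∈ W := hWA A hA v hvW
  have hw : sympForm m F u' w = 1 := by rw [← hAu, sympForm_map, h]
  by_cases hwv : sympForm m F w v' = 0
  · have hz : sympForm m F u' (w + u') = 1 := by
      rw [sympForm_add_right, hw, sympForm_self, add_zero]
    obtain ⟨B, hB, hBu, hBw⟩ := step w hwW (w + u') (W.add_mem hwW hu'W) hw hz (by
      rw [sympForm_add_right, sympForm_self, zero_add, sympForm_swap, hw]; simp)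
    obtain ⟨C, hC, hCu, hCw⟩ := step (w + u') (W.add_mem hwW hu'W) v' hv'W hz h' (by
      rw [sympForm_add_left, hwv, h']; simp)
    refine ⟨C * B * A, Subgroup.mul_mem _ (Subgroup.mul_mem _ hC hB) hA, ?_, ?_⟩
    · rw [Submonoid.coe_mul, Submonoid.coe_mul, ← Matrix.mulVec_mulVec, hAu, ← Matrix.mulVec_mulVec,
        hBu, hCu]
    · rw [Submonoid.coe_mul, Submonoid.coe_mul, ← Matrix.mulVec_mulVec, ← Matrix.mulVec_mulVec]
      show _ *ᵥ (_ *ᵥ w) = v'
      rw [hBw, hCw]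
  · obtain ⟨B, hB, hBu, hBw⟩ := step w hwW v' hv'W hw h' hwv
    refine ⟨B * A, Subgroup.mul_mem _ hB hA, ?_, ?_⟩
    · rw [Submonoid.coe_mul, ← Matrix.mulVec_mulVec, hAu, hBu]
    · rw [Submonoid.coe_mul, ← Matrix.mulVec_mulVec]; exact hBw

/-- Vectors whose first `k` hyperbolic coordinates vanish. -/
def sympTail (m : ℕ) (F : Type*) [Field F] (k : ℕ) : Submodule F (Fin m ⊕ Fin m → F) where
  carrier := {v | ∀ i : Fin m, (i : ℕ) < k → v (Sum.inl i) = 0 ∧ v (Sum.inr i) = 0}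
  add_mem' ha hb i hi := by simp [ha i hi, hb i hi]
  zero_mem' i hi := by simp
  smul_mem' c v hv i hi := by simp [hv i hi]

theorem mem_sympTail {k : ℕ} {v : Fin m ⊕ Fin m → F} : v ∈ sympTail m F k ↔
    ∀ i : Fin m, (i : ℕ) < k → v (Sum.inl i) = 0 ∧ v (Sum.inr i) = 0 := Iff.rfl

theorem single_inl_mem_sympTail {k : ℕ} {i : Fin m} (h : k ≤ i) (a : F) :
    (Pi.single (Sum.inl i) a : Fin m ⊕ Fin m → F) ∈ sympTail m F k := fun j hj => by
  have : j ≠ i := fun e => by subst e; omega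
  simp [this]

theorem single_inr_mem_sympTail {k : ℕ} {i : Fin m} (h : k ≤ i) (a : F) :
    (Pi.single (Sum.inr i) a : Fin m ⊕ Fin m → F) ∈ sympTail m F k := fun j hj => by
  have : j ≠ i := fun e => by subst e; omega
  simp [this]

theorem sympTail_nondeg (k : ℕ) : SympNondeg (sympTail m F k) := by
  intro v hv hv0
  obtain ⟨x, hx⟩ : ∃ x, v x ≠ 0 := Function.ne_iff.1 hv0
  rcases x with i | i
  · have hi : k ≤ i := not_lt.1 fun h => hx (hv i h).1
    refine ⟨Pi.single (Sum.inr i) (-(v (Sum.inl i))⁻¹), single_inr_mem_sympTail hi _, ?_⟩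
    rw [sympForm_single_inr]; field_simp
  · have hi : k ≤ i := not_lt.1 fun h => hx (hv i h).2
    refine ⟨Pi.single (Sum.inl i) (v (Sum.inr i))⁻¹, single_inl_mem_sympTail hi _, ?_⟩
    rw [sympForm_single_inl]; field_simp

/-- The pointwise stabiliser of the first `k` hyperbolic pairs of the standard basis. -/
def sympFix (m : ℕ) (F : Type*) [Field F] (k : ℕ) : Subgroup (Matrix.symplecticGroup (Fin m) F) where
  carrier := {A | ∀ i : Fin m, (i : ℕ) < k →
    (A : Matrix (Fin m ⊕ Fin m) (Fin m ⊕ Fin m) F) *ᵥ Pi.single (Sum.inl i) 1 = Pi.single (Sum.inl i) 1 ∧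
    (A : Matrix (Fin m ⊕ Fin m) (Fin m ⊕ Fin m) F) *ᵥ Pi.single (Sum.inr i) 1 = Pi.single (Sum.inr i) 1}
  mul_mem' {a b} ha hb i hi := by
    constructor <;> rw [Submonoid.coe_mul, ← Matrix.mulVec_mulVec]
    · rw [(hb i hi).1, (ha i hi).1]
    · rw [(hb i hi).2, (ha i hi).2]
  one_mem' i hi := ⟨Matrix.one_mulVec _, Matrix.one_mulVec _⟩
  inv_mem' {a} ha i hi := by
    constructor
    · conv_lhs => rw [← (ha i hi).1]
      rw [Matrix.mulVec_mulVec, ← Submonoid.coe_mul, inv_mul_cancel, Submonoid.coe_one, Matrix.one_mulVec]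
    · conv_lhs => rw [← (ha i hi).2]
      rw [Matrix.mulVec_mulVec, ← Submonoid.coe_mul, inv_mul_cancel, Submonoid.coe_one, Matrix.one_mulVec]

theorem sympFix_zero : sympFix m F 0 = ⊤ :=
  eq_top_iff.2 fun _ _ i hi => absurd hi (Nat.not_lt_zero _)

theorem sympFix_top : sympFix m F m = ⊥ := by
  refine (Subgroup.eq_bot_iff_forall _).2 fun A hA => Subtype.ext (Matrix.ext fun r c => ?_)
  rcases c with i | i
  · have := congrFun (hA i i.2).1 r
    rw [Matrix.mulVec_single_one] at this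
    simpa [Matrix.one_apply, Pi.single_apply] using this
  · have := congrFun (hA i i.2).2 r
    rw [Matrix.mulVec_single_one] at this
    simpa [Matrix.one_apply, Pi.single_apply] using this

theorem sympFix_map_mem_tail {k : ℕ} {A : Matrix.symplecticGroup (Fin m) F} (hA : A ∈ sympFix m F k)
    {v : Fin m ⊕ Fin m → F} (hv : v ∈ sympTail m F k) :
    (A : Matrix (Fin m ⊕ Fin m) (Fin m ⊕ Fin m) F) *ᵥ v ∈ sympTail m F k := by
  intro i hi
  constructor
  · have h := sympForm_map A v (Pi.single (Sum.inr i) 1)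
    rw [(hA i hi).2, sympForm_single_inr, sympForm_single_inr, (hv i hi).1] at h
    simpa using h
  · have h := sympForm_map A v (Pi.single (Sum.inl i) 1)
    rw [(hA i hi).1, sympForm_single_inl, sympForm_single_inl, (hv i hi).2] at h
    simpa using h

theorem closure_tvIn_tail_le_fix (k : ℕ) :
    Subgroup.closure (sympTvIn (sympTail m F k)) ≤ sympFix m F k := by
  intro A hA i hi
  refine ⟨closure_tvIn_fix hA fun w hw => ?_, closure_tvIn_fix hA fun w hw => ?_⟩
  · rw [sympForm_swap, sympForm_single_inl, (hw i hi).2]; simp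
  · rw [sympForm_swap, sympForm_single_inr, (hw i hi).1]; simp

/-- Hyperbolic pairs inside a tail. -/
abbrev TailPair (m : ℕ) (F : Type*) [Field F] (k : ℕ) :=
  Σ u : {u : sympTail m F k // u ≠ 0}, {w : sympTail m F k // sympForm m F (u.1 : Fin m ⊕ Fin m → F) w = 1}

theorem sympForm_single_pair (i : Fin m) :
    sympForm m F (Pi.single (Sum.inr i) (1 : F)) (Pi.single (Sum.inl i) 1) = 1 := by
  rw [sympForm_single_inl]; simp

theorem mem_sympFix_succ {k : ℕ} (hk : k < m) {A : Matrix.symplecticGroup (Fin m) F}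
    (hA : A ∈ sympFix m F k)
    (h1 : (A : Matrix (Fin m ⊕ Fin m) (Fin m ⊕ Fin m) F) *ᵥ Pi.single (Sum.inl ⟨k, hk⟩) 1 =
      Pi.single (Sum.inl ⟨k, hk⟩) 1)
    (h2 : (A : Matrix (Fin m ⊕ Fin m) (Fin m ⊕ Fin m) F) *ᵥ Pi.single (Sum.inr ⟨k, hk⟩) 1 =
      Pi.single (Sum.inr ⟨k, hk⟩) 1) : A ∈ sympFix m F (k + 1) := by
  intro i hi
  rcases Nat.lt_succ_iff_lt_or_eq.1 hi with h | h
  · exact hA i h
  · have : i = ⟨k, hk⟩ := Fin.ext h
    subst this; exact ⟨h1, h2⟩

theorem sympFix_le_closure (k : ℕ) (hk : k ≤ m) :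
    sympFix m F k ≤ Subgroup.closure (sympTvSet m F) := by
  induction hk using Nat.decreasingInduction with
  | self => rw [sympFix_top]; exact bot_le
  | of_succ k hk ih =>
    intro A hA
    have hl := single_inl_mem_sympTail (F := F) (k := k) (i := ⟨k, hk⟩) le_rfl 1
    have hr := single_inr_mem_sympTail (F := F) (k := k) (i := ⟨k, hk⟩) le_rfl 1
    obtain ⟨B, hB, hB1, hB2⟩ := exists_tvIn_pair (sympTail_nondeg k)
      (sympFix_map_mem_tail hA hr) (sympFix_map_mem_tail hA hl) hr hl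
      ((sympForm_map A _ _).trans (sympForm_single_pair _)) (sympForm_single_pair _)
    have hBA : B * A ∈ sympFix m F (k + 1) := by
      refine mem_sympFix_succ hk (Subgroup.mul_mem _ (closure_tvIn_tail_le_fix k hB) hA) ?_ ?_
      · rw [Submonoid.coe_mul, ← Matrix.mulVec_mulVec]; exact hB2
      · rw [Submonoid.coe_mul, ← Matrix.mulVec_mulVec]; exact hB1
    have := Subgroup.mul_mem _ (Subgroup.inv_mem _ (closure_tvIn_le _ hB)) (ih hBA)
    rwa [inv_mul_cancel_left] at this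

theorem closure_sympTvSet : Subgroup.closure (sympTvSet m F) = ⊤ :=
  top_le_iff.1 (sympFix_zero (m := m) (F := F) ▸ sympFix_le_closure 0 (Nat.zero_le _))

theorem natCard_sympFix_succ [Finite F] {k : ℕ} (hk : k < m) :
    Nat.card (sympFix m F k) = Nat.card (TailPair m F k) * Nat.card (sympFix m F (k + 1)) := by
  classical
  have hl := single_inl_mem_sympTail (F := F) (k := k) (i := ⟨k, hk⟩) le_rfl 1
  have hr := single_inr_mem_sympTail (F := F) (k := k) (i := ⟨k, hk⟩) le_rfl 1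
  have hex : ∀ p : TailPair m F k, ∃ A ∈ sympFix m F k,
      (A : Matrix (Fin m ⊕ Fin m) (Fin m ⊕ Fin m) F) *ᵥ Pi.single (Sum.inr ⟨k, hk⟩) 1 = p.1.1 ∧
      (A : Matrix (Fin m ⊕ Fin m) (Fin m ⊕ Fin m) F) *ᵥ Pi.single (Sum.inl ⟨k, hk⟩) 1 = p.2.1 := by
    intro p
    obtain ⟨A, hA, h1, h2⟩ := exists_tvIn_pair (sympTail_nondeg k) hr hl p.1.1.2 p.2.1.2
      (sympForm_single_pair _) p.2.2
    exact ⟨A, closure_tvIn_tail_le_fix k hA, h1, h2⟩
  choose sec hsec h1 h2 using hex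
  let φ : TailPair m F k × sympFix m F (k + 1) → sympFix m F k := fun x =>
    ⟨sec x.1 * x.2, Subgroup.mul_mem _ (hsec x.1) fun i hi => x.2.2 i (by omega)⟩
  rw [← Nat.card_prod]
  refine (Nat.card_congr (Equiv.ofBijective φ ⟨?_, ?_⟩)).symm
  · rintro ⟨p, B⟩ ⟨p', B'⟩ h
    have hh : sec p * (B : Matrix.symplecticGroup (Fin m) F) = sec p' * B' := congrArg Subtype.val h
    have e1 := congrArg (fun A : Matrix.symplecticGroup (Fin m) F =>
      (A : Matrix (Fin m ⊕ Fin m) (Fin m ⊕ Fin m) F) *ᵥ Pi.single (Sum.inr ⟨k, hk⟩) 1) hh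
    have e2 := congrArg (fun A : Matrix.symplecticGroup (Fin m) F =>
      (A : Matrix (Fin m ⊕ Fin m) (Fin m ⊕ Fin m) F) *ᵥ Pi.single (Sum.inl ⟨k, hk⟩) 1) hh
    simp only [Submonoid.coe_mul, ← Matrix.mulVec_mulVec, (B.2 ⟨k, hk⟩ (Nat.lt_succ_self k)).1,
      (B.2 ⟨k, hk⟩ (Nat.lt_succ_self k)).2, (B'.2 ⟨k, hk⟩ (Nat.lt_succ_self k)).1,
      (B'.2 ⟨k, hk⟩ (Nat.lt_succ_self k)).2, h1, h2] at e1 e2
    obtain ⟨⟨⟨u, hu⟩, hu0⟩, ⟨⟨w, hw⟩, huw⟩⟩ := p
    obtain ⟨⟨⟨u', hu'⟩, hu0'⟩, ⟨⟨w', hw'⟩, huw'⟩⟩ := p'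
    simp only at e1 e2
    subst e1 e2
    exact Prod.ext rfl (Subtype.ext (mul_left_cancel hh))
  · rintro ⟨A, hA⟩
    have hf : sympForm m F ((A : Matrix (Fin m ⊕ Fin m) (Fin m ⊕ Fin m) F) *ᵥ Pi.single (Sum.inr ⟨k, hk⟩) 1)
        ((A : Matrix (Fin m ⊕ Fin m) (Fin m ⊕ Fin m) F) *ᵥ Pi.single (Sum.inl ⟨k, hk⟩) 1) = 1 :=
      (sympForm_map A _ _).trans (sympForm_single_pair _)
    let p : TailPair m F k := ⟨⟨⟨_, sympFix_map_mem_tail hA hr⟩, fun h0 => by
      rw [show ((A : Matrix (Fin m ⊕ Fin m) (Fin m ⊕ Fin m) F) *ᵥ Pi.single (Sum.inr ⟨k, hk⟩) 1) = 0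
        from congrArg Subtype.val h0, sympForm_zero_left] at hf
      exact zero_ne_one hf⟩, ⟨⟨_, sympFix_map_mem_tail hA hl⟩, hf⟩⟩
    refine ⟨(p, ⟨(sec p)⁻¹ * A, mem_sympFix_succ hk
      (Subgroup.mul_mem _ (Subgroup.inv_mem _ (hsec p)) hA) ?_ ?_⟩), Subtype.ext (mul_inv_cancel_left _ _)⟩
    · rw [Submonoid.coe_mul, ← Matrix.mulVec_mulVec]
      show _ *ᵥ ((p.2.1 : sympTail m F k) : Fin m ⊕ Fin m → F) = _
      rw [← h2 p, Matrix.mulVec_mulVec, ← Submonoid.coe_mul, inv_mul_cancel, Submonoid.coe_one, Matrix.one_mulVec]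
    · rw [Submonoid.coe_mul, ← Matrix.mulVec_mulVec]
      show _ *ᵥ ((p.1.1 : sympTail m F k) : Fin m ⊕ Fin m → F) = _
      rw [← h1 p, Matrix.mulVec_mulVec, ← Submonoid.coe_mul, inv_mul_cancel, Submonoid.coe_one, Matrix.one_mulVec]

theorem natCard_sympTail [Finite F] (k : ℕ) :
    Nat.card (sympTail m F k) = Nat.card F ^ (2 * (m - k)) := by
  let e : sympTail m F k ≃ (({i : Fin m // k ≤ (i : ℕ)} ⊕ {i : Fin m // k ≤ (i : ℕ)}) → F) :=
    { toFun := fun v x => (v : Fin m ⊕ Fin m → F) (Sum.map Subtype.val Subtype.val x)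
      invFun := fun g => ⟨Sum.elim (fun i => if h : k ≤ (i : ℕ) then g (Sum.inl ⟨i, h⟩) else 0)
        (fun i => if h : k ≤ (i : ℕ) then g (Sum.inr ⟨i, h⟩) else 0),
        fun i hi => ⟨dif_neg (not_le.2 hi), dif_neg (not_le.2 hi)⟩⟩
      left_inv := fun v => Subtype.ext (funext fun x => by
        rcases x with i | i <;> simp only [Sum.elim_inl, Sum.elim_inr] <;> split_ifs with h
        · rfl
        · exact ((v.2 i (not_le.1 h)).1).symm
        · rfl
        · exact ((v.2 i (not_le.1 h)).2).symm)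
      right_inv := fun g => funext fun x => by
        rcases x with ⟨i, hi⟩ | ⟨i, hi⟩ <;> simp [hi] }
  have hc : Nat.card {i : Fin m // k ≤ (i : ℕ)} = m - k := by
    rw [← Nat.card_fin (m - k)]
    exact Nat.card_congr
      { toFun := fun i => ⟨(i.1 : ℕ) - k, by have := i.1.2; have := i.2; omega⟩
        invFun := fun j => ⟨⟨k + j, by omega⟩, Nat.le_add_right _ _⟩
        left_inv := fun i => Subtype.ext (Fin.ext (by have := i.2; simp; omega))
        right_inv := fun j => Fin.ext (by simp) }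
  rw [Nat.card_congr e, Nat.card_fun, Nat.card_sum, hc, two_mul]

theorem natCard_tailPair [Finite F] {k : ℕ} (hk : k < m) :
    Nat.card (TailPair m F k) =
      (Nat.card F ^ (2 * (m - k)) - 1) * Nat.card F ^ (2 * (m - k) - 1) := by
  classical
  have := Fintype.ofFinite F
  have hfib : ∀ u : {u : sympTail m F k // u ≠ 0},
      Nat.card {w : sympTail m F k // sympForm m F (u.1 : Fin m ⊕ Fin m → F) w = 1} =
        Nat.card F ^ (2 * (m - k) - 1) := by
    intro u
    obtain ⟨w0, hw0, h1⟩ := sympTail_nondeg k (u.1 : Fin m ⊕ Fin m → F) u.1.2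
      (fun h => u.2 (Subtype.ext h))
    let φ : sympTail m F k →ₗ[F] F := (sympB m F (u.1 : Fin m ⊕ Fin m → F)).comp (sympTail m F k).subtype
    have hφ : ∀ w : sympTail m F k, φ w = sympForm m F (u.1 : Fin m ⊕ Fin m → F) w :=
      fun w => sympB_apply _ _
    have hsurj : Function.Surjective φ := fun c => ⟨c • ⟨w0, hw0⟩, by
      rw [map_smul, hφ, h1, smul_eq_mul, mul_one]⟩
    have e : {w : sympTail m F k // sympForm m F (u.1 : Fin m ⊕ Fin m → F) w = 1} ≃ φ.ker :=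
      { toFun := fun w => ⟨w.1 - ⟨w0, hw0⟩, by
          rw [LinearMap.mem_ker, map_sub, hφ, hφ, w.2, h1, sub_self]⟩
        invFun := fun w => ⟨w.1 + ⟨w0, hw0⟩, by
          rw [← hφ, map_add, LinearMap.mem_ker.1 w.2, hφ, h1, zero_add]⟩
        left_inv := fun w => Subtype.ext (sub_add_cancel _ _)
        right_inv := fun w => Subtype.ext (add_sub_cancel_right _ _) }
    rw [Nat.card_congr e]
    have h := Submodule.card_eq_card_quotient_mul_card φ.ker
    rw [natCard_sympTail, Nat.card_congr (φ.quotKerEquivOfSurjective hsurj).toEquiv] at h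
    have hq : 0 < Nat.card F := Nat.card_pos
    have h2 : Nat.card F ^ (2 * (m - k)) = Nat.card F ^ (2 * (m - k) - 1) * Nat.card F := by
      rw [← pow_succ]; congr 1; omega
    rw [h2, mul_comm] at h
    first
      | exact (Nat.eq_of_mul_eq_mul_left hq h).symm
      | exact (Nat.eq_of_mul_eq_mul_right hq (by rw [mul_comm] at h; exact h)).symm
  rw [Nat.card_sigma, Finset.sum_congr rfl (fun u _ => hfib u), Finset.sum_const, Finset.card_univ,
    smul_eq_mul, ← Nat.card_eq_fintype_card]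
  congr 1
  rw [← natCard_sympTail (m := m) (F := F) k, Nat.card_eq_fintype_card, Fintype.card_subtype_compl,
    Fintype.card_subtype_eq, Nat.card_eq_fintype_card]

theorem natCard_sympFix [Finite F] (k : ℕ) (hk : k ≤ m) :
    Nat.card (sympFix m F k) = Nat.card F ^ ((m - k) ^ 2) *
      ∏ i ∈ Finset.range (m - k), (Nat.card F ^ (2 * (i + 1)) - 1) := by
  induction hk using Nat.decreasingInduction with
  | self => rw [sympFix_top]; simp
  | of_succ k hk ih =>
    rw [natCard_sympFix_succ hk, natCard_tailPair hk, ih, show m - k = (m - (k + 1)) + 1 by omega,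
      Finset.prod_range_succ]
    set j := m - (k + 1)
    rw [show (j + 1) ^ 2 = (2 * (j + 1) - 1) + j ^ 2 by
      have : (j + 1) ^ 2 = j ^ 2 + 2 * j + 1 := by ring
      omega, pow_add]
    ring

theorem natCard_symplecticGroup [Finite F] (m : ℕ) :
    Nat.card (Matrix.symplecticGroup (Fin m) F) = Nat.card F ^ (m ^ 2) *
      ∏ i ∈ Finset.range m, (Nat.card F ^ (2 * (i + 1)) - 1) := by
  have := natCard_sympFix (F := F) (m := m) 0 (Nat.zero_le _)
  rw [sympFix_zero, Subgroup.card_top, Nat.sub_zero] at this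
  exact this

end Cfsg.Agent.Classical
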