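import Mathlib
import Cfsg.Agent.Lib.Classical.SympGen

/-! Perfectness, primitivity and simplicity for the symplectic groups. -/

set_option autoImplicit false

namespace Cfsg.Agent.Classical

open Matrix MulAction
open scoped LinearAlgebra.Projectivization commutatorElement Pointwise

variable {F : Type*} [Field F] {m : ℕ}

local notation "V" => (Fin m ⊕ Fin m → F)
local notation "Sp" => Matrix.symplecticGroup (Fin m) F

/-- The element `x ↦ x + c (f(x,a) b + f(x,b) a)`, for orthogonal `a`, `b`. -/
noncomputable def sympShort (a b : V) (c : F) : Sp :=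
  sympTv (a + b) c * sympTv a (-c) * sympTv b (-c)

theorem sympShort_mulVec {a b : V} (h : sympForm m F a b = 0) (c : F) (x : V) :
    (sympShort a b c : Matrix (Fin m ⊕ Fin m) (Fin m ⊕ Fin m) F) *ᵥ x =
      x + (c * sympForm m F x a) • b + (c * sympForm m F x b) • a := by
  have h' : sympForm m F b a = 0 := by rw [sympForm_swap, h, neg_zero]
  show (sympTransvection m (a + b) c * sympTransvection m a (-c) * sympTransvection m b (-c)) *ᵥ x = _
  simp only [← Matrix.mulVec_mulVec, sympTransvection_mulVec, sympForm_add_left, sympForm_add_right,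
    sympForm_smul_left, sympForm_smul_right, sympForm_self, h, h', mul_zero, add_zero, zero_add]
  module

theorem commutatorElement_eq_of_mul_eq {G : Type*} [Group G] {a b c : G} (h : a * b = c * (b * a)) :
    ⁅a, b⁆ = c := by
  rw [commutatorElement_def, h]; group

theorem sympShort_mem_commutator {u z z' w' : V} (huz : sympForm m F u z = 0)
    (huz' : sympForm m F u z' = 0) (huw : sympForm m F u w' = 0) (hzw : sympForm m F z w' = 0)
    (hz'w : sympForm m F z' w' = 0) (hzz : sympForm m F z z' = 1) (c : F) :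
    sympShort w' u (-c) ∈ commutator Sp := by
  have key : ⁅sympShort u z c, sympShort z' w' 1⁆ = sympShort w' u (-c) := by
    refine commutatorElement_eq_of_mul_eq (Subtype.ext (Matrix.ext_iff_mulVec.2 fun x => ?_))
    have hwu : sympForm m F w' u = 0 := by rw [sympForm_swap, huw, neg_zero]
    have hzu : sympForm m F z u = 0 := by rw [sympForm_swap, huz, neg_zero]
    have hz'u : sympForm m F z' u = 0 := by rw [sympForm_swap, huz', neg_zero]
    have hwz : sympForm m F w' z = 0 := by rw [sympForm_swap, hzw, neg_zero]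
    have hwz' : sympForm m F w' z' = 0 := by rw [sympForm_swap, hz'w, neg_zero]
    have hz'z : sympForm m F z' z = -1 := by rw [sympForm_swap, hzz]
    simp only [Submonoid.coe_mul, ← Matrix.mulVec_mulVec, sympShort_mulVec huz,
      sympShort_mulVec hz'w, sympShort_mulVec hwu, sympForm_add_left, sympForm_smul_left,
      sympForm_self, huz, huz', huw, hzw, hz'w, hzz, hwu, hzu, hz'u, hwz, hwz', hz'z]
    module
  rw [← key]
  exact Subgroup.commutator_mem_commutator (Subgroup.mem_top _) (Subgroup.mem_top _)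

theorem sympTv_mem_commutator (hh : (∃ a : F, a ≠ 0 ∧ a ^ 2 ≠ 1) ∨ (2 ≤ m ∧ (2 : F) ≠ 0) ∨ 3 ≤ m)
    (v : V) (c : F) : sympTv v c ∈ commutator Sp := by
  classical
  rcases eq_or_ne v 0 with rfl | hv
  · convert (commutator Sp).one_mem
    exact Subtype.ext (by simp [sympTv, sympTransvection])
  suffices ∃ u : V, u ≠ 0 ∧ ∀ c : F, sympTv u c ∈ commutator Sp by
    obtain ⟨u, hu, hall⟩ := this
    obtain ⟨A, hA⟩ := symp_pretransitive hu hv
    rw [← hA, ← sympTv_conj]
    exact (inferInstance : (commutator Sp).Normal).conj_mem _ (hall c) A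
  have hne : ∀ i : Fin m, (Pi.single (Sum.inr i) 1 : V) ≠ 0 := fun i => by simp
  rcases hh with ⟨a, ha0, ha⟩ | ⟨hm, h2⟩ | hm
  · obtain ⟨A, hA⟩ := symp_pretransitive hv (smul_ne_zero ha0 hv : a • v ≠ 0)
    refine ⟨v, hv, fun c => ?_⟩
    have key : ⁅A, sympTv v (c / (a ^ 2 - 1))⁆ = sympTv v c := by
      rw [commutatorElement_def, sympTv_conj, hA, sympTv_inv]
      refine Subtype.ext ?_
      show sympTransvection m (a • v) _ * sympTransvection m v _ = sympTransvection m v c
      rw [sympTransvection_smul, sympTransvection_mul]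
      congr 1
      field_simp [sub_ne_zero.2 ha]
      ring
    rw [← key]
    exact Subgroup.commutator_mem_commutator (Subgroup.mem_top _) (Subgroup.mem_top _)
  · let i : Fin m := ⟨0, by omega⟩
    let j : Fin m := ⟨1, by omega⟩
    have hij : i ≠ j := by simp [i, j]
    let u : V := Pi.single (Sum.inr i) 1
    let w : V := Pi.single (Sum.inr j) 1
    let w' : V := Pi.single (Sum.inl j) 1
    have huw : sympForm m F u w = 0 := by simp [u, w, sympForm_single_inr]
    have huw' : sympForm m F u w' = 0 := by simp [u, w', sympForm_single_inl, hij.symm]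
    have hww : sympForm m F w w' = 1 := sympForm_single_pair j
    refine ⟨u, hne i, fun c => ?_⟩
    have key : ⁅sympShort u w (-c / 2), sympShort u w' 1⁆ = sympTv u c := by
      refine commutatorElement_eq_of_mul_eq (Subtype.ext (Matrix.ext_iff_mulVec.2 fun x => ?_))
      have hwu : sympForm m F w u = 0 := by rw [sympForm_swap, huw, neg_zero]
      have hw'u : sympForm m F w' u = 0 := by rw [sympForm_swap, huw', neg_zero]
      have hw'w : sympForm m F w' w = -1 := by rw [sympForm_swap, hww]
      simp only [Submonoid.coe_mul, ← Matrix.mulVec_mulVec, sympTv, sympTransvection_mulVec,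
        sympShort_mulVec huw, sympShort_mulVec huw', sympForm_add_left, sympForm_smul_left,
        sympForm_self, huw, huw', hww, hwu, hw'u, hw'w]
      match_scalars <;> field_simp <;> ring
    rw [← key]
    exact Subgroup.commutator_mem_commutator (Subgroup.mem_top _) (Subgroup.mem_top _)
  · let i : Fin m := ⟨0, by omega⟩
    let j : Fin m := ⟨1, by omega⟩
    let k : Fin m := ⟨2, by omega⟩
    have hij : i ≠ j := by simp [i, j]
    have hik : i ≠ k := by simp [i, k]
    have hjk : j ≠ k := by simp [j, k]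
    let u : V := Pi.single (Sum.inr i) 1
    let w : V := Pi.single (Sum.inr j) 1
    let w' : V := Pi.single (Sum.inl j) 1
    let z : V := Pi.single (Sum.inr k) 1
    let z' : V := Pi.single (Sum.inl k) 1
    have huw : sympForm m F u w = 0 := by simp [u, w, sympForm_single_inr]
    have huw' : sympForm m F u w' = 0 := by simp [u, w', sympForm_single_inl, hij.symm]
    have hww : sympForm m F w w' = 1 := sympForm_single_pair j
    have hnu : sympForm m F (-u) w' = 0 := by
      rw [← neg_one_smul F u, sympForm_smul_left, huw', mul_zero]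
    refine ⟨u, hne i, fun c => ?_⟩
    have hshort : sympShort w' (-u) c ∈ commutator Sp := by
      rw [← neg_neg c]
      refine sympShort_mem_commutator (z := z) (z' := z') ?_ ?_ hnu ?_ ?_ (sympForm_single_pair k) _
      · rw [← neg_one_smul F u, sympForm_smul_left]; simp [u, z, sympForm_single_inr]
      · rw [← neg_one_smul F u, sympForm_smul_left]; simp [u, z', sympForm_single_inl, hik.symm]
      · simp [z, w', sympForm_single_inl, hjk]
      · simp [z', w', sympForm_single_inl]
    have key : ⁅sympShort u w 1, sympTv w' c⁆ = sympShort w' (-u) c * sympTv u c := by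
      refine commutatorElement_eq_of_mul_eq (Subtype.ext (Matrix.ext_iff_mulVec.2 fun x => ?_))
      have hwu : sympForm m F w u = 0 := by rw [sympForm_swap, huw, neg_zero]
      have hw'u : sympForm m F w' u = 0 := by rw [sympForm_swap, huw', neg_zero]
      have hw'w : sympForm m F w' w = -1 := by rw [sympForm_swap, hww]
      have hwnu : sympForm m F w' (-u) = 0 := by rw [sympForm_swap, hnu, neg_zero]
      have hneg : ∀ y : V, sympForm m F y (-u) = -sympForm m F y u := fun y => by
        rw [← neg_one_smul F u, sympForm_smul_right, neg_one_mul]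
      simp only [Submonoid.coe_mul, ← Matrix.mulVec_mulVec, sympTv, sympTransvection_mulVec,
        sympShort_mulVec huw, sympShort_mulVec hwnu, hneg,
        sympForm_add_left, sympForm_smul_left,
        sympForm_self, huw, huw', hww, hwu, hw'u, hw'w]
      module
    have hm' : ⁅sympShort u w 1, sympTv w' c⁆ ∈ commutator Sp :=
      Subgroup.commutator_mem_commutator (Subgroup.mem_top _) (Subgroup.mem_top _)
    rw [key] at hm'
    exact ((commutator Sp).mul_mem_cancel_left hshort).1 hm'

theorem symp_commutator_eq_top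
    (hh : (∃ a : F, a ≠ 0 ∧ a ^ 2 ≠ 1) ∨ (2 ≤ m ∧ (2 : F) ≠ 0) ∨ 3 ≤ m) :
    commutator Sp = ⊤ := by
  refine top_le_iff.1 ?_
  rw [← closure_sympTvSet, Subgroup.closure_le]
  rintro A ⟨w, c, h⟩
  have : A = sympTv w c := Subtype.ext h
  exact this ▸ sympTv_mem_commutator hh w c

theorem exists_sq_ne_one_of_four_le [Fintype F] (h : 4 ≤ Fintype.card F) :
    ∃ a : F, a ≠ 0 ∧ a ^ 2 ≠ 1 := by
  classical
  obtain ⟨a, -, ha⟩ := Finset.exists_mem_notMem_of_card_lt_card (s := ({0, 1, -1} : Finset F))
    (t := Finset.univ) (lt_of_le_of_lt Finset.card_le_three (by rw [Finset.card_univ]; omega))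
  simp only [Finset.mem_insert, Finset.mem_singleton, not_or] at ha
  exact ⟨a, ha.1, fun h => (sq_eq_one_iff.1 h).elim ha.2.1 ha.2.2⟩

theorem symp_perfect_of_card [Fintype F] (h : 3 ≤ m ∨ (m = 2 ∧ 3 ≤ Fintype.card F) ∨ 4 ≤ Fintype.card F) :
    commutator Sp = ⊤ := by
  refine symp_commutator_eq_top ?_
  by_cases h4 : 4 ≤ Fintype.card F
  · exact Or.inl (exists_sq_ne_one_of_four_le h4)
  rcases h with h | ⟨h, h3⟩ | h
  · exact Or.inr (Or.inr h)
  · refine Or.inr (Or.inl ⟨h.ge, fun h2 => ?_⟩)
    have hc : Fintype.card F = 3 := by omega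
    have hdvd : ringChar F ∣ 2 := (ringChar.spec F 2).1 (by exact_mod_cast h2)
    obtain ⟨n, hn⟩ := FiniteField.card F (ringChar F)
    have hp : ringChar F = 2 := (Nat.prime_dvd_prime_iff_eq hn.1 Nat.prime_two).1 hdvd
    have : 2 ∣ 3 := hc ▸ hn.2 ▸ hp ▸ dvd_pow_self _ n.ne_zero
    omega
  · omega

/-- The stabiliser moves of the rank three action: orthogonal case. -/
theorem exists_fix_move {u v w : V} (huv : sympForm m F u v = 0) (huw : sympForm m F u w = 0)
    (hv : ∀ c : F, v ≠ c • u) (hw : ∀ c : F, w ≠ c • u) :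
    ∃ A : Sp, (A : Matrix (Fin m ⊕ Fin m) (Fin m ⊕ Fin m) F) *ᵥ u = u ∧
      (A : Matrix (Fin m ⊕ Fin m) (Fin m ⊕ Fin m) F) *ᵥ v = w := by
  have step : ∀ a b : V, sympForm m F u a = 0 → sympForm m F u b = 0 → sympForm m F a b ≠ 0 →
      ∃ A : Sp, (A : Matrix (Fin m ⊕ Fin m) (Fin m ⊕ Fin m) F) *ᵥ u = u ∧
        (A : Matrix (Fin m ⊕ Fin m) (Fin m ⊕ Fin m) F) *ᵥ a = b := by
    intro a b ha hb hab
    refine ⟨sympTv (b - a) (sympForm m F a b)⁻¹, ?_, sympTv_move hab⟩
    show sympTransvection m _ _ *ᵥ u = u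
    rw [sympTransvection_mulVec, sympForm_sub_right, ha, hb, sub_self, mul_zero, zero_smul, add_zero]
  have hu : u ≠ 0 ∨ u = 0 := ne_or_eq u 0
  have aux : ∀ a : V, sympForm m F u a = 0 → (∀ c : F, a ≠ c • u) →
      ∃ z, sympForm m F u z = 0 ∧ sympForm m F a z = 1 := by
    intro a ha hc
    rcases hu with hu | hu
    · obtain ⟨y, hy⟩ := exists_sympForm_eq_one hu
      have hne : a - sympForm m F a y • u ≠ 0 := sub_ne_zero.2 (hc _)
      obtain ⟨t, ht⟩ := exists_sympForm_eq_one hne
      refine ⟨t - sympForm m F u t • y, ?_, ?_⟩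
      · rw [sympForm_sub_right, sympForm_smul_right, hy, mul_one, sub_self]
      · rw [sympForm_sub_left, sympForm_smul_left] at ht
        rw [sympForm_sub_right, sympForm_smul_right]
        linear_combination ht
    · obtain ⟨y, hy⟩ := exists_sympForm_eq_one (u := a) (by simpa using hc 0)
      exact ⟨y, by simp [hu], hy⟩
  by_cases hvw : sympForm m F v w = 0
  · obtain ⟨p, hp0, hp⟩ := aux v huv hv
    obtain ⟨q, hq0, hq⟩ := aux w huw hw
    obtain ⟨z, hz0, hzv, hzw⟩ : ∃ z, sympForm m F u z = 0 ∧ sympForm m F v z ≠ 0 ∧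
        sympForm m F z w ≠ 0 := by
      by_cases h1 : sympForm m F w p = 0
      · by_cases h2 : sympForm m F v q = 0
        · refine ⟨p + q, by rw [sympForm_add_right, hp0, hq0, add_zero], ?_, ?_⟩
          · rw [sympForm_add_right, hp, h2]; simp
          · rw [sympForm_swap, sympForm_add_right, hq, h1]; simp
        · exact ⟨q, hq0, h2, by rw [sympForm_swap, hq]; simp⟩
      · exact ⟨p, hp0, by simp [hp], by rw [sympForm_swap]; simpa using h1⟩
    obtain ⟨A, hAu, hAv⟩ := step v z huv hz0 hzv
    obtain ⟨B, hBu, hBz⟩ := step z w hz0 huw hzw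
    exact ⟨B * A, by rw [Submonoid.coe_mul, ← Matrix.mulVec_mulVec, hAu, hBu],
      by rw [Submonoid.coe_mul, ← Matrix.mulVec_mulVec, hAv, hBz]⟩
  · exact step v w huv huw hvw

theorem smul_mk_symp (A : Sp) {v : V} (hv : v ≠ 0) :
    A • Projectivization.mk F v hv = Projectivization.mk F
      ((A : Matrix (Fin m ⊕ Fin m) (Fin m ⊕ Fin m) F) *ᵥ v) ((smul_ne_zero_iff_ne A).mpr hv) :=
  Projectivization.smul_mk A hv

instance symp_isPretransitive_proj : IsPretransitive Sp (ℙ F V) := by
  constructor
  intro p q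
  induction p using Projectivization.ind with | _ v hv =>
  induction q using Projectivization.ind with | _ w hw =>
  obtain ⟨A, hA⟩ := symp_pretransitive hv hw
  exact ⟨A, by rw [smul_mk_symp]; exact (Projectivization.mk_eq_mk_iff' _ _ _ _ _).2 ⟨1, by rw [hA, one_smul]⟩⟩

instance symp_isPreprimitive_proj : IsPreprimitive Sp (ℙ F V) where
  isTrivialBlock_of_isBlock {B} hB := by
    by_cases hs : B.Subsingleton
    · exact Or.inl hs
    refine Or.inr (Set.eq_univ_of_forall fun r => ?_)
    have mem_of : ∀ {u v : V} (hu : u ≠ 0) (hv : v ≠ 0) (A : Sp),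
        Projectivization.mk F u hu ∈ B → Projectivization.mk F v hv ∈ B →
        (A : Matrix (Fin m ⊕ Fin m) (Fin m ⊕ Fin m) F) *ᵥ u = u →
        ∀ (hw : (A : Matrix (Fin m ⊕ Fin m) (Fin m ⊕ Fin m) F) *ᵥ v ≠ 0),
          Projectivization.mk F _ hw ∈ B := by
      intro u v hu hv A huB hvB hAu hw
      have h1 : A • Projectivization.mk F u hu = Projectivization.mk F u hu := by
        rw [smul_mk_symp]; exact (Projectivization.mk_eq_mk_iff' _ _ _ _ _).2 ⟨1, by rw [hAu, one_smul]⟩
      have h2 := hB.smul_eq_of_mem huB (g := A) (by rw [h1]; exact huB)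
      have h3 : A • Projectivization.mk F v hv ∈ A • B := Set.smul_mem_smul_set hvB
      rw [h2, smul_mk_symp] at h3
      exact h3
    have mk_congr : ∀ {v w : V} (hv : v ≠ 0) (hw : w ≠ 0), v = w →
        Projectivization.mk F v hv = Projectivization.mk F w hw := by
      intro v w hv hw h; subst h; rfl
    have scale : ∀ {v : V} (hv : v ≠ 0) (a : F) (ha : a ≠ 0),
        Projectivization.mk F (a • v) (smul_ne_zero ha hv) = Projectivization.mk F v hv :=
      fun {v} hv a ha => (Projectivization.mk_eq_mk_iff' _ _ _ _ _).2 ⟨a, rfl⟩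
    -- non-orthogonal pairs
    have non : ∀ {u v w : V} (hu : u ≠ 0) (hv : v ≠ 0) (hw : w ≠ 0),
        Projectivization.mk F u hu ∈ B → Projectivization.mk F v hv ∈ B →
        sympForm m F u v ≠ 0 → sympForm m F u w ≠ 0 → Projectivization.mk F w hw ∈ B := by
      intro u v w hu hv hw huB hvB h1 h2
      obtain ⟨A, -, hAu, hAv⟩ := exists_closure_pair (u := u) (v := (sympForm m F u v)⁻¹ • v) (u' := u)
        (v' := (sympForm m F u w)⁻¹ • w) (by rw [sympForm_smul_right, inv_mul_cancel₀ h1])
        (by rw [sympForm_smul_right, inv_mul_cancel₀ h2])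
      have := mem_of hu (smul_ne_zero (inv_ne_zero h1) hv) A huB (by rwa [scale hv _ (inv_ne_zero h1)]) hAu
        (by rw [hAv]; exact smul_ne_zero (inv_ne_zero h2) hw)
      rwa [mk_congr _ (smul_ne_zero (inv_ne_zero h2) hw) hAv, scale hw _ (inv_ne_zero h2)] at this
    have orth : ∀ {u v w : V} (hu : u ≠ 0) (hv : v ≠ 0) (hw : w ≠ 0),
        Projectivization.mk F u hu ∈ B → Projectivization.mk F v hv ∈ B →
        (∀ c : F, v ≠ c • u) →
        sympForm m F u v = 0 → sympForm m F u w = 0 → Projectivization.mk F w hw ∈ B := by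
      intro u v w hu hv hw huB hvB hc h1 h2
      by_cases hwu : ∃ c : F, w = c • u
      · obtain ⟨c, rfl⟩ := hwu
        rwa [(Projectivization.mk_eq_mk_iff' F (c • u) u hw hu).2 ⟨c, rfl⟩]
      obtain ⟨A, hAu, hAv⟩ := exists_fix_move h1 h2 hc (fun c h => hwu ⟨c, h⟩)
      have := mem_of hu hv A huB hvB hAu (by rw [hAv]; exact hw)
      rwa [mk_congr _ hw hAv] at this
    obtain ⟨p, hp, q, hq, hpq⟩ := Set.not_subsingleton_iff.1 hs
    induction p using Projectivization.ind with | _ u hu =>
    induction q using Projectivization.ind with | _ v hv =>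
    induction r using Projectivization.ind with | _ w hw =>
    have hc : ∀ c : F, v ≠ c • u := fun c hcv =>
      hpq ((Projectivization.mk_eq_mk_iff' F v u hv hu).2 ⟨c, hcv.symm⟩).symm
    by_cases huv : sympForm m F u v = 0
    · by_cases huw : sympForm m F u w = 0
      · exact orth hu hv hw hp hq hc huv huw
      · -- an auxiliary point orthogonal to both `u` and `w`
        set z : V := v - (sympForm m F w v / sympForm m F w u) • u with hz
        have hwu : sympForm m F w u ≠ 0 := by rw [sympForm_swap]; simpa using huw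
        have hz0 : z ≠ 0 := sub_ne_zero.2 (hc _)
        have huz : sympForm m F u z = 0 := by
          rw [hz, sympForm_sub_right, sympForm_smul_right, huv, sympForm_self]; ring
        have hwz : sympForm m F w z = 0 := by
          rw [hz, sympForm_sub_right, sympForm_smul_right, div_mul_cancel₀ _ hwu, sub_self]
        have hzB := orth hu hv hz0 hp hq hc huv huz
        refine orth hz0 hu hw hzB hp (fun c h => ?_) (by rw [sympForm_swap, huz, neg_zero])
          (by rw [sympForm_swap, hwz, neg_zero])
        refine huw ?_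
        rw [h, sympForm_smul_left, sympForm_swap z w, hwz, neg_zero, mul_zero]
    · by_cases huw : sympForm m F u w = 0
      · obtain ⟨z, hz1, hz2⟩ := exists_sympForm_ne_zero_both hu hw
        have hz0 : z ≠ 0 := by rintro rfl; simp at hz1
        have hzB := non hu hv hz0 hp hq huv hz1
        exact non hz0 hu hw hzB hp (by rw [sympForm_swap]; simpa using hz1)
          (by rw [sympForm_swap]; simpa using hz2)
      · exact non hu hv hw hp hq huv huw

/-- The transvection group with a given centre. -/
noncomputable def sympRootGroup (v : V) : Subgroup Sp where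
  carrier := {A | ∃ c : F, A = sympTv v c}
  mul_mem' := by rintro _ _ ⟨c, rfl⟩ ⟨d, rfl⟩; exact ⟨c + d, sympTv_mul v c d⟩
  one_mem' := ⟨0, (sympTv_zero v).symm⟩
  inv_mem' := by rintro _ ⟨c, rfl⟩; exact ⟨-c, sympTv_inv v c⟩

theorem sympRootGroup_smul (v : V) {a : F} (ha : a ≠ 0) :
    sympRootGroup (a • v) = sympRootGroup v := by
  ext A
  constructor
  · rintro ⟨c, rfl⟩; exact ⟨a ^ 2 * c, Subtype.ext (sympTransvection_smul v a c)⟩
  · rintro ⟨c, rfl⟩
    refine ⟨(a ^ 2)⁻¹ * c, Subtype.ext ?_⟩
    show _ = sympTransvection m (a • v) _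
    rw [sympTransvection_smul, ← mul_assoc, mul_inv_cancel₀ (pow_ne_zero 2 ha), one_mul]
    rfl

/-- The Iwasawa structure of the symplectic group. -/
noncomputable def sympIwasawa : IwasawaStructure Sp (ℙ F V) where
  T p := sympRootGroup p.rep
  is_comm p := ⟨⟨by
    rintro ⟨_, c, rfl⟩ ⟨_, d, rfl⟩
    exact Subtype.ext ((sympTv_mul _ c d).trans ((by rw [add_comm] : _ = sympTv p.rep (d + c)).trans
      (sympTv_mul _ d c).symm))⟩⟩
  is_conj A p := by
    obtain ⟨a, ha⟩ : ∃ a : Fˣ, (A • p).rep = a • ((A : Matrix (Fin m ⊕ Fin m) (Fin m ⊕ Fin m) F) *ᵥ p.rep) := by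
      have hne : (A : Matrix (Fin m ⊕ Fin m) (Fin m ⊕ Fin m) F) *ᵥ p.rep ≠ 0 :=
        (smul_ne_zero_iff_ne A).mpr p.rep_nonzero
      have h : A • p = Projectivization.mk F _ hne := by
        conv_lhs => rw [← p.mk_rep]
        exact smul_mk_symp A p.rep_nonzero
      rw [h]
      obtain ⟨a, ha⟩ := Projectivization.exists_smul_eq_mk_rep F _ hne
      exact ⟨a, ha.symm⟩
    show sympRootGroup (A • p).rep = _
    rw [ha, Units.smul_def, sympRootGroup_smul _ a.ne_zero]
    ext B
    rw [Subgroup.mem_pointwise_smul_iff_inv_smul_mem]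
    constructor
    · rintro ⟨c, rfl⟩
      refine ⟨c, ?_⟩
      rw [← sympTv_conj, MulAut.smul_def, MulAut.conj_inv_apply]; group
    · rintro ⟨c, hc⟩
      refine ⟨c, ?_⟩
      rw [MulAut.smul_def, MulAut.conj_inv_apply] at hc
      rw [← sympTv_conj, ← hc]; group
  is_generator := by
    refine top_le_iff.1 ?_
    rw [← closure_sympTvSet, Subgroup.closure_le]
    rintro A ⟨w, c, h⟩
    have : A = sympTv w c := Subtype.ext h
    subst this
    rcases eq_or_ne w 0 with rfl | hw
    · rw [show sympTv (0 : V) c = 1 from Subtype.ext (by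
        show sympTransvection m 0 c = 1
        simp [sympTransvection])]
      exact Subgroup.one_mem _
    · refine Subgroup.mem_iSup_of_mem (Projectivization.mk F w hw) ?_
      obtain ⟨a, ha⟩ := Projectivization.exists_smul_eq_mk_rep F w hw
      show sympTv w c ∈ sympRootGroup (Projectivization.mk F w hw).rep
      rw [← ha, Units.smul_def, sympRootGroup_smul _ a.ne_zero]
      exact ⟨c, rfl⟩

theorem mem_center_of_fixes_proj {A : Sp} (h : ∀ p : ℙ F V, A • p = p) : A ∈ Subgroup.center Sp := by
  set a := Matrix.toLin' (A : Matrix (Fin m ⊕ Fin m) (Fin m ⊕ Fin m) F)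
  obtain ⟨l, hl⟩ : ∃ l : F, a = l • LinearMap.id := by
    refine LinearMap.exists_eq_smul_id_of_forall_notLinearIndependent fun v => ?_
    rcases eq_or_ne v 0 with rfl | hv
    · exact fun hli => (hli.ne_zero 0) (by simp)
    · have h1 := h (Projectivization.mk F v hv)
      rw [smul_mk_symp, Projectivization.mk_eq_mk_iff'] at h1
      obtain ⟨r, hr⟩ := h1
      intro hli
      have := LinearIndependent.pair_iff.1 hli r (-1) (by simp [a, hr])
      simpa using this.2
  have hA : (A : Matrix (Fin m ⊕ Fin m) (Fin m ⊕ Fin m) F) = l • 1 :=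
    Matrix.toLin'.injective (by rw [map_smul, Matrix.toLin'_one]; exact hl)
  exact Subgroup.mem_center_iff.2 fun g => Subtype.ext (by simp [hA])

theorem PSp_isSimpleGroup (hm : 1 ≤ m) (hperf : commutator Sp = ⊤) : IsSimpleGroup (PSp m F) := by
  have hnt : Nontrivial (PSp m F) := by
    have hu : (Pi.single (Sum.inr (⟨0, hm⟩ : Fin m)) 1 : V) ≠ 0 := by simp
    have : (sympTv (Pi.single (Sum.inr (⟨0, hm⟩ : Fin m)) 1 : V) 1) ∉ Subgroup.center Sp := by
      intro hc
      obtain ⟨y, hy⟩ := exists_sympForm_eq_one hu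
      obtain ⟨A, hA⟩ := symp_pretransitive hu (w := y) (by rintro rfl; simp at hy)
      have h1 := sympTv_conj A (Pi.single (Sum.inr (⟨0, hm⟩ : Fin m)) 1 : V) 1
      rw [Subgroup.mem_center_iff.1 hc A, mul_inv_cancel_right, hA] at h1
      have h2 := congrArg (fun B : Sp => (B : Matrix (Fin m ⊕ Fin m) (Fin m ⊕ Fin m) F) *ᵥ y) h1
      simp only [sympTv, sympTransvection_mulVec, sympForm_self, mul_zero, zero_smul, add_zero] at h2
      rw [add_eq_left, smul_eq_zero] at h2
      rcases h2 with h2 | h2
      · rw [one_mul, sympForm_swap, hy] at h2; simp at h2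
      · exact hu h2
    exact ⟨⟨_, 1, fun h => this ((QuotientGroup.eq_one_iff _).1 h)⟩⟩
  refine ⟨fun N hN => ?_⟩
  have : (N.comap (QuotientGroup.mk' (Subgroup.center Sp))).Normal := hN.comap _
  set N' := N.comap (QuotientGroup.mk' (Subgroup.center Sp))
  have hq : Function.Surjective (QuotientGroup.mk' (Subgroup.center Sp)) := QuotientGroup.mk'_surjective _
  rw [← Subgroup.map_comap_eq_self_of_surjective hq N]
  by_cases hfix : fixedPoints N' (ℙ F V) = Set.univ
  · left
    refine (Subgroup.map_eq_bot_iff _).2 ?_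
    rw [QuotientGroup.ker_mk']
    exact fun A hA => mem_center_of_fixes_proj fun p =>
      (Set.eq_univ_iff_forall.1 hfix p : p ∈ fixedPoints N' _) ⟨A, hA⟩
  · right
    have hle := sympIwasawa.commutator_le N' hfix
    rw [hperf, top_le_iff] at hle
    show Subgroup.map _ N' = ⊤
    rw [hle, Subgroup.map_top_of_surjective _ hq]

end Cfsg.Agent.Classical
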