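import Cfsg.Agent.Lib.Classical.PSpFieldAut
import Cfsg.Agent.Lib.Classical.SympSimple
import Cfsg.Agent.Lib.Classical.LocalBalance

/-!
Failure of local balance in almost simple groups with socle `PSp_{2m}(q)`.
-/

set_option autoImplicit false
set_option linter.unusedSectionVars false

namespace Cfsg.Agent.Classical.PSpAut

open Matrix Cfsg.Agent.Classical.Descent
open scoped commutatorElement

variable {F : Type*} [Field F] [Fintype F] {m : ℕ} {p : ℕ} [Fact p.Prime] [CharP F p]

local notation "V" => (Fin m ⊕ Fin m → F)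
local notation "Sp" => Matrix.symplecticGroup (Fin m) F
local notation "PS" => PSp m F
local notation "MI" => Matrix (Fin m ⊕ Fin m) (Fin m ⊕ Fin m) F
local notation "GI" => GL (Fin m ⊕ Fin m) F
local notation "π" => spToPSp m F

theorem conj_injective (hm : 1 ≤ m) : Function.Injective (MulAut.conj : PS →* MulAut PS) := by
  refine (injective_iff_map_eq_one _).2 fun x hx => ?_
  obtain ⟨s, rfl⟩ := spToPSp_surjective x
  rw [conj_eq_pspSemi, pspSemi_eq_one_iff hm] at hx
  obtain ⟨-, c, hc⟩ := hx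
  have hs : (s : MI) = (c : F) • (1 : MI) := by
    have := congrArg (fun g : GSp m F => ((g : GI) : MI)) hc
    simpa [spToGSp_coe, gspScalar_coe, Matrix.smul_one_eq_diagonal] using this
  refine (QuotientGroup.eq_one_iff s).2 (Subgroup.mem_center_iff.2 fun t => Subtype.ext ?_)
  show (t : MI) * (s : MI) = (s : MI) * (t : MI)
  rw [hs, Matrix.mul_smul, Matrix.smul_mul, Matrix.mul_one, Matrix.one_mul]

include p in
/-- In characteristic two one transvection image decides. -/
theorem presTV_of_single (hp : p = 2) {β : MulAut PS} {e : V} (he : e ≠ 0) {w : V}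
    (hβ : β (π (sympTv e 1)) = π (sympTv w 1)) : PresTV β := by
  subst hp
  have hw : w ≠ 0 := by
    intro h0
    have h1 : β (π (sympTv e 1)) = β 1 := by
      rw [hβ, map_one, h0, show (sympTv (0 : V) (1 : F)) = 1 from Subtype.ext (by simp [sympTv, sympTransvection]),
        map_one]
    have h2 := sympTv_eq_of_pi_eq (v := e) (w := e) (d := 0) he
      (by rw [β.injective h1, sympTv_zero, map_one])
    exact one_ne_zero (sympTv_coeff_inj he h2)
  rintro _ ⟨v, r, hv, rfl⟩
  by_cases hr : r = 0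
  · exact ⟨v, 0, hv, by rw [hr, sympTv_zero, map_one, map_one]⟩
  obtain ⟨s, hs⟩ := FiniteField.isSquare_of_char_two (ringChar.eq F 2) r
  have hs0 : s ≠ 0 := fun h0 => hr (by rw [hs, h0, zero_mul])
  obtain ⟨A, hA⟩ := symp_pretransitive he (smul_ne_zero hs0 hv)
  have hvr : sympTv v r = A * sympTv e 1 * A⁻¹ := by
    rw [sympTv_conj, hA, sympTv_smul, mul_one, hs, sq]
  obtain ⟨y, hy⟩ := spToPSp_surjective (β (π A))
  refine ⟨(y : MI) *ᵥ w, 1, fun h0 => hw ?_, ?_⟩
  · have h1 := congrArg (((y⁻¹ : Sp) : MI) *ᵥ ·) h0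
    simp only [Matrix.mulVec_mulVec, ← Submonoid.coe_mul, inv_mul_cancel, Matrix.mulVec_zero] at h1
    exact (Matrix.one_mulVec w).symm.trans h1
  · rw [hvr, map_mul, map_mul, map_inv, map_mul, map_mul, map_inv, hβ, ← hy, ← sympTv_conj]
    simp only [map_mul, map_inv]

/-- A transvection in characteristic two is not a square. -/
theorem not_sq_tv [CharP F 2] {v : V} (hv : v ≠ 0) {c : F} (hc : c ≠ 0) (g : Sp) : g * g ≠ sympTv v c := by
  intro h
  obtain ⟨w, hw⟩ := exists_sympForm_eq_one hv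
  have hww : sympForm m F w v = 1 := by rw [sympForm_swap, hw, CharTwo.neg_eq]
  have h2 : ∀ x, (g : MI) *ᵥ ((g : MI) *ᵥ x) = x + (c * sympForm m F x v) • v := fun x => by
    rw [Matrix.mulVec_mulVec, ← sympTv_apply, ← h]; rfl
  set a := (g : MI) *ᵥ w - w
  have hgw : (g : MI) *ᵥ w = w + a := (add_sub_cancel _ _).symm
  have hga : (g : MI) *ᵥ a = a + c • v := by
    have h3 := h2 w
    rw [hww, mul_one, hgw, Matrix.mulVec_add, hgw] at h3
    have haa : a + a = 0 := funext fun i => CharTwo.add_self_eq_zero _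
    calc (g : MI) *ᵥ a = (a + a) + (g : MI) *ᵥ a := by rw [haa, zero_add]
      _ = a + (w + a + (g : MI) *ᵥ a) - w := by abel
      _ = a + c • v := by rw [h3]; abel
  -- `g` fixes `v`
  have hgv : (g : MI) *ᵥ v = v := by
    have h4 : ∀ x, (g : MI) *ᵥ x + (c * sympForm m F x v) • ((g : MI) *ᵥ v) =
        (g : MI) *ᵥ x + (c * sympForm m F ((g : MI) *ᵥ x) v) • v := fun x => by
      rw [← Matrix.mulVec_smul, ← Matrix.mulVec_add, ← h2 x, h2 ((g : MI) *ᵥ x)]
    have h5 := add_left_cancel (h4 w)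
    rw [hww, mul_one] at h5
    set k := sympForm m F ((g : MI) *ᵥ w) v
    have h6 : (g : MI) *ᵥ v = k • v := by
      have := congrArg (c⁻¹ • ·) h5
      simpa [smul_smul, hc] using this
    have h7 := h2 v
    rw [sympForm_self, mul_zero, zero_smul, add_zero, h6, Matrix.mulVec_smul, h6, smul_smul] at h7
    obtain ⟨i, hi⟩ : ∃ i, v i ≠ 0 := Function.ne_iff.1 hv
    have h8 : (k * k - 1) * v i = 0 := by
      have := congrFun h7 i
      simp only [Pi.smul_apply, smul_eq_mul] at this
      linear_combination this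
    have h9 : (k - 1) * (k - 1) = 0 := by
      linear_combination (mul_eq_zero.1 h8).resolve_right hi - (k - 1) * (CharTwo.two_eq_zero (R := F))
    rw [h6, sub_eq_zero.1 (mul_self_eq_zero.1 h9), one_smul]
  have hav : sympForm m F a v = 0 := by
    have := sympForm_map g w v
    rw [hgw, hgv, sympForm_add_left, add_eq_left] at this
    exact this
  have := sympForm_map g a w
  rw [hga, hgw, sympForm_add_left, sympForm_add_right, sympForm_add_right, sympForm_self,
    sympForm_smul_left, sympForm_smul_left, hw, sympForm_swap v a, hav] at this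
  simp at this
  exact hc this

include p in
/-- Automorphisms of odd prime order map transvections to transvections, also for `Sp₄` in characteristic two. -/
theorem presTV_of_odd (hm : m = 2) (hp : p = 2) (β : MulAut PS) {k : ℕ} (hk : Odd k) (hβ : β ^ k = 1) :
    PresTV β := by
  classical
  subst hp
  have hm1 : 1 ≤ m := by omega
  set o : Fin m := ⟨0, by omega⟩
  set o1 : Fin m := ⟨1, by omega⟩
  have h01 : o ≠ o1 := by simp [o, o1, Fin.ext_iff]
  set e : V := Pi.single (Sum.inl o) 1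
  have he : e ≠ 0 := by simp [e]
  set zf : F → F → MI := fun c b => 1 + (Matrix.single (Sum.inl o) (Sum.inr o) c +
    Matrix.single (Sum.inl o) (Sum.inr o1) b + Matrix.single (Sum.inl o1) (Sum.inr o) b)
  -- scaling by the torus
  have scale : ∀ (z : Sp) (c b : F), (z : MI) = zf c b → ∀ d : Fin m → F, (∀ i, d i ≠ 0) →
      ∃ k : Sp, ((k * z * k⁻¹ : Sp) : MI) = zf (d o ^ 2 * c) (d o * d o1 * b) := by
    intro z c b hz d hd
    set D : MI := Matrix.diagonal (Sum.elim d fun i => (d i)⁻¹)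
    set D' : MI := Matrix.diagonal (Sum.elim (fun i => (d i)⁻¹) d)
    have hDD : D * D' = 1 := by
      rw [Matrix.diagonal_mul_diagonal, ← Matrix.diagonal_one]
      congr 1
      funext k; rcases k with k | k <;> simp [hd k]
    have hDmem : D ∈ Matrix.symplecticGroup (Fin m) F := by
      refine mem_symplecticGroup_iff_form.2 fun u v => ?_
      simp only [sympForm_eq_sum, D, Matrix.mulVec_diagonal, Sum.elim_inl, Sum.elim_inr]
      refine Finset.sum_congr rfl fun i _ => ?_
      have := hd i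
      field_simp
    set k : Sp := ⟨D, hDmem⟩
    have hk' : ((k⁻¹ : Sp) : MI) = D' := by
      calc ((k⁻¹ : Sp) : MI) = ((k⁻¹ : Sp) : MI) * (D * D') := by rw [hDD, mul_one]
        _ = D' := by
          rw [← mul_assoc, show D = ((k : Sp) : MI) from rfl, ← Submonoid.coe_mul, inv_mul_cancel]
          exact one_mul _
    refine ⟨k, ?_⟩
    have hcj : ∀ (x y : Fin m ⊕ Fin m) (r : F), D * Matrix.single x y r * D' =
        Matrix.single x y (Sum.elim d (fun i => (d i)⁻¹) x * r * Sum.elim (fun i => (d i)⁻¹) d y) := by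
      intro x y r
      ext i j
      simp only [D, D', Matrix.mul_diagonal, Matrix.diagonal_mul, Matrix.single_apply]
      split_ifs with h
      · rw [h.1, h.2]
      · simp
    simp only [zf] at hz ⊢
    rw [Submonoid.coe_mul, Submonoid.coe_mul, hk', show ((k : Sp) : MI) = D from rfl, hz, mul_add,
      mul_one, add_mul, hDD, mul_add, mul_add, add_mul, add_mul, hcj, hcj, hcj]
    simp only [Sum.elim_inl, Sum.elim_inr]
    rw [show d o * c * d o = d o ^ 2 * c by ring, show d o * b * d o1 = d o * d o1 * b by ring,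
      show d o1 * b * d o = d o * d o1 * b by ring]
  -- the classes of the images
  have classify : ∀ γ : MulAut PS, (∃ (g : PS) (w : V), γ (π (sympTv e 1)) = g * π (sympTv w 1) * g⁻¹) ∨
      ∃ (g : PS) (z : Sp), (z : MI) = zf 0 1 ∧ γ (π (sympTv e 1)) = g * π z * g⁻¹ := by
    intro γ
    obtain ⟨g, z, a, c, b, ha, -, hz, hgz⟩ := exists_normal_form (p := 2) (by omega) γ he 1
    have ha1 : a = 1 := by
      have h1 : (a - 1) * (a - 1) = 0 := by
        linear_combination ha - (CharTwo.two_eq_zero (R := F)) * (a - 1)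
      exact sub_eq_zero.1 (mul_self_eq_zero.1 h1)
    subst ha1
    rw [one_smul] at hz
    have hz' : (z : MI) = zf c b := hz
    have hg : γ (π (sympTv e 1)) = g * π z * g⁻¹ := by rw [hgz]; group
    by_cases hb : b = 0
    · obtain ⟨r, hr⟩ := FiniteField.isSquare_of_char_two (ringChar.eq F 2) c
      refine Or.inl ⟨g, r • e, ?_⟩
      rw [hg]
      congr 3
      refine Subtype.ext (Matrix.ext_iff_mulVec.2 fun x => ?_)
      rw [sympTv_smul, mul_one, sq, ← hr, sympTv_apply, hz', show sympForm m F x e = x (Sum.inr o) * 1 from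
        sympForm_single_inl x o 1]
      simp [zf, hb, e, Matrix.add_mulVec, Matrix.single_mulVec, mul_comm]
      funext l
      by_cases hl : l = Sum.inl o <;> simp [hl]
    by_cases hc : c = 0
    · obtain ⟨k, hk⟩ := scale z c b hz' (fun i => if i = o1 then b⁻¹ else 1) (fun i => by
        split_ifs <;> simp [hb])
      refine Or.inr ⟨g * (π k)⁻¹, k * z * k⁻¹, ?_, ?_⟩
      · rw [hk]; simp [hc, hb, h01]
      · rw [hg]; simp only [map_mul, map_inv]; group
    -- otherwise a square, which is impossible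
    exfalso
    obtain ⟨r, hr⟩ := FiniteField.isSquare_of_char_two (ringChar.eq F 2) c⁻¹
    have hr0 : r ≠ 0 := fun h0 => inv_ne_zero hc (by rw [hr, h0, zero_mul])
    obtain ⟨k, hk⟩ := scale z c b hz' (fun i => if i = o1 then (r * b)⁻¹ else r) (fun i => by
      split_ifs <;> simp [hb, hr0])
    have hk1 : ((k * z * k⁻¹ : Sp) : MI) = zf 1 1 := by
      rw [hk]
      simp only [if_neg h01, ↓reduceIte]
      rw [sq, ← hr, inv_mul_cancel₀ hc, mul_comm r, mul_assoc, inv_mul_cancel₀ (mul_ne_zero hr0 hb)]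
    -- an element of order four squaring to it
    have h10 : o1 ≠ o := Ne.symm h01
    have h2 : (2 : F) = 0 := CharTwo.two_eq_zero
    set R : MI := 1 + (Matrix.single (Sum.inl o) (Sum.inl o1) 1 + Matrix.single (Sum.inr o1) (Sum.inr o) 1 +
      Matrix.single (Sum.inl o) (Sum.inr o1) 1 + Matrix.single (Sum.inl o1) (Sum.inr o1) 1)
    have hR : ∀ u : V, R *ᵥ u = u + ((Pi.single (Sum.inl o) (u (Sum.inl o1)) : V) +
        Pi.single (Sum.inr o1) (u (Sum.inr o)) + Pi.single (Sum.inl o) (u (Sum.inr o1)) +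
        Pi.single (Sum.inl o1) (u (Sum.inr o1))) := fun u => by
      simp only [R, Matrix.add_mulVec, Matrix.one_mulVec, Matrix.single_mulVec, one_mul]
      funext l
      simp [Pi.single_apply, Function.update_apply]
    have huniv : (Finset.univ : Finset (Fin m)) = {o, o1} := by
      ext i
      simp only [Finset.mem_univ, Finset.mem_insert, Finset.mem_singleton, true_iff, o, o1, Fin.ext_iff]
      have := i.2
      omega
    have hRmem : R ∈ Matrix.symplecticGroup (Fin m) F := by
      refine mem_symplecticGroup_iff_form.2 fun u v => ?_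
      rw [hR, hR, sympForm_eq_sum, sympForm_eq_sum, huniv, Finset.sum_pair h01, Finset.sum_pair h01]
      simp [h01, h10]
      linear_combination (u (Sum.inr o) * v (Sum.inl o1) + u (Sum.inr o) * v (Sum.inr o1) -
        u (Sum.inl o1) * v (Sum.inr o) - u (Sum.inr o1) * v (Sum.inr o)) * h2
    set Rs : Sp := ⟨R, hRmem⟩
    have hsq : Rs * Rs = k * z * k⁻¹ := by
      refine Subtype.ext (Matrix.ext_iff_mulVec.2 fun u => ?_)
      rw [hk1, Submonoid.coe_mul, show ((Rs : Sp) : MI) = R from rfl, ← Matrix.mulVec_mulVec, hR, hR]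
      simp only [zf, Matrix.add_mulVec, Matrix.one_mulVec, Matrix.single_mulVec, one_mul]
      funext l
      rcases l with i | i <;> obtain rfl | rfl : i = o ∨ i = o1 := (by simpa [huniv] using Finset.mem_univ i)
      all_goals simp [h01, h10, Function.update_apply]
      all_goals ring_nf
      all_goals simp [h2, show (3 : F) = 1 by linear_combination h2]
    obtain ⟨y, hy⟩ := spToPSp_surjective ((γ⁻¹ : MulAut PS) (g * (π k)⁻¹ * π Rs * (g * (π k)⁻¹)⁻¹))
    have hpi : π (y * y) = π (sympTv e 1) := by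
      apply γ.injective
      have hcancel : ∀ x, γ ((γ⁻¹ : MulAut PS) x) = x := fun x => γ.apply_symm_apply x
      rw [map_mul, hy, map_mul, hcancel, hg]
      calc _ = g * (π k)⁻¹ * π (Rs * Rs) * (g * (π k)⁻¹)⁻¹ := by rw [map_mul]; group
        _ = _ := by rw [hsq, map_mul, map_mul, map_inv]; group
    have hy2 : π ((y * y)⁻¹ * sympTv e 1) = 1 := by rw [map_mul, map_inv, hpi, inv_mul_cancel]
    obtain ⟨l, hl, hl'⟩ := (pi_eq_one_iff (by omega)).1 hy2
    have hl1 : l = 1 := by
      have h9 : (l - 1) * (l - 1) = 0 := by linear_combination hl - (l - 1) * h2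
      exact sub_eq_zero.1 (mul_self_eq_zero.1 h9)
    rw [hl1, one_smul] at hl'
    exact not_sq_tv he one_ne_zero y (inv_mul_eq_one.1 (Subtype.ext hl'))
  -- it is enough to treat the square
  have good : ∀ γ : MulAut PS, (∃ (g : PS) (w : V), γ (π (sympTv e 1)) = g * π (sympTv w 1) * g⁻¹) →
      PresTV γ := by
    rintro γ ⟨g, w, hw⟩
    obtain ⟨g, rfl⟩ := spToPSp_surjective g
    refine presTV_of_single (p := 2) rfl he (w := (g : MI) *ᵥ w) ?_
    rw [hw, ← sympTv_conj]
    simp only [map_mul, map_inv]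
  rcases classify β with h1 | ⟨g, z, hz, hgz⟩
  · exact good β h1
  have hsq : PresTV (β ^ 2) := by
    rcases classify (β ^ 2) with h1 | ⟨g', z', hz', hgz'⟩
    · exact good _ h1
    obtain rfl : z' = z := Subtype.ext (hz'.trans hz.symm)
    have h3 : β (π (sympTv e 1)) = (β⁻¹ : MulAut PS) (g' * g⁻¹) * π (sympTv e 1) *
        ((β⁻¹ : MulAut PS) (g' * g⁻¹))⁻¹ := by
      apply β.injective
      have hcancel : ∀ x, β ((β⁻¹ : MulAut PS) x) = x := fun x => β.apply_symm_apply x
      rw [map_mul, map_mul, map_inv, hcancel, show β (β (π (sympTv e 1))) = (β ^ 2) (π (sympTv e 1)) from by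
        rw [sq]; rfl, hgz', hgz]
      group
    exact (good β ⟨_, e, h3⟩).mul (good β ⟨_, e, h3⟩) |> fun h => by rwa [sq]
  have hpres : ∀ j : ℕ, PresTV ((β ^ 2) ^ (j + 1)) := fun j => by
    induction j with
    | zero => simpa using hsq
    | succ j ih => rw [pow_succ]; exact ih.mul hsq
  obtain ⟨j, rfl⟩ := hk
  have h4 := hpres j
  rw [← pow_mul, show 2 * (j + 1) = (2 * j + 1) + 1 by ring, pow_succ, hβ, one_mul] at h4
  exact h4

include p in
/-- Automorphisms of prime order not equal to the characteristic are semilinear. -/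
theorem presTV_of_prime (hm : 2 ≤ m) {r : ℕ} (hr : r.Prime) (hrp : r ≠ p) (β : MulAut PS) (hβ : β ^ r = 1) :
    PresTV β := by
  by_cases h4 : m = 2 ∧ p = 2
  · exact presTV_of_odd (p := p) h4.1 h4.2 β (hr.odd_of_ne_two (h4.2 ▸ hrp)) hβ
  · exact presTV_of_ne (p := p) hm (fun h h' => h4 ⟨h, h'⟩) β

/-! ### The subgroup over the fixed field -/

section fixed

variable {F₀ : Type*} [Field F₀] [Fintype F₀] {σ : RingAut F} (j : F₀ →+* F) (hj : ∀ x, σ x = x ↔ x ∈ j.range)

local notation "Sp₀" => Matrix.symplecticGroup (Fin m) F₀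

theorem form_j (u v : Fin m ⊕ Fin m → F₀) : sympForm m F (j ∘ u) (j ∘ v) = j (sympForm m F₀ u v) := by
  simp [sympForm_eq_sum, map_sum]

theorem mulVec_j (u : Fin m ⊕ Fin m → F₀) (A : Matrix (Fin m ⊕ Fin m) (Fin m ⊕ Fin m) F₀) :
    A.map j *ᵥ (j ∘ u) = j ∘ (A *ᵥ u) := by
  funext i; simp [Matrix.mulVec, dotProduct, map_sum]

theorem map_j_mem {A : Matrix (Fin m ⊕ Fin m) (Fin m ⊕ Fin m) F₀} (hA : A ∈ Matrix.symplecticGroup (Fin m) F₀) :
    A.map j ∈ Matrix.symplecticGroup (Fin m) F := by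
  rw [SymplecticGroup.mem_iff] at hA ⊢
  have hJ : (Matrix.J (Fin m) F₀).map j = Matrix.J (Fin m) F := by
    ext a b; rcases a with a | a <;> rcases b with b | b <;> simp [Matrix.J, Matrix.one_apply, apply_ite j]
  rw [← hJ, ← Matrix.transpose_map, ← Matrix.map_mul, ← Matrix.map_mul, hA]

/-- The symplectic group over the fixed field, in `PSp`. -/
def subHom : Sp₀ →* PS :=
  (spToPSp m F).comp
    { toFun := fun s => ⟨(s : Matrix (Fin m ⊕ Fin m) (Fin m ⊕ Fin m) F₀).map j, map_j_mem j s.2⟩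
      map_one' := Subtype.ext (Matrix.map_one _ (map_zero j) (map_one j))
      map_mul' := fun s t => Subtype.ext (Matrix.map_mul (f := j)) }

theorem subHom_apply (s : Sp₀) :
    subHom j s = π ⟨(s : Matrix (Fin m ⊕ Fin m) (Fin m ⊕ Fin m) F₀).map j, map_j_mem j s.2⟩ := rfl

theorem subHom_tv (v : Fin m ⊕ Fin m → F₀) (c : F₀) :
    subHom j (sympTv v c) = π (sympTv (j ∘ v) (j c)) := by
  rw [subHom_apply]
  refine congrArg _ (Subtype.ext (Matrix.ext_iff_mulVec.2 fun x => ?_))
  rw [sympTv_apply]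
  have hB : ∀ a b, sympTransvection m (j ∘ v) (j c) a b = j (sympTransvection m v c a b) := fun a b => by
    have h1 := congrFun (sympTransvection_mulVec (j ∘ v) (j c) (Pi.single b 1)) a
    have h2 := congrArg j (congrFun (sympTransvection_mulVec v c (Pi.single b 1)) a)
    have hone : (j ∘ (Pi.single b 1 : Fin m ⊕ Fin m → F₀)) = (Pi.single b 1 : V) := by
      funext l; by_cases hl : l = b <;> simp [hl]
    rw [Matrix.mulVec_single_one] at h1 h2
    rw [← hone, form_j] at h1
    refine h1.trans (Eq.trans ?_ h2.symm)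
    by_cases hab : a = b <;> simp [hab]
  show (sympTransvection m v c).map j *ᵥ x = _
  rw [show (sympTransvection m v c).map j = sympTransvection m (j ∘ v) (j c) from
    Matrix.ext fun a b => (hB a b).symm, sympTransvection_mulVec]

include hj in
theorem map_σ_j (A : Matrix (Fin m ⊕ Fin m) (Fin m ⊕ Fin m) F₀) : (A.map j).map σ = A.map j :=
  Matrix.ext fun _ _ => (hj _).2 ⟨_, rfl⟩

include hj in
theorem fix_subHom (s : Sp₀) : pspSemi 1 σ (subHom j s) = subHom j s := by
  rw [subHom_apply, pspSemi_mk]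
  exact congrArg _ (Subtype.ext (by simp [spSemi_coe, map_σ_j j hj]))

include hj in
theorem zpowers_of_fix (τ : RingAut F) (hτ : ∀ a, τ (j a) = j a) : τ ∈ Subgroup.zpowers σ := by
  classical
  haveI : Finite (RingAut F) := Finite.of_injective (fun φ => (φ : F → F)) DFunLike.coe_injective
  set H := Subgroup.zpowers σ ⊔ Subgroup.zpowers τ
  haveI : Fintype H := Fintype.ofFinite _
  haveI : Fintype (Subgroup.zpowers σ) := Fintype.ofFinite _
  have hmem : ∀ x, x ∈ FixedPoints.subfield H F ↔ x ∈ FixedPoints.subfield (Subgroup.zpowers σ) F := by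
    intro x
    constructor
    · intro hx g
      exact hx ⟨g, Subgroup.mem_sup_left g.2⟩
    · intro hx g
      obtain ⟨a, rfl⟩ := (hj x).1 (hx ⟨σ, Subgroup.mem_zpowers σ⟩)
      exact (sup_le (Subgroup.zpowers_le.2 (show σ ∈ MulAction.stabilizer (RingAut F) (j a) from
        hx ⟨σ, Subgroup.mem_zpowers σ⟩))
        (Subgroup.zpowers_le.2 (show τ ∈ MulAction.stabilizer (RingAut F) (j a) from hτ a))) g.2
  have h1 := FixedPoints.finrank_eq_card (↥H) F
  have h2 := FixedPoints.finrank_eq_card (↥(Subgroup.zpowers σ)) F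
  rw [show FixedPoints.subfield H F = FixedPoints.subfield (Subgroup.zpowers σ) F from SetLike.ext hmem, h2] at h1
  have h3 : Subgroup.zpowers σ = H := Subgroup.eq_of_le_of_card_ge le_sup_left
    (by rw [Nat.card_eq_fintype_card, Nat.card_eq_fintype_card, h1])
  rw [h3]
  exact Subgroup.mem_sup_right (Subgroup.mem_zpowers τ)

theorem semi_pow (σ : RingAut F) : ∀ k : ℕ,
    (pspSemi (1 : GSp m F) σ : MulAut PS) ^ k = pspSemi 1 (σ ^ k)
  | 0 => by rw [pow_zero, pow_zero]; exact pspSemi_one.symm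
  | k + 1 => by rw [pow_succ', semi_pow σ k, pspSemi_mul', map_one, mul_one, ← pow_succ']

include hj in
theorem cent_subHom (hm : 1 ≤ m) {β : MulAut PS} (hpres : m = 1 ∨ PresTV β → PresTV β)
    (hβ : PresTV β) (hm2 : 2 ≤ m) (hfix : ∀ u ∈ (subHom (m := m) j).range, β u = u) :
    β ∈ Subgroup.zpowers (pspSemi 1 σ : MulAut PS) := by
  classical
  obtain ⟨g, τ, rfl⟩ := exists_param_of_presTV hm2 hβ
  have key : ∀ v : Fin m ⊕ Fin m → F₀, v ≠ 0 →
      ∃ a : F, ((g : GI) : MI) *ᵥ (τ ∘ (j ∘ v)) = a • (j ∘ v) := by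
    intro v hv
    have hv' : (j ∘ v : V) ≠ 0 := fun h0 => hv (funext fun i => j.injective (by
      simpa using congrFun h0 i))
    obtain ⟨μ, hμ, -⟩ := image_rootV g τ (j ∘ v)
    have h1 := hμ 1
    have h2 := hfix (π (sympTv (j ∘ v) 1)) ⟨sympTv v 1, by rw [subHom_tv, map_one]⟩
    rw [h2] at h1
    obtain ⟨b, hb⟩ := exists_smul_of_tv_eq hv' one_ne_zero (sympTv_eq_of_pi_eq hv' h1)
    have hb0 : b ≠ 0 := fun h0 => hv' (by rw [hb, h0, zero_smul])
    exact ⟨b⁻¹, by conv_rhs => rw [hb, smul_smul, inv_mul_cancel₀ hb0, one_smul]⟩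
  have hone : ∀ k : Fin m ⊕ Fin m, (τ ∘ (j ∘ (Pi.single k 1 : Fin m ⊕ Fin m → F₀)) : V) = Pi.single k 1 ∧
      (j ∘ (Pi.single k 1 : Fin m ⊕ Fin m → F₀) : V) = Pi.single k 1 := fun k => by
    constructor <;> funext l <;> by_cases hl : l = k <;> simp [hl]
  choose d hd using fun k => key (Pi.single k (1 : F₀)) (by simp)
  have hτ1 : ∀ k : Fin m ⊕ Fin m, (τ ∘ (Pi.single k 1 : V)) = Pi.single k 1 := fun k => by
    funext l; by_cases hl : l = k <;> simp [hl]
  simp only [(hone _).2, hτ1] at hd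
  have hpair : ∀ k l, k ≠ l → ∀ c : F₀, d l * τ (j c) = d k * j c := by
    intro k l hkl c
    obtain ⟨a, ha⟩ := key (Pi.single k 1 + c • Pi.single l 1) (fun h0 => by
      simpa [hkl] using congrFun h0 k)
    have e1 : (j ∘ (Pi.single k 1 + c • Pi.single l 1 : Fin m ⊕ Fin m → F₀) : V) =
        Pi.single k 1 + j c • Pi.single l 1 := by
      rw [← (hone k).2, ← (hone l).2]; funext t; simp
    have e2 : (τ ∘ (Pi.single k 1 + j c • Pi.single l 1 : V)) = Pi.single k 1 + τ (j c) • Pi.single l 1 := by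
      funext t
      by_cases h1 : t = k <;> by_cases h2 : t = l <;> simp [h1, h2, hkl, Ne.symm hkl]
    rw [e1, e2, Matrix.mulVec_add, Matrix.mulVec_smul, hd, hd] at ha
    have hk := congrFun ha k
    have hl := congrFun ha l
    simp [hkl, Ne.symm hkl] at hk hl
    rw [hk]
    linear_combination hl
  set o : Fin m ⊕ Fin m := Sum.inl ⟨0, by omega⟩
  set o' : Fin m ⊕ Fin m := Sum.inr ⟨0, by omega⟩
  have hne : o ≠ o' := by simp [o, o']
  have hdd : ∀ k, d k = d o := fun k => by
    by_cases hk : k = o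
    · rw [hk]
    · simpa using hpair o k (Ne.symm hk) 1
  have hd0 : d o ≠ 0 := by
    intro h0
    have h1 := congrArg ((((g : GI)⁻¹ : GI) : MI) *ᵥ ·) (hd o)
    simp only [Matrix.mulVec_mulVec, Units.inv_mul, Matrix.one_mulVec, h0, zero_smul,
      Matrix.mulVec_zero] at h1
    simpa using congrFun h1 o
  have hτ : ∀ a, τ (j a) = j a := fun a => mul_left_cancel₀ hd0 (by
    have := hpair o o' hne a
    rwa [hdd o'] at this)
  have hg : g = gspScalar m F (Units.mk0 (d o) hd0) := by
    refine Subtype.ext (Units.ext (Matrix.ext fun i l => ?_))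
    have := congrFun (hd l) i
    rw [Matrix.mulVec_single_one, hdd l] at this
    refine this.trans ?_
    by_cases hil : i = l <;> simp [hil, gspScalar_coe, Matrix.diagonal_apply]
  have h1 : (pspSemi g τ : MulAut PS) = pspSemi 1 τ :=
    (semi_inj hm).2 ⟨rfl, _, by rw [mul_one]; exact hg⟩
  haveI : Finite (RingAut F) := Finite.of_injective (fun φ => (φ : F → F)) DFunLike.coe_injective
  obtain ⟨k, rfl⟩ := (isOfFinOrder_of_finite σ).mem_powers_iff_mem_zpowers.2 (zpowers_of_fix j hj τ hτ)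
  rw [h1, ← semi_pow]
  exact pow_mem (Subgroup.mem_zpowers _) k

include hj in
theorem fixed_pow (hm : 1 ≤ m) {s : Sp} (hs : pspSemi 1 σ (π s) = π s) :
    π s ^ 2 ∈ (subHom (m := m) j).range ∧
      ∀ u ∈ (subHom (m := m) j).range, π s * u * (π s)⁻¹ ∈ (subHom (m := m) j).range := by
  haveI : Nonempty (Fin m ⊕ Fin m) := ⟨Sum.inl ⟨0, hm⟩⟩
  have hcomm : Commute (inndiagHom m F (spToGSp s)) (pspSemi 1 σ : MulAut PS) := by
    rw [inndiagHom_apply, ← conj_eq_pspSemi]
    refine MulEquiv.ext fun z => ?_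
    simp only [MulAut.mul_apply, MulAut.conj_apply, map_mul, map_inv, hs]
  obtain ⟨μ, k, hk, hsk⟩ := exists_fixed_of_centralizes hm σ hcomm
  have hfix : ∀ a b, ∃ y, j y = ((k : GI) : MI) a b := fun a b =>
    (hj _).1 (congrFun (congrFun (congrArg (fun u : GSp m F => ((u : GI) : MI)) hk) a) b)
  choose K hK using hfix
  have hK' : (Matrix.of K).map j = ((k : GI) : MI) := Matrix.ext hK
  have hsK : (s : MI) = (μ : F) • ((k : GI) : MI) := by
    have := congrArg (fun u : GSp m F => ((u : GI) : MI)) hsk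
    simpa [spToGSp_coe, gspScalar_coe, ← Matrix.smul_eq_diagonal_mul] using this
  obtain ⟨lam, hlam⟩ : ∃ lam : F₀, j lam = (mult hm k : F) := (hj _).1 (by
    have := congrArg Units.val (mult_gspMap hm σ k)
    rw [hk] at this
    exact this.symm)
  have hμ : (μ : F) ^ 2 * j lam = 1 := by
    have h1 := congrArg (mult hm) hsk
    rw [mult_spToGSp, map_mul, mult_scalar] at h1
    rw [hlam, ← Units.val_pow_eq_pow_val, ← Units.val_mul, ← h1, Units.val_one]
  have hlam0 : lam ≠ 0 := fun h0 => by simp [h0] at hμ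
  have hKlam : ∀ u v, sympForm m F₀ (Matrix.of K *ᵥ u) (Matrix.of K *ᵥ v) = lam * sympForm m F₀ u v := by
    intro u v
    refine j.injective ?_
    rw [← form_j, ← mulVec_j, ← mulVec_j, hK', mult_spec hm, form_j, map_mul, hlam]
  have hs2 : lam⁻¹ • (Matrix.of K * Matrix.of K) ∈ Matrix.symplecticGroup (Fin m) F₀ := by
    refine mem_symplecticGroup_iff_form.2 fun u v => ?_
    rw [Matrix.smul_mulVec, Matrix.smul_mulVec, sympForm_smul_left, sympForm_smul_right,
      ← Matrix.mulVec_mulVec, ← Matrix.mulVec_mulVec, hKlam, hKlam]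
    field_simp
  refine ⟨⟨⟨_, hs2⟩, ?_⟩, ?_⟩
  · rw [subHom_apply, sq, show π s * π s = π (s * s) from (map_mul _ _ _).symm]
    refine congrArg _ (Subtype.ext ?_)
    have e1 : (μ : F) ^ 2 = (j lam)⁻¹ := eq_inv_of_mul_eq_one_left hμ
    rw [Submonoid.coe_mul, hsK, Matrix.smul_mul, Matrix.mul_smul, smul_smul, show (μ : F) * μ = (μ : F) ^ 2 from (sq _).symm, e1, ← hK']
    ext a b
    simp [Matrix.mul_apply, map_sum]
  · rintro _ ⟨t, rfl⟩
    have hKu : IsUnit (Matrix.of K).det := Ne.isUnit fun h0 => (k : GI).det_ne_zero (by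
      rw [← hK', ← RingHom.mapMatrix_apply, ← RingHom.map_det, h0, map_zero])
    have hc : Matrix.of K * (t : Matrix (Fin m ⊕ Fin m) (Fin m ⊕ Fin m) F₀) * (Matrix.of K)⁻¹ ∈
        Matrix.symplecticGroup (Fin m) F₀ := by
      refine mem_symplecticGroup_iff_form.2 fun u v => ?_
      simp only [← Matrix.mulVec_mulVec]
      rw [hKlam, sympForm_map, ← hKlam, Matrix.mulVec_mulVec, Matrix.mulVec_mulVec,
        Matrix.mul_nonsing_inv _ hKu, Matrix.one_mulVec, Matrix.one_mulVec]
    refine ⟨⟨_, hc⟩, ?_⟩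
    rw [subHom_apply, subHom_apply, ← map_inv, ← map_mul, ← map_mul]
    refine congrArg _ (eq_mul_inv_of_mul_eq (Subtype.ext ?_))
    rw [Submonoid.coe_mul, Submonoid.coe_mul, hsK, ← hK', Matrix.mul_smul, Matrix.smul_mul]
    show _ = (μ : F) • ((Matrix.of K).map j * (t : Matrix (Fin m ⊕ Fin m) (Fin m ⊕ Fin m) F₀).map j)
    congr 1
    rw [← Matrix.map_mul, ← Matrix.map_mul, Matrix.nonsing_inv_mul_cancel_right _ _ hKu]

theorem two_dvd_subHom (hm : 1 ≤ m) : 2 ∣ Nat.card (subHom (F := F) (m := m) j).range := by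
  have hJ : Matrix.J (Fin m) F₀ ∈ Matrix.symplecticGroup (Fin m) F₀ := SymplecticGroup.J_mem _ _
  set w := subHom (F := F) j ⟨_, hJ⟩
  have hJmap : (Matrix.J (Fin m) F₀).map j = Matrix.J (Fin m) F := by
    ext a b; rcases a with a | a <;> rcases b with b | b <;> simp [Matrix.J, Matrix.one_apply, apply_ite j]
  have hw2 : w ^ 2 = 1 := by
    rw [sq, show w = π ⟨_, map_j_mem j hJ⟩ from rfl, ← map_mul, pi_eq_one_iff (by omega)]
    refine ⟨-1, by ring, ?_⟩
    rw [Submonoid.coe_mul]
    show (Matrix.J (Fin m) F₀).map j * (Matrix.J (Fin m) F₀).map j = _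
    rw [hJmap, Matrix.J_squared, neg_one_smul]
  have hw1 : w ≠ 1 := fun h => by
    obtain ⟨l, -, hl⟩ := (pi_eq_one_iff (s := (⟨_, map_j_mem j hJ⟩ : Sp)) (by omega)).1 h
    have h1 := congrFun (congrFun hl (Sum.inr ⟨0, hm⟩)) (Sum.inl ⟨0, hm⟩)
    simp [hJmap, Matrix.J] at h1
  calc 2 = orderOf (⟨w, ⟨_, rfl⟩⟩ : (subHom (F := F) (m := m) j).range) := by
        rw [← Subgroup.orderOf_coe]
        exact (orderOf_eq_prime hw2 hw1).symm
    _ ∣ _ := orderOf_dvd_natCard _

end fixed

/-- Over the field of two elements a non-trivial normal subgroup of `Sp` has index at most two. -/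
theorem index_le_two (hF : Fintype.card F = 2) (hm : 1 ≤ m) (N : Subgroup Sp) [N.Normal] (hN : N ≠ ⊥) :
    N.index ≤ 2 := by
  classical
  haveI : CharP F 2 := charP_of_card_eq_prime_pow (p := 2) (f := 1) (by simpa using hF)
  have h01 : ∀ c : F, c = 0 ∨ c = 1 := by
    intro c
    by_contra hcon
    push Not at hcon
    have : ({0, 1, c} : Finset F).card ≤ Fintype.card F := Finset.card_le_univ _
    rw [Finset.card_eq_three.2 ⟨0, 1, c, zero_ne_one, hcon.1.symm, hcon.2.symm, rfl⟩, hF] at this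
    omega
  have hneg : ∀ c : F, -c = c := fun c => CharTwo.neg_eq c
  have hone : ∀ {a b : V}, sympForm m F a b ≠ 0 → sympForm m F a b = 1 := fun h => (h01 _).resolve_left h
  have hinv : ∀ v : V, (sympTv v (1 : F))⁻¹ = sympTv v 1 := fun v => inv_eq_of_mul_eq_one_right (by
    rw [sympTv_mul, CharTwo.add_self_eq_zero, sympTv_zero])
  have hinj : ∀ (s : Sp) {v : V}, (s : MI) *ᵥ v = 0 → v = 0 := fun s v h0 => by
    have h1 := congrArg (((s⁻¹ : Sp) : MI) *ᵥ ·) h0
    simp only [Matrix.mulVec_mulVec, ← Submonoid.coe_mul, inv_mul_cancel, Matrix.mulVec_zero] at h1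
    exact (Matrix.one_mulVec v).symm.trans h1
  set t : V → Sp := fun v => sympTv v 1
  have tconj : ∀ (s : Sp) (a : V), s * t a * s⁻¹ = t ((s : MI) *ᵥ a) := fun s a => sympTv_conj s a 1
  -- a product of two distinct transvections
  obtain ⟨g, hgN, hg1⟩ := (Subgroup.bot_or_exists_ne_one N).resolve_left hN
  obtain ⟨v, hv⟩ : ∃ v : V, (g : MI) *ᵥ v ≠ v := by
    by_contra hcon
    push Not at hcon
    exact hg1 (Subtype.ext (Matrix.ext_iff_mulVec.2 fun x => by rw [hcon x]; exact (Matrix.one_mulVec x).symm))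
  have hv0 : v ≠ 0 := fun h0 => hv (by rw [h0, Matrix.mulVec_zero])
  set u := (g : MI) *ᵥ v
  have hu0 : u ≠ 0 := fun h0 => hv0 (hinj g h0)
  have huv : t u * t v ∈ N := by
    rw [show t u = g * t v * g⁻¹ from (tconj g v).symm, mul_assoc, mul_assoc]
    refine mul_mem hgN ?_
    have := Subgroup.Normal.conj_mem inferInstance g⁻¹ (inv_mem hgN) (t v)
    rwa [show (t v)⁻¹ = t v from hinv v, mul_assoc] at this
  -- a product with form one
  obtain ⟨a, b, hab, hN1⟩ : ∃ a b : V, sympForm m F a b = 1 ∧ t a * t b ∈ N := by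
    by_cases h1 : sympForm m F u v = 0
    swap
    · exact ⟨u, v, hone h1, huv⟩
    obtain ⟨z, hzW, hz1, hz2⟩ := exists_sympForm_ne_zero_both_in (sympNondeg_top (m := m) (F := F))
      (v := u) (w := u + v) trivial trivial hu0 (fun h0 => hv (by
        funext i; exact (CharTwo.add_eq_zero (R := F)).1 (congrFun h0 i)))
    have hzu : sympForm m F z u = 1 := by rw [sympForm_swap, hone hz1, hneg]
    have hzv : sympForm m F z v = 0 := by
      have := hone hz2
      rw [sympForm_add_left, hone hz1, add_eq_left] at this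
      rw [sympForm_swap, this, neg_zero]
    have e1 : ((t z : Sp) : MI) *ᵥ u = u + z := by
      rw [sympTv_apply, sympForm_swap, hzu, hneg, one_mul, one_smul]
    have e2 : ((t z : Sp) : MI) *ᵥ v = v := by
      rw [sympTv_apply, sympForm_swap, hzv, neg_zero, mul_zero, zero_smul, add_zero]
    have h2 := mul_mem (Subgroup.Normal.conj_mem inferInstance _ huv (t z)) (inv_mem huv)
    rw [show t z * (t u * t v) * (t z)⁻¹ = (t z * t u * (t z)⁻¹) * (t z * t v * (t z)⁻¹) by group, tconj,
      tconj, e1, e2, _root_.mul_inv_rev, mul_assoc, mul_inv_cancel_left,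
      show (t u)⁻¹ = t u from hinv u] at h2
    exact ⟨u + z, u, by rw [sympForm_add_left, sympForm_self, zero_add, hzu], h2⟩
  -- hence all products
  have hall1 : ∀ c d : V, sympForm m F c d = 1 → t c * t d ∈ N := by
    intro c d hcd
    obtain ⟨A, -, hA1, hA2⟩ := exists_tvIn_pair (sympNondeg_top (m := m) (F := F)) trivial trivial trivial
      trivial hab hcd
    have h2 := Subgroup.Normal.conj_mem inferInstance _ hN1 A
    rwa [show A * (t a * t b) * A⁻¹ = (A * t a * A⁻¹) * (A * t b * A⁻¹) by group, tconj, tconj, hA1,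
      hA2] at h2
  have hall : ∀ c d : V, c ≠ 0 → d ≠ 0 → t c * t d ∈ N := by
    intro c d hc hd
    obtain ⟨z, -, hz1, hz2⟩ := exists_sympForm_ne_zero_both_in (sympNondeg_top (m := m) (F := F))
      (v := c) (w := d) trivial trivial hc hd
    have h2 := mul_mem (hall1 c z (hone hz1)) (hall1 z d (by rw [sympForm_swap, hone hz2, hneg]))
    rwa [mul_assoc, ← mul_assoc (t z), show t z * t z = 1 by
      show sympTv z 1 * sympTv z 1 = 1
      rw [sympTv_mul, CharTwo.add_self_eq_zero, sympTv_zero], one_mul] at h2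
  set e : V := Pi.single (Sum.inl ⟨0, hm⟩) 1
  have he : e ≠ 0 := by simp [e]
  set q := QuotientGroup.mk' N
  have hz2 : q (t e) * q (t e) = 1 := by
    rw [← map_mul]
    show q (sympTv e 1 * sympTv e 1) = 1
    rw [sympTv_mul, CharTwo.add_self_eq_zero, sympTv_zero, map_one]
  let S : Subgroup (Sp ⧸ N) := Subgroup.zpowers (q (t e))
  have htop : S.comap q = ⊤ := by
    refine top_le_iff.1 ?_
    rw [← closure_sympTvSet, Subgroup.closure_le]
    rintro A ⟨w, c, hA⟩
    obtain rfl : A = sympTv w c := Subtype.ext hA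
    rcases h01 c with rfl | rfl
    · rw [sympTv_zero]; exact one_mem _
    by_cases hw : w = 0
    · have : sympTv w (1 : F) = 1 := Subtype.ext (by simp [hw, sympTv, sympTransvection])
      rw [this]; exact one_mem _
    have h3 : q (t w) = q (t e) := by
      have h4 : q (t w * t e) = 1 := (QuotientGroup.eq_one_iff _).2 (hall w e hw he)
      rw [map_mul] at h4
      exact (eq_inv_of_mul_eq_one_left h4).trans (inv_eq_of_mul_eq_one_right hz2)
    show q (t w) ∈ S
    rw [h3]; exact Subgroup.mem_zpowers _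
  have hS : S = ⊤ := Subgroup.comap_injective (QuotientGroup.mk'_surjective N) (htop.trans (Subgroup.comap_top q).symm)
  rw [Subgroup.index_eq_card, ← Subgroup.card_top, ← hS, Nat.card_zpowers]
  exact Nat.le_of_dvd two_pos (orderOf_dvd_of_pow_eq_one (by rw [sq, hz2]))

/-- Normal subgroups of order prime to a prime `r` dividing the order of `P₀` are trivial. -/
theorem normal_coprime_subHom {F₀ : Type*} [Field F₀] [Fintype F₀] (j : F₀ →+* F) (hm : 2 ≤ m) {r : ℕ}
    (hr : r.Prime) (hr2 : Fintype.card F₀ = 2 → r ≠ 2)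
    (hdvd : r ∣ Nat.card (subHom (m := m) j).range) (M : Subgroup (subHom (m := m) j).range)
    (hM : M.Normal) (hc : (Nat.card M).Coprime r) : M = ⊥ := by
  classical
  set Φ := (subHom (F := F) (m := m) j).rangeRestrict
  have hΦ : Function.Surjective Φ := MonoidHom.rangeRestrict_surjective _
  set M' := M.comap Φ
  haveI : M'.Normal := hM.comap _
  have hMmap : M'.map Φ = M := Subgroup.map_comap_eq_self_of_surjective hΦ M
  have hidx : ¬ r ∣ M'.index → False := fun hnd => by
    rw [Subgroup.index_comap_of_surjective _ hΦ] at hnd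
    have h1 := M.index_mul_card
    exact hnd ((Nat.Coprime.dvd_of_dvd_mul_right hc.symm (h1.symm ▸ hdvd)))
  have hcentral : M' ≤ Subgroup.center (Matrix.symplecticGroup (Fin m) F₀) → M = ⊥ := by
    intro hle
    rw [← hMmap, Subgroup.map_eq_bot_iff]
    intro s hs
    obtain ⟨l, hl, hl'⟩ := eq_scalar_of_commute_sympTv s fun v => (Subgroup.mem_center_iff.1 (hle hs) _).symm
    rw [MonoidHom.mem_ker]
    refine Subtype.ext ?_
    show subHom j s = 1
    rw [subHom_apply, pi_eq_one_iff (by omega)]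
    refine ⟨j l, by rw [← map_pow, hl, map_one], ?_⟩
    show (s : Matrix (Fin m ⊕ Fin m) (Fin m ⊕ Fin m) F₀).map j = _
    rw [hl' (by omega)]
    ext a b
    by_cases hab : a = b <;> simp [hab]
  by_cases h0 : Fintype.card F₀ = 2
  · by_contra hne
    have hM' : M' ≠ ⊥ := fun h => hne (by rw [← hMmap, h, Subgroup.map_bot])
    have := index_le_two h0 (by omega) M' hM'
    refine hidx fun hd => hr2 h0 ?_
    have h3 : M'.index ≠ 0 := Subgroup.index_ne_zero_of_finite
    have := Nat.le_of_dvd (Nat.pos_of_ne_zero h3) hd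
    have := hr.two_le
    omega
  have h3 : 3 ≤ Fintype.card F₀ := by
    have := Fintype.one_lt_card (α := F₀)
    omega
  have hperf := symp_perfect_of_card (m := m) (F := F₀) (by omega)
  haveI := PSp_isSimpleGroup (m := m) (F := F₀) (by omega) hperf
  haveI hn : (M'.map (QuotientGroup.mk' (Subgroup.center (Matrix.symplecticGroup (Fin m) F₀)))).Normal :=
    Subgroup.Normal.map inferInstance _ (QuotientGroup.mk'_surjective _)
  rcases hn.eq_bot_or_eq_top with h | h
  · rw [Subgroup.map_eq_bot_iff, QuotientGroup.ker_mk'] at h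
    exact hcentral h
  · exfalso
    have htop : M' ⊔ Subgroup.center _ = ⊤ := by
      have := congrArg (Subgroup.comap (QuotientGroup.mk' (Subgroup.center
        (Matrix.symplecticGroup (Fin m) F₀)))) h
      rwa [Subgroup.comap_map_eq, QuotientGroup.ker_mk', Subgroup.comap_top] at this
    have hM'top : M' = ⊤ := by
      refine top_le_iff.1 ?_
      rw [← hperf, commutator_def, Subgroup.commutator_le]
      intro a ha b hb
      obtain ⟨a1, ha1, z1, hz1, rfl⟩ := Subgroup.mem_sup_of_normal_left.1 (htop.symm ▸ ha : a ∈ M' ⊔ Subgroup.center _)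
      obtain ⟨b1, hb1, z2, hz2, rfl⟩ := Subgroup.mem_sup_of_normal_left.1 (htop.symm ▸ hb : b ∈ M' ⊔ Subgroup.center _)
      have c1 := fun g => Subgroup.mem_center_iff.1 hz1 g
      have c2 := fun g => Subgroup.mem_center_iff.1 hz2 g
      have : ⁅a1 * z1, b1 * z2⁆ = ⁅a1, b1⁆ := by
        simp only [commutatorElement_def]
        calc _ = a1 * (z1 * b1) * (z2 * (z1⁻¹ * a1⁻¹) * z2⁻¹) * b1⁻¹ := by group
          _ = a1 * (z1 * b1) * (z1⁻¹ * a1⁻¹) * b1⁻¹ := by
            rw [← c2 (z1⁻¹ * a1⁻¹), mul_inv_cancel_right]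
          _ = _ := by rw [← c1 b1]; group
      rw [this, commutatorElement_def]
      exact mul_mem (mul_mem (mul_mem ha1 hb1) (inv_mem ha1)) (inv_mem hb1)
    exact hidx (by rw [hM'top, Subgroup.index_top]; exact hr.not_dvd_one)

include p in
/-- Failure of local balance. -/
theorem balance (hm : 2 ≤ m) {A : Subgroup (MulAut PS)} (hinn : ∀ k : PS, MulAut.conj k ∈ A) {r : ℕ}
    [Fact r.Prime] (hrp : r ≠ p) (x : MulAut PS) (hord : orderOf x = r)
    (hnot : ¬ IsInnerDiagonalAutPSp x) :
    IsFieldAutClassPSp x ∧ (pPrimeCore r ↥(A ⊓ Subgroup.centralizer {x}) ≠ ⊥ ↔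
      Nat.Coprime r (Nat.card ↥(MonoidHom.eqLocus x.toMonoidHom (MonoidHom.id PS)))) := by
  classical
  have hr : r.Prime := Fact.out
  have hm1 : 1 ≤ m := by omega
  have hxr : x ^ r = 1 := hord ▸ pow_orderOf_eq_one x
  obtain ⟨g, τ, hgτ⟩ := exists_param_of_presTV hm (presTV_of_prime (p := p) hm hr hrp x hxr)
  have hτ : τ ≠ 1 := fun h1 => hnot (innerDiag_iff.2 ⟨g, by rw [hgτ, h1]; rfl⟩)
  have hord' : orderOf (pspSemi g τ : MulAut PS) = r := hgτ ▸ hord
  obtain ⟨hτr, y, hy⟩ := exists_conj_field hm1 hr hτ hord'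
  set a : MulAut PS := inndiagHom m F y
  set φ : MulAut PS := pspSemi 1 τ
  have hx : x = a * φ * a⁻¹ := hgτ.trans hy
  refine ⟨⟨a⁻¹, τ, hτ, stdField_iff.2 (by
    rw [hx]; show a⁻¹ * (a * φ * a⁻¹) * a⁻¹⁻¹ = φ; group)⟩, ?_⟩
  obtain ⟨f, -, hf⟩ := FiniteField.card F p
  letI : Fintype (GaloisField p ((f : ℕ) / r)) := Fintype.ofFinite _
  have hrf : r ∣ (f : ℕ) := by
    obtain ⟨-, hc⟩ := PSLAut.card_ringAut (F := F) hf
    exact hτr ▸ hc ▸ orderOf_dvd_natCard τ
  have hk0 : (f : ℕ) / r ≠ 0 := (Nat.div_pos (Nat.le_of_dvd f.pos hrf) hr.pos).ne'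
  have hF₀ : Fintype.card (GaloisField p ((f : ℕ) / r)) = p ^ ((f : ℕ) / r) := by
    rw [← Nat.card_eq_fintype_card, GaloisField.card _ _ hk0]
  obtain ⟨-, -, j, hj⟩ := PSLAut.exists_fixed_embedding (p := p) hf hτr _ hF₀
  have happ : ∀ z, x (a z) = a (φ z) := fun z => by
    rw [hx]; simp [MulAut.mul_apply]
  have hfixiff : ∀ z, x (a z) = a z ↔ φ z = z := fun z => by rw [happ]; exact a.injective.eq_iff
  set P := (subHom (F := F) (m := m) j).range
  refine balance_iff (conj_injective hm1) hinn hord (fun k hk => hnot ?_) (P₀ := P.map a.toMonoidHom) ?_ ?_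
    ?_ ?_ ?_ ?_
  · obtain ⟨s, rfl⟩ := spToPSp_surjective k
    exact innerDiag_iff.2 ⟨_, hk.symm.trans (conj_eq_pspSemi s)⟩
  · intro h
    rw [Subgroup.map_eq_bot_iff_of_injective (f := a.toMonoidHom) _ a.injective] at h
    have h2 := two_dvd_subHom (F := F) (m := m) j hm1
    rw [show (subHom (F := F) (m := m) j).range = ⊥ from h, Subgroup.card_bot] at h2
    exact absurd h2 (by decide)
  · rintro _ ⟨_, ⟨s, rfl⟩, rfl⟩
    exact (hfixiff _).2 (fix_subHom j hj s)
  · rintro k hk _ ⟨u, hu, rfl⟩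
    obtain ⟨k, rfl⟩ := a.surjective k
    obtain ⟨s, rfl⟩ := spToPSp_surjective k
    exact ⟨_, (fixed_pow j hj hm1 ((hfixiff _).1 hk)).2 u hu, by simp⟩
  · intro β hβc hβ
    have hc' : Commute (a⁻¹ * β * a) φ := by
      show a⁻¹ * β * a * φ = φ * (a⁻¹ * β * a)
      have h1 : β * x = x * β := hβc
      rw [hx] at h1
      calc a⁻¹ * β * a * φ = a⁻¹ * (β * (a * φ * a⁻¹)) * a := by group
        _ = _ := by rw [h1]; group
    have hfix : ∀ u ∈ P, (a⁻¹ * β * a : MulAut PS) u = u := fun u hu => by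
      have := hβ (a u) ⟨u, hu, rfl⟩
      show (a⁻¹ : MulAut PS) (β (a u)) = u
      rw [this]; exact a.symm_apply_apply u
    have hpres : PresTV (a⁻¹ * β * a) := by
      by_cases h4 : m = 2 ∧ p = 2
      · set e : Fin m ⊕ Fin m → GaloisField p ((f : ℕ) / r) := Pi.single (Sum.inl ⟨0, hm1⟩) 1
        have he : (j ∘ e : V) ≠ 0 := fun h0 => by
          have := congrFun h0 (Sum.inl ⟨0, hm1⟩)
          simp [e] at this
        exact presTV_of_single (p := p) h4.2 he (w := j ∘ e)
          (hfix _ ⟨sympTv e 1, by rw [subHom_tv, map_one]⟩)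
      · exact presTV_of_ne (p := p) hm (fun h h' => h4 ⟨h, h'⟩) _
    obtain ⟨k, hk⟩ := Subgroup.mem_zpowers_iff.1
      (cent_subHom j hj hm1 (fun _ => hpres) hpres hm hfix)
    refine Subgroup.mem_zpowers_iff.2 ⟨k, ?_⟩
    rw [hx, conj_zpow, hk]
    group
  · intro hd
    rw [Subgroup.card_map_of_injective (f := a.toMonoidHom) a.injective]
    rcases hr.eq_two_or_odd' with h2 | hodd
    · rw [h2]; exact two_dvd_subHom j hm1
    obtain ⟨k, hk⟩ := exists_prime_orderOf_dvd_card' r hd
    obtain ⟨z, hz⟩ := a.surjective (k : PS)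
    obtain ⟨s, rfl⟩ := spToPSp_surjective z
    have hsfix : φ (π s) = π s := (hfixiff _).1 (hz ▸ k.2)
    obtain ⟨i, hi⟩ := hodd
    have hordz : orderOf (π s) = r := by
      rw [← hk, ← Subgroup.orderOf_coe, ← hz, MulEquiv.orderOf_eq]
    have hmem : π s ∈ P := by
      have h1 : (π s ^ 2) ^ (i + 1) = π s := by
        rw [← pow_mul, show 2 * (i + 1) = r + 1 by omega, pow_succ, ← hordz, pow_orderOf_eq_one, one_mul]
      exact h1 ▸ pow_mem (fixed_pow j hj hm1 hsfix).1 _
    rw [← hordz, ← Subgroup.orderOf_mk _ hmem]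
    exact orderOf_dvd_natCard _
  · intro hd M hM hc
    let e : P ≃* P.map a.toMonoidHom := Subgroup.equivMapOfInjective P a.toMonoidHom a.injective
    have hd' : r ∣ Nat.card P := by rwa [Nat.card_congr e.toEquiv]
    have hbot : M.comap e.toMonoidHom = ⊥ := by
      refine normal_coprime_subHom j hm hr (fun h2 => ?_) hd' _ (hM.comap _) ?_
      · have hp2 : p = 2 := by
          rw [hF₀] at h2
          exact (Nat.prime_dvd_prime_iff_eq Fact.out Nat.prime_two).1 (h2 ▸ dvd_pow_self p hk0)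
        exact hp2 ▸ hrp
      · rwa [Nat.card_congr (Equiv.subtypeEquiv e.toEquiv (fun u => Iff.rfl) : M.comap e.toMonoidHom ≃ M)]
    rw [← Subgroup.map_comap_eq_self_of_surjective (f := e.toMonoidHom) e.surjective M, hbot, Subgroup.map_bot]

end Cfsg.Agent.Classical.PSpAut
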