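import Cfsg.Agent.Lib.Classical.PSLGraphAut
import Cfsg.Agent.Lib.Classical.SLNormal
import Cfsg.Agent.Lib.Classical.PSpLocalBalance
import Cfsg.Agent.Lib.Classical.FormCommutant

/-!
Local balance in almost simple groups with socle `PSL_n(q)`: the common frame and the field automorphisms.
-/

set_option autoImplicit false
set_option linter.unusedSectionVars false

namespace Cfsg.Agent.Classical.PSLBal

open Matrix Cfsg.Agent.Classical.PSLAut Cfsg.Agent.Classical.Descent

variable {F : Type*} [Field F] [Fintype F] {n : ℕ}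

local notation "SLn" => Matrix.SpecialLinearGroup (Fin n) F
local notation "PSLn" => Matrix.ProjectiveSpecialLinearGroup (Fin n) F
local notation "Mn" => Matrix (Fin n) (Fin n) F
local notation "GI" => GL (Fin n) F
local notation "π" => slToPSL n F

/-- `x` is induced by `θ`. -/
def Act (x : MulAut PSLn) (θ : GI →* GI) : Prop :=
  ∀ s : SLn, ∃ s' : SLn, Matrix.SpecialLinearGroup.toGL s' = θ (Matrix.SpecialLinearGroup.toGL s) ∧
    x (π s) = π s'

/-- The fixed points in `SL_n`. -/
def FixS (θ : GI →* GI) : Subgroup SLn :=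
  MonoidHom.eqLocus (θ.comp Matrix.SpecialLinearGroup.toGL) Matrix.SpecialLinearGroup.toGL

theorem mem_FixS {θ : GI →* GI} {s : SLn} :
    s ∈ FixS θ ↔ θ (Matrix.SpecialLinearGroup.toGL s) = Matrix.SpecialLinearGroup.toGL s := Iff.rfl

/-- Their image in `PSL_n`. -/
def P0 (θ : GI →* GI) : Subgroup PSLn := (FixS θ).map (π)

theorem pi_eq_iff (hn : 2 ≤ n) {s t : SLn} (h : π s = π t) : ∃ c : Fˣ,
    Matrix.SpecialLinearGroup.toGL s = Matrix.GeneralLinearGroup.scalar (Fin n) c *
      Matrix.SpecialLinearGroup.toGL t :=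
  (semi_inj hn).1 (((conj_eq_pslSemi s).symm.trans (congrArg MulAut.conj h)).trans (conj_eq_pslSemi t))

theorem pi_eq_one_iff {s : SLn} : π s = 1 ↔ ∃ c : F, (s : Mn) = c • 1 := by
  refine (QuotientGroup.eq_one_iff s).trans ?_
  rw [Matrix.SpecialLinearGroup.mem_center_iff]
  simp only [Matrix.scalar_apply, ← Matrix.smul_one_eq_diagonal]
  constructor
  · rintro ⟨c, -, hc⟩; exact ⟨c, hc.symm⟩
  · rintro ⟨c, hc⟩
    refine ⟨c, ?_, hc.symm⟩
    have h1 := congrArg Matrix.det hc
    rw [s.2, Matrix.det_smul, Matrix.det_one, mul_one] at h1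
    exact h1.symm

theorem conj_injective (hn : 2 ≤ n) : Function.Injective (MulAut.conj : PSLn →* MulAut PSLn) := by
  refine (injective_iff_map_eq_one _).2 fun k hk => ?_
  obtain ⟨s, rfl⟩ := slToPSL_surjective k
  rw [conj_eq_pslSemi] at hk
  obtain ⟨-, c, hc⟩ := (semi_eq_one_iff hn).1 hk
  refine pi_eq_one_iff.2 ⟨(c : F), ?_⟩
  have h := congrArg (fun g : GI => (g : Mn)) hc
  simpa [Matrix.smul_one_eq_diagonal] using h

theorem scalar_comm' (c : Fˣ) (g : GI) :
    Matrix.GeneralLinearGroup.scalar (Fin n) c * g = g * Matrix.GeneralLinearGroup.scalar (Fin n) c :=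
  (Descent.scalar_comm c g)

/-- The criterion of local balance in this frame. -/
theorem balance_act (hn : 2 ≤ n) {A : Subgroup (MulAut PSLn)} (hinn : ∀ k : PSLn, MulAut.conj k ∈ A)
    {r : ℕ} [Fact r.Prime] {x₀ x a : MulAut PSLn} {θ : GI →* GI} (hact : Act x₀ θ)
    (hx : x = a * x₀ * a⁻¹) (hord : orderOf x = r) (hnot : ¬ IsInnerDiagonalAutPSL x)
    (hP : P0 θ ≠ ⊥)
    (hcent : ∀ β : MulAut PSLn, (∀ u ∈ P0 θ, β u = u) → Commute β x₀ → β ∈ Subgroup.zpowers x₀)
    (hdiv : ∀ s : SLn, orderOf (π s) = r → x₀ (π s) = π s → r ∣ Nat.card (P0 θ))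
    (hnon : r ∣ Nat.card (P0 θ) → ∀ M : Subgroup (P0 θ), M.Normal → (Nat.card M).Coprime r → M = ⊥) :
    pPrimeCore r ↥(A ⊓ Subgroup.centralizer {x}) ≠ ⊥ ↔
      Nat.Coprime r (Nat.card ↥(MonoidHom.eqLocus x.toMonoidHom (MonoidHom.id PSLn))) := by
  classical
  have happ : ∀ z, x (a z) = a (x₀ z) := fun z => by rw [hx]; simp [MulAut.mul_apply]
  have hfixiff : ∀ z, x (a z) = a z ↔ x₀ z = z := fun z => by rw [happ]; exact a.injective.eq_iff
  have hfix0 : ∀ u ∈ P0 θ, x₀ u = u := by
    rintro _ ⟨s, hs, rfl⟩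
    obtain ⟨s', hs', h⟩ := hact s
    rw [h]
    exact congrArg _ (Matrix.SpecialLinearGroup.toGL_injective (hs'.trans hs))
  refine balance_iff (conj_injective hn) hinn hord (fun k hk => hnot ?_) (P₀ := (P0 θ).map a.toMonoidHom)
    ?_ ?_ ?_ ?_ ?_ ?_
  · obtain ⟨s, rfl⟩ := slToPSL_surjective k
    exact innerDiag_iff.2 ⟨_, hk.symm.trans (conj_eq_pslSemi s)⟩
  · rwa [Ne, Subgroup.map_eq_bot_iff_of_injective (f := a.toMonoidHom) _ a.injective]
  · rintro _ ⟨u, hu, rfl⟩
    exact (hfixiff _).2 (hfix0 u hu)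
  · rintro k hk _ ⟨_, ⟨u, hu, rfl⟩, rfl⟩
    obtain ⟨k, rfl⟩ := a.surjective k
    obtain ⟨t, rfl⟩ := slToPSL_surjective k
    obtain ⟨t', ht', h⟩ := hact t
    obtain ⟨c, hc⟩ := pi_eq_iff hn (h.symm.trans ((hfixiff _).1 hk))
    refine ⟨π (t * u * t⁻¹), ⟨t * u * t⁻¹, ?_, rfl⟩, by simp⟩
    rw [SetLike.mem_coe, mem_FixS, map_mul, map_mul, map_mul, map_mul, map_inv, map_inv, ← ht',
      mem_FixS.1 hu, hc, scalar_comm', _root_.mul_inv_rev]
    rw [mul_assoc (Matrix.SpecialLinearGroup.toGL t), scalar_comm']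
    group
  · intro β hβc hβ
    have hc' : Commute (a⁻¹ * β * a) x₀ := by
      show a⁻¹ * β * a * x₀ = x₀ * (a⁻¹ * β * a)
      have h1 : β * x = x * β := hβc
      rw [hx] at h1
      calc a⁻¹ * β * a * x₀ = a⁻¹ * (β * (a * x₀ * a⁻¹)) * a := by group
        _ = _ := by rw [h1]; group
    obtain ⟨k, hk⟩ := Subgroup.mem_zpowers_iff.1 (hcent (a⁻¹ * β * a) (fun u hu => by
      show (a⁻¹ : MulAut PSLn) (β (a u)) = u
      have h3 : β (a u) = a u := hβ (a u) ⟨u, hu, rfl⟩
      rw [h3]
      exact a.symm_apply_apply u) hc')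
    refine Subgroup.mem_zpowers_iff.2 ⟨k, ?_⟩
    rw [hx, conj_zpow, hk]
    group
  · intro hd
    rw [Subgroup.card_map_of_injective (f := a.toMonoidHom) a.injective]
    obtain ⟨k, hk⟩ := exists_prime_orderOf_dvd_card' r hd
    obtain ⟨z, hz⟩ := a.surjective (k : PSLn)
    obtain ⟨s, rfl⟩ := slToPSL_surjective z
    refine hdiv s ?_ ((hfixiff _).1 (hz ▸ k.2))
    rw [← hk, ← Subgroup.orderOf_coe, ← hz, MulEquiv.orderOf_eq]
  · intro hd M hM hc
    let e : P0 θ ≃* (P0 θ).map a.toMonoidHom := Subgroup.equivMapOfInjective _ a.toMonoidHom a.injective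
    have hd' : r ∣ Nat.card (P0 θ) := by rwa [Nat.card_congr e.toEquiv]
    have hbot : M.comap e.toMonoidHom = ⊥ := hnon hd' _ (hM.comap _) (by
      rwa [Nat.card_congr (Equiv.subtypeEquiv e.toEquiv (fun u => Iff.rfl) : M.comap e.toMonoidHom ≃ M)])
    rw [← Subgroup.map_comap_eq_self_of_surjective (f := e.toMonoidHom) e.surjective M, hbot, Subgroup.map_bot]

/-- Normal subgroups of coprime order of a quotient of a group which is simple modulo the kernel. -/
theorem coprime_normal_bot {G P : Type*} [Group G] [Group P] [Finite P] (Φ : G →* P)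
    (hΦ : Function.Surjective Φ) (Z : Subgroup G) [Z.Normal] (hZ : Z ≤ Φ.ker) [IsSimpleGroup (G ⧸ Z)]
    {r : ℕ} (hr : r.Prime) (hd : r ∣ Nat.card P) (M : Subgroup P) (hM : M.Normal)
    (hc : (Nat.card M).Coprime r) : M = ⊥ := by
  haveI := hM
  have hM' : ((M.comap Φ).map (QuotientGroup.mk' Z)).Normal :=
    Subgroup.Normal.map (hM.comap Φ) _ (QuotientGroup.mk'_surjective Z)
  rcases hM'.eq_bot_or_eq_top with h | h
  · rw [Subgroup.map_eq_bot_iff, QuotientGroup.ker_mk'] at h
    rw [← Subgroup.map_comap_eq_self_of_surjective hΦ M, Subgroup.map_eq_bot_iff]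
    exact h.trans hZ
  · exfalso
    have h1 : M = ⊤ := eq_top_iff.2 fun p _ => by
      obtain ⟨g, rfl⟩ := hΦ p
      have hg : QuotientGroup.mk' Z g ∈ (M.comap Φ).map (QuotientGroup.mk' Z) := h ▸ Subgroup.mem_top _
      obtain ⟨m, hm, e⟩ := hg
      obtain ⟨z, hz, rfl⟩ := (QuotientGroup.mk'_eq_mk' Z).1 e
      rw [map_mul, show Φ z = 1 from hZ hz, mul_one]
      exact hm
    rw [h1, Subgroup.card_top] at hc
    exact hr.ne_one (Nat.dvd_one.1 (hc ▸ Nat.dvd_gcd hd dvd_rfl))

/-! ### Automorphisms fixing a subgroup -/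

theorem semi_fix (hn : 2 ≤ n) {g : GI} {τ : RingAut F} {s : SLn} (h : pslSemi g τ (π s) = π s) :
    Commutant.Comm τ g (s : Mn) := by
  rw [pslSemi_mk] at h
  obtain ⟨c, hc⟩ := pi_eq_iff hn h
  refine ⟨(c : F), ?_⟩
  have h1 := congrArg (fun u : GI => (u : Mn)) hc
  rw [PSLAut.scalar_mul_coe] at h1
  have h2 : (g : Mn) * (s : Mn).map τ * ((g⁻¹ : GI) : Mn) = (c : F) • (s : Mn) := h1
  rw [← Matrix.smul_mul, ← h2, Matrix.mul_assoc, Units.inv_mul, Matrix.mul_one]

theorem unip {g : GI} {N N' : Mn} {c : F} (hN : N * N = 0) (hN' : N' * N' = 0) (hN0 : N ≠ 0)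
    (h : (g : Mn) * (1 + N') = c • ((1 + N) * (g : Mn))) : (g : Mn) * N' = N * (g : Mn) := by
  have h1 : (g : Mn) * N' = (c - 1) • (g : Mn) + c • (N * (g : Mn)) := by
    rw [Matrix.mul_add, Matrix.mul_one, Matrix.add_mul, Matrix.one_mul, smul_add] at h
    rw [sub_smul, one_smul, eq_sub_of_add_eq' h]
    abel
  have h2 : (0 : Mn) = ((c - 1) * (c - 1)) • (N * (g : Mn)) := by
    calc (0 : Mn) = N * ((g : Mn) * N' * N') := by rw [Matrix.mul_assoc, hN', Matrix.mul_zero, Matrix.mul_zero]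
      _ = _ := by
        rw [h1, Matrix.add_mul, Matrix.smul_mul, Matrix.smul_mul, Matrix.mul_assoc N (g : Mn), h1]
        simp only [Matrix.mul_add, Matrix.mul_smul, smul_add, smul_smul, ← Matrix.mul_assoc, hN, Matrix.zero_mul,
          smul_zero, add_zero]
  have hNg : N * (g : Mn) ≠ 0 := fun e => hN0 (by
    have := congrArg (fun A : Mn => A * ((g⁻¹ : GI) : Mn)) e
    simpa [Matrix.mul_assoc] using this)
  have hc : c = 1 := by
    rcases smul_eq_zero.1 h2.symm with h3 | h3
    · exact sub_eq_zero.1 (mul_self_eq_zero.1 h3)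
    · exact absurd h3 hNg
  rw [h1, hc, sub_self, zero_smul, one_smul, zero_add]

/-- An element of order two modulo scalars. -/
theorem two_dvd_of_elem {θ : GI →* GI} {s : SLn} (hs : s ∈ FixS θ) (h1 : ∀ c : F, (s : Mn) ≠ c • 1)
    (h2 : ∃ c : F, (s : Mn) * (s : Mn) = c • 1) : 2 ∣ Nat.card (P0 θ) := by
  have ho : orderOf (⟨π s, s, hs, rfl⟩ : P0 θ) = 2 := by
    refine orderOf_eq_prime (p := 2) ?_ fun e => ?_
    · refine Subtype.ext ?_
      show (π s) ^ 2 = 1
      rw [← map_pow, pi_eq_one_iff]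
      obtain ⟨c, hc⟩ := h2
      exact ⟨c, by rw [Matrix.SpecialLinearGroup.coe_pow, sq, hc]⟩
    · obtain ⟨c, hc⟩ := pi_eq_one_iff.1 (congrArg Subtype.val e)
      exact h1 c hc
  exact ho ▸ orderOf_dvd_natCard _

theorem sgn_not_scalar (hn : 3 ≤ n) (h2 : (2 : F) ≠ 0) {i j : Fin n} (c : F) :
    Commutant.sgn i j ≠ c • (1 : Mn) := by
  intro e
  obtain ⟨k, hki, hkj⟩ : ∃ k : Fin n, k ≠ i ∧ k ≠ j := by
    by_contra hcon
    push Not at hcon
    have hsub : (Finset.univ : Finset (Fin n)) ⊆ {i, j} := fun k _ => by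
      by_cases hki : k = i
      · simp [hki]
      · simp [hcon k hki]
    have := (Finset.card_le_card hsub).trans Finset.card_le_two
    simp at this
    omega
  have h1 := congrFun (congrFun e i) i
  have h3 := congrFun (congrFun e k) k
  simp [Commutant.sgn, hki, hkj] at h1 h3
  exact h2 (by linear_combination h3 - h1)

/-! ### Field automorphisms -/

/-- The field twist. -/
abbrev fieldTheta (σ : RingAut F) : GI →* GI := gmap σ

theorem act_field (σ : RingAut F) : Act (pslSemi 1 σ : MulAut PSLn) (fieldTheta σ) := fun s =>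
  ⟨slSemi 1 σ s, Units.ext (by
    show (1 : Mn) * (s : Mn).map σ * ((1⁻¹ : GI) : Mn) = _
    simp [gmap]), rfl⟩

variable {σ : RingAut F}

theorem mem_fix_field {s : SLn} : s ∈ FixS (fieldTheta σ) ↔ (s : Mn).map σ = (s : Mn) := by
  rw [mem_FixS]
  exact ⟨fun h => congrArg (fun u : GI => (u : Mn)) h, fun h => Units.ext h⟩

/-- An elementary transvection. -/
def tv (i j : Fin n) (h : i ≠ j) (t : F) : SLn :=
  ⟨Matrix.transvection i j t, Matrix.det_transvection_of_ne i j h t⟩

theorem tv_mem {i j : Fin n} (h : i ≠ j) {t : F} (ht : σ t = t) : tv i j h t ∈ FixS (fieldTheta σ) := by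
  rw [mem_fix_field]
  ext a b
  show σ (Matrix.transvection i j t a b) = Matrix.transvection i j t a b
  simp only [Matrix.transvection, Matrix.add_apply, Matrix.one_apply, Matrix.single, Matrix.of_apply]
  split_ifs <;> simp [ht]

theorem P0_ne_bot (hn : 2 ≤ n) : P0 (fieldTheta (n := n) σ) ≠ ⊥ := by
  intro h
  set i : Fin n := ⟨0, by omega⟩
  set j : Fin n := ⟨1, by omega⟩
  have hij : i ≠ j := by simp [i, j]
  have h1 : π (tv i j hij 1) ∈ P0 (fieldTheta σ) := ⟨_, tv_mem hij (map_one σ), rfl⟩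
  rw [h, Subgroup.mem_bot, pi_eq_one_iff] at h1
  obtain ⟨c, hc⟩ := h1
  have := congrFun (congrFun hc i) j
  simp [tv, Matrix.transvection, hij] at this

/-- The fixed field as a subfield. -/
abbrev fixedField (σ : RingAut F) : Subfield F := RingHom.eqLocusField σ.toRingHom (RingHom.id F)

theorem fixedField_hj (x : F) : σ x = x ↔ x ∈ (fixedField σ).subtype.range :=
  ⟨fun h => ⟨⟨x, h⟩, rfl⟩, fun ⟨k, hk⟩ => hk ▸ k.2⟩

theorem pow_field (σ : RingAut F) : ∀ k : ℕ, (pslSemi (1 : GI) σ : MulAut PSLn) ^ k = pslSemi 1 (σ ^ k)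
  | 0 => pslSemi_one.symm
  | k + 1 => by rw [pow_succ', pow_field σ k, pslSemi_mul', map_one, mul_one, pow_succ']

variable {p : ℕ} [Fact p.Prime] [CharP F p]

include p in
theorem cent_field (hn : 2 ≤ n) (β : MulAut PSLn) (hfix : ∀ u ∈ P0 (fieldTheta σ), β u = u) :
    β ∈ Subgroup.zpowers (pslSemi 1 σ : MulAut PSLn) := by
  classical
  obtain ⟨g, τ, ε, hε, hε2, rfl⟩ := exists_rep (p := p) hn β
  have key : ∀ i j (h : i ≠ j) (t : F), σ t = t →
      (pslSemi g τ * pslInvT ^ ε : MulAut PSLn) (π (tv i j h t)) = π (tv i j h t) :=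
    fun i j h t ht => hfix _ ⟨_, tv_mem h ht, rfl⟩
  interval_cases ε
  · simp only [pow_zero, mul_one] at key ⊢
    have hN : ∀ i j (h : i ≠ j) (t : F), σ t = t →
        (g : Mn) * Matrix.single i j (τ t) = Matrix.single i j t * (g : Mn) := by
      intro i j h t ht
      rcases eq_or_ne t 0 with rfl | ht0
      · simp
      obtain ⟨c, hc⟩ := semi_fix hn (key i j h t ht)
      refine unip (c := c) ?_ ?_ ?_ ?_
      · simp [Matrix.single_mul_single_of_ne _ _ _ _ h.symm]
      · simp [Matrix.single_mul_single_of_ne _ _ _ _ h.symm]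
      · intro e; exact ht0 (by simpa using congrFun (congrFun e i) j)
      · have e : ((tv i j h t : SLn) : Mn).map τ = 1 + Matrix.single i j (τ t) := by
          show (1 + Matrix.single i j t).map τ = _
          rw [Matrix.map_add _ (map_add τ), Matrix.map_one _ (map_zero τ) (map_one τ), Matrix.map_single]
        rw [← e, hc]; rfl
    obtain ⟨μ, hμ⟩ := Matrix.mem_range_scalar_of_commute_single (M := (g : Mn)) fun i j h => by
      show _ * _ = _ * _
      have := hN i j h 1 (map_one σ)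
      rw [map_one] at this
      exact this.symm
    have hμ0 : μ ≠ 0 := fun e => g.det_ne_zero (by
      rw [← hμ, e, map_zero]
      haveI : Nonempty (Fin n) := ⟨⟨0, by omega⟩⟩
      exact Matrix.det_zero)
    have hτ : ∀ t, σ t = t → τ t = t := fun t ht => by
      set i : Fin n := ⟨0, by omega⟩
      set j : Fin n := ⟨1, by omega⟩
      have hij : i ≠ j := by simp [i, j]
      have := congrFun (congrFun (hN i j hij t ht) i) j
      rw [← hμ, Matrix.scalar_apply, Matrix.diagonal_mul, Matrix.mul_diagonal] at this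
      simp at this
      exact mul_left_cancel₀ hμ0 (by linear_combination this)
    haveI : Finite (RingAut F) := Finite.of_injective (fun φ => (φ : F → F)) DFunLike.coe_injective
    obtain ⟨k, rfl⟩ := (isOfFinOrder_of_finite σ).mem_powers_iff_mem_zpowers.2
      (PSpAut.zpowers_of_fix (fixedField σ).subtype fixedField_hj τ fun a => hτ _ a.2)
    have h1 : (pslSemi g (σ ^ k) : MulAut PSLn) = pslSemi 1 (σ ^ k) :=
      (semi_inj hn).2 ⟨Units.mk0 μ hμ0, by
        rw [mul_one]; refine Units.ext ?_; rw [← hμ]; rfl⟩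
    rw [h1, ← pow_field]
    exact pow_mem (Subgroup.mem_zpowers _) k
  · exfalso
    have h3 : 3 ≤ n := by
      by_contra h
      exact absurd (hε2 (by omega)) one_ne_zero
    simp only [pow_one] at key
    have hN : ∀ i j (h : i ≠ j),
        (g : Mn) * -Matrix.single j i (1 : F) = Matrix.single i j 1 * (g : Mn) := by
      intro i j h
      have hk : pslSemi g τ (π (slInvT (tv i j h 1))) = π (tv i j h 1) := key i j h 1 (map_one σ)
      rw [pslSemi_mk] at hk
      obtain ⟨c, hc⟩ := pi_eq_iff hn hk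
      have h1 := congrArg (fun u : GI => (u : Mn)) hc
      rw [PSLAut.scalar_mul_coe] at h1
      have h2 : (g : Mn) * ((slInvT (tv i j h 1) : SLn) : Mn).map τ * ((g⁻¹ : GI) : Mn) =
          (c : F) • (Matrix.transvection i j (1 : F)) := h1
      have hinv : ((slInvT (tv i j h 1) : SLn) : Mn).map τ = 1 + -Matrix.single j i (1 : F) := by
        have e : (tv i j h (1 : F))⁻¹ = tv i j h (-1) := inv_eq_of_mul_eq_one_right (Subtype.ext (by
          show Matrix.transvection i j (1 : F) * Matrix.transvection i j (-1) = 1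
          rw [Matrix.transvection_mul_transvection_same _ _ h, add_neg_cancel, Matrix.transvection_zero]))
        rw [slInvT_coe, e]
        show ((1 + Matrix.single i j (-1 : F))ᵀ).map τ = _
        rw [Matrix.transpose_add, Matrix.transpose_one, Matrix.transpose_single, Matrix.map_add _ (map_add τ),
          Matrix.map_one _ (map_zero τ) (map_one τ), Matrix.map_single, map_neg, map_one, Matrix.single_neg]
      refine unip (c := (c : F)) ?_ ?_ ?_ ?_
      · simp [Matrix.single_mul_single_of_ne _ _ _ _ h.symm]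
      · simp [Matrix.single_mul_single_of_ne _ _ _ _ h]
      · intro e; exact one_ne_zero (α := F) (by simpa using congrFun (congrFun e i) j)
      · rw [← hinv]
        calc (g : Mn) * ((slInvT (tv i j h 1) : SLn) : Mn).map τ
            = (g : Mn) * ((slInvT (tv i j h 1) : SLn) : Mn).map τ * ((g⁻¹ : GI) : Mn) * (g : Mn) := by
              rw [Matrix.mul_assoc _ ((g⁻¹ : GI) : Mn), Units.inv_mul, Matrix.mul_one]
          _ = _ := by rw [h2, Matrix.smul_mul]; rfl
    set a : Fin n := ⟨0, by omega⟩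
    set b : Fin n := ⟨1, by omega⟩
    set c : Fin n := ⟨2, by omega⟩
    have hab : a ≠ b := by simp [a, b]
    have hbc : b ≠ c := by simp [b, c]
    have hac : a ≠ c := by simp [a, c]
    have e1 : (g : Mn) * (-Matrix.single b a (1 : F) * -Matrix.single c b 1) =
        Matrix.single a c 1 * (g : Mn) := by
      rw [← Matrix.mul_assoc, hN a b hab, Matrix.mul_assoc, hN b c hbc, ← Matrix.mul_assoc,
        Matrix.single_mul_single_same, one_mul]
    rw [neg_mul_neg, Matrix.single_mul_single_of_ne _ _ _ _ hac, Matrix.mul_zero] at e1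
    have e2 : Matrix.single a c (1 : F) = (0 : Mn) := by
      have := congrArg (fun A : Mn => A * ((g⁻¹ : GI) : Mn)) e1
      simpa [Matrix.mul_assoc] using this.symm
    simpa using congrFun (congrFun e2 a) c

/-- `SL_n` over the fixed field, in `P0`. -/
noncomputable def subHomS (σ : RingAut F) :
    Matrix.SpecialLinearGroup (Fin n) (fixedField σ) →* P0 (fieldTheta (n := n) σ) :=
  ((π).comp (Matrix.SpecialLinearGroup.map (fixedField σ).subtype)).codRestrict _ fun s =>
    ⟨_, mem_fix_field.2 (Matrix.ext fun a b => (fixedField_hj _).2 ⟨_, rfl⟩), rfl⟩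

theorem subHomS_surjective : Function.Surjective (subHomS (n := n) σ) := by
  rintro ⟨_, s, hs, rfl⟩
  rw [SetLike.mem_coe, mem_fix_field] at hs
  let A : Matrix (Fin n) (Fin n) (fixedField σ) :=
    fun a b => ⟨(s : Mn) a b, congrFun (congrFun hs a) b⟩
  have hA : A.det = 1 := (fixedField σ).subtype.injective (by
    rw [RingHom.map_det, map_one]
    exact s.2)
  exact ⟨⟨A, hA⟩, Subtype.ext (congrArg (π) (Subtype.ext rfl))⟩

theorem subHomS_eq_one {s : Matrix.SpecialLinearGroup (Fin n) (fixedField σ)} :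
    subHomS σ s = 1 ↔ ∃ c : fixedField σ,
      (s : Matrix (Fin n) (Fin n) (fixedField σ)) = c • 1 := by
  rw [Subtype.ext_iff]
  show π (Matrix.SpecialLinearGroup.map (fixedField σ).subtype s) = 1 ↔ _
  rw [pi_eq_one_iff]
  constructor
  · rintro ⟨c, hc⟩
    rcases isEmpty_or_nonempty (Fin n) with h | ⟨⟨i⟩⟩
    · exact ⟨0, Matrix.ext fun a => h.elim a⟩
    refine ⟨(s : Matrix (Fin n) (Fin n) (fixedField σ)) i i, Matrix.ext fun a b => Subtype.ext ?_⟩
    have h1 : (((s : Matrix (Fin n) (Fin n) (fixedField σ)) a b : fixedField σ) : F) = (c • (1 : Mn)) a b :=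
      congrFun (congrFun hc a) b
    have h2 : (((s : Matrix (Fin n) (Fin n) (fixedField σ)) i i : fixedField σ) : F) = (c • (1 : Mn)) i i :=
      congrFun (congrFun hc i) i
    by_cases hab : a = b
    · subst hab
      simp only [Matrix.smul_apply, Matrix.one_apply_eq, smul_eq_mul, mul_one] at h1 h2 ⊢
      exact h1.trans h2.symm
    · simp only [Matrix.smul_apply, Matrix.one_apply_ne hab, smul_eq_mul, mul_zero] at h1 ⊢
      exact h1
  · rintro ⟨c, hc⟩
    refine ⟨(c : F), Matrix.ext fun a b => ?_⟩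
    have h1 := congrArg Subtype.val (congrFun (congrFun hc a) b)
    by_cases hab : a = b <;> simp [hab, Matrix.one_apply] at h1 ⊢ <;> simpa [hab] using h1

theorem center_le_ker : Subgroup.center (Matrix.SpecialLinearGroup (Fin n) (fixedField σ)) ≤
    (subHomS σ).ker := fun s hs => by
  obtain ⟨c, -, hc⟩ := Matrix.SpecialLinearGroup.mem_center_iff.1 hs
  exact MonoidHom.mem_ker.2 (subHomS_eq_one.2 ⟨c, by rw [← hc, Matrix.scalar_apply, Matrix.smul_one_eq_diagonal]⟩)

theorem div_field (hn : 2 ≤ n) {r : ℕ} (hr : r.Prime) (hrp : r ≠ p) (s : SLn) (hord : orderOf (π s) = r)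
    (hs : (pslSemi 1 σ : MulAut PSLn) (π s) = π s) : r ∣ Nat.card (P0 (fieldTheta (n := n) σ)) := by
  classical
  haveI : Nonempty (Fin n) := ⟨⟨0, by omega⟩⟩
  set i : Fin n := ⟨0, by omega⟩
  set j : Fin n := ⟨1, by omega⟩
  have hij : i ≠ j := by simp [i, j]
  letI : Fintype (fixedField σ) := Fintype.ofFinite _
  have helem : ∀ u : Matrix.SpecialLinearGroup (Fin n) (fixedField σ), subHomS σ u ≠ 1 →
      (subHomS σ u) ^ r = 1 → r ∣ Nat.card (P0 (fieldTheta (n := n) σ)) := fun u h1 h2 => by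
    haveI : Fact r.Prime := ⟨hr⟩
    rw [← orderOf_eq_prime h2 h1]
    exact orderOf_dvd_natCard _
  rcases hr.eq_two_or_odd' with rfl | hodd
  · have h2 : (2 : F) ≠ 0 := fun e => hrp (by
      have h := (CharP.cast_eq_zero_iff F p 2).1 (by exact_mod_cast e)
      exact ((Nat.prime_dvd_prime_iff_eq Fact.out Nat.prime_two).1 h).symm)
    by_cases h3 : 3 ≤ n
    · refine two_dvd_of_elem (s := ⟨Commutant.sgn i j, Commutant.sgn_det hij⟩) ?_
        (sgn_not_scalar h3 h2) ⟨1, by rw [one_smul]; exact Commutant.sgn_sq i j⟩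
      exact mem_fix_field.2 (Commutant.sgn_map i j σ.toRingHom)
    · refine two_dvd_of_elem (s := ⟨Commutant.pl i j 0 1 (-1) 0, by rw [Commutant.pl_det hij]; ring⟩) ?_
        (fun c e => ?_) ⟨-1, ?_⟩
      · refine mem_fix_field.2 ((Commutant.pl_map i j (0 : F) 1 (-1) 0 σ.toRingHom).trans ?_)
        simp
      · have := congrFun (congrFun e i) j
        simp [Commutant.pl_ij hij, hij] at this
      · refine Matrix.ext_iff_mulVec.2 fun v => ?_
        show (Commutant.pl i j (0 : F) 1 (-1) 0 * Commutant.pl i j (0 : F) 1 (-1) 0) *ᵥ v = _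
        rw [← Matrix.mulVec_mulVec, Commutant.pl_mulVec hij, Commutant.pl_mulVec hij, Matrix.smul_mulVec,
          Matrix.one_mulVec]
        funext k
        obtain rfl | rfl : k = i ∨ k = j := by
          have := k.isLt
          simp only [i, j, Fin.ext_iff]
          omega
        · simp [hij.symm]
        · simp [hij.symm]
  haveI : Fact r.Prime := ⟨hr⟩
  by_cases hK : r ∣ Nat.card (fixedField σ)ˣ
  · obtain ⟨t, ht⟩ := exists_prime_orderOf_dvd_card' r hK
    have ht1 : t ≠ 1 := fun e => hr.ne_one (by rw [← ht, e, orderOf_one])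
    have htr : t ^ r = 1 := ht ▸ pow_orderOf_eq_one t
    let u : Matrix.SpecialLinearGroup (Fin n) (fixedField σ) :=
      ⟨diagonal fun k => if k = i then (t : fixedField σ) else if k = j then ((t⁻¹ : (fixedField σ)ˣ) : fixedField σ) else 1, by
        rw [Matrix.det_diagonal, Finset.prod_eq_mul i j hij]
        · simp [hij.symm]
        · intro k _ hk; simp [hk.1, hk.2]
        · simp
        · simp⟩
    refine helem u (fun e => ?_) ?_
    · obtain ⟨c, hc⟩ := subHomS_eq_one.1 e
      have h1 := congrFun (congrFun hc i) i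
      have h3 := congrFun (congrFun hc j) j
      simp [u, hij.symm] at h1 h3
      have htt : (t : fixedField σ) = ((t⁻¹ : (fixedField σ)ˣ) : fixedField σ) := by
        rw [Units.val_inv_eq_inv_val]; exact h1.trans h3.symm
      have hsq : t ^ 2 = 1 := by rw [sq]; exact eq_inv_iff_mul_eq_one.1 (Units.ext htt)
      obtain ⟨k, hk⟩ := hodd
      rw [hk, pow_succ, pow_mul, hsq, one_pow, one_mul] at htr
      exact ht1 htr
    · rw [← map_pow]
      refine (congrArg (subHomS σ) (Subtype.ext ?_ : u ^ r = 1)).trans (map_one _)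
      rw [Matrix.SpecialLinearGroup.coe_pow, Matrix.SpecialLinearGroup.coe_one]
      show (diagonal _) ^ r = 1
      rw [Matrix.diagonal_pow, ← Matrix.diagonal_one]
      congr 1
      funext k
      simp only [Pi.pow_apply]
      have h0 : (t : fixedField σ) ^ r = 1 := by rw [← Units.val_pow_eq_pow_val, htr, Units.val_one]
      split_ifs
      · exact h0
      · rw [← Units.val_pow_eq_pow_val, inv_pow, htr, inv_one, Units.val_one]
      · exact one_pow r
  obtain ⟨c, hc⟩ := pi_eq_iff hn (((pslSemi_mk 1 σ s).symm).trans hs)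
  have hc' : gmap σ (Matrix.SpecialLinearGroup.toGL s) =
      Matrix.GeneralLinearGroup.scalar (Fin n) c * Matrix.SpecialLinearGroup.toGL s := by
    rw [← hc]; refine Units.ext ?_
    show (s : Mn).map σ = (1 : Mn) * (s : Mn).map σ * ((1⁻¹ : GI) : Mn)
    simp
  obtain ⟨μ, k, hk, hsk⟩ := exists_fixed_of_map_eq_smul σ _ hc'
  obtain ⟨k₀, hk₀⟩ := mem_of_gmap_fixed (σ := σ) (j := (fixedField σ).subtype) fixedField_hj hk
  let Ψ : GL (Fin n) (fixedField σ) →* MulAut PSLn :=
    (inndiagHom n F).comp (Matrix.GeneralLinearGroup.map (fixedField σ).subtype)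
  have hΨ : orderOf (Ψ k₀) = r := by
    rw [← hord, ← orderOf_injective _ (conj_injective hn) (π s), conj_eq_pslSemi]
    congr 1
    show inndiagHom n F (Matrix.GeneralLinearGroup.map (fixedField σ).subtype k₀) = _
    rw [hk₀, inndiagHom_apply]
    exact (semi_inj hn).2 ⟨μ⁻¹, by rw [hsk, ← mul_assoc, ← map_mul, inv_mul_cancel, map_one, one_mul]⟩
  have hGL : r ∣ Nat.card (GL (Fin n) (fixedField σ)) :=
    hΨ ▸ (orderOf_map_dvd Ψ k₀).trans (orderOf_dvd_natCard k₀)
  let d : GL (Fin n) (fixedField σ) →* (fixedField σ)ˣ := Matrix.GeneralLinearGroup.det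
  have hSL : r ∣ Nat.card d.ker := by
    have h1 := d.ker.card_mul_index
    rw [Subgroup.index_ker, MonoidHom.range_eq_top.2 Matrix.GeneralLinearGroup.det_surjective,
      Subgroup.card_top] at h1
    exact (hr.dvd_mul.1 (h1.symm ▸ hGL)).resolve_right hK
  obtain ⟨u, hu⟩ := exists_prime_orderOf_dvd_card' r hSL
  have hdet : ((u : GL (Fin n) (fixedField σ)) : Matrix (Fin n) (Fin n) (fixedField σ)).det = 1 :=
    congrArg Units.val (MonoidHom.mem_ker.1 u.2)
  have hur : (u : GL (Fin n) (fixedField σ)) ^ r = 1 := by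
    rw [← SubgroupClass.coe_pow, ← hu, pow_orderOf_eq_one]; rfl
  refine helem ⟨_, hdet⟩ (fun e => ?_) ?_
  · obtain ⟨a, ha⟩ := subHomS_eq_one.1 e
    have ha' : ((u : GL (Fin n) (fixedField σ)) : Matrix (Fin n) (Fin n) (fixedField σ)) = a • 1 := ha
    have hpow := congrArg (fun g : GL (Fin n) (fixedField σ) => (g : Matrix (Fin n) (Fin n) (fixedField σ))) hur
    simp only [Units.val_pow_eq_pow_val, ha', smul_pow, one_pow, Units.val_one] at hpow
    have har : a ^ r = 1 := by simpa using congrFun (congrFun hpow i) i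
    have ha0 : a ≠ 0 := fun h0 => by simp [h0, zero_pow hr.ne_zero] at har
    rcases hr.eq_one_or_self_of_dvd _ (orderOf_dvd_of_pow_eq_one
      (show (Units.mk0 a ha0) ^ r = 1 from Units.ext har)) with h | h
    · have ha1 : a = 1 := congrArg Units.val (orderOf_eq_one_iff.1 h)
      have : u = 1 := Subtype.ext (Units.ext (by rw [ha', ha1, one_smul]; rfl))
      rw [this, orderOf_one] at hu
      exact hr.ne_one hu.symm
    · exact hK (h ▸ orderOf_dvd_natCard _)
  · refine (map_pow _ _ _).symm.trans ((congrArg (subHomS σ) (Subtype.ext ?_)).trans (map_one _))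
    exact ((Matrix.SpecialLinearGroup.coe_pow _ _).trans (Units.val_pow_eq_pow_val _ r).symm).trans
      (congrArg Units.val hur)

theorem two_three_check :
    (∀ m : Matrix.SpecialLinearGroup (Fin 2) (ZMod 3), (∃ g, g * m ^ 3 ≠ m ^ 3 * g) ∨ (∀ g, g * m = m * g) ∨
      ∃ g h, h * (g * m * g⁻¹ * m⁻¹) ^ 3 ≠ (g * m * g⁻¹ * m⁻¹) ^ 3 * h) ∧
    (∀ m : Matrix.SpecialLinearGroup (Fin 2) (ZMod 2), (∃ g, g * m ^ 2 ≠ m ^ 2 * g) ∨ (∀ g, g * m = m * g) ∨
      ∃ g h, h * (g * m * g⁻¹ * m⁻¹) ^ 2 ≠ (g * m * g⁻¹ * m⁻¹) ^ 2 * h) ∧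
    Fintype.card (Matrix.SpecialLinearGroup (Fin 2) (ZMod 3)) = 24 ∧
    Fintype.card (Matrix.SpecialLinearGroup (Fin 2) (ZMod 2)) = 6 := by
  decide +kernel

theorem non_field (hn : 2 ≤ n) {r : ℕ} (hr : r.Prime) (hrp : r ≠ p)
    (hd : r ∣ Nat.card (P0 (fieldTheta (n := n) σ))) (M : Subgroup (P0 (fieldTheta (n := n) σ)))
    (hM : M.Normal) (hc : (Nat.card M).Coprime r) : M = ⊥ := by
  classical
  letI : Fintype (fixedField σ) := Fintype.ofFinite _
  by_cases hbig : n = 2 → 4 ≤ Fintype.card (fixedField σ)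
  · haveI := PSL_isSimple (F := fixedField σ) hn hbig
    exact coprime_normal_bot (subHomS σ) subHomS_surjective _ center_le_ker hr hd M hM hc
  push Not at hbig
  obtain ⟨rfl, hlt⟩ := hbig
  haveI : CharP (fixedField σ) p := (fixedField σ).subtype.charP (fixedField σ).subtype.injective p
  obtain ⟨q, hq, hq'⟩ : ∃ q : ℕ, (q = 2 ∨ q = 3) ∧ Fintype.card (fixedField σ) = q := by
    have := Fintype.one_lt_card (α := fixedField σ)
    exact ⟨_, by omega, rfl⟩
  have hpq : p = q := by
    obtain ⟨a, ha, he⟩ := FiniteField.card (fixedField σ) p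
    rw [hq'] at he
    have h1 : p ∣ q := he ▸ dvd_pow_self p a.ne_zero
    rcases hq with rfl | rfl
    · exact (Nat.prime_dvd_prime_iff_eq Fact.out Nat.prime_two).1 h1
    · exact (Nat.prime_dvd_prime_iff_eq Fact.out Nat.prime_three).1 h1
  subst hpq
  let e : fixedField σ ≃+* ZMod p := (ZMod.ringEquivOfPrime (fixedField σ) Fact.out hq').symm
  let E : Matrix.SpecialLinearGroup (Fin 2) (ZMod p) →* P0 (fieldTheta (n := 2) σ) :=
    (subHomS σ).comp (Matrix.SpecialLinearGroup.map e.symm.toRingHom)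
  have hE : Function.Surjective E := by
    intro u
    obtain ⟨s, rfl⟩ := subHomS_surjective u
    exact ⟨Matrix.SpecialLinearGroup.map e.toRingHom s, congrArg (subHomS σ) (Subtype.ext (Matrix.ext fun a b =>
      e.symm_apply_apply _))⟩
  have hker : ∀ m, E m = 1 ↔ ∀ g, g * m = m * g := fun m => by
    rw [← Subgroup.mem_center_iff, Matrix.SpecialLinearGroup.mem_center_iff]
    show subHomS σ _ = 1 ↔ _
    rw [subHomS_eq_one]
    simp only [Matrix.scalar_apply, ← Matrix.smul_one_eq_diagonal]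
    constructor
    · rintro ⟨c, hc⟩
      have hm : (m : Matrix (Fin 2) (Fin 2) (ZMod p)) = e c • 1 := Matrix.ext fun a b => by
        have h1 := congrFun (congrFun hc a) b
        apply e.symm.injective
        by_cases hab : a = b
        · simp [hab] at h1 ⊢; exact h1
        · simp [hab] at h1 ⊢; exact h1
      refine ⟨e c, ?_, hm.symm⟩
      have h1 := congrArg Matrix.det hm
      rw [m.2, Matrix.det_smul, Matrix.det_one, mul_one] at h1
      exact h1.symm
    · rintro ⟨c, -, hc⟩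
      refine ⟨e.symm c, Matrix.ext fun a b => ?_⟩
      show e.symm ((m : Matrix (Fin 2) (Fin 2) (ZMod p)) a b) = _
      rw [← congrFun (congrFun hc a) b]
      by_cases hab : a = b <;> simp [hab]
  have hMP : Nat.card M ∣ Nat.card (Matrix.SpecialLinearGroup (Fin 2) (ZMod p)) :=
    (Subgroup.card_subgroup_dvd_card M).trans (Subgroup.card_dvd_of_surjective E hE)
  have hd' : r ∣ Nat.card (Matrix.SpecialLinearGroup (Fin 2) (ZMod p)) :=
    hd.trans (Subgroup.card_dvd_of_surjective E hE)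
  have hP2 := two_three_check
  have finish : ∀ k : ℕ, Nat.card M ∣ k →
      (∀ m : Matrix.SpecialLinearGroup (Fin 2) (ZMod p), (∃ g, g * m ^ k ≠ m ^ k * g) ∨ (∀ g, g * m = m * g) ∨
        ∃ g h, h * (g * m * g⁻¹ * m⁻¹) ^ k ≠ (g * m * g⁻¹ * m⁻¹) ^ k * h) → M = ⊥ := by
    intro k hk hall
    have hpow : ∀ m, E m ∈ M → ∀ g, g * m ^ k = m ^ k * g := fun m hm => (hker _).1 (by
      rw [map_pow]
      exact congrArg Subtype.val (orderOf_dvd_iff_pow_eq_one.1 ((orderOf_dvd_natCard (⟨E m, hm⟩ : M)).trans hk)))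
    refine (Subgroup.eq_bot_iff_forall _).2 fun u hu => ?_
    obtain ⟨m, rfl⟩ := hE u
    rcases hall m with ⟨g, hg⟩ | h | ⟨g, h, hgh⟩
    · exact absurd (hpow m hu g) hg
    · exact (hker m).2 h
    · refine absurd (hpow (g * m * g⁻¹ * m⁻¹) ?_ h) hgh
      rw [map_mul, map_mul, map_mul, map_inv, map_inv]
      exact mul_mem (hM.conj_mem _ hu _) (inv_mem hu)
  rcases hq with rfl | rfl
  · rw [Nat.card_eq_fintype_card (α := Matrix.SpecialLinearGroup (Fin 2) (ZMod 2)), hP2.2.2.2] at hMP hd'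
    have hr3 : r = 3 := by
      have := Nat.le_of_dvd (by norm_num) hd'
      have := hr.two_le
      interval_cases r <;> first | rfl | (exfalso; revert hrp hd' hr; decide)
    subst hr3
    exact finish 2 (Nat.Coprime.dvd_of_dvd_mul_right hc (show Nat.card M ∣ 2 * 3 from hMP)) hP2.2.1
  · rw [Nat.card_eq_fintype_card (α := Matrix.SpecialLinearGroup (Fin 2) (ZMod 3)), hP2.2.2.1] at hMP hd'
    have hr2 : r = 2 := by
      have := Nat.le_of_dvd (by norm_num) hd'
      have := hr.two_le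
      interval_cases r <;> first | rfl | omega | (exfalso; norm_num at hr) | (exfalso; norm_num at hd')
    subst hr2
    exact finish 3 (Nat.Coprime.dvd_of_dvd_mul_right
      (hc.pow_right 3) (show Nat.card M ∣ 3 * 2 ^ 3 from hMP)) hP2.1

include p in
theorem balance_field (hn : 2 ≤ n) {A : Subgroup (MulAut PSLn)} (hinn : ∀ k : PSLn, MulAut.conj k ∈ A)
    {r : ℕ} [Fact r.Prime] (hrp : r ≠ p) {x a : MulAut PSLn} (hx : x = a * pslSemi 1 σ * a⁻¹)
    (hord : orderOf x = r) (hnot : ¬ IsInnerDiagonalAutPSL x) :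
    pPrimeCore r ↥(A ⊓ Subgroup.centralizer {x}) ≠ ⊥ ↔
      Nat.Coprime r (Nat.card ↥(MonoidHom.eqLocus x.toMonoidHom (MonoidHom.id PSLn))) :=
  balance_act hn hinn (act_field σ) hx hord hnot (P0_ne_bot hn) (fun β hβ _ => cent_field (p := p) hn β hβ)
    (fun s h1 h2 => div_field (p := p) hn Fact.out hrp s h1 h2)
    (fun hd M hM hc => non_field (p := p) hn Fact.out hrp hd M hM hc)

end Cfsg.Agent.Classical.PSLBal
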