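import Mathlib

/-!
The groups SL(2,2) and SL(2,3), and transport along field isomorphisms.
-/

set_option autoImplicit false

open scoped commutatorElement

namespace Cfsg.Agent.Classical.SLTwoSmall

/-- A ring isomorphism gives an isomorphism of special linear groups. -/
def mapEquiv {R S : Type*} [CommRing R] [CommRing S] (e : R ≃+* S) (n : ℕ) :
    Matrix.SpecialLinearGroup (Fin n) R ≃* Matrix.SpecialLinearGroup (Fin n) S where
  toFun := Matrix.SpecialLinearGroup.map e.toRingHom
  invFun := Matrix.SpecialLinearGroup.map e.symm.toRingHom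
  left_inv g := Subtype.ext (Matrix.ext fun i j => e.symm_apply_apply _)
  right_inv g := Subtype.ext (Matrix.ext fun i j => e.apply_symm_apply _)
  map_mul' := map_mul _

/-- Projective points over the field with three elements. -/
def pt : Fin 4 → Fin 2 → ZMod 3 := ![![1, 0], ![0, 1], ![1, 1], ![1, 2]]

/-- The index of the point spanned by a non-zero vector. -/
def idx (v : Fin 2 → ZMod 3) : Fin 4 := if v 1 = 0 then 0 else if v 0 = 0 then 1 else if v 0 = v 1 then 2 else 3

/-- The action on the four points. -/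
def act (g : Matrix.SpecialLinearGroup (Fin 2) (ZMod 3)) (i : Fin 4) : Fin 4 :=
  idx ((g : Matrix (Fin 2) (Fin 2) (ZMod 3)).mulVec (pt i))

theorem act_mul : ∀ g h i, act (g * h) i = act g (act h i) := by decide +kernel

theorem act_one : ∀ i, act 1 i = i := by decide +kernel

/-- The permutation representation. -/
def perm : Matrix.SpecialLinearGroup (Fin 2) (ZMod 3) →* Equiv.Perm (Fin 4) :=
  MonoidHom.mk' (fun g => ⟨act g, act g⁻¹, fun i => by rw [← act_mul, inv_mul_cancel, act_one],
    fun i => by rw [← act_mul, mul_inv_cancel, act_one]⟩) fun g h => Equiv.ext fun i => act_mul g h i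

theorem perm_ker_iff : ∀ g, (∀ i, act g i = i) ↔ g = 1 ∨ g = -1 := by decide +kernel

theorem perm_sign : ∀ g, Equiv.Perm.sign (perm g) = 1 := by decide +kernel

theorem center_iff : ∀ g : Matrix.SpecialLinearGroup (Fin 2) (ZMod 3), (∀ h, h * g = g * h) ↔ g = 1 ∨ g = -1 := by
  decide +kernel

theorem card_three : Nat.card (Matrix.SpecialLinearGroup (Fin 2) (ZMod 3)) = 24 := by
  rw [Nat.card_eq_fintype_card]; decide +kernel

theorem card_center : Nat.card (Subgroup.center (Matrix.SpecialLinearGroup (Fin 2) (ZMod 3))) = 2 := by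
  rw [Nat.card_eq_two_iff' (1 : Subgroup.center (Matrix.SpecialLinearGroup (Fin 2) (ZMod 3)))]
  refine ⟨⟨-1, Subgroup.mem_center_iff.mpr ((center_iff _).mpr (Or.inr rfl))⟩, fun e => ?_, fun y hy => Subtype.ext ?_⟩
  · have h : (-1 : Matrix.SpecialLinearGroup (Fin 2) (ZMod 3)) ≠ 1 := by decide +kernel
    exact h (congrArg Subtype.val e)
  · exact ((center_iff _).mp (Subgroup.mem_center_iff.mp y.2)).resolve_left fun e => hy (Subtype.ext e)

/-- The quaternion subgroup, parametrised. -/
def qi : Matrix.SpecialLinearGroup (Fin 2) (ZMod 3) := ⟨!![0, 2; 1, 0], by decide⟩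

/-- The second generator. -/
def qj : Matrix.SpecialLinearGroup (Fin 2) (ZMod 3) := ⟨!![1, 1; 1, 2], by decide⟩

/-- The embedding of the quaternion group. -/
def quatFun : QuaternionGroup 2 → Matrix.SpecialLinearGroup (Fin 2) (ZMod 3)
  | QuaternionGroup.a i => qi ^ i.val
  | QuaternionGroup.xa i => qj * qi ^ i.val

/-- The embedding as a homomorphism. -/
def quatHom : QuaternionGroup 2 →* Matrix.SpecialLinearGroup (Fin 2) (ZMod 3) where
  toFun := quatFun
  map_one' := by decide +kernel
  map_mul' := by decide +kernel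

theorem quatHom_injective : Function.Injective quatHom := by
  show Function.Injective quatFun
  decide +kernel

theorem quat_mem_iff : ∀ g, (∃ q, quatFun q = g) ↔ g ^ 4 = 1 := by decide +kernel

theorem mem_range_iff (g : Matrix.SpecialLinearGroup (Fin 2) (ZMod 3)) : g ∈ quatHom.range ↔ g ^ 4 = 1 :=
  quat_mem_iff g

theorem range_normal : (quatHom.range).Normal := ⟨fun g hg x => by
  rw [mem_range_iff] at hg ⊢
  rw [conj_pow, hg]; group⟩

theorem card_range : Nat.card quatHom.range = 8 := by
  rw [← Nat.card_congr (MonoidHom.ofInjective quatHom_injective).toEquiv, Nat.card_eq_fintype_card, QuaternionGroup.card]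

theorem index_range : (quatHom.range).index = 3 := by
  have h := (quatHom.range).card_mul_index
  rw [card_range, card_three] at h
  omega

theorem quat_gens_commutator : ∃ a b c d : Matrix.SpecialLinearGroup (Fin 2) (ZMod 3),
    a * b * a⁻¹ * b⁻¹ = qi ∧ c * d * c⁻¹ * d⁻¹ = qj := by decide +kernel

theorem range_eq_commutator : quatHom.range = commutator (Matrix.SpecialLinearGroup (Fin 2) (ZMod 3)) := by
  refine le_antisymm ?_ ?_
  · obtain ⟨a, b, c, d, h1, h2⟩ := quat_gens_commutator
    have hi : qi ∈ commutator (Matrix.SpecialLinearGroup (Fin 2) (ZMod 3)) := by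
      rw [← h1, commutator_def, ← commutatorElement_def]
      exact Subgroup.commutator_mem_commutator (Subgroup.mem_top _) (Subgroup.mem_top _)
    have hj : qj ∈ commutator (Matrix.SpecialLinearGroup (Fin 2) (ZMod 3)) := by
      rw [← h2, commutator_def, ← commutatorElement_def]
      exact Subgroup.commutator_mem_commutator (Subgroup.mem_top _) (Subgroup.mem_top _)
    rintro _ ⟨q, rfl⟩
    cases q with
    | a i => exact Subgroup.pow_mem _ hi _
    | xa i => exact Subgroup.mul_mem _ hj (Subgroup.pow_mem _ hi _)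
  · haveI := range_normal
    rw [← Subgroup.Normal.quotient_commutative_iff_commutator_le]
    haveI : Fact (Nat.Prime 3) := ⟨Nat.prime_three⟩
    haveI : IsCyclic (Matrix.SpecialLinearGroup (Fin 2) (ZMod 3) ⧸ quatHom.range) := isCyclic_of_prime_card (p := 3) index_range
    exact ⟨⟨fun a b => (IsCyclic.commGroup (α := Matrix.SpecialLinearGroup (Fin 2) (ZMod 3) ⧸ quatHom.range)).mul_comm a b⟩⟩

/-- The permutation representation of SL(2,2) on the three non-zero vectors. -/
def pt2 : Fin 3 → Fin 2 → ZMod 2 := ![![1, 0], ![0, 1], ![1, 1]]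

/-- Index of a vector. -/
def idx2 (v : Fin 2 → ZMod 2) : Fin 3 := if v 1 = 0 then 0 else if v 0 = 0 then 1 else 2

/-- Action. -/
def act2 (g : Matrix.SpecialLinearGroup (Fin 2) (ZMod 2)) (i : Fin 3) : Fin 3 :=
  idx2 ((g : Matrix (Fin 2) (Fin 2) (ZMod 2)).mulVec (pt2 i))

theorem act2_mul : ∀ g h i, act2 (g * h) i = act2 g (act2 h i) := by decide +kernel

theorem act2_one : ∀ i, act2 1 i = i := by decide +kernel

theorem act2_faith : ∀ g, (∀ i, act2 g i = i) → g = 1 := by decide +kernel

theorem two_iso : Nonempty (Matrix.SpecialLinearGroup (Fin 2) (ZMod 2) ≃* Equiv.Perm (Fin 3)) := by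
  let f : Matrix.SpecialLinearGroup (Fin 2) (ZMod 2) →* Equiv.Perm (Fin 3) :=
    MonoidHom.mk' (fun g => ⟨act2 g, act2 g⁻¹, fun i => by rw [← act2_mul, inv_mul_cancel, act2_one],
      fun i => by rw [← act2_mul, mul_inv_cancel, act2_one]⟩) fun g h => Equiv.ext fun i => act2_mul g h i
  have hf : Function.Injective f := (injective_iff_map_eq_one f).mpr fun g hg => act2_faith g fun i => Equiv.congr_fun hg i
  refine ⟨MulEquiv.ofBijective f (hf.bijective_of_nat_card_le ?_)⟩
  rw [Nat.card_perm, Nat.card_fin, Nat.card_eq_fintype_card]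
  decide +kernel

end Cfsg.Agent.Classical.SLTwoSmall
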