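import Cfsg.Agent.Lib.Classical.ParabolicCosets
import Mathlib.LinearAlgebra.Matrix.GeneralLinearGroup.Card
import Mathlib.LinearAlgebra.Vandermonde

/-!
Degrees of the alternating sums of flag permutation characters of `GLₙ(q)`.
-/

set_option autoImplicit false

namespace Cfsg.Agent.Classical.GLDeg

open Cfsg Matrix

/-- The `q`-integer. -/
def qi (q r : ℕ) : ℕ := ∑ l ∈ Finset.range r, q ^ l

/-- The `q`-factorial. -/
def qf (q r : ℕ) : ℕ := ∏ j ∈ Finset.range r, qi q (j + 1)

/-- The falling `q`-factorial. -/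
def qfall (q a j : ℕ) : ℕ := ∏ l ∈ Finset.range j, qi q (a - l)

lemma qi_succ_pow (c r : ℕ) : c * qi (c + 1) r + 1 = (c + 1) ^ r := by
  induction r with
  | zero => simp [qi]
  | succ r ih => rw [qi, Finset.sum_range_succ, mul_add, add_right_comm]; unfold qi at ih; rw [ih]; ring

lemma qi_add (q a b : ℕ) : qi q (a + b) = qi q a + q ^ a * qi q b := by
  rw [qi, Finset.sum_range_add]
  simp [qi, pow_add, Finset.mul_sum]

lemma qf_pos (q r : ℕ) : 0 < qf q r := Finset.prod_pos fun j _ => by
  rw [qi]
  exact Finset.sum_pos' (fun _ _ => Nat.zero_le _) ⟨0, by simp, by simp⟩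

lemma qfall_eq_zero (q a j : ℕ) (h : a < j) : qfall q a j = 0 :=
  Finset.prod_eq_zero (Finset.mem_range.2 h) (by simp [qi])

lemma qf_mul_qfall (q a j : ℕ) (h : j ≤ a) : qf q (a - j) * qfall q a j = qf q a := by
  induction j with
  | zero => simp [qfall]
  | succ j ih =>
    rw [← ih (by omega), qfall, Finset.prod_range_succ, show qf q (a - j) = qf q (a - (j + 1)) * qi q (a - j) from ?_]
    · rw [qfall]; ring
    · rw [qf, show a - j = a - (j + 1) + 1 by omega, Finset.prod_range_succ]
      rfl

lemma qf_eq_qfall (q r : ℕ) : qf q r = qfall q r r := by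
  simpa [qf] using (qf_mul_qfall q r r le_rfl).symm

variable {F : Type*} [Field F] [Fintype F]

lemma natCard_GL {q : ℕ} (hq : Fintype.card F = q) (m : ℕ) :
    Nat.card (GL (Fin m) F) = q ^ m.choose 2 * (q - 1) ^ m * qf q m := by
  obtain ⟨c, rfl⟩ : ∃ c, q = c + 1 := ⟨q - 1, by have := Fintype.card_pos (α := F); omega⟩
  rw [Matrix.card_GL_field, hq, qf_eq_qfall, qfall, Fin.prod_univ_eq_prod_range (fun i => (c + 1) ^ m - (c + 1) ^ i) m,
    Nat.choose_two_right, ← Finset.sum_range_id, ← Finset.prod_pow_eq_pow_sum, Nat.add_sub_cancel,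
    show c ^ m = ∏ _i ∈ Finset.range m, c by simp,
    ← Finset.prod_mul_distrib, ← Finset.prod_mul_distrib]
  refine Finset.prod_congr rfl fun i hi => ?_
  have h1 := qi_succ_pow c (m - i)
  conv_lhs => rw [show m = i + (m - i) by have := Finset.mem_range.1 hi; omega, pow_add, ← h1]
  rw [mul_add, mul_one, Nat.add_sub_cancel, mul_assoc]

section Parabolic

variable {n : ℕ} {μ : Fin n → ℕ}

lemma mem_parabolic_lab (hμ : ∑ i, μ i = n) (g : GL (Fin n) F) :
    g ∈ parabolicGL n F μ ↔ (g.1).BlockTriangular (ParCoset.lab hμ) :=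
  ⟨fun h _ _ hij => h hij, fun h _ _ hij => h hij⟩

/-- The parabolic subgroup as its diagonal blocks and the entries above them. -/
noncomputable def parabolicEquiv (hμ : ∑ i, μ i = n) :
    parabolicGL n F μ ≃
      ((a : Fin n) → GL {i : Fin n // ParCoset.lab hμ i = a} F) ×
        ({x : Fin n × Fin n // ParCoset.lab hμ x.1 < ParCoset.lab hμ x.2} → F) where
  toFun g := (fun a => Matrix.GeneralLinearGroup.mkOfDetNeZero (g.1.1.toSquareBlock (ParCoset.lab hμ) a) (by
      have hbt := (mem_parabolic_lab hμ g.1).1 g.2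
      have hdet : g.1.1.det ≠ 0 := (Matrix.isUnit_iff_isUnit_det _ |>.1 g.1.isUnit).ne_zero
      rw [hbt.det, Finset.prod_ne_zero_iff] at hdet
      by_cases ha : a ∈ Finset.univ.image (ParCoset.lab hμ)
      · exact hdet a ha
      · haveI : IsEmpty {i : Fin n // ParCoset.lab hμ i = a} :=
          ⟨fun i => ha (Finset.mem_image.2 ⟨i.1, Finset.mem_univ _, i.2⟩)⟩
        rw [Matrix.det_isEmpty]
        exact one_ne_zero),
    fun x => g.1.1 x.1.1 x.1.2)
  invFun Af := ⟨Matrix.GeneralLinearGroup.mkOfDetNeZero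
      (Matrix.of fun i j => if h : ParCoset.lab hμ j = ParCoset.lab hμ i then
          (Af.1 (ParCoset.lab hμ i)).1 ⟨i, rfl⟩ ⟨j, h⟩
        else if h' : ParCoset.lab hμ i < ParCoset.lab hμ j then Af.2 ⟨(i, j), h'⟩ else 0) (by
        rw [Matrix.BlockTriangular.det (b := ParCoset.lab hμ) (fun i j h => by
          simp [ne_of_lt h, not_lt.2 (le_of_lt h)])]
        refine Finset.prod_ne_zero_iff.2 fun a _ => ?_
        have : (Matrix.of fun i j => if h : ParCoset.lab hμ j = ParCoset.lab hμ i then
              (Af.1 (ParCoset.lab hμ i)).1 ⟨i, rfl⟩ ⟨j, h⟩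
            else if h' : ParCoset.lab hμ i < ParCoset.lab hμ j then Af.2 ⟨(i, j), h'⟩ else 0).toSquareBlock
              (ParCoset.lab hμ) a = (Af.1 a).1 := by
          ext ⟨i, hi⟩ ⟨j, hj⟩
          subst hi
          simp [Matrix.toSquareBlock_def, hj]
        rw [this]
        exact (Matrix.isUnit_iff_isUnit_det _ |>.1 (Af.1 a).isUnit).ne_zero),
    (mem_parabolic_lab hμ _).2 (fun i j h => by
      show (Matrix.of _ : Matrix (Fin n) (Fin n) F) i j = 0
      simp [ne_of_lt h, not_lt.2 (le_of_lt h)])⟩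
  left_inv g := by
    refine Subtype.ext (Units.ext (Matrix.ext fun i j => ?_))
    show (if _h : ParCoset.lab hμ j = ParCoset.lab hμ i then g.1.1 i j
      else if _h' : ParCoset.lab hμ i < ParCoset.lab hμ j then g.1.1 i j else 0) = g.1.1 i j
    split_ifs with h h'
    · rfl
    · rfl
    · exact ((mem_parabolic_lab hμ g.1).1 g.2 (lt_of_le_of_ne (not_lt.1 h') h)).symm
  right_inv Af := by
    refine Prod.ext (funext fun a => Units.ext (Matrix.ext fun i j => ?_)) (funext fun x => ?_)
    · obtain ⟨i, hi⟩ := i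
      obtain ⟨j, hj⟩ := j
      subst hi
      show (if h : ParCoset.lab hμ j = ParCoset.lab hμ i then (Af.1 (ParCoset.lab hμ i)).1 ⟨i, rfl⟩ ⟨j, h⟩
        else if h' : ParCoset.lab hμ i < ParCoset.lab hμ j then Af.2 ⟨(i, j), h'⟩ else 0) = _
      rw [dif_pos hj]
    · show (if h : ParCoset.lab hμ x.1.2 = ParCoset.lab hμ x.1.1 then (Af.1 (ParCoset.lab hμ x.1.1)).1 ⟨x.1.1, rfl⟩ ⟨x.1.2, h⟩
        else if h' : ParCoset.lab hμ x.1.1 < ParCoset.lab hμ x.1.2 then Af.2 ⟨(x.1.1, x.1.2), h'⟩ else 0) = _
      rw [dif_neg (ne_of_lt x.2).symm, dif_pos x.2]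

lemma two_mul_choose_two (m : ℕ) : 2 * m.choose 2 + m = m * m := by
  induction m with
  | zero => rfl
  | succ m ih => rw [Nat.choose_succ_succ, Nat.choose_one_right]; nlinarith

lemma card_pairs (hμ : ∑ i, μ i = n) :
    Fintype.card {x : Fin n × Fin n // ParCoset.lab hμ x.1 < ParCoset.lab hμ x.2} + ∑ a, (μ a).choose 2 =
      n.choose 2 := by
  classical
  set l := ParCoset.lab hμ
  let S := Finset.univ.filter fun x : Fin n × Fin n => l x.1 < l x.2
  let S' := Finset.univ.filter fun x : Fin n × Fin n => l x.2 < l x.1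
  let D := Finset.univ.filter fun x : Fin n × Fin n => l x.1 = l x.2
  have hS : S'.card = S.card := Finset.card_equiv (Equiv.prodComm _ _) fun x => by simp [S, S']
  have hD : D.card = ∑ a, μ a * μ a := by
    rw [show D = Finset.univ.biUnion fun a => (Finset.univ.filter fun i => l i = a) ×ˢ
      (Finset.univ.filter fun i => l i = a) by ext x; simp [D, eq_comm], Finset.card_biUnion]
    · simp only [Finset.card_product]
      exact Finset.sum_congr rfl fun a _ => by rw [ParCoset.card_lab_fibre hμ a]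
    · intro a _ b _ hab
      simp only [Function.onFun, Finset.disjoint_left, Finset.mem_product, Finset.mem_filter,
        Finset.mem_univ, true_and]
      rintro x ⟨h1, -⟩ ⟨h2, -⟩
      exact hab (h1.symm.trans h2)
  have htot : S.card + S'.card + D.card = n * n := by
    rw [← Finset.card_union_of_disjoint, ← Finset.card_union_of_disjoint]
    · rw [show S ∪ S' ∪ D = Finset.univ by
        ext x; simp only [S, S', D, Finset.mem_union, Finset.mem_filter, Finset.mem_univ, true_and, iff_true]
        rcases lt_trichotomy (l x.1) (l x.2) with h | h | h <;> simp [h]]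
      simp
    · simp only [S, S', D, Finset.disjoint_left, Finset.mem_union, Finset.mem_filter, Finset.mem_univ, true_and]
      rintro x (h | h)
      · exact h.ne
      · exact h.ne'
    · simp only [S, S', Finset.disjoint_left, Finset.mem_filter, Finset.mem_univ, true_and]
      exact fun x h => h.not_gt
  have hsq : ∑ a, μ a * μ a = 2 * (∑ a, (μ a).choose 2) + n := by
    conv_rhs => rw [Finset.mul_sum]; enter [2]; rw [← hμ]
    rw [← Finset.sum_add_distrib]
    exact Finset.sum_congr rfl fun a _ => (two_mul_choose_two _).symm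
  have hn := two_mul_choose_two n
  rw [Fintype.card_subtype]
  change S.card + _ = _
  omega

/-- The number of flags of a type. -/
theorem card_flags {q : ℕ} (hq : Fintype.card F = q) (hμ : ∑ i, μ i = n) :
    Nat.card (GL (Fin n) F ⧸ parabolicGL n F μ) * ∏ i, qf q (μ i) = qf q n := by
  classical
  have hP : Nat.card (parabolicGL n F μ) = q ^ n.choose 2 * (q - 1) ^ n * ∏ i, qf q (μ i) := by
    rw [Nat.card_congr (parabolicEquiv hμ), Nat.card_prod, Nat.card_pi, Nat.card_fun]
    have hblock : ∀ a, Nat.card (GL {i : Fin n // ParCoset.lab hμ i = a} F) =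
        q ^ (μ a).choose 2 * (q - 1) ^ μ a * qf q (μ a) := by
      intro a
      rw [← natCard_GL hq, Nat.card_congr (Units.mapEquiv (Matrix.reindexAlgEquiv F F
        (Fintype.equivFinOfCardEq (α := {i : Fin n // ParCoset.lab hμ i = a}) (n := μ a)
          (by rw [Fintype.card_subtype]; exact ParCoset.card_lab_fibre hμ a))).toMulEquiv).toEquiv]
    rw [Finset.prod_congr rfl fun a _ => hblock a, Finset.prod_mul_distrib, Finset.prod_mul_distrib,
      Finset.prod_pow_eq_pow_sum, Finset.prod_pow_eq_pow_sum, hμ, Nat.card_eq_fintype_card, Nat.card_eq_fintype_card,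
      hq, ← card_pairs hμ, pow_add]
    ring
  have h := (parabolicGL n F μ).card_eq_card_quotient_mul_card_subgroup
  rw [natCard_GL hq, hP] at h
  have hq1 : 1 < q := hq ▸ Fintype.one_lt_card
  have hpos : 0 < q ^ n.choose 2 * (q - 1) ^ n :=
    Nat.mul_pos (Nat.pow_pos (by omega)) (Nat.pow_pos (by omega))
  refine Nat.eq_of_mul_eq_mul_left hpos ?_
  rw [h]
  ring

end Parabolic

section Degree

variable {n : ℕ}

lemma sum_choose_two (n : ℕ) : ∑ j ∈ Finset.range n, j.choose 2 = n * (n - 1) * (n - 2) / 6 := by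
  have h : ∑ j ∈ Finset.range n, j.choose 2 = n.choose 3 := by
    induction n with
    | zero => rfl
    | succ m ih => rw [Finset.sum_range_succ, ih, Nat.choose_succ_succ m 2, add_comm]
  rw [h, Nat.choose_eq_descFactorial_div_factorial]
  simp [Nat.descFactorial_succ, Nat.factorial]
  ring_nf

lemma fixedPointCharacter_one {G : Type*} [Group G] (H : Subgroup G) :
    fixedPointCharacter H 1 = (Nat.card (G ⧸ H) : ℂ) := by
  rw [fixedPointCharacter]
  congr 1
  exact Nat.card_congr (Equiv.subtypeUnivEquiv fun x => one_smul G x)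

/-- The degree formula. -/
theorem degree_formula {q : ℕ} (hq : Fintype.card F = q) (ν : Fin n → ℕ) (hs : ∑ i, ν i = n) :
    unipotentCharacterGL n F ν 1 * (q : ℂ) ^ (n * (n - 1) * (n - 2) / 6) *
        ∏ i : Fin n, (qf q (ν i + i.val) : ℂ) =
      (qf q n : ℂ) * ∏ i : Fin n, ∏ j ∈ Finset.univ.filter (fun j : Fin n => i < j),
        ((qi q (ν j + j.val) : ℂ) - (qi q (ν i + i.val) : ℂ)) := by
  classical
  let v : Fin n → ℂ := fun i => (qi q (ν i + i.val) : ℂ)
  let W : Matrix (Fin n) (Fin n) ℂ := Matrix.of fun i j => (qfall q (ν i + i.val) j.val : ℂ)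
  have h1 : unipotentCharacterGL n F ν 1 * ∏ i : Fin n, (qf q (ν i + i.val) : ℂ) = (qf q n : ℂ) * W.det := by
    rw [← Matrix.det_transpose W, Matrix.det_apply', unipotentCharacterGL, Finset.sum_mul, Finset.mul_sum]
    refine Finset.sum_congr rfl fun κ _ => ?_
    simp only [Matrix.transpose_apply, W, Matrix.of_apply]
    split_ifs with hk
    · have hterm : ∑ i, (ν i + i.val - (κ i).val) = n := by
        have h1 : ∑ i, (ν i + i.val - (κ i).val) + ∑ i, (κ i).val = ∑ i, ν i + ∑ i : Fin n, i.val := by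
          rw [← Finset.sum_add_distrib, ← Finset.sum_add_distrib]
          exact Finset.sum_congr rfl fun i _ => Nat.sub_add_cancel (hk i)
        rw [Equiv.sum_comp κ (fun i : Fin n => i.val)] at h1
        omega
      rw [fixedPointCharacter_one, ← card_flags hq hterm,
        Finset.prod_congr rfl fun i _ => congrArg (fun x : ℕ => (x : ℂ)) (qf_mul_qfall q (ν i + i.val) _ (hk i)).symm]
      push_cast [Finset.prod_mul_distrib]
      ring
    · obtain ⟨i, hi⟩ := not_forall.1 hk
      rw [Finset.prod_eq_zero (f := fun i => (qfall q (ν i + i.val) (κ i).val : ℂ)) (Finset.mem_univ i)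
        (by rw [qfall_eq_zero q _ _ (not_le.1 hi), Nat.cast_zero]), mul_zero, mul_zero, zero_mul]
  let P : Fin n → Polynomial ℂ := fun j => ∏ l ∈ Finset.range j.val, (Polynomial.X - Polynomial.C (qi q l : ℂ))
  have hfall : ∀ a j : ℕ, (∏ l ∈ Finset.range j, ((qi q a : ℂ) - (qi q l : ℂ))) =
      (q : ℂ) ^ j.choose 2 * (qfall q a j : ℂ) := by
    intro a j
    rcases le_or_gt j a with h | h
    · rw [Nat.choose_two_right, ← Finset.sum_range_id, ← Finset.prod_pow_eq_pow_sum, qfall, Nat.cast_prod,
        ← Finset.prod_mul_distrib]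
      refine Finset.prod_congr rfl fun l hl => ?_
      have := Finset.mem_range.1 hl
      have h2 := qi_add q l (a - l)
      rw [show l + (a - l) = a by omega] at h2
      rw [h2]
      push_cast
      ring
    · rw [qfall_eq_zero q a j h, Nat.cast_zero, mul_zero]
      exact Finset.prod_eq_zero (Finset.mem_range.2 h) (sub_self _)
  have h2 : W.det * (q : ℂ) ^ (n * (n - 1) * (n - 2) / 6) =
      ∏ i : Fin n, ∏ j ∈ Finset.univ.filter (fun j : Fin n => i < j), (v j - v i) := by
    have hv := Matrix.det_eval_matrixOfPolynomials_eq_det_vandermonde v P (fun j => by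
        simp only [P]
        rw [Polynomial.natDegree_prod_of_monic _ _ fun l _ => Polynomial.monic_X_sub_C _]
        simp only [Polynomial.natDegree_X_sub_C, Finset.sum_const, Finset.card_range, smul_eq_mul, mul_one])
      (fun j => Polynomial.monic_prod_of_monic _ _ fun l _ => Polynomial.monic_X_sub_C _)
    rw [Matrix.det_vandermonde] at hv
    rw [show (Matrix.of fun i j => ((P j).eval (v i))) = W * Matrix.diagonal fun j : Fin n => (q : ℂ) ^ j.val.choose 2
      from ?_, Matrix.det_mul, Matrix.det_diagonal, Finset.prod_pow_eq_pow_sum,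
      Fin.sum_univ_eq_sum_range (fun j => j.choose 2) n, sum_choose_two] at hv
    · rw [← hv]
      refine Finset.prod_congr rfl fun i _ => Finset.prod_congr ?_ fun _ _ => rfl
      ext j; simp
    · ext i j
      simp only [Matrix.of_apply, Matrix.mul_diagonal, P, v, W, Polynomial.eval_prod, Polynomial.eval_sub,
        Polynomial.eval_X, Polynomial.eval_C]
      rw [hfall]
      ring
  show _ = (qf q n : ℂ) * ∏ i : Fin n, ∏ j ∈ Finset.univ.filter (fun j : Fin n => i < j), (v j - v i)
  rw [← h2, mul_right_comm, h1]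
  ring

/-- The degree of the Steinberg character. -/
theorem degree_steinberg {q : ℕ} (hq : Fintype.card F = q) :
    unipotentCharacterGL n F (fun _ => 1) 1 = (q : ℂ) ^ n.choose 2 := by
  classical
  have h := degree_formula hq (fun _ : Fin n => 1) (by simp)
  rw [Finset.prod_comm' (s' := fun j : Fin n => Finset.univ.filter (fun i : Fin n => i < j)) (t' := Finset.univ)
    (by intro x y; simp)] at h
  have hin : ∀ j : Fin n, ∏ i ∈ Finset.univ.filter (fun i : Fin n => i < j),
      ((qi q (1 + j.val) : ℂ) - (qi q (1 + i.val) : ℂ)) = (q : ℂ) ^ j.val.choose 2 * (q : ℂ) ^ j.val * (qf q j.val : ℂ) := by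
    intro j
    rw [show (Finset.univ.filter fun i : Fin n => i < j) = Finset.Iio j by ext; simp,
      show ∏ i ∈ Finset.Iio j, ((qi q (1 + j.val) : ℂ) - (qi q (1 + i.val) : ℂ)) =
        ∏ i ∈ (Finset.Iio j).map Fin.valEmbedding, ((qi q (1 + j.val) : ℂ) - (qi q (1 + i) : ℂ)) by
        simp only [Finset.prod_map, Fin.valEmbedding_apply],
      Fin.map_valEmbedding_Iio, Nat.Iio_eq_range, qf_eq_qfall, qfall, Nat.cast_prod,
      show (q : ℂ) ^ j.val.choose 2 * (q : ℂ) ^ j.val = ∏ i ∈ Finset.range j.val, (q : ℂ) ^ (1 + i) by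
        rw [Finset.prod_pow_eq_pow_sum, Finset.sum_add_distrib, Finset.sum_range_id, ← Nat.choose_two_right, pow_add]
        simp [mul_comm],
      ← Finset.prod_mul_distrib]
    refine Finset.prod_congr rfl fun i hi => ?_
    have := Finset.mem_range.1 hi
    have h2 := qi_add q (1 + i) (j.val - i)
    rw [show 1 + i + (j.val - i) = 1 + j.val by omega] at h2
    rw [h2]
    push_cast
    ring
  rw [Finset.prod_congr rfl fun j _ => hin j, Finset.prod_mul_distrib, Finset.prod_mul_distrib,
    Finset.prod_pow_eq_pow_sum, Finset.prod_pow_eq_pow_sum, Fin.sum_univ_eq_sum_range (fun j => j.choose 2) n,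
    sum_choose_two, Fin.sum_univ_eq_sum_range (fun j => j) n, Finset.sum_range_id, ← Nat.choose_two_right] at h
  have htel : ∀ m, ∏ i ∈ Finset.range m, qf q (1 + i) = qf q m * ∏ i ∈ Finset.range m, qf q i := by
    intro m
    induction m with
    | zero => simp [qf]
    | succ m ih => rw [Finset.prod_range_succ, Finset.prod_range_succ, ih, add_comm 1 m]; ring
  rw [Fin.prod_univ_eq_prod_range (fun i => (qf q (1 + i) : ℂ)) n, ← Nat.cast_prod, htel, Nat.cast_mul,
    Fin.prod_univ_eq_prod_range (fun i => (qf q i : ℂ)) n, ← Nat.cast_prod] at h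
  have hq0 : (q : ℂ) ≠ 0 := Nat.cast_ne_zero.2 (by have := Fintype.card_pos (α := F); omega)
  have hne : (q : ℂ) ^ (n * (n - 1) * (n - 2) / 6) * ((qf q n : ℂ) * ((∏ i ∈ Finset.range n, qf q i : ℕ) : ℂ)) ≠ 0 :=
    mul_ne_zero (pow_ne_zero _ hq0) (mul_ne_zero (Nat.cast_ne_zero.2 (qf_pos q n).ne')
      (Nat.cast_ne_zero.2 (Finset.prod_pos fun i _ => qf_pos q i).ne'))
  apply mul_right_cancel₀ hne
  rw [← mul_assoc, h]
  ring

end Degree

end Cfsg.Agent.Classical.GLDeg
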