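import Mathlib
import Cfsg.Agent.Lib.Classical.DicksonTorus

/-!
Icosahedral subgroups `A₅` of `PSL(2, F)`.
-/

set_option autoImplicit false

namespace Cfsg.Agent.Dickson

open Matrix Cfsg.Agent.Grp.SL2 Cfsg.Agent.PSL2Spec

namespace Ico

/-- Coordinates over `ℤ[τ]`, `τ² = τ + 1`, with respect to `1, A, B, AB`. -/
abbrev Vec : Type := (ℤ × ℤ) × (ℤ × ℤ) × (ℤ × ℤ) × (ℤ × ℤ)

/-- Multiplication by `τ`. -/
def tmul (c : ℤ × ℤ) : ℤ × ℤ := (c.2, c.1 + c.2)

/-- Left multiplication by `A`. -/
def mulA : Vec → Vec
  | (a, b, c, d) => (-b, a, -d, c)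

/-- Left multiplication by `B`. -/
def mulB : Vec → Vec
  | (a, b, c, d) => (tmul b - c, b + d, a + c + tmul d, -b)

/-- The unit vector. -/
def one : Vec := ((1, 0), (0, 0), (0, 0), (0, 0))

/-- The vector of a word. -/
def vec : List Bool → Vec
  | [] => one
  | true :: w => mulA (vec w)
  | false :: w => mulB (vec w)

/-- The first generator of `A₅`. -/
def sA : alternatingGroup (Fin 5) :=
  ⟨Equiv.swap 0 1 * Equiv.swap 2 3, by simp [Equiv.Perm.mem_alternatingGroup]⟩

/-- The second generator of `A₅`. -/
def sB : alternatingGroup (Fin 5) :=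
  ⟨Equiv.swap 1 2 * Equiv.swap 2 4, by simp [Equiv.Perm.mem_alternatingGroup]⟩

/-- The product of a word in `A₅`. -/
def perm : List Bool → alternatingGroup (Fin 5)
  | [] => 1
  | true :: w => sA * perm w
  | false :: w => sB * perm w

/-- Sixty words. -/
def words : List (List Bool) :=
  [[],
  [true],
  [false],
  [false, true],
  [true, false],
  [false, false],
  [true, false, true],
  [false, false, true],
  [false, true, false],
  [true, false, false],
  [false, true, false, true],
  [true, false, false, true],
  [true, false, true, false],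
  [false, false, true, false],
  [false, true, false, false],
  [true, false, true, false, true],
  [false, false, true, false, true],
  [false, true, false, false, true],
  [false, true, false, true, false],
  [true, false, false, true, false],
  [true, false, true, false, false],
  [false, false, true, false, false],
  [false, true, false, true, false, true],
  [true, false, false, true, false, true],
  [true, false, true, false, false, true],
  [false, false, true, false, false, true],
  [false, false, true, false, true, false],
  [false, true, false, false, true, false],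
  [false, true, false, true, false, false],
  [false, false, true, false, true, false, true],
  [false, true, false, false, true, false, true],
  [false, true, false, true, false, false, true],
  [true, false, false, true, false, true, false],
  [true, false, true, false, false, true, false],
  [false, false, true, false, false, true, false],
  [false, false, true, false, true, false, false],
  [true, false, false, true, false, true, false, true],
  [true, false, true, false, false, true, false, true],
  [false, false, true, false, false, true, false, true],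
  [false, false, true, false, true, false, false, true],
  [false, true, false, false, true, false, true, false],
  [false, true, false, true, false, false, true, false],
  [true, false, false, true, false, true, false, false],
  [false, true, false, false, true, false, true, false, true],
  [false, true, false, true, false, false, true, false, true],
  [true, false, false, true, false, true, false, false, true],
  [true, false, true, false, false, true, false, true, false],
  [false, false, true, false, false, true, false, true, false],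
  [false, false, true, false, true, false, false, true, false],
  [false, true, false, false, true, false, true, false, false],
  [true, false, true, false, false, true, false, true, false, true],
  [false, false, true, false, false, true, false, true, false, true],
  [false, false, true, false, true, false, false, true, false, true],
  [false, true, false, false, true, false, true, false, false, true],
  [true, false, false, true, false, true, false, false, true, false],
  [true, false, true, false, false, true, false, true, false, false],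
  [true, false, false, true, false, true, false, false, true, false, true],
  [true, false, true, false, false, true, false, true, false, false, true],
  [false, true, false, false, true, false, true, false, false, true, false],
  [false, true, false, false, true, false, true, false, false, true, false, true]]

/-- The effect of left multiplication by the first generator on the words. -/
def nextA : List (Fin 60) := [1, 0, 4, 6, 2, 9, 3, 11, 12, 5, 15, 7, 8, 19, 20, 10, 23, 24, 25, 13, 14, 22, 21, 16, 17, 18, 32, 33, 34, 36, 37, 38, 26, 27, 28, 42, 29, 30, 31, 45, 46, 47, 35, 50, 51, 39, 40, 41, 54, 55, 43, 44, 56, 57, 48, 49, 52, 53, 59, 58]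

/-- The effect of left multiplication by the second generator on the words. -/
def nextB : List (Fin 60) := [2, 3, 5, 7, 8, 0, 10, 1, 13, 14, 16, 17, 18, 4, 21, 22, 6, 25, 26, 27, 28, 9, 29, 30, 31, 11, 12, 34, 35, 15, 38, 39, 40, 41, 19, 20, 43, 44, 23, 24, 47, 48, 49, 51, 52, 53, 45, 32, 33, 50, 42, 36, 37, 46, 58, 54, 59, 56, 55, 57]

/-- The word with index `i`. -/
def word (i : Fin 60) : List Bool := words.getD i []

/-- The successor for the first generator. -/
def nA (i : Fin 60) : Fin 60 := nextA.getD i 0

/-- The successor for the second generator. -/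
def nB (i : Fin 60) : Fin 60 := nextB.getD i 0

theorem vec_nA : ∀ i : Fin 60, vec (true :: word i) = vec (word (nA i)) ∨
    vec (true :: word i) = -vec (word (nA i)) := by decide +kernel

theorem vec_nB : ∀ i : Fin 60, vec (false :: word i) = vec (word (nB i)) ∨
    vec (false :: word i) = -vec (word (nB i)) := by decide +kernel

theorem perm_nA : ∀ i : Fin 60, sA * perm (word i) = perm (word (nA i)) := by decide +kernel

theorem perm_nB : ∀ i : Fin 60, sB * perm (word i) = perm (word (nB i)) := by decide +kernel

theorem perm_injective' : ∀ i j : Fin 60, perm (word i) = perm (word j) → i = j := by decide +kernel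

theorem perm_bijective : Function.Bijective (fun i : Fin 60 => perm (word i)) := by
  refine (Fintype.bijective_iff_injective_and_card _).mpr ⟨fun i j => perm_injective' i j, ?_⟩
  rw [Fintype.card_fin, ← Nat.card_eq_fintype_card, nat_card_alternatingGroup, Nat.card_fin]
  rfl

variable {F : Type*} [Field F] (τ : F)

/-- Evaluation of coordinates. -/
def ev (A B : Matrix (Fin 2) (Fin 2) F) : Vec → Matrix (Fin 2) (Fin 2) F
  | (a, b, c, d) => ((a.1 : F) + a.2 * τ) • 1 + ((b.1 : F) + b.2 * τ) • A + ((c.1 : F) + c.2 * τ) • B +
      ((d.1 : F) + d.2 * τ) • (A * B)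

theorem ev_neg (A B : Matrix (Fin 2) (Fin 2) F) (x : Vec) : ev τ A B (-x) = -ev τ A B x := by
  obtain ⟨⟨a, a'⟩, ⟨b, b'⟩, ⟨c, c'⟩, ⟨d, d'⟩⟩ := x
  show ev τ A B ((-a, -a'), (-b, -b'), (-c, -c'), (-d, -d')) = _
  simp only [ev]
  push_cast
  module

theorem ev_mulA {A B : Matrix (Fin 2) (Fin 2) F} (hA : A * A = -1) (x : Vec) :
    ev τ A B (mulA x) = A * ev τ A B x := by
  obtain ⟨⟨a, a'⟩, ⟨b, b'⟩, ⟨c, c'⟩, ⟨d, d'⟩⟩ := x
  show ev τ A B ((-b, -b'), (a, a'), (-d, -d'), (c, c')) = _
  simp only [ev, mul_add, mul_smul_comm, mul_one, ← mul_assoc, hA, neg_mul, one_mul]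
  push_cast
  module

theorem ev_mulB {A B : Matrix (Fin 2) (Fin 2) F} (hτ : τ * τ = τ + 1) (hB : B * B = B - 1)
    (hBA : B * A = τ • (1 : Matrix (Fin 2) (Fin 2) F) + A - A * B) (x : Vec) :
    ev τ A B (mulB x) = B * ev τ A B x := by
  obtain ⟨⟨a, a'⟩, ⟨b, b'⟩, ⟨c, c'⟩, ⟨d, d'⟩⟩ := x
  have hBAB : B * (A * B) = τ • B + A := by
    rw [← mul_assoc, hBA, sub_mul, add_mul, mul_assoc, hB, mul_sub, smul_mul_assoc, one_mul, mul_one]
    abel
  show ev τ A B ((b' - c, b + b' - c'), (b + d, b' + d'), (a + c + d', a' + c' + (d + d')), (-b, -b')) = _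
  simp only [ev, mul_add, mul_smul_comm, mul_one, hBAB, hB, hBA]
  push_cast
  simp only [smul_add, smul_sub, smul_smul]
  match_scalars <;>
    first
      | ring1
      | linear_combination (b' : F) * hτ
      | linear_combination -(b' : F) * hτ
      | linear_combination (d' : F) * hτ
      | linear_combination -(d' : F) * hτ

section Hom

variable [Fintype F]

local notation "SL₂" => Matrix.SpecialLinearGroup (Fin 2) F
local notation "PSL₂" => Matrix.ProjectiveSpecialLinearGroup (Fin 2) F

/-- The product of a word in `SL(2, F)`. -/
def prodSL (A B : Matrix.SpecialLinearGroup (Fin 2) F) : List Bool → Matrix.SpecialLinearGroup (Fin 2) F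
  | [] => 1
  | true :: w => A * prodSL A B w
  | false :: w => B * prodSL A B w

/-- Six relations give an icosahedral subgroup. -/
theorem exists_hom {A B : SL₂} (hτ : τ * τ = τ + 1)
    (hA : (A : Matrix (Fin 2) (Fin 2) F) * A = -1)
    (hB : (B : Matrix (Fin 2) (Fin 2) F) * B = (B : Matrix (Fin 2) (Fin 2) F) - 1)
    (hBA : (B : Matrix (Fin 2) (Fin 2) F) * A = τ • (1 : Matrix (Fin 2) (Fin 2) F) + A - A * B)
    (hAns : ¬ IsScalar A) :
    ∃ f : alternatingGroup (Fin 5) →* PSL₂, Function.Injective f ∧ f sA = proj A ∧ f sB = proj B := by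
  have hev : ∀ w, ev τ A B (vec w) = (prodSL A B w : Matrix (Fin 2) (Fin 2) F) := by
    intro w
    induction w with
    | nil => simp [vec, one, ev, prodSL]
    | cons g w ih =>
      cases g
      · rw [vec, ev_mulB τ hτ hB hBA, ih]; simp [prodSL]
      · rw [vec, ev_mulA τ hA, ih]; simp [prodSL]
  have hpr : ∀ u v, (vec u = vec v ∨ vec u = -vec v) → proj (prodSL A B u) = proj (prodSL A B v) := by
    intro u v h
    refine proj_eq_iff.mpr ?_
    rcases h with h | h
    · exact Or.inl (Subtype.ext (by rw [← hev, ← hev, h]))
    · refine Or.inr (Subtype.ext ?_)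
      rw [Matrix.SpecialLinearGroup.coe_neg, ← hev, ← hev, h, ev_neg, neg_neg]
  let e : Fin 60 ≃ alternatingGroup (Fin 5) := Equiv.ofBijective _ perm_bijective
  have he : ∀ i, e i = perm (word i) := fun i => rfl
  let φ : alternatingGroup (Fin 5) → PSL₂ := fun s => proj (prodSL A B (word (e.symm s)))
  have hφA : ∀ s, φ (sA * s) = proj A * φ s := by
    intro s
    obtain ⟨i, rfl⟩ := e.surjective s
    show proj (prodSL A B (word (e.symm (sA * e i)))) = _
    rw [he, perm_nA, ← he, e.symm_apply_apply, ← hpr _ _ (vec_nA i)]
    show _ = proj A * proj (prodSL A B (word (e.symm (e i))))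
    rw [e.symm_apply_apply, ← map_mul]
    rfl
  have hφB : ∀ s, φ (sB * s) = proj B * φ s := by
    intro s
    obtain ⟨i, rfl⟩ := e.surjective s
    show proj (prodSL A B (word (e.symm (sB * e i)))) = _
    rw [he, perm_nB, ← he, e.symm_apply_apply, ← hpr _ _ (vec_nB i)]
    show _ = proj B * proj (prodSL A B (word (e.symm (e i))))
    rw [e.symm_apply_apply, ← map_mul]
    rfl
  have hw : ∀ w s, φ (perm w * s) = proj (prodSL A B w) * φ s := by
    intro w
    induction w with
    | nil => intro s; simp [perm, prodSL]
    | cons g w ih =>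
      intro s
      cases g
      · rw [perm, mul_assoc, hφB, ih]; simp [prodSL, mul_assoc]
      · rw [perm, mul_assoc, hφA, ih]; simp [prodSL, mul_assoc]
  have hmul : ∀ s t, φ (s * t) = φ s * φ t := by
    intro s t
    obtain ⟨i, rfl⟩ := e.surjective s
    rw [he, hw, ← he]
    simp [φ]
  let f : alternatingGroup (Fin 5) →* PSL₂ := MonoidHom.mk' φ hmul
  have h1 : φ 1 = 1 := map_one f
  have hfA : φ sA = proj A := by rw [← mul_one sA, hφA, h1, mul_one]
  have hfB : φ sB = proj B := by rw [← mul_one sB, hφB, h1, mul_one]
  refine ⟨f, ?_, hfA, hfB⟩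
  haveI := alternatingGroup.isSimpleGroup_five
  rcases (MonoidHom.normal_ker f).eq_bot_or_eq_top with h | h
  · exact (MonoidHom.ker_eq_bot_iff f).mp h
  · exfalso
    have : sA ∈ f.ker := h ▸ Subgroup.mem_top _
    rw [MonoidHom.mem_ker] at this
    exact hAns (proj_one_iff.mp (hfA.symm.trans this))

end Hom

variable [Fintype F]

local notation "SL₂" => Matrix.SpecialLinearGroup (Fin 2) F
local notation "PSL₂" => Matrix.ProjectiveSpecialLinearGroup (Fin 2) F

omit τ in
/-- Two matrices with the icosahedral traces. -/
theorem exists_hom_of_root {τ : F} (hτ : τ * τ = τ + 1) :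
    ∃ f : alternatingGroup (Fin 5) →* PSL₂, Function.Injective f := by
  obtain ⟨a, c, hac⟩ : ∃ a c : F, a * a - a + 1 + (c * c + τ * c) = 0 := by
    rcases Nat.mod_two_eq_zero_or_one (Fintype.card F) with h | h
    · have h2 : (2 : F) = 0 := by
        obtain ⟨k, hk⟩ := Nat.dvd_of_mod_eq_zero h
        obtain ⟨p, hp⟩ := CharP.exists F
        obtain ⟨n, hpp, hn⟩ := FiniteField.card F p
        have : p = 2 := ((Nat.prime_dvd_prime_iff_eq Nat.prime_two hpp).mp
          (Nat.prime_two.dvd_of_dvd_pow (n := n) (by rw [← hn]; exact ⟨k, hk⟩))).symm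
        subst this
        exact_mod_cast CharP.cast_eq_zero F 2
      exact ⟨τ, 0, by linear_combination hτ + h2⟩
    · open Polynomial in
      obtain ⟨a, c, hac⟩ := FiniteField.exists_root_sum_quadratic
        (f := (C (1 : F) * X ^ 2 + C (-1) * X + C 1)) (g := (C (1 : F) * X ^ 2 + C τ * X + C 0))
        (degree_quadratic one_ne_zero) (degree_quadratic one_ne_zero) h
      exact ⟨a, c, by simpa [pow_two, sub_eq_add_neg] using hac⟩
  let A : SL₂ := ⟨!![0, -1; 1, 0], by simp [Matrix.det_fin_two_of]⟩
  let B : SL₂ := ⟨!![a, c + τ; c, 1 - a], by rw [Matrix.det_fin_two_of]; linear_combination -hac⟩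
  obtain ⟨f, hf, -⟩ := exists_hom τ (A := A) (B := B) hτ
    (by ext i j; fin_cases i <;> fin_cases j <;> simp [A, Matrix.mul_apply, Fin.sum_univ_two])
    (by ext i j; fin_cases i <;> fin_cases j <;>
      simp [B, Matrix.mul_apply, Fin.sum_univ_two] <;>
      first | ring1 | linear_combination hac | linear_combination -hac)
    (by ext i j; fin_cases i <;> fin_cases j <;>
      simp [A, B, Matrix.mul_apply, Fin.sum_univ_two] <;>
      first | ring1 | linear_combination hac | linear_combination -hac)
    (by
      intro h
      rcases h with h | h <;>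
        have h' := congrFun (congrFun (congrArg Subtype.val h) 1) 0 <;> simp [A] at h')
  exact ⟨f, hf⟩

omit τ in
/-- An element of order five produces a root of `X² - X - 1`. -/
theorem exists_root_of_orderOf {g : PSL₂} (hg : orderOf g = 5) : ∃ τ : F, τ * τ = τ + 1 := by
  obtain ⟨y, rfl⟩ := proj_surjective g
  have hns : ¬ IsScalar y := fun h => by
    rw [proj_one_iff.mpr h, orderOf_one] at hg; omega
  set t := tr y with ht
  set M : Matrix (Fin 2) (Fin 2) F := (y : Matrix (Fin 2) (Fin 2) F) with hM
  have h2 : M * M = t • M - 1 := by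
    have d := det_eq y
    ext i j
    fin_cases i <;> fin_cases j <;>
      simp [hM, ht, tr, Matrix.mul_apply, Fin.sum_univ_two] <;>
      first | ring1 | linear_combination d | linear_combination -d
  have h5 : (y : Matrix (Fin 2) (Fin 2) F) * y * y * y * y =
      (t ^ 4 - 3 * t ^ 2 + 1) • M - (t ^ 3 - 2 * t) • (1 : Matrix (Fin 2) (Fin 2) F) := by
    rw [← hM]
    simp only [h2, sub_mul, smul_mul_assoc, one_mul, smul_sub, smul_smul]
    module
  have hsc : IsScalar (y ^ 5) := proj_one_iff.mp (by rw [map_pow, ← hg, pow_orderOf_eq_one])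
  have e : ∀ i j, i ≠ j → ((y : Matrix (Fin 2) (Fin 2) F) * y * y * y * y) i j = 0 := by
    intro i j hij
    have hy : ((y ^ 5 : SL₂) : Matrix (Fin 2) (Fin 2) F) = (y : Matrix (Fin 2) (Fin 2) F) * y * y * y * y := by
      simp [pow_succ, mul_assoc]
    rw [← hy]
    rcases hsc with e | e <;> rw [e] <;> simp [hij]
  have e' : ((y : Matrix (Fin 2) (Fin 2) F) * y * y * y * y) 0 0 =
      ((y : Matrix (Fin 2) (Fin 2) F) * y * y * y * y) 1 1 := by
    have hy : ((y ^ 5 : SL₂) : Matrix (Fin 2) (Fin 2) F) = (y : Matrix (Fin 2) (Fin 2) F) * y * y * y * y := by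
      simp [pow_succ, mul_assoc]
    rw [← hy]
    rcases hsc with e | e <;> rw [e] <;> simp
  rw [h5] at e e'
  have e01 := e 0 1 (by decide)
  have e10 := e 1 0 (by decide)
  simp at e01 e10 e'
  by_cases hk : t ^ 4 - 3 * t ^ 2 + 1 = 0
  · have : (t * t - t - 1) * (t * t + t - 1) = 0 := by linear_combination hk
    rcases mul_eq_zero.mp this with h | h
    · exact ⟨t, by linear_combination h⟩
    · exact ⟨-t, by linear_combination h⟩
  · exfalso
    refine hns ?_
    have d := det_eq y
    have y01 : M 0 1 = 0 := e01.resolve_left hk
    have y10 : M 1 0 = 0 := e10.resolve_left hk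
    have y00 : M 0 0 = M 1 1 := e'.resolve_right hk
    rw [← hM, y01, zero_mul, sub_zero, ← y00] at d
    rcases mul_self_eq_one_iff.mp d with h | h
    · refine Or.inl (Subtype.ext ?_)
      ext i j
      fin_cases i <;> fin_cases j <;> simp [← hM, y01, y10, h, ← y00]
    · refine Or.inr (Subtype.ext ?_)
      rw [Matrix.SpecialLinearGroup.coe_neg]
      ext i j
      fin_cases i <;> fin_cases j <;> simp [← hM, y01, y10, h, ← y00]

omit τ in
/-- `PSL(2, q)` contains `A₅` exactly when its order is divisible by five. -/
theorem exists_alt5_iff :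
    (∃ H : Subgroup PSL₂, Nonempty (H ≃* alternatingGroup (Fin 5))) ↔ 5 ∣ Nat.card PSL₂ := by
  constructor
  · rintro ⟨H, ⟨e⟩⟩
    have h : 5 ∣ Nat.card H := by
      rw [Nat.card_congr e.toEquiv, nat_card_alternatingGroup, Nat.card_fin]
      norm_num [Nat.factorial]
    exact h.trans (Subgroup.card_subgroup_dvd_card H)
  · intro h
    haveI : Fact (Nat.Prime 5) := ⟨by norm_num⟩
    obtain ⟨g, hg⟩ := exists_prime_orderOf_dvd_card' 5 h
    obtain ⟨τ, hτ⟩ := exists_root_of_orderOf hg
    obtain ⟨f, hf⟩ := exists_hom_of_root hτ
    exact ⟨f.range, ⟨(MonoidHom.ofInjective hf).symm⟩⟩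

end Ico

end Cfsg.Agent.Dickson
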