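import Mathlib
import Cfsg.Agent.Lib.Classical.DicksonFacts

/-!
Field embeddings and the copies of `PSL(2, K)` and `PGL(2, K)` inside `PSL(2, F)`.
-/

set_option autoImplicit false

namespace Cfsg.Agent.Dickson

open Matrix Cfsg.Agent.PSL2Spec

variable {F : Type*} [Field F] [Fintype F] {K : Type*} [Field K] [Fintype K]

local notation "PSL₂" => Matrix.ProjectiveSpecialLinearGroup (Fin 2) F

/-- A finite field embeds in every finite field whose order is a power of its order. -/
theorem exists_ringHom_of_card_pow {m : ℕ} (h : Fintype.card K ^ m = Fintype.card F) :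
    Nonempty (K →+* F) := by
  obtain ⟨p, hp'⟩ := CharP.exists F
  haveI : Fact p.Prime := ⟨CharP.char_is_prime F p⟩
  obtain ⟨f, -, hf⟩ := FiniteField.card F p
  obtain ⟨r, hr'⟩ := CharP.exists K
  haveI : Fact r.Prime := ⟨CharP.char_is_prime K r⟩
  obtain ⟨j, hrp, hj⟩ := FiniteField.card K r
  have hm : m ≠ 0 := fun h0 => by
    rw [h0, pow_zero] at h
    exact (Fintype.one_lt_card (α := F)).ne h
  have hrp' : r = p := by
    refine (Nat.prime_dvd_prime_iff_eq hrp Fact.out).mp (hrp.dvd_of_dvd_pow (n := f) ?_)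
    rw [← hf, ← h, hj, ← pow_mul]
    exact dvd_pow_self r (Nat.mul_ne_zero j.pos.ne' hm)
  subst hrp'
  letI : Algebra (ZMod r) K := ZMod.algebra K r
  letI : Algebra (ZMod r) F := ZMod.algebra F r
  have hK : Module.finrank (ZMod r) K = j := by
    have h1 := Module.card_eq_pow_finrank (K := ZMod r) (V := K)
    rw [ZMod.card, hj] at h1
    exact (Nat.pow_right_injective hrp.two_le h1).symm
  have hF : Module.finrank (ZMod r) F = f := by
    have h1 := Module.card_eq_pow_finrank (K := ZMod r) (V := F)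
    rw [ZMod.card, hf] at h1
    exact (Nat.pow_right_injective hrp.two_le h1).symm
  have hd : (j : ℕ) ∣ f := by
    rw [hf, hj, ← pow_mul] at h
    exact ⟨m, (Nat.pow_right_injective hrp.two_le h).symm⟩
  obtain ⟨φ⟩ := FiniteField.nonempty_algHom_of_finrank_dvd (F := ZMod r) (K := K) (L := F)
    (by rwa [hK, hF])
  exact ⟨φ.toRingHom⟩

/-- Membership in the image of `PSL(2, F)`. -/
theorem mem_range_toPGL_iff (g : GL (Fin 2) F) :
    Matrix.ProjGenLinGroup.mk g ∈ (Matrix.ProjectiveSpecialLinearGroup.toPGL (n := Fin 2) (R := F)).range ↔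
      IsSquare (g : Matrix (Fin 2) (Fin 2) F).det := by
  constructor
  · rintro ⟨x, hx⟩
    obtain ⟨z, rfl⟩ := QuotientGroup.mk_surjective x
    change Matrix.ProjGenLinGroup.mk (Matrix.SpecialLinearGroup.toGL z) = Matrix.ProjGenLinGroup.mk g at hx
    obtain ⟨u, hu⟩ := Matrix.ProjGenLinGroup.mk_eq_mk_iff.mp hx
    refine ⟨(u : F), ?_⟩
    rw [← hu, Units.val_mul, Matrix.det_mul, Matrix.GeneralLinearGroup.coe_scalar]
    have : ((Matrix.SpecialLinearGroup.toGL z : GL (Fin 2) F) : Matrix (Fin 2) (Fin 2) F).det = 1 := z.2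
    rw [this, one_mul]
    simp [Matrix.det_fin_two, pow_two]
  · rintro ⟨r, hr⟩
    have hr0 : r ≠ 0 := fun e => g.det_ne_zero (by rw [hr, e, mul_zero])
    let z : Matrix.SpecialLinearGroup (Fin 2) F := ⟨r⁻¹ • (g : Matrix (Fin 2) (Fin 2) F), by
      rw [Matrix.det_smul, hr, Fintype.card_fin]
      field_simp⟩
    refine ⟨QuotientGroup.mk z, ?_⟩
    show Matrix.ProjGenLinGroup.mk (Matrix.SpecialLinearGroup.toGL z) = Matrix.ProjGenLinGroup.mk g
    rw [Matrix.ProjGenLinGroup.mk_eq_mk_iff]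
    refine ⟨Units.mk0 r hr0, Units.ext ?_⟩
    rw [Units.val_mul, Matrix.GeneralLinearGroup.coe_scalar]
    show (r⁻¹ • (g : Matrix (Fin 2) (Fin 2) F)) * _ = _
    ext i j
    fin_cases i <;> fin_cases j <;> simp [z] <;> field_simp

/-- The image of `PSL(2, K)` lies in `PSL(2, F)`. -/
theorem pslImg_le_range (φ : K →+* F) :
    pslImg φ ≤ (Matrix.ProjectiveSpecialLinearGroup.toPGL (n := Fin 2) (R := F)).range := by
  rintro _ ⟨x, rfl⟩
  obtain ⟨z, rfl⟩ := QuotientGroup.mk_surjective x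
  show Matrix.ProjGenLinGroup.mk (Matrix.GeneralLinearGroup.map φ (Matrix.SpecialLinearGroup.toGL z)) ∈ _
  rw [mem_range_toPGL_iff]
  refine ⟨1, ?_⟩
  show (((z : Matrix (Fin 2) (Fin 2) K)).map φ).det = 1 * 1
  rw [← RingHom.mapMatrix_apply, ← RingHom.map_det, z.2, map_one, one_mul]

/-- The copy of `PSL(2, K)` as a subgroup of `PSL(2, F)`. -/
def pslSub (φ : K →+* F) : Subgroup PSL₂ :=
  (pslImg φ).comap Matrix.ProjectiveSpecialLinearGroup.toPGL

theorem map_pslSub (φ : K →+* F) :
    (pslSub φ).map Matrix.ProjectiveSpecialLinearGroup.toPGL = pslImg φ := by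
  rw [pslSub, Subgroup.map_comap_eq, inf_eq_right.mpr (pslImg_le_range φ)]

theorem nonempty_pslSub (φ : K →+* F) :
    Nonempty (pslSub φ ≃* Matrix.ProjectiveSpecialLinearGroup (Fin 2) K) := by
  obtain ⟨i⟩ := nonempty_pslImg φ
  exact ⟨(Subgroup.equivMapOfInjective _ _ Matrix.ProjectiveSpecialLinearGroup.toPGL_injective).trans
    ((MulEquiv.subgroupCongr (map_pslSub φ)).trans i)⟩

/-- `PGL(2, K)` lies in `PSL(2, F)` exactly when all elements of `K` are squares in `F`. -/
theorem pglImg_le_range_iff (φ : K →+* F) :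
    (pglMap φ).range ≤ (Matrix.ProjectiveSpecialLinearGroup.toPGL (n := Fin 2) (R := F)).range ↔
      ∀ k : K, IsSquare (φ k) := by
  constructor
  · intro h k
    by_cases hk : k = 0
    · rw [hk, map_zero]; exact IsSquare.zero
    let g : GL (Fin 2) K := Matrix.GeneralLinearGroup.mkOfDetNeZero !![k, 0; 0, 1]
      (by simpa [Matrix.det_fin_two_of] using hk)
    have := (mem_range_toPGL_iff _).mp (h ⟨Matrix.ProjGenLinGroup.mk g, pglMap_mk φ g⟩)
    simpa [g, Matrix.det_fin_two, Matrix.GeneralLinearGroup.mkOfDetNeZero] using this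
  · rintro h _ ⟨x, rfl⟩
    induction x using Matrix.ProjGenLinGroup.induction_on with | mk g => ?_
    rw [pglMap_mk, mem_range_toPGL_iff]
    show IsSquare ((g : Matrix (Fin 2) (Fin 2) K).map φ).det
    rw [← RingHom.mapMatrix_apply, ← RingHom.map_det]
    exact h _

end Cfsg.Agent.Dickson
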