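import Mathlib

/-!
Pairs of two-by-two matrices are determined up to conjugacy by five invariants, when they have no
common eigenvector.
-/

set_option autoImplicit false

namespace Cfsg.Agent.Dickson.Traces

open Matrix

variable {F : Type*} [Field F]

local notation "M₂" => Matrix (Fin 2) (Fin 2) F

/-- The matrix with columns `v`, `A v`. -/
def frame (A : Matrix (Fin 2) (Fin 2) F) (v : Fin 2 → F) : Matrix (Fin 2) (Fin 2) F :=
  !![v 0, (A *ᵥ v) 0; v 1, (A *ᵥ v) 1]

/-- The companion matrix. -/
def comp (A : Matrix (Fin 2) (Fin 2) F) : Matrix (Fin 2) (Fin 2) F :=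
  !![0, -A.det; 1, A.trace]

theorem mul_frame (A : M₂) (v : Fin 2 → F) : A * frame A v = frame A v * comp A := by
  ext i j
  fin_cases i <;> fin_cases j <;>
    simp [frame, comp, Matrix.mul_apply, Fin.sum_univ_two, Matrix.mulVec, dotProduct, Matrix.det_fin_two,
      Matrix.trace_fin_two] <;> ring

/-- The determinant of a commutator in terms of invariants. -/
theorem det_comm (A B : M₂) :
    (A * B - B * A).det = 4 * A.det * B.det -
      (A.trace ^ 2 * B.det + B.trace ^ 2 * A.det + (A * B).trace ^ 2 - A.trace * B.trace * (A * B).trace) := by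
  simp [Matrix.det_fin_two, Matrix.trace_fin_two, Matrix.mul_apply, Fin.sum_univ_two]
  ring

theorem det_combination (A B : M₂) (a c : F) :
    (B - a • (1 : M₂) - c • A).det = B.det + a ^ 2 + c ^ 2 * A.det - a * B.trace +
      c * ((A * B).trace - A.trace * B.trace) + a * c * A.trace := by
  simp [Matrix.det_fin_two, Matrix.trace_fin_two, Matrix.mul_apply, Fin.sum_univ_two]
  ring

/-- A vector moved off its line. -/
theorem exists_frame {A B : M₂} (h : (A * B - B * A).det ≠ 0) : ∃ v, (frame A v).det ≠ 0 := by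
  by_contra hc
  push Not at hc
  have h0 := hc ![1, 0]
  have h1 := hc ![0, 1]
  have h2 := hc ![1, 1]
  simp [frame, Matrix.det_fin_two, Matrix.mulVec, dotProduct, Fin.sum_univ_two] at h0 h1 h2
  have e : A = A 0 0 • (1 : M₂) := by
    rw [h0, h1] at h2
    ext i j
    fin_cases i <;> fin_cases j <;> simp [h0, h1]
    linear_combination h2
  refine h ?_
  rw [e]
  simp

/-- A vector spanning a frame, from a nontrivial relation. -/
theorem frame_det_ne {A B : M₂} (h : (A * B - B * A).det ≠ 0) {a c : F} {w : Fin 2 → F} (hw : w ≠ 0)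
    (hBw : (B - a • (1 : M₂) - c • A) *ᵥ w = 0) : (frame A w).det ≠ 0 := by
  intro hd
  obtain ⟨l, hl⟩ : ∃ l : F, A *ᵥ w = l • w := by
    replace hd : w 0 * (A *ᵥ w) 1 - (A *ᵥ w) 0 * w 1 = 0 := by
      simpa only [frame, Matrix.det_fin_two_of] using hd
    by_cases h0 : w 0 = 0
    · have h1 : w 1 ≠ 0 := fun h1 => hw (by ext i; fin_cases i <;> assumption)
      refine ⟨(A *ᵥ w) 1 / w 1, ?_⟩
      have e0 : (A *ᵥ w) 0 = 0 := by
        rw [h0, zero_mul, zero_sub, neg_eq_zero, mul_eq_zero] at hd
        exact hd.resolve_right h1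
      ext i
      fin_cases i
      · simp [h0, e0]
      · simp [h1]
    · refine ⟨(A *ᵥ w) 0 / w 0, ?_⟩
      ext i
      fin_cases i
      · simp [h0]
      · simp only [Fin.mk_one, Pi.smul_apply, smul_eq_mul]
        field_simp
        linear_combination hd
  have hB : B *ᵥ w = (a + c * l) • w := by
    rw [Matrix.sub_mulVec, Matrix.sub_mulVec, Matrix.smul_mulVec, Matrix.smul_mulVec, Matrix.one_mulVec, hl,
      sub_sub, sub_eq_zero] at hBw
    rw [hBw, smul_smul, add_smul]
  refine h (Matrix.exists_mulVec_eq_zero_iff.mp ⟨w, hw, ?_⟩)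
  rw [Matrix.sub_mulVec, ← Matrix.mulVec_mulVec, ← Matrix.mulVec_mulVec, hl, hB, Matrix.mulVec_smul,
    Matrix.mulVec_smul, hl, hB, smul_smul, smul_smul, mul_comm, sub_self]

/-- Normal form of the second matrix. -/
theorem frame_conj {A B : M₂} {v : Fin 2 → F} (hd : (frame A v).det ≠ 0) {a c : F}
    (hBv : (B - a • (1 : M₂) - c • A) *ᵥ v = 0) :
    (frame A v)⁻¹ * B * frame A v =
      !![a, (A * B).trace + A.det * c - A.trace * (B.trace - a); c, B.trace - a] := by
  set V := frame A v with hV
  set B1 := V⁻¹ * B * V with hB1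
  have hu : IsUnit V.det := hd.isUnit
  have hVB : V * B1 = B * V := by rw [hB1, ← mul_assoc, ← mul_assoc, Matrix.mul_nonsing_inv _ hu, one_mul]
  have hcol : ∀ i, (B * V) i 0 = (V * !![a, 0; c, 0]) i 0 := by
    intro i
    have := congrFun hBv i
    fin_cases i <;>
      simp [hV, frame, Matrix.mul_apply, Matrix.mulVec, dotProduct, Fin.sum_univ_two] at this ⊢ <;>
      linear_combination this
  have e0 : ∀ i, B1 i 0 = (!![a, 0; c, 0] : M₂) i 0 := by
    intro i
    have e : ∀ X : M₂, X i 0 = (V⁻¹ * (V * X)) i 0 := fun X => by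
      rw [← mul_assoc, Matrix.nonsing_inv_mul _ hu, one_mul]
    rw [e B1, e (!![a, 0; c, 0] : M₂), hVB, Matrix.mul_apply, Matrix.mul_apply]
    exact Finset.sum_congr rfl fun k _ => by rw [hcol]
  have ht : B1.trace = B.trace := by
    rw [hB1, Matrix.trace_mul_cycle, Matrix.mul_nonsing_inv _ hu, one_mul]
  have hAV : V⁻¹ * A * V = comp A := by
    rw [mul_assoc, mul_frame, ← mul_assoc, Matrix.nonsing_inv_mul _ hu, one_mul]
  have hAB : (comp A * B1).trace = (A * B).trace := by
    rw [← hAV, hB1]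
    have : V⁻¹ * A * V * (V⁻¹ * B * V) = V⁻¹ * (A * B) * V := by
      simp only [mul_assoc, ← mul_assoc V V⁻¹, Matrix.mul_nonsing_inv _ hu, one_mul]
    rw [this, Matrix.trace_mul_cycle, Matrix.mul_nonsing_inv _ hu, one_mul]
  have e00 : B1 0 0 = a := by simpa using e0 0
  have e10 : B1 1 0 = c := by simpa using e0 1
  rw [Matrix.trace_fin_two, e00] at ht
  rw [Matrix.trace_fin_two (comp A * B1), Matrix.mul_apply, Matrix.mul_apply, Fin.sum_univ_two, Fin.sum_univ_two] at hAB
  simp [comp, e00, e10] at hAB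
  ext i j
  fin_cases i <;> fin_cases j
  · simpa using e00
  · have : B1 0 1 = (A * B).trace + A.det * c - A.trace * (B.trace - a) := by
      linear_combination hAB - A.trace * ht
    simpa using this
  · simpa using e10
  · have : B1 1 1 = B.trace - a := by linear_combination ht
    simpa using this

/-- Pairs with equal invariants are conjugate. -/
theorem exists_conj {A B A' B' : M₂} (htA : A.trace = A'.trace) (hdA : A.det = A'.det)
    (htB : B.trace = B'.trace) (hdB : B.det = B'.det) (htAB : (A * B).trace = (A' * B').trace)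
    (h : (A * B - B * A).det ≠ 0) :
    ∃ P : GL (Fin 2) F, (P : M₂) * A = A' * (P : M₂) ∧ (P : M₂) * B = B' * (P : M₂) := by
  obtain ⟨v, hv⟩ := exists_frame h
  have hu : IsUnit (frame A v).det := hv.isUnit
  set a := ((frame A v)⁻¹ * B * frame A v) 0 0 with ha
  set c := ((frame A v)⁻¹ * B * frame A v) 1 0 with hc
  have hv0 : v ≠ 0 := fun e => hv (by simp [frame, e, Matrix.det_fin_two])
  have hBv : (B - a • (1 : M₂) - c • A) *ᵥ v = 0 := by
    have e : B * frame A v = frame A v * ((frame A v)⁻¹ * B * frame A v) := by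
      rw [← mul_assoc, ← mul_assoc, Matrix.mul_nonsing_inv _ hu, one_mul]
    ext i
    have ei := congrFun (congrFun e i) 0
    rw [Matrix.mul_apply (M := frame A v) (N := (frame A v)⁻¹ * B * frame A v), Fin.sum_univ_two, ← ha, ← hc] at ei
    fin_cases i <;>
      simp [frame, Matrix.mul_apply, Matrix.mulVec, dotProduct, Fin.sum_univ_two] at ei ⊢ <;>
      linear_combination ei
  have h' : (A' * B' - B' * A').det ≠ 0 := by
    rw [det_comm, ← htA, ← hdA, ← htB, ← hdB, ← htAB, ← det_comm]; exact h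
  obtain ⟨w, hw, hBw⟩ : ∃ w, w ≠ 0 ∧ (B' - a • (1 : M₂) - c • A') *ᵥ w = 0 := by
    refine Matrix.exists_mulVec_eq_zero_iff.mpr ?_
    rw [det_combination, ← htA, ← hdA, ← htB, ← hdB, ← htAB, ← det_combination]
    exact Matrix.exists_mulVec_eq_zero_iff.mp ⟨v, hv0, hBv⟩
  have hw' := frame_det_ne h' hw hBw
  have hu' : IsUnit (frame A' w).det := hw'.isUnit
  have hB1 : (frame A v)⁻¹ * B * frame A v = (frame A' w)⁻¹ * B' * frame A' w := by
    rw [frame_conj hv hBv, frame_conj hw' hBw, htA, hdA, htB, htAB]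
  have hA1 : (frame A v)⁻¹ * A * frame A v = (frame A' w)⁻¹ * A' * frame A' w := by
    rw [mul_assoc, mul_frame, ← mul_assoc, Matrix.nonsing_inv_mul _ hu, mul_assoc, mul_frame, ← mul_assoc,
      Matrix.nonsing_inv_mul _ hu']
    simp [comp, htA, hdA]
  let P : M₂ := frame A' w * (frame A v)⁻¹
  have hP : IsUnit P.det := by
    rw [Matrix.det_mul]; exact hu'.mul (by simpa using hu)
  refine ⟨Matrix.GeneralLinearGroup.mkOfDetNeZero P hP.ne_zero, ?_, ?_⟩
  · show P * A = A' * P
    have := congrArg (fun X => frame A' w * X * (frame A v)⁻¹) hA1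
    simpa [P, mul_assoc, Matrix.mul_nonsing_inv_cancel_left _ _ hu', Matrix.mul_nonsing_inv _ hu] using this
  · show P * B = B' * P
    have := congrArg (fun X => frame A' w * X * (frame A v)⁻¹) hB1
    simpa [P, mul_assoc, Matrix.mul_nonsing_inv_cancel_left _ _ hu', Matrix.mul_nonsing_inv _ hu] using this

end Cfsg.Agent.Dickson.Traces
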