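import Mathlib
import Cfsg.Agent.Lib.Classical.DicksonEmbed
import Cfsg.Agent.Lib.Classical.DicksonTraces
import Cfsg.Agent.Lib.Classical.DicksonKlein

/-!
Overgroups of subfield type in `PSL(2, F)`.
-/

set_option autoImplicit false

namespace Cfsg.Agent.Dickson

open Matrix Cfsg.Agent.PSL2Spec

variable {F : Type*} [Field F] [Fintype F]

local notation "PSL₂" => Matrix.ProjectiveSpecialLinearGroup (Fin 2) F

theorem normal_range_toPGL :
    ((Matrix.ProjectiveSpecialLinearGroup.toPGL (n := Fin 2) (R := F)).range).Normal := by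
  refine ⟨fun x hx g => ?_⟩
  induction x using Matrix.ProjGenLinGroup.induction_on with | mk a => ?_
  induction g using Matrix.ProjGenLinGroup.induction_on with | mk b => ?_
  rw [← map_inv, ← map_mul, ← map_mul, mem_range_toPGL_iff, Units.val_mul, Units.val_mul, Matrix.det_mul,
    Matrix.det_mul, mul_comm ((b : Matrix (Fin 2) (Fin 2) F).det), mul_assoc, ← Matrix.det_mul,
    ← Units.val_mul, mul_inv_cancel, Units.val_one, Matrix.det_one, mul_one]
  exact (mem_range_toPGL_iff a).mp hx

/-- The part in `PSL(2, F)` of a conjugate of `PGL(2, K)`. -/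
def sfOver (K : Subfield F) (x : Matrix.ProjGenLinGroup (Fin 2) F) :
    Subgroup (Matrix.ProjectiveSpecialLinearGroup (Fin 2) F) :=
  ((pglMap K.subtype).range.map (MulAut.conj x).toMonoidHom).comap Matrix.ProjectiveSpecialLinearGroup.toPGL

theorem sfOver_mono {K L : Subfield F} (h : K ≤ L) (x : Matrix.ProjGenLinGroup (Fin 2) F) :
    sfOver K x ≤ sfOver L x := by
  refine Subgroup.comap_mono (Subgroup.map_mono ?_)
  rintro _ ⟨z, rfl⟩
  induction z using Matrix.ProjGenLinGroup.induction_on with | mk g => ?_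
  exact ⟨Matrix.ProjGenLinGroup.mk (Matrix.GeneralLinearGroup.map (Subfield.inclusion h) g), rfl⟩

theorem sfOver_ne_top {K : Subfield F} (hK : K ≠ ⊤) (x : Matrix.ProjGenLinGroup (Fin 2) F) : sfOver K x ≠ ⊤ := by
  intro h
  refine hK (eq_top_iff.mpr fun s _ => ?_)
  have hle : (Matrix.ProjectiveSpecialLinearGroup.toPGL (n := Fin 2) (R := F)).range ≤
      (pglMap K.subtype).range.map (MulAut.conj x).toMonoidHom := by
    rintro _ ⟨g, rfl⟩
    exact (h ▸ Subgroup.mem_top g : g ∈ sfOver K x)
  let u : GL (Fin 2) F := Matrix.GeneralLinearGroup.mkOfDetNeZero !![1, s; 0, 1] (by simp [Matrix.det_fin_two_of])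
  have hu : Matrix.ProjGenLinGroup.mk u ∈ (Matrix.ProjectiveSpecialLinearGroup.toPGL (n := Fin 2) (R := F)).range :=
    (mem_range_toPGL_iff u).mpr (by simp [u, Matrix.GeneralLinearGroup.mkOfDetNeZero, Matrix.det_fin_two_of])
  obtain ⟨z, ⟨w, rfl⟩, hz⟩ := hle (normal_range_toPGL.conj_mem _ hu x)
  have hw : pglMap K.subtype w = Matrix.ProjGenLinGroup.mk u :=
    (MulAut.conj x).injective (by simpa using hz)
  induction w using Matrix.ProjGenLinGroup.induction_on with | mk g => ?_
  rw [pglMap_mk, eq_comm, Matrix.ProjGenLinGroup.mk_eq_mk_iff] at hw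
  obtain ⟨l, hl⟩ := hw
  have e := fun i j => congrArg (fun z : GL (Fin 2) F => (z : Matrix (Fin 2) (Fin 2) F) i j) hl
  have e00 := e 0 0
  have e01 := e 0 1
  simp [u, Matrix.GeneralLinearGroup.mkOfDetNeZero, Matrix.mul_apply, Fin.sum_univ_two] at e00 e01
  have hl0 : (l : F) ∈ K := by rw [e00]; exact SetLike.coe_mem _
  have hs : s * (l : F) ∈ K := by rw [e01]; exact SetLike.coe_mem _
  have := K.mul_mem hs (K.inv_mem hl0)
  rwa [mul_assoc, mul_inv_cancel₀ l.ne_zero, mul_one] at this

/-- Between a proper subfield and the field there is one of prime index. -/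
theorem exists_prime_index {K : Subfield F} (hK : K ≠ ⊤) :
    ∃ (L : Subfield F) (r : ℕ), K ≤ L ∧ r.Prime ∧ Nat.card L ^ r = Fintype.card F ∧ L ≠ ⊤ := by
  classical
  haveI : Fintype K := Fintype.ofFinite K
  have hm : Fintype.card F = Fintype.card K ^ Module.finrank K F := Module.card_eq_pow_finrank
  have hm1 : Module.finrank K F ≠ 1 := fun h => hK (by
    rw [h, pow_one] at hm
    exact SetLike.ext' (Set.eq_univ_of_univ_subset fun z _ => by
      have := (Fintype.bijective_iff_injective_and_card (fun y : K => (y : F))).mpr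
        ⟨Subtype.coe_injective, hm.symm⟩
      obtain ⟨y, rfl⟩ := this.2 z
      exact y.2))
  obtain ⟨r, hr, j, hj⟩ := Nat.exists_prime_and_dvd hm1
  have hcard : 1 < Fintype.card K := Fintype.one_lt_card
  have hj0 : j ≠ 0 := fun h => by
    rw [h, mul_zero] at hj
    rw [hj, pow_zero] at hm
    exact (Fintype.one_lt_card (α := F)).ne' hm
  obtain ⟨p, hp⟩ := CharP.exists K
  obtain ⟨a, hap, hKa⟩ := FiniteField.card K p
  haveI : Fact p.Prime := ⟨hap⟩
  haveI : Fintype (GaloisField p (a * j)) := Fintype.ofFinite _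
  have hE : Fintype.card (GaloisField p (a * j)) = Fintype.card K ^ j := by
    rw [← Nat.card_eq_fintype_card, GaloisField.card p _ (Nat.mul_ne_zero a.pos.ne' hj0), hKa, ← pow_mul]
  obtain ⟨φ⟩ := exists_ringHom_of_card_pow (F := F) (K := GaloisField p (a * j)) (m := r)
    (by rw [hE, ← pow_mul, mul_comm j r, ← hj, ← hm])
  have hLc : Nat.card φ.fieldRange = Fintype.card K ^ j := by
    rw [← hE, ← Nat.card_eq_fintype_card]
    exact (Nat.card_congr (Equiv.ofInjective φ φ.injective)).symm
  have hc : 1 < Fintype.card K ^ j := Nat.one_lt_pow hj0 hcard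
  refine ⟨φ.fieldRange, r, fun x hx => ?_, hr, ?_, ?_⟩
  · -- both sides consist of roots of `X ^ c - X`
    haveI : Fintype φ.fieldRange := Fintype.ofFinite _
    let c := Fintype.card K ^ j
    let S : Finset F := Finset.univ.filter (fun y => y ^ c = y)
    have hS : S.card ≤ c := by
      refine le_trans ?_ (FiniteField.X_pow_card_sub_X_natDegree_eq F hc).le
      refine le_trans ?_ (Polynomial.card_roots' _)
      refine le_trans (le_of_eq ?_) (Multiset.toFinset_card_le _)
      refine congrArg Finset.card ?_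
      ext y
      simp only [S, Multiset.mem_toFinset, Polynomial.mem_roots (FiniteField.X_pow_card_sub_X_ne_zero F hc),
        Polynomial.IsRoot.def, Polynomial.eval_sub, Polynomial.eval_pow, Polynomial.eval_X, sub_eq_zero]
      exact ⟨fun h => (Finset.mem_filter.mp h).2, fun h => Finset.mem_filter.mpr ⟨Finset.mem_univ _, h⟩⟩
    let R : Finset F := Finset.univ.filter (fun y => y ∈ φ.fieldRange)
    have hR : R = S := by
      refine Finset.eq_of_subset_of_card_le (fun y hy => ?_) ?_
      · obtain ⟨z, rfl⟩ := (Finset.mem_filter.mp hy).2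
        refine Finset.mem_filter.mpr ⟨Finset.mem_univ _, ?_⟩
        rw [← map_pow, show c = Fintype.card (GaloisField p (a * j)) from hE.symm, FiniteField.pow_card]
      · refine hS.trans (le_of_eq ?_)
        rw [show c = Nat.card φ.fieldRange from hLc.symm, Nat.card_eq_fintype_card, Fintype.card_subtype]
    have hxS : x ∈ S := Finset.mem_filter.mpr ⟨Finset.mem_univ _, by
      have h1 := congrArg Subtype.val (FiniteField.pow_card_pow j (⟨x, hx⟩ : K))
      simpa using h1⟩
    rw [← hR] at hxS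
    exact (Finset.mem_filter.mp hxS).2
  · rw [hLc, ← pow_mul, mul_comm j r, ← hj, ← hm]
  · intro h
    have h1 : Nat.card φ.fieldRange = Fintype.card F := by
      rw [h, ← Nat.card_eq_fintype_card]
      exact Nat.card_congr Subfield.topEquiv.toEquiv
    rw [hLc] at h1
    have h2 : Fintype.card K ^ j < (Fintype.card K ^ j) ^ r := lt_self_pow₀ hc hr.one_lt
    rw [← pow_mul, mul_comm j r, ← hj, ← hm, h1] at h2
    exact lt_irrefl _ h2

theorem isSquare_of_even_index {L : Subfield F} (h : Nat.card L ^ 2 = Fintype.card F) (k : L) :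
    IsSquare (k : F) := by
  haveI : Fintype L := Fintype.ofFinite L
  rcases eq_or_ne (k : F) 0 with h0 | h0
  · rw [h0]; exact IsSquare.zero
  by_cases h2 : ringChar F = 2
  · exact FiniteField.isSquare_of_char_two h2 _
  rw [FiniteField.isSquare_iff h2 h0]
  have hk : (k : L) ^ (Fintype.card L - 1) = 1 :=
    FiniteField.pow_card_sub_one_eq_one k (fun e => h0 (by rw [e]; rfl))
  have hodd := FiniteField.odd_card_of_char_ne_two h2
  rw [Nat.card_eq_fintype_card] at h
  obtain ⟨m, hm⟩ : Odd (Fintype.card L) := (Nat.odd_pow_iff two_ne_zero).mp (h.symm ▸ Nat.odd_iff.mpr hodd)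
  have he : Fintype.card F / 2 = (Fintype.card L - 1) * (m + 1) := by
    rw [← h, hm, Nat.add_sub_cancel, show (2 * m + 1) ^ 2 = 2 * (2 * m * (m + 1)) + 1 by ring]
    omega
  have := congrArg (fun y : L => (y : F)) hk
  simp only [SubmonoidClass.coe_pow, OneMemClass.coe_one] at this
  rw [he, pow_mul, this, one_pow]

theorem isSquare_descend {L : Subfield F} {r : ℕ} (hr : Odd r) (h : Nat.card L ^ r = Fintype.card F) (k : L)
    (hk : IsSquare (k : F)) : IsSquare k := by
  haveI : Fintype L := Fintype.ofFinite L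
  rcases eq_or_ne k 0 with h0 | h0
  · rw [h0]; exact IsSquare.zero
  by_cases h2 : ringChar L = 2
  · exact FiniteField.isSquare_of_char_two h2 _
  have hoddL := FiniteField.odd_card_of_char_ne_two h2
  rw [Nat.card_eq_fintype_card] at h
  have hoddF : Odd (Fintype.card F) := h ▸ Odd.pow (Nat.odd_iff.mpr hoddL)
  rcases FiniteField.pow_dichotomy h2 h0 with e | e
  · exact (FiniteField.isSquare_iff h2 h0).mpr e
  exfalso
  have h2F : ringChar F ≠ 2 := fun e' => by
    have := FiniteField.even_card_iff_char_two.mp e'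
    rw [Nat.odd_iff] at hoddF; omega
  have hkF : (k : F) ≠ 0 := fun e' => h0 (Subtype.ext e')
  have hsq := (FiniteField.isSquare_iff h2F hkF).mp hk
  set c := Fintype.card L with hc
  obtain ⟨m, hm⟩ : Odd c := Nat.odd_iff.mpr hoddL
  -- `(c ^ r - 1) / 2` is an odd multiple of `(c - 1) / 2`
  have key : ∀ i, ∃ s, c ^ (2 * i + 1) / 2 = m * (2 * s + 1) := by
    intro i
    induction i with
    | zero => exact ⟨0, by simp; omega⟩
    | succ i ih =>
      obtain ⟨s, hs⟩ := ih
      have ho : c ^ (2 * i + 1) % 2 = 1 := Nat.odd_iff.mp ((Nat.odd_iff.mpr hoddL).pow)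
      have hx : c ^ (2 * i + 1) = 2 * (m * (2 * s + 1)) + 1 := by omega
      refine ⟨c ^ 2 * s + 2 * m ^ 2 + 3 * m + 1, ?_⟩
      rw [show 2 * (i + 1) + 1 = 2 + (2 * i + 1) by ring, pow_add, hx, hm]
      rw [show (2 * m + 1) ^ 2 * (2 * (m * (2 * s + 1)) + 1) =
        2 * (m * (2 * ((2 * m + 1) ^ 2 * s + 2 * m ^ 2 + 3 * m + 1) + 1)) + 1 by ring]
      omega
  obtain ⟨i, rfl⟩ := hr
  obtain ⟨s, hs⟩ := key i
  rw [← h, hs, pow_mul] at hsq
  have e' := congrArg (fun y : L => (y : F)) e
  have hcm : c / 2 = m := by omega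
  simp only [hcm, SubmonoidClass.coe_pow, NegMemClass.coe_neg, OneMemClass.coe_one] at e'
  rw [e', Odd.neg_one_pow ⟨s, rfl⟩] at hsq
  exact h2F (ringChar.eq_iff.mpr (CharTwo.of_one_ne_zero_of_two_eq_zero one_ne_zero (by
    linear_combination -hsq)))

/-- The isomorphism type of an overgroup of prime index. -/
theorem nonempty_sfOver {L : Subfield F} {r : ℕ} (hr : r.Prime) (h : Nat.card L ^ r = Fintype.card F)
    (x : Matrix.ProjGenLinGroup (Fin 2) F) :
    ((r = 2 ∨ Even (Fintype.card F)) → Nonempty (sfOver L x ≃* Matrix.ProjGenLinGroup (Fin 2) L)) ∧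
    ((Odd r ∨ Even (Fintype.card F)) → Nonempty (sfOver L x ≃* Matrix.ProjectiveSpecialLinearGroup (Fin 2) L)) := by
  classical
  set R := (Matrix.ProjectiveSpecialLinearGroup.toPGL (n := Fin 2) (R := F)).range with hR
  set c := (MulAut.conj x).toMonoidHom with hc
  have hcR : R.map c = R := by
    haveI := normal_range_toPGL (F := F)
    ext z
    refine ⟨?_, fun hz => ⟨x⁻¹ * z * x, ?_, by simp [hc, MulAut.conj_apply, mul_assoc]⟩⟩
    · rintro ⟨y, hy, rfl⟩
      exact normal_range_toPGL.conj_mem y hy x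
    · have := normal_range_toPGL.conj_mem z hz x⁻¹
      rwa [inv_inv] at this
  have hmap : (sfOver L x).map Matrix.ProjectiveSpecialLinearGroup.toPGL = ((pglMap L.subtype).range ⊓ R).map c := by
    rw [sfOver, Subgroup.map_comap_eq, Subgroup.map_inf _ _ _ (MulEquiv.injective _), hcR, inf_comm]
  let j := (Subgroup.equivMapOfInjective (sfOver L x) _
    (Matrix.ProjectiveSpecialLinearGroup.toPGL_injective (n := Fin 2) (R := F))).trans
      ((MulEquiv.subgroupCongr hmap).trans
        (Subgroup.equivMapOfInjective _ c (MulEquiv.injective _)).symm)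
  have hpgl : (∀ k : L, IsSquare (k : F)) → (pglMap L.subtype).range ⊓ R = (pglMap L.subtype).range := fun hs =>
    inf_eq_left.mpr ((pglImg_le_range_iff L.subtype).mpr hs)
  have hpsl : (∀ k : L, IsSquare (k : F) → IsSquare k) → (pglMap L.subtype).range ⊓ R = pslImg L.subtype := by
    intro hs
    refine le_antisymm ?_ (le_inf (pslImg_le _) (by haveI : Fintype L := Fintype.ofFinite L; exact pslImg_le_range _))
    rintro _ ⟨⟨z, rfl⟩, hz⟩
    induction z using Matrix.ProjGenLinGroup.induction_on with | mk g => ?_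
    rw [pglMap_mk] at hz
    replace hz := (mem_range_toPGL_iff _).mp hz
    haveI : Fintype L := Fintype.ofFinite L
    have hz' : IsSquare (g : Matrix (Fin 2) (Fin 2) L).det := hs _ (by
      rwa [show ((Matrix.GeneralLinearGroup.map L.subtype g : GL (Fin 2) F) : Matrix (Fin 2) (Fin 2) F).det =
          (((g : Matrix (Fin 2) (Fin 2) L).det : L) : F) from (RingHom.map_det L.subtype _).symm] at hz)
    obtain ⟨y, hy⟩ := (mem_range_toPGL_iff g).mpr hz'
    exact ⟨y, congrArg (pglMap L.subtype) hy⟩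
  refine ⟨fun h' => ?_, fun h' => ?_⟩
  · obtain ⟨i⟩ := nonempty_pglImg L.subtype
    refine ⟨j.trans ((MulEquiv.subgroupCongr (hpgl fun k => ?_)).trans i)⟩
    rcases h' with rfl | he
    · exact isSquare_of_even_index h k
    · exact FiniteField.isSquare_of_char_two (FiniteField.even_card_iff_char_two.mpr (Nat.even_iff.mp he)) _
  · obtain ⟨i⟩ := nonempty_pslImg L.subtype
    refine ⟨j.trans ((MulEquiv.subgroupCongr (hpsl fun k hk => ?_)).trans i)⟩
    rcases h' with ho | he
    · exact isSquare_descend ho h k hk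
    · haveI : Fintype L := Fintype.ofFinite L
      refine FiniteField.isSquare_of_char_two (FiniteField.even_card_iff_char_two.mpr ?_) _
      rw [Nat.card_eq_fintype_card] at h
      rw [← h, Nat.even_pow' hr.ne_zero] at he
      exact Nat.even_iff.mp he

/-- Two matrices whose invariants lie in a subfield lie, projectively, in a conjugate of `PGL(2, K)`. -/
theorem exists_conj_into (K : Subfield F) (hodd : Odd (Fintype.card F)) (A B : GL (Fin 2) F)
    (htA : (A : Matrix (Fin 2) (Fin 2) F).trace = 0) (hdA : (A : Matrix (Fin 2) (Fin 2) F).det ∈ K)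
    (htB : (B : Matrix (Fin 2) (Fin 2) F).trace ∈ K) (hdB : (B : Matrix (Fin 2) (Fin 2) F).det ∈ K)
    (htAB : ((A : Matrix (Fin 2) (Fin 2) F) * B).trace ∈ K)
    (hne : ((A : Matrix (Fin 2) (Fin 2) F) * B - B * A).det ≠ 0) :
    ∃ x, Matrix.ProjGenLinGroup.mk A ∈ (pglMap K.subtype).range.map (MulAut.conj x).toMonoidHom ∧
      Matrix.ProjGenLinGroup.mk B ∈ (pglMap K.subtype).range.map (MulAut.conj x).toMonoidHom := by
  classical
  set δ : K := ⟨_, hdA⟩ with hδ
  set s : K := ⟨_, htB⟩ with hs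
  set e : K := ⟨_, hdB⟩ with he
  set w : K := ⟨_, htAB⟩ with hw
  have hδ0 : δ ≠ 0 := fun h => A.det_ne_zero (congrArg Subtype.val h)
  haveI : Fintype K := Fintype.ofFinite K
  have hK : Fintype.card K % 2 = 1 := by
    rw [Module.card_eq_pow_finrank (K := K) (V := F)] at hodd
    have := Fintype.card F
    rcases Nat.eq_zero_or_pos (Module.finrank K F) with h | h
    · exact absurd h (Module.finrank_pos (R := K) (M := F)).ne'
    · exact Nat.odd_iff.mp ((Nat.odd_pow_iff h.ne').mp hodd)
  open Polynomial in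
  obtain ⟨a, c, hac⟩ := FiniteField.exists_root_sum_quadratic
    (f := (C (1 : K) * X ^ 2 + C (-s) * X + C e)) (g := (C δ * X ^ 2 + C w * X + C 0))
    (degree_quadratic one_ne_zero) (degree_quadratic hδ0) hK
  simp at hac
  let A0 : GL (Fin 2) K := Matrix.GeneralLinearGroup.mkOfDetNeZero !![0, -δ; 1, 0]
    (by simpa [Matrix.det_fin_two_of] using hδ0)
  have hd0 : (!![a, w + δ * c; c, s - a] : Matrix (Fin 2) (Fin 2) K).det = e := by
    rw [Matrix.det_fin_two_of]; linear_combination -hac
  let B0 : GL (Fin 2) K := Matrix.GeneralLinearGroup.mkOfDetNeZero _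
    (hd0.trans_ne fun h => B.det_ne_zero (congrArg Subtype.val h))
  set A1 := ((A0 : Matrix (Fin 2) (Fin 2) K).map K.subtype) with hA1
  set B1 := ((B0 : Matrix (Fin 2) (Fin 2) K).map K.subtype) with hB1
  obtain ⟨P, hPA, hPB⟩ := Traces.exists_conj (A := (A : Matrix (Fin 2) (Fin 2) F)) (B := B) (A' := A1) (B' := B1)
    (by simp [hA1, A0, htA, Matrix.trace_fin_two, Matrix.GeneralLinearGroup.mkOfDetNeZero])
    (by simp [hA1, A0, hδ, Matrix.det_fin_two, Matrix.GeneralLinearGroup.mkOfDetNeZero])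
    (by simp [hB1, B0, hs, Matrix.trace_fin_two, Matrix.GeneralLinearGroup.mkOfDetNeZero])
    (by
      rw [hB1, ← RingHom.mapMatrix_apply, ← RingHom.map_det]
      exact (congrArg Subtype.val hd0).symm)
    (by simp [hA1, hB1, A0, B0, hw, hδ, Matrix.trace_fin_two, Matrix.mul_apply, Fin.sum_univ_two,
      Matrix.GeneralLinearGroup.mkOfDetNeZero])
    hne
  have key : ∀ (Z : GL (Fin 2) F) (Z0 : GL (Fin 2) K),
      (P : Matrix (Fin 2) (Fin 2) F) * Z = (Z0 : Matrix (Fin 2) (Fin 2) K).map K.subtype * P →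
      Matrix.ProjGenLinGroup.mk Z ∈
        (pglMap K.subtype).range.map (MulAut.conj (Matrix.ProjGenLinGroup.mk P⁻¹)).toMonoidHom := by
    intro Z Z0 h
    refine ⟨_, ⟨Matrix.ProjGenLinGroup.mk Z0, rfl⟩, ?_⟩
    have h' : P * Z = Matrix.GeneralLinearGroup.map K.subtype Z0 * P := Units.ext h
    simp only [MulEquiv.toMonoidHom_eq_coe, MonoidHom.coe_coe, MulAut.conj_apply, pglMap_mk, ← map_inv, ← map_mul]
    rw [inv_inv, mul_assoc, ← h', inv_mul_cancel_left]
  exact ⟨Matrix.ProjGenLinGroup.mk P⁻¹, key A A0 hPA, key B B0 hPB⟩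

end Cfsg.Agent.Dickson
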