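import Mathlib
import Cfsg.Agent.Lib.Classical.DicksonOver
import Cfsg.Agent.Lib.Classical.DicksonIco
import Cfsg.Agent.Lib.Classical.DicksonCentral

/-!
The exceptional subgroups `A₄`, `S₄`, `A₅` of `PSL(2, F)`, `q` odd, as `(2, 3, n)`-generated groups.
-/

set_option autoImplicit false

namespace Cfsg.Agent.Dickson

open Matrix Cfsg.Agent.Grp.SL2 Cfsg.Agent.PSL2Spec

/-- The product of a word in two elements. -/
def wordProd {G : Type*} [Group G] (a b : G) : List Bool → G
  | [] => 1
  | true :: w => a * wordProd a b w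
  | false :: w => b * wordProd a b w

theorem closure_eq_top_of_words {G : Type*} [Group G] {a b : G} (L : List (List Bool))
    (h : ∀ x, x ∈ L.map (wordProd a b)) : Subgroup.closure ({a, b} : Set G) = ⊤ := by
  refine (Subgroup.eq_top_iff' _).mpr fun x => ?_
  obtain ⟨w, -, rfl⟩ := List.mem_map.mp (h x)
  induction w with
  | nil => exact one_mem _
  | cons g w ih =>
    cases g
    · exact mul_mem (Subgroup.subset_closure (by simp)) ih
    · exact mul_mem (Subgroup.subset_closure (by simp)) ih

namespace Exc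

/-- The involution of `A₄`. -/
def a4 : alternatingGroup (Fin 4) :=
  ⟨Equiv.swap 0 1 * Equiv.swap 2 3, by simp [Equiv.Perm.mem_alternatingGroup]⟩

/-- The element of order three of `A₄`. -/
def b4 : alternatingGroup (Fin 4) :=
  ⟨Equiv.swap 0 1 * Equiv.swap 1 2, by simp [Equiv.Perm.mem_alternatingGroup]⟩

/-- The involution of `S₄`. -/
def aS : Equiv.Perm (Fin 4) := Equiv.swap 0 1

/-- The element of order three of `S₄`. -/
def bS : Equiv.Perm (Fin 4) := Equiv.swap 1 2 * Equiv.swap 2 3

theorem alt4_data : Subgroup.closure ({a4, b4} : Set (alternatingGroup (Fin 4))) = ⊤ ∧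
    orderOf a4 = 2 ∧ orderOf b4 = 3 ∧ orderOf (a4 * b4) = 3 := by
  refine ⟨closure_eq_top_of_words [[], [true], [false], [false, true], [true, false], [false, false], [true, false, true], [false, false, true], [false, true, false], [true, false, false], [false, false, true, false], [false, true, false, false]] (by decide +kernel),
    orderOf_eq_prime (by decide) (by decide), ?_, ?_⟩ <;>
    refine orderOf_eq_prime (hp := ⟨Nat.prime_three⟩) ?_ ?_ <;> decide

theorem perm4_data : Subgroup.closure ({aS, bS} : Set (Equiv.Perm (Fin 4))) = ⊤ ∧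
    orderOf aS = 2 ∧ orderOf bS = 3 ∧ orderOf (aS * bS) = 4 := by
  refine ⟨closure_eq_top_of_words [[], [true], [false], [false, true], [true, false], [false, false], [true, false, true], [false, false, true], [false, true, false], [true, false, false], [false, true, false, true], [true, false, false, true], [true, false, true, false], [false, false, true, false], [false, true, false, false], [true, false, true, false, true], [false, false, true, false, true], [false, true, false, false, true], [true, false, false, true, false], [true, false, true, false, false], [true, false, false, true, false, true], [true, false, true, false, false, true], [false, true, false, false, true, false], [false, true, false, false, true, false, true]] (by decide +kernel),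
    orderOf_eq_prime (by decide) (by decide),
    orderOf_eq_prime (hp := ⟨Nat.prime_three⟩) (by decide) (by decide), ?_⟩
  exact orderOf_eq_prime_pow (p := 2) (n := 1) (by decide) (by decide)

theorem alt5_data : Subgroup.closure ({Ico.sA, Ico.sB} : Set (alternatingGroup (Fin 5))) = ⊤ ∧
    orderOf Ico.sA = 2 ∧ orderOf Ico.sB = 3 ∧ orderOf (Ico.sA * Ico.sB) = 5 := by
  refine ⟨(Subgroup.eq_top_iff' _).mpr fun x => ?_, orderOf_eq_prime (by decide) (by decide),
    orderOf_eq_prime (hp := ⟨Nat.prime_three⟩) (by decide) (by decide),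
    orderOf_eq_prime (hp := ⟨by norm_num⟩) (by decide) (by decide)⟩
  obtain ⟨i, rfl⟩ := Ico.perm_bijective.2 x
  show Ico.perm (Ico.word i) ∈ _
  induction Ico.word i with
  | nil => exact one_mem _
  | cons g w ih =>
    cases g
    · exact mul_mem (Subgroup.subset_closure (by simp)) ih
    · exact mul_mem (Subgroup.subset_closure (by simp)) ih

end Exc

variable {F : Type*} [Field F] [Fintype F]

local notation "SL₂" => Matrix.SpecialLinearGroup (Fin 2) F
local notation "PSL₂" => Matrix.ProjectiveSpecialLinearGroup (Fin 2) F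

/-- The relation satisfied by the trace of a product of order `n`. -/
def TraceRel (n : ℕ) (u : F) : Prop :=
  (n = 3 → u = 1) ∧ (n = 4 → u * u = 2) ∧ (n = 5 → u * u = u + 1)

/-- Normalised lifts of a `(2, 3, n)`-pair. -/
structure LiftPair (α β : Matrix.ProjectiveSpecialLinearGroup (Fin 2) F) (n : ℕ)
    (A B : Matrix.SpecialLinearGroup (Fin 2) F) : Prop where
  pa : proj A = α
  pb : proj B = β
  ta : tr A = 0
  tb : tr B = 1
  tab : TraceRel n (tr (A * B))
  ne : ((A : Matrix (Fin 2) (Fin 2) F) * B - B * A).det ≠ 0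

/-- Normalised lifts exist. -/
theorem exists_liftPair (hodd : Odd (Fintype.card F)) {α β : PSL₂} {n : ℕ} (ha : orderOf α = 2)
    (hb : orderOf β = 3) (hab : orderOf (α * β) = n) (hn : n = 3 ∨ n = 4 ∨ n = 5) :
    ∃ A B : SL₂, LiftPair α β n A B := by
  have h2 := two_ne_zero_of_odd_card hodd
  obtain ⟨A, rfl⟩ := proj_surjective α
  obtain ⟨B₀, rfl⟩ := proj_surjective β
  have hA : ¬ IsScalar A := fun h => by rw [proj_one_iff.mpr h, orderOf_one] at ha; omega
  have hAA : A * A = -1 := by
    have h : IsScalar (A * A) := proj_one_iff.mp (by rw [map_mul, ← pow_two]; exact orderOf_dvd_iff_pow_eq_one.mp ha.dvd)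
    exact h.resolve_left fun e => hA (mul_self_eq_one h2 e)
  have htA : tr A = 0 := (mul_self_eq_neg_one hA).mp hAA
  obtain ⟨B, hB, hBt⟩ : ∃ B : SL₂, proj B = proj B₀ ∧ tr B = 1 := by
    have hBs : ¬ IsScalar B₀ := fun h => by rw [proj_one_iff.mpr h, orderOf_one] at hb; omega
    have h3 : IsScalar (B₀ ^ 3) := proj_one_iff.mp (by rw [map_pow, ← hb, pow_orderOf_eq_one])
    have h2' : (B₀ : Matrix (Fin 2) (Fin 2) F) * B₀ = tr B₀ • (B₀ : Matrix (Fin 2) (Fin 2) F) - 1 := by
      have d := det_eq B₀
      ext i j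
      fin_cases i <;> fin_cases j <;>
        simp [tr, Matrix.mul_apply, Fin.sum_univ_two] <;>
        first | ring1 | linear_combination d | linear_combination -d
    have h3' : ((B₀ ^ 3 : SL₂) : Matrix (Fin 2) (Fin 2) F) =
        ((tr B₀) ^ 2 - 1) • (B₀ : Matrix (Fin 2) (Fin 2) F) - tr B₀ • 1 := by
      rw [Matrix.SpecialLinearGroup.coe_pow, pow_succ, pow_two]
      simp only [h2', sub_mul, smul_mul_assoc, one_mul, smul_sub, smul_smul]
      module
    have e : ∀ i j, i ≠ j → ((tr B₀) ^ 2 - 1) * (B₀ : Matrix (Fin 2) (Fin 2) F) i j = 0 := by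
      intro i j hij
      have e3 : ((B₀ ^ 3 : SL₂) : Matrix (Fin 2) (Fin 2) F) i j = 0 := by
        rcases h3 with e | e <;> rw [e] <;> simp [hij]
      rw [h3', Matrix.sub_apply, Matrix.smul_apply, Matrix.smul_apply, Matrix.one_apply_ne hij, smul_zero, sub_zero,
        smul_eq_mul] at e3
      exact e3
    have e' : ((tr B₀) ^ 2 - 1) * ((B₀ : Matrix (Fin 2) (Fin 2) F) 0 0 - (B₀ : Matrix (Fin 2) (Fin 2) F) 1 1) = 0 := by
      have e3 : ((B₀ ^ 3 : SL₂) : Matrix (Fin 2) (Fin 2) F) 0 0 = ((B₀ ^ 3 : SL₂) : Matrix (Fin 2) (Fin 2) F) 1 1 := by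
        rcases h3 with e | e <;> rw [e] <;> simp
      rw [h3'] at e3
      simp only [Matrix.sub_apply, Matrix.smul_apply, Matrix.one_apply_eq, smul_eq_mul] at e3
      linear_combination e3
    by_cases ht : (tr B₀) ^ 2 - 1 = 0
    · rcases sq_eq_one_iff.mp (sub_eq_zero.mp ht) with h | h
      · exact ⟨B₀, rfl, h⟩
      · refine ⟨-B₀, proj_neg B₀, ?_⟩
        simp [tr] at h ⊢
        linear_combination -h
    · exfalso
      refine hBs ?_
      have y01 := (mul_eq_zero.mp (e 0 1 (by decide))).resolve_left ht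
      have y10 := (mul_eq_zero.mp (e 1 0 (by decide))).resolve_left ht
      have y00 := sub_eq_zero.mp ((mul_eq_zero.mp e').resolve_left ht)
      have d := det_eq B₀
      rw [y01, zero_mul, sub_zero, ← y00] at d
      rcases mul_self_eq_one_iff.mp d with h | h
      · refine Or.inl (Subtype.ext ?_)
        ext i j
        fin_cases i <;> fin_cases j <;> simp [y01, y10, h, ← y00]
      · refine Or.inr (Subtype.ext ?_)
        rw [Matrix.SpecialLinearGroup.coe_neg]
        ext i j
        fin_cases i <;> fin_cases j <;> simp [y01, y10, h, ← y00]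
  rw [← hB] at hb hab ⊢
  rw [← map_mul] at hab
  set u := tr (A * B) with hu
  have hC : ¬ IsScalar (A * B) := fun h => by rw [proj_one_iff.mpr h, orderOf_one] at hab; omega
  have hCn : IsScalar ((A * B) ^ n) := proj_one_iff.mp (by rw [map_pow, ← hab, pow_orderOf_eq_one])
  set C := A * B with hCdef
  set M : Matrix (Fin 2) (Fin 2) F := (C : Matrix (Fin 2) (Fin 2) F) with hM
  have hM2 : M * M = u • M - 1 := by
    have d := det_eq C
    ext i j
    fin_cases i <;> fin_cases j <;>
      simp [hM, hu, tr, Matrix.mul_apply, Fin.sum_univ_two] <;>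
      first | ring1 | linear_combination d | linear_combination -d
  have hzero : ∀ k c₀ : F, ((C ^ n : SL₂) : Matrix (Fin 2) (Fin 2) F) = k • M - c₀ • 1 → k = 0 := by
    intro k c₀ hk
    by_contra hk0
    refine hC ?_
    have e : ∀ i j, i ≠ j → ((C ^ n : SL₂) : Matrix (Fin 2) (Fin 2) F) i j = 0 := fun i j hij => by
      rcases hCn with e | e <;> rw [e] <;> simp [hij]
    have e' : ((C ^ n : SL₂) : Matrix (Fin 2) (Fin 2) F) 0 0 = ((C ^ n : SL₂) : Matrix (Fin 2) (Fin 2) F) 1 1 := by
      rcases hCn with e | e <;> rw [e] <;> simp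
    rw [hk] at e e'
    have e01 := e 0 1 (by decide)
    have e10 := e 1 0 (by decide)
    simp [hk0] at e01 e10 e'
    have d := det_eq C
    rw [← hM, e01, zero_mul, sub_zero, ← e'] at d
    rcases mul_self_eq_one_iff.mp d with h | h
    · refine Or.inl (Subtype.ext ?_)
      ext i j
      fin_cases i <;> fin_cases j <;> simp [← hM, e01, e10, h, ← e']
    · refine Or.inr (Subtype.ext ?_)
      rw [Matrix.SpecialLinearGroup.coe_neg]
      ext i j
      fin_cases i <;> fin_cases j <;> simp [← hM, e01, e10, h, ← e']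
  have hne : ((A : Matrix (Fin 2) (Fin 2) F) * B - B * A).det = 3 - u * u := by
    rw [Traces.det_comm, A.2, B.2, ← Matrix.SpecialLinearGroup.coe_mul, Matrix.trace_fin_two, Matrix.trace_fin_two,
      Matrix.trace_fin_two]
    simp only [tr] at htA hBt hu
    rw [htA, hBt, hu]
    ring
  have hneg : tr (-A) = 0 ∧ tr (-A * B) = -u ∧ proj (-A) = proj A ∧
      (((-A : SL₂) : Matrix (Fin 2) (Fin 2) F) * B - B * (-A : SL₂)).det = 3 - u * u := by
    refine ⟨?_, ?_, proj_neg A, ?_⟩
    · simp [tr] at htA ⊢; linear_combination -htA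
    · rw [neg_mul, ← hCdef, hu]; simp [tr]; ring
    · rw [Matrix.SpecialLinearGroup.coe_neg, neg_mul, mul_neg, ← neg_sub', Matrix.det_neg, hne]
      simp
  have pick : (TraceRel n u ∨ TraceRel n (-u)) → 3 - u * u ≠ 0 →
      ∃ A' B' : SL₂, LiftPair (proj A) (proj B) n A' B' := by
    rintro (h | h) h'
    · exact ⟨A, B, rfl, rfl, htA, hBt, h, hne ▸ h'⟩
    · exact ⟨-A, B, hneg.2.2.1, rfl, hneg.1, hBt, hneg.2.1.symm ▸ h, hneg.2.2.2 ▸ h'⟩
  rcases hn with rfl | rfl | rfl
  · have hk : u ^ 2 - 1 = 0 := hzero _ u (by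
      rw [Matrix.SpecialLinearGroup.coe_pow, pow_succ, pow_two, ← hM]
      simp only [hM2, sub_mul, smul_mul_assoc, one_mul, smul_sub, smul_smul]
      module)
    refine pick ?_ (fun e => h2 (by linear_combination e + hk))
    rcases sq_eq_one_iff.mp (sub_eq_zero.mp hk) with h | h
    · exact Or.inl ⟨fun _ => h, by omega, by omega⟩
    · exact Or.inr ⟨fun _ => by rw [h, neg_neg], by omega, by omega⟩
  · have hk : u * (u * u - 2) = 0 := hzero _ (u ^ 2 - 1) (by
      rw [Matrix.SpecialLinearGroup.coe_pow, pow_succ, pow_succ, pow_two, ← hM]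
      simp only [hM2, sub_mul, smul_mul_assoc, one_mul, smul_sub, smul_smul]
      module)
    rcases mul_eq_zero.mp hk with h | h
    · exfalso
      have h2' : C * C = -1 := (mul_self_eq_neg_one hC).mpr h
      have := orderOf_dvd_of_pow_eq_one (x := proj C) (n := 2) (by rw [pow_two, ← map_mul, h2', proj_negOne])
      rw [hab] at this
      norm_num at this
    · exact pick (Or.inl ⟨by omega, fun _ => sub_eq_zero.mp h, by omega⟩)
        (fun e => one_ne_zero (α := F) (by linear_combination e + h))
  · have hk : (u * u - u - 1) * (u * u + u - 1) = 0 := hzero _ (u ^ 3 - 2 * u) (by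
      rw [Matrix.SpecialLinearGroup.coe_pow, pow_succ, pow_succ, pow_succ, pow_two, ← hM]
      simp only [hM2, sub_mul, smul_mul_assoc, one_mul, smul_sub, smul_smul]
      module)
    rcases mul_eq_zero.mp hk with h | h
    · refine pick (Or.inl ⟨by omega, by omega, fun _ => by linear_combination h⟩) fun e => ?_
      have hu2 : u = 2 := by linear_combination -e - h
      rw [hu2] at h
      exact one_ne_zero (α := F) (by linear_combination h)
    · refine pick (Or.inr ⟨by omega, by omega, fun _ => by linear_combination h⟩) fun e => ?_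
      have hu2 : u = -2 := by linear_combination e + h
      rw [hu2] at h
      exact one_ne_zero (α := F) (by linear_combination h)

theorem tr_eq_trace (x : SL₂) : (x : Matrix (Fin 2) (Fin 2) F).trace = tr x := by
  rw [Matrix.trace_fin_two]; rfl

/-- A `(2, 3, n)`-group lies in an overgroup of subfield type, as soon as the subfield contains the trace. -/
theorem range_le_sfOver {S : Type*} [Group S] {a b : S} (hgen : Subgroup.closure ({a, b} : Set S) = ⊤)
    (f : S →* PSL₂) {n : ℕ} {A B : SL₂} (hl : LiftPair (f a) (f b) n A B) (hodd : Odd (Fintype.card F))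
    (K : Subfield F) (hu : tr (A * B) ∈ K ∨ n = 4) : ∃ x, f.range ≤ sfOver K x := by
  classical
  obtain ⟨l, hl0, hl2, hlu⟩ : ∃ l : F, l ≠ 0 ∧ l * l ∈ K ∧ l * tr (A * B) ∈ K := by
    rcases hu with h | h
    · exact ⟨1, one_ne_zero, by rw [mul_one]; exact K.one_mem, by rw [one_mul]; exact h⟩
    · have h2 := hl.tab.2.1 h
      have h2K : (2 : F) ∈ K := by rw [← one_add_one_eq_two]; exact K.add_mem K.one_mem K.one_mem
      refine ⟨tr (A * B), fun e => two_ne_zero_of_odd_card hodd ?_, by rw [h2]; exact h2K, by rw [h2]; exact h2K⟩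
      rw [← h2, e, mul_zero]
  let gA : GL (Fin 2) F :=
    Matrix.GeneralLinearGroup.scalar (Fin 2) (Units.mk0 l hl0) * Matrix.SpecialLinearGroup.toGL A
  let gB : GL (Fin 2) F := Matrix.SpecialLinearGroup.toGL B
  have hgA : (gA : Matrix (Fin 2) (Fin 2) F) = l • (A : Matrix (Fin 2) (Fin 2) F) := by
    simp [gA, Matrix.GeneralLinearGroup.coe_scalar, ← Algebra.smul_def, ← Matrix.smul_eq_diagonal_mul]
  have hgB : (gB : Matrix (Fin 2) (Fin 2) F) = (B : Matrix (Fin 2) (Fin 2) F) := rfl
  obtain ⟨x, hxA, hxB⟩ := exists_conj_into K hodd gA gB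
    (by rw [hgA, Matrix.trace_smul, tr_eq_trace, hl.ta, smul_zero])
    (by rw [hgA, Matrix.det_smul, A.2, mul_one, Fintype.card_fin, pow_two]; exact hl2)
    (by rw [hgB, tr_eq_trace, hl.tb]; exact K.one_mem)
    (by rw [hgB, B.2]; exact K.one_mem)
    (by rw [hgA, hgB, smul_mul_assoc, Matrix.trace_smul, ← Matrix.SpecialLinearGroup.coe_mul, tr_eq_trace]; exact hlu)
    (by
      rw [hgA, hgB, smul_mul_assoc, mul_smul_comm, ← smul_sub, Matrix.det_smul]
      exact mul_ne_zero (pow_ne_zero _ hl0) hl.ne)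
  have hmkA : Matrix.ProjGenLinGroup.mk gA = toP A := by
    rw [map_mul, Matrix.ProjGenLinGroup.mk_scalar, one_mul]; rfl
  refine ⟨x, ?_⟩
  show _ ≤ ((pglMap K.subtype).range.map (MulAut.conj x).toMonoidHom).comap _
  rw [MonoidHom.range_eq_map, ← hgen, MonoidHom.map_closure, Subgroup.closure_le, Set.image_pair]
  rintro z (rfl | rfl)
  · rw [SetLike.mem_coe, Subgroup.mem_comap]
    rw [← hl.pa, toPGL_proj, ← hmkA]
    exact hxA
  · rw [SetLike.mem_coe, Subgroup.mem_comap]
    rw [← hl.pb, toPGL_proj]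
    exact hxB

/-- Two copies with the same trace are conjugate in `PGL(2, F)`. -/
theorem exists_conj_of_traces {S : Type*} [Group S] {a b : S} (hgen : Subgroup.closure ({a, b} : Set S) = ⊤)
    (f g : S →* PSL₂) {n : ℕ} {A B A' B' : SL₂} (hf : LiftPair (f a) (f b) n A B)
    (hg : LiftPair (g a) (g b) n A' B') (hu : tr (A * B) = tr (A' * B')) :
    ∃ x : Matrix.ProjGenLinGroup (Fin 2) F, ∀ s, Matrix.ProjectiveSpecialLinearGroup.toPGL (g s) =
      x * Matrix.ProjectiveSpecialLinearGroup.toPGL (f s) * x⁻¹ := by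
  obtain ⟨P, hPA, hPB⟩ := Traces.exists_conj (A := (A : Matrix (Fin 2) (Fin 2) F))
    (B := (B : Matrix (Fin 2) (Fin 2) F)) (A' := (A' : Matrix (Fin 2) (Fin 2) F))
    (B' := (B' : Matrix (Fin 2) (Fin 2) F))
    (by rw [tr_eq_trace, tr_eq_trace, hf.ta, hg.ta]) (by rw [A.2, A'.2])
    (by rw [tr_eq_trace, tr_eq_trace, hf.tb, hg.tb]) (by rw [B.2, B'.2])
    (by rw [← Matrix.SpecialLinearGroup.coe_mul, ← Matrix.SpecialLinearGroup.coe_mul, tr_eq_trace, tr_eq_trace, hu])
    hf.ne
  have key : ∀ Z Z' : SL₂, (P : Matrix (Fin 2) (Fin 2) F) * Z = (Z' : Matrix (Fin 2) (Fin 2) F) * P →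
      toP Z' = Matrix.ProjGenLinGroup.mk P * toP Z * (Matrix.ProjGenLinGroup.mk P)⁻¹ := by
    intro Z Z' h
    have h' : P * Matrix.SpecialLinearGroup.toGL Z = Matrix.SpecialLinearGroup.toGL Z' * P := Units.ext h
    simp only [toP, MonoidHom.comp_apply, ← map_inv, ← map_mul, h', mul_inv_cancel_right]
  refine ⟨Matrix.ProjGenLinGroup.mk P, fun s => ?_⟩
  have heq : Matrix.ProjectiveSpecialLinearGroup.toPGL.comp g =
      ((MulAut.conj (Matrix.ProjGenLinGroup.mk P)).toMonoidHom).comp (Matrix.ProjectiveSpecialLinearGroup.toPGL.comp f) := by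
    refine MonoidHom.eq_of_eqOn_dense hgen ?_
    rintro z (rfl | rfl)
    · simp only [MonoidHom.comp_apply, ← hf.pa, ← hg.pa, toPGL_proj]
      exact key A A' hPA
    · simp only [MonoidHom.comp_apply, ← hf.pb, ← hg.pb, toPGL_proj]
      exact key B B' hPB
  exact DFunLike.congr_fun heq s

end Cfsg.Agent.Dickson
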