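import Mathlib

/-!
The list of the 120 elements of the exceptional Dickson group over the field with nine elements.
-/

set_option autoImplicit false

namespace Cfsg.Agent.Dickson.GenNine

/-- Four entries, each in the basis `1, λ`. -/
abbrev Vec9 : Type := (ZMod 3 × ZMod 3) × (ZMod 3 × ZMod 3) × (ZMod 3 × ZMod 3) × (ZMod 3 × ZMod 3)

/-- Right multiplication by the lower generator. -/
def mulL : Vec9 → Vec9
  | (a, b, c, d) => (a + b, b, c + d, d)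

/-- Multiplication by `λ`. -/
def mulLam (x : ZMod 3 × ZMod 3) : ZMod 3 × ZMod 3 := (-x.2, x.1)

/-- Right multiplication by the upper generator. -/
def mulU : Vec9 → Vec9
  | (a, b, c, d) => (a, mulLam a + b, c, mulLam c + d)

/-- The entries, in the basis `1, λ`, of the elements of the exceptional group. -/
def elts : List Vec9 :=
  [((1, 0), (0, 0), (0, 0), (1, 0)), ((1, 0), (0, 0), (1, 0), (1, 0)), ((1, 0), (0, 1), (0, 0), (1, 0)),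
   ((1, 0), (0, 0), (2, 0), (1, 0)), ((1, 0), (0, 1), (1, 0), (1, 1)), ((1, 1), (0, 1), (1, 0), (1, 0)),
   ((1, 0), (0, 2), (0, 0), (1, 0)), ((1, 0), (0, 1), (2, 0), (1, 2)), ((1, 1), (0, 1), (2, 1), (1, 1)),
   ((1, 0), (0, 2), (1, 0), (1, 2)), ((1, 2), (0, 1), (2, 0), (1, 0)), ((1, 1), (2, 2), (1, 0), (1, 1)),
   ((1, 2), (0, 2), (1, 0), (1, 0)), ((1, 1), (0, 1), (0, 2), (1, 2)), ((1, 0), (0, 2), (2, 0), (1, 1)),
   ((1, 2), (0, 1), (0, 2), (1, 1)), ((1, 1), (2, 2), (2, 1), (0, 0)), ((1, 2), (0, 2), (2, 2), (1, 2)),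
   ((1, 2), (1, 2), (2, 0), (1, 2)), ((0, 0), (2, 2), (2, 1), (1, 1)), ((1, 1), (1, 0), (1, 0), (1, 2)),
   ((1, 1), (0, 2), (2, 0), (1, 0)), ((1, 2), (1, 0), (1, 0), (1, 1)), ((1, 2), (0, 1), (1, 1), (1, 2)),
   ((1, 1), (2, 2), (0, 2), (2, 2)), ((1, 2), (0, 2), (0, 1), (1, 1)), ((1, 2), (1, 2), (0, 2), (2, 1)),
   ((0, 0), (2, 2), (2, 1), (0, 0)), ((1, 1), (1, 0), (2, 1), (2, 2)), ((1, 1), (0, 2), (0, 1), (1, 2)),
   ((1, 2), (1, 0), (2, 2), (2, 1)), ((2, 1), (1, 2), (0, 2), (1, 2)), ((1, 2), (2, 0), (2, 0), (1, 1)),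
   ((2, 2), (2, 2), (0, 2), (1, 1)), ((2, 1), (1, 0), (2, 2), (1, 2)), ((1, 1), (2, 0), (2, 0), (1, 2)),
   ((2, 2), (1, 0), (2, 1), (1, 1)), ((1, 2), (2, 1), (1, 0), (1, 2)), ((1, 2), (1, 2), (1, 1), (0, 0)),
   ((0, 0), (2, 2), (2, 1), (2, 2)), ((1, 1), (1, 0), (0, 2), (0, 2)), ((1, 1), (0, 2), (1, 2), (1, 1)),
   ((1, 2), (1, 0), (0, 1), (0, 1)), ((2, 1), (1, 2), (2, 0), (2, 1)), ((1, 2), (2, 0), (0, 2), (0, 1)),
   ((2, 2), (2, 2), (2, 1), (0, 0)), ((2, 1), (1, 0), (1, 0), (2, 2)), ((1, 1), (2, 0), (0, 1), (0, 2)),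
   ((2, 2), (1, 0), (1, 0), (2, 1)), ((1, 2), (2, 1), (2, 2), (0, 0)), ((0, 0), (1, 2), (1, 1), (1, 2)),
   ((2, 1), (0, 1), (0, 2), (2, 2)), ((0, 2), (2, 0), (0, 1), (1, 1)), ((2, 2), (0, 1), (0, 2), (2, 1)),
   ((0, 1), (1, 0), (0, 1), (1, 2)), ((2, 1), (0, 2), (2, 2), (2, 1)), ((0, 1), (2, 0), (0, 2), (1, 2)),
   ((1, 1), (1, 1), (2, 0), (1, 1)), ((0, 2), (1, 0), (0, 2), (1, 1)), ((0, 0), (2, 1), (2, 2), (1, 2)),
   ((2, 1), (1, 2), (1, 1), (0, 0)), ((1, 2), (2, 0), (1, 1), (2, 1)), ((2, 2), (2, 2), (1, 0), (2, 2)),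
   ((2, 1), (1, 0), (0, 1), (0, 2)), ((1, 1), (2, 0), (1, 2), (2, 2)), ((2, 2), (1, 0), (0, 2), (0, 1)),
   ((1, 2), (2, 1), (0, 1), (2, 1)), ((0, 0), (1, 2), (1, 1), (2, 1)), ((2, 1), (0, 1), (2, 0), (2, 0)),
   ((0, 2), (2, 0), (0, 0), (0, 1)), ((2, 2), (0, 1), (2, 1), (2, 2)), ((0, 1), (1, 0), (0, 2), (2, 2)),
   ((2, 1), (0, 2), (1, 0), (2, 0)), ((0, 1), (2, 0), (0, 0), (0, 2)), ((1, 1), (1, 1), (0, 1), (2, 2)),
   ((0, 2), (1, 0), (0, 1), (2, 1)), ((0, 0), (2, 1), (2, 2), (0, 0)), ((0, 0), (1, 2), (1, 1), (0, 0)),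
   ((2, 1), (2, 0), (0, 2), (0, 2)), ((2, 2), (2, 0), (1, 2), (1, 1)), ((0, 2), (0, 0), (0, 1), (0, 1)),
   ((2, 0), (0, 1), (2, 0), (2, 1)), ((0, 1), (0, 0), (0, 1), (0, 2)), ((2, 0), (0, 2), (1, 0), (2, 1)),
   ((2, 1), (2, 1), (2, 2), (0, 0)), ((2, 1), (2, 0), (1, 1), (1, 2)), ((2, 2), (1, 1), (0, 1), (1, 1)),
   ((0, 2), (2, 0), (0, 2), (2, 1)), ((2, 1), (2, 1), (0, 1), (1, 2)), ((0, 0), (2, 1), (2, 2), (2, 1)),
   ((2, 1), (0, 1), (1, 1), (2, 1)), ((2, 2), (0, 1), (1, 0), (2, 0)), ((0, 1), (1, 0), (0, 0), (0, 2)),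
   ((2, 1), (0, 2), (0, 1), (2, 2)), ((0, 1), (2, 0), (0, 1), (2, 2)), ((1, 1), (1, 1), (1, 2), (0, 0)),
   ((0, 2), (1, 0), (0, 0), (0, 1)), ((2, 1), (2, 0), (2, 0), (2, 2)), ((2, 2), (2, 0), (0, 1), (0, 1)),
   ((0, 2), (0, 0), (0, 0), (0, 1)), ((2, 0), (0, 1), (1, 0), (2, 2)), ((0, 1), (0, 0), (0, 2), (0, 2)),
   ((2, 0), (0, 2), (0, 0), (2, 0)), ((2, 1), (2, 1), (1, 0), (2, 1)), ((2, 2), (1, 1), (2, 0), (2, 2)),
   ((2, 2), (0, 2), (1, 2), (2, 2)), ((0, 2), (0, 0), (0, 2), (0, 1)), ((2, 0), (0, 0), (2, 0), (2, 0)),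
   ((0, 1), (0, 0), (0, 0), (0, 2)), ((2, 2), (0, 2), (0, 1), (2, 1)), ((0, 0), (1, 1), (1, 2), (1, 1)),
   ((2, 2), (2, 0), (2, 0), (2, 1)), ((2, 0), (0, 1), (0, 0), (2, 0)), ((2, 0), (0, 2), (2, 0), (2, 2)),
   ((2, 2), (1, 1), (1, 2), (0, 0)), ((2, 0), (0, 0), (1, 0), (2, 0)), ((2, 2), (0, 2), (2, 0), (2, 0)),
   ((0, 0), (1, 1), (1, 2), (2, 2)), ((2, 0), (0, 0), (0, 0), (2, 0)), ((0, 0), (1, 1), (1, 2), (0, 0))]

/-- The index of the product with the lower generator. -/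
def nextL : List (Fin 120) :=
  [1, 3, 5, 0, 8, 10, 12, 13, 15, 17, 2, 19, 21, 23, 25, 4, 27, 29, 31, 33, 34, 6, 36, 7,
   39, 41, 43, 45, 46, 9, 48, 50, 52, 11, 54, 56, 58, 59, 60, 62, 63, 14, 65, 67, 69, 16, 71, 73,
   75, 76, 18, 70, 79, 81, 20, 83, 85, 86, 22, 88, 77, 87, 24, 92, 94, 96, 89, 26, 91, 98, 100, 28,
   102, 78, 104, 30, 84, 38, 47, 32, 106, 90, 108, 109, 49, 35, 110, 111, 37, 103, 53, 112, 40, 113, 97, 114,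
   42, 64, 44, 80, 51, 82, 116, 66, 117, 93, 99, 115, 101, 55, 57, 61, 68, 105, 119, 118, 72, 74, 107, 95]

/-- The index of the product with the upper generator. -/
def nextU : List (Fin 120) :=
  [2, 4, 6, 7, 9, 11, 0, 14, 16, 1, 18, 20, 22, 24, 3, 26, 28, 30, 32, 27, 5, 35, 37, 38,
   40, 42, 44, 39, 8, 47, 49, 51, 10, 53, 55, 57, 45, 12, 61, 19, 13, 64, 66, 68, 15, 70, 72, 74,
   62, 17, 77, 78, 80, 65, 82, 84, 71, 21, 87, 89, 90, 23, 91, 93, 95, 33, 25, 50, 97, 99, 36, 101,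
   103, 92, 29, 52, 59, 67, 31, 105, 75, 107, 94, 100, 34, 60, 98, 106, 63, 76, 85, 48, 108, 88, 54, 41,
   69, 43, 109, 96, 115, 56, 112, 46, 111, 114, 58, 113, 73, 86, 117, 116, 118, 81, 79, 83, 104, 119, 102, 110]

/-- The `i`-th element. -/
def elt (i : Fin 120) : Vec9 := elts.getD i ((0, 0), (0, 0), (0, 0), (0, 0))

theorem mulL_elt : ∀ i : Fin 120, mulL (elt i) = elt (nextL.getD i 0) := by decide +kernel

theorem mulU_elt : ∀ i : Fin 120, mulU (elt i) = elt (nextU.getD i 0) := by decide +kernel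

end Cfsg.Agent.Dickson.GenNine
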