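import Mathlib
import Cfsg.Agent.Lib.Classical.DicksonExceptional

/-!
The maximal subgroups of `PSL(2, F)`.
-/

set_option autoImplicit false

namespace Cfsg.Agent.Dickson

open Matrix Cfsg.Agent.Grp.SL2 Cfsg.Agent.PSL2Spec

variable {F : Type*} [Field F] [Fintype F] (p : ℕ) [hp : Fact p.Prime] [CharP F p]

local notation "PSL₂" => Matrix.ProjectiveSpecialLinearGroup (Fin 2) F

theorem two_del_le : 1 ≤ del F ∧ del F ≤ 2 := by rcases del_cases F with ⟨h, -⟩ | ⟨h, -⟩ <;> omega

theorem normalizer_semi_ne_top (h3 : 3 ≤ Fintype.card F) {a : PSL₂} (ha : a ≠ 1) (hap : a ^ p ≠ 1) :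
    Subgroup.normalizer (tor a : Set PSL₂) ≠ ⊤ := by
  intro h
  have h1 := card_psl (F := F)
  rw [← Subgroup.card_top (G := PSL₂), ← h, (normalizer_tor p ha hap).1] at h1
  obtain ⟨c, hc⟩ : ∃ c, Fintype.card F = c + 1 := ⟨Fintype.card F - 1, by omega⟩
  have hd := two_del_le (F := F)
  have hT : Nat.card (tor a) * del F ≤ c + 2 := by
    rcases card_tor_semi p ha hap with e | e <;> rw [e]
    · have := Nat.div_mul_le_self (Fintype.card F - 1) (del F); omega
    · have := Nat.div_mul_le_self (Fintype.card F + 1) (del F); omega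
  rw [hc, Nat.add_sub_cancel] at h1
  have h6 : 6 * (c + 2) ≤ (c + 1) * (c * (c + 1 + 1)) := by
    have hc2 : 2 ≤ c := by omega
    calc 6 * (c + 2) ≤ ((c + 1) * c) * (c + 2) := Nat.mul_le_mul_right _ (by nlinarith)
      _ = (c + 1) * (c * (c + 1 + 1)) := by ring
  nlinarith

theorem normalizer_uni_ne_top {a : PSL₂} (ha : a ≠ 1) (hap : a ^ p = 1) :
    Subgroup.normalizer (tor a : Set PSL₂) ≠ ⊤ := by
  intro h
  have h1 := card_psl (F := F)
  rw [← Subgroup.card_top (G := PSL₂), ← h, card_borel p ha hap] at h1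
  have h2 : 1 < Fintype.card F := Fintype.one_lt_card
  obtain ⟨c, hc⟩ : ∃ c, Fintype.card F = c + 2 := ⟨Fintype.card F - 2, by omega⟩
  rw [hc, show c + 2 - 1 = c + 1 by omega] at h1
  have := Nat.eq_of_mul_eq_mul_left (by omega : 0 < c + 2) h1
  nlinarith

theorem exists_subfield_card {d m n : ℕ} (hn : Fintype.card F = p ^ n) (hd : d * m = n) (hd0 : d ≠ 0) :
    ∃ K : Subfield F, Nat.card K = p ^ d ∧ (1 < m → K ≠ ⊤) := by
  haveI : Fintype (GaloisField p d) := Fintype.ofFinite _
  obtain ⟨φ⟩ := exists_ringHom_of_card_pow (F := F) (K := GaloisField p d) (m := m)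
    (by rw [← Nat.card_eq_fintype_card, GaloisField.card p d hd0, ← pow_mul, hd, hn])
  have hc : Nat.card φ.fieldRange = p ^ d :=
    (Nat.card_congr (Equiv.ofInjective φ φ.injective)).symm.trans (GaloisField.card p d hd0)
  refine ⟨φ.fieldRange, hc, fun hm h => ?_⟩
  rw [h, Nat.card_congr Subfield.topEquiv.toEquiv, Nat.card_eq_fintype_card, hn] at hc
  have := Nat.pow_right_injective hp.out.two_le hc
  have : d < d * m := lt_mul_of_one_lt_right (Nat.pos_of_ne_zero hd0) hm
  omega

/-- The possible maximal subgroups. -/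
inductive MaxShape (M : Subgroup (Matrix.ProjectiveSpecialLinearGroup (Fin 2) F)) : Prop
  | torus (a : Matrix.ProjectiveSpecialLinearGroup (Fin 2) F) (ha : a ≠ 1) (hap : a ^ p ≠ 1)
      (h : M = Subgroup.normalizer (tor a : Set (Matrix.ProjectiveSpecialLinearGroup (Fin 2) F)))
  | borel (a : Matrix.ProjectiveSpecialLinearGroup (Fin 2) F) (ha : a ≠ 1) (hap : a ^ p = 1)
      (h : M = Subgroup.normalizer (tor a : Set (Matrix.ProjectiveSpecialLinearGroup (Fin 2) F)))
  | alt4 (hq : Fintype.card F = p) (h8 : p % 8 = 3 ∨ p % 8 = 5) (h10 : ¬ (p % 10 = 1 ∨ p % 10 = 9))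
      (iso : Nonempty (M ≃* alternatingGroup (Fin 4)))
  | perm4 (hq : Fintype.card F = p) (h8 : p % 8 = 1 ∨ p % 8 = 7) (iso : Nonempty (M ≃* Equiv.Perm (Fin 4)))
  | alt5 (hq : Fintype.card F = p ∨ (Fintype.card F = p ^ 2 ∧ (p % 10 = 3 ∨ p % 10 = 7)))
      (h10 : Fintype.card F % 10 = 1 ∨ Fintype.card F % 10 = 9)
      (iso : Nonempty (M ≃* alternatingGroup (Fin 5)))
  | subfield (L : Subfield F) (r : ℕ) (x : Matrix.ProjGenLinGroup (Fin 2) F) (hr : r.Prime)
      (hc : Nat.card L ^ r = Fintype.card F) (h3 : 3 ≤ Nat.card L) (h : M = sfOver L x)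

theorem maxShape_of_le_sfOver {M : Subgroup PSL₂} (hM : IsCoatom M) {K : Subfield F} (hK : K ≠ ⊤)
    (h3 : 3 ≤ Nat.card K) {x : Matrix.ProjGenLinGroup (Fin 2) F} (h : M ≤ sfOver K x) : MaxShape p M := by
  obtain ⟨L, r, hle, hr, hc, hL⟩ := exists_prime_index hK
  refine .subfield L r x hr hc (h3.trans (Nat.card_le_card_of_injective _ (Subfield.inclusion hle).injective)) ?_
  by_contra hne
  exact sfOver_ne_top hL x (hM.2 _ (lt_of_le_of_ne (h.trans (sfOver_mono hle x)) hne))

theorem orderOf_dvd_card_map {S : Type*} [Group S] {s : S} (f : S →* PSL₂) (hf : Function.Injective f) :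
    orderOf s ∣ Nat.card f.range :=
  (orderOf_injective f hf s).symm.dvd.trans (Subgroup.orderOf_dvd_natCard _ ⟨s, rfl⟩)

/-- Five divides the order of `PSL(2, K)` when the square of `|K|` is `1` modulo five. -/
theorem five_dvd_card_psl {K : Type*} [Field K] [Fintype K] (h : Fintype.card K ^ 2 % 5 = 1) :
    5 ∣ Nat.card (Matrix.ProjectiveSpecialLinearGroup (Fin 2) K) := by
  haveI : Fact (Nat.Prime 5) := ⟨by norm_num⟩
  have hc := card_psl (F := K)
  have h5 : 5 ∣ Nat.card (Matrix.ProjectiveSpecialLinearGroup (Fin 2) K) * del K := by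
    rw [hc, mul_comm (Fintype.card K - 1)]
    refine Dvd.dvd.mul_left ?_ _
    rw [← Nat.sq_sub_sq, one_pow]
    omega
  refine ((Nat.prime_iff.mp (Fact.out : Nat.Prime 5)).dvd_or_dvd h5).resolve_right fun h => ?_
  rcases del_cases K with ⟨e, -⟩ | ⟨e, -⟩ <;> rw [e] at h <;> norm_num at h

/-- In `PSL(2, F)` with five dividing the order and `5 ≠ p`, `q ≡ ±1 (mod 10)` for odd `q`. -/
theorem mod_ten_of_five (hodd : Odd (Fintype.card F)) (hp5 : p ≠ 5) (h : 5 ∣ Nat.card PSL₂) :
    Fintype.card F % 10 = 1 ∨ Fintype.card F % 10 = 9 := by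
  have h5 : 5 ∣ Fintype.card F * ((Fintype.card F - 1) * (Fintype.card F + 1)) :=
    card_psl (F := F) ▸ h.mul_right _
  obtain ⟨n, hpp, hn⟩ := FiniteField.card F p
  obtain ⟨m, hm⟩ := hodd
  have hf : Nat.Prime 5 := by norm_num
  rcases hf.dvd_mul.mp h5 with e | e
  · rw [hn] at e
    exact absurd ((Nat.prime_dvd_prime_iff_eq hf hpp).mp (hf.dvd_of_dvd_pow e)).symm hp5
  · rcases hf.dvd_mul.mp e with e' | e' <;> omega

theorem klein_le_proper (hodd : Odd (Fintype.card F)) (h5 : 5 ≤ Fintype.card F)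
    {x y : Matrix.SpecialLinearGroup (Fin 2) F} (h : Quat x y) :
    Subgroup.normalizer (h.klein : Set PSL₂) ≠ ⊤ := by
  intro e
  have h1 : Nat.card (Subgroup.normalizer (h.klein : Set PSL₂)) ≤ 24 := by
    rcases card_normalizer_dvd hodd h with e | e <;> omega
  rw [e, Subgroup.card_top] at h1
  have h2 := card_psl (F := F)
  have hd := two_del_le (F := F)
  obtain ⟨c, hc⟩ : ∃ c, Fintype.card F = c + 5 := ⟨Fintype.card F - 5, by omega⟩
  rw [hc] at h2
  nlinarith [show 24 ≤ (c + 5 - 1) * (c + 5 + 1) by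
    calc 24 = 4 * 6 := rfl
      _ ≤ (c + 5 - 1) * (c + 5 + 1) := Nat.mul_le_mul (by omega) (by omega)]

/-- An injective image of `A₄` that is maximal is not conjugate into a larger proper subgroup. -/
theorem alt4_not_lt (hodd : Odd (Fintype.card F)) {M : Subgroup PSL₂} (hM : IsCoatom M)
    (e : M ≃* alternatingGroup (Fin 4)) (g : alternatingGroup (Fin 4) →* PSL₂) (hg : Function.Injective g)
    {H : Subgroup PSL₂} (hH : H ≠ ⊤) (hle : g.range ≤ H) (h12 : 12 < Nat.card H) : False := by
  classical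
  haveI := finite_pgl (F := F)
  obtain ⟨hgen, ha, hb, hab⟩ := Exc.alt4_data
  set f : alternatingGroup (Fin 4) →* PSL₂ := M.subtype.comp e.symm.toMonoidHom with hf'
  have hf : Function.Injective f := M.subtype_injective.comp e.symm.injective
  have hfM : f.range = M := by
    rw [hf', MonoidHom.range_comp, MonoidHom.range_eq_top.mpr e.symm.surjective, ← MonoidHom.range_eq_map,
      Subgroup.range_subtype]
  obtain ⟨A, B, hl⟩ := exists_liftPair hodd (α := f Exc.a4) (β := f Exc.b4) (n := 3)
    ((orderOf_injective f hf _).trans ha) ((orderOf_injective f hf _).trans hb)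
    (by rw [← map_mul, orderOf_injective f hf, hab]) (Or.inl rfl)
  obtain ⟨A', B', hl'⟩ := exists_liftPair hodd (α := g Exc.a4) (β := g Exc.b4) (n := 3)
    ((orderOf_injective g hg _).trans ha) ((orderOf_injective g hg _).trans hb)
    (by rw [← map_mul, orderOf_injective g hg, hab]) (Or.inl rfl)
  obtain ⟨x, hx⟩ := exists_conj_of_traces hgen g f hl' hl
    ((hl'.tab.1 rfl).trans (hl.tab.1 rfl).symm)
  -- the conjugate of `H` contains `M`
  let C : Subgroup PSL₂ := ((H.map Matrix.ProjectiveSpecialLinearGroup.toPGL).map (MulAut.conj x).toMonoidHom).comap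
    Matrix.ProjectiveSpecialLinearGroup.toPGL
  have hHC : C.map Matrix.ProjectiveSpecialLinearGroup.toPGL =
      (H.map Matrix.ProjectiveSpecialLinearGroup.toPGL).map (MulAut.conj x).toMonoidHom := by
    refine Subgroup.map_comap_eq_self ?_
    rintro _ ⟨_, ⟨h, -, rfl⟩, rfl⟩
    exact normal_range_toPGL.conj_mem _ ⟨h, rfl⟩ x
  have hcard : Nat.card C = Nat.card H := by
    rw [← Subgroup.card_map_of_injective (Matrix.ProjectiveSpecialLinearGroup.toPGL_injective (n := Fin 2) (R := F))
      (K := C), hHC, Subgroup.card_map_of_injective (MulEquiv.injective _),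
      Subgroup.card_map_of_injective Matrix.ProjectiveSpecialLinearGroup.toPGL_injective]
  have hMC : M ≤ C := by
    rw [← hfM]
    rintro _ ⟨s, rfl⟩
    refine Subgroup.mem_comap.mpr ?_
    rw [hx s]
    exact ⟨_, ⟨g s, hle ⟨s, rfl⟩, rfl⟩, by simp⟩
  have hne : C ≠ ⊤ := fun h => hH (Subgroup.eq_top_of_card_eq H (by rw [← hcard, h, Subgroup.card_top]))
  have hlt : M < C := lt_of_le_of_ne hMC fun h => by
    have : Nat.card M = 12 := by rw [Nat.card_congr e.toEquiv, nat_card_alternatingGroup, Nat.card_fin]; rfl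
    rw [h, hcard] at this; omega
  exact hne (hM.2 _ hlt)

/-- The inclusion of `A₄` in `A₅`. -/
def altIncl : alternatingGroup (Fin 4) →* alternatingGroup (Fin 5) :=
  ((Equiv.Perm.extendDomainHom (finSuccAboveEquiv (Fin.last 4))).comp (alternatingGroup (Fin 4)).subtype).codRestrict
    _ fun s => by
      rw [Equiv.Perm.mem_alternatingGroup]
      show Equiv.Perm.sign (Equiv.Perm.extendDomain (s : Equiv.Perm (Fin 4)) _) = 1
      rw [Equiv.Perm.sign_extendDomain]
      exact s.2

theorem altIncl_injective : Function.Injective altIncl := by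
  intro s t h
  exact Subtype.ext (Equiv.Perm.extendDomainHom_injective _ (congrArg Subtype.val h))

/-- The maximal subgroups of `PSL(2, F)`. -/
theorem coatom_cases (h4 : 4 ≤ Fintype.card F) {M : Subgroup PSL₂} (hM : IsCoatom M) : MaxShape p M := by
  classical
  haveI := finite_pgl (F := F)
  obtain ⟨n, hn, hn0⟩ : ∃ n : ℕ, Fintype.card F = p ^ n ∧ 0 < n := by
    obtain ⟨k, -, hk⟩ := FiniteField.card F p
    exact ⟨k, hk, k.pos⟩
  have hnN : ∀ a : PSL₂, M ≤ Subgroup.normalizer (tor a : Set PSL₂) →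
      Subgroup.normalizer (tor a : Set PSL₂) ≠ ⊤ → M = Subgroup.normalizer (tor a : Set PSL₂) := fun a h hne =>
    by_contra fun e => hne (hM.2 _ (lt_of_le_of_ne h e))
  have hoddp : (¬ p ∣ Nat.card M ∨ p = 3) → 2 ∣ Nat.card M → Odd (Fintype.card F) := fun h h2 =>
    odd_of_p p fun e => by subst e; rcases h with h | h <;> [exact h h2; omega]
  cases dickson p M with
  | trivial h =>
    exfalso
    subst h
    obtain ⟨g, hg, hgp, -⟩ := exists_tor_plus (F := F) p
    have hz : Subgroup.zpowers g = ⊤ := hM.2 _ (bot_lt_iff_ne_bot.mpr (by simpa using hg))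
    refine normalizer_semi_ne_top p (by omega) hg hgp (top_unique ?_)
    rw [← hz]
    exact Subgroup.zpowers_le.mpr (Subgroup.le_normalizer ((pslData (F := F) p).self g))
  | cyclic a ha ha1 hap h =>
    exfalso
    have hN := hnN a (h.trans Subgroup.le_normalizer) (normalizer_semi_ne_top p (by omega) ha1 hap)
    have hle := Subgroup.card_le_of_le (hN.symm.le.trans h)
    have hpos : 0 < Nat.card (tor a) := Nat.card_pos
    rw [(normalizer_tor p ha1 hap).1] at hle
    omega
  | dihedral a ha ha1 hap hidx h iso =>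
    exact .torus a ha1 hap (hnN a h (normalizer_semi_ne_top p (by omega) ha1 hap))
  | borel a ha ha1 hap h => exact .borel a ha1 hap (hnN a h (normalizer_uni_ne_top p ha1 hap))
  | subfield h =>
    obtain ⟨K, P, h3, hK⟩ := h
    have hle : M ≤ sfOver K (Matrix.ProjGenLinGroup.mk P) := by
      refine (Subgroup.le_comap_map _ M).trans (Subgroup.comap_mono ?_)
      rcases hK with e | e <;> rw [e]
      exact Subgroup.map_mono (pslImg_le _)
    refine maxShape_of_le_sfOver p hM (fun hKt => hM.1 ?_) h3 hle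
    haveI : Fintype K := Fintype.ofFinite K
    let e : K ≃+* F := RingEquiv.ofBijective K.subtype ⟨K.subtype_injective, fun z => ⟨⟨z, hKt ▸ trivial⟩, rfl⟩⟩
    obtain ⟨c⟩ := nonempty_psl_congr e
    refine Subgroup.eq_top_of_le_card _ ?_
    rw [← Nat.card_congr c.toEquiv, ← Subgroup.card_map_of_injective
      (Matrix.ProjectiveSpecialLinearGroup.toPGL_injective (n := Fin 2) (R := F)) (K := M)]
    rcases hK with hK | hK <;> rw [hK, Subgroup.card_map_of_injective (MulEquiv.injective _)]
    · rw [Nat.card_congr (nonempty_pglImg K.subtype).some.toEquiv]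
      haveI := finite_pgl (F := K)
      exact Nat.card_le_card_of_injective _ Matrix.ProjectiveSpecialLinearGroup.toPGL_injective
    · rw [Nat.card_congr (nonempty_pslImg K.subtype).some.toEquiv]
  | alt4 hc iso hp3 =>
    obtain ⟨e⟩ := iso
    have hodd := hoddp hp3 (by rw [hc]; norm_num)
    have hp2 : p ≠ 2 := char_ne_two_of_odd_card hodd p
    obtain ⟨hgen, ha, hb, hab⟩ := Exc.alt4_data
    set f : alternatingGroup (Fin 4) →* PSL₂ := M.subtype.comp e.symm.toMonoidHom with hf'
    have hf : Function.Injective f := M.subtype_injective.comp e.symm.injective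
    have hfM : f.range = M := by
      rw [hf', MonoidHom.range_comp, MonoidHom.range_eq_top.mpr e.symm.surjective, ← MonoidHom.range_eq_map,
        Subgroup.range_subtype]
    obtain ⟨A, B, hl⟩ := exists_liftPair hodd (α := f Exc.a4) (β := f Exc.b4) (n := 3)
      ((orderOf_injective f hf _).trans ha) ((orderOf_injective f hf _).trans hb)
      (by rw [← map_mul, orderOf_injective f hf, hab]) (Or.inl rfl)
    rcases (show (n : ℕ) = 1 ∨ 1 < (n : ℕ) by omega) with h1 | h1
    · have hq : Fintype.card F = p := by rw [hn, h1, pow_one]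
      have h5 : 5 ≤ Fintype.card F := by obtain ⟨m, hm⟩ := hodd; omega
      obtain ⟨x, y, hxy⟩ := exists_quat (F := F) hodd
      obtain ⟨t, A₀, -, -, -, hA₀, -, ⟨i⟩, -⟩ := exists_alt4 hodd hxy
      have hg : Function.Injective (A₀.subtype.comp i.symm.toMonoidHom) :=
        A₀.subtype_injective.comp i.symm.injective
      refine .alt4 hq ?_ ?_ ⟨e⟩
      · by_contra h8
        refine alt4_not_lt hodd hM e _ hg (klein_le_proper hodd h5 hxy) ?_ ?_
        · rw [MonoidHom.range_comp, MonoidHom.range_eq_top.mpr i.symm.surjective, ← MonoidHom.range_eq_map,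
            Subgroup.range_subtype]
          exact hA₀
        · rw [(card_normalizer_klein p hodd hxy).1 (by rw [hq]; obtain ⟨m, hm⟩ := hodd; omega)]
          norm_num
      · intro h10
        obtain ⟨H, ⟨j⟩⟩ := Ico.exists_alt5_iff.mpr (five_dvd_card_psl (K := F) (by
          rw [hq, Nat.pow_mod]
          rcases (show p % 5 = 1 ∨ p % 5 = 4 by omega) with h | h <;> rw [h]))
        have hH : Nat.card H = 60 := by rw [Nat.card_congr j.toEquiv, nat_card_alternatingGroup, Nat.card_fin]; rfl
        refine alt4_not_lt hodd hM e ((H.subtype.comp j.symm.toMonoidHom).comp altIncl)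
          ((H.subtype_injective.comp j.symm.injective).comp altIncl_injective) (H := H) ?_ ?_ (by omega)
        · intro hT
          have h2 := card_psl (F := F)
          rw [← Subgroup.card_top (G := PSL₂), ← hT, hH, hq] at h2
          have h11 : 11 ≤ p := by
            have h2p := hp.out.two_le
            by_contra hc'
            rcases (show p = 9 by omega)
            exact absurd hp.out (by norm_num)
          have hd := two_del_le (F := F)
          have : 11 * (10 * 12) ≤ p * ((p - 1) * (p + 1)) :=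
            Nat.mul_le_mul h11 (Nat.mul_le_mul (by omega) (by omega))
          omega
        · rintro _ ⟨s, rfl⟩
          exact (j.symm (altIncl s)).2
    · obtain ⟨K, hKc, hKt⟩ := exists_subfield_card p hn (one_mul (n : ℕ)) one_ne_zero
      obtain ⟨x, hx⟩ := range_le_sfOver hgen f hl hodd K (Or.inl (by rw [hl.tab.1 rfl]; exact K.one_mem))
      refine maxShape_of_le_sfOver p hM (hKt h1) ?_ (hfM ▸ hx)
      rw [hKc, pow_one]; have := hp.out.two_le; omega
  | perm4 hc iso hp3 =>
    obtain ⟨e⟩ := iso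
    have hodd := hoddp (Or.inl hp3) (by rw [hc]; norm_num)
    have hp2 : p ≠ 2 := char_ne_two_of_odd_card hodd p
    obtain ⟨hgen, ha, hb, hab⟩ := Exc.perm4_data
    rcases (show (n : ℕ) = 1 ∨ 1 < (n : ℕ) by omega) with h1 | h1
    · have hq : Fintype.card F = p := by rw [hn, h1, pow_one]
      exact .perm4 hq (hq ▸ (mod_eight_of_perm_four p e).2) ⟨e⟩
    · set f : Equiv.Perm (Fin 4) →* PSL₂ := M.subtype.comp e.symm.toMonoidHom with hf'
      have hf : Function.Injective f := M.subtype_injective.comp e.symm.injective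
      have hfM : f.range = M := by
        rw [hf', MonoidHom.range_comp, MonoidHom.range_eq_top.mpr e.symm.surjective, ← MonoidHom.range_eq_map,
          Subgroup.range_subtype]
      obtain ⟨A, B, hl⟩ := exists_liftPair hodd (α := f Exc.aS) (β := f Exc.bS) (n := 4)
        ((orderOf_injective f hf _).trans ha) ((orderOf_injective f hf _).trans hb)
        (by rw [← map_mul, orderOf_injective f hf, hab]) (Or.inr (Or.inl rfl))
      obtain ⟨K, hKc, hKt⟩ := exists_subfield_card p hn (one_mul (n : ℕ)) one_ne_zero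
      obtain ⟨x, hx⟩ := range_le_sfOver hgen f hl hodd K (Or.inr rfl)
      refine maxShape_of_le_sfOver p hM (hKt h1) ?_ (hfM ▸ hx)
      rw [hKc, pow_one]; have := hp.out.two_le; omega
  | alt5 hc iso hp3 =>
    obtain ⟨e⟩ := iso
    have hodd := hoddp hp3 (by rw [hc]; norm_num)
    have hp2 : p ≠ 2 := char_ne_two_of_odd_card hodd p
    have hp5 : p ≠ 5 := fun e5 => by rw [hc, e5] at hp3; norm_num at hp3
    have h5card : 5 ∣ Nat.card PSL₂ := (show 5 ∣ Nat.card M by rw [hc]; norm_num).trans (Subgroup.card_subgroup_dvd_card M)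
    have h10 := mod_ten_of_five p hodd hp5 h5card
    by_cases hok : Fintype.card F = p ∨ (Fintype.card F = p ^ 2 ∧ (p % 10 = 3 ∨ p % 10 = 7))
    · exact .alt5 hok h10 ⟨e⟩
    obtain ⟨hgen, ha, hb, hab⟩ := Exc.alt5_data
    set f : alternatingGroup (Fin 5) →* PSL₂ := M.subtype.comp e.symm.toMonoidHom with hf'
    have hf : Function.Injective f := M.subtype_injective.comp e.symm.injective
    have hfM : f.range = M := by
      rw [hf', MonoidHom.range_comp, MonoidHom.range_eq_top.mpr e.symm.surjective, ← MonoidHom.range_eq_map,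
        Subgroup.range_subtype]
    obtain ⟨A, B, hl⟩ := exists_liftPair hodd (α := f Ico.sA) (β := f Ico.sB) (n := 5)
      ((orderOf_injective f hf _).trans ha) ((orderOf_injective f hf _).trans hb)
      (by rw [← map_mul, orderOf_injective f hf, hab]) (Or.inr (Or.inr rfl))
    push Not at hok
    obtain ⟨m, hm⟩ : Odd p := hp.out.odd_of_ne_two hp2
    have hp5' : p % 5 ≠ 0 := fun h => hp5 ((Nat.prime_dvd_prime_iff_eq (by norm_num) hp.out).mp
      (Nat.dvd_of_mod_eq_zero h)).symm
    obtain ⟨d, k, hd, hk, hd0, hd5⟩ : ∃ d k, d * k = n ∧ 1 < k ∧ d ≠ 0 ∧ (p ^ d) ^ 2 % 5 = 1 := by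
      have hn1 : (n : ℕ) ≠ 1 := fun h => hok.1 (by rw [hn, h, pow_one])
      by_cases hp10 : p % 10 = 1 ∨ p % 10 = 9
      · refine ⟨1, n, one_mul _, by omega, one_ne_zero, ?_⟩
        rw [pow_one, Nat.pow_mod]
        rcases (show p % 5 = 1 ∨ p % 5 = 4 by omega) with h | h <;> rw [h]
      · have h37 : p % 10 = 3 ∨ p % 10 = 7 := by omega
        have hn2 : (n : ℕ) ≠ 2 := fun h => by have := hok.2 (by rw [hn, h]); omega
        obtain ⟨i, hi⟩ : Even (n : ℕ) := by
          by_contra ho
          obtain ⟨i, hi⟩ := Nat.not_even_iff_odd.mp ho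
          rw [hn, hi, pow_succ, pow_mul, Nat.mul_mod, Nat.pow_mod] at h10
          have hi' : (p ^ 2 % 10) ^ i % 10 = 1 ∨ (p ^ 2 % 10) ^ i % 10 = 9 := by
            have e9 : p ^ 2 % 10 = 9 := by
              rw [Nat.pow_mod]; rcases h37 with h | h <;> rw [h]
            rw [e9]
            clear h10 hi
            induction i with
            | zero => norm_num
            | succ j ih => rw [pow_succ, Nat.mul_mod]; rcases ih with h | h <;> rw [h] <;> norm_num
          rcases hi' with h | h <;> rw [h] at h10 <;> omega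
        refine ⟨2, i, by omega, by omega, two_ne_zero, ?_⟩
        rw [← pow_mul, Nat.pow_mod]
        rcases (show p % 5 = 1 ∨ p % 5 = 2 ∨ p % 5 = 3 ∨ p % 5 = 4 by omega) with h | h | h | h <;> rw [h]
    obtain ⟨K, hKc, hKt⟩ := exists_subfield_card p hn hd hd0
    haveI : Fintype K := Fintype.ofFinite K
    haveI : Fact (Nat.Prime 5) := ⟨by norm_num⟩
    obtain ⟨g, hg⟩ := exists_prime_orderOf_dvd_card' 5 (five_dvd_card_psl (K := K)
      (by rw [← Nat.card_eq_fintype_card, hKc]; exact hd5))
    obtain ⟨τ, hτ⟩ := Ico.exists_root_of_orderOf hg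
    have hu : tr (A * B) ∈ K := by
      have h1 := hl.tab.2.2 rfl
      have hτ' : (τ : F) * τ = τ + 1 := congrArg Subtype.val hτ
      have : (tr (A * B) - τ) * (tr (A * B) - (1 - τ)) = 0 := by linear_combination h1 - hτ'
      rcases mul_eq_zero.mp this with h | h <;> rw [sub_eq_zero.mp h]
      · exact τ.2
      · exact K.sub_mem K.one_mem τ.2
    obtain ⟨x, hx⟩ := range_le_sfOver hgen f hl hodd K (Or.inl hu)
    refine maxShape_of_le_sfOver p hM (hKt hk) ?_ (hfM ▸ hx)
    rw [hKc]
    exact le_trans (by have := hp.out.two_le; omega) (Nat.le_self_pow hd0 p)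

end Cfsg.Agent.Dickson
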