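import Mathlib
import Cfsg.Agent.Lib.Classical.DicksonMaximal

/-!
Orders and exclusions for the maximal subgroups of `PSL(2, F)`.
-/

set_option autoImplicit false

namespace Cfsg.Agent.Dickson

open Matrix Cfsg.Agent.Grp.SL2 Cfsg.Agent.PSL2Spec
open scoped Pointwise

section Generic

variable {G : Type*} [Group G]

theorem isCoatom_of_forall [Finite G] {H : Subgroup G} (hH : H ≠ ⊤)
    (h : ∀ M : Subgroup G, IsCoatom M → H ≤ M → M = H) : IsCoatom H := by
  obtain hT | ⟨M, hM, hle⟩ := eq_top_or_exists_le_coatom H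
  · exact absurd hT hH
  · exact h M hM hle ▸ hM

/-- A subgroup conjugate into a larger proper subgroup is not maximal. -/
theorem not_coatom_of_smul_le [Finite G] {M H : Subgroup G} (g : G) (hH : H ≠ ⊤) (hle : MulAut.conj g • M ≤ H)
    (hlt : Nat.card M < Nat.card H) : ¬ IsCoatom M := by
  intro hM
  have hc : Nat.card (MulAut.conj g⁻¹ • H : Subgroup G) = Nat.card H :=
    (Nat.card_congr (Subgroup.equivSMul (MulAut.conj g⁻¹) H).toEquiv).symm
  have h1 : M ≤ MulAut.conj g⁻¹ • H := by
    rw [map_inv, Subgroup.subset_pointwise_smul_iff, inv_inv]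
    exact hle
  have h2 : M < MulAut.conj g⁻¹ • H := lt_of_le_of_ne h1 fun e => by
    rw [e, hc] at hlt; exact lt_irrefl _ hlt
  refine hH (Subgroup.eq_top_of_card_eq H ?_)
  rw [← hc, hM.2 _ h2, Subgroup.card_top]

theorem not_coatom_of_sylow [Finite G] {M H : Subgroup G} {ℓ a : ℕ} [hℓ : Fact ℓ.Prime]
    (hM : Nat.card M = ℓ ^ a) (hG : ¬ ℓ ^ (a + 1) ∣ Nat.card G) (hH : H ≠ ⊤) (hdvd : ℓ ^ a ∣ Nat.card H)
    (hlt : Nat.card M < Nat.card H) : ¬ IsCoatom M := by
  have hfac : (Nat.card G).factorization ℓ = a := by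
    have h1 := (hℓ.out.pow_dvd_iff_le_factorization Nat.card_pos.ne').mp
      (hM ▸ Subgroup.card_subgroup_dvd_card M)
    have h2 := mt (hℓ.out.pow_dvd_iff_le_factorization (k := a + 1) Nat.card_pos.ne').mpr hG
    omega
  obtain ⟨Q, hQ⟩ := Sylow.exists_subgroup_card_pow_prime ℓ hdvd
  let P₁ : Sylow ℓ G := Sylow.ofCard M (by rw [hM, hfac])
  let P₂ : Sylow ℓ G := Sylow.ofCard (Q.map H.subtype)
    (by rw [Subgroup.card_map_of_injective H.subtype_injective, hQ, hfac])
  obtain ⟨g, hg⟩ := MulAction.exists_smul_eq G P₁ P₂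
  refine not_coatom_of_smul_le g hH ?_ hlt
  have := congrArg (fun P : Sylow ℓ G => (P : Subgroup G)) hg
  change MulAut.conj g • M = Q.map H.subtype at this
  rw [this]
  exact Subgroup.map_subtype_le Q

/-- The normaliser of a subgroup of prime order is not maximal if a larger proper subgroup contains an
element of that order inverted by another one. -/
theorem not_coatom_normalizer [Finite G] {T H : Subgroup G} {ℓ : ℕ} [hℓ : Fact ℓ.Prime]
    (hT : Nat.card T = ℓ) (hN : Nat.card (Subgroup.normalizer (T : Set G)) = 2 * ℓ)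
    (hG : ¬ ℓ ^ 2 ∣ Nat.card G) (hH : H ≠ ⊤) (hlt : 2 * ℓ < Nat.card H) {s t : H} (hs : orderOf s = ℓ)
    (ht : t ∉ Subgroup.zpowers s) (hts : t * s * t⁻¹ = s⁻¹) :
    ¬ IsCoatom (Subgroup.normalizer (T : Set G)) := by
  have hfac : (Nat.card G).factorization ℓ = 1 := by
    have h1 := (hℓ.out.pow_dvd_iff_le_factorization (k := 1) Nat.card_pos.ne').mp
      (by rw [pow_one]; exact hT ▸ Subgroup.card_subgroup_dvd_card T)
    have h2 := mt (hℓ.out.pow_dvd_iff_le_factorization (k := 2) Nat.card_pos.ne').mpr hG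
    omega
  set S : Subgroup G := Subgroup.zpowers (s : G) with hS
  have hSc : Nat.card S = ℓ := by rw [hS, Nat.card_zpowers, Subgroup.orderOf_coe, hs]
  let P₁ : Sylow ℓ G := Sylow.ofCard T (by rw [hT, hfac, pow_one])
  let P₂ : Sylow ℓ G := Sylow.ofCard S (by rw [hSc, hfac, pow_one])
  obtain ⟨g, hg⟩ := MulAction.exists_smul_eq G P₁ P₂
  have hgT : MulAut.conj g • T = S := congrArg (fun P : Sylow ℓ G => (P : Subgroup G)) hg
  refine not_coatom_of_smul_le g hH ?_ (by rw [hN]; exact hlt)
  have hsm : MulAut.conj g • Subgroup.normalizer (T : Set G) = Subgroup.normalizer (S : Set G) := by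
    rw [← hgT]
    ext z
    simp only [Subgroup.mem_smul_pointwise_iff_exists, Subgroup.mem_normalizer_iff, MulAut.smul_def, MulAut.conj_apply]
    constructor
    · rintro ⟨w, hw, rfl⟩ u
      constructor
      · rintro ⟨v, hv, rfl⟩
        exact ⟨w * v * w⁻¹, (hw v).mp hv, by simp [mul_assoc]⟩
      · rintro ⟨v, hv, e⟩
        refine ⟨w⁻¹ * v * w, (hw _).mpr (by simpa [mul_assoc] using hv), ?_⟩
        have : u = (g * w * g⁻¹)⁻¹ * (g * v * g⁻¹) * (g * w * g⁻¹) := by rw [e]; group
        rw [this]; group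
    · intro hz
      refine ⟨g⁻¹ * z * g, fun v => ?_, by simp [mul_assoc]⟩
      constructor
      · intro hv
        obtain ⟨v', hv', e⟩ := (hz (g * v * g⁻¹)).mp ⟨v, hv, rfl⟩
        have : g⁻¹ * z * g * v * (g⁻¹ * z * g)⁻¹ = v' := by
          rw [show v' = g⁻¹ * (g * v' * g⁻¹) * g by group, e]; group
        rwa [this]
      · intro hv
        obtain ⟨v', hv', e⟩ := (hz (g * v * g⁻¹)).mpr ⟨_, hv, by group⟩
        have : v = v' := by
          have e' : g * v * g⁻¹ = g * v' * g⁻¹ := e.symm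
          simpa using e'
        rwa [this]
  rw [hsm]
  -- the dihedral subgroup of `H` is the whole normaliser
  set D : Subgroup G := (Subgroup.closure ({s, t} : Set H)).map H.subtype with hD
  have hDN : D ≤ Subgroup.normalizer (S : Set G) := by
    rw [hD, MonoidHom.map_closure, Subgroup.closure_le, Set.image_pair]
    rintro z (rfl | rfl)
    · exact Subgroup.le_normalizer (Subgroup.mem_zpowers _)
    · refine mem_normalizer_of_forall fun u hu => ?_
      obtain ⟨k, rfl⟩ := Subgroup.mem_zpowers_iff.mp hu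
      have e : (H.subtype t) * (s : G) * (H.subtype t)⁻¹ = (s : G)⁻¹ := congrArg Subtype.val hts
      rw [← conj_zpow, e]
      exact Subgroup.zpow_mem _ (Subgroup.inv_mem _ (Subgroup.mem_zpowers _)) k
  have hNc : Nat.card (Subgroup.normalizer (S : Set G)) = 2 * ℓ := by
    rw [← hN, ← hsm]
    exact (Nat.card_congr (Subgroup.equivSMul (MulAut.conj g) _).toEquiv).symm
  have hSD : S < D := by
    refine lt_of_le_of_ne (Subgroup.zpowers_le.mpr ⟨s, Subgroup.subset_closure (by simp), rfl⟩) fun e => ht ?_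
    have hm : (t : G) ∈ D := ⟨t, Subgroup.subset_closure (by simp), rfl⟩
    rw [← e] at hm
    obtain ⟨k, hk⟩ := Subgroup.mem_zpowers_iff.mp hm
    exact Subgroup.mem_zpowers_iff.mpr ⟨k, Subtype.ext (by simpa using hk)⟩
  have hcard : Nat.card D = 2 * ℓ := by
    have h1 := Subgroup.card_dvd_of_le hDN
    rw [hNc] at h1
    obtain ⟨c, hc⟩ := Subgroup.card_dvd_of_le hSD.le
    rw [hSc] at hc
    have hc1 : c ≠ 1 := fun e => by
      rw [e, mul_one] at hc
      exact hSD.ne (Subgroup.eq_of_le_of_card_ge hSD.le (by omega))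
    rw [hc, mul_comm ℓ c] at h1
    rcases (Nat.dvd_prime Nat.prime_two).mp (Nat.dvd_of_mul_dvd_mul_right hℓ.out.pos h1) with e | e
    · exact absurd e hc1
    · rw [hc, e, mul_comm]
  rw [← Subgroup.eq_of_le_of_card_ge hDN (by rw [hNc, hcard])]
  exact Subgroup.map_subtype_le _

end Generic

theorem card_pgl (K : Type*) [Field K] [Fintype K] :
    Nat.card (Matrix.ProjGenLinGroup (Fin 2) K) = Fintype.card K * ((Fintype.card K - 1) * (Fintype.card K + 1)) := by
  rw [Classical.natCard_PGL_eq_SL, Fus.PSLTwo.natCard_SL_two]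

/-- Element orders in `PGL(2, K)` are at most `|K| + 1`. -/
theorem orderOf_le_pgl {K : Type*} [Field K] [Fintype K] (g : Matrix.ProjGenLinGroup (Fin 2) K) :
    orderOf g ≤ Fintype.card K + 1 := by
  classical
  induction g using Matrix.ProjGenLinGroup.induction_on with | mk A => ?_
  set M : Matrix (Fin 2) (Fin 2) K := (A : Matrix (Fin 2) (Fin 2) K) with hM
  have h2 : M * M = M.trace • M - M.det • 1 := by
    ext i j
    fin_cases i <;> fin_cases j <;>
      simp [Matrix.mul_apply, Fin.sum_univ_two, Matrix.det_fin_two, Matrix.trace_fin_two] <;> ring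
  have hlin : ∀ i : ℕ, ∃ a b : K, M ^ i = a • 1 + b • M := by
    intro i
    induction i with
    | zero => exact ⟨1, 0, by simp⟩
    | succ i ih =>
      obtain ⟨a, b, e⟩ := ih
      refine ⟨-(b * M.det), a + b * M.trace, ?_⟩
      rw [pow_succ, e, add_mul, smul_mul_assoc, smul_mul_assoc, one_mul, h2, smul_sub, smul_smul, smul_smul]
      module
  choose a b hab using hlin
  set n := orderOf (Matrix.ProjGenLinGroup.mk A) with hn
  let φ : Fin n × Kˣ → {v : K × K // v ≠ 0} := fun w => ⟨((w.2 : K) * a w.1, (w.2 : K) * b w.1), fun e => by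
    have ea := congrArg Prod.fst e
    have eb := congrArg Prod.snd e
    simp at ea eb
    have h := hab w.1
    rw [ea, eb] at h
    have hu : IsUnit (M ^ (w.1 : ℕ)) := (A.isUnit).pow _
    exact hu.ne_zero (by rw [h]; simp)⟩
  have hφ : Function.Injective φ := by
    rintro ⟨i, l⟩ ⟨j, l'⟩ h
    have h' := congrArg Subtype.val h
    simp only [φ, Prod.mk.injEq] at h'
    have hsm : (l : K) • M ^ (i : ℕ) = (l' : K) • M ^ (j : ℕ) := by
      rw [hab, hab, smul_add, smul_add, smul_smul, smul_smul, smul_smul, smul_smul, h'.1, h'.2]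
    have hG : A ^ (i : ℕ) * Matrix.GeneralLinearGroup.scalar (Fin 2) l =
        A ^ (j : ℕ) * Matrix.GeneralLinearGroup.scalar (Fin 2) l' := by
      refine Units.ext ?_
      rw [Units.val_mul, Units.val_mul, Units.val_pow_eq_pow_val, Units.val_pow_eq_pow_val,
        Matrix.GeneralLinearGroup.coe_scalar, Matrix.GeneralLinearGroup.coe_scalar]
      simp only [Matrix.scalar_apply, ← Matrix.smul_one_eq_diagonal, mul_smul_comm, mul_one]
      exact hsm
    have hp' := congrArg Matrix.ProjGenLinGroup.mk hG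
    rw [map_mul, map_mul, Matrix.ProjGenLinGroup.mk_scalar, Matrix.ProjGenLinGroup.mk_scalar, mul_one, mul_one,
      map_pow, map_pow] at hp'
    obtain rfl : i = j := Fin.ext (pow_injOn_Iio_orderOf i.2 j.2 hp')
    have hu : IsUnit (M ^ (i : ℕ)) := (A.isUnit).pow _
    refine Prod.ext rfl (Units.ext ?_)
    exact smul_left_injective K hu.ne_zero hsm
  have hc := Nat.card_le_card_of_injective φ hφ
  rw [Nat.card_prod, Nat.card_fin, Nat.card_units, Nat.card_eq_fintype_card (α := {v : K × K // v ≠ 0}),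
    Fintype.card_subtype_compl, Fintype.card_subtype_eq, Fintype.card_prod, Nat.card_eq_fintype_card] at hc
  have hk : 1 < Fintype.card K := Fintype.one_lt_card
  obtain ⟨c, hc'⟩ : ∃ c, Fintype.card K = c + 2 := ⟨Fintype.card K - 2, by omega⟩
  rw [hc', show c + 2 - 1 = c + 1 by omega, show (c + 2) * (c + 2) - 1 = (c + 3) * (c + 1) by
    rw [Nat.sub_eq_iff_eq_add (Nat.mul_pos (by omega) (by omega))]; ring] at hc
  have := Nat.le_of_mul_le_mul_right hc (by omega)
  omega

variable {F : Type*} [Field F] [Fintype F]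

local notation "PSL₂" => Matrix.ProjectiveSpecialLinearGroup (Fin 2) F

/-- The orders of the subgroups of subfield type. -/
theorem card_sfOver {L : Subfield F} {r : ℕ} (hr : r.Prime) (h : Nat.card L ^ r = Fintype.card F)
    (x : Matrix.ProjGenLinGroup (Fin 2) F) :
    ((r = 2 ∨ Even (Fintype.card F)) →
      Nat.card (sfOver L x) = Nat.card L * ((Nat.card L - 1) * (Nat.card L + 1))) ∧
    (Odd r → Odd (Fintype.card F) →
      2 * Nat.card (sfOver L x) = Nat.card L * ((Nat.card L - 1) * (Nat.card L + 1))) := by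
  haveI : Fintype L := Fintype.ofFinite L
  refine ⟨fun h' => ?_, fun ho hodd => ?_⟩
  · rw [Nat.card_congr ((nonempty_sfOver hr h x).1 h').some.toEquiv, card_pgl, Nat.card_eq_fintype_card]
  · have hL : Odd (Fintype.card L) := by
      rw [Nat.card_eq_fintype_card] at h
      exact (Nat.odd_pow_iff hr.ne_zero).mp (h.symm ▸ hodd)
    have hd : del L = 2 := by
      rcases del_cases L with ⟨-, he⟩ | ⟨hd, -⟩
      · exact absurd he (Nat.not_even_iff_odd.mpr hL)
      · exact hd
    rw [Nat.card_congr ((nonempty_sfOver hr h x).2 (Or.inl ho)).some.toEquiv, mul_comm 2]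
    have := card_psl (F := L)
    rw [hd] at this
    rw [this, Nat.card_eq_fintype_card]

theorem card_sfOver_le {L : Subfield F} {r : ℕ} (hr : r.Prime) (h : Nat.card L ^ r = Fintype.card F)
    (x : Matrix.ProjGenLinGroup (Fin 2) F) :
    Nat.card (sfOver L x) ≤ Nat.card L * ((Nat.card L - 1) * (Nat.card L + 1)) := by
  rcases hr.eq_two_or_odd' with e | e
  · exact ((card_sfOver hr h x).1 (Or.inl e)).le
  rcases Nat.even_or_odd (Fintype.card F) with e' | e'
  · exact ((card_sfOver hr h x).1 (Or.inr e')).le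
  · have := (card_sfOver hr h x).2 e e'
    omega

theorem orderOf_le_sfOver (L : Subfield F) {x : Matrix.ProjGenLinGroup (Fin 2) F} {g : PSL₂}
    (hg : g ∈ sfOver L x) : orderOf g ≤ Nat.card L + 1 := by
  haveI : Fintype L := Fintype.ofFinite L
  obtain ⟨_, ⟨z, rfl⟩, hz⟩ := hg
  rw [← orderOf_injective _ Matrix.ProjectiveSpecialLinearGroup.toPGL_injective g, ← hz,
    orderOf_injective _ (MulEquiv.injective _), orderOf_injective _ (pglMap_injective _),
    Nat.card_eq_fintype_card]
  exact orderOf_le_pgl z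

variable (p : ℕ) [hp : Fact p.Prime] [CharP F p]

/-- In odd characteristic `A₄` normalises no maximal torus or unipotent subgroup. -/
theorem alt4_not_le_normalizer (hp2 : p ≠ 2) (g : alternatingGroup (Fin 4) →* PSL₂)
    (hg : Function.Injective g) {a : PSL₂} (ha : a ≠ 1)
    (hle : g.range ≤ Subgroup.normalizer (tor a : Set PSL₂)) : False := by
  set D := pslData (F := F) p
  have hm : ∀ s, g s * a * (g s)⁻¹ ∈ tor a := fun s => (D.mem_normalizer_iff ha).mp (hle ⟨s, rfl⟩)
  by_cases hap : a ^ p = 1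
  · have hv : g (Exc.b4 * Exc.a4 * Exc.b4⁻¹ * Exc.a4⁻¹) ∈ tor a := by
      rw [map_mul, map_mul, map_mul, map_inv, map_inv]
      exact D.borel_comm ha hap (hm _) (hm _)
    have h1 := D.uni_exp ha hap hv
    rw [← map_pow, ← map_one g] at h1
    have h1' := hg h1
    have h2 : (Exc.b4 * Exc.a4 * Exc.b4⁻¹ * Exc.a4⁻¹) ^ 2 = 1 := by decide
    obtain ⟨k, hk⟩ := hp.out.odd_of_ne_two hp2
    rw [hk, pow_succ, pow_mul, h2, one_pow, one_mul] at h1'
    exact absurd h1' (by decide)
  · have hsq : ∀ s, g (s * s) ∈ tor a := by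
      intro s
      rw [map_mul]
      by_cases hs : g s ∈ tor a
      · exact mul_mem hs hs
      · rw [(D.semi_flip ha hap (hm s) hs).1]; exact one_mem _
    have hb : g Exc.b4 ∈ tor a := by
      rw [show Exc.b4 = Exc.b4 * Exc.b4 * (Exc.b4 * Exc.b4) by decide]
      exact hsq _
    by_cases hs : g Exc.a4 ∈ tor a
    · have h := (D.comm ha hs hb).eq
      rw [← map_mul, ← map_mul] at h
      exact absurd (hg h) (by decide)
    · have h := (D.semi_flip ha hap (hm _) hs).2 _ hb
      rw [← map_inv, ← map_inv, ← map_mul, ← map_mul] at h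
      exact absurd (hg h) (by decide)

end Cfsg.Agent.Dickson
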