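import Mathlib
import Cfsg.Agent.Lib.Classical.DicksonMaxFacts
import Cfsg.Agent.Lib.Classical.SLNormal
import Cfsg.Agent.Lib.Recog.ThreeInvolutions

/-!
Overgroups of the standard subgroups of `PSL(2, F)`.
-/

set_option autoImplicit false

namespace Cfsg.Agent.Dickson

open Matrix Cfsg.Agent.Grp.SL2 Cfsg.Agent.PSL2Spec

theorem not_solvable_psl {K : Type*} [Field K] [Fintype K] (h4 : 4 ≤ Fintype.card K) :
    ¬ Group.IsSolvable (Matrix.ProjectiveSpecialLinearGroup (Fin 2) K) := by
  intro h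
  haveI : IsSimpleGroup (Matrix.ProjectiveSpecialLinearGroup (Fin 2) K) :=
    Classical.PSL_isSimple le_rfl fun _ => h4
  obtain ⟨p, hp⟩ := CharP.exists K
  haveI : Fact p.Prime := ⟨CharP.char_is_prime K p⟩
  have hc : ∀ x y : Matrix.ProjectiveSpecialLinearGroup (Fin 2) K, x * y = y * x :=
    fun x y => (IsSimpleGroup.comm_iff_isSolvable.mpr h) x y
  obtain ⟨g, hg, hgp, -⟩ := exists_tor_plus (F := K) p
  refine normalizer_semi_ne_top p (by omega) hg hgp ((Subgroup.eq_top_iff' _).mpr fun x => ?_)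
  refine mem_normalizer_of_forall fun u hu => ?_
  rwa [hc x u, mul_inv_cancel_right]

theorem charP_of_prime_card {K : Type*} [Field K] [Fintype K] {p : ℕ} [hp : Fact p.Prime]
    (h : Fintype.card K = p) : CharP K p := by
  obtain ⟨q, hq⟩ := CharP.exists K
  obtain ⟨n, hqp, hn⟩ := FiniteField.card K q
  have : q = p := (Nat.prime_dvd_prime_iff_eq hqp hp.out).mp (by rw [← h, hn]; exact dvd_pow_self q n.pos.ne')
  exact this ▸ hq

variable {F : Type*} [Field F] [Fintype F] (p : ℕ) [hp : Fact p.Prime] [CharP F p]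

local notation "PSL₂" => Matrix.ProjectiveSpecialLinearGroup (Fin 2) F

include p in
/-- The normalisers of maximal tori and of Sylow `p`-subgroups are soluble. -/
theorem solvable_normalizer_tor {a : PSL₂} (ha : a ≠ 1) :
    Group.IsSolvable (Subgroup.normalizer (tor a : Set PSL₂)) := by
  set D := pslData (F := F) p
  set N := Subgroup.normalizer (tor a : Set PSL₂) with hN
  have hm : ∀ g : N, (g : PSL₂) * a * (g : PSL₂)⁻¹ ∈ tor a := fun g => (D.mem_normalizer_iff ha).mp g.2
  have hle : (tor a).subgroupOf N = (tor a).subgroupOf N := rfl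
  haveI : ((tor a).subgroupOf N).Normal := by rw [hN]; exact Subgroup.normal_in_normalizer
  have hT : Group.IsSolvable ((tor a).subgroupOf N) :=
    Group.isSolvable_of_comm fun x y => Subtype.ext (Subtype.ext (D.comm ha x.2 y.2).eq)
  have hQ : Group.IsSolvable (N ⧸ (tor a).subgroupOf N) := by
    refine Group.isSolvable_of_comm fun x y => ?_
    induction x using QuotientGroup.induction_on with | H g => ?_
    induction y using QuotientGroup.induction_on with | H h => ?_
    rw [← QuotientGroup.mk_mul, ← QuotientGroup.mk_mul, QuotientGroup.eq, Subgroup.mem_subgroupOf]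
    push_cast
    by_cases hap : a ^ p = 1
    · have := D.borel_comm ha hap (hm h⁻¹) (hm g⁻¹)
      show _ ∈ D.T a
      simpa [mul_assoc, _root_.mul_inv_rev] using this
    · by_cases hg : (g : PSL₂) ∈ tor a
      · by_cases hh : (h : PSL₂) ∈ tor a
        · exact mul_mem (inv_mem (mul_mem hg hh)) (mul_mem hh hg)
        · obtain ⟨h2, hinv⟩ := D.semi_flip ha hap (hm h) hh
          have : ((h : PSL₂) * g * (h : PSL₂)⁻¹) = (g : PSL₂)⁻¹ := hinv _ hg
          rw [show ((g : PSL₂) * h)⁻¹ * ((h : PSL₂) * g) =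
            (h : PSL₂)⁻¹ * (g : PSL₂)⁻¹ * ((h : PSL₂) * g * (h : PSL₂)⁻¹) * h by group, this,
            show (h : PSL₂)⁻¹ * (g : PSL₂)⁻¹ * (g : PSL₂)⁻¹ * h =
              (h : PSL₂)⁻¹ * ((g : PSL₂)⁻¹ * (g : PSL₂)⁻¹) * h by group]
          have h3 := hinv _ (mul_mem (inv_mem hg) (inv_mem hg))
          rw [inv_eq_of_mul_eq_one_right h2] at h3 ⊢
          rw [h3]
          exact inv_mem (mul_mem (inv_mem hg) (inv_mem hg))
      · obtain ⟨g2, hginv⟩ := D.semi_flip ha hap (hm g) hg
        by_cases hh : (h : PSL₂) ∈ tor a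
        · have h3 := hginv _ hh
          rw [inv_eq_of_mul_eq_one_right g2] at h3
          rw [show ((g : PSL₂) * h)⁻¹ * ((h : PSL₂) * g) = (h : PSL₂)⁻¹ * ((g : PSL₂)⁻¹ * h * g) by group,
            inv_eq_of_mul_eq_one_right g2, h3]
          exact mul_mem (inv_mem hh) (inv_mem hh)
        · exact mul_mem (inv_mem (D.semi_mul ha hap (hm g) hg (hm h) hh)) (D.semi_mul ha hap (hm h) hh (hm g) hg)
  exact (Group.isSolvable_iff_subgroup_quotient _).mpr ⟨hT, hQ⟩

/-- In odd characteristic only exceptional and subfield maximal subgroups contain a copy of `A₄`. -/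
theorem alt4_cases (hodd : Odd (Fintype.card F)) (h5 : 5 ≤ Fintype.card F) {M : Subgroup PSL₂}
    (hM : IsCoatom M) (g : alternatingGroup (Fin 4) →* PSL₂) (hg : Function.Injective g) (hle : g.range ≤ M) :
    (Fintype.card F = p ∧ (p % 8 = 3 ∨ p % 8 = 5) ∧ ¬ (p % 10 = 1 ∨ p % 10 = 9) ∧ Nat.card M = 12) ∨
    (Fintype.card F = p ∧ (p % 8 = 1 ∨ p % 8 = 7) ∧ Nat.card M = 24) ∨
    ((Fintype.card F = p ∨ (Fintype.card F = p ^ 2 ∧ (p % 10 = 3 ∨ p % 10 = 7))) ∧
      (Fintype.card F % 10 = 1 ∨ Fintype.card F % 10 = 9) ∧ Nat.card M = 60) ∨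
    ∃ (L : Subfield F) (r : ℕ) (x : Matrix.ProjGenLinGroup (Fin 2) F), r.Prime ∧
      Nat.card L ^ r = Fintype.card F ∧ 3 ≤ Nat.card L ∧ M = sfOver L x := by
  have hp2 : p ≠ 2 := char_ne_two_of_odd_card hodd p
  cases coatom_cases p (by omega) hM with
  | torus a ha hap h => exact (alt4_not_le_normalizer p hp2 g hg ha (h ▸ hle)).elim
  | borel a ha hap h => exact (alt4_not_le_normalizer p hp2 g hg ha (h ▸ hle)).elim
  | alt4 hq h8 h10 iso =>
    refine Or.inl ⟨hq, h8, h10, ?_⟩
    rw [Nat.card_congr iso.some.toEquiv, nat_card_alternatingGroup, Nat.card_fin]; rfl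
  | perm4 hq h8 iso =>
    refine Or.inr (Or.inl ⟨hq, h8, ?_⟩)
    rw [Nat.card_congr iso.some.toEquiv, Nat.card_perm, Nat.card_fin]; rfl
  | alt5 hq h10 iso =>
    refine Or.inr (Or.inr (Or.inl ⟨hq, h10, ?_⟩))
    rw [Nat.card_congr iso.some.toEquiv, nat_card_alternatingGroup, Nat.card_fin]; rfl
  | subfield L r x hr hc h3 h => exact Or.inr (Or.inr (Or.inr ⟨L, r, x, hr, hc, h3, h⟩))

theorem pslSub_ne_top {K : Type*} [Field K] [Fintype K] (φ : K →+* F) (hlt : Fintype.card K < Fintype.card F) :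
    pslSub φ ≠ ⊤ := by
  intro h
  obtain ⟨i⟩ := nonempty_pslSub φ
  have hc : Nat.card PSL₂ = Nat.card (Matrix.ProjectiveSpecialLinearGroup (Fin 2) K) := by
    rw [← Subgroup.card_top (G := PSL₂), ← h, Nat.card_congr i.toEquiv]
  have hd : del K = del F := by
    obtain ⟨q, hq⟩ := CharP.exists F
    haveI : Fact q.Prime := ⟨CharP.char_is_prime F q⟩
    haveI : CharP K q := (RingHom.charP_iff φ φ.injective q).mpr hq
    rcases eq_or_ne q 2 with h2 | h2
    · subst h2
      rcases del_cases K with ⟨e, -⟩ | ⟨-, e⟩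
      · rcases del_cases F with ⟨e', -⟩ | ⟨-, e'⟩
        · rw [e, e']
        · exact absurd rfl (char_ne_two_of_odd_card e' 2)
      · exact absurd rfl (char_ne_two_of_odd_card e 2)
    · rcases del_cases K with ⟨-, e⟩ | ⟨e, -⟩
      · exact absurd (p_eq_two q e) h2
      · rcases del_cases F with ⟨-, e'⟩ | ⟨e', -⟩
        · exact absurd (p_eq_two q e') h2
        · rw [e, e']
  have h1 := card_psl (F := F)
  rw [hc, ← hd, card_psl] at h1
  have h2 : Fintype.card K * ((Fintype.card K - 1) * (Fintype.card K + 1)) <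
      Fintype.card F * ((Fintype.card F - 1) * (Fintype.card F + 1)) := by
    have hK : 1 < Fintype.card K := Fintype.one_lt_card
    refine Nat.mul_lt_mul_of_lt_of_lt hlt (Nat.mul_lt_mul_of_lt_of_lt (by omega) (by omega))
  omega

end Cfsg.Agent.Dickson
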