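import Mathlib
import Cfsg.Agent.Lib.Classical.DicksonOvergroups

/-!
When the normalisers of tori and the subfield subgroups of `PSL(2, F)` are maximal.
-/

set_option autoImplicit false

namespace Cfsg.Agent.Dickson

open Matrix Cfsg.Agent.Grp.SL2 Cfsg.Agent.PSL2Spec

theorem orders_perm_four : ∀ s : Equiv.Perm (Fin 4), s ^ 4 = 1 ∨ s ^ 3 = 1 := by decide +kernel

theorem orders_alt_five : ∀ s : alternatingGroup (Fin 5), s ^ 5 = 1 ∨ s ^ 3 = 1 ∨ s ^ 2 = 1 := by
  decide +kernel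

theorem orders_alt_four : ∀ s : alternatingGroup (Fin 4), s ^ 3 = 1 ∨ s ^ 2 = 1 := by decide +kernel

theorem no_inverter_alt_four :
    ∀ s t : alternatingGroup (Fin 4), s ^ 3 = 1 → s ≠ 1 → t * s * t⁻¹ ≠ s⁻¹ := by decide +kernel

variable {F : Type*} [Field F] [Fintype F] (p : ℕ) [hp : Fact p.Prime] [CharP F p]

local notation "PSL₂" => Matrix.ProjectiveSpecialLinearGroup (Fin 2) F

/-- A criterion for the normaliser of a torus to be maximal. -/
theorem torus_coatom (h4 : 4 ≤ Fintype.card F) {a : PSL₂} (ha : a ≠ 1) (hap : a ^ p ≠ 1)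
    (h3 : 3 ≤ Nat.card (tor a))
    (hperm : Fintype.card F = p → (p % 8 = 1 ∨ p % 8 = 7) → 4 < Nat.card (tor a))
    (halt : (Fintype.card F % 10 = 1 ∨ Fintype.card F % 10 = 9) → 5 < Nat.card (tor a))
    (hsub : ∀ k r : ℕ, r.Prime → 3 ≤ k → k ^ r = Fintype.card F → k + 1 < Nat.card (tor a)) :
    IsCoatom (Subgroup.normalizer (tor a : Set PSL₂)) := by
  classical
  set D := pslData (F := F) p
  refine isCoatom_of_forall (normalizer_semi_ne_top p (by omega) ha hap) fun M hM hle => ?_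
  obtain ⟨g, hg1, hgp, ho, ht⟩ := exists_generator p ha hap
  have hgT : g ∈ tor a := ht ▸ D.self g
  have hgM : g ∈ M := hle (Subgroup.le_normalizer hgT)
  obtain ⟨w, hw, hwn⟩ : ∃ w, w ∈ Subgroup.normalizer (tor a : Set PSL₂) ∧ w ∉ tor a := by
    by_contra hc
    push Not at hc
    have h1 := Subgroup.card_le_of_le (show Subgroup.normalizer (tor a : Set PSL₂) ≤ tor a from hc)
    rw [(normalizer_tor p ha hap).1] at h1
    omega
  have hinv : w * g * w⁻¹ = g⁻¹ := (D.semi_flip ha hap ((D.mem_normalizer_iff ha).mp hw) hwn).2 g hgT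
  have hwM : w ∈ M := hle hw
  have hbound : ∀ n : ℕ, 0 < n → g ^ n = 1 → Nat.card (tor a) ≤ n := fun n hn h =>
    ho ▸ Nat.le_of_dvd hn (orderOf_dvd_of_pow_eq_one h)
  cases coatom_cases p h4 hM with
  | torus b hb hbp h =>
    have hgb : g ∈ tor b := by
      by_contra hn
      have := (D.semi_flip hb hbp ((D.mem_normalizer_iff hb).mp (h ▸ hgM)) hn).1
      have := hbound 2 two_pos ((pow_two g).trans this)
      omega
    have : tor g = tor b := D.same hb hgb hg1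
    rw [h, ← this, ht]
  | borel b hb hbp h =>
    exfalso
    have hc : w * g * w⁻¹ * g⁻¹ ∈ tor b :=
      D.borel_comm hb hbp ((D.mem_normalizer_iff hb).mp (h ▸ hwM)) ((D.mem_normalizer_iff hb).mp (h ▸ hgM))
    rw [hinv] at hc
    have h1 : (g⁻¹ * g⁻¹) ^ p = 1 := D.uni_exp hb hbp hc
    have hne : g⁻¹ * g⁻¹ ≠ 1 := fun e => by
      have := hbound 2 two_pos (by rw [pow_two]; exact inv_eq_one.mp ((_root_.mul_inv_rev g g).trans e))
      omega
    exact D.semi_of_ne ha hap (mul_mem (inv_mem hgT) (inv_mem hgT)) hne h1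
  | alt4 hq h8 h10 iso =>
    exfalso
    obtain ⟨e⟩ := iso
    have hpw : ∀ n : ℕ, e ⟨g, hgM⟩ ^ n = 1 → g ^ n = 1 := fun n h => by
      have := congrArg (fun z : M => (z : PSL₂)) (e.injective (a₁ := (⟨g, hgM⟩ : M) ^ n) (a₂ := 1) (by rw [map_pow, h, map_one]))
      simpa using this
    rcases orders_alt_four (e ⟨g, hgM⟩) with h | h
    · refine no_inverter_alt_four (e ⟨g, hgM⟩) (e ⟨w, hwM⟩) h ?_ ?_
      · intro h1
        exact hg1 (congrArg Subtype.val (e.injective (h1.trans e.map_one.symm)))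
      · rw [← map_inv, ← map_inv, ← map_mul, ← map_mul]
        exact congrArg e (Subtype.ext (by simpa using hinv))
    · have := hbound 2 two_pos (hpw 2 h); omega
  | perm4 hq h8 iso =>
    exfalso
    obtain ⟨e⟩ := iso
    have hpw : ∀ n : ℕ, e ⟨g, hgM⟩ ^ n = 1 → g ^ n = 1 := fun n h => by
      have := congrArg (fun z : M => (z : PSL₂)) (e.injective (a₁ := (⟨g, hgM⟩ : M) ^ n) (a₂ := 1) (by rw [map_pow, h, map_one]))
      simpa using this
    have := hperm hq h8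
    rcases orders_perm_four (e ⟨g, hgM⟩) with h | h
    · have := hbound 4 (by omega) (hpw 4 h); omega
    · have := hbound 3 (by omega) (hpw 3 h); omega
  | alt5 hq h10 iso =>
    exfalso
    obtain ⟨e⟩ := iso
    have hpw : ∀ n : ℕ, e ⟨g, hgM⟩ ^ n = 1 → g ^ n = 1 := fun n h => by
      have := congrArg (fun z : M => (z : PSL₂)) (e.injective (a₁ := (⟨g, hgM⟩ : M) ^ n) (a₂ := 1) (by rw [map_pow, h, map_one]))
      simpa using this
    have := halt h10
    rcases orders_alt_five (e ⟨g, hgM⟩) with h | h | h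
    · have := hbound 5 (by omega) (hpw 5 h); omega
    · have := hbound 3 (by omega) (hpw 3 h); omega
    · have := hbound 2 two_pos (hpw 2 h); omega
  | subfield L r x hr hc h3' h =>
    exfalso
    have h1 := orderOf_le_sfOver L (h ▸ hgM)
    have h2 := hsub (Nat.card L) r hr h3' hc
    omega

/-- The order of a subgroup of subfield type determines the subfield. -/
theorem base_eq {k l r s : ℕ} {P : ℕ} (hP : P.Prime) (hk : k ^ r = Fintype.card F) (hl : l ^ s = Fintype.card F)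
    (hFP : P ∣ Fintype.card F) (hr : r.Prime) (hs : s.Prime)
    (hd : (k ^ 2 - 1) ∣ 2 * (l * (l ^ 2 - 1))) (hk3 : 3 ≤ k) : k = l := by
  obtain ⟨p', hp'⟩ := CharP.exists F
  obtain ⟨n, hpp, hn⟩ := FiniteField.card F p'
  have hPp : P = p' := (Nat.prime_dvd_prime_iff_eq hP hpp).mp (hP.dvd_of_dvd_pow (n := n) (hn ▸ hFP))
  subst hPp
  obtain ⟨a, -, ha⟩ := (Nat.dvd_prime_pow hP).mp (hn ▸ hk ▸ dvd_pow_self k hr.ne_zero)
  obtain ⟨b, -, hb⟩ := (Nat.dvd_prime_pow hP).mp (hn ▸ hl ▸ dvd_pow_self l hs.ne_zero)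
  subst ha hb
  have hab : a * r = b * s := Nat.pow_right_injective hP.two_le (by
    show P ^ (a * r) = P ^ (b * s)
    rw [pow_mul, pow_mul, hk, hl])
  have ha0 : a ≠ 0 := fun e => by rw [e, pow_zero] at hk3; omega
  have hco : Nat.Coprime ((P ^ a) ^ 2 - 1) (P ^ b) := by
    refine Nat.Coprime.pow_right b ?_
    rw [Nat.coprime_comm, hP.coprime_iff_not_dvd]
    intro h
    have h1 : P ∣ (P ^ a) ^ 2 := dvd_pow (dvd_pow_self P ha0) two_ne_zero
    have h2 := Nat.dvd_sub h1 h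
    rw [Nat.sub_sub_self (Nat.one_le_pow _ _ (pow_pos hP.pos a))] at h2
    exact hP.one_lt.ne' (Nat.dvd_one.mp h2)
  have hd' : (P ^ a) ^ 2 - 1 ∣ 2 * ((P ^ b) ^ 2 - 1) :=
    hco.dvd_of_dvd_mul_left (by rwa [mul_left_comm] at hd)
  rw [← pow_mul, ← pow_mul] at hd'
  have hg : Nat.gcd (P ^ (a * 2) - 1) (P ^ (b * 2) - 1) = P ^ (Nat.gcd (a * 2) (b * 2)) - 1 :=
    Nat.pow_sub_one_gcd_pow_sub_one P _ _
  rw [Nat.gcd_mul_right] at hg
  have h1 : P ^ (a * 2) - 1 ∣ 2 * (P ^ (Nat.gcd a b * 2) - 1) := by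
    rw [← hg, ← Nat.gcd_mul_left]
    exact Nat.dvd_gcd (Dvd.intro_left 2 rfl) hd'
  have hga : Nat.gcd a b = a := by
    by_contra hne
    have hle : Nat.gcd a b + 1 ≤ a :=
      lt_of_le_of_ne (Nat.gcd_le_left _ (Nat.pos_of_ne_zero ha0)) hne
    have h0 : 0 < P ^ (Nat.gcd a b * 2) - 1 := by
      refine Nat.sub_pos_of_lt (Nat.one_lt_pow ?_ hP.one_lt)
      have : Nat.gcd a b ≠ 0 := fun e => ha0 (Nat.gcd_eq_zero_iff.mp e).1
      omega
    have h2 := Nat.le_of_dvd (by omega) h1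
    have h3 : 4 * P ^ (Nat.gcd a b * 2) ≤ P ^ (a * 2) := by
      calc 4 * P ^ (Nat.gcd a b * 2) ≤ P ^ 2 * P ^ (Nat.gcd a b * 2) :=
            Nat.mul_le_mul_right _ (by have := Nat.pow_le_pow_left hP.two_le 2; simpa using this)
        _ = P ^ ((Nat.gcd a b + 1) * 2) := by rw [← pow_add]; ring_nf
        _ ≤ P ^ (a * 2) := Nat.pow_le_pow_right hP.pos (by omega)
    omega
  obtain ⟨m, rfl⟩ : a ∣ b := hga ▸ Nat.gcd_dvd_right a b
  rw [mul_assoc] at hab
  have hms := Nat.eq_of_mul_eq_mul_left (Nat.pos_of_ne_zero ha0) hab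
  rcases (Nat.dvd_prime hr).mp ⟨m, by rw [hms, mul_comm]⟩ with e | e
  · exact absurd e hs.ne_one
  · have : m = 1 := by
      rw [e] at hms
      exact Nat.eq_of_mul_eq_mul_right hr.pos (by rw [one_mul, ← hms])
    rw [this, mul_one]

end Cfsg.Agent.Dickson
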