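import Mathlib
import Cfsg.Agent.Lib.Classical.DicksonMain
import Cfsg.Agent.Lib.Classical.DicksonFacts
import Cfsg.Agent.Lib.Classical.DicksonTorusMax
import Cfsg.Agent.Lib.Classical.DicksonExceptional
import Cfsg.Agent.Lib.Classical.DicksonGenList

/-!
Dickson's theorem on two transvections generating `SL(2, F)`.
-/

set_option autoImplicit false

namespace Cfsg.Agent.Dickson.Gen

open Matrix Cfsg.Agent.Grp.SL2 Cfsg.Agent.PSL2Spec Cfsg.Agent.Dickson

variable {F : Type*} [Field F] [Fintype F]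

local notation "SL₂" => Matrix.SpecialLinearGroup (Fin 2) F
local notation "PSL₂" => Matrix.ProjectiveSpecialLinearGroup (Fin 2) F
local notation "M₂" => Matrix (Fin 2) (Fin 2) F

theorem card_le_of_pow_fixed {n : ℕ} (hn : 2 ≤ n) (h : ∀ x : F, x ^ n = x) : Fintype.card F ≤ n := by
  classical
  have hp := FiniteField.X_pow_card_sub_X_natDegree_eq F (show 1 < n by omega)
  have hne := FiniteField.X_pow_card_sub_X_ne_zero F (show 1 < n by omega)
  rw [← Finset.card_univ]
  have hr := Polynomial.card_roots' (Polynomial.X ^ n - Polynomial.X : Polynomial F)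
  rw [hp] at hr
  refine le_trans ?_ hr
  refine le_trans (Finset.card_le_card (t := (Polynomial.X ^ n - Polynomial.X : Polynomial F).roots.toFinset) fun x _ => ?_)
    (Multiset.toFinset_card_le _)
  rw [Multiset.mem_toFinset, Polynomial.mem_roots hne, Polynomial.IsRoot.def]
  simp [h x]

theorem fixed_of_generator [CharP F 3] {k : ℕ} {lam : F} (hgen : Subfield.closure ({lam} : Set F) = ⊤)
    (h : lam ^ 3 ^ k = lam) (x : F) : x ^ 3 ^ k = x := by
  haveI : Fact (Nat.Prime 3) := ⟨Nat.prime_three⟩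
  have hle : Subfield.closure ({lam} : Set F) ≤ (iterateFrobenius F 3 k).eqLocusField (RingHom.id F) := by
    rw [Subfield.closure_le, Set.singleton_subset_iff]
    show iterateFrobenius F 3 k lam = lam
    rw [iterateFrobenius_def, h]
  rw [hgen] at hle
  have := hle (Subfield.mem_top x)
  rw [← iterateFrobenius_def]
  exact this

theorem card_eq_three [CharP F 3] {lam : F} (hgen : Subfield.closure ({lam} : Set F) = ⊤)
    (h : lam * lam = 1) : Fintype.card F = 3 := by
  haveI : Fact (Nat.Prime 3) := ⟨Nat.prime_three⟩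
  have h1 := card_le_of_pow_fixed (F := F) (n := 3) (by norm_num)
    (fun x => by
      have := fixed_of_generator (k := 1) hgen (by linear_combination lam * h) x
      simpa using this)
  obtain ⟨n, -, hn⟩ := FiniteField.card F 3
  have : 3 ^ 1 ≤ 3 ^ (n : ℕ) := Nat.pow_le_pow_right (by norm_num) n.pos
  omega

theorem card_eq_nine [CharP F 3] {lam : F} (hgen : Subfield.closure ({lam} : Set F) = ⊤)
    (h : lam * lam = -1) : Fintype.card F = 9 := by
  haveI : Fact (Nat.Prime 3) := ⟨Nat.prime_three⟩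
  have h9 : lam ^ 9 = lam := by linear_combination (lam ^ 7 - lam ^ 5 + lam ^ 3 - lam) * h
  have h1 := card_le_of_pow_fixed (F := F) (n := 9) (by norm_num)
    (fun x => by simpa using fixed_of_generator (k := 2) hgen (by simpa using h9) x)
  have h3 : Fintype.card F ≠ 3 := by
    intro h3
    have hx := FiniteField.pow_card lam
    rw [h3] at hx
    have h2 : (2 : F) * lam = 0 := by linear_combination lam * h - hx
    rcases mul_eq_zero.mp h2 with e | e
    · haveI := CharP.cast_eq_zero_iff F 3 2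
      have : (3 : ℕ) ∣ 2 := (CharP.cast_eq_zero_iff F 3 2).mp (by exact_mod_cast e)
      omega
    · rw [e, mul_zero] at h; exact one_ne_zero (α := F) (by linear_combination h)
  obtain ⟨n, -, hn⟩ := FiniteField.card F 3
  have hn3 : (n : ℕ) ≤ 2 := by
    by_contra hc
    have : 3 ^ 3 ≤ 3 ^ (n : ℕ) := Nat.pow_le_pow_right (by norm_num) (by omega)
    omega
  have := n.pos
  interval_cases hk : (n : ℕ) <;> omega

theorem isScalar_of_comb {x : SL₂} {c d e : F} (hc : c ≠ 0)
    (h : c • (x : M₂) - d • 1 = e • 1) : IsScalar x := by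
  refine isScalar_of_coe (c := c⁻¹ * (d + e)) ?_
  rw [← smul_smul, add_smul, ← h, add_sub_cancel, inv_smul_smul₀ hc]

/-- The trace of an element of projective order dividing `2`, `3` or `5`. -/
theorem tr_rel {x : SL₂} (hx : ¬ IsScalar x)
    (h : proj x ^ 5 = 1 ∨ proj x ^ 3 = 1 ∨ proj x ^ 2 = 1) :
    (tr x ^ 4 - 3 * tr x ^ 2 + 1 = 0 ∧ proj x ^ 5 = 1) ∨ tr x ^ 2 = 1 ∨ tr x = 0 := by
  have key : ∀ n : ℕ, proj x ^ n = 1 → ∃ e : F, (x : M₂) ^ n = e • 1 := by
    intro n hn
    rw [← map_pow, proj_one_iff] at hn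
    rw [← Matrix.SpecialLinearGroup.coe_pow]
    rcases hn with e | e <;> rw [e]
    · exact ⟨1, by simp⟩
    · exact ⟨-1, by simp⟩
  have hc : (x : M₂) * x = tr x • (x : M₂) - 1 := cayley x
  rcases h with h | h | h
  · refine Or.inl ⟨?_, h⟩
    obtain ⟨e, he⟩ := key 5 h
    by_contra h0
    refine hx (isScalar_of_comb h0 (d := tr x ^ 3 - 2 * tr x) (e := e) ?_)
    rw [← he, show (x : M₂) ^ 5 = (x : M₂) * x * x * x * x by simp [pow_succ]]
    simp only [hc, sub_mul, smul_mul_assoc, one_mul, smul_sub, smul_smul]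
    module
  · refine Or.inr (Or.inl ?_)
    obtain ⟨e, he⟩ := key 3 h
    by_contra h0
    refine hx (isScalar_of_comb (sub_ne_zero.mpr h0) (d := tr x) (e := e) ?_)
    rw [← he, show (x : M₂) ^ 3 = (x : M₂) * x * x by simp [pow_succ]]
    simp only [hc, sub_mul, smul_mul_assoc, one_mul, smul_sub, smul_smul]
    module
  · refine Or.inr (Or.inr ?_)
    obtain ⟨e, he⟩ := key 2 h
    by_contra h0
    refine hx (isScalar_of_comb h0 (d := 1) (e := e) ?_)
    rw [← he, pow_two, hc, one_smul]

theorem tr_low_up (s : F) : tr (low 1 * up s : SL₂) = 2 + s := by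
  rw [← tr_eq_trace, Matrix.SpecialLinearGroup.coe_mul]
  simp [low, up, Matrix.trace_fin_two, Matrix.mul_apply, Fin.sum_univ_two]; ring

theorem low_up_not_scalar (s : F) : ¬ IsScalar (low 1 * up s : SL₂) := by
  intro h
  rcases h with e | e <;>
  · have h := congrArg (fun z : SL₂ => (z : M₂)) e
    simp only [Matrix.SpecialLinearGroup.coe_mul] at h
    simpa [low, up, Matrix.mul_apply, Fin.sum_univ_two] using congrFun (congrFun h 1) 0

theorem not_commute_up_low {lam : F} (hlam : lam ≠ 0) : ¬ Commute (up lam) (low 1 : SL₂) := by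
  intro h
  have h1 := congrArg (fun z : SL₂ => (z : M₂)) h.eq
  simp only [Matrix.SpecialLinearGroup.coe_mul] at h1
  have := congrFun (congrFun h1 0) 0
  simp [low, up, Matrix.mul_apply, Fin.sum_univ_two] at this
  exact hlam this

theorem tr_sq_mem {K : Subfield F} {P : GL (Fin 2) F} {g : SL₂}
    (h : toP g ∈ ((pglMap K.subtype).range).map (MulAut.conj (Matrix.ProjGenLinGroup.mk P)).toMonoidHom) :
    tr g ^ 2 ∈ K := by
  obtain ⟨_, ⟨k, rfl⟩, hk⟩ := h
  induction k using Matrix.ProjGenLinGroup.induction_on with | mk k => ?_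
  rw [MulEquiv.coe_toMonoidHom, MulAut.conj_apply, pglMap_mk, ← map_inv, ← map_mul, ← map_mul] at hk
  obtain ⟨u, hu⟩ := (Matrix.ProjGenLinGroup.mk_eq_mk_iff).mp hk
  have hu' : (u : F) • ((P : M₂) * (Matrix.GeneralLinearGroup.map K.subtype k : GL (Fin 2) F) * (P⁻¹ : GL (Fin 2) F)) =
      (g : M₂) := by
    have h := congrArg (fun z : GL (Fin 2) F => (z : M₂)) hu
    simpa [Matrix.GeneralLinearGroup.coe_scalar, ← Matrix.smul_one_eq_diagonal] using h
  have ht : tr g = (u : F) * ((k : Matrix (Fin 2) (Fin 2) K).trace : K) := by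
    rw [← tr_eq_trace, ← hu', Matrix.trace_smul, Matrix.trace_units_conj, smul_eq_mul]
    simp [Matrix.trace_fin_two]
  have hd : (1 : F) = (u : F) ^ 2 * ((k : Matrix (Fin 2) (Fin 2) K).det : K) := by
    rw [← g.2, ← hu', Matrix.det_smul, Matrix.det_units_conj, Fintype.card_fin]
    simp [Matrix.det_fin_two]
  have h0 : ((k : Matrix (Fin 2) (Fin 2) K).det : F) ≠ 0 := fun e => by
    rw [e, mul_zero] at hd; exact one_ne_zero hd
  have e : tr g ^ 2 = ((k : Matrix (Fin 2) (Fin 2) K).trace : F) ^ 2 / ((k : Matrix (Fin 2) (Fin 2) K).det : F) := by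
    rw [eq_div_iff h0, ht]
    linear_combination -(((k : Matrix (Fin 2) (Fin 2) K).trace : F) ^ 2) * hd
  rw [e]
  exact K.div_mem (pow_mem (SetLike.coe_mem _) 2) (SetLike.coe_mem _)

/-- The entries of an element of the exceptional group, read in `F`. -/
def ev [CharP F 3] (lam : F) (v : GenNine.Vec9) : M₂ :=
  let e : ZMod 3 × ZMod 3 → F := fun x => ZMod.castHom (dvd_refl 3) F x.1 + ZMod.castHom (dvd_refl 3) F x.2 * lam
  !![e v.1, e v.2.1; e v.2.2.1, e v.2.2.2]

theorem card_gen_le [CharP F 3] {lam : F} (hi : lam * lam = -1) :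
    Nat.card (Subgroup.closure ({low 1, up lam} : Set SL₂)) ≤ 120 := by
  classical
  set cF := ZMod.castHom (dvd_refl 3) F
  have hL : ∀ v, ev lam v * (low 1 : SL₂) = ev lam (GenNine.mulL v) := by
    rintro ⟨a, b, c, d⟩
    ext i j
    fin_cases i <;> fin_cases j <;>
      simp [ev, GenNine.mulL, low, Matrix.mul_apply, Fin.sum_univ_two, map_add] <;> ring
  have hU : ∀ v, ev lam v * (up lam : SL₂) = ev lam (GenNine.mulU v) := by
    rintro ⟨a, b, c, d⟩
    ext i j
    fin_cases i <;> fin_cases j <;>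
      simp [ev, GenNine.mulU, GenNine.mulLam, up, Matrix.mul_apply, Fin.sum_univ_two, map_add, map_neg]
    · linear_combination (a.2.cast : F) * hi
    · linear_combination (c.2.cast : F) * hi
  let T : Set SL₂ := {g | ∃ i : Fin 120, (g : M₂) = ev lam (GenNine.elt i)}
  have h1 : (1 : SL₂) ∈ T := ⟨0, by
    rw [show GenNine.elt 0 = ((1, 0), (0, 0), (0, 0), (1, 0)) from rfl, Matrix.SpecialLinearGroup.coe_one]
    ext i j
    fin_cases i <;> fin_cases j <;> simp [ev]⟩
  have hT : ∀ g ∈ T, ∀ x ∈ ({low 1, up lam} : Set SL₂), g * x ∈ T := by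
    rintro g ⟨i, hi'⟩ x (rfl | rfl)
    · exact ⟨_, by rw [Matrix.SpecialLinearGroup.coe_mul, hi', hL, GenNine.mulL_elt]⟩
    · exact ⟨_, by rw [Matrix.SpecialLinearGroup.coe_mul, hi', hU, GenNine.mulU_elt]⟩
  have hsub : ∀ g ∈ Subgroup.closure ({low 1, up lam} : Set SL₂), g ∈ T := by
    intro g hg
    induction hg using Subgroup.closure_induction_right with
    | one => exact h1
    | mul_right x hx y hy ih => exact hT x ih y hy
    | mul_inv_cancel x hx y hy ih =>
      have h3 : (3 : F) = 0 := by exact_mod_cast (CharP.cast_eq_zero F 3)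
      have hy3 : y ^ 3 = 1 := by
        rcases hy with rfl | rfl
        · rw [low_pow, Nat.cast_ofNat, h3, zero_mul, low_zero]
        · rw [up_pow, Nat.cast_ofNat, h3, zero_mul, up_zero]
      rw [inv_eq_of_mul_eq_one_right (show y * (y * y) = 1 by rw [← mul_assoc, ← pow_two, ← pow_succ, hy3]),
        ← mul_assoc]
      exact hT _ (hT x ih y hy) y hy
  let f : Subgroup.closure ({low 1, up lam} : Set SL₂) → Fin 120 := fun g => (hsub g.1 g.2).choose
  have hf : Function.Injective f := fun g h e => Subtype.ext (Subtype.ext (by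
    rw [(hsub g.1 g.2).choose_spec, (hsub h.1 h.2).choose_spec]; exact congrArg _ (congrArg _ e)))
  simpa using Nat.card_le_card_of_injective f hf

theorem classify {p : ℕ} [hp : Fact p.Prime] [CharP F p] (h2 : (2 : F) ≠ 0) {lam : F} (hlam : lam ≠ 0)
    (hgen : Subfield.closure ({lam} : Set F) = ⊤) :
    (Subgroup.closure ({low 1, up lam} : Set SL₂)).map proj = ⊤ ∨
      (p = 3 ∧ lam * lam = -1 ∧ Nat.card ((Subgroup.closure ({low 1, up lam} : Set SL₂)).map proj) = 60) := by
  classical
  set G := Subgroup.closure ({low 1, up lam} : Set SL₂) with hG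
  set H := G.map proj with hH
  have hp2 : p ≠ 2 := fun e => h2 (by subst e; exact_mod_cast CharP.cast_eq_zero F 2)
  have hla : low (1 : F) ∈ G := Subgroup.subset_closure (Set.mem_insert _ _)
  have hub : up lam ∈ G := Subgroup.subset_closure (Set.mem_insert_of_mem _ rfl)
  have hub' : up (-lam) ∈ G := by
    rw [show up (-lam) = (up lam)⁻¹ from eq_inv_of_mul_eq_one_left (by rw [up_mul, neg_add_cancel, up_zero])]
    exact G.inv_mem hub
  set a := proj (low (1 : F)) with ha
  set b := proj (up lam) with hb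
  have haH : a ∈ H := Subgroup.mem_map_of_mem _ hla
  have hbH : b ∈ H := Subgroup.mem_map_of_mem _ hub
  have hap : a ^ p = 1 := by rw [ha, ← map_pow, low_pow, CharP.cast_eq_zero, zero_mul, low_zero, map_one]
  have hbp : b ^ p = 1 := by rw [hb, ← map_pow, up_pow, CharP.cast_eq_zero, zero_mul, up_zero, map_one]
  have ha1 : a ≠ 1 := fun e => by
    rcases proj_one_iff.mp e with e | e <;>
      simpa [low] using congrArg (fun z : SL₂ => (z : M₂) 1 0) e
  have hoa : orderOf a = p := orderOf_eq_prime hap ha1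
  have hpH : p ∣ Nat.card H := hoa ▸ Subgroup.orderOf_dvd_natCard _ haH
  have hnc : ¬ b ∈ tor a := fun h => not_commute_up_low hlam (mem_tor_iff.mp h)
  have hsmall : ∀ (hs : ∀ x ∈ H, x ^ 5 = 1 ∨ x ^ 3 = 1 ∨ x ^ 2 = 1), p = 3 →
      lam * lam = 1 ∨ (lam * lam = -1 ∧ ¬ ∀ x ∈ H, x ^ 5 = 1 → x = 1) := by
    intro hs hp3
    subst hp3
    have h3 : (3 : F) = 0 := by exact_mod_cast CharP.cast_eq_zero F 3
    have hm1 : low 1 * up lam ∈ G := G.mul_mem hla hub
    have hm2 : low 1 * up (-lam) ∈ G := G.mul_mem hla hub'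
    have r1 := tr_rel (low_up_not_scalar lam) (hs _ (Subgroup.mem_map_of_mem _ hm1))
    have r2 := tr_rel (low_up_not_scalar (-lam)) (hs _ (Subgroup.mem_map_of_mem _ hm2))
    rw [tr_low_up] at r1 r2
    have hq : ∀ μ : F, μ ≠ 0 → ((2 + μ) ^ 2 = 1 ∨ 2 + μ = 0) → μ * μ = 1 := by
      rintro μ hμ (q | q)
      · have e : μ * (μ + 1) = 0 := by linear_combination q - (μ + 1) * h3
        linear_combination (μ - 1) * (mul_eq_zero.mp e).resolve_left hμ
      · linear_combination (μ - 2) * q + h3
    rcases r1 with ⟨q1, hx⟩ | q1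
    · rcases r2 with ⟨q2, -⟩ | q2
      · right
        have e : (2 : F) * 2 * 2 * lam * (2 * (lam * lam + 1)) = 0 := by
          linear_combination q1 - q2 - 8 * lam * h3
        have e' := mul_eq_zero.mp e
        simp [h2, hlam] at e'
        refine ⟨by linear_combination e', fun h => low_up_not_scalar lam (proj_one_iff.mp (h _ (Subgroup.mem_map_of_mem _ hm1) hx))⟩
      · left
        have := hq (-lam) (neg_ne_zero.mpr hlam) (q2.imp id id)
        linear_combination this
    · left
      exact hq lam hlam (q1.imp id id)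
  set D := pslData (F := F) p
  rcases dickson p H with h | ⟨c, hc, hc1, hcp, h⟩ | ⟨c, hc, hc1, hcp, hidx, h, iso⟩ | ⟨c, hc, hc1, hcp, h⟩ |
    ⟨hc, iso, hpc⟩ | ⟨hc, iso, hpc⟩ | ⟨hc, iso, hpc⟩ | ⟨K, P, hK3, h⟩
  · exact absurd (Subgroup.mem_bot.mp (h ▸ haH)) ha1
  · exact absurd hap (D.semi_of_ne hc1 hcp (h haH) ha1)
  · exfalso
    have h1 : p ∣ Nat.card (Subgroup.normalizer (tor c : Set PSL₂)) := hpH.trans (Subgroup.card_dvd_of_le h)
    rw [(normalizer_tor p hc1 hcp).1] at h1
    rcases hp.out.dvd_mul.mp h1 with h1 | h1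
    · exact hp2 ((Nat.prime_dvd_prime_iff_eq hp.out Nat.prime_two).mp h1)
    · exact D.not_dvd_card hp.out hc1 hcp h1
  · exfalso
    set N := Subgroup.normalizer (tor c : Set PSL₂) with hN
    have h1 := Subgroup.card_mul_index ((tor c).subgroupOf N)
    rw [Nat.card_congr (Subgroup.subgroupOfEquivOfLe Subgroup.le_normalizer).toEquiv, card_tor_uni p hc1 hcp] at h1
    have h2' := card_borel p hc1 hcp
    rw [← hN, ← h1, mul_assoc] at h2'
    have hidx := Nat.eq_of_mul_eq_mul_left Fintype.card_pos h2'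
    haveI : ((tor c).subgroupOf N).Normal := Subgroup.normal_in_normalizer
    have hin : ∀ z ∈ H, z ^ p = 1 → z ≠ 1 → z ∈ tor c := by
      intro z hz hzp hz1
      have hz' : z ^ ((tor c).subgroupOf N).index ∈ tor c :=
        Subgroup.pow_index_mem ((tor c).subgroupOf N) (⟨z, h hz⟩ : N)
      have hcop : Nat.Coprime ((tor c).subgroupOf N).index (orderOf z) := by
        rw [orderOf_eq_prime hzp hz1, Nat.coprime_comm, hp.out.coprime_iff_not_dvd]
        intro hd
        obtain ⟨n, -, hn⟩ := FiniteField.card F p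
        have h3 : p ∣ Fintype.card F := by rw [hn]; exact dvd_pow_self p n.pos.ne'
        have h4 : p ∣ Fintype.card F - 1 := by rw [← hidx]; exact Dvd.dvd.mul_right hd _
        have := Fintype.one_lt_card (α := F)
        have h5 := Nat.dvd_sub h3 h4
        rw [show Fintype.card F - (Fintype.card F - 1) = 1 by omega] at h5
        exact hp.out.one_lt.ne' (Nat.dvd_one.mp h5)
      obtain ⟨m, hm⟩ := exists_pow_eq_self_of_coprime hcop
      rw [← hm]; exact pow_mem hz' m
    have hT := D.same hc1 (hin a haH hap ha1) ha1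
    refine hnc ?_
    show b ∈ D.T a
    rw [hT]
    refine hin b hbH hbp fun e => ?_
    rcases proj_one_iff.mp e with e | e <;>
      have e' := congrArg (fun z : SL₂ => (z : M₂) 0 1) e <;> simp [up, hlam] at e'
  · have hp3 : p = 3 := hpc.resolve_left (not_not_intro hpH)
    obtain ⟨i⟩ := iso
    rcases hsmall (fun x hx => Or.inr ((orders_alt_four (i ⟨x, hx⟩)).imp
      (fun e => congrArg Subtype.val (i.injective (by rw [map_pow, e, map_one] : i (⟨x, hx⟩ ^ 3) = i 1)))
      (fun e => congrArg Subtype.val (i.injective (by rw [map_pow, e, map_one] : i (⟨x, hx⟩ ^ 2) = i 1))))) hp3 with e | ⟨-, e⟩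
    · left
      subst hp3
      refine Subgroup.eq_top_of_card_eq _ ?_
      have hcp' := card_psl (F := F)
      rw [card_eq_three hgen e] at hcp'
      rw [hc]
      rcases del_cases F with ⟨hd, hev⟩ | ⟨hd, -⟩
      · rw [card_eq_three hgen e] at hev; exact absurd hev (by decide)
      · rw [hd] at hcp'; omega
    · refine absurd (fun x hx hx5 => ?_) e
      by_contra hx1
      haveI : Fact (Nat.Prime 5) := ⟨by norm_num⟩
      have := Subgroup.orderOf_dvd_natCard H hx
      rw [orderOf_eq_prime hx5 hx1, hc] at this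
      omega
  · exact absurd hpH hpc
  · have hp3 : p = 3 := hpc.resolve_left (not_not_intro hpH)
    obtain ⟨i⟩ := iso
    rcases hsmall (fun x hx => (orders_alt_five (i ⟨x, hx⟩)).imp
      (fun e => congrArg Subtype.val (i.injective (by rw [map_pow, e, map_one] : i (⟨x, hx⟩ ^ 5) = i 1)))
      (fun e => e.imp
      (fun e => congrArg Subtype.val (i.injective (by rw [map_pow, e, map_one] : i (⟨x, hx⟩ ^ 3) = i 1)))
      (fun e => congrArg Subtype.val (i.injective (by rw [map_pow, e, map_one] : i (⟨x, hx⟩ ^ 2) = i 1))))) hp3 with e | ⟨e, -⟩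
    · exfalso
      subst hp3
      have h1 := Subgroup.card_le_card_group H
      have hcp' := card_psl (F := F)
      rw [card_eq_three hgen e] at hcp'
      rcases del_cases F with ⟨hd, -⟩ | ⟨hd, -⟩ <;> rw [hd] at hcp' <;> omega
    · exact Or.inr ⟨hp3, e, hc⟩
  · left
    haveI := finite_pgl (F := F)
    set c := Matrix.ProjGenLinGroup.mk P
    have hle : H.map Matrix.ProjectiveSpecialLinearGroup.toPGL ≤
        ((pglMap K.subtype).range).map (MulAut.conj c).toMonoidHom := by
      rcases h with h | h <;> rw [h]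
      exact Subgroup.map_mono (pslImg_le _)
    have hge : ((pslImg K.subtype).map (MulAut.conj c).toMonoidHom) ≤
        H.map Matrix.ProjectiveSpecialLinearGroup.toPGL := by
      rcases h with h | h <;> rw [h]
      exact Subgroup.map_mono (pslImg_le _)
    have hK : ∀ g ∈ G, tr g ^ 2 ∈ K := fun g hg =>
      tr_sq_mem (hle (Subgroup.mem_map_of_mem _ (Subgroup.mem_map_of_mem _ hg)))
    have h8 : (2 : F) * 2 * 2 * lam ∈ K := by
      have := K.sub_mem (hK _ (G.mul_mem hla hub)) (hK _ (G.mul_mem hla hub'))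
      rw [tr_low_up, tr_low_up] at this
      convert this using 1; ring
    have h2K : (2 : F) ∈ K := by rw [← one_add_one_eq_two]; exact K.add_mem K.one_mem K.one_mem
    have hlamK : lam ∈ K := by
      have := K.div_mem h8 (K.mul_mem (K.mul_mem h2K h2K) h2K)
      rwa [mul_div_cancel_left₀] at this
      exact mul_ne_zero (mul_ne_zero h2 h2) h2
    have htop : K = ⊤ := top_unique (hgen ▸ Subfield.closure_le.mpr (Set.singleton_subset_iff.mpr hlamK))
    subst htop
    obtain ⟨j⟩ := nonempty_pslImg (Subfield.subtype (⊤ : Subfield F))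
    obtain ⟨k⟩ := nonempty_psl_congr (Subfield.topEquiv : (⊤ : Subfield F) ≃+* F)
    refine Subgroup.eq_top_of_le_card _ ?_
    calc Nat.card PSL₂ = Nat.card (pslImg (Subfield.subtype (⊤ : Subfield F))) := (Nat.card_congr (j.trans k).toEquiv).symm
      _ = Nat.card ((pslImg (Subfield.subtype (⊤ : Subfield F))).map (MulAut.conj c).toMonoidHom) :=
        (Subgroup.card_map_of_injective (MulAut.conj c).injective).symm
      _ ≤ Nat.card (H.map Matrix.ProjectiveSpecialLinearGroup.toPGL) := Nat.card_le_card_of_injective _ (Subgroup.inclusion_injective hge)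
      _ = Nat.card H := Subgroup.card_map_of_injective Matrix.ProjectiveSpecialLinearGroup.toPGL_injective

theorem even_card_psl (h2 : (2 : F) ≠ 0) : 2 ∣ Nat.card PSL₂ := by
  have h := card_psl (F := F)
  have hq := Fintype.one_lt_card (α := F)
  rcases del_cases F with ⟨hd, hev⟩ | ⟨hd, hodd⟩ <;> rw [hd] at h
  · rw [mul_one] at h; rw [h]; exact Dvd.dvd.mul_right (even_iff_two_dvd.mp hev) _
  · obtain ⟨m, hm⟩ := hodd
    rw [hm, show 2 * m + 1 - 1 = 2 * m by omega, show 2 * m + 1 + 1 = 2 * (m + 1) by omega] at h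
    exact ⟨(2 * m + 1) * (m * (m + 1)), mul_right_cancel₀ (two_ne_zero (α := ℕ)) (h.trans (by ring))⟩

theorem neg_one_mem (h2 : (2 : F) ≠ 0) {G : Subgroup SL₂} (h : 2 ∣ Nat.card (G.map proj)) : -1 ∈ G := by
  haveI : Fact (Nat.Prime 2) := ⟨Nat.prime_two⟩
  obtain ⟨g, hg⟩ := exists_prime_orderOf_dvd_card' (G := G) 2 (h.trans (Subgroup.card_map_dvd G proj))
  have hg' : orderOf (g : SL₂) = 2 := by rw [Subgroup.orderOf_coe, hg]
  have hsq : (g : SL₂) * g = 1 := by
    have h := pow_orderOf_eq_one (g : SL₂)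
    rwa [hg', pow_two] at h
  rcases mul_self_eq_one h2 hsq with e | e
  · rw [e, orderOf_one] at hg'; omega
  · rw [← e]; exact g.2

end Cfsg.Agent.Dickson.Gen
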