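import Mathlib
import Cfsg.Agent.Lib.Classical.DicksonMaxFacts

/-!
The small fields in which the normaliser of a torus of `PSL(2, F)` is not maximal.
-/

set_option autoImplicit false

namespace Cfsg.Agent.Dickson

open Matrix Cfsg.Agent.PSL2Spec

variable {F : Type*} [Field F] [Fintype F] (p : ℕ) [hp : Fact p.Prime] [CharP F p]

local notation "PSL₂" => Matrix.ProjectiveSpecialLinearGroup (Fin 2) F

theorem card_psl_odd (hodd : Odd (Fintype.card F)) :
    Nat.card PSL₂ * 2 = Fintype.card F * ((Fintype.card F - 1) * (Fintype.card F + 1)) := by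
  rw [← card_psl]
  rcases del_cases F with ⟨-, he⟩ | ⟨hd, -⟩
  · exact absurd he (Nat.not_even_iff_odd.mpr hodd)
  · rw [hd]

/-- The small exceptions. -/
theorem small_torus (hodd : Odd (Fintype.card F)) (h5 : 5 ≤ Fintype.card F) {a : PSL₂} (ha : a ≠ 1)
    (hap : a ^ p ≠ 1) (hM : IsCoatom (Subgroup.normalizer (tor a : Set PSL₂))) :
    (Nat.card (tor a) * 2 + 1 = Fintype.card F → 13 ≤ Fintype.card F) ∧
    (Nat.card (tor a) * 2 = Fintype.card F + 1 → Fintype.card F ≠ 7 ∧ Fintype.card F ≠ 9) := by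
  classical
  have hG := card_psl_odd hodd
  have hN := (normalizer_tor p ha hap).1
  obtain ⟨x, y, hxy⟩ := exists_quat (F := F) hodd
  set K := Subgroup.normalizer (hxy.klein : Set PSL₂) with hK
  have hKt : K ≠ ⊤ := klein_le_proper hodd h5 hxy
  obtain ⟨h24, h12⟩ := card_normalizer_klein p hodd hxy
  haveI : Fact (Nat.Prime 2) := ⟨Nat.prime_two⟩
  haveI : Fact (Nat.Prime 3) := ⟨Nat.prime_three⟩
  haveI : Fact (Nat.Prime 5) := ⟨by norm_num⟩
  -- orders eight and four: two-groups
  have two : ∀ a' : ℕ, Nat.card (Subgroup.normalizer (tor a : Set PSL₂)) = 2 ^ a' →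
      ¬ 2 ^ (a' + 1) ∣ Nat.card PSL₂ → 2 ^ a' ∣ Nat.card K →
      Nat.card (Subgroup.normalizer (tor a : Set PSL₂)) < Nat.card K → False := fun a' h1 h2 h3 h4 =>
    not_coatom_of_sylow h1 h2 hKt h3 h4 hM
  -- order six
  have three : Nat.card (tor a) = 3 → ¬ 3 ^ 2 ∣ Nat.card PSL₂ → Nat.card K = 24 → False := by
    intro h1 h2 hK24
    obtain ⟨t, A, -, -, -, -, -, -, hS⟩ := exists_alt4 hodd hxy
    obtain ⟨i⟩ := hS hK24
    refine not_coatom_normalizer (H := K) (s := i.symm Exc.bS) (t := i.symm (Equiv.swap 1 2))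
      h1 (by rw [hN, h1]) h2 hKt (by rw [hK24]; norm_num) ?_ ?_ ?_ hM
    · rw [MulEquiv.orderOf_eq]; exact Exc.perm4_data.2.2.1
    · intro hmem
      obtain ⟨k, hk⟩ := Subgroup.mem_zpowers_iff.mp hmem
      rw [← map_zpow] at hk
      have hk' := i.symm.injective hk
      have h3 := congrArg Equiv.Perm.sign hk'
      rw [map_zpow, show Equiv.Perm.sign Exc.bS = 1 by decide, _root_.one_zpow,
        show Equiv.Perm.sign (Equiv.swap (1 : Fin 4) 2) = -1 by decide] at h3
      exact absurd h3 (by decide)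
    · rw [← map_inv, ← map_inv, ← map_mul, ← map_mul]
      exact congrArg i.symm (by decide)
  -- order ten
  have five : Nat.card (tor a) = 5 → ¬ 5 ^ 2 ∣ Nat.card PSL₂ → 60 < Nat.card PSL₂ → False := by
    intro h1 h2 hbig
    obtain ⟨H, ⟨i⟩⟩ := Ico.exists_alt5_iff.mpr (h1 ▸ Subgroup.card_subgroup_dvd_card (tor a))
    have hH : Nat.card H = 60 := by rw [Nat.card_congr i.toEquiv, nat_card_alternatingGroup, Nat.card_fin]; rfl
    obtain ⟨t, htt⟩ : ∃ t : alternatingGroup (Fin 5), t * (Ico.sA * Ico.sB) * t⁻¹ = (Ico.sA * Ico.sB)⁻¹ := by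
      decide +kernel
    refine not_coatom_normalizer (H := H) (s := i.symm (Ico.sA * Ico.sB)) (t := i.symm t)
      h1 (by rw [hN, h1]) h2 (fun e => by rw [e, Subgroup.card_top] at hH; omega) (by rw [hH]; norm_num) ?_ ?_ ?_ hM
    · rw [MulEquiv.orderOf_eq]; exact Exc.alt5_data.2.2.2
    · intro hmem
      obtain ⟨k, hk⟩ := Subgroup.mem_zpowers_iff.mp hmem
      rw [← map_zpow] at hk
      rw [← i.symm.injective hk] at htt
      rw [((Commute.refl (Ico.sA * Ico.sB)).zpow_left k).eq, mul_inv_cancel_right] at htt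
      exact absurd htt (by decide)
    · rw [← map_inv, ← map_inv, ← map_mul, ← map_mul]
      exact congrArg i.symm htt
  refine ⟨fun h => ?_, fun h => ⟨fun h7 => ?_, fun h9 => ?_⟩⟩
  · by_contra hlt
    have hq : Fintype.card F = 5 ∨ Fintype.card F = 7 ∨ Fintype.card F = 9 ∨ Fintype.card F = 11 := by
      obtain ⟨m, hm⟩ := hodd; omega
    rcases hq with hq | hq | hq | hq <;> rw [hq] at h hG h24 h12 <;> norm_num [-Nat.card_eq_fintype_card] at h hG
    · refine two 2 (by rw [hN]; omega) (by rw [show Nat.card PSL₂ = 60 by omega]; norm_num) ?_ ?_ <;>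
        rw [h12 (by norm_num)] <;> first | (norm_num [-Nat.card_eq_fintype_card]; done) | (rw [hN]; omega)
    · exact three (by omega) (by rw [show Nat.card PSL₂ = 168 by omega]; norm_num) (h24 (by norm_num))
    · refine two 3 (by rw [hN]; omega) (by rw [show Nat.card PSL₂ = 360 by omega]; norm_num) ?_ ?_ <;>
        rw [h24 (by norm_num)] <;> first | (norm_num [-Nat.card_eq_fintype_card]; done) | (rw [hN]; omega)
    · exact five (by omega) (by rw [show Nat.card PSL₂ = 660 by omega]; norm_num) (by omega)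
  · rw [h7] at h hG h24 h12
    norm_num [-Nat.card_eq_fintype_card] at h hG
    refine two 3 (by rw [hN]; omega) (by rw [show Nat.card PSL₂ = 168 by omega]; norm_num) ?_ ?_ <;>
      rw [h24 (by norm_num)] <;> first | (norm_num [-Nat.card_eq_fintype_card]; done) | (rw [hN]; omega)
  · rw [h9] at h hG
    norm_num [-Nat.card_eq_fintype_card] at h hG
    exact five (by omega) (by rw [show Nat.card PSL₂ = 360 by omega]; norm_num) (by omega)

end Cfsg.Agent.Dickson
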