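import Mathlib
import Cfsg.Agent.Lib.Classical.DicksonTorusMax

/-!
`PGL(2, F)` over its subgroup `PSL(2, F)`: conjugation, stabilisers in maximal subgroups, and the embedding
into `PSL(2, E)` for a quadratic extension `E`.
-/

set_option autoImplicit false

namespace Cfsg.Agent.Dickson.PGLMax

open Matrix Cfsg.Agent.Grp.SL2 Cfsg.Agent.PSL2Spec

variable {F : Type*} [Field F] [Fintype F]

local notation "PSL₂" => Matrix.ProjectiveSpecialLinearGroup (Fin 2) F
local notation "PGL₂" => Matrix.ProjGenLinGroup (Fin 2) F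
local notation "ι" => Matrix.ProjectiveSpecialLinearGroup.toPGL (n := Fin 2) (R := F)
local notation "cj" => Cfsg.Agent.Grp.SL2.conjHom

theorem toPGL_range_eq :
    (Matrix.ProjGenLinGroup.mk.comp Matrix.SpecialLinearGroup.toGL).range = (ι).range := by
  ext g
  constructor
  · rintro ⟨z, rfl⟩; exact ⟨proj z, rfl⟩
  · rintro ⟨x, rfl⟩
    obtain ⟨z, rfl⟩ := proj_surjective x
    exact ⟨z, rfl⟩

/-- Conjugation by `PGL(2, F)` stays inside `PSL(2, F)`. -/
theorem exists_conj (g : PGL₂) (a : PSL₂) : ∃ a', ι a' = g * ι a * g⁻¹ :=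
  normal_range_toPGL.conj_mem _ ⟨a, rfl⟩ g

/-- Conjugation maps tori to tori. -/
theorem conj_tor {g : PGL₂} {a b a' b' : PSL₂} (ha : ι a' = g * ι a * g⁻¹) (hb : ι b' = g * ι b * g⁻¹)
    (h : b ∈ tor a) : b' ∈ tor a' := by
  induction g using Matrix.ProjGenLinGroup.induction_on with | mk P => ?_
  obtain ⟨x, rfl⟩ := proj_surjective a
  obtain ⟨y, rfl⟩ := proj_surjective b
  have hP : IsUnit (P : Matrix (Fin 2) (Fin 2) F).det := isUnit_iff_ne_zero.mpr P.det_ne_zero
  have key : ∀ (z : Matrix.SpecialLinearGroup (Fin 2) F) (c : PSL₂),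
      ι c = Matrix.ProjGenLinGroup.mk P * ι (proj z) * (Matrix.ProjGenLinGroup.mk P)⁻¹ →
      c = proj (cj (P : Matrix (Fin 2) (Fin 2) F) hP z) := by
    intro z c hc
    refine Matrix.ProjectiveSpecialLinearGroup.toPGL_injective ?_
    rw [hc, toPGL_proj, toPGL_proj, toP_conjHom]
  rw [key x a' ha, key y b' hb, mem_tor_iff]
  exact (mem_tor_iff.mp h).map _

theorem conj_eq_one_iff' {g : PGL₂} {a a' : PSL₂} (ha : ι a' = g * ι a * g⁻¹) : a' = 1 ↔ a = 1 := by
  rw [← map_eq_one_iff ι Matrix.ProjectiveSpecialLinearGroup.toPGL_injective, ha, conj_eq_one_iff,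
    map_eq_one_iff ι Matrix.ProjectiveSpecialLinearGroup.toPGL_injective]

theorem conj_pow' {g : PGL₂} {a a' : PSL₂} (ha : ι a' = g * ι a * g⁻¹) (n : ℕ) :
    ι (a' ^ n) = g * ι (a ^ n) * g⁻¹ := by
  rw [map_pow, map_pow, ha, _root_.conj_pow]

section Index

variable (hodd : Odd (Fintype.card F))
include hodd

theorem card_psl_two : Nat.card PSL₂ * 2 = Fintype.card F * ((Fintype.card F - 1) * (Fintype.card F + 1)) := by
  rw [← card_psl]
  rcases del_cases F with ⟨-, he⟩ | ⟨hd, -⟩
  · exact absurd he (Nat.not_even_iff_odd.mpr hodd)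
  · rw [hd]

theorem index_range : (ι).range.index = 2 := by
  haveI := finite_pgl (F := F)
  have h := Subgroup.card_mul_index (ι).range
  rw [card_pgl, ← card_psl_two hodd,
    ← Nat.card_congr (MonoidHom.ofInjective Matrix.ProjectiveSpecialLinearGroup.toPGL_injective).toEquiv] at h
  exact Nat.eq_of_mul_eq_mul_left Nat.card_pos h

/-- A subgroup outside `PSL(2, F)` has twice the order of its part inside. -/
theorem card_eq_two_mul {M : Subgroup PGL₂} (hML : ¬ M ≤ (ι).range) :
    Nat.card M = 2 * Nat.card (M.comap ι) := by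
  haveI := finite_pgl (F := F)
  haveI := normal_range_toPGL (F := F)
  have h2 : (ι).range.relIndex M = 2 := by
    have hd := Subgroup.relIndex_dvd_index_of_normal (ι).range M
    rw [index_range hodd] at hd
    exact ((Nat.dvd_prime Nat.prime_two).mp hd).resolve_left fun e => hML (Subgroup.relIndex_eq_one.mp e)
  have h := Subgroup.card_mul_index ((ι).range.subgroupOf M)
  have he : Nat.card ((ι).range.subgroupOf M) = Nat.card (M.comap ι) := by
    rw [← Subgroup.card_map_of_injective (Matrix.ProjectiveSpecialLinearGroup.toPGL_injective (n := Fin 2) (R := F))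
      (K := M.comap ι), Subgroup.map_comap_eq,
      ← Subgroup.card_map_of_injective M.subtype_injective (K := (ι).range.subgroupOf M),
      Subgroup.subgroupOf_map_subtype]
  rw [he, show ((ι).range.subgroupOf M).index = 2 from h2] at h
  omega

end Index

/-- A maximal subgroup stabilising a subgroup of `PSL(2, F)` with proper normaliser is the normaliser. -/
theorem stab {M : Subgroup PGL₂} (hM : IsCoatom M) (T : Subgroup PSL₂)
    (hT : Subgroup.normalizer (T : Set PSL₂) ≠ ⊤)
    (hinv : ∀ g ∈ M, ∀ a ∈ T, ∀ a', ι a' = g * ι a * g⁻¹ → a' ∈ T) :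
    M = Subgroup.normalizer ((T.map ι : Subgroup PGL₂) : Set PGL₂) ∧
      M.comap ι = Subgroup.normalizer (T : Set PSL₂) := by
  haveI := finite_pgl (F := F)
  set N := Subgroup.normalizer ((T.map ι : Subgroup PGL₂) : Set PGL₂) with hN
  have hcomap : N.comap ι = Subgroup.normalizer (T : Set PSL₂) := by
    ext h
    rw [Subgroup.mem_comap, hN, Subgroup.mem_normalizer_iff, Subgroup.mem_normalizer_iff]
    have hm : ∀ u, ι u ∈ T.map ι ↔ u ∈ T := fun u =>
      ⟨fun ⟨v, hv, e⟩ => Matrix.ProjectiveSpecialLinearGroup.toPGL_injective e ▸ hv,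
        fun hu => ⟨u, hu, rfl⟩⟩
    constructor
    · intro hh u
      have := hh (ι u)
      rwa [← map_inv, ← map_mul, ← map_mul, hm, hm] at this
    · intro hh z
      constructor
      · rintro ⟨u, hu, rfl⟩
        exact ⟨_, (hh u).mp hu, by simp⟩
      · rintro ⟨u, hu, e⟩
        refine ⟨h⁻¹ * u * h, (hh _).mpr (by simpa [mul_assoc] using hu), ?_⟩
        simp [e, mul_assoc]
  have hle : M ≤ N := by
    intro g hg
    refine mem_normalizer_of_forall fun u hu => ?_
    obtain ⟨a, ha, rfl⟩ := hu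
    obtain ⟨a', ha'⟩ := exists_conj g a
    rw [← ha']
    exact ⟨a', hinv g hg a ha a' ha', rfl⟩
  have hne : N ≠ ⊤ := fun e => hT (by rw [← hcomap, e, Subgroup.comap_top])
  have he : M = N := by_contra fun e => hne (hM.2 _ (lt_of_le_of_ne hle e))
  exact ⟨he, by rw [he, hcomap]⟩

/-- An embedding of `PGL(2, F)` into `PSL(2, E)` for the quadratic extension `E`. -/
theorem exists_emb (p : ℕ) [Fact p.Prime] [CharP F p] :
    ∃ (E : Type) (_ : Field E) (_ : Fintype E) (_ : CharP E p)
      (ψ : PGL₂ →* Matrix.ProjectiveSpecialLinearGroup (Fin 2) E), Function.Injective ψ := by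
  classical
  obtain ⟨n, -, hn⟩ := FiniteField.card F p
  haveI : Fintype (GaloisField p (n * 2)) := Fintype.ofFinite _
  have hE : Fintype.card (GaloisField p (n * 2)) = Fintype.card F ^ 2 := by
    rw [← Nat.card_eq_fintype_card, GaloisField.card p _ (Nat.mul_ne_zero n.pos.ne' two_ne_zero), hn, ← pow_mul]
  obtain ⟨φ⟩ := exists_ringHom_of_card_pow (F := GaloisField p (n * 2)) (K := F) (m := 2) hE.symm
  have hsq : ∀ k : F, IsSquare (φ k) := fun k =>
    isSquare_of_even_index (L := φ.fieldRange) (by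
      rw [hE, show Nat.card φ.fieldRange = Fintype.card F from
        (Nat.card_congr (Equiv.ofInjective φ φ.injective)).symm.trans Nat.card_eq_fintype_card]) ⟨φ k, k, rfl⟩
  have h := (pglImg_le_range_iff φ).mpr hsq
  let j := (MonoidHom.ofInjective
    (Matrix.ProjectiveSpecialLinearGroup.toPGL_injective (n := Fin 2) (R := GaloisField p (n * 2)))).symm
  exact ⟨GaloisField p (n * 2), inferInstance, inferInstance, inferInstance,
    j.toMonoidHom.comp ((pglMap φ).codRestrict _ fun x => h ⟨x, rfl⟩),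
    j.injective.comp fun x y e => pglMap_injective φ (congrArg Subtype.val e)⟩

/-- An element of order `p` normalising a unipotent subgroup lies in it. -/
theorem mem_tor_of_uni (p : ℕ) [hp : Fact p.Prime] [CharP F p] {a x : PSL₂} (ha : a ≠ 1) (hap : a ^ p = 1)
    (hx : x ∈ Subgroup.normalizer (tor a : Set PSL₂)) (hxp : x ^ p = 1) : x ∈ tor a := by
  set N := Subgroup.normalizer (tor a : Set PSL₂) with hN
  haveI : ((tor a).subgroupOf N).Normal := Subgroup.normal_in_normalizer
  set i := ((tor a).subgroupOf N).index with hi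
  have hc := Subgroup.card_mul_index ((tor a).subgroupOf N)
  rw [Nat.card_congr (Subgroup.subgroupOfEquivOfLe (Subgroup.le_normalizer : tor a ≤ N)).toEquiv,
    card_tor_uni p ha hap] at hc
  have hb := card_borel p ha hap
  rw [← hN, ← hc, mul_assoc] at hb
  have hid : i * del F = Fintype.card F - 1 := Nat.eq_of_mul_eq_mul_left Fintype.card_pos hb
  have hq := Fintype.one_lt_card (α := F)
  have hcop : Nat.Coprime p i := by
    refine (Nat.Prime.coprime_iff_not_dvd hp.out).mpr fun hd => hp.out.ne_one ?_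
    have h1 : p ∣ Fintype.card F - 1 := hid ▸ hd.mul_right _
    have h2 := Nat.dvd_sub (dvd_card_field (F := F) p) h1
    rw [Nat.sub_sub_self hq.le] at h2
    exact Nat.dvd_one.mp h2
  have h1 : (⟨x, hx⟩ : N) ^ i ∈ (tor a).subgroupOf N := Subgroup.pow_index_mem _ _
  obtain ⟨u, v, huv⟩ : ∃ u v : ℤ, (p : ℤ) * u + (i : ℤ) * v = 1 := by
    refine ⟨Nat.gcdA p i, Nat.gcdB p i, ?_⟩
    rw [← Nat.gcd_eq_gcd_ab, hcop.gcd_eq_one, Nat.cast_one]
  have hxv : x = (x ^ i) ^ v := by
    conv_lhs => rw [← zpow_one x, ← huv, _root_.zpow_add, _root_.zpow_mul, _root_.zpow_mul, zpow_natCast, zpow_natCast, hxp,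
      _root_.one_zpow, one_mul]
  rw [hxv]
  exact Subgroup.zpow_mem _ h1 v

end Cfsg.Agent.Dickson.PGLMax
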