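import Mathlib
import Cfsg.Prelude.Def_Classical
import Cfsg.Agent.Lib.Classical.Witt
import Cfsg.Agent.Lib.Classical.NormalForms

/-! Bases of normal form and classification of quadratic forms over finite fields. -/

set_option autoImplicit false

namespace Cfsg.Agent.Classical

variable {F : Type*} [Field F]

/-- The hyperbolic form as a `QuadraticForm`. -/
noncomputable def qfPlus (m : ℕ) (F : Type*) [Field F] : QuadraticForm F (Fin m ⊕ Fin m → F) :=
  ∑ i : Fin m, QuadraticMap.linMulLin (LinearMap.proj (Sum.inl i)) (LinearMap.proj (Sum.inr i))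

theorem qfPlus_apply (m : ℕ) (v : Fin m ⊕ Fin m → F) : qfPlus m F v = quadFormPlus m F v := by
  simp [qfPlus, quadFormPlus]

theorem coe_qfPlus (m : ℕ) : ⇑(qfPlus m F) = quadFormPlus m F := funext (qfPlus_apply m)

/-- The elliptic model form as a `QuadraticForm`. -/
noncomputable def qfMinus (m : ℕ) (F : Type*) [Field F] (a b : F) :
    QuadraticForm F ((Fin m ⊕ Fin m) ⊕ Fin 2 → F) :=
  (∑ i : Fin m, QuadraticMap.linMulLin (LinearMap.proj (Sum.inl (Sum.inl i)))
      (LinearMap.proj (Sum.inl (Sum.inr i))))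
    + (QuadraticMap.linMulLin (LinearMap.proj (Sum.inr 0)) (LinearMap.proj (Sum.inr 0))
      + a • QuadraticMap.linMulLin (LinearMap.proj (Sum.inr 0)) (LinearMap.proj (Sum.inr 1))
      + b • QuadraticMap.linMulLin (LinearMap.proj (Sum.inr 1)) (LinearMap.proj (Sum.inr 1)))

theorem qfMinus_apply (m : ℕ) (a b : F) (v : (Fin m ⊕ Fin m) ⊕ Fin 2 → F) :
    qfMinus m F a b v = quadFormMinus m F a b v := by
  simp [qfMinus, quadFormMinus]
  ring

theorem coe_qfMinus (m : ℕ) (a b : F) : ⇑(qfMinus m F a b) = quadFormMinus m F a b :=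
  funext (qfMinus_apply m a b)

/-- The odd-dimensional model form as a `QuadraticForm`. -/
noncomputable def qfOdd (m : ℕ) (F : Type*) [Field F] :
    QuadraticForm F (Unit ⊕ (Fin m ⊕ Fin m) → F) :=
  QuadraticMap.linMulLin (LinearMap.proj (Sum.inl ())) (LinearMap.proj (Sum.inl ())) +
  ∑ i : Fin m, QuadraticMap.linMulLin (LinearMap.proj (Sum.inr (Sum.inl i)))
      (LinearMap.proj (Sum.inr (Sum.inr i)))

theorem qfOdd_apply (m : ℕ) (v : Unit ⊕ (Fin m ⊕ Fin m) → F) :
    qfOdd m F v = quadFormOdd m F v := by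
  simp [qfOdd, quadFormOdd]
  ring

theorem coe_qfOdd (m : ℕ) : ⇑(qfOdd m F) = quadFormOdd m F := funext (qfOdd_apply m)

variable {V W ι : Type*} [AddCommGroup V] [Module F V] [AddCommGroup W] [Module F W]

/-- Quadratic forms agreeing on a basis and all polar values of basis pairs are equal. -/
theorem quad_ext_basis (b : Module.Basis ι F V) {Q Q' : QuadraticForm F V}
    (h1 : ∀ i, Q (b i) = Q' (b i))
    (h2 : ∀ i j, QuadraticMap.polar ⇑Q (b i) (b j) = QuadraticMap.polar ⇑Q' (b i) (b j)) : Q = Q' := by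
  have hpol : QuadraticMap.polarBilin Q = QuadraticMap.polarBilin Q' :=
    b.ext fun i => b.ext fun j => h2 i j
  refine QuadraticMap.ext fun v => ?_
  have hv := b.mem_span v
  induction hv using Submodule.span_induction with
  | mem x hx => obtain ⟨i, rfl⟩ := hx; exact h1 i
  | zero => simp
  | add x y _ _ hx hy =>
    rw [QuadraticMap.map_add ⇑Q x y, QuadraticMap.map_add ⇑Q' x y, hx, hy]
    congr 1
    exact LinearMap.congr_fun (LinearMap.congr_fun hpol x) y
  | smul a x _ hx => rw [QuadraticMap.map_smul, QuadraticMap.map_smul, hx]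

/-- An isometry from two bases with the same values. -/
theorem exists_isometry_of_bases {Q : QuadraticForm F V} {Q' : QuadraticForm F W}
    (b : Module.Basis ι F V) (b' : Module.Basis ι F W) (h1 : ∀ i, Q' (b' i) = Q (b i))
    (h2 : ∀ i j, QuadraticMap.polar ⇑Q' (b' i) (b' j) = QuadraticMap.polar ⇑Q (b i) (b j)) :
    ∃ g : V ≃ₗ[F] W, ∀ v, Q' (g v) = Q v := by
  refine ⟨b.equiv b' (Equiv.refl ι), fun v => ?_⟩
  have h : Q'.comp (b.equiv b' (Equiv.refl ι) : V →ₗ[F] W) = Q := by
    refine quad_ext_basis b (fun i => ?_) (fun i j => ?_)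
    · simp [h1]
    · simpa [QuadraticMap.polar] using h2 i j
  exact congrArg (fun q : QuadraticForm F V => q v) h

/-- The determinant of the Gram matrix of a bilinear form in a basis. -/
noncomputable def gramDet [Fintype ι] [DecidableEq ι] (B : LinearMap.BilinForm F V)
    (b : Module.Basis ι F V) : F :=
  (LinearMap.BilinForm.toMatrix b B).det

theorem gramDet_eq_of [Fintype ι] [DecidableEq ι] (Q : QuadraticForm F V) (b : Module.Basis ι F V) :
    gramDet (QuadraticMap.polarBilin Q) b =
      (Matrix.of fun i j : ι => QuadraticMap.polar ⇑Q (b i) (b j)).det := by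
  refine congrArg Matrix.det (Matrix.ext fun i j => ?_)
  simp [LinearMap.BilinForm.toMatrix_apply]

theorem gramDet_ne_zero [Fintype ι] [DecidableEq ι] {B : LinearMap.BilinForm F V}
    (hB : B.Nondegenerate) (b : Module.Basis ι F V) : gramDet B b ≠ 0 :=
  (LinearMap.BilinForm.nondegenerate_iff_det_ne_zero b).1 hB

theorem gramDet_change {κ : Type*} [Fintype ι] [DecidableEq ι] [Fintype κ] [DecidableEq κ]
    (B : LinearMap.BilinForm F V) (b : Module.Basis ι F V) (c : Module.Basis κ F V) :
    ∃ t : F, t ≠ 0 ∧ gramDet B c = t ^ 2 * gramDet B b := by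
  let e : κ ≃ ι := c.indexEquiv b
  let c' := c.reindex e
  have h : gramDet B c = gramDet B c' := by
    rw [gramDet, gramDet, ← Matrix.det_submatrix_equiv_self e (LinearMap.BilinForm.toMatrix c' B)]
    congr 1
    ext i j
    simp [LinearMap.BilinForm.toMatrix_apply, c']
  refine ⟨(b.toMatrix ⇑c').det, ?_, ?_⟩
  · intro h0
    have h1 : (b.toMatrix ⇑c').det * ((c').toMatrix ⇑b).det = 1 := by
      rw [← Matrix.det_mul, Module.Basis.toMatrix_mul_toMatrix_flip, Matrix.det_one]
    rw [h0, zero_mul] at h1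
    exact zero_ne_one h1
  · rw [h, gramDet, gramDet, ← LinearMap.BilinForm.toMatrix_mul_basis_toMatrix b c' B, Matrix.det_mul,
      Matrix.det_mul, Matrix.det_transpose]
    ring

theorem gramDet_isometry [Fintype ι] [DecidableEq ι] {Q : QuadraticForm F V} {Q' : QuadraticForm F W}
    (g : V ≃ₗ[F] W) (h : ∀ v, Q' (g v) = Q v) (b : Module.Basis ι F V) :
    gramDet (QuadraticMap.polarBilin Q') (b.map g) = gramDet (QuadraticMap.polarBilin Q) b := by
  rw [gramDet, gramDet]
  congr 1
  ext i j
  simp [LinearMap.BilinForm.toMatrix_apply, QuadraticMap.polar, ← map_add, h]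

theorem gramDet_smul [Fintype ι] [DecidableEq ι] (c : F) (B : LinearMap.BilinForm F V)
    (b : Module.Basis ι F V) : gramDet (c • B) b = c ^ Fintype.card ι * gramDet B b := by
  rw [gramDet, gramDet, map_smul, Matrix.det_smul]

theorem isSquare_mul_sq {a t : F} (ht : t ≠ 0) : IsSquare (t ^ 2 * a) ↔ IsSquare a := by
  constructor
  · rintro ⟨s, hs⟩
    exact ⟨s / t, by field_simp; linear_combination hs⟩
  · rintro ⟨s, rfl⟩
    exact ⟨t * s, by ring⟩

theorem isSquare_of_two_nonsquares [Fintype F] (h2 : (2 : F) ≠ 0) {a b : F} (ha : ¬ IsSquare a)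
    (hb : ¬ IsSquare b) : IsSquare (a * b) := by
  classical
  have hc : ringChar F ≠ 2 := fun hc => h2 (by
    exact_mod_cast (ringChar.spec F 2).2 (by rw [hc]))
  have ha0 : a ≠ 0 := fun h => ha (h ▸ IsSquare.zero)
  have hb0 : b ≠ 0 := fun h => hb (h ▸ IsSquare.zero)
  refine (quadraticChar_one_iff_isSquare (mul_ne_zero ha0 hb0)).1 ?_
  rw [map_mul, (quadraticChar_neg_one_iff_not_isSquare).2 ha,
    (quadraticChar_neg_one_iff_not_isSquare).2 hb]
  norm_num

theorem isSquare_mul_left_iff [Fintype F] {a b : F} (ha0 : a ≠ 0) (ha : IsSquare a) :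
    IsSquare (a * b) ↔ IsSquare b := by
  obtain ⟨t, rfl⟩ := ha
  have ht : t ≠ 0 := by rintro rfl; simp at ha0
  rw [show t * t * b = t ^ 2 * b by ring]
  exact isSquare_mul_sq ht

section Bases

variable [FiniteDimensional F V] (Q : QuadraticForm F V)

omit [FiniteDimensional F V] in
theorem nondeg_top {B : LinearMap.BilinForm F V} (hB : B.Nondegenerate) :
    ∀ w ∈ (⊤ : Submodule F V), w ≠ 0 → ∃ u ∈ (⊤ : Submodule F V), B w u ≠ 0 := by
  intro w _ hw
  by_contra hcon
  push Not at hcon
  exact hw (hB.1 w fun u => hcon u trivial)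

/-- A basis by hyperbolic pairs and the rest. -/
theorem exists_witt_basis [Finite F] (hQ : (QuadraticMap.polarBilin Q).Nondegenerate) :
    ∃ (k r : ℕ) (b : Module.Basis ((Fin k ⊕ Fin k) ⊕ Fin r) F V), r ≤ 2 ∧
      (∀ i, Q (b (Sum.inl (Sum.inl i))) = 0 ∧ Q (b (Sum.inl (Sum.inr i))) = 0) ∧
      (∀ i j, QuadraticMap.polar ⇑Q (b (Sum.inl (Sum.inl i))) (b (Sum.inl (Sum.inr j))) =
        if i = j then 1 else 0) ∧
      (∀ i j, QuadraticMap.polar ⇑Q (b (Sum.inl (Sum.inl i))) (b (Sum.inl (Sum.inl j))) = 0 ∧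
        QuadraticMap.polar ⇑Q (b (Sum.inl (Sum.inr i))) (b (Sum.inl (Sum.inr j))) = 0) ∧
      (∀ i j, QuadraticMap.polar ⇑Q (b (Sum.inl (Sum.inl i))) (b (Sum.inr j)) = 0 ∧
        QuadraticMap.polar ⇑Q (b (Sum.inl (Sum.inr i))) (b (Sum.inr j)) = 0) ∧
      (∀ c : Fin r → F, Q (∑ j, c j • b (Sum.inr j)) = 0 → c = 0) := by
  obtain ⟨k, e, f, R, hk, hR2, -, hmem, hEF, hEE, hER, hAn, -, hspan⟩ :=
    exists_hyperbolic_family Q _ ⊤ (nondeg_top hQ) rfl
  let bR := Module.finBasis F R
  let v : (Fin k ⊕ Fin k) ⊕ Fin (Module.finrank F R) → V :=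
    Sum.elim (Sum.elim e f) (fun j => (bR j : V))
  have hsp : ⊤ ≤ Submodule.span F (Set.range v) := by
    refine hspan.trans (sup_le (Submodule.span_mono ?_) ?_)
    · rintro x (⟨i, rfl⟩ | ⟨i, rfl⟩)
      · exact ⟨Sum.inl (Sum.inl i), rfl⟩
      · exact ⟨Sum.inl (Sum.inr i), rfl⟩
    · intro x hx
      have h1 := Submodule.mem_map_of_mem (f := R.subtype) (bR.mem_span ⟨x, hx⟩)
      rw [Submodule.map_span, ← Set.range_comp] at h1
      refine Submodule.span_mono ?_ h1
      rintro _ ⟨j, rfl⟩; exact ⟨Sum.inr j, rfl⟩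
  have hcard : Fintype.card ((Fin k ⊕ Fin k) ⊕ Fin (Module.finrank F R)) = Module.finrank F V := by
    rw [finrank_top] at hk
    simp only [Fintype.card_sum, Fintype.card_fin]; omega
  refine ⟨k, _, basisOfTopLeSpanOfCardEqFinrank v hsp hcard, hR2, ?_⟩
  rw [coe_basisOfTopLeSpanOfCardEqFinrank]
  refine ⟨fun i => (hmem i).2.2, hEF, hEE, fun i j => hER i _ (bR j).2, fun c hc => ?_⟩
  have h0 := hAn _ (R.sum_mem fun j _ => R.smul_mem (c j) (bR j).2) hc
  have h1 : ∑ j, c j • bR j = 0 := Subtype.ext (by simpa [v] using h0)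
  exact funext fun j => Fintype.linearIndependent_iff.1 bR.linearIndependent c h1 j

/-- In an anisotropic plane some vector has value one. -/
theorem exists_value_one [Finite F] {u w : V} (h : ∀ s t : F, Q (s • u + t • w) = 0 → s = 0 ∧ t = 0) :
    ∃ s t : F, Q (s • u + t • w) = 1 := by
  have := Fintype.ofFinite F
  have hQu : Q u ≠ 0 := fun h0 => one_ne_zero (h 1 0 (by simp [h0])).1
  have hval : ∀ s t : F, Q (s • u + t • w) =
      s * s * Q u + t * t * Q w + s * t * QuadraticMap.polar ⇑Q u w := fun s t => by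
    rw [quad_add_smul', QuadraticMap.map_smul, map_smul, LinearMap.smul_apply, smul_eq_mul,
      smul_eq_mul, QuadraticMap.polarBilin_apply_apply]
    ring
  by_cases h2 : (2 : F) = 0
  · have : CharP F 2 := (CharP.charP_iff_prime_eq_zero Nat.prime_two).2 (by exact_mod_cast h2)
    obtain ⟨c, hc⟩ := FiniteField.isSquare_of_char_two (ringChar.eq F 2) (Q u)
    refine ⟨c⁻¹, 0, ?_⟩
    have hc0 : c ≠ 0 := by rintro rfl; simp at hc; exact hQu hc
    rw [hval, hc]; field_simp; ring
  · set a := Q u with ha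
    set p := QuadraticMap.polar ⇑Q u w
    set q := Q w - p * p / (4 * a) with hq
    have h4 : (4 : F) ≠ 0 := by
      rw [show (4 : F) = 2 * 2 by norm_num]; exact mul_ne_zero h2 h2
    have hshift : ∀ x y : F, Q ((x - y * p / (2 * a)) • u + y • w) = a * x * x + q * (y * y) := by
      intro x y
      rw [hval, hq]
      field_simp
      ring
    have hq0 : q ≠ 0 := fun hq0 => by
      have := (h (0 - 1 * p / (2 * a)) 1 (by rw [hshift, hq0]; ring)).2
      exact one_ne_zero this
    have hc : ringChar F ≠ 2 := fun hc => h2 (by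
      exact_mod_cast (ringChar.spec F 2).2 (by rw [hc]))
    obtain ⟨x, y, hxy⟩ := FiniteField.exists_root_sum_quadratic (R := F)
      (f := Polynomial.C a * Polynomial.X ^ 2)
      (g := Polynomial.C q * Polynomial.X ^ 2 - Polynomial.C 1)
      (Polynomial.degree_C_mul_X_pow 2 hQu)
      (by
        rw [Polynomial.degree_sub_C (by rw [Polynomial.degree_C_mul_X_pow 2 hq0]; decide)]
        exact Polynomial.degree_C_mul_X_pow 2 hq0)
      (FiniteField.odd_card_of_char_ne_two hc)
    simp at hxy
    exact ⟨_, y, (hshift x y).trans (by linear_combination hxy)⟩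

end Bases

end Cfsg.Agent.Classical

namespace Cfsg.Agent.Classical

section OddClass

variable {F : Type*} [Field F] {V : Type*} [AddCommGroup V] [Module F V] [FiniteDimensional F V]

theorem gramDet_of_diag {n : ℕ} (B : LinearMap.BilinForm F V) (b : Module.Basis (Fin (n + 1)) F V)
    {d : F} (h : ∀ i j, i ≠ j → B (b i) (b j) = 0) (h1 : ∀ i, i ≠ Fin.last n → B (b i) (b i) = 1)
    (hd : B (b (Fin.last n)) (b (Fin.last n)) = d) : gramDet B b = d := by
  have hm : LinearMap.BilinForm.toMatrix b B =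
      Matrix.diagonal (fun i => if i = Fin.last n then d else 1) := by
    ext i j
    rw [LinearMap.BilinForm.toMatrix_apply]
    by_cases hij : i = j
    · subst hij
      rw [Matrix.diagonal_apply_eq]
      split_ifs with hi
      · rw [hi]; exact hd
      · exact h1 i hi
    · rw [Matrix.diagonal_apply_ne _ hij]; exact h i j hij
  rw [gramDet, hm, Matrix.det_diagonal, Finset.prod_ite_eq']
  simp

/-- Odd characteristic: the discriminant class determines the isometry type. -/
theorem isometric_iff_disc [Fintype F] (h2 : (2 : F) ≠ 0) {W : Type*} [AddCommGroup W] [Module F W]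
    [FiniteDimensional F W] {ι κ : Type*} [Fintype ι] [DecidableEq ι] [Fintype κ] [DecidableEq κ]
    {Q : QuadraticForm F V} {Q' : QuadraticForm F W}
    (hQ : (QuadraticMap.polarBilin Q).Nondegenerate) (hQ' : (QuadraticMap.polarBilin Q').Nondegenerate)
    (c : Module.Basis ι F V) (c' : Module.Basis κ F W)
    (hrk : Fintype.card ι = Fintype.card κ) :
    (∃ g : V ≃ₗ[F] W, ∀ v, Q' (g v) = Q v) ↔
      IsSquare (gramDet (QuadraticMap.polarBilin Q) c * gramDet (QuadraticMap.polarBilin Q') c') := by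
  constructor
  · rintro ⟨g, hg⟩
    obtain ⟨t, -, ht⟩ := gramDet_change (QuadraticMap.polarBilin Q') (c.map g) c'
    rw [ht, gramDet_isometry g hg]
    exact ⟨t * gramDet (QuadraticMap.polarBilin Q) c, by ring⟩
  · intro hsq
    rcases Nat.eq_zero_or_pos (Fintype.card ι) with h0 | hpos
    · have : Subsingleton V := Module.finrank_zero_iff.1 ((Module.finrank_eq_card_basis c).trans h0)
      have : Subsingleton W :=
        Module.finrank_zero_iff.1 ((Module.finrank_eq_card_basis c').trans (hrk ▸ h0))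
      exact ⟨0, fun v => by rw [Subsingleton.elim v 0, map_zero, QuadraticMap.map_zero,
        QuadraticMap.map_zero]⟩
    obtain ⟨n, hn⟩ : ∃ n, Fintype.card ι = n + 1 := ⟨_, (Nat.succ_pred_eq_of_pos hpos).symm⟩
    obtain ⟨b, d, hd, hbo, hb1, hbd⟩ := exists_diag_basis (QuadraticMap.polarBilin Q) h2
      (polarBilin_isSymm Q) hQ (n := n) ((Module.finrank_eq_card_basis c).trans hn)
    obtain ⟨b', d', hd', hbo', hb1', hbd'⟩ := exists_diag_basis (QuadraticMap.polarBilin Q') h2
      (polarBilin_isSymm Q') hQ' (n := n) ((Module.finrank_eq_card_basis c').trans (hrk ▸ hn))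
    obtain ⟨t, ht0, ht⟩ := gramDet_change (QuadraticMap.polarBilin Q) b c
    obtain ⟨t', ht0', ht'⟩ := gramDet_change (QuadraticMap.polarBilin Q') b' c'
    rw [ht, ht', gramDet_of_diag _ b hbo hb1 hbd, gramDet_of_diag _ b' hbo' hb1' hbd',
      show t ^ 2 * d * (t' ^ 2 * d') = (t * t') ^ 2 * (d * d') by ring,
      isSquare_mul_sq (mul_ne_zero ht0 ht0')] at hsq
    obtain ⟨s, hs⟩ := hsq
    have hs0 : s ≠ 0 := fun h0 => by rw [h0, mul_zero] at hs; exact mul_ne_zero hd hd' hs
    -- scale the last vector of the second basis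
    set u : Fin (n + 1) → Fˣ := fun i => if i = Fin.last n then Units.mk0 (s / d') (div_ne_zero hs0 hd') else 1
      with hu
    set b'' := b'.unitsSMul u
    have hval : ∀ i j, QuadraticMap.polarBilin Q' (b'' i) (b'' j) = QuadraticMap.polarBilin Q (b i) (b j) := by
      intro i j
      simp only [b'', Module.Basis.unitsSMul_apply, Units.smul_def, map_smul, LinearMap.smul_apply,
        smul_eq_mul]
      rcases eq_or_ne i j with rfl | hij
      · by_cases hi : i = Fin.last n
        · simp only [hu, hi, if_pos, Units.val_mk0]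
          rw [hbd, hbd']
          field_simp
          linear_combination -hs
        · simp only [hu, if_neg hi, Units.val_one, one_mul]
          rw [hb1 i hi, hb1' i hi]
      · rw [hbo' i j hij, hbo i j hij, mul_zero, mul_zero]
    refine exists_isometry_of_bases b b'' (fun i => ?_) hval
    have h := hval i i
    rw [polarBilin_self, polarBilin_self] at h
    exact mul_left_cancel₀ h2 h

end OddClass

end Cfsg.Agent.Classical
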