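import Mathlib
import Cfsg.Prelude.Def_Classical
import Cfsg.Agent.Lib.Classical.QuadClass

/-! The model quadratic forms: polar forms, discriminants, Witt index, bases of normal form. -/

set_option autoImplicit false

namespace Cfsg.Agent.Classical

variable {F : Type*} [Field F]

theorem nondegenerate_of_separatingLeft {V : Type*} [AddCommGroup V] [Module F V]
    (Q : QuadraticForm F V)
    (h : ∀ u, (∀ v, QuadraticMap.polarBilin Q u v = 0) → u = 0) :
    (QuadraticMap.polarBilin Q).Nondegenerate :=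
  ⟨h, fun v hv => h v fun u => (QuadraticMap.polar_comm (⇑Q) v u).trans (hv u)⟩

theorem polar_qfPlus (m : ℕ) (u v : Fin m ⊕ Fin m → F) :
    QuadraticMap.polar ⇑(qfPlus m F) u v =
      ∑ i, (u (Sum.inl i) * v (Sum.inr i) + v (Sum.inl i) * u (Sum.inr i)) := by
  simp only [QuadraticMap.polar, qfPlus_apply, quadFormPlus, Pi.add_apply, ← Finset.sum_sub_distrib]
  exact Finset.sum_congr rfl fun i _ => by ring

theorem polar_qfMinus (m : ℕ) (a b : F) (u v : (Fin m ⊕ Fin m) ⊕ Fin 2 → F) :
    QuadraticMap.polar ⇑(qfMinus m F a b) u v =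
      (∑ i, (u (Sum.inl (Sum.inl i)) * v (Sum.inl (Sum.inr i)) +
        v (Sum.inl (Sum.inl i)) * u (Sum.inl (Sum.inr i)))) +
      (2 * u (Sum.inr 0) * v (Sum.inr 0) + a * (u (Sum.inr 0) * v (Sum.inr 1) +
        v (Sum.inr 0) * u (Sum.inr 1)) + 2 * b * u (Sum.inr 1) * v (Sum.inr 1)) := by
  have h : ∑ i, (u (Sum.inl (Sum.inl i)) * v (Sum.inl (Sum.inr i)) +
        v (Sum.inl (Sum.inl i)) * u (Sum.inl (Sum.inr i))) =
      ∑ i, (u + v) (Sum.inl (Sum.inl i)) * (u + v) (Sum.inl (Sum.inr i)) -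
        ∑ i, u (Sum.inl (Sum.inl i)) * u (Sum.inl (Sum.inr i)) -
        ∑ i, v (Sum.inl (Sum.inl i)) * v (Sum.inl (Sum.inr i)) := by
    simp only [← Finset.sum_sub_distrib, Pi.add_apply]
    exact Finset.sum_congr rfl fun i _ => by ring
  rw [h]
  simp only [QuadraticMap.polar, qfMinus_apply, quadFormMinus, Pi.add_apply]
  ring

theorem nondegenerate_qfPlus (m : ℕ) : (QuadraticMap.polarBilin (qfPlus m F)).Nondegenerate := by
  classical
  refine nondegenerate_of_separatingLeft _ ?_
  intro u hu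
  funext x
  rcases x with i | i
  · have h := hu (Pi.single (Sum.inr i) 1)
    rw [QuadraticMap.polarBilin_apply_apply, polar_qfPlus, Finset.sum_eq_single i
      (fun j _ hj => by simp [hj]) (by simp)] at h
    simpa using h
  · have h := hu (Pi.single (Sum.inl i) 1)
    rw [QuadraticMap.polarBilin_apply_apply, polar_qfPlus, Finset.sum_eq_single i
      (fun j _ hj => by simp [hj]) (by simp)] at h
    simpa using h

/-- For an anisotropic binary form the polar determinant is non-zero. -/
theorem binary_disc_ne_zero [Finite F] {a b : F}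
    (h : ∀ z₁ z₂ : F, z₁ ^ 2 + a * z₁ * z₂ + b * z₂ ^ 2 = 0 → z₁ = 0 ∧ z₂ = 0) :
    4 * b - a ^ 2 ≠ 0 := by
  intro h0
  by_cases h2 : (2 : F) = 0
  · have : CharP F 2 := (CharP.charP_iff_prime_eq_zero Nat.prime_two).2 (by exact_mod_cast h2)
    have := Fintype.ofFinite F
    obtain ⟨s, hs⟩ := FiniteField.isSquare_of_char_two (ringChar.eq F 2) b
    have ha : a = 0 := by
      refine eq_zero_of_pow_eq_zero (n := 2) ?_
      linear_combination -h0 + 2 * b * h2
    exact one_ne_zero (h s 1 (by rw [ha, hs]; linear_combination s * s * h2)).2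
  · refine one_ne_zero (h (-a / 2) 1 ?_).2
    field_simp
    linear_combination h0

theorem nondegenerate_qfMinus [Finite F] (m : ℕ) {a b : F}
    (hab : ∀ z₁ z₂ : F, z₁ ^ 2 + a * z₁ * z₂ + b * z₂ ^ 2 = 0 → z₁ = 0 ∧ z₂ = 0) :
    (QuadraticMap.polarBilin (qfMinus m F a b)).Nondegenerate := by
  classical
  refine nondegenerate_of_separatingLeft _ ?_
  intro u hu
  have h0 := hu (Pi.single (Sum.inr 0) 1)
  have h1 := hu (Pi.single (Sum.inr 1) 1)
  simp [polar_qfMinus] at h0 h1
  have hd := binary_disc_ne_zero hab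
  funext x
  rcases x with (i | i) | j
  · have h := hu (Pi.single (Sum.inl (Sum.inr i)) 1)
    rw [QuadraticMap.polarBilin_apply_apply, polar_qfMinus, Finset.sum_eq_single i
      (fun j _ hj => by simp [hj]) (by simp)] at h
    simpa using h
  · have h := hu (Pi.single (Sum.inl (Sum.inl i)) 1)
    rw [QuadraticMap.polarBilin_apply_apply, polar_qfMinus, Finset.sum_eq_single i
      (fun j _ hj => by simp [hj]) (by simp)] at h
    simpa using h
  · fin_cases j
    · exact (mul_eq_zero.1 (show (4 * b - a ^ 2) * u (Sum.inr 0) = 0 by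
        linear_combination (2 * b) * h0 - a * h1)).resolve_left hd
    · exact (mul_eq_zero.1 (show (4 * b - a ^ 2) * u (Sum.inr 1) = 0 by
        linear_combination 2 * h1 - a * h0)).resolve_left hd

theorem gramDet_qfPlus (m : ℕ) :
    gramDet (QuadraticMap.polarBilin (qfPlus m F)) (Pi.basisFun F (Fin m ⊕ Fin m)) = (-1) ^ m := by
  classical
  have hm : LinearMap.BilinForm.toMatrix (Pi.basisFun F (Fin m ⊕ Fin m))
      (QuadraticMap.polarBilin (qfPlus m F)) = Matrix.fromBlocks 0 1 1 0 := by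
    ext i j
    rw [LinearMap.BilinForm.toMatrix_apply, QuadraticMap.polarBilin_apply_apply, polar_qfPlus]
    rcases i with i | i <;> rcases j with j | j <;>
      simp [Pi.single_apply, Matrix.one_apply, eq_comm]
  rw [gramDet, hm]
  have h1 : Matrix.fromBlocks (0 : Matrix (Fin m) (Fin m) F) 1 1 0 *
      Matrix.fromBlocks 1 0 0 (-1) = Matrix.J (Fin m) F := by
    rw [Matrix.fromBlocks_multiply]; simp [Matrix.J]
  have h2 := congrArg Matrix.det h1
  rw [Matrix.det_mul, Matrix.det_fromBlocks_zero₂₁, Matrix.det_one, one_mul, Matrix.det_neg,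
    Matrix.det_one, mul_one, Fintype.card_fin,
    SymplecticGroup.det_eq_one (SymplecticGroup.J_mem (Fin m) F)] at h2
  have h3 : ((-1 : F) ^ m) * (-1 : F) ^ m = 1 := by rw [← mul_pow]; simp
  calc _ = _ * ((-1 : F) ^ m * (-1 : F) ^ m) := by rw [h3, mul_one]
    _ = _ := by rw [← mul_assoc, h2, one_mul]

theorem gramDet_qfMinus (m : ℕ) (a b : F) :
    gramDet (QuadraticMap.polarBilin (qfMinus m F a b))
      (Pi.basisFun F ((Fin m ⊕ Fin m) ⊕ Fin 2)) = (-1) ^ m * (4 * b - a ^ 2) := by
  classical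
  have hm : LinearMap.BilinForm.toMatrix (Pi.basisFun F ((Fin m ⊕ Fin m) ⊕ Fin 2))
      (QuadraticMap.polarBilin (qfMinus m F a b)) = Matrix.fromBlocks
        (LinearMap.BilinForm.toMatrix (Pi.basisFun F (Fin m ⊕ Fin m))
          (QuadraticMap.polarBilin (qfPlus m F))) 0 0 !![2, a; a, 2 * b] := by
    ext i j
    rcases i with i | i <;> rcases j with j | j
    · simp only [Matrix.fromBlocks_apply₁₁, LinearMap.BilinForm.toMatrix_apply,
        QuadraticMap.polarBilin_apply_apply, polar_qfPlus, polar_qfMinus]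
      rcases i with i | i <;> rcases j with j | j <;> simp [Pi.single_apply]
    · rcases i with i | i <;> simp [polar_qfMinus, Pi.single_apply, LinearMap.BilinForm.toMatrix_apply]
    · rcases j with j | j <;> simp [polar_qfMinus, Pi.single_apply, LinearMap.BilinForm.toMatrix_apply]
    · fin_cases i <;> fin_cases j <;>
        simp [polar_qfMinus, qfMinus_apply, quadFormMinus, Pi.single_apply, LinearMap.BilinForm.toMatrix_apply]
  rw [gramDet, hm, Matrix.det_fromBlocks_zero₂₁, Matrix.det_fin_two_of,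
    show (LinearMap.BilinForm.toMatrix (Pi.basisFun F (Fin m ⊕ Fin m))
      (QuadraticMap.polarBilin (qfPlus m F))).det = (-1) ^ m from gramDet_qfPlus m]
  ring

section Singular

variable {V : Type*} [AddCommGroup V] [Module F V] [FiniteDimensional F V]

theorem singular_finrank_le (Q : QuadraticForm F V) (hQ : (QuadraticMap.polarBilin Q).Nondegenerate)
    {A C : Submodule F V} (hA : ∀ w ∈ A, Q w = 0) (hC : ∀ w ∈ C, Q w = 0)
    (hmax : ∀ W : Submodule F V, A ≤ W → (∀ w ∈ W, Q w = 0) → W = A) :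
    Module.finrank F C ≤ Module.finrank F A := by
  by_contra hlt
  push Not at hlt
  obtain ⟨f, hf⟩ : ∃ f : A →ₗ[F] C, Function.Injective f := by
    let bA := Module.finBasis F A
    let bC := Module.finBasis F C
    refine ⟨bA.constr F (fun i => bC (Fin.castLE hlt.le i)), ?_⟩
    rw [← LinearMap.ker_eq_bot]
    refine LinearMap.ker_eq_bot'.2 fun x hx => bA.ext_elem fun i => ?_
    have hli := bC.linearIndependent.comp _ (Fin.castLE_injective hlt.le)
    rw [Module.Basis.constr_apply_fintype] at hx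
    simpa [Module.Basis.equivFun_apply] using Fintype.linearIndependent_iff.1 hli _ hx i
  obtain ⟨g, hg, hgA⟩ := witt_quadratic Q hQ A (C.subtype.comp f) (Subtype.val_injective.comp hf)
    (fun x => by rw [hA x.1 x.2]; exact hC _ (f x).2)
  have h := hmax (C.comap (g : V →ₗ[F] V)) (fun w hw => by
      show g w ∈ C
      rw [hgA ⟨w, hw⟩]
      exact (f ⟨w, hw⟩).2)
    (fun w hw => by rw [← hg w]; exact hC _ hw)
  rw [← h, show C.comap (g : V →ₗ[F] V) = C.map (g.symm : V →ₗ[F] V) from
    (Submodule.map_equiv_eq_comap_symm g.symm C).symm, LinearEquiv.finrank_map_eq] at hlt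
  exact lt_irrefl _ hlt

/-- Singular subspaces of the elliptic model have dimension at most `m`. -/
theorem singular_finrank_le_minus [Finite F] (m : ℕ) {a b : F}
    (hab : ∀ z₁ z₂ : F, z₁ ^ 2 + a * z₁ * z₂ + b * z₂ ^ 2 = 0 → z₁ = 0 ∧ z₂ = 0)
    (C : Submodule F ((Fin m ⊕ Fin m) ⊕ Fin 2 → F))
    (hC : ∀ w ∈ C, qfMinus m F a b w = 0) : Module.finrank F C ≤ m := by
  classical
  let A : Submodule F ((Fin m ⊕ Fin m) ⊕ Fin 2 → F) :=
    LinearMap.ker (LinearMap.funLeft F F (Sum.elim (fun i => Sum.inl (Sum.inr i)) Sum.inr :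
      Fin m ⊕ Fin 2 → (Fin m ⊕ Fin m) ⊕ Fin 2))
  have hmemA : ∀ v, v ∈ A ↔ (∀ i, v (Sum.inl (Sum.inr i)) = 0) ∧ ∀ j, v (Sum.inr j) = 0 := by
    intro v
    simp only [A, LinearMap.mem_ker, funext_iff, LinearMap.funLeft_apply, Sum.forall, Sum.elim_inl,
      Sum.elim_inr, Pi.zero_apply]
  have hA : ∀ w ∈ A, qfMinus m F a b w = 0 := fun w hw => by
    obtain ⟨h1, h2⟩ := (hmemA w).1 hw
    simp [qfMinus_apply, quadFormMinus, h1, h2]
  have hmax : ∀ W : Submodule F ((Fin m ⊕ Fin m) ⊕ Fin 2 → F), A ≤ W →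
      (∀ w ∈ W, qfMinus m F a b w = 0) → W = A := by
    intro W hle hW
    refine le_antisymm (fun w hw => (hmemA w).2 ?_) hle
    have h1 : ∀ i, w (Sum.inl (Sum.inr i)) = 0 := by
      intro i
      have hs : (Pi.single (Sum.inl (Sum.inl i)) 1 : (Fin m ⊕ Fin m) ⊕ Fin 2 → F) ∈ A :=
        (hmemA _).2 ⟨fun j => by simp, fun j => by simp⟩
      have h := polar_qfMinus m a b (Pi.single (Sum.inl (Sum.inl i)) 1) w
      rw [QuadraticMap.polar, hW _ (W.add_mem (hle hs) hw), hW _ (hle hs), hW _ hw,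
        Finset.sum_eq_single i (fun j _ hj => by simp [hj]) (by simp)] at h
      simpa using h.symm
    refine ⟨h1, ?_⟩
    have h2 := hW w hw
    rw [qfMinus_apply, quadFormMinus] at h2
    simp [h1] at h2
    obtain ⟨h3, h4⟩ := hab _ _ h2
    intro j; fin_cases j <;> assumption
  refine (singular_finrank_le _ (nondegenerate_qfMinus m hab) hA hC hmax).trans ?_
  have e : A →ₗ[F] (Fin m → F) :=
    (LinearMap.funLeft F F (fun i => Sum.inl (Sum.inl i))).comp A.subtype
  have hinj : Function.Injective ((LinearMap.funLeft F F (fun i : Fin m =>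
      (Sum.inl (Sum.inl i) : (Fin m ⊕ Fin m) ⊕ Fin 2))).comp A.subtype) := by
    intro u v h
    refine Subtype.ext (funext fun x => ?_)
    obtain ⟨u1, u2⟩ := (hmemA _).1 u.2
    obtain ⟨v1, v2⟩ := (hmemA _).1 v.2
    rcases x with (i | i) | j
    · exact congrFun h i
    · rw [u1, v1]
    · rw [u2, v2]
  exact (LinearMap.finrank_le_finrank_of_injective hinj).trans (Module.finrank_fin_fun F).le

theorem exists_singular_plus (m : ℕ) :
    ∃ U : Submodule F (Fin m ⊕ Fin m → F), (∀ u ∈ U, qfPlus m F u = 0) ∧ Module.finrank F U = m := by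
  classical
  let L : (Fin m → F) →ₗ[F] (Fin m ⊕ Fin m → F) :=
    { toFun := fun v => Sum.elim v 0
      map_add' := fun u v => by funext x; rcases x with i | i <;> simp
      map_smul' := fun c v => by funext x; rcases x with i | i <;> simp }
  refine ⟨L.range, ?_, ?_⟩
  · rintro _ ⟨v, rfl⟩
    simp [qfPlus_apply, quadFormPlus, L]
  · rw [LinearMap.finrank_range_of_inj, Module.finrank_fin_fun]
    exact fun u v h => funext fun i => congrFun h (Sum.inl i)

theorem singular_finrank_le_plus [Finite F] (m : ℕ) (C : Submodule F (Fin m ⊕ Fin m → F))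
    (hC : ∀ w ∈ C, qfPlus m F w = 0) : Module.finrank F C ≤ m := by
  have hle : C ≤ LinearMap.BilinForm.orthogonal (QuadraticMap.polarBilin (qfPlus m F)) C := by
    intro w hw
    rw [LinearMap.BilinForm.mem_orthogonal_iff]
    intro z hz
    show QuadraticMap.polar ⇑(qfPlus m F) z w = 0
    rw [QuadraticMap.polar, hC _ (C.add_mem hz hw), hC _ hz, hC _ hw]; ring
  have h1 := Submodule.finrank_mono hle
  rw [LinearMap.BilinForm.finrank_orthogonal (nondegenerate_qfPlus m)] at h1
  have := C.finrank_le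
  rw [Module.finrank_fintype_fun_eq_card, Fintype.card_sum, Fintype.card_fin] at h1 this
  omega

/-- The hyperbolic and elliptic models are not isometric. -/
theorem not_isometric_plus_minus [Finite F] {m : ℕ} {a b : F}
    (hab : ∀ z₁ z₂ : F, z₁ ^ 2 + a * z₁ * z₂ + b * z₂ ^ 2 = 0 → z₁ = 0 ∧ z₂ = 0)
    (g : (Fin (m + 1) ⊕ Fin (m + 1) → F) ≃ₗ[F] ((Fin m ⊕ Fin m) ⊕ Fin 2 → F)) :
    ¬ ∀ v, qfMinus m F a b (g v) = qfPlus (m + 1) F v := by
  intro hg
  obtain ⟨U, hU, hUr⟩ := exists_singular_plus (F := F) (m + 1)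
  have := singular_finrank_le_minus m hab (U.map (g : _ →ₗ[F] _)) (by
    rintro _ ⟨u, hu, rfl⟩; exact (hg u).trans (hU u hu))
  rw [LinearEquiv.finrank_map_eq, hUr] at this
  omega

end Singular

section Bases

variable {V : Type*} [AddCommGroup V] [Module F V] [FiniteDimensional F V] [Finite F]

/-- Even dimension: hyperbolic or elliptic basis. -/
theorem exists_even_basis {m : ℕ} (hV : Module.finrank F V = 2 * m)
    (Q : QuadraticForm F V) (hQ : (QuadraticMap.polarBilin Q).Nondegenerate) :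
    (∃ b : Module.Basis (Fin m ⊕ Fin m) F V, (∀ i, Q (b (Sum.inl i)) = 0 ∧ Q (b (Sum.inr i)) = 0) ∧
      (∀ i j, QuadraticMap.polar ⇑Q (b (Sum.inl i)) (b (Sum.inr j)) = if i = j then 1 else 0) ∧
      (∀ i j, QuadraticMap.polar ⇑Q (b (Sum.inl i)) (b (Sum.inl j)) = 0 ∧
        QuadraticMap.polar ⇑Q (b (Sum.inr i)) (b (Sum.inr j)) = 0)) ∨
    (1 ≤ m ∧ ∃ (b : Module.Basis ((Fin (m - 1) ⊕ Fin (m - 1)) ⊕ Fin 2) F V) (ζ : F),
      (∀ t : F, t ^ 2 + t + ζ ≠ 0) ∧
      (∀ i, Q (b (Sum.inl (Sum.inl i))) = 0 ∧ Q (b (Sum.inl (Sum.inr i))) = 0) ∧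
      (∀ i j, QuadraticMap.polar ⇑Q (b (Sum.inl (Sum.inl i))) (b (Sum.inl (Sum.inr j))) =
        if i = j then 1 else 0) ∧
      (∀ i j, QuadraticMap.polar ⇑Q (b (Sum.inl (Sum.inl i))) (b (Sum.inl (Sum.inl j))) = 0 ∧
        QuadraticMap.polar ⇑Q (b (Sum.inl (Sum.inr i))) (b (Sum.inl (Sum.inr j))) = 0) ∧
      (∀ i (k : Fin 2), QuadraticMap.polar ⇑Q (b (Sum.inl (Sum.inl i))) (b (Sum.inr k)) = 0 ∧
        QuadraticMap.polar ⇑Q (b (Sum.inl (Sum.inr i))) (b (Sum.inr k)) = 0) ∧
      Q (b (Sum.inr 0)) = 1 ∧ QuadraticMap.polar ⇑Q (b (Sum.inr 0)) (b (Sum.inr 1)) = 1 ∧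
      Q (b (Sum.inr 1)) = ζ) := by
  obtain ⟨k, r, b, hr, hq, hEF, hEE, hER, hAn⟩ := exists_witt_basis Q hQ
  have hc : 2 * m = k + k + r := by
    rw [← hV, Module.finrank_eq_card_basis b]; simp [Fintype.card_sum]
  obtain rfl | rfl : r = 0 ∨ r = 2 := by omega
  · obtain rfl : k = m := by omega
    left
    refine ⟨b.reindex (Equiv.sumEmpty (Fin k ⊕ Fin k) (Fin 0)), ?_⟩
    simp only [Module.Basis.reindex_apply, Equiv.sumEmpty_symm_apply]
    exact ⟨hq, hEF, hEE⟩
  · right
    obtain rfl : m = k + 1 := by omega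
    refine ⟨Nat.le_add_left 1 k, ?_⟩
    rw [Nat.add_sub_cancel]
    set u := b (Sum.inr 0)
    set w := b (Sum.inr 1)
    have han : ∀ s t : F, Q (s • u + t • w) = 0 → s = 0 ∧ t = 0 := fun s t h => by
      have h' := hAn ![s, t] (by simpa [Fin.sum_univ_two] using h)
      exact ⟨congrFun h' 0, congrFun h' 1⟩
    have hli : ∀ s t : F, s • u + t • w = 0 → s = 0 ∧ t = 0 := fun s t h =>
      han s t (by rw [h, QuadraticMap.map_zero])
    obtain ⟨s, t, hx⟩ := exists_value_one Q han
    set x := s • u + t • w with hxd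
    -- a second plane vector outside the line of `x`
    obtain ⟨s', t', hdet⟩ : ∃ s' t' : F, s * t' - t * s' ≠ 0 := by
      by_cases hs : s = 0
      · refine ⟨1, 0, ?_⟩
        have ht : t ≠ 0 := fun ht => by rw [hxd, hs, ht] at hx; simp at hx
        simpa [hs] using ht
      · exact ⟨0, 1, by simpa using hs⟩
    set z := s' • u + t' • w with hzd
    obtain ⟨p, r', hy, hr'⟩ : ∃ p r' : F, QuadraticMap.polar ⇑Q x (p • x + r' • z) = 1 ∧ r' ≠ 0 := by
      have hxx : QuadraticMap.polar ⇑Q x x = 2 := by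
        rw [QuadraticMap.polar_self, hx, nsmul_eq_mul, mul_one]; norm_num
      by_cases hxz : QuadraticMap.polar ⇑Q x z = 0
      · by_cases h2 : (2 : F) = 0
        · exfalso
          have hx0 : x = 0 := by
            refine hQ.1 x ?_
            intro v
            have hu : QuadraticMap.polarBilin Q x u = 0 ∧ QuadraticMap.polarBilin Q x w = 0 := by
              have e1 : QuadraticMap.polarBilin Q x x = 0 := by
                rw [QuadraticMap.polarBilin_apply_apply, hxx, h2]
              have e2 : QuadraticMap.polarBilin Q x z = 0 := hxz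
              generalize hφ : QuadraticMap.polarBilin Q x = φ at e1 e2 ⊢
              rw [hxd, map_add, map_smul, map_smul, smul_eq_mul, smul_eq_mul] at e1
              rw [hzd, map_add, map_smul, map_smul, smul_eq_mul, smul_eq_mul] at e2
              exact ⟨(mul_eq_zero.1 (show (s * t' - t * s') * φ u = 0 by
                  linear_combination t' * e1 - t * e2)).resolve_left hdet,
                (mul_eq_zero.1 (show (s * t' - t * s') * φ w = 0 by
                  linear_combination s * e2 - s' * e1)).resolve_left hdet⟩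
            have h0 : QuadraticMap.polarBilin Q x = 0 := b.ext fun i => by
              rcases i with (i | i) | j
              · rw [hxd]; simp [QuadraticMap.polar_comm (⇑Q) u, QuadraticMap.polar_comm (⇑Q) w, u, w, hER]
              · rw [hxd]; simp [QuadraticMap.polar_comm (⇑Q) u, QuadraticMap.polar_comm (⇑Q) w, u, w, hER]
              · fin_cases j
                · simpa using hu.1
                · simpa using hu.2
            rw [h0]; rfl
          rw [hx0, QuadraticMap.map_zero] at hx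
          exact zero_ne_one hx
        · refine ⟨1 / 2, 1, ?_, one_ne_zero⟩
          rw [QuadraticMap.polar_add_right, QuadraticMap.polar_smul_right,
            QuadraticMap.polar_smul_right, hxx, hxz, smul_zero, add_zero, smul_eq_mul]
          field_simp
      · refine ⟨0, (QuadraticMap.polar ⇑Q x z)⁻¹, ?_, inv_ne_zero hxz⟩
        rw [zero_smul, zero_add, QuadraticMap.polar_smul_right, smul_eq_mul, inv_mul_cancel₀ hxz]
    set y := p • x + r' • z with hyd
    have hxy_li : ∀ c d : F, c • x + d • y = 0 → c = 0 ∧ d = 0 := by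
      intro c d h
      have h1 : (c * s + d * (p * s + r' * s')) • u + (c * t + d * (p * t + r' * t')) • w = 0 := by
        rw [← h, hyd, hxd, hzd]; module
      obtain ⟨h3, h4⟩ := hli _ _ h1
      have hd : d = 0 := by
        have : (d * r') * (s * t' - t * s') = 0 := by linear_combination s * h4 - t * h3
        exact (mul_eq_zero.1 ((mul_eq_zero.1 this).resolve_right hdet)).resolve_right hr'
      subst hd
      refine ⟨?_, rfl⟩
      have : c * (s * t' - t * s') = 0 := by linear_combination t' * h3 - s' * h4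
      exact (mul_eq_zero.1 this).resolve_right hdet
    let v' : (Fin k ⊕ Fin k) ⊕ Fin 2 → V := Sum.elim (fun i => b (Sum.inl i)) ![x, y]
    have hli' : LinearIndependent F v' := by
      refine LinearIndependent.sum_type (b.linearIndependent.comp _ Sum.inl_injective)
        (LinearIndependent.pair_iff.2 hxy_li) ?_
      have hdisj := (linearIndependent_sum.1 b.linearIndependent).2.2
      refine hdisj.mono le_rfl (Submodule.span_le.2 ?_)
      have hu : u ∈ Submodule.span F (Set.range (⇑b ∘ Sum.inr)) := Submodule.subset_span ⟨0, rfl⟩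
      have hw : w ∈ Submodule.span F (Set.range (⇑b ∘ Sum.inr)) := Submodule.subset_span ⟨1, rfl⟩
      have hxm : x ∈ Submodule.span F (Set.range (⇑b ∘ Sum.inr)) :=
        Submodule.add_mem _ (Submodule.smul_mem _ _ hu) (Submodule.smul_mem _ _ hw)
      rintro _ ⟨j, rfl⟩
      fin_cases j
      · exact hxm
      · exact Submodule.add_mem _ (Submodule.smul_mem _ _ hxm)
          (Submodule.smul_mem _ _ (Submodule.add_mem _ (Submodule.smul_mem _ _ hu) (Submodule.smul_mem _ _ hw)))
    refine ⟨basisOfLinearIndependentOfCardEqFinrank hli' (by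
      rw [hV]; simp [Fintype.card_sum]; omega), Q y, ?_⟩
    rw [coe_basisOfLinearIndependentOfCardEqFinrank]
    refine ⟨fun c hc => ?_, hq, hEF, hEE, fun i j => ?_, hx, hy, rfl⟩
    · have h1 : Q (c • x + y) = c ^ 2 + c + Q y := by
        rw [QuadraticMap.map_add ⇑Q (c • x) y, QuadraticMap.map_smul, hx, QuadraticMap.polar_smul_left,
          hy, smul_eq_mul, smul_eq_mul]
        ring
      rw [hc] at h1
      have h2 : Q ((c * s + (p * s + r' * s')) • u + (c * t + (p * t + r' * t')) • w) = 0 := by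
        rw [← h1, hyd, hxd, hzd]; congr 1; module
      obtain ⟨h3, h4⟩ := han _ _ h2
      exact one_ne_zero (hxy_li c 1 (by
        rw [one_smul, hyd, hxd, hzd]
        have : c • (s • u + t • w) + (p • (s • u + t • w) + r' • (s' • u + t' • w)) =
          (c * s + (p * s + r' * s')) • u + (c * t + (p * t + r' * t')) • w := by module
        rw [this, h3, h4, zero_smul, zero_smul, add_zero])).2
    · fin_cases j
      · simp [v', hxd, QuadraticMap.polar_add_right, QuadraticMap.polar_smul_right, u, w, hER]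
      · simp [v', hyd, hxd, hzd, QuadraticMap.polar_add_right, QuadraticMap.polar_smul_right, u, w, hER]

/-- Odd dimension: hyperbolic pairs and one non-singular vector. -/
theorem exists_odd_basis {m : ℕ} (hV : Module.finrank F V = 2 * m + 1) (Q : QuadraticForm F V)
    (hQ : (QuadraticMap.polarBilin Q).Nondegenerate) :
    ∃ b : Module.Basis (Unit ⊕ (Fin m ⊕ Fin m)) F V, Q (b (Sum.inl ())) ≠ 0 ∧
      (∀ i, QuadraticMap.polar ⇑Q (b (Sum.inl ())) (b (Sum.inr (Sum.inl i))) = 0 ∧
        QuadraticMap.polar ⇑Q (b (Sum.inl ())) (b (Sum.inr (Sum.inr i))) = 0) ∧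
      (∀ i, Q (b (Sum.inr (Sum.inl i))) = 0 ∧ Q (b (Sum.inr (Sum.inr i))) = 0) ∧
      (∀ i j, QuadraticMap.polar ⇑Q (b (Sum.inr (Sum.inl i))) (b (Sum.inr (Sum.inr j))) =
        if i = j then 1 else 0) ∧
      (∀ i j, QuadraticMap.polar ⇑Q (b (Sum.inr (Sum.inl i))) (b (Sum.inr (Sum.inl j))) = 0 ∧
        QuadraticMap.polar ⇑Q (b (Sum.inr (Sum.inr i))) (b (Sum.inr (Sum.inr j))) = 0) := by
  obtain ⟨k, r, b, hr, hq, hEF, hEE, hER, hAn⟩ := exists_witt_basis Q hQ
  have hc : 2 * m + 1 = k + k + r := by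
    rw [← hV, Module.finrank_eq_card_basis b]; simp [Fintype.card_sum]
  obtain rfl : r = 1 := by omega
  obtain rfl : k = m := by omega
  let e : ((Fin k ⊕ Fin k) ⊕ Fin 1) ≃ (Unit ⊕ (Fin k ⊕ Fin k)) :=
    (Equiv.sumComm _ _).trans (Equiv.sumCongr finOneEquiv (Equiv.refl _))
  refine ⟨b.reindex e, ?_⟩
  simp only [Module.Basis.reindex_apply]
  have he0 : e.symm (Sum.inl ()) = Sum.inr 0 := rfl
  have he1 : ∀ x, e.symm (Sum.inr x) = Sum.inl x := fun x => rfl
  simp only [he0, he1]
  refine ⟨fun h => ?_, fun i => ⟨?_, ?_⟩, hq, hEF, hEE⟩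
  · exact one_ne_zero (congrFun (hAn (fun _ => 1) (by simpa using h)) 0)
  · rw [QuadraticMap.polar_comm]; exact (hER i 0).1
  · rw [QuadraticMap.polar_comm]; exact (hER i 0).2

end Bases

end Cfsg.Agent.Classical
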