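import Mathlib
import Cfsg.Prelude.Def_Classical
import Cfsg.Agent.Lib.Classical.QuadModels

/-! Zeros, isometry counts and orders of orthogonal groups over finite fields. -/

set_option autoImplicit false

namespace Cfsg.Agent.Classical

variable {F : Type*} [Field F] {V W U : Type*} [AddCommGroup V] [Module F V] [AddCommGroup W]
  [Module F W] [AddCommGroup U] [Module F U]

/-- Number of isometries of a quadratic form. -/
noncomputable def isoCard (Q : QuadraticForm F V) : ℕ :=
  Nat.card {g : V ≃ₗ[F] V // ∀ v, Q (g v) = Q v}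

/-- `Q` plus a hyperbolic plane. -/
noncomputable def hypExt (Q : QuadraticForm F V) : QuadraticForm F ((F × F) × V) :=
  QuadraticMap.linMulLin ((LinearMap.fst F F F).comp (LinearMap.fst F (F × F) V))
      ((LinearMap.snd F F F).comp (LinearMap.fst F (F × F) V)) +
    Q.comp (LinearMap.snd F (F × F) V)

theorem hypExt_apply (Q : QuadraticForm F V) (x : (F × F) × V) :
    hypExt Q x = x.1.1 * x.1.2 + Q x.2 := by
  simp [hypExt]

theorem polar_hypExt (Q : QuadraticForm F V) (x y : (F × F) × V) :
    QuadraticMap.polar ⇑(hypExt Q) x y =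
      x.1.1 * y.1.2 + y.1.1 * x.1.2 + QuadraticMap.polar ⇑Q x.2 y.2 := by
  simp only [QuadraticMap.polar, hypExt_apply, Prod.fst_add, Prod.snd_add]
  ring

theorem nondegenerate_hypExt {Q : QuadraticForm F V} (hQ : (QuadraticMap.polarBilin Q).Nondegenerate) :
    (QuadraticMap.polarBilin (hypExt Q)).Nondegenerate := by
  refine nondegenerate_of_separatingLeft _ fun x hx => ?_
  have h1 := hx ((0, 1), 0)
  have h2 := hx ((1, 0), 0)
  simp [polar_hypExt] at h1 h2
  have h3 : x.2 = 0 := hQ.1 x.2 fun v => by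
    have h := hx ((0, 0), v)
    simpa [polar_hypExt] using h
  exact Prod.ext (Prod.ext h1 h2) h3

theorem isoCard_congr {Q : QuadraticForm F V} {Q' : QuadraticForm F W} (e : V ≃ₗ[F] W)
    (h : ∀ v, Q' (e v) = Q v) : isoCard Q = isoCard Q' := by
  have h' : ∀ w, Q (e.symm w) = Q' w := fun w => by rw [← h, e.apply_symm_apply]
  exact Nat.card_congr
    { toFun := fun g => ⟨(e.symm.trans g.1).trans e, fun w => by
        simp only [LinearEquiv.trans_apply, h, g.2, h']⟩
      invFun := fun g => ⟨(e.trans g.1).trans e.symm, fun v => by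
        simp only [LinearEquiv.trans_apply, h', g.2, h]⟩
      left_inv := fun g => Subtype.ext (LinearEquiv.ext fun v => by simp)
      right_inv := fun g => Subtype.ext (LinearEquiv.ext fun v => by simp) }

theorem natCard_isometryGroup {ι : Type} [Fintype ι] [DecidableEq ι] (Q : QuadraticForm F (ι → F)) :
    Nat.card (isometryGroup F ⇑Q) = isoCard Q := by
  let e : GL ι F ≃* ((ι → F) ≃ₗ[F] (ι → F)) :=
    (Matrix.GeneralLinearGroup.toLin).trans
      (LinearMap.GeneralLinearGroup.generalLinearEquiv F (ι → F))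
  have key : ∀ (g : GL ι F) (v : ι → F), e g v = Matrix.mulVec (g : Matrix ι ι F) v := fun g v => rfl
  refine Nat.card_congr (Equiv.subtypeEquiv e.toEquiv fun g => ?_)
  constructor
  · intro h v
    show Q (e g v) = Q v
    rw [key]; exact h v v
  · intro h u v
    show Q (Matrix.mulVec (g : Matrix ι ι F) u) = Q u
    rw [← key]; exact h u

theorem natCard_isometryGroup' {ι : Type} [Fintype ι] [DecidableEq ι] {f : (ι → F) → F}
    (Q : QuadraticForm F (ι → F)) (h : ⇑Q = f) : Nat.card (isometryGroup F f) = isoCard Q := by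
  subst h; exact natCard_isometryGroup Q

/-- Witt's theorem for a pair of embeddings of an abstract space. -/
theorem witt_maps [FiniteDimensional F V] (Q : QuadraticForm F V)
    (hQ : (QuadraticMap.polarBilin Q).Nondegenerate) (L L' : U →ₗ[F] V) (hL : Function.Injective L)
    (hL' : Function.Injective L') (h : ∀ u, Q (L' u) = Q (L u)) :
    ∃ g : V ≃ₗ[F] V, (∀ v, Q (g v) = Q v) ∧ ∀ u, g (L u) = L' u := by
  let e := LinearEquiv.ofInjective L hL
  obtain ⟨g, hg, hgx⟩ := witt_quadratic Q hQ (LinearMap.range L)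
    (L'.comp (e.symm : LinearMap.range L →ₗ[F] U)) (hL'.comp e.symm.injective) (fun x => by
      obtain ⟨u, rfl⟩ := e.surjective x
      simp only [LinearMap.comp_apply, LinearEquiv.coe_coe, e.symm_apply_apply]
      exact h u)
  refine ⟨g, hg, fun u => ?_⟩
  have := hgx (e u)
  simpa [e] using this

/-- Hyperbolic pairs. -/
def HypPair (Q : QuadraticForm F V) : Type _ :=
  {p : V × V // p.1 ≠ 0 ∧ Q p.1 = 0 ∧ Q p.2 = 0 ∧ QuadraticMap.polar ⇑Q p.1 p.2 = 1}

/-- The linear map sending the standard pair to a given one. -/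
noncomputable def pairMap (e f : V) : F × F →ₗ[F] V :=
  (LinearMap.toSpanSingleton F V e).coprod (LinearMap.toSpanSingleton F V f)

theorem pairMap_apply (e f : V) (c : F × F) : pairMap e f c = c.1 • e + c.2 • f := by
  simp [pairMap]

theorem pairMap_quad (Q : QuadraticForm F V) {e f : V} (he : Q e = 0) (hf : Q f = 0)
    (h : QuadraticMap.polar ⇑Q e f = 1) (c : F × F) : Q (pairMap e f c) = c.1 * c.2 := by
  rw [pairMap_apply, QuadraticMap.map_add ⇑Q, QuadraticMap.map_smul, QuadraticMap.map_smul,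
    QuadraticMap.polar_smul_left, QuadraticMap.polar_smul_right, he, hf, h]
  simp

theorem pairMap_injective (Q : QuadraticForm F V) {e f : V} (he : Q e = 0) (hf : Q f = 0)
    (h : QuadraticMap.polar ⇑Q e f = 1) : Function.Injective (pairMap (F := F) e f) := by
  refine (injective_iff_map_eq_zero _).2 fun c hc => ?_
  rw [pairMap_apply] at hc
  have hfe : QuadraticMap.polar ⇑Q f e = 1 := by rw [QuadraticMap.polar_comm, h]
  have hee : QuadraticMap.polar ⇑Q e e = 0 := by rw [QuadraticMap.polar_self, he, smul_zero]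
  have hff : QuadraticMap.polar ⇑Q f f = 0 := by rw [QuadraticMap.polar_self, hf, smul_zero]
  have h1 := congrArg (QuadraticMap.polar ⇑Q f) hc
  have h2 := congrArg (QuadraticMap.polar ⇑Q e) hc
  simp [hfe, hff, hee, h] at h1 h2
  exact Prod.ext h1 h2

theorem isoCard_hypExt [FiniteDimensional F V] {Q : QuadraticForm F V}
    (hQ : (QuadraticMap.polarBilin Q).Nondegenerate) :
    isoCard (hypExt Q) = Nat.card (HypPair (hypExt Q)) * isoCard Q := by
  classical
  set R := hypExt Q with hR
  have hRn := nondegenerate_hypExt hQ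
  let E : (F × F) × V := ((1, 0), 0)
  let F0 : (F × F) × V := ((0, 1), 0)
  have hE : R E = 0 := by simp [hR, E, hypExt_apply]
  have hF : R F0 = 0 := by simp [hR, F0, hypExt_apply]
  have hEF : QuadraticMap.polar ⇑R E F0 = 1 := by simp [hR, E, F0, polar_hypExt]
  have hex : ∀ p : HypPair R, ∃ g : {g : ((F × F) × V) ≃ₗ[F] ((F × F) × V) // ∀ v, R (g v) = R v},
      g.1 E = p.1.1 ∧ g.1 F0 = p.1.2 := by
    rintro ⟨⟨e, f⟩, -, he, hf, hef⟩
    obtain ⟨g, hg, hgu⟩ := witt_maps R hRn (pairMap E F0) (pairMap e f) (pairMap_injective R hE hF hEF)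
      (pairMap_injective R he hf hef)
      (fun u => by rw [pairMap_quad R hE hF hEF, pairMap_quad R he hf hef])
    refine ⟨⟨g, hg⟩, ?_, ?_⟩
    · simpa [pairMap_apply] using hgu (1, 0)
    · simpa [pairMap_apply] using hgu (0, 1)
  choose sec hsec1 hsec2 using hex
  have ext1 : ∀ h : {h : V ≃ₗ[F] V // ∀ v, Q (h v) = Q v}, ∀ x,
      R (((LinearEquiv.refl F (F × F)).prodCongr h.1) x) = R x := fun h x => by
    simp [hR, hypExt_apply, h.2]
  let φ : HypPair R × {h : V ≃ₗ[F] V // ∀ v, Q (h v) = Q v} →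
      {g : ((F × F) × V) ≃ₗ[F] ((F × F) × V) // ∀ v, R (g v) = R v} := fun x =>
    ⟨((LinearEquiv.refl F (F × F)).prodCongr x.2.1).trans (sec x.1).1, fun v => by
      rw [LinearEquiv.trans_apply, (sec x.1).2, ext1]⟩
  rw [isoCard, isoCard, ← Nat.card_prod]
  refine (Nat.card_congr (Equiv.ofBijective φ ⟨?_, ?_⟩)).symm
  · rintro ⟨p, h⟩ ⟨p', h'⟩ heq
    have hh := congrArg Subtype.val heq
    have e1 := LinearEquiv.congr_fun hh E
    have e2 := LinearEquiv.congr_fun hh F0
    simp [φ, E, F0] at e1 e2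
    have hp : p = p' := Subtype.ext (Prod.ext
      ((hsec1 p).symm.trans (e1.trans (hsec1 p'))) ((hsec2 p).symm.trans (e2.trans (hsec2 p'))))
    subst hp
    refine Prod.ext rfl (Subtype.ext (LinearEquiv.ext fun v => ?_))
    have e3 := (sec p).1.injective (LinearEquiv.congr_fun hh ((0, 0), v))
    simpa using congrArg Prod.snd e3
  · rintro ⟨g, hg⟩
    have hpol : ∀ x y, QuadraticMap.polar ⇑R (g x) (g y) = QuadraticMap.polar ⇑R x y := fun x y => by
      simp only [QuadraticMap.polar, ← map_add, hg]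
    have hp : g E ≠ 0 ∧ R (g E) = 0 ∧ R (g F0) = 0 ∧ QuadraticMap.polar ⇑R (g E) (g F0) = 1 :=
      ⟨by simp [E], (hg E).trans hE, (hg F0).trans hF, (hpol E F0).trans hEF⟩
    let p : HypPair R := ⟨(g E, g F0), hp⟩
    set k := g.trans (sec p).1.symm with hk
    have hkR : ∀ v, R (k v) = R v := fun v => by
      have h1 := (sec p).2 ((sec p).1.symm (g v))
      rw [LinearEquiv.apply_symm_apply, hg] at h1
      exact h1.symm
    have hkE : k E = E := by
      rw [hk, LinearEquiv.trans_apply]
      exact (LinearEquiv.symm_apply_eq _).2 (hsec1 p).symm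
    have hkF : k F0 = F0 := by
      rw [hk, LinearEquiv.trans_apply]
      exact (LinearEquiv.symm_apply_eq _).2 (hsec2 p).symm
    have hkV : ∀ v : V, (k ((0, 0), v)).1 = (0, 0) := by
      intro v
      have hk2 : ∀ x y, QuadraticMap.polar ⇑R (k x) (k y) = QuadraticMap.polar ⇑R x y := fun x y => by
        simp only [QuadraticMap.polar, ← map_add, hkR]
      have h1 := hk2 F0 ((0, 0), v)
      have h2 := hk2 E ((0, 0), v)
      rw [hkF] at h1
      rw [hkE] at h2
      simp [hR, polar_hypExt, E, F0] at h1 h2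
      exact Prod.ext h1 h2
    let L : V →ₗ[F] V :=
      (LinearMap.snd F (F × F) V).comp ((k : _ →ₗ[F] _).comp (LinearMap.inr F (F × F) V))
    have hLk : ∀ v, k ((0, 0), v) = ((0, 0), L v) := fun v => Prod.ext (hkV v) rfl
    have hLQ : ∀ v, Q (L v) = Q v := fun v => by
      have := hkR ((0, 0), v)
      rw [hLk] at this
      simpa [hR, hypExt_apply] using this
    have hinj : Function.Injective L := (injective_iff_map_eq_zero L).2 fun v hv => by
      have : k ((0, 0), v) = k 0 := by rw [hLk, hv, map_zero]; rfl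
      exact congrArg Prod.snd (k.injective this)
    obtain ⟨h, hh⟩ := exists_equiv_of_injective L hinj
    refine ⟨(p, ⟨h, fun v => by rw [hh]; exact hLQ v⟩), Subtype.ext (LinearEquiv.ext ?_)⟩
    rintro ⟨⟨a, b⟩, v⟩
    show (sec p).1 ((a, b), h v) = g ((a, b), v)
    have hdec : ((a, b), v) = a • E + b • F0 + ((0, 0), v) := by simp [E, F0]
    have hkd : k ((a, b), v) = ((a, b), h v) := by
      rw [hdec, map_add, map_add, map_smul, map_smul, hkE, hkF, hLk, hh]
      simp [E, F0]
    rw [← hkd, hk, LinearEquiv.trans_apply, LinearEquiv.apply_symm_apply]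

section Counting

variable [Fintype F] [FiniteDimensional F V]

omit [FiniteDimensional F V] in
theorem natCard_polar_eq_one [FiniteDimensional F V] {Q : QuadraticForm F V}
    (hQ : (QuadraticMap.polarBilin Q).Nondegenerate) {e : V} (he : e ≠ 0) :
    Nat.card {w : V // QuadraticMap.polar ⇑Q e w = 1} * Fintype.card F = Nat.card V := by
  obtain ⟨u, -, heu⟩ := nondeg_top hQ e trivial he
  set φ : V →ₗ[F] F := QuadraticMap.polarBilin Q e
  set w₀ := (φ u)⁻¹ • u
  have h1 : φ w₀ = 1 := by rw [map_smul, smul_eq_mul, inv_mul_cancel₀ heu]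
  rw [← Nat.card_eq_fintype_card, ← Nat.card_prod]
  exact Nat.card_congr
    { toFun := fun x => x.1.1 + (x.2 - 1) • w₀
      invFun := fun v => (⟨v + (1 - φ v) • w₀, by
        show φ (v + (1 - φ v) • w₀) = 1
        rw [map_add, map_smul, h1]; simp⟩, φ v)
      left_inv := fun x => by
        have hx : φ x.1.1 = 1 := x.1.2
        refine Prod.ext (Subtype.ext ?_) ?_
        · show x.1.1 + (x.2 - 1) • w₀ + (1 - φ (x.1.1 + (x.2 - 1) • w₀)) • w₀ = x.1.1
          rw [map_add, map_smul, hx, h1, smul_eq_mul]; module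
        · show φ (x.1.1 + (x.2 - 1) • w₀) = x.2
          rw [map_add, map_smul, hx, h1, smul_eq_mul]; ring
      right_inv := fun v => by
        show v + (1 - φ v) • w₀ + (φ v - 1) • w₀ = v
        module }

/-- Each non-zero singular vector lies in `q ^ (n-2)` hyperbolic pairs. -/
theorem natCard_hypPair {Q : QuadraticForm F V} (hQ : (QuadraticMap.polarBilin Q).Nondegenerate) :
    Nat.card (HypPair Q) * Fintype.card F ^ 2 =
      (Nat.card {v : V // Q v = 0} - 1) * Nat.card V := by
  classical
  have : Finite V := Module.finite_of_finite F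
  have := Fintype.ofFinite V
  have hfib : ∀ e : {v : V // v ≠ 0 ∧ Q v = 0},
      Nat.card {f : V // Q f = 0 ∧ QuadraticMap.polar ⇑Q e.1 f = 1} * Fintype.card F ^ 2 = Nat.card V := by
    rintro ⟨e, he0, he⟩
    have h2 : Nat.card {f : V // Q f = 0 ∧ QuadraticMap.polar ⇑Q e f = 1} * Fintype.card F =
        Nat.card {w : V // QuadraticMap.polar ⇑Q e w = 1} := by
      rw [← Nat.card_eq_fintype_card, ← Nat.card_prod]
      have hee : QuadraticMap.polar ⇑Q e e = 0 := by rw [QuadraticMap.polar_self, he, smul_zero]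
      have hval : ∀ (f : V) (t : F), QuadraticMap.polar ⇑Q e f = 1 →
          Q (f + t • e) = Q f + t := fun f t hf => by
        rw [quad_add_smul', he, QuadraticMap.polarBilin_apply_apply, QuadraticMap.polar_comm, hf]
        ring
      have hpe : ∀ (f : V) (t : F), QuadraticMap.polar ⇑Q e (f + t • e) = QuadraticMap.polar ⇑Q e f :=
        fun f t => by rw [QuadraticMap.polar_add_right, QuadraticMap.polar_smul_right, hee, smul_zero, add_zero]
      exact Nat.card_congr
        { toFun := fun x => ⟨x.1.1 + x.2 • e, by rw [hpe]; exact x.1.2.2⟩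
          invFun := fun w => (⟨w.1 + (-Q w.1) • e, by rw [hval _ _ w.2]; ring, by rw [hpe]; exact w.2⟩, Q w.1)
          left_inv := fun x => by
            have hx := hval x.1.1 x.2 x.1.2.2
            rw [x.1.2.1, zero_add] at hx
            refine Prod.ext (Subtype.ext ?_) hx
            show x.1.1 + x.2 • e + (-Q (x.1.1 + x.2 • e)) • e = x.1.1
            rw [hx]; module
          right_inv := fun w => Subtype.ext (by
            show w.1 + (-Q w.1) • e + Q w.1 • e = w.1
            module) }
    rw [sq, ← mul_assoc, h2, natCard_polar_eq_one hQ he0]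
  let eqv : HypPair Q ≃ Σ e : {v : V // v ≠ 0 ∧ Q v = 0},
      {f : V // Q f = 0 ∧ QuadraticMap.polar ⇑Q e.1 f = 1} :=
    { toFun := fun p => ⟨⟨p.1.1, p.2.1, p.2.2.1⟩, ⟨p.1.2, p.2.2.2⟩⟩
      invFun := fun s => ⟨(s.1.1, s.2.1), s.1.2.1, s.1.2.2, s.2.2⟩
      left_inv := fun p => rfl
      right_inv := fun s => rfl }
  rw [Nat.card_congr eqv, Nat.card_sigma, Finset.sum_mul, Finset.sum_congr rfl (fun e _ => hfib e),
    Finset.sum_const, Finset.card_univ, smul_eq_mul]
  congr 1
  rw [Fintype.card_subtype, Nat.card_eq_fintype_card, Fintype.card_subtype,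
    ← Finset.card_erase_of_mem (a := (0 : V)) (by simp)]
  congr 1
  ext v; simp

open _root_.Classical in
theorem natCard_mul_eq (c : F) :
    Nat.card {p : F × F // p.1 * p.2 = c} =
      (Fintype.card F - 1) + if c = 0 then Fintype.card F else 0 := by
  classical
  let eqv : {p : F × F // p.1 * p.2 = c} ≃ Fˣ ⊕ {y : F // c = 0} :=
    { toFun := fun p => if h : p.1.1 = 0 then
          Sum.inr ⟨p.1.2, by rw [← p.2, h, zero_mul]⟩ else Sum.inl (Units.mk0 _ h)
      invFun := Sum.elim (fun x : Fˣ => ⟨((x : F), (x : F)⁻¹ * c), by simp⟩)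
        (fun y => ⟨(0, y.1), by simp [y.2]⟩)
      left_inv := fun p => by
        obtain ⟨⟨x, y⟩, h⟩ := p
        simp only at h
        by_cases hx : x = 0
        · simp [hx]
        · simp only [dif_neg hx, Sum.elim_inl]
          refine Subtype.ext (Prod.ext rfl ?_)
          show x⁻¹ * c = y
          rw [← h, inv_mul_cancel_left₀ hx]
      right_inv := fun z => by
        rcases z with x | y
        · simp
        · simp }
  rw [Nat.card_congr eqv, Nat.card_sum, Nat.card_units, Nat.card_eq_fintype_card]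
  split_ifs with h
  · rw [Nat.card_congr (Equiv.subtypeUnivEquiv fun _ => h), Nat.card_eq_fintype_card]
  · have : IsEmpty {y : F // c = 0} := ⟨fun y => h y.2⟩
    rw [Nat.card_of_isEmpty]

/-- Adding a hyperbolic plane to the counts of a value. -/
theorem natCard_hypExt_eq (Q : QuadraticForm F V) (c : F) :
    Nat.card {x : (F × F) × V // hypExt Q x = c} =
      Fintype.card F * Nat.card {v : V // Q v = c} + (Fintype.card F - 1) * Nat.card V := by
  classical
  have : Finite V := Module.finite_of_finite F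
  have := Fintype.ofFinite V
  let eqv : {x : (F × F) × V // hypExt Q x = c} ≃ Σ v : V, {p : F × F // p.1 * p.2 = c - Q v} :=
    { toFun := fun x => ⟨x.1.2, x.1.1, eq_sub_of_add_eq (by rw [← hypExt_apply]; exact x.2)⟩
      invFun := fun s => ⟨(s.2.1, s.1), by rw [hypExt_apply]; show _ + Q s.1 = c; rw [s.2.2, sub_add_cancel]⟩
      left_inv := fun x => rfl
      right_inv := fun s => rfl }
  rw [Nat.card_congr eqv, Nat.card_sigma]
  simp only [natCard_mul_eq, sub_eq_zero, Finset.sum_add_distrib, Finset.sum_const, Finset.card_univ,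
    smul_eq_mul, ← Nat.card_eq_fintype_card, Finset.sum_ite, Finset.sum_const_zero, add_zero]
  rw [Nat.card_eq_fintype_card (α := {v : V // Q v = c}), Fintype.card_subtype,
    Finset.filter_congr (q := fun v => Q v = c) (fun v _ => eq_comm)]
  ring

end Counting

section Models

variable [Fintype F]

/-- `qfPlus (m+1)` is `qfPlus m` plus a plane. -/
def plusStep (m : ℕ) : ((F × F) × (Fin m ⊕ Fin m → F)) ≃ₗ[F] (Fin (m + 1) ⊕ Fin (m + 1) → F) where
  toFun x := Sum.elim (Fin.cons x.1.1 (x.2 ∘ Sum.inl)) (Fin.cons x.1.2 (x.2 ∘ Sum.inr))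
  invFun v := ((v (Sum.inl 0), v (Sum.inr 0)),
    Sum.elim (fun i => v (Sum.inl i.succ)) (fun i => v (Sum.inr i.succ)))
  map_add' x y := by
    funext i
    rcases i with i | i <;> refine Fin.cases ?_ ?_ i <;> simp
  map_smul' c x := by
    funext i
    rcases i with i | i <;> refine Fin.cases ?_ ?_ i <;> simp
  left_inv x := by
    obtain ⟨⟨a, b⟩, w⟩ := x
    refine Prod.ext (by simp) (funext fun i => ?_)
    rcases i with i | i <;> simp
  right_inv v := by
    funext i
    rcases i with i | i <;> refine Fin.cases ?_ ?_ i <;> simp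

theorem qfPlus_step (m : ℕ) (x) : qfPlus (m + 1) F (plusStep m x) = hypExt (qfPlus m F) x := by
  simp [qfPlus_apply, quadFormPlus, hypExt_apply, plusStep, Fin.sum_univ_succ]

/-- `qfMinus (m+1)` is `qfMinus m` plus a plane. -/
def minusStep (m : ℕ) : ((F × F) × ((Fin m ⊕ Fin m) ⊕ Fin 2 → F)) ≃ₗ[F]
    ((Fin (m + 1) ⊕ Fin (m + 1)) ⊕ Fin 2 → F) where
  toFun x := Sum.elim (Sum.elim (Fin.cons x.1.1 fun i => x.2 (Sum.inl (Sum.inl i)))
    (Fin.cons x.1.2 fun i => x.2 (Sum.inl (Sum.inr i)))) (x.2 ∘ Sum.inr)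
  invFun v := ((v (Sum.inl (Sum.inl 0)), v (Sum.inl (Sum.inr 0))),
    Sum.elim (Sum.elim (fun i => v (Sum.inl (Sum.inl i.succ))) (fun i => v (Sum.inl (Sum.inr i.succ))))
      (v ∘ Sum.inr))
  map_add' x y := by
    funext i
    rcases i with (i | i) | i
    · refine Fin.cases ?_ ?_ i <;> simp
    · refine Fin.cases ?_ ?_ i <;> simp
    · simp
  map_smul' c x := by
    funext i
    rcases i with (i | i) | i
    · refine Fin.cases ?_ ?_ i <;> simp
    · refine Fin.cases ?_ ?_ i <;> simp
    · simp
  left_inv x := by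
    obtain ⟨⟨a, b⟩, w⟩ := x
    refine Prod.ext (by simp) (funext fun i => ?_)
    rcases i with (i | i) | i <;> simp
  right_inv v := by
    funext i
    rcases i with (i | i) | i
    · refine Fin.cases ?_ ?_ i <;> simp
    · refine Fin.cases ?_ ?_ i <;> simp
    · simp

theorem qfMinus_step (m : ℕ) (a b : F) (x) :
    qfMinus (m + 1) F a b (minusStep m x) = hypExt (qfMinus m F a b) x := by
  simp [qfMinus_apply, quadFormMinus, hypExt_apply, minusStep, Fin.sum_univ_succ]
  ring

/-- `qfOdd (m+1)` is `qfOdd m` plus a plane. -/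
def oddStep (m : ℕ) : ((F × F) × (Unit ⊕ (Fin m ⊕ Fin m) → F)) ≃ₗ[F]
    (Unit ⊕ (Fin (m + 1) ⊕ Fin (m + 1)) → F) where
  toFun x := Sum.elim (x.2 ∘ Sum.inl) (Sum.elim (Fin.cons x.1.1 fun i => x.2 (Sum.inr (Sum.inl i)))
    (Fin.cons x.1.2 fun i => x.2 (Sum.inr (Sum.inr i))))
  invFun v := ((v (Sum.inr (Sum.inl 0)), v (Sum.inr (Sum.inr 0))),
    Sum.elim (v ∘ Sum.inl)
      (Sum.elim (fun i => v (Sum.inr (Sum.inl i.succ))) (fun i => v (Sum.inr (Sum.inr i.succ)))))
  map_add' x y := by
    funext i
    rcases i with i | (i | i)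
    · simp
    · refine Fin.cases ?_ ?_ i <;> simp
    · refine Fin.cases ?_ ?_ i <;> simp
  map_smul' c x := by
    funext i
    rcases i with i | (i | i)
    · simp
    · refine Fin.cases ?_ ?_ i <;> simp
    · refine Fin.cases ?_ ?_ i <;> simp
  left_inv x := by
    obtain ⟨⟨a, b⟩, w⟩ := x
    refine Prod.ext (by simp) (funext fun i => ?_)
    rcases i with i | (i | i) <;> simp
  right_inv v := by
    funext i
    rcases i with i | (i | i)
    · simp
    · refine Fin.cases ?_ ?_ i <;> simp
    · refine Fin.cases ?_ ?_ i <;> simp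

theorem qfOdd_step (m : ℕ) (x) : qfOdd (m + 1) F (oddStep m x) = hypExt (qfOdd m F) x := by
  simp [qfOdd_apply, quadFormOdd, hypExt_apply, oddStep, Fin.sum_univ_succ]
  ring

omit [Fintype F] in
theorem zeros_congr {Q : QuadraticForm F V} {Q' : QuadraticForm F W} (e : V ≃ₗ[F] W)
    (h : ∀ v, Q' (e v) = Q v) (c : F) :
    Nat.card {v : V // Q v = c} = Nat.card {w : W // Q' w = c} :=
  Nat.card_congr (Equiv.subtypeEquiv e.toEquiv fun v => by rw [← h]; rfl)

/-- Recursion for the order of the isometry group when a plane is added. -/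
theorem isoCard_step [FiniteDimensional F V] [FiniteDimensional F W] {Q : QuadraticForm F V}
    {Q' : QuadraticForm F W} (hQ : (QuadraticMap.polarBilin Q).Nondegenerate)
    (e : ((F × F) × V) ≃ₗ[F] W) (h : ∀ x, Q' (e x) = hypExt Q x) :
    isoCard Q' = (Nat.card {w : W // Q' w = 0} - 1) * Nat.card V * isoCard Q := by
  rw [← isoCard_congr e h, isoCard_hypExt hQ, ← zeros_congr e h 0]
  have h1 := natCard_hypPair (nondegenerate_hypExt hQ)
  rw [Nat.card_prod, Nat.card_prod, Nat.card_eq_fintype_card (α := F), ← sq, mul_comm (Fintype.card F ^ 2) _,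
    ← mul_assoc] at h1
  rw [Nat.eq_of_mul_eq_mul_right (pow_pos Fintype.card_pos 2) h1]

end Models

end Cfsg.Agent.Classical
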