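import Mathlib
import Cfsg.Prelude.Def_Classical
import Cfsg.Agent.Lib.Classical.OrthOrder

/-! Closed formulas for zeros and orders of orthogonal groups of the model forms. -/

set_option autoImplicit false

namespace Cfsg.Agent.Classical

variable {F : Type*} [Field F]

/-- A binary form `x² + a x y + b y²`. -/
noncomputable def binForm (a b : F) : QuadraticForm F (F × F) :=
  QuadraticMap.linMulLin (LinearMap.fst F F F) (LinearMap.fst F F F) +
    a • QuadraticMap.linMulLin (LinearMap.fst F F F) (LinearMap.snd F F F) +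
    b • QuadraticMap.linMulLin (LinearMap.snd F F F) (LinearMap.snd F F F)

theorem binForm_apply (a b : F) (z : F × F) :
    binForm a b z = z.1 ^ 2 + a * z.1 * z.2 + b * z.2 ^ 2 := by
  simp [binForm]; ring

theorem polar_binForm (a b : F) (u v : F × F) :
    QuadraticMap.polar ⇑(binForm a b) u v =
      2 * u.1 * v.1 + a * (u.1 * v.2 + v.1 * u.2) + 2 * b * u.2 * v.2 := by
  simp only [QuadraticMap.polar, binForm_apply, Prod.fst_add, Prod.snd_add]; ring

section Binary

variable [Fintype F] {a b : F}

theorem nondegenerate_binForm (hD : 4 * b - a ^ 2 ≠ 0) :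
    (QuadraticMap.polarBilin (binForm a b)).Nondegenerate := by
  refine nondegenerate_of_separatingLeft _ fun u hu => ?_
  have h1 := hu (1, 0)
  have h2 := hu (0, 1)
  simp [polar_binForm] at h1 h2
  exact Prod.ext
    ((mul_eq_zero.1 (show (4 * b - a ^ 2) * u.1 = 0 by linear_combination (2 * b) * h1 - a * h2)).resolve_left hD)
    ((mul_eq_zero.1 (show (4 * b - a ^ 2) * u.2 = 0 by linear_combination 2 * h2 - a * h1)).resolve_left hD)

/-- An anisotropic binary form takes the value `1` exactly `q + 1` times. -/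
theorem natCard_binForm_one
    (hab : ∀ z₁ z₂ : F, z₁ ^ 2 + a * z₁ * z₂ + b * z₂ ^ 2 = 0 → z₁ = 0 ∧ z₂ = 0) :
    Nat.card {z : F × F // binForm a b z = 1} = Fintype.card F + 1 := by
  classical
  have hD := binary_disc_ne_zero hab
  have hden : ∀ t : F, t ^ 2 + a * t + b ≠ 0 := fun t h =>
    one_ne_zero (hab t 1 (by linear_combination h)).2
  let l : F → F := fun t => -(2 * t + a) / (t ^ 2 + a * t + b)
  have hl : ∀ t, l t * (t ^ 2 + a * t + b) = -(2 * t + a) := fun t => div_mul_cancel₀ _ (hden t)
  have h20 : (2 : F) = 0 → a ≠ 0 := fun h2 ha => hD (by linear_combination (2 * b) * h2 - a * ha)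
  let f : Option F → {z : F × F // binForm a b z = 1} := fun o => match o with
    | none => ⟨(-1, 0), by rw [binForm_apply]; ring⟩
    | some t => ⟨(1 + l t * t, l t), by rw [binForm_apply]; linear_combination (l t) * hl t⟩
  have hf0 : ∀ t, l t = 0 → 2 * t + a = 0 := fun t h => by
    have := hl t
    rw [h, zero_mul] at this
    exact neg_eq_zero.1 this.symm
  have hbij : Function.Bijective f := by
    constructor
    · intro o o' h
      have h' := congrArg Subtype.val h
      rcases o with _ | t <;> rcases o' with _ | t'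
      · rfl
      · simp only [f, Prod.ext_iff] at h'
        have h0 := hf0 t' h'.2.symm
        rw [← h'.2, zero_mul, add_zero] at h'
        have h2 : (2 : F) = 0 := by linear_combination -h'.1
        exact absurd (by linear_combination h0 - t' * h2) (h20 h2)
      · simp only [f, Prod.ext_iff] at h'
        have h0 := hf0 t h'.2
        rw [h'.2, zero_mul, add_zero] at h'
        have h2 : (2 : F) = 0 := by linear_combination h'.1
        exact absurd (by linear_combination h0 - t * h2) (h20 h2)
      · simp only [f, Prod.ext_iff] at h'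
        by_cases hlt : l t = 0
        · have h0 := hf0 t hlt
          have h0' := hf0 t' (h'.2 ▸ hlt)
          by_cases h2 : (2 : F) = 0
          · exact absurd (by linear_combination h0 - t * h2) (h20 h2)
          · exact congrArg some (mul_left_cancel₀ h2 (by linear_combination h0 - h0'))
        · exact congrArg some (mul_left_cancel₀ hlt (by
            have h1 := h'.1
            rw [← h'.2] at h1
            exact add_left_cancel h1))
    · rintro ⟨⟨x, y⟩, hz⟩
      rw [binForm_apply] at hz
      simp only at hz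
      by_cases hy : y = 0
      · subst hy
        rcases sq_eq_one_iff.1 (show x ^ 2 = 1 by linear_combination hz) with rfl | rfl
        · by_cases h2 : (2 : F) = 0
          · exact ⟨none, Subtype.ext (Prod.ext (show (-1 : F) = 1 by linear_combination -h2) rfl)⟩
          · refine ⟨some (-a / 2), Subtype.ext ?_⟩
            have : l (-a / 2) = 0 := by
              simp only [l]
              rw [mul_div_cancel₀ _ h2]; simp
            simp [f, this]
        · exact ⟨none, rfl⟩
      · refine ⟨some ((x - 1) / y), Subtype.ext ?_⟩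
        have hly : l ((x - 1) / y) = y := by
          have e := hl ((x - 1) / y)
          refine mul_right_cancel₀ (hden ((x - 1) / y)) (e.trans (mul_left_cancel₀ hy ?_))
          field_simp
          linear_combination -hz
        simp only [f, hly]
        exact Prod.ext (by field_simp; ring) rfl
  rw [← Nat.card_congr (Equiv.ofBijective f hbij)]
  simp

theorem isoCard_binForm
    (hab : ∀ z₁ z₂ : F, z₁ ^ 2 + a * z₁ * z₂ + b * z₂ ^ 2 = 0 → z₁ = 0 ∧ z₂ = 0) :
    isoCard (binForm a b) = 2 * (Fintype.card F + 1) := by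
  classical
  have hD := binary_disc_ne_zero hab
  have hQ := nondegenerate_binForm hD
  set Q := binForm a b with hQdef
  let T := fun p : F × F => {w : F × F // Q w = b ∧ QuadraticMap.polar ⇑Q p w = a}
  have hlin : ∀ (p w : F × F) (c : F × F), pairMap p w c = c.1 • p + c.2 • w := pairMap_apply
  have hval : ∀ p w : F × F, Q p = 1 → Q w = b → QuadraticMap.polar ⇑Q p w = a →
      ∀ c, Q (pairMap p w c) = Q c := by
    intro p w hp hw hpw c
    rw [hlin, QuadraticMap.map_add ⇑Q, QuadraticMap.map_smul, QuadraticMap.map_smul,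
      QuadraticMap.polar_smul_left, QuadraticMap.polar_smul_right, hp, hw, hpw, hQdef, binForm_apply]
    simp only [smul_eq_mul]; ring
  have hinj : ∀ p w : F × F, Q p = 1 → Q w = b → QuadraticMap.polar ⇑Q p w = a →
      Function.Injective (pairMap (F := F) p w) := by
    intro p w hp hw hpw
    refine (injective_iff_map_eq_zero _).2 fun c hc => hQ.1 c fun v => ?_
    have h := hval p w hp hw hpw
    show QuadraticMap.polar ⇑Q c v = 0
    simp only [QuadraticMap.polar]
    rw [← h (c + v), ← h c, ← h v, map_add, hc, zero_add, map_zero]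
    ring
  let eqv : {g : (F × F) ≃ₗ[F] (F × F) // ∀ v, Q (g v) = Q v} ≃ Σ p : {z : F × F // Q z = 1}, T p.1 :=
    { toFun := fun g => ⟨⟨g.1 (1, 0), by rw [g.2, hQdef, binForm_apply]; ring⟩, g.1 (0, 1),
        by rw [g.2, hQdef, binForm_apply]; ring, by
          simp only [QuadraticMap.polar, ← map_add, g.2]
          rw [hQdef]; simp [binForm_apply]; ring⟩
      invFun := fun s => ⟨LinearEquiv.ofInjectiveEndo (pairMap s.1.1 s.2.1)
          (hinj _ _ s.1.2 s.2.2.1 s.2.2.2), hval _ _ s.1.2 s.2.2.1 s.2.2.2⟩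
      left_inv := fun g => Subtype.ext (LinearEquiv.ext fun c => by
        show pairMap (g.1 (1, 0)) (g.1 (0, 1)) c = g.1 c
        rw [hlin, ← map_smul, ← map_smul, ← map_add]; simp)
      right_inv := fun s => by
        obtain ⟨⟨p, hp⟩, w, hw⟩ := s
        have e1 : pairMap (F := F) p w (1, 0) = p := by simp [hlin]
        have e2 : pairMap (F := F) p w (0, 1) = w := by simp [hlin]
        refine Sigma.subtype_ext (Subtype.ext e1) e2 }
  have htwo : ∀ p : {z : F × F // Q z = 1}, Nat.card (T p.1) = 2 := by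
    rintro ⟨p, hp⟩
    have he : Q ((1 : F), (0 : F)) = 1 := by rw [hQdef, binForm_apply]; ring
    obtain ⟨g, hg, hgp⟩ := witt_maps Q hQ (LinearMap.toSpanSingleton F (F × F) (1, 0))
      (LinearMap.toSpanSingleton F (F × F) p)
      (fun x y h => by simpa using congrArg Prod.fst h)
      (fun x y h => smul_left_injective F (fun h0 => by simp [h0] at hp) h)
      (fun u => by simp only [LinearMap.toSpanSingleton_apply, QuadraticMap.map_smul, he, hp])
    have hg1 : g (1, 0) = p := by simpa using hgp 1
    have htr : T (1, 0) ≃ T p := Equiv.subtypeEquiv g.toEquiv fun w => by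
      show (Q w = b ∧ _) ↔ (Q (g w) = b ∧ QuadraticMap.polar ⇑Q p (g w) = a)
      rw [hg, ← hg1]
      simp only [QuadraticMap.polar, ← map_add, hg]
    rw [← Nat.card_congr htr, Nat.card_eq_two_iff]
    refine ⟨⟨(0, 1), ?_, ?_⟩, ⟨(a, -1), ?_, ?_⟩, ?_, ?_⟩
    · rw [hQdef, binForm_apply]; ring
    · rw [hQdef, polar_binForm]; ring
    · rw [hQdef, binForm_apply]; ring
    · rw [hQdef, polar_binForm]; ring
    · intro h
      have h' := congrArg Subtype.val h
      simp only [Prod.ext_iff] at h'
      exact hD (by linear_combination (-a) * h'.1.symm + 2 * b * h'.2)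
    · refine Set.eq_univ_iff_forall.2 fun w => ?_
      obtain ⟨⟨x, y⟩, hw, hpol⟩ := w
      rw [hQdef, binForm_apply] at hw
      rw [hQdef, polar_binForm] at hpol
      simp only at hw hpol
      simp only [Set.mem_insert_iff, Set.mem_singleton_iff]
      have hy : y ^ 2 = 1 := by
        refine sub_eq_zero.1 ((mul_eq_zero.1 (show (4 * b - a ^ 2) * (y ^ 2 - 1) = 0 by
          linear_combination 4 * hw - (2 * x + a * y + a) * hpol)).resolve_left hD)
      rcases sq_eq_one_iff.1 hy with rfl | rfl
      · have h2x : 2 * x = 0 := by linear_combination hpol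
        rcases mul_eq_zero.1 (show x * (x + a) = 0 by linear_combination hw) with rfl | hx
        · exact Or.inl (Subtype.ext (Prod.ext rfl rfl))
        · by_cases h2 : (2 : F) = 0
          · exact Or.inr (Subtype.ext (Prod.ext (show x = a by linear_combination hx - a * h2) (show (1 : F) = -1 by linear_combination h2)))
          · exact Or.inl (Subtype.ext (Prod.ext ((mul_eq_zero.1 h2x).resolve_left h2) rfl))
      · rcases mul_eq_zero.1 (show x * (x - a) = 0 by linear_combination hw) with rfl | hx
        · by_cases h2 : (2 : F) = 0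
          · exact Or.inl (Subtype.ext (Prod.ext rfl (show (-1 : F) = 1 by linear_combination -h2)))
          · exact Or.inr (Subtype.ext (Prod.ext (mul_left_cancel₀ h2 (by linear_combination hpol)) rfl))
        · exact Or.inr (Subtype.ext (Prod.ext (sub_eq_zero.1 hx) rfl))
  rw [isoCard, Nat.card_congr eqv, Nat.card_sigma]
  simp only [htwo, Finset.sum_const, Finset.card_univ, smul_eq_mul]
  rw [← Nat.card_eq_fintype_card, hQdef, natCard_binForm_one hab]
  ring

end Binary

/-- Forget the empty hyperbolic part. -/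
def minusPlane : (((Fin 0 ⊕ Fin 0) ⊕ Fin 2) → F) ≃ₗ[F] F × F where
  toFun v := (v (Sum.inr 0), v (Sum.inr 1))
  invFun z := Sum.elim (fun i => i.elim Fin.elim0 Fin.elim0) ![z.1, z.2]
  map_add' u v := rfl
  map_smul' c v := rfl
  left_inv v := by
    funext i
    rcases i with (i | i) | i
    · exact i.elim0
    · exact i.elim0
    · fin_cases i <;> simp
  right_inv z := by simp

section Closed

variable [Fintype F]

theorem natCard_fun_field (ι : Type*) [Fintype ι] : Nat.card (ι → F) = Fintype.card F ^ Fintype.card ι := by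
  classical
  rw [Nat.card_eq_fintype_card, Fintype.card_fun]

theorem cast_card_sub_one : ((Fintype.card F - 1 : ℕ) : ℤ) = (Fintype.card F : ℤ) - 1 := by
  rw [Nat.cast_sub Fintype.card_pos]; simp

theorem zeros_qfPlus (m : ℕ) :
    (Nat.card {v // qfPlus m F v = 0} : ℤ) * Fintype.card F =
      (Fintype.card F : ℤ) ^ (2 * m) + (Fintype.card F : ℤ) ^ (m + 1) - (Fintype.card F : ℤ) ^ m := by
  induction m with
  | zero =>
    have : Nat.card {v // qfPlus 0 F v = 0} = 1 := Nat.card_eq_one_iff_unique.2
      ⟨inferInstance, ⟨⟨0, QuadraticMap.map_zero _⟩⟩⟩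
    simp [this]
  | succ k ih =>
    rw [← zeros_congr (plusStep k) (qfPlus_step k) 0, natCard_hypExt_eq, natCard_fun_field]
    simp only [Fintype.card_sum, Fintype.card_fin, Nat.cast_add, Nat.cast_mul, Nat.cast_pow,
      cast_card_sub_one]
    linear_combination (Fintype.card F : ℤ) * ih

theorem zeros_qfMinus (m : ℕ) {a b : F}
    (hab : ∀ z₁ z₂ : F, z₁ ^ 2 + a * z₁ * z₂ + b * z₂ ^ 2 = 0 → z₁ = 0 ∧ z₂ = 0) :
    (Nat.card {v // qfMinus m F a b v = 0} : ℤ) =
      (Fintype.card F : ℤ) ^ (2 * m + 1) + (Fintype.card F : ℤ) ^ m - (Fintype.card F : ℤ) ^ (m + 1) := by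
  induction m with
  | zero =>
    have : Nat.card {v // qfMinus 0 F a b v = 0} = 1 := by
      refine Nat.card_eq_one_iff_unique.2 ⟨⟨fun v w => ?_⟩, ⟨⟨0, QuadraticMap.map_zero _⟩⟩⟩
      have key : ∀ v : {v // qfMinus 0 F a b v = 0}, minusPlane v.1 = 0 := fun v => by
        have h := v.2
        simp [qfMinus_apply, quadFormMinus] at h
        obtain ⟨h0, h1⟩ := hab _ _ h
        exact Prod.ext h0 h1
      exact Subtype.ext (minusPlane.injective ((key v).trans (key w).symm))
    simp [this]
  | succ k ih =>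
    rw [← zeros_congr (minusStep k) (qfMinus_step k a b) 0, natCard_hypExt_eq, natCard_fun_field]
    simp only [Fintype.card_sum, Fintype.card_fin, Nat.cast_add, Nat.cast_mul, Nat.cast_pow,
      cast_card_sub_one]
    linear_combination (Fintype.card F : ℤ) * ih

theorem zeros_qfOdd (m : ℕ) :
    Nat.card {v // qfOdd m F v = 0} = Fintype.card F ^ (2 * m) := by
  induction m with
  | zero =>
    refine Nat.card_eq_one_iff_unique.2 ⟨⟨fun v w => ?_⟩, ⟨⟨0, QuadraticMap.map_zero _⟩⟩⟩
    have key : ∀ v : {v // qfOdd 0 F v = 0}, v.1 = 0 := fun v => by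
      have h := v.2
      simp [qfOdd_apply, quadFormOdd] at h
      funext i
      rcases i with i | (i | i)
      · exact h
      · exact i.elim0
      · exact i.elim0
    exact Subtype.ext ((key v).trans (key w).symm)
  | succ k ih =>
    rw [← zeros_congr (oddStep k) (qfOdd_step k) 0, natCard_hypExt_eq, natCard_fun_field, ih]
    simp only [Fintype.card_sum, Fintype.card_fin, Fintype.card_unit]
    obtain ⟨r, hr⟩ := Nat.exists_eq_add_of_le (Fintype.card_pos (α := F))
    rw [hr, Nat.succ_eq_add_one, Nat.add_sub_cancel_left]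
    ring

theorem polar_qfOdd (m : ℕ) (u v : Unit ⊕ (Fin m ⊕ Fin m) → F) :
    QuadraticMap.polar ⇑(qfOdd m F) u v = 2 * u (Sum.inl ()) * v (Sum.inl ()) +
      ∑ i, (u (Sum.inr (Sum.inl i)) * v (Sum.inr (Sum.inr i)) +
        v (Sum.inr (Sum.inl i)) * u (Sum.inr (Sum.inr i))) := by
  have h : ∑ i, (u (Sum.inr (Sum.inl i)) * v (Sum.inr (Sum.inr i)) +
        v (Sum.inr (Sum.inl i)) * u (Sum.inr (Sum.inr i))) =
      ∑ i, (u + v) (Sum.inr (Sum.inl i)) * (u + v) (Sum.inr (Sum.inr i)) -
        ∑ i, u (Sum.inr (Sum.inl i)) * u (Sum.inr (Sum.inr i)) -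
        ∑ i, v (Sum.inr (Sum.inl i)) * v (Sum.inr (Sum.inr i)) := by
    simp only [← Finset.sum_sub_distrib, Pi.add_apply]
    exact Finset.sum_congr rfl fun i _ => by ring
  rw [h]
  simp only [QuadraticMap.polar, qfOdd_apply, quadFormOdd, Pi.add_apply]
  ring

theorem nondegenerate_qfOdd (m : ℕ) (h2 : (2 : F) ≠ 0) :
    (QuadraticMap.polarBilin (qfOdd m F)).Nondegenerate := by
  classical
  refine nondegenerate_of_separatingLeft _ ?_
  intro u hu
  funext x
  rcases x with ⟨⟩ | i | i
  · have h := hu (Pi.single (Sum.inl ()) 1)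
    simp [polar_qfOdd, h2] at h
    exact h
  · have h := hu (Pi.single (Sum.inr (Sum.inr i)) 1)
    rw [QuadraticMap.polarBilin_apply_apply, polar_qfOdd, Finset.sum_eq_single i
      (fun j _ hj => by simp [hj]) (by simp)] at h
    simpa using h
  · have h := hu (Pi.single (Sum.inr (Sum.inl i)) 1)
    rw [QuadraticMap.polarBilin_apply_apply, polar_qfOdd, Finset.sum_eq_single i
      (fun j _ hj => by simp [hj]) (by simp)] at h
    simpa using h

theorem cast_sub_one_of_pos {n : ℕ} (h : 0 < n) : ((n - 1 : ℕ) : ℤ) = (n : ℤ) - 1 := by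
  rw [Nat.cast_sub h]; simp

theorem order_qfOdd (h2 : (2 : F) ≠ 0) (m : ℕ) :
    (isoCard (qfOdd m F) : ℤ) = 2 * (Fintype.card F : ℤ) ^ (m ^ 2) *
      ∏ i ∈ Finset.range m, ((Fintype.card F : ℤ) ^ (2 * (i + 1)) - 1) := by
  induction m with
  | zero =>
    have : isoCard (qfOdd 0 F) = 2 := by
      rw [isoCard, Nat.card_eq_two_iff]
      refine ⟨⟨LinearEquiv.refl F _, fun v => rfl⟩, ⟨LinearEquiv.neg F, fun v => ?_⟩, ?_, ?_⟩
      · exact QuadraticMap.map_neg _ _
      · intro h
        have h1 := congrFun (LinearEquiv.congr_fun (congrArg Subtype.val h) (fun _ => 1)) (Sum.inl ())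
        simp at h1
        exact h2 (by linear_combination h1)
      · refine Set.eq_univ_iff_forall.2 fun g => ?_
        have key : ∀ v : Unit ⊕ (Fin 0 ⊕ Fin 0) → F, v = v (Sum.inl ()) • fun _ => (1 : F) := by
          intro v; funext i
          rcases i with ⟨⟩ | i | i
          · simp
          · exact i.elim0
          · exact i.elim0
        have h := g.2 (fun _ => (1 : F))
        simp [qfOdd_apply, quadFormOdd] at h
        rcases h with h | h
        · refine Or.inl (Subtype.ext (LinearEquiv.ext fun v => ?_))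
          rw [key v, map_smul, key (g.1 _), h]; simp
        · refine Or.inr (Subtype.ext (LinearEquiv.ext fun v => ?_))
          rw [key v, map_smul, key (g.1 _), h]; simp
    simp [this]
  | succ k ih =>
    rw [isoCard_step (nondegenerate_qfOdd k h2) (oddStep k) (qfOdd_step k), zeros_qfOdd, natCard_fun_field]
    simp only [Fintype.card_sum, Fintype.card_fin, Fintype.card_unit, Nat.cast_mul, Nat.cast_pow,
      cast_sub_one_of_pos (pow_pos Fintype.card_pos _), ih, Finset.prod_range_succ]
    ring

theorem order_qfPlus (m : ℕ) :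
    (isoCard (qfPlus (m + 1) F) : ℤ) = 2 * (Fintype.card F : ℤ) ^ (m * (m + 1)) *
      ((Fintype.card F : ℤ) ^ (m + 1) - 1) *
      ∏ i ∈ Finset.range m, ((Fintype.card F : ℤ) ^ (2 * (i + 1)) - 1) := by
  have hq : (Fintype.card F : ℤ) ≠ 0 := by exact_mod_cast Fintype.card_ne_zero
  have hz : ∀ k, (Nat.card {v // qfPlus (k + 1) F v = 0} : ℤ) =
      (Fintype.card F : ℤ) ^ (2 * k + 1) + (Fintype.card F : ℤ) ^ (k + 1) - (Fintype.card F : ℤ) ^ k :=
    fun k => mul_right_cancel₀ hq ((zeros_qfPlus (k + 1)).trans (by ring))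
  have hstep : ∀ k, (isoCard (qfPlus (k + 1) F) : ℤ) =
      ((Nat.card {v // qfPlus (k + 1) F v = 0} : ℤ) - 1) * (Fintype.card F : ℤ) ^ (k + k) *
        (isoCard (qfPlus k F) : ℤ) := fun k => by
    have hpos : 0 < Nat.card {v // qfPlus (k + 1) F v = 0} := by
      have : Nonempty {v // qfPlus (k + 1) F v = 0} := ⟨⟨0, QuadraticMap.map_zero _⟩⟩
      exact Nat.card_pos
    rw [isoCard_step (nondegenerate_qfPlus k) (plusStep k) (qfPlus_step k), natCard_fun_field]
    simp only [Fintype.card_sum, Fintype.card_fin, Nat.cast_mul, Nat.cast_pow, cast_sub_one_of_pos hpos]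
  induction m with
  | zero =>
    have : isoCard (qfPlus 0 F) = 1 := Nat.card_eq_one_iff_unique.2
      ⟨⟨fun g h => Subtype.ext (LinearEquiv.ext fun v => Subsingleton.elim _ _)⟩,
        ⟨⟨LinearEquiv.refl F _, fun v => rfl⟩⟩⟩
    rw [hstep, hz, this]
    simp; ring
  | succ k ih =>
    rw [hstep, hz, ih, Finset.prod_range_succ]
    ring

theorem order_qfMinus (m : ℕ) {a b : F}
    (hab : ∀ z₁ z₂ : F, z₁ ^ 2 + a * z₁ * z₂ + b * z₂ ^ 2 = 0 → z₁ = 0 ∧ z₂ = 0) :
    (isoCard (qfMinus m F a b) : ℤ) = 2 * (Fintype.card F : ℤ) ^ (m * (m + 1)) *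
      ((Fintype.card F : ℤ) ^ (m + 1) + 1) *
      ∏ i ∈ Finset.range m, ((Fintype.card F : ℤ) ^ (2 * (i + 1)) - 1) := by
  induction m with
  | zero =>
    rw [isoCard_congr minusPlane (Q' := binForm a b) (fun v => by
      simp [binForm_apply, qfMinus_apply, quadFormMinus, minusPlane]), isoCard_binForm hab]
    simp
  | succ k ih =>
    have hpos : 0 < Nat.card {v // qfMinus (k + 1) F a b v = 0} := by
      have : Nonempty {v // qfMinus (k + 1) F a b v = 0} := ⟨⟨0, QuadraticMap.map_zero _⟩⟩
      exact Nat.card_pos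
    rw [isoCard_step (nondegenerate_qfMinus k hab) (minusStep k) (qfMinus_step k a b), natCard_fun_field]
    simp only [Fintype.card_sum, Fintype.card_fin, Nat.cast_mul, Nat.cast_pow, cast_sub_one_of_pos hpos,
      zeros_qfMinus (k + 1) hab, ih, Finset.prod_range_succ]
    ring

theorem cast_prod_sub_one (m : ℕ) :
    ((∏ i ∈ Finset.range m, (Fintype.card F ^ (2 * (i + 1)) - 1) : ℕ) : ℤ) =
      ∏ i ∈ Finset.range m, ((Fintype.card F : ℤ) ^ (2 * (i + 1)) - 1) := by
  rw [Nat.cast_prod]
  exact Finset.prod_congr rfl fun i _ => by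
    rw [cast_sub_one_of_pos (pow_pos Fintype.card_pos _), Nat.cast_pow]

end Closed

end Cfsg.Agent.Classical
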