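import Mathlib
import Cfsg.Prelude.Def_ClassicalGeometry

/-! Matrices attached to quadratic forms: reflections, Siegel maps, isometries. -/

set_option autoImplicit false

namespace Cfsg.Agent.Classical

open Matrix

variable {F : Type*} [Field F] {ι : Type} [Fintype ι] [DecidableEq ι]

theorem polarVec_dotProduct (Q : QuadraticForm F (ι → F)) (v x : ι → F) :
    polarVec ⇑Q v ⬝ᵥ x = QuadraticMap.polar ⇑Q v x := by
  conv_rhs => rw [← QuadraticMap.polarBilin_apply_apply, ← Finset.univ_sum_single x, map_sum]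
  refine Finset.sum_congr rfl fun j _ => ?_
  rw [QuadraticMap.polarBilin_apply_apply, show (Pi.single j (x j) : ι → F) = x j • Pi.single j 1 by
    rw [← Pi.single_smul', smul_eq_mul, mul_one], QuadraticMap.polar_smul_right, smul_eq_mul]
  rw [polarVec, mul_comm]

theorem quad_add_smul (Q : QuadraticForm F (ι → F)) (x v : ι → F) (a : F) :
    Q (x + a • v) = Q x + a * a * Q v + a * QuadraticMap.polar ⇑Q x v := by
  rw [QuadraticMap.map_add ⇑Q x (a • v), QuadraticMap.map_smul, QuadraticMap.polar_smul_right, smul_eq_mul,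
    smul_eq_mul]

theorem reflectionMatrix_mulVec (Q : QuadraticForm F (ι → F)) (v x : ι → F) :
    reflectionMatrix ⇑Q v *ᵥ x = x - ((Q v)⁻¹ * QuadraticMap.polar ⇑Q v x) • v := by
  rw [reflectionMatrix, Matrix.sub_mulVec, Matrix.one_mulVec, Matrix.smul_mulVec,
    Matrix.vecMulVec_mulVec, op_smul_eq_smul, smul_smul, polarVec_dotProduct]

theorem reflection_preserves (Q : QuadraticForm F (ι → F)) {v : ι → F} (hv : Q v ≠ 0) (x : ι → F) :
    Q (reflectionMatrix ⇑Q v *ᵥ x) = Q x := by
  rw [reflectionMatrix_mulVec, sub_eq_add_neg, ← neg_smul, quad_add_smul,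
    QuadraticMap.polar_comm ⇑Q x v]
  field_simp
  ring

theorem det_reflection (Q : QuadraticForm F (ι → F)) {v : ι → F} (hv : Q v ≠ 0) :
    (reflectionMatrix ⇑Q v).det = -1 := by
  have h : reflectionMatrix ⇑Q v =
      1 + Matrix.replicateCol Unit (-(Q v)⁻¹ • v) * Matrix.replicateRow Unit (polarVec ⇑Q v) := by
    rw [reflectionMatrix, ← Matrix.vecMulVec_eq, Matrix.smul_vecMulVec, neg_smul, sub_eq_add_neg]
  rw [h, Matrix.det_one_add_replicateCol_mul_replicateRow, dotProduct_smul, polarVec_dotProduct,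
    QuadraticMap.polar_self, smul_eq_mul, nsmul_eq_mul]
  field_simp
  ring

theorem siegelMatrix_mulVec (Q : QuadraticForm F (ι → F)) (u v : ι → F) (c : F) (x : ι → F) :
    siegelMatrix ⇑Q u v c *ᵥ x =
      x + (c * QuadraticMap.polar ⇑Q u x) • v - (c * QuadraticMap.polar ⇑Q v x) • u := by
  rw [siegelMatrix, Matrix.add_mulVec, Matrix.one_mulVec, Matrix.smul_mulVec, Matrix.sub_mulVec,
    Matrix.vecMulVec_mulVec, Matrix.vecMulVec_mulVec, polarVec_dotProduct, polarVec_dotProduct,
    op_smul_eq_smul, op_smul_eq_smul, smul_sub, smul_smul, smul_smul, add_sub_assoc]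

theorem mem_isometryGroup {Q : (ι → F) → F} {g : GL ι F} :
    g ∈ isometryGroup F Q ↔ ∀ u, Q ((g : Matrix ι ι F) *ᵥ u) = Q u :=
  ⟨fun h u => h u u, fun h u _ => h u⟩

/-- A matrix preserving `Q` with unit determinant, as an element of the isometry group. -/
noncomputable def mkIsometry {Q : (ι → F) → F} (M : Matrix ι ι F) (hd : M.det ≠ 0)
    (hQ : ∀ u, Q (M *ᵥ u) = Q u) : isometryGroup F Q :=
  ⟨Matrix.GeneralLinearGroup.mkOfDetNeZero M hd, mem_isometryGroup.2 hQ⟩

@[simp] theorem coe_mkIsometry {Q : (ι → F) → F} (M : Matrix ι ι F) (hd : M.det ≠ 0)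
    (hQ : ∀ u, Q (M *ᵥ u) = Q u) :
    ((mkIsometry M hd hQ : GL ι F) : Matrix ι ι F) = M := rfl

theorem det_sq_eq_one_of_isometry (Q : QuadraticForm F (ι → F))
    (hQ : (QuadraticMap.polarBilin Q).Nondegenerate) (g : isometryGroup F ⇑Q) :
    ((g : GL ι F) : Matrix ι ι F).det ^ 2 = 1 := by
  set M := ((g : GL ι F) : Matrix ι ι F)
  set B := LinearMap.BilinForm.toMatrix' (QuadraticMap.polarBilin Q)
  have hB : B.det ≠ 0 := LinearMap.BilinForm.nondegenerate_iff_det_ne_zero
    (B := QuadraticMap.polarBilin Q) (Pi.basisFun F ι) |>.1 hQ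
  have hg : ∀ u, Q (M *ᵥ u) = Q u := mem_isometryGroup.1 g.2
  have key : Mᵀ * B * M = B := by
    rw [← LinearMap.toMatrix'_toLin' M, ← LinearMap.BilinForm.toMatrix'_comp]
    congr 1
    ext x y
    simp only [LinearMap.comp_apply, LinearMap.BilinForm.comp_apply,
      Matrix.toLin'_apply, QuadraticMap.polarBilin_apply_apply, QuadraticMap.polar,
      ← Matrix.mulVec_add, hg]
  have h2 := congrArg Matrix.det key
  rw [Matrix.det_mul, Matrix.det_mul, Matrix.det_transpose] at h2
  exact mul_right_cancel₀ hB (by rw [one_mul, sq]; linear_combination h2)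

end Cfsg.Agent.Classical
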