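import Cfsg.Agent.Lib.Classical.Unit

/-! The number of totally isotropic two-dimensional subspaces of a Hermitian space. -/

set_option autoImplicit false

namespace Cfsg.Agent.HermTotIsoLines

open Cfsg.Agent.Classical Module

variable {F : Type*} [Field F] [Fintype F] {q n : ℕ}

local notation "h" => hermForm n F q

/-- The fixed field has `q` elements. -/
theorem natCard_fixed (hF : Fintype.card F = q ^ 2) : Nat.card {c : F // c ^ q = c} = q := by
  classical
  have hq := two_le_q hF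
  have hK : Nat.card (powMonoidHom (q - 1) : Fˣ →* Fˣ).ker = q - 1 := by
    rw [IsCyclic.card_powMonoidHom_ker, Nat.card_units, Nat.card_eq_fintype_card, hF]
    refine Nat.gcd_eq_right ⟨q + 1, ?_⟩
    obtain ⟨r, rfl⟩ : ∃ r, q = r + 1 := ⟨q - 1, by omega⟩
    rw [Nat.add_sub_cancel, show (r + 1) ^ 2 = r * (r + 1 + 1) + 1 by ring, Nat.add_sub_cancel]
  let f : Option (powMonoidHom (q - 1) : Fˣ →* Fˣ).ker → {c : F // c ^ q = c} := fun o => o.elim
    ⟨0, zero_pow (by omega)⟩ fun u => ⟨(u.1 : F), by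
      have h1 : (u.1 : F) ^ (q - 1) = 1 := congrArg Units.val (show u.1 ^ (q - 1) = 1 from u.2)
      calc (u.1 : F) ^ q = (u.1 : F) ^ (q - 1 + 1) := by rw [Nat.sub_add_cancel (by omega : 1 ≤ q)]
        _ = u.1 := by rw [pow_succ, h1, one_mul]⟩
  have hb : Function.Bijective f := by
    constructor
    · rintro (_ | a) (_ | b) e
      · rfl
      · exact absurd (congrArg Subtype.val e).symm b.1.ne_zero
      · exact absurd (congrArg Subtype.val e) a.1.ne_zero
      · exact congrArg some (Subtype.ext (Units.ext (congrArg Subtype.val e :)))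
    · rintro ⟨c, hc⟩
      by_cases h0 : c = 0
      · exact ⟨none, Subtype.ext h0.symm⟩
      · refine ⟨some ⟨Units.mk0 c h0, MonoidHom.mem_ker.2 (Units.ext ?_)⟩, rfl⟩
        show c ^ (q - 1) = 1
        refine mul_right_cancel₀ h0 ?_
        rw [← pow_succ, show q - 1 + 1 = q by omega, one_mul, hc]
  rw [← Nat.card_congr (Equiv.ofBijective f hb), Finite.card_option, hK]
  omega

theorem self_fixed (hF : Fintype.card F = q ^ 2) (v : Fin n → F) : (h v v) ^ q = h v v :=
  hermForm_symm hF n v v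

theorem hB_smul_right (hF : Fintype.card F = q ^ 2) (c : F) (u v : Fin n → F) :
    h u (c • v) = c ^ q * h u v := LinearMap.congr_fun ((hermB hF n).map_smulₛₗ c v) u

theorem hB_add_right (hF : Fintype.card F = q ^ 2) (u v w : Fin n → F) :
    h u (v + w) = h u v + h u w := LinearMap.congr_fun ((hermB hF n).map_add v w) u

theorem natCard_affine (hF : Fintype.card F = q ^ 2) {u : Fin n → F} (hu : u ≠ 0) (lam : F) :
    Nat.card {v : Fin n → F // h v u = lam} = (q ^ 2) ^ (n - 1) := by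
  let l : (Fin n → F) →ₗ[F] F := hermB hF n u
  obtain ⟨w, hw⟩ : ∃ w, l w ≠ 0 := by
    by_contra! hc
    exact hu ((hermB_nondegenerate hF n).1 u hc)
  have hsurj : Function.Surjective l := fun c => ⟨(c / l w) • w, by simp [hw]⟩
  obtain ⟨v0, hv0⟩ := hsurj lam
  have hker := l.finrank_range_add_finrank_ker
  rw [LinearMap.range_eq_top.2 hsurj, finrank_top, Module.finrank_self, Module.finrank_fin_fun] at hker
  rw [show Nat.card {v : Fin n → F // h v u = lam} = Nat.card (LinearMap.ker l) from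
    Nat.card_congr ((Equiv.subRight v0).subtypeEquiv fun v => by
      show l v = lam ↔ l (v - v0) = 0
      rw [map_sub, hv0, sub_eq_zero]), Module.natCard_eq_pow_finrank (K := F),
    Nat.card_eq_fintype_card, hF]
  congr 1
  omega

/-- Isotropic vectors on a hyperplane `h(·, u) = lam` with `lam ≠ 0`. -/
theorem natCard_iso_affine (hF : Fintype.card F = q ^ 2) {u : Fin n → F} (hu : u ≠ 0) (huu : h u u = 0)
    {lam : F} (hlam : lam ≠ 0) :
    Nat.card {v : Fin n → F // h v v = 0 ∧ h v u = lam} * q = (q ^ 2) ^ (n - 1) := by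
  have hq := two_le_q hF
  obtain ⟨a, ha⟩ : ∃ a : F, a + a ^ q ≠ 0 := by
    by_contra! hc
    refine qFrob_ne_id hF (RingHom.ext fun x => ?_)
    have h1 := hc 1
    rw [one_pow] at h1
    have h2 := hc x
    rw [qFrob_apply, RingHom.id_apply, eq_neg_of_add_eq_zero_right h2]
    linear_combination (-x) * h1
  -- a section of the trace, scaled
  let s : F → F := fun c => c * a / (a + a ^ q) / lam ^ q
  have hs : ∀ c, c ^ q = c → s c * lam ^ q + (s c) ^ q * lam = c := fun c hc => by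
    have hT : (a + a ^ q) ^ q = a + a ^ q := by
      rw [← qFrob_apply hF, map_add, qFrob_apply, qFrob_apply, ← pow_mul, ← sq, ← hF,
        FiniteField.pow_card, add_comm]
    have hl : (lam ^ q) ^ q = lam := by rw [← pow_mul, ← sq, ← hF, FiniteField.pow_card]
    have hl0 : lam ^ q ≠ 0 := pow_ne_zero _ hlam
    simp only [s, div_pow, mul_pow, hT, hl, hc]
    field_simp
  have hshift : ∀ (v : Fin n → F) (t : F), h v u = lam →
      h (v + t • u) (v + t • u) = h v v + (t * lam ^ q + t ^ q * lam) ∧ h (v + t • u) u = lam := by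
    intro v t hv
    have huv : h u v = lam ^ q := by rw [← hermForm_symm hF n v u, hv]
    constructor
    · rw [hermForm_add_left, hB_add_right hF, hB_add_right hF, hermForm_smul_left, hB_smul_right hF,
        hermForm_smul_left, hB_smul_right hF, hv, huv, huu]
      ring
    · rw [hermForm_add_left, hermForm_smul_left, huu, hv, mul_zero, add_zero]
  have hneg : ∀ c : F, c ^ q = c → (-c) ^ q = -c := fun c hc => by
    rw [← qFrob_apply hF, map_neg, qFrob_apply, hc]
  let e : {v : Fin n → F // h v v = 0 ∧ h v u = lam} × {c : F // c ^ q = c} ≃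
      {v : Fin n → F // h v u = lam} :=
    { toFun := fun p => ⟨p.1.1 + s p.2.1 • u, (hshift _ _ p.1.2.2).2⟩
      invFun := fun v => (⟨v.1 + (-s (h v.1 v.1)) • u, by
          refine ⟨?_, (hshift _ _ v.2).2⟩
          rw [(hshift _ _ v.2).1, ← qFrob_apply hF (-s _), map_neg, qFrob_apply]
          linear_combination -(hs _ (self_fixed hF v.1))⟩,
        ⟨h v.1 v.1, self_fixed hF v.1⟩)
      left_inv := fun p => by
        have h1 : h (p.1.1 + s p.2.1 • u) (p.1.1 + s p.2.1 • u) = p.2.1 := by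
          rw [(hshift _ _ p.1.2.2).1, p.1.2.1, zero_add, hs _ p.2.2]
        refine Prod.ext (Subtype.ext ?_) (Subtype.ext h1)
        show p.1.1 + s p.2.1 • u + (-s _) • u = p.1.1
        rw [h1, add_assoc, ← add_smul, add_neg_cancel, zero_smul, add_zero]
      right_inv := fun v => Subtype.ext (by
        show v.1 + (-s _) • u + s _ • u = v.1
        rw [add_assoc, ← add_smul, neg_add_cancel, zero_smul, add_zero]) }
  conv_lhs => arg 2; rw [← natCard_fixed hF]
  rw [← Nat.card_prod, Nat.card_congr e, natCard_affine hF hu lam]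

theorem natCard_iso_perp (hF : Fintype.card F = q ^ 2) {u : Fin n → F} (hu : u ≠ 0) (huu : h u u = 0) :
    (Nat.card {v : Fin n → F // h v v = 0 ∧ h v u = 0} : ℤ) * q =
      (normCount n F q 0 : ℤ) * q - ((q : ℤ) ^ 2 - 1) * ((q : ℤ) ^ 2) ^ (n - 1) := by
  classical
  have e1 : normCount n F q 0 = ∑ lam : F, Nat.card {v : Fin n → F // h v v = 0 ∧ h v u = lam} := by
    rw [normCount, ← Nat.card_sigma]
    exact Nat.card_congr
      { toFun := fun v => ⟨h v.1 u, v.1, v.2, rfl⟩
        invFun := fun p => ⟨p.2.1, p.2.2.1⟩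
        left_inv := fun v => rfl
        right_inv := fun p => by obtain ⟨l, v, h1, rfl⟩ := p; rfl }
  have h1 := congrArg (Nat.cast : ℕ → ℤ) e1
  rw [← Finset.add_sum_erase _ _ (Finset.mem_univ (0 : F))] at h1
  push_cast at h1
  have hc : ∀ l ∈ (Finset.univ : Finset F).erase 0,
      (Nat.card {v : Fin n → F // h v v = 0 ∧ h v u = l} : ℤ) * q = ((q : ℤ) ^ 2) ^ (n - 1) :=
    fun l hl => by exact_mod_cast natCard_iso_affine hF hu huu (Finset.mem_erase.1 hl).1
  rw [h1, add_mul, Finset.sum_mul, Finset.sum_congr rfl hc, Finset.sum_const,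
    Finset.card_erase_of_mem (Finset.mem_univ _), Finset.card_univ, hF, nsmul_eq_mul,
    Nat.cast_sub (Nat.one_le_pow _ _ (by have := two_le_q hF; positivity))]
  push_cast
  ring

theorem count_lines (hF : Fintype.card F = q ^ 2) :
    (Nat.card {W : Submodule F (Fin n → F) // finrank F W = 2 ∧ ∀ u ∈ W, ∀ v ∈ W, h u v = 0} : ℤ) *
        (((q : ℤ) ^ 2) ^ 2 - 1) * (((q : ℤ) ^ 2) ^ 2 - (q : ℤ) ^ 2) * q =
      ((normCount n F q 0 : ℤ) - 1) *
        ((normCount n F q 0 : ℤ) * q - ((q : ℤ) ^ 2 - 1) * ((q : ℤ) ^ 2) ^ (n - 1) - (q : ℤ) ^ 2 * q) := by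
  classical
  let TI := {W : Submodule F (Fin n → F) // finrank F W = 2 ∧ ∀ u ∈ W, ∀ v ∈ W, h u v = 0}
  let S := {p : Fin 2 → Fin n → F // LinearIndependent F p ∧ ∀ i j, h (p i) (p j) = 0}
  have hspan : ∀ p : S, finrank F (Submodule.span F (Set.range p.1)) = 2 ∧
      ∀ u ∈ Submodule.span F (Set.range p.1), ∀ v ∈ Submodule.span F (Set.range p.1), h u v = 0 := by
    intro p
    refine ⟨(finrank_span_eq_card p.2.1).trans (Fintype.card_fin 2), fun u hu v hv => ?_⟩
    obtain ⟨a, rfl⟩ := (Submodule.mem_span_range_iff_exists_fun F).1 hu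
    obtain ⟨b, rfl⟩ := (Submodule.mem_span_range_iff_exists_fun F).1 hv
    simp [Fin.sum_univ_two, hermForm_add_left, hB_add_right hF, hermForm_smul_left, hB_smul_right hF,
      p.2.2]
  let sp : S → TI := fun p => ⟨_, hspan p⟩
  let e : S ≃ (W : TI) × {s : Fin 2 → W.1 // LinearIndependent F s} :=
    (Equiv.sigmaFiberEquiv sp).symm.trans (Equiv.sigmaCongrRight fun W =>
      { toFun := fun p => ⟨fun i => ⟨p.1.1 i, (congrArg Subtype.val p.2 : Submodule.span F _ = W.1) ▸
            Submodule.subset_span ⟨i, rfl⟩⟩, LinearIndependent.of_comp (Submodule.subtype _) p.1.2.1⟩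
        invFun := fun s => ⟨⟨fun i => (s.1 i : Fin n → F), s.2.map' W.1.subtype W.1.ker_subtype,
            fun i j => W.2.2 _ (s.1 i).2 _ (s.1 j).2⟩, Subtype.ext (Submodule.eq_of_le_of_finrank_eq
              (Submodule.span_le.2 (Set.range_subset_iff.2 fun i => (s.1 i).2)) (((finrank_span_eq_card (s.2.map' W.1.subtype W.1.ker_subtype)).trans
                (Fintype.card_fin 2)).trans W.2.1.symm))⟩
        left_inv := fun p => rfl
        right_inv := fun s => rfl })
  have hfib : ∀ W : TI, Nat.card {s : Fin 2 → W.1 // LinearIndependent F s} =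
      ((q ^ 2) ^ 2 - 1) * ((q ^ 2) ^ 2 - q ^ 2) := fun W => by
    rw [card_linearIndependent (by rw [W.2.1]), W.2.1, Fin.prod_univ_two, hF]
    simp
  have hS1 : Nat.card S = Nat.card TI * (((q ^ 2) ^ 2 - 1) * ((q ^ 2) ^ 2 - q ^ 2)) := by
    rw [Nat.card_congr e, Nat.card_sigma, Finset.sum_congr rfl (fun W _ => hfib W), Finset.sum_const,
      Finset.card_univ, smul_eq_mul, Nat.card_eq_fintype_card]
  -- the count by the first vector
  let I := {u : Fin n → F // h u u = 0 ∧ u ≠ 0}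
  let e2 : S ≃ (u : I) × {v : {v : Fin n → F // h v v = 0 ∧ h v u.1 = 0} // v.1 ∉ F ∙ u.1} :=
    { toFun := fun p => ⟨⟨p.1 0, p.2.2 0 0, p.2.1.ne_zero 0⟩, ⟨p.1 1, p.2.2 1 1, p.2.2 1 0⟩, fun hm => by
        obtain ⟨c, hc⟩ := Submodule.mem_span_singleton.1 hm
        exact (LinearIndependent.pair_iff' (p.2.1.ne_zero 0)).1
          (by
            rw [show ![p.1 0, p.1 1] = p.1 from funext fun i => by fin_cases i <;> rfl]
            exact p.2.1) c hc⟩
      invFun := fun x => ⟨![x.1.1, x.2.1.1], (LinearIndependent.pair_iff' x.1.2.2).2 fun c hc =>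
          x.2.2 (Submodule.mem_span_singleton.2 ⟨c, hc⟩), fun i j => by
        fin_cases i <;> fin_cases j <;>
          simp [x.1.2.1, x.2.1.2.1, x.2.1.2.2,
            show h x.1.1 x.2.1.1 = 0 by
              rw [← hermForm_symm hF n x.2.1.1 x.1.1, x.2.1.2.2, zero_pow (by have := two_le_q hF; omega)]]⟩
      left_inv := fun p => Subtype.ext (funext fun i => by fin_cases i <;> rfl)
      right_inv := fun x => rfl }
  have hfib2 : ∀ u : I, (Nat.card {v : {v : Fin n → F // h v v = 0 ∧ h v u.1 = 0} // v.1 ∉ F ∙ u.1} : ℤ) * q =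
      (normCount n F q 0 : ℤ) * q - ((q : ℤ) ^ 2 - 1) * ((q : ℤ) ^ 2) ^ (n - 1) - (q : ℤ) ^ 2 * q := by
    intro u
    have hin : Nat.card {v : {v : Fin n → F // h v v = 0 ∧ h v u.1 = 0} // v.1 ∈ F ∙ u.1} = q ^ 2 := by
      rw [← hF, ← Nat.card_eq_fintype_card]
      refine (Nat.card_congr (Equiv.ofBijective (fun c : F => (⟨⟨c • u.1, by
        simp [hermForm_smul_left, hB_smul_right hF, u.2.1]⟩,
        Submodule.smul_mem _ _ (Submodule.mem_span_singleton_self _)⟩ :
          {v : {v : Fin n → F // h v v = 0 ∧ h v u.1 = 0} // v.1 ∈ F ∙ u.1})) ⟨?_, ?_⟩)).symm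
      · intro a b hab
        exact smul_left_injective F u.2.2 (congrArg (fun x => x.1.1) hab)
      · rintro ⟨⟨v, hv⟩, hm⟩
        obtain ⟨c, hc⟩ := Submodule.mem_span_singleton.1 hm
        exact ⟨c, Subtype.ext (Subtype.ext hc)⟩
    have hsplit : Nat.card {v : Fin n → F // h v v = 0 ∧ h v u.1 = 0} = q ^ 2 +
        Nat.card {v : {v : Fin n → F // h v v = 0 ∧ h v u.1 = 0} // v.1 ∉ F ∙ u.1} := by
      rw [← hin, ← Nat.card_sum]
      exact Nat.card_congr (Equiv.sumCompl _).symm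
    have := natCard_iso_perp hF u.2.2 u.2.1
    rw [hsplit] at this
    push_cast at this
    linarith
  have hI : (Nat.card I : ℤ) = (normCount n F q 0 : ℤ) - 1 := by
    have : Nat.card I + 1 = normCount n F q 0 := by
      have e3 : I ≃ {v : {v : Fin n → F // h v v = 0} // v.1 ≠ 0} :=
        (Equiv.subtypeSubtypeEquivSubtypeInter _ _).symm
      have h0 : Nat.card {v : {v : Fin n → F // h v v = 0} // ¬ v.1 ≠ 0} = 1 :=
        Nat.card_eq_one_iff_unique.2 ⟨⟨fun a b => Subtype.ext (Subtype.ext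
          ((not_ne_iff.1 a.2).trans (not_ne_iff.1 b.2).symm))⟩,
          ⟨⟨⟨0, by simp [hermForm]⟩, not_ne_iff.2 rfl⟩⟩⟩
      rw [Nat.card_congr e3, ← h0, ← Nat.card_sum]
      exact Nat.card_congr (Equiv.sumCompl _)
    omega
  have hS2 : (Nat.card S : ℤ) * q = (Nat.card I : ℤ) *
      ((normCount n F q 0 : ℤ) * q - ((q : ℤ) ^ 2 - 1) * ((q : ℤ) ^ 2) ^ (n - 1) - (q : ℤ) ^ 2 * q) := by
    rw [Nat.card_congr e2, Nat.card_sigma]
    push_cast
    rw [Finset.sum_mul, Finset.sum_congr rfl (fun u _ => hfib2 u), Finset.sum_const, Finset.card_univ,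
      nsmul_eq_mul, Nat.card_eq_fintype_card]
  rw [← hI, ← hS2, hS1]
  have h1 : 1 ≤ (q ^ 2) ^ 2 := Nat.one_le_pow _ _ (by have := two_le_q hF; positivity)
  have h2 : q ^ 2 ≤ (q ^ 2) ^ 2 := Nat.le_self_pow two_ne_zero _
  push_cast [Nat.cast_sub h1, Nat.cast_sub h2]
  ring

theorem count_four {F : Type*} [Field F] [Fintype F] {q : ℕ} (hF : Fintype.card F = q ^ 2) :
    Nat.card {W : Submodule F (Fin 4 → F) // finrank F W = 2 ∧ ∀ u ∈ W, ∀ v ∈ W, hermForm 4 F q u v = 0} =
      (q + 1) * (q ^ 3 + 1) := by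
  have hq := two_le_q hF
  have hN := normCount_zero hF 4
  have hmain := count_lines (n := 4) hF
  have hq0 : (q : ℤ) ≠ 0 := by positivity
  have hN' : (normCount 4 F q 0 : ℤ) = (q : ℤ) ^ 7 + (q : ℤ) ^ 4 - (q : ℤ) ^ 3 :=
    mul_right_cancel₀ hq0 (hN.trans (by ring))
  rw [hN'] at hmain
  have hpos : (((q : ℤ) ^ 2) ^ 2 - 1) * (((q : ℤ) ^ 2) ^ 2 - (q : ℤ) ^ 2) * q ≠ 0 := by
    have h1 : (1 : ℤ) < (q : ℤ) ^ 2 := by nlinarith
    have h2 : (q : ℤ) ^ 2 < ((q : ℤ) ^ 2) ^ 2 := by nlinarith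
    exact mul_ne_zero (mul_ne_zero (by linarith) (by linarith)) hq0
  refine Nat.cast_injective (R := ℤ) (mul_right_cancel₀ hpos ?_)
  push_cast
  rw [← mul_assoc, ← mul_assoc, hmain]
  norm_num
  ring

theorem count_five {F : Type*} [Field F] [Fintype F] {q : ℕ} (hF : Fintype.card F = q ^ 2) :
    Nat.card {W : Submodule F (Fin 5 → F) // finrank F W = 2 ∧ ∀ u ∈ W, ∀ v ∈ W, hermForm 5 F q u v = 0} =
      (q ^ 3 + 1) * (q ^ 5 + 1) := by
  have hq := two_le_q hF
  have hN := normCount_zero hF 5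
  have hmain := count_lines (n := 5) hF
  have hq0 : (q : ℤ) ≠ 0 := by positivity
  have hN' : (normCount 5 F q 0 : ℤ) = (q : ℤ) ^ 9 - (q : ℤ) ^ 5 + (q : ℤ) ^ 4 :=
    mul_right_cancel₀ hq0 (hN.trans (by ring))
  rw [hN'] at hmain
  have hpos : (((q : ℤ) ^ 2) ^ 2 - 1) * (((q : ℤ) ^ 2) ^ 2 - (q : ℤ) ^ 2) * q ≠ 0 := by
    have h1 : (1 : ℤ) < (q : ℤ) ^ 2 := by nlinarith
    have h2 : (q : ℤ) ^ 2 < ((q : ℤ) ^ 2) ^ 2 := by nlinarith
    exact mul_ne_zero (mul_ne_zero (by linarith) (by linarith)) hq0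
  refine Nat.cast_injective (R := ℤ) (mul_right_cancel₀ hpos ?_)
  push_cast
  rw [← mul_assoc, ← mul_assoc, hmain]
  norm_num
  ring

end Cfsg.Agent.HermTotIsoLines
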