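import Cfsg.Agent.Lib.Classical.OrthGenTrans
import Cfsg.Agent.Lib.Classical.OrthCount
import Mathlib.NumberTheory.LegendreSymbol.QuadraticChar.Basic

/-!
The standard pairs of the model forms, the Levi subgroup of `O(qfPlus)`, and involutions negating
standard pairs.
-/

set_option autoImplicit false
set_option linter.unusedSectionVars false

namespace Cfsg.Agent.Classical.OrthAut

open Matrix Module

variable {F : Type*} [Field F] [Fintype F]

theorem two_ne_zero_of_odd {q : ℕ} (hF : Fintype.card F = q) (hq : Odd q) : (2 : F) ≠ 0 :=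
  Ring.two_ne_zero fun h => Nat.not_even_iff_odd.2 hq
    (hF ▸ Nat.even_iff.2 (FiniteField.even_card_iff_char_two.1 h))

theorem isSquare_negOne_pow_iff {q : ℕ} (hF : Fintype.card F = q) (hq : Odd q) (i : ℕ) :
    IsSquare ((-1 : F) ^ i) ↔ q ^ i % 4 = 1 := by
  have h4 : q % 4 = 1 ∨ q % 4 = 3 := by have := Nat.odd_iff.1 hq; omega
  rcases Nat.even_or_odd' i with ⟨k, rfl | rfl⟩
  · refine iff_of_true (by rw [pow_mul, neg_one_sq, one_pow]; exact IsSquare.one) ?_
    rw [pow_mul, Nat.pow_mod, sq, Nat.mul_mod]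
    rcases h4 with h | h <;> simp [h]
  · rw [pow_succ, pow_mul, neg_one_sq, one_pow, one_mul, FiniteField.isSquare_neg_one_iff, hF, pow_succ,
      pow_mul, Nat.mul_mod, Nat.pow_mod, sq, Nat.mul_mod q q]
    rcases h4 with h | h <;> simp [h]

/-- Negating pairs, as an element of `Ω`. -/
theorem negate_mem_omega_iff {ι : Type} [Fintype ι] [DecidableEq ι] {Q : QuadraticForm F (ι → F)}
    (hQ : (QuadraticMap.polarBilin Q).Nondegenerate) (h2 : (2 : F) ≠ 0) {κ : Type} [DecidableEq κ]
    (e f : κ → ι → F) (P : ∀ j, Pair Q (e j) (f j))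
    (hp : ∀ i j, i ≠ j → Perp Q (e i) (f i) (e j) ∧ Perp Q (e i) (f i) (f j)) (s : Finset κ)
    (D : Matrix ι ι F) (hD : ∀ x, D *ᵥ x = x - ∑ j ∈ s, ((2 * QuadraticMap.polar ⇑Q (f j) x) • e j +
      (2 * QuadraticMap.polar ⇑Q (e j) x) • f j)) :
    (∃ g : isometryGroup F ⇑Q, g ∈ Omega F ⇑Q ∧ ogVal g = D) ↔ IsSquare ((-1 : F) ^ s.card) := by
  obtain ⟨x, hx, hd, hs⟩ := exists_negate hQ e f P hp h2 s
  have hxD : ogVal x = D := Matrix.ext_iff_mulVec.2 fun v => (hx v).trans (hD v).symm
  refine ⟨?_, fun h => ⟨x, (mem_omega_gen hQ (genQ_odd hQ h2) x).2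
    ⟨hd, by rw [hs, sqSign_of_isSquare h]⟩, hxD⟩⟩
  rintro ⟨g, hg, hgD⟩
  obtain rfl : g = x := ogVal_ext (hgD.trans hxD.symm)
  have h := ((mem_omega_gen hQ (genQ_odd hQ h2) g).1 hg).2
  rw [hs] at h
  by_contra hns
  rw [sqSign_of_not hns] at h
  exact absurd h (by decide)

section Plus

variable {m : ℕ}

/-- The standard `x`-vectors. -/
def ePlus (j : Fin m) : Fin m ⊕ Fin m → F := Pi.single (Sum.inl j) 1

/-- The standard `y`-vectors. -/
def fPlus (j : Fin m) : Fin m ⊕ Fin m → F := Pi.single (Sum.inr j) 1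

theorem polar_ePlus (j : Fin m) (x : Fin m ⊕ Fin m → F) :
    QuadraticMap.polar ⇑(qfPlus m F) (ePlus j) x = x (Sum.inr j) := by
  simp [polar_qfPlus, ePlus, Pi.single_apply]

theorem polar_fPlus (j : Fin m) (x : Fin m ⊕ Fin m → F) :
    QuadraticMap.polar ⇑(qfPlus m F) (fPlus j) x = x (Sum.inl j) := by
  simp [polar_qfPlus, fPlus, Pi.single_apply]

theorem pair_plus (j : Fin m) : Pair (qfPlus m F) (ePlus j) (fPlus j) :=
  ⟨by simp [qfPlus_apply, quadFormPlus, ePlus, Pi.single_apply],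
    by simp [qfPlus_apply, quadFormPlus, fPlus, Pi.single_apply],
    by rw [polar_ePlus, fPlus, Pi.single_eq_same]⟩

theorem perp_plus {i j : Fin m} (h : i ≠ j) :
    Perp (qfPlus m F) (ePlus i) (fPlus i) (ePlus j) ∧ Perp (qfPlus m F) (ePlus i) (fPlus i) (fPlus j) := by
  refine ⟨⟨(polar_ePlus _ _).trans ?_, (polar_fPlus _ _).trans ?_⟩, (polar_ePlus _ _).trans ?_,
    (polar_fPlus _ _).trans ?_⟩ <;> simp [ePlus, fPlus, Pi.single_apply, h]

/-- The standard half space `y = 0`. -/
def stdHalf (m : ℕ) (F : Type*) [Field F] : Submodule F (Fin m ⊕ Fin m → F) :=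
  LinearMap.ker (LinearMap.funLeft F F (Sum.inr : Fin m → Fin m ⊕ Fin m))

theorem half_stdHalf (m : ℕ) : Half (qfPlus m F) (stdHalf m F) := by
  refine ⟨fun u hu => ?_, ?_⟩
  · rw [qfPlus_apply, quadFormPlus]
    exact Finset.sum_eq_zero fun i _ => by
      rw [show u (Sum.inr i) = 0 from congrFun (LinearMap.mem_ker.1 hu) i, mul_zero]
  · have h := LinearMap.finrank_range_add_finrank_ker
      (LinearMap.funLeft F F (Sum.inr : Fin m → Fin m ⊕ Fin m))
    rw [LinearMap.range_eq_top.2 (LinearMap.funLeft_surjective_of_injective F F _ Sum.inr_injective),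
      finrank_top, Module.finrank_pi, Module.finrank_pi] at h
    simp only [Fintype.card_sum, Fintype.card_fin] at h ⊢
    show 2 * finrank F ↥(stdHalf m F) = _
    unfold stdHalf
    omega

theorem mem_stdHalf {v : Fin m ⊕ Fin m → F} : v ∈ stdHalf m F ↔ ∀ i, v (Sum.inr i) = 0 := by
  rw [stdHalf, LinearMap.mem_ker, funext_iff]
  rfl

/-- The element `diag(A, A⁻ᵀ)`. -/
noncomputable def leviPlus (m : ℕ) : GL (Fin m) F →* isometryGroup F ⇑(qfPlus m F) where
  toFun A := ⟨⟨fromBlocks (A : Matrix (Fin m) (Fin m) F) 0 0 ((A⁻¹ : GL (Fin m) F) : Matrix (Fin m) (Fin m) F)ᵀ,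
      fromBlocks ((A⁻¹ : GL (Fin m) F) : Matrix (Fin m) (Fin m) F) 0 0 (A : Matrix (Fin m) (Fin m) F)ᵀ,
      by rw [fromBlocks_multiply]; simp [← transpose_mul],
      by rw [fromBlocks_multiply]; simp [← transpose_mul]⟩,
    mem_isometryGroup.2 fun v => by
      show qfPlus m F (fromBlocks _ 0 0 _ *ᵥ v) = _
      rw [qfPlus_apply, qfPlus_apply, fromBlocks_mulVec]
      simp only [quadFormPlus, Sum.elim_inl, Sum.elim_inr, zero_mulVec, add_zero, zero_add]
      show (((A : Matrix (Fin m) (Fin m) F) *ᵥ (v ∘ Sum.inl)) ⬝ᵥ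
        (((A⁻¹ : GL (Fin m) F) : Matrix (Fin m) (Fin m) F)ᵀ *ᵥ (v ∘ Sum.inr))) = (v ∘ Sum.inl) ⬝ᵥ (v ∘ Sum.inr)
      rw [dotProduct_mulVec, vecMul_transpose, mulVec_mulVec, ← Units.val_mul, inv_mul_cancel,
        Units.val_one, one_mulVec]⟩
  map_one' := ogVal_ext (by show fromBlocks _ 0 0 _ = _; rw [ogVal_one]; simp)
  map_mul' A C := ogVal_ext (by
    show fromBlocks _ 0 0 _ = _
    rw [ogVal_mul]
    show _ = fromBlocks _ 0 0 _ * fromBlocks _ 0 0 _
    rw [fromBlocks_multiply, _root_.mul_inv_rev]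
    simp [transpose_mul])

theorem leviPlus_val (A : GL (Fin m) F) :
    ogVal (leviPlus m A) = fromBlocks (A : Matrix (Fin m) (Fin m) F) 0 0 ((A : Matrix (Fin m) (Fin m) F)⁻¹)ᵀ := by
  show fromBlocks _ 0 0 _ = _
  rw [Matrix.coe_units_inv]

theorem leviPlus_fixes (A : GL (Fin m) F) :
    imageSubmodule (ogVal (leviPlus m A)) (stdHalf m F) = stdHalf m F := by
  refine map_eq_of_mem (Q := qfPlus m F) _ fun v hv => mem_stdHalf.2 fun i => ?_
  rw [leviPlus_val, fromBlocks_mulVec]
  simp [show v ∘ Sum.inr = 0 from funext (mem_stdHalf.1 hv)]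

/-- The diagonal matrix with one entry. -/
theorem spin_leviPlus (hG : GenQ F (Fin m ⊕ Fin m)) (A : GL (Fin m) F) :
    spin (leviPlus m A) = sqSign (A : Matrix (Fin m) (Fin m) F).det := by
  have hQ := nondegenerate_qfPlus (F := F) m
  by_cases h2 : (2 : F) = 0
  · haveI : CharP F 2 := CharTwo.of_one_ne_zero_of_two_eq_zero one_ne_zero h2
    rw [spin_two hQ h2, sqSign_of_isSquare (FiniteField.isSquare_of_char_two (ringChar.eq F 2) _)]
  refine Matrix.diagonal_transvection_induction_of_det_ne_zero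
    (P := fun M => ∀ A : GL (Fin m) F, (A : Matrix (Fin m) (Fin m) F) = M → spin (leviPlus m A) = sqSign M.det)
    _ A.det_ne_zero ?_ ?_ ?_ A rfl
  · intro d hd
    rw [det_diagonal] at hd
    have hd0 : ∀ j, d j ≠ 0 := fun j => Finset.prod_ne_zero_iff.1 hd j (Finset.mem_univ j)
    suffices h : ∀ s : Finset (Fin m), ∀ A : GL (Fin m) F,
        (A : Matrix (Fin m) (Fin m) F) = diagonal (fun j => if j ∈ s then d j else 1) →
          spin (leviPlus m A) = sqSign (∏ j ∈ s, d j) by
      intro A hA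
      rw [det_diagonal]
      exact h Finset.univ A (by simpa using hA)
    intro s
    induction s using Finset.induction with
    | empty =>
      intro A hA
      obtain rfl : A = 1 := Units.ext (by simpa using hA)
      rw [map_one, ← spinHom_apply hQ, map_one, Finset.prod_empty, sqSign_of_isSquare IsSquare.one]
    | insert a s ha ih =>
      intro A hA
      set Ds := diagonal (fun j => if j ∈ s then d j else 1) with hDs
      set Da := diagonal (Function.update (1 : Fin m → F) a (d a)) with hDa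
      have h1 : Ds.det ≠ 0 := by
        rw [hDs, det_diagonal]
        exact Finset.prod_ne_zero_iff.2 fun j _ => by split_ifs; exacts [hd0 j, one_ne_zero]
      have h3 : Da.det ≠ 0 := by
        rw [hDa, det_diagonal]
        exact Finset.prod_ne_zero_iff.2 fun j _ => by
          rcases eq_or_ne j a with rfl | hj
          · rw [Function.update_self]; exact hd0 j
          · rw [Function.update_of_ne hj]; exact one_ne_zero
      set X := Matrix.GeneralLinearGroup.mkOfDetNeZero Da h3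
      set Y := Matrix.GeneralLinearGroup.mkOfDetNeZero Ds h1
      have hA' : A = X * Y := Units.ext (by
        show (A : Matrix (Fin m) (Fin m) F) = Da * Ds
        rw [hA, hDa, hDs, diagonal_mul_diagonal]
        congr 1
        funext j
        rcases eq_or_ne j a with rfl | hj
        · simp [ha]
        · simp [hj])
      obtain ⟨g, hg, -, hgs, -⟩ := exists_torus_elt hQ (pair_plus (F := F) a) (hd0 a)
      have hXg : leviPlus m X = g := ogVal_ext (Matrix.ext_iff_mulVec.2 fun v => by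
        rw [leviPlus_val, hg, polar_fPlus, polar_ePlus, fromBlocks_mulVec]
        show _ = _
        rw [show ((X : Matrix (Fin m) (Fin m) F)⁻¹) = diagonal (Function.update (1 : Fin m → F) a (d a)⁻¹) from
          Matrix.inv_eq_right_inv (by
            show Da * _ = 1
            rw [hDa, diagonal_mul_diagonal, ← diagonal_one]
            congr 1
            funext j
            rcases eq_or_ne j a with rfl | hj
            · simp [hd0 j]
            · simp [hj])]
        funext k
        rcases k with k | k <;>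
        · rcases eq_or_ne k a with rfl | hk
          · simp [show (X : Matrix (Fin m) (Fin m) F) = Da from rfl, hDa, ePlus, fPlus, Matrix.mulVec_diagonal]
            ring
          · simp [show (X : Matrix (Fin m) (Fin m) F) = Da from rfl, hDa, ePlus, fPlus, Matrix.mulVec_diagonal, hk])
      rw [hA', map_mul, spin_mul hQ, hXg, hgs, ih Y rfl, Finset.prod_insert ha,
        sqSign_mul (hd0 a) (Finset.prod_ne_zero_iff.2 fun j _ => hd0 j)]
  · intro t A hA
    set T := Matrix.GeneralLinearGroup.mkOfDetNeZero (transvection t.i t.j (t.c / 2))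
      (by rw [det_transvection_of_ne _ _ t.hij]; exact one_ne_zero)
    have hA' : A = T * T := Units.ext (by
      show (A : Matrix (Fin m) (Fin m) F) = transvection t.i t.j (t.c / 2) * transvection t.i t.j (t.c / 2)
      rw [hA, transvection_mul_transvection_same _ _ t.hij, ← two_mul, mul_div_cancel₀ _ h2]
      rfl)
    rw [hA', map_mul, spin_mul hQ, Int.units_mul_self, TransvectionStruct.det, sqSign_of_isSquare IsSquare.one]
  · intro M N hM hN ihM ihN A hA
    obtain rfl : A = Matrix.GeneralLinearGroup.mkOfDetNeZero M hM * Matrix.GeneralLinearGroup.mkOfDetNeZero N hN :=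
      Units.ext hA
    rw [map_mul, spin_mul hQ, ihM _ rfl, ihN _ rfl, det_mul, sqSign_mul hM hN]

/-- `diag(A, A⁻ᵀ) ∈ Ω` iff `det A` is a square. -/
theorem leviPlus_mem_omega_iff (hG : GenQ F (Fin m ⊕ Fin m)) (A : GL (Fin m) F) :
    leviPlus m A ∈ Omega F ⇑(qfPlus m F) ↔ IsSquare (A : Matrix (Fin m) (Fin m) F).det := by
  have hQ := nondegenerate_qfPlus (F := F) m
  rw [mem_omega_gen hQ hG, spin_leviPlus hG,
    dick_of_fixes_half hQ hG (half_stdHalf m) (leviPlus_fixes A)]
  refine ⟨fun h => ?_, fun h => ⟨rfl, sqSign_of_isSquare h⟩⟩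
  by_contra hns
  exact absurd (h.2) (by rw [sqSign_of_not hns]; decide)

theorem even_class_iff (hG : GenQ F (Fin m ⊕ Fin m)) (g : isometryGroup F ⇑(qfPlus m F)) :
    Even (m - finrank F ↥(stdHalf m F ⊓ (stdHalf m F).map (Matrix.mulVecLin (ogVal g)))) ↔ dick g = 1 := by
  have hQ := nondegenerate_qfPlus (F := F) m
  have hU := half_stdHalf (F := F) m
  have hm : finrank F (stdHalf m F) = m := by
    have := hU.2; rw [Fintype.card_sum, Fintype.card_fin] at this; omega
  have h := pSign_image_gen hQ hG hU hU g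
  rw [pSign_self, mul_one] at h
  rw [← h, pSign_eq_one_iff, SameParityClass, hm]
  rfl

end Plus

section Odd

variable {m : ℕ}

/-- The standard `x`-vectors of the odd form. -/
def eOdd (j : Fin m) : Unit ⊕ (Fin m ⊕ Fin m) → F := Pi.single (Sum.inr (Sum.inl j)) 1

/-- The standard `y`-vectors of the odd form. -/
def fOdd (j : Fin m) : Unit ⊕ (Fin m ⊕ Fin m) → F := Pi.single (Sum.inr (Sum.inr j)) 1

theorem polar_eOdd (j : Fin m) (x : Unit ⊕ (Fin m ⊕ Fin m) → F) :
    QuadraticMap.polar ⇑(qfOdd m F) (eOdd j) x = x (Sum.inr (Sum.inr j)) := by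
  simp [polar_qfOdd, eOdd, Pi.single_apply]

theorem polar_fOdd (j : Fin m) (x : Unit ⊕ (Fin m ⊕ Fin m) → F) :
    QuadraticMap.polar ⇑(qfOdd m F) (fOdd j) x = x (Sum.inr (Sum.inl j)) := by
  simp [polar_qfOdd, fOdd, Pi.single_apply]

theorem pair_odd (j : Fin m) : Pair (qfOdd m F) (eOdd j) (fOdd j) :=
  ⟨by simp [qfOdd_apply, quadFormOdd, eOdd, Pi.single_apply],
    by simp [qfOdd_apply, quadFormOdd, fOdd, Pi.single_apply],
    by rw [polar_eOdd, fOdd, Pi.single_eq_same]⟩

theorem perp_odd {i j : Fin m} (h : i ≠ j) :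
    Perp (qfOdd m F) (eOdd i) (fOdd i) (eOdd j) ∧ Perp (qfOdd m F) (eOdd i) (fOdd i) (fOdd j) := by
  refine ⟨⟨(polar_eOdd _ _).trans ?_, (polar_fOdd _ _).trans ?_⟩, (polar_eOdd _ _).trans ?_,
    (polar_fOdd _ _).trans ?_⟩ <;> simp [eOdd, fOdd, Pi.single_apply, h]

end Odd

section Minus

variable {m : ℕ} {a b : F}

/-- The standard `x`-vectors of the elliptic form. -/
def eMinus (j : Fin m) : (Fin m ⊕ Fin m) ⊕ Fin 2 → F := Pi.single (Sum.inl (Sum.inl j)) 1

/-- The standard `y`-vectors of the elliptic form. -/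
def fMinus (j : Fin m) : (Fin m ⊕ Fin m) ⊕ Fin 2 → F := Pi.single (Sum.inl (Sum.inr j)) 1

theorem polar_eMinus (j : Fin m) (x : (Fin m ⊕ Fin m) ⊕ Fin 2 → F) :
    QuadraticMap.polar ⇑(qfMinus m F a b) (eMinus j) x = x (Sum.inl (Sum.inr j)) := by
  simp [polar_qfMinus, eMinus, Pi.single_apply]

theorem polar_fMinus (j : Fin m) (x : (Fin m ⊕ Fin m) ⊕ Fin 2 → F) :
    QuadraticMap.polar ⇑(qfMinus m F a b) (fMinus j) x = x (Sum.inl (Sum.inl j)) := by
  simp [polar_qfMinus, fMinus, Pi.single_apply]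

theorem pair_minus (j : Fin m) : Pair (qfMinus m F a b) (eMinus j) (fMinus j) :=
  ⟨by simp [qfMinus_apply, quadFormMinus, eMinus, Pi.single_apply],
    by simp [qfMinus_apply, quadFormMinus, fMinus, Pi.single_apply],
    by rw [polar_eMinus, fMinus, Pi.single_eq_same]⟩

theorem perp_minus {i j : Fin m} (h : i ≠ j) :
    Perp (qfMinus m F a b) (eMinus i) (fMinus i) (eMinus j) ∧
      Perp (qfMinus m F a b) (eMinus i) (fMinus i) (fMinus j) := by
  refine ⟨⟨(polar_eMinus _ _).trans ?_, (polar_fMinus _ _).trans ?_⟩, (polar_eMinus _ _).trans ?_,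
    (polar_fMinus _ _).trans ?_⟩ <;> simp [eMinus, fMinus, Pi.single_apply, h]

end Minus

end Cfsg.Agent.Classical.OrthAut
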