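import Cfsg.Agent.Lib.Classical.OrthAutFrame
import Cfsg.Agent.Lib.Classical.OrthCount

/-!
The three standard forms satisfy the hypotheses of `gamma_eq_top`.
-/

set_option autoImplicit false
set_option linter.unusedSectionVars false

namespace Cfsg.Agent.Classical.OrthAut

variable {F : Type*} [Field F]

theorem tri_of_injection {ι : Type} [Fintype ι] [DecidableEq ι] (Q : QuadraticForm F (ι → F)) {m : ℕ}
    (hm : 3 ≤ m) (i : Fin m → ι) (hi : Function.Injective i)
    (hsing : ∀ c : Fin m → F, Q (∑ k, c k • Pi.single (i k) (1 : F)) = 0) : Tri Q := by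
  set v : Fin m → (ι → F) := fun k => Pi.single (i k) 1 with hv
  let a : Fin m := ⟨0, by omega⟩
  let b : Fin m := ⟨1, by omega⟩
  let c : Fin m := ⟨2, by omega⟩
  have one : ∀ k, Q (v k) = 0 := fun k => by
    classical
    have := hsing (Pi.single k 1)
    rwa [Finset.sum_eq_single k (fun j _ hj => by simp [Pi.single_eq_of_ne hj]) (by simp),
      Pi.single_eq_same, one_smul] at this
  have two : ∀ k l, k ≠ l → QuadraticMap.polar ⇑Q (v k) (v l) = 0 := fun k l hkl => by
    classical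
    have := hsing (Pi.single k 1 + Pi.single l 1)
    simp only [Pi.add_apply, add_smul, Finset.sum_add_distrib] at this
    rw [Finset.sum_eq_single k (fun j _ hj => by simp [Pi.single_eq_of_ne hj]) (by simp),
      Finset.sum_eq_single l (fun j _ hj => by simp [Pi.single_eq_of_ne hj]) (by simp),
      Pi.single_eq_same, one_smul, Pi.single_eq_same, one_smul, QuadraticMap.map_add ⇑Q] at this
    simpa [← hv, show Q (Pi.single (i k) 1) = 0 from one k, show Q (Pi.single (i l) 1) = 0 from one l] using this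
  have hne : ∀ {k l : Fin m}, k.val ≠ l.val → k ≠ l := fun h e => h (congrArg Fin.val e)
  have hab : i a ≠ i b := fun e => hne (by simp [a, b]) (hi e)
  have hac : i a ≠ i c := fun e => hne (by simp [a, c]) (hi e)
  have hbc : i b ≠ i c := fun e => hne (by simp [b, c]) (hi e)
  refine ⟨v a, v b, v c, ⟨one a, one b, two a b (hne (by simp [a, b])), fun s t h => ?_⟩, one c,
    two a c (hne (by simp [a, c])), two b c (hne (by simp [b, c])), fun s t u h => ?_⟩
  · exact ⟨by simpa [v, hab, hab.symm] using congrFun h (i a), by simpa [v, hab, hab.symm] using congrFun h (i b)⟩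
  · exact ⟨by simpa [v, hab, hab.symm, hac, hac.symm] using congrFun h (i a),
      by simpa [v, hab, hab.symm, hbc, hbc.symm] using congrFun h (i b),
      by simpa [v, hac, hac.symm, hbc, hbc.symm] using congrFun h (i c)⟩

theorem tri_qfOdd {m : ℕ} (hm : 3 ≤ m) : Tri (qfOdd m F) :=
  tri_of_injection _ hm (fun k => Sum.inr (Sum.inl k)) (Sum.inr_injective.comp Sum.inl_injective) fun c => by
    classical
    simp [qfOdd_apply, quadFormOdd, Finset.sum_apply, Pi.single_apply]

theorem tri_qfPlus {m : ℕ} (hm : 3 ≤ m) : Tri (qfPlus m F) :=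
  tri_of_injection _ hm Sum.inl Sum.inl_injective fun c => by
    classical
    simp [qfPlus_apply, quadFormPlus, Finset.sum_apply, Pi.single_apply]

theorem tri_qfMinus {m : ℕ} (hm : 3 ≤ m) (a b : F) : Tri (qfMinus m F a b) :=
  tri_of_injection _ hm (fun k => Sum.inl (Sum.inl k)) (Sum.inl_injective.comp Sum.inl_injective) fun c => by
    classical
    simp [qfMinus_apply, quadFormMinus, Finset.sum_apply, Pi.single_apply]

variable [Fintype F]

theorem cast_dNum : ((dNum F : ℕ) : ℤ) =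
    ((Fintype.card F : ℤ) + 1) ^ 2 * ((Fintype.card F : ℤ) - 1) := by
  rw [dNum, Nat.cast_mul, cast_card_sub_one]; push_cast; ring

theorem good_qfOdd {m : ℕ} (hm : 3 ≤ m) : Good (qfOdd m F) := by
  intro h
  have hn : Fintype.card (Unit ⊕ (Fin m ⊕ Fin m)) = 2 * m + 1 := by simp; omega
  obtain ⟨j, rfl⟩ : ∃ j, m = j + 3 := ⟨m - 3, by omega⟩
  rw [zeros_qfOdd, hn, show 2 * (j + 3) + 1 - 4 = 2 * j + 3 by omega,
    show 2 * (j + 3) + 1 - 2 = 2 * j + 5 by omega] at h
  have hq : (2 : ℤ) ≤ Fintype.card F := by exact_mod_cast Fintype.one_lt_card (α := F)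
  have h' := congrArg (fun n : ℕ => (n : ℤ)) h
  simp only [Nat.cast_add, Nat.cast_mul, Nat.cast_pow, cast_card_sub_one, cast_dNum, Nat.cast_one] at h'
  set q : ℤ := (Fintype.card F : ℤ)
  have key : q ^ 3 * (q ^ (2 * j + 1) - (q ^ 2 + q - 1)) = 0 := by linear_combination h'
  rcases mul_eq_zero.1 key with h0 | h0
  · exact absurd h0 (pow_ne_zero _ (by linarith))
  rcases Nat.eq_zero_or_pos j with rfl | hj
  · simp only [Nat.mul_zero, Nat.zero_add, pow_one] at h0
    nlinarith
  · have : q ^ 3 ≤ q ^ (2 * j + 1) := pow_le_pow_right₀ (by linarith) (by omega)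
    nlinarith

theorem good_qfPlus {m : ℕ} (hm : 5 ≤ m) : Good (qfPlus m F) := by
  intro h
  have hn : Fintype.card (Fin m ⊕ Fin m) = 2 * m := by simp; omega
  have hz := zeros_qfPlus (F := F) m
  rw [hn] at h
  obtain ⟨j, rfl⟩ : ∃ j, m = j + 5 := ⟨m - 5, by omega⟩
  rw [h, show 2 * (j + 5) - 4 = 2 * j + 6 by omega, show 2 * (j + 5) - 2 = 2 * j + 8 by omega] at hz
  have hq : (2 : ℤ) ≤ Fintype.card F := by exact_mod_cast Fintype.one_lt_card (α := F)
  simp only [Nat.cast_add, Nat.cast_mul, Nat.cast_pow, cast_card_sub_one, cast_dNum, Nat.cast_one] at hz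
  set q : ℤ := (Fintype.card F : ℤ)
  have key : q ^ 4 * ((q ^ 2 + q - 1) - q ^ (2 * j + 4) - (q ^ (j + 2) - q ^ (j + 1))) = 0 := by
    linear_combination hz
  rcases mul_eq_zero.1 key with h0 | h0
  · exact absurd h0 (pow_ne_zero _ (by linarith))
  have h1 : q ^ 4 ≤ q ^ (2 * j + 4) := pow_le_pow_right₀ (by linarith) (by omega)
  have h2 : q ^ (j + 1) ≤ q ^ (j + 2) := pow_le_pow_right₀ (by linarith) (by omega)
  have h3 : 4 * q ^ 2 ≤ q ^ 4 := by nlinarith [mul_nonneg (sq_nonneg q) (show 0 ≤ q ^ 2 - 4 by nlinarith)]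
  nlinarith

theorem good_qfMinus {m : ℕ} (hm : 3 ≤ m) {a b : F}
    (hab : ∀ z₁ z₂ : F, z₁ ^ 2 + a * z₁ * z₂ + b * z₂ ^ 2 = 0 → z₁ = 0 ∧ z₂ = 0) :
    Good (qfMinus m F a b) := by
  intro h
  have hn : Fintype.card ((Fin m ⊕ Fin m) ⊕ Fin 2) = 2 * m + 2 := by simp; omega
  have hz := zeros_qfMinus m hab
  rw [hn] at h
  obtain ⟨j, rfl⟩ : ∃ j, m = j + 3 := ⟨m - 3, by omega⟩
  rw [h, show 2 * (j + 3) + 2 - 4 = 2 * j + 4 by omega, show 2 * (j + 3) + 2 - 2 = 2 * j + 6 by omega] at hz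
  have hq : (2 : ℤ) ≤ Fintype.card F := by exact_mod_cast Fintype.one_lt_card (α := F)
  simp only [Nat.cast_add, Nat.cast_mul, Nat.cast_pow, cast_card_sub_one, cast_dNum, Nat.cast_one] at hz
  set q : ℤ := (Fintype.card F : ℤ)
  have key : q ^ 3 * ((q ^ 2 + q - 1) - q ^ (2 * j + 2) - (q ^ j - q ^ (j + 1))) = 0 := by
    linear_combination hz
  rcases mul_eq_zero.1 key with h0 | h0
  · exact absurd h0 (pow_ne_zero _ (by linarith))
  rcases Nat.eq_zero_or_pos j with rfl | hj
  · norm_num at h0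
    linarith
  have h1 : q ^ (2 * j + 2) = q ^ (j + 1) * q ^ (j + 1) := by rw [← pow_add]; ring_nf
  have h2 : q ^ 2 ≤ q ^ (j + 1) := pow_le_pow_right₀ (by linarith) (by omega)
  have h3 : (0 : ℤ) ≤ q ^ j := pow_nonneg (by linarith) _
  have h4 : 4 ≤ q ^ (j + 1) := le_trans (by nlinarith) h2
  have h5 : 4 * q ^ (j + 1) ≤ q ^ (j + 1) * q ^ (j + 1) := mul_le_mul_of_nonneg_right h4 (by linarith)
  nlinarith

end Cfsg.Agent.Classical.OrthAut
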