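import Mathlib

/-!
Galois descent for `GL_n` over a finite field: a cocycle of norm one is a coboundary, the norm onto
the fixed field is surjective, and matrices fixed up to a scalar are scalar multiples of fixed ones.
-/

set_option autoImplicit false
set_option linter.unusedSectionVars false

namespace Cfsg.Agent.Classical.Descent

open Matrix

variable {F : Type*} [Field F] {ι : Type*} [Fintype ι] [DecidableEq ι]

/-- A field automorphism applied to an invertible matrix. -/
abbrev gmap (σ : F ≃+* F) : GL ι F →* GL ι F := Matrix.GeneralLinearGroup.map σ.toRingHom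

theorem gmap_scalar (σ : F ≃+* F) (c : Fˣ) :
    gmap σ (Matrix.GeneralLinearGroup.scalar ι c) =
      Matrix.GeneralLinearGroup.scalar ι (Units.map σ.toMonoidHom c) := by
  ext i j
  by_cases h : i = j <;> simp [h]

theorem gmap_gmap (σ τ : RingAut F) (g : GL ι F) : gmap σ (gmap τ g) = gmap (σ * τ : RingAut F) g := by
  ext i j; rfl

theorem gmap_one (g : GL ι F) : gmap (1 : RingAut F) g = g := by
  ext i j; rfl

theorem scalar_comm (c : Fˣ) (g : GL ι F) :
    Matrix.GeneralLinearGroup.scalar ι c * g = g * Matrix.GeneralLinearGroup.scalar ι c := by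
  refine Units.ext ?_
  rw [Units.val_mul, Units.val_mul, Matrix.GeneralLinearGroup.coe_scalar]
  exact Matrix.scalar_commute _ (fun r => Commute.all _ r) _

theorem scalar_injective [Nonempty ι] :
    Function.Injective (Matrix.GeneralLinearGroup.scalar ι : Fˣ → GL ι F) := by
  intro a b h
  have := congrArg (fun g : GL ι F => (g : Matrix ι ι F) (Classical.arbitrary ι) (Classical.arbitrary ι)) h
  exact Units.ext (by simpa using this)

/-- `g · σ(g) ⋯ σ^(k-1)(g)`. -/
def twistNorm (σ : RingAut F) (g : GL ι F) : ℕ → GL ι F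
  | 0 => 1
  | k + 1 => g * gmap σ (twistNorm σ g k)

theorem twistNorm_succ' (σ : RingAut F) (g : GL ι F) :
    ∀ k, twistNorm σ g (k + 1) = twistNorm σ g k * gmap (σ ^ k : RingAut F) g
  | 0 => by simp [twistNorm, gmap_one]
  | k + 1 => by
    conv_lhs => rw [twistNorm, twistNorm_succ' σ g k, map_mul, gmap_gmap, ← mul_assoc, ← pow_succ']
    rfl

/-- `μ · σ(μ) ⋯ σ^(k-1)(μ)`. -/
def unitNorm (σ : RingAut F) : ℕ → Fˣ →* Fˣ
  | 0 => 1
  | k + 1 => MonoidHom.id Fˣ * (Units.map σ.toMonoidHom).comp (unitNorm σ k)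

theorem twistNorm_scalar_mul (σ : RingAut F) (μ : Fˣ) (g : GL ι F) :
    ∀ k, twistNorm σ (Matrix.GeneralLinearGroup.scalar ι μ * g) k =
      Matrix.GeneralLinearGroup.scalar ι (unitNorm σ k μ) * twistNorm σ g k
  | 0 => by simp [twistNorm, unitNorm]
  | k + 1 => by
    rw [twistNorm, twistNorm_scalar_mul σ μ g k, map_mul, gmap_scalar, twistNorm]
    show _ = Matrix.GeneralLinearGroup.scalar ι (μ * Units.map σ.toMonoidHom (unitNorm σ k μ)) * _
    rw [map_mul, mul_assoc, mul_assoc]
    congr 1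
    rw [← mul_assoc g, ← scalar_comm, mul_assoc]

theorem twistNorm_scalar (σ : RingAut F) (μ : Fˣ) (k : ℕ) :
    twistNorm σ (Matrix.GeneralLinearGroup.scalar ι μ) k =
      Matrix.GeneralLinearGroup.scalar ι (unitNorm σ k μ) := by
  have h1 : ∀ k, twistNorm σ (1 : GL ι F) k = 1 := fun k => by
    induction k with
    | zero => rfl
    | succ k ih => rw [twistNorm, ih, map_one, one_mul]
  simpa [h1] using twistNorm_scalar_mul σ μ (1 : GL ι F) k

variable [Finite F]

theorem orderOf_ringAut_pos (σ : RingAut F) : 0 < orderOf σ := by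
  haveI : Finite (RingAut F) := Finite.of_injective (fun τ => (τ : F → F)) DFunLike.coe_injective
  exact orderOf_pos σ

/-- Hilbert's Theorem 90 for `GL_n`. -/
theorem exists_coboundary (σ : RingAut F) (g : GL ι F) (h : twistNorm σ g (orderOf σ) = 1) :
    ∃ y : GL ι F, g = y * (gmap σ y)⁻¹ := by
  classical
  set r := orderOf σ
  have hr : 0 < r := orderOf_ringAut_pos σ
  let τ : (ι → F) → (ι → F) := fun v => (g : Matrix ι ι F) *ᵥ (σ ∘ v)
  let w : ℕ → (ι → F) → (ι → F) := fun i v =>
    ((twistNorm σ g i : GL ι F) : Matrix ι ι F) *ᵥ (⇑(σ ^ i) ∘ v)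
  have hτw : ∀ i v, τ (w i v) = w (i + 1) v := fun i v => by
    show (g : Matrix ι ι F) *ᵥ (σ ∘ (_ *ᵥ _)) = (g * gmap σ (twistNorm σ g i) : GL ι F).val *ᵥ _
    rw [Units.val_mul, ← Matrix.mulVec_mulVec]
    congr 1
    funext a
    show σ ((_ *ᵥ _) a) = _
    simp only [Matrix.mulVec, dotProduct, map_sum, map_mul]
    refine Finset.sum_congr rfl fun b _ => ?_
    rw [show ⇑(σ ^ (i + 1)) = ⇑σ ∘ ⇑(σ ^ i) by rw [pow_succ']; rfl]
    rfl
  have hspan : Submodule.span F {v | τ v = v} = ⊤ := by
    by_contra hne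
    obtain ⟨φ, hφ, hle⟩ := Submodule.exists_le_ker_of_lt_top _ (lt_top_iff_ne_top.2 hne)
    refine hφ (LinearMap.ext fun v => ?_)
    have hfix : ∀ c : F, ∑ i ∈ Finset.range r, (σ ^ i) c • w i v ∈ {v | τ v = v} := by
      intro c
      set f : ℕ → (ι → F) := fun i => (σ ^ i) c • w i v
      have h1 : τ (∑ i ∈ Finset.range r, f i) = ∑ i ∈ Finset.range r, f (i + 1) := by
        show (g : Matrix ι ι F) *ᵥ (σ ∘ ∑ i ∈ Finset.range r, f i) = _
        rw [show σ ∘ ∑ i ∈ Finset.range r, f i = ∑ i ∈ Finset.range r, σ ∘ f i from funext fun a => by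
          simp [Finset.sum_apply, map_sum], Matrix.mulVec_sum]
        refine Finset.sum_congr rfl fun i _ => ?_
        show _ = (σ ^ (i + 1)) c • w (i + 1) v
        rw [← hτw, pow_succ', RingAut.mul_apply]
        show _ = σ ((σ ^ i) c) • ((g : Matrix ι ι F) *ᵥ (σ ∘ w i v))
        rw [← Matrix.mulVec_smul]
        congr 1
        funext a; simp [f]
      have h2 : f r = f 0 := by
        show (σ ^ r) c • w r v = (σ ^ 0) c • w 0 v
        simp only [w]
        rw [show σ ^ r = 1 from pow_orderOf_eq_one σ, h, pow_zero]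
        rfl
      show τ (∑ i ∈ Finset.range r, f i) = _
      rw [h1]
      have := (Finset.sum_range_succ f r).symm.trans (Finset.sum_range_succ' f r)
      rw [h2] at this
      exact (add_right_cancel this).symm
    have hli : LinearIndependent F fun i : Fin r => ((σ ^ (i : ℕ) : RingAut F).toMonoidHom : F → F) := by
      have hi := linearIndependent_monoidHom F F
      refine hi.comp (fun i : Fin r => (σ ^ (i : ℕ) : RingAut F).toMonoidHom) ?_
      intro a b hab
      refine Fin.ext (pow_injOn_Iio_orderOf a.2 b.2 (RingEquiv.ext fun x => ?_))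
      exact DFunLike.congr_fun hab x
    have h0 := Fintype.linearIndependent_iff.1 hli (fun i => φ (w i v)) (funext fun c => by
      have := LinearMap.mem_ker.1 (hle (Submodule.subset_span (hfix c)))
      rw [map_sum, Finset.sum_range fun i => φ ((σ ^ i) c • w i v)] at this
      simpa [mul_comm] using this) ⟨0, hr⟩
    simpa [w, twistNorm, show (⇑(1 : RingAut F) ∘ v) = v from rfl] using h0
  let b := Module.Basis.ofSpan hspan.ge
  let e := b.indexEquiv (Pi.basisFun F ι)
  let B := b.reindex e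
  have hB : ∀ j, τ (B j) = B j := fun j =>
    Module.Basis.ofSpan_subset hspan.ge ⟨e.symm j, by simp [B, b]⟩
  have hu : IsUnit (Matrix.of fun i j => B j i).det := by
    rw [← Matrix.isUnit_iff_isUnit_det, ← Matrix.linearIndependent_cols_iff_isUnit]
    exact B.linearIndependent
  refine ⟨Matrix.GeneralLinearGroup.mk'' _ hu, eq_mul_inv_of_mul_eq (Units.ext ?_)⟩
  ext i j
  exact (congrFun (hB j) i)

theorem unitNorm_hilbert90 (σ : RingAut F) (μ : Fˣ) (h : unitNorm σ (orderOf σ) μ = 1) :
    ∃ ν : Fˣ, μ = ν * (Units.map σ.toMonoidHom ν)⁻¹ := by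
  obtain ⟨y, hy⟩ := exists_coboundary σ (Matrix.GeneralLinearGroup.scalar (Fin 1) μ)
    (by rw [twistNorm_scalar, h, map_one])
  refine ⟨Matrix.GeneralLinearGroup.det y, ?_⟩
  have h1 := congrArg Matrix.GeneralLinearGroup.det hy
  rw [map_mul, map_inv] at h1
  have h2 : Matrix.GeneralLinearGroup.det (gmap σ y) =
      Units.map σ.toMonoidHom (Matrix.GeneralLinearGroup.det y) := by
    refine Units.ext ?_
    simp
  rw [h2] at h1
  rw [← h1]
  refine Units.ext ?_
  simp

/-- The units fixed by `σ`. -/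
def fixedUnits (σ : RingAut F) : Subgroup Fˣ :=
  MonoidHom.eqLocus (Units.map σ.toMonoidHom) (MonoidHom.id Fˣ)

omit [Finite F] in
theorem mem_fixedUnits {σ : RingAut F} {c : Fˣ} :
    c ∈ fixedUnits σ ↔ Units.map σ.toMonoidHom c = c := Iff.rfl

omit [Finite F] in
theorem unitNorm_succ' (σ : RingAut F) (μ : Fˣ) :
    ∀ k, unitNorm σ (k + 1) μ = unitNorm σ k μ * Units.map (σ ^ k : RingAut F).toMonoidHom μ := by
  intro k
  have := twistNorm_succ' σ (Matrix.GeneralLinearGroup.scalar (Fin 1) μ) k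
  rw [twistNorm_scalar, twistNorm_scalar, gmap_scalar, ← map_mul] at this
  exact scalar_injective this

theorem range_unitNorm (σ : RingAut F) : (unitNorm σ (orderOf σ)).range = fixedUnits σ := by
  set r := orderOf σ
  have hle : (unitNorm σ r).range ≤ fixedUnits σ := by
    rintro _ ⟨μ, rfl⟩
    have h1 := unitNorm_succ' σ μ r
    rw [show σ ^ r = 1 from pow_orderOf_eq_one σ, show Units.map (1 : RingAut F).toMonoidHom μ = μ
      from Units.ext rfl, mul_comm (unitNorm σ r μ)] at h1
    exact mul_left_cancel h1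
  refine Subgroup.eq_of_le_of_card_ge hle ?_
  let φ : Fˣ →* Fˣ := MonoidHom.id Fˣ * (Units.map σ.toMonoidHom)⁻¹
  have hker : φ.ker = fixedUnits σ := by
    ext u
    rw [MonoidHom.mem_ker, mem_fixedUnits]
    show u * (Units.map σ.toMonoidHom u)⁻¹ = 1 ↔ _
    rw [mul_inv_eq_one, eq_comm]
  have hsub : (unitNorm σ r).ker ≤ φ.range := fun μ hμ => by
    obtain ⟨ν, rfl⟩ := unitNorm_hilbert90 σ μ hμ
    exact ⟨ν, rfl⟩
  have h1 := (unitNorm σ r).ker.card_eq_card_quotient_mul_card_subgroup
  have h2 := φ.ker.card_eq_card_quotient_mul_card_subgroup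
  rw [Nat.card_congr (QuotientGroup.quotientKerEquivRange _).toEquiv] at h1 h2
  rw [h1, hker] at h2
  have h3 := Nat.card_le_card_of_injective _ (Subgroup.inclusion_injective hsub)
  have h4 : 0 < Nat.card φ.range := Nat.card_pos
  nlinarith

theorem exists_unitNorm_eq (σ : RingAut F) {c : Fˣ} (h : c ∈ fixedUnits σ) :
    ∃ μ, unitNorm σ (orderOf σ) μ = c := by
  rwa [← range_unitNorm] at h

/-- A cocycle of scalar norm is a scalar times a coboundary. -/
theorem exists_coboundary_scalar [Nonempty ι] (σ : RingAut F) (g : GL ι F) {c : Fˣ}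
    (h : twistNorm σ g (orderOf σ) = Matrix.GeneralLinearGroup.scalar ι c) :
    ∃ (μ : Fˣ) (y : GL ι F), g = Matrix.GeneralLinearGroup.scalar ι μ * (y * (gmap σ y)⁻¹) := by
  have hc : c ∈ fixedUnits σ := by
    have h1 := twistNorm_succ' σ g (orderOf σ)
    rw [show σ ^ orderOf σ = 1 from pow_orderOf_eq_one σ, gmap_one, twistNorm, h, gmap_scalar,
      scalar_comm c g] at h1
    exact scalar_injective (mul_left_cancel h1)
  obtain ⟨μ, hμ⟩ := exists_unitNorm_eq σ hc
  obtain ⟨y, hy⟩ := exists_coboundary σ (Matrix.GeneralLinearGroup.scalar ι μ⁻¹ * g) (by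
    rw [twistNorm_scalar_mul, h, ← map_mul, map_inv, hμ, inv_mul_cancel, map_one])
  exact ⟨μ, y, by rw [← hy, ← mul_assoc, ← map_mul, mul_inv_cancel, map_one, one_mul]⟩

/-- A matrix fixed up to a scalar is a scalar times a fixed matrix. -/
theorem exists_fixed_of_map_eq_smul [Nonempty ι] (σ : RingAut F) (g : GL ι F) {c : Fˣ}
    (h : gmap σ g = Matrix.GeneralLinearGroup.scalar ι c * g) :
    ∃ (μ : Fˣ) (k : GL ι F), gmap σ k = k ∧ g = Matrix.GeneralLinearGroup.scalar ι μ * k := by
  have hpow : ∀ k, gmap (σ ^ k : RingAut F) g =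
      Matrix.GeneralLinearGroup.scalar ι (unitNorm σ k c) * g := by
    intro k
    induction k with
    | zero => simp [unitNorm, gmap_one]
    | succ k ih =>
      rw [pow_succ', ← gmap_gmap, ih, map_mul, gmap_scalar, h, ← mul_assoc, ← map_mul]
      show _ = Matrix.GeneralLinearGroup.scalar ι (c * Units.map σ.toMonoidHom (unitNorm σ k c)) * g
      rw [mul_comm c]
  have hc : unitNorm σ (orderOf σ) c = 1 := by
    have := hpow (orderOf σ)
    rw [pow_orderOf_eq_one, gmap_one, right_eq_mul] at this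
    exact scalar_injective (this.trans (map_one _).symm)
  obtain ⟨ν, hν⟩ := unitNorm_hilbert90 σ c hc
  refine ⟨ν⁻¹, Matrix.GeneralLinearGroup.scalar ι ν * g, ?_,
    by rw [← mul_assoc, ← map_mul, inv_mul_cancel, map_one, one_mul]⟩
  rw [map_mul, gmap_scalar, h, ← mul_assoc, ← map_mul, hν, mul_comm ν, mul_inv_cancel_left]

end Cfsg.Agent.Classical.Descent
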