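import Cfsg.Agent.Lib.Classical.OrthPoints
import Cfsg.Agent.Lib.Classical.GaloisDescent
import Cfsg.Prelude.Def_LieTypeDatum

/-!
`PΩ(Q)`: Siegel transformations lie in `Ω(Q)`, its centre is scalar, and semisimilarities of `Q`
induce automorphisms.
-/

set_option autoImplicit false
set_option linter.unusedSectionVars false
set_option quotPrecheck false

namespace Cfsg.Agent.Classical.OrthAut

open Matrix
open scoped commutatorElement

variable {F : Type*} [Field F] {ι : Type} [Fintype ι] [DecidableEq ι] {Q : QuadraticForm F (ι → F)}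

local notation "V" => (ι → F)
local notation "Mn" => Matrix ι ι F
local notation "B" => QuadraticMap.polar ⇑Q
local notation "OG" => isometryGroup F ⇑Q
local notation "Om" => Omega F ⇑Q
local notation "PQ" => POmega F ⇑Q

/-- The matrix of an element of `Ω`. -/
def omVal (s : Omega F ⇑Q) : Mn := (((s : isometryGroup F ⇑Q) : GL ι F) : Mn)

/-- The projection to `PΩ`. -/
def omPi : Omega F ⇑Q →* POmega F ⇑Q := QuotientGroup.mk' _

local notation "π" => omPi (Q := Q)

theorem omPi_surjective : Function.Surjective π := QuotientGroup.mk'_surjective _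

theorem omVal_ext {s t : Om} (h : omVal s = omVal t) : s = t :=
  Subtype.ext (Subtype.ext (Units.ext h))

@[simp] theorem omVal_mul (s t : Om) : omVal (s * t) = omVal s * omVal t := rfl

@[simp] theorem omVal_one : omVal (1 : Om) = 1 := rfl

theorem omVal_pow (s : Om) (k : ℕ) : omVal (s ^ k) = omVal s ^ k := by
  induction k with
  | zero => simp
  | succ k ih => rw [pow_succ, omVal_mul, ih, pow_succ]

theorem omVal_quad (s : Om) (x : V) : Q (omVal s *ᵥ x) = Q x := mem_isometryGroup.1 (s : OG).2 x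

theorem omVal_inv_mul (s : Om) : omVal s⁻¹ * omVal s = 1 := by rw [← omVal_mul, inv_mul_cancel]; rfl

theorem omVal_mul_inv (s : Om) : omVal s * omVal s⁻¹ = 1 := by rw [← omVal_mul, mul_inv_cancel]; rfl

theorem omVal_injective (s : Om) {x : V} (hx : omVal s *ᵥ x = 0) : x = 0 := by
  have := congrArg (omVal s⁻¹ *ᵥ ·) hx
  simpa [Matrix.mulVec_mulVec, omVal_inv_mul] using this

theorem omVal_conj_eMat (s : Om) (e w : V) :
    omVal s * eMat Q e w * omVal s⁻¹ = eMat Q (omVal s *ᵥ e) (omVal s *ᵥ w) := by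
  rw [isometry_eMat (omVal_quad s), Matrix.mul_assoc, omVal_mul_inv, Matrix.mul_one]

/-- A pair of singular vectors repairs any vector. -/
theorem exists_sing_shift {u u' : V} (P : Pair Q u u') (v : V) :
    ∃ s t : F, Q (v + s • u + t • u') = 0 := by
  refine ⟨-Q v - (1 - B v u) * B v u', 1 - B v u, ?_⟩
  rw [quad_add_smul, quad_add_smul, P.1, P.2.1, QuadraticMap.polar_add_left,
    QuadraticMap.polar_smul_left, P.2.2, smul_eq_mul]
  ring

variable (hQ : (QuadraticMap.polarBilin Q).Nondegenerate) (hT : Tri Q)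
include hQ hT

omit hQ in
/-- There is a pair. -/
theorem exists_singular : ∃ e : V, e ≠ 0 ∧ Q e = 0 := by
  obtain ⟨a, b, c, h, -⟩ := hT
  exact ⟨a, h.left_ne, h.1⟩

theorem exists_basePair : ∃ e f : V, Pair Q e f := by
  obtain ⟨e, he, hee⟩ := exists_singular hT
  obtain ⟨f, hf, hef⟩ := exists_pair hQ he hee
  exact ⟨e, f, hee, hf, hef⟩

/-- A matrix fixing every singular point is scalar. -/
theorem scalar_of_fix_singular {M : Mn} (h : ∀ a, Q a = 0 → ∃ c : F, M *ᵥ a = c • a) :
    ∃ c : F, M = c • (1 : Mn) := by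
  obtain ⟨e, f, P⟩ := exists_basePair hQ hT
  obtain ⟨c, hc⟩ := h e P.1
  have horth : ∀ a b : V, Q a = 0 → Q b = 0 → B a b = 0 →
      (∀ s t : F, s • a + t • b = 0 → s = 0 ∧ t = 0) → M *ᵥ a = c • a → M *ᵥ b = c • b := by
    intro a b ha hb hab hind hMa
    obtain ⟨d, hd⟩ := h b hb
    obtain ⟨k, hk⟩ := h (a + b) (by rw [quad_add, ha, hb, hab]; ring)
    rw [Matrix.mulVec_add, hMa, hd] at hk
    obtain ⟨h1, h2⟩ := hind (c - k) (d - k) (by linear_combination (norm := module) hk)
    rw [hd, sub_eq_zero.1 h2, sub_eq_zero.1 h1]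
  have key : ∀ a : V, Q a = 0 → M *ᵥ a = c • a := by
    intro a ha
    by_cases hpar : ∀ s t : F, s • e + t • a = 0 → s = 0 ∧ t = 0
    · by_cases hea : B e a = 0
      · exact horth e a P.1 ha hea hpar hc
      · obtain ⟨x, hx0, hx, hex, hax⟩ := exists_singular_perp hT e a
        have h1 : ∀ s t : F, s • e + t • x = 0 → s = 0 ∧ t = 0 := fun s t h0 => by
          have h2 := congrArg (B a) h0
          simp [QuadraticMap.polar_add_right, QuadraticMap.polar_smul_right, hax,
            QuadraticMap.polar_comm _ a e, hea] at h2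
          exact ⟨h2, by simpa [h2, hx0] using h0⟩
        have h1' : ∀ s t : F, s • x + t • a = 0 → s = 0 ∧ t = 0 := fun s t h0 => by
          have h2 := congrArg (B e) h0
          simp [QuadraticMap.polar_add_right, QuadraticMap.polar_smul_right, hex, hea] at h2
          exact ⟨by simpa [h2, hx0] using h0, h2⟩
        exact horth x a hx ha (by rw [QuadraticMap.polar_comm]; exact hax) h1'
          (horth e x P.1 hx hex h1 hc)
    · push_neg at hpar
      obtain ⟨s, t, hst, hne⟩ := hpar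
      have ht : t ≠ 0 := fun ht => by
        have : s = 0 := by simpa [ht, P.ne] using hst
        exact hne this ht
      have : a = (-(t⁻¹ * s)) • e := by
        have := congrArg (t⁻¹ • ·) hst
        simp only [smul_add, smul_smul, inv_mul_cancel₀ ht, one_smul, smul_zero] at this
        linear_combination (norm := module) this
      rw [this, Matrix.mulVec_smul, hc, smul_comm]
  refine ⟨c, Matrix.ext_iff_mulVec.2 fun v => ?_⟩
  obtain ⟨s, t, h0⟩ := exists_sing_shift P v
  have h1 := key _ h0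
  rw [Matrix.mulVec_add, Matrix.mulVec_add, Matrix.mulVec_smul, Matrix.mulVec_smul, key e P.1,
    key f P.2.1] at h1
  rw [Matrix.smul_mulVec, Matrix.one_mulVec]
  linear_combination (norm := module) h1

/-- Siegel transformations lie in `Ω`. -/
theorem exists_eOm {p : ℕ} [Fact p.Prime] [CharP F p] {e w : V} (h : OK Q e w) :
    ∃ s : Om, omVal s = eMat Q e w := by
  by_cases he : e = 0
  · refine ⟨1, ?_⟩
    rw [he, show (0 : V) = (0 : F) • (0 : V) by simp, eMat_smul_left, zero_smul, eMat_zero, omVal_one]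
  obtain ⟨f, hf, hef⟩ := exists_pair hQ he h.1
  have P : Pair Q e f := ⟨h.1, hf, hef⟩
  let mkE : ∀ {x : V}, OK Q e x → OG := fun {x} hx => mkIsometry (eMat Q e x)
    (by rw [det_eMat (p := p) hx]; exact one_ne_zero) (eMat_quad hx)
  have aniso : ∀ v, Perp Q e f v → Q v ≠ 0 → ∃ s : Om, omVal s = eMat Q e v := by
    intro v hv hv0
    obtain ⟨z, hz⟩ := exists_polar1 hQ (a := v) (fun h0 => hv0 (by rw [h0, QuadraticMap.map_zero])) (-Q v)
    set x := proj Q e f z with hxdef
    have hx : OK Q e x := ⟨h.1, (perp_proj P z).1⟩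
    have hvx : B v x = -Q v := by rw [hxdef, polar_proj hv, hz]
    let r : OG := mkIsometry (reflectionMatrix ⇑Q v)
      (by rw [det_reflection Q hv0]; exact neg_ne_zero.2 one_ne_zero) (reflection_preserves Q hv0)
    refine ⟨⟨⁅r, mkE hx⁆, Subgroup.commutator_mem_commutator (Subgroup.mem_top _) (Subgroup.mem_top _)⟩, ?_⟩
    have hre : reflectionMatrix ⇑Q v *ᵥ e = e := by
      rw [reflectionMatrix_mulVec, QuadraticMap.polar_comm _ v e, hv.1, mul_zero, zero_smul, sub_zero]
    have hrx : reflectionMatrix ⇑Q v *ᵥ x = v + x := by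
      rw [reflectionMatrix_mulVec, hvx]
      match_scalars <;> field_simp
    have h1 : (((r * mkE hx : OG) : GL ι F) : Mn) =
        ((((mkE (((OK.zero h.1).add (⟨h.1, hv.1⟩ : OK Q e v)).add hx)) * r : OG) : GL ι F) : Mn) := by
      show reflectionMatrix ⇑Q v * eMat Q e x = eMat Q e (0 + v + x) * reflectionMatrix ⇑Q v
      rw [isometry_eMat (reflection_preserves Q hv0), hre, hrx, zero_add]
    have h2 : r * mkE hx = mkE (((OK.zero h.1).add (⟨h.1, hv.1⟩ : OK Q e v)).add hx) * r :=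
      Subtype.ext (Units.ext h1)
    show ((((⁅r, mkE hx⁆ : OG) : GL ι F)) : Mn) = _
    have h3 : ⁅r, mkE hx⁆ = mkE (x := v) ⟨h.1, hv.1⟩ := by
      rw [commutatorElement_def, h2, mul_inv_cancel_right, mul_inv_eq_iff_eq_mul]
      refine Subtype.ext (Units.ext ?_)
      show eMat Q e (0 + v + x) = eMat Q e v * eMat Q e x
      rw [eMat_mul ⟨h.1, hv.1⟩ hx, zero_add]
    rw [h3]; rfl
  set w0 := w + (-B f w) • e with hw0
  have hp : Perp Q e f w0 := by
    constructor
    · rw [hw0, QuadraticMap.polar_add_right, h.2, QuadraticMap.polar_smul_right, polar_self' h.1]; simp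
    · rw [hw0, QuadraticMap.polar_add_right, QuadraticMap.polar_smul_right,
        QuadraticMap.polar_comm _ f e, hef]; simp
  have hw : eMat Q e w = eMat Q e w0 := by rw [hw0, eMat_add_self h]
  rw [hw]
  by_cases hq0 : Q w0 = 0
  · by_cases hz : w0 = 0
    · exact ⟨1, by rw [hz, eMat_zero, omVal_one]⟩
    obtain ⟨w1, P1, hp1⟩ := exists_partner hQ P hp hz hq0
    obtain ⟨u, hu0, hu, hue, huw⟩ := exists_singular_perp2 hQ hT P P1 hp hp1
    obtain ⟨u', P2, hue', huw'⟩ := exists_partner2 hQ P P1 hp hp1 hue huw hu0 hu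
    have hz1 : Perp Q e f (u + u') :=
      ⟨by rw [QuadraticMap.polar_add_right, hue.1, hue'.1, add_zero],
        by rw [QuadraticMap.polar_add_right, hue.2, hue'.2, add_zero]⟩
    have hQz : Q (u + u') = 1 := by rw [quad_add, P2.1, P2.2.1, P2.2.2]; simp
    obtain ⟨s1, hs1⟩ := aniso (w0 + (u + u'))
      ⟨by rw [QuadraticMap.polar_add_right, hp.1, hz1.1, add_zero],
        by rw [QuadraticMap.polar_add_right, hp.2, hz1.2, add_zero]⟩
      (by rw [quad_add, hq0, hQz, QuadraticMap.polar_add_right, huw.1, huw'.1]; simp)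
    obtain ⟨s2, hs2⟩ := aniso (u + u') hz1 (by rw [hQz]; exact one_ne_zero)
    refine ⟨s1 * s2⁻¹, ?_⟩
    have h4 : eMat Q e w0 * eMat Q e (u + u') = eMat Q e (w0 + (u + u')) :=
      eMat_mul ⟨h.1, hp.1⟩ ⟨h.1, hz1.1⟩
    rw [omVal_mul, hs1, ← h4, ← hs2, Matrix.mul_assoc, omVal_mul_inv, Matrix.mul_one]
  · exact aniso w0 hp hq0

/-- Elements centralising the Siegel transformations are scalar. -/
theorem scalar_of_comm {M : Mn} (hM : ∀ x, Q (M *ᵥ x) = Q x)
    (hc : ∀ e w, TS Q e w → Commute M (eMat Q e w)) : ∃ c : F, M = c • (1 : Mn) := by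
  refine scalar_of_fix_singular hQ hT fun e hee => ?_
  by_cases he : e = 0
  · exact ⟨1, by simp [he]⟩
  obtain ⟨w, w', h, h', hww⟩ := exists_skew hQ hT he hee
  have key : ∀ {x : V}, TS Q e x → ∃ s t : F, M *ᵥ e = s • e + t • x := by
    intro x hx
    have h1 := (hc e x hx).eq
    rw [isometry_eMat hM] at h1
    have h1' : eMat Q e x = eMat Q (M *ᵥ e) (M *ᵥ x) := by
      refine Matrix.ext_iff_mulVec.2 fun z => ?_
      have hinj : ∀ u, M *ᵥ u = 0 → u = 0 := fun u hu => eq_zero_of_polar hQ fun z => by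
        rw [← isometry_polar hM u z, hu, QuadraticMap.polar_zero_left]
      obtain ⟨y, rfl⟩ : ∃ y, M *ᵥ y = z :=
        (LinearMap.surjective_of_injective ((injective_iff_map_eq_zero (Matrix.mulVecLin M)).2 hinj)) z
      rw [Matrix.mulVec_mulVec, Matrix.mulVec_mulVec, h1]
    have hinj : ∀ u, M *ᵥ u = 0 → u = 0 := fun u hu => eq_zero_of_polar hQ fun z => by
      rw [← isometry_polar hM u z, hu, QuadraticMap.polar_zero_left]
    refine (span_of_eMat_eq hQ hx ⟨by rw [hM, hee], by rw [isometry_polar hM, hx.2.2.1]⟩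
      (fun s t h0 => hx.2.2.2 s t (hinj _ ?_)) h1').1
    rw [Matrix.mulVec_add, Matrix.mulVec_smul, Matrix.mulVec_smul, h0]
  obtain ⟨s, t, h1⟩ := key h
  obtain ⟨s', t', h2⟩ := key h'
  have h3 := congrArg (B w) (h1.symm.trans h2)
  simp [QuadraticMap.polar_add_right, QuadraticMap.polar_smul_right, polar_self' h.2.1,
    QuadraticMap.polar_comm _ w e, h.2.2.1, hww] at h3
  exact ⟨s', by rw [h2, ← h3, zero_smul, add_zero]⟩

theorem omPi_eq_one_iff {p : ℕ} [Fact p.Prime] [CharP F p] {s : Om} :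
    π s = 1 ↔ ∃ l : F, omVal s = l • (1 : Mn) := by
  have h1 : π s = 1 ↔ s ∈ Subgroup.center Om := QuotientGroup.eq_one_iff s
  rw [h1, Subgroup.mem_center_iff]
  constructor
  · intro hs
    refine scalar_of_comm hQ hT (omVal_quad s) fun e w h => ?_
    obtain ⟨t, ht⟩ := exists_eOm hQ hT (p := p) h.ok
    show _ * _ = _ * _
    rw [← ht, ← omVal_mul, ← omVal_mul, hs t]
  · rintro ⟨l, hl⟩ t
    exact omVal_ext (by simp [hl])

theorem omPi_eq_iff {p : ℕ} [Fact p.Prime] [CharP F p] {s t : Om} :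
    π s = π t ↔ ∃ l : F, omVal s = l • omVal t := by
  constructor
  · intro e
    obtain ⟨l, hl⟩ := (omPi_eq_one_iff hQ hT (p := p)).1
      (show π (s * t⁻¹) = 1 by rw [map_mul, map_inv, e, mul_inv_cancel])
    refine ⟨l, ?_⟩
    rw [omVal_mul] at hl
    have := congrArg (· * omVal t) hl
    simpa [Matrix.mul_assoc, omVal_inv_mul] using this
  · rintro ⟨l, hl⟩
    have h1 : π (s * t⁻¹) = 1 := (omPi_eq_one_iff hQ hT (p := p)).2
      ⟨l, by rw [omVal_mul, hl, Matrix.smul_mul, omVal_mul_inv]⟩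
    rwa [map_mul, map_inv, mul_inv_eq_one] at h1

omit hQ hT

/-! ### Semisimilarities -/

variable {g : GL ι F} {σ : F ≃+* F}

/-- The semilinear map of a pair. -/
def semiFun (g : GL ι F) (σ : F ≃+* F) (x : V) : V := (g : Mn) *ᵥ (σ ∘ x)

theorem semi_of_pair (h : IsSemisimilarityPair (⇑Q) g σ) :
    ∃ c : F, Semi Q (semiFun g σ) σ c := by
  obtain ⟨c, hc⟩ := h
  refine ⟨c, fun x y => ?_, fun a x => ?_, fun x => hc x, c.ne_zero⟩
  · show _ *ᵥ (σ ∘ (x + y)) = _
    rw [show σ ∘ (x + y) = σ ∘ x + σ ∘ y from funext fun i => map_add σ _ _, Matrix.mulVec_add]; rfl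
  · show _ *ᵥ (σ ∘ (a • x)) = _
    rw [show σ ∘ (a • x) = σ a • (σ ∘ x) from funext fun i => map_mul σ _ _, Matrix.mulVec_smul]; rfl

theorem semiFun_surjective (g : GL ι F) (σ : F ≃+* F) (x : V) : ∃ y, semiFun g σ y = x :=
  ⟨σ.symm ∘ (((g⁻¹ : GL ι F) : Mn) *ᵥ x), by
    show _ *ᵥ (σ ∘ σ.symm ∘ _) = x
    rw [show σ ∘ σ.symm ∘ (((g⁻¹ : GL ι F) : Mn) *ᵥ x) = ((g⁻¹ : GL ι F) : Mn) *ᵥ x from
      funext fun i => σ.apply_symm_apply _, Matrix.mulVec_mulVec, Units.mul_inv, Matrix.one_mulVec]⟩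

theorem map_comp_mulVec (σ : F ≃+* F) (A : Mn) (u : V) : A.map σ *ᵥ (σ ∘ u) = σ ∘ (A *ᵥ u) := by
  funext i
  simp [Matrix.mulVec, dotProduct, map_sum]

theorem semiFun_mulVec (g : GL ι F) (σ : F ≃+* F) (A : Mn) (u : V) :
    ((g : Mn) * A.map σ * ((g⁻¹ : GL ι F) : Mn)) *ᵥ semiFun g σ u = semiFun g σ (A *ᵥ u) := by
  rw [semiFun, semiFun, Matrix.mulVec_mulVec, Matrix.mul_assoc, Units.inv_mul, Matrix.mul_one,
    ← Matrix.mulVec_mulVec, map_comp_mulVec]

/-- Conjugation by a semisimilarity, on `O(Q)`. -/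
noncomputable def ogSemi (h : IsSemisimilarityPair (⇑Q) g σ) : OG ≃* OG where
  toFun s := ⟨g * Matrix.GeneralLinearGroup.map (σ : F →+* F) (s : GL ι F) * g⁻¹,
    mem_isometryGroup.2 fun u => by
      obtain ⟨c, hc⟩ := h
      obtain ⟨x, rfl⟩ := semiFun_surjective g σ u
      show Q (((g : Mn) * ((s : GL ι F) : Mn).map σ * ((g⁻¹ : GL ι F) : Mn)) *ᵥ semiFun g σ x) = _
      rw [semiFun_mulVec]
      exact (hc _).trans (by rw [mem_isometryGroup.1 s.2]; exact (hc x).symm)⟩
  invFun s := ⟨Matrix.GeneralLinearGroup.map (σ.symm : F →+* F) (g⁻¹ * (s : GL ι F) * g),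
    mem_isometryGroup.2 fun u => by
      obtain ⟨c, hc⟩ := h
      have h1 := hc ((((g⁻¹ * (s : GL ι F) * g : GL ι F) : Mn).map σ.symm) *ᵥ u)
      have h2 := semiFun_mulVec g σ ((((g⁻¹ * (s : GL ι F) * g : GL ι F) : Mn).map σ.symm)) u
      rw [Matrix.map_map, show (σ ∘ σ.symm : F → F) = id from funext fun x => σ.apply_symm_apply x,
        Matrix.map_id, ← Units.val_mul, ← Units.val_mul] at h2
      simp only [mul_assoc, mul_inv_cancel_left, mul_inv_cancel, mul_one] at h2
      rw [semiFun, semiFun] at h2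
      simp only [Function.comp_def] at h2
      simp only [mul_assoc] at h1 ⊢
      rw [← h2, mem_isometryGroup.1 s.2, hc u] at h1
      exact (σ.injective (mul_left_cancel₀ c.ne_zero h1)).symm⟩
  left_inv s := Subtype.ext (by
    show Matrix.GeneralLinearGroup.map (σ.symm : F →+* F)
      (g⁻¹ * (g * Matrix.GeneralLinearGroup.map (σ : F →+* F) (s : GL ι F) * g⁻¹) * g) = _
    rw [show g⁻¹ * (g * Matrix.GeneralLinearGroup.map (σ : F →+* F) (s : GL ι F) * g⁻¹) * g =
      Matrix.GeneralLinearGroup.map (σ : F →+* F) (s : GL ι F) by group]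
    exact Units.ext (by ext i j; simp))
  right_inv s := Subtype.ext (by
    show g * Matrix.GeneralLinearGroup.map (σ : F →+* F)
      (Matrix.GeneralLinearGroup.map (σ.symm : F →+* F) (g⁻¹ * (s : GL ι F) * g)) * g⁻¹ = _
    rw [show Matrix.GeneralLinearGroup.map (σ : F →+* F)
      (Matrix.GeneralLinearGroup.map (σ.symm : F →+* F) (g⁻¹ * (s : GL ι F) * g)) =
        g⁻¹ * (s : GL ι F) * g from Units.ext (Matrix.ext fun i j => σ.apply_symm_apply _)]
    group)
  map_mul' s t := Subtype.ext (by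
    show g * Matrix.GeneralLinearGroup.map (σ : F →+* F) ((s : GL ι F) * (t : GL ι F)) * g⁻¹ =
      (g * Matrix.GeneralLinearGroup.map (σ : F →+* F) (s : GL ι F) * g⁻¹) *
      (g * Matrix.GeneralLinearGroup.map (σ : F →+* F) (t : GL ι F) * g⁻¹)
    rw [map_mul]; group)

/-- Conjugation by a semisimilarity, on `Ω(Q)`. -/
noncomputable def omSemi (h : IsSemisimilarityPair (⇑Q) g σ) : Om ≃* Om :=
  ((ogSemi h).subgroupMap Om).trans
    (MulEquiv.subgroupCongr (Subgroup.characteristic_iff_map_eq.1 inferInstance _))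

theorem omSemi_coe (h : IsSemisimilarityPair (⇑Q) g σ) (s : Om) :
    omVal (omSemi h s) = (g : Mn) * (omVal s).map σ * ((g⁻¹ : GL ι F) : Mn) := rfl

/-- The automorphism of `PΩ(Q)` induced by a semisimilarity. -/
noncomputable def poSemi (h : IsSemisimilarityPair (⇑Q) g σ) : MulAut PQ :=
  QuotientGroup.congr _ _ (omSemi h) (Subgroup.characteristic_iff_map_eq.1 inferInstance _)

theorem poSemi_pi (h : IsSemisimilarityPair (⇑Q) g σ) (s : Om) :
    poSemi h (π s) = π (omSemi h s) := rfl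

theorem poSemi_induced (h : IsSemisimilarityPair (⇑Q) g σ) :
    IsInducedBySemilinearPOmega (⇑Q) g σ (poSemi h) := fun s s' hs => by
  show π (omSemi h s) = π s'
  exact congrArg _ (omVal_ext hs.symm)

theorem induced_iff (h : IsSemisimilarityPair (⇑Q) g σ) {β : MulAut PQ} :
    IsInducedBySemilinearPOmega (⇑Q) g σ β ↔ β = poSemi h := by
  refine ⟨fun hβ => MulEquiv.ext fun x => ?_, fun hβ => hβ ▸ poSemi_induced h⟩
  obtain ⟨s, rfl⟩ := omPi_surjective x
  exact hβ s (omSemi h s) rfl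

theorem poSemi_mem_gamma (h : IsSemisimilarityPair (⇑Q) g σ) : poSemi h ∈ gammaPOmega F ⇑Q :=
  Subgroup.subset_closure ⟨g, σ, h, poSemi_induced h⟩

include hQ in
/-- A semilinear similarity comes from a pair. -/
theorem exists_pair_of_semi {G : V → V} {κ : F} (hG : Semi Q G σ κ) :
    ∃ g : GL ι F, IsSemisimilarityPair (⇑Q) g σ ∧ ∀ x, G x = semiFun g σ x := by
  set M : Mn := Matrix.of fun i j => G (Pi.single j 1) i with hM
  let L : V →ₗ[F] V :=
    { toFun := fun x => G (σ.symm ∘ x)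
      map_add' := fun x y => by
        rw [← hG.map_add]; exact congrArg G (funext fun i => map_add σ.symm _ _)
      map_smul' := fun c x => by
        rw [show σ.symm ∘ (c • x) = σ.symm c • (σ.symm ∘ x) from funext fun i => map_mul σ.symm _ _,
          hG.map_smul, σ.apply_symm_apply]; rfl }
  have hL : ∀ x, M *ᵥ x = L x := by
    have : M = LinearMap.toMatrix' L := by
      ext i j
      rw [LinearMap.toMatrix'_apply]
      show G (Pi.single j 1) i = G (σ.symm ∘ Pi.single j 1) i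
      congr 2
      funext k
      by_cases hk : k = j <;> simp [hk]
    intro x; rw [this, LinearMap.toMatrix'_mulVec]
  have hGM : ∀ x, G x = M *ᵥ (σ ∘ x) := fun x => by
    rw [hL]; exact congrArg G (funext fun i => (σ.symm_apply_apply _).symm)
  have hdet : M.det ≠ 0 := fun h0 => by
    obtain ⟨v, hv, hv0⟩ := Matrix.exists_mulVec_eq_zero_iff.2 h0
    refine hv (funext fun i => ?_)
    have h1 : σ.symm ∘ v = 0 := eq_zero_of_polar hQ fun z => σ.injective (mul_left_cancel₀ hG.ne (by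
      rw [← hG.polar, show G (σ.symm ∘ v) = 0 from (hL v).symm.trans hv0, QuadraticMap.polar_zero_left,
        map_zero, mul_zero]))
    simpa using congrArg σ (congrFun h1 i)
  exact ⟨Matrix.GeneralLinearGroup.mkOfDetNeZero M hdet,
    ⟨Units.mk0 κ hG.ne, fun v => by
      show Q (M *ᵥ (σ ∘ v)) = _
      rw [← hGM]; exact hG.quad v⟩, hGM⟩

end Cfsg.Agent.Classical.OrthAut
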