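import Cfsg.Agent.Lib.Classical.OrthSpinor
import Cfsg.Agent.Lib.Classical.OrthSemi
import Cfsg.Agent.Lib.Classical.OrthModels
import Cfsg.Agent.Lib.Classical.OrthCount

/-! The order of `PΩ(Q)`: the isometry group, the index of `Ω` and the centre of `Ω`. -/

set_option autoImplicit false

namespace Cfsg.Agent.Classical.OrthAut

open Matrix

variable {F : Type*} [Field F] [Fintype F] {ι : Type} [Fintype ι] [DecidableEq ι]
  {Q : QuadraticForm F (ι → F)}

/-- A central element of `Ω` is a scalar `±1`. -/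
theorem center_omega_scalar (hQ : (QuadraticMap.polarBilin Q).Nondegenerate) (hT : Tri Q) (hn : 1 ≤ Fintype.card ι)
    {z : Omega F ⇑Q} (hz : z ∈ Subgroup.center (Omega F ⇑Q)) : omVal z = 1 ∨ omVal z = -1 := by
  obtain ⟨p, hp⟩ := CharP.exists F
  haveI : Fact p.Prime := ⟨CharP.char_is_prime F p⟩
  obtain ⟨l, hl⟩ := (omPi_eq_one_iff hQ hT (p := p) (s := z)).1 ((QuotientGroup.eq_one_iff _).2 hz)
  obtain ⟨v, hv⟩ := exists_anisotropic hQ hn
  have h := omVal_quad z v
  rw [hl, Matrix.smul_mulVec, Matrix.one_mulVec, QuadraticMap.map_smul, smul_eq_mul] at h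
  have : l * l = 1 := mul_right_cancel₀ hv (by rw [one_mul]; exact h)
  rcases mul_self_eq_one_iff.1 this with rfl | rfl
  · exact Or.inl (by rw [hl, one_smul])
  · exact Or.inr (by rw [hl, neg_one_smul])

theorem card_center_one (hQ : (QuadraticMap.polarBilin Q).Nondegenerate) (hT : Tri Q) (hn : 1 ≤ Fintype.card ι)
    (h : ∀ g : isometryGroup F ⇑Q, g ∈ Omega F ⇑Q → ogVal g = -1 → ogVal g = 1) :
    Nat.card (Subgroup.center (Omega F ⇑Q)) = 1 := by
  rw [Nat.card_eq_one_iff_unique]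
  refine ⟨⟨fun a b => ?_⟩, ⟨1⟩⟩
  have key : ∀ c : Subgroup.center (Omega F ⇑Q), omVal (c : Omega F ⇑Q) = 1 := fun c => by
    rcases center_omega_scalar hQ hT hn c.2 with e | e
    · exact e
    · exact h _ (c : Omega F ⇑Q).2 e
  exact Subtype.ext (omVal_ext ((key a).trans (key b).symm))

theorem card_center_two (hQ : (QuadraticMap.polarBilin Q).Nondegenerate) (hT : Tri Q) (hn : 1 ≤ Fintype.card ι)
    (h2 : (2 : F) ≠ 0) (h : ∃ g : isometryGroup F ⇑Q, g ∈ Omega F ⇑Q ∧ ogVal g = -1) :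
    Nat.card (Subgroup.center (Omega F ⇑Q)) = 2 := by
  obtain ⟨g, hg, hgv⟩ := h
  haveI : Nonempty ι := Fintype.card_pos_iff.1 hn
  have hne : (-1 : Matrix ι ι F) ≠ 1 := fun e => h2 (by
    have := congrFun (congrFun e (Classical.arbitrary ι)) (Classical.arbitrary ι)
    rw [Matrix.neg_apply, Matrix.one_apply_eq] at this
    linear_combination -this)
  have hzc : (⟨g, hg⟩ : Omega F ⇑Q) ∈ Subgroup.center (Omega F ⇑Q) := Subgroup.mem_center_iff.2 fun t =>
    omVal_ext (by
      show omVal t * ogVal g = ogVal g * omVal t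
      rw [hgv, mul_neg, mul_one, neg_mul, one_mul])
  rw [Nat.card_eq_two_iff]
  refine ⟨1, ⟨⟨g, hg⟩, hzc⟩, fun e => hne ?_, Set.eq_univ_iff_forall.2 fun z => ?_⟩
  · have := congrArg (fun z : Subgroup.center (Omega F ⇑Q) => omVal (z : Omega F ⇑Q)) e
    exact hgv.symm.trans this.symm
  · rcases center_omega_scalar hQ hT hn z.2 with e | e
    · exact Or.inl (Subtype.ext (omVal_ext e))
    · exact Or.inr (Subtype.ext (omVal_ext (e.trans hgv.symm)))

/-- The three factors of the order of the isometry group. -/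
theorem card_pomega_mul (Q : QuadraticForm F (ι → F)) :
    Nat.card (Subgroup.center (Omega F ⇑Q)) * (Omega F ⇑Q).index * Nat.card (POmega F ⇑Q) = isoCard Q := by
  rw [← natCard_isometryGroup, ← (Omega F ⇑Q).card_mul_index,
    Subgroup.card_eq_card_quotient_mul_card_subgroup (Subgroup.center (Omega F ⇑Q))]
  show _ * _ * Nat.card (Omega F ⇑Q ⧸ Subgroup.center (Omega F ⇑Q)) = _
  ring

end Cfsg.Agent.Classical.OrthAut
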