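import Cfsg.Agent.Lib.Classical.PSLAutFrame

/-!
The structure of `Aut(PSL_n(q))`: the semilinear parameters are unique, the field and graph parts
are homomorphisms with kernel the inner-diagonal group, which is `PGL_n(q)`.
-/

set_option autoImplicit false
set_option linter.unusedSectionVars false

namespace Cfsg.Agent.Classical.PSLAut

open Matrix

variable {F : Type*} [Field F] [Fintype F] {n : ℕ}

local notation "SLn" => Matrix.SpecialLinearGroup (Fin n) F
local notation "PSLn" => Matrix.ProjectiveSpecialLinearGroup (Fin n) F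
local notation "Mn" => Matrix (Fin n) (Fin n) F

theorem card_ringAut {p f : ℕ} [Fact p.Prime] (hF : Fintype.card F = p ^ f) :
    IsCyclic (RingAut F) ∧ Nat.card (RingAut F) = f := by
  haveI : CharP F p := charP_of_card_eq_prime_pow hF
  letI : Algebra (ZMod p) F := ZMod.algebra F p
  have hfin : Module.finrank (ZMod p) F = f := by
    have h := Module.card_eq_pow_finrank (K := ZMod p) (V := F)
    rw [hF, ZMod.card] at h
    exact (Nat.pow_right_injective (Fact.out : p.Prime).two_le h).symm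
  let e : (F ≃ₐ[ZMod p] F) ≃* RingAut F :=
    { toFun := fun a => a.toRingEquiv
      invFun := fun σ => AlgEquiv.ofRingEquiv (f := σ) fun x => by
        show σ.toRingHom.comp (algebraMap (ZMod p) F) x = algebraMap (ZMod p) F x
        rw [RingHom.ext_zmod (σ.toRingHom.comp (algebraMap (ZMod p) F)) (algebraMap (ZMod p) F)]
      left_inv := fun a => AlgEquiv.ext fun _ => rfl
      right_inv := fun σ => RingEquiv.ext fun _ => rfl
      map_mul' := fun _ _ => rfl }
  refine ⟨isCyclic_of_surjective e e.surjective, ?_⟩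
  rw [← Nat.card_congr e.toEquiv, IsGalois.card_aut_eq_finrank, hfin]

theorem rootSet_inj [NeZero n] {v φ w ψ : Fin n → F} (h : IsRootPair v φ) (h' : IsRootPair w ψ)
    (e : rootSet v φ = rootSet (n := n) w ψ) : Par v w ∧ Par φ ψ := by
  obtain ⟨c, s, hs, hx⟩ : slToPSL n F (tv v φ h.2.2 1) ∈ rootSet w ψ := e ▸ tv_mem v φ h.2.2 1
  have hA := eq_of_slToPSL_eq hs (tv_coe v φ h.2.2 1) (vmv_sq h'.2.2 c) (vmv_sq h.2.2 1) hx
  rw [one_smul] at hA
  have e1 : ∀ a b, c * (w a * ψ b) = v a * φ b := fun a b => by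
    simpa [Matrix.vecMulVec_apply] using congrFun (congrFun hA a) b
  obtain ⟨j, hj⟩ := Function.ne_iff.1 h.2.1
  obtain ⟨i, hi⟩ := Function.ne_iff.1 h.1
  simp only [Pi.zero_apply] at hi hj
  refine ⟨fun a b => mul_left_cancel₀ hj ?_, fun a b => mul_left_cancel₀ hi ?_⟩
  · linear_combination (-w b) * e1 a j + w a * e1 b j
  · linear_combination (-ψ b) * e1 i a + ψ a * e1 i b

/-- A semilinear automorphism fixing every coordinate root group has diagonal matrix. -/
theorem diagonal_of_fix (hn : 2 ≤ n) {g : GL (Fin n) F} {σ : F ≃+* F}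
    (h : ∀ i j : Fin n, i ≠ j → pslSemi g σ '' rootIJ i j = rootIJ i j) :
    ∃ d : Fin n → F, (g : Mn) = Matrix.diagonal d := by
  haveI : NeZero n := ⟨by omega⟩
  refine ⟨fun i => (g : Mn) i i, ?_⟩
  ext a b
  rcases eq_or_ne a b with rfl | hab
  · simp
  rw [Matrix.diagonal_apply_ne _ hab]
  have e := h b a hab.symm
  rw [rootIJ, image_rootSet] at e
  obtain ⟨hp, -⟩ := rootSet_inj ((isRootPair_single (F := F) hab.symm).semi g σ)
    (isRootPair_single hab.symm) e
  have hb : σ ∘ (Pi.single b 1 : Fin n → F) = Pi.single b 1 := by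
    ext k; rcases eq_or_ne k b with rfl | hk <;> simp [*]
  rw [hb, Matrix.mulVec_single_one] at hp
  simpa [hab] using hp a b

theorem pslSemi_eq_one_iff (hn : 2 ≤ n) {g : GL (Fin n) F} {σ : F ≃+* F} :
    pslSemi g σ = (1 : MulAut PSLn) ↔
      σ = RingEquiv.refl F ∧ ∃ c : Fˣ, g = Matrix.GeneralLinearGroup.scalar (Fin n) c := by
  constructor
  · intro h
    obtain ⟨d, hd⟩ := diagonal_of_fix hn (g := g) (σ := σ) fun i j _ => by rw [h]; simp
    have hd0 : ∀ k, d k ≠ 0 := fun k hk => by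
      have h1 : (g : Mn).det ≠ 0 := g.det_ne_zero
      rw [hd, Matrix.det_diagonal] at h1
      exact h1 (Finset.prod_eq_zero (Finset.mem_univ k) hk)
    have key : ∀ i j, i ≠ j → ∀ c, d i * σ c = c * d j := fun i j hij c => by
      have := pslSemi_rootElt hd σ hij c
      rw [h] at this
      have := rootElt_injective hij this
      rw [eq_div_iff (hd0 j)] at this
      exact this.symm
    set o : Fin n := ⟨0, by omega⟩
    have hdd : ∀ i, d i = d o := fun i => by
      rcases eq_or_ne i o with rfl | hi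
      · rfl
      · simpa using key i o hi 1
    refine ⟨RingEquiv.ext fun c => ?_, ⟨Units.mk0 (d o) (hd0 o), ?_⟩⟩
    · have := key ⟨1, by omega⟩ o (by simp [o, Fin.ext_iff]) c
      rw [hdd ⟨1, by omega⟩, mul_comm] at this
      exact mul_right_cancel₀ (hd0 o) this
    · refine Units.ext ?_
      rw [hd]
      ext i j
      rcases eq_or_ne i j with rfl | hij <;> simp [hdd, *]
  · rintro ⟨rfl, c, rfl⟩
    refine MulEquiv.ext fun x => ?_
    obtain ⟨s, rfl⟩ := slToPSL_surjective x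
    rw [pslSemi_mk]
    refine congrArg _ (Subtype.ext ?_)
    have hcom : ((Matrix.GeneralLinearGroup.scalar (Fin n) c : GL (Fin n) F) : Mn) * (s : Mn) =
        (s : Mn) * (Matrix.GeneralLinearGroup.scalar (Fin n) c : GL (Fin n) F) := by
      rw [Matrix.GeneralLinearGroup.coe_scalar]
      exact Matrix.scalar_commute _ (fun r => Commute.all _ r) _
    rw [slSemi_coe, show (s : Mn).map (RingEquiv.refl F) = (s : Mn) from Matrix.map_id _, hcom,
      Units.mul_inv_cancel_right]

/-- `PGL_n(F)` as automorphisms. -/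
def inndiagHom (n : ℕ) (F : Type*) [Field F] :
    GL (Fin n) F →* MulAut (Matrix.ProjectiveSpecialLinearGroup (Fin n) F) where
  toFun g := pslSemi g (RingEquiv.refl F)
  map_one' := pslSemi_one
  map_mul' g h := (pslSemi_refl_mul g h _).symm

theorem inndiagHom_apply (g : GL (Fin n) F) :
    inndiagHom n F g = pslSemi g (RingEquiv.refl F) := rfl

theorem inndiagPSL_eq : inndiagPSL n F = (inndiagHom n F).range := by
  refine le_antisymm ((Subgroup.closure_le _).2 fun β hβ => ?_) ?_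
  · obtain ⟨g, rfl⟩ := innerDiag_iff.1 hβ
    exact ⟨g, rfl⟩
  · rintro _ ⟨g, rfl⟩
    exact Subgroup.subset_closure (innerDiag_iff.2 ⟨g, rfl⟩)

theorem ker_inndiagHom (hn : 2 ≤ n) :
    (inndiagHom n F).ker = Subgroup.center (GL (Fin n) F) := by
  ext g
  rw [MonoidHom.mem_ker, inndiagHom_apply, pslSemi_eq_one_iff hn,
    Matrix.GeneralLinearGroup.center_eq_range_scalar, MonoidHom.mem_range]
  exact ⟨fun ⟨_, c, hc⟩ => ⟨c, hc.symm⟩, fun ⟨c, hc⟩ => ⟨rfl, c, hc.symm⟩⟩

theorem natCard_inndiag (hn : 2 ≤ n) :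
    Nat.card (inndiagHom n F).range = Nat.card (Matrix.ProjGenLinGroup (Fin n) F) := by
  show _ = Nat.card (GL (Fin n) F ⧸ Subgroup.center (GL (Fin n) F))
  rw [← Subgroup.index_ker, ker_inndiagHom hn]
  rfl

theorem pslInvT_ne_semi (hn : 3 ≤ n) (g : GL (Fin n) F) (σ : F ≃+* F) :
    (pslInvT : MulAut PSLn) ≠ pslSemi g σ := by
  haveI : NeZero n := ⟨by omega⟩
  intro h
  set a : Fin n := ⟨0, by omega⟩
  set b : Fin n := ⟨1, by omega⟩
  set c : Fin n := ⟨2, by omega⟩
  have hab : a ≠ b := by simp [a, b, Fin.ext_iff]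
  have hac : a ≠ c := by simp [a, c, Fin.ext_iff]
  have key : ∀ j, a ≠ j → Par ((g : Mn) *ᵥ (σ ∘ Pi.single a 1)) (Pi.single j 1) := by
    intro j hj
    have e := image_rootSet_invT (Pi.single a 1 : Fin n → F) (Pi.single j 1)
      (isRootPair_single hj).2.2
    rw [h, image_rootSet] at e
    exact (rootSet_inj ((isRootPair_single (F := F) hj).semi g σ) (isRootPair_single hj.symm) e).1
  have := (key b hab).symm.trans ((isRootPair_single (F := F) hab).semi g σ).1 (key c hac) b c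
  simp [show b ≠ c by simp [b, c, Fin.ext_iff], show c ≠ b by simp [b, c, Fin.ext_iff]] at this

/-- A parametrisation of an automorphism. -/
def Rep (β : MulAut PSLn) (g : GL (Fin n) F) (σ : RingAut F) (ε : ℕ) : Prop :=
  ε ≤ 1 ∧ (n = 2 → ε = 0) ∧ β = pslSemi g σ * pslInvT ^ ε

theorem pow_invT_mod (k : ℕ) : (pslInvT : MulAut PSLn) ^ (k % 2) = pslInvT ^ k := by
  conv_rhs => rw [← Nat.mod_add_div k 2, pow_add, pow_mul, pow_two, pslInvT_mul_self, one_pow, mul_one]

theorem Rep.unique (hn : 2 ≤ n) {β : MulAut PSLn} {g h : GL (Fin n) F} {σ τ : RingAut F} {ε η : ℕ}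
    (H : Rep β g σ ε) (H' : Rep β h τ η) :
    σ = τ ∧ ε = η ∧ ∃ c : Fˣ, g = h * Matrix.GeneralLinearGroup.scalar (Fin n) c := by
  obtain ⟨hε, hε2, e1⟩ := H
  obtain ⟨hη, hη2, e2⟩ := H'
  -- a semilinear left inverse of `pslSemi h τ`
  obtain ⟨k, ρ, hk⟩ : ∃ k ρ, pslSemi k ρ = (pslSemi h τ : MulAut PSLn)⁻¹ := by
    refine ⟨Matrix.GeneralLinearGroup.map (RingEquiv.symm τ).toRingHom h⁻¹, RingEquiv.symm τ, ?_⟩
    refine (inv_eq_of_mul_eq_one_left ?_).symm
    rw [pslSemi_mul, ← map_mul, inv_mul_cancel, map_one,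
      show RingEquiv.trans τ (RingEquiv.symm τ) = RingEquiv.refl F from
        RingEquiv.ext fun x => τ.symm_apply_apply x, pslSemi_one]
  have e3 : pslSemi k ρ * pslSemi g σ = pslInvT ^ η * (pslInvT ^ ε)⁻¹ := by
    rw [eq_mul_inv_iff_mul_eq, mul_assoc, ← e1, e2, hk, inv_mul_cancel_left]
  rw [pslSemi_mul] at e3
  have hεη : ε = η := by
    by_contra hne
    have hn3 : 3 ≤ n := by
      by_contra hlt
      exact hne (by rw [hε2 (by omega), hη2 (by omega)])
    refine pslInvT_ne_semi hn3 _ _ (Eq.trans ?_ e3.symm)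
    interval_cases ε <;> interval_cases η <;> simp_all [pslInvT_inv]
  subst hεη
  rw [mul_inv_cancel, pslSemi_eq_one_iff hn] at e3
  have hsc : (pslSemi g σ : MulAut PSLn) = pslSemi h τ := by
    rw [← mul_left_inj (pslInvT ^ ε), ← e1, e2]
  obtain ⟨hρ, -⟩ := e3
  have hσ : σ = τ := by
    have h1 : pslSemi k ρ * pslSemi h τ = (1 : MulAut PSLn) := by rw [hk, inv_mul_cancel]
    rw [pslSemi_mul, pslSemi_eq_one_iff hn] at h1
    refine RingEquiv.ext fun x => ρ.injective ?_
    exact (DFunLike.congr_fun hρ x).trans (DFunLike.congr_fun h1.1 x).symm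
  subst hσ
  refine ⟨rfl, rfl, ?_⟩
  have h2 : (pslSemi (h⁻¹ * g) σ : MulAut PSLn) = pslSemi 1 σ := by
    rw [← pslSemi_refl_mul, hsc, pslSemi_refl_mul, inv_mul_cancel]
  have h3 : pslSemi (h⁻¹ * g) (RingEquiv.refl F) * pslSemi 1 σ = (1 : MulAut PSLn) * pslSemi 1 σ := by
    rw [pslSemi_refl_mul, mul_one, one_mul, h2]
  obtain ⟨-, c, hc⟩ := (pslSemi_eq_one_iff hn).1 (mul_right_cancel h3)
  exact ⟨c, by rw [← hc, mul_inv_cancel_left]⟩

theorem Rep.mul {β γ : MulAut PSLn} {g h : GL (Fin n) F} {σ τ : RingAut F} {ε η : ℕ}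
    (H : Rep β g σ ε) (H' : Rep γ h τ η) :
    ∃ k, Rep (β * γ) k (σ * τ) ((ε + η) % 2) := by
  obtain ⟨hε, hε2, rfl⟩ := H
  obtain ⟨hη, hη2, rfl⟩ := H'
  have hsw : ∃ h', (pslInvT : MulAut PSLn) ^ ε * pslSemi h τ = pslSemi h' τ * pslInvT ^ ε := by
    interval_cases ε
    · exact ⟨h, by simp⟩
    · exact ⟨invT h, by rw [pow_one]; exact pslInvT_mul_pslSemi h τ⟩
  obtain ⟨h', hh'⟩ := hsw
  refine ⟨g * Matrix.GeneralLinearGroup.map σ.toRingHom h', by omega,
    fun h2 => by rw [hε2 h2, hη2 h2], ?_⟩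
  rw [show (σ * τ : RingAut F) = RingEquiv.trans τ σ from rfl, ← pslSemi_mul, pow_invT_mod, pow_add]
  rw [mul_assoc (pslSemi g σ), ← mul_assoc (pslInvT ^ ε), hh', mul_assoc, mul_assoc]

variable {p : ℕ} [Fact p.Prime] [CharP F p]

include p in
theorem exists_rep (hn : 2 ≤ n) (β : MulAut PSLn) :
    ∃ (g : GL (Fin n) F) (σ : RingAut F) (ε : ℕ), Rep β g σ ε := by
  obtain ⟨g, σ, ε, h1, h2, h3⟩ := exists_param (p := p) hn β
  exact ⟨g, σ, ε, h1, h2, h3⟩

include p in
/-- Field part and graph part as homomorphisms. -/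
theorem exists_fieldGraphHom (hn : 2 ≤ n) :
    ∃ Ψ : MulAut PSLn →* RingAut F × Multiplicative (ZMod 2),
      Ψ.ker = (inndiagHom n F).range ∧ (3 ≤ n → Function.Surjective Ψ) ∧
      (n = 2 → (∀ β, (Ψ β).2 = 1) ∧ ∀ σ, ∃ β, (Ψ β).1 = σ) := by
  choose g σ ε hrep using fun β : MulAut PSLn => exists_rep (p := p) hn β
  have hval : ∀ β g' σ' ε', Rep β g' σ' ε' → σ β = σ' ∧ ε β = ε' := fun β g' σ' ε' h =>
    ⟨((hrep β).unique hn h).1, ((hrep β).unique hn h).2.1⟩
  let Ψ : MulAut PSLn →* RingAut F × Multiplicative (ZMod 2) := MonoidHom.mk'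
    (fun β => (σ β, Multiplicative.ofAdd (ε β : ZMod 2))) fun β γ => by
      obtain ⟨k, hk⟩ := (hrep β).mul (hrep γ)
      obtain ⟨h1, h2⟩ := hval _ _ _ _ hk
      refine Prod.ext h1 ?_
      show Multiplicative.ofAdd (ε (β * γ) : ZMod 2) = _
      rw [h2, ZMod.natCast_mod, Nat.cast_add, ofAdd_add]
      rfl
  have hsemi : ∀ s : RingAut F, Ψ (pslSemi 1 s) = (s, 1) := fun s => by
    obtain ⟨h1, h2⟩ := hval (pslSemi 1 s) 1 s 0 ⟨zero_le_one, fun _ => rfl, by rw [pow_zero, mul_one]⟩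
    show (σ _, _) = _
    rw [h1, h2]; rfl
  refine ⟨Ψ, ?_, fun hn3 => ?_, fun hn2 => ?_⟩
  · ext β
    constructor
    · intro h
      have hs : σ β = 1 := congrArg Prod.fst (MonoidHom.mem_ker.1 h)
      have he : (ε β : ZMod 2) = 0 := congrArg Prod.snd (MonoidHom.mem_ker.1 h)
      have he0 : ε β = 0 := by
        rcases Nat.le_one_iff_eq_zero_or_eq_one.1 (hrep β).1 with h0 | h0
        · exact h0
        · rw [h0] at he; exact absurd he (by decide)
      obtain ⟨-, -, hb⟩ := hrep β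
      rw [he0, hs, pow_zero, mul_one] at hb
      exact ⟨g β, hb.symm⟩
    · rintro ⟨g', rfl⟩
      obtain ⟨h1, h2⟩ := hval (inndiagHom n F g') g' 1 0
        ⟨zero_le_one, fun _ => rfl, by rw [pow_zero, mul_one]; rfl⟩
      refine MonoidHom.mem_ker.2 ?_
      show (σ _, _) = _
      rw [h1, h2]; rfl
  · rintro ⟨s, e⟩
    obtain ⟨h1, h2⟩ := hval pslInvT 1 1 1 ⟨le_rfl, fun h => by omega, by
      rw [show pslSemi (1 : GL (Fin n) F) (1 : RingAut F) = 1 from pslSemi_one, one_mul, pow_one]⟩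
    have hi : Ψ pslInvT = (1, Multiplicative.ofAdd 1) := by
      show (σ _, _) = _
      rw [h1, h2]; rfl
    obtain ⟨x, rfl⟩ : ∃ x : ℕ, e = Multiplicative.ofAdd (x : ZMod 2) :=
      ⟨(Multiplicative.toAdd e).val, by simp⟩
    refine ⟨pslSemi 1 s * pslInvT ^ x, ?_⟩
    rw [map_mul, map_pow, hsemi, hi]
    refine Prod.ext (by simp) ?_
    simp [← ofAdd_nsmul]
  · refine ⟨fun β => ?_, fun s => ⟨pslSemi 1 s, by rw [hsemi]⟩⟩
    show Multiplicative.ofAdd (ε β : ZMod 2) = 1
    rw [(hrep β).2.1 hn2]; rfl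

/-- The inner-diagonal group modulo inner automorphisms is cyclic of order `gcd(n, q-1)`. -/
theorem outDiag (hn : 2 ≤ n) :
    IsCyclic ((inndiagHom n F).range.map (QuotientGroup.mk' (Inn PSLn))) ∧
      Nat.card ((inndiagHom n F).range.map (QuotientGroup.mk' (Inn PSLn))) =
        Nat.gcd n (Fintype.card F - 1) := by
  haveI : Nonempty (Fin n) := ⟨⟨0, by omega⟩⟩
  rw [MonoidHom.map_range]
  set κ := (QuotientGroup.mk' (Inn PSLn)).comp (inndiagHom n F)
  let d : GL (Fin n) F →* Fˣ := Matrix.GeneralLinearGroup.det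
  have hd : Function.Surjective d := Matrix.GeneralLinearGroup.det_surjective
  have hker : κ.ker = (powMonoidHom n : Fˣ →* Fˣ).range.comap d := by
    ext g
    rw [MonoidHom.mem_ker, MonoidHom.comp_apply, QuotientGroup.mk'_apply, QuotientGroup.eq_one_iff,
      Subgroup.mem_comap]
    constructor
    · rintro ⟨x, hx⟩
      obtain ⟨s, rfl⟩ := slToPSL_surjective x
      rw [conj_eq_pslSemi] at hx
      have h2 : inndiagHom n F ((Matrix.SpecialLinearGroup.toGL s)⁻¹ * g) = 1 := by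
        rw [map_mul, map_inv, inndiagHom_apply, hx, inv_mul_cancel]
      obtain ⟨-, c, hc⟩ := (pslSemi_eq_one_iff hn).1 h2
      refine ⟨c, Units.ext ?_⟩
      have := congrArg (fun u : GL (Fin n) F => (u : Mn).det) hc
      simp at this
      simp [d, this]
    · rintro ⟨c, hc⟩
      have hdet : ((c⁻¹ : Fˣ) • (g : Mn)).det = 1 := by
        have h1 : (c : F) ^ n = (g : Mn).det := by
          have := congrArg (fun u : Fˣ => (u : F)) hc
          simpa [d] using this
        rw [Units.smul_def, Matrix.det_smul, Fintype.card_fin, ← h1, ← mul_pow, ← Units.val_mul,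
          inv_mul_cancel, Units.val_one, one_pow]
      obtain ⟨s, hs⟩ : ∃ s : SLn, (s : Mn) = (c⁻¹ : Fˣ) • (g : Mn) := ⟨⟨_, hdet⟩, rfl⟩
      refine ⟨slToPSL n F s, ?_⟩
      rw [conj_eq_pslSemi]
      have h2 : g = Matrix.GeneralLinearGroup.scalar (Fin n) c *
          Matrix.SpecialLinearGroup.toGL s := by
        refine Units.ext ?_
        rw [Units.val_mul, Matrix.GeneralLinearGroup.coe_scalar, Matrix.scalar_apply,
          ← Matrix.smul_eq_diagonal_mul, show ((Matrix.SpecialLinearGroup.toGL s : GL (Fin n) F) : Mn)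
            = (s : Mn) from rfl, hs, Units.smul_def, smul_smul, ← Units.val_mul, mul_inv_cancel,
          Units.val_one, one_smul]
      conv_rhs => rw [h2, map_mul, inndiagHom_apply,
        (pslSemi_eq_one_iff hn).2 ⟨rfl, c, rfl⟩, one_mul, inndiagHom_apply]
  constructor
  · have hle : d.ker ≤ κ.ker := by
      rw [hker]
      intro g hg
      rw [Subgroup.mem_comap, MonoidHom.mem_ker.1 hg]
      exact one_mem _
    let l : Fˣ →* MulAut PSLn ⧸ Inn PSLn := d.liftOfSurjective hd ⟨κ, hle⟩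
    have hl : κ.range = l.range := by
      rw [show κ = l.comp d from (d.liftOfRightInverse_comp _ _ ⟨κ, hle⟩).symm,
        MonoidHom.range_comp, MonoidHom.range_eq_top.2 hd, ← MonoidHom.range_eq_map]
    rw [hl]
    exact isCyclic_of_surjective l.rangeRestrict l.rangeRestrict_surjective
  · rw [← Subgroup.index_ker, hker, Subgroup.index_comap_of_surjective _ hd,
      IsCyclic.index_powMonoidHom_range, Nat.gcd_comm, natCard_units_field]

end Cfsg.Agent.Classical.PSLAut
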