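import Cfsg.Agent.Lib.Classical.UnitAutFrame
import Cfsg.Agent.Lib.Classical.PSLAutStructure

/-!
The structure of `Aut(PSU_n(q))`: uniqueness of the semilinear parameters, the field part as a
homomorphism with kernel the inner-diagonal group, the order of the latter.
-/

set_option autoImplicit false
set_option linter.unusedSectionVars false

namespace Cfsg.Agent.Classical.PSUAut

open Matrix Cfsg.Agent.Classical.Descent

section

variable {F : Type*} [Field F] [Fintype F] {q n : ℕ} (hF : Fintype.card F = q ^ 2)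

local notation "V" => (Fin n → F)
local notation "Mn" => Matrix (Fin n) (Fin n) F
local notation "GI" => GL (Fin n) F
local notation "h" => hermForm n F q
local notation "cj" => qFrob hF
local notation "PS" => PSU n F q
local notation "π" => suToPSU n F q

include hF

theorem psuSemi_eq_one_iff (hn : 3 ≤ n) {g : GU n F q} {σ : F ≃+* F} :
    psuSemi g σ = (1 : MulAut PS) ↔
      σ = RingEquiv.refl F ∧ ∃ c : F, ((g : GI) : Mn) = c • (1 : Mn) := by
  classical
  have hn1 : 1 ≤ n := by omega
  constructor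
  · intro hg
    set G : V → V := fun x => ((g : GI) : Mn) *ᵥ (σ ∘ x) with hGdef
    have Gadd : ∀ x y, G (x + y) = G x + G y := fun x y => by
      simp only [G, show σ ∘ (x + y) = σ ∘ x + σ ∘ y from funext fun i => map_add σ _ _,
        Matrix.mulVec_add]
    have Gsmul : ∀ (a : F) x, G (a • x) = σ a • G x := fun a x => by
      simp only [G, show σ ∘ (a • x) = σ a • (σ ∘ x) from funext fun i => map_mul σ _ _,
        Matrix.mulVec_smul]
    have Gh : ∀ x y, h (G x) (G y) = σ (h x y) := fun x y => by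
      simp only [G]; rw [mem_GU.1 g.2, h_comp]
    have hfix : ∀ x : V, x ≠ 0 → h x x = 0 → ∃ a : F, G x = a • x := by
      intro x hx hxx
      have e1 := image_rootU hF g σ x
      rw [hg, MulAut.coe_one, Set.image_id] at e1
      obtain ⟨a, ha, ha'⟩ := rootU_inj hF hn1 hx hxx (by
        show h (G x) (G x) = 0
        rw [Gh, hxx, map_zero]) e1
      refine ⟨a⁻¹, ?_⟩
      conv_rhs => rw [ha', smul_smul, inv_mul_cancel₀ ha, one_smul]
    obtain ⟨e, hee0, hee⟩ := exists_isotropic hF (show 2 ≤ n by omega)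
    obtain ⟨f, P⟩ := exists_pair hF hee0 hee
    obtain ⟨a, ha⟩ := hfix e P.ne_zero P.ee
    obtain ⟨b, hb⟩ := hfix f (P.swap hF).ne_zero P.ff
    have hab : a * cj b = 1 := by
      have h1 := Gh e f
      rw [ha, hb, h_smul_left, h_smul_right hF, P.ef, map_one, mul_one] at h1
      exact h1
    have ha0 : a ≠ 0 := fun h0 => by simp [h0] at hab
    have hb0 : b ≠ 0 := fun h0 => by simp [h0] at hab
    -- on the chart `e + w + c f`
    have hchart : ∀ w ∈ wSub q e f, ∀ c, c + cj c + h w w = 0 → σ c * b = a * c := by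
      intro w hw c hc
      have hxx : h (e + w + c • f) (e + w + c • f) = 0 := by
        simp only [h_add_left, h_add_right hF, h_smul_left, h_smul_right hF, P.ee, P.ff, P.ef, P.fe hF,
          hw.1, hw.2, h_comm_zero hF hw.1, h_comm_zero hF hw.2]
        linear_combination hc
      have hne : e + w + c • f ≠ 0 := fun h0 => by
        have := congrArg (fun x => h x f) h0
        simp [h_add_left, h_smul_left, P.ef, P.ff, hw.2, h_zero_left] at this
      obtain ⟨l, hl⟩ := hfix _ hne hxx
      rw [Gadd, Gadd, Gsmul, ha, hb] at hl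
      have hGw : G w ∈ wSub q e f := by
        constructor
        · have h1 := Gh w e
          rw [ha, h_smul_right hF, hw.1, map_zero] at h1
          exact (mul_eq_zero.1 h1).resolve_left ((map_ne_zero _).2 ha0)
        · have h1 := Gh w f
          rw [hb, h_smul_right hF, hw.2, map_zero] at h1
          exact (mul_eq_zero.1 h1).resolve_left ((map_ne_zero _).2 hb0)
      obtain ⟨e1, e2, -⟩ := comb_inj hF P (a := a) (b := σ c * b) (a' := l) (b' := l * c)
        (u := G w) (v := l • w) hGw (Submodule.smul_mem _ _ hw) (by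
          rw [smul_smul] at hl
          refine Eq.trans (by abel) (hl.trans ?_)
          rw [smul_add, smul_add, smul_smul]; abel)
      rw [e2, e1]
    obtain ⟨v, hve, hvf, hvv⟩ := exists_aniso_orth hF hn P
    obtain ⟨c, hc⟩ := exists_trace_eq hF (a := -h v v) (by rw [map_neg, cj_h_self hF])
    have hc' : c + cj c + h v v = 0 := by linear_combination hc
    have hline : ∀ t, t + cj t = 0 → σ t * b = a * t := fun t ht =>
      hchart 0 (Submodule.zero_mem _) t (by rw [h_zero_left, add_zero, ht])
    have hall : ∀ x, σ x * b = a * x := by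
      intro x
      have hcc : c + cj c ≠ 0 := fun h0 => hvv (by linear_combination hc' - h0)
      set r := (x + cj x) / (c + cj c)
      have hr : cj r = r := by
        simp only [r, map_div₀, map_add, cj_cj, add_comm (cj x), add_comm (cj c)]
      have h1 : r * c + cj (r * c) = x + cj x := by
        rw [map_mul, hr, ← mul_add, div_mul_cancel₀ _ hcc]
      have h2 := hline (x - r * c) (by rw [map_sub]; linear_combination -h1)
      have h3 : σ r * σ c * b = a * (r * c) := by
        by_cases hr0 : r = 0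
        · simp [hr0]
        -- scale `v` by an element of norm `r`
        obtain ⟨s, hs⟩ := exists_norm hF hr
        have h4 := hchart (s • v) (Submodule.smul_mem _ _ ⟨hve, hvf⟩) (r * c) (by
          rw [h_smul_left, h_smul_right hF, ← mul_assoc, hs, map_mul, hr]
          linear_combination r * hc')
        rw [map_mul] at h4
        exact h4
      rw [map_sub, map_mul] at h2
      linear_combination h2 + h3
    have hba : b = a := by simpa using hall 1
    have hσ : σ = RingEquiv.refl F := RingEquiv.ext fun x => by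
      have := hall x
      rw [hba, mul_comm a x] at this
      exact mul_right_cancel₀ ha0 this
    refine ⟨hσ, scalar_of_fix_points hF P (mem_GU.1 g.2) fun x hx hxx => ?_⟩
    obtain ⟨l, hl⟩ := hfix x hx hxx
    refine ⟨l, ?_⟩
    simp only [G, hσ] at hl
    exact hl
  · rintro ⟨rfl, c, hc⟩
    refine MulEquiv.ext fun x => ?_
    obtain ⟨s, rfl⟩ := suToPSU_surjective x
    rw [psuSemi_mk]
    refine congrArg π (suVal_ext ?_)
    rw [suSemi_coe, show (suVal s).map (RingEquiv.refl F) = suVal s from Matrix.map_id _]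
    have hcom : ((g : GI) : Mn) * suVal s = suVal s * ((g : GI) : Mn) := by
      rw [hc, Matrix.smul_mul, Matrix.mul_smul, Matrix.one_mul, Matrix.mul_one]
    rw [hcom, Units.mul_inv_cancel_right]

omit hF in
theorem psuSemi_mul' (g k : GU n F q) (σ τ : RingAut F) :
    (psuSemi g σ * psuSemi k τ : MulAut PS) = psuSemi (g * guMap σ k) (σ * τ) := psuSemi_mul g k σ τ

theorem sigma_unique (hn : 3 ≤ n) {g k : GU n F q} {σ τ : RingAut F}
    (e : (psuSemi g σ : MulAut PS) = psuSemi k τ) : σ = τ := by
  have hinv : (psuSemi k τ : MulAut PS) * psuSemi (guMap (τ⁻¹ : RingAut F) k⁻¹) (τ⁻¹ : RingAut F) = 1 := by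
    rw [psuSemi_mul', mul_inv_cancel, show guMap (τ : F ≃+* F) (guMap (τ⁻¹ : RingAut F) k⁻¹) = k⁻¹ from
      Subtype.ext (Units.ext (by ext i j; exact τ.apply_symm_apply _)), mul_inv_cancel]
    exact psuSemi_one
  rw [← e, psuSemi_mul', psuSemi_eq_one_iff hF hn] at hinv
  exact mul_inv_eq_one.1 hinv.1

omit hF in
/-- `PGU_n` as automorphisms. -/
def inndiagHom (n : ℕ) (F : Type*) [Field F] (q : ℕ) : GU n F q →* MulAut (PSU n F q) where
  toFun g := psuSemi g (RingEquiv.refl F)
  map_one' := psuSemi_one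
  map_mul' g k := (psuSemi_refl_mul g k _).symm

omit hF in
theorem inndiagHom_apply (g : GU n F q) : inndiagHom n F q g = psuSemi g (RingEquiv.refl F) := rfl

omit hF in
theorem inndiagPSU_eq : inndiagPSU n F q = (inndiagHom n F q).range := by
  refine le_antisymm ((Subgroup.closure_le _).2 fun β hβ => ?_) ?_
  · obtain ⟨g, rfl⟩ := innerDiag_iff.1 hβ
    exact ⟨g, rfl⟩
  · rintro _ ⟨g, rfl⟩
    exact Subgroup.subset_closure (innerDiag_iff.2 ⟨g, rfl⟩)

theorem ker_inndiagHom_iff (hn : 3 ≤ n) {g : GU n F q} :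
    inndiagHom n F q g = 1 ↔ ∃ c : F, ((g : GI) : Mn) = c • (1 : Mn) := by
  rw [inndiagHom_apply, psuSemi_eq_one_iff hF hn]
  exact ⟨fun h1 => h1.2, fun h1 => ⟨rfl, h1⟩⟩

/-- The field part. -/
theorem exists_fieldHom (hn : 3 ≤ n) (hs : ¬(n = 3 ∧ q = 2)) :
    ∃ Ψ : MulAut PS →* RingAut F, Function.Surjective Ψ ∧ Ψ.ker = (inndiagHom n F q).range := by
  choose g σ hgσ using fun β : MulAut PS => exists_param hF hn hs β
  let Ψ : MulAut PS →* RingAut F := MonoidHom.mk' σ fun β γ => by
    refine sigma_unique hF hn (g := g (β * γ)) (k := g β * guMap (σ β) (g γ)) ?_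
    rw [← psuSemi_mul', ← hgσ, ← hgσ, ← hgσ]
  have hsemi : ∀ k s, Ψ (psuSemi k s) = s := fun k s => sigma_unique hF hn (hgσ (psuSemi k s)).symm
  refine ⟨Ψ, fun s => ⟨psuSemi 1 s, hsemi _ _⟩, ?_⟩
  ext β
  constructor
  · intro hb
    have h1 : σ β = 1 := MonoidHom.mem_ker.1 hb
    exact ⟨g β, by rw [inndiagHom_apply]; exact ((hgσ β).trans (by rw [h1]; rfl)).symm⟩
  · rintro ⟨k, rfl⟩
    exact MonoidHom.mem_ker.2 (hsemi k _)

omit hF in
/-- The inner automorphisms as a homomorphism. -/
theorem conj_eq_one (hF : Fintype.card F = q ^ 2) (hn : 3 ≤ n) {x : PS} (hx : MulAut.conj x = 1) : x = 1 := by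
  obtain ⟨s, rfl⟩ := suToPSU_surjective x
  rw [conj_eq_psuSemi, ← inndiagHom_apply, ker_inndiagHom_iff hF hn] at hx
  exact (pi_eq_one_iff hF).2 hx

theorem natCard_Inn (hn : 3 ≤ n) : Nat.card (Inn PS) = Nat.card PS :=
  (Nat.card_congr (MonoidHom.ofInjective (f := (MulAut.conj : PS →* MulAut PS))
    ((injective_iff_map_eq_one _).2 fun _ hx => conj_eq_one hF hn hx)).toEquiv).symm

omit hF in
theorem inn_le_inndiag : Inn PS ≤ (inndiagHom n F q).range := by
  rintro _ ⟨x, rfl⟩
  obtain ⟨s, rfl⟩ := suToPSU_surjective x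
  exact ⟨_, (conj_eq_psuSemi s).symm⟩

/-- The inner-diagonal group modulo inner automorphisms is cyclic of order `gcd(n, q+1)`. -/
theorem outDiag (hn : 3 ≤ n) :
    IsCyclic ((inndiagHom n F q).range.map (QuotientGroup.mk' (Inn PS))) ∧
      Nat.card ((inndiagHom n F q).range.map (QuotientGroup.mk' (Inn PS))) = Nat.gcd n (q + 1) := by
  classical
  rw [MonoidHom.map_range]
  set κ := (QuotientGroup.mk' (Inn PS)).comp (inndiagHom n F q)
  set N : Subgroup Fˣ := (powMonoidHom (q + 1) : Fˣ →* Fˣ).ker
  have hN : ∀ u : Fˣ, u ∈ N ↔ (u : F) * cj (u : F) = 1 := fun u => by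
    rw [MonoidHom.mem_ker, powMonoidHom_apply, qFrob_apply, ← pow_succ', ← Units.val_pow_eq_pow_val,
      Units.val_eq_one]
  have hNcard : Nat.card N = q + 1 := by
    rw [IsCyclic.card_powMonoidHom_ker, Nat.card_eq_fintype_card, Fintype.card_units, hF]
    have hq2 : 2 ≤ q := two_le_q hF
    have : q ^ 2 - 1 = (q + 1) * (q - 1) := by
      rw [show q ^ 2 - 1 = q ^ 2 - 1 ^ 2 by norm_num, Nat.sq_sub_sq]
    rw [this, Nat.gcd_eq_right (dvd_mul_right _ _)]
  let d : GU n F q →* N := ((Matrix.GeneralLinearGroup.det).comp (GU n F q).subtype).codRestrict N fun g =>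
    (hN _).2 (det_norm_one hF g.2)
  have hdval : ∀ g : GU n F q, ((d g : Fˣ) : F) = ((g : GI) : Mn).det := fun g => rfl
  have hd : Function.Surjective d := fun u => by
    obtain ⟨e, hee0, hee⟩ := exists_isotropic hF (show 2 ≤ n by omega)
    obtain ⟨f, P⟩ := exists_pair hF hee0 hee
    obtain ⟨v, -, -, hvv⟩ := exists_aniso_orth hF hn P
    obtain ⟨g, hg, hdet, -⟩ := exists_reflection hF hvv ((hN _).1 u.2)
    exact ⟨⟨g, hg⟩, Subtype.ext (Units.ext hdet)⟩
  have hker : κ.ker = (powMonoidHom n : N →* N).range.comap d := by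
    ext g
    rw [MonoidHom.mem_ker, MonoidHom.comp_apply, QuotientGroup.mk'_apply, QuotientGroup.eq_one_iff,
      Subgroup.mem_comap]
    constructor
    · rintro ⟨x, hx⟩
      obtain ⟨s, rfl⟩ := suToPSU_surjective x
      rw [conj_eq_psuSemi, ← inndiagHom_apply] at hx
      have h2 : inndiagHom n F q ((suToGU s)⁻¹ * g) = 1 := by
        rw [map_mul, map_inv, hx, inv_mul_cancel]
      obtain ⟨c, hc⟩ := (ker_inndiagHom_iff hF hn).1 h2
      have hgs : ((g : GI) : Mn) = c • suVal s := by
        have h3 := congrArg (suVal s * ·) hc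
        simp only [Subgroup.coe_mul, Units.val_mul, Subgroup.coe_inv, Matrix.mul_smul, Matrix.mul_one] at h3
        rw [← suToGU_coe, ← Matrix.mul_assoc, Units.mul_inv, Matrix.one_mul] at h3
        exact h3
      have hsd : (suVal s).det = 1 := s.1.2
      have hc0 : c ≠ 0 := fun h0 => by
        have h4 := (g : GI).det_ne_zero
        haveI : Nonempty (Fin n) := ⟨⟨0, by omega⟩⟩
        rw [hgs, h0, zero_smul, Matrix.det_zero] at h4
        exact h4 rfl
      have hcn : c * cj c = 1 := by
        obtain ⟨e, hee0, hee⟩ := exists_isotropic hF (show 2 ≤ n by omega)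
        obtain ⟨f, P⟩ := exists_pair hF hee0 hee
        have h5 : h (((g : GI) : Mn) *ᵥ e) (((g : GI) : Mn) *ᵥ f) = h e f := mem_GU.1 g.2 e f
        rw [hgs, Matrix.smul_mulVec, Matrix.smul_mulVec, h_smul_left, h_smul_right hF, su_form, P.ef,
          mul_one] at h5
        exact h5
      refine ⟨⟨Units.mk0 c hc0, (hN _).2 hcn⟩, Subtype.ext (Units.ext ?_)⟩
      rw [hdval, hgs, Matrix.det_smul, hsd, mul_one, Fintype.card_fin]
      simp [powMonoidHom_apply]
    · rintro ⟨c, hc⟩
      have hdet : ((g : GI) : Mn).det = ((c : Fˣ) : F) ^ n := by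
        rw [← hdval, ← hc]; simp [powMonoidHom_apply]
      have hcn : ((c : Fˣ) : F) * cj ((c : Fˣ) : F) = 1 := (hN _).1 c.2
      set c' : F := (((c : Fˣ)⁻¹ : Fˣ) : F)
      have hcc' : c' * ((c : Fˣ) : F) = 1 := Units.inv_mul _
      have hcn' : c' * cj c' = 1 := by
        have h6 := congrArg (fun z => c' * cj c' * z) hcn
        simp only [mul_one] at h6
        rw [← h6, show c' * cj c' * (((c : Fˣ) : F) * cj ((c : Fˣ) : F)) =
          (c' * ((c : Fˣ) : F)) * cj (c' * ((c : Fˣ) : F)) by rw [map_mul]; ring, hcc', map_one, mul_one]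
      let M : Mn := c' • ((g : GI) : Mn)
      have hMdet : M.det = 1 := by
        rw [Matrix.det_smul, Fintype.card_fin, hdet, ← mul_pow, hcc', one_pow]
      let s : SU n F q := ⟨⟨M, hMdet⟩, fun x y => by
        show h (M *ᵥ x) (M *ᵥ y) = h x y
        simp only [M, Matrix.smul_mulVec, h_smul_left, h_smul_right hF, mem_GU.1 g.2 x y]
        rw [← mul_assoc, mul_comm (cj c'), hcn', one_mul]⟩
      refine ⟨π s, ?_⟩
      rw [conj_eq_psuSemi, ← inndiagHom_apply, ← inv_mul_eq_one, ← map_inv, ← map_mul,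
        ker_inndiagHom_iff hF hn]
      refine ⟨((c : Fˣ) : F), ?_⟩
      rw [Subgroup.coe_mul, Units.val_mul, Subgroup.coe_inv]
      have h7 : ((g : GI) : Mn) = ((c : Fˣ) : F) • (((suToGU s : GU n F q) : GI) : Mn) := by
        rw [suToGU_coe]
        show _ = ((c : Fˣ) : F) • (c' • ((g : GI) : Mn))
        rw [smul_smul, mul_comm, hcc', one_smul]
      conv_lhs => rw [h7]
      rw [Matrix.mul_smul, Units.inv_mul]
  constructor
  · have hle : d.ker ≤ κ.ker := by
      rw [hker]
      intro g hg
      rw [Subgroup.mem_comap, MonoidHom.mem_ker.1 hg]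
      exact one_mem _
    let l : N →* MulAut PS ⧸ Inn PS := d.liftOfSurjective hd ⟨κ, hle⟩
    have hl : κ.range = l.range := by
      rw [show κ = l.comp d from (d.liftOfRightInverse_comp _ _ ⟨κ, hle⟩).symm,
        MonoidHom.range_comp, MonoidHom.range_eq_top.2 hd, ← MonoidHom.range_eq_map]
    rw [hl]
    exact isCyclic_of_surjective l.rangeRestrict l.rangeRestrict_surjective
  · rw [← Subgroup.index_ker, hker, Subgroup.index_comap_of_surjective _ hd,
      IsCyclic.index_powMonoidHom_range, hNcard, Nat.gcd_comm]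

theorem natCard_inndiag (hn : 3 ≤ n) :
    Nat.card (inndiagHom n F q).range = Nat.gcd n (q + 1) * Nat.card PS := by
  rw [← (outDiag hF hn).2, ← natCard_Inn hF hn,
    Subgroup.card_eq_card_quotient_mul_card_subgroup ((Inn PS).subgroupOf (inndiagHom n F q).range),
    Nat.card_congr (Subgroup.subgroupOfEquivOfLe inn_le_inndiag).toEquiv]
  congr 1
  refine Nat.card_congr ((QuotientGroup.quotientMulEquivOfEq ?_).trans
    ((QuotientGroup.quotientKerEquivRange ((QuotientGroup.mk' (Inn PS)).comp
      (inndiagHom n F q).range.subtype)).trans (MulEquiv.subgroupCongr (by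
        rw [MonoidHom.range_comp, Subgroup.range_subtype])))).toEquiv
  ext x
  simp [Subgroup.mem_subgroupOf]

end

end Cfsg.Agent.Classical.PSUAut
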