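import Cfsg.Agent.Lib.Classical.OrthSingularCount

/-! Numbers of non-degenerate subspaces of a given type and the primes dividing them. -/

set_option autoImplicit false

namespace Cfsg.Agent.OrthNondegCount

open Module Cfsg.Agent.Classical Cfsg.Agent.OrthSingularCount

variable {F : Type*} [Field F] [Fintype F] {V : Type*} [AddCommGroup V] [Module F V] [FiniteDimensional F V]

/-- The orthogonal complement. -/
noncomputable def perp (Q : QuadraticForm F V) (W : Submodule F V) : Submodule F V := (pol Q).orthogonal W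

variable {Q : QuadraticForm F V}

omit [Fintype F] [FiniteDimensional F V] in
theorem mem_perp {W : Submodule F V} {v : V} : v ∈ perp Q W ↔ ∀ w ∈ W, QuadraticMap.polar (⇑Q) w v = 0 :=
  Iff.rfl

omit [Fintype F] in
theorem split_perp {W : Submodule F V} (hW : (QuadraticMap.polarBilin (EvenType.res Q W)).Nondegenerate) :
    EvenType.Split Q W (perp Q W) := by
  have hsym : (pol Q).IsRefl := fun u v h => by
    show QuadraticMap.polar (⇑Q) v u = 0
    rw [QuadraticMap.polar_comm]; exact h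
  have hnd : ((pol Q).restrict W).Nondegenerate := hW
  have hc := LinearMap.BilinForm.isCompl_orthogonal_of_restrict_nondegenerate hsym hnd
  exact ⟨hc.sup_eq_top, hc.inf_eq_bot, fun a ha b hb => hb a ha⟩

/-- The isometries of a quadratic space. -/
abbrev Iso (Q : QuadraticForm F V) : Type _ := {g : V ≃ₗ[F] V // ∀ v, Q (g v) = Q v}

omit [Fintype F] in
theorem card_fibre {W : Submodule F V} (hW : (QuadraticMap.polarBilin (EvenType.res Q W)).Nondegenerate) :
    Nat.card {g : Iso Q // W.map (g.1 : V →ₗ[F] V) = W} =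
      isoCard (EvenType.res Q W) * isoCard (EvenType.res Q (perp Q W)) := by
  classical
  have hs := split_perp hW
  let e := Submodule.prodEquivOfIsCompl W (perp Q W) ⟨disjoint_iff.2 hs.inf, codisjoint_iff.2 hs.sup⟩
  have he : ∀ (a : W) (b : perp Q W), e (a, b) = (a : V) + b := fun a b => rfl
  have hQe : ∀ p : W × perp Q W, Q (e p) = EvenType.res Q W p.1 + EvenType.res Q _ p.2 := fun p => hs.quad p.1 p.2
  let mk : Iso (EvenType.res Q W) × Iso (EvenType.res Q (perp Q W)) →
      {g : Iso Q // W.map (g.1 : V →ₗ[F] V) = W} := fun p =>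
    ⟨⟨e.symm.trans ((p.1.1.prodCongr p.2.1).trans e), fun v => by
      obtain ⟨x, rfl⟩ := e.surjective v
      rw [LinearEquiv.trans_apply, LinearEquiv.trans_apply, e.symm_apply_apply, hQe, hQe]
      exact congrArg₂ (· + ·) (p.1.2 x.1) (p.2.2 x.2)⟩, by
      refine Submodule.eq_of_le_of_finrank_eq ?_ (LinearEquiv.finrank_map_eq _ _)
      rintro _ ⟨w, hw, rfl⟩
      show e ((p.1.1.prodCongr p.2.1) (e.symm w)) ∈ W
      rw [show e.symm w = (⟨w, hw⟩, 0) from e.symm_apply_eq.2 (by rw [he]; simp)]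
      show e (p.1.1 ⟨w, hw⟩, p.2.1 0) ∈ W
      rw [he, map_zero]
      simp⟩
  have happ : ∀ p (a : W) (b : perp Q W), (mk p).1.1 ((a : V) + b) = (p.1.1 a : V) + (p.2.1 b : V) := by
    intro p a b
    show e ((p.1.1.prodCongr p.2.1) (e.symm ((a : V) + b))) = _
    rw [← he, e.symm_apply_apply]
    rfl
  have hbij : Function.Bijective mk := by
    constructor
    · intro p p' h
      have h1 : ∀ v, (mk p).1.1 v = (mk p').1.1 v := fun v => by rw [h]
      refine Prod.ext (Subtype.ext (LinearEquiv.ext fun a => Subtype.ext ?_))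
        (Subtype.ext (LinearEquiv.ext fun b => Subtype.ext ?_))
      · simpa [happ] using (happ p a 0).symm.trans ((h1 _).trans (happ p' a 0))
      · simpa [happ] using (happ p 0 b).symm.trans ((h1 _).trans (happ p' 0 b))
    · rintro ⟨⟨g, hg⟩, hgW⟩
      have hB : ∀ u v, QuadraticMap.polar (⇑Q) (g u) (g v) = QuadraticMap.polar (⇑Q) u v := fun u v => by
        simp only [QuadraticMap.polar, ← map_add, hg]
      have h1 : ∀ w ∈ W, g w ∈ W := fun w hw => hgW ▸ Submodule.mem_map_of_mem hw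
      have h2 : ∀ b ∈ perp Q W, g b ∈ perp Q W := fun b hb => by
        rw [mem_perp] at hb ⊢
        intro w hw
        rw [← hgW] at hw
        obtain ⟨w', hw', rfl⟩ := hw
        exact (hB w' b).trans (hb w' hw')
      have ga : ∀ (U : Submodule F V), (∀ u ∈ U, g u ∈ U) → ∃ a : Iso (EvenType.res Q U), ∀ u, (a.1 u : V) = g u := by
        intro U hU
        let f : U →ₗ[F] U := (g : V →ₗ[F] V).restrict hU
        have hf : Function.Injective f := fun a b h => Subtype.ext (g.injective (congrArg Subtype.val h))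
        exact ⟨⟨LinearEquiv.ofBijective f ⟨hf, LinearMap.surjective_of_injective hf⟩, fun u => hg u⟩, fun u => rfl⟩
      obtain ⟨a, ha⟩ := ga W h1
      obtain ⟨b, hb⟩ := ga _ h2
      refine ⟨(a, b), Subtype.ext (Subtype.ext (LinearEquiv.ext fun v => ?_))⟩
      obtain ⟨⟨x, y⟩, rfl⟩ := e.surjective v
      rw [he, happ, ha, hb, ← map_add]
  rw [← Nat.card_congr (Equiv.ofBijective mk hbij), Nat.card_prod]
  rfl

/-- The space splits its isometry group over an orbit of non-degenerate subspaces. -/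
theorem card_orbit (hQ : (QuadraticMap.polarBilin Q).Nondegenerate) (P : Submodule F V → Prop) {W : Submodule F V}
    (hW : (QuadraticMap.polarBilin (EvenType.res Q W)).Nondegenerate)
    (horb : ∀ W', P W' ↔ ∃ φ : W ≃ₗ[F] W', ∀ w, EvenType.res Q W' (φ w) = EvenType.res Q W w) :
    isoCard Q = Nat.card {W' // P W'} * (isoCard (EvenType.res Q W) * isoCard (EvenType.res Q (perp Q W))) := by
  classical
  haveI : Finite V := Module.finite_of_finite F
  haveI : Finite (Submodule F V) := Finite.of_injective SetLike.coe SetLike.coe_injective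
  haveI : Finite (V ≃ₗ[F] V) := Finite.of_injective (fun g => (g : V → V)) DFunLike.coe_injective
  haveI := Fintype.ofFinite {W' // P W'}
  let f : Iso Q → {W' // P W'} := fun g => ⟨W.map (g.1 : V →ₗ[F] V), (horb _).2 ⟨g.1.submoduleMap W, fun w => g.2 w⟩⟩
  have hfib : ∀ W' : {W' // P W'}, Nat.card {g // f g = W'} =
      isoCard (EvenType.res Q W) * isoCard (EvenType.res Q (perp Q W)) := by
    intro W'
    rw [← card_fibre hW]
    obtain ⟨φ, hφ⟩ := (horb W'.1).1 W'.2
    obtain ⟨g, hg, hgW⟩ := witt_maps Q hQ W.subtype (W'.1.subtype ∘ₗ φ.toLinearMap) W.injective_subtype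
      (W'.1.injective_subtype.comp φ.injective) hφ
    have hmap : W.map (g : V →ₗ[F] V) = W'.1 := by
      refine Submodule.eq_of_le_of_finrank_eq ?_ (by rw [LinearEquiv.finrank_map_eq, φ.finrank_eq])
      rintro _ ⟨w, hw, rfl⟩
      show g (W.subtype ⟨w, hw⟩) ∈ _
      rw [hgW]
      exact (φ ⟨w, hw⟩).2
    have hg' : ∀ v, Q (g.symm v) = Q v := fun v => by rw [← hg (g.symm v), g.apply_symm_apply]
    refine Nat.card_congr
      { toFun := fun h => ⟨⟨h.1.1.trans g.symm, fun v => by rw [LinearEquiv.trans_apply, hg', h.1.2]⟩, ?_⟩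
        invFun := fun h => ⟨⟨h.1.1.trans g, fun v => by rw [LinearEquiv.trans_apply, hg, h.1.2]⟩, Subtype.ext ?_⟩
        left_inv := fun h => Subtype.ext (Subtype.ext (LinearEquiv.ext fun v => g.apply_symm_apply _))
        right_inv := fun h => Subtype.ext (Subtype.ext (LinearEquiv.ext fun v => g.symm_apply_apply _)) }
    · have h1 : W.map (h.1.1 : V →ₗ[F] V) = W'.1 := congrArg Subtype.val h.2
      show W.map ((g.symm : V →ₗ[F] V) ∘ₗ (h.1.1 : V →ₗ[F] V)) = W
      rw [Submodule.map_comp, h1, ← hmap, ← Submodule.map_comp]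
      simp
    · show W.map ((g : V →ₗ[F] V) ∘ₗ (h.1.1 : V →ₗ[F] V)) = W'.1
      rw [Submodule.map_comp, h.2, hmap]
  rw [show isoCard Q = Nat.card (Iso Q) from rfl, ← Nat.card_congr (Equiv.sigmaFiberEquiv f), Nat.card_sigma,
    Finset.sum_congr rfl fun W' _ => hfib W', Finset.sum_const, Finset.card_univ, Nat.card_eq_fintype_card,
    smul_eq_mul]

omit [Fintype F] [FiniteDimensional F V] in
theorem isoCard_smul {c : F} (hc : c ≠ 0) : isoCard (c • Q) = isoCard Q :=
  Nat.card_congr (Equiv.subtypeEquivRight fun g => forall_congr' fun v => by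
    simp [hc])

theorem isoCard_odd (h2 : (2 : F) ≠ 0) {m : ℕ} (hV : finrank F V = 2 * m + 1)
    (hQ : (QuadraticMap.polarBilin Q).Nondegenerate) :
    (isoCard Q : ℤ) = 2 * (Fintype.card F : ℤ) ^ (m ^ 2) *
      ∏ i ∈ Finset.range m, ((Fintype.card F : ℤ) ^ (2 * (i + 1)) - 1) := by
  obtain ⟨c, e, hc, he⟩ := exists_odd_equiv hV Q hQ
  rw [← isoCard_congr e (Q := c • qfOdd m F) (fun v => by rw [he, _root_.QuadraticMap.smul_apply, smul_eq_mul]),
    isoCard_smul hc, order_qfOdd h2]

/-- A prime dividing the number of non-degenerate `2M`-spaces of one type in odd dimension. -/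
theorem exists_exponent (hQ : (QuadraticMap.polarBilin Q).Nondegenerate) (h2 : (2 : F) ≠ 0) {d M r : ℕ}
    (hV : finrank F V = 2 * d + 1) (hM : 1 ≤ M) (hMd : M ≤ d) (hr : r.Prime) (hr2 : r ≠ 2)
    (hrq : ¬ r ∣ Fintype.card F) (b : Prop) (P : Submodule F V → Prop)
    (hP : ∀ W, P W ↔ finrank F W = 2 * M ∧ (QuadraticMap.polarBilin (EvenType.res Q W)).Nondegenerate ∧
      (EvenType.Plus (EvenType.res Q W) ↔ b))
    {W : Submodule F V} (hW : P W) (h : r ∣ Nat.card {W // P W}) :
    ∃ j, d - M < j ∧ j ≤ d ∧ r ∣ Fintype.card F ^ (2 * j) - 1 := by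
  obtain ⟨hWd, hWn, hWb⟩ := (hP W).1 hW
  obtain ⟨a, rfl⟩ : ∃ a, M = a + 1 := ⟨M - 1, by omega⟩
  have hc := card_orbit hQ P hWn fun W' => by
    constructor
    · intro hW'
      obtain ⟨h1, h2, h3⟩ := (hP W').1 hW'
      exact EvenType.iso_of_type hWn h2 hWd h1 (hWb.trans h3.symm)
    · rintro ⟨φ, hφ⟩
      have hn' : (QuadraticMap.polarBilin (EvenType.res Q W')).Nondegenerate := by
        refine nondegenerate_of_separatingLeft _ fun u hu => φ.symm.map_eq_zero_iff.1 (hWn.1 _ fun z => ?_)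
        have := hu (φ z)
        simp only [QuadraticMap.polarBilin_apply_apply, QuadraticMap.polar] at this ⊢
        rw [← hφ, ← hφ, ← hφ, map_add, φ.apply_symm_apply]
        exact this
      refine (hP W').2 ⟨φ.finrank_eq.symm.trans hWd, hn', ?_⟩
      rw [← hWb]
      exact ⟨fun hp => hp.map φ.symm fun v => by rw [← hφ, φ.apply_symm_apply], fun hp => hp.map φ hφ⟩
  have hs := split_perp hWn
  have hperp : finrank F (perp Q W) = 2 * (d - (a + 1)) + 1 := by have := hs.dim; omega
  have hcz := congrArg (Nat.cast : ℕ → ℤ) hc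
  rw [Nat.cast_mul, Nat.cast_mul, isoCard_odd h2 hV hQ, isoCard_odd h2 hperp (hs.symm.nondeg_left hQ),
    show (∏ i ∈ Finset.range d, ((Fintype.card F : ℤ) ^ (2 * (i + 1)) - 1)) =
      (∏ i ∈ Finset.range (d - (a + 1)), ((Fintype.card F : ℤ) ^ (2 * (i + 1)) - 1)) *
        ∏ i ∈ Finset.range (a + 1), ((Fintype.card F : ℤ) ^ (2 * (d - (a + 1) + i + 1)) - 1) by
      rw [← Finset.prod_range_add, Nat.sub_add_cancel hMd]] at hcz
  set A := ∏ i ∈ Finset.range (d - (a + 1)), ((Fintype.card F : ℤ) ^ (2 * (i + 1)) - 1)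
  set q : ℤ := (Fintype.card F : ℤ)
  have hq : 1 < q := Nat.one_lt_cast.2 (Fintype.one_lt_card (α := F))
  have hA : A ≠ 0 := Finset.prod_ne_zero_iff.2 fun i _ => by
    exact sub_ne_zero.2 (one_lt_pow₀ hq (show 2 * (i + 1) ≠ 0 by omega)).ne'
  set S := ∏ i ∈ Finset.range (a + 1), (q ^ (2 * (d - (a + 1) + i + 1)) - 1)
  have hrP : Prime (r : ℤ) := Nat.prime_iff_prime_int.1 hr
  have hkey : (r : ℤ) ∣ q ^ (d ^ 2) * S := by
    obtain ⟨k, hk⟩ := h
    rw [hk, Nat.cast_mul] at hcz
    refine ⟨(k : ℤ) * (isoCard (EvenType.res Q W) : ℤ) * q ^ ((d - (a + 1)) ^ 2),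
      mul_left_cancel₀ (mul_ne_zero (two_ne_zero (α := ℤ)) hA) ?_⟩
    linear_combination hcz
  rcases hrP.dvd_or_dvd hkey with h' | h'
  · exact absurd (Int.natCast_dvd_natCast.1 (hrP.dvd_of_dvd_pow h')) hrq
  · obtain ⟨i, hi, hd⟩ := hrP.exists_mem_finset_dvd h'
    refine ⟨d - (a + 1) + i + 1, by omega, by have := Finset.mem_range.1 hi; omega, Int.natCast_dvd_natCast.1 ?_⟩
    rw [Nat.cast_sub (Nat.one_le_pow _ _ Fintype.card_pos)]
    push_cast
    exact hd

end Cfsg.Agent.OrthNondegCount
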