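import Cfsg.Agent.Lib.Classical.OrthGenRefl
import Cfsg.Agent.Lib.Classical.OrthModels

/-!
The spinor norm in every dimension (restricted from `Q ⊕ H³`, where it is the sign character), and
`Ω(Q)` as the common kernel of the Dickson invariant and the spinor norm.
-/

set_option autoImplicit false
set_option linter.unusedSectionVars false
set_option quotPrecheck false

namespace Cfsg.Agent.Classical.OrthAut

open Matrix Module
open scoped commutatorElement

variable {F : Type*} [Field F] {ι κ : Type} [Fintype ι] [DecidableEq ι] [Fintype κ] [DecidableEq κ]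
  {Q : QuadraticForm F (ι → F)} {R : QuadraticForm F (κ → F)}

/-! ### Orthogonal sums -/

/-- The orthogonal sum of two forms. -/
noncomputable def sumQ (Q : QuadraticForm F (ι → F)) (R : QuadraticForm F (κ → F)) :
    QuadraticForm F (ι ⊕ κ → F) :=
  Q.comp (LinearMap.funLeft F F Sum.inl) + R.comp (LinearMap.funLeft F F Sum.inr)

theorem sumQ_apply (v : ι ⊕ κ → F) : sumQ Q R v = Q (v ∘ Sum.inl) + R (v ∘ Sum.inr) := rfl

theorem coe_sumQ : ⇑(sumQ Q R) = fun v : ι ⊕ κ → F => Q (v ∘ Sum.inl) + R (v ∘ Sum.inr) := rfl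

theorem polar_sumQ (x y : ι ⊕ κ → F) : QuadraticMap.polar ⇑(sumQ Q R) x y =
    QuadraticMap.polar ⇑Q (x ∘ Sum.inl) (y ∘ Sum.inl) + QuadraticMap.polar ⇑R (x ∘ Sum.inr) (y ∘ Sum.inr) := by
  simp only [QuadraticMap.polar, sumQ_apply, show (x + y) ∘ Sum.inl = x ∘ Sum.inl + y ∘ Sum.inl from rfl,
    show (x + y) ∘ Sum.inr = x ∘ Sum.inr + y ∘ Sum.inr from rfl]
  ring

theorem nondegenerate_sumQ (hQ : (QuadraticMap.polarBilin Q).Nondegenerate)
    (hR : (QuadraticMap.polarBilin R).Nondegenerate) : (QuadraticMap.polarBilin (sumQ Q R)).Nondegenerate := by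
  refine nondegenerate_of_separatingLeft _ fun x hx => ?_
  have h1 : x ∘ Sum.inl = 0 := eq_zero_of_polar hQ fun z => by
    have h := hx (Sum.elim z 0)
    rw [QuadraticMap.polarBilin_apply_apply, polar_sumQ] at h
    simpa using h
  have h2 : x ∘ Sum.inr = 0 := eq_zero_of_polar hR fun z => by
    have h := hx (Sum.elim 0 z)
    rw [QuadraticMap.polarBilin_apply_apply, polar_sumQ] at h
    simpa using h
  funext i
  rcases i with i | i
  · exact congrFun h1 i
  · exact congrFun h2 i

/-- An isometry of the first summand, extended by the identity. -/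
noncomputable def embL (Q : QuadraticForm F (ι → F)) (R : QuadraticForm F (κ → F)) :
    isometryGroup F ⇑Q →* isometryGroup F ⇑(sumQ Q R) where
  toFun g := ⟨⟨Matrix.fromBlocks (ogVal g) 0 0 1, Matrix.fromBlocks (ogVal g⁻¹) 0 0 1,
      by rw [Matrix.fromBlocks_multiply, ← ogVal_mul, mul_inv_cancel, ogVal_one]; simp,
      by rw [Matrix.fromBlocks_multiply, ← ogVal_mul, inv_mul_cancel, ogVal_one]; simp⟩,
    mem_isometryGroup.2 fun v => by
      show sumQ Q R (Matrix.fromBlocks (ogVal g) 0 0 1 *ᵥ v) = _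
      rw [sumQ_apply, sumQ_apply, Matrix.fromBlocks_mulVec]
      simp [ogVal_quad]⟩
  map_one' := by
    refine ogVal_ext ?_
    show Matrix.fromBlocks (ogVal (1 : isometryGroup F ⇑Q)) 0 0 1 = 1
    rw [ogVal_one, Matrix.fromBlocks_one]
  map_mul' g h := by
    refine ogVal_ext ?_
    show Matrix.fromBlocks (ogVal (g * h)) 0 0 1 =
      Matrix.fromBlocks (ogVal g) 0 0 1 * Matrix.fromBlocks (ogVal h) 0 0 1
    rw [Matrix.fromBlocks_multiply, ogVal_mul]; simp

theorem embL_val (g : isometryGroup F ⇑Q) : ogVal (embL Q R g) = Matrix.fromBlocks (ogVal g) 0 0 1 := rfl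

/-- An isometry of the second summand, extended by the identity. -/
noncomputable def embR (Q : QuadraticForm F (ι → F)) (R : QuadraticForm F (κ → F)) :
    isometryGroup F ⇑R →* isometryGroup F ⇑(sumQ Q R) where
  toFun g := ⟨⟨Matrix.fromBlocks 1 0 0 (ogVal g), Matrix.fromBlocks 1 0 0 (ogVal g⁻¹),
      by rw [Matrix.fromBlocks_multiply, ← ogVal_mul, mul_inv_cancel, ogVal_one]; simp,
      by rw [Matrix.fromBlocks_multiply, ← ogVal_mul, inv_mul_cancel, ogVal_one]; simp⟩,
    mem_isometryGroup.2 fun v => by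
      show sumQ Q R (Matrix.fromBlocks 1 0 0 (ogVal g) *ᵥ v) = _
      rw [sumQ_apply, sumQ_apply, Matrix.fromBlocks_mulVec]
      simp [ogVal_quad]⟩
  map_one' := by
    refine ogVal_ext ?_
    show Matrix.fromBlocks 1 0 0 (ogVal (1 : isometryGroup F ⇑R)) = 1
    rw [ogVal_one, Matrix.fromBlocks_one]
  map_mul' g h := by
    refine ogVal_ext ?_
    show Matrix.fromBlocks 1 0 0 (ogVal (g * h)) =
      Matrix.fromBlocks 1 0 0 (ogVal g) * Matrix.fromBlocks 1 0 0 (ogVal h)
    rw [Matrix.fromBlocks_multiply, ogVal_mul]; simp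

theorem embR_val (g : isometryGroup F ⇑R) : ogVal (embR Q R g) = Matrix.fromBlocks 1 0 0 (ogVal g) := rfl

theorem quad_elim_left (v : ι → F) : sumQ Q R (Sum.elim v 0) = Q v := by
  rw [sumQ_apply]; simp

theorem embL_refl {v : ι → F} (hv : Q v ≠ 0) :
    embL Q R (refl hv) = refl (Q := sumQ Q R) (v := Sum.elim v 0) (by rwa [quad_elim_left]) := by
  refine ogVal_ext (Matrix.ext_iff_mulVec.2 fun x => ?_)
  rw [embL_val, refl_apply, quad_elim_left, polar_sumQ, Matrix.fromBlocks_mulVec]
  simp only [Sum.elim_comp_inl, Sum.elim_comp_inr, Matrix.zero_mulVec, add_zero, zero_add,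
    Matrix.one_mulVec, QuadraticMap.polar_zero_left, refl_apply]
  funext i
  rcases i with i | i <;> simp

/-! ### The spinor norm -/

/-- The square class as a sign. -/
noncomputable def sqSign (c : F) : ℤˣ := by classical exact if IsSquare c then 1 else -1

theorem sqSign_of_isSquare {c : F} (h : IsSquare c) : sqSign c = 1 := by simp [sqSign, h]

theorem sqSign_of_not {c : F} (h : ¬ IsSquare c) : sqSign c = -1 := by simp [sqSign, h]

theorem sqSign_eq_neg_one_iff {c : F} : sqSign c = -1 ↔ ¬ IsSquare c := by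
  by_cases h : IsSquare c <;> simp [sqSign, h]

theorem isSquare_div_of_sqSign [Fintype F] {a b : F} (h : sqSign a = sqSign b) :
    IsSquare (a / b) := by
  rw [div_eq_mul_inv]
  by_cases ha : IsSquare a
  · rw [sqSign_of_isSquare ha] at h
    by_cases hb : IsSquare b
    · exact ha.mul hb.inv
    · rw [sqSign_of_not hb] at h; exact absurd h (by decide)
  · rw [sqSign_of_not ha] at h
    have hb : ¬ IsSquare b := sqSign_eq_neg_one_iff.1 h.symm
    by_cases h2 : (2 : F) = 0
    · haveI : CharP F 2 := CharTwo.of_one_ne_zero_of_two_eq_zero one_ne_zero h2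
      exact FiniteField.isSquare_of_char_two (ringChar.eq F 2) _
    · exact isSquare_of_two_nonsquares h2 ha fun h' => hb (by simpa using h'.inv)

theorem sqSign_mul [Fintype F] {a b : F} (ha0 : a ≠ 0) (hb0 : b ≠ 0) :
    sqSign (a * b) = sqSign a * sqSign b := by
  by_cases ha : IsSquare a <;> by_cases hb : IsSquare b
  · rw [sqSign_of_isSquare (ha.mul hb), sqSign_of_isSquare ha, sqSign_of_isSquare hb, one_mul]
  · rw [sqSign_of_not fun h => hb (by simpa [ha0] using ha.inv.mul h), sqSign_of_isSquare ha,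
      sqSign_of_not hb, one_mul]
  · rw [sqSign_of_not fun h => ha (by simpa [hb0, mul_assoc] using h.mul hb.inv), sqSign_of_isSquare hb,
      sqSign_of_not ha, mul_one]
  · have h : IsSquare (a * b) := by
      have := isSquare_div_of_sqSign (a := a) (b := b⁻¹)
        (by rw [sqSign_of_not ha, sqSign_of_not fun h => hb (by simpa using h.inv)])
      simpa using this
    rw [sqSign_of_isSquare h, sqSign_of_not ha, sqSign_of_not hb, Int.units_mul_self]

local notation "B" => QuadraticMap.polar ⇑Q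
local notation "OG" => isometryGroup F ⇑Q

variable [Fintype F]

variable (F) in
/-- A vector of value one in `H³`. -/
noncomputable def oneVec : Fin 3 ⊕ Fin 3 → F := Pi.single (Sum.inl 0) 1 + Pi.single (Sum.inr 0) 1

theorem quad_oneVec : qfPlus 3 F (oneVec F) = 1 := by
  simp [qfPlus_apply, quadFormPlus, oneVec, Fin.sum_univ_three]

theorem quad_elim_oneVec : sumQ Q (qfPlus 3 F) (Sum.elim 0 (oneVec F)) = 1 := by
  rw [sumQ_apply]; simp [quad_oneVec]

/-- The spinor norm, as a sign. -/
noncomputable def spin (g : isometryGroup F ⇑Q) : ℤˣ := by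
  classical
  exact if (2 : F) = 0 then 1 else theta (sumQ Q (qfPlus 3 F)) (embL Q (qfPlus 3 F) g) *
    (if theta (sumQ Q (qfPlus 3 F)) (refl (Q := sumQ Q (qfPlus 3 F)) (v := Sum.elim 0 (oneVec F))
      (by rw [quad_elim_oneVec]; exact one_ne_zero)) = 1 then 1 else dick g)

variable (hQ : (QuadraticMap.polarBilin Q).Nondegenerate)
include hQ

omit [DecidableEq κ] [Fintype κ] in
theorem tri_big : Tri (sumQ Q (qfPlus 3 F)) := by
  refine tri_of_injection _ (le_refl 3) (fun k => Sum.inr (Sum.inl k)) (Sum.inr_injective.comp Sum.inl_injective)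
    fun c => ?_
  classical
  have h1 : (∑ k : Fin 3, c k • (Pi.single (Sum.inr (Sum.inl k)) 1 : ι ⊕ (Fin 3 ⊕ Fin 3) → F)) ∘ Sum.inl = 0 := by
    funext i; simp [Finset.sum_apply]
  rw [sumQ_apply, h1, QuadraticMap.map_zero, zero_add]
  simp [qfPlus_apply, quadFormPlus, Finset.sum_apply, Pi.single_apply]

theorem genQ_odd (h2 : (2 : F) ≠ 0) : GenQ F ι :=
  Or.inl ⟨-1, neg_ne_zero.2 one_ne_zero, fun h => h2 (by linear_combination -h)⟩

/-- The spinor norm of a reflection is the square class of the value. -/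
theorem spin_refl {v : ι → F} (hv : Q v ≠ 0) : spin (refl hv) = sqSign (Q v) := by
  classical
  by_cases h2 : (2 : F) = 0
  · haveI : CharP F 2 := CharTwo.of_one_ne_zero_of_two_eq_zero one_ne_zero h2
    rw [spin, if_pos h2, sqSign_of_isSquare (FiniteField.isSquare_of_char_two (ringChar.eq F 2) _)]
  set Qb := sumQ Q (qfPlus 3 F)
  have hQb : (QuadraticMap.polarBilin Qb).Nondegenerate := nondegenerate_sumQ hQ (nondegenerate_qfPlus 3)
  have cls : ∀ {x y} (hx : Qb x ≠ 0) (hy : Qb y ≠ 0), sqSign (Qb x) = sqSign (Qb y) →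
      theta Qb (refl hy) = theta Qb (refl hx) := by
    intro x y hx hy hxy
    obtain ⟨k, hk⟩ := refl_class h2 hQb hx hy (isSquare_div_of_sqSign hxy)
    rw [hk, map_mul, map_mul, map_inv, mul_right_comm, mul_inv_cancel, one_mul]
  obtain ⟨ε, a, b, ha, hb, hε, ha1, hb1, hab⟩ := exists_two_refl h2 hQb (tri_big hQ)
  have he : theta Qb (refl (Q := Qb) (v := Sum.elim 0 (oneVec F))
      (by rw [quad_elim_oneVec]; exact one_ne_zero)) = theta Qb (refl ha) :=
    cls _ _ (by rw [ha1, quad_elim_oneVec])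
  rw [spin, if_neg h2, embL_refl, he, dick_refl hQ hv]
  by_cases hs : IsSquare (Q v)
  · rw [cls ha _ (by rw [ha1, quad_elim_left, sqSign_of_isSquare hs, sqSign_of_isSquare IsSquare.one]),
      sqSign_of_isSquare hs]
    rcases Int.units_eq_one_or (theta Qb (refl ha)) with e | e <;> simp [e]
  · rw [cls hb _ (by rw [hb1, quad_elim_left, sqSign_of_not hs, sqSign_of_not hε]), sqSign_of_not hs]
    rcases Int.units_eq_one_or (theta Qb (refl ha)) with e | e <;> rw [e] at hab ⊢ <;>
      rcases Int.units_eq_one_or (theta Qb (refl hb)) with e' | e' <;> rw [e'] at hab ⊢ <;>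
      simp_all

theorem spin_mul (g h : OG) : spin (g * h) = spin g * spin h := by
  classical
  by_cases h2 : (2 : F) = 0
  · simp [spin, h2]
  simp only [spin, if_neg h2, map_mul]
  split_ifs
  · simp
  · rw [dick_mul_gen hQ (genQ_odd hQ h2), mul_mul_mul_comm]

/-- The spinor norm as a homomorphism. -/
noncomputable def spinHom : isometryGroup F ⇑Q →* ℤˣ := MonoidHom.mk' spin (spin_mul hQ)

theorem spinHom_apply (g : OG) : spinHom hQ g = spin g := rfl

theorem spin_two (h2 : (2 : F) = 0) (g : OG) : spin g = 1 := by simp [spin, h2]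

variable (hG : GenQ F ι)
include hG

/-- The two invariants. -/
noncomputable def invHom : isometryGroup F ⇑Q →* ℤˣ × ℤˣ := (dickGen hQ hG).prod (spinHom hQ)

theorem invHom_apply (g : OG) : invHom hQ hG g = (dick g, spin g) := rfl

theorem invHom_refl {v : ι → F} (hv : Q v ≠ 0) : invHom hQ hG (refl hv) = (-1, sqSign (Q v)) := by
  rw [invHom_apply, dick_refl hQ hv, spin_refl hQ hv]

/-- `Ω` is the common kernel. -/
theorem omega_eq_ker : Omega F ⇑Q = (invHom hQ hG).ker := by
  classical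
  refine le_antisymm (Abelianization.commutator_subset_ker _) fun g hg => ?_
  haveI : (Omega F ⇑Q).Normal := inferInstance
  set q := QuotientGroup.mk' (Omega F ⇑Q)
  letI : CommGroup (OG ⧸ Omega F ⇑Q) :=
    { (inferInstance : Group _) with
      mul_comm := by
        rintro ⟨x⟩ ⟨y⟩
        refine (QuotientGroup.eq (s := Omega F ⇑Q)).2 ?_
        have := Subgroup.commutator_mem_commutator (Subgroup.mem_top y⁻¹) (Subgroup.mem_top x⁻¹)
        rw [commutatorElement_def] at this
        simpa [Omega, commutator_def, mul_assoc] using this }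
  have same : ∀ {v w : ι → F} (hv : Q v ≠ 0) (hw : Q w ≠ 0), sqSign (Q v) = sqSign (Q w) →
      q (refl hw) = q (refl hv) := by
    intro v w hv hw h
    obtain ⟨c, hc⟩ := isSquare_div_of_sqSign h
    have hcw : Q (c • w) = Q v := by
      rw [QuadraticMap.map_smul, smul_eq_mul, ← hc, div_mul_cancel₀ _ hw]
    have hv0 : v ≠ 0 := fun h0 => hv (by rw [h0, QuadraticMap.map_zero])
    obtain ⟨M, hMd, hM, hMu⟩ := exists_isometry_map hQ (LinearMap.toSpanSingleton F (ι → F) v)
      (LinearMap.toSpanSingleton F (ι → F) (c • w)) (fun a b h => smul_left_injective F hv0 h)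
      (fun a b h => smul_left_injective F
        (fun h0 => hv (by rw [← hcw, h0, QuadraticMap.map_zero])) h)
      (fun u => by simp only [LinearMap.toSpanSingleton_apply, QuadraticMap.map_smul] at *; rw [hcw])
    set k : OG := mkIsometry M hMd hM
    have hkv : ogVal k *ᵥ v = c • w := by
      show M *ᵥ v = _
      simpa using hMu 1
    rw [← (refl_congr hw (show Q (ogVal k *ᵥ v) ≠ 0 by rw [ogVal_quad]; exact hv) hkv).symm,
      ← refl_conj k hv, map_mul, map_mul, map_inv, mul_right_comm, mul_inv_cancel, one_mul]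
  have rep : ∀ s : ℤˣ, ∃ A : OG ⧸ Omega F ⇑Q, A * A = 1 ∧
      ∀ {v : ι → F} (hv : Q v ≠ 0), sqSign (Q v) = s → q (refl hv) = A := by
    intro s
    by_cases he : ∃ (v : ι → F), Q v ≠ 0 ∧ sqSign (Q v) = s
    · obtain ⟨v, hv, hs⟩ := he
      exact ⟨q (refl hv), by rw [← map_mul, refl_mul_self, map_one],
        fun hw h => same hv hw (hs.trans h.symm)⟩
    · exact ⟨1, one_mul 1, fun hv h => absurd ⟨_, hv, h⟩ he⟩
  obtain ⟨A, hA2, hA⟩ := rep 1
  obtain ⟨C, hC2, hC⟩ := rep (-1)
  have hA3 : ∀ x, A * (A * x) = x := fun x => by rw [← mul_assoc, hA2, one_mul]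
  have hC3 : ∀ x, C * (C * x) = x := fun x => by rw [← mul_assoc, hC2, one_mul]
  let ψ : ℤˣ × ℤˣ → OG ⧸ Omega F ⇑Q := fun p => (if p.1 = -1 then A else 1) * if p.2 = -1 then A * C else 1
  have hψ : ∀ p r : ℤˣ × ℤˣ, ψ (p * r) = ψ p * ψ r := by
    rintro ⟨a, b⟩ ⟨a', b'⟩
    rcases Int.units_eq_one_or a with rfl | rfl <;> rcases Int.units_eq_one_or b with rfl | rfl <;>
      rcases Int.units_eq_one_or a' with rfl | rfl <;> rcases Int.units_eq_one_or b' with rfl | rfl <;>
      simp [ψ, hA2, hC2, hA3, hC3, mul_comm, mul_left_comm]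
  have key : ∀ x ∈ reflGroup Q, q x = ψ (invHom hQ hG x) := by
    intro x hx
    induction hx using Subgroup.closure_induction with
    | mem x hx =>
      obtain ⟨v, hv, rfl⟩ := hx
      rw [invHom_refl]
      rcases Int.units_eq_one_or (sqSign (Q v)) with e | e
      · rw [hA hv e, e]; simp [ψ]
      · rw [hC hv e, e]; simp [ψ, hA3]
    | one => simp [ψ]
    | mul a b _ _ ha hb => rw [map_mul, map_mul, ha, hb, hψ]
    | inv a _ ha =>
      have h1 : ψ 1 = 1 := by simp [ψ]
      rw [map_inv, ha, map_inv, inv_eq_iff_mul_eq_one, ← hψ, mul_inv_cancel, h1]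
  have h := key g (by rw [reflGroup_eq_top_gen hQ hG]; trivial)
  rw [show invHom hQ hG g = 1 from hg] at h
  refine (QuotientGroup.eq_one_iff g).1 ?_
  show q g = 1
  rw [h]; simp [ψ]

/-- Membership of `Ω`. -/
theorem mem_omega_gen (g : OG) : g ∈ Omega F ⇑Q ↔ dick g = 1 ∧ spin g = 1 := by
  rw [omega_eq_ker hQ hG, MonoidHom.mem_ker, invHom_apply, Prod.mk_eq_one]

omit hG in
/-- A non-degenerate subspace of dimension at least two takes both classes of values. -/
theorem exists_value_in (h2 : (2 : F) ≠ 0) {W : Submodule F (ι → F)}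
    (hW : ∀ w ∈ W, w ≠ 0 → ∃ u ∈ W, B w u ≠ 0) (hd : 2 ≤ finrank F W) (c : F) :
    ∃ v ∈ W, Q v = c := by
  classical
  have aniso : ∀ U : Submodule F (ι → F), (∃ x ∈ U, ∃ y ∈ U, B x y ≠ 0) → ∃ v ∈ U, Q v ≠ 0 := by
    rintro U ⟨x, hx, y, hy, hxy⟩
    by_contra h
    push Not at h
    exact hxy (by rw [QuadraticMap.polar, h _ (add_mem hx hy), h _ hx, h _ hy]; simp)
  obtain ⟨w, hw, hw0⟩ := Submodule.exists_mem_ne_zero_of_ne_bot (p := W) fun e => by
    rw [e, finrank_bot] at hd; omega
  obtain ⟨u, hu, hwu⟩ := hW w hw hw0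
  obtain ⟨a, ha, ha0⟩ := aniso W ⟨w, hw, u, hu, hwu⟩
  set L : (ι → F) →ₗ[F] F := QuadraticMap.polarBilin Q a
  have hLa : L a ≠ 0 := by
    show B a a ≠ 0
    rw [polar_self2]; exact mul_ne_zero h2 ha0
  obtain ⟨z, hz, hz0⟩ := Submodule.exists_mem_ne_zero_of_ne_bot (p := W ⊓ LinearMap.ker L) fun e => by
    have hle : W ≤ Submodule.span F {a} := fun x hx => by
      have h1 : x - (L x / L a) • a ∈ W ⊓ LinearMap.ker L := ⟨sub_mem hx (W.smul_mem _ ha), by
        rw [SetLike.mem_coe, LinearMap.mem_ker, map_sub, map_smul, smul_eq_mul, div_mul_cancel₀ _ hLa, sub_self]⟩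
      rw [e, Submodule.mem_bot, sub_eq_zero] at h1
      exact h1 ▸ Submodule.smul_mem _ _ (Submodule.mem_span_singleton_self a)
    have := (Submodule.finrank_mono hle).trans (finrank_span_le_card ({a} : Set (ι → F)))
    simp at this
    omega
  obtain ⟨y, hy, hzy⟩ := hW z hz.1 hz0
  have hay : B a z = 0 := hz.2
  obtain ⟨b, hb, hb0⟩ := aniso (W ⊓ LinearMap.ker L) ⟨z, hz, y - (L y / L a) • a,
    ⟨sub_mem hy (W.smul_mem _ ha), by
      rw [SetLike.mem_coe, LinearMap.mem_ker, map_sub, map_smul, smul_eq_mul, div_mul_cancel₀ _ hLa, sub_self]⟩,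
    by rw [QuadraticMap.polar_sub_right, QuadraticMap.polar_smul_right, QuadraticMap.polar_comm _ z a, hay,
      smul_zero, sub_zero]; exact hzy⟩
  have hodd : Fintype.card F % 2 = 1 := by
    refine FiniteField.odd_card_of_char_ne_two fun hc => h2 ?_
    haveI := ringChar.of_eq hc
    exact CharTwo.two_eq_zero
  obtain ⟨s, t, hst⟩ := FiniteField.exists_root_sum_quadratic (f := Polynomial.C (Q a) * Polynomial.X ^ 2)
    (g := Polynomial.C (Q b) * Polynomial.X ^ 2 - Polynomial.C c)
    (by rw [Polynomial.degree_C_mul_X_pow _ ha0]; rfl)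
    (by
      rw [Polynomial.degree_sub_eq_left_of_degree_lt]
      · rw [Polynomial.degree_C_mul_X_pow _ hb0]; rfl
      · rw [Polynomial.degree_C_mul_X_pow _ hb0]
        exact lt_of_le_of_lt Polynomial.degree_C_le (by decide)) hodd
  simp at hst
  refine ⟨s • a + t • b, add_mem (W.smul_mem _ ha) (W.smul_mem _ hb.1), ?_⟩
  rw [quad_add, QuadraticMap.map_smul, QuadraticMap.map_smul, QuadraticMap.polar_smul_left,
    QuadraticMap.polar_smul_right, show B a b = 0 from hb.2]
  simp only [smul_eq_mul, mul_zero, add_zero]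
  linear_combination hst

omit hG in
theorem nondeg_top : ∀ w ∈ (⊤ : Submodule F (ι → F)), w ≠ 0 → ∃ u ∈ (⊤ : Submodule F (ι → F)), B w u ≠ 0 := by
  intro w _ hw
  by_contra h
  push Not at h
  exact hw (eq_zero_of_polar hQ fun z => h z trivial)

omit hG in
theorem exists_anisotropic (hn : 1 ≤ Fintype.card ι) : ∃ v, Q v ≠ 0 := by
  by_contra h
  push Not at h
  haveI : Nonempty ι := Fintype.card_pos_iff.1 hn
  have h1 : (Pi.single (Classical.arbitrary ι) (1 : F)) = 0 := eq_zero_of_polar hQ fun z => by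
    rw [QuadraticMap.polar, h, h, h]; simp
  simpa using congrFun h1 (Classical.arbitrary ι)

theorem invHom_surjective (h2 : (2 : F) ≠ 0) (hn : 2 ≤ Fintype.card ι) :
    Function.Surjective (invHom hQ hG) := by
  have hd : 2 ≤ finrank F (⊤ : Submodule F (ι → F)) := by rwa [finrank_top, Module.finrank_pi]
  obtain ⟨ε, hε⟩ := FiniteField.exists_nonsquare (F := F)
    (fun hc => h2 (by haveI := ringChar.of_eq hc; exact CharTwo.two_eq_zero))
  obtain ⟨v, -, hv⟩ := exists_value_in hQ h2 (nondeg_top hQ) hd 1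
  obtain ⟨w, -, hw⟩ := exists_value_in hQ h2 (nondeg_top hQ) hd ε
  have hv0 : Q v ≠ 0 := by rw [hv]; exact one_ne_zero
  have hw0 : Q w ≠ 0 := by rw [hw]; exact fun h0 => hε (h0 ▸ IsSquare.zero)
  rintro ⟨s, t⟩
  rcases Int.units_eq_one_or s with rfl | rfl <;> rcases Int.units_eq_one_or t with rfl | rfl
  · exact ⟨1, map_one _⟩
  · exact ⟨refl hv0 * refl hw0, by
      rw [map_mul, invHom_refl, invHom_refl, hv, hw, sqSign_of_isSquare IsSquare.one, sqSign_of_not hε]; simp⟩
  · exact ⟨refl hv0, by rw [invHom_refl, hv, sqSign_of_isSquare IsSquare.one]⟩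
  · exact ⟨refl hw0, by rw [invHom_refl, hw, sqSign_of_not hε]⟩

theorem index_omega_odd (h2 : (2 : F) ≠ 0) (hn : 2 ≤ Fintype.card ι) : (Omega F ⇑Q).index = 4 := by
  rw [omega_eq_ker hQ hG, Subgroup.index_ker, MonoidHom.range_eq_top.2 (invHom_surjective hQ hG h2 hn),
    Subgroup.card_top, Nat.card_prod, Nat.card_eq_fintype_card]
  simp

theorem index_omega_two (h2 : (2 : F) = 0) (hn : 1 ≤ Fintype.card ι) : (Omega F ⇑Q).index = 2 := by
  have : Omega F ⇑Q = (dickGen hQ hG).ker := by
    ext g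
    rw [mem_omega_gen hQ hG, spin_two hQ h2, MonoidHom.mem_ker]
    exact and_iff_left rfl
  obtain ⟨v, hv⟩ := exists_anisotropic hQ hn
  have hs : Function.Surjective (dickGen hQ hG) := fun s => by
    rcases Int.units_eq_one_or s with rfl | rfl
    · exact ⟨1, map_one _⟩
    · exact ⟨refl hv, dick_refl hQ hv⟩
  rw [this, Subgroup.index_ker, MonoidHom.range_eq_top.2 hs, Subgroup.card_top, Nat.card_eq_fintype_card]
  simp

end Cfsg.Agent.Classical.OrthAut
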