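import Cfsg.Agent.Lib.Classical.OrthSimple

/-!
Reflections in every characteristic: they generate `O(Q)`, the parity of `rank (g - 1)` is a
homomorphism (the Dickson invariant), and in characteristic two `Ω(Q)` is its kernel.
-/

set_option autoImplicit false
set_option linter.unusedSectionVars false
set_option quotPrecheck false

namespace Cfsg.Agent.Classical.OrthAut

open Matrix
open scoped commutatorElement

variable {F : Type*} [Field F] {ι : Type} [Fintype ι] [DecidableEq ι] {Q : QuadraticForm F (ι → F)}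

local notation "Mn" => Matrix ι ι F
local notation "B" => QuadraticMap.polar ⇑Q
local notation "OG" => isometryGroup F ⇑Q

/-- `g - 1`. -/
def moveLin (g : isometryGroup F ⇑Q) : (ι → F) →ₗ[F] (ι → F) :=
  Matrix.mulVecLin (ogVal g) - LinearMap.id

theorem moveLin_apply (g : OG) (x : ι → F) : moveLin g x = ogVal g *ᵥ x - x := rfl

/-- The fixed vectors. -/
def fixSub (g : isometryGroup F ⇑Q) : Submodule F (ι → F) := LinearMap.ker (moveLin g)

theorem mem_fixSub {g : OG} {x : ι → F} : x ∈ fixSub g ↔ ogVal g *ᵥ x = x := by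
  rw [fixSub, LinearMap.mem_ker, moveLin_apply, sub_eq_zero]

/-- The Dickson invariant: the parity of `rank (g - 1)`. -/
noncomputable def dick (g : isometryGroup F ⇑Q) : ℤˣ :=
  (-1) ^ (Fintype.card ι + Module.finrank F (fixSub g))

theorem dick_one : dick (1 : OG) = 1 := by
  have h : fixSub (1 : OG) = ⊤ := eq_top_iff.2 fun x _ => mem_fixSub.2 (by rw [ogVal_one, Matrix.one_mulVec])
  rw [dick, h, finrank_top, Module.finrank_pi, ← two_mul, pow_mul, Int.units_sq, one_pow]

theorem polar_move_fix (g : OG) (x : ι → F) {z : ι → F} (hz : z ∈ fixSub g) : B (moveLin g x) z = 0 := by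
  rw [moveLin_apply, QuadraticMap.polar_sub_left]
  conv_lhs => arg 1; rw [← mem_fixSub.1 hz, isometry_polar (ogVal_quad g)]
  exact sub_self _

variable (hQ : (QuadraticMap.polarBilin Q).Nondegenerate)
include hQ

/-- The moved vectors are the orthogonal of the fixed ones. -/
theorem range_moveLin (g : OG) :
    LinearMap.range (moveLin g) = LinearMap.BilinForm.orthogonal (QuadraticMap.polarBilin Q) (fixSub g) := by
  refine Submodule.eq_of_le_of_finrank_le ?_ ?_
  · rintro _ ⟨x, rfl⟩
    exact fun z hz => by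
      show B z (moveLin g x) = 0
      rw [QuadraticMap.polar_comm, polar_move_fix g x hz]
  · rw [LinearMap.BilinForm.finrank_orthogonal hQ]
    have := LinearMap.finrank_range_add_finrank_ker (moveLin g)
    rw [show fixSub g = LinearMap.ker (moveLin g) from rfl]
    omega

/-- Multiplying by a reflection changes the fixed space by one dimension. -/
theorem finrank_fixSub_refl_mul (g : OG) {v : ι → F} (hv : Q v ≠ 0) :
    ((∃ x, ogVal g *ᵥ x - x = v) ∧
        Module.finrank F (fixSub (refl hv * g)) = Module.finrank F (fixSub g) + 1) ∨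
      Module.finrank F (fixSub (refl hv * g)) + 1 = Module.finrank F (fixSub g) := by
  have hval : ∀ z, ogVal (refl hv * g) *ᵥ z =
      ogVal g *ᵥ z - ((Q v)⁻¹ * B v (ogVal g *ᵥ z)) • v := fun z => by
    rw [ogVal_mul, ← Matrix.mulVec_mulVec, refl_apply]
  have hcoef : ∀ z, z ∈ fixSub (refl hv * g) →
      ogVal g *ᵥ z - z = ((Q v)⁻¹ * B v (ogVal g *ᵥ z)) • v := fun z hz => by
    have := mem_fixSub.1 hz
    rw [hval] at this
    linear_combination (norm := module) this
  by_cases hW : ∃ x, ogVal g *ᵥ x - x = v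
  · obtain ⟨x, hx⟩ := hW
    refine Or.inl ⟨⟨x, hx⟩, ?_⟩
    have hvx : B v (ogVal g *ᵥ x) = Q v := by
      have h1 : Q v = Q (ogVal g *ᵥ x) + Q x - B (ogVal g *ᵥ x) x := by
        rw [← hx, sub_eq_add_neg, ← neg_one_smul F x, quad_add_smul]; ring
      rw [h1, ← hx, QuadraticMap.polar_sub_left, QuadraticMap.polar_comm _ x, polar_self2, ogVal_quad]
      ring
    have heq : fixSub (refl hv * g) = fixSub g ⊔ Submodule.span F {x} := by
      refine le_antisymm (fun z hz => ?_) (sup_le (fun z hz => ?_) ?_)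
      · set c := (Q v)⁻¹ * B v (ogVal g *ᵥ z)
        refine Submodule.mem_sup.2 ⟨z - c • x, mem_fixSub.2 ?_, c • x,
          Submodule.smul_mem _ _ (Submodule.mem_span_singleton_self x), sub_add_cancel _ _⟩
        rw [Matrix.mulVec_sub, Matrix.mulVec_smul]
        linear_combination (norm := module) hcoef z hz - c • hx
      · rw [mem_fixSub, hval, mem_fixSub.1 hz, ← hx, ← moveLin_apply, polar_move_fix g x hz]
        simp
      · rw [Submodule.span_singleton_le_iff_mem, mem_fixSub, hval, hvx, inv_mul_cancel₀ hv, one_smul, ← hx]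
        abel
    have hnot : x ∉ fixSub g := fun h => hv (by
      rw [← hx, mem_fixSub.1 h, sub_self, QuadraticMap.map_zero])
    rw [heq, Submodule.finrank_sup_span_singleton hnot]
  · refine Or.inr ?_
    set L : (ι → F) →ₗ[F] F := QuadraticMap.polarBilin Q v
    have heq : fixSub (refl hv * g) = fixSub g ⊓ LinearMap.ker L := by
      refine le_antisymm (fun z hz => ?_) fun z hz => ?_
      · have h1 := hcoef z hz
        by_cases hc : (Q v)⁻¹ * B v (ogVal g *ᵥ z) = 0
        · rw [hc, zero_smul, sub_eq_zero] at h1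
          refine ⟨mem_fixSub.2 h1, ?_⟩
          rw [h1] at hc
          exact (mul_eq_zero.1 hc).resolve_left (inv_ne_zero hv)
        · exfalso
          refine hW ⟨((Q v)⁻¹ * B v (ogVal g *ᵥ z))⁻¹ • z, ?_⟩
          rw [Matrix.mulVec_smul, ← smul_sub, h1, smul_smul, inv_mul_cancel₀ hc, one_smul]
      · rw [mem_fixSub, hval, mem_fixSub.1 hz.1, show B v z = 0 from hz.2]
        simp
    obtain ⟨z, hz, hz'⟩ : ∃ z ∈ fixSub g, B v z ≠ 0 := by
      by_contra hcon
      push Not at hcon
      have hmem : v ∈ LinearMap.BilinForm.orthogonal (QuadraticMap.polarBilin Q) (fixSub g) := fun z hz => by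
        show B z v = 0
        rw [QuadraticMap.polar_comm]; exact hcon z hz
      rw [← range_moveLin hQ g] at hmem
      exact hW hmem
    have hmap : fixSub g ⊔ LinearMap.ker L = ⊤ := by
      refine eq_top_iff.2 fun w _ => Submodule.mem_sup.2 ⟨(B v w / B v z) • z, Submodule.smul_mem _ _ hz,
        w - (B v w / B v z) • z, ?_, by abel⟩
      show B v (w - (B v w / B v z) • z) = 0
      rw [QuadraticMap.polar_sub_right, QuadraticMap.polar_smul_right, smul_eq_mul, div_mul_cancel₀ _ hz', sub_self]
    have h1 := Submodule.finrank_sup_add_finrank_inf_eq (fixSub g) (LinearMap.ker L)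
    rw [hmap, ← heq, finrank_top] at h1
    have h2 := LinearMap.finrank_range_add_finrank_ker L
    have h3 : LinearMap.range L = ⊤ := LinearMap.range_eq_top.2
      (LinearMap.surjective_of_ne_zero fun h0 => hz' (LinearMap.congr_fun h0 z))
    rw [h3, finrank_top, Module.finrank_self] at h2
    omega

theorem dick_refl_mul (g : OG) {v : ι → F} (hv : Q v ≠ 0) : dick (refl hv * g) = -dick g := by
  rcases finrank_fixSub_refl_mul hQ g hv with ⟨-, h⟩ | h
  · rw [dick, dick, h, ← add_assoc, pow_succ, mul_neg_one]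
  · rw [dick, dick, ← h, ← add_assoc, pow_succ, mul_neg_one, neg_neg]

theorem dick_refl {v : ι → F} (hv : Q v ≠ 0) : dick (refl hv) = -1 := by
  rw [← mul_one (refl hv), dick_refl_mul hQ 1 hv, dick_one]

omit hQ

/-- An anisotropic Siegel transformation is a product of two reflections. -/
theorem eMat_eq_refl {a w : ι → F} (ha : Q a = 0) (haw : B a w = 0) (hw : Q w ≠ 0)
    (hs : Q (w + Q w • a) ≠ 0) : eMat Q a w = ogVal (refl hw * refl hs) := by
  have hQs : Q (w + Q w • a) = Q w := by
    rw [quad_add_smul, ha, QuadraticMap.polar_comm _ w a, haw]; ring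
  refine Matrix.ext_iff_mulVec.2 fun x => ?_
  rw [eMat_mulVec, ogVal_mul, ← Matrix.mulVec_mulVec, refl_apply, refl_apply, hQs]
  simp only [QuadraticMap.polar_add_left, QuadraticMap.polar_smul_left, QuadraticMap.polar_add_right,
    QuadraticMap.polar_sub_right, QuadraticMap.polar_smul_right, smul_eq_mul, polar_self2,
    QuadraticMap.polar_comm _ w a, haw]
  match_scalars <;> field_simp <;> ring

variable (Q) in
/-- The subgroup generated by reflections. -/
def reflGroup : Subgroup (isometryGroup F ⇑Q) :=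
  Subgroup.closure {r | ∃ (v : ι → F) (hv : Q v ≠ 0), r = refl hv}

variable (hT : Tri Q)
include hQ hT

theorem root_mem_reflGroup {a b : ι → F} (h : TS Q a b) : eOG h.ok ∈ reflGroup Q := by
  obtain ⟨f, hfa, hfb⟩ := exists_polar2 hQ h.2.2.2 1 0
  set f' := f + (-Q f) • a
  have P : Pair Q a f' := ⟨h.1, by rw [quad_add_smul, h.1, QuadraticMap.polar_comm, hfa]; ring,
    by rw [QuadraticMap.polar_add_right, hfa, QuadraticMap.polar_smul_right, polar_self' h.1]; simp⟩
  have hbp : Perp Q a f' b := ⟨h.2.2.1, by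
    rw [QuadraticMap.polar_add_left, QuadraticMap.polar_comm _ f b, hfb, QuadraticMap.polar_smul_left,
      h.2.2.1]
    simp⟩
  obtain ⟨b', Pb, hb'⟩ := exists_partner hQ P hbp h.right_ne h.2.1
  obtain ⟨u, hu0, hu, hu1, hu2⟩ := exists_singular_perp2 hQ hT P Pb hbp hb'
  obtain ⟨u', Pu, hu1', hu2'⟩ := exists_partner2 hQ P Pb hbp hb' hu1 hu2 hu0 hu
  have aniso : ∀ w, B a w = 0 → Q w ≠ 0 → ∀ hok : OK Q a w, eOG hok ∈ reflGroup Q := by
    intro w haw hw hok
    have hs : Q (w + Q w • a) ≠ 0 := by
      rw [quad_add_smul, h.1, QuadraticMap.polar_comm _ w a, haw]; simpa using hw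
    rw [show eOG hok = refl hw * refl hs from ogVal_ext (by rw [eOG_val, eMat_eq_refl h.1 haw hw hs])]
    exact mul_mem (Subgroup.subset_closure ⟨_, hw, rfl⟩) (Subgroup.subset_closure ⟨_, hs, rfl⟩)
  have hz : B a (u + u') = 0 := by rw [QuadraticMap.polar_add_right, hu1.1, hu1'.1, add_zero]
  have hQz : Q (u + u') = 1 := by rw [quad_add, Pu.1, Pu.2.1, Pu.2.2]; simp
  have hbz : B a (b + (u + u')) = 0 := by rw [QuadraticMap.polar_add_right, h.2.2.1, hz, add_zero]
  have hQbz : Q (b + (u + u')) = 1 := by
    rw [quad_add b, h.2.1, hQz, QuadraticMap.polar_add_right, hu2.1, hu2'.1]; simp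
  have k1 : OK Q a (b + (u + u')) := ⟨h.1, hbz⟩
  have k2 : OK Q a ((-1 : F) • (u + u')) := OK.smul ⟨h.1, hz⟩ _
  rw [show eOG h.ok = eOG k1 * eOG k2 from ogVal_ext (by
    rw [ogVal_mul, eOG_val, eOG_val, eOG_val, eMat_mul k1 k2]
    congr 1
    module)]
  exact mul_mem (aniso _ hbz (by rw [hQbz]; exact one_ne_zero) k1)
    (aniso _ k2.2 (by rw [QuadraticMap.map_smul, hQz]; simp) k2)

/-- Reflections generate, in every characteristic. -/
theorem reflGroup_eq_top : reflGroup Q = ⊤ := by
  refine (Subgroup.eq_top_iff' _).2 fun g => ?_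
  suffices h : ∀ (k : ℕ) (g : OG), Fintype.card ι - Module.finrank F (fixSub g) ≤ k → g ∈ reflGroup Q from
    h _ g le_rfl
  intro k
  induction k using Nat.strong_induction_on with
  | _ k ih =>
    intro g hk
    have hle : ∀ g' : OG, Module.finrank F (fixSub g') ≤ Fintype.card ι := fun g' =>
      (Submodule.finrank_le _).trans (Module.finrank_pi F).le
    by_cases hx : ∃ x, Q (ogVal g *ᵥ x - x) ≠ 0
    · obtain ⟨x, hx⟩ := hx
      have hgrow : Module.finrank F (fixSub (refl hx * g)) = Module.finrank F (fixSub g) + 1 := by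
        rcases finrank_fixSub_refl_mul hQ g hx with ⟨-, h⟩ | h
        · exact h
        · exfalso
          have hle' : fixSub g ≤ fixSub (refl hx * g) := fun z hz => by
            rw [mem_fixSub, ogVal_mul, ← Matrix.mulVec_mulVec, mem_fixSub.1 hz, refl_apply, ← moveLin_apply,
              polar_move_fix g x hz]
            simp
          have := Submodule.finrank_mono hle'
          omega
      have := hle (refl hx * g)
      have hmem : refl hx * g ∈ reflGroup Q := ih (k - 1) (by omega) _ (by omega)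
      rw [show g = refl hx * (refl hx * g) by rw [← mul_assoc, refl_mul_self, one_mul]]
      exact mul_mem (Subgroup.subset_closure ⟨_, hx, rfl⟩) hmem
    · push Not at hx
      by_cases h1 : g = 1
      · rw [h1]; exact one_mem _
      obtain ⟨x, hx0⟩ : ∃ x, moveLin g x ≠ 0 := by
        by_contra hcon
        push Not at hcon
        exact h1 (ogVal_ext (Matrix.ext_iff_mulVec.2 fun x => by
          rw [ogVal_one, Matrix.one_mulVec]; exact sub_eq_zero.1 (hcon x)))
      set φ := moveLin g
      have hgφ : ∀ z, ogVal g *ᵥ z = z + φ z := fun z => by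
        show _ = z + (ogVal g *ᵥ z - z); abel
      have hφ : ∀ z, Q (φ z) = 0 := fun z => hx z
      have hzφ : ∀ z, B z (φ z) = 0 := fun z => by
        have := ogVal_quad g z
        rw [hgφ, quad_add, hφ] at this
        linear_combination this
      have hφφ : ∀ y z, B (φ y) (φ z) = 0 := fun y z => by
        have := hφ (y + z)
        rw [map_add, quad_add, hφ, hφ] at this
        linear_combination this
      have hskew : ∀ y z, B y (φ z) = -B z (φ y) := fun y z => by
        have := hzφ (y + z)
        rw [map_add, QuadraticMap.polar_add_left, QuadraticMap.polar_add_right, QuadraticMap.polar_add_right,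
          hzφ, hzφ] at this
        linear_combination this
      obtain ⟨y, hy⟩ := exists_polar1 hQ hx0 1
      set a := φ x
      set b := φ y
      have hab : B a b = 0 := hφφ x y
      have hbx : B b x = -1 := by
        rw [QuadraticMap.polar_comm, hskew, QuadraticMap.polar_comm, hy]
      have hax : B a x = 0 := by rw [QuadraticMap.polar_comm]; exact hzφ x
      have hby : B b y = 0 := by rw [QuadraticMap.polar_comm]; exact hzφ y
      have hts : TS Q a ((-1 : F) • b) := ⟨hφ x, by rw [QuadraticMap.map_smul, hφ y]; simp,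
        by rw [QuadraticMap.polar_smul_right, hab]; simp, fun s t h0 => by
          have e1 := congrArg (B x) h0
          simp [QuadraticMap.polar_add_right, QuadraticMap.polar_smul_right, QuadraticMap.polar_comm _ x a,
            QuadraticMap.polar_comm _ x b, hax, hbx] at e1
          exact ⟨by simpa [e1, hx0] using h0, e1⟩⟩
      set E := eOG hts.ok
      have hfix : fixSub g ≤ fixSub (E * g) ∧ x ∈ fixSub (E * g) := by
        refine ⟨fun z hz => ?_, ?_⟩
        · have h2 : B a z = 0 := polar_move_fix g x hz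
          have h3 : B b z = 0 := polar_move_fix g y hz
          rw [mem_fixSub, ogVal_mul, ← Matrix.mulVec_mulVec, mem_fixSub.1 hz, eOG_val, eMat_mulVec, h2,
            QuadraticMap.polar_smul_left, h3]
          simp
        · rw [mem_fixSub, ogVal_mul, ← Matrix.mulVec_mulVec, eOG_val, hgφ, eMat_mulVec, hts.2.1]
          simp only [QuadraticMap.polar_add_right, QuadraticMap.polar_smul_left, hax, hbx,
            polar_self' (hφ x), QuadraticMap.polar_comm _ b a, hab, smul_eq_mul]
          simp only [show φ x = a from rfl, mul_zero, add_zero, zero_smul, sub_zero, mul_neg, mul_one, neg_neg,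
            one_smul]
          rw [QuadraticMap.polar_comm _ b a, hab, polar_self' (hφ x)]
          simp
      have hlt : fixSub g < fixSub (E * g) :=
        lt_of_le_of_ne hfix.1 fun e => hx0 (LinearMap.mem_ker.1 (e ▸ hfix.2 : x ∈ fixSub g))
      have h2 := Submodule.finrank_lt_finrank_of_lt hlt
      have h3 := hle (E * g)
      have hmem : E * g ∈ reflGroup Q := ih (k - 1) (by omega) _ (by omega)
      rw [show g = E⁻¹ * (E * g) by group]
      exact mul_mem (inv_mem (root_mem_reflGroup hQ hT hts)) hmem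

theorem dick_mul (g h : OG) : dick (g * h) = dick g * dick h := by
  have hg : g ∈ reflGroup Q := by rw [reflGroup_eq_top hQ hT]; trivial
  revert h
  refine Subgroup.closure_induction (p := fun g _ => ∀ h, dick (g * h) = dick g * dick h) ?_ ?_ ?_ ?_ hg
  · rintro _ ⟨v, hv, rfl⟩ h
    rw [dick_refl_mul hQ h hv, dick_refl hQ hv, neg_one_mul]
  · intro h; rw [one_mul, dick_one, one_mul]
  · intro a b _ _ ha hb h
    rw [mul_assoc, ha, hb, ha, mul_assoc]
  · intro a _ ha h
    have h1 := ha (a⁻¹ * h)
    have h2 := ha a⁻¹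
    rw [mul_inv_cancel_left] at h1
    rw [mul_inv_cancel, dick_one] at h2
    rw [h1, ← mul_assoc, mul_comm (dick a⁻¹), ← h2, one_mul]

/-- The Dickson invariant as a homomorphism. -/
noncomputable def dickHom : isometryGroup F ⇑Q →* ℤˣ := MonoidHom.mk' dick (dick_mul hQ hT)

theorem det_eq_dick (g : OG) : (ogVal g).det = (((dick g : ℤˣ) : ℤ) : F) := by
  have hg : g ∈ reflGroup Q := by rw [reflGroup_eq_top hQ hT]; trivial
  refine Subgroup.closure_induction (p := fun g _ => (ogVal g).det = (((dick g : ℤˣ) : ℤ) : F)) ?_ ?_ ?_ ?_ hg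
  · rintro _ ⟨v, hv, rfl⟩
    rw [refl_det, dick_refl hQ hv]; simp
  · simp [dick_one]
  · intro a b _ _ ha hb
    rw [ogVal_mul, Matrix.det_mul, ha, hb, dick_mul hQ hT]; simp
  · intro a _ ha
    have h1 : (ogVal a).det * (ogVal a⁻¹).det = 1 := by
      rw [← Matrix.det_mul, ← ogVal_mul, mul_inv_cancel, ogVal_one, Matrix.det_one]
    rw [show dick a⁻¹ = dick a from ((dickHom hQ hT).map_inv a).trans (Int.units_inv_eq_self _)]
    rcases Int.units_eq_one_or (dick a) with e | e <;> rw [ha, e] at h1 <;> rw [e] <;> simp at h1 ⊢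
    · exact h1
    · linear_combination -h1

section CharTwo

variable [Fintype F] (h2 : (2 : F) = 0)
include h2

theorem refl_mod_sR {v w : ι → F} (hv : Q v ≠ 0) (hw : Q w ≠ 0) :
    QuotientGroup.mk' (sR Q) (refl hv) = QuotientGroup.mk' (sR Q) (refl hw) := by
  haveI : CharP F 2 := CharTwo.of_one_ne_zero_of_two_eq_zero one_ne_zero h2
  obtain ⟨c, hc⟩ := FiniteField.isSquare_of_char_two (ringChar.eq F 2) (Q v / Q w)
  have hvw : Q (c • w) = Q v := by
    rw [QuadraticMap.map_smul, smul_eq_mul, ← hc, div_mul_cancel₀ _ hw]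
  obtain ⟨g, hg, hgv⟩ := exists_move_value hQ hT hv hvw
  have hgv0 : Q (ogVal g *ᵥ v) ≠ 0 := by rw [ogVal_quad]; exact hv
  have hq : QuotientGroup.mk' (sR Q) g = 1 := (QuotientGroup.eq_one_iff g).2 hg
  rw [← (refl_congr hw hgv0 hgv).symm, ← refl_conj g hv hgv0, map_mul, map_mul, hq, map_inv, hq, inv_one,
    one_mul, mul_one]

theorem exists_coset (g : OG) {v₀ : ι → F} (h₀ : Q v₀ ≠ 0) :
    QuotientGroup.mk' (sR Q) g ∈ Subgroup.zpowers (QuotientGroup.mk' (sR Q) (refl h₀)) := by
  have hg : g ∈ reflGroup Q := by rw [reflGroup_eq_top hQ hT]; trivial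
  have hle : reflGroup Q ≤
      (Subgroup.zpowers (QuotientGroup.mk' (sR Q) (refl h₀))).comap (QuotientGroup.mk' (sR Q)) := by
    refine (Subgroup.closure_le _).2 ?_
    rintro _ ⟨v, hv, rfl⟩
    rw [SetLike.mem_coe, Subgroup.mem_comap, refl_mod_sR hQ hT h2 hv h₀]
    exact Subgroup.mem_zpowers _
  exact hle hg

theorem omega_eq_sR_two : Omega F ⇑Q = sR Q := by
  refine le_antisymm ?_ (sR_le_omega hQ hT)
  obtain ⟨e, f, P⟩ := exists_basePair hQ hT
  have h₀ : Q (e + f) ≠ 0 := by rw [quad_add, P.1, P.2.1, P.2.2]; simp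
  show commutator _ ≤ sR Q
  rw [commutator_def, Subgroup.commutator_le]
  intro x _ y _
  rw [← QuotientGroup.eq_one_iff]
  show QuotientGroup.mk' (sR Q) ⁅x, y⁆ = 1
  rw [map_commutatorElement]
  obtain ⟨i, hi⟩ := Subgroup.mem_zpowers_iff.1 (exists_coset hQ hT h2 x h₀)
  obtain ⟨k, hk⟩ := Subgroup.mem_zpowers_iff.1 (exists_coset hQ hT h2 y h₀)
  rw [← hi, ← hk]
  exact commutatorElement_eq_one_iff_commute.2 (Commute.zpow_zpow (Commute.refl _) i k)

/-- In characteristic two `Ω` is the kernel of the Dickson invariant. -/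
theorem mem_omega_iff_dick (g : OG) : g ∈ Omega F ⇑Q ↔ dick g = 1 := by
  refine ⟨fun hg => (Abelianization.commutator_subset_ker (dickHom hQ hT)) hg, fun hg => ?_⟩
  rw [omega_eq_sR_two hQ hT h2]
  obtain ⟨e, f, P⟩ := exists_basePair hQ hT
  have h₀ : Q (e + f) ≠ 0 := by rw [quad_add, P.1, P.2.1, P.2.2]; simp
  obtain ⟨i, hi⟩ := Subgroup.mem_zpowers_iff.1 (exists_coset hQ hT h2 g h₀)
  rcases Int.even_or_odd i with ⟨k, hk⟩ | ⟨k, hk⟩
  · rw [← QuotientGroup.eq_one_iff]
    show QuotientGroup.mk' (sR Q) g = 1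
    rw [← hi, hk, _root_.zpow_add, ← Commute.mul_zpow (Commute.refl _), ← map_mul, refl_mul_self, map_one,
      _root_.one_zpow]
  · exfalso
    have h1 : (refl h₀)⁻¹ * g ∈ sR Q := by
      rw [← QuotientGroup.eq_one_iff]
      show QuotientGroup.mk' (sR Q) _ = 1
      rw [map_mul, map_inv, ← hi, hk, _root_.zpow_add, zpow_one, two_mul, _root_.zpow_add,
        ← Commute.mul_zpow (Commute.refl _), ← map_mul, refl_mul_self, map_one, _root_.one_zpow, one_mul,
        inv_mul_cancel]
    have h3 : dick ((refl h₀)⁻¹ * g) = 1 :=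
      (Abelianization.commutator_subset_ker (dickHom hQ hT)) (sR_le_omega hQ hT h1)
    rw [show (refl h₀)⁻¹ = refl h₀ from inv_eq_of_mul_eq_one_right (refl_mul_self h₀), dick_refl_mul hQ,
      hg] at h3
    exact absurd h3 (by decide)

end CharTwo

/-- `Ω` is generated by the long root elements, in every characteristic. -/
theorem omega_eq_sR_all [Fintype F] : Omega F ⇑Q = sR Q := by
  by_cases h2 : (2 : F) = 0
  · exact omega_eq_sR_two hQ hT h2
  · exact omega_eq_sR hQ hT h2

end Cfsg.Agent.Classical.OrthAut
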