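import Cfsg.Agent.Lib.Classical.OrthSpinor

/-!
Consequences of `Ω = ker(dick, spin)`: products of pairs of reflections, the special group, `-1 ∈ Ω`.
-/

set_option autoImplicit false
set_option linter.unusedSectionVars false
set_option quotPrecheck false

namespace Cfsg.Agent.Classical.OrthAut

open Matrix Module
open scoped commutatorElement

variable {F : Type*} [Field F] [Fintype F] {ι : Type} [Fintype ι] [DecidableEq ι]
  {Q : QuadraticForm F (ι → F)}

local notation "B" => QuadraticMap.polar ⇑Q
local notation "OG" => isometryGroup F ⇑Q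

variable (hQ : (QuadraticMap.polarBilin Q).Nondegenerate) (hG : GenQ F ι)
include hQ hG

theorem det_eq_dick_gen (g : OG) : (ogVal g).det = (((dick g : ℤˣ) : ℤ) : F) := by
  have hg : g ∈ reflGroup Q := by rw [reflGroup_eq_top_gen hQ hG]; trivial
  let d : OG →* Fˣ := Matrix.GeneralLinearGroup.det.comp (isometryGroup F ⇑Q).subtype
  let e : OG →* Fˣ := (Units.map (Int.castRingHom F).toMonoidHom).comp (dickGen hQ hG)
  have key : d g = e g := by
    refine (Subgroup.closure_le (MonoidHom.eqLocus d e)).2 ?_ hg
    rintro _ ⟨v, hv, rfl⟩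
    refine Units.ext ?_
    show (ogVal (refl hv)).det = ((((dick (refl hv) : ℤˣ) : ℤ)) : F)
    rw [refl_det, dick_refl hQ hv]; simp
  exact congrArg Units.val key

/-- `SO` is the kernel of the Dickson invariant in odd characteristic. -/
theorem mem_special_odd (h2 : (2 : F) ≠ 0) (g : OG) :
    g ∈ specialIsometryGroup F ⇑Q ↔ dick g = 1 := by
  rw [specialIsometryGroup, MonoidHom.mem_ker, Units.ext_iff]
  show (ogVal g).det = 1 ↔ _
  rw [det_eq_dick_gen hQ hG]
  rcases Int.units_eq_one_or (dick g) with h | h <;> rw [h] <;> simp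
  intro h1
  exact h2 (by linear_combination -h1)

theorem special_two (h2 : (2 : F) = 0) : specialIsometryGroup F ⇑Q = ⊤ := by
  refine (Subgroup.eq_top_iff' _).2 fun g => ?_
  rw [specialIsometryGroup, MonoidHom.mem_ker, Units.ext_iff]
  show (ogVal g).det = 1
  rw [det_eq_dick_gen hQ hG]
  haveI : CharP F 2 := CharTwo.of_one_ne_zero_of_two_eq_zero one_ne_zero h2
  rcases Int.units_eq_one_or (dick g) with h | h <;> rw [h] <;> simp [CharTwo.neg_eq]

/-- The subgroup generated by products of two reflections. -/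
theorem pairs_eq_ker : Subgroup.closure {g : OG | ∃ (u v : ι → F) (hu : Q u ≠ 0) (hv : Q v ≠ 0),
    g = refl hu * refl hv} = (dickGen hQ hG).ker := by
  classical
  set S := Subgroup.closure {g : OG | ∃ (u v : ι → F) (hu : Q u ≠ 0) (hv : Q v ≠ 0), g = refl hu * refl hv}
  refine le_antisymm ((Subgroup.closure_le _).2 ?_) fun g hg => ?_
  · rintro _ ⟨u, v, hu, hv, rfl⟩
    show dick _ = 1
    rw [dick_mul_gen hQ hG, dick_refl hQ hu, dick_refl hQ hv]; rfl
  by_cases he : ∃ v, Q v ≠ 0
  · obtain ⟨w, hw⟩ := he
    haveI : S.Normal := by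
      refine Subgroup.normalizer_eq_top_iff.1 (eq_top_iff.2 ?_)
      rw [← reflGroup_eq_top_gen hQ hG, reflGroup, Subgroup.closure_le]
      rintro _ ⟨z, hz, rfl⟩
      have hS : ∀ x ∈ S, refl hz * x * (refl hz)⁻¹ ∈ S := by
        intro x hx
        induction hx using Subgroup.closure_induction with
        | mem x hx =>
          obtain ⟨u, v, hu, hv, rfl⟩ := hx
          rw [show refl hz * (refl hu * refl hv) * (refl hz)⁻¹ =
            (refl hz * refl hu * (refl hz)⁻¹) * (refl hz * refl hv * (refl hz)⁻¹) by group,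
            refl_conj _ hu (by rw [ogVal_quad]; exact hu), refl_conj _ hv (by rw [ogVal_quad]; exact hv)]
          exact Subgroup.subset_closure ⟨_, _, _, _, rfl⟩
        | one => simp [one_mem]
        | mul a b _ _ ha hb =>
          rw [show refl hz * (a * b) * (refl hz)⁻¹ =
            (refl hz * a * (refl hz)⁻¹) * (refl hz * b * (refl hz)⁻¹) by group]
          exact mul_mem ha hb
        | inv a _ ha =>
          rw [show refl hz * a⁻¹ * (refl hz)⁻¹ = (refl hz * a * (refl hz)⁻¹)⁻¹ by group]
          exact inv_mem ha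
      refine Subgroup.mem_normalizer_iff.2 fun x => ⟨hS x, fun hx => ?_⟩
      have := hS _ hx
      rw [inv_eq_of_mul_eq_one_right (refl_mul_self hz)] at this
      rwa [← mul_assoc, ← mul_assoc, refl_mul_self, one_mul, mul_assoc, refl_mul_self, mul_one] at this
    set q := QuotientGroup.mk' S
    have hq : ∀ {v : ι → F} (hv : Q v ≠ 0), q (refl hv) = q (refl hw) := fun hv => by
      have h1 : q (refl hv) * q (refl hw) = 1 := by
        rw [← map_mul]; exact (QuotientGroup.eq_one_iff _).2 (Subgroup.subset_closure ⟨_, _, hv, hw, rfl⟩)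
      rw [mul_eq_one_iff_eq_inv.1 h1, ← map_inv, inv_eq_of_mul_eq_one_right (refl_mul_self hw)]
    have hA : q (refl hw) * q (refl hw) = 1 := by rw [← map_mul, refl_mul_self, map_one]
    have key : ∀ x ∈ reflGroup Q, q x = if dick x = -1 then q (refl hw) else 1 := by
      intro x hx
      induction hx using Subgroup.closure_induction with
      | mem x hx =>
        obtain ⟨v, hv, rfl⟩ := hx
        rw [dick_refl hQ hv, if_pos rfl, hq hv]
      | one => simp [dick_one]
      | mul a b _ _ ha hb =>
        rw [map_mul, ha, hb, dick_mul_gen hQ hG]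
        rcases Int.units_eq_one_or (dick a) with e | e <;> rcases Int.units_eq_one_or (dick b) with e' | e' <;>
          simp [e, e', hA]
      | inv a _ ha =>
        rw [map_inv, ha, show dick a⁻¹ = dick a from
          ((dickGen hQ hG).map_inv a).trans (Int.units_inv_eq_self _)]
        rcases Int.units_eq_one_or (dick a) with e | e
        · simp [e]
        · rw [if_pos e]; exact inv_eq_of_mul_eq_one_right hA
    refine (QuotientGroup.eq_one_iff g).1 ?_
    show q g = 1
    rw [key g (by rw [reflGroup_eq_top_gen hQ hG]; trivial), if_neg]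
    rw [show dick g = 1 from hg]; decide
  · have hbot : reflGroup Q ≤ ⊥ := (Subgroup.closure_le _).2 fun x hx => by
      obtain ⟨v, hv, rfl⟩ := hx
      exact absurd ⟨v, hv⟩ he
    rw [(Subgroup.mem_bot).1 (hbot (show g ∈ reflGroup Q by rw [reflGroup_eq_top_gen hQ hG]; trivial))]
    exact one_mem _

omit [Fintype F] hQ hG in
theorem refl_pairs_set : {g : OG | ∃ u v : ι → F, Q u ≠ 0 ∧ Q v ≠ 0 ∧
      ((g : GL ι F) : Matrix ι ι F) = reflectionMatrix ⇑Q u * reflectionMatrix ⇑Q v} =
    {g : OG | ∃ (u v : ι → F) (hu : Q u ≠ 0) (hv : Q v ≠ 0), g = refl hu * refl hv} := by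
  ext g
  constructor
  · rintro ⟨u, v, hu, hv, h⟩; exact ⟨u, v, hu, hv, ogVal_ext h⟩
  · rintro ⟨u, v, hu, hv, rfl⟩; exact ⟨u, v, hu, hv, rfl⟩

/-- `SO` has exactly one subgroup of index two. -/
theorem special_unique_index_two (hn : 2 ≤ Fintype.card ι) :
    ∃! H : Subgroup (specialIsometryGroup F ⇑Q), H.index = 2 := by
  classical
  set SO := specialIsometryGroup F ⇑Q with hSOdef
  have hle : Omega F ⇑Q ≤ SO := fun g hg =>
    (Abelianization.commutator_subset_ker (Matrix.GeneralLinearGroup.det.comp (isometryGroup F ⇑Q).subtype)) hg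
  have hidx : ((Omega F ⇑Q).subgroupOf SO).index = 2 := by
    have h1 := Subgroup.relIndex_mul_index hle
    by_cases h2 : (2 : F) = 0
    · rw [show SO = ⊤ from special_two hQ hG h2, Subgroup.index_top, mul_one,
        index_omega_two hQ hG h2 (by omega)] at h1
      rw [← Subgroup.relIndex, show SO = ⊤ from special_two hQ hG h2]; exact h1
    · have hSO : SO = (dickGen hQ hG).ker := by
        ext g; rw [hSOdef, mem_special_odd hQ hG h2, MonoidHom.mem_ker]; rfl
      obtain ⟨v, hv⟩ := exists_anisotropic hQ (by omega)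
      have hs : Function.Surjective (dickGen hQ hG) := fun s => by
        rcases Int.units_eq_one_or s with rfl | rfl
        · exact ⟨1, map_one _⟩
        · exact ⟨refl hv, dick_refl hQ hv⟩
      have hi : SO.index = 2 := by
        rw [hSO, Subgroup.index_ker, MonoidHom.range_eq_top.2 hs, Subgroup.card_top, Nat.card_eq_fintype_card]
        simp
      rw [hi, index_omega_odd hQ hG h2 hn] at h1
      show (Omega F ⇑Q).relIndex SO = 2
      omega
  refine ⟨_, hidx, fun H hH => ?_⟩
  -- `S`, generated by the squares of `SO`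
  set S := Subgroup.closure {y : OG | ∃ x ∈ SO, y = x * x}
  haveI : SO.Normal := by rw [hSOdef, specialIsometryGroup]; infer_instance
  haveI : S.Normal := by
    refine ⟨fun s hs g => ?_⟩
    induction hs using Subgroup.closure_induction with
    | mem y hy =>
      obtain ⟨x, hx, rfl⟩ := hy
      exact Subgroup.subset_closure ⟨g * x * g⁻¹, Subgroup.Normal.conj_mem inferInstance x hx g, by group⟩
    | one => simp [one_mem]
    | mul a b _ _ ha hb =>
      rw [show g * (a * b) * g⁻¹ = (g * a * g⁻¹) * (g * b * g⁻¹) by group]; exact mul_mem ha hb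
    | inv a _ ha => rw [show g * a⁻¹ * g⁻¹ = (g * a * g⁻¹)⁻¹ by group]; exact inv_mem ha
  set q := QuotientGroup.mk' S
  have hgen : ∀ {u v : ι → F} (hu : Q u ≠ 0) (hv : Q v ≠ 0), Commute (q (refl hu)) (q (refl hv)) := by
    intro u v hu hv
    have hm : refl hu * refl hv ∈ SO := by
      show _ = (1 : Fˣ)
      refine Units.ext ?_
      show (ogVal (refl hu * refl hv)).det = 1
      rw [ogVal_mul, Matrix.det_mul, refl_det, refl_det]; simp
    have h1 : q (refl hu * refl hv) * q (refl hu * refl hv) = 1 := by
      rw [← map_mul]; exact (QuotientGroup.eq_one_iff _).2 (Subgroup.subset_closure ⟨_, hm, rfl⟩)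
    have h2 := eq_inv_of_mul_eq_one_left h1
    rw [← map_inv, _root_.mul_inv_rev, inv_eq_of_mul_eq_one_right (refl_mul_self hu),
      inv_eq_of_mul_eq_one_right (refl_mul_self hv)] at h2
    show q (refl hu) * q (refl hv) = q (refl hv) * q (refl hu)
    rw [← map_mul, ← map_mul, h2]
  have hcomm : ∀ a b : OG, Commute (q a) (q b) := by
    intro a b
    have ha : a ∈ reflGroup Q := by rw [reflGroup_eq_top_gen hQ hG]; trivial
    have hb : b ∈ reflGroup Q := by rw [reflGroup_eq_top_gen hQ hG]; trivial
    induction ha using Subgroup.closure_induction with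
    | mem x hx =>
      obtain ⟨u, hu, rfl⟩ := hx
      induction hb using Subgroup.closure_induction with
      | mem y hy => obtain ⟨v, hv, rfl⟩ := hy; exact hgen hu hv
      | one => simp
      | mul c d _ _ hc hd => rw [map_mul]; exact hc.mul_right hd
      | inv c _ hc => rw [map_inv]; exact hc.inv_right
    | one => simp
    | mul c d _ _ hc hd => rw [map_mul]; exact hc.mul_left hd
    | inv c _ hc => rw [map_inv]; exact hc.inv_left
  have hΩ : Omega F ⇑Q ≤ S := by
    show commutator _ ≤ S
    rw [commutator_def, Subgroup.commutator_le]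
    intro a _ b _
    rw [← QuotientGroup.eq_one_iff]
    show q ⁅a, b⁆ = 1
    rw [map_commutatorElement]
    exact commutatorElement_eq_one_iff_commute.2 (hcomm a b)
  have hSH : S ≤ H.map SO.subtype := by
    refine (Subgroup.closure_le _).2 ?_
    rintro _ ⟨x, hx, rfl⟩
    exact ⟨⟨x, hx⟩ * ⟨x, hx⟩, Subgroup.mul_self_mem_of_index_two hH _, rfl⟩
  have hsub : (Omega F ⇑Q).subgroupOf SO ≤ H := fun x hx => by
    obtain ⟨y, hy, hyx⟩ := hSH (hΩ hx)
    rwa [Subtype.ext hyx] at hy
  have h1 := Subgroup.relIndex_mul_index hsub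
  rw [hidx, hH] at h1
  exact le_antisymm (Subgroup.relIndex_eq_one.1 (by omega)) hsub

/-- `-1 ∈ Ω` iff the discriminant is a square, in even dimension. -/
theorem negOne_mem_omega_iff (h2 : (2 : F) ≠ 0) (he : Even (Fintype.card ι)) {κ : Type} [Fintype κ] [DecidableEq κ]
    (c : Module.Basis κ F (ι → F)) :
    (∃ g : OG, g ∈ Omega F ⇑Q ∧ ogVal g = -1) ↔ IsSquare (gramDet (QuadraticMap.polarBilin Q) c) := by
  classical
  obtain ⟨n, b, hb, hb0⟩ := exists_orth_basis h2 hQ
  have hn : n = Fintype.card ι := by
    have := Module.finrank_eq_card_basis b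
    rwa [Module.finrank_pi, Fintype.card_fin, eq_comm] at this
  have hx : ∀ s : Finset (Fin n), ∃ x : OG, (∀ i, ogVal x *ᵥ b i = if i ∈ s then -b i else b i) ∧
      spin x = sqSign (∏ i ∈ s, Q (b i)) := by
    intro s
    induction s using Finset.induction with
    | empty => exact ⟨1, fun i => by simp, by
        rw [← spinHom_apply hQ, map_one, Finset.prod_empty, sqSign_of_isSquare IsSquare.one]⟩
    | insert j s hj ih =>
      obtain ⟨x, hxb, hxs⟩ := ih
      refine ⟨x * refl (hb0 j), fun i => ?_, ?_⟩
      · rw [ogVal_mul, ← Matrix.mulVec_mulVec, refl_apply]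
        by_cases hij : i = j
        · subst hij
          rw [polar_self2, show b i - ((Q (b i))⁻¹ * (2 * Q (b i))) • b i = (-1 : F) • b i by
            match_scalars; field_simp [hb0 i]; ring, Matrix.mulVec_smul, hxb, if_neg hj,
            if_pos (Finset.mem_insert_self _ _), neg_one_smul]
        · rw [hb j i (Ne.symm hij), mul_zero, zero_smul, sub_zero, hxb]
          simp [Finset.mem_insert, hij]
      · rw [spin_mul hQ, hxs, spin_refl hQ, Finset.prod_insert hj,
          sqSign_mul (hb0 j) (Finset.prod_ne_zero_iff.2 fun i _ => hb0 i), mul_comm]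
  obtain ⟨x, hxb, hxs⟩ := hx Finset.univ
  have hxv : ogVal x = -1 := by
    refine Matrix.ext_iff_mulVec.2 fun v => ?_
    have : Matrix.mulVecLin (ogVal x) = -LinearMap.id := b.ext fun i => by
      simpa using hxb i
    simpa [Matrix.neg_mulVec] using LinearMap.congr_fun this v
  have hdick : dick x = 1 := by
    have h := det_eq_dick_gen hQ hG x
    rw [hxv, Matrix.det_neg, Matrix.det_one, mul_one, he.neg_one_pow] at h
    rcases Int.units_eq_one_or (dick x) with e | e
    · exact e
    · rw [e] at h; simp at h; exact absurd (show (2 : F) = 0 by linear_combination h) h2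
  have hdiag : gramDet (QuadraticMap.polarBilin Q) b = 2 ^ n * ∏ i, Q (b i) := by
    rw [gramDet_eq_of, show (Matrix.of fun i j => B (b i) (b j)) = Matrix.diagonal fun i => 2 * Q (b i) from ?_,
      Matrix.det_diagonal, Finset.prod_mul_distrib, Finset.prod_const, Finset.card_univ, Fintype.card_fin]
    ext i j
    by_cases hij : i = j
    · subst hij; simp [polar_self2]
    · simp [hij, hb i j hij]
  obtain ⟨t, ht, htc⟩ := gramDet_change (QuadraticMap.polarBilin Q) b c
  obtain ⟨k, hk⟩ := hn ▸ he
  have hsq : IsSquare (gramDet (QuadraticMap.polarBilin Q) c) ↔ IsSquare (∏ i, Q (b i)) := by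
    rw [htc, isSquare_mul_sq ht, hdiag, show (2 : F) ^ n = (2 ^ k) ^ 2 by rw [← pow_mul]; congr 1; omega,
      isSquare_mul_sq (pow_ne_zero _ h2)]
  rw [hsq]
  constructor
  · rintro ⟨g, hg, hgv⟩
    obtain rfl : g = x := ogVal_ext (hgv.trans hxv.symm)
    have h := ((mem_omega_gen hQ hG g).1 hg).2
    rw [hxs] at h
    by_contra hns
    rw [sqSign_of_not hns] at h
    exact absurd h (by decide)
  · intro h
    exact ⟨x, (mem_omega_gen hQ hG x).2 ⟨hdick, by rw [hxs, sqSign_of_isSquare h]⟩, hxv⟩

end Cfsg.Agent.Classical.OrthAut
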