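import Cfsg.Agent.Lib.Classical.OrthOmegaIndex

/-!
The automorphism group of an odd-dimensional `PΩ(Q)` in odd characteristic: it is `SO(Q) ⋊ Aut(F)`,
and `Ω(Q)` has index two in `SO(Q)`.
-/

set_option autoImplicit false
set_option linter.unusedSectionVars false
set_option quotPrecheck false

namespace Cfsg.Agent.Classical.OrthAut

open Matrix Cfsg.Agent.Classical.Descent

variable {F : Type*} [Field F] {ι : Type} [Fintype ι] [DecidableEq ι] {Q : QuadraticForm F (ι → F)}

local notation "V" => (ι → F)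
local notation "Mn" => Matrix ι ι F
local notation "B" => QuadraticMap.polar ⇑Q
local notation "OG" => isometryGroup F ⇑Q
local notation "Om" => Omega F ⇑Q
local notation "PQ" => POmega F ⇑Q
local notation "π" => omPi (Q := Q)
local notation "SO'" => specialIsometryGL F ⇑Q

variable (Q) in
/-- The hypotheses on an odd-dimensional space. -/
structure OddSpace [Fintype F] : Prop where
  nd : (QuadraticMap.polarBilin Q).Nondegenerate
  tri : Tri Q
  good : Good Q
  two : (2 : F) ≠ 0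
  odd : Odd (Fintype.card ι)
  rat : Rat Q

theorem det_sq_similarity (hQ : (QuadraticMap.polarBilin Q).Nondegenerate) {M : Mn} {c : F}
    (hM : ∀ v, Q (M *ᵥ v) = c * Q v) : M.det ^ 2 = c ^ Fintype.card ι := by
  set Bm := LinearMap.BilinForm.toMatrix' (QuadraticMap.polarBilin Q)
  have hB : Bm.det ≠ 0 := (LinearMap.BilinForm.nondegenerate_iff_det_ne_zero (Pi.basisFun F ι)).1 hQ
  have key : Mᵀ * Bm * M = c • Bm := by
    rw [← LinearMap.toMatrix'_toLin' M, ← LinearMap.BilinForm.toMatrix'_comp, ← map_smul]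
    congr 1
    ext x y
    simp only [LinearMap.comp_apply, LinearMap.BilinForm.comp_apply, LinearMap.smul_apply,
      Matrix.toLin'_apply, QuadraticMap.polarBilin_apply_apply, QuadraticMap.polar,
      ← Matrix.mulVec_add, hM, smul_eq_mul]
    ring
  have h2 := congrArg Matrix.det key
  rw [Matrix.det_mul, Matrix.det_mul, Matrix.det_transpose, Matrix.det_smul] at h2
  exact mul_right_cancel₀ hB (by rw [sq]; linear_combination h2)

theorem mem_SO {g : GL ι F} : g ∈ SO' ↔ (∀ v, Q ((g : Mn) *ᵥ v) = Q v) ∧ (g : Mn).det = 1 := by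
  show g ∈ isometryGroup F ⇑Q ⊓ _ ↔ _
  rw [Subgroup.mem_inf, mem_isometryGroup]
  refine and_congr_right' ⟨fun h => congrArg Units.val h, fun h => Units.ext h⟩

/-- A special isometry as an isometry. -/
def soIso (g : specialIsometryGL F ⇑Q) : isometryGroup F ⇑Q := ⟨g, (Subgroup.mem_inf.1 g.2).1⟩

theorem soIso_mul (g k : SO') : soIso (g * k) = soIso g * soIso k := rfl

/-- Conjugation by special isometries. -/
noncomputable def soHom (Q : QuadraticForm F (ι → F)) : specialIsometryGL F ⇑Q →* MulAut (POmega F ⇑Q) :=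
  (goHom Q).comp ((specialIsometryGL F ⇑Q).subtype.codRestrict (Geo.quadSimilarityGroup (F := F) ⇑Q)
    fun g => isometry_mem_go (soIso g))

theorem soHom_apply (g : SO') :
    soHom Q g = poSemi (isPair_refl (isometry_mem_go (soIso g))) := rfl

/-- An element of `Ω` as a special isometry. -/
noncomputable def omToSO [Fintype F] (Q : QuadraticForm F (ι → F)) : Omega F ⇑Q →* specialIsometryGL F ⇑Q :=
  ((isometryGroup F ⇑Q).subtype.comp (Omega F ⇑Q).subtype).codRestrict _ fun s =>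
    mem_SO.2 ⟨fun v => omVal_quad s v, det_omega s.2⟩

theorem omToSO_coe [Fintype F] (s : Om) : (((omToSO Q s : SO') : GL ι F) : Mn) = omVal s := rfl

theorem conj_eq_soHom [Fintype F] (s : Om) : MulAut.conj (π s) = soHom Q (omToSO Q s) := conj_eq_goHom s

section FieldMaps

variable (hR : Rat Q)
include hR

theorem gmap_mem_SO (σ : F ≃+* F) {g : GL ι F} (hg : g ∈ SO') : gmap σ g ∈ SO' := by
  refine mem_SO.2 ⟨fun v => ?_, ?_⟩
  · obtain ⟨w, rfl⟩ : ∃ w, σ ∘ w = v := ⟨σ.symm ∘ v, funext fun i => σ.apply_symm_apply _⟩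
    show Q ((g : Mn).map σ *ᵥ (σ ∘ w)) = _
    rw [map_comp_mulVec, hR, hR, (mem_SO.1 hg).1]
  · show ((g : Mn).map σ).det = 1
    rw [← RingEquiv.mapMatrix_apply, ← RingEquiv.map_det, (mem_SO.1 hg).2, map_one]

/-- A field automorphism on special isometries. -/
def soMap (σ : F ≃+* F) : specialIsometryGL F ⇑Q →* specialIsometryGL F ⇑Q :=
  ((gmap σ).comp (specialIsometryGL F ⇑Q).subtype).codRestrict _ fun g => gmap_mem_SO hR σ g.2

omit hR in
theorem soMap_coe (hR : Rat Q) (σ : F ≃+* F) (g : SO') :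
    ((soMap hR σ g : SO') : GL ι F) = gmap σ (g : GL ι F) := rfl

theorem soMap_soMap (σ τ : RingAut F) (g : SO') :
    soMap hR σ (soMap hR τ g) = soMap hR (σ * τ : RingAut F) g := Subtype.ext (gmap_gmap σ τ _)

theorem soMap_one (g : SO') : soMap hR (1 : RingAut F) g = g := Subtype.ext (gmap_one _)

theorem field_conj (σ : RingAut F) (g : SO') :
    fieldHom hR σ * soHom Q g = soHom Q (soMap hR σ g) * fieldHom hR σ := by
  rw [soHom_apply, soHom_apply]
  show poSemi (isPair_std hR σ) * _ = _ * poSemi (isPair_std hR σ)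
  rw [poSemi_mul (σ := σ) (τ := (1 : RingAut F)) _ (isPair_refl (isometry_mem_go (soIso g))),
    poSemi_mul (σ := (1 : RingAut F)) (τ := σ) (isPair_refl (isometry_mem_go (soIso (soMap hR σ g))))]
  refine poSemi_congr _ _ ?_ (by rw [mul_one, one_mul])
  rw [one_mul, gmap_one, mul_one]
  rfl

end FieldMaps

variable [Fintype F] (H : OddSpace Q)
include H

theorem soHom_injective : Function.Injective (soHom Q) := by
  refine (injective_iff_map_eq_one _).2 fun g hg => ?_
  rw [soHom_apply] at hg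
  obtain ⟨-, c, hc'⟩ := poSemi_eq_one H.nd H.tri H.good _ hg
  have hc : (((g : GL ι F)) : Mn) = c • (1 : Mn) := hc'
  obtain ⟨hq, hd⟩ := mem_SO.1 g.2
  rw [hc, Matrix.det_smul, Matrix.det_one, mul_one] at hd
  obtain ⟨e, f, P⟩ := exists_basePair H.nd H.tri
  have h2 := hq (e + f)
  rw [hc, Matrix.smul_mulVec, Matrix.one_mulVec, QuadraticMap.map_smul, quad_add, P.1, P.2.1, P.2.2] at h2
  simp only [zero_add, smul_eq_mul, mul_one] at h2
  obtain ⟨k, hk⟩ := H.odd
  rw [hk, pow_succ, pow_mul, sq, h2, one_pow, one_mul] at hd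
  exact Subtype.ext (Units.ext (by rw [hc, hd, one_smul]; rfl))

theorem omPi_injective : Function.Injective π := fun s t e => by
  have h1 := congrArg MulAut.conj e
  rw [conj_eq_soHom, conj_eq_soHom] at h1
  have h2 := congrArg (fun g : SO' => (((g : GL ι F)) : Mn)) (soHom_injective H h1)
  exact omVal_ext h2

/-- Every similarity is a scalar times a special isometry. -/
theorem similarity_eq_soHom (g : Geo.quadSimilarityGroup (F := F) ⇑Q) :
    ∃ s : SO', goHom Q g = soHom Q s := by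
  obtain ⟨c, hc⟩ := g.2
  set M : Mn := ((g : GL ι F) : Mn)
  have hd := det_sq_similarity H.nd hc
  obtain ⟨k, hk⟩ := H.odd
  rw [hk] at hd
  set r := M.det / (c : F) ^ k
  have hr : r * r = c := by
    rw [div_mul_div_comm, div_eq_iff (mul_ne_zero (pow_ne_zero _ c.ne_zero) (pow_ne_zero _ c.ne_zero))]
    linear_combination hd
  have hr0 : r ≠ 0 := fun h0 => c.ne_zero (by rw [← hr, h0, mul_zero])
  have hiso : ∀ s : F, s * s = c → ∀ v, Q ((s⁻¹ • M) *ᵥ v) = Q v := fun s hs v => by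
    have hs0 : s ≠ 0 := fun h0 => c.ne_zero (by rw [← hs, h0, mul_zero])
    rw [Matrix.smul_mulVec, QuadraticMap.map_smul, hc, smul_eq_mul, ← hs]
    field_simp
  obtain ⟨s, hs, hs1⟩ : ∃ s : F, s * s = c ∧ (s⁻¹ • M).det = 1 := by
    have h1 : (r⁻¹ • M).det * (r⁻¹ • M).det = 1 := by
      rw [← sq, det_sq_similarity H.nd (c := 1) (fun v => by rw [one_mul, hiso r hr]), one_pow]
    rcases mul_self_eq_one_iff.1 h1 with h | h
    · exact ⟨r, hr, h⟩
    · refine ⟨-r, by rw [neg_mul_neg, hr], ?_⟩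
      rw [Matrix.det_smul] at h ⊢
      rw [inv_neg, neg_pow, mul_assoc, h, H.odd.neg_one_pow]; ring
  have hs0 : s ≠ 0 := fun h0 => c.ne_zero (by rw [← hs, h0, mul_zero])
  set N : GL ι F := Matrix.GeneralLinearGroup.mkOfDetNeZero (s⁻¹ • M) (by rw [hs1]; exact one_ne_zero)
  refine ⟨⟨N, mem_SO.2 ⟨hiso s hs, hs1⟩⟩, ?_⟩
  have hsc : IsSemisimilarityPair (⇑Q) (Matrix.GeneralLinearGroup.scalar ι (Units.mk0 s hs0))
      (RingEquiv.refl F) := ⟨c, fun v => by
    rw [Matrix.GeneralLinearGroup.coe_scalar, Matrix.scalar_apply, ← Matrix.smul_one_eq_diagonal,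
      Matrix.smul_mulVec, Matrix.one_mulVec, QuadraticMap.map_smul, smul_eq_mul, Units.val_mk0, hs]
    rfl⟩
  have hN : (N : Mn) = s⁻¹ • M := rfl
  have hmul : (g : GL ι F) = Matrix.GeneralLinearGroup.scalar ι (Units.mk0 s hs0) * N := by
    refine Units.ext ?_
    rw [Units.val_mul, Matrix.GeneralLinearGroup.coe_scalar, Matrix.scalar_apply,
      ← Matrix.smul_eq_diagonal_mul, hN, Units.val_mk0, smul_smul, mul_inv_cancel₀ hs0, one_smul]
  have hcoe : goHom Q g = poSemi hsc * soHom Q ⟨N, mem_SO.2 ⟨hiso s hs, hs1⟩⟩ := by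
    rw [soHom_apply, poSemi_mul (σ := (1 : RingAut F)) (τ := (1 : RingAut F)) hsc, goHom_apply]
    exact poSemi_congr _ _ (by rw [gmap_one]; exact hmul) rfl
  rw [hcoe, poSemi_scalar hsc (c := s) (by
    rw [Matrix.GeneralLinearGroup.coe_scalar, Matrix.scalar_apply, Matrix.smul_one_eq_diagonal]; rfl), one_mul]

theorem pgoAut_eq_soHom : pgoAut F ⇑Q = (soHom Q).range := by
  refine le_antisymm ?_ ?_
  · rw [pgoAut_eq]
    rintro _ ⟨g, rfl⟩
    obtain ⟨s, hs⟩ := similarity_eq_soHom H g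
    exact ⟨s, hs.symm⟩
  · rw [pgoAut_eq]
    rintro _ ⟨s, rfl⟩
    exact ⟨⟨_, isometry_mem_go (soIso s)⟩, rfl⟩

theorem poSemi_decomp {g : GL ι F} {σ : RingAut F} (h : IsSemisimilarityPair (⇑Q) g σ) :
    ∃ s : SO', (poSemi h : MulAut PQ) = soHom Q s * fieldHom H.rat σ := by
  have hg : g ∈ Geo.quadSimilarityGroup (F := F) ⇑Q := by
    obtain ⟨c, hc⟩ := h
    refine ⟨c, fun v => ?_⟩
    obtain ⟨w, rfl⟩ : ∃ w, σ ∘ w = v := ⟨(σ : F ≃+* F).symm ∘ v, funext fun i => σ.apply_symm_apply _⟩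
    rw [H.rat σ w]
    exact hc w
  obtain ⟨s, hs⟩ := similarity_eq_soHom H ⟨g, hg⟩
  refine ⟨s, ?_⟩
  rw [← hs, goHom_apply]
  show _ = poSemi _ * poSemi (isPair_std H.rat σ)
  rw [poSemi_mul (σ := (1 : RingAut F)) (τ := σ) (isPair_refl hg)]
  exact poSemi_congr _ _ (by rw [gmap_one, mul_one]) (one_mul σ).symm

theorem soHom_mul_field_inj {s t : SO'} {σ τ : RingAut F}
    (e : soHom Q s * fieldHom H.rat σ = soHom Q t * fieldHom H.rat τ) : s = t ∧ σ = τ := by
  have h1 : soHom Q (t⁻¹ * s) * fieldHom H.rat (σ * τ⁻¹) = 1 := by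
    have h2 : (soHom Q t)⁻¹ * soHom Q s = fieldHom H.rat τ * (fieldHom H.rat σ)⁻¹ := by
      rw [inv_mul_eq_iff_eq_mul, ← mul_assoc, eq_mul_inv_iff_mul_eq]; exact e
    rw [map_mul, map_inv, h2, map_mul, map_inv, mul_assoc, inv_mul_cancel_left, mul_inv_cancel]
  have h2 : (poSemi (isPair_mul (σ := (1 : RingAut F)) (τ := σ * τ⁻¹)
      (isPair_refl (isometry_mem_go (soIso (t⁻¹ * s)))) (isPair_std H.rat _)) : MulAut PQ) = 1 := by
    rw [← poSemi_mul]; exact h1
  obtain ⟨hσ, -⟩ := poSemi_eq_one H.nd H.tri H.good _ h2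
  have hσ' : σ = τ := mul_inv_eq_one.1 ((one_mul _).symm.trans hσ)
  rw [hσ'] at e
  exact ⟨soHom_injective H (mul_right_cancel e), hσ'⟩

theorem decomp (β : MulAut PQ) : ∃ (s : SO') (σ : RingAut F), β = soHom Q s * fieldHom H.rat σ := by
  obtain ⟨p, hp⟩ := CharP.exists F
  haveI : Fact p.Prime := ⟨CharP.char_is_prime F p⟩
  obtain ⟨g, k, σ, τ, h, h', rfl⟩ := exists_param p H.nd H.tri H.good β
  obtain ⟨a, ha⟩ := poSemi_decomp H (σ := σ) h
  obtain ⟨b, hb⟩ := poSemi_decomp H (σ := τ) h'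
  refine ⟨soMap H.rat (σ⁻¹ : RingAut F) (a⁻¹ * b), (σ⁻¹ * τ : RingAut F), ?_⟩
  rw [ha, hb, _root_.mul_inv_rev, map_mul (fieldHom H.rat), ← mul_assoc (soHom Q _), ← field_conj, map_mul, map_inv,
    map_inv]
  group

/-! ### The spinor norm -/

/-- The spinor norm on `SO`. -/
noncomputable def spinSO (Q : QuadraticForm F (ι → F)) : specialIsometryGL F ⇑Q →* ℤˣ :=
  (theta Q).comp (MonoidHom.mk' soIso soIso_mul)

theorem spin_surjective : ∃ s : SO', spinSO Q s = -1 := by
  obtain ⟨ε, v, w, hv, hw, -, -, -, h⟩ := exists_two_refl H.two H.nd H.tri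
  refine ⟨⟨((refl hv * refl hw : OG) : GL ι F), mem_SO.2 ⟨ogVal_quad _, ?_⟩⟩, ?_⟩
  · show (ogVal (refl hv * refl hw)).det = 1
    rw [ogVal_mul, Matrix.det_mul, refl_det, refl_det]; ring
  · show theta Q (refl hv * refl hw) = -1
    rw [map_mul, h]

theorem spin_ker : (spinSO Q).ker = (omToSO Q).range := by
  ext g
  rw [MonoidHom.mem_ker, MonoidHom.mem_range]
  constructor
  · intro h
    have hg := (mem_omega_iff H.two H.nd H.tri (soIso g)).2 ⟨(mem_SO.1 g.2).2, h⟩
    exact ⟨⟨soIso g, hg⟩, Subtype.ext rfl⟩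
  · rintro ⟨s, rfl⟩
    exact theta_omega s.2

theorem natCard_SO : Nat.card SO' = 2 * Nat.card PQ := by
  rw [(spinSO Q).ker.card_eq_card_quotient_mul_card_subgroup,
    Nat.card_congr (QuotientGroup.quotientKerEquivOfSurjective (spinSO Q) (fun u => by
      rcases Int.units_eq_one_or u with rfl | rfl
      · exact ⟨1, map_one _⟩
      · exact spin_surjective H)).toEquiv,
    show Nat.card ℤˣ = 2 by rw [Nat.card_eq_fintype_card]; rfl,
    Nat.card_congr (MulEquiv.subgroupCongr (spin_ker H)).toEquiv,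
    Nat.card_congr (MonoidHom.ofInjective (f := omToSO Q) (fun s t e => omVal_ext
      (congrArg (fun g : SO' => ((g : GL ι F) : Mn)) e))).symm.toEquiv,
    Nat.card_congr (Equiv.ofBijective π ⟨omPi_injective H, omPi_surjective⟩)]

theorem spin_soMap (σ : RingAut F) (s : SO') : spinSO Q (soMap H.rat σ s) = spinSO Q s := by
  have key : ∀ (σ : RingAut F) (s : SO'), spinSO Q s = 1 → spinSO Q (soMap H.rat σ s) = 1 := by
    intro σ s hs
    rw [← MonoidHom.mem_ker, spin_ker H] at hs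
    obtain ⟨t, rfl⟩ := hs
    rw [← MonoidHom.mem_ker, spin_ker H]
    refine ⟨omSemi (isPair_std H.rat σ) t, Subtype.ext (Units.ext ?_)⟩
    rw [omToSO_coe, omSemi_coe, inv_one, Units.val_one, Matrix.one_mul, Matrix.mul_one]
    rfl
  rcases Int.units_eq_one_or (spinSO Q s) with h | h
  · rw [h, key σ s h]
  · rcases Int.units_eq_one_or (spinSO Q (soMap H.rat σ s)) with h' | h'
    · have := key σ⁻¹ _ h'
      rw [soMap_soMap, inv_mul_cancel, soMap_one, h] at this
      exact absurd this (by decide)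
    · rw [h, h']

/-! ### The whole group -/

theorem exists_outHom : ∃ Θ : MulAut PQ →* ℤˣ × RingAut F,
    Function.Surjective Θ ∧ Θ.ker = Inn PQ := by
  choose s σ hs using decomp H
  have huniq : ∀ (β : MulAut PQ) (t : SO') (τ : RingAut F), β = soHom Q t * fieldHom H.rat τ →
      s β = t ∧ σ β = τ := fun β t τ e => soHom_mul_field_inj H ((hs β).symm.trans e)
  let Θ : MulAut PQ →* ℤˣ × RingAut F := MonoidHom.mk' (fun β => (spinSO Q (s β), σ β)) fun β γ => by
    obtain ⟨e1, e2⟩ := huniq (β * γ) (s β * soMap H.rat (σ β) (s γ)) (σ β * σ γ) (by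
      conv_lhs => rw [hs β, hs γ]
      rw [map_mul, map_mul, mul_assoc (soHom Q (s β)), ← mul_assoc (fieldHom H.rat (σ β)), field_conj]
      group)
    refine Prod.ext ?_ e2
    show spinSO Q (s (β * γ)) = spinSO Q (s β) * spinSO Q (s γ)
    rw [e1, map_mul, spin_soMap H]
  refine ⟨Θ, fun ⟨u, τ⟩ => ?_, ?_⟩
  · obtain ⟨t, ht⟩ : ∃ t : SO', spinSO Q t = u := by
      rcases Int.units_eq_one_or u with rfl | rfl
      · exact ⟨1, map_one _⟩
      · exact spin_surjective H
    refine ⟨soHom Q t * fieldHom H.rat τ, ?_⟩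
    obtain ⟨e1, e2⟩ := huniq _ t τ rfl
    exact Prod.ext (by show spinSO Q (s _) = u; rw [e1, ht]) e2
  · ext β
    constructor
    · intro hβ
      have h' : (spinSO Q (s β), σ β) = (1, 1) := hβ
      have h1 : spinSO Q (s β) = 1 := congrArg Prod.fst h'
      have h2 : σ β = 1 := congrArg Prod.snd h'
      rw [← MonoidHom.mem_ker, spin_ker H] at h1
      obtain ⟨t, ht⟩ := h1
      exact ⟨π t, by rw [hs β, h2, map_one, mul_one, ← ht, conj_eq_soHom]⟩
    · rintro ⟨x, rfl⟩
      obtain ⟨t, rfl⟩ := omPi_surjective x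
      obtain ⟨e1, e2⟩ := huniq (MulAut.conj (π t)) (omToSO Q t) 1 (by rw [map_one, mul_one, conj_eq_soHom])
      refine MonoidHom.mem_ker.2 (Prod.ext ?_ e2)
      show spinSO Q (s _) = 1
      rw [e1, ← MonoidHom.mem_ker, spin_ker H]
      exact ⟨t, rfl⟩

theorem natCard_mulAut : Nat.card (MulAut PQ) = 2 * Nat.card (RingAut F) * Nat.card PQ := by
  obtain ⟨Θ, hs, hk⟩ := exists_outHom H
  rw [Θ.ker.card_eq_card_quotient_mul_card_subgroup,
    Nat.card_congr (QuotientGroup.quotientKerEquivOfSurjective Θ hs).toEquiv, Nat.card_prod,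
    Nat.card_congr (MulEquiv.subgroupCongr hk).toEquiv, natCard_Inn H.nd H.tri H.good,
    show Nat.card ℤˣ = 2 by rw [Nat.card_eq_fintype_card]; rfl]

theorem out_iso : Nonempty (Out PQ ≃* ℤˣ × RingAut F) := by
  obtain ⟨Θ, hs, hk⟩ := exists_outHom H
  exact ⟨(QuotientGroup.quotientMulEquivOfEq hk.symm).trans
    (QuotientGroup.quotientKerEquivOfSurjective Θ hs)⟩

omit H in
theorem oddSpace_qfOdd {m : ℕ} (hm : 3 ≤ m) (hodd : Odd (Fintype.card F)) : OddSpace (qfOdd m F) := by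
  have h2 : (2 : F) ≠ 0 := Ring.two_ne_zero fun h => by
    have := FiniteField.even_card_iff_char_two.1 h
    rw [Nat.odd_iff] at hodd; omega
  refine ⟨nondegenerate_qfOdd m h2, tri_qfOdd hm, good_qfOdd hm, h2, ⟨m, by simp; omega⟩, fun σ v => ?_⟩
  simp [qfOdd_apply, quadFormOdd, map_sum]

omit H in
/-- Anything stated for a quadratic form applies to the function `quadFormOdd`. -/
theorem odd_transfer {m : ℕ} (hm : 3 ≤ m) (hodd : Odd (Fintype.card F)) :
    ∃ Q : QuadraticForm F (Unit ⊕ (Fin m ⊕ Fin m) → F), ⇑Q = quadFormOdd m F ∧ OddSpace Q :=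
  ⟨qfOdd m F, coe_qfOdd m, oddSpace_qfOdd hm hodd⟩

end Cfsg.Agent.Classical.OrthAut
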