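import Cfsg.Agent.Lib.Classical.OrthEvenField

/-!
Transport along an isometry between two forms, and invariance of the inner-diagonal group under all
automorphisms.
-/

set_option autoImplicit false
set_option linter.unusedSectionVars false
set_option quotPrecheck false

namespace Cfsg.Agent.Classical.OrthAut

open Matrix Module Cfsg.Agent.Classical.Descent

variable {F : Type*} [Field F] [Fintype F] {ι ι' : Type} [Fintype ι] [DecidableEq ι] [Fintype ι']
  [DecidableEq ι'] {Q : QuadraticForm F (ι → F)} {Q' : QuadraticForm F (ι' → F)} {n : ℕ}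

local notation "GO" => Geo.quadSimilarityGroup (F := F) ⇑Q
local notation "GO'" => Geo.quadSimilarityGroup (F := F) ⇑Q'
local notation "OG" => isometryGroup F ⇑Q
local notation "OG'" => isometryGroup F ⇑Q'

/-- An isometry between two forms, as a pair of matrices. -/
structure IsoData (Q : QuadraticForm F (ι → F)) (Q' : QuadraticForm F (ι' → F)) where
  M : Matrix ι' ι F
  N : Matrix ι ι' F
  MN : M * N = 1
  NM : N * M = 1
  quad : ∀ v, Q' (M *ᵥ v) = Q v

namespace IsoData

variable (D : IsoData Q Q')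

/-- The inverse isometry. -/
def symm : IsoData Q' Q where
  M := D.N
  N := D.M
  MN := D.NM
  NM := D.MN
  quad v := by rw [← D.quad, Matrix.mulVec_mulVec, D.MN, Matrix.one_mulVec]

theorem polar (u v : ι → F) :
    QuadraticMap.polar ⇑Q' (D.M *ᵥ u) (D.M *ᵥ v) = QuadraticMap.polar ⇑Q u v := by
  simp only [QuadraticMap.polar, ← Matrix.mulVec_add, D.quad]

/-- Conjugation of invertible matrices. -/
def gl : GL ι F ≃* GL ι' F :=
  Units.mapEquiv
    { toFun := fun A => D.M * A * D.N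
      invFun := fun A => D.N * A * D.M
      left_inv := fun A => by
        simp only [Matrix.mul_assoc, D.NM, Matrix.mul_one]
        rw [← Matrix.mul_assoc, D.NM, Matrix.one_mul]
      right_inv := fun A => by
        simp only [Matrix.mul_assoc, D.MN, Matrix.mul_one]
        rw [← Matrix.mul_assoc, D.MN, Matrix.one_mul]
      map_mul' := fun A C => by
        simp only [Matrix.mul_assoc]
        rw [← Matrix.mul_assoc D.N D.M, D.NM, Matrix.one_mul] }

theorem gl_val (g : GL ι F) : (D.gl g : Matrix ι' ι' F) = D.M * (g : Matrix ι ι F) * D.N := rfl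

theorem gl_apply (g : GL ι F) (v : ι → F) :
    (D.gl g : Matrix ι' ι' F) *ᵥ (D.M *ᵥ v) = D.M *ᵥ ((g : Matrix ι ι F) *ᵥ v) := by
  rw [gl_val, Matrix.mulVec_mulVec, Matrix.mul_assoc, D.NM, Matrix.mul_one, Matrix.mulVec_mulVec]

theorem surj (w : ι' → F) : ∃ v, D.M *ᵥ v = w :=
  ⟨D.N *ᵥ w, by rw [Matrix.mulVec_mulVec, D.MN, Matrix.one_mulVec]⟩

theorem gl_mem_og {g : GL ι F} (hg : g ∈ OG) : D.gl g ∈ OG' := mem_isometryGroup.2 fun w => by
  obtain ⟨v, rfl⟩ := D.surj w
  rw [D.gl_apply, D.quad, D.quad, mem_isometryGroup.1 hg]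

theorem gl_mem_go {g : GL ι F} (hg : g ∈ GO) : D.gl g ∈ GO' := by
  obtain ⟨c, hc⟩ := hg
  refine ⟨c, fun w => ?_⟩
  obtain ⟨v, rfl⟩ := D.surj w
  rw [D.gl_apply, D.quad, D.quad, hc]

theorem symm_gl (g : GL ι F) : D.symm.gl (D.gl g) = g := D.gl.symm_apply_apply g

theorem gl_symm (g : GL ι' F) : D.gl (D.symm.gl g) = g := D.gl.apply_symm_apply g

/-- The isometry groups. -/
def og : OG ≃* OG' where
  toFun g := ⟨D.gl g, D.gl_mem_og g.2⟩
  invFun g := ⟨D.symm.gl g, D.symm.gl_mem_og g.2⟩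
  left_inv g := Subtype.ext (D.symm_gl g)
  right_inv g := Subtype.ext (D.gl_symm g)
  map_mul' g k := Subtype.ext (map_mul D.gl (g : GL ι F) k)

/-- The similarity groups. -/
def go : GO ≃* GO' where
  toFun g := ⟨D.gl g, D.gl_mem_go g.2⟩
  invFun g := ⟨D.symm.gl g, D.symm.gl_mem_go g.2⟩
  left_inv g := Subtype.ext (D.symm_gl g)
  right_inv g := Subtype.ext (D.gl_symm g)
  map_mul' g k := Subtype.ext (map_mul D.gl (g : GL ι F) k)

theorem og_map_omega : (Omega F ⇑Q).map D.og.toMonoidHom = Omega F ⇑Q' := by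
  show (commutator _).map _ = commutator _
  rw [commutator_def, Subgroup.map_commutator, Subgroup.map_top_of_surjective _ D.og.surjective, commutator_def]

/-- `Ω`. -/
noncomputable def om : Omega F ⇑Q ≃* Omega F ⇑Q' :=
  (D.og.subgroupMap (Omega F ⇑Q)).trans (MulEquiv.subgroupCongr D.og_map_omega)

theorem om_coe (t : Omega F ⇑Q) : ((D.om t : Omega F ⇑Q') : OG') = D.og (t : OG) := rfl

/-- `PΩ`. -/
noncomputable def po : POmega F ⇑Q ≃* POmega F ⇑Q' :=
  QuotientGroup.congr _ _ D.om (by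
    ext y
    rw [Subgroup.mem_map]
    constructor
    · rintro ⟨x, hx, rfl⟩
      refine Subgroup.mem_center_iff.2 fun z => ?_
      obtain ⟨w, rfl⟩ := D.om.surjective z
      show D.om w * D.om x = D.om x * D.om w
      rw [← map_mul, ← map_mul, Subgroup.mem_center_iff.1 hx w]
    · intro hy
      refine ⟨D.om.symm y, Subgroup.mem_center_iff.2 fun z => D.om.injective ?_, D.om.apply_symm_apply y⟩
      rw [map_mul, map_mul, MulEquiv.apply_symm_apply, Subgroup.mem_center_iff.1 hy (D.om z)])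

theorem po_pi (t : Omega F ⇑Q) : D.po (omPi t) = omPi (D.om t) := rfl

theorem om_symm_coe (t : Omega F ⇑Q') : omVal (D.om.symm t) = D.N * omVal t * D.M := by
  obtain ⟨s, rfl⟩ := D.om.surjective t
  rw [MulEquiv.symm_apply_apply]
  show omVal s = D.N * (D.M * omVal s * D.N) * D.M
  simp only [Matrix.mul_assoc, D.NM, Matrix.mul_one]
  rw [← Matrix.mul_assoc, D.NM, Matrix.one_mul]

/-- Automorphism groups. -/
noncomputable def aut : MulAut (POmega F ⇑Q) ≃* MulAut (POmega F ⇑Q') := MulAut.congr D.po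

theorem aut_goHom (g : GO) : D.aut (goHom Q g) = goHom Q' (D.go g) := by
  refine MulEquiv.ext fun x => ?_
  obtain ⟨t, rfl⟩ := omPi_surjective (Q := Q') x
  obtain ⟨s, rfl⟩ := D.om.surjective t
  show D.po (goHom Q g (D.po.symm (omPi (D.om s)))) = goHom Q' (D.go g) (omPi (D.om s))
  rw [← D.po_pi s, MulEquiv.symm_apply_apply, D.po_pi s, goHom_apply, goHom_apply, poSemi_pi, poSemi_pi,
    D.po_pi]
  refine congrArg omPi (omVal_ext ?_)
  show D.M * omVal (omSemi (isPair_refl g.2) s) * D.N = omVal (omSemi (isPair_refl (D.go g).2) (D.om s))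
  rw [omSemi_coe, omSemi_coe, show (omVal s).map (RingEquiv.refl F) = omVal s from Matrix.map_id _,
    show (omVal (D.om s)).map (RingEquiv.refl F) = omVal (D.om s) from Matrix.map_id _]
  show D.M * (((g : GL ι F) : Matrix ι ι F) * omVal s * (((g : GL ι F)⁻¹ : GL ι F) : Matrix ι ι F)) * D.N =
    (D.gl g : Matrix ι' ι' F) * (D.M * omVal s * D.N) * (((D.gl g)⁻¹ : GL ι' F) : Matrix ι' ι' F)
  rw [← map_inv, D.gl_val, D.gl_val]
  simp only [Matrix.mul_assoc]
  rw [← Matrix.mul_assoc D.N D.M, D.NM, Matrix.one_mul, ← Matrix.mul_assoc D.N D.M, D.NM, Matrix.one_mul]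

theorem og_refl (hv : ∀ {w : ι → F}, Q w ≠ 0 → Q' (D.M *ᵥ w) ≠ 0) {v : ι → F} (h : Q v ≠ 0) :
    D.og (refl h) = refl (hv h) := ogVal_ext (Matrix.ext_iff_mulVec.2 fun w => by
  obtain ⟨x, rfl⟩ := D.surj w
  show (D.gl (refl h : GL ι F) : Matrix ι' ι' F) *ᵥ _ = _
  rw [D.gl_apply, refl_apply, D.quad, D.polar]
  show D.M *ᵥ (ogVal (refl h) *ᵥ x) = _
  rw [refl_apply, Matrix.mulVec_sub, Matrix.mulVec_smul])

theorem dick_og (hQ : (QuadraticMap.polarBilin Q).Nondegenerate) (hT : Tri Q)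
    (hQ' : (QuadraticMap.polarBilin Q').Nondegenerate) (hT' : Tri Q') (g : OG) : dick (D.og g) = dick g := by
  have hg : g ∈ reflGroup Q := by rw [reflGroup_eq_top hQ hT]; trivial
  refine Subgroup.closure_induction (p := fun g _ => dick (D.og g) = dick g) ?_ ?_ ?_ ?_ hg
  · rintro _ ⟨v, hv, rfl⟩
    rw [D.og_refl (fun {w} h => by rw [D.quad]; exact h) hv, dick_refl hQ', dick_refl hQ]
  · rw [map_one, dick_one, dick_one]
  · intro x y _ _ hx hy
    rw [map_mul, dick_mul hQ' hT', dick_mul hQ hT, hx, hy]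
  · intro x _ hx
    rw [map_inv, show dick (D.og x)⁻¹ = dick (D.og x) from
        ((dickHom hQ' hT').map_inv _).trans (Int.units_inv_eq_self _),
      show dick x⁻¹ = dick x from ((dickHom hQ hT).map_inv x).trans (Int.units_inv_eq_self _), hx]

variable (H : EvenSpace Q n) (H' : EvenSpace Q' n)
include H H'

theorem mu_go (g : GO) : mu (D.go g) = mu g := H'.mu_eq fun w => by
  obtain ⟨v, rfl⟩ := D.surj w
  show Q' ((D.gl g : Matrix ι' ι' F) *ᵥ _) = _
  rw [D.gl_apply, D.quad, D.quad, mu_spec]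

theorem psgn_go (g : GO) : psgn n (D.go g) = psgn n g := by
  by_cases h2 : (2 : F) = 0
  · obtain ⟨s, h, -, hg⟩ := exists_norm_iso h2 g
    rw [H.psgn_eq_dick h2 hg, H'.psgn_eq_dick h2 (s := s) (h := D.og h),
      D.dick_og H.nd H.tri H'.nd H'.tri]
    show D.M * ((g : GL ι F) : Matrix ι ι F) * D.N = s • (D.M * ogVal h * D.N)
    rw [hg, Matrix.mul_smul, Matrix.smul_mul]
  · have : psgn n (D.go g) = 1 ↔ psgn n g = 1 := by
      rw [psgn_eq_one_iff_det h2, psgn_eq_one_iff_det h2, D.mu_go H H']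
      show (D.M * ((g : GL ι F) : Matrix ι ι F) * D.N).det = _ ↔ _
      rw [Matrix.det_conj_of_mul_eq_one D.MN D.NM]
    rcases Int.units_eq_one_or (psgn n g) with e | e
    · rw [this.2 e, e]
    · rw [e]
      exact (Int.units_eq_one_or _).resolve_left fun h => by
        rw [this.1 h] at e; exact absurd e (by decide)

theorem map_diagAut : H.diagAut.map D.aut.toMonoidHom = H'.diagAut := by
  ext β
  constructor
  · rintro ⟨_, ⟨g, hg, rfl⟩, rfl⟩
    exact ⟨D.go g, (D.psgn_go H H' g).trans hg, (D.aut_goHom g).symm⟩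
  · rintro ⟨g, hg, rfl⟩
    obtain ⟨k, rfl⟩ := D.go.surjective g
    exact ⟨_, ⟨k, (D.psgn_go H H' k).symm.trans hg, rfl⟩, D.aut_goHom k⟩

end IsoData

theorem nonempty_isoData {e : (ι → F) ≃ₗ[F] (ι' → F)} (he : ∀ v, Q' (e v) = Q v) :
    Nonempty (IsoData Q Q') :=
  ⟨{ M := LinearMap.toMatrix' e.toLinearMap
     N := LinearMap.toMatrix' e.symm.toLinearMap
     MN := by rw [← LinearMap.toMatrix'_comp, LinearEquiv.comp_coe, LinearEquiv.symm_trans_self]; exact LinearMap.toMatrix'_id
     NM := by rw [← LinearMap.toMatrix'_comp, LinearEquiv.comp_coe, LinearEquiv.self_trans_symm]; exact LinearMap.toMatrix'_id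
     quad := fun v => by rw [LinearMap.toMatrix'_mulVec]; exact he v }⟩

namespace EvenSpace

variable (H : EvenSpace Q n)
include H

/-- Conjugation by a semisimilarity preserves the sign. -/
theorem exists_conj_semi {k : GL ι F} {σ : RingAut F} (h : IsSemisimilarityPair (⇑Q) k σ) (g : GO) :
    ∃ g' : GO, (g' : GL ι F) = k * gmap σ (g : GL ι F) * k⁻¹ ∧
      (mu g' : F) = σ (mu g : F) ∧ psgn n g' = psgn n g := by
  obtain ⟨c, hc⟩ := h
  have hsim : ∀ w, Q ((k * gmap σ (g : GL ι F) * k⁻¹ : GL ι F) *ᵥ w) = σ (mu g : F) * Q w := by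
    intro w
    obtain ⟨u, rfl⟩ := semiFun_surjective k σ w
    have e : ((k * gmap σ (g : GL ι F) * k⁻¹ : GL ι F) : Matrix ι ι F) *ᵥ semiFun k σ u =
        semiFun k σ (((g : GL ι F) : Matrix ι ι F) *ᵥ u) := by
      rw [← semiFun_mulVec]; rfl
    rw [e, show Q (semiFun k σ _) = (c : F) * σ (Q _) from hc _, mu_spec, map_mul,
      show Q (semiFun k σ u) = (c : F) * σ (Q u) from hc u]
    ring
  refine ⟨⟨_, Units.map (σ : F ≃+* F).toMonoidHom (mu g), hsim⟩, rfl, ?_, ?_⟩
  · exact congrArg Units.val (H.mu_eq (d := Units.map (σ : F ≃+* F).toMonoidHom (mu g)) hsim)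
  set g' : GO := ⟨_, Units.map (σ : F ≃+* F).toMonoidHom (mu g), hsim⟩
  by_cases h2 : (2 : F) = 0
  · obtain ⟨s, u, -, hg⟩ := exists_norm_iso h2 g
    have key : ∀ u : OG, ∀ u' : OG, (u' : GL ι F) = k * gmap σ (u : GL ι F) * k⁻¹ → dick u' = dick u := by
      have hp : IsSemisimilarityPair (⇑Q) k σ := ⟨c, hc⟩
      intro u u' hu'
      have hu : u ∈ reflGroup Q := by rw [reflGroup_eq_top H.nd H.tri]; trivial
      have hmem : ∀ u : OG, (k * gmap σ (u : GL ι F) * k⁻¹ : GL ι F) ∈ OG := fun u =>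
        mem_isometryGroup.2 fun w => by
          obtain ⟨z, rfl⟩ := semiFun_surjective k σ w
          rw [show ((k * gmap σ (u : GL ι F) * k⁻¹ : GL ι F) : Matrix ι ι F) *ᵥ semiFun k σ z =
              semiFun k σ (ogVal u *ᵥ z) by rw [← semiFun_mulVec]; rfl,
            show Q (semiFun k σ _) = (c : F) * σ (Q _) from hc _, ogVal_quad]
          exact (hc z).symm
      let C : OG →* OG := MonoidHom.mk' (fun u => ⟨_, hmem u⟩) fun x y => Subtype.ext (by
        simp only [Subgroup.coe_mul, map_mul]; group)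
      rw [show u' = C u from Subtype.ext hu']
      refine Subgroup.closure_induction (p := fun u _ => dick (C u) = dick u) ?_ ?_ ?_ ?_ hu
      · rintro _ ⟨v, hv, rfl⟩
        have hw : Q (semiFun k σ v) = (c : F) * σ (Q v) := hc v
        have hw0 : Q (semiFun k σ v) ≠ 0 := by
          rw [hw]; exact mul_ne_zero c.ne_zero ((map_ne_zero σ).2 hv)
        obtain ⟨d, hG⟩ := semi_of_pair hp
        rw [show C (refl hv) = refl hw0 from ogVal_ext (Matrix.ext_iff_mulVec.2 fun w => by
          obtain ⟨z, rfl⟩ := semiFun_surjective k σ w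
          show ((k * gmap σ (refl hv : GL ι F) * k⁻¹ : GL ι F) : Matrix ι ι F) *ᵥ _ = _
          rw [show ((k * gmap σ (refl hv : GL ι F) * k⁻¹ : GL ι F) : Matrix ι ι F) *ᵥ semiFun k σ z =
              semiFun k σ (ogVal (refl hv) *ᵥ z) by rw [← semiFun_mulVec]; rfl,
            refl_apply, refl_apply, hG.polar, hG.quad, sub_eq_add_neg, hG.map_add, ← neg_smul, hG.map_smul,
            map_neg, neg_smul, ← sub_eq_add_neg, map_mul, map_inv₀, _root_.mul_inv_rev]
          congr 2
          field_simp [hG.ne]), dick_refl H.nd, dick_refl H.nd]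
      · rw [map_one, dick_one]
      · intro x y _ _ hx hy
        rw [map_mul, dick_mul H.nd H.tri, dick_mul H.nd H.tri, hx, hy]
      · intro x _ hx
        rw [map_inv, show dick (C x)⁻¹ = dick (C x) from
            ((dickHom H.nd H.tri).map_inv _).trans (Int.units_inv_eq_self _),
          show dick x⁻¹ = dick x from ((dickHom H.nd H.tri).map_inv x).trans (Int.units_inv_eq_self _), hx]
    have hmem : (k * gmap σ (u : GL ι F) * k⁻¹ : GL ι F) ∈ OG := mem_isometryGroup.2 fun w => by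
      obtain ⟨z, rfl⟩ := semiFun_surjective k σ w
      rw [show ((k * gmap σ (u : GL ι F) * k⁻¹ : GL ι F) : Matrix ι ι F) *ᵥ semiFun k σ z =
          semiFun k σ (ogVal u *ᵥ z) by rw [← semiFun_mulVec]; rfl,
        show Q (semiFun k σ _) = (c : F) * σ (Q _) from hc _, ogVal_quad]
      exact (hc z).symm
    rw [H.psgn_eq_dick h2 hg, H.psgn_eq_dick h2 (g := g') (s := σ s) (h := ⟨_, hmem⟩), key u ⟨_, hmem⟩ rfl]
    show (k : Matrix ι ι F) * ((g : GL ι F) : Matrix ι ι F).map σ * ((k⁻¹ : GL ι F) : Matrix ι ι F) =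
      σ s • ((k : Matrix ι ι F) * (ogVal u).map σ * ((k⁻¹ : GL ι F) : Matrix ι ι F))
    rw [hg, show (s • ogVal u).map σ = σ s • (ogVal u).map σ from Matrix.ext fun a b => by simp,
      Matrix.mul_smul, Matrix.smul_mul]
  · have hmu : (mu g' : F) = σ (mu g : F) :=
      congrArg Units.val (H.mu_eq (d := Units.map (σ : F ≃+* F).toMonoidHom (mu g)) hsim)
    have : psgn n g' = 1 ↔ psgn n g = 1 := by
      rw [psgn_eq_one_iff_det h2, psgn_eq_one_iff_det h2, hmu, ← map_pow]
      show ((k : Matrix ι ι F) * ((g : GL ι F) : Matrix ι ι F).map σ * ((k⁻¹ : GL ι F) : Matrix ι ι F)).det = _ ↔ _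
      rw [Matrix.det_conj_of_mul_eq_one (Units.mul_inv k) (Units.inv_mul k),
        show (((g : GL ι F) : Matrix ι ι F).map σ).det = σ ((g : GL ι F) : Matrix ι ι F).det from
          (RingHom.map_det (σ : F ≃+* F).toRingHom _).symm, (σ : F ≃+* F).injective.eq_iff]
    rcases Int.units_eq_one_or (psgn n g) with e | e
    · rw [this.2 e, e]
    · rw [e]
      exact (Int.units_eq_one_or _).resolve_left fun h => by
        rw [this.1 h] at e; exact absurd e (by decide)

/-- The inner-diagonal group is normal in the automorphism group. -/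
theorem diagAut_normal : (H.diagAut).Normal := by
  refine ⟨?_⟩
  rintro _ ⟨g, hg, rfl⟩ β
  obtain ⟨k, σ, h, rfl⟩ := H.exists_poSemi β
  obtain ⟨g', hg', -, hs⟩ := H.exists_conj_semi h g
  refine ⟨g', hs.trans hg, ?_⟩
  rw [eq_mul_inv_iff_mul_eq, goHom_apply, goHom_apply, poSemi_mul (σ := (1 : RingAut F)) (isPair_refl g'.2) h,
    poSemi_mul (τ := (1 : RingAut F)) h (isPair_refl g.2)]
  refine poSemi_congr _ _ ?_ (by rw [one_mul, mul_one])
  rw [gmap_one, hg', inv_mul_cancel_right]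

theorem map_congr_diagAut {H' : EvenSpace Q' n} (D : IsoData Q Q') (ψ : POmega F ⇑Q ≃* POmega F ⇑Q') :
    H.diagAut.map (MulAut.congr ψ).toMonoidHom = H'.diagAut := by
  haveI := H.diagAut_normal
  set θ : MulAut (POmega F ⇑Q) := ψ.trans D.po.symm
  have e : (MulAut.congr ψ).toMonoidHom = D.aut.toMonoidHom.comp (MulAut.conj θ).toMonoidHom := by
    refine MonoidHom.ext fun a => MulEquiv.ext fun x => ?_
    show ψ (a (ψ.symm x)) = D.po (D.po.symm (ψ (a (ψ.symm (D.po (D.po.symm x))))))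
    rw [D.po.apply_symm_apply, D.po.apply_symm_apply]
  rw [e, ← Subgroup.map_map]
  have h2 : H.diagAut.map (MulAut.conj θ).toMonoidHom = H.diagAut := Subgroup.Normal.map_conj_eq _ θ
  rw [h2, D.map_diagAut H H']

end EvenSpace

end Cfsg.Agent.Classical.OrthAut
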