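import Mathlib
import Cfsg.Prelude.Def_Classical
import Cfsg.Agent.Lib.Classical.OrthSpinor
import Cfsg.Agent.Lib.Classical.OrthGenApps
import Cfsg.Agent.Lib.Classical.OrthOdd
import Cfsg.Agent.Lib.Classical.OrthTransport
import Cfsg.Agent.Lib.Classical.QuadModels

/-!
Odd-dimensional orthogonal groups: transport to the model, membership in `Ω`, and commuting products of two
reflections of order two and of order the characteristic.
-/

set_option autoImplicit false

namespace Cfsg.Agent.Classical.PrimeGraphBC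

open Matrix Cfsg.Agent.Classical.OrthAut

variable {F : Type*} [Field F] [Fintype F] {ι : Type} [Fintype ι] [DecidableEq ι]

/-! ### The form of a symmetric matrix -/

/-- The quadratic form with polar matrix `M`. -/
noncomputable def qMat (M : Matrix ι ι F) : QuadraticForm F (ι → F) :=
  ((2 : F)⁻¹ • Matrix.toBilin' M).toQuadraticMap

theorem polarBilin_qMat (h2 : (2 : F) ≠ 0) {M : Matrix ι ι F} (hs : Mᵀ = M) :
    QuadraticMap.polarBilin (qMat M) = Matrix.toBilin' M := by
  have hBs : ∀ x y, Matrix.toBilin' M x y = Matrix.toBilin' M y x := fun x y => by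
    simp only [Matrix.toBilin'_apply']
    rw [Matrix.dotProduct_mulVec, dotProduct_comm]
    congr 1
    rw [← Matrix.mulVec_transpose, hs]
  refine LinearMap.ext fun x => LinearMap.ext fun y => ?_
  rw [qMat, QuadraticMap.polarBilin_apply_apply, LinearMap.BilinMap.polar_toQuadraticMap]
  simp only [LinearMap.smul_apply, smul_eq_mul]
  rw [hBs y x]
  field_simp
  ring

theorem nondegenerate_qMat (h2 : (2 : F) ≠ 0) {M : Matrix ι ι F} (hs : Mᵀ = M) (hd : M.det ≠ 0) :
    (QuadraticMap.polarBilin (qMat M)).Nondegenerate := by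
  rw [polarBilin_qMat h2 hs]
  exact LinearMap.BilinForm.nondegenerate_toBilin'_iff_det_ne_zero.2 hd

theorem qMat_mulVec {M G : Matrix ι ι F} (hG : Gᵀ * M * G = M) (v : ι → F) :
    qMat M (G *ᵥ v) = qMat M v := by
  show ((2 : F)⁻¹ • Matrix.toBilin' M) (G *ᵥ v) (G *ᵥ v) = ((2 : F)⁻¹ • Matrix.toBilin' M) v v
  simp only [LinearMap.smul_apply, Matrix.toBilin'_apply']
  conv_rhs => rw [← hG, ← Matrix.mulVec_mulVec, ← Matrix.mulVec_mulVec, Matrix.dotProduct_mulVec v Gᵀ,
    Matrix.vecMul_transpose]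

/-- A matrix fixing `M` as an isometry. -/
noncomputable def isoOf {M : Matrix ι ι F} (hd : M.det ≠ 0) (G : Matrix ι ι F) (hG : Gᵀ * M * G = M) :
    isometryGroup F ⇑(qMat M) :=
  mkIsometry G (fun h => by
    have h1 := congrArg Matrix.det hG
    rw [Matrix.det_mul, Matrix.det_mul, h, mul_zero] at h1
    exact hd h1.symm) (qMat_mulVec hG)

theorem ogVal_isoOf {M : Matrix ι ι F} (hd : M.det ≠ 0) (G : Matrix ι ι F) (hG : Gᵀ * M * G = M) :
    ogVal (isoOf hd G hG) = G := rfl

/-- The polar matrix. -/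
noncomputable def gram (Q : QuadraticForm F (ι → F)) : Matrix ι ι F :=
  LinearMap.BilinForm.toMatrix' (QuadraticMap.polarBilin Q)

theorem gram_facts {Q : QuadraticForm F (ι → F)} (hQ : (QuadraticMap.polarBilin Q).Nondegenerate) :
    (gram Q).det ≠ 0 ∧ ∀ g : isometryGroup F ⇑Q, (ogVal g)ᵀ * gram Q * ogVal g = gram Q := by
  refine ⟨?_, fun g => ?_⟩
  · exact Matrix.nondegenerate_iff_det_ne_zero.1 (LinearMap.BilinForm.nondegenerate_toMatrix'_iff.2 hQ)
  · refine Matrix.toBilin'.injective (LinearMap.ext fun u => LinearMap.ext fun v => ?_)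
    rw [Matrix.toBilin'_apply', ← Matrix.mulVec_mulVec, ← Matrix.mulVec_mulVec, Matrix.dotProduct_mulVec u,
      Matrix.vecMul_transpose, ← Matrix.toBilin'_apply', gram, Matrix.toBilin'_toMatrix']
    exact isometry_polar (ogVal_quad g) u v

/-! ### Transport to the model -/

theorem isometryGroup_smul {c : F} (hc : c ≠ 0) (Q : QuadraticForm F (ι → F)) :
    isometryGroup F ⇑(c • Q) = isometryGroup F ⇑Q := by
  ext g
  rw [mem_isometryGroup, mem_isometryGroup]
  refine forall_congr' fun u => ?_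
  simp [hc]

/-- Any non-degenerate form of dimension `2 n + 1` has the isometry group of the model. -/
theorem exists_mulEquiv_odd (h2 : (2 : F) ≠ 0) {Q : QuadraticForm F (ι → F)}
    (hQ : (QuadraticMap.polarBilin Q).Nondegenerate) {n : ℕ} (hn : Fintype.card ι = 2 * n + 1) :
    Nonempty (isometryGroup F ⇑Q ≃* isometryGroup F ⇑(qfOdd n F)) := by
  classical
  set Q₀ := qfOdd n F
  have hQ₀ : (QuadraticMap.polarBilin Q₀).Nondegenerate := nondegenerate_qfOdd n h2
  set g₀ := gramDet (QuadraticMap.polarBilin Q₀) (Pi.basisFun F (Unit ⊕ (Fin n ⊕ Fin n)))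
  set g₁ := gramDet (QuadraticMap.polarBilin Q) (Pi.basisFun F ι)
  set c := g₀ * g₁
  have hc : c ≠ 0 := mul_ne_zero (gramDet_ne_zero hQ₀ _) (gramDet_ne_zero hQ _)
  have hsm : QuadraticMap.polarBilin (c • Q₀) = c • QuadraticMap.polarBilin Q₀ := by
    refine LinearMap.ext fun x => LinearMap.ext fun y => ?_
    simp [QuadraticMap.polar_smul]
  have hQc : (QuadraticMap.polarBilin (c • Q₀)).Nondegenerate := by
    rw [hsm]
    exact LinearMap.BilinForm.nondegenerate_iff_det_ne_zero (Pi.basisFun F _) |>.2 (by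
      show gramDet (c • QuadraticMap.polarBilin Q₀) (Pi.basisFun F _) ≠ 0
      rw [gramDet_smul]
      exact mul_ne_zero (pow_ne_zero _ hc) (gramDet_ne_zero hQ₀ _))
  have hcard : Fintype.card (Unit ⊕ (Fin n ⊕ Fin n)) = Fintype.card ι := by
    simp only [Fintype.card_sum, Fintype.card_unit, Fintype.card_fin]; omega
  obtain ⟨L, hL⟩ := (isometric_iff_disc h2 hQ hQc (Pi.basisFun F ι) (Pi.basisFun F _) hcard.symm).2 (by
    rw [hsm, gramDet_smul, hcard, hn]
    exact ⟨c ^ (n + 1), by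
      show g₁ * (c ^ (2 * n + 1) * g₀) = _
      rw [show g₁ * (c ^ (2 * n + 1) * g₀) = c ^ (2 * n + 1) * (g₀ * g₁) by ring]
      ring⟩)
  obtain ⟨D⟩ := nonempty_isoData (Q := Q) (Q' := c • Q₀) hL
  exact ⟨D.og.trans (MulEquiv.subgroupCongr (isometryGroup_smul hc Q₀))⟩

theorem omega_map_le {H : Type*} [Group H] {Q : QuadraticForm F (ι → F)} (φ : isometryGroup F ⇑Q →* H)
    {g : isometryGroup F ⇑Q} (hg : g ∈ Omega F ⇑Q) : φ g ∈ commutator H := by
  have h : (commutator (isometryGroup F ⇑Q)).map φ ≤ commutator H := by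
    rw [commutator_def, commutator_def, Subgroup.map_commutator]
    exact Subgroup.commutator_mono le_top le_top
  exact h (Subgroup.mem_map_of_mem φ hg)

theorem to_pomega (h2 : (2 : F) ≠ 0) (hodd : Odd (Fintype.card F)) {Q : QuadraticForm F (ι → F)}
    (hQ : (QuadraticMap.polarBilin Q).Nondegenerate) {n : ℕ} (h3 : 3 ≤ n) (hn : Fintype.card ι = 2 * n + 1)
    {g : isometryGroup F ⇑Q} (hg : g ∈ Omega F ⇑Q) :
    ∃ y : POmega F (quadFormOdd n F), orderOf y = orderOf g := by
  obtain ⟨φ⟩ := exists_mulEquiv_odd h2 hQ hn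
  rw [← coe_qfOdd]
  let g' : Omega F ⇑(qfOdd n F) := ⟨φ g, omega_map_le φ.toMonoidHom hg⟩
  refine ⟨omPi g', ?_⟩
  rw [orderOf_injective _ (omPi_injective (oddSpace_qfOdd h3 hodd)), ← Subgroup.orderOf_coe]
  exact MulEquiv.orderOf_eq φ g

theorem of_pomega (hodd : Odd (Fintype.card F)) {n : ℕ} (h3 : 3 ≤ n) (y : POmega F (quadFormOdd n F)) :
    ∃ g : isometryGroup F ⇑(qfOdd n F), g ∈ Omega F ⇑(qfOdd n F) ∧ orderOf g = orderOf y := by
  revert y
  rw [← coe_qfOdd]
  intro y
  obtain ⟨s, rfl⟩ := omPi_surjective y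
  refine ⟨s.1, s.2, ?_⟩
  rw [orderOf_injective _ (omPi_injective (oddSpace_qfOdd h3 hodd)), Subgroup.orderOf_coe]

/-! ### Membership in `Ω` -/

variable {Q : QuadraticForm F (ι → F)}

theorem odd_mem_omega (h2 : (2 : F) ≠ 0) (hQ : (QuadraticMap.polarBilin Q).Nondegenerate)
    {g : isometryGroup F ⇑Q} {N : ℕ} (hN : Odd N) (hg : g ^ N = 1) : g ∈ Omega F ⇑Q := by
  rw [omega_eq_ker hQ (genQ_odd hQ h2), MonoidHom.mem_ker]
  set u := invHom hQ (genQ_odd hQ h2) g with hu
  have h1 : u ^ N = 1 := by rw [hu, ← map_pow, hg, map_one]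
  have hsq : u ^ 2 = 1 := Prod.ext (Int.units_sq _) (Int.units_sq _)
  obtain ⟨k, rfl⟩ := hN
  rwa [pow_succ, pow_mul, hsq, one_pow, one_mul] at h1

theorem mem_omega_of_det (h2 : (2 : F) ≠ 0) (hQ : (QuadraticMap.polarBilin Q).Nondegenerate)
    {g : isometryGroup F ⇑Q} (hd : (ogVal g).det = 1) (hs : spin g = 1) : g ∈ Omega F ⇑Q := by
  refine (mem_omega_gen hQ (genQ_odd hQ h2) g).2 ⟨?_, hs⟩
  rw [det_eq_dick_gen hQ (genQ_odd hQ h2) g] at hd
  rcases Int.units_eq_one_or (dick g) with e | e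
  · exact e
  · rw [e] at hd
    simp at hd
    exact absurd (show (2 : F) = 0 by linear_combination -hd) h2

theorem det_of_mem_omega (h2 : (2 : F) ≠ 0) (hQ : (QuadraticMap.polarBilin Q).Nondegenerate)
    {g : isometryGroup F ⇑Q} (hg : g ∈ Omega F ⇑Q) : (ogVal g).det = 1 := by
  rw [det_eq_dick_gen hQ (genQ_odd hQ h2) g, ((mem_omega_gen hQ (genQ_odd hQ h2) g).1 hg).1]
  simp

theorem pair_mem_omega (h2 : (2 : F) ≠ 0) (hQ : (QuadraticMap.polarBilin Q).Nondegenerate) {v w : ι → F}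
    (hv : Q v ≠ 0) (hw : Q w ≠ 0) (h : Q v = Q w) : refl hv * refl hw ∈ Omega F ⇑Q := by
  refine mem_omega_of_det h2 hQ ?_ ?_
  · rw [ogVal_mul, Matrix.det_mul, refl_det, refl_det]; ring
  · rw [spin_mul hQ, spin_refl hQ, spin_refl hQ, h, Int.units_mul_self]

theorem refl_commute {v w : ι → F} (hv : Q v ≠ 0) (hw : Q w ≠ 0) (h : QuadraticMap.polar ⇑Q v w = 0) :
    Commute (refl hv) (refl hw) := by
  have e : ogVal (refl hv) *ᵥ w = w := by rw [refl_apply, h, mul_zero, zero_smul, sub_zero]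
  have h1 := refl_conj (refl hv) hw (by rwa [e])
  have h2 : refl (Q := Q) (v := ogVal (refl hv) *ᵥ w) (by rwa [e]) = refl hw :=
    refl_congr _ _ (c := 1) (by rw [e, one_smul])
  rw [h2] at h1
  exact mul_inv_eq_iff_eq_mul.1 h1

/-- A product of two orthogonal reflections has order two. -/
theorem pair_order_two (h2 : (2 : F) ≠ 0) {v w : ι → F} (hv : Q v ≠ 0) (hw : Q w ≠ 0)
    (h : QuadraticMap.polar ⇑Q v w = 0) : orderOf (refl hv * refl hw) = 2 := by
  haveI := Fact.mk Nat.prime_two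
  refine orderOf_eq_prime ?_ ?_
  · rw [(refl_commute hv hw h).mul_pow, sq, sq, refl_mul_self, refl_mul_self, one_mul]
  · intro h1
    have h3 := congrArg (fun g => ogVal g *ᵥ v) h1
    simp only [ogVal_mul, ← Matrix.mulVec_mulVec, ogVal_one, Matrix.one_mulVec] at h3
    rw [refl_apply hw, QuadraticMap.polar_comm, h, mul_zero, zero_smul, sub_zero, refl_apply hv, polar_self2,
      show (Q v)⁻¹ * (2 * Q v) = 2 by field_simp, sub_eq_self] at h3
    rcases smul_eq_zero.1 h3 with h4 | h4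
    · exact h2 h4
    · exact hv (by rw [h4, QuadraticMap.map_zero])

/-- A product of the reflections in `v` and `v + a`, with `a` singular and orthogonal to `v`, has order `p`. -/
theorem pair_order_char (p : ℕ) [Fact p.Prime] [CharP F p] (h2 : (2 : F) ≠ 0) {v a : ι → F}
    (hv : Q v = 1) (ha : Q a = 0) (ha0 : a ≠ 0) (hva : QuadraticMap.polar ⇑Q v a = 0)
    (hw : Q (v + a) ≠ 0) :
    orderOf (refl (Q := Q) (v := v) (by rw [hv]; exact one_ne_zero) * refl hw) = p := by
  have hv' : Q v ≠ 0 := by rw [hv]; exact one_ne_zero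
  set g := refl (Q := Q) (v := v) (by rw [hv]; exact one_ne_zero) * refl hw
  have hQw : Q (v + a) = 1 := by
    rw [QuadraticMap.map_add (⇑Q), hv, ha, hva]; ring
  have hvv : QuadraticMap.polar ⇑Q v v = 2 := by rw [polar_self2, hv, mul_one]
  have haa : QuadraticMap.polar ⇑Q a a = 0 := by rw [polar_self2, ha, mul_zero]
  have hav : QuadraticMap.polar ⇑Q a v = 0 := by rw [QuadraticMap.polar_comm]; exact hva
  have happ : ∀ x, (ogVal g - 1) *ᵥ x =
      (-(QuadraticMap.polar ⇑Q v x + QuadraticMap.polar ⇑Q a x)) • a + QuadraticMap.polar ⇑Q a x • v := by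
    intro x
    rw [Matrix.sub_mulVec, Matrix.one_mulVec, show ogVal g = _ from ogVal_mul _ _, ← Matrix.mulVec_mulVec,
      refl_apply hw, refl_apply, hv, hQw, inv_one, one_mul, one_mul, QuadraticMap.polar_add_left,
      QuadraticMap.polar_sub_right, QuadraticMap.polar_smul_right, QuadraticMap.polar_add_right, hvv, hva,
      smul_eq_mul]
    match_scalars <;> ring
  have hNa : (ogVal g - 1) *ᵥ a = 0 := by simp [happ, hva, haa]
  have hNv : (ogVal g - 1) *ᵥ v = (-2 : F) • a := by simp [happ, hvv, hav]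
  have hN3 : (ogVal g - 1) ^ 3 = 0 := by
    refine Matrix.ext_iff_mulVec.2 fun x => ?_
    rw [Matrix.zero_mulVec, pow_succ, sq, ← Matrix.mulVec_mulVec, ← Matrix.mulVec_mulVec, happ x,
      Matrix.mulVec_add, Matrix.mulVec_smul, Matrix.mulVec_smul, hNa, hNv, smul_zero, zero_add,
      Matrix.mulVec_smul, Matrix.mulVec_smul, hNa, smul_zero, smul_zero]
  refine orderOf_eq_prime (ogVal_ext ?_) ?_
  · have hval : ∀ k, ogVal (g ^ k) = ogVal g ^ k := fun k => by
      induction k with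
      | zero => simp
      | succ k ih => rw [pow_succ, ogVal_mul, ih, pow_succ]
    rcases isEmpty_or_nonempty ι with hι | hι
    · exact Subsingleton.elim _ _
    rw [hval, ogVal_one, ← sub_eq_zero]
    have h := sub_pow_char_of_commute p (Commute.one_right (ogVal g))
    rw [one_pow] at h
    rw [← h]
    exact pow_eq_zero_of_le (by
      have h3 : p ≠ 2 := by
        rintro rfl
        exact h2 (by exact_mod_cast CharP.cast_eq_zero F 2)
      have := (Fact.out : p.Prime).two_le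
      omega) hN3
  · intro h1
    have h3 := hNv
    rw [h1, ogVal_one, sub_self, Matrix.zero_mulVec] at h3
    rcases smul_eq_zero.1 h3.symm with h4 | h4
    · exact h2 (by linear_combination -h4)
    · exact ha0 h4

/-! ### Orthogonal sums -/

variable {κ : Type} [Fintype κ] [DecidableEq κ] {R : QuadraticForm F (κ → F)}

theorem embL_injective : Function.Injective (embL Q R) := by
  intro g k h
  have h1 := congrArg ogVal h
  rw [embL_val, embL_val, Matrix.fromBlocks_inj] at h1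
  exact ogVal_ext h1.1

theorem embR_injective : Function.Injective (embR Q R) := by
  intro g k h
  have h1 := congrArg ogVal h
  rw [embR_val, embR_val, Matrix.fromBlocks_inj] at h1
  exact ogVal_ext h1.2.2.2

theorem embL_embR_commute (g : isometryGroup F ⇑Q) (k : isometryGroup F ⇑R) :
    Commute (embL Q R g) (embR Q R k) :=
  ogVal_ext (by simp [ogVal_mul, embL_val, embR_val, Matrix.fromBlocks_multiply])

theorem det_embL (g : isometryGroup F ⇑Q) : (ogVal (embL Q R g)).det = (ogVal g).det := by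
  rw [embL_val, Matrix.det_fromBlocks_zero₁₂, Matrix.det_one, mul_one]

/-- The spinor norm does not change under extension by the identity. -/
theorem spin_embL (h2 : (2 : F) ≠ 0) (hQ : (QuadraticMap.polarBilin Q).Nondegenerate)
    (hR : (QuadraticMap.polarBilin R).Nondegenerate) (g : isometryGroup F ⇑Q) :
    spin (embL Q R g) = spin g := by
  have hS := nondegenerate_sumQ hQ hR
  have hg : g ∈ reflGroup Q := by rw [reflGroup_eq_top_gen hQ (genQ_odd hQ h2)]; trivial
  refine (Subgroup.closure_le (MonoidHom.eqLocus ((spinHom hS).comp (embL Q R)) (spinHom hQ))).2 ?_ hg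
  rintro _ ⟨v, hv, rfl⟩
  show spin (embL Q R (refl hv)) = spin (refl hv)
  rw [embL_refl, spin_refl hS, spin_refl hQ, quad_elim_left]

/-! ### Elements of the model -/

theorem polar_qfOdd (k : ℕ) (u v : Unit ⊕ (Fin k ⊕ Fin k) → F) :
    QuadraticMap.polar ⇑(qfOdd k F) u v = 2 * (u (.inl ()) * v (.inl ())) +
      ∑ i, (u (.inr (.inl i)) * v (.inr (.inr i)) + v (.inr (.inl i)) * u (.inr (.inr i))) := by
  simp only [QuadraticMap.polar, qfOdd_apply, quadFormOdd, Pi.add_apply]
  have h : ∀ i : Fin k, (u (.inr (.inl i)) + v (.inr (.inl i))) * (u (.inr (.inr i)) + v (.inr (.inr i))) -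
      u (.inr (.inl i)) * u (.inr (.inr i)) - v (.inr (.inl i)) * v (.inr (.inr i)) =
      u (.inr (.inl i)) * v (.inr (.inr i)) + v (.inr (.inl i)) * u (.inr (.inr i)) := fun i => by ring
  rw [← Finset.sum_congr rfl fun i _ => h i, Finset.sum_sub_distrib, Finset.sum_sub_distrib]
  ring

/-- The anisotropic vector. -/
noncomputable def vec0 (k : ℕ) (F : Type*) [Field F] : Unit ⊕ (Fin k ⊕ Fin k) → F := Pi.single (.inl ()) 1

/-- A singular vector. -/
noncomputable def vecX {k : ℕ} (F : Type*) [Field F] (i : Fin k) : Unit ⊕ (Fin k ⊕ Fin k) → F :=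
  Pi.single (.inr (.inl i)) 1

/-- A vector of value one in the `i`-th plane. -/
noncomputable def vecH {k : ℕ} (F : Type*) [Field F] (i : Fin k) : Unit ⊕ (Fin k ⊕ Fin k) → F :=
  Pi.single (.inr (.inl i)) 1 + Pi.single (.inr (.inr i)) 1

theorem vec_values {k : ℕ} (i j : Fin k) :
    qfOdd k F (vec0 k F) = 1 ∧ qfOdd k F (vecX F i) = 0 ∧ qfOdd k F (vecH F i) = 1 ∧
    qfOdd k F (vec0 k F + vecX F i) = 1 ∧
    QuadraticMap.polar ⇑(qfOdd k F) (vec0 k F) (vecX F i) = 0 ∧
    QuadraticMap.polar ⇑(qfOdd k F) (vec0 k F) (vecH F i) = 0 ∧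
    (i ≠ j → QuadraticMap.polar ⇑(qfOdd k F) (vecH F i) (vecH F j) = 0 ∧
      QuadraticMap.polar ⇑(qfOdd k F) (vecX F i) (vecH F j) = 0) := by
  refine ⟨?_, ?_, ?_, ?_, ?_, ?_, fun hij => ⟨?_, ?_⟩⟩ <;>
    simp [qfOdd_apply, quadFormOdd, polar_qfOdd, vec0, vecX, vecH, Pi.single_apply, Sum.inl.injEq,
      Sum.inr.injEq]
  all_goals first
    | exact Ne.symm hij
    | simp [hij, Ne.symm hij]

/-- In dimension at least three there are elements of order two and of order `p` in `Ω`. -/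
theorem exists_pairs_model (p : ℕ) [Fact p.Prime] [CharP F p] (h2 : (2 : F) ≠ 0) {k : ℕ} (hk : 1 ≤ k) :
    (∃ t ∈ Omega F ⇑(qfOdd k F), orderOf t = 2) ∧ ∃ u ∈ Omega F ⇑(qfOdd k F), orderOf u = p := by
  have hQ : (QuadraticMap.polarBilin (qfOdd k F)).Nondegenerate := nondegenerate_qfOdd k h2
  obtain ⟨a1, a2, a3, a4, a5, a6, -⟩ := vec_values (F := F) (⟨0, hk⟩ : Fin k) ⟨0, hk⟩
  have hv : qfOdd k F (vec0 k F) ≠ 0 := by rw [a1]; exact one_ne_zero
  refine ⟨⟨refl hv * refl (v := vecH F ⟨0, hk⟩) (by rw [a3]; exact one_ne_zero),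
      pair_mem_omega h2 hQ _ _ (a1.trans a3.symm), pair_order_two h2 _ _ a6⟩, ?_⟩
  refine ⟨refl hv * refl (v := vec0 k F + vecX F ⟨0, hk⟩) (by rw [a4]; exact one_ne_zero),
    pair_mem_omega h2 hQ _ _ (a1.trans a4.symm), pair_order_char p h2 a1 a2 ?_ a5 _⟩
  intro h
  have := congrFun h (.inr (.inl ⟨0, hk⟩))
  simp [vecX] at this

/-- In dimension at least seven there is an element of order `2 p` in `Ω`. -/
theorem exists_two_p_model (p : ℕ) [Fact p.Prime] [CharP F p] (h2 : (2 : F) ≠ 0) {k : ℕ} (hk : 3 ≤ k) :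
    ∃ g ∈ Omega F ⇑(qfOdd k F), orderOf g = 2 * p := by
  have hQ : (QuadraticMap.polarBilin (qfOdd k F)).Nondegenerate := nondegenerate_qfOdd k h2
  set i0 : Fin k := ⟨0, by omega⟩
  set i1 : Fin k := ⟨1, by omega⟩
  set i2 : Fin k := ⟨2, by omega⟩
  obtain ⟨a1, a2, -, a4, a5, -, -⟩ := vec_values (F := F) i0 i0
  obtain ⟨-, -, b3, -, -, b6, b7⟩ := vec_values (F := F) i1 i2
  obtain ⟨-, -, c3, -, -, c6, -⟩ := vec_values (F := F) i2 i2
  obtain ⟨-, -, -, -, -, -, d7⟩ := vec_values (F := F) i0 i1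
  obtain ⟨-, -, -, -, -, -, e7⟩ := vec_values (F := F) i0 i2
  have h01 : i0 ≠ i1 := by simp [i0, i1, Fin.ext_iff]
  have h02 : i0 ≠ i2 := by simp [i0, i2, Fin.ext_iff]
  have h12 : i1 ≠ i2 := by simp [i1, i2, Fin.ext_iff]
  have hv : qfOdd k F (vec0 k F) ≠ 0 := by rw [a1]; exact one_ne_zero
  have hw : qfOdd k F (vec0 k F + vecX F i0) ≠ 0 := by rw [a4]; exact one_ne_zero
  have hb : qfOdd k F (vecH F i1) ≠ 0 := by rw [b3]; exact one_ne_zero
  have hc : qfOdd k F (vecH F i2) ≠ 0 := by rw [c3]; exact one_ne_zero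
  have hu : orderOf (refl hv * refl hw) = p := pair_order_char p h2 a1 a2 (fun h => by
    have := congrFun h (.inr (.inl i0))
    simp [vecX] at this) a5 _
  have ht : orderOf (refl hb * refl hc) = 2 := pair_order_two h2 hb hc (b7 h12).1
  have wb : QuadraticMap.polar ⇑(qfOdd k F) (vec0 k F + vecX F i0) (vecH F i1) = 0 := by
    rw [QuadraticMap.polar_add_left, b6, (d7 h01).2, add_zero]
  have wc : QuadraticMap.polar ⇑(qfOdd k F) (vec0 k F + vecX F i0) (vecH F i2) = 0 := by
    rw [QuadraticMap.polar_add_left, c6, (e7 h02).2, add_zero]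
  have hcomm : Commute (refl hb * refl hc) (refl hv * refl hw) :=
    (((refl_commute hv hb b6).mul_left (refl_commute hw hb wb)).mul_right
      ((refl_commute hv hc c6).mul_left (refl_commute hw hc wc))).symm
  refine ⟨(refl hb * refl hc) * (refl hv * refl hw), mul_mem (pair_mem_omega h2 hQ hb hc (b3.trans c3.symm))
    (pair_mem_omega h2 hQ hv hw (a1.trans a4.symm)), ?_⟩
  rw [hcomm.orderOf_mul_eq_mul_orderOf_of_coprime ?_, ht, hu]
  rw [ht, hu]
  refine (Nat.coprime_primes Nat.prime_two (Fact.out)).2 ?_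
  rintro rfl
  exact h2 (by exact_mod_cast CharP.cast_eq_zero F 2)

end Cfsg.Agent.Classical.PrimeGraphBC
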