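import Cfsg.Agent.Lib.Classical.OrthAutStructure

/-!
`Ω(Q)` has index two in `SO(Q)` in odd characteristic: reflections generate, there are two classes of
them, and the sign of the permutation of the vectors of value one separates the two.
-/

set_option autoImplicit false
set_option linter.unusedSectionVars false
set_option quotPrecheck false

namespace Cfsg.Agent.Classical.OrthAut

open Matrix
open scoped commutatorElement

variable {F : Type*} [Field F] {ι : Type} [Fintype ι] [DecidableEq ι] {Q : QuadraticForm F (ι → F)}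

local notation "V" => (ι → F)
local notation "Mn" => Matrix ι ι F
local notation "B" => QuadraticMap.polar ⇑Q
local notation "OG" => isometryGroup F ⇑Q

/-- The matrix of an isometry. -/
def ogVal (g : isometryGroup F ⇑Q) : Mn := ((g : GL ι F) : Mn)

theorem ogVal_ext {g k : OG} (h : ogVal g = ogVal k) : g = k := Subtype.ext (Units.ext h)

@[simp] theorem ogVal_mul (g k : OG) : ogVal (g * k) = ogVal g * ogVal k := rfl

@[simp] theorem ogVal_one : ogVal (1 : OG) = 1 := rfl

theorem ogVal_quad (g : OG) (x : V) : Q (ogVal g *ᵥ x) = Q x := mem_isometryGroup.1 g.2 x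

theorem ogVal_inv_cancel (g : OG) (x : V) : ogVal g⁻¹ *ᵥ (ogVal g *ᵥ x) = x := by
  rw [Matrix.mulVec_mulVec, ← ogVal_mul, inv_mul_cancel, ogVal_one, Matrix.one_mulVec]

theorem ogVal_cancel_inv (g : OG) (x : V) : ogVal g *ᵥ (ogVal g⁻¹ *ᵥ x) = x := by
  rw [Matrix.mulVec_mulVec, ← ogVal_mul, mul_inv_cancel, ogVal_one, Matrix.one_mulVec]

/-- The reflection in an anisotropic vector. -/
noncomputable def refl {v : V} (hv : Q v ≠ 0) : isometryGroup F ⇑Q :=
  mkIsometry (reflectionMatrix ⇑Q v) (by rw [det_reflection Q hv]; exact neg_ne_zero.2 one_ne_zero)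
    (reflection_preserves Q hv)

theorem refl_apply {v : V} (hv : Q v ≠ 0) (x : V) :
    ogVal (refl hv) *ᵥ x = x - ((Q v)⁻¹ * B v x) • v := reflectionMatrix_mulVec Q v x

theorem refl_det {v : V} (hv : Q v ≠ 0) : (ogVal (refl hv)).det = -1 := det_reflection Q hv

theorem refl_mul_self {v : V} (hv : Q v ≠ 0) : refl hv * refl hv = 1 := by
  refine ogVal_ext (Matrix.ext_iff_mulVec.2 fun x => ?_)
  rw [ogVal_mul, ← Matrix.mulVec_mulVec, refl_apply, refl_apply, ogVal_one, Matrix.one_mulVec,
    QuadraticMap.polar_sub_right, QuadraticMap.polar_smul_right, polar_self2, smul_eq_mul]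
  match_scalars <;> field_simp <;> ring

theorem refl_congr {v w : V} (hv : Q v ≠ 0) (hw : Q w ≠ 0) {c : F} (h : w = c • v) : refl hv = refl hw := by
  refine ogVal_ext (Matrix.ext_iff_mulVec.2 fun x => ?_)
  subst h
  have hc : c ≠ 0 := fun h0 => hw (by rw [h0, zero_smul, QuadraticMap.map_zero])
  rw [refl_apply, refl_apply, QuadraticMap.map_smul, QuadraticMap.polar_smul_left, smul_eq_mul, smul_eq_mul,
    smul_smul]
  match_scalars <;> field_simp

theorem refl_conj (g : OG) {v : V} (hv : Q v ≠ 0) (hgv : Q (ogVal g *ᵥ v) ≠ 0) :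
    g * refl hv * g⁻¹ = refl hgv := by
  refine ogVal_ext (Matrix.ext_iff_mulVec.2 fun x => ?_)
  obtain ⟨y, rfl⟩ : ∃ y, ogVal g *ᵥ y = x := ⟨_, ogVal_cancel_inv g x⟩
  rw [ogVal_mul, ogVal_mul, ← Matrix.mulVec_mulVec, ← Matrix.mulVec_mulVec, ogVal_inv_cancel, refl_apply,
    refl_apply, ogVal_quad, isometry_polar (ogVal_quad g), Matrix.mulVec_sub, Matrix.mulVec_smul]

variable (h2 : (2 : F) ≠ 0)
include h2

omit [Fintype ι] [DecidableEq ι] in
theorem ne_neg_self {x : V} (hx : x ≠ 0) : x ≠ -x := fun h => hx (by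
  have : (2 : F) • x = 0 := by linear_combination (norm := module) h
  exact (smul_eq_zero.1 this).resolve_left h2)

variable (hQ : (QuadraticMap.polarBilin Q).Nondegenerate)
include hQ

theorem exists_orth_basis : ∃ (n : ℕ) (b : Module.Basis (Fin n) F V),
    (∀ i j, i ≠ j → B (b i) (b j) = 0) ∧ ∀ i, Q (b i) ≠ 0 := by
  haveI : Invertible (2 : F) := invertibleOfNonzero h2
  obtain ⟨b, hb⟩ := LinearMap.BilinForm.exists_orthogonal_basis
    (show LinearMap.IsSymm (QuadraticMap.polarBilin Q) from ⟨fun x y => QuadraticMap.polar_comm _ x y⟩)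
  refine ⟨_, b, fun i j hij => hb hij, fun i h0 => b.ne_zero i (eq_zero_of_polar hQ fun z => ?_)⟩
  have h1 : QuadraticMap.polarBilin Q (b i) = 0 := b.ext fun j => by
    by_cases hij : i = j
    · subst hij
      show B (b i) (b i) = 0
      exact polar_self' h0
    · exact hb hij
  exact LinearMap.congr_fun h1 z

/-- Reflections generate. -/
theorem reflections_generate (g : OG) :
    g ∈ Subgroup.closure {r | ∃ (v : V) (hv : Q v ≠ 0), r = refl hv} := by
  classical
  obtain ⟨n, b, hb, hb0⟩ := exists_orth_basis h2 hQ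
  set H := Subgroup.closure {r : OG | ∃ (v : V) (hv : Q v ≠ 0), r = refl hv}
  have hr : ∀ {v : V} (hv : Q v ≠ 0), refl hv ∈ H := fun hv => Subgroup.subset_closure ⟨_, hv, rfl⟩
  suffices h : ∀ k : ℕ, ∃ h ∈ H, ∀ i : Fin n, (i : ℕ) < k → ogVal (h * g) *ᵥ b i = b i by
    obtain ⟨h, hh, hfix⟩ := h n
    have h1 : h * g = 1 := ogVal_ext (Matrix.ext_iff_mulVec.2 fun x => by
      have : Matrix.mulVecLin (ogVal (h * g)) = LinearMap.id := b.ext fun i => hfix i i.2
      rw [ogVal_one, Matrix.one_mulVec]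
      exact LinearMap.congr_fun this x)
    rw [show g = h⁻¹ from (eq_inv_of_mul_eq_one_right h1)]
    exact inv_mem hh
  intro k
  induction k with
  | zero => exact ⟨1, one_mem _, fun i hi => absurd hi (by omega)⟩
  | succ k ih =>
    obtain ⟨h, hh, hfix⟩ := ih
    by_cases hk : k < n
    swap
    · exact ⟨h, hh, fun i _ => hfix i (by have := i.2; omega)⟩
    set x := b ⟨k, hk⟩ with hx
    set y := ogVal (h * g) *ᵥ x
    have hyq : Q y = Q x := ogVal_quad _ x
    have hyo : ∀ i : Fin n, (i : ℕ) < k → B (b i) y = 0 := fun i hi => by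
      rw [← hfix i hi, isometry_polar (ogVal_quad _)]
      exact hb _ _ fun e => by rw [e] at hi; simp at hi
    have hxo : ∀ i : Fin n, (i : ℕ) < k → B (b i) x = 0 := fun i hi =>
      hb _ _ fun e => by rw [e] at hi; simp at hi
    have fixes : ∀ (v : V) (hv : Q v ≠ 0), (∀ i : Fin n, (i : ℕ) < k → B (b i) v = 0) →
        ∀ i : Fin n, (i : ℕ) < k → ogVal (refl hv) *ᵥ b i = b i := fun v hv ho i hi => by
      rw [refl_apply, QuadraticMap.polar_comm _ v, ho i hi, mul_zero, zero_smul, sub_zero]
    have done : ∀ r ∈ H, (∀ i : Fin n, (i : ℕ) < k → ogVal r *ᵥ b i = b i) → ogVal r *ᵥ y = x →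
        ∃ h ∈ H, ∀ i : Fin n, (i : ℕ) < k + 1 → ogVal (h * g) *ᵥ b i = b i := fun r hrH hr1 hr2 =>
      ⟨r * h, mul_mem hrH hh, fun i hi => by
        rw [mul_assoc, ogVal_mul, ← Matrix.mulVec_mulVec]
        rcases Nat.lt_succ_iff_lt_or_eq.1 hi with hi' | hi'
        · rw [hfix i hi', hr1 i hi']
        · rw [show i = ⟨k, hk⟩ from Fin.ext hi']; exact hr2⟩
    by_cases hd : Q (y - x) = 0
    · have hs : Q (y + x) = 4 * Q x := by
        rw [sub_eq_add_neg, ← neg_one_smul F x, quad_add_smul, hyq] at hd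
        rw [quad_add, hyq]
        linear_combination -hd
      have hs0 : Q (y + x) ≠ 0 := by
        rw [hs]; exact mul_ne_zero (by rw [show (4 : F) = 2 * 2 by norm_num]; exact mul_ne_zero h2 h2) (hb0 _)
      have hBs : B (y + x) y = Q (y + x) := by
        rw [hs, QuadraticMap.polar_add_left, polar_self2, hyq, QuadraticMap.polar_comm _ x y]
        rw [quad_add, hyq] at hs
        linear_combination hs
      refine done (refl (v := x) (hb0 _) * refl hs0) (mul_mem (hr _) (hr _)) (fun i hi => ?_) ?_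
      · rw [ogVal_mul, ← Matrix.mulVec_mulVec, fixes _ hs0 (fun j hj => by
          rw [QuadraticMap.polar_add_right, hyo j hj, hxo j hj, add_zero]) i hi, fixes _ _ hxo i hi]
      · rw [ogVal_mul, ← Matrix.mulVec_mulVec, refl_apply hs0, hBs, inv_mul_cancel₀ hs0, one_smul,
          show y - (y + x) = -x by abel, refl_apply, QuadraticMap.polar_neg_right, polar_self2]
        match_scalars
        have hq : Q x ≠ 0 := hb0 _
        field_simp
        ring
    · refine done (refl hd) (hr _) (fixes _ hd fun j hj => by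
        rw [QuadraticMap.polar_sub_right, hyo j hj, hxo j hj, sub_zero]) ?_
      have hB : B (y - x) y = Q (y - x) := by
        rw [QuadraticMap.polar_sub_left, polar_self2, sub_eq_add_neg y x, ← neg_one_smul F x, quad_add_smul,
          hyq, QuadraticMap.polar_comm _ x y]
        ring
      rw [refl_apply, hB, inv_mul_cancel₀ hd, one_smul]; abel

theorem refl_class {v w : V} (hv : Q v ≠ 0) (hw : Q w ≠ 0) (h : IsSquare (Q v / Q w)) :
    ∃ g : OG, refl hw = g * refl hv * g⁻¹ := by
  obtain ⟨c, hc⟩ := h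
  have hc0 : c ≠ 0 := fun h0 => by
    rw [h0, mul_zero, div_eq_zero_iff] at hc
    exact hc.elim hv hw
  have hcw : Q (c • w) = Q v := by
    rw [QuadraticMap.map_smul, smul_eq_mul, ← hc, div_mul_cancel₀ _ hw]
  have hinj : ∀ x : V, x ≠ 0 → Function.Injective (LinearMap.toSpanSingleton F V x) :=
    fun x hx a b h => smul_left_injective F hx h
  obtain ⟨M, hMd, hM, hMu⟩ := exists_isometry_map hQ (LinearMap.toSpanSingleton F V v)
    (LinearMap.toSpanSingleton F V (c • w)) (hinj v fun h0 => hv (by rw [h0, QuadraticMap.map_zero]))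
    (hinj _ fun h0 => hv (by rw [← hcw, h0, QuadraticMap.map_zero]))
    (fun u => by simp only [LinearMap.toSpanSingleton_apply, QuadraticMap.map_smul] at *; rw [hcw])
  set g : OG := mkIsometry M hMd hM
  have hgv : ogVal g *ᵥ v = c • w := by
    show M *ᵥ v = _
    simpa using hMu 1
  refine ⟨g, ?_⟩
  rw [refl_conj g hv (by rw [hgv, hcw]; exact hv)]
  exact refl_congr hw _ hgv

variable [Fintype F]

omit h2 hQ in
/-- The action on the vectors of value one. -/
noncomputable instance valueOneAction : MulAction (isometryGroup F ⇑Q) {x : ι → F // Q x = 1} where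
  smul g x := ⟨ogVal g *ᵥ x.1, by rw [ogVal_quad]; exact x.2⟩
  one_smul x := Subtype.ext (Matrix.one_mulVec x.1)
  mul_smul g k x := Subtype.ext (by
    show ogVal (g * k) *ᵥ x.1 = ogVal g *ᵥ (ogVal k *ᵥ x.1)
    rw [ogVal_mul, Matrix.mulVec_mulVec])

omit h2 hQ in
/-- The sign of the permutation of the vectors of value one. -/
noncomputable def theta (Q : QuadraticForm F (ι → F)) : isometryGroup F ⇑Q →* ℤˣ :=
  by classical exact Equiv.Perm.sign.comp (MulAction.toPermHom (isometryGroup F ⇑Q) {x : ι → F // Q x = 1})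

omit h2 hQ in
theorem theta_refl {v : V} (hv : Q v ≠ 0) : theta Q (refl hv) =
    (-1) ^ ((Nat.card {x : V // Q x = 1} - Nat.card {x : V // Q x = 1 ∧ B v x = 0}) / 2) := by
  classical
  show Equiv.Perm.sign _ = _
  rw [Equiv.Perm.sign_of_pow_two_eq_one]
  swap
  · rw [← map_pow, sq, refl_mul_self, map_one]
  congr 2
  rw [← Nat.card_eq_fintype_card, ← Nat.card_eq_fintype_card]
  congr 1
  have hv0 : v ≠ 0 := fun h0 => hv (by rw [h0, QuadraticMap.map_zero])
  exact Nat.card_congr
    { toFun := fun x => ⟨x.1.1, x.1.2, by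
        have h1 : ogVal (refl hv) *ᵥ x.1.1 = x.1.1 := congrArg Subtype.val x.2
        rw [refl_apply, sub_eq_self, smul_eq_zero, mul_eq_zero, inv_eq_zero] at h1
        exact (h1.resolve_right hv0).resolve_left hv⟩
      invFun := fun x => ⟨⟨x.1, x.2.1⟩, Subtype.ext (show ogVal (refl hv) *ᵥ x.1 = x.1 by
        rw [refl_apply, x.2.2, mul_zero, zero_smul, sub_zero])⟩
      left_inv := fun x => rfl
      right_inv := fun x => rfl }

omit hQ in
theorem even_roots {t c : F} (hc : c ≠ 0) : 2 ∣ Nat.card {a : F // t * (a * a) = c} := by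
  classical
  have : (Finset.univ.filter fun a : F => t * (a * a) = c).card ≡ 0 [MOD 2] := by
    rw [← ZMod.natCast_eq_natCast_iff, Finset.card_eq_sum_ones, Nat.cast_sum, Nat.cast_zero]
    refine Finset.sum_involution (fun a _ => -a) (fun a _ => by decide) (fun a ha _ h => ?_)
      (fun a ha => by simpa using ha) (fun a _ => neg_neg a)
    simp only [Finset.mem_filter, Finset.mem_univ, true_and] at ha
    have : a = 0 := mul_left_cancel₀ h2 (by linear_combination -h)
    exact hc (by rw [← ha, this]; ring)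
  rw [Nat.card_eq_fintype_card, Fintype.card_subtype]
  exact Nat.modEq_zero_iff_dvd.1 this

/-- Modulo four the fixed count of a reflection is a constant plus a binary count. -/
theorem fix_count {e f : V} (P : Pair Q e f) {t : F} (ht : t ≠ 0) :
    (Nat.card {x : V // Q x = 1 ∧ B (e + t • f) x = 0} : ZMod 4) =
      (Nat.card {x : V // Q x = 1 ∧ Perp Q e f x} : ZMod 4) + Nat.card {a : F // -(t * (a * a)) = 1} := by
  classical
  set U := {u : V // Perp Q e f u}
  let eqv : {x : V // Q x = 1 ∧ B (e + t • f) x = 0} ≃ Σ u : U, {a : F // Q u.1 - t * (a * a) = 1} :=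
    { toFun := fun x => ⟨⟨proj Q e f x.1, perp_proj P _⟩, B f x.1, by
        have hp := perp_proj P x.1
        have h1 := x.2.1
        have h2 := x.2.2
        rw [QuadraticMap.polar_add_left, QuadraticMap.polar_smul_left, smul_eq_mul] at h2
        rw [pair_decomp P x.1, quad_add, quad_lin, P.1, P.2.1, P.2.2, polar_lin_left, hp.1, hp.2] at h1
        show Q (proj Q e f x.1) - t * (B f x.1 * B f x.1) = 1
        linear_combination h1 - B f x.1 * h2⟩
      invFun := fun s => ⟨s.2.1 • e + (-(t * s.2.1)) • f + s.1.1, by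
        refine ⟨?_, ?_⟩
        · rw [quad_add, quad_lin, P.1, P.2.1, P.2.2, polar_lin_left, s.1.2.1, s.1.2.2]
          linear_combination s.2.2
        · simp only [QuadraticMap.polar_add_left, QuadraticMap.polar_smul_left, QuadraticMap.polar_add_right,
            QuadraticMap.polar_smul_right, polar_self' P.1, polar_self' P.2.1, P.2.2,
            QuadraticMap.polar_comm _ f e, s.1.2.1, s.1.2.2, smul_eq_mul]
          ring⟩
      left_inv := fun x => Subtype.ext (by
        have h2 := x.2.2
        rw [QuadraticMap.polar_add_left, QuadraticMap.polar_smul_left, smul_eq_mul] at h2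
        show B f x.1 • e + (-(t * B f x.1)) • f + proj Q e f x.1 = x.1
        rw [show -(t * B f x.1) = B e x.1 by linear_combination -h2]
        exact (pair_decomp P x.1).symm)
      right_inv := fun s => by
        obtain ⟨⟨u, hu⟩, a, ha⟩ := s
        have e1 : B f (a • e + (-(t * a)) • f + u) = a := by
          simp [QuadraticMap.polar_add_right, QuadraticMap.polar_smul_right, polar_self' P.2.1,
            QuadraticMap.polar_comm _ f e, P.2.2, hu.2]
        have e2 : B e (a • e + (-(t * a)) • f + u) = -(t * a) := by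
          simp [QuadraticMap.polar_add_right, QuadraticMap.polar_smul_right, polar_self' P.1, P.2.2, hu.1]
        refine Sigma.subtype_ext (Subtype.ext ?_) e1
        show proj Q e f _ = u
        rw [proj, e1, e2]; module }
  have hsplit : ∀ u : U, Nat.card {a : F // Q u.1 - t * (a * a) = 1} =
      (if Q u.1 = 1 then 1 else 0) + Nat.card {a : F // Q u.1 - t * (a * a) = 1 ∧ a ≠ 0} := by
    intro u
    rw [Nat.card_eq_fintype_card, Nat.card_eq_fintype_card, Fintype.card_subtype, Fintype.card_subtype,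
      ← Finset.filter_filter, ← Finset.card_filter_add_card_filter_not (p := fun a : F => a = 0)]
    congr 1
    rw [Finset.filter_filter]
    split_ifs with hu
    · rw [Finset.card_eq_one]; refine ⟨0, Finset.ext fun a => ?_⟩
      simp only [Finset.mem_filter, Finset.mem_univ, true_and, Finset.mem_singleton]
      exact ⟨fun h => h.2, fun h => ⟨by rw [h, hu]; ring, h⟩⟩
    · rw [Finset.card_eq_zero]; refine Finset.filter_eq_empty_iff.2 fun a _ => ?_
      rintro ⟨h1, rfl⟩
      exact hu (by linear_combination h1)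
  let z : U := ⟨0, Perp.zero⟩
  let neg : U → U := fun u => ⟨(-1 : F) • u.1, u.2.smul _⟩
  set φ : U → ZMod 4 := fun u => (Nat.card {a : F // Q u.1 - t * (a * a) = 1 ∧ a ≠ 0} : ZMod 4) with hφ
  have hrest : ∑ u ∈ Finset.univ.erase z, φ u = 0 := by
    refine Finset.sum_involution (fun u _ => neg u) (fun u _ => ?_) (fun u hu _ h => ?_) (fun u hu => ?_)
      (fun u _ => Subtype.ext (by simp [neg]))
    · have he : φ (neg u) = φ u := by simp [hφ, neg]
      rw [he]
      by_cases hu1 : Q u.1 = 1
      · have hem : IsEmpty {a : F // Q u.1 - t * (a * a) = 1 ∧ a ≠ 0} :=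
          ⟨fun a => a.2.2 (mul_self_eq_zero.1 ((mul_eq_zero.1
            (show t * (a.1 * a.1) = 0 by linear_combination hu1 - a.2.1)).resolve_left ht))⟩
        simp only [hφ]; rw [Nat.card_of_isEmpty, Nat.cast_zero, add_zero]
      · obtain ⟨j, hj⟩ : 2 ∣ Nat.card {a : F // Q u.1 - t * (a * a) = 1 ∧ a ≠ 0} := by
          rw [Nat.card_congr (Equiv.subtypeEquivRight (q := fun a : F => t * (a * a) = Q u.1 - 1) fun a =>
            ⟨fun h => by linear_combination -h.1, fun h => ⟨by linear_combination -h, fun ha => hu1 (by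
              rw [ha] at h; linear_combination -h)⟩⟩)]
          exact even_roots h2 (sub_ne_zero.2 hu1)
        simp only [hφ, hj, Nat.cast_mul, Nat.cast_ofNat]
        rw [← add_mul, show (2 : ZMod 4) + 2 = 0 by decide, zero_mul]
    · refine ne_neg_self h2 (fun h0 => Finset.ne_of_mem_erase hu (Subtype.ext h0)) ?_
      have := congrArg Subtype.val h
      simpa [neg] using this.symm
    · refine Finset.mem_erase.2 ⟨fun h0 => Finset.ne_of_mem_erase hu ?_, Finset.mem_univ _⟩
      exact Subtype.ext (neg_eq_zero.1 (by simpa [neg, z] using congrArg Subtype.val h0))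
  rw [Nat.card_congr eqv, Nat.card_sigma, Nat.cast_sum,
    Finset.sum_congr rfl (fun u _ => congrArg (Nat.cast : ℕ → ZMod 4) (hsplit u))]
  simp only [Nat.cast_add, Finset.sum_add_distrib]
  congr 1
  · rw [← Nat.cast_sum]
    congr 1
    rw [← Finset.card_filter, ← Fintype.card_subtype, ← Nat.card_eq_fintype_card]
    exact Nat.card_congr
      { toFun := fun u => ⟨u.1.1, u.2, u.1.2⟩
        invFun := fun x => ⟨⟨x.1, x.2.2⟩, x.2.1⟩
        left_inv := fun u => rfl
        right_inv := fun x => rfl }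
  · rw [← Finset.add_sum_erase _ _ (Finset.mem_univ z), show ∑ u ∈ Finset.univ.erase z,
      ((Nat.card {a : F // Q u.1 - t * (a * a) = 1 ∧ a ≠ 0} : ZMod 4)) = 0 from hrest, add_zero]
    congr 1
    refine Nat.card_congr (Equiv.subtypeEquivRight fun a => ?_)
    show Q (0 : V) - _ = 1 ∧ a ≠ 0 ↔ _
    rw [QuadraticMap.map_zero, zero_sub]
    exact ⟨fun h => h.1, fun h => ⟨h, fun ha => by rw [ha] at h; simp at h⟩⟩

omit h2 hQ in
theorem units_commute (a b : ℤˣ) : a * b = b * a := mul_comm a b

omit h2 hQ in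
/-- `Ω` lies in the kernel of every sign. -/
theorem theta_omega {g : OG} (hg : g ∈ Omega F ⇑Q) : theta Q g = 1 :=
  (Abelianization.commutator_subset_ker (theta Q)) hg

omit h2 hQ in
theorem det_omega {g : OG} (hg : g ∈ Omega F ⇑Q) : (ogVal g).det = 1 := by
  have h := (Abelianization.commutator_subset_ker
    (Matrix.GeneralLinearGroup.det.comp (isometryGroup F ⇑Q).subtype)) hg
  exact congrArg Units.val h

/-- Reflections with equal square classes agree modulo `Ω`. -/
theorem refl_mod {v w : V} (hv : Q v ≠ 0) (hw : Q w ≠ 0) (h : IsSquare (Q v / Q w)) :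
    refl hv * refl hw ∈ Omega F ⇑Q := by
  obtain ⟨g, hg⟩ := refl_class h2 hQ hv hw h
  have h1 : ⁅refl hv, g⁆ ∈ Omega F ⇑Q :=
    Subgroup.commutator_mem_commutator (Subgroup.mem_top _) (Subgroup.mem_top _)
  rw [hg]
  rw [commutatorElement_def, show (refl hv)⁻¹ = refl hv from inv_eq_of_mul_eq_one_right (refl_mul_self hv)]
    at h1
  simpa [mul_assoc] using h1

/-- The two kinds of reflections are told apart by `theta`. -/
theorem exists_two_refl (hT : Tri Q) : ∃ (ε : F) (v w : V) (hv : Q v ≠ 0) (hw : Q w ≠ 0),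
    ¬ IsSquare ε ∧ Q v = 1 ∧ Q w = ε ∧ theta Q (refl hv) * theta Q (refl hw) = -1 := by
  classical
  obtain ⟨ε, hε⟩ := FiniteField.exists_nonsquare (F := F)
    (fun hc => h2 (by haveI := ringChar.of_eq hc; exact CharTwo.two_eq_zero))
  have hε0 : ε ≠ 0 := fun h0 => hε (h0 ▸ IsSquare.zero)
  obtain ⟨e, f, P⟩ := exists_basePair hQ hT
  have hQt : ∀ t : F, Q (e + t • f) = t := fun t => by
    rw [quad_add_smul, P.1, P.2.1, P.2.2]; ring
  have hv : Q (e + (1 : F) • f) ≠ 0 := by rw [hQt]; exact one_ne_zero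
  have hw : Q (e + ε • f) ≠ 0 := by rw [hQt]; exact hε0
  refine ⟨ε, _, _, hv, hw, hε, hQt 1, hQt ε, ?_⟩
  have two : ∀ c : F, (∃ a : F, a * a = c) → c ≠ 0 → Nat.card {a : F // a * a = c} = 2 := by
    rintro c ⟨r, rfl⟩ hc
    have hr : r ≠ 0 := fun h0 => hc (by rw [h0, mul_zero])
    rw [Nat.card_eq_two_iff]
    refine ⟨⟨r, rfl⟩, ⟨-r, by ring⟩, fun h => hr ?_, Set.eq_univ_iff_forall.2 fun a => ?_⟩
    · have h' : r = -r := congrArg Subtype.val h
      exact mul_left_cancel₀ h2 (by linear_combination h')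
    · rcases mul_self_eq_mul_self_iff.1 a.2 with h | h
      · exact Or.inl (Subtype.ext h)
      · exact Or.inr (Subtype.ext h)
  have none' : ∀ c : F, (¬∃ a : F, a * a = c) → Nat.card {a : F // a * a = c} = 0 := fun c hc => by
    haveI : IsEmpty {a : F // a * a = c} := ⟨fun a => hc ⟨a.1, a.2⟩⟩
    exact Nat.card_of_isEmpty
  have e1 : Nat.card {a : F // -((1 : F) * (a * a)) = 1} = Nat.card {a : F // a * a = -1} :=
    Nat.card_congr (Equiv.subtypeEquivRight fun a =>
      ⟨fun h => by linear_combination -h, fun h => by linear_combination -h⟩)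
  have e2 : Nat.card {a : F // -(ε * (a * a)) = 1} = Nat.card {a : F // a * a = -ε⁻¹} :=
    Nat.card_congr (Equiv.subtypeEquivRight fun a => by
      constructor <;> intro h
      · rw [neg_eq_iff_eq_neg.1 h |> fun h' => (eq_div_iff hε0).2 (by linear_combination h' : a * a * ε = -1)]
        rw [neg_div, one_div]
      · rw [h, mul_neg, neg_neg, mul_inv_cancel₀ hε0])
  set N := Nat.card {x : V // Q x = 1}
  set A := Nat.card {x : V // Q x = 1 ∧ B (e + (1 : F) • f) x = 0}
  set A' := Nat.card {x : V // Q x = 1 ∧ B (e + ε • f) x = 0}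
  have hA : A ≤ N := Nat.card_le_card_of_injective (fun x => (⟨x.1, x.2.1⟩ : {x : V // Q x = 1}))
    fun x y h => Subtype.ext (congrArg (fun z : {x : V // Q x = 1} => z.1) h)
  have hA' : A' ≤ N := Nat.card_le_card_of_injective (fun x => (⟨x.1, x.2.1⟩ : {x : V // Q x = 1}))
    fun x y h => Subtype.ext (congrArg (fun z : {x : V // Q x = 1} => z.1) h)
  have c1 := fix_count h2 hQ P (t := 1) one_ne_zero
  have c2 := fix_count h2 hQ P (t := ε) hε0
  rw [e1] at c1
  rw [e2] at c2
  have hmod : (A + 2) % 4 = A' % 4 := by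
    refine (ZMod.natCast_eq_natCast_iff' (A + 2) A' 4).1 ?_
    rw [Nat.cast_add, c1, c2]
    by_cases hs : IsSquare (-1 : F)
    · obtain ⟨r, hr⟩ := hs
      rw [two _ ⟨r, hr.symm⟩ (neg_ne_zero.2 one_ne_zero), none' (-ε⁻¹) fun ⟨a, ha⟩ => hε ⟨r * a⁻¹, by
        have ha0 : a ≠ 0 := fun h0 => by rw [h0, mul_zero] at ha; exact inv_ne_zero hε0 (neg_eq_zero.1 ha.symm)
        field_simp
        have hae : a * a * ε = -1 := by rw [ha]; field_simp
        linear_combination hae + hr⟩]
      rw [add_assoc]; congr 1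
    · rw [none' (-1 : F) fun ⟨a, ha⟩ => hs ⟨a, ha.symm⟩, two (-ε⁻¹) ?_ (neg_ne_zero.2 (inv_ne_zero hε0))]
      · simp
      · obtain ⟨c, hc⟩ := isSquare_of_two_nonsquares h2 (a := (-1 : F)) (b := ε⁻¹) hs
          (fun h => hε (by simpa using h.inv))
        exact ⟨c, by rw [← hc]; ring⟩
  rw [theta_refl, theta_refl, ← pow_add]
  refine Odd.neg_one_pow ?_
  rw [Nat.odd_iff]
  omega

/-- `Ω` is the common kernel of the determinant and `theta`. -/
theorem mem_omega_iff (hT : Tri Q) (g : OG) :
    g ∈ Omega F ⇑Q ↔ (ogVal g).det = 1 ∧ theta Q g = 1 := by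
  refine ⟨fun hg => ⟨det_omega hg, theta_omega hg⟩, fun ⟨hd, ht⟩ => ?_⟩
  obtain ⟨ε, v, w, hv, hw, hε, hv1, hw1, hvw⟩ := exists_two_refl h2 hQ hT
  set a := refl hv
  set b := refl hw
  haveI : (Omega F ⇑Q).Normal := inferInstance
  have habel : ∀ x y : OG, x * y * x⁻¹ * y⁻¹ ∈ Omega F ⇑Q := fun x y => by
    have := Subgroup.commutator_mem_commutator (Subgroup.mem_top x) (Subgroup.mem_top y)
    rwa [commutatorElement_def] at this
  have hcover : ∀ x : OG, ∃ i j : ℕ, x * (a ^ i * b ^ j) ∈ Omega F ⇑Q := by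
    intro x
    let mk := QuotientGroup.mk' (Omega F ⇑Q)
    have hcomm : ∀ p r : OG ⧸ Omega F ⇑Q, p * r = r * p := by
      rintro ⟨p⟩ ⟨r⟩
      refine (QuotientGroup.eq (s := Omega F ⇑Q)).2 ?_
      have := habel r⁻¹ p⁻¹
      simpa [mul_assoc] using this
    have hx : mk x ∈ Subgroup.closure ({mk a, mk b} : Set (OG ⧸ Omega F ⇑Q)) := by
      have hgen := Subgroup.mem_map_of_mem mk (reflections_generate h2 hQ x)
      rw [MonoidHom.map_closure] at hgen
      refine (Subgroup.closure_le _).2 ?_ hgen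
      rintro _ ⟨_, ⟨u, hu, rfl⟩, rfl⟩
      by_cases hsq : IsSquare (Q u)
      · have h1 : refl hu * a ∈ Omega F ⇑Q := refl_mod h2 hQ hu hv (by rw [hv1, div_one]; exact hsq)
        have h2' : mk (refl hu) = mk a := by
          have h3' : mk (refl hu) * mk a = 1 := by
            rw [← map_mul]; exact (QuotientGroup.eq_one_iff _).2 h1
          rw [mul_eq_one_iff_eq_inv.1 h3', ← map_inv, inv_eq_of_mul_eq_one_right (refl_mul_self hv)]
        rw [h2']; exact Subgroup.subset_closure (Or.inl rfl)
      · have h1 : refl hu * b ∈ Omega F ⇑Q := refl_mod h2 hQ hu hw (by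
          rw [hw1, div_eq_mul_inv]
          exact isSquare_of_two_nonsquares h2 hsq fun h => hε (by simpa using h.inv))
        have h2' : mk (refl hu) = mk b := by
          have h3' : mk (refl hu) * mk b = 1 := by
            rw [← map_mul]; exact (QuotientGroup.eq_one_iff _).2 h1
          rw [mul_eq_one_iff_eq_inv.1 h3', ← map_inv, inv_eq_of_mul_eq_one_right (refl_mul_self hw)]
        rw [h2']; exact Subgroup.subset_closure (Or.inr rfl)
    have hsa : mk a * mk a = 1 := by rw [← map_mul, refl_mul_self, map_one]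
    have hsb : mk b * mk b = 1 := by rw [← map_mul, refl_mul_self, map_one]
    have key : ∀ z ∈ Subgroup.closure ({mk a, mk b} : Set (OG ⧸ Omega F ⇑Q)),
        ∃ i j : ℕ, z * ((mk a) ^ i * (mk b) ^ j) = 1 := by
      intro z hz
      induction hz using Subgroup.closure_induction with
      | mem z hz =>
        rcases hz with rfl | rfl
        · exact ⟨1, 0, by simp [hsa]⟩
        · exact ⟨0, 1, by simp [hsb]⟩
      | one => exact ⟨0, 0, by simp⟩
      | mul z z' _ _ h h' =>
        obtain ⟨i, j, h⟩ := h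
        obtain ⟨i', j', h'⟩ := h'
        refine ⟨i + i', j + j', ?_⟩
        rw [pow_add, pow_add]
        calc z * z' * (mk a ^ i * mk a ^ i' * (mk b ^ j * mk b ^ j'))
            = (z * (mk a ^ i * mk b ^ j)) * (z' * (mk a ^ i' * mk b ^ j')) := by
              letI : CommGroup (OG ⧸ Omega F ⇑Q) := { (inferInstance : Group _) with mul_comm := hcomm }
              ac_rfl
          _ = 1 := by rw [h, h', one_mul]
      | inv z _ h =>
        obtain ⟨i, j, h⟩ := h
        refine ⟨i, j, ?_⟩
        have hz' : z = (mk a ^ i * mk b ^ j)⁻¹ := eq_inv_of_mul_eq_one_left h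
        have hsq : (mk a ^ i * mk b ^ j) * (mk a ^ i * mk b ^ j) = 1 := by
          rw [← sq, Commute.mul_pow (hcomm _ _), ← pow_mul, ← pow_mul, mul_comm i, mul_comm j, pow_mul,
            pow_mul, sq, sq, hsa, hsb, one_pow, one_pow, one_mul]
        rw [hz', inv_inv]; exact hsq
    obtain ⟨i, j, hij⟩ := key _ hx
    refine ⟨i, j, (QuotientGroup.eq_one_iff _).1 ?_⟩
    show mk (x * (a ^ i * b ^ j)) = 1
    rw [map_mul, map_mul, map_pow, map_pow]; exact hij
  obtain ⟨i, j, hij⟩ := hcover g
  have h1 := det_omega hij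
  have h3 := theta_omega hij
  have hpow : ∀ (x : OG) (k : ℕ), (ogVal (x ^ k)).det = (ogVal x).det ^ k := fun x k => by
    induction k with
    | zero => simp
    | succ k ih => rw [pow_succ, ogVal_mul, Matrix.det_mul, ih, pow_succ]
  rw [ogVal_mul, ogVal_mul, Matrix.det_mul, Matrix.det_mul, hd, hpow, hpow, refl_det, refl_det, one_mul,
    ← pow_add] at h1
  rw [map_mul, map_mul, ht, map_pow, map_pow, one_mul] at h3
  have heven : Even (i + j) := by
    by_contra h
    rw [(Nat.not_even_iff_odd.1 h).neg_one_pow] at h1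
    exact h2 (by linear_combination -h1)
  rcases Nat.even_or_odd i with ⟨k, rfl⟩ | ⟨k, rfl⟩
  · obtain ⟨l, rfl⟩ : Even j := (Nat.even_add.1 heven).1 ⟨k, rfl⟩
    rwa [← two_mul, ← two_mul, pow_mul, pow_mul, sq, sq, refl_mul_self, refl_mul_self, one_pow, one_pow,
      one_mul, mul_one] at hij
  · exfalso
    obtain ⟨l, rfl⟩ : Odd j := Nat.not_even_iff_odd.1 fun hj => by
      have := (Nat.even_add.1 heven).2 hj
      exact Nat.not_even_iff_odd.2 ⟨k, rfl⟩ this
    rw [pow_succ, pow_succ, pow_mul, pow_mul, sq (theta Q a), sq (theta Q b), ← map_mul, ← map_mul,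
      refl_mul_self, refl_mul_self, map_one, one_pow, one_pow, one_mul, one_mul, hvw] at h3
    exact absurd h3 (by decide)

end Cfsg.Agent.Classical.OrthAut
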