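import Mathlib

/-!
Numerical bounds for the class numbers of orthogonal groups in even dimension: with `x ≤ 2887 / 5000`,
the product of the weighted sums is at most `34`, the signed one at most `1 / 5`, the unsigned one at most `2`.
-/

set_option autoImplicit false

namespace Cfsg.Agent.Classical.OrthClasses

open Finset

/-- The number of linear parts recorded by four flags. -/
def flags (e : Bool × Bool × Bool × Bool) : ℕ := e.1.toNat + e.2.1.toNat + e.2.2.1.toNat + e.2.2.2.toNat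

/-- The weight of exponent `i + 1` with `m` free coefficients and linear parts `e`. -/
noncomputable def wgtO (x : ℝ) (i : ℕ) (c : ℕ × (Bool × Bool × Bool × Bool)) : ℝ :=
  if ¬ Even i ∧ c.2 ≠ (false, false, false, false) then 0 else x ^ (2 * (i * c.1) + (i + 1) * flags c.2)

theorem wgtO_nonneg {x : ℝ} (h0 : 0 ≤ x) (i : ℕ) (c : ℕ × (Bool × Bool × Bool × Bool)) : 0 ≤ wgtO x i c := by
  rw [wgtO]; split_ifs <;> positivity

theorem wgtO_mono {x x' : ℝ} (h0 : 0 ≤ x) (h : x ≤ x') (i : ℕ) (c : ℕ × (Bool × Bool × Bool × Bool)) :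
    wgtO x i c ≤ wgtO x' i c := by
  rw [wgtO, wgtO]
  split_ifs
  · exact le_rfl
  · exact pow_le_pow_left₀ h0 h _

/-- The linear factor of exponent `i + 1`, with a sign `s`. -/
noncomputable def lin (x s : ℝ) (i : ℕ) : ℝ := if Even i then (1 + s * x ^ (i + 1)) ^ 4 else 1

/-- The geometric factor of exponent `i + 1`. -/
noncomputable def geo (x : ℝ) (i : ℕ) : ℝ := if i = 0 then 1 else 1 / (1 - x ^ (2 * i))

theorem sum_wgtO (x s : ℝ) (hs : s * s = 1) (i m : ℕ) :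
    ∑ e : Bool × Bool × Bool × Bool, wgtO x i (m, e) * s ^ ((i + 1) * flags e) = x ^ (2 * (i * m)) * lin x s i := by
  by_cases he : Even i
  · have hse : s ^ (i + 1) = s := by
      obtain ⟨c, rfl⟩ := he
      rw [pow_succ, show c + c = 2 * c by ring, pow_mul, pow_two, hs, one_pow, one_mul]
    simp only [Fintype.sum_prod_type, Fintype.sum_bool, wgtO, lin, he, not_true_eq_false, false_and, if_false,
      if_true, flags, Bool.toNat_true, Bool.toNat_false, pow_add, pow_mul, mul_add, hse, mul_pow]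
    ring
  · simp [Fintype.sum_prod_type, wgtO, lin, he, flags]

theorem sum_geo_le {x : ℝ} (h0 : 0 ≤ x) (h1 : x < 1) (i M : ℕ) :
    ∑ m : Fin M, (if i = 0 then (if (m : ℕ) = 0 then 1 else 0) else x ^ (2 * (i * (m : ℕ)))) ≤ geo x i := by
  rw [geo]
  by_cases hi : i = 0
  · simp only [if_pos hi]
    rcases M with _ | M
    · simp
    · rw [Fin.sum_univ_succ]; simp
  · simp only [if_neg hi]
    have hy : x ^ (2 * i) < 1 := pow_lt_one₀ h0 h1 (by omega)
    rw [Fin.sum_univ_eq_sum_range (fun m => x ^ (2 * (i * m))), le_div_iff₀ (by linarith)]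
    have h : ∀ m, x ^ (2 * (i * m)) = (x ^ (2 * i)) ^ m := fun m => by rw [← pow_mul, mul_assoc]
    simp only [h]
    rw [geom_sum_mul_neg]
    linarith [pow_nonneg (pow_nonneg h0 (2 * i)) M]

theorem prod_one_add_le {ι : Type*} (a : ι → ℝ) (s : Finset ι) :
    (∀ i ∈ s, 0 ≤ a i) → ∑ i ∈ s, a i < 1 → ∏ i ∈ s, (1 + a i) ≤ 1 / (1 - ∑ i ∈ s, a i) := by
  classical
  induction s using Finset.induction with
  | empty => simp
  | insert i s hi ih =>
    intro ha hlt
    rw [sum_insert hi] at hlt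
    have ha0 : 0 ≤ a i := ha i (mem_insert_self _ _)
    have hs0 : 0 ≤ ∑ j ∈ s, a j := sum_nonneg fun j hj => ha j (mem_insert_of_mem hj)
    rw [prod_insert hi, sum_insert hi]
    refine (mul_le_mul_of_nonneg_left (ih (fun j hj => ha j (mem_insert_of_mem hj)) (by linarith)) (by linarith)).trans ?_
    rw [mul_one_div, div_le_div_iff₀ (by linarith) (by linarith), one_mul]
    nlinarith

/-- The upper bound for `x`. -/
noncomputable def x0 : ℝ := 2887 / 5000

theorem x0_pos : (0 : ℝ) < x0 := by norm_num [x0]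

theorem x0_sq : (0 : ℝ) ≤ x0 * x0 := mul_self_nonneg _

theorem x0_lt : x0 < 1 := by norm_num [x0]

/-- The pair of exponents `2j + 1`, `2j + 2`. -/
noncomputable def pairFac (s : ℝ) (j : ℕ) : ℝ := lin x0 s (2 * j) * geo x0 (2 * j) * (lin x0 s (2 * j + 1) * geo x0 (2 * j + 1))

theorem prod_pairs (f : ℕ → ℝ) : ∀ n, ∏ i ∈ range (2 * n), f i = ∏ j ∈ range n, f (2 * j) * f (2 * j + 1) := by
  intro n
  induction n with
  | zero => simp
  | succ n ih =>
    rw [show 2 * (n + 1) = 2 * n + 1 + 1 by omega, prod_range_succ, prod_range_succ, prod_range_succ _ n, ih]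
    ring

theorem lin_nonneg {x : ℝ} (s : ℝ) (i : ℕ) : 0 ≤ lin x s i := by
  rw [lin]; split_ifs
  · positivity
  · exact zero_le_one

theorem one_le_geo {x : ℝ} (h0 : 0 ≤ x) (h1 : x < 1) (i : ℕ) : 1 ≤ geo x i := by
  rw [geo]
  by_cases hi : i = 0
  · rw [if_pos hi]
  · have hy : x ^ (2 * i) < 1 := pow_lt_one₀ h0 h1 (by omega)
    rw [if_neg hi, one_le_div (by linarith)]
    linarith [pow_nonneg h0 (2 * i)]

theorem pairFac_nonneg (s : ℝ) (j : ℕ) : 0 ≤ pairFac s j :=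
  mul_nonneg (mul_nonneg (lin_nonneg _ _) (zero_le_one.trans (one_le_geo x0_pos.le x0_lt _)))
    (mul_nonneg (lin_nonneg _ _) (zero_le_one.trans (one_le_geo x0_pos.le x0_lt _)))

theorem one_le_pairFac {s : ℝ} (hs : 0 ≤ s) (j : ℕ) : 1 ≤ pairFac s j := by
  have h : ∀ i, 1 ≤ lin x0 s i := fun i => by
    rw [lin]; split_ifs
    · exact one_le_pow₀ (le_add_of_nonneg_right (mul_nonneg hs (pow_nonneg x0_pos.le _)))
    · exact le_rfl
  exact one_le_mul_of_one_le_of_one_le (one_le_mul_of_one_le_of_one_le (h _) (one_le_geo x0_pos.le x0_lt _))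
    (one_le_mul_of_one_le_of_one_le (h _) (one_le_geo x0_pos.le x0_lt _))

theorem pairFac_mono {s : ℝ} (hs : -1 ≤ s) (hs' : s ≤ 1) (j : ℕ) : pairFac s j ≤ pairFac 1 j := by
  have h : ∀ i, lin x0 s i ≤ lin x0 1 i := fun i => by
    rw [lin, lin]; split_ifs
    · have hp : x0 ^ (i + 1) ≤ 1 := pow_le_one₀ x0_pos.le x0_lt.le
      have hp0 := pow_nonneg x0_pos.le (i + 1)
      refine pow_le_pow_left₀ ?_ (by nlinarith) 4
      nlinarith
    · exact le_rfl
  have hg : ∀ i, 0 ≤ geo x0 i := fun i => zero_le_one.trans (one_le_geo x0_pos.le x0_lt _)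
  exact mul_le_mul (mul_le_mul_of_nonneg_right (h _) (hg _)) (mul_le_mul_of_nonneg_right (h _) (hg _))
    (mul_nonneg (lin_nonneg _ _) (hg _)) (mul_nonneg (lin_nonneg _ _) (hg _))

theorem tail_fac (j : ℕ) (hj : 5 ≤ j) : pairFac 1 j ≤ 1 + 5 * (x0 * (x0 * x0) ^ j) := by
  set y : ℝ := x0 * x0 with hy
  set u : ℝ := x0 * y ^ j with hu
  have hy0 : 0 < y := mul_pos x0_pos x0_pos
  have hy5 : y ^ j ≤ 1 / 200 := by
    calc y ^ j ≤ y ^ 5 := pow_le_pow_of_le_one hy0.le (by rw [hy]; norm_num [x0]) hj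
      _ ≤ _ := by rw [hy]; norm_num [x0]
  have hu0 : 0 < u := mul_pos x0_pos (pow_pos hy0 j)
  have hu1 : u ≤ 3 / 1000 := by
    calc u ≤ x0 * (1 / 200) := mul_le_mul_of_nonneg_left hy5 x0_pos.le
      _ ≤ _ := by norm_num [x0]
  have e1 : x0 ^ (2 * j + 1) = u := by rw [hu, hy, pow_succ', pow_mul, pow_two]
  have e2 : x0 ^ (2 * (2 * j)) = y ^ j * y ^ j := by rw [hy, ← pow_add, ← pow_two, ← pow_mul]; ring_nf
  have e3 : x0 ^ (2 * (2 * j + 1)) = u * u := by rw [← e1, ← pow_add]; ring_nf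
  have h2 : x0 ^ (2 * (2 * j)) ≤ u / 100 := by
    rw [e2, hu]
    have : y ^ j ≤ x0 / 100 := le_trans hy5 (by norm_num [x0])
    nlinarith [pow_pos hy0 j]
  have h3 : x0 ^ (2 * (2 * j + 1)) ≤ u / 100 := by rw [e3]; nlinarith
  have hA : 0 ≤ x0 ^ (2 * (2 * j)) := pow_nonneg x0_pos.le _
  have hB : 0 ≤ x0 ^ (2 * (2 * j + 1)) := pow_nonneg x0_pos.le _
  have hval : pairFac 1 j = (1 + u) ^ 4 / ((1 - x0 ^ (2 * (2 * j))) * (1 - x0 ^ (2 * (2 * j + 1)))) := by
    have a1 : lin x0 1 (2 * j) = (1 + u) ^ 4 := by rw [lin, if_pos (even_two_mul j), one_mul, e1]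
    have a2 : lin x0 1 (2 * j + 1) = 1 := by rw [lin, if_neg (by simp [parity_simps])]
    have a3 : geo x0 (2 * j) = 1 / (1 - x0 ^ (2 * (2 * j))) := by rw [geo, if_neg (by omega)]
    have a4 : geo x0 (2 * j + 1) = 1 / (1 - x0 ^ (2 * (2 * j + 1))) := by rw [geo, if_neg (by omega)]
    rw [pairFac, a1, a2, a3, a4]
    field_simp
  rw [hval, div_le_iff₀ (mul_pos (by linarith) (by linarith))]
  have h4 : (1 + u) ^ 4 ≤ 1 + 4 * u + 8 * u ^ 2 := by
    nlinarith [sq_nonneg u, pow_nonneg hu0.le 3, mul_le_mul_of_nonneg_left hu1 (sq_nonneg u)]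
  have hden : 1 - u / 50 ≤ (1 - x0 ^ (2 * (2 * j))) * (1 - x0 ^ (2 * (2 * j + 1))) := by nlinarith
  refine h4.trans (le_trans ?_ (mul_le_mul_of_nonneg_left hden (by positivity)))
  nlinarith

theorem sum_tail_le (n : ℕ) : ∑ j ∈ Ico 5 (5 + n), 5 * (x0 * (x0 * x0) ^ j) ≤ 1 / 50 := by
  set y : ℝ := x0 * x0 with hy
  have hy0 : 0 ≤ y := x0_sq
  have hy1 : y < 1 := by rw [hy]; norm_num [x0]
  rw [sum_Ico_eq_sum_range, Nat.add_sub_cancel_left]
  simp only [pow_add, ← mul_assoc]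
  rw [← mul_sum]
  have hg : ∑ i ∈ range n, y ^ i ≤ 1 / (1 - y) := by
    rw [le_div_iff₀ (by linarith), geom_sum_mul_neg]
    linarith [pow_nonneg hy0 n]
  refine (mul_le_mul_of_nonneg_left hg ?_).trans ?_
  · have := x0_pos; positivity
  rw [hy]
  norm_num [x0]

theorem head_le : pairFac 1 0 * pairFac 1 1 * pairFac 1 2 * pairFac 1 3 * pairFac 1 4 * (50 / 49) ≤ 334 / 10 := by
  norm_num [pairFac, lin, geo, x0, parity_simps]

theorem prod_pairFac_le (n : ℕ) : ∏ j ∈ range n, pairFac 1 j ≤ 334 / 10 := by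
  have htail : ∏ j ∈ Ico 5 (5 + n), pairFac 1 j ≤ 50 / 49 := by
    refine (prod_le_prod (fun j _ => pairFac_nonneg 1 j) fun j hj => tail_fac j (mem_Ico.1 hj).1).trans ?_
    have hs := sum_tail_le n
    refine (prod_one_add_le _ _ (fun j _ => ?_) (by linarith)).trans ?_
    · have := x0_pos
      positivity
    · rw [div_le_div_iff₀ (by linarith) (by norm_num)]; linarith
  calc ∏ j ∈ range n, pairFac 1 j ≤ ∏ j ∈ range (5 + n), pairFac 1 j :=
        prod_le_prod_of_subset_of_one_le (range_mono (by omega)) (fun j _ => pairFac_nonneg 1 j)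
          fun j _ _ => one_le_pairFac zero_le_one j
    _ = (∏ j ∈ range 5, pairFac 1 j) * ∏ j ∈ Ico 5 (5 + n), pairFac 1 j :=
        (prod_range_mul_prod_Ico _ (by omega)).symm
    _ ≤ (∏ j ∈ range 5, pairFac 1 j) * (50 / 49) :=
        mul_le_mul_of_nonneg_left htail (prod_nonneg fun j _ => pairFac_nonneg 1 j)
    _ ≤ _ := by simpa [prod_range_succ] using head_le

theorem prod_plus (n : ℕ) : ∏ i ∈ range (2 * n), lin x0 1 i * geo x0 i ≤ 334 / 10 := by
  rw [prod_pairs]; exact prod_pairFac_le n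

theorem prod_geo (n : ℕ) : ∏ i ∈ range (2 * n), geo x0 i ≤ 2 := by
  have hg : ∀ i, 5 ≤ i → geo x0 i ≤ 1 + 101 / 100 * (x0 * x0) ^ i := fun i hi => by
    have hy : (x0 * x0) ^ i ≤ 1 / 200 := by
      calc (x0 * x0) ^ i ≤ (x0 * x0) ^ 5 := pow_le_pow_of_le_one x0_sq (by norm_num [x0]) hi
        _ ≤ _ := by norm_num [x0]
    have hy0 : (0 : ℝ) ≤ (x0 * x0) ^ i := pow_nonneg x0_sq i
    rw [geo, if_neg (by omega), pow_mul, pow_two, div_le_iff₀ (by linarith)]
    nlinarith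
  have hnn : ∀ i, 0 ≤ geo x0 i := fun i => zero_le_one.trans (one_le_geo x0_pos.le x0_lt _)
  have hhead : (∏ i ∈ range 5, geo x0 i) * (100 / 99) ≤ 2 := by
    norm_num [prod_range_succ, geo, x0]
  have htail : ∏ i ∈ Ico 5 (5 + 2 * n), geo x0 i ≤ 100 / 99 := by
    refine (prod_le_prod (fun i _ => hnn i) fun i hi => hg i (mem_Ico.1 hi).1).trans ?_
    have hs : ∑ i ∈ Ico 5 (5 + 2 * n), 101 / 100 * (x0 * x0) ^ i ≤ 1 / 100 := by
      have h := sum_tail_le (2 * n)
      rw [← mul_sum, ← mul_sum] at h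
      rw [← mul_sum]
      rw [show (x0 : ℝ) = 2887 / 5000 from rfl] at h ⊢
      nlinarith
    refine (prod_one_add_le _ _ (fun i _ => mul_nonneg (by norm_num) (pow_nonneg x0_sq i)) (by linarith)).trans ?_
    rw [div_le_div_iff₀ (by linarith) (by norm_num)]; linarith
  calc ∏ i ∈ range (2 * n), geo x0 i ≤ ∏ i ∈ range (5 + 2 * n), geo x0 i :=
        prod_le_prod_of_subset_of_one_le (range_mono (by omega)) (fun i _ => hnn i)
          fun i _ _ => one_le_geo x0_pos.le x0_lt i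
    _ = (∏ i ∈ range 5, geo x0 i) * ∏ i ∈ Ico 5 (5 + 2 * n), geo x0 i := (prod_range_mul_prod_Ico _ (by omega)).symm
    _ ≤ (∏ i ∈ range 5, geo x0 i) * (100 / 99) := mul_le_mul_of_nonneg_left htail (prod_nonneg fun i _ => hnn i)
    _ ≤ 2 := hhead

theorem prod_minus {n : ℕ} (hn : 0 < n) : ∏ i ∈ range (2 * n), lin x0 (-1) i * geo x0 i ≤ 1 / 5 := by
  obtain ⟨m, hm⟩ : ∃ m, 2 * n = m + 1 := ⟨2 * n - 1, by omega⟩
  have h0 : lin x0 (-1) 0 ≤ 1 / 10 := by norm_num [lin, x0]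
  have hnn : ∀ i, 0 ≤ geo x0 i := fun i => zero_le_one.trans (one_le_geo x0_pos.le x0_lt _)
  have hl : ∀ i, lin x0 (-1) i ≤ 1 := fun i => by
    rw [lin]; split_ifs
    · have hp : x0 ^ (i + 1) ≤ 1 := pow_le_one₀ x0_pos.le x0_lt.le
      exact pow_le_one₀ (by linarith) (by linarith [pow_nonneg x0_pos.le (i + 1)])
    · exact le_rfl
  have h2 := prod_geo n
  rw [hm, prod_range_succ'] at h2
  rw [hm, prod_range_succ']
  calc (∏ i ∈ range m, lin x0 (-1) (i + 1) * geo x0 (i + 1)) * (lin x0 (-1) 0 * geo x0 0)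
      ≤ (∏ i ∈ range m, geo x0 (i + 1)) * (1 / 10 * geo x0 0) :=
        mul_le_mul (prod_le_prod (fun i _ => mul_nonneg (lin_nonneg _ _) (hnn _))
          fun i _ => mul_le_of_le_one_left (hnn _) (hl _)) (mul_le_mul_of_nonneg_right h0 (hnn _))
          (mul_nonneg (lin_nonneg _ _) (hnn _)) (prod_nonneg fun i _ => hnn _)
    _ = 1 / 10 * ((∏ i ∈ range m, geo x0 (i + 1)) * geo x0 0) := by ring
    _ ≤ 1 / 10 * 2 := mul_le_mul_of_nonneg_left h2 (by norm_num)
    _ = 1 / 5 := by norm_num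

end Cfsg.Agent.Classical.OrthClasses
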