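import Cfsg.Agent.Lib.Classical.SympClassCount
import Cfsg.Agent.Lib.Classical.OrthClassNumeric

/-!
Counting the elementary divisors of orthogonal transformations with signs, and those without signed divisors.
-/

set_option autoImplicit false

namespace Cfsg.Agent.Classical.OrthClasses

open Finset Cfsg.Agent.Classical.IsometryClasses
open Cfsg.Agent.Classical.SympClasses (Cfg Valid Wgtd tot exists_encode)

universe u

variable {F : Type u} [Field F] [Fintype F]

attribute [local instance] Classical.propDecidable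

/-- The weight of a shape with a sign character `s`. -/
noncomputable def shapeW {n : ℕ} (x s : ℝ) (c : Cfg n) : ℝ :=
  ∏ i : Fin (2 * n), (if (i : ℕ) = 0 ∧ ((c i).1 : ℕ) ≠ 0 then 0 else wgtO x i (((c i).1 : ℕ), (c i).2)) *
    s ^ (((i : ℕ) + 1) * flags (c i).2)

theorem shapeW_eq {n : ℕ} (x s : ℝ) (c : Cfg n) :
    shapeW x s c = shapeW x 1 c * s ^ (∑ i : Fin (2 * n), ((i : ℕ) + 1) * flags (c i).2) := by
  rw [shapeW, shapeW, prod_mul_distrib, prod_mul_distrib, prod_pow_eq_pow_sum]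
  simp

theorem shapeW_nonneg {n : ℕ} {x : ℝ} (h0 : 0 ≤ x) (c : Cfg n) : 0 ≤ shapeW x 1 c := by
  refine prod_nonneg fun i _ => mul_nonneg ?_ (by simp)
  split_ifs
  · exact le_rfl
  · exact wgtO_nonneg h0 _ _

theorem shapeW_mono {n : ℕ} {x x' : ℝ} (h0 : 0 ≤ x) (h : x ≤ x') (c : Cfg n) : shapeW x 1 c ≤ shapeW x' 1 c := by
  refine prod_le_prod (fun i _ => mul_nonneg ?_ (by simp)) fun i _ => mul_le_mul_of_nonneg_right ?_ (by simp)
  · split_ifs
    · exact le_rfl
    · exact wgtO_nonneg h0 _ _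
  · split_ifs
    · exact le_rfl
    · exact wgtO_mono h0 h _ _

theorem sum_shapeW_le {n : ℕ} {s : ℝ} (hs : s * s = 1) :
    ∑ c : Cfg n, shapeW x0 s c ≤ ∏ i ∈ range (2 * n), lin x0 s i * geo x0 i := by
  have hcfg : ∑ c : Cfg n, shapeW x0 s c = ∏ i : Fin (2 * n), ∑ z : Fin (2 * n + 1) × (Bool × Bool × Bool × Bool),
      (if (i : ℕ) = 0 ∧ (z.1 : ℕ) ≠ 0 then 0 else wgtO x0 i ((z.1 : ℕ), z.2)) * s ^ (((i : ℕ) + 1) * flags z.2) := by
    rw [Fintype.prod_sum]
    rfl
  rw [hcfg, ← Fin.prod_univ_eq_prod_range (fun i => lin x0 s i * geo x0 i)]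
  have hterm : ∀ (i : Fin (2 * n)) (m : Fin (2 * n + 1)), ∑ e : Bool × Bool × Bool × Bool,
      (if (i : ℕ) = 0 ∧ (m : ℕ) ≠ 0 then 0 else wgtO x0 i ((m : ℕ), e)) * s ^ (((i : ℕ) + 1) * flags e) =
      (if (i : ℕ) = 0 then (if (m : ℕ) = 0 then 1 else 0) else x0 ^ (2 * ((i : ℕ) * (m : ℕ)))) * lin x0 s i := by
    intro i m
    by_cases hi : (i : ℕ) = 0
    · by_cases hm : (m : ℕ) = 0
      · simp only [hi, hm, ne_eq, not_true_eq_false, and_false, if_false, if_true]
        rw [sum_wgtO _ _ hs, mul_zero, mul_zero, pow_zero]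
      · simp [hi, hm]
    · simp only [hi, false_and, if_false]
      rw [sum_wgtO _ _ hs]
  have hval : ∀ i : Fin (2 * n), ∑ z : Fin (2 * n + 1) × (Bool × Bool × Bool × Bool),
      (if (i : ℕ) = 0 ∧ (z.1 : ℕ) ≠ 0 then 0 else wgtO x0 i ((z.1 : ℕ), z.2)) * s ^ (((i : ℕ) + 1) * flags z.2) =
      (∑ m : Fin (2 * n + 1), (if (i : ℕ) = 0 then (if (m : ℕ) = 0 then 1 else 0) else x0 ^ (2 * ((i : ℕ) * (m : ℕ))))) *
        lin x0 s i := fun i => by
    rw [Fintype.sum_prod_type, sum_mul]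
    exact sum_congr rfl fun m _ => hterm i m
  refine prod_le_prod (fun i _ => ?_) fun i _ => ?_
  · rw [hval i]
    exact mul_nonneg (sum_nonneg fun m _ => by
      have := x0_pos
      split_ifs <;> positivity) (lin_nonneg _ _)
  · rw [hval i, mul_comm]
    exact mul_le_mul_of_nonneg_left (sum_geo_le x0_pos.le x0_lt _ _) (lin_nonneg _ _)

/-- Weighted divisors without signed ones. -/
abbrev Unsigned (F : Type u) [Field F] (n : ℕ) : Type u :=
  {p : Wgtd F (1 : F) n // ∀ x ∈ p.1.1, ¬ IsSign (1 : F) x}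

theorem card_le (h2 : (2 : F) ≠ 0) {n : ℕ} (hn : 0 < n) :
    Finite (Wgtd F (1 : F) n) ∧
      (Nat.card (Wgtd F (1 : F) n) : ℝ) + Nat.card (Unsigned F n) ≤ 19 * (Fintype.card F : ℝ) ^ n := by
  obtain ⟨ψ, hψ, hψ0⟩ := exists_encode h2 (1 : F) n
  haveI : Finite (Wgtd F (1 : F) n) := Finite.of_injective ψ hψ
  refine ⟨inferInstance, ?_⟩
  set q := Fintype.card F with hq
  have hq3 : 3 ≤ q := by
    have h1 : 1 < q := Fintype.one_lt_card
    by_contra h
    have h3 : q = 2 := by omega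
    exact h2 (by
      have := Nat.cast_card_eq_zero F
      rw [← hq, h3] at this
      exact_mod_cast this)
  have hq0 : (0 : ℝ) < q := by positivity
  set x : ℝ := Real.sqrt (q : ℝ)⁻¹ with hx
  have hx0 : 0 ≤ x := Real.sqrt_nonneg _
  have hxx : x ^ 2 = (q : ℝ)⁻¹ := Real.sq_sqrt (by positivity)
  have hx1 : x ≤ x0 := by
    refine (pow_le_pow_iff_left₀ hx0 x0_pos.le two_ne_zero).1 ?_
    rw [hxx]
    refine le_trans (inv_anti₀ (by norm_num : (0 : ℝ) < 3) (by exact_mod_cast hq3)) ?_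
    norm_num [x0]
  let clr : Cfg n → Cfg n := fun c i => if (i : ℕ) = 0 then (0, (c i).2) else c i
  have hev : ∀ c : Cfg n, Valid (1 : F) n c → ∀ i : Fin (2 * n), ¬ Even (i : ℕ) → (c i).2 = (false, false, false, false) :=
    fun c hc i hi => hc.1 i (by
      rw [(Nat.not_even_iff_odd.1 hi).neg_one_pow, one_mul]
      exact fun h => h2 (by linear_combination -h))
  have hclr : Set.InjOn clr {c | Valid (1 : F) n c} := by
    intro c hc c' hc' hcc
    have hne : ∀ i : Fin (2 * n), (i : ℕ) ≠ 0 → c i = c' i := fun i hi => by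
      have h := congrFun hcc i
      simpa [clr, hi] using h
    funext i
    by_cases hi : (i : ℕ) = 0
    swap
    · exact hne i hi
    have he : (c i).2 = (c' i).2 := by
      have h := congrFun hcc i
      simpa [clr, hi] using h
    have h1 := hc.2
    have h3 := hc'.2
    rw [← Finset.add_sum_erase _ _ (Finset.mem_univ i)] at h1 h3
    rw [Finset.sum_congr rfl (fun j hj => by
      rw [hne j fun h => (Finset.mem_erase.1 hj).1 (Fin.ext (h.trans hi.symm))])] at h1
    refine Prod.ext (Fin.ext ?_) he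
    simp only [hi, he] at h1 h3
    omega
  have hterm : ∀ c : Cfg n, Valid (1 : F) n c →
      (q : ℝ) ^ (∑ i : Fin (2 * n), ((c i).1 : ℕ)) = (q : ℝ) ^ n * shapeW x 1 (clr c) ∧
      Even (∑ i : Fin (2 * n), ((i : ℕ) + 1) * flags (clr c i).2) := by
    intro c hc
    have hflags : ∀ i, (clr c i).2 = (c i).2 := fun i => by
      by_cases hi : (i : ℕ) = 0 <;> simp [clr, hi]
    refine ⟨?_, ?_⟩
    · have hexp : ∀ i : Fin (2 * n), (if (i : ℕ) = 0 ∧ ((clr c i).1 : ℕ) ≠ 0 then 0 else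
          wgtO x i (((clr c i).1 : ℕ), (clr c i).2)) * (1 : ℝ) ^ (((i : ℕ) + 1) * flags (clr c i).2) =
          x ^ (2 * ((i : ℕ) * ((c i).1 : ℕ)) + ((i : ℕ) + 1) * flags (c i).2) := fun i => by
        rw [one_pow, mul_one]
        by_cases hi : (i : ℕ) = 0
        · simp [clr, hi, wgtO]
        · simp only [clr, if_neg hi, hi, false_and, if_false, wgtO]
          rw [if_neg fun h => h.2 (hev c hc i h.1)]
      rw [shapeW, Finset.prod_congr rfl fun i _ => hexp i, Finset.prod_pow_eq_pow_sum]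
      have hN : 2 * (∑ i : Fin (2 * n), ((c i).1 : ℕ)) +
          ∑ i : Fin (2 * n), (2 * ((i : ℕ) * ((c i).1 : ℕ)) + ((i : ℕ) + 1) * flags (c i).2) = 2 * n := by
        rw [Finset.mul_sum, ← Finset.sum_add_distrib]
        conv_rhs => rw [← hc.2]
        refine Finset.sum_congr rfl fun i _ => ?_
        rw [show tot (c i).2 = flags (c i).2 from rfl]
        ring
      set a := ∑ i : Fin (2 * n), ((c i).1 : ℕ)
      set b := ∑ i : Fin (2 * n), (2 * ((i : ℕ) * ((c i).1 : ℕ)) + ((i : ℕ) + 1) * flags (c i).2)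
      obtain ⟨d, hd⟩ : ∃ d, b = 2 * d := ⟨n - a, by omega⟩
      conv_rhs => rw [hd, pow_mul x 2 d, hxx, show n = a + d by omega, pow_add, inv_pow, mul_assoc,
        mul_inv_cancel₀ (pow_ne_zero _ hq0.ne'), mul_one]
    · simp only [hflags]
      refine ⟨n - ∑ i : Fin (2 * n), ((i : ℕ) + 1) * ((c i).1 : ℕ), ?_⟩
      have h : 2 * (∑ i : Fin (2 * n), ((i : ℕ) + 1) * ((c i).1 : ℕ)) +
          ∑ i : Fin (2 * n), ((i : ℕ) + 1) * flags (c i).2 = 2 * n := by
        rw [Finset.mul_sum, ← Finset.sum_add_distrib]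
        conv_rhs => rw [← hc.2]
        refine Finset.sum_congr rfl fun i _ => ?_
        rw [show tot (c i).2 = flags (c i).2 from rfl]
        ring
      omega
  have key : ∀ (P : Wgtd F (1 : F) n → Prop) (Q : Cfg n → Prop), (∀ p, P p → Q (clr (ψ p).1.1)) →
      (Nat.card {p : Wgtd F (1 : F) n // P p} : ℝ) ≤ (q : ℝ) ^ n * ∑ c ∈ Finset.univ.filter
        (fun c : Cfg n => Q c ∧ Even (∑ i : Fin (2 * n), ((i : ℕ) + 1) * flags (c i).2)), shapeW x0 1 c := by
    intro P Q hPQ
    let V : Finset (Cfg n) := Finset.univ.filter fun c => Valid (1 : F) n c ∧ Q (clr c)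
    let ψ' : {p : Wgtd F (1 : F) n // P p} → Σ c : V, ∀ i : Fin (2 * n), Fin ((c.1 i).1 : ℕ) → F := fun p =>
      ⟨⟨(ψ p.1).1.1, Finset.mem_filter.2 ⟨Finset.mem_univ _, (ψ p.1).1.2, hPQ p.1 p.2⟩⟩, (ψ p.1).2⟩
    have hψ' : Function.Injective ψ' := fun p p' h => by
      refine Subtype.ext (hψ ?_)
      have e := congrArg (fun z : Σ c : V, ∀ i : Fin (2 * n), Fin ((c.1 i).1 : ℕ) → F =>
        (⟨⟨z.1.1, (Finset.mem_filter.1 z.1.2).2.1⟩, z.2⟩ :
          Σ c : {c : Cfg n // Valid (1 : F) n c}, ∀ i : Fin (2 * n), Fin ((c.1 i).1 : ℕ) → F)) h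
      exact e
    calc (Nat.card {p : Wgtd F (1 : F) n // P p} : ℝ)
        ≤ (Nat.card (Σ c : V, ∀ i : Fin (2 * n), Fin ((c.1 i).1 : ℕ) → F) : ℝ) := by
          exact_mod_cast Nat.card_le_card_of_injective ψ' hψ'
      _ = ∑ c : V, (q : ℝ) ^ (∑ i : Fin (2 * n), ((c.1 i).1 : ℕ)) := by
          rw [Nat.card_sigma, Nat.cast_sum]
          refine Finset.sum_congr rfl fun c _ => ?_
          simp [Nat.card_pi, Finset.prod_pow_eq_pow_sum, hq]
      _ = ∑ c ∈ V, (q : ℝ) ^ (∑ i : Fin (2 * n), ((c i).1 : ℕ)) :=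
          Finset.sum_coe_sort V fun c => (q : ℝ) ^ (∑ i : Fin (2 * n), ((c i).1 : ℕ))
      _ = (q : ℝ) ^ n * ∑ c ∈ V.image clr, shapeW x 1 c := by
          rw [Finset.sum_image (s := V) (g := clr) (fun c hc c' hc' => hclr
            (show Valid (1 : F) n c from (Finset.mem_filter.1 (Finset.mem_coe.1 hc)).2.1)
            (show Valid (1 : F) n c' from (Finset.mem_filter.1 (Finset.mem_coe.1 hc')).2.1)), Finset.mul_sum]
          exact Finset.sum_congr rfl fun c hc => (hterm c (Finset.mem_filter.1 hc).2.1).1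
      _ ≤ (q : ℝ) ^ n * ∑ c ∈ V.image clr, shapeW x0 1 c :=
          mul_le_mul_of_nonneg_left (Finset.sum_le_sum fun c _ => shapeW_mono hx0 hx1 c) (by positivity)
      _ ≤ _ := by
          refine mul_le_mul_of_nonneg_left (Finset.sum_le_sum_of_subset_of_nonneg (fun c hc => ?_)
            fun c _ _ => shapeW_nonneg x0_pos.le c) (by positivity)
          obtain ⟨c', hc', rfl⟩ := Finset.mem_image.1 hc
          obtain ⟨-, h1, h3⟩ := Finset.mem_filter.1 hc'
          exact Finset.mem_filter.2 ⟨Finset.mem_univ _, h3, (hterm c' h1).2⟩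
  have hW : (Nat.card (Wgtd F (1 : F) n) : ℝ) ≤ (q : ℝ) ^ n * ((334 / 10 + 1 / 5) / 2) := by
    have h := key (fun _ => True) (fun _ => True) fun _ _ => trivial
    rw [Nat.card_congr (Equiv.subtypeUnivEquiv fun _ => trivial)] at h
    refine h.trans (mul_le_mul_of_nonneg_left ?_ (by positivity))
    have h1 := (sum_shapeW_le (n := n) (one_mul (1 : ℝ))).trans (prod_plus n)
    have h3 := (sum_shapeW_le (n := n) (s := -1) (by norm_num)).trans (prod_minus hn)
    have e : ∀ c : Cfg n, shapeW x0 1 c + shapeW x0 (-1) c =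
        if Even (∑ i : Fin (2 * n), ((i : ℕ) + 1) * flags (c i).2) then 2 * shapeW x0 1 c else 0 := fun c => by
      rw [shapeW_eq x0 (-1) c]
      split_ifs with he
      · rw [he.neg_one_pow]; ring
      · rw [(Nat.not_even_iff_odd.1 he).neg_one_pow]; ring
    have hsum : ∑ c : Cfg n, (shapeW x0 1 c + shapeW x0 (-1) c) = 2 * ∑ c ∈ Finset.univ.filter
        (fun c : Cfg n => True ∧ Even (∑ i : Fin (2 * n), ((i : ℕ) + 1) * flags (c i).2)), shapeW x0 1 c := by
      rw [Finset.sum_congr rfl fun c _ => e c, Finset.mul_sum, Finset.sum_filter]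
      refine Finset.sum_congr rfl fun c _ => ?_
      simp only [true_and]
    rw [Finset.sum_add_distrib] at hsum
    have hle : ∑ c ∈ Finset.univ.filter (fun c : Cfg n => True ∧ Even (∑ i : Fin (2 * n), ((i : ℕ) + 1) * flags (c i).2)),
        shapeW x0 1 c ≤ (334 / 10 + 1 / 5) / 2 := by linarith
    exact le_of_eq_of_le (Finset.sum_congr (Finset.ext fun c => by simp) fun _ _ => rfl) hle
  have hD : (Nat.card (Unsigned F n) : ℝ) ≤ (q : ℝ) ^ n * 2 := by
    have h := key (fun p => ∀ y ∈ p.1.1, ¬ IsSign (1 : F) y)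
      (fun c => ∀ i, (c i).2 = (false, false, false, false)) (fun p hp i => by
        have := hψ0 p hp i
        by_cases hi : (i : ℕ) = 0 <;> simp [clr, hi, this])
    refine h.trans (mul_le_mul_of_nonneg_left ?_ (by positivity))
    let g : Fin (2 * n) → Fin (2 * n + 1) → ℝ := fun i m =>
      if (i : ℕ) = 0 then (if (m : ℕ) = 0 then 1 else 0) else x0 ^ (2 * ((i : ℕ) * (m : ℕ)))
    have hg : ∀ i m, 0 ≤ g i m := fun i m => by
      have := x0_pos
      simp only [g]; split_ifs <;> positivity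
    refine le_trans (le_of_eq_of_le ?_ ((Finset.sum_le_sum_of_subset_of_nonneg
      (t := (Finset.univ : Finset (Fin (2 * n) → Fin (2 * n + 1)))) (f := fun m => ∏ i, g i (m i))
      (s := (Finset.univ.filter fun c : Cfg n => (∀ i, (c i).2 = (false, false, false, false)) ∧
        Even (∑ i : Fin (2 * n), ((i : ℕ) + 1) * flags (c i).2)).image fun c i => (c i).1)
      (Finset.subset_univ _) fun m _ _ => Finset.prod_nonneg fun i _ => hg i _))) ?_
    · rw [Finset.sum_image]
      · refine Finset.sum_congr (Finset.ext fun c => by simp) fun c hc => Finset.prod_congr rfl fun i _ => ?_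
        have he := (Finset.mem_filter.1 hc).2.1 i
        simp only [g, he, flags, Bool.toNat_false, add_zero, mul_zero, pow_zero, mul_one, wgtO, ne_eq,
          not_true_eq_false, and_false, if_false]
        by_cases hi : (i : ℕ) = 0
        · by_cases hm : ((c i).1 : ℕ) = 0 <;> simp [hi, hm]
        · simp [hi]
      · intro c hc c' hc' h
        funext i
        refine Prod.ext (congrFun h i) ?_
        rw [(Finset.mem_filter.1 (Finset.mem_coe.1 hc)).2.1 i, (Finset.mem_filter.1 (Finset.mem_coe.1 hc')).2.1 i]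
    · rw [← Fintype.prod_sum]
      refine le_trans (Finset.prod_le_prod (fun i _ => Finset.sum_nonneg fun m _ => hg i m)
        (g := fun i : Fin (2 * n) => geo x0 i) fun i _ => sum_geo_le x0_pos.le x0_lt _ _) ?_
      rw [Fin.prod_univ_eq_prod_range (fun i => geo x0 i)]
      exact prod_geo n
  linarith [pow_nonneg hq0.le n]

end Cfsg.Agent.Classical.OrthClasses
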