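import Cfsg.Agent.Lib.Classical.SympClassCount

/-!
`q ^ n ≤ k(Sp(2n, q)) ≤ 54 / 5 * q ^ n` for odd `q`, and realisation of self-reciprocal polynomials.
-/

set_option autoImplicit false

namespace Cfsg.Agent.Classical.SympClasses

open Polynomial Module Matrix Cfsg.Agent.Classical Cfsg.Agent.Classical.SLClasses Cfsg.Agent.Classical.UnitClasses
  Cfsg.Agent.Classical.IsometryClasses Cfsg.Agent.UnitaryDetCentralizer

universe u

variable {F : Type u} [Field F] {n : ℕ}

attribute [local instance] Classical.propDecidable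

/-- Coordinates for the pairs. -/
noncomputable def coords (n : ℕ) (F : Type u) [Field F] : (Fin (n + n) → F) ≃ₗ[F] (Fin n ⊕ Fin n → F) :=
  LinearEquiv.funCongrLeft F F finSumFinEquiv

/-- The isometry attached to a symplectic matrix. -/
noncomputable def triOf (g : Matrix.symplecticGroup (Fin n) F) : Tri F (-1) where
  n := n + n
  B := (sympB n F).compl₁₂ (coords n F).toLinearMap (coords n F).toLinearMap
  g := (coords n F).symm.toLinearMap ∘ₗ
    (Matrix.toLin' (g : Matrix (Fin n ⊕ Fin n) (Fin n ⊕ Fin n) F)) ∘ₗ (coords n F).toLinearMap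
  nondeg := ⟨fun x hx => (coords n F).injective ((sympB_nondegenerate.1 _ fun v => by
      simpa using hx ((coords n F).symm v)).trans (map_zero _).symm),
    fun x hx => (coords n F).injective ((sympB_nondegenerate.2 _ fun v => by
      simpa using hx ((coords n F).symm v)).trans (map_zero _).symm)⟩
  sym x y := by simp [sympB_apply, ← sympForm_swap]
  isom x y := by simp [sympB_apply, sympForm_map]

theorem isConj_of_iso {g h : Matrix.symplecticGroup (Fin n) F} (e : (triOf g).Iso (triOf h)) : IsConj g h := by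
  obtain ⟨φ, hB, hg⟩ := e
  change ((Fin (n + n) → F) ≃ₗ[F] (Fin (n + n) → F)) at φ
  let L : (Fin n ⊕ Fin n → F) ≃ₗ[F] (Fin n ⊕ Fin n → F) := (coords n F).symm.trans (φ.trans (coords n F))
  have hL : ∀ v, (LinearMap.toMatrix' L.toLinearMap) *ᵥ v = L v := fun v => by
    rw [← Matrix.toLin'_apply, Matrix.toLin'_toMatrix']; rfl
  have hmem : LinearMap.toMatrix' L.toLinearMap ∈ Matrix.symplecticGroup (Fin n) F :=
    mem_symplecticGroup_iff_form.2 fun u v => by
      rw [hL, hL]
      have h1 : sympB n F (coords n F (φ ((coords n F).symm u))) (coords n F (φ ((coords n F).symm v))) =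
          sympB n F (coords n F ((coords n F).symm u)) (coords n F ((coords n F).symm v)) := hB _ _
      rw [LinearEquiv.apply_symm_apply, LinearEquiv.apply_symm_apply, sympB_apply, sympB_apply] at h1
      exact h1
  refine isConj_iff.2 ⟨⟨_, hmem⟩, mul_inv_eq_iff_eq_mul.2 (Subtype.ext (Matrix.ext_iff_mulVec.2 fun v => ?_))⟩
  show (LinearMap.toMatrix' L.toLinearMap * g.1) *ᵥ v = (h.1 * LinearMap.toMatrix' L.toLinearMap) *ᵥ v
  rw [← Matrix.mulVec_mulVec, ← Matrix.mulVec_mulVec, hL, hL]
  have h1 : φ ((coords n F).symm (Matrix.toLin' g.1 (coords n F ((coords n F).symm v)))) =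
      (coords n F).symm (Matrix.toLin' h.1 (coords n F (φ ((coords n F).symm v)))) := hg _
  rw [LinearEquiv.apply_symm_apply, Matrix.toLin'_apply, Matrix.toLin'_apply] at h1
  show (coords n F) (φ ((coords n F).symm (g.1 *ᵥ v))) = h.1 *ᵥ (coords n F) (φ ((coords n F).symm v))
  rw [h1, LinearEquiv.apply_symm_apply]

theorem exists_inj [Finite F] (h2 : (2 : F) ≠ 0) :
    ∃ f : ConjClasses (Matrix.symplecticGroup (Fin n) F) → Wgtd F (-1) n, Function.Injective f := by
  classical
  have hεε : (-1 : F) * -1 = 1 := by ring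
  choose g hg using fun C : ConjClasses (Matrix.symplecticGroup (Fin n) F) => ConjClasses.mk_surjective C
  choose S hS using fun C => exists_labels (triOf (g C)).g
  choose χ hχ using fun S : Multiset (F[X] × ℕ) => exists_code hεε h2 S
  have hcard : ∀ S : Multiset (F[X] × ℕ),
      Fintype.card ((S.toFinset.filter (IsSign (-1 : F))).powerset) = 2 ^ numSigns (-1 : F) S := fun S => by
    rw [Fintype.card_coe, Finset.card_powerset]; rfl
  let A : ∀ C, (( S C).toFinset.filter (IsSign (-1 : F))).powerset := fun C =>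
    (Fintype.equivFinOfCardEq (hcard (S C))).symm (χ (S C) (triOf (g C)))
  refine ⟨fun C => ⟨(S C, (A C).1), ⟨fun x hx => ?_, ?_, (labels_props hεε h2 _ _ (hS C)).1,
    (labels_props hεε h2 _ _ (hS C)).2⟩, fun x hx => ?_⟩, fun C C' h => ?_⟩
  · exact labels_mem (det_ne_zero _) (hS C) x hx
  · show _ = 2 * n
    rw [labels_sum (hS C), two_mul]
    exact Module.finrank_fin_fun F
  · obtain ⟨h1, h3⟩ := Finset.mem_filter.1 (Finset.mem_powerset.1 (A C).2 hx)
    exact ⟨Multiset.mem_toFinset.1 h1, h3⟩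
  have hSS : S C = S C' := congrArg (fun p : Wgtd F (-1) n => p.1.1) h
  have hA : (A C).1 = (A C').1 := congrArg (fun p : Wgtd F (-1) n => p.1.2) h
  have key : ∀ (S₁ S₂ : Multiset (F[X] × ℕ)) (T₁ T₂ : Tri F (-1)), S₁ = S₂ →
      ((Fintype.equivFinOfCardEq (hcard S₁)).symm (χ S₁ T₁)).1 = ((Fintype.equivFinOfCardEq (hcard S₂)).symm (χ S₂ T₂)).1 →
      χ S₁ T₁ = χ S₁ T₂ := by
    rintro S₁ S₂ T₁ T₂ rfl he
    exact (Fintype.equivFinOfCardEq (hcard S₁)).symm.injective (Subtype.ext he)
  have hiso := hχ (S C) _ _ (hS C) (hSS ▸ hS C') (key _ _ _ _ hSS hA)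
  rw [← hg C, ← hg C']
  exact ConjClasses.mk_eq_mk_iff_isConj.2 (isConj_of_iso hiso)

theorem card_classes_le [Fintype F] (h2 : (2 : F) ≠ 0) :
    5 * Nat.card (ConjClasses (Matrix.symplecticGroup (Fin n) F)) ≤ 54 * Fintype.card F ^ n := by
  obtain ⟨f, hf⟩ := exists_inj h2 (n := n)
  obtain ⟨hfin, hbd⟩ := card_Wgtd_le h2 n (ε := (-1 : F)) rfl
  have h1 := Nat.card_le_card_of_injective f hf
  have h3 : (5 : ℝ) * (Nat.card (ConjClasses (Matrix.symplecticGroup (Fin n) F)) : ℝ) ≤ 54 * (Fintype.card F : ℝ) ^ n :=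
    le_trans (mul_le_mul_of_nonneg_left (by exact_mod_cast h1) (by norm_num)) hbd
  exact_mod_cast h3

/-- Every self-reciprocal polynomial is the characteristic polynomial of a cyclic symplectic matrix. -/
theorem exists_charpoly [Finite F] (h2 : (2 : F) ≠ 0) {P : F[X]} (hP : P.Monic) (hd : P.natDegree = 2 * n)
    (h0 : P.coeff 0 = 1) (hs : rd P = P) :
    ∃ g : Matrix.symplecticGroup (Fin n) F, (g : Matrix (Fin n ⊕ Fin n) (Fin n ⊕ Fin n) F).charpoly = P := by
  classical
  rcases Nat.eq_zero_or_pos n with rfl | hn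
  · exact ⟨1, by rw [OneMemClass.coe_one, Matrix.charpoly_one, hP.natDegree_eq_zero.1 (hd.trans rfl)]; simp⟩
  have hP0 : P.coeff 0 ≠ 0 := by rw [h0]; exact one_ne_zero
  have h : aeval (rinv P) P = 0 := by
    have := aeval_rinv_cdual hP0
    rwa [← rd, hs] at this
  set τ := dmap P P h with hτ
  set z := AdjoinRoot.root P with hz
  set w := rinv P with hw
  have hzw : z * w = 1 := root_mul_rinv hP0
  have hττ : ∀ a, τ (τ a) = a := dmap_dmap hP0 hP0 h h
  have hτz : τ z = w := dmap_root h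
  let top : AdjoinRoot P →ₗ[F] F := (Polynomial.lcoeff F (2 * n - 1)).comp (AdjoinRoot.modByMonicHom hP)
  have hmk : ∀ R : F[X], R.natDegree < 2 * n → top (AdjoinRoot.mk P R) = R.coeff (2 * n - 1) := fun R hR => by
    show (AdjoinRoot.modByMonicHom hP (AdjoinRoot.mk P R)).coeff _ = _
    rw [AdjoinRoot.modByMonicHom_mk hP, (Polynomial.modByMonic_eq_self_iff hP).2]
    exact degree_lt_degree (hd ▸ hR)
  have htop : ∀ j : ℕ, j < 2 * n → top (z ^ j) = if j = 2 * n - 1 then 1 else 0 := fun j hj => by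
    rw [hz, ← AdjoinRoot.mk_X, ← map_pow, hmk _ (by rw [natDegree_X_pow]; exact hj), coeff_X_pow]
    split_ifs with h1 h2 h2 <;> first | rfl | omega
  let φ : AdjoinRoot P →ₗ[F] F := top.comp (LinearMap.mulLeft F (z ^ (n - 1)))
  have hφd : ∀ c, φ c = top (z ^ (n - 1) * c) := fun c => rfl
  have hφ : Faithful φ := fun a ha => by
    obtain ⟨R, hR⟩ := AdjoinRoot.mk_surjective (z ^ (n - 1) * a)
    have hz' : z ^ (n - 1) * a = 0 := by
      rw [← hR, AdjoinRoot.mk_eq_mk.2 (show P ∣ R - R %ₘ P from ⟨R /ₘ P, by linear_combination -(modByMonic_add_div R P)⟩)]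
      by_contra hne
      have hr0 : R %ₘ P ≠ 0 := fun h1 => hne (by rw [h1, map_zero])
      have hlt : (R %ₘ P).natDegree < 2 * n := hd ▸ natDegree_modByMonic_lt R hP (fun h1 => by
        rw [h1, natDegree_one] at hd; omega)
      have h1 := ha (z ^ (2 * n - 1 - (R %ₘ P).natDegree))
      rw [hφd, mul_left_comm, ← hR,
        AdjoinRoot.mk_eq_mk.2 (show P ∣ R - R %ₘ P from ⟨R /ₘ P, by linear_combination -(modByMonic_add_div R P)⟩),
        hz, ← AdjoinRoot.mk_X, ← map_pow, ← map_mul, hmk _ (by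
          rw [natDegree_mul (pow_ne_zero _ X_ne_zero) hr0, natDegree_X_pow]; omega),
        show 2 * n - 1 = (R %ₘ P).natDegree + (2 * n - 1 - (R %ₘ P).natDegree) by omega,
        Nat.add_sub_cancel_left, coeff_X_pow_mul] at h1
      exact hr0 (leadingCoeff_eq_zero.1 h1)
    calc a = w ^ (n - 1) * (z ^ (n - 1) * a) := by rw [← mul_assoc, ← mul_pow, mul_comm w, hzw, one_pow, one_mul]
      _ = 0 := by rw [hz', mul_zero]
  have hzwp : ∀ a b : ℕ, z ^ (a + b) * w ^ a = z ^ b := fun a b => by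
    rw [add_comm, pow_add, mul_assoc, ← mul_pow, hzw, one_pow, mul_one]
  have hanti : ∀ c, φ (τ c) = -φ c := by
    suffices key : φ.comp τ.toLinearMap = -φ from fun c => LinearMap.congr_fun key c
    have hunit : Function.Surjective (LinearMap.mulLeft F (w ^ (n - 1)) : AdjoinRoot P →ₗ[F] AdjoinRoot P) :=
      fun c => ⟨z ^ (n - 1) * c, by simp [← mul_assoc, ← mul_pow, mul_comm w, hzw]⟩
    refine LinearMap.cancel_right hunit |>.1 (Module.Basis.ext (AdjoinRoot.powerBasis' hP).basis fun i => ?_)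
    have hi : (i : ℕ) < 2 * n := lt_of_lt_of_eq i.2 ((AdjoinRoot.powerBasis'_dim hP).trans hd)
    simp only [LinearMap.comp_apply, LinearMap.neg_apply, LinearMap.mulLeft_apply, PowerBasis.coe_basis,
      AdjoinRoot.powerBasis'_gen, AlgHom.toLinearMap_apply, hφd]
    rw [← hz, map_mul τ, map_pow τ, map_pow τ, hτz, show τ w = z from (congrArg τ hτz.symm).trans (hττ z), ← mul_assoc (z ^ (n - 1)) (w ^ (n - 1)),
      ← mul_pow z w, hzw, one_pow, one_mul, ← mul_assoc, ← pow_add, htop _ hi]
    rcases Nat.lt_or_ge (i : ℕ) (2 * n - 1) with hlt | hge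
    · rw [show n - 1 + (n - 1) = (i : ℕ) + (2 * n - 2 - (i : ℕ)) by omega, hzwp, htop _ (by omega),
        if_neg (by omega), if_neg (by omega), neg_zero]
    · rw [show (i : ℕ) = (n - 1 + (n - 1)) + 1 by omega, if_pos (by omega)]
      -- the one wrap-around term
      have hwrap : z ^ (n - 1 + (n - 1)) * w ^ (n - 1 + (n - 1) + 1) = w := by
        rw [pow_succ, ← mul_assoc, ← mul_pow, hzw, one_pow, one_mul]
      rw [hwrap]
      have hw1 : w = -AdjoinRoot.mk P P.divX := by
        have h1 : z * AdjoinRoot.mk P P.divX = -1 := by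
          have := congrArg (AdjoinRoot.mk P) (X_mul_divX_add P)
          rw [h0, map_add, map_mul, AdjoinRoot.mk_X, AdjoinRoot.mk_self, map_one C, map_one] at this
          exact eq_neg_of_add_eq_zero_left this
        linear_combination w * h1 - AdjoinRoot.mk P P.divX * hzw
      have hdx : P.divX.natDegree < 2 * n := by rw [natDegree_divX_eq_natDegree_tsub_one]; omega
      rw [hw1, map_neg, hmk _ hdx, coeff_divX, show 2 * n - 1 + 1 = P.natDegree by omega, hP.coeff_natDegree]
  let B : LinearMap.BilinForm F (AdjoinRoot P) := LinearMap.mk₂ F (fun a b => φ (a * τ b))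
    (fun a a' b => by rw [add_mul, map_add]) (fun c a b => by rw [smul_mul_assoc, map_smul])
    (fun a b b' => by rw [map_add τ, mul_add, map_add]) (fun c a b => by rw [map_smul τ, mul_smul_comm, map_smul])
  have hBd : ∀ a b, B a b = φ (a * τ b) := fun a b => rfl
  have hA : B.IsAlt := fun a => by
    have h1 := hanti (a * τ a)
    rw [map_mul τ, hττ, mul_comm] at h1
    rw [hBd]
    exact (mul_eq_zero.1 (show (2 : F) * φ (a * τ a) = 0 by linear_combination h1)).resolve_left h2
  have hB : ∀ a, (∀ b, B a b = 0) → a = 0 := fun a ha => hφ a fun c => by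
    rw [mul_comm, ← hττ c, ← hBd]
    exact ha _
  haveI : Module.Finite F (AdjoinRoot P) := (AdjoinRoot.powerBasis' hP).finite
  have hfr : Module.finrank F (AdjoinRoot P) = 2 * n := by
    rw [(AdjoinRoot.powerBasis' hP).finrank, AdjoinRoot.powerBasis'_dim, hd]
  obtain ⟨L, hL⟩ := exists_symp_coords B hA hB hfr
  let T : Module.End F (Fin n ⊕ Fin n → F) := L.symm.conj (LinearMap.mulLeft F z)
  have hT : ∀ v, LinearMap.toMatrix' T *ᵥ v = L.symm (z * L v) := fun v => by
    rw [← Matrix.toLin'_apply, Matrix.toLin'_toMatrix']; rfl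
  have hmem : LinearMap.toMatrix' T ∈ Matrix.symplecticGroup (Fin n) F := mem_symplecticGroup_iff_form.2 fun u v => by
    rw [← hL, ← hL, hT, hT, L.apply_symm_apply, L.apply_symm_apply, hBd, hBd, map_mul τ, hτz,
      show z * L u * (w * τ (L v)) = (z * w) * (L u * τ (L v)) by ring, hzw, one_mul]
  refine ⟨⟨_, hmem⟩, ?_⟩
  show (LinearMap.toMatrix' T).charpoly = P
  rw [← LinearMap.toMatrix_eq_toMatrix', LinearMap.charpoly_toMatrix, LinearEquiv.charpoly_conj,
    ← LinearMap.charpoly_toMatrix (LinearMap.mulLeft F z) (AdjoinRoot.powerBasis' hP).basis,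
    show (LinearMap.mulLeft F z) = Algebra.lmul F (AdjoinRoot P) z from rfl]
  show (Algebra.leftMulMatrix (AdjoinRoot.powerBasis' hP).basis z).charpoly = P
  rw [hz, ← AdjoinRoot.powerBasis'_gen hP, charpoly_leftMulMatrix, AdjoinRoot.powerBasis'_gen,
    AdjoinRoot.minpoly_root hP.ne_zero, hP.leadingCoeff, inv_one, map_one, mul_one]

theorem le_card_classes [Fintype F] (h2 : (2 : F) ≠ 0) :
    Fintype.card F ^ n ≤ Nat.card (ConjClasses (Matrix.symplecticGroup (Fin n) F)) := by
  classical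
  let c : (Fin n → F) → ℕ → F := fun m u =>
    if h : 1 ≤ u ∧ u ≤ n then m ⟨u - 1, by omega⟩ else 1
  let P : (Fin n → F) → F[X] := fun m =>
    X ^ (2 * n) + ∑ u ∈ Finset.range (2 * n), monomial u (c m (min u (2 * n - u)))
  have hdeg : ∀ m, (∑ u ∈ Finset.range (2 * n), monomial u (c m (min u (2 * n - u)))).degree < (2 * n : ℕ) := fun m =>
    lt_of_le_of_lt (degree_sum_le _ _) ((Finset.sup_lt_iff (WithBot.bot_lt_coe _)).2 fun u hu =>
      (degree_monomial_le _ _).trans_lt (WithBot.coe_lt_coe.2 (Finset.mem_range.1 hu)))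
  have hmon : ∀ m, (P m).Monic := fun m => monic_X_pow_add (hdeg m)
  have hnd : ∀ m, (P m).natDegree = 2 * n := fun m => natDegree_eq_of_degree_eq_some (by
    simp only [P]
    rw [degree_add_eq_left_of_degree_lt (by rw [degree_X_pow]; exact hdeg m), degree_X_pow])
  have hco : ∀ m u, u ≤ 2 * n → (P m).coeff u = c m (min u (2 * n - u)) := fun m u hu => by
    simp only [P, coeff_add, finset_sum_coeff, coeff_monomial, Finset.sum_ite_eq', Finset.mem_range, coeff_X_pow]
    rcases Nat.lt_or_ge u (2 * n) with h | h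
    · rw [if_neg (by omega), if_pos h, zero_add]
    · rw [if_pos (by omega), if_neg (by omega), add_zero, show min u (2 * n - u) = 0 by omega]
      simp [c]
  have h0 : ∀ m, (P m).coeff 0 = 1 := fun m => by rw [hco m 0 (Nat.zero_le _)]; simp [c]
  have key : ∀ m, ∃ g : Matrix.symplecticGroup (Fin n) F,
      (g : Matrix (Fin n ⊕ Fin n) (Fin n ⊕ Fin n) F).charpoly = P m := fun m =>
    exists_charpoly h2 (hmon m) (hnd m) (h0 m) (rd_eq_of_symm (h0 m) fun u hu => by
      rw [hnd] at hu ⊢
      rw [hco m u hu, hco m _ (Nat.sub_le _ _), show 2 * n - (2 * n - u) = u by omega, min_comm])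
  choose g hg using key
  have hcard : Nat.card (Fin n → F) = Fintype.card F ^ n := by simp
  rw [← hcard]
  refine Nat.card_le_card_of_injective (fun m => ConjClasses.mk (g m)) fun m m' h => funext fun i => ?_
  obtain ⟨x, hx⟩ := (Submonoid.subtype (Matrix.symplecticGroup (Fin n) F)).map_isConj
    (ConjClasses.mk_eq_mk_iff_isConj.1 h)
  have hPP : P m' = P m := by
    rw [← hg, ← hg, ← Matrix.charpoly_units_conj x ((g m).1), ← Matrix.coe_units_inv]
    congr 1
    rw [show (x : Matrix (Fin n ⊕ Fin n) (Fin n ⊕ Fin n) F) * (g m).1 = (g m').1 * x from hx.eq, mul_assoc,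
      Units.mul_inv, mul_one]
  have h1 := congrArg (fun R : F[X] => R.coeff ((i : ℕ) + 1)) hPP
  simp only [hco _ _ (show (i : ℕ) + 1 ≤ 2 * n by omega), show min ((i : ℕ) + 1) (2 * n - ((i : ℕ) + 1)) = (i : ℕ) + 1 by omega] at h1
  simpa [c, Nat.succ_le_of_lt i.2] using h1.symm

end Cfsg.Agent.Classical.SympClasses
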