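import Cfsg.Agent.Lib.Classical.IsometryDisc
import Cfsg.Agent.Lib.Classical.OrthClassCount
import Cfsg.Agent.Lib.Classical.SympClassNumber
import Cfsg.Agent.Lib.Classical.QuadClass
import Cfsg.Agent.Lib.Classical.QuadBasic

/-!
`q ^ n / 2 ≤ k(O(Q)) ≤ 19 / 2 * q ^ n` for a non-degenerate quadratic form in dimension `2n`, `q` odd.
-/

set_option autoImplicit false

namespace Cfsg.Agent.Classical.OrthClasses

open Polynomial Module Matrix Cfsg Cfsg.Agent.Classical Cfsg.Agent.Classical.SLClasses Cfsg.Agent.Classical.UnitClasses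
  Cfsg.Agent.Classical.IsometryClasses Cfsg.Agent.UnitaryDetCentralizer
open Cfsg.Agent.Classical.SympClasses (Good Wgtd exists_charpoly rd_eq_of_symm center)

universe u

variable {F : Type u} [Field F] {ι : Type} [Fintype ι] [DecidableEq ι] {n : ℕ}

attribute [local instance] Classical.propDecidable

/-- Coordinates. -/
noncomputable def ocoords (h : Fintype.card ι = 2 * n) (F : Type u) [Field F] : (Fin (2 * n) → F) ≃ₗ[F] (ι → F) :=
  LinearEquiv.funCongrLeft F F (Fintype.equivFinOfCardEq h)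

theorem polar_isometry {Q : QuadraticForm F (ι → F)} (g : isometryGroup F ⇑Q) (x y : ι → F) :
    QuadraticMap.polar ⇑Q (((g : GL ι F) : Matrix ι ι F) *ᵥ x) (((g : GL ι F) : Matrix ι ι F) *ᵥ y) =
      QuadraticMap.polar ⇑Q x y := by
  simp only [QuadraticMap.polar, ← Matrix.mulVec_add, mem_isometryGroup.1 g.2]

/-- The triple of an orthogonal transformation. -/
noncomputable def triO (h : Fintype.card ι = 2 * n) {Q : QuadraticForm F (ι → F)}
    (hQ : (QuadraticMap.polarBilin Q).Nondegenerate) (g : isometryGroup F ⇑Q) : Tri F (1 : F) where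
  n := 2 * n
  B := (QuadraticMap.polarBilin Q).compl₁₂ (ocoords h F).toLinearMap (ocoords h F).toLinearMap
  g := (ocoords h F).symm.toLinearMap ∘ₗ (Matrix.toLin' ((g : GL ι F) : Matrix ι ι F)) ∘ₗ (ocoords h F).toLinearMap
  nondeg := ⟨fun x hx => (ocoords h F).injective ((hQ.1 _ fun v => by
      simpa using hx ((ocoords h F).symm v)).trans (map_zero _).symm),
    fun x hx => (ocoords h F).injective ((hQ.2 _ fun v => by
      simpa using hx ((ocoords h F).symm v)).trans (map_zero _).symm)⟩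
  sym x y := by simp [QuadraticMap.polar_comm]
  isom x y := by simp [polar_isometry]

theorem isConj_of_triO (h : Fintype.card ι = 2 * n) (h2 : (2 : F) ≠ 0) {Q : QuadraticForm F (ι → F)}
    (hQ : (QuadraticMap.polarBilin Q).Nondegenerate) {g g' : isometryGroup F ⇑Q}
    (e : (triO h hQ g).Iso (triO h hQ g')) : IsConj g g' := by
  obtain ⟨φ, hB, hg⟩ := e
  change ((Fin (2 * n) → F) ≃ₗ[F] (Fin (2 * n) → F)) at φ
  let L : (ι → F) ≃ₗ[F] (ι → F) := (ocoords h F).symm.trans (φ.trans (ocoords h F))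
  have hL : ∀ v, (LinearMap.toMatrix' L.toLinearMap) *ᵥ v = L v := fun v => by
    rw [← Matrix.toLin'_apply, Matrix.toLin'_toMatrix']; rfl
  have hQL : ∀ v, Q (L v) = Q v := fun v => by
    have h1 : QuadraticMap.polarBilin Q (ocoords h F (φ ((ocoords h F).symm v))) (ocoords h F (φ ((ocoords h F).symm v))) =
        QuadraticMap.polarBilin Q (ocoords h F ((ocoords h F).symm v)) (ocoords h F ((ocoords h F).symm v)) := hB _ _
    rw [LinearEquiv.apply_symm_apply, QuadraticMap.polarBilin_apply_apply, QuadraticMap.polarBilin_apply_apply,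
      QuadraticMap.polar_self, QuadraticMap.polar_self] at h1
    simp only [smul_eq_mul, nsmul_eq_mul, Nat.cast_ofNat] at h1
    exact mul_left_cancel₀ h2 h1
  have hd : (LinearMap.toMatrix' L.toLinearMap).det ≠ 0 := by
    rw [LinearMap.det_toMatrix']
    exact L.isUnit_det'.ne_zero
  refine isConj_iff.2 ⟨mkIsometry _ hd (fun v => by rw [hL]; exact hQL v), mul_inv_eq_iff_eq_mul.2
    (Subtype.ext (Units.ext (Matrix.ext_iff_mulVec.2 fun v => ?_)))⟩
  show (LinearMap.toMatrix' L.toLinearMap * ((g : GL ι F) : Matrix ι ι F)) *ᵥ v =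
    (((g' : GL ι F) : Matrix ι ι F) * LinearMap.toMatrix' L.toLinearMap) *ᵥ v
  rw [← Matrix.mulVec_mulVec, ← Matrix.mulVec_mulVec, hL, hL]
  have h1 : φ ((ocoords h F).symm (Matrix.toLin' ((g : GL ι F) : Matrix ι ι F) (ocoords h F ((ocoords h F).symm v)))) =
      (ocoords h F).symm (Matrix.toLin' ((g' : GL ι F) : Matrix ι ι F) (ocoords h F (φ ((ocoords h F).symm v)))) := hg _
  rw [LinearEquiv.apply_symm_apply, Matrix.toLin'_apply, Matrix.toLin'_apply] at h1
  show (ocoords h F) (φ ((ocoords h F).symm (((g : GL ι F) : Matrix ι ι F) *ᵥ v))) =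
    ((g' : GL ι F) : Matrix ι ι F) *ᵥ (ocoords h F) (φ ((ocoords h F).symm v))
  rw [h1, LinearEquiv.apply_symm_apply]

/-- Twice the classes inject into the weighted labels and the unsigned ones. -/
theorem exists_inj_orth [Fintype F] (h : Fintype.card ι = 2 * n) (h2 : (2 : F) ≠ 0) {Q : QuadraticForm F (ι → F)}
    (hQ : (QuadraticMap.polarBilin Q).Nondegenerate) :
    ∃ f : Bool × ConjClasses (isometryGroup F ⇑Q) → Wgtd F (1 : F) n ⊕ Unsigned F n, Function.Injective f := by
  classical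
  have hεε : (1 : F) * 1 = 1 := one_mul 1
  choose g hg using fun C : ConjClasses (isometryGroup F ⇑Q) => ConjClasses.mk_surjective C
  choose S hS using fun C => exists_labels (triO h hQ (g C)).g
  choose χ hχ using fun S : Multiset (F[X] × ℕ) => exists_code_disc (F := F) h2 S
  have hgood : ∀ C, Good (1 : F) n (S C) := fun C => ⟨fun x hx => labels_mem (det_ne_zero _) (hS C) x hx, by
      rw [labels_sum (hS C)]; exact Module.finrank_fin_fun F,
    (labels_props hεε h2 _ _ (hS C)).1, (labels_props hεε h2 _ _ (hS C)).2⟩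
  have hcard : ∀ T : Multiset (F[X] × ℕ),
      Fintype.card ((T.toFinset.filter (IsSign (1 : F))).powerset) = 2 ^ numSigns (1 : F) T := fun T => by
    rw [Fintype.card_coe, Finset.card_powerset]; rfl
  have hpos : ∀ T : Multiset (F[X] × ℕ), ¬ (∀ x ∈ T, ¬ IsSign (1 : F) x) →
      2 * 2 ^ (numSigns (1 : F) T - 1) = 2 ^ numSigns (1 : F) T := fun T hT => by
    push Not at hT
    obtain ⟨x, hx, hxs⟩ := hT
    have h1 : 0 < numSigns (1 : F) T := Finset.card_pos.2 ⟨x, Finset.mem_filter.2 ⟨Multiset.mem_toFinset.2 hx, hxs⟩⟩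
    rw [← pow_succ', Nat.sub_add_cancel h1]
  let A : ∀ (T : Multiset (F[X] × ℕ)), ¬ (∀ x ∈ T, ¬ IsSign (1 : F) x) → Bool → Fin (2 ^ (numSigns (1 : F) T - 1)) →
      (T.toFinset.filter (IsSign (1 : F))).powerset := fun T hT b i =>
    (Fintype.equivFinOfCardEq (hcard T)).symm (Fin.cast (hpos T hT) (finProdFinEquiv (finTwoEquiv.symm b, i)))
  have hA : ∀ T hT b i, ∀ x ∈ (A T hT b i).1, x ∈ T ∧ IsSign (1 : F) x := fun T hT b i x hx => by
    obtain ⟨h1, h3⟩ := Finset.mem_filter.1 (Finset.mem_powerset.1 (A T hT b i).2 hx)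
    exact ⟨Multiset.mem_toFinset.1 h1, h3⟩
  let f : Bool × ConjClasses (isometryGroup F ⇑Q) → Wgtd F (1 : F) n ⊕ Unsigned F n := fun p =>
    if h0 : ∀ x ∈ S p.2, ¬ IsSign (1 : F) x then
      (if p.1 = true then .inr ⟨⟨(S p.2, ∅), hgood p.2, by simp⟩, h0⟩ else .inl ⟨(S p.2, ∅), hgood p.2, by simp⟩)
    else .inl ⟨(S p.2, (A _ h0 p.1 (χ (S p.2) (triO h hQ (g p.2)))).1), hgood p.2, hA _ h0 _ _⟩
  refine ⟨f, fun ⟨b, C⟩ ⟨b', C'⟩ hf => ?_⟩
  let lab : Wgtd F (1 : F) n ⊕ Unsigned F n → Multiset (F[X] × ℕ) := Sum.elim (fun p => p.1.1) fun p => p.1.1.1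
  have hlab : ∀ p, lab (f p) = S p.2 := fun p => by
    simp only [f, lab]; split_ifs <;> rfl
  have hSS : S C = S C' := by rw [← hlab (b, C), ← hlab (b', C'), hf]
  have hiso : b = b' ∧ χ (S C) (triO h hQ (g C)) = χ (S C) (triO h hQ (g C')) := by
    have key : ∀ (T T' : Multiset (F[X] × ℕ)) (hT : ¬ ∀ x ∈ T, ¬ IsSign (1 : F) x)
        (hT' : ¬ ∀ x ∈ T', ¬ IsSign (1 : F) x) (U U' : Tri F (1 : F)), T = T' →
        (A T hT b (χ T U)).1 = (A T' hT' b' (χ T' U')).1 → b = b' ∧ χ T U = χ T U' := by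
      rintro T T' hT hT' U U' rfl he
      have h1 := (Fintype.equivFinOfCardEq (hcard T)).symm.injective (Subtype.ext he)
      obtain ⟨e1, e2⟩ := Prod.mk.inj (finProdFinEquiv.injective (Fin.cast_injective _ h1))
      exact ⟨finTwoEquiv.symm.injective e1, e2⟩
    by_cases h0 : ∀ x ∈ S C, ¬ IsSign (1 : F) x
    · have h0' : ∀ x ∈ S C', ¬ IsSign (1 : F) x := hSS ▸ h0
      refine ⟨?_, ?_⟩
      · simp only [f, dif_pos h0, dif_pos h0'] at hf
        cases b <;> cases b' <;> simp at hf ⊢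
      · have h1 : numSigns (1 : F) (S C) = 0 := Finset.card_eq_zero.2 (Finset.filter_eq_empty_iff.2 fun x hx =>
          h0 x (Multiset.mem_toFinset.1 hx))
        have e : 2 ^ (numSigns (1 : F) (S C) - 1) = 1 := by rw [h1]; rfl
        haveI : Subsingleton (Fin (2 ^ (numSigns (1 : F) (S C) - 1))) := by rw [e]; infer_instance
        exact Subsingleton.elim _ _
    · have h0' : ¬ ∀ x ∈ S C', ¬ IsSign (1 : F) x := hSS ▸ h0
      simp only [f, dif_neg h0, dif_neg h0'] at hf
      exact key _ _ h0 h0' _ _ hSS (congrArg (fun p : Wgtd F (1 : F) n => p.1.2) (Sum.inl_injective hf))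
  obtain ⟨rfl, hc⟩ := hiso
  have hd : SameDisc (triO h hQ (g C)) (triO h hQ (g C')) := ⟨_, rfl⟩
  have hconj := isConj_of_triO h h2 hQ (hχ (S C) _ _ (hS C) (hSS ▸ hS C') hd hc)
  rw [Prod.mk.injEq]
  exact ⟨rfl, by rw [← hg C, ← hg C']; exact ConjClasses.mk_eq_mk_iff_isConj.2 hconj⟩

theorem card_classes_orth_le [Fintype F] (hn : 0 < n) (h : Fintype.card ι = 2 * n) (h2 : (2 : F) ≠ 0)
    {Q : QuadraticForm F (ι → F)} (hQ : (QuadraticMap.polarBilin Q).Nondegenerate) :
    2 * Nat.card (ConjClasses (isometryGroup F ⇑Q)) ≤ 19 * Fintype.card F ^ n := by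
  obtain ⟨f, hf⟩ := exists_inj_orth h h2 hQ
  obtain ⟨hfin, hbd⟩ := card_le h2 hn
  have h1 := Nat.card_le_card_of_injective f hf
  rw [Nat.card_prod, Nat.card_sum, Nat.card_eq_fintype_card (α := Bool), Fintype.card_bool] at h1
  have h3 : ((2 * Nat.card (ConjClasses (isometryGroup F ⇑Q)) : ℕ) : ℝ) ≤ ((19 * Fintype.card F ^ n : ℕ) : ℝ) := by
    refine le_trans (Nat.cast_le.2 h1) ?_
    push_cast
    exact hbd
  exact_mod_cast h3

/-- An isometry of a symmetric matrix gives an element of an isometry group of the same discriminant. -/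
theorem exists_element [Fintype F] (h2 : (2 : F) ≠ 0) {Q : QuadraticForm F (ι → F)}
    (hQ : (QuadraticMap.polarBilin Q).Nondegenerate) {κ : Type} [Fintype κ] [DecidableEq κ]
    {M G : Matrix κ κ F} (hM : M.det ≠ 0) (hs : Mᵀ = M) (hG : Gᵀ * M * G = M)
    (hk : Fintype.card κ = Fintype.card ι)
    (hd : IsSquare (gramDet (QuadraticMap.polarBilin Q) (Pi.basisFun F ι) * M.det)) :
    ∃ g : isometryGroup F ⇑Q, ((g : GL ι F) : Matrix ι ι F).charpoly = G.charpoly := by
  classical
  let B : LinearMap.BilinForm F (κ → F) := Matrix.toBilin' M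
  have hBs : ∀ x y, B x y = B y x := fun x y => by
    simp only [B, Matrix.toBilin'_apply']
    rw [Matrix.dotProduct_mulVec, dotProduct_comm]
    congr 1
    rw [← Matrix.mulVec_transpose, hs]
  let Q' : QuadraticForm F (κ → F) := ((2 : F)⁻¹ • B).toQuadraticMap
  have hpol : QuadraticMap.polarBilin Q' = B := LinearMap.ext fun x => LinearMap.ext fun y => by
    rw [QuadraticMap.polarBilin_apply_apply, LinearMap.BilinMap.polar_toQuadraticMap]
    simp only [LinearMap.smul_apply, smul_eq_mul]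
    rw [hBs y x]
    field_simp
    ring
  have hnd : (QuadraticMap.polarBilin Q').Nondegenerate := by
    rw [hpol]
    exact LinearMap.BilinForm.nondegenerate_toBilin'_iff_det_ne_zero.2 hM
  obtain ⟨L, hL⟩ := (isometric_iff_disc h2 hnd hQ (Pi.basisFun F κ) (Pi.basisFun F ι) hk).2 (by
    rw [mul_comm, hpol]
    refine (congrArg (fun D => IsSquare (gramDet (QuadraticMap.polarBilin Q) (Pi.basisFun F ι) * D)) ?_).mpr hd
    show (LinearMap.BilinForm.toMatrix (Pi.basisFun F κ) B).det = M.det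
    rw [LinearMap.BilinForm.toMatrix_basisFun, LinearMap.BilinForm.toMatrix'_toBilin'])
  have hQG : ∀ v, Q' (G *ᵥ v) = Q' v := fun v => by
    show ((2 : F)⁻¹ • B) (G *ᵥ v) (G *ᵥ v) = ((2 : F)⁻¹ • B) v v
    simp only [LinearMap.smul_apply, B, Matrix.toBilin'_apply']
    conv_rhs => rw [← hG, ← Matrix.mulVec_mulVec, ← Matrix.mulVec_mulVec, Matrix.dotProduct_mulVec v Gᵀ,
      Matrix.vecMul_transpose]
  let T : (ι → F) →ₗ[F] (ι → F) := L.conj (Matrix.toLin' G)
  have hT : ∀ v, LinearMap.toMatrix' T *ᵥ v = L (G *ᵥ L.symm v) := fun v => by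
    rw [← Matrix.toLin'_apply, Matrix.toLin'_toMatrix']; rfl
  have hTd : (LinearMap.toMatrix' T).det ≠ 0 := by
    rw [LinearMap.det_toMatrix', show T = (L.toLinearMap.comp (Matrix.toLin' G)).comp L.symm.toLinearMap from rfl, LinearMap.comp_assoc,
      LinearMap.det_conj, LinearMap.det_toLin']
    intro h0
    have := congrArg Matrix.det hG
    rw [Matrix.det_mul, Matrix.det_mul, h0, mul_zero] at this
    exact hM this.symm
  refine ⟨mkIsometry _ hTd (fun v => by rw [hT, hL, hQG, ← hL, L.apply_symm_apply]), ?_⟩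
  rw [coe_mkIsometry, ← LinearMap.toMatrix_eq_toMatrix', LinearMap.charpoly_toMatrix, LinearEquiv.charpoly_conj,
    ← Matrix.toLin_eq_toLin', Matrix.charpoly_toLin]

/-- A symmetric form fixed by a cyclic transformation without eigenvalues `±1`. -/
theorem exists_sym [Finite F] (h2 : (2 : F) ≠ 0) {R : F[X]} {e : ℕ} (hR : R.Monic) (hd : R.natDegree = 2 * e)
    (h0 : R.coeff 0 = 1) (hs : rd R = R) :
    ∃ M G : Matrix (Fin e ⊕ Fin e) (Fin e ⊕ Fin e) F, Mᵀ = M ∧ Gᵀ * M * G = M ∧ G.charpoly = R ∧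
      M.det = R.eval 1 * R.eval (-1) := by
  obtain ⟨g, hg⟩ := exists_charpoly h2 hR hd h0 hs
  set G := (g : Matrix (Fin e ⊕ Fin e) (Fin e ⊕ Fin e) F) with hGd
  set H := ((g⁻¹ : Matrix.symplecticGroup (Fin e) F) : Matrix (Fin e ⊕ Fin e) (Fin e ⊕ Fin e) F) with hHd
  set J := Matrix.J (Fin e) F with hJd
  have hGH : G * H = 1 := congrArg Subtype.val (mul_inv_cancel g)
  have hHG : H * G = 1 := congrArg Subtype.val (inv_mul_cancel g)
  have hJG : Gᵀ * J * G = J := SymplecticGroup.mem_iff'.1 g.2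
  have hJH : Hᵀ * J * H = J := SymplecticGroup.mem_iff'.1 (g⁻¹).2
  have hG1 : Gᵀ * J = J * H := by
    calc Gᵀ * J = Gᵀ * J * (G * H) := by rw [hGH, Matrix.mul_one]
      _ = _ := by rw [← Matrix.mul_assoc, hJG]
  have hH1 : Hᵀ * J = J * G := by
    calc Hᵀ * J = Hᵀ * J * (H * G) := by rw [hHG, Matrix.mul_one]
      _ = _ := by rw [← Matrix.mul_assoc, hJH]
  refine ⟨J * (G - H), G, ?_, ?_, hg, ?_⟩
  · rw [Matrix.transpose_mul, Matrix.transpose_sub, hJd, Matrix.J_transpose, Matrix.sub_mul, Matrix.mul_neg,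
      Matrix.mul_neg, ← hJd, hG1, hH1, Matrix.mul_sub]
    abel
  · rw [Matrix.mul_sub, Matrix.mul_sub, Matrix.sub_mul, ← Matrix.mul_assoc Gᵀ, ← Matrix.mul_assoc Gᵀ, hG1,
      Matrix.mul_assoc J H G, hHG, Matrix.mul_one, Matrix.mul_assoc J H H, Matrix.mul_assoc J (H * H) G,
      Matrix.mul_assoc H H G, hHG, Matrix.mul_one]
  · have hdetG : G.det = 1 := SymplecticGroup.det_eq_one g.2
    have hdetH : H.det = 1 := SymplecticGroup.det_eq_one (g⁻¹).2
    have he : G - H = H * ((G - 1) * (G + 1)) := by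
      rw [Matrix.sub_mul, Matrix.one_mul, Matrix.mul_add, Matrix.mul_one, Matrix.mul_sub, Matrix.mul_add, Matrix.mul_add,
        ← Matrix.mul_assoc, hHG, Matrix.one_mul, Matrix.mul_one]
      abel
    have hev : ∀ δ : F, (G - Matrix.scalar _ δ).det = R.eval δ := fun δ => by
      rw [← hg, Matrix.eval_charpoly, ← neg_sub, Matrix.det_neg, Fintype.card_sum, ← two_mul, pow_mul, neg_one_sq,
        one_pow, one_mul]
    rw [Matrix.det_mul, SymplecticGroup.det_eq_one (SymplecticGroup.J_mem (Fin e) F), one_mul, he, Matrix.det_mul,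
      Matrix.det_mul, hdetH, one_mul, ← hev 1, ← hev (-1), map_one, map_neg, map_one, sub_neg_eq_add]

/-- Realisation of self-reciprocal polynomials of the right square class. -/
theorem exists_orth [Fintype F] (h : Fintype.card ι = 2 * n) (h2 : (2 : F) ≠ 0)
    {Q : QuadraticForm F (ι → F)} (hQ : (QuadraticMap.polarBilin Q).Nondegenerate) {P : F[X]} (hP : P.Monic)
    (hd : P.natDegree = 2 * n) (hs : rd P = P)
    (hsq : IsSquare (gramDet (QuadraticMap.polarBilin Q) (Pi.basisFun F ι) * (P.eval 1 * P.eval (-1)))) :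
    ∃ g : isometryGroup F ⇑Q, ((g : GL ι F) : Matrix ι ι F).charpoly = P := by
  classical
  have hl1 := linear_facts (F := F) (one_mul (1 : F))
  have hlm := linear_facts (F := F) (show (-1 : F) * -1 = 1 by ring)
  obtain ⟨P₁, hP₁, hP₁n⟩ := exists_eq_pow_rootMultiplicity_mul_and_not_dvd P hP.ne_zero 1
  have hP₁0 : P₁ ≠ 0 := fun h0 => hP.ne_zero (by rw [hP₁, h0, mul_zero])
  obtain ⟨R, hR, hRn⟩ := exists_eq_pow_rootMultiplicity_mul_and_not_dvd P₁ hP₁0 (-1)
  obtain ⟨a, ha⟩ : ∃ a, P.rootMultiplicity 1 = a := ⟨_, rfl⟩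
  obtain ⟨b, hb⟩ : ∃ b, P₁.rootMultiplicity (-1) = b := ⟨_, rfl⟩
  rw [ha] at hP₁
  rw [hb] at hR
  have hPR : P = (X - C 1) ^ a * (X - C (-1)) ^ b * R := by rw [mul_assoc, ← hR]; exact hP₁
  have hm : ((X - C (1 : F)) ^ a * (X - C (-1)) ^ b).Monic := ((monic_X_sub_C 1).pow a).mul ((monic_X_sub_C (-1)).pow b)
  have hRm : R.Monic := hm.of_mul_monic_left (hPR ▸ hP)
  have hRs : rd R = R := by
    have e := hs
    rw [hPR, rd, cdual_mul, cdual_mul, cdual_pow, cdual_pow, ← rd, ← rd, ← rd, hl1.2.2.2, hlm.2.2.2] at e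
    exact mul_left_cancel₀ hm.ne_zero e
  have hR1 : R.eval 1 ≠ 0 := fun h0 => hP₁n (by
    rw [hR]; exact (dvd_iff_isRoot.2 h0).mul_left _)
  have hRm1 : R.eval (-1) ≠ 0 := fun h0 => hRn (dvd_iff_isRoot.2 h0)
  obtain ⟨hR0, e, he⟩ := center h2 hRm hRs hR1 hRm1
  rw [← two_mul] at he
  obtain ⟨M, G, hMs, hMG, hGc, hMd⟩ := exists_sym h2 hRm he hR0 hRs
  have hsum : 2 * e + (a + b) = 2 * n := by
    rw [← hd, hPR, hm.natDegree_mul hRm, ((monic_X_sub_C (1 : F)).pow a).natDegree_mul ((monic_X_sub_C (-1)).pow b),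
      natDegree_pow, natDegree_pow, natDegree_X_sub_C, natDegree_X_sub_C, he]
    ring
  set D := gramDet (QuadraticMap.polarBilin Q) (Pi.basisFun F ι) with hD
  let w : Fin (a + b) → F := fun i => if (i : ℕ) = 0 then D * M.det else 1
  let δ : Fin (a + b) → F := fun i => if (i : ℕ) < a then 1 else -1
  have hMne : M.det ≠ 0 := by rw [hMd]; exact mul_ne_zero hR1 hRm1
  have hw : ∀ i, w i ≠ 0 := fun i => by
    simp only [w]; split_ifs
    · exact mul_ne_zero (gramDet_ne_zero hQ _) hMne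
    · exact one_ne_zero
  obtain ⟨g, hg⟩ := exists_element h2 hQ (M := Matrix.fromBlocks M 0 0 (Matrix.diagonal w))
    (G := Matrix.fromBlocks G 0 0 (Matrix.diagonal δ))
    (by
      rw [Matrix.det_fromBlocks_zero₁₂, Matrix.det_diagonal]
      exact mul_ne_zero hMne (Finset.prod_ne_zero_iff.2 fun i _ => hw i))
    (by rw [Matrix.fromBlocks_transpose, Matrix.transpose_zero, Matrix.transpose_zero, hMs, Matrix.diagonal_transpose])
    (by
      rw [Matrix.fromBlocks_transpose, Matrix.fromBlocks_multiply, Matrix.fromBlocks_multiply]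
      simp only [Matrix.transpose_zero, Matrix.mul_zero, Matrix.zero_mul, add_zero, zero_add, hMG,
        Matrix.diagonal_transpose, Matrix.diagonal_mul_diagonal]
      congr 2
      funext i
      simp only [δ]; split_ifs <;> ring)
    (by simp only [Fintype.card_sum, Fintype.card_fin, h]; omega)
    (by
      rw [Matrix.det_fromBlocks_zero₁₂, Matrix.det_diagonal]
      rcases Nat.eq_zero_or_pos (a + b) with h0 | h0
      · haveI : IsEmpty (Fin (a + b)) := by rw [h0]; infer_instance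
        rw [Fintype.prod_empty, mul_one, hMd]
        obtain ⟨rfl, rfl⟩ : a = 0 ∧ b = 0 := by omega
        rw [pow_zero, pow_zero, one_mul, one_mul] at hPR
        rwa [← hPR]
      · rw [Finset.prod_eq_single (⟨0, h0⟩ : Fin (a + b)) (fun i _ hi => by
          simp only [w]; rw [if_neg fun h1 => hi (Fin.ext h1)]) (by simp)]
        simp only [w, if_true]
        exact ⟨D * M.det, by ring⟩)
  refine ⟨g, hg.trans ?_⟩
  rw [Matrix.charpoly_fromBlocks_zero₁₂, hGc, Matrix.charpoly_diagonal, hPR, mul_comm R]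
  congr 1
  rw [Fin.prod_univ_add]
  simp [δ]

theorem le_card_classes_orth [Fintype F] (hn : 2 ≤ n) (h : Fintype.card ι = 2 * n) (h2 : (2 : F) ≠ 0)
    {Q : QuadraticForm F (ι → F)} (hQ : (QuadraticMap.polarBilin Q).Nondegenerate) :
    Fintype.card F ^ n ≤ 2 * Nat.card (ConjClasses (isometryGroup F ⇑Q)) := by
  classical
  let c : (Fin n → F) → ℕ → F := fun m u => if h : 1 ≤ u ∧ u ≤ n then m ⟨u - 1, by omega⟩ else 1
  let P : (Fin n → F) → F[X] := fun m =>
    X ^ (2 * n) + ∑ u ∈ Finset.range (2 * n), monomial u (c m (min u (2 * n - u)))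
  have hdeg : ∀ m, (∑ u ∈ Finset.range (2 * n), monomial u (c m (min u (2 * n - u)))).degree < (2 * n : ℕ) := fun m =>
    lt_of_le_of_lt (degree_sum_le _ _) ((Finset.sup_lt_iff (WithBot.bot_lt_coe _)).2 fun u hu =>
      (degree_monomial_le _ _).trans_lt (WithBot.coe_lt_coe.2 (Finset.mem_range.1 hu)))
  have hmon : ∀ m, (P m).Monic := fun m => monic_X_pow_add (hdeg m)
  have hnd : ∀ m, (P m).natDegree = 2 * n := fun m => natDegree_eq_of_degree_eq_some (by
    simp only [P]
    rw [degree_add_eq_left_of_degree_lt (by rw [degree_X_pow]; exact hdeg m), degree_X_pow])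
  have hco : ∀ m u, u ≤ 2 * n → (P m).coeff u = c m (min u (2 * n - u)) := fun m u hu => by
    simp only [P, coeff_add, finset_sum_coeff, coeff_monomial, Finset.sum_ite_eq', Finset.mem_range, coeff_X_pow]
    rcases Nat.lt_or_ge u (2 * n) with h | h
    · rw [if_neg (by omega), if_pos h, zero_add]
    · rw [if_pos (by omega), if_neg (by omega), add_zero, show min u (2 * n - u) = 0 by omega]
      simp [c]
  have hrd : ∀ m, rd (P m) = P m := fun m => rd_eq_of_symm (by rw [hco m 0 (Nat.zero_le _)]; simp [c]) fun u hu => by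
    rw [hnd] at hu ⊢
    rw [hco m u hu, hco m _ (Nat.sub_le _ _), show 2 * n - (2 * n - u) = u by omega, min_comm]
  -- coordinates by the values at `±1`
  let Φ : (Fin n → F) → F × F × (Fin (n - 2) → F) := fun m =>
    ((P m).eval 1, (P m).eval (-1), fun i => m ⟨i, by omega⟩)
  have hΦi : Function.Injective Φ := fun m m' hm => by
    obtain ⟨e1, e2, e3⟩ : (P m).eval 1 = (P m').eval 1 ∧ (P m).eval (-1) = (P m').eval (-1) ∧
        (fun i : Fin (n - 2) => m ⟨i, by omega⟩) = fun i : Fin (n - 2) => m' ⟨i, by omega⟩ := by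
      simpa [Φ, Prod.ext_iff] using hm
    obtain ⟨α, hα⟩ : ∃ α, m ⟨n - 2, by omega⟩ - m' ⟨n - 2, by omega⟩ = α := ⟨_, rfl⟩
    obtain ⟨β, hβ⟩ : ∃ β, m ⟨n - 1, by omega⟩ - m' ⟨n - 1, by omega⟩ = β := ⟨_, rfl⟩
    have hlow : ∀ u, u ≠ n - 1 → u ≠ n → c m u = c m' u := fun u h1 h3 => by
      simp only [c]
      split_ifs with hu
      · exact congrFun e3 ⟨u - 1, by omega⟩
      · rfl
    have hD : P m - P m' = C α * X ^ (n - 1) + C α * X ^ (n + 1) + C β * X ^ n := by
      refine Polynomial.ext fun u => ?_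
      simp only [coeff_sub, coeff_add, coeff_C_mul, coeff_X_pow]
      rcases le_or_gt u (2 * n) with hu | hu
      · rw [hco m u hu, hco m' u hu]
        by_cases h1 : u = n - 1 ∨ u = n + 1
        · rw [show min u (2 * n - u) = n - 1 by omega]
          simp only [c, dif_pos (show 1 ≤ n - 1 ∧ n - 1 ≤ n by omega)]
          rw [← hα]
          simp only [show n - 1 - 1 = n - 2 by omega]
          rcases h1 with rfl | rfl
          · rw [if_pos rfl, if_neg (by omega), if_neg (by omega)]; ring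
          · rw [if_neg (by omega), if_pos rfl, if_neg (by omega)]; ring
        · by_cases h3 : u = n
          · subst h3
            rw [show min u (2 * u - u) = u by omega]
            simp only [c, dif_pos (show 1 ≤ u ∧ u ≤ u by omega)]
            rw [← hβ, if_neg (by omega), if_neg (by omega), if_pos trivial]; ring
          · rw [hlow _ (by omega) (by omega), sub_self, if_neg (by omega), if_neg (by omega), if_neg h3]; ring
      · rw [coeff_eq_zero_of_natDegree_lt (by rw [hnd]; exact hu), coeff_eq_zero_of_natDegree_lt (by rw [hnd]; exact hu),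
          sub_self, if_neg (by omega), if_neg (by omega), if_neg (by omega)]
        ring
    have f1 := congrArg (eval (1 : F)) hD
    have f2 := congrArg (eval (-1 : F)) hD
    simp only [eval_sub, eval_add, eval_mul, eval_C, eval_pow, eval_X, one_pow, e1, e2, sub_self] at f1 f2
    obtain ⟨k, hk⟩ : ∃ k, n = k + 1 := ⟨n - 1, by omega⟩
    have hp : ((-1 : F) ^ k) ^ 2 = 1 := by rw [← pow_mul, mul_comm, pow_mul, neg_one_sq, one_pow]
    rw [show n - 1 = k by omega, show n + 1 = k + 2 by omega, show n = k + 1 from hk, pow_add (-1 : F) k 2, pow_add (-1 : F) k 1, pow_one, neg_one_sq] at f2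
    have hαz : α = 0 := by
      have h4 : (2 : F) * (2 * α) = 0 := by
        linear_combination -f1 - (-1 : F) ^ k * f2 + (β - 2 * α) * hp
      exact (mul_eq_zero.1 ((mul_eq_zero.1 h4).resolve_left h2)).resolve_left h2
    have hβz : β = 0 := by linear_combination -f1 - 2 * hαz
    funext i
    by_cases hi : (i : ℕ) < n - 2
    · exact congrFun e3 ⟨i, hi⟩
    · rcases (show (i : ℕ) = n - 2 ∨ (i : ℕ) = n - 1 by omega) with hh | hh
      · rw [show i = ⟨n - 2, by omega⟩ from Fin.ext hh]; exact sub_eq_zero.1 (hα.trans hαz)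
      · rw [show i = ⟨n - 1, by omega⟩ from Fin.ext hh]; exact sub_eq_zero.1 (hβ.trans hβz)
  have hΦ : Function.Bijective Φ := by
    refine (Fintype.bijective_iff_injective_and_card Φ).2 ⟨hΦi, ?_⟩
    simp only [Fintype.card_fun, Fintype.card_fin, Fintype.card_prod]
    obtain ⟨j, rfl⟩ : ∃ j, n = j + 2 := ⟨n - 2, by omega⟩
    rw [Nat.add_sub_cancel, pow_add]; ring
  set D := gramDet (QuadraticMap.polarBilin Q) (Pi.basisFun F ι) with hD
  obtain ⟨ν, hν⟩ : ∃ ν : F, ¬ IsSquare ν := FiniteField.exists_nonsquare fun h3 => h2 (by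
    haveI := ringChar.of_eq h3
    exact CharP.cast_eq_zero F 2)
  let ok : F × F × (Fin (n - 2) → F) → Prop := fun z => IsSquare (D * (z.1 * z.2.1))
  let fix' : F × F × (Fin (n - 2) → F) → Bool × {z // ok z} := fun z =>
    if hz : ok z then (true, ⟨z, hz⟩) else (false, ⟨(z.1, ν * z.2.1, z.2.2), by
      show IsSquare (D * (z.1 * (ν * z.2.1)))
      rw [show D * (z.1 * (ν * z.2.1)) = ν * (D * (z.1 * z.2.1)) by ring]
      exact isSquare_of_two_nonsquares h2 hν hz⟩)
  have hfix : Function.Injective fix' := fun z z' hz => by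
    simp only [fix'] at hz
    split_ifs at hz <;> simp only [Prod.mk.injEq, Subtype.mk.injEq, reduceCtorEq, false_and, true_and] at hz
    · exact hz
    · obtain ⟨a, b, c⟩ := hz
      exact Prod.ext a (Prod.ext (mul_left_cancel₀ (fun h1 => hν (by rw [h1]; exact IsSquare.zero)) b) c)
  have key : ∀ z : {z // ok z}, ∃ g : isometryGroup F ⇑Q,
      ((g : GL ι F) : Matrix ι ι F).charpoly = P ((Equiv.ofBijective Φ hΦ).symm z.1) := fun z => by
    refine exists_orth h h2 hQ (hmon _) (hnd _) (hrd _) ?_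
    obtain ⟨m, hm⟩ := hΦ.2 z.1
    have hz : IsSquare (D * ((z.1).1 * (z.1).2.1)) := z.2
    rw [← hm] at hz ⊢
    rw [Equiv.ofBijective_symm_apply_apply]
    exact hz
  choose g hg using key
  have hinj : Function.Injective fun z => ConjClasses.mk (g z) := fun z z' hzz => by
    obtain ⟨x, hx⟩ := isConj_iff.1 (ConjClasses.mk_eq_mk_iff_isConj.1 hzz)
    have h1 := hg z'
    rw [← hx] at h1
    simp only [Subgroup.coe_mul, Subgroup.coe_inv, Units.val_mul] at h1
    rw [Matrix.coe_units_inv, Matrix.charpoly_units_conj, hg z] at h1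
    refine Subtype.ext ((Equiv.ofBijective Φ hΦ).symm.injective (hΦi ?_))
    simp only [Φ, h1]
    refine Prod.ext rfl (Prod.ext rfl (funext fun i => ?_))
    have h3 := congrArg (fun R : F[X] => R.coeff ((i : ℕ) + 1)) h1
    simp only [hco _ _ (show (i : ℕ) + 1 ≤ 2 * n by omega),
      show min ((i : ℕ) + 1) (2 * n - ((i : ℕ) + 1)) = (i : ℕ) + 1 by omega, c,
      dif_pos (show 1 ≤ (i : ℕ) + 1 ∧ (i : ℕ) + 1 ≤ n by omega), Nat.add_sub_cancel] at h3
    exact h3
  calc Fintype.card F ^ n = Nat.card (Fin n → F) := by simp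
    _ = Nat.card (F × F × (Fin (n - 2) → F)) := Nat.card_congr (Equiv.ofBijective Φ hΦ)
    _ ≤ Nat.card (Bool × {z // ok z}) := Nat.card_le_card_of_injective fix' hfix
    _ = 2 * Nat.card {z // ok z} := by rw [Nat.card_prod, Nat.card_eq_fintype_card (α := Bool), Fintype.card_bool]
    _ ≤ _ := Nat.mul_le_mul_left 2 (Nat.card_le_card_of_injective _ hinj)

end Cfsg.Agent.Classical.OrthClasses
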