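import Cfsg.Agent.Lib.Classical.SLClassLabels

/-!
Weighted counting of labels with prescribed determinant, and of those fixed by a scaling.
-/

set_option autoImplicit false

namespace Cfsg.Agent.Classical.SLClasses

open Polynomial Finset GLClassNumber UniqueFactorizationMonoid

variable {F : Type*} [Field F]

/-- `(-1) ^ deg f * f 0`. -/
noncomputable def sgn0 (f : F[X]) : F := (-1) ^ f.natDegree * f.coeff 0

theorem sgn0_mul {f g : F[X]} (hf : f.Monic) (hg : g.Monic) : sgn0 (f * g) = sgn0 f * sgn0 g := by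
  rw [sgn0, sgn0, sgn0, hf.natDegree_mul hg, pow_add, mul_coeff_zero]
  ring

theorem sgn0_prod : ∀ M : Multiset F[X], (∀ f ∈ M, f.Monic) → sgn0 M.prod = (M.map sgn0).prod := by
  intro M
  induction M using Multiset.induction with
  | empty => intro _; simp [sgn0]
  | cons a s ih =>
    intro h
    have hs : ∀ f ∈ s, f.Monic := fun f hf => h f (Multiset.mem_cons_of_mem hf)
    have hp : s.prod.Monic := by
      have := monic_multiset_prod_of_monic s (fun f => f) hs
      rwa [Multiset.map_id'] at this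
    rw [Multiset.prod_cons, sgn0_mul (h a (Multiset.mem_cons_self a s)) hp, ih hs, Multiset.map_cons,
      Multiset.prod_cons]

theorem lblDet_add (S S' : Multiset (F[X] × ℕ)) : lblDet (S + S') = lblDet S * lblDet S' := by
  rw [lblDet, lblDet, lblDet, Multiset.map_add, Multiset.prod_add]

/-- The factors of exponent `k`. -/
noncomputable def part (S : Multiset (F[X] × ℕ)) (k : ℕ) : Multiset F[X] :=
  (S.filter fun x => x.2 = k).map Prod.fst

theorem filter_eq_part (S : Multiset (F[X] × ℕ)) (k : ℕ) :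
    (S.filter fun x => x.2 = k) = (part S k).map fun f => (f, k) := by
  rw [part, Multiset.map_map]
  conv_lhs => rw [← Multiset.map_id (S.filter fun x => x.2 = k)]
  exact Multiset.map_congr rfl fun x hx => Prod.ext rfl (Multiset.mem_filter.1 hx).2

theorem lblDet_filter (S : Multiset (F[X] × ℕ)) (k : ℕ) (hm : ∀ x ∈ S, x.1.Monic) :
    lblDet (S.filter fun x => x.2 = k) = sgn0 (part S k).prod ^ k := by
  have hmon : ∀ f ∈ part S k, f.Monic := fun f hf => by
    obtain ⟨x, hx, rfl⟩ := Multiset.mem_map.1 hf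
    exact hm x (Multiset.mem_filter.1 hx).1
  rw [sgn0_prod _ hmon, ← Multiset.prod_map_pow, filter_eq_part, lblDet, Multiset.map_map]
  rfl

/-- The weight of a label. -/
noncomputable def wt (q : ℕ) (S : Multiset (F[X] × ℕ)) : ℕ := sInf {g | ∃ x ∈ S, Nat.gcd (q - 1) x.2 = g}

theorem wt_le {q : ℕ} {S : Multiset (F[X] × ℕ)} {x : F[X] × ℕ} (hx : x ∈ S) : wt q S ≤ Nat.gcd (q - 1) x.2 :=
  Nat.sInf_le ⟨x, hx, rfl⟩

theorem exists_wt (q : ℕ) {S : Multiset (F[X] × ℕ)} (hS : S ≠ 0) : ∃ x ∈ S, Nat.gcd (q - 1) x.2 = wt q S := by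
  obtain ⟨x, hx⟩ := Multiset.exists_mem_of_ne_zero hS
  exact Nat.sInf_mem (s := {g | ∃ x ∈ S, Nat.gcd (q - 1) x.2 = g}) ⟨_, x, hx, rfl⟩

theorem wt_congr (q : ℕ) {S S' : Multiset (F[X] × ℕ)}
    (h : ∀ j, (∃ x ∈ S, x.2 = j) ↔ ∃ x ∈ S', x.2 = j) : wt q S = wt q S' := by
  unfold wt
  congr 1
  ext g
  constructor
  · rintro ⟨x, hx, rfl⟩
    obtain ⟨y, hy, he⟩ := (h x.2).1 ⟨x, hx, rfl⟩
    exact ⟨y, hy, by rw [he]⟩
  · rintro ⟨x, hx, rfl⟩
    obtain ⟨y, hy, he⟩ := (h x.2).2 ⟨x, hx, rfl⟩
    exact ⟨y, hy, by rw [he]⟩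

/-- Labels of total degree `n`, exponents at least `k`, and determinant `v`. -/
abbrev LT (F : Type*) [Field F] (k n : ℕ) (v : F) : Type _ := {S : T F k n // lblDet S.1 = v}

/-- The recursion term. -/
def D (q k n : ℕ) : ℕ := ∑ d ∈ range (n / k), q ^ d * A q (k + 1) (n - k * (d + 1))

/-- The bound for weighted labels. -/
def Bd (q k n : ℕ) : ℕ := ∑ j ∈ Icc k n, Nat.gcd (q - 1) j ^ 2 * D q j n

theorem T_ne_zero {k n : ℕ} (hn : 1 ≤ n) (S : T F k n) : S.1 ≠ 0 := fun h => by
  have := S.2.2
  rw [h, Multiset.map_zero, Multiset.sum_zero] at this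
  omega

theorem lblDet_ne_zero {k n : ℕ} (S : T F k n) : lblDet S.1 ≠ 0 := by
  refine Multiset.prod_ne_zero fun h0 => ?_
  obtain ⟨x, hx, hx0⟩ := Multiset.mem_map.1 h0
  exact (S.2.1 x hx).2.2.1 ((mul_eq_zero.1 (pow_eq_zero_iff'.1 hx0).1).resolve_left
    (pow_ne_zero _ (neg_ne_zero.2 one_ne_zero)))

variable [Fintype F]

theorem finite_T {k n : ℕ} (hk : 1 ≤ k) : Finite (T F k n) := (card_T (n + 1) k n (by omega) hk).1

theorem card_root_le (k : ℕ) (a b : F) (hb : b ≠ 0) :
    Nat.card {c : Fˣ // (c : F) ^ k * b = a} ≤ Nat.gcd (Fintype.card F - 1) k := by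
  classical
  rcases isEmpty_or_nonempty {c : Fˣ // (c : F) ^ k * b = a} with h | ⟨⟨c₀, hc₀⟩⟩
  · simp
  refine le_trans (Nat.card_le_card_of_injective
    (fun c : {c : Fˣ // (c : F) ^ k * b = a} => (⟨c.1 / c₀, ?_⟩ : (powMonoidHom k : Fˣ →* Fˣ).ker)) ?_) ?_
  · have h1 : c.1 ^ k = c₀ ^ k := Units.ext (by
      simpa using mul_right_cancel₀ hb (c.2.trans hc₀.symm))
    rw [MonoidHom.mem_ker, powMonoidHom_apply, div_pow, h1, div_self']
  · intro c c' hcc
    exact Subtype.ext (div_left_injective (congrArg Subtype.val hcc))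
  · rw [IsCyclic.card_powMonoidHom_ker, Nat.card_units, Nat.card_eq_fintype_card]

theorem card_WT : ∀ (j k n : ℕ), n + 1 - k ≤ j → 1 ≤ k → 1 ≤ n → ∀ v : F,
    Nat.card (Σ S : LT F k n v, Fin (wt (Fintype.card F) S.1.1)) ≤ Bd (Fintype.card F) k n := by
  classical
  intro j
  induction j with
  | zero =>
    intro k n hj hk hn v
    haveI : IsEmpty (LT F k n v) := ⟨fun S => T_ne_zero hn S.1 (T_zero_or hk (by omega) S.1)⟩
    simp
  | succ j ih =>
    intro k n hj hk hn v
    by_cases hnk : n < k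
    · haveI : IsEmpty (LT F k n v) := ⟨fun S => T_ne_zero hn S.1 (T_zero_or hk hnk S.1)⟩
      simp
    set q := Fintype.card F with hq
    let R := (Σ S : LT F (k + 1) n v, Fin (wt q S.1.1)) ⊕
      (Σ d : Fin (n / k), Σ rest : T F (k + 1) (n - k * ((d : ℕ) + 1)),
        {c : Fˣ // (c : F) ^ k * lblDet rest.1 = v} × (Fin (d : ℕ) → F) × Fin (Nat.gcd (q - 1) k))
    haveI : ∀ n', Finite (T F (k + 1) n') := fun n' => finite_T (by omega)
    haveI : Finite (LT F (k + 1) n v) := Subtype.finite
    let Rel : (Σ S : LT F k n v, Fin (wt q S.1.1)) → R → Prop := fun x r => match r with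
      | .inl y => part x.1.1.1 k = 0 ∧ y.1.1.1 = x.1.1.1 ∧ (y.2 : ℕ) = x.2
      | .inr ⟨d, rest, c, m, i⟩ => rest.1 = x.1.1.1.filter (fun y => ¬ y.2 = k) ∧
          (part x.1.1.1 k).prod.natDegree = (d : ℕ) + 1 ∧ sgn0 (part x.1.1.1 k).prod = (c.1 : F) ∧
          (∀ t : Fin (d : ℕ), (part x.1.1.1 k).prod.coeff (t + 1) = m t) ∧ (i : ℕ) = x.2
    have hmon : ∀ (S : T F k n), ∀ f ∈ part S.1 k, f.Monic ∧ Irreducible f ∧ f.coeff 0 ≠ 0 := fun S f hf => by
      obtain ⟨x, hx, rfl⟩ := Multiset.mem_map.1 hf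
      obtain ⟨a, b, c, -⟩ := S.2.1 x (Multiset.mem_filter.1 hx).1
      exact ⟨a, b, c⟩
    have key : ∀ x, ∃ r, Rel x r := by
      rintro ⟨⟨S, hv⟩, i⟩
      by_cases h0 : part S.1 k = 0
      · refine ⟨.inl ⟨⟨⟨S.1, fun x hx => ?_, S.2.2⟩, hv⟩, i⟩, h0, rfl, rfl⟩
        obtain ⟨a, b, c, e⟩ := S.2.1 x hx
        refine ⟨a, b, c, lt_of_le_of_ne e fun he => ?_⟩
        have : x.1 ∈ part S.1 k := Multiset.mem_map.2 ⟨x, Multiset.mem_filter.2 ⟨hx, he.symm⟩, rfl⟩
        rw [h0] at this
        exact Multiset.notMem_zero _ this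
      set M := part S.1 k with hM
      have hpm : M.prod.Monic := by
        have := monic_multiset_prod_of_monic M (fun f => f) fun f hf => (hmon S f hf).1
        rwa [Multiset.map_id'] at this
      have hdeg : M.prod.natDegree = (M.map natDegree).sum :=
        natDegree_multiset_prod _ fun h0 => (hmon S 0 h0).1.ne_zero rfl
      have hd1 : 1 ≤ M.prod.natDegree := by
        obtain ⟨f, hf⟩ := Multiset.exists_mem_of_ne_zero h0
        rw [hdeg]
        exact le_trans (hmon S f hf).2.1.natDegree_pos (Multiset.le_sum_of_mem (Multiset.mem_map_of_mem _ hf))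
      have hsum : k * M.prod.natDegree + ((S.1.filter fun x => ¬ x.2 = k).map fun x => x.2 * x.1.natDegree).sum = n := by
        conv_rhs => rw [← S.2.2, ← Multiset.filter_add_not (fun x => x.2 = k) S.1, Multiset.map_add, Multiset.sum_add]
        congr 1
        rw [hdeg, hM, part, Multiset.map_map, ← Multiset.sum_map_mul_left]
        exact congrArg Multiset.sum (Multiset.map_congr rfl fun x hx => by
          rw [Function.comp_apply, (Multiset.mem_filter.1 hx).2])
      have hd : M.prod.natDegree - 1 < n / k := by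
        have : M.prod.natDegree ≤ n / k := (Nat.le_div_iff_mul_le hk).2 (by rw [mul_comm]; omega)
        omega
      have hc0 : sgn0 M.prod ≠ 0 := by
        refine mul_ne_zero (pow_ne_zero _ (neg_ne_zero.2 one_ne_zero)) ?_
        rw [coeff_zero_eq_eval_zero, eval_multiset_prod]
        refine Multiset.prod_ne_zero fun h0 => ?_
        obtain ⟨f, hf, hf0⟩ := Multiset.mem_map.1 h0
        exact (hmon S f hf).2.2 (by rw [coeff_zero_eq_eval_zero]; exact hf0)
      obtain ⟨x₀, hx₀⟩ := Multiset.exists_mem_of_ne_zero h0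
      obtain ⟨y₀, hy₀, -⟩ := Multiset.mem_map.1 hx₀
      obtain ⟨hy₁, hy₂⟩ := Multiset.mem_filter.1 hy₀
      have hw : wt q S.1 ≤ Nat.gcd (q - 1) k := (wt_le hy₁).trans_eq (by rw [hy₂])
      refine ⟨.inr ⟨⟨_, hd⟩, ⟨S.1.filter fun x => ¬ x.2 = k, fun x hx => ?_, ?_⟩, ⟨Units.mk0 _ hc0, ?_⟩,
        fun t => M.prod.coeff (t + 1), ⟨i, lt_of_lt_of_le i.2 hw⟩⟩, rfl, ?_, rfl, fun t => rfl, rfl⟩
      · obtain ⟨hx1, hx2⟩ := Multiset.mem_filter.1 hx
        obtain ⟨a, b, c, e⟩ := S.2.1 x hx1
        exact ⟨a, b, c, by omega⟩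
      · show _ = n - k * (M.prod.natDegree - 1 + 1)
        rw [Nat.sub_add_cancel hd1]
        omega
      · show sgn0 M.prod ^ k * lblDet (S.1.filter fun x => ¬ x.2 = k) = v
        rw [hM, ← lblDet_filter _ _ fun x hx => (S.2.1 x hx).1, ← lblDet_add, Multiset.filter_add_not, hv]
      · show M.prod.natDegree = M.prod.natDegree - 1 + 1
        omega
    choose ψ hψ using key
    have hinj : Function.Injective ψ := by
      rintro ⟨⟨S, hS⟩, i⟩ ⟨⟨S', hS'⟩, i'⟩ hab
      have ha := hψ ⟨⟨S, hS⟩, i⟩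
      have hb := hψ ⟨⟨S', hS'⟩, i'⟩
      rw [← hab] at hb
      have hfin : S.1 = S'.1 ∧ (i : ℕ) = i' := by
        rcases hr : ψ ⟨⟨S, hS⟩, i⟩ with y | ⟨d, rest, c, m, t⟩
        · rw [hr] at ha hb
          exact ⟨ha.2.1.symm.trans hb.2.1, ha.2.2.symm.trans hb.2.2⟩
        · rw [hr] at ha hb
          obtain ⟨ha1, ha2, ha3, ha4, ha5⟩ := ha
          obtain ⟨hb1, hb2, hb3, hb4, hb5⟩ := hb
          refine ⟨?_, ha5.symm.trans hb5⟩
          have hpm : ∀ S : T F k n, (part S.1 k).prod.Monic := fun S => by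
            have := monic_multiset_prod_of_monic (part S.1 k) (fun f => f) fun f hf => (hmon S f hf).1
            rwa [Multiset.map_id'] at this
          have hP : (part S.1 k).prod = (part S'.1 k).prod := Polynomial.ext fun u => by
            rcases lt_trichotomy u ((d : ℕ) + 1) with hu | rfl | hu
            · rcases u with _ | u
              · have h1 := ha3.trans hb3.symm
                rw [sgn0, sgn0, ha2, hb2] at h1
                exact mul_left_cancel₀ (pow_ne_zero _ (neg_ne_zero.2 one_ne_zero)) h1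
              · exact (ha4 ⟨u, by omega⟩).trans (hb4 ⟨u, by omega⟩).symm
            · have h1 := (hpm S).coeff_natDegree
              have h2 := (hpm S').coeff_natDegree
              rw [ha2] at h1
              rw [hb2] at h2
              rw [h1, h2]
            · rw [coeff_eq_zero_of_natDegree_lt (by rw [ha2]; exact hu), coeff_eq_zero_of_natDegree_lt (by rw [hb2]; exact hu)]
          have hnf : ∀ S : T F k n, normalizedFactors (part S.1 k).prod = part S.1 k := fun S => by
            rw [normalizedFactors_prod_eq _ fun f hf => (hmon S f hf).2.1]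
            conv_rhs => rw [← Multiset.map_id' (part S.1 k)]
            exact Multiset.map_congr rfl fun f hf => (hmon S f hf).1.normalize_eq_self
          have h3 := hnf S
          rw [hP, hnf S'] at h3
          rw [← Multiset.filter_add_not (fun x => x.2 = k) S.1, ← Multiset.filter_add_not (fun x => x.2 = k) S'.1,
            ← ha1, ← hb1, filter_eq_part, filter_eq_part, h3]
      obtain ⟨h1, h2⟩ := hfin
      obtain rfl : S = S' := Subtype.ext h1
      obtain rfl : i = i' := Fin.ext h2
      rfl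
    refine (Nat.card_le_card_of_injective ψ hinj).trans ?_
    rw [Nat.card_sum, Bd, ← Finset.add_sum_Ioc_eq_sum_Icc (by omega : k ≤ n), ← Finset.Icc_add_one_left_eq_Ioc,
      add_comm]
    refine Nat.add_le_add ?_ (ih (k + 1) n (by omega) (by omega) hn v)
    rw [Nat.card_sigma, D, mul_sum,
      ← Fin.sum_univ_eq_sum_range (fun d => Nat.gcd (q - 1) k ^ 2 * (q ^ d * A q (k + 1) (n - k * (d + 1)))) (n / k)]
    refine sum_le_sum fun d _ => ?_
    haveI := Fintype.ofFinite (T F (k + 1) (n - k * ((d : ℕ) + 1)))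
    rw [Nat.card_sigma]
    refine (sum_le_sum (g := fun _ => Nat.gcd (q - 1) k ^ 2 * q ^ (d : ℕ)) fun rest _ => ?_).trans ?_
    · rw [Nat.card_prod, Nat.card_prod, Nat.card_fun, Nat.card_fin, Nat.card_fin,
        Nat.card_eq_fintype_card (α := F), ← hq]
      refine (Nat.mul_le_mul_right _ (card_root_le k v _ (lblDet_ne_zero rest))).trans (le_of_eq ?_)
      rw [← hq]; ring
    · rw [sum_const, card_univ, smul_eq_mul, ← Nat.card_eq_fintype_card]
      refine (Nat.mul_le_mul_right _ (card_T _ (k + 1) _ le_rfl (by omega)).2).trans (le_of_eq ?_)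
      rw [← hq]; ring

/-- The condition of being fixed by a scaling. -/
def Fixed (ζ : F) (S : Multiset (F[X] × ℕ)) : Prop := S.map (sc ζ) = S

theorem natDegree_eq_mul_of_expand {o : ℕ} {f h : F[X]} (hf : expand F o h = f) : f.natDegree = h.natDegree * o := by
  rw [← hf, natDegree_expand]

omit [Fintype F] in
theorem scaleRoots_prod (ζ : F) : ∀ M : Multiset F[X], M.prod.scaleRoots ζ = (M.map fun f => f.scaleRoots ζ).prod := by
  intro M
  induction M using Multiset.induction with
  | empty => simp [one_scaleRoots]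
  | cons a s ih => rw [Multiset.prod_cons, mul_scaleRoots_of_noZeroDivisors, ih, Multiset.map_cons, Multiset.prod_cons]

/-- A polynomial fixed by scaling is a polynomial in `X ^ o`. -/
theorem exists_expand {ζ : Fˣ} {f : F[X]} (hf : f.Monic) (hf0 : f.coeff 0 ≠ 0)
    (hfix : f.scaleRoots (ζ : F) = f) :
    ∃ h : F[X], h.Monic ∧ h.coeff 0 ≠ 0 ∧ expand F (orderOf ζ) h = f := by
  classical
  have ho : 0 < orderOf ζ := orderOf_pos ζ
  have hcoef : ∀ i, f.coeff i ≠ 0 → orderOf ζ ∣ f.natDegree - i := fun i hi => by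
    have h1 := congrArg (fun g : F[X] => g.coeff i) hfix
    simp only [coeff_scaleRoots] at h1
    exact orderOf_dvd_of_pow_eq_one (Units.ext (by simpa using mul_left_cancel₀ hi (h1.trans (mul_one _).symm)))
  have hd : orderOf ζ ∣ f.natDegree := by simpa using hcoef 0 hf0
  have he : expand F (orderOf ζ) (contract (orderOf ζ) f) = f := by
    ext i
    rw [coeff_expand ho]
    split_ifs with hdiv
    · rw [coeff_contract ho.ne', Nat.div_mul_cancel hdiv]
    · by_contra hne
      have hle : i ≤ f.natDegree := le_natDegree_of_ne_zero (Ne.symm hne)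
      exact hdiv ((Nat.dvd_sub_iff_right hle hd).1 (hcoef i (Ne.symm hne)))
  refine ⟨contract (orderOf ζ) f, (monic_expand_iff ho).1 (by rw [he]; exact hf), ?_, he⟩
  rw [coeff_contract ho.ne', zero_mul]
  exact hf0

theorem card_WT_fixed (n o m : ℕ) (ho : n = o * m) (hm : 1 ≤ m) (ζ : Fˣ) (hζ : orderOf ζ = o) (v : F) :
    Nat.card {x : Σ S : LT F 1 n v, Fin (wt (Fintype.card F) S.1.1) // Fixed (ζ : F) x.1.1.1}
      ≤ Bd (Fintype.card F) 1 m := by
  classical
  set q := Fintype.card F with hq
  have ho0 : 0 < o := hζ ▸ orderOf_pos ζ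
  set s : F := (-1) ^ (o - 1) with hs
  set v' := (s ^ m)⁻¹ * v with hv'
  haveI : Finite (T F 1 m) := finite_T le_rfl
  haveI : Finite (LT F 1 m v') := Subtype.finite
  refine le_trans ?_ (card_WT (m + 1) 1 m (by omega) le_rfl hm v')
  have key : ∀ S : LT F 1 n v, Fixed (ζ : F) S.1.1 → ∃ S' : LT F 1 m v',
      wt q S'.1.1 = wt q S.1.1 ∧ ∀ j, (part S.1.1 j).prod = expand F o (part S'.1.1 j).prod := by
    intro S hfix
    set S₀ := S.1.1 with hS₀
    have hmon : ∀ j, ∀ f ∈ part S₀ j, f.Monic ∧ Irreducible f ∧ f.coeff 0 ≠ 0 := fun j f hf => by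
      obtain ⟨x, hx, rfl⟩ := Multiset.mem_map.1 hf
      obtain ⟨a, b, c, -⟩ := S.1.2.1 x (Multiset.mem_filter.1 hx).1
      exact ⟨a, b, c⟩
    have hpm : ∀ j, (part S₀ j).prod.Monic := fun j => by
      have := monic_multiset_prod_of_monic (part S₀ j) (fun f => f) fun f hf => (hmon j f hf).1
      rwa [Multiset.map_id'] at this
    have hp0 : ∀ j, (part S₀ j).prod.coeff 0 ≠ 0 := fun j => by
      rw [coeff_zero_eq_eval_zero, eval_multiset_prod]
      refine Multiset.prod_ne_zero fun h0 => ?_
      obtain ⟨f, hf, hf0⟩ := Multiset.mem_map.1 h0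
      exact (hmon j f hf).2.2 (by rw [coeff_zero_eq_eval_zero]; exact hf0)
    have hexp : ∀ j, ∃ h : F[X], h.Monic ∧ h.coeff 0 ≠ 0 ∧ expand F o h = (part S₀ j).prod := fun j => by
      refine hζ ▸ exists_expand (hpm j) (hp0 j) ?_
      rw [scaleRoots_prod]
      congr 1
      conv_rhs => rw [← hfix]
      rw [part, part, Multiset.map_map, Multiset.filter_map, Multiset.map_map]
      exact Multiset.map_congr (Multiset.filter_congr fun x _ => Iff.rfl) fun x _ => rfl
    choose h hhm hh0 hhe using hexp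
    set J := (S₀.map Prod.snd).toFinset with hJ
    have hJmem : ∀ j, j ∈ J ↔ ∃ x ∈ S₀, x.2 = j := fun j => by simp [hJ]
    set S' : Multiset (F[X] × ℕ) := ∑ j ∈ J, (normalizedFactors (h j)).map fun g => (g, j) with hS'
    have hprodh : ∀ j, (normalizedFactors (h j)).prod = h j := fun j => by
      have h1 := prod_normalizedFactors (hhm j).ne_zero
      refine eq_of_monic_of_associated ?_ (hhm j) h1
      have := monic_multiset_prod_of_monic (normalizedFactors (h j)) (fun f => f) fun f hf => by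
        rw [← normalize_normalized_factor f hf]
        exact monic_normalize (irreducible_of_normalized_factor f hf).ne_zero
      rwa [Multiset.map_id'] at this
    have hmem : ∀ y ∈ S', ∃ j ∈ J, y.2 = j ∧ y.1 ∈ normalizedFactors (h j) := fun y hy => by
      obtain ⟨j, hj, hy⟩ := Multiset.mem_sum.1 hy
      obtain ⟨g, hg, rfl⟩ := Multiset.mem_map.1 hy
      exact ⟨j, hj, rfl, hg⟩
    have hdeg : ∀ j, (part S₀ j).prod.natDegree = (h j).natDegree * o := fun j => natDegree_eq_mul_of_expand (hhe j)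
    have hne1 : ∀ j ∈ J, 1 ≤ (h j).natDegree := fun j hj => by
      obtain ⟨x, hx, rfl⟩ := (hJmem j).1 hj
      have hmem : x.1 ∈ part S₀ x.2 := Multiset.mem_map.2 ⟨x, Multiset.mem_filter.2 ⟨hx, rfl⟩, rfl⟩
      have h1 : 1 ≤ (part S₀ x.2).prod.natDegree := by
        rw [natDegree_multiset_prod _ fun h0 => (hmon _ 0 h0).1.ne_zero rfl]
        exact le_trans (hmon _ _ hmem).2.1.natDegree_pos (Multiset.le_sum_of_mem (Multiset.mem_map_of_mem _ hmem))
      rw [hdeg] at h1
      exact Nat.pos_of_ne_zero fun h0 => by simp [h0] at h1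
    have hpart : ∀ j, part S' j = if j ∈ J then normalizedFactors (h j) else 0 := fun j => by
      have hF : ∀ i : ℕ, ∀ M : Multiset F[X], ((M.map fun g => (g, i)).filter fun x => x.2 = j).map Prod.fst
          = if i = j then M else 0 := fun i M => by
        rw [Multiset.filter_map, Multiset.map_map]
        split_ifs with hij <;> simp [Function.comp_def, hij]
      have hsum : ∀ (K : Finset ℕ) (G : ℕ → Multiset F[X]),
          part (∑ i ∈ K, (G i).map fun g => (g, i)) j = ∑ i ∈ K, if i = j then G i else 0 := fun K G => by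
        induction K using Finset.induction with
        | empty => rfl
        | insert a K ha ihK =>
          rw [sum_insert ha, sum_insert ha, part, Multiset.filter_add, Multiset.map_add, hF, ← part, ihK]
      rw [hS', hsum, Finset.sum_ite_eq']
    have hdetS : lblDet S₀ = ∏ j ∈ J, sgn0 (part S₀ j).prod ^ j := by
      rw [lblDet, Finset.prod_multiset_map_count]
      rw [← Finset.prod_fiberwise_of_maps_to (g := Prod.snd) (t := J) fun x hx =>
        (hJmem x.2).2 ⟨x, Multiset.mem_toFinset.1 hx, rfl⟩]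
      refine Finset.prod_congr rfl fun j _ => ?_
      rw [← lblDet_filter _ _ fun x hx => (S.1.2.1 x hx).1, lblDet, Finset.prod_multiset_map_count,
        Multiset.toFinset_filter]
      refine Finset.prod_congr rfl fun x hx => ?_
      rw [Multiset.count_filter_of_pos (p := fun y : F[X] × ℕ => y.2 = j) (Finset.mem_filter.1 hx).2]
    have hdetS' : lblDet S' = ∏ j ∈ J, sgn0 (h j) ^ j := by
      rw [hS', lblDet]
      have : ∀ K : Finset ℕ, ((∑ i ∈ K, (normalizedFactors (h i)).map fun g => (g, i)).map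
          fun x : F[X] × ℕ => ((-1) ^ x.1.natDegree * x.1.coeff 0) ^ x.2).prod = ∏ j ∈ K, sgn0 (h j) ^ j := fun K => by
        induction K using Finset.induction with
        | empty => rfl
        | insert a K ha ihK =>
          rw [sum_insert ha, prod_insert ha, Multiset.map_add, Multiset.prod_add, ihK, Multiset.map_map]
          congr 1
          conv_rhs => rw [← hprodh a, sgn0_prod _ fun f hf => by
            rw [← normalize_normalized_factor f hf]
            exact monic_normalize (irreducible_of_normalized_factor f hf).ne_zero, ← Multiset.prod_map_pow]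
          rfl
      exact this J
    have hdegsum : ∀ M : Multiset (F[X] × ℕ), (∀ x ∈ M, x.2 ∈ J) → (∀ x ∈ M, x.1.Monic) →
        (M.map fun x => x.2 * x.1.natDegree).sum = ∑ j ∈ J, j * (part M j).prod.natDegree := fun M hMJ hMm => by
      induction M using Multiset.induction with
      | empty => simp [part]
      | cons a M ihM =>
        have hmM : ∀ j, (part M j).prod.Monic := fun j => by
          have := monic_multiset_prod_of_monic (part M j) (fun f => f) fun f hf => by
            obtain ⟨x, hx, rfl⟩ := Multiset.mem_map.1 hf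
            exact hMm x (Multiset.mem_cons_of_mem (Multiset.mem_filter.1 hx).1)
          rwa [Multiset.map_id'] at this
        have hcons : ∀ j ∈ J, j * (part (a ::ₘ M) j).prod.natDegree
            = (if a.2 = j then j * a.1.natDegree else 0) + j * (part M j).prod.natDegree := fun j _ => by
          rw [part, Multiset.filter_cons, Multiset.map_add, Multiset.prod_add]
          split_ifs with haj
          · rw [Multiset.map_singleton, Multiset.prod_singleton, ← part,
              (hMm a (Multiset.mem_cons_self a M)).natDegree_mul (hmM j), mul_add]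
          · rw [Multiset.map_zero, Multiset.prod_zero, one_mul, zero_add]
            rfl
        rw [Multiset.map_cons, Multiset.sum_cons, sum_congr rfl hcons, sum_add_distrib, Finset.sum_ite_eq,
          if_pos (hMJ a (Multiset.mem_cons_self a M)),
          ihM (fun x hx => hMJ x (Multiset.mem_cons_of_mem hx)) fun x hx => hMm x (Multiset.mem_cons_of_mem hx)]
    have hS'props : ∀ y ∈ S', y.1.Monic ∧ Irreducible y.1 ∧ y.1.coeff 0 ≠ 0 ∧ 1 ≤ y.2 := fun y hy => by
      obtain ⟨j, hj, hyj, hy⟩ := hmem y hy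
      refine ⟨?_, irreducible_of_normalized_factor _ hy, fun h0 => ?_, ?_⟩
      · rw [← normalize_normalized_factor _ hy]
        exact monic_normalize (irreducible_of_normalized_factor _ hy).ne_zero
      · obtain ⟨r, hr⟩ := dvd_of_mem_normalizedFactors hy
        exact hh0 j (by rw [hr, mul_coeff_zero, h0, zero_mul])
      · obtain ⟨x, hx, rfl⟩ := (hJmem j).1 hj
        rw [hyj]
        exact (S.1.2.1 x hx).2.2.2
    have hn' : ∑ j ∈ J, j * (h j).natDegree = m := by
      have h1 := hdegsum S₀ (fun x hx => (hJmem _).2 ⟨x, hx, rfl⟩) fun x hx => (S.1.2.1 x hx).1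
      rw [S.1.2.2] at h1
      refine Nat.eq_of_mul_eq_mul_left ho0 ?_
      rw [← ho, h1, mul_sum]
      exact sum_congr rfl fun j _ => by rw [hdeg]; ring
    refine ⟨⟨⟨S', hS'props, ?_⟩, ?_⟩, ?_, fun j => ?_⟩
    · rw [hdegsum S' (fun y hy => by obtain ⟨j, hj, hyj, -⟩ := hmem y hy; rwa [hyj]) fun y hy => (hS'props y hy).1,
        ← hn']
      exact sum_congr rfl fun j hj => by rw [hpart, if_pos hj, hprodh]
    · show lblDet S' = v'
      rw [hv', ← S.2, ← hS₀, hdetS, hdetS', eq_inv_mul_iff_mul_eq₀ (pow_ne_zero _ (pow_ne_zero _ (neg_ne_zero.2 one_ne_zero))),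
        ← hn', ← Finset.prod_pow_eq_pow_sum, ← Finset.prod_mul_distrib]
      refine Finset.prod_congr rfl fun j _ => ?_
      rw [mul_comm j, pow_mul, ← mul_pow, sgn0, sgn0, hdeg]
      congr 1
      rw [← hhe, mul_comm (h j).natDegree o, pow_mul, show (expand F o (h j)).coeff 0 = (h j).coeff 0 by
        rw [coeff_expand ho0, if_pos (dvd_zero o), Nat.zero_div], ← mul_assoc, ← mul_pow]
      congr 2
      rw [← pow_succ, Nat.sub_add_cancel ho0]
    · refine wt_congr q fun j => ?_
      constructor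
      · rintro ⟨y, hy, rfl⟩
        obtain ⟨i, hi, hyi, -⟩ := hmem y hy
        rw [hyi]
        exact (hJmem i).1 hi
      · rintro ⟨x, hx, rfl⟩
        have hj : x.2 ∈ J := (hJmem _).2 ⟨x, hx, rfl⟩
        have hnu : normalizedFactors (h x.2) ≠ 0 := fun h0 => by
          have h1 := hprodh x.2
          rw [h0, Multiset.prod_zero] at h1
          have := hne1 _ hj
          rw [← h1, natDegree_one] at this
          omega
        obtain ⟨g, hg⟩ := Multiset.exists_mem_of_ne_zero hnu
        exact ⟨(g, x.2), Multiset.mem_sum.2 ⟨x.2, hj, Multiset.mem_map_of_mem _ hg⟩, rfl⟩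
    · show (part S₀ j).prod = expand F o (part S' j).prod
      rw [hpart]
      split_ifs with hj
      · rw [hprodh, hhe]
      · have : part S₀ j = 0 := by
          rw [part, Multiset.map_eq_zero, Multiset.filter_eq_nil]
          exact fun x hx he => hj ((hJmem j).2 ⟨x, hx, he⟩)
        rw [this, Multiset.prod_zero, map_one]
  choose ψ hw hparts using key
  refine Nat.card_le_card_of_injective
    (fun x => (⟨ψ x.1.1 x.2, Fin.cast (hw x.1.1 x.2).symm x.1.2⟩ : Σ S : LT F 1 m v', Fin (wt q S.1.1))) ?_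
  rintro ⟨⟨S, i⟩, hS⟩ ⟨⟨S', i'⟩, hS'⟩ hxy
  simp only [Sigma.mk.injEq] at hxy
  obtain ⟨h1, h2⟩ := hxy
  have hSS : S = S' := by
    refine Subtype.ext (Subtype.ext (Multiset.ext.2 fun x => ?_))
    have hp : (part S.1.1 x.2).prod = (part S'.1.1 x.2).prod := by rw [hparts S hS, hparts S' hS', h1]
    have hnf : ∀ S : LT F 1 n v, normalizedFactors (part S.1.1 x.2).prod = part S.1.1 x.2 := fun S => by
      have hmon : ∀ f ∈ part S.1.1 x.2, f.Monic ∧ Irreducible f := fun f hf => by
        obtain ⟨y, hy, rfl⟩ := Multiset.mem_map.1 hf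
        exact ⟨(S.1.2.1 y (Multiset.mem_filter.1 hy).1).1, (S.1.2.1 y (Multiset.mem_filter.1 hy).1).2.1⟩
      rw [normalizedFactors_prod_eq _ fun f hf => (hmon f hf).2]
      conv_rhs => rw [← Multiset.map_id' (part S.1.1 x.2)]
      exact Multiset.map_congr rfl fun f hf => (hmon f hf).1.normalize_eq_self
    have h3 := hnf S
    rw [hp, hnf S'] at h3
    rw [← Multiset.count_filter_of_pos (s := S.1.1) (p := fun y => y.2 = x.2) rfl,
      ← Multiset.count_filter_of_pos (s := S'.1.1) (p := fun y => y.2 = x.2) rfl, filter_eq_part, filter_eq_part, h3]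
  subst hSS
  have h4 : (i : ℕ) = i' := by simpa using congrArg Fin.val (eq_of_heq h2)
  obtain rfl : i = i' := Fin.ext h4
  rfl

end Cfsg.Agent.Classical.SLClasses
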