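import Mathlib
import Cfsg.Prelude.Def_ClassicalGeometry
import Cfsg.Agent.Lib.Classical.Symp
import Cfsg.Agent.Lib.Classical.NormalForms
import Cfsg.Agent.Lib.Classical.MatrixOrders

/-! Block embeddings, tori and regular unipotent elements of symplectic groups. -/

set_option autoImplicit false

namespace Cfsg.Agent.Classical

open Matrix

variable {F : Type*} [Field F] {a b : ℕ}

local notation "Sp(" m ")" => Matrix.symplecticGroup (Fin m) F

/-- Interleaving of two symplectic index sets. -/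
def sympBlockEquiv (a b : ℕ) :
    (Fin a ⊕ Fin a) ⊕ (Fin b ⊕ Fin b) ≃ Fin (a + b) ⊕ Fin (a + b) :=
  (Equiv.sumSumSumComm _ _ _ _).trans (Equiv.sumCongr finSumFinEquiv finSumFinEquiv)

theorem submatrix_J :
    (Matrix.J (Fin (a + b)) F).submatrix (sympBlockEquiv a b) (sympBlockEquiv a b) =
      Matrix.fromBlocks (Matrix.J (Fin a) F) 0 0 (Matrix.J (Fin b) F) := by
  ext i j
  rcases i with (i | i) | (i | i) <;> rcases j with (j | j) | (j | j) <;>
    simp [Matrix.J, sympBlockEquiv, Matrix.one_apply, finSumFinEquiv, Fin.ext_iff] <;>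
    omega

/-- The block diagonal matrix of a pair. -/
def blockMat (A : Matrix (Fin a ⊕ Fin a) (Fin a ⊕ Fin a) F)
    (B : Matrix (Fin b ⊕ Fin b) (Fin b ⊕ Fin b) F) :
    Matrix (Fin (a + b) ⊕ Fin (a + b)) (Fin (a + b) ⊕ Fin (a + b)) F :=
  (Matrix.fromBlocks A 0 0 B).submatrix (sympBlockEquiv a b).symm (sympBlockEquiv a b).symm

theorem blockMat_J : blockMat (Matrix.J (Fin a) F) (Matrix.J (Fin b) F) = Matrix.J (Fin (a + b)) F := by
  rw [blockMat, ← submatrix_J, Matrix.submatrix_submatrix, Equiv.self_comp_symm, Matrix.submatrix_id_id]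

theorem blockMat_mul (A A' : Matrix (Fin a ⊕ Fin a) (Fin a ⊕ Fin a) F)
    (B B' : Matrix (Fin b ⊕ Fin b) (Fin b ⊕ Fin b) F) :
    blockMat A B * blockMat A' B' = blockMat (A * A') (B * B') := by
  rw [blockMat, blockMat, blockMat, Matrix.submatrix_mul_equiv, Matrix.fromBlocks_multiply]
  simp only [Matrix.mul_zero, Matrix.zero_mul, add_zero, zero_add]

theorem blockMat_one : blockMat (1 : Matrix (Fin a ⊕ Fin a) (Fin a ⊕ Fin a) F)
    (1 : Matrix (Fin b ⊕ Fin b) (Fin b ⊕ Fin b) F) = 1 := by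
  rw [blockMat, Matrix.fromBlocks_one, Matrix.submatrix_one_equiv]

theorem blockMat_neg (A : Matrix (Fin a ⊕ Fin a) (Fin a ⊕ Fin a) F)
    (B : Matrix (Fin b ⊕ Fin b) (Fin b ⊕ Fin b) F) : blockMat (-A) (-B) = -blockMat A B := by
  ext i j
  simp only [blockMat, Matrix.submatrix_apply, Matrix.neg_apply]
  rcases (sympBlockEquiv a b).symm i with k | k <;> rcases (sympBlockEquiv a b).symm j with l | l <;> simp

theorem blockMat_transpose (A : Matrix (Fin a ⊕ Fin a) (Fin a ⊕ Fin a) F)
    (B : Matrix (Fin b ⊕ Fin b) (Fin b ⊕ Fin b) F) : (blockMat A B)ᵀ = blockMat Aᵀ Bᵀ := by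
  rw [blockMat, blockMat, Matrix.transpose_submatrix, Matrix.fromBlocks_transpose, Matrix.transpose_zero,
    Matrix.transpose_zero]

theorem blockMat_mem (A : Sp(a)) (B : Sp(b)) :
    blockMat (A : Matrix _ _ F) (B : Matrix _ _ F) ∈ Sp(a + b) := by
  rw [SymplecticGroup.mem_iff, ← blockMat_J, blockMat_transpose, blockMat_mul, blockMat_mul,
    SymplecticGroup.mem_iff.1 A.2, SymplecticGroup.mem_iff.1 B.2]

/-- The underlying function of `sympBlock`. -/
def sympBlockFun (a b : ℕ) (x : Sp(a) × Sp(b)) : Sp(a + b) :=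
  ⟨blockMat (x.1 : Matrix (Fin a ⊕ Fin a) (Fin a ⊕ Fin a) F) (x.2 : Matrix (Fin b ⊕ Fin b) (Fin b ⊕ Fin b) F),
    blockMat_mem x.1 x.2⟩

theorem sympBlockFun_val (x : Sp(a) × Sp(b)) :
    (sympBlockFun a b x).val = blockMat x.1.val x.2.val := rfl

theorem sympBlockFun_mul (x y : Sp(a) × Sp(b)) :
    sympBlockFun a b (x * y) = sympBlockFun a b x * sympBlockFun a b y := by
  refine Subtype.ext ?_
  rw [Submonoid.coe_mul]
  simp only [sympBlockFun_val, Prod.fst_mul, Prod.snd_mul, Submonoid.coe_mul, blockMat_mul]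

/-- `Sp_{2a} × Sp_{2b} → Sp_{2a+2b}`. -/
def sympBlock (a b : ℕ) : Sp(a) × Sp(b) →* Sp(a + b) :=
  MonoidHom.mk' (sympBlockFun a b) sympBlockFun_mul

theorem sympBlock_injective : Function.Injective (sympBlock (F := F) a b) := by
  intro x y h
  have h1 := congrArg (fun M : Sp(a + b) =>
    M.val.submatrix (sympBlockEquiv a b) (sympBlockEquiv a b)) h
  simp only [sympBlock, MonoidHom.mk'_apply, sympBlockFun_val, blockMat, Matrix.submatrix_submatrix,
    Equiv.symm_comp_self, Matrix.submatrix_id_id, Matrix.fromBlocks_inj] at h1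
  exact Prod.ext (Subtype.ext h1.1) (Subtype.ext h1.2.2.2)

/-- The element `-1`. -/
def sympNegOne (m : ℕ) (F : Type*) [Field F] : Matrix.symplecticGroup (Fin m) F :=
  ⟨-1, SymplecticGroup.neg_mem (one_mem _)⟩

theorem sympBlock_negOne :
    sympBlock (F := F) a b (sympNegOne a F, sympNegOne b F) = sympNegOne (a + b) F :=
  Subtype.ext ((blockMat_neg _ _).trans (congrArg (fun M => -M) blockMat_one))

theorem sympNegOne_sq (m : ℕ) : sympNegOne m F ^ 2 = 1 :=
  Subtype.ext (by simp [sympNegOne, sq])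

theorem sympNegOne_commute {m : ℕ} (A : Sp(m)) : Commute (sympNegOne m F) A :=
  Subtype.ext (by simp [sympNegOne])

theorem sympNegOne_ne_one (h2 : (2 : F) ≠ 0) {m : ℕ} (hm : 1 ≤ m) : sympNegOne m F ≠ 1 := by
  intro h
  have h1 := congrFun (congrFun (congrArg Subtype.val h) (Sum.inl ⟨0, hm⟩)) (Sum.inl ⟨0, hm⟩)
  simp [sympNegOne] at h1
  exact h2 (by linear_combination -h1)

/-- The Levi embedding `GL_e → Sp_{2e}`. -/
def sympLevi (e : ℕ) : GL (Fin e) F →* Sp(e) where
  toFun g := ⟨Matrix.fromBlocks (g : Matrix _ _ F) 0 0 ((g⁻¹ : GL (Fin e) F) : Matrix _ _ F)ᵀ, by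
    rw [SymplecticGroup.mem_iff, Matrix.fromBlocks_transpose, Matrix.J, Matrix.fromBlocks_multiply,
      Matrix.fromBlocks_multiply]
    simp [← Matrix.transpose_mul]⟩
  map_one' := Subtype.ext (by simp [Matrix.fromBlocks_one])
  map_mul' g h := Subtype.ext (by simp [Matrix.fromBlocks_multiply, Matrix.transpose_mul])

theorem sympLevi_injective (e : ℕ) : Function.Injective (sympLevi (F := F) e) := fun g h hgh =>
  Units.ext (Matrix.fromBlocks_inj.1 (congrArg Subtype.val hgh)).1

/-- A split torus element of order `q ^ e - 1`. -/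
theorem exists_symp_order_sub [Fintype F] {e : ℕ} (he : 1 ≤ e) :
    ∃ x : Sp(e), orderOf x = Fintype.card F ^ e - 1 := by
  classical
  obtain ⟨p, hp⟩ := CharP.exists F
  haveI := hp
  haveI : Fact p.Prime := ⟨CharP.char_is_prime F p⟩
  haveI : NeZero e := ⟨by omega⟩
  let K := FiniteField.Extension F p e
  have hK : Module.finrank F K = e := FiniteField.finrank_extension F p e
  letI : Fintype K := Fintype.ofFinite K
  obtain ⟨u, hu⟩ := IsCyclic.exists_generator (α := Kˣ)
  let bs := Module.finBasisOfFinrankEq F K hK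
  let L : Kˣ →* GL (Fin e) F := Units.map (Algebra.leftMulMatrix bs).toMonoidHom
  refine ⟨sympLevi e (L u), ?_⟩
  rw [orderOf_injective _ (sympLevi_injective e),
    orderOf_injective L (Units.map_injective (Algebra.leftMulMatrix_injective bs)),
    orderOf_eq_card_of_forall_mem_zpowers hu, Nat.card_units, Module.natCard_eq_pow_finrank (K := F),
    Nat.card_eq_fintype_card, hK]

/-- A non-degenerate alternating space has coordinates carrying the standard form to it. -/
theorem exists_symp_coords {V : Type*} [AddCommGroup V] [Module F V] [FiniteDimensional F V] {e : ℕ}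
    (B : LinearMap.BilinForm F V) (hA : B.IsAlt) (hB : ∀ x, (∀ y, B x y = 0) → x = 0)
    (hV : Module.finrank F V = 2 * e) :
    ∃ L : (Fin e ⊕ Fin e → F) ≃ₗ[F] V, ∀ u v, B (L u) (L v) = sympForm e F u v := by
  classical
  obtain ⟨m, k, x, y, r, hmk, -, -, hxy, hxx, hyy, hr, hspan⟩ :=
    exists_symplectic_family B hA (2 * e) ⊤ (finrank_top F V ▸ hV)
  have hr0 : ∀ j, r j = 0 := fun j => hB _ fun w => hr j w trivial
  have hyx : ∀ i j, B (y i) (x j) = if i = j then -1 else 0 := fun i j => by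
    rw [← LinearMap.IsAlt.neg hA (x j) (y i), hxy]
    simp only [eq_comm (a := i)]
    split_ifs <;> simp
  let f : (Fin m ⊕ Fin m → F) →ₗ[F] V :=
    Fintype.linearCombination F (Sum.elim y x)
  have hf : ∀ u, f u = (∑ i, u (Sum.inl i) • y i) + ∑ i, u (Sum.inr i) • x i := fun u => by
    simp [f, Fintype.linearCombination_apply, Fintype.sum_sum_type]
  have hform : ∀ u v, B (f u) (f v) = sympForm m F u v := fun u v => by
    rw [hf, hf, sympForm_eq_sum]
    simp [map_sum, hxy, hxx, hyy, hyx, mul_comm, sub_eq_add_neg, add_comm]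
    rw [Finset.sum_add_distrib, Finset.sum_neg_distrib]
    ring
  have hinj : Function.Injective f := (injective_iff_map_eq_zero f).2 fun u hu =>
    eq_zero_of_sympForm_eq_zero fun v => by rw [← hform, hu, map_zero, LinearMap.zero_apply]
  have hsurj : Function.Surjective f := by
    refine LinearMap.range_eq_top.1 (top_unique (hspan.trans (Submodule.span_le.2 ?_)))
    rintro z ((⟨i, rfl⟩ | ⟨i, rfl⟩) | ⟨j, rfl⟩)
    · exact ⟨Pi.single (Sum.inr i) 1, by rw [Fintype.linearCombination_apply_single]; simp⟩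
    · exact ⟨Pi.single (Sum.inl i) 1, by rw [Fintype.linearCombination_apply_single]; simp⟩
    · rw [hr0]; exact Submodule.zero_mem _
  let L := LinearEquiv.ofBijective f ⟨hinj, hsurj⟩
  have hm : m = e := by
    have := L.finrank_eq
    rw [Module.finrank_pi, Fintype.card_sum, Fintype.card_fin, hV] at this
    omega
  subst hm
  exact ⟨L, hform⟩

/-- A non-split torus element of order `q ^ e + 1`. -/
theorem exists_symp_order_add [Fintype F] (h2 : (2 : F) ≠ 0) {e : ℕ} (he : 1 ≤ e) :
    ∃ x : Sp(e), orderOf x = Fintype.card F ^ e + 1 := by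
  classical
  obtain ⟨p, hp⟩ := CharP.exists F
  haveI := hp
  haveI : Fact p.Prime := ⟨CharP.char_is_prime F p⟩
  haveI : NeZero (2 * e) := ⟨by omega⟩
  set q := Fintype.card F with hqdef
  let K := FiniteField.Extension F p (2 * e)
  have hK : Module.finrank F K = 2 * e := FiniteField.finrank_extension F p (2 * e)
  letI : Fintype K := Fintype.ofFinite K
  have hKc : Fintype.card K = q ^ (2 * e) := by
    rw [← Nat.card_eq_fintype_card, Module.natCard_eq_pow_finrank (K := F), Nat.card_eq_fintype_card, hK]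
  let s : K ≃ₐ[F] K := AlgEquiv.ofBijective ((FiniteField.frobeniusAlgHom F K) ^ e)
    (Finite.injective_iff_bijective.1 (RingHom.injective _))
  have hs : ∀ x, s x = x ^ q ^ e := by
    intro x
    show ((FiniteField.frobeniusAlgHom F K) ^ e) x = _
    rw [AlgHom.coe_pow, FiniteField.coe_frobeniusAlgHom, pow_iterate]
  have hss : ∀ x, s (s x) = x := fun x => by
    rw [hs, hs, ← pow_mul, ← pow_add, ← two_mul, ← hKc, FiniteField.pow_card]
  obtain ⟨g, hg⟩ := IsCyclic.exists_generator (α := Kˣ)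
  have hog : orderOf g = q ^ (2 * e) - 1 := by
    rw [orderOf_eq_card_of_forall_mem_zpowers hg, Nat.card_units, Nat.card_eq_fintype_card, hKc]
  have hq1 : 2 ≤ q := Fintype.one_lt_card
  have hqe : q ≤ q ^ e := Nat.le_self_pow (by omega) q
  have hfac : q ^ (2 * e) - 1 = (q ^ e + 1) * (q ^ e - 1) := by
    rw [← Nat.sq_sub_sq, one_pow, ← pow_mul, mul_comm]
  set ω := (g : K) - s g
  have hω0 : ω ≠ 0 := by
    intro h
    rw [sub_eq_zero, hs] at h
    have h1 : g ^ (q ^ e - 1) = 1 := by
      refine mul_left_cancel (a := g) ?_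
      rw [mul_one, ← pow_succ', Nat.sub_add_cancel (by omega)]
      exact Units.ext (by rw [Units.val_pow_eq_pow_val]; exact h.symm)
    have h3 := Nat.le_of_dvd (by omega) (orderOf_dvd_of_pow_eq_one h1)
    rw [hog, hfac] at h3
    have h4 : 2 * (q ^ e - 1) ≤ (q ^ e + 1) * (q ^ e - 1) := Nat.mul_le_mul_right _ (by omega)
    omega
  have hsω : s ω = -ω := by rw [map_sub, hss]; ring
  let B : LinearMap.BilinForm F K :=
    LinearMap.mk₂ F (fun x y => Algebra.trace F K (ω * x * s y))
      (fun x x' y => by rw [mul_add, add_mul, map_add])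
      (fun c x y => by rw [mul_smul_comm, smul_mul_assoc, map_smul])
      (fun x y y' => by rw [map_add, mul_add, map_add])
      (fun c x y => by rw [map_smul, mul_smul_comm, map_smul])
  have hBa : ∀ x y, B x y = Algebra.trace F K (ω * x * s y) := fun x y => rfl
  have hA : B.IsAlt := fun x => by
    have h1 : Algebra.trace F K (s (ω * x * s x)) = Algebra.trace F K (ω * x * s x) :=
      Algebra.trace_eq_of_algEquiv s _
    have h4 : B x x + B x x = 0 := by
      rw [hBa]
      nth_rewrite 1 [← h1]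
      rw [← map_add, map_mul, map_mul, hsω, hss, show -ω * s x * x + ω * x * s x = 0 by ring, map_zero]
    rw [← two_mul] at h4
    exact (mul_eq_zero.1 h4).resolve_left h2
  have hB : ∀ x, (∀ y, B x y = 0) → x = 0 := fun x hx => by
    have h1 : ω * x = 0 := (traceForm_nondegenerate F K).1 (ω * x) fun y => by
      rw [Algebra.traceForm_apply, ← hss y, ← hBa]; exact hx _
    exact (mul_eq_zero.1 h1).resolve_left hω0
  obtain ⟨L, hL⟩ := exists_symp_coords B hA hB hK
  let T : K →* Matrix (Fin e ⊕ Fin e) (Fin e ⊕ Fin e) F :=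
    { toFun := fun z => LinearMap.toMatrix' (L.symm.toLinearMap ∘ₗ LinearMap.mulLeft F z ∘ₗ L.toLinearMap)
      map_one' := by
        rw [show L.symm.toLinearMap ∘ₗ LinearMap.mulLeft F (1 : K) ∘ₗ L.toLinearMap = LinearMap.id from
          LinearMap.ext fun v => by simp, LinearMap.toMatrix'_id]
      map_mul' := fun z w => by
        rw [← LinearMap.toMatrix'_comp]
        congr 1
        exact LinearMap.ext fun v => by simp [mul_assoc] }
  have hT : ∀ z v, T z *ᵥ v = L.symm (z * L v) := fun z v => by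
    show LinearMap.toMatrix' _ *ᵥ v = _
    rw [← Matrix.toLin'_apply, Matrix.toLin'_toMatrix']; simp
  have hTinj : Function.Injective T := fun z w h => by
    have h1 := congrArg (fun M => M *ᵥ L.symm 1) h
    simpa [hT] using h1
  set z := g ^ (q ^ e - 1)
  have hz : orderOf z = q ^ e + 1 := by
    rw [orderOf_pow, hog, hfac, Nat.gcd_mul_left_left, Nat.mul_div_cancel _ (by omega)]
  have hz1 : (z : K) * s (z : K) = 1 := by
    rw [hs, ← pow_succ', ← Units.val_pow_eq_pow_val, ← hz, pow_orderOf_eq_one, Units.val_one]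
  have hmem : T (z : K) ∈ Sp(e) := mem_symplecticGroup_iff_form.2 fun u v => by
    rw [← hL, ← hL, hT, hT, L.apply_symm_apply, L.apply_symm_apply, hBa, hBa, map_mul s,
      show ω * ((z : K) * L u) * (s (z : K) * s (L v)) = ((z : K) * s (z : K)) * (ω * L u * s (L v)) by ring,
      hz1, one_mul]
  refine ⟨⟨_, hmem⟩, ?_⟩
  rw [← orderOf_injective Sp(e).subtype Subtype.val_injective, ← hz, ← orderOf_units]
  exact orderOf_injective T hTinj (z : K)

/-- Block upper triangular powers. -/
theorem fromBlocks_upper_pow {m : Type*} [Fintype m] [DecidableEq m] (N X M : Matrix m m F) (k : ℕ) :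
    ∃ P, (Matrix.fromBlocks N X 0 M) ^ k = Matrix.fromBlocks (N ^ k) P 0 (M ^ k) := by
  induction k with
  | zero => exact ⟨0, by simp [Matrix.fromBlocks_one]⟩
  | succ k ih =>
    obtain ⟨P, hP⟩ := ih
    exact ⟨N ^ k * X + P * M, by rw [pow_succ, hP, Matrix.fromBlocks_multiply]; simp [pow_succ]⟩

/-- A regular unipotent element. -/
theorem exists_symp_regular_unipotent (p : ℕ) [Fact p.Prime] [CharP F p] {j : ℕ} (hj : 1 ≤ j) :
    ∃ x : Sp(j), orderOf x = p ^ Nat.clog p (2 * j) := by
  classical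
  have hp2 : 1 < p := (Fact.out : p.Prime).one_lt
  haveI : Nonempty (Fin j) := ⟨⟨0, hj⟩⟩
  set N := shiftMatrix F j j
  have hNj : N ^ j = 0 := shiftMatrix_pow_eq_zero le_rfl (by omega)
  have hdetC : (1 + N).det ≠ 0 := by
    intro h
    have h1 : (1 + N) ^ p ^ j = 1 := by
      rw [add_pow_char_pow_of_commute _ _ (Commute.one_left _), one_pow,
        shiftMatrix_pow_eq_zero (Nat.lt_pow_self hp2).le (pow_ne_zero _ (by omega)), add_zero]
    have h2 := congrArg Matrix.det h1
    rw [Matrix.det_pow, h, zero_pow (pow_ne_zero _ (by omega)), Matrix.det_one] at h2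
    exact zero_ne_one h2
  let g : GL (Fin j) F := Matrix.GeneralLinearGroup.mkOfDetNeZero (1 + N) hdetC
  have hg : (g : Matrix (Fin j) (Fin j) F) = 1 + N := rfl
  set W := ((g⁻¹ : GL (Fin j) F) : Matrix (Fin j) (Fin j) F)
  have hCW : (1 + N) * W = 1 := by rw [← hg]; exact g.mul_inv
  have hWC : W * (1 + N) = 1 := by rw [← hg]; exact g.inv_mul
  have hNW : Commute N W := by
    have h : Commute (1 + N) W := hCW.trans hWC.symm
    simpa using h.sub_left (Commute.one_left W)
  set E : Matrix (Fin j) (Fin j) F := Matrix.single ⟨j - 1, by omega⟩ ⟨j - 1, by omega⟩ 1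
  have hE : Eᵀ = E := Matrix.transpose_single _ _ _
  have hup : Matrix.fromBlocks 1 E 0 1 ∈ Sp(j) := by
    rw [SymplecticGroup.mem_iff, Matrix.fromBlocks_transpose, Matrix.J, Matrix.fromBlocks_multiply,
      Matrix.fromBlocks_multiply]
    simp [hE]
  let x : Sp(j) := sympLevi j g * ⟨_, hup⟩
  set X := (1 + N) * E
  set M := Wᵀ - 1
  have hx : (x : Matrix _ _ F) = 1 + Matrix.fromBlocks N X 0 M := by
    show Matrix.fromBlocks (g : Matrix (Fin j) (Fin j) F) 0 0 Wᵀ * Matrix.fromBlocks 1 E 0 1 = _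
    rw [Matrix.fromBlocks_multiply, ← Matrix.fromBlocks_one, Matrix.fromBlocks_add]
    simp [hg, X, M]
  have hM : M = (-(N * W))ᵀ := by
    have : W - 1 = -(N * W) := by rw [← hCW, add_mul, one_mul]; abel
    rw [← this, Matrix.transpose_sub, Matrix.transpose_one]
  have hNW1 : ∀ k, N ^ (j - 1) * W ^ k = N ^ (j - 1) := by
    have h1 : N ^ (j - 1) * W = N ^ (j - 1) := by
      have h2 : N ^ (j - 1) * (1 + N) = N ^ (j - 1) := by
        rw [mul_add, mul_one, ← pow_succ, Nat.sub_add_cancel hj, hNj, add_zero]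
      conv_lhs => rw [← h2, mul_assoc, hCW, mul_one]
    intro k
    induction k with
    | zero => simp
    | succ k ih => rw [pow_succ, ← mul_assoc, ih, h1]
  have hMj : M ^ j = 0 := by
    rw [hM, ← Matrix.transpose_pow, neg_pow, hNW.mul_pow, hNj]; simp
  have hM1 : M ^ (j - 1) = (-1 : Matrix (Fin j) (Fin j) F) ^ (j - 1) * (N ^ (j - 1))ᵀ := by
    rw [hM, ← Matrix.transpose_pow, neg_pow, hNW.mul_pow, hNW1, Matrix.transpose_mul,
      Matrix.transpose_pow ((-1) : Matrix (Fin j) (Fin j) F), Matrix.transpose_neg, Matrix.transpose_one]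
    exact ((Commute.one_left _).neg_left.pow_left _).eq.symm
  set D := Matrix.fromBlocks N X 0 M
  obtain ⟨P₁, hP₁⟩ := fromBlocks_upper_pow N X M (j - 1)
  obtain ⟨P₂, hP₂⟩ := fromBlocks_upper_pow N X M j
  have htop : D ^ (2 * j) = 0 := by
    rw [two_mul, pow_add, hP₂, hNj, hMj, Matrix.fromBlocks_multiply]; simp
  have hmid : D ^ (2 * j - 1) ≠ 0 := by
    intro h0
    rw [show 2 * j - 1 = (j - 1) + 1 + (j - 1) by omega, pow_add, pow_succ, hP₁,
      Matrix.fromBlocks_multiply, Matrix.fromBlocks_multiply] at h0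
    have h1 := congrArg Matrix.toBlocks₁₂ h0
    simp only [Matrix.toBlocks_fromBlocks₁₂, Matrix.mul_zero, Matrix.zero_mul, add_zero, zero_add] at h1
    have h2 : N ^ (j - 1) * N * P₁ + (N ^ (j - 1) * X + P₁ * M) * M ^ (j - 1) = 0 := h1
    rw [← pow_succ, Nat.sub_add_cancel hj, hNj, Matrix.zero_mul, zero_add, add_mul, mul_assoc P₁ M,
      ← pow_succ', Nat.sub_add_cancel hj, hMj, Matrix.mul_zero, add_zero, hM1] at h2
    have hNC : N ^ (j - 1) * X = N ^ (j - 1) * E := by
      rw [← mul_assoc, mul_add, mul_one, ← pow_succ, Nat.sub_add_cancel hj, hNj, add_zero]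
    rw [hNC] at h2
    have hsgn : ∀ k : ℕ, (-1 : Matrix (Fin j) (Fin j) F) ^ k = ((-1 : F) ^ k) • 1 := fun k => by
      rw [← neg_one_smul F (1 : Matrix (Fin j) (Fin j) F), smul_pow, one_pow]
    rw [hsgn, smul_one_mul, mul_smul_comm, smul_eq_zero] at h2
    have h3 := congrFun (congrFun (h2.resolve_left (pow_ne_zero _ (neg_ne_zero.2 one_ne_zero)))
      ⟨0, hj⟩) ⟨0, hj⟩
    rw [Matrix.mul_apply, Finset.sum_eq_single ⟨j - 1, by omega⟩] at h3
    · rw [Matrix.mul_apply, Finset.sum_eq_single ⟨j - 1, by omega⟩] at h3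
      · simp [E, N, shiftMatrix_pow, hj] at h3
        exact absurd (h3 (Or.inr hj)).2 (by omega)
      · intro b _ hb; simp [E, Ne.symm hb]
      · simp
    · intro b _ hb
      simp [E, Matrix.mul_apply, Ne.symm hb]
    · simp
  haveI : CharP (Matrix (Fin j ⊕ Fin j) (Fin j ⊕ Fin j) F) p := inferInstance
  have hpow : ∀ i, x ^ p ^ i = 1 ↔ D ^ p ^ i = 0 := fun i => by
    rw [← Subtype.val_inj, SubmonoidClass.coe_pow, hx, add_pow_char_pow_of_commute _ _ (Commute.one_left _),
      one_pow, Submonoid.coe_one, add_eq_left]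
  set c := Nat.clog p (2 * j)
  have hc : 2 * j ≤ p ^ c := Nat.le_pow_clog hp2 _
  have hd : orderOf x ∣ p ^ c :=
    orderOf_dvd_of_pow_eq_one ((hpow c).2 (pow_eq_zero_of_le hc htop))
  obtain ⟨i, hi, hi'⟩ := (Nat.dvd_prime_pow Fact.out).1 hd
  refine ⟨x, ?_⟩
  rw [hi']
  congr 1
  refine le_antisymm hi (Nat.clog_le_of_le_pow ?_)
  by_contra hlt
  have h0 : D ^ p ^ i = 0 := (hpow i).1 (hi' ▸ pow_orderOf_eq_one x)
  exact hmid (pow_eq_zero_of_le (by omega) h0)

end Cfsg.Agent.Classical
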