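import Mathlib

/-!
The numerical bound for the class number of `Sp(2n, q)`: `∏ (1 + q⁻ʲ) ^ 4 / ((1 - q⁻⁽²ʲ⁻¹⁾) (1 - q⁻²ʲ)) ≤ 54 / 5`.
-/

set_option autoImplicit false

namespace Cfsg.Agent.Classical.SympClasses

open Finset

/-- The contribution of the parts of exponents `2j+1` and `2j+2`. -/
noncomputable def fac (y : ℝ) (j : ℕ) : ℝ :=
  (1 + y ^ (j + 1)) ^ 4 / ((1 - y ^ (2 * j + 1)) * (1 - y ^ (2 * j + 2)))

theorem one_le_fac {y : ℝ} (h0 : 0 ≤ y) (h1 : y ≤ 1 / 3) (j : ℕ) : 1 ≤ fac y j := by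
  have hy : y < 1 := by linarith
  have ha : y ^ (2 * j + 1) < 1 := pow_lt_one₀ h0 hy (by omega)
  have hb : y ^ (2 * j + 2) < 1 := pow_lt_one₀ h0 hy (by omega)
  rw [fac, one_le_div (mul_pos (by linarith) (by linarith))]
  calc (1 - y ^ (2 * j + 1)) * (1 - y ^ (2 * j + 2)) ≤ 1 * 1 :=
        mul_le_mul (sub_le_self _ (by positivity)) (sub_le_self _ (by positivity)) (by linarith) zero_le_one
    _ = (1 : ℝ) ^ 4 := by norm_num
    _ ≤ _ := pow_le_pow_left₀ zero_le_one (le_add_of_nonneg_right (by positivity)) 4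

theorem fac_le_third {y : ℝ} (h0 : 0 ≤ y) (h1 : y ≤ 1 / 3) (j : ℕ) : fac y j ≤ fac (1 / 3) j := by
  have ha : (1 / 3 : ℝ) ^ (2 * j + 1) < 1 := pow_lt_one₀ (by norm_num) (by norm_num) (by omega)
  have hb : (1 / 3 : ℝ) ^ (2 * j + 2) < 1 := pow_lt_one₀ (by norm_num) (by norm_num) (by omega)
  rw [fac, fac]
  refine div_le_div₀ (by positivity) (by gcongr) (mul_pos (by linarith) (by linarith)) ?_
  have hc : y ^ (2 * j + 1) ≤ (1 / 3 : ℝ) ^ (2 * j + 1) := pow_le_pow_left₀ h0 h1 _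
  have hd : y ^ (2 * j + 2) ≤ (1 / 3 : ℝ) ^ (2 * j + 2) := pow_le_pow_left₀ h0 h1 _
  exact mul_le_mul (by linarith) (by linarith) (by linarith) (by linarith)

theorem fac_tail (j : ℕ) (hj : 4 ≤ j) : fac (1 / 3) j ≤ 1 + 9 / 2 * (1 / 3) ^ (j + 1) := by
  set u : ℝ := (1 / 3) ^ (j + 1) with hu
  have hu0 : 0 < u := by positivity
  have hu1 : u ≤ 1 / 243 := by
    calc u ≤ (1 / 3 : ℝ) ^ 5 := pow_le_pow_of_le_one (by norm_num) (by norm_num) (by omega)
      _ = _ := by norm_num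
  have hj4 : (1 / 3 : ℝ) ^ j ≤ 1 / 81 := by
    calc (1 / 3 : ℝ) ^ j ≤ (1 / 3 : ℝ) ^ 4 := pow_le_pow_of_le_one (by norm_num) (by norm_num) hj
      _ = _ := by norm_num
  have e1 : (1 / 3 : ℝ) ^ (2 * j + 1) = u * (1 / 3) ^ j := by rw [hu, ← pow_add]; congr 1; omega
  have e2 : (1 / 3 : ℝ) ^ (2 * j + 2) = u * u := by rw [hu, ← pow_add]; congr 1; omega
  have ha : (1 / 3 : ℝ) ^ (2 * j + 1) ≤ u / 81 := by rw [e1]; nlinarith
  have hb : (1 / 3 : ℝ) ^ (2 * j + 2) ≤ u / 243 := by rw [e2]; nlinarith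
  have h4 : (1 + u) ^ 4 ≤ 1 + 4 * u + 8 * u ^ 2 := by
    nlinarith [sq_nonneg u, pow_nonneg hu0.le 3, mul_le_mul_of_nonneg_left hu1 (sq_nonneg u)]
  have hden : 1 - 4 / 243 * u ≤ (1 - (1 / 3 : ℝ) ^ (2 * j + 1)) * (1 - (1 / 3 : ℝ) ^ (2 * j + 2)) := by
    nlinarith [pow_nonneg (by norm_num : (0 : ℝ) ≤ 1 / 3) (2 * j + 1), pow_nonneg (by norm_num : (0 : ℝ) ≤ 1 / 3) (2 * j + 2)]
  rw [fac, ← hu, div_le_iff₀ (lt_of_lt_of_le (by linarith) hden)]
  refine h4.trans (le_trans ?_ (mul_le_mul_of_nonneg_left hden (by positivity)))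
  nlinarith

theorem tail_le : ∀ d : ℕ, ∏ j ∈ Ico 4 (4 + d), fac (1 / 3) j ≤
    1 / (1 - 9 / 4 * ((1 / 3) ^ 4 - (1 / 3) ^ (4 + d))) := by
  intro d
  induction d with
  | zero => norm_num
  | succ d ih =>
    rw [← add_assoc, prod_Ico_succ_top (by omega)]
    have hf : 0 ≤ fac (1 / 3) (4 + d) := zero_le_one.trans (one_le_fac (by norm_num) le_rfl _)
    set t : ℝ := (1 / 3) ^ (4 + d) with ht
    have ht0 : 0 < t := by positivity
    have ht1 : t ≤ 1 / 81 := by
      calc t ≤ (1 / 3 : ℝ) ^ 4 := pow_le_pow_of_le_one (by norm_num) (by norm_num) (by omega)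
        _ = _ := by norm_num
    have hstep := fac_tail (4 + d) (by omega)
    rw [pow_succ (1 / 3 : ℝ) (4 + d), ← ht] at hstep
    rw [pow_succ (1 / 3 : ℝ) (4 + d), ← ht]
    refine (mul_le_mul ih hstep hf (by
      apply div_nonneg zero_le_one
      norm_num
      linarith)).trans ?_
    rw [div_mul_eq_mul_div, one_mul, div_le_div_iff₀ (by norm_num; linarith) (by norm_num; linarith)]
    norm_num
    nlinarith

theorem head_le : fac (1 / 3) 0 * fac (1 / 3) 1 * fac (1 / 3) 2 * fac (1 / 3) 3 * (36 / 35) ≤ 54 / 5 := by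
  norm_num [fac]

theorem prod_fac_le {y : ℝ} (h0 : 0 ≤ y) (h1 : y ≤ 1 / 3) (n : ℕ) : ∏ j ∈ range n, fac y j ≤ 54 / 5 := by
  have hp : ∀ j, 0 ≤ fac (1 / 3) j := fun j => zero_le_one.trans (one_le_fac (by norm_num) le_rfl _)
  calc ∏ j ∈ range n, fac y j ≤ ∏ j ∈ range n, fac (1 / 3) j :=
        prod_le_prod (fun j _ => zero_le_one.trans (one_le_fac h0 h1 _)) fun j _ => fac_le_third h0 h1 j
    _ ≤ ∏ j ∈ range (4 + n), fac (1 / 3) j :=
        prod_le_prod_of_subset_of_one_le (range_mono (by omega)) (fun j _ => hp j)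
          fun j _ _ => one_le_fac (by norm_num) le_rfl _
    _ = (∏ j ∈ range 4, fac (1 / 3) j) * ∏ j ∈ Ico 4 (4 + n), fac (1 / 3) j :=
        (prod_range_mul_prod_Ico _ (by omega)).symm
    _ ≤ (∏ j ∈ range 4, fac (1 / 3) j) * (36 / 35) := by
        refine mul_le_mul_of_nonneg_left ((tail_le n).trans ?_) (prod_nonneg fun j _ => hp j)
        have ht : (0 : ℝ) < (1 / 3 : ℝ) ^ (4 + n) := by positivity
        rw [div_le_div_iff₀ (by norm_num; linarith) (by norm_num)]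
        norm_num
        linarith
    _ ≤ _ := by simpa [prod_range_succ] using head_le

/-- The weight of exponent `i + 1` with `m` free coefficients and linear parts `e`. -/
noncomputable def wgt (y : ℝ) (i : ℕ) (c : ℕ × (Bool × Bool × Bool × Bool)) : ℝ :=
  if Even i ∧ c.2 ≠ (false, false, false, false) then 0
  else y ^ (i * c.1 + (i + 1) / 2 * (c.2.1.toNat + c.2.2.1.toNat + c.2.2.2.1.toNat + c.2.2.2.2.toNat))

/-- The factor of exponent `i + 1`. -/
noncomputable def partFac (y : ℝ) (i : ℕ) : ℝ :=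
  if i = 0 then 1 else if Even i then 1 / (1 - y ^ i) else (1 + y ^ ((i + 1) / 2)) ^ 4 / (1 - y ^ i)

theorem sum_wgt_le {y : ℝ} (h0 : 0 ≤ y) (h1 : y ≤ 1 / 3) {i : ℕ} (hi : i ≠ 0) (M : ℕ) :
    ∑ m : Fin M, ∑ e : Bool × Bool × Bool × Bool, wgt y i ((m : ℕ), e) ≤ partFac y i := by
  have hy : y ^ i < 1 := pow_lt_one₀ h0 (by linarith) hi
  have hgeo : ∑ m : Fin M, (y ^ i) ^ (m : ℕ) ≤ 1 / (1 - y ^ i) := by
    rw [Fin.sum_univ_eq_sum_range (fun m => (y ^ i) ^ m), le_div_iff₀ (by linarith), geom_sum_mul_neg]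
    linarith [pow_nonneg (pow_nonneg h0 i) M]
  by_cases he : Even i
  · have h : ∀ m : Fin M, ∑ e : Bool × Bool × Bool × Bool, wgt y i ((m : ℕ), e) = (y ^ i) ^ (m : ℕ) := fun m => by
      simp [wgt, he, ← pow_mul]
    simp only [h, partFac, hi, he, if_true, if_false]
    exact hgeo
  · have h : ∀ m : Fin M, ∑ e : Bool × Bool × Bool × Bool, wgt y i ((m : ℕ), e) =
        (y ^ i) ^ (m : ℕ) * (1 + y ^ ((i + 1) / 2)) ^ 4 := fun m => by
      simp only [Fintype.sum_prod_type, Fintype.sum_bool, wgt, he, false_and, if_false, Bool.toNat_true,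
        Bool.toNat_false, pow_add, pow_mul, mul_add]
      ring_nf
    simp only [h, partFac, hi, he, if_false]
    rw [← sum_mul, div_eq_mul_one_div _ (1 - y ^ i), mul_comm]
    exact mul_le_mul_of_nonneg_left hgeo (by positivity)

theorem prod_partFac {y : ℝ} : ∀ n : ℕ,
    (∏ i ∈ range (2 * n), partFac y i) * partFac y (2 * n) = ∏ j ∈ range n, fac y j := by
  intro n
  induction n with
  | zero => simp [partFac]
  | succ n ih =>
    rw [show 2 * (n + 1) = 2 * n + 1 + 1 by omega, prod_range_succ, prod_range_succ, prod_range_succ _ n, ← ih]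
    have ha : partFac y (2 * n + 1) = (1 + y ^ (n + 1)) ^ 4 / (1 - y ^ (2 * n + 1)) := by
      rw [partFac, if_neg (by omega), if_neg (by simp [parity_simps]), show (2 * n + 1 + 1) / 2 = n + 1 by omega]
    have hb : partFac y (2 * n + 1 + 1) = 1 / (1 - y ^ (2 * n + 2)) := by
      rw [partFac, if_neg (by omega), if_pos (by simp [parity_simps])]
    rw [ha, hb, fac, ← div_div]
    simp only [div_eq_mul_inv, one_mul, mul_assoc]

theorem prod_partFac_le {y : ℝ} (h0 : 0 ≤ y) (h1 : y ≤ 1 / 3) (n : ℕ) :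
    ∏ i ∈ range (2 * n), partFac y i ≤ 54 / 5 := by
  have hp : ∀ i, 1 ≤ partFac y i := fun i => by
    rcases Nat.eq_zero_or_pos i with rfl | hi
    · simp [partFac]
    have hy : y ^ i < 1 := pow_lt_one₀ h0 (by linarith) hi.ne'
    have hy0 := pow_nonneg h0 i
    rw [partFac, if_neg hi.ne']
    split_ifs
    · rw [one_le_div (by linarith)]; linarith
    · rw [one_le_div (by linarith)]
      exact (show 1 - y ^ i ≤ (1 : ℝ) ^ 4 by simp; linarith).trans
        (pow_le_pow_left₀ zero_le_one (le_add_of_nonneg_right (by positivity)) 4)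
  refine le_trans ?_ ((prod_partFac n).trans_le (prod_fac_le h0 h1 n))
  exact le_mul_of_one_le_right (prod_nonneg fun i _ => zero_le_one.trans (hp i)) (hp _)

end Cfsg.Agent.Classical.SympClasses
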