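import Cfsg.Agent.Lib.Classical.IsometryClassBound
import Cfsg.Agent.Lib.Classical.SympClassNumeric
import Cfsg.Agent.Lib.Classical.SLClassCount
import Cfsg.Agent.Lib.Classical.SympBlocks

/-!
The number of classes of `Sp(2n, q)`, `q` odd, lies between `q ^ n` and `54 / 5 * q ^ n`.
-/

set_option autoImplicit false

namespace Cfsg.Agent.Classical.SympClasses

open Polynomial Module Cfsg.Agent.Classical Cfsg.Agent.Classical.SLClasses Cfsg.Agent.Classical.UnitClasses
  Cfsg.Agent.Classical.IsometryClasses Cfsg.Agent.UnitaryDetCentralizer UniqueFactorizationMonoid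

universe u

variable {F : Type u} [Field F]

attribute [local instance] Classical.propDecidable

/-! ## Self-dual polynomials -/

theorem rd_coeff {P : F[X]} (h0 : P.coeff 0 = 1) {u : ℕ} (hu : u ≤ P.natDegree) :
    (rd P).coeff u = P.coeff (P.natDegree - u) := by
  rw [rd, cdual, RingHom.id_apply, h0, inv_one, map_one, one_mul, Polynomial.map_id, coeff_reverse, revAt_le hu]

theorem rd_eq_of_symm {P : F[X]} (h0 : P.coeff 0 = 1)
    (h : ∀ u ≤ P.natDegree, P.coeff u = P.coeff (P.natDegree - u)) : rd P = P := by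
  refine Polynomial.ext fun u => ?_
  rcases lt_or_ge P.natDegree u with hu | hu
  · rw [coeff_eq_zero_of_natDegree_lt (by rw [rd, natDegree_cdual _ (by rw [h0]; exact one_ne_zero)]; exact hu),
      coeff_eq_zero_of_natDegree_lt hu]
  · rw [rd_coeff h0 hu, ← h u hu]

/-- A self-dual polynomial without the roots `±1`. -/
theorem center (h2 : (2 : F) ≠ 0) {R : F[X]} (hR : R.Monic) (hs : rd R = R) (h1 : R.eval 1 ≠ 0)
    (hm1 : R.eval (-1) ≠ 0) : R.coeff 0 = 1 ∧ Even R.natDegree := by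
  have hc : R.coeff 0 ≠ 0 := fun h => hR.ne_zero (by
    rw [← hs, rd, cdual, RingHom.id_apply, h, inv_zero, map_zero, zero_mul])
  have hsym : ∀ u ≤ R.natDegree, R.coeff u = (R.coeff 0)⁻¹ * R.coeff (R.natDegree - u) := fun u hu => by
    conv_lhs => rw [← hs, rd, cdual, RingHom.id_apply, Polynomial.map_id, coeff_C_mul, coeff_reverse, revAt_le hu]
  have heval : ∀ δ : F, δ * δ = 1 → R.eval δ = (R.coeff 0)⁻¹ * δ ^ R.natDegree * R.eval δ := fun δ hδ => by
    rw [eval_eq_sum_range, Finset.mul_sum]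
    conv_rhs => rw [← Finset.sum_range_reflect]
    refine Finset.sum_congr rfl fun u hu => ?_
    have hu' : u ≤ R.natDegree := by have := Finset.mem_range.1 hu; omega
    have e : δ ^ R.natDegree * δ ^ (R.natDegree - u) = δ ^ u := by
      obtain ⟨w, hw⟩ : ∃ w, R.natDegree = u + w := ⟨_, (Nat.add_sub_cancel' hu').symm⟩
      rw [hw, Nat.add_sub_cancel_left, pow_add, mul_assoc, ← mul_pow, hδ, one_pow, mul_one]
    rw [show R.natDegree + 1 - 1 - u = R.natDegree - u by omega, hsym u hu',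
      show (R.coeff 0)⁻¹ * δ ^ R.natDegree * (R.coeff (R.natDegree - u) * δ ^ (R.natDegree - u)) =
        (R.coeff 0)⁻¹ * R.coeff (R.natDegree - u) * (δ ^ R.natDegree * δ ^ (R.natDegree - u)) by ring, e]
  have e1 := heval 1 (one_mul 1)
  rw [one_pow, mul_one] at e1
  have hc1 : R.coeff 0 = 1 := by
    have h := mul_right_cancel₀ h1 ((one_mul _).trans e1)
    exact inv_eq_one.1 h.symm
  refine ⟨hc1, ?_⟩
  have e2 := heval (-1) (by ring)
  rw [hc1, inv_one, one_mul] at e2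
  have h := mul_right_cancel₀ hm1 ((one_mul _).trans e2)
  by_contra hod
  rw [(Nat.not_even_iff_odd.1 hod).neg_one_pow] at h
  exact h2 (by linear_combination h)

theorem cdual_prod' : ∀ M : Multiset F[X], rd M.prod = (M.map rd).prod := by
  intro M
  induction M using Multiset.induction with
  | empty => simp [rd, cdual_one]
  | cons a s ih => rw [Multiset.prod_cons, rd, cdual_mul, ← rd, ← rd, ih, Multiset.map_cons, Multiset.prod_cons]

/-! ## Weighted labels -/

/-- The possible elementary divisors. -/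
def Good (ε : F) (n : ℕ) (S : Multiset (F[X] × ℕ)) : Prop :=
  (∀ x ∈ S, x.1.Monic ∧ Irreducible x.1 ∧ x.1.coeff 0 ≠ 0 ∧ 1 ≤ x.2) ∧
    (S.map fun x => x.2 * x.1.natDegree).sum = 2 * n ∧ S.map (cd (RingHom.id F)) = S ∧
    ∀ y : F[X] × ℕ, (∃ δ : F, δ * δ = 1 ∧ y.1 = X - C δ) → ¬ IsSign ε y → Even (S.count y)

/-- Elementary divisors with a choice of signs. -/
abbrev Wgtd (F : Type u) [Field F] (ε : F) (n : ℕ) : Type u :=
  {p : Multiset (F[X] × ℕ) × Finset (F[X] × ℕ) // Good ε n p.1 ∧ ∀ x ∈ p.2, x ∈ p.1 ∧ IsSign ε x}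

/-- The number of linear parts recorded by four flags. -/
def tot (e : Bool × Bool × Bool × Bool) : ℕ := e.1.toNat + e.2.1.toNat + e.2.2.1.toNat + e.2.2.2.toNat

/-- The shape of one part. -/
def PartRel (ε : F) (S : Multiset (F[X] × ℕ)) (A : Finset (F[X] × ℕ)) (k m : ℕ) (e : Bool × Bool × Bool × Bool)
    (P : F[X]) : Prop :=
  P.Monic ∧ P.natDegree = 2 * m ∧ P.coeff 0 = 1 ∧ (∀ u ≤ 2 * m, P.coeff u = P.coeff (2 * m - u)) ∧
    ((part S k).map natDegree).sum = 2 * m + tot e ∧ (ε * (-1) ^ (k - 1) ≠ 1 → e = (false, false, false, false)) ∧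
    part S k = normalizedFactors P + Multiset.replicate (e.1.toNat + e.2.1.toNat) (X - C 1)
      + Multiset.replicate (e.2.2.1.toNat + e.2.2.2.toNat) (X - C (-1)) ∧
    (e.2.1 = true ↔ (X - C 1, k) ∈ A) ∧ (e.2.2.2 = true ↔ (X - C (-1), k) ∈ A)

theorem split_count (a : ℕ) (s : Bool) (no : Prop) (hs : s = true → 1 ≤ a) (hodd : no → Even a ∧ s = false) :
    ∃ (e : Bool) (a' : ℕ), Even a' ∧ a = e.toNat + s.toNat + a' ∧ (no → e = false) := by
  rcases s with _ | _ <;> rcases Nat.even_or_odd a with ⟨c, hc⟩ | ⟨c, hc⟩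
  · exact ⟨false, a, ⟨c, hc⟩, by simp, fun _ => rfl⟩
  · exact ⟨true, 2 * c, even_two_mul c, by simp; omega, fun hk => absurd (hodd hk).1 (by
      rw [hc]; simp [parity_simps])⟩
  · have := hs rfl
    exact ⟨true, a - 2, ⟨c - 1, by omega⟩, by simp; omega, fun hk => absurd (hodd hk).2 (by simp)⟩
  · exact ⟨false, 2 * c, even_two_mul c, by simp; omega, fun _ => rfl⟩

variable [Finite F] (h2 : (2 : F) ≠ 0)

include h2

theorem part_rel {n : ℕ} (ε : F) (p : Wgtd F ε n) (k : ℕ) :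
    ∃ (m : ℕ) (e : Bool × Bool × Bool × Bool) (P : F[X]), PartRel ε p.1.1 p.1.2 k m e P := by
  obtain ⟨⟨S, A⟩, ⟨hmem, -, hself, hbal⟩, hA⟩ := p
  dsimp only at hmem hself hbal hA ⊢
  have hne1 : (X - C (1 : F)) ≠ X - C (-1) := fun h => h2 (by
    have := congrArg (fun P : F[X] => P.coeff 0) h
    simp at this
    linear_combination -this)
  set M := part S k with hM
  have hMmem : ∀ f ∈ M, f.Monic ∧ Irreducible f ∧ f.coeff 0 ≠ 0 := fun f hf => by
    obtain ⟨x, hx, rfl⟩ := Multiset.mem_map.1 hf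
    obtain ⟨a, b, c, -⟩ := hmem x (Multiset.mem_filter.1 hx).1
    exact ⟨a, b, c⟩
  have hMself : M.map rd = M := by
    rw [hM, part, Multiset.map_map]
    conv_rhs => rw [← hself, Multiset.filter_map, Multiset.map_map]
    rfl
  have hcount : ∀ f, M.count f = S.count (f, k) := fun f => by
    rw [hM, ← Multiset.count_map_eq_count' (fun g => (g, k)) (part S k) (fun a b hab => congrArg Prod.fst hab),
      ← filter_eq_part, Multiset.count_filter_of_pos]
    rfl
  -- the two linear parts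
  have hlin : ∀ δ : F, δ * δ = 1 → ∃ (e : Bool) (a' : ℕ), Even a' ∧
      M.count (X - C δ) = e.toNat + (decide ((X - C δ, k) ∈ A)).toNat + a' ∧ (ε * (-1) ^ (k - 1) ≠ 1 → e = false ∧ (X - C δ, k) ∉ A) := by
    intro δ hδ
    have hnsign : ε * (-1) ^ (k - 1) ≠ 1 → ¬ IsSign ε (X - C δ, k) := fun hk ⟨_, _, _, h⟩ => hk h
    have hnA : ε * (-1) ^ (k - 1) ≠ 1 → (X - C δ, k) ∉ A := fun hk hx => hnsign hk (hA _ hx).2
    obtain ⟨e, a', h1, h3, h4⟩ := split_count (M.count (X - C δ)) (decide ((X - C δ, k) ∈ A)) (ε * (-1) ^ (k - 1) ≠ 1)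
      (fun hs => by
        rw [hcount]
        exact Multiset.count_pos.2 (hA _ (of_decide_eq_true hs)).1)
      (fun hk => ⟨by rw [hcount]; exact hbal _ ⟨δ, hδ, rfl⟩ (hnsign hk), decide_eq_false (hnA hk)⟩)
    exact ⟨e, a', h1, h3, fun hk => ⟨h4 hk, hnA hk⟩⟩
  obtain ⟨e₁, a₁, ha₁, hc₁, ho₁⟩ := hlin 1 (one_mul 1)
  obtain ⟨e₂, a₂, ha₂, hc₂, ho₂⟩ := hlin (-1) (by ring)
  -- the rest
  set R := M.filter fun f => f ≠ X - C 1 ∧ f ≠ X - C (-1) with hR
  have hdecomp : M = R + Multiset.replicate (M.count (X - C 1)) (X - C 1)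
      + Multiset.replicate (M.count (X - C (-1))) (X - C (-1)) := by
    refine Multiset.ext.2 fun f => ?_
    rw [Multiset.count_add, Multiset.count_add, Multiset.count_replicate, Multiset.count_replicate, hR,
      Multiset.count_filter]
    by_cases hf1 : f = X - C 1
    · subst hf1; rw [if_neg (fun h => h.1 rfl), if_pos rfl, if_neg hne1.symm]; omega
    · by_cases hf2 : f = X - C (-1)
      · subst hf2; rw [if_neg (fun h => h.2 rfl), if_neg hne1, if_pos rfl]; omega
      · rw [if_pos ⟨hf1, hf2⟩, if_neg (Ne.symm hf1), if_neg (Ne.symm hf2)]; omega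
  have hRself : R.map rd = R := by
    rw [hR]
    conv_rhs => rw [← hMself, Multiset.filter_map]
    refine congrArg _ (Multiset.filter_congr fun f hf => ?_)
    obtain ⟨a, -, c⟩ := hMmem f hf
    have key : ∀ δ : F, δ * δ = 1 → (f ≠ X - C δ ↔ rd f ≠ X - C δ) := fun δ hδ => by
      refine not_congr ⟨fun h => by rw [h]; exact (linear_facts hδ).2.2.2, fun h => ?_⟩
      rw [← cdual_cdual (RingHom.id F) (fun _ => rfl) a c, ← rd, ← rd, h]
      exact (linear_facts hδ).2.2.2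
    exact and_congr (key 1 (one_mul 1)) (key (-1) (by ring))
  have hRmem : ∀ f ∈ R, f.Monic ∧ Irreducible f := fun f hf =>
    ⟨(hMmem f (Multiset.mem_of_mem_filter hf)).1, (hMmem f (Multiset.mem_of_mem_filter hf)).2.1⟩
  have hReval : ∀ δ : F, (δ = 1 ∨ δ = -1) → R.prod.eval δ ≠ 0 := fun δ hδ h => by
    obtain ⟨f, hf, hf0⟩ : ∃ f ∈ R, f.eval δ = 0 := by
      rw [eval_multiset_prod, Multiset.prod_eq_zero_iff] at h
      simpa using h
    obtain ⟨hfm, hfi⟩ := hRmem f hf
    have hfe : f = X - C δ := eq_of_monic_of_associated hfm (monic_X_sub_C δ)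
      ((irreducible_X_sub_C δ).associated_of_dvd hfi (dvd_iff_isRoot.2 hf0)).symm
    have hfp := (Multiset.mem_filter.1 hf).2
    rcases hδ with rfl | rfl
    exacts [hfp.1 hfe, hfp.2 hfe]
  have hRm : R.prod.Monic := by
    have := monic_multiset_prod_of_monic R (fun f => f) fun f hf => (hRmem f hf).1
    rwa [Multiset.map_id'] at this
  have hRrd : rd R.prod = R.prod := by rw [cdual_prod', hRself]
  obtain ⟨hR0, hRev⟩ := center h2 hRm hRrd (hReval 1 (Or.inl rfl)) (hReval (-1) (Or.inr rfl))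
  set M' := R + Multiset.replicate a₁ (X - C (1 : F)) + Multiset.replicate a₂ (X - C (-1)) with hM'
  have hM'mem : ∀ f ∈ M', f.Monic ∧ Irreducible f := fun f hf => by
    rcases Multiset.mem_add.1 hf with hf | hf
    · rcases Multiset.mem_add.1 hf with hf | hf
      · exact hRmem f hf
      · rw [Multiset.eq_of_mem_replicate hf]; exact ⟨monic_X_sub_C _, irreducible_X_sub_C _⟩
    · rw [Multiset.eq_of_mem_replicate hf]; exact ⟨monic_X_sub_C _, irreducible_X_sub_C _⟩
  have hPm : M'.prod.Monic := by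
    have := monic_multiset_prod_of_monic M' (fun f => f) fun f hf => (hM'mem f hf).1
    rwa [Multiset.map_id'] at this
  have hP : M'.prod = R.prod * (X - C 1) ^ a₁ * (X - C (-1)) ^ a₂ := by
    rw [hM', Multiset.prod_add, Multiset.prod_add, Multiset.prod_replicate, Multiset.prod_replicate]
  have hPd : M'.prod.natDegree = R.prod.natDegree + a₁ + a₂ := by
    rw [hP, (hRm.mul ((monic_X_sub_C 1).pow a₁)).natDegree_mul ((monic_X_sub_C (-1)).pow a₂),
      hRm.natDegree_mul ((monic_X_sub_C 1).pow a₁), natDegree_pow, natDegree_pow, natDegree_X_sub_C,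
      natDegree_X_sub_C, mul_one, mul_one]
  have hP0 : M'.prod.coeff 0 = 1 := by
    rw [hP, mul_coeff_zero, mul_coeff_zero, hR0, coeff_zero_eq_eval_zero, coeff_zero_eq_eval_zero]
    simp [ha₁.neg_one_pow]
  have hPrd : rd M'.prod = M'.prod := by
    rw [hP]
    conv_lhs => rw [rd, cdual_mul, cdual_mul, cdual_pow, cdual_pow, ← rd, ← rd, ← rd, hRrd,
      (linear_facts (one_mul (1 : F))).2.2.2, (linear_facts (show (-1 : F) * -1 = 1 by ring)).2.2.2]
  obtain ⟨m, hm⟩ : ∃ m, M'.prod.natDegree = 2 * m := by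
    rw [hPd]; exact (hRev.add ha₁).add ha₂ |>.two_dvd
  have hnf : normalizedFactors M'.prod = M' := by
    rw [normalizedFactors_prod_eq _ fun f hf => (hM'mem f hf).2]
    conv_rhs => rw [← Multiset.map_id' M']
    exact Multiset.map_congr rfl fun f hf => (hM'mem f hf).1.normalize_eq_self
  have hsum : (M.map natDegree).sum = R.prod.natDegree + M.count (X - C 1) + M.count (X - C (-1)) := by
    conv_lhs => rw [hdecomp]
    rw [Multiset.map_add, Multiset.map_add, Multiset.sum_add, Multiset.sum_add, Multiset.map_replicate,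
      Multiset.map_replicate, Multiset.sum_replicate, Multiset.sum_replicate, natDegree_X_sub_C, natDegree_X_sub_C,
      smul_eq_mul, smul_eq_mul, mul_one, mul_one, natDegree_multiset_prod_of_monic _ fun f hf => (hRmem f hf).1]
  refine ⟨m, (e₁, decide ((X - C 1, k) ∈ A), e₂, decide ((X - C (-1), k) ∈ A)), M'.prod, hPm, hm, hP0, ?_, ?_, ?_, ?_,
    decide_eq_true_iff, decide_eq_true_iff⟩
  · intro u hu
    rw [← hm] at hu ⊢
    conv_lhs => rw [← hPrd, rd_coeff hP0 hu]
  · rw [hsum, hc₁, hc₂]; simp only [tot]; omega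
  · intro hk
    rw [(ho₁ hk).1, (ho₂ hk).1, decide_eq_false (ho₁ hk).2, decide_eq_false (ho₂ hk).2]
  · rw [hnf, hM']
    conv_lhs => rw [← hM, hdecomp, hc₁, hc₂]
    simp only [Multiset.replicate_add]
    abel

omit h2

/-- Shapes. -/
abbrev Cfg (n : ℕ) : Type := Fin (2 * n) → Fin (2 * n + 1) × (Bool × Bool × Bool × Bool)

/-- A valid shape. -/
def Valid (ε : F) (n : ℕ) (c : Cfg n) : Prop :=
  (∀ i : Fin (2 * n), ε * (-1) ^ (i : ℕ) ≠ 1 → (c i).2 = (false, false, false, false)) ∧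
    ∑ i : Fin (2 * n), ((i : ℕ) + 1) * (2 * ((c i).1 : ℕ) + tot (c i).2) = 2 * n

omit [Finite F] in
theorem part_sum {n : ℕ} {S : Multiset (F[X] × ℕ)} {ε : F} (hS : Good ε n S) :
    ∑ i : Fin (2 * n), ((i : ℕ) + 1) * ((part S ((i : ℕ) + 1)).map natDegree).sum = 2 * n := by
  obtain ⟨hmem, hsum, -⟩ := hS
  have hle : ∀ x ∈ S, 1 ≤ x.2 ∧ x.2 ≤ 2 * n := fun x hx => by
    obtain ⟨-, hi, -, hk⟩ := hmem x hx
    refine ⟨hk, le_trans ?_ (hsum ▸ Multiset.le_sum_of_mem (Multiset.mem_map_of_mem _ hx))⟩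
    exact Nat.le_mul_of_pos_right _ hi.natDegree_pos
  conv_rhs => rw [← hsum]
  rw [Fin.sum_univ_eq_sum_range (fun i => (i + 1) * ((part S (i + 1)).map natDegree).sum) (2 * n)]
  have key : ∀ T : Multiset (F[X] × ℕ), (∀ x ∈ T, 1 ≤ x.2 ∧ x.2 ≤ 2 * n) →
      ∑ i ∈ Finset.range (2 * n), (i + 1) * ((part T (i + 1)).map natDegree).sum =
        (T.map fun x => x.2 * x.1.natDegree).sum := by
    intro T hT
    induction T using Multiset.induction with
    | empty => simp [part]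
    | cons x T ih =>
      have h1 : ∀ i, ((part (x ::ₘ T) (i + 1)).map natDegree).sum =
          (if x.2 = i + 1 then x.1.natDegree else 0) + ((part T (i + 1)).map natDegree).sum := fun i => by
        by_cases hx : x.2 = i + 1
        · rw [part, Multiset.filter_cons_of_pos (p := fun y : F[X] × ℕ => y.2 = i + 1) T hx, if_pos hx]; simp [part]
        · rw [part, Multiset.filter_cons_of_neg (p := fun y : F[X] × ℕ => y.2 = i + 1) T hx, if_neg hx]; simp [part]
      simp only [h1, mul_add, Finset.sum_add_distrib, ih fun y hy => hT y (Multiset.mem_cons_of_mem hy),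
        Multiset.map_cons, Multiset.sum_cons, add_left_inj]
      obtain ⟨hx1, hx2⟩ := hT x (Multiset.mem_cons_self _ _)
      rw [Finset.sum_eq_single (x.2 - 1), if_pos (by omega), show x.2 - 1 + 1 = x.2 by omega]
      · intro i _ hi; rw [if_neg (by omega), mul_zero]
      · intro hi; exact absurd (Finset.mem_range.2 (by omega)) hi
  exact key S hle

include h2

/-- Weighted labels are determined by their shapes and half of the coefficients of each part. -/
theorem exists_encode (ε : F) (n : ℕ) :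
    ∃ ψ : Wgtd F ε n → Σ c : {c : Cfg n // Valid ε n c}, ∀ i : Fin (2 * n), Fin ((c.1 i).1 : ℕ) → F,
      Function.Injective ψ ∧
      ∀ p : Wgtd F ε n, (∀ x ∈ p.1.1, ¬ IsSign ε x) → ∀ i, ((ψ p).1.1 i).2 = (false, false, false, false) := by
  choose m e P hR using part_rel h2 (n := n) ε
  have hsum : ∀ p : Wgtd F ε n, ∑ i : Fin (2 * n), ((i : ℕ) + 1) * (2 * m p ((i : ℕ) + 1) + tot (e p ((i : ℕ) + 1))) = 2 * n := by
    intro p
    refine Eq.trans (Finset.sum_congr rfl fun i _ => ?_) (part_sum p.2.1)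
    obtain ⟨-, -, -, -, h5, -⟩ := hR p ((i : ℕ) + 1)
    rw [h5]
  have hlt : ∀ (p : Wgtd F ε n) (i : Fin (2 * n)), m p ((i : ℕ) + 1) < 2 * n + 1 := fun p i => by
    have h1 := Finset.single_le_sum (f := fun i : Fin (2 * n) => ((i : ℕ) + 1) * (2 * m p ((i : ℕ) + 1) + tot (e p ((i : ℕ) + 1))))
      (fun i _ => Nat.zero_le _) (Finset.mem_univ i)
    rw [hsum p] at h1
    have h3 := Nat.le_mul_of_pos_left (2 * m p ((i : ℕ) + 1) + tot (e p ((i : ℕ) + 1))) (Nat.succ_pos (i : ℕ))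
    rw [Nat.succ_eq_add_one] at h3
    omega
  refine ⟨fun p => ⟨⟨fun i => (⟨m p ((i : ℕ) + 1), hlt p i⟩, e p ((i : ℕ) + 1)), fun i hi => ?_, hsum p⟩,
    fun i t => (P p ((i : ℕ) + 1)).coeff ((t : ℕ) + 1)⟩, fun p p' hpp => ?_, fun p hp i => ?_⟩
  · exact (hR p ((i : ℕ) + 1)).2.2.2.2.2.1 (by rwa [Nat.add_sub_cancel])
  swap
  · show e p ((i : ℕ) + 1) = _
    obtain ⟨-, -, -, -, -, h6, h7, -⟩ := hR p ((i : ℕ) + 1)
    by_cases hok : ε * (-1) ^ ((i : ℕ) + 1 - 1) = 1
    swap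
    · exact h6 hok
    have hno : ∀ δ : F, δ * δ = 1 → X - C δ ∉ part p.1.1 ((i : ℕ) + 1) := fun δ hδ hm => by
      obtain ⟨x, hx, hxe⟩ := Multiset.mem_map.1 hm
      obtain ⟨hxS, hxk⟩ := Multiset.mem_filter.1 hx
      exact hp x hxS ⟨δ, hδ, hxe, by rw [hxk]; exact hok⟩
    have a1 : (e p ((i : ℕ) + 1)).1.toNat + (e p ((i : ℕ) + 1)).2.1.toNat = 0 := by
      by_contra h
      refine hno 1 (one_mul 1) ?_
      rw [h7]
      exact Multiset.mem_add.2 (Or.inl (Multiset.mem_add.2 (Or.inr (Multiset.mem_replicate.2 ⟨h, rfl⟩))))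
    have a2 : (e p ((i : ℕ) + 1)).2.2.1.toNat + (e p ((i : ℕ) + 1)).2.2.2.toNat = 0 := by
      by_contra h
      refine hno (-1) (by ring) ?_
      rw [h7]
      exact Multiset.mem_add.2 (Or.inr (Multiset.mem_replicate.2 ⟨h, rfl⟩))
    revert a1 a2
    rcases e p ((i : ℕ) + 1) with ⟨_ | _, _ | _, _ | _, _ | _⟩ <;> simp
  have hshape : ∀ i : Fin (2 * n), m p ((i : ℕ) + 1) = m p' ((i : ℕ) + 1) ∧ e p ((i : ℕ) + 1) = e p' ((i : ℕ) + 1) := fun i => by
    have h := congrFun (congrArg (fun z => z.1.1) hpp) i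
    exact ⟨congrArg (fun z => (z.1 : ℕ)) h, congrArg Prod.snd h⟩
  have hcoeff : ∀ (i : Fin (2 * n)) (t : ℕ), t < m p ((i : ℕ) + 1) →
      (P p ((i : ℕ) + 1)).coeff (t + 1) = (P p' ((i : ℕ) + 1)).coeff (t + 1) := fun i t ht => by
    have h := congrArg (fun (z : Σ c : {c : Cfg n // Valid ε n c}, ∀ i : Fin (2 * n), Fin ((c.1 i).1 : ℕ) → F) =>
      if h : t < ((z.1.1 i).1 : ℕ) then z.2 i ⟨t, h⟩ else 0) hpp
    simpa [ht, (hshape i).1 ▸ ht] using h
  have hP : ∀ i : Fin (2 * n), P p ((i : ℕ) + 1) = P p' ((i : ℕ) + 1) := fun i => by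
    obtain ⟨-, hd, h0, hs, -⟩ := hR p ((i : ℕ) + 1)
    obtain ⟨-, hd', h0', hs', -⟩ := hR p' ((i : ℕ) + 1)
    rw [← (hshape i).1] at hd' hs'
    set M := m p ((i : ℕ) + 1)
    have hlow : ∀ u ≤ M, (P p ((i : ℕ) + 1)).coeff u = (P p' ((i : ℕ) + 1)).coeff u := fun u hu => by
      rcases u with _ | t
      · rw [h0, h0']
      · exact hcoeff i t (by omega)
    refine Polynomial.ext fun u => ?_
    rcases lt_or_ge (2 * M) u with hu | hu
    · rw [coeff_eq_zero_of_natDegree_lt (hd.trans_lt hu), coeff_eq_zero_of_natDegree_lt (hd'.trans_lt hu)]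
    rcases le_or_gt u M with hu' | hu'
    · exact hlow u hu'
    · rw [hs u hu, hs' u hu, hlow _ (by omega)]
  obtain ⟨⟨S, A⟩, hS, hA⟩ := p
  obtain ⟨⟨S', A'⟩, hS', hA'⟩ := p'
  have hrange : ∀ {S : Multiset (F[X] × ℕ)}, Good ε n S → ∀ x ∈ S, ∃ i : Fin (2 * n), x.2 = (i : ℕ) + 1 := by
    intro S hS x hx
    obtain ⟨-, hi, -, hk⟩ := hS.1 x hx
    have h1 : x.2 ≤ 2 * n := le_trans (Nat.le_mul_of_pos_right _ hi.natDegree_pos)
      ((Multiset.le_sum_of_mem (Multiset.mem_map_of_mem (fun y : F[X] × ℕ => y.2 * y.1.natDegree) hx)).trans_eq hS.2.1)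
    exact ⟨⟨x.2 - 1, by omega⟩, by simp; omega⟩
  have hpart : ∀ i : Fin (2 * n), part S ((i : ℕ) + 1) = part S' ((i : ℕ) + 1) := fun i => by
    have a := (hR ⟨(S, A), hS, hA⟩ ((i : ℕ) + 1)).2.2.2.2.2.2.1
    have b := (hR ⟨(S', A'), hS', hA'⟩ ((i : ℕ) + 1)).2.2.2.2.2.2.1
    rw [← hP i, ← (hshape i).2] at b
    exact a.trans b.symm
  have hSS : S = S' := Multiset.ext.2 fun x => by
    by_cases hx : ∃ i : Fin (2 * n), x.2 = (i : ℕ) + 1
    · obtain ⟨i, hi⟩ := hx
      rw [← Multiset.count_filter_of_pos (p := fun y : F[X] × ℕ => y.2 = (i : ℕ) + 1) (s := S) hi,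
        ← Multiset.count_filter_of_pos (p := fun y : F[X] × ℕ => y.2 = (i : ℕ) + 1) (s := S') hi,
        filter_eq_part, filter_eq_part, hpart i]
    · rw [Multiset.count_eq_zero.2 fun h => hx (hrange hS x h), Multiset.count_eq_zero.2 fun h => hx (hrange hS' x h)]
  subst hSS
  have hAA : A = A' := Finset.ext fun x => by
    have key : ∀ (B : Finset (F[X] × ℕ)), (∀ y ∈ B, y ∈ S ∧ IsSign ε y) → x ∈ B →
        ∃ i : Fin (2 * n), x = (X - C 1, (i : ℕ) + 1) ∨ x = (X - C (-1), (i : ℕ) + 1) := fun B hB hx => by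
      obtain ⟨i, hi⟩ := hrange hS x (hB x hx).1
      obtain ⟨δ, hδ, hxd, -⟩ := (hB x hx).2
      refine ⟨i, ?_⟩
      rcases mul_self_eq_one_iff.1 hδ with rfl | rfl
      · exact Or.inl (Prod.ext hxd hi)
      · exact Or.inr (Prod.ext hxd hi)
    have hiff : ∀ i : Fin (2 * n), ((X - C 1, (i : ℕ) + 1) ∈ A ↔ (X - C 1, (i : ℕ) + 1) ∈ A') ∧
        ((X - C (-1), (i : ℕ) + 1) ∈ A ↔ (X - C (-1), (i : ℕ) + 1) ∈ A') := fun i => by
      obtain ⟨-, -, -, -, -, -, -, a1, a2⟩ := hR ⟨(S, A), hS, hA⟩ ((i : ℕ) + 1)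
      obtain ⟨-, -, -, -, -, -, -, b1, b2⟩ := hR ⟨(S, A'), hS', hA'⟩ ((i : ℕ) + 1)
      rw [← (hshape i).2] at b1 b2
      exact ⟨a1.symm.trans b1, a2.symm.trans b2⟩
    constructor
    · intro hx
      obtain ⟨i, rfl | rfl⟩ := key A hA hx
      exacts [(hiff i).1.1 hx, (hiff i).2.1 hx]
    · intro hx
      obtain ⟨i, rfl | rfl⟩ := key A' hA' hx
      exacts [(hiff i).1.2 hx, (hiff i).2.2 hx]
  subst hAA
  rfl

theorem card_Wgtd_le [Fintype F] (n : ℕ) {ε : F} (hε : ε = -1) :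
    Finite (Wgtd F ε n) ∧ (5 : ℝ) * Nat.card (Wgtd F ε n) ≤ 54 * (Fintype.card F : ℝ) ^ n := by
  obtain ⟨ψ, hψ, -⟩ := exists_encode h2 ε n
  refine ⟨Finite.of_injective ψ hψ, ?_⟩
  set q := Fintype.card F with hq
  have hq3 : 3 ≤ q := by
    have h1 : 1 < q := Fintype.one_lt_card
    by_contra h
    have h3 : q = 2 := by omega
    exact h2 (by
      have := Nat.cast_card_eq_zero F
      rw [← hq, h3] at this
      exact_mod_cast this)
  have hq0 : (0 : ℝ) < q := by positivity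
  set y : ℝ := (q : ℝ)⁻¹ with hy
  have hy0 : 0 ≤ y := by positivity
  have hy1 : y ≤ 1 / 3 := by
    rw [hy, one_div, inv_le_inv₀ hq0 (by norm_num)]
    exact_mod_cast hq3
  let g : Fin (2 * n) → Fin (2 * n + 1) × (Bool × Bool × Bool × Bool) → ℝ := fun i z =>
    if (i : ℕ) = 0 then (if z = (0, (false, false, false, false)) then 1 else 0) else wgt y i ((z.1 : ℕ), z.2)
  have hg : ∀ i z, 0 ≤ g i z := fun i z => by
    simp only [g, wgt]; split_ifs <;> positivity
  let clr : Cfg n → Cfg n := fun c i => if (i : ℕ) = 0 then (0, (false, false, false, false)) else c i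
  have hclr : Set.InjOn clr {c | Valid ε n c} := by
    intro c hc c' hc' hcc
    have hne : ∀ i : Fin (2 * n), (i : ℕ) ≠ 0 → c i = c' i := fun i hi => by
      have h := congrFun hcc i
      simpa [clr, hi] using h
    funext i
    by_cases hi : (i : ℕ) = 0
    swap
    · exact hne i hi
    have h1 := hc.2
    have h3 := hc'.2
    rw [← Finset.add_sum_erase _ _ (Finset.mem_univ i)] at h1 h3
    rw [Finset.sum_congr rfl (fun j hj => by
      rw [hne j fun h => (Finset.mem_erase.1 hj).1 (Fin.ext (h.trans hi.symm))])] at h1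
    have e1 := hc.1 i (by rw [hi, pow_zero, mul_one, hε]; exact fun h => h2 (by linear_combination -h))
    have e2 := hc'.1 i (by rw [hi, pow_zero, mul_one, hε]; exact fun h => h2 (by linear_combination -h))
    refine Prod.ext (Fin.ext ?_) (e1.trans e2.symm)
    simp only [hi, e1, e2, tot, Bool.toNat_false] at h1 h3
    omega
  have hev : ∀ c : Cfg n, Valid ε n c → ∀ i : Fin (2 * n), Even (i : ℕ) → (c i).2 = (false, false, false, false) :=
    fun c hc i hi => hc.1 i (by rw [hi.neg_one_pow, mul_one, hε]; exact fun h => h2 (by linear_combination -h))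
  have hterm : ∀ c : Cfg n, Valid ε n c → (q : ℝ) ^ (∑ i : Fin (2 * n), ((c i).1 : ℕ)) = (q : ℝ) ^ n * ∏ i, g i (clr c i) := by
    intro c hc
    have hexp : ∀ i : Fin (2 * n), g i (clr c i) = y ^ ((i : ℕ) * ((c i).1 : ℕ) + ((i : ℕ) + 1) / 2 * tot (c i).2) := fun i => by
      by_cases hi : (i : ℕ) = 0
      · simp [g, clr, hi]
      · simp only [g, clr, if_neg hi, wgt]
        rw [if_neg fun h => h.2 (hev c hc i h.1)]
        rfl
    rw [Finset.prod_congr rfl fun i _ => hexp i, Finset.prod_pow_eq_pow_sum]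
    have hN : (∑ i : Fin (2 * n), ((c i).1 : ℕ)) + ∑ i : Fin (2 * n), ((i : ℕ) * ((c i).1 : ℕ) + ((i : ℕ) + 1) / 2 * tot (c i).2) = n := by
      refine Nat.eq_of_mul_eq_mul_left (show 0 < 2 by norm_num) ?_
      rw [← Finset.sum_add_distrib, Finset.mul_sum]
      conv_rhs => rw [← hc.2]
      refine Finset.sum_congr rfl fun i _ => ?_
      rcases Nat.even_or_odd (i : ℕ) with he | ⟨j, hj⟩
      · rw [hev c hc i he]; simp [tot]; ring
      · rw [hj, show (2 * j + 1 + 1) / 2 = j + 1 by omega]; ring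
    set a := ∑ i : Fin (2 * n), ((c i).1 : ℕ)
    set b := ∑ i : Fin (2 * n), ((i : ℕ) * ((c i).1 : ℕ) + ((i : ℕ) + 1) / 2 * tot (c i).2)
    conv_rhs => rw [← hN, pow_add, hy, inv_pow, mul_assoc, mul_inv_cancel₀ (pow_ne_zero _ hq0.ne'), mul_one]
  have hcard : (Nat.card (Wgtd F ε n) : ℝ) ≤ (q : ℝ) ^ n * ∏ i : Fin (2 * n), ∑ z, g i z := by
    calc (Nat.card (Wgtd F ε n) : ℝ) ≤ (Nat.card (Σ c : {c : Cfg n // Valid ε n c}, ∀ i : Fin (2 * n), Fin ((c.1 i).1 : ℕ) → F) : ℝ) := by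
          exact_mod_cast Nat.card_le_card_of_injective ψ hψ
      _ = ∑ c : {c : Cfg n // Valid ε n c}, (q : ℝ) ^ (∑ i : Fin (2 * n), ((c.1 i).1 : ℕ)) := by
          rw [Nat.card_sigma, Nat.cast_sum]
          refine Finset.sum_congr rfl fun c _ => ?_
          simp [Nat.card_pi, Finset.prod_pow_eq_pow_sum, hq]
      _ = ∑ c ∈ Finset.univ.filter (Valid ε n), (q : ℝ) ^ (∑ i : Fin (2 * n), ((c i).1 : ℕ)) :=
          (Finset.sum_subtype (f := fun c : Cfg n => (q : ℝ) ^ (∑ i : Fin (2 * n), ((c i).1 : ℕ))) _ (by simp)).symm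
      _ = (q : ℝ) ^ n * ∑ c ∈ (Finset.univ.filter (Valid ε n)).image clr, ∏ i, g i (c i) := by
          rw [Finset.sum_image (s := Finset.univ.filter (Valid ε n)) (g := clr) (fun c hc c' hc' => hclr (show Valid ε n c from (Finset.mem_filter.1 (Finset.mem_coe.1 hc)).2) (show Valid ε n c' from (Finset.mem_filter.1 (Finset.mem_coe.1 hc')).2)), Finset.mul_sum]
          exact Finset.sum_congr rfl fun c hc => hterm c (Finset.mem_filter.1 hc).2
      _ ≤ (q : ℝ) ^ n * ∑ c : Cfg n, ∏ i, g i (c i) :=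
          mul_le_mul_of_nonneg_left (Finset.sum_le_sum_of_subset_of_nonneg (Finset.subset_univ _)
            fun c _ _ => Finset.prod_nonneg fun i _ => hg i _) (by positivity)
      _ = _ := by rw [Fintype.prod_sum]
  have hprod : ∏ i : Fin (2 * n), ∑ z, g i z ≤ 54 / 5 := by
    refine le_trans (Finset.prod_le_prod (fun i _ => Finset.sum_nonneg fun z _ => hg i z)
      (g := fun i : Fin (2 * n) => partFac y i) fun i _ => ?_) ?_
    · by_cases hi : (i : ℕ) = 0
      · simp [g, hi, partFac]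
      · simp only [g, if_neg hi, Fintype.sum_prod_type (f := fun z : Fin (2 * n + 1) × (Bool × Bool × Bool × Bool) => wgt y i ((z.1 : ℕ), z.2))]
        exact sum_wgt_le hy0 hy1 hi _
    · rw [Fin.prod_univ_eq_prod_range (fun i => partFac y i)]
      exact prod_partFac_le hy0 hy1 n
  nlinarith [mul_le_mul_of_nonneg_left hprod (show (0 : ℝ) ≤ (q : ℝ) ^ n by positivity)]

end Cfsg.Agent.Classical.SympClasses
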