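import Cfsg.Agent.Lib.Classical.UnitMultHeis
import Cfsg.Agent.Lib.Lie.UnPresField

/-!
A central cover of `SU_3(q)`: the commutators of the lifts of a Heisenberg group meet the kernel trivially.
-/

set_option autoImplicit false
set_option linter.unusedSectionVars false
set_option linter.style.haveILetI false

namespace Cfsg.Agent.Classical.UnitMult

open Matrix Cfsg.Agent.Classical Cfsg.Agent.Classical.PSUAut
open scoped commutatorElement

variable {F : Type*} [Field F] [Fintype F] {q : ℕ}

local notation "h" => hermForm 3 F q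

variable (hF : Fintype.card F = q ^ 2) {E : Type*} [Group E] {π : E →* SU 3 F q} {e f : Fin 3 → F}

local notation "cj" => qFrob hF

section Three

variable (C : Cov π) (P : IsPair (q := q) e f) (hq : 3 ≤ q) {u : Fin 3 → F} (hu : u ∈ wSub q e f)
  (h1 : hermForm 3 F q u u = 1)
include hF C P hq hu h1

/-- An element scaling the line. -/
theorem dlt_inv {a : F} (ha : a ≠ 0) {r s : F} (hrs : r * cj s = s * cj r) :
    cw hF C e ((cj a * cj a / a * r) • u) ((cj a * cj a / a * s) • u) = cw hF C e (r • u) (s • u) := by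
  obtain ⟨g, hge, hgf, hgu, -⟩ := exists_su_scale_one hF P ha hu (by rw [h1]; exact one_ne_zero)
  have h2 := cw_fix hF C P le_rfl (Or.inr hq) (Submodule.smul_mem _ r hu) (Submodule.smul_mem _ s hu)
    (by rw [h_smul_left, h_smul_right hF, h_smul_left, h_smul_right hF, h1, mul_one, mul_one]; exact hrs)
    ha (inv_ne_zero ((map_ne_zero (qFrob hF)).2 ha)) hge hgf
  have e1 : ∀ t : F, cj a • (suVal g *ᵥ (t • u)) = (cj a * cj a / a * t) • u := fun t => by
    rw [Matrix.mulVec_smul, hgu, smul_smul, smul_smul]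
    congr 1
    ring
  rwa [e1, e1] at h2

theorem dlt_ker {r s : F} (hrs : r * cj s = s * cj r) : π (cw hF C e (r • u) (s • u)) = 1 := by
  obtain ⟨H, hH⟩ := cw_val hF C P le_rfl (Or.inr hq) (Submodule.smul_mem _ r hu) (Submodule.smul_mem _ s hu)
  rw [hH, ← eSU_zero hF P.ee]
  refine eSU_congr hF _ _ rfl ?_
  rw [h_smul_left, h_smul_right hF, h_smul_left, h_smul_right hF, h1, mul_one, mul_one, hrs, sub_self]

theorem dlt_add_right (r s t : F) :
    cw hF C e (r • u) ((s + t) • u) = cw hF C e (r • u) (s • u) * cw hF C e (r • u) (t • u) := by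
  rw [add_smul, cw_add_right hF C P le_rfl (Or.inr hq) (Submodule.smul_mem _ r hu) (Submodule.smul_mem _ s hu)
    (Submodule.smul_mem _ t hu)]

theorem dlt_add_left (r s t : F) :
    cw hF C e ((r + s) • u) (t • u) = cw hF C e (r • u) (t • u) * cw hF C e (s • u) (t • u) := by
  rw [add_smul, cw_add_left hF C P le_rfl (Or.inr hq) (Submodule.smul_mem _ r hu) (Submodule.smul_mem _ s hu)
    (Submodule.smul_mem _ t hu)]

theorem dlt_zero_right (r : F) : cw hF C e (r • u) ((0 : F) • u) = 1 := by
  rw [zero_smul, cw_zero_right hF C P le_rfl (Or.inr hq) (Submodule.smul_mem _ r hu)]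

theorem dlt_neg_right (r s : F) : cw hF C e (r • u) ((-s) • u) = (cw hF C e (r • u) (s • u))⁻¹ :=
  eq_inv_of_mul_eq_one_left (by
    rw [← dlt_add_right hF C P hq hu h1, neg_add_cancel, dlt_zero_right hF C P hq hu h1])

/-- Four elements: constancy on the punctured line. -/
theorem dlt_four (h4 : q = 4) {w : F} (hw : cj w = w) (c : F) :
    cw hF C e (c • u) ((w * c) • u) = 1 := by
  classical
  rcases eq_or_ne c 0 with rfl | hc
  · rw [zero_smul, cw_zero_left hF C P le_rfl (Or.inr hq) (Submodule.smul_mem _ _ hu)]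
  have hsym : ∀ d : F, d * cj (w * d) = w * d * cj d := fun d => by rw [map_mul, hw]; ring
  have h15 : ∀ x : F, x ≠ 0 → x ^ 15 = 1 := fun x hx => by
    have := FiniteField.pow_card_sub_one_eq_one x hx
    rwa [hF, h4] at this
  obtain ⟨g, hg⟩ : ∃ g : F → E, ∀ d, g d = cw hF C e (d • u) ((w * d) • u) := ⟨_, fun _ => rfl⟩
  have hconst : ∀ d : F, d ≠ 0 → g d = g 1 := by
    intro d hd
    have ha : d ^ 13 ≠ 0 := pow_ne_zero _ hd
    have e7 : cj (d ^ 13) * cj (d ^ 13) / d ^ 13 = d := by
      rw [qFrob_apply, h4, div_eq_iff ha, ← pow_mul, ← pow_add,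
        show 13 * 4 + 13 * 4 = 15 * 6 + (1 + 13) by norm_num, pow_add, pow_mul, h15 d hd, one_pow, one_mul,
        pow_add, pow_one]
    have := dlt_inv hF C P hq hu h1 ha (hsym 1)
    rw [e7, mul_one, mul_one, mul_comm d w] at this
    rw [hg, hg, mul_one]
    exact this
  have hgk : ∀ d, π (g d) = 1 := fun d => by rw [hg]; exact dlt_ker hF C P hq hu h1 (hsym d)
  obtain ⟨D, hD⟩ : ∃ D : F → E,
      ∀ d, D d = cw hF C e ((1 : F) • u) ((w * d) • u) * cw hF C e (d • u) ((w * 1) • u) := ⟨_, fun _ => rfl⟩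
  have hzc : ∀ r s : F, IsQL hF π e 0 (cw hF C e (r • u) (s • u)) := fun r s =>
    cw_mem0 hF C P le_rfl (Or.inr hq) (Submodule.smul_mem _ r hu) (Submodule.smul_mem _ s hu)
  have hDadd : ∀ a b, D (a + b) = D a * D b := fun a b => by
    rw [hD, hD, hD, mul_add, dlt_add_right hF C P hq hu h1, dlt_add_left hF C P hq hu h1]
    exact (zc_commute hF C P le_rfl (hzc 1 (w * b)) (hzc a (w * 1))).mul_mul_mul_comm _ _
  have hsum : ∀ d, g (1 + d) = g 1 * g d * D d := fun d => by
    rw [hg, hg, hg, hD, mul_add, dlt_add_left hF C P hq hu h1, dlt_add_right hF C P hq hu h1,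
      dlt_add_right hF C P hq hu h1]
    have h1' := zc_commute hF C P le_rfl (hzc 1 (w * d)) (hzc d (w * d))
    have h2' := zc_commute hF C P le_rfl (hzc d (w * 1)) (hzc d (w * d))
    generalize cw hF C e ((1 : F) • u) ((w * 1) • u) = a
    generalize cw hF C e ((1 : F) • u) ((w * d) • u) = b at h1'
    generalize cw hF C e (d • u) ((w * 1) • u) = c' at h2'
    generalize cw hF C e (d • u) ((w * d) • u) = d' at h1' h2'
    calc a * b * (c' * d') = a * (b * (c' * d')) := mul_assoc _ _ _
      _ = a * (b * (d' * c')) := by rw [h2'.eq]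
      _ = a * (d' * b * c') := by rw [← mul_assoc b, h1'.eq]
      _ = _ := by simp only [mul_assoc]
  have hz : ∀ d : F, d ≠ 0 → 1 + d ≠ 0 → D d = (g 1)⁻¹ := fun d hd hd1 => by
    have := hsum d
    rw [hconst _ hd1, hconst d hd, mul_assoc, left_eq_mul] at this
    exact eq_inv_of_mul_eq_one_right this
  obtain ⟨d₁, hd₁⟩ : ∃ d, d ∈ (Finset.univ \ {0, -1} : Finset F) := by
    refine Finset.card_pos.1 ?_
    have e2 := Finset.card_le_two (a := (0 : F)) (b := -1)
    have e3 := Finset.le_card_sdiff ({0, -1} : Finset F) Finset.univ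
    rw [Finset.card_univ, hF, h4] at e3
    omega
  obtain ⟨d₂, hd₂⟩ : ∃ d, d ∈ (Finset.univ \ {0, -1, -d₁, -1 - d₁} : Finset F) := by
    refine Finset.card_pos.1 ?_
    have e2 := Finset.card_le_four (a := (0 : F)) (b := -1) (c := -d₁) (d := -1 - d₁)
    have e3 := Finset.le_card_sdiff ({0, -1, -d₁, -1 - d₁} : Finset F) Finset.univ
    rw [Finset.card_univ, hF, h4] at e3
    omega
  simp only [Finset.mem_sdiff, Finset.mem_univ, true_and, Finset.mem_insert, Finset.mem_singleton,
    not_or] at hd₁ hd₂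
  have e := hDadd d₁ d₂
  rw [hz d₁ hd₁.1 (fun e => hd₁.2 (by linear_combination e)),
    hz d₂ hd₂.1 (fun e => hd₂.2.1 (by linear_combination e)),
    hz _ (fun e => hd₂.2.2.1 (by linear_combination e)) (fun e => hd₂.2.2.2 (by linear_combination e)),
    left_eq_mul, inv_eq_one] at e
  rw [← hg, hconst c hc, e]

/-- A commutator of two vectors on a real line. -/
theorem dlt_real (c : F) {x : F} (hx : cj x = x) : cw hF C e (c • u) ((x * c) • u) = 1 := by
  classical
  have hsym : ∀ y : F, cj y = y → c * cj (y * c) = y * c * cj c := fun y hy => by rw [map_mul, hy]; ring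
  have h0 : cw hF C e (c • u) (((0 : F) * c) • u) = 1 := by rw [zero_mul, dlt_zero_right hF C P hq hu h1]
  have hone : cw hF C e (c • u) (((1 : F) * c) • u) = 1 := by rw [one_mul, cw_self hF C P le_rfl]
  have hcard := HermTotIsoLines.natCard_fixed hF
  rw [Nat.card_eq_fintype_card, Fintype.card_subtype] at hcard
  have hmemx : x ∈ (Finset.univ.filter fun r : F => r ^ q = r) := by
    rw [Finset.mem_filter, ← qFrob_apply hF]; exact ⟨Finset.mem_univ _, hx⟩
  by_cases h5 : 5 ≤ q
  · let K : Subfield F := (qFrob hF).eqLocusField (RingHom.id F)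
    haveI : Fintype K := Fintype.ofFinite K
    have hK : Fintype.card K = q := by
      rw [← Nat.card_eq_fintype_card]
      refine Eq.trans ?_ (HermTotIsoLines.natCard_fixed hF)
      exact Nat.card_congr (Equiv.subtypeEquivRight fun r => by
        show cj r = r ↔ _
        rw [qFrob_apply])
    letI : CommGroup π.ker :=
      { (inferInstance : Group π.ker) with
        mul_comm := fun a b => Subtype.ext ((C.commute b.2 (a : E)).eq) }
    let φ : K → π.ker := fun r => ⟨cw hF C e (c • u) (((r : F) * c) • u),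
      dlt_ker hF C P hq hu h1 (hsym r r.2)⟩
    have := hua_trivial (hK ▸ h5) φ (fun r s => Subtype.ext (by
        show cw hF C e (c • u) ((((r + s : K) : F) * c) • u) = _
        rw [Subfield.coe_add, add_mul, dlt_add_right hF C P hq hu h1]
        rfl)) (fun r hr => Subtype.ext (by
        show cw hF C e (c • u) ((((r⁻¹ : K) : F) * c) • u) = (cw hF C e (c • u) (((r : F) * c) • u))⁻¹
        have hr0 : (r : F) ≠ 0 := fun e => hr (Subtype.ext e)
        have hrr : cj (r : F) = r := r.2
        have hh := dlt_inv hF C P hq hu h1 (a := (r : F)) hr0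
          (hsym ((r : F)⁻¹) (by rw [map_inv₀, hrr]))
        rw [hrr, mul_div_assoc, div_self hr0, mul_one, ← mul_assoc, mul_inv_cancel₀ hr0, one_mul] at hh
        rw [cw_swap hF C P le_rfl, Subfield.coe_inv, ← hh])) ⟨x, hx⟩
    exact congrArg Subtype.val this
  · rcases (show q = 3 ∨ q = 4 by omega) with hq3 | hq4
    · have h3 : (3 : F) = 0 := by
        have := Nat.cast_card_eq_zero F
        rw [hF, hq3] at this
        push_cast at this
        refine eq_zero_of_pow_eq_zero (n := 2) ?_
        linear_combination this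
      have hne : (-1 : F) ≠ 1 := fun e => one_ne_zero (α := F) (by linear_combination h3 + e)
      rw [hq3] at hmemx hcard
      have hset : ({0, 1, -1} : Finset F) = Finset.univ.filter fun r : F => r ^ 3 = r := by
        refine Finset.eq_of_subset_of_card_le (fun r hr => ?_) ?_
        · simp only [Finset.mem_insert, Finset.mem_singleton] at hr
          rw [Finset.mem_filter]
          refine ⟨Finset.mem_univ _, ?_⟩
          rcases hr with rfl | rfl | rfl <;> ring
        · rw [hcard, Finset.card_insert_of_notMem (by simp), Finset.card_pair hne.symm]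
      rw [← hset] at hmemx
      simp only [Finset.mem_insert, Finset.mem_singleton] at hmemx
      rcases hmemx with rfl | rfl | rfl
      · exact h0
      · exact hone
      · rw [neg_one_mul, dlt_neg_right hF C P hq hu h1, cw_self hF C P le_rfl, inv_one]
    · have h2 : (2 : F) = 0 := by
        have := Nat.cast_card_eq_zero F
        rw [hF, hq4] at this
        push_cast at this
        refine eq_zero_of_pow_eq_zero (n := 4) ?_
        linear_combination this
      obtain ⟨w, hw0, hw1, hw⟩ := exists_real_ne_one hF hq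
      have hw2 : cj (1 + w) = 1 + w := by rw [map_add, map_one, hw]
      have hset : ({0, 1, w, 1 + w} : Finset F) = Finset.univ.filter fun r : F => r ^ q = r := by
        refine Finset.eq_of_subset_of_card_le (fun r hr => ?_) ?_
        · simp only [Finset.mem_insert, Finset.mem_singleton] at hr
          rw [Finset.mem_filter, ← qFrob_apply hF]
          refine ⟨Finset.mem_univ _, ?_⟩
          rcases hr with rfl | rfl | rfl | rfl
          exacts [map_zero _, map_one _, hw, hw2]
        · have a1 : (1 : F) + w ≠ 0 := fun e => hw1 (by linear_combination e - h2)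
          have a2 : (1 : F) + w ≠ 1 := fun e => hw0 (by linear_combination e)
          have a3 : (1 : F) + w ≠ w := fun e => one_ne_zero (α := F) (by linear_combination e)
          rw [hcard, hq4, Finset.card_insert_of_notMem (by simp [Ne.symm hw0, Ne.symm a1]),
            Finset.card_insert_of_notMem (by simp [Ne.symm hw1, Ne.symm a2]), Finset.card_pair (Ne.symm a3)]
      rw [← hset] at hmemx
      simp only [Finset.mem_insert, Finset.mem_singleton] at hmemx
      rcases hmemx with hm | hm | hm | hm <;> rw [hm]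
      · exact h0
      · exact hone
      · exact dlt_four hF C P hq hu h1 hq4 hw c
      · exact dlt_four hF C P hq hu h1 hq4 hw2 c

/-- Real scalars pass through. -/
theorem dlt_move (c d : F) {x : F} (hx : cj x = x) :
    cw hF C e ((x * c) • u) (d • u) = cw hF C e (c • u) ((x * d) • u) := by
  have hh := dlt_real hF C P hq hu h1 (c + d) hx
  rw [mul_add, dlt_add_left hF C P hq hu h1, dlt_add_right hF C P hq hu h1, dlt_add_right hF C P hq hu h1,
    dlt_real hF C P hq hu h1 c hx, dlt_real hF C P hq hu h1 d hx, one_mul, mul_one] at hh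
  rw [eq_inv_of_mul_eq_one_left hh, cw_swap hF C P le_rfl]

end Three

include hF

/-- The commutators meet the kernel trivially in dimension three. -/
theorem zsub_ker_three (C : Cov π) (P : IsPair (q := q) e f) (hq : 3 ≤ q) {g : E} (hg : g ∈ zsub hF C e f)
    (hg1 : π g = 1) : g = 1 := by
  obtain ⟨u₀, O⟩ := exists_onb hF P (by omega)
  set u := u₀ ⟨0, by omega⟩ with hudef
  have hu : u ∈ wSub q e f := O.mem _
  have h1 : h u u = 1 := O.one _
  have hline : ∀ x ∈ wSub q e f, ∃ r : F, x = r • u := fun x hx => by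
    refine ⟨h x u, ?_⟩
    conv_lhs => rw [O.expand hF P (by omega) hx]
    exact Fintype.sum_eq_single (⟨0, by omega⟩ : Fin (3 - 2)) fun i hi => absurd (Fin.ext (by omega)) hi
  obtain ⟨w, hw⟩ : ∃ w : F, cj w ≠ w := by
    by_contra hcon
    push Not at hcon
    exact qFrob_ne_id hF (RingHom.ext hcon)
  obtain ⟨ψ, hψ⟩ : ∃ ψ : F → E, ∀ t, ψ t = cw hF C e ((1 : F) • u) ((t * w) • u) := ⟨_, fun _ => rfl⟩
  have hψadd : ∀ s t, ψ (s + t) = ψ s * ψ t := fun s t => by
    rw [hψ, hψ, hψ, add_mul, dlt_add_right hF C P hq hu h1]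
  have hψ0 : ψ 0 = 1 := by rw [hψ, zero_mul, dlt_zero_right hF C P hq hu h1]
  have hψneg : ∀ t, ψ (-t) = (ψ t)⁻¹ := fun t =>
    eq_inv_of_mul_eq_one_left (by rw [← hψadd, neg_add_cancel, hψ0])
  have main : ∀ a b : F, ∃ t, cj t = t ∧ cw hF C e (a • u) (b • u) = ψ t := by
    intro a b
    obtain ⟨a₁, a₂, ha₁, ha₂, rfl⟩ := Lie.UnPres.exists_coord hF hw a
    obtain ⟨b₁, b₂, hb₁, hb₂, rfl⟩ := Lie.UnPres.exists_coord hF hw b
    refine ⟨a₁ * b₂ + -(b₁ * a₂), by simp only [map_add, map_neg, map_mul, ha₁, ha₂, hb₁, hb₂], ?_⟩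
    rw [dlt_add_left hF C P hq hu h1, dlt_add_right hF C P hq hu h1, dlt_add_right hF C P hq hu h1]
    have e1 : cw hF C e (a₁ • u) (b₁ • u) = 1 := by
      have hh := dlt_move hF C P hq hu h1 1 b₁ ha₁
      rw [mul_one] at hh
      rw [hh]
      have h2 := dlt_real hF C P hq hu h1 1 (x := a₁ * b₁) (by rw [map_mul, ha₁, hb₁])
      rwa [mul_one] at h2
    have e2 : ∀ r s : F, cj r = r → cw hF C e (r • u) ((s * w) • u) = ψ (r * s) := fun r s hr => by
      have hh := dlt_move hF C P hq hu h1 1 (s * w) hr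
      rw [mul_one] at hh
      rw [hh, hψ, mul_assoc]
    have e4 : cw hF C e ((a₂ * w) • u) ((b₂ * w) • u) = 1 := by
      rw [dlt_move hF C P hq hu h1 w (b₂ * w) ha₂, ← mul_assoc]
      exact dlt_real hF C P hq hu h1 w (by rw [map_mul, ha₂, hb₂])
    rw [e1, e4, e2 a₁ b₂ ha₁, ← cw_swap hF C P le_rfl (b₁ • u), e2 b₁ a₂ hb₁, one_mul, mul_one, hψadd, hψneg]
  obtain ⟨t, ht, rfl⟩ : ∃ t, cj t = t ∧ g = ψ t := by
    clear hg1
    induction hg using Subgroup.closure_induction with
    | mem g hg =>
      obtain ⟨x, hx, y, hy, rfl⟩ := hg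
      obtain ⟨a, rfl⟩ := hline x hx
      obtain ⟨b, rfl⟩ := hline y hy
      exact main a b
    | one => exact ⟨0, map_zero _, hψ0.symm⟩
    | mul a b _ _ iha ihb =>
      obtain ⟨s, hs, rfl⟩ := iha
      obtain ⟨t, ht, rfl⟩ := ihb
      exact ⟨s + t, by rw [map_add, hs, ht], (hψadd s t).symm⟩
    | inv a _ iha =>
      obtain ⟨s, hs, rfl⟩ := iha
      exact ⟨-s, by rw [map_neg, hs], (hψneg s).symm⟩
  obtain ⟨H, hH⟩ := cw_val hF C P le_rfl (Or.inr hq) (Submodule.smul_mem _ (1 : F) hu)
    (Submodule.smul_mem _ (t * w) hu)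
  rw [hψ, hH, ← eSU_zero hF P.ee] at hg1
  have e := (eSU_inj hF P H (EOK.zero hF P.ee) (zero_mem _) (zero_mem _) hg1).2
  rw [h_smul_left, h_smul_left, h_smul_right hF, h_smul_right hF, h1, map_one, map_mul, ht] at e
  have h0 : t = 0 := by
    have : t * (cj w - w) = 0 := by linear_combination e
    exact (mul_eq_zero.1 this).resolve_right (sub_ne_zero.2 hw)
  rw [h0, hψ0]

end Cfsg.Agent.Classical.UnitMult
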