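import Cfsg.Agent.Lib.Classical.UnitMultSplit
import Cfsg.Agent.Lib.Classical.UnitMultHeisThree
import Cfsg.Agent.Lib.Fus.UnitSylow

/-!
A central cover of `SU_n(q)`: a section over a Sylow subgroup of the defining characteristic; the kernel of a
stem extension has order prime to the characteristic.
-/

set_option autoImplicit false
set_option linter.unusedSectionVars false
set_option linter.style.haveILetI false

namespace Cfsg.Agent.Classical.UnitMult

open Matrix Cfsg.Agent.Classical Cfsg.Agent.Classical.PSUAut Cfsg.Agent.Fus.UnitN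
open scoped commutatorElement

variable {F : Type*} [Field F] [Fintype F] {q n : ℕ}

local notation "h" => hermForm n F q

variable (hF : Fintype.card F = q ^ 2) {p : ℕ} [Fact p.Prime] [CharP F p] {E : Type*} [Group E]
  {π : E →* SU n F q}

local notation "cj" => qFrob hF

include hF

/-- A Heisenberg element fixing the partner is trivial. -/
theorem heis_fix_eq_one {e f : Fin n → F} (P : IsPair (q := q) e f) {s : SU n F q} (hs : s ∈ heisU hF e P.ee)
    (hsf : suVal s *ᵥ f = f) : s = 1 := by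
  obtain ⟨w, c, H, hw, rfl⟩ := heis_rep hF P hs
  rw [suVal_eSU, eMat_mulVec, P.fe hF, h_comm_zero hF hw.2, one_smul, zero_smul, sub_zero, mul_one,
    add_eq_left] at hsf
  have hc : c = 0 := by
    have := congrArg (fun x => h x f) hsf
    simpa [h_add_left, h_smul_left, hw.2, P.ef, h_zero_left] using this
  subst hc
  rw [zero_smul, add_zero] at hsf
  subst hsf
  exact eSU_zero hF P.ee

/-- In dimension three a Sylow subgroup lies in a Heisenberg group. -/
theorem sylow_le_heis (P : Sylow p (SU 3 F q)) :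
    ∃ (e f : Fin 3 → F) (hP : IsPair (q := q) e f), (P : Subgroup (SU 3 F q)) ≤ heisU hF e hP.ee := by
  obtain ⟨z0, hz0, hz0z⟩ := exists_isotropic hF (n := 3) (by omega)
  obtain ⟨z, -, hzne, hzz, hfix⟩ := exists_fixed_isotropic (p := p) hF (W := (⊤ : Submodule F (Fin 3 → F)))
    frame_top trivial hz0 hz0z (P.2.to_le (inf_le_left : (P : Subgroup (SU 3 F q)) ⊓ gW ⊤ ≤ _)) inf_le_right
  obtain ⟨y, -, hzy⟩ := Fus.UnitN.exists_partner hF frame_top (Submodule.mem_top (x := z)) hzne hzz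
  refine ⟨z, y, hzy, fun g hg => ?_⟩
  obtain ⟨w, c, H, -, hrest⟩ := exists_heis_split hF frame_top hzy Submodule.mem_top Submodule.mem_top
    (gW_top hF g) (hfix g ⟨hg, gW_top hF g⟩)
  obtain ⟨u, O⟩ := exists_onb hF hzy (by omega)
  have hline : ∀ x ∈ nextW (q := q) (⊤ : Submodule F (Fin 3 → F)) z y, x ≠ 0 →
      ∀ v ∈ nextW (q := q) (⊤ : Submodule F (Fin 3 → F)) z y, ∃ a : F, v = a • x := by
    intro x hx hx0 v hv
    have key : ∀ a ∈ wSub q z y, a = hermForm 3 F q a (u ⟨0, by omega⟩) • u ⟨0, by omega⟩ := fun a ha => by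
      conv_lhs => rw [O.expand hF hzy (by omega) ha]
      exact Fintype.sum_eq_single (⟨0, by omega⟩ : Fin (3 - 2)) fun i hi => absurd (Fin.ext (by omega)) hi
    have e1 := key x hx.2
    have e2 := key v hv.2
    have hne : hermForm 3 F q x (u ⟨0, by omega⟩) ≠ 0 := fun e => hx0 (by rw [e1, e, zero_smul])
    refine ⟨hermForm 3 F q v (u ⟨0, by omega⟩) / hermForm 3 F q x (u ⟨0, by omega⟩), ?_⟩
    have e3 : (hermForm 3 F q x (u ⟨0, by omega⟩))⁻¹ • x = u ⟨0, by omega⟩ := (inv_smul_eq_iff₀ hne).2 e1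
    rw [div_eq_mul_inv, mul_smul, e3]
    exact e2
  have := eq_one_of_line hF (frame_top.next hF hzy Submodule.mem_top Submodule.mem_top) hline hrest
  rw [inv_mul_eq_one] at this
  exact this ▸ ⟨w, c, H, rfl⟩

variable (C : Cov π)
include C

/-- A section over a maximal `p`-subgroup, along the flag. -/
theorem exists_section_on (hn : 4 ≤ n) (hnq : 5 ≤ n ∨ 4 ≤ q) (h62 : ¬(n = 6 ∧ q = 2))
    {P : Subgroup (SU n F q)} (hP : IsPGroup p P) :
    ∀ (N : ℕ) (W : Submodule F (Fin n → F)), Nat.card W = N → Frame q W → MaxIn p P W →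
      ∃ T : Subgroup E, (∀ t ∈ T, π t ∈ P ⊓ gW W) ∧ (∀ t ∈ T, π t = 1 → t = 1) ∧
        ∀ s ∈ P ⊓ gW W, ∃ t ∈ T, π t = s := by
  intro N
  induction N using Nat.strong_induction_on with
  | _ N ih =>
  intro W hN hW hmax
  rcases frame_dichotomy hF W with ⟨z0, hz0m, hz0, hz0z⟩ | hline
  swap
  · refine ⟨⊥, ?_, ?_, fun s hs => ⟨1, one_mem _, ?_⟩⟩
    · intro t ht
      rw [Subgroup.mem_bot.1 ht, map_one]
      exact one_mem _
    · exact fun t ht _ => Subgroup.mem_bot.1 ht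
    · rw [map_one, eq_one_of_line hF hW hline hs.2]
  obtain ⟨z, hz, hzne, hzz, hfix⟩ := exists_fixed_isotropic (p := p) hF hW hz0m hz0 hz0z
    (hP.to_le (inf_le_left : P ⊓ gW W ≤ P)) inf_le_right
  obtain ⟨y, hy, hzy⟩ := Fus.UnitN.exists_partner hF hW hz hzne hzz
  obtain ⟨S, hS⟩ := exists_sect hF C hzy hn hnq h62
  obtain ⟨T, hT1, hT2, hT3⟩ := ih _ (hN ▸ next_card_lt hF hzy hz) _ rfl (hW.next hF hzy hz hy)
    (maxIn_next hF hW hP hmax hzy hz hy hfix)
  set S₁ := S ⊓ (gW W).comap π with hS₁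
  have hmove : ∀ t ∈ T, ∀ s ∈ S₁, t * s * t⁻¹ ∈ S₁ := fun t ht s hs => by
    obtain ⟨hz', hy'⟩ := gW_next_fix hF (hT1 t ht).2
    refine ⟨hS.stable t hz' hy' s hs.1, ?_⟩
    show π (t * s * t⁻¹) ∈ gW W
    rw [map_mul, map_mul, map_inv]
    exact mul_mem (mul_mem (gW_mono hF inf_le_left (hT1 t ht).2) hs.2)
      (inv_mem (gW_mono hF inf_le_left (hT1 t ht).2))
  let R : Subgroup E :=
    { carrier := {g | ∃ s ∈ S₁, ∃ t ∈ T, g = s * t}
      one_mem' := ⟨1, one_mem _, 1, one_mem _, (one_mul 1).symm⟩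
      mul_mem' := by
        rintro _ _ ⟨s, hs, t, ht, rfl⟩ ⟨s', hs', t', ht', rfl⟩
        exact ⟨s * (t * s' * t⁻¹), mul_mem hs (hmove t ht s' hs'), t * t', mul_mem ht ht', by group⟩
      inv_mem' := by
        rintro _ ⟨s, hs, t, ht, rfl⟩
        refine ⟨t⁻¹ * s⁻¹ * t, ?_, t⁻¹, inv_mem ht, by group⟩
        simpa using hmove t⁻¹ (inv_mem ht) s⁻¹ (inv_mem hs) }
  have hsP : ∀ s ∈ S₁, π s ∈ P ⊓ gW W := fun s hs =>
    ⟨heis_le hF hP hmax hzz hfix ⟨hS.le s hs.1, hs.2⟩, hs.2⟩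
  refine ⟨R, ?_, ?_, ?_⟩
  · rintro _ ⟨s, hs, t, ht, rfl⟩
    rw [map_mul]
    exact mul_mem (hsP s hs) ⟨(hT1 t ht).1, gW_mono hF inf_le_left (hT1 t ht).2⟩
  · rintro _ ⟨s, hs, t, ht, rfl⟩ h1
    rw [map_mul, mul_eq_one_iff_eq_inv] at h1
    have hs1 : π s = 1 := by
      refine heis_fix_eq_one hF hzy (hS.le s hs.1) ?_
      rw [h1, ← map_inv]
      exact (gW_next_fix hF (hT1 _ (inv_mem ht)).2).2
    rw [hs1, eq_comm, inv_eq_one] at h1
    rw [hS.ker s hs.1 hs1, hT2 t ht h1, one_mul]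
  · intro g hg
    obtain ⟨w, c, H, hw, hrest⟩ := exists_heis_split hF hW hzy hz hy hg.2 (hfix g hg)
    have hE : eSU hF H ∈ heisU hF z hzz ⊓ gW W := ⟨⟨w, c, H, rfl⟩, eSU_mem_gW hF hz hw.1 H⟩
    obtain ⟨s, hs, hπs⟩ := hS.surj (eSU hF H) hE.1
    obtain ⟨t, ht, hπt⟩ := hT3 ((eSU hF H)⁻¹ * g)
      ⟨Subgroup.mul_mem _ (Subgroup.inv_mem _ (heis_le hF hP hmax hzz hfix hE)) hg.1, hrest⟩
    refine ⟨s * t, ⟨s, ⟨hs, ?_⟩, t, ht, rfl⟩, by rw [map_mul, hπs, hπt, mul_inv_cancel_left]⟩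
    show π s ∈ gW W
    rw [hπs]; exact hE.2

/-- The commutators of the preimage of a Sylow subgroup meet the kernel trivially. -/
theorem sylow_derived_ker (hn : 3 ≤ n) (h32 : ¬(n = 3 ∧ q = 2)) (hexc : ¬(n = 4 ∧ q ≤ 3) ∧ ¬(n = 6 ∧ q = 2))
    (P : Sylow p (SU n F q)) {g : E}
    (hg : g ∈ ⁅(P : Subgroup (SU n F q)).comap π, (P : Subgroup (SU n F q)).comap π⁆) (hg1 : π g = 1) : g = 1 := by
  rcases hn.lt_or_eq with h4 | h3
  · have hnq : 5 ≤ n ∨ 4 ≤ q := by
      have := hexc.1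
      omega
    obtain ⟨T, -, hT2, hT3⟩ := exists_section_on hF C h4 hnq hexc.2 P.2 _ _ rfl frame_top (maxIn_top hF P)
    refine hT2 g (?_ : g ∈ T) hg1
    refine Subgroup.commutator_le.2 (fun a ha b hb => ?_) hg
    obtain ⟨s, hs, hπs⟩ := hT3 (π a) ⟨ha, gW_top hF _⟩
    obtain ⟨t, ht, hπt⟩ := hT3 (π b) ⟨hb, gW_top hF _⟩
    rw [← comm_congr π C.cen hπs hπt, commutatorElement_def]
    exact mul_mem (mul_mem (mul_mem hs ht) (inv_mem hs)) (inv_mem ht)
  · subst h3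
    have hq : 3 ≤ q := by
      have h2 := two_le_q hF
      by_contra hc
      exact h32 ⟨rfl, by omega⟩
    obtain ⟨e, f, hP, hle⟩ := sylow_le_heis hF P
    refine zsub_ker_three hF C hP hq (?_ : g ∈ zsub hF C e f) hg1
    refine Subgroup.commutator_le.2 (fun a ha b hb => ?_) hg
    obtain ⟨w, c, H, hw, hπw⟩ := heis_rep hF hP (hle ha)
    obtain ⟨w', c', H', hw', hπw'⟩ := heis_rep hF hP (hle hb)
    exact comm_mem_zsub hF C hP le_rfl (Or.inr hq) hw hw' ⟨c, H, hπw⟩ ⟨c', H', hπw'⟩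

/-- The kernel of a stem extension has order prime to the characteristic. -/
theorem stem_ker_coprime [Finite E] (hn : 3 ≤ n) (h32 : ¬(n = 3 ∧ q = 2))
    (hexc : ¬(n = 4 ∧ q ≤ 3) ∧ ¬(n = 6 ∧ q = 2)) (hstem : π.ker ≤ commutator E) :
    (Nat.card π.ker).Coprime p := by
  refine Nat.Coprime.symm ((Fact.out : p.Prime).coprime_iff_not_dvd.2 fun hdvd => ?_)
  obtain ⟨⟨z, hz⟩, hzo⟩ := exists_prime_orderOf_dvd_card' p hdvd
  obtain ⟨P⟩ := (inferInstance : Nonempty (Sylow p (SU n F q)))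
  have ho : orderOf z = p := by rw [← hzo]; exact Subgroup.orderOf_coe (⟨z, hz⟩ : π.ker)
  have hzY : z ∈ (P : Subgroup (SU n F q)).comap π := by
    show π z ∈ (P : Subgroup (SU n F q))
    rw [show π z = 1 from hz]; exact one_mem _
  have h1 := mem_derived_of_transfer ((P : Subgroup (SU n F q)).comap π) (C.cen hz) hzY (hstem hz) (by
    rw [ho, Subgroup.index_comap_of_surjective _ C.surj]
    exact (Fact.out : p.Prime).coprime_iff_not_dvd.2 P.not_dvd_index)
  rw [sylow_derived_ker hF C hn h32 hexc P h1 hz, orderOf_one] at ho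
  exact (Fact.out : p.Prime).ne_one ho.symm

end Cfsg.Agent.Classical.UnitMult
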