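import Cfsg.Agent.Lib.Classical.UnitMultEngineOdd
import Cfsg.Agent.Lib.Classical.UnitMultSylow
import Cfsg.Agent.Lib.Lie.UniversalCover
import Cfsg.Agent.Lib.Lie.SLTwoMult

/-!
The Schur multiplier of `PSU_n(q)` for `n ≥ 3` outside four exceptions.
-/

set_option autoImplicit false
set_option linter.unusedSectionVars false

namespace Cfsg.Agent.Classical.UnitMult

open Matrix Cfsg.Agent.Classical Cfsg.Agent.Classical.PSUAut Cfsg.Agent.Fus.UnitN

variable {F : Type*} [Field F] [Fintype F] {q n : ℕ}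

/-- A stem extension of `SU_n(q)` is trivial. -/
theorem stem_ker_eq_bot (hF : Fintype.card F = q ^ 2) (hn : 3 ≤ n) (h32 : ¬(n = 3 ∧ q = 2))
    (hexc : ¬(n = 4 ∧ q ≤ 3) ∧ ¬(n = 6 ∧ q = 2)) {E : Type*} [Group E] [Finite E] (π : E →* SU n F q)
    (hπ : Function.Surjective π) (hc : π.ker ≤ Subgroup.center E) (hstem : π.ker ≤ commutator E) :
    π.ker = ⊥ := by
  obtain ⟨p, hp⟩ := CharP.exists F
  obtain ⟨-, hprime, -⟩ := FiniteField.card F p
  haveI : Fact p.Prime := ⟨hprime⟩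
  have C : Coprime p π := ⟨hπ, hc, stem_ker_coprime (p := p) hF ⟨hπ, hc⟩ hn h32 hexc hstem⟩
  have hgen : Subgroup.closure {g : E | IsPElem p g} = ⊤ := by
    set E₀ := Subgroup.closure {g : E | IsPElem p g}
    have hmap : E₀.map π = ⊤ := by
      rw [eq_top_iff, ← closure_pElem (p := p) hF hn h32, Subgroup.closure_le]
      intro g hg
      exact ⟨C.sp g, Subgroup.subset_closure (C.sp_pElem hg), C.π_sp g⟩
    have hle : commutator E ≤ E₀ := by
      rw [commutator_def, Subgroup.commutator_le]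
      intro a _ b _
      obtain ⟨s, hs, hπs⟩ := (hmap.ge (Subgroup.mem_top (π a)) : π a ∈ E₀.map π)
      obtain ⟨t, ht, hπt⟩ := (hmap.ge (Subgroup.mem_top (π b)) : π b ∈ E₀.map π)
      rw [← comm_congr π hc hπs hπt, commutatorElement_def]
      exact mul_mem (mul_mem (mul_mem hs ht) (inv_mem hs)) (inv_mem ht)
    refine eq_top_iff.2 fun a _ => ?_
    obtain ⟨s, hs, hπs⟩ := (hmap.ge (Subgroup.mem_top (π a)) : π a ∈ E₀.map π)
    rw [show a = s * (s⁻¹ * a) by group]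
    refine mul_mem hs (hle (hstem ?_))
    rw [MonoidHom.mem_ker, map_mul, map_inv, hπs, inv_mul_cancel]
  rcases hn.lt_or_eq with h4 | h3
  swap
  · subst h3
    exact su3_ker_eq_bot hF C hgen
  obtain ⟨k, hk⟩ : ∃ k, n / 2 = k + 2 := ⟨n / 2 - 2, by omega⟩
  obtain ⟨ε, hε⟩ : ∃ ε, n % 2 = ε := ⟨_, rfl⟩
  obtain ⟨_, _, e, -, -, -, -⟩ := Lie.UnPres.exists_iso_of hF n (k + 2) ε hk hε
  set π' := e.symm.toMonoidHom.comp π with hπ'
  have hker : π'.ker = π.ker := by
    ext x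
    simp [hπ', MonoidHom.mem_ker]
  have C' : Coprime p π' := ⟨e.symm.surjective.comp hπ, hker ▸ hc, hker ▸ C.cop⟩
  rw [← hker]
  rcases (show ε = 0 ∨ ε = 1 by omega) with rfl | rfl
  · exact even_ker_eq_bot C' hgen
  · exact odd_ker_eq_bot C' hgen

theorem perfect_SU (hF : Fintype.card F = q ^ 2) (hn : 3 ≤ n) (h32 : ¬(n = 3 ∧ q = 2)) :
    commutator (SU n F q) = ⊤ := by
  rw [eq_top_iff, ← Fus.UnitTv.closure_transvections hF hn h32, Subgroup.closure_le]
  rintro A ⟨v, c, hv, hA⟩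
  rw [Fus.UnitTv.ut_eq hF] at hA
  rw [commutator_eq_closure]
  exact Subgroup.subset_closure (Fus.UnitTv.mem_commutatorSet hF hn hv A hA)

theorem isCyclic_center_SU (hF : Fintype.card F = q ^ 2) (hn : 1 ≤ n) :
    IsCyclic (Subgroup.center (SU n F q)) := by
  let Φ : Subgroup.center (SU n F q) →* F :=
    { toFun := fun x => suVal x.1 ⟨0, hn⟩ ⟨0, hn⟩
      map_one' := by simp [suVal]
      map_mul' := fun x y => by
        obtain ⟨c, hc⟩ := suVal_scalar_of_mem_center hF x.2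
        show suVal (x.1 * y.1) _ _ = _
        rw [suVal_mul, hc]
        simp [Matrix.scalar_apply] }
  refine isCyclic_of_subgroup_isDomain Φ fun x y hxy => ?_
  obtain ⟨c, hc⟩ := suVal_scalar_of_mem_center hF x.2
  obtain ⟨d, hd⟩ := suVal_scalar_of_mem_center hF y.2
  refine Subtype.ext (suVal_ext ?_)
  have : suVal x.1 ⟨0, hn⟩ ⟨0, hn⟩ = suVal y.1 ⟨0, hn⟩ ⟨0, hn⟩ := hxy
  rw [hc, hd] at this ⊢
  simp [Matrix.scalar_apply] at this
  rw [this]

theorem hasSchurMultiplier_PSU (hF : Fintype.card F = q ^ 2) (hn : 3 ≤ n) (h32 : ¬(n = 3 ∧ q = 2))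
    (hexc : ¬(n = 4 ∧ q ≤ 3) ∧ ¬(n = 6 ∧ q = 2)) :
    Cfsg.HasCyclicSchurMultiplier (Cfsg.PSU n F q) (Nat.gcd n (q + 1)) := by
  classical
  haveI : Finite (SU n F q) := Subtype.finite
  have hM : Cfsg.HasCyclicSchurMultiplier (SU n F q) 1 :=
    Spor.Mult.trivial_of_forall fun Δ _ _ σ hσ => stem_ker_eq_bot hF hn h32 hexc σ hσ.1 hσ.2.1 hσ.2.2
  haveI := isCyclic_center_SU hF (n := n) (by omega)
  obtain ⟨e⟩ := Lie.SLMult.exists_zmod_equiv_of_cyclic
    (A := Subgroup.center (SU n F q)) (natCard_center_SU (n := n) hF (show 1 ≤ n by omega))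
  exact Lie.SLMult.hasSchurMultiplier_of_cover (suToPSU n F q) (QuotientGroup.mk'_surjective _)
    (QuotientGroup.ker_mk' _).le (perfect_SU hF hn h32) hM
    (e.trans (MulEquiv.subgroupCongr (QuotientGroup.ker_mk' _).symm))

end Cfsg.Agent.Classical.UnitMult
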