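import Mathlib

/-!
# Binary coset actions

A criterion for a coset action not to be binary, and a criterion for it to be binary when the
stabiliser is a TI subgroup with no nontrivial triangle relations.
-/

set_option autoImplicit false

namespace Cfsg.Agent.BinAct

variable {G : Type*} [Group G]

/-- The action on the cosets of `H` is binary. -/
def IsBin (H : Subgroup G) : Prop :=
  ∀ (n : ℕ) (I J : Fin n → G ⧸ H), 2 ≤ n →
    (∀ i j : Fin n, i ≠ j → ∃ g : G, g • I i = J i ∧ g • I j = J j) → ∃ g : G, ∀ i, g • I i = J i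

/-- The stabiliser of a coset. -/
def stab (H : Subgroup G) (a : G) : Subgroup G := H.map (MulAut.conj a).toMonoidHom

theorem mem_stab {H : Subgroup G} {a g : G} : g ∈ stab H a ↔ a⁻¹ * g * a ∈ H := by
  rw [stab, Subgroup.mem_map_equiv, MulAut.conj_symm_apply]

theorem smul_mk_eq_iff {H : Subgroup G} {g a b : G} :
    g • (QuotientGroup.mk a : G ⧸ H) = QuotientGroup.mk b ↔ b⁻¹ * g * a ∈ H := by
  rw [MulAction.Quotient.smul_mk, smul_eq_mul, eq_comm, QuotientGroup.eq, mul_assoc]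

theorem smul_mk_self_iff {H : Subgroup G} {g a : G} :
    g • (QuotientGroup.mk a : G ⧸ H) = QuotientGroup.mk a ↔ g ∈ stab H a := by
  rw [smul_mk_eq_iff, mem_stab]

/-- A triple of cosets witnessing that the action is not binary. -/
theorem not_isBin {H : Subgroup G} (a b h x y : G) (hh : h ∈ H) (hx : x ∈ H) (hy : y ∈ H)
    (he : h = (a * x * a⁻¹) * (b * y * b⁻¹))
    (hno : ∀ d e, d ∈ H → d ∈ stab H a → e ∈ H → e ∈ stab H b → h ≠ d * e) : ¬ IsBin H := by
  intro hb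
  let I : Fin 3 → G ⧸ H := ![QuotientGroup.mk 1, QuotientGroup.mk a, QuotientGroup.mk b]
  let J : Fin 3 → G ⧸ H := ![QuotientGroup.mk 1, QuotientGroup.mk a, QuotientGroup.mk (h * b)]
  have p01 : ∃ g : G, g • I 0 = J 0 ∧ g • I 1 = J 1 := ⟨1, one_smul _ _, one_smul _ _⟩
  have p02 : ∃ g : G, g • I 0 = J 0 ∧ g • I 2 = J 2 :=
    ⟨h, smul_mk_eq_iff.2 (by simpa using hh), rfl⟩
  have p12 : ∃ g : G, g • I 1 = J 1 ∧ g • I 2 = J 2 := by
    refine ⟨a * x * a⁻¹, smul_mk_eq_iff.2 (by simpa [mul_assoc] using hx), smul_mk_eq_iff.2 ?_⟩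
    rw [he, show ((a * x * a⁻¹) * (b * y * b⁻¹) * b)⁻¹ * (a * x * a⁻¹) * b = y⁻¹ by group]
    exact inv_mem hy
  have sym : ∀ {i j : Fin 3}, (∃ g : G, g • I i = J i ∧ g • I j = J j) →
      ∃ g : G, g • I j = J j ∧ g • I i = J i := fun ⟨g, h1, h2⟩ => ⟨g, h2, h1⟩
  obtain ⟨g, hg⟩ := hb 3 I J (by norm_num) (fun i j hij => by
    fin_cases i <;> fin_cases j <;>
      first | exact absurd rfl hij | exact p01 | exact p02 | exact p12 | exact sym p01 | exact sym p02 | exact sym p12)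
  have h0 : g ∈ H := by
    have := smul_mk_eq_iff.1 (hg 0)
    simpa using this
  have h1 : g ∈ stab H a := smul_mk_self_iff.1 (hg 1)
  have h2 : b⁻¹ * (h⁻¹ * g) * b ∈ H := by
    have := smul_mk_eq_iff.1 (hg 2)
    simpa [mul_assoc] using this
  refine hno g (g⁻¹ * h) h0 h1 (mul_mem (inv_mem h0) hh) ?_ (mul_inv_cancel_left g h).symm
  rw [mem_stab, show b⁻¹ * (g⁻¹ * h) * b = (b⁻¹ * (h⁻¹ * g) * b)⁻¹ by group]
  exact inv_mem h2

/-- The case where the stabiliser of the second coset meets `H` inside that of the third. -/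
theorem not_isBin_of_le {H : Subgroup G} (a k x y : G) (hx : x ∈ H) (hy : y ∈ H)
    (hh : (a * x * a⁻¹) * (k * y * k⁻¹) ∈ H) (hD : ∀ g ∈ H, g ∈ stab H a → g ∈ stab H k)
    (hn : a * x * a⁻¹ ∉ stab H k) : ¬ IsBin H := by
  refine not_isBin a k _ x y hh hx hy rfl fun d e hd hda he hek heq => hn ?_
  have h1 : (a * x * a⁻¹) * (k * y * k⁻¹) ∈ stab H k := heq ▸ mul_mem (hD d hd hda) hek
  have h2 : k * y * k⁻¹ ∈ stab H k := by rw [mem_stab]; simpa [mul_assoc] using hy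
  exact (Subgroup.mul_mem_cancel_right _ h2).1 h1

theorem stab_mul (H : Subgroup G) (c a : G) {x : G} :
    x ∈ stab H (c * a) ↔ c⁻¹ * x * c ∈ stab H a := by
  simp only [mem_stab, _root_.mul_inv_rev, mul_assoc]

/-- A TI subgroup without triangle relations gives a binary action. -/
theorem isBin_of_triangle {H : Subgroup G}
    (hTI : ∀ a b : G, stab H a ≠ stab H b → stab H a ⊓ stab H b = ⊥)
    (htri : ∀ a b c : G, stab H a ≠ stab H b → stab H a ≠ stab H c → stab H b ≠ stab H c →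
      ∀ x ∈ stab H b, ∀ y ∈ stab H c, x * y ∈ stab H a → x * y = 1) : IsBin H := by
  intro n I J hn hp
  have hrep : ∀ c : G ⧸ H, ∃ a : G, (QuotientGroup.mk a : G ⧸ H) = c := QuotientGroup.mk_surjective
  choose r hr using hrep
  set p : Fin n → G := fun i => r (I i) with hpdef
  have hI : ∀ i, I i = QuotientGroup.mk (p i) := fun i => (hr (I i)).symm
  let i₀ : Fin n := ⟨0, by omega⟩
  obtain ⟨g₀, hg₀⟩ : ∃ g : G, g • I i₀ = J i₀ := by
    obtain ⟨g, hg, -⟩ := hp i₀ ⟨1, by omega⟩ (by simp [i₀, Fin.ext_iff])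
    exact ⟨g, hg⟩
  have key : ∀ i, ∃ h ∈ stab H (p i₀), g₀ • h • I i = J i := by
    intro i
    by_cases hi : i = i₀
    · subst hi
      exact ⟨1, one_mem _, by rw [one_smul, hg₀]⟩
    obtain ⟨g, h1, h2⟩ := hp i₀ i (Ne.symm hi)
    refine ⟨g₀⁻¹ * g, smul_mk_self_iff.1 ?_, ?_⟩
    · rw [← hI, mul_smul, h1, ← hg₀, inv_smul_smul]
    · rw [← mul_smul, mul_inv_cancel_left, h2]
  choose hel hel0 hel1 using key
  have hfix : ∀ i, stab H (p i) = stab H (p i₀) → ∀ h ∈ stab H (p i₀), h • I i = I i := fun i e h hh => by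
    rw [hI, smul_mk_self_iff, e]; exact hh
  by_cases hall : ∀ i, stab H (p i) = stab H (p i₀)
  · refine ⟨g₀, fun i => ?_⟩
    rw [← hel1 i, hfix i (hall i) _ (hel0 i)]
  push Not at hall
  obtain ⟨i₁, hi₁⟩ := hall
  refine ⟨g₀ * hel i₁, fun i => ?_⟩
  rw [mul_smul]
  by_cases hi : stab H (p i) = stab H (p i₀)
  · rw [hfix i hi _ (hel0 i₁), ← hel1 i, hfix i hi _ (hel0 i)]
  by_cases hii : i = i₁
  · subst hii; exact hel1 i
  obtain ⟨g, h1, h2⟩ := hp i₁ i (Ne.symm hii)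
  have e1 : (hel i₁)⁻¹ * (g₀⁻¹ * g) ∈ stab H (p i₁) := smul_mk_self_iff.1 (by
    rw [← hI, mul_smul, mul_smul, h1, ← hel1 i₁, inv_smul_smul, inv_smul_smul])
  have e2 : (hel i)⁻¹ * (g₀⁻¹ * g) ∈ stab H (p i) := smul_mk_self_iff.1 (by
    rw [← hI, mul_smul, mul_smul, h2, ← hel1 i, inv_smul_smul, inv_smul_smul])
  have e0 : (hel i)⁻¹ * hel i₁ ∈ stab H (p i₀) := mul_mem (inv_mem (hel0 i)) (hel0 i₁)
  have e12 : ((hel i)⁻¹ * (g₀⁻¹ * g)) * ((hel i₁)⁻¹ * (g₀⁻¹ * g))⁻¹ = (hel i)⁻¹ * hel i₁ := by group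
  have heq : (hel i)⁻¹ * hel i₁ = 1 := by
    by_cases hsame : stab H (p i) = stab H (p i₁)
    · have hmem : (hel i)⁻¹ * hel i₁ ∈ stab H (p i₀) ⊓ stab H (p i₁) :=
        Subgroup.mem_inf.2 ⟨e0, e12 ▸ mul_mem (hsame ▸ e2) (inv_mem e1)⟩
      rwa [hTI _ _ (Ne.symm hi₁), Subgroup.mem_bot] at hmem
    · rw [← e12]
      exact htri (p i₀) (p i) (p i₁) (Ne.symm hi) (Ne.symm hi₁) hsame _ e2 _ (inv_mem e1) (e12 ▸ e0)
  rw [← inv_mul_eq_one.1 heq]
  exact hel1 i

/-- Binarity is preserved by isomorphisms. -/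
theorem isBin_map {G' : Type*} [Group G'] (e : G ≃* G') {H : Subgroup G} (hb : IsBin H) :
    IsBin (H.map e.toMonoidHom) := by
  intro n I J hn hp
  let f : G ⧸ H → G' ⧸ H.map e.toMonoidHom :=
    Quotient.map' e (fun a b hab => by
      rw [QuotientGroup.leftRel_apply] at hab ⊢
      exact ⟨a⁻¹ * b, hab, by simp⟩)
  have hf : ∀ a : G, f (QuotientGroup.mk a) = QuotientGroup.mk (e a) := fun a => rfl
  have hsm : ∀ (g : G) (c : G ⧸ H), f (g • c) = e g • f c := by
    intro g c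
    obtain ⟨a, rfl⟩ := QuotientGroup.mk_surjective c
    rw [MulAction.Quotient.smul_mk, hf, hf, MulAction.Quotient.smul_mk, smul_eq_mul, smul_eq_mul, map_mul]
  have hinj : Function.Injective f := by
    intro c d hcd
    obtain ⟨a, rfl⟩ := QuotientGroup.mk_surjective c
    obtain ⟨b, rfl⟩ := QuotientGroup.mk_surjective d
    rw [hf, hf, QuotientGroup.eq] at hcd
    obtain ⟨z, hz, hze⟩ := hcd
    rw [QuotientGroup.eq]
    have hze' : e z = e (a⁻¹ * b) := by rw [map_mul, map_inv]; exact hze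
    rw [← e.injective hze']; exact hz
  have hsurj : Function.Surjective f := fun c => by
    obtain ⟨a, rfl⟩ := QuotientGroup.mk_surjective c
    obtain ⟨b, rfl⟩ := e.surjective a
    exact ⟨QuotientGroup.mk b, hf b⟩
  choose I' hI' using fun i => hsurj (I i)
  choose J' hJ' using fun i => hsurj (J i)
  obtain ⟨g, hg⟩ := hb n I' J' hn (fun i j hij => by
    obtain ⟨g, h1, h2⟩ := hp i j hij
    obtain ⟨g', rfl⟩ := e.surjective g
    exact ⟨g', hinj (by rw [hsm, hI', hJ', h1]), hinj (by rw [hsm, hI', hJ', h2])⟩)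
  exact ⟨e g, fun i => by rw [← hI' i, ← hJ' i, ← hsm, hg i]⟩

theorem isBin_map_iff {G' : Type*} [Group G'] (e : G ≃* G') (H : Subgroup G) :
    IsBin (H.map e.toMonoidHom) ↔ IsBin H := by
  refine ⟨fun h => ?_, isBin_map e⟩
  have h' := isBin_map e.symm h
  rwa [Subgroup.map_map, show e.symm.toMonoidHom.comp e.toMonoidHom = MonoidHom.id G from
    MonoidHom.ext e.symm_apply_apply, Subgroup.map_id] at h'

theorem isBin_conj_iff (H : Subgroup G) (c : G) :
    IsBin (H.map (MulAut.conj c).toMonoidHom) ↔ IsBin H :=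
  isBin_map_iff (MulAut.conj c) H

theorem isBin_bot : IsBin (⊥ : Subgroup G) := by
  refine isBin_of_triangle (fun a b h => absurd (by simp [stab]) h) fun a b c h => absurd (by simp [stab]) h

end Cfsg.Agent.BinAct
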