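import Mathlib
import Cfsg.Agent.Lib.Classical.BinaryAction

/-!
Suborbits of binary coset actions, a certificate criterion for the failure of binarity, and the
failure of binarity for actions inducing all even permutations of the points.
-/

set_option autoImplicit false

namespace Cfsg.Agent.BinAct

variable {G : Type*} [Group G]

/-- The action of the stabiliser on each suborbit of a binary action is binary. -/
theorem isBin_suborbit {H : Subgroup G} (hb : IsBin H) (g : G) :
    IsBin ((stab H g).subgroupOf H) := by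
  set K := (stab H g).subgroupOf H with hK
  intro n I J hn hp
  let f : ↥H ⧸ K → G ⧸ H :=
    Quotient.map' (fun r : ↥H => (r : G) * g) (fun r s hrs => by
      rw [QuotientGroup.leftRel_apply] at hrs ⊢
      rw [hK, Subgroup.mem_subgroupOf, mem_stab] at hrs
      simpa [mul_assoc] using hrs)
  have hf : ∀ r : ↥H, f (QuotientGroup.mk r) = QuotientGroup.mk ((r : G) * g) := fun r => rfl
  have hsm : ∀ (r : ↥H) (c : ↥H ⧸ K), f (r • c) = (r : G) • f c := by
    intro r c
    obtain ⟨s, rfl⟩ := QuotientGroup.mk_surjective c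
    rw [MulAction.Quotient.smul_mk, hf, hf, MulAction.Quotient.smul_mk, smul_eq_mul, smul_eq_mul,
      Subgroup.coe_mul, mul_assoc]
  have hinj : Function.Injective f := by
    intro c d hcd
    obtain ⟨r, rfl⟩ := QuotientGroup.mk_surjective c
    obtain ⟨s, rfl⟩ := QuotientGroup.mk_surjective d
    rw [hf, hf, QuotientGroup.eq] at hcd
    rw [QuotientGroup.eq, hK, Subgroup.mem_subgroupOf, mem_stab]
    simpa [mul_assoc] using hcd
  let P : G ⧸ H := QuotientGroup.mk 1
  have hP : ∀ r : ↥H, (r : G) • P = P := fun r => smul_mk_eq_iff.2 (by simp)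
  let I' : Fin (n + 1) → G ⧸ H := Fin.cons P fun i => f (I i)
  let J' : Fin (n + 1) → G ⧸ H := Fin.cons P fun i => f (J i)
  have h0 : ∀ i : Fin n, ∃ r : ↥H, r • I i = J i := fun i => by
    obtain ⟨j, hj⟩ : ∃ j : Fin n, i ≠ j := by
      haveI : Nontrivial (Fin n) := Fin.nontrivial_iff_two_le.2 hn
      obtain ⟨j, hj⟩ := exists_ne i
      exact ⟨j, Ne.symm hj⟩
    obtain ⟨r, h1, -⟩ := hp i j hj
    exact ⟨r, h1⟩
  obtain ⟨u, hu⟩ := hb (n + 1) I' J' (by omega) (fun i j hij => by
    induction i using Fin.cases with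
    | zero =>
      induction j using Fin.cases with
      | zero => exact absurd rfl hij
      | succ j =>
        obtain ⟨r, hr⟩ := h0 j
        exact ⟨r, hP r, by simp only [I', J', Fin.cons_succ]; rw [← hsm, hr]⟩
    | succ i =>
      induction j using Fin.cases with
      | zero =>
        obtain ⟨r, hr⟩ := h0 i
        exact ⟨r, by simp only [I', J', Fin.cons_succ]; rw [← hsm, hr], hP r⟩
      | succ j =>
        obtain ⟨r, h1, h2⟩ := hp i j (fun e => hij (by rw [e]))
        refine ⟨r, ?_, ?_⟩ <;> simp only [I', J', Fin.cons_succ] <;> rw [← hsm]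
        · rw [h1]
        · rw [h2])
  have huH : u ∈ H := by
    have h : u • P = P := hu 0
    simpa [P, mem_stab] using smul_mk_self_iff.1 h
  refine ⟨⟨u, huH⟩, fun i => hinj ?_⟩
  rw [hsm]
  exact hu i.succ

/-- A suborbit on which the stabiliser is not binary. -/
theorem not_isBin_of_suborbit {H : Subgroup G} {T : Type*} [Group T] (e : ↥H ≃* T) (g : G)
    (h : ¬ IsBin (((stab H g).subgroupOf H).map e.toMonoidHom)) : ¬ IsBin H :=
  fun hb => h ((isBin_map_iff e _).2 (isBin_suborbit hb g))

theorem mem_suborbit {H : Subgroup G} {T : Type*} [Group T] (e : ↥H ≃* T) {g : G} {r : ↥H} :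
    e r ∈ ((stab H g).subgroupOf H).map e.toMonoidHom ↔ g⁻¹ * (r : G) * g ∈ H := by
  rw [← mem_stab, ← Subgroup.mem_subgroupOf]
  exact Subgroup.mem_map_iff_mem e.injective

/-- The value of a word in a list of elements. -/
def wordVal (gens : List G) (w : List ℕ) : G := (w.map fun i => gens.getD i 1).prod

theorem wordVal_mem {K : Subgroup G} {gens : List G} (h : ∀ z ∈ gens, z ∈ K) (w : List ℕ) :
    wordVal gens w ∈ K := by
  refine K.list_prod_mem fun z hz => ?_
  obtain ⟨i, -, rfl⟩ := List.mem_map.1 hz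
  rcases lt_or_ge i gens.length with hi | hi
  · rw [List.getD_eq_getElem _ _ hi]
    exact h _ (List.getElem_mem hi)
  · rw [List.getD_eq_default _ _ hi]
    exact one_mem K

/-- Words which would put a forbidden element in the stabiliser show the action is not binary. -/
theorem not_isBin_cert {K : Subgroup G} (a b h x y : G) (he : h = (a * x * a⁻¹) * (b * y * b⁻¹))
    (base forb : List G) (hbase : ∀ z ∈ base, z ∈ K) (hforb : ∀ z ∈ forb, z ∉ K)
    (hh : h ∈ K) (hx : x ∈ K) (hy : y ∈ K) (W : List (List ℕ))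
    (cert : ∀ d : G, ∃ w ∈ W,
      wordVal (base ++ [d, a⁻¹ * d * a, d⁻¹ * h, b⁻¹ * (d⁻¹ * h) * b]) w ∈ forb) : ¬ IsBin K := by
  refine not_isBin a b h x y hh hx hy he fun d e hd hda he' heb hde => ?_
  have hedef : e = d⁻¹ * h := by rw [hde, inv_mul_cancel_left]
  obtain ⟨w, -, hw⟩ := cert d
  refine hforb _ hw (wordVal_mem (fun z hz => ?_) w)
  rcases List.mem_append.1 hz with hz | hz
  · exact hbase z hz
  · simp only [List.mem_cons, List.not_mem_nil, or_false] at hz
    rcases hz with rfl | rfl | rfl | rfl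
    · exact hd
    · exact mem_stab.1 hda
    · exact hedef ▸ he'
    · exact hedef ▸ mem_stab.1 heb

/-- An action inducing all even permutations of at least six points is not binary. -/
theorem not_isBin_of_alternating [Finite G] {H : Subgroup G} (h6 : 6 ≤ H.index)
    (hinj : Function.Injective (MulAction.toPermHom G (G ⧸ H)))
    (hcard : 2 * Nat.card G = H.index.factorial) : ¬ IsBin H := by
  classical
  haveI : Fintype (G ⧸ H) := Fintype.ofFinite _
  set φ := MulAction.toPermHom G (G ⧸ H)
  have hN : Fintype.card (G ⧸ H) = H.index := by rw [← Nat.card_eq_fintype_card]; rfl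
  haveI : Nontrivial (G ⧸ H) := Fintype.one_lt_card_iff_nontrivial.1 (by omega)
  have hidx : φ.range.index = 2 := by
    have h := Subgroup.card_mul_index φ.range
    rw [← Nat.card_congr (MonoidHom.ofInjective hinj).toEquiv, Nat.card_perm, ← Subgroup.index_eq_card,
      ← hcard, mul_comm] at h
    exact Nat.eq_of_mul_eq_mul_right Nat.card_pos h
  have hr : φ.range = alternatingGroup (G ⧸ H) := Equiv.Perm.eq_alternatingGroup_of_index_eq_two hidx
  intro hb
  let E : Fin H.index ≃ G ⧸ H := (Fintype.equivFinOfCardEq hN).symm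
  obtain ⟨p0, p1, hp01⟩ := exists_pair_ne (G ⧸ H)
  obtain ⟨u, hu⟩ := hb H.index E (fun i => Equiv.swap p0 p1 (E i)) (by omega) (fun i j hij => by
    obtain ⟨k, hk, l, hl, hkl⟩ : ∃ k ∈ (Finset.univ \ {p0, p1, E i, E j} : Finset (G ⧸ H)),
        ∃ l ∈ (Finset.univ \ {p0, p1, E i, E j} : Finset (G ⧸ H)), k ≠ l := by
      refine Finset.one_lt_card.1 ?_
      rw [Finset.card_sdiff, Finset.inter_univ, Finset.card_univ, hN]
      have : ({p0, p1, E i, E j} : Finset (G ⧸ H)).card ≤ 4 := Finset.card_le_four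
      omega
    simp only [Finset.mem_sdiff, Finset.mem_univ, true_and, Finset.mem_insert, Finset.mem_singleton,
      not_or] at hk hl
    obtain ⟨u, hu⟩ : Equiv.swap p0 p1 * Equiv.swap k l ∈ φ.range := by
      rw [hr, Equiv.Perm.mem_alternatingGroup, map_mul, Equiv.Perm.sign_swap hp01, Equiv.Perm.sign_swap hkl]
      rfl
    refine ⟨u, ?_, ?_⟩
    · show φ u (E i) = _
      rw [hu, Equiv.Perm.mul_apply, Equiv.swap_apply_of_ne_of_ne (Ne.symm hk.2.2.1) (Ne.symm hl.2.2.1)]
    · show φ u (E j) = _
      rw [hu, Equiv.Perm.mul_apply, Equiv.swap_apply_of_ne_of_ne (Ne.symm hk.2.2.2) (Ne.symm hl.2.2.2)])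
  have hφ : φ u = Equiv.swap p0 p1 := Equiv.ext fun c => by
    obtain ⟨i, rfl⟩ := E.surjective c
    exact hu i
  have : Equiv.swap p0 p1 ∈ alternatingGroup (G ⧸ H) := hr ▸ ⟨u, hφ⟩
  rw [Equiv.Perm.mem_alternatingGroup, Equiv.Perm.sign_swap hp01] at this
  exact absurd this (by decide)

end Cfsg.Agent.BinAct
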