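import Mathlib
import Cfsg.Agent.Lib.Classical.DicksonMain
import Cfsg.Agent.Lib.Classical.DicksonTraces
import Cfsg.Agent.Lib.Classical.DicksonExceptional

/-!
Products of conjugacy classes of `PSL(2, q)` through traces.
-/

set_option autoImplicit false

namespace Cfsg.Agent.Dickson.ClassProd

open Matrix Cfsg.Agent.Grp.SL2 Cfsg.Agent.PSL2Spec Cfsg.Agent.Dickson

variable {F : Type*} [Field F]

local notation "SL₂" => Matrix.SpecialLinearGroup (Fin 2) F
local notation "PSL₂" => Matrix.ProjectiveSpecialLinearGroup (Fin 2) F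
local notation "M₂" => Matrix (Fin 2) (Fin 2) F
local notation "cj" => Cfsg.Agent.Grp.SL2.conjHom

theorem exists_frame' {X : SL₂} (hX : ¬ IsScalar X) : ∃ v, (Traces.frame (X : M₂) v).det ≠ 0 := by
  by_contra hc
  push Not at hc
  have h0 := hc ![1, 0]
  have h1 := hc ![0, 1]
  have h2 := hc ![1, 1]
  simp only [Traces.frame, Matrix.det_fin_two_of, Matrix.mulVec, dotProduct, Fin.sum_univ_two, Matrix.cons_val_zero,
    Matrix.cons_val_one, one_mul, zero_mul, mul_zero, mul_one, add_zero, zero_add, sub_zero, zero_sub,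
    neg_eq_zero] at h0 h1 h2
  rw [h0, h1] at h2
  refine hX (isScalar_of_diag h1 h0 ?_)
  linear_combination -h2

theorem comp_eq (X : SL₂) : Traces.comp (X : M₂) = !![0, -1; 1, tr X] := by
  simp [Traces.comp, Matrix.trace_fin_two, tr]

/-- The lower left entry of a non-scalar element is non-zero in some conjugate. -/
theorem exists_conj_lower {X : SL₂} (hX : ¬ IsScalar X) : ∃ g : SL₂, (g * X * g⁻¹).1 1 0 ≠ 0 := by
  by_cases h10 : X.1 1 0 = 0
  · by_cases h01 : X.1 0 1 = 0
    · refine ⟨low 1, ?_⟩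
      rw [Matrix.SpecialLinearGroup.coe_mul, Matrix.SpecialLinearGroup.coe_mul, Matrix.SpecialLinearGroup.coe_inv]
      simp [low, Matrix.adjugate_fin_two, Matrix.mul_apply, Matrix.vecMul, dotProduct, Fin.sum_univ_two, h10, h01]
      exact fun e => hX (isScalar_of_diag h01 h10 (by linear_combination e))
    · obtain ⟨w, hw⟩ : ∃ w : SL₂, (w : M₂) = !![0, -1; 1, 0] :=
        ⟨⟨!![0, -1; 1, 0], by simp [Matrix.det_fin_two]⟩, rfl⟩
      refine ⟨w, ?_⟩
      rw [Matrix.SpecialLinearGroup.coe_mul, Matrix.SpecialLinearGroup.coe_mul, Matrix.SpecialLinearGroup.coe_inv]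
      simp [hw, Matrix.adjugate_fin_two, Matrix.mul_apply, Matrix.vecMul, dotProduct, Fin.sum_univ_two, h01]
  · exact ⟨1, by simpa using h10⟩

variable [Fintype F]

theorem tr_eq_of_proj_eq {x y : SL₂} (h : proj x = proj y) : tr y = tr x ∨ tr y = -tr x := by
  rcases proj_eq_iff.mp h with e | e <;> subst e
  · exact Or.inl rfl
  · exact Or.inr (tr_neg x)


theorem quad_image (hodd : Fintype.card F % 2 = 1) {k : F} (hk : k ≠ 0) (l m : F) :
    ∃ u b : F, u * u = k * (b * b) + l * b + m := by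
  obtain ⟨u, b, h⟩ := FiniteField.exists_root_sum_quadratic (R := F) (f := Polynomial.X ^ 2)
    (g := Polynomial.C (-k) * Polynomial.X ^ 2 + Polynomial.C (-l) * Polynomial.X + Polynomial.C (-m))
    (Polynomial.degree_X_pow 2) (Polynomial.degree_quadratic (neg_ne_zero.mpr hk)) hodd
  refine ⟨u, b, ?_⟩
  simp at h
  linear_combination h

theorem exists_sqrt [CharP F 2] (d : F) : ∃ s : F, s * s = d := by
  obtain ⟨s, hs⟩ := FiniteField.isSquare_of_char_two (ringChar.eq F 2) d
  exact ⟨s, hs.symm⟩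

theorem two_eq_zero_or (F : Type*) [Field F] [Fintype F] :
    CharP F 2 ∨ ((2 : F) ≠ 0 ∧ Fintype.card F % 2 = 1) := by
  by_cases h : ringChar F = 2
  · exact Or.inl (h ▸ ringChar.charP F)
  · exact Or.inr ⟨Ring.two_ne_zero h, FiniteField.odd_card_of_char_ne_two h⟩

/-- The norm form of a non-parabolic element takes every value. -/
theorem exists_norm_form {t : F} (ht : t ^ 2 ≠ 4) (d : F) : ∃ a b : F, a * a + t * a * b + b * b = d := by
  rcases two_eq_zero_or F with h | ⟨h2, hodd⟩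
  · obtain ⟨s, hs⟩ := exists_sqrt d
    exact ⟨s, 0, by linear_combination hs⟩
  · obtain ⟨u, b, h⟩ := quad_image hodd (k := (t ^ 2 - 4) / 4)
      (div_ne_zero (sub_ne_zero.mpr ht) (by rw [show (4 : F) = 2 * 2 by norm_num]; exact mul_ne_zero h2 h2)) 0 d
    refine ⟨u - t * b / 2, b, ?_⟩
    have h4 : (4 : F) ≠ 0 := by rw [show (4 : F) = 2 * 2 by norm_num]; exact mul_ne_zero h2 h2
    field_simp at h ⊢
    linear_combination h

/-- Non-parabolic elements with equal traces are conjugate in `SL(2, F)`. -/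
theorem isConj_of_tr {X Y : SL₂} (ht : tr X = tr Y) (h4 : tr X ^ 2 ≠ 4) : IsConj Y X := by
  have hns : ∀ Z : SL₂, tr Z ^ 2 ≠ 4 → ¬ IsScalar Z := by
    rintro Z hZ (rfl | rfl)
    · exact hZ (by rw [tr_one]; norm_num)
    · exact hZ (by rw [tr_neg, tr_one]; norm_num)
  obtain ⟨v, hv⟩ := exists_frame' (hns X h4)
  obtain ⟨w, hw⟩ := exists_frame' (hns Y (ht ▸ h4))
  set A := Traces.frame (X : M₂) v with hA
  set B := Traces.frame (Y : M₂) w with hB
  have hBu : IsUnit B.det := isUnit_iff_ne_zero.mpr hw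
  set P := A * B⁻¹ with hP
  have hXP : (X : M₂) * P = P * Y := by
    have e1 := Traces.mul_frame (X : M₂) v
    have e2 := Traces.mul_frame (Y : M₂) w
    rw [comp_eq, ← hA] at e1
    rw [comp_eq, ← hB] at e2
    have e3 : B⁻¹ * (Y : M₂) = !![0, -1; 1, tr Y] * B⁻¹ := by
      have := congrArg (fun M => B⁻¹ * M * B⁻¹) e2
      simp only [Matrix.mul_assoc, Matrix.mul_nonsing_inv _ hBu, mul_one] at this
      rwa [Matrix.nonsing_inv_mul_cancel_left _ _ hBu] at this
    rw [hP, ← Matrix.mul_assoc, e1, Matrix.mul_assoc, Matrix.mul_assoc, e3, ← ht]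
  have hdP : P.det ≠ 0 := by
    rw [hP, Matrix.det_mul]
    exact mul_ne_zero hv (isUnit_iff_ne_zero.mp (Matrix.isUnit_nonsing_inv_det _ hBu))
  obtain ⟨a, b, hab⟩ := exists_norm_form h4 (P.det)⁻¹
  set U : M₂ := a • (1 : M₂) + b • (X : M₂) with hU
  have hUd : U.det = P.det⁻¹ := by
    rw [← hab, hU]
    have d := det_eq X
    simp [Matrix.det_fin_two, tr]
    linear_combination b ^ 2 * d
  let Q : SL₂ := ⟨U * P, by rw [Matrix.det_mul, hUd, inv_mul_cancel₀ hdP]⟩
  refine isConj_iff.mpr ⟨Q, ?_⟩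
  rw [mul_inv_eq_iff_eq_mul]
  refine Subtype.ext ?_
  show U * P * (Y : M₂) = (X : M₂) * (U * P)
  have hUX : (X : M₂) * U = U * X := by simp [hU, add_mul, mul_add]
  clear_value P U
  rw [Matrix.mul_assoc, ← hXP, ← Matrix.mul_assoc, ← Matrix.mul_assoc, hUX]

theorem isConj_proj {X Y : SL₂} {α : F} (hX : tr X = α) (h4 : α ^ 2 ≠ 4) (hY : tr Y = α ∨ tr Y = -α) :
    IsConj (proj X) (proj Y) := by
  rcases hY with h | h
  · exact MonoidHom.map_isConj proj (isConj_of_tr (h.trans hX.symm) (h ▸ h4))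
  · rw [← proj_neg Y]
    refine MonoidHom.map_isConj proj (isConj_of_tr ?_ ?_) <;> rw [tr_neg, h, neg_neg]
    · exact hX.symm
    · exact h4

/-- A companion matrix is a product of two elements of trace `α`, up to sign. -/
theorem exists_conic {t α : F} (hα : α ≠ 0)
    (hroot : CharP F 2 → t = 0 → ∃ u : F, u * u + α * u + 1 = 0) :
    ∃ a b β : F, (β = α ∨ β = -α) ∧ a * a - t * a * b + b * b - α * a + β * b + 1 = 0 := by
  rcases two_eq_zero_or F with h | ⟨h2, hodd⟩
  · have z : (2 : F) = 0 := CharTwo.two_eq_zero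
    by_cases ht : t = 0
    · obtain ⟨u, hu⟩ := hroot h ht
      exact ⟨u, 0, α, Or.inl rfl, by linear_combination hu - α * u * z⟩
    · obtain ⟨s, hs⟩ := exists_sqrt ((α / t) ^ 2 + α * (α / t) + 1)
      refine ⟨s, α / t, α, Or.inl rfl, ?_⟩
      have e : t * (α / t) = α := by field_simp
      linear_combination hs - s * e + ((α / t) ^ 2 + α * (α / t) + 1 - α * s) * z
  · by_cases ht : t ^ 2 = 4
    · have hε : (t / 2) ^ 2 = 1 := by
        field_simp; linear_combination ht
      set ε := t / 2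
      have hte : t = 2 * ε := by simp [ε]; field_simp
      have hε0 : ε ≠ 0 := fun e => by rw [e] at hε; simp at hε
      refine ⟨ε * (1 / (2 * α * ε)), 1 / (2 * α * ε), -(α * ε), ?_, ?_⟩
      · rcases mul_self_eq_one_iff.mp ((pow_two ε).symm.trans hε) with e | e <;> rw [e] <;> simp
      · rw [hte]
        have hne : 2 * α * ε ≠ 0 := mul_ne_zero (mul_ne_zero h2 hα) hε0
        field_simp
        linear_combination (1 - ε ^ 2) * 0 + (-(1 : F)) * hε + 0
    · obtain ⟨u, b, hu⟩ := quad_image hodd (k := t ^ 2 - 4) (sub_ne_zero.mpr ht) (2 * t * α - 4 * α)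
        (α ^ 2 - 4)
      refine ⟨(u + t * b + α) / 2, b, α, Or.inl rfl, ?_⟩
      field_simp
      linear_combination hu

theorem isScalar_cases {G : SL₂} {g : PSL₂} (h : proj G = g) (hg : g ≠ 1) : ¬ IsScalar G :=
  fun e => hg (h ▸ proj_one_iff.mpr e)

/-- Every non-trivial element is a product of two conjugates of a non-parabolic element. -/
theorem cover {X : SL₂} (hα : tr X ≠ 0) (h4 : tr X ^ 2 ≠ 4)
    (hroot : CharP F 2 → ∃ u : F, u * u + tr X * u + 1 = 0) (g : PSL₂) (hg : g ≠ 1) :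
    ∃ u v : PSL₂, g = (u * proj X * u⁻¹) * (v * proj X * v⁻¹) := by
  obtain ⟨G, rfl⟩ := proj_surjective g
  obtain ⟨w, hw⟩ := exists_frame' (fun e => hg (proj_one_iff.mpr e) : ¬ IsScalar G)
  set P := Traces.frame (G : M₂) w
  have hP : IsUnit P.det := isUnit_iff_ne_zero.mpr hw
  set t := tr G with ht
  set α := tr X with hα'
  obtain ⟨a, b, β, hβ, hab⟩ := exists_conic (t := t) hα (fun h _ => hroot h)
  obtain ⟨C, hC⟩ : ∃ C : SL₂, (C : M₂) = !![0, -1; 1, t] :=
    ⟨⟨!![0, -1; 1, t], by simp [Matrix.det_fin_two]⟩, rfl⟩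
  obtain ⟨Y₀, hY₀⟩ : ∃ Y : SL₂, (Y : M₂) = !![a, b; β + b - a * t, α - a] :=
    ⟨⟨!![a, b; β + b - a * t, α - a], by rw [Matrix.det_fin_two_of]; linear_combination -hab⟩, rfl⟩
  have hG : cj P hP C = G := by
    rw [conjHom_eq_iff, hC, ← comp_eq G, ← Traces.mul_frame]
  have h1 : tr (cj P hP Y₀) = α := by
    rw [tr_conjHom]; simp [tr, hY₀]
  have h2 : tr ((cj P hP Y₀)⁻¹ * G) = β := by
    rw [← hG, ← map_inv, ← map_mul, tr_conjHom, ← tr_eq_trace, Matrix.SpecialLinearGroup.coe_mul,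
      Matrix.SpecialLinearGroup.coe_inv, hY₀, hC]
    simp [Matrix.trace_fin_two, Matrix.adjugate_fin_two, Matrix.mul_apply, Fin.sum_univ_two]
  obtain ⟨u, hu⟩ := isConj_iff.mp (isConj_proj hα'.symm h4 (Or.inl h1))
  obtain ⟨v, hv⟩ := isConj_iff.mp (isConj_proj hα'.symm h4 (h2 ▸ hβ))
  exact ⟨u, v, by rw [hu, hv, ← map_mul, mul_inv_cancel_left]⟩

theorem cover_of_order {p : ℕ} [hp : Fact p.Prime] [CharP F p] {x : PSL₂} (hx2 : 2 < orderOf x)
    (hxp : ¬ p ∣ orderOf x) {X : SL₂} (hX : proj X = x) : tr X ≠ 0 ∧ tr X ^ 2 ≠ 4 := by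
  have hns : ¬ IsScalar X := fun e => by rw [← hX, proj_one_iff.mpr e, orderOf_one] at hx2; omega
  refine ⟨fun e => ?_, fun e => ?_⟩
  · have h : proj (X * X) = 1 := by
      refine proj_one_iff.mpr (Or.inr (Subtype.ext ?_))
      rw [Matrix.SpecialLinearGroup.coe_mul, cayley, e]
      simp
    rw [map_mul, hX, ← pow_two] at h
    have := Nat.le_of_dvd (by norm_num) (orderOf_dvd_of_pow_eq_one h)
    omega
  · have h := (pow_eq_one_iff p hns).mpr e
    rw [hX] at h
    have hx1 : x ≠ 1 := fun e => by rw [e, orderOf_one] at hx2; omega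
    exact hxp (orderOf_eq_prime h hx1).symm.dvd

/-- A semisimple element whose order does not divide `q + 1` splits. -/
theorem exists_eigen [CharP F 2] {X : SL₂} (hx2 : 2 < orderOf (proj X))
    (hxq : ¬ orderOf (proj X) ∣ Fintype.card F + 1) : ∃ u : F, u * u + tr X * u + 1 = 0 := by
  classical
  haveI : Fact (Nat.Prime 2) := ⟨Nat.prime_two⟩
  have hq := Fintype.one_lt_card (α := F)
  have hdel : del F = 1 := by
    refine ((del_cases F).resolve_right fun h => ?_).1
    obtain ⟨n, -, hn⟩ := FiniteField.card F 2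
    rw [hn] at h
    exact (Nat.not_even_iff_odd.mpr h.2) (Nat.even_pow.mpr ⟨even_two, n.pos.ne'⟩)
  have hneg : ∀ z : SL₂, IsScalar z → z = 1 := fun z hz => hz.elim id fun e => by
    rw [e]; exact Subtype.ext (by simp [Matrix.SpecialLinearGroup.coe_neg, CharTwo.neg_eq])
  have hns : ¬ IsScalar X := fun e => by rw [proj_one_iff.mpr e, orderOf_one] at hx2; omega
  set x := proj X with hx
  have hx1 : x ≠ 1 := fun e => hns (proj_one_iff.mp e)
  have hxp : x ^ 2 ≠ 1 := fun e => by
    have := Nat.le_of_dvd (by norm_num) (orderOf_dvd_of_pow_eq_one e)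
    omega
  have hd : orderOf x ∣ Nat.card (tor x) := Subgroup.orderOf_dvd_natCard _ ((pslData (F := F) 2).self x)
  rcases card_tor_semi 2 hx1 hxp with e | e <;> rw [e, hdel, Nat.div_one] at hd
  swap; · exact absurd hd hxq
  have hpow : (X : M₂) ^ Fintype.card F = X := by
    have h := orderOf_dvd_iff_pow_eq_one.mp hd
    rw [hx, ← map_pow, proj_one_iff] at h
    conv_lhs => rw [show Fintype.card F = (Fintype.card F - 1) + 1 by omega, pow_succ,
      ← Matrix.SpecialLinearGroup.coe_pow, hneg _ h, Matrix.SpecialLinearGroup.coe_one, one_mul]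
  let φ : Polynomial F →* F :=
    (Matrix.detMonoidHom).comp (Polynomial.aeval (X : M₂)).toRingHom.toMonoidHom
  have hne := FiniteField.X_pow_card_sub_X_ne_zero F hq
  have hprod : (Finset.univ.val.map fun c : F => Polynomial.X - Polynomial.C c).prod =
      Polynomial.X ^ Fintype.card F - Polynomial.X := by
    rw [← FiniteField.roots_X_pow_card_sub_X F]
    refine Polynomial.prod_multiset_X_sub_C_of_monic_of_roots_card_eq ?_ ?_
    · refine Polynomial.monic_X_pow_sub ?_
      rw [Polynomial.degree_X]; exact_mod_cast hq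
    · rw [FiniteField.roots_X_pow_card_sub_X, Finset.card_val, Finset.card_univ,
        FiniteField.X_pow_card_sub_X_natDegree_eq F hq]
  have h0 := congrArg φ hprod
  rw [map_multiset_prod, Multiset.map_map] at h0
  have h0' : φ (Polynomial.X ^ Fintype.card F - Polynomial.X) = 0 := by
    show Matrix.det (Polynomial.aeval (X : M₂) _) = 0
    rw [map_sub, map_pow, Polynomial.aeval_X, hpow, sub_self, Matrix.det_zero]
  rw [h0', Multiset.prod_eq_zero_iff, Multiset.mem_map] at h0
  obtain ⟨c, -, hc⟩ := h0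
  refine ⟨c, ?_⟩
  change Matrix.det (Polynomial.aeval (X : M₂) (Polynomial.X - Polynomial.C c)) = 0 at hc
  rw [map_sub, Polynomial.aeval_X, Polynomial.aeval_C, Matrix.algebraMap_eq_diagonal, Matrix.det_fin_two] at hc
  simp at hc
  have d := det_eq X
  have z : (2 : F) = 0 := CharTwo.two_eq_zero
  show c * c + (X.1 0 0 + X.1 1 1) * c + 1 = 0
  linear_combination hc - d + (c * X.1 0 0 + c * X.1 1 1) * z

/-- A product of two conjugacy classes of non-trivial elements meets more than one class. -/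
theorem product_ne_class (h4 : 4 ≤ Fintype.card F) (a b : PSL₂) (ha : a ≠ 1) (hb : b ≠ 1) (c : PSL₂) :
    {g : PSL₂ | ∃ u v : PSL₂, g = (u * a * u⁻¹) * (v * b * v⁻¹)} ≠ {g | IsConj c g} := by
  classical
  intro heq
  obtain ⟨A, rfl⟩ := proj_surjective a
  obtain ⟨B, rfl⟩ := proj_surjective b
  obtain ⟨C, rfl⟩ := proj_surjective c
  obtain ⟨g₁, hA'⟩ := exists_conj_lower (fun e => ha (proj_one_iff.mpr e) : ¬ IsScalar A)
  obtain ⟨g₂, hB'⟩ := exists_conj_lower (fun e => hb (proj_one_iff.mpr e) : ¬ IsScalar B)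
  set A' := g₁ * A * g₁⁻¹ with hAdef
  set B' := g₂ * B * g₂⁻¹ with hBdef
  set t := tr C
  let f : F → F := fun s => tr (A' * (up s * B' * (up s)⁻¹))
  have hf : ∀ s, f s = t ∨ f s = -t := by
    intro s
    have hm : proj (A' * (up s * B' * (up s)⁻¹)) ∈
        {g : PSL₂ | ∃ u v : PSL₂, g = (u * proj A * u⁻¹) * (v * proj B * v⁻¹)} :=
      ⟨proj g₁, proj (up s * g₂), by simp [hAdef, hBdef, mul_assoc]⟩
    rw [heq] at hm
    obtain ⟨w, hw⟩ := isConj_iff.mp hm
    obtain ⟨W, rfl⟩ := proj_surjective w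
    rw [← map_inv, ← map_mul, ← map_mul] at hw
    have := tr_eq_of_proj_eq hw
    rwa [Cfsg.Agent.Grp.SL2.tr_conj] at this
  have hform : ∀ s, f s = -(A'.1 1 0 * B'.1 1 0) * (s * s) +
      ((A'.1 0 0 - A'.1 1 1) * B'.1 1 0 + A'.1 1 0 * (B'.1 1 1 - B'.1 0 0)) * s + tr (A' * B') := by
    intro s
    show tr _ = _
    simp only [← tr_eq_trace, Matrix.SpecialLinearGroup.coe_mul, Matrix.SpecialLinearGroup.coe_inv]
    simp [up, Matrix.trace_fin_two, Matrix.adjugate_fin_two, Matrix.mul_apply, Matrix.vecMul, dotProduct, Fin.sum_univ_two]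
    ring
  set k := -(A'.1 1 0 * B'.1 1 0)
  set l := (A'.1 0 0 - A'.1 1 1) * B'.1 1 0 + A'.1 1 0 * (B'.1 1 1 - B'.1 0 0)
  have hk : k ≠ 0 := neg_ne_zero.mpr (mul_ne_zero hA' hB')
  have hfib : ∀ r, (Finset.univ.filter fun s => f s = r).card ≤ 2 := by
    intro r
    by_contra hc
    obtain ⟨s₀, hs₀⟩ : (Finset.univ.filter fun s => f s = r).Nonempty := Finset.card_pos.mp (by omega)
    refine hc ((Finset.card_le_card (t := {s₀, -l / k - s₀}) ?_).trans Finset.card_le_two)
    intro s hs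
    rw [Finset.mem_filter] at hs₀ hs
    rw [Finset.mem_insert, Finset.mem_singleton]
    by_cases e : s = s₀
    · exact Or.inl e
    · right
      have h : (s - s₀) * (k * (s + s₀) + l) = 0 := by
        have := hs.2.trans hs₀.2.symm
        rw [hform, hform] at this
        linear_combination this
      have h' := (mul_eq_zero.mp h).resolve_left (sub_ne_zero.mpr e)
      field_simp
      linear_combination h'
  have hu : (Finset.univ : Finset F) ⊆ (Finset.univ.filter fun s => f s = t) ∪ (Finset.univ.filter fun s => f s = -t) :=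
    fun s _ => by simpa using hf s
  have h1 := Finset.card_le_card hu
  rw [Finset.card_univ] at h1
  have h2 := Finset.card_union_le (Finset.univ.filter fun s => f s = t) (Finset.univ.filter fun s => f s = -t)
  have h3 := hfib t
  have h3' := hfib (-t)
  rcases two_eq_zero_or F with h | ⟨-, hodd⟩
  · rw [CharTwo.neg_eq, Finset.union_self] at h1
    omega
  · omega

end Cfsg.Agent.Dickson.ClassProd
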