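import Mathlib
import Cfsg.Agent.Lib.Classical.BinarySuborbit
import Cfsg.Agent.Lib.Classical.DicksonCentral
import Cfsg.Agent.Lib.Classical.DicksonClassProduct

/-!
Preparations for the binary coset actions of `PSL(2, q)`: the automorphisms coming from `GL(2, q)`,
diagonal matrices and the decomposition of upper triangular matrices.
-/

set_option autoImplicit false

namespace Cfsg.Agent.PSLBin

open Matrix Cfsg.Agent.Grp.SL2 Cfsg.Agent.PSL2Spec Cfsg.Agent.Dickson Cfsg.Agent.Dickson.ClassProd Cfsg.Agent.BinAct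

variable {F : Type*} [Field F] [Fintype F]

local notation "SL₂" => Matrix.SpecialLinearGroup (Fin 2) F
local notation "PSL₂" => Matrix.ProjectiveSpecialLinearGroup (Fin 2) F
local notation "cj" => Cfsg.Agent.Grp.SL2.conjHom

section aut

variable (P : Matrix (Fin 2) (Fin 2) F) (hP : IsUnit P.det)

theorem center_le_comap : Subgroup.center SL₂ ≤ (Subgroup.center SL₂).comap (cj P hP) := by
  intro x hx
  have h : IsScalar x := proj_one_iff.mp ((QuotientGroup.eq_one_iff x).mpr hx)
  show cj P hP x ∈ Subgroup.center SL₂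
  refine (QuotientGroup.eq_one_iff _).mp (?_ : proj (cj P hP x) = 1)
  refine proj_one_iff.mpr ?_
  rcases h with rfl | rfl
  · exact Or.inl (map_one _)
  · exact Or.inr (by rw [conjHom_neg, map_one])

/-- Conjugation by an invertible matrix, on `PSL(2, q)`. -/
noncomputable def pcjHom : PSL₂ →* PSL₂ :=
  QuotientGroup.map _ _ (cj P hP) (center_le_comap P hP)

theorem pcjHom_proj (x : SL₂) : pcjHom P hP (proj x) = proj (cj P hP x) := rfl

theorem pcjHom_bijective : Function.Bijective (pcjHom P hP) := by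
  constructor
  · refine (injective_iff_map_eq_one _).mpr fun a ha => ?_
    obtain ⟨x, rfl⟩ := proj_surjective a
    rw [pcjHom_proj, proj_one_iff] at ha
    rw [proj_one_iff]
    rcases ha with h | h
    · exact Or.inl (conjHom_injective P hP (h.trans (map_one _).symm))
    · exact Or.inr (conjHom_injective P hP (by rw [h, conjHom_neg, map_one]))
  · intro a
    obtain ⟨x, rfl⟩ := proj_surjective a
    obtain ⟨y, rfl⟩ := conjHom_surjective P hP x
    exact ⟨proj y, rfl⟩

/-- Conjugation by an invertible matrix, as an automorphism of `PSL(2, q)`. -/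
noncomputable def pcj : PSL₂ ≃* PSL₂ := MulEquiv.ofBijective (pcjHom P hP) (pcjHom_bijective P hP)

theorem pcj_proj (x : SL₂) : pcj P hP (proj x) = proj (cj P hP x) := rfl

end aut

/-- Pulling a subgroup back along an automorphism. -/
theorem isBin_comap_iff {G G' : Type*} [Group G] [Group G'] (e : G ≃* G') (H : Subgroup G') :
    IsBin (H.comap e.toMonoidHom) ↔ IsBin H := by
  rw [show H.comap e.toMonoidHom = H.map e.symm.toMonoidHom from Subgroup.comap_equiv_eq_map_symm e H,
    isBin_map_iff]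

theorem card_comap_equiv {G G' : Type*} [Group G] [Group G'] (e : G ≃* G') (H : Subgroup G') :
    Nat.card ↥(H.comap e.toMonoidHom) = Nat.card H :=
  Nat.card_congr (Equiv.subtypeEquiv e.toEquiv fun _ => Iff.rfl)

section dia

omit [Fintype F]

/-- Diagonal matrices of determinant one. -/
def dg (z : Fˣ) : SL₂ := ⟨!![(z : F), 0; 0, ((z⁻¹ : Fˣ) : F)], by simp [Matrix.det_fin_two]⟩

theorem dg_coe (z : Fˣ) : ((dg z : SL₂) : Matrix (Fin 2) (Fin 2) F) = !![(z : F), 0; 0, (z : F)⁻¹] := by
  simp [dg]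

theorem up_coe (s : F) : ((up s : SL₂) : Matrix (Fin 2) (Fin 2) F) = !![1, s; 0, 1] := rfl

theorem dg_mul (z w : Fˣ) : (dg z : SL₂) * dg w = dg (z * w) := by
  refine Subtype.ext ?_
  rw [Matrix.SpecialLinearGroup.coe_mul, dg_coe, dg_coe, dg_coe]
  ext i j; fin_cases i <;> fin_cases j <;> simp [mul_comm]

theorem dg_one : (dg 1 : SL₂) = 1 := by
  refine Subtype.ext ?_
  rw [dg_coe]
  ext i j; fin_cases i <;> fin_cases j <;> simp

theorem dg_inv (z : Fˣ) : ((dg z : SL₂))⁻¹ = dg z⁻¹ :=
  inv_eq_of_mul_eq_one_right (by rw [dg_mul, mul_inv_cancel, dg_one])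

theorem dg_neg (z : Fˣ) : (dg (-z) : SL₂) = -dg z := by
  refine Subtype.ext ?_
  rw [Matrix.SpecialLinearGroup.coe_neg, dg_coe, dg_coe]
  ext i j; fin_cases i <;> fin_cases j <;> simp

theorem up_mul_dg (s : F) (z : Fˣ) : (up s : SL₂) * dg z = dg z * up (s / (z : F) ^ 2) := by
  refine Subtype.ext ?_
  rw [Matrix.SpecialLinearGroup.coe_mul, Matrix.SpecialLinearGroup.coe_mul, dg_coe, up_coe, up_coe]
  have := z.ne_zero
  ext i j; fin_cases i <;> fin_cases j <;> simp
  field_simp

theorem up_inv (s : F) : ((up s : SL₂))⁻¹ = up (-s) :=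
  inv_eq_of_mul_eq_one_right (by rw [up_mul, add_neg_cancel, up_zero])

/-- Conjugating `dg z * up b` by a translation. -/
theorem up_conj (c b : F) (z : Fˣ) :
    (up c : SL₂) * (dg z * up b) * (up c)⁻¹ = dg z * up (c / (z : F) ^ 2 + b - c) := by
  rw [← mul_assoc, up_mul_dg, mul_assoc (dg z), up_mul, up_inv, mul_assoc, up_mul, sub_eq_add_neg]

theorem upper_eq {y : SL₂} (hy : y.1 1 0 = 0) : ∃ (z : Fˣ) (b : F), y = dg z * up b := by
  have d := det_eq y
  rw [hy, mul_zero, sub_zero] at d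
  have h0 : y.1 0 0 ≠ 0 := left_ne_zero_of_mul_eq_one d
  refine ⟨Units.mk0 _ h0, y.1 0 1 / y.1 0 0, Subtype.ext ?_⟩
  rw [Matrix.SpecialLinearGroup.coe_mul, dg_coe, up_coe]
  ext i j; fin_cases i <;> fin_cases j <;> simp [hy]
  · field_simp
  · exact eq_inv_of_mul_eq_one_right d

theorem dg_up_coe (z : Fˣ) (b : F) :
    ((dg z * up b : SL₂) : Matrix (Fin 2) (Fin 2) F) = !![(z : F), (z : F) * b; 0, (z : F)⁻¹] := by
  rw [Matrix.SpecialLinearGroup.coe_mul, dg_coe, up_coe]
  ext i j; fin_cases i <;> fin_cases j <;> simp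

theorem dg_up_10 (z : Fˣ) (b : F) : ((dg z * up b : SL₂)).1 1 0 = 0 := by
  rw [dg_up_coe]; rfl

theorem dg_up_00 (z : Fˣ) (b : F) : ((dg z * up b : SL₂)).1 0 0 = z := by
  rw [dg_up_coe]; rfl

theorem dg_up_injective {z w : Fˣ} {b c : F} (h : (dg z * up b : SL₂) = dg w * up c) : z = w ∧ b = c := by
  have h0 := congrFun (congrFun (congrArg Subtype.val h) 0) 0
  rw [dg_up_00, dg_up_00] at h0
  obtain rfl := Units.ext h0
  refine ⟨rfl, ?_⟩
  have h' : (up b : SL₂) = up c := mul_left_cancel h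
  have h1 := congrFun (congrFun (congrArg Subtype.val h') 0) 1
  simpa [up] using h1

theorem two_zero_neg (h2 : (2 : F) = 0) (c : F) : -c = c := by linear_combination (-c) * h2

theorem pow_four_char_two (h2 : (2 : F) = 0) {z : F} (h : z ^ 4 = 1) : z = 1 := by
  have e : (z - 1) ^ 4 = 0 := by linear_combination h + (-2 * z ^ 3 + 3 * z ^ 2 - 2 * z + 1) * h2
  exact sub_eq_zero.mp (eq_zero_of_pow_eq_zero e)

theorem sl_neg (h2 : (2 : F) = 0) (x : SL₂) : -x = x := Subtype.ext (Matrix.ext fun i j => by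
  simp only [Matrix.SpecialLinearGroup.coe_neg, Matrix.neg_apply]; exact two_zero_neg h2 _)

end dia

theorem proj_injective (h2 : (2 : F) = 0) {x y : SL₂} (h : proj x = proj y) : x = y := by
  rcases proj_eq_iff.mp h with e | e
  · exact e.symm
  · rw [e, sl_neg h2]

theorem two_ne_zero_iff_odd : (2 : F) ≠ 0 ↔ Odd (Fintype.card F) := by
  refine ⟨fun h => ?_, two_ne_zero_of_odd_card⟩
  rw [Nat.odd_iff]
  exact (two_eq_zero_or F).elim (fun hc => absurd (CharTwo.two_eq_zero (R := F)) h) fun hh => hh.2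

end Cfsg.Agent.PSLBin
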