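import Cfsg.Agent.Lib.Classical.BinaryAction
import Cfsg.Agent.Lib.Lie.Sz.Subgroups

/-!
# Binary actions of the Suzuki groups: elementary abelian stabilisers

The action on the cosets of the centre of a Sylow 2-subgroup is binary; for a proper nontrivial
subgroup of it the action is not binary.
-/

set_option autoImplicit false

namespace Cfsg.Agent.SzBin

open Cfsg Cfsg.Agent.Suz Cfsg.Agent.BinAct

section additive

variable {A : Type*} [AddCommGroup A] [Finite A]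

theorem card_sup_mul_inf (L M : AddSubgroup A) :
    Nat.card L * Nat.card M = Nat.card ↥(L ⊔ M) * Nat.card ↥(L ⊓ M) := by
  let f : L × M →+ A := L.subtype.coprod M.subtype
  have hr : f.range = L ⊔ M := by
    ext z
    rw [AddSubgroup.mem_sup]
    constructor
    · rintro ⟨⟨u, v⟩, rfl⟩; exact ⟨u, u.2, v, v.2, rfl⟩
    · rintro ⟨u, hu, v, hv, rfl⟩; exact ⟨(⟨u, hu⟩, ⟨v, hv⟩), rfl⟩
  have hk : Nat.card f.ker = Nat.card ↥(L ⊓ M) := by
    refine Nat.card_congr ⟨fun p => ⟨(p.1.1 : A), p.1.1.2, ?_⟩,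
      fun z => ⟨(⟨z, z.2.1⟩, ⟨-(z : A), neg_mem z.2.2⟩), add_neg_cancel (z : A)⟩, fun p => ?_, fun z => rfl⟩
    · have h : (p.1.1 : A) + p.1.2 = 0 := p.2
      rw [eq_neg_of_add_eq_zero_left h]
      exact M.neg_mem p.1.2.2
    · have h : (p.1.1 : A) + p.1.2 = 0 := p.2
      refine Subtype.ext (Prod.ext rfl (Subtype.ext ?_))
      show -(p.1.1 : A) = p.1.2
      exact (eq_neg_of_add_eq_zero_right h).symm
  have h := f.ker.card_mul_index
  rw [AddSubgroup.index_ker, hr, hk, Nat.card_prod] at h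
  rw [← h, mul_comm]

end additive

section field

variable {F : Type*} [Field F] [Fintype F]

/-- The multiple of an additive subgroup. -/
def mulSub (c : F) (K : AddSubgroup F) : AddSubgroup F := K.map (AddMonoidHom.mulLeft c)

theorem mem_mulSub {c : F} {K : AddSubgroup F} {z : F} : z ∈ mulSub c K ↔ ∃ u ∈ K, c * u = z :=
  AddSubgroup.mem_map

theorem card_mulSub {c : F} (hc : c ≠ 0) (K : AddSubgroup F) : Nat.card (mulSub c K) = Nat.card K :=
  AddSubgroup.card_map_of_injective (mul_right_injective₀ hc)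

/-- The total size of the intersections with the multiples. -/
theorem sum_card_inf [DecidableEq F] (K : AddSubgroup F) :
    ∑ c ∈ (Finset.univ.erase (0 : F)).erase 1, (Nat.card ↥(K ⊓ mulSub c K) - 1) =
      (Nat.card K - 1) * (Nat.card K - 2) := by
  classical
  set K' : Finset F := Finset.univ.filter fun u => u ∈ K ∧ u ≠ 0 with hK'
  have hcard : K'.card + 1 = Nat.card K := by
    have h : insert 0 K' = Finset.univ.filter fun u => u ∈ K := by
      ext u
      by_cases hu : u = 0 <;> simp [hK', hu, K.zero_mem]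
    have h0 : (0 : F) ∉ K' := by simp [hK']
    rw [← Finset.card_insert_of_notMem h0, h]
    exact (Nat.subtype_card _ (by simp)).symm
  set P : Finset (F × F) := (K' ×ˢ K').filter fun p => p.1 ≠ p.2 with hP
  have hPc : P.card = (Nat.card K - 1) * (Nat.card K - 2) := by
    rw [show P = K'.offDiag from by ext p; simp [hP, Finset.mem_offDiag, and_assoc], Finset.offDiag_card,
      ← hcard, Nat.add_sub_cancel, ← Nat.mul_sub_one]
    rfl
  rw [← hPc, Finset.card_eq_sum_card_fiberwise (f := fun p : F × F => p.1 / p.2)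
    (t := (Finset.univ.erase (0 : F)).erase 1)]
  · refine Finset.sum_congr rfl fun c hc => ?_
    obtain ⟨hc1, hc0, -⟩ : c ≠ 1 ∧ c ≠ 0 ∧ True := by simpa using hc
    set M : Finset F := Finset.univ.filter fun u => u ∈ K ⊓ mulSub c K with hM
    have hMc : M.card = Nat.card ↥(K ⊓ mulSub c K) :=
      (Nat.subtype_card _ (by simp [hM])).symm
    rw [← hMc, ← Finset.card_erase_of_mem (show (0 : F) ∈ M by simp [hM, zero_mem])]
    refine Finset.card_bij (fun u _ => (u, u / c)) ?_ ?_ ?_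
    · intro u hu
      obtain ⟨hu0, huK, v, hv, rfl⟩ : u ≠ 0 ∧ u ∈ K ∧ ∃ v ∈ K, c * v = u := by
        simpa [hM, mem_mulSub] using hu
      have hv0 : v ≠ 0 := fun e => hu0 (by rw [e, mul_zero])
      simp only [hP, hK', Finset.mem_filter, Finset.mem_product, Finset.mem_univ, true_and]
      rw [mul_div_cancel_left₀ v hc0, mul_div_assoc, div_self hv0, mul_one]
      exact ⟨⟨⟨⟨huK, hu0⟩, hv, hv0⟩, fun e => hc1 (mul_left_eq_self₀.1 e |>.resolve_right hv0)⟩, rfl⟩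
    · intro u _ v _ h; exact congrArg Prod.fst h
    · rintro ⟨u, v⟩ hp
      simp only [hP, hK', Finset.mem_filter, Finset.mem_product, Finset.mem_univ, true_and] at hp
      obtain ⟨⟨⟨⟨hu, hu0⟩, hv, hv0⟩, -⟩, rfl⟩ := hp
      refine ⟨u, ?_, ?_⟩
      · simp only [hM, Finset.mem_erase, Finset.mem_filter, Finset.mem_univ, true_and, AddSubgroup.mem_inf,
          mem_mulSub]
        exact ⟨hu0, hu, v, hv, div_mul_cancel₀ u hv0⟩
      · rw [div_div_cancel₀ hu0]
  · intro p hp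
    simp only [hP, hK', Finset.coe_filter, Finset.mem_product, Finset.mem_filter, Finset.mem_univ,
      true_and, Set.mem_setOf_eq] at hp
    obtain ⟨⟨⟨-, h1⟩, -, h2⟩, h3⟩ := hp
    simp [div_ne_zero h1 h2, div_eq_one_iff_eq h2, h3]

theorem mulSub_mulSub (c d : F) (K : AddSubgroup F) : mulSub c (mulSub d K) = mulSub (c * d) K := by
  ext z
  simp only [mem_mulSub]
  constructor
  · rintro ⟨-, ⟨u, hu, rfl⟩, rfl⟩; exact ⟨u, hu, mul_assoc c d u⟩
  · rintro ⟨u, hu, rfl⟩; exact ⟨d * u, ⟨u, hu, rfl⟩, (mul_assoc c d u).symm⟩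

theorem card_inf_mulSub_inv {c : F} (hc : c ≠ 0) (K : AddSubgroup F) :
    Nat.card ↥(K ⊓ mulSub c⁻¹ K) = Nat.card ↥(K ⊓ mulSub c K) := by
  rw [← card_mulSub hc (K ⊓ mulSub c⁻¹ K), mulSub, AddSubgroup.map_inf _ _ _ (mul_right_injective₀ hc)]
  change Nat.card ↥(mulSub c K ⊓ mulSub c (mulSub c⁻¹ K)) = _
  have h1 : mulSub (1 : F) K = K := by ext z; simp [mem_mulSub]
  rw [mulSub_mulSub, mul_inv_cancel₀ hc, h1, inf_comm]

/-- A proper nontrivial subgroup has two multiples in general position. -/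
theorem exists_pos (K : AddSubgroup F) (h2 : (2 : F) = 0) (hx2 : 2 ≤ Nat.card K)
    (hxq : 2 * Nat.card K ≤ Fintype.card F) (hpow : ∃ k n, Nat.card K = 2 ^ k ∧ Fintype.card F = 2 ^ n) :
    ∃ c : F, c ≠ 0 ∧ c ≠ 1 ∧
      ((K ⊓ mulSub c K) ⊔ (K ⊓ mulSub (1 + c) K) ≠ K ∨
        (K ⊔ mulSub c⁻¹ K) ⊓ (K ⊔ mulSub (1 + c)⁻¹ K) ≠ K) := by
  classical
  set x := Nat.card K
  set q := Fintype.card F
  set f : F → ℕ := fun c => Nat.card ↥(K ⊓ mulSub c K) with hf
  set S := (Finset.univ.erase (0 : F)).erase 1 with hS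
  have hone : ∀ c : F, 1 + (1 + c) = c := fun c => by linear_combination h2
  have hmem : ∀ c : F, c ∈ S ↔ c ≠ 0 ∧ c ≠ 1 := fun c => by simp [hS, and_comm]
  have hmap : ∀ c ∈ S, 1 + c ∈ S := by
    intro c hc
    rw [hmem] at hc ⊢
    exact ⟨fun e => hc.2 (by linear_combination e - h2), fun e => hc.1 (by linear_combination e)⟩
  have hsum : ∑ c ∈ S, ((f c - 1) + (f (1 + c) - 1)) = 2 * ((x - 1) * (x - 2)) := by
    rw [Finset.sum_add_distrib, two_mul]
    congr 1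
    · exact sum_card_inf K
    · rw [← sum_card_inf K]
      exact Finset.sum_bij' (fun c _ => 1 + c) (fun c _ => 1 + c) hmap hmap (fun c _ => hone c)
        (fun c _ => hone c) (fun c _ => rfl)
  have hScard : S.card = q - 2 := by
    rw [hS, Finset.card_erase_of_mem (by simp), Finset.card_erase_of_mem (Finset.mem_univ _), Finset.card_univ]
    rfl
  have hq4 : 4 ≤ q := by omega
  obtain ⟨c, hc, hle⟩ := Finset.exists_le_of_sum_le (s := S) (f := fun c => (q - 2) * ((f c - 1) + (f (1 + c) - 1)))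
    (g := fun _ => 2 * ((x - 1) * (x - 2))) (Finset.card_pos.1 (by omega))
    (by rw [← Finset.mul_sum, hsum, Finset.sum_const, smul_eq_mul, hScard])
  obtain ⟨hc0, hc1⟩ := (hmem c).1 hc
  have hd0 : (1 + c) ≠ 0 := ((hmem _).1 (hmap c hc)).1
  have hA1 : 1 ≤ f c := Nat.card_pos
  have hB1 : 1 ≤ f (1 + c) := Nat.card_pos
  refine ⟨c, hc0, hc1, ?_⟩
  by_contra hcon
  push Not at hcon
  obtain ⟨e1, e2⟩ := hcon
  set a := f c
  set b := f (1 + c)
  have hP : x ≤ a * b := by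
    have h := card_sup_mul_inf (K ⊓ mulSub c K) (K ⊓ mulSub (1 + c) K)
    rw [e1] at h
    calc x = x * 1 := (mul_one x).symm
      _ ≤ x * Nat.card ↥((K ⊓ mulSub c K) ⊓ (K ⊓ mulSub (1 + c) K)) := Nat.mul_le_mul_left _ Nat.card_pos
      _ = a * b := h.symm
  have hQ : x ^ 3 ≤ q * (a * b) := by
    have h1 := card_sup_mul_inf K (mulSub c⁻¹ K)
    have h2' := card_sup_mul_inf K (mulSub (1 + c)⁻¹ K)
    have h3 := card_sup_mul_inf (K ⊔ mulSub c⁻¹ K) (K ⊔ mulSub (1 + c)⁻¹ K)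
    rw [e2] at h3
    rw [card_mulSub (inv_ne_zero hc0), card_inf_mulSub_inv hc0] at h1
    rw [card_mulSub (inv_ne_zero hd0), card_inf_mulSub_inv hd0] at h2'
    have hle' : Nat.card ↥((K ⊔ mulSub c⁻¹ K) ⊔ (K ⊔ mulSub (1 + c)⁻¹ K)) ≤ q :=
      le_trans (Nat.le_of_dvd Nat.card_pos (AddSubgroup.card_addSubgroup_dvd_card _)) Nat.card_eq_fintype_card.le
    refine Nat.le_of_mul_le_mul_right ?_ (show 0 < x from Nat.card_pos)
    calc x ^ 3 * x = (x * x) * (x * x) := by ring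
      _ = (Nat.card ↥(K ⊔ mulSub c⁻¹ K) * Nat.card ↥(K ⊔ mulSub (1 + c)⁻¹ K)) * (a * b) := by
          refine (congrArg₂ (· * ·) h1 h2').trans ?_; simp only [a, b, f]; ring
      _ = (Nat.card ↥((K ⊔ mulSub c⁻¹ K) ⊔ (K ⊔ mulSub (1 + c)⁻¹ K)) * x) * (a * b) := by rw [h3]
      _ ≤ q * x * (a * b) := Nat.mul_le_mul_right _ (Nat.mul_le_mul_right _ hle')
      _ = q * (a * b) * x := by ring
  obtain ⟨k, n, hk, hn⟩ := hpow
  rcases le_or_gt (x * x) q with hsmall | hbig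
  · have hT : (x - 1) * (x - 2) < q - 2 := by
      obtain ⟨y, hy⟩ : ∃ y, x = y + 2 := ⟨x - 2, by omega⟩
      rw [hy] at hsmall ⊢
      rw [show y + 2 - 1 = y + 1 by omega, show y + 2 - 2 = y by omega]
      have hexp : (y + 2) * (y + 2) = (y + 1) * y + (3 * y + 4) := by ring
      omega
    have hab : (a - 1) + (b - 1) < 2 := by
      by_contra hh
      push Not at hh
      have := Nat.mul_le_mul_left (q - 2) hh
      omega
    rcases (show (a = 1 ∧ b ≤ 2) ∨ (b = 1 ∧ a ≤ 2) by omega) with ⟨ha, hb⟩ | ⟨hb, ha⟩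
    · rw [ha, one_mul] at hP
      have hx : x = 2 := by omega
      rw [hx] at hle
      rcases (by simpa using hle : q - 2 = 0 ∨ (a - 1 = 0 ∧ b - 1 = 0)) with h | ⟨h, h'⟩ <;> omega
    · rw [hb, mul_one] at hP
      have hx : x = 2 := by omega
      rw [hx] at hle
      rcases (by simpa using hle : q - 2 = 0 ∨ (a - 1 = 0 ∧ b - 1 = 0)) with h | ⟨h, h'⟩ <;> omega
  · obtain ⟨y, hy, hy2⟩ : ∃ y, q = x * y ∧ (y = 2 ∨ (4 ≤ y ∧ y < x)) := by
      have hkn : k ≤ n := by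
        by_contra hh
        have := Nat.pow_le_pow_right (show 1 ≤ 2 by norm_num) (show n ≤ k by omega)
        rw [← hk, ← hn] at this; omega
      refine ⟨2 ^ (n - k), by rw [hk, hn, ← pow_add, Nat.add_sub_cancel' hkn], ?_⟩
      have h1 : 1 ≤ n - k := by
        by_contra hh
        have : n = k := by omega
        rw [hk, hn, this] at hxq
        have := Nat.two_pow_pos k
        omega
      rcases eq_or_lt_of_le h1 with h | h
      · left; rw [← h, pow_one]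
      · right
        refine ⟨?_, ?_⟩
        · calc 4 = 2 ^ 2 := rfl
            _ ≤ _ := Nat.pow_le_pow_right (by norm_num) h
        · rw [hk]
          refine Nat.pow_lt_pow_right (by norm_num) ?_
          by_contra hh
          have := Nat.pow_le_pow_right (show 1 ≤ 2 by norm_num) (show k + k ≤ n by omega)
          rw [pow_add, ← hk, ← hn] at this
          omega
    -- compare the mean with the required product
    zify [hA1, hB1, (by omega : 1 ≤ x), (by omega : 2 ≤ x), (by omega : 2 ≤ q)] at hle hQ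
    have hyZ : (q : ℤ) = x * y := by exact_mod_cast hy
    have hxpos : (0 : ℤ) < x := by exact_mod_cast (show 0 < x by omega)
    have hab0 : (0 : ℤ) ≤ (a : ℤ) + b := by positivity
    have hM : ((q : ℤ) - 2) * ((a : ℤ) + b) ≤ 2 * x * ((x : ℤ) + y - 3) := by
      rw [hyZ] at hle ⊢; linarith
    have hq0 : (0 : ℤ) ≤ (q : ℤ) - 2 := by
      have : (2 : ℤ) ≤ q := by exact_mod_cast (show 2 ≤ q by omega)
      linarith
    have hsq := pow_le_pow_left₀ (mul_nonneg hq0 hab0) hM 2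
    have h4 : 4 * ((a : ℤ) * b) ≤ ((a : ℤ) + b) ^ 2 := by nlinarith [sq_nonneg ((a : ℤ) - b)]
    have hmain : 4 * (x : ℤ) ^ 3 * ((q : ℤ) - 2) ^ 2 ≤ 4 * (x : ℤ) ^ 3 * (y * ((x : ℤ) + y - 3) ^ 2) := by
      calc 4 * (x : ℤ) ^ 3 * ((q : ℤ) - 2) ^ 2 ≤ 4 * ((q : ℤ) * (a * b)) * ((q : ℤ) - 2) ^ 2 := by
            gcongr
        _ ≤ (q : ℤ) * ((a : ℤ) + b) ^ 2 * ((q : ℤ) - 2) ^ 2 := by
            rw [show 4 * ((q : ℤ) * (a * b)) = (q : ℤ) * (4 * (a * b)) by ring]
            gcongr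
        _ = (q : ℤ) * (((q : ℤ) - 2) * ((a : ℤ) + b)) ^ 2 := by ring
        _ ≤ (q : ℤ) * (2 * x * ((x : ℤ) + y - 3)) ^ 2 := by gcongr
        _ = _ := by rw [hyZ]; ring
    have hcore : ((q : ℤ) - 2) ^ 2 ≤ y * ((x : ℤ) + y - 3) ^ 2 :=
      le_of_mul_le_mul_left hmain (by positivity)
    rw [hyZ] at hcore
    rcases hy2 with rfl | ⟨hy4, hyx⟩
    · push_cast at hcore
      have h1 : (2 : ℤ) ≤ x := by exact_mod_cast hx2
      nlinarith
    · have h4' : (4 : ℤ) ≤ y := by exact_mod_cast hy4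
      have hyx' : (y : ℤ) + 1 ≤ x := by exact_mod_cast hyx
      have e3 : ((x : ℤ) + y - 3) ^ 2 < (2 * ((x : ℤ) - 1)) ^ 2 :=
        pow_lt_pow_left₀ (by linarith) (by linarith) two_ne_zero
      have e4 : ((y : ℤ) * ((x : ℤ) - 1)) ^ 2 ≤ ((x : ℤ) * y - 2) ^ 2 :=
        pow_le_pow_left₀ (mul_nonneg (by linarith) (by linarith)) (by linarith) 2
      have e5 := mul_lt_mul_of_pos_left e3 (show (0 : ℤ) < y by linarith)
      have e6 := mul_nonneg (mul_nonneg (show (0 : ℤ) ≤ y by linarith) (show (0 : ℤ) ≤ y - 4 by linarith))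
        (sq_nonneg ((x : ℤ) - 1))
      have e7 : (y : ℤ) * (2 * ((x : ℤ) - 1)) ^ 2 ≤ ((y : ℤ) * ((x : ℤ) - 1)) ^ 2 := by linarith
      exact absurd hcore (not_le.2 (lt_of_lt_of_le e5 (le_trans e7 e4)))

end field

section suzuki

theorem eq_one_of_conj {G : Type*} [Group G] {a x : G} (h : a⁻¹ * x * a = 1) : x = 1 :=
  calc x = a * (a⁻¹ * x * a) * a⁻¹ := by group
    _ = 1 := by rw [h]; group

variable {F : Type*} [Field F] {m : ℕ} [Fintype F] (hS : SzField F m)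

/-- The centre of the standard Sylow subgroup. -/
def zen : Subgroup ↥(Cfsg.Sz F m) := (Subgroup.center (unip hS)).map (unip hS).subtype

include hS in
theorem mem_zen {g : ↥(Cfsg.Sz F m)} : g ∈ zen hS ↔ ∃ b, g = uS hS 0 b := by
  constructor
  · rintro ⟨u, hu, rfl⟩
    obtain ⟨b, hb⟩ := (center_unip_iff hS u).1 hu
    exact ⟨b, hb⟩
  · rintro ⟨b, rfl⟩
    exact ⟨⟨uS hS 0 b, uS_mem hS 0 b⟩, (center_unip_iff hS _).2 ⟨b, rfl⟩, rfl⟩

include hS in
theorem zen_stab_borel {c : ↥(Cfsg.Sz F m)} (hc : c ∈ borel m F) {g : ↥(Cfsg.Sz F m)} :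
    g ∈ stab (zen hS) c ↔ g ∈ zen hS := by
  obtain ⟨p, r, s, rfl⟩ := borel_eq hS hc
  have key : ∀ b : F, uS hS p r * hTor hS s * uS hS 0 b * (uS hS p r * hTor hS s)⁻¹ =
      uS hS 0 (th m (s : F) * b) := by
    intro b
    rw [show uS hS p r * hTor hS s * uS hS 0 b * (uS hS p r * hTor hS s)⁻¹ =
      uS hS p r * (hTor hS s * uS hS 0 b * (hTor hS s)⁻¹) * (uS hS p r)⁻¹ by group, hTor_conj, mul_zero,
      uS_inv, uS_mul, uS_mul]
    congr 1
    · linear_combination p * two hS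
    · simp only [mul_zero, add_zero]
      linear_combination (r + th m p * p) * two hS
  rw [mem_stab, mem_zen, mem_zen]
  constructor
  · rintro ⟨b, hb⟩
    refine ⟨th m (s : F) * b, ?_⟩
    rw [← key b, ← hb]
    group
  · rintro ⟨b, rfl⟩
    refine ⟨b / th m (s : F), ?_⟩
    have := key (b / th m (s : F))
    rw [mul_div_cancel₀ _ (th_ne_zero s.ne_zero)] at this
    rw [← this]
    group

include hS in
theorem zen_sq {g : ↥(Cfsg.Sz F m)} {a : ↥(Cfsg.Sz F m)} (h : g ∈ stab (zen hS) a) : g * g = 1 := by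
  rw [mem_stab, mem_zen] at h
  obtain ⟨b, hb⟩ := h
  have : (a⁻¹ * g * a) * (a⁻¹ * g * a) = 1 := by
    rw [hb, ← sq, uS_sq, th_zero, zero_mul, uS_zero]
  calc g * g = a * ((a⁻¹ * g * a) * (a⁻¹ * g * a)) * a⁻¹ := by group
    _ = 1 := by rw [this]; group

include hS in
theorem zen_TI (a b : ↥(Cfsg.Sz F m)) (h : stab (zen hS) a ≠ stab (zen hS) b) :
    stab (zen hS) a ⊓ stab (zen hS) b = ⊥ := by
  rw [Subgroup.eq_bot_iff_forall]
  intro x hx
  obtain ⟨ha, hb⟩ := Subgroup.mem_inf.1 hx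
  by_contra hne
  refine h ?_
  rw [mem_stab] at ha hb
  obtain ⟨d, hd⟩ := (mem_zen hS).1 ha
  obtain ⟨e, he⟩ := (mem_zen hS).1 hb
  have hu1 : a⁻¹ * x * a ≠ 1 := fun e' => hne (eq_one_of_conj e')
  have hcb : b⁻¹ * a ∈ borel m F := by
    refine mem_borel_of_conj_mem hS (hd ▸ uS_mem hS 0 d) hu1 ?_
    rw [show b⁻¹ * a * (a⁻¹ * x * a) * (b⁻¹ * a)⁻¹ = b⁻¹ * x * b by group, he]
    exact uS_mem hS 0 e
  ext y
  rw [show a = b * (b⁻¹ * a) by group, stab_mul, zen_stab_borel hS hcb, mem_stab]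

include hS in
theorem isBin_zen : IsBin (zen hS) := by
  refine isBin_of_triangle (zen_TI hS) fun a b c hab hac hbc x hx y hy hxy => ?_
  by_contra hne
  by_cases hx1 : x = 1
  · rw [hx1, one_mul] at hxy hne
    have := Subgroup.mem_inf.2 ⟨hxy, hy⟩
    rw [zen_TI hS a c hac, Subgroup.mem_bot] at this
    exact hne this
  have hx2 := zen_sq hS hx
  have hy2 := zen_sq hS hy
  have hz2 := zen_sq hS hxy
  have hcomm : y * x = x * y := by
    calc y * x = (x * x) * (y * x) * (y * y) := by rw [hx2, hy2, one_mul, mul_one]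
      _ = x * ((x * y) * (x * y)) * y := by simp only [mul_assoc]
      _ = x * y := by rw [hz2, mul_one]
  obtain ⟨d, hd⟩ := (mem_zen hS).1 (mem_stab.1 hx)
  have hd1 : b⁻¹ * x * b ≠ 1 := fun e' => hx1 (eq_one_of_conj e')
  have hyU : b⁻¹ * y * b ∈ unip hS := by
    refine centralizer_unip_le hS (hd ▸ uS_mem hS 0 d) hd1 (Subgroup.mem_centralizer_singleton_iff.2 ?_)
    calc b⁻¹ * y * b * (b⁻¹ * x * b) = b⁻¹ * (y * x) * b := by group
      _ = b⁻¹ * (x * y) * b := by rw [hcomm]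
      _ = _ := by group
  have hyb : y ∈ stab (zen hS) b := by
    by_cases hy1 : y = 1
    · rw [hy1]; exact one_mem _
    rw [mem_stab, mem_zen]
    refine mem_unip_of_orderOf hS (unip_le_borel hS hyU) ?_
    have : Fact (Nat.Prime 2) := ⟨Nat.prime_two⟩
    refine orderOf_eq_prime ?_ (fun e' => hy1 (eq_one_of_conj e'))
    rw [sq, show b⁻¹ * y * b * (b⁻¹ * y * b) = b⁻¹ * (y * y) * b by group, hy2]
    group
  have := Subgroup.mem_inf.2 ⟨hyb, hy⟩
  rw [zen_TI hS b c hbc, Subgroup.mem_bot] at this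
  rw [this, mul_one] at hxy
  have hxa := Subgroup.mem_inf.2 ⟨hxy, hx⟩
  rw [zen_TI hS a b hab, Subgroup.mem_bot] at hxa
  exact hx1 hxa

include hS in
theorem not_isBin_zen_lt {H : Subgroup ↥(Cfsg.Sz F m)} (hle : H ≤ zen hS) (hbot : H ≠ ⊥) (hne : H ≠ zen hS) :
    ¬ IsBin H := by
  classical
  let K : AddSubgroup F :=
    { carrier := {b | uS hS 0 b ∈ H}
      zero_mem' := by show uS hS 0 0 ∈ H; rw [uS_zero]; exact one_mem H
      add_mem' := fun {a b} ha hb => by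
        have := mul_mem (show uS hS 0 a ∈ H from ha) (show uS hS 0 b ∈ H from hb)
        rw [uS_mul, th_zero, zero_mul, add_zero, add_zero] at this
        exact this
      neg_mem' := fun {a} ha => by rw [neg_eq hS]; exact ha }
  have hK : ∀ b, b ∈ K ↔ uS hS 0 b ∈ H := fun b => Iff.rfl
  have hKtop : K ≠ ⊤ := fun e => hne (le_antisymm hle fun g hg => by
    obtain ⟨b, rfl⟩ := (mem_zen hS).1 hg
    exact (hK b).1 (e ▸ AddSubgroup.mem_top b))
  have hKbot : K ≠ ⊥ := fun e => hbot ((Subgroup.eq_bot_iff_forall H).2 fun g hg => by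
    obtain ⟨b, rfl⟩ := (mem_zen hS).1 (hle hg)
    have : b ∈ K := hg
    rw [e, AddSubgroup.mem_bot] at this
    rw [this, uS_zero])
  have hdvd : Nat.card K ∣ 2 ^ (2 * m + 1) := by
    rw [← hS.card, ← Nat.card_eq_fintype_card]; exact AddSubgroup.card_addSubgroup_dvd_card K
  obtain ⟨k, hk, hkc⟩ := (Nat.dvd_prime_pow Nat.prime_two).1 hdvd
  have hx2 : 2 ≤ Nat.card K := by
    have := (AddSubgroup.one_lt_card_iff_ne_bot K).2 hKbot
    omega
  have hxq : 2 * Nat.card K ≤ Fintype.card F := by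
    rw [hS.card, hkc]
    rcases Nat.lt_or_ge k (2 * m + 1) with h | h
    · calc 2 * 2 ^ k = 2 ^ (k + 1) := by rw [pow_succ']
        _ ≤ _ := Nat.pow_le_pow_right (by norm_num) h
    · exfalso
      refine hKtop (AddSubgroup.eq_top_of_card_eq K ?_)
      rw [hkc, Nat.card_eq_fintype_card, hS.card, show k = 2 * m + 1 by omega]
  obtain ⟨c, hc0, hc1, hor⟩ := exists_pos K (two hS) hx2 hxq ⟨k, 2 * m + 1, hkc, hS.card⟩
  have hd0 : (1 + c) ≠ 0 := fun e => hc1 (by linear_combination e - two hS)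
  obtain ⟨s, hs⟩ := exists_th_unit hS (m := m) c hc0
  obtain ⟨s', hs'⟩ := exists_th_unit hS (m := m) (1 + c) hd0
  obtain ⟨t, ht⟩ := exists_th_unit hS (m := m) c⁻¹ (inv_ne_zero hc0)
  obtain ⟨t', ht'⟩ := exists_th_unit hS (m := m) (1 + c)⁻¹ (inv_ne_zero hd0)
  have hconj : ∀ (u : Fˣ) (b : F), hTor hS u * uS hS 0 b * (hTor hS u)⁻¹ = uS hS 0 (th m (u : F) * b) :=
    fun u b => by rw [hTor_conj, mul_zero]
  have hst : ∀ (u : Fˣ) (g : ↥(Cfsg.Sz F m)), g ∈ H → g ∈ stab H (hTor hS u) →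
      ∃ e, g = uS hS 0 e ∧ e ∈ K ⊓ mulSub (th m (u : F)) K := by
    intro u g hg hgs
    obtain ⟨e, rfl⟩ := (mem_zen hS).1 (hle hg)
    refine ⟨e, rfl, AddSubgroup.mem_inf.2 ⟨hg, mem_mulSub.2 ⟨e / th m (u : F), ?_, ?_⟩⟩⟩
    · rw [hK]
      rw [mem_stab] at hgs
      have h := hconj u (e / th m (u : F))
      rw [mul_div_cancel₀ _ (th_ne_zero u.ne_zero)] at h
      rw [← h] at hgs
      simpa [mul_assoc] using hgs
    · rw [mul_div_cancel₀ _ (th_ne_zero u.ne_zero)]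
  have hadd : ∀ e e' : F, uS hS 0 e * uS hS 0 e' = uS hS 0 (e + e') := fun e e' => by
    rw [uS_mul, th_zero, zero_mul, add_zero, add_zero]
  rcases hor with h | h
  · obtain ⟨v, hv, hvn⟩ : ∃ v ∈ K, v ∉ (K ⊓ mulSub c K) ⊔ (K ⊓ mulSub (1 + c) K) :=
      SetLike.not_le_iff_exists.1 fun hle' => h (le_antisymm (sup_le inf_le_left inf_le_left) hle')
    refine not_isBin (hTor hS s) (hTor hS s') (uS hS 0 v) (uS hS 0 v) (uS hS 0 v) hv hv hv ?_ ?_
    · rw [hconj, hconj, hadd, hs, hs']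
      congr 1
      linear_combination (-c * v) * two hS
    · intro d e hd hds he hes heq
      obtain ⟨δ, rfl, hδ⟩ := hst s d hd hds
      obtain ⟨ε, rfl, hε⟩ := hst s' e he hes
      rw [hadd] at heq
      obtain ⟨-, e1⟩ := uS_injective hS heq
      rw [hs] at hδ; rw [hs'] at hε
      exact hvn (AddSubgroup.mem_sup.2 ⟨δ, hδ, ε, hε, e1.symm⟩)
  · obtain ⟨v, hv, hvn⟩ : ∃ v ∈ (K ⊔ mulSub c⁻¹ K) ⊓ (K ⊔ mulSub (1 + c)⁻¹ K), v ∉ K :=
      SetLike.not_le_iff_exists.1 fun hle' => h (le_antisymm hle' (le_inf le_sup_left le_sup_left))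
    obtain ⟨hv1, hv2⟩ := AddSubgroup.mem_inf.1 hv
    obtain ⟨k₁, hk₁, w₁, hw₁, he₁⟩ := AddSubgroup.mem_sup.1 hv1
    obtain ⟨k₂, hk₂, w₂, hw₂, he₂⟩ := AddSubgroup.mem_sup.1 hv2
    obtain ⟨p, hp, rfl⟩ := mem_mulSub.1 hw₁
    obtain ⟨r, hr, rfl⟩ := mem_mulSub.1 hw₂
    refine not_isBin (hTor hS t) (hTor hS t') (uS hS 0 (k₁ + k₂)) (uS hS 0 p) (uS hS 0 r)
      ((hK _).1 (K.add_mem hk₁ hk₂)) hp hr ?_ ?_
    · rw [hconj, hconj, hadd, ht, ht']
      congr 1
      linear_combination he₁ + he₂ + (v - c⁻¹ * p - (1 + c)⁻¹ * r) * two hS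
    · intro d e hd hds he hes heq
      obtain ⟨δ, rfl, hδ⟩ := hst t d hd hds
      obtain ⟨ε, rfl, hε⟩ := hst t' e he hes
      rw [hadd] at heq
      obtain ⟨-, e1⟩ := uS_injective hS heq
      rw [ht] at hδ; rw [ht'] at hε
      obtain ⟨hδK, hδc⟩ := AddSubgroup.mem_inf.1 hδ
      obtain ⟨hεK, hεc⟩ := AddSubgroup.mem_inf.1 hε
      obtain ⟨δ', hδ', rfl⟩ := mem_mulSub.1 hδc
      obtain ⟨ε', hε', rfl⟩ := mem_mulSub.1 hεc
      have e2 : c⁻¹ * (p + δ') = (1 + c)⁻¹ * (r + ε') := by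
        linear_combination he₁ - he₂ + e1 + (c⁻¹ * δ' - k₁) * two hS
      have e3 : c⁻¹ * (p + δ') = (p + δ') + (r + ε') := by
        field_simp at e2 ⊢
        linear_combination e2 - (c * (p + δ')) * two hS
      have hcp : c⁻¹ * p ∈ K := by
        rw [show c⁻¹ * p = c⁻¹ * (p + δ') - c⁻¹ * δ' by ring, e3]
        exact K.sub_mem (K.add_mem (K.add_mem hp hδ') (K.add_mem hr hε')) hδK
      exact hvn (he₁ ▸ K.add_mem hk₁ hcp)

end suzuki

end Cfsg.Agent.SzBin
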