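import Mathlib
import Cfsg.Agent.Lib.Classical.PSLBinaryBasic
import Cfsg.Agent.Lib.Classical.SzBinaryCenter

/-!
Coset actions of `PSL(2, q)` on the cosets of subgroups of a Borel subgroup, and of subgroups all of
whose elements are rational over a subfield, that are not binary.
-/

set_option autoImplicit false

namespace Cfsg.Agent.PSLBin

open Matrix Cfsg.Agent.Grp.SL2 Cfsg.Agent.PSL2Spec Cfsg.Agent.Dickson Cfsg.Agent.Dickson.ClassProd
  Cfsg.Agent.BinAct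

variable {F : Type*} [Field F] [Fintype F]

local notation "SL₂" => Matrix.SpecialLinearGroup (Fin 2) F
local notation "PSL₂" => Matrix.ProjectiveSpecialLinearGroup (Fin 2) F
local notation "M₂" => Matrix (Fin 2) (Fin 2) F

theorem mem_stab_proj {H : Subgroup PSL₂} {g y : SL₂} :
    proj y ∈ stab H (proj g) ↔ proj (g⁻¹ * y * g) ∈ H := by
  rw [mem_stab, map_mul, map_mul, map_inv]

/-- The witness attached to a split semisimple element. -/
theorem not_isBin_split {H : Subgroup PSL₂} {z : Fˣ} (ht : proj (dg z) ∈ H) (c : F)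
    (hn : proj (up (c / (z : F) ^ 4 - c)) ∉ H)
    (hD : ∀ y : SL₂, proj y ∈ H → proj ((up c)⁻¹ * y * up c) ∈ H →
      proj ((up (-(c / (z : F) ^ 2)))⁻¹ * y * up (-(c / (z : F) ^ 2))) ∈ H) : ¬ IsBin H := by
  have hz := z.ne_zero
  have hcj : ∀ e : F, (up e : SL₂) * dg z * (up e)⁻¹ = dg z * up (e / (z : F) ^ 2 - e) := fun e => by
    have h := up_conj e 0 z
    rwa [up_zero, mul_one, add_zero] at h
  have key : ((up c : SL₂) * dg z * (up c)⁻¹) *
      (up (-(c / (z : F) ^ 2)) * dg z * (up (-(c / (z : F) ^ 2)))⁻¹) = dg z * dg z := by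
    rw [hcj, hcj]
    calc (dg z : SL₂) * up (c / (z : F) ^ 2 - c) *
          (dg z * up (-(c / (z : F) ^ 2) / (z : F) ^ 2 - -(c / (z : F) ^ 2)))
        = dg z * (up (c / (z : F) ^ 2 - c) * dg z) * up (-(c / (z : F) ^ 2) / (z : F) ^ 2 - -(c / (z : F) ^ 2)) := by
          group
      _ = dg z * dg z * up 0 := by
          rw [up_mul_dg]
          simp only [mul_assoc]
          rw [up_mul]
          refine congrArg (fun e => dg z * (dg z * up e)) ?_
          field_simp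
          ring
      _ = _ := by rw [up_zero, mul_one]
  refine not_isBin_of_le (proj (up c)) (proj (up (-(c / (z : F) ^ 2)))) (proj (dg z)) (proj (dg z)) ht ht
    ?_ ?_ ?_
  · simp only [← map_inv, ← map_mul, key]
    rw [map_mul]
    exact mul_mem ht ht
  · intro g hg hga
    obtain ⟨y, rfl⟩ := proj_surjective g
    rw [mem_stab_proj] at hga ⊢
    exact hD y hg hga
  · simp only [← map_inv, ← map_mul]
    rw [mem_stab_proj]
    intro hmem
    refine hn ?_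
    have e : (up (-(c / (z : F) ^ 2)) : SL₂)⁻¹ * (up c * dg z * (up c)⁻¹) * up (-(c / (z : F) ^ 2)) =
        dg z * up (c / (z : F) ^ 4 - c) := by
      rw [hcj, show (up (-(c / (z : F) ^ 2)) : SL₂)⁻¹ = up (c / (z : F) ^ 2) by rw [up_inv, neg_neg],
        show (up (-(c / (z : F) ^ 2)) : SL₂) = (up (c / (z : F) ^ 2))⁻¹ by rw [up_inv], up_conj]
      refine congrArg (fun e => dg z * up e) ?_
      field_simp
      ring
    rw [e, map_mul] at hmem
    exact (H.mul_mem_cancel_left ht).1 hmem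

/-- The translations in a subgroup. -/
def kSub (H : Subgroup PSL₂) : AddSubgroup F where
  carrier := {s | proj (up s) ∈ H}
  zero_mem' := by show proj (up (0 : F)) ∈ H; rw [up_zero, map_one]; exact one_mem H
  add_mem' := fun {r s} hr hs => by
    show proj (up (r + s)) ∈ H
    rw [← up_mul, map_mul]; exact mul_mem hr hs
  neg_mem' := fun {r} hr => by
    show proj (up (-r)) ∈ H
    rw [← up_inv, map_inv]; exact inv_mem hr

theorem mem_kSub {H : Subgroup PSL₂} {s : F} : s ∈ kSub H ↔ proj (up s) ∈ H := Iff.rfl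

theorem kSub_conj {H : Subgroup PSL₂} {α : Fˣ} {b : F} (h : proj (dg α * up b) ∈ H) {e : F}
    (he : e ∈ kSub H) : (α : F) ^ 2 * e ∈ kSub H := by
  have e1 : (dg α * up b) * up e * (dg α * up b)⁻¹ = (up ((α : F) ^ 2 * e) : SL₂) := by
    rw [conj_up (dg_up_10 α b), dg_up_00]
  rw [mem_kSub, ← e1, map_mul, map_mul, map_inv]
  exact mul_mem (mul_mem h he) (inv_mem h)

theorem kSub_sub {H : Subgroup PSL₂} {α : Fˣ} {b b' : F} (h : proj (dg α * up b) ∈ H)
    (h' : proj (dg α * up b') ∈ H) : b' - b ∈ kSub H := by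
  rw [mem_kSub, show (up (b' - b) : SL₂) = (dg α * up b)⁻¹ * (dg α * up b') by
    rw [_root_.mul_inv_rev, mul_assoc, inv_mul_cancel_left, up_inv, up_mul]; ring_nf, map_mul, map_inv]
  exact mul_mem (inv_mem h) h'

/-- All elements are upper triangular. -/
def Upper (H : Subgroup PSL₂) : Prop := ∀ y : SL₂, proj y ∈ H → y.1 1 0 = 0

theorem Upper.decomp {H : Subgroup PSL₂} (hB : Upper H) {g : PSL₂} (hg : g ∈ H) :
    ∃ (α : Fˣ) (b : F), g = proj (dg α * up b) := by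
  obtain ⟨y, rfl⟩ := proj_surjective g
  obtain ⟨α, b, rfl⟩ := upper_eq (hB y hg)
  exact ⟨α, b, rfl⟩

/-- Subgroups of a Borel subgroup with a split torus part but not all translations. -/
theorem not_isBin_borel_split {H : Subgroup PSL₂} (hB : Upper H) {z : Fˣ} {b : F}
    (hy : proj (dg z * up b) ∈ H) (hz : (z : F) ^ 4 ≠ 1) (hK : kSub H ≠ ⊤) : ¬ IsBin H := by
  have hz0 := z.ne_zero
  have hz2 : 1 - ((z : F) ^ 2)⁻¹ ≠ 0 := fun e => hz (by
    have : (z : F) ^ 2 = 1 := inv_eq_one.1 (sub_eq_zero.1 e).symm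
    linear_combination ((z : F) ^ 2 + 1) * this)
  set r := b / (1 - ((z : F) ^ 2)⁻¹) with hr
  rw [← isBin_conj_iff H (proj (up r))]
  set H' := H.map (MulAut.conj (proj (up r))).toMonoidHom
  have hm : ∀ y : SL₂, proj y ∈ H' ↔ proj ((up r)⁻¹ * y * up r) ∈ H := fun y =>
    mem_stab_proj (H := H) (g := up r) (y := y)
  have hB' : Upper H' := by
    intro y hy'
    have h1 := hB _ ((hm y).1 hy')
    obtain ⟨α, c, hαc⟩ := upper_eq h1
    rw [show y = up r * ((up r)⁻¹ * y * up r) * (up r)⁻¹ by group, hαc, up_conj, dg_up_10]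
  have hK' : kSub H' = kSub H := by
    ext s
    rw [mem_kSub, mem_kSub, hm, mul_assoc, up_mul, up_inv, up_mul, show -r + (s + r) = s by ring]
  have ht : proj (dg z) ∈ H' := by
    rw [hm]
    have e : ((up r : SL₂))⁻¹ * dg z * up r = dg z * up b := by
      have h := up_conj (-r) 0 z
      rw [up_zero, mul_one, add_zero, up_inv, neg_neg, ← up_inv] at h
      rw [h]
      refine congrArg (fun e => dg z * up e) ?_
      have hne : (-1 + (z : F) ^ 2) ≠ 0 := fun e => hz (by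
        linear_combination ((z : F) ^ 2 + 1) * e)
      rw [hr]
      have h1 : b / (1 - ((z : F) ^ 2)⁻¹) = b * (z : F) ^ 2 / (-1 + (z : F) ^ 2) := by
        rw [div_eq_div_iff hz2 hne, mul_sub, mul_one, mul_assoc b, mul_inv_cancel₀ (pow_ne_zero 2 hz0)]
        ring
      rw [h1]
      field_simp
      ring
    rwa [e]
  obtain ⟨c₀, hc₀⟩ : ∃ c₀, c₀ ∉ kSub H' := by
    by_contra h
    push Not at h
    exact hK (hK' ▸ (AddSubgroup.eq_top_iff' _).2 h)
  have hz4 : ((z : F) ^ 4)⁻¹ - 1 ≠ 0 := fun e => hz (inv_eq_one.1 (sub_eq_zero.1 e))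
  refine not_isBin_split ht (c₀ / (((z : F) ^ 4)⁻¹ - 1)) ?_ ?_
  · rw [← mem_kSub]
    convert hc₀ using 2
    generalize hw : ((z : F) ^ 4)⁻¹ = w at hz4 ⊢
    rw [div_eq_mul_inv _ ((z : F) ^ 4), hw]
    field_simp
  · intro y hy' hya
    obtain ⟨α, β, rfl⟩ := upper_eq (hB' y hy')
    generalize c₀ / (((z : F) ^ 4)⁻¹ - 1) = c at hya ⊢
    have hconj : ∀ e : F, ((up e : SL₂))⁻¹ * (dg α * up β) * up e =
        dg α * up (β + (e - e / (α : F) ^ 2)) := by
      intro e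
      have h := up_conj (-e) β α
      rw [up_inv, neg_neg, ← up_inv] at h
      rw [h]
      refine congrArg (fun e => dg α * up e) ?_
      ring
    rw [hconj] at hya ⊢
    have he : c - c / (α : F) ^ 2 ∈ kSub H' := by
      have := kSub_sub hy' hya
      rwa [add_sub_cancel_left] at this
    have hti : proj (dg z⁻¹ * up 0) ∈ H' := by
      rw [up_zero, mul_one, ← dg_inv, map_inv]; exact inv_mem ht
    have he2 := (kSub H').neg_mem (kSub_conj hti he)
    have e2 : -((((z⁻¹ : Fˣ) : F)) ^ 2 * (c - c / (α : F) ^ 2)) =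
        -(c / (z : F) ^ 2) - -(c / (z : F) ^ 2) / (α : F) ^ 2 := by
      rw [Units.val_inv_eq_inv_val, inv_pow]; ring
    rw [e2] at he2
    rw [show (dg α : SL₂) * up (β + (-(c / (z : F) ^ 2) - -(c / (z : F) ^ 2) / (α : F) ^ 2)) =
      (dg α * up β) * up (-(c / (z : F) ^ 2) - -(c / (z : F) ^ 2) / (α : F) ^ 2) by
        rw [mul_assoc, up_mul], map_mul]
    exact mul_mem hy' he2

/-- The lower entry of a conjugate of an upper triangular matrix. -/
theorem conj_upper_10 (g : SL₂) (α : Fˣ) (b : F) :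
    ((g⁻¹ * (dg α * up b) * g : SL₂)).1 1 0 =
      g.1 1 0 * (g.1 0 0 * ((α : F)⁻¹ - α) - (α : F) * b * g.1 1 0) := by
  rw [Matrix.SpecialLinearGroup.coe_mul, Matrix.SpecialLinearGroup.coe_mul,
    Matrix.SpecialLinearGroup.coe_inv, dg_up_coe, Matrix.adjugate_fin_two]
  simp [Matrix.mul_apply, Fin.sum_univ_two]
  ring

theorem fix_of_conj {g : SL₂} {α : Fˣ} {b : F} (hg : g.1 1 0 ≠ 0)
    (h : ((g⁻¹ * (dg α * up b) * g : SL₂)).1 1 0 = 0) :
    b = g.1 0 0 / g.1 1 0 * (((α : F) ^ 2)⁻¹ - 1) := by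
  rw [conj_upper_10] at h
  have h' := (mul_eq_zero.1 h).resolve_left hg
  have hα := α.ne_zero
  field_simp at h' ⊢
  linear_combination -h'

/-- Subgroups of a Borel subgroup in odd characteristic whose torus part has order at most two. -/
theorem not_isBin_borel_odd {H : Subgroup PSL₂} (h2 : (2 : F) ≠ 0) (hB : Upper H)
    (hT : ∀ (α : Fˣ) (b : F), proj (dg α * up b) ∈ H → (α : F) ^ 4 = 1)
    {v : F} (hv0 : v ≠ 0) (hv : proj (up v) ∈ H) (r : F)
    (hr : ∀ α : Fˣ, (α : F) ^ 2 = -1 → proj (dg α * up (-2 * r)) ∉ H) : ¬ IsBin H := by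
  obtain ⟨g₁, hg₁⟩ : ∃ g : SL₂, (g : M₂) = !![0, -(v / 2); 2 / v, 0] :=
    ⟨⟨!![0, -(v / 2); 2 / v, 0], by rw [Matrix.det_fin_two_of]; field_simp; ring⟩, rfl⟩
  obtain ⟨g₂, hg₂⟩ : ∃ g : SL₂, (g : M₂) = !![1, 0; -(2 / v), 1] :=
    ⟨⟨!![1, 0; -(2 / v), 1], by simp [Matrix.det_fin_two]⟩, rfl⟩
  have key : (g₁ * up (-v) * g₁⁻¹) * (g₂ * up (-v) * g₂⁻¹) = -(up v : SL₂) := by
    refine Subtype.ext ?_
    simp only [Matrix.SpecialLinearGroup.coe_mul, Matrix.SpecialLinearGroup.coe_inv,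
      Matrix.SpecialLinearGroup.coe_neg, hg₁, hg₂, up_coe, Matrix.adjugate_fin_two_of]
    ext i j
    fin_cases i <;> fin_cases j <;> simp <;> field_simp <;> ring
  have he : proj (up v) = (proj (up r * g₁) * proj (up (-v)) * (proj (up r * g₁))⁻¹) *
      (proj (up r * g₂) * proj (up (-v)) * (proj (up r * g₂))⁻¹) := by
    simp only [← map_inv, ← map_mul]
    rw [show up r * g₁ * up (-v) * (up r * g₁)⁻¹ * (up r * g₂ * up (-v) * (up r * g₂)⁻¹) =
      up r * ((g₁ * up (-v) * g₁⁻¹) * (g₂ * up (-v) * g₂⁻¹)) * (up r)⁻¹ by group, key]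
    rw [show up r * -(up v : SL₂) * (up r)⁻¹ = -(up r * up v * (up r)⁻¹) by
      rw [mul_neg, neg_mul], proj_neg, (commute_up r v).eq, mul_inv_cancel_right]
  have hvn : proj (up (-v)) ∈ H := by rw [← up_inv, map_inv]; exact inv_mem hv
  refine not_isBin _ _ _ _ _ hv hvn hvn he fun d e hd hda he' heb hde => ?_
  obtain ⟨α, β, rfl⟩ := hB.decomp hd
  obtain ⟨α', β', rfl⟩ := hB.decomp he'
  rw [mem_stab_proj] at hda heb
  have a10 : ((up r * g₁ : SL₂)).1 1 0 = 2 / v ∧ ((up r * g₁ : SL₂)).1 0 0 = r * (2 / v) := by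
    rw [Matrix.SpecialLinearGroup.coe_mul, hg₁, up_coe]; simp
  have b10 : ((up r * g₂ : SL₂)).1 1 0 = -(2 / v) ∧ ((up r * g₂ : SL₂)).1 0 0 = 1 - r * (2 / v) := by
    rw [Matrix.SpecialLinearGroup.coe_mul, hg₂, up_coe]; simp [sub_eq_add_neg]
  have hβ := fix_of_conj (by rw [a10.1]; exact div_ne_zero h2 hv0) (hB _ hda)
  have hβ' := fix_of_conj (by rw [b10.1]; exact neg_ne_zero.2 (div_ne_zero h2 hv0)) (hB _ heb)
  rw [a10.1, a10.2, mul_div_assoc, div_self (div_ne_zero h2 hv0), mul_one] at hβ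
  rw [b10.1, b10.2] at hβ'
  have hα4 := hT α β hd
  have hα2 : (α : F) ^ 2 = 1 := by
    rcases mul_self_eq_one_iff.1 (show (α : F) ^ 2 * (α : F) ^ 2 = 1 by linear_combination hα4) with h | h
    · exact h
    · exfalso
      refine hr α h ?_
      rw [h] at hβ
      rw [show -2 * r = β by rw [hβ]; rw [inv_neg, inv_one]; ring]
      exact hd
  rw [hα2, inv_one, sub_self, mul_zero] at hβ
  have hd1 : proj (dg α * up β) = 1 := by
    rw [hβ, up_zero, mul_one, proj_one_iff]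
    rcases mul_self_eq_one_iff.1 (show (α : F) * α = 1 by rw [← sq]; exact hα2) with h | h
    · exact Or.inl (by rw [show α = 1 from Units.ext h, dg_one])
    · exact Or.inr (by rw [show α = -1 from Units.ext (by simpa using h), dg_neg, dg_one])
  rw [hd1, one_mul] at hde
  rcases proj_eq_iff.1 hde with h | h
  · have hu : (up v : SL₂) = dg 1 * up v := by rw [dg_one, one_mul]
    rw [hu] at h
    obtain ⟨rfl, rfl⟩ := dg_up_injective h
    rw [Units.val_one, one_pow, inv_one, sub_self, mul_zero] at hβ'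
    exact hv0 hβ'
  · have hu : -(up v : SL₂) = dg (-1) * up v := by rw [dg_neg, dg_one, neg_one_mul]
    rw [hu] at h
    obtain ⟨rfl, rfl⟩ := dg_up_injective h
    rw [Units.val_neg, Units.val_one, neg_one_sq, inv_one, sub_self, mul_zero] at hβ'
    exact hv0 hβ'

/-- Subgroups containing a full root group and at least three scalars in the torus. -/
theorem not_isBin_borel_full {H : Subgroup PSL₂} (hB : Upper H) (hU : ∀ s : F, proj (up s) ∈ H)
    {s s' r : Fˣ} (hs : proj (dg s) ∈ H) (hs' : proj (dg s') ∈ H) (hr : proj (dg r) ∈ H)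
    (h1 : s ≠ s') (h2 : s ≠ r) (h3 : s' ≠ r) : ¬ IsBin H := by
  have hcol : ∀ (A B k : SL₂), proj k • (QuotientGroup.mk (proj A) : PSL₂ ⧸ H) = QuotientGroup.mk (proj B) ↔
      ∃ τ : Fˣ, proj (dg τ) ∈ H ∧ (k * A).1 0 0 = τ * B.1 0 0 ∧ (k * A).1 1 0 = τ * B.1 1 0 := by
    intro A B k
    rw [smul_mk_eq_iff, mul_assoc, ← map_inv, ← map_mul, ← map_mul]
    set X := k * A
    have d := det_eq B
    have e10 : (B⁻¹ * X).1 1 0 = B.1 0 0 * X.1 1 0 - B.1 1 0 * X.1 0 0 := inv_mul_lower B X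
    constructor
    · intro h
      obtain ⟨τ, b, hτ⟩ := upper_eq (hB _ h)
      refine ⟨τ, ?_, ?_⟩
      · rw [show (dg τ : SL₂) = (B⁻¹ * X) * (up b)⁻¹ by rw [hτ, mul_inv_cancel_right], map_mul, map_inv]
        exact mul_mem h (inv_mem (hU b))
      · have e : X = B * (dg τ * up b) := by rw [← hτ, mul_inv_cancel_left]
        rw [e, Matrix.SpecialLinearGroup.coe_mul, dg_up_coe]
        constructor <;> simp [Matrix.mul_apply, Fin.sum_univ_two, mul_comm]
    · rintro ⟨τ, hτ, h0, h1'⟩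
      obtain ⟨τ', b, hτ'⟩ := upper_eq (y := B⁻¹ * X) (by rw [e10, h0, h1']; ring)
      have e00 := congrFun (congrFun (congrArg Subtype.val hτ') 0) 0
      rw [dg_up_00] at e00
      simp [Matrix.SpecialLinearGroup.coe_inv, Matrix.adjugate_fin_two, Matrix.mul_apply, Fin.sum_univ_two] at e00
      rw [h0, h1'] at e00
      have : τ' = τ := Units.ext (by linear_combination -e00 + (τ : F) * d)
      rw [hτ', this, map_mul]
      exact mul_mem hτ (hU b)
  set x : F := (r : F) - s' with hx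
  set y : F := (r : F) - s with hy
  have hx0 : x ≠ 0 := sub_ne_zero.2 fun e => h3 (Units.ext e.symm)
  have hy0 : y ≠ 0 := sub_ne_zero.2 fun e => h2 (Units.ext e.symm)
  have hone : proj (dg (1 : Fˣ)) ∈ H := by rw [dg_one, map_one]; exact one_mem H
  have hinv : ∀ {t : Fˣ}, proj (dg t) ∈ H → proj (dg t⁻¹) ∈ H := fun {t} ht => by
    rw [← dg_inv, map_inv]; exact inv_mem ht
  obtain ⟨A₂, hA₂⟩ : ∃ g : SL₂, (g : M₂) = !![0, -1; 1, 0] :=
    ⟨⟨!![0, -1; 1, 0], by simp [Matrix.det_fin_two]⟩, rfl⟩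
  obtain ⟨A₃, hA₃⟩ : ∃ g : SL₂, (g : M₂) = !![1, 0; 1, 1] :=
    ⟨⟨!![1, 0; 1, 1], by simp [Matrix.det_fin_two]⟩, rfl⟩
  obtain ⟨A₄, hA₄⟩ : ∃ g : SL₂, (g : M₂) = !![x, 0; y, x⁻¹] :=
    ⟨⟨!![x, 0; y, x⁻¹], by simp [Matrix.det_fin_two, hx0]⟩, rfl⟩
  obtain ⟨B₄, hB₄⟩ : ∃ g : SL₂, (g : M₂) = !![x * (s : F), 0; y * (s' : F), (x * (s : F))⁻¹] :=
    ⟨⟨!![x * (s : F), 0; y * (s' : F), (x * (s : F))⁻¹], by simp [Matrix.det_fin_two, mul_inv_cancel₀ (mul_ne_zero hx0 s.ne_zero)]; field_simp⟩, rfl⟩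
  let I : Fin 4 → PSL₂ ⧸ H := ![QuotientGroup.mk (proj 1), QuotientGroup.mk (proj A₂),
    QuotientGroup.mk (proj A₃), QuotientGroup.mk (proj A₄)]
  let J : Fin 4 → PSL₂ ⧸ H := ![QuotientGroup.mk (proj 1), QuotientGroup.mk (proj A₂),
    QuotientGroup.mk (proj A₃), QuotientGroup.mk (proj B₄)]
  have hs0 := s.ne_zero
  have hs0' := s'.ne_zero
  have hr0 := r.ne_zero
  have pid : ∀ i j : Fin 4, i ≠ 3 → j ≠ 3 → ∃ g : PSL₂, g • I i = J i ∧ g • I j = J j := fun i j hi hj => by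
    refine ⟨1, ?_, ?_⟩ <;> rw [one_smul]
    · fin_cases i <;> first | rfl | exact absurd rfl hi
    · fin_cases j <;> first | rfl | exact absurd rfl hj
  have p0 : ∃ g : PSL₂, g • I 0 = J 0 ∧ g • I 3 = J 3 := by
    obtain ⟨k, hk⟩ : ∃ k : SL₂, (k : M₂) = !![(s' : F)⁻¹, x * ((s : F) - (s' : F)⁻¹) / y; 0, (s' : F)] :=
      ⟨⟨!![(s' : F)⁻¹, x * ((s : F) - (s' : F)⁻¹) / y; 0, (s' : F)], by simp [Matrix.det_fin_two]⟩, rfl⟩
    refine ⟨proj k, (hcol _ _ _).2 ⟨s'⁻¹, hinv hs', ?_, ?_⟩, (hcol _ _ _).2 ⟨1, hone, ?_, ?_⟩⟩ <;>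
      simp [hk, hA₄, hB₄, Matrix.mul_apply, Fin.sum_univ_two]
    · field_simp; ring
    · ring
  have p1 : ∃ g : PSL₂, g • I 1 = J 1 ∧ g • I 3 = J 3 := by
    obtain ⟨k, hk⟩ : ∃ k : SL₂, (k : M₂) = !![(s : F), 0; y * ((s' : F) - (s : F)⁻¹) / x, (s : F)⁻¹] :=
      ⟨⟨!![(s : F), 0; y * ((s' : F) - (s : F)⁻¹) / x, (s : F)⁻¹], by simp [Matrix.det_fin_two]⟩, rfl⟩
    refine ⟨proj k, (hcol _ _ _).2 ⟨s⁻¹, hinv hs, ?_, ?_⟩, (hcol _ _ _).2 ⟨1, hone, ?_, ?_⟩⟩ <;>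
      simp [hk, hA₂, hA₄, hB₄, Matrix.mul_apply, Fin.sum_univ_two]
    · ring
    · field_simp; ring
  have hyx : y - x ≠ 0 := by
    rw [hx, hy]; intro e; exact h1 (Units.ext (by linear_combination -e))
  have p2 : ∃ g : PSL₂, g • I 2 = J 2 ∧ g • I 3 = J 3 := by
    obtain ⟨β, hβ⟩ : ∃ β, β * (y - x) = x * ((s : F) - (r : F)⁻¹) := ⟨_, div_mul_cancel₀ _ hyx⟩
    obtain ⟨k, hk⟩ : ∃ k : SL₂, (k : M₂) =
        !![(r : F)⁻¹ - β, β; (r : F)⁻¹ - β - (r : F), β + (r : F)] := by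
      refine ⟨⟨!![(r : F)⁻¹ - β, β; (r : F)⁻¹ - β - (r : F), β + (r : F)], ?_⟩, rfl⟩
      rw [Matrix.det_fin_two_of]; field_simp; ring
    refine ⟨proj k, (hcol _ _ _).2 ⟨r⁻¹, hinv hr, ?_, ?_⟩, (hcol _ _ _).2 ⟨1, hone, ?_, ?_⟩⟩ <;>
      simp [hk, hA₃, hA₄, hB₄, Matrix.mul_apply, Fin.sum_univ_two]
    · linear_combination hβ
    · rw [hx, hy] at hβ ⊢; linear_combination hβ
  intro hb
  obtain ⟨g, hg⟩ := hb 4 I J (by norm_num) (fun i j hij => by
    have sym : ∀ {i j : Fin 4}, (∃ g : PSL₂, g • I i = J i ∧ g • I j = J j) →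
        ∃ g : PSL₂, g • I j = J j ∧ g • I i = J i := fun ⟨g, a, b⟩ => ⟨g, b, a⟩
    by_cases hi : i = 3
    · subst hi
      fin_cases j
      · exact sym p0
      · exact sym p1
      · exact sym p2
      · exact absurd rfl hij
    · by_cases hj : j = 3
      · subst hj
        fin_cases i
        · exact p0
        · exact p1
        · exact p2
        · exact absurd rfl hi
      · exact pid i j hi hj)
  obtain ⟨k, rfl⟩ := proj_surjective g
  obtain ⟨t₁, -, a0, a1⟩ := (hcol 1 1 k).1 (hg 0)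
  obtain ⟨t₂, -, b0, b1⟩ := (hcol A₂ A₂ k).1 (hg 1)
  obtain ⟨t₃, -, c0, c1⟩ := (hcol A₃ A₃ k).1 (hg 2)
  obtain ⟨σ, -, d0, d1⟩ := (hcol A₄ B₄ k).1 (hg 3)
  simp [hA₂, hA₃, hA₄, hB₄, Matrix.mul_apply, Fin.sum_univ_two] at a0 a1 b0 b1 c0 c1 d0 d1
  rw [a0, b0, add_zero] at c0
  rw [a1, b1, zero_add] at c1
  rw [a0, b0] at d0
  rw [a1, b1] at d1
  refine h1 (Units.ext (mul_left_cancel₀ σ.ne_zero ?_))
  have e0 : (σ : F) * s = t₁ := mul_left_cancel₀ hx0 (by linear_combination -d0)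
  have e1 : (σ : F) * s' = t₂ := mul_left_cancel₀ hy0 (by linear_combination -d1)
  rw [e0, e1, c0, c1]

/-- Proper nontrivial elementary subgroups of a Sylow subgroup in characteristic two. -/
theorem not_isBin_borel_even {H : Subgroup PSL₂} (h2 : (2 : F) = 0) (hB : Upper H)
    (hT : ∀ (α : Fˣ) (b : F), proj (dg α * up b) ∈ H → α = 1) (hKtop : kSub H ≠ ⊤) (hbot : H ≠ ⊥) :
    ¬ IsBin H := by
  classical
  haveI : CharP F 2 := CharTwo.of_one_ne_zero_of_two_eq_zero one_ne_zero h2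
  haveI : Fact (Nat.Prime 2) := ⟨Nat.prime_two⟩
  set K := kSub H
  have hdec : ∀ g ∈ H, ∃ b ∈ K, g = proj (up b) := by
    intro g hg
    obtain ⟨α, b, rfl⟩ := hB.decomp hg
    obtain rfl := hT α b hg
    rw [dg_one, one_mul] at hg ⊢
    exact ⟨b, hg, rfl⟩
  have hKbot : K ≠ ⊥ := fun e => hbot ((Subgroup.eq_bot_iff_forall H).2 fun g hg => by
    obtain ⟨b, hb, rfl⟩ := hdec g hg
    rw [e, AddSubgroup.mem_bot] at hb
    rw [hb, up_zero, map_one])
  obtain ⟨n, -, hn⟩ := FiniteField.card F 2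
  obtain ⟨k, hk, hkc⟩ := (Nat.dvd_prime_pow Nat.prime_two).1 (show Nat.card K ∣ 2 ^ (n : ℕ) by
    rw [← hn, ← Nat.card_eq_fintype_card]; exact AddSubgroup.card_addSubgroup_dvd_card K)
  have hx2 : 2 ≤ Nat.card K := (AddSubgroup.one_lt_card_iff_ne_bot K).2 hKbot
  have hxq : 2 * Nat.card K ≤ Fintype.card F := by
    rcases Nat.lt_or_ge k n with h | h
    · rw [hn, hkc, ← pow_succ']; exact Nat.pow_le_pow_right (by norm_num) h
    · refine absurd (AddSubgroup.eq_top_of_card_eq K ?_) hKtop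
      rw [hkc, Nat.card_eq_fintype_card, hn, le_antisymm hk h]
  obtain ⟨c, hc0, hc1, hor⟩ := SzBin.exists_pos K h2 hx2 hxq ⟨k, n, hkc, hn⟩
  have hd0 : (1 + c) ≠ 0 := fun e => hc1 (by linear_combination e - h2)
  have hunit : ∀ d : F, d ≠ 0 → ∃ u : Fˣ, (u : F) ^ 2 = d := fun d hd => by
    obtain ⟨s, hs⟩ := exists_sqrt d
    exact ⟨Units.mk0 s (fun e => hd (by rw [← hs, e, mul_zero])), by rw [Units.val_mk0, sq, hs]⟩
  have hconj : ∀ (u : Fˣ) (b : F),
      proj (dg u) * proj (up b) * (proj (dg u))⁻¹ = proj (up ((u : F) ^ 2 * b)) := fun u b => by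
    rw [← map_inv, ← map_mul, ← map_mul]
    have h := conj_up (g := dg u) (by simp [dg_coe]) b
    rw [h]
    simp [dg_coe]
  have hst : ∀ (u : Fˣ) (g : PSL₂), g ∈ H → g ∈ stab H (proj (dg u)) →
      ∃ e, g = proj (up e) ∧ e ∈ K ⊓ SzBin.mulSub ((u : F) ^ 2) K := by
    intro u g hg hgs
    obtain ⟨e, he, rfl⟩ := hdec g hg
    refine ⟨e, rfl, AddSubgroup.mem_inf.2 ⟨he, SzBin.mem_mulSub.2 ⟨e / (u : F) ^ 2, ?_, ?_⟩⟩⟩
    · rw [mem_stab] at hgs
      have h := hconj u (e / (u : F) ^ 2)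
      rw [mul_div_cancel₀ _ (pow_ne_zero 2 u.ne_zero)] at h
      rw [← h] at hgs
      rw [mem_kSub]
      simpa [mul_assoc] using hgs
    · rw [mul_div_cancel₀ _ (pow_ne_zero 2 u.ne_zero)]
  have hadd : ∀ e e' : F, proj (up e) * proj (up e') = proj (up (e + e')) := fun e e' => by
    rw [← map_mul, up_mul]
  have huinj : ∀ {e e' : F}, proj (up e) = proj (up e') → e = e' := fun {e e'} h => by
    have := congrFun (congrFun (congrArg Subtype.val (proj_injective h2 h)) 0) 1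
    simpa [up_coe] using this
  obtain ⟨s, hs⟩ := hunit c hc0
  obtain ⟨s', hs'⟩ := hunit (1 + c) hd0
  obtain ⟨t, ht⟩ := hunit c⁻¹ (inv_ne_zero hc0)
  obtain ⟨t', ht'⟩ := hunit (1 + c)⁻¹ (inv_ne_zero hd0)
  rcases hor with h | h
  · obtain ⟨v, hv, hvn⟩ : ∃ v ∈ K, v ∉ (K ⊓ SzBin.mulSub c K) ⊔ (K ⊓ SzBin.mulSub (1 + c) K) :=
      SetLike.not_le_iff_exists.1 fun hle' => h (le_antisymm (sup_le inf_le_left inf_le_left) hle')
    refine not_isBin (proj (dg s)) (proj (dg s')) (proj (up v)) (proj (up v)) (proj (up v)) hv hv hv ?_ ?_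
    · rw [hconj, hconj, hadd, hs, hs']
      congr 2
      linear_combination (-c * v) * h2
    · intro d e hd hds he hes heq
      obtain ⟨δ, rfl, hδ⟩ := hst s d hd hds
      obtain ⟨ε, rfl, hε⟩ := hst s' e he hes
      rw [hadd] at heq
      rw [hs] at hδ; rw [hs'] at hε
      exact hvn (AddSubgroup.mem_sup.2 ⟨δ, hδ, ε, hε, (huinj heq).symm⟩)
  · obtain ⟨v, hv, hvn⟩ : ∃ v ∈ (K ⊔ SzBin.mulSub c⁻¹ K) ⊓ (K ⊔ SzBin.mulSub (1 + c)⁻¹ K), v ∉ K :=
      SetLike.not_le_iff_exists.1 fun hle' => h (le_antisymm hle' (le_inf le_sup_left le_sup_left))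
    obtain ⟨hv1, hv2⟩ := AddSubgroup.mem_inf.1 hv
    obtain ⟨k₁, hk₁, w₁, hw₁, he₁⟩ := AddSubgroup.mem_sup.1 hv1
    obtain ⟨k₂, hk₂, w₂, hw₂, he₂⟩ := AddSubgroup.mem_sup.1 hv2
    obtain ⟨p, hp, rfl⟩ := SzBin.mem_mulSub.1 hw₁
    obtain ⟨q, hq, rfl⟩ := SzBin.mem_mulSub.1 hw₂
    refine not_isBin (proj (dg t)) (proj (dg t')) (proj (up (k₁ + k₂))) (proj (up p)) (proj (up q))
      (K.add_mem hk₁ hk₂) hp hq ?_ ?_
    · rw [hconj, hconj, hadd, ht, ht']
      congr 2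
      linear_combination he₁ + he₂ + (v - c⁻¹ * p - (1 + c)⁻¹ * q) * h2
    · intro d e hd hds he hes heq
      obtain ⟨δ, rfl, hδ⟩ := hst t d hd hds
      obtain ⟨ε, rfl, hε⟩ := hst t' e he hes
      rw [hadd] at heq
      have e1 := huinj heq
      rw [ht] at hδ; rw [ht'] at hε
      obtain ⟨hδK, hδc⟩ := AddSubgroup.mem_inf.1 hδ
      obtain ⟨hεK, hεc⟩ := AddSubgroup.mem_inf.1 hε
      obtain ⟨δ', hδ', rfl⟩ := SzBin.mem_mulSub.1 hδc
      obtain ⟨ε', hε', rfl⟩ := SzBin.mem_mulSub.1 hεc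
      have e2 : c⁻¹ * (p + δ') = (1 + c)⁻¹ * (q + ε') := by
        linear_combination he₁ - he₂ + e1 + (c⁻¹ * δ' - k₁) * h2
      have e3 : c⁻¹ * (p + δ') = (p + δ') + (q + ε') := by
        field_simp at e2 ⊢
        linear_combination e2 - (c * (p + δ')) * h2
      have hcp : c⁻¹ * p ∈ K := by
        rw [show c⁻¹ * p = c⁻¹ * (p + δ') - c⁻¹ * δ' by ring, e3]
        exact K.sub_mem (K.add_mem (K.add_mem hp hδ') (K.add_mem hq hε')) hδK
      exact hvn (he₁ ▸ K.add_mem hk₁ hcp)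

end Cfsg.Agent.PSLBin
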