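import Mathlib
import Cfsg.Agent.Lib.Classical.PSLBinaryBasic
import Cfsg.Agent.Lib.Classical.PSLBinaryUnip

/-!
Coset actions of `PSL(2, q)` on the cosets of cyclic and dihedral subgroups prime to the
characteristic that are not binary.
-/

set_option autoImplicit false

namespace Cfsg.Agent.PSLBin

open Matrix Cfsg.Agent.Grp.SL2 Cfsg.Agent.PSL2Spec Cfsg.Agent.Dickson Cfsg.Agent.Dickson.ClassProd
  Cfsg.Agent.BinAct

variable {F : Type*} [Field F] [Fintype F]

local notation "SL₂" => Matrix.SpecialLinearGroup (Fin 2) F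
local notation "PSL₂" => Matrix.ProjectiveSpecialLinearGroup (Fin 2) F
local notation "M₂" => Matrix (Fin 2) (Fin 2) F
local notation "cj" => Cfsg.Agent.Grp.SL2.conjHom

theorem mem_map_conj {G : Type*} [Group G] {H : Subgroup G} {g x : G} :
    x ∈ H.map (MulAut.conj g).toMonoidHom ↔ g⁻¹ * x * g ∈ H :=
  mem_stab

section involutions

/-- The lift of an involution in odd characteristic. -/
theorem tr_involution (h2 : (2 : F) ≠ 0) {X : SL₂} (h : proj X * proj X = 1) (h1 : proj X ≠ 1) :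
    X * X = -1 ∧ tr X = 0 := by
  have hns : ¬ IsScalar X := fun e => h1 (proj_one_iff.2 e)
  rw [← map_mul, proj_one_iff] at h
  have hXX := h.resolve_left fun e => hns (mul_self_eq_one h2 e)
  exact ⟨hXX, (mul_self_eq_neg_one hns).1 hXX⟩

/-- Involutions are conjugate in odd characteristic. -/
theorem invol_conj (h2 : (2 : F) ≠ 0) {x y : PSL₂} (hx : x * x = 1) (hx1 : x ≠ 1) (hy : y * y = 1)
    (hy1 : y ≠ 1) : ∃ g : PSL₂, g * x * g⁻¹ = y := by
  obtain ⟨X, rfl⟩ := proj_surjective x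
  obtain ⟨Y, rfl⟩ := proj_surjective y
  have h04 : (0 : F) ^ 2 ≠ 4 := by
    rw [show (4 : F) = 2 * 2 by norm_num]
    simpa [zero_pow] using (mul_ne_zero h2 h2).symm
  exact isConj_iff.1 (isConj_proj (tr_involution h2 hx hx1).2 h04 (Or.inl (tr_involution h2 hy hy1).2))

/-- An involution lies in a four-group. -/
theorem exists_quat_of_invol (h2 : (2 : F) ≠ 0) {s : PSL₂} (hs : s * s = 1) (hs1 : s ≠ 1) :
    ∃ (S Z : SL₂), Quat S Z ∧ proj S = s := by
  obtain ⟨x, y, h⟩ := exists_quat (F := F) (two_ne_zero_iff_odd.1 h2)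
  obtain ⟨g, hg⟩ := invol_conj h2 (Quat.sq_proj h.xx) (Quat.proj_ne_one h2 h.xx) hs hs1
  obtain ⟨G, rfl⟩ := proj_surjective g
  refine ⟨G * x * G⁻¹, G * y * G⁻¹, ⟨?_, ?_, ?_⟩, by rw [map_mul, map_mul, map_inv, hg]⟩
  · rw [show G * x * G⁻¹ * (G * x * G⁻¹) = G * (x * x) * G⁻¹ by group, h.xx]; simp
  · rw [show G * y * G⁻¹ * (G * y * G⁻¹) = G * (y * y) * G⁻¹ by group, h.yy]; simp
  · rw [show G * y * G⁻¹ * (G * x * G⁻¹) = G * (y * x) * G⁻¹ by group, h.yx,
      show G * x * G⁻¹ * (G * y * G⁻¹) = G * (x * y) * G⁻¹ by group]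
    simp

/-- A subgroup of order two in odd characteristic. -/
theorem not_isBin_two {H : Subgroup PSL₂} (h2 : (2 : F) ≠ 0) (hH : Nat.card H = 2) : ¬ IsBin H := by
  haveI : Nontrivial H := Finite.one_lt_card_iff_nontrivial.mp (by omega)
  obtain ⟨⟨s, hsH⟩, hs⟩ := exists_ne (1 : H)
  have hs1 : s ≠ 1 := fun e => hs (Subtype.ext e)
  have hss : s * s = 1 := by
    have h := pow_card_eq_one' (x := (⟨s, hsH⟩ : H))
    rw [hH] at h
    simpa [sq] using congrArg Subtype.val h
  have hall : ∀ d ∈ H, d = 1 ∨ d = s := by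
    intro d hd
    obtain ⟨z, hz, hu⟩ := (Nat.card_eq_two_iff' (1 : H)).1 hH
    by_cases h1 : d = 1
    · exact Or.inl h1
    · right
      have e1 := hu ⟨d, hd⟩ (fun e => h1 (congrArg Subtype.val e))
      have e2 := hu ⟨s, hsH⟩ (fun e => hs1 (congrArg Subtype.val e))
      exact congrArg Subtype.val (e1.trans e2.symm)
  obtain ⟨S, Z, hq, rfl⟩ := exists_quat_of_invol h2 hss hs1
  have hz := Quat.sq_proj (F := F) hq.yy
  have hz1 := Quat.proj_ne_one h2 hq.yy
  have hzs : proj Z * proj S ≠ (1 : PSL₂) := fun e => hq.ne h2 (by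
    rw [← mul_left_cancel (e.trans hz.symm)])
  have hzs2 : proj Z * proj S * (proj Z * proj S) = (1 : PSL₂) := by
    rw [mul_assoc, ← mul_assoc (proj S), ← hq.comm, mul_assoc (proj Z) (proj S), hss, mul_one, hz]
  obtain ⟨a, ha⟩ := invol_conj h2 hss hs1 hz hz1
  obtain ⟨b, hb⟩ := invol_conj h2 hss hs1 hzs2 hzs
  refine not_isBin a b (proj S) (proj S) (proj S) hsH hsH hsH (by rw [ha, hb, ← mul_assoc, hz, one_mul])
    fun d e hd hda he heb hde => ?_
  have key : ∀ (c t : PSL₂), c * proj S * c⁻¹ = t → t ≠ proj S → ∀ d ∈ H, d ∈ stab H c → d = 1 := by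
    intro c t hc hts d hd hdc
    refine (hall d hd).resolve_right fun e => hts ?_
    subst e
    rw [mem_stab] at hdc
    rcases hall _ hdc with h | h
    · exact absurd (by rw [← mul_inv_cancel c]; calc proj S = c * (c⁻¹ * proj S * c) * c⁻¹ := by group
          _ = c * c⁻¹ := by rw [h, mul_one]) hs1
    · rw [← hc]
      conv_lhs => rw [← h]
      group
  rw [key a _ ha (fun e => hq.ne h2 e.symm) d hd hda,
    key b _ hb (fun e => hz1 (mul_eq_right.1 e)) e he heb, one_mul] at hde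
  exact hs1 hde

theorem three_le_tor (p : ℕ) [Fact p.Prime] [CharP F p] (hodd : Odd (Fintype.card F))
    (h7 : 7 ≤ Fintype.card F) {a : PSL₂} (ha : a ≠ 1) (hap : a ^ p ≠ 1) : 3 ≤ Nat.card (tor a) := by
  have hd : del F = 2 := ((del_cases F).resolve_left fun h => Nat.not_even_iff_odd.2 hodd h.2).1
  rcases card_tor_semi p ha hap with e | e <;> rw [hd] at e <;> omega

/-- A four-group in odd characteristic. -/
theorem not_isBin_four (hodd : Odd (Fintype.card F)) (h7 : 7 ≤ Fintype.card F) {H : Subgroup PSL₂}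
    (hH : Nat.card H = 4) (hexp : ∀ x ∈ H, x * x = 1) : ¬ IsBin H := by
  obtain ⟨p, hc⟩ := CharP.exists F
  haveI : Fact p.Prime := ⟨CharP.char_is_prime F p⟩
  have h2 := two_ne_zero_of_odd_card hodd
  set D := pslData (F := F) p
  have hkl : ∀ K : Subgroup PSL₂, Nat.card K = 4 → (∀ x ∈ K, x * x = 1) → IsKleinFour K := by
    intro K hK he
    haveI : Nontrivial K := Finite.one_lt_card_iff_nontrivial.mp (by omega)
    exact ⟨hK, Monoid.exponent_eq_prime_iff Nat.prime_two |>.2 fun g hg =>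
      orderOf_eq_prime (Subtype.ext (by simpa [sq] using he g g.2)) hg⟩
  obtain ⟨X, Y, hq, rfl⟩ := exists_quat_of_isKleinFour hodd (hkl H hH hexp)
  set a : PSL₂ := proj X
  set b : PSL₂ := proj Y
  have haa : a * a = 1 := Quat.sq_proj hq.xx
  have ha1 : a ≠ 1 := Quat.proj_ne_one h2 hq.xx
  have hap : a ^ p ≠ 1 := (involution_semi p hodd (orderOf_eq_prime (by rw [sq, haa]) ha1)).2.1
  have haH : a ∈ hq.klein := Or.inr (Or.inl rfl)
  obtain ⟨g, hgN, hgT⟩ := exists_flip p ha1 hap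
  obtain ⟨t, ht1, htp, hto, htT⟩ := exists_generator p ha1 hap
  have ht : t ∈ tor a := htT ▸ D.self t
  have hflip : ∀ g, g ∈ Subgroup.normalizer (tor a : Set PSL₂) → g ∉ tor a → g * g = 1 ∧ Commute g a := by
    intro g hg hgn
    obtain ⟨h1, hi⟩ := D.semi_flip ha1 hap ((D.mem_normalizer_iff ha1).1 hg) hgn
    refine ⟨h1, mul_inv_eq_iff_eq_mul.1 ?_⟩
    rw [hi a (D.self a)]
    exact inv_eq_of_mul_eq_one_right haa
  obtain ⟨r, hrN, hrT, hrH⟩ : ∃ r, r ∈ Subgroup.normalizer (tor a : Set PSL₂) ∧ r ∉ tor a ∧ r ∉ hq.klein := by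
    by_cases hg : g ∈ hq.klein
    · refine ⟨g * t, mul_mem hgN (Subgroup.le_normalizer ht), fun h => hgT ((Subgroup.mul_mem_cancel_right _ ht).1 h),
        fun h => ?_⟩
      have htH : t ∈ hq.klein := (Subgroup.mul_mem_cancel_left _ hg).1 h
      have := Nat.le_of_dvd two_pos (orderOf_dvd_of_pow_eq_one (show t ^ 2 = 1 by rw [sq]; exact hexp t htH))
      have := three_le_tor p hodd h7 ha1 hap
      omega
    · exact ⟨g, hgN, hgT, hg⟩
  obtain ⟨hrr, hra⟩ := hflip r hrN hrT
  have hr1 : r ≠ 1 := fun e => hrH (e ▸ one_mem _)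
  have har : a * r ∉ hq.klein := fun h => hrH ((Subgroup.mul_mem_cancel_left _ haH).1 h)
  have har2 : a * r * (a * r) = 1 := by
    rw [mul_assoc, ← mul_assoc r, hra.eq, mul_assoc a r, hrr, mul_one, haa]
  have hara : Commute (a * r) a := (Commute.refl a).mul_left hra
  -- a conjugate of the four-group through the involution, avoiding `a`
  have key : ∀ c : PSL₂, c * c = 1 → c ∉ hq.klein → Commute c a →
      ∃ u x, x ∈ hq.klein ∧ u * x * u⁻¹ = c ∧ ∀ d ∈ hq.klein, d ∈ stab hq.klein u → d = 1 := by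
    intro c hcc hcH hca
    have hc1 : c ≠ 1 := fun e => hcH (e ▸ one_mem _)
    obtain ⟨g₀, hg₀⟩ := invol_conj h2 haa ha1 hcc hc1
    have hu : ∃ u, u * a * u⁻¹ = c ∧ a ∉ stab hq.klein u := by
      by_contra hne
      push Not at hne
      set K := stab hq.klein g₀
      have hKc : Nat.card K = 4 :=
        (Subgroup.card_map_of_injective (MulAut.conj g₀).injective).trans hH
      have hKe : ∀ x ∈ K, x * x = 1 := fun x hx => by
        have := hexp _ (mem_stab.1 hx)
        calc x * x = g₀ * ((g₀⁻¹ * x * g₀) * (g₀⁻¹ * x * g₀)) * g₀⁻¹ := by group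
          _ = 1 := by rw [this]; group
      obtain ⟨X', Y', hq', hK'⟩ := exists_quat_of_isKleinFour hodd (hkl K hKc hKe)
      have hcK : c ∈ K := by rw [mem_stab, ← hg₀]; simpa [mul_assoc] using haH
      have haK : a ∈ K := hne g₀ hg₀
      have hgen : ∀ k ∈ K, k = 1 ∨ k = c ∨ k = a ∨ k = c * a := by
        intro k hk
        by_contra hcon
        push Not at hcon
        obtain ⟨n1, n2, n3, n4⟩ := hcon
        classical
        haveI : Fintype K := Fintype.ofFinite _
        have hsub : ({⟨1, one_mem K⟩, ⟨c, hcK⟩, ⟨a, haK⟩, ⟨c * a, mul_mem hcK haK⟩, ⟨k, hk⟩} : Finset K).card = 5 := by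
          have d1 : a ≠ c := fun e => hcH (e ▸ haH)
          have d2 : c * a ≠ 1 := fun e => d1 (mul_left_cancel (e.trans hcc.symm))
          rw [Finset.card_insert_of_notMem, Finset.card_insert_of_notMem, Finset.card_insert_of_notMem,
            Finset.card_insert_of_notMem, Finset.card_singleton] <;>
            simp only [Finset.mem_insert, Finset.mem_singleton, Subtype.mk.injEq, not_or]
          · exact fun e => n4 e.symm
          · exact ⟨fun e => hc1 (mul_eq_right.1 e.symm), fun e => n3 e.symm⟩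
          · exact ⟨d1.symm, fun e => ha1 (mul_eq_left.1 e.symm), fun e => n2 e.symm⟩
          · exact ⟨hc1.symm, ha1.symm, d2.symm, fun e => n1 e.symm⟩
        have := Finset.card_le_univ ({⟨1, one_mem K⟩, ⟨c, hcK⟩, ⟨a, haK⟩, ⟨c * a, mul_mem hcK haK⟩, ⟨k, hk⟩} : Finset K)
        rw [hsub, ← Nat.card_eq_fintype_card, hKc] at this
        omega
      have hnorm : ∀ n, Commute n c → n ∈ Subgroup.normalizer (K : Set PSL₂) := by
        intro n hn
        have hna : n * a * n⁻¹ ∈ K := by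
          have h1 := hne (n⁻¹ * g₀) (by
            rw [show n⁻¹ * g₀ * a * (n⁻¹ * g₀)⁻¹ = n⁻¹ * (g₀ * a * g₀⁻¹) * n by group, hg₀,
              mul_assoc, ← hn.eq, inv_mul_cancel_left])
          rw [mem_stab] at h1
          rw [mem_stab]
          simpa [mul_assoc] using h1
        have hnc : n * c * n⁻¹ = c := by rw [hn.eq, mul_inv_cancel_right]
        refine mem_normalizer_of_forall fun k hk => ?_
        rcases hgen k hk with rfl | rfl | rfl | rfl
        · simp
        · rwa [hnc]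
        · exact hna
        · rw [show n * (c * a) * n⁻¹ = (n * c * n⁻¹) * (n * a * n⁻¹) by group, hnc]
          exact mul_mem hcK hna
      obtain ⟨n, hnK, hnc⟩ : ∃ n, n ∈ Subgroup.normalizer (K : Set PSL₂) ∧ n * c * n⁻¹ = a := by
        obtain ⟨w, -, hwN, e1, e2⟩ := exists_three hodd hq'
        rw [hK'] at hwN
        have e3 : w * (proj X' * proj Y') * w⁻¹ = proj Y' := by
          rw [show w * (proj X' * proj Y') * w⁻¹ = (w * proj X' * w⁻¹) * (w * proj Y' * w⁻¹) by group, e1, e2,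
            mul_assoc, hq'.comm, ← mul_assoc, Quat.sq_proj hq'.xx, one_mul]
        have hca' : c ≠ a := fun e => hcH (e ▸ haH)
        have inv : ∀ {x y : PSL₂}, w * x * w⁻¹ = y → w⁻¹ * y * w⁻¹⁻¹ = x := fun {x y} h => by rw [← h]; group
        have hc' := hcK
        have ha' := haK
        rw [← hK', Quat.mem_klein] at hc' ha'
        rcases hc'.resolve_left hc1 with rfl | rfl | rfl <;> rcases ha'.resolve_left ha1 with h | h | h <;>
          rw [h] at hca' ⊢ <;>
          first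
          | exact absurd rfl hca'
          | exact ⟨w, hwN, e1⟩ | exact ⟨w, hwN, e2⟩ | exact ⟨w, hwN, e3⟩
          | exact ⟨w⁻¹, inv_mem hwN, inv e1⟩ | exact ⟨w⁻¹, inv_mem hwN, inv e2⟩
          | exact ⟨w⁻¹, inv_mem hwN, inv e3⟩
      have hCa : n * g₀ ∈ Subgroup.normalizer (K : Set PSL₂) := by
        have hc0 : Commute (n⁻¹ * (n * g₀) * n) c := by
          have h3 : n * g₀ * a * (n * g₀)⁻¹ = a := by
            rw [show n * g₀ * a * (n * g₀)⁻¹ = n * (g₀ * a * g₀⁻¹) * n⁻¹ by group, hg₀, hnc]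
          refine mul_inv_eq_iff_eq_mul.1 ?_
          rw [show n⁻¹ * (n * g₀) * n * c * (n⁻¹ * (n * g₀) * n)⁻¹ =
            n⁻¹ * ((n * g₀) * (n * c * n⁻¹) * (n * g₀)⁻¹) * n by group, hnc, h3, ← hnc]
          group
        rw [show n * g₀ = n * (n⁻¹ * (n * g₀) * n) * n⁻¹ by group]
        exact mul_mem (mul_mem hnK (hnorm _ hc0)) (inv_mem hnK)
      have hg₀N : g₀ ∈ Subgroup.normalizer (K : Set PSL₂) := by
        have := mul_mem (inv_mem hnK) hCa
        rwa [inv_mul_cancel_left] at this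
      refine hcH ?_
      have h4 := ((Subgroup.mem_normalizer_iff).1 hg₀N c).1 hcK
      rw [mem_stab] at h4
      simpa [mul_assoc] using h4
    obtain ⟨u, hu1, hu2⟩ := hu
    refine ⟨u, a, haH, hu1, fun d hd hdu => ?_⟩
    have hdc : Commute d c := by
      rw [← hu1]
      rw [mem_stab] at hdu
      have hcom : Commute (u⁻¹ * d * u) a := by
        rcases hdu with e | e | e | e <;> rw [e]
        · exact Commute.one_left a
        · exact (hq.comm : proj Y * proj X = proj X * proj Y)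
        · exact (Commute.refl a).mul_left (hq.comm : proj Y * proj X = proj X * proj Y)
      have := (Commute.conj_iff u).2 hcom
      rwa [show u * (u⁻¹ * d * u) * u⁻¹ = d by group] at this
    by_contra hd1
    have hda : d ≠ a := fun e => hu2 (e ▸ hdu)
    refine hcH (hq.centralizer h2 hca ?_)
    rcases hd with e | e | e | e
    · exact absurd e hd1
    · exact absurd e hda
    · exact e ▸ hdc.symm
    · have h1 : Commute c (a * d) := Commute.mul_right hca hdc.symm
      have : a * d = b := by rw [e, ← mul_assoc, haa, one_mul]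
      rwa [this] at h1
  obtain ⟨u, x, hxH, hu, hu'⟩ := key (a * r) har2 har hara
  obtain ⟨v, y, hyH, hv, hv'⟩ := key r hrr hrH hra
  refine not_isBin u v a x y haH hxH hyH (by rw [hu, hv, mul_assoc, hrr, mul_one]) fun d e hd hdu he hev hde => ?_
  rw [hu' d hd hdu, hv' e he hev, one_mul] at hde
  exact ha1 hde

end involutions

section cyclic

/-- A companion matrix of nonzero trace is a product of two elements of trace `±α`. -/
theorem cover' {X : SL₂} (hα : tr X ≠ 0) (h4 : tr X ^ 2 ≠ 4) {G : SL₂} (hG : ¬ IsScalar G)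
    (hroot : CharP F 2 → tr G ≠ 0) :
    ∃ u v : PSL₂, proj G = (u * proj X * u⁻¹) * (v * proj X * v⁻¹) := by
  obtain ⟨w, hw⟩ := exists_frame' hG
  set P := Traces.frame (G : M₂) w
  have hP : IsUnit P.det := isUnit_iff_ne_zero.mpr hw
  set t := tr G with ht
  set α := tr X with hα'
  obtain ⟨a, b, β, hβ, hab⟩ := exists_conic (t := t) hα (fun h e => absurd e (hroot h))
  obtain ⟨C, hC⟩ : ∃ C : SL₂, (C : M₂) = !![0, -1; 1, t] :=
    ⟨⟨!![0, -1; 1, t], by simp [Matrix.det_fin_two]⟩, rfl⟩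
  obtain ⟨Y₀, hY₀⟩ : ∃ Y : SL₂, (Y : M₂) = !![a, b; β + b - a * t, α - a] :=
    ⟨⟨!![a, b; β + b - a * t, α - a], by rw [Matrix.det_fin_two_of]; linear_combination -hab⟩, rfl⟩
  have hG' : cj P hP C = G := by
    rw [conjHom_eq_iff, hC, ← comp_eq G, ← Traces.mul_frame]
  have h1 : tr (cj P hP Y₀) = α := by
    rw [tr_conjHom]; simp [tr, hY₀]
  have h2 : tr ((cj P hP Y₀)⁻¹ * G) = β := by
    rw [← hG', ← map_inv, ← map_mul, tr_conjHom, ← tr_eq_trace, Matrix.SpecialLinearGroup.coe_mul,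
      Matrix.SpecialLinearGroup.coe_inv, hY₀, hC]
    simp [Matrix.trace_fin_two, Matrix.adjugate_fin_two, Matrix.mul_apply, Fin.sum_univ_two]
  obtain ⟨u, hu⟩ := isConj_iff.mp (isConj_proj hα'.symm h4 (Or.inl h1))
  obtain ⟨v, hv⟩ := isConj_iff.mp (isConj_proj hα'.symm h4 (h2 ▸ hβ))
  exact ⟨u, v, by rw [hu, hv, ← map_mul, mul_inv_cancel_left]⟩

variable (p : ℕ) [hp : Fact p.Prime] [CharP F p]

include hp in
/-- A cyclic subgroup of a torus with a decomposition leaving the torus. -/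
theorem not_isBin_cyclic {H : Subgroup PSL₂} {h : PSL₂} (hh : h ∈ H) (h1 : h ≠ 1) (hle : H ≤ tor h)
    {u v : PSL₂} (he : h = (u * h * u⁻¹) * (v * h * v⁻¹)) (hu : u * h * u⁻¹ ∉ tor h) : ¬ IsBin H := by
  set D := pslData (F := F) p
  have key : ∀ c : PSL₂, c * h * c⁻¹ ∉ tor h → ∀ d ∈ H, d ∈ stab H c → d = 1 := by
    intro c hc d hd hdc
    by_contra hd1
    have e1 : tor d = tor h := D.same h1 (hle hd) hd1
    have hdc' : d ∈ tor (c * h * c⁻¹) := by
      have := D.conj c h1 (hle (mem_stab.1 hdc))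
      rwa [show c * (c⁻¹ * d * c) * c⁻¹ = d by group] at this
    have e2 : tor d = tor (c * h * c⁻¹) := D.same (fun e => h1 (conj_eq_one_iff.1 e)) hdc' hd1
    exact hc (e1 ▸ e2.symm ▸ D.self _)
  have hv : v * h * v⁻¹ ∉ tor h := fun hv => hu (by
    rw [show u * h * u⁻¹ = h * (v * h * v⁻¹)⁻¹ from eq_mul_inv_of_mul_eq he.symm]
    exact mul_mem (D.self h) (inv_mem hv))
  refine not_isBin u v h h h hh hh hh he fun d e hd hdu he' hev hde => h1 ?_
  rw [hde, key u hu d hd hdu, key v hv e he' hev, one_mul]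

theorem not_isBin_cyclic_big {H : Subgroup PSL₂} {h : PSL₂} (hh : h ∈ H) (h4 : 4 ≤ orderOf h)
    (hp' : h ^ p ≠ 1) (hle : H ≤ tor h) : ¬ IsBin H := by
  set D := pslData (F := F) p
  have h1 : h ≠ 1 := fun e => by rw [e, orderOf_one] at h4; omega
  obtain ⟨X, rfl⟩ := proj_surjective h
  obtain ⟨hα, hα4⟩ := cover_of_order (by omega) (D.semi_coprime h1 hp') (rfl : proj X = proj X)
  obtain ⟨u, v, he⟩ := cover' hα hα4 (fun e => h1 (proj_one_iff.2 e)) (fun _ => hα)
  refine not_isBin_cyclic p hh h1 hle he fun hu => ?_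
  have key : ∀ c : PSL₂, c * proj X * c⁻¹ ∈ tor (proj X) →
      c * proj X * c⁻¹ = proj X ∨ c * proj X * c⁻¹ = (proj X)⁻¹ := by
    intro c hc
    obtain ⟨C, rfl⟩ := proj_surjective c
    rw [← map_inv, ← map_mul, ← map_mul] at hc ⊢
    rcases commute_inv_cases (x := X) ⟨fun e => h1 (proj_one_iff.2 e), hα4⟩ (mem_tor_iff.1 hc).symm
      (tr_conj C X) with e | e
    · exact Or.inl (congrArg proj e)
    · exact Or.inr ((congrArg proj e).trans (map_inv _ _))
  rcases key u hu with e | e <;> rw [e] at he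
  · exact h1 (conj_eq_one_iff.1 (mul_eq_left.1 he.symm))
  · have hv : v * proj X * v⁻¹ = proj X * proj X := by
      rw [inv_mul_eq_iff_eq_mul.1 he.symm]
    rcases key v (hv ▸ mul_mem (D.self _) (D.self _)) with e' | e' <;> rw [hv] at e'
    · exact h1 (mul_eq_left.1 e')
    · have h3 : proj X ^ 3 = (1 : PSL₂) := by
        rw [pow_succ, sq]; exact mul_eq_one_iff_eq_inv.2 e'
      have := Nat.le_of_dvd (by norm_num) (orderOf_dvd_of_pow_eq_one h3)
      omega

theorem not_isBin_cyclic_three (hodd : Odd (Fintype.card F)) {H : Subgroup PSL₂} {h : PSL₂} (hh : h ∈ H)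
    (h3 : orderOf h = 3) (hp' : h ^ p ≠ 1) (hle : H ≤ tor h) : ¬ IsBin H := by
  set D := pslData (F := F) p
  have h2 := two_ne_zero_of_odd_card hodd
  have h1 : h ≠ 1 := fun e => by rw [e, orderOf_one] at h3; omega
  have hp3 : (3 : F) ≠ 0 := by
    intro e
    have hd : p ∣ 3 := (CharP.cast_eq_zero_iff F p 3).1 (by exact_mod_cast e)
    exact D.semi_coprime h1 hp' (h3 ▸ hd)
  obtain ⟨X, hX, hXt⟩ : ∃ X : SL₂, proj X = h ∧ tr X = -1 := by
    obtain ⟨X, rfl⟩ := proj_surjective h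
    obtain ⟨hα, -⟩ := cover_of_order (by omega) (D.semi_coprime h1 hp') (rfl : proj X = proj X)
    have hns : ¬ IsScalar X := fun e => h1 (proj_one_iff.2 e)
    have h30 : proj (X * X * X) = 1 := by
      rw [map_mul, map_mul, ← sq, ← pow_succ, show 2 + 1 = orderOf (proj X) by omega, pow_orderOf_eq_one]
    have e0 : ((X * X * X : SL₂) : M₂) = (tr X * tr X - 1) • (X : M₂) - tr X • 1 := by
      rw [Matrix.SpecialLinearGroup.coe_mul, Matrix.SpecialLinearGroup.coe_mul, cayley, sub_mul,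
        Matrix.smul_mul, cayley, one_mul, smul_sub, smul_smul, sub_smul, one_smul]
      abel
    obtain ⟨c, hc⟩ : ∃ c : F, ((X * X * X : SL₂) : M₂) = c • 1 := by
      rcases proj_one_iff.1 h30 with e | e <;> rw [e]
      · exact ⟨1, by simp⟩
      · exact ⟨-1, by simp⟩
    have ht : tr X * tr X = 1 := by
      by_contra hne
      have hne' : tr X * tr X - 1 ≠ 0 := sub_ne_zero.2 hne
      refine hns (isScalar_of_coe (c := (c + tr X) / (tr X * tr X - 1)) ?_)
      have e : (tr X * tr X - 1) • (X : M₂) = (c + tr X) • 1 := by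
        rw [add_smul, ← hc, e0, sub_add_cancel]
      rw [div_eq_inv_mul, mul_smul, ← e, smul_smul, inv_mul_cancel₀ hne', one_smul]
    rcases mul_self_eq_one_iff.1 ht with e | e
    · exact ⟨-X, proj_neg X, by rw [tr_neg, e]⟩
    · exact ⟨X, rfl, e⟩
  subst hX
  have h14 : (-1 : F) ^ 2 ≠ 4 := fun e => hp3 (by linear_combination -e)
  obtain ⟨X₀, hX₀⟩ : ∃ X : SL₂, (X : M₂) = !![0, -1; 1, -1] :=
    ⟨⟨!![0, -1; 1, -1], by simp [Matrix.det_fin_two]⟩, rfl⟩
  obtain ⟨g, hg⟩ := isConj_iff.1 (isConj_of_tr (X := X₀) (Y := X) (by rw [hXt]; simp [tr, hX₀])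
    (by simpa [tr, hX₀] using h14))
  obtain ⟨A, B, hAB⟩ := exists_norm_form (t := (1 : F)) (fun e => hp3 (by linear_combination -e)) (-2 / 3)
  obtain ⟨Y₀, hY₀⟩ : ∃ Y : SL₂, (Y : M₂) =
      !![A - 1 / 3, B - 1 / 3; (A - 1 / 3) + (B - 1 / 3) + 1, -1 - (A - 1 / 3)] := by
    refine ⟨⟨!![A - 1 / 3, B - 1 / 3; (A - 1 / 3) + (B - 1 / 3) + 1, -1 - (A - 1 / 3)], ?_⟩, rfl⟩
    rw [Matrix.det_fin_two_of]
    field_simp at hAB ⊢
    linear_combination -3 * hAB
  set Y := g⁻¹ * Y₀ * g with hY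
  have hYt : tr Y = -1 := by
    rw [hY, show g⁻¹ * Y₀ * g = g⁻¹ * Y₀ * g⁻¹⁻¹ by rw [inv_inv], tr_conj]; simp [tr, hY₀]
  have hYXt : tr (Y⁻¹ * X) = 1 := by
    rw [hY, show X = g⁻¹ * X₀ * g by rw [← hg]; group,
      show (g⁻¹ * Y₀ * g)⁻¹ * (g⁻¹ * X₀ * g) = g⁻¹ * (Y₀⁻¹ * X₀) * g⁻¹⁻¹ by group, tr_conj]
    simp [tr, Matrix.SpecialLinearGroup.coe_inv, hX₀, hY₀, Matrix.adjugate_fin_two, Matrix.mul_apply,
      Fin.sum_univ_two]
    ring
  obtain ⟨u, hu⟩ := isConj_iff.1 (isConj_proj (X := X) (Y := Y) hXt h14 (Or.inl hYt))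
  obtain ⟨v, hv⟩ := isConj_iff.1 (isConj_proj (X := X) (Y := Y⁻¹ * X) hXt h14 (Or.inr (by rw [hYXt, neg_neg])))
  refine not_isBin_cyclic p hh h1 hle (u := u) (v := v)
    (by rw [hu, hv, ← map_mul, mul_inv_cancel_left]) fun hmem => ?_
  rw [hu, mem_tor_iff] at hmem
  rcases commute_inv_cases (x := X) ⟨fun e => h1 (proj_one_iff.2 e), by rw [hXt]; exact h14⟩ hmem.symm
    (hYt.trans hXt.symm) with e | e
  · rw [e, inv_mul_cancel, tr_one] at hYXt
    exact one_ne_zero (by linear_combination hYXt : (1 : F) = 0)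
  · rw [e, inv_inv, ← tr_eq_trace, Matrix.SpecialLinearGroup.coe_mul, cayley, Matrix.trace_sub,
      Matrix.trace_smul, tr_eq_trace, hXt, Matrix.trace_one, Fintype.card_fin] at hYXt
    exact h2 (by simp at hYXt; linear_combination hYXt)

theorem not_isBin_cyclic_split (h2 : (2 : F) = 0) (h3 : 3 ∣ Fintype.card F - 1) {H : Subgroup PSL₂}
    (hH : Nat.card H = 3) : ¬ IsBin H := by
  haveI : Fact (Nat.Prime 3) := ⟨Nat.prime_three⟩
  haveI : CharP F 2 := CharTwo.of_one_ne_zero_of_two_eq_zero one_ne_zero h2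
  obtain ⟨⟨h, hh⟩, hh3⟩ := exists_prime_orderOf_dvd_card' (G := H) 3 (hH ▸ dvd_rfl)
  rw [Subgroup.orderOf_mk] at hh3
  have hzH : H = Subgroup.zpowers h := (Subgroup.eq_of_le_of_card_ge (Subgroup.zpowers_le.2 hh)
    (by rw [hH, Nat.card_zpowers, hh3])).symm
  obtain ⟨z, hz⟩ : ∃ z : Fˣ, orderOf z = 3 := by
    classical
    exact exists_prime_orderOf_dvd_card' 3 (by rwa [Nat.card_units, Nat.card_eq_fintype_card])
  have hz3 : (z : F) ^ 3 = 1 := by rw [← Units.val_pow_eq_pow_val, ← hz, pow_orderOf_eq_one, Units.val_one]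
  have hz1 : (z : F) ≠ 1 := fun e => by rw [Units.val_eq_one.1 e, orderOf_one] at hz; omega
  have hzq : (z : F) ^ 2 + z + 1 = 0 :=
    (mul_eq_zero.1 (show ((z : F) - 1) * ((z : F) ^ 2 + z + 1) = 0 by linear_combination hz3)).resolve_left
      (sub_ne_zero.2 hz1)
  obtain ⟨X, rfl⟩ := proj_surjective h
  have hX1 : proj X ≠ 1 := fun e => by rw [e, orderOf_one] at hh3; omega
  have htX : tr X = 1 := by
    obtain ⟨hα, -⟩ := cover_of_order (p := 2) (x := proj X) (by omega) (by rw [hh3]; decide) rfl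
    have hns : ¬ IsScalar X := fun e => hX1 (proj_one_iff.2 e)
    have h30 : X * X * X = 1 := proj_injective h2 (by
      rw [map_mul, map_mul, map_one, ← sq, ← pow_succ, show 2 + 1 = orderOf (proj X) by omega, pow_orderOf_eq_one])
    by_contra hne
    have hne' : tr X * tr X - 1 ≠ 0 := fun e => hne (sub_eq_zero.1 (mul_self_eq_zero.1
      (show (tr X - 1) * (tr X - 1) = 0 by linear_combination e + (1 - tr X) * h2)))
    refine hns (isScalar_of_coe (c := (1 + tr X) / (tr X * tr X - 1)) ?_)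
    have e0 : ((X * X * X : SL₂) : M₂) = (tr X * tr X - 1) • (X : M₂) - tr X • 1 := by
      rw [Matrix.SpecialLinearGroup.coe_mul, Matrix.SpecialLinearGroup.coe_mul, cayley, sub_mul,
        Matrix.smul_mul, cayley, one_mul, smul_sub, smul_smul, sub_smul, one_smul]
      abel
    rw [h30, Matrix.SpecialLinearGroup.coe_one] at e0
    have e : (tr X * tr X - 1) • (X : M₂) = (1 + tr X) • 1 := by
      rw [add_smul, one_smul]
      exact (sub_eq_iff_eq_add.1 e0.symm)
    rw [div_eq_inv_mul, mul_smul, ← e, smul_smul, inv_mul_cancel₀ hne', one_smul]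
  have htz : tr (dg z) = 1 := by
    simp [tr, dg_coe]
    have h0 := z.ne_zero
    field_simp
    linear_combination hzq - (z : F) * h2
  obtain ⟨g, hg⟩ := isConj_iff.1 (isConj_of_tr (X := dg z) (Y := X) (htz.trans htX.symm) (by
    rw [htz]; intro e; exact one_ne_zero (by linear_combination e + 2 * h2 : (1 : F) = 0)))
  rw [← isBin_conj_iff H (proj g)]
  set H' := H.map (MulAut.conj (proj g)).toMonoidHom with hH'
  have hgen : H' = Subgroup.zpowers (proj (dg z)) := by
    rw [hH', hzH, MonoidHom.map_zpowers]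
    simp [← hg]
  have hdgz : ∀ k : ℤ, (dg z : SL₂) ^ k = dg (z ^ k) := fun k =>
    (map_zpow (MonoidHom.mk' (fun w : Fˣ => (dg w : SL₂)) fun a b => (dg_mul a b).symm) z k).symm
  have hmem : ∀ y : SL₂, proj y ∈ H' → ∃ k : ℤ, y = dg (z ^ k) := by
    intro y hy
    rw [hgen] at hy
    obtain ⟨k, hk⟩ := Subgroup.mem_zpowers_iff.1 hy
    exact ⟨k, (proj_injective h2 (hk.symm.trans (by rw [← map_zpow, hdgz])))⟩
  refine not_isBin_borel_split (b := 0) (z := z) ?_ ?_ ?_ ?_
  · intro y hy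
    obtain ⟨k, rfl⟩ := hmem y hy
    simp [dg_coe]
  · rw [up_zero, mul_one, hgen]; exact Subgroup.mem_zpowers _
  · intro e
    exact hz1 (by linear_combination e - (z : F) * hz3)
  · intro e
    obtain ⟨k, hk⟩ := hmem (up 1) (by rw [← mem_kSub, e]; exact AddSubgroup.mem_top _)
    have := congrFun (congrFun (congrArg Subtype.val hk) 0) 1
    simp [up_coe, dg_coe] at this

end cyclic

section dihedral

variable (p : ℕ) [hp : Fact p.Prime] [CharP F p]

/-- The common argument for dihedral subgroups. -/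
theorem not_isBin_dih {H : Subgroup PSL₂} {a : PSL₂} (ha : a ≠ 1) (hap : a ^ p ≠ 1)
    (hN : H ≤ Subgroup.normalizer (tor a : Set PSL₂)) {s : PSL₂} (hs : s ∈ H) (hsT : s ∉ tor a)
    {u v x y : PSL₂} (hx : x ∈ H) (hy : y ∈ H) (he : s = (u * x * u⁻¹) * (v * y * v⁻¹))
    (hu : ∀ d ∈ H, d ∈ tor a → d ∈ stab H u → d = 1) (hsu : s ∉ stab H u)
    (hv : ∀ d ∈ H, d ∈ tor a → d ∈ stab H v → d = 1) (hsv : s ∉ stab H v) : ¬ IsBin H := by
  set D := pslData (F := F) p
  refine not_isBin u v s x y hs hx hy he fun d e hd hdu he' hev hde => ?_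
  by_cases hdT : d ∈ tor a
  · rw [hu d hd hdT hdu, one_mul] at hde
    exact hsv (hde ▸ hev)
  by_cases heT : e ∈ tor a
  · rw [hv e he' heT hev, mul_one] at hde
    exact hsu (hde ▸ hdu)
  exact hsT (hde ▸ D.semi_mul ha hap ((D.mem_normalizer_iff ha).1 (hN hd)) hdT
    ((D.mem_normalizer_iff ha).1 (hN he')) heT)

/-- Involutions are conjugate in characteristic two. -/
theorem invol_conj_two (h2 : (2 : F) = 0) {x : PSL₂} (hx : x * x = 1) (hx1 : x ≠ 1) :
    ∃ g : PSL₂, g * proj (up 1) * g⁻¹ = x := by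
  haveI : CharP F 2 := CharTwo.of_one_ne_zero_of_two_eq_zero one_ne_zero h2
  haveI : Fact (Nat.Prime 2) := ⟨Nat.prime_two⟩
  obtain ⟨P, hP, rfl⟩ := uni_frame 2 hx1 (by rw [sq]; exact hx)
  have hd := isUnit_iff_ne_zero.1 hP
  obtain ⟨l, hl⟩ := exists_sqrt P.det
  have hl0 : l ≠ 0 := fun e => hd (by rw [← hl, e, mul_zero])
  obtain ⟨Q, hQ⟩ : ∃ Q : SL₂, (Q : M₂) = l⁻¹ • P :=
    ⟨⟨l⁻¹ • P, by rw [Matrix.det_smul, Fintype.card_fin, ← hl]; field_simp⟩, rfl⟩
  refine ⟨proj Q, ?_⟩
  rw [← map_inv, ← map_mul, ← map_mul]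
  refine congrArg proj (mul_inv_eq_iff_eq_mul.2 ?_)
  have h := (conjHom_eq_iff P hP (up 1) _).1 rfl
  refine Subtype.ext ?_
  rw [Matrix.SpecialLinearGroup.coe_mul, Matrix.SpecialLinearGroup.coe_mul, hQ, Matrix.smul_mul, Matrix.mul_smul, h]

/-- Dihedral subgroups in characteristic two. -/
theorem not_isBin_dih_even (h2 : (2 : F) = 0) (h4 : 4 ≤ Fintype.card F) {H : Subgroup PSL₂} {a : PSL₂}
    (ha : a ≠ 1) (hap : a ^ p ≠ 1) (hN : H ≤ Subgroup.normalizer (tor a : Set PSL₂)) {s : PSL₂}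
    (hs : s ∈ H) (hsT : s ∉ tor a) : ¬ IsBin H := by
  classical
  haveI : CharP F 2 := CharTwo.of_one_ne_zero_of_two_eq_zero one_ne_zero h2
  have hp2 : p = 2 := (CharP.eq F ‹CharP F p› ‹CharP F 2›)
  subst hp2
  set D := pslData (F := F) 2
  have hT : ¬ 2 ∣ Nat.card (tor a) := D.not_dvd_card Nat.prime_two ha hap
  have hodd : ∀ d ∈ tor a, d * d = 1 → d = 1 := by
    intro d hd hdd
    rcases (Nat.dvd_prime Nat.prime_two).1 (orderOf_dvd_of_pow_eq_one (show d ^ 2 = 1 by rw [sq]; exact hdd)) with e | e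
    · exact orderOf_eq_one_iff.1 e
    · exact absurd (e.symm.dvd.trans ((tor a).orderOf_dvd_natCard hd)) hT
  have hflip : ∀ g, g ∈ Subgroup.normalizer (tor a : Set PSL₂) → g ∉ tor a → g * g = 1 := fun g hg hgn =>
    (D.semi_flip ha hap ((D.mem_normalizer_iff ha).1 hg) hgn).1
  have hss := hflip s (hN hs) hsT
  have hs1 : s ≠ 1 := fun e => hsT (e ▸ one_mem _)
  have hsp : s ^ 2 = 1 := by rw [sq]; exact hss
  haveI : Fintype (tor s) := Fintype.ofFinite _
  obtain ⟨⟨s₁, hs₁⟩, hne⟩ : ∃ w : tor s, w ∉ ({1, ⟨s, D.self s⟩} : Finset (tor s)) := by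
    by_contra hc
    push Not at hc
    have := Finset.card_le_card (s := (Finset.univ : Finset (tor s))) (t := {1, ⟨s, D.self s⟩}) fun w _ => hc w
    rw [Finset.card_univ, ← Nat.card_eq_fintype_card, card_tor_uni 2 hs1 hsp] at this
    have := this.trans Finset.card_le_two
    omega
  simp only [Finset.mem_insert, Finset.mem_singleton, not_or] at hne
  have h11 : s₁ ≠ 1 := fun e => hne.1 (Subtype.ext e)
  have h1s : s₁ ≠ s := fun e => hne.2 (Subtype.ext e)
  have hc1 : Commute s₁ s := D.comm hs1 hs₁ (D.self s)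
  have h1sq : s₁ * s₁ = 1 := by rw [← sq]; exact D.uni_exp hs1 hsp hs₁
  have key : ∀ c : PSL₂, c * c = 1 → Commute c s → c ≠ 1 → c ≠ s → ∃ u, u * s * u⁻¹ = c ∧
      s ∉ stab H u ∧ ∀ d ∈ H, d ∈ tor a → d ∈ stab H u → d = 1 := by
    intro c hcc hcs hc1' hcs'
    obtain ⟨g₁, hg₁⟩ := invol_conj_two h2 hss hs1
    obtain ⟨g₂, hg₂⟩ := invol_conj_two h2 hcc hc1'
    refine ⟨g₂ * g₁⁻¹, by rw [← hg₁, ← hg₂]; group, ?_, ?_⟩
    · set u := g₂ * g₁⁻¹
      have hu : u * s * u⁻¹ = c := by rw [← hg₁, ← hg₂]; simp only [u]; group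
      intro hsu
      rw [mem_stab] at hsu
      set s' := u⁻¹ * s * u
      have hs'c : Commute s' s := by
        have h := (Commute.conj_iff u⁻¹).2 hcs
        rw [inv_inv, ← hu, show u⁻¹ * (u * s * u⁻¹) * u = s by group] at h
        exact h.symm
      have hs's : s' * s' = 1 := by
        rw [show s' * s' = u⁻¹ * (s * s) * u by simp only [s']; group, hss]; group
      have hs'T : s' ∉ tor a := fun h => hs1 (by
        have e := hodd _ h hs's
        calc s = u * s' * u⁻¹ := by simp only [s']; group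
          _ = 1 := by rw [e]; group)
      have hprod := D.semi_mul ha hap ((D.mem_normalizer_iff ha).1 (hN hsu)) hs'T
        ((D.mem_normalizer_iff ha).1 (hN hs)) hsT
      have e := hodd _ hprod (by rw [mul_assoc, ← mul_assoc s, ← hs'c.eq, mul_assoc s', hss, mul_one, hs's])
      have e' : s' = s := by rw [← mul_one s', ← hss, ← mul_assoc, e, one_mul]
      refine hcs' ?_
      rw [← hu]
      conv_lhs => rw [← e']
      simp only [s']; group
    · intro d hd hdT hdu
      set u := g₂ * g₁⁻¹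
      have hu : u * s * u⁻¹ = c := by rw [← hg₁, ← hg₂]; simp only [u]; group
      rw [mem_stab] at hdu
      by_contra hd1
      set d' := u⁻¹ * d * u with hd'
      have hdd : d = u * d' * u⁻¹ := by rw [hd']; group
      have hd'T : d' ∈ tor a := by
        by_contra hd'n
        refine hd1 (hodd d hdT ?_)
        rw [hdd, show u * d' * u⁻¹ * (u * d' * u⁻¹) = u * (d' * d') * u⁻¹ by group, hflip d' (hN hdu) hd'n]
        group
      have hd'1 : d' ≠ 1 := fun e => hd1 (by rw [hdd, e]; group)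
      have huN : u ∈ Subgroup.normalizer (tor a : Set PSL₂) := by
        refine (D.mem_normalizer_iff ha).2 ?_
        have h := D.conj u hd'1 (show a ∈ D.T d' by rw [D.same ha hd'T hd'1]; exact D.self a)
        rwa [← hdd, D.same ha hdT hd1] at h
      have hcN : c ∈ Subgroup.normalizer (tor a : Set PSL₂) := hu ▸ mul_mem (mul_mem huN (hN hs)) (inv_mem huN)
      have hcT : c ∉ tor a := fun h => hc1' (hodd c h hcc)
      have hprod := D.semi_mul ha hap ((D.mem_normalizer_iff ha).1 hcN) hcT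
        ((D.mem_normalizer_iff ha).1 (hN hs)) hsT
      have e := hodd _ hprod (by rw [mul_assoc, ← mul_assoc s, ← hcs.eq, mul_assoc c, hss, mul_one, hcc])
      exact hcs' (by rw [← mul_one c, ← hss, ← mul_assoc, e, one_mul])
  obtain ⟨u, hu, hsu, hu'⟩ := key s₁ h1sq hc1 h11 h1s
  obtain ⟨v, hv, hsv, hv'⟩ := key (s₁ * s)
    (by rw [mul_assoc, ← mul_assoc s, ← hc1.eq, mul_assoc s₁, hss, mul_one, h1sq])
    (hc1.mul_left (Commute.refl s)) (fun e => h1s (by rw [← mul_one s₁, ← hss, ← mul_assoc, e, one_mul]))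
    (fun e => h11 (mul_eq_right.1 e))
  exact not_isBin_dih 2 ha hap hN hs hsT hs hs
    (by rw [hu, hv, ← mul_assoc, h1sq, one_mul]) hu' hsu hv' hsv

/-- Nonzero solutions of a sum of two squares. -/
theorem exists_circle (h2 : (2 : F) ≠ 0) (h7 : 7 ≤ Fintype.card F) (D : F)
    (hD : D = 0 → IsSquare (-1 : F)) : ∃ C E : F, C ≠ 0 ∧ E ≠ 0 ∧ C * C + E * E = D := by
  classical
  by_cases h0 : D = 0
  · obtain ⟨i, hi⟩ := hD h0
    exact ⟨1, i, one_ne_zero, fun e => by rw [e, mul_zero] at hi; exact one_ne_zero (by linear_combination -hi),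
      by rw [h0, ← hi]; ring⟩
  obtain ⟨a, b, hab⟩ := exists_norm_form (t := (0 : F)) (by
    rw [show (4 : F) = 2 * 2 by norm_num]; simpa [zero_pow] using (mul_ne_zero h2 h2).symm) D
  have hab' : a * a + b * b = D := by linear_combination hab
  open Polynomial in
  let P : F[X] := (C 1 * X ^ 2 + C 0 * X + C 1) * (C (-a) * X ^ 2 + C (-2 * b) * X + C a) *
    (C (-b) * X ^ 2 + C (2 * a) * X + C b)
  have hne : P ≠ 0 := by
    have aux : ∀ x y z : F, x ≠ 0 ∨ y ≠ 0 →
        (Polynomial.C x * Polynomial.X ^ 2 + Polynomial.C y * Polynomial.X + Polynomial.C z : Polynomial F) ≠ 0 := by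
      intro x y z hxy e
      have e1 := congrArg (fun q => q.coeff 2) e
      have e2 := congrArg (fun q => q.coeff 1) e
      simp [Polynomial.coeff_C] at e1 e2
      rcases hxy with h | h
      · exact h e1
      · exact h e2
    have hab0 : a ≠ 0 ∨ b ≠ 0 := by
      by_contra hc; push Not at hc
      exact h0 (by rw [← hab', hc.1, hc.2]; ring)
    refine mul_ne_zero (mul_ne_zero (aux _ _ _ (Or.inl one_ne_zero)) (aux _ _ _ ?_)) (aux _ _ _ ?_)
    · rcases hab0 with h | h
      · exact Or.inl (neg_ne_zero.2 h)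
      · exact Or.inr (mul_ne_zero (neg_ne_zero.2 h2) h)
    · rcases hab0 with h | h
      · exact Or.inr (mul_ne_zero h2 h)
      · exact Or.inl (neg_ne_zero.2 h)
  have hdeg : P.natDegree ≤ 6 := by
    simp only [P]
    compute_degree
  obtain ⟨u, hu⟩ : ∃ u : F, P.eval u ≠ 0 := by
    by_contra hc
    push Not at hc
    refine hne (Polynomial.eq_zero_of_natDegree_lt_card_of_eval_eq_zero P (f := fun x : F => x)
      (fun _ _ h => h) hc ?_)
    omega
  simp [P] at hu
  obtain ⟨⟨u1, u2⟩, u3⟩ := hu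
  refine ⟨((1 - u * u) * a - 2 * u * b) / (u * u + 1), (2 * u * a + (1 - u * u) * b) / (u * u + 1),
    div_ne_zero (fun e => u2 (by linear_combination e)) (fun e => u1 (by linear_combination e)),
    div_ne_zero (fun e => u3 (by linear_combination e)) (fun e => u1 (by linear_combination e)), ?_⟩
  have hd : u * u + 1 ≠ 0 := fun e => u1 (by linear_combination e)
  field_simp
  linear_combination (u * u + 1) ^ 2 * hab'

/-- The standard involution. -/
def sJ : SL₂ := ⟨!![0, -1; 1, 0], by simp [Matrix.det_fin_two]⟩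

theorem sJ_coe : ((sJ : SL₂) : M₂) = !![0, -1; 1, 0] := rfl

/-- An element of trace `α` whose quotient by an involution has trace `±α`, in general position. -/
theorem exists_triangle (h2 : (2 : F) ≠ 0) (h7 : 7 ≤ Fintype.card F) {S Z : SL₂} (hq : Quat S Z) {α : F}
    (hα : α ^ 2 = 2 → IsSquare (-1 : F)) :
    ∃ X : SL₂, tr X = α ∧ tr (X⁻¹ * S) = α ∧ tr (Z * X) ≠ 0 ∧ tr (Z * (X⁻¹ * S)) ≠ 0 ∧ ¬ Commute X S := by
  have hSns : ¬ IsScalar S := fun h => Quat.proj_ne_one h2 hq.xx (proj_one_iff.2 h)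
  obtain ⟨g, hg⟩ : ∃ g : SL₂, g * S * g⁻¹ = sJ := isConj_iff.1 (isConj_of_tr (X := (sJ : SL₂)) (Y := S)
    (by rw [(mul_self_eq_neg_one hSns).1 hq.xx]; simp [tr, sJ_coe])
    (by simpa [tr, sJ_coe, zero_pow, show (4 : F) = 2 * 2 by norm_num] using (mul_ne_zero h2 h2).symm))
  obtain ⟨W, hW⟩ : ∃ W : SL₂, W = g * Z * g⁻¹ := ⟨_, rfl⟩
  have hWJ : W * sJ = -(sJ * W) := by
    rw [← hg, hW, show g * Z * g⁻¹ * (g * S * g⁻¹) = g * (Z * S) * g⁻¹ by group, hq.yx,
      show g * S * g⁻¹ * (g * Z * g⁻¹) = g * (S * Z) * g⁻¹ by group]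
    simp
  have eW := congrArg Subtype.val hWJ
  rw [Matrix.SpecialLinearGroup.coe_neg, Matrix.SpecialLinearGroup.coe_mul, Matrix.SpecialLinearGroup.coe_mul,
    sJ_coe, Matrix.eta_fin_two (W : M₂)] at eW
  have e00 := congrFun (congrFun eW 0) 0
  have e01 := congrFun (congrFun eW 0) 1
  simp [Matrix.SpecialLinearGroup.coe_neg, sJ_coe, Matrix.mul_apply, Fin.sum_univ_two] at e00 e01
  have hd := det_eq W
  set p := W.1 0 0 with hp
  set q := W.1 0 1 with hq'
  have hpq : p * p + q * q = -1 := by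
    rw [show W.1 1 0 = q by linear_combination -e00, show W.1 1 1 = -p by linear_combination -e01] at hd
    linear_combination -hd
  obtain ⟨C, E, hC, hE, hCE⟩ := exists_circle h2 h7 (4 - 2 * α ^ 2) (fun e => hα (by
    refine mul_left_cancel₀ h2 ?_; linear_combination -e))
  set U := -(p * C + q * E) with hU
  set V := -(q * C - p * E) with hV
  have hUV : U * U + V * V = 2 * α ^ 2 - 4 := by
    rw [hU, hV]; linear_combination (C * C + E * E) * hpq - hCE
  have hpU : p * U + q * V = C := by rw [hU, hV]; linear_combination -C * hpq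
  have hqU : q * U - p * V = E := by rw [hU, hV]; linear_combination -E * hpq
  obtain ⟨X₀, hX₀⟩ : ∃ X : SL₂, (X : M₂) = !![(U + α) / 2, (V - α) / 2; (V - α) / 2 + α, α - (U + α) / 2] := by
    refine ⟨⟨!![(U + α) / 2, (V - α) / 2; (V - α) / 2 + α, α - (U + α) / 2], ?_⟩, rfl⟩
    rw [Matrix.det_fin_two_of]
    field_simp
    linear_combination -hUV
  have tc : ∀ y : SL₂, tr (g⁻¹ * y * g) = tr y := fun y => by
    rw [show g⁻¹ * y * g = g⁻¹ * y * g⁻¹⁻¹ by rw [inv_inv], tr_conj]
  have eS : S = g⁻¹ * sJ * g := by rw [← hg]; group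
  have eZ : Z = g⁻¹ * W * g := by rw [hW]; group
  have w10 : W.1 1 0 = q := by linear_combination -e00
  have w11 : W.1 1 1 = -p := by linear_combination -e01
  refine ⟨g⁻¹ * X₀ * g, ?_, ?_, ?_, ?_, ?_⟩
  · rw [tc]; simp [tr, hX₀]
  · rw [eS, show (g⁻¹ * X₀ * g)⁻¹ * (g⁻¹ * sJ * g) = g⁻¹ * (X₀⁻¹ * sJ) * g by group, tc]
    simp [tr, hX₀, sJ_coe, Matrix.SpecialLinearGroup.coe_inv, Matrix.adjugate_fin_two, Matrix.mul_apply,
      Fin.sum_univ_two]
  · rw [eZ, show g⁻¹ * W * g * (g⁻¹ * X₀ * g) = g⁻¹ * (W * X₀) * g by group, tc]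
    refine fun e => hC ?_
    simp [tr, hX₀, Matrix.mul_apply, Fin.sum_univ_two, ← hp, ← hq', w10, w11] at e
    field_simp at e
    rw [← hpU]
    exact (mul_eq_zero.1 (show (2 : F) * (p * U + q * V) = 0 by linear_combination e)).resolve_left h2
  · rw [eZ, eS, show g⁻¹ * W * g * ((g⁻¹ * X₀ * g)⁻¹ * (g⁻¹ * sJ * g)) = g⁻¹ * (W * (X₀⁻¹ * sJ)) * g by group,
      tc]
    refine fun e => hE ?_
    simp [tr, hX₀, sJ_coe, Matrix.SpecialLinearGroup.coe_inv, Matrix.adjugate_fin_two, Matrix.mul_apply,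
      Fin.sum_univ_two, ← hp, ← hq', w10, w11] at e
    field_simp at e
    rw [← hqU]
    exact (mul_eq_zero.1 (show (2 : F) * (q * U - p * V) = 0 by linear_combination e)).resolve_left h2
  · intro hc
    have hc' : Commute X₀ (sJ : SL₂) := by
      rw [eS] at hc
      have h := (Commute.conj_iff g).2 hc
      rwa [show g * (g⁻¹ * X₀ * g) * g⁻¹ = X₀ by group, show g * (g⁻¹ * sJ * g) * g⁻¹ = (sJ : SL₂) by group] at h
    have e := congrArg Subtype.val hc'.eq
    have a1 := congrFun (congrFun e 0) 0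
    have a2 := congrFun (congrFun e 0) 1
    simp [hX₀, sJ_coe, Matrix.mul_apply, Fin.sum_univ_two] at a1 a2
    have hV0 : V = 0 := by
      field_simp at a1
      exact (mul_eq_zero.1 (show (2 : F) * V = 0 by linear_combination a1)).resolve_left h2
    have hU0 : U = 0 := by
      field_simp at a2
      exact (mul_eq_zero.1 (show (2 : F) * U = 0 by linear_combination -a2)).resolve_left h2
    exact hC (by rw [← hpU, hV0, hU0]; ring)

/-- Dihedral subgroups in odd characteristic, by a triangle of two generators of the cyclic part. -/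
theorem not_isBin_dih_odd (hodd : Odd (Fintype.card F)) (h7 : 7 ≤ Fintype.card F) {H : Subgroup PSL₂}
    {a : PSL₂} (ha : a ≠ 1) (hap : a ^ p ≠ 1) (hN : H ≤ Subgroup.normalizer (tor a : Set PSL₂))
    {s : PSL₂} (hs : s ∈ H) (hsT : s ∉ tor a) {C : SL₂} (hc : proj C ∈ H) (hcT : proj C ∈ tor a)
    (hc3 : 3 ≤ orderOf (proj C)) (hα : tr C ^ 2 = 2 → IsSquare (-1 : F)) : ¬ IsBin H := by
  classical
  set D := pslData (F := F) p
  have h2 := two_ne_zero_of_odd_card hodd
  have hflip : ∀ g, g ∈ H → g ∉ tor a → g * g = 1 ∧ ∀ b ∈ tor a, g * b * g⁻¹ = b⁻¹ := fun g hg hgn =>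
    D.semi_flip ha hap ((D.mem_normalizer_iff ha).1 (hN hg)) hgn
  obtain ⟨hss, hsinv⟩ := hflip s hs hsT
  have hs1 : s ≠ 1 := fun e => hsT (e ▸ one_mem _)
  set c : PSL₂ := proj C with hcdef
  have hc1 : c ≠ 1 := fun e => by rw [e, orderOf_one] at hc3; omega
  have hcp : c ^ p ≠ 1 := D.semi_of_ne ha hap hcT hc1
  have hCns : ¬ IsScalar C := fun e => hc1 (proj_one_iff.2 e)
  obtain ⟨hα0, hα4⟩ := cover_of_order (by omega) (D.semi_coprime hc1 hcp) (rfl : proj C = c)
  -- the involution of the torus, if there is one in `H`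
  obtain ⟨S, Z, hq, hS, hZ⟩ : ∃ S Z : SL₂, Quat S Z ∧ proj S = s ∧
      ∀ d ∈ H, d ∈ tor a → d * d = 1 → d ≠ 1 → d = proj Z := by
    by_cases hz : ∃ z ∈ H, z ∈ tor a ∧ z * z = 1 ∧ z ≠ 1
    · obtain ⟨z, hzH, hzT, hzz, hz1⟩ := hz
      have hsz : s * z = z * s := by
        have := hsinv z hzT
        rw [inv_eq_of_mul_eq_one_right hzz, mul_inv_eq_iff_eq_mul] at this
        exact this
      obtain ⟨S, rfl⟩ := proj_surjective s
      obtain ⟨Z, rfl⟩ := proj_surjective z
      refine ⟨S, Z, ⟨(tr_involution h2 hss hs1).1, (tr_involution h2 hzz hz1).1, ?_⟩, rfl, ?_⟩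
      · rcases proj_eq_iff.1 (show proj (S * Z) = proj (Z * S) by rw [map_mul, map_mul, hsz]) with e | e
        · exfalso
          refine hsT ?_
          have h : proj S ∈ tor (proj Z) := mem_tor_iff.2 e.symm
          rwa [show tor (proj Z) = tor a from D.same ha hzT hz1] at h
        · exact e
      · intro d hd hdT hdd hd1
        haveI : IsCyclic (tor a) := D.semi_cyclic ha hap
        by_contra hne
        haveI : Fintype (tor a) := Fintype.ofFinite _
        have h3 := IsCyclic.card_pow_eq_one_le (α := tor a) two_pos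
        have h4 : ({1, ⟨proj Z, hzT⟩, ⟨d, hdT⟩} : Finset (tor a)) ⊆ Finset.univ.filter (fun z => z ^ 2 = 1) := by
          intro w hw
          simp only [Finset.mem_insert, Finset.mem_singleton] at hw
          refine Finset.mem_filter.mpr ⟨Finset.mem_univ _, Subtype.ext ?_⟩
          rcases hw with rfl | rfl | rfl
          · simp
          · simpa [sq] using hzz
          · simpa [sq] using hdd
        have h5 := (Finset.card_le_card h4).trans h3
        rw [Finset.card_insert_of_notMem, Finset.card_insert_of_notMem, Finset.card_singleton] at h5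
        · omega
        · simp only [Finset.mem_singleton, Subtype.mk.injEq]; exact Ne.symm hne
        · simp only [Finset.mem_insert, Finset.mem_singleton, not_or]
          exact ⟨fun e => hz1 (congrArg Subtype.val e).symm, fun e => hd1 (congrArg Subtype.val e).symm⟩
    · obtain ⟨S, Z, hq, hS⟩ := exists_quat_of_invol h2 hss hs1
      exact ⟨S, Z, hq, hS, fun d hd hdT hdd hd1 => absurd ⟨d, hd, hdT, hdd, hd1⟩ hz⟩
  obtain ⟨X, hX, hXS, hZX, hZY, hXnc⟩ := exists_triangle h2 h7 hq hα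
  obtain ⟨u, hu⟩ := isConj_iff.1 (isConj_proj (X := C) (Y := X) rfl hα4 (Or.inl hX))
  obtain ⟨v, hv⟩ := isConj_iff.1 (isConj_proj (X := C) (Y := X⁻¹ * S) rfl hα4 (Or.inl hXS))
  have he : s = (u * c * u⁻¹) * (v * c * v⁻¹) := by
    rw [hu, hv, ← map_mul, mul_inv_cancel_left, hS]
  -- conjugates of the generator outside the torus
  have hc2 : c * c ≠ 1 := fun e => by
    have := Nat.le_of_dvd two_pos (orderOf_dvd_of_pow_eq_one (show c ^ 2 = 1 by rw [sq]; exact e))
    omega
  have hord : ∀ g : PSL₂, g * c * g⁻¹ * (g * c * g⁻¹) ≠ 1 := fun g e => hc2 (by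
    rw [show g * c * g⁻¹ * (g * c * g⁻¹) = g * (c * c) * g⁻¹ by group, conj_eq_one_iff] at e
    exact e)
  have key : ∀ (w : PSL₂) (W : SL₂), w * c * w⁻¹ = proj W → tr (Z * W) ≠ 0 → w * c * w⁻¹ ∉ tor a →
      ¬ Commute W S → (∀ x, x = w * c * w⁻¹ → s * x * s⁻¹ ≠ x⁻¹) →
      s ∉ stab H w ∧ ∀ d ∈ H, d ∈ tor a → d ∈ stab H w → d = 1 := by
    intro w W hw hZW hwT hWS hsW
    constructor
    · intro hsw
      rw [mem_stab] at hsw
      by_cases h : w⁻¹ * s * w ∈ tor a
      · have h2' := D.conj w hc1 (show w⁻¹ * s * w ∈ tor c by rw [show tor c = tor a from D.same ha hcT hc1]; exact h)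
        change w * (w⁻¹ * s * w) * w⁻¹ ∈ tor (w * c * w⁻¹) at h2'
        rw [show w * (w⁻¹ * s * w) * w⁻¹ = s by group, hw, ← hS, mem_tor_iff] at h2'
        exact hWS h2'.symm
      · refine hsW _ rfl ?_
        have hi := (hflip _ hsw h).2 c hcT
        calc s * (w * c * w⁻¹) * s⁻¹ = w * ((w⁻¹ * s * w) * c * (w⁻¹ * s * w)⁻¹) * w⁻¹ := by group
          _ = (w * c * w⁻¹)⁻¹ := by rw [hi]; group
    · intro d hd hdT hdw
      rw [mem_stab] at hdw
      by_contra hd1
      by_cases h : w⁻¹ * d * w ∈ tor a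
      · have h' : w⁻¹ * d * w ∈ tor c := by rw [show tor c = tor a from D.same ha hcT hc1]; exact h
        have h2' := D.conj w hc1 h'
        rw [show w * (w⁻¹ * d * w) * w⁻¹ = d by group] at h2'
        have e := D.same (fun e => hc1 (conj_eq_one_iff.1 e)) h2' hd1
        refine hwT ?_
        have e' : tor d = tor a := D.same ha hdT hd1
        rw [← e']
        show w * c * w⁻¹ ∈ D.T d
        rw [e]
        exact D.self _
      · obtain ⟨hdd', hi⟩ := hflip _ hdw h
        have hdd : d * d = 1 := by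
          calc d * d = w * ((w⁻¹ * d * w) * (w⁻¹ * d * w)) * w⁻¹ := by group
            _ = 1 := by rw [hdd']; group
        have hinv : d * (w * c * w⁻¹) * d⁻¹ = (w * c * w⁻¹)⁻¹ := by
          calc d * (w * c * w⁻¹) * d⁻¹ = w * ((w⁻¹ * d * w) * c * (w⁻¹ * d * w)⁻¹) * w⁻¹ := by group
            _ = (w * c * w⁻¹)⁻¹ := by rw [hi c hcT]; group
        rw [hZ d hd hdT hdd hd1, hw] at hinv
        have hq2 : proj (Z * W) * proj (Z * W) = (1 : PSL₂) := by
          rw [map_mul]
          calc proj Z * proj W * (proj Z * proj W)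
              = (proj Z * proj W * (proj Z)⁻¹) * (proj Z * proj Z) * proj W := by group
            _ = 1 := by rw [hinv, Quat.sq_proj hq.yy]; group
        have hne1 : proj (Z * W) ≠ (1 : PSL₂) := fun e => by
          rw [map_mul, mul_eq_one_iff_inv_eq] at e
          refine hord w ?_
          rw [hw, ← e, ← _root_.mul_inv_rev, Quat.sq_proj hq.yy, inv_one]
        exact hZW (tr_involution h2 hq2 hne1).2
  have huT : u * c * u⁻¹ ∉ tor a := fun h => by
    have hvc : v * c * v⁻¹ = (u * c * u⁻¹)⁻¹ * s := by rw [he]; group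
    refine hord v ?_
    have hnT : v * c * v⁻¹ ∉ tor a := fun h' => hsT (he ▸ mul_mem h h')
    have hnN : v * c * v⁻¹ ∈ Subgroup.normalizer (tor a : Set PSL₂) := by
      rw [hvc]; exact mul_mem (inv_mem (Subgroup.le_normalizer h)) (hN hs)
    exact (D.semi_flip ha hap ((D.mem_normalizer_iff ha).1 hnN) hnT).1
  have hvT : v * c * v⁻¹ ∉ tor a := fun h => by
    have huc : u * c * u⁻¹ = s * (v * c * v⁻¹)⁻¹ := by rw [he]; group
    refine hord u ?_
    have hnT : u * c * u⁻¹ ∉ tor a := huT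
    have hnN : u * c * u⁻¹ ∈ Subgroup.normalizer (tor a : Set PSL₂) := by
      rw [huc]; exact mul_mem (hN hs) (inv_mem (Subgroup.le_normalizer h))
    exact (D.semi_flip ha hap ((D.mem_normalizer_iff ha).1 hnN) hnT).1
  have hnoinv : ∀ g g' : PSL₂, (s = g * g' ∨ s = g' * g) → g' * g' ≠ 1 → s * g * s⁻¹ ≠ g⁻¹ := by
    intro g g' hgg hg' e
    refine hg' ?_
    rcases hgg with h | h
    · have hg'' : g' = g⁻¹ * s := by rw [h]; group
      calc g' * g' = g⁻¹ * s * g⁻¹ * s := by rw [hg'']; group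
        _ = g⁻¹ * (s * g * s⁻¹)⁻¹ * (s * s) := by group
        _ = 1 := by rw [e, hss]; group
    · have hg'' : g' = s * g⁻¹ := by rw [h]; group
      calc g' * g' = s * g⁻¹ * (s * g⁻¹) := by rw [hg'']
        _ = (s * g * s⁻¹)⁻¹ * (s * s) * g⁻¹ := by group
        _ = 1 := by rw [e, hss]; group
  obtain ⟨hsu, hud⟩ := key u X hu hZX huT hXnc fun x hx => hnoinv x (v * c * v⁻¹)
    (Or.inl (hx ▸ he)) (hord v)
  obtain ⟨hsv, hvd⟩ := key v (X⁻¹ * S) hv hZY hvT (fun h => hXnc (by
    have h' := h.mul_left ((Commute.refl S).inv_left)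
    rw [mul_inv_cancel_right] at h'
    simpa using h'.inv_left)) fun x hx => hnoinv x (u * c * u⁻¹) (Or.inr (hx ▸ he)) (hord u)
  exact not_isBin_dih p ha hap hN hs hsT hc hc he hud hsu hvd hsv

/-- Dihedral subgroups of order eight inside larger torus normalisers. -/
theorem not_isBin_dih_four (hodd : Odd (Fintype.card F)) {H : Subgroup PSL₂}
    {a : PSL₂} (ha : a ≠ 1) (hap : a ^ p ≠ 1) (hN : H ≤ Subgroup.normalizer (tor a : Set PSL₂))
    {s : PSL₂} (hs : s ∈ H) (hsT : s ∉ tor a) {c : PSL₂} (hc : c ∈ H) (hcT : c ∈ tor a)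
    (hc4 : orderOf c = 4) (hHT : Nat.card ↥(H ⊓ tor a) < Nat.card (tor a)) : ¬ IsBin H := by
  classical
  set D := pslData (F := F) p
  have h2 := two_ne_zero_of_odd_card hodd
  set z := c * c with hz
  have hzz : z * z = 1 := by
    rw [hz, show c * c * (c * c) = c ^ 4 by simp [pow_succ, mul_assoc], ← hc4, pow_orderOf_eq_one]
  have hz1 : z ≠ 1 := fun e => by
    have := Nat.le_of_dvd two_pos (orderOf_dvd_of_pow_eq_one (show c ^ 2 = 1 by rw [sq]; exact e))
    omega
  have hzT : z ∈ tor a := mul_mem hcT hcT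
  have hflip : ∀ g, g ∈ Subgroup.normalizer (tor a : Set PSL₂) → g ∉ tor a →
      g * g = 1 ∧ ∀ b ∈ tor a, g * b * g⁻¹ = b⁻¹ := fun g hg hgn =>
    D.semi_flip ha hap ((D.mem_normalizer_iff ha).1 hg) hgn
  have hzc : ∀ g ∈ H, Commute g z := by
    intro g hg
    by_cases hgT : g ∈ tor a
    · exact D.comm ha hgT hzT
    · have := (hflip g (hN hg) hgT).2 z hzT
      rw [inv_eq_of_mul_eq_one_right hzz, mul_inv_eq_iff_eq_mul] at this
      exact this
  obtain ⟨t, htT, htH⟩ : ∃ t ∈ tor a, t ∉ H := by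
    by_contra hc'
    push Not at hc'
    rw [inf_eq_right.2 (show tor a ≤ H from hc')] at hHT
    exact lt_irrefl _ hHT
  set r := s * t with hr
  have hrN : r ∈ Subgroup.normalizer (tor a : Set PSL₂) := mul_mem (hN hs) (Subgroup.le_normalizer htT)
  have hrT : r ∉ tor a := fun h => hsT ((Subgroup.mul_mem_cancel_right _ htT).1 h)
  have hrH : r ∉ H := fun h => htH ((Subgroup.mul_mem_cancel_left _ hs).1 h)
  have hrcH : r * c ∉ H := fun h => hrH ((Subgroup.mul_mem_cancel_right _ hc).1 h)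
  have hrcN : r * c ∈ Subgroup.normalizer (tor a : Set PSL₂) := mul_mem hrN (Subgroup.le_normalizer hcT)
  have hrcT : r * c ∉ tor a := fun h => hrT ((Subgroup.mul_mem_cancel_right _ hcT).1 h)
  have key : ∀ g, g ∈ Subgroup.normalizer (tor a : Set PSL₂) → g ∉ tor a → g ∉ H →
      ∃ u, u * z * u⁻¹ = g ∧ ∀ d ∈ H, d ∈ stab H u → d = 1 ∨ d = z := by
    intro g hgN hgT hgH
    obtain ⟨hgg, hgi⟩ := hflip g hgN hgT
    obtain ⟨u, hu⟩ := invol_conj h2 hzz hz1 hgg (fun e => hgT (e ▸ one_mem _))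
    refine ⟨u, hu, fun d hd hdu => ?_⟩
    have hdg : Commute d g := by
      rw [← hu]
      have h := (Commute.conj_iff u).2 (hzc _ (mem_stab.1 hdu))
      rwa [show u * (u⁻¹ * d * u) * u⁻¹ = d by group] at h
    -- involutions of the torus
    have huniq : ∀ e ∈ tor a, e * e = 1 → e = 1 ∨ e = z := by
      intro e he hee
      haveI : IsCyclic (tor a) := D.semi_cyclic ha hap
      by_contra hne
      push Not at hne
      haveI : Fintype (tor a) := Fintype.ofFinite _
      have h3 := IsCyclic.card_pow_eq_one_le (α := tor a) two_pos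
      have h4 : ({1, ⟨z, hzT⟩, ⟨e, he⟩} : Finset (tor a)) ⊆ Finset.univ.filter (fun z => z ^ 2 = 1) := by
        intro w hw
        simp only [Finset.mem_insert, Finset.mem_singleton] at hw
        refine Finset.mem_filter.mpr ⟨Finset.mem_univ _, Subtype.ext ?_⟩
        rcases hw with rfl | rfl | rfl
        · simp
        · simpa [sq] using hzz
        · simpa [sq] using hee
      have h5 := (Finset.card_le_card h4).trans h3
      rw [Finset.card_insert_of_notMem, Finset.card_insert_of_notMem, Finset.card_singleton] at h5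
      · omega
      · simp only [Finset.mem_singleton, Subtype.mk.injEq]; exact Ne.symm hne.2
      · simp only [Finset.mem_insert, Finset.mem_singleton, not_or]
        exact ⟨fun e' => hz1 (congrArg Subtype.val e').symm, fun e' => hne.1 (congrArg Subtype.val e').symm⟩
    by_cases hdT : d ∈ tor a
    · refine huniq d hdT ?_
      have := hgi d hdT
      rw [← hdg.eq, mul_inv_cancel_right] at this
      exact mul_eq_one_iff_eq_inv.2 this
    · exfalso
      obtain ⟨hdd, -⟩ := hflip d (hN hd) hdT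
      have hprod := D.semi_mul ha hap ((D.mem_normalizer_iff ha).1 (hN hd)) hdT
        ((D.mem_normalizer_iff ha).1 hgN) hgT
      have hsq : d * g * (d * g) = 1 := by
        rw [mul_assoc, ← mul_assoc g, ← hdg.eq, mul_assoc d g, hgg, mul_one, hdd]
      have hg' : g = d * (d * g) := by rw [← mul_assoc, hdd, one_mul]
      refine hgH (hg' ▸ ?_)
      rcases huniq _ hprod hsq with e | e <;> rw [e]
      · exact mul_mem hd (one_mem H)
      · exact mul_mem hd (mul_mem hc hc)
  obtain ⟨hrr, -⟩ := hflip r hrN hrT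
  obtain ⟨u, hu, hu'⟩ := key r hrN hrT hrH
  obtain ⟨v, hv, hv'⟩ := key (r * c) hrcN hrcT hrcH
  refine not_isBin u v c z z hc (mul_mem hc hc) (mul_mem hc hc) (by rw [hu, hv, ← mul_assoc, hrr, one_mul])
    fun d e hd hdu he hev hde => hz1 ?_
  show c * c = 1
  rcases hu' d hd hdu with rfl | rfl <;> rcases hv' e he hev with rfl | rfl <;> rw [hde] <;>
    simp [hzz]

end dihedral

end Cfsg.Agent.PSLBin
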