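import Cfsg.Agent.Lib.Classical.UnitCenter

/-! Matrices commuting with `SU_n`, the centre and the determinant of `GU_n`. -/

set_option autoImplicit false

namespace Cfsg.Agent.UnitDiagonalOut

open Matrix Cfsg.Agent.Classical

variable {F : Type*} [Field F] [Fintype F] {q n : ℕ}

/-- A matrix commuting with `SU_n` is scalar. -/
theorem scalar_of_commute_su (hF : Fintype.card F = q ^ 2) {M : Matrix (Fin n) (Fin n) F}
    (hcom : ∀ t : SU n F q, suVal t * M = M * suVal t) : ∃ c : F, M = Matrix.scalar (Fin n) c := by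
  classical
  obtain ⟨c, hc, hc2⟩ := exists_norm_one_sq_ne_one hF
  have hc0 : c ≠ 0 := by
    rintro rfl; rw [zero_pow (by omega)] at hc; exact zero_ne_one hc
  have hoff : ∀ i j, i ≠ j → M i j = 0 := by
    intro i j hij
    let D : Fin n → F := fun l => if l = i then c else if l = j then c⁻¹ else 1
    have hD : ∀ l, D l ^ (q + 1) = 1 := fun l => by
      simp only [D]; split_ifs <;> simp [hc]
    have hdet : (Matrix.diagonal D).det = 1 := by
      rw [Matrix.det_diagonal, Finset.prod_eq_mul i j hij (fun l _ hl => by simp [D, hl.1, hl.2])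
        (by simp) (by simp)]
      simp [D, hij.symm, hc0]
    have h := congrFun (congrFun (hcom (suMk hF _ hdet (transpose_mul_diagonal hF hD))) i) j
    rw [suVal_suMk, Matrix.diagonal_mul, Matrix.mul_diagonal] at h
    have h' : (c ^ 2 - 1) * M i j = 0 := by
      simp [D, hij.symm] at h
      field_simp at h
      linear_combination h
    exact (mul_eq_zero.1 h').resolve_left (sub_ne_zero.2 hc2)
  have hdiag : ∀ i j, M i i = M j j := by
    intro i j
    rcases eq_or_ne i j with rfl | hij
    · rfl
    let π : Equiv.Perm (Fin n) := Equiv.swap i j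
    let E : Fin n → F := fun l => if l = i then -1 else 1
    have hdet : (Matrix.diagonal E * π.permMatrix F).det = 1 := by
      rw [Matrix.det_mul, Matrix.det_diagonal, Matrix.det_permutation, Finset.prod_eq_single i
        (fun l _ hl => by simp [E, hl]) (by simp)]
      simp [E, π, Equiv.Perm.sign_swap hij]
    have hP : (Matrix.diagonal E * π.permMatrix F)ᵀ * (Matrix.diagonal E * π.permMatrix F).map (qFrob hF) = 1 := by
      refine transpose_mul_of_preserves hF fun u v => ?_
      simp only [← Matrix.mulVec_mulVec, Matrix.permMatrix_mulVec]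
      refine Eq.trans ?_ (Equiv.sum_comp π (fun l => u l * v l ^ q))
      refine Finset.sum_congr rfl fun l _ => ?_
      rw [Matrix.mulVec_diagonal, Matrix.mulVec_diagonal, mul_pow]
      have hE : E l * E l ^ q = 1 := by
        simp only [E]
        split_ifs
        · rw [← qFrob_apply hF, map_neg, map_one]; ring
        · simp
      simp only [Function.comp]
      linear_combination (u (π l) * v (π l) ^ q) * hE
    have h := congrFun (congrFun (hcom (suMk hF _ hdet hP)) i) j
    rw [suVal_suMk, Matrix.mul_apply, Matrix.mul_apply, Finset.sum_eq_single j, Finset.sum_eq_single i] at h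
    · simpa [Equiv.Perm.permMatrix, PEquiv.toMatrix_apply, π, E] using h.symm
    · intro l _ hl; simp [hoff i l (Ne.symm hl)]
    · simp
    · intro l _ hl; simp [Equiv.Perm.permMatrix, PEquiv.toMatrix_apply, π, E, Ne.symm hl]
    · simp
  rcases Nat.eq_zero_or_pos n with rfl | hn
  · exact ⟨1, Matrix.ext fun i => i.elim0⟩
  refine ⟨M ⟨0, hn⟩ ⟨0, hn⟩, ?_⟩
  ext i j
  rw [Matrix.scalar_apply, Matrix.diagonal_apply]
  split_ifs with h
  · rw [← h]; exact hdiag i _
  · exact hoff i j h


/-- An element of `GU_n` as a matrix. -/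
abbrev guVal (g : GU n F q) : Matrix (Fin n) (Fin n) F := g.1.val

theorem guVal_transpose_mul (hF : Fintype.card F = q ^ 2) (g : GU n F q) :
    (guVal g)ᵀ * (guVal g).map (qFrob hF) = 1 :=
  transpose_mul_of_preserves hF fun u v => g.2 u v

theorem det_norm_one (hF : Fintype.card F = q ^ 2) (g : GU n F q) : (guVal g).det ^ (q + 1) = 1 := by
  have h := congrArg Matrix.det (guVal_transpose_mul hF g)
  rw [Matrix.det_mul, Matrix.det_transpose, ← RingHom.mapMatrix_apply, ← RingHom.map_det, qFrob_apply,
    ← pow_succ', Matrix.det_one] at h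
  exact h

/-- The norm one group. -/
def normOne (F : Type*) [Field F] (q : ℕ) : Subgroup Fˣ := (powMonoidHom (q + 1) : Fˣ →* Fˣ).ker

theorem natCard_normOne (hF : Fintype.card F = q ^ 2) : Nat.card (normOne F q) = q + 1 := by
  rw [← natCard_norm_eq hF (one_pow q) one_ne_zero]
  refine Nat.card_congr ⟨fun u => ⟨(u.1 : F), congrArg Units.val (show u.1 ^ (q + 1) = 1 from u.2)⟩,
    fun c => ⟨Units.mk0 c.1 fun h => by
        have := c.2
        rw [h, zero_pow (by omega)] at this
        exact zero_ne_one this, Units.ext c.2⟩,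
    fun u => Subtype.ext (Units.ext rfl), fun c => Subtype.ext rfl⟩

/-- A diagonal element of `GU_n`. -/
def guDiag (hF : Fintype.card F = q ^ 2) (d : Fin n → normOne F q) : GU n F q :=
  ⟨⟨Matrix.diagonal fun i => ((d i).1 : F), Matrix.diagonal fun i => (((d i).1⁻¹ : Fˣ) : F),
    by simp [Matrix.diagonal_mul_diagonal], by simp [Matrix.diagonal_mul_diagonal]⟩,
    fun u v => preserves_of_transpose_mul hF
      (transpose_mul_diagonal hF fun i => congrArg Units.val (show (d i).1 ^ (q + 1) = 1 from (d i).2)) u v⟩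

theorem guVal_guDiag (hF : Fintype.card F = q ^ 2) (d : Fin n → normOne F q) :
    guVal (guDiag hF d) = Matrix.diagonal fun i => ((d i).1 : F) := rfl

/-- The determinant with values in the norm one group. -/
noncomputable def guDet (hF : Fintype.card F = q ^ 2) : GU n F q →* normOne F q :=
  MonoidHom.codRestrict (Matrix.GeneralLinearGroup.det.comp (GU n F q).subtype) _
    fun g => Units.ext (det_norm_one hF g)

theorem coe_guDet (hF : Fintype.card F = q ^ 2) (g : GU n F q) :
    ((guDet hF g).1 : F) = (guVal g).det := rfl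

theorem guDet_surjective (hF : Fintype.card F = q ^ 2) (hn : 1 ≤ n) :
    Function.Surjective (guDet (n := n) hF) := by
  intro z
  refine ⟨guDiag hF (Function.update 1 ⟨0, hn⟩ z), Subtype.ext (Units.ext ?_)⟩
  rw [coe_guDet, guVal_guDiag, Matrix.det_diagonal, Finset.prod_eq_single ⟨0, hn⟩
    (fun l _ hl => by simp [Function.update_of_ne hl]) (by simp)]
  simp

theorem guDet_scalar (hF : Fintype.card F = q ^ 2) (z : normOne F q) :
    guDet hF (guDiag (n := n) hF fun _ => z) = z ^ n :=
  Subtype.ext (Units.ext (by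
    rw [coe_guDet, guVal_guDiag, Matrix.det_diagonal]; simp))

theorem scalar_mem_center (hF : Fintype.card F = q ^ 2) (z : normOne F q) :
    guDiag (n := n) hF (fun _ => z) ∈ Subgroup.center (GU n F q) :=
  Subgroup.mem_center_iff.2 fun g => Subtype.ext (Units.ext
    ((Matrix.scalar_commute (z.1 : F) (fun r => Commute.all _ r) (guVal g)).eq).symm)

theorem guDet_center (hF : Fintype.card F = q ^ 2) (hn : 1 ≤ n) {g : GU n F q}
    (hg : g ∈ Subgroup.center (GU n F q)) : ∃ z, guDet hF g = z ^ n := by
  obtain ⟨c, hc⟩ := scalar_of_commute_su (M := guVal g) hF fun t => by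
    let t' : GU n F q := ⟨Matrix.SpecialLinearGroup.toGL t.1, fun u v => t.2 u v⟩
    exact congrArg guVal (Subgroup.mem_center_iff.1 hg t')
  have hc1 : c ^ (q + 1) = 1 := by
    have h := congrFun (congrFun (guVal_transpose_mul hF g) ⟨0, hn⟩) ⟨0, hn⟩
    rw [hc, Matrix.scalar_apply, Matrix.diagonal_transpose, Matrix.diagonal_map (map_zero _),
      Matrix.diagonal_mul_diagonal, Matrix.diagonal_apply_eq, Matrix.one_apply_eq, qFrob_apply,
      ← pow_succ'] at h
    exact h
  have hc0 : c ≠ 0 := fun h => by
    rw [h, zero_pow (by omega)] at hc1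
    exact zero_ne_one hc1
  refine ⟨⟨Units.mk0 c hc0, Units.ext hc1⟩, Subtype.ext (Units.ext ?_)⟩
  rw [coe_guDet, hc, Matrix.scalar_apply, Matrix.det_diagonal]
  simp

theorem exists_hom (hF : Fintype.card F = q ^ 2) (hn : 1 ≤ n) :
    ∃ φ : GU n F q →* Multiplicative (ZMod (Nat.gcd n (q + 1))), Function.Surjective φ ∧
      φ.ker = (Matrix.GeneralLinearGroup.det : Matrix.GeneralLinearGroup (Fin n) F →* Fˣ).ker.subgroupOf
        (GU n F q) ⊔ Subgroup.center (GU n F q) := by
  classical
  let R : Subgroup (normOne F q) := (powMonoidHom n).range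
  have : IsCyclic (normOne F q ⧸ R) := isCyclic_of_surjective (QuotientGroup.mk' R)
    (QuotientGroup.mk'_surjective R)
  have hcard : Nat.card (normOne F q ⧸ R) = Nat.gcd n (q + 1) := by
    rw [← Subgroup.index_eq_card, IsCyclic.index_powMonoidHom_range, natCard_normOne hF, Nat.gcd_comm]
  let e : normOne F q ⧸ R ≃* Multiplicative (ZMod (Nat.gcd n (q + 1))) :=
    mulEquivOfCyclicCardEq (by rw [hcard, Nat.card_congr Multiplicative.toAdd, Nat.card_zmod])
  refine ⟨e.toMonoidHom.comp ((QuotientGroup.mk' R).comp (guDet hF)),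
    e.surjective.comp ((QuotientGroup.mk'_surjective R).comp (guDet_surjective hF hn)), ?_⟩
  ext g
  rw [MonoidHom.mem_ker, MonoidHom.comp_apply, MulEquiv.coe_toMonoidHom, MulEquiv.map_eq_one_iff,
    MonoidHom.comp_apply, QuotientGroup.mk'_apply, QuotientGroup.eq_one_iff]
  have : ((Matrix.GeneralLinearGroup.det : Matrix.GeneralLinearGroup (Fin n) F →* Fˣ).ker.subgroupOf
      (GU n F q)).Normal := inferInstance
  constructor
  · rintro ⟨z, hz⟩
    rw [← mul_inv_cancel_right g (guDiag hF fun _ => z)⁻¹, inv_inv]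
    refine Subgroup.mul_mem_sup ?_ (scalar_mem_center hF z)
    show Matrix.GeneralLinearGroup.det (g * (guDiag hF fun _ => z)⁻¹).1 = 1
    have h := congrArg Subtype.val (show guDet hF (g * (guDiag hF fun _ => z)⁻¹) = 1 by
      rw [map_mul, map_inv, guDet_scalar, ← hz]; exact mul_inv_cancel _)
    exact h
  · intro hg
    rw [← SetLike.mem_coe, Subgroup.mul_normal] at hg
    obtain ⟨a, ha, b, hb, rfl⟩ := hg
    obtain ⟨z, hz⟩ := guDet_center hF hn hb
    refine ⟨z, ?_⟩
    rw [map_mul, hz, show guDet hF a = 1 from Subtype.ext (show Matrix.GeneralLinearGroup.det a.1 = 1 from ha),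
      one_mul]
    rfl

end Cfsg.Agent.UnitDiagonalOut
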