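import Cfsg.Agent.Lib.Classical.UnitMultPLift
import Cfsg.Agent.Lib.Lie.SU3PresFrame
import Cfsg.Agent.Lib.Fus.UnitTransvection

/-!
`SU₃(q)` is generated by its elements of `p`-power order for the characteristic `p`, for every `q`; its order;
the index of a subgroup extended by one element.
-/

set_option autoImplicit false
set_option linter.unusedSectionVars false

namespace Cfsg.Agent.Classical.UnitMult

open Matrix Cfsg.Agent.Classical Cfsg.Agent.Classical.PSUAut Cfsg.Agent.Fus.UnitN Cfsg.Agent.Lie.SUGen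
  Cfsg.Agent.Lie.SU3Pres

/-- The index of a normal subgroup extended by one element. -/
theorem index_sup_zpowers_dvd {G : Type*} [Group G] [Finite G] (A : Subgroup G) {b : G}
    (hb : ∀ a ∈ A, b * a * b⁻¹ ∈ A) {r : ℕ} (hr : ∀ k : ℕ, b ^ k ∈ A → r ∣ k) :
    (A ⊔ Subgroup.zpowers b).index * r ∣ A.index := by
  set M := A ⊔ Subgroup.zpowers b with hM
  haveI : (A.subgroupOf M).Normal := by
    refine Subgroup.normal_subgroupOf_iff_le_normalizer le_sup_left |>.2 ?_
    rw [sup_le_iff, Subgroup.zpowers_le]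
    refine ⟨Subgroup.le_normalizer, ?_⟩
    exact Subgroup.mem_normalizer_fintype (S := (A : Set G)) hb
  rw [← Subgroup.relIndex_mul_index (le_sup_left : A ≤ M), mul_comm _ r]
  refine Nat.mul_dvd_mul_right ?_ _
  let bb : M ⧸ A.subgroupOf M := QuotientGroup.mk ⟨b, Subgroup.mem_sup_right (Subgroup.mem_zpowers b)⟩
  refine (hr (orderOf bb) ?_).trans (orderOf_dvd_natCard bb)
  have := pow_orderOf_eq_one bb
  rw [← QuotientGroup.mk_pow, QuotientGroup.eq_one_iff, Subgroup.mem_subgroupOf] at this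
  simpa using this

variable {F : Type*} [Field F] [Fintype F] {q : ℕ} (hF : Fintype.card F = q ^ 2)

local notation "cj" => qFrob hF

include hF

theorem natCard_SU3 : Nat.card (SU 3 F q) = q ^ 3 * (q ^ 3 + 1) * (q ^ 2 - 1) := by
  have h1 := order_GU hF 3
  rw [natCard_GU_eq_SU hF (by norm_num : 1 ≤ 3)] at h1
  simp [Finset.prod_range_succ] at h1
  have hq := two_le_q hF
  have h2 : 1 ≤ q ^ 2 := Nat.one_le_pow _ _ (by omega)
  have h3 : ((q + 1) * (q ^ 3 * (q ^ 3 + 1) * (q ^ 2 - 1)) : ℕ) = (q + 1) * Nat.card (SU 3 F q) := by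
    zify [h2]
    rw [h1]
    ring
  exact (Nat.eq_of_mul_eq_mul_left (by omega) h3).symm

variable {p : ℕ} [Fact p.Prime] [CharP F p]

theorem isPElem_transvection {n : ℕ} {v : Fin n → F} {c : F} (H : EOK (q := q) v 0 c) :
    IsPElem p (eSU hF H) := by
  have key : ∀ k : ℕ, ∃ H' : EOK (q := q) v 0 (k • c), eSU hF H ^ k = eSU hF H' := by
    intro k
    induction k with
    | zero =>
      refine ⟨by rw [zero_smul]; exact EOK.zero hF H.ee, ?_⟩
      rw [pow_zero, ← eSU_zero hF H.ee]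
      exact eSU_congr hF _ _ rfl (zero_smul ℕ c).symm
    | succ k ih =>
      obtain ⟨H', e⟩ := ih
      have H'' := H'.mul hF H
      refine ⟨?_, ?_⟩
      · simpa [h_zero_left, succ_nsmul, add_mul, -nsmul_eq_mul] using H''
      · rw [pow_succ, e, eSU_mul]
        exact eSU_congr hF _ _ (add_zero 0) (by simp [h_zero_left, succ_nsmul, -nsmul_eq_mul])
  obtain ⟨H', e⟩ := key p
  refine ⟨1, ?_⟩
  rw [pow_one, e, ← eSU_zero hF H.ee]
  exact eSU_congr hF _ _ rfl (by rw [nsmul_eq_mul, CharP.cast_eq_zero, zero_mul])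

section Frame

variable {e n f : Fin 3 → F} (B : Frame3 q e n f)
include B

theorem eq_top_of_UW {K : Subgroup (SU 3 F q)} (hU : ∀ α b, OK hF α b → Um hF B α b ∈ K)
    (hW : Wm hF B ∈ K) : K = ⊤ := by
  have hT : ∀ l : F, l ≠ 0 → Tm hF B l ∈ K := by
    intro l hl
    have hl' : cj l ≠ 0 := (map_ne_zero (qFrob hF)).2 hl
    obtain ⟨α, hα⟩ : ∃ α, OK hF α (cj l)⁻¹ := by
      by_cases ht : -((cj l)⁻¹ + cj ((cj l)⁻¹)) = 0
      · exact ⟨0, by simp only [OK, map_zero, mul_zero, add_zero]; exact neg_eq_zero.1 ht⟩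
      obtain ⟨α, hα⟩ := exists_norm_eq (qFrob_ne_id hF) (qFrob_qFrob hF)
        (t := -((cj l)⁻¹ + cj ((cj l)⁻¹))) (by rw [map_neg, map_add, cj_cj hF, add_comm]) ht
      exact ⟨α, by simp only [OK]; linear_combination hα⟩
    have hb : (cj l)⁻¹ ≠ 0 := inv_ne_zero hl'
    have e1 := rank_one hF B hα hb
    rw [show 1 / cj ((cj l)⁻¹) = l by rw [map_inv₀, cj_cj hF, one_div, inv_inv]] at e1
    have h2 : OK hF (-α / cj (cj l)⁻¹) (1 / (cj l)⁻¹) := by
      have := (hα.first hF hb)
      unfold OK at this ⊢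
      simp only [map_neg, map_div₀, cj_cj hF, map_inv₀] at this ⊢
      field_simp at this ⊢
      linear_combination this
    have hmem := mul_mem (mul_mem (inv_mem (hU _ _ (hα.first hF hb))) (mul_mem (mul_mem hW (hU _ _ hα)) hW))
      (mul_mem (inv_mem (hU _ _ h2)) (inv_mem hW))
    rw [e1] at hmem
    simpa [mul_assoc] using hmem
  refine eq_top_iff.2 fun g _ => ?_
  obtain ⟨x, y, z, hg⟩ := exists_co hF B (suVal g *ᵥ e)
  have hiso : x * cj z + y * cj y + z * cj x = 0 := by
    rw [← B.h_co hF, ← hg, su_form, B.P.ee]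
  -- move the first vector back to its line
  obtain ⟨k, hk, c, hc⟩ : ∃ k ∈ K, ∃ c : F, suVal (k * g) *ᵥ e = co e n f c 0 0 := by
    by_cases hz : z = 0
    · refine ⟨1, one_mem _, x, ?_⟩
      subst hz
      have hy : y = 0 := by
        simpa [map_zero] using hiso
      rw [one_mul, hg, hy]
    have hz' : cj z ≠ 0 := (map_ne_zero (qFrob hF)).2 hz
    have hb : OK hF (y / z) (x / z) := by
      simp only [OK, map_div₀]
      field_simp
      linear_combination hiso
    refine ⟨Wm hF B * Um hF B (-(y / z)) (cj (x / z)),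
      mul_mem hW (hU _ _ (hb.inv hF)), z, ?_⟩
    rw [mulVec_mul, mulVec_mul, hg, U_act hF B (hb.inv hF), W_act hF B]
    simp only [map_div₀, map_neg]
    congr 1
    · field_simp; ring
    · field_simp; linear_combination hiso
  have hc0 : c ≠ 0 := by
    intro h0
    have h1 : hermForm 3 F q (suVal (k * g) *ᵥ e) (suVal (k * g) *ᵥ f) = 0 := by
      obtain ⟨a, b', d, hf'⟩ := exists_co hF B (suVal (k * g) *ᵥ f)
      rw [hc, hf', B.h_co hF, h0]
      simp
    rw [su_form, B.P.ef] at h1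
    exact one_ne_zero h1
  set g' := Tm hF B c⁻¹ * (k * g) with hg'
  have he' : suVal g' *ᵥ e = co e n f 1 0 0 := by
    rw [hg', mulVec_mul, hc, T_act hF B (inv_ne_zero hc0), inv_mul_cancel₀ hc0, mul_zero, mul_zero]
  obtain ⟨b, α, d, hf'⟩ := exists_co hF B (suVal g' *ᵥ f)
  have hd : d = 1 := by
    have h1 : hermForm 3 F q (suVal g' *ᵥ e) (suVal g' *ᵥ f) = 1 := by rw [su_form, B.P.ef]
    rw [he', hf', B.h_co hF] at h1
    simp at h1
    rw [← cj_cj hF d, h1, map_one]
  subst hd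
  have hOK : OK hF α b := by
    have h1 : hermForm 3 F q (suVal g' *ᵥ f) (suVal g' *ᵥ f) = 0 := by rw [su_form, B.P.ff]
    rw [hf', B.h_co hF, map_one, mul_one, one_mul] at h1
    simp only [OK]
    linear_combination h1
  set g3 := (Um hF B α b)⁻¹ * g' with hg3
  have he3 : suVal g3 *ᵥ e = e := by
    rw [hg3, mulVec_mul, he', U_inv hF B hOK, U_act hF B (hOK.inv hF)]
    simp [co]
  have hf3 : suVal g3 *ᵥ f = f := by
    rw [hg3, mulVec_mul, hf', U_inv hF B hOK, U_act hF B (hOK.inv hF)]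
    simp only [co, map_neg]
    rw [show b - -cj α * α + cj b * 1 = 0 by simp only [OK] at hOK; linear_combination hOK,
      show α + -α * 1 = 0 by ring]
    simp
  obtain ⟨u, v, w, hn3⟩ := exists_co hF B (suVal g3 *ᵥ n)
  have hu : u = 0 ∧ w = 0 := by
    have h1 : hermForm 3 F q (suVal g3 *ᵥ n) (suVal g3 *ᵥ e) = 0 := by rw [su_form, B.ne]
    have h2 : hermForm 3 F q (suVal g3 *ᵥ n) (suVal g3 *ᵥ f) = 0 := by rw [su_form, B.nf]
    rw [he3, show e = co e n f 1 0 0 from (co_e).symm] at h1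
    rw [hf3, show f = co e n f 0 0 1 from (co_f).symm] at h2
    rw [hn3, B.h_co hF] at h1 h2
    simp at h1 h2
    exact ⟨h2, h1⟩
  obtain ⟨rfl, rfl⟩ := hu
  have hm : suVal g3 * Pm B = Pm B * Matrix.diagonal ![1, v, 1] := by
    refine Matrix.ext_iff_mulVec.2 fun a => ?_
    rw [← Matrix.mulVec_mulVec, ← Matrix.mulVec_mulVec, Pm_mulVec hF B, Pm_mulVec hF B]
    simp [co, Matrix.mulVec_add, Matrix.mulVec_smul, he3, hf3, hn3, Matrix.mulVec_diagonal,
      smul_smul, mul_comm]
  have hv : v = 1 := by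
    have h1 := congrArg Matrix.det hm
    rw [Matrix.det_mul, Matrix.det_mul, Matrix.det_diagonal, Fin.prod_univ_three,
      show (suVal g3).det = 1 from (g3 : Matrix.SpecialLinearGroup (Fin 3) F).2, one_mul] at h1
    have := (Pm_det hF B).ne_zero
    rw [show (![1, v, 1] : Fin 3 → F) 0 = 1 from rfl, show (![1, v, 1] : Fin 3 → F) 1 = v from rfl,
      show (![1, v, 1] : Fin 3 → F) 2 = 1 from rfl, one_mul, mul_one] at h1
    exact mul_left_cancel₀ this (by rw [mul_one]; exact h1.symm)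
  have h3 : g3 = 1 := ext_co hF B fun a b c => by
    rw [suVal_one', Matrix.one_mulVec]
    simp [co, Matrix.mulVec_add, Matrix.mulVec_smul, he3, hf3, hn3, hv]
  have : g = k⁻¹ * (Tm hF B c⁻¹)⁻¹ * Um hF B α b := by
    rw [hg3, inv_mul_eq_one] at h3
    rw [h3, hg']
    group
  rw [this]
  exact mul_mem (mul_mem (inv_mem hk) (inv_mem (hT _ (inv_ne_zero hc0)))) (hU _ _ hOK)

end Frame

theorem closure_pElem {n : ℕ} (hn : 3 ≤ n) (h32 : ¬ (n = 3 ∧ q = 2)) :
    Subgroup.closure {g : SU n F q | IsPElem p g} = ⊤ := by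
  rw [eq_top_iff, ← Fus.UnitTv.closure_transvections hF hn h32]
  refine Subgroup.closure_mono ?_
  rintro A ⟨v, c, hv, hA⟩
  rw [Fus.UnitTv.ut_eq hF] at hA
  by_cases hv0 : v = 0
  · have : A = 1 := suVal_ext (by rw [hA, hv0, suVal_one']; ext i j; simp [eMat])
    rw [this]
    exact IsPElem.one p
  · have H := Fus.UnitTv.eok_of_mem hF hv0 hv A hA
    rw [show A = eSU hF H from suVal_ext (hA.trans (suVal_eSU hF H).symm)]
    exact isPElem_transvection hF H

theorem closure_pElem_three : Subgroup.closure {g : SU 3 F q | IsPElem p g} = ⊤ := by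
  by_cases hq : q = 2
  · obtain ⟨e, n, f, B⟩ := exists_frame hF
    obtain ⟨k, hprime, hcard⟩ := FiniteField.card F p
    have hp : p = 2 := by
      have : p ∣ q ^ 2 := by
        rw [← hF, hcard]; exact dvd_pow_self _ k.pos.ne'
      rw [hq] at this
      exact (Nat.prime_dvd_prime_iff_eq hprime Nat.prime_two).1 (hprime.dvd_of_dvd_pow this)
    subst hp
    haveI : ExpChar F 2 := ExpChar.prime Nat.prime_two
    have hsq : ∀ α b, OK hF α b → ∃ b', OK hF 0 b' ∧ Um hF B α b * Um hF B α b = Um hF B 0 b' := by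
      intro α b hb
      refine ⟨b + b - cj α * α, ?_, ?_⟩
      · have := hb.mul hF hb
        rwa [CharTwo.add_self_eq_zero α] at this
      · rw [U_mul hF B hb hb, CharTwo.add_self_eq_zero α]
    refine eq_top_of_UW hF B (fun α b hb => Subgroup.subset_closure ⟨2, ?_⟩) (Subgroup.subset_closure ⟨1, ?_⟩)
    · obtain ⟨b', hb', e1⟩ := hsq α b hb
      obtain ⟨b'', -, e2⟩ := hsq 0 b' hb'
      rw [show (2 ^ 2 : ℕ) = 2 * 2 from rfl, pow_mul, pow_two, pow_two, e1, U_mul hF B hb' hb', add_zero,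
        CharTwo.add_self_eq_zero, map_zero, zero_mul, sub_zero, U_zero hF B]
    · rw [pow_one, pow_two, W_sq hF B]
  · exact closure_pElem hF le_rfl (fun h3 => hq h3.2)

end Cfsg.Agent.Classical.UnitMult
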