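import Cfsg.Agent.Lib.Classical.UnitRootGroups
import Cfsg.Agent.Lib.Classical.GaloisDescent
import Cfsg.Prelude.Def_LieTypeDatum

/-!
Semilinear automorphisms of `PSU_n(q)`: conjugation by a unitary matrix after a field automorphism.
-/

set_option autoImplicit false
set_option linter.unusedSectionVars false

namespace Cfsg.Agent.Classical.PSUAut

open Matrix Cfsg.Agent.Classical.Descent

variable {F : Type*} [Field F] {q n : ℕ}

local notation "V" => (Fin n → F)
local notation "Mn" => Matrix (Fin n) (Fin n) F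
local notation "GI" => GL (Fin n) F
local notation "h" => hermForm n F q
local notation "PS" => PSU n F q
local notation "π" => suToPSU n F q

theorem mem_GU {g : GI} : g ∈ GU n F q ↔ ∀ u v, h ((g : Mn) *ᵥ u) ((g : Mn) *ᵥ v) = h u v := Iff.rfl

theorem h_comp (σ : F ≃+* F) (u v : V) : h (σ ∘ u) (σ ∘ v) = σ (h u v) := by
  simp [hermForm, map_sum, map_pow]

theorem map_mulVec_comp (σ : F ≃+* F) (A : Mn) (u : V) : A.map σ *ᵥ (σ ∘ u) = σ ∘ (A *ᵥ u) := by
  funext i
  simp [Matrix.mulVec, dotProduct, map_sum]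

theorem map_form (σ : F ≃+* F) {A : Mn} (hA : ∀ u v, h (A *ᵥ u) (A *ᵥ v) = h u v) (u v : V) :
    h (A.map σ *ᵥ u) (A.map σ *ᵥ v) = h u v := by
  obtain ⟨u, rfl⟩ : ∃ u', u = σ ∘ u' := ⟨σ.symm ∘ u, funext fun i => by simp⟩
  obtain ⟨v, rfl⟩ : ∃ v', v = σ ∘ v' := ⟨σ.symm ∘ v, funext fun i => by simp⟩
  rw [map_mulVec_comp, map_mulVec_comp, h_comp, hA, h_comp]

theorem gmap_mem_GU (σ : F ≃+* F) {g : GI} (hg : g ∈ GU n F q) : gmap σ g ∈ GU n F q :=
  fun u v => map_form σ hg u v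

/-- Conjugation by a unitary matrix after a field automorphism, on `SU`. -/
def suSemi (g : GU n F q) (σ : F ≃+* F) : SU n F q ≃* SU n F q where
  toFun s := ⟨⟨((g : GI) : Mn) * (suVal s).map σ * (((g : GI)⁻¹ : GI) : Mn), by
      rw [Matrix.det_mul, Matrix.det_mul, mul_right_comm, ← Matrix.det_mul, Units.mul_inv, Matrix.det_one,
        one_mul, ← RingEquiv.mapMatrix_apply, ← RingEquiv.map_det, s.1.2, map_one]⟩, fun u v => by
      show h ((((g : GI) : Mn) * (suVal s).map σ * (((g : GI)⁻¹ : GI) : Mn)) *ᵥ u)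
        ((((g : GI) : Mn) * (suVal s).map σ * (((g : GI)⁻¹ : GI) : Mn)) *ᵥ v) = h u v
      simp only [← Matrix.mulVec_mulVec]
      rw [mem_GU.1 g.2, map_form σ (A := suVal s) (fun x y => s.2 x y)]
      exact mem_GU.1 (inv_mem g.2) u v⟩
  invFun s := ⟨⟨((((g : GI)⁻¹ : GI) : Mn) * suVal s * ((g : GI) : Mn)).map σ.symm, by
      rw [← RingEquiv.mapMatrix_apply, ← RingEquiv.map_det, Matrix.det_mul, Matrix.det_mul, mul_right_comm,
        ← Matrix.det_mul, Units.inv_mul, Matrix.det_one, one_mul, s.1.2, map_one]⟩, fun u v =>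
      map_form σ.symm (A := (((g : GI)⁻¹ : GI) : Mn) * suVal s * ((g : GI) : Mn)) (fun x y => by
        simp only [← Matrix.mulVec_mulVec]
        rw [mem_GU.1 (inv_mem g.2), show h (suVal s *ᵥ _) (suVal s *ᵥ _) = _ from s.2 _ _]
        exact mem_GU.1 g.2 x y) u v⟩
  left_inv s := by
    refine suVal_ext ?_
    show ((((g : GI)⁻¹ : GI) : Mn) * (((g : GI) : Mn) * (suVal s).map σ * (((g : GI)⁻¹ : GI) : Mn))
      * ((g : GI) : Mn)).map σ.symm = _
    simp only [Matrix.mul_assoc, Units.inv_mul, Matrix.mul_one]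
    rw [← Matrix.mul_assoc, Units.inv_mul, Matrix.one_mul, Matrix.map_map]
    ext i j; simp
  right_inv s := by
    refine suVal_ext ?_
    show ((g : GI) : Mn) * (((((g : GI)⁻¹ : GI) : Mn) * suVal s * ((g : GI) : Mn)).map σ.symm).map σ *
      (((g : GI)⁻¹ : GI) : Mn) = _
    rw [Matrix.map_map, show (σ ∘ σ.symm : F → F) = id from funext fun x => σ.apply_symm_apply x,
      Matrix.map_id]
    simp only [Matrix.mul_assoc, Units.mul_inv, Matrix.mul_one]
    rw [← Matrix.mul_assoc, Units.mul_inv, Matrix.one_mul]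
  map_mul' s t := by
    refine suVal_ext ?_
    show ((g : GI) : Mn) * (suVal s * suVal t).map σ * (((g : GI)⁻¹ : GI) : Mn) =
      (((g : GI) : Mn) * (suVal s).map σ * (((g : GI)⁻¹ : GI) : Mn)) *
        (((g : GI) : Mn) * (suVal t).map σ * (((g : GI)⁻¹ : GI) : Mn))
    rw [Matrix.map_mul]
    simp only [Matrix.mul_assoc]
    rw [← Matrix.mul_assoc (((g : GI)⁻¹ : GI) : Mn), Units.inv_mul, Matrix.one_mul]

theorem suSemi_coe (g : GU n F q) (σ : F ≃+* F) (s : SU n F q) :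
    suVal (suSemi g σ s) = ((g : GI) : Mn) * (suVal s).map σ * (((g : GI)⁻¹ : GI) : Mn) := rfl

/-- The automorphism of `PSU` induced by `v ↦ g σ(v)`. -/
def psuSemi (g : GU n F q) (σ : F ≃+* F) : MulAut PS :=
  QuotientGroup.congr _ _ (suSemi g σ) (Subgroup.characteristic_iff_map_eq.1 inferInstance _)

theorem psuSemi_mk (g : GU n F q) (σ : F ≃+* F) (s : SU n F q) :
    psuSemi g σ (π s) = π (suSemi g σ s) := rfl

theorem suToPSU_surjective : Function.Surjective (suToPSU n F q) := QuotientGroup.mk'_surjective _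

theorem psuSemi_induced (g : GU n F q) (σ : F ≃+* F) :
    IsInducedBySemilinearPSU (g : GI) σ (psuSemi g σ) := by
  intro s s' hs
  show π (suSemi g σ s) = π s'
  exact congrArg _ (suVal_ext hs.symm)

theorem induced_iff (g : GU n F q) (σ : F ≃+* F) {β : MulAut PS} :
    IsInducedBySemilinearPSU (g : GI) σ β ↔ β = psuSemi g σ := by
  refine ⟨fun hβ => MulEquiv.ext fun x => ?_, fun hβ => hβ ▸ psuSemi_induced g σ⟩
  obtain ⟨s, rfl⟩ := suToPSU_surjective x
  exact hβ s (suSemi g σ s) rfl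

theorem stdField_iff {σ : F ≃+* F} {β : MulAut PS} : IsFieldAutPSUOf σ β ↔ β = psuSemi 1 σ := by
  rw [← induced_iff]
  simp only [IsFieldAutPSUOf, IsInducedBySemilinearPSU, OneMemClass.coe_one, inv_one, Units.val_one,
    Matrix.one_mul, Matrix.mul_one]

theorem innerDiag_iff {β : MulAut PS} :
    IsInnerDiagonalAutPSU β ↔ ∃ g : GU n F q, β = psuSemi g (RingEquiv.refl F) := by
  constructor
  · rintro ⟨g, hg, hβ⟩
    exact ⟨⟨g, hg⟩, (induced_iff ⟨g, hg⟩ _).1 fun s s' e => hβ s s' (by simpa using e)⟩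
  · rintro ⟨g, rfl⟩
    exact ⟨g, g.2, fun s s' e => psuSemi_induced g (RingEquiv.refl F) s s' (by simpa using e)⟩

/-- A field automorphism on unitary matrices. -/
def guMap (σ : F ≃+* F) : GU n F q →* GU n F q :=
  ((gmap σ).comp (GU n F q).subtype).codRestrict _ fun g => gmap_mem_GU σ g.2

theorem guMap_coe (σ : F ≃+* F) (g : GU n F q) : ((guMap σ g : GU n F q) : GI) = gmap σ (g : GI) := rfl

theorem psuSemi_mul (g k : GU n F q) (σ τ : F ≃+* F) :
    psuSemi g σ * psuSemi k τ = psuSemi (g * guMap σ k) (τ.trans σ) := by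
  refine MulEquiv.ext fun x => ?_
  obtain ⟨s, rfl⟩ := suToPSU_surjective x
  rw [MulAut.mul_apply, psuSemi_mk, psuSemi_mk, psuSemi_mk]
  refine congrArg _ (suVal_ext ?_)
  simp only [suSemi_coe, Matrix.map_mul, Matrix.map_map, Subgroup.coe_mul, guMap_coe,
    _root_.mul_inv_rev, Units.val_mul, Matrix.mul_assoc, ← map_inv]
  rfl

theorem psuSemi_one : psuSemi (1 : GU n F q) (RingEquiv.refl F) = 1 := by
  refine MulEquiv.ext fun x => ?_
  obtain ⟨s, rfl⟩ := suToPSU_surjective x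
  rw [psuSemi_mk]
  exact congrArg _ (suVal_ext (by simp [suSemi_coe]))

theorem guMap_refl (g : GU n F q) : guMap (RingEquiv.refl F) g = g :=
  Subtype.ext (Units.ext (by ext i j; rfl))

theorem psuSemi_refl_mul (g k : GU n F q) (τ : F ≃+* F) :
    psuSemi g (RingEquiv.refl F) * psuSemi k τ = psuSemi (g * k) τ := by
  rw [psuSemi_mul, guMap_refl]; rfl

theorem psuSemi_refl_inv (g : GU n F q) :
    (psuSemi g (RingEquiv.refl F))⁻¹ = psuSemi g⁻¹ (RingEquiv.refl F) :=
  inv_eq_of_mul_eq_one_right (by rw [psuSemi_refl_mul, mul_inv_cancel, psuSemi_one])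

/-- An element of `SU` as a unitary matrix. -/
def suToGU : SU n F q →* GU n F q :=
  (Matrix.SpecialLinearGroup.toGL.comp (SU n F q).subtype).codRestrict _ fun s u v => s.2 u v

theorem suToGU_coe (s : SU n F q) : (((suToGU s : GU n F q) : GI) : Mn) = suVal s := rfl

theorem conj_eq_psuSemi (s : SU n F q) :
    MulAut.conj (π s) = psuSemi (suToGU s) (RingEquiv.refl F) := by
  refine MulEquiv.ext fun x => ?_
  obtain ⟨t, rfl⟩ := suToPSU_surjective x
  rw [MulAut.conj_apply, psuSemi_mk, ← map_inv, ← map_mul, ← map_mul]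
  refine congrArg _ (suVal_ext ?_)
  rw [suSemi_coe, show (suVal t).map (RingEquiv.refl F) = suVal t from Matrix.map_id _,
    ← Subgroup.coe_inv, ← map_inv]
  rfl

variable [Fintype F]

theorem suSemi_eMat (g : GU n F q) (σ : F ≃+* F) (s : SU n F q) {e w : V} {c : F}
    (hs : suVal s = eMat q e w c) :
    suVal (suSemi g σ s) = eMat q (((g : GI) : Mn) *ᵥ (σ ∘ e)) (((g : GI) : Mn) *ᵥ (σ ∘ w)) (σ c) := by
  rw [suSemi_coe, hs]
  have hm : (eMat q e w c).map σ = eMat q (σ ∘ e) (σ ∘ w) (σ c) := by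
    refine Matrix.ext_iff_mulVec.2 fun x => ?_
    obtain ⟨x, rfl⟩ : ∃ x', x = σ ∘ x' := ⟨σ.symm ∘ x, funext fun i => by simp⟩
    rw [map_mulVec_comp, eMat_mulVec, eMat_mulVec, h_comp, h_comp]
    funext i
    simp
  rw [hm, mul_eMat (fun x y => mem_GU.1 g.2 x y), Matrix.mul_assoc, Units.mul_inv, Matrix.mul_one]

theorem image_rootU (hF : Fintype.card F = q ^ 2) (g : GU n F q) (σ : F ≃+* F) (v : V) :
    psuSemi g σ '' rootU hF v = rootU hF (((g : GI) : Mn) *ᵥ (σ ∘ v)) := by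
  have hzero : ∀ τ : F ≃+* F, ((g : GI) : Mn) *ᵥ (τ ∘ (0 : V)) = 0 := fun τ => by
    rw [show τ ∘ (0 : V) = 0 from funext fun i => map_zero τ, Matrix.mulVec_zero]
  ext y
  constructor
  · rintro ⟨_, ⟨s, c, hc, hs, rfl⟩, rfl⟩
    refine ⟨suSemi g σ s, σ c, ?_, by rw [suSemi_eMat g σ s hs, hzero], rfl⟩
    rw [qFrob_apply, ← map_pow, ← map_add, ← qFrob_apply hF, hc, map_zero]
  · rintro ⟨s, c, hc, hs, rfl⟩
    obtain ⟨t, rfl⟩ := (suSemi g σ).surjective s
    refine ⟨π t, ⟨t, σ.symm c, ?_, ?_, rfl⟩, rfl⟩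
    · rw [qFrob_apply, ← map_pow, ← map_add, ← qFrob_apply hF, hc, map_zero]
    · rw [suSemi_coe] at hs
      have hm : (eMat q v 0 (σ.symm c)).map σ = eMat q (σ ∘ v) 0 c := by
        refine Matrix.ext_iff_mulVec.2 fun x => ?_
        obtain ⟨x, rfl⟩ : ∃ x', x = σ ∘ x' := ⟨σ.symm ∘ x, funext fun i => by simp⟩
        rw [map_mulVec_comp, tv_apply' hF, tv_apply' hF, h_comp]
        funext i
        simp
      have h1 := congrArg (fun M => (((g : GI)⁻¹ : GI) : Mn) * M * ((g : GI) : Mn)) hs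
      simp only [Matrix.mul_assoc, Units.inv_mul, Matrix.mul_one] at h1
      rw [← Matrix.mul_assoc, Units.inv_mul, Matrix.one_mul] at h1
      have h2 : ((g : GI) : Mn) * eMat q (σ ∘ v) 0 c = eMat q (((g : GI) : Mn) *ᵥ (σ ∘ v)) 0 c * ((g : GI) : Mn) := by
        rw [mul_eMat (fun x y => mem_GU.1 g.2 x y), Matrix.mulVec_zero]
      rw [← h2, ← Matrix.mul_assoc, Units.inv_mul, Matrix.one_mul, ← hm] at h1
      exact Matrix.map_injective σ.injective h1

end Cfsg.Agent.Classical.PSUAut
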