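import Mathlib

/-!
The solutions of the class equation for subgroups of `PSL(2, q)`.

An entry `(h, d, s)` stands for a class of `h` cyclic subgroups of order `d` with normaliser of
order `s * d`.
-/

set_option autoImplicit false

namespace Cfsg.Agent.Dickson

/-- An admissible entry for a group of order `g`. -/
def Adm (g : ℕ) (x : ℕ × ℕ × ℕ) : Prop :=
  1 ≤ x.1 ∧ 2 ≤ x.2.1 ∧ (x.2.2 = 1 ∨ x.2.2 = 2) ∧ x.1 * (x.2.2 * x.2.1) = g

/-- The number of non-trivial elements covered by an entry. -/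
def wt (x : ℕ × ℕ × ℕ) : ℕ := x.1 * (x.2.1 - 1)

theorem Adm.four_le {g : ℕ} {x : ℕ × ℕ × ℕ} (h : Adm g x) : g ≤ 4 * wt x := by
  obtain ⟨h1, h2, h3, h4⟩ := h
  rw [← h4, wt, show 4 * (x.1 * (x.2.1 - 1)) = x.1 * (4 * (x.2.1 - 1)) by ring]
  refine Nat.mul_le_mul_left _ ?_
  rcases h3 with e | e <;> rw [e] <;> omega

theorem Adm.two_le {g : ℕ} {x : ℕ × ℕ × ℕ} (h : Adm g x) (hs : x.2.2 = 1) : g ≤ 2 * wt x := by
  obtain ⟨h1, h2, h3, h4⟩ := h
  rw [← h4, wt, show 2 * (x.1 * (x.2.1 - 1)) = x.1 * (2 * (x.2.1 - 1)) by ring, hs, one_mul]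
  refine Nat.mul_le_mul_left _ ?_
  omega

theorem Adm.wt_add {g : ℕ} {x : ℕ × ℕ × ℕ} (h : Adm g x) :
    x.2.2 * (wt x + x.1) = g := by
  obtain ⟨h1, h2, h3, h4⟩ := h
  rw [← h4, wt, ← Nat.mul_succ, Nat.succ_eq_add_one, Nat.sub_add_cancel (by omega)]
  ring

theorem length_le {g : ℕ} {l : List (ℕ × ℕ × ℕ)} (hl : ∀ x ∈ l, Adm g x) :
    l.length * g ≤ 4 * (l.map wt).sum := by
  induction l with
  | nil => simp
  | cons x l ih =>
    have := (hl x (List.mem_cons_self ..)).four_le
    have := ih fun y hy => hl y (List.mem_cons_of_mem _ hy)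
    simp only [List.length_cons, List.map_cons, List.sum_cons, Nat.succ_mul]
    omega

/-- Conclusions for a group of order `g` prime to `p`. -/
def Sol (g : ℕ) (l : List (ℕ × ℕ × ℕ)) : Prop :=
  (∃ x ∈ l, x.2.2 = 1 ∧ x.2.1 = g) ∨ (∃ x ∈ l, x.2.2 = 2 ∧ 2 * x.2.1 = g) ∨
  (g = 12 ∧ ∃ x ∈ l, x.2.1 = 3 ∧ x.2.2 = 1) ∨
  (g = 12 ∧ ∃ x ∈ l, x.1 = 2 ∧ x.2.1 = 3 ∧ x.2.2 = 2) ∨
  (g = 24 ∧ ∃ x ∈ l, x.2.1 = 3 ∧ x.2.2 = 2) ∨
  (g = 60 ∧ (∃ x ∈ l, x.2.1 = 3 ∧ x.2.2 = 2) ∧ ∃ x ∈ l, x.2.1 = 5 ∧ x.2.2 = 2)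

theorem sol_pair {g : ℕ} {x y : ℕ × ℕ × ℕ} {l : List (ℕ × ℕ × ℕ)} (hx : Adm g x) (hy : Adm g y)
    (hxl : x ∈ l) (hyl : y ∈ l) (hg : 2 ≤ g) (hs : wt x + wt y = g - 1)
    (hxs : x.2.2 = 1) (hys : y.2.2 = 2) : Sol g l := by
  obtain ⟨h, d, s⟩ := x
  obtain ⟨h', d', s'⟩ := y
  obtain ⟨h1, h2, -, h4⟩ := id hx
  obtain ⟨h1', h2', -, h4'⟩ := id hy
  have e := hx.wt_add
  have e' := hy.wt_add
  dsimp only at *
  subst hxs hys
  simp only [one_mul] at *
  have hlt : 4 * h' ≤ g := by
    rw [← h4']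
    calc 4 * h' = h' * (2 * 2) := by ring
      _ ≤ h' * (2 * d') := Nat.mul_le_mul_left _ (by omega)
  have hd : d < 4 := by
    by_contra hd
    have : h * 4 ≤ g := h4 ▸ Nat.mul_le_mul_left _ (by omega)
    omega
  interval_cases d
  · have : h' = 1 := by omega
    subst this
    exact Or.inr (Or.inl ⟨_, hyl, rfl, by simp only; omega⟩)
  · -- order three
    have h6 : 6 * h' = g + 6 := by omega
    have hd' : d' < 3 := by
      by_contra hd'
      have : h' * (2 * 3) ≤ g := h4' ▸ Nat.mul_le_mul_left _ (by omega)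
      omega
    interval_cases d'
    exact Or.inr (Or.inr (Or.inl ⟨by omega, _, hxl, rfl, rfl⟩))

theorem sol_three_aux {g : ℕ} {x y z : ℕ × ℕ × ℕ} {l : List (ℕ × ℕ × ℕ)} (hx : Adm g x) (hy : Adm g y)
    (hz : Adm g z) (hxl : x ∈ l) (hyl : y ∈ l) (hzl : z ∈ l)
    (hs : wt x + wt y + wt z = g - 1) (hxs : x.2.2 = 2) (hys : y.2.2 = 2) (hzs : z.2.2 = 2)
    (hxd : x.2.1 = 2) (hyd : y.2.1 < 4) : Sol g l := by
  obtain ⟨h, d, s⟩ := x
  obtain ⟨h', d', s'⟩ := y
  obtain ⟨h'', d'', s''⟩ := z
  obtain ⟨h1, -, -, h4⟩ := id hx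
  obtain ⟨h1', h2', -, h4'⟩ := id hy
  obtain ⟨h1'', h2'', -, h4''⟩ := id hz
  have e := hx.wt_add
  have e' := hy.wt_add
  have e'' := hz.wt_add
  dsimp only at *
  subst hxs hys hzs hxd
  interval_cases d'
  · have : h'' = 1 := by omega
    subst this
    exact Or.inr (Or.inl ⟨_, hzl, rfl, by simp only; omega⟩)
  · have h12 : 12 * h'' = g + 12 := by omega
    have hd'' : d'' < 6 := by
      by_contra hd''
      have : h'' * (2 * 6) ≤ g := h4'' ▸ Nat.mul_le_mul_left _ (by omega)
      omega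
    interval_cases d''
    · have : h' = 1 := by omega
      subst this
      exact Or.inr (Or.inl ⟨_, hyl, rfl, by simp only; omega⟩)
    · exact Or.inr (Or.inr (Or.inr (Or.inl ⟨by omega, _, hyl, by simp only; omega, rfl, rfl⟩)))
    · exact Or.inr (Or.inr (Or.inr (Or.inr (Or.inl ⟨by omega, _, hyl, rfl, rfl⟩))))
    · exact Or.inr (Or.inr (Or.inr (Or.inr (Or.inr ⟨by omega, ⟨_, hyl, rfl, rfl⟩, _, hzl, rfl, rfl⟩))))

/-- The solutions when `p` does not divide the order. -/
theorem solve_coprime {g : ℕ} {l : List (ℕ × ℕ × ℕ)} (hg : 2 ≤ g) (hl : ∀ x ∈ l, Adm g x)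
    (hs : (l.map wt).sum = g - 1) : Sol g l := by
  have hlen : l.length < 4 := by
    by_contra hc
    have := length_le hl
    have : 4 * g ≤ l.length * g := Nat.mul_le_mul_right _ (by omega)
    omega
  match l, hl, hs, hlen with
  | [], _, hs, _ => simp at hs; omega
  | [x], hl, hs, _ =>
    have hx := hl x (by simp)
    simp at hs
    have e := hx.wt_add
    obtain ⟨h1, h2, h3, h4⟩ := hx
    rcases h3 with h3 | h3
    · rw [h3] at e h4
      have : x.1 = 1 := by omega
      rw [this] at h4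
      exact Or.inl ⟨x, by simp, h3, by omega⟩
    · rw [h3] at e; omega
  | [x, y], hl, hs, _ =>
    have hx := hl x (by simp)
    have hy := hl y (by simp)
    simp at hs
    have ex := hx.wt_add
    have ey := hy.wt_add
    rcases hx.2.2.1 with sx | sx <;> rcases hy.2.2.1 with sy | sy
    · have h1 := hx.two_le sx
      have h2 := hy.two_le sy
      omega
    · exact sol_pair hx hy (by simp) (by simp) hg hs sx sy
    · exact sol_pair hy hx (by simp) (by simp) hg (by omega) sy sx
    · rw [sx] at ex; rw [sy] at ey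
      have := hx.1
      have := hy.1
      omega
  | [x, y, z], hl, hs, _ =>
    have hx := hl x (by simp)
    have hy := hl y (by simp)
    have hz := hl z (by simp)
    simp at hs
    have := hx.four_le
    have := hy.four_le
    have := hz.four_le
    have sx : x.2.2 = 2 := hx.2.2.1.resolve_left fun e => by have := hx.two_le e; omega
    have sy : y.2.2 = 2 := hy.2.2.1.resolve_left fun e => by have := hy.two_le e; omega
    have sz : z.2.2 = 2 := hz.2.2.1.resolve_left fun e => by have := hz.two_le e; omega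
    have ex := hx.wt_add
    have ey := hy.wt_add
    have ez := hz.wt_add
    rw [sx] at ex; rw [sy] at ey; rw [sz] at ez
    have small : ∀ w : ℕ × ℕ × ℕ, Adm g w → w.2.2 = 2 → ∀ k, k ≤ w.2.1 → w.1 * (2 * k) ≤ g :=
      fun w hw sw k hk => hw.2.2.2 ▸ sw.symm ▸ Nat.mul_le_mul_left _ (Nat.mul_le_mul_left _ hk)
    have hsum : 2 * (x.1 + y.1 + z.1) = g + 2 := by omega
    by_cases dx : x.2.1 = 2
    · by_cases dy : y.2.1 < 4
      · exact sol_three_aux hx hy hz (by simp) (by simp) (by simp) (by omega) sx sy sz dx dy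
      · by_cases dz : z.2.1 < 4
        · exact sol_three_aux hx hz hy (by simp) (by simp) (by simp) (by omega) sx sz sy dx dz
        · have := small x hx sx 2 (by omega)
          have := small y hy sy 4 (by omega)
          have := small z hz sz 4 (by omega)
          omega
    by_cases dy : y.2.1 = 2
    · by_cases dx' : x.2.1 < 4
      · exact sol_three_aux hy hx hz (by simp) (by simp) (by simp) (by omega) sy sx sz dy dx'
      · by_cases dz : z.2.1 < 4
        · exact sol_three_aux hy hz hx (by simp) (by simp) (by simp) (by omega) sy sz sx dy dz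
        · have := small y hy sy 2 (by omega)
          have := small x hx sx 4 (by omega)
          have := small z hz sz 4 (by omega)
          omega
    by_cases dz : z.2.1 = 2
    · by_cases dx' : x.2.1 < 4
      · exact sol_three_aux hz hx hy (by simp) (by simp) (by simp) (by omega) sz sx sy dz dx'
      · by_cases dy' : y.2.1 < 4
        · exact sol_three_aux hz hy hx (by simp) (by simp) (by simp) (by omega) sz sy sx dz dy'
        · have := small z hz sz 2 (by omega)
          have := small x hx sx 4 (by omega)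
          have := small y hy sy 4 (by omega)
          omega
    exfalso
    have := hx.2.1
    have := hy.2.1
    have := hz.2.1
    have := small x hx sx 3 (by omega)
    have := small y hy sy 3 (by omega)
    have := small z hz sz 3 (by omega)
    omega

/-- The conclusions when the Sylow `p`-subgroup of order `e` is not normal and its normaliser has
order `e * t`. -/
def SolP (g e t k : ℕ) (l : List (ℕ × ℕ × ℕ)) : Prop :=
  (e = 2 ∧ t = 1 ∧ ∃ x ∈ l, x.2.2 = 2 ∧ 2 * x.2.1 = g) ∨ (e = 3 ∧ t = 1 ∧ g = 12) ∨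
  (e = 3 ∧ t = 2 ∧ g = 60 ∧ ∃ x ∈ l, x.2.1 = 5 ∧ x.2.2 = 2) ∨
  (k = 1 ∧ 3 ≤ e ∧ 2 ≤ t ∧ (t = e - 1 ∨ 2 * t = e - 1))

theorem solve_modular {g e t n k : ℕ} {l : List (ℕ × ℕ × ℕ)} (hl : ∀ x ∈ l, Adm g x)
    (hgn : g = e * t * n) (hn : n = 1 + k * e) (hk : 1 ≤ k) (he : 2 ≤ e) (ht : 1 ≤ t)
    (hte : t ∣ e - 1) (hC : t = 1 ∨ ∃ x ∈ l, x.2.1 = t)
    (hs : (l.map wt).sum + n * (e - 1) = g - 1) : SolP g e t k l := by
  have hn1 : 2 ≤ n := by
    have : 1 * 2 ≤ k * e := Nat.mul_le_mul hk he
    omega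
  obtain ⟨e', rfl⟩ : ∃ e', e = e' + 1 := ⟨e - 1, by omega⟩
  simp only [Nat.add_sub_cancel] at hte hs
  have hlen := length_le hl
  rcases Nat.lt_or_ge 1 t with ht2 | ht1
  swap
  · obtain rfl : t = 1 := by omega
    clear hC hte
    have hg : g = n * e' + n := by rw [hgn]; ring
    have hsum : (l.map wt).sum = n - 1 := by omega
    have hne : (e' + 1) * n = g := by rw [hgn]; ring
    have he' : e' + 1 < 4 := by
      by_contra hc
      have : 4 * n ≤ (e' + 1) * n := Nat.mul_le_mul_right _ (by omega)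
      match l, hl, hsum with
      | [], _, hsum => simp at hsum; omega
      | x :: l', hl, hsum =>
        have := (hl x (by simp)).four_le
        simp at hsum
        omega
    have hlen2 : l.length < 2 := by
      by_contra hc
      have : 2 * g ≤ l.length * g := Nat.mul_le_mul_right _ (by omega)
      have : 2 * n ≤ (e' + 1) * n := Nat.mul_le_mul_right _ (by omega)
      omega
    match l, hl, hsum, hlen2 with
    | [], _, hsum, _ => simp at hsum; omega
    | [x], hl, hsum, _ =>
      simp at hsum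
      have hx := hl x (by simp)
      have hw := hx.wt_add
      obtain ⟨h1, h2, h3, h4⟩ := id hx
      have hs2 : x.2.2 = 2 := h3.resolve_left fun e1 => by
        have := hx.two_le e1
        have : 2 * n ≤ (e' + 1) * n := Nat.mul_le_mul_right _ (by omega)
        omega
      rw [hs2] at hw h4
      have he3 : e' < 3 := by omega
      have he1 : 1 ≤ e' := by omega
      interval_cases e'
      · have : x.1 = 1 := by omega
        rw [this] at h4
        exact Or.inl ⟨rfl, rfl, x, by simp, hs2, by omega⟩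
      · have hd : x.2.1 < 3 := by
          by_contra hd
          have : x.1 * (2 * 3) ≤ g := h4 ▸ Nat.mul_le_mul_left _ (by omega)
          omega
        have hd2 : x.2.1 = 2 := by omega
        rw [hd2] at h4
        exact Or.inr (Or.inl ⟨rfl, rfl, by omega⟩)
  obtain ⟨x, hxl, hxd⟩ := hC.resolve_left (by omega)
  have hx := hl x hxl
  have hperm := (List.perm_cons_erase hxl).map wt
  have hsum := hperm.sum_eq
  simp only [List.map_cons, List.sum_cons] at hsum
  set l' := l.erase x with hl'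
  have hl'adm : ∀ y ∈ l', Adm g y := fun y hy => hl y (List.mem_of_mem_erase hy)
  have hlen' := length_le hl'adm
  have hte' : t ≤ e' := Nat.le_of_dvd (by omega) hte
  have hG : g = n * (e' * t) + n * t := by rw [hgn]; ring
  have hbig : 6 * n ≤ g := by
    rw [hgn]; exact Nat.mul_le_mul_right _ (Nat.mul_le_mul (by omega : 3 ≤ e' + 1) ht2)
  obtain ⟨hx1, hx2, hx3, hx4⟩ := id hx
  have hxw := hx.wt_add
  rcases hx3 with sx | sx
  · exfalso
    rw [sx, hxd, one_mul] at hx4
    rw [sx] at hxw
    have hh : x.1 = n * e' + n := by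
      refine Nat.eq_of_mul_eq_mul_right (by omega : 0 < t) ?_
      rw [hx4, hgn]; ring
    have hR : (l'.map wt).sum = n - 1 := by omega
    match hl2 : l', hl'adm, hR with
    | [], _, hR => simp at hR; omega
    | y :: l'', hy, hR =>
      have := (hy y (by simp)).four_le
      simp at hR
      omega
  rw [sx, hxd] at hx4
  rw [sx] at hxw
  have hh : 2 * x.1 = n * e' + n := by
    refine Nat.eq_of_mul_eq_mul_right (by omega : 0 < t) ?_
    rw [show 2 * x.1 * t = x.1 * (2 * t) by ring, hx4, hgn]; ring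
  -- the rest is covered by a single class with normaliser twice as large
  have hR : 2 * (l'.map wt).sum + (n * e' + 2) = g + n := by omega
  have hte2 : n * e' ≤ n * (e' * t) := Nat.mul_le_mul_left _ (Nat.le_mul_of_pos_right _ (by omega))
  have hpos : 0 < (l'.map wt).sum := by omega
  have hlt : 2 * (l'.map wt).sum < g := by
    have : n * 1 ≤ n * e' := Nat.mul_le_mul_left _ (by omega)
    omega
  have hlen2 : l'.length < 2 := by
    by_contra hc
    have : 2 * g ≤ l'.length * g := Nat.mul_le_mul_right _ (by omega)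
    omega
  match hl2 : l', hl'adm, hR, hlen2, hpos, hlt with
  | [], _, _, _, hpos, _ => simp at hpos
  | [y], hy, hR, _, _, hlt =>
    simp at hR hlt
    have hy' := hy y (by simp)
    obtain ⟨hy1, hy2, hy3, hy4⟩ := id hy'
    have hyw := hy'.wt_add
    have sy : y.2.2 = 2 := hy3.resolve_left fun e1 => by have := hy'.two_le e1; omega
    rw [sy] at hy4 hyw
    have hh2 : 2 * y.1 + n = n * e' + 2 := by omega
    have hyl : y ∈ l := List.mem_of_mem_erase (hl' ▸ hl2 ▸ List.mem_singleton_self y : y ∈ l.erase x)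
    obtain ⟨e'', rfl⟩ : ∃ e'', e' = e'' + 1 := ⟨e' - 1, by omega⟩
    -- `2 * y.1 = e * m` with `m = 1 + k (e - 2)`
    have hm : 2 * y.1 = (e'' + 2) * (1 + k * e'') := by
      have : n * e'' + 2 = 2 * y.1 := by
        have : n * (e'' + 1) = n * e'' + n := by ring
        omega
      rw [← this, hn]; ring
    have hdiv : 1 + k * e'' ∣ t * n := ⟨y.2.1, by
      refine Nat.eq_of_mul_eq_mul_left (by omega : 0 < e'' + 2) ?_
      calc (e'' + 2) * (t * n) = g := by rw [hgn]; ring
        _ = y.1 * (2 * y.2.1) := hy4.symm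
        _ = (e'' + 2) * (1 + k * e'') * y.2.1 := by rw [← hm]; ring
        _ = _ := by ring⟩
    have hnm : n = (1 + k * e'') + 2 * k := by rw [hn]; ring
    have hdiv2 : 1 + k * e'' ∣ (2 * t) * k := by
      rw [hnm, Nat.mul_add] at hdiv
      have := (Nat.dvd_add_right (Dvd.intro_left t rfl)).mp hdiv
      rwa [show t * (2 * k) = 2 * t * k by ring] at this
    have hcop : Nat.Coprime (1 + k * e'') k := by
      rw [Nat.coprime_add_mul_left_left]; exact Nat.coprime_one_left k
    have hdiv3 : 1 + k * e'' ∣ 2 * t := hcop.dvd_of_dvd_mul_right hdiv2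
    by_cases hk1 : k = 1
    · subst hk1
      rw [one_mul] at hdiv3
      refine Or.inr (Or.inr (Or.inr ⟨rfl, by omega, ht2, ?_⟩))
      obtain ⟨c, hc⟩ := hdiv3
      rw [add_comm 1 e''] at hc
      have hc2 : c < 3 := by
        by_contra hc3
        have : (e'' + 1) * 3 ≤ (e'' + 1) * c := Nat.mul_le_mul_left _ (by omega)
        omega
      interval_cases c <;> omega
    · -- two or more
      have hk2 : 2 * e'' ≤ k * e'' := Nat.mul_le_mul_right _ (by omega)
      obtain ⟨j, hj⟩ := hte
      have hj1 : j = 1 := by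
        by_contra hj1
        have hj0 : j ≠ 0 := fun h0 => by rw [h0] at hj; simp at hj
        have : t * 2 ≤ t * j := Nat.mul_le_mul_left _ (by omega)
        have := Nat.le_of_dvd (by omega) hdiv3
        omega
      subst hj1
      obtain ⟨c, hc⟩ := hdiv3
      have hc2 : c < 2 := by
        by_contra hc2
        have : (1 + k * e'') * 2 ≤ (1 + k * e'') * c := Nat.mul_le_mul_left _ (by omega)
        omega
      interval_cases c
      · omega
      · -- `k * (e - 2) = 2 e - 3`
        have hke : k * e'' = 2 * e'' + 1 := by omega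
        have he1 : e'' ∣ 1 := by
          have h1 : e'' ∣ 2 * e'' + 1 := hke ▸ Dvd.intro_left k rfl
          exact (Nat.dvd_add_right (Dvd.intro_left 2 rfl)).mp h1
        obtain rfl := Nat.dvd_one.mp he1
        obtain rfl : k = 3 := by omega
        obtain rfl : t = 2 := by omega
        have hy12 : y.1 = 6 := by omega
        rw [hy12] at hy4
        have hn10 : n = 10 := by omega
        subst hn10
        exact Or.inr (Or.inr (Or.inl ⟨rfl, rfl, by omega, y, hyl, by omega, sy⟩))

end Cfsg.Agent.Dickson
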