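import Cfsg.Agent.Lib.Classical.DicksonData
import Cfsg.Agent.Lib.Classical.DicksonArith

/-!
The class equation attached to a partition of a finite group as in `DicksonData`.
-/

set_option autoImplicit false

namespace Cfsg.Agent.Dickson

open scoped Pointwise
open Finset

universe u

/-- A free action has orbits of the size of the group. -/
theorem card_dvd_of_free {C α : Type*} [Group C] [MulAction C α] [Finite C] [Finite α]
    (h : ∀ (c : C) (x : α), c • x = x → c = 1) : Nat.card C ∣ Nat.card α := by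
  classical
  haveI := Fintype.ofFinite (Quotient (MulAction.orbitRel C α))
  rw [Nat.card_congr (MulAction.selfEquivSigmaOrbitsQuotientStabilizer C α), Nat.card_sigma]
  refine Finset.dvd_sum fun ω _ => ?_
  have hb : MulAction.stabilizer C ω.out = ⊥ := (Subgroup.eq_bot_iff_forall _).mpr fun c hc => h c _ hc
  rw [← Subgroup.index_eq_card, hb, Subgroup.index_bot]

namespace Data

variable {X : Type u} [Group X] [Finite X] {p : ℕ} (D : Data X p)

/-- The class of an element of a torus: number of conjugates, order, index in the normaliser. -/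
noncomputable def entry (A : Subgroup X) : ℕ × ℕ × ℕ :=
  ((Subgroup.normalizer (A : Set X)).index, Nat.card A,
    Nat.card (Subgroup.normalizer (A : Set X)) / Nat.card A)

theorem card_normalizer {a : X} (ha : a ≠ 1) (hap : a ^ p ≠ 1) :
    Nat.card (Subgroup.normalizer (D.T a : Set X)) = Nat.card (D.T a) ∨
      Nat.card (Subgroup.normalizer (D.T a : Set X)) = 2 * Nat.card (D.T a) := by
  set N := Subgroup.normalizer (D.T a : Set X) with hN
  have hle : D.T a ≤ N := Subgroup.le_normalizer
  by_cases h : ∃ g ∈ N, g ∉ D.T a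
  · obtain ⟨g, hg, hgn⟩ := h
    right
    have hidx : ((D.T a).subgroupOf N).index = 2 := by
      rw [Subgroup.index_eq_two_iff]
      refine ⟨⟨g, hg⟩, fun ⟨x, hx⟩ => ?_⟩
      simp only [Subgroup.mem_subgroupOf, Subgroup.coe_mul]
      by_cases hxT : x ∈ D.T a
      · exact Or.inr ⟨hxT, fun h' => hgn (by simpa using (D.T a).mul_mem ((D.T a).inv_mem hxT) h')⟩
      · exact Or.inl ⟨D.semi_mul ha hap ((D.mem_normalizer_iff ha).mp hx) hxT
          ((D.mem_normalizer_iff ha).mp hg) hgn, hxT⟩
    rw [← Subgroup.card_mul_index ((D.T a).subgroupOf N), hidx,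
      Nat.card_congr (Subgroup.subgroupOfEquivOfLe hle).toEquiv, mul_comm]
  · push Not at h
    left
    rw [le_antisymm hle h]

theorem adm_entry {a : X} (ha : a ≠ 1) (hap : a ^ p ≠ 1) : Adm (Nat.card X) (entry (D.T a)) := by
  have hd : 0 < Nat.card (D.T a) := Nat.card_pos
  refine ⟨Nat.one_le_iff_ne_zero.mpr Subgroup.index_ne_zero_of_finite, ?_, ?_, ?_⟩
  · show 1 < Nat.card (D.T a)
    rw [Subgroup.one_lt_card_iff_ne_bot, ne_eq, Subgroup.eq_bot_iff_forall]
    exact fun h => ha (h a (D.self a))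
  · simp only [entry]
    rcases D.card_normalizer ha hap with e | e <;> rw [e]
    · exact Or.inl (Nat.div_self hd)
    · exact Or.inr (Nat.mul_div_cancel _ hd)
  · simp only [entry]
    rw [Nat.div_mul_cancel (Subgroup.card_dvd_of_le Subgroup.le_normalizer), mul_comm,
      Subgroup.card_mul_index]

omit [Finite X] in
theorem orbit_mem {A : Subgroup X} {a : X} (ha : a ≠ 1) (hA : A = D.T a) (g : X) :
    MulAut.conj g • A = D.T (g * a * g⁻¹) := by rw [hA, D.T_conj g ha]

/-- The list of classes of tori, with the count of the elements they cover. -/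
theorem exists_list : ∃ l : List (ℕ × ℕ × ℕ),
    (∀ x ∈ l, ∃ a : X, a ≠ 1 ∧ a ^ p ≠ 1 ∧ x = entry (D.T a)) ∧
    (∀ a : X, a ≠ 1 → a ^ p ≠ 1 → entry (D.T a) ∈ l) ∧
    (l.map wt).sum = Nat.card {x : X // x ≠ 1 ∧ x ^ p ≠ 1} := by
  classical
  haveI : Fintype X := Fintype.ofFinite X
  set E : Finset X := univ.filter (fun x => x ≠ 1 ∧ x ^ p ≠ 1) with hE
  set S : Finset (Subgroup X) := E.image D.T with hS
  let orb : Subgroup X → Finset (Subgroup X) := fun A => univ.image (fun g : X => MulAut.conj g • A)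
  have hmemS : ∀ A ∈ S, ∃ a : X, a ≠ 1 ∧ a ^ p ≠ 1 ∧ D.T a = A := by
    intro A hA
    obtain ⟨a, ha, rfl⟩ := Finset.mem_image.mp hA
    obtain ⟨-, h1, h2⟩ := Finset.mem_filter.mp ha
    exact ⟨a, h1, h2, rfl⟩
  have horbS : ∀ (A : Subgroup X), A ∈ S → ∀ (B : Subgroup X), B ∈ orb A → B ∈ S ∧ orb B = orb A ∧
      entry B = entry A := by
    intro A hA B hB
    obtain ⟨a, ha, hap, rfl⟩ := hmemS A hA
    obtain ⟨g, -, rfl⟩ := Finset.mem_image.mp hB
    refine ⟨?_, ?_, ?_⟩
    · rw [← D.T_conj g ha]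
      refine Finset.mem_image_of_mem _ (Finset.mem_filter.mpr ⟨Finset.mem_univ _,
        fun e => ha (conj_eq_one_iff.mp e), ?_⟩)
      rw [conj_pow]
      exact fun e => hap (conj_eq_one_iff.mp e)
    · ext C
      simp only [orb, Finset.mem_image, Finset.mem_univ, true_and]
      constructor
      · rintro ⟨k, rfl⟩
        exact ⟨k * g, by rw [map_mul, mul_smul]⟩
      · rintro ⟨k, rfl⟩
        exact ⟨k * g⁻¹, by rw [map_mul, mul_smul, map_inv, inv_smul_smul]⟩
    · have hN : Subgroup.normalizer ((MulAut.conj g • D.T a : Subgroup X) : Set X) =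
          (Subgroup.normalizer (D.T a : Set X)).map (MulAut.conj g).toMonoidHom :=
        (Subgroup.map_equiv_normalizer_eq (D.T a) (MulAut.conj g)).symm
      simp only [entry]
      have hcA : Nat.card (MulAut.conj g • D.T a : Subgroup X) = Nat.card (D.T a) :=
        Subgroup.card_map_of_injective (MulAut.conj g).injective
      have hi : ∀ N : Subgroup X, (N.map (MulAut.conj g).toMonoidHom).index = N.index := fun N =>
        Subgroup.index_map_of_bijective (MulAut.conj g).bijective N
      have hc : ∀ N : Subgroup X, Nat.card (N.map (MulAut.conj g).toMonoidHom) = Nat.card N := fun N =>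
        Subgroup.card_map_of_injective (MulAut.conj g).injective
      rw [hN, hcA, hc, hi]
  have horbcard : ∀ A : Subgroup X, (orb A).card = (Subgroup.normalizer (A : Set X)).index := by
    intro A
    set N := Subgroup.normalizer (A : Set X) with hN
    have hiff : ∀ g : X, MulAut.conj g • A = A ↔ g ∈ N := by
      intro g
      rw [hN, Subgroup.mem_normalizer_iff, SetLike.ext_iff]
      constructor
      · intro h x
        have := h (g * x * g⁻¹)
        rw [Subgroup.mem_smul_pointwise_iff_exists] at this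
        constructor
        · intro hx; exact this.mp ⟨x, hx, rfl⟩
        · intro hx
          obtain ⟨y, hy, e⟩ := this.mpr hx
          have : y = x := (MulAut.conj g).injective e
          rwa [this] at hy
      · intro h y
        rw [Subgroup.mem_smul_pointwise_iff_exists]
        constructor
        · rintro ⟨x, hx, rfl⟩; exact (h x).mp hx
        · intro hy
          exact ⟨g⁻¹ * y * g, (h _).mpr (by simpa [mul_assoc] using hy), by simp [MulAut.smul_def, mul_assoc]⟩
    have key : ∀ g h : X, MulAut.conj g • A = MulAut.conj h • A ↔ g⁻¹ * h ∈ N := by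
      intro g h
      rw [← hiff, map_mul, map_inv, mul_smul, inv_smul_eq_iff, eq_comm]
    let φ : X ⧸ N → {B // B ∈ orb A} := Quotient.lift (s := QuotientGroup.leftRel N)
      (fun g => (⟨MulAut.conj g • A, Finset.mem_image_of_mem _ (Finset.mem_univ g)⟩ : {B // B ∈ orb A}))
      (fun g h hgh => Subtype.ext ((key g h).mpr (QuotientGroup.leftRel_apply.mp hgh)))
    have hφ : Function.Bijective φ := by
      constructor
      · intro x y
        induction x using QuotientGroup.induction_on with | H g => ?_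
        induction y using QuotientGroup.induction_on with | H h => ?_
        intro e
        exact QuotientGroup.eq.mpr ((key g h).mp (congrArg Subtype.val e))
      · rintro ⟨B, hB⟩
        obtain ⟨g, -, rfl⟩ := Finset.mem_image.mp hB
        exact ⟨(g : X ⧸ N), rfl⟩
    rw [Subgroup.index_eq_card, Nat.card_eq_of_bijective φ hφ, Nat.card_eq_fintype_card,
      Fintype.card_coe]
  let f : Finset (Subgroup X) → ℕ × ℕ × ℕ := fun O => if h : O.Nonempty then entry h.choose else (0, 0, 0)
  have hf : ∀ A ∈ S, f (orb A) = entry A := by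
    intro A hA
    have h : (orb A).Nonempty := ⟨_, Finset.mem_image_of_mem _ (Finset.mem_univ 1)⟩
    simp only [f, dif_pos h]
    exact (horbS A hA _ h.choose_spec).2.2
  refine ⟨((S.image orb).toList).map f, ?_, ?_, ?_⟩
  · intro x hx
    obtain ⟨O, hO, rfl⟩ := List.mem_map.mp hx
    obtain ⟨A, hA, rfl⟩ := Finset.mem_image.mp (Finset.mem_toList.mp hO)
    obtain ⟨a, ha, hap, rfl⟩ := hmemS A hA
    exact ⟨a, ha, hap, hf _ hA⟩
  · intro a ha hap
    have hA : D.T a ∈ S := Finset.mem_image_of_mem _ (Finset.mem_filter.mpr ⟨Finset.mem_univ _, ha, hap⟩)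
    exact List.mem_map.mpr ⟨orb (D.T a), Finset.mem_toList.mpr (Finset.mem_image_of_mem _ hA), hf _ hA⟩
  · have hfib : ∀ A ∈ S, (E.filter (fun x => D.T x = A)).card = Nat.card A - 1 := by
      intro A hA
      obtain ⟨a, ha, hap, rfl⟩ := hmemS A hA
      have : E.filter (fun x => D.T x = D.T a) = (univ.filter (fun x => x ∈ D.T a)).erase 1 := by
        ext x
        simp only [hE, Finset.mem_filter, Finset.mem_univ, true_and, Finset.mem_erase]
        constructor
        · rintro ⟨⟨h1, -⟩, h3⟩
          exact ⟨h1, h3 ▸ D.self x⟩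
        · rintro ⟨h1, h2⟩
          exact ⟨⟨h1, D.semi_of_ne ha hap h2 h1⟩, D.same ha h2 h1⟩
      rw [this, Finset.card_erase_of_mem (Finset.mem_filter.mpr ⟨Finset.mem_univ _, (D.T a).one_mem⟩), Nat.card_eq_fintype_card,
        Fintype.card_of_subtype _ (fun x => ⟨fun h => (Finset.mem_filter.mp h).2, fun h => Finset.mem_filter.mpr ⟨Finset.mem_univ _, h⟩⟩)]
    have hE' : Nat.card {x : X // x ≠ 1 ∧ x ^ p ≠ 1} = E.card := by
      rw [Nat.card_eq_fintype_card, Fintype.card_subtype]
    rw [hE', Finset.card_eq_sum_card_fiberwise (f := D.T) (t := S) (fun x hx => Finset.mem_image_of_mem _ hx),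
      Finset.sum_congr rfl hfib, List.map_map, Finset.sum_map_toList,
      ← Finset.sum_fiberwise_of_maps_to (g := orb) (t := S.image orb) (fun A hA => Finset.mem_image_of_mem _ hA)]
    refine Finset.sum_congr rfl fun O hO => ?_
    obtain ⟨A, hA, rfl⟩ := Finset.mem_image.mp hO
    have hfilter : S.filter (fun B => orb B = orb A) = orb A := by
      ext B
      simp only [Finset.mem_filter]
      constructor
      · rintro ⟨-, hB⟩
        rw [← hB]
        exact Finset.mem_image.mpr ⟨1, Finset.mem_univ _, by simp⟩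
      · intro hB
        exact ⟨(horbS A hA B hB).1, (horbS A hA B hB).2.1⟩
    rw [hfilter, Finset.sum_congr rfl (g := fun _ => Nat.card A - 1) (fun B hB => by
      have := congrArg (fun x : ℕ × ℕ × ℕ => x.2.1) (horbS A hA B hB).2.2
      simp only [entry] at this
      rw [this]), Finset.sum_const, smul_eq_mul, horbcard, Function.comp_apply, hf A hA]
    rfl

/-- The subgroups attached to unipotent elements are Sylow subgroups. -/
theorem exists_sylow (hp : p.Prime) {a : X} (ha : a ≠ 1) (hap : a ^ p = 1) :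
    ∃ P : Sylow p X, (P : Subgroup X) = D.T a := by
  haveI : Fact p.Prime := ⟨hp⟩
  obtain ⟨P, hP⟩ := (D.isPGroup_T hp ha hap).exists_le_sylow
  refine ⟨P, le_antisymm ?_ hP⟩
  haveI : Nontrivial (P : Subgroup X) := ⟨⟨⟨a, hP (D.self a)⟩, 1, fun e => ha (congrArg Subtype.val e)⟩⟩
  haveI := P.isPGroup'.center_nontrivial
  obtain ⟨z, hz⟩ := exists_ne (1 : Subgroup.center (P : Subgroup X))
  have hz1 : ((z : (P : Subgroup X)) : X) ≠ 1 := fun e => hz (Subtype.ext (Subtype.ext e))
  have haz : Commute (((z : (P : Subgroup X)) : X)) a :=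
    (congrArg Subtype.val (Subgroup.mem_center_iff.mp z.2 ⟨a, hP (D.self a)⟩)).symm
  have hza : ((z : (P : Subgroup X)) : X) ∈ D.T a := D.uni_cent ha hap haz
  have hzp := D.uni_exp ha hap hza
  intro x hx
  rw [← D.same ha hza hz1]
  exact D.uni_cent hz1 hzp (congrArg Subtype.val (Subgroup.mem_center_iff.mp z.2 ⟨x, hx⟩))

theorem sylow_eq (hp : p.Prime) (P : Sylow p X) {a : X} (haP : a ∈ (P : Subgroup X)) (ha : a ≠ 1) :
    a ^ p = 1 ∧ (P : Subgroup X) = D.T a := by
  haveI : Fact p.Prime := ⟨hp⟩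
  haveI : Nontrivial (P : Subgroup X) := ⟨⟨⟨a, haP⟩, 1, fun e => ha (congrArg Subtype.val e)⟩⟩
  obtain ⟨k, hk⟩ := P.isPGroup' ⟨a, haP⟩
  have hap : a ^ p = 1 := by
    by_contra hap
    refine D.semi_coprime ha hap ?_
    have hd : orderOf a ∣ p ^ k := orderOf_dvd_of_pow_eq_one (congrArg Subtype.val hk)
    obtain ⟨j, -, hj⟩ := (Nat.dvd_prime_pow hp).mp hd
    rw [hj]
    refine dvd_pow_self p fun j0 => ha ?_
    rw [j0, pow_zero] at hj
    exact orderOf_eq_one_iff.mp hj
  refine ⟨hap, ?_⟩
  obtain ⟨Q, hQ⟩ := D.exists_sylow hp ha hap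
  -- the centre of `P` lies in both
  haveI := P.isPGroup'.center_nontrivial
  obtain ⟨z, hz⟩ := exists_ne (1 : Subgroup.center (P : Subgroup X))
  have hz1 : ((z : (P : Subgroup X)) : X) ≠ 1 := fun e => hz (Subtype.ext (Subtype.ext e))
  have haz : Commute (((z : (P : Subgroup X)) : X)) a :=
    (congrArg Subtype.val (Subgroup.mem_center_iff.mp z.2 ⟨a, haP⟩)).symm
  have hza := D.uni_cent ha hap haz
  have hle : (P : Subgroup X) ≤ D.T a := fun x hx => by
    rw [← D.same ha hza hz1]
    exact D.uni_cent hz1 (D.uni_exp ha hap hza)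
      (congrArg Subtype.val (Subgroup.mem_center_iff.mp z.2 ⟨x, hx⟩))
  exact (P.is_maximal' (D.isPGroup_T hp ha hap) hle).symm

include D in
/-- The unipotent elements are shared out between the Sylow subgroups. -/
theorem card_uni (hp : p.Prime) (P : Sylow p X) :
    Nat.card {x : X // x ≠ 1 ∧ x ^ p = 1} =
      Nat.card (Sylow p X) * (Nat.card (P : Subgroup X) - 1) := by
  classical
  haveI : Fact p.Prime := ⟨hp⟩
  haveI : Fintype X := Fintype.ofFinite X
  haveI : Fintype (Sylow p X) := Fintype.ofFinite _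
  have hmem : ∀ x : X, x ≠ 1 → x ^ p = 1 → ∃ Q : Sylow p X, (Q : Subgroup X) = D.T x :=
    fun x h1 h2 => D.exists_sylow hp h1 h2
  let e : (Σ Q : Sylow p X, {x : (Q : Subgroup X) // x ≠ 1}) → {x : X // x ≠ 1 ∧ x ^ p = 1} :=
    fun z => ⟨z.2.1.1, fun h => z.2.2 (Subtype.ext h),
      (D.sylow_eq hp z.1 z.2.1.2 (fun h => z.2.2 (Subtype.ext h))).1⟩
  have he : Function.Bijective e := by
    constructor
    · rintro ⟨Q, ⟨x, hx⟩, hx1⟩ ⟨R, ⟨y, hy⟩, hy1⟩ h
      have hxy : x = y := congrArg Subtype.val h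
      subst hxy
      have hx1' : x ≠ 1 := fun h => hx1 (Subtype.ext h)
      obtain rfl : Q = R := Sylow.ext
        ((D.sylow_eq hp Q hx hx1').2.trans (D.sylow_eq hp R hy hx1').2.symm)
      rfl
    · rintro ⟨x, hx1, hxp⟩
      obtain ⟨Q, hQ⟩ := hmem x hx1 hxp
      exact ⟨⟨Q, ⟨⟨x, hQ ▸ D.self x⟩, fun h => hx1 (congrArg Subtype.val h)⟩⟩, rfl⟩
  rw [← Nat.card_eq_of_bijective e he, Nat.card_sigma, Nat.card_eq_fintype_card (α := Sylow p X)]
  rw [Finset.sum_eq_card_nsmul (s := Finset.univ) (b := Nat.card (P : Subgroup X) - 1), Finset.card_univ,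
    smul_eq_mul]
  intro Q _
  haveI : Fintype (Q : Subgroup X) := Fintype.ofFinite _
  rw [Sylow.card_eq_multiplicity P, ← Sylow.card_eq_multiplicity Q, Nat.card_eq_fintype_card,
    Nat.card_eq_fintype_card, Fintype.card_subtype_compl, Fintype.card_subtype_eq]

theorem card_split :
    Nat.card {x : X // x ≠ 1 ∧ x ^ p = 1} + Nat.card {x : X // x ≠ 1 ∧ x ^ p ≠ 1} = Nat.card X - 1 := by
  classical
  haveI : Fintype X := Fintype.ofFinite X
  simp only [Nat.card_eq_fintype_card, Fintype.card_subtype]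
  rw [← Finset.card_union_of_disjoint
    (Finset.disjoint_filter.mpr fun x _ h1 h2 => h2.2 h1.2), ← Finset.filter_or,
    ← Finset.card_univ, ← Finset.card_erase_of_mem (Finset.mem_univ (1 : X))]
  congr 1
  ext x
  simp only [Finset.mem_filter, Finset.mem_univ, true_and, Finset.mem_erase, and_true]
  tauto

include D in
/-- The Sylow subgroups other than a given one are permuted freely by it. -/
theorem card_sylow_eq (hp : p.Prime) (P : Sylow p X) :
    ∃ k : ℕ, Nat.card (Sylow p X) = 1 + k * Nat.card (P : Subgroup X) := by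
  classical
  haveI : Fact p.Prime := ⟨hp⟩
  have hfix : ∀ (c : (P : Subgroup X)) (Q : Sylow p X), (c : X) • Q = Q → c ≠ 1 → Q = P := by
    intro c Q h hc
    have hcN : (c : X) ∈ Subgroup.normalizer ((Q : Subgroup X) : Set X) :=
      Sylow.smul_eq_iff_mem_normalizer.mp h
    have hcQ : (c : X) ∈ (Q : Subgroup X) := by
      have hz : IsPGroup p (Subgroup.zpowers (c : X)) :=
        P.isPGroup'.to_le (Subgroup.zpowers_le.mpr c.2)
      exact (Q.is_maximal' (IsPGroup.to_sup_of_normal_right' hz Q.isPGroup'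
        (Subgroup.zpowers_le.mpr hcN)) le_sup_right) ▸ Subgroup.mem_sup_left (Subgroup.mem_zpowers _)
    have hc1 : (c : X) ≠ 1 := fun e => hc (Subtype.ext e)
    exact Sylow.ext ((D.sylow_eq hp Q hcQ hc1).2.trans (D.sylow_eq hp P c.2 hc1).2.symm)
  have hpfix : ∀ c : (P : Subgroup X), (c : X) • P = P := fun c =>
    Sylow.smul_eq_iff_mem_normalizer.mpr (Subgroup.le_normalizer c.2)
  letI : MulAction (P : Subgroup X) {Q : Sylow p X // Q ≠ P} :=
    { smul := fun c Q => ⟨(c : X) • Q.1, fun e => Q.2 (smul_left_cancel (c : X) (e.trans (hpfix c).symm))⟩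
      one_smul := fun Q => Subtype.ext (one_smul X Q.1)
      mul_smul := fun c d Q => Subtype.ext (mul_smul (c : X) (d : X) Q.1) }
  have hfree := card_dvd_of_free (C := (P : Subgroup X)) (α := {Q : Sylow p X // Q ≠ P}) (fun c Q h => by
    by_contra hc
    exact Q.2 (hfix c Q.1 (congrArg Subtype.val h) hc))
  obtain ⟨k, hk⟩ := hfree
  refine ⟨k, ?_⟩
  haveI : Fintype (Sylow p X) := Fintype.ofFinite _
  rw [Nat.card_eq_fintype_card (α := {Q : Sylow p X // Q ≠ P}), Fintype.card_subtype_compl,
    Fintype.card_subtype_eq] at hk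
  rw [Nat.card_eq_fintype_card (α := Sylow p X), mul_comm k, ← hk]
  have : 0 < Fintype.card (Sylow p X) := Fintype.card_pos
  omega

end Data

end Cfsg.Agent.Dickson
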