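import Mathlib

/-! Orders of matrices controlled by their eigenvalues, and orbits of roots. -/

set_option autoImplicit false

namespace Cfsg.Agent.Classical

open Polynomial Matrix

variable {F K : Type*} [Field F] [Field K] [Algebra F K] {ι : Type*} [Fintype ι] [DecidableEq ι]

/-- The eigenvalues in `K`, as a multiset of roots. -/
noncomputable def eigRoots (K : Type*) [Field K] [Algebra F K] (A : Matrix ι ι F) : Multiset K :=
  (A.map (algebraMap F K)).charpoly.roots

theorem card_eigRoots [IsAlgClosed K] (A : Matrix ι ι F) :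
    Multiset.card (eigRoots K A) = Fintype.card ι := by
  rw [eigRoots, ← (IsAlgClosed.splits _).natDegree_eq_card_roots, Matrix.charpoly_natDegree_eq_dim]

theorem mem_eigRoots_iff {A : Matrix ι ι F} {x : K} :
    x ∈ eigRoots K A ↔ x ∈ spectrum K (A.map (algebraMap F K)) := by
  rw [Matrix.mem_spectrum_iff_isRoot_charpoly, eigRoots,
    Polynomial.mem_roots (Matrix.charpoly_monic _).ne_zero]

/-- An eigenvalue of a matrix of finite order is a root of unity. -/
theorem pow_eq_one_of_eigRoot {A : Matrix ι ι F} {N : ℕ} (hA : A ^ N = 1) {x : K}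
    (hx : x ∈ eigRoots K A) : x ^ N = 1 := by
  rcases isEmpty_or_nonempty ι with h | h
  · rw [eigRoots, Matrix.charpoly, Matrix.det_isEmpty] at hx
    simp at hx
  · have h1 := spectrum.pow_mem_pow (A.map (algebraMap F K)) N (mem_eigRoots_iff.1 hx)
    have h2 : (A.map (algebraMap F K)) ^ N = 1 := by rw [← Matrix.map_pow, hA]; simp
    rw [h2, spectrum.one_eq] at h1
    simpa using h1

/-- If every eigenvalue satisfies `x ^ M = 1` and occurs at most `p ^ c` times, then `A ^ (p ^ c * M) = 1`. -/
theorem pow_eq_one_of_eigRoots [IsAlgClosed K] [DecidableEq K] (p : ℕ) [Fact p.Prime] [CharP K p]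
    (A : Matrix ι ι F) {c M : ℕ} (hM : M ≠ 0) (hroot : ∀ x ∈ eigRoots K A, x ^ M = 1)
    (hmult : ∀ x ∈ eigRoots K A, (eigRoots K A).count x ≤ p ^ c) : A ^ (p ^ c * M) = 1 := by
  set R := eigRoots K A
  set AK := A.map (algebraMap F K)
  have hsplit : AK.charpoly = (R.map fun a => X - C a).prod :=
    (IsAlgClosed.splits _).eq_prod_roots_of_monic (Matrix.charpoly_monic _)
  have hdvd : AK.charpoly ∣ (X ^ (p ^ c * M) - 1 : K[X]) := by
    have h1 : (X ^ (p ^ c * M) - 1 : K[X]) = (X ^ M - 1) ^ p ^ c := by
      rw [sub_pow_char_pow, ← pow_mul, one_pow, mul_comm]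
    have h2 : (R.toFinset.val.map fun a => X - C a).prod ∣ (X ^ M - 1 : K[X]) := by
      have hne : (X ^ M - 1 : K[X]) ≠ 0 := by
        simpa using (Polynomial.monic_X_pow_sub_C (1 : K) hM).ne_zero
      refine (Multiset.prod_X_sub_C_dvd_iff_le_roots hne _).2 ((Multiset.le_iff_subset R.toFinset.nodup).2 ?_)
      intro x hx
      rw [Polynomial.mem_roots hne]
      simp [hroot x (Multiset.mem_toFinset.1 hx)]
    have h3 : R ≤ p ^ c • R.toFinset.val := Multiset.le_iff_count.2 fun x => by
      rw [Multiset.count_nsmul]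
      by_cases hx : x ∈ R
      · rw [Multiset.count_eq_one_of_mem R.toFinset.nodup (Multiset.mem_toFinset.2 hx), mul_one]
        exact hmult x hx
      · rw [Multiset.count_eq_zero.2 hx]; exact Nat.zero_le _
    rw [hsplit, h1]
    refine (Multiset.prod_dvd_prod_of_le (Multiset.map_le_map h3)).trans ?_
    rw [Multiset.map_nsmul, Multiset.prod_nsmul]
    exact pow_dvd_pow_of_dvd h2 _
  obtain ⟨g, hg⟩ := hdvd
  have h4 := congrArg (aeval AK) hg
  rw [map_mul, Matrix.aeval_self_charpoly, zero_mul, map_sub, map_pow, aeval_X, map_one, sub_eq_zero] at h4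
  refine Matrix.map_injective (algebraMap F K).injective ?_
  show (A ^ (p ^ c * M)).map (algebraMap F K) = (1 : Matrix ι ι F).map (algebraMap F K)
  rw [Matrix.map_pow]
  exact h4.trans (by simp)

/-- Frobenius permutes the eigenvalues. -/
theorem pow_card_mem_eigRoots [Fintype F] {A : Matrix ι ι F} {x : K} (hx : x ∈ eigRoots K A) :
    x ^ Fintype.card F ∈ eigRoots K A := by
  have hne := (Matrix.charpoly_monic (A.map (algebraMap F K))).ne_zero
  rw [eigRoots, Polynomial.mem_roots hne, Matrix.charpoly_map, Polynomial.IsRoot, Polynomial.eval_map_algebraMap]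
    at hx ⊢
  have h := Polynomial.aeval_algHom_apply (FiniteField.frobeniusAlgHom F K) x A.charpoly
  rw [hx, map_zero] at h
  simpa using h

/-- Multiplicity against the number of distinct roots. -/
theorem card_erase_add_count_le [DecidableEq K] (R : Multiset K) (x e : K) :
    (R.toFinset.erase e).card + R.count x ≤ Multiset.card R + 1 := by
  by_cases hx : x ∈ R
  · have hsum : ∑ a ∈ R.toFinset, R.count a = Multiset.card R := Multiset.toFinset_sum_count_eq R
    rw [← Finset.add_sum_erase _ _ (Multiset.mem_toFinset.2 hx)] at hsum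
    have h1 : (R.toFinset.erase x).card ≤ ∑ a ∈ R.toFinset.erase x, R.count a := by
      simpa using Finset.card_nsmul_le_sum (R.toFinset.erase x) R.count 1 fun a ha =>
        Multiset.one_le_count_iff_mem.2 (Multiset.mem_toFinset.1 (Finset.mem_of_mem_erase ha))
    have h2 : (R.toFinset.erase e).card ≤ (R.toFinset.erase x).card + 1 :=
      (Finset.card_le_card (Finset.erase_subset _ _)).trans (by
        rw [Finset.card_erase_add_one (Multiset.mem_toFinset.2 hx)])
    omega
  · rw [Multiset.count_eq_zero.2 hx]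
    have := (Finset.card_le_card (Finset.erase_subset e R.toFinset)).trans (Multiset.toFinset_card_le R)
    omega

/-- The complement of a finite set stable under an injective map is stable. -/
theorem sdiff_stable {α : Type*} [DecidableEq α] {S O : Finset α} (f : α → α) (hf : Function.Injective f)
    (hS : ∀ x ∈ S, f x ∈ S) (hO : ∀ x ∈ O, f x ∈ O) : ∀ x ∈ S \ O, f x ∈ S \ O := by
  intro x hx
  rw [Finset.mem_sdiff] at hx ⊢
  refine ⟨hS x hx.1, fun h => hx.2 ?_⟩
  have himg : O.image f = O := Finset.eq_of_subset_of_card_le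
    (Finset.image_subset_iff.2 hO) (by rw [Finset.card_image_of_injective _ hf])
  rw [← himg, Finset.mem_image] at h
  obtain ⟨y, hy, hyx⟩ := h
  exact hf hyx ▸ hy

end Cfsg.Agent.Classical
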