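import Mathlib
import Cfsg.Prelude.Def_LieClassical
import Cfsg.Agent.Lib.Classical.UnitCenter

/-! Torus and regular unipotent elements of unitary groups. -/

set_option autoImplicit false

namespace Cfsg.Agent.Classical

open Matrix Polynomial

variable {F : Type*} [Field F] [Fintype F] {q : ℕ}

/-- Coordinates for a non-degenerate Hermitian space. -/
theorem exists_unitary_coords (hF : Fintype.card F = q ^ 2) {V : Type*} [AddCommGroup V] [Module F V]
    [FiniteDimensional F V] {n : ℕ} (hV : Module.finrank F V = n)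
    (B : V →ₛₗ[qFrob hF] V →ₗ[F] F) (hS : ∀ x y, qFrob hF (B x y) = B y x)
    (hB : ∀ x, (∀ y, B x y = 0) → x = 0) :
    ∃ Φ : Module.End F V ≃ₐ[F] Matrix (Fin n) (Fin n) F, (∀ g, (Φ g).det = LinearMap.det g) ∧
      ∀ g : Module.End F V, (∀ x y, B (g x) (g y) = B x y) → (Φ g)ᵀ * (Φ g).map (qFrob hF) = 1 := by
  classical
  obtain ⟨b, -, hb⟩ := exists_orthonormal_family_herm B (qFrob_ne_id hF) (qFrob_qFrob hF) ⟨hS⟩ n ⊤
    (fun w _ hw => by
      by_contra h
      push Not at h
      exact hw (hB w fun y => h y trivial))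
    (finrank_top F V ▸ hV)
  have hli : LinearIndependent F b := by
    refine Fintype.linearIndependent_iff.2 fun g hg i => ?_
    have h := congrArg (B (b i)) hg
    simpa [map_sum, hb] using h
  let bs : Module.Basis (Fin n) F V :=
    Module.Basis.mk hli (top_le_iff.2 (hli.span_eq_top_of_card_eq_finrank' (by simp [hV])))
  have hbs : ∀ i, bs i = b i := fun i => by simp [bs]
  refine ⟨LinearMap.toMatrixAlgEquiv bs, fun g => LinearMap.det_toMatrix bs g, fun g hg => ?_⟩
  ext i j
  have h := hg (bs j) (bs i)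
  rw [← bs.sum_repr (g (bs j)), ← bs.sum_repr (g (bs i))] at h
  simp only [map_sum, LinearMap.map_smulₛₗ, LinearMap.sum_apply, LinearMap.smul_apply, smul_eq_mul,
    RingHom.id_apply, hbs, hb, mul_ite, mul_one, mul_zero, Finset.sum_ite_eq, Finset.sum_ite_eq',
    Finset.mem_univ, if_true] at h
  rw [Matrix.mul_apply, Matrix.one_apply]
  simp only [Matrix.transpose_apply, Matrix.map_apply, LinearMap.toMatrixAlgEquiv_apply, hbs]
  simpa [eq_comm, mul_comm] using h

/-- A conjugate-linear field endomorphism commutes with the trace. -/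
theorem qFrob_trace (hF : Fintype.card F = q ^ 2) {K : Type*} [Field K] [Algebra F K] [Finite K]
    (s : K →+* K) (hs : ∀ c, s (algebraMap F K c) = algebraMap F K (qFrob hF c)) (z : K) :
    qFrob hF (Algebra.trace F K z) = Algebra.trace F K (s z) := by
  apply (algebraMap F K).injective
  rw [← hs, FiniteField.algebraMap_trace_eq_sum_pow, FiniteField.algebraMap_trace_eq_sum_pow, map_sum]
  exact Finset.sum_congr rfl fun i _ => map_pow s _ _

/-- Order of the Coxeter torus of `GU_n`. -/
def unitaryTorus (q n : ℕ) : ℕ := if Even n then q ^ n - 1 else q ^ n + 1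

theorem exists_unitary_torus (hF : Fintype.card F = q ^ 2) {p a : ℕ} [Fact p.Prime] [CharP F p]
    (hq : q = p ^ a) {n : ℕ} (hn : 1 ≤ n) :
    ∃ M : Matrix (Fin n) (Fin n) F, Mᵀ * M.map (qFrob hF) = 1 ∧ orderOf M = unitaryTorus q n := by
  classical
  have hq2 := two_le_q hF
  rcases Nat.even_or_odd n with hev | hodd
  · obtain ⟨k, rfl⟩ := hev
    haveI : NeZero k := ⟨by omega⟩
    let L := FiniteField.Extension F p k
    have hL : Module.finrank F L = k := FiniteField.finrank_extension F p k
    letI : Fintype L := Fintype.ofFinite L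
    haveI : CharP L p := charP_of_injective_algebraMap (algebraMap F L).injective p
    let s : L →+* L := iterateFrobenius L p a
    have hsq : ∀ x, s x = x ^ q := fun x => by rw [hq]; exact iterateFrobenius_def p a x
    have hs : ∀ c, s (algebraMap F L c) = algebraMap F L (qFrob hF c) := fun c => by
      rw [hsq, qFrob_apply, map_pow]
    have hsbij : Function.Bijective s := Finite.injective_iff_bijective.1 s.injective
    have hsc : ∀ (c : F) (z : L), s (c • z) = qFrob hF c • s z := fun c z => by
      rw [Algebra.smul_def, map_mul, hs, ← Algebra.smul_def]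
    let B : (L × L) →ₛₗ[qFrob hF] (L × L) →ₗ[F] F :=
      LinearMap.mk₂'ₛₗ (qFrob hF) (RingHom.id F)
        (fun x y => Algebra.trace F L (y.1 * s x.2) + qFrob hF (Algebra.trace F L (x.1 * s y.2)))
        (fun x x' y => by simp only [Prod.fst_add, Prod.snd_add, map_add, mul_add, add_mul]; ring)
        (fun c x y => by
          simp only [Prod.smul_snd, Prod.smul_fst, hsc, mul_smul_comm, smul_mul_assoc, map_smul, smul_eq_mul,
            map_mul, RingHom.id_apply]
          ring)
        (fun x y y' => by simp only [Prod.fst_add, Prod.snd_add, map_add, mul_add, add_mul]; ring)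
        (fun c x y => by
          simp only [Prod.smul_snd, Prod.smul_fst, hsc, mul_smul_comm, smul_mul_assoc, map_smul, smul_eq_mul,
            map_mul, qFrob_qFrob, RingHom.id_apply]
          ring)
    have hBa : ∀ x y, B x y = Algebra.trace F L (y.1 * s x.2) + qFrob hF (Algebra.trace F L (x.1 * s y.2)) :=
      fun x y => rfl
    have hS : ∀ x y, qFrob hF (B x y) = B y x := fun x y => by
      rw [hBa, hBa, map_add, qFrob_qFrob, add_comm]
    have hB : ∀ x, (∀ y, B x y = 0) → x = 0 := by
      intro x hx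
      have h1 : s x.2 = 0 := (traceForm_nondegenerate F L).1 _ fun y => by
        rw [Algebra.traceForm_apply, mul_comm]
        have := hx (y, 0)
        simpa [hBa] using this
      have h2 : x.1 = 0 := (traceForm_nondegenerate F L).1 _ fun y => by
        obtain ⟨y', rfl⟩ := hsbij.2 y
        rw [Algebra.traceForm_apply]
        have := hx (0, y')
        simpa [hBa] using this
      exact Prod.ext h2 (hsbij.1 (h1.trans (map_zero s).symm))
    obtain ⟨Φ, -, hΦ⟩ := exists_unitary_coords hF (show Module.finrank F (L × L) = k + k by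
      rw [Module.finrank_prod, hL]) B hS hB
    obtain ⟨g, hg⟩ := IsCyclic.exists_generator (α := Lˣ)
    obtain ⟨w, hw⟩ := hsbij.2 (((g⁻¹ : Lˣ) : L))
    let G : Module.End F (L × L) := (LinearMap.mulLeft F (g : L)).prodMap (LinearMap.mulLeft F w)
    have hG : ∀ x y, B (G x) (G y) = B x y := fun x y => by
      simp only [G, hBa, LinearMap.prodMap_apply, LinearMap.mulLeft_apply, map_mul, hw]
      rw [show (g : L) * y.1 * (((g⁻¹ : Lˣ) : L) * s x.2) = y.1 * s x.2 by rw [mul_mul_mul_comm, Units.mul_inv, one_mul],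
        show (g : L) * x.1 * (((g⁻¹ : Lˣ) : L) * s y.2) = x.1 * s y.2 by rw [mul_mul_mul_comm, Units.mul_inv, one_mul]]
    refine ⟨Φ G, hΦ G hG, ?_⟩
    rw [show orderOf (Φ G) = orderOf G from MulEquiv.orderOf_eq Φ.toMulEquiv G]
    have hpow : ∀ j, G ^ j = (LinearMap.mulLeft F ((g : L) ^ j)).prodMap (LinearMap.mulLeft F (w ^ j)) := by
      intro j
      induction j with
      | zero => simp [LinearMap.prodMap_one, Module.End.one_eq_id]
      | succ j ih =>
        rw [pow_succ, ih]
        refine LinearMap.ext fun x => ?_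
        simp [G, pow_succ, mul_assoc, Module.End.mul_apply]
    have hord : orderOf (g : L) = unitaryTorus q (k + k) := by
      rw [orderOf_units, orderOf_eq_card_of_forall_mem_zpowers hg, Nat.card_units,
        Module.natCard_eq_pow_finrank (K := F), Nat.card_eq_fintype_card, hL, hF, unitaryTorus, if_pos ⟨k, rfl⟩,
        ← pow_mul, two_mul]
    rw [← hord]
    refine dvd_antisymm (orderOf_dvd_of_pow_eq_one ?_) (orderOf_dvd_of_pow_eq_one ?_)
    · have hw1 : w ^ orderOf (g : L) = 1 := hsbij.1 (by
        rw [map_pow, hw, map_one, ← Units.val_pow_eq_pow_val, inv_pow, orderOf_units, pow_orderOf_eq_one,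
          inv_one, Units.val_one])
      rw [hpow, pow_orderOf_eq_one, hw1]
      exact LinearMap.ext fun x => by simp
    · have h := LinearMap.congr_fun (hpow (orderOf G)) (1, 0)
      rw [pow_orderOf_eq_one] at h
      simpa using (congrArg Prod.fst h).symm
  · haveI : NeZero n := ⟨by omega⟩
    let K := FiniteField.Extension F p n
    have hK : Module.finrank F K = n := FiniteField.finrank_extension F p n
    letI : Fintype K := Fintype.ofFinite K
    have hKc : Fintype.card K = (q ^ n) ^ 2 := by
      rw [← Nat.card_eq_fintype_card, Module.natCard_eq_pow_finrank (K := F), Nat.card_eq_fintype_card, hK, hF,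
        ← pow_mul, ← pow_mul, mul_comm]
    let s : K →+* K := qFrob hKc
    have hs : ∀ c, s (algebraMap F K c) = algebraMap F K (qFrob hF c) := fun c => by
      obtain ⟨k, rfl⟩ := hodd
      show (algebraMap F K c) ^ (q ^ (2 * k + 1)) = _
      rw [← map_pow, qFrob_apply, pow_succ, pow_mul, pow_mul, ← hF, FiniteField.pow_card_pow]
    let B : K →ₛₗ[qFrob hF] K →ₗ[F] F :=
      LinearMap.mk₂'ₛₗ (qFrob hF) (RingHom.id F) (fun x y => Algebra.trace F K (y * s x))
        (fun x x' y => by simp only [map_add, mul_add])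
        (fun c x y => by
          rw [Algebra.smul_def, map_mul s, hs, mul_left_comm, ← Algebra.smul_def, map_smul])
        (fun x y y' => by simp only [map_add, add_mul])
        (fun c x y => by rw [smul_mul_assoc, map_smul, RingHom.id_apply])
    have hBa : ∀ x y, B x y = Algebra.trace F K (y * s x) := fun x y => rfl
    have hS : ∀ x y, qFrob hF (B x y) = B y x := fun x y => by
      rw [hBa, hBa, qFrob_trace hF s hs, map_mul, show s (s x) = x from qFrob_qFrob hKc x, mul_comm]
    have hB : ∀ x, (∀ y, B x y = 0) → x = 0 := fun x hx => s.injective (by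
      rw [map_zero]
      exact (traceForm_nondegenerate F K).1 _ fun y => by
        rw [Algebra.traceForm_apply, mul_comm]; exact hx y)
    obtain ⟨Φ, -, hΦ⟩ := exists_unitary_coords hF hK B hS hB
    obtain ⟨g, hg⟩ := IsCyclic.exists_generator (α := Kˣ)
    have hpos : 1 ≤ q ^ n := Nat.one_le_pow _ _ (by omega)
    have hfac : (q ^ n) ^ 2 - 1 = (q ^ n + 1) * (q ^ n - 1) := by rw [← Nat.sq_sub_sq, one_pow]
    set z := g ^ (q ^ n - 1)
    have hz : orderOf z = q ^ n + 1 := by
      have h2 : 2 ≤ q ^ n := le_trans hq2 (Nat.le_self_pow (by omega) q)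
      rw [orderOf_pow, orderOf_eq_card_of_forall_mem_zpowers hg, Nat.card_units, Nat.card_eq_fintype_card,
        hKc, hfac, Nat.gcd_mul_left_left, Nat.mul_div_cancel _ (by omega)]
    let G : Module.End F K := LinearMap.mulLeft F (z : K)
    have hz1 : (z : K) * s (z : K) = 1 := by
      show (z : K) * (z : K) ^ (q ^ n) = 1
      rw [← pow_succ', ← Units.val_pow_eq_pow_val, ← hz, pow_orderOf_eq_one, Units.val_one]
    refine ⟨Φ G, hΦ G (fun x y => ?_), ?_⟩
    · simp only [G, hBa, LinearMap.mulLeft_apply, map_mul]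
      rw [show (z : K) * y * (s z * s x) = ((z : K) * s z) * (y * s x) by ring, hz1, one_mul]
    · rw [show orderOf (Φ G) = orderOf G from MulEquiv.orderOf_eq Φ.toMulEquiv G, unitaryTorus, if_neg (Nat.not_even_iff_odd.2 hodd), ← hz,
        ← orderOf_units]
      exact orderOf_injective (Algebra.lmul F K).toMonoidHom Algebra.lmul_injective (z : K)

section Unipotent

variable {m : ℕ}

/-- The ring carrying a regular unipotent isometry. -/
abbrev UniRing (F : Type*) [Field F] (m : ℕ) := AdjoinRoot ((X - 1 : F[X]) ^ m)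

local notation "ρ" => AdjoinRoot.root ((X - 1 : F[X]) ^ m)

omit [Fintype F] in
theorem uniRing_root_nilp : (ρ - 1) ^ m = 0 := by
  have := AdjoinRoot.mk_self (f := (X - 1 : F[X]) ^ m)
  rw [map_pow, map_sub, AdjoinRoot.mk_X, map_one] at this
  exact this

omit [Fintype F] in
theorem uniRing_pow_eq_zero_iff (i : ℕ) : (ρ - 1) ^ i = 0 ↔ m ≤ i := by
  constructor
  · intro h
    have h1 : AdjoinRoot.mk ((X - 1 : F[X]) ^ m) ((X - 1) ^ i) = 0 := by
      rw [map_pow, map_sub, AdjoinRoot.mk_X, map_one]; exact h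
    rw [AdjoinRoot.mk_eq_zero] at h1
    have h2 := Polynomial.natDegree_le_of_dvd h1 (pow_ne_zero _ (by simpa using X_sub_C_ne_zero (1 : F)))
    rw [natDegree_pow, natDegree_pow, show (X - 1 : F[X]) = X - C 1 by simp, natDegree_X_sub_C] at h2
    simpa using h2
  · exact fun h => pow_eq_zero_of_le h uniRing_root_nilp

omit [Fintype F] in
theorem uniRing_finrank (hm : 1 ≤ m) : Module.finrank F (UniRing F m) = m := by
  have hne : ((X - 1 : F[X]) ^ m) ≠ 0 := pow_ne_zero _ (by simpa using X_sub_C_ne_zero (1 : F))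
  rw [(AdjoinRoot.powerBasis hne).finrank, AdjoinRoot.powerBasis_dim, natDegree_pow,
    show (X - 1 : F[X]) = X - C 1 by simp, natDegree_X_sub_C, mul_one]

omit [Fintype F] in
/-- Every non-zero element has a multiple equal to the socle element. -/
theorem uniRing_exists_mul (hm : 1 ≤ m) {z : UniRing F m} (hz : z ≠ 0) :
    ∃ y, y * z = (ρ - 1) ^ (m - 1) := by
  classical
  have hex : ∃ k, z * (ρ - 1) ^ k = 0 := ⟨m, by rw [uniRing_root_nilp, mul_zero]⟩
  set k := Nat.find hex
  have hk0 : k ≠ 0 := fun h => hz (by simpa [k, h] using Nat.find_spec hex)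
  set w := z * (ρ - 1) ^ (k - 1)
  have hw0 : w ≠ 0 := Nat.find_min hex (by omega)
  have hw1 : w * (ρ - 1) = 0 := by
    rw [mul_assoc, ← pow_succ, Nat.sub_add_cancel (Nat.pos_of_ne_zero hk0)]
    exact Nat.find_spec hex
  obtain ⟨g, hg⟩ := AdjoinRoot.mk_surjective w
  have hX : (X - 1 : F[X]) ≠ 0 := by simpa using X_sub_C_ne_zero (1 : F)
  have h1 : (X - 1 : F[X]) ^ m ∣ g * (X - 1) :=
    AdjoinRoot.mk_eq_zero.1 (by rw [map_mul, hg]; simpa using hw1)
  obtain ⟨m', rfl⟩ : ∃ m', m = m' + 1 := ⟨m - 1, by omega⟩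
  rw [pow_succ] at h1
  obtain ⟨u, hu⟩ := (mul_dvd_mul_iff_right hX).1 h1
  set e := (AdjoinRoot.root ((X - 1 : F[X]) ^ (m' + 1)) - 1) ^ m'
  obtain ⟨v, hv⟩ : (X - C 1 : F[X]) ∣ u - C (u.eval 1) := dvd_iff_isRoot.2 (by simp)
  have hwe : w = u.eval 1 • e := by
    have hu' : u = C (u.eval 1) + (X - C 1) * v := by rw [← hv]; ring
    rw [← hg, hu]
    conv_lhs => rw [hu']
    simp only [map_mul, map_add, map_pow, map_sub, map_one, AdjoinRoot.mk_X, AdjoinRoot.mk_C,
      Algebra.smul_def, AdjoinRoot.algebraMap_eq]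
    have hz0 : (AdjoinRoot.root ((X - 1 : F[X]) ^ (m' + 1)) - 1) ^ m' *
        ((AdjoinRoot.root ((X - 1 : F[X]) ^ (m' + 1)) - 1) * AdjoinRoot.mk _ v) = 0 := by
      rw [← mul_assoc, ← pow_succ, uniRing_root_nilp, zero_mul]
    rw [mul_add, hz0, add_zero, mul_comm]
  have hu0 : u.eval 1 ≠ 0 := fun h => hw0 (by rw [hwe, h, zero_smul])
  refine ⟨(u.eval 1)⁻¹ • (AdjoinRoot.root ((X - 1 : F[X]) ^ (m' + 1)) - 1) ^ (k - 1), ?_⟩
  rw [smul_mul_assoc, mul_comm _ z, show z * _ = w from rfl, hwe, smul_smul, inv_mul_cancel₀ hu0, one_smul,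
    Nat.add_sub_cancel]

/-- A Hermitian structure on `UniRing F m` preserved by multiplication with the root. -/
theorem exists_uniRing_form (hF : Fintype.card F = q ^ 2) (p : ℕ) [Fact p.Prime] [CharP F p] (hm : 1 ≤ m) :
    ∃ B : UniRing F m →ₛₗ[qFrob hF] UniRing F m →ₗ[F] F, (∀ x y, qFrob hF (B x y) = B y x) ∧
      (∀ x, (∀ y, B x y = 0) → x = 0) ∧ ∀ x y, B (ρ * x) (ρ * y) = B x y := by
  classical
  set R := UniRing F m
  haveI : Nontrivial R := AdjoinRoot.nontrivial _ (by
    rw [degree_eq_natDegree (pow_ne_zero _ (by simpa using X_sub_C_ne_zero (1 : F)))]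
    simp [show (X - 1 : F[X]) = X - C 1 by simp]
    omega)
  haveI : FiniteDimensional F R :=
    (AdjoinRoot.powerBasis (pow_ne_zero m (by simpa using X_sub_C_ne_zero (1 : F)) : (X - 1 : F[X]) ^ m ≠ 0)).finite
  haveI : CharP R p := charP_of_injective_algebraMap (algebraMap F R).injective p
  set c := Nat.clog p m
  have hc : m ≤ p ^ c := Nat.le_pow_clog (Fact.out : p.Prime).one_lt _
  have hpc : 1 ≤ p ^ c := Nat.one_le_pow _ _ (Fact.out : p.Prime).pos
  have hr : (ρ : R) ^ p ^ c = 1 := by
    have h := (uniRing_pow_eq_zero_iff (F := F) (p ^ c)).2 hc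
    rwa [sub_pow_char_pow, one_pow, sub_eq_zero] at h
  set ri : R := ρ ^ (p ^ c - 1)
  have hri : (ρ : R) * ri = 1 := by rw [← pow_succ', Nat.sub_add_cancel hpc, hr]
  have hri' : ∀ k, (ri - 1) ^ k = (-ri) ^ k * (ρ - 1) ^ k := fun k => by
    rw [← mul_pow]; congr 1; linear_combination hri
  let st : R →+* R := AdjoinRoot.lift ((algebraMap F R).comp (qFrob hF)) ri (by
    rw [eval₂_pow, eval₂_sub, eval₂_X, eval₂_one, hri', uniRing_root_nilp, mul_zero])
  have hstC : ∀ c : F, st (algebraMap F R c) = algebraMap F R (qFrob hF c) := fun c =>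
    AdjoinRoot.lift_of _
  have hstR : st ρ = ri := AdjoinRoot.lift_root _
  have hstst : ∀ x, st (st x) = x := by
    have hh : st.comp st = RingHom.id R := by
      refine Ideal.Quotient.ringHom_ext (Polynomial.ringHom_ext (fun a => ?_) ?_)
      · show st (st (algebraMap F R a)) = algebraMap F R a
        rw [hstC, hstC, qFrob_qFrob]
      · show st (st ρ) = ρ
        rw [hstR, map_pow, hstR]
        refine (left_inv_eq_right_inv ?_ (show ri * ρ = 1 by rw [mul_comm, hri]))
        rw [← pow_succ, Nat.sub_add_cancel hpc, ← pow_mul, mul_comm, pow_mul, hr, one_pow]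
    exact fun x => RingHom.congr_fun hh x
  set e : R := (ρ - 1) ^ (m - 1)
  have he0 : e ≠ 0 := fun h => by have := (uniRing_pow_eq_zero_iff (F := F) (m - 1)).1 h; omega
  have hre : ρ * e = e := by
    have : (ρ - 1) * e = 0 := by
      rw [← pow_succ', Nat.sub_add_cancel hm]; exact uniRing_root_nilp
    linear_combination this
  have hrie : ∀ k, ri ^ k * e = e := by
    have h1 : ri * e = e := by
      conv_lhs => rw [← hre]
      rw [← mul_assoc, mul_comm ri, hri, one_mul]
    intro k
    induction k with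
    | zero => simp
    | succ k ih => rw [pow_succ, mul_assoc, h1, ih]
  have hste : st e = algebraMap F R ((-1) ^ (m - 1)) * e := by
    rw [map_pow, map_sub, hstR, map_one, hri', neg_pow, mul_assoc, hrie]
    simp
  obtain ⟨t, ht⟩ : ∃ t : F, t + (-1) ^ (m - 1) * qFrob hF t ≠ 0 := by
    by_contra h
    push Not at h
    have h1 := h 1
    rw [map_one, mul_one] at h1
    refine qFrob_ne_id hF (RingHom.ext fun a => ?_)
    have h2 := h a
    show qFrob hF a = a
    linear_combination -h2 + qFrob hF a * h1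
  obtain ⟨ψ, hψ, -⟩ := exists_dual_eq_one (⊥ : Submodule F R) (x := e) (by simpa using he0)
  let φ : R →ₗ[F] F :=
    { toFun := fun x => t * ψ x + qFrob hF (t * ψ (st x))
      map_add' := fun x y => by simp only [map_add, mul_add]; ring
      map_smul' := fun a x => by
        rw [Algebra.smul_def a x, map_mul st, hstC, ← Algebra.smul_def, ← Algebra.smul_def, map_smul, map_smul,
          smul_eq_mul, smul_eq_mul, RingHom.id_apply, smul_eq_mul, map_mul, map_mul, map_mul, qFrob_qFrob]
        ring }
  have hφst : ∀ x, φ (st x) = qFrob hF (φ x) := fun x => by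
    show t * ψ (st x) + qFrob hF (t * ψ (st (st x))) = qFrob hF (t * ψ x + qFrob hF (t * ψ (st x)))
    rw [hstst, map_add, qFrob_qFrob, add_comm]
  have hφe : φ e ≠ 0 := by
    show t * ψ e + qFrob hF (t * ψ (st e)) ≠ 0
    rw [hste, ← Algebra.smul_def, map_smul, hψ, smul_eq_mul, mul_one, mul_one, map_mul, map_pow, map_neg,
      map_one, mul_comm (qFrob hF t)]
    exact ht
  let B : R →ₛₗ[qFrob hF] R →ₗ[F] F :=
    LinearMap.mk₂'ₛₗ (qFrob hF) (RingHom.id F) (fun x y => φ (y * st x))
      (fun x x' y => by simp only [map_add, mul_add])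
      (fun a x y => by rw [Algebra.smul_def, map_mul st, hstC, mul_left_comm, ← Algebra.smul_def, map_smul])
      (fun x y y' => by simp only [map_add, add_mul])
      (fun a x y => by rw [smul_mul_assoc, map_smul, RingHom.id_apply])
  have hBa : ∀ x y, B x y = φ (y * st x) := fun x y => rfl
  refine ⟨B, fun x y => ?_, fun x hx => ?_, fun x y => ?_⟩
  · rw [hBa, hBa, ← hφst, map_mul st, hstst, mul_comm]
  · by_contra h
    have h' : st x ≠ 0 := fun h0 => h (by rw [← hstst x, h0, map_zero])
    obtain ⟨y, hy⟩ := uniRing_exists_mul hm h'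
    exact hφe ((congrArg φ hy).symm.trans (hx y))
  · rw [hBa, hBa, map_mul st, hstR,
      show (ρ : R) * y * (ri * st x) = ((ρ : R) * ri) * (y * st x) by ring, hri, one_mul]

end Unipotent

end Cfsg.Agent.Classical
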