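import Mathlib
import Cfsg.Prelude.Def_Classical
import Cfsg.Agent.Lib.Classical.MatrixOrders
import Cfsg.Agent.Lib.Classical.RootOrders
import Cfsg.Agent.Lib.Classical.UnitElements

/-! Element orders available in `PSU_n`. -/

set_option autoImplicit false

namespace Cfsg.Agent.Classical

open Matrix Polynomial

variable {F : Type*} [Field F] [Fintype F] {q n : ℕ}

/-- The absolute value of `1 + (-q) + … + (-q) ^ (n-1)`. -/
def altSum (q n : ℕ) : ℕ := (∑ i ∈ Finset.range n, (-(q : ℤ)) ^ i).natAbs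

/-- Order of the Coxeter torus of `PSU_n`. -/
def psuTorus (q n : ℕ) : ℕ := altSum q n / Nat.gcd n (q + 1)

theorem altSum_int_modEq (q n : ℕ) :
    ((q : ℤ) + 1) ∣ (∑ i ∈ Finset.range n, (-(q : ℤ)) ^ i) - n := by
  induction n with
  | zero => simp
  | succ k ih =>
    have h1 : ((q : ℤ) + 1) ∣ (-(q : ℤ)) ^ k - 1 :=
      Dvd.dvd.trans ⟨-1, by ring⟩ (sub_one_dvd_pow_sub_one (-(q : ℤ)) k)
    rw [Finset.sum_range_succ]
    obtain ⟨a, ha⟩ := ih
    obtain ⟨b, hb⟩ := h1
    exact ⟨a + b, by push_cast; linear_combination ha + hb⟩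

theorem dvd_altSum_of_dvd {g : ℕ} (hn : g ∣ n) (hq : g ∣ q + 1) : g ∣ altSum q n := by
  refine Int.natCast_dvd.1 ?_
  have h1 : (g : ℤ) ∣ (∑ i ∈ Finset.range n, (-(q : ℤ)) ^ i) - n :=
    dvd_trans (by exact_mod_cast hq) (altSum_int_modEq q n)
  simpa using dvd_add h1 (Int.natCast_dvd_natCast.2 hn)

theorem natAbs_neg_pow_sub_one (hq : 1 ≤ q) (n : ℕ) :
    ((-(q : ℤ)) ^ n - 1).natAbs = unitaryTorus q n := by
  unfold unitaryTorus
  rcases Nat.even_or_odd n with he | ho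
  · rw [if_pos he, he.neg_pow]
    zify [Nat.one_le_pow n q hq]
    exact abs_of_nonneg (sub_nonneg.2 (by exact_mod_cast Nat.one_le_pow n q hq))
  · rw [if_neg (Nat.not_even_iff_odd.2 ho), ho.neg_pow, show -((q : ℤ) ^ n) - 1 = -((q ^ n + 1 : ℕ) : ℤ) by
      push_cast; ring, Int.natAbs_neg, Int.natAbs_natCast]

theorem altSum_mul (hq : 1 ≤ q) (n : ℕ) : altSum q n * (q + 1) = unitaryTorus q n := by
  rw [altSum, ← natAbs_neg_pow_sub_one hq, ← geom_sum_mul (-(q : ℤ)) n, Int.natAbs_mul,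
    show -(q : ℤ) - 1 = -((q + 1 : ℕ) : ℤ) by push_cast; ring, Int.natAbs_neg, Int.natAbs_natCast]

theorem unitary_arith_key (d mu : ℕ) :
    altSum q d * Nat.gcd mu (q + 1) ∣ psuTorus q (d * mu) * (q + 1) := by
  have h1 : (∑ i ∈ Finset.range (d * mu), (-(q : ℤ)) ^ i) =
      (∑ i ∈ Finset.range d, (-(q : ℤ)) ^ i) * ∑ i ∈ Finset.range mu, ((-(q : ℤ)) ^ d) ^ i := by
    induction mu with
    | zero => simp
    | succ k ih =>
      rw [Nat.mul_succ, Finset.sum_range_add, ih, Finset.sum_range_succ, mul_add]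
      congr 1
      rw [Finset.sum_mul]
      refine Finset.sum_congr rfl fun i _ => ?_
      rw [pow_add, pow_mul, mul_comm]
  set g := Nat.gcd (d * mu) (q + 1)
  have hm : Nat.gcd mu (q + 1) ∣ (∑ i ∈ Finset.range mu, ((-(q : ℤ)) ^ d) ^ i).natAbs := by
    refine Int.natCast_dvd.1 ?_
    have h2 : (Nat.gcd mu (q + 1) : ℤ) ∣ (∑ i ∈ Finset.range mu, ((-(q : ℤ)) ^ d) ^ i) - mu := by
      have hb : (Nat.gcd mu (q + 1) : ℤ) ∣ (-(q : ℤ)) ^ d - 1 := by
        refine dvd_trans ?_ (sub_one_dvd_pow_sub_one (-(q : ℤ)) d)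
        rw [show -(q : ℤ) - 1 = -((q + 1 : ℕ) : ℤ) by push_cast; ring, dvd_neg]
        exact Int.natCast_dvd_natCast.2 (Nat.gcd_dvd_right _ _)
      generalize (-(q : ℤ)) ^ d = y at hb ⊢
      rw [show (∑ i ∈ Finset.range mu, y ^ i) - mu = ∑ i ∈ Finset.range mu, (y ^ i - 1) by simp]
      exact Finset.dvd_sum fun i _ => hb.trans (sub_one_dvd_pow_sub_one y i)
    simpa using dvd_add h2 (Int.natCast_dvd_natCast.2 (Nat.gcd_dvd_left mu (q + 1)))
  have hgS : g ∣ altSum q (d * mu) := dvd_altSum_of_dvd (Nat.gcd_dvd_left _ _) (Nat.gcd_dvd_right _ _)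
  calc altSum q d * Nat.gcd mu (q + 1) ∣ altSum q (d * mu) * ((q + 1) / g) := by
        refine Dvd.dvd.mul_right ?_ _
        rw [altSum, altSum, h1, Int.natAbs_mul]
        exact mul_dvd_mul_left _ hm
    _ = psuTorus q (d * mu) * (q + 1) := by
        rw [psuTorus, Nat.div_mul_right_comm hgS, Nat.mul_div_assoc _ (Nat.gcd_dvd_right _ _)]

theorem psuTorus_not_dvd {p a : ℕ} (hp : p.Prime) (ha : 1 ≤ a) (hq : q = p ^ a) (hn : 1 ≤ n) :
    ¬ p ∣ psuTorus q n := by
  intro h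
  have hq1 : 1 ≤ q := hq ▸ Nat.one_le_pow _ _ hp.pos
  have h1 : p ∣ unitaryTorus q n := by
    rw [← altSum_mul hq1]
    exact (h.trans (Nat.div_dvd_of_dvd (dvd_altSum_of_dvd (Nat.gcd_dvd_left _ _) (Nat.gcd_dvd_right _ _)))).mul_right _
  have h2 : p ∣ q ^ n := dvd_pow (hq ▸ dvd_pow_self p (by omega)) (by omega)
  apply hp.not_dvd_one
  unfold unitaryTorus at h1
  split_ifs at h1
  · have h3 := Nat.dvd_sub h2 h1
    rwa [show q ^ n - (q ^ n - 1) = 1 by have := Nat.one_le_pow n q hq1; omega] at h3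
  · exact (Nat.dvd_add_right h2).1 h1

theorem scalar_eq_smul_one (c : F) : Matrix.scalar (Fin n) c = c • (1 : Matrix (Fin n) (Fin n) F) := by
  rw [Matrix.scalar_apply, Matrix.smul_one_eq_diagonal]

theorem exists_psu_torus (hF : Fintype.card F = q ^ 2) {p a : ℕ} [Fact p.Prime] [CharP F p]
    (hq : q = p ^ a) (hn : 1 ≤ n) : ∃ y : PSU n F q, psuTorus q n ∣ orderOf y := by
  classical
  have hq2 := two_le_q hF
  obtain ⟨M, hM, hord⟩ := exists_unitary_torus hF hq hn
  have hMd : M.det ^ (q + 1) = 1 := by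
    rw [pow_succ']
    exact det_unitary hF fun u v => preserves_of_transpose_mul hF hM u v
  have hM' : (M ^ (q + 1))ᵀ * (M ^ (q + 1)).map (qFrob hF) = 1 := by
    rw [Matrix.map_pow, Matrix.transpose_pow]
    have hc : Commute Mᵀ (M.map (qFrob hF)) := hM.trans (mul_eq_one_comm.1 hM).symm
    rw [← hc.mul_pow, hM, one_pow]
  let s : SU n F q := suMk hF (M ^ (q + 1)) (by rw [Matrix.det_pow, hMd]) hM'
  refine ⟨suToPSU n F q s, ?_⟩
  set j := orderOf (suToPSU n F q s)
  obtain ⟨c, hc⟩ := (suToPSU_pow_eq_one_iff hF s j).1 (pow_orderOf_eq_one _)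
  set g := Nat.gcd n (q + 1)
  have hcn : c ^ n = 1 := by
    have h := congrArg Matrix.det hc
    rw [suVal_suMk, Matrix.det_pow, Matrix.det_pow, hMd, one_pow, Matrix.scalar_apply, Matrix.det_diagonal,
      Finset.prod_const, Finset.card_univ, Fintype.card_fin] at h
    exact h.symm
  have hcq : c ^ (q + 1) = 1 := by
    have h2 := congrFun (congrFun (suVal_transpose_mul hF (s ^ j)) ⟨0, hn⟩) ⟨0, hn⟩
    rw [suVal_pow, hc, Matrix.scalar_apply, Matrix.diagonal_transpose, Matrix.diagonal_map (map_zero _),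
      Matrix.diagonal_mul_diagonal, Matrix.diagonal_apply_eq, Matrix.one_apply_eq, qFrob_apply, ← pow_succ'] at h2
    exact h2
  have h1 : M ^ ((q + 1) * j * g) = 1 := by
    rw [pow_mul, pow_mul]
    rw [suVal_suMk] at hc
    rw [hc, ← map_pow, pow_gcd_eq_one.2 ⟨hcn, hcq⟩, map_one]
  have h2 := orderOf_dvd_of_pow_eq_one h1
  rw [hord, ← altSum_mul (by omega : 1 ≤ q), mul_comm, mul_assoc] at h2
  have h3 : altSum q n ∣ j * g := Nat.dvd_of_mul_dvd_mul_left (by omega) h2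
  rw [psuTorus, Nat.div_dvd_iff_dvd_mul (dvd_altSum_of_dvd (Nat.gcd_dvd_left _ _) (Nat.gcd_dvd_right _ _))
    (Nat.gcd_pos_of_pos_left _ hn), mul_comm]
  exact h3

omit [Fintype F] in
theorem uniRing_orderOf_root (p : ℕ) [Fact p.Prime] [CharP F p] {m : ℕ} (hm : 1 ≤ m) :
    orderOf (AdjoinRoot.root ((X - 1 : F[X]) ^ m)) = p ^ Nat.clog p m := by
  have hp1 : 1 < p := (Fact.out : p.Prime).one_lt
  haveI : Nontrivial (UniRing F m) := AdjoinRoot.nontrivial _ (by
    rw [degree_eq_natDegree (pow_ne_zero _ (by simpa using X_sub_C_ne_zero (1 : F)))]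
    simp [show (X - 1 : F[X]) = X - C 1 by simp]
    omega)
  haveI : CharP (UniRing F m) p := charP_of_injective_algebraMap (algebraMap F (UniRing F m)).injective p
  have hiff : ∀ i, (AdjoinRoot.root ((X - 1 : F[X]) ^ m)) ^ p ^ i = 1 ↔ m ≤ p ^ i := fun i => by
    rw [← uniRing_pow_eq_zero_iff (F := F), sub_pow_char_pow, one_pow, sub_eq_zero]
  obtain ⟨i, hi, hi'⟩ := (Nat.dvd_prime_pow Fact.out).1
    (orderOf_dvd_of_pow_eq_one ((hiff _).2 (Nat.le_pow_clog hp1 m)))
  rw [hi']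
  congr 1
  exact le_antisymm hi (Nat.clog_le_of_le_pow ((hiff i).1 (hi' ▸ pow_orderOf_eq_one _)))

theorem det_mulLeft_root (p : ℕ) [Fact p.Prime] [CharP F p] {m : ℕ} (hm : 1 ≤ m) :
    LinearMap.det (LinearMap.mulLeft F (AdjoinRoot.root ((X - 1 : F[X]) ^ m))) = 1 := by
  have h := congrArg LinearMap.det (congrArg (Algebra.lmul F (UniRing F m))
    (uniRing_orderOf_root (F := F) p hm ▸ pow_orderOf_eq_one (AdjoinRoot.root ((X - 1 : F[X]) ^ m))))
  rw [map_pow, map_pow, map_one, map_one] at h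
  exact iterateFrobenius_inj F p (Nat.clog p m) (by rw [iterateFrobenius_def, map_one]; exact h)

theorem exists_psu_unipotent (hF : Fintype.card F = q ^ 2) (p : ℕ) [Fact p.Prime] [CharP F p] (hn : 1 ≤ n) :
    ∃ y : PSU n F q, p ^ Nat.clog p n ∣ orderOf y := by
  classical
  obtain ⟨B, hS, hB, hinv⟩ := exists_uniRing_form hF p hn
  haveI : FiniteDimensional F (UniRing F n) :=
    (AdjoinRoot.powerBasis (pow_ne_zero n (by simpa using X_sub_C_ne_zero (1 : F)) : (X - 1 : F[X]) ^ n ≠ 0)).finite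
  obtain ⟨Φ, hΦd, hΦ⟩ := exists_unitary_coords hF (uniRing_finrank hn) B hS hB
  set r := AdjoinRoot.root ((X - 1 : F[X]) ^ n)
  let s : SU n F q := suMk hF (Φ (LinearMap.mulLeft F r)) (by rw [hΦd, det_mulLeft_root p hn]) (hΦ _ hinv)
  refine ⟨suToPSU n F q s, ?_⟩
  set j := orderOf (suToPSU n F q s)
  obtain ⟨c, hc⟩ := (suToPSU_pow_eq_one_iff hF s j).1 (pow_orderOf_eq_one _)
  rw [suVal_suMk, scalar_eq_smul_one, ← map_pow, ← map_one Φ, ← map_smul] at hc
  have h1 := LinearMap.congr_fun (Φ.injective hc) 1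
  rw [LinearMap.pow_mulLeft] at h1
  simp only [LinearMap.mulLeft_apply, mul_one, LinearMap.smul_apply, Module.End.one_apply] at h1
  have hord : orderOf r = p ^ Nat.clog p n := uniRing_orderOf_root p hn
  have hc1 : c = 1 := by
    haveI : Nontrivial (UniRing F n) := AdjoinRoot.nontrivial _ (by
      rw [degree_eq_natDegree (pow_ne_zero _ (by simpa using X_sub_C_ne_zero (1 : F)))]
      simp [show (X - 1 : F[X]) = X - C 1 by simp]
      omega)
    have h2 : (c • (1 : UniRing F n)) ^ orderOf r = 1 := by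
      rw [← h1, ← pow_mul, mul_comm, pow_mul, pow_orderOf_eq_one, one_pow]
    rw [_root_.smul_pow, one_pow, hord, ← Algebra.algebraMap_eq_smul_one] at h2
    have h3 : c ^ p ^ Nat.clog p n = 1 := (algebraMap F (UniRing F n)).injective (h2.trans (map_one _).symm)
    exact iterateFrobenius_inj F p (Nat.clog p n) (by simpa [iterateFrobenius_def] using h3)
  rw [hc1, one_smul] at h1
  exact hord ▸ orderOf_dvd_of_pow_eq_one h1

theorem exists_norm_one_order (hF : Fintype.card F = q ^ 2) {r : ℕ} (hr : r.Prime) (hrq : r ∣ q + 1) :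
    ∃ z : F, orderOf z = r := by
  classical
  haveI := Fact.mk hr
  obtain ⟨z, hz⟩ := exists_prime_orderOf_dvd_card (G := Fˣ) r (by
    rw [Fintype.card_units, hF]
    refine hrq.trans ⟨q - 1, ?_⟩
    obtain ⟨k, rfl⟩ : ∃ k, q = k + 1 := ⟨q - 1, by have := two_le_q hF; omega⟩
    rw [Nat.add_sub_cancel, show (k + 1) ^ 2 = (k + 1 + 1) * k + 1 by ring, Nat.add_sub_cancel])
  exact ⟨z, by rw [orderOf_units, hz]⟩

theorem exists_psu_unipotent_root (hF : Fintype.card F = q ^ 2) {p a : ℕ} [Fact p.Prime] [CharP F p]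
    (ha : 1 ≤ a) (hq : q = p ^ a) {r : ℕ} (hr : r.Prime) (hrq : r ∣ q + 1) (hrn : ¬ r ∣ n) (hn : 2 ≤ n) :
    ∃ y : PSU n F q, p ^ Nat.clog p (n - 1) * r ∣ orderOf y := by
  classical
  obtain ⟨z, hz⟩ := exists_norm_one_order hF hr hrq
  have hz0 : z ≠ 0 := by rintro rfl; rw [orderOf_zero] at hz; exact hr.ne_zero hz.symm
  have hzq : z ^ (q + 1) = 1 := orderOf_dvd_iff_pow_eq_one.1 (hz ▸ hrq)
  set m := n - 1
  have hm : 1 ≤ m := by omega
  obtain ⟨B, hS, hB, hinv⟩ := exists_uniRing_form hF p hm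
  haveI : FiniteDimensional F (UniRing F m) :=
    (AdjoinRoot.powerBasis (pow_ne_zero m (by simpa using X_sub_C_ne_zero (1 : F)) : (X - 1 : F[X]) ^ m ≠ 0)).finite
  let B' : (UniRing F m × F) →ₛₗ[qFrob hF] (UniRing F m × F) →ₗ[F] F :=
    LinearMap.mk₂'ₛₗ (qFrob hF) (RingHom.id F) (fun x y => B x.1 y.1 + qFrob hF x.2 * y.2)
      (fun x x' y => by simp only [Prod.fst_add, Prod.snd_add, map_add, LinearMap.add_apply]; ring)
      (fun c x y => by
        simp only [Prod.smul_fst, Prod.smul_snd, LinearMap.map_smulₛₗ, LinearMap.smul_apply, smul_eq_mul, map_mul]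
        ring)
      (fun x y y' => by simp only [Prod.fst_add, Prod.snd_add, map_add]; ring)
      (fun c x y => by
        simp only [Prod.smul_fst, Prod.smul_snd, map_smul, smul_eq_mul, RingHom.id_apply]
        ring)
  have hB'a : ∀ x y, B' x y = B x.1 y.1 + qFrob hF x.2 * y.2 := fun x y => rfl
  have hS' : ∀ x y, qFrob hF (B' x y) = B' y x := fun x y => by
    rw [hB'a, hB'a, map_add, map_mul, qFrob_qFrob, hS, mul_comm]
  have hB' : ∀ x, (∀ y, B' x y = 0) → x = 0 := fun x hx => by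
    have h1 : x.1 = 0 := hB _ fun y => by have := hx (y, 0); simpa [hB'a] using this
    have h2 : x.2 = 0 := by
      have := hx (0, 1)
      simpa [hB'a] using this
    exact Prod.ext h1 h2
  obtain ⟨Φ, hΦd, hΦ⟩ := exists_unitary_coords hF (show Module.finrank F (UniRing F m × F) = n by
    rw [Module.finrank_prod, uniRing_finrank hm, Module.finrank_self]; omega) B' hS' hB'
  set ρ := AdjoinRoot.root ((X - 1 : F[X]) ^ m)
  set w := (z⁻¹) ^ m
  have hwq : w ^ (q + 1) = 1 := by rw [← pow_mul, mul_comm, pow_mul, inv_pow, hzq, inv_one, one_pow]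
  let G : Module.End F (UniRing F m × F) :=
    (z • LinearMap.mulLeft F ρ).prodMap (w • (LinearMap.id : F →ₗ[F] F))
  have hGd : LinearMap.det G = 1 := by
    rw [LinearMap.det_prodMap, LinearMap.det_smul, LinearMap.det_smul, det_mulLeft_root p hm, LinearMap.det_id,
      uniRing_finrank hm, Module.finrank_self, mul_one, mul_one, pow_one, ← mul_pow, mul_inv_cancel₀ hz0, one_pow]
  have hGB : ∀ x y, B' (G x) (G y) = B' x y := fun x y => by
    simp only [hB'a, G, LinearMap.prodMap_apply, LinearMap.smul_apply, LinearMap.mulLeft_apply, LinearMap.id_apply,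
      LinearMap.map_smulₛₗ, smul_eq_mul, RingHom.id_apply, map_smul, map_mul, qFrob_apply, hinv]
    linear_combination (B x.1 y.1) * hzq + (x.2 ^ q * y.2) * hwq
  let s : SU n F q := suMk hF (Φ G) (by rw [hΦd, hGd]) (hΦ G hGB)
  refine ⟨suToPSU n F q s, ?_⟩
  set j := orderOf (suToPSU n F q s)
  obtain ⟨c, hc⟩ := (suToPSU_pow_eq_one_iff hF s j).1 (pow_orderOf_eq_one _)
  rw [suVal_suMk, scalar_eq_smul_one, ← map_pow, ← map_one Φ, ← map_smul] at hc
  have hG := Φ.injective hc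
  have hpow : ∀ i, (G ^ i) (1, 1) = (z ^ i • ρ ^ i, w ^ i) := by
    intro i
    induction i with
    | zero => simp
    | succ i ih =>
      rw [pow_succ', Module.End.mul_apply, ih]
      simp [G, pow_succ', smul_smul, mul_smul_comm]
      rw [mul_comm (z ^ i)]
  have h1 := (hpow j).symm.trans (LinearMap.congr_fun hG (1, 1))
  simp only [LinearMap.smul_apply, Module.End.one_apply, Prod.smul_mk, Prod.mk.injEq, smul_eq_mul, mul_one] at h1
  obtain ⟨h1a, h1b⟩ := h1
  have hord : orderOf ρ = p ^ Nat.clog p m := uniRing_orderOf_root p hm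
  have hzj : z ^ j ≠ 0 := pow_ne_zero _ hz0
  have hρj : ρ ^ j = ((z ^ j)⁻¹ * c) • (1 : UniRing F m) := by
    rw [mul_smul, ← h1a, smul_smul, inv_mul_cancel₀ hzj, one_smul]
  have hczj : c = z ^ j := by
    haveI : Nontrivial (UniRing F m) := AdjoinRoot.nontrivial _ (by
      rw [degree_eq_natDegree (pow_ne_zero _ (by simpa using X_sub_C_ne_zero (1 : F)))]
      simp [show (X - 1 : F[X]) = X - C 1 by simp]
      omega)
    have h2 : (((z ^ j)⁻¹ * c) • (1 : UniRing F m)) ^ orderOf ρ = 1 := by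
      rw [← hρj, ← pow_mul, mul_comm, pow_mul, pow_orderOf_eq_one, one_pow]
    rw [_root_.smul_pow, one_pow, hord, ← Algebra.algebraMap_eq_smul_one] at h2
    have h3 := (algebraMap F (UniRing F m)).injective (h2.trans (map_one _).symm)
    have h4 : (z ^ j)⁻¹ * c = 1 :=
      iterateFrobenius_inj F p (Nat.clog p m) (by simpa [iterateFrobenius_def] using h3)
    rw [inv_mul_eq_one₀ hzj] at h4
    exact h4.symm
  rw [hczj, inv_mul_cancel₀ hzj, one_smul] at hρj
  have hPj : p ^ Nat.clog p m ∣ j := hord ▸ orderOf_dvd_of_pow_eq_one hρj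
  have hzn : z ^ (n * j) = 1 := by
    have h5 : w ^ j = z ^ j := h1b.trans hczj
    rw [← pow_mul, inv_pow] at h5
    rw [show n * j = m * j + j by rw [show n = m + 1 by omega]; ring, pow_add, ← h5,
      mul_inv_cancel₀ (pow_ne_zero _ hz0)]
  have hrj : r ∣ j := (hr.dvd_mul.1 (hz ▸ orderOf_dvd_of_pow_eq_one hzn)).resolve_left hrn
  refine Nat.Coprime.mul_dvd_of_dvd_of_dvd ?_ hPj hrj
  refine Nat.Coprime.pow_left _ ((Nat.coprime_primes Fact.out hr).2 ?_)
  rintro rfl
  exact (Fact.out : p.Prime).not_dvd_one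
    ((Nat.dvd_add_right (hq ▸ dvd_pow_self p (by omega : a ≠ 0))).1 hrq)

end Cfsg.Agent.Classical
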