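import Cfsg.Agent.Lib.Classical.OrthGenApps

/-!
Transitivity of `Ω(Q)` on subspaces in every dimension, parity of maximal singular subspaces, and the
involutions negating hyperbolic pairs.
-/

set_option autoImplicit false
set_option linter.unusedSectionVars false
set_option quotPrecheck false

namespace Cfsg.Agent.Classical.OrthAut

open Matrix Module

variable {F : Type*} [Field F] [Fintype F] {ι : Type} [Fintype ι] [DecidableEq ι]
  {Q : QuadraticForm F (ι → F)}

local notation "B" => QuadraticMap.polar ⇑Q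
local notation "OG" => isometryGroup F ⇑Q

variable (hQ : (QuadraticMap.polarBilin Q).Nondegenerate) (hG : GenQ F ι)
include hQ hG

theorem pSign_image_gen {U W : Submodule F (ι → F)} (hU : Half Q U) (hW : Half Q W) (h : OG) :
    pSign U (imageSubmodule (ogVal h) W) = dick h * pSign U W := by
  have hh : h ∈ reflGroup Q := by rw [reflGroup_eq_top_gen hQ hG]; trivial
  refine Subgroup.closure_induction
    (p := fun h _ => ∀ W, Half Q W → pSign U (imageSubmodule (ogVal h) W) = dick h * pSign U W)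
    ?_ ?_ ?_ ?_ hh W hW
  · rintro _ ⟨v, hv, rfl⟩ W hW
    rw [dick_refl hQ hv, neg_one_mul, pSign, pSign]
    rcases finrank_inf_refl hQ hU hW hv with ⟨-, e⟩ | e
    · rw [e, ← add_assoc, pow_succ, mul_neg_one]
    · rw [← e, ← add_assoc, pow_succ, mul_neg_one, neg_neg]
  · intro W _; rw [ogVal_one, imageSubmodule_one, dick_one, one_mul]
  · intro a b _ _ ha hb W hW
    rw [ogVal_mul, imageSubmodule_mul, ha _ (half_image_og b hW), hb W hW, dick_mul_gen hQ hG, mul_assoc]
  · intro a _ ha W hW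
    have h1 := ha _ (half_image_og a⁻¹ hW)
    rw [← imageSubmodule_mul, ← ogVal_mul, mul_inv_cancel, ogVal_one, imageSubmodule_one] at h1
    rw [show dick a⁻¹ = dick a from ((dickGen hQ hG).map_inv a).trans (Int.units_inv_eq_self _), h1,
      ← mul_assoc, Int.units_mul_self, one_mul]

/-- An isometry fixing a maximal singular subspace is proper. -/
theorem dick_of_fixes_half {U : Submodule F (ι → F)} (hU : Half Q U) {g : OG}
    (h : imageSubmodule (ogVal g) U = U) : dick g = 1 := by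
  have h1 := pSign_image_gen hQ hG hU hU g
  rw [h, pSign_self, mul_one] at h1
  exact h1.symm

omit hG in
/-- `r_{e+f} r_{e+εf}` for a singular pair: stabilises singular subspaces through `e` and has spinor
class `ε`. -/
theorem exists_torus_elt {e f : ι → F} (P : Pair Q e f) {ε : F} (hε : ε ≠ 0) :
    ∃ g : OG, (∀ x, ogVal g *ᵥ x = x + ((ε - 1) * B f x) • e + ((ε⁻¹ - 1) * B e x) • f) ∧
      dick g = 1 ∧ spin g = sqSign ε ∧ ∀ (hG : GenQ F ι), invHom hQ hG g = (1, sqSign ε) := by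
  have hQt : ∀ t : F, Q (e + t • f) = t := fun t => by
    rw [quad_add_smul, P.1, P.2.1, P.2.2]; ring
  have hv : Q (e + (1 : F) • f) ≠ 0 := by rw [hQt]; exact one_ne_zero
  have hw : Q (e + ε • f) ≠ 0 := by rw [hQt]; exact hε
  refine ⟨refl hv * refl hw, fun x => ?_, ?_, ?_, fun hG => ?_⟩
  · rw [ogVal_mul, ← Matrix.mulVec_mulVec, refl_apply, refl_apply, hQt, hQt]
    simp only [QuadraticMap.polar_add_left, QuadraticMap.polar_smul_left, QuadraticMap.polar_add_right,
      QuadraticMap.polar_sub_right, QuadraticMap.polar_smul_right, smul_eq_mul, polar_self' P.1,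
      polar_self' P.2.1, P.2.2, QuadraticMap.polar_comm _ f e]
    match_scalars <;> field_simp <;> ring
  · rcases finrank_fixSub_refl_mul hQ (refl hw) hv with ⟨-, h⟩ | h <;>
    · rw [dick_refl_mul hQ _ hv, dick_refl hQ hw]; rfl
  · rw [spin_mul hQ, spin_refl hQ, spin_refl hQ, hQt, hQt, sqSign_of_isSquare IsSquare.one, one_mul]
  · rw [map_mul, invHom_refl, invHom_refl, hQt, hQt, sqSign_of_isSquare IsSquare.one, Prod.mk_mul_mk,
      one_mul]
    rfl

/-- Correct a Witt map by an element of the stabiliser. -/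
theorem exists_omega_of_stab {U W : Submodule F (ι → F)} {g₀ h : OG}
    (h0 : U.map (Matrix.mulVecLin (ogVal g₀)) = W) (h1 : W.map (Matrix.mulVecLin (ogVal h)) = W)
    (he : invHom hQ hG h = invHom hQ hG g₀) :
    ∃ g : OG, g ∈ Omega F ⇑Q ∧ U.map (Matrix.mulVecLin (ogVal g)) = W := by
  refine ⟨h * g₀, ?_, by rw [ogVal_mul, Matrix.mulVecLin_mul, Submodule.map_comp, h0, h1]⟩
  rw [omega_eq_ker hQ hG, MonoidHom.mem_ker, map_mul, he]
  exact Prod.ext (Int.units_mul_self _) (Int.units_mul_self _)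

omit hQ hG [Fintype F] in
theorem map_eq_of_mem {W : Submodule F (ι → F)} (h : OG) (hm : ∀ w ∈ W, ogVal h *ᵥ w ∈ W) :
    W.map (Matrix.mulVecLin (ogVal h)) = W := by
  refine Submodule.eq_of_le_of_finrank_le (Submodule.map_le_iff_le_comap.2 hm) (le_of_eq ?_)
  refine (Submodule.equivMapOfInjective _ (fun x y hxy => ?_) W).finrank_eq
  have := congrArg (ogVal h⁻¹ *ᵥ ·) hxy
  exact (ogVal_inv_cancel h x).symm.trans (this.trans (ogVal_inv_cancel h y))

omit hQ hG [Fintype F] in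
theorem refl_stab {W : Submodule F (ι → F)} {v : ι → F} (hv : Q v ≠ 0)
    (h : v ∈ W ∨ ∀ w ∈ W, B v w = 0) : W.map (Matrix.mulVecLin (ogVal (refl hv))) = W := by
  refine map_eq_of_mem _ fun w hw => ?_
  rw [refl_apply]
  rcases h with h | h
  · exact sub_mem hw (W.smul_mem _ h)
  · rw [h w hw, mul_zero, zero_smul, sub_zero]; exact hw

omit hG in
theorem exists_witt_subspace {U W : Submodule F (ι → F)} (e : U ≃ₗ[F] W)
    (he : ∀ u : U, Q (e u : ι → F) = Q (u : ι → F)) :
    ∃ g : OG, U.map (Matrix.mulVecLin (ogVal g)) = W := by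
  obtain ⟨M, hMd, hM, hMu⟩ := exists_isometry_map hQ U.subtype (W.subtype ∘ₗ e.toLinearMap)
    Subtype.val_injective (Subtype.val_injective.comp e.injective) he
  refine ⟨mkIsometry M hMd hM, le_antisymm (Submodule.map_le_iff_le_comap.2 fun u hu => ?_) fun w hw => ?_⟩
  · show M *ᵥ u ∈ W
    rw [show M *ᵥ u = _ from hMu ⟨u, hu⟩]
    exact (e ⟨u, hu⟩).2
  · refine ⟨(e.symm ⟨w, hw⟩ : U), (e.symm ⟨w, hw⟩).2, ?_⟩
    show M *ᵥ _ = w
    rw [show M *ᵥ ((e.symm ⟨w, hw⟩ : U) : ι → F) = _ from hMu _]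
    simp

omit hG in
theorem nondeg_of_inf {W : Submodule F (ι → F)}
    (hW : W ⊓ LinearMap.BilinForm.orthogonal (QuadraticMap.polarBilin Q) W = ⊥) :
    (∀ w ∈ W, w ≠ 0 → ∃ u ∈ W, B w u ≠ 0) ∧
      ∀ w ∈ LinearMap.BilinForm.orthogonal (QuadraticMap.polarBilin Q) W, w ≠ 0 →
        ∃ u ∈ LinearMap.BilinForm.orthogonal (QuadraticMap.polarBilin Q) W, B w u ≠ 0 := by
  have hrefl : (QuadraticMap.polarBilin Q).IsRefl := fun x y h => by
    rw [QuadraticMap.polarBilin_apply_apply, QuadraticMap.polar_comm]; exact h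
  refine ⟨fun w hw hw0 => ?_, fun w hw hw0 => ?_⟩
  · by_contra hc
    push Not at hc
    exact hw0 ((Submodule.eq_bot_iff _).1 hW w ⟨hw, fun u hu => by
      show B u w = 0; rw [QuadraticMap.polar_comm]; exact hc u hu⟩)
  · by_contra hc
    push Not at hc
    have : w ∈ W := by
      rw [← LinearMap.BilinForm.orthogonal_orthogonal hQ hrefl W]
      exact fun u hu => by show B u w = 0; rw [QuadraticMap.polar_comm]; exact hc u hu
    exact hw0 ((Submodule.eq_bot_iff _).1 hW w ⟨this, hw⟩)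

/-- `Ω` is transitive on non-degenerate subspaces of each isometry type. -/
theorem omega_trans_nondeg (hn : 3 ≤ Fintype.card ι) {U W : Submodule F (ι → F)}
    (hW : W ⊓ LinearMap.BilinForm.orthogonal (QuadraticMap.polarBilin Q) W = ⊥)
    (e : U ≃ₗ[F] W) (he : ∀ u : U, Q (e u : ι → F) = Q (u : ι → F)) :
    ∃ g : OG, g ∈ Omega F ⇑Q ∧ U.map (Matrix.mulVecLin (ogVal g)) = W := by
  obtain ⟨g₀, hg₀⟩ := exists_witt_subspace hQ e he
  set W' := LinearMap.BilinForm.orthogonal (QuadraticMap.polarBilin Q) W with hW'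
  obtain ⟨hnd, hnd'⟩ := nondeg_of_inf hQ hW
  obtain ⟨S, hS, hSn, hSd⟩ : ∃ S : Submodule F (ι → F),
      (∀ v ∈ S, v ∈ W ∨ ∀ w ∈ W, B v w = 0) ∧ (∀ w ∈ S, w ≠ 0 → ∃ u ∈ S, B w u ≠ 0) ∧ 2 ≤ finrank F S := by
    by_cases hd : 2 ≤ finrank F W
    · exact ⟨W, fun v hv => Or.inl hv, hnd, hd⟩
    · refine ⟨W', fun v hv => Or.inr fun w hw => ?_, hnd', ?_⟩
      · rw [QuadraticMap.polar_comm]; exact hv w hw
      · rw [hW', LinearMap.BilinForm.finrank_orthogonal hQ, Module.finrank_pi]; omega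
  suffices h : ∀ p : ℤˣ × ℤˣ, (p.2 = -1 → (2 : F) ≠ 0) →
      ∃ h : OG, W.map (Matrix.mulVecLin (ogVal h)) = W ∧ invHom hQ hG h = p by
    obtain ⟨h, h1, h2⟩ := h (invHom hQ hG g₀) fun hp h2 => by
      rw [invHom_apply, spin_two hQ h2] at hp; exact absurd hp (show ¬ ((1 : ℤˣ) = -1) by decide)
    exact exists_omega_of_stab hQ hG hg₀ h1 h2
  rintro ⟨s, t⟩ hp
  have hone : W.map (Matrix.mulVecLin (ogVal (1 : OG))) = W := map_eq_of_mem _ fun w hw => by
    rw [ogVal_one, Matrix.one_mulVec]; exact hw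
  have hmul : ∀ {a b : OG}, W.map (Matrix.mulVecLin (ogVal a)) = W → W.map (Matrix.mulVecLin (ogVal b)) = W →
      W.map (Matrix.mulVecLin (ogVal (a * b))) = W := fun ha hb => by
    rw [ogVal_mul, Matrix.mulVecLin_mul, Submodule.map_comp, hb, ha]
  have sq : ∃ h : OG, W.map (Matrix.mulVecLin (ogVal h)) = W ∧ invHom hQ hG h = (-1, 1) := by
    by_cases h2 : (2 : F) = 0
    · obtain ⟨v, hv, hv0⟩ : ∃ v ∈ S, Q v ≠ 0 := by
        by_contra hc
        push Not at hc
        obtain ⟨w, hw, hw0⟩ := Submodule.exists_mem_ne_zero_of_ne_bot (p := S) fun e => by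
          rw [e, finrank_bot] at hSd; omega
        obtain ⟨u, hu, hwu⟩ := hSn w hw hw0
        exact hwu (by rw [QuadraticMap.polar, hc _ (add_mem hw hu), hc _ hw, hc _ hu]; simp)
      refine ⟨_, refl_stab hv0 (hS v hv), ?_⟩
      rw [invHom_refl, ← spin_refl hQ hv0, spin_two hQ h2]
    · obtain ⟨v, hv, hv1⟩ := exists_value_in hQ h2 hSn hSd 1
      have hv0 : Q v ≠ 0 := by rw [hv1]; exact one_ne_zero
      exact ⟨_, refl_stab hv0 (hS v hv), by rw [invHom_refl, hv1, sqSign_of_isSquare IsSquare.one]⟩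
  obtain ⟨a, ha, ha'⟩ := sq
  rcases Int.units_eq_one_or t with rfl | rfl
  · rcases Int.units_eq_one_or s with rfl | rfl
    · exact ⟨1, hone, map_one _⟩
    · exact ⟨a, ha, ha'⟩
  · have h2 : (2 : F) ≠ 0 := hp rfl
    obtain ⟨ε, hε⟩ := FiniteField.exists_nonsquare (F := F)
      (fun hc => h2 (by haveI := ringChar.of_eq hc; exact CharTwo.two_eq_zero))
    obtain ⟨v, hv, hv1⟩ := exists_value_in hQ h2 hSn hSd ε
    have hv0 : Q v ≠ 0 := by rw [hv1]; exact fun h0 => hε (h0 ▸ IsSquare.zero)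
    have hb : invHom hQ hG (refl hv0) = (-1, -1) := by rw [invHom_refl, hv1, sqSign_of_not hε]
    rcases Int.units_eq_one_or s with rfl | rfl
    · exact ⟨a * refl hv0, hmul ha (refl_stab hv0 (hS v hv)), by rw [map_mul, ha', hb]; rfl⟩
    · exact ⟨_, refl_stab hv0 (hS v hv), hb⟩

omit hG in
theorem polar_zero_of_ts {W : Submodule F (ι → F)} (hW : ∀ w ∈ W, Q w = 0) {x y : ι → F} (hx : x ∈ W)
    (hy : y ∈ W) : B x y = 0 := by
  rw [QuadraticMap.polar, hW _ (add_mem hx hy), hW x hx, hW y hy]; simp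

/-- Every value of the spinor norm is taken on the proper stabiliser of a singular subspace. -/
theorem exists_stab_spin {W : Submodule F (ι → F)} (hW : ∀ w ∈ W, Q w = 0) (hne : W ≠ ⊥) (t : ℤˣ)
    (ht : t = -1 → (2 : F) ≠ 0) :
    ∃ h : OG, W.map (Matrix.mulVecLin (ogVal h)) = W ∧ invHom hQ hG h = (1, t) := by
  rcases Int.units_eq_one_or t with rfl | rfl
  · exact ⟨1, map_eq_of_mem _ fun w hw => by rw [ogVal_one, Matrix.one_mulVec]; exact hw, map_one _⟩
  have h2 := ht rfl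
  obtain ⟨ε, hε⟩ := FiniteField.exists_nonsquare (F := F)
    (fun hc => h2 (by haveI := ringChar.of_eq hc; exact CharTwo.two_eq_zero))
  obtain ⟨e, he, he0⟩ := Submodule.exists_mem_ne_zero_of_ne_bot hne
  obtain ⟨f₀, hf₀⟩ := exists_polar1 hQ he0 1
  set f := f₀ + (-Q f₀) • e
  have P : Pair Q e f := ⟨hW e he, by rw [quad_add_smul, hW e he, QuadraticMap.polar_comm, hf₀]; ring,
    by rw [QuadraticMap.polar_add_right, hf₀, QuadraticMap.polar_smul_right, polar_self' (hW e he)]; simp⟩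
  obtain ⟨g, hg, -, -, hginv⟩ := exists_torus_elt hQ P (ε := ε) (fun h0 => hε (h0 ▸ IsSquare.zero))
  refine ⟨g, map_eq_of_mem _ fun w hw => ?_, by rw [hginv hG, sqSign_of_not hε]⟩
  rw [hg, polar_zero_of_ts hQ hW he hw, mul_zero, zero_smul, add_zero]
  exact add_mem hw (W.smul_mem _ he)

omit hG in
theorem exists_ts_equiv {U W : Submodule F (ι → F)} (hU : ∀ u ∈ U, Q u = 0) (hW : ∀ w ∈ W, Q w = 0)
    (h : finrank F U = finrank F W) : ∃ g : OG, U.map (Matrix.mulVecLin (ogVal g)) = W :=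
  exists_witt_subspace hQ (LinearEquiv.ofFinrankEq U W h) fun u => by
    rw [hU u u.2, hW _ (LinearEquiv.ofFinrankEq U W h u).2]

/-- `Ω` is transitive on singular subspaces below the maximal dimension. -/
theorem omega_trans_singular {k : ℕ} (hk : 2 * k < Fintype.card ι) {U W : Submodule F (ι → F)}
    (hU : finrank F U = k) (hW : finrank F W = k) (hU0 : ∀ u ∈ U, Q u = 0) (hW0 : ∀ w ∈ W, Q w = 0) :
    ∃ g : OG, g ∈ Omega F ⇑Q ∧ U.map (Matrix.mulVecLin (ogVal g)) = W := by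
  rcases Nat.eq_zero_or_pos k with rfl | hk0
  · refine ⟨1, one_mem _, ?_⟩
    rw [Submodule.finrank_eq_zero.1 hU, Submodule.finrank_eq_zero.1 hW, Submodule.map_bot]
  obtain ⟨g₀, hg₀⟩ := exists_ts_equiv hQ hU0 hW0 (hU.trans hW.symm)
  have hne : W ≠ ⊥ := fun e => by rw [e, finrank_bot] at hW; omega
  have hrefl : (QuadraticMap.polarBilin Q).IsRefl := fun x y h => by
    rw [QuadraticMap.polarBilin_apply_apply, QuadraticMap.polar_comm]; exact h
  obtain ⟨v, hv, hv0⟩ : ∃ v, (∀ w ∈ W, B v w = 0) ∧ Q v ≠ 0 := by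
    by_contra hc
    push Not at hc
    set W' := LinearMap.BilinForm.orthogonal (QuadraticMap.polarBilin Q) W with hW'
    have hz : ∀ x ∈ W', Q x = 0 := fun x hx => hc x fun w hw => by
      rw [QuadraticMap.polar_comm]; exact hx w hw
    have hle : W' ≤ W := fun x hx => by
      rw [← LinearMap.BilinForm.orthogonal_orthogonal hQ hrefl W]
      exact fun u hu => polar_zero_of_ts hQ hz hu hx
    have := Submodule.finrank_mono hle
    rw [hW', LinearMap.BilinForm.finrank_orthogonal hQ, Module.finrank_pi] at this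
    omega
  have hr := refl_stab (W := W) hv0 (Or.inr hv)
  have main : ∀ p : ℤˣ × ℤˣ, (p.2 = -1 → (2 : F) ≠ 0) →
      ∃ h : OG, W.map (Matrix.mulVecLin (ogVal h)) = W ∧ invHom hQ hG h = p := by
    rintro ⟨s, t⟩ hp
    rcases Int.units_eq_one_or s with rfl | rfl
    · exact exists_stab_spin hQ hG hW0 hne t hp
    · obtain ⟨h, h1, h2⟩ := exists_stab_spin hQ hG hW0 hne (t * sqSign (Q v)) fun h0 h2 => by
        have hsq : sqSign (Q v) = 1 := by rw [← spin_refl hQ hv0, spin_two hQ h2]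
        rw [hsq, mul_one] at h0
        exact hp h0 h2
      refine ⟨h * refl hv0, by rw [ogVal_mul, Matrix.mulVecLin_mul, Submodule.map_comp, hr, h1], ?_⟩
      rw [map_mul, h2, invHom_refl, Prod.mk_mul_mk, one_mul, mul_assoc, Int.units_mul_self, mul_one]
  obtain ⟨h, h1, h2⟩ := main (invHom hQ hG g₀) fun hp h2 => by
    rw [invHom_apply, spin_two hQ h2] at hp; exact absurd hp (show ¬ ((1 : ℤˣ) = -1) by decide)
  exact exists_omega_of_stab hQ hG hg₀ h1 h2

/-- `Ω` is transitive on each class of maximal singular subspaces. -/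
theorem omega_trans_half {U W : Submodule F (ι → F)} (hU : Half Q U) (hW : Half Q W) (hne : W ≠ ⊥)
    (he : pSign W U = 1) : ∃ g : OG, g ∈ Omega F ⇑Q ∧ U.map (Matrix.mulVecLin (ogVal g)) = W := by
  obtain ⟨g₀, hg₀⟩ := exists_map_half hQ hW hU
  have hd : dick g₀ = 1 := by
    have h1 := pSign_image_gen hQ hG hW hU g₀
    rw [hg₀, pSign_self, he, mul_one] at h1
    exact h1.symm
  obtain ⟨h, h1, h2⟩ := exists_stab_spin hQ hG hW.1 hne (spin g₀) fun hp h2 => by
    rw [spin_two hQ h2] at hp; exact absurd hp (by decide)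
  refine exists_omega_of_stab hQ hG (g₀ := g₀) ?_ h1 (by rw [h2, invHom_apply, hd])
  rw [← hg₀]
  rfl

/-- In characteristic two `Ω` is transitive on non-singular points. -/
theorem omega_trans_point (h2 : (2 : F) = 0) {u v : ι → F} (hu : Q u ≠ 0) (hv : Q v ≠ 0) :
    ∃ g : OG, g ∈ Omega F ⇑Q ∧ (F ∙ ogVal g *ᵥ u) = F ∙ v := by
  haveI : CharP F 2 := CharTwo.of_one_ne_zero_of_two_eq_zero one_ne_zero h2
  obtain ⟨c, hc⟩ := FiniteField.isSquare_of_char_two (ringChar.eq F 2) (Q u / Q v)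
  have hc0 : c ≠ 0 := fun h0 => by
    rw [h0, mul_zero, div_eq_zero_iff] at hc; exact hc.elim hu hv
  have hcv : Q (c • v) = Q u := by rw [QuadraticMap.map_smul, smul_eq_mul, ← hc, div_mul_cancel₀ _ hv]
  have hu0 : u ≠ 0 := fun h => hu (by rw [h, QuadraticMap.map_zero])
  have hv1 : c • v ≠ 0 := fun h => hu (by rw [← hcv, h, QuadraticMap.map_zero])
  obtain ⟨M, hMd, hM, hMu⟩ := exists_isometry_map hQ (LinearMap.toSpanSingleton F (ι → F) u)
    (LinearMap.toSpanSingleton F (ι → F) (c • v)) (fun a b h => smul_left_injective F hu0 h)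
    (fun a b h => smul_left_injective F hv1 h)
    (fun t => by simp only [LinearMap.toSpanSingleton_apply, QuadraticMap.map_smul] at *; rw [hcv])
  set g₀ : OG := mkIsometry M hMd hM
  have hg : ogVal g₀ *ᵥ u = c • v := by show M *ᵥ u = _; simpa using hMu 1
  have hline : ∀ g : OG, ∀ d : F, d ≠ 0 → ogVal g *ᵥ u = d • v → (F ∙ ogVal g *ᵥ u) = F ∙ v :=
    fun g d hd h => by rw [h]; exact Submodule.span_singleton_smul_eq (Ne.isUnit hd) v
  rcases Int.units_eq_one_or (dick g₀) with hd | hd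
  · exact ⟨g₀, (mem_omega_gen hQ hG _).2 ⟨hd, spin_two hQ h2 _⟩, hline _ c hc0 hg⟩
  · refine ⟨refl hv * g₀, (mem_omega_gen hQ hG _).2 ⟨?_, spin_two hQ h2 _⟩, hline _ (-c) (neg_ne_zero.2 hc0) ?_⟩
    · rw [dick_refl_mul hQ _ hv, hd, neg_neg]
    · rw [ogVal_mul, ← Matrix.mulVec_mulVec, hg, refl_apply, QuadraticMap.polar_smul_right, polar_self2]
      match_scalars
      field_simp
      ring

omit hG in
/-- Negating a family of mutually orthogonal hyperbolic pairs. -/
theorem exists_negate {κ : Type} [DecidableEq κ] (e f : κ → ι → F) (P : ∀ j, Pair Q (e j) (f j))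
    (hp : ∀ i j, i ≠ j → Perp Q (e i) (f i) (e j) ∧ Perp Q (e i) (f i) (f j)) (h2 : (2 : F) ≠ 0)
    (s : Finset κ) : ∃ g : OG,
      (∀ x, ogVal g *ᵥ x = x - ∑ j ∈ s, ((2 * B (f j) x) • e j + (2 * B (e j) x) • f j)) ∧
      dick g = 1 ∧ spin g = sqSign ((-1 : F) ^ s.card) := by
  induction s using Finset.induction with
  | empty => exact ⟨1, fun x => by simp, dick_one, by
      rw [← spinHom_apply hQ, map_one, Finset.card_empty, pow_zero, sqSign_of_isSquare IsSquare.one]⟩
  | insert j s hj ih =>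
    obtain ⟨g, hg, hd, hsp⟩ := ih
    obtain ⟨r, hr, hrd, hrs, -⟩ := exists_torus_elt hQ (P j) (ε := -1) (neg_ne_zero.2 one_ne_zero)
    refine ⟨r * g, fun x => ?_, ?_, ?_⟩
    · have he : ∀ z, B (e j) (ogVal g *ᵥ z) = B (e j) z ∧ B (f j) (ogVal g *ᵥ z) = B (f j) z := fun z => by
        rw [hg]
        simp only [← QuadraticMap.polarBilin_apply_apply, map_sub, map_sum, map_add, map_smul]
        simp only [QuadraticMap.polarBilin_apply_apply]
        refine ⟨sub_eq_self.2 (Finset.sum_eq_zero fun i hi => ?_), sub_eq_self.2 (Finset.sum_eq_zero fun i hi => ?_)⟩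
        all_goals
          have hij : j ≠ i := fun h => hj (h ▸ hi)
          simp [(hp j i hij).1.1, (hp j i hij).1.2, (hp j i hij).2.1, (hp j i hij).2.2]
      rw [ogVal_mul, ← Matrix.mulVec_mulVec, hr, (he x).1, (he x).2, hg, Finset.sum_insert hj, inv_neg, inv_one]
      module
    · rw [dick_mul_gen hQ (genQ_odd hQ h2), hrd, hd, one_mul]
    · rw [spin_mul hQ, hrs, hsp, Finset.card_insert_of_notMem hj, pow_succ',
        sqSign_mul (neg_ne_zero.2 one_ne_zero) (pow_ne_zero _ (neg_ne_zero.2 one_ne_zero))]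

end Cfsg.Agent.Classical.OrthAut
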