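import Cfsg.Agent.Lib.Classical.OrthEvenReps
import Cfsg.Agent.Lib.Classical.OrthGenTrans

/-!
Involution classes of `Ω±(2m, q)`, `q` even.
-/

set_option autoImplicit false
set_option quotPrecheck false
set_option linter.unusedSectionVars false

namespace Cfsg.Agent.Classical.SympEven

open Module Matrix Cfsg.Agent.Classical Cfsg.Agent.Classical.OrthAut

universe u

variable {F : Type u} [Field F] [Fintype F] [CharP F 2] {ι : Type} [Fintype ι] [DecidableEq ι]
  {Q : QuadraticForm F (ι → F)}

attribute [-simp] QuadraticMap.polarBilin_apply_apply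

local notation "OG" => isometryGroup F ⇑Q

/-- `Ω` is the kernel of the Dickson invariant, and that invariant is multiplicative. -/
def OmegaDick (Q : QuadraticForm F (ι → F)) : Prop :=
  (∀ g : isometryGroup F ⇑Q, g ∈ Omega F ⇑Q ↔ dick g = 1) ∧
    ∀ g h : isometryGroup F ⇑Q, dick (g * h) = dick g * dick h

variable (hQ : (QuadraticMap.polarBilin Q).Nondegenerate)
include hQ

theorem omegaDick_of_genQ (hG : GenQ F ι) : OmegaDick Q := by
  refine ⟨fun g => ?_, fun g h => dick_mul_gen hQ hG g h⟩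
  rw [mem_omega_gen hQ hG, spin_two hQ CharTwo.two_eq_zero]
  exact and_iff_left rfl

theorem omegaDick_of_refl (hR : reflGroup Q = ⊤) : OmegaDick Q := by
  classical
  have hmul : ∀ g h : OG, dick (g * h) = dick g * dick h := fun g h => by
    have hg : g ∈ reflGroup Q := by rw [hR]; trivial
    revert h
    refine Subgroup.closure_induction (p := fun g _ => ∀ h, dick (g * h) = dick g * dick h) ?_ ?_ ?_ ?_ hg
    · rintro _ ⟨v, hv, rfl⟩ h
      rw [dick_refl_mul hQ h hv, dick_refl hQ hv, neg_one_mul]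
    · intro h; rw [one_mul, dick_one, one_mul]
    · intro a b _ _ ha hb h
      rw [mul_assoc, ha, hb, ha, mul_assoc]
    · intro a _ ha h
      have h1 := ha (a⁻¹ * h)
      have h2 := ha a⁻¹
      rw [mul_inv_cancel_left] at h1
      rw [mul_inv_cancel, dick_one] at h2
      rw [h1, ← mul_assoc, mul_comm (dick a⁻¹), ← h2, one_mul]
  let D : OG →* ℤˣ := MonoidHom.mk' dick hmul
  refine ⟨fun g => ⟨fun hg => (Abelianization.commutator_subset_ker D) hg, fun hg => ?_⟩, hmul⟩
  haveI : (Omega F ⇑Q).Normal := inferInstance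
  set q := QuotientGroup.mk' (Omega F ⇑Q)
  have hcomm : ∀ x y : OG, q x * q y = q y * q x := fun x y => by
    rw [← map_mul, ← map_mul]
    refine (QuotientGroup.eq (s := Omega F ⇑Q)).2 ?_
    have := Subgroup.commutator_mem_commutator (Subgroup.mem_top y⁻¹) (Subgroup.mem_top x⁻¹)
    rw [commutatorElement_def] at this
    simpa [Omega, commutator_def, mul_assoc] using this
  have same : ∀ {v w : ι → F} (hv : Q v ≠ 0) (hw : Q w ≠ 0), q (refl hw) = q (refl hv) := by
    intro v w hv hw
    obtain ⟨c, hc⟩ := FiniteField.isSquare_of_char_two (ringChar.eq F 2) (Q v / Q w)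
    have hcw : Q (c • w) = Q v := by
      rw [QuadraticMap.map_smul, smul_eq_mul, ← hc, div_mul_cancel₀ _ hw]
    have hv0 : v ≠ 0 := fun h0 => hv (by rw [h0, QuadraticMap.map_zero])
    obtain ⟨M, hMd, hM, hMu⟩ := exists_isometry_map hQ (LinearMap.toSpanSingleton F (ι → F) v)
      (LinearMap.toSpanSingleton F (ι → F) (c • w)) (fun a b h => smul_left_injective F hv0 h)
      (fun a b h => smul_left_injective F
        (fun h0 => hv (by rw [← hcw, h0, QuadraticMap.map_zero])) h)
      (fun u => by simp only [LinearMap.toSpanSingleton_apply, QuadraticMap.map_smul] at *; rw [hcw])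
    set k : OG := mkIsometry M hMd hM
    have hkv : ogVal k *ᵥ v = c • w := by
      show M *ᵥ v = _
      simpa using hMu 1
    rw [← (refl_congr hw (show Q (ogVal k *ᵥ v) ≠ 0 by rw [ogVal_quad]; exact hv) hkv).symm,
      ← refl_conj k hv, map_mul, hcomm, map_mul, map_inv, ← mul_assoc, inv_mul_cancel, one_mul]
  obtain ⟨A, hA, hA2⟩ : ∃ A : OG ⧸ Omega F ⇑Q, (∀ {v : ι → F} (hv : Q v ≠ 0), q (refl hv) = A) ∧ A * A = 1 := by
    by_cases he : ∃ v, Q v ≠ 0
    · obtain ⟨w, hw⟩ := he
      exact ⟨q (refl hw), fun hv => same hw hv, by rw [← map_mul, refl_mul_self, map_one]⟩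
    · exact ⟨1, fun hv => absurd ⟨_, hv⟩ he, one_mul 1⟩
  have key : ∀ x ∈ reflGroup Q, q x = if dick x = -1 then A else 1 := by
    intro x hx
    induction hx using Subgroup.closure_induction with
    | mem x hx =>
      obtain ⟨v, hv, rfl⟩ := hx
      rw [dick_refl hQ hv, if_pos rfl, hA hv]
    | one => simp [dick_one]
    | mul a b _ _ ha hb =>
      rw [map_mul, ha, hb, hmul]
      rcases Int.units_eq_one_or (dick a) with e | e <;> rcases Int.units_eq_one_or (dick b) with e' | e' <;>
        simp [e, e', hA2]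
    | inv a _ ha =>
      rw [map_inv, ha, show dick a⁻¹ = dick a from (D.map_inv a).trans (Int.units_inv_eq_self _)]
      rcases Int.units_eq_one_or (dick a) with e | e
      · simp [e]
      · rw [if_pos e]; exact inv_eq_of_mul_eq_one_right hA2
  refine (QuotientGroup.eq_one_iff g).1 ?_
  show q g = 1
  rw [key g (by rw [hR]; trivial), hg, if_neg (by decide)]

/-- Reflections generate when there is no totally singular plane. -/
theorem reflGroup_top_of_noTS (hno : ∀ a b : ι → F, ¬ TS Q a b) : reflGroup Q = ⊤ := by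
  refine (Subgroup.eq_top_iff' _).2 fun g => ?_
  suffices h : ∀ (k : ℕ) (g : OG), Fintype.card ι - Module.finrank F (fixSub g) ≤ k → g ∈ reflGroup Q from
    h _ g le_rfl
  intro k
  induction k using Nat.strong_induction_on with
  | _ k ih =>
    intro g hk
    have hle : ∀ g' : OG, Module.finrank F (fixSub g') ≤ Fintype.card ι := fun g' =>
      (Submodule.finrank_le _).trans (Module.finrank_pi F).le
    by_cases hx : ∃ x, Q (ogVal g *ᵥ x - x) ≠ 0
    · obtain ⟨x, hx⟩ := hx
      have hgrow : Module.finrank F (fixSub (refl hx * g)) = Module.finrank F (fixSub g) + 1 := by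
        rcases finrank_fixSub_refl_mul hQ g hx with ⟨-, h⟩ | h
        · exact h
        · exfalso
          have hle' : fixSub g ≤ fixSub (refl hx * g) := fun z hz => by
            rw [mem_fixSub, ogVal_mul, ← Matrix.mulVec_mulVec, mem_fixSub.1 hz, refl_apply, ← moveLin_apply,
              polar_move_fix g x hz]
            simp
          have := Submodule.finrank_mono hle'
          omega
      have := hle (refl hx * g)
      have hmem : refl hx * g ∈ reflGroup Q := ih (k - 1) (by omega) _ (by omega)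
      rw [show g = refl hx * (refl hx * g) by rw [← mul_assoc, refl_mul_self, one_mul]]
      exact mul_mem (Subgroup.subset_closure ⟨_, hx, rfl⟩) hmem
    · push Not at hx
      by_cases h1 : g = 1
      · rw [h1]; exact one_mem _
      exfalso
      obtain ⟨x, hx0⟩ : ∃ x, moveLin g x ≠ 0 := by
        by_contra hcon
        push Not at hcon
        exact h1 (ogVal_ext (Matrix.ext_iff_mulVec.2 fun x => by
          rw [ogVal_one, Matrix.one_mulVec]; exact sub_eq_zero.1 (hcon x)))
      have hφ : ∀ z, Q (moveLin g z) = 0 := fun z => hx z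
      have hzφ : ∀ z, QuadraticMap.polarBilin Q z (moveLin g z) = 0 := fun z => by
        have h := ogVal_quad g z
        rw [show ogVal g *ᵥ z = z + moveLin g z by rw [moveLin_apply]; abel, quad_add', hφ] at h
        linear_combination h
      have hφφ : ∀ y z, QuadraticMap.polarBilin Q (moveLin g y) (moveLin g z) = 0 := fun y z => by
        have h := hφ (y + z)
        rw [map_add, quad_add', hφ, hφ] at h
        linear_combination h
      -- the moved space is totally singular of dimension at least two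
      obtain ⟨y, hy⟩ : ∃ y, QuadraticMap.polarBilin Q y (moveLin g x) ≠ 0 := by
        by_contra! hall
        exact hx0 (hQ.2 _ hall)
      refine hno (moveLin g x) (moveLin g y) ⟨hφ x, hφ y, hφφ x y, fun s t h0 => ?_⟩
      have e := congrArg (QuadraticMap.polarBilin Q y) h0
      simp only [map_add, map_smul, smul_eq_mul, hzφ, mul_zero, add_zero, map_zero] at e
      have hs : s = 0 := (mul_eq_zero.1 e).resolve_right hy
      refine ⟨hs, ?_⟩
      rw [hs, zero_smul, zero_add] at h0
      refine (smul_eq_zero.1 h0).resolve_right fun h3 => hy ?_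
      have h4 := hzφ (x + y)
      simp only [map_add, LinearMap.add_apply, hzφ, h3, map_zero] at h4
      linear_combination h4

theorem dick_involution {m : ℕ} (hι : Fintype.card ι = 2 * m) (t : OG) :
    dick t = 1 ↔ Even (finrank F (LinearMap.range (qmove t))) := by
  have h1 := LinearMap.finrank_range_add_finrank_ker (moveLin t)
  have h3 : LinearMap.range (moveLin t) = LinearMap.range (qmove t) := by
    refine congrArg LinearMap.range (LinearMap.ext fun v => ?_)
    rw [moveLin_apply, qmove_apply]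
    funext i
    simp only [Pi.sub_apply, Pi.add_apply, CharTwo.sub_eq_add]
  rw [h3, Module.finrank_fintype_fun_eq_card, hι] at h1
  rw [dick, show fixSub t = LinearMap.ker (moveLin t) from rfl, hι]
  rcases Nat.even_or_odd' (finrank F (LinearMap.range (qmove t))) with ⟨r, hr | hr⟩
  · rw [Even.neg_one_pow ⟨2 * m - r, by omega⟩]
    exact iff_of_true rfl ⟨r, by omega⟩
  · rw [Odd.neg_one_pow ⟨2 * m - r - 1, by omega⟩]
    exact iff_of_false (by decide) (by rw [hr]; exact Nat.not_even_two_mul_add_one r)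

variable {m : ℕ}

/-- An improper isometry commutes with `t` unless `t` is of alternating type and full rank. -/
theorem exists_improper (hι : Fintype.card ι = 2 * m) {t : OG} (ht : t ^ 2 = 1) (ht1 : t ≠ 1)
    (h : ¬ ((∀ v, QuadraticMap.polarBilin Q v (qmove t v) = 0) ∧ finrank F (LinearMap.range (qmove t)) = m)) :
    ∃ z : OG, dick z = -1 ∧ z * t = t * z := by
  have hN := qnil_of_sq hQ ht
  obtain ⟨v1, v2, -⟩ := valid_invariants hQ hι ht ht1
  obtain ⟨v, hfix, hv⟩ : ∃ v, qmove t v = 0 ∧ Q v ≠ 0 := by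
    by_cases hA : ∀ v, QuadraticMap.polarBilin Q v (qmove t v) = 0
    · have hlt : finrank F (LinearMap.range (qmove t)) < m := lt_of_le_of_ne v2 fun e => h ⟨hA, e⟩
      by_contra! hall
      let K := LinearMap.ker (qmove t)
      have hK : K ≤ LinearMap.BilinForm.orthogonal (QuadraticMap.polarBilin Q) K := by
        intro w hw
        rw [LinearMap.BilinForm.mem_orthogonal_iff]
        intro z hz
        show QuadraticMap.polar ⇑Q z w = 0
        rw [QuadraticMap.polar, hall _ (K.add_mem hz hw), hall _ hz, hall _ hw]; ring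
      have h1 := Submodule.finrank_mono hK
      rw [LinearMap.BilinForm.finrank_orthogonal hQ] at h1
      have h3 := (qmove t).finrank_range_add_finrank_ker
      rw [Module.finrank_fintype_fun_eq_card, hι] at h1 h3
      change finrank F K ≤ 2 * m - finrank F K at h1
      change _ + finrank F K = _ at h3
      omega
    · obtain ⟨u, hu⟩ := not_forall.1 hA
      exact ⟨qmove t u, hN.nil.sq u, by rw [hN.quad]; exact hu⟩
  have htv : ogVal t *ᵥ v = v := by
    rw [qmove_apply] at hfix
    exact funext fun i => CharTwo.add_eq_zero.1 (congrFun hfix i)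
  refine ⟨refl hv, dick_refl hQ hv, ?_⟩
  have hc := refl_conj t hv (by rw [htv]; exact hv)
  rw [mul_inv_eq_iff_eq_mul] at hc
  rw [hc]
  congr 1
  exact (refl_congr _ _ (c := 1) (by rw [htv, one_smul]))

/-- Alternating type of full rank: the centraliser is proper. -/
theorem centralizer_proper (hhalf : ∀ (U : Submodule F (ι → F)) (g : OG), Half Q U →
      imageSubmodule (ogVal g) U = U → dick g = 1) (hι : Fintype.card ι = 2 * m) {t : OG} (ht : t ^ 2 = 1)
    (hA : ∀ v, QuadraticMap.polarBilin Q v (qmove t v) = 0) (hr : finrank F (LinearMap.range (qmove t)) = m)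
    {z : OG} (hz : z * t = t * z) : dick z = 1 := by
  have hN := qnil_of_sq hQ ht
  refine hhalf (LinearMap.range (qmove t)) z ⟨?_, by rw [hr, hι]⟩ ?_
  · rintro _ ⟨x, rfl⟩; rw [hN.quad, hA]
  have hi : ∀ v, ogVal z *ᵥ qmove t v = qmove t (ogVal z *ᵥ v) := (qintertwine_iff t t z).2 hz
  ext x
  rw [mem_imageSubmodule]
  constructor
  · rintro ⟨_, ⟨v, rfl⟩, rfl⟩
    exact ⟨_, (hi v).symm⟩
  · rintro ⟨v, rfl⟩
    exact ⟨qmove t (ogVal z⁻¹ *ᵥ v), LinearMap.mem_range_self _ _, by rw [hi, ogVal_cancel_inv]⟩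

/-- Classes of involutions of `Ω`. -/
theorem omega_card_classes (hD : OmegaDick Q) (hhalf : ∀ (U : Submodule F (ι → F)) (g : OG), Half Q U →
      imageSubmodule (ogVal g) U = U → dick g = 1) (hι : Fintype.card ι = 2 * m) (hm : 1 ≤ m)
    {J : Type} [Fintype J] (f : J → OG) (rk : J → ℕ) (al : J → Prop) (hpos : ∀ a, 1 ≤ rk a) (hsq : ∀ a, f a ^ 2 = 1)
    (hev : ∀ a, Even (rk a))
    (hr : ∀ a, finrank F (LinearMap.range (qmove (f a))) = rk a)
    (hal : ∀ a, (∀ v, QuadraticMap.polarBilin Q v (qmove (f a) v) = 0) ↔ al a)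
    (hinj : ∀ a b, rk a = rk b → (al a ↔ al b) → a = b)
    (hcomp : ∀ (s : ℕ) (P : Prop), 1 ≤ s → s ≤ m → Even s → (P → (¬ IsPlus Q m → s ≠ m)) →
      ∃ a, rk a = s ∧ (al a ↔ P)) :
    Nat.card {C : ConjClasses ↥(Omega F ⇑Q) // ∃ g : ↥(Omega F ⇑Q), ConjClasses.mk g = C ∧ orderOf g = 2} =
      Fintype.card J + Nat.card {a : J // al a ∧ rk a = m} := by
  classical
  obtain ⟨hΩ, hmul⟩ := hD
  let D : OG →* ℤˣ := MonoidHom.mk' dick hmul
  have hfΩ : ∀ a, f a ∈ Omega F ⇑Q := fun a => (hΩ _).2 ((dick_involution hQ hι _).2 ((hr a).symm ▸ hev a))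
  obtain ⟨v₀, hv₀⟩ := exists_anisotropic hQ (by omega)
  have hx : dick (refl hv₀) = -1 := dick_refl hQ hv₀
  set x := refl hv₀
  have hinv : ∀ g, dick g⁻¹ = dick g := fun g => (D.map_inv g).trans (Int.units_inv_eq_self _)
  have hconj : ∀ g a, g * f a * g⁻¹ ∈ Omega F ⇑Q := fun g a => Subgroup.Normal.conj_mem inferInstance _ (hfΩ a) g
  let mkc : J ⊕ {a : J // al a ∧ rk a = m} → ↥(Omega F ⇑Q) :=
    Sum.elim (fun a => ⟨f a, hfΩ a⟩) fun a => ⟨x * f a.1 * x⁻¹, hconj x a.1⟩
  have hne : ∀ a, f a ≠ 1 := fun a h0 => by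
    have h1 := hr a
    rw [h0, show qmove (1 : OG) = 0 by rw [qmove, ogVal_one, sub_self, map_zero], LinearMap.range_zero,
      finrank_bot] at h1
    have := hpos a
    omega
  have hord : ∀ c, orderOf (mkc c) = 2 := fun c => by
    rw [← Subgroup.orderOf_coe]
    rcases c with a | a
    · exact orderOf_eq_prime (hsq a) (hne a)
    · show orderOf (x * f a.1 * x⁻¹) = 2
      refine orderOf_eq_prime ?_ fun h0 => hne a.1 ?_
      · rw [conj_pow, hsq]; group
      · rw [mul_inv_eq_iff_eq_mul, one_mul] at h0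
        exact mul_left_cancel (h0.trans (mul_one x).symm)
  let g : J ⊕ {a : J // al a ∧ rk a = m} →
      {C : ConjClasses ↥(Omega F ⇑Q) // ∃ g : ↥(Omega F ⇑Q), ConjClasses.mk g = C ∧ orderOf g = 2} := fun c =>
    ⟨ConjClasses.mk (mkc c), mkc c, rfl, hord c⟩
  have hup : ∀ {y y' : ↥(Omega F ⇑Q)}, IsConj y y' → ∃ c : OG, dick c = 1 ∧ c * (y : OG) = (y' : OG) * c := by
    intro y y' h
    obtain ⟨c, hc⟩ := isConj_iff.1 h
    exact ⟨c, (hΩ _).1 c.2, mul_inv_eq_iff_eq_mul.1 (congrArg Subtype.val hc)⟩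
  have hdown : ∀ {y y' : ↥(Omega F ⇑Q)} (c : OG), dick c = 1 → c * (y : OG) * c⁻¹ = (y' : OG) → IsConj y y' :=
    fun c hc h => isConj_iff.2 ⟨⟨c, (hΩ c).2 hc⟩, Subtype.ext h⟩
  have hGinv : ∀ a b, IsConj (f a) (f b) → a = b := fun a b h => by
    obtain ⟨h1, h3⟩ := qinvariants_of_conj h
    rw [hr, hr] at h1
    rw [hal, hal] at h3
    exact hinj a b h1 h3
  have hcent : ∀ a, al a → rk a = m → ∀ z : OG, z * f a = f a * z → dick z = 1 := fun a ha hm' z hz =>
    centralizer_proper hQ hhalf hι (hsq a) ((hal a).2 ha) ((hr a).trans hm') hz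
  have hbij : Function.Bijective g := by
    constructor
    · intro c c' hcc
      obtain ⟨z, hz1, hz⟩ := hup (ConjClasses.mk_eq_mk_iff_isConj.1 (congrArg Subtype.val hcc))
      rcases c with a | ⟨a, ha, ham⟩ <;> rcases c' with b | ⟨b, hb, hbm⟩
      · exact congrArg Sum.inl (hGinv a b (isConj_iff.2 ⟨z, mul_inv_eq_iff_eq_mul.2 hz⟩))
      · exfalso
        change z * f a = x * f b * x⁻¹ * z at hz
        obtain rfl := hGinv a b (isConj_iff.2 ⟨x⁻¹ * z, by
          rw [mul_assoc x⁻¹, hz]; group⟩)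
        have h1 := hcent a hb hbm (x⁻¹ * z) (by rw [mul_assoc x⁻¹, hz]; group)
        rw [hmul, hinv, hx, hz1] at h1
        exact absurd h1 (by decide)
      · exfalso
        change z * (x * f a * x⁻¹) = f b * z at hz
        have hz' : z * x * f a = f b * (z * x) := by
          rw [← mul_assoc (f b), ← hz]; group
        obtain rfl := hGinv a b (isConj_iff.2 ⟨z * x, mul_inv_eq_iff_eq_mul.2 hz'⟩)
        have h1 := hcent a ha ham (z * x) hz'
        rw [hmul, hx, hz1] at h1
        exact absurd h1 (by decide)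
      · change z * (x * f a * x⁻¹) = x * f b * x⁻¹ * z at hz
        have hz' : x⁻¹ * z * x * f a = f b * (x⁻¹ * z * x) := by
          calc x⁻¹ * z * x * f a = x⁻¹ * (z * (x * f a * x⁻¹)) * x := by group
            _ = x⁻¹ * (x * f b * x⁻¹ * z) * x := by rw [hz]
            _ = _ := by group
        exact congrArg Sum.inr (Subtype.ext (hGinv a b (isConj_iff.2 ⟨_, mul_inv_eq_iff_eq_mul.2 hz'⟩)))
    · rintro ⟨C, y, rfl, ho⟩
      rw [← Subgroup.orderOf_coe] at ho
      have hy : (y : OG) ^ 2 = 1 := ho ▸ pow_orderOf_eq_one _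
      have hy1 : (y : OG) ≠ 1 := fun h => by rw [h, orderOf_one] at ho; omega
      obtain ⟨v1, v2, v3⟩ := valid_invariants hQ hι hy hy1
      obtain ⟨a, ha, hP⟩ := hcomp _ _ v1 v2 ((dick_involution hQ hι _).1 ((hΩ _).1 y.2)) fun hA => (v3 hA).2
      obtain ⟨c, hc⟩ := isConj_iff.1 (isConj_of_invariants hQ hι (hsq a) hy ((hr a).trans ha) ((hal a).trans hP))
      rcases Int.units_eq_one_or (dick c) with hd | hd
      · exact ⟨Sum.inl a, Subtype.ext (ConjClasses.mk_eq_mk_iff_isConj.2 (hdown c hd hc))⟩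
      by_cases hs : al a ∧ rk a = m
      · refine ⟨Sum.inr ⟨a, hs⟩, Subtype.ext (ConjClasses.mk_eq_mk_iff_isConj.2 (hdown (c * x⁻¹) ?_ ?_))⟩
        · rw [hmul, hinv, hd, hx]; rfl
        · show c * x⁻¹ * (x * f a * x⁻¹) * (c * x⁻¹)⁻¹ = _
          rw [← hc]; group
      · obtain ⟨z, hzd, hz⟩ := exists_improper hQ hι (hsq a) (hne a) (by rw [hal, hr]; exact hs)
        refine ⟨Sum.inl a, Subtype.ext (ConjClasses.mk_eq_mk_iff_isConj.2 (hdown (c * z) ?_ ?_))⟩
        · rw [hmul, hd, hzd]; rfl
        · show c * z * f a * (c * z)⁻¹ = _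
          rw [mul_assoc c z, hz, ← hc]; group
  rw [← Nat.card_eq_of_bijective g hbij, Nat.card_sum, Nat.card_eq_fintype_card]

omit hQ

theorem plus_omega_card_classes {m : ℕ} (hm : 1 ≤ m) (hG : GenQ F (Fin m ⊕ Fin m)) :
    Nat.card {C : ConjClasses ↥(Omega F ⇑(qfPlus m F)) //
      ∃ g : ↥(Omega F ⇑(qfPlus m F)), ConjClasses.mk g = C ∧ orderOf g = 2} =
      2 * (m / 2) + (if Even m then 1 else 0) := by
  have hQ := nondegenerate_qfPlus (F := F) m
  choose f hsq hr hal _hv using fun a => plus_facts (F := F) (m := m) a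
  let emb : Fin (m / 2) ⊕ Fin (m / 2) → Fin m ⊕ Fin (m / 2) :=
    Sum.map (fun i => ⟨2 * (i : ℕ) + 1, by omega⟩) id
  rw [omega_card_classes hQ (omegaDick_of_genQ hQ hG) (fun U g hU h => dick_of_fixes_half hQ hG hU h)
    (m := m) (by simp [two_mul]) hm (fun a => f (emb a))
    (Sum.elim (fun i : Fin (m / 2) => 2 * ((i : ℕ) + 1)) fun j : Fin (m / 2) => 2 * ((j : ℕ) + 1))
    (fun a => a.isRight = true) (fun a => by rcases a with i | j <;> simp only [Sum.elim_inl, Sum.elim_inr] <;> omega)
    (fun a => hsq _) (fun a => by rcases a with i | j <;> simp)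
    (fun a => by rw [hr]; rcases a with i | j <;> simp [emb] <;> omega)
    (fun a => by rw [hal]; rcases a with i | j <;> simp [emb]) ?_ ?_]
  · have : Nat.card {a : Fin (m / 2) ⊕ Fin (m / 2) // a.isRight = true ∧
        Sum.elim (fun i : Fin (m / 2) => 2 * ((i : ℕ) + 1)) (fun j : Fin (m / 2) => 2 * ((j : ℕ) + 1)) a = m} =
        if Even m then 1 else 0 := by
      split_ifs with he
      · obtain ⟨k, hk⟩ := he
        rw [Nat.card_eq_one_iff_unique]
        refine ⟨⟨?_⟩, ⟨⟨Sum.inr ⟨k - 1, by omega⟩, rfl, by simp; omega⟩⟩⟩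
        rintro ⟨a, ha, ha'⟩ ⟨b, hb, hb'⟩
        rcases a with a | a <;> rcases b with b | b <;> simp at ha hb ha' hb'
        exact Subtype.ext (congrArg Sum.inr (Fin.ext (by omega)))
      · haveI : IsEmpty {a : Fin (m / 2) ⊕ Fin (m / 2) // a.isRight = true ∧
          Sum.elim (fun i : Fin (m / 2) => 2 * ((i : ℕ) + 1)) (fun j : Fin (m / 2) => 2 * ((j : ℕ) + 1)) a = m} :=
          ⟨fun a => by
            obtain ⟨a, ha, ha'⟩ := a
            rcases a with a | a <;> simp at ha ha'
            exact he ⟨(a : ℕ) + 1, by omega⟩⟩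
        exact Nat.card_of_isEmpty
    rw [this, Fintype.card_sum, Fintype.card_fin]
    omega
  · intro a b h1 h3
    rcases a with i | j <;> rcases b with i' | j' <;> simp at h1 h3
    · exact congrArg Sum.inl (Fin.ext h1)
    · exact congrArg Sum.inr (Fin.ext h1)
  · intro s P h1 h3 he hP
    obtain ⟨k, hk⟩ := he
    by_cases hp : P
    · exact ⟨Sum.inr ⟨k - 1, by omega⟩, by simp; omega, by simp [hp]⟩
    · exact ⟨Sum.inl ⟨k - 1, by omega⟩, by simp; omega, by simp [hp]⟩

theorem omegaDick_minus {k : ℕ} {a b : F}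
    (hab : ∀ z₁ z₂ : F, z₁ ^ 2 + a * z₁ * z₂ + b * z₂ ^ 2 = 0 → z₁ = 0 ∧ z₂ = 0) :
    OmegaDick (qfMinus k F a b) := by
  have hQ := nondegenerate_qfMinus k hab
  by_cases hG : Fintype.card F ≠ 2 ∨ k ≠ 1
  · exact omegaDick_of_genQ hQ (genQ_of_card (hG.imp_right fun h => by simp; omega))
  push Not at hG
  obtain ⟨-, rfl⟩ := hG
  refine omegaDick_of_refl hQ (reflGroup_top_of_noTS hQ fun u w hts => ?_)
  obtain ⟨h1, h3, h4, h5⟩ := hts
  have hle := singular_finrank_le_minus 1 hab (Submodule.span F (Set.range ![u, w])) fun z hz => by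
    obtain ⟨c, rfl⟩ := (Submodule.mem_span_range_iff_exists_fun F).1 hz
    simp only [Fin.sum_univ_two, Matrix.cons_val_zero, Matrix.cons_val_one]
    rw [quad_add', quad_smul, quad_smul, h1, h3, map_smul, map_smul, LinearMap.smul_apply,
      QuadraticMap.polarBilin_apply_apply, h4]
    simp
  rw [finrank_span_eq_card (LinearIndependent.pair_iff.2 h5), Fintype.card_fin] at hle
  omega

theorem minus_omega_card_classes {k : ℕ} {a b : F}
    (hab : ∀ z₁ z₂ : F, z₁ ^ 2 + a * z₁ * z₂ + b * z₂ ^ 2 = 0 → z₁ = 0 ∧ z₂ = 0) :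
    Nat.card {C : ConjClasses ↥(Omega F ⇑(qfMinus k F a b)) //
      ∃ g : ↥(Omega F ⇑(qfMinus k F a b)), ConjClasses.mk g = C ∧ orderOf g = 2} = (k + 1) / 2 + k / 2 := by
  have hQ := nondegenerate_qfMinus k hab
  choose f hsq hr hal _hv using fun x => minus_facts (F := F) (k := k) hab x
  let emb : Fin ((k + 1) / 2) ⊕ Fin (k / 2) → Fin (k + 1) ⊕ Fin (k / 2) :=
    Sum.map (fun i => ⟨2 * (i : ℕ) + 1, by omega⟩) id
  rw [omega_card_classes hQ (omegaDick_minus hab) (fun U g hU h => absurd
      ⟨U, by have := hU.2; simp at this; omega, hU.1⟩ (not_isPlus_qfMinus hab k))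
    (m := k + 1) (by simp; omega) (by omega) (fun x => f (emb x))
    (Sum.elim (fun i : Fin ((k + 1) / 2) => 2 * ((i : ℕ) + 1)) fun j : Fin (k / 2) => 2 * ((j : ℕ) + 1))
    (fun x => x.isRight = true) (fun x => by rcases x with i | j <;> simp only [Sum.elim_inl, Sum.elim_inr] <;> omega)
    (fun x => hsq _) (fun x => by rcases x with i | j <;> simp)
    (fun x => by rw [hr]; rcases x with i | j <;> simp [emb] <;> omega)
    (fun x => by rw [hal]; rcases x with i | j <;> simp [emb]) ?_ ?_]
  · haveI : IsEmpty {x : Fin ((k + 1) / 2) ⊕ Fin (k / 2) // x.isRight = true ∧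
      Sum.elim (fun i : Fin ((k + 1) / 2) => 2 * ((i : ℕ) + 1)) (fun j : Fin (k / 2) => 2 * ((j : ℕ) + 1)) x = k + 1} :=
      ⟨fun x => by
        obtain ⟨x, hx, hx'⟩ := x
        rcases x with x | x <;> simp at hx hx'
        omega⟩
    rw [Nat.card_of_isEmpty (α := {x : Fin ((k + 1) / 2) ⊕ Fin (k / 2) // x.isRight = true ∧ _}), add_zero,
      Fintype.card_sum, Fintype.card_fin, Fintype.card_fin]
  · intro x y h1 h3
    rcases x with i | j <;> rcases y with i' | j' <;> simp at h1 h3
    · exact congrArg Sum.inl (Fin.ext h1)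
    · exact congrArg Sum.inr (Fin.ext h1)
  · intro s P h1 h3 he hP
    obtain ⟨t, ht⟩ := he
    by_cases hp : P
    · have := hP hp (not_isPlus_qfMinus hab k)
      exact ⟨Sum.inr ⟨t - 1, by omega⟩, by simp; omega, by simp [hp]⟩
    · exact ⟨Sum.inl ⟨t - 1, by omega⟩, by simp; omega, by simp [hp]⟩

end Cfsg.Agent.Classical.SympEven
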