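import Cfsg.Agent.Lib.Classical.MaxSesq
import Cfsg.Agent.Lib.Classical.NormalForms

/-!
Hermitian forms over finite fields: supply of isotropic vectors, transvections; unitary similitudes are
maximal in `SL`.
-/

set_option autoImplicit false
set_option linter.unusedSectionVars false

namespace Cfsg.Agent.Classical.MaxTv

open Matrix Module

variable {F : Type*} [Field F] {ι : Type} [Fintype ι] [DecidableEq ι]

local notation "V" => (ι → F)
local notation "Mn" => Matrix ι ι F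

theorem finrank_le_inf_ker_add_one (S : Submodule F (ι → F)) (φ : (ι → F) →ₗ[F] F) :
    finrank F S ≤ finrank F (S ⊓ LinearMap.ker φ : Submodule F (ι → F)) + 1 := by
  have h1 := Submodule.finrank_sup_add_finrank_inf_eq S (LinearMap.ker φ)
  have h2 := φ.finrank_range_add_finrank_ker
  have h3 : finrank F (LinearMap.range φ) ≤ 1 :=
    (LinearMap.range φ).finrank_le.trans (Module.finrank_self F).le
  have h4 : finrank F (S ⊔ LinearMap.ker φ : Submodule F (ι → F)) ≤ finrank F (ι → F) := Submodule.finrank_le _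
  omega

/-- A homology or transvection with given centre and axis. -/
theorem exists_rankOne_gl (v φ : ι → F) (h : 1 + φ ⬝ᵥ v ≠ 0) : ∃ g : GL ι F,
    (∀ x : V, (g : Mn) *ᵥ x = x + (φ ⬝ᵥ x) • v) ∧ (g : Mn).det = 1 + φ ⬝ᵥ v := by
  have hd : (1 + vecMulVec v φ : Mn).det = 1 + φ ⬝ᵥ v := by
    rw [Matrix.vecMulVec_eq Unit, Matrix.det_one_add_replicateCol_mul_replicateRow]
  refine ⟨Matrix.GeneralLinearGroup.mkOfDetNeZero (1 + vecMulVec v φ) (by rw [hd]; exact h),
    fun x => ?_, hd⟩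
  show (1 + vecMulVec v φ) *ᵥ x = _
  rw [Matrix.add_mulVec, Matrix.one_mulVec, Matrix.vecMulVec_mulVec]
  simp

theorem card_le_finrank_ker_add_one (φ : (ι → F) →ₗ[F] F) :
    Fintype.card ι ≤ finrank F (LinearMap.ker φ) + 1 := by
  have h2 := φ.finrank_range_add_finrank_ker
  have h3 : finrank F (LinearMap.range φ) ≤ 1 :=
    (LinearMap.range φ).finrank_le.trans (Module.finrank_self F).le
  rw [Module.finrank_pi] at h2
  omega

/-- A non-degenerate Hermitian form over a finite field. -/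
structure Herm (σ : F ≃+* F) (f : V → V → F) : Prop extends Sesq σ f where
  invol : ∀ a : F, σ (σ a) = a
  ne_refl : σ ≠ RingEquiv.refl F
  herm : ∀ v w, f v w = σ (f w v)

variable {σ : F ≃+* F} {f : (ι → F) → (ι → F) → F}

theorem herm_of_isUnitaryForm (hf : Geo.IsUnitaryForm σ f) : Herm σ f where
  add_left := hf.add_left
  smul_left := hf.smul_left
  add_right v x y := by rw [hf.herm v, hf.add_left, map_add, ← hf.herm, ← hf.herm]
  smul_right c v x := by rw [hf.herm v, hf.smul_left, map_mul, ← hf.herm]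
  eq_zero w hw := by
    by_contra h
    obtain ⟨⟨x, hx⟩, -⟩ := hf.nondegenerate w h
    exact hx (hw x)
  refl v w h := by rw [hf.herm, h, map_zero]
  invol := hf.involutive
  ne_refl := hf.ne_refl
  herm := hf.herm

namespace Herm

variable (hs : Herm σ f)
include hs

theorem self_fixed (v : V) : σ (f v v) = f v v := (hs.herm v v).symm

theorem exists_moved : ∃ a : F, σ a ≠ a := by
  by_contra hc
  push Not at hc
  exact hs.ne_refl (RingEquiv.ext hc)

theorem exists_skew : ∃ τ : F, τ ≠ 0 ∧ τ + σ τ = 0 := by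
  obtain ⟨a, ha⟩ := hs.exists_moved
  exact ⟨a - σ a, sub_ne_zero.2 (Ne.symm ha), by rw [map_sub, hs.invol]; ring⟩

theorem exists_trace : ∃ z : F, z + σ z ≠ 0 := by
  by_contra hc
  push Not at hc
  have h1 := hc 1
  rw [map_one] at h1
  obtain ⟨a, ha⟩ := hs.exists_moved
  exact ha (by linear_combination hc a - a * h1)

theorem exists_norm_one : ∃ ζ : F, ζ * σ ζ = 1 ∧ ζ ≠ 1 := by
  obtain ⟨a, ha⟩ := hs.exists_moved
  have h0 : a ≠ 0 := fun e => ha (by rw [e, map_zero])
  have h1 : σ a ≠ 0 := fun e => h0 (σ.map_eq_zero_iff.1 e)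
  exact ⟨a / σ a, by rw [map_div₀, hs.invol]; field_simp, fun e => ha ((div_eq_one_iff_eq h1).1 e).symm⟩

theorem exists_norm [Finite F] {t : F} (ht : σ t = t) : ∃ c : F, c * σ c = t := by
  rcases eq_or_ne t 0 with rfl | ht0
  · exact ⟨0, zero_mul _⟩
  · exact exists_norm_eq (σ := σ.toRingHom) (fun e => hs.ne_refl (RingEquiv.ext fun a => RingHom.congr_fun e a))
      hs.invol ht ht0

theorem add_smul_iso {a b : V} (ha : f a a = 0) (hb : f b b = 0) {c : F} (hc : c * f b a + σ (c * f b a) = 0) :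
    f (a + c • b) (a + c • b) = 0 := by
  rw [map_mul, ← hs.herm] at hc
  rw [hs.add_left, hs.add_right, hs.add_right, hs.smul_left, hs.smul_left, hs.smul_right, hs.smul_right, ha, hb]
  linear_combination hc

theorem exists_coef {r : F} : ∃ c : F, c ≠ 0 ∧ c * r + σ (c * r) = 0 := by
  rcases eq_or_ne r 0 with rfl | hr
  · exact ⟨1, one_ne_zero, by simp⟩
  · obtain ⟨τ, hτ, hτs⟩ := hs.exists_skew
    exact ⟨τ / r, div_ne_zero hτ hr, by rwa [div_mul_cancel₀ _ hr]⟩

/-- A subspace of isotropic vectors has at most half the dimension. -/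
theorem finrank_le_of_iso [Finite F] {T : Submodule F V} (h : ∀ v ∈ T, f v v = 0) :
    2 * finrank F T ≤ Fintype.card ι := by
  have h2 : ∀ a ∈ T, ∀ b ∈ T, f a b = 0 := fun a ha b hb => by
    by_contra hne
    obtain ⟨z, hz⟩ := hs.exists_trace
    have hz0 : z ≠ 0 := fun e => hz (by rw [e, map_zero, add_zero])
    refine hz ?_
    have := h _ (add_mem ha (T.smul_mem (σ (z / f a b)) hb))
    rw [hs.add_left, hs.add_right, hs.add_right, hs.smul_left, hs.smul_left, hs.smul_right, hs.smul_right,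
      h a ha, h b hb, hs.herm b a, ← map_mul, hs.invol, div_mul_cancel₀ _ hne, mul_zero, mul_zero] at this
    linear_combination this
  have hinj : Function.Injective (fun t : T =>
      (⟨hs.toSesq.lin t, (Submodule.mem_dualAnnihilator _).2 fun x hx => h2 x hx t t.2⟩ : T.dualAnnihilator)) :=
    fun a b e => Subtype.ext (sub_eq_zero.1 (hs.eq_zero _ fun x => by
      have := LinearMap.congr_fun (congrArg Subtype.val e) x
      rw [hs.toSesq.lin_apply, hs.toSesq.lin_apply] at this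
      rw [hs.toSesq.sub_right, this, sub_self]))
  have : Finite (Module.Dual F V) := Module.finite_of_finite F
  have h3 := Nat.card_le_card_of_injective _ hinj
  have e1 : Nat.card T = Nat.card F ^ finrank F T := Module.natCard_eq_pow_finrank
  have e2 : Nat.card T.dualAnnihilator = Nat.card F ^ finrank F T.dualAnnihilator := by
    exact @Module.natCard_eq_pow_finrank F T.dualAnnihilator _ (Submodule.addCommGroup T.dualAnnihilator) _ _
  rw [e1, e2] at h3
  have h4 := (Nat.pow_le_pow_iff_right Finite.one_lt_card).1 h3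
  have h5 := Subspace.finrank_add_finrank_dualAnnihilator_eq T
  rw [Module.finrank_pi] at h5
  omega

theorem exists_aniso [Finite F] {S : Submodule F V} (hS : Fintype.card ι < 2 * finrank F S) :
    ∃ y ∈ S, f y y ≠ 0 := by
  by_contra hc
  push Not at hc
  have := hs.finrank_le_of_iso hc
  omega

theorem exists_norm_vec [Finite F] {S : Submodule F V} (hS : Fintype.card ι < 2 * finrank F S) {t : F}
    (ht : σ t = t) : ∃ y ∈ S, f y y = t := by
  obtain ⟨y, hy, hyy⟩ := hs.exists_aniso hS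
  obtain ⟨c, hc⟩ := hs.exists_norm (t := t / f y y) (by rw [map_div₀, ht, hs.self_fixed])
  refine ⟨c • y, S.smul_mem c hy, ?_⟩
  rw [hs.smul_left, hs.smul_right, ← mul_assoc, hc, div_mul_cancel₀ _ hyy]

theorem exists_iso [Finite F] {S : Submodule F V} (hS : 2 ≤ finrank F S) :
    ∃ v ∈ S, v ≠ 0 ∧ f v v = 0 := by
  by_contra hc
  push Not at hc
  obtain ⟨x, hx, hx0⟩ := Submodule.exists_mem_ne_zero_of_ne_bot (p := S) fun e => by
    rw [e, finrank_bot] at hS; omega
  have hxx := hc x hx hx0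
  obtain ⟨y, hy, hy'⟩ : ∃ y ∈ S, y ∉ (F ∙ x) := by
    by_contra hh
    push Not at hh
    have := Submodule.finrank_mono (show S ≤ F ∙ x from hh)
    rw [finrank_span_singleton hx0] at this
    omega
  set k := f y x / f x x with hk
  have hy0 : y - k • x ≠ 0 := fun e => hy' (Submodule.mem_span_singleton.2 ⟨k, (sub_eq_zero.1 e).symm⟩)
  have hyS : y - k • x ∈ S := sub_mem hy (S.smul_mem _ hx)
  have hperp : f (y - k • x) x = 0 := by
    rw [hs.toSesq.sub_left, hs.smul_left, hk, div_mul_cancel₀ _ hxx, sub_self]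
  have hyy := hc _ hyS hy0
  obtain ⟨c, hc'⟩ := hs.exists_norm (t := -(f (y - k • x) (y - k • x)) / f x x)
    (by rw [map_div₀, map_neg, hs.self_fixed, hs.self_fixed])
  refine hc (c • x + (y - k • x)) (add_mem (S.smul_mem c hx) hyS) (fun e => ?_) ?_
  · have := congrArg (fun z => f z (y - k • x)) e
    simp only [hs.add_left, hs.smul_left, hs.refl _ _ hperp, hs.toSesq.zero_left, mul_zero, zero_add] at this
    exact hyy this
  · rw [hs.add_left, hs.add_right, hs.add_right, hs.smul_left, hs.smul_left, hs.smul_right, hs.smul_right,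
      hs.refl _ _ hperp, hperp, ← mul_assoc, hc', div_mul_cancel₀ _ hxx]
    ring

/-- A subspace of isotropic vectors orthogonal to an anisotropic one has less than half the dimension. -/
theorem finrank_lt_of_iso_perp [Finite F] {T : Submodule F V} (hT : ∀ v ∈ T, f v v = 0) {x : V}
    (hx : ∀ v ∈ T, f v x = 0) (hxx : f x x ≠ 0) : 2 * finrank F T < Fintype.card ι := by
  have h2 : ∀ a ∈ T, ∀ b ∈ T, f a b = 0 := fun a ha b hb => by
    by_contra hne
    obtain ⟨z, hz⟩ := hs.exists_trace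
    refine hz ?_
    have := hT _ (add_mem ha (T.smul_mem (σ (z / f a b)) hb))
    rw [hs.add_left, hs.add_right, hs.add_right, hs.smul_left, hs.smul_left, hs.smul_right, hs.smul_right,
      hT a ha, hT b hb, hs.herm b a, ← map_mul, hs.invol, div_mul_cancel₀ _ hne, mul_zero, mul_zero] at this
    linear_combination this
  set U := T ⊔ (F ∙ x) with hU
  have hinj : Function.Injective (fun t : T =>
      (⟨hs.toSesq.lin t, (Submodule.mem_dualAnnihilator _).2 fun z hz => by
        obtain ⟨a, ha, b, hb, rfl⟩ := Submodule.mem_sup.1 hz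
        obtain ⟨k, rfl⟩ := Submodule.mem_span_singleton.1 hb
        rw [hs.toSesq.lin_apply, hs.add_left, hs.smul_left, h2 a ha t t.2, hs.refl _ _ (hx t t.2), mul_zero,
          add_zero]⟩ : U.dualAnnihilator)) :=
    fun a b e => Subtype.ext (sub_eq_zero.1 (hs.eq_zero _ fun z => by
      have := LinearMap.congr_fun (congrArg Subtype.val e) z
      rw [hs.toSesq.lin_apply, hs.toSesq.lin_apply] at this
      rw [hs.toSesq.sub_right, this, sub_self]))
  have : Finite (Module.Dual F V) := Module.finite_of_finite F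
  have h3 := Nat.card_le_card_of_injective _ hinj
  have e1 : Nat.card T = Nat.card F ^ finrank F T := Module.natCard_eq_pow_finrank
  have e2 : Nat.card U.dualAnnihilator = Nat.card F ^ finrank F U.dualAnnihilator := by
    exact @Module.natCard_eq_pow_finrank F U.dualAnnihilator _ (Submodule.addCommGroup U.dualAnnihilator) _ _
  rw [e1, e2] at h3
  have h4 := (Nat.pow_le_pow_iff_right Finite.one_lt_card).1 h3
  have h5 := Subspace.finrank_add_finrank_dualAnnihilator_eq U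
  rw [Module.finrank_pi] at h5
  have h6 : finrank F T < finrank F U := Submodule.finrank_lt_finrank_of_lt
    (lt_of_le_of_ne le_sup_left fun e => hxx (hT x (e ▸ Submodule.mem_sup_right (Submodule.mem_span_singleton_self x))))
  omega

/-- In a big subspace some isotropic vector is not orthogonal to a given vector. -/
theorem exists_iso_left [Finite F] {S : Submodule F V} (hS : Fintype.card ι + 1 < 2 * finrank F S) {u : V}
    (hu : ∃ x ∈ S, f x u ≠ 0) : ∃ a ∈ S, f a a = 0 ∧ f a u ≠ 0 := by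
  obtain ⟨x, hx, hxu⟩ := hu
  by_cases hxx : f x x = 0
  · exact ⟨x, hx, hxx, hxu⟩
  have h1 := finrank_le_inf_ker_add_one S (hs.toSesq.lin x)
  obtain ⟨y, ⟨hy, hyx⟩, hyy⟩ : ∃ y ∈ S ⊓ LinearMap.ker (hs.toSesq.lin x), f y y ≠ 0 := by
    by_contra hc
    push Not at hc
    have := hs.finrank_lt_of_iso_perp hc (fun v hv => LinearMap.mem_ker.1 hv.2) hxx
    omega
  have hyx' : f y x = 0 := LinearMap.mem_ker.1 hyx
  obtain ⟨c, hc⟩ := hs.exists_norm (t := -(f y y) / f x x)
    (by rw [map_div₀, map_neg, hs.self_fixed, hs.self_fixed])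
  obtain ⟨ζ, hζ, hζ1⟩ := hs.exists_norm_one
  have hiso : ∀ d : F, d * σ d = -(f y y) / f x x → f (d • x + y) (d • x + y) = 0 := fun d hd => by
    rw [hs.add_left, hs.add_right, hs.add_right, hs.smul_left, hs.smul_left, hs.smul_right, hs.smul_right,
      hs.refl _ _ hyx', hyx', ← mul_assoc, hd, div_mul_cancel₀ _ hxx]
    ring
  have hc0 : c ≠ 0 := fun e => by
    rw [e, zero_mul, eq_comm, div_eq_zero_iff, neg_eq_zero] at hc
    exact hc.elim hyy hxx
  by_cases h : f (c • x + y) u ≠ 0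
  · exact ⟨_, add_mem (S.smul_mem c hx) hy, hiso c hc, h⟩
  refine ⟨_, add_mem (S.smul_mem (ζ * c) hx) hy, hiso _ (by rw [map_mul, ← hc]; linear_combination (c * σ c) * hζ), ?_⟩
  push Not at h
  rw [hs.add_left, hs.smul_left] at h ⊢
  intro e
  have : (ζ - 1) * (c * f x u) = 0 := by linear_combination e - h
  exact mul_ne_zero (sub_ne_zero.2 hζ1) (mul_ne_zero hc0 hxu) this

theorem exists_iso_both [Finite F] {S : Submodule F V} (hS : Fintype.card ι + 1 < 2 * finrank F S) {u w : V}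
    (hu : ∃ x ∈ S, f x u ≠ 0) (hw : ∃ x ∈ S, f x w ≠ 0) : ∃ a ∈ S, f a a = 0 ∧ f a u ≠ 0 ∧ f a w ≠ 0 := by
  obtain ⟨a, ha, haa, hau⟩ := hs.exists_iso_left hS hu
  obtain ⟨b, hb, hbb, hbw⟩ := hs.exists_iso_left hS hw
  by_cases h1 : f a w ≠ 0
  · exact ⟨a, ha, haa, hau, h1⟩
  by_cases h2 : f b u ≠ 0
  · exact ⟨b, hb, hbb, h2, hbw⟩
  push Not at h1 h2
  obtain ⟨c, hc0, hc⟩ := hs.exists_coef (r := f b a)
  refine ⟨a + c • b, add_mem ha (S.smul_mem c hb), hs.add_smul_iso haa hbb hc, ?_, ?_⟩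
  · rw [hs.add_left, hs.smul_left, h2, mul_zero, add_zero]; exact hau
  · rw [hs.add_left, hs.smul_left, h1, zero_add]; exact mul_ne_zero hc0 hbw

/-- A big subspace is spanned by its isotropic vectors. -/
theorem le_span_iso [Finite F] {S : Submodule F V} (hS : Fintype.card ι + 1 < 2 * finrank F S) :
    S ≤ Submodule.span F {a : V | a ∈ S ∧ f a a = 0} := by
  intro x hx
  by_contra hc
  obtain ⟨φ, hφx, hφ⟩ := Submodule.exists_le_ker_of_notMem hc
  obtain ⟨p, hp⟩ := exists_dot φ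
  obtain ⟨z, hz⟩ := fn_surjective hs.toSesq p
  have hfz : ∀ y, f y z = φ y := fun y => by rw [← fn_dot hs.toSesq, hz, hp]
  obtain ⟨a, ha, haa, haz⟩ := hs.exists_iso_left hS (u := z) ⟨x, hx, by rwa [hfz]⟩
  exact haz ((hfz a).trans (hφ (Submodule.subset_span ⟨ha, haa⟩)))

theorem tv_cond {c : F} (hc : c + σ c = 0) (v : V) :
    ∀ x y, c * f x v * f v y + σ (c * f y v) * f x v = 0 := fun x y => by
  rw [map_mul, ← hs.herm]
  linear_combination (f x v * f v y) * hc

end Herm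

/-- Unitary similitudes are maximal in `SL`. -/
theorem unitary_similitude_maximal [Finite F] (hn : 4 ≤ Fintype.card ι) (hf : Geo.IsUnitaryForm σ f) :
    Geo.IsMaximalIn (Geo.specialLinear ι F) (Geo.similarityGroup f ⊓ Geo.specialLinear ι F) := by
  have hu := herm_of_isUnitaryForm hf
  have hs := hu.toSesq
  obtain ⟨τ, hτ0, hτ⟩ := hu.exists_skew
  obtain ⟨z, hz⟩ := hu.exists_trace
  have htop : Fintype.card ι + 1 < 2 * finrank F (⊤ : Submodule F V) := by
    rw [finrank_top, Module.finrank_pi]; omega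
  have hker : ∀ u : V, Fintype.card ι + 1 < 2 * finrank F (LinearMap.ker (hs.lin u)) := fun u => by
    have := card_le_finrank_ker_add_one (hs.lin u); omega
  refine isMaximalIn_intro inf_le_right (fun hle => ?_) fun M hHM hMK g hgM hgH => ?_
  · obtain ⟨v, -, hv0, hvv⟩ := hu.exists_iso (S := ⊤) (by omega)
    obtain ⟨w, hw, hw'⟩ := exists_ker_notMem (S := F ∙ v) (hs.lin v) (by rw [finrank_span_singleton hv0]; omega)
    have hvw : f v w = 0 := hs.refl _ _ hw
    obtain ⟨g, hg⟩ := exists_tv (φ := fn f w) (v := v) (by rw [fn_dot hs, hvw])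
    exact not_mem_similarity hs hvv hvw hv0
      (fun c e => hw' (Submodule.mem_span_singleton.2 ⟨c, e.symm⟩))
      (fun x => by rw [hg, fn_dot hs]) (hle (det_tv hg (by rw [fn_dot hs, hvw]))).1
  have hgns : g ∉ Geo.similarityGroup f := fun h => hgH ⟨h, hMK hgM⟩
  -- unitary transvections
  have hT : ∀ (v : V) (c : F), f v v = 0 → c + σ c = 0 → InT M v (fn f (c • v)) := fun v c hv hc => by
    obtain ⟨t, ht, -, htx⟩ := exists_isometry_tv hs hv
      (hu.tv_cond (c := σ c) (by rw [hu.invol, add_comm]; exact hc) v)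
    exact ⟨t, hHM ht, fun x => by rw [htx, fn_dot hs, hs.smul_right]⟩
  have hti : ∀ (v : V) (c : F), f v v = 0 → c + σ c = 0 →
      ∃ t ∈ M, (∀ x y, f ((t : Mn) *ᵥ x) ((t : Mn) *ᵥ y) = f x y) ∧
        ∀ x, (t : Mn) *ᵥ x = x + (c * f x v) • v := fun v c hv hc => by
    obtain ⟨t, ht, hti, htx⟩ := exists_isometry_tv hs hv (hu.tv_cond hc v)
    exact ⟨t, hHM ht, hti, htx⟩
  -- a transvection outside the unitary group
  obtain ⟨v₀, w₀, hv₀, hvw₀, hne₀, h₀⟩ :
      ∃ v₀ w₀ : V, v₀ ≠ 0 ∧ f v₀ w₀ = 0 ∧ w₀ ∉ (F ∙ v₀) ∧ InT M v₀ (fn f w₀) := by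
    by_contra hc
    push Not at hc
    have hmu : ∀ u : V, u ≠ 0 → f u u = 0 →
        ∃ μ : F, ∀ x, f ((g : Mn) *ᵥ x) ((g : Mn) *ᵥ u) = μ * f x u := fun u hu0 huu => by
      obtain ⟨w, hw⟩ := fn_surjective hs (fn f (τ • u) ᵥ* ((g⁻¹ : GL ι F) : Mn))
      have hwx : ∀ x, f ((g : Mn) *ᵥ x) w = σ τ * f x u := fun x => by
        rw [← fn_dot hs, hw, vecMul_inv_dot, fn_dot hs, hs.smul_right]
      have h1 : InT M ((g : Mn) *ᵥ u) (fn f w) := by
        rw [hw]; exact (hT u τ huu hτ).conj hgM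
      have h2 : f ((g : Mn) *ᵥ u) w = 0 := by rw [hwx, huu, mul_zero]
      have hgu : (g : Mn) *ᵥ u ≠ 0 := fun h => hu0 (by
        simpa [Matrix.mulVec_mulVec, ← Units.val_mul] using congrArg (fun z => ((g⁻¹ : GL ι F) : Mn) *ᵥ z) h)
      obtain ⟨d, hd⟩ := Submodule.mem_span_singleton.1 (not_imp_not.1 (hc _ _ hgu h2) h1)
      obtain ⟨x, hx⟩ := hs.exists_left hu0
      have hd0 : σ d ≠ 0 := fun e => mul_ne_zero (σ.map_ne_zero_iff.2 hτ0) hx (by
        rw [← hwx, ← hd, hs.smul_right, e, zero_mul])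
      refine ⟨(σ d)⁻¹ * σ τ, fun y => ?_⟩
      rw [mul_assoc, ← hwx y, ← hd, hs.smul_right, inv_mul_cancel_left₀ hd0]
    choose μ hμ using hmu
    have hflip : ∀ a b (ha : a ≠ 0) (ha' : f a a = 0) (hb : b ≠ 0) (hb' : f b b = 0), f a b ≠ 0 →
        μ a ha ha' = σ (μ b hb hb') := fun a b ha ha' hb hb' hab => by
      have e1 := congrArg σ (hμ b hb hb' a)
      rw [map_mul, ← hu.herm, ← hu.herm, hμ a ha ha' b] at e1
      exact mul_right_cancel₀ (fun e => hab (hs.refl _ _ e)) e1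
    have hperp : ∀ a b (ha : a ≠ 0) (ha' : f a a = 0) (hb : b ≠ 0) (hb' : f b b = 0), f a b = 0 →
        μ a ha ha' = μ b hb hb' := fun a b ha ha' hb hb' _ => by
      obtain ⟨x₁, hx₁⟩ := hs.exists_left ha
      obtain ⟨x₂, hx₂⟩ := hs.exists_left hb
      obtain ⟨x, -, hxx, hxa, hxb⟩ := hu.exists_iso_both htop ⟨x₁, trivial, hx₁⟩ ⟨x₂, trivial, hx₂⟩
      have hx : x ≠ 0 := fun e => hxa (by rw [e, hs.zero_left])
      exact σ.injective (by rw [← hflip x a hx hxx ha ha' hxa, hflip x b hx hxx hb hb' hxb])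
    have heq : ∀ a b (ha : a ≠ 0) (ha' : f a a = 0) (hb : b ≠ 0) (hb' : f b b = 0),
        μ a ha ha' = μ b hb hb' := fun a b ha ha' hb hb' => by
      have h1 := finrank_le_inf_ker_add_one (LinearMap.ker (hs.lin a)) (hs.lin b)
      have h2 := hker a
      obtain ⟨w, ⟨hwa, hwb⟩, hw0, hww⟩ := hu.exists_iso (S := LinearMap.ker (hs.lin a) ⊓ LinearMap.ker (hs.lin b))
        (by omega)
      have hwa' : f w a = 0 := LinearMap.mem_ker.1 hwa
      have hwb' : f w b = 0 := LinearMap.mem_ker.1 hwb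
      rw [← hperp w a hw0 hww ha ha' hwa', hperp w b hw0 hww hb hb' hwb']
    obtain ⟨u₀, -, hu₀, hu₀'⟩ := hu.exists_iso (S := ⊤) (by omega)
    have hfix : σ (μ u₀ hu₀ hu₀') = μ u₀ hu₀ hu₀' := by
      obtain ⟨x₁, hx₁⟩ := hs.exists_left hu₀
      obtain ⟨x, -, hxx, hxa⟩ := hu.exists_iso_left htop ⟨x₁, trivial, hx₁⟩
      have hx : x ≠ 0 := fun e => hxa (by rw [e, hs.zero_left])
      rw [← hflip x u₀ hx hxx hu₀ hu₀' hxa, heq]
    set c := μ u₀ hu₀ hu₀' with hcdef
    have hall : ∀ x u, f ((g : Mn) *ᵥ u) ((g : Mn) *ᵥ x) = c * f u x := fun x => by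
      let L : V →ₗ[F] F := (hs.lin ((g : Mn) *ᵥ x)).comp (Matrix.mulVecLin (g : Mn)) - c • hs.lin x
      have hL : (⊤ : Submodule F V) ≤ LinearMap.ker L := by
        refine (hu.le_span_iso htop).trans (Submodule.span_le.2 fun a ha => ?_)
        rcases eq_or_ne a 0 with rfl | ha0
        · exact zero_mem _
        have := congrArg σ (hμ a ha0 ha.2 x)
        rw [map_mul, ← hu.herm, ← hu.herm, heq a u₀ ha0 ha.2 hu₀ hu₀', ← hcdef, hfix] at this
        simp [L, this]
      intro u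
      have := LinearMap.mem_ker.1 (hL (Submodule.mem_top (x := u)))
      simpa [L, sub_eq_zero] using this
    have hne : c ≠ 0 := fun e => by
      obtain ⟨y, hy⟩ := hs.exists_left hu₀
      refine hy ?_
      have := hall (((g⁻¹ : GL ι F) : Mn) *ᵥ u₀) (((g⁻¹ : GL ι F) : Mn) *ᵥ y)
      rwa [Matrix.mulVec_mulVec, Matrix.mulVec_mulVec, ← Units.val_mul, mul_inv_cancel, Units.val_one,
        Matrix.one_mulVec, Matrix.one_mulVec, e, zero_mul] at this
    exact hgns ⟨Units.mk0 c hne, fun x u => by rw [hall, Units.val_mk0]⟩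
  -- one with isotropic centre
  obtain ⟨v₁, w₁, hv₁, hv₁₁, hvw₁, hne₁, h₁⟩ :
      ∃ v₁ w₁ : V, v₁ ≠ 0 ∧ f v₁ v₁ = 0 ∧ f v₁ w₁ = 0 ∧ w₁ ∉ (F ∙ v₁) ∧ InT M v₁ (fn f w₁) := by
    have hw₀ : w₀ ≠ 0 := fun e => hne₀ (by rw [e]; exact zero_mem _)
    obtain ⟨a, ha, haa, hav⟩ := hu.exists_iso_left (hker w₀) (u := v₀) (by
      by_contra hc
      push Not at hc
      obtain ⟨c, hc'⟩ := hs.eq_smul_of_ker hw₀ (w := v₀) fun x hx => hc x (LinearMap.mem_ker.2 hx)
      have hc0 : c ≠ 0 := fun e => hv₀ (by rw [hc', e, zero_smul])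
      exact hne₀ (Submodule.mem_span_singleton.2 ⟨c⁻¹, by rw [hc', smul_smul, inv_mul_cancel₀ hc0, one_smul]⟩))
    have haw : f a w₀ = 0 := LinearMap.mem_ker.1 ha
    have hva : f v₀ a ≠ 0 := fun e => hav (hs.refl _ _ e)
    obtain ⟨T, hTM, hTx⟩ := h₀
    have hTi : ∀ x, ((T⁻¹ : GL ι F) : Mn) *ᵥ x = x - f x w₀ • v₀ := fun x => by
      have h := hTx (x - f x w₀ • v₀)
      rw [fn_dot hs, hs.sub_left, hs.smul_left, hvw₀, mul_zero, sub_zero, sub_add_cancel] at h
      conv_lhs => rw [← h]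
      rw [Matrix.mulVec_mulVec, ← Units.val_mul, inv_mul_cancel, Units.val_one, Matrix.one_mulVec]
    set k := σ (f v₀ (τ • a)) with hk
    have hk0 : k ≠ 0 := by
      rw [hk, hs.smul_right]
      exact σ.map_ne_zero_iff.2 (mul_ne_zero (σ.map_ne_zero_iff.2 hτ0) hva)
    have h2 := (hT a τ haa hτ).conj hTM
    rw [hTx a, fn_dot hs, haw, zero_smul, add_zero,
      fn_ext hs (φ := fn f (τ • a) ᵥ* ((T⁻¹ : GL ι F) : Mn)) (w := τ • a - k • w₀) (fun x => by
        rw [← Matrix.dotProduct_mulVec, fn_dot hs, hTi, hs.sub_left, hs.smul_left, hs.sub_right,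
          hs.smul_right k, hk, hu.invol, mul_comm])] at h2
    have h3 := (hT a τ haa hτ).fn_sub hs h2 (by rw [hs.smul_right, haa, mul_zero])
      (by rw [hs.sub_right, hs.smul_right, hs.smul_right, haa, haw, mul_zero, mul_zero, sub_zero])
    rw [sub_sub_cancel] at h3
    refine ⟨a, k • w₀, fun e => hav (by rw [e, hs.zero_left]), haa,
      by rw [hs.smul_right, haw, mul_zero], fun e => ?_, h3⟩
    obtain ⟨d, hd⟩ := Submodule.mem_span_singleton.1 e
    have hd0 : d ≠ 0 := fun e0 => hw₀ ((smul_eq_zero.1 (by rw [← hd, e0, zero_smul])).resolve_left hk0)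
    have := congrArg (fun y => f v₀ y) hd
    simp only [hs.smul_right, hvw₀, mul_zero, mul_eq_zero, σ.map_eq_zero_iff] at this
    exact this.elim hd0 hva
  -- all functionals at `v₁`
  set S := LinearMap.ker (hs.lin v₁) with hS
  have hSmem : ∀ x, x ∈ S ↔ f x v₁ = 0 := fun x => LinearMap.mem_ker
  have hprop : ∀ (w b : V) (c : F), f v₁ w = 0 → InT M v₁ (fn f w) → b ∈ S → f b b = 0 → c + σ c = 0 →
      InT M v₁ (fn f ((c * f w b) • b)) := fun w b c hw h hb hbb hc => by
    obtain ⟨t, ht, hti', htx⟩ := hti b c hbb hc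
    have hb1 : f v₁ b = 0 := hs.refl _ _ ((hSmem b).1 hb)
    have h' := h.fn_conj hs ht hti'
    rw [htx v₁, hb1, mul_zero, zero_smul, add_zero, htx w] at h'
    have := h'.fn_sub hs h (by rw [hs.add_right, hs.smul_right, hw, hb1, mul_zero, add_zero]) hw
    rwa [add_sub_cancel_left] at this
  have hSb : ∀ b : V, b ∉ (F ∙ v₁) → ∃ x ∈ S, f x b ≠ 0 := fun b hb => by
    by_contra hc
    push Not at hc
    obtain ⟨c, hc'⟩ := hs.eq_smul_of_ker hv₁ (w := b) fun x hx => hc x ((hSmem x).2 hx)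
    exact hb (Submodule.mem_span_singleton.2 ⟨c, hc'.symm⟩)
  obtain ⟨b, hbS, hbb, hbw⟩ := hu.exists_iso_left (hker v₁) (hSb w₁ hne₁)
  have hb1 : f v₁ b = 0 := hs.refl _ _ ((hSmem b).1 hbS)
  have hr : f w₁ b ≠ 0 := fun e => hbw (hs.refl _ _ e)
  have hbn : b ∉ (F ∙ v₁) := fun e => by
    obtain ⟨d, hd⟩ := Submodule.mem_span_singleton.1 e
    exact hbw (by rw [← hd, hs.smul_left, hvw₁, mul_zero])
  have hline : ∀ y : F, InT M v₁ (fn f (y • b)) := by
    obtain ⟨b₁, hb₁S, hb₁b, hb₁⟩ := hu.exists_iso_left (hker v₁) (hSb b hbn)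
    set b' := (f b₁ b)⁻¹ • b₁ with hb'
    have hb'S : b' ∈ S := S.smul_mem _ hb₁S
    have hb'b : f b' b = 1 := by rw [hb', hs.smul_left, inv_mul_cancel₀ hb₁]
    have hb'' : f b' b' = 0 := by rw [hb', hs.smul_left, hs.smul_right, hb₁b, mul_zero, mul_zero]
    have hbb' : f b b' = 1 := by rw [hu.herm, hb'b, map_one]
    -- a partner of the centre orthogonal to `b` and `b'`
    obtain ⟨v₂, hv₂b, hv₂b', hv₂₂, hv₁v₂⟩ : ∃ v₂, f v₂ b = 0 ∧ f v₂ b' = 0 ∧ f v₂ v₂ = 0 ∧ f v₁ v₂ = 1 := by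
      obtain ⟨y, hy⟩ := hs.exists_one hv₁
      have hv₁b' : f v₁ b' = 0 := hs.refl _ _ ((hSmem b').1 hb'S)
      obtain ⟨y₁, hy₁⟩ : ∃ y₁, y₁ = y - f y b' • b - f y b • b' := ⟨_, rfl⟩
      have y1 : f y₁ b = 0 := by
        rw [hy₁, hs.sub_left, hs.sub_left, hs.smul_left, hs.smul_left, hbb, hb'b]; ring
      have y2 : f y₁ b' = 0 := by
        rw [hy₁, hs.sub_left, hs.sub_left, hs.smul_left, hs.smul_left, hbb', hb'']; ring
      have y3 : f y₁ v₁ = 1 := by
        rw [hy₁, hs.sub_left, hs.sub_left, hs.smul_left, hs.smul_left, hs.refl _ _ hb1, hs.refl _ _ hv₁b', hy]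
        ring
      have y4 : f v₁ y₁ = 1 := by rw [hu.herm, y3, map_one]
      obtain ⟨k, hk⟩ : ∃ k, k = -(f y₁ y₁) * z / (z + σ z) := ⟨_, rfl⟩
      have hk' : k + σ k = -(f y₁ y₁) := by
        rw [hk, map_div₀, map_mul, map_neg, map_add, hu.invol, hu.self_fixed, add_comm (σ z), ← add_div,
          div_eq_iff hz]
        ring
      refine ⟨y₁ + k • v₁, ?_, ?_, ?_, ?_⟩
      · rw [hs.add_left, hs.smul_left, y1, hb1]; ring
      · rw [hs.add_left, hs.smul_left, y2, hv₁b']; ring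
      · rw [hs.add_left, hs.add_right, hs.add_right, hs.smul_left, hs.smul_left, hs.smul_right, hs.smul_right,
          y3, y4, hv₁₁]
        linear_combination hk'
      · rw [hs.add_right, hs.smul_right, y4, hv₁₁]; ring
    have hv₂v₁ : f v₂ v₁ = 1 := by rw [hu.herm, hv₁v₂, map_one]
    have hv₁b' : f v₁ b' = 0 := hs.refl _ _ ((hSmem b').1 hb'S)
    obtain ⟨c₀, hc₀, hc₀'⟩ : ∃ a : F, a ≠ 0 ∧ σ a * σ a ≠ a * a := by
      by_contra hc
      push Not at hc
      obtain ⟨a₀, ha₀⟩ := hu.exists_moved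
      have hneg : σ a₀ = -a₀ :=
        (mul_self_eq_mul_self_iff.1 (hc a₀ fun e => ha₀ (by rw [e, map_zero]))).resolve_left ha₀
      rcases mul_self_eq_mul_self_iff.1 (hc (a₀ + 1) fun e => ha₀ (by
        rw [eq_neg_of_add_eq_zero_left e, map_neg, map_one])) with e | e <;> rw [map_add, map_one, hneg] at e
      · exact ha₀ (by rw [hneg]; linear_combination e)
      · have h2 : (2 : F) = 0 := by linear_combination e
        exact ha₀ (by rw [hneg]; linear_combination -a₀ * h2)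
    -- a diagonal element of the determinant-one isometry group
    obtain ⟨h, hhM, hhiso, hhv, hhb⟩ : ∃ h ∈ M, (∀ x y, f ((h : Mn) *ᵥ x) ((h : Mn) *ᵥ y) = f x y) ∧
        (h : Mn) *ᵥ v₁ = c₀ • v₁ ∧ (h : Mn) *ᵥ b = c₀⁻¹ • b := by
      have hσc : σ c₀ ≠ 0 := σ.map_ne_zero_iff.2 hc₀
      obtain ⟨k₁, hk₁, hd₁⟩ := exists_rankOne_gl ((c₀ - 1) • v₁) (fn f v₂) (by
        rw [dotProduct_smul, fn_dot hs, hv₁v₂, smul_eq_mul, mul_one, add_sub_cancel]; exact hc₀)
      obtain ⟨k₂, hk₂, hd₂⟩ := exists_rankOne_gl (((σ c₀)⁻¹ - 1) • v₂) (fn f v₁) (by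
        rw [dotProduct_smul, fn_dot hs, hv₂v₁, smul_eq_mul, mul_one, add_sub_cancel]; exact inv_ne_zero hσc)
      obtain ⟨k₃, hk₃, hd₃⟩ := exists_rankOne_gl ((c₀⁻¹ - 1) • b) (fn f b') (by
        rw [dotProduct_smul, fn_dot hs, hbb', smul_eq_mul, mul_one, add_sub_cancel]; exact inv_ne_zero hc₀)
      obtain ⟨k₄, hk₄, hd₄⟩ := exists_rankOne_gl ((σ c₀ - 1) • b') (fn f b) (by
        rw [dotProduct_smul, fn_dot hs, hb'b, smul_eq_mul, mul_one, add_sub_cancel]; exact hσc)
      rw [dotProduct_smul, fn_dot hs, hv₁v₂, smul_eq_mul, mul_one, add_sub_cancel] at hd₁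
      rw [dotProduct_smul, fn_dot hs, hv₂v₁, smul_eq_mul, mul_one, add_sub_cancel] at hd₂
      rw [dotProduct_smul, fn_dot hs, hbb', smul_eq_mul, mul_one, add_sub_cancel] at hd₃
      rw [dotProduct_smul, fn_dot hs, hb'b, smul_eq_mul, mul_one, add_sub_cancel] at hd₄
      have e1 : f b v₂ = 0 := hs.refl _ _ hv₂b
      have e2 : f b' v₂ = 0 := hs.refl _ _ hv₂b'
      have e3 : f b v₁ = 0 := hs.refl _ _ hb1
      have e4 : f b' v₁ = 0 := hs.refl _ _ hv₁b'
      have happ : ∀ x, ((k₁ * k₂ * (k₃ * k₄) : GL ι F) : Mn) *ᵥ x = x + (f x v₂ * (c₀ - 1)) • v₁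
          + (f x v₁ * ((σ c₀)⁻¹ - 1)) • v₂ + (f x b' * (c₀⁻¹ - 1)) • b + (f x b * (σ c₀ - 1)) • b' := fun x => by
        simp only [Units.val_mul, ← Matrix.mulVec_mulVec, hk₁, hk₂, hk₃, hk₄, fn_dot hs, hs.add_left, hs.smul_left,
          hb'', hb'b, e1, e2, e3, e4, hv₂₂, mul_zero, add_zero, zero_mul]
        module
      have hisom : ∀ x y, f (((k₁ * k₂ * (k₃ * k₄) : GL ι F) : Mn) *ᵥ x) (((k₁ * k₂ * (k₃ * k₄) : GL ι F) : Mn) *ᵥ y) =
          f x y := fun x y => by
        simp only [happ, hs.add_left, hs.add_right, hs.smul_left, hs.smul_right, map_mul, map_sub, map_one, map_inv₀,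
          hu.invol, ← hu.herm, hv₁₁, hv₂₂, hv₁v₂, hv₂v₁, hbb, hb'', hbb', hb'b, hb1, hv₁b', hv₂b, hv₂b', e1, e2, e3,
          e4]
        field_simp
        ring
      refine ⟨_, hHM ⟨⟨1, fun x y => by rw [Units.val_one, one_mul]; exact hisom x y⟩, MonoidHom.mem_ker.2 (Units.ext ?_)⟩,
        hisom, ?_, ?_⟩
      · rw [Matrix.GeneralLinearGroup.val_det_apply, Units.val_one, Units.val_mul, Units.val_mul, Units.val_mul, Matrix.det_mul, Matrix.det_mul, Matrix.det_mul, hd₁, hd₂,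
          hd₃, hd₄]
        field_simp
      · rw [happ, hv₁₁, hv₁v₂, hb1, hv₁b']; module
      · rw [happ, e1, e3, hbb, hbb']; module
    have p0 : ∀ l : F, l + σ l = 0 → InT M v₁ (fn f ((l * f w₁ b) • b)) := fun l hl =>
      hprop w₁ b l hvw₁ h₁ hbS hbb hl
    have p1 : ∀ l : F, l + σ l = 0 → InT M v₁ (fn f ((σ c₀ / c₀ * l * f w₁ b) • b)) := fun l hl => by
      have q := ((p0 l hl).fn_conj hs hhM hhiso).smul_left c₀⁻¹ (inv_ne_zero hc₀)
      rw [hhv, Matrix.mulVec_smul, hhb, smul_smul, inv_mul_cancel₀ hc₀, one_smul, inv_inv] at q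
      simp only [fn_smul hs, smul_smul] at q
      rw [fn_smul hs]
      convert q using 2
      have := σ.map_ne_zero_iff.2 hc₀
      simp only [map_mul, map_div₀, map_inv₀, hu.invol]
      field_simp
    intro y
    obtain ⟨ζ, hζ⟩ : ∃ ζ, ζ = σ c₀ / c₀ := ⟨_, rfl⟩
    have hσc : σ c₀ ≠ 0 := σ.map_ne_zero_iff.2 hc₀
    have hζσ : σ ζ = ζ⁻¹ := by rw [hζ, map_div₀, hu.invol, inv_div]
    have hζ0 : ζ ≠ 0 := hζ ▸ div_ne_zero hσc hc₀
    have hne : ζ - ζ⁻¹ ≠ 0 := fun e => hc₀' (by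
      have e' : ζ = ζ⁻¹ := sub_eq_zero.1 e
      rw [hζ, inv_div] at e'
      field_simp at e'
      linear_combination e')
    set y' := y / f w₁ b with hy'
    set l₂ := (y' + σ y') / (ζ - ζ⁻¹) with hl₂
    have hl₂s : σ l₂ = -l₂ := by
      rw [hl₂, map_div₀, map_add, map_sub, map_inv₀, hu.invol, hζσ, inv_inv, add_comm (σ y'),
        show ζ⁻¹ - ζ = -(ζ - ζ⁻¹) by ring, div_neg]
    have q2 := p0 (y' - ζ * l₂) (by
      have : l₂ * (ζ - ζ⁻¹) = y' + σ y' := by rw [hl₂, div_mul_cancel₀ _ hne]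
      rw [map_sub, map_mul, hζσ, hl₂s]
      linear_combination -this)
    have q1 := p1 l₂ (by rw [hl₂s]; ring)
    rw [← hζ] at q1
    have q3 := q2.add_right q1 (by rw [fn_dot hs, hs.smul_right, hb1, mul_zero])
    rw [← fn_add hs, ← add_smul] at q3
    convert q3 using 3
    rw [hy']
    field_simp
    ring
  have hspread : ∀ a d : V, a ∈ S → d ∈ S → f d d = 0 → f a d ≠ 0 → (∀ y : F, InT M v₁ (fn f (y • a))) →
      ∀ y : F, InT M v₁ (fn f (y • d)) := fun a d ha hd hdd had h y => by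
    have ha1 : f v₁ a = 0 := hs.refl _ _ ((hSmem a).1 ha)
    have := hprop _ d τ (by rw [hs.smul_right, ha1, mul_zero]) (h (y / (τ * f a d))) hd hdd hτ
    rw [hs.smul_left] at this
    convert this using 3
    field_simp
  have hiso : ∀ d : V, d ∈ S → f d d = 0 → d ∉ (F ∙ v₁) → ∀ y : F, InT M v₁ (fn f (y • d)) := fun d hd hdd hdn => by
    obtain ⟨x, hxS, hxx, hxb, hxd⟩ := hu.exists_iso_both (hker v₁) (hSb b hbn) (hSb d hdn)
    exact hspread x d hxS hd hdd hxd
      (hspread b x hbS hxS hxx (fun e => hxb (hs.refl _ _ e)) hline)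
  have hperp : ∀ w, f v₁ w = 0 → InT M v₁ (fn f w) := by
    intro w hw
    have hmem : w ∈ Submodule.span F {a : V | a ∈ S ∧ f a a = 0} :=
      hu.le_span_iso (hker v₁) ((hSmem w).2 (hs.refl _ _ hw))
    suffices H : f v₁ w = 0 ∧ ∀ y : F, InT M v₁ (fn f (y • w)) by
      have := H.2 1; rwa [one_smul] at this
    clear hw
    induction hmem using Submodule.span_induction with
    | mem a ha =>
      refine ⟨hs.refl _ _ ((hSmem a).1 ha.1), fun y => ?_⟩
      by_cases han : a ∈ (F ∙ v₁)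
      · obtain ⟨k, rfl⟩ := Submodule.mem_span_singleton.1 han
        have hab : f (k • v₁ + b) (k • v₁ + b) = 0 := by
          simp [hs.add_left, hs.add_right, hs.smul_left, hs.smul_right, hv₁₁, hb1, hbb, hs.refl _ _ hb1]
        have := (hiso (k • v₁ + b) (add_mem ha.1 hbS) hab
          (fun e => hbn (by simpa using sub_mem e han)) y).fn_sub hs (hline y)
          (by rw [hs.smul_right, hs.add_right, hs.smul_right, hv₁₁, hb1]; simp)
          (by rw [hs.smul_right, hb1, mul_zero])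
        rwa [smul_add, add_sub_cancel_right] at this
      · exact hiso a ha.1 ha.2 han y
    | zero => exact ⟨hs.zero_right _, fun y => by rw [smul_zero, fn_zero hs]; exact InT.zero_right _⟩
    | add x x' _ _ hx hx' =>
      refine ⟨by rw [hs.add_right, hx.1, hx'.1, add_zero], fun y => ?_⟩
      rw [smul_add, fn_add hs]
      exact (hx.2 y).add_right (hx'.2 y) (by rw [fn_dot hs, hs.smul_right, hx.1, mul_zero])
    | smul c x _ hx =>
      exact ⟨by rw [hs.smul_right, hx.1, mul_zero], fun y => by rw [smul_smul]; exact hx.2 _⟩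
  -- move the centre
  have hmove : ∀ a v : V, f a a = 0 → f v v = 0 → f a v ≠ 0 →
      (∀ w, f a w = 0 → InT M a (fn f w)) → ∀ w, f v w = 0 → InT M v (fn f w) := fun a v haa hvv hav h w hw => by
    have hav' : f v a ≠ 0 := fun e => hav (hs.refl _ _ e)
    set μ := τ / f a v with hμ
    have hμv : μ * f a v = τ := by rw [hμ, div_mul_cancel₀ _ hav]
    have hiso' : f (v + (-μ) • a) (v + (-μ) • a) = 0 := hu.add_smul_iso hvv haa (by
      rw [neg_mul, map_neg, hμv]; linear_combination -hτ)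
    have hτi : (1 / τ) + σ (1 / τ) = 0 := by
      rw [map_div₀, map_one, show σ τ = -τ by linear_combination hτ]; ring
    obtain ⟨t, ht, hti', htx⟩ := hti _ (1 / τ) hiso' hτi
    have hta : (t : Mn) *ᵥ a = (f a v / τ) • v := by
      rw [htx, hs.add_right, hs.smul_right, haa, mul_zero, add_zero, smul_add, smul_smul, one_div_mul_eq_div]
      have : f a v / τ * (-μ) = -1 := by rw [hμ]; field_simp
      rw [this]; module
    have hc : f a v / τ ≠ 0 := div_ne_zero hav hτ0
    set w' := ((t⁻¹ : GL ι F) : Mn) *ᵥ (σ (f a v / τ)⁻¹ • w) with hw'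
    have htw : (t : Mn) *ᵥ w' = σ (f a v / τ)⁻¹ • w := by
      rw [hw', Matrix.mulVec_mulVec, ← Units.val_mul, mul_inv_cancel, Units.val_one, Matrix.one_mulVec]
    have h2 := (h w' (by rw [← hti', hta, htw, hs.smul_left, hs.smul_right, hw]; ring)).fn_conj hs ht hti'
    rw [hta, htw, fn_smul hs, hu.invol] at h2
    have := h2.smul_left (f a v / τ)⁻¹ (inv_ne_zero hc)
    rwa [smul_smul, inv_mul_cancel₀ hc, one_smul, inv_inv, smul_smul, mul_inv_cancel₀ hc, one_smul] at this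
  have hisoAll : ∀ v, f v v = 0 → ∀ w, f v w = 0 → InT M v (fn f w) := fun v hvv => by
    rcases eq_or_ne v 0 with rfl | hv
    · exact fun w _ => InT.zero_left _
    obtain ⟨x₁, hx₁⟩ := hs.exists_left hv₁
    obtain ⟨x₂, hx₂⟩ := hs.exists_left hv
    obtain ⟨x, -, hxx, hxa, hxb⟩ := hu.exists_iso_both htop ⟨x₁, trivial, hx₁⟩ ⟨x₂, trivial, hx₂⟩
    exact hmove x v hxx hvv hxb (hmove v₁ x hv₁₁ hxx (fun e => hxa (hs.refl _ _ e)) hperp)
  refine specialLinear_le fun v φ hφ => ?_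
  obtain ⟨w, rfl⟩ := fn_surjective hs φ
  rw [fn_dot hs] at hφ
  have hmem := hu.le_span_iso (hker w) (show v ∈ LinearMap.ker (hs.lin w) from LinearMap.mem_ker.2 hφ)
  suffices H : f v w = 0 ∧ ∀ c : F, InT M (c • v) (fn f w) by
    have := H.2 1; rwa [one_smul] at this
  clear hφ
  induction hmem using Submodule.span_induction with
  | mem a ha =>
    have haw : f a w = 0 := LinearMap.mem_ker.1 ha.1
    exact ⟨haw, fun c => hisoAll _ (by rw [hs.smul_left, hs.smul_right, ha.2, mul_zero, mul_zero]) _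
      (by rw [hs.smul_left, haw, mul_zero])⟩
  | zero => exact ⟨hs.zero_left _, fun c => by rw [smul_zero]; exact InT.zero_left _⟩
  | add x x' _ _ hx hx' =>
    refine ⟨by rw [hs.add_left, hx.1, hx'.1, add_zero], fun c => ?_⟩
    rw [smul_add]
    exact (hx.2 c).add_left (hx'.2 c) (by rw [fn_dot hs, hs.smul_left, hx'.1, mul_zero])
  | smul k x _ hx =>
    exact ⟨by rw [hs.smul_left, hx.1, mul_zero], fun c => by rw [smul_smul]; exact hx.2 _⟩

end Cfsg.Agent.Classical.MaxTv
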