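import Cfsg.Agent.Lib.Classical.MaxDecomp
import Cfsg.Agent.Lib.Classical.MaxHermitian
import Cfsg.Agent.Lib.Classical.SympGen
import Cfsg.Agent.Lib.Classical.NormalForms
import Cfsg.Prelude.Def_GeometricClasses

/-!
Symplectic groups: transvections in a subgroup; stabilisers of orthogonal decompositions are maximal.
-/

set_option autoImplicit false
set_option linter.unusedSectionVars false

namespace Cfsg.Agent.Classical.MaxTv

open Matrix Module

variable {F : Type*} [Field F] {m : ℕ}

local notation "V" => (Fin m ⊕ Fin m → F)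
local notation "Mn" => Matrix (Fin m ⊕ Fin m) (Fin m ⊕ Fin m) F
local notation "B" => sympForm m F

theorem sesq_sympForm : Sesq (RingEquiv.refl F) (sympForm m F) where
  add_left := sympForm_add_left
  smul_left c x v := sympForm_smul_left c x v
  add_right := sympForm_add_right
  smul_right c v x := by simpa using sympForm_smul_right c v x
  eq_zero w hw := by
    by_contra h
    obtain ⟨x, hx⟩ := exists_sympForm_eq_one h
    rw [sympForm_swap, hw] at hx
    simp at hx
  refl v w h := by rw [sympForm_swap, h, neg_zero]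

theorem mem_spGL {g : GL (Fin m ⊕ Fin m) F} :
    g ∈ spGL m F ↔ ∀ x y, B ((g : Mn) *ᵥ x) ((g : Mn) *ᵥ y) = B x y := Iff.rfl

/-- All symplectic transvections are in `M`. -/
def Pt (M : Subgroup (GL (Fin m ⊕ Fin m) F)) (v : Fin m ⊕ Fin m → F) : Prop :=
  ∀ c : F, InT M v (fn (sympForm m F) (c • v))

variable {M : Subgroup (GL (Fin m ⊕ Fin m) F)}

theorem Pt.zero : Pt M (0 : Fin m ⊕ Fin m → F) := fun _ => InT.zero_left _

theorem Pt.smul {v : V} (h : Pt M v) (a : F) : Pt M (a • v) := fun c => by
  rcases eq_or_ne a 0 with rfl | ha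
  · rw [zero_smul]; exact InT.zero_left _
  have := (h (a * (c * a))).smul_left a ha
  rwa [fn_smul sesq_sympForm, RingEquiv.refl_apply, smul_smul, inv_mul_cancel_left₀ ha,
    show (c * a) • fn (sympForm m F) v = fn (sympForm m F) (c • a • v) by
      rw [smul_smul, fn_smul sesq_sympForm, RingEquiv.refl_apply]] at this

theorem Pt.map {v : V} (h : Pt M v) {g : GL (Fin m ⊕ Fin m) F} (hg : g ∈ M) (hgs : g ∈ spGL m F) :
    Pt M ((g : Mn) *ᵥ v) := fun c => by
  have := (h c).fn_conj sesq_sympForm hg (mem_spGL.1 hgs)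
  rwa [Matrix.mulVec_smul] at this

theorem Pt.add {v w : V} (hv : Pt M v) (hw : Pt M w) (h : B v w ≠ 0) : Pt M (v + w) := fun c => by
  obtain ⟨g, hg, hgx⟩ := hw (B v w)⁻¹
  have hgx' : ∀ x, (g : Mn) *ᵥ x = x + ((B v w)⁻¹ * B x w) • w := fun x => by
    rw [hgx, fn_dot sesq_sympForm, sympForm_smul_right]
  have hgs := isometry_tv sesq_sympForm (sympForm_self w) (c := (B v w)⁻¹)
    (fun x y => by rw [RingEquiv.refl_apply, sympForm_swap y w]; ring) hgx'
  have := (hv c).fn_conj sesq_sympForm hg hgs
  rwa [hgx' v, inv_mul_cancel₀ h, one_smul, Matrix.mulVec_smul, hgx' v, inv_mul_cancel₀ h, one_smul] at this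

/-- All transvections give all of `Sp`. -/
theorem spGL_le (h : ∀ v, Pt M v) : spGL m F ≤ M := by
  intro g hg
  let φ : Matrix.symplecticGroup (Fin m) F →* GL (Fin m ⊕ Fin m) F :=
    MonoidHom.toHomUnits (Submonoid.subtype (Matrix.symplecticGroup (Fin m) F))
  have hle : (⊤ : Subgroup (Matrix.symplecticGroup (Fin m) F)) ≤ M.comap φ := by
    rw [← closure_sympTvSet, Subgroup.closure_le]
    rintro A ⟨v, c, hvc⟩
    obtain ⟨k, hk, hkx⟩ := h v c
    show φ A ∈ M
    convert hk using 1
    refine Units.ext (Matrix.ext_iff_mulVec.2 fun x => ?_)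
    show (A : Mn) *ᵥ x = _
    rw [hvc]
    rw [sympTransvection_mulVec, hkx, fn_dot sesq_sympForm, sympForm_smul_right]
  have h1 : φ ⟨(g : Mn), mem_symplecticGroup_iff_form.2 (mem_spGL.1 hg)⟩ ∈ M := hle (Subgroup.mem_top _)
  exact (show φ ⟨(g : Mn), mem_symplecticGroup_iff_form.2 (mem_spGL.1 hg)⟩ = g from Units.ext rfl) ▸ h1

theorem exists_sp_tv (v : V) (c : F) : ∃ g ∈ spGL m F, ∀ x, (g : Mn) *ᵥ x = x + (c * B x v) • v := by
  obtain ⟨g, -, hi, hg⟩ := exists_isometry_tv sesq_sympForm (sympForm_self v) (c := c)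
    (fun x y => by rw [RingEquiv.refl_apply, sympForm_swap y v]; ring)
  exact ⟨g, mem_spGL.2 hi, hg⟩

/-- Non-degenerate subspaces of equal dimension are isometric. -/
theorem exists_sp_map {W W' : Submodule F (Fin m ⊕ Fin m → F)} (hW : Geo.IsNondegenerateOn (sympForm m F) W)
    (hW' : Geo.IsNondegenerateOn (sympForm m F) W') (hd : finrank F W = finrank F W') :
    ∃ L : (Fin m ⊕ Fin m → F) →ₗ[F] (Fin m ⊕ Fin m → F),
      (∀ x ∈ W, L x ∈ W') ∧ ∀ x ∈ W, ∀ y ∈ W, B (L x) (L y) = B x y := by
  have hA : (sympB m F).IsAlt := fun v => by rw [sympB_apply, sympForm_self]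
  have hfam : ∀ U : Submodule F V, Geo.IsNondegenerateOn (sympForm m F) U →
      ∃ (k : ℕ) (e f : Fin k → V), 2 * k = finrank F U ∧ (∀ i, e i ∈ U ∧ f i ∈ U) ∧
        (∀ i j, B (e i) (f j) = if i = j then 1 else 0) ∧ (∀ i j, B (e i) (e j) = 0) ∧
        (∀ i j, B (f i) (f j) = 0) ∧ U ≤ Submodule.span F (Set.range e ∪ Set.range f) := fun U hU => by
    obtain ⟨k, l, e, f, r, hkl, hef, hr, h1, h2, h3, h4, hsp⟩ := exists_symplectic_family (sympB m F) hA _ U rfl
    have hr0 : ∀ j, r j = 0 := fun j => by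
      by_contra hne
      obtain ⟨-, x, hx, hne'⟩ := hU (r j) (hr j) hne
      exact hne' (by rw [← sympB_apply]; exact h4 j x hx)
    have hsp' : U ≤ Submodule.span F (Set.range e ∪ Set.range f) := hsp.trans (Submodule.span_le.2 (by
      rintro x (hx | ⟨j, rfl⟩)
      · exact Submodule.subset_span hx
      · rw [hr0]; exact zero_mem _))
    have hle := (Submodule.finrank_mono hsp').trans
      (show finrank F (Submodule.span F (Set.range e ∪ Set.range f)) ≤ 2 * k by
        rw [Submodule.span_union]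
        refine (Submodule.finrank_add_le_finrank_add_finrank _ _).trans ?_
        have he := finrank_range_le_card (R := F) e
        have hf := finrank_range_le_card (R := F) f
        simp only [Fintype.card_fin, Set.finrank] at he hf
        omega)
    exact ⟨k, e, f, by omega, hef, fun i j => by rw [← sympB_apply, h1],
      fun i j => by rw [← sympB_apply, h2], fun i j => by rw [← sympB_apply, h3], hsp'⟩
  obtain ⟨k, e, f, hk, hef, h1, h2, h3, hsp⟩ := hfam W hW
  obtain ⟨k', e', f', hk', hef', h1', h2', h3', -⟩ := hfam W' hW'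
  obtain rfl : k' = k := by omega
  -- expansions in the two bases
  let E : (Fin k' → V) → (Fin k' → V) → (V →ₗ[F] V) := fun a b =>
    ∑ i, (((sympB m F).flip (f i)).smulRight (a i) + (sympB m F (e i)).smulRight (b i))
  have hE : ∀ a b x, E a b x = ∑ i, (B x (f i) • a i + B (e i) x • b i) := fun a b x => by
    simp only [E, LinearMap.sum_apply, LinearMap.add_apply, LinearMap.smulRight_apply, LinearMap.BilinForm.flip_apply,
      sympB_apply]
  have hform : ∀ a b, (∀ i j, B (a i) (b j) = if i = j then 1 else 0) → (∀ i j, B (a i) (a j) = 0) →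
      (∀ i j, B (b i) (b j) = 0) →
      ∀ x y, B (E a b x) (E a b y) = ∑ i, (B x (f i) * B (e i) y - B (e i) x * B y (f i)) :=
    fun a b hab haa hbb x y => by
    have hba : ∀ i j, B (b i) (a j) = if i = j then -1 else 0 := fun i j => by
      rw [sympForm_swap, hab]
      by_cases h : i = j
      · simp [h]
      · simp [h, Ne.symm h]
    rw [hE, hE, ← sympB_apply]
    simp only [map_sum, LinearMap.sum_apply, map_add, LinearMap.add_apply, map_smul, LinearMap.smul_apply,
      smul_eq_mul, sympB_apply, hab, haa, hbb, hba, mul_zero, add_zero, zero_add, mul_ite, mul_one, mul_neg,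
      Finset.sum_add_distrib, Finset.sum_const_zero, Finset.sum_ite_eq, Finset.sum_ite_eq', Finset.mem_univ, if_true, sub_eq_add_neg]
    rw [add_comm]
    refine congrArg₂ _ (Finset.sum_congr rfl fun i _ => by ring) (Finset.sum_congr rfl fun i _ => by ring)
  have hrep : ∀ x ∈ W, E e f x = x := fun x hx => by
    have hW1 : E e f x - x ∈ W := sub_mem (by
      rw [hE]; exact Submodule.sum_mem _ fun i _ =>
        add_mem (W.smul_mem _ (hef i).1) (W.smul_mem _ (hef i).2)) hx
    have hz : ∀ u ∈ W, B (E e f x - x) u = 0 := by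
      intro u hu
      have hu' := hsp hu
      rw [← sympB_apply]
      revert hu'
      refine fun hu' => LinearMap.mem_ker.1 ((Submodule.span_le (p := LinearMap.ker (sympB m F (E e f x - x)))).2 ?_ hu')
      rintro _ (⟨j, rfl⟩ | ⟨j, rfl⟩)
      · rw [SetLike.mem_coe, LinearMap.mem_ker, map_sub, LinearMap.sub_apply, hE]
        simp only [map_sum, LinearMap.sum_apply, map_add, LinearMap.add_apply, map_smul, LinearMap.smul_apply,
          smul_eq_mul, sympB_apply, h2, sympForm_swap (f _) (e j), h1]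
        simp [sympForm_swap x (e j)]
      · rw [SetLike.mem_coe, LinearMap.mem_ker, map_sub, LinearMap.sub_apply, hE]
        simp only [map_sum, LinearMap.sum_apply, map_add, LinearMap.add_apply, map_smul, LinearMap.smul_apply,
          smul_eq_mul, sympB_apply, h1, h3]
        simp
    by_contra hne
    obtain ⟨-, u, hu, hne'⟩ := hW _ hW1 (sub_ne_zero.2 hne)
    exact hne' (hz u hu)
  refine ⟨E e' f', fun x _ => by
    rw [hE]; exact Submodule.sum_mem _ fun i _ =>
      add_mem (W'.smul_mem _ (hef' i).1) (W'.smul_mem _ (hef' i).2), fun x hx y hy => ?_⟩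
  rw [hform e' f' h1' h2' h3']
  conv_rhs => rw [← hrep x hx, ← hrep y hy, hform e f h1 h2 h3]

/-- Stabilisers of orthogonal decompositions are maximal in `Sp`. -/
theorem symplectic_wreath_maximal [Fintype F] {t : ℕ} (k : ℕ) (D : Fin t → Submodule F (Fin m ⊕ Fin m → F))
    (hD : Geo.IsNondegenerateMDecomposition (sympForm m F) k D) (hex : ¬ (k = 2 ∧ Fintype.card F = 2)) :
    Geo.IsMaximalIn (spGL m F) (Geo.decompositionStabilizer D ⊓ spGL m F) := by
  obtain ⟨⟨ht, hk0, hk, hind, htop⟩, hnd, horth⟩ := hD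
  obtain ⟨p, hp⟩ := exists_proj hind htop
  have hs : Sesq (RingEquiv.refl F) (sympForm m F) := sesq_sympForm
  have hne : ∀ i, D i ≠ ⊥ := fun i e => by have := hk i; rw [e, finrank_bot] at this; omega
  have hm' : ∀ i j, finrank F (D i) = finrank F (D j) := fun i j => by rw [hk, hk]
  obtain ⟨a₀, b₀, hab₀⟩ : ∃ a b : Fin t, a ≠ b :=
    ⟨⟨0, by omega⟩, ⟨1, by omega⟩, by simp⟩
  refine isMaximalIn_intro inf_le_right (fun hle => ?_) fun M hHM hMK g hgM hgH => ?_
  · obtain ⟨x, hx, hx0⟩ := Submodule.exists_mem_ne_zero_of_ne_bot (hne a₀)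
    obtain ⟨z, hz, hz0⟩ := Submodule.exists_mem_ne_zero_of_ne_bot (hne b₀)
    obtain ⟨⟨y, hy, hyx⟩, -⟩ := hnd a₀ x hx hx0
    obtain ⟨g, hg, hgx⟩ := exists_sp_tv (x + z) 1
    obtain ⟨τ, hτ⟩ := (hle hg).1
    have hmem : (g : Mn) *ᵥ y ∈ D (τ a₀) := by
      rw [← hτ a₀]; exact ⟨y, hy, Matrix.toLin'_apply _ _⟩
    rw [hgx, one_mul, sympForm_add_right, horth a₀ b₀ hab₀ y hy z hz, add_zero] at hmem
    have hb : p b₀ (y + B y x • (x + z)) = B y x • z := by
      rw [map_add, map_smul, map_add, hp.other b₀ a₀ (Ne.symm hab₀) y hy, hp.other b₀ a₀ (Ne.symm hab₀) x hx,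
        hp.self b₀ z hz, zero_add, zero_add]
    have ha : p a₀ (y + B y x • (x + z)) = y + B y x • x := by
      rw [map_add, map_smul, map_add, hp.self a₀ y hy, hp.self a₀ x hx, hp.other a₀ b₀ hab₀ z hz, add_zero]
    have hτb : τ a₀ = b₀ := by
      by_contra h
      rw [hp.other b₀ (τ a₀) (Ne.symm h) _ hmem] at hb
      exact smul_ne_zero hyx hz0 hb.symm
    rw [hτb] at hmem
    rw [hp.other a₀ b₀ hab₀ _ hmem] at ha
    have hy' : y = -(B y x • x) := eq_neg_of_add_eq_zero_left ha.symm
    refine hyx ?_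
    rw [hy', ← sympB_apply, map_neg, LinearMap.neg_apply, map_smul, LinearMap.smul_apply, sympB_apply,
      sympForm_self, smul_zero, neg_zero]
  have hg' : g ∉ Geo.decompositionStabilizer D := fun h => hgH ⟨h, hMK hgM⟩
  have hblock : ∀ i, ∀ v ∈ D i, Pt M v := fun i v hv c => by
    obtain ⟨T, hTs, hT⟩ := exists_sp_tv v c
    refine ⟨T, hHM ⟨hp.mem_stabilizer hm' id (fun j x hx => ?_) hne, hTs⟩,
      fun x => by rw [hT, fn_dot hs, sympForm_smul_right]⟩
    rw [hT]
    by_cases hij : j = i
    · subst hij; exact add_mem hx ((D j).smul_mem _ hv)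
    · rw [horth j i hij x hx v hv, mul_zero, zero_smul, add_zero]; exact hx
  have hrepl : ∀ v, Pt M v → ∀ i, ∀ u ∈ D i, u ≠ 0 → p i v ≠ 0 → Pt M (v - p i v + u) := by
    intro v hv i u hu hu0 hpv
    have step : ∀ v, Pt M v → ∀ u ∈ D i, B (p i v) u ≠ 0 → Pt M (v - p i v + u) := fun v hv u hu hne' => by
      have hw : u - p i v ∈ D i := sub_mem hu (hp.mem i v)
      have := hv.add (hblock i _ hw) (by
        have : B v (u - p i v) = B (p i v) u := by
          rw [← neg_inj, ← sympForm_swap, hp.form_left hs horth i hw v, sympForm_sub_left, sympForm_self,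
            sub_zero, sympForm_swap]
        rw [this]; exact hne')
      convert this using 1
      abel
    obtain ⟨⟨x₁, hx₁, hx₁'⟩, -⟩ := hnd i _ (hp.mem i v) hpv
    obtain ⟨⟨x₂, hx₂, hx₂'⟩, -⟩ := hnd i u hu hu0
    obtain ⟨z, hz, hza, hzb⟩ := exists_both (S := D i) (hs.lin (p i v)) (hs.lin u) ⟨x₁, hx₁, hx₁'⟩ ⟨x₂, hx₂, hx₂'⟩
    have h1 := step v hv z hz fun e => hza (hs.refl _ _ e)
    have hpz : p i (v - p i v + z) = z := by
      rw [map_add, map_sub, hp.self i _ (hp.mem i v), sub_self, zero_add, hp.self i z hz]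
    have h2 := step _ h1 u hu (by rw [hpz]; exact hzb)
    rw [hpz] at h2
    simpa using h2
  have hswap : ∀ a b : Fin t, a ≠ b → ∃ h ∈ M, h ∈ spGL m F ∧
      ∀ i, ∀ x ∈ D i, (h : Mn) *ᵥ x ∈ D (Equiv.swap a b i) := fun a b hab => by
    obtain ⟨L, hL, hLf⟩ := exists_sp_map (hnd a) (hnd b) (hm' a b)
    obtain ⟨L', hL', hLf'⟩ := exists_sp_map (hnd b) (hnd a) (hm' b a)
    obtain ⟨h, hh, hhD⟩ := hp.exists_swap hs horth hab L L' hL hL' hLf hLf'
    exact ⟨h, hHM ⟨hp.mem_stabilizer hm' _ hhD hne, mem_spGL.2 hh⟩, mem_spGL.2 hh, hhD⟩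
  let Q2 : Fin t → Fin t → Prop := fun a b => ∀ x ∈ D a, x ≠ 0 → ∀ y ∈ D b, y ≠ 0 → Pt M (x + y)
  obtain ⟨a, b, hab, hQ⟩ : ∃ a b, a ≠ b ∧ Q2 a b := by
    obtain ⟨i₀, x₀, hx₀, a, b, hab, ha, hb⟩ := hp.exists_spread hm' hne hg'
    set v := (g : Mn) *ᵥ x₀
    have hv : Pt M v := (hblock i₀ x₀ hx₀).map hgM (hMK hgM)
    obtain ⟨-, z₁, hz₁, hz₁'⟩ := hnd a _ (hp.mem a v) ha
    set z := (B (p a v) z₁)⁻¹ • z₁ with hzdef
    have hz : z ∈ D a := (D a).smul_mem _ hz₁
    have hz1 : B (p a v) z = 1 := by rw [hzdef, sympForm_smul_right, inv_mul_cancel₀ hz₁']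
    have hz0 : z ≠ 0 := fun e => by rw [e, hs.zero_right] at hz1; exact zero_ne_one hz1
    obtain ⟨u, hu, hu0, hun, huv⟩ : ∃ u ∈ D b, u ≠ 0 ∧ p b v + u ≠ 0 ∧ B (p b v) u = 0 := by
      by_cases hq : 2 < Fintype.card F
      · classical
        obtain ⟨c, hc0, hc1⟩ : ∃ c : F, c ≠ 0 ∧ c ≠ -1 := by
          by_contra hc
          push Not at hc
          have : (Finset.univ : Finset F) ⊆ {0, -1} := fun x _ => by
            by_cases hx : x = 0 <;> simp [hx, hc x]
          have := (Finset.card_le_card this).trans Finset.card_le_two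
          rw [Finset.card_univ] at this
          omega
        refine ⟨c • p b v, (D b).smul_mem _ (hp.mem b v), smul_ne_zero hc0 hb, ?_, by
          rw [sympForm_smul_right, sympForm_self, mul_zero]⟩
        rw [show p b v + c • p b v = (1 + c) • p b v by module]
        exact smul_ne_zero (fun e => hc1 (by linear_combination e)) hb
      · have h1 := finrank_le_inf_ker_add_one (D b) (hs.lin (p b v))
        have h2 : 3 ≤ k := by
          have := Fintype.one_lt_card (α := F)
          have hk2 : k ≠ 2 := fun e => hex ⟨e, by omega⟩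
          have hk1 : k ≠ 1 := fun e => by
            obtain ⟨⟨y, hy, hy'⟩, -⟩ := hnd b _ (hp.mem b v) hb
            obtain ⟨c, hc⟩ := (finrank_eq_one_iff_of_nonzero' (⟨p b v, hp.mem b v⟩ : D b)
              (fun h => hb (congrArg Subtype.val h))).1 ((hk b).trans e) ⟨y, hy⟩
            have : y = c • p b v := (congrArg Subtype.val hc).symm
            exact hy' (by rw [this, sympForm_smul_left, sympForm_self, mul_zero])
          omega
        have h3 := hk b
        obtain ⟨u, hu, hun⟩ : ∃ u ∈ D b ⊓ LinearMap.ker (hs.lin (p b v)), u ∉ (F ∙ p b v) := by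
          by_contra hc
          push Not at hc
          have := Submodule.finrank_mono
            (show D b ⊓ LinearMap.ker (hs.lin (p b v)) ≤ F ∙ p b v from hc)
          rw [finrank_span_singleton hb] at this
          omega
        refine ⟨u, hu.1, fun e => hun (by rw [e]; exact zero_mem _), fun e => hun ?_, hs.refl _ _ hu.2⟩
        rw [eq_neg_of_add_eq_zero_right e]
        exact neg_mem (Submodule.mem_span_singleton_self _)
    have h1 := hrepl _ (hv.smul (-1)) a z hz hz0 (by rw [map_smul]; simpa using ha)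
    have h2 := hrepl _ h1 b u hu hu0 (by
      rw [map_add, map_sub, map_smul, hp.comp, if_neg (Ne.symm hab), hp.other b a (Ne.symm hab) z hz, sub_zero,
        add_zero]
      simpa using hb)
    set v' := (-1 : F) • v - p a ((-1 : F) • v) + z - p b ((-1 : F) • v - p a ((-1 : F) • v) + z) + u with hv'
    have hform : B v v' = 1 := by
      rw [hp.form_eq_sum hs horth, Finset.sum_eq_add_of_mem a b (Finset.mem_univ _) (Finset.mem_univ _) hab]
      · simp [hv', map_smul, hp.comp, hab, Ne.symm hab, hp.self a z hz, hp.other b a (Ne.symm hab) z hz,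
          hp.self b u hu, hp.other a b hab u hu, hz1, huv]
      · intro i _ hi
        simp [hv', map_smul, hp.comp, hi.1, hi.2, Ne.symm hab, hp.other i a hi.1 z hz, hp.other i b hi.2 u hu,
          sympForm_self, sympB_apply, ← sympForm_swap, sympForm_smul_right]
        rw [← neg_one_smul F (p i v), sympForm_smul_right, sympForm_self, mul_zero]
    have h3 := hv.add h2 (by rw [hform]; exact one_ne_zero)
    have h4 : v + v' = (p a v + z) + (p b v + u) := by
      refine hp.ext fun i => ?_
      rw [hv']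
      by_cases hia : i = a
      · subst hia
        simp [map_smul, hp.comp, hab, Ne.symm hab, hp.self _ z hz, hp.other _ b hab u hu]
      by_cases hib : i = b
      · subst hib
        simp [map_smul, hp.comp, hia, Ne.symm hia, hp.self _ u hu, hp.other _ a hia z hz]
      · simp [map_smul, hp.comp, hia, hib, Ne.symm hab, hp.other i a hia z hz, hp.other i b hib u hu]
    rw [h4] at h3
    refine ⟨a, b, hab, fun x hx hx0 y hy hy0 => ?_⟩
    have hA : p a v + z ∈ D a := add_mem (hp.mem a v) hz
    have hB : p b v + u ∈ D b := add_mem (hp.mem b v) hu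
    have hA0 : p a v + z ≠ 0 := fun e => by
      rw [eq_neg_of_add_eq_zero_right e, ← sympB_apply, map_neg, sympB_apply, sympForm_self, neg_zero] at hz1
      exact zero_ne_one hz1
    have h5 := hrepl _ h3 a x hx hx0 (by
      rw [map_add, hp.self a _ hA, hp.other a b hab _ hB, add_zero]; exact hA0)
    rw [map_add (p a), hp.self a _ hA, hp.other a b hab _ hB, add_zero, add_sub_cancel_left] at h5
    have h6 := hrepl _ h5 b y hy hy0 (by
      rw [map_add, hp.self b _ hB, hp.other b a (Ne.symm hab) x hx, add_zero]; exact hun)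
    rw [map_add (p b), hp.self b _ hB, hp.other b a (Ne.symm hab) x hx, add_zero, add_sub_cancel_left] at h6
    exact h6
  have hsym : ∀ a b, Q2 a b → Q2 b a := fun a b h x hx hx0 y hy hy0 => by
    rw [add_comm]; exact h y hy hy0 x hx hx0
  have hperm : ∀ a b, Q2 a b → ∀ c d, c ≠ d → Q2 (Equiv.swap c d a) (Equiv.swap c d b) :=
    fun a b h c d hcd x hx hx0 y hy hy0 => by
    obtain ⟨T, hTM, hTs, hTD⟩ := hswap c d hcd
    obtain ⟨τ, hτ⟩ : T ∈ Geo.decompositionStabilizer D := hp.mem_stabilizer hm' _ hTD hne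
    have hback : ∀ i, ∀ z ∈ D (Equiv.swap c d i), ∃ z' ∈ D i, (T : Mn) *ᵥ z' = z := fun i z hz => by
      have : (D i).map (Matrix.toLin' (T : Mn)) = D (Equiv.swap c d i) := by
        refine Submodule.eq_of_le_of_finrank_eq ?_ (by rw [hτ i, hm'])
        rintro _ ⟨w, hw, rfl⟩
        rw [Matrix.toLin'_apply]
        exact hTD i w hw
      rw [← this] at hz
      obtain ⟨z', hz', e⟩ := hz
      exact ⟨z', hz', by rw [← e, Matrix.toLin'_apply]⟩
    obtain ⟨x', hx', rfl⟩ := hback a x hx
    obtain ⟨y', hy', rfl⟩ := hback b y hy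
    rw [← Matrix.mulVec_add]
    exact (h x' hx' (fun e => hx0 (by rw [e, Matrix.mulVec_zero])) y' hy'
      (fun e => hy0 (by rw [e, Matrix.mulVec_zero]))).map hTM hTs
  have hA : ∀ c, c ≠ a → Q2 a c := fun c hc => by
    rcases eq_or_ne c b with rfl | hcb
    · exact hQ
    · have := hperm a b hQ b c (Ne.symm hcb)
      rwa [Equiv.swap_apply_left, Equiv.swap_apply_of_ne_of_ne hab (Ne.symm hc)] at this
  have hall2 : ∀ c d, c ≠ d → Q2 c d := fun c d hcd => by
    rcases eq_or_ne c a with rfl | hca
    · exact hA d (Ne.symm hcd)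
    rcases eq_or_ne d a with rfl | hda
    · exact hsym _ _ (hA c hca)
    have := hperm a d (hA d hda) a c (Ne.symm hca)
    rwa [Equiv.swap_apply_left, Equiv.swap_apply_of_ne_of_ne hda (Ne.symm hcd)] at this
  refine spGL_le fun v => ?_
  classical
  induction hn : (Finset.univ.filter fun i => p i v ≠ 0).card using Nat.strong_induction_on generalizing v with
  | _ n ih =>
    set s := Finset.univ.filter fun i => p i v ≠ 0 with hsdef
    have hmem : ∀ i, i ∈ s ↔ p i v ≠ 0 := fun i => by simp [hsdef]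
    rcases Nat.lt_or_ge s.card 2 with h2 | h2
    · rcases s.eq_empty_or_nonempty with h0 | ⟨c, hc⟩
      · rw [show v = 0 from hp.ext fun i => by
          have := (hmem i).not.1 (h0 ▸ Finset.notMem_empty i)
          simpa using this]
        exact Pt.zero
      · refine hblock c v (hp.mem_of_forall fun j hj => ?_)
        by_contra h
        exact hj (Finset.card_le_one.1 (by omega) j ((hmem j).2 h) c hc)
    obtain ⟨c, hc, d, hd, hcd⟩ := Finset.one_lt_card.1 h2
    rcases Nat.lt_or_ge s.card 3 with h3 | h3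
    · have : v = p c v + p d v := hp.ext fun i => by
        rw [map_add, hp.comp, hp.comp]
        split_ifs with h4 h5 h6
        · exact absurd (h4.symm.trans h5) hcd
        · subst h4; simp
        · subst h6; simp
        · simp only [add_zero]
          by_contra h
          have hsub : ({i, c, d} : Finset (Fin t)) ⊆ s := by
            intro j hj; simp only [Finset.mem_insert, Finset.mem_singleton] at hj
            rcases hj with rfl | rfl | rfl
            exacts [(hmem _).2 h, hc, hd]
          have := Finset.card_le_card hsub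
          rw [Finset.card_insert_of_notMem (by simp [h4, h6]), Finset.card_pair hcd] at this
          omega
      rw [this]
      exact hall2 c d hcd _ (hp.mem c v) ((hmem c).1 hc) _ (hp.mem d v) ((hmem d).1 hd)
    obtain ⟨-, y₀, hy₀, hy₀'⟩ := hnd d _ (hp.mem d v) ((hmem d).1 hd)
    set x := v - p c v - y₀ with hx
    have hy₀0 : y₀ ≠ 0 := fun e => hy₀' (by rw [e, hs.zero_right])
    have hpx : ∀ i, p i x = if i = c then 0 else if i = d then p d v - y₀ else p i v := fun i => by
      rw [hx, map_sub, map_sub, hp.comp]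
      split_ifs with h4 h5
      · subst h4; rw [hp.other _ _ hcd _ hy₀]; simp
      · subst h5; rw [hp.self _ _ hy₀, sub_zero]
      · rw [hp.other _ _ h5 _ hy₀]; simp
    have hxd : p d v - y₀ ≠ 0 := fun e => hy₀' (by rw [← sub_eq_zero.1 e, sympForm_self])
    have hlt : (Finset.univ.filter fun i => p i x ≠ 0).card < n := by
      rw [← hn]
      refine Finset.card_lt_card ⟨fun i hi => ?_, fun hh => ?_⟩
      · simp only [Finset.mem_filter, Finset.mem_univ, true_and, hpx] at hi
        split_ifs at hi with h4 h5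
        · simp at hi
        · subst h5; exact hd
        · exact (hmem i).2 hi
      · have := hh hc
        simp [hpx] at this
    have hX := ih _ hlt x rfl
    have hY := hall2 c d hcd _ (hp.mem c v) ((hmem c).1 hc) y₀ hy₀ hy₀0
    have hXY : B x (p c v + y₀) = B (p d v) y₀ := by
      rw [sympForm_add_right, sympForm_swap x (p c v), sympForm_swap x y₀, hp.form_left hs horth c (hp.mem c v) x,
        hp.form_left hs horth d hy₀ x, hpx, hpx, if_pos rfl, if_neg (Ne.symm hcd), if_pos rfl, hs.zero_right,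
        neg_zero, zero_add, ← sympForm_swap, sympForm_sub_left, sympForm_self, sub_zero]
    have := hX.add hY (by rw [hXY]; exact hy₀')
    rwa [show x + (p c v + y₀) = v by rw [hx]; abel] at this

end Cfsg.Agent.Classical.MaxTv
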