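import Cfsg.Agent.Lib.Classical.InvariantCharpoly

/-! Elements of prime order permuting the summands of a decomposition; multiplicity of the eigenvalue one. -/

set_option autoImplicit false
set_option linter.unusedSectionVars false

namespace Cfsg.Agent.PermutedDecomposition

open Polynomial Module

variable {F V : Type*} [Field F] [AddCommGroup V] [Module F V] [FiniteDimensional F V]

/-- For `g ^ r = 1`, `r` invertible, the eigenvalue one is semisimple. -/
theorem rootMultiplicity_eq (g : Module.End F V) {r : ℕ} (hr0 : (r : F) ≠ 0) (hgr : g ^ r = 1) :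
    g.charpoly.rootMultiplicity 1 = finrank F (LinearMap.ker (g - 1)) := by
  classical
  set K := LinearMap.ker (g - 1)
  have hgK : ∀ v ∈ K, g v = v := fun v hv => sub_eq_zero.1 (LinearMap.mem_ker.1 hv)
  have hK : K ≤ K.comap g := fun v hv => by rw [Submodule.mem_comap, hgK v hv]; exact hv
  have h1 : (g.restrict hK).charpoly = (X - C 1) ^ finrank F K := by
    rw [show g.restrict (p := K) (q := K) hK = 1 from LinearMap.ext fun v => Subtype.ext (hgK v.1 v.2), LinearMap.charpoly_one, map_one]
  have h3 : (K.mapQ K g hK).charpoly.rootMultiplicity 1 = 0 := by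
    refine rootMultiplicity_eq_zero fun hroot => ?_
    obtain ⟨w, hw⟩ := ((Module.End.hasEigenvalue_iff_isRoot_charpoly (K.mapQ K g hK) 1).2 hroot).exists_hasEigenvector
    obtain ⟨v, rfl⟩ := Submodule.Quotient.mk_surjective K w
    have hmem : g v - v ∈ K := by
      have h := hw.apply_eq_smul
      rw [one_smul, Submodule.mapQ_apply] at h
      exact (Submodule.Quotient.eq K).1 h
    have hpow : ∀ i : ℕ, (g ^ i) v = v + (i : F) • (g v - v) := fun i => by
      induction i with
      | zero => simp
      | succ i ih =>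
        rw [pow_succ', Module.End.mul_apply, ih, map_add, map_smul, hgK _ hmem, Nat.cast_succ]
        module
    have h := hpow r
    rw [hgr, Module.End.one_apply, left_eq_add, smul_eq_zero, or_iff_right hr0] at h
    exact hw.2 ((Submodule.Quotient.mk_eq_zero K).2 (LinearMap.mem_ker.2 h))
  rw [InvCharpoly.charpoly_mul K g hK, rootMultiplicity_mul (mul_ne_zero (LinearMap.charpoly_monic _).ne_zero
    (LinearMap.charpoly_monic _).ne_zero), h1, rootMultiplicity_X_sub_C_pow, h3, add_zero]

variable {t : ℕ} {D : Fin t → Submodule F V} (hind : iSupIndep D) (htop : iSup D = ⊤)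

include hind htop in
theorem isCompl_others (j : Fin t) : IsCompl (D j) (⨆ (k : Fin t) (_ : k ≠ j), D k) := by
  refine ⟨hind j, ?_⟩
  rw [codisjoint_iff, eq_top_iff, ← htop]
  refine iSup_le fun k => ?_
  by_cases hk : k = j
  · exact hk ▸ le_sup_left
  · exact le_sup_of_le_right (le_iSup₂_of_le k hk le_rfl)

/-- The projection on a summand. -/
noncomputable def proj (hind : iSupIndep D) (htop : iSup D = ⊤) (j : Fin t) : V →ₗ[F] V :=
  (D j).subtype ∘ₗ Submodule.projectionOnto (D j) _ (isCompl_others hind htop j)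

theorem proj_self {j : Fin t} {v : V} (hv : v ∈ D j) : proj hind htop j v = v :=
  congrArg Subtype.val (Submodule.projectionOnto_apply_left (isCompl_others hind htop j) ⟨v, hv⟩)

theorem proj_ne {j k : Fin t} (hk : k ≠ j) {v : V} (hv : v ∈ D k) : proj hind htop j v = 0 := by
  show ((Submodule.projectionOnto (D j) _ (isCompl_others hind htop j) v : D j) : V) = 0
  rw [(Submodule.projectionOnto_apply_eq_zero_iff (isCompl_others hind htop j)).2
    ((le_iSup₂_of_le k hk le_rfl : D k ≤ _) hv), ZeroMemClass.coe_zero]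

variable (g : Module.End F V) (σ : Equiv.Perm (Fin t)) (hσ : ∀ j, (D j).map g = D (σ j))

include hσ in
theorem iter : ∀ (i : ℕ) (j : Fin t), (D j).map (g ^ i) = D ((σ ^ i) j) := by
  intro i
  induction i with
  | zero => intro j; rw [pow_zero, pow_zero]; exact Submodule.map_id _
  | succ i ih =>
    intro j
    rw [pow_succ', pow_succ', Equiv.Perm.mul_apply, ← hσ, ← ih]
    exact Submodule.map_comp _ _ _

include hσ in
theorem iter_mem (i : ℕ) {j : Fin t} {v : V} (hv : v ∈ D j) : (g ^ i) v ∈ D ((σ ^ i) j) :=
  iter g σ hσ i j ▸ Submodule.mem_map_of_mem hv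

variable {a r : ℕ} (ha : 0 < a) (hD : ∀ j, finrank F (D j) = a) (hr : r.Prime) (hgr : g ^ r = 1) {j₀ : Fin t}
  (hj₀ : σ j₀ ≠ j₀)

include hind hσ ha hD hr hgr hj₀ in
theorem orbit_inj {l l' : ℕ} (hl : l < r) (hl' : l' < r) (h : (σ ^ l) j₀ = (σ ^ l') j₀) : l = l' := by
  haveI := Fact.mk hr
  have hσp : (σ ^ r) j₀ = j₀ := by
    by_contra hne
    have h1 : D ((σ ^ r) j₀) = D j₀ := by rw [← iter g σ hσ, hgr]; exact Submodule.map_id _
    have h2 := (hind.pairwiseDisjoint (Ne.symm hne)).eq_bot_of_le h1.ge
    have h3 := hD j₀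
    rw [h2, finrank_bot] at h3
    omega
  have hper : Function.minimalPeriod σ j₀ = r := by
    refine Function.minimalPeriod_eq_prime ?_ hj₀
    show σ^[r] j₀ = j₀
    rwa [← Equiv.Perm.coe_pow]
  rw [Equiv.Perm.coe_pow, Equiv.Perm.coe_pow] at h
  exact Function.iterate_injOn_Iio_minimalPeriod (by rw [Set.mem_Iio, hper]; exact hl)
    (by rw [Set.mem_Iio, hper]; exact hl') h

include hind htop hσ ha hD hr hgr hj₀ in
/-- A moved summand gives fixed vectors. -/
theorem ker_ge : a ≤ finrank F (LinearMap.ker (g - 1)) := by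
  classical
  let S : Module.End F V := ∑ l ∈ Finset.range r, g ^ l
  have hS : ∀ v, S v ∈ LinearMap.ker (g - 1) := fun v => by
    rw [LinearMap.mem_ker, ← Module.End.mul_apply, show (g - 1) * S = g ^ r - 1 from mul_geom_sum g r, hgr, sub_self,
      LinearMap.zero_apply]
  let f : D j₀ →ₗ[F] LinearMap.ker (g - 1) := LinearMap.codRestrict _ (S ∘ₗ (D j₀).subtype) fun v => hS v.1
  rw [← hD j₀]
  refine LinearMap.finrank_le_finrank_of_injective (f := f) ((injective_iff_map_eq_zero f).2 fun v hv => Subtype.ext ?_)
  have h : S v.1 = 0 := congrArg Subtype.val hv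
  have h' := congrArg (proj hind htop j₀) h
  rw [map_zero, LinearMap.sum_apply, map_sum, Finset.sum_eq_single 0 (fun l hl hl0 => proj_ne hind htop (fun e =>
    hl0 (orbit_inj hind g σ hσ ha hD hr hgr hj₀ (Finset.mem_range.1 hl) hr.pos (by simpa using e)))
      (iter_mem g σ hσ l v.2)) (fun h0 => absurd (Finset.mem_range.2 hr.pos) h0), pow_zero,
    Module.End.one_apply, proj_self hind htop v.2] at h'
  exact h'

include hind htop hσ ha hD hr hgr hj₀ in
/-- A moved summand gives moved vectors. -/
theorem range_ge : (r - 1) * a ≤ finrank F (LinearMap.range (g - 1)) := by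
  classical
  let Φ : (Fin (r - 1) → D j₀) →ₗ[F] V := ∑ l : Fin (r - 1), (g ^ (l : ℕ)) ∘ₗ (D j₀).subtype ∘ₗ LinearMap.proj l
  have hΦ : ∀ u, Φ u = ∑ l : Fin (r - 1), (g ^ (l : ℕ)) (u l : V) := fun u => by simp [Φ]
  have hginj : Function.Injective g := fun x y e => by
    have h := congrArg (⇑(g ^ (r - 1))) e
    rwa [← Module.End.mul_apply, ← Module.End.mul_apply, ← pow_succ, Nat.sub_add_cancel hr.one_le, hgr] at h
  have hinj : Function.Injective ((g - 1) ∘ₗ Φ) := by
    refine (injective_iff_map_eq_zero _).2 fun u hu => ?_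
    have hfix : g (Φ u) = Φ u := sub_eq_zero.1 hu
    have hg : g (Φ u) = ∑ l : Fin (r - 1), (g ^ ((l : ℕ) + 1)) (u l : V) := by
      rw [hΦ, map_sum]
      exact Finset.sum_congr rfl fun l _ => by rw [pow_succ', Module.End.mul_apply]
    have hcomp : ∀ (n : ℕ) (hn : n < r - 1), (u ⟨n, hn⟩ : V) = 0 := by
      intro n
      induction n with
      | zero =>
        intro hn
        have h := congrArg (proj hind htop j₀) hfix
        rw [hg, hΦ, map_sum, map_sum, Finset.sum_eq_zero (fun l _ => proj_ne hind htop (fun e => by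
          have := orbit_inj hind g σ hσ ha hD hr hgr hj₀ (show (l : ℕ) + 1 < r by have := l.isLt; omega) hr.pos
            (by simpa using e)
          omega) (iter_mem g σ hσ _ (u l).2)), Finset.sum_eq_single (⟨0, hn⟩ : Fin (r - 1)) (fun l _ hl =>
          proj_ne hind htop (fun e => hl (Fin.ext (orbit_inj hind g σ hσ ha hD hr hgr hj₀
            (show (l : ℕ) < r by have := l.isLt; omega) hr.pos (by simpa using e)))) (iter_mem g σ hσ _ (u l).2))
          (fun h0 => absurd (Finset.mem_univ _) h0), pow_zero, Module.End.one_apply,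
          proj_self hind htop (u _).2] at h
        exact h.symm
      | succ n ih =>
        intro hn
        have h := congrArg (proj hind htop ((σ ^ (n + 1)) j₀)) hfix
        rw [hg, hΦ, map_sum, map_sum,
          Finset.sum_eq_single (⟨n, by omega⟩ : Fin (r - 1)) (fun l _ hl =>
          proj_ne hind htop (fun e => hl (Fin.ext (Nat.succ_injective (orbit_inj hind g σ hσ ha hD hr hgr hj₀
            (show (l : ℕ) + 1 < r by have := l.isLt; omega) (show n + 1 < r by omega) e)))) (iter_mem g σ hσ _ (u l).2))
          (fun h0 => absurd (Finset.mem_univ _) h0),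
          Finset.sum_eq_single (⟨n + 1, hn⟩ : Fin (r - 1)) (fun l _ hl =>
          proj_ne hind htop (fun e => hl (Fin.ext (orbit_inj hind g σ hσ ha hD hr hgr hj₀
            (show (l : ℕ) < r by have := l.isLt; omega) (show n + 1 < r by omega) e))) (iter_mem g σ hσ _ (u l).2))
          (fun h0 => absurd (Finset.mem_univ _) h0),
          proj_self hind htop (iter_mem g σ hσ _ (u _).2), proj_self hind htop (iter_mem g σ hσ _ (u _).2),
          ih (by omega), map_zero] at h
        have hpinj : ∀ k : ℕ, Function.Injective (g ^ k : Module.End F V) := fun k => by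
          induction k with
          | zero => exact fun x y e => e
          | succ k ihk =>
            intro x y e
            rw [pow_succ, Module.End.mul_apply, Module.End.mul_apply] at e
            exact hginj (ihk e)
        exact hpinj (n + 1) (by rw [← h, map_zero])
    funext l
    exact Subtype.ext (hcomp l.1 l.2)
  calc (r - 1) * a = finrank F (Fin (r - 1) → D j₀) := by rw [Module.finrank_pi_fintype]; simp [hD j₀]
    _ = finrank F (LinearMap.range ((g - 1) ∘ₗ Φ)) := (LinearMap.finrank_range_of_inj hinj).symm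
    _ ≤ _ := Submodule.finrank_mono (LinearMap.range_comp_le_range _ _)

include hind htop in
/-- Fixed summands: the fixed vectors add up. -/
theorem sum_ker_le (hfix : ∀ j, ∀ v ∈ D j, g v ∈ D j) :
    ∑ j, finrank F (LinearMap.ker (g.restrict (hfix j) - 1)) ≤ finrank F (LinearMap.ker (g - 1)) := by
  classical
  let f : (∀ j, LinearMap.ker (g.restrict (hfix j) - 1)) →ₗ[F] V :=
    ∑ j, (D j).subtype ∘ₗ (LinearMap.ker (g.restrict (hfix j) - 1)).subtype ∘ₗ LinearMap.proj j
  have hf : ∀ y, f y = ∑ j, ((y j).1 : V) := fun y => by simp [f]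
  have hmem : ∀ y, f y ∈ LinearMap.ker (g - 1) := fun y => by
    rw [hf]
    refine Submodule.sum_mem _ fun j _ => ?_
    have h : g.restrict (hfix j) (y j).1 = (y j).1 := sub_eq_zero.1 (LinearMap.mem_ker.1 (y j).2)
    rw [LinearMap.mem_ker, LinearMap.sub_apply, Module.End.one_apply]
    exact sub_eq_zero.2 (congrArg Subtype.val h)
  rw [← Module.finrank_pi_fintype]
  refine LinearMap.finrank_le_finrank_of_injective (f := LinearMap.codRestrict _ f hmem)
    ((injective_iff_map_eq_zero _).2 fun y hy => funext fun k => Subtype.ext (Subtype.ext ?_))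
  have h : f y = 0 := congrArg Subtype.val hy
  have h' := congrArg (proj hind htop k) h
  rw [map_zero, hf, map_sum, Finset.sum_eq_single k (fun j _ hj => proj_ne hind htop hj (y j).1.2)
    (fun h0 => absurd (Finset.mem_univ k) h0), proj_self hind htop (y k).1.2] at h'
  exact h'

end Cfsg.Agent.PermutedDecomposition
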