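import Cfsg.Agent.Lib.Classical.LinearDecompModels
import Cfsg.Agent.Lib.Classical.PermutedDecomposition

/-! Elements of odd prime order of linear groups stabilizing decompositions into equal summands. -/

set_option autoImplicit false
set_option linter.unusedSectionVars false

namespace Cfsg.Agent.LinearDecompDerange

open Polynomial Module UniqueFactorizationMonoid Cfsg.Agent.LinearDecompModels

variable {F : Type*} [Field F]

section General

variable {V : Type*} [AddCommGroup V] [Module F V] [FiniteDimensional F V] {t a : ℕ} {D : Fin t → Submodule F V}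

/-- The sum map. -/
noncomputable def sumMap (D : Fin t → Submodule F V) : (∀ j, D j) →ₗ[F] V :=
  ∑ j, (D j).subtype ∘ₗ LinearMap.proj j

theorem sumMap_single (j : Fin t) (v : D j) : sumMap D (Pi.single j v) = v.1 := by
  classical
  rw [sumMap, LinearMap.sum_apply, Finset.sum_eq_single j (fun k _ hk => by
    simp [Pi.single_eq_of_ne hk]) (fun h => absurd (Finset.mem_univ j) h)]
  simp

theorem sumMap_bijective (hD : IsDec a D) (hdim : finrank F V = a * t) : Function.Bijective (sumMap D) := by
  classical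
  have hs : Function.Surjective (sumMap D) := LinearMap.range_eq_top.1 (top_le_iff.1 (hD.2 ▸ iSup_le fun j v hv =>
    ⟨Pi.single j ⟨v, hv⟩, sumMap_single j _⟩))
  refine ⟨(LinearMap.injective_iff_surjective_of_finrank_eq_finrank ?_).2 hs, hs⟩
  rw [Module.finrank_pi_fintype, hdim]
  simp [hD.1, mul_comm]

theorem indep (hD : IsDec a D) (hdim : finrank F V = a * t) : iSupIndep D := by
  classical
  intro j
  rw [Submodule.disjoint_def]
  intro v hv hv'
  have hle : (⨆ (k : Fin t) (_ : k ≠ j), D k) ≤ (LinearMap.ker (LinearMap.proj (R := F) (φ := fun k => D k) j)).map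
      (sumMap D) := iSup₂_le fun k hk u hu => ⟨Pi.single k ⟨u, hu⟩, by
    simp [Pi.single_eq_of_ne (Ne.symm hk)], sumMap_single k _⟩
  obtain ⟨y, hy, he⟩ := hle hv'
  have h1 := (sumMap_bijective hD hdim).1 (he.trans (sumMap_single j ⟨v, hv⟩).symm)
  have h2 := LinearMap.mem_ker.1 hy
  rw [LinearMap.proj_apply, h1, Pi.single_eq_same] at h2
  exact congrArg Subtype.val h2

variable (hind : iSupIndep D) (htop : iSup D = ⊤) (g : Module.End F V) (σ : Equiv.Perm (Fin t))
  (hσ : ∀ j, (D j).map g = D (σ j)) {r : ℕ} (ha : 0 < a) (hD : ∀ j, finrank F (D j) = a) (hr : r.Prime)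
  (hgr : g ^ r = 1) (hr0 : (r : F) ≠ 0) (hfix : ∀ j, σ j = j → ∀ v ∈ D j, g v = v)

include hind htop hσ ha hD hr hgr hr0 hfix in
/-- Each orbit on the summands gives fixed vectors. -/
theorem card_le_ker : t * a ≤ r * finrank F (LinearMap.ker (g - 1)) := by
  classical
  have hσr : ∀ j, (σ ^ r) j = j := fun j => by
    by_contra hne
    have h1 : D ((σ ^ r) j) = D j := by rw [← PermutedDecomposition.iter g σ hσ, hgr]; exact Submodule.map_id _
    have h2 := (hind.pairwiseDisjoint (Ne.symm hne)).eq_bot_of_le h1.ge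
    have h3 := hD j
    rw [h2, finrank_bot] at h3
    omega
  let s := Equiv.Perm.SameCycle.setoid σ
  haveI := Fintype.ofFinite (Quotient s)
  have hcnt : t ≤ r * Fintype.card (Quotient s) := by
    let φ : Quotient s × Fin r → Fin t := fun x => (σ ^ (x.2 : ℕ)) x.1.out
    have hφ : Function.Surjective φ := fun j => by
      obtain ⟨k, hk⟩ : Equiv.Perm.SameCycle σ (Quotient.mk s j).out j := Quotient.mk_out (s := s) j
      refine ⟨(Quotient.mk s j, ⟨(k % (r : ℤ)).toNat, ?_⟩), ?_⟩
      · have := Int.emod_lt_of_pos k (by exact_mod_cast hr.pos : (0 : ℤ) < r)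
        have := Int.emod_nonneg k (by exact_mod_cast hr.ne_zero : (r : ℤ) ≠ 0)
        omega
      · show (σ ^ (k % (r : ℤ)).toNat) _ = j
        have hr1 : σ ^ (r : ℤ) = 1 := by rw [zpow_natCast]; exact Equiv.ext hσr
        conv_rhs => rw [← hk, ← Int.emod_add_mul_ediv k r, zpow_add, zpow_mul, hr1, one_zpow, mul_one]
        rw [← zpow_natCast, Int.toNat_of_nonneg (Int.emod_nonneg k (by exact_mod_cast hr.ne_zero))]
    have := Fintype.card_le_of_surjective φ hφ
    rw [Fintype.card_fin, Fintype.card_prod, Fintype.card_fin, mul_comm] at this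
    exact this
  let S : Module.End F V := ∑ l ∈ Finset.range r, g ^ l
  have hS : ∀ v, S v ∈ LinearMap.ker (g - 1) := fun v => by
    rw [LinearMap.mem_ker, ← Module.End.mul_apply, show (g - 1) * S = g ^ r - 1 from mul_geom_sum g r, hgr, sub_self,
      LinearMap.zero_apply]
  let f : (∀ x : Quotient s, D x.out) →ₗ[F] V := ∑ x : Quotient s, S ∘ₗ (D x.out).subtype ∘ₗ LinearMap.proj x
  have hf : ∀ y, f y = ∑ x, S (y x : V) := fun y => by simp [f]
  have hmem : ∀ y, f y ∈ LinearMap.ker (g - 1) := fun y => by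
    rw [hf]; exact Submodule.sum_mem _ fun x _ => hS _
  have hle := LinearMap.finrank_le_finrank_of_injective (f := LinearMap.codRestrict _ f hmem)
    ((injective_iff_map_eq_zero _).2 fun y hy => funext fun x₀ => Subtype.ext ?_)
  · rw [Module.finrank_pi_fintype, Finset.sum_congr rfl (fun x _ => hD _), Finset.sum_const, Finset.card_univ,
      smul_eq_mul] at hle
    calc t * a ≤ (r * Fintype.card (Quotient s)) * a := Nat.mul_le_mul_right a hcnt
      _ = r * (Fintype.card (Quotient s) * a) := mul_assoc _ _ _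
      _ ≤ _ := Nat.mul_le_mul_left r hle
  have hy0 : f y = 0 := congrArg Subtype.val hy
  have h := congrArg (PermutedDecomposition.proj hind htop x₀.out) hy0
  rw [map_zero, hf, map_sum, Finset.sum_eq_single x₀ (fun x _ hx => by
      rw [LinearMap.sum_apply, map_sum]
      refine Finset.sum_eq_zero fun l _ => PermutedDecomposition.proj_ne hind htop (fun e => hx ?_)
        (PermutedDecomposition.iter_mem g σ hσ l (y x).2)
      rw [← Quotient.out_eq x, ← Quotient.out_eq x₀]
      exact Quotient.sound ⟨(l : ℤ), by rw [zpow_natCast]; exact e⟩)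
    (fun h0 => absurd (Finset.mem_univ x₀) h0)] at h
  by_cases hx : σ x₀.out = x₀.out
  · have hpow : ∀ l : ℕ, (g ^ l) (y x₀ : V) = y x₀ := fun l => by
      induction l with
      | zero => rfl
      | succ l ih => rw [pow_succ', Module.End.mul_apply, ih, hfix _ hx _ (y x₀).2]
    rw [LinearMap.sum_apply, Finset.sum_congr rfl (fun l _ => hpow l), Finset.sum_const, Finset.card_range,
      map_nsmul, PermutedDecomposition.proj_self hind htop (y x₀).2, ← Nat.cast_smul_eq_nsmul F,
      smul_eq_zero] at h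
    exact h.resolve_left hr0
  · rw [LinearMap.sum_apply, map_sum, Finset.sum_eq_single 0 (fun l hl hl0 =>
      PermutedDecomposition.proj_ne hind htop (fun e => hl0 (PermutedDecomposition.orbit_inj hind g σ hσ ha hD hr hgr hx
        (Finset.mem_range.1 hl) hr.pos (by simpa using e))) (PermutedDecomposition.iter_mem g σ hσ l (y x₀).2))
      (fun h0 => absurd (Finset.mem_range.2 hr.pos) h0), pow_zero, Module.End.one_apply,
      PermutedDecomposition.proj_self hind htop (y x₀).2] at h
    exact h

end General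

variable [Fintype F] {n a t : ℕ}

/-- A prime dividing the number of unordered decompositions divides the order of the general linear group. -/
theorem dvd_card_group (hat : n = a * t) (ha : 0 < a) {r : ℕ} (hr : r.Prime)
    (h : r ∣ Nat.card {D : Fin t → Submodule F (Fin n → F) // IsDec a D} / Nat.factorial t) :
    r ∣ Nat.card (GL (Fin n) F) := by
  classical
  haveI : Finite (Submodule F (Fin n → F)) := Finite.of_injective SetLike.coe SetLike.coe_injective
  set S := {D : Fin t → Submodule F (Fin n → F) // IsDec a D}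
  haveI := Fintype.ofFinite S
  have hdim : finrank F (Fin n → F) = a * t := by rw [finrank_fin_fun, hat]
  haveI : Finite ((Fin n → F) ≃ₗ[F] (Fin n → F)) := Finite.of_injective (fun e => (e : (Fin n → F) → (Fin n → F))) DFunLike.coe_injective
  haveI : Fintype ((Fin n → F) ≃ₗ[F] (Fin n → F)) := Fintype.ofFinite _
  rw [Nat.card_congr (Matrix.GeneralLinearGroup.toLin.toEquiv.trans
    (LinearMap.GeneralLinearGroup.generalLinearEquiv F (Fin n → F)).toEquiv)]
  rcases isEmpty_or_nonempty S with hS | ⟨⟨D₀⟩⟩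
  · exfalso
    let b : Fin t × Fin a ≃ Fin n := finProdFinEquiv.trans (finCongr (by rw [hat, mul_comm]))
    let E : Fin t → Submodule F (Fin n → F) := fun j =>
      Submodule.span F (Set.range fun l : Fin a => Pi.basisFun F (Fin n) (b (j, l)))
    refine hS.false ⟨E, fun j => ?_, ?_⟩
    · exact (finrank_span_eq_card ((Pi.basisFun F (Fin n)).linearIndependent.comp (fun l => b (j, l))
        fun x y e => (Prod.ext_iff.1 (b.injective e)).2)).trans (Fintype.card_fin a)
    · rw [eq_top_iff, ← (Pi.basisFun F (Fin n)).span_eq, Submodule.span_le]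
      rintro _ ⟨k, rfl⟩
      obtain ⟨⟨j, l⟩, rfl⟩ := b.surjective k
      exact le_iSup E j (Submodule.subset_span ⟨l, rfl⟩)
  have hinj : ∀ D : S, Function.Injective D.1 := fun D j j' e => by
    by_contra hne
    obtain ⟨w, hw, hw0⟩ := Submodule.exists_mem_ne_zero_of_ne_bot (p := D.1 j) fun e' => by
      have := D.2.1 j; rw [e', finrank_bot] at this; omega
    exact hw0 (Submodule.disjoint_def.1 ((indep D.2 hdim).pairwiseDisjoint hne) w hw (e ▸ hw))
  have hfac : Nat.factorial t ∣ Nat.card S := by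
    let f : S → Finset (Submodule F (Fin n → F)) := fun D => Finset.univ.image D.1
    haveI := Fintype.ofFinite (Set.range f)
    rw [← Nat.card_congr (Equiv.sigmaFiberEquiv (Set.rangeFactorization f)), Nat.card_sigma]
    refine Finset.dvd_sum fun Y _ => dvd_of_eq ?_
    obtain ⟨_, D, rfl⟩ := Y
    rw [show Nat.factorial t = Nat.card (Equiv.Perm (Fin t)) by
      rw [Nat.card_eq_fintype_card, Fintype.card_perm, Fintype.card_fin]]
    refine Nat.card_congr (Equiv.ofBijective (fun σ : Equiv.Perm (Fin t) =>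
      (⟨⟨D.1 ∘ σ, fun j => D.2.1 _, σ.surjective.iSup_comp D.1 |>.trans D.2.2⟩,
        Subtype.ext (Finset.ext fun U => ?_)⟩ :
        {D' : S // Set.rangeFactorization f D' = ⟨f D, D, rfl⟩})) ⟨fun σ τ e => ?_, fun D' => ?_⟩)
    · simp only [Set.rangeFactorization, f, Finset.mem_image, Finset.mem_univ, true_and, Function.comp_apply]
      exact ⟨fun ⟨j, hj⟩ => ⟨σ j, hj⟩, fun ⟨j, hj⟩ => ⟨σ.symm j, by rw [σ.apply_symm_apply]; exact hj⟩⟩
    · exact Equiv.ext fun j => hinj D (congrFun (congrArg (fun z => z.1.1) e) j)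
    · obtain ⟨D', hD'⟩ := D'
      have hY : f D' = f D := congrArg Subtype.val hD'
      have : ∀ j, ∃ k, D.1 k = D'.1 j := fun j => by
        have hm : D'.1 j ∈ f D := hY ▸ Finset.mem_image.2 ⟨j, Finset.mem_univ _, rfl⟩
        obtain ⟨k, -, hk⟩ := Finset.mem_image.1 hm
        exact ⟨k, hk⟩
      choose σ hσ using this
      have hσi : Function.Injective σ := fun j j' e => hinj D' (by rw [← hσ, ← hσ, e])
      exact ⟨Equiv.ofBijective σ ⟨hσi, Finite.surjective_of_injective hσi⟩,
        Subtype.ext (Subtype.ext (funext fun j => hσ j))⟩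
  refine (h.trans (Nat.div_dvd_of_dvd hfac)).trans ?_
  let f : ((Fin n → F) ≃ₗ[F] (Fin n → F)) → S := fun g => ⟨_, map_isDec D₀.2 g⟩
  refine ⟨Nat.card {g // f g = D₀}, ?_⟩
  have hfib : ∀ D : S, Nat.card {g // f g = D} = Nat.card {g // f g = D₀} := fun D => by
    obtain ⟨u, hu⟩ : ∃ u : (Fin n → F) ≃ₗ[F] (Fin n → F), ∀ j, (D₀.1 j).map u.toLinearMap = D.1 j := by
      let e₁ := LinearEquiv.ofBijective _ (sumMap_bijective D₀.2 hdim)
      let e₂ := LinearEquiv.ofBijective _ (sumMap_bijective D.2 hdim)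
      let L : ∀ j, D₀.1 j ≃ₗ[F] D.1 j := fun j => LinearEquiv.ofFinrankEq _ _ ((D₀.2.1 j).trans (D.2.1 j).symm)
      refine ⟨e₁.symm.trans ((LinearEquiv.piCongrRight L).trans e₂), fun j => Submodule.eq_of_le_of_finrank_eq ?_ ?_⟩
      · rintro _ ⟨w, hw, rfl⟩
        have h1 : e₁.symm w = Pi.single j ⟨w, hw⟩ := by
          rw [LinearEquiv.symm_apply_eq]; exact (sumMap_single (D := D₀.1) j ⟨w, hw⟩).symm
        show e₂ (LinearEquiv.piCongrRight L (e₁.symm w)) ∈ D.1 j
        rw [h1, show LinearEquiv.piCongrRight L (Pi.single j ⟨w, hw⟩) = Pi.single j (L j ⟨w, hw⟩) from funext fun k =>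
          Pi.apply_single (fun i => L i) (fun i => map_zero _) j _ k]
        rw [LinearEquiv.ofBijective_apply, sumMap_single]
        exact (L j _).2
      · rw [LinearEquiv.finrank_map_eq, D.2.1, D₀.2.1]
    refine (Nat.card_congr (Equiv.subtypeEquiv
      { toFun := fun g => g.trans u
        invFun := fun g => g.trans u.symm
        left_inv := fun g => LinearEquiv.ext fun v => by simp
        right_inv := fun g => LinearEquiv.ext fun v => by simp } fun g => ?_)).symm
    have hmul : ∀ j, (f (g.trans u)).1 j = ((f g).1 j).map u.toLinearMap := fun j => by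
      show (D₀.1 j).map (g.trans u).toLinearMap = ((D₀.1 j).map g.toLinearMap).map u.toLinearMap
      rw [← Submodule.map_comp]; rfl
    refine ⟨fun e => Subtype.ext (funext fun j => ?_), fun e => Subtype.ext (funext fun j => ?_)⟩
    · show (f (g.trans u)).1 j = D.1 j
      rw [hmul, e]; exact hu j
    · have h1 : (f (g.trans u)).1 j = D.1 j := congrFun (congrArg Subtype.val e) j
      rw [hmul, ← hu j] at h1
      exact Submodule.map_injective_of_injective u.injective h1
  rw [← Nat.card_congr (Equiv.sigmaFiberEquiv f), Nat.card_sigma, Finset.sum_congr rfl fun D _ => hfib D,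
    Finset.sum_const, Finset.card_univ, Nat.card_eq_fintype_card (α := S), smul_eq_mul]

/-- The exponent of a prime divisor of the order. -/
theorem le_of_dvd {q r : ℕ} (hq : Fintype.card F = q) (hr : r.Prime) (hrq : ¬ r ∣ q)
    (h : r ∣ Nat.card (GL (Fin n) F)) : orderOf (q : ZMod r) ≤ n := by
  haveI := Fact.mk hr
  rw [Matrix.card_GL_field] at h
  obtain ⟨i, -, hi⟩ := (Nat.prime_iff.1 hr).exists_mem_finset_dvd h
  rw [hq, show q ^ n - q ^ (i : ℕ) = q ^ (i : ℕ) * (q ^ (n - i) - 1) by
    rw [Nat.mul_sub, ← pow_add, mul_one, Nat.add_sub_cancel' i.isLt.le]] at hi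
  have h1 := (hr.dvd_mul.1 hi).resolve_left fun hd => hrq (hr.dvd_of_dvd_pow hd)
  rw [← ZMod.natCast_eq_zero_iff, Nat.cast_sub (Nat.one_le_pow _ _ (hq ▸ Fintype.card_pos)), Nat.cast_pow,
    Nat.cast_one, sub_eq_zero] at h1
  exact (Nat.le_of_dvd (by have := i.isLt; omega) (orderOf_dvd_of_pow_eq_one h1)).trans (Nat.sub_le _ _)

variable {r : ℕ} [hr : Fact r.Prime]

/-- The factors of the characteristic polynomial. -/
theorem exists_factors {A : Matrix (Fin n) (Fin n) F} {z : F} (hA : A ^ r = z • (1 : Matrix (Fin n) (Fin n) F)) :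
    ∃ M : Multiset F[X], M.prod = A.charpoly ∧
      ∀ g ∈ M, g.Monic ∧ Irreducible g ∧ g ∣ X ^ r - Polynomial.C z := by
  classical
  refine ⟨normalizedFactors A.charpoly, ?_, fun g hg => ?_⟩
  · rw [prod_normalizedFactors_eq A.charpoly_monic.ne_zero, A.charpoly_monic.normalize_eq_self]
  · have hirr := irreducible_of_normalized_factor g hg
    have hm : g.Monic := by rw [← normalize_normalized_factor g hg]; exact monic_normalize hirr.ne_zero
    exact ⟨hm, hirr, SubspaceDerange.annihilated hA hm hirr (dvd_of_mem_normalizedFactors hg)⟩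

variable {p : ℕ} [Fact p.Prime] [CharP F p]

/-- From a model to the given map. -/
theorem fixes_of_model (hrp : r ≠ p) {z : F} (hz : z ≠ 0) {T : Module.End F (Fin n → F)} (hT : T ^ r = z • 1)
    (hat : n = a * t) (hM : Model r z a t T.charpoly) :
    ∃ D : Fin t → Submodule F (Fin n → F), IsDec a D ∧ ∃ σ : Equiv.Perm (Fin t), ∀ j, (D j).map T = D (σ j) := by
  obtain ⟨σ, e, T₀, D, hT₀, hP, he, hD, hσ⟩ := hM
  obtain rfl : e = n := he.trans hat.symm
  have hpow : ∀ U : Module.End F (Fin e → F), U ^ r = z • 1 → U ^ (r * (Fintype.card F - 1)) = 1 := fun U hU => by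
    rw [pow_mul, hU, _root_.smul_pow, one_pow, FiniteField.pow_card_sub_one_eq_one z hz, one_smul]
  have hM0 : ((r * (Fintype.card F - 1) : ℕ) : F) ≠ 0 := by
    rw [Nat.cast_mul, Nat.cast_sub Fintype.card_pos, FiniteField.cast_card_eq_zero, Nat.cast_one, zero_sub]
    exact mul_ne_zero (fun e => hrp
      ((Nat.prime_dvd_prime_iff_eq (Fact.out : p.Prime) hr.out).1 ((CharP.cast_eq_zero_iff F p r).1 e)).symm) (by simp)
  obtain ⟨L, hL⟩ := Cfsg.Agent.Lie.Semisimple.similar_of_charpoly_eq e T₀ T _ hM0 (hpow _ hT₀) (hpow _ hT) hP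
  refine ⟨fun j => (D j).map L.toLinearMap, map_isDec hD L, σ, fun j => ?_⟩
  rw [← Submodule.map_comp, show T ∘ₗ L.toLinearMap = L.toLinearMap ∘ₗ T₀ from LinearMap.ext fun v => (hL v).symm,
    Submodule.map_comp, hσ]

/-- A root of unity of order `r` in the ground field. -/
theorem root_eq_one {q : ℕ} (hq : Fintype.card F = q) (hc : orderOf (q : ZMod r) ≠ 1) {u : F} (hu : u ^ r = 1) :
    u = 1 := by
  have hu0 : u ≠ 0 := fun e => by rw [e, zero_pow hr.out.ne_zero] at hu; exact zero_ne_one hu
  have h := pow_gcd_eq_one.2 ⟨hu, FiniteField.pow_card_sub_one_eq_one u hu0⟩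
  rwa [show r.gcd (Fintype.card F - 1) = 1 from (hr.out.coprime_iff_not_dvd.2 fun h' => hc (by
    rw [hq, ← ZMod.natCast_eq_zero_iff, Nat.cast_sub (hq ▸ Fintype.card_pos), Nat.cast_one, sub_eq_zero] at h'
    rw [h', orderOf_one])), pow_one] at h

include p in
/-- The sufficiency. -/
theorem exists_fixed (hrp : r ≠ p) {q : ℕ} (hq : Fintype.card F = q) (hn : 1 ≤ n) (hat : n = a * t) {c : ℕ}
    (hc : c = orderOf (q : ZMod r)) (hc0 : 1 ≤ c)
    (hC : (a = 1 ∧ 1 < c ∧ c = r - 1 ∧ n ≤ (n % c) * r) ∨ (c ≤ a ∧ n % c = t * (a % c)))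
    (x : Matrix.SpecialLinearGroup (Fin n) F) {z : F}
    (hxz : (x : Matrix (Fin n) (Fin n) F) ^ r = z • (1 : Matrix (Fin n) (Fin n) F)) :
    ∃ D : Fin t → Submodule F (Fin n → F), IsDec a D ∧
      ∃ σ : Equiv.Perm (Fin t), ∀ j, (D j).map (Matrix.toLin' (x : Matrix (Fin n) (Fin n) F)) = D (σ j) := by
  classical
  set A := (x : Matrix (Fin n) (Fin n) F) with hAdef
  haveI : Nonempty (Fin n) := ⟨⟨0, hn⟩⟩
  have hz0 : z ≠ 0 := by
    intro h
    have h1 := congrArg Matrix.det hxz
    rw [Matrix.det_pow, hAdef, x.2, one_pow, h, zero_smul, Matrix.det_zero] at h1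
    exact one_ne_zero h1
  by_cases hzp : ∃ w : F, w ^ r = z
  · obtain ⟨w, rfl⟩ := hzp
    have hw : w ≠ 0 := fun e => hz0 (by rw [e, zero_pow hr.out.ne_zero])
    set B := w⁻¹ • A with hB
    have hBr : B ^ r = (1 : F) • 1 := by
      rw [hB, _root_.smul_pow, hxz, smul_smul, ← mul_pow, inv_mul_cancel₀ hw, one_pow]
    obtain ⟨M, hM, hMg⟩ := exists_factors hBr
    set N := M.filter fun g => g.natDegree ≠ 1
    set L := M.filter fun g => ¬ g.natDegree ≠ 1
    have hNL : N + L = M := Multiset.filter_add_not _ _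
    have hN : ∀ g ∈ N, g.Monic ∧ Irreducible g ∧ g ∣ X ^ r - Polynomial.C 1 ∧ g.natDegree = c := fun g hg => by
      obtain ⟨hg1, hg2⟩ := Multiset.mem_filter.1 hg
      obtain ⟨hm, hi, hd⟩ := hMg g hg1
      exact ⟨hm, hi, hd, (SubspaceDerange.degree_of_power hq hc.symm (by omega) one_ne_zero hm hi
        (by rwa [one_pow])).resolve_left hg2⟩
    have hL : ∀ g ∈ L, g.Monic ∧ Irreducible g ∧ g ∣ X ^ r - Polynomial.C 1 ∧ g.natDegree = 1 := fun g hg => by
      obtain ⟨hg1, hg2⟩ := Multiset.mem_filter.1 hg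
      obtain ⟨hm, hi, hd⟩ := hMg g hg1
      exact ⟨hm, hi, hd, not_ne_iff.1 hg2⟩
    have hdeg : c * N.card + L.card = n := by
      have h := congrArg natDegree hM
      rw [← hNL, Multiset.prod_add, Monic.natDegree_mul (by simpa using monic_multiset_prod_of_monic N id fun g hg =>
          (hN g hg).1) (by simpa using monic_multiset_prod_of_monic L id fun g hg => (hL g hg).1),
        natDegree_prod_const (fun g hg => (hN g hg).1) (fun g hg => (hN g hg).2.2.2),
        natDegree_prod_const (fun g hg => (hL g hg).1) (fun g hg => (hL g hg).2.2.2),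
        Matrix.charpoly_natDegree_eq_dim, Fintype.card_fin, one_mul] at h
      exact h
    suffices hmod : Model r (1 : F) a t B.charpoly by
      obtain ⟨D, hD, σ, hσ⟩ := fixes_of_model (p := p) hrp one_ne_zero (T := Matrix.toLinAlgEquiv' B)
        (by rw [← map_pow, hBr, map_smul, map_one]) hat (by rwa [GLSemisimpleClasses.charpoly_toLin'])
      refine ⟨D, hD, σ, fun j => ?_⟩
      rw [← hσ j, show Matrix.toLin' A = w • Matrix.toLinAlgEquiv' B from by
        rw [hB, map_smul, smul_smul, mul_inv_cancel₀ hw, one_smul]; rfl]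
      exact Submodule.map_smul _ _ _ hw
    rw [← hM, ← hNL, Multiset.prod_add]
    rcases hC with ⟨rfl, hc1, hcr, hle⟩ | ⟨hca, hmodeq⟩
    · rw [one_mul] at hat
      subst hat
      have hNc : N.card ≤ L.card := by
        have h2 : n / c ≤ n % c := by
          have := Nat.div_add_mod n c
          have h3 : c * (n / c) ≤ c * (n % c) := by
            rw [show r = c + 1 by have := hr.out.two_le; omega, mul_add, mul_one, mul_comm] at hle
            omega
          exact Nat.le_of_mul_le_mul_left h3 (by omega)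
        have h4 : N.card ≤ n / c := (Nat.le_div_iff_mul_le (by omega)).2 (by rw [mul_comm]; omega)
        have h5 : n % c ≤ L.card := by
          rw [← hdeg, Nat.mul_add_mod]; exact Nat.mod_le _ _
        omega
      have hgL : ∀ g ∈ L, g = X - Polynomial.C 1 := fun g hg => by
        obtain ⟨hm, hi, hd, hd1⟩ := hL g hg
        have hgC := hm.eq_X_add_C hd1
        have hroot : g.IsRoot (-g.coeff 0) := by rw [hgC]; simp
        have h1 := hroot.dvd hd
        rw [IsRoot, eval_sub, eval_pow, eval_X, eval_C, sub_eq_zero] at h1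
        have h2 := root_eq_one hq (by omega) h1
        rw [hgC, sub_eq_add_neg, ← map_neg, ← h2, neg_neg]
      have hgN : ∀ g ∈ N, g = cyclotomic r F := fun g hg => by
        obtain ⟨hm, hi, hd, hd1⟩ := hN g hg
        rw [map_one, ← cyclotomic_prime_mul_X_sub_one F r] at hd
        rcases hi.prime.dvd_or_dvd hd with h1 | h1
        · refine eq_of_monic_of_dvd_of_natDegree_le hm (cyclotomic.monic r F) h1 ?_ |>.symm
          rw [natDegree_cyclotomic, Nat.totient_prime hr.out, hd1]; omega
        · rw [← map_one Polynomial.C] at h1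
          have := natDegree_le_of_dvd h1 (X_sub_C_ne_zero 1)
          rw [natDegree_X_sub_C, hd1] at this
          omega
      have h0 := model_fixed (p := p) (i := c) hr.out one_ne_zero (a := 1) (L.card - N.card) 0
        (Multiset.replicate (L.card - N.card) (X - Polynomial.C (1 : F))) (fun g hg => absurd hg (Multiset.notMem_zero g))
        (fun g hg => by
          rw [Multiset.eq_of_mem_replicate hg]
          exact ⟨monic_X_sub_C 1, irreducible_X_sub_C 1, dvd_iff_isRoot.2 (by simp), natDegree_X_sub_C 1⟩)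
        (by simp) (by simp)
      have h2 := model_append (model_append_pow ⟨_, modelAt_cycle (F := F) hr.out.pos one_ne_zero⟩ N.card) h0
      rw [Multiset.prod_replicate, Multiset.prod_zero, one_mul, map_one, ← cyclotomic_prime_mul_X_sub_one F r,
        mul_pow, mul_assoc, ← pow_add, Nat.add_sub_cancel' hNc] at h2
      rw [Multiset.eq_replicate_card.2 hgN, Multiset.prod_replicate, Multiset.eq_replicate_card.2 hgL,
        Multiset.prod_replicate, map_one]
      have hcount : N.card * r + (L.card - N.card) = n := by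
        conv_rhs => rw [← hdeg]
        rw [show r = c + 1 by have := hr.out.two_le; omega, mul_add, mul_one, mul_comm c]
        omega
      rw [hcount] at h2
      exact h2
    · refine model_fixed (p := p) hr.out one_ne_zero t N L hN hL ?_ (hdeg.trans hat)
      have he : n = c * (t * (a / c)) + t * (a % c) := by
        rw [hat]
        conv_lhs => rw [← Nat.div_add_mod a c]
        ring
      have h1 : t * (a % c) < c := hmodeq ▸ Nat.mod_lt _ (by omega)
      have h2 : c * N.card < c * (t * (a / c) + 1) := by rw [mul_add, mul_one]; omega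
      have := Nat.lt_of_mul_lt_mul_left h2
      omega
  · push Not at hzp
    have hc1 : c = 1 := by
      by_contra hne
      have hcop : (Nat.card Fˣ).Coprime r := by
        rw [Nat.coprime_comm, hr.out.coprime_iff_not_dvd, Nat.card_units, Nat.card_eq_fintype_card, hq,
          ← ZMod.natCast_eq_zero_iff, Nat.cast_sub (hq ▸ Fintype.card_pos), Nat.cast_one, sub_eq_zero]
        intro h
        rw [h, orderOf_one] at hc
        omega
      obtain ⟨d, hd⟩ := (powCoprime hcop).surjective (Units.mk0 z hz0)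
      exact hzp (d : F) (by simpa [powCoprime] using congrArg Units.val hd)
    obtain ⟨M, hM, hMg⟩ := exists_factors hxz
    have hrep : M = Multiset.replicate M.card (X ^ r - Polynomial.C z) := Multiset.eq_replicate_card.2 fun g hg =>
      SubspaceDerange.degree_of_nonpower hr.out hzp (hMg g hg).1 (hMg g hg).2.1 (hMg g hg).2.2
    have hcard : M.card * r = n := by
      have h := congrArg natDegree hM
      rw [hrep, Multiset.prod_replicate, natDegree_pow, natDegree_X_pow_sub_C, Matrix.charpoly_natDegree_eq_dim,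
        Fintype.card_fin] at h
      exact h
    have hmod : Model r z a t A.charpoly := by
      rw [← hM, hrep, Multiset.prod_replicate]
      by_cases hra : r ∣ a
      · have h0 := model_fixed (p := p) (i := r) hr.out hz0 (a := a) t
          (Multiset.replicate M.card (X ^ r - Polynomial.C z)) 0 (fun g hg => by
            rw [Multiset.eq_of_mem_replicate hg]
            exact ⟨monic_X_pow_sub_C z hr.out.ne_zero, X_pow_sub_C_irreducible_of_prime hr.out hzp, dvd_rfl,
              natDegree_X_pow_sub_C⟩)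
          (fun g hg => absurd hg (Multiset.notMem_zero g))
        obtain ⟨b, rfl⟩ := hra
        rw [Multiset.card_replicate, Multiset.card_zero, Multiset.prod_replicate, Multiset.prod_zero, mul_one,
          Nat.mul_div_cancel_left _ hr.out.pos, add_zero] at h0
        exact h0 (Nat.le_of_mul_le_mul_right (by rw [hcard, hat]; exact le_of_eq (by ring)) hr.out.pos)
          (by rw [mul_comm, hcard, hat])
      · obtain ⟨u, rfl⟩ : r ∣ t := (hr.out.dvd_mul.1 (hat ▸ Dvd.intro_left _ hcard)).resolve_left hra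
        have h0 := model_append_pow ⟨_, modelAt_stack_pow (modelAt_cycle hr.out.pos hz0) a⟩ u
        rw [← pow_mul, mul_comm u r] at h0
        rwa [show M.card = a * u from Nat.eq_of_mul_eq_mul_right hr.out.pos (by rw [hcard, hat]; ring)]
    exact fixes_of_model (p := p) hrp hz0 (T := Matrix.toLinAlgEquiv' A)
      (by rw [← map_pow, hxz, map_smul, map_one]) hat (by rwa [GLSemisimpleClasses.charpoly_toLin'])

include p in
/-- The necessity. -/
theorem exists_bad (hrp : r ≠ p) {q : ℕ} (hq : Fintype.card F = q) (hat : n = a * t) (ha : 1 ≤ a) {c : ℕ}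
    (hc : c = orderOf (q : ZMod r)) (hcn : c ≤ n) (hc2 : 2 ≤ c)
    (hC : ¬ ((a = 1 ∧ 1 < c ∧ c = r - 1 ∧ n ≤ (n % c) * r) ∨ (c ≤ a ∧ n % c = t * (a % c)))) :
    ∃ x : Matrix.SpecialLinearGroup (Fin n) F, (x : Matrix (Fin n) (Fin n) F) ^ r = 1 ∧
      (∀ z : F, (x : Matrix (Fin n) (Fin n) F) ≠ z • 1) ∧
      ¬ ∃ D : Fin t → Submodule F (Fin n → F), IsDec a D ∧
        ∃ σ : Equiv.Perm (Fin t), ∀ j, (D j).map (Matrix.toLin' (x : Matrix (Fin n) (Fin n) F)) = D (σ j) := by
  classical
  have hr0 : (r : F) ≠ 0 := fun e =>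
    hrp ((Nat.prime_dvd_prime_iff_eq (Fact.out : p.Prime) hr.out).1 ((CharP.cast_eq_zero_iff F p r).1 e)).symm
  have hcr : c ≤ r - 1 := by
    refine Nat.le_of_dvd (by have := hr.out.two_le; omega) (hc ▸ ZMod.orderOf_dvd_card_sub_one fun h => ?_)
    rw [h, orderOf_zero] at hc
    omega
  obtain ⟨K, f, hK, hKf, hcase⟩ : ∃ K f, 1 ≤ K ∧ K * c + f = n ∧
      ((a < c ∧ ¬ (a = 1 ∧ c = r - 1) ∧ K = 1) ∨ (a = 1 ∧ c = r - 1 ∧ f = n % c) ∨ (c ≤ a ∧ f = n % c)) := by
    by_cases h1 : a < c ∧ ¬ (a = 1 ∧ c = r - 1)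
    · exact ⟨1, n - c, le_rfl, by omega, Or.inl ⟨h1.1, h1.2, rfl⟩⟩
    · refine ⟨n / c, n % c, Nat.div_pos hcn (by omega), Nat.div_add_mod' n c, ?_⟩
      rcases lt_or_ge a c with h | h
      · exact Or.inr (Or.inl ⟨(not_not.1 fun h' => h1 ⟨h, h'⟩).1, (not_not.1 fun h' => h1 ⟨h, h'⟩).2, rfl⟩)
      · exact Or.inr (Or.inr ⟨h, rfl⟩)
  obtain ⟨x, g₀, hgm, hgi, hgd, hg1, hch, hx, hns⟩ :=
    SubspaceDerange.exists_order (p := p) hq hrp hc.symm hc2 hK hKf
  refine ⟨x, hx, hns, ?_⟩
  rintro ⟨D, hD, σ, hσ⟩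
  set g : Module.End F (Fin n → F) := Matrix.toLinAlgEquiv' (x : Matrix (Fin n) (Fin n) F)
  have hgr : g ^ r = 1 := by rw [← map_pow, hx, map_one]
  have hgc : g.charpoly = g₀ ^ K * (X - Polynomial.C 1) ^ f := by
    rw [GLSemisimpleClasses.charpoly_toLin', hch]
  have hker : finrank F (LinearMap.ker (g - 1)) = f := by
    rw [← PermutedDecomposition.rootMultiplicity_eq g hr0 hgr, hgc,
      rootMultiplicity_mul_X_sub_C_pow (pow_ne_zero _ hgm.ne_zero), rootMultiplicity_eq_zero (by simp [IsRoot, hg1]),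
      zero_add]
  have hdim : finrank F (Fin n → F) = a * t := by rw [finrank_fin_fun, hat]
  have hind := indep hD hdim
  have hσ' : ∀ j, (D j).map g = D (σ j) := hσ
  have hlow : ∀ j (hinv : ∀ v ∈ D j, g v ∈ D j), a % c ≤ finrank F (LinearMap.ker (g.restrict hinv - 1)) := by
    intro j hinv
    have hgr' : (g.restrict hinv) ^ r = 1 := LinearMap.ext fun v => Subtype.ext (by
      rw [Module.End.pow_restrict r hinv]
      show (g ^ r) v.1 = v.1
      rw [hgr]; rfl)
    obtain ⟨k, hk, -⟩ := SubspaceDerange.divisor_degree hgm hgi hg1 (LinearMap.charpoly_monic (g.restrict hinv))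
      (hgc ▸ InvCharpoly.charpoly_restrict_dvd_self (fun w hw => hinv w hw))
    rw [LinearMap.charpoly_natDegree, hD.1 j, hgd] at hk
    rw [← PermutedDecomposition.rootMultiplicity_eq _ hr0 hgr', hk, add_comm, Nat.add_mul_mod_self_right]
    exact Nat.mod_le _ _
  have hinvj : ∀ j, σ j = j → ∀ v ∈ D j, g v ∈ D j := fun j hj v hv => by
    have := Submodule.mem_map_of_mem (f := g) hv
    rwa [hσ', hj] at this
  by_cases hfix : ∀ j, σ j = j
  · have hsum := PermutedDecomposition.sum_ker_le hind hD.2 g (fun j => hinvj j (hfix j))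
    have hts : t * (a % c) ≤ f := by
      rw [← hker]
      refine le_trans ?_ hsum
      have := Finset.sum_le_sum (s := Finset.univ) fun j _ => hlow j (hinvj j (hfix j))
      rwa [Finset.sum_const, Finset.card_univ, Fintype.card_fin, smul_eq_mul] at this
    have hKc : c ≤ K * c := Nat.le_mul_of_pos_left c hK
    rcases hcase with ⟨hlt, -, -⟩ | ⟨rfl, -, -⟩ | ⟨hle, hf⟩
    · rw [Nat.mod_eq_of_lt hlt, mul_comm, ← hat] at hts; omega
    · rw [Nat.mod_eq_of_lt (by omega : 1 < c), mul_one] at hts; rw [one_mul] at hat; omega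
    · refine hC (Or.inr ⟨hle, ?_⟩)
      have he : n = c * (t * (a / c)) + t * (a % c) := by
        rw [hat]
        conv_lhs => rw [← Nat.div_add_mod a c]
        ring
      have hlt : t * (a % c) < c := lt_of_le_of_lt hts (hf ▸ Nat.mod_lt _ (by omega))
      conv_lhs => rw [he, Nat.mul_add_mod, Nat.mod_eq_of_lt hlt]
  · push Not at hfix
    obtain ⟨j₀, hj₀⟩ := hfix
    rcases hcase with ⟨hlt, hna, rfl⟩ | ⟨rfl, hcr', hf⟩ | ⟨hle, hf⟩
    · have h1 := PermutedDecomposition.range_ge hind hD.2 g σ hσ' ha hD.1 hr.out hgr hj₀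
      have h3 := LinearMap.finrank_range_add_finrank_ker (g - 1)
      rw [hker, hdim, ← hat] at h3
      rcases eq_or_ne a 1 with rfl | ha'
      · rw [mul_one] at h1; exact hna ⟨rfl, by omega⟩
      · have h5 : (r - 1) * 2 ≤ (r - 1) * a := Nat.mul_le_mul_left _ (by omega)
        omega
    · have h1 := card_le_ker hind hD.2 g σ hσ' ha hD.1 hr.out hgr hr0 fun j hj v hv => by
        have h2 := hlow j (hinvj j hj)
        rw [Nat.mod_eq_of_lt (by omega : 1 < c)] at h2
        have h3 : LinearMap.ker (g.restrict (hinvj j hj) - 1) = ⊤ := Submodule.eq_top_of_finrank_eq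
          (le_antisymm (Submodule.finrank_le _) (by rw [hD.1 j]; exact h2))
        have h4 := LinearMap.congr_fun (LinearMap.ker_eq_top.1 h3) ⟨v, hv⟩
        exact sub_eq_zero.1 (congrArg Subtype.val h4)
      rw [hker, mul_one, hf, mul_comm r] at h1
      rw [one_mul] at hat
      exact hC (Or.inl ⟨rfl, by omega, hcr', hat ▸ h1⟩)
    · have h1 := PermutedDecomposition.ker_ge hind hD.2 g σ hσ' ha hD.1 hr.out hgr hj₀
      have := Nat.mod_lt n (show c > 0 by omega)
      omega

end Cfsg.Agent.LinearDecompDerange
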