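import Cfsg.Agent.Lib.Classical.AschMain

/-!
Membership in the linear classes for the outcome of Aschbacher's theorem.
-/

set_option autoImplicit false
set_option linter.unusedSectionVars false

namespace Cfsg.Agent.Classical.Asch

open Matrix Module Cfsg.Geo

variable {F : Type*} [Field F]

theorem odd_card_of_two_ne [Fintype F] (h : (2 : F) ≠ 0) : Odd (Fintype.card F) := by
  rw [Nat.odd_iff]
  rcases Nat.mod_two_eq_zero_or_one (Fintype.card F) with h2 | h2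
  · exfalso
    apply h
    have := FiniteField.even_card_iff_char_two.2 h2
    have h3 := CharP.cast_eq_zero F (ringChar F)
    rw [this] at h3
    exact_mod_cast h3
  · exact h2

theorem inLinearClass_of_case [Fintype F] {n : ℕ} (hn : 3 ≤ n) {H : Subgroup (GL (Fin n) F)} (h : LinCase H) :
    (∃ M : Subgroup (GL (Fin n) F), InLinearClass n F M ∧ H ≤ M) ∨ InLinearResidualClass H := by
  rcases h with ⟨W, h1, h2, hle⟩ | ⟨t, m, D, hD, hle⟩ | ⟨r, K, hr, hK, hle⟩ | ⟨a, b, e, P, ha, hab, hle⟩ |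
    ⟨m, t, e, P, hm, ht, hle⟩ | ⟨F₀, r, P, hr, hc, hle⟩ | ⟨r, m, R, hR, -, hle⟩ |
    (⟨f, hf, he, hle⟩ | ⟨σ, f, hf, hle⟩ | ⟨Q, hQ, h2, hle⟩) | h
  · exact Or.inl ⟨_, Or.inl ⟨W, h1, h2, rfl⟩, hle⟩
  · exact Or.inl ⟨_, Or.inr (Or.inr (Or.inr (Or.inl ⟨t, m, D, hD, rfl⟩))), hle⟩
  · exact Or.inl ⟨_, Or.inr (Or.inr (Or.inr (Or.inr (Or.inl ⟨r, K, hr, hK, rfl⟩)))), hle⟩
  · exact Or.inl ⟨_, Or.inr (Or.inr (Or.inr (Or.inr (Or.inr (Or.inl ⟨a, b, e, P, ha, hab, rfl⟩))))), hle⟩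
  · exact Or.inl ⟨_, Or.inr (Or.inr (Or.inr (Or.inr (Or.inr (Or.inr (Or.inr (Or.inr (Or.inl
      ⟨m, t, e, P, hm, ht, rfl⟩)))))))), hle⟩
  · exact Or.inl ⟨_, Or.inr (Or.inr (Or.inr (Or.inr (Or.inr (Or.inr (Or.inl ⟨F₀, r, P, hr, hc, rfl⟩)))))), hle⟩
  · exact Or.inl ⟨_, Or.inr (Or.inr (Or.inr (Or.inr (Or.inr (Or.inr (Or.inr (Or.inl ⟨r, R, hR, rfl⟩))))))), hle⟩
  · rw [Fintype.card_fin] at he
    exact Or.inl ⟨_, Or.inr (Or.inr (Or.inr (Or.inr (Or.inr (Or.inr (Or.inr (Or.inr (Or.inr (Or.inl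
      ⟨f, hf, he, by obtain ⟨k, hk⟩ := he; omega, rfl⟩))))))))), hle⟩
  · exact Or.inl ⟨_, Or.inr (Or.inr (Or.inr (Or.inr (Or.inr (Or.inr (Or.inr (Or.inr (Or.inr (Or.inr (Or.inl
      ⟨σ, f, hf, hn, rfl⟩)))))))))), hle⟩
  · exact Or.inl ⟨_, Or.inr (Or.inr (Or.inr (Or.inr (Or.inr (Or.inr (Or.inr (Or.inr (Or.inr (Or.inr (Or.inr
      ⟨Q, hQ, odd_card_of_two_ne h2, hn, rfl⟩)))))))))), hle⟩
  · exact Or.inr h

end Cfsg.Agent.Classical.Asch
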