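import Cfsg.Agent.Lib.Classical.AschFormCommon
import Cfsg.Agent.Lib.Classical.AschLinear
import Cfsg.Agent.Lib.Classical.NormalForms
import Cfsg.Agent.Lib.Classical.OrthCount

/-!
Aschbacher's theorem for subgroups of orthogonal groups in odd dimension.
-/

set_option autoImplicit false
set_option linter.unusedSectionVars false
set_option linter.unusedFintypeInType false
set_option linter.unusedDecidableInType false

namespace Cfsg.Agent.Classical.Asch

open Matrix Module Cfsg.Geo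
open scoped Kronecker Pointwise commutatorElement

variable {F : Type*} [Field F] [Fintype F]

theorem sym_transpose_scalar {k : ℕ} [Nonempty (Fin k)] (hk : Odd k) (h2 : (2 : F) ≠ 0)
    {C : Matrix (Fin k) (Fin k) F} (hC : IsUnit C) {α : F} (h : Cᵀ = α • C) : Cᵀ = C := by
  have hdet : C.det ≠ 0 := ((Matrix.isUnit_iff_isUnit_det C).1 hC).ne_zero
  have h1 := congrArg Matrix.det h
  rw [Matrix.det_transpose, Matrix.det_smul, Fintype.card_fin] at h1
  have hα : α * α = 1 := by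
    have h3 := congrArg Matrix.transpose h
    rw [Matrix.transpose_transpose, Matrix.transpose_smul, h, smul_smul] at h3
    obtain ⟨i, j, hij⟩ := exists_entry (unit_ne_zero hC)
    have h4 := congrFun (congrFun h3 i) j
    rw [Matrix.smul_apply, smul_eq_mul] at h4
    exact mul_right_cancel₀ hij (by rw [one_mul]; exact h4.symm)
  rcases mul_self_eq_one_iff.1 hα with hα1 | hα1
  · rw [h, hα1, one_smul]
  · exfalso
    rw [hα1, hk.neg_one_pow, neg_one_mul] at h1
    have h5 : (2 : F) * C.det = 0 := by linear_combination h1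
    exact hdet ((mul_eq_zero.1 h5).resolve_left h2)

/-- An odd-dimensional symmetric matrix is congruent to a scalar matrix. -/
theorem sym_congr_one {k : ℕ} (hk : Odd k) (h2 : (2 : F) ≠ 0) {C : Matrix (Fin k) (Fin k) F}
    (hC : IsUnit C) (hsym : Cᵀ = C) :
    ∃ (s : F) (X : GL (Fin k) F), s ≠ 0 ∧
      (X : Matrix (Fin k) (Fin k) F)ᵀ * ((s • C) * (X : Matrix (Fin k) (Fin k) F)) = 1 := by
  classical
  obtain ⟨j, rfl⟩ : ∃ j, k = j + 1 := ⟨k - 1, by rcases hk with ⟨i, rfl⟩; omega⟩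
  set s := C.det with hsdef
  have hs0 : s ≠ 0 := ((Matrix.isUnit_iff_isUnit_det C).1 hC).ne_zero
  have hsC : IsUnit (s • C) := by rw [show s • C = (Units.mk0 s hs0) • C from rfl]; exact hC.smul _
  have hsesq := sesq_formOfGram (RingEquiv.refl F) (s • C)
  let B : LinearMap.BilinForm F (Fin (j + 1) → F) :=
    LinearMap.mk₂ F (fun v w => formOfGram (RingEquiv.refl F) (s • C) v w)
      (fun a b c => hsesq.add_left a b c) (fun c a b => hsesq.smul_left c a b)
      (fun a b c => hsesq.add_right a b c) (fun c a b => hsesq.smul_right c a b)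
  have hB : ∀ u v, B u v = formOfGram (RingEquiv.refl F) (s • C) u v := fun u v => rfl
  have hS : B.IsSymm := ⟨fun u v => by
    simp only [hB, RingHom.id_apply, formOfGram, RingEquiv.refl_apply]
    rw [Finset.sum_comm]
    refine Finset.sum_congr rfl fun a _ => Finset.sum_congr rfl fun b _ => ?_
    have h1 : C b a = C a b := congrFun (congrFun hsym a) b
    simp only [Matrix.smul_apply, smul_eq_mul, h1]
    ring⟩
  have hBn : B.Nondegenerate := ⟨fun v hv => by
      by_contra h0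
      obtain ⟨-, x, hx⟩ := gram_nondeg (RingEquiv.refl F) hsC v h0
      exact hx (hv x), fun v hv => by
      by_contra h0
      obtain ⟨⟨x, hx⟩, -⟩ := gram_nondeg (RingEquiv.refl F) hsC v h0
      exact hx (hv x)⟩
  obtain ⟨b, d, hd, horth, hone, hlast⟩ := exists_diag_basis B h2 hS hBn
    (n := j) (by rw [Module.finrank_fintype_fun_eq_card, Fintype.card_fin])
  let X : Matrix (Fin (j + 1)) (Fin (j + 1)) F := fun i l => b l i
  have hX : Xᵀ * ((s • C) * X) = Matrix.diagonal fun i => if i = Fin.last j then d else 1 := by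
    ext i l
    have h1 : formOfGram (RingEquiv.refl F) (s • C) (b i) (b l) = (Xᵀ * ((s • C) * X)) i l := by
      rw [← formOfGram_single (RingEquiv.refl F) (Xᵀ * ((s • C) * X))]
      have e1 := formOfGram_mulVec (RingEquiv.refl F) (s • C) X (Pi.single i 1) (Pi.single l 1)
      rw [show X.map (RingEquiv.refl F) = X from Matrix.map_id _] at e1
      rw [← e1]
      congr 1 <;> (funext a; simp [X, Matrix.mulVec, dotProduct, Pi.single_apply])
    rw [← h1, Matrix.diagonal_apply, ← hB]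
    by_cases hil : i = l
    · subst hil
      rw [if_pos rfl]
      by_cases hi : i = Fin.last j
      · rw [if_pos hi, hi, hlast]
      · rw [if_neg hi, hone i hi]
    · rw [if_neg hil, horth i l hil]
  have hXdet : X.det ≠ 0 := fun h0 => by
    have h1 := congrArg Matrix.det hX
    rw [Matrix.det_mul, Matrix.det_transpose, h0, zero_mul, Matrix.det_diagonal] at h1
    refine Finset.prod_ne_zero_iff.2 (fun i _ => ?_) h1.symm
    split <;> simp [hd]
  obtain ⟨i, hi⟩ := hk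
  have hd' : d = (X.det * s ^ (i + 1)) * (X.det * s ^ (i + 1)) := by
    have h1 := congrArg Matrix.det hX
    rw [Matrix.det_mul, Matrix.det_mul, Matrix.det_transpose, Matrix.det_smul, Fintype.card_fin,
      Matrix.det_diagonal, Finset.prod_eq_single (Fin.last j) (fun l _ hl => by rw [if_neg hl])
        (fun h => absurd (Finset.mem_univ _) h), if_pos rfl, ← hsdef, ← pow_succ,
      show j + 1 + 1 = (i + 1) + (i + 1) by omega, pow_add] at h1
    rw [← h1]
    ring
  set l := X.det * s ^ (i + 1) with hl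
  have hl0 : l ≠ 0 := mul_ne_zero hXdet (pow_ne_zero _ hs0)
  let Dg : Matrix (Fin (j + 1)) (Fin (j + 1)) F := Matrix.diagonal fun a => if a = Fin.last j then l⁻¹ else 1
  have hfin : (X * Dg)ᵀ * ((s • C) * (X * Dg)) = 1 := by
    rw [Matrix.transpose_mul, show Dgᵀ * Xᵀ * ((s • C) * (X * Dg)) = Dgᵀ * ((Xᵀ * ((s • C) * X)) * Dg) by
      simp [mul_assoc], hX, Matrix.diagonal_transpose, Matrix.diagonal_mul_diagonal, Matrix.diagonal_mul_diagonal,
      ← Matrix.diagonal_one]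
    congr 1
    funext a
    by_cases ha : a = Fin.last j
    · simp only [if_pos ha]; rw [hd']; field_simp
    · simp [if_neg ha]
  have hdet : IsUnit (X * Dg).det := by
    have h1 := congrArg Matrix.det hfin
    rw [Matrix.det_mul, Matrix.det_transpose, Matrix.det_one] at h1
    exact IsUnit.of_mul_eq_one _ h1
  exact ⟨s, Matrix.nonsingInvUnit _ hdet, hs0, hfin⟩

/-- Over three elements an orthogonal matrix in dimension three is monomial. -/
theorem monomial_three (h3 : Fintype.card F = 3) {A : Matrix (Fin 3) (Fin 3) F} (hA : Aᵀ * A = 1) (j : Fin 3) :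
    ∃ i, A i j ≠ 0 ∧ ∀ i', i' ≠ i → A i' j = 0 := by
  have hsq : ∀ x : F, x ≠ 0 → x * x = 1 := fun x hx => by
    simpa [h3, pow_two] using FiniteField.pow_card_sub_one_eq_one x hx
  have hthree : (1 : F) + 1 + 1 = 0 := by
    have := FiniteField.cast_card_eq_zero F
    rw [h3] at this
    push_cast at this
    linear_combination this
  have h1 := congrFun (congrFun hA j) j
  rw [Matrix.mul_apply, Fin.sum_univ_three, Matrix.one_apply_eq] at h1
  simp only [Matrix.transpose_apply] at h1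
  by_cases a : A 0 j = 0 <;> by_cases b : A 1 j = 0 <;> by_cases c : A 2 j = 0
  · simp [a, b, c] at h1
  · exact ⟨2, c, fun i hi => by fin_cases i <;> simp_all⟩
  · exact ⟨1, b, fun i hi => by fin_cases i <;> simp_all⟩
  · rw [a, hsq _ b, hsq _ c] at h1
    simp at h1
  · exact ⟨0, a, fun i hi => by fin_cases i <;> simp_all⟩
  · rw [b, hsq _ a, hsq _ c] at h1
    simp at h1
  · rw [c, hsq _ a, hsq _ b] at h1
    simp at h1
  · rw [hsq _ a, hsq _ b, hsq _ c, hthree] at h1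
    simp at h1

theorem multiplier_three (h3 : Fintype.card F = 3) {C : Matrix (Fin 3) (Fin 3) F} (hC : IsUnit C)
    {A : GL (Fin 3) F} {μ : Fˣ}
    (h : (A : Matrix (Fin 3) (Fin 3) F)ᵀ * (C * (A : Matrix (Fin 3) (Fin 3) F)) = (μ : F) • C) : (μ : F) = 1 := by
  have hsq : ∀ x : F, x ≠ 0 → x * x = 1 := fun x hx => by
    simpa [h3, pow_two] using FiniteField.pow_card_sub_one_eq_one x hx
  have hdet := congrArg Matrix.det h
  rw [Matrix.det_mul, Matrix.det_mul, Matrix.det_transpose, Matrix.det_smul, Fintype.card_fin] at hdet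
  have hC0 : C.det ≠ 0 := ((Matrix.isUnit_iff_isUnit_det C).1 hC).ne_zero
  have hA0 := ((Matrix.isUnit_iff_isUnit_det _).1 A.isUnit).ne_zero
  have h1 : (μ : F) ^ 3 = 1 := by
    refine mul_right_cancel₀ hC0 ?_
    linear_combination -hdet + C.det * hsq _ hA0
  linear_combination h1 - (μ : F) * hsq _ μ.ne_zero

/-- The orthogonal group of the standard form in dimension three. -/
def orthThree : Subgroup (GL (Fin 3) F) where
  carrier := {g | (g : Matrix (Fin 3) (Fin 3) F)ᵀ * (g : Matrix (Fin 3) (Fin 3) F) = 1}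
  one_mem' := by simp
  mul_mem' {a b} ha hb := by
    change _ = _ at ha hb ⊢
    rw [Units.val_mul, Matrix.transpose_mul, mul_assoc, ← mul_assoc ((a : Matrix (Fin 3) (Fin 3) F)ᵀ), ha, one_mul, hb]
  inv_mem' {a} ha := by
    change _ = _ at ha ⊢
    have h1 : ((a⁻¹ : GL (Fin 3) F) : Matrix (Fin 3) (Fin 3) F) = (a : Matrix (Fin 3) (Fin 3) F)ᵀ := by
      calc ((a⁻¹ : GL (Fin 3) F) : Matrix (Fin 3) (Fin 3) F)
          = (a : Matrix (Fin 3) (Fin 3) F)ᵀ * (a : Matrix (Fin 3) (Fin 3) F) * ((a⁻¹ : GL (Fin 3) F) : Matrix _ _ F) := by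
            rw [ha, one_mul]
        _ = _ := by rw [mul_assoc, Units.mul_inv, mul_one]
    rw [h1, Matrix.transpose_transpose]
    exact mul_eq_one_comm.1 ha

theorem solvable_orth_three (h3 : Fintype.card F = 3) : Group.IsSolvable (orthThree (F := F)) := by
  classical
  choose π hπ hπ0 using fun (g : orthThree (F := F)) (j : Fin 3) => monomial_three h3 g.2 j
  have huniq : ∀ (g : orthThree (F := F)) (i j : Fin 3), ((g : GL (Fin 3) F) : Matrix (Fin 3) (Fin 3) F) i j ≠ 0 → i = π g j := fun g i j h =>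
    Classical.byContradiction fun hne => h (hπ0 g j i hne)
  have hinj : ∀ g, Function.Injective (π g) := fun g a b hab => by
    by_contra hne
    have h1 := congrFun (congrFun g.2 a) b
    rw [Matrix.mul_apply, Matrix.one_apply_ne hne, Finset.sum_eq_single (π g a) (fun i _ hi => by
      rw [Matrix.transpose_apply, hπ0 g a i hi, zero_mul]) (fun h => absurd (Finset.mem_univ _) h)] at h1
    rcases mul_eq_zero.1 h1 with h2 | h2
    · exact hπ g a h2
    · exact hπ g b (hab ▸ h2)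
  let φ : orthThree (F := F) →* Equiv.Perm (Fin 3) :=
    MonoidHom.mk' (fun g => Equiv.ofBijective (π g) (Finite.injective_iff_bijective.1 (hinj g))) fun a b => by
      ext j : 1
      show π (a * b) j = π a (π b j)
      refine (huniq (a * b) _ j ?_).symm
      rw [Subgroup.coe_mul, Units.val_mul, Matrix.mul_apply, Finset.sum_eq_single (π b j) (fun i _ hi => by
        rw [hπ0 b j i hi, mul_zero]) (fun h => absurd (Finset.mem_univ _) h)]
      exact mul_ne_zero (hπ a _) (hπ b j)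
  haveI : Group.IsSolvable (Equiv.Perm (Fin 3)) := by
    refine Cfsg.Agent.S0144.result 2 3 1 1 Nat.prime_two Nat.prime_three ?_
    rw [Nat.card_eq_fintype_card, Fintype.card_perm, Fintype.card_fin]
    rfl
  haveI : Group.IsSolvable φ.ker := by
    refine isSolvable_of_comm fun a b => ?_
    have hd : ∀ x : φ.ker, ((x.1 : GL (Fin 3) F) : Matrix (Fin 3) (Fin 3) F) =
        Matrix.diagonal fun i => ((x.1 : GL (Fin 3) F) : Matrix (Fin 3) (Fin 3) F) i i := fun x => by
      ext i j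
      by_cases hij : i = j
      · subst hij; rw [Matrix.diagonal_apply_eq]
      · rw [Matrix.diagonal_apply_ne _ hij]
        by_contra hne
        apply hij
        rw [huniq _ i j hne]
        exact congrArg (fun e : Equiv.Perm (Fin 3) => e j) (MonoidHom.mem_ker.1 x.2)
    refine Subtype.ext (Subtype.ext (Units.ext ?_))
    show ((a.1 : GL (Fin 3) F) : Matrix (Fin 3) (Fin 3) F) * ((b.1 : GL (Fin 3) F) : Matrix (Fin 3) (Fin 3) F) =
      ((b.1 : GL (Fin 3) F) : Matrix (Fin 3) (Fin 3) F) * ((a.1 : GL (Fin 3) F) : Matrix (Fin 3) (Fin 3) F)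
    rw [hd a, hd b, Matrix.diagonal_mul_diagonal, Matrix.diagonal_mul_diagonal]
    exact congrArg _ (funext fun i => mul_comm _ _)
  exact solvable_of_ker_le_range φ.ker.subtype φ (by rw [Subgroup.range_subtype])

theorem mem_subfieldSubgroup_one {ι : Type} [Fintype ι] [DecidableEq ι] (F₁ : Subfield F) (P g : GL ι F)
    (h : ∀ i j, ((P⁻¹ * g * P : GL ι F) : Matrix ι ι F) i j ∈ F₁) : g ∈ subfieldSubgroup F₁ P := by
  let k₀ : Matrix ι ι F₁ := fun i j => ⟨_, h i j⟩
  have hk₀ : k₀.map F₁.subtype = ((P⁻¹ * g * P : GL ι F) : Matrix ι ι F) := rfl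
  have hdet : k₀.det ≠ 0 := fun h0 => by
    have h1 := congrArg F₁.subtype h0
    rw [RingHom.map_det, map_zero, RingHom.mapMatrix_apply, hk₀] at h1
    exact ((Matrix.isUnit_iff_isUnit_det _).1 (P⁻¹ * g * P).isUnit).ne_zero h1
  refine ⟨P⁻¹ * g * P, Subgroup.mem_sup_left ⟨Matrix.GeneralLinearGroup.mkOfDetNeZero k₀ hdet, Units.ext hk₀⟩, ?_⟩
  show P * (P⁻¹ * g * P) * P⁻¹ = g
  group

variable {m : ℕ}


/-- The goal of the orthogonal theorem. -/
def OrthGoal (H : Subgroup (GL (Unit ⊕ (Fin m ⊕ Fin m)) F)) : Prop :=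
  (∃ M : Subgroup (GL (Unit ⊕ (Fin m ⊕ Fin m)) F), InOrthogonalOddClass m F M ∧ H ≤ M) ∨
    InOrthogonalResidualClass H

/-- The Gram matrix of the standard polar form. -/
def oddGram (m : ℕ) (F : Type*) [Field F] :
    Matrix (Unit ⊕ (Fin m ⊕ Fin m)) (Unit ⊕ (Fin m ⊕ Fin m)) F :=
  gramMatrix (QuadraticMap.polar (quadFormOdd m F))

omit [Fintype F] in
theorem polar_eq_gram :
    QuadraticMap.polar (quadFormOdd m F) = formOfGram (RingEquiv.refl F) (oddGram m F) := by
  funext u v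
  have hb : IsBilinearForm (QuadraticMap.polar (qfOdd m F)) :=
    ⟨fun x y v => QuadraticMap.polar_add_left _ x y v, fun c x v => QuadraticMap.polar_smul_left _ c x v,
      fun v x y => QuadraticMap.polar_add_right _ v x y, fun c v x => QuadraticMap.polar_smul_right _ c v x⟩
  rw [coe_qfOdd] at hb
  exact (sesq_of_bilinear hb).eq_gram u v

omit [Fintype F] in
theorem polar_self_odd (v : Unit ⊕ (Fin m ⊕ Fin m) → F) :
    formOfGram (RingEquiv.refl F) (oddGram m F) v v = 2 * quadFormOdd m F v := by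
  rw [← polar_eq_gram, ← coe_qfOdd, QuadraticMap.polar_self, two_smul, two_mul]

theorem refl_oddGram (h2 : (2 : F) ≠ 0) : Refl (RingEquiv.refl F) (oddGram m F) := by
  refine ⟨fun _ => rfl, gram_isUnit (RingEquiv.refl F) ?_, 1, ?_⟩
  · rw [← polar_eq_gram, ← coe_qfOdd]
    have hnd := nondegenerate_qfOdd (F := F) m h2
    intro v hv
    obtain ⟨x, hx⟩ : ∃ x, QuadraticMap.polar (qfOdd m F) v x ≠ 0 := by
      by_contra hno
      push Not at hno
      exact hv (hnd.1 v hno)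
    exact ⟨⟨x, by rwa [QuadraticMap.polar_comm]⟩, ⟨x, hx⟩⟩
  · ext a b
    rw [Units.val_one, one_smul]
    exact QuadraticMap.polar_comm _ _ _

omit [Fintype F] in
theorem quadFormOdd_mem (F₁ : Subfield F) {u : Unit ⊕ (Fin m ⊕ Fin m) → F} (hu : ∀ i, u i ∈ F₁) :
    quadFormOdd m F u ∈ F₁ :=
  F₁.add_mem (F₁.pow_mem (hu _) 2) (F₁.sum_mem fun _ _ => F₁.mul_mem (hu _) (hu _))

omit [Fintype F] in
theorem oddGram_mem (F₁ : Subfield F) (a b : Unit ⊕ (Fin m ⊕ Fin m)) : oddGram m F a b ∈ F₁ := by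
  have h1 : ∀ c i : Unit ⊕ (Fin m ⊕ Fin m), (Pi.single c 1 : Unit ⊕ (Fin m ⊕ Fin m) → F) i ∈ F₁ := fun c i => by
    rw [Pi.single_apply]; split
    · exact F₁.one_mem
    · exact F₁.zero_mem
  exact F₁.sub_mem (F₁.sub_mem (quadFormOdd_mem F₁ fun i => F₁.add_mem (h1 a i) (h1 b i))
    (quadFormOdd_mem F₁ (h1 a))) (quadFormOdd_mem F₁ (h1 b))

omit [Fintype F] in
theorem det_mem_subfield {ι : Type} [Fintype ι] [DecidableEq ι] (F₁ : Subfield F) {M : Matrix ι ι F}
    (h : ∀ i j, M i j ∈ F₁) : M.det ∈ F₁ := by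
  let M₁ : Matrix ι ι F₁ := fun i j => ⟨_, h i j⟩
  have h1 : F₁.subtype M₁.det = M.det := by
    rw [RingHom.map_det, RingHom.mapMatrix_apply]; rfl
  rw [← h1]
  exact M₁.det.2

theorem mem_isometry_polar (h2 : (2 : F) ≠ 0) {H : Subgroup (GL (Unit ⊕ (Fin m ⊕ Fin m)) F)}
    (hH : H ≤ isometryGroup F (quadFormOdd m F)) : Fix (RingEquiv.refl F) H (oddGram m F) := by
  intro g hg
  refine gram_inj (RingEquiv.refl F) fun u v => ?_
  rw [← formOfGram_mulVec, ← polar_eq_gram]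
  have hQ : ∀ w, quadFormOdd m F ((g : Matrix _ _ F) *ᵥ w) = quadFormOdd m F w := fun w => hH hg w w
  simp only [QuadraticMap.polar, ← Matrix.mulVec_add, hQ]

variable {H : Subgroup (GL (Unit ⊕ (Fin m ⊕ Fin m)) F)}

theorem orth_goal_field (h2 : (2 : F) ≠ 0) (hH : H ≤ isometryGroup F (quadFormOdd m F))
    (h : FieldCase (RingEquiv.refl F) (oddGram m F) H) : OrthGoal H := by
  obtain ⟨r, K, hr, hK, hcl, hle, hnr⟩ := h
  have hG := refl_oddGram (m := m) h2
  have hr2 : r ≠ 2 := by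
    intro hr2
    have := field_degree_dvd hK
    rw [hr2] at this
    simp at this
    omega
  have hself := (adj_field hG hr hK hcl).1 rfl hr2
  refine Or.inl ⟨_, Or.inr (Or.inr (Or.inr (Or.inr (Or.inl ⟨r, K, hr, ?_, hK, fun k hk u v => ?_, rfl⟩)))),
    le_inf hle hH⟩
  · have := hnr hself
    simp at this
    omega
  · rw [polar_eq_gram, hG.form_left, hself k hk]

theorem orth_goal_lines (h2 : (2 : F) ≠ 0) (hH : H ≤ isometryGroup F (quadFormOdd m F)) (hq : ¬ (Fintype.card F).Prime)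
    {t : ℕ} {D : Fin t → Submodule F (Unit ⊕ (Fin m ⊕ Fin m) → F)}
    (hD : IsOrthogonalMDecomposition (quadFormOdd m F) 1 D) (hle : H ≤ decompositionStabilizer D) :
    OrthGoal H := by
  classical
  have hG := refl_oddGram (m := m) h2
  have hdec := hD.decomp.decomp
  obtain ⟨p, hp⟩ := CharP.exists F
  haveI := hp
  obtain ⟨k, hpr, hk⟩ := FiniteField.card F p
  haveI : Fact p.Prime := ⟨hpr⟩
  have hne : (⊥ : Subfield F) ≠ ⊤ := by
    intro htop
    apply hq
    have h1 := Subfield.card_bot (F := F) p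
    rw [htop] at h1
    rw [← Nat.card_eq_fintype_card]
    rw [show Nat.card (⊤ : Subfield F) = Nat.card F from Nat.card_congr
      (Equiv.subtypeUnivEquiv fun x => Subfield.mem_top x)] at h1
    rwa [h1]
  obtain ⟨F₁, r, hr, -, hcard⟩ := exists_prime_index hne
  set n := Fintype.card (Unit ⊕ (Fin m ⊕ Fin m)) with hn
  have htn : t = n := by
    have h1 := DirectSum.isInternal_submodule_of_iSupIndep_of_iSup_eq_top hdec.indep hdec.iSup_eq_top
    let bb := h1.collectedBasis fun i => Module.finBasisOfFinrankEq F (D i) (hdec.finrank_eq i)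
    have := Module.finrank_eq_card_basis bb
    simp [Module.finrank_fintype_fun_eq_card] at this
    simp [hn]
    omega
  have hvec : ∀ i, ∃ v : Unit ⊕ (Fin m ⊕ Fin m) → F, v ∈ D i ∧ ∀ w ∈ D i, ∃ c : F, w = c • v := fun i => by
    obtain ⟨v, hv, hs⟩ := finrank_eq_one_iff'.1 (hdec.finrank_eq i)
    refine ⟨v.1, v.2, fun w hw => ?_⟩
    obtain ⟨c, hc⟩ := hs ⟨w, hw⟩
    exact ⟨c, (congrArg Subtype.val hc).symm⟩
  choose v hvD hvs using hvec
  have hv0 : ∀ i, v i ≠ 0 := fun i h0 => by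
    have h1 : D i = ⊥ := by
      rw [eq_bot_iff]
      intro w hw
      obtain ⟨c, rfl⟩ := hvs i w hw
      simp [h0]
    have := hdec.finrank_eq i
    rw [h1, finrank_bot] at this
    omega
  have hpolv : ∀ i j, i ≠ j → formOfGram (RingEquiv.refl F) (oddGram m F) (v i) (v j) = 0 := fun i j hij => by
    rw [← polar_eq_gram]; exact hD.decomp.orthogonal i j hij _ (hvD i) _ (hvD j)
  have hQv : ∀ i, quadFormOdd m F (v i) ≠ 0 := fun i h0 => by
    obtain ⟨⟨x, hx, hne0⟩, -⟩ := hD.decomp.nondegenerate i (v i) (hvD i) (hv0 i)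
    obtain ⟨c, rfl⟩ := hvs i x hx
    apply hne0
    rw [polar_eq_gram, (sesq_formOfGram _ _).smul_left, polar_self_odd, h0, mul_zero, mul_zero]
  have ht0 : 0 < t := lt_of_lt_of_le (by norm_num) hdec.two_le
  let i₀ : Fin t := ⟨0, ht0⟩
  set a := quadFormOdd m F (v i₀) with ha
  have hscale : ∀ i, ∃ c : F, c ≠ 0 ∧ c ^ 2 * quadFormOdd m F (v i) = a := fun i => by
    obtain ⟨e, he⟩ := hD.isometric i₀ i
    obtain ⟨c, hc⟩ := hvs i _ (e ⟨v i₀, hvD i₀⟩).2
    have h1 := he ⟨v i₀, hvD i₀⟩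
    rw [hc, ← coe_qfOdd, QuadraticMap.map_smul, coe_qfOdd, smul_eq_mul] at h1
    refine ⟨c, fun h0 => hQv i₀ ?_, by rw [pow_two]; exact h1⟩
    rw [← h1, h0]; simp
  choose c hc0 hc using hscale
  let ε : (Unit ⊕ (Fin m ⊕ Fin m)) ≃ Fin t := Fintype.equivFinOfCardEq htn.symm
  let w : Fin t → Unit ⊕ (Fin m ⊕ Fin m) → F := fun i => c i • v i
  have hQw : ∀ i, quadFormOdd m F (w i) = a := fun i => by
    rw [← hc i, ← coe_qfOdd]
    simp only [w, QuadraticMap.map_smul, smul_eq_mul]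
    rw [pow_two, coe_qfOdd]
  have hww : ∀ i j, formOfGram (RingEquiv.refl F) (oddGram m F) (w i) (w j) = if i = j then 2 * a else 0 := by
    intro i j
    by_cases hij : i = j
    · subst hij; rw [if_pos rfl, polar_self_odd, hQw]
    · rw [if_neg hij, (sesq_formOfGram _ _).smul_left, (sesq_formOfGram _ _).smul_right, hpolv i j hij]; simp
  let P : Matrix (Unit ⊕ (Fin m ⊕ Fin m)) (Unit ⊕ (Fin m ⊕ Fin m)) F := fun x y => w (ε y) x
  have hPcol : ∀ y, P *ᵥ Pi.single y 1 = w (ε y) := fun y => by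
    rw [Matrix.mulVec_single_one]; rfl
  have hPG : Pᵀ * (oddGram m F * P) = (2 * a) • 1 := by
    ext x y
    have e1 := formOfGram_mulVec (RingEquiv.refl F) (oddGram m F) P (Pi.single x 1) (Pi.single y 1)
    rw [show P.map (RingEquiv.refl F) = P from Matrix.map_id _, formOfGram_single, hPcol, hPcol, hww] at e1
    rw [← e1, Matrix.smul_apply, Matrix.one_apply]
    by_cases hxy : x = y <;> simp [hxy]
  have hdet0 : P.det ≠ 0 := fun h0 => by
    have h1 := congrArg Matrix.det hPG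
    rw [Matrix.det_mul, Matrix.det_transpose, h0, zero_mul, Matrix.det_smul, Matrix.det_one, mul_one] at h1
    exact pow_ne_zero _ (mul_ne_zero h2 (hQv i₀)) h1.symm
  -- the common value is a square times an element of the subfield
  have ha' : ∃ b ∈ F₁, ∃ l : F, l ≠ 0 ∧ a = b * l ^ 2 := by
    have h1 := congrArg Matrix.det hPG
    rw [Matrix.det_mul, Matrix.det_mul, Matrix.det_transpose, Matrix.det_smul, Matrix.det_one, mul_one] at h1
    have hcardn : Fintype.card (Unit ⊕ (Fin m ⊕ Fin m)) = 2 * m + 1 := by simp; omega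
    rw [hcardn] at h1
    refine ⟨(oddGram m F).det / 2 ^ (2 * m + 1), F₁.div_mem (det_mem_subfield F₁ (oddGram_mem F₁))
      (F₁.pow_mem (by rw [← one_add_one_eq_two]; exact F₁.add_mem F₁.one_mem F₁.one_mem) _), P.det / a ^ m, div_ne_zero hdet0 (pow_ne_zero _ (hQv i₀)), ?_⟩
    have ha0 : a ≠ 0 := hQv i₀
    field_simp
    linear_combination -h1
  obtain ⟨b, hb, l, hl0, hab⟩ := ha'
  let P₀ : GL (Unit ⊕ (Fin m ⊕ Fin m)) F := Matrix.GeneralLinearGroup.mkOfDetNeZero (l⁻¹ • P) (by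
    rw [Matrix.det_smul]; exact mul_ne_zero (pow_ne_zero _ (inv_ne_zero hl0)) hdet0)
  refine Or.inl ⟨_, Or.inr (Or.inr (Or.inr (Or.inr (Or.inr (Or.inr (Or.inl
    ⟨F₁, r, P₀, hr, hcard, fun u hu => ?_, rfl⟩)))))), le_inf (fun g hg => ?_) hH⟩
  · show quadFormOdd m F ((l⁻¹ • P) *ᵥ u) ∈ F₁
    have h1 : formOfGram (RingEquiv.refl F) (oddGram m F) ((l⁻¹ • P) *ᵥ u) ((l⁻¹ • P) *ᵥ u) =
        2 * (b * ∑ x, u x * u x) := by
      rw [formOfGram_mulVec, show (l⁻¹ • P).map (RingEquiv.refl F) = l⁻¹ • P from Matrix.map_id _,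
        Matrix.transpose_smul, Matrix.smul_mul, Matrix.mul_smul, Matrix.mul_smul, hPG, smul_smul, smul_smul,
        formOfGram_smul, formOfGram_eq, Matrix.one_mulVec]
      rw [hab]
      simp only [dotProduct, RingEquiv.refl_apply]
      field_simp
    rw [polar_self_odd] at h1
    rw [mul_left_cancel₀ h2 h1]
    exact F₁.mul_mem hb (F₁.sum_mem fun x _ => F₁.mul_mem (hu x) (hu x))
  · obtain ⟨π, hπ⟩ := hle hg
    have hgw : ∀ i, ∃ s : F, (s = 1 ∨ s = -1) ∧ (g : Matrix _ _ F) *ᵥ w i = s • w (π i) := fun i => by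
      have h1 : (g : Matrix _ _ F) *ᵥ w i ∈ D (π i) := by
        rw [← hπ i]; exact ⟨w i, (D i).smul_mem _ (hvD i), rfl⟩
      obtain ⟨d, hd⟩ := hvs (π i) _ h1
      have hd' : (g : Matrix _ _ F) *ᵥ w i = (d * (c (π i))⁻¹) • w (π i) := by
        simp only [w, smul_smul, mul_assoc, inv_mul_cancel₀ (hc0 (π i)), mul_one]; exact hd
      set s := d * (c (π i))⁻¹
      refine ⟨s, mul_self_eq_one_iff.1 (mul_right_cancel₀ (hQv i₀) ?_), hd'⟩
      have h3 : quadFormOdd m F ((g : Matrix _ _ F) *ᵥ w i) = quadFormOdd m F (w i) := hH hg (w i) (w i)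
      rw [hd', hQw i, ← coe_qfOdd, QuadraticMap.map_smul, coe_qfOdd, hQw, smul_eq_mul] at h3
      rw [one_mul]
      exact h3
    choose s hs hsw using hgw
    set k := P₀⁻¹ * g * P₀ with hk
    refine mem_subfieldSubgroup_one F₁ P₀ g fun x y => ?_
    have hgP : (g : Matrix _ _ F) * (l⁻¹ • P) =
        (l⁻¹ • P) * Matrix.of (fun x y => if ε x = π (ε y) then s (ε y) else 0) := by
      apply Matrix.ext_of_mulVec_single
      intro y
      rw [← Matrix.mulVec_mulVec, ← Matrix.mulVec_mulVec, Matrix.smul_mulVec, hPcol, Matrix.mulVec_smul, hsw,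
        show (Matrix.of (fun x y => if ε x = π (ε y) then s (ε y) else 0) :
          Matrix (Unit ⊕ (Fin m ⊕ Fin m)) (Unit ⊕ (Fin m ⊕ Fin m)) F) *ᵥ Pi.single y 1 =
          s (ε y) • Pi.single (ε.symm (π (ε y))) 1 by
            rw [Matrix.mulVec_single_one]
            funext z
            simp [Pi.single_apply, Equiv.eq_symm_apply], Matrix.mulVec_smul, Matrix.smul_mulVec, hPcol,
        Equiv.apply_symm_apply, smul_comm]
    have hkeq : ((P₀⁻¹ * g * P₀ : GL (Unit ⊕ (Fin m ⊕ Fin m)) F) : Matrix _ _ F) =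
        Matrix.of (fun x y => if ε x = π (ε y) then s (ε y) else 0) := by
      rw [Units.val_mul, Units.val_mul, mul_assoc]
      show ((P₀⁻¹ : GL (Unit ⊕ (Fin m ⊕ Fin m)) F) : Matrix _ _ F) * ((g : Matrix _ _ F) * (l⁻¹ • P)) = _
      rw [hgP, ← mul_assoc, show ((P₀⁻¹ : GL (Unit ⊕ (Fin m ⊕ Fin m)) F) : Matrix _ _ F) * (l⁻¹ • P) = 1 from
        Units.inv_mul P₀, one_mul]
    rw [hkeq, Matrix.of_apply]
    split
    · rcases hs (ε y) with h | h <;> rw [h]
      · exact F₁.one_mem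
      · exact F₁.neg_mem F₁.one_mem
    · exact F₁.zero_mem


theorem card_odd_space : Fintype.card (Unit ⊕ (Fin m ⊕ Fin m)) = 2 * m + 1 := by simp; omega

theorem orth_goal_decomp (h2 : (2 : F) ≠ 0) (hH : H ≤ isometryGroup F (quadFormOdd m F))
    (h : OrthDecomp (RingEquiv.refl F) (oddGram m F) H) : OrthGoal H := by
  obtain ⟨t, k, D, hD, hle, htrans⟩ := h
  rw [← polar_eq_gram] at hD
  have hOD : IsOrthogonalMDecomposition (quadFormOdd m F) k D := by
    refine ⟨hD, fun i j => ?_⟩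
    obtain ⟨g, hg, hgij⟩ := htrans i j
    have hinj : Function.Injective (Matrix.toLin' (g : Matrix (Unit ⊕ (Fin m ⊕ Fin m)) (Unit ⊕ (Fin m ⊕ Fin m)) F)) :=
      fun x y hxy => by
        have := congrArg (fun z => ((g⁻¹ : GL (Unit ⊕ (Fin m ⊕ Fin m)) F) :
          Matrix (Unit ⊕ (Fin m ⊕ Fin m)) (Unit ⊕ (Fin m ⊕ Fin m)) F) *ᵥ z) hxy
        simpa [Matrix.toLin'_apply, Matrix.mulVec_mulVec] using this
    let e := (Submodule.equivMapOfInjective _ hinj (D i)).trans (LinearEquiv.ofEq _ _ hgij)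
    refine ⟨e, fun w => ?_⟩
    show quadFormOdd m F ((g : Matrix (Unit ⊕ (Fin m ⊕ Fin m)) (Unit ⊕ (Fin m ⊕ Fin m)) F) *ᵥ (w : _ → F)) = _
    exact hH hg w.1 w.1
  rcases Nat.lt_or_ge 1 k with hk | hk
  · exact Or.inl ⟨_, Or.inr (Or.inr (Or.inl ⟨t, k, D, hk, hOD, rfl⟩)), le_inf hle hH⟩
  have hk1 : k = 1 := le_antisymm hk hD.decomp.pos
  subst hk1
  by_cases hq : (Fintype.card F).Prime
  · exact Or.inl ⟨_, Or.inr (Or.inr (Or.inr (Or.inl ⟨t, D, hq, hOD, rfl⟩))), le_inf hle hH⟩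
  · exact orth_goal_lines h2 hH hq hOD hle

theorem orth_goal_rational (h2 : (2 : F) ≠ 0) (hH : H ≤ isometryGroup F (quadFormOdd m F))
    (h : RatCase (RingEquiv.refl F) (oddGram m F) H) : OrthGoal H := by
  obtain ⟨F₁, r, P, ζ, hr, hcard, hζ, hmem, hle⟩ := h
  set Pm : Matrix (Unit ⊕ (Fin m ⊕ Fin m)) (Unit ⊕ (Fin m ⊕ Fin m)) F :=
    (P : Matrix (Unit ⊕ (Fin m ⊕ Fin m)) (Unit ⊕ (Fin m ⊕ Fin m)) F) with hPm
  rw [show Pm.map (RingEquiv.refl F) = Pm from Matrix.map_id _] at hmem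
  set lam : F := ζ ^ m * Pm.det with hlam
  have hdetP : Pm.det ≠ 0 := ((Matrix.isUnit_iff_isUnit_det _).1 P.isUnit).ne_zero
  have hlam0 : lam ≠ 0 := mul_ne_zero (pow_ne_zero _ hζ) hdetP
  have hdetG : (oddGram m F).det ≠ 0 :=
    ((Matrix.isUnit_iff_isUnit_det _).1 (refl_oddGram h2).unit).ne_zero
  have he : ζ * lam ^ 2 ∈ F₁ := by
    have h1 : (ζ • (Pmᵀ * (oddGram m F * Pm))).det ∈ F₁ := det_mem_subfield F₁ fun i j => by
      rw [Matrix.smul_apply, smul_eq_mul]; exact hmem i j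
    rw [Matrix.det_smul, Matrix.det_mul, Matrix.det_mul, Matrix.det_transpose, card_odd_space] at h1
    have h3 := F₁.div_mem h1 (det_mem_subfield F₁ (oddGram_mem (m := m) F₁))
    rwa [show ζ ^ (2 * m + 1) * (Pm.det * ((oddGram m F).det * Pm.det)) / (oddGram m F).det = ζ * lam ^ 2 by
      field_simp; rw [hlam]; ring] at h3
  let P' : GL (Unit ⊕ (Fin m ⊕ Fin m)) F := sc (Units.mk0 lam hlam0)⁻¹ * P
  have hsub : subfieldSubgroup F₁ P' = subfieldSubgroup F₁ P := by
    show Subgroup.map _ _ = Subgroup.map _ _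
    congr 1
    refine MonoidHom.ext fun a => ?_
    show P' * a * P'⁻¹ = P * a * P⁻¹
    simp only [P']
    rw [_root_.mul_inv_rev, ← mul_assoc, mul_assoc (sc _) P a, mul_assoc (sc _) (P * a) P⁻¹,
      (sc_comm _ (P * a * P⁻¹)).eq, mul_inv_cancel_right]
  refine Or.inl ⟨_, Or.inr (Or.inr (Or.inr (Or.inr (Or.inr (Or.inr (Or.inl
    ⟨F₁, r, P', hr, hcard, fun u hu => ?_, rfl⟩)))))), le_inf (hsub.symm ▸ hle) hH⟩
  have hval : ((P' : GL (Unit ⊕ (Fin m ⊕ Fin m)) F) : Matrix (Unit ⊕ (Fin m ⊕ Fin m)) (Unit ⊕ (Fin m ⊕ Fin m)) F) =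
      lam⁻¹ • Pm := by
    simp only [P', Units.val_mul, sc_coe, Units.val_inv_eq_inv_val, Units.val_mk0, Matrix.smul_mul, one_mul, hPm]
  have h1 : formOfGram (RingEquiv.refl F) (oddGram m F) ((lam⁻¹ • Pm) *ᵥ u) ((lam⁻¹ • Pm) *ᵥ u) =
      (ζ * lam ^ 2)⁻¹ * formOfGram (RingEquiv.refl F) (ζ • (Pmᵀ * (oddGram m F * Pm))) u u := by
    rw [formOfGram_mulVec, show (lam⁻¹ • Pm).map (RingEquiv.refl F) = lam⁻¹ • Pm from Matrix.map_id _,
      Matrix.transpose_smul, Matrix.smul_mul, Matrix.mul_smul, Matrix.mul_smul, smul_smul, formOfGram_smul,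
      formOfGram_smul]
    field_simp
  rw [polar_self_odd, ← hval] at h1
  have htwo : (2 : F) ∈ F₁ := by rw [← one_add_one_eq_two]; exact F₁.add_mem F₁.one_mem F₁.one_mem
  rw [← mul_div_cancel_left₀ (quadFormOdd m F ((P' : Matrix (Unit ⊕ (Fin m ⊕ Fin m)) (Unit ⊕ (Fin m ⊕ Fin m)) F) *ᵥ u)) h2, h1]
  refine F₁.div_mem (F₁.mul_mem (F₁.inv_mem he) ?_) htwo
  refine F₁.sum_mem fun i _ => F₁.sum_mem fun j _ => F₁.mul_mem (F₁.mul_mem (hu i) ?_) (hu j)
  rw [Matrix.smul_apply, smul_eq_mul]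
  exact hmem i j

theorem orth_goal_core (hG : Refl (RingEquiv.refl F) (oddGram m F))
    (h : CoreCase (RingEquiv.refl F) (oddGram m F) H) : OrthGoal H := by
  obtain ⟨P, hcore, hPfix, hno⟩ := h
  refine Or.inr ⟨P, hcore, ?_⟩
  rintro ⟨σ', f, hf, hfix⟩
  have hs := sesq_of_unitary hf
  refine hno σ' (gramMatrix f) hf.ne_refl hf.involutive (gram_isUnit σ' ?_) (fix_of_fixesForm hs hfix)
  rw [show formOfGram σ' (gramMatrix f) = f from funext₂ fun u v => (hs.eq_gram u v).symm]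
  exact hf.nondegenerate

omit [Fintype F] in
theorem isSymmetricForm_gram {n : ℕ} {C : Matrix (Fin n) (Fin n) F} (hC : IsUnit C) (hsym : Cᵀ = C) :
    IsSymmetricForm (formOfGram (RingEquiv.refl F) C) := by
  have hs := sesq_formOfGram (RingEquiv.refl F) C
  refine ⟨⟨hs.add_left, hs.smul_left, hs.add_right, hs.smul_right⟩, fun u v => ?_, gram_nondeg _ hC⟩
  simp only [formOfGram, RingEquiv.refl_apply]
  rw [Finset.sum_comm]
  refine Finset.sum_congr rfl fun i _ => Finset.sum_congr rfl fun j _ => ?_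
  have h1 : C j i = C i j := congrFun (congrFun hsym i) j
  rw [h1]; ring

/-- Elements conjugate to orthogonal matrices. -/
theorem orth_conj {Z W : GL (Fin 3) F} {C : Matrix (Fin 3) (Fin 3) F}
    (hZ : (Z : Matrix (Fin 3) (Fin 3) F)ᵀ * (C * (Z : Matrix (Fin 3) (Fin 3) F)) = 1)
    (hW : (W : Matrix (Fin 3) (Fin 3) F)ᵀ * (C * (W : Matrix (Fin 3) (Fin 3) F)) = C) :
    Z⁻¹ * W * Z ∈ orthThree (F := F) := by
  set Zm := (Z : Matrix (Fin 3) (Fin 3) F)
  set Zi := ((Z⁻¹ : GL (Fin 3) F) : Matrix (Fin 3) (Fin 3) F)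
  set Wm := (W : Matrix (Fin 3) (Fin 3) F)
  have e0 : Ziᵀ * Zi = C := by
    calc Ziᵀ * Zi = Ziᵀ * ((Zmᵀ * (C * Zm)) * Zi) := by rw [hZ, one_mul]
      _ = (Zm * Zi)ᵀ * (C * (Zm * Zi)) := by simp [Matrix.transpose_mul, mul_assoc]
      _ = _ := by rw [show Zm * Zi = 1 from Units.mul_inv Z, Matrix.transpose_one, one_mul, mul_one]
  show (Zi * Wm * Zm)ᵀ * (Zi * Wm * Zm) = 1
  rw [Matrix.transpose_mul, Matrix.transpose_mul,
    show Zmᵀ * (Wmᵀ * Ziᵀ) * (Zi * Wm * Zm) = Zmᵀ * ((Wmᵀ * ((Ziᵀ * Zi) * Wm)) * Zm) by simp [mul_assoc], e0, hW, hZ]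

theorem orth_goal_family (hm : 3 ≤ m) (h2 : (2 : F) ≠ 0) (hH : H ≤ isometryGroup F (quadFormOdd m F))
    (h : FamilyMin (RingEquiv.refl F) (oddGram m F) H) : OrthGoal H := by
  classical
  obtain ⟨N, t, T, hN, hNG, hT⟩ := h
  obtain ⟨k, e, P, D, ⟨ht, hk, hDu, ⟨β, hβ⟩, ⟨c, hc, hgram⟩, hle⟩, hφ⟩ :=
    powerData_of_family (refl_oddGram h2) (mem_isometry_polar h2 hH) hNG hN hT
  haveI : Nonempty (Fin k) := ⟨⟨0, by omega⟩⟩
  have hkn : k ^ t = 2 * m + 1 := by
    have := Fintype.card_congr e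
    rw [card_odd_space, Fintype.card_fun, Fintype.card_fin, Fintype.card_fin] at this
    exact this.symm
  have hkodd : Odd k := by
    have : Odd (k ^ t) := hkn ▸ ⟨m, rfl⟩
    exact (Nat.odd_pow_iff (by omega)).1 this
  have hk3 : 3 ≤ k := by rcases hkodd with ⟨i, rfl⟩; omega
  rw [show Dᵀ.map (RingEquiv.refl F) = Dᵀ from Matrix.map_id _] at hβ
  have hsym := sym_transpose_scalar hkodd h2 hDu hβ
  by_cases hex : Fintype.card F = 3 ∧ k = 3
  · exfalso
    obtain ⟨h3, rfl⟩ := hex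
    obtain ⟨s, X, hs0, hX⟩ := sym_congr_one hkodd h2 hDu hsym
    obtain ⟨φ, hφi, hφs⟩ := hφ ⟨0, by omega⟩
    refine family_not_solvable hT _ (solvable_orth_three h3)
      (((MulAut.conj X⁻¹).toMonoidHom.comp φ).codRestrict (orthThree (F := F)) fun x => ?_) ?_
    · obtain ⟨μ, hμ⟩ := hφs x
      rw [show (φ x : Matrix (Fin 3) (Fin 3) F).map (RingEquiv.refl F) = (φ x : Matrix (Fin 3) (Fin 3) F) from
        Matrix.map_id _] at hμ
      have h1 := multiplier_three h3 hDu hμ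
      show X⁻¹ * φ x * X⁻¹⁻¹ ∈ orthThree (F := F)
      rw [inv_inv]
      refine orth_conj hX ?_
      rw [Matrix.smul_mul, Matrix.mul_smul, hμ, h1, one_smul]
    · intro a b hab
      exact hφi ((MulAut.conj X⁻¹).injective (congrArg Subtype.val hab))
  refine Or.inl ⟨_, Or.inr (Or.inr (Or.inr (Or.inr (Or.inr (Or.inr (Or.inr
    ⟨k, t, e, P, formOfGram (RingEquiv.refl F) D, hk3, ht, hex, isSymmetricForm_gram hDu hsym,
      ⟨c, hc, fun x y => ?_⟩, rfl⟩)))))), le_inf hle hH⟩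
  rw [gram_formOfGram, polar_eq_gram, form_coords, hgram, formOfGram_smul]
  simp [formOfGram, pureMat, Matrix.of_apply]

theorem orth_goal_monomial (h2 : (2 : F) ≠ 0) (hH : H ≤ isometryGroup F (quadFormOdd m F))
    (h3 : Fintype.card F = 3) {e : (Unit ⊕ (Fin m ⊕ Fin m)) ≃ Fin 3 × Fin 3}
    {P : GL (Unit ⊕ (Fin m ⊕ Fin m)) F} {c : F} (hc : c ≠ 0)
    (hgram : pull (RingEquiv.refl F) (oddGram m F) e P = c • 1)
    (hle : ∀ g ∈ H, ∃ A B : GL (Fin 3) F, A ∈ orthThree (F := F) ∧ B ∈ orthThree (F := F) ∧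
      (g : Matrix (Unit ⊕ (Fin m ⊕ Fin m)) (Unit ⊕ (Fin m ⊕ Fin m)) F) =
        co e P ((A : Matrix (Fin 3) (Fin 3) F) ⊗ₖ (B : Matrix (Fin 3) (Fin 3) F))) : OrthGoal H := by
  classical
  let ε : Fin 9 ≃ Fin 3 × Fin 3 := (finProdFinEquiv (m := 3) (n := 3)).symm
  let b : Fin 9 → Unit ⊕ (Fin m ⊕ Fin m) → F := fun i =>
    (P : Matrix (Unit ⊕ (Fin m ⊕ Fin m)) (Unit ⊕ (Fin m ⊕ Fin m)) F) *ᵥ ((Pi.single (ε i) (1 : F)) ∘ e)
  let D : Fin 9 → Submodule F (Unit ⊕ (Fin m ⊕ Fin m) → F) := fun i => Submodule.span F {b i}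
  have hform : ∀ i j, formOfGram (RingEquiv.refl F) (oddGram m F) (b i) (b j) = if i = j then c else 0 := fun i j => by
    rw [form_coords, hgram, formOfGram_smul, formOfGram_single, Matrix.one_apply]
    by_cases hij : i = j
    · simp [hij]
    · simp [hij]
  have hb0 : ∀ i, b i ≠ 0 := fun i h0 => hc (by
    have := hform i i
    rw [h0, if_pos rfl] at this
    rw [← this]; simp [formOfGram])
  have hcard9 : 2 * m + 1 = 9 := by rw [← card_odd_space (m := m), card_of_equiv e]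
  have hli : LinearIndependent F b := by
    rw [Fintype.linearIndependent_iff]
    intro g hg i
    have hs := sesq_formOfGram (RingEquiv.refl F) (oddGram m F)
    have h1 : ∀ (S : Finset (Fin 9)), formOfGram (RingEquiv.refl F) (oddGram m F) (∑ x ∈ S, g x • b x) (b i) =
        ∑ x ∈ S, g x * formOfGram (RingEquiv.refl F) (oddGram m F) (b x) (b i) := fun S => by
      induction S using Finset.induction_on with
      | empty => simp [formOfGram]
      | insert a S ha ih => rw [Finset.sum_insert ha, Finset.sum_insert ha, hs.add_left, hs.smul_left, ih]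
    have h4 := h1 Finset.univ
    rw [hg, Finset.sum_eq_single i (fun x _ hx => by rw [hform, if_neg hx, mul_zero])
      (fun hh => absurd (Finset.mem_univ _) hh), hform, if_pos rfl] at h4
    have h5 : g i * c = 0 := by rw [← h4]; simp [formOfGram]
    exact (mul_eq_zero.1 h5).resolve_right hc
  have hD : IsOrthogonalMDecomposition (quadFormOdd m F) 1 D := by
    refine ⟨⟨⟨by norm_num, one_pos, fun i => finrank_span_singleton (hb0 i), hli.iSupIndep_span_singleton, ?_⟩,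
      fun i w hw hw0 => ?_, fun i j hij u hu v hv => ?_⟩, fun i j => ?_⟩
    · show ⨆ i, Submodule.span F {b i} = ⊤
      rw [← Submodule.span_range_eq_iSup]
      exact hli.span_eq_top_of_card_eq_finrank' (by
        rw [Module.finrank_fintype_fun_eq_card, card_odd_space, hcard9, Fintype.card_fin])
    · obtain ⟨d, rfl⟩ := Submodule.mem_span_singleton.1 hw
      have hd : d ≠ 0 := fun h0 => hw0 (by simp [h0])
      have key : formOfGram (RingEquiv.refl F) (oddGram m F) (b i) (d • b i) ≠ 0 := by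
        rw [(sesq_formOfGram _ _).smul_right, hform, if_pos rfl]
        exact mul_ne_zero hd hc
      refine ⟨⟨b i, Submodule.mem_span_singleton_self _, by rwa [polar_eq_gram]⟩,
        ⟨b i, Submodule.mem_span_singleton_self _, ?_⟩⟩
      rw [polar_eq_gram, (sesq_formOfGram _ _).smul_left, hform, if_pos rfl]
      exact mul_ne_zero hd hc
    · obtain ⟨x, rfl⟩ := Submodule.mem_span_singleton.1 hu
      obtain ⟨y, rfl⟩ := Submodule.mem_span_singleton.1 hv
      rw [polar_eq_gram, (sesq_formOfGram _ _).smul_left, (sesq_formOfGram _ _).smul_right, hform, if_neg hij,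
        mul_zero, mul_zero]
    · let ei : (D i) ≃ₗ[F] (D j) := (LinearEquiv.toSpanNonzeroSingleton F _ (b i) (hb0 i)).symm.trans
        (LinearEquiv.toSpanNonzeroSingleton F _ (b j) (hb0 j))
      refine ⟨ei, fun w => ?_⟩
      obtain ⟨d, hd⟩ := Submodule.mem_span_singleton.1 w.2
      have hwd : w = LinearEquiv.toSpanNonzeroSingleton F _ (b i) (hb0 i) d := Subtype.ext hd.symm
      rw [hwd]
      simp only [ei, LinearEquiv.trans_apply, LinearEquiv.symm_apply_apply]
      show quadFormOdd m F (d • b j) = quadFormOdd m F (d • b i)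
      refine mul_left_cancel₀ h2 ?_
      rw [← polar_self_odd, ← polar_self_odd]
      simp only [(sesq_formOfGram _ _).smul_left, (sesq_formOfGram _ _).smul_right, hform, if_true]
  refine Or.inl ⟨_, Or.inr (Or.inr (Or.inr (Or.inl ⟨9, D, by rw [h3]; exact Nat.prime_three, hD, rfl⟩))),
    le_inf (fun g hg => ?_) hH⟩
  obtain ⟨A, B, hA, hB, hgv⟩ := hle g hg
  obtain hAm := fun j => monomial_three h3 hA j
  obtain hBm := fun j => monomial_three h3 hB j
  choose α hα hα0 using hAm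
  choose β hβ hβ0 using hBm
  have hmap : ∀ i, ∃ d : F, d ≠ 0 ∧
      (g : Matrix (Unit ⊕ (Fin m ⊕ Fin m)) (Unit ⊕ (Fin m ⊕ Fin m)) F) *ᵥ b i =
        d • b (ε.symm (α (ε i).1, β (ε i).2)) := by
    intro i
    refine ⟨(A : Matrix (Fin 3) (Fin 3) F) (α (ε i).1) (ε i).1 * (B : Matrix (Fin 3) (Fin 3) F) (β (ε i).2) (ε i).2,
      mul_ne_zero (hα _) (hβ _), ?_⟩
    simp only [b, Equiv.apply_symm_apply]
    have key := coords_mulVec e P ((A : Matrix (Fin 3) (Fin 3) F) ⊗ₖ (B : Matrix (Fin 3) (Fin 3) F))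
      ((P : Matrix (Unit ⊕ (Fin m ⊕ Fin m)) (Unit ⊕ (Fin m ⊕ Fin m)) F) *ᵥ ((Pi.single (ε i) (1 : F)) ∘ e))
    have hPz : (((P⁻¹ : GL (Unit ⊕ (Fin m ⊕ Fin m)) F) : Matrix (Unit ⊕ (Fin m ⊕ Fin m)) (Unit ⊕ (Fin m ⊕ Fin m)) F) *ᵥ
        ((P : Matrix (Unit ⊕ (Fin m ⊕ Fin m)) (Unit ⊕ (Fin m ⊕ Fin m)) F) *ᵥ ((Pi.single (ε i) (1 : F)) ∘ e))) ∘
        e.symm = Pi.single (ε i) (1 : F) := by
      rw [Matrix.mulVec_mulVec, Units.inv_mul, Matrix.one_mulVec, Function.comp_assoc, Equiv.self_comp_symm,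
        Function.comp_id]
    rw [← hgv, hPz, Matrix.mulVec_single_one] at key
    set w := (g : Matrix (Unit ⊕ (Fin m ⊕ Fin m)) (Unit ⊕ (Fin m ⊕ Fin m)) F) *ᵥ
      ((P : Matrix (Unit ⊕ (Fin m ⊕ Fin m)) (Unit ⊕ (Fin m ⊕ Fin m)) F) *ᵥ ((Pi.single (ε i) (1 : F)) ∘ e)) with hw
    have hw' : w = (P : Matrix (Unit ⊕ (Fin m ⊕ Fin m)) (Unit ⊕ (Fin m ⊕ Fin m)) F) *ᵥ
        (((((P⁻¹ : GL (Unit ⊕ (Fin m ⊕ Fin m)) F) : Matrix (Unit ⊕ (Fin m ⊕ Fin m)) (Unit ⊕ (Fin m ⊕ Fin m)) F) *ᵥ w) ∘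
          e.symm) ∘ e) := by
      rw [Function.comp_assoc, Equiv.symm_comp_self, Function.comp_id, Matrix.mulVec_mulVec, Units.mul_inv,
        Matrix.one_mulVec]
    rw [hw', key, ← Matrix.mulVec_smul]
    congr 1
    funext l
    simp only [Function.comp_apply, Matrix.transpose_apply, Matrix.col_apply, Pi.smul_apply, smul_eq_mul,
      Matrix.kroneckerMap_apply]
    obtain ⟨l1, l2⟩ := e l
    by_cases h1 : l1 = α (ε i).1
    · by_cases h2' : l2 = β (ε i).2
      · subst h1; subst h2'; simp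
      · rw [hβ0 _ l2 h2', mul_zero, Pi.single_eq_of_ne (fun hh => h2' (congrArg Prod.snd hh)), mul_zero]
    · rw [hα0 _ l1 h1, zero_mul, Pi.single_eq_of_ne (fun hh => h1 (congrArg Prod.fst hh)), mul_zero]
  let π : Fin 9 → Fin 9 := fun i => ε.symm (α (ε i).1, β (ε i).2)
  choose d hd0 hd using hmap
  have hπinj : Function.Injective π := by
    intro i j hij
    by_contra hne
    have h4 : d j • ((g : Matrix (Unit ⊕ (Fin m ⊕ Fin m)) (Unit ⊕ (Fin m ⊕ Fin m)) F) *ᵥ b i) =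
        d i • ((g : Matrix (Unit ⊕ (Fin m ⊕ Fin m)) (Unit ⊕ (Fin m ⊕ Fin m)) F) *ᵥ b j) := by
      rw [hd i, hd j, smul_smul, smul_smul, mul_comm, show ε.symm (α (ε i).1, β (ε i).2) = ε.symm (α (ε j).1, β (ε j).2)
        from hij]
    have h5 : d j • b i = d i • b j := Matrix.mulVec_injective_iff_isUnit.2 g.isUnit
      ((Matrix.mulVec_smul _ (d j) (b i)).trans (h4.trans (Matrix.mulVec_smul _ (d i) (b j)).symm))
    have := congrArg (fun z => formOfGram (RingEquiv.refl F) (oddGram m F) z (b i)) h5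
    simp only [(sesq_formOfGram _ _).smul_left, hform, if_neg (Ne.symm hne), if_true, mul_zero] at this
    exact mul_ne_zero (hd0 j) hc this
  refine ⟨Equiv.ofBijective π (Finite.injective_iff_bijective.1 hπinj), fun i => ?_⟩
  show (Submodule.span F {b i}).map _ = Submodule.span F {b (π i)}
  rw [Submodule.map_span, Set.image_singleton, Matrix.toLin'_apply, hd i]
  exact Submodule.span_singleton_smul_eq (IsUnit.mk0 _ (hd0 i)) _

theorem orth_goal_tensor (hm : 3 ≤ m) (h2 : (2 : F) ≠ 0) (hH : H ≤ isometryGroup F (quadFormOdd m F)) {a b : ℕ}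
    {e : (Unit ⊕ (Fin m ⊕ Fin m)) ≃ Fin a × Fin b} {P : GL (Unit ⊕ (Fin m ⊕ Fin m)) F}
    {C : Matrix (Fin a) (Fin a) F} {D : Matrix (Fin b) (Fin b) F}
    (h : TensorData (RingEquiv.refl F) (oddGram m F) H e P C D) : OrthGoal H := by
  classical
  suffices main : ∀ {a b : ℕ} {e : (Unit ⊕ (Fin m ⊕ Fin m)) ≃ Fin a × Fin b} {P : GL (Unit ⊕ (Fin m ⊕ Fin m)) F}
      {C : Matrix (Fin a) (Fin a) F} {D : Matrix (Fin b) (Fin b) F},
      TensorData (RingEquiv.refl F) (oddGram m F) H e P C D → a ≤ b → OrthGoal H by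
    rcases le_total a b with hab | hab
    · exact main h hab
    · exact main h.swap hab
  intro a b e P C D h hab
  have ha := h.ha
  have hb := h.hb
  haveI : Nonempty (Fin a) := ⟨⟨0, by omega⟩⟩
  haveI : Nonempty (Fin b) := ⟨⟨0, by omega⟩⟩
  have hn : a * b = 2 * m + 1 := by rw [← card_of_equiv e, card_odd_space]
  have hodd : Odd a ∧ Odd b := Nat.odd_mul.1 (hn ▸ ⟨m, rfl⟩)
  have ha3 : 3 ≤ a := by rcases hodd.1 with ⟨i, hi⟩; omega
  obtain ⟨α, β, hα, hβ⟩ := h.tr
  rw [show Cᵀ.map (RingEquiv.refl F) = Cᵀ from Matrix.map_id _] at hα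
  rw [show Dᵀ.map (RingEquiv.refl F) = Dᵀ from Matrix.map_id _] at hβ
  have hCs := sym_transpose_scalar hodd.1 h2 h.unit_left hα
  have hDs := sym_transpose_scalar hodd.2 h2 h.unit_right hβ
  rcases lt_or_eq_of_le hab with hlt | heq
  · refine Or.inl ⟨_, Or.inr (Or.inr (Or.inr (Or.inr (Or.inr (Or.inl ⟨a, b, e, P, _, _, ha3, hlt,
      isSymmetricForm_gram h.unit_left hCs, isSymmetricForm_gram h.unit_right hDs,
      ⟨1, one_ne_zero, fun x y => ?_⟩, rfl⟩))))), le_inf h.le hH⟩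
    rw [gram_formOfGram, gram_formOfGram, one_mul, polar_eq_gram, form_coords, h.gram]
    rfl
  subst heq
  obtain ⟨s, X, hs0, hX⟩ := sym_congr_one hodd.1 h2 h.unit_left hCs
  obtain ⟨t, Y, ht0, hY⟩ := sym_congr_one hodd.1 h2 h.unit_right hDs
  let e' : (Unit ⊕ (Fin m ⊕ Fin m)) ≃ (Fin 2 → Fin a) := e.trans (finTwoArrowEquiv (Fin a)).symm
  have hgram : pull (RingEquiv.refl F) (oddGram m F) e P = (s * t)⁻¹ • ((s • C) ⊗ₖ (t • D)) := by
    rw [h.gram, Matrix.smul_kronecker, Matrix.kronecker_smul, smul_smul, smul_smul, mul_assoc,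
      inv_mul_cancel₀ (mul_ne_zero hs0 ht0), one_smul]
  by_cases hex : Fintype.card F = 3 ∧ a = 3
  · obtain ⟨h3, rfl⟩ := hex
    let u : GL (Fin 3 × Fin 3) F := ⟨(X : Matrix (Fin 3) (Fin 3) F) ⊗ₖ (Y : Matrix (Fin 3) (Fin 3) F),
      ((X⁻¹ : GL (Fin 3) F) : Matrix (Fin 3) (Fin 3) F) ⊗ₖ ((Y⁻¹ : GL (Fin 3) F) : Matrix (Fin 3) (Fin 3) F),
      by rw [← Matrix.mul_kronecker_mul, Units.mul_inv, Units.mul_inv, Matrix.one_kronecker_one],
      by rw [← Matrix.mul_kronecker_mul, Units.inv_mul, Units.inv_mul, Matrix.one_kronecker_one]⟩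
    let P₂ : GL (Unit ⊕ (Fin m ⊕ Fin m)) F := P * glReindex e.symm u
    have hco : ∀ M : Matrix (Fin 3 × Fin 3) (Fin 3 × Fin 3) F, co e P₂ M =
        co e P ((u : Matrix _ _ F) * M * ((u⁻¹ : GL _ F) : Matrix _ _ F)) := fun M => by
      simp only [co, cj, P₂, _root_.mul_inv_rev, Units.val_mul, map_mul]
      rw [show ((glReindex e.symm u : GL (Unit ⊕ (Fin m ⊕ Fin m)) F) :
          Matrix (Unit ⊕ (Fin m ⊕ Fin m)) (Unit ⊕ (Fin m ⊕ Fin m)) F) =
          Matrix.reindexAlgEquiv F F e.symm (u : Matrix _ _ F) from rfl,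
        show (((glReindex e.symm u)⁻¹ : GL (Unit ⊕ (Fin m ⊕ Fin m)) F) :
          Matrix (Unit ⊕ (Fin m ⊕ Fin m)) (Unit ⊕ (Fin m ⊕ Fin m)) F) =
          Matrix.reindexAlgEquiv F F e.symm ((u⁻¹ : GL _ F) : Matrix _ _ F) from rfl]
      simp only [mul_assoc]
    have hgram₂ : pull (RingEquiv.refl F) (oddGram m F) e P₂ = (s * t)⁻¹ • 1 := by
      rw [pull]
      set Pm := (P : Matrix (Unit ⊕ (Fin m ⊕ Fin m)) (Unit ⊕ (Fin m ⊕ Fin m)) F)
      set R := Matrix.reindexAlgEquiv F F e.symm (u : Matrix _ _ F) with hR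
      rw [show (P₂ : Matrix (Unit ⊕ (Fin m ⊕ Fin m)) (Unit ⊕ (Fin m ⊕ Fin m)) F) = Pm * R from rfl,
        Matrix.transpose_mul, Matrix.map_mul,
        show Rᵀ * Pmᵀ * (oddGram m F * (Pm.map (RingEquiv.refl F) * R.map (RingEquiv.refl F))) =
          Rᵀ * ((Pmᵀ * (oddGram m F * Pm.map (RingEquiv.refl F))) * R.map (RingEquiv.refl F)) by simp [mul_assoc],
        map_mul, map_mul,
        show Matrix.reindexAlgEquiv F F e Rᵀ = (u : Matrix _ _ F)ᵀ by ext i j; simp [hR, Matrix.reindexAlgEquiv_apply],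
        show Matrix.reindexAlgEquiv F F e (R.map (RingEquiv.refl F)) = (u : Matrix _ _ F) by
          ext i j; simp [hR, Matrix.reindexAlgEquiv_apply],
        show Matrix.reindexAlgEquiv F F e (Pmᵀ * (oddGram m F * Pm.map (RingEquiv.refl F))) =
          (s * t)⁻¹ • ((s • C) ⊗ₖ (t • D)) from hgram, Matrix.smul_mul, Matrix.mul_smul,
        show (u : Matrix _ _ F) = (X : Matrix (Fin 3) (Fin 3) F) ⊗ₖ (Y : Matrix (Fin 3) (Fin 3) F) from rfl,
        kron_transpose, ← Matrix.mul_kronecker_mul, ← Matrix.mul_kronecker_mul, hX, hY, Matrix.one_kronecker_one]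
    refine orth_goal_monomial h2 hH h3 (e := e) (P := P₂) (inv_ne_zero (mul_ne_zero hs0 ht0)) hgram₂ fun g hg => ?_
    obtain ⟨A, B, v, hgv, hA, hB⟩ := h.sim g hg
    rw [show (A : Matrix (Fin 3) (Fin 3) F).map (RingEquiv.refl F) = (A : Matrix (Fin 3) (Fin 3) F) from
      Matrix.map_id _] at hA
    rw [show (B : Matrix (Fin 3) (Fin 3) F).map (RingEquiv.refl F) = (B : Matrix (Fin 3) (Fin 3) F) from
      Matrix.map_id _] at hB
    rw [multiplier_three h3 h.unit_left hA, one_smul] at hA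
    rw [multiplier_three h3 h.unit_right hB, one_smul] at hB
    refine ⟨X⁻¹ * A * X, Y⁻¹ * B * Y, orth_conj hX (by rw [Matrix.smul_mul, Matrix.mul_smul, hA]),
      orth_conj hY (by rw [Matrix.smul_mul, Matrix.mul_smul, hB]), ?_⟩
    rw [hgv, hco]
    congr 1
    show _ = ((X : Matrix (Fin 3) (Fin 3) F) ⊗ₖ (Y : Matrix (Fin 3) (Fin 3) F)) * _ *
      (((X⁻¹ : GL (Fin 3) F) : Matrix (Fin 3) (Fin 3) F) ⊗ₖ ((Y⁻¹ : GL (Fin 3) F) : Matrix (Fin 3) (Fin 3) F))
    rw [← Matrix.mul_kronecker_mul, ← Matrix.mul_kronecker_mul]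
    simp only [Units.val_mul, ← mul_assoc, Units.mul_inv, one_mul]
    simp only [mul_assoc, Units.mul_inv, mul_one]
  have hgram2 : pull (RingEquiv.refl F) (oddGram m F) e' P = (s * t)⁻¹ • pureMat ![s • C, t • D] := by
    ext x y
    have := congrFun (congrFun hgram (x 0, x 1)) (y 0, y 1)
    simp [pull, e', Matrix.reindexAlgEquiv_apply, pureMat, Fin.prod_univ_two] at this ⊢
    exact this
  obtain ⟨P', hle', hgram'⟩ := power_rebase hgram2 (h.le.trans (tensor_le_wreath e P)) ![X, Y]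
  have hgram'' : pull (RingEquiv.refl F) (oddGram m F) e' P' =
      (s * t)⁻¹ • (1 : Matrix (Fin 2 → Fin a) (Fin 2 → Fin a) F) := by
    rw [hgram', ← pureMat_one]
    congr 2
    funext i
    fin_cases i
    · exact hX
    · exact hY
  refine Or.inl ⟨_, Or.inr (Or.inr (Or.inr (Or.inr (Or.inr (Or.inr (Or.inr
    ⟨a, 2, e', P', formOfGram (RingEquiv.refl F) (1 : Matrix (Fin a) (Fin a) F), ha3, le_rfl, hex,
      isSymmetricForm_gram isUnit_one Matrix.transpose_one,
      ⟨_, inv_ne_zero (mul_ne_zero hs0 ht0), fun x y => ?_⟩, rfl⟩)))))), le_inf hle' hH⟩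
  rw [gram_formOfGram, polar_eq_gram, form_coords, hgram'', formOfGram_smul, ← pureMat_one]
  simp [formOfGram, pureMat]

/-- Aschbacher's theorem in the odd-dimensional orthogonal case. -/
theorem aschbacher_orth_odd (hodd : Odd (Fintype.card F)) (hm : 3 ≤ m)
    (hH : H ≤ isometryGroup F (quadFormOdd m F)) : OrthGoal H := by
  have h2 : (2 : F) ≠ 0 := fun h2 => by
    haveI : CharP F 2 := CharTwo.of_one_ne_zero_of_two_eq_zero one_ne_zero h2
    have := FiniteField.even_card_iff_char_two.1 (ringChar.eq F 2)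
    rw [Nat.odd_iff] at hodd
    omega
  have hG := refl_oddGram (F := F) (m := m) h2
  have hfix := mem_isometry_polar h2 hH
  have hcard := card_odd_space (m := m)
  by_cases hirr : Irr H
  swap
  · rcases reducible_case hG hfix.sims hirr with ⟨W, h1, hW, hle⟩ | ⟨W, h1, hW, h3, hle⟩ | ⟨k, D, hk, -, -⟩
    · refine Or.inl ⟨_, Or.inl ⟨W, h1, fun w hw => ?_, rfl⟩, le_inf hle hH⟩
      have := hW w hw w hw
      rw [polar_self_odd] at this
      exact (mul_eq_zero.1 this).resolve_left h2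
    · refine Or.inl ⟨_, Or.inr (Or.inl ⟨W, h1, fun ht => ?_, ?_, rfl⟩), le_inf hle hH⟩
      · rw [ht, finrank_top, Module.finrank_fintype_fun_eq_card] at h3
        omega
      · rw [polar_eq_gram]; exact hW
    · omega
  rcases irr_case hG (by omega) hfix hirr with h | h | h | ⟨a, b, e, P, C, D, h⟩ | ⟨N, hN, hscal, hle, hn, hmin, hab⟩ |
    h | h | h
  · exact orth_goal_decomp h2 hH h
  · obtain ⟨k, D, hk, -, -, -⟩ := pair_decomp hG hfix.sims hirr h
    omega
  · exact orth_goal_field h2 hH h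
  · exact orth_goal_tensor hm h2 hH h
  · exfalso
    haveI : Nonempty (Unit ⊕ (Fin m ⊕ Fin m)) := ⟨Sum.inl ()⟩
    obtain ⟨r, hD⟩ := exists_abData (by omega) hN hscal hn hmin hab
    obtain ⟨-, -, he⟩ := abelian_bilinear (by omega) hG (hfix.sims.sup_scalars.mono hle) hD
    rw [hcard] at he
    exact (Nat.not_even_iff_odd.2 ⟨m, rfl⟩) he
  · exact orth_goal_family hm h2 hH h
  · exact orth_goal_rational h2 hH h
  · exact orth_goal_core hG h

end Cfsg.Agent.Classical.Asch
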