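import Cfsg.Agent.Lib.Classical.AschOrthProper
import Cfsg.Agent.Lib.Classical.AschOrth
import Cfsg.Agent.Lib.Classical.OrthCount

/-!
The maximal subgroups of the odd dimensional orthogonal groups of small dimension.
-/

set_option autoImplicit false
set_option linter.unusedSectionVars false
set_option linter.unusedFintypeInType false
set_option linter.unusedDecidableInType false
set_option quotPrecheck false

namespace Cfsg.Agent.Classical.AschOrthTwo

open Matrix Module Cfsg.Geo OrthAut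

variable {F : Type*} [Field F] [Fintype F] {m : ℕ}

local notation "V" => (Unit ⊕ (Fin m ⊕ Fin m) → F)

theorem two_ne_zero_of_odd_card (hodd : Odd (Fintype.card F)) : (2 : F) ≠ 0 := by
  intro h
  have : CharP F 2 := (CharP.charP_iff_prime_eq_zero Nat.prime_two).2 (by exact_mod_cast h)
  obtain ⟨j, hj, hcard⟩ := FiniteField.card F 2
  rw [hcard, Nat.odd_pow_iff j.pos.ne'] at hodd
  exact absurd hodd (by decide)

theorem five_le_of_odd_card (hodd : Odd (Fintype.card F)) (h3 : Fintype.card F ≠ 3) : 5 ≤ Fintype.card F := by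
  obtain ⟨j, hj⟩ := hodd
  have := Fintype.one_lt_card (α := F)
  omega

/-- A maximal subgroup of `Ω` inside a proper overgroup is the intersection. -/
theorem omega_eq_inter {ι : Type} [Fintype ι] [DecidableEq ι] {Q : (ι → F) → F} {H M : Subgroup (GL ι F)}
    (hH : IsMaximalIn (Geo.omegaGL Q) H) (hle : H ≤ M) (hns : ¬ Geo.omegaGL Q ≤ M) :
    H = M ⊓ Geo.omegaGL Q :=
  ((hH.2 (M ⊓ Geo.omegaGL Q) (le_inf hle hH.1.le) inf_le_right).resolve_right
    fun h => hns (h.ge.trans inf_le_left)).symm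

/-- A proper non-degenerate subspace of an odd dimensional space may be replaced by one of even dimension. -/
theorem exists_even_nondeg {ι : Type} [Fintype ι] [DecidableEq ι] {Q : QuadraticForm F (ι → F)}
    (hQ : (QuadraticMap.polarBilin Q).Nondegenerate) (hn : Odd (Fintype.card ι)) {W : Submodule F (ι → F)}
    (h1 : W ≠ ⊥) (ht : W ≠ ⊤) (hW : IsNondegenerateOn (QuadraticMap.polar ⇑Q) W) :
    ∃ U : Submodule F (ι → F), U ≠ ⊥ ∧ U ≠ ⊤ ∧ Even (finrank F U) ∧ IsNondegenerateOn (QuadraticMap.polar ⇑Q) U ∧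
      subspaceStabilizer W ⊓ Geo.omegaGL ⇑Q ≤ subspaceStabilizer U ⊓ Geo.omegaGL ⇑Q := by
  rcases Nat.even_or_odd (finrank F W) with hev | hev
  · exact ⟨W, h1, ht, hev, hW, le_rfl⟩
  set P := QuadraticMap.polarBilin Q
  set U := LinearMap.BilinForm.orthogonal P W
  have hrefl : P.IsRefl := fun a b h => by
    rw [QuadraticMap.polarBilin_apply_apply, QuadraticMap.polar_comm]; exact h
  have hd : finrank F U = Fintype.card ι - finrank F W := by
    rw [LinearMap.BilinForm.finrank_orthogonal hQ W, Module.finrank_pi]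
  have hlt : finrank F W < Fintype.card ι := by
    have := Submodule.finrank_lt ht
    rwa [Module.finrank_pi] at this
  have horth : ∀ w ∈ W, ∀ u ∈ U, QuadraticMap.polar ⇑Q w u = 0 := fun w hw u hu => hu w hw
  have hnd : MaxTv.NdQ Q W := MaxTv.ndQ_of_isNondegenerateOn hW
  have hinf : W ⊓ U = ⊥ := (Submodule.eq_bot_iff _).2 fun x hx => by
    by_contra h0
    obtain ⟨y, hy, hxy⟩ := hnd x hx.1 h0
    exact hxy (by rw [QuadraticMap.polar_comm]; exact hx.2 y hy)
  have htop : W ⊔ U = ⊤ := Submodule.eq_top_of_finrank_eq (by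
    have h := Submodule.finrank_sup_add_finrank_inf_eq W U
    rw [hinf, finrank_bot] at h
    rw [Module.finrank_pi]
    omega)
  have hW0 : 0 < finrank F W := hev.pos
  refine ⟨U, fun h => ?_, fun h => ?_, ?_, fun u hu hu0 => ?_, le_inf (fun g hg => ?_) inf_le_right⟩
  · rw [h, finrank_bot] at hd; omega
  · rw [h, finrank_top, Module.finrank_pi] at hd; omega
  · rw [hd]; exact Nat.Odd.sub_odd hn hev
  · obtain ⟨z, hz⟩ : ∃ z, QuadraticMap.polar ⇑Q u z ≠ 0 := by
      by_contra hno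
      push Not at hno
      exact hu0 (hQ.1 u hno)
    obtain ⟨a, ha, b, hb, rfl⟩ := Submodule.mem_sup.1 (htop ▸ Submodule.mem_top : z ∈ W ⊔ U)
    rw [QuadraticMap.polar_add_right, QuadraticMap.polar_comm _ u a, horth a ha u hu, zero_add] at hz
    exact ⟨⟨b, hb, by rwa [QuadraticMap.polar_comm]⟩, b, hb, hz⟩
  · exact (MaxTv.mem_subspaceStabilizer_iff U g).2 (MaxTv.perp_stable htop horth hnd
      (MaxTv.isometry_of_mem_omegaGL hg.2) ((MaxTv.mem_subspaceStabilizer_iff W g).1 hg.1))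

/-- The shapes of maximal subgroups of `Ω` in odd dimension at most thirteen. -/
structure OrthShapeOdd (H : Subgroup (GL (Unit ⊕ (Fin m ⊕ Fin m)) F)) : Prop where
  shape :
    (∃ W : Submodule F V, W ≠ ⊥ ∧ IsTotallySingularQuad (quadFormOdd m F) W ∧
      H = subspaceStabilizer W ⊓ Geo.omegaGL (quadFormOdd m F)) ∨
    (∃ W : Submodule F V, W ≠ ⊥ ∧ Even (finrank F W) ∧
      IsNondegenerateOn (QuadraticMap.polar (quadFormOdd m F)) W ∧
      ¬ (Fintype.card F = 3 ∧ finrank F W = 2 ∧ IsPlusTypeOn (quadFormOdd m F) W) ∧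
      H = subspaceStabilizer W ⊓ Geo.omegaGL (quadFormOdd m F)) ∨
    (∃ (t k : ℕ) (D : Fin t → Submodule F V), 1 < k ∧ 2 ≤ t ∧ t * k = 2 * m + 1 ∧
      IsOrthogonalMDecomposition (quadFormOdd m F) k D ∧
      H = decompositionStabilizer D ⊓ Geo.omegaGL (quadFormOdd m F)) ∨
    ((Fintype.card F).Prime ∧ ∃ D : Fin (2 * m + 1) → Submodule F V, IsOrthogonalMDecomposition (quadFormOdd m F) 1 D ∧
      H = decompositionStabilizer D ⊓ Geo.omegaGL (quadFormOdd m F)) ∨
    (∃ (r : ℕ) (K : Subalgebra F (Matrix (Unit ⊕ (Fin m ⊕ Fin m)) (Unit ⊕ (Fin m ⊕ Fin m)) F)), r.Prime ∧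
      r ∣ 2 * m + 1 ∧ 2 * m + 1 ≠ r ∧ IsFieldSubalgebra r K ∧
      IsSelfAdjointFor (QuadraticMap.polar (quadFormOdd m F)) K ∧
      H = subalgebraNormalizer K ⊓ Geo.omegaGL (quadFormOdd m F)) ∨
    (∃ (F₀ : Subfield F) (r : ℕ) (P : GL (Unit ⊕ (Fin m ⊕ Fin m)) F), r.Prime ∧
      Fintype.card F = Nat.card F₀ ^ r ∧ IsQuadFormRationalStructure (quadFormOdd m F) F₀ P ∧
      H = subfieldSubgroup F₀ P ⊓ Geo.omegaGL (quadFormOdd m F)) ∨
    (m = 4 ∧ 5 ≤ Fintype.card F ∧ ∃ (e : (Unit ⊕ (Fin m ⊕ Fin m)) ≃ (Fin 2 → Fin 3))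
      (P : GL (Unit ⊕ (Fin m ⊕ Fin m)) F) (f₁ : (Fin 3 → F) → (Fin 3 → F) → F), IsSymmetricForm f₁ ∧
      IsTensorPowerFormStructure id (QuadraticMap.polar (quadFormOdd m F)) f₁ e P ∧
      H = tensorWreathSubgroup 3 2 e P ⊓ Geo.omegaGL (quadFormOdd m F)) ∨
    InOrthogonalResidualClass H

theorem orthShapeOdd (hodd : Odd (Fintype.card F)) (hm : 3 ≤ m) (hm' : m ≤ 6)
    {H : Subgroup (GL (Unit ⊕ (Fin m ⊕ Fin m)) F)} (hH : IsMaximalIn (Geo.omegaGL (quadFormOdd m F)) H) :
    OrthShapeOdd H := by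
  have h2 := two_ne_zero_of_odd_card hodd
  have hQ := Cfsg.Agent.Classical.nondegenerate_qfOdd (F := F) m h2
  have hc : Fintype.card (Unit ⊕ (Fin m ⊕ Fin m)) = 2 * m + 1 := by simp; omega
  have h7 : 7 ≤ Fintype.card (Unit ⊕ (Fin m ⊕ Fin m)) := by omega
  refine ⟨?_⟩
  rcases Asch.aschbacher_orth_odd hodd hm (hH.1.le.trans (Subgroup.map_subtype_le _)) with ⟨M, hM, hle⟩ | h
  swap
  · exact Or.inr (Or.inr (Or.inr (Or.inr (Or.inr (Or.inr (Or.inr h))))))
  rw [← Cfsg.Agent.Classical.coe_qfOdd] at hH ⊢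
  rcases hM with ⟨W, h1, h2', rfl⟩ | ⟨W, h1, ht, h2', rfl⟩ | ⟨t, k, D, hk, hD, rfl⟩ | ⟨t, D, hq, hD, rfl⟩ |
    ⟨r, K, hr, hrn, hK, hsa, rfl⟩ | ⟨n₁, n₂, e, P, f₁, f₂, hn₁, hn₂, -, -, -, rfl⟩ |
    ⟨F₀, r, P, hr, hcard, hrat, rfl⟩ | ⟨k, t, e, P, f₁, hk, ht, hex, hf₁, hst, rfl⟩
  · rw [← Cfsg.Agent.Classical.coe_qfOdd] at h2'
    have hWt : W ≠ ⊤ := by
      rintro rfl
      obtain ⟨e, hne⟩ : ∃ e : V, e ≠ 0 := ⟨Pi.single (Sum.inl ()) 1, by simp⟩
      exact hne (hQ.1 e fun y => MaxTv.polar_zero_of_sing h2' trivial trivial)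
    exact Or.inl ⟨W, h1, h2', omega_eq_inter hH (hle.trans inf_le_left) (not_omega_le_subspace hQ h7 h1 hWt)⟩
  · rw [← Cfsg.Agent.Classical.coe_qfOdd] at h2'
    obtain ⟨U, hU0, hUt, hev, hU, hWU⟩ := exists_even_nondeg hQ (hc.symm ▸ ⟨m, rfl⟩) h1 ht h2'
    have heq := omega_eq_inter hH ((le_inf (hle.trans inf_le_left) hH.1.le).trans hWU |>.trans inf_le_left)
      (not_omega_le_subspace hQ h7 hU0 hUt)
    refine Or.inr (Or.inl ⟨U, hU0, hev, hU, ?_, heq⟩)
    rintro ⟨hq, hd, hplus⟩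
    obtain ⟨K, hK1, hK2⟩ := plane_not_maximal (by omega) hQ h7 hd hU hplus
    rw [← heq] at hK1
    rcases hH.2 K hK1.le hK2.le with h | h
    · exact hK1.ne h.symm
    · exact hK2.ne h
  · rw [← Cfsg.Agent.Classical.coe_qfOdd] at hD
    have hcd : t * k = 2 * m + 1 := by rw [← hc]; exact MaxMon.decomp_card hD.decomp.decomp
    exact Or.inr (Or.inr (Or.inl ⟨t, k, D, hk, hD.decomp.decomp.two_le, hcd, hD,
      omega_eq_inter hH (hle.trans inf_le_left) (not_omega_le_decomp hQ h7 h2 hD.decomp)⟩))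
  · rw [← Cfsg.Agent.Classical.coe_qfOdd] at hD
    have hcd : t * 1 = 2 * m + 1 := by rw [← hc]; exact MaxMon.decomp_card hD.decomp.decomp
    obtain rfl : t = 2 * m + 1 := by omega
    exact Or.inr (Or.inr (Or.inr (Or.inl ⟨hq, D, hD,
      omega_eq_inter hH (hle.trans inf_le_left) (not_omega_le_decomp hQ h7 h2 hD.decomp)⟩)))
  · rw [← Cfsg.Agent.Classical.coe_qfOdd] at hsa
    haveI : Nonempty (Unit ⊕ (Fin m ⊕ Fin m)) := ⟨Sum.inl ()⟩
    have hdvd : r ∣ 2 * m + 1 := hc ▸ Asch.field_degree_dvd hK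
    exact Or.inr (Or.inr (Or.inr (Or.inr (Or.inl ⟨r, K, hr, hdvd, hrn, hK, hsa,
      omega_eq_inter hH (hle.trans inf_le_left) (not_omega_le_field hQ h7 hr.two_le hK)⟩))))
  · exfalso
    have h := Fintype.card_congr e
    rw [hc, Fintype.card_prod, Fintype.card_fin, Fintype.card_fin] at h
    have h3 : n₁ = 3 := by nlinarith
    subst h3
    have : n₂ = 4 := by omega
    omega
  · rw [← Cfsg.Agent.Classical.coe_qfOdd] at hrat
    exact Or.inr (Or.inr (Or.inr (Or.inr (Or.inr (Or.inl ⟨F₀, r, P, hr, hcard, hrat,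
      omega_eq_inter hH (hle.trans inf_le_left)
        (not_omega_le_subfield hQ h7 (Asch.subfield_ne_top hr hcard) P)⟩)))))
  · rw [← Cfsg.Agent.Classical.coe_qfOdd] at hst
    have h := Fintype.card_congr e
    rw [hc, Fintype.card_fun, Fintype.card_fin, Fintype.card_fin] at h
    have hkk : k ^ 2 ≤ k ^ t := Nat.pow_le_pow_right (by omega) ht
    obtain rfl : k = 3 := by nlinarith
    obtain rfl : t = 2 := by
      by_contra h3
      have := Nat.pow_le_pow_right (show 1 ≤ 3 by norm_num) (show 3 ≤ t by omega)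
      omega
    have hm4 : m = 4 := by omega
    exact Or.inr (Or.inr (Or.inr (Or.inr (Or.inr (Or.inr (Or.inl ⟨hm4,
      five_le_of_odd_card hodd fun h3 => hex ⟨h3, rfl⟩, e, P, f₁, hf₁, hst,
      omega_eq_inter hH (hle.trans inf_le_left) (not_omega_le_wreath_two hQ h7 h2 le_rfl e P)⟩))))))

/-- Over three elements a non-degenerate space of dimension three has an orthogonal basis of equal norms. -/
theorem exists_equal_norm_basis (h3 : Fintype.card F = 3) {ι : Type} [Fintype ι] [DecidableEq ι]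
    {Q : QuadraticForm F (ι → F)} {W : Submodule F (ι → F)}
    (hW : IsNondegenerateOn (QuadraticMap.polar ⇑Q) W) (hd : finrank F W = 3) :
    ∃ (v : Fin 3 → ι → F) (s : F), s ≠ 0 ∧ (∀ l, v l ∈ W ∧ Q (v l) = s) ∧
      (∀ l l', l ≠ l' → QuadraticMap.polar ⇑Q (v l) (v l') = 0) ∧ ∀ x ∈ W, ∃ a : Fin 3 → F, x = ∑ l, a l • v l := by
  classical
  have hcast : ((3 : ℕ) : F) = 0 := h3 ▸ FiniteField.cast_card_eq_zero F
  have h30 : (3 : F) = 0 := by exact_mod_cast hcast
  have h21 : (2 : F) = -1 := by linear_combination h30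
  have h2 : (2 : F) ≠ 0 := by rw [h21]; exact neg_ne_zero.2 one_ne_zero
  have hne1 : (1 : F) ≠ -1 := fun h => h2 (by linear_combination h)
  have hall : ∀ x : F, x ≠ 0 → x = 1 ∨ x = -1 := by
    intro x hx
    have h1 := FiniteField.pow_card_sub_one_eq_one x hx
    rw [h3] at h1
    exact sq_eq_one_iff.1 h1
  have hpick : ∀ T : Submodule F (ι → F), T ≠ ⊥ → IsNondegenerateOn (QuadraticMap.polar ⇑Q) T →
      ∃ x ∈ T, Q x ≠ 0 := by
    intro T hT hnd
    by_contra hno
    push Not at hno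
    obtain ⟨x, hx, hx0⟩ := Submodule.exists_mem_ne_zero_of_ne_bot hT
    obtain ⟨⟨y, hy, hxy⟩, -⟩ := hnd x hx hx0
    exact hxy (MaxTv.polar_zero_of_sing hno hy hx)
  have hstep : ∀ (T : Submodule F (ι → F)) (u : ι → F), IsNondegenerateOn (QuadraticMap.polar ⇑Q) T → u ∈ T →
      Q u ≠ 0 → IsNondegenerateOn (QuadraticMap.polar ⇑Q) (T ⊓ LinearMap.ker (QuadraticMap.polarBilin Q u)) ∧
        finrank F T ≤ finrank F (T ⊓ LinearMap.ker (QuadraticMap.polarBilin Q u) : Submodule F (ι → F)) + 1 := by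
    intro T u hnd hu hQu
    refine ⟨fun x hx hx0 => ?_, MaxTv.finrank_le_inf_ker_add_one T _⟩
    have hxu : QuadraticMap.polar ⇑Q u x = 0 := hx.2
    obtain ⟨-, y, hy, hxy⟩ := hnd x hx.1 hx0
    have huu : QuadraticMap.polar ⇑Q u u ≠ 0 := by rw [OrthAut.polar_self2]; exact mul_ne_zero h2 hQu
    set y' := y - (QuadraticMap.polar ⇑Q u y / QuadraticMap.polar ⇑Q u u) • u with hy'
    have hy'm : y' ∈ T ⊓ LinearMap.ker (QuadraticMap.polarBilin Q u) := by
      refine ⟨T.sub_mem hy (T.smul_mem _ hu), LinearMap.mem_ker.2 ?_⟩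
      rw [QuadraticMap.polarBilin_apply_apply, hy', QuadraticMap.polar_sub_right, QuadraticMap.polar_smul_right,
        smul_eq_mul, div_mul_cancel₀ _ huu, sub_self]
    have hxy' : QuadraticMap.polar ⇑Q x y' ≠ 0 := by
      rw [hy', QuadraticMap.polar_sub_right, QuadraticMap.polar_smul_right, QuadraticMap.polar_comm _ x u, hxu,
        smul_zero, sub_zero]
      exact hxy
    exact ⟨⟨y', hy'm, by rwa [QuadraticMap.polar_comm]⟩, y', hy'm, hxy'⟩
  obtain ⟨u, hu, hQu⟩ := hpick W (fun h => by rw [h, finrank_bot] at hd; omega) hW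
  obtain ⟨hW1, hd1⟩ := hstep W u hW hu hQu
  obtain ⟨v, hv, hQv⟩ := hpick _ (fun h => by rw [h, finrank_bot] at hd1; omega) hW1
  obtain ⟨hW2, hd2⟩ := hstep _ v hW1 hv hQv
  obtain ⟨w, hw, hQw⟩ := hpick _ (fun h => by rw [h, finrank_bot] at hd2; omega) hW2
  have huv : QuadraticMap.polar ⇑Q u v = 0 := hv.2
  have huw : QuadraticMap.polar ⇑Q u w = 0 := hw.1.2
  have hvw : QuadraticMap.polar ⇑Q v w = 0 := hw.2
  -- finish from three orthogonal vectors of equal norm
  have finish : ∀ (x y z : ι → F) (s : F), x ∈ W → y ∈ W → z ∈ W → s ≠ 0 → Q x = s → Q y = s → Q z = s →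
      QuadraticMap.polar ⇑Q x y = 0 → QuadraticMap.polar ⇑Q x z = 0 → QuadraticMap.polar ⇑Q y z = 0 →
      ∃ (v : Fin 3 → ι → F) (s : F), s ≠ 0 ∧ (∀ l, v l ∈ W ∧ Q (v l) = s) ∧
        (∀ l l', l ≠ l' → QuadraticMap.polar ⇑Q (v l) (v l') = 0) ∧
        ∀ x ∈ W, ∃ a : Fin 3 → F, x = ∑ l, a l • v l := by
    intro x y z s hx hy hz hs hQx hQy hQz hxy hxz hyz
    let f : Fin 3 → ι → F := ![x, y, z]
    have hf : ∀ l, f l ∈ W ∧ Q (f l) = s := by intro l; fin_cases l <;> simp [f, *]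
    have hfo : ∀ l l', l ≠ l' → QuadraticMap.polar ⇑Q (f l) (f l') = 0 := by
      intro l l' hll
      fin_cases l <;> fin_cases l' <;> first | exact absurd rfl hll | simp [f, hxy, hxz, hyz,
        QuadraticMap.polar_comm _ y x, QuadraticMap.polar_comm _ z x, QuadraticMap.polar_comm _ z y]
    have hli : LinearIndependent F f := by
      rw [Fintype.linearIndependent_iff]
      intro g hg l
      have h := congrArg (fun p => QuadraticMap.polarBilin Q (f l) p) hg
      simp only [map_sum, map_smul, map_zero, QuadraticMap.polarBilin_apply_apply] at h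
      rw [Finset.sum_eq_single l (fun l' _ hl' => by rw [hfo l l' (Ne.symm hl'), smul_zero]) (by simp),
        OrthAut.polar_self2, (hf l).2, smul_eq_mul] at h
      exact (mul_eq_zero.1 h).resolve_right (mul_ne_zero h2 hs)
    have hsp : Submodule.span F (Set.range f) = W := Submodule.eq_of_le_of_finrank_eq
      (Submodule.span_le.2 (by rintro _ ⟨l, rfl⟩; exact (hf l).1))
      (by rw [finrank_span_eq_card hli, hd, Fintype.card_fin])
    refine ⟨f, s, hs, hf, hfo, fun p hp => ?_⟩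
    rw [← hsp, Submodule.mem_span_range_iff_exists_fun] at hp
    obtain ⟨a, ha⟩ := hp
    exact ⟨a, ha.symm⟩
  -- two equal norms can be exchanged for two opposite ones
  have flip : ∀ (x y z : ι → F), x ∈ W → y ∈ W → z ∈ W → Q x ≠ 0 → Q y = Q x → Q z = -Q x →
      QuadraticMap.polar ⇑Q x y = 0 → QuadraticMap.polar ⇑Q x z = 0 → QuadraticMap.polar ⇑Q y z = 0 →
      ∃ (v : Fin 3 → ι → F) (s : F), s ≠ 0 ∧ (∀ l, v l ∈ W ∧ Q (v l) = s) ∧
        (∀ l l', l ≠ l' → QuadraticMap.polar ⇑Q (v l) (v l') = 0) ∧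
        ∀ x ∈ W, ∃ a : Fin 3 → F, x = ∑ l, a l • v l := by
    intro x y z hx hy hz hQx hyx hzx hxy hxz hyz
    refine finish (x + y) (x - y) z (-Q x) (W.add_mem hx hy) (W.sub_mem hx hy) hz (neg_ne_zero.2 hQx) ?_ ?_ hzx
      ?_ ?_ ?_
    · rw [OrthAut.quad_add, hxy, hyx]; linear_combination (Q x) * h30
    · rw [sub_eq_add_neg, OrthAut.quad_add, QuadraticMap.map_neg, QuadraticMap.polar_neg_right, hxy, hyx]
      linear_combination (Q x) * h30
    · rw [QuadraticMap.polar_add_left, QuadraticMap.polar_sub_right, QuadraticMap.polar_sub_right,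
        OrthAut.polar_self2, OrthAut.polar_self2, hxy, QuadraticMap.polar_comm _ y x, hxy, hyx]
      ring
    · rw [QuadraticMap.polar_add_left, hxz, hyz, add_zero]
    · rw [QuadraticMap.polar_sub_left, hxz, hyz, sub_zero]
  have hcases : ∀ a b : F, a ≠ 0 → b ≠ 0 → b = a ∨ b = -a := fun a b ha hb => by
    rcases hall a ha with rfl | rfl <;> rcases hall b hb with rfl | rfl <;> simp
  rcases hcases _ _ hQu hQv with e1 | e1 <;> rcases hcases _ _ hQu hQw with e2 | e2
  · exact finish u v w (Q u) hu hv.1 hw.1.1 hQu rfl e1 e2 huv huw hvw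
  · exact flip u v w hu hv.1 hw.1.1 hQu e1 e2 huv huw hvw
  · exact flip u w v hu hw.1.1 hv.1 hQu e2 e1 huw huv (by rw [QuadraticMap.polar_comm]; exact hvw)
  · exact flip v w u hv.1 hw.1.1 hu hQv (e2.trans e1.symm) (by rw [e1, neg_neg]) hvw
      (by rw [QuadraticMap.polar_comm]; exact huv) (by rw [QuadraticMap.polar_comm]; exact huw)

/-- Over three elements orthogonal triples of spaces refine to frames. -/
theorem triples_lines (h3 : Fintype.card F = 3) {ι : Type} [Fintype ι] [DecidableEq ι]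
    {Q : QuadraticForm F (ι → F)} {t : ℕ} {D : Fin t → Submodule F (ι → F)}
    (hD : IsOrthogonalMDecomposition ⇑Q 3 D) :
    ∃ D' : Fin (t * 3) → Submodule F (ι → F), IsOrthogonalMDecomposition ⇑Q 1 D' ∧
      decompositionStabilizer D ⊓ Geo.omegaGL ⇑Q ≤ decompositionStabilizer D' := by
  classical
  have ht := hD.decomp.decomp.two_le
  haveI : NeZero t := ⟨by omega⟩
  have hcast : ((3 : ℕ) : F) = 0 := h3 ▸ FiniteField.cast_card_eq_zero F
  have h30 : (3 : F) = 0 := by exact_mod_cast hcast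
  have h2 : (2 : F) ≠ 0 := fun h => one_ne_zero (α := F) (by linear_combination h30 - h)
  obtain ⟨v₀, s, hs, hv₀, hv₀o, hv₀x⟩ := exists_equal_norm_basis h3 (hD.decomp.nondegenerate 0)
    (hD.decomp.decomp.finrank_eq 0)
  choose iso hiso using fun i => hD.isometric 0 i
  let v : Fin t → Fin 3 → ι → F := fun i l => (iso i ⟨v₀ l, (hv₀ l).1⟩ : ι → F)
  have hvm : ∀ i l, v i l ∈ D i := fun i l => (iso i ⟨v₀ l, (hv₀ l).1⟩).2
  have hvQ : ∀ i l, Q (v i l) = s := fun i l => (hiso i _).trans (hv₀ l).2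
  have hvo : ∀ i l l', l ≠ l' → QuadraticMap.polar ⇑Q (v i l) (v i l') = 0 := by
    intro i l l' hll
    have h := hiso i (⟨v₀ l, (hv₀ l).1⟩ + ⟨v₀ l', (hv₀ l').1⟩)
    rw [map_add, Submodule.coe_add, Submodule.coe_add, OrthAut.quad_add, OrthAut.quad_add, hv₀o l l' hll] at h
    change Q (v i l) + Q (v i l') + QuadraticMap.polar ⇑Q (v i l) (v i l') = _ at h
    rw [hvQ, hvQ, (hv₀ l).2, (hv₀ l').2] at h
    linear_combination h
  have hvx : ∀ i, ∀ x ∈ D i, ∃ a : Fin 3 → F, x = ∑ l, a l • v i l := by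
    intro i x hx
    obtain ⟨a, ha⟩ := hv₀x _ ((iso i).symm ⟨x, hx⟩).2
    refine ⟨a, ?_⟩
    have h1 : (iso i).symm ⟨x, hx⟩ = ∑ l, a l • (⟨v₀ l, (hv₀ l).1⟩ : D 0) := Subtype.ext (by
      rw [ha, AddSubmonoidClass.coe_finsetSum]; rfl)
    have h2' := congrArg (fun p => ((iso i p : D i) : ι → F)) h1
    simp only [LinearEquiv.apply_symm_apply, map_sum, map_smul, AddSubmonoidClass.coe_finsetSum,
      Submodule.coe_smul] at h2'
    exact h2'
  let eN : Fin t × Fin 3 ≃ Fin (t * 3) := finProdFinEquiv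
  let w : Fin (t * 3) → ι → F := fun p => v (eN.symm p).1 (eN.symm p).2
  let D' : Fin (t * 3) → Submodule F (ι → F) := fun p => Submodule.span F {w p}
  have hwQ : ∀ p, Q (w p) = s := fun p => hvQ _ _
  have hw0 : ∀ p, w p ≠ 0 := fun p h => hs (by rw [← hwQ p, h, QuadraticMap.map_zero])
  have hwB : ∀ p, QuadraticMap.polar ⇑Q (w p) (w p) ≠ 0 := fun p => by
    rw [OrthAut.polar_self2, hwQ]; exact mul_ne_zero h2 hs
  have hwo : ∀ p p', p ≠ p' → QuadraticMap.polar ⇑Q (w p) (w p') = 0 := by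
    intro p p' hpp
    by_cases hi : (eN.symm p).1 = (eN.symm p').1
    · show QuadraticMap.polar ⇑Q (v _ _) (v _ _) = 0
      rw [hi]
      exact hvo _ _ _ fun hl => hpp (eN.symm.injective (Prod.ext hi hl))
    · exact hD.decomp.orthogonal _ _ hi _ (hvm _ _) _ (hvm _ _)
  have hli : LinearIndependent F w := by
    rw [Fintype.linearIndependent_iff]
    intro g hg p
    have h := congrArg (fun x => QuadraticMap.polarBilin Q (w p) x) hg
    simp only [map_sum, map_smul, map_zero, QuadraticMap.polarBilin_apply_apply] at h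
    rw [Finset.sum_eq_single p (fun p' _ hp' => by rw [hwo p p' (Ne.symm hp'), smul_zero]) (by simp),
      smul_eq_mul] at h
    exact (mul_eq_zero.1 h).resolve_right (hwB p)
  have hspan : iSup D' = ⊤ := by
    refine eq_top_iff.2 ?_
    rw [← hD.decomp.decomp.iSup_eq_top]
    refine iSup_le fun i x hx => ?_
    obtain ⟨a, rfl⟩ := hvx i x hx
    refine Submodule.sum_mem _ fun l _ => Submodule.smul_mem _ _ (Submodule.mem_iSup_of_mem (eN (i, l)) ?_)
    simp [D', w, Submodule.mem_span_singleton_self]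
  refine ⟨D', ⟨⟨⟨by omega, one_pos, fun p => finrank_span_singleton (hw0 p), hli.iSupIndep_span_singleton,
    hspan⟩, fun p x hx hx0 => ?_, fun p p' hpp x hx y hy => ?_⟩, fun p p' => ?_⟩, fun g hg => ?_⟩
  · obtain ⟨c, rfl⟩ := Submodule.mem_span_singleton.1 hx
    have hc0 : c ≠ 0 := fun h => hx0 (by rw [h, zero_smul])
    refine ⟨⟨w p, Submodule.mem_span_singleton_self _, ?_⟩, w p, Submodule.mem_span_singleton_self _, ?_⟩
    · rw [QuadraticMap.polar_smul_right, smul_eq_mul]; exact mul_ne_zero hc0 (hwB p)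
    · rw [QuadraticMap.polar_smul_left, smul_eq_mul]; exact mul_ne_zero hc0 (hwB p)
  · obtain ⟨c, rfl⟩ := Submodule.mem_span_singleton.1 hx
    obtain ⟨c', rfl⟩ := Submodule.mem_span_singleton.1 hy
    simp [QuadraticMap.polar_smul_left, QuadraticMap.polar_smul_right, hwo p p' hpp]
  · refine ⟨(LinearEquiv.toSpanNonzeroSingleton F _ (w p) (hw0 p)).symm.trans
      (LinearEquiv.toSpanNonzeroSingleton F _ (w p') (hw0 p')), fun x => ?_⟩
    obtain ⟨c, rfl⟩ := (LinearEquiv.toSpanNonzeroSingleton F _ (w p) (hw0 p)).surjective x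
    rw [LinearEquiv.trans_apply, LinearEquiv.symm_apply_apply]
    show Q (c • w p') = Q (c • w p)
    rw [QuadraticMap.map_smul, QuadraticMap.map_smul, hwQ, hwQ]
  · obtain ⟨σ, hσ⟩ := hg.1
    have hgQ := MaxTv.isometry_of_mem_omegaGL hg.2
    have key : ∀ p, ∃ p', (g : Matrix ι ι F) *ᵥ w p ∈ D' p' := by
      intro p
      set i := (eN.symm p).1
      have hx : (g : Matrix ι ι F) *ᵥ w p ∈ D (σ i) := by
        rw [← hσ i]; exact ⟨w p, hvm _ _, rfl⟩
      obtain ⟨a, ha⟩ := hvx _ _ hx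
      have hQa : a 0 * a 0 + a 1 * a 1 + a 2 * a 2 = 1 := by
        have h := hgQ (w p)
        rw [ha, hwQ, Fin.sum_univ_three] at h
        simp only [OrthAut.quad_add, QuadraticMap.map_smul, QuadraticMap.polar_add_left, QuadraticMap.polar_smul_left,
          QuadraticMap.polar_smul_right, hvo (σ i) 0 1 (by decide), hvo (σ i) 0 2 (by decide),
          hvo (σ i) 1 2 (by decide), hvQ, smul_eq_mul, mul_zero, add_zero] at h
        exact mul_left_cancel₀ hs (by linear_combination h)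
      have hsq : ∀ x : F, x = 0 ∨ x * x = 1 := fun x => by
        rcases eq_or_ne x 0 with h | h
        · exact Or.inl h
        · have h1 := FiniteField.pow_card_sub_one_eq_one x h
          rw [h3] at h1
          exact Or.inr (by linear_combination h1)
      rcases hsq (a 0) with e0 | e0 <;> rcases hsq (a 1) with e1 | e1 <;> rcases hsq (a 2) with e2 | e2
      case inr.inr.inr => exact absurd hQa (by rw [e0, e1, e2]; exact fun h => h2 (by linear_combination h))
      case inl.inl.inl => simp [e0, e1, e2] at hQa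
      case inl.inr.inr => exact absurd hQa (by rw [e0, e1, e2]; simp)
      case inr.inl.inr => exact absurd hQa (by rw [e0, e1, e2]; simp)
      case inr.inr.inl => exact absurd hQa (by rw [e0, e1, e2]; simp)
      case inl.inl.inr =>
        refine ⟨eN (σ i, 2), ?_⟩
        rw [ha, Fin.sum_univ_three, e0, e1]
        simp [D', w, Submodule.smul_mem, Submodule.mem_span_singleton_self]
      case inl.inr.inl =>
        refine ⟨eN (σ i, 1), ?_⟩
        rw [ha, Fin.sum_univ_three, e0, e2]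
        simp [D', w, Submodule.smul_mem, Submodule.mem_span_singleton_self]
      case inr.inl.inl =>
        refine ⟨eN (σ i, 0), ?_⟩
        rw [ha, Fin.sum_univ_three, e1, e2]
        simp [D', w, Submodule.smul_mem, Submodule.mem_span_singleton_self]
    choose τ hτ using key
    have hmap : ∀ p, (D' p).map (Matrix.toLin' (g : Matrix ι ι F)) = D' (τ p) := by
      intro p
      show (Submodule.span F {w p}).map _ = _
      rw [Submodule.map_span, Set.image_singleton, Matrix.toLin'_apply]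
      refine Submodule.eq_of_le_of_finrank_eq (Submodule.span_le.2 (by simpa using hτ p)) ?_
      rw [finrank_span_singleton (hw0 (τ p)), finrank_span_singleton]
      intro h0
      exact hw0 p (MaxTv.gl_mulVec_injective g (h0.trans (Matrix.mulVec_zero _).symm))
    have hτinj : Function.Injective τ := by
      intro p p' hpp
      by_contra hne
      obtain ⟨c, hc⟩ := Submodule.mem_span_singleton.1 (hτ p)
      obtain ⟨c', hc'⟩ := Submodule.mem_span_singleton.1 (hτ p')
      have h := OrthAut.isometry_polar hgQ (w p) (w p')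
      rw [← hc, ← hc', hwo p p' hne, hpp, QuadraticMap.polar_smul_left, QuadraticMap.polar_smul_right, smul_eq_mul,
        smul_eq_mul, mul_eq_zero, mul_eq_zero] at h
      rcases h with h | h | h
      · exact hw0 p (MaxTv.gl_mulVec_injective g (show _ *ᵥ w p = _ *ᵥ 0 by rw [← hc, h, zero_smul, Matrix.mulVec_zero]))
      · exact hw0 p' (MaxTv.gl_mulVec_injective g (show _ *ᵥ w p' = _ *ᵥ 0 by rw [← hc', h, zero_smul, Matrix.mulVec_zero]))
      · exact hwB _ h
    exact ⟨Equiv.ofBijective τ (Finite.injective_iff_bijective.1 hτinj), hmap⟩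

end Cfsg.Agent.Classical.AschOrthTwo
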