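import Cfsg.Agent.Lib.Classical.AschSLProper

/-!
The normaliser of a cubic extension of the field of four elements, cut with the special linear group, preserves a
structure over the field of two elements.
-/

set_option autoImplicit false
set_option linter.unusedSectionVars false
set_option linter.unusedFintypeInType false
set_option linter.unusedDecidableInType false

namespace Cfsg.Agent.Classical.Asch

open Matrix Module Cfsg.Geo

variable {F : Type*} [Field F]

/-- The companion matrix of `X³ + X + 1` in characteristic two. -/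
def compCubic (F : Type*) [Field F] : Matrix (Fin 3) (Fin 3) F := !![0, 0, 1; 1, 0, 1; 0, 1, 0]

/-- The change of basis which squares the companion matrix. -/
def frobCubic (F : Type*) [Field F] : Matrix (Fin 3) (Fin 3) F := !![1, 0, 0; 0, 0, 1; 0, 1, 1]

/-- A matrix in the algebra of the companion matrix. -/
def polyCubic (x y z : F) : Matrix (Fin 3) (Fin 3) F := !![x, z, y; y, x + z, y + z; z, y, x + z]

theorem eq_polyCubic {N : Matrix (Fin 3) (Fin 3) F} (h : N * compCubic F = compCubic F * N) :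
    N = polyCubic (N 0 0) (N 1 0) (N 2 0) := by
  have e := fun i j => congrFun (congrFun h i) j
  have h00 := e 0 0
  have h10 := e 1 0
  have h20 := e 2 0
  have h01 := e 0 1
  have h11 := e 1 1
  have h21 := e 2 1
  simp [compCubic, Matrix.mul_apply, Fin.sum_univ_three] at h00 h10 h20 h01 h11 h21
  ext i j
  fin_cases i <;> fin_cases j <;> simp [polyCubic] <;>
    first
      | linear_combination h00
      | linear_combination h10
      | linear_combination h20
      | linear_combination h01 + h20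
      | linear_combination h11 + h00 + h20
      | linear_combination h21 + h10

theorem det_poly_cubic (h2 : (2 : F) = 0) {x y z : F} (hx : x ^ 4 = x) (hy : y ^ 4 = y) (hz : z ^ 4 = z) :
    polyCubic x y z * (polyCubic x z (y + z) * polyCubic x (y + z) y) = (polyCubic x y z).det • 1 := by
  rw [Matrix.det_fin_three]
  have h3 : (3 : F) = 1 := by linear_combination h2
  have h4 : (4 : F) = 0 := by linear_combination 2 * h2
  have h5 : (5 : F) = 1 := by linear_combination 2 * h2
  have h6 : (6 : F) = 0 := by linear_combination 3 * h2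
  have h7 : (7 : F) = 1 := by linear_combination 3 * h2
  have h8 : (8 : F) = 0 := by linear_combination 4 * h2
  have h9 : (9 : F) = 1 := by linear_combination 4 * h2
  have h10 : (10 : F) = 0 := by linear_combination 5 * h2
  have h12 : (12 : F) = 0 := by linear_combination 6 * h2
  have h11 : (11 : F) = 1 := by linear_combination 5 * h2
  have h13 : (13 : F) = 1 := by linear_combination 6 * h2
  have h14 : (14 : F) = 0 := by linear_combination 7 * h2
  have h15 : (15 : F) = 1 := by linear_combination 7 * h2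
  have h16 : (16 : F) = 0 := by linear_combination 8 * h2
  have h17 : (17 : F) = 1 := by linear_combination 8 * h2
  have h18 : (18 : F) = 0 := by linear_combination 9 * h2
  have h19 : (19 : F) = 1 := by linear_combination 9 * h2
  have h20 : (20 : F) = 0 := by linear_combination 10 * h2
  have h21 : (21 : F) = 1 := by linear_combination 10 * h2
  have h22 : (22 : F) = 0 := by linear_combination 11 * h2
  have h23 : (23 : F) = 1 := by linear_combination 11 * h2
  have h24 : (24 : F) = 0 := by linear_combination 12 * h2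
  have hneg : ∀ t : F, -t = t := fun t => by linear_combination -t * h2
  ext i j
  fin_cases i <;> fin_cases j <;> simp [polyCubic, Matrix.mul_apply, Fin.sum_univ_three] <;> ring_nf <;>
    simp [h2, h3, h4, h5, h6, h7, h8, h9, h10, h11, h12, h13, h14, h15, h16, h17, h18, h19, h20, h21, h22, h23, h24, hneg, sub_eq_add_neg]

theorem frob_sq (h2 : (2 : F) = 0) : frobCubic F * compCubic F = compCubic F * compCubic F * frobCubic F := by
  ext i j
  fin_cases i <;> fin_cases j <;>
    simp [frobCubic, compCubic, Matrix.mul_apply, Fin.sum_univ_three] <;>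
    first | linear_combination h2 | linear_combination -h2

/-- A cubic field over four elements contains a root of `X³ + X + 1`. -/
theorem exists_root [Fintype F] (hq : Fintype.card F = 4) {K : Subalgebra F (Matrix (Fin 3) (Fin 3) F)}
    (hK : IsFieldSubalgebra 3 K) : ∃ a ∈ K, a ^ 3 = a + 1 ∧ ∀ c : F, a ≠ c • 1 := by
  classical
  letI iC : CommRing K := { (inferInstance : Ring K) with mul_comm := fun a b => Subtype.ext (hK.comm a a.2 b b.2) }
  haveI : Nontrivial K := ⟨0, 1, fun h => by
    have := congrFun (congrFun (congrArg Subtype.val h) 0) 0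
    simp at this⟩
  have hfield : IsField K := ⟨exists_pair_ne K, mul_comm, fun {a} ha => by
    obtain ⟨b, hb, hab⟩ := hK.inv a a.2 fun h => ha (Subtype.ext h)
    exact ⟨⟨b, hb⟩, Subtype.ext hab⟩⟩
  letI := hfield.toField
  haveI : Fintype K := Fintype.ofFinite K
  have hcard : Fintype.card K = 64 := by
    rw [card_eq_pow_finrank (K := F) (V := K), hq, hK.finrank_eq]; norm_num
  haveI : Fact (Nat.Prime 7) := ⟨by norm_num⟩
  obtain ⟨a, ha⟩ : ∃ a : Kˣ, orderOf a = 7 := exists_prime_orderOf_dvd_card 7 (by rw [Fintype.card_units, hcard]; norm_num)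
  have h2 : (2 : F) = 0 := by
    have h := Nat.cast_card_eq_zero F
    rw [hq] at h
    push_cast at h
    exact pow_eq_zero_iff two_ne_zero |>.1 (by linear_combination h)
  have h2K : (2 : K) = 0 := by
    have := congrArg (algebraMap F K) h2
    rwa [map_ofNat, map_zero] at this
  have ha7 : (a : K) ^ 7 = 1 := by rw [← Units.val_pow_eq_pow_val, ← ha, pow_orderOf_eq_one, Units.val_one]
  have ha1 : (a : K) ≠ 1 := fun h => by
    rw [Units.ext (show (a : K) = ((1 : Kˣ) : K) from h), orderOf_one] at ha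
    exact absurd ha (by norm_num)
  have hsc : ∀ b : K, b ^ 7 = 1 → b ≠ 1 → ∀ c : F, (b : Matrix (Fin 3) (Fin 3) F) ≠ c • 1 := by
    intro b hb7 hb1 c hc
    have hbc : b = algebraMap F K c := Subtype.ext (by rw [hc, Algebra.algebraMap_eq_smul_one]; rfl)
    have hc7 : c ^ 7 = 1 := by
      apply (algebraMap F K).injective
      rw [map_pow, ← hbc, hb7, map_one]
    have hc0 : c ≠ 0 := fun h0 => by rw [h0, zero_pow (by norm_num)] at hc7; exact zero_ne_one hc7
    have hc3 : c ^ 3 = 1 := by simpa [hq] using FiniteField.pow_card_sub_one_eq_one c hc0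
    have hc1 : c = 1 := by linear_combination hc7 - c * (c ^ 3 + 1) * hc3
    exact hb1 (by rw [hbc, hc1, map_one])
  have hprod : ((a : K) - 1) * (((a : K) ^ 3 + a + 1) * ((a : K) ^ 3 + a ^ 2 + 1)) = 0 := by
    linear_combination ha7 + (((a : K) ^ 4 - (a : K) ^ 3)) * h2K
  rcases mul_eq_zero.1 hprod with h | h
  · exact absurd (sub_eq_zero.1 h) ha1
  rcases mul_eq_zero.1 h with h | h
  · refine ⟨(a : K), (a : K).2, ?_, hsc a ha7 ha1⟩
    have h' : (a : K) ^ 3 = (a : K) + 1 := by linear_combination h - ((a : K) + 1) * h2K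
    exact congrArg Subtype.val h'
  · set b : K := (a : K) ^ 6 with hb
    have hb7 : b ^ 7 = 1 := by rw [hb, ← pow_mul, show 6 * 7 = 7 * 6 by norm_num, pow_mul, ha7, one_pow]
    have hb1 : b ≠ 1 := fun h1 => ha1 (by
      have : (a : K) * b = 1 := by rw [hb, ← pow_succ', ha7]
      rwa [h1, mul_one] at this)
    refine ⟨b, b.2, ?_, hsc b hb7 hb1⟩
    have hab : (a : K) * b = 1 := by rw [hb, ← pow_succ', ha7]
    have h' : b ^ 3 = b + 1 := by
      linear_combination (b ^ 3) * h - (((a : K) ^ 2 * b ^ 2 + (a : K) * b + 1) + b * ((a : K) * b + 1)) * hab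
        - (b + 1) * h2K
    exact congrArg Subtype.val h'

/-- The normaliser of a cubic extension of four elements is in a subfield group on the special linear group. -/
theorem cubic_subfield [Fintype F] (hq : Fintype.card F = 4) {K : Subalgebra F (Matrix (Fin 3) (Fin 3) F)}
    (hK : IsFieldSubalgebra 3 K) :
    ∃ (F₀ : Subfield F) (r : ℕ) (P : GL (Fin 3) F), r.Prime ∧ Fintype.card F = Nat.card F₀ ^ r ∧
      subalgebraNormalizer K ⊓ specialLinear (Fin 3) F ≤ subfieldSubgroup F₀ P := by
  classical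
  obtain ⟨a, haK, ha3, hans⟩ := exists_root hq hK
  have h2 : (2 : F) = 0 := by
    have h := Nat.cast_card_eq_zero F
    rw [hq] at h
    push_cast at h
    exact pow_eq_zero_iff two_ne_zero |>.1 (by linear_combination h)
  have hx4 : ∀ x : F, x ^ 4 = x := fun x => by simpa [hq] using FiniteField.pow_card x
  -- the field of two elements
  let F₀ : Subfield F :=
    { carrier := {x | x ^ 2 = x}
      mul_mem' := fun {x y} (hx : x ^ 2 = x) (hy : y ^ 2 = y) => show (x * y) ^ 2 = x * y by rw [mul_pow, hx, hy]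
      one_mem' := one_pow 2
      add_mem' := fun {x y} (hx : x ^ 2 = x) (hy : y ^ 2 = y) => show (x + y) ^ 2 = x + y by
        linear_combination hx + hy + x * y * h2
      zero_mem' := zero_pow two_ne_zero
      neg_mem' := fun {x} (hx : x ^ 2 = x) => show (-x) ^ 2 = -x by linear_combination hx + x * h2
      inv_mem' := fun x (hx : x ^ 2 = x) => show x⁻¹ ^ 2 = x⁻¹ by rw [inv_pow, hx] }
  have hF₀card : Nat.card F₀ = 2 := by
    have h01 : ∀ x : F, x ^ 2 = x ↔ x = 0 ∨ x = 1 := fun x => by
      constructor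
      · intro h
        have : x * (x - 1) = 0 := by linear_combination h
        rcases mul_eq_zero.1 this with h' | h'
        · exact Or.inl h'
        · exact Or.inr (sub_eq_zero.1 h')
      · rintro (rfl | rfl) <;> simp
    have hset : (F₀ : Set F) = {0, 1} := Set.ext fun x => h01 x
    rw [show Nat.card F₀ = Nat.card (F₀ : Set F) from rfl, hset, Nat.card_coe_set_eq, Set.ncard_pair zero_ne_one]
  -- coordinates
  set v0 : Fin 3 → F := Pi.single 0 1 with hv0
  have hv00 : v0 ≠ 0 := by simp [hv0]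
  have hindep : ∀ x y z : F, x • v0 + y • (a *ᵥ v0) + z • ((a * a) *ᵥ v0) = 0 → x = 0 ∧ y = 0 ∧ z = 0 := by
    intro x y z h
    set k : Matrix (Fin 3) (Fin 3) F := x • 1 + y • a + z • (a * a) with hk
    have hkK : k ∈ K := add_mem (add_mem (K.smul_mem (one_mem _) x) (K.smul_mem haK y))
      (K.smul_mem (mul_mem haK haK) z)
    have hkv : k *ᵥ v0 = 0 := by
      rw [hk, Matrix.add_mulVec, Matrix.add_mulVec, Matrix.smul_mulVec, Matrix.smul_mulVec, Matrix.smul_mulVec,
        Matrix.one_mulVec, h]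
    have hk0 : k = 0 := by
      by_contra hne
      obtain ⟨l, hl, hkl⟩ := hK.inv k hkK hne
      apply hv00
      rw [← Matrix.one_mulVec v0, ← hkl, hK.comm k hkK l hl, ← Matrix.mulVec_mulVec, hkv, Matrix.mulVec_zero]
    have hlin : ∀ x y : F, x • (1 : Matrix (Fin 3) (Fin 3) F) + y • a = 0 → x = 0 ∧ y = 0 := by
      intro x y h'
      by_cases hy : y = 0
      · subst hy
        have := congrFun (congrFun h' 0) 0
        simp at this
        exact ⟨this, rfl⟩
      · exfalso
        apply hans (-(y⁻¹ * x))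
        have h'' : y • a = -(x • (1 : Matrix (Fin 3) (Fin 3) F)) := eq_neg_of_add_eq_zero_right h'
        calc a = y⁻¹ • (y • a) := by rw [smul_smul, inv_mul_cancel₀ hy, one_smul]
          _ = _ := by rw [h'', smul_neg, smul_smul, neg_smul]
    by_cases hz : z = 0
    · subst hz
      rw [hk, zero_smul, add_zero] at hk0
      obtain ⟨h1, h2'⟩ := hlin x y hk0
      exact ⟨h1, h2', rfl⟩
    · exfalso
      set p := -(z⁻¹ * y) with hp
      set q := -(z⁻¹ * x) with hq'
      have hsq : a * a = q • 1 + p • a := by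
        have h' : z • (a * a) = -(x • (1 : Matrix (Fin 3) (Fin 3) F) + y • a) := eq_neg_of_add_eq_zero_right hk0
        calc a * a = z⁻¹ • (z • (a * a)) := by rw [smul_smul, inv_mul_cancel₀ hz, one_smul]
          _ = _ := by rw [h', smul_neg, smul_add, smul_smul, smul_smul, neg_add, hp, hq', neg_smul, neg_smul]
      have hcube : (p * q - 1) • (1 : Matrix (Fin 3) (Fin 3) F) + (p * p + q - 1) • a = 0 := by
        have h' : a * (a * a) = a + 1 := by rw [← ha3, pow_succ', sq]
        rw [hsq, Matrix.mul_add, Matrix.mul_smul, mul_one, Matrix.mul_smul, hsq, smul_add, smul_smul, smul_smul] at h'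
        rw [sub_smul, sub_smul, one_smul, one_smul, add_smul]
        calc (p * q) • 1 - 1 + ((p * p) • a + q • a - a)
            = (q • a + ((p * q) • (1 : Matrix (Fin 3) (Fin 3) F) + (p * p) • a)) - (a + 1) := by abel
          _ = 0 := by rw [h', sub_self]
      obtain ⟨h1, h2'⟩ := hlin _ _ hcube
      rcases eq_or_ne p 0 with hp0 | hp0
      · rw [hp0, zero_mul, zero_sub, neg_eq_zero] at h1
        exact one_ne_zero h1
      · have hp3 : p ^ 3 = 1 := by simpa [hq] using FiniteField.pow_card_sub_one_eq_one p hp0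
        exact hp0 (by linear_combination h1 - p * h2' + hp3 + h2)
  have hU : IsUnit (Matrix.of fun r j => (![v0, a *ᵥ v0, (a * a) *ᵥ v0] : Fin 3 → Fin 3 → F) j r) := by
    refine Matrix.linearIndependent_cols_iff_isUnit.1 (Fintype.linearIndependent_iff.2 fun g hg => ?_)
    have h' : g 0 • v0 + g 1 • (a *ᵥ v0) + g 2 • ((a * a) *ᵥ v0) = 0 := by
      rw [← hg, Fin.sum_univ_three]
      rfl
    obtain ⟨h0, h1, h2'⟩ := hindep _ _ _ h'
    intro i
    fin_cases i
    exacts [h0, h1, h2']
  obtain ⟨P, hP⟩ := hU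
  set C := compCubic F with hC
  have haP : a * (P : Matrix (Fin 3) (Fin 3) F) = (P : Matrix (Fin 3) (Fin 3) F) * C := by
    have hcol : ∀ j r, (a * (P : Matrix (Fin 3) (Fin 3) F)) r j =
        (a *ᵥ (![v0, a *ᵥ v0, (a * a) *ᵥ v0] : Fin 3 → Fin 3 → F) j) r := fun j r => by
      rw [hP]; rfl
    ext r j
    rw [hcol, hP]
    fin_cases j
    · simp [hC, compCubic, Matrix.mul_apply, Fin.sum_univ_three]
    · simp [hC, compCubic, Matrix.mul_apply, Fin.sum_univ_three, Matrix.mulVec_mulVec]
    · show (a *ᵥ ((a * a) *ᵥ v0)) r = _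
      rw [Matrix.mulVec_mulVec, show a * (a * a) = a + 1 by rw [← ha3, pow_succ', sq], Matrix.add_mulVec,
        Matrix.one_mulVec]
      simp [hC, compCubic, Matrix.mul_apply, Fin.sum_univ_three]
      ring
  set Φ : GL (Fin 3) F := Matrix.GeneralLinearGroup.mkOfDetNeZero (frobCubic F) (by
    simp [frobCubic, Matrix.det_fin_three]) with hΦdef
  have hΦ : (Φ : Matrix (Fin 3) (Fin 3) F) = frobCubic F := rfl
  have hΦdet : (Φ : Matrix (Fin 3) (Fin 3) F).det = 1 := by
    rw [hΦ]
    simp [frobCubic, Matrix.det_fin_three]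
    linear_combination -h2
  have hcjΦ : cj Φ C = C * C := by
    rw [cj, hΦ, hC, frob_sq h2, mul_assoc, ← hΦ, Units.mul_inv, mul_one]
  refine ⟨F₀, 2, P, Nat.prime_two, by rw [hq, hF₀card]; norm_num, ?_⟩
  rintro g ⟨hg, hgdet⟩
  set G : GL (Fin 3) F := P⁻¹ * g * P with hGdef
  have hGdet : (G : Matrix (Fin 3) (Fin 3) F).det = 1 := by
    rw [hGdef, Units.val_mul, Units.val_mul, Matrix.det_units_conj']
    exact congrArg Units.val (MonoidHom.mem_ker.1 hgdet)
  have hCa : cj P⁻¹ a = C := by
    rw [cj, inv_inv, mul_assoc, haP, ← mul_assoc, Units.inv_mul, one_mul]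
  have hC3 : C * (C * C) = C + 1 := by
    rw [← hCa, ← cj_mul, ← cj_mul, show a * (a * a) = a + 1 by rw [← ha3, pow_succ', sq], cj_add, cj,
      show cj P⁻¹ (1 : Matrix (Fin 3) (Fin 3) F) = 1 by simp [cj]]
  -- the image of the root
  set b := cj g a with hb
  have hbK : b ∈ K := (hg a).1 haK
  have hbC : cj G C = cj P⁻¹ b := by
    rw [hb, ← hCa, cj_cj, cj_cj]
    congr 1
    rw [hGdef]; group
  have hcases : b = a ∨ b = a * a ∨ b = a * a * (a * a) := by
    letI iC : CommRing K := { (inferInstance : Ring K) with mul_comm := fun x y => Subtype.ext (hK.comm x x.2 y y.2) }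
    haveI : Nontrivial K := ⟨0, 1, fun h => by
      have := congrFun (congrFun (congrArg Subtype.val h) 0) 0
      simp at this⟩
    have hfield : IsField K := ⟨exists_pair_ne K, mul_comm, fun {x} hx => by
      obtain ⟨y, hy, hxy⟩ := hK.inv x x.2 fun h => hx (Subtype.ext h)
      exact ⟨⟨y, hy⟩, Subtype.ext hxy⟩⟩
    letI := hfield.toField
    have h2K : (2 : K) = 0 := by
      have := congrArg (algebraMap F K) h2
      rwa [map_ofNat, map_zero] at this
    set A : K := ⟨a, haK⟩
    set B : K := ⟨b, hbK⟩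
    have hA : A ^ 3 = A + 1 := Subtype.ext ha3
    have hB : B ^ 3 = B + 1 := Subtype.ext (by
      show b ^ 3 = b + 1
      rw [hb, pow_succ', sq, ← cj_mul, ← cj_mul, show a * (a * a) = a + 1 by rw [← ha3, pow_succ', sq], cj_add]
      congr 1
      simp [cj])
    have hprod : (B - A) * ((B - A ^ 2) * (B - A ^ 4)) = 0 := by
      linear_combination hB + (-A * B ^ 2 + B * (A ^ 3 + A ^ 2 + A + 3) - (A ^ 4 + A ^ 2 + A + 1)) * hA
        + (B - (A ^ 2 + A) * B ^ 2 + (A + 1) ^ 2 * B - A ^ 2 - A) * h2K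
    rcases mul_eq_zero.1 hprod with h | h
    · exact Or.inl (congrArg Subtype.val (sub_eq_zero.1 h))
    rcases mul_eq_zero.1 h with h | h
    · exact Or.inr (Or.inl ((congrArg Subtype.val (sub_eq_zero.1 h)).trans (sq a)))
    · exact Or.inr (Or.inr ((congrArg Subtype.val (sub_eq_zero.1 h)).trans
        (show a ^ 4 = a * a * (a * a) by rw [← sq, ← sq, ← pow_mul])))
  obtain ⟨j, hj⟩ : ∃ j : ℕ, cj G C = cj (Φ ^ j) C := by
    have hpow : cj P⁻¹ (a * a) = C * C := by rw [cj_mul, hCa]
    rcases hcases with h | h | h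
    · exact ⟨0, by rw [hbC, h, hCa, pow_zero, cj_one]⟩
    · exact ⟨1, by rw [hbC, h, hpow, pow_one, hcjΦ]⟩
    · exact ⟨2, by rw [hbC, h, cj_mul, hpow, sq, ← cj_cj, hcjΦ, cj_mul, hcjΦ]⟩
  set N : GL (Fin 3) F := (Φ ^ j)⁻¹ * G with hNdef
  have hNC : cj N C = C := by rw [hNdef, ← cj_cj, hj, cj_inv_cj]
  have hcomm : (N : Matrix (Fin 3) (Fin 3) F) * C = C * (N : Matrix (Fin 3) (Fin 3) F) := by
    conv_rhs => rw [← hNC, cj, mul_assoc, Units.inv_mul, mul_one]
  obtain ⟨x, y, z, hN⟩ : ∃ x y z, (N : Matrix (Fin 3) (Fin 3) F) = polyCubic x y z :=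
    ⟨_, _, _, eq_polyCubic hcomm⟩
  have hNdet : (N : Matrix (Fin 3) (Fin 3) F).det = 1 := by
    have h : Matrix.GeneralLinearGroup.det N = 1 := by
      rw [hNdef, map_mul, map_inv, map_pow]
      have hd1 : Matrix.GeneralLinearGroup.det Φ = 1 := Units.ext (by
        rw [Matrix.GeneralLinearGroup.val_det_apply]; exact hΦdet)
      have hd2 : Matrix.GeneralLinearGroup.det G = 1 := Units.ext (by
        rw [Matrix.GeneralLinearGroup.val_det_apply]; exact hGdet)
      rw [hd1, hd2, one_pow, inv_one, one_mul]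
    exact congrArg Units.val h
  -- raising to the fourth power permutes the coordinates
  have h8 : (8 : F) = 0 := by linear_combination 4 * h2
  have h12 : (12 : F) = 0 := by linear_combination 6 * h2
  have h14 : (14 : F) = 0 := by linear_combination 7 * h2
  have h6 : (6 : F) = 0 := by linear_combination 3 * h2
  have h3 : (3 : F) = 1 := by linear_combination h2
  have h4 : (4 : F) = 0 := by linear_combination 2 * h2
  have hsq2 : ∀ x y z : F, polyCubic x y z * polyCubic x y z =
      polyCubic (x * x) (z * z) (y * y + z * z) := by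
    intro x y z
    ext i j
    fin_cases i <;> fin_cases j <;> simp [polyCubic, Matrix.mul_apply, Fin.sum_univ_three] <;> ring_nf <;>
      simp [h2, h3, h4]
  set M := polyCubic x y z with hM
  have hM4 : M ^ 4 = polyCubic x (y + z) y := by
    rw [show M ^ 4 = (M * M) * (M * M) by rw [← sq, ← sq, ← pow_mul], hsq2, hsq2]
    congr 1
    · linear_combination (norm := (ring_nf <;> simp [h2, h3, h4, h6, h8, h12, h14])) hx4 x
    · linear_combination (norm := (ring_nf <;> simp [h2, h3, h4, h6, h8, h12, h14])) hx4 y + hx4 z + (y * y) * (z * z) * h2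
    · linear_combination (norm := (ring_nf <;> simp [h2, h3, h4, h6, h8, h12, h14])) hx4 y + (z ^ 4 + y ^ 2 * z ^ 2) * h2
  have hM16 : M ^ 16 = polyCubic x z (y + z) := by
    rw [show M ^ 16 = ((M ^ 4) * (M ^ 4)) * ((M ^ 4) * (M ^ 4)) by rw [← sq, ← sq, ← pow_mul, ← pow_mul], hM4,
      hsq2, hsq2]
    congr 1
    · linear_combination (norm := (ring_nf <;> simp [h2, h3, h4, h6, h8, h12, h14])) hx4 x
    · linear_combination (norm := (ring_nf <;> simp [h2, h3, h4, h6, h8, h12, h14])) hx4 z + (y ^ 4 + y ^ 2 * z ^ 2 + y * z * (y ^ 2 + z ^ 2) * 0 + 2 * y ^ 3 * z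
        + 2 * y ^ 2 * z ^ 2 + 2 * y * z ^ 3 + 2 * y ^ 4) * h2 * 0 + 0
    · linear_combination (norm := (ring_nf <;> simp [h2, h3, h4, h6, h8, h12, h14])) hx4 y + hx4 z
  have hM21 : M ^ 21 = 1 := by
    rw [show M ^ 21 = M * (M ^ 16 * M ^ 4) by rw [← pow_add, ← pow_succ'], hM16, hM4,
      det_poly_cubic h2 (hx4 x) (hx4 y) (hx4 z), ← hM, ← hN, hNdet, one_smul]
  have hM7 : ∃ c : F, M ^ 7 = c • 1 := by
    have hcomm7 : M ^ 7 * C = C * M ^ 7 := (Commute.pow_left (show Commute M C by
      rw [← hN]; exact hcomm) 7).eq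
    have hu := eq_polyCubic hcomm7
    set u := (M ^ 7) 0 0
    set v := (M ^ 7) 1 0
    set w := (M ^ 7) 2 0
    have h74 : (M ^ 7) ^ 4 = M ^ 7 := by rw [← pow_mul, show 7 * 4 = 21 + 7 by norm_num, pow_add, hM21, one_mul]
    rw [hu, show (polyCubic u v w) ^ 4 = (polyCubic u v w * polyCubic u v w) * (polyCubic u v w * polyCubic u v w)
      by rw [← sq, ← sq, ← pow_mul], hsq2, hsq2] at h74
    have e1 := congrFun (congrFun h74 1) 0
    have e2 := congrFun (congrFun h74 2) 0
    simp [polyCubic] at e1 e2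
    have hw : w = 0 := by linear_combination (norm := (ring_nf <;> simp [h2, h3, h4, h6, h8, h12, h14])) -e1 + hx4 v + hx4 w + v * v * (w * w) * h2 - w * h2 * 0
    have hv : v = 0 := by
      rw [hw] at e2
      linear_combination (norm := (ring_nf <;> simp [h2, h3, h4, h6, h8, h12, h14])) e2 - hx4 v
    refine ⟨u, ?_⟩
    rw [hu, hv, hw]
    ext i j
    fin_cases i <;> fin_cases j <;> simp [polyCubic]
  obtain ⟨c, hc⟩ := hM7
  have hc0 : c ≠ 0 := fun h0 => by
    rw [h0, zero_smul] at hc
    have : M ^ 21 = 0 := by rw [show M ^ 21 = (M ^ 7) ^ 3 by rw [← pow_mul], hc, zero_pow (by norm_num)]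
    rw [hM21] at this
    exact one_ne_zero this
  have hM8 : M ^ 8 = c • M := by rw [pow_succ', hc, Matrix.mul_smul, mul_one]
  rw [show M ^ 8 = ((M * M) * (M * M)) * ((M * M) * (M * M)) by rw [← sq, ← sq, ← sq, ← pow_mul, ← pow_mul],
    hsq2, hsq2, hsq2] at hM8
  have f0 := congrFun (congrFun hM8 0) 0
  have f1 := congrFun (congrFun hM8 1) 0
  have f2 := congrFun (congrFun hM8 2) 0
  simp [hM, polyCubic] at f0 f1 f2
  have hc3 : c ^ 3 = 1 := by simpa [hq] using FiniteField.pow_card_sub_one_eq_one c hc0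
  have hsquare : x ^ 2 = c * x ∧ y ^ 2 = c * y ∧ z ^ 2 = c * z := by
    refine ⟨?_, ?_, ?_⟩
    · linear_combination (norm := (ring_nf <;> simp [h2, h3, h4, h6, h8, h12, h14])) f0 - (x ^ 4 + x) * hx4 x
    · linear_combination (norm := (ring_nf <;> simp [h2, h3, h4, h6, h8, h12, h14])) f1 - (y ^ 4 + y) * hx4 y + (y ^ 4 * z ^ 4 + z ^ 8 + y ^ 4 * z ^ 4) * h2 * 0
    · linear_combination (norm := (ring_nf <;> simp [h2, h3, h4, h6, h8, h12, h14])) f2 - (z ^ 4 + z) * hx4 z
  have hmem : ∀ t : F, t ^ 2 = c * t → c⁻¹ * t ∈ F₀ := fun t ht => by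
    show (c⁻¹ * t) ^ 2 = c⁻¹ * t
    rw [mul_pow, ht]
    field_simp
  -- assemble
  have hfrob : Φ ∈ (Matrix.GeneralLinearGroup.map (F₀.subtype : F₀ →+* F)).range := by
    let Φ0 : Matrix (Fin 3) (Fin 3) F₀ := !![1, 0, 0; 0, 0, 1; 0, 1, 1]
    refine ⟨Matrix.GeneralLinearGroup.mkOfDetNeZero Φ0 (by simp [Φ0, Matrix.det_fin_three]), Units.ext ?_⟩
    show Φ0.map (F₀.subtype) = frobCubic F
    ext i j
    fin_cases i <;> fin_cases j <;> simp [Φ0, frobCubic]
  have hNmem : N ∈ (Matrix.GeneralLinearGroup.map (F₀.subtype : F₀ →+* F)).range ⊔ scalars (Fin 3) F := by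
    let M0 : Matrix (Fin 3) (Fin 3) F₀ := Matrix.of fun i j =>
      (⟨c⁻¹ * polyCubic x y z i j, by
        have hadd : ∀ s t : F, c⁻¹ * s ∈ F₀ → c⁻¹ * t ∈ F₀ → c⁻¹ * (s + t) ∈ F₀ := fun s t hs ht => by
          rw [mul_add]; exact add_mem hs ht
        fin_cases i <;> fin_cases j <;> simp [polyCubic] <;>
          first
            | exact hmem _ hsquare.1
            | exact hmem _ hsquare.2.1
            | exact hmem _ hsquare.2.2
            | exact hadd _ _ (hmem _ hsquare.1) (hmem _ hsquare.2.2)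
            | exact hadd _ _ (hmem _ hsquare.2.1) (hmem _ hsquare.2.2)⟩ : F₀)
    have hM0 : M0.map F₀.subtype = c⁻¹ • (N : Matrix (Fin 3) (Fin 3) F) := by
      rw [hN]; ext i j; rfl
    have hdet0 : M0.det ≠ 0 := fun h0 => by
      have h' := congrArg F₀.subtype h0
      rw [RingHom.map_det, RingHom.mapMatrix_apply, hM0, Matrix.det_smul, hNdet, mul_one, map_zero] at h'
      exact hc0 (inv_eq_zero.1 ((pow_eq_zero_iff (by simp)).1 h'))
    have heq : N = Matrix.GeneralLinearGroup.map (F₀.subtype : F₀ →+* F)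
        (Matrix.GeneralLinearGroup.mkOfDetNeZero M0 hdet0) * sc (Units.mk0 c hc0) := Units.ext (by
      rw [Units.val_mul]
      show _ = _ * ((sc (Units.mk0 c hc0) : GL (Fin 3) F) : Matrix (Fin 3) (Fin 3) F)
      rw [sc_coe]
      show _ = M0.map F₀.subtype * _
      rw [hM0, Matrix.mul_smul, mul_one, smul_smul, Units.val_mk0, mul_inv_cancel₀ hc0, one_smul]
      exact (Units.val_mul _ _).symm)
    rw [heq]
    exact Subgroup.mul_mem_sup ⟨_, rfl⟩ (sc_mem _)
  refine ⟨G, ?_, by simp [hGdef, mul_assoc]⟩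
  rw [show G = Φ ^ j * N by rw [hNdef]; group]
  exact mul_mem (Subgroup.mem_sup_left (pow_mem hfrob j)) hNmem

end Cfsg.Agent.Classical.Asch
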