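import Cfsg.Agent.Lib.Classical.AschPlanes
import Cfsg.Agent.Lib.Classical.AschCubic
import Cfsg.Agent.Lib.Classical.AschLinear

/-!
The maximal subgroups of the special linear groups: members of the geometric classes or residual.
-/

set_option autoImplicit false
set_option linter.unusedSectionVars false
set_option linter.unusedFintypeInType false
set_option linter.unusedDecidableInType false

namespace Cfsg.Agent.Classical.Asch

open Matrix Module Cfsg.Geo

variable {F : Type*} [Field F] [Fintype F] {n : ℕ}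

/-- A maximal subgroup of the special linear group inside a proper overgroup is the intersection. -/
theorem eq_inter {H M : Subgroup (GL (Fin n) F)} (hH : IsMaximalIn (specialLinear (Fin n) F) H) (hle : H ≤ M)
    (hns : ¬ specialLinear (Fin n) F ≤ M) : H = M ⊓ specialLinear (Fin n) F :=
  ((hH.2 (M ⊓ specialLinear (Fin n) F) (le_inf hle hH.1.le) inf_le_right).resolve_right
    fun h => hns (h.ge.trans inf_le_left)).symm

theorem subfield_ne_top {F₀ : Subfield F} {r : ℕ} (hr : r.Prime) (hc : Fintype.card F = Nat.card F₀ ^ r) :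
    F₀ ≠ ⊤ := by
  intro htop
  subst htop
  have h1 : Nat.card (⊤ : Subfield F) = Fintype.card F := by
    rw [← Nat.card_eq_fintype_card]
    exact Nat.card_congr Subfield.topEquiv.toEquiv
  rw [h1] at hc
  have h2 := Fintype.one_lt_card (α := F)
  have h3 : Fintype.card F ^ 1 < Fintype.card F ^ r := Nat.pow_lt_pow_right h2 hr.one_lt
  rw [pow_one] at h3
  omega

/-- The shapes of maximal subgroups of the special linear group, before numerical conditions. -/
structure SLShape (H : Subgroup (GL (Fin n) F)) : Prop where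
  shape :
    (∃ W : Submodule F (Fin n → F), W ≠ ⊥ ∧ W ≠ ⊤ ∧ H = subspaceStabilizer W ⊓ specialLinear (Fin n) F) ∨
    (∃ (t m : ℕ) (D : Fin t → Submodule F (Fin n → F)), IsMDecomposition m D ∧ t * m = n ∧ m ∣ n ∧ m < n ∧
      H = decompositionStabilizer D ⊓ specialLinear (Fin n) F) ∨
    (∃ (r : ℕ) (K : Subalgebra F (Matrix (Fin n) (Fin n) F)), r.Prime ∧ r ∣ n ∧ IsFieldSubalgebra r K ∧
      H = subalgebraNormalizer K ⊓ specialLinear (Fin n) F) ∨
    (∃ (a b : ℕ) (e : Fin n ≃ Fin a × Fin b) (P : GL (Fin n) F), 2 ≤ a ∧ a < b ∧ a * b = n ∧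
      H = tensorProductSubgroup a b e P ⊓ specialLinear (Fin n) F) ∨
    (∃ (m t : ℕ) (e : Fin n ≃ (Fin t → Fin m)) (P : GL (Fin n) F), 3 ≤ m ∧ 2 ≤ t ∧ m ^ t = n ∧
      H = tensorWreathSubgroup m t e P ⊓ specialLinear (Fin n) F) ∨
    (∃ (F₀ : Subfield F) (r : ℕ) (P : GL (Fin n) F), r.Prime ∧ Fintype.card F = Nat.card F₀ ^ r ∧
      H = subfieldSubgroup F₀ P ⊓ specialLinear (Fin n) F) ∨
    (∃ (r m : ℕ) (R : Subgroup (GL (Fin n) F)), IsLinearSymplecticTypeData r R ∧ n = r ^ m ∧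
      H = subgroupNormalizer R ⊓ specialLinear (Fin n) F) ∨
    (Odd (Fintype.card F) ∧ ∃ Q : (Fin n → F) → F, IsNondegenerateQuadraticForm Q ∧
      H = quadSimilarityGroup Q ⊓ specialLinear (Fin n) F) ∨
    (Even n ∧ ∃ f : (Fin n → F) → (Fin n → F) → F, IsSymplecticForm f ∧
      H = similarityGroup f ⊓ specialLinear (Fin n) F) ∨
    (∃ (σ : F ≃+* F) (f : (Fin n → F) → (Fin n → F) → F), IsUnitaryForm σ f ∧
      H = similarityGroup f ⊓ specialLinear (Fin n) F) ∨
    InLinearResidualClass H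

theorem slShape (hn : 3 ≤ n) {H : Subgroup (GL (Fin n) F)} (hH : IsMaximalIn (specialLinear (Fin n) F) H) :
    SLShape H := by
  have h3 : 3 ≤ Fintype.card (Fin n) := by simpa
  refine ⟨?_⟩
  rcases aschbacher H h3 with ⟨W, h1, h2, hle⟩ | ⟨t, m, D, hD, hle⟩ | ⟨r, K, hr, hK, hle⟩ |
    ⟨a, b, e, P, ha, hab, hle⟩ | ⟨m, t, e, P, hm, ht, hle⟩ | ⟨F₀, r, P, hr, hc, hle⟩ | ⟨r, m, R, hR, hrm, hle⟩ |
    (⟨f, hf, he, hle⟩ | ⟨σ, f, hf, hle⟩ | ⟨Q, hQ, h2, hle⟩) | h
  · exact Or.inl ⟨W, h1, h2, eq_inter hH hle (not_sl_le_subspace (by omega) h1 h2)⟩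
  · have hc : t * m = n := by simpa using MaxMon.decomp_card hD
    refine Or.inr (Or.inl ⟨t, m, D, hD, hc, Dvd.intro_left _ hc, ?_,
      eq_inter hH hle (not_sl_le_decomp (by omega) hD)⟩)
    have := hD.two_le
    have := hD.pos
    nlinarith
  · haveI : Nonempty (Fin n) := ⟨⟨0, by omega⟩⟩
    have hdvd : r ∣ n := by simpa using field_degree_dvd hK
    exact Or.inr (Or.inr (Or.inl ⟨r, K, hr, hdvd, hK, eq_inter hH hle (not_sl_le_field h3 hr.two_le hK)⟩))
  · have hc : a * b = n := by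
      have := Fintype.card_congr e
      simpa using this.symm
    exact Or.inr (Or.inr (Or.inr (Or.inl ⟨a, b, e, P, ha, hab, hc,
      eq_inter hH hle (not_sl_le_tensor ha (by omega) e P)⟩)))
  · have hc : m ^ t = n := by
      have := Fintype.card_congr e
      simpa using this.symm
    exact Or.inr (Or.inr (Or.inr (Or.inr (Or.inl ⟨m, t, e, P, hm, ht, hc,
      eq_inter hH hle (not_sl_le_wreath (by omega) ht e P)⟩))))
  · exact Or.inr (Or.inr (Or.inr (Or.inr (Or.inr (Or.inl ⟨F₀, r, P, hr, hc,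
      eq_inter hH hle (not_sl_le_subfield (by omega) (subfield_ne_top hr hc) P)⟩)))))
  · exact Or.inr (Or.inr (Or.inr (Or.inr (Or.inr (Or.inr (Or.inl ⟨r, m, R, hR, by simpa using hrm,
      eq_inter hH hle (not_sl_le_normalizer h3 hR)⟩))))))
  · exact Or.inr (Or.inr (Or.inr (Or.inr (Or.inr (Or.inr (Or.inr (Or.inr (Or.inl ⟨by simpa using he, f, hf,
      eq_inter hH hle (not_sl_le_similarity h3 (sesq_of_bilinear hf.bilinear) hf.nondegenerate)⟩))))))))
  · exact Or.inr (Or.inr (Or.inr (Or.inr (Or.inr (Or.inr (Or.inr (Or.inr (Or.inr (Or.inl ⟨σ, f, hf,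
      eq_inter hH hle (not_sl_le_similarity h3 (sesq_of_unitary hf) hf.nondegenerate)⟩)))))))))
  · exact Or.inr (Or.inr (Or.inr (Or.inr (Or.inr (Or.inr (Or.inr (Or.inl ⟨odd_card_of_two_ne h2, Q, hQ,
      eq_inter hH hle (not_sl_le_quadSimilarity h3 hQ)⟩)))))))
  · exact Or.inr (Or.inr (Or.inr (Or.inr (Or.inr (Or.inr (Or.inr (Or.inr (Or.inr (Or.inr h)))))))))

/-- Stabilisers of lines over fewer than five elements fall into other classes. -/
theorem lines_small (hn : 3 ≤ n) {H : Subgroup (GL (Fin n) F)} (hH : IsMaximalIn (specialLinear (Fin n) F) H)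
    (hq : Fintype.card F < 5) {t : ℕ} (htn : t * 1 = n) {D : Fin t → Submodule F (Fin n → F)}
    (hD : IsMDecomposition 1 D) (hHD : H = decompositionStabilizer D ⊓ specialLinear (Fin n) F) :
    (∃ W : Submodule F (Fin n → F), W ≠ ⊥ ∧ W ≠ ⊤ ∧ H = subspaceStabilizer W ⊓ specialLinear (Fin n) F) ∨
    (Odd (Fintype.card F) ∧ ∃ Q : (Fin n → F) → F, IsNondegenerateQuadraticForm Q ∧
      H = quadSimilarityGroup Q ⊓ specialLinear (Fin n) F) ∨
    (∃ (σ : F ≃+* F) (f : (Fin n → F) → (Fin n → F) → F), IsUnitaryForm σ f ∧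
      H = similarityGroup f ⊓ specialLinear (Fin n) F) := by
  rw [mul_one] at htn
  subst htn
  have h3 : 3 ≤ Fintype.card (Fin t) := by simpa
  have hle : H ≤ decompositionStabilizer D := hHD.le.trans inf_le_left
  have h1 := Fintype.one_lt_card (α := F)
  rcases (by omega : Fintype.card F = 2 ∨ Fintype.card F = 3 ∨ Fintype.card F = 4) with h | h | h
  · obtain ⟨W, hW1, hW2, hW⟩ := lines_fixed_vector (by omega) h hD
    exact Or.inl ⟨W, hW1, hW2, eq_inter hH (hle.trans hW) (not_sl_le_subspace (by omega) hW1 hW2)⟩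
  · obtain ⟨Q, hQ, h2, hQle⟩ := lines_quadratic h hD
    exact Or.inr (Or.inl ⟨odd_card_of_two_ne h2, Q, hQ,
      eq_inter hH (hle.trans hQle) (not_sl_le_quadSimilarity h3 hQ)⟩)
  · obtain ⟨σ, f, hf, hfle⟩ := lines_unitary h hD
    exact Or.inr (Or.inr ⟨σ, f, hf,
      eq_inter hH (hle.trans hfle) (not_sl_le_similarity h3 (sesq_of_unitary hf) hf.nondegenerate)⟩)

/-- Stabilisers of planes over two elements, or of two planes over three, fall into the symplectic class. -/
theorem planes_small (hn : 3 ≤ n) {H : Subgroup (GL (Fin n) F)} (hH : IsMaximalIn (specialLinear (Fin n) F) H)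
    {t : ℕ} (hcase : Fintype.card F = 2 ∨ (t = 2 ∧ Fintype.card F = 3)) {D : Fin t → Submodule F (Fin n → F)}
    (hD : IsMDecomposition 2 D) (hHD : H = decompositionStabilizer D ⊓ specialLinear (Fin n) F) :
    ∃ f : (Fin n → F) → (Fin n → F) → F, IsSymplecticForm f ∧
      H = similarityGroup f ⊓ specialLinear (Fin n) F := by
  obtain ⟨f, hf, hle⟩ := planes_symplectic hD hcase
  exact ⟨f, hf, eq_inter hH (hHD.le.trans hle)
    (not_sl_le_similarity (by simpa) (sesq_of_bilinear hf.bilinear) hf.nondegenerate)⟩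

/-- A tensor product with a plane over two elements falls into the field class. -/
theorem tensor_small (hn : 3 ≤ n) {H : Subgroup (GL (Fin n) F)} (hH : IsMaximalIn (specialLinear (Fin n) F) H)
    (hq : Fintype.card F < 3) {b : ℕ} (hb : 2 < b) {e : Fin n ≃ Fin 2 × Fin b} {P : GL (Fin n) F}
    (hHD : H = tensorProductSubgroup 2 b e P ⊓ specialLinear (Fin n) F) :
    ∃ K : Subalgebra F (Matrix (Fin n) (Fin n) F), IsFieldSubalgebra 2 K ∧
      H = subalgebraNormalizer K ⊓ specialLinear (Fin n) F := by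
  have h1 := Fintype.one_lt_card (α := F)
  obtain ⟨K, hK, hle⟩ := tensor_two_field (by omega) (by omega : 0 < b) e P
  exact ⟨K, hK, eq_inter hH (hHD.le.trans (inf_le_left.trans hle)) (not_sl_le_field (by simpa) le_rfl hK)⟩

/-- The cubic normaliser over four elements falls into the subfield class. -/
theorem cubic_small {H : Subgroup (GL (Fin 3) F)} (hH : IsMaximalIn (specialLinear (Fin 3) F) H)
    (hq : Fintype.card F = 4) {K : Subalgebra F (Matrix (Fin 3) (Fin 3) F)} (hK : IsFieldSubalgebra 3 K)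
    (hHD : H = subalgebraNormalizer K ⊓ specialLinear (Fin 3) F) :
    ∃ (F₀ : Subfield F) (r : ℕ) (P : GL (Fin 3) F), r.Prime ∧ Fintype.card F = Nat.card F₀ ^ r ∧
      H = subfieldSubgroup F₀ P ⊓ specialLinear (Fin 3) F := by
  obtain ⟨F₀, r, P, hr, hc, hle⟩ := cubic_subfield hq hK
  exact ⟨F₀, r, P, hr, hc, eq_inter hH (hHD.le.trans hle)
    (not_sl_le_subfield (by simp) (subfield_ne_top hr hc) P)⟩

/-- Arithmetic of the sixth class for an odd prime. -/
theorem class_six_odd {r : ℕ} {R : Subgroup (GL (Fin n) F)} (hR : IsLinearSymplecticTypeData r R)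
    (hr : Odd r) :
    ∃ p e : ℕ, p.Prime ∧ CharP F p ∧ Fintype.card F = p ^ e ∧ e < r ∧ Odd e ∧ (p % r) ^ e % r = 1 ∧
      ∀ d, d < e → 0 < d → (p % r) ^ d % r ≠ 1 := by
  obtain ⟨p, e, hrp, ⟨hp, hchar, hcard, hdvd, hmin⟩, hcase⟩ := hR.field
  rcases hcase with ⟨-, he, hz, -⟩ | ⟨rfl, -⟩ | ⟨rfl, -⟩
  rotate_left
  · exact absurd hr (by decide)
  · exact absurd hr (by decide)
  rw [hz] at hdvd hmin
  have hrp' : r.Prime := hR.symplecticType.prime
  have key : ∀ d, r ∣ p ^ d - 1 ↔ (p % r) ^ d % r = 1 := fun d => by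
    have h1 : 1 ≤ p ^ d := Nat.one_le_pow _ _ hp.pos
    rw [← Nat.modEq_iff_dvd' h1, ← Nat.pow_mod]
    show 1 % r = p ^ d % r ↔ _
    rw [Nat.one_mod_eq_one.2 hrp'.ne_one, eq_comm]
  refine ⟨p, e, hp, hchar, hcard, ?_, he, (key e).1 hdvd, fun d hd hd0 h => hmin d hd0 hd ((key d).2 h)⟩
  by_contra hle
  haveI : Fact r.Prime := ⟨hrp'⟩
  have hcop : (p : ZMod r) ≠ 0 := fun h0 => hrp ((Nat.prime_dvd_prime_iff_eq hrp' hp).1
    ((ZMod.natCast_eq_zero_iff p r).1 h0))
  refine hmin (r - 1) (by have := hrp'.two_le; omega) (by have := hrp'.two_le; omega) ?_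
  rw [← ZMod.natCast_eq_zero_iff, Nat.cast_sub (Nat.one_le_pow _ _ hp.pos), Nat.cast_pow,
    ZMod.pow_card_sub_one_eq_one hcop, Nat.cast_one, sub_self]

/-- Arithmetic of the sixth class for the prime two. -/
theorem class_six_two (hn : 3 ≤ n) {R : Subgroup (GL (Fin n) F)} (hR : IsLinearSymplecticTypeData 2 R) :
    ∃ p : ℕ, p.Prime ∧ Fintype.card F = p ∧ p % 4 = 1 := by
  obtain ⟨p, e, -, ⟨hp, -, hcard, hdvd, -⟩, hcase⟩ := hR.field
  rcases hcase with ⟨h, -⟩ | ⟨-, rfl, hz, -⟩ | ⟨-, -, h2, -⟩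
  · exact absurd h (by decide)
  · rw [hz, pow_one] at hdvd
    refine ⟨p, hp, by rw [hcard, pow_one], ?_⟩
    have := hp.two_le
    omega
  · rw [Fintype.card_fin] at h2
    omega

theorem class_six_one {r : ℕ} {R : Subgroup (GL (Fin n) F)} (hR : IsLinearSymplecticTypeData r R)
    (hr : Odd r) (hone : ∀ a < r, ∀ e < r, (∀ d < e, 0 < d → a ^ d % r ≠ 1) → e % 2 = 1 → a ^ e % r = 1 →
      e = 1 ∧ a = 1) :
    ∃ p : ℕ, p.Prime ∧ Fintype.card F = p ∧ p % r = 1 := by
  obtain ⟨p, e, hp, -, hcard, her, heo, hpe, hmin⟩ := class_six_odd hR hr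
  obtain ⟨he, hp1⟩ := hone _ (Nat.mod_lt _ hR.symplecticType.prime.pos) e her hmin (Nat.odd_iff.1 heo) hpe
  exact ⟨p, hp, by rw [hcard, he, pow_one], hp1⟩

theorem prime_pow_eq {r m k : ℕ} (hr : r.Prime) {n : ℕ} (h : n = r ^ m) (hk : k.Prime) (hdvd : k ∣ n) : r = k := by
  subst h
  exact ((Nat.prime_dvd_prime_iff_eq hk hr).1 (hk.dvd_of_dvd_pow hdvd)).symm

end Cfsg.Agent.Classical.Asch

namespace Cfsg.Agent.Classical.Asch

theorem wreath_shape {m t n : ℕ} (hm : 3 ≤ m) (ht : 2 ≤ t) (hn : n ≤ 12) (h : m ^ t = n) :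
    m = 3 ∧ t = 2 ∧ n = 9 := by
  have h1 : m ^ 2 ≤ m ^ t := Nat.pow_le_pow_right (by omega) ht
  have h2 : m = 3 := by nlinarith
  subst h2
  have h3 : t < 3 := by
    by_contra hc
    have : (3 : ℕ) ^ 3 ≤ 3 ^ t := Nat.pow_le_pow_right (by omega) (by omega)
    omega
  interval_cases t
  exact ⟨rfl, rfl, by omega⟩

theorem card_ne_six {F : Type*} [Field F] [Fintype F] : Fintype.card F ≠ 6 := by
  intro h
  haveI : CharP F (ringChar F) := ringChar.charP F
  obtain ⟨k, hp, hk⟩ := FiniteField.card F (ringChar F)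
  rw [h] at hk
  have hdvd : ringChar F ∣ 6 := hk ▸ dvd_pow_self _ k.ne_zero
  have hle : ringChar F ≤ 6 := Nat.le_of_dvd (by norm_num) hdvd
  have h2 := hp.two_le
  have hk6 : (k : ℕ) < 3 := by
    by_contra hc
    have : (2 : ℕ) ^ 3 ≤ ringChar F ^ (k : ℕ) := le_trans (Nat.pow_le_pow_left h2 3)
      (Nat.pow_le_pow_right hp.pos (by omega))
    omega
  have hk0 := k.pos
  generalize ringChar F = p at hp hk hle h2
  generalize (k : ℕ) = j at hk hk6 hk0
  interval_cases p <;> interval_cases j <;> first | omega | (norm_num at hp)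

end Cfsg.Agent.Classical.Asch
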