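import Cfsg.Agent.Lib.Classical.MaxOverfieldMain
import Cfsg.Agent.Lib.Classical.MaxSympWreath

/-!
Symplectic extension-field subgroups: the setting and the pair of a line and a moved line.
-/

set_option autoImplicit false
set_option linter.unusedSectionVars false

namespace Cfsg.Agent.Classical.SpOver

open Matrix Module MaxTv Overfield

variable {F : Type*} [Field F] {m : ℕ}
variable {E : Type*} [Field E] [Algebra F E] [Module E (Fin m ⊕ Fin m → F)]
variable [IsScalarTower F E (Fin m ⊕ Fin m → F)]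

local notation "V" => (Fin m ⊕ Fin m → F)
local notation "Mn" => Matrix (Fin m ⊕ Fin m) (Fin m ⊕ Fin m) F
local notation "B" => sympForm m F

/-- A form over the extension whose composite with a functional gives the symplectic form. -/
structure Frm (τ : E →ₗ[F] F) (h : (Fin m ⊕ Fin m → F) → (Fin m ⊕ Fin m → F) → E) : Prop where
  spec : ∀ (k : E) x y, sympForm m F (k • x) y = τ (k * h x y)
  sa : ∀ (k : E) x y, sympForm m F (k • x) y = sympForm m F x (k • y)
  alt : ∀ (k : E) x, sympForm m F (k • x) x = 0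
  ne : ∃ s, τ s ≠ 0

theorem eq_of_tau {τ : E →ₗ[F] F} (hτ : ∃ s, τ s ≠ 0) {a b : E} (h : ∀ k : E, τ (k * a) = τ (k * b)) : a = b := by
  by_contra hab
  obtain ⟨s, hs⟩ := hτ
  refine hs ?_
  have h1 := h (s * (a - b)⁻¹)
  rw [← sub_eq_zero, ← map_sub, ← mul_sub, mul_assoc, inv_mul_cancel₀ (sub_ne_zero.2 hab), mul_one] at h1
  exact h1

theorem exists_frm [Finite E] (hsa : ∀ (k : E) (x y : V), B (k • x) y = B x (k • y))
    (halt : ∀ (k : E) (x : V), B (k • x) x = 0) (τ : E →ₗ[F] F) (hτ : ∃ s, τ s ≠ 0) :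
    ∃ h : V → V → E, Frm τ h := by
  let Θ : E →ₗ[F] (E →ₗ[F] F) :=
    { toFun := fun z => τ.comp (LinearMap.mulRight F z)
      map_add' := fun a b => LinearMap.ext fun k => by simp [mul_add]
      map_smul' := fun c a => LinearMap.ext fun k => by simp }
  have hΘ : Function.Injective Θ := fun a b h => eq_of_tau hτ fun k => LinearMap.congr_fun h k
  have hsur : Function.Surjective Θ := by
    haveI : FiniteDimensional F E := Module.Finite.of_finite
    exact (LinearMap.injective_iff_surjective_of_finrank_eq_finrank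
      (Subspace.dual_finrank_eq : finrank F (Module.Dual F E) = finrank F E).symm).1 hΘ
  choose h hh using fun x y : V => hsur
    { toFun := fun k : E => B (k • x) y
      map_add' := fun a b => by rw [add_smul, sympForm_add_left]
      map_smul' := fun c a => by rw [smul_assoc, sympForm_smul_left]; rfl }
  exact ⟨h, fun k x y => (LinearMap.congr_fun (hh x y) k).symm, hsa, halt, hτ⟩

section
variable {τ : E →ₗ[F] F} {h : (Fin m ⊕ Fin m → F) → (Fin m ⊕ Fin m → F) → E} (D : Frm τ h)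
include D

theorem Frm.form (x y : V) : B x y = τ (h x y) := by simpa using D.spec 1 x y

theorem Frm.form_smul (k : E) (x y : V) : B x (k • y) = τ (k * h x y) := by rw [← D.sa, D.spec]

theorem Frm.smul_left (s : E) (x y : V) : h (s • x) y = s * h x y :=
  eq_of_tau D.ne fun k => by rw [← D.spec, smul_smul, D.spec, mul_assoc]

theorem Frm.smul_right (s : E) (x y : V) : h x (s • y) = s * h x y :=
  eq_of_tau D.ne fun k => by
    rw [← D.spec, ← D.sa, smul_smul, D.spec, mul_comm s k, mul_assoc]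

theorem Frm.add_left (x y z : V) : h (x + y) z = h x z + h y z :=
  eq_of_tau D.ne fun k => by rw [← D.spec, smul_add, sympForm_add_left, D.spec, D.spec, mul_add, map_add]

theorem Frm.add_right (x y z : V) : h x (y + z) = h x y + h x z :=
  eq_of_tau D.ne fun k => by rw [← D.spec, sympForm_add_right, D.spec, D.spec, mul_add, map_add]

theorem Frm.self (x : V) : h x x = 0 :=
  eq_of_tau D.ne fun k => by rw [← D.spec, D.alt, mul_zero, map_zero]

theorem Frm.swap (x y : V) : h y x = -h x y :=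
  eq_of_tau D.ne fun k => by rw [← D.spec, D.sa, sympForm_swap, D.spec, mul_neg, map_neg]

theorem Frm.zero_left (y : V) : h 0 y = 0 := by simpa using D.smul_left 0 0 y

theorem Frm.zero_right (y : V) : h y 0 = 0 := by simpa using D.smul_right 0 y 0

theorem Frm.sub_left (x y z : V) : h (x - y) z = h x z - h y z := by
  rw [eq_sub_iff_add_eq, ← D.add_left, sub_add_cancel]

theorem Frm.fsmul_left (a : F) (x y : V) : h (a • x) y = a • h x y := by
  rw [← algebraMap_smul E a x, D.smul_left, Algebra.smul_def]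

theorem Frm.line_perp {x c : V} (hx : x ∈ (E ∙ c)) : h x c = 0 := by
  obtain ⟨t, rfl⟩ := Submodule.mem_span_singleton.1 hx
  rw [D.smul_left, D.self, mul_zero]

theorem Frm.eq_zero (w : V) (hw : ∀ x, h x w = 0) : w = 0 := by
  refine sesq_sympForm.eq_zero w fun x => ?_
  rw [D.form, hw, map_zero]

/-- `x ↦ h x u`. -/
def Frm.func (u : V) : V →ₗ[E] E where
  toFun x := h x u
  map_add' x y := D.add_left x y u
  map_smul' s x := D.smul_left s x u

theorem Frm.func_surjective [Finite F] (θ : V →ₗ[E] E) : ∃ u, ∀ x, h x u = θ x := by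
  haveI : Module.Finite E V := Module.Finite.of_restrictScalars_finite F E _
  let Θ : V →ₗ[E] (V →ₗ[E] E) :=
    { toFun := fun u => D.func u
      map_add' := fun a b => LinearMap.ext fun x => D.add_right x a b
      map_smul' := fun c a => LinearMap.ext fun x => D.smul_right c x a }
  have hΘ : Function.Injective Θ := by
    refine (injective_iff_map_eq_zero Θ).2 fun u hu => D.eq_zero u fun x => LinearMap.congr_fun hu x
  obtain ⟨u, hu⟩ := (LinearMap.injective_iff_surjective_of_finrank_eq_finrank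
    (Subspace.dual_finrank_eq : finrank E (Module.Dual E V) = finrank E V).symm).1 hΘ θ
  exact ⟨u, fun x => LinearMap.congr_fun hu x⟩

/-- The root map of `u` with parameter `e`. -/
def Frm.root (e : E) (u : V) : V →ₗ[F] V := rk (e • D.func u) u

theorem Frm.root_apply (e : E) (u x : V) : D.root e u x = (e * h x u) • u := rfl

end

variable {M : Subgroup (GL (Fin m ⊕ Fin m) F)}

/-- The subgroup of the symplectic group contains every isometry over the extension. -/
structure Over (M : Subgroup (GL (Fin m ⊕ Fin m) F)) (E : Type*) [Field E]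
    [Module E (Fin m ⊕ Fin m → F)] : Prop where
  le : M ≤ spGL m F
  mem : ∀ L : (Fin m ⊕ Fin m → F) →ₗ[E] (Fin m ⊕ Fin m → F),
    (∀ x y, sympForm m F (L x) (L y) = sympForm m F x y) →
    ∃ g ∈ M, ∀ x, (g : Matrix (Fin m ⊕ Fin m) (Fin m ⊕ Fin m) F) *ᵥ x = L x

variable {τ : E →ₗ[F] F} {h : (Fin m ⊕ Fin m → F) → (Fin m ⊕ Fin m → F) → E}

theorem Over.isom (hM : Over M E) {g : GL (Fin m ⊕ Fin m) F} (hg : g ∈ M) (x y : V) :
    B ((g : Mn) *ᵥ x) ((g : Mn) *ᵥ y) = B x y := mem_spGL.1 (hM.le hg) x y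

theorem Over.isom_inv (hM : Over M E) {g : GL (Fin m ⊕ Fin m) F} (hg : g ∈ M) (x y : V) :
    B (((g⁻¹ : GL (Fin m ⊕ Fin m) F) : Mn) *ᵥ x) y = B x ((g : Mn) *ᵥ y) := by
  rw [← hM.isom hg, mulVec_inv_cancel]

theorem Over.exists_of_isom (hM : Over M E) (D : Frm τ h) (L : V →ₗ[E] V) (hL : ∀ x y, h (L x) (L y) = h x y) :
    ∃ g ∈ M, ∀ x, (g : Mn) *ᵥ x = L x :=
  hM.mem L fun x y => by rw [D.form, hL, ← D.form]

theorem Over.inRoot (hM : Over M E) (D : Frm τ h) (e : E) (u : V) : In M (D.root e u) := by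
  obtain ⟨g, hg, hgx⟩ := hM.exists_of_isom D (LinearMap.id + (e • D.func u).smulRight u) fun x y => by
    show h (x + (e * h x u) • u) (y + (e * h y u) • u) = h x y
    rw [D.add_left, D.add_right, D.add_right, D.smul_left, D.smul_left, D.smul_right, D.smul_right, D.self,
      D.swap y u]
    ring
  exact ⟨g, hg, fun x => by rw [hgx]; rfl⟩

/-- The isometry scaling a line by `lam`. -/
theorem Over.exists_scale [Finite F] (hM : Over M E) (D : Frm τ h) {c : V} (hc : c ≠ 0) {lam : E}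
    (hl : lam ≠ 0) : ∃ g ∈ M, ∀ μ : E, (g : Mn) *ᵥ (μ • c) = (lam * μ) • c := by
  obtain ⟨x₁, hx₁⟩ : ∃ x, h x c ≠ 0 := by
    by_contra hcon; push Not at hcon; exact hc (D.eq_zero c hcon)
  set y := (-(h x₁ c)⁻¹) • x₁ with hy
  have hcy : h c y = 1 := by
    rw [hy, D.smul_right, D.swap x₁ c]; field_simp
  have hyc : h y c = -1 := by rw [D.swap c y, hcy]
  obtain ⟨g, hg, hgx⟩ := hM.exists_of_isom D
    (LinearMap.id + ((lam - 1) • D.func y).smulRight c + (-(lam⁻¹ - 1) • D.func c).smulRight y) fun p q => by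
      show h (p + ((lam - 1) * h p y) • c + (-(lam⁻¹ - 1) * h p c) • y)
        (q + ((lam - 1) * h q y) • c + (-(lam⁻¹ - 1) * h q c) • y) = h p q
      simp only [D.add_left, D.add_right, D.smul_left, D.smul_right, D.self, hcy, hyc, D.swap q y, D.swap q c]
      field_simp
      ring
  refine ⟨g, hg, fun μ => ?_⟩
  rw [hgx]
  show μ • c + ((lam - 1) * h (μ • c) y) • c + (-(lam⁻¹ - 1) * h (μ • c) c) • y = _
  rw [D.smul_left, D.smul_left, D.self, hcy]
  module

/-- The isometries over the extension are transitive on non-zero vectors. -/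
theorem Over.transitive (hM : Over M E) (D : Frm τ h) {v w : V} (hv : v ≠ 0) (hw : w ≠ 0) :
    ∃ g ∈ M, (g : Mn) *ᵥ v = w := by
  have step : ∀ {v w : V}, h v w ≠ 0 → ∃ g ∈ M, (g : Mn) *ᵥ v = w := fun {v w} hne => by
    obtain ⟨g, hg, hgx⟩ := hM.inRoot D (h v w)⁻¹ (w - v)
    refine ⟨g, hg, ?_⟩
    rw [hgx, D.root_apply, show h v (w - v) = h v w by
      rw [sub_eq_add_neg, D.add_right, ← neg_one_smul E v, D.smul_right, D.self, mul_zero, add_zero],
      inv_mul_cancel₀ hne, one_smul, add_sub_cancel]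
  have hex : ∀ {u : V}, u ≠ 0 → ∃ x, h u x ≠ 0 := fun {u} hu => by
    by_contra hcon
    push Not at hcon
    exact hu (D.eq_zero u fun x => by rw [D.swap u x, hcon, neg_zero])
  obtain ⟨z, hz1, hz2⟩ : ∃ z, h v z ≠ 0 ∧ h w z ≠ 0 := by
    obtain ⟨a, ha⟩ := hex hv
    obtain ⟨b, hb⟩ := hex hw
    by_cases h1 : h w a = 0
    · by_cases h2 : h v b = 0
      · exact ⟨a + b, by rw [D.add_right, h2, add_zero]; exact ha, by rw [D.add_right, h1, zero_add]; exact hb⟩
      · exact ⟨b, h2, hb⟩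
    · exact ⟨a, ha, h1⟩
  obtain ⟨g₁, hg₁, e₁⟩ := step hz1
  obtain ⟨g₂, hg₂, e₂⟩ := step (v := z) (w := w) (by rw [D.swap w z]; exact neg_ne_zero.2 hz2)
  exact ⟨g₂ * g₁, mul_mem hg₂ hg₁, by rw [Units.val_mul, ← Matrix.mulVec_mulVec, e₁, e₂]⟩

/-- A moved line meeting a line in a hyperplane, not perpendicular to it. -/
structure SPair (M : Subgroup (GL (Fin m ⊕ Fin m) F)) (E : Type*) [Field E] [Algebra F E]
    [Module E (Fin m ⊕ Fin m → F)] (h : (Fin m ⊕ Fin m → F) → (Fin m ⊕ Fin m → F) → E) where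
  g : GL (Fin m ⊕ Fin m) F
  hg : g ∈ M
  b : Fin m ⊕ Fin m → F
  c : Fin m ⊕ Fin m → F
  hb : b ≠ 0
  hc : c ≠ 0
  k₁ : E
  i₀ : E
  hi₀0 : i₀ ≠ 0
  hi₀ : (g : Matrix (Fin m ⊕ Fin m) (Fin m ⊕ Fin m) F) *ᵥ (i₀ • b) ∈ (E ∙ c)
  hψ : h ((g : Matrix (Fin m ⊕ Fin m) (Fin m ⊕ Fin m) F) *ᵥ (k₁ • b)) c ≠ 0
  split : ∀ k : E, ∃ a : F, h ((g : Matrix (Fin m ⊕ Fin m) (Fin m ⊕ Fin m) F) *ᵥ (k • b)) c =
    a • h ((g : Matrix (Fin m ⊕ Fin m) (Fin m ⊕ Fin m) F) *ᵥ (k₁ • b)) c

theorem exists_spair [Fintype F] [Fintype E] (hM : Over M E) (D : Frm τ h) (hr : (finrank F E).Prime)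
    {g₀ : GL (Fin m ⊕ Fin m) F} (hg₀ : g₀ ∈ M) {a : V} {k₀ : E}
    (hline : (g₀ : Mn) *ᵥ (k₀ • a) ∉ (E ∙ ((g₀ : Mn) *ᵥ a))) : Nonempty (SPair M E h) := by
  classical
  have ha : a ≠ 0 := fun e => hline (by rw [e, smul_zero, Matrix.mulVec_zero]; exact zero_mem _)
  let T := {x : GL (Fin m ⊕ Fin m) F × V × V // x.1 ∈ M ∧ x.2.1 ≠ 0 ∧ x.2.2 ≠ 0 ∧
    meet (E := E) x.1 x.2.1 x.2.2 ≠ ⊥ ∧ meet (E := E) x.1 x.2.1 x.2.2 ≠ ⊤}
  haveI : Nonempty T := by
    refine ⟨⟨(g₀, a, (g₀ : Mn) *ᵥ a), hg₀, ha, fun e => ha (gl_mulVec_injective g₀ (by simpa using e)), ?_,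
      fun e => hline (mem_meet.1 (e ▸ Submodule.mem_top))⟩⟩
    intro e
    have h1 : (1 : E) ∈ meet (E := E) g₀ a ((g₀ : Mn) *ᵥ a) := mem_meet.2 (by
      rw [one_smul]; exact Submodule.mem_span_singleton_self _)
    rw [e, Submodule.mem_bot] at h1
    exact one_ne_zero h1
  haveI : Finite T := Subtype.finite
  obtain ⟨⟨⟨g, b, c⟩, hg, hb, hc, hbot, htop⟩, hmax⟩ :=
    Finite.exists_max fun x : T => finrank F (meet (E := E) x.1.1 x.1.2.1 x.1.2.2)
  -- conjugates of the roots of `u`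
  have hroot : ∀ (g : GL (Fin m ⊕ Fin m) F) (b u : V) (e : E), g ∈ M → ∃ g' ∈ M, ∀ k : E,
      (g' : Mn) *ᵥ (k • b) = k • b +
        ((g⁻¹ : GL (Fin m ⊕ Fin m) F) : Mn) *ᵥ ((e * h ((g : Mn) *ᵥ (k • b)) u) • u) := by
    intro g b u e hg
    obtain ⟨R, hR, hRx⟩ := hM.inRoot D e u
    exact ⟨g⁻¹ * R * g, mul_mem (mul_mem (inv_mem hg) hR) hg, fun k => by
      rw [Units.val_mul, Units.val_mul, ← Matrix.mulVec_mulVec, ← Matrix.mulVec_mulVec, hRx,
        Matrix.mulVec_add, inv_mulVec_cancel, D.root_apply]⟩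
  -- maximality against a vector
  have key : ∀ (g : GL (Fin m ⊕ Fin m) F) (b c u : V), g ∈ M → b ≠ 0 → meet (E := E) g b c ≠ ⊥ →
      (∀ x : T, finrank F (meet (E := E) x.1.1 x.1.2.1 x.1.2.2) ≤ finrank F (meet (E := E) g b c)) →
      (∀ k ∈ meet (E := E) g b c, h ((g : Mn) *ᵥ (k • b)) u = 0) →
      ∀ e : E, (∃ k' : E, ((g⁻¹ : GL (Fin m ⊕ Fin m) F) : Mn) *ᵥ ((e * h ((g : Mn) *ᵥ (k' • b)) u) • u) ∉ (E ∙ b)) →
      ∀ k : E, ((g⁻¹ : GL (Fin m ⊕ Fin m) F) : Mn) *ᵥ ((e * h ((g : Mn) *ᵥ (k • b)) u) • u) ∈ (E ∙ b) →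
        k ∈ meet (E := E) g b c := by
    intro g b c u hg hb hbot hmax hI e ⟨k', hk'⟩ k hk
    obtain ⟨g', hg', hg'x⟩ := hroot g b u e hg
    have hb' : ∀ k : E, k • b ∈ (E ∙ b) :=
      fun k => Submodule.smul_mem _ _ (Submodule.mem_span_singleton_self _)
    have hle : meet (E := E) g b c ≤ meet g' b b := fun k hk => mem_meet.2 (by
      rw [hg'x, hI k hk, mul_zero, zero_smul, Matrix.mulVec_zero, add_zero]; exact hb' k)
    have htop' : meet (E := E) g' b b ≠ ⊤ := fun e' => hk' (by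
      have h3 := mem_meet.1 (show k' ∈ meet (E := E) g' b b from e' ▸ Submodule.mem_top)
      rw [hg'x] at h3
      simpa using Submodule.sub_mem _ h3 (hb' k'))
    have h2 := hmax ⟨(g', b, b), hg', hb, hb, fun e' => hbot (le_bot_iff.1 (e' ▸ hle)), htop'⟩
    rw [Submodule.eq_of_le_of_finrank_le hle h2]
    exact mem_meet.2 (by rw [hg'x]; exact add_mem (hb' k) hk)
  -- a maximal pair which is not perpendicular
  obtain ⟨g, b, c, hg, hb, hc, hbot, htop, hmax, k₁, hk₁⟩ : ∃ (g : GL (Fin m ⊕ Fin m) F) (b c : V),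
      g ∈ M ∧ b ≠ 0 ∧ c ≠ 0 ∧ meet (E := E) g b c ≠ ⊥ ∧ meet (E := E) g b c ≠ ⊤ ∧
      (∀ x : T, finrank F (meet (E := E) x.1.1 x.1.2.1 x.1.2.2) ≤ finrank F (meet (E := E) g b c)) ∧
      ∃ k, h ((g : Mn) *ᵥ (k • b)) c ≠ 0 := by
    by_cases hφ : ∃ k : E, h ((g : Mn) *ᵥ (k • b)) c ≠ 0
    · exact ⟨g, b, c, hg, hb, hc, hbot, htop, hmax, hφ⟩
    push Not at hφ
    obtain ⟨k₁, hk₁⟩ : ∃ k₁, k₁ ∉ meet (E := E) g b c := by
      by_contra hcon; push Not at hcon; exact htop (eq_top_iff.2 fun u _ => hcon u)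
    set x := (g : Mn) *ᵥ (k₁ • b) with hx
    obtain ⟨θ, hθx, hθ⟩ := exists_func (E ∙ c) (fun hm => hk₁ (mem_meet.2 hm)) 1
    obtain ⟨u, hu⟩ := D.func_surjective θ
    have hI : ∀ k ∈ meet (E := E) g b c, h ((g : Mn) *ᵥ (k • b)) u = 0 := fun k hk => by
      rw [hu]; exact hθ _ (mem_meet.1 hk)
    let J : E → Prop := fun s => ((g⁻¹ : GL (Fin m ⊕ Fin m) F) : Mn) *ᵥ (s • u) ∈ (E ∙ b)
    obtain ⟨s, hs⟩ : ∃ s, ¬ J s := by
      by_contra hcon
      push Not at hcon
      let φ : E →ₗ[F] V := (Matrix.toLin' ((g⁻¹ : GL (Fin m ⊕ Fin m) F) : Mn)).comp (lineMap u)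
      have hu0 : u ≠ 0 := fun e => by
        have := hu x
        rw [e, D.zero_right, hθx] at this
        exact zero_ne_one this
      have hinj : ∀ p q : E, ((g⁻¹ : GL (Fin m ⊕ Fin m) F) : Mn) *ᵥ (p • u) =
          ((g⁻¹ : GL (Fin m ⊕ Fin m) F) : Mn) *ᵥ (q • u) → p = q := fun p q e =>
        smul_left_injective E hu0 (gl_mulVec_injective _ e)
      choose σ hσ using fun p : E => Submodule.mem_span_singleton.1 (hcon p)
      obtain ⟨p, hp⟩ := (Finite.injective_iff_surjective.1 (fun p q e => hinj p q (by rw [← hσ, ← hσ, e]) :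
        Function.Injective σ)) k₁
      have h1 : x = p • u := by rw [hx, ← hp, hσ, mulVec_inv_cancel]
      have := hu x
      rw [hθx, h1, D.smul_left, D.self, mul_zero] at this
      exact zero_ne_one this
    obtain ⟨t, ht⟩ := D.ne
    obtain ⟨e, heJ, heτ⟩ : ∃ e, ¬ J e ∧ τ e ≠ 0 := by
      by_cases h1 : τ s = 0
      · by_cases h2 : J t
        · refine ⟨s + t, fun hst => hs ?_, by rw [map_add, h1, zero_add]; exact ht⟩
          have h3 := Submodule.sub_mem _ hst h2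
          rwa [← Matrix.mulVec_sub, ← sub_smul, add_sub_cancel_right] at h3
        · exact ⟨t, h2, ht⟩
      · exact ⟨s, hs, h1⟩
    obtain ⟨g', hg', hg'x⟩ := hroot g b u e hg
    have hb' : ∀ k : E, k • b ∈ (E ∙ b) :=
      fun k => Submodule.smul_mem _ _ (Submodule.mem_span_singleton_self _)
    have hle : meet (E := E) g b c ≤ meet g' b b := fun k hk => mem_meet.2 (by
      rw [hg'x, hI k hk, mul_zero, zero_smul, Matrix.mulVec_zero, add_zero]; exact hb' k)
    have he1 : ((g⁻¹ : GL (Fin m ⊕ Fin m) F) : Mn) *ᵥ ((e * h x u) • u) ∉ (E ∙ b) := by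
      rw [hu, hθx, mul_one]; exact heJ
    refine ⟨g', b, b, hg', hb, hb, fun e' => hbot (le_bot_iff.1 (e' ▸ hle)), fun e' => he1 ?_,
      fun z => (hmax z).trans (Submodule.finrank_mono hle), k₁, ?_⟩
    · have h3 := mem_meet.1 (show k₁ ∈ meet (E := E) g' b b from e' ▸ Submodule.mem_top)
      rw [hg'x] at h3
      simpa using Submodule.sub_mem _ h3 (hb' k₁)
    · rw [hg'x, D.add_left, D.smul_left, D.self, mul_zero, zero_add, ← hx, hu, hθx, mul_one]
      intro h0
      refine heτ ?_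
      have h1 := D.spec k₁ (((g⁻¹ : GL (Fin m ⊕ Fin m) F) : Mn) *ᵥ (e • u)) b
      rw [h0, mul_zero, map_zero, D.sa, hM.isom_inv hg, ← hx, D.spec, D.swap x u, hu, hθx, mul_neg, mul_one,
        map_neg, neg_eq_zero] at h1
      exact h1
  -- the perpendicularity functional has one-dimensional image
  set ψ := h ((g : Mn) *ᵥ (k₁ • b)) c with hψ
  have hI : ∀ k ∈ meet (E := E) g b c, h ((g : Mn) *ᵥ (k • b)) c = 0 := fun k hk => D.line_perp (mem_meet.1 hk)
  obtain ⟨i₀, hi₀, hi₀0⟩ := Submodule.exists_mem_ne_zero_of_ne_bot hbot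
  let J : E → Prop := fun s => ((g⁻¹ : GL (Fin m ⊕ Fin m) F) : Mn) *ᵥ (s • c) ∈ (E ∙ b)
  obtain ⟨j, hj⟩ := Submodule.mem_span_singleton.1 (mem_meet.1 hi₀)
  have hjJ : J j := by
    show _ ∈ _
    rw [hj, inv_mulVec_cancel]
    exact Submodule.smul_mem _ _ (Submodule.mem_span_singleton_self _)
  have hj0 : j ≠ 0 := fun e => by
    rw [e, zero_smul] at hj
    have := gl_mulVec_injective g (hj.symm.trans (Matrix.mulVec_zero _).symm)
    exact hi₀0 ((smul_eq_zero.1 this).resolve_right hb)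
  have hk₁I : k₁ ∉ meet (E := E) g b c := fun hm => hk₁ (hI _ hm)
  have hmul : ∀ (k s : E), J s → J (h ((g : Mn) *ᵥ (k • b)) c * ψ⁻¹ * s) := fun k s hs => by
    by_contra hcon
    refine hk₁I (key g b c c hg hb hbot hmax hI (s * ψ⁻¹) ⟨k, ?_⟩ k₁ ?_)
    · rwa [mul_comm (s * ψ⁻¹), ← mul_assoc, mul_right_comm]
    · rw [mul_assoc, inv_mul_cancel₀ hk₁, mul_one]; exact hs
  refine ⟨{ g := g, hg := hg, b := b, c := c, hb := hb, hc := hc, k₁ := k₁, i₀ := i₀, hi₀0 := hi₀0,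
            hi₀ := mem_meet.1 hi₀, hψ := hk₁, split := fun k => ?_ }⟩
  by_contra hcon
  push Not at hcon
  have hs : ∀ a : F, h ((g : Mn) *ᵥ (k • b)) c * ψ⁻¹ ≠ algebraMap F E a := fun a e => hcon a (by
    rw [Algebra.smul_def, ← e, ← hψ, mul_assoc, inv_mul_cancel₀ hk₁, mul_one])
  have hall : ∀ z : E, ∀ u, J u → J (z * u) := by
    refine generate_of_not_base hr hs _ (fun p q hp hq u hu => ?_) (fun p q hp hq u hu => ?_)
      (fun p u hu => ?_) (hmul k)
    · have := Submodule.add_mem _ (hp u hu) (hq u hu)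
      rwa [← Matrix.mulVec_add, ← add_smul, ← add_mul] at this
    · rw [mul_assoc]; exact hp _ (hq u hu)
    · show _ ∈ _
      rw [← Algebra.smul_def, smul_assoc, Matrix.mulVec_smul, ← algebraMap_smul (A := E)]
      exact Submodule.smul_mem _ _ hu
  refine htop ?_
  apply Submodule.eq_top_of_finrank_eq
  rw [← finrank_meet_symm hb hc, show meet (E := E) g⁻¹ c b = ⊤ from
    eq_top_iff.2 fun u _ => mem_meet.2 (by
      have := hall (u * j⁻¹) j hjJ
      rwa [mul_assoc, inv_mul_cancel₀ hj0, mul_one] at this), finrank_top]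

end Cfsg.Agent.Classical.SpOver
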