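import Cfsg.Agent.Lib.Classical.AschSpProper
import Cfsg.Agent.Lib.Classical.AschSLn
import Cfsg.Agent.Lib.Classical.MaxSympOverfield

/-!
The maximal subgroups of the symplectic groups: members of the geometric classes or residual.
-/

set_option autoImplicit false
set_option linter.unusedSectionVars false
set_option linter.unusedFintypeInType false
set_option linter.unusedDecidableInType false

namespace Cfsg.Agent.Classical.Asch

open Matrix Module Cfsg.Geo
open scoped Kronecker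

variable {F : Type*} [Field F] [Fintype F] {m : ℕ}

/-- A maximal subgroup of the symplectic group inside a proper overgroup is the intersection. -/
theorem sp_eq_inter {H M : Subgroup (GL (Fin m ⊕ Fin m) F)} (hH : IsMaximalIn (spGL m F) H) (hle : H ≤ M)
    (hns : ¬ spGL m F ≤ M) : H = M ⊓ spGL m F :=
  ((hH.2 (M ⊓ spGL m F) (le_inf hle hH.1.le) inf_le_right).resolve_right
    fun h => hns (h.ge.trans inf_le_left)).symm

/-- The shapes of maximal subgroups of the symplectic group, before numerical conditions. -/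
structure SpShape (H : Subgroup (GL (Fin m ⊕ Fin m) F)) : Prop where
  shape :
    (∃ W : Submodule F (Fin m ⊕ Fin m → F), W ≠ ⊥ ∧ IsTotallySingularFor (sympForm m F) W ∧
      H = subspaceStabilizer W ⊓ spGL m F) ∨
    (∃ W : Submodule F (Fin m ⊕ Fin m → F), W ≠ ⊥ ∧ IsNondegenerateOn (sympForm m F) W ∧ finrank F W < m ∧
      H = subspaceStabilizer W ⊓ spGL m F) ∨
    (∃ (t k : ℕ) (D : Fin t → Submodule F (Fin m ⊕ Fin m → F)), IsNondegenerateMDecomposition (sympForm m F) k D ∧
      2 ≤ t ∧ t * k = m + m ∧ H = decompositionStabilizer D ⊓ spGL m F) ∨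
    (Odd (Fintype.card F) ∧ ∃ D : Fin 2 → Submodule F (Fin m ⊕ Fin m → F), IsMDecomposition m D ∧
      (∀ i, IsTotallySingularFor (sympForm m F) (D i)) ∧ H = decompositionStabilizer D ⊓ spGL m F) ∨
    (∃ (r : ℕ) (K : Subalgebra F (Matrix (Fin m ⊕ Fin m) (Fin m ⊕ Fin m) F)), r.Prime ∧ r ∣ m ∧
      IsFieldSubalgebra r K ∧ IsSelfAdjointFor (sympForm m F) K ∧
      (∀ k ∈ K, ∀ v : (Fin m ⊕ Fin m → F), (sympForm m F) (Matrix.mulVec k v) v = 0) ∧
      H = subalgebraNormalizer K ⊓ spGL m F) ∨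
    (Odd (Fintype.card F) ∧ ∃ K : Subalgebra F (Matrix (Fin m ⊕ Fin m) (Fin m ⊕ Fin m) F), IsFieldSubalgebra 2 K ∧
      IsAdjointClosedFor (sympForm m F) K ∧ ¬ IsSelfAdjointFor (sympForm m F) K ∧
      H = subalgebraNormalizer K ⊓ spGL m F) ∨
    (∃ (a b : ℕ) (e : (Fin m ⊕ Fin m) ≃ Fin a × Fin b) (P : GL (Fin m ⊕ Fin m) F)
      (f₁ : (Fin a → F) → (Fin a → F) → F) (f₂ : (Fin b → F) → (Fin b → F) → F),
      Odd (Fintype.card F) ∧ 2 ≤ a ∧ Even a ∧ 3 ≤ b ∧ a * b = m + m ∧ IsSymplecticForm f₁ ∧ IsSymmetricForm f₂ ∧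
      IsTensorFormStructure id (sympForm m F) f₁ f₂ e P ∧ H = tensorProductSubgroup a b e P ⊓ spGL m F) ∨
    (∃ (k t : ℕ) (e : (Fin m ⊕ Fin m) ≃ (Fin t → Fin k)) (P : GL (Fin m ⊕ Fin m) F)
      (f₁ : (Fin k → F) → (Fin k → F) → F),
      Odd (Fintype.card F) ∧ 2 ≤ k ∧ Even k ∧ Odd t ∧ 3 ≤ t ∧ k ^ t = m + m ∧
      ¬ (Fintype.card F = 3 ∧ k = 2) ∧ IsSymplecticForm f₁ ∧
      IsTensorPowerFormStructure id (sympForm m F) f₁ e P ∧ H = tensorWreathSubgroup k t e P ⊓ spGL m F) ∨
    (∃ (F₀ : Subfield F) (r : ℕ) (P : GL (Fin m ⊕ Fin m) F) (ζ : F), r.Prime ∧ Fintype.card F = Nat.card F₀ ^ r ∧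
      ζ ≠ 0 ∧ IsFormRationalStructure (sympForm m F) F₀ ζ P ∧ H = subfieldSubgroup F₀ P ⊓ spGL m F) ∨
    (∃ (R : Subgroup (GL (Fin m ⊕ Fin m) F)) (p k : ℕ), p.Prime ∧ Odd p ∧ Fintype.card F = p ∧
      IsSymplecticTypeGroup 2 R ∧ ActsAbsolutelyIrreducibly (matrixSet R) ∧ R ≤ similarityGroup (sympForm m F) ∧
      Nat.card R = 2 ^ (1 + 2 * k) ∧ Nat.card (Subgroup.center R) = 2 ∧ IsOfMinusType k R ∧ m + m = 2 ^ k ∧
      H = subgroupNormalizer R ⊓ spGL m F) ∨
    (¬ Odd (Fintype.card F) ∧ ∃ Q : (Fin m ⊕ Fin m → F) → F, IsNondegenerateQuadraticForm Q ∧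
      (∀ u v, QuadraticMap.polar Q u v = sympForm m F u v) ∧ H = quadSimilarityGroup Q ⊓ spGL m F) ∨
    InSymplecticResidualClass H

/-- A nondegenerate subspace for an alternating form has even dimension. -/
theorem even_finrank_nondeg {E W : Type*} [Field E] [AddCommGroup W] [Module E W] [FiniteDimensional E W]
    (B : LinearMap.BilinForm E W) (hA : B.IsAlt) {U : Submodule E W}
    (h : ∀ u ∈ U, (∀ v ∈ U, B u v = 0) → u = 0) : Even (finrank E U) := by
  obtain ⟨k, l, e, f, r, hkl, hef, hr, h1, h2, h3, h4, hsp⟩ := exists_symplectic_family B hA _ U rfl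
  have hr0 : ∀ j, r j = 0 := fun j => h _ (hr j) (h4 j)
  have hsp' : U ≤ Submodule.span E (Set.range e ∪ Set.range f) := hsp.trans (Submodule.span_le.2 (by
    rintro x (hx | ⟨j, rfl⟩)
    · exact Submodule.subset_span hx
    · rw [hr0]; exact zero_mem _))
  have hle := (Submodule.finrank_mono hsp').trans
    (show finrank E (Submodule.span E (Set.range e ∪ Set.range f)) ≤ 2 * k by
      rw [Submodule.span_union]
      refine (Submodule.finrank_add_le_finrank_add_finrank _ _).trans ?_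
      have he := finrank_range_le_card (R := E) e
      have hf := finrank_range_le_card (R := E) f
      simp only [Fintype.card_fin, Set.finrank] at he hf
      omega)
  exact ⟨k, by omega⟩

omit [Fintype F] in
theorem nondeg_finrank_even {W : Submodule F (Fin m ⊕ Fin m → F)} (hW : IsNondegenerateOn (sympForm m F) W) :
    Even (finrank F W) :=
  even_finrank_nondeg (sympB m F) (fun v => by rw [sympB_apply, sympForm_self]) fun u hu h => by
    by_contra hne
    obtain ⟨-, x, hx, hne'⟩ := hW u hu hne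
    exact hne' (by rw [← sympB_apply]; exact h x hx)

set_option synthInstance.maxHeartbeats 400000 in
/-- The degree of a field of symplectic type divides the rank. -/
theorem field_parity (hm : 1 ≤ m) {r : ℕ} (hr : r.Prime)
    {K : Subalgebra F (Matrix (Fin m ⊕ Fin m) (Fin m ⊕ Fin m) F)} (hK : IsFieldSubalgebra r K)
    (hsa : IsSelfAdjointFor (sympForm m F) K)
    (halt : ∀ k ∈ K, ∀ v : (Fin m ⊕ Fin m → F), sympForm m F (k *ᵥ v) v = 0) : r ∣ m := by
  classical
  haveI : Nonempty (Fin m ⊕ Fin m) := ⟨Sum.inl ⟨0, hm⟩⟩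
  letI : Field ↥K := (field_model hK).toField
  have hsm : ∀ (k : ↥K) (x : (Fin m ⊕ Fin m → F)), k • x = (k : Matrix (Fin m ⊕ Fin m) (Fin m ⊕ Fin m) F) *ᵥ x :=
    fun _ _ => rfl
  haveI : IsScalarTower F ↥K (Fin m ⊕ Fin m → F) := ⟨fun a k x => by
    rw [hsm, hsm, show ((a • k : ↥K) : Matrix (Fin m ⊕ Fin m) (Fin m ⊕ Fin m) F) = a • (k : Matrix (Fin m ⊕ Fin m) (Fin m ⊕ Fin m) F) from rfl,
      Matrix.smul_mulVec]⟩
  haveI : Finite ↥K := inferInstance
  haveI : Module.Finite F ↥K := Module.Finite.of_finite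
  obtain ⟨τ, hτ⟩ : ∃ τ : ↥K →ₗ[F] F, ∃ s, τ s ≠ 0 := by
    obtain ⟨τ, hτ⟩ := Module.Projective.exists_dual_ne_zero F (one_ne_zero : (1 : ↥K) ≠ 0)
    exact ⟨τ, 1, hτ⟩
  obtain ⟨h, D⟩ := SpOver.exists_frm (E := ↥K) (fun k x y => hsa _ k.2 x y) (fun k x => halt _ k.2 x) τ hτ
  haveI : Module.Finite ↥K (Fin m ⊕ Fin m → F) := Module.Finite.of_restrictScalars_finite F ↥K _
  let Bh : LinearMap.BilinForm ↥K (Fin m ⊕ Fin m → F) := LinearMap.mk₂ ↥K h
    (fun a b c => D.add_left a b c) (fun s a b => D.smul_left s a b)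
    (fun a b c => D.add_right a b c) (fun s a b => D.smul_right s a b)
  have hev := even_finrank_nondeg Bh (fun v => D.self v) (U := ⊤) fun u _ hu =>
    D.eq_zero u fun x => by
      rw [D.swap u x, show h u x = 0 from hu x trivial, neg_zero]
  rw [finrank_top] at hev
  obtain ⟨d, hd⟩ := hev
  refine ⟨d, ?_⟩
  have h1 := Module.finrank_mul_finrank F ↥K (Fin m ⊕ Fin m → F)
  rw [hK.finrank_eq, Module.finrank_fintype_fun_eq_card, Fintype.card_sum, Fintype.card_fin, hd] at h1
  nlinarith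

theorem spShape (hm : 2 ≤ m) {H : Subgroup (GL (Fin m ⊕ Fin m) F)} (hH : IsMaximalIn (spGL m F) H) :
    SpShape H := by
  classical
  haveI : Nonempty (Fin m ⊕ Fin m) := ⟨Sum.inl ⟨0, by omega⟩⟩
  have hdimV : finrank F (Fin m ⊕ Fin m → F) = m + m := by simp
  refine ⟨?_⟩
  rcases aschbacher_symp_dim hm hH.1.le with ⟨M, hM, hle⟩ | h
  swap
  · exact Or.inr (Or.inr (Or.inr (Or.inr (Or.inr (Or.inr (Or.inr (Or.inr (Or.inr (Or.inr (Or.inr h))))))))))
  rcases hM with (⟨W, h1, h2, rfl⟩ | ⟨W, h1, h2, h3, rfl⟩ | ⟨t, k, D, hD, rfl⟩ | ⟨D, ho, hD, hts, rfl⟩ |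
    ⟨F₀, r, P, ζ, hr, hc, hζ, hrat, rfl⟩ |
    ⟨R, p, k, hR, hai, hsim, hp, hpo, hc, hcR, hcen, hmin, hdim, rfl⟩ | ⟨Q, he, hQ, hpol, rfl⟩) |
    ⟨r, K, hr, hK, hsa, halt, rfl⟩ | ⟨K, ho, hK, hac, hns, rfl⟩ |
    ⟨a, b, e, P, f₁, f₂, ho, hb, hf₁, hf₂, hst, rfl⟩ | ⟨k, t, e, P, f₁, ho, hto, ht, hq3, hf₁, hst, rfl⟩
  · have hWtop : W ≠ ⊤ := by
      intro h
      subst h
      obtain ⟨x, hx⟩ := exists_sympForm_eq_one (u := (Pi.single (Sum.inl ⟨0, by omega⟩) 1 : Fin m ⊕ Fin m → F))
        (by simp)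
      rw [h2 _ trivial x trivial] at hx
      exact zero_ne_one hx
    exact Or.inl ⟨W, h1, h2, sp_eq_inter hH (hle.trans inf_le_left) (not_sp_le_subspace h1 hWtop)⟩
  · have hWtop : W ≠ ⊤ := by
      intro h
      subst h
      rw [finrank_top, hdimV] at h3
      omega
    exact Or.inr (Or.inl ⟨W, h1, h2, h3, sp_eq_inter hH (hle.trans inf_le_left) (not_sp_le_subspace h1 hWtop)⟩)
  · have hc : t * k = m + m := by simpa using MaxMon.decomp_card hD.decomp
    exact Or.inr (Or.inr (Or.inl ⟨t, k, D, hD, hD.decomp.two_le, hc,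
      sp_eq_inter hH (hle.trans inf_le_left) (not_sp_le_decomp hD.decomp)⟩))
  · exact Or.inr (Or.inr (Or.inr (Or.inl ⟨ho, D, hD, hts,
      sp_eq_inter hH (hle.trans inf_le_left) (not_sp_le_decomp hD)⟩)))
  · exact Or.inr (Or.inr (Or.inr (Or.inr (Or.inr (Or.inr (Or.inr (Or.inr (Or.inl ⟨F₀, r, P, ζ, hr, hc, hζ, hrat,
      sp_eq_inter hH (hle.trans inf_le_left) (not_sp_le_subfield (by omega) (subfield_ne_top hr hc) P)⟩))))))))
  · have h2 : (2 : F) ≠ 0 := fun h2 => by
      haveI : CharP F 2 := CharTwo.of_one_ne_zero_of_two_eq_zero one_ne_zero h2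
      have h3 := FiniteField.even_card_iff_char_two.1 (ringChar.eq F 2)
      rw [Nat.odd_iff, ← hc] at hpo
      omega
    exact Or.inr (Or.inr (Or.inr (Or.inr (Or.inr (Or.inr (Or.inr (Or.inr (Or.inr (Or.inl ⟨R, p, k, hp, hpo, hc, hR,
      hai, hsim, hcR, hcen, hmin, hdim,
      sp_eq_inter hH (hle.trans inf_le_left) (not_sp_le_normalizer hm h2 hR hai hsim)⟩)))))))))
  · have h2 : (2 : F) = 0 := by
      by_contra h2
      exact he (odd_card_of_two_ne h2)
    exact Or.inr (Or.inr (Or.inr (Or.inr (Or.inr (Or.inr (Or.inr (Or.inr (Or.inr (Or.inr (Or.inl ⟨he, Q, hQ, hpol,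
      sp_eq_inter hH (hle.trans inf_le_left) (not_sp_le_quadSimilarity hm h2 hQ hpol)⟩))))))))))
  · exact Or.inr (Or.inr (Or.inr (Or.inr (Or.inl ⟨r, K, hr, field_parity (by omega) hr hK hsa halt, hK, hsa, halt,
      sp_eq_inter hH (hle.trans inf_le_left) (not_sp_le_field hm hr.two_le hK)⟩))))
  · exact Or.inr (Or.inr (Or.inr (Or.inr (Or.inr (Or.inl ⟨ho, K, hK, hac, hns,
      sp_eq_inter hH (hle.trans inf_le_left) (not_sp_le_field hm le_rfl hK)⟩)))))
  · have hab : a * b = m + m := by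
      have := Fintype.card_congr e
      simpa using this.symm
    have ha : Even a := by
      let B₁ : LinearMap.BilinForm F (Fin a → F) := LinearMap.mk₂ F f₁ hf₁.bilinear.add_left
        (fun c x v => hf₁.bilinear.smul_left c x v) hf₁.bilinear.add_right (fun c v x => hf₁.bilinear.smul_right c v x)
      have := even_finrank_nondeg B₁ hf₁.alternating (U := ⊤) fun u _ hu => by
        by_contra hne
        obtain ⟨y, hy⟩ := (hf₁.nondegenerate u hne).2
        exact hy (hu y trivial)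
      rwa [finrank_top, Module.finrank_fintype_fun_eq_card, Fintype.card_fin] at this
    have ha2 : 2 ≤ a := by
      obtain ⟨j, rfl⟩ := ha
      rcases Nat.eq_zero_or_pos j with rfl | hj
      · simp at hab; omega
      · omega
    exact Or.inr (Or.inr (Or.inr (Or.inr (Or.inr (Or.inr (Or.inl ⟨a, b, e, P, f₁, f₂, ho, ha2, ha, hb, hab, hf₁,
      hf₂, hst, sp_eq_inter hH (hle.trans inf_le_left) (not_sp_le_tensor ha2 (by omega) e P)⟩))))))
  · have hkt : k ^ t = m + m := by
      have := Fintype.card_congr e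
      simpa using this.symm
    have hk : Even k := by
      let B₁ : LinearMap.BilinForm F (Fin k → F) := LinearMap.mk₂ F f₁ hf₁.bilinear.add_left
        (fun c x v => hf₁.bilinear.smul_left c x v) hf₁.bilinear.add_right (fun c v x => hf₁.bilinear.smul_right c v x)
      have := even_finrank_nondeg B₁ hf₁.alternating (U := ⊤) fun u _ hu => by
        by_contra hne
        obtain ⟨y, hy⟩ := (hf₁.nondegenerate u hne).2
        exact hy (hu y trivial)
      rwa [finrank_top, Module.finrank_fintype_fun_eq_card, Fintype.card_fin] at this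
    have hk2 : 2 ≤ k := by
      obtain ⟨j, rfl⟩ := hk
      rcases Nat.eq_zero_or_pos j with rfl | hj
      · simp [zero_pow (show t ≠ 0 by omega)] at hkt; omega
      · omega
    exact Or.inr (Or.inr (Or.inr (Or.inr (Or.inr (Or.inr (Or.inr (Or.inl ⟨k, t, e, P, f₁, ho, hk2, hk, hto, ht, hkt,
      hq3, hf₁, hst, sp_eq_inter hH (hle.trans inf_le_left) (not_sp_le_wreath hk2 (by omega) e P)⟩)))))))

/-- Over two elements a stabiliser of orthogonal planes fixes a quadratic form polarising to the symplectic form. -/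
theorem planes_quad (hq : Fintype.card F = 2) {t : ℕ} {D : Fin t → Submodule F (Fin m ⊕ Fin m → F)}
    (hD : IsNondegenerateMDecomposition (sympForm m F) 2 D) :
    ∃ Q : (Fin m ⊕ Fin m → F) → F, IsNondegenerateQuadraticForm Q ∧
      (∀ u v, QuadraticMap.polar Q u v = sympForm m F u v) ∧
      decompositionStabilizer D ⊓ spGL m F ≤ quadSimilarityGroup Q := by
  classical
  let S : ((i : Fin t) → D i) →ₗ[F] (Fin m ⊕ Fin m → F) :=
    { toFun := fun w => ∑ i, (w i : Fin m ⊕ Fin m → F)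
      map_add' := fun u v => by simp [Finset.sum_add_distrib]
      map_smul' := fun c u => by simp [Finset.smul_sum] }
  have hS : Function.Bijective S := by
    refine ⟨(injective_iff_map_eq_zero S).2 fun w hw => funext fun i => ?_, LinearMap.range_eq_top.1 ?_⟩
    · have h1 : (w i : Fin m ⊕ Fin m → F) ∈ ⨆ (j) (_ : j ≠ i), D j := by
        change ∑ j, (w j : Fin m ⊕ Fin m → F) = 0 at hw
        rw [← Finset.add_sum_erase _ _ (Finset.mem_univ i)] at hw
        rw [eq_neg_of_add_eq_zero_left hw]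
        exact Submodule.neg_mem _ (Submodule.sum_mem _ fun j hj => Submodule.mem_iSup_of_mem j
          (Submodule.mem_iSup_of_mem (Finset.ne_of_mem_erase hj) (w j).2))
      exact Subtype.ext ((Submodule.disjoint_def.1 (hD.decomp.indep i)) _ (w i).2 h1)
    · rw [eq_top_iff, ← hD.decomp.iSup_eq_top, iSup_le_iff]
      intro i v hv
      refine ⟨Pi.single i ⟨v, hv⟩, ?_⟩
      show ∑ j, ((Pi.single i (⟨v, hv⟩ : D i) : (j : Fin t) → D j) j : Fin m ⊕ Fin m → F) = v
      rw [Finset.sum_eq_single i (fun j _ hj => by simp [Pi.single_eq_of_ne hj]) (by simp)]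
      simp
  have h01 : ∀ c : F, c = 0 ∨ c = 1 := fun c => by
    by_contra h
    push Not at h
    have h1 : ({c, 0, 1} : Finset F).card ≤ 2 := hq ▸ Finset.card_le_univ _
    simp [h.1, h.2] at h1
  have h2 : (2 : F) = 0 := by
    rcases h01 (2 : F) with h | h
    · exact h
    · exact absurd (show (1 : F) = 0 by linear_combination h) one_ne_zero
  let comp : (Fin m ⊕ Fin m → F) → ∀ i, D i := fun v => (LinearEquiv.ofBijective S hS).symm v
  have hcomp : ∀ v, ∑ i, (comp v i : Fin m ⊕ Fin m → F) = v := fun v =>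
    (LinearEquiv.ofBijective S hS).apply_symm_apply v
  have huniq : ∀ v (w : ∀ i, D i), ∑ i, (w i : Fin m ⊕ Fin m → F) = v → ∀ i, comp v i = w i := fun v w hw i =>
    congrFun (hS.1 ((hcomp v).trans hw.symm)) i
  have hcadd : ∀ u v i, comp (u + v) i = comp u i + comp v i := fun u v i =>
    huniq _ (fun i => comp u i + comp v i) (by simp [Finset.sum_add_distrib, hcomp]) i
  -- the value one on every non-zero vector of a plane
  let N : ∀ i, D i → F := fun i x => if x = 0 then 0 else 1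
  have hblock : ∀ i (x y : D i), N i (x + y) - N i x - N i y = sympForm m F x y := by
    intro i x y
    by_cases hx : x = 0
    · subst hx; simp [N]
    by_cases hy : y = 0
    · subst hy; simp [N]
    by_cases hxy : x = y
    · subst hxy
      have h0 : x + x = 0 := by rw [← two_smul F x, h2, zero_smul]
      simp only [N, h0, hx, if_true, if_false, sympForm_self]
      linear_combination -h2
    · have hxy0 : x + y ≠ 0 := fun h => hxy (by
        rw [eq_neg_of_add_eq_zero_left h, ← neg_one_smul F y, show (-1 : F) = 1 by linear_combination -h2, one_smul])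
      have hB : sympForm m F (x : Fin m ⊕ Fin m → F) y = 1 := by
        refine (h01 _).resolve_left fun h0 => ?_
        have hli : LinearIndependent F ![x, y] := by
          rw [LinearIndependent.pair_iff]
          intro s t hst
          rcases h01 s with rfl | rfl <;> rcases h01 t with rfl | rfl <;> simp_all
        have hsp : Submodule.span F (Set.range ![x, y]) = ⊤ :=
          hli.span_eq_top_of_card_eq_finrank (by rw [hD.decomp.finrank_eq]; rfl)
        obtain ⟨-, z, hz, hne⟩ := hD.nondegenerate i x x.2 (fun h => hx (Subtype.ext h))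
        refine hne ?_
        have hz' : (⟨z, hz⟩ : D i) ∈ Submodule.span F (Set.range ![x, y]) := hsp ▸ trivial
        rw [Matrix.range_cons, Matrix.range_cons, Matrix.range_empty, Set.union_empty, Set.singleton_union,
          Submodule.mem_span_pair] at hz'
        obtain ⟨a, b, hab⟩ := hz'
        rw [show z = a • (x : Fin m ⊕ Fin m → F) + b • y from (congrArg Subtype.val hab).symm, sympForm_add_right,
          sympForm_smul_right, sympForm_smul_right, sympForm_self, h0]
        ring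
      simp only [N, hx, hy, hxy0, if_false, hB]
      linear_combination -h2
  let Q : (Fin m ⊕ Fin m → F) → F := fun v => ∑ i, N i (comp v i)
  have hpol : ∀ u v, QuadraticMap.polar Q u v = sympForm m F u v := by
    intro u v
    simp only [QuadraticMap.polar, Q, ← Finset.sum_sub_distrib, hcadd, hblock]
    conv_rhs => rw [← hcomp u, ← hcomp v, ← sympB_apply]
    simp only [map_sum, LinearMap.sum_apply, sympB_apply]
    refine Finset.sum_congr rfl fun i _ => ?_
    rw [Finset.sum_eq_single i (fun j _ hji => hD.orthogonal j i hji _ (comp u j).2 _ (comp v i).2) (by simp)]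
  refine ⟨Q, ⟨fun c v => ?_, ?_, ?_⟩, hpol, fun g hg => ⟨1, fun v => ?_⟩⟩
  · rcases h01 c with rfl | rfl
    · have h0 : ∀ i, comp 0 i = 0 := fun i => huniq 0 (fun i => 0) (by simp) i
      simp [Q, N, h0]
    · simp
  · rw [show QuadraticMap.polar Q = sympForm m F from funext₂ hpol]
    exact ⟨fun x y v => sympForm_add_left x y v, sympForm_smul_left, fun v x y => sympForm_add_right v x y,
      sympForm_smul_right⟩
  · rw [show QuadraticMap.polar Q = sympForm m F from funext₂ hpol]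
    intro v hv
    obtain ⟨x, hx⟩ := exists_sympForm_eq_one hv
    exact ⟨⟨x, by rw [sympForm_swap, hx]; simp⟩, ⟨x, by rw [hx]; simp⟩⟩
  · obtain ⟨σ, hσ⟩ := hg.1
    have hmem : ∀ i (x : D i), (g : Matrix (Fin m ⊕ Fin m) (Fin m ⊕ Fin m) F) *ᵥ (x : Fin m ⊕ Fin m → F) ∈ D (σ i) :=
      fun i x => by rw [← hσ i]; exact ⟨x, x.2, Matrix.toLin'_apply _ _⟩
    let w : ∀ i, D i := fun i => ⟨(g : Matrix (Fin m ⊕ Fin m) (Fin m ⊕ Fin m) F) *ᵥ
      (comp v (σ.symm i) : Fin m ⊕ Fin m → F), by simpa using hmem (σ.symm i) (comp v (σ.symm i))⟩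
    have hw : ∀ i, comp ((g : Matrix (Fin m ⊕ Fin m) (Fin m ⊕ Fin m) F) *ᵥ v) i = w i := huniq _ w (by
      show ∑ i, (g : Matrix (Fin m ⊕ Fin m) (Fin m ⊕ Fin m) F) *ᵥ (comp v (σ.symm i) : Fin m ⊕ Fin m → F) = _
      rw [← Matrix.mulVec_sum, Equiv.sum_comp σ.symm (fun i => (comp v i : Fin m ⊕ Fin m → F)), hcomp])
    rw [Units.val_one, one_mul]
    show ∑ i, N i (comp _ i) = ∑ i, N i (comp v i)
    simp only [hw]
    rw [← Equiv.sum_comp σ (fun i => N i (w i))]
    refine Finset.sum_congr rfl fun i _ => ?_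
    have hzero : (w (σ i) = 0) ↔ (comp v i = 0) := by
      rw [Subtype.ext_iff, Subtype.ext_iff]
      show (g : Matrix (Fin m ⊕ Fin m) (Fin m ⊕ Fin m) F) *ᵥ _ = 0 ↔ _
      rw [σ.symm_apply_apply]
      exact ⟨fun h => MaxTv.gl_mulVec_injective g (h.trans (Matrix.mulVec_zero _).symm),
        fun h => by rw [h]; exact Matrix.mulVec_zero _⟩
    simp only [N, hzero]

omit [Fintype F] in
/-- A symmetric form in three dimensions over three elements has three orthogonal vectors of equal value. -/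
theorem exists_equal_frame (h3 : (3 : F) = 0) (h2 : (2 : F) ≠ 0) (hall : ∀ x : F, x = 0 ∨ x = 1 ∨ x = -1)
    {f : (Fin 3 → F) → (Fin 3 → F) → F} (hf : IsSymmetricForm f) :
    ∃ (δ : F) (w : Fin 3 → Fin 3 → F), δ ≠ 0 ∧ ∀ a b, f (w a) (w b) = if a = b then δ else 0 := by
  haveI : Invertible (2 : F) := invertibleOfNonzero h2
  let B : LinearMap.BilinForm F (Fin 3 → F) := LinearMap.mk₂ F f hf.bilinear.add_left
    (fun c x v => hf.bilinear.smul_left c x v) hf.bilinear.add_right (fun c v x => hf.bilinear.smul_right c v x)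
  obtain ⟨v, hv⟩ := LinearMap.BilinForm.exists_orthogonal_basis (B := B) ⟨hf.symm⟩
  let u : Fin 3 → Fin 3 → F := fun a => v (Fin.cast (by simp) a)
  have ho : ∀ a b, a ≠ b → f (u a) (u b) = 0 := fun a b hab => hv (fun h => hab (Fin.cast_injective _ h))
  have hne : ∀ a, f (u a) (u a) ≠ 0 := by
    intro a h0
    obtain ⟨⟨x, hx⟩, -⟩ := hf.nondegenerate (u a) (v.ne_zero _)
    apply hx
    have hflip : B.flip (u a) = 0 := v.ext fun b => by
      have hb : v b = u (Fin.cast (by simp) b) := by simp [u]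
      show f (v b) (u a) = 0
      rw [hb]
      by_cases hab : Fin.cast (by simp) b = a
      · rw [hab]; exact h0
      · exact ho _ _ hab
    exact LinearMap.congr_fun hflip x
  have hval : ∀ a, f (u a) (u a) = 1 ∨ f (u a) (u a) = -1 := fun a => (hall _).resolve_left (hne a)
  -- two orthogonal vectors of equal value give two of the opposite value
  have key : ∀ a b c, a ≠ b → a ≠ c → b ≠ c → f (u a) (u a) = f (u b) (u b) → f (u c) (u c) ≠ f (u a) (u a) →
      ∃ (δ : F) (w : Fin 3 → Fin 3 → F), δ ≠ 0 ∧ ∀ i j, f (w i) (w j) = if i = j then δ else 0 := by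
    intro a b c hab hac hbc heq hne'
    have hc : f (u c) (u c) = -f (u a) (u a) := by
      rcases hval a with h | h <;> rcases hval c with h' | h' <;>
        first
          | exact absurd (h'.trans h.symm) hne'
          | simp [h, h']
    obtain ⟨s, hs⟩ : ∃ s : F, s = -1 := ⟨_, rfl⟩
    refine ⟨-f (u a) (u a), ![u c, u a + u b, u a + s • u b], neg_ne_zero.2 (hne a), fun i j => ?_⟩
    have e1 := ho a b hab
    have e2 := ho a c hac
    have e3 := ho b c hbc
    have e1' := ho b a hab.symm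
    have e2' := ho c a hac.symm
    have e3' := ho c b hbc.symm
    fin_cases i <;> fin_cases j <;>
      simp [hf.bilinear.add_left, hf.bilinear.add_right, hf.bilinear.smul_left, hf.bilinear.smul_right, hc, e1, e2,
        e3, e1', e2', e3', ← heq]
    all_goals subst hs
    all_goals first
      | linear_combination (f (u a) (u a)) * h3
      | ring
  by_cases h01 : f (u 0) (u 0) = f (u 1) (u 1)
  · by_cases h02 : f (u 2) (u 2) = f (u 0) (u 0)
    · refine ⟨f (u 0) (u 0), u, hne 0, fun i j => ?_⟩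
      fin_cases i <;> fin_cases j <;> simp [h02, h01, ho]
    · exact key 0 1 2 (by decide) (by decide) (by decide) h01 h02
  · by_cases h02 : f (u 2) (u 2) = f (u 0) (u 0)
    · exact key 0 2 1 (by decide) (by decide) (by decide) h02.symm (Ne.symm h01)
    · have h12 : f (u 2) (u 2) = f (u 1) (u 1) := by
        rcases hval 0 with h | h <;> rcases hval 1 with h' | h' <;> rcases hval 2 with h'' | h'' <;> simp_all
      exact key 2 1 0 (by decide) (by decide) (by decide) h12 (Ne.symm h02)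

omit [Fintype F] in
theorem formOfGram_tmul {κ μ : Type} [Fintype κ] [Fintype μ] (G₁ : Matrix κ κ F) (G₂ : Matrix μ μ F)
    (y y' : κ → F) (z z' : μ → F) :
    formOfGram (id : F → F) (G₁ ⊗ₖ G₂) (fun p : κ × μ => y p.1 * z p.2) (fun p : κ × μ => y' p.1 * z' p.2) =
      formOfGram (id : F → F) G₁ y y' * formOfGram (id : F → F) G₂ z z' := by
  simp only [formOfGram, id_eq, Matrix.kroneckerMap_apply, Fintype.sum_prod_type]
  rw [Finset.sum_mul]
  refine Finset.sum_congr rfl fun i _ => ?_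
  rw [Finset.sum_mul, Finset.sum_comm]
  refine Finset.sum_congr rfl fun j _ => ?_
  rw [Finset.mul_sum]
  refine Finset.sum_congr rfl fun k _ => ?_
  rw [Finset.mul_sum]
  refine Finset.sum_congr rfl fun l _ => ?_
  ring

omit [Fintype F] in
theorem kron_mulVec_tmul {κ μ : Type} [Fintype κ] [Fintype μ] (A : Matrix κ κ F) (B : Matrix μ μ F)
    (y : κ → F) (z : μ → F) :
    (A ⊗ₖ B) *ᵥ (fun p : κ × μ => y p.1 * z p.2) = fun p : κ × μ => (A *ᵥ y) p.1 * (B *ᵥ z) p.2 := by
  funext p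
  simp only [Matrix.mulVec, dotProduct, Matrix.kroneckerMap_apply, Fintype.sum_prod_type, Finset.sum_mul,
    Finset.mul_sum]
  rw [Finset.sum_comm]
  refine Finset.sum_congr rfl fun j _ => Finset.sum_congr rfl fun k _ => ?_
  ring

set_option maxHeartbeats 1000000 in
/-- Over three elements a tensor product with a three dimensional orthogonal space preserves three orthogonal blocks. -/
theorem tensor_three_decomp (hq : Fintype.card F = 3) {a : ℕ} (ha : 2 ≤ a)
    {e : (Fin m ⊕ Fin m) ≃ Fin a × Fin 3} {P : GL (Fin m ⊕ Fin m) F}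
    {f₁ : (Fin a → F) → (Fin a → F) → F} {f₂ : (Fin 3 → F) → (Fin 3 → F) → F}
    (hf₁ : IsSymplecticForm f₁) (hf₂ : IsSymmetricForm f₂)
    (hst : IsTensorFormStructure id (sympForm m F) f₁ f₂ e P) :
    ∃ D : Fin 3 → Submodule F (Fin m ⊕ Fin m → F), IsNondegenerateMDecomposition (sympForm m F) a D ∧
      tensorProductSubgroup a 3 e P ⊓ spGL m F ≤ decompositionStabilizer D := by
  classical
  have hcast : (Fintype.card F : F) = 0 := FiniteField.cast_card_eq_zero F
  rw [hq] at hcast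
  have h3 : (3 : F) = 0 := by exact_mod_cast hcast
  have h2 : (2 : F) ≠ 0 := fun h => one_ne_zero (show (1 : F) = 0 by linear_combination h3 - h)
  have hne11 : (1 : F) ≠ -1 := fun h => h2 (by linear_combination h)
  have hall : ∀ x : F, x = 0 ∨ x = 1 ∨ x = -1 := fun x => by
    by_contra h
    push Not at h
    have h1 : ({x, 0, 1, -1} : Finset F).card ≤ 3 := hq ▸ Finset.card_le_univ _
    simp [h.1, h.2.1, h.2.2, hne11] at h1
  obtain ⟨δ, w, hδ, hw⟩ := exists_equal_frame h3 h2 hall hf₂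
  obtain ⟨c, hc, hcf⟩ := hst
  have hs₁ := sesq_of_bilinear hf₁.bilinear
  have hs₂ := sesq_of_bilinear hf₂.bilinear
  have hg₁ : ∀ y y', f₁ y y' = formOfGram id (gramMatrix f₁) y y' := fun y y' => hs₁.eq_gram y y'
  have hg₂ : ∀ y y', f₂ y y' = formOfGram id (gramMatrix f₂) y y' := fun y y' => hs₂.eq_gram y y'
  let L : Fin 3 → (Fin a → F) →ₗ[F] (Fin m ⊕ Fin m → F) := fun l =>
    { toFun := fun y => (P : Matrix (Fin m ⊕ Fin m) (Fin m ⊕ Fin m) F) *ᵥ ((fun z : Fin a × Fin 3 => y z.1 * w l z.2) ∘ e)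
      map_add' := fun y y' => by
        rw [← Matrix.mulVec_add]; congr 1; funext i; simp [add_mul]
      map_smul' := fun s y => by
        rw [RingHom.id_apply, ← Matrix.mulVec_smul]; congr 1; funext i; simp [mul_assoc] }
  have hL : ∀ l y, L l y = (P : Matrix (Fin m ⊕ Fin m) (Fin m ⊕ Fin m) F) *ᵥ ((fun z : Fin a × Fin 3 => y z.1 * w l z.2) ∘ e) :=
    fun _ _ => rfl
  let T : (Fin a → F) → (Fin 3 → F) → (Fin m ⊕ Fin m → F) := fun y z =>
    (P : Matrix (Fin m ⊕ Fin m) (Fin m ⊕ Fin m) F) *ᵥ ((fun p : Fin a × Fin 3 => y p.1 * z p.2) ∘ e)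
  have hT : ∀ y z y' z', sympForm m F (T y z) (T y' z') = c * (f₁ y y' * f₂ z z') := fun y z y' z' => by
    simp only [T]
    rw [hcf, hg₁, hg₂, formOfGram_tmul]
  have hform : ∀ l l' y y', sympForm m F (L l y) (L l' y') = c * (f₁ y y' * if l = l' then δ else 0) := by
    intro l l' y y'
    rw [← hw]
    exact hT y (w l) y' (w l')
  let D : Fin 3 → Submodule F (Fin m ⊕ Fin m → F) := fun l => LinearMap.range (L l)
  have hnd : ∀ l y, (∀ y', sympForm m F (L l y) (L l y') = 0) → y = 0 := by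
    intro l y hy
    by_contra hne
    obtain ⟨y', hy'⟩ := (hf₁.nondegenerate y hne).2
    have := hy y'
    rw [hform, if_pos rfl] at this
    rcases mul_eq_zero.1 this with h | h
    · exact hc h
    · rcases mul_eq_zero.1 h with h | h
      · exact hy' h
      · exact hδ h
  have horth : ∀ i j, i ≠ j → AreOrthogonalFor (sympForm m F) (D i) (D j) := by
    rintro i j hij _ ⟨y, rfl⟩ _ ⟨y', rfl⟩
    rw [hform, if_neg hij, mul_zero, mul_zero]
  -- completeness of the frame
  have hframe : ∀ z : Fin 3 → F, z = ∑ l, (δ⁻¹ * f₂ z (w l)) • w l := by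
    have hli : LinearIndependent F w := by
      rw [Fintype.linearIndependent_iff]
      intro g hg i
      let φ : (Fin 3 → F) →ₗ[F] F :=
        { toFun := fun x => f₂ x (w i)
          map_add' := fun x y => hf₂.bilinear.add_left x y _
          map_smul' := fun s x => hf₂.bilinear.smul_left s x _ }
      have h1 := congrArg φ hg
      simp only [map_sum, map_smul, map_zero, smul_eq_mul] at h1
      simp [φ, hw, hδ] at h1
      exact h1
    intro z
    let b := basisOfLinearIndependentOfCardEqFinrank hli (by simp)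
    have hb : ∀ l, b l = w l := fun l => by simp [b]
    conv_lhs => rw [← b.sum_repr z]
    refine Finset.sum_congr rfl fun l _ => ?_
    rw [hb]
    congr 1
    let φ : (Fin 3 → F) →ₗ[F] F :=
      { toFun := fun x => f₂ x (w l)
        map_add' := fun x y => hf₂.bilinear.add_left x y _
        map_smul' := fun s x => hf₂.bilinear.smul_left s x _ }
    have h1 := congrArg φ (b.sum_repr z)
    simp only [map_sum, map_smul, smul_eq_mul] at h1
    simp [φ, hb, hw] at h1
    rw [← h1]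
    field_simp
  have htop : iSup D = ⊤ := by
    refine eq_top_iff.2 fun v _ => ?_
    let x : Fin a × Fin 3 → F :=
      (((P⁻¹ : GL (Fin m ⊕ Fin m) F) : Matrix (Fin m ⊕ Fin m) (Fin m ⊕ Fin m) F) *ᵥ v) ∘ e.symm
    let y : Fin 3 → Fin a → F := fun l i => δ⁻¹ * f₂ (fun j => x (i, j)) (w l)
    have hv : v = ∑ l, L l (y l) := by
      simp only [hL, ← Matrix.mulVec_sum]
      refine MaxTv.gl_mulVec_injective P⁻¹ ?_
      show ((P⁻¹ : GL (Fin m ⊕ Fin m) F) : Matrix (Fin m ⊕ Fin m) (Fin m ⊕ Fin m) F) *ᵥ v = _ *ᵥ _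
      rw [Matrix.mulVec_mulVec _ _ (P : Matrix (Fin m ⊕ Fin m) (Fin m ⊕ Fin m) F), Units.inv_mul, Matrix.one_mulVec]
      funext i
      have h1 := congrFun (hframe (fun j => x ((e i).1, j))) (e i).2
      simp only [Finset.sum_apply, Pi.smul_apply, smul_eq_mul] at h1 ⊢
      rw [show x ((e i).1, (e i).2) =
        (((P⁻¹ : GL (Fin m ⊕ Fin m) F) : Matrix (Fin m ⊕ Fin m) (Fin m ⊕ Fin m) F) *ᵥ v) i by simp [x]] at h1
      rw [h1]
      rfl
    rw [hv]
    exact Submodule.sum_mem _ fun l _ => Submodule.mem_iSup_of_mem l ⟨_, rfl⟩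
  have hind : iSupIndep D := by
    intro i
    rw [Submodule.disjoint_def]
    rintro _ ⟨y, rfl⟩ hmem
    have hy : y = 0 := hnd i y fun y' => by
      let φ : (Fin m ⊕ Fin m → F) →ₗ[F] F := (sympB m F).flip (L i y')
      have hle : (⨆ (j) (_ : j ≠ i), D j) ≤ LinearMap.ker φ := iSup₂_le fun j hji u hu =>
        LinearMap.mem_ker.2 (by simpa [φ, sympB_apply] using horth j i hji u hu _ ⟨y', rfl⟩)
      have h1 := LinearMap.mem_ker.1 (hle hmem)
      simpa [φ, sympB_apply] using h1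
    rw [hy, map_zero]
  have hrank : ∀ i, finrank F (D i) = a := fun i => by
    have hinj : Function.Injective (L i) := (injective_iff_map_eq_zero _).2 fun y hy => hnd i y fun y' => by
      rw [hy, sympForm_zero_left]
    rw [LinearMap.finrank_range_of_inj hinj, Module.finrank_fintype_fun_eq_card, Fintype.card_fin]
  refine ⟨D, ⟨⟨by norm_num, by omega, hrank, hind, htop⟩, ?_, horth⟩, ?_⟩
  · rintro i _ ⟨y, rfl⟩ hne
    obtain ⟨y', hy'⟩ : ∃ y', sympForm m F (L i y) (L i y') ≠ 0 := by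
      by_contra hno
      push Not at hno
      exact hne (by rw [hnd i y hno, map_zero])
    exact ⟨⟨_, ⟨y', rfl⟩, by rw [sympForm_swap]; simpa using hy'⟩, ⟨_, ⟨y', rfl⟩, hy'⟩⟩
  intro g hg
  obtain ⟨⟨_, ⟨k, ⟨A, B, hk⟩, rfl⟩, hgk⟩, hgsp⟩ := hg
  have hgco : (g : Matrix (Fin m ⊕ Fin m) (Fin m ⊕ Fin m) F) = co e P ((A : Matrix (Fin a) (Fin a) F) ⊗ₖ (B : Matrix (Fin 3) (Fin 3) F)) := by
    rw [← hgk, ← hk]
    rfl
  have hgT : ∀ y z, (g : Matrix (Fin m ⊕ Fin m) (Fin m ⊕ Fin m) F) *ᵥ T y z =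
      T ((A : Matrix (Fin a) (Fin a) F) *ᵥ y) ((B : Matrix (Fin 3) (Fin 3) F) *ᵥ z) := by
    intro y z
    have h1 := coords_mulVec e P ((A : Matrix (Fin a) (Fin a) F) ⊗ₖ (B : Matrix (Fin 3) (Fin 3) F)) (T y z)
    rw [← hgco] at h1
    have h4 : ∀ y z, ((((P⁻¹ : GL (Fin m ⊕ Fin m) F) : Matrix (Fin m ⊕ Fin m) (Fin m ⊕ Fin m) F) *ᵥ T y z)) ∘ e.symm =
        fun p : Fin a × Fin 3 => y p.1 * z p.2 := fun y z => by
      simp only [T]
      rw [Matrix.mulVec_mulVec, Units.inv_mul, Matrix.one_mulVec]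
      funext p; simp
    rw [h4, kron_mulVec_tmul, ← h4] at h1
    refine MaxTv.gl_mulVec_injective P⁻¹ ?_
    funext i
    have h5 := congrFun h1 (e i)
    simpa only [Function.comp_apply, Equiv.symm_apply_apply] using h5
  have hgL : ∀ l y, (g : Matrix (Fin m ⊕ Fin m) (Fin m ⊕ Fin m) F) *ᵥ L l y =
      (P : Matrix (Fin m ⊕ Fin m) (Fin m ⊕ Fin m) F) *ᵥ ((fun z : Fin a × Fin 3 =>
        ((A : Matrix (Fin a) (Fin a) F) *ᵥ y) z.1 * ((B : Matrix (Fin 3) (Fin 3) F) *ᵥ w l) z.2) ∘ e) :=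
    fun l y => hgT y (w l)
  -- the second factor is a similitude
  obtain ⟨μ, hμ⟩ : ∃ μ : F, ∀ u v, f₂ ((B : Matrix (Fin 3) (Fin 3) F) *ᵥ u) ((B : Matrix (Fin 3) (Fin 3) F) *ᵥ v) =
      μ * f₂ u v := by
    obtain ⟨y₀, hy₀⟩ : ∃ y₀ : Fin a → F, y₀ ≠ 0 := ⟨Pi.single ⟨0, by omega⟩ 1, by simp⟩
    obtain ⟨y₁, hy₁⟩ := (hf₁.nondegenerate y₀ hy₀).2
    have h : ∀ u v, f₁ ((A : Matrix (Fin a) (Fin a) F) *ᵥ y₀) ((A : Matrix (Fin a) (Fin a) F) *ᵥ y₁) *
        f₂ ((B : Matrix (Fin 3) (Fin 3) F) *ᵥ u) ((B : Matrix (Fin 3) (Fin 3) F) *ᵥ v) = f₁ y₀ y₁ * f₂ u v := by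
      intro u v
      have h1 := hgsp (T y₀ u) (T y₁ v)
      change sympForm m F ((g : Matrix (Fin m ⊕ Fin m) (Fin m ⊕ Fin m) F) *ᵥ T y₀ u)
        ((g : Matrix (Fin m ⊕ Fin m) (Fin m ⊕ Fin m) F) *ᵥ T y₁ v) = _ at h1
      rw [hgT, hgT, hT, hT] at h1
      exact mul_left_cancel₀ hc h1
    have hne0 : f₁ ((A : Matrix (Fin a) (Fin a) F) *ᵥ y₀) ((A : Matrix (Fin a) (Fin a) F) *ᵥ y₁) ≠ 0 := fun h0 => by
      have h1 := h (w 0) (w 0)
      rw [h0, zero_mul, hw, if_pos rfl] at h1
      exact (mul_ne_zero hy₁ hδ) h1.symm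
    refine ⟨f₁ y₀ y₁ / f₁ ((A : Matrix (Fin a) (Fin a) F) *ᵥ y₀) ((A : Matrix (Fin a) (Fin a) F) *ᵥ y₁), fun u v => ?_⟩
    rw [div_mul_eq_mul_div, eq_div_iff hne0]
    linear_combination h u v
  -- coordinates of the images of the frame
  let cm : Matrix (Fin 3) (Fin 3) F := Matrix.of fun l k => δ⁻¹ * f₂ ((B : Matrix (Fin 3) (Fin 3) F) *ᵥ w l) (w k)
  have hcm : ∀ l, (B : Matrix (Fin 3) (Fin 3) F) *ᵥ w l = ∑ k, cm l k • w k := fun l => hframe _
  have hgram : cm * cmᵀ = μ • (1 : Matrix (Fin 3) (Fin 3) F) := by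
    ext l l'
    have h1 := hμ (w l) (w l')
    rw [hcm l, hcm l', hw] at h1
    let B₂ : LinearMap.BilinForm F (Fin 3 → F) := LinearMap.mk₂ F f₂ hf₂.bilinear.add_left
      (fun c x v => hf₂.bilinear.smul_left c x v) hf₂.bilinear.add_right (fun c v x => hf₂.bilinear.smul_right c v x)
    rw [show f₂ (∑ k, cm l k • w k) (∑ k, cm l' k • w k) = B₂ (∑ k, cm l k • w k) (∑ k, cm l' k • w k) from rfl] at h1
    simp only [map_sum, map_smul, LinearMap.sum_apply, LinearMap.smul_apply, smul_eq_mul] at h1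
    simp only [B₂, LinearMap.mk₂_apply, hw, mul_ite, mul_zero, Finset.sum_ite_eq, Finset.sum_ite_eq', Finset.mem_univ, if_true] at h1
    rw [Matrix.mul_apply, Matrix.smul_apply, Matrix.one_apply]
    simp only [Matrix.transpose_apply, smul_eq_mul]
    have h6 : δ * ∑ k, cm l k * cm l' k = δ * (μ * if l = l' then 1 else 0) := by
      rw [Finset.mul_sum]
      refine Eq.trans (Finset.sum_congr rfl fun k _ => ?_) (h1.trans ?_)
      · ring
      · split_ifs <;> ring
    exact mul_left_cancel₀ hδ h6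
  have hsq : ∀ x : F, x = 0 ∨ x * x = 1 := fun x => by
    rcases hall x with rfl | rfl | rfl <;> simp
  have hμ1 : μ = 1 := by
    have hd := congrArg Matrix.det hgram
    rw [Matrix.det_mul, Matrix.det_transpose, Matrix.det_smul, Matrix.det_one, mul_one, Fintype.card_fin] at hd
    have hμ0 : μ ≠ 0 := fun h0 => by
      obtain ⟨v₀, hv₀⟩ : ∃ v₀, (B : Matrix (Fin 3) (Fin 3) F) *ᵥ v₀ = w 0 :=
        ⟨((B⁻¹ : GL (Fin 3) F) : Matrix (Fin 3) (Fin 3) F) *ᵥ w 0, by simp [Matrix.mulVec_mulVec]⟩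
      have h1 := hμ v₀ v₀
      rw [hv₀, hw, if_pos rfl, h0, zero_mul] at h1
      exact hδ h1
    rcases hsq cm.det with h | h
    · rw [h, zero_mul] at hd; exact absurd hd.symm (pow_ne_zero _ hμ0)
    · rcases hsq μ with h' | h'
      · exact absurd h' hμ0
      · rw [h, pow_succ, pow_two, h', one_mul] at hd; exact hd.symm
  subst hμ1
  have hone : ∀ l, ∃ k, cm l k ≠ 0 ∧ ∀ k', k' ≠ k → cm l k' = 0 := by
    intro l
    have h1 := congrFun (congrFun hgram l) l
    simp [Matrix.mul_apply, Fin.sum_univ_three] at h1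
    rcases hsq (cm l 0) with h0 | h0 <;> rcases hsq (cm l 1) with h1' | h1' <;> rcases hsq (cm l 2) with h2' | h2' <;>
      simp only [h0, h1', h2', mul_zero, zero_mul, add_zero, zero_add] at h1
    · exact absurd h1 zero_ne_one
    · exact ⟨2, fun h => by simp [h] at h2', fun k' hk' => by
        fin_cases k' <;> first | exact absurd rfl hk' | assumption⟩
    · exact ⟨1, fun h => by simp [h] at h1', fun k' hk' => by
        fin_cases k' <;> first | exact absurd rfl hk' | assumption⟩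
    · exact absurd (show (1 : F) = 0 by linear_combination h1) one_ne_zero
    · exact ⟨0, fun h => by simp [h] at h0, fun k' hk' => by
        fin_cases k' <;> first | exact absurd rfl hk' | assumption⟩
    · exact absurd (show (1 : F) = 0 by linear_combination h1) one_ne_zero
    · exact absurd (show (1 : F) = 0 by linear_combination h1) one_ne_zero
    · exact absurd (show (1 : F) = 0 by linear_combination h3 - h1) one_ne_zero
  choose σ hσne hσ using hone
  have hinj : Function.Injective σ := by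
    intro l l' h
    by_contra hne
    have h1 := congrFun (congrFun hgram l) l'
    rw [Matrix.mul_apply, Finset.sum_eq_single (σ l) (fun k _ hk => by rw [hσ l k hk, zero_mul]) (by simp),
      Matrix.transpose_apply, Matrix.smul_apply, Matrix.one_apply_ne hne, smul_zero] at h1
    rcases mul_eq_zero.1 h1 with h1 | h1
    · exact hσne l h1
    · exact hσne l' (h ▸ h1)
  refine ⟨Equiv.ofBijective σ (Finite.injective_iff_bijective.1 hinj), fun l => ?_⟩
  rw [Equiv.ofBijective_apply]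
  refine Submodule.eq_of_le_of_finrank_eq ?_ ?_
  · rintro _ ⟨_, ⟨y, rfl⟩, rfl⟩
    rw [Matrix.toLin'_apply, hgL]
    refine ⟨cm l (σ l) • ((A : Matrix (Fin a) (Fin a) F) *ᵥ y), ?_⟩
    rw [hL]
    congr 1
    funext i
    simp only [Function.comp_apply, Pi.smul_apply, smul_eq_mul]
    conv_rhs => rw [hcm l]
    simp only [Finset.sum_apply, Pi.smul_apply, smul_eq_mul]
    rw [Finset.sum_eq_single (σ l) (fun k _ hk => by rw [hσ l k hk, zero_mul]) (by simp)]
    ring
  · rw [← (Submodule.equivMapOfInjective (Matrix.toLin' (g : Matrix (Fin m ⊕ Fin m) (Fin m ⊕ Fin m) F))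
      (fun x y h => MaxTv.gl_mulVec_injective g (by simpa [Matrix.toLin'_apply] using h)) (D l)).finrank_eq,
      hrank, hrank]

/-- The tensor product with a three dimensional orthogonal space over three elements is a stabiliser of blocks. -/
theorem sp_tensor_small {H : Subgroup (GL (Fin m ⊕ Fin m) F)} (hH : IsMaximalIn (spGL m F) H)
    (hq : Fintype.card F = 3) {a : ℕ} (ha : 2 ≤ a)
    {e : (Fin m ⊕ Fin m) ≃ Fin a × Fin 3} {P : GL (Fin m ⊕ Fin m) F}
    {f₁ : (Fin a → F) → (Fin a → F) → F} {f₂ : (Fin 3 → F) → (Fin 3 → F) → F}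
    (hf₁ : IsSymplecticForm f₁) (hf₂ : IsSymmetricForm f₂)
    (hst : IsTensorFormStructure id (sympForm m F) f₁ f₂ e P)
    (hHD : H = tensorProductSubgroup a 3 e P ⊓ spGL m F) :
    ∃ D : Fin 3 → Submodule F (Fin m ⊕ Fin m → F), IsNondegenerateMDecomposition (sympForm m F) a D ∧
      H = decompositionStabilizer D ⊓ spGL m F := by
  obtain ⟨D, hD, hle⟩ := tensor_three_decomp hq ha hf₁ hf₂ hst
  exact ⟨D, hD, sp_eq_inter hH (hHD.le.trans hle) (not_sp_le_decomp hD.decomp)⟩

/-- A stabiliser of orthogonal planes over two elements is an orthogonal group. -/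
theorem sp_planes_small {H : Subgroup (GL (Fin m ⊕ Fin m) F)} (hm : 2 ≤ m) (hH : IsMaximalIn (spGL m F) H)
    (hq : ¬ 3 ≤ Fintype.card F) {t : ℕ} {D : Fin t → Submodule F (Fin m ⊕ Fin m → F)}
    (hD : IsNondegenerateMDecomposition (sympForm m F) 2 D) (hHD : H = decompositionStabilizer D ⊓ spGL m F) :
    ¬ Odd (Fintype.card F) ∧ ∃ Q : (Fin m ⊕ Fin m → F) → F, IsNondegenerateQuadraticForm Q ∧
      (∀ u v, QuadraticMap.polar Q u v = sympForm m F u v) ∧ H = quadSimilarityGroup Q ⊓ spGL m F := by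
  have h1 := Fintype.one_lt_card (α := F)
  have hq2 : Fintype.card F = 2 := by omega
  obtain ⟨Q, hQ, hpol, hle⟩ := planes_quad hq2 hD
  have he : ¬ Odd (Fintype.card F) := by rw [hq2]; decide
  have h2 : (2 : F) = 0 := by
    by_contra h2
    exact he (odd_card_of_two_ne h2)
  exact ⟨he, Q, hQ, hpol, sp_eq_inter hH (hHD.le.trans hle) (not_sp_le_quadSimilarity hm h2 hQ hpol)⟩

end Cfsg.Agent.Classical.Asch
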