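import Cfsg.Agent.Lib.Classical.MaxMonomialSix

/-!
Stabilisers of decompositions into lines are maximal in `SL` in dimension at least ten over fields of at
least five elements; the dimension count of a decomposition.
-/

set_option autoImplicit false
set_option linter.unusedSectionVars false

namespace Cfsg.Agent.Classical.MaxMon

open Matrix Module MaxTv

variable {F : Type*} [Field F] {t : ℕ}

theorem decomp_card {ι : Type} [Fintype ι] [DecidableEq ι] {m : ℕ} {D : Fin t → Submodule F (ι → F)}
    (hD : Geo.IsMDecomposition m D) : t * m = Fintype.card ι := by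
  obtain ⟨-, -, hk, hind, htop⟩ := hD
  obtain ⟨p, hp⟩ := exists_proj hind htop
  let e : (ι → F) →ₗ[F] (∀ i, D i) := LinearMap.pi fun i => (p i).codRestrict (D i) (hp.mem i)
  have hb : Function.Bijective e := by
    refine ⟨fun x y h => hp.ext fun i => congrArg Subtype.val (congrFun h i), fun y =>
      ⟨∑ j, (y j : ι → F), funext fun i => Subtype.ext ?_⟩⟩
    show p i (∑ j, (y j : ι → F)) = (y i : ι → F)
    rw [map_sum, Finset.sum_eq_single i (fun j _ hj => hp.other i j (Ne.symm hj) _ (y j).2) (by simp)]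
    exact hp.self i _ (y i).2
  have := (LinearEquiv.ofBijective e hb).finrank_eq
  rw [finrank_fintype_fun_eq_card, finrank_pi_fintype] at this
  simp [hk] at this
  omega

/-- Stabilisers of decompositions into lines. -/
theorem lines_maximal_of [Fintype F] {n : ℕ} (hn : 2 ≤ n) (hq : 5 ≤ Fintype.card F)
    (hgen : ∀ M : Subgroup (GL (Fin n) F), MonLe M → ∀ g ∈ M, ¬ IsMon (g : Matrix (Fin n) (Fin n) F) →
      Geo.specialLinear (Fin n) F ≤ M)
    {D : Fin t → Submodule F (Fin n → F)} (hD : Geo.IsMDecomposition 1 D) :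
    Geo.IsMaximalIn (Geo.specialLinear (Fin n) F)
      (Geo.decompositionStabilizer D ⊓ Geo.specialLinear (Fin n) F) := by
  classical
  have htn : t = n := by simpa using decomp_card hD
  subst htn
  obtain ⟨-, -, hk, hind, htop⟩ := hD
  obtain ⟨p, hp⟩ := exists_proj hind htop
  have hne : ∀ i, D i ≠ ⊥ := fun i e => by have := hk i; rw [e, finrank_bot] at this; omega
  choose w hw hw0 using fun i => Submodule.exists_mem_ne_zero_of_ne_bot (hne i)
  have hspan : ∀ i, ∀ v ∈ D i, ∃ a : F, v = a • w i := fun i v hv => by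
    have he : (F ∙ w i) = D i := Submodule.eq_of_le_of_finrank_eq
      ((Submodule.span_singleton_le_iff_mem _ _).2 (hw i)) (by rw [finrank_span_singleton (hw0 i), hk])
    rw [← he] at hv
    obtain ⟨a, ha⟩ := Submodule.mem_span_singleton.1 hv
    exact ⟨a, ha.symm⟩
  obtain ⟨P, hP⟩ := exists_gl_of_injective (Fintype.linearCombination F w) (fun x y h => funext fun i => by
    have h1 := congrArg (p i) h
    simp only [Fintype.linearCombination_apply, map_sum, map_smul] at h1
    rw [Finset.sum_eq_single i (fun j _ hj => by rw [hp.other i j (Ne.symm hj) _ (hw j), smul_zero]) (by simp),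
      Finset.sum_eq_single i (fun j _ hj => by rw [hp.other i j (Ne.symm hj) _ (hw j), smul_zero]) (by simp),
      hp.self i _ (hw i)] at h1
    exact smul_left_injective F (hw0 i) h1)
  have hPe : ∀ i (a : F), (P : Matrix (Fin t) (Fin t) F) *ᵥ Pi.single i a = a • w i := fun i a => by
    rw [hP, Fintype.linearCombination_apply_single]
  have hstab : ∀ g : GL (Fin t) F, g ∈ Geo.decompositionStabilizer D ↔
      IsMon ((P⁻¹ * g * P : GL (Fin t) F) : Matrix (Fin t) (Fin t) F) := by
    intro g
    constructor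
    · rintro ⟨σ, hσ⟩
      refine isMon_of_cols fun j => ?_
      obtain ⟨a, ha⟩ := hspan (σ j) ((g : Matrix (Fin t) (Fin t) F) *ᵥ w j)
        (by rw [← hσ j]; exact ⟨w j, hw j, Matrix.toLin'_apply _ _⟩)
      refine ⟨σ j, a, ?_⟩
      rw [Units.val_mul, Units.val_mul, ← Matrix.mulVec_mulVec, ← Matrix.mulVec_mulVec, hPe, one_smul, ha,
        ← hPe, inv_mulVec_cancel]
    · intro hmon
      obtain ⟨π, x, -, hπ⟩ := hmon.exists_perm
      refine hp.mem_stabilizer (fun i j => by rw [hk, hk]) π (fun i v hv => ?_) hne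
      obtain ⟨a, rfl⟩ := hspan i v hv
      have h1 := congrArg (fun z => (P : Matrix (Fin t) (Fin t) F) *ᵥ z) (hπ i)
      simp only [Units.val_mul, ← Matrix.mulVec_mulVec, mulVec_inv_cancel, hPe, one_smul] at h1
      rw [Matrix.mulVec_smul, h1, smul_smul]
      exact (D (π i)).smul_mem _ (hw _)
  have hdet : ∀ g : GL (Fin t) F, ((P⁻¹ * g * P : GL (Fin t) F) : Matrix (Fin t) (Fin t) F).det =
      (g : Matrix (Fin t) (Fin t) F).det := fun g => by
    rw [Units.val_mul, Units.val_mul, Matrix.det_mul, Matrix.det_mul, mul_comm _ (P : Matrix (Fin t) (Fin t) F).det,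
      ← mul_assoc, ← Matrix.det_mul, ← Units.val_mul, mul_inv_cancel, Units.val_one, Matrix.det_one, one_mul]
  refine isMaximalIn_intro inf_le_right (fun hle => ?_) fun M hHM hMK g hgM hgH => ?_
  · set i : Fin t := ⟨0, by omega⟩
    set j : Fin t := ⟨1, by omega⟩
    have hij : i ≠ j := by simp [i, j]
    obtain ⟨T, hT⟩ := exists_tv (φ := (Pi.single j 1 : Fin t → F)) (v := (Pi.single i 1 : Fin t → F))
      (by simp [Pi.single_eq_of_ne hij, Pi.single_eq_of_ne hij.symm])
    have hTs : P * T * P⁻¹ ∈ Geo.specialLinear (Fin t) F := mem_specialLinear_iff.2 (by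
      rw [← hdet, show P⁻¹ * (P * T * P⁻¹) * P = T by group, ← mem_specialLinear_iff]
      exact det_tv hT (by simp [Pi.single_eq_of_ne hij, Pi.single_eq_of_ne hij.symm]))
    have hmon := (hstab _).1 (hle hTs).1
    rw [show P⁻¹ * (P * T * P⁻¹) * P = T by group] at hmon
    obtain ⟨r, hr⟩ := hmon j
    have h1 : (T : Matrix (Fin t) (Fin t) F) j j ≠ 0 := by
      rw [← col_apply (T : Matrix (Fin t) (Fin t) F) j j, hT]; simp [Pi.single_eq_of_ne hij.symm]
    have h2 : (T : Matrix (Fin t) (Fin t) F) i j ≠ 0 := by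
      rw [← col_apply (T : Matrix (Fin t) (Fin t) F) i j, hT]; simp [Pi.single_eq_of_ne hij]
    by_cases hjr : j = r
    · exact h2 (hr i (hjr ▸ hij))
    · exact h1 (hr j hjr)
  have hback : ∀ a : GL (Fin t) F, a ∈ M.comap (MulAut.conj P).toMonoidHom ↔ P * a * P⁻¹ ∈ M :=
    fun a => Subgroup.mem_comap
  have hM' : MonLe (M.comap (MulAut.conj P).toMonoidHom) := fun m hm hd => by
    rw [hback]
    refine hHM ⟨(hstab _).2 ?_, mem_specialLinear_iff.2 ?_⟩
    · rwa [show P⁻¹ * (P * m * P⁻¹) * P = m by group]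
    · rw [← hdet, show P⁻¹ * (P * m * P⁻¹) * P = m by group, hd]
  have hall := hgen _ hM' (P⁻¹ * g * P)
    (by rw [hback, show P * (P⁻¹ * g * P) * P⁻¹ = g by group]; exact hgM)
    (fun h => hgH ⟨(hstab g).2 h, hMK hgM⟩)
  intro s hs
  have := hall (show P⁻¹ * s * P ∈ Geo.specialLinear (Fin t) F from
    mem_specialLinear_iff.2 (by rw [hdet]; exact mem_specialLinear_iff.1 hs))
  rwa [hback, show P * (P⁻¹ * s * P) * P⁻¹ = s by group] at this

/-- Stabilisers of decompositions into at least ten lines. -/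
theorem lines_maximal [Fintype F] {n : ℕ} (hn : 10 ≤ n) (hq : 5 ≤ Fintype.card F)
    {D : Fin t → Submodule F (Fin n → F)} (hD : Geo.IsMDecomposition 1 D) :
    Geo.IsMaximalIn (Geo.specialLinear (Fin n) F)
      (Geo.decompositionStabilizer D ⊓ Geo.specialLinear (Fin n) F) :=
  lines_maximal_of (by omega) hq (fun _ hM _ hg hmon => specialLinear_le_of_monLe hM hq (by simpa using hn) hg hmon) hD

/-- Stabilisers of decompositions into six lines. -/
theorem lines_maximal_six [Fintype F] (hq : 5 ≤ Fintype.card F) {D : Fin t → Submodule F (Fin 6 → F)}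
    (hD : Geo.IsMDecomposition 1 D) :
    Geo.IsMaximalIn (Geo.specialLinear (Fin 6) F)
      (Geo.decompositionStabilizer D ⊓ Geo.specialLinear (Fin 6) F) :=
  lines_maximal_of (by norm_num) hq (fun _ hM _ hg hmon => specialLinear_le_of_monLe_six hM hq (by simp) hg hmon) hD

/-- Stabilisers of decompositions into eight lines. -/
theorem lines_maximal_eight [Fintype F] (hq : 5 ≤ Fintype.card F) {D : Fin t → Submodule F (Fin 8 → F)}
    (hD : Geo.IsMDecomposition 1 D) :
    Geo.IsMaximalIn (Geo.specialLinear (Fin 8) F)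
      (Geo.decompositionStabilizer D ⊓ Geo.specialLinear (Fin 8) F) :=
  lines_maximal_of (by norm_num) hq
    (fun _ hM _ hg hmon => specialLinear_le_of_monLe_even hM hq (by simp) (by simp; decide) hg hmon) hD

/-- Stabilisers of decompositions into nine lines. -/
theorem lines_maximal_nine [Fintype F] (hq : 5 ≤ Fintype.card F) {D : Fin t → Submodule F (Fin 9 → F)}
    (hD : Geo.IsMDecomposition 1 D) :
    Geo.IsMaximalIn (Geo.specialLinear (Fin 9) F)
      (Geo.decompositionStabilizer D ⊓ Geo.specialLinear (Fin 9) F) :=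
  lines_maximal_of (by norm_num) hq
    (fun _ hM _ hg hmon => specialLinear_le_of_monLe_six_le hM hq (by simp) hg hmon) hD

end Cfsg.Agent.Classical.MaxMon
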