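import Cfsg.Agent.Lib.Classical.AschEvenRat
import Cfsg.Agent.Lib.Classical.AschOrthShape
import Cfsg.Agent.Lib.Classical.AschSpShape
import Cfsg.Agent.Lib.Classical.MaxMonomialLines

/-!
The outcomes of the subgroup theorem for irreducible groups of isometries of an even dimensional quadratic space.
-/

set_option autoImplicit false
set_option linter.unusedSectionVars false
set_option linter.unusedFintypeInType false
set_option linter.unusedDecidableInType false
set_option quotPrecheck false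

namespace Cfsg.Agent.Classical.AschEven

open Matrix Module Cfsg.Geo
open Asch (Refl Fix Irr Inv irr_iff adj TensorData)

variable {F : Type*} [Field F] [Fintype F] {ι : Type} [Fintype ι] [DecidableEq ι]

local notation "Mn" => Matrix ι ι F

/-- A non-degenerate quadratic form given as a function. -/
theorem exists_qf {Q₀ : (ι → F) → F} (hQ₀ : IsNondegenerateQuadraticForm Q₀) :
    ∃ Q : QuadraticForm F (ι → F), ⇑Q = Q₀ ∧ (QuadraticMap.polarBilin Q).Nondegenerate := by
  obtain ⟨Q, rfl⟩ := MaxTv.exists_form hQ₀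
  have key : ∀ u, (∀ v, QuadraticMap.polar ⇑Q v u = 0) → u = 0 := fun u hu => by
    by_contra h0
    obtain ⟨x, hx⟩ := (hQ₀.nondegenerate u h0).1
    exact hx (hu x)
  exact ⟨Q, rfl, fun u hu => key u fun v => by rw [QuadraticMap.polar_comm]; exact hu v, fun u hu => key u hu⟩

/-- In characteristic two a non-degenerate subspace has even dimension, so odd dimension forces odd order. -/
theorem odd_card_of_odd {Q : QuadraticForm F (ι → F)} {W : Submodule F (ι → F)} (hd : Odd (finrank F W))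
    (hW : IsNondegenerateOn (QuadraticMap.polar ⇑Q) W) : Odd (Fintype.card F) := by
  by_contra hodd
  have h2 : (2 : F) = 0 := by
    have h : ringChar F = 2 := FiniteField.even_card_iff_char_two.2 (by rw [Nat.not_odd_iff] at hodd; exact hodd)
    haveI : CharP F 2 := ringChar.of_eq h
    exact CharTwo.two_eq_zero
  refine (Nat.not_even_iff_odd.2 hd) (Asch.even_finrank_nondeg (QuadraticMap.polarBilin Q)
    (fun v => by rw [QuadraticMap.polarBilin_apply_apply, polar_two, h2, zero_mul]) fun u hu h => ?_)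
  by_contra hne
  obtain ⟨-, x, hx, hne'⟩ := hW u hu hne
  exact hne' (by rw [← QuadraticMap.polarBilin_apply_apply]; exact h x hx)

variable {Q : QuadraticForm F (ι → F)}

/-- The outcomes for an irreducible group of isometries of an even dimensional space. -/
def IrrEven (Q : QuadraticForm F (ι → F)) (H : Subgroup (GL ι F)) : Prop :=
  (∃ (t k : ℕ) (D : Fin t → Submodule F (ι → F)), t * k = Fintype.card ι ∧ IsOrthogonalMDecomposition (⇑Q) k D ∧
      H ≤ decompositionStabilizer D) ∨
    (∃ (k : ℕ) (D : Fin 2 → Submodule F (ι → F)), 2 * k = Fintype.card ι ∧ IsMDecomposition k D ∧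
      (∀ i, IsTotallySingularQuad ⇑Q (D i)) ∧ H ≤ decompositionStabilizer D) ∨
    Asch.FieldCase (RingEquiv.refl F) (gQ Q) H ∨
    (∃ (a b : ℕ) (e : ι ≃ Fin a × Fin b) (P : GL ι F) (C : Matrix (Fin a) (Fin a) F) (D : Matrix (Fin b) (Fin b) F),
      a ≤ b ∧ TensorData (RingEquiv.refl F) (gQ Q) H e P C D) ∨
    Asch.AbelianMin H ∨ Asch.FamilyMin (RingEquiv.refl F) (gQ Q) H ∨
    (∃ (F₁ : Subfield F) (r : ℕ) (P : GL ι F) (ζ : F), r.Prime ∧ Fintype.card F = Nat.card F₁ ^ r ∧ ζ ≠ 0 ∧
      IsQuadFormRationalStructure (fun v => ζ * Q v) F₁ P ∧ H ≤ subfieldSubgroup F₁ P) ∨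
    InOrthogonalResidualClass H

theorem irr_even (hQ : (QuadraticMap.polarBilin Q).Nondegenerate) (h3 : 3 ≤ Fintype.card ι)
    {H : Subgroup (GL ι F)} (hH : H ≤ isometryGroup F ⇑Q) (hirr : Irr H) : IrrEven Q H := by
  classical
  rcases Asch.irr_case (refl_gQ hQ) h3 (fix_gQ hH) hirr with ⟨t, k, D, hD, hle, htr⟩ | h | h |
    ⟨a, b, e, P, C, D, h⟩ | h | h | h | ⟨P, hcore, hPfix, hno⟩
  · rw [form_eq] at hD
    refine Or.inl ⟨t, k, D, MaxMon.decomp_card hD.decomp, ⟨hD, fun i j => ?_⟩, hle⟩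
    obtain ⟨g, hg, hgij⟩ := htr i j
    have hinj : Function.Injective (Matrix.toLin' (g : Mn)) := fun x y hxy => by
      have := congrArg (fun z => ((g⁻¹ : GL ι F) : Mn) *ᵥ z) hxy
      simpa [Matrix.toLin'_apply, Matrix.mulVec_mulVec] using this
    exact ⟨(Submodule.equivMapOfInjective _ hinj (D i)).trans (LinearEquiv.ofEq _ _ hgij),
      fun w => iso_of_le hH hg w.1⟩
  · exact Or.inr (Or.inl (ts_pair hQ h3 hH hirr h))
  · exact Or.inr (Or.inr (Or.inl h))
  · refine Or.inr (Or.inr (Or.inr (Or.inl ?_)))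
    rcases le_total a b with hab | hab
    · exact ⟨a, b, e, P, C, D, hab, h⟩
    · exact ⟨b, a, _, _, _, _, hab, h.swap⟩
  · exact Or.inr (Or.inr (Or.inr (Or.inr (Or.inl h))))
  · exact Or.inr (Or.inr (Or.inr (Or.inr (Or.inr (Or.inl h)))))
  · exact Or.inr (Or.inr (Or.inr (Or.inr (Or.inr (Or.inr (Or.inl (quad_rational hQ h3 hH hirr h)))))))
  · refine Or.inr (Or.inr (Or.inr (Or.inr (Or.inr (Or.inr (Or.inr ⟨P, hcore, ?_⟩))))))
    rintro ⟨σ', f, hf, hfix⟩
    have hs := Asch.sesq_of_unitary hf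
    refine hno σ' (gramMatrix f) hf.ne_refl hf.involutive (Asch.gram_isUnit σ' ?_) (Asch.fix_of_fixesForm hs hfix)
    rw [show formOfGram σ' (gramMatrix f) = f from funext₂ fun u v => (hs.eq_gram u v).symm]
    exact hf.nondegenerate

/-- A proper totally singular subspace. -/
theorem ts_ne_top (hQ : (QuadraticMap.polarBilin Q).Nondegenerate) [Nonempty ι] {U : Submodule F (ι → F)}
    (hU : IsTotallySingularQuad ⇑Q U) : U ≠ ⊤ := by
  intro h
  obtain ⟨x, hx⟩ := nd_left hQ (v := Pi.single (Classical.arbitrary ι) (1 : F)) (by simp)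
  exact hx (by rw [QuadraticMap.polar, hU _ (h ▸ trivial), hU _ (h ▸ trivial), hU _ (h ▸ trivial)]; simp)

end Cfsg.Agent.Classical.AschEven
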