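import Mathlib

/-! Involutions up to scalars stabilise decompositions into subspaces of equal dimension. -/

set_option autoImplicit false

namespace Cfsg.Agent.InvolutionDecomp

variable {ι : Type*}

/-- An invariant subset of prescribed cardinality. -/
theorem exists_inv_subset [DecidableEq ι] {τ : ι → ι} (hτ : Function.Involutive τ) : ∀ (k : ℕ) (S : Finset ι),
    (∀ i ∈ S, τ i ∈ S) → k ≤ S.card → (Even k ∨ ∃ i ∈ S, τ i = i) →
    ∃ T ⊆ S, (∀ i ∈ T, τ i ∈ T) ∧ T.card = k
  | 0, S, _, _, _ => ⟨∅, by simp, by simp, rfl⟩
  | 1, S, _, _, h => by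
    obtain ⟨i, hi, he⟩ := h.resolve_left (by simp)
    exact ⟨{i}, by simpa using hi, by simpa using he, rfl⟩
  | k + 2, S, hS, hk, h => by
    by_cases hp : ∃ i ∈ S, τ i ≠ i
    · obtain ⟨i, hi, he⟩ := hp
      have hP : ({i, τ i} : Finset ι) ⊆ S := by simp [Finset.insert_subset_iff, hi, hS i hi]
      have hc : ({i, τ i} : Finset ι).card = 2 := Finset.card_pair (Ne.symm he)
      obtain ⟨T, hT, hTi, hTc⟩ := exists_inv_subset hτ k (S \ {i, τ i}) (fun j hj => by
          simp only [Finset.mem_sdiff, Finset.mem_insert, Finset.mem_singleton, not_or] at hj ⊢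
          exact ⟨hS j hj.1, fun e => hj.2.2 (by rw [← hτ j, e]), fun e => hj.2.1 (hτ.injective e)⟩)
        (by rw [Finset.card_sdiff_of_subset hP, hc]; omega)
        (h.imp (fun hev => (Nat.even_add.1 hev).2 even_two) fun ⟨j, hj, hje⟩ => ⟨j, by
          simp only [Finset.mem_sdiff, Finset.mem_insert, Finset.mem_singleton, not_or]
          refine ⟨hj, fun e => he (e ▸ hje), fun e => he ?_⟩
          subst e
          rw [hτ i] at hje
          exact hje.symm, hje⟩)
      have hd : Disjoint T {i, τ i} := (Finset.subset_sdiff.1 hT).2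
      refine ⟨T ∪ {i, τ i}, Finset.union_subset (hT.trans Finset.sdiff_subset) hP, fun j hj => ?_,
        by rw [Finset.card_union_of_disjoint hd, hTc, hc]⟩
      rcases Finset.mem_union.1 hj with hj | hj
      · exact Finset.mem_union_left _ (hTi j hj)
      · refine Finset.mem_union_right _ ?_
        rcases Finset.mem_insert.1 hj with rfl | hj
        · simp
        · rw [Finset.mem_singleton.1 hj, hτ i]; simp
    · push Not at hp
      obtain ⟨T, hT, hTc⟩ := Finset.exists_subset_card_eq hk
      exact ⟨T, hT, fun i hi => by rw [hp i (hT hi)]; exact hi, hTc⟩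

/-- A subset disjoint from its image. -/
theorem exists_half [DecidableEq ι] {τ : ι → ι} (hτ : Function.Involutive τ) : ∀ (k : ℕ) (S : Finset ι),
    (∀ i ∈ S, τ i ∈ S) → (∀ i ∈ S, τ i ≠ i) → 2 * k ≤ S.card →
    ∃ T ⊆ S, Disjoint T (T.image τ) ∧ T.card = k
  | 0, S, _, _, _ => ⟨∅, by simp, by simp, rfl⟩
  | k + 1, S, hS, hf, hk => by
    obtain ⟨i, hi⟩ : S.Nonempty := Finset.card_pos.1 (by omega)
    have hP : ({i, τ i} : Finset ι) ⊆ S := by simp [Finset.insert_subset_iff, hi, hS i hi]
    have hc : ({i, τ i} : Finset ι).card = 2 := Finset.card_pair (Ne.symm (hf i hi))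
    obtain ⟨T, hT, hTd, hTc⟩ := exists_half hτ k (S \ {i, τ i}) (fun j hj => by
        simp only [Finset.mem_sdiff, Finset.mem_insert, Finset.mem_singleton, not_or] at hj ⊢
        exact ⟨hS j hj.1, fun e => hj.2.2 (by rw [← hτ j, e]), fun e => hj.2.1 (hτ.injective e)⟩)
      (fun j hj => hf j (Finset.mem_sdiff.1 hj).1)
      (by rw [Finset.card_sdiff_of_subset hP, hc]; omega)
    have hiT : i ∉ T := fun h => (Finset.mem_sdiff.1 (hT h)).2 (by simp)
    have hτiT : τ i ∉ T := fun h => (Finset.mem_sdiff.1 (hT h)).2 (by simp)
    refine ⟨insert i T, Finset.insert_subset hi (hT.trans Finset.sdiff_subset), ?_,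
      by rw [Finset.card_insert_of_notMem hiT, hTc]⟩
    rw [Finset.disjoint_left]
    intro j hj hj'
    obtain ⟨l, hl, e⟩ := Finset.mem_image.1 hj'
    rcases Finset.mem_insert.1 hj with hj | hj <;> rcases Finset.mem_insert.1 hl with hl | hl
    · exact hf i hi (by rw [← hl]; exact (e.trans hj).trans hl.symm)
    · exact hτiT (by rw [← hj, ← e, hτ l]; exact hl)
    · exact hτiT (by rw [← hl, e]; exact hj)
    · exact Finset.disjoint_left.1 hTd hj (Finset.mem_image.2 ⟨l, hl, e⟩)

theorem exists_packing_aux [DecidableEq ι] {τ : ι → ι} (hτ : Function.Involutive τ) {a : ℕ} (ha : 0 < a) :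
    ∀ (t : ℕ) (S : Finset ι), (∀ i ∈ S, τ i ∈ S) → S.card = a * t →
      ∃ (f : ι → ℕ) (σ : ℕ → ℕ), (∀ i ∈ S, f i < t ∧ f (τ i) = σ (f i)) ∧
        ∀ j < t, (σ j < t ∧ σ (σ j) = j) ∧ (S.filter fun i => f i = j).card = a := by
  intro t
  induction t using Nat.strong_induction_on with
  | _ t ih =>
    intro S hS hc
    rcases t with _ | t
    · exact ⟨fun _ => 0, id, fun i hi => by
        rw [mul_zero, Finset.card_eq_zero] at hc; simp [hc] at hi, fun j hj => absurd hj (by omega)⟩
    by_cases hfix : Even a ∨ ∃ i ∈ S, τ i = i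
    · obtain ⟨T, hT, hTi, hTc⟩ := exists_inv_subset hτ a S hS (by rw [hc, mul_add, mul_one]; omega) hfix
      have hTi' : ∀ i, i ∉ T → τ i ∉ T := fun i hi h => hi (by simpa [hτ i] using hTi _ h)
      obtain ⟨f, σ, hf, hσ⟩ := ih t (by omega) (S \ T)
        (fun i hi => Finset.mem_sdiff.2 ⟨hS i (Finset.mem_sdiff.1 hi).1, hTi' i (Finset.mem_sdiff.1 hi).2⟩)
        (by rw [Finset.card_sdiff_of_subset hT, hc, hTc, mul_add, mul_one]; omega)
      refine ⟨fun i => if i ∈ T then t else f i, fun j => if j = t then t else σ j, fun i hi => ?_, fun j hj => ?_⟩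
      · by_cases hiT : i ∈ T
        · simp [hiT, hTi i hiT]
        · have := hf i (Finset.mem_sdiff.2 ⟨hi, hiT⟩)
          simp only [hiT, hTi' i hiT, if_false]
          exact ⟨by omega, by rw [if_neg (by omega)]; exact this.2⟩
      · rcases eq_or_ne j t with rfl | hjt
        · refine ⟨by simp, ?_⟩
          convert hTc using 2
          ext i
          simp only [Finset.mem_filter]
          constructor
          · rintro ⟨hi, h⟩
            by_contra hiT
            rw [if_neg hiT] at h
            have := hf i (Finset.mem_sdiff.2 ⟨hi, hiT⟩)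
            omega
          · exact fun h => ⟨hT h, if_pos h⟩
        · have h := hσ j (by omega)
          refine ⟨⟨by simp only [hjt, if_false]; omega, by simp only [hjt, if_false, (show σ j ≠ t by omega)]; exact h.1.2⟩, ?_⟩
          convert h.2 using 2
          ext i
          by_cases hiT : i ∈ T <;> simp [hiT, Ne.symm hjt]
    · push Not at hfix
      obtain ⟨hodd, hfix⟩ := hfix
      rcases t with _ | t
      · exfalso
        obtain ⟨T, hT, hTd, hTc⟩ := exists_half hτ (S.card / 2) S hS hfix (by omega)
        have h2 : ∀ (k : ℕ) (U : Finset ι), U.card = k → (∀ i ∈ U, τ i ∈ U) → (∀ i ∈ U, τ i ≠ i) → Even k := by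
          intro k
          induction k using Nat.strong_induction_on with
          | _ k ih =>
            intro U hU h1 h2
            rcases U.eq_empty_or_nonempty with rfl | ⟨i, hi⟩
            · simp [← hU]
            · have hP : ({i, τ i} : Finset ι) ⊆ U := by simp [Finset.insert_subset_iff, hi, h1 i hi]
              have hp : ({i, τ i} : Finset ι).card = 2 := Finset.card_pair (Ne.symm (h2 i hi))
              have hle := Finset.card_le_card hP
              have := ih (k - 2) (by omega) (U \ {i, τ i}) (by rw [Finset.card_sdiff_of_subset hP, hp, hU])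
                (fun j hj => by
                  simp only [Finset.mem_sdiff, Finset.mem_insert, Finset.mem_singleton, not_or] at hj ⊢
                  exact ⟨h1 j hj.1, fun e => hj.2.2 (by rw [← hτ j, e]), fun e => hj.2.1 (hτ.injective e)⟩)
                (fun j hj => h2 j (Finset.mem_sdiff.1 hj).1)
              obtain ⟨r, hr⟩ := this
              exact ⟨r + 1, by omega⟩
        have := h2 _ S rfl hS hfix
        rw [hc] at this
        exact hodd (by simpa using this)
      · obtain ⟨T, hT, hTd, hTc⟩ := exists_half hτ a S hS hfix (by rw [hc]; nlinarith)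
        set T' := T.image τ with hT'
        have hT'c : T'.card = a := by rw [hT', Finset.card_image_of_injective _ hτ.injective, hTc]
        have hT'S : T' ⊆ S := fun i hi => by
          obtain ⟨l, hl, rfl⟩ := Finset.mem_image.1 hi; exact hS l (hT hl)
        have hmem : ∀ i, i ∈ T' ↔ τ i ∈ T := fun i => by
          rw [hT', Finset.mem_image]
          exact ⟨fun ⟨l, hl, e⟩ => by rw [← e, hτ l]; exact hl, fun h => ⟨_, h, hτ i⟩⟩
        have hsub : T ∪ T' ⊆ S := Finset.union_subset hT hT'S
        obtain ⟨f, σ, hf, hσ⟩ := ih t (by omega) (S \ (T ∪ T'))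
          (fun i hi => by
            simp only [Finset.mem_sdiff, Finset.mem_union, hmem, hτ i, not_or] at hi ⊢
            exact ⟨hS i hi.1, hi.2.2, hi.2.1⟩)
          (by rw [Finset.card_sdiff_of_subset hsub, Finset.card_union_of_disjoint hTd, hc, hTc, hT'c]
              rw [mul_add, mul_add, mul_one]; omega)
        refine ⟨fun i => if i ∈ T then t else if i ∈ T' then t + 1 else f i,
          fun j => if j = t then t + 1 else if j = t + 1 then t else σ j, fun i hi => ?_, fun j hj => ?_⟩
        · by_cases hiT : i ∈ T
          · have h1 : τ i ∈ T' := Finset.mem_image_of_mem _ hiT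
            have h2 : τ i ∉ T := fun h => Finset.disjoint_left.1 hTd h h1
            simp [hiT, h1, h2]
          · by_cases hiT' : i ∈ T'
            · simp [hiT, hiT', (hmem i).1 hiT']
            · have h1 : τ i ∉ T' := fun h => hiT (by simpa [hτ i] using (hmem _).1 h)
              have h2 : τ i ∉ T := fun h => hiT' ((hmem i).2 h)
              have := hf i (by simp [hi, hiT, hiT'])
              simp only [hiT, hiT', h1, h2, if_false]
              exact ⟨by omega, by rw [if_neg (by omega), if_neg (by omega)]; exact this.2⟩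
        · rcases eq_or_ne j t with rfl | hjt
          · refine ⟨by simp, ?_⟩
            convert hTc using 2
            ext i
            simp only [Finset.mem_filter]
            constructor
            · rintro ⟨hi, h⟩
              by_contra hiT
              rw [if_neg hiT] at h
              by_cases hiT' : i ∈ T'
              · rw [if_pos hiT'] at h; omega
              · rw [if_neg hiT'] at h
                have := hf i (by simp [hi, hiT, hiT'])
                omega
            · exact fun h => ⟨hT h, if_pos h⟩
          rcases eq_or_ne j (t + 1) with rfl | hjt1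
          · refine ⟨by simp, ?_⟩
            convert hT'c using 2
            ext i
            simp only [Finset.mem_filter]
            constructor
            · rintro ⟨hi, h⟩
              by_contra hiT'
              by_cases hiT : i ∈ T
              · rw [if_pos hiT] at h; omega
              · rw [if_neg hiT, if_neg hiT'] at h
                have := hf i (by simp [hi, hiT, hiT'])
                omega
            · exact fun h => ⟨hT'S h, by rw [if_neg (fun h' => Finset.disjoint_left.1 hTd h' h), if_pos h]⟩
          · have h := hσ j (by omega)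
            refine ⟨⟨by simp only [hjt, hjt1, if_false]; omega, by
              simp only [hjt, hjt1, if_false, (show σ j ≠ t by omega), (show σ j ≠ t + 1 by omega)]; exact h.1.2⟩, ?_⟩
            convert h.2 using 2
            ext i
            by_cases hiT : i ∈ T <;> by_cases hiT' : i ∈ T' <;> simp [hiT, hiT', Ne.symm hjt, Ne.symm hjt1]

/-- An involution of a set of `a * t` points permutes the blocks of some partition into `t` blocks of size `a`. -/
theorem exists_packing [Fintype ι] [DecidableEq ι] {τ : ι → ι} (hτ : Function.Involutive τ) {a t : ℕ} (ha : 0 < a)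
    (hc : Fintype.card ι = a * t) :
    ∃ (f : ι → Fin t) (σ : Equiv.Perm (Fin t)), (∀ i, f (τ i) = σ (f i)) ∧
      ∀ j, (Finset.univ.filter fun i => f i = j).card = a := by
  obtain ⟨f, σ, hf, hσ⟩ := exists_packing_aux hτ ha t Finset.univ (fun _ _ => Finset.mem_univ _) (by simpa using hc)
  let σ' : Fin t → Fin t := fun j => ⟨σ j, (hσ j j.2).1.1⟩
  have hσ' : Function.Involutive σ' := fun j => Fin.ext (hσ j j.2).1.2
  refine ⟨fun i => ⟨f i, (hf i (Finset.mem_univ _)).1⟩, hσ'.toPerm σ', fun i => Fin.ext (hf i (Finset.mem_univ _)).2,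
    fun j => ?_⟩
  rw [← (hσ j j.2).2]
  congr 1
  ext i
  simp [Fin.ext_iff]

variable {F V : Type*} [Field F] [AddCommGroup V] [Module F V]

/-- A basis monomial for `g` gives a decomposition permuted by `g`. -/
theorem exists_decomp [Fintype ι] [DecidableEq ι] (b : Module.Basis ι F V) {g : V →ₗ[F] V}
    (hg : Function.Injective g) {τ : ι → ι} (hτ : Function.Involutive τ)
    (hb : ∀ i, g (b i) ∈ Submodule.span F {b (τ i)}) {a t : ℕ} (ha : 0 < a) (hc : Fintype.card ι = a * t) :
    ∃ D : Fin t → Submodule F V, (∀ j, Module.finrank F (D j) = a) ∧ iSupIndep D ∧ iSup D = ⊤ ∧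
      ∃ σ : Equiv.Perm (Fin t), ∀ j, (D j).map g = D (σ j) := by
  haveI := Module.Finite.of_basis b
  obtain ⟨f, σ, hf, hcard⟩ := exists_packing hτ ha hc
  let D : Fin t → Submodule F V := fun j => Submodule.span F (b '' {i | f i = j})
  have hD : ∀ j, Module.finrank F (D j) = a := fun j => by
    show Module.finrank F (Submodule.span F (b '' {i | f i = j})) = a
    rw [Set.image_eq_range]
    refine (finrank_span_eq_card ?_).trans ?_
    · exact b.linearIndependent.comp Subtype.val Subtype.val_injective
    · rw [← hcard j, Fintype.card_ofFinset]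
      congr 1
  refine ⟨D, hD, fun j => ?_, ?_, σ, fun j => ?_⟩
  · refine (b.linearIndependent.disjoint_span_image (s := {i | f i = j}) (t := {i | f i ≠ j}) ?_).mono_right ?_
    · exact Set.disjoint_left.2 fun i h h' => h' h
    · refine iSup₂_le fun k hk => Submodule.span_mono (Set.image_mono fun i hi => ?_)
      exact fun e => hk (hi.symm.trans e)
  · rw [eq_top_iff, ← b.span_eq, Submodule.span_le]
    rintro _ ⟨i, rfl⟩
    exact (le_iSup D (f i)) (Submodule.subset_span ⟨i, rfl, rfl⟩)
  · refine Submodule.eq_of_le_of_finrank_eq ?_ ?_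
    · rw [Submodule.map_span_le]
      rintro _ ⟨i, hi, rfl⟩
      refine Submodule.span_mono ?_ (hb i)
      exact Set.singleton_subset_iff.2 ⟨τ i, (hf i).trans (congrArg σ hi), rfl⟩
    · rw [← (Submodule.equivMapOfInjective g hg (D j)).finrank_eq, hD, hD]

/-- Extending a family of pairs. -/
theorem exists_pairs [FiniteDimensional F V] {g : V →ₗ[F] V} {z : F} (hz : ¬ IsSquare z) (hg : ∀ v, g (g v) = z • v) :
    ∀ k : ℕ, ∃ (j : ℕ) (v : Fin j → V), LinearIndependent F (Sum.elim v (g ∘ v)) ∧
      (k ≤ j ∨ Submodule.span F (Set.range (Sum.elim v (g ∘ v))) = ⊤)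
  | 0 => ⟨0, Fin.elim0, linearIndependent_empty_type, Or.inl le_rfl⟩
  | k + 1 => by
    obtain ⟨j, v, hli, h⟩ := exists_pairs hz hg k
    by_cases htop : Submodule.span F (Set.range (Sum.elim v (g ∘ v))) = ⊤
    · exact ⟨j, v, hli, Or.inr htop⟩
    set W := Submodule.span F (Set.range (Sum.elim v (g ∘ v))) with hW
    have hgW : ∀ x ∈ W, g x ∈ W := by
      intro x hx
      induction hx using Submodule.span_induction with
      | mem x hx =>
        obtain ⟨s, rfl⟩ := hx
        cases s with
        | inl i => exact Submodule.subset_span ⟨Sum.inr i, rfl⟩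
        | inr i =>
          show g (g (v i)) ∈ W
          rw [hg]
          exact W.smul_mem _ (Submodule.subset_span ⟨Sum.inl i, rfl⟩)
      | zero => simp
      | add a b _ _ ha hb => rw [map_add]; exact W.add_mem ha hb
      | smul c a _ ha => rw [map_smul]; exact W.smul_mem _ ha
    obtain ⟨u, -, hu⟩ := SetLike.exists_of_lt (lt_top_iff_ne_top.2 htop)
    set v' : Fin (j + 1) → V := Fin.cons u v
    set W' := Submodule.span F (Set.range (Sum.elim v' (g ∘ v')))
    have hu1 : u ∈ W' := Submodule.subset_span ⟨Sum.inl 0, rfl⟩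
    have hu2 : g u ∈ W' := Submodule.subset_span ⟨Sum.inr 0, rfl⟩
    have hWW : W ≤ W' := by
      rw [hW, Submodule.span_le]
      rintro _ ⟨(i | i), rfl⟩
      · exact Submodule.subset_span ⟨Sum.inl i.succ, rfl⟩
      · exact Submodule.subset_span ⟨Sum.inr i.succ, rfl⟩
    have hgu : g u ∉ W ⊔ Submodule.span F {u} := by
      intro hmem
      obtain ⟨w, hw, x, hx, e⟩ := Submodule.mem_sup.1 hmem
      obtain ⟨c, rfl⟩ := Submodule.mem_span_singleton.1 hx
      refine hz ⟨c, ?_⟩
      by_contra hne
      have e2 : (z - c * c) • u = g w + c • w := by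
        have h1 := congrArg g e
        rw [map_add, map_smul, hg, ← e, smul_add, smul_smul] at h1
        rw [sub_smul, ← h1]; abel
      have h3 : (z - c * c) • u ∈ W := e2 ▸ W.add_mem (hgW w hw) (W.smul_mem c hw)
      exact hu ((W.smul_mem_iff (sub_ne_zero.2 hne)).1 h3)
    have h1 : Module.finrank F W < Module.finrank F ↥(W ⊔ Submodule.span F {u}) :=
      Submodule.finrank_lt_finrank_of_lt (lt_of_le_of_ne le_sup_left fun e =>
        hu (e.symm ▸ Submodule.mem_sup_right (Submodule.mem_span_singleton_self u)))
    have h2 : Module.finrank F ↥(W ⊔ Submodule.span F {u}) < Module.finrank F W' :=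
      Submodule.finrank_lt_finrank_of_lt (lt_of_le_of_ne
        (sup_le hWW (by rw [Submodule.span_le, Set.singleton_subset_iff]; exact hu1)) fun e => hgu (e.symm ▸ hu2))
    have h3 : Module.finrank F W = j + j := by
      rw [hW, finrank_span_eq_card hli, Fintype.card_sum, Fintype.card_fin]
    refine ⟨j + 1, v', linearIndependent_iff_card_le_finrank_span.2 ?_, Or.inl ?_⟩
    · rw [Fintype.card_sum, Fintype.card_fin]
      show _ ≤ Module.finrank F W'
      omega
    · rcases h with h | h
      · omega
      · exact absurd h htop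

/-- A map squaring to a non-zero scalar is monomial for an involution in some basis. -/
theorem exists_monomial_basis [FiniteDimensional F V] {g : V →ₗ[F] V} {z : F} (hg : ∀ v, g (g v) = z • v) :
    ∃ (ι : Type) (_ : Fintype ι) (_ : DecidableEq ι) (b : Module.Basis ι F V) (τ : ι → ι),
      Function.Involutive τ ∧ ∀ i, g (b i) ∈ Submodule.span F {b (τ i)} := by
  by_cases hz : IsSquare z
  swap
  · obtain ⟨j, v, hli, h⟩ := exists_pairs hz hg (Module.finrank F V + 1)
    have htop := h.resolve_left fun hj => by
      have := hli.fintype_card_le_finrank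
      rw [Fintype.card_sum, Fintype.card_fin] at this
      omega
    refine ⟨Fin j ⊕ Fin j, inferInstance, inferInstance, Module.Basis.mk hli htop.ge, Sum.swap, Sum.swap_swap,
      fun i => ?_⟩
    rw [Module.Basis.mk_apply, Module.Basis.mk_apply, Submodule.mem_span_singleton]
    rcases i with i | i
    · exact ⟨1, by simp⟩
    · exact ⟨z, by simp [hg]⟩
  obtain ⟨s, rfl⟩ := hz
  by_cases h2 : s + s = 0
  · -- `g - s` squares to zero
    set N : V →ₗ[F] V := g - s • LinearMap.id
    have hN : ∀ v, N v = g v - s • v := fun v => rfl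
    have hNN : ∀ v, N (N v) = 0 := fun v => by
      rw [hN, hN, map_sub, map_smul, hg, smul_sub, smul_smul,
        show (s * s) • v - s • g v - (s • g v - (s * s) • v) = (s + s) • (s • v - g v) by
          rw [add_smul, smul_sub, smul_smul]; abel, h2, zero_smul]
    set R := LinearMap.range N
    let bR := Module.finBasis F R
    have hRK : R ≤ LinearMap.ker N := by
      rintro _ ⟨v, rfl⟩; exact hNN v
    obtain ⟨C, hC⟩ := Submodule.exists_isCompl (R.comap (LinearMap.ker N).subtype)
    let bC := Module.finBasis F C
    choose v hv using fun i => (bR i).2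
    let fam : (Fin (Module.finrank F R) ⊕ Fin (Module.finrank F R)) ⊕ Fin (Module.finrank F C) → V :=
      Sum.elim (Sum.elim v (g ∘ v)) fun i => ((bC i : LinearMap.ker N) : V)
    set S := Submodule.span F (Set.range fam)
    have hv' : ∀ i, v i ∈ S := fun i => Submodule.subset_span ⟨Sum.inl (Sum.inl i), rfl⟩
    have hR : R ≤ S := by
      intro x hx
      have := bR.sum_repr ⟨x, hx⟩
      rw [← show ((∑ i, bR.repr ⟨x, hx⟩ i • bR i : R) : V) = x from congrArg Subtype.val this,
        Submodule.coe_sum]
      refine Submodule.sum_mem _ fun i _ => ?_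
      rw [Submodule.coe_smul, ← hv i, hN]
      exact S.smul_mem _ (S.sub_mem (Submodule.subset_span ⟨Sum.inl (Sum.inr i), rfl⟩) (S.smul_mem _ (hv' i)))
    have hK : LinearMap.ker N ≤ S := by
      intro x hx
      have hmem : (⟨x, hx⟩ : LinearMap.ker N) ∈ R.comap (LinearMap.ker N).subtype ⊔ C := by
        rw [hC.sup_eq_top]; trivial
      obtain ⟨r, hr, c, hc, e⟩ := Submodule.mem_sup.1 hmem
      rw [← show ((r : V) + (c : V)) = x from congrArg Subtype.val e]
      refine S.add_mem (hR hr) ?_
      have := bC.sum_repr ⟨c, hc⟩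
      rw [← show (((∑ i, bC.repr ⟨c, hc⟩ i • bC i : C) : LinearMap.ker N) : V) = (c : V) from
        congrArg (fun y : C => ((y : LinearMap.ker N) : V)) this]
      simp only [Submodule.coe_sum, Submodule.coe_smul]
      exact Submodule.sum_mem _ fun i _ => S.smul_mem _ (Submodule.subset_span ⟨Sum.inr i, rfl⟩)
    have htop : S = ⊤ := by
      rw [eq_top_iff]
      intro y _
      have hy : y - ∑ i, bR.repr ⟨N y, LinearMap.mem_range_self N y⟩ i • v i ∈ LinearMap.ker N := by
        rw [LinearMap.mem_ker, map_sub, map_sum, sub_eq_zero]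
        conv_lhs => rw [show N y = ((⟨N y, LinearMap.mem_range_self N y⟩ : R) : V) from rfl,
          ← bR.sum_repr ⟨N y, LinearMap.mem_range_self N y⟩, Submodule.coe_sum]
        exact Finset.sum_congr rfl fun i _ => by rw [map_smul, hv i, Submodule.coe_smul]
      have := S.add_mem (hK hy) (Submodule.sum_mem S (t := Finset.univ) fun i _ =>
        S.smul_mem (bR.repr ⟨N y, LinearMap.mem_range_self N y⟩ i) (hv' i))
      rwa [sub_add_cancel] at this
    have hcard : Fintype.card ((Fin (Module.finrank F R) ⊕ Fin (Module.finrank F R)) ⊕ Fin (Module.finrank F C)) =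
        Module.finrank F V := by
      simp only [Fintype.card_sum, Fintype.card_fin]
      have h1 := Submodule.finrank_add_eq_of_isCompl hC
      have h1' : Module.finrank F R + Module.finrank F C = Module.finrank F (LinearMap.ker N) := by
        rw [← (Submodule.comapSubtypeEquivOfLe hRK).finrank_eq]; exact h1
      have h3 := N.finrank_range_add_finrank_ker
      show Module.finrank F R + Module.finrank F R + _ = _
      have h3' : Module.finrank F R + Module.finrank F (LinearMap.ker N) = Module.finrank F V := h3
      omega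
    have hli : LinearIndependent F fam := linearIndependent_of_top_le_span_of_card_eq_finrank htop.ge hcard
    refine ⟨_, inferInstance, inferInstance, Module.Basis.mk hli htop.ge, Sum.map Sum.swap id,
      fun i => by rcases i with (i | i) | i <;> rfl, fun i => ?_⟩
    rw [Module.Basis.mk_apply, Module.Basis.mk_apply, Submodule.mem_span_singleton]
    rcases i with (i | i) | i
    · exact ⟨1, by simp [fam]⟩
    · exact ⟨s * s, by simp [fam, hg]⟩
    · refine ⟨s, ?_⟩
      show s • ((bC i : LinearMap.ker N) : V) = g ((bC i : LinearMap.ker N) : V)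
      exact (sub_eq_zero.1 ((hN _).symm.trans (LinearMap.mem_ker.1 (bC i : LinearMap.ker N).2))).symm
  · -- semisimple case
    have hc : IsCompl (LinearMap.ker (g - s • LinearMap.id)) (LinearMap.ker (g + s • LinearMap.id)) := by
      constructor
      · rw [Submodule.disjoint_def]
        intro x h1 h3
        simp only [LinearMap.mem_ker, LinearMap.sub_apply, LinearMap.add_apply, LinearMap.smul_apply,
          LinearMap.id_coe, id_eq] at h1 h3
        have : (s + s) • x = 0 := by
          rw [add_smul, show s • x + s • x = (g x + s • x) - (g x - s • x) by abel, h1, h3, sub_zero]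
        exact (smul_eq_zero.1 this).resolve_left h2
      · rw [codisjoint_iff, eq_top_iff]
        intro x _
        rw [show x = (s + s)⁻¹ • (g x + s • x) + (-(s + s)⁻¹) • (g x - s • x) by
          rw [neg_smul, ← sub_eq_add_neg, ← smul_sub, show g x + s • x - (g x - s • x) = (s + s) • x by
            rw [add_smul]; abel, smul_smul, inv_mul_cancel₀ h2, one_smul]]
        refine Submodule.add_mem_sup (Submodule.smul_mem _ _ ?_) (Submodule.smul_mem _ _ ?_) <;>
          simp only [LinearMap.mem_ker, LinearMap.sub_apply, LinearMap.add_apply, LinearMap.smul_apply,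
            LinearMap.id_coe, id_eq, map_add, map_sub, map_smul, hg, smul_add, smul_sub, smul_smul] <;> abel
    refine ⟨_, inferInstance, inferInstance, ((Module.finBasis F _).prod (Module.finBasis F _)).map
      (Submodule.prodEquivOfIsCompl _ _ hc), id, fun _ => rfl, fun i => ?_⟩
    rw [id_eq, Submodule.mem_span_singleton]
    rcases i with i | i
    · refine ⟨s, ?_⟩
      have h := (Module.finBasis F (LinearMap.ker (g - s • LinearMap.id)) i).2
      simp only [LinearMap.mem_ker, LinearMap.sub_apply, LinearMap.smul_apply, LinearMap.id_coe, id_eq,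
        sub_eq_zero] at h
      simpa using h.symm
    · refine ⟨-s, ?_⟩
      have h := (Module.finBasis F (LinearMap.ker (g + s • LinearMap.id)) i).2
      simp only [LinearMap.mem_ker, LinearMap.add_apply, LinearMap.smul_apply, LinearMap.id_coe, id_eq,
        add_eq_zero_iff_eq_neg] at h
      simpa using h.symm

end Cfsg.Agent.InvolutionDecomp
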