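import Cfsg.Agent.Lib.Classical.QuadModels
import Cfsg.Agent.Lib.Classical.AschEven
import Cfsg.Agent.Lib.Classical.InvolutionDecomp
import Cfsg.Prelude.Def_GeometricClasses

/-! Elements of `GL` conjugate to similitudes of a quadratic form in odd characteristic. -/

set_option autoImplicit false
set_option linter.unusedSectionVars false

namespace Cfsg.Agent.OrthSimilitudeDerange

open Matrix Module Cfsg.Agent.Classical

variable {F : Type*} [Field F] [Fintype F] {n : ℕ}

/-- A symmetric matrix with the right discriminant is the Gram matrix of `Q` in some coordinates. -/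
theorem transfer (h2 : (2 : F) ≠ 0) (Q : QuadraticForm F (Fin n → F)) (hQ : (QuadraticMap.polarBilin Q).Nondegenerate)
    {ι : Type} [Fintype ι] [DecidableEq ι] (hι : Fintype.card ι = n) (A S : Matrix ι ι F) {c : F}
    (hS : Sᵀ = S) (hA : Aᵀ * S * A = c • S)
    (hD : S.det = gramDet (QuadraticMap.polarBilin Q) (Pi.basisFun F (Fin n))) :
    ∃ L : (ι → F) ≃ₗ[F] (Fin n → F), ∀ w, Q (L (A *ᵥ w)) = c * Q (L w) := by
  let R : QuadraticForm F (ι → F) := LinearMap.BilinMap.toQuadraticMap (Matrix.toBilin' ((2 : F)⁻¹ • S))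
  have hR : ∀ v, R v = (2 : F)⁻¹ * (v ⬝ᵥ (S *ᵥ v)) := fun v => by
    rw [LinearMap.BilinMap.toQuadraticMap_apply, Matrix.toBilin'_apply', smul_mulVec, dotProduct_smul, smul_eq_mul]
  have hsym : ∀ u v, v ⬝ᵥ (S *ᵥ u) = u ⬝ᵥ (S *ᵥ v) := fun u v => by
    rw [dotProduct_mulVec, ← mulVec_transpose, hS, dotProduct_comm]
  have hpol : ∀ u v, QuadraticMap.polar ⇑R u v = u ⬝ᵥ (S *ᵥ v) := fun u v => by
    rw [QuadraticMap.polar, hR, hR, hR, mulVec_add, add_dotProduct, dotProduct_add, dotProduct_add, hsym u v]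
    field_simp
    ring
  have hg : gramDet (QuadraticMap.polarBilin R) (Pi.basisFun F ι) = S.det := by
    rw [gramDet_eq_of]
    congr 1
    ext i j
    simp [hpol]
  have hRn : (QuadraticMap.polarBilin R).Nondegenerate := by
    refine (LinearMap.BilinForm.nondegenerate_iff_det_ne_zero (Pi.basisFun F ι)).2 ?_
    show gramDet (QuadraticMap.polarBilin R) (Pi.basisFun F ι) ≠ 0
    rw [hg, hD]
    exact gramDet_ne_zero hQ _
  obtain ⟨L, hL⟩ := (isometric_iff_disc h2 hRn hQ (Pi.basisFun F ι) (Pi.basisFun F (Fin n))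
    (by rw [hι, Fintype.card_fin])).2 ⟨_, by rw [hg, hD]⟩
  refine ⟨L, fun w => ?_⟩
  rw [hL, hL, hR, hR, mulVec_mulVec, dotProduct_comm, ← dotProduct_transpose_mulVec, mulVec_mulVec, ← mul_assoc, hA,
    smul_mulVec, dotProduct_smul, smul_eq_mul, mul_left_comm]

/-- A conjugate by a matrix of determinant one lands in the similitudes. -/
theorem conj_into (h2 : (2 : F) ≠ 0) (Q : QuadraticForm F (Fin n → F)) (hQ : (QuadraticMap.polarBilin Q).Nondegenerate)
    {ι : Type} [Fintype ι] [DecidableEq ι] (x : GL (Fin n) F) (P : (ι → F) ≃ₗ[F] (Fin n → F)) (A S : Matrix ι ι F)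
    (hx : ∀ v, (x : Matrix (Fin n) (Fin n) F) *ᵥ P v = P (A *ᵥ v)) {c : F} (hc : c ≠ 0)
    (hS : Sᵀ = S) (hA : Aᵀ * S * A = c • S)
    (hD : S.det = gramDet (QuadraticMap.polarBilin Q) (Pi.basisFun F (Fin n)))
    (hC : ∀ d : F, d ≠ 0 → ∃ C : Matrix ι ι F, C.det = d ∧ A * C = C * A) :
    ∃ g ∈ Geo.specialLinear (Fin n) F, g⁻¹ * x * g ∈ Geo.quadSimilarityGroup ⇑Q := by
  have hι : Fintype.card ι = n := by
    have h := P.finrank_eq
    rwa [Module.finrank_fintype_fun_eq_card, Module.finrank_fin_fun] at h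
  obtain ⟨L, hL⟩ := transfer h2 Q hQ hι A S hS hA hD
  have hd : LinearMap.det ((L.symm.trans P : (Fin n → F) ≃ₗ[F] (Fin n → F)) : (Fin n → F) →ₗ[F] (Fin n → F)) ≠ 0 :=
    (LinearEquiv.isUnit_det' _).ne_zero
  obtain ⟨C, hCd, hAC⟩ := hC _ (inv_ne_zero hd)
  let h : (Fin n → F) →ₗ[F] (Fin n → F) :=
    ((L.symm.trans P : (Fin n → F) ≃ₗ[F] (Fin n → F)) : (Fin n → F) →ₗ[F] (Fin n → F)).comp
      (((L : (ι → F) →ₗ[F] (Fin n → F)).comp (Matrix.toLin' C)).comp (L.symm : (Fin n → F) →ₗ[F] (ι → F)))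
  have hdet : (LinearMap.toMatrix' h).det = 1 := by
    rw [LinearMap.det_toMatrix', LinearMap.det_comp, LinearMap.comp_assoc, LinearMap.det_conj, LinearMap.det_toLin', hCd, mul_inv_cancel₀ hd]
  obtain ⟨g, hgv⟩ : ∃ g : GL (Fin n) F, (g : Matrix (Fin n) (Fin n) F) = LinearMap.toMatrix' h :=
    ⟨Matrix.GeneralLinearGroup.mkOfDetNeZero _ (by rw [hdet]; exact one_ne_zero), rfl⟩
  refine ⟨g, ?_, Units.mk0 c hc, fun v => ?_⟩
  · show Matrix.GeneralLinearGroup.det g = 1
    refine Units.ext ?_
    show (g : Matrix (Fin n) (Fin n) F).det = 1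
    rw [hgv, hdet]
  have hgw : ∀ w, (g : Matrix (Fin n) (Fin n) F) *ᵥ w = P (C *ᵥ L.symm w) := fun w => by
    rw [hgv, ← Matrix.toLin'_apply, Matrix.toLin'_toMatrix']
    simp [h]
  have key : (x : Matrix (Fin n) (Fin n) F) *ᵥ ((g : Matrix (Fin n) (Fin n) F) *ᵥ v) =
      (g : Matrix (Fin n) (Fin n) F) *ᵥ L (A *ᵥ L.symm v) := by
    rw [hgw, hgw, LinearEquiv.symm_apply_apply, hx, mulVec_mulVec, mulVec_mulVec, hAC]
  have hval : ((g⁻¹ * x * g : GL (Fin n) F) : Matrix (Fin n) (Fin n) F) *ᵥ v = L (A *ᵥ L.symm v) := by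
    rw [Units.val_mul, Units.val_mul, ← mulVec_mulVec, ← mulVec_mulVec, key, mulVec_mulVec, ← Units.val_mul,
      inv_mul_cancel, Units.val_one, one_mulVec]
  show Q (((g⁻¹ * x * g : GL (Fin n) F) : Matrix (Fin n) (Fin n) F) *ᵥ v) = c * Q v
  rw [hval, hL, LinearEquiv.apply_symm_apply]

/-- Semisimple split matrices are diagonalisable. -/
theorem exists_eigencoords (X : Matrix (Fin n) (Fin n) F) (hX : X ^ Fintype.card F = X) :
    ∃ (lam : Fin n → F) (P : (Fin n → F) ≃ₗ[F] (Fin n → F)), ∀ v, X *ᵥ P v = P (Matrix.diagonal lam *ᵥ v) := by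
  classical
  set f := Matrix.toLinAlgEquiv' X
  have hf : f ^ Fintype.card F = f := by rw [← map_pow, hX]
  have key : ∀ S : Finset F, (⨆ a ∈ S, Module.End.eigenspace f a) =
      LinearMap.ker (Polynomial.aeval f (∏ a ∈ S, (Polynomial.X - Polynomial.C a))) := fun S => by
    induction S using Finset.induction_on with
    | empty => simp [Module.End.one_eq_id]
    | @insert a S ha ih =>
      rw [Finset.iSup_insert, Finset.prod_insert ha, ih,
        show Module.End.eigenspace f a = LinearMap.ker (Polynomial.aeval f (Polynomial.X - Polynomial.C a)) by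
          rw [Module.End.eigenspace_def, map_sub, Polynomial.aeval_X, Polynomial.aeval_C, Algebra.algebraMap_eq_smul_one]]
      exact Polynomial.sup_ker_aeval_eq_ker_aeval_mul_of_coprime f
        (IsCoprime.prod_right fun b hb => Polynomial.isCoprime_X_sub_C_of_isUnit_sub
          (sub_ne_zero.2 fun h => ha (by rw [h]; exact hb)).isUnit)
  have htop : (⨆ a, Module.End.eigenspace f a) = ⊤ := by
    have h := key Finset.univ
    simp only [Finset.mem_univ, iSup_pos] at h
    have hp : (∏ a : F, (Polynomial.X - Polynomial.C a)) = Polynomial.X ^ Fintype.card F - Polynomial.X := by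
      have hm := FiniteField.X_pow_card_sub_X_natDegree_eq F (p := Fintype.card F) Fintype.one_lt_card
      refine Polynomial.prod_multiset_X_sub_C_of_monic_of_roots_card_eq
        (p := Polynomial.X ^ Fintype.card F - Polynomial.X) ?_ ?_ |>.symm.trans ?_ |>.symm
      · exact Polynomial.monic_X_pow_sub (by rw [Polynomial.degree_X]; exact_mod_cast Fintype.one_lt_card)
      · rw [FiniteField.roots_X_pow_card_sub_X, hm, ← Finset.card_def, Finset.card_univ]
      · rw [FiniteField.roots_X_pow_card_sub_X]; rfl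
    rw [h, hp, map_sub, map_pow, Polynomial.aeval_X, hf, sub_self,
      LinearMap.ker_zero]
  have hint := DirectSum.isInternal_submodule_of_iSupIndep_of_iSup_eq_top (Module.End.eigenspaces_iSupIndep f) htop
  let B := hint.collectedBasis fun a => Module.finBasis F (Module.End.eigenspace f a)
  let e := Fintype.equivFinOfCardEq (show Fintype.card (Σ a, Fin (finrank F (Module.End.eigenspace f a))) = n by
    rw [← Module.finrank_eq_card_basis B, Module.finrank_fin_fun])
  let b := B.reindex e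
  refine ⟨fun i => (e.symm i).1, b.equivFun.symm, fun v => ?_⟩
  have hb : ∀ i, f (b i) = (e.symm i).1 • b i := fun i => by
    rw [Module.Basis.reindex_apply]
    exact Module.End.mem_eigenspace_iff.1 (hint.collectedBasis_mem _ _)
  show f (b.equivFun.symm v) = _
  rw [Module.Basis.equivFun_symm_apply, Module.Basis.equivFun_symm_apply, map_sum]
  refine Finset.sum_congr rfl fun i _ => ?_
  rw [map_smul, hb, smul_smul, mulVec_diagonal, mul_comm]

/-- Diagonal matrices with eigenvalues in pairs of equal product. -/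
theorem conj_diag (h2 : (2 : F) ≠ 0) (Q : QuadraticForm F (Fin n → F)) (hQ : (QuadraticMap.polarBilin Q).Nondegenerate)
    (x : GL (Fin n) F) (P : (Fin n → F) ≃ₗ[F] (Fin n → F)) (lam : Fin n → F)
    (hx : ∀ v, (x : Matrix (Fin n) (Fin n) F) *ᵥ P v = P (Matrix.diagonal lam *ᵥ v))
    (σ : Equiv.Perm (Fin n)) (hσ : ∀ i, σ (σ i) = i) (i₀ : Fin n) (h₀ : σ i₀ = i₀) {c : F} (hc : c ≠ 0)
    (hlam : ∀ i, lam i * lam (σ i) = c) :
    ∃ g ∈ Geo.specialLinear (Fin n) F, g⁻¹ * x * g ∈ Geo.quadSimilarityGroup ⇑Q := by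
  classical
  set D := gramDet (QuadraticMap.polarBilin Q) (Pi.basisFun F (Fin n))
  let s : F := ((Equiv.Perm.sign σ : ℤ) : F)
  let d : Fin n → F := Function.update 1 i₀ (D * s)
  have hds : ∀ i, d (σ i) = d i := fun i => by
    by_cases hi : i = i₀
    · rw [hi, h₀]
    · have : σ i ≠ i₀ := fun h => hi (σ.injective (h.trans h₀.symm))
      simp [d, Function.update_of_ne hi, Function.update_of_ne this]
  refine conj_into h2 Q hQ x P (Matrix.diagonal lam) (Matrix.diagonal d * σ.permMatrix F) hx hc ?_ ?_ ?_ fun t ht => ?_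
  · ext i j
    simp only [transpose_apply, diagonal_mul, PEquiv.toMatrix_apply, Equiv.toPEquiv_apply, Equiv.Perm.permMatrix,
      Option.mem_def, Option.some.injEq, mul_ite, mul_one, mul_zero]
    by_cases h : σ i = j
    · subst h; rw [if_pos (hσ i), if_pos rfl, hds]
    · rw [if_neg (fun h' => h (by rw [← h', hσ])), if_neg h]
  · ext i j
    rw [diagonal_transpose, mul_diagonal, Matrix.smul_apply, smul_eq_mul, diagonal_mul, diagonal_mul]
    simp only [PEquiv.toMatrix_apply, Equiv.toPEquiv_apply, Equiv.Perm.permMatrix, Option.mem_def, Option.some.injEq]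
    by_cases h : σ i = j
    · subst h; rw [if_pos rfl, ← hlam i]; ring
    · rw [if_neg h]; ring
  · rw [det_mul, det_diagonal, Matrix.det_permutation, Finset.prod_update_of_mem (Finset.mem_univ i₀)]
    simp only [Pi.one_apply, Finset.prod_const_one, mul_one]
    show D * s * s = D
    rw [mul_assoc, ← Int.cast_mul, ← Units.val_mul, Int.units_mul_self, Units.val_one, Int.cast_one, mul_one]
  · refine ⟨Matrix.diagonal (Function.update 1 i₀ t), ?_, ?_⟩
    · rw [det_diagonal, Finset.prod_update_of_mem (Finset.mem_univ i₀)]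
      simp
    · rw [diagonal_mul_diagonal, diagonal_mul_diagonal]
      exact congrArg _ (funext fun i => mul_comm _ _)

/-- Every value is `z a² - b²`. -/
theorem exists_plane (h2 : (2 : F) ≠ 0) {z : F} (hz : z ≠ 0) (t : F) : ∃ a b : F, z * (a * a) - b * b = t := by
  have hc : ringChar F ≠ 2 := fun hc => h2 (by exact_mod_cast (ringChar.spec F 2).2 (by rw [hc]))
  obtain ⟨a, b, hab⟩ := FiniteField.exists_root_sum_quadratic (R := F)
    (f := Polynomial.C z * Polynomial.X ^ 2) (g := Polynomial.C (-1) * Polynomial.X ^ 2 - Polynomial.C t)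
    (Polynomial.degree_C_mul_X_pow 2 hz)
    (by
      rw [Polynomial.degree_sub_C (by rw [Polynomial.degree_C_mul_X_pow 2 (neg_ne_zero.2 one_ne_zero)]; decide)]
      exact Polynomial.degree_C_mul_X_pow 2 (neg_ne_zero.2 one_ne_zero))
    (FiniteField.odd_card_of_char_ne_two hc)
  simp at hab
  exact ⟨a, b, by linear_combination hab⟩

/-- An element squaring to a non-square scalar is conjugate to a similitude. -/
theorem conj_nonsquare (h2 : (2 : F) ≠ 0) (Q : QuadraticForm F (Fin n → F)) (hQ : (QuadraticMap.polarBilin Q).Nondegenerate)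
    (hn : 0 < n) (x : GL (Fin n) F) {z : F} (hz : ¬ IsSquare z)
    (hx : (x : Matrix (Fin n) (Fin n) F) * (x : Matrix (Fin n) (Fin n) F) = z • 1) :
    ∃ g ∈ Geo.specialLinear (Fin n) F, g⁻¹ * x * g ∈ Geo.quadSimilarityGroup ⇑Q := by
  classical
  have hz0 : z ≠ 0 := fun h => hz (h ▸ IsSquare.zero)
  set g := Matrix.toLin' (x : Matrix (Fin n) (Fin n) F)
  have hg : ∀ v, g (g v) = z • v := fun v => by
    rw [Matrix.toLin'_apply, Matrix.toLin'_apply, mulVec_mulVec, hx, smul_mulVec, one_mulVec]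
  obtain ⟨j, v, hli, h⟩ := InvolutionDecomp.exists_pairs hz hg (n + 1)
  have htop := h.resolve_left fun hj => by
    have := hli.fintype_card_le_finrank
    rw [Fintype.card_sum, Fintype.card_fin, Module.finrank_fin_fun] at this
    omega
  let bb := Module.Basis.mk hli htop.ge
  have hj : n = 2 * j := by
    have := Module.finrank_eq_card_basis bb
    rw [Module.finrank_fin_fun, Fintype.card_sum, Fintype.card_fin] at this
    omega
  let e : Fin 2 × Fin j ≃ Fin j ⊕ Fin j :=
    ⟨fun x => ![Sum.inl x.2, Sum.inr x.2] x.1, Sum.elim (fun i => (0, i)) fun i => (1, i),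
      fun x => by obtain ⟨k, i⟩ := x; fin_cases k <;> simp, fun x => by rcases x with i | i <;> simp⟩
  let b := bb.reindex e.symm
  let J : Matrix (Fin 2) (Fin 2) F := !![0, z; 1, 0]
  have hM : LinearMap.toMatrix b b g = blockDiagonal fun _ : Fin j => J := by
    ext ⟨l, i'⟩ ⟨k, i⟩
    rw [LinearMap.toMatrix_apply, blockDiagonal_apply]
    have hgb : g (b (k, i)) = (!![0, z; 1, 0] : Matrix (Fin 2) (Fin 2) F) 0 k • b (0, i) +
        (!![0, z; 1, 0] : Matrix (Fin 2) (Fin 2) F) 1 k • b (1, i) := by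
      fin_cases k <;> simp [b, bb, e, hg]
    rw [hgb, map_add, map_smul, map_smul, Module.Basis.repr_self, Module.Basis.repr_self, Finsupp.add_apply,
      Finsupp.smul_apply, Finsupp.smul_apply, Finsupp.single_apply, Finsupp.single_apply]
    by_cases h : i' = i
    · subst h
      fin_cases l <;> fin_cases k <;> simp [J]
    · simp [h, Ne.symm h]
  have hP : ∀ w, (x : Matrix (Fin n) (Fin n) F) *ᵥ b.equivFun.symm w =
      b.equivFun.symm ((blockDiagonal fun _ : Fin j => J) *ᵥ w) := fun w => by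
    rw [← hM, LinearEquiv.eq_symm_apply]
    conv_rhs => rw [← b.equivFun.apply_symm_apply w]
    exact (LinearMap.toMatrix_mulVec_repr b b g _).symm
  obtain ⟨i₀⟩ : Nonempty (Fin j) := ⟨⟨0, by omega⟩⟩
  choose a c hac using fun t => exists_plane h2 hz0 t
  set D := gramDet (QuadraticMap.polarBilin Q) (Pi.basisFun F (Fin n))
  let t : Fin j → F := Function.update 1 i₀ D
  let T : Fin j → Matrix (Fin 2) (Fin 2) F := fun i => !![a (t i), c (t i); c (t i), z * a (t i)]
  refine conj_into h2 Q hQ x b.equivFun.symm (blockDiagonal fun _ : Fin j => J) (blockDiagonal T) hP hz0 ?_ ?_ ?_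
    fun d hd => ?_
  · rw [blockDiagonal_transpose]
    congr 1
    funext i
    ext k l
    fin_cases k <;> fin_cases l <;> simp [T]
  · rw [blockDiagonal_transpose, ← blockDiagonal_mul, ← blockDiagonal_mul, ← blockDiagonal_smul]
    congr 1
    funext i
    ext k l
    fin_cases k <;> fin_cases l <;> simp [T, J, Matrix.mul_apply, Fin.sum_univ_two] <;> ring
  · rw [det_blockDiagonal]
    have : ∀ i, (T i).det = t i := fun i => by
      rw [det_fin_two_of]; linear_combination hac (t i)
    rw [Finset.prod_congr rfl fun i _ => this i, Finset.prod_update_of_mem (Finset.mem_univ i₀)]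
    simp [D]
  · obtain ⟨u, w, huw⟩ := exists_plane h2 hz0 (-d)
    let M : Fin j → Matrix (Fin 2) (Fin 2) F := fun i => if i = i₀ then !![w, z * u; u, w] else 1
    refine ⟨blockDiagonal M, ?_, ?_⟩
    · rw [det_blockDiagonal, Finset.prod_eq_single i₀ (fun i _ hi => by simp [M, hi]) (by simp)]
      simp only [M, if_pos rfl, det_fin_two_of]
      linear_combination -huw
    · rw [← blockDiagonal_mul, ← blockDiagonal_mul]
      congr 1
      funext i
      by_cases hi : i = i₀
      · ext k l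
        fin_cases k <;> fin_cases l <;> simp [M, J, hi, Matrix.mul_apply, Fin.sum_univ_two] <;> ring
      · simp [M, hi]

end Cfsg.Agent.OrthSimilitudeDerange
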