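import Cfsg.Agent.Lib.Classical.ParabolicCosets
import Cfsg.Agent.Lib.Char.Constituent

/-!
The alternating sums of flag permutation characters of `GL n` are orthonormal irreducible characters.
-/

set_option autoImplicit false

namespace Cfsg.Agent.Classical.UnipotentChar

open Cfsg Cfsg.Agent.Char
open scoped ComplexConjugate

section PermChar

universe u
variable {G : Type u} [Group G] [Finite G]

lemma isCharacter_fixedPointCharacter (H : Subgroup G) : IsCharacter G (fixedPointCharacter H) := by
  classical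
  haveI := Fintype.ofFinite (G ⧸ H)
  let ρ : Representation ℂ G ((G ⧸ H) → ℂ) :=
    { toFun := fun g => LinearMap.funLeft ℂ ℂ (fun x : G ⧸ H => g⁻¹ • x)
      map_one' := by ext f x; simp [LinearMap.funLeft_apply]
      map_mul' := fun g h => by ext f x; simp [LinearMap.funLeft_apply, mul_smul] }
  have hρ : ρ.character = fixedPointCharacter H := by
    funext g
    show LinearMap.trace ℂ _ (ρ g) = _
    rw [LinearMap.trace_eq_matrix_trace ℂ (Pi.basisFun ℂ (G ⧸ H)), Matrix.trace]
    unfold fixedPointCharacter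
    rw [show Nat.card (MulAction.fixedBy (G ⧸ H) g) = (Finset.univ.filter fun x : G ⧸ H => g • x = x).card by
      rw [Nat.card_eq_fintype_card, Fintype.card_subtype]; rfl]
    rw [Finset.card_filter, Nat.cast_sum]
    refine Finset.sum_congr rfl fun x _ => ?_
    simp [ρ, LinearMap.toMatrix_apply, LinearMap.funLeft_apply, Pi.single_apply, eq_inv_smul_iff,
      eq_comm]
  rw [← hρ]
  exact isCharacter_character ρ

/-- The inner product of two permutation characters counts the orbits on pairs. -/
lemma classInner_fixedPointCharacter [Fintype G] (H K : Subgroup G) :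
    classInner (fixedPointCharacter H) (fixedPointCharacter K) =
      (Nat.card (MulAction.orbitRel.Quotient G ((G ⧸ H) × (G ⧸ K))) : ℂ) := by
  classical
  haveI := Fintype.ofFinite (G ⧸ H)
  haveI := Fintype.ofFinite (G ⧸ K)
  haveI := Fintype.ofFinite (MulAction.orbitRel.Quotient G ((G ⧸ H) × (G ⧸ K)))
  have hb : (∑ g : G, Fintype.card (MulAction.fixedBy ((G ⧸ H) × (G ⧸ K)) g)) =
      Fintype.card (MulAction.orbitRel.Quotient G ((G ⧸ H) × (G ⧸ K))) * Fintype.card G := by
    convert MulAction.sum_card_fixedBy_eq_card_orbits_mul_card_group G ((G ⧸ H) × (G ⧸ K))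
  have hfix : ∀ g : G, fixedPointCharacter H g * conj (fixedPointCharacter K g) =
      ((Fintype.card (MulAction.fixedBy ((G ⧸ H) × (G ⧸ K)) g) : ℕ) : ℂ) := by
    intro g
    simp only [fixedPointCharacter, Complex.conj_natCast]
    rw [← Nat.cast_mul, ← Nat.card_eq_fintype_card, ← Nat.card_prod]
    congr 1
    refine Nat.card_congr
      { toFun := fun p => ⟨(p.1.1, p.2.1), Prod.ext p.1.2 p.2.2⟩
        invFun := fun p => (⟨p.1.1, congrArg Prod.fst p.2⟩, ⟨p.1.2, congrArg Prod.snd p.2⟩)
        left_inv := fun p => rfl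
        right_inv := fun p => rfl }
  simp only [classInner, hfix]
  rw [← Nat.cast_sum, hb, Nat.cast_mul, Nat.card_eq_fintype_card, Nat.card_eq_fintype_card,
    mul_comm ((Fintype.card (MulAction.orbitRel.Quotient G ((G ⧸ H) × (G ⧸ K))) : ℕ) : ℂ), ← mul_assoc,
    inv_mul_cancel₀ (Nat.cast_ne_zero.2 Fintype.card_ne_zero), one_mul]

end PermChar

section GLn

universe u
variable {n : ℕ} {F : Type u} [Field F] [Fintype F] [DecidableEq F]

/-- The term attached to a permutation. -/
noncomputable def term (ν : Fin n → ℕ) (κ : Equiv.Perm (Fin n)) (i : Fin n) : ℕ := ν i + i.val - (κ i).val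

/-- Whether a term occurs. -/
def Occ (ν : Fin n → ℕ) (κ : Equiv.Perm (Fin n)) : Prop := ∀ i : Fin n, (κ i).val ≤ ν i + i.val

noncomputable instance (ν : Fin n → ℕ) (κ : Equiv.Perm (Fin n)) : Decidable (Occ ν κ) :=
  inferInstanceAs (Decidable (∀ i : Fin n, (κ i).val ≤ ν i + i.val))

lemma sum_term {ν : Fin n → ℕ} {κ : Equiv.Perm (Fin n)} (h : Occ ν κ) :
    ∑ i, term ν κ i = ∑ i, ν i := by
  have h1 : ∑ i, term ν κ i + ∑ i, (κ i).val = ∑ i, ν i + ∑ i : Fin n, i.val := by
    rw [← Finset.sum_add_distrib, ← Finset.sum_add_distrib]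
    exact Finset.sum_congr rfl fun i _ => Nat.sub_add_cancel (h i)
  rw [Equiv.sum_comp κ (fun i : Fin n => i.val)] at h1
  omega

lemma chi_eq (ν : Fin n → ℕ) :
    unipotentCharacterGL n F ν = ∑ κ : Equiv.Perm (Fin n),
      (if Occ ν κ then ((Equiv.Perm.sign κ : ℤ) : ℂ) else 0) •
        fixedPointCharacter (parabolicGL n F (term ν κ)) := by
  funext g
  rw [Finset.sum_apply]
  refine Finset.sum_congr rfl fun κ _ => ?_
  simp only [Pi.smul_apply, smul_eq_mul, ite_mul, zero_mul]
  by_cases h : Occ ν κ
  · rw [if_pos h, if_pos]; · rfl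
    exact h
  · rw [if_neg h, if_neg]
    exact h

lemma classInner_perm {α β : Fin n → ℕ} (hα : ∑ i, α i = n) (hβ : ∑ i, β i = n) :
    classInner (fixedPointCharacter (parabolicGL n F α)) (fixedPointCharacter (parabolicGL n F β)) =
      (JT.numMats α β : ℂ) := by
  rw [classInner_fixedPointCharacter, ParCoset.card_orbits F hα hβ]

/-- Orthonormality. -/
theorem classInner_chi {ν ν' : Fin n → ℕ} (hm : Monotone ν) (hs : ∑ i, ν i = n)
    (hm' : Monotone ν') (hs' : ∑ i, ν' i = n) :
    classInner (unipotentCharacterGL n F ν) (unipotentCharacterGL n F ν') = if ν = ν' then 1 else 0 := by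
  classical
  have hl : StrictMono fun i : Fin n => ν i + i.val := fun i j h =>
    Nat.add_lt_add_of_le_of_lt (hm h.le) h
  have hl' : StrictMono fun i : Fin n => ν' i + i.val := fun i j h =>
    Nat.add_lt_add_of_le_of_lt (hm' h.le) h
  have hiff : ((fun i : Fin n => ν i + i.val) = fun i => ν' i + i.val) ↔ ν = ν' :=
    ⟨fun h => funext fun i => by have := congrFun h i; simpa using this, fun h => h ▸ rfl⟩
  have h0 := congrArg (fun z : ℤ => (z : ℂ)) (JT.orthogonality hl hl')
  simp only [hiff, Int.cast_ite, Int.cast_one, Int.cast_zero, Int.cast_sum] at h0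
  rw [← h0, chi_eq, chi_eq, classInner_sum_left]
  refine Finset.sum_congr rfl fun κ _ => ?_
  rw [classInner_sum_right]
  refine Finset.sum_congr rfl fun ρ _ => ?_
  rw [classInner_smul_left, classInner_smul_right]
  by_cases hk : Occ ν κ
  · by_cases hr : Occ ν' ρ
    · rw [if_pos hk, if_pos hr, if_pos ⟨hk, hr⟩,
        classInner_perm (by rw [sum_term hk, hs]) (by rw [sum_term hr, hs'])]
      simp [mul_assoc, map_intCast]
      rfl
    · rw [if_neg hr]
      rw [if_neg (c := (∀ i, (κ i).val ≤ ν i + i.val) ∧ ∀ i, (ρ i).val ≤ ν' i + i.val) (fun h => hr h.2)]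
      simp
  · rw [if_neg hk]
    rw [if_neg (c := (∀ i, (κ i).val ≤ ν i + i.val) ∧ ∀ i, (ρ i).val ≤ ν' i + i.val) (fun h => hk h.1)]
    simp

/-- Sum of squares. -/
def sq (b : Fin n → ℕ) : ℕ := ∑ i, b i ^ 2

lemma sq_lt_term {ν : Fin n → ℕ} (hm : Monotone ν) {κ : Equiv.Perm (Fin n)} (h : Occ ν κ)
    (hne : κ ≠ 1) : sq ν < sq (term ν κ) := by
  have hterm : ∀ i, (term ν κ i : ℤ) = ν i + ((i.val : ℤ) - (κ i).val) := fun i => by
    have := h i
    simp only [term]
    omega
  have key : (∑ i, (term ν κ i : ℤ) ^ 2) = ∑ i, (ν i : ℤ) ^ 2 +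
      2 * ∑ i, (ν i : ℤ) * ((i.val : ℤ) - (κ i).val) + ∑ i : Fin n, ((i.val : ℤ) - (κ i).val) ^ 2 := by
    rw [Finset.mul_sum, ← Finset.sum_add_distrib, ← Finset.sum_add_distrib]
    exact Finset.sum_congr rfl fun i _ => by rw [hterm]; ring
  have hre : 0 ≤ ∑ i, (ν i : ℤ) * ((i.val : ℤ) - (κ i).val) := by
    have hmv : Monovary (fun i => (ν i : ℤ)) (fun i : Fin n => (i.val : ℤ)) := fun i j hij =>
      by
        simp only [Nat.cast_lt, Fin.val_fin_lt] at hij
        simp only [Nat.cast_le]
        exact hm hij.le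
    have := hmv.sum_mul_comp_perm_le_sum_mul (σ := κ)
    simp only [mul_sub, Finset.sum_sub_distrib]
    linarith
  have hpos : 0 < ∑ i : Fin n, ((i.val : ℤ) - (κ i).val) ^ 2 := by
    obtain ⟨i, hi⟩ : ∃ i, κ i ≠ i := by
      by_contra hc
      exact hne (Equiv.ext fun i => not_not.1 fun hn => hc ⟨i, hn⟩)
    refine Finset.sum_pos' (fun _ _ => sq_nonneg _) ⟨i, Finset.mem_univ i, ?_⟩
    refine pow_two_pos_of_ne_zero ?_
    intro h0
    exact hi (Fin.ext (by omega))
  have : (sq ν : ℤ) < (sq (term ν κ) : ℤ) := by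
    simp only [sq, Nat.cast_sum, Nat.cast_pow]
    linarith
  exact_mod_cast this

lemma term_one (ν : Fin n → ℕ) : term ν 1 = ν := by funext i; simp [term]

lemma occ_one (ν : Fin n → ℕ) : Occ ν 1 := fun i => by simp

lemma sq_le {b : Fin n → ℕ} (h : ∑ i, b i = n) : sq b ≤ n ^ 2 := by
  calc sq b ≤ ∑ i, n * b i := Finset.sum_le_sum fun i _ => by
        rw [pow_two]
        refine Nat.mul_le_mul_right _ ?_
        rw [← h]
        exact Finset.single_le_sum (fun _ _ => Nat.zero_le _) (Finset.mem_univ i)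
    _ = n ^ 2 := by rw [← Finset.mul_sum, h, pow_two]

lemma classInner_perm_comp {α β : Fin n → ℕ} (hα : ∑ i, α i = n) (hβ : ∑ i, β i = n)
    (σ : Equiv.Perm (Fin n)) :
    classInner (fixedPointCharacter (parabolicGL n F α)) (fixedPointCharacter (parabolicGL n F (β ∘ σ))) =
      classInner (fixedPointCharacter (parabolicGL n F α)) (fixedPointCharacter (parabolicGL n F β)) := by
  rw [classInner_perm hα hβ, classInner_perm (β := β ∘ σ) hα ((Equiv.sum_comp σ β).trans hβ),
    JT.numMats_perm_right]

/-- `χ_ν` is orthogonal to the more dominant permutation characters. -/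
lemma classInner_chi_perm_eq_zero {ν : Fin n → ℕ} (hm : Monotone ν) (hs : ∑ i, ν i = n) :
    ∀ (d : ℕ) (b : Fin n → ℕ), ∑ i, b i = n → sq ν < sq b → n ^ 2 - sq b = d →
      classInner (unipotentCharacterGL n F ν) (fixedPointCharacter (parabolicGL n F b)) = 0 := by
  classical
  intro d
  induction d using Nat.strong_induction_on with
  | _ d ih =>
    intro b hb hlt hd
    set σ := Tuple.sort b
    set ν' := b ∘ σ with hν'
    have hm' : Monotone ν' := Tuple.monotone_sort b
    have hs' : ∑ i, ν' i = n := (Equiv.sum_comp σ b).trans hb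
    have hsq : sq ν' = sq b := Equiv.sum_comp σ (fun i => b i ^ 2)
    have hne : ν ≠ ν' := fun h => by rw [← h] at hsq; omega
    have h0 := classInner_chi (F := F) hm hs hm' hs'
    rw [if_neg hne, chi_eq ν', classInner_sum_right] at h0
    rw [Finset.sum_eq_single (1 : Equiv.Perm (Fin n))] at h0
    · rw [classInner_smul_right, if_pos (occ_one ν'), term_one] at h0
      simp only [Equiv.Perm.sign_one, Units.val_one, Int.cast_one, map_one, one_mul] at h0
      rw [chi_eq ν, classInner_sum_left] at h0 ⊢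
      refine Eq.trans ?_ h0
      refine Finset.sum_congr rfl fun κ _ => ?_
      rw [classInner_smul_left, classInner_smul_left]
      by_cases hk : Occ ν κ
      · rw [hν', classInner_perm_comp (by rw [sum_term hk, hs]) hb]
      · simp [hk]
    · intro κ _ hκ
      rw [classInner_smul_right]
      by_cases hk : Occ ν' κ
      · have hgt := sq_lt_term hm' hk hκ
        have hbd : ∑ i, term ν' κ i = n := by rw [sum_term hk, hs']
        have := sq_le hbd
        rw [ih (n ^ 2 - sq (term ν' κ)) (by omega) _ hbd (by omega) rfl, mul_zero]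
      · simp [hk]
    · simp

/-- Irreducibility. -/
theorem isIrr_chi {ν : Fin n → ℕ} (hm : Monotone ν) (hs : ∑ i, ν i = n) :
    IsIrrCharacter (GL (Fin n) F) (unipotentCharacterGL n F ν) := by
  classical
  have hnorm : classInner (unipotentCharacterGL n F ν) (unipotentCharacterGL n F ν) = 1 := by
    rw [classInner_chi hm hs hm hs, if_pos rfl]
  have hpair : classInner (unipotentCharacterGL n F ν) (fixedPointCharacter (parabolicGL n F ν)) = 1 := by
    have h0 := hnorm
    nth_rw 2 [chi_eq ν] at h0
    rw [classInner_sum_right, Finset.sum_eq_single (1 : Equiv.Perm (Fin n))] at h0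
    · rw [classInner_smul_right, if_pos (occ_one ν), term_one] at h0
      simpa using h0
    · intro κ _ hκ
      rw [classInner_smul_right]
      by_cases hk : Occ ν κ
      · rw [classInner_chi_perm_eq_zero hm hs _ _ (by rw [sum_term hk, hs]) (sq_lt_term hm hk hκ) rfl,
          mul_zero]
      · simp [hk]
    · simp
  have hgen : IsGeneralizedCharacter (GL (Fin n) F) (unipotentCharacterGL n F ν) := by
    let P : Finset (Equiv.Perm (Fin n)) := Finset.univ.filter fun κ => Occ ν κ ∧ Equiv.Perm.sign κ = 1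
    let M : Finset (Equiv.Perm (Fin n)) := Finset.univ.filter fun κ => Occ ν κ ∧ Equiv.Perm.sign κ = -1
    refine ⟨∑ κ ∈ P, fixedPointCharacter (parabolicGL n F (term ν κ)),
      ∑ κ ∈ M, fixedPointCharacter (parabolicGL n F (term ν κ)),
      IsChar.sum (fun κ _ => isCharacter_fixedPointCharacter _),
      IsChar.sum (fun κ _ => isCharacter_fixedPointCharacter _), ?_⟩
    rw [chi_eq]
    simp only [P, M, Finset.sum_filter, ← Finset.sum_sub_distrib]
    refine Finset.sum_congr rfl fun κ _ => ?_
    by_cases hk : Occ ν κ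
    · rcases Int.units_eq_one_or (Equiv.Perm.sign κ) with h | h <;> simp [hk, h]
    · simp [hk]
  rcases IsGenChar.norm_one hgen hnorm with h | h
  · exact h
  · exfalso
    obtain ⟨m, hm'⟩ := IsChar.classInner_nat (IsIrr.isCharacter h)
      (isCharacter_fixedPointCharacter (parabolicGL n F ν))
    rw [classInner_neg_left, hpair] at hm'
    have := congrArg Complex.re hm'
    simp at this
    have : (0 : ℝ) ≤ m := Nat.cast_nonneg m
    linarith

/-- Distinctness. -/
theorem chi_injective {ν ν' : Fin n → ℕ} (hm : Monotone ν) (hs : ∑ i, ν i = n)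
    (hm' : Monotone ν') (hs' : ∑ i, ν' i = n)
    (h : unipotentCharacterGL n F ν = unipotentCharacterGL n F ν') : ν = ν' := by
  classical
  have h1 := classInner_chi (F := F) hm hs hm' hs'
  rw [← h, classInner_chi hm hs hm hs, if_pos rfl] at h1
  by_contra hne
  rw [if_neg hne] at h1
  exact one_ne_zero h1

end GLn

end Cfsg.Agent.Classical.UnipotentChar
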