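import Mathlib

/-! Bounds for abelian permutation groups by orbit peeling. -/

set_option autoImplicit false

namespace Cfsg.Agent.AbelianPermMax

open Equiv Equiv.Perm

/-- Maximal product of parts of a partition of `n`. -/
def bd (n : ℕ) : ℕ :=
  if n % 3 = 0 then 3 ^ (n / 3)
  else if n % 3 = 1 then (if n = 1 then 1 else 4 * 3 ^ (n / 3 - 1))
  else 2 * 3 ^ (n / 3)

theorem bd_zero (k : ℕ) : bd (3 * k) = 3 ^ k := by
  simp [bd]

theorem bd_one (k : ℕ) : bd (3 * k + 1) = if k = 0 then 1 else 4 * 3 ^ (k - 1) := by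
  have h1 : (3 * k + 1) % 3 = 1 := by omega
  have h2 : (3 * k + 1) / 3 = k := by omega
  simp [bd, h1, h2]

theorem bd_two (k : ℕ) : bd (3 * k + 2) = 2 * 3 ^ k := by
  have h1 : (3 * k + 2) % 3 = 2 := by omega
  have h2 : (3 * k + 2) / 3 = k := by omega
  simp [bd, h1, h2]

theorem cases3 (n : ℕ) : ∃ k, n = 3 * k ∨ n = 3 * k + 1 ∨ n = 3 * k + 2 :=
  ⟨n / 3, by omega⟩

theorem bd_steps (n : ℕ) :
    bd n ≤ bd (n + 1) ∧ 2 * bd n ≤ bd (n + 2) ∧ 3 * bd n ≤ bd (n + 3) := by
  obtain ⟨k, rfl | rfl | rfl⟩ := cases3 n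
  · rw [show 3 * k + 3 = 3 * (k + 1) by ring, bd_zero, bd_zero, bd_one, bd_two, pow_succ]
    refine ⟨?_, le_rfl, by omega⟩
    rcases k with _ | j
    · simp
    · simp only [Nat.add_eq_zero_iff, one_ne_zero, and_false, ↓reduceIte, Nat.add_sub_cancel,
        pow_succ]
      omega
  · rw [show 3 * k + 1 + 1 = 3 * k + 2 by ring, show 3 * k + 1 + 2 = 3 * (k + 1) by ring,
      show 3 * k + 1 + 3 = 3 * (k + 1) + 1 by ring, bd_zero, bd_two, bd_one, bd_one]
    rcases k with _ | j
    · simp
    · simp only [Nat.add_eq_zero_iff, one_ne_zero, and_false, ↓reduceIte, Nat.add_sub_cancel,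
        pow_succ]
      omega
  · rw [show 3 * k + 2 + 1 = 3 * (k + 1) by ring, show 3 * k + 2 + 2 = 3 * (k + 1) + 1 by ring,
      show 3 * k + 2 + 3 = 3 * (k + 1) + 2 by ring, bd_zero, bd_two, bd_one, bd_two]
    simp only [Nat.add_eq_zero_iff, one_ne_zero, and_false, ↓reduceIte, Nat.add_sub_cancel,
      pow_succ]
    omega

theorem mul_bd_le (m x : ℕ) (hm : 1 ≤ m) : m * bd x ≤ bd (x + m) := by
  induction m using Nat.strong_induction_on generalizing x with
  | _ m ih =>
    rcases lt_or_ge m 5 with h | h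
    · interval_cases m
      · simpa using (bd_steps x).1
      · exact (bd_steps x).2.1
      · exact (bd_steps x).2.2
      · have h1 := (bd_steps x).2.1
        have h2 := (bd_steps (x + 2)).2.1
        change 4 * bd x ≤ bd (x + 2 + 2)
        omega
    · have h1 : m ≤ (m - 3) * 3 := by omega
      have h2 := ih (m - 3) (by omega) (x + 3) (by omega)
      rw [show x + 3 + (m - 3) = x + m by omega] at h2
      calc m * bd x ≤ (m - 3) * 3 * bd x := Nat.mul_le_mul_right _ h1
        _ = (m - 3) * (3 * bd x) := by ring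
        _ ≤ (m - 3) * bd (x + 3) := Nat.mul_le_mul_left _ (bd_steps x).2.2
        _ ≤ _ := h2

/-- The bound for abelian groups of even permutations on `3 * k + 2` points. -/
def bdEven (k : ℕ) : ℕ := if k = 0 then 1 else if k = 1 then 5 else 16 * 3 ^ (k - 2)

theorem bdEven_add_two (j : ℕ) : bdEven (j + 2) = 16 * 3 ^ j := by simp [bdEven]

theorem mul_bd_le_bdEven (m x k : ℕ) (hm : 1 ≤ m) (hm3 : m ≠ 2) (hm3' : m ≠ 3)
    (hx : x + m = 3 * k + 2) : m * bd x ≤ bdEven k := by
  induction m using Nat.strong_induction_on generalizing x with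
  | _ m ih =>
    rcases lt_or_ge m 8 with h | h
    · interval_cases m
      · obtain rfl : x = 3 * k + 1 := by omega
        rw [bd_one, one_mul]
        rcases k with _ | _ | j
        · simp [bdEven]
        · simp [bdEven]
        · rw [bdEven_add_two]
          simp only [Nat.add_eq_zero_iff, one_ne_zero, and_false, ↓reduceIte, Nat.add_sub_cancel,
            pow_succ]
          omega
      · omega
      · omega
      · obtain rfl | ⟨j, rfl⟩ : k = 1 ∨ ∃ j, k = j + 2 := by
          rcases k with _ | _ | j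
          · omega
          · simp
          · exact Or.inr ⟨j, rfl⟩
        · obtain rfl : x = 1 := by omega
          decide
        · obtain rfl : x = 3 * (j + 1) + 1 := by omega
          rw [bd_one, bdEven_add_two, if_neg (by omega), Nat.add_sub_cancel]
          omega
      · obtain rfl | ⟨j, rfl⟩ : k = 1 ∨ ∃ j, k = j + 2 := by
          rcases k with _ | _ | j
          · omega
          · simp
          · exact Or.inr ⟨j, rfl⟩
        · obtain rfl : x = 0 := by omega
          decide
        · obtain rfl : x = 3 * (j + 1) := by omega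
          rw [bd_zero, bdEven_add_two, pow_succ]
          omega
      · obtain ⟨j, rfl⟩ : ∃ j, k = j + 2 := ⟨k - 2, by omega⟩
        obtain rfl : x = 3 * j + 2 := by omega
        rw [bd_two, bdEven_add_two]
        omega
      · obtain ⟨j, rfl⟩ : ∃ j, k = j + 2 := ⟨k - 2, by omega⟩
        obtain rfl : x = 3 * j + 1 := by omega
        rw [bd_one, bdEven_add_two]
        rcases j with _ | i
        · simp
        · simp only [Nat.add_eq_zero_iff, one_ne_zero, and_false, ↓reduceIte, Nat.add_sub_cancel,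
            pow_succ]
          omega
    · have h1 : m ≤ (m - 3) * 3 := by omega
      calc m * bd x ≤ (m - 3) * 3 * bd x := Nat.mul_le_mul_right _ h1
        _ = (m - 3) * (3 * bd x) := by ring
        _ ≤ (m - 3) * bd (x + 3) := Nat.mul_le_mul_left _ (bd_steps x).2.2
        _ ≤ _ := ih (m - 3) (by omega) (x + 3) (by omega) (by omega) (by omega) (by omega)

theorem three_mul_bdEven (k : ℕ) : 3 * bdEven k ≤ bdEven (k + 1) := by
  rcases k with _ | _ | j
  · decide
  · decide
  · rw [bdEven_add_two, show j + 2 + 1 = j + 1 + 2 by ring, bdEven_add_two, pow_succ]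
    omega

section Orbit

variable {X : Type} [Fintype X] [DecidableEq X]

theorem sign_split (g : Perm X) (p : X → Prop) [DecidablePred p] (h : ∀ x, p (g x) ↔ p x)
    (h' : ∀ x, ¬ p (g x) ↔ ¬ p x) :
    sign g = sign (g.subtypePerm h) * sign (g.subtypePerm (p := fun x => ¬ p x) h') := by
  have he : g = (Equiv.sumCompl p).permCongr
      (Equiv.sumCongr (g.subtypePerm h) (g.subtypePerm (p := fun x => ¬ p x) h')) := by
    ext x
    by_cases hx : p x <;> simp [Equiv.permCongr_apply, hx]
  conv_lhs => rw [he, sign_permCongr, sign_sumCongr]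

/-- An orbit of an abelian permutation group, with the restriction to the complement. -/
theorem orbit_step (A : Subgroup (Perm X)) (hA : IsMulCommutative A) (x₀ : X) :
    ∃ (s : Finset X) (B : Subgroup (Perm {x // x ∉ s})), x₀ ∈ s ∧ IsMulCommutative B ∧
      Nat.card A ≤ s.card * Nat.card B ∧
      ((∀ g ∈ A, sign g = 1) → s.card = 3 → ∀ b ∈ B, sign b = 1) ∧
      ((∀ g ∈ A, sign g = 1) → s.card = 2 → Nat.card A ≤ Nat.card B) := by
  classical
  have hcomm : ∀ a ∈ A, ∀ b ∈ A, a * b = b * a := fun a ha b hb =>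
    congrArg Subtype.val (hA.is_comm.comm ⟨a, ha⟩ ⟨b, hb⟩)
  let s : Finset X := Finset.univ.filter fun y => ∃ a ∈ A, a x₀ = y
  have hmem : ∀ y, y ∈ s ↔ ∃ a ∈ A, a x₀ = y := by simp [s]
  have hs : ∀ g : A, ∀ y, (g : Perm X) y ∈ s ↔ y ∈ s := by
    intro g y
    rw [hmem, hmem]
    constructor
    · rintro ⟨a, ha, e⟩
      exact ⟨(g : Perm X)⁻¹ * a, A.mul_mem (A.inv_mem g.2) ha, by simp [e]⟩
    · rintro ⟨a, ha, e⟩
      exact ⟨(g : Perm X) * a, A.mul_mem g.2 ha, by simp [e]⟩
  let f : A →* Perm {x // x ∉ s} :=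
    { toFun := fun g => (g : Perm X).subtypePerm fun y => not_congr (hs g y)
      map_one' := by ext; rfl
      map_mul' := fun g h => by ext; rfl }
  -- an element of `A` is determined on the orbit by its value at `x₀`
  have hdet : ∀ g h : A, (g : Perm X) x₀ = (h : Perm X) x₀ →
      ∀ y ∈ s, (g : Perm X) y = (h : Perm X) y := by
    intro g h e y hy
    obtain ⟨a, ha, rfl⟩ := (hmem y).mp hy
    rw [← Perm.mul_apply, ← Perm.mul_apply, hcomm _ g.2 a ha, hcomm _ h.2 a ha, Perm.mul_apply,
      Perm.mul_apply, e]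
  have hext : ∀ g h : A, f g = f h → (g : Perm X) x₀ = (h : Perm X) x₀ → g = h := by
    intro g h e e'
    ext y
    by_cases hy : y ∈ s
    · exact hdet g h e' y hy
    · exact congrArg Subtype.val (Equiv.congr_fun e ⟨y, hy⟩)
  refine ⟨s, f.range, (hmem x₀).mpr ⟨1, A.one_mem, rfl⟩, ?_, ?_, ?_, ?_⟩
  · constructor; constructor
    rintro ⟨_, g, rfl⟩ ⟨_, h, rfl⟩
    ext1
    change f g * f h = f h * f g
    rw [← map_mul, ← map_mul, hA.is_comm.comm]
  · have hinj : Function.Injective fun g : A =>
        ((⟨(g : Perm X) x₀, (hs g x₀).mpr ((hmem x₀).mpr ⟨1, A.one_mem, rfl⟩)⟩ : {y // y ∈ s}),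
          (⟨f g, g, rfl⟩ : f.range)) := by
      intro g h e
      rw [Prod.ext_iff, Subtype.ext_iff, Subtype.ext_iff] at e
      exact hext g h e.2 e.1
    simpa [Nat.card_prod] using Nat.card_le_card_of_injective _ hinj
  · rintro hev h3 _ ⟨g, rfl⟩
    have hsp : 1 = sign ((g : Perm X).subtypePerm (hs g)) * sign (f g) := by
      rw [← hev g g.2]
      convert sign_split (g : Perm X) (· ∈ s) (hs g) fun y => not_congr (hs g y)
      rfl
    have h1 : sign ((g : Perm X).subtypePerm (hs g)) = 1 := by
      rcases eq_or_ne ((g : Perm X).subtypePerm (hs g)) 1 with h | h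
      · rw [h, map_one]
      refine IsThreeCycle.sign (card_support_eq_three_iff.mp ?_)
      rw [show ((g : Perm X).subtypePerm (hs g)).support = Finset.univ from ?_]
      · simpa using h3
      refine Finset.eq_univ_iff_forall.mpr fun y => Perm.mem_support.mpr fun hy => h ?_
      have hy' : (g : Perm X) y.1 = y.1 := congrArg Subtype.val hy
      obtain ⟨a, ha, e⟩ := (hmem y.1).mp y.2
      have h0 : (g : Perm X) x₀ = x₀ := by
        apply a.injective
        rw [← Perm.mul_apply, ← hcomm _ g.2 a ha, Perm.mul_apply, e, hy']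
      ext z
      simpa using hdet g 1 (by simpa using h0) z.1 z.2
    rw [h1, one_mul] at hsp
    exact hsp.symm
  · intro hev h2
    refine Nat.card_le_card_of_injective (fun g => (⟨f g, g, rfl⟩ : f.range)) fun g h e => ?_
    have e' : f g = f h := congrArg Subtype.val e
    by_contra hne
    let k : A := h⁻¹ * g
    have hk : f k = 1 := by simp [k, map_mul, e']
    have hk1 : (k : Perm X) ≠ 1 := by
      intro hc
      exact hne (inv_mul_eq_one.mp (Subtype.ext (by simpa [k] using hc) : h⁻¹ * g = 1)).symm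
    have hsub : (k : Perm X).support ⊆ s := by
      intro y hy
      by_contra hys
      exact Perm.mem_support.mp hy (congrArg Subtype.val (Equiv.congr_fun hk ⟨y, hys⟩))
    have hcard : (k : Perm X).support.card = 2 :=
      le_antisymm (h2 ▸ Finset.card_le_card hsub) (two_le_card_support_of_ne_one hk1)
    have := hev k k.2
    rw [(card_support_eq_two.mp hcard).sign_eq] at this
    exact absurd this (by decide)

end Orbit

theorem card_le_bd (n : ℕ) : ∀ (X : Type) [Fintype X] [DecidableEq X], Fintype.card X = n →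
    ∀ A : Subgroup (Perm X), IsMulCommutative A → Nat.card A ≤ bd n := by
  induction n using Nat.strong_induction_on with
  | _ n ih =>
    intro X _ _ hX A hA
    rcases isEmpty_or_nonempty X with h | ⟨⟨x₀⟩⟩
    · have : Subsingleton A := ⟨fun a b => Subtype.ext (Subsingleton.elim _ _)⟩
      subst hX
      simp [bd]
    · obtain ⟨s, B, hx, hB, hle, -, -⟩ := orbit_step A hA x₀
      have hm : 1 ≤ s.card := Finset.card_pos.mpr ⟨x₀, hx⟩
      have hsn : s.card ≤ n := hX ▸ s.card_le_univ
      have hc : Fintype.card {x // x ∉ s} = n - s.card := by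
        simp [Fintype.card_subtype_compl, hX]
      have := ih (n - s.card) (by omega) _ hc B hB
      calc Nat.card A ≤ s.card * Nat.card B := hle
        _ ≤ s.card * bd (n - s.card) := Nat.mul_le_mul_left _ this
        _ ≤ bd (n - s.card + s.card) := mul_bd_le _ _ hm
        _ = bd n := by rw [Nat.sub_add_cancel hsn]

theorem card_le_bdEven (k : ℕ) : ∀ (X : Type) [Fintype X] [DecidableEq X],
    Fintype.card X = 3 * k + 2 → ∀ A : Subgroup (Perm X), IsMulCommutative A →
      (∀ g ∈ A, sign g = 1) → Nat.card A ≤ bdEven k := by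
  induction k using Nat.strong_induction_on with
  | _ k ih =>
    intro X _ _ hX A hA hev
    have : Nonempty X := Fintype.card_pos_iff.mp (by omega)
    obtain ⟨x₀⟩ := this
    obtain ⟨s, B, hx, hB, hle, h3, h2⟩ := orbit_step A hA x₀
    have hm : 1 ≤ s.card := Finset.card_pos.mpr ⟨x₀, hx⟩
    have hsn : s.card ≤ 3 * k + 2 := hX ▸ s.card_le_univ
    have hc : Fintype.card {x // x ∉ s} = 3 * k + 2 - s.card := by
      simp [Fintype.card_subtype_compl, hX]
    by_cases e2 : s.card = 2
    · have := card_le_bd _ _ hc B hB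
      rw [e2, show 3 * k + 2 - 2 = 3 * k by omega, bd_zero] at this
      refine (h2 hev e2).trans (this.trans ?_)
      rcases k with _ | _ | j
      · decide
      · decide
      · rw [bdEven_add_two, pow_succ, pow_succ]; omega
    by_cases e3 : s.card = 3
    · obtain ⟨j, rfl⟩ : ∃ j, k = j + 1 := ⟨k - 1, by omega⟩
      have := ih j (by omega) _ (hc.trans (by omega)) B hB (h3 hev e3)
      rw [e3] at hle
      exact hle.trans ((Nat.mul_le_mul_left _ this).trans (three_mul_bdEven j))
    have := card_le_bd _ _ hc B hB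
    exact hle.trans ((Nat.mul_le_mul_left _ this).trans
      (mul_bd_le_bdEven _ _ _ hm e2 e3 (Nat.sub_add_cancel hsn)))

/-- `c` is the order of an abelian group of permutations of `n` points, all even if `e`. -/
def Good (e : Prop) (n c : ℕ) : Prop :=
  ∃ A : Subgroup (Perm (Fin n)), IsMulCommutative A ∧ Nat.card A = c ∧
    (e → ∀ g ∈ A, sign g = 1)

theorem good_mk {e : Prop} {n : ℕ} {H : Type} [CommGroup H] (φ : H →* Perm (Fin n))
    (hi : Function.Injective φ) (he : e → ∀ h, sign (φ h) = 1) : Good e n (Nat.card H) := by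
  refine ⟨φ.range, ?_, (Nat.card_congr (MonoidHom.ofInjective hi).toEquiv).symm, ?_⟩
  · constructor; constructor
    rintro ⟨_, g, rfl⟩ ⟨_, h, rfl⟩
    ext1
    change φ g * φ h = φ h * φ g
    rw [← map_mul, ← map_mul, mul_comm]
  · rintro h' _ ⟨h, rfl⟩
    exact he h' h

theorem good_trivial (e : Prop) (n : ℕ) : Good e n 1 :=
  ⟨⊥, inferInstance, by simp, fun _ g hg => by simp [Subgroup.mem_bot.mp hg]⟩

theorem good_regular {e : Prop} {n : ℕ} (H : Type) [CommGroup H] [Fintype H] [DecidableEq H]
    (hn : Fintype.card H = n) (he : e → ∀ h : H, sign (Equiv.mulLeft h) = 1) : Good e n n := by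
  have v := Fintype.equivFinOfCardEq hn
  have := good_mk (e := e)
    (v.permCongrHom.toMonoidHom.comp (MulAction.toPermHom H H))
    (v.permCongrHom.injective.comp MulAction.toPerm_injective) (fun h' h => ?_)
  · rwa [Nat.card_eq_fintype_card, hn] at this
  · change sign (v.permCongr (MulAction.toPerm h)) = 1
    rw [sign_permCongr]
    rw [show (MulAction.toPerm h : Perm H) = Equiv.mulLeft h from Equiv.ext fun _ => rfl]
    exact he h' h

theorem good_add {e : Prop} {n m c d : ℕ} (h1 : Good e n c) (h2 : Good e m d) :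
    Good e (n + m) (c * d) := by
  obtain ⟨A, hA, hc, hA'⟩ := h1
  obtain ⟨B, hB, hd, hB'⟩ := h2
  let : CommGroup A := { (inferInstance : Group A) with mul_comm := hA.is_comm.comm }
  let : CommGroup B := { (inferInstance : Group B) with mul_comm := hB.is_comm.comm }
  have := good_mk (e := e) (n := n + m) (H := A × B)
    (finSumFinEquiv.permCongrHom.toMonoidHom.comp
      ((sumCongrHom (Fin n) (Fin m)).comp (A.subtype.prodMap B.subtype)))
    (finSumFinEquiv.permCongrHom.injective.comp
      (sumCongrHom_injective.comp (Prod.map_injective.mpr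
        ⟨Subtype.val_injective, Subtype.val_injective⟩))) (fun h' h => ?_)
  · rwa [Nat.card_prod, hc, hd] at this
  · have e1 : sign (sumCongrHom (Fin n) (Fin m) (A.subtype h.1, B.subtype h.2)) = 1 := by
      rw [sumCongrHom_apply, sign_sumCongr, Subgroup.subtype_apply, Subgroup.subtype_apply,
        hA' h' _ h.1.2, hB' h' _ h.2.2, one_mul]
    rw [← e1]
    exact sign_permCongr _ _

theorem good_two : Good False 2 2 :=
  good_regular (Multiplicative (ZMod 2)) (by simp) (fun h => h.elim)

theorem good_three (e : Prop) : Good e 3 3 :=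
  good_regular (Multiplicative (ZMod 3)) (by simp) (fun _ h => by revert h; decide)

theorem good_four (e : Prop) : Good e 4 4 :=
  good_regular (Multiplicative (ZMod 2 × ZMod 2)) (by simp) (fun _ h => by revert h; decide)

theorem good_threes (e : Prop) : ∀ k, Good e (3 * k) (3 ^ k)
  | 0 => by simpa using good_trivial e 0
  | k + 1 => by
    rw [pow_succ, show 3 * (k + 1) = 3 * k + 3 by ring]
    exact good_add (good_threes e k) (good_three e)

theorem good_one (e : Prop) (k : ℕ) (hk : 1 ≤ k) : Good e (3 * k + 1) (4 * 3 ^ (k - 1)) := by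
  rw [show 3 * k + 1 = 4 + 3 * (k - 1) by omega]
  exact good_add (good_four e) (good_threes e _)

theorem good_two_even (k : ℕ) (hk : 2 ≤ k) : Good True (3 * k + 2) (16 * 3 ^ (k - 2)) := by
  rw [show 3 * k + 2 = 4 + 4 + 3 * (k - 2) by omega, show (16 : ℕ) = 4 * 4 from rfl]
  exact good_add (good_add (good_four _) (good_four _)) (good_threes _ _)

theorem good_two_any (k : ℕ) : Good False (3 * k + 2) (2 * 3 ^ k) := by
  rw [add_comm (3 * k)]
  exact good_add good_two (good_threes _ _)

theorem isGreatest_perm {n c : ℕ} (h : Good False n c) (hc : bd n = c) :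
    IsGreatest {d : ℕ | ∃ A : Subgroup (Perm (Fin n)), IsMulCommutative A ∧ Nat.card A = d} c := by
  obtain ⟨A, h1, h2, -⟩ := h
  refine ⟨⟨A, h1, h2⟩, ?_⟩
  rintro _ ⟨B, hB, rfl⟩
  exact hc ▸ card_le_bd n _ (Fintype.card_fin n) B hB

theorem isGreatest_alt {n c : ℕ} (h : Good True n c)
    (hc : ∀ A : Subgroup (Perm (Fin n)), IsMulCommutative A → (∀ g ∈ A, sign g = 1) →
      Nat.card A ≤ c) :
    IsGreatest {d : ℕ | ∃ A : Subgroup (alternatingGroup (Fin n)), IsMulCommutative A ∧
      Nat.card A = d} c := by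
  obtain ⟨A, h1, h2, h3⟩ := h
  have hle : A ≤ alternatingGroup (Fin n) := fun g hg => mem_alternatingGroup.mpr (h3 trivial g hg)
  refine ⟨⟨A.subgroupOf _, ⟨⟨fun x y => ?_⟩⟩,
    (Nat.card_congr (Subgroup.subgroupOfEquivOfLe hle).toEquiv).trans h2⟩, ?_⟩
  · apply (Subgroup.subgroupOfEquivOfLe hle).injective
    rw [map_mul, map_mul, h1.is_comm.comm]
  rintro _ ⟨B, hB, rfl⟩
  rw [← Subgroup.card_map_of_injective (alternatingGroup (Fin n)).subtype_injective (K := B)]
  refine hc _ ⟨⟨?_⟩⟩ ?_
  · rintro ⟨_, g, hg, rfl⟩ ⟨_, h, hh, rfl⟩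
    exact Subtype.ext (congrArg (alternatingGroup (Fin n)).subtype
      (congrArg Subtype.val (hB.is_comm.comm ⟨g, hg⟩ ⟨h, hh⟩)))
  · rintro _ ⟨g, -, rfl⟩
    exact mem_alternatingGroup.mp g.2

end Cfsg.Agent.AbelianPermMax
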