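import Mathlib

/-! The affine group with the stabiliser of a line in its linear part. -/

set_option autoImplicit false

namespace Cfsg.Agent.AffineLineExample

open Module

variable {F : Type} [Field F] {V : Type} [AddCommGroup V] [Module F V] [FiniteDimensional F V]

theorem exists_fix_move {e f f' : V} (he : f ∉ F ∙ e) (he' : f' ∉ F ∙ e) :
    ∃ g : V ≃ₗ[F] V, g e = e ∧ g f = f' := by
  have hne : ∀ x : V, x ∉ F ∙ e → Submodule.Quotient.mk (p := F ∙ e) x ≠ 0 := fun x hx =>
    fun h => hx ((Submodule.Quotient.mk_eq_zero _).1 h)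
  obtain ⟨φ₁, h₁⟩ := Module.Projective.exists_dual_ne_zero F (hne f he)
  obtain ⟨φ₂, h₂⟩ := Module.Projective.exists_dual_ne_zero F (hne f' he')
  obtain ⟨ψ, hψ, hψ'⟩ : ∃ ψ : Dual F (V ⧸ (F ∙ e)), ψ (Submodule.Quotient.mk f) ≠ 0 ∧
      ψ (Submodule.Quotient.mk f') ≠ 0 := by
    by_cases a : φ₁ (Submodule.Quotient.mk f') = 0
    · by_cases b : φ₂ (Submodule.Quotient.mk f) = 0
      · exact ⟨φ₁ + φ₂, by simpa [b] using h₁, by simpa [a] using h₂⟩
      · exact ⟨φ₂, b, h₂⟩
    · exact ⟨φ₁, h₁, a⟩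
  let φ : Dual F V := (ψ (Submodule.Quotient.mk f))⁻¹ • ψ.comp (F ∙ e).mkQ
  have h0 : φ e = 0 := by
    simp [φ, (Submodule.Quotient.mk_eq_zero _).2 (Submodule.mem_span_singleton_self e)]
  have h1 : φ f = 1 := by simp [φ, hψ]
  have h2 : φ f' ≠ 0 := by simp [φ, hψ, hψ']
  let T : V →ₗ[F] V := LinearMap.id + φ.smulRight (f' - f)
  have hT : Function.Injective T := by
    rw [← LinearMap.ker_eq_bot, LinearMap.ker_eq_bot']
    intro v hv
    have hv' : v + φ v • (f' - f) = 0 := hv
    have := congrArg φ hv'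
    rw [map_add, map_smul, map_sub, map_zero, h1, smul_eq_mul, mul_sub, mul_one,
      add_sub_cancel] at this
    rw [(mul_eq_zero.1 this).resolve_right h2, zero_smul, add_zero] at hv'
    exact hv'
  refine ⟨LinearEquiv.ofInjectiveEndo T hT, ?_, ?_⟩ <;> simp [T, h0, h1]

/-- The stabiliser of the line through `e`. -/
def lineStab (e : V) : Subgroup (V ≃ₗ[F] V) where
  carrier := {g | ∃ c : F, c ≠ 0 ∧ g e = c • e}
  mul_mem' {g h} := fun ⟨c, hc, hg⟩ ⟨c', hc', hh⟩ =>
    ⟨c' * c, mul_ne_zero hc' hc, by rw [LinearEquiv.mul_apply, hh, map_smul, hg, smul_smul]⟩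
  one_mem' := ⟨1, one_ne_zero, by simp⟩
  inv_mem' {g} := fun ⟨c, hc, hg⟩ => ⟨c⁻¹, inv_ne_zero hc, by
    apply g.injective
    rw [map_smul, hg, smul_smul, inv_mul_cancel₀ hc, one_smul]
    exact g.apply_symm_apply e⟩

theorem mem_lineStab_of_mem_span {e : V} (he : e ≠ 0) {g : V ≃ₗ[F] V} (h : g e ∈ F ∙ e) :
    g ∈ lineStab (F := F) e := by
  obtain ⟨c, hc⟩ := Submodule.mem_span_singleton.1 h
  refine ⟨c, fun h0 => he ?_, hc.symm⟩
  rw [h0, zero_smul] at hc
  exact g.injective (by rw [← hc, map_zero])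

theorem lineStab_isCoatom {e : V} (he : e ≠ 0) (hd : 2 ≤ finrank F V) :
    IsCoatom (lineStab (F := F) e) := by
  obtain ⟨f, hf⟩ : ∃ f, f ∉ F ∙ e := by
    by_contra! h
    have htop : (F ∙ e) = ⊤ := eq_top_iff.2 fun x _ => h x
    have := finrank_span_singleton (K := F) he
    rw [htop, finrank_top] at this
    omega
  have hf0 : f ≠ 0 := fun h => hf (h ▸ Submodule.zero_mem _)
  obtain ⟨u, -, hu⟩ := exists_fix_move (F := F) (e := (0 : V)) (f := e) (f' := f)
    (by simpa using he) (by simpa using hf0)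
  have hu2 : u ∉ lineStab (F := F) e := fun ⟨c, _, hc⟩ =>
    hf (Submodule.mem_span_singleton.2 ⟨c, hc.symm.trans hu⟩)
  refine ⟨fun h => hu2 (h ▸ Subgroup.mem_top u), fun S hS => ?_⟩
  obtain ⟨s, hsS, hs⟩ := SetLike.exists_of_lt hS
  have hse : s e ∉ F ∙ e := fun h => hs (mem_lineStab_of_mem_span he h)
  refine eq_top_iff.2 fun g _ => ?_
  by_cases hg : g e ∈ F ∙ e
  · exact hS.le (mem_lineStab_of_mem_span he hg)
  obtain ⟨t, ht1, ht2⟩ := exists_fix_move hse hg
  have h : (t * s)⁻¹ * g ∈ lineStab (F := F) e := by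
    refine ⟨1, one_ne_zero, ?_⟩
    rw [one_smul]
    apply (t * s).injective
    rw [← LinearEquiv.mul_apply, mul_inv_cancel_left, LinearEquiv.mul_apply, ht2]
  have hts : t * s ∈ S := S.mul_mem (hS.le ⟨1, one_ne_zero, by rw [ht1, one_smul]⟩) hsS
  have := S.mul_mem hts (hS.le h)
  rwa [mul_inv_cancel_left] at this

theorem toAffine_mul (f g : V ≃ₗ[F] V) :
    (f * g).toAffineEquiv = f.toAffineEquiv * g.toAffineEquiv :=
  AffineEquiv.ext fun _ => rfl

@[reducible] def affAct : MulAction (V ≃ᵃ[F] V) V where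
  smul g v := g v
  one_smul _ := rfl
  mul_smul _ _ _ := rfl

attribute [local instance] affAct

/-- The stabiliser of the origin in the affine group. -/
def originStab : Subgroup (V ≃ᵃ[F] V) := MulAction.stabilizer _ (0 : V)

theorem mem_originStab {g : V ≃ᵃ[F] V} : g ∈ originStab ↔ g 0 = 0 := Iff.rfl

theorem toAffine_mem (f : V ≃ₗ[F] V) : f.toAffineEquiv ∈ originStab (F := F) (V := V) :=
  mem_originStab.2 (map_zero f)

theorem linear_apply {g : V ≃ᵃ[F] V} (hg : g 0 = 0) (v : V) : g v = g.linear v := by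
  have := g.map_vadd 0 v
  simpa [hg] using this

theorem linear_toAffine {g : V ≃ᵃ[F] V} (hg : g 0 = 0) : g.linear.toAffineEquiv = g :=
  AffineEquiv.ext fun v => (linear_apply hg v).symm

/-- The stabiliser of the origin is maximal. -/
theorem originStab_sup {K : Subgroup (V ≃ᵃ[F] V)} (hK : originStab < K) : K = ⊤ := by
  obtain ⟨g, hgK, hg⟩ := SetLike.exists_of_lt hK
  have key : ∀ v : V, ∃ k ∈ K, k 0 = v := by
    intro v
    by_cases hv : v = 0
    · exact ⟨1, K.one_mem, hv.symm ▸ rfl⟩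
    have hw : g 0 ≠ 0 := hg ∘ mem_originStab.2
    obtain ⟨h, -, hh⟩ := exists_fix_move (F := F) (e := (0 : V)) (f := g 0) (f' := v)
      (by simpa using hw) (by simpa using hv)
    exact ⟨h.toAffineEquiv * g, K.mul_mem (hK.le (toAffine_mem h)) hgK, hh⟩
  refine eq_top_iff.2 fun x _ => ?_
  obtain ⟨k, hk, hk0⟩ := key (x 0)
  have : k⁻¹ * x ∈ originStab := mem_originStab.2 (by
    show k⁻¹ (x 0) = 0
    rw [← hk0]
    exact k.symm_apply_apply 0)
  simpa using K.mul_mem hk (hK.le this)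

theorem example_exists [Fintype F] [Finite V] {e : V} (he : e ≠ 0) (hd : 2 ≤ finrank F V) :
    ∃ M H K : Subgroup (V ≃ᵃ[F] V), IsCoatom M ∧ M.index = Nat.card V ∧ H ≤ M ∧
      IsCoatom (H.subgroupOf M) ∧ IsCoatom K ∧ H ≤ K ∧ ¬ IsCoatom (H.subgroupOf K) := by
  let l : (V ≃ᵃ[F] V) →* (V ≃ₗ[F] V) := AffineEquiv.linearHom
  have hls : Function.Surjective l := fun f => ⟨f.toAffineEquiv, rfl⟩
  let K := (lineStab (F := F) e).comap l
  have hK : IsCoatom K :=
    Subgroup.isCoatom_comap_of_surjective hls (lineStab_isCoatom he hd)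
  have hM : IsCoatom (originStab (F := F) (V := V)) := by
    refine ⟨fun h => ?_, fun K hK => originStab_sup hK⟩
    have : AffineEquiv.constVAdd F V e ∈ originStab (F := F) (V := V) := by rw [h]; trivial
    rw [mem_originStab] at this
    simp at this
    exact he this
  refine ⟨originStab, originStab ⊓ K, K, hM, ?_, inf_le_left, ?_, hK, inf_le_right, ?_⟩
  · have : MulAction.IsPretransitive (V ≃ᵃ[F] V) V :=
      ⟨fun x y => ⟨AffineEquiv.constVAdd F V (y - x), show AffineEquiv.constVAdd F V (y - x) x = y by simp⟩⟩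
    exact MulAction.index_stabilizer_of_transitive _ _
  · let m : originStab (F := F) (V := V) →* (V ≃ₗ[F] V) := l.comp (Subgroup.subtype _)
    have hm : Function.Surjective m := fun f => ⟨⟨f.toAffineEquiv, toAffine_mem f⟩, rfl⟩
    rw [show (originStab ⊓ K).subgroupOf (originStab (F := F) (V := V)) =
      (lineStab (F := F) e).comap m from by ext x; simp [Subgroup.mem_subgroupOf, K, m]]
    exact Subgroup.isCoatom_comap_of_surjective hm (lineStab_isCoatom he hd)
  · intro h
    let J : Subgroup K :=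
      { carrier := {x | (x : V ≃ᵃ[F] V) 0 ∈ F ∙ e}
        mul_mem' := fun {x y} hx hy => by
          obtain ⟨c, -, hc⟩ := x.2
          obtain ⟨a, ha⟩ := Submodule.mem_span_singleton.1 hy
          have := (x : V ≃ᵃ[F] V).map_vadd 0 ((y : V ≃ᵃ[F] V) 0)
          simp only [vadd_eq_add, add_zero] at this
          show (x : V ≃ᵃ[F] V) ((y : V ≃ᵃ[F] V) 0) ∈ F ∙ e
          rw [this, ← ha, map_smul]
          exact Submodule.add_mem _ (Submodule.smul_mem _ _
            (Submodule.mem_span_singleton.2 ⟨c, hc.symm⟩)) hx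
        one_mem' := (Submodule.zero_mem (F ∙ e) : (0 : V) ∈ F ∙ e)
        inv_mem' := fun {x} hx => by
          obtain ⟨c, c0, hc⟩ := x.2
          obtain ⟨a, ha⟩ := Submodule.mem_span_singleton.1 hx
          refine Submodule.mem_span_singleton.2 ⟨-a / c, ?_⟩
          apply (x : V ≃ᵃ[F] V).injective
          have := (x : V ≃ᵃ[F] V).map_vadd 0 ((-a / c) • e)
          simp only [vadd_eq_add, add_zero, map_smul] at this
          rw [this]
          change (-a / c) • l (x : V ≃ᵃ[F] V) e + (x : V ≃ᵃ[F] V) 0 = _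
          rw [hc, ← ha, smul_smul, div_mul_cancel₀ _ c0, neg_smul, neg_add_cancel]
          exact ((x : V ≃ᵃ[F] V).apply_symm_apply 0).symm }
    have hle : (originStab ⊓ K).subgroupOf K ≤ J := fun x hx => by
      show (x : V ≃ᵃ[F] V) 0 ∈ F ∙ e
      rw [show (x : V ≃ᵃ[F] V) 0 = 0 from mem_originStab.1 hx.1]
      exact Submodule.zero_mem _
    obtain ⟨f, hf⟩ : ∃ f, f ∉ F ∙ e := by
      by_contra! hh
      have htop : (F ∙ e) = ⊤ := eq_top_iff.2 fun x _ => hh x
      have := finrank_span_singleton (K := F) he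
      rw [htop, finrank_top] at this
      omega
    have htr : ∀ v : V, AffineEquiv.constVAdd F V v ∈ K := fun v =>
      ⟨1, one_ne_zero, by simp [K, l]⟩
    rcases hle.lt_or_eq with hlt | heq
    · have hJ := h.2 J hlt
      have : (⟨_, htr f⟩ : K) ∈ J := by rw [hJ]; trivial
      have h2 : (AffineEquiv.constVAdd F V f) 0 ∈ F ∙ e := this
      exact hf (by simpa using h2)
    · have hx : (⟨_, htr e⟩ : K) ∈ J := by
        show (AffineEquiv.constVAdd F V e) 0 ∈ F ∙ e
        simp
      rw [← heq] at hx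
      have := mem_originStab.1 hx.1
      exact he (by simpa using this)

end Cfsg.Agent.AffineLineExample
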