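import Mathlib

/-!
The even permutations preserving a partition into equal blocks form a maximal subgroup of the alternating group.
-/

set_option autoImplicit false

namespace Cfsg.Agent.Classical.AltWreath

open MulAction Pointwise

variable {Ω : Type*} [Fintype Ω] [DecidableEq Ω] {a b : ℕ} {f : Ω → Fin b}

/-- The permutation respects the fibres. -/
def Pres (f : Ω → Fin b) (g : Equiv.Perm Ω) : Prop := ∀ x y : Ω, f x = f y ↔ f (g x) = f (g y)

/-- The group of even permutations respecting the fibres. -/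
def evenPres (f : Ω → Fin b) : Subgroup (Equiv.Perm Ω) :=
  Subgroup.closure {g : Equiv.Perm Ω | Pres f g} ⊓ alternatingGroup Ω

theorem pres_of_mem_closure {g : Equiv.Perm Ω} (hg : g ∈ Subgroup.closure {g : Equiv.Perm Ω | Pres f g}) :
    Pres f g := by
  induction hg using Subgroup.closure_induction with
  | mem g hg => exact hg
  | one => exact fun x y => Iff.rfl
  | mul g h _ _ ihg ihh => exact fun x y => (ihh x y).trans (ihg (h x) (h y))
  | inv g _ ih =>
    intro x y
    have h := ih (g⁻¹ x) (g⁻¹ y)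
    simp only [Equiv.Perm.coe_inv, Equiv.apply_symm_apply] at h
    exact h.symm

theorem mem_evenPres {g : Equiv.Perm Ω} : g ∈ evenPres f ↔ Pres f g ∧ Equiv.Perm.sign g = 1 := by
  rw [evenPres, Subgroup.mem_inf, Equiv.Perm.mem_alternatingGroup]
  exact and_congr_left fun _ => ⟨pres_of_mem_closure, fun h => Subgroup.subset_closure h⟩

theorem pres_mul {g h : Equiv.Perm Ω} (hg : Pres f g) (hh : Pres f h) : Pres f (g * h) :=
  fun x y => (hh x y).trans (hg (h x) (h y))

theorem swap_fibre {x y : Ω} (hxy : f x = f y) (z : Ω) : f (Equiv.swap x y z) = f z := by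
  rw [Equiv.swap_apply_def]
  split_ifs with h1 h2
  · rw [h1, hxy]
  · rw [h2, hxy]
  · rfl

theorem pres_swap {x y : Ω} (hxy : f x = f y) : Pres f (Equiv.swap x y) := fun u v => by
  rw [swap_fibre hxy, swap_fibre hxy]

theorem double_mem {x y z w : Ω} (hxy : f x = f y) (hzw : f z = f w) (h1 : x ≠ y) (h2 : z ≠ w) :
    Equiv.swap x y * Equiv.swap z w ∈ evenPres f := by
  rw [mem_evenPres, map_mul, Equiv.Perm.sign_swap h1, Equiv.Perm.sign_swap h2]
  exact ⟨pres_mul (pres_swap hxy) (pres_swap hzw), by decide⟩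

theorem exists_fin_notMem (s : Finset (Fin b)) (h : s.card < b) : ∃ k, k ∉ s := by
  by_contra hc
  push Not at hc
  rw [Finset.eq_univ_of_forall hc, Finset.card_univ, Fintype.card_fin] at h
  exact lt_irrefl _ h

/-- The data of the partition. -/
structure Blocks (f : Ω → Fin b) (a : ℕ) : Prop where
  two_a : 2 ≤ a
  two_b : 2 ≤ b
  card : ∀ i : Fin b, Nat.card {x : Ω // f x = i} = a

variable (D : Blocks f a)
include D

theorem exists_point (i : Fin b) : ∃ z, f z = i := by
  have : Nonempty {x : Ω // f x = i} := (Nat.card_pos_iff.mp (by rw [D.card i]; have := D.two_a; omega)).1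
  exact ⟨this.some, this.some.2⟩

theorem card_fibre (x : Ω) : (Finset.univ.filter fun z => f z = f x).card = a := by
  rw [← D.card (f x), Nat.card_eq_fintype_card, Fintype.card_subtype]

theorem exists_other (x : Ω) : ∃ y, f y = f x ∧ y ≠ x := by
  have h := card_fibre D x
  have h2 := D.two_a
  obtain ⟨y, hy, hne⟩ := Finset.exists_mem_ne (s := Finset.univ.filter fun z => f z = f x) (by omega) x
  exact ⟨y, (Finset.mem_filter.mp hy).2, hne⟩

theorem exists_third (ha : 3 ≤ a) {x : Ω} (y : Ω) : ∃ z, f z = f x ∧ z ≠ x ∧ z ≠ y := by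
  have h := card_fibre D x
  obtain ⟨z, hz⟩ : ((Finset.univ.filter fun z => f z = f x) \ {x, y}).Nonempty := by
    rw [← Finset.card_pos]
    have := Finset.le_card_sdiff {x, y} (Finset.univ.filter fun z => f z = f x)
    have : ({x, y} : Finset Ω).card ≤ 2 := Finset.card_le_two
    omega
  simp at hz
  exact ⟨z, hz.1, hz.2.1, hz.2.2⟩

theorem pair_eq (ha : a = 2) {x y z : Ω} (hyx : f y = f x) (hne : y ≠ x) (hzx : f z = f x) : z = x ∨ z = y := by
  have h := card_fibre D x
  by_contra hc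
  push Not at hc
  have : ({x, y, z} : Finset Ω) ⊆ Finset.univ.filter fun z => f z = f x := by
    intro w hw
    simp at hw
    rcases hw with rfl | rfl | rfl <;> simp [hyx, hzx]
  have := Finset.card_le_card this
  rw [Finset.card_eq_three.mpr ⟨x, y, z, hne.symm, Ne.symm hc.1, Ne.symm hc.2, rfl⟩] at this
  omega

theorem exists_perm (π : Equiv.Perm (Fin b)) : ∃ h ∈ evenPres f, ∀ x, f (h x) = π (f x) := by
  obtain ⟨e, he⟩ : ∃ e : Ω ≃ Fin b × Fin a, ∀ x, (e x).1 = f x := by
    have eq : ∀ i : Fin b, {x : Ω // f x = i} ≃ Fin a := fun i =>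
      (Finite.equivFin _).trans (finCongr (D.card i))
    exact ⟨(Equiv.sigmaFiberEquiv f).symm.trans ((Equiv.sigmaCongrRight eq).trans (Equiv.sigmaEquivProd _ _)),
      fun x => rfl⟩
  set w : Equiv.Perm Ω := (e.trans (Equiv.prodCongr π (Equiv.refl _))).trans e.symm with hw
  have hwf : ∀ x, f (w x) = π (f x) := fun x => by simp [hw, ← he]
  have hwp : Pres f w := fun x y => by simp [hwf]
  rcases Int.units_eq_one_or (Equiv.Perm.sign w) with hs | hs
  · exact ⟨w, mem_evenPres.mpr ⟨hwp, hs⟩, hwf⟩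
  · obtain ⟨x, -⟩ := exists_point D ⟨0, by have := D.two_b; omega⟩
    obtain ⟨y, hy, hne⟩ := exists_other D x
    refine ⟨w * Equiv.swap x y, mem_evenPres.mpr ⟨pres_mul hwp (pres_swap hy.symm), ?_⟩, fun z => ?_⟩
    · rw [map_mul, hs, Equiv.Perm.sign_swap hne.symm]; decide
    · rw [Equiv.Perm.mul_apply, hwf, swap_fibre hy.symm]

theorem exists_fix_move (hb : 3 ≤ a ∨ 3 ≤ b) {x y y' : Ω} (hyy : f y' = f y) (hxy : f x ≠ f y) :
    ∃ h ∈ evenPres f, h x = x ∧ h y = y' := by
  rcases eq_or_ne y' y with rfl | hne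
  · exact ⟨1, Subgroup.one_mem _, rfl, rfl⟩
  have hx1 : x ≠ y := fun e => hxy (by rw [e])
  have hx2 : x ≠ y' := fun e => hxy (by rw [e, hyy])
  rcases Nat.lt_or_ge a 3 with ha | ha
  · have hb' : 3 ≤ b := hb.resolve_left (by omega)
    obtain ⟨k, hk⟩ : ∃ k : Fin b, k ∉ ({f x, f y} : Finset (Fin b)) :=
      exists_fin_notMem _ (by
        have : ({f x, f y} : Finset (Fin b)).card ≤ 2 := Finset.card_le_two
        omega)
    simp at hk
    obtain ⟨z, rfl⟩ := exists_point D k
    obtain ⟨z', hz', hzne⟩ := exists_other D z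
    have n1 : x ≠ z := fun e => hk.1 (by rw [e])
    have n2 : x ≠ z' := fun e => hk.1 (by rw [e, hz'])
    have n3 : y ≠ z := fun e => hk.2 (by rw [e])
    have n4 : y ≠ z' := fun e => hk.2 (by rw [e, hz'])
    refine ⟨_, double_mem hyy.symm hz'.symm hne.symm hzne.symm, ?_, ?_⟩
    · rw [Equiv.Perm.mul_apply, Equiv.swap_apply_of_ne_of_ne n1 n2, Equiv.swap_apply_of_ne_of_ne hx1 hx2]
    · rw [Equiv.Perm.mul_apply, Equiv.swap_apply_of_ne_of_ne n3 n4, Equiv.swap_apply_left]
  · obtain ⟨z, hz, hz1, hz2⟩ := exists_third D ha (x := y) y'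
    refine ⟨_, double_mem hyy.symm (hyy.trans hz.symm) hne.symm hz2.symm, ?_, ?_⟩
    · rw [Equiv.Perm.mul_apply, Equiv.swap_apply_of_ne_of_ne hx2 (fun e => hxy (by rw [e, hz])),
        Equiv.swap_apply_of_ne_of_ne hx1 hx2]
    · rw [Equiv.Perm.mul_apply, Equiv.swap_apply_of_ne_of_ne hne.symm hz1.symm, Equiv.swap_apply_left]

variable (G : Subgroup (Equiv.Perm Ω)) (hG : evenPres f ≤ G)
include hG

theorem pretransitive (hb : 3 ≤ a ∨ 3 ≤ b) : IsPretransitive G Ω := by
  refine ⟨fun x y => ?_⟩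
  suffices ∃ g ∈ G, g x = y by obtain ⟨g, hg, e⟩ := this; exact ⟨⟨g, hg⟩, e⟩
  obtain ⟨h, hh, hf⟩ := exists_perm D (Equiv.swap (f x) (f y))
  have h1 : f (h x) = f y := by rw [hf, Equiv.swap_apply_left]
  obtain ⟨z, hz⟩ : ∃ z, f z ≠ f y := by
    obtain ⟨k, hk⟩ : ∃ k : Fin b, k ≠ f y := Fintype.exists_ne_of_one_lt_card
      (by rw [Fintype.card_fin]; have := D.two_b; omega) (f y)
    obtain ⟨z, rfl⟩ := exists_point D k
    exact ⟨z, hk⟩
  obtain ⟨h', hh', -, h2⟩ := exists_fix_move D hb (x := z) (y := h x) (y' := y) h1.symm (h1 ▸ hz)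
  exact ⟨h' * h, G.mul_mem (hG hh') (hG hh), h2⟩

theorem preprimitive (hb : 3 ≤ a ∨ 3 ≤ b) {g : Equiv.Perm Ω} (hg : g ∈ G) {x₀ y₀ : Ω} (h₀ : f x₀ = f y₀)
    (hcut : f (g x₀) ≠ f (g y₀)) : IsPreprimitive G Ω := by
  haveI := pretransitive D G hG hb
  refine { isTrivialBlock_of_isBlock := fun {B} hB => ?_ }
  rcases B.subsingleton_or_nontrivial with hs | ⟨u, hu, v, hv, huv⟩
  · exact Or.inl hs
  right
  have hstab : ∀ h ∈ G, ∀ p ∈ B, h p ∈ B → ∀ q ∈ B, h q ∈ B := by
    intro h hh p hp hp' q hq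
    have e : (⟨h, hh⟩ : G) • B = B := hB.smul_eq_of_mem (a := p) hp hp'
    rw [← e]; exact Set.smul_mem_smul_set hq
  have hcross : ∀ p ∈ B, ∀ q ∈ B, f p ≠ f q → ∀ q', f q' = f q → q' ∈ B := by
    intro p hp q hq hpq q' hq'
    obtain ⟨h, hh, h1, h2⟩ := exists_fix_move D hb hq' hpq
    rw [← h2]
    exact hstab h (hG hh) p hp (by rw [h1]; exact hp) q hq
  have hfull : ∀ p ∈ B, ∀ p', f p' = f p → p' ∈ B := by
    intro p hp p' hp'
    by_cases hex : ∃ q ∈ B, f q ≠ f p
    · obtain ⟨q, hq, hne⟩ := hex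
      exact hcross q hq p hp hne p' hp'
    · push Not at hex
      obtain ⟨q, hq, hqp⟩ : ∃ q ∈ B, q ≠ p := by
        by_cases hu' : u = p
        · exact ⟨v, hv, fun e => huv (hu'.trans e.symm)⟩
        · exact ⟨u, hu, hu'⟩
      rcases eq_or_ne p' p with rfl | hne1
      · exact hp
      rcases eq_or_ne p' q with rfl | hne2
      · exact hq
      rcases Nat.lt_or_ge a 3 with ha | ha
      · exact absurd (pair_eq D (le_antisymm (by omega) D.two_a) (hex q hq) hqp hp') (by simp [hne1, hne2])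
      · have hm : Equiv.swap p q * Equiv.swap q p' ∈ evenPres f :=
          double_mem (hex q hq).symm ((hex q hq).trans hp'.symm) hqp.symm hne2.symm
        have h1 : (Equiv.swap p q * Equiv.swap q p') p = q := by
          rw [Equiv.Perm.mul_apply, Equiv.swap_apply_of_ne_of_ne hqp.symm hne1.symm, Equiv.swap_apply_left]
        have h2 : (Equiv.swap p q * Equiv.swap q p') q = p' := by
          rw [Equiv.Perm.mul_apply, Equiv.swap_apply_left, Equiv.swap_apply_of_ne_of_ne hne1 hne2]
        rw [← h2]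
        exact hstab _ (hG hm) p hp (by rw [h1]; exact hq) q hq
  by_cases htwo : ∃ q ∈ B, f q ≠ f u
  · obtain ⟨q, hq, hne⟩ := htwo
    refine Set.eq_univ_of_forall fun z => ?_
    by_contra hz
    have h1 : f z ≠ f u := fun e => hz (hfull u hu z e)
    obtain ⟨h, hh, hf⟩ := exists_perm D (Equiv.swap (f q) (f z))
    have hu' : h u ∈ B := hfull u hu _ (by rw [hf, Equiv.swap_apply_of_ne_of_ne hne.symm h1.symm])
    have hq' := hstab h (hG hh) u hu hu' q hq
    exact hz (hfull _ hq' z (by rw [hf, Equiv.swap_apply_left]))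
  · exfalso
    push Not at htwo
    have hBeq : ∀ z, z ∈ B ↔ f z = f u := fun z => ⟨htwo z, hfull u hu z⟩
    obtain ⟨h, hh, hf⟩ := exists_perm D (Equiv.swap (f u) (f x₀))
    obtain ⟨k, hk, hkf⟩ := exists_perm D (Equiv.swap (f u) (f (g x₀)))
    -- transport the two blocks back to `B`
    have hmem : ∀ (w : Equiv.Perm Ω), (∀ x, f (w x) = Equiv.swap (f u) (f x₀) (f x)) → ∀ z, f z = f x₀ → w z ∈ B :=
      fun w hw z hz => (hBeq _).mpr (by rw [hw, hz, Equiv.swap_apply_right])
    have hp := hmem h hf x₀ rfl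
    have hq := hmem h hf y₀ h₀.symm
    have hc : k * g * h⁻¹ ∈ G := G.mul_mem (G.mul_mem (hG hk) hg) (G.inv_mem (hG hh))
    have e : ∀ z, (k * g * h⁻¹) (h z) = k (g z) := fun z => by simp
    have hpc : (k * g * h⁻¹) (h x₀) ∈ B := by
      rw [e, hBeq, hkf, Equiv.swap_apply_right]
    have hqc := hstab _ hc _ hp hpc _ hq
    rw [e, hBeq, hkf] at hqc
    exact hcut ((Equiv.swap (f u) (f (g x₀))).injective (hqc.trans (Equiv.swap_apply_right _ _).symm)).symm

theorem exists_threeCycle (hcase : 3 ≤ a ∨ 5 ≤ b) {g : Equiv.Perm Ω} (hg : g ∈ G) {x y : Ω} (h₀ : f x = f y)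
    (hcut : f (g x) ≠ f (g y)) : ∃ t ∈ G, Equiv.Perm.IsThreeCycle t := by
  rcases Nat.lt_or_ge a 3 with ha | ha
  swap
  · obtain ⟨y, hy, hyx⟩ := exists_other D x
    obtain ⟨z, hz, hz1, hz2⟩ := exists_third D ha (x := x) y
    exact ⟨_, hG (double_mem hy.symm hz.symm hyx.symm hz1.symm),
      Equiv.Perm.isThreeCycle_swap_mul_swap_same hyx.symm hz1.symm hz2.symm⟩
  have ha2 : a = 2 := le_antisymm (by omega) D.two_a
  have hb : 5 ≤ b := hcase.resolve_left (by omega)
  set u := g x
  set v := g y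
  have hxy : x ≠ y := fun e => hcut (by show f (g x) = f (g y); rw [e])
  obtain ⟨u', hu', hu'ne⟩ := exists_other D u
  obtain ⟨v', hv', hv'ne⟩ := exists_other D v
  obtain ⟨k, hk⟩ : ∃ k : Fin b, k ∉ ({f x, f (g⁻¹ u')} : Finset (Fin b)) :=
    exists_fin_notMem _ (by
      have : ({f x, f (g⁻¹ u')} : Finset (Fin b)).card ≤ 2 := Finset.card_le_two
      omega)
  simp at hk
  obtain ⟨c, rfl⟩ := exists_point D k
  obtain ⟨c', hc', hc'ne⟩ := exists_other D c
  set s : Equiv.Perm Ω := g * (Equiv.swap x y * Equiv.swap c c') * g⁻¹ with hs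
  have hsG : s ∈ G := G.mul_mem (G.mul_mem hg (hG (double_mem h₀ hc'.symm hxy hc'ne.symm))) (G.inv_mem hg)
  have hseq : s = Equiv.swap u v * Equiv.swap (g c) (g c') := by
    rw [Equiv.swap_apply_apply g x y, Equiv.swap_apply_apply g c c', hs]; group
  have huc : u ≠ g c ∧ u ≠ g c' ∧ v ≠ g c ∧ v ≠ g c' := by
    refine ⟨fun e => hk.1 ?_, fun e => hk.1 ?_, fun e => hk.1 ?_, fun e => hk.1 ?_⟩
    · rw [g.injective e]
    · rw [g.injective e, hc']
    · rw [h₀, g.injective e]
    · rw [h₀, g.injective e, hc']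
  have hu'v : u' ≠ v := fun e => hcut (by rw [← hu', e])
  have hu'u : u' ≠ u := hu'ne
  have hsu' : s u' ≠ v' := by
    intro e
    have hgu : u' = g c ∨ u' = g c' ∨ (u' ≠ g c ∧ u' ≠ g c') := by tauto
    rcases hgu with h | h | ⟨h1, h2⟩
    · exact hk.2 (by rw [h]; simp)
    · exact hk.2 (by rw [h]; simp [hc'])
    · rw [hseq, Equiv.Perm.mul_apply, Equiv.swap_apply_of_ne_of_ne h1 h2, Equiv.swap_apply_of_ne_of_ne hu'u hu'v] at e
      exact hcut (by rw [← hu', e, hv'])
  have hsu : s u = v := by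
    rw [hseq, Equiv.Perm.mul_apply, Equiv.swap_apply_of_ne_of_ne huc.1 huc.2.1, Equiv.swap_apply_left]
  have hsv : s u' ≠ v := fun e => hu'u (s.injective (e.trans hsu.symm))
  obtain ⟨k, hk4⟩ : ∃ k : Fin b, k ∉ ({f u, f v, f (g c), f (g c')} : Finset (Fin b)) :=
    exists_fin_notMem _ (by
      have : ({f u, f v, f (g c), f (g c')} : Finset (Fin b)).card ≤ 4 := Finset.card_le_four
      omega)
  simp at hk4
  obtain ⟨d, rfl⟩ := exists_point D k
  obtain ⟨d', hd', hd'ne⟩ := exists_other D d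
  have hfix : ∀ z, f z = f d → s z = z := by
    intro z hz
    have n1 : z ≠ g c := fun e => hk4.2.2.1 (by rw [← hz, e])
    have n2 : z ≠ g c' := fun e => hk4.2.2.2 (by rw [← hz, e])
    have n3 : z ≠ u := fun e => hk4.1 (by rw [← hz, e])
    have n4 : z ≠ v := fun e => hk4.2.1 (by rw [← hz, e])
    rw [hseq, Equiv.Perm.mul_apply, Equiv.swap_apply_of_ne_of_ne n1 n2, Equiv.swap_apply_of_ne_of_ne n3 n4]
  have hdv : f d ≠ f v := hk4.2.1
  have h1 : s * (Equiv.swap d d' * Equiv.swap u u') * s⁻¹ = Equiv.swap d d' * Equiv.swap v (s u') := by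
    have e : s * (Equiv.swap d d' * Equiv.swap u u') * s⁻¹ = Equiv.swap (s d) (s d') * Equiv.swap (s u) (s u') := by
      rw [Equiv.swap_apply_apply s d d', Equiv.swap_apply_apply s u u']; group
    rw [e, hfix d rfl, hfix d' hd', hsu]
  have hm : Equiv.swap v v' * Equiv.swap v (s u') ∈ G := by
    have h2 : Equiv.swap v v' * Equiv.swap v (s u') =
        (Equiv.swap v v' * Equiv.swap d d') * (s * (Equiv.swap d d' * Equiv.swap u u') * s⁻¹) := by
      rw [h1, mul_assoc (Equiv.swap v v'), Equiv.swap_mul_self_mul]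
    rw [h2]
    exact G.mul_mem (hG (double_mem hv'.symm hd'.symm hv'ne.symm hd'ne.symm))
      (G.mul_mem (G.mul_mem hsG (hG (double_mem hd'.symm hu'.symm hd'ne.symm hu'u.symm))) (G.inv_mem hsG))
  exact ⟨_, hm, Equiv.Perm.isThreeCycle_swap_mul_swap_same hv'ne.symm hsv.symm hsu'.symm⟩

/-- An overgroup is the whole alternating group, outside the small cases. -/
theorem alternating_le (hcase : 3 ≤ a ∨ 5 ≤ b) {g : Equiv.Perm Ω} (hg : g ∈ G) (hgp : ¬ Pres f g) :
    alternatingGroup Ω ≤ G := by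
  obtain ⟨x, y, hxy, hcut⟩ : ∃ x y, f x = f y ∧ f (g x) ≠ f (g y) := by
    by_contra hc
    push Not at hc
    choose sec hsec using exists_point D
    let σ : Fin b → Fin b := fun i => f (g (sec i))
    have hσ : ∀ x, f (g x) = σ (f x) := fun x => hc x (sec (f x)) (hsec (f x)).symm
    have hsurj : Function.Surjective σ := fun i => ⟨f (g⁻¹ (sec i)), by rw [← hσ]; simp [hsec]⟩
    have hinj : Function.Injective σ := Finite.injective_iff_surjective.mpr hsurj
    exact hgp fun u v => by rw [hσ u, hσ v]; exact ⟨fun e => congrArg σ e, fun e => hinj e⟩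
  obtain ⟨t, ht, ht3⟩ := exists_threeCycle D G hG hcase hg hxy hcut
  exact Equiv.Perm.alternatingGroup_le_of_isPreprimitive_of_isThreeCycle_mem
    (preprimitive D G hG (hcase.imp id (fun h => by omega)) hg hxy hcut) ht3 ht

omit D G hG in
/-- Preserving the first coordinate of a product. -/
def PresFst (g : Equiv.Perm (Fin b × Fin 2)) : Prop :=
  ∀ x y : Fin b × Fin 2, x.1 = y.1 ↔ (g x).1 = (g y).1

omit D G hG in
theorem card_model_two : Fintype.card {g : Equiv.Perm (Fin 2 × Fin 2) //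
    (∀ x y : Fin 2 × Fin 2, x.1 = y.1 ↔ (g x).1 = (g y).1) ∧ Equiv.Perm.sign g = 1} = 4 := by decide +kernel

omit D G hG in
theorem card_model_three : Fintype.card {g : Equiv.Perm (Fin 3 × Fin 2) //
    (∀ x y : Fin 3 × Fin 2, x.1 = y.1 ↔ (g x).1 = (g y).1) ∧ Equiv.Perm.sign g = 1} = 24 := by decide +kernel

omit G hG in
theorem card_evenPres (ha : a = 2) : Nat.card (evenPres f) =
    Nat.card {g : Equiv.Perm (Fin b × Fin 2) //
      (∀ x y : Fin b × Fin 2, x.1 = y.1 ↔ (g x).1 = (g y).1) ∧ Equiv.Perm.sign g = 1} := by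
  obtain ⟨e, he⟩ : ∃ e : Ω ≃ Fin b × Fin 2, ∀ x, (e x).1 = f x := by
    have eq : ∀ i : Fin b, {x : Ω // f x = i} ≃ Fin 2 := fun i =>
      (Finite.equivFin _).trans (finCongr ((D.card i).trans ha))
    exact ⟨(Equiv.sigmaFiberEquiv f).symm.trans ((Equiv.sigmaCongrRight eq).trans (Equiv.sigmaEquivProd _ _)),
      fun x => rfl⟩
  refine Nat.card_congr ((Equiv.subtypeEquivRight fun g => mem_evenPres).trans (e.permCongr.subtypeEquiv fun g => ?_))
  rw [Equiv.Perm.sign_permCongr]
  refine and_congr_left fun _ => ⟨fun h x y => ?_, fun h x y => ?_⟩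
  · simpa [Equiv.permCongr_apply, he, ← he (e.symm x), ← he (e.symm y)] using h (e.symm x) (e.symm y)
  · simpa [Equiv.permCongr_apply, he] using h (e x) (e y)

omit hG in
/-- The maximality statement. -/
theorem isCoatom (h8 : Fintype.card Ω ≠ 8) : IsCoatom ((evenPres f).subgroupOf (alternatingGroup Ω)) := by
  classical
  have hle : evenPres f ≤ alternatingGroup Ω := inf_le_right
  have hn : Fintype.card Ω = a * b := by
    rw [← Nat.card_eq_fintype_card, ← Nat.card_congr (Equiv.sigmaFiberEquiv f), Nat.card_sigma]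
    simp only [D.card, Finset.sum_const, Finset.card_univ, Fintype.card_fin, smul_eq_mul, mul_comm]
  have h2a := D.two_a
  have h2b := D.two_b
  constructor
  · intro htop
    rw [Subgroup.subgroupOf_eq_top] at htop
    obtain ⟨x, -⟩ := exists_point D ⟨0, by omega⟩
    obtain ⟨y, hy, hyx⟩ := exists_other D x
    obtain ⟨k, hk⟩ : ∃ k : Fin b, k ≠ f x :=
      Fintype.exists_ne_of_one_lt_card (by rw [Fintype.card_fin]; omega) (f x)
    obtain ⟨z, rfl⟩ := exists_point D k
    have hzx : z ≠ x := fun e => hk (by rw [e])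
    have hyz : y ≠ z := fun e => hk (by rw [← e, hy])
    have hm : Equiv.swap y x * Equiv.swap y z ∈ alternatingGroup Ω := by
      rw [Equiv.Perm.mem_alternatingGroup, map_mul, Equiv.Perm.sign_swap hyx, Equiv.Perm.sign_swap hyz]; decide
    have hp := (mem_evenPres.mp (htop hm)).1 x y
    rw [Equiv.Perm.mul_apply, Equiv.Perm.mul_apply, Equiv.swap_apply_of_ne_of_ne hyx.symm hzx.symm,
      Equiv.swap_apply_right, Equiv.swap_apply_left, Equiv.swap_apply_of_ne_of_ne hyz.symm hzx] at hp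
    exact hk ((hp.mp hy.symm).symm.trans hy)
  · intro K hK
    set L := K.map (alternatingGroup Ω).subtype with hL
    have hLA : L ≤ alternatingGroup Ω := Subgroup.map_subtype_le K
    have hHL : evenPres f ≤ L := fun g hg => ⟨⟨g, hle hg⟩, hK.le hg, rfl⟩
    obtain ⟨k, hkK, hkH⟩ := SetLike.exists_of_lt hK
    have hkL : (k : Equiv.Perm Ω) ∈ L := ⟨k, hkK, rfl⟩
    have hknot : ¬ Pres f (k : Equiv.Perm Ω) := fun hp =>
      hkH (Subgroup.mem_subgroupOf.mpr (mem_evenPres.mpr ⟨hp, Equiv.Perm.mem_alternatingGroup.mp k.2⟩))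
    suffices hA : alternatingGroup Ω ≤ L by
      refine eq_top_iff.mpr fun g _ => ?_
      obtain ⟨g', hg', e⟩ := hA g.2
      rwa [← Subtype.ext e]
    by_cases hcase : 3 ≤ a ∨ 5 ≤ b
    · exact alternating_le D L hHL hcase hkL hknot
    push Not at hcase
    have ha : a = 2 := by omega
    subst ha
    have hb4 : b ≠ 4 := fun e => h8 (by rw [hn, e])
    haveI : Nontrivial Ω := Fintype.one_lt_card_iff_nontrivial.mp (by rw [hn]; omega)
    have hcA := two_mul_nat_card_alternatingGroup (α := Ω)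
    rw [Nat.card_perm, Nat.card_eq_fintype_card (α := Ω), hn] at hcA
    have hlt : Nat.card (evenPres f) < Nat.card L := by
      refine lt_of_le_of_ne (Nat.card_le_card_of_injective _ (Subgroup.inclusion_injective hHL)) fun e => ?_
      have := Subgroup.eq_of_le_of_card_ge hHL e.ge
      exact hknot (mem_evenPres.mp (this ▸ hkL)).1
    have hd1 : Nat.card (evenPres f) ∣ Nat.card L := Subgroup.card_dvd_of_le hHL
    have hd2 : Nat.card L ∣ Nat.card (alternatingGroup Ω) := Subgroup.card_dvd_of_le hLA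
    refine le_of_eq (Subgroup.eq_of_le_of_card_ge hLA ?_).symm
    obtain rfl | rfl : b = 2 ∨ b = 3 := by omega
    · rw [card_evenPres D rfl, Nat.card_eq_fintype_card (α := {g : Equiv.Perm (Fin 2 × Fin 2) // _}), card_model_two] at hd1 hlt
      rw [show Nat.factorial (2 * 2) = 24 from rfl] at hcA
      rw [show Nat.card (alternatingGroup Ω) = 12 by omega] at hd2 ⊢
      have := Nat.le_of_dvd (by norm_num) hd2
      interval_cases h : Nat.card L <;> omega
    · rw [card_evenPres D rfl, Nat.card_eq_fintype_card (α := {g : Equiv.Perm (Fin 3 × Fin 2) // _}), card_model_three] at hd1 hlt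
      rw [show Nat.factorial (2 * 3) = 720 from rfl] at hcA
      have hA : Nat.card (alternatingGroup Ω) = 360 := by omega
      by_contra hne
      haveI := alternatingGroup.isSimpleGroup (α := Ω) (by rw [Nat.card_eq_fintype_card, hn]; norm_num)
      set M := L.subgroupOf (alternatingGroup Ω) with hM
      have hMc : Nat.card M = Nat.card L := Nat.card_congr (Subgroup.subgroupOfEquivOfLe hLA).toEquiv
      have hidx := Subgroup.card_mul_index M
      rw [hMc, hA] at hidx
      obtain ⟨c, hc⟩ := hd1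
      rw [hc] at hidx hlt hne
      have hc2 : 2 ≤ c := by omega
      have hd : M.index * c = 15 := by nlinarith
      have hi1 : M.index ≠ 1 := fun e => by rw [hA] at hne; rw [e] at hidx; omega
      have hi5 : M.index ≤ 5 := by
        have h2 : M.index * 2 ≤ M.index * c := Nat.mul_le_mul_left _ hc2
        have h3 : M.index ∣ 15 := ⟨c, hd.symm⟩
        have : M.index ≤ 7 := by omega
        interval_cases h : M.index <;> omega
      have hcore : M.normalCore = ⊥ := (M.normalCore_normal.eq_bot_or_eq_top).resolve_right fun e =>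
        hi1 (Subgroup.index_eq_one.mpr (eq_top_iff.mpr (e ▸ M.normalCore_le)))
      have hinj : Function.Injective (MulAction.toPermHom (alternatingGroup Ω) (alternatingGroup Ω ⧸ M)) := by
        rw [← MonoidHom.ker_eq_bot_iff, ← Subgroup.normalCore_eq_ker, hcore]
      have h1 := Nat.card_le_card_of_injective _ hinj
      rw [Nat.card_perm, ← Subgroup.index_eq_card, hA] at h1
      have h2 : M.index.factorial ≤ Nat.factorial 5 := Nat.factorial_le hi5
      rw [show Nat.factorial 5 = 120 from rfl] at h2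
      omega

end Cfsg.Agent.Classical.AltWreath
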