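import Cfsg.Agent.Lib.Classical.AschEvenType

/-! The quadratic forms over `F₂` with a fixed polar form: character sums and types. -/

set_option autoImplicit false

namespace Cfsg.Agent.ArfBinary

open Cfsg.Agent.Classical Module

/-- The sign character of `F₂`. -/
def chi (x : ZMod 2) : ℤ := if x = 0 then 1 else -1

theorem chi_add (x y : ZMod 2) : chi (x + y) = chi x * chi y := by revert x y; decide

theorem chi_sum {ι : Type*} (s : Finset ι) (f : ι → ZMod 2) :
    chi (∑ i ∈ s, f i) = ∏ i ∈ s, chi (f i) := by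
  induction s using Finset.cons_induction with
  | empty => simp [chi]
  | cons a s ha ih => rw [Finset.sum_cons, Finset.prod_cons, chi_add, ih]

/-- The Gauss sum of a function to `F₂`. -/
def gsum {X : Type*} [Fintype X] (q : X → ZMod 2) : ℤ := ∑ x, chi (q x)

theorem gsum_equiv {X Y : Type*} [Fintype X] [Fintype Y] (e : X ≃ Y) (q : X → ZMod 2)
    (q' : Y → ZMod 2) (h : ∀ x, q x = q' (e x)) : gsum q = gsum q' :=
  Fintype.sum_equiv e _ _ fun x => by rw [h x]

theorem two_mul_zeros {X : Type*} [Fintype X] (q : X → ZMod 2) :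
    2 * (Nat.card {x // q x = 0} : ℤ) = Fintype.card X + gsum q := by
  classical
  rw [Nat.card_eq_fintype_card, Fintype.card_subtype]
  have h : ∀ x, chi (q x) = 2 * (if q x = 0 then 1 else 0) - 1 := fun x => by
    generalize q x = y
    revert y; decide
  rw [gsum, Finset.sum_congr rfl (fun x _ => h x), Finset.sum_sub_distrib, ← Finset.mul_sum]
  simp

theorem hyperbolic_gsum (m : ℕ) :
    ∑ v : Fin m ⊕ Fin m → ZMod 2, chi (quadFormPlus m (ZMod 2) v) = 2 ^ m := by
  rw [Fintype.sum_equiv ((Equiv.sumArrowEquivProdArrow _ _ _).trans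
    (Equiv.arrowProdEquivProdArrow _ _ _).symm) _
    (fun z : Fin m → ZMod 2 × ZMod 2 => ∏ i, chi ((z i).1 * (z i).2)) fun v => by
      rw [quadFormPlus, chi_sum]; rfl]
  rw [← Fintype.prod_sum (fun (_ : Fin m) (z : ZMod 2 × ZMod 2) => chi (z.1 * z.2)),
    show (∑ z : ZMod 2 × ZMod 2, chi (z.1 * z.2)) = 2 from by decide]
  simp

theorem elliptic_gsum (n : ℕ) :
    gsum (quadFormMinus n (ZMod 2) 1 1) = -2 ^ (n + 1) := by
  rw [gsum, Fintype.sum_equiv (Equiv.sumArrowEquivProdArrow _ _ _) _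
    (fun z : (Fin n ⊕ Fin n → ZMod 2) × (Fin 2 → ZMod 2) => chi (quadFormPlus n (ZMod 2) z.1) *
      chi (z.2 0 ^ 2 + 1 * z.2 0 * z.2 1 + 1 * z.2 1 ^ 2)) fun v => by
      rw [← chi_add]; rfl, Fintype.sum_prod_type]
  dsimp only
  rw [← Fintype.sum_mul_sum, hyperbolic_gsum,
    show (∑ z : Fin 2 → ZMod 2, chi (z 0 ^ 2 + 1 * z 0 * z 1 + 1 * z 1 ^ 2)) = -2 from by decide]
  ring

variable (m : ℕ)

abbrev V : Type := Fin m ⊕ Fin m → ZMod 2

/-- The polar form of the hyperbolic form, as written in the statements. -/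
def polarFn (u v : V m) : ZMod 2 :=
  quadFormPlus m (ZMod 2) (u + v) - quadFormPlus m (ZMod 2) u - quadFormPlus m (ZMod 2) v

/-- The translate of the hyperbolic form by the functional of `w`. -/
def form (w : V m) (v : V m) : ZMod 2 := quadFormPlus m (ZMod 2) v + polarFn m v w

variable {m}

theorem polarFn_eq (u v : V m) :
    polarFn m u v = QuadraticMap.polarBilin (qfPlus m (ZMod 2)) u v := by
  simp [polarFn, QuadraticMap.polar, qfPlus_apply]

theorem polarFn_add_left (a b c : V m) : polarFn m (a + b) c = polarFn m a c + polarFn m b c := by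
  simp only [polarFn_eq, map_add, LinearMap.add_apply]

theorem polarFn_add_right (a b c : V m) : polarFn m a (b + c) = polarFn m a b + polarFn m a c := by
  simp only [polarFn_eq, map_add]

theorem qplus_add (u v : V m) :
    quadFormPlus m (ZMod 2) (u + v) =
      quadFormPlus m (ZMod 2) u + quadFormPlus m (ZMod 2) v + polarFn m u v := by
  unfold polarFn; ring

theorem form_polar (w u v : V m) : form m w (u + v) = form m w u + form m w v + polarFn m u v := by
  unfold form
  rw [qplus_add, polarFn_add_left]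
  ring

theorem form_inj {w w' : V m} (h : form m w = form m w') : w = w' := by
  have h1 : ∀ v, QuadraticMap.polarBilin (qfPlus m (ZMod 2)) v (w - w') = 0 := fun v => by
    rw [map_sub, ← polarFn_eq, ← polarFn_eq, sub_eq_zero]
    exact add_left_cancel (congrFun h v)
  exact sub_eq_zero.1 ((nondegenerate_qfPlus m).2 _ h1)

theorem exists_form (q : V m → ZMod 2) (hq : ∀ u v, q (u + v) = q u + q v + polarFn m u v) :
    ∃ w, q = form m w := by
  let l : V m →+ ZMod 2 := AddMonoidHom.mk' (fun v => q v - quadFormPlus m (ZMod 2) v) fun u v => by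
    rw [hq, qplus_add]; ring
  let f : V m → (V m →ₗ[ZMod 2] ZMod 2) := fun w =>
    (QuadraticMap.polarBilin (qfPlus m (ZMod 2))).flip w
  have hf : Function.Bijective f :=
    ((LinearMap.BilinForm.toDual (LinearMap.BilinForm.flip (QuadraticMap.polarBilin (qfPlus m (ZMod 2))))
      (show (LinearMap.BilinForm.flip (QuadraticMap.polarBilin (qfPlus m (ZMod 2)))).Nondegenerate from
        ⟨(nondegenerate_qfPlus m).2, (nondegenerate_qfPlus m).1⟩)).bijective : _)
  obtain ⟨w, hw⟩ := hf.2 (l.toZModLinearMap 2)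
  refine ⟨w, funext fun v => ?_⟩
  have h := LinearMap.congr_fun hw v
  simp only [f, LinearMap.flip_apply, ← polarFn_eq] at h
  unfold form
  rw [h]
  show q v = quadFormPlus m (ZMod 2) v + (q v - quadFormPlus m (ZMod 2) v)
  ring

theorem sq_eq (x : ZMod 2) : x * x = x := by revert x; decide

theorem form_shift (q : V m → ZMod 2) (hq : ∀ u v, q (u + v) = q u + q v + polarFn m u v) (w v : V m) :
    q v + polarFn m v w = q (v + w) + q w := by
  rw [hq, add_assoc (q v + q w) _ (q w), add_comm (polarFn m v w) (q w), ← add_assoc,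
    add_assoc (q v) (q w) (q w), CharTwo.add_self_eq_zero, add_zero]

theorem gsum_shift (q : V m → ZMod 2) (hq : ∀ u v, q (u + v) = q u + q v + polarFn m u v) (w : V m) :
    gsum (fun v => q v + polarFn m v w) = chi (q w) * gsum q := by
  rw [gsum, gsum, Finset.mul_sum]
  exact Fintype.sum_equiv (Equiv.addRight w) _ _ fun v => by
    rw [form_shift q hq, chi_add, mul_comm]; rfl

theorem gsum_form (w : V m) : gsum (form m w) = chi (quadFormPlus m (ZMod 2) w) * 2 ^ m := by
  rw [← hyperbolic_gsum]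
  exact gsum_shift (quadFormPlus m (ZMod 2)) qplus_add w

/-- The involution that absorbs the functional of a singular vector. -/
theorem exists_isometry_shift (q : V m → ZMod 2)
    (hq : ∀ u v, q (u + v) = q u + q v + polarFn m u v) {w : V m} (hw : q w = 0) :
    ∃ g : V m ≃ₗ[ZMod 2] V m, ∀ v, q v + polarFn m v w = q (g v) := by
  let B := QuadraticMap.polarBilin (qfPlus m (ZMod 2))
  let g : V m →ₗ[ZMod 2] V m := LinearMap.id + (B.flip w).smulRight w
  have hg : ∀ v, g v = v + polarFn m v w • w := fun v => by simp [g, B, polarFn_eq]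
  have hww : polarFn m w w = 0 := by
    have := hq w w
    rw [show w + w = (0 : V m) from funext fun i => CharTwo.add_self_eq_zero _,
      CharTwo.add_self_eq_zero, zero_add] at this
    rw [← this]
    have h0 := hq 0 0
    rw [add_zero, show polarFn m 0 0 = 0 by simp [polarFn_eq], add_zero] at h0
    rwa [left_eq_add] at h0
  have hinv : Function.Involutive g := fun v => by
    rw [hg, hg, polarFn_add_left, polarFn_eq (polarFn m v w • w), map_smul, LinearMap.smul_apply,
      ← polarFn_eq, hww, smul_zero, add_zero, add_assoc, ← add_smul, CharTwo.add_self_eq_zero,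
      zero_smul, add_zero]
  refine ⟨LinearEquiv.ofInvolutive g hinv, fun v => ?_⟩
  show _ = q (g v)
  rw [hg, hq]
  rcases (show ∀ x : ZMod 2, x = 0 ∨ x = 1 by decide) (polarFn m v w) with h | h
  · have h0 := hq 0 0
    rw [add_zero, show polarFn m 0 0 = 0 by simp [polarFn_eq], add_zero, left_eq_add] at h0
    simp [h, h0, show polarFn m v 0 = 0 by simp [polarFn_eq]]
  · rw [h, one_smul, hw, h, add_zero]

theorem card_zero_plus (hm : 1 ≤ m) :
    Nat.card {v : V m // quadFormPlus m (ZMod 2) v = 0} = 2 ^ (2 * m - 1) + 2 ^ (m - 1) := by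
  have h := two_mul_zeros (quadFormPlus m (ZMod 2))
  rw [show gsum (quadFormPlus m (ZMod 2)) = 2 ^ m from hyperbolic_gsum m, Fintype.card_fun,
    ZMod.card, Fintype.card_sum, Fintype.card_fin] at h
  obtain ⟨n, rfl⟩ : ∃ n, m = n + 1 := ⟨m - 1, by omega⟩
  rw [show n + 1 + (n + 1) = 2 * n + 1 + 1 by ring, pow_succ, pow_succ] at h
  rw [show 2 * (n + 1) - 1 = 2 * n + 1 by omega, Nat.add_sub_cancel]
  push_cast at h
  zify
  ring_nf at h ⊢
  linarith

theorem type_of_form (hm : 1 ≤ m) (w : V m) :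
    (quadFormPlus m (ZMod 2) w = 0 ∧ ∃ g : V m ≃ₗ[ZMod 2] V m,
      ∀ v, form m w v = quadFormPlus m (ZMod 2) (g v)) ∨
    (quadFormPlus m (ZMod 2) w = 1 ∧
      ∃ g : V m ≃ₗ[ZMod 2] ((Fin (m - 1) ⊕ Fin (m - 1)) ⊕ Fin 2 → ZMod 2),
        ∀ v, form m w v = quadFormMinus (m - 1) (ZMod 2) 1 1 (g v)) := by
  obtain ⟨n, rfl⟩ : ∃ n, m = n + 1 := ⟨m - 1, by omega⟩
  let l : V (n + 1) →ₗ[ZMod 2] ZMod 2 :=
    (QuadraticMap.polarBilin (qfPlus (n + 1) (ZMod 2))).flip w
  let Q : QuadraticForm (ZMod 2) (V (n + 1)) := qfPlus (n + 1) (ZMod 2) + QuadraticMap.linMulLin l l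
  have hQ : ∀ v, Q v = form (n + 1) w v := fun v => by
    simp [Q, l, form, polarFn_eq, qfPlus_apply, sq_eq]
  have hp : QuadraticMap.polarBilin Q = QuadraticMap.polarBilin (qfPlus (n + 1) (ZMod 2)) := by
    ext u v
    simp only [LinearMap.compl₂_apply, LinearMap.comp_apply, QuadraticMap.polarBilin_apply_apply,
      QuadraticMap.polar, hQ]
    rw [form_polar, qfPlus_apply, qfPlus_apply, qfPlus_apply]
    simp only [polarFn]
    ring
  have hn : (QuadraticMap.polarBilin Q).Nondegenerate := hp ▸ nondegenerate_qfPlus _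
  have hs := gsum_form w
  rcases EvenType.exists_std hn (m := n) (by rw [Module.finrank_pi]; simp; omega) with
    ⟨-, e, he⟩ | ⟨-, ζ, e, hζ, he⟩
  · left
    have h1 : ∀ v, form (n + 1) w v = quadFormPlus (n + 1) (ZMod 2) (e.symm v) := fun v => by
      rw [← hQ, ← qfPlus_apply, ← he, LinearEquiv.apply_symm_apply]
    refine ⟨?_, e.symm, h1⟩
    rw [gsum_equiv e.symm.toEquiv _ _ h1,
      show gsum (quadFormPlus (n + 1) (ZMod 2)) = 2 ^ (n + 1) from hyperbolic_gsum _] at hs
    rcases (show ∀ x : ZMod 2, x = 0 ∨ x = 1 by decide) (quadFormPlus (n + 1) (ZMod 2) w) with h | h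
    · exact h
    · rw [h, show chi 1 = -1 from rfl] at hs
      have : (0 : ℤ) < 2 ^ (n + 1) := by positivity
      linarith
  · right
    obtain rfl : ζ = 1 := by
      rcases (show ∀ x : ZMod 2, x = 0 ∨ x = 1 by decide) ζ with h | h
      · exact absurd (by rw [h]; simp) (hζ 0)
      · exact h
    have h1 : ∀ v, form (n + 1) w v = quadFormMinus n (ZMod 2) 1 1 (e.symm v) := fun v => by
      rw [← hQ, ← qfMinus_apply, ← he, LinearEquiv.apply_symm_apply]
    refine ⟨?_, e.symm, h1⟩
    rw [gsum_equiv e.symm.toEquiv _ _ h1, elliptic_gsum] at hs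
    rcases (show ∀ x : ZMod 2, x = 0 ∨ x = 1 by decide) (quadFormPlus (n + 1) (ZMod 2) w) with h | h
    · rw [h, show chi 0 = 1 from rfl] at hs
      have : (0 : ℤ) < 2 ^ (n + 1) := by positivity
      linarith
    · exact h

theorem plus_iff (hm : 1 ≤ m) (w : V m) :
    (∃ g : V m ≃ₗ[ZMod 2] V m, ∀ v, form m w v = quadFormPlus m (ZMod 2) (g v)) ↔
      quadFormPlus m (ZMod 2) w = 0 := by
  refine ⟨fun ⟨g, hg⟩ => ?_, fun h => ?_⟩
  · rcases type_of_form hm w with ⟨h, -⟩ | ⟨-, g', hg'⟩
    · exact h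
    · have e := (gsum_equiv g.toEquiv _ _ hg).symm.trans (gsum_equiv g'.toEquiv _ _ hg')
      rw [show gsum (quadFormPlus m (ZMod 2)) = 2 ^ m from hyperbolic_gsum _, elliptic_gsum,
        Nat.sub_add_cancel hm] at e
      have : (0 : ℤ) < 2 ^ m := by positivity
      linarith
  · exact exists_isometry_shift _ qplus_add h

theorem minus_iff (hm : 1 ≤ m) (w : V m) :
    (∃ g : V m ≃ₗ[ZMod 2] ((Fin (m - 1) ⊕ Fin (m - 1)) ⊕ Fin 2 → ZMod 2),
      ∀ v, form m w v = quadFormMinus (m - 1) (ZMod 2) 1 1 (g v)) ↔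
      quadFormPlus m (ZMod 2) w = 1 := by
  refine ⟨fun ⟨g, hg⟩ => ?_, fun h => ?_⟩
  · rcases type_of_form hm w with ⟨-, g', hg'⟩ | ⟨h, -⟩
    · have e := (gsum_equiv g.toEquiv _ _ hg).symm.trans (gsum_equiv g'.toEquiv _ _ hg')
      rw [show gsum (quadFormPlus m (ZMod 2)) = 2 ^ m from hyperbolic_gsum _, elliptic_gsum,
        Nat.sub_add_cancel hm] at e
      have : (0 : ℤ) < 2 ^ m := by positivity
      linarith
    · exact h
  · rcases type_of_form hm w with ⟨h', -⟩ | ⟨-, h'⟩
    · exact absurd (h'.symm.trans h) (by decide)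
    · exact h'

/-- Counting forms by counting vectors. -/
theorem card_forms (P : (V m → ZMod 2) → Prop) :
    Nat.card {q : V m → ZMod 2 // (∀ u v, q (u + v) = q u + q v + polarFn m u v) ∧ P q} =
      Nat.card {w : V m // P (form m w)} := by
  refine (Nat.card_congr (Equiv.ofBijective
    (fun w : {w : V m // P (form m w)} => ⟨form m w.1, form_polar w.1, w.2⟩) ⟨?_, ?_⟩)).symm
  · exact fun a b h => Subtype.ext (form_inj (congrArg Subtype.val h))
  · rintro ⟨q, hq, hP⟩
    obtain ⟨w, rfl⟩ := exists_form q hq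
    exact ⟨⟨w, hP⟩, rfl⟩

end Cfsg.Agent.ArfBinary
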