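import Cfsg.Agent.Lib.Classical.AschAbelianRoots

/-!
The case of a minimal normal subgroup which is abelian modulo scalars: a symplectic-type normaliser, a form, or a
subfield.
-/

set_option autoImplicit false
set_option linter.unusedSectionVars false
set_option linter.unusedFintypeInType false
set_option linter.unusedDecidableInType false

namespace Cfsg.Agent.Classical.Asch

open Matrix Module Cfsg.Geo
open scoped Pointwise

variable {F : Type*} [Field F] {ι : Type} [Fintype ι] [DecidableEq ι]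

/-- The group lies in a member of class five. -/
def InSubfieldClass [Fintype F] (H : Subgroup (GL ι F)) : Prop :=
  ∃ (F₀ : Subfield F) (r : ℕ) (P : GL ι F), r.Prime ∧ Fintype.card F = Nat.card F₀ ^ r ∧
    H ≤ subfieldSubgroup F₀ P

/-- The group lies in a member of class six. -/
def InNormalizerClass [Fintype F] (H : Subgroup (GL ι F)) : Prop :=
  ∃ (r m : ℕ) (R : Subgroup (GL ι F)), IsLinearSymplecticTypeData r R ∧ Fintype.card ι = r ^ m ∧
    H ≤ subgroupNormalizer R

theorem subfieldClass_of_realised [Fintype F] [Nonempty ι] {F₀ : Subfield F} (hne : F₀ ≠ ⊤)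
    {N H : Subgroup (GL ι F)} (hN : AI N) (hn : Norms H N) {B : GL ι F}
    (hB : ∀ x ∈ N, ∀ i j, cj B (x : Matrix ι ι F) i j ∈ F₀) : InSubfieldClass H := by
  obtain ⟨F₁, r, hr, hle, hcard⟩ := exists_prime_index hne
  exact ⟨F₁, r, B⁻¹, hr, hcard, le_subfieldSubgroup hN hn fun x hx i j => hle (hB x hx i j)⟩

/-- In a cyclic group, powers of a non-power cover the cosets of the prime powers. -/
theorem exists_pow_mul_pow {G : Type*} [CommGroup G] [IsCyclic G] [Finite G] {r : ℕ} (hr : r.Prime) {a : G}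
    (ha : ∀ d : G, d ^ r ≠ a) (b : G) : ∃ (j : ℕ) (d : G), b = a ^ j * d ^ r := by
  obtain ⟨g, hg⟩ := IsCyclic.exists_generator (α := G)
  obtain ⟨i, rfl⟩ := Subgroup.mem_zpowers_iff.1 (hg a)
  obtain ⟨l, rfl⟩ := Subgroup.mem_zpowers_iff.1 (hg b)
  haveI : Fact r.Prime := ⟨hr⟩
  have hi : ((i : ℤ) : ZMod r) ≠ 0 := by
    intro h0
    obtain ⟨t, rfl⟩ := (ZMod.intCast_zmod_eq_zero_iff_dvd i r).1 h0
    exact ha (g ^ t) (by rw [← zpow_natCast, ← _root_.zpow_mul, mul_comm])
  set j := ((l : ZMod r) / (i : ZMod r)).val with hj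
  have hdiv : ((r : ℤ)) ∣ l - i * j := by
    rw [← ZMod.intCast_zmod_eq_zero_iff_dvd]
    push_cast
    rw [hj, ZMod.natCast_zmod_val, mul_div_cancel₀ _ hi, sub_self]
  obtain ⟨t, ht⟩ := hdiv
  refine ⟨j, g ^ t, ?_⟩
  rw [← zpow_natCast, ← zpow_natCast, ← _root_.zpow_mul, ← _root_.zpow_mul, ← _root_.zpow_add]
  congr 1
  rw [mul_comm t]
  linear_combination ht

variable {N H : Subgroup (GL ι F)} {r : ℕ}

theorem AbData.not_le [Nonempty ι] (h2 : 2 ≤ Fintype.card ι) (hN : AI N) : ¬ N ≤ scalars ι F := by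
  intro hle
  obtain ⟨a, b, hab⟩ := Fintype.exists_pair_of_one_lt_card (α := ι) (by omega)
  obtain ⟨c, hc⟩ := hN.scalar (M := Matrix.single a b (1 : F)) fun x hx => (scalar_comm (hle hx) _).symm
  have h1 := congrFun (congrFun hc a) b
  simp [hab] at h1

theorem exists_noncomm [Nonempty ι] (h2 : 2 ≤ Fintype.card ι) (hN : AbData N r) :
    ∃ x ∈ N, ∃ y ∈ N, ∃ c : Fˣ, c ≠ 1 ∧ c ^ r = 1 ∧ y * x = sc c * (x * y) := by
  by_contra hno
  push Not at hno
  apply AbData.not_le h2 hN.ai
  intro x hx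
  refine hN.ai.mem_scalars fun y hy => ?_
  obtain ⟨c, hc⟩ := hN.comm x hx y hy
  have hcr : c ^ r = 1 := by
    obtain ⟨d, hd⟩ := exists_sc (hN.pow_mem y hy)
    have h1 := scal_pow_swap hc r
    rw [hd, (sc_comm d x).eq] at h1
    exact sc_injective (ι := ι) (by rw [map_one]; exact (right_eq_mul.1 h1 :))
  by_cases hc1 : c = 1
  · rw [hc1, map_one, one_mul] at hc
    exact hc.symm
  · exact absurd hc (hno x hx y hy c hc1 hcr)

theorem scal_pow [Nonempty ι] (hN : AbData N r) {x y : GL ι F} (hx : x ∈ N) (hy : y ∈ N) :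
    ∃ c : Fˣ, c ^ r = 1 ∧ y * x = sc c * (x * y) := by
  obtain ⟨c, hc⟩ := hN.comm x hx y hy
  refine ⟨c, ?_, hc⟩
  obtain ⟨d, hd⟩ := exists_sc (hN.pow_mem y hy)
  have h1 := scal_pow_swap hc r
  rw [hd, (sc_comm d x).eq] at h1
  exact sc_injective (ι := ι) (by rw [map_one]; exact (right_eq_mul.1 h1 :))

/-- Every element is a scalar times an element of order dividing `r`. -/
theorem exists_root_rep [Fintype F] [Nonempty ι] (h2 : 2 ≤ Fintype.card ι) (hN : AbData N r) (hn : Norms H N)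
    (hmin : ∀ N' : Subgroup (GL ι F), scalars ι F ≤ N' → N' ≤ N → Norms H N' → N' = scalars ι F ∨ N' = N)
    (hroot : ∀ c : Fˣ, c ^ r = 1 → ∃ d : Fˣ, d ^ r = c ^ r.choose 2) :
    ∀ x ∈ N, ∃ c : Fˣ, (sc c * x) ^ r = 1 := by
  let K : Subgroup (GL ι F) :=
    { carrier := {x | x ∈ N ∧ ∃ d : Fˣ, x ^ r = sc (d ^ r)}
      mul_mem' := fun {x y} hx hy => by
        obtain ⟨hx, d, hd⟩ := hx
        obtain ⟨hy, e, he⟩ := hy
        obtain ⟨c, hc1, hc⟩ := scal_pow hN hx hy
        obtain ⟨f, hf⟩ := hroot c hc1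
        refine ⟨N.mul_mem hx hy, f * d * e, ?_⟩
        rw [scal_mul_pow hc, hd, he, ← map_mul, ← map_mul, mul_pow, mul_pow, hf, mul_assoc]
      one_mem' := ⟨N.one_mem, 1, by simp⟩
      inv_mem' := fun {x} hx => by
        obtain ⟨hx, d, hd⟩ := hx
        exact ⟨N.inv_mem hx, d⁻¹, by rw [inv_pow, hd, inv_pow, map_inv]⟩ }
  have hZK : scalars ι F ≤ K := fun z hz => by
    obtain ⟨c, rfl⟩ := exists_sc hz
    exact ⟨hN.scal hz, c, by rw [map_pow]⟩
  have hKn : Norms H K := fun h hh x hx => by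
    obtain ⟨hx, d, hd⟩ := hx
    refine ⟨hn h hh x hx, d, ?_⟩
    rw [conj_pow, hd, ← (sc_comm _ h).eq, mul_inv_cancel_right]
  rcases hmin K hZK (fun x hx => hx.1) hKn with hK | hK
  · exfalso
    obtain ⟨x, hx, y, hy, c, hc1, -, hc⟩ := exists_noncomm h2 hN
    have hxs : ∀ d : Fˣ, x ^ r ≠ sc (d ^ r) := fun d hd => by
      have : x ∈ scalars ι F := hK ▸ (⟨hx, d, hd⟩ : x ∈ K)
      rw [scalar_comm_gl this] at hc
      exact hc1 (sc_injective (ι := ι) (by rw [map_one]; exact (right_eq_mul.1 hc :)))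
    obtain ⟨a, ha⟩ := exists_sc (hN.pow_mem x hx)
    obtain ⟨b, hb⟩ := exists_sc (hN.pow_mem y hy)
    obtain ⟨j, d, hjd⟩ := exists_pow_mul_pow hN.prime (a := a) (fun d hd => hxs d (by rw [ha, hd])) b
    have hxj : (x ^ j)⁻¹ ∈ N := N.inv_mem (N.pow_mem hx j)
    obtain ⟨c', hc', hcc⟩ := scal_pow hN hxj hy
    obtain ⟨f, hf⟩ := hroot c' hc'
    have hmem : (x ^ j)⁻¹ * y ∈ K := by
      refine ⟨N.mul_mem hxj hy, f * d, ?_⟩
      rw [scal_mul_pow hcc, inv_pow, ← pow_mul, mul_comm j, pow_mul, ha, ← map_pow, hb, hjd, ← map_inv, ← map_mul,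
        ← map_mul, inv_mul_cancel_left, mul_pow, hf]
    rw [hK] at hmem
    have hyx : y * x = x * y := by
      have hy' : y = x ^ j * ((x ^ j)⁻¹ * y) := by group
      rw [hy']
      exact ((Commute.pow_self x j).mul_left (scalar_comm_gl hmem x)).eq
    rw [hyx] at hc
    exact hc1 (sc_injective (ι := ι) (by rw [map_one]; exact (right_eq_mul.1 hc :)))
  · intro x hx
    rw [← hK] at hx
    obtain ⟨-, d, hd⟩ := hx
    refine ⟨d⁻¹, ?_⟩
    rw [(sc_comm d⁻¹ x).mul_pow, hd, ← map_pow, ← map_mul, inv_pow, inv_mul_cancel, map_one]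

/-- The root group. -/
def rootGroup (N : Subgroup (GL ι F)) (E : ℕ) (h : ∀ x ∈ N, ∀ y ∈ N, x ^ E = 1 → y ^ E = 1 → (x * y) ^ E = 1) :
    Subgroup (GL ι F) where
  carrier := {x | x ∈ N ∧ x ^ E = 1}
  mul_mem' := fun {x y} hx hy => ⟨N.mul_mem hx.1 hy.1, h x hx.1 y hy.1 hx.2 hy.2⟩
  one_mem' := ⟨N.one_mem, one_pow _⟩
  inv_mem' := fun {x} hx => ⟨N.inv_mem hx.1, by rw [inv_pow, hx.2, inv_one]⟩

set_option maxHeartbeats 1000000 in
/-- Properties of a root group whose scalar part is the group of all roots of unity. -/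
theorem symplecticType [Fintype F] [Nonempty ι] (h2 : 2 ≤ Fintype.card ι) (hN : AbData N r)
    (hmin : ∀ N' : Subgroup (GL ι F), scalars ι F ≤ N' → N' ≤ N → Norms H N' → N' = scalars ι F ∨ N' = N)
    {R : Subgroup (GL ι F)} {E : ℕ} (hR : RootData N R E) (hRn : Norms H R)
    (hscal : ∀ z : Fˣ, z ^ E = 1 → (sc z : GL ι F) ∈ R) {z₀ : Fˣ} (hz₀ : orderOf z₀ = E)
    (hE : E = r * Nat.gcd 2 r) :
    ∃ m, 1 ≤ m ∧ IsSymplecticTypeGroup r R ∧ ActsAbsolutelyIrreducibly (matrixSet R) ∧
      Fintype.card ι = r ^ m ∧ Nat.card (Subgroup.center R) = E ∧ Nat.card R = E * r ^ (2 * m) := by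
  classical
  haveI : Fintype (N ⧸ scalIn N) := Fintype.ofFinite _
  haveI : Fact r.Prime := ⟨hN.prime⟩
  obtain ⟨-, hcardQ⟩ := basis_spec hN
  obtain ⟨k, hk⟩ := (isPGroup_quot hN).exists_card_eq
  rw [Nat.card_eq_fintype_card, hcardQ] at hk
  obtain ⟨m, -, hm⟩ := (Nat.dvd_prime_pow hN.prime).1 (Dvd.intro _ hk : Fintype.card ι ∣ r ^ k)
  have hk2 : k = 2 * m := by
    rw [hm, ← pow_add] at hk
    exact ((Nat.pow_right_injective hN.prime.two_le hk).symm).trans (two_mul m).symm
  have hm1 : 1 ≤ m := by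
    by_contra h0
    rw [show m = 0 by omega, pow_zero] at hm
    omega
  have hRai : AI R := hR.ai hN.ai
  let Z : Subgroup R := (scalars ι F).subgroupOf R
  have hcen : Subgroup.center R = Z := by
    ext x
    rw [Subgroup.mem_center_iff, Subgroup.mem_subgroupOf]
    constructor
    · intro hx
      exact hRai.mem_scalars fun y hy => (congrArg Subtype.val (hx ⟨y, hy⟩)).symm
    · intro hx y
      exact Subtype.ext (scalar_comm_gl hx (y : GL ι F)).symm
  let ψ : Subgroup.zpowers z₀ → Z := fun z => ⟨⟨sc (z : Fˣ), hscal _ (by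
      rw [← hz₀]; exact orderOf_dvd_iff_pow_eq_one.1 (orderOf_dvd_of_mem_zpowers z.2))⟩, sc_mem _⟩
  have hψ : Function.Bijective ψ := by
    refine ⟨fun a b hab => Subtype.ext (sc_injective (ι := ι)
      (congrArg (fun t : Z => ((t : R) : GL ι F)) hab)), fun t => ?_⟩
    obtain ⟨c, hc⟩ := exists_sc t.2
    have hcE : c ^ E = 1 := hR.scal_pow (hc ▸ (t : R).2)
    have hprim : IsPrimitiveRoot z₀ E := hz₀ ▸ IsPrimitiveRoot.orderOf z₀
    haveI : NeZero E := ⟨hR.pos.ne'⟩
    have hmem : c ∈ Subgroup.zpowers z₀ := by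
      obtain ⟨i, -, hi⟩ := (IsPrimitiveRoot.coe_units_iff.2 hprim).eq_pow_of_pow_eq_one
        (ξ := (c : F)) (by rw [← Units.val_pow_eq_pow_val, hcE, Units.val_one])
      exact ⟨i, Units.ext (by simpa using hi)⟩
    exact ⟨⟨c, hmem⟩, Subtype.ext (Subtype.ext hc.symm)⟩
  have hcenE : Nat.card (Subgroup.center R) = E := by
    rw [hcen, ← Nat.card_eq_of_bijective ψ hψ, Nat.card_zpowers, hz₀]
  let π : R →* N ⧸ scalIn N := (QuotientGroup.mk' (scalIn N)).comp (Subgroup.inclusion hR.le)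
  have hπs : Function.Surjective π := by
    intro q
    obtain ⟨y, hy, c, hc⟩ := hR.gen _ (rep_mem q)
    refine ⟨⟨y, hy⟩, ?_⟩
    conv_rhs => rw [← QuotientGroup.out_eq' q]
    show QuotientGroup.mk (s := scalIn N) (⟨y, hR.le hy⟩ : N) = QuotientGroup.mk q.out
    rw [mk_eq_iff]
    show y⁻¹ * rep q ∈ scalars ι F
    rw [hc, (sc_comm c y).eq, inv_mul_cancel_left]
    exact sc_mem c
  have hker : π.ker = Z := by
    ext x
    rw [MonoidHom.mem_ker, Subgroup.mem_subgroupOf]
    exact QuotientGroup.eq_one_iff _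
  have hcardR : Nat.card R = E * r ^ (2 * m) := by
    rw [Subgroup.card_eq_card_quotient_mul_card_subgroup π.ker,
      Nat.card_congr (QuotientGroup.quotientKerEquivOfSurjective π hπs).toEquiv, hker, ← hcen, hcenE,
      Nat.card_eq_fintype_card, hcardQ, hk, hk2, mul_comm]
  refine ⟨m, hm1, ⟨hN.prime, fun x => ?_, fun A hA hAc => ?_, ?_⟩, hRai, hm, hcenE, hcardR⟩
  · -- the group is an r-group
    have hEp : ∃ e, E = r ^ e := by
      rcases hN.prime.eq_two_or_odd' with h | h
      · exact ⟨2, by rw [hE, h]; rfl⟩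
      · refine ⟨1, ?_⟩
        rw [hE, pow_one, (Nat.coprime_primes Nat.prime_two hN.prime).2
          (fun h' => by rw [← h'] at h; exact absurd h (by decide)), mul_one]
    obtain ⟨e, he⟩ := hEp
    exact ⟨e, by rw [← he]; exact Subtype.ext (hR.exp x x.2)⟩
  · -- characteristic abelian subgroups are cyclic
    let A' : Subgroup (GL ι F) := A.map R.subtype ⊔ scalars ι F
    have hA'n : Norms H A' := by
      intro h hh
      have hmap : A' ≤ A'.comap (MulAut.conj h).toMonoidHom := by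
        refine sup_le ?_ fun z hz => Subgroup.mem_sup_right (Subgroup.Normal.conj_mem inferInstance z hz h)
        rintro _ ⟨a, ha, rfl⟩
        let φ : R ≃* R :=
          { toFun := fun x => ⟨h * x * h⁻¹, hRn h hh x x.2⟩
            invFun := fun x => ⟨h⁻¹ * x * h, hRn.inv_mem hh x.2⟩
            left_inv := fun x => Subtype.ext (show h⁻¹ * (h * (x : GL ι F) * h⁻¹) * h = x by group)
            right_inv := fun x => Subtype.ext (show h * (h⁻¹ * (x : GL ι F) * h) * h⁻¹ = x by group)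
            map_mul' := fun x y => Subtype.ext (show h * ((x : GL ι F) * y) * h⁻¹ =
              h * x * h⁻¹ * (h * y * h⁻¹) by group) }
        refine Subgroup.mem_sup_left ⟨φ a, ?_, rfl⟩
        exact (SetLike.ext_iff.1 (hA.fixed φ) a).2 ha
      exact fun x hx => hmap hx
    have hA'le : A' ≤ N := sup_le (by
      rintro _ ⟨a, -, rfl⟩
      exact hR.le a.2) hN.scal
    rcases hmin A' le_sup_right hA'le hA'n with hA' | hA'
    · have hAle : A ≤ Z := fun a ha => by
        rw [Subgroup.mem_subgroupOf]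
        exact hA' ▸ Subgroup.mem_sup_left ⟨a, ha, rfl⟩
      haveI : Finite Z := Finite.of_surjective ψ hψ.2
      haveI : IsCyclic Z := by
        let ψ' : Subgroup.zpowers z₀ →* Z :=
          { toFun := ψ, map_one' := Subtype.ext (Subtype.ext (map_one sc)),
            map_mul' := fun a b => Subtype.ext (Subtype.ext (map_mul sc _ _)) }
        exact isCyclic_of_surjective ψ' hψ.2
      exact isCyclic_of_injective (Subgroup.inclusion hAle) (Subgroup.inclusion_injective hAle)
    · exfalso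
      obtain ⟨x, hx, y, hy, c, hc1, -, hc⟩ := exists_noncomm h2 hN
      rw [← hA'] at hx hy
      have hcomm : ∀ a ∈ A', ∀ b ∈ A', a * b = b * a := by
        intro a ha b hb
        obtain ⟨_, ⟨a', ha', rfl⟩, s, hs, rfl⟩ : a ∈ ((A.map R.subtype : Subgroup (GL ι F)) : Set (GL ι F)) * (scalars ι F : Set (GL ι F)) := by
          rw [← Subgroup.mul_normal]; exact ha
        obtain ⟨_, ⟨b', hb', rfl⟩, t, ht, rfl⟩ : b ∈ ((A.map R.subtype : Subgroup (GL ι F)) : Set (GL ι F)) * (scalars ι F : Set (GL ι F)) := by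
          rw [← Subgroup.mul_normal]; exact hb
        have h0 : (a' : GL ι F) * b' = b' * a' := by
          have := congrArg (fun z : A => ((z : R) : GL ι F)) (hAc.is_comm.comm (⟨a', ha'⟩ : A) ⟨b', hb'⟩)
          exact this
        have hc1 : Commute (a' : GL ι F) ((b' : GL ι F) * t) := Commute.mul_right h0 (scalar_comm_gl ht _).symm
        have hc2 : Commute s ((b' : GL ι F) * t) := scalar_comm_gl hs _
        exact hc1.mul_left hc2
      rw [hcomm y hy x hx] at hc
      exact hc1 (sc_injective (ι := ι) (by rw [map_one]; exact (right_eq_mul.1 hc :)))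
  · -- the exponent
    rw [← hE]
    refine Nat.dvd_antisymm (Monoid.exponent_dvd_of_forall_pow_eq_one fun x => Subtype.ext (hR.exp x x.2)) ?_
    have h1 : orderOf (⟨sc z₀, hscal z₀ (by rw [← hz₀]; exact pow_orderOf_eq_one z₀)⟩ : R) = E := by
      rw [← orderOf_injective R.subtype Subtype.val_injective]
      show orderOf (sc z₀ : GL ι F) = E
      rw [orderOf_injective sc sc_injective, hz₀]
    exact h1 ▸ Monoid.order_dvd_exponent _

/-- A scalar group of roots of unity in a proper subfield gives class five. -/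
theorem subfield_of_small [Fintype F] [Nonempty ι] {p e d E : ℕ} [Fact p.Prime] [CharP F p]
    (hq : Fintype.card F = p ^ e) (hd0 : 0 < d) (hde : d < e) {R : Subgroup (GL ι F)} (hN : AbData N r)
    (hR : RootData N R E) (hRn : Norms H R) (hscal : ∀ z : Fˣ, z ^ E = 1 → (sc z : GL ι F) ∈ R) {ζ₀ : F}
    (hζ : IsPrimitiveRoot ζ₀ E) (hEF : (E : F) ≠ 0) (hdvd : E ∣ p ^ d - 1) : InSubfieldClass H := by
  let F₀ : Subfield F := (RingHom.eqLocusField (iterateFrobenius F p d) (RingHom.id F))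
  have hne : F₀ ≠ ⊤ := by
    intro htop
    classical
    have hall : ∀ x : F, x ^ p ^ d = x := fun x => by
      have : x ∈ F₀ := htop ▸ Subfield.mem_top x
      exact this
    have h1 : 1 < p ^ d := Nat.one_lt_pow hd0.ne' (Fact.out : p.Prime).one_lt
    have h2 : Fintype.card F ≤ p ^ d := by
      rw [← Finset.card_univ]
      refine le_trans (Finset.card_le_card (t := (Polynomial.X ^ p ^ d - Polynomial.X : Polynomial F).roots.toFinset)
        fun x _ => ?_) ((Multiset.toFinset_card_le _).trans ((Polynomial.card_roots' _).trans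
          (FiniteField.X_pow_card_sub_X_natDegree_eq F h1).le))
      rw [Multiset.mem_toFinset, Polynomial.mem_roots (FiniteField.X_pow_card_sub_X_ne_zero F h1)]
      simp [hall x]
    rw [hq] at h2
    exact absurd h2 (not_le.2 (Nat.pow_lt_pow_right (Fact.out : p.Prime).one_lt hde))
  have hmem : ζ₀ ∈ F₀ := by
    show ζ₀ ^ p ^ d = ζ₀
    obtain ⟨t, ht⟩ := hdvd
    calc ζ₀ ^ p ^ d = ζ₀ ^ (p ^ d - 1) * ζ₀ := by
          rw [← pow_succ, Nat.sub_add_cancel (Nat.one_le_pow _ _ (Fact.out : p.Prime).pos)]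
      _ = ζ₀ := by rw [ht, pow_mul, hζ.pow_eq_one, one_pow, one_mul]
  obtain ⟨B, hB⟩ := hR.realise hN hscal hζ hEF hmem
  exact subfieldClass_of_realised hne (hR.ai hN.ai) hRn hB

/-- A root group whose roots of unity are inverted by the half Frobenius fixes a unitary form. -/
theorem unitary_of_half [Fintype F] [Nonempty ι] {p h E : ℕ} [Fact p.Prime] [CharP F p]
    (hq : Fintype.card F = p ^ (2 * h)) {R : Subgroup (GL ι F)} (hN : AbData N r)
    (hR : RootData N R E) (hRn : Norms H R) {ζ₀ : F} (hζ : IsPrimitiveRoot ζ₀ E) (hE3 : 3 ≤ E)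
    (hdvd : E ∣ p ^ h + 1) : InFormClass H := by
  haveI : ExpChar F p := ExpChar.prime Fact.out
  haveI : PerfectRing F p := PerfectRing.ofFiniteOfIsReduced p F
  let σ : F ≃+* F := iterateFrobeniusEquiv F p h
  have hσ : ∀ a : F, σ a = a ^ p ^ h := fun a => rfl
  have hinv : ∀ a, σ (σ a) = a := fun a => by
    rw [hσ, hσ, ← pow_mul, ← pow_add, ← two_mul, ← hq, FiniteField.pow_card]
  have hroot : ∀ z : Fˣ, z ^ E = 1 → (z : F) * σ z = 1 := fun z hz => by
    obtain ⟨t, ht⟩ := hdvd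
    rw [hσ, ← pow_succ', ht, pow_mul, ← Units.val_pow_eq_pow_val, hz, Units.val_one, one_pow]
  refine hR.formClass hN hRn hinv hroot fun hrefl => absurd hE3 ?_
  have hz0 : ζ₀ ≠ 0 := hζ.ne_zero (by omega)
  have h1 := hroot (Units.mk0 ζ₀ hz0) (Units.ext (by simp [hζ.pow_eq_one]))
  rw [hrefl, Units.val_mk0, RingEquiv.refl_apply, ← pow_two] at h1
  have := Nat.le_of_dvd (by norm_num) (hζ.dvd_of_pow_eq_one 2 h1)
  omega

theorem exists_order_four [Nonempty ι] {R : Subgroup (GL ι F)} (h2 : 2 ≤ Fintype.card ι) (hN : AbData N 2)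
    (hR : RootData N R 4) {i : F} (hi : i * i = -1) :
    IsPrimitiveRoot i 4 := by
  have htwo : (2 : F) ≠ 0 := by simpa using hN.ne_char
  refine IsPrimitiveRoot.mk_of_lt i (by norm_num) (by linear_combination (i * i - 1) * hi) fun l hl0 hl4 hl => ?_
  interval_cases l
  · rw [pow_one] at hl
    subst hl
    exact htwo (by linear_combination hi)
  · exact htwo (by linear_combination hi - hl)
  · have h1 : i = -1 := by linear_combination hl * (-1 : F) + i * hi
    subst h1
    exact htwo (by linear_combination hi)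

/-- The case of a minimal subgroup which is abelian modulo scalars. -/
theorem abelian_case [Fintype F] [Nonempty ι] (h3 : 3 ≤ Fintype.card ι) (hN : AI N) (hscal : scalars ι F ≤ N)
    (hn : Norms H N)
    (hmin : ∀ N' : Subgroup (GL ι F), scalars ι F ≤ N' → N' ≤ N → Norms H N' → N' = scalars ι F ∨ N' = N)
    (hcomm : Scal N) : InNormalizerClass H ∨ InFormClass H ∨ InSubfieldClass H := by
  classical
  -- the exponent modulo scalars is a prime
  have hns := AbData.not_le (by omega) hN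
  obtain ⟨x, hx, hxs⟩ := SetLike.not_le_iff_exists.1 hns
  have hfin : ∃ d, 0 < d ∧ x ^ d ∈ scalars ι F :=
    ⟨orderOf x, orderOf_pos x, by rw [pow_orderOf_eq_one]; exact one_mem _⟩
  obtain ⟨hd0, hdm⟩ := Nat.find_spec hfin
  set d := Nat.find hfin with hd
  have hd1 : d ≠ 1 := fun h1 => hxs (by simpa [h1] using hdm)
  set r := d.minFac with hr
  have hrp : r.Prime := Nat.minFac_prime hd1
  obtain ⟨k, hk⟩ : r ∣ d := Nat.minFac_dvd d
  have hy : x ^ k ∉ scalars ι F := fun hmem => by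
    have hk0 : 0 < k := Nat.pos_of_ne_zero fun h0 => by rw [h0, mul_zero] at hk; omega
    have hkd : k < d := by
      rw [hk]
      exact lt_mul_of_one_lt_left hk0 hrp.one_lt
    exact Nat.find_min hfin hkd ⟨hk0, hmem⟩
  let K : Subgroup (GL ι F) :=
    { carrier := {z | z ∈ N ∧ z ^ r ∈ scalars ι F}
      mul_mem' := fun {a b} ha hb => by
        obtain ⟨c, hc⟩ := hcomm a ha.1 b hb.1
        exact ⟨N.mul_mem ha.1 hb.1, by
          rw [scal_mul_pow hc]
          exact mul_mem (sc_mem _) (mul_mem ha.2 hb.2)⟩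
      one_mem' := ⟨N.one_mem, by rw [one_pow]; exact one_mem _⟩
      inv_mem' := fun {a} ha => ⟨N.inv_mem ha.1, by rw [inv_pow]; exact inv_mem ha.2⟩ }
  have hK : K = N := by
    refine (hmin K (fun z hz => ⟨hscal hz, pow_mem hz r⟩) (fun z hz => hz.1) (fun h hh z hz =>
      ⟨hn h hh z hz.1, by rw [conj_pow]; exact scalars_normal.conj_mem _ hz.2 h⟩)).resolve_left fun h0 => ?_
    exact hy (h0 ▸ (⟨N.pow_mem hx k, by rw [← pow_mul, mul_comm, ← hk]; exact hdm⟩ : x ^ k ∈ K))
  have hpow : ∀ z ∈ N, z ^ r ∈ scalars ι F := fun z hz => (hK ▸ hz : z ∈ K).2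
  obtain ⟨p, hp⟩ := CharP.exists F
  haveI := hp
  obtain ⟨⟨e, he0⟩, hpr, hq⟩ := FiniteField.card F p
  haveI : Fact p.Prime := ⟨hpr⟩
  have hqe : Fintype.card F = p ^ e := hq
  have hrc : (r : F) ≠ 0 := by
    intro h0
    have hrp' : r = p := ((hrp.eq_one_or_self_of_dvd p ((CharP.cast_eq_zero_iff F p r).1 h0)).resolve_left
      hpr.one_lt.ne').symm
    refine hns fun a ha => hN.mem_scalars fun b hb => ?_
    obtain ⟨c, hc⟩ := hcomm a ha b hb
    obtain ⟨t, ht⟩ := exists_sc (hpow b hb)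
    have h1 := scal_pow_swap hc r
    rw [ht, (sc_comm t a).eq] at h1
    have hcr : c ^ r = 1 := sc_injective (ι := ι) (by rw [map_one]; exact (right_eq_mul.1 h1 :))
    have hc1 : (c : F) = 1 := by
      have h2 : ((c : F) - 1) ^ p = 0 := by
        rw [sub_pow_char, one_pow, ← hrp', ← Units.val_pow_eq_pow_val, hcr, Units.val_one, sub_self]
      exact sub_eq_zero.1 (eq_zero_of_pow_eq_zero h2)
    rw [show c = 1 from Units.ext hc1, map_one, one_mul] at hc
    exact hc.symm
  have hD : AbData N r := ⟨hN, hscal, hcomm, hrp, hpow, hrc⟩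
  rcases hrp.eq_two_or_odd' with hr2 | hodd
  · -- r = 2
    have hD2 : AbData N 2 := hr2 ▸ hD
    have htwo : (2 : F) ≠ 0 := by simpa using hD2.ne_char
    have hclosed : ∀ a ∈ N, ∀ b ∈ N, a ^ 4 = 1 → b ^ 4 = 1 → (a * b) ^ 4 = 1 := by
      intro a ha b hb ha4 hb4
      obtain ⟨c, hc1, hc⟩ := scal_pow hD2 ha hb
      obtain ⟨s, hs⟩ := exists_sc (hD2.pow_mem a ha)
      obtain ⟨t, ht⟩ := exists_sc (hD2.pow_mem b hb)
      have hs2 : s ^ 2 = 1 := sc_injective (ι := ι) (by rw [map_pow, ← hs, ← pow_mul, map_one]; exact ha4)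
      have ht2 : t ^ 2 = 1 := sc_injective (ι := ι) (by rw [map_pow, ← ht, ← pow_mul, map_one]; exact hb4)
      rw [show (4 : ℕ) = 2 * 2 from rfl, pow_mul, scal_mul_pow hc, hs, ht, ← map_mul, ← map_mul, ← map_pow,
        mul_pow, mul_pow, hs2, ht2, show Nat.choose 2 2 = 1 from rfl, pow_one, hc1, mul_one, mul_one, map_one]
    let R := rootGroup N 4 hclosed
    have hRn : Norms H R := fun h hh z hz => ⟨hn h hh z hz.1, by rw [conj_pow, hz.2, mul_one, mul_inv_cancel]⟩
    by_cases hi : ∃ i : F, i * i = -1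
    · obtain ⟨i, hi⟩ := hi
      have hroot : ∀ c : Fˣ, c ^ 2 = 1 → ∃ d : Fˣ, d ^ 2 = c ^ (2 : ℕ).choose 2 := fun c hc => by
        have hi0 : i ≠ 0 := fun h0 => by rw [h0, mul_zero] at hi; exact one_ne_zero (neg_eq_zero.1 hi.symm)
        have hc' : (c : F) * c = 1 := by rw [← pow_two, ← Units.val_pow_eq_pow_val, hc, Units.val_one]
        rw [show Nat.choose 2 2 = 1 from rfl, pow_one]
        rcases mul_self_eq_one_iff.1 hc' with h1 | h1
        · exact ⟨1, Units.ext (by simp [h1])⟩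
        · exact ⟨Units.mk0 i hi0, Units.ext (by simp [h1, pow_two, hi])⟩
      have hrep := exists_root_rep (by omega) hD2 hn hmin hroot
      have hRD : RootData N R 4 := ⟨fun z hz => hz.1, fun z hz => by
        obtain ⟨c, hc⟩ := hrep z hz
        refine ⟨sc c * z, ⟨N.mul_mem (hscal (sc_mem c)) hz, by rw [show (4 : ℕ) = 2 * 2 from rfl, pow_mul, hc,
          one_pow]⟩, c⁻¹, by rw [← mul_assoc, ← map_mul, inv_mul_cancel, map_one, one_mul]⟩, fun z hz => hz.2,
        by norm_num⟩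
      have hsc : ∀ z : Fˣ, z ^ 4 = 1 → (sc z : GL ι F) ∈ R := fun z hz =>
        ⟨hscal (sc_mem z), by rw [← map_pow, hz, map_one]⟩
      have hζ := exists_order_four (by omega) hD2 hRD hi
      have hz0 : i ≠ 0 := hζ.ne_zero (by norm_num)
      have hE4 : (4 : F) ≠ 0 := by rw [show (4 : F) = 2 * 2 by norm_num]; exact mul_ne_zero htwo htwo
      by_cases hsmall : ∃ d, 0 < d ∧ d < e ∧ 4 ∣ p ^ d - 1
      · obtain ⟨d', hd'0, hd'e, hd'⟩ := hsmall
        exact Or.inr (Or.inr (subfield_of_small hqe hd'0 hd'e hD2 hRD hRn hsc hζ (by simpa using hE4) hd'))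
      push Not at hsmall
      have hord : orderOf (Units.mk0 i hz0) = 4 := by
        rw [← orderOf_units, Units.val_mk0]; exact hζ.eq_orderOf.symm
      have hdiv : 4 ∣ p ^ e - 1 := by
        rw [← hord, ← hqe, ← Fintype.card_units]
        exact orderOf_dvd_card
      have hodd : p % 2 = 1 := by
        rcases hpr.eq_two_or_odd with h | h
        · subst h
          exact absurd (by simpa using CharP.cast_eq_zero F 2) htwo
        · exact h
      have he2 : e ≤ 2 := by
        by_contra h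
        refine hsmall 2 (by norm_num) (by omega) ?_
        obtain ⟨t, ht⟩ : ∃ t, p = 2 * t + 1 := ⟨p / 2, by omega⟩
        rw [ht]
        refine ⟨t * t + t, ?_⟩
        have : (2 * t + 1) ^ 2 = 4 * (t * t + t) + 1 := by ring
        omega
      rcases (show e = 1 ∨ e = 2 by omega) with he | he
      · obtain ⟨m, hm1, hst, hai, hm, hcen, hcard⟩ := symplecticType (by omega) hD2 hmin hRD hRn hsc hord rfl
        refine Or.inl ⟨2, m, R, ⟨hst, hai, p, e, ?_, ⟨⟨hpr, hp, hqe, ?_, ?_⟩, Or.inr (Or.inl ?_)⟩⟩, hm, ?_⟩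
        · omega
        · rw [hcen]; exact hdiv
        · intro d' hd' hd'e; omega
        · refine ⟨rfl, he, hcen, ?_, m, ?_⟩
          · rcases Nat.lt_or_ge m 2 with hlt | hge
            · rw [show m = 1 by omega, pow_one] at hm; omega
            · rw [hm]; exact le_trans (le_refl (2 ^ 2)) (Nat.pow_le_pow_right (by norm_num) hge)
          · rw [hcard, pow_add]; norm_num
        · intro h hh
          show h ∈ Subgroup.normalizer _
          rw [Subgroup.mem_normalizer_iff]
          exact fun z => ⟨hRn h hh z, fun hz => by simpa [mul_assoc] using hRn.inv_mem hh hz⟩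
      · refine Or.inr (Or.inl (unitary_of_half (h := 1) (by rw [hqe, he]) hD2 hRD hRn hζ (by norm_num) ?_))
        have h41 := hsmall 1 (by norm_num) (by omega)
        rw [pow_one] at h41 ⊢
        omega
    · push Not at hi
      have hsq : ∀ a : Fˣ, ∃ d : Fˣ, a = d ^ 2 ∨ a = (-1 : Fˣ) * d ^ 2 := by
        intro a
        have hneg : ∀ d : Fˣ, d ^ 2 ≠ (-1 : Fˣ) := fun d hd => hi (d : F) (by
          rw [← pow_two, ← Units.val_pow_eq_pow_val, hd, Units.val_neg, Units.val_one])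
        obtain ⟨j, d, hjd⟩ := exists_pow_mul_pow Nat.prime_two (a := (-1 : Fˣ)) hneg a
        rcases Nat.even_or_odd j with hj | hj
        · exact ⟨d, Or.inl (by rw [hjd, hj.neg_one_pow, one_mul])⟩
        · exact ⟨d, Or.inr (by rw [hjd, hj.neg_one_pow])⟩
      have hRD : RootData N R 4 := ⟨fun z hz => hz.1, fun z hz => by
        obtain ⟨a, ha⟩ := exists_sc (hD2.pow_mem z hz)
        obtain ⟨d, hd⟩ := hsq a
        refine ⟨sc d⁻¹ * z, ⟨N.mul_mem (hscal (sc_mem _)) hz, ?_⟩, d,
          by rw [← mul_assoc, ← map_mul, mul_inv_cancel, map_one, one_mul]⟩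
        rw [(sc_comm d⁻¹ z).mul_pow, show z ^ 4 = (z ^ 2) ^ 2 by rw [← pow_mul], ha, ← map_pow, ← map_pow,
          ← map_mul]
        rcases hd with h | h <;> rw [h]
        · rw [← pow_mul, ← mul_pow, inv_mul_cancel, one_pow, map_one]
        · rw [mul_pow, neg_one_sq, one_mul, ← pow_mul, ← mul_pow, inv_mul_cancel, one_pow, map_one],
        fun z hz => hz.2, by norm_num⟩
      refine Or.inr (Or.inl (hRD.formClass hD2 hRn (σ := RingEquiv.refl F) (fun a => rfl) (fun z hz => ?_)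
        fun _ => htwo))
      have hz2 : ((z : F) * z) * ((z : F) * z) = 1 := by
        rw [← Units.val_mul, ← Units.val_mul, show z * z * (z * z) = z ^ 4 by
          rw [pow_succ, pow_succ, pow_succ, pow_one]; simp [mul_assoc], hz, Units.val_one]
      exact (mul_self_eq_one_iff.1 hz2).resolve_right (hi z)
  · -- r odd
    have hch : ∀ c : Fˣ, c ^ r = 1 → c ^ r.choose 2 = 1 := fun c hc => by
      have hdvd : r ∣ r.choose 2 :=
        hrp.dvd_choose_self (by norm_num) (lt_of_le_of_ne hrp.two_le (fun h => by subst_vars; rw [← h] at hodd; exact absurd hodd (by decide)))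
      obtain ⟨t, ht⟩ := hdvd
      rw [ht, pow_mul, hc, one_pow]
    have hclosed : ∀ a ∈ N, ∀ b ∈ N, a ^ r = 1 → b ^ r = 1 → (a * b) ^ r = 1 := by
      intro a ha b hb har hbr
      obtain ⟨c, hc1, hc⟩ := scal_pow hD ha hb
      rw [scal_mul_pow hc, har, hbr, hch c hc1, map_one, one_mul, one_mul]
    let R := rootGroup N r hclosed
    have hRn : Norms H R := fun h hh z hz => ⟨hn h hh z hz.1, by rw [conj_pow, hz.2, mul_one, mul_inv_cancel]⟩
    have hrep := exists_root_rep (by omega) hD hn hmin (fun c hc => ⟨1, by rw [one_pow, hch c hc]⟩)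
    have hRD : RootData N R r := ⟨fun z hz => hz.1, fun z hz => by
      obtain ⟨c, hc⟩ := hrep z hz
      exact ⟨sc c * z, ⟨N.mul_mem (hscal (sc_mem c)) hz, hc⟩, c⁻¹,
        by rw [← mul_assoc, ← map_mul, inv_mul_cancel, map_one, one_mul]⟩, fun z hz => hz.2, hrp.pos⟩
    have hsc : ∀ z : Fˣ, z ^ r = 1 → (sc z : GL ι F) ∈ R := fun z hz =>
      ⟨hscal (sc_mem z), by rw [← map_pow, hz, map_one]⟩
    obtain ⟨-, -, -, -, c, hc1, hcr, -⟩ := exists_noncomm (by omega) hD
    haveI : Fact r.Prime := ⟨hrp⟩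
    have hord : orderOf c = r := orderOf_eq_prime hcr hc1
    have hζ : IsPrimitiveRoot (c : F) r := IsPrimitiveRoot.coe_units_iff.2 (hord ▸ IsPrimitiveRoot.orderOf c)
    have hdiv : r ∣ p ^ e - 1 := by
      rw [← hord, ← hqe, ← Fintype.card_units]
      exact orderOf_dvd_card
    by_cases hsmall : ∃ d, 0 < d ∧ d < e ∧ r ∣ p ^ d - 1
    · obtain ⟨d', hd'0, hd'e, hd'⟩ := hsmall
      exact Or.inr (Or.inr (subfield_of_small hqe hd'0 hd'e hD hRD hRn hsc hζ hrc hd'))
    push Not at hsmall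
    have hgcd : Nat.gcd 2 r = 1 := Nat.coprime_two_left.2 hodd
    rcases Nat.even_or_odd e with ⟨h, hh⟩ | heo
    · refine Or.inr (Or.inl (unitary_of_half (h := h) (by rw [hqe, hh, two_mul]) hD hRD hRn hζ ?_ ?_))
      · have := hrp.two_le
        rcases hodd with ⟨t, ht⟩
        omega
      · have h1 : ¬ r ∣ p ^ h - 1 := hsmall h (by omega) (by omega)
        have h2 : p ^ e - 1 = (p ^ h - 1) * (p ^ h + 1) := by
          obtain ⟨t, ht⟩ : ∃ t, p ^ h = t + 1 := ⟨p ^ h - 1, (Nat.sub_add_cancel (Nat.one_le_pow _ _ hpr.pos)).symm⟩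
          rw [hh, pow_add, ht, Nat.add_sub_cancel, show (t + 1) * (t + 1) = t * (t + 1 + 1) + 1 by ring,
            Nat.add_sub_cancel]
        rw [h2] at hdiv
        exact (hrp.dvd_mul.1 hdiv).resolve_left h1
    · obtain ⟨m, hm1, hst, hai, hm, hcen, hcard⟩ :=
        symplecticType (by omega) hD hmin hRD hRn hsc hord (by rw [hgcd, mul_one])
      refine Or.inl ⟨r, m, R, ⟨hst, hai, p, e, ?_, ⟨⟨hpr, hp, hqe, ?_, ?_⟩, Or.inl ⟨hodd, heo, hcen, m, hm1, ?_⟩⟩⟩,
        hm, ?_⟩
      · intro hrp'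
        exact hrc (by rw [hrp']; exact CharP.cast_eq_zero F p)
      · rw [hcen]; exact hdiv
      · intro d' hd' hd'e; rw [hcen]; exact hsmall d' hd' hd'e
      · rw [hcard, pow_add, pow_one]
      · intro h hh
        show h ∈ Subgroup.normalizer _
        rw [Subgroup.mem_normalizer_iff]
        exact fun z => ⟨hRn h hh z, fun hz => by simpa [mul_assoc] using hRn.inv_mem hh hz⟩

end Cfsg.Agent.Classical.Asch
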