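import Cfsg.Agent.Lib.Classical.AschBasic

/-!
An absolutely irreducible group which is abelian modulo scalars spans the matrix algebra with a basis of coset
representatives.
-/

set_option autoImplicit false
set_option linter.unusedSectionVars false
set_option linter.unusedFintypeInType false
set_option linter.unusedDecidableInType false

namespace Cfsg.Agent.Classical.Asch

open Matrix Module Cfsg.Geo

variable {F : Type*} [Field F] {ι : Type} [Fintype ι] [DecidableEq ι]

/-- The scalar matrix of a unit. -/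
def sc : Fˣ →* GL ι F := Units.map (Matrix.scalar ι : F →+* Matrix ι ι F).toMonoidHom

theorem sc_coe (c : Fˣ) : ((sc c : GL ι F) : Matrix ι ι F) = (c : F) • 1 := by
  show Matrix.scalar ι (c : F) = _
  rw [Matrix.scalar_apply, Matrix.smul_one_eq_diagonal]

theorem sc_mem (c : Fˣ) : (sc c : GL ι F) ∈ scalars ι F := ⟨c, rfl⟩

theorem exists_sc {g : GL ι F} (hg : g ∈ scalars ι F) : ∃ c : Fˣ, g = sc c := by
  obtain ⟨c, rfl⟩ := hg; exact ⟨c, rfl⟩

theorem sc_comm (c : Fˣ) (g : GL ι F) : Commute (sc c : GL ι F) g := scalar_comm_gl (sc_mem c) g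

theorem sc_injective [Nonempty ι] : Function.Injective (sc (ι := ι) (F := F)) := fun a b h => Units.ext (by
  obtain ⟨i⟩ := ‹Nonempty ι›
  have := congrFun (congrFun (congrArg (fun g : GL ι F => (g : Matrix ι ι F)) h) i) i
  simpa [sc_coe] using this)

/-- The scalar by which two elements fail to commute. -/
def Scal (N : Subgroup (GL ι F)) : Prop :=
  ∀ x ∈ N, ∀ y ∈ N, ∃ c : Fˣ, y * x = sc c * (x * y)

theorem scal_pow_swap {x y : GL ι F} {c : Fˣ} (h : y * x = sc c * (x * y)) (k : ℕ) :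
    y ^ k * x = sc (c ^ k) * (x * y ^ k) := by
  induction k with
  | zero => simp
  | succ k ih =>
    calc y ^ (k + 1) * x = y ^ k * (y * x) := by rw [pow_succ, mul_assoc]
      _ = sc c * (y ^ k * x) * y := by
        rw [h, ← mul_assoc, ← (sc_comm c (y ^ k)).eq]; simp [mul_assoc]
      _ = _ := by
        rw [ih, pow_succ c, pow_succ y, map_mul, ← mul_assoc (sc c), (sc_comm c (sc (c ^ k))).eq]
        simp [mul_assoc]

theorem scal_mul_pow {x y : GL ι F} {c : Fˣ} (h : y * x = sc c * (x * y)) (k : ℕ) :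
    (x * y) ^ k = sc (c ^ k.choose 2) * (x ^ k * y ^ k) := by
  induction k with
  | zero => simp
  | succ k ih =>
    rw [pow_succ, ih, Nat.choose_succ_succ, Nat.choose_one_right, pow_add, map_mul]
    calc sc (c ^ k.choose 2) * (x ^ k * y ^ k) * (x * y)
        = sc (c ^ k.choose 2) * (x ^ k * (y ^ k * x) * y) := by simp [mul_assoc]
      _ = sc (c ^ k.choose 2) * (x ^ k * sc (c ^ k) * (x * y ^ k) * y) := by
          rw [scal_pow_swap h]; simp [mul_assoc]
      _ = sc (c ^ k) * sc (c ^ k.choose 2) * (x ^ (k + 1) * y ^ (k + 1)) := by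
          rw [← (sc_comm (c ^ k) (x ^ k)).eq, (sc_comm (c ^ k) (sc (c ^ k.choose 2))).eq, pow_succ x, pow_succ y]
          simp [mul_assoc]

/-- The data of an absolutely irreducible group abelian of prime exponent modulo scalars. -/
structure AbData (N : Subgroup (GL ι F)) (r : ℕ) : Prop where
  ai : AI N
  scal : scalars ι F ≤ N
  comm : Scal N
  prime : r.Prime
  pow_mem : ∀ x ∈ N, x ^ r ∈ scalars ι F
  ne_char : (r : F) ≠ 0

/-- The scalar group inside a group. -/
abbrev scalIn (N : Subgroup (GL ι F)) : Subgroup N := (scalars ι F).subgroupOf N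

/-- A representative of a class modulo scalars. -/
noncomputable def rep {N : Subgroup (GL ι F)} (q : N ⧸ scalIn N) : GL ι F := (q.out : GL ι F)

theorem rep_mem {N : Subgroup (GL ι F)} (q : N ⧸ scalIn N) : rep q ∈ N := q.out.2

theorem rep_eq {N : Subgroup (GL ι F)} {x : GL ι F} (hx : x ∈ N) :
    ∃ c : Fˣ, x = sc c * rep (QuotientGroup.mk (s := scalIn N) ⟨x, hx⟩) := by
  set q : N ⧸ scalIn N := QuotientGroup.mk (s := scalIn N) ⟨x, hx⟩ with hq
  have h1 : (QuotientGroup.mk (s := scalIn N) q.out) = q := QuotientGroup.out_eq' q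
  rw [hq, QuotientGroup.eq] at h1
  obtain ⟨c, hc⟩ := exists_sc (show (q.out : GL ι F)⁻¹ * x ∈ scalars ι F from h1)
  refine ⟨c, ?_⟩
  rw [(sc_comm c (rep q)).eq, ← hc, rep]
  group

theorem mk_eq_iff {N : Subgroup (GL ι F)} (a b : N) :
    (QuotientGroup.mk (s := scalIn N) a) = QuotientGroup.mk b ↔ (a : GL ι F)⁻¹ * b ∈ scalars ι F := by
  rw [QuotientGroup.eq]; rfl

variable {N : Subgroup (GL ι F)} {r : ℕ}

/-- The commutator character. -/
noncomputable def chi (hN : Scal N) (q b : N ⧸ scalIn N) : Fˣ := (hN _ (rep_mem q) _ (rep_mem b)).choose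

theorem chi_spec (hN : Scal N) (q b : N ⧸ scalIn N) :
    rep b * rep q = sc (chi hN q b) * (rep q * rep b) := (hN _ (rep_mem q) _ (rep_mem b)).choose_spec

theorem cj_rep (hN : Scal N) (q b : N ⧸ scalIn N) :
    cj (rep b) (rep q : Matrix ι ι F) = ((chi hN q b : Fˣ) : F) • (rep q : Matrix ι ι F) := by
  rw [cj_coe, chi_spec hN, mul_assoc, mul_assoc, mul_inv_cancel, mul_one, Units.val_mul, sc_coe, Matrix.smul_mul,
    one_mul]

theorem smul_rep_inj (q : N ⧸ scalIn N) [Nonempty ι] {a b : F} (h : a • (rep q : Matrix ι ι F) = b • (rep q : Matrix ι ι F)) :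
    a = b := by
  have h2 : a • (1 : Matrix ι ι F) = b • 1 := by
    have := congrArg (· * (((rep q)⁻¹ : GL ι F) : Matrix ι ι F)) h
    simpa [Matrix.smul_mul] using this
  obtain ⟨i⟩ := ‹Nonempty ι›
  simpa using congrFun (congrFun h2 i) i

theorem cj_sc (c : Fˣ) (g : GL ι F) (M : Matrix ι ι F) : cj (sc c * g) M = cj g M := by
  rw [← cj_cj]
  show (sc c : GL ι F).val * cj g M * ((sc c : GL ι F)⁻¹).val = cj g M
  rw [scalar_comm (sc_mem c), mul_assoc, Units.mul_inv, mul_one]

theorem cj_rep_mul (hN : Scal N) (q : N ⧸ scalIn N) (a b : N ⧸ scalIn N) [Nonempty ι] :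
    chi hN q (a * b) = chi hN q a * chi hN q b := by
  have h0 : (QuotientGroup.mk (s := scalIn N) (a.out * b.out)) = a * b := by simp
  obtain ⟨c, hc⟩ := rep_eq (N := N) (x := rep a * rep b) (N.mul_mem (rep_mem a) (rep_mem b))
  have hq : QuotientGroup.mk (s := scalIn N) (⟨rep a * rep b, N.mul_mem (rep_mem a) (rep_mem b)⟩ : N) = a * b := h0
  rw [hq] at hc
  have h1 := cj_rep hN q (a * b)
  rw [← cj_sc c, ← hc, ← cj_cj, cj_rep hN q b, cj_smul, cj_rep hN q a, smul_smul] at h1
  exact Units.ext (by rw [Units.val_mul, ← smul_rep_inj q h1, mul_comm])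

theorem rep_mul_chi (hN : Scal N) (q q' b : N ⧸ scalIn N) [Nonempty ι] :
    chi hN (q * q') b = chi hN q b * chi hN q' b := by
  obtain ⟨c, hc⟩ := rep_eq (N := N) (x := rep q * rep q') (N.mul_mem (rep_mem q) (rep_mem q'))
  have hq : QuotientGroup.mk (s := scalIn N) (⟨rep q * rep q', N.mul_mem (rep_mem q) (rep_mem q')⟩ : N) = q * q' := by
    have h0 : (QuotientGroup.mk (s := scalIn N) (q.out * q'.out)) = q * q' := by simp
    exact h0
  rw [hq] at hc
  have h1 := cj_rep hN (q * q') b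
  have h2 : cj (rep b) ((sc c * rep (q * q') : GL ι F) : Matrix ι ι F) =
      ((chi hN q b : Fˣ) : F) • ((chi hN q' b : Fˣ) : F) • ((sc c * rep (q * q') : GL ι F) : Matrix ι ι F) := by
    rw [← hc, Units.val_mul, cj_mul, cj_rep hN, cj_rep hN, Matrix.smul_mul, Matrix.mul_smul]
  rw [Units.val_mul, sc_coe, Matrix.smul_mul, one_mul, cj_smul, h1, smul_smul, smul_smul, smul_smul] at h2
  refine Units.ext (mul_left_cancel₀ c.ne_zero ?_)
  rw [smul_rep_inj _ h2, Units.val_mul]
  ring

theorem com_of_chi (hN : Scal N) {M : Matrix ι ι F}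
    (h : ∀ b : N ⧸ scalIn N, cj (rep b) M = M) : Com N M := by
  intro x hx
  obtain ⟨c, hc⟩ := rep_eq hx
  have h1 : cj x M = M := by rw [hc, cj_sc, h]
  rw [cj] at h1
  calc M * (x : Matrix ι ι F) = ((x : Matrix ι ι F) * M * ((x⁻¹ : GL ι F) : Matrix ι ι F)) * x := by rw [h1]
    _ = _ := by rw [mul_assoc _ _ (x : Matrix ι ι F), Units.inv_mul, mul_one]

theorem eq_one_of_chi (hN : AbData N r) [Nonempty ι] {q : N ⧸ scalIn N}
    (h : ∀ b, chi hN.comm q b = 1) : q = 1 := by
  have h1 : rep q ∈ scalars ι F := hN.ai.mem_scalars fun x hx => Units.ext (by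
    simpa using com_of_chi hN.comm (M := (rep q : Matrix ι ι F)) (fun b => by
      rw [cj_rep hN.comm, h b, Units.val_one, one_smul]) x hx)
  rw [← QuotientGroup.out_eq' q, QuotientGroup.eq_one_iff]
  exact h1

theorem exists_chi_ne (hN : AbData N r) [Nonempty ι] {b : N ⧸ scalIn N} (hb : b ≠ 1) :
    ∃ q, chi hN.comm q b ≠ 1 := by
  by_contra hno
  push Not at hno
  apply hb
  refine eq_one_of_chi hN fun q => ?_
  have h1 := chi_spec hN.comm q b
  have h2 := chi_spec hN.comm b q
  rw [hno q, map_one, one_mul] at h1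
  rw [h1] at h2
  exact sc_injective (by simpa using h2.symm)

theorem isPGroup_quot (hN : AbData N r) : IsPGroup r (N ⧸ scalIn N) := fun q => ⟨1, by
  obtain ⟨x, rfl⟩ := QuotientGroup.mk_surjective q
  rw [pow_one, ← QuotientGroup.mk_pow, QuotientGroup.eq_one_iff]
  exact hN.pow_mem x x.2⟩

theorem card_quot_ne_zero [Fintype F] (hN : AbData N r) : ((Nat.card (N ⧸ scalIn N) : ℕ) : F) ≠ 0 := by
  haveI : Fact r.Prime := ⟨hN.prime⟩
  obtain ⟨k, hk⟩ := (isPGroup_quot hN).exists_card_eq
  rw [hk, Nat.cast_pow]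
  exact pow_ne_zero _ hN.ne_char

theorem basis_spec [Fintype F] (hN : AbData N r) [Nonempty ι] [Fintype (N ⧸ scalIn N)] :
    LinearIndependent F (fun q : N ⧸ scalIn N => (rep q : Matrix ι ι F)) ∧
      Fintype.card (N ⧸ scalIn N) = Fintype.card ι * Fintype.card ι := by
  classical
  have hcard : ((Fintype.card (N ⧸ scalIn N) : ℕ) : F) ≠ 0 := by
    rw [← Nat.card_eq_fintype_card]; exact card_quot_ne_zero hN
  have hsum1 : ∀ b : N ⧸ scalIn N, b ≠ 1 → (∑ q, (((chi hN.comm q b)⁻¹ : Fˣ) : F)) = 0 := by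
    intro b hb
    obtain ⟨q₀, hq₀⟩ := exists_chi_ne hN hb
    have h1 : (∑ q, (((chi hN.comm q b)⁻¹ : Fˣ) : F)) =
        (((chi hN.comm q₀ b)⁻¹ : Fˣ) : F) * ∑ q, (((chi hN.comm q b)⁻¹ : Fˣ) : F) := by
      rw [Finset.mul_sum]
      refine (Fintype.sum_equiv (Equiv.mulLeft q₀) _ _ fun q => ?_).symm
      rw [Equiv.coe_mulLeft, rep_mul_chi, mul_inv, Units.val_mul]
    refine (mul_eq_zero.1 (show ((((chi hN.comm q₀ b)⁻¹ : Fˣ) : F) - 1) *
      ∑ q, (((chi hN.comm q b)⁻¹ : Fˣ) : F) = 0 by linear_combination -h1)).resolve_left fun h => hq₀ ?_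
    exact inv_eq_one.1 (Units.ext (by simpa [sub_eq_zero] using h))
  have hsum2 : ∀ q q' : N ⧸ scalIn N, q ≠ q' →
      (∑ b, (((chi hN.comm q' b)⁻¹ : Fˣ) : F) * (chi hN.comm q b : F)) = 0 := by
    intro q q' hne
    obtain ⟨b₀, hb₀⟩ : ∃ b₀, chi hN.comm q b₀ ≠ chi hN.comm q' b₀ := by
      by_contra hno
      push Not at hno
      refine hne (mul_inv_eq_one.1 (eq_one_of_chi hN (q := q * q'⁻¹) fun b => ?_))
      have h0 : chi hN.comm (q * q'⁻¹) b * chi hN.comm q' b = chi hN.comm q b := by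
        rw [← rep_mul_chi, inv_mul_cancel_right]
      rw [hno b] at h0
      exact mul_eq_right.1 h0
    set f : N ⧸ scalIn N → F := fun b => (((chi hN.comm q' b)⁻¹ : Fˣ) : F) * (chi hN.comm q b : F) with hf
    have h1 : (∑ b, f b) = f b₀ * ∑ b, f b := by
      rw [Finset.mul_sum]
      refine (Fintype.sum_equiv (Equiv.mulLeft b₀) _ _ fun b => ?_).symm
      simp only [hf, Equiv.coe_mulLeft, cj_rep_mul, mul_inv, Units.val_mul]
      ring
    refine (mul_eq_zero.1 (show (f b₀ - 1) * ∑ b, f b = 0 by linear_combination -h1)).resolve_left fun h => hb₀ ?_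
    refine inv_mul_eq_one.1 (Units.ext ?_) |>.symm
    simpa [sub_eq_zero, hf] using h
  have hli : LinearIndependent F (fun q : N ⧸ scalIn N => (rep q : Matrix ι ι F)) := by
    rw [Fintype.linearIndependent_iff]
    intro g hg q₀
    have h1 : ∑ q, (g q * ∑ b, (((chi hN.comm q₀ b)⁻¹ : Fˣ) : F) * (chi hN.comm q b : F)) • (rep q : Matrix ι ι F) =
        0 := by
      have : ∀ b, ∑ q, ((((chi hN.comm q₀ b)⁻¹ : Fˣ) : F) * (g q * (chi hN.comm q b : F))) •
          (rep q : Matrix ι ι F) = 0 := fun b => by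
        simp only [← smul_smul, ← cj_rep hN.comm]
        rw [← Finset.smul_sum]
        have h2 : cj (rep b) (∑ q, g q • (rep q : Matrix ι ι F)) = ∑ q, g q • cj (rep b) (rep q : Matrix ι ι F) := by
          simp only [cj, Finset.mul_sum, Finset.sum_mul, Matrix.mul_smul, Matrix.smul_mul]
        rw [← h2, hg]
        simp [cj]
      calc _ = ∑ q, ∑ b, ((((chi hN.comm q₀ b)⁻¹ : Fˣ) : F) * (g q * (chi hN.comm q b : F))) •
            (rep q : Matrix ι ι F) := by
            refine Finset.sum_congr rfl fun q _ => ?_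
            rw [Finset.mul_sum, Finset.sum_smul]
            exact Finset.sum_congr rfl fun b _ => by congr 1; ring
        _ = 0 := by rw [Finset.sum_comm]; exact Finset.sum_eq_zero fun b _ => this b
    rw [Finset.sum_eq_single q₀ (fun q _ hq => by rw [hsum2 q q₀ hq, mul_zero, zero_smul])
      (fun h => absurd (Finset.mem_univ _) h)] at h1
    have h2 : g q₀ * ∑ b, (((chi hN.comm q₀ b)⁻¹ : Fˣ) : F) * (chi hN.comm q₀ b : F) = 0 :=
      smul_rep_inj q₀ (h1.trans (zero_smul F _).symm)
    simpa [hcard] using h2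
  refine ⟨hli, ?_⟩
  have hspan : ⊤ ≤ Submodule.span F (Set.range fun q : N ⧸ scalIn N => (rep q : Matrix ι ι F)) := by
    intro M _
    let part : (N ⧸ scalIn N) → Matrix ι ι F := fun q => ∑ b, (((chi hN.comm q b)⁻¹ : Fˣ) : F) • cj (rep b) M
    have hpart : ∀ q, ∃ c : F, part q = c • (rep q : Matrix ι ι F) := by
      intro q
      have heig : ∀ a, cj (rep a) (part q) = ((chi hN.comm q a : Fˣ) : F) • part q := by
        intro a
        have h2 : cj (rep a) (part q) =
            ∑ b, (((chi hN.comm q b)⁻¹ : Fˣ) : F) • cj (rep a) (cj (rep b) M) := by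
          simp only [part, cj, Finset.mul_sum, Finset.sum_mul, Matrix.mul_smul, Matrix.smul_mul]
        rw [h2, Finset.smul_sum]
        refine Fintype.sum_equiv (Equiv.mulLeft a) _ _ fun b => ?_
        obtain ⟨c, hc⟩ := rep_eq (N := N) (x := rep a * rep b) (N.mul_mem (rep_mem a) (rep_mem b))
        have hq : QuotientGroup.mk (s := scalIn N) (⟨rep a * rep b, N.mul_mem (rep_mem a) (rep_mem b)⟩ : N) =
            a * b := by
          have h0 : (QuotientGroup.mk (s := scalIn N) (a.out * b.out)) = a * b := by simp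
          exact h0
        rw [hq] at hc
        rw [cj_cj, hc, cj_sc, smul_smul, Equiv.coe_mulLeft, cj_rep_mul, mul_inv, Units.val_mul]
        congr 1
        rw [← mul_assoc, ← Units.val_mul, mul_inv_cancel, Units.val_one, one_mul]
      obtain ⟨c, hc⟩ := hN.ai.scalar (com_of_chi hN.comm
        (M := part q * (((rep q)⁻¹ : GL ι F) : Matrix ι ι F)) fun a => by
          have h3 : cj (rep a) (((rep q)⁻¹ : GL ι F) : Matrix ι ι F) =
              (((chi hN.comm q a)⁻¹ : Fˣ) : F) • (((rep q)⁻¹ : GL ι F) : Matrix ι ι F) := by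
            rw [cj_coe, show rep a * (rep q)⁻¹ * (rep a)⁻¹ = (rep a * rep q * (rep a)⁻¹)⁻¹ by group,
              chi_spec hN.comm, mul_assoc, mul_assoc, mul_inv_cancel, mul_one, _root_.mul_inv_rev, ← map_inv,
              ← (sc_comm _ _).eq, Units.val_mul, sc_coe, Matrix.smul_mul, one_mul]
          rw [cj_mul, heig, h3, Matrix.smul_mul, Matrix.mul_smul, smul_smul, ← Units.val_mul, mul_inv_cancel,
            Units.val_one, one_smul])
      refine ⟨c, ?_⟩
      calc part q = part q * (((rep q)⁻¹ : GL ι F) : Matrix ι ι F) * (rep q : Matrix ι ι F) := by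
            rw [mul_assoc, Units.inv_mul, mul_one]
        _ = _ := by rw [hc, Matrix.smul_mul, one_mul]
    choose c hc using hpart
    have htot : (Fintype.card (N ⧸ scalIn N) : F) • M = ∑ q, part q := by
      simp only [part]
      rw [Finset.sum_comm]
      simp only [← Finset.sum_smul]
      rw [Finset.sum_eq_single 1 (fun b _ hb => by rw [hsum1 b hb, zero_smul])
        (fun h => absurd (Finset.mem_univ _) h)]
      have h4 : ∀ q, chi hN.comm q 1 = 1 := fun q => by
        have := cj_rep_mul hN.comm q 1 1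
        rw [mul_one] at this
        exact left_eq_mul.1 this
      obtain ⟨d, hd⟩ := rep_eq (N := N) N.one_mem
      have h5 : cj (rep (1 : N ⧸ scalIn N)) M = M := by
        have h6 : QuotientGroup.mk (s := scalIn N) (⟨1, N.one_mem⟩ : N) = 1 := rfl
        rw [h6] at hd
        rw [← cj_sc d, ← hd, cj_one]
      simp [h4, h5]
    rw [show M = (Fintype.card (N ⧸ scalIn N) : F)⁻¹ • ∑ q, part q by
      rw [← htot, smul_smul, inv_mul_cancel₀ hcard, one_smul]]
    refine Submodule.smul_mem _ _ (Submodule.sum_mem _ fun q _ => ?_)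
    rw [hc q]
    exact Submodule.smul_mem _ _ (Submodule.subset_span ⟨q, rfl⟩)
  have h3 := Module.finrank_eq_card_basis (Module.Basis.mk hli hspan)
  rw [Module.finrank_matrix, Module.finrank_self, mul_one] at h3
  exact h3.symm

end Cfsg.Agent.Classical.Asch
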