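import Cfsg.Agent.Lib.Classical.MaxTensorAlg
import Cfsg.Prelude.Def_GeometricClasses

/-!
Symplectic forms given as functions, their Gram maps, and the change of coordinates of a tensor decomposition.
-/

set_option autoImplicit false
set_option linter.unusedSectionVars false

namespace Cfsg.Agent.Classical.TensorMax

open Matrix Module MaxTv
open scoped Kronecker

variable {F : Type*} [Field F] [Fintype F]

/-- An alternating non-degenerate form has even dimension. -/
theorem Alt.even_card {β : Type} [Fintype β] [DecidableEq β] {j : (β → F) →ₗ[F] (β → F)} (hj : Alt j) :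
    Even (Fintype.card β) := by
  suffices H : ∀ (k : ℕ) (W : Submodule F (β → F)), finrank F W ≤ k → (∀ w ∈ W, w ≠ 0 → ∃ u ∈ W, j w ⬝ᵥ u ≠ 0) →
      Even (finrank F W) by
    have := H _ ⊤ le_rfl fun w _ hw => by
      obtain ⟨u, hu, -⟩ := hj.pick (S := ⊥) (fun h => hw ((Submodule.mem_bot F).1 h))
      exact ⟨u, Submodule.mem_top, by rw [hu]; exact one_ne_zero⟩
    rwa [finrank_top, Module.finrank_fintype_fun_eq_card] at this
  intro k
  induction k with
  | zero => intro W hW _; rw [Nat.le_zero.1 hW]; exact ⟨0, rfl⟩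
  | succ k ih =>
    intro W hW hnd
    by_cases h0 : W = ⊥
    · rw [h0, finrank_bot]; exact ⟨0, rfl⟩
    obtain ⟨x, hx, hx0⟩ := Submodule.exists_mem_ne_zero_of_ne_bot h0
    obtain ⟨u, hu, hxu⟩ := hnd x hx hx0
    set x' := (j x ⬝ᵥ u)⁻¹ • u with hx'
    have hx'W : x' ∈ W := W.smul_mem _ hu
    have hxx : j x ⬝ᵥ x' = 1 := by rw [hx', dotProduct_smul, smul_eq_mul, inv_mul_cancel₀ hxu]
    have hx'x : j x' ⬝ᵥ x = -1 := by rw [hj.skew, hxx]
    clear_value x'
    let L : W →ₗ[F] F × F :=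
      { toFun := fun v => (j x ⬝ᵥ v.1, j x' ⬝ᵥ v.1)
        map_add' := fun a b => by simp [dotProduct_add]
        map_smul' := fun c a => by simp [dotProduct_smul] }
    have hLs : Function.Surjective L := fun p => by
      refine ⟨⟨p.1 • x' - p.2 • x, W.sub_mem (W.smul_mem _ hx'W) (W.smul_mem _ hx)⟩, Prod.ext ?_ ?_⟩
      · show j x ⬝ᵥ (p.1 • x' - p.2 • x) = p.1
        rw [dotProduct_sub, dotProduct_smul, dotProduct_smul, hxx, hj.self, smul_eq_mul, mul_one, smul_zero, sub_zero]
      · show j x' ⬝ᵥ (p.1 • x' - p.2 • x) = p.2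
        rw [dotProduct_sub, dotProduct_smul, dotProduct_smul, hx'x, hj.self, smul_zero, smul_eq_mul]
        ring
    have hrk := L.finrank_range_add_finrank_ker
    rw [LinearMap.range_eq_top.2 hLs, finrank_top, Module.finrank_prod, finrank_self] at hrk
    set W' : Submodule F (β → F) := (LinearMap.ker L).map W.subtype with hW'
    have hdim : finrank F W' = finrank F (LinearMap.ker L) :=
      (Submodule.equivMapOfInjective _ W.injective_subtype _).finrank_eq.symm
    have := ih W' (by omega) fun w hw hw0 => by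
      obtain ⟨v, hv, rfl⟩ := Submodule.mem_map.1 hw
      have e1 : j x ⬝ᵥ v.1 = 0 := congrArg Prod.fst (LinearMap.mem_ker.1 hv)
      have e2 : j x' ⬝ᵥ v.1 = 0 := congrArg Prod.snd (LinearMap.mem_ker.1 hv)
      obtain ⟨z, hz, hvz⟩ := hnd v.1 v.2 hw0
      have hz' : z - ((j x ⬝ᵥ z) • x' - (j x' ⬝ᵥ z) • x) ∈ W' := Submodule.mem_map.2
        ⟨⟨_, W.sub_mem hz (W.sub_mem (W.smul_mem _ hx'W) (W.smul_mem _ hx))⟩, LinearMap.mem_ker.2 (Prod.ext
          (by
            show j x ⬝ᵥ _ = (0 : F)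
            simp only [dotProduct_sub, dotProduct_smul, hj.self, hxx, smul_eq_mul]; ring)
          (by
            show j x' ⬝ᵥ _ = (0 : F)
            simp only [dotProduct_sub, dotProduct_smul, hj.self, hx'x, smul_eq_mul]; ring)), rfl⟩
      refine ⟨_, hz', ?_⟩
      show j v.1 ⬝ᵥ _ ≠ 0
      simp only [dotProduct_sub, dotProduct_smul, hj.skew x' v.1, hj.skew x v.1, e1, e2, neg_zero, smul_zero,
        sub_zero]
      exact hvz
    obtain ⟨r, hr⟩ := this
    exact ⟨r + 1, by omega⟩

/-- The Gram map of a form, scaled. -/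
noncomputable def gramMap {k : ℕ} (c : F) (f : (Fin k → F) → (Fin k → F) → F) :
    (Fin k → F) →ₗ[F] (Fin k → F) :=
  c • Matrix.toLin' (Geo.gramMatrix f)ᵀ

theorem gramMap_dot {k : ℕ} {f : (Fin k → F) → (Fin k → F) → F} (hf : Geo.IsBilinearForm f) (c : F)
    (x y : Fin k → F) : gramMap c f x ⬝ᵥ y = c * f x y := by
  have hl : IsLinearMap F fun v => f v y := ⟨fun a b => hf.add_left a b y, fun r a => hf.smul_left r a y⟩
  have hr : ∀ i, IsLinearMap F fun v => f (Pi.single i 1) v :=
    fun i => ⟨fun a b => hf.add_right _ a b, fun r a => hf.smul_right r _ a⟩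
  rw [gramMap, LinearMap.smul_apply, Matrix.toLin'_apply, smul_dotProduct, Matrix.mulVec_transpose,
    ← Matrix.dotProduct_mulVec, smul_eq_mul]
  congr 1
  show x ⬝ᵥ Geo.gramMatrix f *ᵥ y = (hl.mk' _) x
  conv_rhs => rw [← Finset.univ_sum_single x, map_sum]
  refine Finset.sum_congr rfl fun i _ => ?_
  rw [show (Pi.single i (x i) : Fin k → F) = x i • Pi.single i 1 by rw [← Pi.single_smul, smul_eq_mul, mul_one],
    map_smul, smul_eq_mul]
  congr 1
  show Geo.gramMatrix f i ⬝ᵥ y = ((hr i).mk' _) y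
  conv_rhs => rw [← Finset.univ_sum_single y, map_sum]
  refine Finset.sum_congr rfl fun l _ => ?_
  rw [show (Pi.single l (y l) : Fin k → F) = y l • Pi.single l 1 by rw [← Pi.single_smul, smul_eq_mul, mul_one],
    map_smul, smul_eq_mul, mul_comm]
  rfl

theorem alt_gramMap {k : ℕ} {f : (Fin k → F) → (Fin k → F) → F} (hf : Geo.IsSymplecticForm f) {c : F}
    (hc : c ≠ 0) : Alt (gramMap c f) where
  self u := by rw [gramMap_dot hf.bilinear, hf.alternating, mul_zero]
  inj := by
    refine (injective_iff_map_eq_zero _).2 fun u hu => ?_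
    by_contra h0
    obtain ⟨x, hx⟩ := (hf.nondegenerate u h0).2
    have := gramMap_dot hf.bilinear c u x
    rw [hu, zero_dotProduct] at this
    exact mul_ne_zero hc hx this.symm

theorem formOfGram_tmul {n₁ n₂ : ℕ} {f₁ : (Fin n₁ → F) → (Fin n₁ → F) → F} {f₂ : (Fin n₂ → F) → (Fin n₂ → F) → F}
    (hf₁ : Geo.IsBilinearForm f₁) (hf₂ : Geo.IsBilinearForm f₂) (c : F) (x x' : Fin n₁ → F) (y y' : Fin n₂ → F) :
    c * Geo.formOfGram id (Geo.gramMatrix f₁ ⊗ₖ Geo.gramMatrix f₂) (tmul x y) (tmul x' y') =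
      (gramMap c f₁ x ⬝ᵥ x') * (gramMap 1 f₂ y ⬝ᵥ y') := by
  have h : ∀ {k : ℕ} (c : F) (f : (Fin k → F) → (Fin k → F) → F) (u v : Fin k → F),
      gramMap c f u ⬝ᵥ v = c * ∑ a, ∑ b, u a * Geo.gramMatrix f a b * v b := fun {k} c f u v => by
    rw [gramMap, LinearMap.smul_apply, Matrix.toLin'_apply, smul_dotProduct, Matrix.mulVec_transpose,
      ← Matrix.dotProduct_mulVec, smul_eq_mul]
    simp only [Matrix.mulVec, dotProduct, Finset.mul_sum, mul_assoc]
  rw [h, h, one_mul, mul_assoc]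
  congr 1
  simp only [Geo.formOfGram, Fintype.sum_prod_type, tmul, Matrix.kroneckerMap_apply, id]
  rw [Finset.sum_mul_sum]
  refine Finset.sum_congr rfl fun a _ => Finset.sum_congr rfl fun a' _ => ?_
  rw [Finset.sum_mul_sum]
  exact Finset.sum_congr rfl fun b _ => Finset.sum_congr rfl fun b' _ => by ring

section
variable {ι α β : Type} [Fintype ι] [DecidableEq ι] [Fintype α] [DecidableEq α] [Fintype β] [DecidableEq β]

/-- The change of coordinates. -/
noncomputable def coordEquiv (e : ι ≃ α × β) (P : GL ι F) : (α × β → F) ≃ₗ[F] (ι → F) :=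
  (LinearEquiv.funCongrLeft F F e).trans
    { toFun := fun v => (P : Matrix ι ι F) *ᵥ v
      map_add' := fun a b => Matrix.mulVec_add _ a b
      map_smul' := fun c a => Matrix.mulVec_smul _ c a
      invFun := fun v => ((P⁻¹ : GL ι F) : Matrix ι ι F) *ᵥ v
      left_inv := fun v => inv_mulVec_cancel P v
      right_inv := fun v => mulVec_inv_cancel P v }

theorem coordEquiv_apply (e : ι ≃ α × β) (P : GL ι F) (t : α × β → F) :
    coordEquiv e P t = (P : Matrix ι ι F) *ᵥ (t ∘ e) := rfl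

theorem coord_compat (e : ι ≃ α × β) (P : GL ι F) (g : GL (α × β) F) (t : α × β → F) :
    (((Geo.glReindex e.symm).trans (MulAut.conj P)) g : Matrix ι ι F) *ᵥ coordEquiv e P t =
      coordEquiv e P ((g : Matrix (α × β) (α × β) F) *ᵥ t) := by
  show ((P * Geo.glReindex e.symm g * P⁻¹ : GL ι F) : Matrix ι ι F) *ᵥ _ = _
  rw [coordEquiv_apply, coordEquiv_apply, Units.val_mul, Units.val_mul, ← Matrix.mulVec_mulVec,
    ← Matrix.mulVec_mulVec, inv_mulVec_cancel]
  congr 1
  show Matrix.reindexAlgEquiv F F e.symm (g : Matrix (α × β) (α × β) F) *ᵥ (t ∘ e) = _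
  funext i
  simp only [Matrix.mulVec, dotProduct, Matrix.reindexAlgEquiv_apply, Matrix.reindex_apply, Matrix.submatrix_apply,
    Equiv.symm_symm, Function.comp_apply]
  exact Equiv.sum_comp e (fun k => (g : Matrix (α × β) (α × β) F) (e i) k * t k)

end

end Cfsg.Agent.Classical.TensorMax
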