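import Cfsg.Agent.Lib.Classical.AschBasic
import Cfsg.Agent.Lib.Classical.MaxTensorGram

/-!
Forms fixed by absolutely irreducible groups and the similarity groups containing their normalisers.
-/

set_option autoImplicit false
set_option linter.unusedSectionVars false
set_option linter.unusedFintypeInType false
set_option linter.unusedDecidableInType false

namespace Cfsg.Agent.Classical.Asch

open Matrix Module Cfsg.Geo

variable {F : Type*} [Field F] {ι : Type} [Fintype ι] [DecidableEq ι]

/-- The similarity group of a non-degenerate symplectic, unitary or quadratic form contains the group. -/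
def InFormClass (H : Subgroup (GL ι F)) : Prop :=
  (∃ f : (ι → F) → (ι → F) → F, IsSymplecticForm f ∧ Even (Fintype.card ι) ∧ H ≤ similarityGroup f) ∨
  (∃ (σ : F ≃+* F) (f : (ι → F) → (ι → F) → F), IsUnitaryForm σ f ∧ H ≤ similarityGroup f) ∨
  ∃ Q : (ι → F) → F, IsNondegenerateQuadraticForm Q ∧ (2 : F) ≠ 0 ∧ H ≤ quadSimilarityGroup Q

theorem formOfGram_eq (σ : F → F) (G : Matrix ι ι F) (u v : ι → F) :
    formOfGram σ G u v = u ⬝ᵥ (G *ᵥ fun j => σ (v j)) := by
  simp [formOfGram, dotProduct, Matrix.mulVec, Finset.mul_sum, mul_assoc]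

theorem map_mulVec (σ : F ≃+* F) (g : Matrix ι ι F) (v : ι → F) :
    (fun j => σ ((g *ᵥ v) j)) = g.map σ *ᵥ fun j => σ (v j) := by
  ext j
  simp [Matrix.mulVec, dotProduct, map_sum, map_mul]

theorem formOfGram_mulVec (σ : F ≃+* F) (G g : Matrix ι ι F) (u v : ι → F) :
    formOfGram σ G (g *ᵥ u) (g *ᵥ v) = formOfGram σ (gᵀ * (G * g.map σ)) u v := by
  rw [formOfGram_eq, formOfGram_eq, map_mulVec, Matrix.mulVec_mulVec, ← Matrix.mulVec_mulVec _ gᵀ,
    Matrix.dotProduct_mulVec _ gᵀ, Matrix.vecMul_transpose]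

theorem formOfGram_smul (σ : F → F) (c : F) (G : Matrix ι ι F) (u v : ι → F) :
    formOfGram σ (c • G) u v = c * formOfGram σ G u v := by
  rw [formOfGram_eq, formOfGram_eq, Matrix.smul_mulVec, dotProduct_smul, smul_eq_mul]

theorem formOfGram_single (σ : F ≃+* F) (G : Matrix ι ι F) (a b : ι) :
    formOfGram σ G (Pi.single a 1) (Pi.single b 1) = G a b := by
  have : (fun j => σ ((Pi.single b (1 : F) : ι → F) j)) = Pi.single b 1 := by
    ext j
    by_cases h : j = b
    · subst h; simp
    · simp [h]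
  rw [formOfGram_eq, this]
  simp

theorem gram_inj (σ : F ≃+* F) {G G' : Matrix ι ι F} (h : ∀ u v, formOfGram σ G u v = formOfGram σ G' u v) :
    G = G' := by
  ext a b
  simpa [formOfGram_single] using h (Pi.single a 1) (Pi.single b 1)

/-- A semilinear form. -/
structure Sesq (σ : F ≃+* F) (f : (ι → F) → (ι → F) → F) : Prop where
  add_left : ∀ x y v, f (x + y) v = f x v + f y v
  smul_left : ∀ (c : F) (x v : ι → F), f (c • x) v = c * f x v
  add_right : ∀ v x y, f v (x + y) = f v x + f v y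
  smul_right : ∀ (c : F) (v x : ι → F), f v (c • x) = σ c * f v x

theorem sesq_formOfGram (σ : F ≃+* F) (G : Matrix ι ι F) : Sesq σ (formOfGram σ G) := by
  refine ⟨fun x y v => ?_, fun c x v => ?_, fun v x y => ?_, fun c v x => ?_⟩ <;> simp only [formOfGram_eq]
  · rw [add_dotProduct]
  · rw [smul_dotProduct, smul_eq_mul]
  · rw [← dotProduct_add, ← Matrix.mulVec_add]
    congr 2
    ext j; simp
  · rw [show (fun j => σ ((c • x) j)) = σ c • fun j => σ (x j) by ext j; simp, Matrix.mulVec_smul,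
      dotProduct_smul, smul_eq_mul]

theorem Sesq.eq_gram {σ : F ≃+* F} {f : (ι → F) → (ι → F) → F} (hf : Sesq σ f) (u v : ι → F) :
    f u v = formOfGram σ (gramMatrix f) u v := by
  have hl : ∀ (s : Finset ι) w, f (∑ a ∈ s, u a • Pi.single a (1 : F)) w = ∑ a ∈ s, u a * f (Pi.single a 1) w := by
    intro s w
    induction s using Finset.induction_on with
    | empty => simpa using hf.smul_left 0 0 w
    | insert a s ha ih => rw [Finset.sum_insert ha, Finset.sum_insert ha, hf.add_left, hf.smul_left, ih]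
  have hr : ∀ (s : Finset ι) w, f w (∑ a ∈ s, v a • Pi.single a (1 : F)) = ∑ a ∈ s, σ (v a) * f w (Pi.single a 1) := by
    intro s w
    induction s using Finset.induction_on with
    | empty => simpa using hf.smul_right 0 w 0
    | insert a s ha ih => rw [Finset.sum_insert ha, Finset.sum_insert ha, hf.add_right, hf.smul_right, ih]
  conv_lhs => rw [pi_eq_sum_univ' u, pi_eq_sum_univ' v]
  rw [hl]
  simp only [hr, formOfGram, Finset.mul_sum]
  refine Finset.sum_congr rfl fun a _ => Finset.sum_congr rfl fun b _ => ?_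
  rw [gramMatrix]; ring

theorem gram_isUnit (σ : F ≃+* F) {G : Matrix ι ι F} (h : IsNondegenerateForm (formOfGram σ G)) : IsUnit G := by
  apply Matrix.mulVec_injective_iff_isUnit.1
  intro a b hab
  by_contra hne
  obtain ⟨⟨x, hx⟩, -⟩ := h (fun j => σ.symm ((a - b) j)) (fun h0 => hne (sub_eq_zero.1 (funext fun j => by
    simpa using congrArg σ (congrFun h0 j))))
  apply hx
  rw [formOfGram_eq]
  simp only [RingEquiv.apply_symm_apply]
  rw [show (fun j => (a - b) j) = a - b from rfl, Matrix.mulVec_sub, show G *ᵥ a = G *ᵥ b from hab, sub_self,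
    dotProduct_zero]

theorem gram_nondeg (σ : F ≃+* F) {G : Matrix ι ι F} (h : IsUnit G) : IsNondegenerateForm (formOfGram σ G) := by
  intro v hv
  simp only [formOfGram_eq]
  constructor
  · by_contra hno
    push Not at hno
    apply hv
    have h1 : G *ᵥ (fun j => σ (v j)) = 0 := dotProduct_eq_zero _ fun w => by rw [dotProduct_comm]; exact hno w
    have h2 : (fun j => σ (v j)) = 0 := Matrix.mulVec_injective_iff_isUnit.2 h (by rw [h1, Matrix.mulVec_zero])
    funext j
    simpa using congrFun h2 j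
  · by_contra hno
    push Not at hno
    apply hv
    have h1 : v ᵥ* G = 0 := dotProduct_eq_zero _ fun w => by
      have := hno fun j => σ.symm (w j)
      simp only [RingEquiv.apply_symm_apply] at this
      rwa [Matrix.dotProduct_mulVec] at this
    exact Matrix.vecMul_injective_iff_isUnit.2 h (show v ᵥ* G = (0 : ι → F) ᵥ* G by rw [h1, Matrix.zero_vecMul])

/-- The group fixes the form with the given Gram matrix. -/
def Fix (σ : F ≃+* F) (P : Subgroup (GL ι F)) (G : Matrix ι ι F) : Prop :=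
  ∀ x ∈ P, (x : Matrix ι ι F)ᵀ * (G * (x : Matrix ι ι F).map σ) = G

theorem fix_of_fixesForm {σ : F ≃+* F} {P : Subgroup (GL ι F)} {f : (ι → F) → (ι → F) → F} (hf : Sesq σ f)
    (h : FixesForm (matrixSet P) f) : Fix σ P (gramMatrix f) := fun x hx => gram_inj σ fun u v => by
  rw [← formOfGram_mulVec, ← hf.eq_gram, ← hf.eq_gram]
  exact h _ ⟨x, hx, rfl⟩ u v

theorem Fix.isUnit {σ : F ≃+* F} {P : Subgroup (GL ι F)} {G : Matrix ι ι F} (hP : Irr P) (h : Fix σ P G)
    (h0 : G ≠ 0) : IsUnit G := by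
  apply Matrix.mulVec_injective_iff_isUnit.1
  -- the right radical is invariant
  let W : Submodule F (ι → F) :=
    { carrier := {v | G *ᵥ (fun j => σ (v j)) = 0}
      add_mem' := fun {a b} (ha : G *ᵥ _ = 0) (hb : G *ᵥ _ = 0) => by
        show G *ᵥ _ = 0
        rw [show (fun j => σ ((a + b) j)) = (fun j => σ (a j)) + fun j => σ (b j) by ext j; simp,
          Matrix.mulVec_add, ha, hb, add_zero]
      zero_mem' := by show G *ᵥ _ = 0; simp [show (fun _ : ι => (0 : F)) = 0 from rfl]
      smul_mem' := fun c a (ha : G *ᵥ _ = 0) => by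
        show G *ᵥ _ = 0
        rw [show (fun j => σ ((c • a) j)) = σ c • fun j => σ (a j) by ext j; simp, Matrix.mulVec_smul, ha,
          smul_zero] }
  rcases irr_iff.1 hP W (fun g hg v (hv : G *ᵥ _ = 0) => by
    show G *ᵥ _ = 0
    have h1 := h g hg
    have hgT : (((g⁻¹ : GL ι F) : Matrix ι ι F))ᵀ * (g : Matrix ι ι F)ᵀ = 1 := by
      rw [← Matrix.transpose_mul, Units.mul_inv, Matrix.transpose_one]
    rw [map_mulVec, Matrix.mulVec_mulVec,
      show G * (g : Matrix ι ι F).map σ = (((g⁻¹ : GL ι F) : Matrix ι ι F))ᵀ * G by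
        conv_rhs => rw [← h1, ← mul_assoc, hgT, one_mul],
      ← Matrix.mulVec_mulVec, hv, Matrix.mulVec_zero]) with hb | ht
  · intro a b hab
    have : (fun j => σ.symm ((a - b) j)) ∈ W := by
      show G *ᵥ _ = 0
      simp only [RingEquiv.apply_symm_apply]
      rw [show (fun j => (a - b) j) = a - b from rfl, Matrix.mulVec_sub, show G *ᵥ a = G *ᵥ b from hab, sub_self]
    rw [hb, Submodule.mem_bot] at this
    exact sub_eq_zero.1 (funext fun j => by simpa using congrArg σ (congrFun this j))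
  · exfalso
    apply h0
    ext a b
    have h2 : (fun j => σ.symm ((Pi.single b (1 : F) : ι → F) j)) ∈ W := ht ▸ trivial
    have h3 : G *ᵥ (Pi.single b (1 : F)) = 0 := by
      have := h2
      change G *ᵥ _ = 0 at this
      simpa using this
    simpa using congrFun h3 a

/-- Two fixed forms of an absolutely irreducible group are proportional. -/
theorem Fix.eq_smul {σ : F ≃+* F} {P : Subgroup (GL ι F)} {G G' : Matrix ι ι F} (hP : AI P) (h : Fix σ P G)
    (hG : IsUnit G) (h' : Fix σ P G') : ∃ c : F, G' = c • G := by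
  obtain ⟨u, hu⟩ := hG
  set D : Matrix ι ι F := ((u⁻¹ : (Matrix ι ι F)ˣ) : Matrix ι ι F) * G' with hD
  obtain ⟨c, hc⟩ := hP.scalar (M := D.map σ.symm) fun x hx => by
    have h1 := h x hx
    have h2 := h' x hx
    have hxT : (((x⁻¹ : GL ι F) : Matrix ι ι F))ᵀ * (x : Matrix ι ι F)ᵀ = 1 := by
      rw [← Matrix.transpose_mul, Units.mul_inv, Matrix.transpose_one]
    have e1 : ∀ M : Matrix ι ι F, (x : Matrix ι ι F)ᵀ * (M * (x : Matrix ι ι F).map σ) = M →
        M * (x : Matrix ι ι F).map σ = (((x⁻¹ : GL ι F) : Matrix ι ι F))ᵀ * M := fun M hM => by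
      conv_rhs => rw [← hM, ← mul_assoc, hxT, one_mul]
    have key : D * (x : Matrix ι ι F).map σ = (x : Matrix ι ι F).map σ * D := by
      calc D * (x : Matrix ι ι F).map σ
          = ((u⁻¹ : (Matrix ι ι F)ˣ) : Matrix ι ι F) * ((((x⁻¹ : GL ι F) : Matrix ι ι F))ᵀ * G') := by
            rw [hD, mul_assoc, e1 G' h2]
        _ = ((u⁻¹ : (Matrix ι ι F)ˣ) : Matrix ι ι F) * ((((x⁻¹ : GL ι F) : Matrix ι ι F))ᵀ * G) * D := by
            rw [hD, ← hu]; simp [mul_assoc]
        _ = _ := by rw [← e1 G h1, ← hu]; simp [mul_assoc]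
    have := congrArg (fun M : Matrix ι ι F => M.map σ.symm) key
    simp only [Matrix.map_mul] at this
    rwa [show ((x : Matrix ι ι F).map σ).map σ.symm = (x : Matrix ι ι F) by ext i j; simp] at this
  refine ⟨σ c, ?_⟩
  have hD' : D = σ c • (1 : Matrix ι ι F) := by
    ext i j
    have := congrArg σ (congrFun (congrFun hc i) j)
    simpa [Matrix.one_apply, apply_ite σ] using this
  calc G' = G * D := by rw [hD, ← hu]; simp
    _ = _ := by rw [hD', Matrix.mul_smul, mul_one]

/-- The normaliser of an absolutely irreducible group fixing a form consists of similarities. -/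
theorem similar_of_fix {σ : F ≃+* F} {P H : Subgroup (GL ι F)} {G : Matrix ι ι F} (hP : AI P) (hn : Norms H P)
    (h : Fix σ P G) (hG : IsUnit G) [Nonempty ι] :
    ∀ g ∈ H, ∃ c : Fˣ, ∀ u v, formOfGram σ G ((g : Matrix ι ι F) *ᵥ u) ((g : Matrix ι ι F) *ᵥ v) =
      (c : F) * formOfGram σ G u v := by
  intro g hg
  have hmul : ∀ a b : Matrix ι ι F, ∀ M, (a * b)ᵀ * (M * (a * b).map σ) = bᵀ * ((aᵀ * (M * a.map σ)) * b.map σ) := by
    intro a b M
    rw [Matrix.transpose_mul, Matrix.map_mul]
    simp [mul_assoc]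
  obtain ⟨c, hc⟩ := h.eq_smul hP hG (G' := (g : Matrix ι ι F)ᵀ * (G * (g : Matrix ι ι F).map σ)) fun x hx => by
    have h1 : (g : Matrix ι ι F) * (x : Matrix ι ι F) = ((g * x * g⁻¹ : GL ι F) : Matrix ι ι F) * (g : Matrix ι ι F) := by
      simp [mul_assoc]
    rw [← hmul, h1, hmul, h _ (hn g hg x hx)]
  have hc0 : c ≠ 0 := fun h0 => by
    rw [h0, zero_smul] at hc
    have hu : IsUnit ((g : Matrix ι ι F)ᵀ * (G * (g : Matrix ι ι F).map σ)) :=
      ((Matrix.isUnit_transpose _).2 g.isUnit).mul (hG.mul (g.isUnit.map σ.toRingHom.mapMatrix))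
    rw [hc] at hu
    exact not_isUnit_zero hu
  exact ⟨Units.mk0 c hc0, fun u v => by rw [formOfGram_mulVec, hc, formOfGram_smul]; rfl⟩

/-- An alternating form. -/
theorem symplectic_of_gram [Fintype F] {G : Matrix ι ι F} (hG : IsUnit G) (hskew : Gᵀ = -G)
    (halt : ∀ u : ι → F, u ⬝ᵥ (G *ᵥ u) = 0) :
    IsSymplecticForm (formOfGram (RingEquiv.refl F) G) ∧ Even (Fintype.card ι) := by
  have hs := sesq_formOfGram (RingEquiv.refl F) G
  have hval : ∀ u v, formOfGram (RingEquiv.refl F) G u v = u ⬝ᵥ (G *ᵥ v) := fun u v => formOfGram_eq _ _ _ _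
  refine ⟨⟨⟨hs.add_left, hs.smul_left, hs.add_right, hs.smul_right⟩, fun v w => ?_, fun v => ?_,
    gram_nondeg _ hG⟩, ?_⟩
  · rw [hval, hval, Matrix.dotProduct_mulVec, ← Matrix.mulVec_transpose, hskew, Matrix.neg_mulVec,
      neg_dotProduct, dotProduct_comm]
  · rw [hval]; exact halt v
  · classical
    exact TensorMax.Alt.even_card (j := (Matrix.toLin' Gᵀ))
      ⟨fun u => by rw [Matrix.toLin'_apply, Matrix.mulVec_transpose, ← Matrix.dotProduct_mulVec]; exact halt u,
        fun a b hab => Matrix.mulVec_injective_iff_isUnit.2 ((Matrix.isUnit_transpose _).2 hG)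
          (by simpa [Matrix.toLin'_apply] using hab)⟩

theorem alt_of_skew (h2 : (2 : F) ≠ 0) {G : Matrix ι ι F} (hskew : Gᵀ = -G) (u : ι → F) :
    u ⬝ᵥ (G *ᵥ u) = 0 := by
  have h1 : u ⬝ᵥ (G *ᵥ u) = -(u ⬝ᵥ (G *ᵥ u)) := by
    conv_lhs => rw [Matrix.dotProduct_mulVec, ← Matrix.mulVec_transpose, hskew, Matrix.neg_mulVec, neg_dotProduct,
      dotProduct_comm]
  have : (2 : F) * (u ⬝ᵥ (G *ᵥ u)) = 0 := by linear_combination h1
  exact (mul_eq_zero.1 this).resolve_left h2

/-- A symmetric matrix gives a quadratic form in odd characteristic. -/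
theorem quadratic_of_gram (h2 : (2 : F) ≠ 0) {G : Matrix ι ι F} (hG : IsUnit G) (hsymm : Gᵀ = G) :
    IsNondegenerateQuadraticForm (fun v => formOfGram (RingEquiv.refl F) G v v) := by
  have hval : ∀ u v, formOfGram (RingEquiv.refl F) G u v = u ⬝ᵥ (G *ᵥ v) := fun u v => formOfGram_eq _ _ _ _
  have hpol : QuadraticMap.polar (fun v => formOfGram (RingEquiv.refl F) G v v) =
      formOfGram (RingEquiv.refl F) ((2 : F) • G) := by
    funext u v
    rw [formOfGram_smul, QuadraticMap.polar]
    simp only [hval, add_dotProduct, Matrix.mulVec_add, dotProduct_add]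
    have : v ⬝ᵥ (G *ᵥ u) = u ⬝ᵥ (G *ᵥ v) := by
      rw [Matrix.dotProduct_mulVec, ← Matrix.mulVec_transpose, hsymm, dotProduct_comm]
    linear_combination this
  have hs := sesq_formOfGram (RingEquiv.refl F) ((2 : F) • G)
  refine ⟨fun c v => ?_, ?_, ?_⟩
  · simp only [hval, Matrix.mulVec_smul, dotProduct_smul, smul_dotProduct, smul_eq_mul]; ring
  · rw [hpol]; exact ⟨hs.add_left, hs.smul_left, hs.add_right, hs.smul_right⟩
  · rw [hpol]
    refine gram_nondeg _ ?_
    rw [show (2 : F) • G = ((2 : F) • (1 : Matrix ι ι F)) * G by rw [Matrix.smul_mul, one_mul]]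
    exact IsUnit.mul ⟨⟨(2 : F) • 1, (2 : F)⁻¹ • 1, by simp [Matrix.smul_mul, Matrix.mul_smul, smul_smul, h2],
      by simp [Matrix.smul_mul, Matrix.mul_smul, smul_smul, h2]⟩, rfl⟩ hG

theorem unitary_of_gram {σ : F ≃+* F} (hne : σ ≠ RingEquiv.refl F) (hinv : ∀ a, σ (σ a) = a) {G : Matrix ι ι F}
    (hG : IsUnit G) (hherm : Gᵀ.map σ = G) : IsUnitaryForm σ (formOfGram σ G) := by
  have hs := sesq_formOfGram σ G
  refine ⟨hne, hinv, hs.add_left, hs.smul_left, fun v w => ?_, gram_nondeg σ hG⟩
  have hab : ∀ a b, σ (G b a) = G a b := fun a b => congrFun (congrFun hherm a) b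
  simp only [formOfGram, map_sum, map_mul, hinv]
  rw [Finset.sum_comm (f := fun a b => σ (w a) * σ (G a b) * v b)]
  refine Finset.sum_congr rfl fun a _ => Finset.sum_congr rfl fun b _ => ?_
  rw [hab a b]
  ring

/-- An absolutely irreducible group fixing some non-zero form puts its normaliser in a similarity group. -/
theorem formClass_of_fix [Fintype F] [Nonempty ι] {σ : F ≃+* F} (hinv : ∀ a, σ (σ a) = a) {P H : Subgroup (GL ι F)}
    (hP : AI P) (hn : Norms H P) {G : Matrix ι ι F} (h : Fix σ P G) (h0 : G ≠ 0)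
    (h2 : σ = RingEquiv.refl F → (2 : F) ≠ 0) : InFormClass H := by
  have hU := h.isUnit hP.irr h0
  have hstar : Fix σ P (Gᵀ.map σ) := fun x hx => by
    have h1 : (((x : Matrix ι ι F)ᵀ * (G * (x : Matrix ι ι F).map σ))ᵀ).map σ = Gᵀ.map σ := by rw [h x hx]
    rw [Matrix.transpose_mul, Matrix.transpose_mul, Matrix.transpose_transpose, Matrix.map_mul, Matrix.map_mul] at h1
    rwa [show (((x : Matrix ι ι F).map σ)ᵀ).map σ = (x : Matrix ι ι F)ᵀ by ext i j; simp [hinv], mul_assoc] at h1
  obtain ⟨c, hc⟩ := h.eq_smul hP hU hstar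
  obtain ⟨a, hab⟩ : ∃ a b, G a b ≠ 0 := by
    by_contra hno
    push Not at hno
    exact h0 (Matrix.ext hno)
  obtain ⟨b, hab⟩ := hab
  have e1 := congrFun (congrFun hc a) b
  have e2 := congrFun (congrFun hc b) a
  simp only [Matrix.map_apply, Matrix.transpose_apply, Matrix.smul_apply, smul_eq_mul] at e1 e2
  have hcc : σ c * c = 1 := by
    have := congrArg σ e2
    rw [hinv, map_mul, e1, ← mul_assoc] at this
    exact mul_left_eq_self₀.1 this.symm |>.resolve_right hab
  by_cases hσ : σ = RingEquiv.refl F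
  · have h2' := h2 hσ
    subst hσ
    rw [show Gᵀ.map (RingEquiv.refl F) = Gᵀ from rfl] at hc
    rcases mul_self_eq_one_iff.1 (by simpa using hcc) with h1 | h1
    · rw [h1, one_smul] at hc
      refine Or.inr (Or.inr ⟨_, quadratic_of_gram h2' hU hc, h2', fun g hg => ?_⟩)
      obtain ⟨d, hd⟩ := similar_of_fix hP hn h hU g hg
      exact ⟨d, fun v => hd v v⟩
    · rw [h1, neg_one_smul] at hc
      obtain ⟨hs, he⟩ := symplectic_of_gram hU hc (alt_of_skew h2' hc)
      exact Or.inl ⟨_, hs, he, similar_of_fix hP hn h hU⟩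
  · obtain ⟨t, ht⟩ : ∃ t, t + σ t * c ≠ 0 := by
      by_contra hno
      push Not at hno
      have hc1 : c = -1 := by
        have := hno 1
        rw [map_one, one_mul] at this
        exact eq_neg_of_add_eq_zero_right this
      exact hσ (RingEquiv.ext fun t => by
        have := hno t
        rw [hc1] at this
        show σ t = t
        linear_combination -this)
    set G' := (t + σ t * c) • G with hG'
    have hu' : IsUnit G' := by
      rw [hG', show (t + σ t * c) • G = (Units.mk0 _ ht) • G from rfl]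
      exact hU.smul _
    have hfix' : Fix σ P G' := fun x hx => by
      rw [hG', Matrix.smul_mul, Matrix.mul_smul, h x hx]
    have hh : G'ᵀ.map σ = G' := by
      ext i j
      have h1 := congrFun (congrFun hc i) j
      simp only [Matrix.map_apply, Matrix.transpose_apply, Matrix.smul_apply, smul_eq_mul, hG', map_mul, map_add,
        hinv] at h1 ⊢
      rw [h1]
      linear_combination (t * G i j) * hcc
    exact Or.inr (Or.inl ⟨σ, _, unitary_of_gram hσ hinv hu' hh, similar_of_fix hP hn hfix' hu'⟩)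

theorem sesq_of_unitary {σ : F ≃+* F} {f : (ι → F) → (ι → F) → F} (hf : IsUnitaryForm σ f) : Sesq σ f :=
  ⟨hf.add_left, hf.smul_left,
    fun v x y => by rw [hf.herm, hf.add_left, map_add, ← hf.herm, ← hf.herm],
    fun c v x => by rw [hf.herm, hf.smul_left, map_mul, ← hf.herm]⟩

theorem sesq_of_bilinear {f : (ι → F) → (ι → F) → F} (hf : IsBilinearForm f) : Sesq (RingEquiv.refl F) f :=
  ⟨hf.add_left, hf.smul_left, hf.add_right, hf.smul_right⟩

/-- The normaliser of an absolutely irreducible group fixing a symplectic form. -/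
theorem le_sim_of_symplectic [Fintype F] [Nonempty ι] {P H : Subgroup (GL ι F)} (hP : AI P) (hn : Norms H P)
    {f : (ι → F) → (ι → F) → F} (hf : IsSymplecticForm f) (hfix : FixesForm (matrixSet P) f) :
    Even (Fintype.card ι) ∧ H ≤ similarityGroup f := by
  have hs := sesq_of_bilinear hf.bilinear
  have he : formOfGram (RingEquiv.refl F) (gramMatrix f) = f := by funext u v; exact (hs.eq_gram u v).symm
  have hu : IsUnit (gramMatrix f) := gram_isUnit (RingEquiv.refl F) (by rw [he]; exact hf.nondegenerate)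
  refine ⟨(symplectic_of_gram hu ?_ ?_).2, fun g hg => ?_⟩
  · ext a b
    exact hf.skew _ _
  · intro u
    have := formOfGram_eq (RingEquiv.refl F) (gramMatrix f) u u
    rw [he, hf.alternating] at this
    exact this.symm
  · obtain ⟨c, hc⟩ := similar_of_fix hP hn (fix_of_fixesForm hs hfix) hu g hg
    exact ⟨c, by rwa [he] at hc⟩

/-- The normaliser of an absolutely irreducible group fixing a form lies in a similarity group. -/
theorem formClass_of_fixed [Fintype F] [Nonempty ι] {P H : Subgroup (GL ι F)} (hP : AI P) (hn : Norms H P)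
    (h : (∃ Q : (ι → F) → F, IsNondegenerateQuadraticForm Q ∧ FixesQuadForm (matrixSet P) Q) ∨
      (∃ f : (ι → F) → (ι → F) → F, IsSymplecticForm f ∧ FixesForm (matrixSet P) f) ∨
      ∃ (σ : F ≃+* F) (f : (ι → F) → (ι → F) → F), IsUnitaryForm σ f ∧ FixesForm (matrixSet P) f) :
    InFormClass H := by
  rcases h with ⟨Q, hQ, hfix⟩ | ⟨f, hf, hfix⟩ | ⟨σ, f, hf, hfix⟩
  · have hpfix : FixesForm (matrixSet P) (QuadraticMap.polar Q) := fun s hs u v => by
      simp only [QuadraticMap.polar, ← Matrix.mulVec_add, hfix s hs]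
    have hdiag : ∀ v, QuadraticMap.polar Q v v = 2 * Q v := fun v => by
      rw [QuadraticMap.polar, show v + v = (2 : F) • v from (two_smul F v).symm, hQ.smul]
      ring
    by_cases h2 : (2 : F) = 0
    · have hsym : IsSymplecticForm (QuadraticMap.polar Q) :=
        ⟨hQ.polar_bilinear, fun v w => by
          rw [QuadraticMap.polar_comm, eq_neg_iff_add_eq_zero, ← two_mul, h2, zero_mul],
          fun v => by rw [hdiag, h2, zero_mul], hQ.nondegenerate⟩
      obtain ⟨he, hle⟩ := le_sim_of_symplectic hP hn hsym hpfix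
      exact Or.inl ⟨_, hsym, he, hle⟩
    · have hs := sesq_of_bilinear hQ.polar_bilinear
      have he : formOfGram (RingEquiv.refl F) (gramMatrix (QuadraticMap.polar Q)) = QuadraticMap.polar Q := by
        funext u v; exact (hs.eq_gram u v).symm
      have hu : IsUnit (gramMatrix (QuadraticMap.polar Q)) :=
        gram_isUnit (RingEquiv.refl F) (by rw [he]; exact hQ.nondegenerate)
      refine Or.inr (Or.inr ⟨Q, hQ, h2, fun g hg => ?_⟩)
      obtain ⟨c, hc⟩ := similar_of_fix hP hn (fix_of_fixesForm hs hpfix) hu g hg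
      refine ⟨c, fun v => mul_left_cancel₀ h2 ?_⟩
      rw [← hdiag, ← he, hc, he, hdiag]
      ring
  · obtain ⟨he, hle⟩ := le_sim_of_symplectic hP hn hf hfix
    exact Or.inl ⟨f, hf, he, hle⟩
  · have hs := sesq_of_unitary hf
    have he : formOfGram σ (gramMatrix f) = f := by funext u v; exact (hs.eq_gram u v).symm
    have hu : IsUnit (gramMatrix f) := gram_isUnit σ (by rw [he]; exact hf.nondegenerate)
    refine Or.inr (Or.inl ⟨σ, f, hf, fun g hg => ?_⟩)
    obtain ⟨c, hc⟩ := similar_of_fix hP hn (fix_of_fixesForm hs hfix) hu g hg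
    exact ⟨c, by rwa [he] at hc⟩

end Cfsg.Agent.Classical.Asch
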