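import Cfsg.Agent.Lib.Classical.AschAbelianBasis
import Cfsg.Agent.Lib.Classical.AschForms

/-!
A subgroup generated modulo scalars by roots of unity: fixed forms and realisation over the field of the roots.
-/

set_option autoImplicit false
set_option linter.unusedSectionVars false
set_option linter.unusedFintypeInType false
set_option linter.unusedDecidableInType false

namespace Cfsg.Agent.Classical.Asch

open Matrix Module Cfsg.Geo

variable {F : Type*} [Field F] {ι : Type} [Fintype ι] [DecidableEq ι] {N : Subgroup (GL ι F)} {r E : ℕ}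

/-- The root group: generates the group modulo scalars and consists of elements of exponent dividing `E`. -/
structure RootData (N R : Subgroup (GL ι F)) (E : ℕ) : Prop where
  le : R ≤ N
  gen : ∀ x ∈ N, ∃ y ∈ R, ∃ c : Fˣ, x = sc c * y
  exp : ∀ y ∈ R, y ^ E = 1
  pos : 0 < E

theorem RootData.com {R : Subgroup (GL ι F)} (h : RootData N R E) {M : Matrix ι ι F} (hM : Com R M) : Com N M := by
  intro x hx
  obtain ⟨y, hy, c, rfl⟩ := h.gen x hx
  have hyM := hM y hy
  rw [Units.val_mul, sc_coe, Matrix.smul_mul, one_mul, Matrix.mul_smul, Matrix.smul_mul, hyM]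

theorem RootData.ai {R : Subgroup (GL ι F)} (h : RootData N R E) (hN : AI N) : AI R := by
  refine ai_of (irr_iff.2 fun W hW => irr_iff.1 hN.irr W fun x hx v hv => ?_) fun M hM => hN.scalar (h.com hM)
  obtain ⟨y, hy, c, rfl⟩ := h.gen x hx
  rw [Units.val_mul, sc_coe, Matrix.smul_mul, one_mul, Matrix.smul_mulVec]
  exact W.smul_mem _ (hW y hy v hv)

theorem RootData.scal_pow {R : Subgroup (GL ι F)} (h : RootData N R E) [Nonempty ι] {c : Fˣ}
    (hc : (sc c : GL ι F) ∈ R) : c ^ E = 1 :=
  sc_injective (ι := ι) (by rw [map_pow, map_one]; exact h.exp _ hc)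

/-- A root group fixes a form for every involution inverting the roots of unity. -/
theorem RootData.formClass [Fintype F] [Nonempty ι] {H R : Subgroup (GL ι F)} (h : RootData N R E)
    (hN : AbData N r) (hn : Norms H R) {σ : F ≃+* F} (hinv : ∀ a, σ (σ a) = a)
    (hroot : ∀ z : Fˣ, z ^ E = 1 → (z : F) * σ z = 1) (h2 : σ = RingEquiv.refl F → (2 : F) ≠ 0) :
    InFormClass H := by
  classical
  haveI : Fintype (N ⧸ scalIn N) := Fintype.ofFinite _
  have hchoice : ∀ q : N ⧸ scalIn N, ∃ y ∈ R, ∃ d : Fˣ, y = sc d * rep q := by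
    intro q
    obtain ⟨y, hy, c, hc⟩ := h.gen _ (rep_mem q)
    exact ⟨y, hy, c⁻¹, by rw [hc, ← mul_assoc, ← map_mul, inv_mul_cancel, map_one, one_mul]⟩
  choose X hXR d hd using hchoice
  have hXmk : ∀ q, QuotientGroup.mk (s := scalIn N) (⟨X q, h.le (hXR q)⟩ : N) = q := by
    intro q
    conv_rhs => rw [← QuotientGroup.out_eq' q]
    rw [mk_eq_iff]
    show (X q)⁻¹ * rep q ∈ scalars ι F
    rw [hd, _root_.mul_inv_rev, mul_assoc, ← map_inv, (sc_comm _ _).eq, ← mul_assoc, inv_mul_cancel, one_mul]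
    exact sc_mem _
  let G : Matrix ι ι F → Matrix ι ι F := fun B₀ =>
    ∑ q, (X q : Matrix ι ι F)ᵀ * (B₀ * (X q : Matrix ι ι F).map σ)
  have hfix : ∀ B₀, Fix σ R (G B₀) := by
    intro B₀ y hy
    simp only [G, Finset.sum_mul, Finset.mul_sum]
    refine Fintype.sum_equiv (Equiv.mulRight (QuotientGroup.mk (s := scalIn N) (⟨y, h.le hy⟩ : N))) _ _ fun q => ?_
    set q' := Equiv.mulRight (QuotientGroup.mk (s := scalIn N) (⟨y, h.le hy⟩ : N)) q with hq'
    have hmk : QuotientGroup.mk (s := scalIn N) (⟨X q', h.le (hXR q')⟩ : N) =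
        QuotientGroup.mk (s := scalIn N) (⟨X q * y, h.le (R.mul_mem (hXR q) hy)⟩ : N) := by
      have h9 : (⟨X q * y, h.le (R.mul_mem (hXR q) hy)⟩ : N) = ⟨X q, h.le (hXR q)⟩ * ⟨y, h.le hy⟩ := rfl
      rw [hXmk, h9, QuotientGroup.mk_mul, hXmk]
      exact hq'
    rw [mk_eq_iff] at hmk
    obtain ⟨ζ, hζ⟩ := exists_sc hmk
    have hζR : (sc ζ : GL ι F) ∈ R := hζ ▸ R.mul_mem (R.inv_mem (hXR q')) (R.mul_mem (hXR q) hy)
    have hz := hroot ζ (h.scal_pow hζR)
    have hXy : X q * y = sc ζ * X q' := by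
      rw [(sc_comm ζ (X q')).eq, ← hζ]
      show X q * y = X q' * ((X q')⁻¹ * (X q * y))
      group
    have hval : (X q : Matrix ι ι F) * (y : Matrix ι ι F) = (ζ : F) • (X q' : Matrix ι ι F) := by
      rw [← Units.val_mul, hXy, Units.val_mul, sc_coe, Matrix.smul_mul, one_mul]
    calc (y : Matrix ι ι F)ᵀ * ((X q : Matrix ι ι F)ᵀ * (B₀ * (X q : Matrix ι ι F).map σ) *
          (y : Matrix ι ι F).map σ)
        = ((X q : Matrix ι ι F) * (y : Matrix ι ι F))ᵀ * (B₀ * ((X q : Matrix ι ι F) * (y : Matrix ι ι F)).map σ) := by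
          rw [Matrix.transpose_mul, Matrix.map_mul]; simp [mul_assoc]
      _ = _ := by
          rw [hval, Matrix.transpose_smul, show ((ζ : F) • (X q' : Matrix ι ι F)).map σ =
            σ (ζ : F) • (X q' : Matrix ι ι F).map σ by ext i j; simp]
          simp only [Matrix.smul_mul, Matrix.mul_smul, smul_smul]
          rw [mul_comm, hz, one_smul]
  obtain ⟨B₀, hB₀⟩ : ∃ B₀, G B₀ ≠ 0 := by
    by_contra hno
    push Not at hno
    obtain ⟨hli, -⟩ := basis_spec hN
    rw [Fintype.linearIndependent_iff] at hli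
    let q₀ : N ⧸ scalIn N := 1
    obtain ⟨k, l, hkl⟩ : ∃ k l, (X q₀ : Matrix ι ι F) k l ≠ 0 := by
      by_contra hz
      push Not at hz
      exact (X q₀).ne_zero (Matrix.ext hz)
    have h3 := hli (fun q => σ ((X q : Matrix ι ι F) k l) * (d q : F)) ?_ q₀
    · rcases mul_eq_zero.1 h3 with h4 | h4
      · exact hkl (by simpa using h4)
      · exact (d q₀).ne_zero h4
    · ext i j
      have h5 := congrFun (congrFun (hno (Matrix.single i k 1)) j) l
      simp only [G, Matrix.sum_apply, Matrix.zero_apply] at h5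
      simp only [Matrix.sum_apply, Matrix.smul_apply, smul_eq_mul, Matrix.zero_apply]
      rw [← h5]
      refine Finset.sum_congr rfl fun q _ => ?_
      rw [Matrix.mul_apply, Finset.sum_eq_single i (fun w _ hw => by
        rw [Matrix.single_mul_apply_of_ne (h := hw), mul_zero]) (fun h => absurd (Finset.mem_univ _) h),
        Matrix.single_mul_apply_same, Matrix.transpose_apply, Matrix.map_apply, one_mul]
      have : (X q : Matrix ι ι F) i j = (d q : F) * (rep q : Matrix ι ι F) i j := by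
        rw [hd, Units.val_mul, sc_coe, Matrix.smul_mul, one_mul, Matrix.smul_apply, smul_eq_mul]
      rw [this]
      ring
  exact formClass_of_fix hinv (h.ai hN.ai) hn (hfix B₀) hB₀ h2

/-- Eigenvectors for distinct characters are independent. -/
theorem eigen_indep {κ τ : Type*} [Fintype τ] (op : κ → Matrix ι ι F) (w : τ → ι → F) (ev : κ → τ → F)
    (h : ∀ a t, op a *ᵥ w t = ev a t • w t) (hw : ∀ t, w t ≠ 0)
    (hd : ∀ t t', t ≠ t' → ∃ a, ev a t ≠ ev a t') : LinearIndependent F w := by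
  classical
  rw [Fintype.linearIndependent_iff]
  suffices H : ∀ (s : Finset τ) (g : τ → F), ∑ t ∈ s, g t • w t = 0 → ∀ t ∈ s, g t = 0 from
    fun g hg t => H Finset.univ g hg t (Finset.mem_univ t)
  intro s
  induction s using Finset.induction_on with
  | empty => intro g _ t ht; simp at ht
  | insert t₀ s ht₀ ih =>
    intro g hg
    rw [Finset.sum_insert ht₀] at hg
    have hrest : ∀ t ∈ s, g t = 0 := by
      intro t ht
      obtain ⟨a, ha⟩ := hd t t₀ fun e => ht₀ (e ▸ ht)
      have h2 : ∑ t ∈ s, (g t * (ev a t - ev a t₀)) • w t = 0 := by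
        have h3 := congrArg (op a *ᵥ ·) hg
        simp only [Matrix.mulVec_add, Matrix.mulVec_sum, Matrix.mulVec_smul, h, Matrix.mulVec_zero] at h3
        have h4 := congrArg (ev a t₀ • ·) hg
        simp only [smul_add, Finset.smul_sum, smul_zero, smul_smul] at h4
        simp only [smul_smul] at h3
        calc ∑ t ∈ s, (g t * (ev a t - ev a t₀)) • w t
            = ((g t₀ * ev a t₀) • w t₀ + ∑ t ∈ s, (g t * ev a t) • w t) -
              ((ev a t₀ * g t₀) • w t₀ + ∑ t ∈ s, (ev a t₀ * g t) • w t) := by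
              rw [mul_comm (ev a t₀) (g t₀), add_sub_add_left_eq_sub, ← Finset.sum_sub_distrib]
              refine Finset.sum_congr rfl fun t _ => ?_
              rw [← sub_smul]
              congr 1
              ring
          _ = 0 := by rw [h3, h4, sub_zero]
      exact (mul_eq_zero.1 (ih _ h2 t ht)).resolve_right (sub_ne_zero.2 ha)
    intro t ht
    rcases Finset.mem_insert.1 ht with rfl | ht
    · rw [Finset.sum_eq_zero fun u hu => by rw [hrest u hu, zero_smul], add_zero] at hg
      exact (smul_eq_zero.1 hg).resolve_right (hw t)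
    · exact hrest t ht

/-- A root group is rational over any field containing the roots of unity. -/
theorem RootData.realise [Fintype F] [Nonempty ι] {R : Subgroup (GL ι F)} (h : RootData N R E)
    (hN : AbData N r) (hscal : ∀ z : Fˣ, z ^ E = 1 → (sc z : GL ι F) ∈ R) {ζ₀ : F} (hζ : IsPrimitiveRoot ζ₀ E)
    (hEF : (E : F) ≠ 0) {F₀ : Subfield F} (hζ₀ : ζ₀ ∈ F₀) :
    ∃ B : GL ι F, ∀ x ∈ R, ∀ i j, cj B (x : Matrix ι ι F) i j ∈ F₀ := by
  classical
  haveI : Fintype R := Fintype.ofFinite R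
  -- a maximal abelian subgroup
  let Zr : Subgroup (GL ι F) := scalars ι F ⊓ R
  obtain ⟨A, ⟨hZA, hAR, hAc⟩, hmax⟩ := Set.exists_max_image
    {A : Subgroup (GL ι F) | Zr ≤ A ∧ A ≤ R ∧ ∀ a ∈ A, ∀ b ∈ A, a * b = b * a} (fun A => Nat.card A)
    (Set.toFinite _) ⟨Zr, le_rfl, inf_le_right, fun a ha b _ => scalar_comm_gl ha.1 b⟩
  have hself : ∀ x ∈ R, (∀ a ∈ A, x * a = a * x) → x ∈ A := by
    intro x hx hxa
    let A' : Subgroup (GL ι F) := A ⊔ Subgroup.zpowers x
    have hA'c : ∀ a ∈ A', ∀ b ∈ A', a * b = b * a := by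
      have h1 : A' ≤ Subgroup.centralizer ((A : Set (GL ι F)) ∪ {x}) := by
        refine sup_le (fun a ha => ?_) ((Subgroup.zpowers_le).2 ?_)
        · rw [Subgroup.mem_centralizer_iff]
          rintro b (hb | rfl)
          · exact hAc b hb a ha
          · exact hxa a ha
        · rw [Subgroup.mem_centralizer_iff]
          rintro b (hb | rfl)
          · exact (hxa b hb).symm
          · rfl
      intro a ha b hb
      have h2 : A' ≤ Subgroup.centralizer ({a} : Set (GL ι F)) := by
        refine sup_le (fun c hc => ?_) ((Subgroup.zpowers_le).2 ?_)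
        · rw [Subgroup.mem_centralizer_iff]
          rintro d rfl
          exact (Subgroup.mem_centralizer_iff.1 (h1 ha) c (Or.inl hc)).symm
        · rw [Subgroup.mem_centralizer_iff]
          rintro d rfl
          exact (Subgroup.mem_centralizer_iff.1 (h1 ha) x (Or.inr rfl)).symm
      exact Subgroup.mem_centralizer_iff.1 (h2 hb) a rfl
    have hle : A ≤ A' := le_sup_left
    have hcard := hmax A' ⟨hZA.trans hle, sup_le hAR ((Subgroup.zpowers_le).2 hx), hA'c⟩
    rw [show A = A' from SetLike.coe_injective (Set.eq_of_subset_of_ncard_le hle (by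
      rw [← Nat.card_coe_set_eq, ← Nat.card_coe_set_eq]; exact hcard))]
    exact Subgroup.mem_sup_right (Subgroup.mem_zpowers x)
  -- a common eigenvector
  haveI : Fintype A := Fintype.ofFinite A
  have heig : ∀ s : Finset A, ∃ v : ι → F, v ≠ 0 ∧ ∃ ev : A → F, ∀ a ∈ s,
      ((a : GL ι F) : Matrix ι ι F) *ᵥ v = ev a • v ∧ ev a ∈ F₀ := by
    intro s
    induction s using Finset.induction_on with
    | empty =>
      obtain ⟨i⟩ := ‹Nonempty ι›
      exact ⟨Pi.single i 1, by simp, fun _ => 0, fun a ha => by simp at ha⟩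
    | insert a₀ s ha₀ ih =>
      obtain ⟨v, hv, ev, hev⟩ := ih
      set M : Matrix ι ι F := ((a₀ : GL ι F) : Matrix ι ι F) with hM
      let w : ℕ → ι → F := fun j => ∑ i ∈ Finset.range E, (ζ₀⁻¹) ^ (i * j) • ((M ^ i) *ᵥ v)
      have hME : M ^ E = 1 := by rw [hM, ← Units.val_pow_eq_pow_val, h.exp _ (hAR a₀.2), Units.val_one]
      have hζ0 : ζ₀ ≠ 0 := hζ.ne_zero h.pos.ne'
      have hMw : ∀ j, M *ᵥ w j = ζ₀ ^ j • w j := by
        intro j
        simp only [w, Matrix.mulVec_sum, Matrix.mulVec_smul, Matrix.mulVec_mulVec, ← pow_succ', Finset.smul_sum,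
          smul_smul]
        let f : ℕ → ι → F := fun i => (ζ₀ ^ j * (ζ₀⁻¹) ^ (i * j)) • ((M ^ i) *ᵥ v)
        have hshift : ∀ i, ((ζ₀⁻¹) ^ (i * j)) • ((M ^ (i + 1)) *ᵥ v) = f (i + 1) := fun i => by
          simp only [f]
          congr 1
          rw [Nat.succ_mul, pow_add, mul_left_comm, ← mul_pow, mul_inv_cancel₀ hζ0, one_pow, mul_one]
        rw [Finset.sum_congr rfl fun i _ => hshift i]
        have hwrap : f E = f 0 := by
          simp only [f, hME, pow_zero, zero_mul, pow_mul, inv_pow, hζ.pow_eq_one, inv_one, one_pow]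
        have h1 := Finset.sum_range_succ' f E
        rw [Finset.sum_range_succ, hwrap] at h1
        exact (add_right_cancel h1).symm
      have hcom : ∀ (j : ℕ) (a : A), a ∈ s → ((a : GL ι F) : Matrix ι ι F) *ᵥ w j = ev a • w j := by
        intro j a ha
        have hc : Commute ((a : GL ι F) : Matrix ι ι F) M := by
          show _ = _
          rw [hM, ← Units.val_mul, hAc _ a.2 _ a₀.2, Units.val_mul]
        simp only [w, Matrix.mulVec_sum, Matrix.mulVec_smul, Finset.smul_sum, Matrix.mulVec_mulVec]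
        refine Finset.sum_congr rfl fun i _ => ?_
        rw [(hc.pow_right i).eq, ← Matrix.mulVec_mulVec, (hev a ha).1, Matrix.mulVec_smul, smul_comm]
      obtain ⟨j, -, hj⟩ : ∃ j ∈ Finset.range E, w j ≠ 0 := by
        by_contra hno
        push Not at hno
        have h1 : ∑ j ∈ Finset.range E, w j = (E : F) • v := by
          simp only [w]
          rw [Finset.sum_comm]
          simp only [← Finset.sum_smul]
          rw [Finset.sum_eq_single 0 (fun i hi hi0 => ?_) (fun h0 => absurd (Finset.mem_range.2 h.pos) h0)]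
          · simp
          · have h2 : ∑ j ∈ Finset.range E, (ζ₀⁻¹) ^ (i * j) = 0 := by
              have hne : (ζ₀⁻¹) ^ i ≠ 1 := hζ.inv.pow_ne_one_of_pos_of_lt hi0 (Finset.mem_range.1 hi)
              have h3 := geom_sum_mul ((ζ₀⁻¹) ^ i) E
              rw [← pow_mul, mul_comm i E, pow_mul, hζ.inv.pow_eq_one, one_pow, sub_self] at h3
              simp only [← pow_mul] at h3
              exact (mul_eq_zero.1 h3).resolve_right (sub_ne_zero.2 hne)
            rw [h2, zero_smul]
        rw [Finset.sum_eq_zero hno] at h1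
        exact (smul_ne_zero hEF hv) h1.symm
      refine ⟨w j, hj, Function.update ev a₀ (ζ₀ ^ j), fun a ha => ?_⟩
      rcases Finset.mem_insert.1 ha with rfl | ha
      · rw [Function.update_self]
        exact ⟨hMw j, pow_mem hζ₀ j⟩
      · rw [Function.update_of_ne (fun e => ha₀ (by rwa [e] at ha))]
        exact ⟨hcom j a ha, (hev a ha).2⟩
  obtain ⟨v, hv, ev, hev'⟩ := heig Finset.univ
  have hev : ∀ a : A, ((a : GL ι F) : Matrix ι ι F) *ᵥ v = ev a • v ∧ ev a ∈ F₀ :=
    fun a => hev' a (Finset.mem_univ a)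
  -- the vectors of the cosets
  let A₀ : Subgroup R := A.subgroupOf R
  haveI : Fintype (R ⧸ A₀) := Fintype.ofFinite _
  let T : R ⧸ A₀ → R := fun t => t.out
  let w : R ⧸ A₀ → ι → F := fun t => ((T t : GL ι F) : Matrix ι ι F) *ᵥ v
  have hN' := hN.comm
  have hswap : ∀ (a : A) (t : R ⧸ A₀), ∃ c : Fˣ, (a : GL ι F) * (T t : GL ι F) = sc c * ((T t : GL ι F) * (a : GL ι F)) := fun a t =>
    hN' _ (h.le (T t).2) _ (h.le (hAR a.2))
  choose c hc using hswap
  have hw : ∀ (a : A) t, ((a : GL ι F) : Matrix ι ι F) *ᵥ w t = ((c a t : F) * ev a) • w t := by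
    intro a t
    simp only [w, Matrix.mulVec_mulVec]
    rw [← Units.val_mul, hc a t, Units.val_mul, sc_coe, Matrix.smul_mul, one_mul, Units.val_mul,
      Matrix.smul_mulVec, ← Matrix.mulVec_mulVec, (hev a).1, Matrix.mulVec_smul, smul_smul]
  have hev0 : ∀ a, ev a ≠ 0 := fun a h0 => by
    have h1 := (hev a).1
    rw [h0, zero_smul] at h1
    have h2 := congrArg ((((a : GL ι F)⁻¹ : GL ι F) : Matrix ι ι F) *ᵥ ·) h1
    simp [Matrix.mulVec_mulVec] at h2
    exact hv h2
  have hli : LinearIndependent F w := by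
    refine eigen_indep (fun a : A => ((a : GL ι F) : Matrix ι ι F)) w (fun a t => (c a t : F) * ev a) hw
      (fun t h0 => ?_) fun t t' hne => ?_
    · have h2 := congrArg ((((T t : GL ι F)⁻¹ : GL ι F) : Matrix ι ι F) *ᵥ ·) h0
      simp [w, Matrix.mulVec_mulVec] at h2
      exact hv h2
    · by_contra hno
      push Not at hno
      apply hne
      have hu : ∀ a : A, c a t = c a t' := fun a => Units.ext (mul_right_cancel₀ (hev0 a) (hno a))
      have hmem : ((T t : GL ι F))⁻¹ * (T t' : GL ι F) ∈ A := hself _ (R.mul_mem (R.inv_mem (T t).2) (T t').2) fun a ha => by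
        have h1 := hc ⟨a, ha⟩ t
        have h2 := hc ⟨a, ha⟩ t'
        rw [← hu ⟨a, ha⟩] at h2
        simp only at h1 h2
        have h3 : a * ((T t : GL ι F))⁻¹ = (sc (c ⟨a, ha⟩ t))⁻¹ * ((T t : GL ι F)⁻¹ * a) := by
          have h4 : (T t : GL ι F) * a = (sc (c ⟨a, ha⟩ t))⁻¹ * (a * (T t : GL ι F)) := by rw [h1]; group
          calc a * ((T t : GL ι F))⁻¹ = (T t : GL ι F)⁻¹ * ((T t : GL ι F) * a) * (T t : GL ι F)⁻¹ := by group
            _ = _ := by
              rw [h4, ← map_inv, ← mul_assoc (T t : GL ι F)⁻¹, ← (sc_comm _ _).eq]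
              simp [mul_assoc]
        symm
        calc a * ((T t : GL ι F)⁻¹ * (T t' : GL ι F)) = (sc (c ⟨a, ha⟩ t))⁻¹ * ((T t : GL ι F)⁻¹ * (a * (T t' : GL ι F))) := by
              rw [← mul_assoc, h3]; simp [mul_assoc]
          _ = _ := by
              rw [h2, ← map_inv, ← mul_assoc (T t : GL ι F)⁻¹, ← (sc_comm _ _).eq]
              simp only [← mul_assoc, ← map_mul, inv_mul_cancel, map_one, one_mul]
      rw [← QuotientGroup.out_eq' t, ← QuotientGroup.out_eq' t', QuotientGroup.eq]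
      exact hmem
  have himage : ∀ x ∈ R, ∀ t, ∃ t' : R ⧸ A₀, ∃ e ∈ F₀, (x : Matrix ι ι F) *ᵥ w t = e • w t' := by
    intro x hx t
    set y : R := ⟨x, hx⟩ * T t with hy
    set t' : R ⧸ A₀ := QuotientGroup.mk y with ht'
    have hmem : (T t')⁻¹ * y ∈ A₀ := QuotientGroup.eq.1 (QuotientGroup.out_eq' t')
    let a : A := ⟨((T t' : GL ι F))⁻¹ * y, hmem⟩
    refine ⟨t', ev a, (hev a).2, ?_⟩
    simp only [w]
    rw [← Matrix.mulVec_smul, ← (hev a).1, Matrix.mulVec_mulVec, Matrix.mulVec_mulVec, ← Units.val_mul,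
      ← Units.val_mul]
    congr 2
    show x * (T t : GL ι F) = (T t' : GL ι F) * (((T t' : GL ι F))⁻¹ * y)
    rw [hy]
    simp
  have hsp : ⊤ ≤ Submodule.span F (Set.range w) := by
    rcases irr_iff.1 (h.ai hN.ai).irr (Submodule.span F (Set.range w)) (fun g hg u hu => by
      have hle : Submodule.span F (Set.range w) ≤
          (Submodule.span F (Set.range w)).comap (Matrix.toLin' (g : Matrix ι ι F)) := Submodule.span_le.2 (by
        rintro _ ⟨t, rfl⟩
        obtain ⟨t', e, -, he⟩ := himage g hg t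
        rw [SetLike.mem_coe, Submodule.mem_comap, Matrix.toLin'_apply, he]
        exact Submodule.smul_mem _ _ (Submodule.subset_span ⟨t', rfl⟩))
      simpa [Matrix.toLin'_apply] using hle hu) with hb | ht
    · exfalso
      let t₀ : R ⧸ A₀ := QuotientGroup.mk 1
      have h1 : w t₀ ∈ Submodule.span F (Set.range w) := Submodule.subset_span ⟨t₀, rfl⟩
      rw [hb, Submodule.mem_bot] at h1
      exact hli.ne_zero t₀ h1
    · exact ht.ge
  let bV := Module.Basis.mk hli hsp
  let ε : ι ≃ R ⧸ A₀ := (Pi.basisFun F ι).indexEquiv bV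
  let Q : Matrix ι ι F := Matrix.of fun i j => w (ε j) i
  have hQ : IsUnit Q := Matrix.linearIndependent_cols_iff_isUnit.1 (hli.comp ε ε.injective)
  refine ⟨hQ.unit⁻¹, fun x hx i j => ?_⟩
  obtain ⟨t', e, he, hxw⟩ := himage x hx (ε j)
  have hcol : ∀ p, ((x : Matrix ι ι F) * Q) p j = (Q * Matrix.single (ε.symm t') j e) p j := by
    intro p
    rw [Matrix.mul_apply, Matrix.mul_single_apply_same]
    have := congrFun hxw p
    simp only [Matrix.mulVec, dotProduct, Pi.smul_apply, smul_eq_mul] at this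
    simp only [Q, Matrix.of_apply, Equiv.apply_symm_apply]
    rw [this, mul_comm]
  have hval : cj hQ.unit⁻¹ (x : Matrix ι ι F) i j = Matrix.single (ε.symm t') j e i j := by
    have h1 : ((hQ.unit⁻¹ : GL ι F) : Matrix ι ι F) * Q = 1 := Units.inv_mul hQ.unit
    show (((hQ.unit⁻¹ : GL ι F) : Matrix ι ι F) * (x : Matrix ι ι F) * ((hQ.unit⁻¹⁻¹ : GL ι F) : Matrix ι ι F)) i j = _
    rw [inv_inv, mul_assoc, show ((hQ.unit : GL ι F) : Matrix ι ι F) = Q from rfl, Matrix.mul_apply]
    simp only [hcol]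
    rw [← Matrix.mul_apply, ← mul_assoc, h1, one_mul]
  rw [hval, Matrix.single_apply]
  split_ifs
  · exact he
  · exact F₀.zero_mem

end Cfsg.Agent.Classical.Asch
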