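import Cfsg.Agent.Lib.Classical.AschMain

/-!
Adjoints for a non-degenerate reflexive form given by its Gram matrix, similitudes, and orthogonal complements.
-/

set_option autoImplicit false
set_option linter.unusedSectionVars false
set_option linter.unusedFintypeInType false
set_option linter.unusedDecidableInType false

namespace Cfsg.Agent.Classical.Asch

open Matrix Module Cfsg.Geo

variable {F : Type*} [Field F] {ι : Type} [Fintype ι] [DecidableEq ι]

/-- A non-degenerate reflexive semilinear form. -/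
structure Refl (σ : F ≃+* F) (G : Matrix ι ι F) : Prop where
  inv : ∀ a, σ (σ a) = a
  unit : IsUnit G
  tr : ∃ ε : Fˣ, Gᵀ.map σ = (ε : F) • G

/-- The group consists of similitudes of the form. -/
def Sims (σ : F ≃+* F) (P : Subgroup (GL ι F)) (G : Matrix ι ι F) : Prop :=
  ∀ x ∈ P, ∃ μ : Fˣ, (x : Matrix ι ι F)ᵀ * (G * (x : Matrix ι ι F).map σ) = (μ : F) • G

/-- The adjoint of a matrix. -/
noncomputable def adj (σ : F ≃+* F) (G M : Matrix ι ι F) : Matrix ι ι F :=
  (G⁻¹ * (Mᵀ * G)).map σ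

theorem map_map_inv {σ : F ≃+* F} (hinv : ∀ a, σ (σ a) = a) (M : Matrix ι ι F) : (M.map σ).map σ = M := by
  ext i j; simp [hinv]

theorem map_smul_mat (σ : F ≃+* F) (c : F) (M : Matrix ι ι F) : (c • M).map σ = σ c • M.map σ := by
  ext i j; simp

namespace Refl

variable {σ : F ≃+* F} {G : Matrix ι ι F}

theorem det_unit (hG : Refl σ G) : IsUnit G.det := (Matrix.isUnit_iff_isUnit_det G).1 hG.unit

theorem cancel (hG : Refl σ G) {A B : Matrix ι ι F} (h : G * A = G * B) : A = B := hG.unit.mul_left_cancel h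

theorem adj_spec (hG : Refl σ G) (M : Matrix ι ι F) : G * (adj σ G M).map σ = Mᵀ * G := by
  rw [adj, map_map_inv hG.inv, Matrix.mul_nonsing_inv_cancel_left _ _ hG.det_unit]

theorem adj_unique (hG : Refl σ G) {M X : Matrix ι ι F} (h : G * X.map σ = Mᵀ * G) : X = adj σ G M := by
  rw [← hG.adj_spec M] at h
  have := congrArg (fun Y : Matrix ι ι F => Y.map σ) (hG.cancel h)
  simpa [map_map_inv hG.inv] using this

theorem adj_mul (hG : Refl σ G) (M N : Matrix ι ι F) : adj σ G (M * N) = adj σ G N * adj σ G M := by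
  refine (hG.adj_unique ?_).symm
  rw [Matrix.map_mul, ← mul_assoc, hG.adj_spec, mul_assoc, hG.adj_spec, Matrix.transpose_mul, mul_assoc]

theorem adj_add (hG : Refl σ G) (M N : Matrix ι ι F) : adj σ G (M + N) = adj σ G M + adj σ G N := by
  refine (hG.adj_unique ?_).symm
  rw [Matrix.map_add σ (map_add σ), Matrix.mul_add, hG.adj_spec, hG.adj_spec, Matrix.transpose_add,
    Matrix.add_mul]

theorem adj_smul (hG : Refl σ G) (c : F) (M : Matrix ι ι F) : adj σ G (c • M) = σ c • adj σ G M := by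
  refine (hG.adj_unique ?_).symm
  rw [map_smul_mat, hG.inv, Matrix.mul_smul, hG.adj_spec, Matrix.transpose_smul, Matrix.smul_mul]

theorem adj_one (hG : Refl σ G) : adj σ G (1 : Matrix ι ι F) = 1 := by
  refine (hG.adj_unique ?_).symm
  rw [Matrix.transpose_one, one_mul, Matrix.map_one σ (map_zero σ) (map_one σ), mul_one]

theorem adj_zero (hG : Refl σ G) : adj σ G (0 : Matrix ι ι F) = 0 := by
  refine (hG.adj_unique ?_).symm
  simp

theorem adj_adj (hG : Refl σ G) (M : Matrix ι ι F) : adj σ G (adj σ G M) = M := by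
  refine (hG.adj_unique ?_).symm
  obtain ⟨ε, hε⟩ := hG.tr
  have h := congrArg (fun Y : Matrix ι ι F => Yᵀ.map σ) (hG.adj_spec M)
  simp only [Matrix.transpose_mul, Matrix.transpose_transpose, Matrix.map_mul, hε] at h
  rw [show ((adj σ G M).map σ)ᵀ.map σ = (adj σ G M)ᵀ by ext i j; simp [hG.inv], Matrix.mul_smul, Matrix.smul_mul] at h
  exact ((smul_right_injective (Matrix ι ι F) ε.ne_zero) h).symm

theorem adj_injective (hG : Refl σ G) : Function.Injective (adj σ G (ι := ι)) := fun M N h => by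
  have := congrArg (adj σ G) h
  rwa [hG.adj_adj, hG.adj_adj] at this

theorem adj_sum (hG : Refl σ G) {κ : Type*} (s : Finset κ) (f : κ → Matrix ι ι F) :
    adj σ G (∑ i ∈ s, f i) = ∑ i ∈ s, adj σ G (f i) := by
  classical
  induction s using Finset.induction_on with
  | empty => simp [hG.adj_zero]
  | insert a s ha ih => rw [Finset.sum_insert ha, hG.adj_add, ih, Finset.sum_insert ha]

theorem adj_pow (hG : Refl σ G) (M : Matrix ι ι F) (k : ℕ) : adj σ G (M ^ k) = adj σ G M ^ k := by
  induction k with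
  | zero => simp [hG.adj_one]
  | succ k ih => rw [pow_succ, hG.adj_mul, ih, ← pow_succ']

/-- The adjoint moves a matrix to the other argument. -/
theorem form_left (hG : Refl σ G) (M : Matrix ι ι F) (u v : ι → F) :
    formOfGram σ G (M *ᵥ u) v = formOfGram σ G u (adj σ G M *ᵥ v) := by
  rw [formOfGram_eq, formOfGram_eq, map_mulVec, Matrix.mulVec_mulVec, hG.adj_spec, ← Matrix.mulVec_mulVec,
    Matrix.dotProduct_mulVec (A := Mᵀ), Matrix.vecMul_transpose]

theorem form_right (hG : Refl σ G) (M : Matrix ι ι F) (u v : ι → F) :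
    formOfGram σ G u (M *ᵥ v) = formOfGram σ G (adj σ G M *ᵥ u) v := by
  rw [hG.form_left, hG.adj_adj]

theorem flip (hG : Refl σ G) : ∃ ε : Fˣ, ∀ u v, σ (formOfGram σ G u v) = (ε : F) * formOfGram σ G v u := by
  obtain ⟨ε, hε⟩ := hG.tr
  refine ⟨ε, fun u v => ?_⟩
  rw [← formOfGram_smul]
  simp only [formOfGram, map_sum, map_mul, hG.inv]
  rw [Finset.sum_comm]
  refine Finset.sum_congr rfl fun a _ => Finset.sum_congr rfl fun b _ => ?_
  have h1 : σ (G b a) = ((ε : F) • G) a b := by rw [← hε]; rfl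
  rw [h1]
  ring

theorem symm (hG : Refl σ G) {u v : ι → F} (h : formOfGram σ G u v = 0) : formOfGram σ G v u = 0 := by
  obtain ⟨ε, hε⟩ := hG.flip
  have := hε u v
  rw [h, map_zero, eq_comm, mul_eq_zero] at this
  exact this.resolve_left ε.ne_zero

theorem nondeg (hG : Refl σ G) : IsNondegenerateForm (formOfGram σ G) := gram_nondeg σ hG.unit

theorem adj_sim (hG : Refl σ G) {x : GL ι F} {μ : F}
    (hx : (x : Matrix ι ι F)ᵀ * (G * (x : Matrix ι ι F).map σ) = μ • G) :
    adj σ G (x : Matrix ι ι F) = σ μ • ((x⁻¹ : GL ι F) : Matrix ι ι F) := by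
  refine (hG.adj_unique ?_).symm
  rw [map_smul_mat, hG.inv, Matrix.mul_smul, ← Matrix.smul_mul, ← hx, mul_assoc, mul_assoc, ← Matrix.map_mul,
    Units.mul_inv, Matrix.map_one σ (map_zero σ) (map_one σ), mul_one]

theorem adj_iso (hG : Refl σ G) {x : GL ι F}
    (hx : (x : Matrix ι ι F)ᵀ * (G * (x : Matrix ι ι F).map σ) = G) :
    adj σ G (x : Matrix ι ι F) = ((x⁻¹ : GL ι F) : Matrix ι ι F) := by
  simpa using hG.adj_sim (μ := 1) (by rw [one_smul]; exact hx)

theorem sim_of_adj (hG : Refl σ G) {x : GL ι F} {μ : F}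
    (hx : adj σ G (x : Matrix ι ι F) = σ μ • ((x⁻¹ : GL ι F) : Matrix ι ι F)) :
    (x : Matrix ι ι F)ᵀ * (G * (x : Matrix ι ι F).map σ) = μ • G := by
  have h := hG.adj_spec (x : Matrix ι ι F)
  rw [hx, map_smul_mat, hG.inv, Matrix.mul_smul] at h
  rw [← mul_assoc, ← h, Matrix.smul_mul, mul_assoc, ← Matrix.map_mul, Units.inv_mul,
    Matrix.map_one σ (map_zero σ) (map_one σ), mul_one]

theorem adj_com (hG : Refl σ G) {N : Subgroup (GL ι F)} (hN : Sims σ N G) {M : Matrix ι ι F} (hM : Com N M) :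
    Com N (adj σ G M) := by
  intro x hx
  obtain ⟨μ, hμ⟩ := hN x⁻¹ (N.inv_mem hx)
  have h := congrArg (adj σ G) (hM x⁻¹ (N.inv_mem hx))
  rw [hG.adj_mul, hG.adj_mul, hG.adj_sim hμ, inv_inv, Matrix.smul_mul, Matrix.mul_smul] at h
  exact ((smul_right_injective (Matrix ι ι F) ((map_ne_zero σ).2 μ.ne_zero)) h).symm

theorem adj_centComAlg (hG : Refl σ G) {N : Subgroup (GL ι F)} (hN : Sims σ N G) {M : Matrix ι ι F}
    (hM : M ∈ centComAlg N) : adj σ G M ∈ centComAlg N := by
  obtain ⟨h1, h2⟩ := mem_centComAlg.1 hM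
  refine mem_centComAlg.2 ⟨hG.adj_com hN h1, fun M' hM' => ?_⟩
  have h := congrArg (adj σ G) (h2 _ (hG.adj_com hN hM'))
  rw [hG.adj_mul, hG.adj_mul, hG.adj_adj] at h
  exact h.symm

theorem adj_cj (hG : Refl σ G) {g : GL ι F} {μ : Fˣ}
    (hg : (g : Matrix ι ι F)ᵀ * (G * (g : Matrix ι ι F).map σ) = (μ : F) • G) (M : Matrix ι ι F) :
    adj σ G (cj g M) = cj g (adj σ G M) := by
  have h1 := hG.adj_sim hg
  have hσ : σ (μ : F) ≠ 0 := (map_ne_zero σ).2 μ.ne_zero
  have h2 : adj σ G ((g⁻¹ : GL ι F) : Matrix ι ι F) = (σ (μ : F))⁻¹ • (g : Matrix ι ι F) := by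
    have h3 : adj σ G ((g⁻¹ : GL ι F) : Matrix ι ι F) * adj σ G (g : Matrix ι ι F) = 1 := by
      rw [← hG.adj_mul, Units.mul_inv, hG.adj_one]
    rw [h1, Matrix.mul_smul] at h3
    have h4 : adj σ G ((g⁻¹ : GL ι F) : Matrix ι ι F) * ((g⁻¹ : GL ι F) : Matrix ι ι F) =
        (σ (μ : F))⁻¹ • (1 : Matrix ι ι F) := by
      conv_rhs => rw [← h3, smul_smul, inv_mul_cancel₀ hσ, one_smul]
    calc adj σ G ((g⁻¹ : GL ι F) : Matrix ι ι F)
        = adj σ G ((g⁻¹ : GL ι F) : Matrix ι ι F) * ((g⁻¹ : GL ι F) : Matrix ι ι F) * (g : Matrix ι ι F) := by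
          rw [mul_assoc, Units.inv_mul, mul_one]
      _ = _ := by rw [h4, Matrix.smul_mul, one_mul]
  rw [cj, cj, hG.adj_mul, hG.adj_mul, h1, h2]
  simp [Matrix.smul_mul, Matrix.mul_smul, smul_smul, mul_inv_cancel₀ hσ, mul_assoc]

/-- The orthogonal complement. -/
def perp (hG : Refl σ G) (W : Submodule F (ι → F)) : Submodule F (ι → F) where
  carrier := {v | ∀ w ∈ W, formOfGram σ G v w = 0}
  add_mem' {a b} ha hb w hw := by rw [(sesq_formOfGram σ G).add_left, ha w hw, hb w hw, add_zero]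
  zero_mem' w _ := by
    rw [formOfGram_eq, zero_dotProduct]
  smul_mem' c v hv w hw := by rw [(sesq_formOfGram σ G).smul_left, hv w hw, mul_zero]

theorem finrank_perp (hG : Refl σ G) (W : Submodule F (ι → F)) :
    finrank F (hG.perp W) + finrank F W = Fintype.card ι := by
  classical
  set d := finrank F W
  let b := Module.finBasis F W
  have hs := sesq_formOfGram σ G
  let L : (ι → F) →ₗ[F] (Fin d → F) :=
    { toFun := fun v i => formOfGram σ G v (b i : ι → F)
      map_add' := fun u v => funext fun i => hs.add_left _ _ _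
      map_smul' := fun c v => funext fun i => hs.smul_left _ _ _ }
  have hcomb : ∀ (s : Finset (Fin d)) (a : Fin d → F) v, formOfGram σ G v (∑ i ∈ s, a i • (b i : ι → F)) =
      ∑ i ∈ s, σ (a i) * formOfGram σ G v (b i : ι → F) := by
    intro s a v
    induction s using Finset.induction_on with
    | empty => simp [formOfGram]
    | insert x s hx ih => rw [Finset.sum_insert hx, Finset.sum_insert hx, hs.add_right, hs.smul_right, ih]
  have hker : LinearMap.ker L = hG.perp W := by
    ext v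
    rw [LinearMap.mem_ker]
    refine ⟨fun h w hw => ?_, fun h => funext fun i => h _ (b i).2⟩
    have hw' : w = ∑ i, b.repr ⟨w, hw⟩ i • (b i : ι → F) := by
      conv_lhs => rw [show w = ((⟨w, hw⟩ : W) : ι → F) from rfl, ← b.sum_repr ⟨w, hw⟩]
      simp only [Submodule.coe_sum, Submodule.coe_smul]
    rw [hw', hcomb]
    refine Finset.sum_eq_zero fun i _ => ?_
    rw [show formOfGram σ G v (b i : ι → F) = 0 from congrFun h i, mul_zero]
  have hsurj : LinearMap.range L = ⊤ := by
    by_contra hne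
    obtain ⟨φ, hφ, hle⟩ := Submodule.exists_le_ker_of_lt_top _ (lt_top_iff_ne_top.2 hne)
    let a : Fin d → F := fun i => σ (φ (Pi.single i 1))
    set z : ι → F := ∑ i, a i • (b i : ι → F) with hz
    have hz0 : ∀ v, formOfGram σ G v z = 0 := by
      intro v
      have h1 : φ (L v) = 0 := hle ⟨v, rfl⟩
      rw [pi_eq_sum_univ' (L v), map_sum] at h1
      rw [hz, hcomb, ← h1]
      refine Finset.sum_congr rfl fun i _ => ?_
      simp [a, hG.inv, mul_comm, L]
    have hzz : z = 0 := by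
      by_contra hne'
      obtain ⟨v, hv⟩ := (hG.nondeg z hne').1
      exact hv (hz0 v)
    have ha : ∀ i, a i = 0 := fun i => by
      refine Fintype.linearIndependent_iff.1 b.linearIndependent a ?_ i
      apply Subtype.ext
      simpa [Submodule.coe_sum] using hzz
    refine hφ (LinearMap.ext fun v => ?_)
    rw [pi_eq_sum_univ' v, map_sum, LinearMap.zero_apply]
    refine Finset.sum_eq_zero fun i _ => ?_
    rw [map_smul, smul_eq_mul, show φ (Pi.single i 1) = 0 by simpa [a] using ha i, mul_zero]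
  have := L.finrank_range_add_finrank_ker
  rw [hsurj, finrank_top, hker, Module.finrank_fintype_fun_eq_card, Module.finrank_fintype_fun_eq_card,
    Fintype.card_fin] at this
  omega

theorem le_perp_perp (hG : Refl σ G) (W : Submodule F (ι → F)) : W ≤ hG.perp (hG.perp W) :=
  fun w hw v hv => hG.symm (hv w hw)

theorem perp_perp (hG : Refl σ G) (W : Submodule F (ι → F)) : hG.perp (hG.perp W) = W := by
  refine (Submodule.eq_of_le_of_finrank_eq (hG.le_perp_perp W) ?_).symm
  have h1 := hG.finrank_perp W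
  have h2 := hG.finrank_perp (hG.perp W)
  omega

theorem perp_inv (hG : Refl σ G) {H : Subgroup (GL ι F)} (hH : Sims σ H G) {W : Submodule F (ι → F)}
    (hW : Inv H W) : Inv H (hG.perp W) := by
  intro g hg v hv w hw
  obtain ⟨μ, hμ⟩ := hH g hg
  rw [hG.form_left, hG.adj_sim hμ, Matrix.smul_mulVec, (sesq_formOfGram σ G).smul_right,
    hv _ (hW g⁻¹ (H.inv_mem hg) w hw), mul_zero]

theorem nondeg_on (hG : Refl σ G) {W : Submodule F (ι → F)} (h : W ⊓ hG.perp W = ⊥) :
    IsNondegenerateOn (formOfGram σ G) W := by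
  intro w hw hw0
  have h1 : ∃ x ∈ W, formOfGram σ G w x ≠ 0 := by
    by_contra hno
    push Not at hno
    have : w ∈ W ⊓ hG.perp W := ⟨hw, hno⟩
    rw [h, Submodule.mem_bot] at this
    exact hw0 this
  obtain ⟨x, hx, hwx⟩ := h1
  exact ⟨⟨x, hx, fun h0 => hwx (hG.symm h0)⟩, x, hx, hwx⟩

theorem inf_perp_of_nondeg (hG : Refl σ G) {W : Submodule F (ι → F)}
    (h : IsNondegenerateOn (formOfGram σ G) W) : W ⊓ hG.perp W = ⊥ := by
  rw [eq_bot_iff]
  rintro w ⟨hw, hwp⟩
  by_contra hw0
  obtain ⟨x, hx, hne⟩ := (h w hw hw0).2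
  exact hne (hwp x hx)

end Refl

theorem inv_le_stab {H : Subgroup (GL ι F)} {W : Submodule F (ι → F)} (hW : Inv H W) :
    H ≤ subspaceStabilizer W := by
  intro g hg v
  refine ⟨fun hv => hW g hg v hv, fun hv => ?_⟩
  have h3 := hW g⁻¹ (H.inv_mem hg) _ hv
  change ((g⁻¹ : GL ι F) : Matrix ι ι F) *ᵥ ((g : Matrix ι ι F) *ᵥ v) ∈ W at h3
  rwa [Matrix.mulVec_mulVec, Units.inv_mul, Matrix.one_mulVec] at h3

theorem Sims.mono {σ : F ≃+* F} {P Q : Subgroup (GL ι F)} {G : Matrix ι ι F} (h : Sims σ Q G) (hle : P ≤ Q) :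
    Sims σ P G := fun x hx => h x (hle hx)

theorem Fix.sims {σ : F ≃+* F} {P : Subgroup (GL ι F)} {G : Matrix ι ι F} (h : Fix σ P G) : Sims σ P G :=
  fun x hx => ⟨1, by rw [Units.val_one, one_smul]; exact h x hx⟩

theorem Sims.sup_scalars {σ : F ≃+* F} {P : Subgroup (GL ι F)} {G : Matrix ι ι F} (h : Sims σ P G) :
    Sims σ (P ⊔ scalars ι F) G := by
  intro x hx
  obtain ⟨p, hp, z, hz, rfl⟩ := exists_mul_scalar hx
  obtain ⟨μ, hμ⟩ := h p hp
  obtain ⟨c, rfl⟩ := exists_sc hz
  refine ⟨μ * (c * Units.map σ.toRingHom.toMonoidHom c), ?_⟩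
  rw [Units.val_mul, sc_coe, Matrix.mul_smul, mul_one, Matrix.transpose_smul, map_smul_mat]
  simp only [Matrix.smul_mul, Matrix.mul_smul, hμ, smul_smul, Units.val_mul]
  congr 1
  rw [show ((Units.map σ.toRingHom.toMonoidHom c : Fˣ) : F) = σ (c : F) from rfl]
  ring

/-- A reducible group stabilises a totally singular subspace, a small non-degenerate one, or a non-degenerate
halving. -/
theorem reducible_case {σ : F ≃+* F} {G : Matrix ι ι F} (hG : Refl σ G) {H : Subgroup (GL ι F)}
    (hH : Sims σ H G) (hirr : ¬ Irr H) :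
    (∃ W : Submodule F (ι → F), W ≠ ⊥ ∧ IsTotallySingularFor (formOfGram σ G) W ∧ H ≤ subspaceStabilizer W) ∨
    (∃ W : Submodule F (ι → F), W ≠ ⊥ ∧ IsNondegenerateOn (formOfGram σ G) W ∧ 2 * finrank F W < Fintype.card ι ∧
      H ≤ subspaceStabilizer W) ∨
    ∃ (k : ℕ) (D : Fin 2 → Submodule F (ι → F)), 2 * k = Fintype.card ι ∧
      IsNondegenerateMDecomposition (formOfGram σ G) k D ∧ H ≤ decompositionStabilizer D := by
  rw [irr_iff] at hirr
  push Not at hirr
  obtain ⟨W, hW, hb, ht⟩ := hirr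
  have hWi : Inv H W := hW
  have hpi := hG.perp_inv hH hWi
  by_cases hR : W ⊓ hG.perp W = ⊥
  · have hnd := hG.nondeg_on hR
    have hR' : hG.perp W ⊓ hG.perp (hG.perp W) = ⊥ := by rw [hG.perp_perp, inf_comm, hR]
    have hnd' := hG.nondeg_on hR'
    have hdim := hG.finrank_perp W
    have hd0 : 0 < finrank F W := Nat.pos_of_ne_zero fun h => hb (Submodule.finrank_eq_zero.1 h)
    have hp0 : hG.perp W ≠ ⊥ := by
      intro h
      apply ht
      rw [h, finrank_bot, zero_add, ← Module.finrank_fintype_fun_eq_card (R := F)] at hdim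
      exact Submodule.eq_top_of_finrank_eq hdim
    rcases lt_trichotomy (2 * finrank F W) (Fintype.card ι) with hlt | heq | hgt
    · exact Or.inr (Or.inl ⟨W, hb, hnd, hlt, inv_le_stab hWi⟩)
    · refine Or.inr (Or.inr ⟨finrank F W, ![W, hG.perp W], heq, ⟨⟨le_rfl, hd0, ?_, ?_, ?_⟩, ?_, ?_⟩, ?_⟩)
      · intro i; fin_cases i
        · rfl
        · show finrank F (hG.perp W) = _; omega
      · refine (iSupIndep_pair (show (0 : Fin 2) ≠ 1 by decide) fun i => ?_).2 (disjoint_iff.2 hR)
        fin_cases i <;> simp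
      · have hsup : W ⊔ hG.perp W = ⊤ := by
          apply Submodule.eq_top_of_finrank_eq
          have := Submodule.finrank_sup_add_finrank_inf_eq W (hG.perp W)
          rw [hR, finrank_bot] at this
          rw [Module.finrank_fintype_fun_eq_card]
          omega
        rw [eq_top_iff, ← hsup]
        exact sup_le (le_iSup ![W, hG.perp W] 0) (le_iSup ![W, hG.perp W] 1)
      · intro i; fin_cases i
        · exact hnd
        · exact hnd'
      · intro i j hij u hu v hv
        fin_cases i <;> fin_cases j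
        · exact absurd rfl hij
        · exact hG.symm (hv u hu)
        · exact hu v hv
        · exact absurd rfl hij
      · intro g hg
        refine ⟨1, fun i => ?_⟩
        have hinv : Inv H (![W, hG.perp W] i) := by
          fin_cases i
          · exact hWi
          · exact hpi
        refine Submodule.eq_of_le_of_finrank_eq ?_ ?_
        · rintro _ ⟨v, hv, rfl⟩
          rw [Matrix.toLin'_apply]
          exact hinv g hg v hv
        · exact (Submodule.equivMapOfInjective _ (map_inj g) _).finrank_eq.symm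
    · exact Or.inr (Or.inl ⟨hG.perp W, hp0, hnd', by omega, inv_le_stab hpi⟩)
  · exact Or.inl ⟨_, hR, fun u hu v hv => hu.2 v hv.1, inv_le_stab fun g hg v hv =>
      ⟨hWi g hg v hv.1, hpi g hg v hv.2⟩⟩

end Cfsg.Agent.Classical.Asch
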