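import Mathlib
import Cfsg.Prelude.Def_GeometricClasses

/-!
Irreducible and absolutely irreducible groups of matrices: Schur's lemma, normalised subfields of prime degree,
and realisability over subfields.
-/

set_option autoImplicit false
set_option linter.unusedSectionVars false
set_option linter.unusedFintypeInType false
set_option linter.unusedDecidableInType false

namespace Cfsg.Agent.Classical.Asch

open Matrix Module Cfsg.Geo

variable {F : Type*} [Field F] {ι : Type} [Fintype ι] [DecidableEq ι]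

/-- A group acts irreducibly. -/
def Irr (H : Subgroup (GL ι F)) : Prop := ActsIrreducibly (matrixSet H)

/-- A group acts absolutely irreducibly. -/
def AI (H : Subgroup (GL ι F)) : Prop := ActsAbsolutelyIrreducibly (matrixSet H)

/-- Every element of the first group normalises the second. -/
def Norms (H N : Subgroup (GL ι F)) : Prop := ∀ h ∈ H, ∀ x ∈ N, h * x * h⁻¹ ∈ N

/-- A matrix commutes with a group. -/
def Com (N : Subgroup (GL ι F)) (M : Matrix ι ι F) : Prop :=
  ∀ x ∈ N, M * (x : Matrix ι ι F) = (x : Matrix ι ι F) * M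

/-- Conjugation of a matrix by an invertible matrix. -/
def cj (g : GL ι F) (M : Matrix ι ι F) : Matrix ι ι F :=
  (g : Matrix ι ι F) * M * ((g⁻¹ : GL ι F) : Matrix ι ι F)

theorem cj_mul (g : GL ι F) (M M' : Matrix ι ι F) : cj g (M * M') = cj g M * cj g M' := by
  simp [cj, mul_assoc]

theorem cj_cj (g h : GL ι F) (M : Matrix ι ι F) : cj g (cj h M) = cj (g * h) M := by
  simp [cj, mul_assoc, _root_.mul_inv_rev]

theorem cj_one (M : Matrix ι ι F) : cj (1 : GL ι F) M = M := by simp [cj]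

theorem cj_inv_cj (g : GL ι F) (M : Matrix ι ι F) : cj g⁻¹ (cj g M) = M := by
  rw [cj_cj, inv_mul_cancel, cj_one]

theorem cj_cj_inv (g : GL ι F) (M : Matrix ι ι F) : cj g (cj g⁻¹ M) = M := by
  rw [cj_cj, mul_inv_cancel, cj_one]

theorem cj_coe (g x : GL ι F) : cj g (x : Matrix ι ι F) = ((g * x * g⁻¹ : GL ι F) : Matrix ι ι F) := by
  simp [cj]

theorem cj_smul (g : GL ι F) (c : F) (M : Matrix ι ι F) : cj g (c • M) = c • cj g M := by
  simp [cj, Matrix.mul_smul, Matrix.smul_mul]

theorem cj_add (g : GL ι F) (M M' : Matrix ι ι F) : cj g (M + M') = cj g M + cj g M' := by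
  simp [cj, Matrix.mul_add, Matrix.add_mul]

theorem irr_iff {H : Subgroup (GL ι F)} :
    Irr H ↔ ∀ W : Submodule F (ι → F), (∀ g ∈ H, ∀ v ∈ W, (g : Matrix ι ι F) *ᵥ v ∈ W) → W = ⊥ ∨ W = ⊤ := by
  constructor
  · intro h W hW
    refine h W ?_
    rintro _ ⟨g, hg, rfl⟩ _ ⟨v, hv, rfl⟩
    rw [Matrix.toLin'_apply]
    exact hW g hg v hv
  · intro h W hW
    refine h W fun g hg v hv => ?_
    have := hW _ ⟨g, hg, rfl⟩ ⟨v, hv, rfl⟩
    rwa [Matrix.toLin'_apply] at this

theorem AI.irr {H : Subgroup (GL ι F)} (h : AI H) : Irr H := h.1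

theorem AI.scalar {H : Subgroup (GL ι F)} (h : AI H) {M : Matrix ι ι F} (hM : Com H M) :
    ∃ c : F, M = c • (1 : Matrix ι ι F) :=
  h.2 M fun _ ⟨x, hx, hs⟩ => hs ▸ hM x hx

theorem ai_of {H : Subgroup (GL ι F)} (h : Irr H)
    (hc : ∀ M : Matrix ι ι F, Com H M → ∃ c : F, M = c • (1 : Matrix ι ι F)) : AI H :=
  ⟨h, fun M hM => hc M fun x hx => hM _ ⟨x, hx, rfl⟩⟩

theorem Irr.mono {N H : Subgroup (GL ι F)} (h : Irr N) (hle : N ≤ H) : Irr H :=
  irr_iff.2 fun W hW => irr_iff.1 h W fun g hg => hW g (hle hg)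

theorem AI.mono {N H : Subgroup (GL ι F)} (h : AI N) (hle : N ≤ H) : AI H :=
  ai_of (h.irr.mono hle) fun _ hM => h.scalar fun x hx => hM x (hle hx)

/-- A matrix commuting with an irreducible group is zero or injective. -/
theorem Irr.schur {H : Subgroup (GL ι F)} (h : Irr H) {M : Matrix ι ι F} (hM : Com H M) (h0 : M ≠ 0) :
    IsUnit M := by
  have hinj : Function.Injective M.mulVec := by
    rcases irr_iff.1 h (LinearMap.ker (Matrix.toLin' M)) (fun g hg v hv => by
      rw [LinearMap.mem_ker, Matrix.toLin'_apply] at hv ⊢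
      rw [Matrix.mulVec_mulVec, hM g hg, ← Matrix.mulVec_mulVec, hv, Matrix.mulVec_zero]) with hb | ht
    · have := LinearMap.ker_eq_bot.1 hb
      intro a b hab
      exact this (by simpa [Matrix.toLin'_apply] using hab)
    · exfalso
      apply h0
      have hz : Matrix.toLin' M = 0 := LinearMap.ker_eq_top.1 ht
      simpa using congrArg LinearMap.toMatrix' hz
  exact Matrix.mulVec_injective_iff_isUnit.1 hinj

theorem AI.mem_scalars {H : Subgroup (GL ι F)} (h : AI H) [Nonempty ι] {g : GL ι F}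
    (hg : ∀ x ∈ H, g * x = x * g) : g ∈ scalars ι F := by
  obtain ⟨c, hc⟩ := h.scalar (M := (g : Matrix ι ι F)) fun x hx => by
    simpa using congrArg (fun t : GL ι F => (t : Matrix ι ι F)) (hg x hx)
  rw [mem_scalars_iff]
  refine ⟨Units.mk0 c fun h0 => ?_, hc⟩
  have := g.ne_zero
  exact this (by rw [hc, h0, zero_smul])

theorem scalar_comm {z : GL ι F} (hz : z ∈ scalars ι F) (M : Matrix ι ι F) :
    (z : Matrix ι ι F) * M = M * (z : Matrix ι ι F) := by
  obtain ⟨c, hc⟩ := (mem_scalars_iff z).1 hz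
  rw [hc, Matrix.smul_mul, Matrix.mul_smul, one_mul, mul_one]

theorem scalar_comm_gl {z : GL ι F} (hz : z ∈ scalars ι F) (g : GL ι F) : z * g = g * z :=
  Units.ext (by simpa using scalar_comm hz (g : Matrix ι ι F))

theorem Norms.inv_mem {H N : Subgroup (GL ι F)} (h : Norms H N) {g : GL ι F} (hg : g ∈ H) {x : GL ι F}
    (hx : x ∈ N) : g⁻¹ * x * g ∈ N := by
  simpa using h g⁻¹ (H.inv_mem hg) x hx

theorem Norms.com_cj {H N : Subgroup (GL ι F)} (h : Norms H N) {g : GL ι F} (hg : g ∈ H) {M : Matrix ι ι F}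
    (hM : Com N M) : Com N (cj g M) := by
  intro x hx
  have h1 : cj g (((g⁻¹ * x * g : GL ι F) : Matrix ι ι F)) = (x : Matrix ι ι F) := by
    rw [cj_coe]; congr 1; group
  rw [← h1, ← cj_mul, ← cj_mul, hM _ (h.inv_mem hg hx)]

theorem mem_subalgebraNormalizer {K : Subalgebra F (Matrix ι ι F)} {H : Subgroup (GL ι F)}
    (h : ∀ g ∈ H, ∀ k ∈ K, cj g k ∈ K) : H ≤ subalgebraNormalizer K := by
  intro g hg k
  refine ⟨h g hg k, fun hk => ?_⟩
  have := h g⁻¹ (H.inv_mem hg) _ hk
  rwa [show cj g⁻¹ ((g : Matrix ι ι F) * k * ((g⁻¹ : GL ι F) : Matrix ι ι F)) = k from cj_inv_cj g k] at this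

/-- The elements of a subalgebra fixed by a power of the Frobenius map. -/
theorem exists_prime_field [Fintype F] [Nonempty ι] {K : Subalgebra F (Matrix ι ι F)}
    (hc : ∀ x ∈ K, ∀ y ∈ K, x * y = y * x) (hinv : ∀ x ∈ K, x ≠ 0 → ∃ y ∈ K, x * y = 1)
    (h2 : 2 ≤ finrank F K) {H : Subgroup (GL ι F)} (hn : ∀ g ∈ H, ∀ k ∈ K, cj g k ∈ K) :
    ∃ (r : ℕ) (K' : Subalgebra F (Matrix ι ι F)), r.Prime ∧ IsFieldSubalgebra r K' ∧ K' ≤ K ∧
      H ≤ subalgebraNormalizer K' ∧ ∀ x, x ∈ K' ↔ x ∈ K ∧ x ^ Fintype.card F ^ r = x := by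
  classical
  obtain ⟨p, hp⟩ := CharP.exists F
  haveI := hp
  obtain ⟨⟨f, hf0⟩, hpr, hq⟩ := FiniteField.card F p
  haveI : Fact p.Prime := ⟨hpr⟩
  have hq' : Fintype.card F = p ^ f := hq
  set q := Fintype.card F with hqdef
  have hq1 : 1 < q := Fintype.one_lt_card
  set d := finrank F K with hd
  have hrp : d.minFac.Prime := Nat.minFac_prime (by omega)
  set r := d.minFac with hr
  have hrd : r ∣ d := Nat.minFac_dvd d
  haveI : CharP (Matrix ι ι F) p := Matrix.charP p
  let L : Subalgebra F (Matrix ι ι F) :=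
    { carrier := {x | x ∈ K ∧ x ^ q ^ r = x}
      mul_mem' := fun {a b} ha hb => ⟨K.mul_mem ha.1 hb.1, by
        rw [(show Commute a b from hc a ha.1 b hb.1).mul_pow, ha.2, hb.2]⟩
      one_mem' := ⟨K.one_mem, one_pow _⟩
      add_mem' := fun {a b} ha hb => ⟨K.add_mem ha.1 hb.1, by
        have hab : Commute a b := hc a ha.1 b hb.1
        have := add_pow_char_pow_of_commute p (f * r) hab
        rw [pow_mul, ← hq'] at this
        rw [this, ha.2, hb.2]⟩
      zero_mem' := ⟨K.zero_mem, zero_pow (by positivity)⟩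
      algebraMap_mem' := fun c => ⟨K.algebraMap_mem c, by
        rw [← map_pow, FiniteField.pow_card_pow]⟩ }
  have hLK : L ≤ K := fun x hx => hx.1
  have hKinj : ∀ x ∈ K, x ≠ 0 → IsUnit x := fun x hx h0 => by
    obtain ⟨y, hy, hxy⟩ := hinv x hx h0
    exact IsUnit.of_mul_eq_one y hxy
  haveI : Fintype K := Fintype.ofFinite K
  letI iC : CommRing K := { (inferInstance : Ring K) with mul_comm := fun a b => Subtype.ext (hc a a.2 b b.2) }
  haveI : IsDomain K := by
    haveI : Nontrivial K := ⟨⟨0, 1, fun h => zero_ne_one (congrArg Subtype.val h)⟩⟩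
    haveI : NoZeroDivisors K := ⟨fun {a b} hab => by
      by_contra hcon
      push Not at hcon
      have hu := hKinj a.1 a.2 fun h => hcon.1 (Subtype.ext h)
      exact hcon.2 (Subtype.ext (hu.mul_right_eq_zero.1 (congrArg Subtype.val hab)))⟩
    exact NoZeroDivisors.to_isDomain K
  letI : Field K := Fintype.fieldOfDomain K
  have hcK : Nat.card Kˣ = q ^ d - 1 := by
    rw [Nat.card_units, Module.natCard_eq_pow_finrank (K := F) (V := K), Nat.card_eq_fintype_card]
  have hqr : 0 < q ^ r := pow_pos (by omega) _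
  have hdvd : q ^ r - 1 ∣ q ^ d - 1 := Nat.pow_sub_one_dvd_pow_sub_one q hrd
  obtain ⟨g, hg⟩ := IsCyclic.exists_ofOrder_eq_natCard (α := Kˣ)
  obtain ⟨c, hcd⟩ := hdvd
  have hpos : 0 < q ^ r - 1 := by
    have := Nat.one_lt_pow hrp.ne_zero hq1
    omega
  have hdpos : 0 < q ^ d - 1 := by
    have := Nat.one_lt_pow (show d ≠ 0 by omega) hq1
    omega
  have hord : orderOf (g ^ c) = q ^ r - 1 := by
    rw [orderOf_pow_of_dvd (fun h => by rw [h, mul_zero] at hcd; omega) (by rw [hg, hcK, hcd]; exact dvd_mul_left _ _),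
      hg, hcK, hcd, Nat.mul_div_cancel _ (Nat.pos_of_ne_zero fun h => by rw [h, mul_zero] at hcd; omega)]
  have hsol : ∀ x : K, x ^ q ^ r = x ↔ (x : Matrix ι ι F) ∈ L := fun x => by
    constructor
    · intro h; exact ⟨x.2, by simpa using congrArg Subtype.val h⟩
    · intro h; exact Subtype.ext (by simpa using h.2)
  have hcard : Nat.card L = q ^ r := by
    apply le_antisymm
    · let P : Polynomial K := Polynomial.X ^ q ^ r - Polynomial.X
      have hP : P ≠ 0 := FiniteField.X_pow_card_sub_X_ne_zero K (Nat.one_lt_pow hrp.ne_zero hq1)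
      have hroots : ∀ x : L, (⟨x.1, hLK x.2⟩ : K) ∈ P.roots.toFinset := fun x => by
        have := (hsol ⟨x.1, hLK x.2⟩).2 x.2
        simp [P, Polynomial.mem_roots hP, this]
      calc Nat.card L ≤ P.roots.toFinset.card := by
            rw [← Nat.card_eq_finsetCard]
            exact Nat.card_le_card_of_injective (fun x : L => (⟨_, hroots x⟩ : P.roots.toFinset))
              fun a b hab => Subtype.ext (congrArg (fun t => (t.1 : Matrix ι ι F)) hab)
        _ ≤ P.natDegree := (Multiset.toFinset_card_le _).trans (Polynomial.card_roots' P)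
        _ = q ^ r := FiniteField.X_pow_card_sub_X_natDegree_eq K (Nat.one_lt_pow hrp.ne_zero hq1)
    · have hmem : ∀ u : Subgroup.zpowers (g ^ c), (((u : Kˣ) : K) : Matrix ι ι F) ∈ L := by
        rintro ⟨u, hu⟩
        refine (hsol _).1 ?_
        have h1 : u ^ (q ^ r - 1) = 1 := by
          rw [← hord]
          exact orderOf_dvd_iff_pow_eq_one.1 (orderOf_dvd_of_mem_zpowers hu)
        calc ((u : K)) ^ q ^ r = (u : K) ^ (q ^ r - 1) * (u : K) := by
              rw [← pow_succ, Nat.sub_add_cancel hqr]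
          _ = u := by rw [← Units.val_pow_eq_pow_val, h1, Units.val_one, one_mul]
      have hle := Nat.card_le_card_of_injective
        (fun o : Option (Subgroup.zpowers (g ^ c)) => o.elim (0 : L) fun u => ⟨_, hmem u⟩) (by
          rintro (_ | u) (_ | v) huv
          · rfl
          · exact absurd (Subtype.ext (congrArg Subtype.val huv :).symm : ((v : Kˣ) : K) = 0) (Units.ne_zero _)
          · exact absurd (Subtype.ext (congrArg (fun t : L => (t : Matrix ι ι F)) huv :) : ((u : Kˣ) : K) = 0) (Units.ne_zero _)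
          · exact congrArg some (Subtype.ext (Units.ext (Subtype.ext (congrArg (fun t : L => (t : Matrix ι ι F)) huv :)))))
      rw [Finite.card_option, Nat.card_zpowers, hord, Nat.sub_add_cancel hqr] at hle
      exact hle
  refine ⟨r, L, hrp, ⟨fun x hx y hy => hc x hx.1 y hy.1, fun x hx h0 => ?_, ?_⟩, hLK, ?_, fun x => Iff.rfl⟩
  · obtain ⟨y, hy, hxy⟩ := hinv x hx.1 h0
    refine ⟨y, ⟨hy, ?_⟩, hxy⟩
    have hyx : y * x = 1 := by rw [hc y hy x hx.1, hxy]
    have h1 : x * y ^ q ^ r = 1 := by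
      conv_lhs => rw [← hx.2]
      rw [← (show Commute x y from hc x hx.1 y hy).mul_pow, hxy, one_pow]
    calc y ^ q ^ r = y * x * y ^ q ^ r := by rw [hyx, one_mul]
      _ = y := by rw [mul_assoc, h1, mul_one]
  · have := Module.natCard_eq_pow_finrank (K := F) (V := L)
    rw [hcard, Nat.card_eq_fintype_card] at this
    exact (Nat.pow_right_injective hq1 this).symm
  · refine mem_subalgebraNormalizer fun g hg k hk => ⟨hn g hg k hk.1, ?_⟩
    have : ∀ m : ℕ, cj g k ^ m = cj g (k ^ m) := fun m => by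
      induction m with
      | zero => simp [cj]
      | succ m ih => rw [pow_succ, pow_succ, ih, cj_mul]
    rw [this, hk.2]

/-- The degree of a field of matrices divides the size of the matrices. -/
theorem field_degree_dvd [Fintype F] {r : ℕ} {K : Subalgebra F (Matrix ι ι F)} (hK : IsFieldSubalgebra r K)
    [Nonempty ι] : r ∣ Fintype.card ι := by
  classical
  letI iC : CommRing K := { (inferInstance : Ring K) with mul_comm := fun a b => Subtype.ext (hK.comm a a.2 b b.2) }
  haveI : Nontrivial K := ⟨⟨0, 1, fun h => zero_ne_one (congrArg Subtype.val h)⟩⟩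
  have hf : IsField K :=
    { exists_pair_ne := exists_pair_ne K
      mul_comm := fun a b => mul_comm a b
      mul_inv_cancel := fun {a} ha => by
        obtain ⟨y, hy, h⟩ := hK.inv a.1 a.2 fun h => ha (Subtype.ext h)
        exact ⟨⟨y, hy⟩, Subtype.ext h⟩ }
  letI : Field K := hf.toField
  letI : SMul K (ι → F) := ⟨fun k v => (k : Matrix ι ι F) *ᵥ v⟩
  letI : Module K (ι → F) :=
    { one_smul := fun v => Matrix.one_mulVec v
      mul_smul := fun a b v => (Matrix.mulVec_mulVec v (a : Matrix ι ι F) (b : Matrix ι ι F)).symm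
      smul_zero := fun a => Matrix.mulVec_zero _
      smul_add := fun a u v => Matrix.mulVec_add _ u v
      add_smul := fun a b v => Matrix.add_mulVec _ _ v
      zero_smul := fun v => Matrix.zero_mulVec v }
  haveI : IsScalarTower F K (ι → F) := ⟨fun c k v => Matrix.smul_mulVec c (k : Matrix ι ι F) v⟩
  have := Module.finrank_mul_finrank F K (ι → F)
  rw [hK.finrank_eq, Module.finrank_fintype_fun_eq_card] at this
  exact ⟨_, this.symm⟩

/-- Automorphisms of a finite field fixing a subfield pointwise detect it. -/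
theorem mem_of_frob_fixed [Fintype F] (F₀ : Subfield F) {x : F}
    (hx : x ^ Nat.card F₀ = x) : x ∈ F₀ := by
  classical
  haveI : Fintype F₀ := Fintype.ofFinite F₀
  rw [Nat.card_eq_fintype_card] at hx
  set Q : Polynomial F := Polynomial.X ^ Fintype.card F₀ - Polynomial.X with hQ
  have hQ0 : Q ≠ 0 := FiniteField.X_pow_card_sub_X_ne_zero F Fintype.one_lt_card
  have hsub : (Finset.univ.image fun a : F₀ => (a : F)) ⊆ Q.roots.toFinset := by
    intro y hy
    obtain ⟨a, -, rfl⟩ := Finset.mem_image.1 hy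
    have := congrArg (fun t : F₀ => (t : F)) (FiniteField.pow_card a)
    simp only [SubmonoidClass.coe_pow] at this
    rw [Multiset.mem_toFinset, Polynomial.mem_roots hQ0]; simp [hQ, this]
  have heq := Finset.eq_of_subset_of_card_le hsub (by
    rw [Finset.card_image_of_injective _ Subtype.val_injective, Finset.card_univ]
    exact ((Multiset.toFinset_card_le _).trans (Polynomial.card_roots' Q)).trans
      (FiniteField.X_pow_card_sub_X_natDegree_eq F Fintype.one_lt_card).le)
  have : x ∈ Q.roots.toFinset := by rw [Multiset.mem_toFinset, Polynomial.mem_roots hQ0]; simp [hQ, hx]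
  rw [← heq] at this
  obtain ⟨a, -, rfl⟩ := Finset.mem_image.1 this
  exact a.2

/-- A proper subfield lies in a subfield of prime index. -/
theorem exists_prime_index [Fintype F] {F₀ : Subfield F} (h : F₀ ≠ ⊤) :
    ∃ (F₁ : Subfield F) (r : ℕ), r.Prime ∧ F₀ ≤ F₁ ∧ Fintype.card F = Nat.card F₁ ^ r := by
  classical
  haveI : Fintype F₀ := Fintype.ofFinite F₀
  have hd0 := Module.natCard_eq_pow_finrank (K := F₀) (V := F)
  set d := finrank F₀ F with hd
  set q₀ := Nat.card F₀ with hq₀
  have hq₀1 : 1 < q₀ := by rw [hq₀, Nat.card_eq_fintype_card]; exact Fintype.one_lt_card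
  rw [Nat.card_eq_fintype_card] at hd0
  have hd2 : d ≠ 1 := fun h1 => h (by
    rw [eq_top_iff]
    intro x _
    exact mem_of_frob_fixed F₀ (by rw [← hq₀, ← pow_one q₀, ← h1, ← hd0, FiniteField.pow_card]))
  have hd1 : d ≠ 0 := fun h1 => by
    rw [h1, pow_zero] at hd0
    exact absurd hd0 (Fintype.one_lt_card (α := F)).ne'
  have hr : d.minFac.Prime := Nat.minFac_prime hd2
  obtain ⟨e, he⟩ : d.minFac ∣ d := Nat.minFac_dvd d
  have he0 : e ≠ 0 := fun h1 => hd1 (by rw [he, h1, mul_zero])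
  obtain ⟨p, hp⟩ := CharP.exists F
  haveI := hp
  obtain ⟨⟨f, hf0⟩, hpr, hq⟩ := FiniteField.card F p
  haveI : Fact p.Prime := ⟨hpr⟩
  have hqF : Fintype.card F = p ^ f := hq
  obtain ⟨f₀, hf₀⟩ : ∃ f₀, q₀ = p ^ f₀ := by
    have : q₀ ∣ p ^ f := by rw [← hqF, hd0]; exact dvd_pow_self _ hd1
    obtain ⟨f₀, -, h0⟩ := (Nat.dvd_prime_pow hpr).1 this
    exact ⟨f₀, h0⟩
  set Q := q₀ ^ e with hQdef
  have hQp : Q = p ^ (f₀ * e) := by rw [hQdef, hf₀, ← pow_mul]
  let F₁ : Subfield F :=
    { carrier := {x | x ^ Q = x}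
      mul_mem' := fun {a b} (ha : a ^ Q = a) (hb : b ^ Q = b) => by
        show (a * b) ^ Q = a * b
        rw [mul_pow, ha, hb]
      one_mem' := one_pow _
      add_mem' := fun {a b} (ha : a ^ Q = a) (hb : b ^ Q = b) => by
        show (a + b) ^ Q = a + b
        rw [hQp, add_pow_char_pow, ← hQp, ha, hb]
      zero_mem' := zero_pow (pow_ne_zero _ (by omega))
      neg_mem' := fun {a} (ha : a ^ Q = a) => by
        show (-a) ^ Q = -a
        have h1 : (a + -a) ^ Q = 0 := by rw [add_neg_cancel, zero_pow (pow_ne_zero _ (by omega))]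
        rw [hQp, add_pow_char_pow, ← hQp, ha] at h1
        exact eq_neg_of_add_eq_zero_right h1
      inv_mem' := fun a (ha : a ^ Q = a) => by
        show a⁻¹ ^ Q = a⁻¹
        rw [inv_pow, ha] }
  have hle : F₀ ≤ F₁ := fun x hx => by
    show x ^ Q = x
    haveI : Fintype F₀ := Fintype.ofFinite F₀
    have := congrArg (fun t : F₀ => (t : F)) (FiniteField.pow_card_pow e (⟨x, hx⟩ : F₀))
    simpa [hQdef, hq₀, Nat.card_eq_fintype_card] using this
  refine ⟨F₁, d.minFac, hr, hle, ?_⟩
  haveI : Fintype F₁ := Fintype.ofFinite F₁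
  have hQ1 : 1 < Q := Nat.one_lt_pow he0 hq₀1
  suffices hcard : Nat.card F₁ = Q by rw [hcard, hQdef, ← pow_mul, mul_comm e, ← he, hd0]
  apply le_antisymm
  · let P : Polynomial F := Polynomial.X ^ Q - Polynomial.X
    have hP : P ≠ 0 := FiniteField.X_pow_card_sub_X_ne_zero F hQ1
    have hroots : ∀ x : F₁, (x : F) ∈ P.roots.toFinset := fun x => by
      simp [P, Polynomial.mem_roots hP, show (x : F) ^ Q = x from x.2]
    calc Nat.card F₁ ≤ P.roots.toFinset.card := by
          rw [← Nat.card_eq_finsetCard]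
          exact Nat.card_le_card_of_injective (fun x : F₁ => (⟨_, hroots x⟩ : P.roots.toFinset))
            fun a b hab => Subtype.ext (congrArg (fun t => (t.1 : F)) hab)
      _ ≤ P.natDegree := (Multiset.toFinset_card_le _).trans (Polynomial.card_roots' P)
      _ = Q := FiniteField.X_pow_card_sub_X_natDegree_eq F hQ1
  · obtain ⟨g, hg⟩ := IsCyclic.exists_ofOrder_eq_natCard (α := Fˣ)
    rw [Nat.card_units, Nat.card_eq_fintype_card, hd0] at hg
    have hdvd : Q - 1 ∣ q₀ ^ d - 1 := by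
      rw [he, mul_comm, pow_mul]
      exact Nat.sub_one_dvd_pow_sub_one Q _
    obtain ⟨c, hc⟩ := hdvd
    have hc0 : c ≠ 0 := fun h1 => by
      rw [h1, mul_zero] at hc
      have := Nat.one_lt_pow hd1 hq₀1
      omega
    have hord : orderOf (g ^ c) = Q - 1 := by
      rw [orderOf_pow_of_dvd hc0 (by rw [hg, hc]; exact dvd_mul_left _ _), hg, hc,
        Nat.mul_div_cancel _ (Nat.pos_of_ne_zero hc0)]
    have hmem : ∀ u : Subgroup.zpowers (g ^ c), ((u : Fˣ) : F) ∈ F₁ := by
      rintro ⟨u, hu⟩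
      have h1 : u ^ (Q - 1) = 1 := by
        rw [← hord]
        exact orderOf_dvd_iff_pow_eq_one.1 (orderOf_dvd_of_mem_zpowers hu)
      show (u : F) ^ Q = u
      calc (u : F) ^ Q = (u : F) ^ (Q - 1) * (u : F) := by rw [← pow_succ, Nat.sub_add_cancel hQ1.le]
        _ = u := by rw [← Units.val_pow_eq_pow_val, h1, Units.val_one, one_mul]
    have hle2 := Nat.card_le_card_of_injective
      (fun o : Option (Subgroup.zpowers (g ^ c)) => o.elim (0 : F₁) fun u => ⟨_, hmem u⟩) (by
        rintro (_ | u) (_ | v) huv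
        · rfl
        · exact absurd (congrArg Subtype.val huv).symm (Units.ne_zero _)
        · exact absurd (congrArg Subtype.val huv) (Units.ne_zero _)
        · exact congrArg some (Subtype.ext (Units.ext (congrArg Subtype.val huv :))))
    rw [Finite.card_option, Nat.card_zpowers, hord, Nat.sub_add_cancel hQ1.le] at hle2
    exact hle2

/-- If an absolutely irreducible group is rational over a subfield in some basis, so is its normaliser up to scalars. -/
theorem le_subfieldSubgroup [Fintype F] [Nonempty ι] {F₀ : Subfield F} {N H : Subgroup (GL ι F)} (hN : AI N)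
    (hH : Norms H N) {B : GL ι F} (hB : ∀ x ∈ N, ∀ i j, cj B (x : Matrix ι ι F) i j ∈ F₀) :
    H ≤ subfieldSubgroup F₀ B⁻¹ := by
  classical
  intro h hh
  set g : GL ι F := B * h * B⁻¹ with hg
  clear_value g
  obtain ⟨k, l, hkl⟩ : ∃ k l, (g : Matrix ι ι F) k l ≠ 0 := by
    by_contra hcon
    push Not at hcon
    exact g.ne_zero (Matrix.ext hcon)
  set c := (g : Matrix ι ι F) k l with hc
  set g' : Matrix ι ι F := c⁻¹ • (g : Matrix ι ι F) with hg'
  obtain ⟨p, hp⟩ := CharP.exists F
  haveI := hp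
  obtain ⟨⟨f, hf0⟩, hpr, hq⟩ := FiniteField.card F p
  haveI : Fact p.Prime := ⟨hpr⟩
  haveI : Fintype F₀ := Fintype.ofFinite F₀
  haveI : CharP F₀ p := CharP.subring' F p F₀.toSubring
  obtain ⟨⟨f₀, hf₀0⟩, -, hq₀⟩ := FiniteField.card F₀ p
  have hq₀' : Nat.card F₀ = p ^ f₀ := by rw [Nat.card_eq_fintype_card]; exact hq₀
  let σ : F →+* F := iterateFrobenius F p f₀
  have hσ : ∀ a : F, σ a = a ^ Nat.card F₀ := fun a => by rw [hq₀']; rfl
  have hσF₀ : ∀ a ∈ F₀, σ a = a := fun a ha => by
    rw [hσ, Nat.card_eq_fintype_card]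
    simpa using congrArg (fun t : F₀ => (t : F)) (FiniteField.pow_card (⟨a, ha⟩ : F₀))
  have hrel : ∀ x ∈ N, g' * cj B (x : Matrix ι ι F) = cj B ((h * x * h⁻¹ : GL ι F) : Matrix ι ι F) * g' := by
    intro x _
    rw [hg', Matrix.smul_mul, Matrix.mul_smul]
    congr 1
    rw [cj_coe, cj_coe, ← Units.val_mul, ← Units.val_mul, hg]
    congr 1
    group
  set s : Matrix ι ι F := g'.map σ with hs
  have hsrel : ∀ x ∈ N, s * cj B (x : Matrix ι ι F) = cj B ((h * x * h⁻¹ : GL ι F) : Matrix ι ι F) * s := by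
    intro x hx
    have := congrArg (fun M : Matrix ι ι F => M.map σ) (hrel x hx)
    simp only [Matrix.map_mul] at this
    have e1 : ∀ y ∈ N, (cj B (y : Matrix ι ι F)).map σ = cj B (y : Matrix ι ι F) := fun y hy => by
      ext i j
      exact hσF₀ _ (hB y hy i j)
    rwa [e1 x hx, e1 _ (hH h hh x hx)] at this
  set D : Matrix ι ι F := cj B⁻¹ (((g⁻¹ : GL ι F) : Matrix ι ι F) * s) with hD
  have hcom : Com N D := by
    intro x hx
    have h1 : cj B ((h * x * h⁻¹ : GL ι F) : Matrix ι ι F) =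
        (g : Matrix ι ι F) * cj B (x : Matrix ι ι F) * ((g⁻¹ : GL ι F) : Matrix ι ι F) := by
      rw [cj_coe, cj_coe, ← Units.val_mul, ← Units.val_mul, hg]
      congr 1
      group
    have h2 : ((g⁻¹ : GL ι F) : Matrix ι ι F) * s * cj B (x : Matrix ι ι F) =
        cj B (x : Matrix ι ι F) * (((g⁻¹ : GL ι F) : Matrix ι ι F) * s) := by
      rw [mul_assoc, hsrel x hx, h1]
      simp [← mul_assoc]
    have := congrArg (cj B⁻¹) h2
    rw [cj_mul B⁻¹ (_ * s), cj_mul B⁻¹ (cj B _), cj_inv_cj, ← hD] at this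
    exact this
  obtain ⟨μ, hμ⟩ := hN.scalar hcom
  have hs' : s = μ • (g : Matrix ι ι F) := by
    have h1 : ((g⁻¹ : GL ι F) : Matrix ι ι F) * s = μ • (1 : Matrix ι ι F) := by
      have := congrArg (cj B) hμ
      rwa [hD, cj_cj_inv, cj_smul, show cj B (1 : Matrix ι ι F) = 1 by simp [cj]] at this
    calc s = (g : Matrix ι ι F) * (((g⁻¹ : GL ι F) : Matrix ι ι F) * s) := by simp [← mul_assoc]
      _ = _ := by rw [h1, Matrix.mul_smul, mul_one]
  have hmem : ∀ i j, g' i j ∈ F₀ := by
    have h1 : g' k l = 1 := by rw [hg', Matrix.smul_apply, smul_eq_mul, ← hc, inv_mul_cancel₀ hkl]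
    have h2 : μ = c⁻¹ := by
      have := congrFun (congrFun hs' k) l
      rw [hs, Matrix.map_apply, h1, map_one, Matrix.smul_apply, smul_eq_mul, ← hc] at this
      exact eq_inv_of_mul_eq_one_left this.symm
    intro i j
    refine mem_of_frob_fixed F₀ ?_
    rw [← hσ, show σ (g' i j) = s i j from rfl, hs', h2, ← hg']
  let g₀ : Matrix ι ι F₀ := fun i j => ⟨g' i j, hmem i j⟩
  have hg₀ : g₀.map F₀.subtype = g' := rfl
  have hdet : g₀.det ≠ 0 := by
    intro h0
    have := congrArg F₀.subtype h0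
    rw [RingHom.map_det, map_zero, RingHom.mapMatrix_apply, hg₀, hg', Matrix.det_smul] at this
    rcases mul_eq_zero.1 this with h | h
    · exact pow_ne_zero _ (inv_ne_zero hkl) h
    · exact ((Matrix.isUnit_iff_isUnit_det _).1 g.isUnit).ne_zero h
  let u : GL ι F₀ := Matrix.GeneralLinearGroup.mkOfDetNeZero g₀ hdet
  have hgu : g = Units.map (Matrix.scalar ι : F →+* Matrix ι ι F).toMonoidHom (Units.mk0 c hkl) *
      Matrix.GeneralLinearGroup.map (F₀.subtype : F₀ →+* F) u := by
    apply Units.ext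
    rw [Units.val_mul]
    show (g : Matrix ι ι F) = Matrix.scalar ι c * g₀.map F₀.subtype
    rw [hg₀, hg', Matrix.scalar_apply, ← Matrix.smul_one_eq_diagonal, Matrix.smul_mul, one_mul, smul_smul,
      mul_inv_cancel₀ hkl, one_smul]
  refine ⟨g, ?_, ?_⟩
  · rw [hgu]
    exact Subgroup.mul_mem _ (Subgroup.mem_sup_right ⟨_, rfl⟩) (Subgroup.mem_sup_left ⟨u, rfl⟩)
  · show B⁻¹ * g * B⁻¹⁻¹ = h
    rw [hg]
    group

end Cfsg.Agent.Classical.Asch
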