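import Cfsg.Agent.Lib.Classical.AschBasic

/-!
Clifford theory for a subgroup normalised by an irreducible group of matrices: a permuted decomposition, a
normalised field, a tensor splitting, or absolute irreducibility.
-/

set_option autoImplicit false
set_option linter.unusedSectionVars false
set_option linter.unusedFintypeInType false
set_option linter.unusedDecidableInType false

namespace Cfsg.Agent.Classical.Asch

open Matrix Module Cfsg.Geo
open scoped Kronecker

variable {F : Type*} [Field F] {ι : Type} [Fintype ι] [DecidableEq ι]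

/-- A matrix written in the coordinates given by a bijection of index sets and a change of basis. -/
def co {κ : Type} [Fintype κ] [DecidableEq κ] (e : ι ≃ κ) (P : GL ι F) (M : Matrix κ κ F) : Matrix ι ι F :=
  cj P (Matrix.reindexAlgEquiv F F e.symm M)

theorem co_mul {κ : Type} [Fintype κ] [DecidableEq κ] (e : ι ≃ κ) (P : GL ι F) (M M' : Matrix κ κ F) :
    co e P (M * M') = co e P M * co e P M' := by rw [co, map_mul, cj_mul, co, co]

theorem co_one {κ : Type} [Fintype κ] [DecidableEq κ] (e : ι ≃ κ) (P : GL ι F) :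
    co e P (1 : Matrix κ κ F) = 1 := by
  rw [co, map_one]; simp [cj]

theorem co_add {κ : Type} [Fintype κ] [DecidableEq κ] (e : ι ≃ κ) (P : GL ι F) (M M' : Matrix κ κ F) :
    co e P (M + M') = co e P M + co e P M' := by rw [co, map_add, cj_add, co, co]

theorem co_smul {κ : Type} [Fintype κ] [DecidableEq κ] (e : ι ≃ κ) (P : GL ι F) (c : F) (M : Matrix κ κ F) :
    co e P (c • M) = c • co e P M := by rw [co, map_smul, cj_smul, co]

theorem co_injective {κ : Type} [Fintype κ] [DecidableEq κ] (e : ι ≃ κ) (P : GL ι F) :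
    Function.Injective (co e P (F := F)) := by
  intro M M' h
  apply (Matrix.reindexAlgEquiv F F e.symm).injective
  have := congrArg (cj P⁻¹) h
  rwa [co, co, cj_inv_cj, cj_inv_cj] at this

theorem co_surjective {κ : Type} [Fintype κ] [DecidableEq κ] (e : ι ≃ κ) (P : GL ι F) :
    Function.Surjective (co e P (F := F)) := fun M =>
  ⟨(Matrix.reindexAlgEquiv F F e.symm).symm (cj P⁻¹ M), by rw [co, AlgEquiv.apply_symm_apply, cj_cj_inv]⟩

/-- To identify a matrix it suffices to evaluate it on the columns. -/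
theorem eq_co {κ : Type} [Fintype κ] [DecidableEq κ] {e : ι ≃ κ} {P : GL ι F} {b : κ → ι → F}
    (hb : ∀ j r, (P : Matrix ι ι F) r j = b (e j) r) {M' : Matrix ι ι F} {M : Matrix κ κ F}
    (h : ∀ l, M' *ᵥ b l = ∑ l', M l' l • b l') : M' = co e P M := by
  have h1 : M' * (P : Matrix ι ι F) = (P : Matrix ι ι F) * Matrix.reindexAlgEquiv F F e.symm M := by
    ext r j
    have hr := congrFun (h (e j)) r
    simp only [Matrix.mulVec, dotProduct, Finset.sum_apply, Pi.smul_apply, smul_eq_mul] at hr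
    rw [Matrix.mul_apply, Matrix.mul_apply]
    simp only [hb]
    rw [hr, ← e.sum_comp]
    refine Finset.sum_congr rfl fun i _ => ?_
    simp [Matrix.reindexAlgEquiv_apply, Matrix.reindex_apply, mul_comm]
  calc M' = M' * (P : Matrix ι ι F) * ((P⁻¹ : GL ι F) : Matrix ι ι F) := by
        rw [mul_assoc, Units.mul_inv, mul_one]
    _ = co e P M := by rw [h1]; rfl

/-- The subgroup acts as the first factor of a tensor splitting whose second factor is its commutant. -/
def Split (N : Subgroup (GL ι F)) : Prop :=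
  ∃ (a b : ℕ) (e : ι ≃ Fin a × Fin b) (P : GL ι F), 2 ≤ b ∧
    (∀ x ∈ N, ∃ A : Matrix (Fin a) (Fin a) F, (x : Matrix ι ι F) = co e P (A ⊗ₖ (1 : Matrix (Fin b) (Fin b) F))) ∧
    ∀ M : Matrix ι ι F, Com N M ↔ ∃ B : Matrix (Fin b) (Fin b) F, M = co e P ((1 : Matrix (Fin a) (Fin a) F) ⊗ₖ B)

/-- Invariance of a subspace. -/
def Inv (N : Subgroup (GL ι F)) (W : Submodule F (ι → F)) : Prop :=
  ∀ x ∈ N, ∀ v ∈ W, (x : Matrix ι ι F) *ᵥ v ∈ W

/-- A minimal non-zero invariant subspace. -/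
def Simp (N : Subgroup (GL ι F)) (W : Submodule F (ι → F)) : Prop :=
  W ≠ ⊥ ∧ Inv N W ∧ ∀ U : Submodule F (ι → F), U ≤ W → Inv N U → U = ⊥ ∨ U = W

/-- The subspace spanned by the images of a subspace under the commutant. -/
def hull (N : Subgroup (GL ι F)) (W : Submodule F (ι → F)) : Submodule F (ι → F) :=
  ⨆ M : {M : Matrix ι ι F // Com N M}, W.map (Matrix.toLin' M.1)

variable {N H : Subgroup (GL ι F)}

theorem com_one : Com N (1 : Matrix ι ι F) := fun x _ => by rw [one_mul, mul_one]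

theorem Com.mul {M M' : Matrix ι ι F} (h : Com N M) (h' : Com N M') : Com N (M * M') := fun x hx => by
  rw [mul_assoc, h' x hx, ← mul_assoc, h x hx, mul_assoc]

theorem Com.add {M M' : Matrix ι ι F} (h : Com N M) (h' : Com N M') : Com N (M + M') := fun x hx => by
  rw [Matrix.add_mul, Matrix.mul_add, h x hx, h' x hx]

theorem Com.inv_map {M : Matrix ι ι F} (h : Com N M) {W : Submodule F (ι → F)} (hW : Inv N W) :
    Inv N (W.map (Matrix.toLin' M)) := by
  rintro x hx _ ⟨v, hv, rfl⟩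
  refine ⟨(x : Matrix ι ι F) *ᵥ v, hW x hx v hv, ?_⟩
  rw [Matrix.toLin'_apply, Matrix.toLin'_apply, Matrix.mulVec_mulVec, Matrix.mulVec_mulVec, h x hx]

theorem le_hull (W : Submodule F (ι → F)) : W ≤ hull N W := fun v hv =>
  le_iSup (fun M : {M : Matrix ι ι F // Com N M} => W.map (Matrix.toLin' M.1)) ⟨1, com_one⟩
    ⟨v, hv, by simp⟩

theorem mem_hull {W : Submodule F (ι → F)} {M : Matrix ι ι F} (hM : Com N M) {v : ι → F} (hv : v ∈ W) :
    M *ᵥ v ∈ hull N W :=
  le_iSup (fun M : {M : Matrix ι ι F // Com N M} => W.map (Matrix.toLin' M.1)) ⟨M, hM⟩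
    ⟨v, hv, Matrix.toLin'_apply M v⟩

theorem hull_le {W U : Submodule F (ι → F)}
    (h : ∀ M : Matrix ι ι F, Com N M → ∀ v ∈ W, M *ᵥ v ∈ U) : hull N W ≤ U := by
  refine iSup_le fun M => ?_
  rintro _ ⟨v, hv, rfl⟩
  rw [Matrix.toLin'_apply]
  exact h M.1 M.2 v hv

theorem hull_com {W : Submodule F (ι → F)} {M : Matrix ι ι F} (hM : Com N M) {v : ι → F}
    (hv : v ∈ hull N W) : M *ᵥ v ∈ hull N W := by
  have : hull N W ≤ (hull N W).comap (Matrix.toLin' M) := hull_le fun M' hM' u hu => by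
    rw [Submodule.mem_comap, Matrix.toLin'_apply, Matrix.mulVec_mulVec]
    exact mem_hull (hM.mul hM') hu
  simpa [Matrix.toLin'_apply] using this hv

theorem hull_mono {W U : Submodule F (ι → F)} (h : U ≤ hull N W) : hull N U ≤ hull N W :=
  hull_le fun _ hM _ hv => hull_com hM (h hv)

theorem hull_inv {W : Submodule F (ι → F)} (hW : Inv N W) : Inv N (hull N W) := by
  intro x hx v hv
  have : hull N W ≤ (hull N W).comap (Matrix.toLin' (x : Matrix ι ι F)) := hull_le fun M hM u hu => by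
    rw [Submodule.mem_comap, Matrix.toLin'_apply, Matrix.mulVec_mulVec, ← hM x hx, ← Matrix.mulVec_mulVec]
    exact mem_hull hM (hW x hx u hu)
  simpa [Matrix.toLin'_apply] using this hv

theorem exists_simp_le {U : Submodule F (ι → F)} (hU : U ≠ ⊥) (hi : Inv N U) :
    ∃ W, W ≤ U ∧ Simp N W := by
  obtain ⟨W, ⟨h1, h2, h3⟩, hmin⟩ :=
    WellFounded.has_min (wellFounded_lt (α := Submodule F (ι → F))) {W | W ≤ U ∧ W ≠ ⊥ ∧ Inv N W}
      ⟨U, le_rfl, hU, hi⟩
  refine ⟨W, h1, h2, h3, fun Y hY hYi => ?_⟩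
  by_contra hcon
  push Not at hcon
  exact hmin Y ⟨hY.trans h1, hcon.1, hYi⟩ (lt_of_le_of_ne hY hcon.2)

theorem map_inj (g : GL ι F) :
    Function.Injective (Matrix.toLin' (g : Matrix ι ι F)) := by
  intro u v h
  simp only [Matrix.toLin'_apply] at h
  have := congrArg (((g⁻¹ : GL ι F) : Matrix ι ι F) *ᵥ ·) h
  simpa [Matrix.mulVec_mulVec] using this

theorem Simp.map (hn : Norms H N) {W : Submodule F (ι → F)} (hW : Simp N W) {g : GL ι F} (hg : g ∈ H) :
    Simp N (W.map (Matrix.toLin' (g : Matrix ι ι F))) := by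
  have key : ∀ (g : GL ι F), g ∈ H → ∀ U : Submodule F (ι → F), Inv N U →
      Inv N (U.map (Matrix.toLin' (g : Matrix ι ι F))) := by
    rintro g hg U hU x hx _ ⟨v, hv, rfl⟩
    refine ⟨_, hU _ (hn.inv_mem hg hx) v hv, ?_⟩
    simp [Matrix.toLin'_apply, Matrix.mulVec_mulVec, ← mul_assoc]
  refine ⟨fun h => hW.1 (Submodule.map_injective_of_injective (map_inj g) (h.trans (Submodule.map_bot _).symm)), key g hg W hW.2.1,
    fun U hU hUi => ?_⟩
  have hid : ∀ Y : Submodule F (ι → F), (Y.map (Matrix.toLin' (((g⁻¹ : GL ι F)) : Matrix ι ι F))).map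
      (Matrix.toLin' (g : Matrix ι ι F)) = Y := fun Y => by
    rw [← Submodule.map_comp, ← Matrix.toLin'_mul, Units.mul_inv, Matrix.toLin'_one, Submodule.map_id]
  have hle : U.map (Matrix.toLin' (((g⁻¹ : GL ι F)) : Matrix ι ι F)) ≤ W := by
    rintro _ ⟨v, hv, rfl⟩
    obtain ⟨w, hw, rfl⟩ := hU hv
    simpa [Matrix.toLin'_apply, Matrix.mulVec_mulVec] using hw
  rcases hW.2.2 _ hle (key g⁻¹ (H.inv_mem hg) U hUi) with h | h
  · left; rw [← hid U, h, Submodule.map_bot]
  · right; rw [← hid U, h]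

/-- The images under the group of a non-zero subspace span everything. -/
theorem iSup_map_eq_top (hH : Irr H) {W : Submodule F (ι → F)} (hW : W ≠ ⊥) :
    (⨆ g : H, W.map (Matrix.toLin' ((g : GL ι F) : Matrix ι ι F))) = ⊤ := by
  set U := ⨆ g : H, W.map (Matrix.toLin' ((g : GL ι F) : Matrix ι ι F)) with hU
  refine (irr_iff.1 hH U fun g hg v hv => ?_).resolve_left fun h => hW ?_
  · have : U ≤ U.comap (Matrix.toLin' (g : Matrix ι ι F)) := by
      refine iSup_le fun k => ?_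
      rintro _ ⟨w, hw, rfl⟩
      refine Submodule.mem_iSup_of_mem (⟨g, hg⟩ * k) ⟨w, hw, ?_⟩
      simp [Matrix.toLin'_apply, Matrix.mulVec_mulVec]
    simpa [Matrix.toLin'_apply] using this hv
  · rw [eq_bot_iff]
    intro w hw
    rw [← h]
    exact Submodule.mem_iSup_of_mem (1 : H) ⟨w, hw, by simp⟩

theorem Simp.image_eq {W U : Submodule F (ι → F)} (hW : Simp N W) (hU : Simp N U) {M : Matrix ι ι F}
    (hM : Com N M) (hle : ∀ v ∈ W, M *ᵥ v ∈ U) (hne : ∃ v ∈ W, M *ᵥ v ≠ 0) :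
    (∀ u ∈ U, ∃ v ∈ W, M *ᵥ v = u) ∧ ∀ v ∈ W, M *ᵥ v = 0 → v = 0 := by
  obtain ⟨v₀, hv₀, hv₀'⟩ := hne
  constructor
  · have hle' : W.map (Matrix.toLin' M) ≤ U := by
      rintro _ ⟨v, hv, rfl⟩; rw [Matrix.toLin'_apply]; exact hle v hv
    rcases hU.2.2 _ hle' (hM.inv_map hW.2.1) with h | h
    · exact absurd ((Submodule.mem_bot F).1 (h ▸ ⟨v₀, hv₀, Matrix.toLin'_apply M v₀⟩)) hv₀'
    · intro u hu
      rw [← h] at hu
      obtain ⟨v, hv, rfl⟩ := hu
      exact ⟨v, hv, (Matrix.toLin'_apply M v).symm⟩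
  · intro v hv h0
    rcases hW.2.2 (W ⊓ LinearMap.ker (Matrix.toLin' M)) inf_le_left (fun x hx u hu => by
      refine ⟨hW.2.1 x hx u hu.1, ?_⟩
      have h2 : M *ᵥ u = 0 := by simpa [Matrix.toLin'_apply] using hu.2
      rw [SetLike.mem_coe, LinearMap.mem_ker, Matrix.toLin'_apply, Matrix.mulVec_mulVec, hM x hx,
        ← Matrix.mulVec_mulVec, h2, Matrix.mulVec_zero]) with h | h
    · exact (Submodule.mem_bot F).1 (h ▸ ⟨hv, by simpa [Matrix.toLin'_apply] using h0⟩)
    · exact absurd (by simpa [Matrix.toLin'_apply] using (h.ge hv₀).2) hv₀'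

/-- A set of simple subspaces in direct sum, with projections. -/
structure Frame (N : Subgroup (GL ι F)) (σ : Type*) [Fintype σ] where
  W : σ → Submodule F (ι → F)
  simp : ∀ i, Simp N (W i)
  π : σ → Matrix ι ι F
  com : ∀ i, Com N (π i)
  mem : ∀ i v, π i *ᵥ v ∈ W i
  fix : ∀ i, ∀ v ∈ W i, π i *ᵥ v = v
  kill : ∀ i j, i ≠ j → ∀ v ∈ W j, π i *ᵥ v = 0
  total : ∀ v, ∑ i, π i *ᵥ v = v

theorem exists_frame [Finite F] (hH : Irr H) (hn : Norms H N) [Nonempty ι] :
    ∃ (e : ℕ), 1 ≤ e ∧ Nonempty (Frame N (Fin e)) := by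
  classical
  obtain ⟨W₀, -, hW₀⟩ := exists_simp_le (U := (⊤ : Submodule F (ι → F))) (by simp) (fun x _ v _ => trivial)
  let P : Set (Finset (Submodule F (ι → F))) := {S | (∀ W ∈ S, Simp N W) ∧ S.sup id = ⊤}
  haveI : Finite (Submodule F (ι → F)) := inferInstance
  haveI : Fintype H := Fintype.ofFinite H
  have hP : (Finset.univ.image fun g : H => W₀.map (Matrix.toLin' ((g : GL ι F) : Matrix ι ι F))) ∈ P := by
    refine ⟨fun W hW => ?_, ?_⟩
    · obtain ⟨g, -, rfl⟩ := Finset.mem_image.1 hW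
      exact hW₀.map hn g.2
    · rw [Finset.sup_image, ← iSup_map_eq_top hH hW₀.1, Finset.sup_univ_eq_iSup]
      rfl
  obtain ⟨S, ⟨hS1, hS2⟩, hmin⟩ := Set.exists_min_image P Finset.card (Set.toFinite P) ⟨_, hP⟩
  let U : S → Submodule F (ι → F) := fun W => (S.erase W.1).sup id
  have hUinv : ∀ T : Finset (Submodule F (ι → F)), (∀ W ∈ T, Simp N W) → Inv N (T.sup id) := by
    intro T
    induction T using Finset.induction_on with
    | empty => intro _ x _ v hv; simp at hv; simp [hv]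
    | insert W T hWT ih =>
      intro hT x hx v hv
      rw [Finset.sup_insert, id, Submodule.mem_sup] at hv
      obtain ⟨a, ha, b, hb, rfl⟩ := hv
      rw [Finset.sup_insert, id, Matrix.mulVec_add]
      exact Submodule.add_mem_sup ((hT W (Finset.mem_insert_self _ _)).2.1 x hx a ha)
        (ih (fun Y hY => hT Y (Finset.mem_insert_of_mem hY)) x hx b hb)
  have hUi : ∀ W : S, Inv N (U W) := fun W => hUinv _ fun Y hY => hS1 Y (Finset.mem_of_mem_erase hY)
  have hsup : ∀ W : S, W.1 ⊔ U W = ⊤ := fun W => by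
    rw [← hS2]
    conv_rhs => rw [← Finset.insert_erase W.2, Finset.sup_insert, id]
  have hdisj : ∀ W : S, W.1 ⊓ U W = ⊥ := fun W => by
    refine ((hS1 W.1 W.2).2.2 _ inf_le_left fun x hx v hv =>
      ⟨(hS1 W.1 W.2).2.1 x hx v hv.1, hUi W x hx v hv.2⟩).resolve_right fun h => ?_
    have h1 : U W = ⊤ := by
      rw [← hsup W, sup_eq_right.2 (h ▸ inf_le_right)]
    have := hmin (S.erase W.1) ⟨fun Y hY => hS1 Y (Finset.mem_of_mem_erase hY), h1⟩
    rw [Finset.card_erase_of_mem W.2] at this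
    have : 0 < S.card := Finset.card_pos.2 ⟨_, W.2⟩
    omega
  have hc : ∀ W : S, IsCompl W.1 (U W) := fun W =>
    ⟨disjoint_iff.2 (hdisj W), codisjoint_iff.2 (hsup W)⟩
  let π : S → Matrix ι ι F := fun W => LinearMap.toMatrix' (W.1.subtype.comp (Submodule.projectionOnto _ _ (hc W)))
  have hπ : ∀ W v, π W *ᵥ v = (Submodule.projectionOnto _ _ (hc W) v : ι → F) := fun W v => by
    rw [← Matrix.toLin'_apply, Matrix.toLin'_toMatrix']
    rfl
  have hfix : ∀ W : S, ∀ v ∈ W.1, π W *ᵥ v = v := fun W v hv => by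
    rw [hπ, Submodule.projectionOnto_apply_of_mem_left (hc W) hv]
  have hker : ∀ W : S, ∀ v ∈ U W, π W *ᵥ v = 0 := fun W v hv => by
    rw [hπ, Submodule.projectionOnto_apply_of_mem_right (hc W) hv, Submodule.coe_zero]
  have hkill : ∀ i j : S, i ≠ j → ∀ v ∈ j.1, π i *ᵥ v = 0 := fun i j hij v hv =>
    hker i v (Finset.le_sup (f := id) (Finset.mem_erase.2 ⟨fun h => hij (Subtype.ext h.symm), j.2⟩) hv)
  have hcom : ∀ W : S, Com N (π W) := fun W x hx => by
    apply Matrix.toLin'.injective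
    refine LinearMap.ext fun v => ?_
    obtain ⟨a, ha, b, hb, hab⟩ := Submodule.mem_sup.1 ((hsup W).ge (Submodule.mem_top : v ∈ ⊤))
    simp only [Matrix.toLin'_apply, ← Matrix.mulVec_mulVec, ← hab, Matrix.mulVec_add, hfix W a ha, hker W b hb,
      Matrix.mulVec_zero, hfix W _ ((hS1 W.1 W.2).2.1 x hx a ha), hker W _ (hUi W x hx b hb)]
  have htot : ∀ v, ∑ W : S, π W *ᵥ v = v := by
    intro v
    have hv : v ∈ S.sup id := hS2.ge Submodule.mem_top
    have hle : S.sup id ≤ LinearMap.eqLocus (Matrix.toLin' (∑ W : S, π W)) LinearMap.id := by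
      refine Finset.sup_le fun Y hY u hu => ?_
      rw [LinearMap.mem_eqLocus, Matrix.toLin'_apply, LinearMap.id_apply, Matrix.sum_mulVec,
        Finset.sum_eq_single (⟨Y, hY⟩ : S) (fun i _ hi => hkill i _ hi u hu)
          (fun h => absurd (Finset.mem_univ _) h), hfix ⟨Y, hY⟩ u hu]
    simpa [LinearMap.mem_eqLocus, Matrix.toLin'_apply, Matrix.sum_mulVec] using hle hv
  let ε := (Fintype.equivFin S).symm
  refine ⟨Fintype.card S, ?_, ⟨⟨fun i => (ε i).1, fun i => hS1 _ (ε i).2, fun i => π (ε i), fun i => hcom _,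
    fun i v => by rw [hπ]; exact SetLike.coe_mem _, fun i => hfix _, fun i j hij => hkill _ _ (by simpa using hij),
    fun v => by rw [ε.sum_comp (fun W => π W *ᵥ v)]; exact htot v⟩⟩⟩
  rw [Nat.one_le_iff_ne_zero, Fintype.card_coe]
  intro h
  rw [Finset.card_eq_zero.1 h, Finset.sup_empty] at hS2
  exact bot_ne_top hS2

/-- Simple subspaces linked by the commutant have the same hull; this also gives an inverse in the commutant. -/
theorem Frame.exists_inverse {σ : Type*} [Fintype σ] (fr : Frame N σ) {W : Submodule F (ι → F)} (hW : Simp N W)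
    (j : σ) {M : Matrix ι ι F} (hM : Com N M) (hle : ∀ v ∈ W, M *ᵥ v ∈ fr.W j) (h : ∃ v ∈ W, M *ᵥ v ≠ 0) :
    ∃ B : Matrix ι ι F, Com N B ∧ (∀ v, B *ᵥ v ∈ W) ∧ (∀ v ∈ W, B *ᵥ (M *ᵥ v) = v) ∧
      ∀ v, M *ᵥ (B *ᵥ v) = fr.π j *ᵥ v := by
  classical
  obtain ⟨hs, hi⟩ := hW.image_eq (fr.simp j) hM hle h
  let f : W →ₗ[F] fr.W j :=
    { toFun := fun v => ⟨M *ᵥ v.1, hle v.1 v.2⟩
      map_add' := fun a b => Subtype.ext (Matrix.mulVec_add _ _ _)
      map_smul' := fun c a => Subtype.ext (Matrix.mulVec_smul _ _ _) }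
  have hf : Function.Bijective f := ⟨(injective_iff_map_eq_zero f).2 fun v hv =>
    Subtype.ext (hi v.1 v.2 (congrArg Subtype.val hv)), fun u => by
    obtain ⟨v, hv, hvu⟩ := hs u.1 u.2
    exact ⟨⟨v, hv⟩, Subtype.ext hvu⟩⟩
  let g : (ι → F) →ₗ[F] (ι → F) := W.subtype.comp (((LinearEquiv.ofBijective f hf).symm : fr.W j →ₗ[F] W).comp
    ((Matrix.toLin' (fr.π j)).codRestrict (fr.W j) fun v => by rw [Matrix.toLin'_apply]; exact fr.mem j v))
  have hg0 : ∀ v, LinearMap.toMatrix' g *ᵥ v = g v := fun v => by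
    rw [← Matrix.toLin'_apply, Matrix.toLin'_toMatrix']
  have hg1 : ∀ v, g v ∈ W := fun v => SetLike.coe_mem _
  have hg2 : ∀ v, M *ᵥ g v = fr.π j *ᵥ v := fun v => by
    have := (LinearEquiv.ofBijective f hf).apply_symm_apply
      ((Matrix.toLin' (fr.π j)).codRestrict (fr.W j) (fun v => by rw [Matrix.toLin'_apply]; exact fr.mem j v) v)
    exact (congrArg Subtype.val this).trans (Matrix.toLin'_apply _ _)
  have huniq : ∀ a ∈ W, ∀ b ∈ W, M *ᵥ a = M *ᵥ b → a = b := fun a ha b hb hab =>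
    sub_eq_zero.1 (hi _ (W.sub_mem ha hb) (by rw [Matrix.mulVec_sub, hab, sub_self]))
  refine ⟨LinearMap.toMatrix' g, fun x hx => ?_, fun v => by rw [hg0]; exact hg1 v, fun v hv => ?_,
    fun v => by rw [hg0]; exact hg2 v⟩
  · apply Matrix.toLin'.injective
    refine LinearMap.ext fun v => ?_
    simp only [Matrix.toLin'_apply, ← Matrix.mulVec_mulVec, hg0]
    refine huniq _ (hg1 _) _ (hW.2.1 x hx _ (hg1 v)) ?_
    rw [hg2, Matrix.mulVec_mulVec, fr.com j x hx, ← Matrix.mulVec_mulVec, Matrix.mulVec_mulVec _ M,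
      hM x hx, ← Matrix.mulVec_mulVec, hg2]
  · rw [hg0]
    exact huniq _ (hg1 _) _ hv (by rw [hg2, fr.fix j _ (hle v hv)])

theorem Frame.hull_eq {σ : Type*} [Fintype σ] (fr : Frame N σ) {W : Submodule F (ι → F)} (hW : Simp N W)
    (j : σ) {M : Matrix ι ι F} (hM : Com N M) (hle : ∀ v ∈ W, M *ᵥ v ∈ fr.W j) (h : ∃ v ∈ W, M *ᵥ v ≠ 0) :
    hull N W = hull N (fr.W j) := by
  obtain ⟨B, hB, hB1, hB2, hB3⟩ := fr.exists_inverse hW j hM hle h
  refine le_antisymm (hull_mono fun v hv => ?_) (hull_mono fun u hu => ?_)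
  · rw [← hB2 v hv]
    exact mem_hull hB (hle v hv)
  · rw [← fr.fix j u hu, ← hB3 u]
    exact mem_hull hM (hB1 u)

theorem Frame.exists_proj {σ : Type*} [Fintype σ] (fr : Frame N σ) {v : ι → F} (hv : v ≠ 0) :
    ∃ j, fr.π j *ᵥ v ≠ 0 := by
  by_contra h
  push Not at h
  exact hv (by rw [← fr.total v]; exact Finset.sum_eq_zero fun i _ => h i)

theorem Frame.exists_hull_eq {σ : Type*} [Fintype σ] (fr : Frame N σ) {W : Submodule F (ι → F)} (hW : Simp N W) :
    ∃ j, hull N W = hull N (fr.W j) := by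
  obtain ⟨z, hz, hz0⟩ := Submodule.exists_mem_ne_zero_of_ne_bot hW.1
  obtain ⟨i, hi⟩ := fr.exists_proj hz0
  exact ⟨i, fr.hull_eq hW i (fr.com i) (fun v _ => fr.mem i v) ⟨z, hz, hi⟩⟩

theorem Frame.proj_hull {σ : Type*} [Fintype σ] (fr : Frame N σ) {W : Submodule F (ι → F)} (hW : Simp N W)
    {j : σ} (h : hull N W ≠ hull N (fr.W j)) {v : ι → F} (hv : v ∈ hull N W) : fr.π j *ᵥ v = 0 := by
  have : hull N W ≤ LinearMap.ker (Matrix.toLin' (fr.π j)) := hull_le fun M hM u hu => by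
    rw [LinearMap.mem_ker, Matrix.toLin'_apply]
    by_contra hne
    exact h (fr.hull_eq hW j ((fr.com j).mul hM) (fun w _ => by
      rw [← Matrix.mulVec_mulVec]; exact fr.mem j _) ⟨u, hu, by rwa [← Matrix.mulVec_mulVec]⟩)
  simpa [Matrix.toLin'_apply] using this hv

theorem hull_map (hn : Norms H N) {g : GL ι F} (hg : g ∈ H) (W : Submodule F (ι → F)) :
    (hull N W).map (Matrix.toLin' (g : Matrix ι ι F)) = hull N (W.map (Matrix.toLin' (g : Matrix ι ι F))) := by
  apply le_antisymm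
  · rw [Submodule.map_le_iff_le_comap]
    refine hull_le fun M hM v hv => ?_
    rw [Submodule.mem_comap, Matrix.toLin'_apply]
    have : (g : Matrix ι ι F) *ᵥ (M *ᵥ v) = cj g M *ᵥ ((g : Matrix ι ι F) *ᵥ v) := by
      simp [cj, Matrix.mulVec_mulVec, mul_assoc]
    rw [this]
    exact mem_hull (hn.com_cj hg hM) ⟨v, hv, Matrix.toLin'_apply _ _⟩
  · refine hull_le fun M hM => ?_
    rintro _ ⟨v, hv, rfl⟩
    refine ⟨cj g⁻¹ M *ᵥ v, mem_hull (hn.com_cj (H.inv_mem hg) hM) hv, ?_⟩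
    simp [Matrix.toLin'_apply, cj, Matrix.mulVec_mulVec, ← mul_assoc]

/-- More than one homogeneous component gives a permuted decomposition. -/
theorem imp_of_frame {e : ℕ} (hH : Irr H) (hn : Norms H N) [Nonempty ι] (fr : Frame N (Fin e))
    (h2 : ∃ i j, hull N (fr.W i) ≠ hull N (fr.W j)) :
    ∃ (t m : ℕ) (D : Fin t → Submodule F (ι → F)), IsMDecomposition m D ∧ H ≤ decompositionStabilizer D ∧
      (∀ M : Matrix ι ι F, Com N M → ∀ i, ∀ v ∈ D i, M *ᵥ v ∈ D i) ∧ ∀ i, Inv N (D i) := by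
  classical
  let S : Finset (Submodule F (ι → F)) := Finset.univ.image fun i => hull N (fr.W i)
  let ε := (Fintype.equivFin S).symm
  let D : Fin (Fintype.card S) → Submodule F (ι → F) := fun c => (ε c).1
  have hD : ∀ c, ∃ i, D c = hull N (fr.W i) := fun c => by
    obtain ⟨i, -, hi⟩ := Finset.mem_image.1 (ε c).2
    exact ⟨i, hi.symm⟩
  have hDinj : Function.Injective D := fun a b h => ε.injective (Subtype.ext h)
  have hDsurj : ∀ i, ∃ c, D c = hull N (fr.W i) := fun i =>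
    ⟨ε.symm ⟨_, Finset.mem_image.2 ⟨i, Finset.mem_univ _, rfl⟩⟩, by simp [D]⟩
  have htop : iSup D = ⊤ := by
    rw [eq_top_iff]
    intro v _
    rw [← fr.total v]
    refine Submodule.sum_mem _ fun i _ => ?_
    obtain ⟨c, hc⟩ := hDsurj i
    exact Submodule.mem_iSup_of_mem c (hc.ge (le_hull _ (fr.mem i v)))
  have hzero : ∀ c i, D c ≠ hull N (fr.W i) → ∀ v ∈ D c, fr.π i *ᵥ v = 0 := fun c i hci v hv => by
    obtain ⟨j, hj⟩ := hD c
    exact fr.proj_hull (fr.simp j) (hj ▸ hci) (hj ▸ hv)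
  have hind : iSupIndep D := by
    intro c
    rw [disjoint_iff, eq_bot_iff]
    rintro v ⟨hv1, hv2⟩
    rw [Submodule.mem_bot]
    by_contra hv0
    obtain ⟨i, hi⟩ := fr.exists_proj hv0
    by_cases hci : D c = hull N (fr.W i)
    · have hle : (⨆ (d) (_ : d ≠ c), D d) ≤ LinearMap.ker (Matrix.toLin' (fr.π i)) :=
        iSup₂_le fun d hdc u hu => by
          rw [LinearMap.mem_ker, Matrix.toLin'_apply]
          exact hzero d i (fun h => hdc (hDinj (h.trans hci.symm))) u hu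
      exact hi (by simpa [Matrix.toLin'_apply] using hle hv2)
    · exact hi (hzero c i hci v hv1)
  have hperm : ∀ g : H, ∀ c, ∃ d, (D c).map (Matrix.toLin' ((g : GL ι F) : Matrix ι ι F)) = D d := by
    intro g c
    obtain ⟨i, hi⟩ := hD c
    obtain ⟨j, hj⟩ := fr.exists_hull_eq ((fr.simp i).map hn g.2)
    obtain ⟨d, hd⟩ := hDsurj j
    exact ⟨d, by rw [hi, hull_map hn g.2, hj, hd]⟩
  choose τ hτ using hperm
  have hτinj : ∀ g : H, Function.Injective (τ g) := fun g a b h => hDinj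
    (Submodule.map_injective_of_injective (map_inj (g : GL ι F)) (by rw [hτ, hτ, h]))
  have hbot : ∀ c, D c ≠ ⊥ := fun c h => by
    obtain ⟨i, hi⟩ := hD c
    exact (fr.simp i).1 (le_bot_iff.1 ((le_hull _).trans (hi ▸ h).le))
  have hfin : ∀ c d, finrank F (D c) = finrank F (D d) := by
    intro c d
    by_contra hne
    obtain ⟨g, hg⟩ : ∃ g : H, τ g c = d := by
      by_contra hno
      push Not at hno
      have htop' := iSup_map_eq_top hH (hbot c)
      have hle : (⊤ : Submodule F (ι → F)) ≤ ⨆ (d') (_ : d' ≠ d), D d' := by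
        rw [← htop']
        exact iSup_le fun g => by rw [hτ]; exact le_iSup₂_of_le (τ g c) (hno g) le_rfl
      exact hbot d (disjoint_top.1 ((hind d).mono_right hle))
    exact hne (by rw [← hg, ← hτ]; exact (Submodule.equivMapOfInjective _ (map_inj (g : GL ι F)) _).finrank_eq)
  obtain ⟨i, j, hij⟩ := h2
  obtain ⟨c₀, hc₀⟩ := hDsurj i
  obtain ⟨d₀, hd₀⟩ := hDsurj j
  refine ⟨Fintype.card S, finrank F (D c₀), D, ⟨?_, ?_, fun c => hfin c c₀, hind, htop⟩, fun g hg => ?_, ?_, ?_⟩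
  · have hne : c₀ ≠ d₀ := fun h => hij (by rw [← hc₀, ← hd₀, h])
    have h1 := Fin.val_ne_of_ne hne
    have := c₀.isLt
    have := d₀.isLt
    omega
  · exact Nat.pos_of_ne_zero fun h => hbot c₀ (Submodule.finrank_eq_zero.1 h)
  · exact ⟨Equiv.ofBijective _ (Finite.injective_iff_bijective.1 (hτinj ⟨g, hg⟩)), fun c => hτ ⟨g, hg⟩ c⟩
  · intro M hM c v hv
    obtain ⟨k, hk⟩ := hD c
    rw [hk] at hv ⊢
    exact hull_com hM hv
  · intro c
    obtain ⟨k, hk⟩ := hD c
    rw [hk]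
    exact hull_inv (fr.simp k).2.1

theorem Com.zero : Com N (0 : Matrix ι ι F) := fun x _ => by rw [zero_mul, mul_zero]

theorem Com.smul {M : Matrix ι ι F} (h : Com N M) (c : F) : Com N (c • M) := fun x hx => by
  rw [Matrix.smul_mul, Matrix.mul_smul, h x hx]

theorem Com.sum {κ : Type*} {s : Finset κ} {f : κ → Matrix ι ι F} (h : ∀ i ∈ s, Com N (f i)) :
    Com N (∑ i ∈ s, f i) := fun x hx => by
  rw [Finset.sum_mul, Finset.mul_sum]
  exact Finset.sum_congr rfl fun i hi => h i hi x hx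

/-- The commutant as a subalgebra. -/
def comAlg (N : Subgroup (GL ι F)) : Subalgebra F (Matrix ι ι F) where
  carrier := {M | Com N M}
  mul_mem' := Com.mul
  add_mem' := Com.add
  algebraMap_mem' c := by
    rw [Algebra.algebraMap_eq_smul_one]
    exact com_one.smul c

/-- The centre of the commutant. -/
def centComAlg (N : Subgroup (GL ι F)) : Subalgebra F (Matrix ι ι F) :=
  comAlg N ⊓ Subalgebra.centralizer F (comAlg N : Set (Matrix ι ι F))

theorem mem_centComAlg {M : Matrix ι ι F} :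
    M ∈ centComAlg N ↔ Com N M ∧ ∀ M', Com N M' → M' * M = M * M' :=
  Iff.rfl

set_option synthInstance.maxHeartbeats 400000 in
set_option maxHeartbeats 1000000 in
theorem homog {e : ℕ} [Fintype F] (hn : Norms H N) [Nonempty ι] (fr : Frame N (Fin e)) (i₀ : Fin e)
    (h1 : ∀ i j, hull N (fr.W i) = hull N (fr.W j)) :
    (∃ K : Subalgebra F (Matrix ι ι F), (∀ x ∈ K, ∀ y ∈ K, x * y = y * x) ∧
        (∀ x ∈ K, x ≠ 0 → ∃ y ∈ K, x * y = 1) ∧ 2 ≤ finrank F K ∧
        (∀ k ∈ K, Com N k ∧ ∀ M, Com N M → M * k = k * M) ∧ centComAlg N ≤ K ∧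
        ∀ g ∈ H, ∀ k ∈ K, cj g k ∈ K) ∨
      Split N ∨ AI N := by
  classical
  -- links from the base subspace
  have hlink : ∀ i, ∃ A B : Matrix ι ι F, Com N A ∧ Com N B ∧ (∀ v, A *ᵥ v ∈ fr.W i) ∧
      (∀ v, B *ᵥ v ∈ fr.W i₀) ∧ (∀ v, B *ᵥ (A *ᵥ v) = fr.π i₀ *ᵥ v) ∧ ∀ v, A *ᵥ (B *ᵥ v) = fr.π i *ᵥ v := by
    intro i
    obtain ⟨M, hM, u, hu, hne⟩ : ∃ M, Com N M ∧ ∃ u ∈ fr.W i₀, fr.π i *ᵥ (M *ᵥ u) ≠ 0 := by
      by_contra hno
      push Not at hno
      have hle : hull N (fr.W i₀) ≤ LinearMap.ker (Matrix.toLin' (fr.π i)) := hull_le fun M hM u hu => by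
        rw [LinearMap.mem_ker, Matrix.toLin'_apply]; exact hno M hM u hu
      obtain ⟨w, hw, hw0⟩ := Submodule.exists_mem_ne_zero_of_ne_bot (fr.simp i).1
      have hm := hle ((h1 i₀ i).symm ▸ le_hull _ hw)
      rw [LinearMap.mem_ker, Matrix.toLin'_apply, fr.fix i w hw] at hm
      exact hw0 hm
    obtain ⟨B, hB, hB1, hB2, hB3⟩ := fr.exists_inverse (fr.simp i₀) i ((fr.com i).mul hM)
      (fun w _ => by rw [← Matrix.mulVec_mulVec]; exact fr.mem i _) ⟨u, hu, by rwa [← Matrix.mulVec_mulVec]⟩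
    refine ⟨fr.π i * M * fr.π i₀, B, ((fr.com i).mul hM).mul (fr.com i₀), hB, fun v => ?_, hB1, fun v => ?_,
      fun v => ?_⟩
    · rw [← Matrix.mulVec_mulVec, ← Matrix.mulVec_mulVec]; exact fr.mem i _
    · rw [← Matrix.mulVec_mulVec]; exact hB2 _ (fr.mem i₀ v)
    · rw [← Matrix.mulVec_mulVec, fr.fix i₀ _ (hB1 v), hB3]
  choose A B hA hB hAm hBm hBA hAB using hlink
  have hBA' : ∀ i, ∀ w ∈ fr.W i₀, B i *ᵥ (A i *ᵥ w) = w := fun i w hw => by rw [hBA, fr.fix i₀ w hw]
  have hsum : ∀ v, ∑ i, A i *ᵥ (B i *ᵥ v) = v := fun v => by simp only [hAB]; exact fr.total v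
  have hBkill : ∀ i j, i ≠ j → ∀ w ∈ fr.W i₀, B i *ᵥ (A j *ᵥ w) = 0 := fun i j hij w hw => by
    calc B i *ᵥ (A j *ᵥ w) = fr.π i₀ *ᵥ (B i *ᵥ (A j *ᵥ w)) := (fr.fix i₀ _ (hBm i _)).symm
      _ = B i *ᵥ (A i *ᵥ (B i *ᵥ (A j *ᵥ w))) := (hBA i _).symm
      _ = 0 := by rw [hAB, fr.kill i j hij _ (hAm j w), Matrix.mulVec_zero]
  -- invariance under the commutant leaves only the trivial subspaces
  have hbig : ∀ U : Submodule F (ι → F), Inv N U → (∀ M, Com N M → ∀ v ∈ U, M *ᵥ v ∈ U) → U = ⊥ ∨ U = ⊤ := by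
    intro U hU hC
    by_cases h0 : U = ⊥
    · exact Or.inl h0
    right
    obtain ⟨v, hv, hv0⟩ := Submodule.exists_mem_ne_zero_of_ne_bot h0
    obtain ⟨j, hj⟩ := fr.exists_proj hv0
    have hj' : fr.π j *ᵥ v ∈ U := hC _ (fr.com j) v hv
    have hWj : fr.W j ≤ U := by
      rcases (fr.simp j).2.2 (fr.W j ⊓ U) inf_le_left (fun x hx w hw =>
        ⟨(fr.simp j).2.1 x hx w hw.1, hU x hx w hw.2⟩) with h | h
      · exact absurd ((Submodule.mem_bot F).1 (h ▸ ⟨fr.mem j v, hj'⟩)) hj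
      · exact fun w hw => (h.ge hw).2
    rw [eq_top_iff]
    intro w _
    rw [← fr.total w]
    refine Submodule.sum_mem _ fun i _ => ?_
    have hh : hull N (fr.W j) ≤ U := hull_le fun M hM u hu => hC M hM u (hWj hu)
    exact hh (h1 i j ▸ le_hull _ (fr.mem i w))
  have hunit : ∀ z ∈ centComAlg N, z ≠ 0 → IsUnit z := by
    intro z hz hz0
    obtain ⟨hz1, hz2⟩ := mem_centComAlg.1 hz
    rcases hbig (LinearMap.ker (Matrix.toLin' z)) (fun x hx v hv => by
        rw [LinearMap.mem_ker, Matrix.toLin'_apply] at hv ⊢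
        rw [Matrix.mulVec_mulVec, hz1 x hx, ← Matrix.mulVec_mulVec, hv, Matrix.mulVec_zero]) (fun M hM v hv => by
        rw [LinearMap.mem_ker, Matrix.toLin'_apply] at hv ⊢
        rw [Matrix.mulVec_mulVec, ← hz2 M hM, ← Matrix.mulVec_mulVec, hv, Matrix.mulVec_zero]) with h | h
    · apply Matrix.mulVec_injective_iff_isUnit.1
      intro a b hab
      exact LinearMap.ker_eq_bot.1 h (by simpa [Matrix.toLin'_apply] using hab)
    · exact absurd (by simpa using congrArg LinearMap.toMatrix' (LinearMap.ker_eq_top.1 h)) hz0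
  by_cases hK : 2 ≤ finrank F (centComAlg N)
  · refine Or.inl ⟨centComAlg N, fun x hx y hy => (mem_centComAlg.1 hy).2 x (mem_centComAlg.1 hx).1,
      fun x hx hx0 => ?_, hK, fun k hk => mem_centComAlg.1 hk, le_rfl, fun g hg k hk => ?_⟩
    · obtain ⟨u, hu⟩ := hunit x hx hx0
      obtain ⟨hx1, hx2⟩ := mem_centComAlg.1 hx
      refine ⟨((u⁻¹ : (Matrix ι ι F)ˣ) : Matrix ι ι F), mem_centComAlg.2 ⟨fun y hy => ?_, fun M' hM' => ?_⟩,
        by rw [← hu, Units.mul_inv]⟩
      · exact ((show Commute (u : Matrix ι ι F) (y : Matrix ι ι F) from hu ▸ hx1 y hy).units_inv_left).eq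
      · exact ((show Commute (u : Matrix ι ι F) M' from hu ▸ (hx2 M' hM').symm).units_inv_left).eq.symm
    · obtain ⟨hk1, hk2⟩ := mem_centComAlg.1 hk
      refine mem_centComAlg.2 ⟨hn.com_cj hg hk1, fun M' hM' => ?_⟩
      rw [← cj_cj_inv g M', ← cj_mul, ← cj_mul, hk2 _ (hn.com_cj (H.inv_mem hg) hM')]
  right
  have hone : ∀ z, Com N z → (∀ M', Com N M' → M' * z = z * M') → ∃ c : F, z = c • (1 : Matrix ι ι F) := by
    intro z hz1 hz2
    have hz : z ∈ centComAlg N := mem_centComAlg.2 ⟨hz1, hz2⟩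
    by_contra hno
    push Not at hno
    apply hK
    let L : (Fin 2 → F) →ₗ[F] centComAlg N := Fintype.linearCombination F ![1, ⟨z, hz⟩]
    have hL : Function.Injective L := by
      refine (injective_iff_map_eq_zero L).2 fun c hc => ?_
      have hc' : c 0 • (1 : Matrix ι ι F) + c 1 • z = 0 := by
        simpa [L, Fintype.linearCombination_apply, Fin.sum_univ_two] using congrArg Subtype.val hc
      by_cases h1' : c 1 = 0
      · rw [h1', zero_smul, add_zero] at hc'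
        have h00 : c 0 = 0 := by
          obtain ⟨i⟩ := ‹Nonempty ι›
          simpa using congrFun (congrFun hc' i) i
        funext i; fin_cases i
        · exact h00
        · exact h1'
      · exfalso
        apply hno (-(c 1)⁻¹ * c 0)
        calc z = (c 1)⁻¹ • (c 1 • z) := by rw [smul_smul, inv_mul_cancel₀ h1', one_smul]
          _ = (c 1)⁻¹ • -(c 0 • (1 : Matrix ι ι F)) := by rw [eq_neg_of_add_eq_zero_right hc']
          _ = _ := by rw [smul_neg, smul_smul, ← neg_smul, neg_mul]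
    simpa using LinearMap.finrank_le_finrank_of_injective hL
  -- the endomorphisms of the base subspace commute
  let E : Subring (Module.End F (fr.W i₀)) :=
    { carrier := {f | ∀ (x : GL ι F) (hx : x ∈ N) (w : fr.W i₀),
        ((f ⟨(x : Matrix ι ι F) *ᵥ w.1, (fr.simp i₀).2.1 x hx w.1 w.2⟩ : fr.W i₀) : ι → F) =
          (x : Matrix ι ι F) *ᵥ (f w).1}
      mul_mem' := fun {f g} hf hg x hx w => by
        show ((f (g _) : fr.W i₀) : ι → F) = _
        rw [show g ⟨(x : Matrix ι ι F) *ᵥ w.1, (fr.simp i₀).2.1 x hx w.1 w.2⟩ =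
          ⟨(x : Matrix ι ι F) *ᵥ (g w).1, (fr.simp i₀).2.1 x hx _ (g w).2⟩ from Subtype.ext (hg x hx w)]
        exact hf x hx (g w)
      add_mem' := fun {f g} hf hg x hx w => by
        simp only [LinearMap.add_apply, Submodule.coe_add, hf x hx w, hg x hx w, Matrix.mulVec_add]
      one_mem' := fun x hx w => rfl
      zero_mem' := fun x hx w => by simp
      neg_mem' := fun {f} hf x hx w => by simp [hf x hx w, Matrix.mulVec_neg] }
  haveI : Finite (fr.W i₀) := inferInstance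
  haveI : Finite (Module.End F (fr.W i₀)) :=
    Finite.of_injective (fun f : Module.End F (fr.W i₀) => (f : fr.W i₀ → fr.W i₀)) DFunLike.coe_injective
  haveI : Nontrivial (fr.W i₀) := (Submodule.nontrivial_iff_ne_bot).2 (fr.simp i₀).1
  have hEinj : ∀ f ∈ E, f ≠ 0 → Function.Injective f := by
    intro f hf hf0
    rw [← LinearMap.ker_eq_bot]
    rcases (fr.simp i₀).2.2 ((LinearMap.ker f).map (fr.W i₀).subtype) (Submodule.map_subtype_le _ _) (by
      rintro x hx _ ⟨w, hw, rfl⟩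
      refine ⟨⟨(x : Matrix ι ι F) *ᵥ w.1, (fr.simp i₀).2.1 x hx w.1 w.2⟩, ?_, rfl⟩
      rw [SetLike.mem_coe, LinearMap.mem_ker] at hw ⊢
      exact Subtype.ext (by rw [hf x hx w, hw]; simp)) with h | h
    · exact Submodule.map_injective_of_injective Subtype.val_injective (h.trans (Submodule.map_bot _).symm)
    · exfalso
      apply hf0
      ext1 w
      obtain ⟨w', hw', he⟩ := h.ge w.2
      exact (Subtype.ext he : w' = w) ▸ hw'
  haveI : Nontrivial E := ⟨⟨0, 1, fun h => by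
    obtain ⟨w, hw⟩ := exists_ne (0 : fr.W i₀)
    exact hw (by simpa using (congrArg (fun f : E => (f : Module.End F (fr.W i₀)) w) h).symm)⟩⟩
  haveI : NoZeroDivisors E := ⟨fun {f g} hfg => by
    by_contra hcon
    push Not at hcon
    refine hcon.2 (Subtype.ext (LinearMap.ext fun w => hEinj f.1 f.2 (fun h => hcon.1 (Subtype.ext h)) ?_))
    rw [ZeroMemClass.coe_zero, LinearMap.zero_apply, map_zero]
    exact LinearMap.congr_fun (congrArg Subtype.val hfg) w⟩
  haveI : IsDomain E := NoZeroDivisors.to_isDomain E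
  have hEcomm : ∀ f g : E, f * g = g * f := (Finite.isDomain_to_isField E).mul_comm
  have hres : ∀ M, Com N M → ∀ i j, ∃ f : E, ∀ w : fr.W i₀, (f.1 w).1 = B i *ᵥ (M *ᵥ (A j *ᵥ w.1)) := by
    intro M hM i j
    have hC : Com N (B i * (M * A j)) := (hB i).mul (hM.mul (hA j))
    refine ⟨⟨{ toFun := fun w => ⟨B i *ᵥ (M *ᵥ (A j *ᵥ w.1)), hBm i _⟩
               map_add' := fun a b => Subtype.ext (by simp [Matrix.mulVec_add])
               map_smul' := fun c a => Subtype.ext (by simp [Matrix.mulVec_smul]) }, fun x hx w => ?_⟩, fun w => rfl⟩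
    show B i *ᵥ (M *ᵥ (A j *ᵥ ((x : Matrix ι ι F) *ᵥ w.1))) = (x : Matrix ι ι F) *ᵥ (B i *ᵥ (M *ᵥ (A j *ᵥ w.1)))
    simp only [Matrix.mulVec_mulVec]
    have := hC x hx
    simp only [mul_assoc] at this ⊢
    rw [this]
  choose res hres using hres
  have hexp : ∀ M (hM : Com N M) j (w : fr.W i₀),
      M *ᵥ (A j *ᵥ w.1) = ∑ i, A i *ᵥ ((res M hM i j).1 w).1 := fun M hM j w => by
    simp only [hres]
    exact (hsum _).symm
  have hscal : ∀ f : E, ∃ c : F, ∀ w : fr.W i₀, (f.1 w).1 = c • w.1 := by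
    intro f
    let φ : (ι → F) →ₗ[F] (ι → F) := (fr.W i₀).subtype.comp (f.1.comp
      ((Matrix.toLin' (fr.π i₀)).codRestrict (fr.W i₀) fun v => by rw [Matrix.toLin'_apply]; exact fr.mem i₀ v))
    set Φ := LinearMap.toMatrix' φ with hΦ
    have hφ : ∀ v, Φ *ᵥ v = (f.1 ⟨fr.π i₀ *ᵥ v, fr.mem i₀ v⟩).1 := fun v => by
      rw [hΦ, ← Matrix.toLin'_apply, Matrix.toLin'_toMatrix']
      show (f.1 _).1 = _
      congr 2
    have hΦc : Com N Φ := fun x hx => by
      apply Matrix.toLin'.injective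
      refine LinearMap.ext fun v => ?_
      simp only [Matrix.toLin'_apply, ← Matrix.mulVec_mulVec, hφ]
      rw [← f.2 x hx]
      congr 2
      exact Subtype.ext (by
        show fr.π i₀ *ᵥ ((x : Matrix ι ι F) *ᵥ v) = (x : Matrix ι ι F) *ᵥ (fr.π i₀ *ᵥ v)
        rw [Matrix.mulVec_mulVec, fr.com i₀ x hx, ← Matrix.mulVec_mulVec])
    clear_value Φ
    set D : Matrix ι ι F := ∑ i, A i * (Φ * B i) with hD
    clear_value D
    have hDA : ∀ j, ∀ w : fr.W i₀, D *ᵥ (A j *ᵥ w.1) = A j *ᵥ (f.1 w).1 := fun j w => by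
      rw [hD, Matrix.sum_mulVec]
      rw [Finset.sum_eq_single j (fun i _ hij => ?_) (fun h => absurd (Finset.mem_univ _) h)]
      · rw [← Matrix.mulVec_mulVec, ← Matrix.mulVec_mulVec, hBA' j w.1 w.2, hφ]
        congr 3
        exact Subtype.ext (fr.fix i₀ w.1 w.2)
      · rw [← Matrix.mulVec_mulVec, ← Matrix.mulVec_mulVec, hBkill i j hij w.1 w.2, Matrix.mulVec_zero,
          Matrix.mulVec_zero]
    obtain ⟨c, hc⟩ := hone D (by rw [hD]; exact Com.sum fun i _ => (hA i).mul (hΦc.mul (hB i))) (fun M' hM' => by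
      apply Matrix.toLin'.injective
      refine LinearMap.ext fun v => ?_
      rw [Matrix.toLin'_apply, Matrix.toLin'_apply, ← hsum v, Matrix.mulVec_sum, Matrix.mulVec_sum]
      refine Finset.sum_congr rfl fun j _ => ?_
      rw [← Matrix.mulVec_mulVec, ← Matrix.mulVec_mulVec, hDA j ⟨_, hBm j v⟩, hexp M' hM' j (f.1 ⟨_, hBm j v⟩),
        hexp M' hM' j ⟨_, hBm j v⟩, Matrix.mulVec_sum]
      refine Finset.sum_congr rfl fun i _ => ?_
      rw [hDA i]
      congr 1
      exact congrArg Subtype.val (LinearMap.congr_fun (congrArg Subtype.val (hEcomm (res M' hM' i j) f))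
        ⟨_, hBm j v⟩))
    refine ⟨c, fun w => ?_⟩
    have h3 := congrArg (B i₀ *ᵥ ·) (hDA i₀ w)
    rw [hc, Matrix.smul_mulVec, Matrix.one_mulVec, Matrix.mulVec_smul, hBA' i₀ w.1 w.2,
      hBA' i₀ _ (f.1 w).2] at h3
    exact h3.symm
  choose scal hscal using hscal
  -- coordinates
  let bw := Module.finBasis F (fr.W i₀)
  set a := finrank F (fr.W i₀) with ha
  let b : Fin a × Fin e → ι → F := fun p => A p.2 *ᵥ (bw p.1).1
  have hbi : ∀ (u : fr.W i₀) i, A i *ᵥ u.1 = ∑ k, bw.repr u k • b (k, i) := fun u i => by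
    conv_lhs => rw [← bw.sum_repr u]
    rw [Submodule.coe_sum, Matrix.mulVec_sum]
    simp [b, Matrix.mulVec_smul]
  have hli : LinearIndependent F b := by
    rw [Fintype.linearIndependent_iff]
    intro g hg p
    have h2 := congrArg (B p.2 *ᵥ ·) hg
    simp only [Matrix.mulVec_zero, Matrix.mulVec_sum, Fintype.sum_prod_type, Matrix.mulVec_smul] at h2
    rw [Finset.sum_comm, Finset.sum_eq_single p.2 (fun j _ hj => Finset.sum_eq_zero fun k _ => by
      rw [hBkill p.2 j (Ne.symm hj) _ (bw k).2, smul_zero]) (fun h => absurd (Finset.mem_univ _) h)] at h2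
    have h3 : ∀ k, B p.2 *ᵥ b (k, p.2) = (bw k).1 := fun k => hBA' p.2 _ (bw k).2
    simp only [h3] at h2
    exact Fintype.linearIndependent_iff.1 bw.linearIndependent (fun k => g (k, p.2))
      (Subtype.ext (by simpa [Submodule.coe_sum] using h2)) p.1
  have hsp : ⊤ ≤ Submodule.span F (Set.range b) := fun v _ => by
    rw [← hsum v]
    refine Submodule.sum_mem _ fun i _ => ?_
    rw [hbi ⟨_, hBm i v⟩ i]
    exact Submodule.sum_mem _ fun k _ => Submodule.smul_mem _ _ (Submodule.subset_span ⟨_, rfl⟩)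
  let bV := Module.Basis.mk hli hsp
  let ε : ι ≃ Fin a × Fin e := (Pi.basisFun F ι).indexEquiv bV
  let Q : Matrix ι ι F := Matrix.of fun r j => b (ε j) r
  have hQ : IsUnit Q := Matrix.linearIndependent_cols_iff_isUnit.1 (hli.comp ε ε.injective)
  let P : GL ι F := hQ.unit
  have hP : ∀ j r, (P : Matrix ι ι F) r j = b (ε j) r := fun j r => rfl
  have hcomco : ∀ M, Com N M → ∃ C : Matrix (Fin e) (Fin e) F,
      M = co ε P ((1 : Matrix (Fin a) (Fin a) F) ⊗ₖ C) := by
    intro M hM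
    refine ⟨Matrix.of fun i j => scal (res M hM i j), eq_co hP fun l => ?_⟩
    obtain ⟨k, j⟩ := l
    rw [hexp M hM j (bw k), Fintype.sum_prod_type]
    rw [Finset.sum_eq_single k (fun k' _ hk' => Finset.sum_eq_zero fun i _ => by simp [hk'])
      (fun h => absurd (Finset.mem_univ _) h)]
    refine Finset.sum_congr rfl fun i _ => ?_
    rw [hscal, Matrix.mulVec_smul]
    simp [b]
  by_cases he : 2 ≤ e
  · left
    refine ⟨a, e, ε, P, he, fun x hx => ?_, fun M => ⟨hcomco M, ?_⟩⟩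
    · refine ⟨Matrix.of fun l k => bw.repr ⟨_, (fr.simp i₀).2.1 x hx _ (bw k).2⟩ l, eq_co hP fun l => ?_⟩
      obtain ⟨k, j⟩ := l
      have : (x : Matrix ι ι F) *ᵥ b (k, j) = A j *ᵥ ((x : Matrix ι ι F) *ᵥ (bw k).1) := by
        simp only [b, Matrix.mulVec_mulVec, hA j x hx]
      rw [this, hbi ⟨_, (fr.simp i₀).2.1 x hx _ (bw k).2⟩ j, Fintype.sum_prod_type]
      refine Finset.sum_congr rfl fun l _ => ?_
      rw [Finset.sum_eq_single j (fun i _ hi => by simp [hi]) (fun h => absurd (Finset.mem_univ _) h)]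
      simp
    · rintro ⟨C, rfl⟩ x hx
      have hxe : (x : Matrix ι ι F) = co ε P ((Matrix.of fun l k =>
          bw.repr ⟨_, (fr.simp i₀).2.1 x hx _ (bw k).2⟩ l) ⊗ₖ (1 : Matrix (Fin e) (Fin e) F)) := by
        refine eq_co hP fun l => ?_
        obtain ⟨k, j⟩ := l
        have : (x : Matrix ι ι F) *ᵥ b (k, j) = A j *ᵥ ((x : Matrix ι ι F) *ᵥ (bw k).1) := by
          simp only [b, Matrix.mulVec_mulVec, hA j x hx]
        rw [this, hbi ⟨_, (fr.simp i₀).2.1 x hx _ (bw k).2⟩ j, Fintype.sum_prod_type]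
        refine Finset.sum_congr rfl fun l _ => ?_
        rw [Finset.sum_eq_single j (fun i _ hi => by simp [hi]) (fun h => absurd (Finset.mem_univ _) h)]
        simp
      rw [hxe, ← co_mul, ← co_mul, ← Matrix.mul_kronecker_mul, ← Matrix.mul_kronecker_mul]
      simp
  · right
    have he1 : e = 1 := by have := i₀.isLt; omega
    subst he1
    have hone' : ∀ M, Com N M → ∃ c : F, M = c • (1 : Matrix ι ι F) := by
      intro M hM
      obtain ⟨C, rfl⟩ := hcomco M hM
      have hC : C = C 0 0 • (1 : Matrix (Fin 1) (Fin 1) F) := by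
        ext i j
        rw [Subsingleton.elim i 0, Subsingleton.elim j 0]
        simp
      refine ⟨C 0 0, ?_⟩
      rw [hC, Matrix.kronecker_smul, Matrix.one_kronecker_one, co_smul, co_one]
      simp
    refine ai_of (irr_iff.2 fun U hU => hbig U hU fun M hM v hv => ?_) hone'
    obtain ⟨c, rfl⟩ := hone' M hM
    rw [Matrix.smul_mulVec, Matrix.one_mulVec]
    exact U.smul_mem _ hv

/-- Clifford's theorem in the form used for the geometric classes. -/
theorem clifford [Fintype F] [Nonempty ι] (hH : Irr H) (hn : Norms H N) :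
    (∃ (t m : ℕ) (D : Fin t → Submodule F (ι → F)), IsMDecomposition m D ∧ H ≤ decompositionStabilizer D ∧
      (∀ M : Matrix ι ι F, Com N M → ∀ i, ∀ v ∈ D i, M *ᵥ v ∈ D i) ∧ ∀ i, Inv N (D i)) ∨
    (∃ K : Subalgebra F (Matrix ι ι F), (∀ x ∈ K, ∀ y ∈ K, x * y = y * x) ∧
        (∀ x ∈ K, x ≠ 0 → ∃ y ∈ K, x * y = 1) ∧ 2 ≤ finrank F K ∧
        (∀ k ∈ K, Com N k ∧ ∀ M, Com N M → M * k = k * M) ∧ centComAlg N ≤ K ∧
        ∀ g ∈ H, ∀ k ∈ K, cj g k ∈ K) ∨
    Split N ∨ AI N := by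
  obtain ⟨e, he, ⟨fr⟩⟩ := exists_frame hH hn
  by_cases h2 : ∃ i j, hull N (fr.W i) ≠ hull N (fr.W j)
  · exact Or.inl (imp_of_frame hH hn fr h2)
  · push Not at h2
    exact Or.inr (homog hn fr ⟨0, he⟩ h2)

end Cfsg.Agent.Classical.Asch
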