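import Cfsg.Agent.Lib.Classical.AschFormResidual
import Cfsg.Agent.S0144

/-!
Shared facts for reading off the classes from the outcomes for groups of isometries.
-/

set_option autoImplicit false
set_option linter.unusedSectionVars false
set_option linter.unusedFintypeInType false
set_option linter.unusedDecidableInType false

namespace Cfsg.Agent.Classical.Asch

open Matrix Module Cfsg.Geo
open scoped Kronecker Pointwise commutatorElement

variable {F : Type*} [Field F] {ι : Type} [Fintype ι] [DecidableEq ι] {σ : F ≃+* F} {G : Matrix ι ι F}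

theorem gram_formOfGram (σ : F ≃+* F) (G : Matrix ι ι F) : gramMatrix (formOfGram σ G) = G := by
  ext a b
  exact formOfGram_single σ G a b

/-- A soluble group has no non-scalar subgroup which is perfect modulo scalars. -/
theorem le_scalars_of_solvable {T : Subgroup (GL ι F)} (hperf : T ≤ ⁅T, T⁆ ⊔ scalars ι F)
    (hs : Group.IsSolvable T) : T ≤ scalars ι F := by
  obtain ⟨n, hn⟩ := (Group.isSolvable_def T).1 hs
  have key : ∀ k, T ≤ (derivedSeries T k).map T.subtype ⊔ scalars ι F := by
    intro k
    induction k with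
    | zero =>
      rw [derivedSeries_zero, ← MonoidHom.range_eq_map, Subgroup.range_subtype]
      exact le_sup_left
    | succ k ih =>
      refine hperf.trans (sup_le ?_ le_sup_right)
      refine ((Subgroup.commutator_mono ih ih).trans ((commutator_sup_scalars_le _).trans ?_)).trans le_sup_left
      rw [derivedSeries_succ, Subgroup.map_commutator]
  have h := key n
  rwa [hn, Subgroup.map_bot, bot_sup_eq] at h

/-- The factors of a family do not embed in a soluble group. -/
theorem family_not_solvable {H N : Subgroup (GL ι F)} {k : ℕ} {T : Fin k → Subgroup (GL ι F)}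
    (hT : Family H N T) (i : Fin k) {L : Type*} [Group L] (hL : Group.IsSolvable L) (φ : T i →* L)
    (hφ : Function.Injective φ) : False :=
  hT.not_scalar i (le_scalars_of_solvable (hT.perfect i) (by
    haveI := hL
    exact solvable_of_solvable_injective hφ))

theorem solvable_gl2_three [Fintype F] (h : Fintype.card F = 3) : Group.IsSolvable (GL (Fin 2) F) := by
  refine Cfsg.Agent.S0144.result 2 3 4 1 Nat.prime_two Nat.prime_three ?_
  rw [Matrix.card_GL_field, h, Fin.prod_univ_two]
  norm_num

/-- Transporting a coordinate action. -/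
theorem coords_mulVec {κ : Type} [Fintype κ] [DecidableEq κ] (e : ι ≃ κ) (P : GL ι F) (M : Matrix κ κ F) (v : ι → F) :
    (((P⁻¹ : GL ι F) : Matrix ι ι F) *ᵥ (co e P M *ᵥ v)) ∘ e.symm =
      M *ᵥ ((((P⁻¹ : GL ι F) : Matrix ι ι F) *ᵥ v) ∘ e.symm) := by
  rw [co, cj, Matrix.mulVec_mulVec, ← mul_assoc, ← mul_assoc, Units.inv_mul, one_mul, ← Matrix.mulVec_mulVec]
  rw [Matrix.reindexAlgEquiv_apply, Matrix.reindex_apply, Equiv.symm_symm, Matrix.submatrix_mulVec_equiv]
  funext x
  simp

/-- A group acting monomially on the kernel of a functional of one tensor factor is reducible. -/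
theorem not_irr_of_functional {a b : ℕ} (e : ι ≃ Fin a × Fin b) (P : GL ι F) {H : Subgroup (GL ι F)}
    (ha : 0 < a) (hb : 2 ≤ b) {w : Fin b → F} (hw : w ≠ 0)
    (h : ∀ g ∈ H, ∃ (A : Matrix (Fin a) (Fin a) F) (B : Matrix (Fin b) (Fin b) F) (l : F),
      (g : Matrix ι ι F) = co e P (A ⊗ₖ B) ∧ w ᵥ* B = l • w) : ¬ Irr H := by
  intro hirr
  let Φ : (ι → F) →ₗ[F] (Fin a → F) :=
    { toFun := fun v p => ∑ s, w s * ((((P⁻¹ : GL ι F) : Matrix ι ι F) *ᵥ v) ∘ e.symm) (p, s)
      map_add' := fun u v => by
        funext p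
        simp [Matrix.mulVec_add, mul_add, Finset.sum_add_distrib]
      map_smul' := fun c u => by
        funext p
        simp [Matrix.mulVec_smul, Finset.mul_sum, mul_left_comm] }
  have hinv : ∀ g ∈ H, ∀ v, Φ v = 0 → Φ ((g : Matrix ι ι F) *ᵥ v) = 0 := by
    intro g hg v hv
    obtain ⟨A, B, l, hg', hl⟩ := h g hg
    funext p
    show ∑ s, w s * _ = _
    rw [hg', coords_mulVec]
    set z := (((P⁻¹ : GL ι F) : Matrix ι ι F) *ᵥ v) ∘ e.symm with hz
    have hz0 : ∀ p', ∑ t, w t * z (p', t) = 0 := fun p' => congrFun hv p'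
    have hl' : ∀ t, ∑ s, w s * B s t = l * w t := fun t => congrFun hl t
    calc ∑ s, w s * ((A ⊗ₖ B) *ᵥ z) (p, s) = ∑ p', A p p' * ∑ t, (∑ s, w s * B s t) * z (p', t) := by
          simp only [Matrix.mulVec, dotProduct, Fintype.sum_prod_type, Matrix.kroneckerMap_apply, Finset.mul_sum,
            Finset.sum_mul]
          rw [Finset.sum_comm]
          refine Finset.sum_congr rfl fun p' _ => ?_
          rw [Finset.sum_comm]
          exact Finset.sum_congr rfl fun t _ => Finset.sum_congr rfl fun s _ => by ring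
      _ = 0 := by
          simp only [hl', mul_assoc, ← Finset.mul_sum, hz0, mul_zero, Finset.sum_const_zero]
  rcases irr_iff.1 hirr (LinearMap.ker Φ) (fun g hg v hv => hinv g hg v hv) with hker | hker
  · have h1 := LinearMap.finrank_range_add_finrank_ker Φ
    rw [hker, finrank_bot, Module.finrank_fintype_fun_eq_card, card_of_equiv e] at h1
    have h2 := Submodule.finrank_le (LinearMap.range Φ)
    rw [Module.finrank_fintype_fun_eq_card, Fintype.card_fin] at h2
    nlinarith
  · obtain ⟨s, hs⟩ : ∃ s, w s ≠ 0 := by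
      by_contra hno
      push Not at hno
      exact hw (funext hno)
    let z : Fin a × Fin b → F := Pi.single (⟨0, ha⟩, s) 1
    have h1 : Φ ((P : Matrix ι ι F) *ᵥ (z ∘ e)) = 0 := by
      rw [LinearMap.ker_eq_top] at hker
      rw [hker]; rfl
    have h2 := congrFun h1 ⟨0, ha⟩
    change ∑ t, w t * _ = (0 : F) at h2
    rw [Matrix.mulVec_mulVec, Units.inv_mul, Matrix.one_mulVec, Finset.sum_eq_single s (fun t _ ht => by
      simp [z, Pi.single_apply, ht]) (fun h => absurd (Finset.mem_univ _) h)] at h2
    exact hs (by simpa [z] using h2)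

/-- In characteristic two the isotropic vectors of a symmetric form with non-zero diagonal form a hyperplane. -/
theorem exists_diag_functional [Fintype F] (h2 : (2 : F) = 0) {b : ℕ} {D : Matrix (Fin b) (Fin b) F}
    (hsym : ∀ s t, D s t = D t s) (hD : ¬ ∀ s, D s s = 0) :
    ∃ w : Fin b → F, w ≠ 0 ∧ ∀ (B : Matrix (Fin b) (Fin b) F) (c : F), Bᵀ * (D * B) = c • D →
      ∃ l : F, w ᵥ* B = l • w := by
  haveI : Fact (Nat.Prime 2) := ⟨Nat.prime_two⟩
  haveI : CharP F 2 := CharTwo.of_one_ne_zero_of_two_eq_zero one_ne_zero h2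
  have hsur : ∀ x : F, ∃ y, y * y = x := fun x => by
    obtain ⟨y, hy⟩ := FiniteField.isSquare_of_char_two (ringChar.eq F 2) x
    exact ⟨y, hy.symm⟩
  have hinj : ∀ x y : F, x * x = y * y → x = y := fun x y h => by
    have : (x - y) * (x - y) = 0 := by linear_combination h + (y * y - x * y) * h2
    exact sub_eq_zero.1 (mul_self_eq_zero.1 this)
  choose w hw using fun s => hsur (D s s)
  refine ⟨w, fun h => hD fun s => by rw [← hw, h]; exact mul_zero 0, fun B c hB => ?_⟩
  obtain ⟨l, hl⟩ := hsur c
  refine ⟨l, funext fun t => hinj _ _ ?_⟩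
  -- compare the diagonal entries
  have h1 := congrFun (congrFun hB t) t
  simp only [Matrix.mul_apply, Matrix.transpose_apply, Matrix.smul_apply, smul_eq_mul] at h1
  have h3 : ∑ s, B s t * ∑ u, D s u * B u t = ∑ s, D s s * (B s t * B s t) := by
    simp only [Finset.mul_sum]
    rw [← Fintype.sum_prod_type (f := fun p : Fin b × Fin b => B p.1 t * (D p.1 p.2 * B p.2 t))]
    have : ∀ S : Fin b → Fin b → F, (∀ x y, S x y = S y x) → ∑ p : Fin b × Fin b, S p.1 p.2 = ∑ s, S s s := by
      intro S hS
      rw [← Finset.sum_filter_add_sum_filter_not Finset.univ (fun p : Fin b × Fin b => p.1 = p.2)]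
      have ho : ∑ p ∈ Finset.univ.filter (fun p : Fin b × Fin b => ¬ p.1 = p.2), S p.1 p.2 = 0 := by
        refine Finset.sum_involution (fun p _ => (p.2, p.1)) (fun p _ => ?_) (fun p hp _ h => ?_)
          (fun p hp => ?_) fun p _ => rfl
        · rw [hS p.2 p.1, ← two_mul, h2, zero_mul]
        · exact (Finset.mem_filter.1 hp).2 (congrArg Prod.fst h).symm
        · simp only [Finset.mem_filter, Finset.mem_univ, true_and] at hp ⊢
          exact fun h => hp h.symm
      rw [ho, add_zero]
      exact Finset.sum_bij (fun p _ => p.1) (fun _ _ => Finset.mem_univ _) (fun p hp p' hp' h => Prod.ext h (by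
          rw [← (Finset.mem_filter.1 hp).2, ← (Finset.mem_filter.1 hp').2, h]))
        (fun s _ => ⟨(s, s), by simp, rfl⟩) fun p hp => by rw [← (Finset.mem_filter.1 hp).2]
    rw [this (fun x y => B x t * (D x y * B y t)) fun x y => by rw [hsym x y]; ring]
    exact Finset.sum_congr rfl fun s _ => by ring
  rw [h3] at h1
  have h4 : (∑ s, w s * B s t) * (∑ s, w s * B s t) = ∑ s, D s s * (B s t * B s t) := by
    rw [← pow_two, sum_pow_char]
    exact Finset.sum_congr rfl fun s _ => by rw [← hw]; ring
  show (∑ s, w s * B s t) * (∑ s, w s * B s t) = (l * w t) * (l * w t)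
  rw [h4, h1, ← hl, ← hw]
  ring

end Cfsg.Agent.Classical.Asch
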