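import Cfsg.Agent.Lib.Classical.AschFormTensor

/-!
Quadratic forms preserved by symplectic groups in characteristic two: tensor decompositions and fixed forms.
-/

set_option autoImplicit false
set_option linter.unusedSectionVars false
set_option linter.unusedFintypeInType false
set_option linter.unusedDecidableInType false

namespace Cfsg.Agent.Classical.Asch

open Matrix Module Cfsg.Geo
open scoped Kronecker

variable {F : Type*} [Field F] {ι : Type} [Fintype ι] [DecidableEq ι] {G : Matrix ι ι F}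

/-- The map scaling by squares is additive once two forms have the same polarisation. -/
theorem sub_semilinear {Q Q' : (ι → F) → F} (hQ : ∀ (c : F) v, Q (c • v) = c ^ 2 * Q v)
    (hQ' : ∀ (c : F) v, Q' (c • v) = c ^ 2 * Q' v)
    (hpol : ∀ u v, QuadraticMap.polar Q' u v = QuadraticMap.polar Q u v) :
    (∀ u v, (Q' (u + v) - Q (u + v)) = (Q' u - Q u) + (Q' v - Q v)) ∧
      ∀ (c : F) v, Q' (c • v) - Q (c • v) = c ^ 2 * (Q' v - Q v) := by
  refine ⟨fun u v => ?_, fun c v => by rw [hQ, hQ']; ring⟩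
  have := hpol u v
  simp only [QuadraticMap.polar] at this
  linear_combination this

theorem polar_comp {Q : (ι → F) → F} {g : GL ι F} {H : Subgroup (GL ι F)}
    (hH : Fix (RingEquiv.refl F) H G) (hg : g ∈ H)
    (hpol : ∀ u v, QuadraticMap.polar Q u v = formOfGram (RingEquiv.refl F) G u v) (u v : ι → F) :
    QuadraticMap.polar (fun w => Q ((g : Matrix ι ι F) *ᵥ w)) u v = QuadraticMap.polar Q u v := by
  have h1 : QuadraticMap.polar (fun w => Q ((g : Matrix ι ι F) *ᵥ w)) u v =
      QuadraticMap.polar Q ((g : Matrix ι ι F) *ᵥ u) ((g : Matrix ι ι F) *ᵥ v) := by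
    simp [QuadraticMap.polar, Matrix.mulVec_add]
  rw [h1, hpol, hpol, formOfGram_mulVec, hH g hg]

/-- A form vanishing on a spanning set preserved by the group. -/
theorem quad_of_vanishing (hG : Refl (RingEquiv.refl F) G) {H : Subgroup (GL ι F)}
    (hH : Fix (RingEquiv.refl F) H G) {Q : (ι → F) → F} (hQ : ∀ (c : F) v, Q (c • v) = c ^ 2 * Q v)
    (hpol : ∀ u v, QuadraticMap.polar Q u v = formOfGram (RingEquiv.refl F) G u v)
    {S : Set (ι → F)} (hS : Submodule.span F S = ⊤) (h0 : ∀ v ∈ S, Q v = 0)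
    (hstab : ∀ g ∈ H, ∀ v ∈ S, (g : Matrix ι ι F) *ᵥ v ∈ S) : QuadCase G H := by
  have hfun : QuadraticMap.polar Q = formOfGram (RingEquiv.refl F) G := funext₂ hpol
  have hs := sesq_formOfGram (RingEquiv.refl F) G
  refine ⟨Q, ⟨hQ, by rw [hfun]; exact ⟨hs.add_left, hs.smul_left, hs.add_right, hs.smul_right⟩,
    by rw [hfun]; exact hG.nondeg⟩, hpol, fun g hg => ⟨1, fun v => ?_⟩⟩
  rw [Units.val_one, one_mul]
  have hQ' : ∀ (c : F) v, Q ((g : Matrix ι ι F) *ᵥ (c • v)) = c ^ 2 * Q ((g : Matrix ι ι F) *ᵥ v) := fun c v => by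
    rw [Matrix.mulVec_smul, hQ]
  obtain ⟨hadd, hsmul⟩ := sub_semilinear (Q' := fun w => Q ((g : Matrix ι ι F) *ᵥ w)) hQ hQ' (polar_comp hH hg hpol)
  suffices h : Q ((g : Matrix ι ι F) *ᵥ v) - Q v = 0 from sub_eq_zero.1 h
  have hv : v ∈ Submodule.span F S := hS ▸ Submodule.mem_top
  induction hv using Submodule.span_induction with
  | mem x hx => rw [h0 x hx, h0 _ (hstab g hg x hx), sub_zero]
  | zero => have := hsmul 0 0; simpa using this
  | add x y _ _ ha hb => rw [show Q ((g : Matrix ι ι F) *ᵥ (x + y)) - Q (x + y) = _ from hadd x y, ha, hb, add_zero]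
  | smul c x _ ha => rw [show Q ((g : Matrix ι ι F) *ᵥ (c • x)) - Q (c • x) = _ from hsmul c x, ha, mul_zero]

/-- Cancellation in pairs. -/
theorem sum_pairs_zero (h2 : (2 : F) = 0) {κ : Type} [Fintype κ] [DecidableEq κ] (ord : κ ≃ Fin (Fintype.card κ))
    (T : κ → κ → F) (hT : ∀ x y, T x y = T y x) (sw : κ → κ → κ × κ)
    (hswap : ∀ x y, sw y x = (sw x y).swap) (hinv : ∀ x y, sw (sw x y).1 (sw x y).2 = (x, y))
    (hne : ∀ x y, T x y ≠ 0 → sw x y ≠ (x, y) ∧ sw x y ≠ (y, x) ∧ (sw x y).1 ≠ (sw x y).2)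
    (hval : ∀ x y, T x y ≠ 0 → T (sw x y).1 (sw x y).2 = T x y) :
    ∑ p ∈ Finset.univ.filter (fun p : κ × κ => ord p.1 < ord p.2), T p.1 p.2 = 0 := by
  classical
  let srt : κ × κ → κ × κ := fun p => if ord p.1 < ord p.2 then p else p.swap
  rw [← Finset.sum_filter_add_sum_filter_not _ (fun p : κ × κ => T p.1 p.2 ≠ 0)]
  rw [Finset.sum_eq_zero (s := Finset.filter (fun p : κ × κ => ¬ T p.1 p.2 ≠ 0) _) (fun p hp => by
    simpa using (Finset.mem_filter.1 hp).2), add_zero]
  have hsrtT : ∀ p : κ × κ, T (srt p).1 (srt p).2 = T p.1 p.2 := fun p => by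
    simp only [srt]; split
    · rfl
    · exact hT _ _
  refine Finset.sum_involution (fun p _ => srt (sw p.1 p.2)) (fun p hp => ?_) (fun p hp _ => ?_)
    (fun p hp => ?_) (fun p hp => ?_)
  · obtain ⟨-, hp0⟩ := Finset.mem_filter.1 hp
    rw [hsrtT, hval _ _ hp0, ← two_mul, h2, zero_mul]
  · obtain ⟨hp1, hp0⟩ := Finset.mem_filter.1 hp
    obtain ⟨e1, e2, -⟩ := hne _ _ hp0
    simp only [srt]; split
    · exact e1
    · intro h; apply e2
      rw [← Prod.swap_swap (sw p.1 p.2), h]
      rfl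
  · obtain ⟨-, hp0⟩ := Finset.mem_filter.1 hp
    obtain ⟨-, -, e3⟩ := hne _ _ hp0
    simp only [Finset.mem_filter, Finset.mem_univ, true_and]
    refine ⟨?_, by rw [hsrtT, hval _ _ hp0]; exact hp0⟩
    simp only [srt]; split
    · assumption
    · rename_i h
      exact lt_of_le_of_ne (not_lt.1 h) fun h' => e3 (ord.injective h').symm
  · obtain ⟨hp1, -⟩ := Finset.mem_filter.1 hp
    obtain ⟨-, hlt⟩ := Finset.mem_filter.1 hp1
    have hq : sw (srt (sw p.1 p.2)).1 (srt (sw p.1 p.2)).2 = p ∨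
        sw (srt (sw p.1 p.2)).1 (srt (sw p.1 p.2)).2 = p.swap := by
      simp only [srt]; split
      · exact Or.inl (hinv _ _)
      · refine Or.inr ?_
        rw [Prod.fst_swap, Prod.snd_swap, hswap, hinv]
    rcases hq with h | h <;> simp only [h, srt]
    · rw [if_pos hlt]
    · rw [if_neg (by simpa using hlt.le), Prod.swap_swap]

/-- A quadratic form from an alternating Gram matrix in characteristic two. -/
theorem exists_coord_quad (h2 : (2 : F) = 0) {κ : Type} [Fintype κ] [DecidableEq κ] {J : Matrix κ κ F}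
    (hsymm : ∀ x y, J x y = J y x) (hdiag : ∀ x, J x x = 0) :
    ∃ (ord : κ ≃ Fin (Fintype.card κ)) (q : (κ → F) → F), (∀ (c : F) z, q (c • z) = c ^ 2 * q z) ∧
      (∀ z w, QuadraticMap.polar q z w = formOfGram (RingEquiv.refl F) J z w) ∧
      ∀ z, q z = ∑ p ∈ Finset.univ.filter (fun p : κ × κ => ord p.1 < ord p.2), z p.1 * z p.2 * J p.1 p.2 := by
  classical
  let ord := Fintype.equivFin κ
  let s := Finset.univ.filter (fun p : κ × κ => ord p.1 < ord p.2)
  refine ⟨ord, fun z => ∑ p ∈ s, z p.1 * z p.2 * J p.1 p.2, fun c z => ?_, fun z w => ?_, fun z => rfl⟩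
  · rw [Finset.mul_sum]
    refine Finset.sum_congr rfl fun p _ => ?_
    simp only [Pi.smul_apply, smul_eq_mul]
    ring
  · simp only [QuadraticMap.polar, formOfGram, RingEquiv.refl_apply]
    rw [← Fintype.sum_prod_type' (f := fun a b => z a * J a b * w b),
      ← Finset.sum_filter_add_sum_filter_not Finset.univ (fun p : κ × κ => ord p.1 < ord p.2)]
    rw [← Finset.sum_sub_distrib, ← Finset.sum_sub_distrib]
    have hge : ∑ p ∈ Finset.univ.filter (fun p : κ × κ => ¬ ord p.1 < ord p.2), z p.1 * J p.1 p.2 * w p.2 =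
        ∑ p ∈ s, z p.2 * J p.2 p.1 * w p.1 := by
      rw [← Finset.sum_filter_add_sum_filter_not _ (fun p : κ × κ => p.1 = p.2), Finset.sum_eq_zero
        (s := Finset.filter (fun p : κ × κ => p.1 = p.2) _) (fun p hp => by
          rw [(Finset.mem_filter.1 hp).2, hdiag, mul_zero, zero_mul]), zero_add]
      refine Finset.sum_bij' (fun p _ => p.swap) (fun p _ => p.swap) (fun p hp => ?_) (fun p hp => ?_)
        (fun p _ => Prod.swap_swap p) (fun p _ => Prod.swap_swap p) (fun p _ => rfl)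
      · simp only [s, Finset.mem_filter, Finset.mem_univ, true_and, Prod.fst_swap, Prod.snd_swap] at hp ⊢
        exact lt_of_le_of_ne (not_lt.1 hp.1) fun h => hp.2 (ord.injective h).symm
      · simp only [s, Finset.mem_filter, Finset.mem_univ, true_and, Prod.fst_swap, Prod.snd_swap] at hp ⊢
        exact ⟨not_lt.2 hp.le, fun h => hp.ne (congrArg ord h.symm)⟩
    rw [hge, ← Finset.sum_add_distrib]
    refine Finset.sum_congr rfl fun p _ => ?_
    simp only [Pi.add_apply]
    rw [hsymm p.2 p.1]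
    ring

/-- A quadratic form from a system of vectors of the coordinates on which the coordinate form vanishes. -/
theorem quad_of_coords [Fintype F] (hG : Refl (RingEquiv.refl F) G) (h2 : (2 : F) = 0)
    (halt : ∀ u, formOfGram (RingEquiv.refl F) G u u = 0) {H : Subgroup (GL ι F)}
    (hH : Fix (RingEquiv.refl F) H G) {κ : Type} [Fintype κ] [DecidableEq κ] (e : ι ≃ κ) (P : GL ι F)
    (S : Set (κ → F)) (hsingle : ∀ x, Pi.single x 1 ∈ S)
    (hstab : ∀ g ∈ H, ∀ w ∈ S, ∃ w' ∈ S, ∃ M : Matrix κ κ F,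
      (g : Matrix ι ι F) = co e P M ∧ M *ᵥ w = w')
    (hzero : ∀ (ord : κ ≃ Fin (Fintype.card κ)), ∀ w ∈ S,
      ∑ p ∈ Finset.univ.filter (fun p : κ × κ => ord p.1 < ord p.2),
        w p.1 * w p.2 * pull (RingEquiv.refl F) G e P p.1 p.2 = 0) : QuadCase G H := by
  classical
  set J := pull (RingEquiv.refl F) G e P with hJ
  have hJform : ∀ z w, formOfGram (RingEquiv.refl F) J z w =
      formOfGram (RingEquiv.refl F) G ((P : Matrix ι ι F) *ᵥ (z ∘ e)) ((P : Matrix ι ι F) *ᵥ (w ∘ e)) :=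
    fun z w => (form_coords _ G e P z w).symm
  have hdiag : ∀ x, J x x = 0 := fun x => by rw [← formOfGram_single (RingEquiv.refl F) J, hJform]; exact halt _
  have hs := sesq_formOfGram (RingEquiv.refl F) G
  have hsymmG : ∀ u v, formOfGram (RingEquiv.refl F) G u v = formOfGram (RingEquiv.refl F) G v u := fun u v => by
    have h := halt (u + v)
    rw [hs.add_left, hs.add_right, hs.add_right, halt, halt] at h
    linear_combination h - (formOfGram (RingEquiv.refl F) G v u) * h2
  have hsymm : ∀ x y, J x y = J y x := fun x y => by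
    rw [← formOfGram_single (RingEquiv.refl F) J x y, ← formOfGram_single (RingEquiv.refl F) J y x, hJform, hJform,
      hsymmG]
  obtain ⟨ord, q, hq, hqpol, hqval⟩ := exists_coord_quad h2 hsymm hdiag
  let C : (ι → F) → (κ → F) := fun v => (((P⁻¹ : GL ι F) : Matrix ι ι F) *ᵥ v) ∘ e.symm
  have hC : ∀ v, (P : Matrix ι ι F) *ᵥ (C v ∘ e) = v := fun v => by
    rw [show C v ∘ e = ((P⁻¹ : GL ι F) : Matrix ι ι F) *ᵥ v by ext i; simp [C], Matrix.mulVec_mulVec, Units.mul_inv,
      Matrix.one_mulVec]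
  have hC' : ∀ z, C ((P : Matrix ι ι F) *ᵥ (z ∘ e)) = z := fun z => by
    simp only [C, Matrix.mulVec_mulVec, Units.inv_mul, Matrix.one_mulVec]
    ext i; simp
  refine quad_of_vanishing hG hH (Q := fun v => q (C v)) (fun c v => ?_) (fun u v => ?_)
    (S := (fun z => (P : Matrix ι ι F) *ᵥ (z ∘ e)) '' S) ?_ ?_ ?_
  · simp only [C, Matrix.mulVec_smul]; exact hq c _
  · rw [← hC u, ← hC v, ← hJform, ← hqpol]
    simp only [QuadraticMap.polar, hC, hC']
    rw [show C (u + v) = C u + C v by ext i; simp [C, Matrix.mulVec_add]]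
  · rw [eq_top_iff]
    intro v _
    rw [← hC v, pi_eq_sum_univ' (C v ∘ e), Matrix.mulVec_sum]
    refine Submodule.sum_mem _ fun i _ => ?_
    rw [Matrix.mulVec_smul]
    refine Submodule.smul_mem _ _ (Submodule.subset_span ⟨Pi.single (e i) 1, hsingle _, ?_⟩)
    show (P : Matrix ι ι F) *ᵥ _ = _
    congr 1
    ext j
    by_cases h : j = i
    · subst h; simp
    · simp [h]
  · rintro _ ⟨w, hw, rfl⟩
    show q (C _) = 0
    rw [hC', hqval]
    exact hzero ord w hw
  · rintro g hg _ ⟨w, hw, rfl⟩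
    obtain ⟨w', hw', M, hgM, hM⟩ := hstab g hg w hw
    refine ⟨w', hw', ?_⟩
    show (P : Matrix ι ι F) *ᵥ (w' ∘ e) = (g : Matrix ι ι F) *ᵥ ((P : Matrix ι ι F) *ᵥ (w ∘ e))
    rw [hgM, co, cj, Matrix.mulVec_mulVec, mul_assoc, Units.inv_mul, mul_one, ← Matrix.mulVec_mulVec, ← hM]
    congr 1
    ext i
    simp only [Matrix.mulVec, dotProduct, Function.comp_apply, Matrix.reindexAlgEquiv_apply, Matrix.reindex_apply,
      Matrix.submatrix_apply, Equiv.symm_symm]
    exact (e.sum_comp fun j => M (e i) j * w j).symm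

/-- A pure tensor vector. -/
def pureVec {k t : ℕ} (w : Fin t → Fin k → F) : (Fin t → Fin k) → F := fun x => ∏ i, w i (x i)

theorem pureVec_single {k t : ℕ} (x : Fin t → Fin k) :
    pureVec (fun i => (Pi.single (x i) 1 : Fin k → F)) = Pi.single x 1 := by
  ext y
  by_cases h : y = x
  · subst h; simp [pureVec]
  · rw [Pi.single_eq_of_ne h]
    obtain ⟨i, hi⟩ := Function.ne_iff.1 h
    exact Finset.prod_eq_zero (Finset.mem_univ i) (Pi.single_eq_of_ne hi 1)

theorem standard_pureVec [Fintype F] {k t : ℕ} {g : GL (Fin t → Fin k) F} (hg : g ∈ tensorWreathStandard k t F) :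
    ∀ z ∈ Set.range (pureVec (F := F) (k := k) (t := t)),
      (g : Matrix (Fin t → Fin k) (Fin t → Fin k) F) *ᵥ z ∈ Set.range (pureVec (F := F) (k := k) (t := t)) := by
  classical
  induction hg using Subgroup.closure_induction with
  | mem g hg =>
    rintro _ ⟨w, rfl⟩
    rcases hg with ⟨gs, hgs⟩ | ⟨π, hπ⟩
    · refine ⟨fun i => (gs i : Matrix (Fin k) (Fin k) F) *ᵥ w i, ?_⟩
      ext x
      simp only [pureVec, Matrix.mulVec, dotProduct, hgs, ← Finset.prod_mul_distrib]
      exact Fintype.prod_sum fun i j => (gs i : Matrix (Fin k) (Fin k) F) (x i) j * w i j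
    · refine ⟨fun i => w (π.symm i), ?_⟩
      ext x
      simp only [pureVec, Matrix.mulVec, dotProduct, hπ]
      rw [Finset.sum_eq_single (x ∘ π) (fun y _ hy => by simp [hy]) (fun h => absurd (Finset.mem_univ _) h)]
      rw [if_pos rfl, one_mul, ← Equiv.prod_comp π fun i => w (π.symm i) (x i)]
      simp
  | one => intro z hz; simpa using hz
  | mul a b _ _ ha hb => intro z hz; rw [Units.val_mul, ← Matrix.mulVec_mulVec]; exact ha _ (hb z hz)
  | inv a _ ha =>
    intro z hz
    let S := Set.range (pureVec (F := F) (k := k) (t := t))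
    let f : S → S := fun z => ⟨(a : Matrix (Fin t → Fin k) (Fin t → Fin k) F) *ᵥ z.1, ha _ z.2⟩
    have hinj : Function.Injective f := fun u v h => Subtype.ext (by
      simpa [Matrix.mulVec_mulVec, f] using
        congrArg (fun w : S => ((a⁻¹ : GL (Fin t → Fin k) F) : Matrix (Fin t → Fin k) (Fin t → Fin k) F) *ᵥ w.1) h)
    obtain ⟨⟨y, hy⟩, hyz⟩ := Finite.injective_iff_surjective.1 hinj ⟨z, hz⟩
    have hyz' : (a : Matrix (Fin t → Fin k) (Fin t → Fin k) F) *ᵥ y = z := congrArg Subtype.val hyz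
    rw [← hyz', Matrix.mulVec_mulVec, Units.inv_mul, Matrix.one_mulVec]
    exact hy

theorem exists_mem_wreath {k t : ℕ} {e : ι ≃ (Fin t → Fin k)} {P g : GL ι F}
    (h : g ∈ tensorWreathSubgroup k t e P) :
    ∃ x : GL (Fin t → Fin k) F, x ∈ tensorWreathStandard k t F ∧
      (g : Matrix ι ι F) = co e P (x : Matrix (Fin t → Fin k) (Fin t → Fin k) F) := by
  obtain ⟨y, ⟨x, hx, rfl⟩, rfl⟩ := h
  exact ⟨x, hx, rfl⟩

/-- A tensor power gives a quadratic form in characteristic two. -/
theorem quad_of_power [Fintype F] [Nonempty ι] (hG : Refl (RingEquiv.refl F) G) (h2 : (2 : F) = 0)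
    (halt : ∀ u, formOfGram (RingEquiv.refl F) G u u = 0) {H : Subgroup (GL ι F)}
    (hH : Fix (RingEquiv.refl F) H G) {k t : ℕ} {e : ι ≃ (Fin t → Fin k)} {P : GL ι F}
    {D : Matrix (Fin k) (Fin k) F} (hP : PowerData (RingEquiv.refl F) G H e P D) : QuadCase G H := by
  obtain ⟨ht, hk, -, ⟨β, hβ⟩, ⟨c, hc, hgram⟩, hle⟩ := hP
  refine quad_of_coords hG h2 halt hH e P (Set.range (pureVec (F := F) (k := k) (t := t)))
    (fun x => ⟨_, pureVec_single x⟩) (fun g hg w hw => ?_) (fun ord w hw => ?_)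
  · obtain ⟨x, hx, hgx⟩ := exists_mem_wreath (hle hg)
    exact ⟨_, standard_pureVec hx w hw, (x : Matrix (Fin t → Fin k) (Fin t → Fin k) F), hgx, rfl⟩
  obtain ⟨w, rfl⟩ := hw
  have hD0 : ∀ a, D a a = 0 := fun a => by
    have h1 : pull (RingEquiv.refl F) G e P (fun _ => a) (fun _ => a) = 0 := by
      rw [← formOfGram_single (RingEquiv.refl F) (pull (RingEquiv.refl F) G e P), ← form_coords]; exact halt _
    rw [hgram, Matrix.smul_apply, pureMat, Matrix.of_apply, smul_eq_mul, Finset.prod_const] at h1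
    exact eq_zero_of_pow_eq_zero ((mul_eq_zero.1 h1).resolve_left hc)
  have hDsym : ∀ a b, D b a = (β : F) * D a b := fun a b => congrFun (congrFun hβ a) b
  let T : (Fin t → Fin k) → (Fin t → Fin k) → F := fun x y => pureVec w x * pureVec w y * (c * ∏ i, D (x i) (y i))
  have hone : (β : F) = 1 := by
    -- in characteristic two the transposition scalar is one
    obtain ⟨a, b, hab⟩ := exists_entry (A := D) (fun h => by
      have hzero : pull (RingEquiv.refl F) G e P = 0 := by
        rw [hgram, h]; ext x y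
        simp [pureMat, show t ≠ 0 by omega]
      haveI : Nonempty (Fin t → Fin k) := ⟨fun _ => ⟨0, by omega⟩⟩
      exact unit_ne_zero (refl_pull hG e P).unit hzero)
    have h1 := hDsym a b
    have h3 := hDsym b a
    rw [h1, ← mul_assoc] at h3
    have h4 : (β : F) * β = 1 := mul_right_cancel₀ hab (by rw [one_mul]; exact h3.symm)
    rcases mul_self_eq_one_iff.1 h4 with h | h
    · exact h
    · rw [h]; linear_combination -h2
  have hTsym : ∀ x y, T x y = T y x := fun x y => by
    simp only [T]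
    rw [Finset.prod_congr rfl (fun i _ => show D (y i) (x i) = D (x i) (y i) by rw [hDsym, hone, one_mul])]
    ring
  let i₀ : Fin t := ⟨0, by omega⟩
  let i₁ : Fin t := ⟨1, by omega⟩
  have hi : i₁ ≠ i₀ := by simp [i₀, i₁, Fin.ext_iff]
  let sw : (Fin t → Fin k) → (Fin t → Fin k) → (Fin t → Fin k) × (Fin t → Fin k) := fun x y =>
    (Function.update x i₀ (y i₀), Function.update y i₀ (x i₀))
  have hdiff : ∀ x y, T x y ≠ 0 → ∀ i, x i ≠ y i := fun x y h i hxy => h (by
    simp only [T]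
    rw [Finset.prod_eq_zero (f := fun i => D (x i) (y i)) (Finset.mem_univ i) (by rw [hxy, hD0]), mul_zero, mul_zero])
  rw [Finset.sum_congr rfl (g := fun p => T p.1 p.2) (fun p _ => by
    simp only [T, hgram, Matrix.smul_apply, pureMat, Matrix.of_apply, smul_eq_mul])]
  refine sum_pairs_zero h2 ord T hTsym sw (fun x y => rfl) (fun x y => ?_) (fun x y h => ⟨?_, ?_, ?_⟩) fun x y h => ?_
  · simp [sw]
  · intro he
    exact hdiff x y h i₀ (by simpa [sw] using (congrFun (congrArg Prod.fst he) i₀).symm)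
  · intro he
    exact hdiff x y h i₁ (by simpa [sw, hi] using congrFun (congrArg Prod.fst he) i₁)
  · intro he
    exact hdiff x y h i₁ (by simpa [sw, hi] using congrFun he i₁)
  · simp only [T, sw, pureVec]
    have hsplit : ∀ f : Fin t → F, ∏ i, f i = f i₀ * ∏ i ∈ Finset.univ.erase i₀, f i := fun f =>
      (Finset.mul_prod_erase _ _ (Finset.mem_univ i₀)).symm
    rw [hsplit (fun i => w i (Function.update x i₀ (y i₀) i)), hsplit (fun i => w i (Function.update y i₀ (x i₀) i)),
      hsplit (fun i => D (Function.update x i₀ (y i₀) i) (Function.update y i₀ (x i₀) i)), hsplit (fun i => w i (x i)),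
      hsplit (fun i => w i (y i)), hsplit (fun i => D (x i) (y i))]
    simp only [Function.update_self]
    have hw' : ∀ (E : Fin t → Fin k → F) (x : Fin t → Fin k) (a : Fin k),
        ∏ i ∈ Finset.univ.erase i₀, E i (Function.update x i₀ a i) = ∏ i ∈ Finset.univ.erase i₀, E i (x i) :=
      fun E x a => Finset.prod_congr rfl fun i hi => by rw [Function.update_of_ne (Finset.ne_of_mem_erase hi)]
    rw [hw' w x, hw' w y, Finset.prod_congr rfl (g := fun i => D (x i) (y i))
      (fun i hi => show D (Function.update x i₀ (y i₀) i) (Function.update y i₀ (x i₀) i) = D (x i) (y i) by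
        rw [Function.update_of_ne (Finset.ne_of_mem_erase hi), Function.update_of_ne (Finset.ne_of_mem_erase hi)]),
      hDsym (x i₀) (y i₀), hone]
    ring

/-- A tensor decomposition into two alternating forms gives a quadratic form in characteristic two. -/
theorem quad_of_tensor [Fintype F] (hG : Refl (RingEquiv.refl F) G) (h2 : (2 : F) = 0)
    (halt : ∀ u, formOfGram (RingEquiv.refl F) G u u = 0) {H : Subgroup (GL ι F)}
    (hH : Fix (RingEquiv.refl F) H G) {a b : ℕ} {e : ι ≃ Fin a × Fin b} {P : GL ι F}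
    {C : Matrix (Fin a) (Fin a) F} {D : Matrix (Fin b) (Fin b) F}
    (hT : TensorData (RingEquiv.refl F) G H e P C D) (hC : ∀ p, C p p = 0) (hD : ∀ s, D s s = 0)
    (hCs : ∀ p q, C p q = C q p) (hDs : ∀ s t, D s t = D t s) : QuadCase G H := by
  let pv : (Fin a → F) → (Fin b → F) → (Fin a × Fin b → F) := fun u v x => u x.1 * v x.2
  refine quad_of_coords hG h2 halt hH e P {z | ∃ u v, pv u v = z} (fun x => ⟨Pi.single x.1 1, Pi.single x.2 1, ?_⟩)
    (fun g hg z hz => ?_) (fun ord z hz => ?_)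
  · ext ⟨p, s⟩
    obtain ⟨p', s'⟩ := x
    by_cases h1 : p = p' <;> by_cases h2 : s = s' <;> simp [pv, Pi.single_apply, h1, h2]
  · obtain ⟨u, v, rfl⟩ := hz
    obtain ⟨A, B, -, hg', -, -⟩ := hT.sim g hg
    refine ⟨pv ((A : Matrix (Fin a) (Fin a) F) *ᵥ u) ((B : Matrix (Fin b) (Fin b) F) *ᵥ v), ⟨_, _, rfl⟩, _, hg', ?_⟩
    ext ⟨p, s⟩
    simp only [pv, Matrix.mulVec, dotProduct, Fintype.sum_prod_type, Matrix.kroneckerMap_apply, Finset.sum_mul_sum]
    exact Finset.sum_congr rfl fun _ _ => Finset.sum_congr rfl fun _ _ => by ring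
  · obtain ⟨u, v, rfl⟩ := hz
    let T : Fin a × Fin b → Fin a × Fin b → F := fun x y => pv u v x * pv u v y * (C x.1 y.1 * D x.2 y.2)
    rw [Finset.sum_congr rfl (g := fun p => T p.1 p.2) (fun p _ => by
      simp only [T, hT.gram, Matrix.kroneckerMap_apply])]
    have hdiff : ∀ x y, T x y ≠ 0 → x.1 ≠ y.1 ∧ x.2 ≠ y.2 := fun x y h =>
      ⟨fun he => h (by simp [T, he, hC]), fun he => h (by simp [T, he, hD])⟩
    refine sum_pairs_zero h2 ord T (fun x y => by simp only [T]; rw [hCs x.1, hDs x.2]; ring)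
      (fun x y => ((y.1, x.2), (x.1, y.2))) (fun x y => rfl) (fun x y => rfl) (fun x y h => ⟨?_, ?_, ?_⟩) fun x y h => ?_
    · intro he; exact (hdiff x y h).1 (congrArg (fun p => p.1.1) he).symm
    · intro he; exact (hdiff x y h).2 (congrArg (fun p => p.1.2) he)
    · intro he; exact (hdiff x y h).2 (congrArg Prod.snd he :)
    · simp only [T, pv]; rw [hCs y.1 x.1]; ring

/-- A quadratic form fixed by a normal absolutely irreducible group with the same polarisation. -/
theorem quad_of_fixed [Fintype F] [Nonempty ι] (hG : Refl (RingEquiv.refl F) G) (h2 : (2 : F) = 0)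
    (hn2 : 2 ≤ Fintype.card ι)
    {P H : Subgroup (GL ι F)} (hP : AI P) (hn : Norms H P) (hH : Fix (RingEquiv.refl F) H G) {Q : (ι → F) → F}
    (hQ : ∀ (c : F) v, Q (c • v) = c ^ 2 * Q v)
    (hpol : ∀ u v, QuadraticMap.polar Q u v = formOfGram (RingEquiv.refl F) G u v)
    (hfix : ∀ x ∈ P, ∀ v, Q ((x : Matrix ι ι F) *ᵥ v) = Q v) : QuadCase G H := by
  have hfun : QuadraticMap.polar Q = formOfGram (RingEquiv.refl F) G := funext₂ hpol
  have hs := sesq_formOfGram (RingEquiv.refl F) G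
  refine ⟨Q, ⟨hQ, by rw [hfun]; exact ⟨hs.add_left, hs.smul_left, hs.add_right, hs.smul_right⟩,
    by rw [hfun]; exact hG.nondeg⟩, hpol, fun g hg => ⟨1, fun v => ?_⟩⟩
  rw [Units.val_one, one_mul]
  have hQ' : ∀ (c : F) v, Q ((g : Matrix ι ι F) *ᵥ (c • v)) = c ^ 2 * Q ((g : Matrix ι ι F) *ᵥ v) := fun c v => by
    rw [Matrix.mulVec_smul, hQ]
  obtain ⟨hadd, hsmul⟩ := sub_semilinear (Q' := fun w => Q ((g : Matrix ι ι F) *ᵥ w)) hQ hQ' (polar_comp hH hg hpol)
  let ψ : (ι → F) → F := fun w => Q ((g : Matrix ι ι F) *ᵥ w) - Q w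
  have hadd' : ∀ u w, ψ (u + w) = ψ u + ψ w := hadd
  have hsmul' : ∀ (c : F) w, ψ (c • w) = c ^ 2 * ψ w := hsmul
  let W : Submodule F (ι → F) :=
    { carrier := {w | ψ w = 0}
      add_mem' := fun {u w} (hu : ψ u = 0) (hw : ψ w = 0) => by show ψ (u + w) = 0; rw [hadd', hu, hw, add_zero]
      zero_mem' := by show ψ 0 = 0; simpa using hsmul' 0 0
      smul_mem' := fun c w (hw : ψ w = 0) => by show ψ (c • w) = 0; rw [hsmul', hw, mul_zero] }
  have hWinv : ∀ x ∈ P, ∀ w ∈ W, (x : Matrix ι ι F) *ᵥ w ∈ W := by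
    intro x hx w (hw : ψ w = 0)
    show ψ _ = 0
    have h1 : (g : Matrix ι ι F) *ᵥ ((x : Matrix ι ι F) *ᵥ w) =
        ((g * x * g⁻¹ : GL ι F) : Matrix ι ι F) *ᵥ ((g : Matrix ι ι F) *ᵥ w) := by
      simp [Matrix.mulVec_mulVec, mul_assoc]
    simp only [ψ]
    rw [h1, hfix _ (hn g hg x hx), hfix x hx]
    exact hw
  rcases irr_iff.1 hP.irr W hWinv with h | h
  · exfalso
    have hinj : Function.Injective ψ := fun u w huw => by
      have hz : u + (-1 : F) • w ∈ W := by
        show ψ _ = 0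
        rw [hadd', hsmul', huw]
        linear_combination (ψ w) * h2
      rw [h, Submodule.mem_bot, neg_one_smul, ← sub_eq_add_neg, sub_eq_zero] at hz
      exact hz
    have := Fintype.card_le_of_injective ψ hinj
    rw [Fintype.card_fun] at this
    have h5 : Fintype.card F ^ 1 < Fintype.card F ^ Fintype.card ι :=
      Nat.pow_lt_pow_right Fintype.one_lt_card (by omega)
    rw [pow_one] at h5
    omega
  · have hv : v ∈ W := h ▸ Submodule.mem_top
    exact sub_eq_zero.1 hv

end Cfsg.Agent.Classical.Asch
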