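import Cfsg.Agent.Lib.Classical.OrthDickson
import Cfsg.Agent.Lib.Classical.QuadModels

/-!
Maximal totally singular subspaces of a hyperbolic quadratic space: `O(Q)` is transitive on them,
reflections change the parity class, and the parity of a similarity is independent of the subspace.
-/

set_option autoImplicit false
set_option linter.unusedSectionVars false
set_option quotPrecheck false

namespace Cfsg.Agent.Classical.OrthAut

open Matrix Module

variable {F : Type*} [Field F] {ι : Type} [Fintype ι] [DecidableEq ι] {Q : QuadraticForm F (ι → F)}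

local notation "Mn" => Matrix ι ι F
local notation "B" => QuadraticMap.polar ⇑Q
local notation "OG" => isometryGroup F ⇑Q

variable (Q) in
/-- A totally singular subspace of half the dimension. -/
def Half (U : Submodule F (ι → F)) : Prop :=
  (∀ u ∈ U, Q u = 0) ∧ 2 * finrank F U = Fintype.card ι

/-- The parity of the codimension of the intersection. -/
noncomputable def pSign (U W : Submodule F (ι → F)) : ℤˣ :=
  (-1) ^ (finrank F U + finrank F ↥(U ⊓ W))

theorem pSign_self (U : Submodule F (ι → F)) : pSign U U = 1 := by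
  rw [pSign, inf_idem, ← two_mul, pow_mul, Int.units_sq, one_pow]

theorem pSign_eq_one_iff (U W : Submodule F (ι → F)) : pSign U W = 1 ↔ SameParityClass U W := by
  have hle : finrank F ↥(U ⊓ W) ≤ finrank F U := Submodule.finrank_mono inf_le_left
  rw [pSign, SameParityClass, Nat.even_sub hle, ← Nat.even_add]
  rcases Nat.even_or_odd (finrank F U + finrank F ↥(U ⊓ W)) with h | h
  · simp [h, h.neg_one_pow]
  · simp [Nat.not_even_iff_odd.2 h, h.neg_one_pow]

theorem mem_imageSubmodule {M : Mn} {U : Submodule F (ι → F)} {x : ι → F} :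
    x ∈ imageSubmodule M U ↔ ∃ u ∈ U, M *ᵥ u = x := by
  rw [imageSubmodule, Submodule.mem_map]
  simp only [Matrix.toLin'_apply]

theorem imageSubmodule_mul (M N : Mn) (U : Submodule F (ι → F)) :
    imageSubmodule (M * N) U = imageSubmodule M (imageSubmodule N U) := by
  rw [imageSubmodule, imageSubmodule, imageSubmodule, ← Submodule.map_comp, Matrix.toLin'_mul]

theorem imageSubmodule_one (U : Submodule F (ι → F)) : imageSubmodule (1 : Mn) U = U := by
  rw [imageSubmodule, Matrix.toLin'_one, Submodule.map_id]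

theorem imageSubmodule_smul_one {c : F} (hc : c ≠ 0) (U : Submodule F (ι → F)) :
    imageSubmodule (c • (1 : Mn)) U = U := by
  ext x
  simp only [mem_imageSubmodule, Matrix.smul_mulVec, Matrix.one_mulVec]
  exact ⟨fun ⟨u, hu, e⟩ => e ▸ U.smul_mem c hu, fun hx => ⟨c⁻¹ • x, U.smul_mem _ hx, by
    rw [smul_smul, mul_inv_cancel₀ hc, one_smul]⟩⟩

theorem finrank_imageSubmodule (g : GL ι F) (U : Submodule F (ι → F)) :
    finrank F (imageSubmodule (g : Mn) U) = finrank F U := by
  refine (LinearEquiv.finrank_eq (Submodule.equivMapOfInjective _ ?_ U)).symm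
  intro x y h
  have h1 := congrArg (((g⁻¹ : GL ι F) : Mn) *ᵥ ·) h
  simpa [Matrix.toLin'_apply, Matrix.mulVec_mulVec] using h1

theorem half_image {g : GL ι F} {c : F} (hg : ∀ v, Q ((g : Mn) *ᵥ v) = c * Q v) {U : Submodule F (ι → F)}
    (hU : Half Q U) : Half Q (imageSubmodule (g : Mn) U) := by
  refine ⟨fun x hx => ?_, by rw [finrank_imageSubmodule]; exact hU.2⟩
  obtain ⟨u, hu, rfl⟩ := mem_imageSubmodule.1 hx
  rw [hg, hU.1 u hu, mul_zero]

theorem half_image_og (h : OG) {U : Submodule F (ι → F)} (hU : Half Q U) :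
    Half Q (imageSubmodule (ogVal h) U) :=
  half_image (g := (h : GL ι F)) (c := 1) (fun v => by rw [one_mul]; exact ogVal_quad h v) hU

theorem half_polar {U : Submodule F (ι → F)} (hU : Half Q U) {x y : ι → F} (hx : x ∈ U) (hy : y ∈ U) :
    B x y = 0 := by
  rw [QuadraticMap.polar, hU.1 _ (U.add_mem hx hy), hU.1 x hx, hU.1 y hy]; simp

variable (hQ : (QuadraticMap.polarBilin Q).Nondegenerate)
include hQ

theorem half_orth {U : Submodule F (ι → F)} (hU : Half Q U) {x : ι → F} (hx : ∀ u ∈ U, B u x = 0) : x ∈ U := by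
  have heq : U = LinearMap.BilinForm.orthogonal (QuadraticMap.polarBilin Q) U := by
    refine Submodule.eq_of_le_of_finrank_le (fun u hu w hw => half_polar hU hw hu) ?_
    rw [LinearMap.BilinForm.finrank_orthogonal hQ, Module.finrank_pi]
    have := hU.2
    omega
  rw [heq]
  exact hx

theorem half_inf_orth {U W : Submodule F (ι → F)} (hU : Half Q U) (hW : Half Q W) {v : ι → F}
    (hv : ∀ z ∈ U ⊓ W, B v z = 0) : v ∈ U ⊔ W := by
  have heq : U ⊔ W = LinearMap.BilinForm.orthogonal (QuadraticMap.polarBilin Q) (U ⊓ W) := by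
    refine Submodule.eq_of_le_of_finrank_le (sup_le (fun u hu z hz => half_polar hU hz.1 hu)
      fun w hw z hz => half_polar hW hz.2 hw) ?_
    rw [LinearMap.BilinForm.finrank_orthogonal hQ, Module.finrank_pi]
    have := Submodule.finrank_sup_add_finrank_inf_eq U W
    have := hU.2
    have := hW.2
    omega
  rw [heq]
  intro z hz
  show B z v = 0
  rw [QuadraticMap.polar_comm]
  exact hv z hz

/-- A reflection changes the class. -/
theorem finrank_inf_refl {U W : Submodule F (ι → F)} (hU : Half Q U) (hW : Half Q W) {v : ι → F}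
    (hv : Q v ≠ 0) :
    (v ∈ U ⊔ W ∧ finrank F ↥(U ⊓ imageSubmodule (ogVal (refl hv)) W) = finrank F ↥(U ⊓ W) + 1) ∨
      finrank F ↥(U ⊓ imageSubmodule (ogVal (refl hv)) W) + 1 = finrank F ↥(U ⊓ W) := by
  set L : (ι → F) →ₗ[F] F := QuadraticMap.polarBilin Q v
  set W' := imageSubmodule (ogVal (refl hv)) W
  have hfix : ∀ z, B v z = 0 → ogVal (refl hv) *ᵥ z = z := fun z hz => by
    rw [refl_apply, hz, mul_zero, zero_smul, sub_zero]
  have hmem : ∀ z, z ∈ W' ↔ ogVal (refl hv) *ᵥ z ∈ W := fun z => by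
    rw [mem_imageSubmodule]
    have hrr : ∀ x, ogVal (refl hv) *ᵥ (ogVal (refl hv) *ᵥ x) = x := fun x => by
      rw [Matrix.mulVec_mulVec, ← ogVal_mul, refl_mul_self, ogVal_one, Matrix.one_mulVec]
    exact ⟨fun ⟨w, hw, e⟩ => by rw [← e, hrr]; exact hw, fun h => ⟨_, h, hrr z⟩⟩
  by_cases hA : ∀ z ∈ U ⊓ W, B v z = 0
  · refine Or.inl ⟨half_inf_orth hQ hU hW hA, ?_⟩
    obtain ⟨u, hu, w, hw, huw⟩ := Submodule.mem_sup.1 (half_inf_orth hQ hU hW hA)
    have hvu : B v u = Q v := by
      have h1 : Q v = B u w := by rw [← huw, quad_add, hU.1 u hu, hW.1 w hw]; ring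
      rw [h1, ← huw, QuadraticMap.polar_add_left, polar_self' (hU.1 u hu), zero_add, QuadraticMap.polar_comm]
    have hru : ogVal (refl hv) *ᵥ u = -w := by
      rw [refl_apply, hvu, inv_mul_cancel₀ hv, one_smul, ← huw]; abel
    have huW' : u ∈ W' := (hmem u).2 (by rw [hru]; exact W.neg_mem hw)
    have hnot : u ∉ U ⊓ W := fun h => hv (by rw [← hW.1 v (huw ▸ W.add_mem h.2 hw)])
    have heq : U ⊓ W' = (U ⊓ W) ⊔ Submodule.span F {u} := by
      refine le_antisymm (fun z hz => ?_) (sup_le (fun z hz => ⟨hz.1, (hmem z).2 (by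
        rw [hfix z (hA z hz)]; exact hz.2)⟩) ?_)
      · set c := B v z / Q v
        refine Submodule.mem_sup.2 ⟨z - c • u, ⟨U.sub_mem hz.1 (U.smul_mem c hu), ?_⟩, c • u,
          Submodule.smul_mem _ _ (Submodule.mem_span_singleton_self u), sub_add_cancel _ _⟩
        have h2 : B v (z - c • u) = 0 := by
          rw [QuadraticMap.polar_sub_right, QuadraticMap.polar_smul_right, hvu, smul_eq_mul,
            div_mul_cancel₀ _ hv, sub_self]
        have h3 := (hmem _).1 (W'.sub_mem hz.2 (W'.smul_mem c huW'))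
        rwa [hfix _ h2] at h3
      · rw [Submodule.span_singleton_le_iff_mem]
        exact ⟨hu, huW'⟩
    rw [heq, Submodule.finrank_sup_span_singleton hnot]
  · refine Or.inr ?_
    push Not at hA
    obtain ⟨z₀, hz₀, hz₀'⟩ := hA
    have heq : U ⊓ W' = (U ⊓ W) ⊓ LinearMap.ker L := by
      refine le_antisymm (fun z hz => ?_) fun z hz => ⟨hz.1.1, (hmem z).2 (by
        rw [hfix z hz.2]; exact hz.1.2)⟩
      have h1 := (hmem z).1 hz.2
      rw [refl_apply] at h1
      set c := (Q v)⁻¹ * B v z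
      have h2 : c * B z₀ v = 0 := by
        have h3 := half_polar hW hz₀.2 h1
        rw [QuadraticMap.polar_sub_right, half_polar hU hz₀.1 hz.1, QuadraticMap.polar_smul_right,
          smul_eq_mul] at h3
        linear_combination -h3
      have hc : c = 0 := (mul_eq_zero.1 h2).resolve_right (by rwa [QuadraticMap.polar_comm])
      rw [hc, zero_smul, sub_zero] at h1
      exact ⟨⟨hz.1, h1⟩, (mul_eq_zero.1 hc).resolve_left (inv_ne_zero hv)⟩
    have hmap : (U ⊓ W) ⊔ LinearMap.ker L = ⊤ := by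
      refine eq_top_iff.2 fun x _ => Submodule.mem_sup.2 ⟨(B v x / B v z₀) • z₀, Submodule.smul_mem _ _ hz₀,
        x - (B v x / B v z₀) • z₀, ?_, by abel⟩
      show B v (x - (B v x / B v z₀) • z₀) = 0
      rw [QuadraticMap.polar_sub_right, QuadraticMap.polar_smul_right, smul_eq_mul, div_mul_cancel₀ _ hz₀',
        sub_self]
    have h1 := Submodule.finrank_sup_add_finrank_inf_eq (U ⊓ W) (LinearMap.ker L)
    rw [hmap, ← heq, finrank_top] at h1
    have h2 := LinearMap.finrank_range_add_finrank_ker L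
    have h3 : LinearMap.range L = ⊤ := LinearMap.range_eq_top.2
      (LinearMap.surjective_of_ne_zero fun h0 => hz₀' (LinearMap.congr_fun h0 z₀))
    rw [h3, finrank_top, Module.finrank_self] at h2
    omega

variable (hT : Tri Q)
include hT

theorem pSign_image {U W : Submodule F (ι → F)} (hU : Half Q U) (hW : Half Q W) (h : OG) :
    pSign U (imageSubmodule (ogVal h) W) = dick h * pSign U W := by
  have hh : h ∈ reflGroup Q := by rw [reflGroup_eq_top hQ hT]; trivial
  refine Subgroup.closure_induction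
    (p := fun h _ => ∀ W, Half Q W → pSign U (imageSubmodule (ogVal h) W) = dick h * pSign U W)
    ?_ ?_ ?_ ?_ hh W hW
  · rintro _ ⟨v, hv, rfl⟩ W hW
    rw [dick_refl hQ hv, neg_one_mul, pSign, pSign]
    rcases finrank_inf_refl hQ hU hW hv with ⟨-, e⟩ | e
    · rw [e, ← add_assoc, pow_succ, mul_neg_one]
    · rw [← e, ← add_assoc, pow_succ, mul_neg_one, neg_neg]
  · intro W _; rw [ogVal_one, imageSubmodule_one, dick_one, one_mul]
  · intro a b _ _ ha hb W hW
    rw [ogVal_mul, imageSubmodule_mul, ha _ (half_image_og b hW), hb W hW, dick_mul hQ hT, mul_assoc]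
  · intro a _ ha W hW
    have h1 := ha _ (half_image_og a⁻¹ hW)
    rw [← imageSubmodule_mul, ← ogVal_mul, mul_inv_cancel, ogVal_one, imageSubmodule_one] at h1
    rw [show dick a⁻¹ = dick a from ((dickHom hQ hT).map_inv a).trans (Int.units_inv_eq_self _), h1,
      ← mul_assoc, Int.units_mul_self, one_mul]

omit hT in
/-- `O(Q)` is transitive on the maximal totally singular subspaces. -/
theorem exists_map_half {U W : Submodule F (ι → F)} (hU : Half Q U) (hW : Half Q W) :
    ∃ h : OG, imageSubmodule (ogVal h) W = U := by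
  suffices key : ∀ (k : ℕ) (W : Submodule F (ι → F)), Half Q W → finrank F U - finrank F ↥(U ⊓ W) ≤ k →
      ∃ h : OG, imageSubmodule (ogVal h) W = U from key _ W hW le_rfl
  intro k
  induction k using Nat.strong_induction_on with
  | _ k ih =>
    intro W hW hk
    by_cases hUW : U = W
    · exact ⟨1, by rw [ogVal_one, imageSubmodule_one, hUW]⟩
    have hlt : finrank F ↥(U ⊓ W) < finrank F U := by
      refine Submodule.finrank_lt_finrank_of_lt (lt_of_le_of_ne inf_le_left fun e => hUW ?_)
      refine Submodule.eq_of_le_of_finrank_le (inf_eq_left.1 e) ?_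
      have := hU.2
      have := hW.2
      omega
    obtain ⟨u, hu, w, hw, huw⟩ : ∃ u ∈ U, ∃ w ∈ W, B u w ≠ 0 := by
      by_contra hcon
      push Not at hcon
      refine hUW (Submodule.eq_of_le_of_finrank_le (fun u hu => half_orth hQ hW fun w hw => ?_) ?_)
      · rw [QuadraticMap.polar_comm]; exact hcon u hu w hw
      · have := hU.2
        have := hW.2
        omega
    have hv : Q (u + w) ≠ 0 := by rw [quad_add, hU.1 u hu, hW.1 w hw]; simpa using huw
    rcases finrank_inf_refl hQ hU hW hv with ⟨-, e⟩ | e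
    · obtain ⟨h, hh⟩ := ih (k - 1) (by omega) (imageSubmodule (ogVal (refl hv)) W)
        (half_image_og _ hW) (by omega)
      exact ⟨h * refl hv, by rw [ogVal_mul, imageSubmodule_mul, hh]⟩
    · exfalso
      have hz : ∀ z ∈ U ⊓ W, z ∈ U ⊓ imageSubmodule (ogVal (refl hv)) W := fun z hz =>
        ⟨hz.1, mem_imageSubmodule.2 ⟨z, hz.2, by
          rw [refl_apply, QuadraticMap.polar_add_left, half_polar hU hu hz.1, half_polar hW hw hz.2]
          simp⟩⟩
      have := Submodule.finrank_mono (show U ⊓ W ≤ _ from hz)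
      omega

omit hQ hT in
theorem fixSub_conj (g : GL ι F) (h h' : OG) (he : ogVal h' * (g : Mn) = (g : Mn) * ogVal h) :
    dick h' = dick h := by
  have key : fixSub h' = imageSubmodule (g : Mn) (fixSub h) := by
    ext x
    have hinv : (g : Mn) *ᵥ (((g⁻¹ : GL ι F) : Mn) *ᵥ x) = x := by
      rw [Matrix.mulVec_mulVec, Units.mul_inv, Matrix.one_mulVec]
    rw [mem_imageSubmodule]
    constructor
    · intro hx
      refine ⟨((g⁻¹ : GL ι F) : Mn) *ᵥ x, mem_fixSub.2 ?_, hinv⟩
      have h1 : (g : Mn) *ᵥ (ogVal h *ᵥ (((g⁻¹ : GL ι F) : Mn) *ᵥ x)) = x := by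
        rw [Matrix.mulVec_mulVec, ← he, ← Matrix.mulVec_mulVec, hinv, mem_fixSub.1 hx]
      have h2 := congrArg (((g⁻¹ : GL ι F) : Mn) *ᵥ ·) h1
      simpa [Matrix.mulVec_mulVec, ← Matrix.mul_assoc] using h2
    · rintro ⟨u, hu, rfl⟩
      rw [mem_fixSub, Matrix.mulVec_mulVec, he, ← Matrix.mulVec_mulVec, mem_fixSub.1 hu]
  rw [dick, dick, key, finrank_imageSubmodule]

omit hQ hT in
/-- Conjugation of an isometry by a similarity. -/
theorem exists_conj_og {g : GL ι F} {c : F} (hc : c ≠ 0) (hg : ∀ v, Q ((g : Mn) *ᵥ v) = c * Q v) (h : OG) :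
    ∃ h' : OG, (h' : GL ι F) = g * (h : GL ι F) * g⁻¹ := by
  refine ⟨⟨g * (h : GL ι F) * g⁻¹, mem_isometryGroup.2 fun v => ?_⟩, rfl⟩
  have h1 : Q (((g⁻¹ : GL ι F) : Mn) *ᵥ v) = c⁻¹ * Q v := by
    have h2 := hg (((g⁻¹ : GL ι F) : Mn) *ᵥ v)
    rw [Matrix.mulVec_mulVec, Units.mul_inv, Matrix.one_mulVec] at h2
    rw [h2, ← mul_assoc, inv_mul_cancel₀ hc, one_mul]
  show Q (((g : Mn) * ((h : GL ι F) : Mn) * ((g⁻¹ : GL ι F) : Mn)) *ᵥ v) = Q v
  rw [← Matrix.mulVec_mulVec, ← Matrix.mulVec_mulVec, hg]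
  show c * Q (ogVal h *ᵥ _) = _
  rw [ogVal_quad, h1, ← mul_assoc, mul_inv_cancel₀ hc, one_mul]

/-- The class behaviour of a similarity does not depend on the subspace. -/
theorem pSign_similarity {g : GL ι F} {c : F} (hc : c ≠ 0) (hg : ∀ v, Q ((g : Mn) *ᵥ v) = c * Q v)
    {U U₀ : Submodule F (ι → F)} (hU : Half Q U) (hU₀ : Half Q U₀) :
    pSign U (imageSubmodule (g : Mn) U) = pSign U₀ (imageSubmodule (g : Mn) U₀) := by
  obtain ⟨h, hh⟩ := exists_map_half hQ hU hU₀
  obtain ⟨k, hk⟩ := exists_map_half hQ (half_image hg hU₀) hU₀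
  obtain ⟨h', hh'⟩ := exists_conj_og hc hg h
  have e : ogVal h' * (g : Mn) = (g : Mn) * ogVal h := by
    show ((h' : GL ι F) : Mn) * (g : Mn) = _
    rw [← Units.val_mul, hh', inv_mul_cancel_right]; rfl
  have hgU : imageSubmodule (g : Mn) U = imageSubmodule (ogVal (h' * k * h⁻¹)) U := by
    have h1 : imageSubmodule (ogVal h⁻¹) U = U₀ := by
      rw [← hh, ← imageSubmodule_mul, ← ogVal_mul, inv_mul_cancel, ogVal_one, imageSubmodule_one]
    rw [ogVal_mul, imageSubmodule_mul, h1, ogVal_mul, imageSubmodule_mul, hk, ← imageSubmodule_mul, e,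
      imageSubmodule_mul, hh]
  conv_rhs => rw [← hk, pSign_image hQ hT hU₀ hU₀ k, pSign_self, mul_one]
  rw [hgU, pSign_image hQ hT hU hU, pSign_self, mul_one, dick_mul hQ hT, dick_mul hQ hT,
    show dick h⁻¹ = dick h from ((dickHom hQ hT).map_inv h).trans (Int.units_inv_eq_self _),
    fixSub_conj g h h' e, mul_comm (dick h), mul_assoc, Int.units_mul_self, mul_one]

omit hT in
theorem isMax_iff_half {U₀ : Submodule F (ι → F)} (hU₀ : Half Q U₀) {U : Submodule F (ι → F)} :
    IsMaxTotallySingular (⇑Q) U ↔ Half Q U := by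
  constructor
  · rintro ⟨hts, hmax⟩
    obtain ⟨U', hU', hle⟩ : ∃ U', Half Q U' ∧ U ≤ U' := by
      have hle : finrank F U ≤ finrank F U₀ := by
        have h1 : 2 * finrank F U ≤ Fintype.card ι := by
          have h2 : U ≤ LinearMap.BilinForm.orthogonal (QuadraticMap.polarBilin Q) U := fun u hu w hw => by
            show B w u = 0
            rw [QuadraticMap.polar, hts _ (U.add_mem hw hu), hts w hw, hts u hu]; simp
          have h3 := Submodule.finrank_mono h2
          rw [LinearMap.BilinForm.finrank_orthogonal hQ, Module.finrank_pi] at h3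
          omega
        have := hU₀.2
        omega
      let L₁ : U →ₗ[F] U₀ := (Module.finBasis F U).constr F fun i => Module.finBasis F U₀ (Fin.castLE hle i)
      have hL₁ : Function.Injective L₁ := by
        refine LinearMap.ker_eq_bot.1 ((Submodule.eq_bot_iff _).2 fun u hu => ?_)
        rw [LinearMap.mem_ker] at hu
        simp only [L₁, Module.Basis.constr_apply_fintype] at hu
        have h5 := Fintype.linearIndependent_iff.1
          ((Module.finBasis F U₀).linearIndependent.comp _ (Fin.castLE_injective hle)) _ hu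
        refine ((Module.finBasis F U).equivFun.map_eq_zero_iff).1 (funext h5)
      set S : Submodule F (ι → F) := LinearMap.range (U₀.subtype ∘ₗ L₁)
      have hS : S ≤ U₀ := by rintro _ ⟨u, rfl⟩; exact (L₁ u).2
      let e : U ≃ₗ[F] S := LinearEquiv.ofInjective (U₀.subtype ∘ₗ L₁) (Subtype.val_injective.comp hL₁)
      obtain ⟨M, hMd, hM, hMu⟩ := exists_isometry_map hQ U.subtype (S.subtype ∘ₗ e.toLinearMap)
        Subtype.val_injective (Subtype.val_injective.comp e.injective)
        (fun u => by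
          show Q ((e u : S) : ι → F) = Q (u : ι → F)
          rw [hts u u.2, hU₀.1 _ (hS (e u).2)])
      set h : OG := mkIsometry M hMd hM
      refine ⟨imageSubmodule (ogVal h⁻¹) U₀, half_image_og _ hU₀, fun u hu => ?_⟩
      refine mem_imageSubmodule.2 ⟨((e ⟨u, hu⟩ : S) : ι → F), hS (e ⟨u, hu⟩).2, ?_⟩
      have h1 : ogVal h *ᵥ u = ((e ⟨u, hu⟩ : S) : ι → F) := hMu ⟨u, hu⟩
      rw [← h1, ogVal_inv_cancel]
    rw [← hmax U' hU'.1 hle]
    exact hU'
  · intro hU
    exact ⟨hU.1, fun W hW hle => (Submodule.eq_of_le_of_finrank_le hle (by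
      have h2 : W ≤ LinearMap.BilinForm.orthogonal (QuadraticMap.polarBilin Q) W := fun u hu w hw => by
        show B w u = 0
        rw [QuadraticMap.polar, hW _ (W.add_mem hw hu), hW w hw, hW u hu]; simp
      have h3 := Submodule.finrank_mono h2
      rw [LinearMap.BilinForm.finrank_orthogonal hQ, Module.finrank_pi] at h3
      have := hU.2
      omega)).symm⟩

/-- Preserving the classes, tested on one subspace. -/
theorem preserves_iff {U₀ : Submodule F (ι → F)} (hU₀ : Half Q U₀) {g : GL ι F} {c : F} (hc : c ≠ 0)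
    (hg : ∀ v, Q ((g : Mn) *ᵥ v) = c * Q v) :
    PreservesSingularClasses (⇑Q) (g : Mn) ↔ pSign U₀ (imageSubmodule (g : Mn) U₀) = 1 := by
  constructor
  · intro h
    exact (pSign_eq_one_iff _ _).2 (h U₀ ((isMax_iff_half hQ hU₀).2 hU₀))
  · intro h U hU
    rw [← pSign_eq_one_iff, pSign_similarity hQ hT hc hg ((isMax_iff_half hQ hU₀).1 hU) hU₀, h]

theorem pSign_scalar_mul {U₀ : Submodule F (ι → F)} (hU₀ : Half Q U₀) {s : F} (hs : s ≠ 0) {h : OG}
    {M : Mn} (hM : M = s • ogVal h) : pSign U₀ (imageSubmodule M U₀) = dick h := by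
  have e : M = ogVal h * (s • (1 : Mn)) := by rw [hM, Matrix.mul_smul, Matrix.mul_one]
  rw [e, imageSubmodule_mul, imageSubmodule_smul_one hs, pSign_image hQ hT hU₀ hU₀, pSign_self, mul_one]

end Cfsg.Agent.Classical.OrthAut
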