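import Cfsg.Agent.Lib.Classical.AschEvenDecomp
import Cfsg.Agent.Lib.Classical.AschFormCommon
import Cfsg.Agent.Lib.Classical.AschFormQuad
import Cfsg.Agent.Lib.Classical.AschLinear
import Cfsg.Agent.Lib.Classical.OrthSingular

/-!
Groups of isometries of an even dimensional quadratic space: forms, semilinear kernels, reducible groups,
skew pairs and field extensions of degree two.
-/

set_option autoImplicit false
set_option linter.unusedSectionVars false
set_option linter.unusedFintypeInType false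
set_option linter.unusedDecidableInType false
set_option quotPrecheck false

namespace Cfsg.Agent.Classical.AschEven

open Matrix Module Cfsg.Geo
open Asch (Refl Fix Irr Inv irr_iff cj adj)

variable {F : Type*} [Field F] [Fintype F] {ι : Type} [Fintype ι] [DecidableEq ι] {Q : QuadraticForm F (ι → F)}

local notation "Mn" => Matrix ι ι F
local notation "B" => QuadraticMap.polar ⇑Q

/-- The Gram matrix of the polar form. -/
noncomputable def gQ (Q : QuadraticForm F (ι → F)) : Matrix ι ι F := gramMatrix (QuadraticMap.polar ⇑Q)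

theorem form_eq : formOfGram (RingEquiv.refl F) (gQ Q) = B := by
  funext u v
  exact ((Asch.sesq_of_bilinear (f := B) ⟨fun x y v => QuadraticMap.polar_add_left Q x y v,
    fun c x v => QuadraticMap.polar_smul_left Q c x v, fun v x y => QuadraticMap.polar_add_right Q v x y,
    fun c v x => QuadraticMap.polar_smul_right Q c v x⟩).eq_gram u v).symm

theorem polar_two (v : ι → F) : B v v = 2 * Q v := by
  rw [QuadraticMap.polar_self, two_smul, two_mul]

theorem nd_left (hQ : (QuadraticMap.polarBilin Q).Nondegenerate) {v : ι → F} (hv : v ≠ 0) : ∃ x, B v x ≠ 0 := by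
  by_contra hno
  push Not at hno
  exact hv (hQ.1 v hno)

theorem refl_gQ (hQ : (QuadraticMap.polarBilin Q).Nondegenerate) : Refl (RingEquiv.refl F) (gQ Q) := by
  refine ⟨fun _ => rfl, Asch.gram_isUnit (RingEquiv.refl F) ?_, 1, ?_⟩
  · rw [form_eq]
    intro v hv
    obtain ⟨x, hx⟩ := nd_left hQ hv
    exact ⟨⟨x, by rwa [QuadraticMap.polar_comm]⟩, x, hx⟩
  · ext a b
    rw [Units.val_one, one_smul]
    exact QuadraticMap.polar_comm _ _ _

theorem iso_of_le {H : Subgroup (GL ι F)} (hH : H ≤ isometryGroup F ⇑Q) {g : GL ι F} (hg : g ∈ H) (v : ι → F) :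
    Q ((g : Mn) *ᵥ v) = Q v :=
  mem_isometryGroup.1 (hH hg) v

theorem polar_iso {g : GL ι F} (hg : ∀ v, Q ((g : Mn) *ᵥ v) = Q v) (u v : ι → F) :
    B ((g : Mn) *ᵥ u) ((g : Mn) *ᵥ v) = B u v := by
  simp only [QuadraticMap.polar, ← Matrix.mulVec_add, hg]

theorem fix_gQ {H : Subgroup (GL ι F)} (hH : H ≤ isometryGroup F ⇑Q) : Fix (RingEquiv.refl F) H (gQ Q) := by
  intro g hg
  refine Asch.gram_inj (RingEquiv.refl F) fun u v => ?_
  rw [← Asch.formOfGram_mulVec, form_eq]
  exact polar_iso (iso_of_le hH hg) u v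

/-- The kernel of a semilinear map. -/
theorem semi_kernel {κ : Type} [Fintype κ] (W : Submodule F (ι → F)) (φ : (ι → F) → κ → F)
    (hadd : ∀ u ∈ W, ∀ v ∈ W, φ (u + v) = φ u + φ v)
    (hsmul : ∀ (c : F), ∀ v ∈ W, φ (c • v) = c ^ 2 • φ v) :
    ∃ K : Submodule F (ι → F), (∀ x, x ∈ K ↔ x ∈ W ∧ φ x = 0) ∧ (K = ⊥ → finrank F W ≤ Fintype.card κ) := by
  classical
  have h0 : φ 0 = 0 := by
    have h := hsmul 0 0 W.zero_mem
    rw [zero_smul, sq, zero_mul, zero_smul] at h
    exact h
  refine ⟨{ carrier := {x | x ∈ W ∧ φ x = 0}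
            add_mem' := fun {a b} ha hb => ⟨W.add_mem ha.1 hb.1, by rw [hadd a ha.1 b hb.1, ha.2, hb.2, add_zero]⟩
            zero_mem' := ⟨W.zero_mem, h0⟩
            smul_mem' := fun c a ha => ⟨W.smul_mem c ha.1, by rw [hsmul c a ha.1, ha.2, smul_zero]⟩ },
    fun x => Iff.rfl, fun hK => ?_⟩
  have hinj : Function.Injective fun w : W => φ w := by
    intro u v huv
    refine Subtype.ext (sub_eq_zero.1 ((Submodule.eq_bot_iff _).1 hK _ ⟨W.sub_mem u.2 v.2, ?_⟩))
    have h := hadd _ (W.sub_mem u.2 v.2) _ v.2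
    rw [sub_add_cancel] at h
    exact left_eq_add.1 ((show φ (v : ι → F) = φ (u : ι → F) from huv.symm).trans (h.trans (add_comm _ _)))
  haveI : Fintype W := Fintype.ofFinite W
  have h1 := Fintype.card_le_of_injective _ hinj
  rw [Module.card_eq_pow_finrank (K := F) (V := W), Fintype.card_fun] at h1
  exact (Nat.pow_le_pow_iff_right Fintype.one_lt_card).1 h1

/-- An invariant totally isotropic subspace gives an invariant singular subspace or point. -/
theorem ts_or_point {H : Subgroup (GL ι F)} (hH : H ≤ isometryGroup F ⇑Q) {W : Submodule F (ι → F)} (h0 : W ≠ ⊥)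
    (hiso : ∀ u ∈ W, ∀ v ∈ W, B u v = 0) (hinv : Inv H W) :
    (∃ U : Submodule F (ι → F), U ≠ ⊥ ∧ IsTotallySingularQuad ⇑Q U ∧ H ≤ subspaceStabilizer U) ∨
      ((2 : F) = 0 ∧ ∃ v, Q v ≠ 0 ∧ H ≤ subspaceStabilizer (Submodule.span F {v})) := by
  by_cases h2 : (2 : F) = 0
  swap
  · refine Or.inl ⟨W, h0, fun w hw => ?_, Asch.inv_le_stab hinv⟩
    have h := hiso w hw w hw
    rw [polar_two] at h
    exact (mul_eq_zero.1 h).resolve_left h2
  obtain ⟨K, hK, hb⟩ := semi_kernel W (fun v (_ : Unit) => Q v)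
    (fun u hu v hv => funext fun _ => by simp [QuadraticMap.map_add ⇑Q u v, hiso u hu v hv])
    (fun c v _ => funext fun _ => by simp [QuadraticMap.map_smul, sq])
  by_cases hKb : K = ⊥
  · right
    refine ⟨h2, ?_⟩
    obtain ⟨v, hv, hv0⟩ := Submodule.exists_mem_ne_zero_of_ne_bot h0
    have hd := hb hKb
    rw [Fintype.card_unit] at hd
    have hW : Submodule.span F {v} = W := Submodule.eq_of_le_of_finrank_le
      ((Submodule.span_singleton_le_iff_mem v W).2 hv) (by rw [finrank_span_singleton hv0]; exact hd)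
    refine ⟨v, fun hQv => hv0 ((Submodule.eq_bot_iff _).1 hKb v ((hK v).2 ⟨hv, funext fun _ => hQv⟩)), ?_⟩
    rw [hW]
    exact Asch.inv_le_stab hinv
  · refine Or.inl ⟨K, hKb, fun w hw => congrFun ((hK w).1 hw).2 (), Asch.inv_le_stab fun g hg v hv => ?_⟩
    obtain ⟨h1, h2⟩ := (hK v).1 hv
    exact (hK _).2 ⟨hinv g hg v h1, funext fun _ => (iso_of_le hH hg v).trans (congrFun h2 ())⟩

/-- A reducible group fixes a singular subspace, a nonsingular point or a non-degenerate subspace. -/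
theorem reducible_even (hQ : (QuadraticMap.polarBilin Q).Nondegenerate) {H : Subgroup (GL ι F)}
    (hH : H ≤ isometryGroup F ⇑Q) (hirr : ¬ Irr H) :
    (∃ U : Submodule F (ι → F), U ≠ ⊥ ∧ IsTotallySingularQuad ⇑Q U ∧ H ≤ subspaceStabilizer U) ∨
      ((2 : F) = 0 ∧ ∃ v, Q v ≠ 0 ∧ H ≤ subspaceStabilizer (Submodule.span F {v})) ∨
      ∃ W : Submodule F (ι → F), W ≠ ⊥ ∧ IsNondegenerateOn B W ∧ 2 * finrank F W ≤ Fintype.card ι ∧
        H ≤ subspaceStabilizer W := by
  have hG := refl_gQ hQ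
  rw [irr_iff] at hirr
  push Not at hirr
  obtain ⟨W, hW, hb, ht⟩ := hirr
  have hWi : Inv H W := hW
  have hpi := hG.perp_inv (fix_gQ hH).sims hWi
  by_cases hR : W ⊓ hG.perp W = ⊥
  · have hnd : IsNondegenerateOn B W := form_eq (Q := Q) ▸ hG.nondeg_on hR
    have hR' : hG.perp W ⊓ hG.perp (hG.perp W) = ⊥ := by rw [hG.perp_perp, inf_comm, hR]
    have hnd' : IsNondegenerateOn B (hG.perp W) := form_eq (Q := Q) ▸ hG.nondeg_on hR'
    have hdim := hG.finrank_perp W
    refine Or.inr (Or.inr ?_)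
    by_cases hle : 2 * finrank F W ≤ Fintype.card ι
    · exact ⟨W, hb, hnd, hle, Asch.inv_le_stab hWi⟩
    · refine ⟨hG.perp W, fun h => ht ?_, hnd', by omega, Asch.inv_le_stab hpi⟩
      rw [h, finrank_bot, zero_add, ← Module.finrank_fintype_fun_eq_card (R := F)] at hdim
      exact Submodule.eq_top_of_finrank_eq hdim
  · rcases ts_or_point hH hR (fun u hu v hv => by rw [← form_eq]; exact hu.2 v hv.1)
      (fun g hg v hv => ⟨hWi g hg v hv.1, hpi g hg v hv.2⟩) with h | h
    · exact Or.inl h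
    · exact Or.inr (Or.inl h)

/-- A totally isotropic subspace has at most half the dimension. -/
theorem isotropic_dim (hQ : (QuadraticMap.polarBilin Q).Nondegenerate) {U : Submodule F (ι → F)}
    (h : ∀ u ∈ U, ∀ v ∈ U, B u v = 0) : 2 * finrank F U ≤ Fintype.card ι := by
  have hle : U ≤ (refl_gQ hQ).perp U := fun u hu w hw => by rw [form_eq]; exact h u hu w hw
  have h1 := Submodule.finrank_mono hle
  have h2 := (refl_gQ hQ).finrank_perp U
  omega

/-- A skew pair gives a pair of totally singular subspaces. -/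
theorem ts_pair (hQ : (QuadraticMap.polarBilin Q).Nondegenerate) (h3 : 3 ≤ Fintype.card ι) {H : Subgroup (GL ι F)}
    (hH : H ≤ isometryGroup F ⇑Q) (hirr : Irr H) (h : Asch.SkewPair (RingEquiv.refl F) (gQ Q) H) :
    ∃ (k : ℕ) (D : Fin 2 → Submodule F (ι → F)), 2 * k = Fintype.card ι ∧ IsMDecomposition k D ∧
      (∀ i, IsTotallySingularQuad ⇑Q (D i)) ∧ H ≤ decompositionStabilizer D := by
  classical
  obtain ⟨k, D, hk, hD, hti, hle⟩ := Asch.pair_decomp (refl_gQ hQ) (fix_gQ hH).sims hirr h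
  rw [form_eq] at hti
  refine ⟨k, D, hk, hD, fun i w hw => ?_, hle⟩
  by_cases h2 : (2 : F) = 0
  swap
  · have h' := hti i w hw w hw
    rw [polar_two] at h'
    exact (mul_eq_zero.1 h').resolve_left h2
  choose K hK hKb using fun j => semi_kernel (D j) (fun v (_ : Unit) => Q v)
    (fun u hu v hv => funext fun _ => by simp [QuadraticMap.map_add ⇑Q u v, hti j u hu v hv])
    (fun c v _ => funext fun _ => by simp [QuadraticMap.map_smul, sq])
  have hne : K i ≠ ⊥ := fun hb => by
    have := hKb i hb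
    rw [hD.finrank_eq, Fintype.card_unit] at this
    omega
  have hKD : ∀ j, K j ≤ D j := fun j x hx => ((hK j x).1 hx).1
  have hinv : Inv H (⨆ j, K j) := by
    intro g hg v hv
    suffices (⨆ j, K j) ≤ (⨆ j, K j).comap (Matrix.toLin' (g : Mn)) by
      have h1 := this hv
      rwa [Submodule.mem_comap, Matrix.toLin'_apply] at h1
    refine iSup_le fun j x hx => ?_
    obtain ⟨σ, hσ⟩ := hle hg
    obtain ⟨h1, h4⟩ := (hK j x).1 hx
    rw [Submodule.mem_comap, Matrix.toLin'_apply]
    exact Submodule.mem_iSup_of_mem (σ j) ((hK _ _).2 ⟨hσ j ▸ ⟨x, h1, Matrix.toLin'_apply _ _⟩,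
      funext fun _ => (iso_of_le hH hg x).trans (congrFun h4 ())⟩)
  have htop : (⨆ j, K j) = ⊤ := (irr_iff.1 hirr _ fun g hg v hv => hinv g hg v hv).resolve_left fun hb =>
    hne (eq_bot_iff.2 (hb ▸ le_iSup K i))
  have hall : K i = D i := by
    refine le_antisymm (hKD i) fun x hx => ?_
    obtain ⟨p, hfix, hkill, -, -⟩ := Asch.exists_proj hD
    suffices (⨆ j, K j) ≤ (K i).comap (Matrix.toLin' (p i)) by
      have h1 := this (htop ▸ Submodule.mem_top : x ∈ ⨆ j, K j)
      rwa [Submodule.mem_comap, Matrix.toLin'_apply, hfix i x hx] at h1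
    refine iSup_le fun j y hy => ?_
    rw [Submodule.mem_comap, Matrix.toLin'_apply]
    by_cases hij : i = j
    · subst hij; rwa [hfix i y (hKD i hy)]
    · rw [hkill i j hij y (hKD j hy)]; exact zero_mem _
  exact congrFun ((hK i w).1 (hall ▸ hw)).2 ()

/-- A half of the dimension that is totally singular gives plus type. -/
theorem plus_of_half {U : Submodule F (ι → F)} (hU : IsTotallySingularQuad ⇑Q U)
    (hd : 2 * finrank F U = Fintype.card ι) : IsPlusTypeOn ⇑Q (⊤ : Submodule F (ι → F)) :=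
  ⟨U, le_top, hU, by rw [hd, finrank_top, Module.finrank_pi]⟩

/-- The complement of a non-degenerate subspace inside a non-degenerate subspace. -/
theorem exists_complement (hQ : (QuadraticMap.polarBilin Q).Nondegenerate) {U P : Submodule F (ι → F)}
    (hU : IsNondegenerateOn B U) (hP : IsNondegenerateOn B P) (hle : P ≤ U) :
    ∃ U' : Submodule F (ι → F), U' ≤ U ∧ (∀ x, x ∈ U' ↔ x ∈ U ∧ ∀ p ∈ P, B x p = 0) ∧ IsNondegenerateOn B U' ∧
      P ⊔ U' = U ∧ P ⊓ U' = ⊥ ∧ finrank F P + finrank F U' = finrank F U := by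
  have hG := refl_gQ hQ
  set U' := U ⊓ hG.perp P
  have hmem : ∀ x, x ∈ U' ↔ x ∈ U ∧ ∀ p ∈ P, B x p = 0 := fun x => by
    rw [← form_eq]; exact Iff.rfl
  have hinf : P ⊓ U' = ⊥ := (Submodule.eq_bot_iff _).2 fun x hx => by
    by_contra hx0
    obtain ⟨-, y, hy, hxy⟩ := hP x hx.1 hx0
    exact hxy (((hmem x).1 hx.2).2 y hy)
  have h1 := Submodule.finrank_sup_add_finrank_inf_eq P U'
  rw [hinf, finrank_bot, add_zero] at h1
  have h2 := Submodule.finrank_sup_add_finrank_inf_eq U (hG.perp P)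
  rw [show U ⊓ hG.perp P = U' from rfl] at h2
  have h3 := hG.finrank_perp P
  have h4 : finrank F (U ⊔ hG.perp P : Submodule F (ι → F)) ≤ Fintype.card ι := by
    rw [← Module.finrank_fintype_fun_eq_card (R := F)]
    exact Submodule.finrank_le _
  have hsle : P ⊔ U' ≤ U := sup_le hle inf_le_left
  have hsup : P ⊔ U' = U := Submodule.eq_of_le_of_finrank_le hsle (by omega)
  rw [hsup] at h1
  refine ⟨U', inf_le_left, hmem, fun x hx hx0 => ?_, hsup, hinf, h1.symm⟩
  obtain ⟨-, y, hy, hxy⟩ := hU x hx.1 hx0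
  obtain ⟨p, hp, u, hu, rfl⟩ := Submodule.mem_sup.1 (hsup.symm ▸ hy : y ∈ P ⊔ U')
  rw [QuadraticMap.polar_add_right, ((hmem x).1 hx).2 p hp, zero_add] at hxy
  exact ⟨⟨u, hu, by rwa [QuadraticMap.polar_comm]⟩, u, hu, hxy⟩

/-- A quadratic extension acting by similitudes of the norm makes the type the parity of half the dimension. -/
theorem herm_type (hQ : (QuadraticMap.polarBilin Q).Nondegenerate) (T : Mn) (τ N : F)
    (hsq : T * T = τ • T - N • (1 : Mn)) (hroot : ∀ x : F, x ^ 2 - τ * x + N ≠ 0)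
    (hquad : ∀ v, Q (T *ᵥ v) = N * Q v) (htr : ∀ v, B v (T *ᵥ v) = τ * Q v) :
    ∀ j (U : Submodule F (ι → F)), finrank F U = 2 * (j + 1) → IsNondegenerateOn B U → (∀ v ∈ U, T *ᵥ v ∈ U) →
      (IsPlusTypeOn ⇑Q U ↔ Even (j + 1)) := by
  have hN : N ≠ 0 := fun h => hroot 0 (by rw [h]; ring)
  have hTT : ∀ v, T *ᵥ (T *ᵥ v) = τ • T *ᵥ v - N • v := fun v => by
    rw [Matrix.mulVec_mulVec, hsq, Matrix.sub_mulVec, Matrix.smul_mulVec, Matrix.smul_mulVec, Matrix.one_mulVec]
  have hdet : 4 * N - τ ^ 2 ≠ 0 := by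
    intro h
    by_cases h2 : (2 : F) = 0
    · haveI : CharP F 2 := CharTwo.of_one_ne_zero_of_two_eq_zero one_ne_zero h2
      obtain ⟨x, hx⟩ := FiniteField.isSquare_of_char_two (ringChar.eq F 2) N
      have hτ : τ = 0 := mul_self_eq_zero.1 (by linear_combination (-1 : F) * h + (2 * N) * h2)
      exact hroot x (by rw [hτ, hx]; linear_combination (x * x) * h2)
    · exact hroot (τ / 2) (by field_simp; linear_combination h)
  intro j
  induction j with
  | zero =>
    intro U hd hU hT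
    simp only [zero_add, Nat.not_even_one, iff_false]
    rintro ⟨W, hWU, hW, hWd⟩
    rw [hd] at hWd
    obtain ⟨v, hv, hv0⟩ := Submodule.exists_mem_ne_zero_of_ne_bot (p := W) fun h => by
      rw [h, finrank_bot] at hWd; omega
    have hall : ∀ x ∈ Submodule.span F ({v, T *ᵥ v} : Set (ι → F)), Q x = 0 := by
      intro x hx
      obtain ⟨a, b, rfl⟩ := Submodule.mem_span_pair.1 hx
      rw [QuadraticMap.map_add ⇑Q, QuadraticMap.map_smul, QuadraticMap.map_smul, QuadraticMap.polar_smul_left,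
        QuadraticMap.polar_smul_right, hquad, htr, hW v hv]
      simp
    have hind : LinearIndependent F ![v, T *ᵥ v] := by
      refine LinearIndependent.pair_iff.2 fun a b h => ?_
      by_cases hb : b = 0
      · rw [hb, zero_smul, add_zero, smul_eq_zero] at h
        exact ⟨h.resolve_right hv0, hb⟩
      · exfalso
        have hTv : T *ᵥ v = (-(b⁻¹ * a)) • v := by
          rw [neg_smul, ← smul_smul, eq_neg_iff_add_eq_zero]
          calc T *ᵥ v + b⁻¹ • a • v = b⁻¹ • (a • v + b • T *ᵥ v) := by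
                rw [smul_add, inv_smul_smul₀ hb, add_comm]
            _ = 0 := by rw [h, smul_zero]
        have h1 := hTT v
        rw [hTv, Matrix.mulVec_smul, hTv, smul_smul, smul_smul, ← sub_smul, eq_comm, ← sub_eq_zero, ← sub_smul,
          smul_eq_zero] at h1
        exact hroot (-(b⁻¹ * a)) (by linear_combination -(h1.resolve_right hv0))
    have hdim : finrank F (Submodule.span F ({v, T *ᵥ v} : Set (ι → F))) = 2 := by
      have := finrank_span_eq_card hind
      rwa [Matrix.range_cons_cons_empty, Fintype.card_fin] at this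
    have hPU : Submodule.span F ({v, T *ᵥ v} : Set (ι → F)) = U := Submodule.eq_of_le_of_finrank_le
      (Submodule.span_le.2 (by
        rintro x (rfl | rfl)
        · exact hWU hv
        · exact hT _ (hWU hv))) (by omega)
    obtain ⟨-, y, hy, hvy⟩ := hU v (hWU hv) hv0
    refine hvy ?_
    rw [← hPU] at hy
    have h1 : Q (v + y) = 0 := hall _ (Submodule.add_mem _ (Submodule.subset_span (Set.mem_insert _ _)) hy)
    rw [QuadraticMap.polar, h1, hall y hy, hW v hv, sub_zero, sub_zero]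
  | succ j ih =>
    intro U hd hU hT
    obtain ⟨v, hv, hQv⟩ : ∃ v ∈ U, Q v ≠ 0 := by
      by_contra hno
      push Not at hno
      obtain ⟨v, hv, hv0⟩ := Submodule.exists_mem_ne_zero_of_ne_bot (p := U) fun h => by
        rw [h, finrank_bot] at hd; omega
      obtain ⟨-, y, hy, hvy⟩ := hU v hv hv0
      exact hvy (by rw [QuadraticMap.polar, hno _ (U.add_mem hv hy), hno v hv, hno y hy, sub_zero, sub_zero])
    let P := Submodule.span F ({v, T *ᵥ v} : Set (ι → F))
    have hval : ∀ a b : F, Q (a • v + b • T *ᵥ v) = (a ^ 2 + τ * a * b + N * b ^ 2) * Q v := fun a b => by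
      rw [QuadraticMap.map_add ⇑Q, QuadraticMap.map_smul, QuadraticMap.map_smul, QuadraticMap.polar_smul_left,
        QuadraticMap.polar_smul_right, hquad, htr]
      simp only [smul_eq_mul]
      ring
    have hB1 : ∀ a b : F, B (a • v + b • T *ᵥ v) v = (2 * a + τ * b) * Q v ∧
        B (a • v + b • T *ᵥ v) (T *ᵥ v) = (τ * a + 2 * N * b) * Q v := fun a b => by
      simp only [QuadraticMap.polar_add_left, QuadraticMap.polar_smul_left, QuadraticMap.polar_comm _ (T *ᵥ v) v,
        htr, polar_two, hquad, smul_eq_mul]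
      constructor <;> ring
    have haniso : ∀ a b : F, Q (a • v + b • T *ᵥ v) = 0 → a = 0 ∧ b = 0 := fun a b h => by
      rw [hval, mul_eq_zero, or_iff_left hQv] at h
      by_cases hb : b = 0
      · subst hb; exact ⟨by simpa using h, rfl⟩
      · exact absurd (by field_simp; linear_combination h : (-(a / b)) ^ 2 - τ * (-(a / b)) + N = 0) (hroot _)
    have hvP : v ∈ P := Submodule.subset_span (Set.mem_insert _ _)
    have hTvP : T *ᵥ v ∈ P := Submodule.subset_span (Set.mem_insert_of_mem _ rfl)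
    have hP : IsNondegenerateOn B P := by
      intro x hx hx0
      obtain ⟨a, b, rfl⟩ := Submodule.mem_span_pair.1 hx
      suffices h : ∃ y ∈ P, B (a • v + b • T *ᵥ v) y ≠ 0 by
        obtain ⟨y, hy, hne⟩ := h
        exact ⟨⟨y, hy, by rwa [QuadraticMap.polar_comm]⟩, y, hy, hne⟩
      by_contra hno
      push Not at hno
      have h1 := hno v hvP
      have h2 := hno _ hTvP
      rw [(hB1 a b).1, mul_eq_zero, or_iff_left hQv] at h1
      rw [(hB1 a b).2, mul_eq_zero, or_iff_left hQv] at h2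
      have hb : b = 0 := (mul_eq_zero.1 (show (4 * N - τ ^ 2) * b = 0 by
        linear_combination 2 * h2 - τ * h1)).resolve_left hdet
      have ha : a = 0 := (mul_eq_zero.1 (show (4 * N - τ ^ 2) * a = 0 by
        linear_combination 2 * N * h1 - τ * h2)).resolve_left hdet
      exact hx0 (by rw [ha, hb]; simp)
    have hPU : P ≤ U := Submodule.span_le.2 (by
      rintro x (rfl | rfl)
      · exact hv
      · exact hT _ hv)
    have hli : LinearIndependent F ![v, T *ᵥ v] := LinearIndependent.pair_iff.2 fun a b h =>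
      haniso a b (by rw [h, QuadraticMap.map_zero])
    have hPd : finrank F P = 2 * (0 + 1) := by
      have := finrank_span_eq_card hli
      rw [Matrix.range_cons_cons_empty, Fintype.card_fin] at this
      simpa [P] using this
    obtain ⟨U', hU'le, hU', hU'nd, hsup, hinf, hdim⟩ := exists_complement hQ hU hP hPU
    have hTP : ∀ p ∈ P, T *ᵥ p ∈ P := fun p hp => by
      obtain ⟨a, b, rfl⟩ := Submodule.mem_span_pair.1 hp
      rw [Matrix.mulVec_add, Matrix.mulVec_smul, Matrix.mulVec_smul, hTT]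
      exact P.add_mem (P.smul_mem _ hTvP) (P.smul_mem _ (P.sub_mem (P.smul_mem _ hTvP) (P.smul_mem _ hvP)))
    have hpol : ∀ x y, B (T *ᵥ x) (T *ᵥ y) = N * B x y := fun x y => by
      simp only [QuadraticMap.polar, ← Matrix.mulVec_add, hquad]; ring
    have hTU' : ∀ x ∈ U', T *ᵥ x ∈ U' := by
      intro x hx
      obtain ⟨hxU, hxP⟩ := (hU' x).1 hx
      refine (hU' _).2 ⟨hT x hxU, fun p hp => ?_⟩
      have h1 : p = T *ᵥ (N⁻¹ • (τ • p - T *ᵥ p)) := by
        rw [Matrix.mulVec_smul, Matrix.mulVec_sub, Matrix.mulVec_smul, hTT]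
        rw [show τ • T *ᵥ p - (τ • T *ᵥ p - N • p) = N • p by abel, inv_smul_smul₀ hN]
      rw [h1, hpol, hxP _ (P.smul_mem _ (P.sub_mem (P.smul_mem _ hp) (hTP p hp))), mul_zero]
    have hU'd : finrank F U' = 2 * (j + 1) := by omega
    have hS : (QuadraticMap.polarBilin (EvenType.res Q U)).Nondegenerate := EvenType.nondeg_res_on hU
    rw [← EvenType.plus_res_iff, EvenType.plus_sub hsup hinf (fun a ha b hb => by
      rw [QuadraticMap.polar_comm]; exact ((hU' b).1 hb).2 a ha) hS hPd hU'd, EvenType.plus_res_iff,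
      EvenType.plus_res_iff, ih U' hU'd hU'nd hTU', Nat.even_add_one (n := j + 1)]
    have hnp : ¬ IsPlusTypeOn ⇑Q P := by
      rintro ⟨W, hWP, hW, hWd⟩
      obtain ⟨x, hx, hx0⟩ := Submodule.exists_mem_ne_zero_of_ne_bot (p := W) fun h => by
        rw [h, finrank_bot] at hWd; omega
      obtain ⟨a, b, rfl⟩ := Submodule.mem_span_pair.1 (hWP hx)
      obtain ⟨ha, hb⟩ := haniso a b (hW _ hx)
      exact hx0 (by rw [ha, hb]; simp)
    simp [hnp]

theorem herm_type_top (hQ : (QuadraticMap.polarBilin Q).Nondegenerate) {T : Mn} {τ N : F}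
    (hsq : T * T = τ • T - N • (1 : Mn)) (hroot : ∀ x : F, x ^ 2 - τ * x + N ≠ 0)
    (hquad : ∀ v, Q (T *ᵥ v) = N * Q v) (htr : ∀ v, B v (T *ᵥ v) = τ * Q v) {j : ℕ}
    (hn : Fintype.card ι = 2 * (j + 1)) : IsPlusTypeOn ⇑Q (⊤ : Submodule F (ι → F)) ↔ Even (j + 1) :=
  herm_type hQ T τ N hsq hroot hquad htr j ⊤ (by rw [finrank_top, Module.finrank_pi, hn])
    (fun v _ hv => by
      obtain ⟨x, hx⟩ := nd_left hQ hv
      exact ⟨⟨x, trivial, by rwa [QuadraticMap.polar_comm]⟩, x, trivial, hx⟩)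
    fun _ _ => trivial

/-- A skew map with scalar square gives plus type when four divides the dimension. -/
theorem skew_scalar_plus (h2 : (2 : F) ≠ 0) (hQ : (QuadraticMap.polarBilin Q).Nondegenerate) {T : Mn}
    (hT : adj (RingEquiv.refl F) (gQ Q) T = -T) {δ : F} (hδ : δ ≠ 0) (hsq : T * T = δ • (1 : Mn))
    (h4 : 4 ∣ Fintype.card ι) (hn : 0 < Fintype.card ι) : IsPlusTypeOn ⇑Q (⊤ : Submodule F (ι → F)) := by
  have hG := refl_gQ hQ
  have hskew : ∀ u v, B (T *ᵥ u) v = -B u (T *ᵥ v) := fun u v => by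
    rw [← form_eq, hG.form_left, hT, Matrix.neg_mulVec, form_eq, QuadraticMap.polar_neg_right]
  have hTT : ∀ v, T *ᵥ (T *ᵥ v) = δ • v := fun v => by
    rw [Matrix.mulVec_mulVec, hsq, Matrix.smul_mulVec, Matrix.one_mulVec]
  by_cases hs : ∃ c, c * c = δ
  · obtain ⟨c, hc⟩ := hs
    have hc0 : c ≠ 0 := fun h => hδ (by rw [← hc, h, mul_zero])
    let E : F → Submodule F (ι → F) := fun s => LinearMap.ker (Matrix.toLin' T - s • LinearMap.id)
    have hE : ∀ s v, v ∈ E s ↔ T *ᵥ v = s • v := fun s v => by simp [E, sub_eq_zero]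
    have hiso : ∀ s, s ≠ 0 → ∀ u ∈ E s, ∀ v ∈ E s, B u v = 0 := fun s hs u hu v hv => by
      have h := hskew u v
      rw [(hE s u).1 hu, (hE s v).1 hv, QuadraticMap.polar_smul_left, QuadraticMap.polar_smul_right, smul_eq_mul] at h
      exact (mul_eq_zero.1 (show (2 * s) * B u v = 0 by linear_combination h)).resolve_left (mul_ne_zero h2 hs)
    have hsup : E c ⊔ E (-c) = ⊤ := eq_top_iff.2 fun v _ => by
      refine Submodule.mem_sup.2 ⟨(2 * c)⁻¹ • (c • v + T *ᵥ v), (hE _ _).2 ?_, (2 * c)⁻¹ • (c • v - T *ᵥ v),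
        (hE _ _).2 ?_, ?_⟩
      · rw [Matrix.mulVec_smul, Matrix.mulVec_add, Matrix.mulVec_smul, hTT, ← hc, smul_comm c ((2 * c)⁻¹)]
        module
      · rw [Matrix.mulVec_smul, Matrix.mulVec_sub, Matrix.mulVec_smul, hTT, ← hc, smul_comm (-c) ((2 * c)⁻¹)]
        module
      · rw [← smul_add, show c • v + T *ᵥ v + (c • v - T *ᵥ v) = (2 * c) • v by module,
          inv_smul_smul₀ (mul_ne_zero h2 hc0)]
    have h1 := Submodule.finrank_sup_add_finrank_inf_eq (E c) (E (-c))
    rw [hsup, finrank_top, Module.finrank_pi] at h1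
    have h3 := isotropic_dim hQ (hiso c hc0)
    have h5 := isotropic_dim hQ (hiso (-c) (neg_ne_zero.2 hc0))
    refine plus_of_half (U := E c) (fun u hu => ?_) (by omega)
    have h := hiso c hc0 u hu u hu
    rw [polar_two] at h
    exact (mul_eq_zero.1 h).resolve_left h2
  · push Not at hs
    obtain ⟨i, hi⟩ := h4
    have hBTv : ∀ v, B v (T *ᵥ v) = 0 := fun v => by
      have h := hskew v v
      rw [QuadraticMap.polar_comm] at h
      exact (mul_eq_zero.1 (show (2 : F) * B v (T *ᵥ v) = 0 by linear_combination h)).resolve_left h2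
    have hquad : ∀ v, Q (T *ᵥ v) = (-δ) * Q v := fun v => by
      refine mul_left_cancel₀ h2 ?_
      rw [← polar_two, hskew, hTT, QuadraticMap.polar_smul_right, smul_eq_mul, polar_two]
      ring
    refine (herm_type_top hQ (T := T) (τ := 0) (N := -δ) (by rw [hsq, zero_smul, zero_sub, neg_smul, neg_neg])
      (fun x hx => hs x (by linear_combination hx)) hquad (fun v => by rw [hBTv, zero_mul])
      (j := 2 * i - 1) (by omega)).2 ⟨i, by omega⟩

end Cfsg.Agent.Classical.AschEven
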