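import Cfsg.Agent.Lib.Classical.AschFormRational

/-!
Groups of similitudes whose minimal normal subgroup is abelian modulo scalars.
-/

set_option autoImplicit false
set_option linter.unusedSectionVars false
set_option linter.unusedFintypeInType false
set_option linter.unusedDecidableInType false

namespace Cfsg.Agent.Classical.Asch

open Matrix Module Cfsg.Geo
open scoped Pointwise commutatorElement

variable {F : Type*} [Field F] {ι : Type} [Fintype ι] [DecidableEq ι] {σ : F ≃+* F} {G : Matrix ι ι F}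
  {H N : Subgroup (GL ι F)}

/-- A minimal subgroup abelian modulo scalars has prime exponent modulo scalars. -/
theorem exists_abData [Fintype F] [Nonempty ι] (h2 : 2 ≤ Fintype.card ι) (hN : AI N) (hscal : scalars ι F ≤ N)
    (hn : Norms H N)
    (hmin : ∀ N' : Subgroup (GL ι F), scalars ι F ≤ N' → N' ≤ N → Norms H N' → N' = scalars ι F ∨ N' = N)
    (hcomm : Scal N) : ∃ r, AbData N r := by
  classical
  have hns := AbData.not_le h2 hN
  obtain ⟨x, hx, hxs⟩ := SetLike.not_le_iff_exists.1 hns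
  have hfin : ∃ d, 0 < d ∧ x ^ d ∈ scalars ι F :=
    ⟨orderOf x, orderOf_pos x, by rw [pow_orderOf_eq_one]; exact one_mem _⟩
  obtain ⟨hd0, hdm⟩ := Nat.find_spec hfin
  set d := Nat.find hfin with hd
  have hd1 : d ≠ 1 := fun h1 => hxs (by simpa [h1] using hdm)
  set r := d.minFac with hr
  have hrp : r.Prime := Nat.minFac_prime hd1
  obtain ⟨k, hk⟩ : r ∣ d := Nat.minFac_dvd d
  have hy : x ^ k ∉ scalars ι F := fun hmem => by
    have hk0 : 0 < k := Nat.pos_of_ne_zero fun h0 => by rw [h0, mul_zero] at hk; omega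
    have hkd : k < d := by
      rw [hk]
      exact lt_mul_of_one_lt_left hk0 hrp.one_lt
    exact Nat.find_min hfin hkd ⟨hk0, hmem⟩
  let K : Subgroup (GL ι F) :=
    { carrier := {z | z ∈ N ∧ z ^ r ∈ scalars ι F}
      mul_mem' := fun {a b} ha hb => by
        obtain ⟨c, hc⟩ := hcomm a ha.1 b hb.1
        exact ⟨N.mul_mem ha.1 hb.1, by
          rw [scal_mul_pow hc]
          exact mul_mem (sc_mem _) (mul_mem ha.2 hb.2)⟩
      one_mem' := ⟨N.one_mem, by rw [one_pow]; exact one_mem _⟩
      inv_mem' := fun {a} ha => ⟨N.inv_mem ha.1, by rw [inv_pow]; exact inv_mem ha.2⟩ }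
  have hK : K = N := by
    refine (hmin K (fun z hz => ⟨hscal hz, pow_mem hz r⟩) (fun z hz => hz.1) (fun h hh z hz =>
      ⟨hn h hh z hz.1, by rw [conj_pow]; exact scalars_normal.conj_mem _ hz.2 h⟩)).resolve_left fun h0 => ?_
    exact hy (h0 ▸ (⟨N.pow_mem hx k, by rw [← pow_mul, mul_comm, ← hk]; exact hdm⟩ : x ^ k ∈ K))
  have hpow : ∀ z ∈ N, z ^ r ∈ scalars ι F := fun z hz => (hK ▸ hz : z ∈ K).2
  obtain ⟨p, hp⟩ := CharP.exists F
  haveI := hp
  obtain ⟨⟨e, he0⟩, hpr, hq⟩ := FiniteField.card F p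
  haveI : Fact p.Prime := ⟨hpr⟩
  refine ⟨r, hN, hscal, hcomm, hrp, hpow, fun h0 => ?_⟩
  have hrp' : r = p := ((hrp.eq_one_or_self_of_dvd p ((CharP.cast_eq_zero_iff F p r).1 h0)).resolve_left
    hpr.one_lt.ne').symm
  refine hns fun a ha => hN.mem_scalars fun b hb => ?_
  obtain ⟨c, hc⟩ := hcomm a ha b hb
  obtain ⟨t, ht⟩ := exists_sc (hpow b hb)
  have h1 := scal_pow_swap hc r
  rw [ht, (sc_comm t a).eq] at h1
  have hcr : c ^ r = 1 := sc_injective (ι := ι) (by rw [map_one]; exact (right_eq_mul.1 h1 :))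
  have hc1 : (c : F) = 1 := by
    have h2 : ((c : F) - 1) ^ p = 0 := by
      rw [sub_pow_char, one_pow, ← hrp', ← Units.val_pow_eq_pow_val, hcr, Units.val_one, sub_self]
    exact sub_eq_zero.1 (eq_zero_of_pow_eq_zero h2)
  rw [show c = 1 from Units.ext hc1, map_one, one_mul] at hc
  exact hc.symm

/-- Commutator scalars of similitudes have norm one. -/
theorem scalar_norm_one [Nonempty ι] (hG : Refl σ G) (hN : Sims σ N G) {x y : GL ι F} (hx : x ∈ N) (hy : y ∈ N)
    {c : Fˣ} (hc : y * x = sc c * (x * y)) : (c : F) * σ (c : F) = 1 := by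
  obtain ⟨a, ha⟩ := hN x hx
  obtain ⟨b, hb⟩ := hN y hy
  have h1 := congrArg (fun g : GL ι F => (g : Matrix ι ι F)ᵀ * (G * (g : Matrix ι ι F).map σ)) hc
  simp only [Units.val_mul, sc_coe, Matrix.smul_mul, one_mul, Matrix.transpose_mul, Matrix.map_mul,
    Matrix.transpose_smul, map_smul_mat, Matrix.mul_smul] at h1
  rw [show (x : Matrix ι ι F)ᵀ * (y : Matrix ι ι F)ᵀ * (G * ((y : Matrix ι ι F).map σ * (x : Matrix ι ι F).map σ)) =
    (x : Matrix ι ι F)ᵀ * (((y : Matrix ι ι F)ᵀ * (G * (y : Matrix ι ι F).map σ)) * (x : Matrix ι ι F).map σ) by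
      simp [mul_assoc],
    show (y : Matrix ι ι F)ᵀ * (x : Matrix ι ι F)ᵀ * (G * ((x : Matrix ι ι F).map σ * (y : Matrix ι ι F).map σ)) =
    (y : Matrix ι ι F)ᵀ * (((x : Matrix ι ι F)ᵀ * (G * (x : Matrix ι ι F).map σ)) * (y : Matrix ι ι F).map σ) by
      simp [mul_assoc], hb, ha] at h1
  simp only [Matrix.smul_mul, Matrix.mul_smul, ha, hb, smul_smul] at h1
  obtain ⟨i, j, hij⟩ : ∃ i j, G i j ≠ 0 := by
    by_contra hno
    push Not at hno
    exact not_isUnit_zero ((Matrix.ext hno : G = 0) ▸ hG.unit)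
  have h2 := mul_right_cancel₀ hij (congrFun (congrFun h1 i) j :)
  have h3 : ((a : F) * b) * 1 = ((a : F) * b) * ((c : F) * σ (c : F)) := by linear_combination h2
  exact (mul_left_cancel₀ (mul_ne_zero a.ne_zero b.ne_zero) h3).symm

/-- An exact twisted intertwiner of an absolutely irreducible group gives a rational basis. -/
theorem rational_of_exact [Fintype F] [Nonempty ι] (τ : RingAut F) (g : GL ι F) {P : Subgroup (GL ι F)}
    (hP : AI P) (hrel : ∀ x ∈ P, x = g * Descent.gmap τ x * g⁻¹) :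
    ∃ B : GL ι F, ∀ x ∈ P, ∀ i j, cj B (x : Matrix ι ι F) i j ∈ fixField τ := by
  have hiter : ∀ k, ∀ x ∈ P, x = Descent.twistNorm τ g k * Descent.gmap (τ ^ k : RingAut F) x *
      (Descent.twistNorm τ g k)⁻¹ := by
    intro k
    induction k with
    | zero => intro x _; simp [Descent.twistNorm, Descent.gmap_one]
    | succ k ih =>
      intro x hx
      conv_lhs => rw [hrel x hx, ih x hx]
      rw [map_mul, map_mul, map_inv, Descent.gmap_gmap, ← pow_succ', Descent.twistNorm]
      group
  obtain ⟨c, hc⟩ := exists_sc (hP.mem_scalars (g := Descent.twistNorm τ g (orderOf τ)) fun x hx => by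
    have := hiter (orderOf τ) x hx
    rw [pow_orderOf_eq_one, Descent.gmap_one] at this
    exact (eq_mul_inv_iff_mul_eq.1 this).symm)
  have hsc : Descent.twistNorm τ g (orderOf τ) = Matrix.GeneralLinearGroup.scalar ι c := by
    rw [hc]; exact Units.ext (by rw [Matrix.GeneralLinearGroup.coe_scalar]; rfl)
  obtain ⟨B, hB⟩ := rational_of_twist τ g hsc P fun x hx => ⟨1, by rw [map_one, one_mul]; exact hrel x hx⟩
  exact ⟨B, fun x hx => (hB x hx).1 (hrel x hx)⟩

/-- A root group with scalars fixed by an automorphism is rational over its fixed field. -/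
theorem RootData.rational_fixed [Fintype F] [Nonempty ι] {R : Subgroup (GL ι F)} {r E : ℕ} (h : RootData N R E)
    (hN : AbData N r) (τ : RingAut F) (hfix : ∀ c : Fˣ, (sc c : GL ι F) ∈ R → τ (c : F) = c) :
    ∃ B : GL ι F, ∀ x ∈ R, ∀ i j, cj B (x : Matrix ι ι F) i j ∈ fixField τ := by
  classical
  haveI : Fintype (N ⧸ scalIn N) := Fintype.ofFinite _
  have hchoice : ∀ q : N ⧸ scalIn N, ∃ y ∈ R, ∃ d : Fˣ, y = sc d * rep q := by
    intro q
    obtain ⟨y, hy, c, hc⟩ := h.gen _ (rep_mem q)
    exact ⟨y, hy, c⁻¹, by rw [hc, ← mul_assoc, ← map_mul, inv_mul_cancel, map_one, one_mul]⟩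
  choose X hXR d hd using hchoice
  have hXmk : ∀ q, QuotientGroup.mk (s := scalIn N) (⟨X q, h.le (hXR q)⟩ : N) = q := by
    intro q
    conv_rhs => rw [← QuotientGroup.out_eq' q]
    rw [mk_eq_iff]
    show (X q)⁻¹ * rep q ∈ scalars ι F
    rw [hd, _root_.mul_inv_rev, mul_assoc, ← map_inv, (sc_comm _ _).eq, ← mul_assoc, inv_mul_cancel, one_mul]
    exact sc_mem _
  let M : Matrix ι ι F → Matrix ι ι F := fun B₀ =>
    ∑ q, (X q : Matrix ι ι F).map τ * (B₀ * (((X q)⁻¹ : GL ι F) : Matrix ι ι F))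
  have hfixM : ∀ B₀, ∀ y ∈ R, (y : Matrix ι ι F).map τ * M B₀ = M B₀ * (y : Matrix ι ι F) := by
    intro B₀ y hy
    simp only [M, Finset.sum_mul, Finset.mul_sum]
    refine Fintype.sum_equiv (Equiv.mulLeft (QuotientGroup.mk (s := scalIn N) (⟨y, h.le hy⟩ : N))) _ _ fun q => ?_
    set q' := Equiv.mulLeft (QuotientGroup.mk (s := scalIn N) (⟨y, h.le hy⟩ : N)) q with hq'
    have hmk : QuotientGroup.mk (s := scalIn N) (⟨X q', h.le (hXR q')⟩ : N) =
        QuotientGroup.mk (s := scalIn N) (⟨y * X q, h.le (R.mul_mem hy (hXR q))⟩ : N) := by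
      have h9 : (⟨y * X q, h.le (R.mul_mem hy (hXR q))⟩ : N) = ⟨y, h.le hy⟩ * ⟨X q, h.le (hXR q)⟩ := rfl
      rw [hXmk, h9, QuotientGroup.mk_mul, hXmk]
      exact hq'
    rw [mk_eq_iff] at hmk
    obtain ⟨ζ, hζ⟩ := exists_sc hmk
    have hζR : (sc ζ : GL ι F) ∈ R := hζ ▸ R.mul_mem (R.inv_mem (hXR q')) (R.mul_mem hy (hXR q))
    have hz := hfix ζ hζR
    have hyX : y * X q = sc ζ * X q' := by
      rw [(sc_comm ζ (X q')).eq, ← hζ]
      show y * X q = X q' * ((X q')⁻¹ * (y * X q))
      group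
    have h1 : (y : Matrix ι ι F).map τ * (X q : Matrix ι ι F).map τ = (ζ : F) • (X q' : Matrix ι ι F).map τ := by
      rw [← Matrix.map_mul, ← Units.val_mul, hyX, Units.val_mul, sc_coe, Matrix.smul_mul, one_mul, map_smul_mat, hz]
    have h2 : (((X q)⁻¹ : GL ι F) : Matrix ι ι F) = (((X q')⁻¹ : GL ι F) : Matrix ι ι F) *
        (((ζ⁻¹ : Fˣ) : F) • (y : Matrix ι ι F)) := by
      have h3 : (X q)⁻¹ = (X q')⁻¹ * (sc ζ⁻¹ * y) := by
        calc (X q)⁻¹ = (y * X q)⁻¹ * y := by group
          _ = _ := by rw [hyX, _root_.mul_inv_rev, mul_assoc, map_inv]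
      rw [h3, Units.val_mul, Units.val_mul, sc_coe, Matrix.smul_mul, one_mul]
    calc (y : Matrix ι ι F).map τ * ((X q : Matrix ι ι F).map τ * (B₀ * (((X q)⁻¹ : GL ι F) : Matrix ι ι F)))
        = ((y : Matrix ι ι F).map τ * (X q : Matrix ι ι F).map τ) * (B₀ * (((X q)⁻¹ : GL ι F) : Matrix ι ι F)) := by
          simp [mul_assoc]
      _ = _ := by
          rw [h1, h2]
          simp only [Matrix.mul_smul, Matrix.smul_mul, smul_smul, mul_assoc, ← Units.val_mul, inv_mul_cancel,
            mul_inv_cancel, Units.val_one, one_smul]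
  obtain ⟨B₀, hB₀⟩ : ∃ B₀, M B₀ ≠ 0 := by
    by_contra hno
    push Not at hno
    obtain ⟨hli, -⟩ := basis_spec hN
    rw [Fintype.linearIndependent_iff] at hli
    have hinvrep : ∀ q : N ⧸ scalIn N, ∃ c : Fˣ, (X q)⁻¹ = sc c * rep q⁻¹ := fun q => by
      obtain ⟨c, hc⟩ := rep_eq (N := N) (N.inv_mem (h.le (hXR q)))
      refine ⟨c, ?_⟩
      rw [show QuotientGroup.mk (s := scalIn N) (⟨(X q)⁻¹, N.inv_mem (h.le (hXR q))⟩ : N) = q⁻¹ by
        rw [show (⟨(X q)⁻¹, N.inv_mem (h.le (hXR q))⟩ : N) = (⟨X q, h.le (hXR q)⟩ : N)⁻¹ from rfl,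
          QuotientGroup.mk_inv, hXmk]] at hc
      exact hc
    choose e he using hinvrep
    let q₀ : N ⧸ scalIn N := 1
    obtain ⟨k, l, hkl⟩ : ∃ k l, (X q₀ : Matrix ι ι F) k l ≠ 0 := by
      by_contra hz
      push Not at hz
      exact (X q₀).ne_zero (Matrix.ext hz)
    have h3 := hli (fun q => τ ((X q⁻¹ : Matrix ι ι F) k l) * (e q⁻¹ : F)) ?_ q₀⁻¹
    · rw [inv_inv] at h3
      rcases mul_eq_zero.1 h3 with h4 | h4
      · exact hkl (by simpa using h4)
      · exact (e q₀).ne_zero h4
    · rw [← Equiv.sum_comp (Equiv.inv (N ⧸ scalIn N)) fun q =>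
        (τ ((X q⁻¹ : Matrix ι ι F) k l) * (e q⁻¹ : F)) • ((rep q : GL ι F) : Matrix ι ι F)]
      ext i j
      simp only [Equiv.inv_apply, inv_inv, Matrix.sum_apply, Matrix.smul_apply, smul_eq_mul, Matrix.zero_apply]
      have h5 := congrFun (congrFun (hno (Matrix.single l i 1)) k) j
      simp only [M, Matrix.sum_apply, Matrix.zero_apply] at h5
      rw [← h5]
      refine Finset.sum_congr rfl fun q _ => ?_
      rw [Matrix.mul_apply, Finset.sum_eq_single l (fun w _ hw => by
        rw [Matrix.single_mul_apply_of_ne (h := hw), mul_zero]) (fun h => absurd (Finset.mem_univ _) h),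
        Matrix.single_mul_apply_same, Matrix.map_apply, one_mul, he, Units.val_mul, sc_coe, Matrix.smul_mul, one_mul,
        Matrix.smul_apply, smul_eq_mul]
      ring
  have hai := h.ai hN.ai
  have hU : IsUnit (M B₀) := by
    apply Matrix.mulVec_injective_iff_isUnit.1
    rcases irr_iff.1 hai.irr (LinearMap.ker (Matrix.toLin' (M B₀))) (fun y hy v hv => by
      rw [LinearMap.mem_ker, Matrix.toLin'_apply] at hv ⊢
      rw [Matrix.mulVec_mulVec, ← hfixM B₀ y hy, ← Matrix.mulVec_mulVec, hv, Matrix.mulVec_zero]) with hb | ht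
    · intro a b hab
      exact LinearMap.ker_eq_bot.1 hb (by simpa [Matrix.toLin'_apply] using hab)
    · exact absurd (by simpa using congrArg LinearMap.toMatrix' (LinearMap.ker_eq_top.1 ht)) hB₀
  obtain ⟨u, hu⟩ := hU
  refine rational_of_exact τ u⁻¹ hai fun x hx => ?_
  have h1 : Descent.gmap τ x * u = u * x := Units.ext (by
    show (x : Matrix ι ι F).map τ * (u : Matrix ι ι F) = (u : Matrix ι ι F) * (x : Matrix ι ι F)
    rw [hu]; exact hfixM B₀ x hx)
  rw [inv_inv, mul_assoc, h1, inv_mul_cancel_left]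

/-- The class six data in the unitary case. -/
def UnitNormCase [Fintype F] (σ : F ≃+* F) (G : Matrix ι ι F) (H : Subgroup (GL ι F)) : Prop :=
  ∃ (r : ℕ) (R : Subgroup (GL ι F)) (p e k : ℕ), IsSymplecticTypeGroup r R ∧
    ActsAbsolutelyIrreducibly (matrixSet R) ∧ Sims σ R G ∧ r ≠ p ∧
    IsMinimalFieldFor (Nat.card (Subgroup.center R)) p e F ∧
    ((Odd r ∧ Nat.card (Subgroup.center R) = r ∧ 1 ≤ k ∧ Nat.card R = r ^ (1 + 2 * k)) ∨
     (r = 2 ∧ e = 2 ∧ Nat.card (Subgroup.center R) = 4 ∧ Nat.card R = 2 ^ (2 + 2 * k))) ∧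
    H ≤ subgroupNormalizer R ∧ Scal R ∧ Fintype.card ι = r ^ k

theorem le_normalizer_of_norms {R : Subgroup (GL ι F)} (h : Norms H R) : H ≤ subgroupNormalizer R := by
  intro g hg
  show g ∈ Subgroup.normalizer _
  rw [Subgroup.mem_normalizer_iff]
  exact fun z => ⟨h g hg z, fun hz => by simpa [mul_assoc] using h.inv_mem hg hz⟩

/-- A root group all of whose roots lie in a proper subfield gives a rational form. -/
theorem ratCase_of_small [Fintype F] [Nonempty ι] (hG : Refl σ G) (hNG : Sims σ N G) {r p e d E : ℕ}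
    [Fact p.Prime] [CharP F p]
    (hq : Fintype.card F = p ^ e) (hd0 : 0 < d) (hde : d < e) {R : Subgroup (GL ι F)} (hN : AbData N r)
    (hR : RootData N R E) (hRn : Norms H R) (hscal : ∀ z : Fˣ, z ^ E = 1 → (sc z : GL ι F) ∈ R) {ζ₀ : F}
    (hζ : IsPrimitiveRoot ζ₀ E) (hEF : (E : F) ≠ 0) (hdvd : E ∣ p ^ d - 1) : RatCase σ G H := by
  let F₀ : Subfield F := (RingHom.eqLocusField (iterateFrobenius F p d) (RingHom.id F))
  have hne : F₀ ≠ ⊤ := by
    intro htop
    classical
    have hall : ∀ x : F, x ^ p ^ d = x := fun x => by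
      have : x ∈ F₀ := htop ▸ Subfield.mem_top x
      exact this
    have h1 : 1 < p ^ d := Nat.one_lt_pow hd0.ne' (Fact.out : p.Prime).one_lt
    have h2 : Fintype.card F ≤ p ^ d := by
      rw [← Finset.card_univ]
      refine le_trans (Finset.card_le_card (t := (Polynomial.X ^ p ^ d - Polynomial.X : Polynomial F).roots.toFinset)
        fun x _ => ?_) ((Multiset.toFinset_card_le _).trans ((Polynomial.card_roots' _).trans
          (FiniteField.X_pow_card_sub_X_natDegree_eq F h1).le))
      rw [Multiset.mem_toFinset, Polynomial.mem_roots (FiniteField.X_pow_card_sub_X_ne_zero F h1)]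
      simp [hall x]
    rw [hq] at h2
    exact absurd h2 (not_le.2 (Nat.pow_lt_pow_right (Fact.out : p.Prime).one_lt hde))
  have hmem : ζ₀ ∈ F₀ := by
    show ζ₀ ^ p ^ d = ζ₀
    obtain ⟨t, ht⟩ := hdvd
    calc ζ₀ ^ p ^ d = ζ₀ ^ (p ^ d - 1) * ζ₀ := by
          rw [← pow_succ, Nat.sub_add_cancel (Nat.one_le_pow _ _ (Fact.out : p.Prime).pos)]
      _ = ζ₀ := by rw [ht, pow_mul, hζ.pow_eq_one, one_pow, one_mul]
  obtain ⟨B, hB⟩ := hR.realise hN hscal hζ hEF hmem
  refine ratCase_of_realised hG.unit hne (hR.ai hN.ai) hRn hB fun x hx => ?_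
  obtain ⟨μ, hμ⟩ := hNG x (hR.le hx)
  refine ⟨μ, ?_, hμ⟩
  have hk : ∀ k : ℕ, ((x ^ k : GL ι F) : Matrix ι ι F)ᵀ * (G * ((x ^ k : GL ι F) : Matrix ι ι F).map σ) =
      ((μ : F) ^ k) • G := by
    intro k
    induction k with
    | zero => simp
    | succ k ih =>
      rw [pow_succ, Units.val_mul, Matrix.transpose_mul, Matrix.map_mul,
        show (x : Matrix ι ι F)ᵀ * ((x ^ k : GL ι F) : Matrix ι ι F)ᵀ *
          (G * (((x ^ k : GL ι F) : Matrix ι ι F).map σ * (x : Matrix ι ι F).map σ)) =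
          (x : Matrix ι ι F)ᵀ * ((((x ^ k : GL ι F) : Matrix ι ι F)ᵀ *
            (G * ((x ^ k : GL ι F) : Matrix ι ι F).map σ)) * (x : Matrix ι ι F).map σ) by simp [mul_assoc],
        ih, Matrix.smul_mul, Matrix.mul_smul, hμ, smul_smul, pow_succ]
  have hμE : (μ : F) ^ E = 1 := by
    have h1 := hk E
    rw [hR.exp x hx] at h1
    obtain ⟨i, j, hij⟩ : ∃ i j, G i j ≠ 0 := by
      by_contra hno
      push Not at hno
      exact not_isUnit_zero ((Matrix.ext hno : G = 0) ▸ hG.unit)
    have h2 : G i j = (μ : F) ^ E * G i j := by simpa using congrFun (congrFun h1 i) j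
    exact (mul_right_cancel₀ hij (by rw [one_mul]; exact h2.symm))
  haveI : NeZero E := ⟨hR.pos.ne'⟩
  obtain ⟨i, -, hi⟩ := hζ.eq_pow_of_pow_eq_one hμE
  rw [← hi]
  exact pow_mem hmem i

set_option maxHeartbeats 1000000 in
/-- The abelian case for unitary groups. -/
theorem abelian_unitary [Fintype F] [Nonempty ι] (h2 : 2 ≤ Fintype.card ι) {q : ℕ} (hF : Fintype.card F = q ^ 2)
    (hσ : ∀ a, σ a = a ^ q) (hG : Refl σ G) (hNG : Sims σ N G) (hN : AI N) (hscal : scalars ι F ≤ N)
    (hn : Norms H N)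
    (hmin : ∀ N' : Subgroup (GL ι F), scalars ι F ≤ N' → N' ≤ N → Norms H N' → N' = scalars ι F ∨ N' = N)
    (hcomm : Scal N) : UnitNormCase σ G H ∨ RatCase σ G H := by
  classical
  obtain ⟨r, hD⟩ := exists_abData h2 hN hscal hn hmin hcomm
  have hrp := hD.prime
  haveI : Fact r.Prime := ⟨hrp⟩
  obtain ⟨x, hx, y, hy, c, hc1, hcr, hc⟩ := exists_noncomm h2 hD
  have hnorm := scalar_norm_one hG hNG hx hy hc
  rw [hσ, ← pow_succ'] at hnorm
  have hord : orderOf c = r := orderOf_eq_prime hcr hc1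
  have hrq : r ∣ q + 1 := by
    rw [← hord]
    exact orderOf_dvd_of_pow_eq_one (Units.ext (by rw [Units.val_pow_eq_pow_val, hnorm, Units.val_one]))
  obtain ⟨p, hp⟩ := CharP.exists F
  haveI := hp
  obtain ⟨⟨e, he0⟩, hpr, hq⟩ := FiniteField.card F p
  haveI : Fact p.Prime := ⟨hpr⟩
  have hqe : Fintype.card F = p ^ e := hq
  have hrnp : r ≠ p := fun h => hD.ne_char (by rw [h]; exact CharP.cast_eq_zero F p)
  by_cases hr2 : r = 2
  · subst hr2
    have htwo : (2 : F) ≠ 0 := by simpa using hD.ne_char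
    have hodd : Odd q := by
      rcases Nat.even_or_odd q with ⟨t, ht⟩ | h
      · omega
      · exact h
    obtain ⟨i, hi⟩ : ∃ i : F, i * i = -1 := by
      obtain ⟨i, hi⟩ := (FiniteField.isSquare_neg_one_iff (F := F)).2 (by
        obtain ⟨t, ht⟩ := hodd
        rw [hF, ht, show (2 * t + 1) ^ 2 = 4 * (t * t + t) + 1 by ring]
        omega)
      exact ⟨i, hi.symm⟩
    have hclosed : ∀ a ∈ N, ∀ b ∈ N, a ^ 4 = 1 → b ^ 4 = 1 → (a * b) ^ 4 = 1 := by
      intro a ha b hb ha4 hb4
      obtain ⟨d, hd1, hd⟩ := scal_pow hD ha hb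
      obtain ⟨s, hs⟩ := exists_sc (hD.pow_mem a ha)
      obtain ⟨t, ht⟩ := exists_sc (hD.pow_mem b hb)
      have hs2 : s ^ 2 = 1 := sc_injective (ι := ι) (by rw [map_pow, ← hs, ← pow_mul, map_one]; exact ha4)
      have ht2 : t ^ 2 = 1 := sc_injective (ι := ι) (by rw [map_pow, ← ht, ← pow_mul, map_one]; exact hb4)
      rw [show (4 : ℕ) = 2 * 2 from rfl, pow_mul, scal_mul_pow hd, hs, ht, ← map_mul, ← map_mul, ← map_pow,
        mul_pow, mul_pow, hs2, ht2, show Nat.choose 2 2 = 1 from rfl, pow_one, hd1, mul_one, mul_one, map_one]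
    let R := rootGroup N 4 hclosed
    have hRn : Norms H R := fun h hh z hz => ⟨hn h hh z hz.1, by rw [conj_pow, hz.2, mul_one, mul_inv_cancel]⟩
    have hroot : ∀ d : Fˣ, d ^ 2 = 1 → ∃ f : Fˣ, f ^ 2 = d ^ (2 : ℕ).choose 2 := fun d hd => by
      have hi0 : i ≠ 0 := fun h0 => by rw [h0, mul_zero] at hi; exact one_ne_zero (neg_eq_zero.1 hi.symm)
      have hd' : (d : F) * d = 1 := by rw [← pow_two, ← Units.val_pow_eq_pow_val, hd, Units.val_one]
      rw [show Nat.choose 2 2 = 1 from rfl, pow_one]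
      rcases mul_self_eq_one_iff.1 hd' with h1 | h1
      · exact ⟨1, Units.ext (by simp [h1])⟩
      · exact ⟨Units.mk0 i hi0, Units.ext (by simp [h1, pow_two, hi])⟩
    have hrep := exists_root_rep h2 hD hn hmin hroot
    have hRD : RootData N R 4 := ⟨fun z hz => hz.1, fun z hz => by
      obtain ⟨d, hd⟩ := hrep z hz
      refine ⟨sc d * z, ⟨N.mul_mem (hscal (sc_mem d)) hz, by rw [show (4 : ℕ) = 2 * 2 from rfl, pow_mul, hd,
        one_pow]⟩, d⁻¹, by rw [← mul_assoc, ← map_mul, inv_mul_cancel, map_one, one_mul]⟩, fun z hz => hz.2,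
      by norm_num⟩
    have hsc : ∀ z : Fˣ, z ^ 4 = 1 → (sc z : GL ι F) ∈ R := fun z hz =>
      ⟨hscal (sc_mem z), by rw [← map_pow, hz, map_one]⟩
    have hζ := exists_order_four h2 hD hRD hi
    have hz0 : i ≠ 0 := hζ.ne_zero (by norm_num)
    have hE4 : (4 : F) ≠ 0 := by rw [show (4 : F) = 2 * 2 by norm_num]; exact mul_ne_zero htwo htwo
    by_cases hsmall : ∃ d, 0 < d ∧ d < e ∧ 4 ∣ p ^ d - 1
    · obtain ⟨d', hd'0, hd'e, hd'⟩ := hsmall
      exact Or.inr (ratCase_of_small hG hNG hqe hd'0 hd'e hD hRD hRn hsc hζ (by simpa using hE4) hd')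
    push Not at hsmall
    have hord4 : orderOf (Units.mk0 i hz0) = 4 := by
      rw [← orderOf_units, Units.val_mk0]; exact hζ.eq_orderOf.symm
    have hdiv : 4 ∣ p ^ e - 1 := by
      rw [← hord4, ← hqe, ← Fintype.card_units]
      exact orderOf_dvd_card
    have hpodd : p % 2 = 1 := (hpr.eq_two_or_odd).resolve_left (Ne.symm hrnp)
    have he2 : e ≤ 2 := by
      by_contra h
      refine hsmall 2 (by norm_num) (by omega) ?_
      obtain ⟨t, ht⟩ : ∃ t, p = 2 * t + 1 := ⟨p / 2, by omega⟩
      rw [ht]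
      refine ⟨t * t + t, ?_⟩
      have : (2 * t + 1) ^ 2 = 4 * (t * t + t) + 1 := by ring
      omega
    have he1 : e ≠ 1 := fun h => by
      rw [h, pow_one] at hqe
      rw [hqe] at hF
      exact Nat.Prime.not_prime_pow le_rfl (hF ▸ hpr)
    obtain ⟨m, hm1, hst, hai, hm, hcen, hcard⟩ := symplecticType h2 hD hmin hRD hRn hsc hord4 rfl
    refine Or.inl ⟨2, R, p, e, m, hst, hai, hNG.mono hRD.le, hrnp, ⟨hpr, hp, hqe, ?_, ?_⟩,
      Or.inr ⟨rfl, by omega, hcen, ?_⟩, le_normalizer_of_norms hRn,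
      fun x hx y hy => hcomm x (hRD.le hx) y (hRD.le hy), hm⟩
    · rw [hcen]; exact hdiv
    · intro d' hd' hd'e; rw [hcen]; exact hsmall d' hd' hd'e
    · rw [hcard, pow_add]; norm_num
  · have hodd : Odd r := hrp.odd_of_ne_two hr2
    have hch : ∀ d : Fˣ, d ^ r = 1 → d ^ r.choose 2 = 1 := fun d hd => by
      have hdvd : r ∣ r.choose 2 :=
        hrp.dvd_choose_self (by norm_num) (lt_of_le_of_ne hrp.two_le (Ne.symm hr2))
      obtain ⟨t, ht⟩ := hdvd
      rw [ht, pow_mul, hd, one_pow]
    have hclosed : ∀ a ∈ N, ∀ b ∈ N, a ^ r = 1 → b ^ r = 1 → (a * b) ^ r = 1 := by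
      intro a ha b hb har hbr
      obtain ⟨d, hd1, hd⟩ := scal_pow hD ha hb
      rw [scal_mul_pow hd, har, hbr, hch d hd1, map_one, one_mul, one_mul]
    let R := rootGroup N r hclosed
    have hRn : Norms H R := fun h hh z hz => ⟨hn h hh z hz.1, by rw [conj_pow, hz.2, mul_one, mul_inv_cancel]⟩
    have hrep := exists_root_rep h2 hD hn hmin (fun d hd => ⟨1, by rw [one_pow, hch d hd]⟩)
    have hRD : RootData N R r := ⟨fun z hz => hz.1, fun z hz => by
      obtain ⟨d, hd⟩ := hrep z hz
      exact ⟨sc d * z, ⟨N.mul_mem (hscal (sc_mem d)) hz, hd⟩, d⁻¹,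
        by rw [← mul_assoc, ← map_mul, inv_mul_cancel, map_one, one_mul]⟩, fun z hz => hz.2, hrp.pos⟩
    have hsc : ∀ z : Fˣ, z ^ r = 1 → (sc z : GL ι F) ∈ R := fun z hz =>
      ⟨hscal (sc_mem z), by rw [← map_pow, hz, map_one]⟩
    have hζ : IsPrimitiveRoot (c : F) r := IsPrimitiveRoot.coe_units_iff.2 (hord ▸ IsPrimitiveRoot.orderOf c)
    have hdiv : r ∣ p ^ e - 1 := by
      rw [← hord, ← hqe, ← Fintype.card_units]
      exact orderOf_dvd_card
    by_cases hsmall : ∃ d, 0 < d ∧ d < e ∧ r ∣ p ^ d - 1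
    · obtain ⟨d', hd'0, hd'e, hd'⟩ := hsmall
      exact Or.inr (ratCase_of_small hG hNG hqe hd'0 hd'e hD hRD hRn hsc hζ hD.ne_char hd')
    push Not at hsmall
    have hgcd : Nat.gcd 2 r = 1 := Nat.coprime_two_left.2 hodd
    obtain ⟨m, hm1, hst, hai, hm, hcen, hcard⟩ :=
      symplecticType h2 hD hmin hRD hRn hsc hord (by rw [hgcd, mul_one])
    refine Or.inl ⟨r, R, p, e, m, hst, hai, hNG.mono hRD.le, hrnp, ⟨hpr, hp, hqe, ?_, ?_⟩,
      Or.inl ⟨hodd, hcen, hm1, ?_⟩, le_normalizer_of_norms hRn,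
      fun x hx y hy => hcomm x (hRD.le hx) y (hRD.le hy), hm⟩
    · rw [hcen]; exact hdiv
    · intro d' hd' hd'e; rw [hcen]; exact hsmall d' hd' hd'e
    · rw [hcard, pow_add, pow_one]

/-- No such group exists for a bilinear form in odd dimension or characteristic two. -/
theorem abelian_bilinear [Fintype F] [Nonempty ι] (h2 : 2 ≤ Fintype.card ι) {G : Matrix ι ι F}
    (hG : Refl (RingEquiv.refl F) G) (hNG : Sims (RingEquiv.refl F) N G) {r : ℕ} (hD : AbData N r) :
    r = 2 ∧ (2 : F) ≠ 0 ∧ Even (Fintype.card ι) := by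
  classical
  obtain ⟨x, hx, y, hy, c, hc1, hcr, hc⟩ := exists_noncomm h2 hD
  have hnorm := scalar_norm_one hG hNG hx hy hc
  have hr : r = 2 := by
    have hord : orderOf c = r := by haveI : Fact r.Prime := ⟨hD.prime⟩; exact orderOf_eq_prime hcr hc1
    have hd : r ∣ 2 := by
      rw [← hord]
      exact orderOf_dvd_of_pow_eq_one (Units.ext (by rw [pow_two, Units.val_mul]; exact hnorm))
    exact (Nat.prime_dvd_prime_iff_eq hD.prime Nat.prime_two).1 hd
  subst hr
  refine ⟨rfl, by simpa using hD.ne_char, ?_⟩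
  haveI : Fintype (N ⧸ scalIn N) := Fintype.ofFinite _
  haveI : Fact (Nat.Prime 2) := ⟨Nat.prime_two⟩
  obtain ⟨-, hcard⟩ := basis_spec hD
  obtain ⟨k, hk⟩ := (isPGroup_quot hD).exists_card_eq
  rw [Nat.card_eq_fintype_card, hcard] at hk
  by_contra hodd
  rw [Nat.not_even_iff_odd] at hodd
  rcases k with _ | k
  · rw [pow_zero, mul_eq_one] at hk; omega
  · exact Nat.not_even_iff_odd.2 (hodd.mul hodd) (hk ▸ (Nat.even_pow.2 ⟨even_two, Nat.succ_ne_zero k⟩))

/-- Commuting involutory self-adjoint matrices for an alternating form span a space of at most half the size. -/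
theorem span_commuting_le [Fintype F] {G : Matrix ι ι F} (hG : Refl (RingEquiv.refl F) G)
    (halt : ∀ u, formOfGram (RingEquiv.refl F) G u u = 0) (h2 : (2 : F) ≠ 0) (A : Finset (Matrix ι ι F))
    (hcomm : ∀ a ∈ A, ∀ b ∈ A, a * b = b * a) (hinv : ∀ a ∈ A, a * a = 1)
    (hself : ∀ a ∈ A, adj (RingEquiv.refl F) G a = a) :
    2 * finrank F (Submodule.span F (A : Set (Matrix ι ι F))) ≤ Fintype.card ι := by
  classical
  suffices H : ∀ s ⊆ A, ∃ (κ : Type) (_ : Fintype κ) (E : κ → Matrix ι ι F), (∀ c, E c * E c = E c) ∧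
      (∀ c d, c ≠ d → E c * E d = 0) ∧ ∑ c, E c = 1 ∧ (∀ c, adj (RingEquiv.refl F) G (E c) = E c) ∧
      (∀ c, ∀ a ∈ A, a * E c = E c * a) ∧ ∀ a ∈ s, a ∈ Submodule.span F (Set.range E) by
    obtain ⟨κ, _, E, hidem, horth, -, hsE, -, hspan⟩ := H A subset_rfl
    let T : Finset κ := Finset.univ.filter fun c => E c ≠ 0
    have hu : ∀ c : T, ∃ u w, E c *ᵥ u = u ∧ E c *ᵥ w = w ∧ formOfGram (RingEquiv.refl F) G u w ≠ 0 := by
      intro c
      obtain ⟨v₀, hv₀⟩ : ∃ v₀, E c *ᵥ v₀ ≠ 0 := by
        by_contra hno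
        push Not at hno
        exact (Finset.mem_filter.1 c.2).2 (Matrix.toLin'.injective (LinearMap.ext fun v => by simpa using hno v))
      obtain ⟨v, hv⟩ := (hG.nondeg _ hv₀).2
      refine ⟨E c *ᵥ v₀, E c *ᵥ v, by rw [Matrix.mulVec_mulVec, hidem], by rw [Matrix.mulVec_mulVec, hidem], ?_⟩
      rw [hG.form_right, hsE, Matrix.mulVec_mulVec, hidem]
      exact hv
    choose u w hu hw huw using hu
    let b : T ⊕ T → ι → F := Sum.elim u w
    have hs := sesq_formOfGram (RingEquiv.refl F) G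
    have hzero : ∀ c d : T, c ≠ d → ∀ x y, E c *ᵥ x = x → E d *ᵥ y = y →
        formOfGram (RingEquiv.refl F) G x y = 0 := fun c d hcd x y hx hy => by
      rw [← hx, hG.form_left, hsE, ← hy, Matrix.mulVec_mulVec, horth _ _ (fun h => hcd (Subtype.ext h)),
        Matrix.zero_mulVec]
      simp [formOfGram]
    have hli : LinearIndependent F b := by
      rw [Fintype.linearIndependent_iff]
      intro g hg
      have key : ∀ z, ∑ x, g x * formOfGram (RingEquiv.refl F) G (b x) z = 0 := fun z => by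
        have h1 : ∀ (s : Finset (T ⊕ T)), formOfGram (RingEquiv.refl F) G (∑ x ∈ s, g x • b x) z =
            ∑ x ∈ s, g x * formOfGram (RingEquiv.refl F) G (b x) z := fun s => by
          induction s using Finset.induction_on with
          | empty => simp [formOfGram]
          | insert a s ha ih => rw [Finset.sum_insert ha, Finset.sum_insert ha, hs.add_left, hs.smul_left, ih]
        rw [← h1, hg]
        simp [formOfGram]
      rintro (c | c)
      · have h1 := key (w c)
        rw [Finset.sum_eq_single (Sum.inl c) (fun x _ hx => ?_) (fun h => absurd (Finset.mem_univ _) h)] at h1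
        · exact (mul_eq_zero.1 h1).resolve_right (huw c)
        · rcases x with d | d
          · rw [show b (Sum.inl d) = u d from rfl, hzero d c (fun h => hx (by rw [h])) _ _ (hu d) (hw c), mul_zero]
          · by_cases hdc : d = c
            · subst hdc; rw [show b (Sum.inr d) = w d from rfl, halt, mul_zero]
            · rw [show b (Sum.inr d) = w d from rfl, hzero d c hdc _ _ (hw d) (hw c), mul_zero]
      · have h1 := key (u c)
        rw [Finset.sum_eq_single (Sum.inr c) (fun x _ hx => ?_) (fun h => absurd (Finset.mem_univ _) h)] at h1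
        · exact (mul_eq_zero.1 h1).resolve_right fun h => huw c (hG.symm h)
        · rcases x with d | d
          · by_cases hdc : d = c
            · subst hdc; rw [show b (Sum.inl d) = u d from rfl, halt, mul_zero]
            · rw [show b (Sum.inl d) = u d from rfl, hzero d c hdc _ _ (hu d) (hu c), mul_zero]
          · rw [show b (Sum.inr d) = w d from rfl, hzero d c (fun h => hx (by rw [h])) _ _ (hw d) (hu c), mul_zero]
    have hcard := hli.fintype_card_le_finrank
    rw [Fintype.card_sum, Module.finrank_fintype_fun_eq_card, Fintype.card_coe] at hcard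
    have hle : Submodule.span F (A : Set (Matrix ι ι F)) ≤ Submodule.span F ((T.image E : Finset _) : Set (Matrix ι ι F)) := by
      refine Submodule.span_le.2 fun a ha => ?_
      refine Submodule.span_le.2 ?_ (hspan a ha)
      rintro _ ⟨c, rfl⟩
      by_cases hc : E c = 0
      · rw [hc]; exact Submodule.zero_mem _
      · exact Submodule.subset_span (Finset.mem_coe.2 (Finset.mem_image.2 ⟨c, Finset.mem_filter.2
          ⟨Finset.mem_univ _, hc⟩, rfl⟩))
    have h3 := (Submodule.finrank_mono hle).trans ((finrank_span_finset_le_card _).trans Finset.card_image_le)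
    omega
  intro s
  induction s using Finset.induction_on with
  | empty =>
    intro _
    exact ⟨PUnit, inferInstance, fun _ => 1, fun _ => one_mul 1, fun c d h => absurd (Subsingleton.elim c d) h,
      by simp, fun _ => hG.adj_one, fun _ a _ => by simp, fun a ha => by simp at ha⟩
  | insert x s hx ih =>
    intro hsA
    have hxA : x ∈ A := hsA (Finset.mem_insert_self _ _)
    obtain ⟨κ, _, E, hidem, horth, hsum, hsE, hcE, hspan⟩ := ih fun a ha => hsA (Finset.mem_insert_of_mem ha)
    let E' : κ × Bool → Matrix ι ι F := fun c => E c.1 * ((2 : F)⁻¹ • (1 + (if c.2 then (1 : F) else -1) • x))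
    have hP : ∀ b b' : Bool, ((2 : F)⁻¹ • (1 + (if b then (1 : F) else -1) • x)) *
        ((2 : F)⁻¹ • (1 + (if b' then (1 : F) else -1) • x)) =
        if b = b' then ((2 : F)⁻¹ • (1 + (if b then (1 : F) else -1) • x)) else 0 := by
      intro b b'
      simp only [Matrix.smul_mul, Matrix.mul_smul, Matrix.add_mul, Matrix.mul_add, one_mul, mul_one, hinv x hxA]
      cases b <;> cases b' <;> simp only [if_true, if_false, Bool.false_eq_true, reduceCtorEq] <;>
        match_scalars <;> field_simp <;> ring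
    have hcomE : ∀ c (b : Bool), ((2 : F)⁻¹ • (1 + (if b then (1 : F) else -1) • x)) * E c =
        E c * ((2 : F)⁻¹ • (1 + (if b then (1 : F) else -1) • x)) := fun c b => by
      simp only [Matrix.smul_mul, Matrix.mul_smul, Matrix.add_mul, Matrix.mul_add, one_mul, mul_one, hcE c x hxA]
    have hmul : ∀ c d : κ × Bool, E' c * E' d = if c = d then E' c else 0 := by
      rintro ⟨c, b⟩ ⟨d, b'⟩
      show E c * _ * (E d * _) = _
      rw [mul_assoc, ← mul_assoc _ (E d), hcomE, mul_assoc (E d), hP, ← mul_assoc]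
      by_cases h1 : c = d
      · subst h1
        rw [hidem]
        by_cases h3 : b = b'
        · subst h3; rw [if_pos rfl, if_pos rfl]
        · rw [if_neg h3, mul_zero, if_neg fun h => h3 (congrArg Prod.snd h)]
      · rw [horth c d h1, zero_mul, if_neg fun h => h1 (congrArg Prod.fst h)]
    have hadd : ∀ c, E' (c, true) + E' (c, false) = E c := fun c => by
      show E c * _ + E c * _ = _
      rw [← Matrix.mul_add]
      conv_rhs => rw [← mul_one (E c)]
      congr 1
      simp only [if_true, Bool.false_eq_true, if_false]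
      rw [← smul_add, show (1 + (1 : F) • x) + (1 + (-1 : F) • x) = (2 : F) • (1 : Matrix ι ι F) by module,
        smul_smul, inv_mul_cancel₀ h2, one_smul]
    refine ⟨κ × Bool, inferInstance, E', fun c => by rw [hmul, if_pos rfl], fun c d h => by rw [hmul, if_neg h],
      ?_, fun c => ?_, fun c a ha => ?_, fun a ha => ?_⟩
    · rw [Fintype.sum_prod_type, ← hsum]
      exact Finset.sum_congr rfl fun c _ => by rw [Fintype.sum_bool]; exact hadd c
    · show adj (RingEquiv.refl F) G (E c.1 * _) = _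
      rw [hG.adj_mul, hG.adj_smul, hG.adj_add, hG.adj_one, hG.adj_smul, hsE, hself x hxA]
      exact hcomE c.1 c.2
    · show a * (E c.1 * _) = E c.1 * _ * a
      rw [← mul_assoc, hcE c.1 a ha, mul_assoc, mul_assoc]
      congr 1
      simp only [Matrix.smul_mul, Matrix.mul_smul, Matrix.add_mul, Matrix.mul_add, one_mul, mul_one,
        hcomm a ha x hxA]
    · rcases Finset.mem_insert.1 ha with rfl | ha
      · have hxE : a = ∑ c, (E' (c, true) - E' (c, false)) := by
          conv_lhs => rw [← one_mul a, ← hsum, Finset.sum_mul]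
          refine Finset.sum_congr rfl fun c _ => ?_
          show E c * a = E c * _ - E c * _
          rw [← Matrix.mul_sub]
          congr 1
          simp only [if_true, Bool.false_eq_true, if_false]
          rw [← smul_sub, show (1 + (1 : F) • a) - (1 + (-1 : F) • a) = (2 : F) • a by module, smul_smul,
            inv_mul_cancel₀ h2, one_smul]
        rw [hxE]
        exact Submodule.sum_mem _ fun c _ => Submodule.sub_mem _ (Submodule.subset_span ⟨_, rfl⟩)
          (Submodule.subset_span ⟨_, rfl⟩)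
      · refine Submodule.span_le.2 ?_ (hspan a ha)
        rintro _ ⟨c, rfl⟩
        rw [← hadd c]
        exact Submodule.add_mem _ (Submodule.subset_span ⟨_, rfl⟩) (Submodule.subset_span ⟨_, rfl⟩)

/-- The class six data in the symplectic case. -/
def SympNormCase [Fintype F] (G : Matrix ι ι F) (H : Subgroup (GL ι F)) : Prop :=
  ∃ (R : Subgroup (GL ι F)) (p k : ℕ), IsSymplecticTypeGroup 2 R ∧
    ActsAbsolutelyIrreducibly (matrixSet R) ∧ Fix (RingEquiv.refl F) R G ∧ p.Prime ∧ Odd p ∧ Fintype.card F = p ∧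
    Nat.card R = 2 ^ (1 + 2 * k) ∧ Nat.card (Subgroup.center R) = 2 ∧ IsOfMinusType k R ∧
    H ≤ subgroupNormalizer R ∧ Fintype.card ι = 2 ^ k

set_option maxHeartbeats 1000000 in
/-- The abelian case for symplectic groups. -/
theorem abelian_symplectic [Fintype F] [Nonempty ι] (h3 : 2 ≤ Fintype.card ι) {G : Matrix ι ι F}
    (hG : Refl (RingEquiv.refl F) G) (halt : ∀ u, formOfGram (RingEquiv.refl F) G u u = 0)
    (hH : Fix (RingEquiv.refl F) H G) (hN : AI N) (hscal : scalars ι F ≤ N) (hle : N ≤ H ⊔ scalars ι F)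
    (hn : Norms H N)
    (hmin : ∀ N' : Subgroup (GL ι F), scalars ι F ≤ N' → N' ≤ N → Norms H N' → N' = scalars ι F ∨ N' = N)
    (hcomm : Scal N) : SympNormCase G H ∨ RatCase (RingEquiv.refl F) G H := by
  classical
  have hNG : Sims (RingEquiv.refl F) N G := hH.sims.sup_scalars.mono hle
  obtain ⟨r, hD⟩ := exists_abData h3 hN hscal hn hmin hcomm
  obtain ⟨hr, htwo, -⟩ := abelian_bilinear h3 hG hNG hD
  subst hr
  let R : Subgroup (GL ι F) := N ⊓ H
  have hsc : ∀ c : Fˣ, (sc c : GL ι F) ∈ R → c ^ 2 = 1 := fun c hc => by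
    have h1 := hH _ hc.2
    rw [sc_coe, Matrix.transpose_smul, Matrix.transpose_one, map_smul_mat, Matrix.map_one _ (map_zero _) (map_one _),
      Matrix.smul_mul, one_mul, Matrix.mul_smul, mul_one, smul_smul] at h1
    obtain ⟨i, j, hij⟩ : ∃ i j, G i j ≠ 0 := by
      by_contra hno
      push Not at hno
      exact not_isUnit_zero ((Matrix.ext hno : G = 0) ▸ hG.unit)
    have h4 : (c : F) * c * G i j = G i j := congrFun (congrFun h1 i) j
    exact Units.ext (by rw [pow_two, Units.val_mul]; exact mul_right_cancel₀ hij (by rw [Units.val_one, one_mul]; exact h4))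
  have hRn : Norms H R := fun h hh z hz => ⟨hn h hh z hz.1, H.mul_mem (H.mul_mem hh hz.2) (H.inv_mem hh)⟩
  have hRD : RootData N R 4 := ⟨inf_le_left, fun z hz => by
    obtain ⟨h, hh, w, hw, rfl⟩ := exists_mul_scalar (hle hz)
    obtain ⟨d, rfl⟩ := exists_sc hw
    refine ⟨h, ⟨?_, hh⟩, d, (sc_comm d h).eq.symm⟩
    simpa using N.mul_mem hz (N.inv_mem (hscal hw)),
    fun z hz => by
      obtain ⟨d, hd⟩ := exists_sc (hD.pow_mem z hz.1)
      have h1 := hsc d (hd ▸ R.pow_mem hz 2)
      rw [show (4 : ℕ) = 2 * 2 from rfl, pow_mul, hd, ← map_pow, h1, map_one],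
    by norm_num⟩
  have hRai : AI R := hRD.ai hN
  obtain ⟨p, hp⟩ := CharP.exists F
  haveI := hp
  obtain ⟨⟨e, he0⟩, hpr, hq⟩ := FiniteField.card F p
  haveI : Fact p.Prime := ⟨hpr⟩
  have hqe : Fintype.card F = p ^ e := hq
  haveI : Finite F := inferInstance
  haveI : ExpChar F p := ExpChar.prime hpr
  haveI : PerfectRing F p := PerfectRing.ofFiniteOfIsReduced p F
  by_cases he1 : e = 1
  · left
    subst he1
    rw [pow_one] at hqe
    have hpodd : Odd p := hpr.odd_of_ne_two fun h => by
      subst h; exact htwo (by simpa using CharP.cast_eq_zero F 2)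
    have hneg : (sc (-1 : Fˣ) : GL ι F) ∈ R := by
      obtain ⟨x, hx, y, hy, c, hc1, hcr, hc⟩ := exists_noncomm h3 hD
      obtain ⟨x', hx', s, rfl⟩ := hRD.gen x hx
      obtain ⟨y', hy', t, rfl⟩ := hRD.gen y hy
      have hcm1 : c = -1 := by
        have hc2 : (c : F) * c = 1 := by rw [← Units.val_mul, ← pow_two, hcr, Units.val_one]
        exact Units.ext ((mul_self_eq_one_iff.1 hc2).resolve_left fun h => hc1 (Units.ext h))
      have h1 : ⁅sc t * y', sc s * x'⁆ = sc c := by
        rw [commutatorElement_def, hc, mul_assoc (sc c), mul_assoc (sc c)]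
        group
      rw [(sc_comm t y').eq, (sc_comm s x').eq, commutator_scalar_mul (sc_mem t) (sc_mem s), commutatorElement_def]
        at h1
      rw [← hcm1, ← h1]
      exact R.mul_mem (R.mul_mem (R.mul_mem hy' hx') (R.inv_mem hy')) (R.inv_mem hx')
    haveI : Fintype (N ⧸ scalIn N) := Fintype.ofFinite _
    haveI : Fact (Nat.Prime 2) := ⟨Nat.prime_two⟩
    obtain ⟨hli, hcardQ⟩ := basis_spec hD
    obtain ⟨k, hk⟩ := (isPGroup_quot hD).exists_card_eq
    rw [Nat.card_eq_fintype_card, hcardQ] at hk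
    obtain ⟨m, -, hm⟩ := (Nat.dvd_prime_pow Nat.prime_two).1 (Dvd.intro _ hk : Fintype.card ι ∣ 2 ^ k)
    have hk2 : k = 2 * m := by
      rw [hm, ← pow_add] at hk
      exact ((Nat.pow_right_injective le_rfl hk).symm).trans (two_mul m).symm
    let Z : Subgroup R := (scalars ι F).subgroupOf R
    have hcen : Subgroup.center R = Z := by
      ext x
      rw [Subgroup.mem_center_iff, Subgroup.mem_subgroupOf]
      constructor
      · intro hx
        exact hRai.mem_scalars fun y hy => (congrArg Subtype.val (hx ⟨y, hy⟩)).symm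
      · intro hx y
        exact Subtype.ext (scalar_comm_gl hx (y : GL ι F)).symm
    have hone : (1 : Fˣ) ≠ -1 := fun h => htwo (by
      have h1 : (1 : F) = -1 := congrArg Units.val h
      linear_combination h1)
    let zneg : R := ⟨sc (-1), hneg⟩
    have hZ : ∀ z : Z, ((z : R)) = 1 ∨ ((z : R)) = zneg := fun z => by
      obtain ⟨c, hc⟩ := exists_sc z.2
      have h1 := hsc c (hc ▸ (z : R).2)
      have hc2 : (c : F) * c = 1 := by rw [← Units.val_mul, ← pow_two, h1, Units.val_one]
      rcases mul_self_eq_one_iff.1 hc2 with h | h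
      · exact Or.inl (Subtype.ext (show ((z : R) : GL ι F) = 1 by
          rw [show ((z : R) : GL ι F) = sc c from hc, show c = 1 from Units.ext h, map_one]))
      · exact Or.inr (Subtype.ext (show ((z : R) : GL ι F) = sc (-1) by
          rw [show ((z : R) : GL ι F) = sc c from hc, show c = -1 from Units.ext h]))
    have hznegZ : zneg ∈ Z := Subgroup.mem_subgroupOf.2 (sc_mem _)
    have hzne : (1 : R) ≠ zneg := fun h => hone (sc_injective (ι := ι) (by
      rw [map_one]; exact congrArg Subtype.val h))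
    have hcenE : Nat.card (Subgroup.center R) = 2 := by
      rw [hcen, Nat.card_eq_two_iff' ⟨1, Z.one_mem⟩]
      refine ⟨⟨zneg, hznegZ⟩, fun h => hzne (congrArg Subtype.val h).symm, fun y hy => ?_⟩
      rcases hZ y with h | h
      · exact absurd (Subtype.ext h) hy
      · exact Subtype.ext h
    let π : R →* N ⧸ scalIn N := (QuotientGroup.mk' (scalIn N)).comp (Subgroup.inclusion hRD.le)
    have hπs : Function.Surjective π := by
      intro q
      obtain ⟨y, hy, c, hc⟩ := hRD.gen _ (rep_mem q)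
      refine ⟨⟨y, hy⟩, ?_⟩
      conv_rhs => rw [← QuotientGroup.out_eq' q]
      show QuotientGroup.mk (s := scalIn N) (⟨y, hRD.le hy⟩ : N) = QuotientGroup.mk q.out
      rw [mk_eq_iff]
      show y⁻¹ * rep q ∈ scalars ι F
      rw [hc, (sc_comm c y).eq, inv_mul_cancel_left]
      exact sc_mem c
    have hker : π.ker = Z := by
      ext x
      rw [MonoidHom.mem_ker, Subgroup.mem_subgroupOf]
      exact QuotientGroup.eq_one_iff _
    have hcardR : Nat.card R = 2 ^ (1 + 2 * m) := by
      rw [Subgroup.card_eq_card_quotient_mul_card_subgroup π.ker,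
        Nat.card_congr (QuotientGroup.quotientKerEquivOfSurjective π hπs).toEquiv, hker, ← hcen, hcenE,
        Nat.card_eq_fintype_card, hcardQ, hk, hk2, pow_add, pow_one, mul_comm]
    refine ⟨R, p, m, ⟨Nat.prime_two, fun x => ⟨2, Subtype.ext (hRD.exp x x.2)⟩, fun A hA hAc => ?_, ?_⟩, hRai,
      fun x hx => hH x hx.2, hpr, hpodd, hqe, hcardR, hcenE, ?_, le_normalizer_of_norms hRn, hm⟩
    · -- characteristic abelian subgroups are cyclic
      let A' : Subgroup (GL ι F) := A.map R.subtype ⊔ scalars ι F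
      have hA'n : Norms H A' := by
        intro h hh
        have hmap : A' ≤ A'.comap (MulAut.conj h).toMonoidHom := by
          refine sup_le ?_ fun z hz => Subgroup.mem_sup_right (Subgroup.Normal.conj_mem inferInstance z hz h)
          rintro _ ⟨a, ha, rfl⟩
          let φ : R ≃* R :=
            { toFun := fun x => ⟨h * x * h⁻¹, hRn h hh x x.2⟩
              invFun := fun x => ⟨h⁻¹ * x * h, hRn.inv_mem hh x.2⟩
              left_inv := fun x => Subtype.ext (show h⁻¹ * (h * (x : GL ι F) * h⁻¹) * h = x by group)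
              right_inv := fun x => Subtype.ext (show h * (h⁻¹ * (x : GL ι F) * h) * h⁻¹ = x by group)
              map_mul' := fun x y => Subtype.ext (show h * ((x : GL ι F) * y) * h⁻¹ =
                h * x * h⁻¹ * (h * y * h⁻¹) by group) }
          refine Subgroup.mem_sup_left ⟨φ a, ?_, rfl⟩
          exact (SetLike.ext_iff.1 (hA.fixed φ) a).2 ha
        exact fun x hx => hmap hx
      have hA'le : A' ≤ N := sup_le (by rintro _ ⟨a, -, rfl⟩; exact hRD.le a.2) hscal
      rcases hmin A' le_sup_right hA'le hA'n with hA' | hA'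
      · have hAle : A ≤ Z := fun a ha => by
          rw [Subgroup.mem_subgroupOf]
          exact hA' ▸ Subgroup.mem_sup_left ⟨a, ha, rfl⟩
        haveI : IsCyclic Z := isCyclic_of_prime_card (p := 2) (hcen ▸ hcenE)
        exact isCyclic_of_injective (Subgroup.inclusion hAle) (Subgroup.inclusion_injective hAle)
      · exfalso
        obtain ⟨x, hx, y, hy, c, hc1, -, hc⟩ := exists_noncomm h3 hD
        rw [← hA'] at hx hy
        obtain ⟨_, ⟨a, ha, rfl⟩, s, hs, rfl⟩ := exists_mul_scalar hx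
        obtain ⟨_, ⟨b, hb, rfl⟩, t, ht, rfl⟩ := exists_mul_scalar hy
        have h0 : Commute (a : GL ι F) (b : GL ι F) := by
          exact congrArg (fun z : A => ((z : R) : GL ι F)) (hAc.is_comm.comm (⟨a, ha⟩ : A) ⟨b, hb⟩)
        have hcm : Commute ((a : GL ι F) * s) ((b : GL ι F) * t) :=
          (h0.mul_right (scalar_comm_gl ht _).symm).mul_left (scalar_comm_gl hs _)
        simp only [Subgroup.coe_subtype] at hc
        rw [← hcm.eq] at hc
        exact hc1 (sc_injective (ι := ι) (by rw [map_one]; exact (right_eq_mul.1 hc :)))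
    · -- the exponent
      show Monoid.exponent R = 4
      refine Nat.dvd_antisymm (Monoid.exponent_dvd_of_forall_pow_eq_one fun x => Subtype.ext (hRD.exp x x.2)) ?_
      obtain ⟨x, hx, y, hy, c, hc1, hcr, hc⟩ := exists_noncomm h3 hD
      obtain ⟨x', hx', s, rfl⟩ := hRD.gen x hx
      obtain ⟨y', hy', t, rfl⟩ := hRD.gen y hy
      have hc2 : (c : F) * c = 1 := by rw [← Units.val_mul, ← pow_two, hcr, Units.val_one]
      have hcm1 : c = -1 := Units.ext ((mul_self_eq_one_iff.1 hc2).resolve_left fun h => hc1 (Units.ext h))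
      have hyx : y' * x' = sc c * (x' * y') := by
        have h1 : sc t * y' * (sc s * x') = sc t * sc s * (y' * x') := by
          rw [mul_assoc, ← mul_assoc y', ← (sc_comm s y').eq]; group
        have h4 : sc c * (sc s * x' * (sc t * y')) = sc t * sc s * (sc c * (x' * y')) := by
          rw [show sc s * x' * (sc t * y') = sc s * (x' * sc t) * y' by group, ← (sc_comm t x').eq,
            ← mul_assoc (sc t * sc s), ← map_mul, ← map_mul, mul_comm (t * s) c, map_mul, mul_comm t s, map_mul]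
          group
        rw [h1, h4] at hc
        exact mul_left_cancel hc
      obtain ⟨w, hw, hw4⟩ : ∃ w ∈ R, w ^ 2 ≠ 1 := by
        by_contra hno
        push Not at hno
        have h5 := scal_mul_pow hyx 2
        rw [hno _ (R.mul_mem hx' hy'), hno _ hx', hno _ hy', Nat.choose_self, pow_one, mul_one, mul_one] at h5
        exact hc1 (sc_injective (ι := ι) (by rw [map_one]; exact h5.symm))
      have hord : orderOf (⟨w, hw⟩ : R) = 4 := by
        haveI : Fact (Nat.Prime 2) := ⟨Nat.prime_two⟩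
        exact orderOf_eq_prime_pow (p := 2) (n := 1) (fun h => hw4 (by simpa using congrArg Subtype.val h))
          (Subtype.ext (by simpa using hRD.exp w hw))
      exact hord ▸ Monoid.order_dvd_exponent _
    · -- minus type
      intro A hAc hA2
      by_contra hbig
      push Not at hbig
      haveI : Fintype A := Fintype.ofFinite A
      let S : Finset (Matrix ι ι F) := Finset.univ.image fun a : A => (((a : R) : GL ι F) : Matrix ι ι F)
      have hS := span_commuting_le hG halt htwo S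
        (fun a ha b hb => by
          obtain ⟨a, -, rfl⟩ := Finset.mem_image.1 ha
          obtain ⟨b, -, rfl⟩ := Finset.mem_image.1 hb
          exact congrArg (fun z : A => (((z : R) : GL ι F) : Matrix ι ι F)) (hAc.is_comm.comm a b))
        (fun a ha => by
          obtain ⟨a, -, rfl⟩ := Finset.mem_image.1 ha
          exact congrArg (fun z : R => ((z : GL ι F) : Matrix ι ι F)) (hA2 a a.2))
        (fun a ha => by
          obtain ⟨a, -, rfl⟩ := Finset.mem_image.1 ha
          rw [hG.adj_iso (hH _ (a : R).2.2)]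
          congr 1
          exact inv_eq_of_mul_eq_one_left (congrArg Subtype.val (hA2 a a.2)))
      let Im : Finset (N ⧸ scalIn N) := Finset.univ.image fun a : A => π a
      have hrepS : ∀ q ∈ Im, (rep q : Matrix ι ι F) ∈ Submodule.span F (S : Set (Matrix ι ι F)) := by
        intro q hq
        obtain ⟨a, -, rfl⟩ := Finset.mem_image.1 hq
        obtain ⟨c, hc⟩ := rep_eq (N := N) (hRD.le (a : R).2)
        change ((a : R) : GL ι F) = sc c * rep (π a) at hc
        have h1 : (rep (π a) : Matrix ι ι F) = ((c⁻¹ : Fˣ) : F) • (((a : R) : GL ι F) : Matrix ι ι F) := by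
          rw [hc, Units.val_mul, sc_coe, Matrix.smul_mul, one_mul, smul_smul, Units.inv_mul, one_smul]
        rw [h1]
        exact Submodule.smul_mem _ _ (Submodule.subset_span (Finset.mem_coe.2 (Finset.mem_image.2
          ⟨a, Finset.mem_univ _, rfl⟩)))
      let v : Im → Submodule.span F (S : Set (Matrix ι ι F)) := fun q => ⟨_, hrepS q q.2⟩
      have hv : LinearIndependent F v := LinearIndependent.of_comp (Submodule.span F (S : Set (Matrix ι ι F))).subtype
        (hli.comp Subtype.val Subtype.val_injective)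
      have h6 := hv.fintype_card_le_finrank
      rw [Fintype.card_coe] at h6
      have h7 : Fintype.card A ≤ 2 * Im.card := by
        refine (Finset.card_le_mul_card_image Finset.univ 2 fun q _ => ?_)
        by_contra hgt
        push Not at hgt
        obtain ⟨a, b, c, ha, hb, hc, hab, hac, hbc⟩ := Finset.two_lt_card_iff.1 hgt
        simp only [Finset.mem_filter, Finset.mem_univ, true_and] at ha hb hc
        have hz : ∀ b : A, π b = π a → (a : R)⁻¹ * b ∈ Z := fun b hb => by
          rw [← hker, MonoidHom.mem_ker, map_mul, map_inv, hb, inv_mul_cancel]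
        have e1 := hz b (hb.trans ha.symm)
        have e2 := hz c (hc.trans ha.symm)
        rcases hZ ⟨_, e1⟩ with h | h <;> rcases hZ ⟨_, e2⟩ with h' | h'
        · exact hbc (Subtype.ext (mul_left_cancel (h.trans h'.symm)))
        · exact hab (Subtype.ext (inv_mul_eq_one.1 h))
        · exact hac (Subtype.ext (inv_mul_eq_one.1 h'))
        · exact hbc (Subtype.ext (mul_left_cancel (h.trans h'.symm)))
      rw [← Nat.card_eq_fintype_card] at h7
      rw [hm] at hS
      have h9 : 2 ^ (m + 1) = 2 * 2 ^ m := by rw [pow_succ, mul_comm]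
      have h10 : 0 < 2 ^ m := pow_pos (by norm_num) m
      omega
  · right
    let τ : RingAut F := frobeniusEquiv F p
    have hτ : τ ≠ 1 := by
      intro h
      have hall : ∀ a : F, a ^ p = a := fun a => RingEquiv.congr_fun h a
      have h2 : Fintype.card F ≤ p := by
        rw [← Finset.card_univ]
        refine le_trans (Finset.card_le_card (t := (Polynomial.X ^ p - Polynomial.X : Polynomial F).roots.toFinset)
          fun x _ => ?_) ((Multiset.toFinset_card_le _).trans ((Polynomial.card_roots' _).trans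
            (FiniteField.X_pow_card_sub_X_natDegree_eq F hpr.one_lt).le))
        rw [Multiset.mem_toFinset, Polynomial.mem_roots (FiniteField.X_pow_card_sub_X_ne_zero F hpr.one_lt)]
        simp [hall x]
      rw [hqe] at h2
      have : p ^ 1 < p ^ e := Nat.pow_lt_pow_right hpr.one_lt (by omega)
      rw [pow_one] at this
      omega
    obtain ⟨B, hB⟩ := hRD.rational_fixed hD τ fun c hc => by
      have hc2 : (c : F) * c = 1 := by rw [← Units.val_mul, ← pow_two, hsc c hc, Units.val_one]
      rcases mul_self_eq_one_iff.1 hc2 with h | h <;> rw [h]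
      · exact map_one τ
      · exact (map_neg τ 1).trans (by rw [map_one])
    exact ratCase_of_realised hG.unit (fixField_ne_top hτ) hRai hRn hB fun x hx =>
      ⟨1, one_mem _, by rw [one_smul]; exact hH x hx.2⟩

end Cfsg.Agent.Classical.Asch
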