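import Cfsg.Agent.Lib.Classical.PSLFieldAut

/-!
The centraliser of an involutory graph-field automorphism of `PSL_n(q)` is `PGU_n(√q)`.
-/

set_option autoImplicit false
set_option linter.unusedSectionVars false

namespace Cfsg.Agent.Classical.PSLAut

open Matrix Cfsg.Agent.Classical.Descent

variable {F : Type*} [Field F] [Fintype F] {n : ℕ}

local notation "PSLn" => Matrix.ProjectiveSpecialLinearGroup (Fin n) F
local notation "Mn" => Matrix (Fin n) (Fin n) F

variable {p : ℕ} [Fact p.Prime] [CharP F p]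

theorem ringAut_involution_unique {σ τ : RingAut F} (hσ : orderOf σ = 2) (hτ : orderOf τ = 2) :
    σ = τ := by
  classical
  obtain ⟨p, hp⟩ := CharP.exists F
  haveI : Fact p.Prime := ⟨(CharP.char_is_prime_or_zero F p).resolve_right
    (CharP.char_ne_zero_of_finite F p)⟩
  obtain ⟨f, -, hF⟩ := FiniteField.card F p
  obtain ⟨hc, -⟩ := card_ringAut (F := F) hF
  haveI : Finite (RingAut F) := Finite.of_injective (fun τ => (τ : F → F)) DFunLike.coe_injective
  haveI : Fintype (RingAut F) := Fintype.ofFinite _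
  haveI := hc
  have h := IsCyclic.card_orderOf_eq_totient (α := RingAut F) (d := 2)
    (hσ ▸ orderOf_dvd_card (x := σ))
  rw [Nat.totient_two] at h
  exact Finset.card_le_one.1 h.le σ (by simp [hσ]) τ (by simp [hτ])

theorem sigma_eq_pow {q₀ : ℕ} (hF : Fintype.card F = q₀ ^ 2) {σ : RingAut F} (hσ : orderOf σ = 2)
    (x : F) : σ x = x ^ q₀ := by
  let τ : RingAut F := RingEquiv.ofBijective (qFrob hF)
    ⟨(qFrob hF).injective, Finite.surjective_of_injective (qFrob hF).injective⟩
  have h2 : orderOf τ = 2 := orderOf_eq_prime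
    (RingEquiv.ext fun y => qFrob_qFrob hF y)
    (fun h => qFrob_ne_id hF (RingHom.ext fun y => DFunLike.congr_fun h y))
  rw [ringAut_involution_unique hσ h2]
  rfl

theorem mem_GU_iff_theta {q₀ : ℕ} (hF : Fintype.card F = q₀ ^ 2) {σ : RingAut F} (hσ : orderOf σ = 2)
    (g : GL (Fin n) F) : g ∈ GU n F q₀ ↔ theta σ g = g := by
  have hs : (g : Mn).map (qFrob hF) = (g : Mn).map σ :=
    Matrix.ext fun a b => (sigma_eq_pow hF hσ _).symm
  have hiff : g ∈ GU n F q₀ ↔ (g : Mn)ᵀ * (g : Mn).map σ = 1 := by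
    rw [← hs]
    exact ⟨fun h => transpose_mul_of_preserves hF h, fun h => preserves_of_transpose_mul hF h⟩
  rw [hiff]
  refine Iff.trans ?_ inv_mul_eq_one
  constructor
  · intro h
    refine Units.ext ?_
    rw [Units.val_mul, theta_inv_coe, Units.val_one,
      ← Matrix.transpose_transpose (g : Mn), ← Matrix.transpose_mul]
    simp only [Matrix.transpose_transpose]
    rw [h, Matrix.transpose_one]
  · intro h
    have h' := congrArg (fun u : GL (Fin n) F => (u : Mn)ᵀ) h
    simp only [Units.val_mul, theta_inv_coe, Units.val_one, Matrix.transpose_mul,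
      Matrix.transpose_transpose, Matrix.transpose_one] at h'
    exact h'

theorem centralizer_graphField_iso (hn : 2 ≤ n) {q₀ : ℕ} (hF : Fintype.card F = q₀ ^ 2)
    {σ : RingAut F} (hσ : orderOf σ = 2) :
    Nonempty (↥(inndiagPSL n F ⊓ Subgroup.centralizer {(pslSemi 1 σ * pslInvT : MulAut PSLn)}) ≃*
      PGU n F q₀) := by
  haveI : Nonempty (Fin n) := ⟨⟨0, by omega⟩⟩
  have hσσ : σ * σ = 1 := by rw [← sq, ← hσ, pow_orderOf_eq_one]
  let Φ : GU n F q₀ →* ↥(inndiagPSL n F ⊓ Subgroup.centralizer {(pslSemi 1 σ * pslInvT : MulAut PSLn)}) :=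
    ((inndiagHom n F).comp (GU n F q₀).subtype).codRestrict _ fun g =>
      ⟨mem_inndiag_iff.2 ⟨_, rfl⟩, Subgroup.mem_centralizer_singleton_iff.2
        ((centralizer_graphField_iff hn σ _).2
          ⟨1, by rw [map_one, one_mul]; exact (mem_GU_iff_theta hF hσ _).1 g.2⟩)⟩
  have hsurj : Function.Surjective Φ := by
    rintro ⟨β, hβ1, hβ2⟩
    obtain ⟨g, rfl⟩ := mem_inndiag_iff.1 hβ1
    obtain ⟨c, hc⟩ := (centralizer_graphField_iff hn σ g).1 (Subgroup.mem_centralizer_singleton_iff.1
      (show inndiagHom n F g ∈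
        Subgroup.centralizer {(pslSemi 1 σ * pslInvT : MulAut PSLn)} from hβ2))
    have hfix : Units.map σ.toMonoidHom c = c := by
      have h := congrArg (theta σ) hc
      rw [theta_theta hσσ, map_mul, theta_scalar, hc, ← mul_assoc, ← map_mul, right_eq_mul] at h
      exact inv_mul_eq_one.1 (scalar_injective (h.trans (map_one _).symm))
    obtain ⟨μ, hμ⟩ := exists_unitNorm_eq σ (mem_fixedUnits.2 hfix)
    rw [hσ, unitNorm_succ', pow_one, show unitNorm σ 1 μ = μ from by simp [unitNorm]] at hμ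
    have hk : theta σ (Matrix.GeneralLinearGroup.scalar (Fin n) μ * g) =
        Matrix.GeneralLinearGroup.scalar (Fin n) μ * g := by
      simp only [map_mul, theta_scalar, hc, ← mul_assoc]
      rw [← map_mul, ← hμ, mul_comm μ, inv_mul_cancel_left]
    refine ⟨⟨_, (mem_GU_iff_theta hF hσ _).2 hk⟩, Subtype.ext ?_⟩
    exact (semi_inj hn).2 ⟨μ, rfl⟩
  have hker : Φ.ker = (Geo.scalars (Fin n) F).subgroupOf (GU n F q₀) := by
    ext g
    rw [MonoidHom.mem_ker, Subtype.ext_iff, Subgroup.mem_subgroupOf]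
    show inndiagHom n F (g : GL (Fin n) F) = 1 ↔ _
    rw [inndiagHom_apply, pslSemi_eq_one_iff hn, Geo.mem_scalars_iff]
    constructor
    · rintro ⟨-, c, hc⟩
      refine ⟨c, ?_⟩
      rw [hc, Matrix.GeneralLinearGroup.coe_scalar, Matrix.scalar_apply, Matrix.smul_one_eq_diagonal]
    · rintro ⟨c, hc⟩
      refine ⟨rfl, c, Units.ext ?_⟩
      rw [hc, Matrix.GeneralLinearGroup.coe_scalar, Matrix.scalar_apply, Matrix.smul_one_eq_diagonal]
  exact ⟨((QuotientGroup.quotientMulEquivOfEq hker.symm).trans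
    (QuotientGroup.quotientKerEquivOfSurjective Φ hsurj)).symm⟩

end Cfsg.Agent.Classical.PSLAut
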