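import Cfsg.Agent.Lib.Classical.AschFormImp
import Cfsg.Agent.Lib.Classical.PSLGraphFieldAut

/-!
Fields of matrices closed under adjoints, and quadratic forms from idempotent-like elements in characteristic two.
-/

set_option autoImplicit false
set_option linter.unusedSectionVars false
set_option linter.unusedFintypeInType false
set_option linter.unusedDecidableInType false

namespace Cfsg.Agent.Classical.Asch

open Matrix Module Cfsg.Geo

variable {F : Type*} [Field F] {ι : Type} [Fintype ι] [DecidableEq ι] {σ : F ≃+* F} {G : Matrix ι ι F}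

/-- The normaliser of a field of matrices closed under adjoints. -/
def FieldCase (σ : F ≃+* F) (G : Matrix ι ι F) (H : Subgroup (GL ι F)) : Prop :=
  ∃ (r : ℕ) (K : Subalgebra F (Matrix ι ι F)), r.Prime ∧ IsFieldSubalgebra r K ∧ (∀ k ∈ K, adj σ G k ∈ K) ∧
    H ≤ subalgebraNormalizer K ∧ ((∀ k ∈ K, adj σ G k = k) → Fintype.card ι ≠ r)

/-- A quadratic form polarising to the bilinear form and preserved up to scalars. -/
def QuadCase (G : Matrix ι ι F) (H : Subgroup (GL ι F)) : Prop :=
  ∃ Q : (ι → F) → F, IsNondegenerateQuadraticForm Q ∧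
    (∀ u v, QuadraticMap.polar Q u v = formOfGram (RingEquiv.refl F) G u v) ∧ H ≤ quadSimilarityGroup Q

theorem field_model {r : ℕ} {K : Subalgebra F (Matrix ι ι F)} [Nonempty ι] (hK : IsFieldSubalgebra r K) :
    IsField K :=
  { exists_pair_ne := ⟨0, 1, fun h => zero_ne_one (congrArg Subtype.val h)⟩
    mul_comm := fun a b => Subtype.ext (hK.comm a a.2 b b.2)
    mul_inv_cancel := fun {a} ha => by
      obtain ⟨y, hy, h⟩ := hK.inv a.1 a.2 fun h => ha (Subtype.ext h)
      exact ⟨⟨y, hy⟩, Subtype.ext h⟩ }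

set_option synthInstance.maxHeartbeats 400000 in
/-- An element of a field of odd prime degree whose square is scalar is scalar. -/
theorem scalar_of_sq [Fintype F] [Nonempty ι] {r : ℕ} {K : Subalgebra F (Matrix ι ι F)} (hr : r.Prime)
    (hr2 : r ≠ 2) (hK : IsFieldSubalgebra r K) {x : Matrix ι ι F} (hx : x ∈ K) {c : F}
    (hc : x * x = c • (1 : Matrix ι ι F)) : ∃ d : F, x = d • (1 : Matrix ι ι F) := by
  letI : Field K := (field_model hK).toField
  let k : K := ⟨x, hx⟩
  haveI : FiniteDimensional F K := Module.finite_of_finrank_pos (by rw [hK.finrank_eq]; exact hr.pos)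
  have hint : IsIntegral F k := IsIntegral.of_finite F k
  have haeval : Polynomial.aeval k (Polynomial.X ^ 2 - Polynomial.C c) = 0 := by
    apply Subtype.ext
    simp [k, pow_two, hc, Algebra.algebraMap_eq_smul_one]
  have hdeg : (minpoly F k).natDegree ≤ 2 := by
    have := Polynomial.natDegree_le_of_dvd (minpoly.dvd F k haeval) (Polynomial.X_pow_sub_C_ne_zero (by norm_num) c)
    rwa [Polynomial.natDegree_X_pow_sub_C] at this
  have hdvd : (minpoly F k).natDegree ∣ r := by rw [← hK.finrank_eq]; exact minpoly.degree_dvd hint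
  rcases (Nat.dvd_prime hr).1 hdvd with h1 | h1
  · obtain ⟨d, hd⟩ := (minpoly.natDegree_eq_one_iff).1 h1
    exact ⟨d, by rw [show x = ((k : K) : Matrix ι ι F) from rfl, ← hd]; simp [Algebra.algebraMap_eq_smul_one]⟩
  · have := hr.two_le
    omega

set_option synthInstance.maxHeartbeats 400000 in
/-- The adjoint on a field of matrices of prime degree. -/
theorem adj_field [Fintype F] [Nonempty ι] (hG : Refl σ G) {r : ℕ} {K : Subalgebra F (Matrix ι ι F)}
    (hr : r.Prime) (hK : IsFieldSubalgebra r K) (hcl : ∀ k ∈ K, adj σ G k ∈ K) :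
    (σ = RingEquiv.refl F → r ≠ 2 → ∀ k ∈ K, adj σ G k = k) ∧ (σ ≠ RingEquiv.refl F → r ≠ 2) := by
  letI : Field K := (field_model hK).toField
  haveI : FiniteDimensional F K := Module.finite_of_finrank_pos (by rw [hK.finrank_eq]; exact hr.pos)
  haveI : Finite K := Module.finite_of_finite F
  let τ : RingAut K :=
    { toFun := fun k => ⟨adj σ G k, hcl k k.2⟩
      invFun := fun k => ⟨adj σ G k, hcl k k.2⟩
      left_inv := fun k => Subtype.ext (hG.adj_adj _)
      right_inv := fun k => Subtype.ext (hG.adj_adj _)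
      map_mul' := fun a b => Subtype.ext (by
        show adj σ G ((a : Matrix ι ι F) * b) = adj σ G (a : Matrix ι ι F) * adj σ G (b : Matrix ι ι F)
        rw [hG.adj_mul]
        exact hK.comm _ (hcl b b.2) _ (hcl a a.2))
      map_add' := fun a b => Subtype.ext (hG.adj_add _ _) }
  constructor
  · intro hσ hr2 k hk
    subst hσ
    let τ' : K ≃ₐ[F] K := AlgEquiv.ofRingEquiv (f := τ) fun c => Subtype.ext (by
      show adj (RingEquiv.refl F) G (algebraMap F K c : Matrix ι ι F) = _
      rw [Subalgebra.coe_algebraMap, Algebra.algebraMap_eq_smul_one, hG.adj_smul, hG.adj_one]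
      rfl)
    have hsq : τ' ^ 2 = 1 := AlgEquiv.ext fun a => Subtype.ext (hG.adj_adj _)
    have h1 : orderOf τ' ∣ 2 := orderOf_dvd_of_pow_eq_one hsq
    have h2 : orderOf τ' ∣ r := by
      rw [← hK.finrank_eq, ← IsGalois.card_aut_eq_finrank F K]
      exact orderOf_dvd_natCard _
    have h3 : orderOf τ' = 1 := Nat.eq_one_of_dvd_coprimes
      ((Nat.coprime_primes Nat.prime_two hr).2 (Ne.symm hr2)) h1 h2
    rw [orderOf_eq_one_iff] at h3
    exact congrArg Subtype.val (AlgEquiv.congr_fun h3 ⟨k, hk⟩)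
  · intro hσ hr2
    subst hr2
    haveI : Fintype K := Fintype.ofFinite K
    have hcard : Fintype.card K = Fintype.card F ^ 2 := by
      rw [Module.card_eq_pow_finrank (K := F) (V := K), hK.finrank_eq]
    obtain ⟨c, hc⟩ : ∃ c, σ c ≠ c := by
      by_contra hno
      push Not at hno
      exact hσ (RingEquiv.ext hno)
    have hτc : ∀ d : F, τ (algebraMap F K d) = algebraMap F K (σ d) := fun d => Subtype.ext (by
      show adj σ G (algebraMap F K d : Matrix ι ι F) = _
      rw [Subalgebra.coe_algebraMap, Subalgebra.coe_algebraMap, Algebra.algebraMap_eq_smul_one,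
        Algebra.algebraMap_eq_smul_one, hG.adj_smul, hG.adj_one])
    have hord : orderOf τ = 2 := orderOf_eq_prime (RingEquiv.ext fun a => Subtype.ext (hG.adj_adj _))
      (fun h => hc ((algebraMap F K).injective (by rw [← hτc, h]; rfl)))
    apply hc
    apply (algebraMap F K).injective
    rw [← hτc, PSLAut.sigma_eq_pow hcard hord, ← map_pow, FiniteField.pow_card]

/-- The field arising from Clifford's theorem. -/
theorem field_case [Fintype F] [Nonempty ι] (hG : Refl σ G) (h3 : 3 ≤ Fintype.card ι) {H N : Subgroup (GL ι F)}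
    (hN : Sims σ N G) (hns : ¬ N ≤ scalars ι F) {K : Subalgebra F (Matrix ι ι F)}
    (hc : ∀ x ∈ K, ∀ y ∈ K, x * y = y * x) (hinv : ∀ x ∈ K, x ≠ 0 → ∃ y ∈ K, x * y = 1) (h2 : 2 ≤ finrank F K)
    (hKc : ∀ k ∈ K, Com N k ∧ ∀ M, Com N M → M * k = k * M) (hcen : centComAlg N ≤ K)
    (hcj : ∀ g ∈ H, ∀ k ∈ K, cj g k ∈ K) : FieldCase σ G H := by
  obtain ⟨r, K', hr, hK', hK'K, hle, hmem⟩ := exists_prime_field hc hinv h2 hcj
  have hadjK : ∀ k ∈ K, adj σ G k ∈ K := fun k hk =>
    hcen (hG.adj_centComAlg hN (mem_centComAlg.2 (hKc k hk)))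
  refine ⟨r, K', hr, hK', fun k hk => ?_, hle, fun hself hnr => ?_⟩
  · obtain ⟨h1, h2'⟩ := (hmem k).1 hk
    exact (hmem _).2 ⟨hadjK k h1, by rw [← hG.adj_pow, h2']⟩
  · have hr2 : r ≠ 2 := by omega
    apply hns
    intro x hx
    obtain ⟨i₀⟩ := ‹Nonempty ι›
    let v₀ : ι → F := Pi.single i₀ 1
    have hv₀ : v₀ ≠ 0 := fun h => by simpa [v₀] using congrFun h i₀
    let L : K' →ₗ[F] (ι → F) :=
      { toFun := fun k => (k : Matrix ι ι F) *ᵥ v₀
        map_add' := fun a b => Matrix.add_mulVec _ _ _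
        map_smul' := fun c a => Matrix.smul_mulVec c (a : Matrix ι ι F) v₀ }
    have hinj : Function.Injective L := (injective_iff_map_eq_zero L).2 fun k hk => by
      by_contra hk0
      obtain ⟨y, hy, hxy⟩ := hK'.inv _ k.2 fun h => hk0 (Subtype.ext h)
      apply hv₀
      have h1 : y * (k : Matrix ι ι F) = 1 := by rw [hK'.comm y hy _ k.2, hxy]
      rw [← Matrix.one_mulVec v₀, ← h1, ← Matrix.mulVec_mulVec, show (k : Matrix ι ι F) *ᵥ v₀ = 0 from hk,
        Matrix.mulVec_zero]
    haveI : FiniteDimensional F K' := Module.finite_of_finrank_pos (by rw [hK'.finrank_eq]; exact hr.pos)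
    have hsurj : Function.Surjective L := (LinearMap.injective_iff_surjective_of_finrank_eq_finrank
      (by rw [hK'.finrank_eq, Module.finrank_fintype_fun_eq_card, hnr])).1 hinj
    obtain ⟨k, hk⟩ := hsurj ((x : Matrix ι ι F) *ᵥ v₀)
    have hxk : (x : Matrix ι ι F) = (k : Matrix ι ι F) := by
      apply Matrix.toLin'.injective
      refine LinearMap.ext fun w => ?_
      obtain ⟨l, rfl⟩ := hsurj w
      have hcom : (l : Matrix ι ι F) * (x : Matrix ι ι F) = (x : Matrix ι ι F) * l :=
        (hKc l (hK'K l.2)).1 x hx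
      show Matrix.toLin' (x : Matrix ι ι F) ((l : Matrix ι ι F) *ᵥ v₀) = Matrix.toLin' (k : Matrix ι ι F) _
      rw [Matrix.toLin'_apply, Matrix.toLin'_apply, Matrix.mulVec_mulVec, ← hcom, ← Matrix.mulVec_mulVec, ← hk]
      show (l : Matrix ι ι F) *ᵥ ((k : Matrix ι ι F) *ᵥ v₀) = (k : Matrix ι ι F) *ᵥ ((l : Matrix ι ι F) *ᵥ v₀)
      rw [Matrix.mulVec_mulVec, Matrix.mulVec_mulVec, hK'.comm _ l.2 _ k.2]
    obtain ⟨μ, hμ⟩ := hN x hx
    have h1 := hG.adj_sim hμ
    rw [hxk, hself _ k.2] at h1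
    have hsq : (k : Matrix ι ι F) * k = σ (μ : F) • (1 : Matrix ι ι F) := by
      conv_lhs => arg 1; rw [h1]
      rw [Matrix.smul_mul, ← hxk, Units.inv_mul]
    obtain ⟨d, hd⟩ := scalar_of_sq hr hr2 hK' k.2 hsq
    rw [← hxk] at hd
    exact (mem_scalars_iff x).2 ⟨Units.mk0 d fun h0 => x.ne_zero (by rw [hd, h0, zero_smul]), hd⟩

/-- In characteristic two an element summing with its adjoint to one gives a quadratic form. -/
theorem quad_of_adjoint (hG : Refl (RingEquiv.refl F) G) (h2 : (2 : F) = 0)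
    (halt : ∀ u, formOfGram (RingEquiv.refl F) G u u = 0) {H : Subgroup (GL ι F)}
    (hH : Fix (RingEquiv.refl F) H G) {ω : Matrix ι ι F} (hω : ω + adj (RingEquiv.refl F) G ω = 1)
    (hd : ∀ g ∈ H, ∀ v, formOfGram (RingEquiv.refl F) G ((cj g⁻¹ ω + ω) *ᵥ v) v = 0) : QuadCase G H := by
  have hs := sesq_formOfGram (RingEquiv.refl F) G
  have hskew : ∀ u v, formOfGram (RingEquiv.refl F) G u v = formOfGram (RingEquiv.refl F) G v u := fun u v => by
    have h := halt (u + v)
    rw [hs.add_left, hs.add_right, hs.add_right, halt, halt] at h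
    linear_combination h - (formOfGram (RingEquiv.refl F) G v u) * h2
  let Q : (ι → F) → F := fun v => formOfGram (RingEquiv.refl F) G (ω *ᵥ v) v
  have hpol : ∀ u v, QuadraticMap.polar Q u v = formOfGram (RingEquiv.refl F) G u v := by
    intro u v
    simp only [QuadraticMap.polar, Q, Matrix.mulVec_add, hs.add_left, hs.add_right]
    rw [hskew (ω *ᵥ v) u, hG.form_right ω u v]
    have : formOfGram (RingEquiv.refl F) G (ω *ᵥ u) v + formOfGram (RingEquiv.refl F) G (adj (RingEquiv.refl F) G ω *ᵥ u) v =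
        formOfGram (RingEquiv.refl F) G u v := by rw [← hs.add_left, ← Matrix.add_mulVec, hω, Matrix.one_mulVec]
    linear_combination this
  have hbil : IsBilinearForm (QuadraticMap.polar Q) := by
    rw [show QuadraticMap.polar Q = formOfGram (RingEquiv.refl F) G from funext₂ hpol]
    exact ⟨hs.add_left, hs.smul_left, hs.add_right, hs.smul_right⟩
  refine ⟨Q, ⟨fun c v => ?_, hbil, ?_⟩, hpol, fun g hg => ⟨1, fun v => ?_⟩⟩
  · simp only [Q, Matrix.mulVec_smul, hs.smul_left, hs.smul_right]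
    show c * (c * _) = _
    ring
  · rw [show QuadraticMap.polar Q = formOfGram (RingEquiv.refl F) G from funext₂ hpol]
    exact hG.nondeg
  · rw [Units.val_one, one_mul]
    have hiso : ∀ u w, formOfGram (RingEquiv.refl F) G ((g : Matrix ι ι F) *ᵥ u) ((g : Matrix ι ι F) *ᵥ w) =
        formOfGram (RingEquiv.refl F) G u w := fun u w => by rw [formOfGram_mulVec, hH g hg]
    show formOfGram (RingEquiv.refl F) G (ω *ᵥ ((g : Matrix ι ι F) *ᵥ v)) ((g : Matrix ι ι F) *ᵥ v) = _
    rw [show ω *ᵥ ((g : Matrix ι ι F) *ᵥ v) = (g : Matrix ι ι F) *ᵥ (cj g⁻¹ ω *ᵥ v) by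
      simp [cj, Matrix.mulVec_mulVec, ← mul_assoc], hiso]
    have h := hd g hg v
    rw [Matrix.add_mulVec, hs.add_left] at h
    show _ = formOfGram (RingEquiv.refl F) G (ω *ᵥ v) v
    linear_combination h - (formOfGram (RingEquiv.refl F) G (ω *ᵥ v) v) * h2

/-- A skew pair in characteristic two gives a quadratic form. -/
theorem quad_of_pair (hG : Refl (RingEquiv.refl F) G) (h2 : (2 : F) = 0)
    (halt : ∀ u, formOfGram (RingEquiv.refl F) G u u = 0) {H : Subgroup (GL ι F)}
    (hH : Fix (RingEquiv.refl F) H G) (h : SkewPair (RingEquiv.refl F) G H) : QuadCase G H := by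
  obtain ⟨p, -, hsum, -, -, hperm⟩ := h
  refine quad_of_adjoint hG h2 halt hH hsum fun g hg v => ?_
  rcases hperm g⁻¹ (H.inv_mem hg) with h | h
  · rw [h, ← two_smul F p, h2, zero_smul, Matrix.zero_mulVec]
    simp [formOfGram]
  · rw [h, add_comm, hsum, Matrix.one_mulVec]
    exact halt v

/-- A field with non-trivial adjoint gives a quadratic form in characteristic two. -/
theorem quad_of_field [Fintype F] [Nonempty ι] (hG : Refl (RingEquiv.refl F) G) (h2 : (2 : F) = 0)
    (halt : ∀ u, formOfGram (RingEquiv.refl F) G u u = 0) {H : Subgroup (GL ι F)}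
    (hH : Fix (RingEquiv.refl F) H G) {K : Subalgebra F (Matrix ι ι F)} (hK : IsFieldSubalgebra 2 K)
    (hcl : ∀ k ∈ K, adj (RingEquiv.refl F) G k ∈ K) (hle : H ≤ subalgebraNormalizer K) {k₀ : Matrix ι ι F}
    (hk₀ : k₀ ∈ K) (hne : adj (RingEquiv.refl F) G k₀ ≠ k₀) : QuadCase G H := by
  haveI : FiniteDimensional F K := Module.finite_of_finrank_pos (by rw [hK.finrank_eq]; norm_num)
  set A := adj (RingEquiv.refl F) G k₀ with hA
  have hspan : ∀ k ∈ K, ∃ a b : F, k = a • (1 : Matrix ι ι F) + b • k₀ := by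
    let L : (Fin 2 → F) →ₗ[F] K := Fintype.linearCombination F ![1, ⟨k₀, hk₀⟩]
    have hval : ∀ c, ((L c : K) : Matrix ι ι F) = c 0 • (1 : Matrix ι ι F) + c 1 • k₀ := fun c => by
      simp [L, Fintype.linearCombination_apply, Fin.sum_univ_two]
    have hinj : Function.Injective L := (injective_iff_map_eq_zero L).2 fun c hc => by
      have h0 := hval c
      rw [hc, ZeroMemClass.coe_zero] at h0
      by_cases h1 : c 1 = 0
      · rw [h1, zero_smul, add_zero, eq_comm, smul_eq_zero] at h0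
        funext i; fin_cases i
        · exact h0.resolve_right one_ne_zero
        · exact h1
      · exfalso
        apply hne
        have hk : k₀ = (-(c 1)⁻¹ * c 0) • (1 : Matrix ι ι F) := by
          calc k₀ = (c 1)⁻¹ • (c 1 • k₀) := by rw [smul_smul, inv_mul_cancel₀ h1, one_smul]
            _ = (c 1)⁻¹ • -(c 0 • (1 : Matrix ι ι F)) := by rw [← eq_neg_of_add_eq_zero_right h0.symm]
            _ = _ := by rw [smul_neg, smul_smul, ← neg_smul, neg_mul]
        rw [hA, hk, hG.adj_smul, hG.adj_one]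
        rfl
    have hsurj : Function.Surjective L :=
      (LinearMap.injective_iff_surjective_of_finrank_eq_finrank (by rw [hK.finrank_eq]; simp)).1 hinj
    intro k hk
    obtain ⟨c, hc⟩ := hsurj ⟨k, hk⟩
    exact ⟨c 0, c 1, by rw [← hval, hc]⟩
  have hfixed : ∀ k ∈ K, adj (RingEquiv.refl F) G k = k → ∃ a : F, k = a • (1 : Matrix ι ι F) := by
    intro k hk hkk
    obtain ⟨a, b, rfl⟩ := hspan k hk
    refine ⟨a, ?_⟩
    rw [hG.adj_add, hG.adj_smul, hG.adj_smul, hG.adj_one, ← hA] at hkk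
    simp only [RingEquiv.refl_apply, add_right_inj] at hkk
    by_cases hb : b = 0
    · rw [hb, zero_smul, add_zero]
    · exact absurd ((smul_right_injective (Matrix ι ι F) hb) hkk) hne
  obtain ⟨s, hs⟩ := hfixed (k₀ + A) (K.add_mem hk₀ (hcl _ hk₀)) (by rw [hG.adj_add, hA, hG.adj_adj, add_comm])
  have hs0 : s ≠ 0 := by
    rintro rfl
    rw [zero_smul, add_comm, add_eq_zero_iff_eq_neg] at hs
    exact hne (by rw [hs, neg_eq_iff_add_eq_zero, ← two_smul F k₀, h2, zero_smul])
  refine quad_of_adjoint hG h2 halt hH (ω := s⁻¹ • k₀) ?_ fun g hg v => ?_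
  · rw [hG.adj_smul, ← hA, RingEquiv.refl_apply, ← smul_add, hs, smul_smul, inv_mul_cancel₀ hs0, one_smul]
  · set ω := s⁻¹ • k₀ with hω
    have hgk : cj g⁻¹ ω ∈ K := ((hle (H.inv_mem hg)) ω).1 (K.smul_mem hk₀ _)
    have hadd : ω + adj (RingEquiv.refl F) G ω = 1 := by
      rw [hω, hG.adj_smul, ← hA, RingEquiv.refl_apply, ← smul_add, hs, smul_smul, inv_mul_cancel₀ hs0, one_smul]
    have hd : adj (RingEquiv.refl F) G (cj g⁻¹ ω + ω) = cj g⁻¹ ω + ω := by
      rw [hG.adj_add, hG.adj_cj (μ := 1) (by rw [Units.val_one, one_smul]; exact hH _ (H.inv_mem hg))]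
      have h1 : adj (RingEquiv.refl F) G ω = 1 + ω := by
        have hneg : -ω = ω := by rw [neg_eq_iff_add_eq_zero, ← two_smul F ω, h2, zero_smul]
        rw [← hadd, add_comm ω, add_assoc, ← two_smul F ω, h2, zero_smul, add_zero]
      rw [h1, cj_add, show cj g⁻¹ (1 : Matrix ι ι F) = 1 by simp [cj]]
      calc 1 + cj g⁻¹ ω + (1 + ω) = ((2 : F) • (1 : Matrix ι ι F)) + (cj g⁻¹ ω + ω) := by rw [two_smul]; abel
        _ = _ := by rw [h2, zero_smul, zero_add]
    obtain ⟨a, ha⟩ := hfixed _ (K.add_mem hgk (K.smul_mem hk₀ _)) hd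
    rw [ha, Matrix.smul_mulVec, Matrix.one_mulVec, (sesq_formOfGram _ G).smul_left, halt, mul_zero]

/-- A skew element with scalar square in odd characteristic. -/
theorem skew_case [Fintype F] [Nonempty ι] (hG : Refl (RingEquiv.refl F) G) (h2 : (2 : F) ≠ 0)
    (h3 : 3 ≤ Fintype.card ι)
    {H : Subgroup (GL ι F)} {T : Matrix ι ι F} (hT : adj (RingEquiv.refl F) G T = -T) {δ : F} (hδ : δ ≠ 0)
    (hsq : T * T = δ • (1 : Matrix ι ι F)) (hperm : ∀ g ∈ H, cj g T = T ∨ cj g T = -T) :
    SkewPair (RingEquiv.refl F) G H ∨ FieldCase (RingEquiv.refl F) G H := by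
  have hT0 : T ≠ 0 := fun h => by
    rw [h, mul_zero, eq_comm, smul_eq_zero] at hsq
    exact hδ (hsq.resolve_right one_ne_zero)
  have hnsc : ∀ a : F, T ≠ a • (1 : Matrix ι ι F) := fun a h => by
    rw [h, hG.adj_smul, hG.adj_one, RingEquiv.refl_apply, eq_neg_iff_add_eq_zero, ← two_smul F, smul_eq_zero,
      ← h] at hT
    exact hT0 (hT.resolve_left h2)
  have hli : ∀ a b : F, a • (1 : Matrix ι ι F) + b • T = 0 → a = 0 ∧ b = 0 := fun a b h => by
    by_cases hb : b = 0
    · rw [hb, zero_smul, add_zero, smul_eq_zero] at h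
      exact ⟨h.resolve_right one_ne_zero, hb⟩
    · exfalso
      refine hnsc (-(b⁻¹ * a)) ?_
      calc T = b⁻¹ • (b • T) := by rw [smul_smul, inv_mul_cancel₀ hb, one_smul]
        _ = b⁻¹ • -(a • (1 : Matrix ι ι F)) := by rw [← eq_neg_of_add_eq_zero_right h]
        _ = _ := by rw [smul_neg, smul_smul, neg_smul]
  have hadj : ∀ a b : F, adj (RingEquiv.refl F) G (a • (1 : Matrix ι ι F) + b • T) =
      a • (1 : Matrix ι ι F) + (-b) • T := fun a b => by
    rw [hG.adj_add, hG.adj_smul, hG.adj_smul, hG.adj_one, hT, RingEquiv.refl_apply, RingEquiv.refl_apply,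
      smul_neg, neg_smul]
  have hprod : ∀ a b a' b' : F, (a • (1 : Matrix ι ι F) + b • T) * (a' • (1 : Matrix ι ι F) + b' • T) =
      (a * a' + b * b' * δ) • (1 : Matrix ι ι F) + (a * b' + b * a') • T := fun a b a' b' => by
    simp only [Matrix.add_mul, Matrix.mul_add, Matrix.smul_mul, Matrix.mul_smul, one_mul, mul_one, hsq]
    module
  have hcj : ∀ g ∈ H, ∀ a b : F, cj g (a • (1 : Matrix ι ι F) + b • T) = a • (1 : Matrix ι ι F) + b • T ∨
      cj g (a • (1 : Matrix ι ι F) + b • T) = a • (1 : Matrix ι ι F) + (-b) • T := fun g hg a b => by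
    rw [cj_add, cj_smul, cj_smul, show cj g (1 : Matrix ι ι F) = 1 by simp [cj]]
    rcases hperm g hg with h | h
    · exact Or.inl (by rw [h])
    · exact Or.inr (by rw [h, smul_neg, neg_smul])
  by_cases hsquare : ∃ c, c * c = δ
  · left
    obtain ⟨c, hc⟩ := hsquare
    have hc0 : c ≠ 0 := fun h => hδ (by rw [← hc, h, mul_zero])
    refine ⟨(2 : F)⁻¹ • (1 : Matrix ι ι F) + (2 * c)⁻¹ • T, ?_, ?_, fun h => ?_, fun h => ?_, fun g hg => ?_⟩
    · rw [hprod]
      congr 2
      · rw [← hc]; field_simp; ring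
      · field_simp; ring
    · rw [hadj]
      rw [show (2 : F)⁻¹ • (1 : Matrix ι ι F) + (2 * c)⁻¹ • T + ((2 : F)⁻¹ • (1 : Matrix ι ι F) + -(2 * c)⁻¹ • T) =
        ((2 : F)⁻¹ + (2 : F)⁻¹) • (1 : Matrix ι ι F) by rw [add_smul, neg_smul]; abel]
      rw [show (2 : F)⁻¹ + (2 : F)⁻¹ = 1 by field_simp; norm_num, one_smul]
    · exact inv_ne_zero h2 (hli _ _ h).1
    · rw [hadj] at h
      exact inv_ne_zero h2 (hli _ _ h).1
    · rw [hadj]
      exact hcj g hg _ _
  · right
    let K : Subalgebra F (Matrix ι ι F) :=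
      { carrier := {M | ∃ a b : F, M = a • (1 : Matrix ι ι F) + b • T}
        mul_mem' := by
          rintro _ _ ⟨a, b, rfl⟩ ⟨a', b', rfl⟩
          exact ⟨_, _, hprod a b a' b'⟩
        one_mem' := ⟨1, 0, by simp⟩
        add_mem' := by
          rintro _ _ ⟨a, b, rfl⟩ ⟨a', b', rfl⟩
          exact ⟨a + a', b + b', by rw [add_smul, add_smul]; abel⟩
        zero_mem' := ⟨0, 0, by simp⟩
        algebraMap_mem' := fun c => ⟨c, 0, by simp [Algebra.algebraMap_eq_smul_one]⟩ }
    have hmk : ∀ a b : F, a • (1 : Matrix ι ι F) + b • T ∈ K := fun a b => ⟨a, b, rfl⟩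
    refine ⟨2, K, Nat.prime_two, ⟨?_, ?_, ?_⟩, ?_, ?_, fun _ h => by omega⟩
    · rintro _ ⟨a, b, rfl⟩ _ ⟨a', b', rfl⟩
      rw [hprod, hprod]
      congr 2 <;> ring
    · rintro _ ⟨a, b, rfl⟩ h0
      have hn : a * a - b * b * δ ≠ 0 := by
        intro hn
        by_cases hb : b = 0
        · subst hb
          have ha : a = 0 := by simpa using hn
          subst ha
          simp at h0
        · exact hsquare ⟨a / b, by field_simp; linear_combination hn⟩
      refine ⟨_, hmk (a / (a * a - b * b * δ)) (-b / (a * a - b * b * δ)), ?_⟩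
      rw [hprod]
      rw [show a * (a / (a * a - b * b * δ)) + b * (-b / (a * a - b * b * δ)) * δ = 1 by
          rw [mul_div_assoc', mul_div_assoc', div_mul_eq_mul_div, ← add_div, div_eq_one_iff_eq hn]; ring,
        show a * (-b / (a * a - b * b * δ)) + b * (a / (a * a - b * b * δ)) = 0 by ring, one_smul, zero_smul,
        add_zero]
    · let L : (Fin 2 → F) →ₗ[F] K := Fintype.linearCombination F ![1, ⟨T, 0, 1, by simp⟩]
      have hval : ∀ c, ((L c : K) : Matrix ι ι F) = c 0 • (1 : Matrix ι ι F) + c 1 • T := fun c => by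
        simp [L, Fintype.linearCombination_apply, Fin.sum_univ_two]
      have hbij : Function.Bijective L := by
        refine ⟨(injective_iff_map_eq_zero L).2 fun c hc => ?_, ?_⟩
        · have h0 := hval c
          rw [hc, ZeroMemClass.coe_zero] at h0
          obtain ⟨ha, hb⟩ := hli _ _ h0.symm
          funext i; fin_cases i
          · exact ha
          · exact hb
        · rintro ⟨_, a, b, rfl⟩
          exact ⟨![a, b], Subtype.ext (by rw [hval]; simp)⟩
      rw [← (LinearEquiv.ofBijective L hbij).finrank_eq]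
      simp
    · rintro _ ⟨a, b, rfl⟩
      rw [hadj]
      exact hmk _ _
    · refine mem_subalgebraNormalizer ?_
      rintro g hg _ ⟨a, b, rfl⟩
      rcases hcj g hg a b with h | h <;> rw [h] <;> exact hmk _ _

end Cfsg.Agent.Classical.Asch
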