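import Cfsg.Agent.Lib.Classical.AschFormRational

/-!
The Gram matrix of a form preserved on a tensor decomposition is a Kronecker product; on a tensor power it is a
pure tensor with congruent factors.
-/

set_option autoImplicit false
set_option linter.unusedSectionVars false
set_option linter.unusedFintypeInType false
set_option linter.unusedDecidableInType false

namespace Cfsg.Agent.Classical.Asch

open Matrix Module Cfsg.Geo
open scoped Kronecker

variable {F : Type*} [Field F] {ι : Type} [Fintype ι] [DecidableEq ι] {σ : F ≃+* F}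

/-- A Gram matrix in the coordinates given by a bijection and a change of basis. -/
def pull {κ : Type} [Fintype κ] [DecidableEq κ] (σ : F ≃+* F) (G : Matrix ι ι F) (e : ι ≃ κ) (P : GL ι F) :
    Matrix κ κ F :=
  Matrix.reindexAlgEquiv F F e ((P : Matrix ι ι F)ᵀ * (G * (P : Matrix ι ι F).map σ))

section Coords

variable {κ : Type} [Fintype κ] [DecidableEq κ]

theorem pull_congr (σ : F ≃+* F) (G : Matrix ι ι F) (e : ι ≃ κ) (P : GL ι F) (M : Matrix κ κ F) :
    pull σ ((co e P M)ᵀ * (G * (co e P M).map σ)) e P = Mᵀ * (pull σ G e P * M.map σ) := by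
  have hR : ∀ X : Matrix κ κ F, Matrix.reindexAlgEquiv F F e (Matrix.reindexAlgEquiv F F e.symm X) = X := fun X => by
    ext i j; simp [Matrix.reindexAlgEquiv_apply]
  have hP : ((P⁻¹ : GL ι F) : Matrix ι ι F) * (P : Matrix ι ι F) = 1 := Units.inv_mul P
  have hPT : (P : Matrix ι ι F)ᵀ * ((P⁻¹ : GL ι F) : Matrix ι ι F)ᵀ = 1 := by
    rw [← Matrix.transpose_mul, hP, Matrix.transpose_one]
  have hPσ : ((P⁻¹ : GL ι F) : Matrix ι ι F).map σ * (P : Matrix ι ι F).map σ = 1 := by
    rw [← Matrix.map_mul, hP, Matrix.map_one σ (map_zero σ) (map_one σ)]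
  rw [pull, pull, co, cj, Matrix.transpose_mul, Matrix.transpose_mul, Matrix.map_mul, Matrix.map_mul]
  set R := Matrix.reindexAlgEquiv F F e.symm M with hRdef
  have e1 : (P : Matrix ι ι F)ᵀ * ((((P⁻¹ : GL ι F) : Matrix ι ι F)ᵀ * (Rᵀ * (P : Matrix ι ι F)ᵀ)) *
      (G * ((P : Matrix ι ι F).map σ * R.map σ * ((P⁻¹ : GL ι F) : Matrix ι ι F).map σ)) * (P : Matrix ι ι F).map σ) =
      Rᵀ * (((P : Matrix ι ι F)ᵀ * (G * (P : Matrix ι ι F).map σ)) * R.map σ) := by
    simp only [mul_assoc, hPσ, mul_one]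
    rw [← mul_assoc ((P : Matrix ι ι F)ᵀ) (((P⁻¹ : GL ι F) : Matrix ι ι F)ᵀ), hPT, one_mul]
  rw [e1, map_mul, map_mul]
  congr 1
  · ext i j; simp [hRdef, Matrix.reindexAlgEquiv_apply]
  · congr 1
    ext i j; simp [hRdef, Matrix.reindexAlgEquiv_apply]

theorem pull_injective (σ : F ≃+* F) (e : ι ≃ κ) (P : GL ι F) :
    Function.Injective fun G : Matrix ι ι F => pull σ G e P := by
  intro A B h
  have h1 := (Matrix.reindexAlgEquiv F F e).injective h
  exact (P.isUnit.map σ.toRingHom.mapMatrix).mul_right_cancel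
    (((Matrix.isUnit_transpose _).2 P.isUnit).mul_left_cancel h1)

theorem pull_smul (σ : F ≃+* F) (c : F) (G : Matrix ι ι F) (e : ι ≃ κ) (P : GL ι F) :
    pull σ (c • G) e P = c • pull σ G e P := by
  rw [pull, pull, Matrix.smul_mul, Matrix.mul_smul, map_smul]

theorem refl_pull {G : Matrix ι ι F} (hG : Refl σ G) (e : ι ≃ κ) (P : GL ι F) : Refl σ (pull σ G e P) := by
  refine ⟨hG.inv, ?_, ?_⟩
  · exact (((Matrix.isUnit_transpose _).2 P.isUnit).mul (hG.unit.mul (P.isUnit.map σ.toRingHom.mapMatrix))).map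
      (Matrix.reindexAlgEquiv F F e)
  · obtain ⟨ε, hε⟩ := hG.tr
    refine ⟨ε, ?_⟩
    set X := (P : Matrix ι ι F)ᵀ * (G * (P : Matrix ι ι F).map σ) with hX
    have hXT : Xᵀ.map σ = (ε : F) • X := by
      rw [hX, Matrix.transpose_mul, Matrix.transpose_mul, Matrix.transpose_transpose, Matrix.map_mul, Matrix.map_mul,
        hε, show (((P : Matrix ι ι F).map σ)ᵀ).map σ = (P : Matrix ι ι F)ᵀ by ext i j; simp [hG.inv],
        Matrix.mul_smul, Matrix.smul_mul, mul_assoc]
    ext i j
    have := congrFun (congrFun hXT (e.symm i)) (e.symm j)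
    simpa [pull, ← hX, Matrix.reindexAlgEquiv_apply] using this

theorem adj_co {G : Matrix ι ι F} (hG : Refl σ G) (e : ι ≃ κ) (P : GL ι F) (M : Matrix κ κ F) :
    adj σ G (co e P M) = co e P (adj σ (pull σ G e P) M) := by
  refine (hG.adj_unique ?_).symm
  set A := adj σ (pull σ G e P) M with hA
  have h := (refl_pull hG e P).adj_spec M
  rw [← hA] at h
  apply pull_injective σ e P
  show pull σ _ e P = pull σ _ e P
  have hR : ∀ X : Matrix κ κ F, Matrix.reindexAlgEquiv F F e (Matrix.reindexAlgEquiv F F e.symm X) = X := fun X => by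
    ext i j; simp [Matrix.reindexAlgEquiv_apply]
  have hP : ((P⁻¹ : GL ι F) : Matrix ι ι F) * (P : Matrix ι ι F) = 1 := Units.inv_mul P
  have hPT : (P : Matrix ι ι F)ᵀ * ((P⁻¹ : GL ι F) : Matrix ι ι F)ᵀ = 1 := by
    rw [← Matrix.transpose_mul, hP, Matrix.transpose_one]
  have hPσ : ((P⁻¹ : GL ι F) : Matrix ι ι F).map σ * (P : Matrix ι ι F).map σ = 1 := by
    rw [← Matrix.map_mul, hP, Matrix.map_one σ (map_zero σ) (map_one σ)]
  have e1 : (P : Matrix ι ι F)ᵀ * ((G * (co e P A).map σ) * (P : Matrix ι ι F).map σ) =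
      ((P : Matrix ι ι F)ᵀ * (G * (P : Matrix ι ι F).map σ)) * (Matrix.reindexAlgEquiv F F e.symm A).map σ := by
    rw [co, cj, Matrix.map_mul, Matrix.map_mul]
    simp only [mul_assoc, hPσ, mul_one]
  have e2 : (P : Matrix ι ι F)ᵀ * (((co e P M)ᵀ * G) * (P : Matrix ι ι F).map σ) =
      (Matrix.reindexAlgEquiv F F e.symm M)ᵀ * ((P : Matrix ι ι F)ᵀ * (G * (P : Matrix ι ι F).map σ)) := by
    rw [co, cj, Matrix.transpose_mul, Matrix.transpose_mul]
    simp only [mul_assoc]
    rw [← mul_assoc ((P : Matrix ι ι F)ᵀ) (((P⁻¹ : GL ι F) : Matrix ι ι F)ᵀ), hPT, one_mul]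
  show Matrix.reindexAlgEquiv F F e _ = Matrix.reindexAlgEquiv F F e _
  rw [e1, e2, map_mul (Matrix.reindexAlgEquiv F F e) ((P : Matrix ι ι F)ᵀ * (G * (P : Matrix ι ι F).map σ)),
    map_mul (Matrix.reindexAlgEquiv F F e) (Matrix.reindexAlgEquiv F F e.symm M)ᵀ]
  rw [show Matrix.reindexAlgEquiv F F e ((Matrix.reindexAlgEquiv F F e.symm A).map σ) = A.map σ by
      ext i j; simp [Matrix.reindexAlgEquiv_apply],
    show Matrix.reindexAlgEquiv F F e (Matrix.reindexAlgEquiv F F e.symm M)ᵀ = Mᵀ by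
      ext i j; simp [Matrix.reindexAlgEquiv_apply]]
  exact h

theorem form_coords (σ : F ≃+* F) (G : Matrix ι ι F) (e : ι ≃ κ) (P : GL ι F) (x y : κ → F) :
    formOfGram σ G ((P : Matrix ι ι F) *ᵥ (x ∘ e)) ((P : Matrix ι ι F) *ᵥ (y ∘ e)) =
      formOfGram σ (pull σ G e P) x y := by
  rw [formOfGram_mulVec]
  simp only [formOfGram, pull, Matrix.reindexAlgEquiv_apply, Matrix.reindex_apply, Matrix.submatrix_apply]
  rw [← e.sum_comp]
  refine Finset.sum_congr rfl fun a _ => ?_
  rw [← e.sum_comp]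
  simp

theorem isUnit_of_co {e : ι ≃ κ} {P : GL ι F} {M : Matrix κ κ F} (h : IsUnit (co e P M)) : IsUnit M := by
  rw [co, cj] at h
  exact (MulEquiv.isUnit_map (Matrix.reindexAlgEquiv F F e.symm)).1
    ((Units.isUnit_units_mul P _).1 ((Units.isUnit_mul_units _ P⁻¹).1 h))

end Coords

/-- A matrix with the same transposition rule as an invertible one is proportional to it. -/
theorem eq_smul_of_rule {b : ℕ} {D X : Matrix (Fin b) (Fin b) F} (hD : IsUnit D)
    (h : ∀ B : Matrix (Fin b) (Fin b) F, ∃ β, Bᵀ * D = D * β ∧ Bᵀ * X = X * β) : ∃ c : F, X = c • D := by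
  obtain ⟨u, rfl⟩ := hD
  obtain ⟨c, hc⟩ := Matrix.mem_range_scalar_of_commute_single (M := X * ((u⁻¹ : (Matrix (Fin b) (Fin b) F)ˣ) : Matrix _ _ F))
    fun i j _ => by
      obtain ⟨β, h1, h2⟩ := h (Matrix.single j i 1)
      rw [Matrix.transpose_single] at h1 h2
      show Matrix.single i j 1 * _ = _ * Matrix.single i j 1
      rw [← mul_assoc, h2, mul_assoc, mul_assoc]
      congr 1
      calc β * ((u⁻¹ : (Matrix (Fin b) (Fin b) F)ˣ) : Matrix _ _ F)
          = ((u⁻¹ : (Matrix (Fin b) (Fin b) F)ˣ) : Matrix _ _ F) * ((u : Matrix _ _ F) * β) *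
              ((u⁻¹ : (Matrix (Fin b) (Fin b) F)ˣ) : Matrix _ _ F) := by rw [← mul_assoc, Units.inv_mul, one_mul]
        _ = _ := by rw [← h1, mul_assoc, mul_assoc, Units.mul_inv, mul_one]
  refine ⟨c, ?_⟩
  calc X = X * ((u⁻¹ : (Matrix (Fin b) (Fin b) F)ˣ) : Matrix _ _ F) * (u : Matrix _ _ F) := by
        rw [mul_assoc, Units.inv_mul, mul_one]
    _ = _ := by rw [← hc, Matrix.scalar_apply, ← Matrix.smul_one_eq_diagonal, Matrix.smul_mul, one_mul]

/-- A non-zero matrix with a transposition rule is invertible. -/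
theorem unit_of_rule {b : ℕ} {D : Matrix (Fin b) (Fin b) F} (hD : D ≠ 0)
    (h : ∀ B : Matrix (Fin b) (Fin b) F, ∃ β, Bᵀ * D = D * β) : IsUnit D := by
  rw [Matrix.isUnit_iff_isUnit_det, isUnit_iff_ne_zero]
  intro hdet
  obtain ⟨w, hw, hwD⟩ := Matrix.exists_vecMul_eq_zero_iff.2 hdet
  obtain ⟨i, hi⟩ := Function.ne_iff.1 hw
  apply hD
  ext j l
  obtain ⟨β, hβ⟩ := h (Matrix.single j i 1)
  have h1 : (w ᵥ* (Matrix.single j i (1 : F))ᵀ) ᵥ* D = 0 := by
    rw [Matrix.vecMul_vecMul, hβ, ← Matrix.vecMul_vecMul, hwD, Matrix.zero_vecMul]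
  have h2 := congrFun h1 l
  simp only [Matrix.transpose_single, Matrix.vecMul, dotProduct, Matrix.single_apply, Pi.zero_apply] at h2
  rw [Finset.sum_eq_single j (fun k _ hk => by simp [Ne.symm hk]) (fun h => absurd (Finset.mem_univ _) h)] at h2
  simp only [and_true, mul_ite, mul_one, mul_zero, Finset.sum_ite_eq, Finset.mem_univ, if_true] at h2
  exact (mul_eq_zero.1 h2).resolve_left hi

theorem exists_entry {α : Type*} {A : Matrix α α F} (h : A ≠ 0) : ∃ i j, A i j ≠ 0 := by
  by_contra hno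
  push Not at hno
  exact h (Matrix.ext hno)

theorem unit_ne_zero {α : Type} [Fintype α] [DecidableEq α] [Nonempty α] {A : Matrix α α F} (h : IsUnit A) :
    A ≠ 0 := fun h0 => not_isUnit_zero (h0 ▸ h)

/-- Factors of Kronecker products are unique up to scalars. -/
theorem kron_factor {a b : ℕ} {A A' : Matrix (Fin a) (Fin a) F} {B B' : Matrix (Fin b) (Fin b) F}
    (hA : A' ≠ 0) (hB : B' ≠ 0) (h : A ⊗ₖ B = A' ⊗ₖ B') : ∃ c : Fˣ, A = (c : F) • A' ∧ B = ((c⁻¹ : Fˣ) : F) • B' := by
  obtain ⟨i, j, hij⟩ := exists_entry hA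
  obtain ⟨k, l, hkl⟩ := exists_entry hB
  have he : ∀ p q s t, A p q * B s t = A' p q * B' s t := fun p q s t => congrFun (congrFun h (p, s)) (q, t)
  have hA0 : A i j ≠ 0 := fun h0 => mul_ne_zero hij hkl (by rw [← he, h0, zero_mul])
  let c : Fˣ := Units.mk0 (A i j / A' i j) (div_ne_zero hA0 hij)
  have hB' : B = ((c⁻¹ : Fˣ) : F) • B' := by
    ext s t
    have := he i j s t
    simp only [c, Matrix.smul_apply, smul_eq_mul, Units.val_inv_eq_inv_val, Units.val_mk0]
    field_simp
    linear_combination this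
  refine ⟨c, ?_, hB'⟩
  ext p q
  have := he p q k l
  rw [hB', Matrix.smul_apply, smul_eq_mul, ← mul_assoc] at this
  have h2 := mul_right_cancel₀ hkl this
  rw [Matrix.smul_apply, smul_eq_mul, ← h2, mul_comm (A p q), ← mul_assoc, ← Units.val_mul, mul_inv_cancel,
    Units.val_one, one_mul]

theorem exists_mem_tensor {a b : ℕ} {e : ι ≃ Fin a × Fin b} {P g : GL ι F} (h : g ∈ tensorProductSubgroup a b e P) :
    ∃ (A : GL (Fin a) F) (B : GL (Fin b) F),
      (g : Matrix ι ι F) = co e P ((A : Matrix (Fin a) (Fin a) F) ⊗ₖ (B : Matrix (Fin b) (Fin b) F)) := by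
  obtain ⟨y, ⟨k, ⟨A, B, hk⟩, rfl⟩, rfl⟩ := h
  refine ⟨A, B, ?_⟩
  rw [← hk]
  rfl

theorem kron_map {a b : ℕ} (A : Matrix (Fin a) (Fin a) F) (B : Matrix (Fin b) (Fin b) F) (σ : F ≃+* F) :
    (A ⊗ₖ B).map σ = A.map σ ⊗ₖ B.map σ := by
  ext ⟨p, s⟩ ⟨q, t⟩; simp

theorem kron_transpose {a b : ℕ} (A : Matrix (Fin a) (Fin a) F) (B : Matrix (Fin b) (Fin b) F) :
    (A ⊗ₖ B)ᵀ = Aᵀ ⊗ₖ Bᵀ := by
  ext ⟨p, s⟩ ⟨q, t⟩; simp

/-- A tensor decomposition of a reflexive form preserved by a group. -/
structure TensorData (σ : F ≃+* F) (G : Matrix ι ι F) (H : Subgroup (GL ι F)) {a b : ℕ}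
    (e : ι ≃ Fin a × Fin b) (P : GL ι F) (C : Matrix (Fin a) (Fin a) F) (D : Matrix (Fin b) (Fin b) F) : Prop where
  ha : 2 ≤ a
  hb : 2 ≤ b
  unit_left : IsUnit C
  unit_right : IsUnit D
  gram : pull σ G e P = C ⊗ₖ D
  le : H ≤ tensorProductSubgroup a b e P
  tr : ∃ α β : Fˣ, Cᵀ.map σ = (α : F) • C ∧ Dᵀ.map σ = (β : F) • D
  sim : ∀ h ∈ H, ∃ (A : GL (Fin a) F) (B : GL (Fin b) F) (u : Fˣ),
    (h : Matrix ι ι F) = co e P ((A : Matrix (Fin a) (Fin a) F) ⊗ₖ (B : Matrix (Fin b) (Fin b) F)) ∧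
    (A : Matrix (Fin a) (Fin a) F)ᵀ * (C * (A : Matrix (Fin a) (Fin a) F).map σ) = (u : F) • C ∧
    (B : Matrix (Fin b) (Fin b) F)ᵀ * (D * (B : Matrix (Fin b) (Fin b) F).map σ) = ((u⁻¹ : Fˣ) : F) • D

theorem TensorData.swap {G : Matrix ι ι F} {H : Subgroup (GL ι F)} {a b : ℕ}
    {e : ι ≃ Fin a × Fin b} {P : GL ι F} {C : Matrix (Fin a) (Fin a) F} {D : Matrix (Fin b) (Fin b) F}
    (h : TensorData σ G H e P C D) : TensorData σ G H (e.trans (Equiv.prodComm _ _)) P D C := by
  refine ⟨h.hb, h.ha, h.unit_right, h.unit_left, ?_, h.le.trans (tensor_swap e P), ?_, fun g hg => ?_⟩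
  · ext ⟨s, p⟩ ⟨t, q⟩
    have := congrFun (congrFun h.gram (p, s)) (q, t)
    simp only [pull, Matrix.reindexAlgEquiv_apply, Matrix.reindex_apply, Matrix.submatrix_apply,
      Matrix.kroneckerMap_apply, Equiv.symm_trans_apply, Equiv.prodComm_symm, Equiv.prodComm_apply, Prod.swap_prod_mk]
      at this ⊢
    rw [this]
    ring
  · obtain ⟨α, β, h1, h2⟩ := h.tr
    exact ⟨β, α, h2, h1⟩
  · obtain ⟨A, B, u, h1, h2, h3⟩ := h.sim g hg
    refine ⟨B, A, u⁻¹, ?_, h3, by rw [inv_inv]; exact h2⟩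
    rw [h1, co, co]
    congr 1
    ext i j
    simp [Matrix.reindexAlgEquiv_apply, mul_comm]

/-- A split normal subgroup gives a tensor decomposition of the form. -/
theorem tensorData_of_split [Nonempty ι] {G : Matrix ι ι F} (hG : Refl σ G) {H N : Subgroup (GL ι F)}
    (hH : Fix σ H G) (hN : Sims σ N G) (hn : Norms H N) (hns : ¬ N ≤ scalars ι F) (h : Split N) :
    ∃ (a b : ℕ) (e : ι ≃ Fin a × Fin b) (P : GL ι F) (C : Matrix (Fin a) (Fin a) F) (D : Matrix (Fin b) (Fin b) F),
      TensorData σ G H e P C D := by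
  obtain ⟨a, b, e, P, ha, hb, hle, hC⟩ := tensor_of_split hn hns h
  haveI : Nonempty (Fin a) := ⟨⟨0, by omega⟩⟩
  haveI : Nonempty (Fin b) := ⟨⟨0, by omega⟩⟩
  set J := pull σ G e P with hJdef
  have hJ : Refl σ J := refl_pull hG e P
  have hrule : ∀ B : Matrix (Fin b) (Fin b) F, ∃ β, ∀ p q,
      Bᵀ * (Matrix.of fun s t => J (p, s) (q, t)) = (Matrix.of fun s t => J (p, s) (q, t)) * β := by
    intro B
    obtain ⟨B', hB'⟩ := (hC _).1 (hG.adj_com hN ((hC _).2 ⟨B, rfl⟩))
    refine ⟨B'.map σ, fun p q => ?_⟩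
    rw [adj_co hG] at hB'
    have h1 := hJ.adj_spec ((1 : Matrix (Fin a) (Fin a) F) ⊗ₖ B)
    rw [← hJdef] at hB'
    rw [co_injective e P hB', kron_map, Matrix.map_one σ (map_zero σ) (map_one σ), kron_transpose,
      Matrix.transpose_one] at h1
    ext s t
    have h2 := congrFun (congrFun h1 (p, s)) (q, t)
    simp only [Matrix.mul_apply, Fintype.sum_prod_type, Matrix.kroneckerMap_apply, Matrix.one_apply, ite_mul,
      one_mul, zero_mul, mul_ite, mul_zero, Finset.sum_ite_eq, Finset.sum_ite_eq', Finset.mem_univ, if_true,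
      Finset.sum_ite_irrel, Finset.sum_const_zero] at h2
    simp only [Matrix.mul_apply, Matrix.of_apply]
    exact h2.symm
  obtain ⟨p₀, q₀, hne⟩ : ∃ p q, (Matrix.of fun s t => J (p, s) (q, t)) ≠ 0 := by
    by_contra hno
    push Not at hno
    apply unit_ne_zero hJ.unit
    ext ⟨p, s⟩ ⟨q, t⟩
    exact congrFun (congrFun (hno p q) s) t
  set D : Matrix (Fin b) (Fin b) F := Matrix.of fun s t => J (p₀, s) (q₀, t) with hD
  have hDu : IsUnit D := unit_of_rule hne fun B => by obtain ⟨β, hβ⟩ := hrule B; exact ⟨β, hβ p₀ q₀⟩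
  have hcoef : ∀ p q, ∃ c : F, (Matrix.of fun s t => J (p, s) (q, t)) = c • D := fun p q =>
    eq_smul_of_rule hDu fun B => by obtain ⟨β, hβ⟩ := hrule B; exact ⟨β, hβ p₀ q₀, hβ p q⟩
  choose c hc using hcoef
  have hJeq : J = (Matrix.of c) ⊗ₖ D := by
    ext ⟨p, s⟩ ⟨q, t⟩
    have := congrFun (congrFun (hc p q) s) t
    simpa using this
  have hCu : IsUnit (Matrix.of c) := by
    have h1 := hJ.unit
    rw [hJeq, Matrix.isUnit_iff_isUnit_det, Matrix.det_kronecker] at h1
    rw [Matrix.isUnit_iff_isUnit_det]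
    exact (isUnit_pow_iff (by simp; omega)).1 (isUnit_of_mul_isUnit_left h1)
  refine ⟨a, b, e, P, Matrix.of c, D, ha, hb, hCu, hDu, hJeq, hle, ?_, fun g hg => ?_⟩
  · obtain ⟨ε, hε⟩ := hJ.tr
    rw [hJeq, kron_transpose, kron_map, ← Matrix.smul_kronecker] at hε
    obtain ⟨u, h1, h2⟩ := kron_factor (smul_ne_zero ε.ne_zero (unit_ne_zero hCu)) (unit_ne_zero hDu) hε
    exact ⟨u * ε, u⁻¹, by rw [h1, smul_smul, Units.val_mul], h2⟩
  · obtain ⟨A, B, hAB⟩ := exists_mem_tensor (hle hg)
    have h1 := pull_congr σ G e P ((A : Matrix (Fin a) (Fin a) F) ⊗ₖ (B : Matrix (Fin b) (Fin b) F))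
    rw [← hAB, hH g hg, ← hJdef, hJeq, kron_map, kron_transpose, ← Matrix.mul_kronecker_mul,
      ← Matrix.mul_kronecker_mul] at h1
    obtain ⟨u, h2, h3⟩ := kron_factor (unit_ne_zero hCu) (unit_ne_zero hDu) h1.symm
    exact ⟨A, B, u, hAB, h2, h3⟩

theorem pureMat_map {k m : ℕ} (gs : Fin k → Matrix (Fin m) (Fin m) F) (σ : F ≃+* F) :
    (pureMat gs).map σ = pureMat fun i => (gs i).map σ := by
  ext x y; simp [pureMat, map_prod]

theorem slot_eq_pure {k m : ℕ} (i : Fin k) (Y : Matrix (Fin m) (Fin m) F) :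
    slot i Y = pureMat (Function.update (fun _ => (1 : Matrix (Fin m) (Fin m) F)) i Y) := by
  ext x y
  simp only [slot, pureMat, Matrix.of_apply]
  rw [← Finset.mul_prod_erase _ _ (Finset.mem_univ i), Function.update_self]
  by_cases h : ∀ l, l ≠ i → x l = y l
  · rw [if_pos h, Finset.prod_eq_one (fun l hl => by
      rw [Function.update_of_ne (Finset.ne_of_mem_erase hl), h l (Finset.ne_of_mem_erase hl)]; simp), mul_one]
  · rw [if_neg h]
    push Not at h
    obtain ⟨l, hl, hne⟩ := h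
    rw [Finset.prod_eq_zero (Finset.mem_erase.2 ⟨hl, Finset.mem_univ l⟩) (by
      rw [Function.update_of_ne hl]; simp [hne]), mul_zero]

theorem slot_injective {k m : ℕ} (i : Fin k) : Function.Injective (slot (F := F) (k := k) (m := m) i) := by
  intro Y Y' h
  ext a b
  let x : Fin k → Fin m := fun _ => a
  have := congrFun (congrFun h x) (Function.update x i b)
  simpa +contextual [slot, x] using this

theorem pureMat_ne_zero {k m : ℕ} {A : Fin k → Matrix (Fin m) (Fin m) F} (h : ∀ i, A i ≠ 0) : pureMat A ≠ 0 := by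
  choose x y hxy using fun i => exists_entry (h i)
  intro h0
  have := congrFun (congrFun h0 x) y
  refine Finset.prod_ne_zero_iff.2 (fun i (_ : i ∈ Finset.univ) => hxy i) ?_
  simpa [pureMat] using this

theorem pure_factor {k m : ℕ} {A B : Fin k → Matrix (Fin m) (Fin m) F} {c : F} (hc : c ≠ 0) (hB : ∀ i, B i ≠ 0)
    (h : pureMat A = c • pureMat B) (i : Fin k) : ∃ d : Fˣ, A i = (d : F) • B i := by
  choose x y hxy using fun l => exists_entry (hB l)
  have he : ∀ p q, A i p q * ∏ l ∈ Finset.univ.erase i, A l (x l) (y l) =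
      c * (B i p q * ∏ l ∈ Finset.univ.erase i, B l (x l) (y l)) := fun p q => by
    have h1 := congrFun (congrFun h (Function.update x i p)) (Function.update y i q)
    simp only [pureMat, Matrix.of_apply, Matrix.smul_apply, smul_eq_mul] at h1
    rw [← Finset.mul_prod_erase Finset.univ (fun l => A l (Function.update x i p l) (Function.update y i q l))
        (Finset.mem_univ i),
      ← Finset.mul_prod_erase (M := F) Finset.univ (fun l => B l (Function.update x i p l) (Function.update y i q l))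
        (Finset.mem_univ i)] at h1
    simp only [Function.update_self] at h1
    have hgen : ∀ E : Fin k → Matrix (Fin m) (Fin m) F,
        ∏ l ∈ Finset.univ.erase i, E l (Function.update x i p l) (Function.update y i q l) =
          ∏ l ∈ Finset.univ.erase i, E l (x l) (y l) := fun E => Finset.prod_congr rfl fun l hl => by
      rw [Function.update_of_ne (Finset.ne_of_mem_erase hl), Function.update_of_ne (Finset.ne_of_mem_erase hl)]
    rw [hgen A, hgen B] at h1
    exact h1
  set PA := ∏ l ∈ Finset.univ.erase i, A l (x l) (y l)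
  set PB := ∏ l ∈ Finset.univ.erase i, B l (x l) (y l)
  have hPB : PB ≠ 0 := Finset.prod_ne_zero_iff.2 fun l _ => hxy l
  have hPA : PA ≠ 0 := fun h0 => mul_ne_zero hc (mul_ne_zero (hxy i) hPB) (by rw [← he, h0, mul_zero])
  refine ⟨Units.mk0 (c * PB / PA) (div_ne_zero (mul_ne_zero hc hPB) hPA), ?_⟩
  ext p q
  have := he p q
  simp only [Matrix.smul_apply, smul_eq_mul, Units.val_mk0]
  field_simp
  linear_combination this

theorem adj_pure_slot {k m : ℕ} {D : Fin k → Matrix (Fin m) (Fin m) F} {c : F}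
    (hR : Refl σ (c • pureMat D)) (i : Fin k) (hDi : IsUnit (D i)) (Y : Matrix (Fin m) (Fin m) F) :
    adj σ (c • pureMat D) (slot i Y) = slot i (((D i)⁻¹ * (Yᵀ * D i)).map σ) := by
  refine (hR.adj_unique ?_).symm
  set Z := ((D i)⁻¹ * (Yᵀ * D i)).map σ with hZ
  rw [Matrix.smul_mul, Matrix.mul_smul, slot_eq_pure, slot_eq_pure, pureMat_map, pureMat_transpose, pureMat_mul,
    pureMat_mul]
  congr 2
  funext l
  by_cases hl : l = i
  · subst hl
    rw [Function.update_self, Function.update_self, hZ, map_map_inv hR.inv,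
      Matrix.mul_nonsing_inv_cancel_left _ _ ((Matrix.isUnit_iff_isUnit_det _).1 hDi)]
  · rw [Function.update_of_ne hl, Function.update_of_ne hl, Matrix.map_one σ (map_zero σ) (map_one σ),
      Matrix.transpose_one, mul_one, one_mul]

theorem pure_mem_standard {k m : ℕ} (X : Fin k → GL (Fin m) F) :
    ∃ u : GL (Fin k → Fin m) F, (u : Matrix (Fin k → Fin m) (Fin k → Fin m) F) =
      pureMat (fun i => (X i : Matrix (Fin m) (Fin m) F)) ∧ u ∈ tensorWreathStandard m k F := by
  let M := pureMat (fun i => (X i : Matrix (Fin m) (Fin m) F))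
  let M' := pureMat (fun i => (((X i)⁻¹ : GL (Fin m) F) : Matrix (Fin m) (Fin m) F))
  have h1 : M * M' = 1 := by rw [pureMat_mul]; simp [pureMat_one]
  have h2 : M' * M = 1 := by rw [pureMat_mul]; simp [pureMat_one]
  exact ⟨⟨M, M', h1, h2⟩, rfl, Subgroup.subset_closure (Or.inl ⟨X, fun x y => rfl⟩)⟩

/-- Changing the bases of the factors of a tensor power. -/
theorem power_rebase {G : Matrix ι ι F} {H : Subgroup (GL ι F)} {k m : ℕ} {e : ι ≃ (Fin k → Fin m)} {P : GL ι F}
    {D : Fin k → Matrix (Fin m) (Fin m) F} {c : F} (hgram : pull σ G e P = c • pureMat D)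
    (hle : H ≤ tensorWreathSubgroup m k e P) (X : Fin k → GL (Fin m) F) :
    ∃ P' : GL ι F, H ≤ tensorWreathSubgroup m k e P' ∧ pull σ G e P' = c • pureMat (fun i =>
      (X i : Matrix (Fin m) (Fin m) F)ᵀ * (D i * (X i : Matrix (Fin m) (Fin m) F).map σ)) := by
  obtain ⟨u, hu, humem⟩ := pure_mem_standard X
  refine ⟨P * glReindex e.symm u, fun g hg => ?_, ?_⟩
  · obtain ⟨_, ⟨w, hw, rfl⟩, rfl⟩ := hle hg
    refine ⟨glReindex e.symm (u⁻¹ * w * u), ⟨_, Subgroup.mul_mem _ (Subgroup.mul_mem _ (Subgroup.inv_mem _ humem) hw)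
      humem, rfl⟩, ?_⟩
    simp [map_mul, map_inv, mul_assoc]
  · have h1 : ((P * glReindex e.symm u : GL ι F) : Matrix ι ι F) =
        (P : Matrix ι ι F) * Matrix.reindexAlgEquiv F F e.symm (u : Matrix _ _ F) := rfl
    rw [pull, h1, Matrix.transpose_mul, Matrix.map_mul]
    set R := Matrix.reindexAlgEquiv F F e.symm (u : Matrix _ _ F) with hR
    rw [show Rᵀ * (P : Matrix ι ι F)ᵀ * (G * ((P : Matrix ι ι F).map σ * R.map σ)) =
      Rᵀ * (((P : Matrix ι ι F)ᵀ * (G * (P : Matrix ι ι F).map σ)) * R.map σ) by simp [mul_assoc],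
      map_mul, map_mul]
    rw [show Matrix.reindexAlgEquiv F F e Rᵀ = (u : Matrix _ _ F)ᵀ by
        ext i j; simp [hR, Matrix.reindexAlgEquiv_apply],
      show Matrix.reindexAlgEquiv F F e (R.map σ) = (u : Matrix _ _ F).map σ by
        ext i j; simp [hR, Matrix.reindexAlgEquiv_apply],
      show Matrix.reindexAlgEquiv F F e ((P : Matrix ι ι F)ᵀ * (G * (P : Matrix ι ι F).map σ)) = c • pureMat D
        from hgram, hu, pureMat_transpose, pureMat_map, Matrix.smul_mul, Matrix.mul_smul, pureMat_mul, pureMat_mul]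

/-- A tensor power of one form containing the group. -/
def PowerData (σ : F ≃+* F) (G : Matrix ι ι F) (H : Subgroup (GL ι F)) {k t : ℕ} (e : ι ≃ (Fin t → Fin k))
    (P : GL ι F) (D : Matrix (Fin k) (Fin k) F) : Prop :=
  2 ≤ t ∧ 2 ≤ k ∧ IsUnit D ∧ (∃ β : Fˣ, Dᵀ.map σ = (β : F) • D) ∧
    (∃ c : F, c ≠ 0 ∧ pull σ G e P = c • pureMat fun _ => D) ∧ H ≤ tensorWreathSubgroup k t e P

/-- Commuting permuted subgroups give a tensor power of one form. -/
theorem powerData_of_family [Fintype F] [Nonempty ι] {G : Matrix ι ι F} (hG : Refl σ G)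
    {H N : Subgroup (GL ι F)} (hH : Fix σ H G) (hNG : Sims σ N G) {k : ℕ} {T : Fin k → Subgroup (GL ι F)}
    (hN : AI N) (hT : Family H N T) :
    ∃ (m : ℕ) (e : ι ≃ (Fin k → Fin m)) (P : GL ι F) (D : Matrix (Fin m) (Fin m) F),
      PowerData σ G H e P D ∧ ∀ i, ∃ φ : T i →* GL (Fin m) F, Function.Injective φ ∧ ∀ x, ∃ μ : Fˣ,
        (φ x : Matrix (Fin m) (Fin m) F)ᵀ * (D * (φ x : Matrix (Fin m) (Fin m) F).map σ) = (μ : F) • D := by
  classical
  obtain ⟨m, e, P, hm, hle, hCO⟩ :=
    wreath_of_family hT.two_le T hN hT.le hT.gen hT.comm hT.not_scalar hT.perm hT.trans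
  haveI : Nonempty (Fin m) := ⟨⟨0, by omega⟩⟩
  set J := pull σ G e P with hJdef
  have hJ : Refl σ J := refl_pull hG e P
  have hrule : ∀ i Y, ∃ β, ∀ x y : Fin k → Fin m,
      Yᵀ * (Matrix.of fun s t => J (Function.update x i s) (Function.update y i t)) =
        (Matrix.of fun s t => J (Function.update x i s) (Function.update y i t)) * β := by
    intro i Y
    have h0 : ∀ j, j ≠ i → Com (T j) (adj σ G (co e P (slot i Y))) := fun j hj =>
      hG.adj_com (hNG.mono (hT.le j)) ((hCO i _).2 ⟨Y, rfl⟩ j hj)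
    obtain ⟨Y', hY'⟩ := (hCO i _).1 h0
    rw [adj_co hG, ← hJdef] at hY'
    have h1 := hJ.adj_spec (slot i Y)
    rw [co_injective e P hY'] at h1
    refine ⟨Y'.map σ, fun x y => ?_⟩
    ext s t
    have h2 := congrFun (congrFun h1 (Function.update x i s)) (Function.update y i t)
    simp only [Matrix.mul_apply, Matrix.transpose_apply, Matrix.map_apply, Matrix.of_apply] at h2 ⊢
    have hb : ∀ (g : (Fin k → Fin m) → F) (z : Fin k → Fin m),
        (∀ w, (¬ ∀ l, l ≠ i → w l = z l) → g w = 0) → ∑ w, g w = ∑ a, g (Function.update z i a) := by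
      intro g z hg
      rw [← (Finset.univ.filter fun w : Fin k → Fin m => ∀ l, l ≠ i → w l = z l).sum_add_sum_compl,
        Finset.sum_eq_zero (s := (Finset.univ.filter fun w : Fin k → Fin m => ∀ l, l ≠ i → w l = z l)ᶜ)
          (fun w hw => hg w (by simpa using hw)), add_zero]
      refine Finset.sum_bij' (fun w _ => w i) (fun a _ => Function.update z i a) (fun _ _ => Finset.mem_univ _)
        (fun a _ => ?_) (fun w hw => ?_) (fun a _ => Function.update_self ..) (fun w hw => ?_)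
      · simp only [Finset.mem_filter, Finset.mem_univ, true_and]
        intro l hl
        rw [Function.update_of_ne hl]
      · simp only [Finset.mem_filter, Finset.mem_univ, true_and] at hw
        ext1 l
        by_cases hl : l = i
        · subst hl; simp
        · simp [hl, hw l hl]
      · simp only [Finset.mem_filter, Finset.mem_univ, true_and] at hw
        congr 1
        ext1 l
        by_cases hl : l = i
        · subst hl; simp
        · simp [hl, hw l hl]
    rw [hb _ (Function.update y i t) fun w hw => by simp [slot, hw],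
      hb _ (Function.update x i s) fun w hw => by simp [slot, hw]] at h2
    simp only [Function.update_idem] at h2
    simp +contextual [slot] at h2
    exact h2.symm
  have hne0 : ∃ x y, J x y ≠ 0 := exists_entry (unit_ne_zero hJ.unit)
  obtain ⟨a₀, b₀, hab⟩ := hne0
  let D' : Fin k → Matrix (Fin m) (Fin m) F := fun i =>
    Matrix.of fun s t => J (Function.update a₀ i s) (Function.update b₀ i t)
  have hD'ne : ∀ i, D' i ≠ 0 := fun i h => hab (by simpa [D'] using congrFun (congrFun h (a₀ i)) (b₀ i))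
  have hD'u : ∀ i, IsUnit (D' i) := fun i =>
    unit_of_rule (hD'ne i) fun Y => by obtain ⟨β, hβ⟩ := hrule i Y; exact ⟨β, hβ a₀ b₀⟩
  have hstep : ∀ i x y, ∃ r : F, ∀ s t, J (Function.update x i s) (Function.update y i t) = r * D' i s t := by
    intro i x y
    obtain ⟨r, hr⟩ := eq_smul_of_rule (X := Matrix.of fun s t => J (Function.update x i s) (Function.update y i t))
      (hD'u i) fun Y => by
      obtain ⟨β, hβ⟩ := hrule i Y
      exact ⟨β, hβ a₀ b₀, hβ x y⟩
    exact ⟨r, fun s t => congrFun (congrFun hr s) t⟩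
  set j0 := J a₀ b₀ with hj0
  have hkey : ∀ (s : Finset (Fin k)) x y, (∀ l, l ∉ s → x l = a₀ l ∧ y l = b₀ l) →
      J x y * j0 ^ s.card = j0 * ∏ i ∈ s, D' i (x i) (y i) := by
    intro s
    induction s using Finset.induction_on with
    | empty =>
      intro x y h
      rw [show x = a₀ from funext fun l => (h l (Finset.notMem_empty l)).1,
        show y = b₀ from funext fun l => (h l (Finset.notMem_empty l)).2]
      simp [hj0]
    | insert i s hi ih =>
      intro x y h
      obtain ⟨r, hr⟩ := hstep i x y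
      have hxy : J x y = r * D' i (x i) (y i) := by simpa using hr (x i) (y i)
      have hr0 : D' i (a₀ i) (b₀ i) = j0 := by simp [D', hj0]
      have h2 := ih (Function.update x i (a₀ i)) (Function.update y i (b₀ i)) fun l hl => by
        by_cases hli : l = i
        · subst hli; simp
        · simp only [Function.update_of_ne hli]
          exact h l (by simp [hli, hl])
      rw [hr, hr0, Finset.prod_congr rfl (g := fun l => D' l (x l) (y l)) fun l hl => by
        rw [Function.update_of_ne (fun e : l = i => hi (e ▸ hl)), Function.update_of_ne (fun e : l = i => hi (e ▸ hl))]]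
        at h2
      rw [Finset.card_insert_of_notMem hi, Finset.prod_insert hi, hxy, pow_succ]
      linear_combination (D' i (x i) (y i)) * h2
  have hJeq : J = (j0 / j0 ^ k) • pureMat D' := by
    ext x y
    have := hkey Finset.univ x y fun l hl => absurd (Finset.mem_univ l) hl
    rw [Finset.card_univ, Fintype.card_fin] at this
    simp only [Matrix.smul_apply, smul_eq_mul, pureMat, Matrix.of_apply]
    have hp := pow_ne_zero k hab
    field_simp
    linear_combination this
  set c := j0 / j0 ^ k with hc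
  have hc0 : c ≠ 0 := div_ne_zero hab (pow_ne_zero k hab)
  have hRc : Refl σ (c • pureMat D') := hJeq ▸ hJ
  let i₀ : Fin k := ⟨0, by have := hT.two_le; omega⟩
  have hcongr : ∀ i, ∃ (A : GL (Fin m) F) (u : Fˣ),
      (A : Matrix (Fin m) (Fin m) F)ᵀ * (D' i * (A : Matrix (Fin m) (Fin m) F).map σ) = (u : F) • D' i₀ := by
    intro i
    obtain ⟨h, hh, hmap⟩ := hT.trans i₀ i
    have hmove : ∀ Y, ∃ Y', cj h (co e P (slot i₀ Y)) = co e P (slot i Y') := by
      intro Y
      refine (hCO i _).1 fun l hl x hx => ?_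
      obtain ⟨l', hl'⟩ := hT.perm h⁻¹ (H.inv_mem hh) l
      have hx' : h⁻¹ * x * h ∈ T l' := by simpa using hl' x hx
      have hl'0 : l' ≠ i₀ := by
        intro he
        apply hT.not_scalar l
        intro y hy
        refine hN.mem_scalars fun z hz => ?_
        have hy' : y ∈ T i := by
          have h3 := hl' y hy
          rw [he, inv_inv] at h3
          simpa [mul_assoc] using hmap _ h3
        let C : Subgroup (GL ι F) := Subgroup.centralizer {y}
        have hNC : N ≤ C := hT.gen.trans (iSup_le fun j w hw => by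
          rw [Subgroup.mem_centralizer_iff]
          rintro _ rfl
          by_cases hjl : j = l
          · subst hjl; exact hT.comm i _ (Ne.symm hl) _ hy' w hw
          · exact (hT.comm j l hjl w hw _ hy).symm)
        exact Subgroup.mem_centralizer_iff.1 (hNC hz) y rfl
      have h1 := (hCO i₀ _).2 ⟨Y, rfl⟩ l' hl'0 _ hx'
      have h2 := congrArg (cj h) h1
      rw [cj_mul, cj_mul, cj_coe] at h2
      simpa [mul_assoc] using h2
    choose f hf using hmove
    have hinj0 : ∀ j, Function.Injective fun Y : Matrix (Fin m) (Fin m) F => co e P (slot j Y) := fun j =>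
      (co_injective e P).comp (slot_injective j)
    have hsl_add : ∀ (j : Fin k) (A B : Matrix (Fin m) (Fin m) F), slot j (A + B) = slot j A + slot j B :=
      fun j A B => by ext x y; simp only [slot, Matrix.of_apply, Matrix.add_apply]; split <;> simp
    have hsl_smul : ∀ (j : Fin k) (r : F) (A : Matrix (Fin m) (Fin m) F), slot j (r • A) = r • slot j A :=
      fun j r A => by ext x y; simp only [slot, Matrix.of_apply, Matrix.smul_apply]; split <;> simp
    have hsl_mul : ∀ (j : Fin k) (A B : Matrix (Fin m) (Fin m) F), slot j (A * B) = slot j A * slot j B :=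
      fun j A B => by
        rw [slot_eq_pure, slot_eq_pure, slot_eq_pure, pureMat_mul]
        congr 1
        funext l
        by_cases hl : l = j
        · subst hl; simp
        · simp [hl]
    have hsl_one : ∀ j : Fin k, slot j (1 : Matrix (Fin m) (Fin m) F) = 1 := fun j => by
      rw [slot_eq_pure, Function.update_eq_self_iff.2 rfl, pureMat_one]
    obtain ⟨A, hA⟩ := exists_inner f
      (fun X Y => hinj0 i (by show co e P _ = co e P _; rw [← hf, hsl_add, co_add, cj_add, hf, hf, hsl_add, co_add]))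
      (fun r X => hinj0 i (by show co e P _ = co e P _; rw [← hf, hsl_smul, co_smul, cj_smul, hf, hsl_smul, co_smul]))
      (fun X Y => hinj0 i (by show co e P _ = co e P _; rw [← hf, hsl_mul, co_mul, cj_mul, hf, hf, hsl_mul, co_mul]))
      (hinj0 i (by show co e P _ = co e P _; rw [← hf, hsl_one, hsl_one, co_one]; simp [cj]))
      (fun X Y hXY => hinj0 i₀ (by
        have h3 := hf X
        rw [hXY, ← hf Y] at h3
        exact by simpa [cj_inv_cj] using congrArg (cj h⁻¹) h3))
    have hμ : (h : Matrix ι ι F)ᵀ * (G * (h : Matrix ι ι F).map σ) = ((1 : Fˣ) : F) • G := by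
      rw [Units.val_one, one_smul]; exact hH h hh
    refine ⟨A, ?_⟩
    set E := (A : Matrix (Fin m) (Fin m) F)ᵀ * (D' i * (A : Matrix (Fin m) (Fin m) F).map σ) with hE
    have hEu : IsUnit E := ((Matrix.isUnit_transpose _).2 A.isUnit).mul
      ((hD'u i).mul (A.isUnit.map σ.toRingHom.mapMatrix))
    obtain ⟨r, hr⟩ : ∃ r, E = r • D' i₀ := by
      refine eq_smul_of_rule (hD'u i₀) fun Y => ?_
      set β := (D' i₀)⁻¹ * (Yᵀ * D' i₀) with hβ
      refine ⟨β, by rw [hβ, Matrix.mul_nonsing_inv_cancel_left _ _ ((Matrix.isUnit_iff_isUnit_det _).1 (hD'u i₀))], ?_⟩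
      have h4 := hG.adj_cj hμ (co e P (slot i₀ Y))
      rw [hf Y, adj_co hG, adj_co hG, ← hJdef, hJeq, adj_pure_slot hRc i (hD'u i), adj_pure_slot hRc i₀ (hD'u i₀),
        hf] at h4
      have h5 := congrArg (fun M : Matrix (Fin m) (Fin m) F => M.map σ) (hinj0 i h4)
      simp only [map_map_inv hG.inv, hA, cj, Matrix.map_mul, ← hβ] at h5
      set Ai := ((A⁻¹ : GL (Fin m) F) : Matrix (Fin m) (Fin m) F) with hAi
      have h6 := congrArg (fun M => D' i * M) h5
      simp only [Matrix.mul_nonsing_inv_cancel_left _ _ ((Matrix.isUnit_iff_isUnit_det _).1 (hD'u i))] at h6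
      have hAT : (A : Matrix (Fin m) (Fin m) F)ᵀ * Aiᵀ = 1 := by
        rw [← Matrix.transpose_mul, hAi, Units.inv_mul, Matrix.transpose_one]
      have hAσ : Ai.map σ * (A : Matrix (Fin m) (Fin m) F).map σ = 1 := by
        rw [← Matrix.map_mul, hAi, Units.inv_mul, Matrix.map_one σ (map_zero σ) (map_one σ)]
      calc Yᵀ * E = (A : Matrix (Fin m) (Fin m) F)ᵀ * (((A : Matrix (Fin m) (Fin m) F) * Y * Ai)ᵀ * D' i) *
            (A : Matrix (Fin m) (Fin m) F).map σ := by
            rw [hE, Matrix.transpose_mul, Matrix.transpose_mul]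
            simp only [mul_assoc]
            rw [← mul_assoc (A : Matrix (Fin m) (Fin m) F)ᵀ Aiᵀ, hAT, one_mul]
        _ = E * β := by
            rw [h6, hE]
            simp only [mul_assoc, hAσ, mul_one]
    refine ⟨Units.mk0 r fun h0 => unit_ne_zero hEu (by rw [hr, h0, zero_smul]), hr⟩
  choose A u hAu using hcongr
  obtain ⟨P', hle', hgram'⟩ := power_rebase (by rw [← hJdef]; exact hJeq) hle A
  have hgram'' : pull σ G e P' = (c * ∏ i, (u i : F)) • pureMat (fun _ => D' i₀) := by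
    rw [hgram', mul_smul, ← pureMat_smul]
    congr 2
    funext i
    exact hAu i
  have hc' : c * ∏ i, (u i : F) ≠ 0 := mul_ne_zero hc0 (Finset.prod_ne_zero_iff.2 fun i _ => (u i).ne_zero)
  refine ⟨m, e, P', D' i₀, ⟨hT.two_le, hm, hD'u i₀, ?_, ⟨_, hc', hgram''⟩, hle'⟩, ?_⟩
  · obtain ⟨ε, hε⟩ := (refl_pull hG e P').tr
    rw [hgram'', Matrix.transpose_smul, map_smul_mat, pureMat_transpose, pureMat_map] at hε
    set c' := c * ∏ i, (u i : F)
    have hσc : σ c' ≠ 0 := (map_ne_zero σ).2 hc'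
    have h1 : (pureMat fun _ : Fin k => (D' i₀)ᵀ.map σ) = ((σ c')⁻¹ * ((ε : F) * c')) • pureMat fun _ => D' i₀ := by
      rw [mul_smul, mul_smul, ← hε, smul_smul, inv_mul_cancel₀ hσc, one_smul]
    exact pure_factor (mul_ne_zero (inv_ne_zero hσc) (mul_ne_zero ε.ne_zero hc')) (fun _ => hD'ne i₀) h1 i₀
  · intro i
    have hsl_mul : ∀ A B : Matrix (Fin m) (Fin m) F, slot i (A * B) = slot i A * slot i B := fun A B => by
      rw [slot_eq_pure, slot_eq_pure, slot_eq_pure, pureMat_mul]
      congr 1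
      funext l
      by_cases hl : l = i
      · subst hl; simp
      · simp [hl]
    have hsl_one : slot i (1 : Matrix (Fin m) (Fin m) F) = 1 := by
      rw [slot_eq_pure, Function.update_eq_self_iff.2 rfl, pureMat_one]
    have hinj : Function.Injective fun Y : Matrix (Fin m) (Fin m) F => co e P (slot i Y) :=
      (co_injective e P).comp (slot_injective i)
    have hex : ∀ x : T i, ∃ Y : Matrix (Fin m) (Fin m) F, ((x : GL ι F) : Matrix ι ι F) = co e P (slot i Y) :=
      fun x => (hCO i _).1 fun j hj y hy => by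
        simpa using congrArg (fun z : GL ι F => (z : Matrix ι ι F)) (hT.comm i j (Ne.symm hj) x x.2 y hy)
    choose f hf using hex
    have hf1 : f 1 = 1 := hinj (by show co e P _ = co e P _; rw [← hf, hsl_one, co_one]; rfl)
    have hfm : ∀ x y, f (x * y) = f x * f y := fun x y => hinj (by
      show co e P _ = co e P _
      rw [← hf, hsl_mul, co_mul, ← hf, ← hf]; rfl)
    let φ₀ : T i →* Matrix (Fin m) (Fin m) F := { toFun := f, map_one' := hf1, map_mul' := hfm }
    have hφ₀ : Function.Injective φ₀.toHomUnits := fun x y hxy => by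
      have h1 : f x = f y := congrArg Units.val hxy
      exact Subtype.ext (Units.ext (by rw [hf, hf, h1]))
    refine ⟨(MulAut.conj (A i)⁻¹).toMonoidHom.comp φ₀.toHomUnits,
      (MulAut.conj (A i)⁻¹).injective.comp hφ₀, fun x => ?_⟩
    obtain ⟨μ, hμ⟩ := hNG (x : GL ι F) (hT.le i x.2)
    refine ⟨μ, ?_⟩
    set Z : GL (Fin m) F := φ₀.toHomUnits x with hZ
    have hZinv : ((x⁻¹ : T i) : GL ι F) = (x : GL ι F)⁻¹ := rfl
    have hadj : adj σ G ((x : GL ι F) : Matrix ι ι F) = σ (μ : F) • co e P (slot i (f x⁻¹)) := by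
      rw [hG.adj_sim hμ, ← hf, hZinv]
    rw [hf, adj_co hG, ← hJdef, hJeq, adj_pure_slot hRc i (hD'u i), ← co_smul] at hadj
    have h7 := congrArg (fun M : Matrix (Fin m) (Fin m) F => M.map σ) (slot_injective i ((co_injective e P hadj).trans
      (show σ (μ : F) • slot i (f x⁻¹) = slot i (σ (μ : F) • f x⁻¹) by
        ext a b; simp only [slot, Matrix.of_apply, Matrix.smul_apply]; split <;> simp)))
    simp only [map_map_inv hG.inv, map_smul_mat, hG.inv] at h7
    have h8 := congrArg (fun M => D' i * M) h7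
    simp only [Matrix.mul_nonsing_inv_cancel_left _ _ ((Matrix.isUnit_iff_isUnit_det _).1 (hD'u i))] at h8
    have hsim : (Z : Matrix (Fin m) (Fin m) F)ᵀ * (D' i * (Z : Matrix (Fin m) (Fin m) F).map σ) = (μ : F) • D' i := by
      show (f x)ᵀ * (D' i * (f x).map σ) = _
      rw [← mul_assoc, h8, Matrix.mul_smul, Matrix.smul_mul, mul_assoc, ← Matrix.map_mul, ← hfm, inv_mul_cancel,
        hf1, Matrix.map_one σ (map_zero σ) (map_one σ), mul_one]
    have hAi := hAu i
    have hD0 : D' i₀ = ((u i)⁻¹ : Fˣ).val • ((A i : Matrix (Fin m) (Fin m) F)ᵀ *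
        (D' i * (A i : Matrix (Fin m) (Fin m) F).map σ)) := by
      rw [hAi, smul_smul, Units.inv_mul, one_smul]
    have hW : (A i : Matrix (Fin m) (Fin m) F) * (((MulAut.conj (A i)⁻¹).toMonoidHom Z : GL (Fin m) F) :
        Matrix (Fin m) (Fin m) F) = (Z : Matrix (Fin m) (Fin m) F) * (A i : Matrix (Fin m) (Fin m) F) := by
      simp [← mul_assoc]
    set W := (((MulAut.conj (A i)⁻¹).toMonoidHom Z : GL (Fin m) F) : Matrix (Fin m) (Fin m) F) with hWdef
    show Wᵀ * (D' i₀ * W.map σ) = _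
    rw [hD0, Matrix.smul_mul, Matrix.mul_smul, smul_comm (μ : F)]
    congr 1
    calc Wᵀ * ((A i : Matrix (Fin m) (Fin m) F)ᵀ * (D' i * (A i : Matrix (Fin m) (Fin m) F).map σ) * W.map σ)
        = ((A i : Matrix (Fin m) (Fin m) F) * W)ᵀ * (D' i * ((A i : Matrix (Fin m) (Fin m) F) * W).map σ) := by
          rw [Matrix.transpose_mul, Matrix.map_mul]; simp [mul_assoc]
      _ = (A i : Matrix (Fin m) (Fin m) F)ᵀ * (((Z : Matrix (Fin m) (Fin m) F)ᵀ *
            (D' i * (Z : Matrix (Fin m) (Fin m) F).map σ)) * (A i : Matrix (Fin m) (Fin m) F).map σ) := by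
          rw [hW, Matrix.transpose_mul, Matrix.map_mul]; simp [mul_assoc]
      _ = _ := by rw [hsim, Matrix.smul_mul, Matrix.mul_smul]

end Cfsg.Agent.Classical.Asch
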