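import Cfsg.Agent.Lib.Classical.AschFormImp
import Cfsg.Agent.Lib.Classical.AschFormTensor
import Cfsg.Agent.Lib.Classical.AschFormAbelian
import Cfsg.Agent.Lib.Classical.AschFormField

/-!
The outcomes of Aschbacher's theorem for an irreducible group of isometries of a form.
-/

set_option autoImplicit false
set_option linter.unusedSectionVars false
set_option linter.unusedFintypeInType false
set_option linter.unusedDecidableInType false

namespace Cfsg.Agent.Classical.Asch

open Matrix Module Cfsg.Geo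
open scoped Kronecker Pointwise commutatorElement

variable {F : Type*} [Field F] {ι : Type} [Fintype ι] [DecidableEq ι] {σ : F ≃+* F} {G : Matrix ι ι F}

/-- A minimal non-scalar normal subgroup which is abelian modulo scalars. -/
def AbelianMin (H : Subgroup (GL ι F)) : Prop :=
  ∃ N : Subgroup (GL ι F), AI N ∧ scalars ι F ≤ N ∧ N ≤ H ⊔ scalars ι F ∧ Norms H N ∧
    (∀ N' : Subgroup (GL ι F), scalars ι F ≤ N' → N' ≤ N → Norms H N' → N' = scalars ι F ∨ N' = N) ∧ Scal N

/-- A minimal non-scalar normal subgroup made of several commuting factors. -/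
def FamilyMin (σ : F ≃+* F) (G : Matrix ι ι F) (H : Subgroup (GL ι F)) : Prop :=
  ∃ (N : Subgroup (GL ι F)) (k : ℕ) (T : Fin k → Subgroup (GL ι F)), AI N ∧ Sims σ N G ∧ Family H N T

/-- A residual core fixing no form for another automorphism. -/
def CoreCase (σ : F ≃+* F) (G : Matrix ι ι F) (H : Subgroup (GL ι F)) : Prop :=
  ∃ P : Subgroup (GL ι F), IsResidualCore H P ∧ Fix σ P G ∧
    ∀ (σ' : F ≃+* F) (G' : Matrix ι ι F), σ' ≠ σ → (∀ a, σ' (σ' a) = a) → IsUnit G' → ¬ Fix σ' P G'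

/-- The outcomes for an irreducible group of isometries. -/
def IrrCase [Fintype F] (σ : F ≃+* F) (G : Matrix ι ι F) (H : Subgroup (GL ι F)) : Prop :=
  OrthDecomp σ G H ∨ SkewPair σ G H ∨ FieldCase σ G H ∨
  (∃ (a b : ℕ) (e : ι ≃ Fin a × Fin b) (P : GL ι F) (C : Matrix (Fin a) (Fin a) F) (D : Matrix (Fin b) (Fin b) F),
    TensorData σ G H e P C D) ∨
  AbelianMin H ∨ FamilyMin σ G H ∨ RatCase σ G H ∨ CoreCase σ G H

theorem irrCase_or_ai [Fintype F] [Nonempty ι] (hG : Refl σ G) (h3 : 3 ≤ Fintype.card ι)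
    {H N : Subgroup (GL ι F)} (hH : Fix σ H G) (hirr : Irr H) (hN : Sims σ N G) (hn : Norms H N)
    (hns : ¬ N ≤ scalars ι F) : IrrCase σ G H ∨ AI N := by
  rcases clifford hirr hn with ⟨t, m, D, hD, hle, hDc, hDi⟩ | ⟨K, hc, hinv, h2, hKc, hcen, hcj⟩ | hs | hai
  · rcases imprimitive_case hG hH.sims hN hirr hD hle hDc hDi with h | h
    · exact Or.inl (Or.inl h)
    · exact Or.inl (Or.inr (Or.inl h))
  · exact Or.inl (Or.inr (Or.inr (Or.inl (field_case hG h3 hN hns hc hinv h2 hKc hcen hcj))))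
  · exact Or.inl (Or.inr (Or.inr (Or.inr (Or.inl (tensorData_of_split hG hH hN hn hns hs)))))
  · exact Or.inr hai

/-- Aschbacher's theorem for an irreducible group of isometries, before reading the classes. -/
theorem irr_case [Fintype F] (hG : Refl σ G) (h3 : 3 ≤ Fintype.card ι) {H : Subgroup (GL ι F)}
    (hH : Fix σ H G) (hirr : Irr H) : IrrCase σ G H := by
  classical
  haveI : Nonempty ι := Fintype.card_pos_iff.1 (by omega)
  have hHs : ¬ H ≤ scalars ι F := by
    intro hHs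
    obtain ⟨i⟩ := ‹Nonempty ι›
    rcases irr_iff.1 hirr (Submodule.span F {(Pi.single i 1 : ι → F)}) (fun g hg v hv => by
      obtain ⟨c, hc⟩ := exists_sc (hHs hg)
      rw [hc, sc_coe, Matrix.smul_mulVec, Matrix.one_mulVec]
      exact Submodule.smul_mem _ _ hv) with h | h
    · simp at h
    · have := congrArg (fun W : Submodule F (ι → F) => finrank F W) h
      simp only [finrank_top, Module.finrank_fintype_fun_eq_card] at this
      rw [finrank_span_singleton (by simp)] at this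
      omega
  rcases irrCase_or_ai hG h3 hH hirr hH.sims (fun h hh x hx => H.mul_mem (H.mul_mem hh hx) (H.inv_mem hh)) hHs with
    h | -
  · exact h
  obtain ⟨N, ⟨hscal, hle, hn, hns⟩, hNmin⟩ := wellFounded_lt.has_min
    {N : Subgroup (GL ι F) | scalars ι F ≤ N ∧ N ≤ H ⊔ scalars ι F ∧ Norms H N ∧ ¬ N ≤ scalars ι F}
    ⟨H ⊔ scalars ι F, le_sup_right, le_rfl, fun h hh x hx =>
      Subgroup.mul_mem _ (Subgroup.mul_mem _ (Subgroup.mem_sup_left hh) hx)
        (Subgroup.inv_mem _ (Subgroup.mem_sup_left hh)), fun h => hHs (le_sup_left.trans h)⟩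
  have hmin : ∀ N' : Subgroup (GL ι F), scalars ι F ≤ N' → N' ≤ N → Norms H N' →
      N' = scalars ι F ∨ N' = N := by
    intro N' h1 h2 h4
    by_cases h5 : N' ≤ scalars ι F
    · exact Or.inl (le_antisymm h5 h1)
    · right
      by_contra hne
      exact hNmin N' ⟨h1, h2.trans hle, h4, h5⟩ (lt_of_le_of_ne h2 hne)
  have hNG : Sims σ N G := hH.sims.sup_scalars.mono hle
  rcases irrCase_or_ai hG h3 hH hirr hNG hn hns with h | hN
  · exact h
  by_cases hab : Scal N
  · exact Or.inr (Or.inr (Or.inr (Or.inr (Or.inl ⟨N, hN, hscal, hle, hn, hmin, hab⟩))))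
  rcases family_or_simple (by omega) hn hN hscal hmin hab with ⟨k, T, hT⟩ | ⟨hperf, hsimple⟩
  · exact Or.inr (Or.inr (Or.inr (Or.inr (Or.inr (Or.inl ⟨N, k, T, hN, hNG, hT⟩)))))
  obtain ⟨hPai, hPn, hPH, hcore⟩ := residual_core (by omega) hn hN hscal hle hperf hsimple
  have hPfix : Fix σ ⁅N, N⁆ G := fun x hx => hH x (hPH hx)
  by_cases hreal : ∃ F₀ : Subfield F, F₀ ≠ ⊤ ∧ RealisableOver F₀ (matrixSet ⁅N, N⁆)
  · obtain ⟨F₀, hne, B, hB⟩ := hreal
    exact Or.inr (Or.inr (Or.inr (Or.inr (Or.inr (Or.inr (Or.inl (ratCase_of_realised hG.unit hne hPai hPn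
      (fun x hx => hB _ ⟨x, hx, rfl⟩) fun x hx => ⟨1, F₀.one_mem, by rw [one_smul]; exact hPfix x hx⟩)))))))
  push Not at hreal
  refine Or.inr (Or.inr (Or.inr (Or.inr (Or.inr (Or.inr (Or.inr ⟨_, hcore hreal, hPfix, ?_⟩))))))
  intro σ' G' hne hinv hG' hfix
  obtain ⟨F₀, hF₀, h⟩ := two_forms hinv hG.unit hG' (Ne.symm hne) hPai hPfix hfix
  exact hreal F₀ hF₀ h

end Cfsg.Agent.Classical.Asch
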