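import Cfsg.Agent.Lib.Classical.AschOrthNonMax

/-!
Stabilisers of plus-type planes over two or three elements are contained in stabilisers of anisotropic points.
-/

set_option autoImplicit false
set_option linter.unusedSectionVars false
set_option linter.unusedFintypeInType false
set_option linter.unusedDecidableInType false
set_option quotPrecheck false

namespace Cfsg.Agent.Classical.AschOrthTwo

open Matrix Module Cfsg.Geo OrthAut

variable {F : Type*} [Field F] [Fintype F] {ι : Type} [Fintype ι] [DecidableEq ι] {Q : QuadraticForm F (ι → F)}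

local notation "B" => QuadraticMap.polar ⇑Q
local notation "Mn" => Matrix ι ι F

/-- A non-degenerate space of dimension at least seven has three orthogonal singular vectors. -/
theorem tri_of_card (hQ : (QuadraticMap.polarBilin Q).Nondegenerate) (h7 : 7 ≤ Fintype.card ι) : Tri Q := by
  refine MaxTv.tri_of_ndQ hQ (W := ⊤) (fun w _ hw0 => ?_) (by rw [finrank_top, Module.finrank_pi]; exact h7)
  by_contra hno
  push Not at hno
  exact hw0 (hQ.1 w fun y => hno y trivial)

theorem plane_not_maximal (hq : Fintype.card F ≤ 3) (hQ : (QuadraticMap.polarBilin Q).Nondegenerate)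
    (h7 : 7 ≤ Fintype.card ι) {W : Submodule F (ι → F)} (hdim : finrank F W = 2)
    (hW : IsNondegenerateOn (QuadraticMap.polar ⇑Q) W) (hplus : IsPlusTypeOn (⇑Q) W) :
    ∃ K : Subgroup (GL ι F), subspaceStabilizer W ⊓ Geo.omegaGL ⇑Q < K ∧ K < Geo.omegaGL ⇑Q := by
  classical
  have hT := tri_of_card hQ h7
  obtain ⟨S, hSW, hS0, hSd⟩ := hplus
  rw [hdim] at hSd
  obtain ⟨e, he, he0⟩ := Submodule.exists_mem_ne_zero_of_ne_bot (p := S) fun h => by
    rw [h, finrank_bot] at hSd; omega
  have hQe : Q e = 0 := hS0 e he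
  have heW := hSW he
  have hBee : B e e = 0 := OrthAut.polar_self' hQe
  obtain ⟨f', hf', hef'⟩ : ∃ f' ∈ W, B e f' = 1 := by
    obtain ⟨-, z, hz, hez⟩ := hW e heW he0
    exact ⟨(B e z)⁻¹ • z, W.smul_mem _ hz, by
      rw [QuadraticMap.polar_smul_right, smul_eq_mul, inv_mul_cancel₀ hez]⟩
  set f := f' + (-Q f') • e
  have hfW : f ∈ W := W.add_mem hf' (W.smul_mem _ heW)
  have hef : B e f = 1 := by
    rw [QuadraticMap.polar_add_right, QuadraticMap.polar_smul_right, hBee, hef', smul_zero, add_zero]
  have hfe : B f e = 1 := by rw [QuadraticMap.polar_comm, hef]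
  have hQf : Q f = 0 := by
    rw [OrthAut.quad_add, QuadraticMap.map_smul, hQe, QuadraticMap.polar_smul_right, QuadraticMap.polar_comm, hef']
    simp
  have hBff : B f f = 0 := OrthAut.polar_self' hQf
  have hexp : ∀ x ∈ W, ∃ a b : F, x = a • e + b • f := by
    have hli : LinearIndependent F ![e, f] := by
      rw [LinearIndependent.pair_iff]
      intro s t hst
      have h1 := congrArg (fun y => B y f) hst
      have h2 := congrArg (fun y => B y e) hst
      simp [QuadraticMap.polar_add_left, QuadraticMap.polar_smul_left, hef, hfe, hBee, hBff,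
        QuadraticMap.polar_zero_left] at h1 h2
      exact ⟨h1, h2⟩
    have hsp : Submodule.span F {e, f} = W := by
      refine Submodule.eq_of_le_of_finrank_eq (Submodule.span_le.2 fun x hx => ?_) ?_
      · rcases hx with rfl | rfl
        · exact heW
        · exact hfW
      · have := finrank_span_eq_card hli
        rw [Matrix.range_cons, Matrix.range_cons, Matrix.range_empty, Set.union_empty, Set.singleton_union] at this
        rw [this, hdim]; rfl
    intro x hx
    rw [← hsp, Submodule.mem_span_pair] at hx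
    obtain ⟨a, b, rfl⟩ := hx
    exact ⟨a, b, rfl⟩
  set u := e + f
  have huW : u ∈ W := W.add_mem heW hfW
  have hQu : Q u = 1 := by rw [OrthAut.quad_add, hQe, hQf, hef]; simp
  have hu0 : u ≠ 0 := fun h => by rw [h, QuadraticMap.map_zero] at hQu; exact zero_ne_one hQu
  have hsq : ∀ x : F, x ≠ 0 → x * x = 1 := fun x hx => by
    have h1 := FiniteField.pow_card_sub_one_eq_one x hx
    have := Fintype.one_lt_card (α := F)
    rcases (by omega : Fintype.card F = 2 ∨ Fintype.card F = 3) with h | h <;> rw [h] at h1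
    · rw [pow_one] at h1; rw [h1, one_mul]
    · rwa [pow_two] at h1
  have hle : subspaceStabilizer W ⊓ Geo.omegaGL ⇑Q ≤ subspaceStabilizer (Submodule.span F {u}) := by
    intro g hg
    obtain ⟨a, b, hab⟩ := hexp _ ((MaxTv.mem_subspaceStabilizer_iff W g).1 hg.1 u huW)
    have h1 := MaxTv.isometry_of_mem_omegaGL hg.2 u
    rw [hab, hQu, OrthAut.quad_add, QuadraticMap.map_smul, QuadraticMap.map_smul, hQe, hQf,
      QuadraticMap.polar_smul_left, QuadraticMap.polar_smul_right, hef] at h1
    simp at h1
    have ha : a ≠ 0 := left_ne_zero_of_mul_eq_one h1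
    have hba : b = a := mul_left_cancel₀ ha (h1.trans (hsq a ha).symm)
    refine (MaxTv.mem_subspaceStabilizer_iff _ g).2 fun x hx => ?_
    obtain ⟨c, rfl⟩ := Submodule.mem_span_singleton.1 hx
    rw [Matrix.mulVec_smul, hab, hba, ← smul_add, smul_smul]
    exact Submodule.smul_mem _ _ (Submodule.mem_span_singleton_self u)
  obtain ⟨x, hx0, hQx, hx⟩ := MaxTv.quad_exists_iso hQ ![e, f] (by omega)
  have hxe : B x e = 0 := hx 0
  have hxf : B x f = 0 := hx 1
  have hxu : B x u = 0 := by rw [QuadraticMap.polar_add_right, hxe, hxf, add_zero]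
  have heu : B e u = 1 := by rw [QuadraticMap.polar_add_right, hBee, hef, zero_add]
  have hfu : B f u = 1 := by rw [QuadraticMap.polar_add_right, hfe, hBff, add_zero]
  have hxW : x ∉ W := fun h => by
    obtain ⟨a, b, rfl⟩ := hexp x h
    simp [QuadraticMap.polar_add_left, QuadraticMap.polar_smul_left, hef, hfe, hBee, hBff] at hxe hxf
    exact hx0 (by simp [hxe, hxf])
  refine Asch.exists_between hle ?_ fun hall => ?_
  · obtain ⟨t, ht, htx⟩ := exists_siegel hQ hT hQx (w := e - f)
      (by rw [QuadraticMap.polar_sub_right, hxe, hxf, sub_zero])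
    refine ⟨t, ⟨(MaxTv.mem_subspaceStabilizer_iff _ t).2 fun z hz => ?_, ht⟩, fun h => ?_⟩
    · obtain ⟨c, rfl⟩ := Submodule.mem_span_singleton.1 hz
      rw [Matrix.mulVec_smul, htx, hxu, QuadraticMap.polar_sub_left, heu, hfu]
      simp only [zero_smul, mul_zero, add_zero, zero_add, sub_self, sub_zero]
      exact Submodule.smul_mem _ _ (Submodule.mem_span_singleton_self u)
    · have h1 := (MaxTv.mem_subspaceStabilizer_iff W t).1 h e heW
      rw [htx, hxe, QuadraticMap.polar_sub_left, hBee, hfe] at h1
      simp at h1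
      exact hxW ((Submodule.add_mem_iff_right W heW).1 h1)
  · obtain ⟨t, ht, htx⟩ := exists_siegel hQ hT hQx hxe
    have h1 := (MaxTv.mem_subspaceStabilizer_iff _ t).1 (hall ht) u (Submodule.mem_span_singleton_self u)
    rw [htx, hxu, heu, one_smul, zero_smul, mul_zero, zero_smul,
      add_zero, sub_zero, Submodule.sub_mem_iff_right _ (Submodule.mem_span_singleton_self u)] at h1
    obtain ⟨c, hc⟩ := Submodule.mem_span_singleton.1 h1
    exact hxW (hc ▸ W.smul_mem c huW)

end Cfsg.Agent.Classical.AschOrthTwo
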