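import Cfsg.Agent.Lib.Classical.SLGroup
import Cfsg.Prelude.Def_GeometricClasses

/-!
Transvections in subgroups of `GL`, for maximality arguments.
-/

set_option autoImplicit false
set_option linter.unusedSectionVars false

namespace Cfsg.Agent.Classical.MaxTv

open Matrix Module

variable {F : Type*} [Field F] {ι : Type} [Fintype ι] [DecidableEq ι]

local notation "V" => (ι → F)
local notation "Mn" => Matrix ι ι F

/-- `H` contains the transvection `x ↦ x + φ(x) v`. -/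
def InT (H : Subgroup (GL ι F)) (v φ : V) : Prop :=
  ∃ g ∈ H, ∀ x : V, (g : Mn) *ᵥ x = x + (φ ⬝ᵥ x) • v

variable {H : Subgroup (GL ι F)} {v φ ψ : ι → F}

theorem tv_val {g : GL ι F} (h : ∀ x : V, (g : Mn) *ᵥ x = x + (φ ⬝ᵥ x) • v) :
    (g : Mn) = 1 + vecMulVec v φ :=
  Matrix.ext_iff_mulVec.2 fun x => by rw [h, Matrix.add_mulVec, Matrix.one_mulVec, Matrix.vecMulVec_mulVec]; simp

theorem InT.zero_left (φ : V) : InT H 0 φ := ⟨1, one_mem H, fun x => by simp⟩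

theorem InT.zero_right (v : V) : InT H v 0 := ⟨1, one_mem H, fun x => by simp⟩

theorem InT.add_right (h : InT H v φ) (h' : InT H v ψ) (hφ : φ ⬝ᵥ v = 0) : InT H v (φ + ψ) := by
  obtain ⟨g, hg, hgx⟩ := h
  obtain ⟨k, hk, hkx⟩ := h'
  refine ⟨g * k, mul_mem hg hk, fun x => ?_⟩
  rw [Units.val_mul, ← Matrix.mulVec_mulVec, hkx, hgx, dotProduct_add, dotProduct_smul, hφ, add_dotProduct]
  simp only [smul_zero, smul_eq_mul, mul_zero, add_zero]
  module

theorem InT.add_left {w : V} (h : InT H v φ) (h' : InT H w φ) (hw : φ ⬝ᵥ w = 0) : InT H (v + w) φ := by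
  obtain ⟨g, hg, hgx⟩ := h
  obtain ⟨k, hk, hkx⟩ := h'
  refine ⟨g * k, mul_mem hg hk, fun x => ?_⟩
  rw [Units.val_mul, ← Matrix.mulVec_mulVec, hkx, hgx, dotProduct_add, dotProduct_smul, hw]
  simp only [smul_zero, smul_eq_mul, mul_zero, add_zero]
  module

theorem InT.neg (h : InT H v φ) (hφ : φ ⬝ᵥ v = 0) : InT H v (-φ) := by
  obtain ⟨g, hg, hgx⟩ := h
  refine ⟨g⁻¹, inv_mem hg, fun x => ?_⟩
  have h1 := hgx (x + (-φ ⬝ᵥ x) • v)
  rw [dotProduct_add, dotProduct_smul, hφ, neg_dotProduct, smul_eq_mul, mul_zero, add_zero, add_assoc,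
    ← add_smul, neg_add_cancel, zero_smul, add_zero] at h1
  conv_lhs => rw [← h1]
  rw [Matrix.mulVec_mulVec, ← Units.val_mul, inv_mul_cancel, Units.val_one, Matrix.one_mulVec,
    neg_dotProduct]

/-- The inverse transpose action on functionals. -/
theorem vecMul_inv_dot (g : GL ι F) (φ x : V) :
    (φ ᵥ* ((g⁻¹ : GL ι F) : Mn)) ⬝ᵥ ((g : Mn) *ᵥ x) = φ ⬝ᵥ x := by
  rw [← Matrix.dotProduct_mulVec, Matrix.mulVec_mulVec, ← Units.val_mul, inv_mul_cancel, Units.val_one,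
    Matrix.one_mulVec]

theorem InT.conj (h : InT H v φ) {g : GL ι F} (hg : g ∈ H) :
    InT H ((g : Mn) *ᵥ v) (φ ᵥ* ((g⁻¹ : GL ι F) : Mn)) := by
  obtain ⟨k, hk, hkx⟩ := h
  refine ⟨g * k * g⁻¹, mul_mem (mul_mem hg hk) (inv_mem hg), fun x => ?_⟩
  rw [Units.val_mul, Units.val_mul, ← Matrix.mulVec_mulVec, ← Matrix.mulVec_mulVec, hkx, Matrix.mulVec_add,
    Matrix.mulVec_mulVec _ (g : Mn), ← Units.val_mul, mul_inv_cancel, Units.val_one, Matrix.one_mulVec,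
    Matrix.mulVec_smul, Matrix.dotProduct_mulVec]

theorem det_tv {g : GL ι F} (h : ∀ x : V, (g : Mn) *ᵥ x = x + (φ ⬝ᵥ x) • v) (hφ : φ ⬝ᵥ v = 0) :
    g ∈ Geo.specialLinear ι F := by
  refine MonoidHom.mem_ker.2 (Units.ext ?_)
  rw [Matrix.GeneralLinearGroup.val_det_apply, tv_val h, Matrix.vecMulVec_eq Unit,
    Matrix.det_one_add_replicateCol_mul_replicateRow, hφ, add_zero]
  rfl

theorem exists_tv (hφ : φ ⬝ᵥ v = 0) : ∃ g : GL ι F, ∀ x : V, (g : Mn) *ᵥ x = x + (φ ⬝ᵥ x) • v := by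
  refine ⟨⟨1 + vecMulVec v φ, 1 - vecMulVec v φ, ?_, ?_⟩, fun x => ?_⟩
  · have : vecMulVec v φ * vecMulVec v φ = 0 := by rw [Matrix.vecMulVec_mul_vecMulVec, hφ]; simp
    rw [add_mul, one_mul, mul_sub, mul_one, this]; abel
  · have : vecMulVec v φ * vecMulVec v φ = 0 := by rw [Matrix.vecMulVec_mul_vecMulVec, hφ]; simp
    rw [sub_mul, one_mul, mul_add, mul_one, this]; abel
  · show (1 + vecMulVec v φ) *ᵥ x = _
    rw [Matrix.add_mulVec, Matrix.one_mulVec, Matrix.vecMulVec_mulVec]; simp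

theorem InT.of_mem (K : Subgroup (GL ι F)) (hφ : φ ⬝ᵥ v = 0)
    (h : ∀ g : GL ι F, (∀ x : V, (g : Mn) *ᵥ x = x + (φ ⬝ᵥ x) • v) → g ∈ K) : InT K v φ := by
  obtain ⟨g, hg⟩ := exists_tv hφ
  exact ⟨g, h g hg, hg⟩

theorem InT.mono {K : Subgroup (GL ι F)} (h : InT H v φ) (hle : H ≤ K) : InT K v φ :=
  h.imp fun _ hg => ⟨hle hg.1, hg.2⟩

/-- All transvections give all of `SL`. -/
theorem specialLinear_le (h : ∀ v φ : V, φ ⬝ᵥ v = 0 → InT H v φ) : Geo.specialLinear ι F ≤ H := by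
  intro g hg
  have hle : (⊤ : Subgroup (Matrix.SpecialLinearGroup ι F)) ≤
      H.comap Matrix.SpecialLinearGroup.toGL := by
    rw [← SL_closure_transvections, Subgroup.closure_le]
    rintro _ ⟨⟨i, l, hil, c⟩, rfl⟩
    obtain ⟨k, hk, hkx⟩ := h (Pi.single i c) (Pi.single l 1) (by simp [hil.symm])
    show Matrix.SpecialLinearGroup.toGL _ ∈ H
    convert hk using 1
    refine Units.ext (Matrix.ext_iff_mulVec.2 fun x => ?_)
    rw [hkx]
    show Matrix.transvection i l c *ᵥ x = _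
    funext a
    simp [Matrix.transvection, Matrix.add_mulVec, Matrix.single_mulVec_eq, Pi.single_apply]
    split_ifs <;> ring
  have hdet : (g : Mn).det = 1 := congrArg Units.val (MonoidHom.mem_ker.1 hg)
  obtain ⟨u, hu⟩ : ∃ u : Matrix.SpecialLinearGroup ι F, (u : Mn) = g := ⟨⟨(g : Mn), hdet⟩, rfl⟩
  have h1 : Matrix.SpecialLinearGroup.toGL u ∈ H := hle (Subgroup.mem_top u)
  exact (show Matrix.SpecialLinearGroup.toGL u = g from Units.ext hu) ▸ h1

/-- Criterion for maximality. -/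
theorem isMaximalIn_intro {G : Type*} [Group G] {K H : Subgroup G} (hle : H ≤ K) (hne : ¬ K ≤ H)
    (hmax : ∀ M : Subgroup G, H ≤ M → M ≤ K → ∀ g ∈ M, g ∉ H → K ≤ M) : Geo.IsMaximalIn K H := by
  refine ⟨lt_of_le_of_ne hle fun e => hne e.ge, fun M hHM hMK => ?_⟩
  by_cases h : M ≤ H
  · exact Or.inl (le_antisymm h hHM)
  · obtain ⟨g, hg, hgH⟩ := SetLike.not_le_iff_exists.1 h
    exact Or.inr (le_antisymm hMK (hmax M hHM hMK g hg hgH))

/-- Two functionals non-zero on a subspace are simultaneously non-zero somewhere on it. -/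
theorem exists_both {W : Type*} [AddCommGroup W] [Module F W] {S : Submodule F W} (a b : W →ₗ[F] F)
    (ha : ∃ x ∈ S, a x ≠ 0) (hb : ∃ x ∈ S, b x ≠ 0) : ∃ x ∈ S, a x ≠ 0 ∧ b x ≠ 0 := by
  obtain ⟨x, hx, hax⟩ := ha
  obtain ⟨y, hy, hby⟩ := hb
  by_cases h1 : b x ≠ 0
  · exact ⟨x, hx, hax, h1⟩
  by_cases h2 : a y ≠ 0
  · exact ⟨y, hy, h2, hby⟩
  push Not at h1 h2
  exact ⟨x + y, add_mem hx hy, by rw [map_add, h2, add_zero]; exact hax,
    by rw [map_add, h1, zero_add]; exact hby⟩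

/-- A linear functional as a row vector. -/
theorem exists_dot (a : V →ₗ[F] F) : ∃ φ : V, ∀ x, φ ⬝ᵥ x = a x := by
  refine ⟨fun i => a (Pi.single i 1), fun x => ?_⟩
  conv_rhs => rw [← Finset.univ_sum_single x]
  rw [map_sum]
  refine Finset.sum_congr rfl fun i _ => ?_
  rw [show Pi.single i (x i) = x i • (Pi.single i (1 : F) : V) by rw [← Pi.single_smul, smul_eq_mul, mul_one],
    map_smul, smul_eq_mul, mul_comm]

end Cfsg.Agent.Classical.MaxTv
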