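import Cfsg.Agent.Lib.Classical.AschMain
import Cfsg.Agent.Lib.Classical.MaxTransvection

/-!
The special linear group lies in no member of a geometric class.
-/

set_option autoImplicit false
set_option linter.unusedSectionVars false
set_option linter.unusedFintypeInType false
set_option linter.unusedDecidableInType false

namespace Cfsg.Agent.Classical.Asch

open Matrix Module Cfsg.Geo
open scoped Kronecker

variable {F : Type*} [Field F] {ι : Type} [Fintype ι] [DecidableEq ι]

theorem exists_transvection {v φ : ι → F} (h : φ ⬝ᵥ v = 0) :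
    ∃ g ∈ specialLinear ι F, ∀ x : ι → F, (g : Matrix ι ι F) *ᵥ x = x + (φ ⬝ᵥ x) • v := by
  obtain ⟨g, hg⟩ := MaxTv.exists_tv h
  exact ⟨g, MaxTv.det_tv hg h, hg⟩

theorem dot_single (a : ι) (x : ι → F) : (Pi.single a (1 : F) : ι → F) ⬝ᵥ x = x a := by simp

/-- An invariant subspace of the special linear group is trivial. -/
theorem sl_irr (h2 : 2 ≤ Fintype.card ι) : Irr (specialLinear ι F) := by
  refine irr_iff.2 fun W hW => ?_
  by_contra hcon
  push Not at hcon
  obtain ⟨v, hv, hv0⟩ := Submodule.exists_mem_ne_zero_of_ne_bot hcon.1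
  obtain ⟨j, hj⟩ := Function.ne_iff.1 hv0
  have hoff : ∀ i, i ≠ j → (Pi.single i 1 : ι → F) ∈ W := by
    intro i hi
    obtain ⟨g, hg, hgx⟩ := exists_transvection (v := (Pi.single i 1 : ι → F)) (φ := Pi.single j 1)
      (by simp [hi.symm])
    have h1 := hW g hg v hv
    rw [hgx, dot_single] at h1
    have h2 := W.smul_mem (v j)⁻¹ (W.sub_mem h1 hv)
    rwa [add_sub_cancel_left, smul_smul, inv_mul_cancel₀ hj, one_smul] at h2
  obtain ⟨i, hi⟩ := Fintype.exists_ne_of_one_lt_card (α := ι) (by omega) j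
  have hjW : (Pi.single j 1 : ι → F) ∈ W := by
    obtain ⟨g, hg, hgx⟩ := exists_transvection (v := (Pi.single j 1 : ι → F)) (φ := Pi.single i 1)
      (by simp [hi])
    have h1 := hW g hg _ (hoff i hi)
    rw [hgx, dot_single, Pi.single_eq_same, one_smul] at h1
    simpa using W.sub_mem h1 (hoff i hi)
  refine hcon.2 (eq_top_iff.2 fun x _ => ?_)
  rw [pi_eq_sum_univ' x]
  refine Submodule.sum_mem _ fun a _ => W.smul_mem _ ?_
  by_cases ha : a = j
  · subst ha; exact hjW
  · exact hoff a ha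

theorem not_sl_le_subspace (h2 : 2 ≤ Fintype.card ι) {W : Submodule F (ι → F)} (h1 : W ≠ ⊥) (ht : W ≠ ⊤) :
    ¬ specialLinear ι F ≤ subspaceStabilizer W := fun hle =>
  (irr_iff.1 (sl_irr h2) W fun g hg v hv => ((hle hg) v).1 hv).elim h1 ht

theorem not_sl_le_decomp (h2 : 2 ≤ Fintype.card ι) {t m : ℕ} {D : Fin t → Submodule F (ι → F)}
    (hD : IsMDecomposition m D) : ¬ specialLinear ι F ≤ decompositionStabilizer D := by
  intro hle
  let a : Fin t := ⟨0, by have := hD.two_le; omega⟩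
  let b : Fin t := ⟨1, by have := hD.two_le; omega⟩
  have hab : a ≠ b := by simp [a, b, Fin.ext_iff]
  have hne : ∀ i, D i ≠ ⊥ := fun i h => by
    have := hD.finrank_eq i
    rw [h, finrank_bot] at this
    exact hD.pos.ne this
  obtain ⟨u, hu, hu0⟩ := Submodule.exists_mem_ne_zero_of_ne_bot (hne a)
  obtain ⟨w, hw, hw0⟩ := Submodule.exists_mem_ne_zero_of_ne_bot (hne b)
  have huw : ∀ k, u + w ∉ D k := by
    intro k hk
    rcases eq_or_ne k a with rfl | hka
    · have h1 : w ∈ D a := by simpa using (D a).sub_mem hk hu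
      exact hw0 ((Submodule.disjoint_def.1 (hD.indep.pairwiseDisjoint hab)) w h1 hw)
    · have h1 : u ∈ D a ⊓ (⨆ (i) (_ : i ≠ a), D i) := ⟨hu, by
        have h2 : u + w ∈ (⨆ (i) (_ : i ≠ a), D i) := Submodule.mem_iSup_of_mem k (Submodule.mem_iSup_of_mem hka hk)
        have h3 : w ∈ (⨆ (i) (_ : i ≠ a), D i) :=
          Submodule.mem_iSup_of_mem b (Submodule.mem_iSup_of_mem hab.symm hw)
        simpa using Submodule.sub_mem _ h2 h3⟩
      rw [(hD.indep a).eq_bot, Submodule.mem_bot] at h1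
      exact hu0 h1
  obtain ⟨j, hj⟩ := Function.ne_iff.1 hu0
  -- some transvection moves u to u + w when w vanishes against a functional taking value one on u
  have hstep : ∀ φ : ι → F, φ ⬝ᵥ w = 0 → φ ⬝ᵥ u ≠ 0 → False := by
    intro φ hφw hφu
    obtain ⟨g, hg, hgx⟩ := exists_transvection (v := w) (φ := (φ ⬝ᵥ u)⁻¹ • φ) (by simp [hφw])
    obtain ⟨σ, hσ⟩ := hle hg
    have h1 : (g : Matrix ι ι F) *ᵥ u ∈ D (σ a) := by
      rw [← hσ]; exact ⟨u, hu, Matrix.toLin'_apply _ _⟩
    rw [hgx, smul_dotProduct, smul_eq_mul, inv_mul_cancel₀ hφu, one_smul] at h1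
    exact huw _ h1
  by_cases hex : ∀ φ : ι → F, φ ⬝ᵥ w = 0 → φ ⬝ᵥ u = 0
  · -- then u is a multiple of w
    obtain ⟨i, hi⟩ := Function.ne_iff.1 hw0
    have hu' : u = (u i * (w i)⁻¹) • w := by
      funext k
      have h1 := hex (Pi.single k (w i) - Pi.single i (w k)) (by simp [sub_dotProduct]; ring)
      simp [sub_dotProduct] at h1
      simp only [Pi.smul_apply, smul_eq_mul]
      have hi' : w i ≠ 0 := hi
      field_simp
      linear_combination h1
    exact hu0 ((Submodule.disjoint_def.1 (hD.indep.pairwiseDisjoint hab)) u hu (hu' ▸ (D b).smul_mem _ hw))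
  · push Not at hex
    obtain ⟨φ, h1, h2'⟩ := hex
    exact hstep φ h1 h2'

theorem sl_comm_scalar (h2 : 2 ≤ Fintype.card ι) {M : Matrix ι ι F}
    (h : ∀ g ∈ specialLinear ι F, M * (g : Matrix ι ι F) = (g : Matrix ι ι F) * M) :
    ∃ c : F, M = c • (1 : Matrix ι ι F) := by
  have hij : ∀ i j : ι, i ≠ j → (M i i = M j j) ∧ (∀ a, a ≠ i → M a i = 0) := by
    intro i j hij
    obtain ⟨g, hg, hgx⟩ := exists_transvection (v := (Pi.single i 1 : ι → F)) (φ := Pi.single j 1)
      (by simp [hij.symm])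
    have h1 : M *ᵥ ((g : Matrix ι ι F) *ᵥ Pi.single j 1) = (g : Matrix ι ι F) *ᵥ (M *ᵥ Pi.single j 1) := by
      rw [Matrix.mulVec_mulVec, Matrix.mulVec_mulVec, h g hg]
    rw [hgx, hgx, dot_single, dot_single, Matrix.mulVec_add, Pi.single_eq_same, one_smul] at h1
    have h2' := congrFun (add_left_cancel h1)
    refine ⟨by simpa using h2' i, fun a ha => ?_⟩
    simpa [ha] using h2' a
  obtain ⟨a, b, hab⟩ := Fintype.exists_pair_of_one_lt_card (α := ι) (by omega)
  refine ⟨M a a, Matrix.ext fun x y => ?_⟩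
  rw [Matrix.smul_apply, smul_eq_mul]
  by_cases hxy : x = y
  · subst hxy
    rw [Matrix.one_apply_eq, mul_one]
    by_cases hxa : x = a
    · rw [hxa]
    · exact (hij x a hxa).1
  · rw [Matrix.one_apply_ne hxy, mul_zero]
    obtain ⟨z, hz⟩ := Fintype.exists_ne_of_one_lt_card (α := ι) (by omega) y
    exact (hij y z hz.symm).2 x hxy

theorem not_sl_le_field (h3 : 3 ≤ Fintype.card ι) {r : ℕ} (hr : 2 ≤ r) {K : Subalgebra F (Matrix ι ι F)}
    (hK : IsFieldSubalgebra r K) : ¬ specialLinear ι F ≤ subalgebraNormalizer K := by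
  intro hle
  have hbot : K ≤ (⊥ : Subalgebra F (Matrix ι ι F)) := fun k hk => by
    let C : Subgroup (GL ι F) :=
      { carrier := {x | Commute k (x : Matrix ι ι F)}
        mul_mem' := fun {a b} (ha : Commute k _) (hb : Commute k _) => by
          show Commute k _
          rw [Units.val_mul]
          exact ha.mul_right hb
        one_mem' := by simp
        inv_mem' := fun {a} (ha : Commute k _) => ha.units_inv_right }
    have hC : ∀ v φ : ι → F, φ ⬝ᵥ v = 0 → MaxTv.InT C v φ := by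
      intro v φ h
      refine MaxTv.InT.of_mem C h fun g hg => ?_
      show Commute k _
      have hgS := MaxTv.det_tv hg h
      by_contra hne
      set d := (g : Matrix ι ι F) * k * ((g⁻¹ : GL ι F) : Matrix ι ι F) - k with hd
      have hdK : d ∈ K := K.sub_mem ((hle hgS k).1 hk) hk
      have hd0 : d ≠ 0 := fun h0 => hne (by
        have h1 : (g : Matrix ι ι F) * k * ((g⁻¹ : GL ι F) : Matrix ι ι F) = k := sub_eq_zero.1 (hd ▸ h0)
        show k * _ = _
        conv_lhs => rw [← h1]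
        rw [mul_assoc, Units.inv_mul, mul_one])
      obtain ⟨y, -, hy⟩ := hK.inv d hdK hd0
      have hy' : y * d = 1 := mul_eq_one_comm.1 hy
      let L : (ι → F) →ₗ[F] F × F :=
        { toFun := fun x => (φ ⬝ᵥ x, φ ⬝ᵥ (k *ᵥ x))
          map_add' := fun a b => by simp [Matrix.mulVec_add, dotProduct_add]
          map_smul' := fun c a => by simp [Matrix.mulVec_smul, dotProduct_smul] }
      obtain ⟨x, hx0, hxL⟩ : ∃ x, x ≠ 0 ∧ L x = 0 := by
        by_contra hno
        push Not at hno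
        have hinj : Function.Injective L := (injective_iff_map_eq_zero L).2 fun x hx => by
          by_contra h0
          exact hno x h0 hx
        have := LinearMap.finrank_le_finrank_of_injective hinj
        rw [Module.finrank_fintype_fun_eq_card, Module.finrank_prod, finrank_self] at this
        omega
      have hx1 : φ ⬝ᵥ x = 0 := congrArg Prod.fst hxL
      have hx2 : φ ⬝ᵥ (k *ᵥ x) = 0 := congrArg Prod.snd hxL
      have hgx' : (g : Matrix ι ι F) *ᵥ x = x := by rw [hg, hx1, zero_smul, add_zero]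
      have hginv : ((g⁻¹ : GL ι F) : Matrix ι ι F) *ᵥ x = x := by
        conv_lhs => rw [← hgx']
        rw [Matrix.mulVec_mulVec, Units.inv_mul, Matrix.one_mulVec]
      have hdx : d *ᵥ x = 0 := by
        rw [hd, Matrix.sub_mulVec, ← Matrix.mulVec_mulVec, hginv, ← Matrix.mulVec_mulVec, hg, hx2,
          zero_smul, add_zero, sub_self]
      apply hx0
      rw [← Matrix.one_mulVec x, ← hy', ← Matrix.mulVec_mulVec, hdx, Matrix.mulVec_zero]
    obtain ⟨c, hc⟩ := sl_comm_scalar (M := k) (by omega) fun g hg => MaxTv.specialLinear_le hC hg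
    rw [hc, ← Algebra.algebraMap_eq_smul_one]
    exact Subalgebra.algebraMap_mem _ c
  haveI : Nonempty ι := Fintype.card_pos_iff.1 (by omega)
  have := hK.finrank_eq
  rw [eq_bot_iff.2 hbot, Subalgebra.finrank_bot] at this
  omega

theorem sl_conj {P g : GL ι F} (hg : g ∈ specialLinear ι F) : P * g * P⁻¹ ∈ specialLinear ι F := by
  show Matrix.GeneralLinearGroup.det _ = 1
  rw [map_mul, map_mul, show Matrix.GeneralLinearGroup.det g = 1 from hg, mul_one, map_inv, mul_inv_cancel]

/-- If the special linear group lies in a conjugate of a reindexed group, every transvection lies in the group. -/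
theorem transvection_mem {κ : Type} [Fintype κ] [DecidableEq κ] {e : ι ≃ κ} {P : GL ι F}
    {K : Subgroup (GL κ F)} (hle : specialLinear ι F ≤ (K.map (glReindex e.symm).toMonoidHom).map (MulAut.conj P).toMonoidHom)
    {p q : κ} (hpq : p ≠ q) :
    ∃ k ∈ K, (k : Matrix κ κ F) = 1 + Matrix.single p q 1 := by
  obtain ⟨g, hg, hgx⟩ := exists_transvection (v := (Pi.single (e.symm p) 1 : ι → F)) (φ := Pi.single (e.symm q) 1)
    (by simp [Ne.symm hpq])
  obtain ⟨y, ⟨k, hk, rfl⟩, hy⟩ := hle (sl_conj (P := P) hg)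
  refine ⟨k, hk, ?_⟩
  have h1 : (glReindex e.symm k : GL ι F) = g := by
    have h2 : P * glReindex e.symm k * P⁻¹ = P * g * P⁻¹ := hy
    exact mul_left_cancel (mul_right_cancel h2)
  have h2 : Matrix.reindexAlgEquiv F F e.symm (k : Matrix κ κ F) = (g : Matrix ι ι F) :=
    congrArg (fun t : GL ι F => (t : Matrix ι ι F)) h1
  ext a b
  have h3 := congrFun (congrFun h2 (e.symm a)) (e.symm b)
  simp only [Matrix.reindexAlgEquiv_apply, Matrix.reindex_apply, Matrix.submatrix_apply, Equiv.symm_symm,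
    Equiv.apply_symm_apply] at h3
  rw [h3, MaxTv.tv_val hgx]
  simp only [Matrix.add_apply, Matrix.vecMulVec, Matrix.of_apply, Matrix.single_apply, Matrix.one_apply,
    Pi.single_apply, EmbeddingLike.apply_eq_iff_eq]
  rcases eq_or_ne p a with rfl | h1 <;> rcases eq_or_ne q b with rfl | h2 <;> simp_all [eq_comm]

theorem not_sl_le_tensor {a b : ℕ} (ha : 2 ≤ a) (hb : 2 ≤ b) (e : ι ≃ Fin a × Fin b) (P : GL ι F) :
    ¬ specialLinear ι F ≤ tensorProductSubgroup a b e P := by
  intro hle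
  let i0 : Fin a := ⟨0, by omega⟩
  let i1 : Fin a := ⟨1, by omega⟩
  let j0 : Fin b := ⟨0, by omega⟩
  let j1 : Fin b := ⟨1, by omega⟩
  have hi : i0 ≠ i1 := by simp [i0, i1, Fin.ext_iff]
  have hj : j0 ≠ j1 := by simp [j0, j1, Fin.ext_iff]
  obtain ⟨k, ⟨A, B, hk⟩, hval⟩ := transvection_mem hle (p := (i0, j0)) (q := (i1, j1)) (by simp [hi])
  rw [hk] at hval
  have h := fun x y => congrFun (congrFun hval x) y
  have h00 := h (i0, j0) (i0, j0)
  have h01 := h (i0, j0) (i1, j1)
  have hmix := h (i0, j0) (i0, j1)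
  simp [Matrix.single_apply, hi, hj, hi.symm, hj.symm] at h00 h01 hmix
  rcases hmix with h' | h'
  · simp [h'] at h00
  · simp [h'] at h01

theorem prod_one_apply {κ α : Type*} [Fintype κ] [DecidableEq κ] [DecidableEq α] [Fintype α] (u w : κ → α) :
    ∏ i, (1 : Matrix α α F) (u i) (w i) = if u = w then 1 else 0 := by
  by_cases h : u = w
  · subst h; simp
  · rw [if_neg h]
    obtain ⟨i, hi⟩ := Function.ne_iff.1 h
    exact Finset.prod_eq_zero (f := fun i => (1 : Matrix α α F) (u i) (w i)) (Finset.mem_univ i)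
      (Matrix.one_apply_ne hi)

theorem mem_wreathStandard [Fintype F] {m t : ℕ} {g : GL (Fin t → Fin m) F} (hg : g ∈ tensorWreathStandard m t F) :
    ∃ (σ : Equiv.Perm (Fin t)) (gs : Fin t → Matrix (Fin m) (Fin m) F),
      ∀ x y, (g : Matrix (Fin t → Fin m) (Fin t → Fin m) F) x y = ∏ i, gs i (x i) (y (σ i)) := by
  have hone : ∃ (σ : Equiv.Perm (Fin t)) (gs : Fin t → Matrix (Fin m) (Fin m) F),
      ∀ x y, ((1 : GL (Fin t → Fin m) F) : Matrix (Fin t → Fin m) (Fin t → Fin m) F) x y = ∏ i, gs i (x i) (y (σ i)) := by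
    refine ⟨1, fun _ => 1, fun x y => ?_⟩
    show ((1 : GL (Fin t → Fin m) F) : Matrix (Fin t → Fin m) (Fin t → Fin m) F) x y = ∏ i, (1 : Matrix (Fin m) (Fin m) F) (x i) (y i)
    rw [Units.val_one, prod_one_apply, Matrix.one_apply]
  have hmul : ∀ a b : GL (Fin t → Fin m) F,
      (∃ (σ : Equiv.Perm (Fin t)) (gs : Fin t → Matrix (Fin m) (Fin m) F),
        ∀ x y, (a : Matrix (Fin t → Fin m) (Fin t → Fin m) F) x y = ∏ i, gs i (x i) (y (σ i))) →
      (∃ (σ : Equiv.Perm (Fin t)) (gs : Fin t → Matrix (Fin m) (Fin m) F),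
        ∀ x y, (b : Matrix (Fin t → Fin m) (Fin t → Fin m) F) x y = ∏ i, gs i (x i) (y (σ i))) →
      ∃ (σ : Equiv.Perm (Fin t)) (gs : Fin t → Matrix (Fin m) (Fin m) F),
        ∀ x y, ((a * b : GL (Fin t → Fin m) F) : Matrix (Fin t → Fin m) (Fin t → Fin m) F) x y = ∏ i, gs i (x i) (y (σ i)) := by
    intro a b ha hb
    obtain ⟨σ, A, hA⟩ := ha
    obtain ⟨τ, B, hB⟩ := hb
    refine ⟨σ.trans τ, fun i => A i * B (σ i), fun x y => ?_⟩
    rw [Units.val_mul, Matrix.mul_apply]
    simp only [hA, hB, Matrix.mul_apply, Equiv.trans_apply]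
    have : ∀ w : Fin t → Fin m, ∏ i, A i (x i) (w (σ i)) * B (σ i) (w (σ i)) (y (τ (σ i))) =
        (∏ i, A i (x i) (w (σ i))) * ∏ i, B i (w i) (y (τ i)) := fun w => by
      rw [Finset.prod_mul_distrib, Equiv.prod_comp σ fun i => B i (w i) (y (τ i))]
    rw [← Finset.sum_congr rfl fun w _ => this w, Fintype.prod_sum]
    exact (Equiv.sum_comp (σ.arrowCongr (Equiv.refl (Fin m))).symm fun w =>
      ∏ i, A i (x i) (w i) * B (σ i) (w i) (y (τ (σ i))))
  induction hg using Subgroup.closure_induction with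
  | mem g hg =>
    rcases hg with ⟨gs, hgs⟩ | ⟨σ, hσ⟩
    · exact ⟨1, fun i => gs i, fun x y => hgs x y⟩
    · refine ⟨σ.symm, fun _ => 1, fun x y => ?_⟩
      rw [hσ, prod_one_apply x (fun i => y (σ.symm i))]
      have heq : (y = x ∘ σ) ↔ (x = fun i => y (σ.symm i)) := by
        constructor
        · intro h; subst h; funext i; simp
        · intro h; funext i; simpa using (congrFun h (σ i)).symm
      by_cases h : y = x ∘ σ
      · rw [if_pos h, if_pos (heq.1 h)]
      · rw [if_neg h, if_neg (mt heq.2 h)]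
  | one => exact hone
  | mul a b _ _ ha hb => exact hmul a b ha hb
  | inv a _ ha =>
    -- in a finite group the inverse is a power
    have hpow : ∀ k : ℕ, ∃ (σ : Equiv.Perm (Fin t)) (gs : Fin t → Matrix (Fin m) (Fin m) F),
        ∀ x y, ((a ^ k : GL (Fin t → Fin m) F) : Matrix (Fin t → Fin m) (Fin t → Fin m) F) x y = ∏ i, gs i (x i) (y (σ i)) := by
      intro k
      induction k with
      | zero => exact hone
      | succ k ih => rw [pow_succ]; exact hmul _ _ ih ha
    have h1 : a⁻¹ = a ^ (orderOf a - 1) := by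
      rw [inv_eq_iff_mul_eq_one, ← pow_succ', Nat.sub_add_cancel (orderOf_pos a), pow_orderOf_eq_one]
    rw [h1]
    exact hpow _

theorem not_sl_le_wreath [Fintype F] {m t : ℕ} (hm : 2 ≤ m) (ht : 2 ≤ t) (e : ι ≃ (Fin t → Fin m)) (P : GL ι F) :
    ¬ specialLinear ι F ≤ tensorWreathSubgroup m t e P := by
  classical
  intro hle
  let c0 : Fin m := ⟨0, by omega⟩
  let c1 : Fin m := ⟨1, by omega⟩
  let l0 : Fin t := ⟨0, by omega⟩
  let l1 : Fin t := ⟨1, by omega⟩
  have hc : c0 ≠ c1 := by simp [c0, c1, Fin.ext_iff]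
  have hl : l0 ≠ l1 := by simp [l0, l1, Fin.ext_iff]
  let p : Fin t → Fin m := fun _ => c0
  let q : Fin t → Fin m := Function.update (Function.update p l0 c1) l1 c1
  have hpq : p ≠ q := fun h => by
    have := congrFun h l1
    simp [q, p, hc] at this
  obtain ⟨k, hk, hval⟩ := transvection_mem hle hpq
  obtain ⟨σ, A, hA⟩ := mem_wreathStandard hk
  have hdiag : ∀ (x : Fin t → Fin m) i, A i (x i) (x (σ i)) ≠ 0 := fun x i h0 => by
    have := congrFun (congrFun hval x) x
    rw [hA, Finset.prod_eq_zero (Finset.mem_univ i) h0] at this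
    simp [Matrix.single_apply, show ¬ (p = x ∧ q = x) from fun h => hpq (h.1.trans h.2.symm)] at this
  have hσ : σ = 1 := by
    by_contra hne
    obtain ⟨i, hi⟩ : ∃ i, σ i ≠ i := by
      by_contra hno
      push Not at hno
      exact hne (Equiv.ext hno)
    -- every entry in slot i is non-zero, so an off-diagonal entry is non-zero
    have hall : ∀ a b, A i a b ≠ 0 := fun a b => by
      have := hdiag (Function.update (Function.update p i a) (σ i) b) i
      simpa [hi, Ne.symm hi] using this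
    let x : Fin t → Fin m := fun _ => c1
    let y : Fin t → Fin m := Function.update x (σ i) c0
    have h1 := congrFun (congrFun hval x) y
    have hxy : x ≠ y := fun h => by
      have := congrFun h (σ i)
      simp [x, y, hc.symm] at this
    rw [hA] at h1
    simp [Matrix.single_apply, Matrix.one_apply_ne hxy,
      show ¬ p = x from fun h => hc (congrFun h l0)] at h1
    obtain ⟨l, hl'⟩ := Finset.prod_eq_zero_iff.1 h1
    rcases eq_or_ne l i with rfl | hli
    · exact hall _ _ hl'.2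
    · have h2 := hdiag x l
      rw [show y (σ l) = x (σ l) from Function.update_of_ne (fun h => hli (σ.injective h)) _ _] at hl'
      exact h2 hl'.2
  subst hσ
  have h01 := congrFun (congrFun hval p) q
  rw [hA] at h01
  simp [Matrix.single_apply, Matrix.one_apply_ne hpq] at h01
  have hne : ∀ i, A i (p i) (q i) ≠ 0 := fun i h0 => by
    have := Finset.prod_eq_zero (s := Finset.univ) (f := fun i => A i (p i) (q i)) (Finset.mem_univ i) h0
    simp [this] at h01
  have hmix := congrFun (congrFun hval p) (Function.update p l0 c1)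
  have hpne : p ≠ Function.update p l0 c1 := fun h => by
    have := congrFun h l0
    simp [p, hc] at this
  rw [hA] at hmix
  simp [Matrix.single_apply, Matrix.one_apply_ne hpne,
    show ¬ q = Function.update p l0 c1 from fun h => by
      have := congrFun h l1
      simp [q, p, Ne.symm hl, hc.symm] at this] at hmix
  obtain ⟨l, hl'⟩ := Finset.prod_eq_zero_iff.1 hmix
  rcases eq_or_ne l l0 with rfl | hll
  · have := hne l0
    simp [q, p, hl] at this
    exact this (by simpa [p] using hl'.2)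
  · have h2 := hdiag p l
    rw [Function.update_of_ne hll] at hl'
    exact h2 hl'.2

theorem not_sl_le_subfield (h2 : 2 ≤ Fintype.card ι) {F₀ : Subfield F} (hne : F₀ ≠ ⊤) (P : GL ι F) :
    ¬ specialLinear ι F ≤ subfieldSubgroup F₀ P := by
  intro hle
  obtain ⟨c, hc⟩ : ∃ c : F, c ∉ F₀ := by
    by_contra hno
    push Not at hno
    exact hne (eq_top_iff.2 fun x _ => hno x)
  obtain ⟨i, j, hij⟩ := Fintype.exists_pair_of_one_lt_card (α := ι) (by omega)
  obtain ⟨g, hg, hgx⟩ := exists_transvection (v := (Pi.single i c : ι → F)) (φ := Pi.single j 1) (by simp [hij.symm])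
  obtain ⟨y, hy, hye⟩ := hle (sl_conj (P := P) hg)
  have hyg : y = g := mul_left_cancel (mul_right_cancel (show P * y * P⁻¹ = P * g * P⁻¹ from hye))
  subst hyg
  rw [Subgroup.mul_normal] at hy
  obtain ⟨u, hu, z, hz, huz⟩ := hy
  obtain ⟨u, rfl⟩ := hu
  obtain ⟨d, hd⟩ := (mem_scalars_iff z).1 hz
  have hval : ∀ a b, (y : Matrix ι ι F) a b = (d : F) * (((u : Matrix ι ι F₀) a b : F₀) : F) := fun a b => by
    rw [← huz, Units.val_mul, hd, Matrix.mul_smul, mul_one, Matrix.smul_apply, smul_eq_mul]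
    rfl
  have hy1 : (y : Matrix ι ι F) i i = 1 := by
    rw [MaxTv.tv_val hgx]; simp [Matrix.vecMulVec, hij]
  have hyc : (y : Matrix ι ι F) i j = c := by
    rw [MaxTv.tv_val hgx]; simp [Matrix.vecMulVec, hij]
  rw [hval] at hy1 hyc
  have hdinv : (d : F) = (((u : Matrix ι ι F₀) i i : F₀) : F)⁻¹ := eq_inv_of_mul_eq_one_left hy1
  exact hc (hyc ▸ hdinv ▸ F₀.mul_mem (F₀.inv_mem ((u : Matrix ι ι F₀) i i).2) ((u : Matrix ι ι F₀) i j).2)

theorem sl_generated_commutators (h3 : 3 ≤ Fintype.card ι) {C : Subgroup (GL ι F)}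
    (h : ∀ a ∈ specialLinear ι F, ∀ b ∈ specialLinear ι F, a * b * a⁻¹ * b⁻¹ ∈ C) : specialLinear ι F ≤ C := by
  intro g hg
  have hdet : (g : Matrix ι ι F).det = 1 := congrArg Units.val (MonoidHom.mem_ker.1 hg)
  have hle : (⊤ : Subgroup (Matrix.SpecialLinearGroup ι F)) ≤ C.comap Matrix.SpecialLinearGroup.toGL := by
    rw [← SL_commutator_eq_top_of_three_le h3]
    refine (Subgroup.commutator_le).2 fun a _ b _ => ?_
    show Matrix.SpecialLinearGroup.toGL (a * b * a⁻¹ * b⁻¹) ∈ C
    rw [map_mul, map_mul, map_mul, map_inv, map_inv]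
    exact h _ (MonoidHom.mem_ker.2 (Units.ext (by rw [Matrix.GeneralLinearGroup.val_det_apply]; exact a.2))) _
      (MonoidHom.mem_ker.2 (Units.ext (by rw [Matrix.GeneralLinearGroup.val_det_apply]; exact b.2)))
  obtain ⟨u, hu⟩ : ∃ u : Matrix.SpecialLinearGroup ι F, (u : Matrix ι ι F) = g := ⟨⟨_, hdet⟩, rfl⟩
  have h1 := hle (Subgroup.mem_top u)
  exact (show Matrix.SpecialLinearGroup.toGL u = g from Units.ext hu) ▸ h1

set_option maxHeartbeats 1000000 in
/-- The special linear group normalises no group of symplectic type acting absolutely irreducibly. -/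
theorem not_sl_le_normalizer [Fintype F] (h3 : 3 ≤ Fintype.card ι) {r : ℕ} {R : Subgroup (GL ι F)}
    (hR : IsLinearSymplecticTypeData r R) : ¬ specialLinear ι F ≤ subgroupNormalizer R := by
  classical
  intro hle
  haveI : Nonempty ι := Fintype.card_pos_iff.1 (by omega)
  haveI : Fintype R := Fintype.ofFinite R
  have hnorm : Norms (specialLinear ι F) R := fun g hg x hx => (Subgroup.mem_normalizer_iff.1 (hle hg) x).1 hx
  -- the commutators of the special linear group with R lie in both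
  have hcom : ∀ g ∈ specialLinear ι F, ∀ x ∈ R, g * x * g⁻¹ * x⁻¹ ∈ specialLinear ι F ⊓ R := by
    intro g hg x hx
    refine ⟨?_, R.mul_mem (hnorm g hg x hx) (R.inv_mem hx)⟩
    rw [show g * x * g⁻¹ * x⁻¹ = g * (x * g⁻¹ * x⁻¹) by group]
    exact mul_mem hg (sl_conj (inv_mem hg))
  set K := specialLinear ι F ⊓ R with hK
  have hKn : Norms (specialLinear ι F) K := fun g hg x hx =>
    ⟨(specialLinear ι F).mul_mem ((specialLinear ι F).mul_mem hg hx.1) ((specialLinear ι F).inv_mem hg),
      hnorm g hg x hx.2⟩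
  haveI : Fact r.Prime := ⟨hR.symplecticType.prime⟩
  have hKs : K ≤ scalars ι F := by
    by_contra hns
    -- a non-central normal subgroup of the special linear group is everything
    have hK' : specialLinear ι F ≤ K := by
      let K₁ : Subgroup (Matrix.SpecialLinearGroup ι F) := K.comap Matrix.SpecialLinearGroup.toGL
      haveI : K₁.Normal := ⟨fun x hx g => by
        show Matrix.SpecialLinearGroup.toGL (g * x * g⁻¹) ∈ K
        rw [map_mul, map_mul, map_inv]
        exact hKn _ (MonoidHom.mem_ker.2 (Units.ext (by rw [Matrix.GeneralLinearGroup.val_det_apply]; exact g.2))) _ hx⟩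
      haveI : Nontrivial ι := Fintype.one_lt_card_iff_nontrivial.1 (by omega)
      obtain ⟨x, hx, hxs⟩ := SetLike.not_le_iff_exists.1 hns
      have hx1 : (x : Matrix ι ι F).det = 1 := congrArg Units.val (MonoidHom.mem_ker.1 hx.1)
      let x₁ : Matrix.SpecialLinearGroup ι F := ⟨(x : Matrix ι ι F), hx1⟩
      have hx₁ : x₁ ∈ K₁ := by
        show Matrix.SpecialLinearGroup.toGL x₁ ∈ K
        rwa [show Matrix.SpecialLinearGroup.toGL x₁ = x from Units.ext rfl]
      let π := QuotientGroup.mk' (Subgroup.center (Matrix.SpecialLinearGroup ι F))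
      haveI := PSL_simple_of_three_le (F := F) h3
      haveI : (K₁.map π).Normal := ‹K₁.Normal›.map π (QuotientGroup.mk'_surjective _)
      have htop : K₁.map π = ⊤ := by
        refine (IsSimpleGroup.eq_bot_or_eq_top_of_normal (K₁.map π) inferInstance).resolve_left fun hb => hxs ?_
        have h1 : π x₁ ∈ K₁.map π := ⟨x₁, hx₁, rfl⟩
        rw [hb, Subgroup.mem_bot, QuotientGroup.mk'_apply, QuotientGroup.eq_one_iff,
          Matrix.SpecialLinearGroup.mem_center_iff] at h1
        obtain ⟨c, -, hc⟩ := h1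
        refine (mem_scalars_iff x).2 ⟨Units.mk0 c fun h0 => x.ne_zero ?_, ?_⟩
        · show (x₁ : Matrix ι ι F) = 0
          rw [← hc, h0, map_zero]
        · show (x₁ : Matrix ι ι F) = c • 1
          rw [← hc, Matrix.scalar_apply, Matrix.smul_one_eq_diagonal]
      refine sl_generated_commutators h3 fun a ha b hb => ?_
      let a₁ : Matrix.SpecialLinearGroup ι F := ⟨(a : Matrix ι ι F), congrArg Units.val (MonoidHom.mem_ker.1 ha)⟩
      let b₁ : Matrix.SpecialLinearGroup ι F := ⟨(b : Matrix ι ι F), congrArg Units.val (MonoidHom.mem_ker.1 hb)⟩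
      have hlift : ∀ u : Matrix.SpecialLinearGroup ι F, ∃ k ∈ K₁, ∃ z ∈ Subgroup.center _, u = k * z := by
        intro u
        obtain ⟨k, hk, hku⟩ := htop.ge (Subgroup.mem_top (π u))
        refine ⟨k, hk, k⁻¹ * u, ?_, by group⟩
        rw [← QuotientGroup.eq]
        exact hku
      obtain ⟨k, hk, z, hz, hka⟩ := hlift a₁
      obtain ⟨l, hl, w, hw, hlb⟩ := hlift b₁
      have e1 : ∀ g, z * g = g * z := fun g => (Subgroup.mem_center_iff.1 hz g).symm
      have e2 : ∀ g, w * g = g * w := fun g => (Subgroup.mem_center_iff.1 hw g).symm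
      have hcm : a₁ * b₁ * a₁⁻¹ * b₁⁻¹ = k * l * k⁻¹ * l⁻¹ := by
        rw [hka, hlb]
        calc k * z * (l * w) * (k * z)⁻¹ * (l * w)⁻¹ = k * (z * (l * w * z⁻¹)) * k⁻¹ * (l * w)⁻¹ := by group
          _ = k * (l * w) * k⁻¹ * (l * w)⁻¹ := by rw [e1]; group
          _ = k * l * (w * (k⁻¹ * w⁻¹)) * l⁻¹ := by group
          _ = _ := by rw [e2]; group
      have hmem : a₁ * b₁ * a₁⁻¹ * b₁⁻¹ ∈ K₁ := hcm ▸ mul_mem (mul_mem (mul_mem hk hl) (inv_mem hk)) (inv_mem hl)
      have := hmem
      change Matrix.SpecialLinearGroup.toGL (a₁ * b₁ * a₁⁻¹ * b₁⁻¹) ∈ K at this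
      rw [map_mul, map_mul, map_mul, map_inv, map_inv, show Matrix.SpecialLinearGroup.toGL a₁ = a from Units.ext rfl,
        show Matrix.SpecialLinearGroup.toGL b₁ = b from Units.ext rfl] at this
      exact this
    have hSR : specialLinear ι F ≤ R := hK'.trans inf_le_right
    -- a transvection has order the characteristic, prime to r
    obtain ⟨p, e, hrp, hmin, -⟩ := hR.field
    haveI := hmin.2.1
    obtain ⟨i, j, hij⟩ := Fintype.exists_pair_of_one_lt_card (α := ι) (by omega)
    obtain ⟨g, hg, hgx⟩ := exists_transvection (v := (Pi.single i 1 : ι → F)) (φ := Pi.single j 1) (by simp [hij.symm])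
    have hk : ∀ (k : ℕ) (x : ι → F), ((g ^ k : GL ι F) : Matrix ι ι F) *ᵥ x = x + ((k : F) * x j) • Pi.single i 1 := by
      intro k
      induction k with
      | zero => intro x; simp
      | succ k ih =>
        intro x
        rw [pow_succ, Units.val_mul, ← Matrix.mulVec_mulVec, ih, hgx, dot_single, Pi.add_apply, Pi.smul_apply,
          Pi.single_eq_of_ne hij.symm, smul_zero, add_zero, add_assoc, ← add_smul, Nat.cast_succ]
        congr 2
        ring
    have hgp : g ^ p = 1 := Units.ext (Matrix.ext_iff_mulVec.2 fun x => by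
      rw [hk, CharP.cast_eq_zero, zero_mul, zero_smul, add_zero, Units.val_one, Matrix.one_mulVec])
    have hg1 : g ≠ 1 := fun h => by
      have := hgx (Pi.single j 1)
      rw [h, Units.val_one, Matrix.one_mulVec, dot_single, Pi.single_eq_same, one_smul] at this
      simpa [hij] using congrFun this i
    haveI : Fact p.Prime := ⟨hmin.1⟩
    have hord := orderOf_eq_prime hgp hg1
    obtain ⟨k, hk'⟩ := hR.symplecticType.pGroup ⟨g, hSR hg⟩
    have h1 : g ^ r ^ k = 1 := congrArg Subtype.val hk'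
    have h2 : p ∣ r ^ k := hord ▸ orderOf_dvd_of_pow_eq_one h1
    exact hrp ((Nat.prime_dvd_prime_iff_eq hmin.1 hR.symplecticType.prime).1 (hmin.1.dvd_of_dvd_pow h2)).symm
  -- so the special linear group centralises R
  obtain ⟨x, hx, hxs⟩ : ∃ x ∈ R, x ∉ scalars ι F :=
    SetLike.not_le_iff_exists.1 (AbData.not_le (by omega) (show AI R from hR.absIrred))
  apply hxs
  have hC : ∀ a ∈ specialLinear ι F, ∀ b ∈ specialLinear ι F,
      a * b * a⁻¹ * b⁻¹ ∈ Subgroup.centralizer ({x} : Set (GL ι F)) := by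
    intro a ha b hb
    rw [Subgroup.mem_centralizer_iff]
    intro y hy
    rw [Set.mem_singleton_iff] at hy
    subst hy
    obtain ⟨c, hc⟩ := exists_sc (hKs (hcom a ha y hx))
    obtain ⟨d, hd⟩ := exists_sc (hKs (hcom b hb y hx))
    have ea : a * y * a⁻¹ = sc c * y := by rw [← hc]; group
    have eb : b * y * b⁻¹ = sc d * y := by rw [← hd]; group
    have hcs : ∀ (s : Fˣ) (g z : GL ι F), g * (sc s * z) * g⁻¹ = sc s * (g * z * g⁻¹) := fun s g z => by
      rw [← mul_assoc g, ← (sc_comm s g).eq]; group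
    have hinv : ∀ (s : Fˣ) (g : GL ι F), g * y * g⁻¹ = sc s * y → g⁻¹ * y * g⁻¹⁻¹ = sc s⁻¹ * y := fun s g e => by
      have h1 : y = sc s * (g⁻¹ * y * g⁻¹⁻¹) := by rw [← hcs s g⁻¹ y, ← e]; group
      calc g⁻¹ * y * g⁻¹⁻¹ = sc s⁻¹ * (sc s * (g⁻¹ * y * g⁻¹⁻¹)) := by
            rw [← mul_assoc (sc s⁻¹), ← map_mul, inv_mul_cancel, map_one, one_mul]
        _ = _ := by rw [← h1]
    have hkey : (a * b * a⁻¹ * b⁻¹) * y * (a * b * a⁻¹ * b⁻¹)⁻¹ = y := by
      calc (a * b * a⁻¹ * b⁻¹) * y * (a * b * a⁻¹ * b⁻¹)⁻¹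
          = a * (b * (a⁻¹ * (b⁻¹ * y * b⁻¹⁻¹) * a⁻¹⁻¹) * b⁻¹) * a⁻¹ := by group
        _ = y := by
          rw [hinv d b eb, hcs, hinv c a ea, hcs, hcs, hcs, eb, hcs, hcs, ea, ← mul_assoc (sc d⁻¹), ← map_mul,
            ← mul_assoc, ← map_mul, ← mul_assoc, ← map_mul,
            show d⁻¹ * c⁻¹ * d * c = 1 by rw [mul_comm d⁻¹ c⁻¹, inv_mul_cancel_right, inv_mul_cancel], map_one,
            one_mul]
    symm
    exact mul_inv_eq_iff_eq_mul.1 hkey
  obtain ⟨c, hc⟩ := sl_comm_scalar (M := (x : Matrix ι ι F)) (by omega) fun g hg => by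
    have h1 := Subgroup.mem_centralizer_iff.1 (sl_generated_commutators h3 hC hg) x rfl
    simpa using congrArg (fun t : GL ι F => (t : Matrix ι ι F)) h1
  exact (mem_scalars_iff x).2 ⟨Units.mk0 c fun h0 => x.ne_zero (by rw [hc, h0, zero_smul]), hc⟩

theorem not_sl_le_similarity (h3 : 3 ≤ Fintype.card ι) {σ : F ≃+* F} {f : (ι → F) → (ι → F) → F} (hf : Sesq σ f)
    (hnd : IsNondegenerateForm f) : ¬ specialLinear ι F ≤ similarityGroup f := by
  intro hle
  obtain ⟨i⟩ : Nonempty ι := Fintype.card_pos_iff.1 (by omega)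
  set v : ι → F := Pi.single i 1 with hv
  have hv0 : v ≠ 0 := by simp [hv]
  -- the functional given by the form against v
  let ψ : ι → F := fun a => f (Pi.single a 1) v
  have hψ : ∀ u, f u v = ψ ⬝ᵥ u := fun u => by
    rw [hf.eq_gram]
    simp only [formOfGram_eq, ψ, dotProduct]
    refine Finset.sum_congr rfl fun a _ => ?_
    rw [hf.eq_gram, formOfGram_eq]
    simp [mul_comm]
  obtain ⟨φ, hφv, hφ⟩ : ∃ φ : ι → F, φ ⬝ᵥ v = 0 ∧ ∀ c : F, φ ≠ c • ψ := by
    by_contra hno
    push Not at hno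
    obtain ⟨a, b, hab, ha, hb⟩ : ∃ a b : ι, a ≠ b ∧ a ≠ i ∧ b ≠ i := by
      have hcard : 1 < (Finset.univ.erase i).card := by
        rw [Finset.card_erase_of_mem (Finset.mem_univ i), Finset.card_univ]; omega
      obtain ⟨a, ha, b, hb, hab⟩ := Finset.one_lt_card.1 hcard
      exact ⟨a, b, hab, Finset.ne_of_mem_erase ha, Finset.ne_of_mem_erase hb⟩
    obtain ⟨c, hc⟩ := hno (Pi.single a 1) (by simp [hv, ha])
    obtain ⟨d, hd⟩ := hno (Pi.single b 1) (by simp [hv, hb])
    have h1 := congrFun hc a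
    have h2 := congrFun hc b
    have h4 := congrFun hd b
    simp [hab, Ne.symm hab] at h1 h2 h4
    rcases h2 with h2 | h2
    · rw [h2, zero_mul] at h1; exact one_ne_zero h1
    · rw [h2, mul_zero] at h4; exact one_ne_zero h4
  obtain ⟨g, hg, hgx⟩ := exists_transvection hφv
  obtain ⟨c, hc⟩ := hle hg
  -- vectors killed by φ
  have hker : ∀ u w : ι → F, φ ⬝ᵥ u = 0 → φ ⬝ᵥ w = 0 → f u w = (c : F) * f u w := fun u w hu hw => by
    have := hc u w
    rwa [hgx, hgx, hu, hw, zero_smul, add_zero, add_zero] at this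
  have hc1 : (c : F) = 1 := by
    by_contra hne
    have hzero : ∀ u w : ι → F, φ ⬝ᵥ u = 0 → φ ⬝ᵥ w = 0 → f u w = 0 := fun u w hu hw => by
      have h0 : ((c : F) - 1) * f u w = 0 := by linear_combination -(hker u w hu hw)
      exact (mul_eq_zero.1 h0).resolve_left (sub_ne_zero.2 hne)
    -- a totally isotropic hyperplane in dimension at least three
    obtain ⟨j, hj⟩ : ∃ j, φ j ≠ 0 := Function.ne_iff.1 fun h0 => hφ 0 (by rw [zero_smul]; exact h0)
    let e : ι → F := Pi.single j (φ j)⁻¹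
    have he : φ ⬝ᵥ e = 1 := by simp [e, mul_inv_cancel₀ hj]
    let L : (ι → F) →ₗ[F] F × F :=
      { toFun := fun u => (φ ⬝ᵥ u, f u e)
        map_add' := fun a b => by simp [dotProduct_add, hf.add_left]
        map_smul' := fun c a => by simp [dotProduct_smul, hf.smul_left] }
    obtain ⟨x, hx0, hxL⟩ : ∃ x, x ≠ 0 ∧ L x = 0 := by
      by_contra hno
      push Not at hno
      have hinj : Function.Injective L := (injective_iff_map_eq_zero L).2 fun x hx => by
        by_contra h0
        exact hno x h0 hx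
      have := LinearMap.finrank_le_finrank_of_injective hinj
      rw [Module.finrank_fintype_fun_eq_card, Module.finrank_prod, finrank_self] at this
      omega
    have hx1 : φ ⬝ᵥ x = 0 := congrArg Prod.fst hxL
    have hx2 : f x e = 0 := congrArg Prod.snd hxL
    obtain ⟨-, y, hy⟩ := hnd x hx0
    apply hy
    have hy1 : φ ⬝ᵥ (y - (φ ⬝ᵥ y) • e) = 0 := by
      rw [dotProduct_sub, dotProduct_smul, he, smul_eq_mul, mul_one, sub_self]
    calc f x y = f x (y - (φ ⬝ᵥ y) • e) + f x ((φ ⬝ᵥ y) • e) := by rw [← hf.add_right, sub_add_cancel]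
      _ = 0 := by rw [hzero x _ hx1 hy1, hf.smul_right, hx2, mul_zero, add_zero]
  obtain ⟨j, hj⟩ : ∃ j, φ j ≠ 0 := Function.ne_iff.1 fun h0 => hφ 0 (by rw [zero_smul]; exact h0)
  set w : ι → F := Pi.single j (φ j)⁻¹ with hw
  have hw1 : φ ⬝ᵥ w = 1 := by simp [hw, mul_inv_cancel₀ hj]
  have hperp : ∀ u, φ ⬝ᵥ u = 0 → f u v = 0 := fun u hu => by
    have := hc u w
    rw [hgx, hgx, hu, hw1, zero_smul, add_zero, one_smul, hc1, one_mul, hf.add_right] at this
    simpa using this
  have hperp' : ∀ u, ψ ⬝ᵥ u = (ψ ⬝ᵥ w) * (φ ⬝ᵥ u) := fun u => by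
    have h1 := hperp (u - (φ ⬝ᵥ u) • w) (by rw [dotProduct_sub, dotProduct_smul, hw1, smul_eq_mul, mul_one, sub_self])
    rw [hψ, dotProduct_sub, dotProduct_smul, smul_eq_mul, sub_eq_zero] at h1
    rw [h1, mul_comm]
  obtain ⟨⟨u, hu⟩, -⟩ := hnd v hv0
  have hs : ψ ⬝ᵥ w ≠ 0 := fun h0 => hu (by rw [hψ, hperp', h0, zero_mul])
  refine hφ (ψ ⬝ᵥ w)⁻¹ (funext fun a => ?_)
  have := hperp' (Pi.single a 1)
  simp at this
  simp only [Pi.smul_apply, smul_eq_mul, this]
  rw [← mul_assoc, inv_mul_cancel₀ hs, one_mul]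

theorem not_sl_le_quadSimilarity (h3 : 3 ≤ Fintype.card ι) {Q : (ι → F) → F}
    (hQ : IsNondegenerateQuadraticForm Q) : ¬ specialLinear ι F ≤ quadSimilarityGroup Q := fun hle =>
  not_sl_le_similarity h3 (sesq_of_bilinear hQ.polar_bilinear) hQ.nondegenerate fun g hg => by
    obtain ⟨c, hc⟩ := hle hg
    refine ⟨c, fun u v => ?_⟩
    simp only [QuadraticMap.polar, ← Matrix.mulVec_add, hc]
    ring

end Cfsg.Agent.Classical.Asch
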