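import Cfsg.Agent.Lib.Classical.MaxSesq

/-!
Projections of a direct-sum decomposition; tools for maximality of decomposition stabilisers.
-/

set_option autoImplicit false
set_option linter.unusedSectionVars false

namespace Cfsg.Agent.Classical.MaxTv

open Matrix Module

variable {F : Type*} [Field F] {ι : Type} [Fintype ι] [DecidableEq ι]

local notation "V" => (ι → F)
local notation "Mn" => Matrix ι ι F

theorem exists_gl_of_injective (L : V →ₗ[F] V) (hL : Function.Injective L) :
    ∃ g : GL ι F, ∀ x, (g : Mn) *ᵥ x = L x := by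
  have hu : IsUnit (LinearMap.toMatrix' L) := by
    rw [← Matrix.mulVec_injective_iff_isUnit]
    intro x y h
    exact hL (by simpa [LinearMap.toMatrix'_mulVec] using h)
  exact ⟨hu.unit, fun x => by rw [IsUnit.unit_spec, LinearMap.toMatrix'_mulVec]⟩

theorem gl_mulVec_injective (g : GL ι F) : Function.Injective fun x : V => (g : Mn) *ᵥ x := fun x y h => by
  simpa [Matrix.mulVec_mulVec, ← Units.val_mul] using congrArg (fun z => ((g⁻¹ : GL ι F) : Mn) *ᵥ z) h

theorem inv_mulVec_cancel (g : GL ι F) (x : V) : ((g⁻¹ : GL ι F) : Mn) *ᵥ ((g : Mn) *ᵥ x) = x := by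
  rw [Matrix.mulVec_mulVec, ← Units.val_mul, inv_mul_cancel, Units.val_one, Matrix.one_mulVec]

theorem mulVec_inv_cancel (g : GL ι F) (x : V) : (g : Mn) *ᵥ (((g⁻¹ : GL ι F) : Mn) *ᵥ x) = x := by
  rw [Matrix.mulVec_mulVec, ← Units.val_mul, mul_inv_cancel, Units.val_one, Matrix.one_mulVec]

variable {t : ℕ} {D : Fin t → Submodule F (ι → F)}

/-- Projections of an internal direct sum. -/
structure IsProj (D : Fin t → Submodule F (ι → F)) (p : Fin t → ((ι → F) →ₗ[F] (ι → F))) : Prop where
  mem : ∀ i x, p i x ∈ D i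
  self : ∀ i, ∀ x ∈ D i, p i x = x
  other : ∀ i j, i ≠ j → ∀ x ∈ D j, p i x = 0
  sum : ∀ x, ∑ i, p i x = x

theorem exists_proj (hind : iSupIndep D) (htop : iSup D = ⊤) : ∃ p, IsProj D p := by
  have hc : ∀ i, IsCompl (D i) (⨆ j, ⨆ (_ : j ≠ i), D j) := fun i => by
    refine ⟨hind i, codisjoint_iff.2 (eq_top_iff.2 ?_)⟩
    rw [← htop]
    refine iSup_le fun j => ?_
    by_cases h : j = i
    · subst h; exact le_sup_left
    · exact le_sup_of_le_right (le_iSup_of_le j (le_iSup_of_le h le_rfl))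
  refine ⟨fun i => (D i).subtype.comp ((D i).projectionOnto _ (hc i)), ?_, ?_, ?_, ?_⟩
  · exact fun i x => ((D i).projectionOnto _ (hc i) x).2
  · intro i x hx
    exact congrArg Subtype.val (Submodule.projectionOnto_apply_left (hc i) ⟨x, hx⟩)
  · intro i j hij x hx
    rw [LinearMap.comp_apply, Submodule.projectionOnto_apply_of_mem_right (hc i)
      (Submodule.mem_iSup_of_mem j (Submodule.mem_iSup_of_mem (Ne.symm hij) hx))]
    rfl
  · intro x
    have hx : x ∈ iSup D := htop ▸ trivial
    induction hx using Submodule.iSup_induction' with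
    | mem j y hy =>
      rw [Finset.sum_eq_single j]
      · exact congrArg Subtype.val (Submodule.projectionOnto_apply_left (hc j) ⟨y, hy⟩)
      · intro i _ hij
        rw [LinearMap.comp_apply, Submodule.projectionOnto_apply_of_mem_right (hc i)
          (Submodule.mem_iSup_of_mem j (Submodule.mem_iSup_of_mem (Ne.symm hij) hy))]
        rfl
      · simp
    | zero => simp
    | add y z _ _ hy hz => simp only [map_add, Finset.sum_add_distrib, hy, hz]

namespace IsProj

variable {p : Fin t → ((ι → F) →ₗ[F] (ι → F))} (hp : IsProj D p)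
include hp

theorem comp (i j : Fin t) (x : V) : p i (p j x) = if i = j then p j x else 0 := by
  split_ifs with h
  · subst h; exact hp.self i _ (hp.mem i x)
  · exact hp.other i j h _ (hp.mem j x)

theorem mem_of_forall {i : Fin t} {x : V} (h : ∀ j, j ≠ i → p j x = 0) : x ∈ D i := by
  rw [← hp.sum x, Finset.sum_eq_single i (fun j _ hj => h j hj) (by simp)]
  exact hp.mem i x

theorem ext {x y : V} (h : ∀ i, p i x = p i y) : x = y := by
  rw [← hp.sum x, ← hp.sum y]; exact Finset.sum_congr rfl fun i _ => h i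

/-- A linear map sending every summand into itself or another, with a permutation, is in the stabiliser. -/
theorem mem_stabilizer (hm : ∀ i j, finrank F (D i) = finrank F (D j)) {g : GL ι F} (τ : Fin t → Fin t)
    (hτ : ∀ i, ∀ x ∈ D i, (g : Mn) *ᵥ x ∈ D (τ i)) (hne : ∀ i, D i ≠ ⊥) :
    g ∈ Geo.decompositionStabilizer D := by
  have heq : ∀ i, (D i).map (Matrix.toLin' (g : Mn)) = D (τ i) := fun i => by
    refine Submodule.eq_of_le_of_finrank_eq (Submodule.map_le_iff_le_comap.2 fun x hx => ?_) ?_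
    · rw [Submodule.mem_comap, Matrix.toLin'_apply]; exact hτ i x hx
    · rw [(Submodule.equivMapOfInjective _ (fun a b h => gl_mulVec_injective g (by
        simpa [Matrix.toLin'_apply] using h)) (D i)).finrank_eq.symm, hm i (τ i)]
  have hinj : Function.Injective τ := fun a b h => by
    by_contra hab
    obtain ⟨x, hx, hx0⟩ := Submodule.exists_mem_ne_zero_of_ne_bot (hne a)
    have h1 : (g : Mn) *ᵥ x ∈ (D b).map (Matrix.toLin' (g : Mn)) := by
      rw [heq b, ← h]; exact hτ a x hx
    obtain ⟨y, hy, hyx⟩ := Submodule.mem_map.1 h1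
    rw [Matrix.toLin'_apply] at hyx
    have := gl_mulVec_injective g hyx
    subst this
    exact hx0 (by rw [← hp.self a _ hx, hp.other a b hab _ hy])
  exact ⟨Equiv.ofBijective τ (Finite.injective_iff_bijective.1 hinj), heq⟩

/-- Outside the stabiliser some vector of a summand spreads over two summands. -/
theorem exists_spread (hm : ∀ i j, finrank F (D i) = finrank F (D j)) (hne : ∀ i, D i ≠ ⊥) {g : GL ι F}
    (hg : g ∉ Geo.decompositionStabilizer D) :
    ∃ a, ∃ x ∈ D a, ∃ i j, i ≠ j ∧ p i ((g : Mn) *ᵥ x) ≠ 0 ∧ p j ((g : Mn) *ᵥ x) ≠ 0 := by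
  by_contra hc
  push Not at hc
  refine hg ?_
  have hone : ∀ a, ∀ x ∈ D a, ∀ i, p i ((g : Mn) *ᵥ x) ≠ 0 → (g : Mn) *ᵥ x ∈ D i :=
    fun a x hx i hi => hp.mem_of_forall fun j hj => hc a x hx i j (Ne.symm hj) hi
  have hτ : ∀ a, ∃ b, ∀ x ∈ D a, (g : Mn) *ᵥ x ∈ D b := fun a => by
    obtain ⟨x, hx, hx0⟩ := Submodule.exists_mem_ne_zero_of_ne_bot (hne a)
    obtain ⟨b, hb⟩ : ∃ b, p b ((g : Mn) *ᵥ x) ≠ 0 := by
      by_contra h
      push Not at h
      exact hx0 (gl_mulVec_injective g (hp.ext fun i => by simp [h i]))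
    refine ⟨b, fun y hy => hp.mem_of_forall fun j hj => ?_⟩
    by_contra hjy
    have h1 : p b ((g : Mn) *ᵥ y) = 0 := by
      by_contra h
      exact hjy (hc a y hy b j (Ne.symm hj) h)
    have h2 : p j ((g : Mn) *ᵥ x) = 0 := hc a x hx b j (Ne.symm hj) hb
    have h3 := hc a (x + y) (add_mem hx hy) b j (Ne.symm hj) (by
      rw [Matrix.mulVec_add, map_add, h1, add_zero]; exact hb)
    rw [Matrix.mulVec_add, map_add, h2, zero_add] at h3
    exact hjy h3
  choose τ hτ using hτ
  exact hp.mem_stabilizer hm τ hτ hne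

section Form

variable {σ : F ≃+* F} {f : (ι → F) → (ι → F) → F} (hs : Sesq σ f)
  (horth : ∀ i j, i ≠ j → Geo.AreOrthogonalFor f (D i) (D j))
include hs horth

theorem form_left (i : Fin t) {x : V} (hx : x ∈ D i) (y : V) : f x y = f x (p i y) := by
  let L : V →+ F :=
    { toFun := fun z => f x z
      map_zero' := hs.zero_right _
      map_add' := fun a b => hs.add_right x a b }
  show L y = L (p i y)
  conv_lhs => rw [← hp.sum y]
  rw [map_sum]
  exact Finset.sum_eq_single i (fun j _ hj => horth i j (Ne.symm hj) x hx _ (hp.mem j y)) (by simp)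

theorem form_eq_sum (x y : V) : f x y = ∑ i, f (p i x) (p i y) := by
  show hs.lin y x = _
  conv_lhs => rw [← hp.sum x]
  rw [map_sum]
  exact Finset.sum_congr rfl fun i _ => hp.form_left hs horth i (hp.mem i x) y

/-- An isometry exchanging two summands. -/
theorem exists_swap {a b : Fin t} (hab : a ≠ b) (L L' : V →ₗ[F] V) (hL : ∀ x ∈ D a, L x ∈ D b)
    (hL' : ∀ x ∈ D b, L' x ∈ D a) (hLf : ∀ x ∈ D a, ∀ y ∈ D a, f (L x) (L y) = f x y)
    (hLf' : ∀ x ∈ D b, ∀ y ∈ D b, f (L' x) (L' y) = f x y) :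
    ∃ g : GL ι F, (∀ x y, f ((g : Mn) *ᵥ x) ((g : Mn) *ᵥ y) = f x y) ∧
      ∀ i, ∀ x ∈ D i, (g : Mn) *ᵥ x ∈ D (Equiv.swap a b i) := by
  let S : V →ₗ[F] V := LinearMap.id - p a - p b + L.comp (p a) + L'.comp (p b)
  have hS : ∀ i, ∀ x ∈ D i, S x = if i = a then L x else if i = b then L' x else x := fun i x hx => by
    show x - p a x - p b x + L (p a x) + L' (p b x) = _
    split_ifs with h1 h2
    · subst h1; rw [hp.self i x hx, hp.other b i (Ne.symm hab) x hx, map_zero]; abel
    · subst h2; rw [hp.self i x hx, hp.other a i hab x hx, map_zero]; abel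
    · rw [hp.other a i (Ne.symm h1) x hx, hp.other b i (Ne.symm h2) x hx, map_zero, map_zero]; abel
  have hSmem : ∀ i, ∀ x ∈ D i, S x ∈ D (Equiv.swap a b i) := fun i x hx => by
    rw [hS i x hx]
    split_ifs with h1 h2
    · subst h1; rw [Equiv.swap_apply_left]; exact hL x hx
    · subst h2; rw [Equiv.swap_apply_right]; exact hL' x hx
    · rw [Equiv.swap_apply_of_ne_of_ne h1 h2]; exact hx
  have hSp : ∀ x i, p (Equiv.swap a b i) (S x) = S (p i x) := fun x i => by
    conv_lhs => rw [← hp.sum x]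
    rw [map_sum, map_sum, Finset.sum_eq_single i]
    · exact hp.self _ _ (hSmem i _ (hp.mem i x))
    · exact fun j _ hj => hp.other _ _ (fun e => hj ((Equiv.swap a b).injective e).symm) _ (hSmem j _ (hp.mem j x))
    · simp
  have hSf : ∀ x y, f (S x) (S y) = f x y := fun x y => by
    rw [hp.form_eq_sum hs horth (S x), ← Equiv.sum_comp (Equiv.swap a b), hp.form_eq_sum hs horth x y]
    refine Finset.sum_congr rfl fun i _ => ?_
    rw [hSp, hSp, hS i _ (hp.mem i x), hS i _ (hp.mem i y)]
    split_ifs with h1 h2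
    · subst h1; exact hLf _ (hp.mem _ x) _ (hp.mem _ y)
    · subst h2; exact hLf' _ (hp.mem _ x) _ (hp.mem _ y)
    · rfl
  have hSinj : Function.Injective S := fun x y e => sub_eq_zero.1 (hs.eq_zero _ fun z => by
    rw [← hSf, map_sub, e, sub_self, hs.zero_right])
  obtain ⟨g, hg⟩ := exists_gl_of_injective S hSinj
  exact ⟨g, fun x y => by rw [hg, hg, hSf], fun i x hx => by rw [hg]; exact hSmem i x hx⟩

end Form

end IsProj

end Cfsg.Agent.Classical.MaxTv
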