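import Cfsg.Agent.Lib.Classical.MaxUnitGen
import Cfsg.Agent.Lib.Classical.MaxDecomp
import Cfsg.Agent.Lib.Classical.Unit
import Cfsg.Prelude.Def_LieClassical

/-!
`GU ⊓ SL` and unitary transvections in a subgroup.
-/

set_option autoImplicit false
set_option linter.unusedSectionVars false

namespace Cfsg.Agent.Classical.MaxTv

open Matrix Module

section Pt

variable {F : Type*} [Field F] {ι : Type} [Fintype ι] [DecidableEq ι]
variable {σ : F ≃+* F} {f : (ι → F) → (ι → F) → F} {M : Subgroup (GL ι F)}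

theorem UPt.smul (hs : Herm σ f) {v : ι → F} (h : UPt σ f M v) (a : F) : UPt σ f M (a • v) := fun c hc => by
  obtain ⟨t, ht, htx⟩ := h (c * (a * σ a)) (by
    rw [map_mul, map_mul, hs.invol]; linear_combination (a * σ a) * hc)
  refine ⟨t, ht, fun x => ?_⟩
  rw [htx, hs.smul_right, smul_smul]
  congr 2
  ring

theorem UPt.zero (hs : Herm σ f) : UPt σ f M (0 : ι → F) := fun c _ => ⟨1, one_mem M, fun x => by simp⟩

theorem UPt.map (hs : Herm σ f) {v : ι → F} (h : UPt σ f M v) {g : GL ι F} (hg : g ∈ M)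
    (hgi : ∀ x y, f ((g : Matrix ι ι F) *ᵥ x) ((g : Matrix ι ι F) *ᵥ y) = f x y) :
    UPt σ f M ((g : Matrix ι ι F) *ᵥ v) := fun c hc => by
  obtain ⟨t, ht, htx⟩ := h c hc
  refine ⟨g * t * g⁻¹, mul_mem (mul_mem hg ht) (inv_mem hg), fun x => ?_⟩
  rw [Units.val_mul, Units.val_mul, ← Matrix.mulVec_mulVec, ← Matrix.mulVec_mulVec, htx, Matrix.mulVec_add,
    Matrix.mulVec_smul, mulVec_inv_cancel, ← hgi, mulVec_inv_cancel]

/-- Move one point by the transvections of another. -/
theorem UPt.add_smul (hs : Herm σ f) {v w : ι → F} (hv : UPt σ f M v) (hw : UPt σ f M w) (hww : f w w = 0)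
    {c : F} (hc : c + σ c = 0) : UPt σ f M (v + (c * f v w) • w) := by
  obtain ⟨t, ht, htx⟩ := hw c hc
  have := hv.map hs ht (isometry_tv hs.toSesq hww (hs.tv_cond hc w) htx)
  rwa [htx] at this

end Pt

variable {F : Type*} [Field F] [Fintype F] {n q : ℕ}

/-- The involutory automorphism as an equivalence. -/
noncomputable def qEquiv (hF : Fintype.card F = q ^ 2) : F ≃+* F :=
  RingEquiv.ofRingHom (qFrob hF) (qFrob hF) (RingHom.ext (qFrob_qFrob hF)) (RingHom.ext (qFrob_qFrob hF))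

theorem qEquiv_apply (hF : Fintype.card F = q ^ 2) (x : F) : qEquiv hF x = x ^ q := rfl

theorem herm_hermForm (hF : Fintype.card F = q ^ 2) : Herm (qEquiv hF) (hermForm n F q) where
  add_left u u' v := hermForm_add_left n u u' v
  smul_left c u v := hermForm_smul_left n c u v
  add_right v x y := by
    simp only [hermForm, Pi.add_apply, add_pow_q hF, mul_add, Finset.sum_add_distrib]
  smul_right c v x := by
    simp only [hermForm, qEquiv_apply, Pi.smul_apply, smul_eq_mul, mul_pow, Finset.mul_sum]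
    exact Finset.sum_congr rfl fun i _ => by ring
  eq_zero w hw := (hermB_nondegenerate hF n).1 w hw
  refl v w h := by
    rw [← hermForm_symm hF, h, zero_pow (by have := two_le_q hF; omega)]
  invol a := qFrob_qFrob hF a
  ne_refl e := qFrob_ne_id hF (RingHom.ext fun x => RingEquiv.congr_fun e x)
  herm v w := (hermForm_symm hF n w v).symm

theorem mem_GU {g : GL (Fin n) F} : g ∈ GU n F q ↔
    ∀ x y, hermForm n F q ((g : Matrix (Fin n) (Fin n) F) *ᵥ x) ((g : Matrix (Fin n) (Fin n) F) *ᵥ y) =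
      hermForm n F q x y := Iff.rfl

theorem isometry_of_le (M : Subgroup (GL (Fin n) F)) (hM : M ≤ GU n F q ⊓ Geo.specialLinear (Fin n) F)
    {g : GL (Fin n) F} (hg : g ∈ M) :
    ∀ x y, hermForm n F q ((g : Matrix (Fin n) (Fin n) F) *ᵥ x) ((g : Matrix (Fin n) (Fin n) F) *ᵥ y) =
      hermForm n F q x y := mem_GU.1 (hM hg).1

/-- All unitary transvections give all of `SU`. -/
theorem guSL_le (hF : Fintype.card F = q ^ 2) (hn : 5 ≤ n) {M : Subgroup (GL (Fin n) F)}
    (h : ∀ v, hermForm n F q v v = 0 → UPt (qEquiv hF) (hermForm n F q) M v) :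
    GU n F q ⊓ Geo.specialLinear (Fin n) F ≤ M := fun _ hg =>
  mem_of_isometry (herm_hermForm hF) h (by rwa [Fintype.card_fin]) (mem_GU.1 hg.1) hg.2

theorem exists_gu_tv (hF : Fintype.card F = q ^ 2) {v : Fin n → F} (hv : hermForm n F q v v = 0) {c : F}
    (hc : c + qEquiv hF c = 0) :
    ∃ t ∈ GU n F q ⊓ Geo.specialLinear (Fin n) F,
      ∀ x, (t : Matrix (Fin n) (Fin n) F) *ᵥ x = x + (c * hermForm n F q x v) • v := by
  obtain ⟨t, ht, hti, htx⟩ := exists_isometry_tv (herm_hermForm hF).toSesq hv ((herm_hermForm hF).tv_cond hc v)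
  exact ⟨t, ⟨mem_GU.2 hti, ht.2⟩, htx⟩

end Cfsg.Agent.Classical.MaxTv
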