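import Cfsg.Agent.Lib.Classical.AschUnit
import Cfsg.Agent.Lib.Classical.AschSLProper
import Cfsg.Agent.Lib.Classical.MaxUnitary

/-!
The special unitary group lies in no member of a geometric class.
-/

set_option autoImplicit false
set_option linter.unusedSectionVars false
set_option linter.unusedFintypeInType false
set_option linter.unusedDecidableInType false

namespace Cfsg.Agent.Classical.Asch

open Matrix Module Cfsg.Geo
open MaxTv (gl_mulVec_injective qEquiv herm_hermForm exists_gu_tv finrank_le_inf_ker_add_one)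
open scoped Kronecker

variable {F : Type*} [Field F] [Fintype F] {n q : ℕ}

omit [Fintype F] in
theorem scalar_of_eigen' {ι : Type} [Fintype ι] [DecidableEq ι] {A : Matrix ι ι F}
    (h : ∀ v : ι → F, v ≠ 0 → ∃ a : F, A *ᵥ v = a • v) : ∃ c : F, A = c • (1 : Matrix ι ι F) := by
  obtain ⟨l, hl⟩ : ∃ l : F, Matrix.toLin' A = l • LinearMap.id := by
    refine LinearMap.exists_eq_smul_id_of_forall_notLinearIndependent fun v => ?_
    rcases eq_or_ne v 0 with rfl | hv
    · exact fun hli => (hli.ne_zero 0) (by simp)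
    · obtain ⟨r, hr⟩ := h v hv
      intro hli
      have := LinearIndependent.pair_iff.1 hli r (-1) (by rw [Matrix.toLin'_apply, hr]; simp)
      simpa using this.2
  refine ⟨l, Matrix.toLin'.injective ?_⟩
  rw [hl, map_smul, Matrix.toLin'_one]

section
variable (hF : Fintype.card F = q ^ 2)
include hF

/-- A transvection scalar. -/
theorem exists_skew_scalar : ∃ c : F, c ≠ 0 ∧ c + qEquiv hF c = 0 := by
  obtain ⟨z, hz⟩ := exists_moved (herm_hermForm (n := 1) hF).ne_refl
  refine ⟨z - qEquiv hF z, sub_ne_zero.2 (Ne.symm hz), ?_⟩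
  rw [map_sub, (herm_hermForm (n := 1) hF).invol]
  ring

/-- A special unitary transvection for each isotropic vector. -/
theorem exists_su_tv {v : Fin n → F} (hv : hermForm n F q v v = 0) :
    ∃ c : F, c ≠ 0 ∧ ∃ t ∈ GU n F q ⊓ specialLinear (Fin n) F,
      ∀ x, (t : Matrix (Fin n) (Fin n) F) *ᵥ x = x + (c * hermForm n F q x v) • v := by
  obtain ⟨c, hc0, hc⟩ := exists_skew_scalar hF
  exact ⟨c, hc0, exists_gu_tv hF hv hc⟩

theorem exists_iso_not_perp (hn : 3 ≤ n) {u : Fin n → F} (hu : u ≠ 0) :
    ∃ v, v ≠ 0 ∧ hermForm n F q v v = 0 ∧ hermForm n F q u v ≠ 0 := by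
  have hs := herm_hermForm (n := n) hF
  obtain ⟨v, -, hvv, hvu⟩ := hs.exists_iso_left (S := ⊤) (u := u)
    (by rw [finrank_top, Module.finrank_fin_fun, Fintype.card_fin]; omega) (by
      by_contra hno
      push Not at hno
      exact hu (hs.eq_zero u fun x => hno x trivial))
  refine ⟨v, fun h0 => hvu (by rw [h0, hs.toSesq.zero_left]), hvv, fun h0 => hvu (hs.refl _ _ h0)⟩

theorem exists_iso_ne_zero (hn : 2 ≤ n) : ∃ v : Fin n → F, v ≠ 0 ∧ hermForm n F q v v = 0 := by
  obtain ⟨v, -, hv⟩ := (herm_hermForm (n := n) hF).exists_iso (S := ⊤) (by rw [finrank_top, Module.finrank_pi]; simpa)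
  exact ⟨v, hv⟩

/-- An invariant subspace of the special unitary group is trivial. -/
theorem not_su_le_subspace (hn : 3 ≤ n) {W : Submodule F (Fin n → F)} (h1 : W ≠ ⊥) (ht : W ≠ ⊤) :
    ¬ GU n F q ⊓ specialLinear (Fin n) F ≤ subspaceStabilizer W := by
  classical
  intro hle
  have hs := herm_hermForm (n := n) hF
  haveI : Fintype W := Fintype.ofFinite W
  obtain ⟨w, hw, hw0⟩ := Submodule.exists_mem_ne_zero_of_ne_bot h1
  obtain ⟨u, hu0, hu⟩ : ∃ u : Fin n → F, u ≠ 0 ∧ ∀ x ∈ W, hermForm n F q x u = 0 := by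
    let Θ : (Fin n → F) → Module.Dual F W := fun u =>
      { toFun := fun x => hermForm n F q x u
        map_add' := fun a b => hs.add_left a b u
        map_smul' := fun c a => hs.smul_left c a u }
    haveI : Finite (Module.Dual F W) := Finite.of_injective (fun φ : Module.Dual F W => (φ : W → F)) DFunLike.coe_injective
    have hlt : Nat.card (Module.Dual F W) < Nat.card (Fin n → F) := by
      rw [Module.natCard_eq_pow_finrank (K := F), Subspace.dual_finrank_eq, Module.natCard_eq_pow_finrank (K := F) (V := Fin n → F)]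
      exact Nat.pow_lt_pow_right (by rw [Nat.card_eq_fintype_card]; exact Fintype.one_lt_card)
        (Submodule.finrank_lt ht)
    obtain ⟨a, b, hab, hne⟩ : ∃ a b, Θ a = Θ b ∧ a ≠ b := by
      by_contra hno
      push Not at hno
      exact absurd (Nat.card_le_card_of_injective Θ fun a b h => hno a b h) (by omega)
    refine ⟨a - b, sub_ne_zero.2 hne, fun x hx => ?_⟩
    rw [hs.toSesq.sub_right, sub_eq_zero]
    exact LinearMap.congr_fun hab ⟨x, hx⟩
  obtain ⟨a, -, haa, hau, haw⟩ := hs.exists_iso_both (S := ⊤) (u := u) (w := w)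
    (by rw [finrank_top, Module.finrank_fin_fun, Fintype.card_fin]; omega)
    (by
      by_contra hno
      push Not at hno
      exact hu0 (hs.eq_zero u fun x => hno x trivial))
    (by
      by_contra hno
      push Not at hno
      exact hw0 (hs.eq_zero w fun x => hno x trivial))
  obtain ⟨c, hc0, t, ht', htx⟩ := exists_su_tv hF haa
  have h2 : (t : Matrix (Fin n) (Fin n) F) *ᵥ w ∈ W := ((hle ht') w).1 hw
  rw [htx] at h2
  have h3 : c * hermForm n F q w a ≠ 0 := mul_ne_zero hc0 fun h => haw (hs.refl _ _ h)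
  have haW : a ∈ W := by
    have := W.smul_mem (c * hermForm n F q w a)⁻¹ (W.sub_mem h2 hw)
    rwa [add_sub_cancel_left, smul_smul, inv_mul_cancel₀ h3, one_smul] at this
  exact hau (hu a haW)

theorem not_su_le_decomp (hn : 5 ≤ n) {t k : ℕ} {D : Fin t → Submodule F (Fin n → F)} (hD : IsMDecomposition k D) :
    ¬ GU n F q ⊓ specialLinear (Fin n) F ≤ decompositionStabilizer D := by
  classical
  intro hle
  have hs := herm_hermForm (n := n) hF
  let a : Fin t := ⟨0, by have := hD.two_le; omega⟩
  have hne : ∀ i, D i ≠ ⊥ := fun i h => by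
    have := hD.finrank_eq i
    rw [h, finrank_bot] at this
    exact hD.pos.ne this
  have hdis : ∀ i j, i ≠ j → ∀ x ∈ D i, x ∈ D j → x = 0 := fun i j hij =>
    Submodule.disjoint_def.1 (hD.indep.pairwiseDisjoint hij)
  by_cases hk : 2 ≤ k
  · -- every transvection fixes every part
    have hfix : ∀ v, hermForm n F q v v = 0 → ∀ c, ∀ g ∈ GU n F q ⊓ specialLinear (Fin n) F,
        (∀ x, (g : Matrix (Fin n) (Fin n) F) *ᵥ x = x + (c * hermForm n F q x v) • v) →
        ∀ x ∈ D a, (g : Matrix (Fin n) (Fin n) F) *ᵥ x ∈ D a := by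
      intro v _ c g hg hgx x hx
      obtain ⟨σ, hσ⟩ := hle hg
      have hmem : ∀ y ∈ D a, (g : Matrix (Fin n) (Fin n) F) *ᵥ y ∈ D (σ a) := fun y hy => by
        rw [← hσ a]; exact ⟨y, hy, Matrix.toLin'_apply _ _⟩
      by_cases hσa : σ a = a
      · exact hσa ▸ hmem x hx
      exfalso
      let φ : D a →ₗ[F] F :=
        { toFun := fun y => hermForm n F q y v
          map_add' := fun y z => hs.add_left y z v
          map_smul' := fun s y => hs.smul_left s y v }
      have hinj : Function.Injective φ := (injective_iff_map_eq_zero φ).2 fun y hy => by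
        have h1 := hmem y y.2
        rw [hgx, show hermForm n F q y v = 0 from hy, mul_zero, zero_smul, add_zero] at h1
        exact Subtype.ext (hdis a (σ a) (Ne.symm hσa) _ y.2 h1)
      have := LinearMap.finrank_le_finrank_of_injective hinj
      rw [hD.finrank_eq, finrank_self] at this
      omega
    obtain ⟨u, hu, hu0⟩ := Submodule.exists_mem_ne_zero_of_ne_bot (hne a)
    let b : Fin t := ⟨1, by have := hD.two_le; omega⟩
    obtain ⟨w, hw, hw0⟩ := Submodule.exists_mem_ne_zero_of_ne_bot (hne b)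
    have hwa : w ∉ D a := fun h => hw0 (hdis a b (by simp [a, b, Fin.ext_iff]) w h hw)
    -- the part is invariant under transvections, hence contains the vectors not perpendicular to it
    have hall : ∀ v, hermForm n F q v v = 0 → (∃ x ∈ D a, hermForm n F q x v ≠ 0) → v ∈ D a := by
      rintro v hv ⟨x, hx, hxv⟩
      obtain ⟨c, hc0, g, hg, hgx⟩ := exists_su_tv hF hv
      have h1 := hfix v hv c g hg hgx x hx
      rw [hgx] at h1
      have := (D a).smul_mem (c * hermForm n F q x v)⁻¹ ((D a).sub_mem h1 hx)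
      rwa [add_sub_cancel_left, smul_smul, inv_mul_cancel₀ (mul_ne_zero hc0 hxv), one_smul] at this
    have hirr := fun hinv => not_su_le_subspace hF (by omega) (hne a)
      (fun htop => hwa (htop ▸ trivial)) hinv
    refine hirr fun g hg x => ?_
    obtain ⟨σ, hσ⟩ := hle hg
    have hmem : ∀ y ∈ D a, (g : Matrix (Fin n) (Fin n) F) *ᵥ y ∈ D (σ a) := fun y hy => by
      rw [← hσ a]; exact ⟨y, hy, Matrix.toLin'_apply _ _⟩
    have hσa : σ a = a := by
      by_contra hσa
      obtain ⟨v, hv0, hvv, huv⟩ := exists_iso_not_perp hF (by omega) hu0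
      have hva := hall v hvv ⟨u, hu, huv⟩
      have hgv := hmem v hva
      have hgvv : hermForm n F q ((g : Matrix (Fin n) (Fin n) F) *ᵥ v) ((g : Matrix (Fin n) (Fin n) F) *ᵥ v) = 0 := by
        rw [show ∀ p p', hermForm n F q ((g : Matrix (Fin n) (Fin n) F) *ᵥ p)
          ((g : Matrix (Fin n) (Fin n) F) *ᵥ p') = hermForm n F q p p' from hg.1, hvv]
      have hgv0 : (g : Matrix (Fin n) (Fin n) F) *ᵥ v ≠ 0 := fun h0 =>
        hv0 (gl_mulVec_injective g (h0.trans (Matrix.mulVec_zero _).symm))
      have hnot : (g : Matrix (Fin n) (Fin n) F) *ᵥ v ∉ D a := fun h => hgv0 (hdis a (σ a) (Ne.symm hσa) _ h hgv)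
      -- every isotropic vector not in the part is perpendicular to it
      have hperp : ∀ z, hermForm n F q z z = 0 → z ∉ D a → ∀ x ∈ D a, hermForm n F q x z = 0 := fun z hz hzn x hx => by
        by_contra hne'
        exact hzn (hall z hz ⟨x, hx, hne'⟩)
      obtain ⟨e, -, hee, heu, heg⟩ := hs.exists_iso_both (S := ⊤) (u := u)
        (w := (g : Matrix (Fin n) (Fin n) F) *ᵥ v) (by rw [finrank_top, Module.finrank_fin_fun, Fintype.card_fin]; omega)
        (by
          by_contra hno
          push Not at hno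
          exact hu0 (hs.eq_zero u fun x => hno x trivial))
        (by
          by_contra hno
          push Not at hno
          exact hgv0 (hs.eq_zero _ fun x => hno x trivial))
      have hea : e ∈ D a := hall e hee ⟨u, hu, fun h => heu (hs.refl _ _ h)⟩
      exact heg (hperp _ hgvv hnot e hea)
    constructor
    · intro hx
      have := hmem x hx
      rwa [hσa] at this
    · intro hx
      have h1 : (g : Matrix (Fin n) (Fin n) F) *ᵥ x ∈ (D a).map (Matrix.toLin' (g : Matrix (Fin n) (Fin n) F)) := by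
        rw [hσ a, hσa]; exact hx
      obtain ⟨y, hy, hyx⟩ := h1
      rw [Matrix.toLin'_apply] at hyx
      exact gl_mulVec_injective g hyx ▸ hy
  · obtain rfl : k = 1 := by have := hD.pos; omega
    choose u hu hu0 using fun i => Submodule.exists_mem_ne_zero_of_ne_bot (hne i)
    have hline : ∀ i x, x ∈ D i → ∃ s : F, x = s • u i := fun i x hx => by
      obtain ⟨s, hs'⟩ := (finrank_eq_one_iff_of_nonzero' (⟨u i, hu i⟩ : D i) (fun h => hu0 i (congrArg Subtype.val h))).1
        (hD.finrank_eq i) ⟨x, hx⟩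
      exact ⟨s, (congrArg Subtype.val hs').symm⟩
    have hli : LinearIndependent F u :=
      hD.indep.linearIndependent D hu hu0
    -- a transvection moves the first line to a line in the plane of the line and its vector
    have key : ∀ v, hermForm n F q v v = 0 → hermForm n F q (u a) v ≠ 0 →
        ∃ b, b ≠ a ∧ ∃ α β : F, v = α • u a + β • u b := by
      intro v hv hav
      obtain ⟨c, hc0, g, hg, hgx⟩ := exists_su_tv hF hv
      obtain ⟨σ, hσ⟩ := hle hg
      have h1 : (g : Matrix (Fin n) (Fin n) F) *ᵥ u a ∈ D (σ a) := by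
        rw [← hσ a]; exact ⟨u a, hu a, Matrix.toLin'_apply _ _⟩
      obtain ⟨s, hs'⟩ := hline _ _ h1
      rw [hgx] at hs'
      have hd := mul_ne_zero hc0 hav
      have hv' : v = (-(c * hermForm n F q (u a) v)⁻¹) • u a + ((c * hermForm n F q (u a) v)⁻¹ * s) • u (σ a) := by
        rw [← smul_smul, ← hs', smul_add, smul_smul _ _ v, inv_mul_cancel₀ hd, one_smul, neg_smul]
        abel
      by_cases hσa : σ a = a
      · rw [hσa, ← add_smul] at hv'
        obtain ⟨b, hb⟩ := Fintype.exists_ne_of_one_lt_card (α := Fin t) (by simp; have := hD.two_le; omega) a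
        refine ⟨b, hb, -(c * hermForm n F q (u a) v)⁻¹ + (c * hermForm n F q (u a) v)⁻¹ * s, 0, hv'.trans ?_⟩
        rw [zero_smul, add_zero]
      · exact ⟨σ a, hσa, _, _, hv'⟩
    obtain ⟨v₀, hv₀0, hv₀, hav₀⟩ := exists_iso_not_perp hF (by omega) (hu0 a)
    obtain ⟨j, hj⟩ := Function.ne_iff.1 hv₀0
    obtain ⟨z, hzS, hz0, hzz⟩ := hs.exists_iso
      (S := LinearMap.ker (hs.toSesq.lin v₀) ⊓ LinearMap.ker (LinearMap.proj j)) (by
      have h1 := finrank_le_inf_ker_add_one (⊤ : Submodule F (Fin n → F)) (hs.toSesq.lin v₀)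
      rw [top_inf_eq, finrank_top, Module.finrank_fin_fun] at h1
      have h2 := finrank_le_inf_ker_add_one (LinearMap.ker (hs.toSesq.lin v₀))
        (LinearMap.proj j : (Fin n → F) →ₗ[F] F)
      omega)
    have hzv : hermForm n F q z v₀ = 0 := LinearMap.mem_ker.1 hzS.1
    have hzj : z j = 0 := LinearMap.mem_ker.1 hzS.2
    -- the isotropic vectors on the line through v₀ in the direction z
    let v : F → Fin n → F := fun l => v₀ + l • z
    have hviso : ∀ l, hermForm n F q (v l) (v l) = 0 := fun l => by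
      simp only [v, hs.add_left, hs.add_right, hs.smul_left, hs.smul_right, hv₀, hzz, hzv, hs.refl _ _ hzv,
        mul_zero, add_zero]
    have haff : ∀ l, hermForm n F q (u a) (v l) = hermForm n F q (u a) v₀ + qEquiv hF l * hermForm n F q (u a) z :=
      fun l => by simp only [v, hs.add_right, hs.smul_right]
    let good : Finset F := Finset.univ.filter fun l => hermForm n F q (u a) (v l) ≠ 0
    have hgood : 3 ≤ good.card := by
      have hbad : (Finset.univ.filter fun l => ¬ hermForm n F q (u a) (v l) ≠ 0).card ≤ 1 := by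
        refine Finset.card_le_one.2 fun l hl l' hl' => ?_
        simp only [Finset.mem_filter, Finset.mem_univ, true_and, not_not, haff] at hl hl'
        apply (qEquiv hF).injective
        by_contra hne'
        have h0 : hermForm n F q (u a) z = 0 := by
          have : (qEquiv hF l - qEquiv hF l') * hermForm n F q (u a) z = 0 := by linear_combination hl - hl'
          exact (mul_eq_zero.1 this).resolve_left (sub_ne_zero.2 hne')
        rw [h0, mul_zero, add_zero] at hl
        exact hav₀ hl
      have hsum := Finset.card_filter_add_card_filter_not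
        (s := (Finset.univ : Finset F)) (fun l => hermForm n F q (u a) (v l) ≠ 0)
      rw [Finset.card_univ] at hsum
      have hq := two_le_q hF
      have : 4 ≤ Fintype.card F := by rw [hF]; nlinarith
      show 3 ≤ (Finset.univ.filter fun l => hermForm n F q (u a) (v l) ≠ 0).card
      omega
    obtain ⟨l₁, l₂, l₃, h1, h2, h3, h12, h13, h23⟩ := Finset.two_lt_card_iff.1 hgood
    simp only [good, Finset.mem_filter, Finset.mem_univ, true_and] at h1 h2 h3
    obtain ⟨b₁, hb₁, α₁, β₁, e₁⟩ := key _ (hviso l₁) h1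
    obtain ⟨b₂, hb₂, α₂, β₂, e₂⟩ := key _ (hviso l₂) h2
    obtain ⟨b₃, hb₃, α₃, β₃, e₃⟩ := key _ (hviso l₃) h3
    have hbne : ∀ (l l' : F), l ≠ l' → ∀ (b b' : Fin t) (α β α' β' : F), v l = α • u a + β • u b →
        v l' = α' • u a + β' • u b' → b ≠ b' := by
      intro l l' hll b b' α β α' β' e e' hbb
      subst hbb
      have hz : (l - l') • z = (α - α') • u a + (β - β') • u b := by
        calc (l - l') • z = v l - v l' := by simp only [v]; module
          _ = _ := by rw [e, e']; module
      -- then three independent vectors lie in a plane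
      set P : Submodule F (Fin n → F) := Submodule.span F {u a, u b} with hP
      have hzP : z ∈ P := by
        have h := P.smul_mem (l - l')⁻¹ (show (l - l') • z ∈ P by rw [hz]; exact Submodule.mem_span_pair.2 ⟨_, _, rfl⟩)
        rwa [smul_smul, inv_mul_cancel₀ (sub_ne_zero.2 hll), one_smul] at h
      have hv₀P : v₀ ∈ P := by
        have hvl : v l ∈ P := by rw [e]; exact Submodule.mem_span_pair.2 ⟨_, _, rfl⟩
        have := P.sub_mem hvl (P.smul_mem l hzP)
        simpa [v] using this
      have hli3 : LinearIndependent F ![u a, v₀, z] := by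
        rw [Fintype.linearIndependent_iff]
        intro g hg
        simp [Fin.sum_univ_three] at hg
        have hg0 : g 0 = 0 := by
          have := congrArg (fun x => hermForm n F q x v₀) hg
          simp only [hs.add_left, hs.smul_left, hs.toSesq.zero_left, hv₀, hzv, mul_zero, add_zero] at this
          exact (mul_eq_zero.1 this).resolve_right hav₀
        rw [hg0, zero_smul, zero_add] at hg
        have hg1 : g 1 = 0 := by
          have := congrFun hg j
          simp [hzj] at this
          exact this.resolve_right hj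
        rw [hg1, zero_smul, zero_add, smul_eq_zero] at hg
        intro i
        fin_cases i
        · exact hg0
        · exact hg1
        · exact hg.resolve_right hz0
      have hsub : Submodule.span F (Set.range ![u a, v₀, z]) ≤ P := Submodule.span_le.2 (by
        rintro x ⟨i, rfl⟩
        fin_cases i
        · exact Submodule.subset_span (by simp)
        · exact hv₀P
        · exact hzP)
      have h4 := Submodule.finrank_mono hsub
      rw [finrank_span_eq_card hli3, Fintype.card_fin] at h4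
      have h5 : finrank F P ≤ 2 := by
        have := finrank_span_finset_le_card (R := F) ({u a, u b} : Finset (Fin n → F))
        rw [Set.finrank, Finset.coe_pair] at this
        exact this.trans Finset.card_le_two
      omega
    have hb12 := hbne _ _ h12 _ _ _ _ _ _ e₁ e₂
    have hb13 := hbne _ _ h13 _ _ _ _ _ _ e₁ e₃
    have hb23 := hbne _ _ h23 _ _ _ _ _ _ e₂ e₃
    have hrel : (l₂ - l₃) • v l₁ + (l₃ - l₁) • v l₂ + (l₁ - l₂) • v l₃ = 0 := by simp only [v]; module
    rw [e₁, e₂, e₃] at hrel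
    rw [Fintype.linearIndependent_iff] at hli
    have h4 := hli (Pi.single a ((l₂ - l₃) * α₁ + (l₃ - l₁) * α₂ + (l₁ - l₂) * α₃) +
      Pi.single b₁ ((l₂ - l₃) * β₁) + Pi.single b₂ ((l₃ - l₁) * β₂) + Pi.single b₃ ((l₁ - l₂) * β₃)) (by
        simp only [Pi.add_apply, add_smul, Finset.sum_add_distrib, Pi.single_apply, ite_smul, zero_smul,
          Finset.sum_ite_eq', Finset.mem_univ, if_true]
        rw [← hrel]
        module) b₁
    simp [Pi.single_apply, hb₁, hb12, hb13] at h4
    have hβ₁ : β₁ = 0 := h4.resolve_left (sub_ne_zero.2 h23)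
    rw [hβ₁, zero_smul, add_zero] at e₁
    have h6 := hviso l₁
    rw [e₁, hs.smul_left, hs.smul_right, mul_eq_zero, mul_eq_zero] at h6
    rw [e₁, hs.smul_right] at h1
    rcases h6 with h6 | h6 | h6
    · exact h1 (by rw [h6, map_zero, zero_mul])
    · exact h1 (by rw [h6, zero_mul])
    · exact h1 (by rw [h6, mul_zero])

theorem not_su_le_field (hn : 3 ≤ n) {r : ℕ} (hr : 2 ≤ r) {K : Subalgebra F (Matrix (Fin n) (Fin n) F)}
    (hK : IsFieldSubalgebra r K) : ¬ GU n F q ⊓ specialLinear (Fin n) F ≤ subalgebraNormalizer K := by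
  intro hle
  have hs := herm_hermForm (n := n) hF
  obtain ⟨v, hv0, hvv⟩ := exists_iso_ne_zero hF (show 2 ≤ n by omega)
  obtain ⟨c, hc0, g, hg, hgx⟩ := exists_su_tv hF hvv
  have hbot : K ≤ ⊥ := fun k hk => by
    have hcomm : (g : Matrix (Fin n) (Fin n) F) * k = k * g := by
      by_contra hne
      set d := (g : Matrix (Fin n) (Fin n) F) * k *
        ((g⁻¹ : GL (Fin n) F) : Matrix (Fin n) (Fin n) F) - k with hd
      have hdK : d ∈ K := K.sub_mem ((hle hg k).1 hk) hk
      have hd0 : d ≠ 0 := fun h0 => hne (by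
        have h1 := sub_eq_zero.1 (hd ▸ h0)
        conv_rhs => rw [← h1, mul_assoc, Units.inv_mul, mul_one])
      obtain ⟨y, -, hy⟩ := hK.inv d hdK hd0
      have hy' : y * d = 1 := mul_eq_one_comm.1 hy
      let L : (Fin n → F) →ₗ[F] F × F :=
        { toFun := fun x => (hermForm n F q x v, hermForm n F q (k *ᵥ x) v)
          map_add' := fun a b => by simp [Matrix.mulVec_add, hs.add_left]
          map_smul' := fun c a => by simp [Matrix.mulVec_smul, hs.smul_left] }
      obtain ⟨x, hx0, hxL⟩ : ∃ x, x ≠ 0 ∧ L x = 0 := by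
        by_contra hno
        push Not at hno
        have hinj : Function.Injective L := (injective_iff_map_eq_zero L).2 fun x hx => by
          by_contra h0
          exact hno x h0 hx
        have := LinearMap.finrank_le_finrank_of_injective hinj
        rw [Module.finrank_fintype_fun_eq_card, Module.finrank_prod, finrank_self, Fintype.card_fin] at this
        omega
      have hx1 : hermForm n F q x v = 0 := congrArg Prod.fst hxL
      have hx2 : hermForm n F q (k *ᵥ x) v = 0 := congrArg Prod.snd hxL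
      have hgx' : (g : Matrix (Fin n) (Fin n) F) *ᵥ x = x := by
        rw [hgx, hx1, mul_zero, zero_smul, add_zero]
      have hginv : ((g⁻¹ : GL (Fin n) F) : Matrix (Fin n) (Fin n) F) *ᵥ x = x := by
        conv_lhs => rw [← hgx']
        rw [Matrix.mulVec_mulVec, Units.inv_mul, Matrix.one_mulVec]
      have hdx : d *ᵥ x = 0 := by
        rw [hd, Matrix.sub_mulVec, ← Matrix.mulVec_mulVec, hginv, ← Matrix.mulVec_mulVec, hgx, hx2,
          mul_zero, zero_smul, add_zero, sub_self]
      apply hx0
      rw [← Matrix.one_mulVec x, ← hy', ← Matrix.mulVec_mulVec, hdx, Matrix.mulVec_zero]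
    obtain ⟨x, hx⟩ : ∃ x, hermForm n F q x v ≠ 0 := by
      by_contra hno
      push Not at hno
      exact hv0 (hs.eq_zero v hno)
    have h1 := congrArg (fun A => A *ᵥ x) hcomm
    simp only [← Matrix.mulVec_mulVec, hgx, Matrix.mulVec_add, Matrix.mulVec_smul, add_right_inj] at h1
    set μ := (c * hermForm n F q x v)⁻¹ * (c * hermForm n F q (k *ᵥ x) v) with hμ
    have hkv : (k - algebraMap F _ μ) *ᵥ v = 0 := by
      rw [Matrix.sub_mulVec, Algebra.algebraMap_eq_smul_one, Matrix.smul_mulVec, Matrix.one_mulVec, sub_eq_zero, hμ,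
        ← smul_smul, h1, smul_smul, inv_mul_cancel₀ (mul_ne_zero hc0 hx), one_smul]
    have hkμ : k - algebraMap F _ μ = 0 := by
      by_contra hne
      obtain ⟨y, -, hy⟩ := hK.inv _ (K.sub_mem hk (K.algebraMap_mem μ)) hne
      apply hv0
      rw [← Matrix.one_mulVec v, ← mul_eq_one_comm.1 hy, ← Matrix.mulVec_mulVec, hkv, Matrix.mulVec_zero]
    rw [sub_eq_zero] at hkμ
    rw [hkμ]
    exact Subalgebra.algebraMap_mem _ μ
  haveI : Nonempty (Fin n) := ⟨⟨0, by omega⟩⟩
  have := hK.finrank_eq
  rw [eq_bot_iff.2 hbot, Subalgebra.finrank_bot] at this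
  omega

theorem su_tv_not_mem_tensor {a b : ℕ} (ha : 2 ≤ a) (hb : 2 ≤ b) (e : Fin n ≃ Fin a × Fin b)
    (P : GL (Fin n) F) {v : Fin n → F} (hv0 : v ≠ 0) (hvv : hermForm n F q v v = 0) {c : F} (hc0 : c ≠ 0)
    {g : GL (Fin n) F} (hgx : ∀ x, (g : Matrix (Fin n) (Fin n) F) *ᵥ x = x + (c * hermForm n F q x v) • v) :
    g ∉ tensorProductSubgroup a b e P := by
  intro hgT
  have hs := herm_hermForm (n := n) hF
  obtain ⟨_, ⟨k, ⟨A, B, hk⟩, rfl⟩, hgk⟩ := hgT
  have hgco : (g : Matrix (Fin n) (Fin n) F) =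
      co e P ((A : Matrix (Fin a) (Fin a) F) ⊗ₖ (B : Matrix (Fin b) (Fin b) F)) := by
    rw [← hgk, ← hk]; rfl
  let T : (Fin a × Fin b → F) →ₗ[F] (Fin n → F) :=
    (Matrix.toLin' (P : Matrix (Fin n) (Fin n) F)).comp (LinearMap.funLeft F F e)
  have hT : ∀ x, T x = (P : Matrix (Fin n) (Fin n) F) *ᵥ (x ∘ e) := fun x => rfl
  have hfix : ∀ x, hermForm n F q (T x) v = 0 →
      ((A : Matrix (Fin a) (Fin a) F) ⊗ₖ (B : Matrix (Fin b) (Fin b) F)) *ᵥ x = x := by
    intro x hx
    have h1 := coords_mulVec e P ((A : Matrix (Fin a) (Fin a) F) ⊗ₖ (B : Matrix (Fin b) (Fin b) F)) (T x)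
    rw [← hgco, hgx, hx, mul_zero, zero_smul, add_zero] at h1
    have h2 : (((P⁻¹ : GL (Fin n) F) : Matrix (Fin n) (Fin n) F) *ᵥ T x) ∘ e.symm = x := by
      rw [hT, Matrix.mulVec_mulVec, Units.inv_mul, Matrix.one_mulVec]; funext p; simp
    rw [h2] at h1
    exact h1.symm
  -- in every column some vector is fixed
  have heig : ∀ (z : Fin b → F), z ≠ 0 → ∃ s : F, (B : Matrix (Fin b) (Fin b) F) *ᵥ z = s • z := by
    intro z hz
    let L : (Fin a → F) →ₗ[F] (Fin a × Fin b → F) :=
      { toFun := fun y p => y p.1 * z p.2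
        map_add' := fun y y' => by funext p; simp [add_mul]
        map_smul' := fun s y => by funext p; simp [mul_assoc] }
    obtain ⟨y, hy0, hy⟩ : ∃ y, y ≠ 0 ∧ hermForm n F q (T (L y)) v = 0 := by
      by_contra hno
      push Not at hno
      let φ := ((hs.toSesq.lin v).comp T).comp L
      have hinj : Function.Injective φ := (injective_iff_map_eq_zero φ).2 fun y hy => by
        by_contra h0
        exact hno y h0 hy
      have := LinearMap.finrank_le_finrank_of_injective hinj
      rw [Module.finrank_fintype_fun_eq_card, finrank_self, Fintype.card_fin] at this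
      omega
    have h1 : ∀ p : Fin a × Fin b, ((A : Matrix (Fin a) (Fin a) F) *ᵥ y) p.1 *
        ((B : Matrix (Fin b) (Fin b) F) *ᵥ z) p.2 = y p.1 * z p.2 := fun p => by
      have := congrFun (hfix _ hy) p
      simp only [L, LinearMap.coe_mk, AddHom.coe_mk, Matrix.mulVec, dotProduct, Matrix.kroneckerMap_apply,
        Fintype.sum_prod_type] at this
      rw [← this]
      simp only [Matrix.mulVec, dotProduct, Finset.sum_mul, Finset.mul_sum]
      rw [Finset.sum_comm]
      refine Finset.sum_congr rfl fun i _ => Finset.sum_congr rfl fun j _ => ?_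
      ring
    obtain ⟨i, hi⟩ := Function.ne_iff.1 hy0
    have hA : ((A : Matrix (Fin a) (Fin a) F) *ᵥ y) i ≠ 0 := fun h0 => by
      obtain ⟨j, hj⟩ := Function.ne_iff.1 hz
      have := h1 (i, j)
      rw [h0, zero_mul] at this
      exact mul_ne_zero hi hj this.symm
    refine ⟨(((A : Matrix (Fin a) (Fin a) F) *ᵥ y) i)⁻¹ * y i, funext fun j => ?_⟩
    rw [Pi.smul_apply, smul_eq_mul, mul_assoc, ← h1 (i, j), inv_mul_cancel_left₀ hA]
  have heig' : ∀ (y : Fin a → F), y ≠ 0 → ∃ s : F, (A : Matrix (Fin a) (Fin a) F) *ᵥ y = s • y := by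
    intro y hy0
    let L : (Fin b → F) →ₗ[F] (Fin a × Fin b → F) :=
      { toFun := fun z p => y p.1 * z p.2
        map_add' := fun z z' => by funext p; simp [mul_add]
        map_smul' := fun s z => by funext p; simp [mul_left_comm] }
    obtain ⟨z, hz0, hz⟩ : ∃ z, z ≠ 0 ∧ hermForm n F q (T (L z)) v = 0 := by
      by_contra hno
      push Not at hno
      let φ := ((hs.toSesq.lin v).comp T).comp L
      have hinj : Function.Injective φ := (injective_iff_map_eq_zero φ).2 fun y hy => by
        by_contra h0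
        exact hno y h0 hy
      have := LinearMap.finrank_le_finrank_of_injective hinj
      rw [Module.finrank_fintype_fun_eq_card, finrank_self, Fintype.card_fin] at this
      omega
    have h1 : ∀ p : Fin a × Fin b, ((A : Matrix (Fin a) (Fin a) F) *ᵥ y) p.1 *
        ((B : Matrix (Fin b) (Fin b) F) *ᵥ z) p.2 = y p.1 * z p.2 := fun p => by
      have := congrFun (hfix _ hz) p
      simp only [L, LinearMap.coe_mk, AddHom.coe_mk, Matrix.mulVec, dotProduct, Matrix.kroneckerMap_apply,
        Fintype.sum_prod_type] at this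
      rw [← this]
      simp only [Matrix.mulVec, dotProduct, Finset.sum_mul, Finset.mul_sum]
      rw [Finset.sum_comm]
      refine Finset.sum_congr rfl fun i _ => Finset.sum_congr rfl fun j _ => ?_
      ring
    obtain ⟨j, hj⟩ := Function.ne_iff.1 hz0
    have hB : ((B : Matrix (Fin b) (Fin b) F) *ᵥ z) j ≠ 0 := fun h0 => by
      obtain ⟨i, hi⟩ := Function.ne_iff.1 hy0
      have := h1 (i, j)
      rw [h0, mul_zero] at this
      exact mul_ne_zero hi hj this.symm
    refine ⟨z j * (((B : Matrix (Fin b) (Fin b) F) *ᵥ z) j)⁻¹, funext fun i => ?_⟩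
    rw [Pi.smul_apply, smul_eq_mul, mul_comm _ (y i), ← mul_assoc, ← h1 (i, j), mul_assoc, mul_inv_cancel₀ hB, mul_one]
  obtain ⟨α, hα⟩ := scalar_of_eigen' heig'
  obtain ⟨β, hβ⟩ := scalar_of_eigen' heig
  have hgs : (g : Matrix (Fin n) (Fin n) F) = (α * β) • (1 : Matrix (Fin n) (Fin n) F) := by
    rw [hgco, hα, hβ, Matrix.smul_kronecker, Matrix.kronecker_smul, Matrix.one_kronecker_one, smul_smul, co_smul, co_one]
  obtain ⟨x, hx⟩ : ∃ x, hermForm n F q x v ≠ 0 := by
    by_contra hno
    push Not at hno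
    exact hv0 (hs.eq_zero v hno)
  have h1 := hgx v
  rw [hgs, Matrix.smul_mulVec, Matrix.one_mulVec, hvv, mul_zero, zero_smul, add_zero] at h1
  have hαβ : α * β = 1 := smul_left_injective F hv0 (by simpa using h1)
  have h2 := hgx x
  rw [hgs, hαβ, one_smul, Matrix.one_mulVec, left_eq_add, smul_eq_zero] at h2
  exact h2.elim (mul_ne_zero hc0 hx) hv0

theorem not_su_le_tensor {a b : ℕ} (hn : 3 ≤ n) (ha : 2 ≤ a) (hb : 2 ≤ b) (e : Fin n ≃ Fin a × Fin b)
    (P : GL (Fin n) F) : ¬ GU n F q ⊓ specialLinear (Fin n) F ≤ tensorProductSubgroup a b e P := by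
  intro hle
  obtain ⟨v, hv0, hvv⟩ := exists_iso_ne_zero hF (show 2 ≤ n by omega)
  obtain ⟨c, hc0, g, hg, hgx⟩ := exists_su_tv hF hvv
  exact su_tv_not_mem_tensor hF ha hb e P hv0 hvv hc0 hgx (hle hg)

theorem not_su_le_subfield (hn : 4 ≤ n) {F₀ : Subfield F} (hne : F₀ ≠ ⊤) (P : GL (Fin n) F) :
    ¬ GU n F q ⊓ specialLinear (Fin n) F ≤ subfieldSubgroup F₀ P := by
  intro hle
  have hs := herm_hermForm (n := n) hF
  -- every isotropic vector is a multiple of a rational one
  have hrat : ∀ v, v ≠ 0 → hermForm n F q v v = 0 → ∃ s : F, s ≠ 0 ∧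
      ∀ i, s * (((P⁻¹ : GL (Fin n) F) : Matrix (Fin n) (Fin n) F) *ᵥ v) i ∈ F₀ := by
    intro v hv0 hv
    obtain ⟨c, hc0, g, hg, hgx⟩ := exists_su_tv hF hv
    obtain ⟨y, hy, hye⟩ := hle hg
    change P * y * P⁻¹ = g at hye
    set a := ((P⁻¹ : GL (Fin n) F) : Matrix (Fin n) (Fin n) F) *ᵥ v with ha
    let b : Fin n → F := fun j => c * hermForm n F q ((P : Matrix (Fin n) (Fin n) F) *ᵥ Pi.single j 1) v
    have hyij : ∀ i j, (y : Matrix (Fin n) (Fin n) F) i j = (if i = j then 1 else 0) + a i * b j := by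
      intro i j
      have h1 : (y : Matrix (Fin n) (Fin n) F) *ᵥ Pi.single j 1 =
          ((P⁻¹ : GL (Fin n) F) : Matrix (Fin n) (Fin n) F) *ᵥ ((g : Matrix (Fin n) (Fin n) F) *ᵥ
            ((P : Matrix (Fin n) (Fin n) F) *ᵥ Pi.single j 1)) := by
        rw [Matrix.mulVec_mulVec, Matrix.mulVec_mulVec, ← Units.val_mul, ← Units.val_mul, ← hye]
        congr 2
        group
      rw [hgx, Matrix.mulVec_add, Matrix.mulVec_smul, Matrix.mulVec_mulVec, Units.inv_mul, Matrix.one_mulVec] at h1
      have h2 := congrFun h1 i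
      simp only [Matrix.mulVec_single_one, Matrix.col_apply, Pi.add_apply, Pi.single_apply, Pi.smul_apply,
        smul_eq_mul] at h2
      rw [h2, ← ha]
      simp only [b, Matrix.mulVec_single_one]
      ring
    obtain ⟨j, hbj⟩ : ∃ j, b j ≠ 0 := by
      by_contra hno
      push Not at hno
      apply hv0
      refine hs.eq_zero v fun x => ?_
      let φ : (Fin n → F) →ₗ[F] F := (hs.toSesq.lin v).comp (Matrix.toLin' (P : Matrix (Fin n) (Fin n) F))
      have hφ : φ = 0 := LinearMap.pi_ext fun k r => by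
        rw [show Pi.single k r = r • (Pi.single k 1 : Fin n → F) by simp [← Pi.single_smul'], map_smul,
          LinearMap.zero_apply]
        refine smul_eq_zero.2 (Or.inr ?_)
        have := hno k
        simp only [b, mul_eq_zero, hc0, false_or] at this
        exact this
      have := LinearMap.congr_fun hφ (((P⁻¹ : GL (Fin n) F) : Matrix (Fin n) (Fin n) F) *ᵥ x)
      simpa [φ, MaxTv.Sesq.lin, Matrix.mulVec_mulVec] using this
    have hab : ∑ i, a i * b i = 0 := by
      let φ : (Fin n → F) →ₗ[F] F := (hs.toSesq.lin v).comp (Matrix.toLin' (P : Matrix (Fin n) (Fin n) F))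
      have h1 : φ a = hermForm n F q v v := by
        simp [φ, MaxTv.Sesq.lin, ha, Matrix.mulVec_mulVec]
      have h2 : φ a = ∑ i, a i * φ (Pi.single i 1) := by
        conv_lhs => rw [pi_eq_sum_univ' a]
        simp [map_sum]
      calc ∑ i, a i * b i = c * ∑ i, a i * φ (Pi.single i 1) := by
            rw [Finset.mul_sum]
            refine Finset.sum_congr rfl fun i _ => ?_
            simp [b, φ, MaxTv.Sesq.lin]
            ring
        _ = 0 := by rw [← h2, h1, hv, mul_zero]
    rw [Subgroup.mul_normal] at hy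
    obtain ⟨u, ⟨u, rfl⟩, z, hz, huz⟩ := hy
    obtain ⟨d, hd⟩ := (mem_scalars_iff z).1 hz
    have hvalu : ∀ i j, (y : Matrix (Fin n) (Fin n) F) i j =
        (d : F) * (((u : Matrix (Fin n) (Fin n) F₀) i j : F₀) : F) := fun i j => by
      rw [← huz, Units.val_mul, hd, Matrix.mul_smul, mul_one, Matrix.smul_apply, smul_eq_mul]
      rfl
    have hentry : ∀ i j, ((d : F))⁻¹ * ((if i = j then 1 else 0) + a i * b j) ∈ F₀ := fun i j => by
      rw [← hyij, hvalu, inv_mul_cancel_left₀ d.ne_zero]
      exact ((u : Matrix (Fin n) (Fin n) F₀) i j).2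
    -- the diagonal sums to the dimension; off the diagonal the entries are the outer product
    obtain ⟨i₀, ha0⟩ : ∃ i, a i ≠ 0 := Function.ne_iff.1 (show a ≠ 0 from fun h => hv0 (by
      have := congrArg (fun w => (P : Matrix (Fin n) (Fin n) F) *ᵥ w) h
      simpa [ha, Matrix.mulVec_mulVec] using this))
    obtain ⟨p, r, hpr, hpr0⟩ : ∃ p r, p ≠ r ∧ a p * b r ≠ 0 := by
      by_contra hno
      push Not at hno
      rcases eq_or_ne i₀ j with rfl | hij
      · rw [Finset.sum_eq_single i₀ (fun k _ hk => hno k i₀ hk |> fun h => by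
          rw [(mul_eq_zero.1 h).resolve_right hbj, zero_mul]) (by simp)] at hab
        exact mul_ne_zero ha0 hbj hab
      · exact mul_ne_zero ha0 hbj (hno i₀ j hij)
    obtain ⟨k, hkp, hkr⟩ : ∃ k, k ≠ p ∧ k ≠ r := by
      have hcard : ({p, r} : Finset (Fin n)).card < (Finset.univ : Finset (Fin n)).card := by
        have := Finset.card_le_two (a := p) (b := r)
        rw [Finset.card_univ, Fintype.card_fin]
        omega
      obtain ⟨k, -, hk⟩ := Finset.exists_mem_notMem_of_card_lt_card hcard
      exact ⟨k, fun h => hk (by simp [h]), fun h => hk (by simp [h])⟩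
    have hoff : ∀ i j, i ≠ j → ((d : F))⁻¹ * (a i * b j) ∈ F₀ := fun i j hij => by
      simpa [if_neg hij] using hentry i j
    have hkk : ((d : F))⁻¹ * (a k * b k) ∈ F₀ := by
      have h1 := F₀.mul_mem (F₀.mul_mem (hoff p k (Ne.symm hkp)) (hoff k r hkr)) (F₀.inv_mem (hoff p r hpr))
      have heq : (d : F)⁻¹ * (a p * b k) * ((d : F)⁻¹ * (a k * b r)) * ((d : F)⁻¹ * (a p * b r))⁻¹ =
          (d : F)⁻¹ * (a k * b k) := by
        obtain ⟨hp0, hr0⟩ := mul_ne_zero_iff.1 hpr0
        have := d.ne_zero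
        field_simp
      rwa [heq] at h1
    have hd0 : ((d : F))⁻¹ ∈ F₀ := by
      have := F₀.sub_mem (hentry k k) hkk
      rwa [if_pos rfl, mul_add, mul_one, add_sub_cancel_right] at this
    have hall : ∀ i, a i * b r ∈ F₀ ∧ a p * b r ∈ F₀ := fun i => by
      have hun : ∀ i j, a i * b j ∈ F₀ := fun i j => by
        have h1 := F₀.mul_mem (F₀.inv_mem hd0) (hentry i j)
        rw [inv_inv, ← mul_assoc, mul_inv_cancel₀ d.ne_zero, one_mul] at h1
        by_cases hij : i = j
        · rw [if_pos hij] at h1; simpa using F₀.sub_mem h1 F₀.one_mem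
        · rwa [if_neg hij, zero_add] at h1
      exact ⟨hun i r, hun p r⟩
    exact ⟨b r, (mul_ne_zero_iff.1 hpr0).2, fun i => by rw [mul_comm]; exact (hall i).1⟩
  -- two perpendicular isotropic vectors span too many lines
  obtain ⟨v, hv0, hv⟩ := exists_iso_ne_zero hF (show 2 ≤ n by omega)
  obtain ⟨j, hj⟩ := Function.ne_iff.1 hv0
  obtain ⟨w, hwS, hw0, hw⟩ := hs.exists_iso
    (S := LinearMap.ker (hs.toSesq.lin v) ⊓ LinearMap.ker (LinearMap.proj j)) (by
    have h1 := finrank_le_inf_ker_add_one (⊤ : Submodule F (Fin n → F)) (hs.toSesq.lin v)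
    rw [top_inf_eq, finrank_top, Module.finrank_fin_fun] at h1
    have h2 := finrank_le_inf_ker_add_one (LinearMap.ker (hs.toSesq.lin v))
      (LinearMap.proj j : (Fin n → F) →ₗ[F] F)
    omega)
  have hwv : hermForm n F q w v = 0 := LinearMap.mem_ker.1 hwS.1
  have hwj : w j = 0 := LinearMap.mem_ker.1 hwS.2
  set Pi' := ((P⁻¹ : GL (Fin n) F) : Matrix (Fin n) (Fin n) F) with hPi
  obtain ⟨e, he⟩ : ∃ e : F, e ∉ F₀ := by
    by_contra hno
    push Not at hno
    exact hne (eq_top_iff.2 fun x _ => hno x)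
  -- independent coordinates
  obtain ⟨l, hl⟩ : ∃ l, (Pi' *ᵥ v) l ≠ 0 := Function.ne_iff.1 (show Pi' *ᵥ v ≠ 0 from fun h => hv0
    (gl_mulVec_injective P⁻¹ (h.trans (Matrix.mulVec_zero _).symm)))
  -- replace the second vector by one vanishing at a coordinate where the first does not
  set θ := (Pi' *ᵥ w) l / (Pi' *ᵥ v) l with hθ
  let w' : Fin n → F := w - θ • v
  have hw'iso : hermForm n F q w' w' = 0 := by
    simp only [w', hs.toSesq.sub_left, hs.toSesq.sub_right, hs.smul_left, hs.smul_right, hv, hw, hwv,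
      hs.refl _ _ hwv, mul_zero, sub_zero]
  have hw'0 : w' ≠ 0 := fun h => by
    have h1 := congrFun h j
    simp only [w', Pi.sub_apply, Pi.smul_apply, smul_eq_mul, hwj, zero_sub, Pi.zero_apply, neg_eq_zero, mul_eq_zero] at h1
    rcases h1 with h1 | h1
    · simp only [w', show θ = 0 from h1, zero_smul, sub_zero] at h
      exact hw0 h
    · exact hj h1
  have hw'l : (Pi' *ᵥ w') l = 0 := by
    simp only [w', Matrix.mulVec_sub, Matrix.mulVec_smul, Pi.sub_apply, Pi.smul_apply, smul_eq_mul, hθ]
    rw [div_mul_cancel₀ _ hl, sub_self]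
  obtain ⟨i, hi⟩ : ∃ i, (Pi' *ᵥ w') i ≠ 0 := Function.ne_iff.1 (show Pi' *ᵥ w' ≠ 0 from fun h => hw'0
    (gl_mulVec_injective P⁻¹ (h.trans (Matrix.mulVec_zero _).symm)))
  obtain ⟨s', hs'0, hsw'⟩ := hrat w' hw'0 hw'iso
  obtain ⟨t', ht'0, htv'⟩ := hrat v hv0 hv
  have hwv' : hermForm n F q w' v = 0 := by
    simp only [w', hs.toSesq.sub_left, hs.smul_left, hwv, hv, mul_zero, sub_zero]
  -- the combination with an irrational ratio is not rational
  obtain ⟨μ, hμ⟩ : ∃ μ : F, μ = e * s' / t' := ⟨_, rfl⟩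
  have hiso : hermForm n F q (v + μ • w') (v + μ • w') = 0 := by
    simp only [hs.add_left, hs.add_right, hs.smul_left, hs.smul_right, hv, hw'iso, hwv', hs.refl _ _ hwv', mul_zero,
      add_zero]
  have hne0 : v + μ • w' ≠ 0 := fun h => hl (by
    have h1 := congrArg (fun x => (Pi' *ᵥ x) l) h
    simpa [Matrix.mulVec_add, Matrix.mulVec_smul, hw'l] using h1)
  obtain ⟨x, hx0, hx⟩ := hrat _ hne0 hiso
  have h1 := hx l
  have h2 := hx i
  rw [Matrix.mulVec_add, Matrix.mulVec_smul, Pi.add_apply, Pi.smul_apply, smul_eq_mul] at h1 h2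
  rw [hw'l, mul_zero, add_zero] at h1
  -- x is a rational multiple of t'
  have hxt : x / t' ∈ F₀ := by
    have := F₀.div_mem h1 (htv' l)
    rwa [mul_div_mul_right _ _ hl] at this
  have h3 : x * (μ * (Pi' *ᵥ w') i) ∈ F₀ := by
    have h4 : x * (Pi' *ᵥ v) i ∈ F₀ := by
      have := F₀.mul_mem hxt (htv' i)
      rwa [← mul_assoc, div_mul_cancel₀ _ ht'0] at this
    have := F₀.sub_mem h2 h4
    rwa [← mul_sub, add_sub_cancel_left] at this
  have h5 : e ∈ F₀ := by
    have h6 := F₀.div_mem h3 (F₀.mul_mem hxt (hsw' i))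
    have heq : x * (μ * (Pi' *ᵥ w') i) / (x / t' * (s' * (Pi' *ᵥ w') i)) = e := by
      rw [hμ]; field_simp
    rwa [heq] at h6
  exact he h5

theorem not_su_le_normalizer (hn : 5 ≤ n) {r : ℕ} {R : Subgroup (GL (Fin n) F)}
    (hR : IsSymplecticTypeGroup r R) (hRai : ActsAbsolutelyIrreducibly (matrixSet R)) (hscal : Scal R) :
    ¬ GU n F q ⊓ specialLinear (Fin n) F ≤ subgroupNormalizer R := by
  classical
  intro hle
  haveI : Nonempty (Fin n) := ⟨⟨0, by omega⟩⟩
  have hs := herm_hermForm (n := n) hF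
  have hRA : AI R := hRai
  obtain ⟨x, hx, hxs⟩ : ∃ x ∈ R, x ∉ scalars (Fin n) F :=
    SetLike.not_le_iff_exists.1 (AbData.not_le (by simp; omega) hRA)
  obtain ⟨v, hv0, hv⟩ := exists_iso_ne_zero hF (show 2 ≤ n by omega)
  obtain ⟨c, hc0, g, hg, hgx⟩ := exists_su_tv hF hv
  -- a commutator of a transvection with an element of R is trivial
  have hcom : ∀ y ∈ R, g * y = y * g := by
    intro y hy
    set z := g * y * g⁻¹ * y⁻¹ with hz
    have hzR : z ∈ R := R.mul_mem ((Subgroup.mem_normalizer_iff.1 (hle hg) y).1 hy) (R.inv_mem hy)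
    let S : Submodule F (Fin n → F) := LinearMap.ker ((hs.toSesq.lin v).comp (Matrix.toLin'
        ((y⁻¹ : GL (Fin n) F) : Matrix (Fin n) (Fin n) F))) ⊓ LinearMap.ker (hs.toSesq.lin v)
    have hS : n ≤ finrank F S + 2 := by
      have h1 := finrank_le_inf_ker_add_one (⊤ : Submodule F (Fin n → F)) ((hs.toSesq.lin v).comp (Matrix.toLin'
        ((y⁻¹ : GL (Fin n) F) : Matrix (Fin n) (Fin n) F)))
      rw [top_inf_eq, finrank_top, Module.finrank_fin_fun] at h1
      have h2 := finrank_le_inf_ker_add_one (LinearMap.ker ((hs.toSesq.lin v).comp (Matrix.toLin'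
        ((y⁻¹ : GL (Fin n) F) : Matrix (Fin n) (Fin n) F)))) (hs.toSesq.lin v)
      show n ≤ finrank F (_ ⊓ _ : Submodule F (Fin n → F)) + 2
      omega
    have hfix : ∀ u ∈ S, (z : Matrix (Fin n) (Fin n) F) *ᵥ u = u := by
      rintro u ⟨hu1, hu2⟩
      have hu1' : hermForm n F q (((y⁻¹ : GL (Fin n) F) : Matrix (Fin n) (Fin n) F) *ᵥ u) v = 0 := by
        simpa [MaxTv.Sesq.lin] using LinearMap.mem_ker.1 hu1
      have hu2' : hermForm n F q u v = 0 := LinearMap.mem_ker.1 hu2
      have hgi : ((g⁻¹ : GL (Fin n) F) : Matrix (Fin n) (Fin n) F) *ᵥ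
          (((y⁻¹ : GL (Fin n) F) : Matrix (Fin n) (Fin n) F) *ᵥ u) =
          ((y⁻¹ : GL (Fin n) F) : Matrix (Fin n) (Fin n) F) *ᵥ u := by
        have h1 := hgx (((y⁻¹ : GL (Fin n) F) : Matrix (Fin n) (Fin n) F) *ᵥ u)
        rw [hu1', mul_zero, zero_smul, add_zero] at h1
        conv_lhs => rw [← h1]
        rw [Matrix.mulVec_mulVec _ _ (g : Matrix (Fin n) (Fin n) F), Units.inv_mul, Matrix.one_mulVec]
      rw [hz, Units.val_mul, Units.val_mul, Units.val_mul, ← Matrix.mulVec_mulVec, ← Matrix.mulVec_mulVec,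
        ← Matrix.mulVec_mulVec, hgi, Matrix.mulVec_mulVec u (y : Matrix (Fin n) (Fin n) F), Units.mul_inv, Matrix.one_mulVec, hgx, hu2', mul_zero,
        zero_smul, add_zero]
    have hz1 : z = 1 := by
      by_cases hzs : z ∈ scalars (Fin n) F
      · obtain ⟨d, hd⟩ := exists_sc hzs
        obtain ⟨u, hu, hu0⟩ := Submodule.exists_mem_ne_zero_of_ne_bot (p := S) fun h => by
          rw [h, finrank_bot] at hS; omega
        have h1 := hfix u hu
        rw [hd, sc_coe, Matrix.smul_mulVec, Matrix.one_mulVec] at h1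
        have hd1 : (d : F) = 1 := smul_left_injective F hu0 (by simpa using h1)
        rw [hd, show d = 1 from Units.ext hd1, map_one]
      · exfalso
        obtain ⟨w, hw, hzw⟩ : ∃ w ∈ R, w * z ≠ z * w := by
          by_contra hno
          push Not at hno
          exact hzs (hRA.mem_scalars fun w hw => (hno w hw).symm)
        obtain ⟨d, hd⟩ := hscal z hzR w hw
        have hd1 : (d : F) ≠ 1 := fun h => hzw (by rw [hd, show d = 1 from Units.ext h, map_one, one_mul])
        have hinj : Function.Injective (Matrix.toLin' (w : Matrix (Fin n) (Fin n) F)) := fun a b h =>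
          gl_mulVec_injective w (by simpa [Matrix.toLin'_apply] using h)
        have hdisj : S ⊓ S.map (Matrix.toLin' (w : Matrix (Fin n) (Fin n) F)) = ⊥ := by
          rw [eq_bot_iff]
          rintro u ⟨hu, u', hu', rfl⟩
          rw [Submodule.mem_bot]
          rw [Matrix.toLin'_apply] at hu ⊢
          have h1 := hfix _ hu
          have h2 := congrArg (fun t : GL (Fin n) F => (t : Matrix (Fin n) (Fin n) F) *ᵥ u') hd
          simp only [Units.val_mul, sc_coe, Matrix.smul_mul, one_mul, Matrix.smul_mulVec, ← Matrix.mulVec_mulVec,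
            hfix u' hu', h1] at h2
          by_contra hne
          exact hd1 (smul_left_injective F hne (by simpa using h2.symm))
        have h3 := Submodule.finrank_sup_add_finrank_inf_eq S (S.map (Matrix.toLin' (w : Matrix (Fin n) (Fin n) F)))
        rw [hdisj, finrank_bot, ← (Submodule.equivMapOfInjective _ hinj S).finrank_eq] at h3
        have h4 := Submodule.finrank_le (S ⊔ S.map (Matrix.toLin' (w : Matrix (Fin n) (Fin n) F)))
        rw [Module.finrank_fin_fun] at h4
        omega
    rw [hz, mul_inv_eq_one, mul_inv_eq_iff_eq_mul] at hz1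
    exact hz1
  obtain ⟨d, hd⟩ := exists_sc (hRA.mem_scalars (g := g) fun y hy => hcom y hy)
  have h1 := hgx v
  rw [hd, sc_coe, Matrix.smul_mulVec, Matrix.one_mulVec, hv, mul_zero, zero_smul, add_zero] at h1
  have hd1 : (d : F) = 1 := smul_left_injective F hv0 (by simpa using h1)
  obtain ⟨w, hw⟩ : ∃ w, hermForm n F q w v ≠ 0 := by
    by_contra hno
    push Not at hno
    exact hv0 (hs.eq_zero v hno)
  have h2 := hgx w
  rw [hd, sc_coe, hd1, one_smul, Matrix.one_mulVec, left_eq_add, smul_eq_zero] at h2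
  exact h2.elim (mul_ne_zero hc0 hw) hv0

omit hF [Fintype F] in
theorem pureVec_update {k t : ℕ} (w : Fin t → Fin k → F) (i : Fin t) (y : Fin k → F) (x : Fin t → Fin k) :
    pureVec (Function.update w i y) x = y (x i) * ∏ l ∈ Finset.univ.erase i, w l (x l) := by
  rw [pureVec, ← Finset.mul_prod_erase _ _ (Finset.mem_univ i), Function.update_self]
  congr 1
  exact Finset.prod_congr rfl fun l hl => by rw [Function.update_of_ne (Finset.ne_of_mem_erase hl)]

omit hF [Fintype F] in
theorem pureVec_at {k t : ℕ} (w : Fin t → Fin k → F) (i : Fin t) (z : Fin t → Fin k) (j : Fin k) :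
    pureVec w (Function.update z i j) = w i j * ∏ l ∈ Finset.univ.erase i, w l (z l) := by
  rw [pureVec, ← Finset.mul_prod_erase _ _ (Finset.mem_univ i), Function.update_self]
  congr 1
  exact Finset.prod_congr rfl fun l hl => by rw [Function.update_of_ne (Finset.ne_of_mem_erase hl)]

theorem not_su_le_wreath (hn : 3 ≤ n) {k t : ℕ} (hk : 3 ≤ k) (ht : 2 ≤ t) (e : Fin n ≃ (Fin t → Fin k))
    (P : GL (Fin n) F) : ¬ GU n F q ⊓ specialLinear (Fin n) F ≤ tensorWreathSubgroup k t e P := by
  classical
  intro hle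
  have hs := herm_hermForm (n := n) hF
  obtain ⟨v, hv0, hvv⟩ := exists_iso_ne_zero hF (show 2 ≤ n by omega)
  obtain ⟨c, hc0, g, hg, hgx⟩ := exists_su_tv hF hvv
  obtain ⟨y, hy, hgco⟩ := exists_mem_wreath (hle hg)
  obtain ⟨π, A, hA⟩ := mem_wreathStandard hy
  let T : ((Fin t → Fin k) → F) →ₗ[F] (Fin n → F) :=
    (Matrix.toLin' (P : Matrix (Fin n) (Fin n) F)).comp (LinearMap.funLeft F F e)
  have hT : ∀ x, T x = (P : Matrix (Fin n) (Fin n) F) *ᵥ (x ∘ e) := fun x => rfl
  have hfix : ∀ x, hermForm n F q (T x) v = 0 →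
      (y : Matrix (Fin t → Fin k) (Fin t → Fin k) F) *ᵥ x = x := by
    intro x hx
    have h1 := coords_mulVec e P (y : Matrix (Fin t → Fin k) (Fin t → Fin k) F) (T x)
    rw [← hgco, hgx, hx, mul_zero, zero_smul, add_zero] at h1
    have h2 : (((P⁻¹ : GL (Fin n) F) : Matrix (Fin n) (Fin n) F) *ᵥ T x) ∘ e.symm = x := by
      rw [hT, Matrix.mulVec_mulVec, Units.inv_mul, Matrix.one_mulVec]; funext p; simp
    rw [h2] at h1
    exact h1.symm
  -- the element maps pure tensors to pure tensors
  have hpure : ∀ w : Fin t → Fin k → F, (y : Matrix (Fin t → Fin k) (Fin t → Fin k) F) *ᵥ pureVec w =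
      pureVec fun i => A i *ᵥ w (π i) := by
    intro w
    ext x
    simp only [pureVec, Matrix.mulVec, dotProduct, hA]
    rw [← Equiv.sum_comp (π.arrowCongr (Equiv.refl (Fin k))) _]
    rw [Finset.sum_congr rfl fun z _ => show (∏ i, A i (x i) ((π.arrowCongr (Equiv.refl (Fin k))) z (π i))) *
        ∏ i, w i ((π.arrowCongr (Equiv.refl (Fin k))) z i) = ∏ i, A i (x i) (z i) * w (π i) (z i) by
      rw [← Equiv.prod_comp π fun i => w i ((π.arrowCongr (Equiv.refl (Fin k))) z i), ← Finset.prod_mul_distrib]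
      simp [Equiv.arrowCongr]]
    exact (Fintype.prod_sum fun i j => A i (x i) j * w (π i) j).symm
  -- equal pure tensors have proportional factors
  have hprop : ∀ w w' : Fin t → Fin k → F, (∀ i, w i ≠ 0) → pureVec w' = pureVec w →
      ∀ i, ∃ s : F, w' i = s • w i := by
    intro w w' hw heq i
    choose z hz using fun l => Function.ne_iff.1 (hw l)
    have hz' : ∀ l, w' l (z l) ≠ 0 := fun l h0 => by
      have h1 := congrFun heq z
      rw [pureVec, pureVec, Finset.prod_eq_zero (f := fun l => w' l (z l)) (Finset.mem_univ l) h0] at h1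
      exact Finset.prod_ne_zero_iff.2 (fun l _ => hz l) h1.symm
    refine ⟨(∏ l ∈ Finset.univ.erase i, w' l (z l))⁻¹ * ∏ l ∈ Finset.univ.erase i, w l (z l), funext fun j => ?_⟩
    have h1 := congrFun heq (Function.update z i j)
    rw [pureVec_at, pureVec_at] at h1
    have hne : ∏ l ∈ Finset.univ.erase i, w' l (z l) ≠ 0 := Finset.prod_ne_zero_iff.2 fun l _ => hz' l
    rw [Pi.smul_apply, smul_eq_mul]
    field_simp
    linear_combination h1
  -- in every slot the vectors killed by the functional form a subspace of codimension one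
  have hslot : ∀ (w : Fin t → Fin k → F) (i : Fin t) (S : Submodule F (Fin k → F)), 2 ≤ finrank F S →
      ∃ y₀ ∈ S, y₀ ≠ 0 ∧ hermForm n F q (T (pureVec (Function.update w i y₀))) v = 0 := by
    intro w i S hS
    let L : (Fin k → F) →ₗ[F] F :=
      { toFun := fun y₀ => hermForm n F q (T (pureVec (Function.update w i y₀))) v
        map_add' := fun a b => by
          rw [← hs.add_left, ← map_add]
          congr 2
          funext x
          simp only [pureVec_update, Pi.add_apply, add_mul]
        map_smul' := fun s a => by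
          rw [RingHom.id_apply, smul_eq_mul, ← hs.smul_left, ← map_smul]
          congr 2
          funext x
          simp only [pureVec_update, Pi.smul_apply, smul_eq_mul, mul_assoc] }
    have h1 := finrank_le_inf_ker_add_one S L
    obtain ⟨y₀, hy₀, hy0⟩ := Submodule.exists_mem_ne_zero_of_ne_bot (p := S ⊓ LinearMap.ker L) fun h => by
      rw [h, finrank_bot] at h1; omega
    exact ⟨y₀, hy₀.1, hy0, LinearMap.mem_ker.1 hy₀.2⟩
  have htop : 2 ≤ finrank F (⊤ : Submodule F (Fin k → F)) := by rw [finrank_top, Module.finrank_fin_fun]; omega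
  have hπ : π = 1 := by
    by_contra hne
    obtain ⟨i, hi⟩ : ∃ i, π i ≠ i := by
      by_contra hno
      push Not at hno
      exact hne (Equiv.ext hno)
    obtain ⟨r₀, hr₀⟩ : ∃ r₀ : Fin k, True := ⟨⟨0, by omega⟩, trivial⟩
    let w : Fin t → Fin k → F := fun _ => Pi.single r₀ 1
    let w₁ : Fin t → Fin k → F := fun l => if l = i then Pi.single r₀ 1 else Pi.single r₀ 1
    -- vectors in slot i are sent to slot π⁻¹ i, so the image of slot π i is fixed
    let S : Submodule F (Fin k → F) := LinearMap.ker (LinearMap.proj r₀)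
    have hS : 2 ≤ finrank F S := by
      have h1 := finrank_le_inf_ker_add_one (⊤ : Submodule F (Fin k → F)) (LinearMap.proj r₀ : (Fin k → F) →ₗ[F] F)
      rw [top_inf_eq, finrank_top, Module.finrank_fin_fun] at h1
      show 2 ≤ finrank F (LinearMap.ker (LinearMap.proj r₀) : Submodule F (Fin k → F))
      omega
    obtain ⟨y₀, hy₀S, hy₀, hy₀f⟩ := hslot w i S hS
    set w' := Function.update w i y₀ with hw'
    have hwne : ∀ l, w' l ≠ 0 := fun l => by
      by_cases hl : l = i
      · subst hl; simpa [hw'] using hy₀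
      · rw [hw', Function.update_of_ne hl]; simp [w]
    have h1 := hfix _ hy₀f
    rw [hpure] at h1
    obtain ⟨s, hs'⟩ := hprop _ _ hwne h1 i
    -- the operator in slot i sends the standard vector into a multiple of y₀
    simp only [hw', Function.update_of_ne hi, Function.update_self] at hs'
    -- choose a second vector
    obtain ⟨r₁, hr₁⟩ := Function.ne_iff.1 hy₀
    obtain ⟨y₁, hy₁S, hy₁, hy₁f⟩ := hslot w i (LinearMap.ker (LinearMap.proj r₁)) (by
      have h1 := finrank_le_inf_ker_add_one (⊤ : Submodule F (Fin k → F)) (LinearMap.proj r₁ : (Fin k → F) →ₗ[F] F)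
      rw [top_inf_eq, finrank_top, Module.finrank_fin_fun] at h1
      show 2 ≤ finrank F (LinearMap.ker (LinearMap.proj r₁) : Submodule F (Fin k → F))
      omega)
    set w'' := Function.update w i y₁ with hw''
    have hwne' : ∀ l, w'' l ≠ 0 := fun l => by
      by_cases hl : l = i
      · subst hl; simpa [hw''] using hy₁
      · rw [hw'', Function.update_of_ne hl]; simp [w]
    have h2 := hfix _ hy₁f
    rw [hpure] at h2
    obtain ⟨s', hs''⟩ := hprop _ _ hwne' h2 i
    simp only [hw'', Function.update_of_ne hi, Function.update_self] at hs''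
    have heq : s • y₀ = s' • y₁ := hs'.symm.trans hs''
    have h3 := congrFun heq r₁
    rw [Pi.smul_apply, Pi.smul_apply, show y₁ r₁ = 0 from LinearMap.mem_ker.1 hy₁S, smul_zero, smul_eq_zero] at h3
    have hs0 : s = 0 := h3.resolve_right hr₁
    rw [hs0, zero_smul] at hs'
    have h4 := congrFun h1
    have hzero : pureVec w' = 0 := by
      rw [← h1]
      funext x
      exact Finset.prod_eq_zero (Finset.mem_univ i) (by
        simp only [hw', Function.update_of_ne hi]
        rw [hs']; rfl)
    choose z hz using fun l => Function.ne_iff.1 (hwne l)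
    exact Finset.prod_ne_zero_iff.2 (fun l _ => hz l) (congrFun hzero z)
  subst hπ
  have heig : ∀ i (z : Fin k → F), z ≠ 0 → ∃ s : F, A i *ᵥ z = s • z := by
    intro i z hz
    obtain ⟨l, hli⟩ := Fintype.exists_ne_of_one_lt_card (α := Fin t) (by simp; omega) i
    obtain ⟨y₀, -, hy₀, hy₀f⟩ := hslot (fun _ => z) l ⊤ htop
    set w' := Function.update (fun _ : Fin t => z) l y₀ with hw'
    have hwne : ∀ a, w' a ≠ 0 := fun a => by
      by_cases ha : a = l
      · subst ha; simpa [hw'] using hy₀
      · rw [hw', Function.update_of_ne ha]; exact hz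
    have h1 := hfix _ hy₀f
    rw [hpure] at h1
    obtain ⟨s, hs'⟩ := hprop _ _ hwne h1 i
    exact ⟨s, by simpa [hw', Function.update_of_ne hli.symm] using hs'⟩
  choose α hα using fun i => scalar_of_eigen' (heig i)
  have hys : (y : Matrix (Fin t → Fin k) (Fin t → Fin k) F) = (∏ i, α i) • (1 : Matrix _ _ F) := by
    ext x x'
    rw [hA, Matrix.smul_apply, Matrix.one_apply, smul_eq_mul]
    simp only [Equiv.Perm.coe_one, id_eq, hα, Matrix.smul_apply, smul_eq_mul, Finset.prod_mul_distrib]
    rw [prod_one_apply]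
  have hgs : (g : Matrix (Fin n) (Fin n) F) = (∏ i, α i) • (1 : Matrix (Fin n) (Fin n) F) := by
    rw [hgco, hys, co_smul, co_one]
  obtain ⟨x, hx⟩ : ∃ x, hermForm n F q x v ≠ 0 := by
    by_contra hno
    push Not at hno
    exact hv0 (hs.eq_zero v hno)
  have h1 := hgx v
  rw [hgs, Matrix.smul_mulVec, Matrix.one_mulVec, hvv, mul_zero, zero_smul, add_zero] at h1
  have hp1 : (∏ i, α i) = 1 := smul_left_injective F hv0 (by simpa using h1)
  have h2 := hgx x
  rw [hgs, hp1, one_smul, Matrix.one_mulVec, left_eq_add, smul_eq_zero] at h2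
  exact h2.elim (mul_ne_zero hc0 hx) hv0

end

end Cfsg.Agent.Classical.Asch
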