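import Cfsg.Agent.Lib.Classical.AschOrthPlane
import Cfsg.Agent.Lib.Classical.AschSLn
import Cfsg.Agent.Lib.Classical.AschFormQuad
import Cfsg.Agent.Lib.Classical.AschFormCommon
import Cfsg.Agent.Lib.Classical.AschUnitProper

/-!
The kernel `Ω` of an orthogonal group lies in no member of a geometric class.
-/

set_option autoImplicit false
set_option linter.unusedSectionVars false
set_option linter.unusedFintypeInType false
set_option linter.unusedDecidableInType false
set_option quotPrecheck false

namespace Cfsg.Agent.Classical.AschOrthTwo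

open Matrix Module Cfsg.Geo OrthAut
open Asch (pureVec pureVec_update pureVec_at)

variable {F : Type*} [Field F] [Fintype F] {ι : Type} [Fintype ι] [DecidableEq ι] {Q : QuadraticForm F (ι → F)}

local notation "B" => QuadraticMap.polar ⇑Q
local notation "Mn" => Matrix ι ι F

variable (hQ : (QuadraticMap.polarBilin Q).Nondegenerate) (h7 : 7 ≤ Fintype.card ι)
include hQ h7

theorem exists_polar_ne {a : ι → F} (ha : a ≠ 0) : ∃ z, B a z ≠ 0 := by
  by_contra hno
  push Not at hno
  exact ha (hQ.1 a hno)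

/-- `Ω` fixes no proper non-zero subspace. -/
theorem not_omega_le_subspace {W : Submodule F (ι → F)} (h1 : W ≠ ⊥) (ht : W ≠ ⊤) :
    ¬ Geo.omegaGL ⇑Q ≤ subspaceStabilizer W := by
  intro hle
  have hT := tri_of_card hQ h7
  obtain ⟨a, haW, ha0⟩ := Submodule.exists_mem_ne_zero_of_ne_bot h1
  obtain ⟨z, hz⟩ := exists_polar_ne hQ h7 ha0
  have hrad : (⊤ : Submodule F (ι → F)) ⊓ LinearMap.BilinForm.orthogonal (QuadraticMap.polarBilin Q) ⊤ = ⊥ :=
    (Submodule.eq_bot_iff _).2 fun x hx => hQ.2 x fun y => hx.2 y trivial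
  obtain ⟨e, -, he, hea⟩ := MaxTv.exists_sing_pairing (Q := Q) (T := (⊤ : Submodule F (ι → F)))
    (by rw [hrad, finrank_bot, finrank_top, Module.finrank_pi]; omega) (y := a)
    ⟨z, trivial, by rwa [QuadraticMap.polar_comm]⟩
  have hBee : B e e = 0 := OrthAut.polar_self' he
  set c := B e a with hc
  have hmem : ∀ w, B e w = 0 → c • w - B w a • e - (Q w * c) • e ∈ W := by
    intro w hw
    obtain ⟨t, ht', htx⟩ := exists_siegel hQ hT he hw
    have h := W.sub_mem ((MaxTv.mem_subspaceStabilizer_iff W t).1 (hle ht') a haW) haW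
    rw [htx] at h
    convert h using 1
    abel
  obtain ⟨f, hf⟩ := exists_polar_ne hQ h7 (show e ≠ 0 from fun h => hea (by simp [hc, h]))
  obtain ⟨p, hp0, -, hp⟩ := MaxTv.quad_exists_iso hQ ![e, f] (by omega)
  have hep : B e p = 0 := by rw [QuadraticMap.polar_comm]; exact hp 0
  have hpf : B p f = 0 := hp 1
  obtain ⟨y, hy⟩ := exists_polar_ne hQ h7 hp0
  set y' := y - (B e y / B e f) • f with hy'
  have hey' : B e y' = 0 := by
    rw [hy', QuadraticMap.polar_sub_right, QuadraticMap.polar_smul_right, smul_eq_mul, div_mul_cancel₀ _ hf,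
      sub_self]
  have hpy' : B p y' = B p y := by
    rw [hy', QuadraticMap.polar_sub_right, QuadraticMap.polar_smul_right, hpf, smul_zero, sub_zero]
  have heW : e ∈ W := by
    have h := W.sub_mem (W.sub_mem (hmem (p + y') (by rw [QuadraticMap.polar_add_right, hep, hey', add_zero]))
      (hmem p hep)) (hmem y' hey')
    have key : c • (p + y') - B (p + y') a • e - (Q (p + y') * c) • e - (c • p - B p a • e - (Q p * c) • e)
        - (c • y' - B y' a • e - (Q y' * c) • e) = (-(B p y' * c)) • e := by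
      rw [QuadraticMap.polar_add_left, OrthAut.quad_add]
      module
    rw [key] at h
    refine (Submodule.smul_mem_iff W ?_).1 h
    rw [hpy']
    exact neg_ne_zero.2 (mul_ne_zero hy hea)
  have hperp : ∀ w, B e w = 0 → w ∈ W := by
    intro w hw
    have h := W.add_mem (W.add_mem (hmem w hw) (W.smul_mem (B w a) heW)) (W.smul_mem (Q w * c) heW)
    rw [sub_add_eq_add_sub, sub_add_cancel, sub_add_cancel] at h
    exact (Submodule.smul_mem_iff W hea).1 h
  refine ht (eq_top_iff.2 fun x _ => ?_)
  have hx : x - (B e x / c) • a ∈ W := hperp _ (by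
    rw [QuadraticMap.polar_sub_right, QuadraticMap.polar_smul_right, ← hc, smul_eq_mul, div_mul_cancel₀ _ hea,
      sub_self])
  have := W.add_mem hx (W.smul_mem (B e x / c) haW)
  rwa [sub_add_cancel] at this

/-- `Ω` permutes no orthogonal decomposition. -/
theorem not_omega_le_decomp (h2 : (2 : F) ≠ 0) {t k : ℕ} {D : Fin t → Submodule F (ι → F)}
    (hD : IsNondegenerateMDecomposition (QuadraticMap.polar ⇑Q) k D) :
    ¬ Geo.omegaGL ⇑Q ≤ decompositionStabilizer D := by
  intro hle
  have hT := tri_of_card hQ h7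
  haveI : NeZero t := ⟨by have := hD.decomp.two_le; omega⟩
  set i₁ : Fin t := ⟨1, by have := hD.decomp.two_le; omega⟩
  have hne : (0 : Fin t) ≠ i₁ := by simp [i₁, Fin.ext_iff]
  obtain ⟨x, hxD, hx⟩ : ∃ x ∈ D 0, Q x ≠ 0 := by
    by_contra hno
    push Not at hno
    obtain ⟨x, hx, hx0⟩ := Submodule.exists_mem_ne_zero_of_ne_bot (p := D 0) fun h => by
      have := hD.decomp.finrank_eq 0
      rw [h, finrank_bot] at this
      exact hD.decomp.pos.ne this
    obtain ⟨⟨y, hy, hxy⟩, -⟩ := hD.nondegenerate 0 x hx hx0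
    exact hxy (MaxTv.polar_zero_of_sing hno hy hx)
  have hx0 : x ≠ 0 := fun h => hx (by simp [h])
  have hBxx : B x x ≠ 0 := by rw [OrthAut.polar_self2]; exact mul_ne_zero h2 hx
  have hrad : (⊤ : Submodule F (ι → F)) ⊓ LinearMap.BilinForm.orthogonal (QuadraticMap.polarBilin Q) ⊤ = ⊥ :=
    (Submodule.eq_bot_iff _).2 fun z hz => hQ.2 z fun y => hz.2 y trivial
  obtain ⟨z, hz⟩ := exists_polar_ne hQ h7 hx0
  obtain ⟨e', -, he', he'x⟩ := MaxTv.exists_sing_pairing (Q := Q) (T := (⊤ : Submodule F (ι → F)))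
    (by rw [hrad, finrank_bot, finrank_top, Module.finrank_pi]; omega) (y := x)
    ⟨z, trivial, by rwa [QuadraticMap.polar_comm]⟩
  obtain ⟨e, he, hex⟩ : ∃ e, Q e = 0 ∧ B e x = 1 := ⟨(B e' x)⁻¹ • e', by
    rw [QuadraticMap.map_smul, he', smul_zero], by
    rw [QuadraticMap.polar_smul_left, smul_eq_mul, inv_mul_cancel₀ he'x]⟩
  have hBee : B e e = 0 := OrthAut.polar_self' he
  have hxe : B x e = 1 := by rw [QuadraticMap.polar_comm, hex]
  -- singular vectors orthogonal to both lie in the first part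
  have hsing : ∀ w, Q w = 0 → B e w = 0 → B x w = 0 → w ∈ D 0 := by
    intro w hw hew hxw
    obtain ⟨g, hg, hgx⟩ := exists_siegel hQ hT he hew
    obtain ⟨σ, hσ⟩ := hle hg
    have h1 : (g : Mn) *ᵥ x ∈ D (σ 0) := hσ 0 ▸ ⟨x, hxD, rfl⟩
    rw [hgx, hex, QuadraticMap.polar_comm _ w x, hxw, hw] at h1
    simp only [one_smul, zero_smul, mul_one, sub_zero] at h1
    by_cases hs : σ 0 = 0
    · rw [hs] at h1
      exact (Submodule.add_mem_iff_right _ hxD).1 h1
    · exfalso
      have := hD.orthogonal _ _ hs (x + w) h1 x hxD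
      rw [QuadraticMap.polar_add_left, QuadraticMap.polar_comm _ w x, hxw, add_zero] at this
      exact hBxx this
  -- the other parts lie in one line
  set S := Submodule.span F {e, x}
  set T := LinearMap.BilinForm.orthogonal (QuadraticMap.polarBilin Q) S
  have hrefl : (QuadraticMap.polarBilin Q).IsRefl := fun a b h => by
    rw [QuadraticMap.polarBilin_apply_apply, QuadraticMap.polar_comm]; exact h
  have hSS : LinearMap.BilinForm.orthogonal (QuadraticMap.polarBilin Q) T = S :=
    LinearMap.BilinForm.orthogonal_orthogonal hQ hrefl S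
  have hTmem : ∀ p ∈ T, B e p = 0 ∧ B x p = 0 := fun p hp =>
    ⟨hp e (Submodule.subset_span (by simp)), hp x (Submodule.subset_span (by simp))⟩
  have hTdim : finrank F (T ⊓ LinearMap.BilinForm.orthogonal (QuadraticMap.polarBilin Q) T :
      Submodule F (ι → F)) + 3 ≤ finrank F T := by
    have hinf : T ⊓ LinearMap.BilinForm.orthogonal (QuadraticMap.polarBilin Q) T = ⊥ := by
      rw [hSS]
      refine (Submodule.eq_bot_iff _).2 fun p hp => ?_
      obtain ⟨h1, h2'⟩ := hTmem p hp.1
      obtain ⟨a, b, rfl⟩ := Submodule.mem_span_pair.1 hp.2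
      simp only [QuadraticMap.polar_add_right, QuadraticMap.polar_smul_right, hBee, hex, hxe, smul_eq_mul, mul_zero,
        mul_one, zero_add] at h1 h2'
      rw [h1, zero_mul, add_zero] at h2'
      rw [h1, h2']
      simp
    rw [hinf, finrank_bot]
    have h1 := LinearMap.BilinForm.finrank_orthogonal hQ S
    have h3 : finrank F S ≤ 2 := by
      classical
      refine (finrank_span_le_card _).trans ?_
      rw [Set.toFinset_insert, Set.toFinset_singleton]
      exact Finset.card_le_two
    rw [Module.finrank_pi] at h1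
    change finrank F T = _ at h1
    omega
  set v := x - (2 * Q x) • e
  have hD1 : D i₁ ≤ Submodule.span F {v} := by
    intro y hy
    have hyS : y ∈ S := by
      rw [← hSS]
      intro p hp
      by_contra hpy
      obtain ⟨p', hp', hQp, hp'y⟩ := MaxTv.exists_sing_pairing (Q := Q) (T := T) hTdim (y := y) ⟨p, hp, hpy⟩
      obtain ⟨h1, h2'⟩ := hTmem p' hp'
      exact hp'y (hD.orthogonal 0 i₁ hne p' (hsing p' hQp h1 h2') y hy)
    obtain ⟨a, b, rfl⟩ := Submodule.mem_span_pair.1 hyS
    have h1 := hD.orthogonal 0 i₁ hne x hxD _ hy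
    rw [QuadraticMap.polar_add_right, QuadraticMap.polar_smul_right, QuadraticMap.polar_smul_right, hxe,
      OrthAut.polar_self2, smul_eq_mul, smul_eq_mul, mul_one] at h1
    refine Submodule.mem_span_singleton.2 ⟨b, ?_⟩
    rw [eq_neg_of_add_eq_zero_left h1]
    module
  have hk : k = 1 := by
    have h1 := Submodule.finrank_mono hD1
    rw [hD.decomp.finrank_eq] at h1
    have h2' := finrank_span_le_card (R := F) ({v} : Set (ι → F))
    simp at h2'
    have := hD.decomp.pos
    omega
  have hD0 : Submodule.span F {x} = D 0 := Submodule.eq_of_le_of_finrank_eq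
    (Submodule.span_le.2 (by simpa using hxD)) (by rw [finrank_span_singleton hx0, hD.decomp.finrank_eq, hk])
  obtain ⟨p, hp, hp0⟩ : ∃ p ∈ T, p ≠ 0 := Submodule.exists_mem_ne_zero_of_ne_bot fun h => by
    rw [h, finrank_bot] at hTdim; omega
  obtain ⟨z, hzT, hz⟩ : ∃ z ∈ T, B z p ≠ 0 := by
    by_contra hno
    push Not at hno
    have hmem : p ∈ T ⊓ LinearMap.BilinForm.orthogonal (QuadraticMap.polarBilin Q) T := ⟨hp, hno⟩
    rw [hSS] at hmem
    obtain ⟨h1, h2'⟩ := hTmem p hp
    obtain ⟨a, b, rfl⟩ := Submodule.mem_span_pair.1 hmem.2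
    simp only [QuadraticMap.polar_add_right, QuadraticMap.polar_smul_right, hBee, hex, hxe, smul_eq_mul, mul_zero,
      mul_one, zero_add] at h1 h2'
    rw [h1, zero_mul, add_zero] at h2'
    rw [h1, h2'] at hp0
    simp at hp0
  obtain ⟨w, hw, hQw, hwp⟩ := MaxTv.exists_sing_pairing (Q := Q) (T := T) hTdim (y := p) ⟨z, hzT, hz⟩
  obtain ⟨h1, h2'⟩ := hTmem w hw
  obtain ⟨r, rfl⟩ := Submodule.mem_span_singleton.1 (hD0.symm ▸ hsing w hQw h1 h2')
  rw [QuadraticMap.polar_smul_right, smul_eq_mul] at h2'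
  rw [(mul_eq_zero.1 h2').resolve_right hBxx, zero_smul] at hwp
  simp at hwp

omit h7 in
/-- A singular vector orthogonal to a singular vector, off its line, gives a functional separating them. -/
theorem exists_sep_polar {e w : ι → F} (hli : ∀ s t : F, s • e + t • w = 0 → s = 0 ∧ t = 0) :
    ∃ x, B e x = 0 ∧ B w x ≠ 0 := by
  by_contra hno
  push Not at hno
  obtain ⟨z, hz⟩ : ∃ z, B e z ≠ 0 := by
    by_contra h
    push Not at h
    exact one_ne_zero (hli 1 0 (by rw [hQ.1 e h]; simp)).1
  have h := hQ.1 (w - (B w z / B e z) • e) fun y => by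
    rw [QuadraticMap.polarBilin_apply_apply]
    have h1 := hno (y - (B e y / B e z) • z) (by
      rw [QuadraticMap.polar_sub_right, QuadraticMap.polar_smul_right, smul_eq_mul, div_mul_cancel₀ _ hz, sub_self])
    rw [QuadraticMap.polar_sub_right, QuadraticMap.polar_smul_right, smul_eq_mul] at h1
    rw [QuadraticMap.polar_sub_left, QuadraticMap.polar_smul_left, smul_eq_mul]
    rw [← h1]; ring
  exact one_ne_zero (hli (-(B w z / B e z)) 1 (by rw [neg_smul, one_smul, ← sub_eq_neg_add]; exact h)).2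

/-- `Ω` normalises no field extension. -/
theorem not_omega_le_field {r : ℕ} (hr : 2 ≤ r) {K : Subalgebra F (Matrix ι ι F)} (hK : IsFieldSubalgebra r K) :
    ¬ Geo.omegaGL ⇑Q ≤ subalgebraNormalizer K := by
  intro hle
  have hT := tri_of_card hQ h7
  obtain ⟨a, b, c, ⟨ha, hb, hab, -⟩, hc, hac, -, li⟩ := hT
  have hT := tri_of_card hQ h7
  have hbot : K ≤ ⊥ := fun k hk => by
    -- the line of `a` is mapped into the planes of Siegel elements
    have key : ∀ w, Q w = 0 → B a w = 0 → (∀ s t : F, s • a + t • w = 0 → s = 0 ∧ t = 0) →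
        ∃ s t : F, k *ᵥ a = s • a + t • w := by
      intro w hw haw hli
      obtain ⟨g, hg, hgx⟩ := exists_siegel hQ hT ha haw
      have hN : ∀ x, (g : Mn) *ᵥ x = x + (B a x • w - B w x • a) := fun x => by
        rw [hgx, hw, zero_mul, zero_smul, sub_zero, add_sub_assoc]
      have hcomm : (g : Mn) * k = k * g := by
        by_contra hne
        set d := (g : Mn) * k * ((g⁻¹ : GL ι F) : Mn) - k with hd
        have hdK : d ∈ K := K.sub_mem ((hle hg k).1 hk) hk
        have hd0 : d ≠ 0 := fun h0 => hne (by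
          have h1 := sub_eq_zero.1 (hd ▸ h0)
          conv_rhs => rw [← h1, mul_assoc, Units.inv_mul, mul_one])
        obtain ⟨y, -, hy⟩ := hK.inv d hdK hd0
        let L : (ι → F) →ₗ[F] (Fin 4 → F) :=
          { toFun := fun x => ![B a x, B w x, B a (k *ᵥ x), B w (k *ᵥ x)]
            map_add' := fun u u' => by
              ext i; fin_cases i <;> simp [Matrix.mulVec_add, QuadraticMap.polar_add_right]
            map_smul' := fun s u => by
              ext i; fin_cases i <;> simp [Matrix.mulVec_smul, QuadraticMap.polar_smul_right] }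
        obtain ⟨x, hx0, hxL⟩ : ∃ x, x ≠ 0 ∧ L x = 0 := by
          by_contra hno
          push Not at hno
          have hinj : Function.Injective L := (injective_iff_map_eq_zero L).2 fun x hx => by
            by_contra h0
            exact hno x h0 hx
          have := LinearMap.finrank_le_finrank_of_injective hinj
          rw [Module.finrank_pi, Module.finrank_fin_fun] at this
          omega
        have h1 : B a x = 0 := congrFun hxL 0
        have h2 : B w x = 0 := congrFun hxL 1
        have h3 : B a (k *ᵥ x) = 0 := congrFun hxL 2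
        have h4 : B w (k *ᵥ x) = 0 := congrFun hxL 3
        have hgx' : (g : Mn) *ᵥ x = x := by rw [hN, h1, h2]; simp
        have hginv : ((g⁻¹ : GL ι F) : Mn) *ᵥ x = x := by
          conv_lhs => rw [← hgx']
          rw [Matrix.mulVec_mulVec, Units.inv_mul, Matrix.one_mulVec]
        have hdx : d *ᵥ x = 0 := by
          rw [hd, Matrix.sub_mulVec, ← Matrix.mulVec_mulVec, hginv, ← Matrix.mulVec_mulVec, hN, h3, h4]
          simp
        apply hx0
        rw [← Matrix.one_mulVec x, ← mul_eq_one_comm.1 hy, ← Matrix.mulVec_mulVec, hdx, Matrix.mulVec_zero]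
      obtain ⟨x, hax, hwx⟩ := exists_sep_polar hQ hli
      have h1 := congrArg (fun A => A *ᵥ x) hcomm
      simp only [← Matrix.mulVec_mulVec, hN, Matrix.mulVec_add, hax, zero_smul, zero_sub, Matrix.mulVec_neg,
        Matrix.mulVec_smul, add_right_inj] at h1
      refine ⟨(B w x)⁻¹ * B w (k *ᵥ x), -((B w x)⁻¹ * B a (k *ᵥ x)), ?_⟩
      have h2 : B w x • k *ᵥ a = B w (k *ᵥ x) • a - B a (k *ᵥ x) • w := by
        rw [← neg_inj, ← h1, neg_sub]
      rw [← inv_smul_smul₀ hwx (k *ᵥ a), h2]
      module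
    obtain ⟨s, t, h1⟩ := key b hb hab fun s t h => by
      obtain ⟨e1, e2, -⟩ := li s t 0 (by rw [zero_smul, add_zero]; exact h); exact ⟨e1, e2⟩
    obtain ⟨s', t', h2⟩ := key c hc hac fun s t h => by
      obtain ⟨e1, -, e2⟩ := li s 0 t (by rw [zero_smul, add_zero]; exact h); exact ⟨e1, e2⟩
    have ht : t = 0 := (li (s - s') t (-t') (by
      rw [sub_smul, neg_smul]
      have := h1.symm.trans h2
      linear_combination (norm := module) this)).2.1
    rw [ht, zero_smul, add_zero] at h1
    have ha0 : a ≠ 0 := fun h => one_ne_zero (li 1 0 0 (by simp [h])).1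
    have hkμ : k - algebraMap F _ s = 0 := by
      by_contra hne
      obtain ⟨y, -, hy⟩ := hK.inv _ (K.sub_mem hk (K.algebraMap_mem s)) hne
      apply ha0
      rw [← Matrix.one_mulVec a, ← mul_eq_one_comm.1 hy, ← Matrix.mulVec_mulVec, Matrix.sub_mulVec, h1,
        Algebra.algebraMap_eq_smul_one, Matrix.smul_mulVec, Matrix.one_mulVec, sub_self, Matrix.mulVec_zero]
    rw [sub_eq_zero] at hkμ
    rw [hkμ]
    exact Subalgebra.algebraMap_mem _ s
  haveI : Nonempty ι := Fintype.card_pos_iff.1 (by omega)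
  have := hK.finrank_eq
  rw [eq_bot_iff.2 hbot, Subalgebra.finrank_bot] at this
  omega

/-- `Ω` lies in no subfield group. -/
theorem not_omega_le_subfield {F₀ : Subfield F} (hne : F₀ ≠ ⊤) (P : GL ι F) :
    ¬ Geo.omegaGL ⇑Q ≤ subfieldSubgroup F₀ P := by
  intro hle
  have hT := tri_of_card hQ h7
  obtain ⟨a, b, c, ⟨ha, hb, hab, hli⟩, -, -, -, -⟩ := hT
  have hT := tri_of_card hQ h7
  haveI : Nonempty ι := Fintype.card_pos_iff.1 (by omega)
  obtain ⟨p, hchar⟩ := CharP.exists F
  haveI := hchar
  haveI : Fact p.Prime := ⟨CharP.char_is_prime F p⟩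
  set Pi' := ((P⁻¹ : GL ι F) : Mn) with hPi
  let N : Mn := Matrix.vecMulVec b (polarVec ⇑Q a) - Matrix.vecMulVec a (polarVec ⇑Q b)
  have hNx : ∀ x, N *ᵥ x = B a x • b - B b x • a := fun x => by
    simp [N, Matrix.sub_mulVec, Matrix.vecMulVec_mulVec, polarVec_dotProduct, op_smul_eq_smul]
  set N' := Pi' * N * (P : Mn) with hN'
  have hNN : N * N = 0 := Matrix.toLin'.injective (LinearMap.ext fun x => by
    rw [Matrix.toLin'_apply, ← Matrix.mulVec_mulVec, hNx, hNx]
    simp [OrthAut.polar_self' ha, OrthAut.polar_self' hb, hab, QuadraticMap.polar_comm _ b a,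
      QuadraticMap.polar_sub_right, QuadraticMap.polar_smul_right])
  have hall : ∀ (l : F) (i j : ι), (1 + l • N' : Mn) i j ∈ F₀ := by
    intro l
    obtain ⟨g, hg, hgx⟩ := exists_siegel hQ hT ha (w := l • b)
      (by rw [QuadraticMap.polar_smul_right, hab, smul_zero])
    have hgN : (g : Mn) = 1 + l • N := Matrix.toLin'.injective (LinearMap.ext fun x => by
      rw [Matrix.toLin'_apply, Matrix.toLin'_apply, hgx, Matrix.add_mulVec, Matrix.one_mulVec, Matrix.smul_mulVec,
        hNx, QuadraticMap.map_smul, hb, smul_zero, zero_mul, zero_smul, sub_zero, QuadraticMap.polar_smul_left,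
        smul_eq_mul]
      module)
    obtain ⟨y, hy, hye⟩ := hle hg
    change P * y * P⁻¹ = g at hye
    have hyM : (y : Mn) = 1 + l • N' := by
      rw [show y = P⁻¹ * g * P by rw [← hye]; group, Units.val_mul, Units.val_mul, hgN, mul_add, add_mul, mul_one,
        Units.inv_mul, Matrix.mul_smul, Matrix.smul_mul, hN', hPi]
    have hNN' : N' * N' = 0 := by
      rw [hN', hPi, show ((P⁻¹ : GL ι F) : Mn) * N * (P : Mn) * (((P⁻¹ : GL ι F) : Mn) * N * (P : Mn)) =
        ((P⁻¹ : GL ι F) : Mn) * N * ((P : Mn) * ((P⁻¹ : GL ι F) : Mn)) * N * (P : Mn) by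
          simp only [mul_assoc], Units.mul_inv, mul_one, mul_assoc (((P⁻¹ : GL ι F) : Mn)), hNN]
      simp
    have hyp : (y : Mn) ^ p = 1 := by
      haveI : CharP Mn p := inferInstance
      have hp2 := (Fact.out : p.Prime).two_le
      rw [hyM, add_pow_char_of_commute p (Commute.one_left _), one_pow,
        show p = 2 + (p - 2) by omega, pow_add, sq, Matrix.smul_mul, Matrix.mul_smul, hNN', smul_zero, smul_zero,
        zero_mul, add_zero]
    rw [Subgroup.mul_normal] at hy
    obtain ⟨u, ⟨u, rfl⟩, z, hz, huz⟩ := hy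
    obtain ⟨d, hd⟩ := (mem_scalars_iff z).1 hz
    set M : Mn := (u : Matrix ι ι F₀).map F₀.subtype with hM
    have hyd : (y : Mn) = (d : F) • M := by
      rw [← huz, Units.val_mul, hd, Matrix.mul_smul, mul_one]
      rfl
    have hMp : M ^ p = ((u : Matrix ι ι F₀) ^ p).map F₀.subtype := by
      rw [hM]; exact ((RingHom.mapMatrix (m := ι) F₀.subtype).map_pow _ p).symm
    have hdp : (d : F) ^ p ∈ F₀ := by
      obtain ⟨i⟩ := (inferInstance : Nonempty ι)
      rw [hyd, smul_pow, hMp] at hyp
      have h := congrFun (congrFun hyp i) i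
      rw [Matrix.smul_apply, Matrix.map_apply, Matrix.one_apply_eq, smul_eq_mul] at h
      rw [eq_inv_of_mul_eq_one_left h]
      exact F₀.inv_mem (((u : Matrix ι ι F₀) ^ p) i i).2
    have hd0 : (d : F) ∈ F₀ := by
      have hinj : Function.Injective fun x : F₀ => x ^ p := fun x x' h =>
        Subtype.ext (frobenius_inj F p (by simpa [frobenius_def] using congrArg Subtype.val h))
      obtain ⟨x, hx⟩ := Finite.injective_iff_surjective.1 hinj ⟨_, hdp⟩
      have : (x : F) = d := frobenius_inj F p (by simpa [frobenius_def] using congrArg Subtype.val hx)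
      rw [← this]; exact x.2
    intro i j
    rw [← hyM, hyd, Matrix.smul_apply, smul_eq_mul]
    exact F₀.mul_mem hd0 (((u : Matrix ι ι F₀) i j)).2
  have hN'0 : N' = 0 := by
    ext i j
    by_contra h
    refine hne (eq_top_iff.2 fun x _ => ?_)
    have h1 := F₀.sub_mem (hall (x * (N' i j)⁻¹) i j) (hall 0 i j)
    simp only [Matrix.add_apply, Matrix.smul_apply, smul_eq_mul, zero_mul, add_zero, add_sub_cancel_left] at h1
    rwa [inv_mul_cancel_right₀ h] at h1
  have hN0 : N = 0 := by
    calc N = (P : Mn) * N' * Pi' := by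
          rw [hN', hPi]
          simp [← mul_assoc]
      _ = 0 := by rw [hN'0]; simp
  obtain ⟨x, hax, hbx⟩ := exists_sep_polar hQ hli
  have h := hNx x
  rw [hN0, Matrix.zero_mulVec, hax, zero_smul, zero_sub, eq_comm, neg_eq_zero, smul_eq_zero] at h
  rcases h with h | h
  · exact hbx h
  · exact one_ne_zero (hli 1 0 (by simp [h])).1

/-- `Ω` preserves no tensor square. -/
theorem not_omega_le_wreath_two (h2 : (2 : F) ≠ 0) {k : ℕ} (hk : 3 ≤ k) (e : ι ≃ (Fin 2 → Fin k)) (P : GL ι F) :
    ¬ Geo.omegaGL ⇑Q ≤ tensorWreathSubgroup k 2 e P := by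
  intro hle
  have hT := tri_of_card hQ h7
  obtain ⟨a, b, c, ⟨ha, hb, hab, hli⟩, -, -, -, -⟩ := hT
  have hT := tri_of_card hQ h7
  obtain ⟨g, hg, hgx⟩ := exists_siegel hQ hT ha hab
  have hN : ∀ x, (g : Mn) *ᵥ x = x + (B a x • b - B b x • a) := fun x => by
    rw [hgx, hb, zero_mul, zero_smul, sub_zero, add_sub_assoc]
  -- the square has the same shape
  have hN2 : ∀ x, ((g * g : GL ι F) : Mn) *ᵥ x = x + (2 : F) • (B a x • b - B b x • a) := fun x => by
    rw [Units.val_mul, ← Matrix.mulVec_mulVec, hN x, hN]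
    simp only [QuadraticMap.polar_add_right, QuadraticMap.polar_sub_right, QuadraticMap.polar_smul_right, hab,
      OrthAut.polar_self' ha, OrthAut.polar_self' hb, QuadraticMap.polar_comm _ b a, smul_zero, sub_zero, add_zero]
    module
  obtain ⟨y, hy, hgco⟩ := Asch.exists_mem_wreath (hle hg)
  obtain ⟨π, A, hA⟩ := Asch.mem_wreathStandard hy
  let T : ((Fin 2 → Fin k) → F) →ₗ[F] (ι → F) :=
    (Matrix.toLin' (P : Mn)).comp (LinearMap.funLeft F F e)
  have hTx : ∀ x, T x = (P : Mn) *ᵥ (x ∘ e) := fun x => rfl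
  set y2 := (y : Matrix (Fin 2 → Fin k) (Fin 2 → Fin k) F) * y with hy2
  have hgco2 : ((g * g : GL ι F) : Mn) = Asch.co e P y2 := by
    rw [Units.val_mul, hgco, hy2, Asch.co_mul]
  have hfix : ∀ x, B a (T x) = 0 → B b (T x) = 0 → y2 *ᵥ x = x := by
    intro x hx hx'
    have h1 := Asch.coords_mulVec e P y2 (T x)
    rw [← hgco2, hN2, hx, hx', zero_smul, zero_smul, sub_zero, smul_zero, add_zero] at h1
    have h2 : (((P⁻¹ : GL ι F) : Mn) *ᵥ T x) ∘ e.symm = x := by
      rw [hTx, Matrix.mulVec_mulVec, Units.inv_mul, Matrix.one_mulVec]; funext p; simp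
    rw [h2] at h1
    exact h1.symm
  have hpure1 : ∀ w : Fin 2 → Fin k → F, (y : Matrix (Fin 2 → Fin k) (Fin 2 → Fin k) F) *ᵥ pureVec w =
      pureVec fun i => A i *ᵥ w (π i) := by
    intro w
    ext x
    simp only [pureVec, Matrix.mulVec, dotProduct, hA]
    rw [← Equiv.sum_comp (π.arrowCongr (Equiv.refl (Fin k))) _]
    rw [Finset.sum_congr rfl fun z _ => show (∏ i, A i (x i) ((π.arrowCongr (Equiv.refl (Fin k))) z (π i))) *
        ∏ i, w i ((π.arrowCongr (Equiv.refl (Fin k))) z i) = ∏ i, A i (x i) (z i) * w (π i) (z i) by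
      rw [← Equiv.prod_comp π fun i => w i ((π.arrowCongr (Equiv.refl (Fin k))) z i), ← Finset.prod_mul_distrib]
      simp [Equiv.arrowCongr]]
    exact (Fintype.prod_sum fun i j => A i (x i) j * w (π i) j).symm
  have hππ : ∀ i, π (π i) = i :=
    (by decide : ∀ (σ : Equiv.Perm (Fin 2)) (i : Fin 2), σ (σ i) = i) π
  set C : Fin 2 → Matrix (Fin k) (Fin k) F := fun i => A i * A (π i) with hC
  have hpure : ∀ w : Fin 2 → Fin k → F, y2 *ᵥ pureVec w = pureVec fun i => C i *ᵥ w i := by
    intro w
    rw [hy2, ← Matrix.mulVec_mulVec, hpure1, hpure1]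
    simp only [hC, hππ, Matrix.mulVec_mulVec]
  -- every vector of each factor is an eigenvector
  have heig : ∀ i (z : Fin k → F), z ≠ 0 → ∃ s : F, C i *ᵥ z = s • z := by
    intro i z hz
    obtain ⟨l, hli⟩ := Fintype.exists_ne_of_one_lt_card (α := Fin 2) (by simp) i
    let L : (Fin k → F) →ₗ[F] F × F :=
      { toFun := fun y₀ => (B a (T (pureVec (Function.update (fun _ => z) l y₀))),
          B b (T (pureVec (Function.update (fun _ => z) l y₀))))
        map_add' := fun u u' => by
          rw [Prod.mk_add_mk, ← QuadraticMap.polar_add_right, ← QuadraticMap.polar_add_right, ← map_add]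
          congr 3 <;> (funext x; simp only [Asch.pureVec_update, Pi.add_apply, add_mul])
        map_smul' := fun s u => by
          rw [RingHom.id_apply, Prod.smul_mk, ← QuadraticMap.polar_smul_right, ← QuadraticMap.polar_smul_right,
            ← map_smul]
          congr 3 <;> (funext x; simp only [Asch.pureVec_update, Pi.smul_apply, smul_eq_mul, mul_assoc]) }
    obtain ⟨y₀, hy₀, hL⟩ : ∃ y₀, y₀ ≠ 0 ∧ L y₀ = 0 := by
      by_contra hno
      push Not at hno
      have hinj : Function.Injective L := (injective_iff_map_eq_zero L).2 fun x hx => by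
        by_contra h0
        exact hno x h0 hx
      have := LinearMap.finrank_le_finrank_of_injective hinj
      rw [Module.finrank_fin_fun, Module.finrank_prod, finrank_self] at this
      omega
    set w' := Function.update (fun _ : Fin 2 => z) l y₀ with hw'
    have h1 := hfix (pureVec w') (congrArg Prod.fst hL) (congrArg Prod.snd hL)
    rw [hpure] at h1
    have hwne : ∀ l', w' l' ≠ 0 := fun l' => by
      by_cases hl : l' = l
      · subst hl; simpa [hw'] using hy₀
      · rw [hw', Function.update_of_ne hl]; exact hz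
    choose p hp using fun l' => Function.ne_iff.1 (hwne l')
    have hne' : (C l *ᵥ w' l) (p l) ≠ 0 := fun h0 => by
      have h2 := congrFun h1 p
      rw [pureVec, pureVec, Finset.prod_eq_zero (f := fun l' => (C l' *ᵥ w' l') (p l')) (Finset.mem_univ l) h0] at h2
      exact Finset.prod_ne_zero_iff.2 (fun l' _ => hp l') h2.symm
    refine ⟨w' l (p l) / (C l *ᵥ w' l) (p l), funext fun j => ?_⟩
    have h2 := congrFun h1 (Function.update p i j)
    rw [Asch.pureVec_at, Asch.pureVec_at, show (Finset.univ : Finset (Fin 2)).erase i = {l} from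
      (by decide : ∀ (l i : Fin 2), l ≠ i → (Finset.univ : Finset (Fin 2)).erase i = {l}) l i hli, Finset.prod_singleton, Finset.prod_singleton] at h2
    have hwi : w' i = z := by rw [hw', Function.update_of_ne hli.symm]
    rw [hwi] at h2
    rw [Pi.smul_apply, smul_eq_mul]
    field_simp
    linear_combination h2
  choose α hα using fun i => Asch.scalar_of_eigen' (heig i)
  have hscal : y2 = (∏ i, α i) • (1 : Matrix (Fin 2 → Fin k) (Fin 2 → Fin k) F) := by
    refine Matrix.ext_of_mulVec_single fun x => ?_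
    have hsing : (Pi.single x 1 : (Fin 2 → Fin k) → F) = pureVec fun i => Pi.single (x i) 1 := by
      funext z
      by_cases hz : z = x
      · subst hz; simp [pureVec]
      · obtain ⟨i, hi⟩ := Function.ne_iff.1 hz
        rw [Pi.single_eq_of_ne hz, pureVec, Finset.prod_eq_zero (Finset.mem_univ i)]
        exact Pi.single_eq_of_ne hi _
    rw [Matrix.smul_mulVec, Matrix.one_mulVec, hsing, hpure]
    rw [show (fun i => C i *ᵥ (Pi.single (x i) 1 : Fin k → F)) = fun i => α i • Pi.single (x i) 1 from funext fun i => by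
      rw [hα i, Matrix.smul_mulVec, Matrix.one_mulVec]]
    funext z
    simp [pureVec, Finset.prod_mul_distrib, -Fin.prod_univ_two]
  have hgs : ((g * g : GL ι F) : Mn) = (∏ i, α i) • (1 : Mn) := by
    rw [hgco2, hscal, Asch.co_smul, Asch.co_one]
  have ha0 : a ≠ 0 := fun h => one_ne_zero (hli 1 0 (by simp [h])).1
  have h1 := hN2 a
  rw [hgs, Matrix.smul_mulVec, Matrix.one_mulVec, OrthAut.polar_self' ha, QuadraticMap.polar_comm _ b a, hab,
    zero_smul, zero_smul, sub_zero, smul_zero, add_zero] at h1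
  have hp1 : (∏ i, α i) = 1 := smul_left_injective F ha0 (by simpa using h1)
  obtain ⟨x, hax, hbx⟩ := exists_sep_polar hQ hli
  have h2' := hN2 x
  rw [hgs, hp1, one_smul, Matrix.one_mulVec, hax, zero_smul, zero_sub, left_eq_add, smul_neg, neg_eq_zero,
    smul_smul, smul_eq_zero] at h2'
  exact h2'.elim (mul_ne_zero h2 hbx) ha0

end Cfsg.Agent.Classical.AschOrthTwo
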