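import Cfsg.Agent.Lib.Classical.AschEvenTensor
import Cfsg.Agent.Lib.Classical.AschFormResidual
import Cfsg.Agent.Lib.Classical.AschOrthProper
import Cfsg.Agent.Lib.Classical.AschOrthPlane

/-!
In dimension ten an irreducible subgroup of `Ω` normalising a field of degree five also preserves a decomposition,
a pair of totally isotropic subspaces or a field of degree two: over the field it acts on a plane.
-/

set_option autoImplicit false
set_option linter.unusedSectionVars false
set_option linter.unusedFintypeInType false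
set_option linter.unusedDecidableInType false
set_option quotPrecheck false

namespace Cfsg.Agent.Classical.AschEven

open Matrix Module Cfsg.Geo
open Asch (Refl Fix Irr Inv irr_iff adj cj Com Norms centComAlg)

variable {F : Type*} [Field F] [Fintype F] {ι : Type} [Fintype ι] [DecidableEq ι] {Q : QuadraticForm F (ι → F)}

local notation "Mn" => Matrix ι ι F
local notation "B" => QuadraticMap.polar ⇑Q

/-- A normalised field of matrices has a normalised subfield of every prime degree dividing its degree. -/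
theorem exists_field_of_dvd [Nonempty ι] {K : Subalgebra F (Matrix ι ι F)}
    (hc : ∀ x ∈ K, ∀ y ∈ K, x * y = y * x) (hinv : ∀ x ∈ K, x ≠ 0 → ∃ y ∈ K, x * y = 1)
    (h2 : 2 ≤ finrank F K) {r : ℕ} (hrp : r.Prime) (hrd : r ∣ finrank F K) {H : Subgroup (GL ι F)}
    (hn : ∀ g ∈ H, ∀ k ∈ K, cj g k ∈ K) :
    ∃ K' : Subalgebra F (Matrix ι ι F), IsFieldSubalgebra r K' ∧ K' ≤ K ∧
      H ≤ subalgebraNormalizer K' ∧ ∀ x, x ∈ K' ↔ x ∈ K ∧ x ^ Fintype.card F ^ r = x := by
  classical
  obtain ⟨p, hp⟩ := CharP.exists F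
  haveI := hp
  obtain ⟨⟨f, hf0⟩, hpr, hq⟩ := FiniteField.card F p
  haveI : Fact p.Prime := ⟨hpr⟩
  have hq' : Fintype.card F = p ^ f := hq
  set q := Fintype.card F with hqdef
  have hq1 : 1 < q := Fintype.one_lt_card
  set d := finrank F K with hd
  haveI : CharP (Matrix ι ι F) p := Matrix.charP p
  let L : Subalgebra F (Matrix ι ι F) :=
    { carrier := {x | x ∈ K ∧ x ^ q ^ r = x}
      mul_mem' := fun {a b} ha hb => ⟨K.mul_mem ha.1 hb.1, by
        rw [(show Commute a b from hc a ha.1 b hb.1).mul_pow, ha.2, hb.2]⟩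
      one_mem' := ⟨K.one_mem, one_pow _⟩
      add_mem' := fun {a b} ha hb => ⟨K.add_mem ha.1 hb.1, by
        have hab : Commute a b := hc a ha.1 b hb.1
        have := add_pow_char_pow_of_commute p (f * r) hab
        rw [pow_mul, ← hq'] at this
        rw [this, ha.2, hb.2]⟩
      zero_mem' := ⟨K.zero_mem, zero_pow (by positivity)⟩
      algebraMap_mem' := fun c => ⟨K.algebraMap_mem c, by
        rw [← map_pow, FiniteField.pow_card_pow]⟩ }
  have hLK : L ≤ K := fun x hx => hx.1
  have hKinj : ∀ x ∈ K, x ≠ 0 → IsUnit x := fun x hx h0 => by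
    obtain ⟨y, hy, hxy⟩ := hinv x hx h0
    exact IsUnit.of_mul_eq_one y hxy
  haveI : Fintype K := Fintype.ofFinite K
  letI iC : CommRing K := { (inferInstance : Ring K) with mul_comm := fun a b => Subtype.ext (hc a a.2 b b.2) }
  haveI : IsDomain K := by
    haveI : Nontrivial K := ⟨⟨0, 1, fun h => zero_ne_one (congrArg Subtype.val h)⟩⟩
    haveI : NoZeroDivisors K := ⟨fun {a b} hab => by
      by_contra hcon
      push Not at hcon
      have hu := hKinj a.1 a.2 fun h => hcon.1 (Subtype.ext h)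
      exact hcon.2 (Subtype.ext (hu.mul_right_eq_zero.1 (congrArg Subtype.val hab)))⟩
    exact NoZeroDivisors.to_isDomain K
  letI : Field K := Fintype.fieldOfDomain K
  have hcK : Nat.card Kˣ = q ^ d - 1 := by
    rw [Nat.card_units, Module.natCard_eq_pow_finrank (K := F) (V := K), Nat.card_eq_fintype_card]
  have hqr : 0 < q ^ r := pow_pos (by omega) _
  have hdvd : q ^ r - 1 ∣ q ^ d - 1 := Nat.pow_sub_one_dvd_pow_sub_one q hrd
  obtain ⟨g, hg⟩ := IsCyclic.exists_ofOrder_eq_natCard (α := Kˣ)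
  obtain ⟨c, hcd⟩ := hdvd
  have hpos : 0 < q ^ r - 1 := by
    have := Nat.one_lt_pow hrp.ne_zero hq1
    omega
  have hdpos : 0 < q ^ d - 1 := by
    have := Nat.one_lt_pow (show d ≠ 0 by omega) hq1
    omega
  have hord : orderOf (g ^ c) = q ^ r - 1 := by
    rw [orderOf_pow_of_dvd (fun h => by rw [h, mul_zero] at hcd; omega) (by rw [hg, hcK, hcd]; exact dvd_mul_left _ _),
      hg, hcK, hcd, Nat.mul_div_cancel _ (Nat.pos_of_ne_zero fun h => by rw [h, mul_zero] at hcd; omega)]
  have hsol : ∀ x : K, x ^ q ^ r = x ↔ (x : Matrix ι ι F) ∈ L := fun x => by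
    constructor
    · intro h; exact ⟨x.2, by simpa using congrArg Subtype.val h⟩
    · intro h; exact Subtype.ext (by simpa using h.2)
  have hcard : Nat.card L = q ^ r := by
    apply le_antisymm
    · let P : Polynomial K := Polynomial.X ^ q ^ r - Polynomial.X
      have hP : P ≠ 0 := FiniteField.X_pow_card_sub_X_ne_zero K (Nat.one_lt_pow hrp.ne_zero hq1)
      have hroots : ∀ x : L, (⟨x.1, hLK x.2⟩ : K) ∈ P.roots.toFinset := fun x => by
        have := (hsol ⟨x.1, hLK x.2⟩).2 x.2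
        simp [P, Polynomial.mem_roots hP, this]
      calc Nat.card L ≤ P.roots.toFinset.card := by
            rw [← Nat.card_eq_finsetCard]
            exact Nat.card_le_card_of_injective (fun x : L => (⟨_, hroots x⟩ : P.roots.toFinset))
              fun a b hab => Subtype.ext (congrArg (fun t => (t.1 : Matrix ι ι F)) hab)
        _ ≤ P.natDegree := (Multiset.toFinset_card_le _).trans (Polynomial.card_roots' P)
        _ = q ^ r := FiniteField.X_pow_card_sub_X_natDegree_eq K (Nat.one_lt_pow hrp.ne_zero hq1)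
    · have hmem : ∀ u : Subgroup.zpowers (g ^ c), (((u : Kˣ) : K) : Matrix ι ι F) ∈ L := by
        rintro ⟨u, hu⟩
        refine (hsol _).1 ?_
        have h1 : u ^ (q ^ r - 1) = 1 := by
          rw [← hord]
          exact orderOf_dvd_iff_pow_eq_one.1 (orderOf_dvd_of_mem_zpowers hu)
        calc ((u : K)) ^ q ^ r = (u : K) ^ (q ^ r - 1) * (u : K) := by
              rw [← pow_succ, Nat.sub_add_cancel hqr]
          _ = u := by rw [← Units.val_pow_eq_pow_val, h1, Units.val_one, one_mul]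
      have hle := Nat.card_le_card_of_injective
        (fun o : Option (Subgroup.zpowers (g ^ c)) => o.elim (0 : L) fun u => ⟨_, hmem u⟩) (by
          rintro (_ | u) (_ | v) huv
          · rfl
          · exact absurd (Subtype.ext (congrArg Subtype.val huv :).symm : ((v : Kˣ) : K) = 0) (Units.ne_zero _)
          · exact absurd (Subtype.ext (congrArg (fun t : L => (t : Matrix ι ι F)) huv :) : ((u : Kˣ) : K) = 0) (Units.ne_zero _)
          · exact congrArg some (Subtype.ext (Units.ext (Subtype.ext (congrArg (fun t : L => (t : Matrix ι ι F)) huv :)))))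
      rw [Finite.card_option, Nat.card_zpowers, hord, Nat.sub_add_cancel hqr] at hle
      exact hle
  refine ⟨L, ⟨fun x hx y hy => hc x hx.1 y hy.1, fun x hx h0 => ?_, ?_⟩, hLK, ?_, fun x => Iff.rfl⟩
  · obtain ⟨y, hy, hxy⟩ := hinv x hx.1 h0
    refine ⟨y, ⟨hy, ?_⟩, hxy⟩
    have hyx : y * x = 1 := by rw [hc y hy x hx.1, hxy]
    have h1 : x * y ^ q ^ r = 1 := by
      conv_lhs => rw [← hx.2]
      rw [← (show Commute x y from hc x hx.1 y hy).mul_pow, hxy, one_pow]
    calc y ^ q ^ r = y * x * y ^ q ^ r := by rw [hyx, one_mul]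
      _ = y := by rw [mul_assoc, h1, mul_one]
  · have := Module.natCard_eq_pow_finrank (K := F) (V := L)
    rw [hcard, Nat.card_eq_fintype_card] at this
    exact (Nat.pow_right_injective hq1 this).symm
  · refine Asch.mem_subalgebraNormalizer fun g hg k hk => ⟨hn g hg k hk.1, ?_⟩
    have : ∀ m : ℕ, cj g k ^ m = cj g (k ^ m) := fun m => by
      induction m with
      | zero => simp [Asch.cj]
      | succ m ih => rw [pow_succ, pow_succ, ih, Asch.cj_mul]
    rw [this, hk.2]

section Five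

/-- A vector spans a line over the field, and with a vector outside it the whole space. -/
theorem five_line (h10 : Fintype.card ι = 10) {K : Subalgebra F Mn} (hK : IsFieldSubalgebra 5 K) :
    ∃ line : (ι → F) → Submodule F (ι → F), (∀ v w, w ∈ line v ↔ ∃ k ∈ K, w = k *ᵥ v) ∧
      (∀ v, v ≠ 0 → finrank F (line v) = 5) ∧
      (∀ v u : ι → F, v ≠ 0 → u ∉ line v → ∀ w : ι → F, ∃ a ∈ K, ∃ b ∈ K, w = a *ᵥ v + b *ᵥ u) := by
  classical
  let T : (ι → F) → (K →ₗ[F] (ι → F)) := fun v =>
    { toFun := fun k => (k : Mn) *ᵥ v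
      map_add' := fun a b => Matrix.add_mulVec _ _ _
      map_smul' := fun c a => Matrix.smul_mulVec c (a : Mn) v }
  have hmem : ∀ v w, w ∈ LinearMap.range (T v) ↔ ∃ k ∈ K, w = k *ᵥ v := fun v w =>
    ⟨fun ⟨k, hk⟩ => ⟨k, k.2, hk.symm⟩, fun ⟨k, hk, h⟩ => ⟨⟨k, hk⟩, h.symm⟩⟩
  have hinj : ∀ v, v ≠ 0 → Function.Injective (T v) := fun v hv => (injective_iff_map_eq_zero _).2 fun k hk => by
    by_contra hk0
    obtain ⟨y, hy, hxy⟩ := hK.inv _ k.2 fun h => hk0 (Subtype.ext h)
    apply hv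
    rw [← Matrix.one_mulVec v, ← hxy, hK.comm _ k.2 y hy, ← Matrix.mulVec_mulVec,
      show (k : Mn) *ᵥ v = 0 from hk, Matrix.mulVec_zero]
  have hdim : ∀ v, v ≠ 0 → finrank F (LinearMap.range (T v)) = 5 := fun v hv => by
    rw [LinearMap.finrank_range_of_inj (hinj v hv), hK.finrank_eq]
  refine ⟨fun v => LinearMap.range (T v), hmem, hdim, fun v u hv hu w => ?_⟩
  have hu0 : u ≠ 0 := fun h => hu (h ▸ zero_mem _)
  have hinf : LinearMap.range (T v) ⊓ LinearMap.range (T u) = ⊥ := (Submodule.eq_bot_iff _).2 fun x hx => by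
    by_contra hx0
    obtain ⟨a, ha, rfl⟩ := (hmem v x).1 hx.1
    obtain ⟨b, hb, hab⟩ := (hmem u _).1 hx.2
    obtain ⟨y, hy, hby⟩ := hK.inv b hb fun h => hx0 (by rw [hab, h, Matrix.zero_mulVec])
    refine hu ((hmem v u).2 ⟨y * a, K.mul_mem hy ha, ?_⟩)
    rw [← Matrix.mulVec_mulVec, hab, Matrix.mulVec_mulVec, hK.comm y hy b hb, hby, Matrix.one_mulVec]
  have htop : LinearMap.range (T v) ⊔ LinearMap.range (T u) = ⊤ := Submodule.eq_top_of_finrank_eq (by
    have := Submodule.finrank_sup_add_finrank_inf_eq (LinearMap.range (T v)) (LinearMap.range (T u))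
    rw [hinf, finrank_bot, hdim v hv, hdim u hu0] at this
    rw [Module.finrank_pi, h10]
    omega)
  obtain ⟨x, ⟨a, rfl⟩, y, ⟨b, rfl⟩, h⟩ := Submodule.mem_sup.1 (htop.symm ▸ Submodule.mem_top :
    w ∈ LinearMap.range (T v) ⊔ LinearMap.range (T u))
  exact ⟨a, a.2, b, b.2, h.symm⟩

/-- A map over the field for which each vector is an eigenvector lies in the field. -/
theorem five_eigen (h10 : Fintype.card ι = 10) {K : Subalgebra F Mn} (hK : IsFieldSubalgebra 5 K) {D : Mn} (hD : ∀ k ∈ K, D * k = k * D) (h : ∀ v, ∃ k ∈ K, D *ᵥ v = k *ᵥ v) : D ∈ K := by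
  classical
  obtain ⟨line, hmem, hdim, hspan⟩ := five_line h10 hK
  obtain ⟨i⟩ : Nonempty ι := Fintype.card_pos_iff.1 (by omega)
  set v : ι → F := Pi.single i 1
  have hv : v ≠ 0 := fun h => one_ne_zero (α := F) (by simpa [v] using congrFun h i)
  obtain ⟨u, hu⟩ : ∃ u, u ∉ line v := by
    by_contra hno
    push Not at hno
    have h1 := hdim v hv
    have htop : line v = ⊤ := eq_top_iff.2 fun x _ => hno x
    rw [htop, finrank_top, Module.finrank_pi, h10] at h1
    omega
  have huniq : ∀ a ∈ K, ∀ b ∈ K, a *ᵥ v + b *ᵥ u = 0 → b = 0 ∧ a *ᵥ v = 0 := fun a ha b hb h0 => by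
    have hb0 : b = 0 := by
      by_contra hb0
      obtain ⟨y, hy, hby⟩ := hK.inv b hb hb0
      refine hu ((hmem v u).2 ⟨y * (-a), K.mul_mem hy (K.neg_mem ha), ?_⟩)
      rw [← Matrix.mulVec_mulVec, Matrix.neg_mulVec, ← eq_neg_of_add_eq_zero_right h0, Matrix.mulVec_mulVec,
        hK.comm y hy b hb, hby, Matrix.one_mulVec]
    exact ⟨hb0, by rwa [hb0, Matrix.zero_mulVec, add_zero] at h0⟩
  obtain ⟨a, ha, hav⟩ := h v
  obtain ⟨b, hb, hbu⟩ := h u
  obtain ⟨c, hc, hcvu⟩ := h (v + u)
  rw [Matrix.mulVec_add, hav, hbu, Matrix.mulVec_add] at hcvu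
  obtain ⟨h1, h2⟩ := huniq (a - c) (K.sub_mem ha hc) (b - c) (K.sub_mem hb hc) (by
    rw [Matrix.sub_mulVec, Matrix.sub_mulVec, sub_add_sub_comm, hcvu, sub_self])
  have hbc := sub_eq_zero.1 h1
  rw [Matrix.sub_mulVec, sub_eq_zero] at h2
  convert hc using 1
  refine Matrix.toLin'.injective (LinearMap.ext fun w => ?_)
  rw [Matrix.toLin'_apply, Matrix.toLin'_apply]
  obtain ⟨p, hp, q, hq, rfl⟩ := hspan v u hv hu w
  rw [Matrix.mulVec_add, Matrix.mulVec_add, Matrix.mulVec_mulVec, Matrix.mulVec_mulVec, hD p hp, hD q hq,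
    ← Matrix.mulVec_mulVec, ← Matrix.mulVec_mulVec, hav, h2, hbu, hbc, Matrix.mulVec_mulVec, Matrix.mulVec_mulVec,
    Matrix.mulVec_mulVec, Matrix.mulVec_mulVec, hK.comm p hp c hc, hK.comm q hq c hc]

set_option maxHeartbeats 800000 in
/-- Isometries over the field with trivial Dickson invariant satisfy a palindromic quadratic equation. -/
theorem five_tau (hQ : (QuadraticMap.polarBilin Q).Nondegenerate) (h10 : Fintype.card ι = 10) {K : Subalgebra F Mn} (hK : IsFieldSubalgebra 5 K) (hsa : ∀ k ∈ K, adj (RingEquiv.refl F) (gQ Q) k = k) {x : GL ι F} (hxΩ : x ∈ Geo.omegaGL ⇑Q) (hxK : ∀ k ∈ K, (x : Mn) * k = k * (x : Mn)) :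
    (x : Mn) ∈ K ∨ ∃ τ ∈ K, adj (RingEquiv.refl F) (gQ Q) (x : Mn) = τ - (x : Mn) ∧
      (x : Mn) * (τ - (x : Mn)) = 1 ∧ ((2 : F) = 0 → τ ≠ 0) := by
  classical
  have hG := refl_gQ hQ
  have h7 : 7 ≤ Fintype.card ι := by omega
  obtain ⟨line, hmem, hdim, hspan⟩ := five_line h10 hK
  by_cases hxK' : (x : Mn) ∈ K
  · exact Or.inl hxK'
  right
  obtain ⟨g, hg, hgx⟩ := Subgroup.mem_map.1 hxΩ
  have hiso : ∀ v, Q ((x : Mn) *ᵥ v) = Q v := fun v => by rw [← hgx]; exact mem_isometryGroup.1 g.2 v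
  have hadjx : adj (RingEquiv.refl F) (gQ Q) (x : Mn) = ((x⁻¹ : GL ι F) : Mn) := by
    refine hG.adj_iso (Asch.gram_inj (RingEquiv.refl F) fun u v => ?_)
    rw [← Asch.formOfGram_mulVec, form_eq]
    exact polar_iso hiso u v
  -- a cyclic vector over the field
  obtain ⟨v, hv, hxv⟩ : ∃ v, v ≠ 0 ∧ (x : Mn) *ᵥ v ∉ line v := by
    by_contra hno
    push Not at hno
    refine hxK' (five_eigen h10 hK hxK fun v => ?_)
    by_cases hv : v = 0
    · exact ⟨0, K.zero_mem, by simp [hv]⟩
    · exact (hmem v _).1 (hno v hv)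
  obtain ⟨α, hα, β, hβ, hab⟩ := hspan v _ hv hxv ((x : Mn) *ᵥ ((x : Mn) *ᵥ v))
  have hsq : (x : Mn) * (x : Mn) = α + β * (x : Mn) := by
    set M := (x : Mn) * (x : Mn) - (α + β * (x : Mn)) with hMdef
    have hMK : ∀ k ∈ K, M * k = k * M := fun k hk => by
      have e1 : (x : Mn) * (x : Mn) * k = k * ((x : Mn) * (x : Mn)) := by
        rw [mul_assoc, hxK k hk, ← mul_assoc, hxK k hk, mul_assoc]
      have e2 : (α + β * (x : Mn)) * k = k * (α + β * (x : Mn)) := by
        rw [add_mul, mul_add, mul_assoc, hxK k hk, ← mul_assoc, hK.comm β hβ k hk, mul_assoc, hK.comm α hα k hk]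
      rw [hMdef, sub_mul, mul_sub, e1, e2]
    have hMx : M * (x : Mn) = (x : Mn) * M := by
      rw [hMdef, sub_mul, mul_sub, mul_assoc, add_mul, mul_add, ← mul_assoc (x : Mn) β, hxK α hα, hxK β hβ]
    have hMv : M *ᵥ v = 0 := by
      rw [hMdef, Matrix.sub_mulVec, ← Matrix.mulVec_mulVec, hab, Matrix.add_mulVec, ← Matrix.mulVec_mulVec, sub_self]
    refine sub_eq_zero.1 (Matrix.toLin'.injective (LinearMap.ext fun w => ?_))
    obtain ⟨p, hp, q, hq, rfl⟩ := hspan v _ hv hxv w
    show Matrix.toLin' M _ = _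
    rw [Matrix.toLin'_apply, map_zero, LinearMap.zero_apply, Matrix.mulVec_add, Matrix.mulVec_mulVec,
      Matrix.mulVec_mulVec, Matrix.mulVec_mulVec, hMK p hp, hMK q hq, mul_assoc q M, hMx, ← Matrix.mulVec_mulVec,
      ← Matrix.mulVec_mulVec, ← Matrix.mulVec_mulVec, hMv]
    simp
  set xi := ((x⁻¹ : GL ι F) : Mn)
  have hxxi : (x : Mn) * xi = 1 := Units.mul_inv x
  have hxix : xi * (x : Mn) = 1 := Units.inv_mul x
  have hxiK : ∀ k ∈ K, xi * k = k * xi := fun k hk => by
    calc xi * k = xi * k * ((x : Mn) * xi) := by rw [hxxi, mul_one]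
      _ = xi * ((k * (x : Mn)) * xi) := by simp only [mul_assoc]
      _ = xi * (((x : Mn) * k) * xi) := by rw [hxK k hk]
      _ = (xi * (x : Mn)) * (k * xi) := by simp only [mul_assoc]
      _ = k * xi := by rw [hxix, one_mul]
  have hsq' : xi * xi = α + β * xi := by
    have h := congrArg (adj (RingEquiv.refl F) (gQ Q)) hsq
    rw [hG.adj_mul, hG.adj_add, hG.adj_mul, hsa α hα, hsa β hβ, hadjx] at h
    rw [h, hxiK β hβ]
  -- independence of one and x over the field
  have hind : ∀ a ∈ K, ∀ b ∈ K, a + b * (x : Mn) = 0 → b = 0 ∧ a = 0 := fun a ha b hb h => by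
    have hb0 : b = 0 := by
      by_contra hb0
      obtain ⟨y, hy, hby⟩ := hK.inv b hb hb0
      refine hxK' ?_
      rw [show (x : Mn) = y * (-a) by
        rw [← eq_neg_of_add_eq_zero_right h, ← mul_assoc, hK.comm y hy b hb, hby, one_mul]]
      exact K.mul_mem hy (K.neg_mem ha)
    exact ⟨hb0, by rwa [hb0, zero_mul, add_zero] at h⟩
  have hone : (1 : Mn) = α * ((x : Mn) * (x : Mn)) + β * (x : Mn) := by
    calc (1 : Mn) = xi * ((xi * (x : Mn)) * (x : Mn)) := by rw [hxix, one_mul, hxix]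
      _ = (xi * xi) * ((x : Mn) * (x : Mn)) := by simp only [mul_assoc]
      _ = _ := by rw [hsq', add_mul, mul_assoc β, ← mul_assoc xi, hxix, one_mul]
  obtain ⟨h1, h2⟩ := hind (α * α - 1) (K.sub_mem (K.mul_mem hα hα) K.one_mem) (α * β + β)
    (K.add_mem (K.mul_mem hα hβ) hβ) (by
      calc α * α - 1 + (α * β + β) * (x : Mn) = α * (α + β * (x : Mn)) + β * (x : Mn) - 1 := by noncomm_ring
        _ = 0 := by rw [← hsq, ← hone, sub_self])
  by_cases hα1 : α = -1
  · refine ⟨β, hβ, ?_, ?_, ?_⟩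
    · rw [hadjx]
      refine (left_inv_eq_right_inv hxix (?_ : (x : Mn) * (β - (x : Mn)) = 1))
      rw [mul_sub, hsq, hxK β hβ, hα1]
      abel
    · rw [mul_sub, hsq, hxK β hβ, hα1]
      abel
    intro h2F hβ0
    -- unipotent elements of rank five
    have hone' : (x : Mn) * (x : Mn) = 1 := by
      rw [hsq, hβ0, zero_mul, add_zero, hα1, ← neg_one_smul F (1 : Mn),
        show (-1 : F) = 1 by linear_combination -h2F, one_smul]
    exact absurd hone' (five_no_invol hQ h10 hK hxK hxK' hxΩ)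
  · exfalso
    have hab' : (α + 1) * β = 0 := by rw [add_mul, one_mul]; exact h1
    obtain ⟨y, hy, hay⟩ := hK.inv (α + 1) (K.add_mem hα K.one_mem) fun h => hα1 (eq_neg_of_add_eq_zero_left h)
    have hβ0 : β = 0 := by
      rw [← one_mul β, ← hay, hK.comm _ (K.add_mem hα K.one_mem) y hy, mul_assoc, hab', mul_zero]
    have hα' : α = 1 := by
      by_contra hne
      obtain ⟨z, hz, haz⟩ := hK.inv (α - 1) (K.sub_mem hα K.one_mem) fun h => hne (sub_eq_zero.1 h)
      refine hα1 (eq_neg_of_add_eq_zero_left ?_)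
      calc α + 1 = (z * (α - 1)) * (α + 1) := by rw [hK.comm z hz _ (K.sub_mem hα K.one_mem), haz, one_mul]
        _ = z * (α * α - 1) := by noncomm_ring
        _ = 0 := by rw [h2, mul_zero]
    exact five_no_invol hQ h10 hK hxK hxK' hxΩ (by rw [hsq, hβ0, zero_mul, add_zero, hα'])
where
  /-- No involution over the field outside it lies in `Ω`. -/
  five_no_invol (hQ : (QuadraticMap.polarBilin Q).Nondegenerate) (h10 : Fintype.card ι = 10)
      (hK : IsFieldSubalgebra 5 K) {x : GL ι F} (hxK : ∀ k ∈ K, (x : Mn) * k = k * (x : Mn))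
      (hxK' : (x : Mn) ∉ K) (hxΩ : x ∈ Geo.omegaGL ⇑Q) : (x : Mn) * x ≠ 1 := by
    intro hone
    have h7 : 7 ≤ Fintype.card ι := by omega
    have hT := AschOrthTwo.tri_of_card hQ h7
    obtain ⟨line, hmem, hdim, hspan⟩ := five_line h10 hK
    obtain ⟨g, hg, hgx⟩ := Subgroup.mem_map.1 hxΩ
    have hd : OrthAut.dick g = 1 := (Abelianization.commutator_subset_ker (OrthAut.dickHom hQ hT)) hg
    set S := OrthAut.fixSub g
    have hSmem : ∀ w, w ∈ S ↔ (x : Mn) *ᵥ w = w := fun w => by
      rw [OrthAut.mem_fixSub, ← hgx]; rfl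
    have hSK : ∀ k ∈ K, ∀ w ∈ S, k *ᵥ w ∈ S := fun k hk w hw => by
      rw [hSmem] at hw ⊢
      rw [Matrix.mulVec_mulVec, hxK k hk, ← Matrix.mulVec_mulVec, hw]
    have hS0 : S ≠ ⊥ := fun h => hxK' (by
      have h1 : (x : Mn) = (-1 : F) • (1 : Mn) := by
        refine Matrix.toLin'.injective (LinearMap.ext fun w => ?_)
        rw [Matrix.toLin'_apply, Matrix.toLin'_apply, Matrix.smul_mulVec, Matrix.one_mulVec, neg_one_smul]
        have h2 : (x : Mn) *ᵥ w + w ∈ S := by
          rw [hSmem, Matrix.mulVec_add, Matrix.mulVec_mulVec, hone, Matrix.one_mulVec, add_comm]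
        rw [h, Submodule.mem_bot] at h2
        exact eq_neg_of_add_eq_zero_left h2
      rw [h1]
      exact K.smul_mem K.one_mem _)
    have hS1 : S ≠ ⊤ := fun h => hxK' (by
      have h1 : (x : Mn) = 1 := Matrix.toLin'.injective (LinearMap.ext fun w => by
        rw [Matrix.toLin'_apply, (hSmem w).1 (h ▸ Submodule.mem_top), Matrix.toLin'_one, LinearMap.id_apply])
      rw [h1]; exact K.one_mem)
    obtain ⟨v, hvS, hv⟩ := Submodule.exists_mem_ne_zero_of_ne_bot hS0
    have hSv : S = line v := le_antisymm (fun w hw => by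
      by_contra hne
      refine hS1 (eq_top_iff.2 fun z _ => ?_)
      obtain ⟨a, ha, b, hb, rfl⟩ := hspan v w hv hne z
      exact S.add_mem (hSK a ha v hvS) (hSK b hb w hw))
      (fun w hw => by obtain ⟨k, hk, rfl⟩ := (hmem v w).1 hw; exact hSK k hk v hvS)
    rw [OrthAut.dick, show OrthAut.fixSub g = S from rfl, hSv, hdim v hv, h10] at hd
    exact absurd hd (by decide)

set_option maxHeartbeats 800000 in
/-- The isometries over the field with trivial Dickson invariant commute. -/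
theorem five_comm (hQ : (QuadraticMap.polarBilin Q).Nondegenerate) (h10 : Fintype.card ι = 10) {K : Subalgebra F Mn} (hK : IsFieldSubalgebra 5 K) (hsa : ∀ k ∈ K, adj (RingEquiv.refl F) (gQ Q) k = k) {x y : GL ι F} (hxΩ : x ∈ Geo.omegaGL ⇑Q) (hxK : ∀ k ∈ K, (x : Mn) * k = k * (x : Mn))
    (hyΩ : y ∈ Geo.omegaGL ⇑Q) (hyK : ∀ k ∈ K, (y : Mn) * k = k * (y : Mn)) :
    (x : Mn) * y = (y : Mn) * x := by
  classical
  have hG := refl_gQ hQ
  rcases five_tau hQ h10 hK hsa hxΩ hxK with hx | ⟨τ, hτ, hax, hxτ, hx2⟩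
  · exact (hyK _ hx).symm
  rcases five_tau hQ h10 hK hsa hyΩ hyK with hy | ⟨τ', hτ', hay, hyτ, hy2⟩
  · exact hxK _ hy
  obtain ⟨line, hmem, hdim, hspan⟩ := five_line h10 hK
  have hB : ∀ k u v, B (k *ᵥ u) v = B u (adj (RingEquiv.refl F) (gQ Q) k *ᵥ v) := fun k u v => by
    rw [← form_eq]; exact hG.form_left k u v
  have hKsa : ∀ k ∈ K, ∀ u v, B (k *ᵥ u) v = B u (k *ᵥ v) := fun k hk u v => by rw [hB, hsa k hk]
  have hperp : ∀ v, v ≠ 0 → finrank F (hG.perp (line v)) = 5 := fun v hv => by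
    have h1 := hG.finrank_perp (line v)
    rw [hdim v hv, h10] at h1
    omega
  have hpmem : ∀ v w, (∀ k ∈ K, B w (k *ᵥ v) = 0) → w ∈ hG.perp (line v) := fun v w h u hu => by
    obtain ⟨k, hk, rfl⟩ := (hmem v u).1 hu
    rw [form_eq]; exact h k hk
  have hpmem' : ∀ v w, w ∈ hG.perp (line v) → ∀ k ∈ K, B w (k *ᵥ v) = 0 := fun v w hw k hk => by
    have h1 := hw _ ((hmem v _).2 ⟨k, hk, rfl⟩)
    rwa [form_eq] at h1
  by_cases h2 : (2 : F) = 0
  · -- characteristic two
    haveI : CharP F 2 := CharTwo.of_one_ne_zero_of_two_eq_zero one_ne_zero h2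
    have hneg : ∀ M : Mn, -M = M := fun M => by
      rw [← neg_one_smul F M, show (-1 : F) = 1 by linear_combination -h2, one_smul]
    have hroot : ∀ k ∈ K, ∃ c ∈ K, c * c = k := by
      intro k hk
      haveI : Finite K := Module.finite_of_finite F
      haveI : Fintype K := Fintype.ofFinite K
      have hinj : Function.Injective fun c : K => c * c := fun a b hab => by
        have h1 : ((a : Mn) - b) * ((a : Mn) - b) = 0 := by
          have h3 : (a : Mn) * a = b * b := congrArg Subtype.val hab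
          have h4 : (b : Mn) * a = a * b := hK.comm _ b.2 _ a.2
          rw [show ((a : Mn) - b) * ((a : Mn) - b) = (a : Mn) * a - (a : Mn) * b - (b : Mn) * a + (b : Mn) * b by
            noncomm_ring, h3, h4, show (b : Mn) * b - a * b - a * b + b * b = (2 : F) • ((b : Mn) * b - a * b) by
              module, h2, zero_smul]
        by_contra hne
        obtain ⟨z, hz, hzz⟩ := hK.inv _ (K.sub_mem a.2 b.2) fun h => hne (Subtype.ext (sub_eq_zero.1 h))
        apply hne
        refine Subtype.ext (sub_eq_zero.1 ?_)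
        calc ((a : Mn) - b) = ((a : Mn) - b) * (((a : Mn) - b) * z) := by rw [hzz, mul_one]
          _ = 0 := by rw [← mul_assoc, h1, zero_mul]
      obtain ⟨c, hc⟩ := (Finite.injective_iff_surjective.1 hinj) ⟨k, hk⟩
      exact ⟨c, c.2, congrArg Subtype.val hc⟩
    -- the scaled element defines the quadratic form
    have key : ∀ (z : GL ι F) (σ : Mn), σ ∈ K → σ ≠ 0 → z ∈ Geo.omegaGL ⇑Q → (∀ k ∈ K, (z : Mn) * k = k * (z : Mn)) →
        adj (RingEquiv.refl F) (gQ Q) (z : Mn) = σ - (z : Mn) → (z : Mn) * (σ - (z : Mn)) = 1 →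
        ∃ z' : Mn, (∀ k ∈ K, z' * k = k * z') ∧ adj (RingEquiv.refl F) (gQ Q) z' = z' + 1 ∧
          (z : Mn) = σ * z' ∧ ∀ v, B (z' *ᵥ v) v = Q v := by
      intro z σ hσ hσ0 hzΩ hzK haz hzσ
      obtain ⟨g, -, hgz⟩ := Subgroup.mem_map.1 hzΩ
      have hiso : ∀ v, Q ((z : Mn) *ᵥ v) = Q v := fun v => by rw [← hgz]; exact mem_isometryGroup.1 g.2 v
      obtain ⟨s, hs, hσs⟩ := hK.inv σ hσ hσ0
      have hsσ : s * σ = 1 := by rw [hK.comm s hs σ hσ, hσs]
      set z' := s * (z : Mn)
      have hz'K : ∀ k ∈ K, z' * k = k * z' := fun k hk => by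
        rw [mul_assoc, hzK k hk, ← mul_assoc, hK.comm s hs k hk, mul_assoc]
      have hadj' : adj (RingEquiv.refl F) (gQ Q) z' = z' + 1 := by
        rw [hG.adj_mul, haz, hsa s hs, sub_mul, hK.comm σ hσ s hs, hsσ, hzK s hs, sub_eq_add_neg, hneg, add_comm]
      refine ⟨z', hz'K, hadj', by rw [← mul_assoc, hσs, one_mul], ?_⟩
      have hzz' : (z : Mn) * z' = z' * (z : Mn) := by rw [← mul_assoc, hzK s hs]
      set φ : (ι → F) → F := fun v => B (z' *ᵥ v) v + Q v with hφ
      have hadd : ∀ u v, φ (u + v) = φ u + φ v := fun u v => by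
        have h1 : B (z' *ᵥ v) u = B (z' *ᵥ u) v + B u v := by
          rw [hB, hadj', Matrix.add_mulVec, Matrix.one_mulVec, QuadraticMap.polar_add_right,
            QuadraticMap.polar_comm _ v (z' *ᵥ u), QuadraticMap.polar_comm _ v u]
        simp only [hφ, Matrix.mulVec_add, QuadraticMap.polar_add_left, QuadraticMap.polar_add_right,
          QuadraticMap.map_add ⇑Q]
        linear_combination h1 + (B (z' *ᵥ u) v + B u v) * h2
      have hinv : ∀ v, φ ((z : Mn) *ᵥ v) = φ v := fun v => by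
        simp only [hφ, hiso, Matrix.mulVec_mulVec, ← hzz']
        rw [← Matrix.mulVec_mulVec, polar_iso hiso]
      have hzero : ∀ v, φ v = 0 := by
        intro v
        have hsurj : Function.Surjective (Matrix.toLin' ((z : Mn) + 1)) := by
          refine LinearMap.injective_iff_surjective.1 ((injective_iff_map_eq_zero _).2 fun w hw => ?_)
          rw [Matrix.toLin'_apply] at hw
          have e : ((z : Mn) + 1) * ((z : Mn) + 1) = σ * (z : Mn) := by
            rw [add_mul, mul_add, mul_one, one_mul,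
              show (z : Mn) * z = (z : Mn) * σ - 1 by rw [← hzσ, mul_sub]; abel, hzK σ hσ]
            rw [show σ * (z : Mn) - 1 + (z : Mn) + ((z : Mn) + 1) = σ * (z : Mn) + (2 : F) • (z : Mn) by module, h2,
              zero_smul, add_zero]
          have h5 : (σ * (z : Mn)) *ᵥ w = 0 := by rw [← e, ← Matrix.mulVec_mulVec, hw, Matrix.mulVec_zero]
          rw [← Matrix.mulVec_mulVec] at h5
          refine MaxTv.gl_mulVec_injective z ?_
          show (z : Mn) *ᵥ w = (z : Mn) *ᵥ 0
          rw [Matrix.mulVec_zero, ← Matrix.one_mulVec ((z : Mn) *ᵥ w), ← hsσ, ← Matrix.mulVec_mulVec, h5,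
            Matrix.mulVec_zero]
        obtain ⟨w, rfl⟩ := hsurj v
        rw [Matrix.toLin'_apply, Matrix.add_mulVec, Matrix.one_mulVec, hadd, hinv]
        linear_combination φ w * h2
      intro v
      have h5 := hzero v
      simp only [hφ] at h5
      linear_combination h5 - Q v * h2
    obtain ⟨x', hx'K, hax', hxeq, hxQ⟩ := key x τ hτ (hx2 h2) hxΩ hxK hax hxτ
    obtain ⟨y', hy'K, hay', hyeq, hyQ⟩ := key y τ' hτ' (hy2 h2) hyΩ hyK hay hyτ
    have hDK : ∀ k ∈ K, (x' + y') * k = k * (x' + y') := fun k hk => by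
      rw [add_mul, mul_add, hx'K k hk, hy'K k hk]
    have hDmem : x' + y' ∈ K := by
      refine five_eigen h10 hK hDK fun v => ?_
      by_cases hv : v = 0
      · exact ⟨0, K.zero_mem, by simp [hv]⟩
      refine (hmem v _).1 ?_
      have hiso : line v ≤ hG.perp (line v) := fun w hw => hpmem v w fun k hk => by
        obtain ⟨a, ha, rfl⟩ := (hmem v w).1 hw
        rw [hKsa a ha, Matrix.mulVec_mulVec]
        obtain ⟨c, hc, hcc⟩ := hroot (a * k) (K.mul_mem ha hk)
        rw [← hcc, ← Matrix.mulVec_mulVec, ← hKsa c hc, polar_two, h2, zero_mul]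
      rw [Submodule.eq_of_le_of_finrank_eq hiso (by rw [hdim v hv, hperp v hv])]
      refine hpmem v _ fun k hk => ?_
      obtain ⟨c, hc, rfl⟩ := hroot k hk
      rw [← Matrix.mulVec_mulVec, ← hKsa c hc, Matrix.mulVec_mulVec, ← hDK c hc, ← Matrix.mulVec_mulVec,
        Matrix.add_mulVec, QuadraticMap.polar_add_left, hxQ, hyQ]
      linear_combination Q (c *ᵥ v) * h2
    have hy' : y' = (x' + y') + x' := by
      rw [add_comm x' y', add_assoc]
      conv_rhs => arg 2; arg 1; rw [← hneg x']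
      rw [neg_add_cancel, add_zero]
    have hcomm : x' * y' = y' * x' := by rw [hy', mul_add, add_mul, hx'K _ hDmem]
    rw [hxeq, hyeq]
    calc τ * x' * (τ' * y') = τ * (x' * τ') * y' := by simp only [mul_assoc]
      _ = (τ * τ') * (x' * y') := by rw [hx'K τ' hτ']; simp only [mul_assoc]
      _ = (τ' * τ) * (y' * x') := by rw [hK.comm τ hτ τ' hτ', hcomm]
      _ = τ' * (y' * τ) * x' := by rw [hy'K τ hτ]; simp only [mul_assoc]
      _ = _ := by simp only [mul_assoc]
  · -- odd characteristic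
    obtain ⟨s, hs⟩ : ∃ s, s = (x : Mn) + (x : Mn) - τ := ⟨_, rfl⟩
    obtain ⟨t, ht⟩ : ∃ t, t = (y : Mn) + (y : Mn) - τ' := ⟨_, rfl⟩
    have hsK : ∀ k ∈ K, s * k = k * s := fun k hk => by
      rw [hs, sub_mul, mul_sub, add_mul, mul_add, hxK k hk, hK.comm τ hτ k hk]
    have htK : ∀ k ∈ K, t * k = k * t := fun k hk => by
      rw [ht, sub_mul, mul_sub, add_mul, mul_add, hyK k hk, hK.comm τ' hτ' k hk]
    have hskew : adj (RingEquiv.refl F) (gQ Q) s = -s := by
      have h1 : s + τ = (x : Mn) + x := by rw [hs]; abel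
      have h3 := congrArg (adj (RingEquiv.refl F) (gQ Q)) h1
      rw [hG.adj_add, hG.adj_add, hsa τ hτ, hax] at h3
      rw [eq_sub_of_add_eq h3, hs]; abel
    have htskew : adj (RingEquiv.refl F) (gQ Q) t = -t := by
      have h1 : t + τ' = (y : Mn) + y := by rw [ht]; abel
      have h3 := congrArg (adj (RingEquiv.refl F) (gQ Q)) h1
      rw [hG.adj_add, hG.adj_add, hsa τ' hτ', hay] at h3
      rw [eq_sub_of_add_eq h3, ht]; abel
    have horth : ∀ S : Mn, (∀ k ∈ K, S * k = k * S) → adj (RingEquiv.refl F) (gQ Q) S = -S →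
        ∀ v, ∀ k ∈ K, B (S *ᵥ v) (k *ᵥ v) = 0 := fun S hS haS v k hk => by
      have h1 : B (S *ᵥ v) (k *ᵥ v) = -B (S *ᵥ v) (k *ᵥ v) := by
        conv_lhs => rw [hB, haS, Matrix.neg_mulVec, QuadraticMap.polar_neg_right, Matrix.mulVec_mulVec, hS k hk,
          ← Matrix.mulVec_mulVec, ← hKsa k hk, QuadraticMap.polar_comm]
      exact (mul_eq_zero.1 (show (2 : F) * B (S *ᵥ v) (k *ᵥ v) = 0 by linear_combination h1)).resolve_left h2
    obtain ⟨v, hv⟩ : ∃ v, Q v ≠ 0 := by
      by_contra hno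
      push Not at hno
      obtain ⟨i⟩ : Nonempty ι := Fintype.card_pos_iff.1 (by omega)
      obtain ⟨z, hz⟩ := nd_left hQ (v := Pi.single i (1 : F)) (by simp)
      exact hz (by rw [QuadraticMap.polar, hno, hno, hno, sub_zero, sub_zero])
    have hv0 : v ≠ 0 := fun h => hv (by rw [h, QuadraticMap.map_zero])
    have hBvv : B v v ≠ 0 := by rw [polar_two]; exact mul_ne_zero h2 hv
    have hvP : v ∉ hG.perp (line v) := fun h => hBvv (by
      have h1 := hpmem' v v h 1 K.one_mem
      rwa [Matrix.one_mulVec] at h1)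
    obtain ⟨w, hwP, hw0⟩ := Submodule.exists_mem_ne_zero_of_ne_bot (p := hG.perp (line v)) fun h => by
      have := hperp v hv0
      rw [h, finrank_bot] at this
      omega
    have hlinew : line w = hG.perp (line v) := Submodule.eq_of_le_of_finrank_eq (fun z hz => by
      obtain ⟨a, ha, rfl⟩ := (hmem w z).1 hz
      refine hpmem v _ fun k hk => ?_
      rw [hKsa a ha, Matrix.mulVec_mulVec]
      exact hpmem' v w hwP _ (K.mul_mem ha hk)) (by rw [hdim w hw0, hperp v hv0])
    -- a skew map over the field killing the vector is zero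
    have hzero : ∀ S : Mn, (∀ k ∈ K, S * k = k * S) → adj (RingEquiv.refl F) (gQ Q) S = -S → S *ᵥ v = 0 → S = 0 := by
      intro S hS haS hSv
      have hvl : w ∉ line v := fun h => by
        obtain ⟨k, hk, rfl⟩ := (hmem v w).1 h
        obtain ⟨z, hz, hkz⟩ := hK.inv k hk fun h => hw0 (by rw [h, Matrix.zero_mulVec])
        refine hvP ?_
        have hzw : z *ᵥ (k *ᵥ v) ∈ hG.perp (line v) := hlinew ▸ (hmem _ _).2 ⟨z, hz, rfl⟩
        rwa [Matrix.mulVec_mulVec, ← hK.comm k hk z hz, hkz, Matrix.one_mulVec] at hzw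
      have hSw : S *ᵥ w = 0 := by
        by_contra hne
        obtain ⟨y₀, hy₀⟩ := nd_left hQ hne
        obtain ⟨a, ha, b, hb, rfl⟩ := hspan v w hv0 hvl y₀
        refine hy₀ ?_
        rw [QuadraticMap.polar_add_right, horth S hS haS w b hb, add_zero, hB, haS, Matrix.neg_mulVec,
          Matrix.mulVec_mulVec, hS a ha, ← Matrix.mulVec_mulVec, hSv, Matrix.mulVec_zero, neg_zero,
          QuadraticMap.polar_zero_right]
      refine Matrix.toLin'.injective (LinearMap.ext fun z => ?_)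
      obtain ⟨a, ha, b, hb, rfl⟩ := hspan v w hv0 hvl z
      rw [Matrix.toLin'_apply, map_zero, LinearMap.zero_apply, Matrix.mulVec_add, Matrix.mulVec_mulVec,
        Matrix.mulVec_mulVec, hS a ha, hS b hb, ← Matrix.mulVec_mulVec, ← Matrix.mulVec_mulVec, hSv, hSw]
      simp
    obtain ⟨a, ha, hsv⟩ := (hmem w _).1 (hlinew.symm ▸ hpmem v _ (horth s hsK hskew v) : s *ᵥ v ∈ line w)
    obtain ⟨b, hb, htv⟩ := (hmem w _).1 (hlinew.symm ▸ hpmem v _ (horth t htK htskew v) : t *ᵥ v ∈ line w)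
    have hscomm : s * t = t * s := by
      by_cases ha0 : a = 0
      · rw [hzero s hsK hskew (by rw [hsv, ha0, Matrix.zero_mulVec]), zero_mul, mul_zero]
      obtain ⟨a', ha', haa⟩ := hK.inv a ha ha0
      have hc : b * a' ∈ K := K.mul_mem hb ha'
      have h0 : t - (b * a') * s = 0 := hzero _
        (fun k hk => by rw [sub_mul, mul_sub, htK k hk, mul_assoc, hsK k hk, ← mul_assoc, hK.comm _ hc k hk, mul_assoc])
        (by rw [sub_eq_add_neg, hG.adj_add, htskew, ← Matrix.neg_mul, hG.adj_mul, hskew, hsa _ (K.neg_mem hc),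
              neg_add_rev, ← hsK _ (K.neg_mem hc), Matrix.neg_mul]; abel)
        (by rw [Matrix.sub_mulVec, ← Matrix.mulVec_mulVec, hsv, htv, Matrix.mulVec_mulVec, mul_assoc,
              hK.comm a' ha' a ha, haa, mul_one, sub_self])
      rw [sub_eq_zero] at h0
      rw [h0, ← mul_assoc, hsK _ hc]
    have hX : (2 : F) • (x : Mn) = s + τ := by rw [hs, two_smul]; abel
    have hY : (2 : F) • (y : Mn) = t + τ' := by rw [ht, two_smul]; abel
    have hfin : (2 * 2 : F) • ((x : Mn) * y) = (2 * 2 : F) • ((y : Mn) * x) := by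
      calc (2 * 2 : F) • ((x : Mn) * y) = (s + τ) * (t + τ') := by
            rw [← hX, ← hY, Matrix.smul_mul, Matrix.mul_smul, smul_smul]
        _ = (t + τ') * (s + τ) := by
            rw [add_mul, add_mul, mul_add, mul_add, mul_add, mul_add, hscomm, hsK τ' hτ', ← htK τ hτ,
              hK.comm τ hτ τ' hτ']
            abel
        _ = _ := by rw [← hX, ← hY, Matrix.smul_mul, Matrix.mul_smul, smul_smul]
    exact smul_right_injective Mn (mul_ne_zero h2 h2) hfin

set_option maxHeartbeats 800000 in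
/-- An irreducible group of `Ω` normalising a field of degree five has another geometric structure. -/
theorem five_case (hQ : (QuadraticMap.polarBilin Q).Nondegenerate) (h10 : Fintype.card ι = 10) [Nonempty ι] {H : Subgroup (GL ι F)} (hH : H ≤ Geo.omegaGL ⇑Q) (hirr : Irr H)
    {K : Subalgebra F Mn} (hK : IsFieldSubalgebra 5 K) (hcl : ∀ k ∈ K, adj (RingEquiv.refl F) (gQ Q) k ∈ K)
    (hle : H ≤ subalgebraNormalizer K) :
    Asch.OrthDecomp (RingEquiv.refl F) (gQ Q) H ∨ Asch.SkewPair (RingEquiv.refl F) (gQ Q) H ∨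
      ∃ L : Subalgebra F Mn, IsFieldSubalgebra 2 L ∧ (∀ k ∈ L, adj (RingEquiv.refl F) (gQ Q) k ∈ L) ∧
        H ≤ subalgebraNormalizer L := by
  classical
  have hG := refl_gQ hQ
  have hiso : H ≤ isometryGroup F ⇑Q := hH.trans (Subgroup.map_subtype_le _)
  have hfix := fix_gQ hiso
  have hsa : ∀ k ∈ K, adj (RingEquiv.refl F) (gQ Q) k = k :=
    (Asch.adj_field hG (by norm_num : Nat.Prime 5) hK hcl).1 rfl (by norm_num)
  have hcj : ∀ g ∈ H, ∀ k ∈ K, cj g k ∈ K := fun g hg k hk => ((hle hg) k).1 hk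
  let N : Subgroup (GL ι F) :=
    { carrier := {x | x ∈ H ∧ ∀ k ∈ K, (x : Mn) * k = k * (x : Mn)}
      mul_mem' := fun {a b} ha hb => ⟨H.mul_mem ha.1 hb.1, fun k hk => by
        rw [Units.val_mul, mul_assoc, hb.2 k hk, ← mul_assoc, ha.2 k hk, mul_assoc]⟩
      one_mem' := ⟨H.one_mem, fun k _ => by rw [Units.val_one, one_mul, mul_one]⟩
      inv_mem' := fun {a} ha => ⟨H.inv_mem ha.1, fun k hk => by
        have h := ha.2 k hk
        calc ((a⁻¹ : GL ι F) : Mn) * k = ((a⁻¹ : GL ι F) : Mn) * (k * (a : Mn)) * ((a⁻¹ : GL ι F) : Mn) := by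
              rw [mul_assoc, mul_assoc k, Units.mul_inv, mul_one]
          _ = _ := by rw [← h, ← mul_assoc, Units.inv_mul, one_mul]⟩ }
  have hNH : N ≤ H := fun x hx => hx.1
  have hNm : ∀ x ∈ N, ∀ k ∈ K, (x : Mn) * k = k * (x : Mn) := fun x hx => hx.2
  have hn : Norms H N := fun g hg x hx => ⟨H.mul_mem (H.mul_mem hg hx.1) (H.inv_mem hg), fun k hk => by
    have h := hx.2 _ (hcj g⁻¹ (H.inv_mem hg) k hk)
    have h' := congrArg (cj g) h
    rwa [Asch.cj_mul, Asch.cj_mul, Asch.cj_cj_inv, Asch.cj_coe] at h'⟩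
  have hcomm : ∀ x ∈ N, ∀ y ∈ N, (x : Mn) * y = (y : Mn) * x := fun x hx y hy =>
    five_comm hQ h10 hK hsa (hH (hNH hx)) (hNm x hx) (hH (hNH hy)) (hNm y hy)
  have hscal : (∀ x ∈ N, ∃ c : F, (x : Mn) = c • 1) → False := by
    intro hall
    have h5 := hK.finrank_eq
    letI : Field K := (Asch.field_model hK).toField
    haveI : FiniteDimensional F K := Module.finite_of_finrank_pos (by rw [h5]; norm_num)
    haveI : Finite K := Module.finite_of_finite F
    let act : H → (K ≃ₐ[F] K) := fun g => AlgEquiv.ofBijective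
      { toFun := fun k => ⟨cj (g : GL ι F) k, hcj g g.2 k k.2⟩
        map_one' := Subtype.ext (by simp [cj])
        map_mul' := fun a b => Subtype.ext (Asch.cj_mul _ _ _)
        map_zero' := Subtype.ext (by simp [cj])
        map_add' := fun a b => Subtype.ext (Asch.cj_add _ _ _)
        commutes' := fun c => Subtype.ext (by
          show cj (g : GL ι F) ((algebraMap F K c : K) : Mn) = _
          rw [Subalgebra.coe_algebraMap, Algebra.algebraMap_eq_smul_one, Asch.cj_smul]
          simp [cj]) }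
      (Finite.injective_iff_bijective.1 fun a b hab => Subtype.ext (by
        have := congrArg (fun z : K => cj ((g : GL ι F))⁻¹ (z : Mn)) hab
        simpa [Asch.cj_inv_cj] using this))
    have hone : ∀ g h : H, act g = act h → ∃ c : F, ((h : GL ι F) : Mn) = c • ((g : GL ι F) : Mn) := by
      intro g h hgh
      obtain ⟨c, hc⟩ := hall ((g : GL ι F)⁻¹ * (h : GL ι F)) ⟨H.mul_mem (H.inv_mem g.2) h.2, fun k hk => by
        have h1 : cj (g : GL ι F) k = cj (h : GL ι F) k :=
          congrArg Subtype.val (AlgEquiv.congr_fun hgh ⟨k, hk⟩)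
        have h2 := congrArg (cj (g : GL ι F)⁻¹) h1
        rw [Asch.cj_inv_cj, Asch.cj_cj] at h2
        set z := (g : GL ι F)⁻¹ * (h : GL ι F)
        conv_rhs => rw [h2]
        rw [show cj z k = (z : Mn) * k * ((z⁻¹ : GL ι F) : Mn) from rfl, mul_assoc, Units.inv_mul, mul_one]⟩
      refine ⟨c, ?_⟩
      have h2 := congrArg (((g : GL ι F) : Mn) * ·) hc
      simp only [Units.val_mul, ← mul_assoc, Units.mul_inv, one_mul, Matrix.mul_smul, mul_one] at h2
      exact h2
    haveI : Fintype (K ≃ₐ[F] K) := Fintype.ofFinite _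
    have hcard : Fintype.card (K ≃ₐ[F] K) = 5 := by
      rw [← Nat.card_eq_fintype_card, IsGalois.card_aut_eq_finrank F K, h5]
    choose rep hrep using fun a : Set.range act => a.2
    obtain ⟨i⟩ := ‹Nonempty ι›
    set v : ι → F := Pi.single i 1
    let W : Submodule F (ι → F) := Submodule.span F (Set.range fun g : H => ((g : GL ι F) : Mn) *ᵥ v)
    rcases irr_iff.1 hirr W (fun g hg w hw => by
        refine (Submodule.span_le (p := W.comap (Matrix.toLin' (g : Mn)))).2 ?_ hw
        rintro _ ⟨h, rfl⟩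
        rw [SetLike.mem_coe, Submodule.mem_comap, Matrix.toLin'_apply, Matrix.mulVec_mulVec]
        exact Submodule.subset_span ⟨⟨g, hg⟩ * h, rfl⟩) with hb | ht
    · have h1 : v ∈ W := Submodule.subset_span ⟨1, by simp⟩
      rw [hb, Submodule.mem_bot] at h1
      exact one_ne_zero (α := F) (by simpa [v] using congrFun h1 i)
    · have hsub : W ≤ Submodule.span F (Set.range fun a => (((rep a : H) : GL ι F) : Mn) *ᵥ v) := Submodule.span_le.2 (by
        rintro _ ⟨g, rfl⟩
        obtain ⟨c, hc⟩ := hone (rep ⟨act g, g, rfl⟩) g (hrep ⟨act g, g, rfl⟩)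
        show ((g : GL ι F) : Mn) *ᵥ v ∈ _
        rw [hc, Matrix.smul_mulVec]
        exact Submodule.smul_mem _ _ (Submodule.subset_span ⟨_, rfl⟩))
      rw [ht] at hsub
      have h1 := Submodule.finrank_mono hsub
      have h2 := finrank_range_le_card (R := F) (fun a => (((rep a : H) : GL ι F) : Mn) *ᵥ v)
      have h3 := Fintype.card_le_of_injective _ (Subtype.val_injective : Function.Injective (Subtype.val : Set.range act → _))
      rw [Set.finrank] at h2
      simp only [← Nat.card_eq_fintype_card] at h2 h3 hcard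
      have h4 : Nat.card (Set.range act) ≤ 5 := hcard ▸ h3
      rw [finrank_top, Module.finrank_pi, h10] at h1
      omega
  rcases Asch.clifford hirr hn with ⟨t, m, D, hD, hDle, hDc, hDi⟩ | ⟨L, hc, hinv, h2, hLc, hcen, hLcj⟩ | hs | hai
  · rcases Asch.imprimitive_case hG hfix.sims (hfix.sims.mono hNH) hirr hD hDle hDc hDi with h | h
    · exact Or.inl h
    · exact Or.inr (Or.inl h)
  · have hadjL : ∀ k ∈ L, adj (RingEquiv.refl F) (gQ Q) k ∈ L := fun k hk =>
      hcen (hG.adj_centComAlg (hfix.sims.mono hNH) (Asch.mem_centComAlg.2 (hLc k hk)))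
    obtain ⟨x, hx, hxns⟩ : ∃ x ∈ N, ¬ ∃ c : F, (x : Mn) = c • 1 := by
      by_contra hno
      push Not at hno
      exact hscal hno
    have hxL : (x : Mn) ∈ L := hcen (Asch.mem_centComAlg.2
      ⟨fun y hy => hcomm x hx y hy, fun M hM => hM x hx⟩)
    letI : Field L := (show IsField L from
      { exists_pair_ne := ⟨0, 1, fun h => zero_ne_one (congrArg Subtype.val h)⟩
        mul_comm := fun a b => Subtype.ext (hc a a.2 b b.2)
        mul_inv_cancel := fun {a} ha => by
          obtain ⟨y, hy, h⟩ := hinv a.1 a.2 fun h => ha (Subtype.ext h)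
          exact ⟨⟨y, hy⟩, Subtype.ext h⟩ }).toField
    haveI : FiniteDimensional F L := Module.finite_of_finrank_pos (by omega)
    haveI : Finite L := Module.finite_of_finite F
    let τ : L ≃ₐ[F] L := AlgEquiv.ofBijective
      { toFun := fun k => ⟨adj (RingEquiv.refl F) (gQ Q) k, hadjL k k.2⟩
        map_one' := Subtype.ext hG.adj_one
        map_mul' := fun a b => Subtype.ext (by
          show adj (RingEquiv.refl F) (gQ Q) ((a : Mn) * b) = _
          rw [hG.adj_mul]; exact hc _ (hadjL b b.2) _ (hadjL a a.2))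
        map_zero' := Subtype.ext hG.adj_zero
        map_add' := fun a b => Subtype.ext (hG.adj_add _ _)
        commutes' := fun c => Subtype.ext (by
          show adj (RingEquiv.refl F) (gQ Q) ((algebraMap F L c : L) : Mn) = _
          rw [Subalgebra.coe_algebraMap, Algebra.algebraMap_eq_smul_one, hG.adj_smul, hG.adj_one]
          rfl) }
      ⟨fun a b hab => Subtype.ext (hG.adj_injective (congrArg Subtype.val hab)),
        fun a => ⟨⟨_, hadjL a a.2⟩, Subtype.ext (hG.adj_adj _)⟩⟩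
    have hord : orderOf τ = 2 := by
      refine orderOf_eq_prime (AlgEquiv.ext fun a => Subtype.ext (hG.adj_adj _)) fun h1 => hxns ?_
      have h2' : adj (RingEquiv.refl F) (gQ Q) (x : Mn) = (x : Mn) :=
        congrArg Subtype.val (AlgEquiv.congr_fun h1 ⟨(x : Mn), hxL⟩)
      rw [hG.adj_iso (hfix x (hNH hx))] at h2'
      have hsq : (x : Mn) * x = 1 := by
        have h3 := Units.mul_inv x
        rwa [h2'] at h3
      rcases mul_self_eq_one_iff.1 (Subtype.ext hsq : (⟨(x : Mn), hxL⟩ : L) * ⟨(x : Mn), hxL⟩ = 1) with h | h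
      · exact ⟨1, by rw [one_smul]; exact congrArg Subtype.val h⟩
      · exact ⟨-1, by rw [neg_one_smul]; exact congrArg Subtype.val h⟩
    have heven : 2 ∣ finrank F L := by
      rw [← IsGalois.card_aut_eq_finrank F L, ← hord]
      exact orderOf_dvd_natCard _
    obtain ⟨L', hL', hL'L, hL'le, hL'mem⟩ := exists_field_of_dvd hc hinv h2 Nat.prime_two heven hLcj
    exact Or.inr (Or.inr ⟨L', hL', fun k hk => (hL'mem _).2 ⟨hadjL k ((hL'mem k).1 hk).1, by
      rw [← hG.adj_pow, ((hL'mem k).1 hk).2]⟩, hL'le⟩)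
  · exfalso
    apply hscal
    obtain ⟨a, b, e, P, hb, hA, hCom⟩ := hs
    intro x hx
    obtain ⟨A, hA'⟩ := hA x hx
    obtain ⟨B', hB'⟩ := (hCom (x : Mn)).1 (fun y hy => hcomm x hx y hy)
    haveI : Nonempty (Fin b) := ⟨⟨0, by omega⟩⟩
    have hkr := Asch.co_injective e P (hA'.symm.trans hB')
    haveI : Nonempty (Fin a) := (Nonempty.map (fun i => (e i).1) ‹Nonempty ι›)
    obtain ⟨p⟩ := ‹Nonempty (Fin a)›
    obtain ⟨s⟩ := ‹Nonempty (Fin b)›
    refine ⟨A p p, ?_⟩
    rw [hA', ← Asch.co_one e P, ← Asch.co_smul]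
    congr 1
    ext ⟨i, k⟩ ⟨j, l⟩
    have e1 := congrFun (congrFun hkr (i, k)) (j, l)
    have e2 := congrFun (congrFun hkr (i, k)) (i, l)
    have e3 := congrFun (congrFun hkr (p, k)) (p, l)
    simp only [Matrix.kroneckerMap_apply, Matrix.one_apply, Matrix.smul_apply, Prod.mk.injEq, smul_eq_mul] at e1 e2 e3 ⊢
    by_cases hij : i = j
    · subst hij
      simp only [true_and, if_true, one_mul] at e2 e3 ⊢
      rw [e2, ← e3]
    · rw [if_neg hij, zero_mul] at e1
      rw [e1, if_neg (fun h => hij h.1), mul_zero]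
  · exfalso
    refine hscal fun x hx => ?_
    exact Asch.AI.scalar hai fun y hy => hcomm x hx y hy

end Five

end Cfsg.Agent.Classical.AschEven
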