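import Cfsg.Agent.Lib.Classical.AschLines
import Cfsg.Agent.Lib.Classical.MaxMonomialLines

/-!
Stabilisers of decompositions into planes over two or three elements fix a symplectic form, and tensor products
with a plane over two elements normalise a quadratic extension field.
-/

set_option autoImplicit false
set_option linter.unusedSectionVars false
set_option linter.unusedFintypeInType false
set_option linter.unusedDecidableInType false

namespace Cfsg.Agent.Classical.Asch

open Matrix Module Cfsg.Geo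
open scoped Kronecker

variable {F : Type*} [Field F] {ι : Type} [Fintype ι] [DecidableEq ι]

/-- The standard alternating matrix in two dimensions. -/
def altTwo (F : Type*) [Field F] : Matrix (Fin 2) (Fin 2) F := !![0, 1; -1, 0]

theorem altTwo_congr (A : Matrix (Fin 2) (Fin 2) F) : Aᵀ * altTwo F * A = A.det • altTwo F := by
  rw [Matrix.det_fin_two]
  ext i j
  fin_cases i <;> fin_cases j <;>
    simp [altTwo, Matrix.mul_apply, Fin.sum_univ_two] <;> ring

theorem alt_eval {J : Matrix ι ι F} (hskew : ∀ a b, J a b = -J b a) (hdiag : ∀ a, J a a = 0) (u : ι → F) :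
    u ⬝ᵥ (J *ᵥ u) = 0 := by
  have key : ∀ s : Finset ι, ∑ a ∈ s, ∑ b ∈ s, u a * J a b * u b = 0 := by
    intro s
    induction s using Finset.induction_on with
    | empty => simp
    | insert x s hx ih =>
      simp only [Finset.sum_insert hx, Finset.sum_add_distrib, ih, hdiag, mul_zero, zero_mul, zero_add, add_zero]
      rw [← Finset.sum_add_distrib]
      refine Finset.sum_eq_zero fun b _ => ?_
      rw [hskew b x]; ring
  rw [← key Finset.univ]
  simp [dotProduct, Matrix.mulVec, Finset.mul_sum, mul_assoc]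

/-- Coordinates in which a stabiliser of planes is block monomial. -/
theorem exists_plane_coords {n t : ℕ} {D : Fin t → Submodule F (Fin n → F)} (hD : IsMDecomposition 2 D) :
    ∃ (e : Fin n ≃ Fin 2 × Fin t) (P : GL (Fin n) F), ∀ g ∈ decompositionStabilizer D,
      ∃ (σ : Equiv.Perm (Fin t)) (A : Fin t → Matrix (Fin 2) (Fin 2) F),
        (g : Matrix (Fin n) (Fin n) F) = co e P (Matrix.blockDiagonal A *
          (Matrix.of fun x y : Fin 2 × Fin t => if x.1 = y.1 ∧ x.2 = σ y.2 then (1 : F) else 0)) := by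
  classical
  have hcard : t * 2 = n := by simpa using MaxMon.decomp_card hD
  let e : Fin n ≃ Fin 2 × Fin t := (Fintype.equivFinOfCardEq (by simp; omega)).symm
  let b : ∀ i, Basis (Fin 2) F (D i) := fun i => Module.finBasisOfFinrankEq F (D i) (hD.finrank_eq i)
  let u : Fin 2 × Fin t → Fin n → F := fun x => (b x.2 x.1 : Fin n → F)
  have hsp : ⊤ ≤ Submodule.span F (Set.range (fun j => u (e j))) := by
    rw [← hD.iSup_eq_top, iSup_le_iff]
    intro i v hv
    have h1 := (b i).sum_repr ⟨v, hv⟩
    rw [← show ((∑ k, (b i).repr ⟨v, hv⟩ k • b i k : D i) : Fin n → F) = v from congrArg Subtype.val h1,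
      Submodule.coe_sum]
    refine Submodule.sum_mem _ fun k _ => ?_
    rw [Submodule.coe_smul]
    exact Submodule.smul_mem _ _ (Submodule.subset_span ⟨e.symm (k, i), by simp [u]⟩)
  have hli : LinearIndependent F (fun j => u (e j)) :=
    linearIndependent_of_top_le_span_of_card_eq_finrank hsp (by simp)
  obtain ⟨P, hP⟩ : IsUnit (Matrix.of fun r j => u (e j) r : Matrix (Fin n) (Fin n) F) :=
    Matrix.linearIndependent_cols_iff_isUnit.1 hli
  refine ⟨e, P, fun g hg => ?_⟩
  obtain ⟨σ, hσ⟩ := hg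
  have hmem : ∀ i k, (g : Matrix (Fin n) (Fin n) F) *ᵥ u (k, i) ∈ D (σ i) := fun i k => by
    rw [← hσ i]
    exact ⟨_, (b i k).2, Matrix.toLin'_apply _ _⟩
  let A : Fin t → Matrix (Fin 2) (Fin 2) F := fun a => Matrix.of fun k' k =>
    (b a).repr ⟨(g : Matrix (Fin n) (Fin n) F) *ᵥ u (k, σ.symm a), by simpa using hmem (σ.symm a) k⟩ k'
  refine ⟨σ, A, eq_co (b := u) (fun j r => by rw [hP]; rfl) fun l => ?_⟩
  obtain ⟨k, i⟩ := l
  have hent : ∀ x : Fin 2 × Fin t, (Matrix.blockDiagonal A *
      (Matrix.of fun x y : Fin 2 × Fin t => if x.1 = y.1 ∧ x.2 = σ y.2 then (1 : F) else 0)) x (k, i) =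
      if x.2 = σ i then A (σ i) x.1 k else 0 := by
    intro x
    rw [Matrix.mul_apply, Finset.sum_eq_single (k, σ i) (fun y _ hy => by
      rw [Matrix.of_apply, if_neg (fun h => hy (Prod.ext h.1 h.2)), mul_zero]) (by simp)]
    by_cases h : x.2 = σ i
    · simp [Matrix.blockDiagonal_apply, h]
    · simp [Matrix.blockDiagonal_apply, h]
  simp only [hent]
  rw [Fintype.sum_prod_type]
  simp only [ite_smul, zero_smul, Finset.sum_ite_eq', Finset.mem_univ, if_true]
  have h1 := congrArg Subtype.val ((b (σ i)).sum_repr ⟨(g : Matrix (Fin n) (Fin n) F) *ᵥ u (k, i), hmem i k⟩)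
  rw [Submodule.coe_sum] at h1
  simp only [Submodule.coe_smul] at h1
  rw [← h1]
  refine Finset.sum_congr rfl fun k' _ => ?_
  simp only [A, u, Matrix.of_apply]
  congr 3
  have hii := Equiv.symm_apply_apply σ i
  exact Subtype.ext (show (g : Matrix (Fin n) (Fin n) F) *ᵥ u (k, i) = (g : Matrix (Fin n) (Fin n) F) *ᵥ u (k, σ.symm (σ i)) by rw [hii])

theorem co_det {κ : Type} [Fintype κ] [DecidableEq κ] (e : ι ≃ κ) (P : GL ι F) (M : Matrix κ κ F) :
    (co e P M).det = M.det := by
  rw [co, cj, Matrix.det_units_conj, Matrix.det_reindexAlgEquiv]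

theorem perm_block_det {t : ℕ} (σ : Equiv.Perm (Fin t)) :
    (Matrix.of fun x y : Fin 2 × Fin t => if x.1 = y.1 ∧ x.2 = σ y.2 then (1 : F) else 0).det = 1 := by
  have h : (Matrix.of fun x y : Fin 2 × Fin t => if x.1 = y.1 ∧ x.2 = σ y.2 then (1 : F) else 0) =
      Matrix.reindexAlgEquiv F F (Equiv.prodComm (Fin t) (Fin 2))
        (Matrix.blockDiagonal fun _ : Fin 2 => mono σ fun _ => (1 : F)) := by
    ext ⟨a, i⟩ ⟨b, j⟩
    simp only [Matrix.coe_reindexAlgEquiv, Matrix.reindex_apply, Matrix.submatrix_apply, Equiv.prodComm_symm,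
      Equiv.prodComm_apply, Prod.swap_prod_mk, Matrix.blockDiagonal_apply, Matrix.of_apply, mono_apply]
    by_cases h1 : a = b <;> simp [h1]
  rw [h, Matrix.det_reindexAlgEquiv, Matrix.det_blockDiagonal, Fin.prod_univ_two, mono_det]
  rcases Int.units_eq_one_or (Equiv.Perm.sign σ) with h' | h' <;> simp [h']

/-- Over two elements, or for two planes over three elements, a stabiliser of planes fixes a symplectic form. -/
theorem planes_symplectic [Fintype F] {n t : ℕ} {D : Fin t → Submodule F (Fin n → F)} (hD : IsMDecomposition 2 D)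
    (hcase : Fintype.card F = 2 ∨ (t = 2 ∧ Fintype.card F = 3)) :
    ∃ f : (Fin n → F) → (Fin n → F) → F, IsSymplecticForm f ∧
      decompositionStabilizer D ⊓ specialLinear (Fin n) F ≤ similarityGroup f := by
  classical
  obtain ⟨e, P, hP⟩ := exists_plane_coords hD
  set J : Matrix (Fin 2 × Fin t) (Fin 2 × Fin t) F := Matrix.blockDiagonal fun _ : Fin t => altTwo F with hJ
  set G₀ : Matrix (Fin n) (Fin n) F := Matrix.reindexAlgEquiv F F e.symm J with hG₀
  have hJskew : ∀ x y, J x y = -J y x := by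
    rintro ⟨a, i⟩ ⟨b, j⟩
    by_cases h : i = j
    · subst h
      fin_cases a <;> fin_cases b <;> simp [hJ, Matrix.blockDiagonal_apply, altTwo]
    · simp [hJ, Matrix.blockDiagonal_apply, h, Ne.symm h]
  have hJdiag : ∀ x, J x x = 0 := by
    rintro ⟨a, i⟩
    fin_cases a <;> simp [hJ, Matrix.blockDiagonal_apply, altTwo]
  have hGskew : ∀ a b, G₀ a b = -G₀ b a := fun a b => hJskew (e a) (e b)
  have hGdiag : ∀ a, G₀ a a = 0 := fun a => hJdiag (e a)
  have hGu : IsUnit G₀ := by
    refine IsUnit.map _ ((Matrix.isUnit_iff_isUnit_det _).2 ?_)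
    rw [hJ, Matrix.det_blockDiagonal]
    exact isUnit_iff_ne_zero.2 (Finset.prod_ne_zero_iff.2 fun _ _ => by simp [altTwo, Matrix.det_fin_two])
  set B : Matrix (Fin n) (Fin n) F := ((P⁻¹ : GL (Fin n) F) : Matrix (Fin n) (Fin n) F) with hB
  have hmap : ∀ M : Matrix (Fin n) (Fin n) F, M.map (RingEquiv.refl F) = M := fun M => by ext; simp
  have hU := isUnit_coords (σ := RingEquiv.refl F) P⁻¹ hGu
  rw [hmap] at hU
  have hT : G₀ᵀ = -G₀ := by ext a b; exact hGskew b a
  refine ⟨_, (symplectic_of_gram hU (by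
      rw [Matrix.transpose_mul, Matrix.transpose_mul, Matrix.transpose_transpose, hT]
      simp [mul_assoc]) (fun u => by
      rw [← Matrix.mulVec_mulVec, ← Matrix.mulVec_mulVec, Matrix.dotProduct_mulVec, Matrix.vecMul_transpose]
      exact alt_eval hGskew hGdiag _)).1, fun g hg => ?_⟩
  obtain ⟨σ, A, hA⟩ := hP g hg.1
  have hdet : ∏ i, (A i).det = 1 := by
    have h1 : (g : Matrix (Fin n) (Fin n) F).det = 1 := congrArg Units.val (MonoidHom.mem_ker.1 hg.2)
    rw [hA, co_det, Matrix.det_mul, Matrix.det_blockDiagonal, perm_block_det, mul_one] at h1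
    exact h1
  obtain ⟨μ, hμ0, hμ⟩ : ∃ μ : F, μ ≠ 0 ∧ ∀ i, (A i).det = μ := by
    have hne : ∀ i, (A i).det ≠ 0 := fun i h0 => by
      rw [Finset.prod_eq_zero (Finset.mem_univ i) h0] at hdet
      exact zero_ne_one hdet
    rcases hcase with hq | ⟨ht, hq⟩
    · refine ⟨1, one_ne_zero, fun i => ?_⟩
      have := FiniteField.pow_card_sub_one_eq_one _ (hne i)
      rwa [hq, pow_one] at this
    · subst ht
      refine ⟨(A 0).det, hne 0, fun i => ?_⟩
      rw [Fin.prod_univ_two] at hdet
      have h1 : (A 0).det * (A 0).det = 1 := by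
        have := FiniteField.pow_card_sub_one_eq_one _ (hne 0)
        rwa [hq, ← sq] at *
      have h2 : (A 1).det = (A 0).det := mul_left_cancel₀ (hne 0) (hdet.trans h1.symm)
      fin_cases i
      · rfl
      · exact h2
  rw [show B ᵀ * (G₀ * B) = Bᵀ * (G₀ * B.map (RingEquiv.refl F)) by rw [hmap]]
  refine similarity_of_coords hμ0 ?_
  have hco : ((P⁻¹ * g * P : GL (Fin n) F) : Matrix (Fin n) (Fin n) F) = Matrix.reindexAlgEquiv F F e.symm
      (Matrix.blockDiagonal A *
          (Matrix.of fun x y : Fin 2 × Fin t => if x.1 = y.1 ∧ x.2 = σ y.2 then (1 : F) else 0)) := by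
    rw [Units.val_mul, Units.val_mul, hA, co, cj]
    simp [mul_assoc]
  rw [hco, hmap, hG₀]
  set Pm := (Matrix.of fun x y : Fin 2 × Fin t => if x.1 = y.1 ∧ x.2 = σ y.2 then (1 : F) else 0) with hPi
  have hcore : (Matrix.blockDiagonal A * Pm)ᵀ * (J * (Matrix.blockDiagonal A * Pm)) = μ • J := by
    have h1 : (Matrix.blockDiagonal A)ᵀ * (J * Matrix.blockDiagonal A) = μ • J := by
      rw [hJ, ← Matrix.blockDiagonal_mul, Matrix.blockDiagonal_transpose, ← Matrix.blockDiagonal_mul,
        ← Matrix.blockDiagonal_smul]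
      congr 1
      funext i
      rw [← mul_assoc, altTwo_congr, hμ]
      rfl
    have h2 : Pmᵀ * J * Pm = J := by
      ext ⟨a, i⟩ ⟨c, j⟩
      rw [Matrix.mul_apply, Finset.sum_eq_single (c, σ j) (fun y _ hy => by
        simp only [hPi, Matrix.of_apply]; rw [if_neg (fun h => hy (Prod.ext h.1 h.2)), mul_zero]) (by simp)]
      rw [Matrix.mul_apply, Finset.sum_eq_single (a, σ i) (fun y _ hy => by
        simp only [hPi, Matrix.transpose_apply, Matrix.of_apply]
        rw [if_neg (fun h => hy (Prod.ext h.1 h.2)), zero_mul]) (by simp)]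
      by_cases hij : i = j <;> simp [hPi, hJ, Matrix.blockDiagonal_apply, hij]
    rw [Matrix.transpose_mul]
    calc Pmᵀ * (Matrix.blockDiagonal A)ᵀ * (J * (Matrix.blockDiagonal A * Pm))
        = Pmᵀ * ((Matrix.blockDiagonal A)ᵀ * (J * Matrix.blockDiagonal A)) * Pm := by simp only [mul_assoc]
      _ = μ • J := by rw [h1, Matrix.mul_smul, Matrix.smul_mul, h2]
  rw [← map_smul (Matrix.reindexAlgEquiv F F e.symm) μ J, ← hcore, map_mul _ (Matrix.blockDiagonal A * Pm)ᵀ,
    map_mul _ J (Matrix.blockDiagonal A * Pm)]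
  simp only [Matrix.coe_reindexAlgEquiv, Matrix.transpose_reindex]

/-- The matrix of an element of order three in two dimensions. -/
def omegaTwo (F : Type*) [Field F] : Matrix (Fin 2) (Fin 2) F := !![0, 1; 1, 1]

/-- A tensor product with a plane over two elements normalises a quadratic field of matrices on the plane. -/
theorem tensor_two_field_data [Fintype F] (hq : Fintype.card F = 2) {b : ℕ} (hb : 0 < b) (e : ι ≃ Fin 2 × Fin b)
    (P : GL ι F) : ∃ K : Subalgebra F (Matrix ι ι F), IsFieldSubalgebra 2 K ∧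
      tensorProductSubgroup 2 b e P ≤ subalgebraNormalizer K ∧
      ∀ k ∈ K, ∃ A : Matrix (Fin 2) (Fin 2) F, k = co e P (A ⊗ₖ (1 : Matrix (Fin b) (Fin b) F)) ∧
        A * omegaTwo F = omegaTwo F * A := by
  classical
  have h2 : (2 : F) = 0 := by
    have h := Nat.cast_card_eq_zero F
    rwa [hq] at h
  have hall : ∀ x : F, x = 0 ∨ x = 1 := fun x => by
    by_cases hx : x = 0
    · exact Or.inl hx
    · have := FiniteField.pow_card_sub_one_eq_one x hx
      rw [hq, pow_one] at this
      exact Or.inr this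
  haveI : Nonempty ι := ⟨e.symm (0, ⟨0, hb⟩)⟩
  let E : Matrix (Fin 2) (Fin 2) F →ₗ[F] Matrix ι ι F :=
    { toFun := fun A => co e P (A ⊗ₖ (1 : Matrix (Fin b) (Fin b) F))
      map_add' := fun A A' => by rw [Matrix.add_kronecker, co_add]
      map_smul' := fun c A => by rw [Matrix.smul_kronecker, co_smul]; rfl }
  have Emul : ∀ A A', E (A * A') = E A * E A' := fun A A' => by
    show co e P _ = co e P _ * co e P _
    rw [← co_mul, ← Matrix.mul_kronecker_mul, one_mul]
  have Eone : E 1 = 1 := by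
    show co e P _ = _
    rw [Matrix.one_kronecker_one, co_one]
  have Einj : Function.Injective E := fun A A' h => by
    have h1 := co_injective e P h
    ext i j
    simpa [Matrix.kroneckerMap_apply] using congrFun (congrFun h1 (i, ⟨0, hb⟩)) (j, ⟨0, hb⟩)
  let el : F → F → Matrix ι ι F := fun x y => E (x • (1 : Matrix (Fin 2) (Fin 2) F) + y • omegaTwo F)
  have hsq : omegaTwo F * omegaTwo F = 1 + omegaTwo F := by
    ext i j
    fin_cases i <;> fin_cases j <;> simp [omegaTwo, Matrix.mul_apply, Fin.sum_univ_two]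
  have hmul : ∀ x y x' y' : F, el x y * el x' y' = el (x * x' + y * y') (x * y' + y * x' + y * y') := by
    intro x y x' y'
    simp only [el, ← Emul]
    congr 1
    simp only [Matrix.add_mul, Matrix.mul_add, Matrix.smul_mul, Matrix.mul_smul, one_mul, mul_one, smul_smul, hsq,
      smul_add, add_smul]
    rw [mul_comm x' x, mul_comm x' y, mul_comm y' x, mul_comm y' y]
    abel
  let K : Subalgebra F (Matrix ι ι F) :=
    { carrier := {M | ∃ x y : F, M = el x y}
      mul_mem' := by rintro _ _ ⟨x, y, rfl⟩ ⟨x', y', rfl⟩; exact ⟨_, _, hmul x y x' y'⟩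
      add_mem' := by
        rintro _ _ ⟨x, y, rfl⟩ ⟨x', y', rfl⟩
        refine ⟨x + x', y + y', ?_⟩
        simp only [el, ← map_add]
        congr 1
        rw [add_smul, add_smul]; abel
      algebraMap_mem' := fun c => ⟨c, 0, by
        simp [el, map_smul, Eone, Algebra.algebraMap_eq_smul_one]⟩ }
  let Λ : (F × F) →ₗ[F] K :=
    { toFun := fun v => ⟨el v.1 v.2, v.1, v.2, rfl⟩
      map_add' := fun v w => Subtype.ext (by
        show el _ _ = el _ _ + el _ _
        simp only [el, ← map_add, Prod.fst_add, Prod.snd_add]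
        congr 1
        rw [add_smul, add_smul]; abel)
      map_smul' := fun c v => Subtype.ext (by
        show el _ _ = c • el _ _
        simp only [el, ← map_smul, smul_add, smul_smul, Prod.smul_fst, Prod.smul_snd, smul_eq_mul]) }
  have hΛ : Function.Bijective Λ := by
    refine ⟨fun v w h => ?_, fun k => ?_⟩
    · have h1 := Einj (congrArg Subtype.val h)
      have e00 := congrFun (congrFun h1 0) 0
      have e01 := congrFun (congrFun h1 0) 1
      simp [omegaTwo] at e00 e01
      exact Prod.ext e00 e01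
    · obtain ⟨x, y, hxy⟩ := k.2
      exact ⟨(x, y), Subtype.ext hxy.symm⟩
  refine ⟨K, ⟨?_, ?_, ?_⟩, ?_, ?_⟩
  rotate_left 4
  · rintro _ ⟨x, y, rfl⟩
    exact ⟨x • 1 + y • omegaTwo F, rfl, by simp [Matrix.add_mul, Matrix.mul_add]⟩
  · rintro _ ⟨x, y, rfl⟩ _ ⟨x', y', rfl⟩
    rw [hmul, hmul]
    congr 1 <;> ring
  · rintro _ ⟨x, y, rfl⟩ hne
    have hone : el 1 0 = 1 := by simp [el, Eone]
    rcases hall x with rfl | rfl <;> rcases hall y with rfl | rfl
    · exact absurd (by simp [el]) hne
    · exact ⟨el 1 1, ⟨1, 1, rfl⟩, by rw [hmul, ← hone]; congr 1 <;> first | ring1 | linear_combination h2 | linear_combination -h2⟩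
    · exact ⟨el 1 0, ⟨1, 0, rfl⟩, by rw [hmul, ← hone]; congr 1 <;> ring⟩
    · exact ⟨el 0 1, ⟨0, 1, rfl⟩, by rw [hmul, ← hone]; congr 1 <;> first | ring1 | linear_combination h2 | linear_combination -h2⟩
  · rw [← (LinearEquiv.ofBijective Λ hΛ).finrank_eq]
    simp
  · intro g hg
    have hfwd : ∀ g ∈ tensorProductSubgroup 2 b e P, ∀ k ∈ K, cj g k ∈ K := by
      rintro g ⟨y, ⟨k₀, ⟨A, B, hAB⟩, rfl⟩, rfl⟩ _ ⟨x, z, rfl⟩
      set A' : Matrix (Fin 2) (Fin 2) F := (A : Matrix (Fin 2) (Fin 2) F) * omegaTwo F *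
        ((A⁻¹ : GL (Fin 2) F) : Matrix (Fin 2) (Fin 2) F) with hA'
      have hA'sq : A' * A' = 1 + A' := by
        rw [hA']
        calc _ = (A : Matrix (Fin 2) (Fin 2) F) * (omegaTwo F * omegaTwo F) *
              ((A⁻¹ : GL (Fin 2) F) : Matrix (Fin 2) (Fin 2) F) := by simp [mul_assoc]
          _ = _ := by rw [hsq]; simp [Matrix.mul_add, Matrix.add_mul]
      have hA'tr : A' 0 0 + A' 1 1 = 1 := by
        have h := Matrix.trace_units_conj A (omegaTwo F)
        rw [← hA'] at h
        simpa [Matrix.trace_fin_two, omegaTwo] using h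
      obtain ⟨x', y', hform⟩ : ∃ x' y' : F, A' = x' • (1 : Matrix (Fin 2) (Fin 2) F) + y' • omegaTwo F := by
        have e00 := congrFun (congrFun hA'sq 0) 0
        simp [Matrix.mul_apply, Fin.sum_univ_two] at e00
        refine ⟨A' 0 0, 1, ?_⟩
        have h01 : A' 0 1 = 1 := by
          rcases hall (A' 0 1) with h | h
          · rw [h] at e00
            rcases hall (A' 0 0) with h' | h' <;> rw [h'] at e00 <;> exact absurd e00 (by simp)
          · exact h
        have h10 : A' 1 0 = 1 := by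
          rcases hall (A' 1 0) with h | h
          · rw [h] at e00
            rcases hall (A' 0 0) with h' | h' <;> rw [h'] at e00 <;> exact absurd e00 (by simp)
          · exact h
        ext i j
        fin_cases i <;> fin_cases j <;> simp [omegaTwo, h01, h10]
        linear_combination hA'tr - A' 0 0 * h2
      have hg' : ((MulAut.conj P).toMonoidHom ((glReindex e.symm).toMonoidHom k₀) : GL ι F).val =
          co e P ((A : Matrix (Fin 2) (Fin 2) F) ⊗ₖ (B : Matrix (Fin b) (Fin b) F)) := by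
        rw [← hAB]; rfl
      have hg'' : (((MulAut.conj P).toMonoidHom ((glReindex e.symm).toMonoidHom k₀) : GL ι F)⁻¹).val =
          co e P (((A⁻¹ : GL (Fin 2) F) : Matrix (Fin 2) (Fin 2) F) ⊗ₖ ((B⁻¹ : GL (Fin b) F) : Matrix (Fin b) (Fin b) F)) := by
        set g₀ : GL ι F := (MulAut.conj P).toMonoidHom ((glReindex e.symm).toMonoidHom k₀)
        refine Units.inv_eq_of_mul_eq_one_right ?_
        rw [hg', ← co_mul, ← Matrix.mul_kronecker_mul, Units.mul_inv, Units.mul_inv, Matrix.one_kronecker_one,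
          co_one]
      refine ⟨x + z * x', z * y', ?_⟩
      show cj _ (E _) = _
      rw [cj, hg', hg'']
      show co e P _ * co e P (_ ⊗ₖ _) * co e P _ = co e P (_ ⊗ₖ _)
      rw [← co_mul, ← co_mul, ← Matrix.mul_kronecker_mul, ← Matrix.mul_kronecker_mul, mul_one, Units.mul_inv]
      congr 2
      rw [Matrix.mul_add, Matrix.add_mul, Matrix.mul_smul, Matrix.smul_mul, mul_one, Units.mul_inv, Matrix.mul_smul,
        Matrix.smul_mul, ← hA', hform, smul_add, smul_smul, smul_smul, add_smul, add_assoc]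
    intro k
    refine ⟨fun hk => hfwd g hg k hk, fun hk => ?_⟩
    have h9 := hfwd g⁻¹ (inv_mem hg) (cj g k) hk
    rwa [cj_inv_cj] at h9

/-- A tensor product with a plane over two elements normalises a quadratic field. -/
theorem tensor_two_field [Fintype F] (hq : Fintype.card F = 2) {b : ℕ} (hb : 0 < b) (e : ι ≃ Fin 2 × Fin b)
    (P : GL ι F) : ∃ K : Subalgebra F (Matrix ι ι F), IsFieldSubalgebra 2 K ∧
      tensorProductSubgroup 2 b e P ≤ subalgebraNormalizer K :=
  (tensor_two_field_data hq hb e P).imp fun _ h => ⟨h.1, h.2.1⟩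

end Cfsg.Agent.Classical.Asch
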