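import Cfsg.Agent.Lib.Classical.AschEvenField
import Cfsg.Agent.Lib.Classical.AschPlanes

/-!
Tensor decompositions and abelian normal subgroups of groups of isometries of an even dimensional quadratic space.
-/

set_option autoImplicit false
set_option linter.unusedSectionVars false
set_option linter.unusedFintypeInType false
set_option linter.unusedDecidableInType false
set_option quotPrecheck false

namespace Cfsg.Agent.Classical.AschEven

open Matrix Module Cfsg.Geo
open scoped Kronecker
open Asch (Refl Fix Irr Inv irr_iff cj adj co pull pureMat pureVec TensorData)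

variable {F : Type*} [Field F] [Fintype F] {ι : Type} [Fintype ι] [DecidableEq ι]
  {Q : QuadraticForm F (ι → F)}

local notation "Mn" => Matrix ι ι F
local notation "B" => QuadraticMap.polar ⇑Q

theorem sqrt_exists (h2 : (2 : F) = 0) : ∀ x : F, ∃ y, y ^ 2 = x ∧ ∀ z, z ^ 2 = x → z = y := by
  intro x
  haveI : CharP F 2 := CharTwo.of_one_ne_zero_of_two_eq_zero one_ne_zero h2
  obtain ⟨y, hy⟩ := FiniteField.isSquare_of_char_two (ringChar.eq F 2) x
  refine ⟨y, by rw [sq, hy], fun z hz => sub_eq_zero.1 (mul_self_eq_zero.1 ?_)⟩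
  linear_combination hz + hy + (y * y - z * y) * h2

/-- The form of a sum of pairwise orthogonal vectors. -/
theorem quad_orth_sum {κ : Type} [Fintype κ] (b : κ → ι → F) (c : κ → F)
    (h : ∀ x y, x ≠ y → B (b x) (b y) = 0) : Q (∑ x, c x • b x) = ∑ x, c x ^ 2 * Q (b x) := by
  classical
  suffices ∀ s : Finset κ, Q (∑ x ∈ s, c x • b x) = ∑ x ∈ s, c x ^ 2 * Q (b x) from this Finset.univ
  intro s
  induction s using Finset.induction_on with
  | empty => simp
  | insert a s ha ih =>
    have h0 : B (c a • b a) (∑ x ∈ s, c x • b x) = 0 := by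
      rw [← QuadraticMap.polarBilin_apply_apply, map_sum]
      refine Finset.sum_eq_zero fun x hx => ?_
      rw [QuadraticMap.polarBilin_apply_apply, QuadraticMap.polar_smul_left, QuadraticMap.polar_smul_right,
        h a x (fun e => ha (e ▸ hx))]
      simp
    rw [Finset.sum_insert ha, Finset.sum_insert ha, QuadraticMap.map_add ⇑Q, ih, h0, add_zero,
      QuadraticMap.map_smul, smul_eq_mul, sq]

/-- Orthogonal singular vectors in half the number of dimensions give plus type. -/
theorem plus_of_family {κ : Type} [Fintype κ] {b : κ → ι → F} (hli : LinearIndependent F b)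
    (hq : ∀ x, Q (b x) = 0) (ho : ∀ x y, x ≠ y → B (b x) (b y) = 0) (hd : 2 * Fintype.card κ = Fintype.card ι) :
    IsPlusTypeOn ⇑Q (⊤ : Submodule F (ι → F)) := by
  refine plus_of_half (U := Submodule.span F (Set.range b)) (fun w hw => ?_) (by rw [finrank_span_eq_card hli, hd])
  obtain ⟨c, rfl⟩ := (Submodule.mem_span_range_iff_exists_fun F).1 hw
  rw [quad_orth_sum b c ho]
  simp [hq]

section Coords

variable {κ : Type} [Fintype κ] [DecidableEq κ] (e : ι ≃ κ) (P : GL ι F)

/-- The vector with given coordinates. -/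
def cvec : (κ → F) →ₗ[F] (ι → F) := (Matrix.toLin' (P : Mn)).comp (LinearMap.funLeft F F e)

theorem cvec_apply (z : κ → F) : cvec e P z = (P : Mn) *ᵥ (z ∘ e) := rfl

theorem cvec_injective : Function.Injective (cvec e P) := by
  intro u v h
  have h1 := congrArg (((P⁻¹ : GL ι F) : Mn) *ᵥ ·) h
  simp only [cvec_apply, Matrix.mulVec_mulVec, Units.inv_mul, Matrix.one_mulVec] at h1
  funext x
  simpa using congrFun h1 (e.symm x)

theorem cvec_surjective : Function.Surjective (cvec e P) := fun v =>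
  ⟨(((P⁻¹ : GL ι F) : Mn) *ᵥ v) ∘ e.symm, by
    rw [cvec_apply, Function.comp_assoc, Equiv.symm_comp_self, Function.comp_id, Matrix.mulVec_mulVec,
      Units.mul_inv, Matrix.one_mulVec]⟩

theorem co_cvec (M : Matrix κ κ F) (z : κ → F) : co e P M *ᵥ cvec e P z = cvec e P (M *ᵥ z) := by
  rw [cvec_apply, cvec_apply, co, cj, Matrix.mulVec_mulVec, mul_assoc, Units.inv_mul, mul_one,
    ← Matrix.mulVec_mulVec]
  congr 1
  funext i
  simp only [Matrix.mulVec, dotProduct, Function.comp_apply, Matrix.reindexAlgEquiv_apply, Matrix.reindex_apply,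
    Matrix.submatrix_apply, Equiv.symm_symm]
  exact e.sum_comp fun j => M (e i) j * z j

theorem polar_cvec (z w : κ → F) :
    B (cvec e P z) (cvec e P w) = formOfGram (RingEquiv.refl F) (pull (RingEquiv.refl F) (gQ Q) e P) z w := by
  rw [← Asch.form_coords, form_eq]; rfl

/-- In characteristic two the vectors of an invariant set on which the form is semilinear are singular. -/
theorem semilinear_zero (h2 : (2 : F) = 0) (hn : 2 ≤ Fintype.card ι) {H : Subgroup (GL ι F)}
    (hH : H ≤ isometryGroup F ⇑Q) (hirr : Irr H) (S : Set (κ → F)) (hsingle : ∀ x, Pi.single x 1 ∈ S)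
    (hexp : ∀ w ∈ S, Q (cvec e P w) = ∑ x, w x ^ 2 * Q (cvec e P (Pi.single x 1)))
    (hstab : ∀ g ∈ H, ∃ M : Matrix κ κ F, (g : Mn) = co e P M ∧ ∀ w ∈ S, M *ᵥ w ∈ S) :
    ∀ w ∈ S, Q (cvec e P w) = 0 := by
  haveI : CharP F 2 := CharTwo.of_one_ne_zero_of_two_eq_zero one_ne_zero h2
  haveI : Fact (Nat.Prime 2) := ⟨Nat.prime_two⟩
  choose r hr hru using fun x => sqrt_exists h2 (Q (cvec e P (Pi.single x 1)))
  have hsq : ∀ w ∈ S, (∑ x, w x * r x) ^ 2 = Q (cvec e P w) := fun w hw => by
    rw [sum_pow_char, hexp w hw]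
    exact Finset.sum_congr rfl fun x _ => by rw [mul_pow, hr]
  let L : (κ → F) →ₗ[F] F :=
    { toFun := fun w => ∑ x, w x * r x
      map_add' := fun a b => by simp [add_mul, Finset.sum_add_distrib]
      map_smul' := fun c a => by simp [Finset.mul_sum, mul_assoc] }
  have hinv : ∀ g ∈ H, ∀ z, L z = 0 → ∀ M : Matrix κ κ F, (g : Mn) = co e P M → (∀ w ∈ S, M *ᵥ w ∈ S) →
      L (M *ᵥ z) = 0 := by
    intro g hg z hz M hgM hMS
    have hcomp : L.comp (Matrix.toLin' M) = L := by
      refine (Pi.basisFun F κ).ext fun x => ?_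
      rw [Pi.basisFun_apply, LinearMap.comp_apply, Matrix.toLin'_apply]
      obtain ⟨y, -, hy⟩ := sqrt_exists h2 (Q (cvec e P (Pi.single x 1)))
      rw [hy (L (M *ᵥ Pi.single x 1)) (by
        show (∑ _, _) ^ 2 = _
        rw [hsq _ (hMS _ (hsingle x)), ← co_cvec, ← hgM, iso_of_le hH hg]),
        hy (L (Pi.single x 1)) (hsq _ (hsingle x))]
    rw [← Matrix.toLin'_apply, ← LinearMap.comp_apply, hcomp, hz]
  let K : Submodule F (ι → F) := (LinearMap.ker L).map (cvec e P)
  have hK : K = ⊤ := by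
    refine (irr_iff.1 hirr K ?_).resolve_left fun hb => ?_
    · rintro g hg _ ⟨z, hz, rfl⟩
      obtain ⟨M, hgM, hMS⟩ := hstab g hg
      exact ⟨M *ᵥ z, hinv g hg z hz M hgM hMS, by rw [← co_cvec, hgM]⟩
    · have hk : LinearMap.ker L = ⊥ := (Submodule.eq_bot_iff _).2 fun z hz => cvec_injective e P
        (by rw [map_zero]; exact (Submodule.eq_bot_iff _).1 hb _ ⟨z, hz, rfl⟩)
      have h1 := LinearMap.finrank_range_add_finrank_ker L
      have h3 := Submodule.finrank_le (LinearMap.range L)
      rw [hk, finrank_bot, Module.finrank_pi, ← Fintype.card_congr e] at h1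
      rw [finrank_self] at h3
      omega
  intro w hw
  obtain ⟨z, hz, hzw⟩ := (hK.symm ▸ Submodule.mem_top : cvec e P w ∈ K)
  rw [← hsq w hw, show (∑ x, w x * r x) = L w from rfl, ← cvec_injective e P hzw, show L z = 0 from hz]
  simp

end Coords

theorem transpose_sq {n : ℕ} [Nonempty (Fin n)] {C : Matrix (Fin n) (Fin n) F} (hC : IsUnit C) {α : F}
    (h : Cᵀ = α • C) : α * α = 1 := by
  have h1 := congrArg Matrix.transpose h
  rw [Matrix.transpose_transpose, Matrix.transpose_smul, h, smul_smul] at h1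
  obtain ⟨i, j, hij⟩ := Asch.exists_entry (Asch.unit_ne_zero hC)
  have h3 := congrFun (congrFun h1 i) j
  rw [Matrix.smul_apply, smul_eq_mul] at h3
  exact mul_right_cancel₀ hij (by rw [one_mul]; exact h3.symm)

theorem even_of_alt {n : ℕ} {C : Matrix (Fin n) (Fin n) F} (hC : IsUnit C) (hs : ∀ p q, C q p = -C p q)
    (hd : ∀ p, C p p = 0) : Even n := by
  have hT : Cᵀ = -C := by ext p q; exact hs p q
  have h := (Asch.symplectic_of_gram hC hT (fun u => ?_)).2
  · rwa [Fintype.card_fin] at h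
  · exact Asch.alt_eval (fun a b => hs b a) hd u

/-- The plane of a symmetric factor gives a skew pair or a quadratic field. -/
theorem tensor_two_sym (h2 : (2 : F) ≠ 0) (hQ : (QuadraticMap.polarBilin Q).Nondegenerate) [Nonempty ι]
    (h3 : 3 ≤ Fintype.card ι) {H : Subgroup (GL ι F)} {b : ℕ} {e : ι ≃ Fin 2 × Fin b} {P : GL ι F}
    {C : Matrix (Fin 2) (Fin 2) F} {D : Matrix (Fin b) (Fin b) F}
    (h : TensorData (RingEquiv.refl F) (gQ Q) H e P C D) (hC : Cᵀ = C) :
    Asch.SkewPair (RingEquiv.refl F) (gQ Q) H ∨ Asch.FieldCase (RingEquiv.refl F) (gQ Q) H := by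
  have hG := refl_gQ hQ
  let ε : Matrix (Fin 2) (Fin 2) F := !![0, 1; -1, 0]
  have hdet : C.det ≠ 0 := ((Matrix.isUnit_iff_isUnit_det C).1 h.unit_left).ne_zero
  have hsym : C 1 0 = C 0 1 := congrFun (congrFun hC 0) 1
  let X : Matrix (Fin 2) (Fin 2) F := (C.det)⁻¹ • !![C 0 1, C 1 1; -C 0 0, -C 0 1]
  have hCX : C * X = ε := by
    have h1 : C * !![C 0 1, C 1 1; -C 0 0, -C 0 1] = C.det • ε := by
      ext i j
      fin_cases i <;> fin_cases j <;>
        simp [ε, Matrix.mul_apply, Fin.sum_univ_two, Matrix.det_fin_two, hsym] <;> ring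
    simp only [X, Matrix.mul_smul, h1, smul_smul, inv_mul_cancel₀ hdet, one_smul]
  have hεT : εᵀ = -ε := by ext i j; fin_cases i <;> fin_cases j <;> simp [ε]
  have hXT : Xᵀ * C = -ε := by
    have h1 := congrArg Matrix.transpose hCX
    rwa [Matrix.transpose_mul, hC, hεT] at h1
  have hXX : X * X = (-(C.det)⁻¹) • (1 : Matrix (Fin 2) (Fin 2) F) := by
    have h1 : (!![C 0 1, C 1 1; -C 0 0, -C 0 1] : Matrix (Fin 2) (Fin 2) F) * !![C 0 1, C 1 1; -C 0 0, -C 0 1] =
        (-C.det) • 1 := by
      ext i j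
      fin_cases i <;> fin_cases j <;> simp [Matrix.det_fin_two, hsym] <;> ring
    simp only [X, Matrix.smul_mul, Matrix.mul_smul, h1, smul_smul]
    congr 1
    field_simp
  clear_value X
  let T := co e P (X ⊗ₖ (1 : Matrix (Fin b) (Fin b) F))
  have hT : adj (RingEquiv.refl F) (gQ Q) T = -T := by
    have h1 : ((-X) ⊗ₖ (1 : Matrix (Fin b) (Fin b) F)) =
        adj (RingEquiv.refl F) (C ⊗ₖ D) (X ⊗ₖ (1 : Matrix (Fin b) (Fin b) F)) := by
      refine (h.gram ▸ Asch.refl_pull hG e P : Refl (RingEquiv.refl F) (C ⊗ₖ D)).adj_unique ?_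
      rw [show (((-X) ⊗ₖ (1 : Matrix (Fin b) (Fin b) F))).map (RingEquiv.refl F) = (-X) ⊗ₖ (1 : Matrix _ _ F) from
          Matrix.map_id _,
        ← Matrix.mul_kronecker_mul, Asch.kron_transpose, ← Matrix.mul_kronecker_mul, mul_one,
        Matrix.transpose_one, one_mul, Matrix.mul_neg, hCX, hXT]
    rw [Asch.adj_co hG, h.gram, ← h1]
    show co e P ((-X) ⊗ₖ (1 : Matrix (Fin b) (Fin b) F)) = -T
    rw [show ((-X) ⊗ₖ (1 : Matrix (Fin b) (Fin b) F)) = (-1 : F) • (X ⊗ₖ (1 : Matrix (Fin b) (Fin b) F)) by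
        ext i j; simp, Asch.co_smul, neg_one_smul]
  have hsq : T * T = (-(C.det)⁻¹) • (1 : Mn) := by
    rw [← Asch.co_mul, ← Matrix.mul_kronecker_mul, hXX, one_mul, Matrix.smul_kronecker, Matrix.one_kronecker_one,
      Asch.co_smul, Asch.co_one]
  have hperm : ∀ g ∈ H, cj g T = T ∨ cj g T = -T := by
    intro g hg
    obtain ⟨A, A₂, u, hg', hA, -⟩ := h.sim g hg
    set μ : F := (u : F)
    set dA := (A : Matrix (Fin 2) (Fin 2) F).det with hdA
    rw [show (A : Matrix (Fin 2) (Fin 2) F).map (RingEquiv.refl F) = (A : Matrix (Fin 2) (Fin 2) F) from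
      Matrix.map_id _] at hA
    have hεA : (A : Matrix (Fin 2) (Fin 2) F)ᵀ * (ε * A) = dA • ε := by
      ext i j
      fin_cases i <;> fin_cases j <;>
        simp [ε, hdA, Matrix.mul_apply, Fin.sum_univ_two, Matrix.det_fin_two, Matrix.vecMul, dotProduct] <;> ring
    have hμ : dA = μ ∨ dA = -μ := by
      have h1 := congrArg Matrix.det hA
      rw [Matrix.det_mul, Matrix.det_mul, Matrix.det_transpose, Matrix.det_smul, Fintype.card_fin, ← hdA] at h1
      refine sq_eq_sq_iff_eq_or_eq_neg.1 (mul_right_cancel₀ hdet ?_)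
      linear_combination h1
    have hAX : dA • ((A : Matrix (Fin 2) (Fin 2) F) * X) = μ • (X * (A : Matrix (Fin 2) (Fin 2) F)) := by
      refine (((Matrix.isUnit_transpose _).2 A.isUnit).mul h.unit_left).mul_left_cancel ?_
      rw [Matrix.mul_smul, Matrix.mul_smul, ← mul_assoc, mul_assoc (_ᵀ) C, hA, Matrix.smul_mul, hCX, mul_assoc,
        ← mul_assoc C, hCX, hεA, smul_smul, smul_smul, mul_comm]
    have hdA0 : dA ≠ 0 := ((Matrix.isUnit_iff_isUnit_det _).1 A.isUnit).ne_zero
    obtain ⟨s, hs, hAs⟩ : ∃ s : F, (s = 1 ∨ s = -1) ∧ (A : Matrix (Fin 2) (Fin 2) F) * X = s • (X * A) := by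
      refine ⟨dA⁻¹ * μ, ?_, by rw [← smul_smul, ← hAX, smul_smul, inv_mul_cancel₀ hdA0, one_smul]⟩
      rcases hμ with hμ | hμ
      · left; rw [hμ] at hdA0 ⊢; exact inv_mul_cancel₀ hdA0
      · right; rw [hμ] at hdA0 ⊢; rw [inv_neg, neg_mul, inv_mul_cancel₀ (neg_ne_zero.1 hdA0)]
    have hgT : (g : Mn) * T = s • (T * (g : Mn)) := by
      rw [hg', ← Asch.co_mul, ← Asch.co_mul, ← Matrix.mul_kronecker_mul, hAs, mul_one, ← Matrix.mul_kronecker_mul,
        one_mul, Matrix.smul_kronecker, Asch.co_smul]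
    have h1 : cj g T = s • T := by
      show (g : Mn) * T * ((g⁻¹ : GL ι F) : Mn) = _
      rw [hgT, Matrix.smul_mul, mul_assoc, Units.mul_inv, mul_one]
    rcases hs with rfl | rfl
    · exact Or.inl (by rw [h1, one_smul])
    · exact Or.inr (by rw [h1, neg_one_smul])
  exact Asch.skew_case hG h2 h3 hT (by simpa using hdet) hsq hperm

/-- A tensor decomposition with a small first factor. -/
theorem tensor_cases (hQ : (QuadraticMap.polarBilin Q).Nondegenerate) [Nonempty ι] (h3 : 3 ≤ Fintype.card ι)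
    {H : Subgroup (GL ι F)} (hH : H ≤ isometryGroup F ⇑Q) (hirr : Irr H) {a b : ℕ} {e : ι ≃ Fin a × Fin b}
    {P : GL ι F} {C : Matrix (Fin a) (Fin a) F} {D : Matrix (Fin b) (Fin b) F}
    (h : TensorData (RingEquiv.refl F) (gQ Q) H e P C D) (ha3 : a ≤ 3) :
    Asch.SkewPair (RingEquiv.refl F) (gQ Q) H ∨ Asch.FieldCase (RingEquiv.refl F) (gQ Q) H ∨
    (a = 2 ∧ Even b ∧ (∀ p, C p p = 0) ∧ (∀ p q, C q p = -C p q) ∧ (∀ s, D s s = 0) ∧ (∀ s t, D t s = -D s t) ∧
      IsPlusTypeOn ⇑Q (⊤ : Submodule F (ι → F)) ∧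
      ∀ (u : Fin a → F) (v : Fin b → F), Q (cvec e P (fun x => u x.1 * v x.2)) = 0) ∨
    (a = 3 ∧ (2 : F) ≠ 0 ∧ Cᵀ = C ∧ Dᵀ = D) := by
  classical
  have hn : a * b = Fintype.card ι := (Asch.card_of_equiv e).symm
  haveI : Nonempty (Fin a) := ⟨⟨0, by have := h.ha; omega⟩⟩
  haveI : Nonempty (Fin b) := ⟨⟨0, by have := h.hb; omega⟩⟩
  obtain ⟨α, β, hα, hβ⟩ := h.tr
  rw [show Cᵀ.map (RingEquiv.refl F) = Cᵀ from Matrix.map_id _] at hα
  rw [show Dᵀ.map (RingEquiv.refl F) = Dᵀ from Matrix.map_id _] at hβ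
  have hα2 := transpose_sq h.unit_left hα
  have hβ2 := transpose_sq h.unit_right hβ
  have hsymJ : ∀ x y, (C ⊗ₖ D) x y = (C ⊗ₖ D) y x := fun x y => by
    rw [← h.gram, ← Asch.formOfGram_single (RingEquiv.refl F) (pull (RingEquiv.refl F) (gQ Q) e P) x y,
      ← Asch.formOfGram_single (RingEquiv.refl F) (pull (RingEquiv.refl F) (gQ Q) e P) y x, ← polar_cvec,
      ← polar_cvec, QuadraticMap.polar_comm]
  have hαβ : (α : F) * β = 1 := by
    obtain ⟨i, j, hij⟩ := Asch.exists_entry (Asch.unit_ne_zero (α := Fin a × Fin b)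
      (h.gram ▸ (Asch.refl_pull (refl_gQ hQ) e P).unit : IsUnit (C ⊗ₖ D)))
    have h1 := hsymJ j i
    have e1 : C j.1 i.1 = (α : F) * C i.1 j.1 := congrFun (congrFun hα i.1) j.1
    have e2 : D j.2 i.2 = (β : F) * D i.2 j.2 := congrFun (congrFun hβ i.2) j.2
    rw [Matrix.kroneckerMap_apply, Matrix.kroneckerMap_apply, e1, e2] at h1
    rw [Matrix.kroneckerMap_apply] at hij
    have h5 : ((α : F) * β - 1) * (C i.1 j.1 * D i.2 j.2) = 0 := by linear_combination h1
    exact sub_eq_zero.1 ((mul_eq_zero.1 h5).resolve_right hij)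
  -- both factors alternating
  have halt : (∀ p q, C q p = -C p q) → (∀ p, C p p = 0) → (∀ s t, D t s = -D s t) → (∀ s, D s s = 0) →
      a = 2 ∧ Even b ∧ (∀ p, C p p = 0) ∧ (∀ p q, C q p = -C p q) ∧ (∀ s, D s s = 0) ∧
      (∀ s t, D t s = -D s t) ∧ IsPlusTypeOn ⇑Q (⊤ : Submodule F (ι → F)) ∧
      ∀ (u : Fin a → F) (v : Fin b → F), Q (cvec e P (fun x => u x.1 * v x.2)) = 0 := by
    intro hCs hC0 hDs hD0
    have hae := even_of_alt h.unit_left hCs hC0
    have ha2 : a = 2 := by
      have := h.ha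
      rcases hae with ⟨i, hi⟩
      omega
    subst ha2
    let pv : (Fin 2 → F) → (Fin b → F) → (Fin 2 × Fin b → F) := fun u v x => u x.1 * v x.2
    have hBpv : ∀ u u' v v', B (cvec e P (pv u v)) (cvec e P (pv u' v')) =
        formOfGram (RingEquiv.refl F) C u u' * formOfGram (RingEquiv.refl F) D v v' := by
      intro u u' v v'
      rw [polar_cvec, h.gram]
      simp only [formOfGram, pv, Fintype.sum_prod_type, Matrix.kroneckerMap_apply, RingEquiv.refl_apply,
        Finset.sum_mul_sum]
      refine Finset.sum_congr rfl fun p _ => Finset.sum_congr rfl fun s _ => ?_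
      refine Finset.sum_congr rfl fun q _ => Finset.sum_congr rfl fun t _ => ?_
      ring
    have hzC : ∀ u, formOfGram (RingEquiv.refl F) C u u = 0 := fun u => by
      rw [Asch.formOfGram_eq]; exact Asch.alt_eval (fun p q => hCs q p) hC0 u
    have hzD : ∀ v, formOfGram (RingEquiv.refl F) D v v = 0 := fun v => by
      rw [Asch.formOfGram_eq]; exact Asch.alt_eval (fun p q => hDs q p) hD0 v
    have hsing : ∀ u v, Q (cvec e P (pv u v)) = 0 := by
      by_cases h2 : (2 : F) = 0
      swap
      · intro u v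
        have h1 := hBpv u u v v
        rw [polar_two, hzC, zero_mul] at h1
        exact (mul_eq_zero.1 h1).resolve_left h2
      have hsingle : ∀ x : Fin 2 × Fin b, pv (Pi.single x.1 1) (Pi.single x.2 1) = Pi.single x 1 := by
        rintro ⟨p, s⟩
        ext ⟨p', s'⟩
        by_cases h1 : p' = p <;> by_cases h2 : s' = s <;> simp [pv, Pi.single_apply, h1, h2]
      intro u v
      refine semilinear_zero e P h2 (by omega) hH hirr {z | ∃ u v, pv u v = z}
        (fun x => ⟨_, _, hsingle x⟩) ?_ ?_ _ ⟨u, v, rfl⟩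
      · rintro _ ⟨u, v, rfl⟩
        have e1 : cvec e P (pv u v) = ∑ p, u p • cvec e P (pv (Pi.single p 1) v) := by
          simp only [← map_smul, ← map_sum]
          congr 1
          funext x
          simp [pv, Finset.sum_apply, Pi.single_apply]
        have e2 : ∀ p, cvec e P (pv (Pi.single p 1) v) = ∑ s, v s • cvec e P (Pi.single (p, s) 1) := by
          intro p
          simp only [← map_smul, ← map_sum]
          congr 1
          funext x
          obtain ⟨p', s'⟩ := x
          by_cases hp : p' = p <;> simp [pv, Finset.sum_apply, Pi.single_apply, hp]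
        rw [e1, quad_orth_sum _ _ (fun p q hpq => by rw [hBpv, hzD, mul_zero]), Fintype.sum_prod_type]
        refine Finset.sum_congr rfl fun p _ => ?_
        rw [e2, quad_orth_sum _ _ (fun s t hst => by
          rw [← hsingle, ← hsingle, hBpv, hzC, zero_mul]), Finset.mul_sum]
        exact Finset.sum_congr rfl fun s _ => by simp only [pv]; ring
      · intro g hg
        obtain ⟨A, A₂, -, hg', -, -⟩ := h.sim g hg
        refine ⟨_, hg', ?_⟩
        rintro _ ⟨u, v, rfl⟩
        refine ⟨(A : Matrix (Fin 2) (Fin 2) F) *ᵥ u, (A₂ : Matrix (Fin b) (Fin b) F) *ᵥ v, ?_⟩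
        ext ⟨p, s⟩
        simp only [pv, Matrix.mulVec, dotProduct, Fintype.sum_prod_type, Matrix.kroneckerMap_apply, Finset.sum_mul_sum]
        exact Finset.sum_congr rfl fun _ _ => Finset.sum_congr rfl fun _ _ => by ring
    refine ⟨rfl, even_of_alt h.unit_right hDs hD0, hC0, hCs, hD0, hDs, ?_, fun u v => hsing u v⟩
    let bb : Fin b → ι → F := fun s => cvec e P (pv (Pi.single 0 1) (Pi.single s 1))
    refine plus_of_family (b := bb) ?_ (fun s => hsing _ _) (fun s t _ => by rw [hBpv, hzC, zero_mul])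
      (by rw [Fintype.card_fin, ← hn])
    have hbb : bb = (cvec e P) ∘ (fun s => Pi.single ((0 : Fin 2), s) (1 : F)) := by
      funext s
      show cvec e P _ = cvec e P _
      congr 1
      funext x
      obtain ⟨p', s'⟩ := x
      by_cases hp : p' = 0 <;> simp [pv, Pi.single_apply, hp]
    rw [hbb]
    refine LinearIndependent.map' ?_ _ (LinearMap.ker_eq_bot.2 (cvec_injective e P))
    have h1 := (Pi.basisFun F (Fin 2 × Fin b)).linearIndependent.comp (fun s => ((0 : Fin 2), s))
      (fun s t hst => congrArg Prod.snd hst)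
    simpa [Function.comp_def] using h1
  by_cases h2 : (2 : F) = 0
  · have hone : ∀ x : F, x * x = 1 → x = 1 := fun x hx => by
      have h1 : (x - 1) * (x - 1) = 0 := by linear_combination hx + (1 - x) * h2
      exact sub_eq_zero.1 (mul_self_eq_zero.1 h1)
    have hneg : ∀ x : F, -x = x := fun x => by linear_combination -(x * h2)
    have hCs : ∀ p q, C p q = C q p := fun p q => by
      have := congrFun (congrFun hα p) q
      rw [hone _ hα2, one_smul] at this
      exact this.symm
    have hDs : ∀ s t, D s t = D t s := fun s t => by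
      have := congrFun (congrFun hβ s) t
      rw [hone _ hβ2, one_smul] at this
      exact this.symm
    have hz : ∀ p s, C p p * D s s = 0 := fun p s => by
      have h1 : formOfGram (RingEquiv.refl F) (C ⊗ₖ D) (Pi.single (p, s) 1) (Pi.single (p, s) 1) = 0 := by
        rw [← h.gram, ← polar_cvec, polar_two, h2, zero_mul]
      rwa [Asch.formOfGram_single, Matrix.kroneckerMap_apply] at h1
    by_cases hC : ∀ p, C p p = 0
    · by_cases hD : ∀ s, D s s = 0
      · exact Or.inr (Or.inr (Or.inl (halt (fun p q => by rw [hneg]; exact hCs q p) hC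
          (fun p q => by rw [hneg]; exact hDs q p) hD)))
      · exfalso
        obtain ⟨w, hw, hwB⟩ := Asch.exists_diag_functional h2 hDs hD
        refine Asch.not_irr_of_functional e P (by have := h.ha; omega) h.hb hw (fun g hg => ?_) hirr
        obtain ⟨A, A₂, u, hg', -, hB⟩ := h.sim g hg
        obtain ⟨l, hl⟩ := hwB A₂ _ hB
        exact ⟨_, _, l, hg', hl⟩
    · exfalso
      push Not at hC
      obtain ⟨p, hp⟩ := hC
      have h' := h.swap
      obtain ⟨w, hw, hwB⟩ := Asch.exists_diag_functional h2 hCs (fun hall => hp (hall p))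
      refine Asch.not_irr_of_functional (e.trans (Equiv.prodComm _ _)) P (by have := h.hb; omega) h.ha hw
        (fun g hg => ?_) hirr
      obtain ⟨A, A₂, u, hg', -, hB⟩ := h'.sim g hg
      obtain ⟨l, hl⟩ := hwB A₂ _ hB
      exact ⟨_, _, l, hg', hl⟩
  rcases mul_self_eq_one_iff.1 hα2 with hα1 | hα1
  · have hβ1 : (β : F) = 1 := by rw [hα1, one_mul] at hαβ; exact hαβ
    have hCT : Cᵀ = C := by rw [hα, hα1, one_smul]
    have hDT : Dᵀ = D := by rw [hβ, hβ1, one_smul]
    have := h.ha
    interval_cases a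
    · rcases tensor_two_sym h2 hQ h3 h hCT with h' | h'
      · exact Or.inl h'
      · exact Or.inr (Or.inl h')
    · exact Or.inr (Or.inr (Or.inr ⟨rfl, h2, hCT, hDT⟩))
  · have hβ1 : (β : F) = -1 := by rw [hα1] at hαβ; linear_combination -hαβ
    have hdiag : ∀ {m : ℕ} (M : Matrix (Fin m) (Fin m) F), (∀ p q, M q p = -M p q) → ∀ p, M p p = 0 :=
      fun M hM p => (mul_eq_zero.1 (show (2 : F) * M p p = 0 by linear_combination hM p p)).resolve_left h2
    have hCs : ∀ p q, C q p = -C p q := fun p q => by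
      have := congrFun (congrFun hα p) q
      rw [hα1, neg_one_smul] at this
      exact this
    have hDs : ∀ s t, D t s = -D s t := fun s t => by
      have := congrFun (congrFun hβ s) t
      rw [hβ1, neg_one_smul] at this
      exact this
    exact Or.inr (Or.inr (Or.inl (halt hCs (hdiag C hCs) hDs (hdiag D hDs))))

/-- A tensor power of a plane with a family of factors gives plus type in dimension eight. -/
theorem family_eight (hQ : (QuadraticMap.polarBilin Q).Nondegenerate) [Nonempty ι] (h8 : Fintype.card ι = 8)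
    {H : Subgroup (GL ι F)} (hH : H ≤ isometryGroup F ⇑Q) (hirr : Irr H)
    (h : Asch.FamilyMin (RingEquiv.refl F) (gQ Q) H) : IsPlusTypeOn ⇑Q (⊤ : Submodule F (ι → F)) := by
  classical
  obtain ⟨N, t, T, hN, hNG, hT⟩ := h
  obtain ⟨k, e, P, D, hP, -⟩ := Asch.powerData_of_family (refl_gQ hQ) (fix_gQ hH) hNG hN hT
  obtain ⟨ht, hk, hDu, ⟨β, hβ⟩, ⟨c, hc, hgram⟩, hle⟩ := hP
  haveI : Nonempty (Fin k) := ⟨⟨0, by omega⟩⟩
  have hkt : k ^ t = 8 := by
    rw [← h8, Fintype.card_congr e, Fintype.card_fun, Fintype.card_fin, Fintype.card_fin]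
  have hk2 : k = 2 := by
    have h1 : k ^ 2 ≤ k ^ t := Nat.pow_le_pow_right (by omega) ht
    by_contra hne
    have : 3 ^ 2 ≤ k ^ 2 := Nat.pow_le_pow_left (by omega) 2
    omega
  subst hk2
  obtain rfl : t = 3 := Nat.pow_right_injective le_rfl (hkt.trans (by norm_num))
  rw [show Dᵀ.map (RingEquiv.refl F) = Dᵀ from Matrix.map_id _] at hβ
  have hBpure : ∀ w w' : Fin 3 → Fin 2 → F, B (cvec e P (pureVec w)) (cvec e P (pureVec w')) =
      c * ∏ i, formOfGram (RingEquiv.refl F) D (w i) (w' i) := by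
    intro w w'
    rw [polar_cvec, hgram, Asch.formOfGram_smul]
    congr 1
    simp only [formOfGram, pureVec, pureMat, Matrix.of_apply, RingEquiv.refl_apply]
    rw [Fintype.prod_sum]
    refine Finset.sum_congr rfl fun x _ => ?_
    rw [Fintype.prod_sum]
    exact Finset.sum_congr rfl fun y _ => by rw [← Finset.prod_mul_distrib, ← Finset.prod_mul_distrib]
  have hsymD : ∀ a b, D b a = (β : F) * D a b := fun a b => congrFun (congrFun hβ a) b
  by_cases h2 : (2 : F) = 0
  · have hD0 : ∀ a, D a a = 0 := fun a => by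
      have h1 := hBpure (fun _ => Pi.single a 1) (fun _ => Pi.single a 1)
      rw [polar_two, h2, zero_mul, eq_comm, mul_eq_zero, or_iff_right hc, Finset.prod_const,
        Asch.formOfGram_single] at h1
      exact eq_zero_of_pow_eq_zero h1
    have hone : (β : F) = 1 := by
      have hb := transpose_sq hDu hβ
      exact sub_eq_zero.1 (mul_self_eq_zero.1 (show ((β : F) - 1) * (β - 1) = 0 by
        linear_combination hb + (1 - (β : F)) * h2))
    have hzD : ∀ v, formOfGram (RingEquiv.refl F) D v v = 0 := fun v => by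
      rw [Asch.formOfGram_eq]
      exact Asch.alt_eval (fun p q => by rw [hsymD q p, hone, one_mul]; linear_combination D q p * h2) hD0 v
    have hB0 : ∀ w w' : Fin 3 → Fin 2 → F, (∃ i, w i = w' i) → B (cvec e P (pureVec w)) (cvec e P (pureVec w')) = 0 :=
      fun w w' ⟨i, hi⟩ => by
        rw [hBpure, Finset.prod_eq_zero (Finset.mem_univ i) (by rw [hi, hzD]), mul_zero]
    have hslot : ∀ (w : Fin 3 → Fin 2 → F) (i : Fin 3),
        Q (cvec e P (pureVec w)) = ∑ j, w i j ^ 2 * Q (cvec e P (pureVec (Function.update w i (Pi.single j 1)))) := by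
      intro w i
      have hexp : pureVec w = ∑ j, w i j • pureVec (Function.update w i (Pi.single j 1)) := by
        funext x
        simp only [Finset.sum_apply, Pi.smul_apply, smul_eq_mul, pureVec]
        rw [Finset.sum_eq_single (x i) (fun j _ hj => ?_) (by simp)]
        · rw [← Finset.mul_prod_erase _ (fun l => w l (x l)) (Finset.mem_univ i),
            ← Finset.mul_prod_erase _ (fun l => Function.update w i (Pi.single (x i) 1) l (x l)) (Finset.mem_univ i),
            Function.update_self, Pi.single_eq_same, one_mul]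
          congr 1
          exact Finset.prod_congr rfl fun l hl => by rw [Function.update_of_ne (Finset.ne_of_mem_erase hl)]
        · rw [Finset.prod_eq_zero (Finset.mem_univ i) (by rw [Function.update_self, Pi.single_eq_of_ne hj.symm]),
            mul_zero]
      conv_lhs => rw [hexp, map_sum]; simp only [map_smul]
      refine quad_orth_sum _ _ fun j j' _ => hB0 _ _ ?_
      obtain ⟨l, hl⟩ : ∃ l : Fin 3, l ≠ i := exists_ne i
      exact ⟨l, by rw [Function.update_of_ne hl, Function.update_of_ne hl]⟩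
    have hzero : ∀ w, Q (cvec e P (pureVec w)) = 0 := by
      intro w
      refine semilinear_zero e P h2 (by omega) hH hirr (Set.range (pureVec (F := F) (k := 2) (t := 3)))
        (fun x => ⟨_, Asch.pureVec_single x⟩) ?_ ?_ _ ⟨w, rfl⟩
      · rintro _ ⟨w, rfl⟩
        rw [hslot w 0]
        let E : (Fin 3 → Fin 2) ≃ Fin 2 × Fin 2 × Fin 2 :=
          { toFun := fun x => (x 0, x 1, x 2)
            invFun := fun p => ![p.1, p.2.1, p.2.2]
            left_inv := fun x => by funext i; fin_cases i <;> rfl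
            right_inv := fun p => rfl }
        have hE : ∀ j j' j'', E.symm (j, j', j'') = ![j, j', j''] := fun _ _ _ => rfl
        rw [← E.symm.sum_comp, Fintype.sum_prod_type]
        refine Finset.sum_congr rfl fun j _ => ?_
        rw [hslot _ 1, Finset.mul_sum, Fintype.sum_prod_type]
        refine Finset.sum_congr rfl fun j' _ => ?_
        rw [hslot _ 2, Finset.mul_sum, Finset.mul_sum]
        refine Finset.sum_congr rfl fun j'' _ => ?_
        rw [← Asch.pureVec_single, show Function.update (Function.update (Function.update w 0 (Pi.single j 1)) 1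
            (Pi.single j' 1)) 2 (Pi.single j'' 1) = fun i => Pi.single ((E.symm (j, j', j'')) i) (1 : F) by
          rw [hE]; funext i; fin_cases i <;> simp [Function.update_apply]]
        rw [hE]
        simp [pureVec, Fin.prod_univ_three, Function.update_apply]
        ring
      · intro g hg
        obtain ⟨x, hx, hgx⟩ := Asch.exists_mem_wreath (hle hg)
        exact ⟨_, hgx, Asch.standard_pureVec hx⟩
    let bb : Fin 2 × Fin 2 → ι → F := fun p => cvec e P (Pi.single ![0, p.1, p.2] 1)
    refine plus_of_family (b := bb) ?_ (fun p => ?_) (fun p q _ => ?_) (by rw [h8]; rfl)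
    · refine LinearIndependent.map' ?_ _ (LinearMap.ker_eq_bot.2 (cvec_injective e P))
      have h1 := (Pi.basisFun F (Fin 3 → Fin 2)).linearIndependent.comp
        (fun p : Fin 2 × Fin 2 => (![0, p.1, p.2] : Fin 3 → Fin 2))
        (fun p q hpq => Prod.ext (congrFun hpq 1) (congrFun hpq 2))
      simpa [Function.comp_def] using h1
    · simp only [bb]
      rw [← Asch.pureVec_single]; exact hzero _
    · simp only [bb]
      rw [← Asch.pureVec_single, ← Asch.pureVec_single]
      exact hB0 _ _ ⟨0, rfl⟩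
  · have hβ3 : (β : F) ^ 3 = 1 := by
      obtain ⟨a, b, hab⟩ := Asch.exists_entry (Asch.unit_ne_zero hDu)
      have h1 := hBpure (fun _ => Pi.single a 1) (fun _ => Pi.single b 1)
      have h3 := hBpure (fun _ => Pi.single b 1) (fun _ => Pi.single a 1)
      rw [QuadraticMap.polar_comm, h1] at h3
      simp only [Asch.formOfGram_single, Finset.prod_const, Finset.card_univ, Fintype.card_fin, hsymD a b] at h3
      exact mul_right_cancel₀ (mul_ne_zero hc (pow_ne_zero 3 hab)) (by linear_combination -h3)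
    have hβ1 : (β : F) = 1 := by
      have hb := transpose_sq hDu hβ
      linear_combination hβ3 - (β : F) * hb
    have hDT : Dᵀ = D := by rw [hβ, hβ1, one_smul]
    let ε : Matrix (Fin 2) (Fin 2) F := !![0, 1; -1, 0]
    let X : Matrix (Fin 2) (Fin 2) F := D⁻¹ * ε
    have hdet : D.det ≠ 0 := ((Matrix.isUnit_iff_isUnit_det D).1 hDu).ne_zero
    have hsym : D 1 0 = D 0 1 := congrFun (congrFun hDT 0) 1
    have hinv : D⁻¹ = D.det⁻¹ • !![D 1 1, -D 0 1; -D 1 0, D 0 0] := by
      rw [Matrix.inv_def, Matrix.adjugate_fin_two, Ring.inverse_eq_inv]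
    have hXX : X * X = (-(D.det)⁻¹) • (1 : Matrix (Fin 2) (Fin 2) F) := by
      have hMM : (!![D 1 1, -D 0 1; -D 1 0, D 0 0] * ε) * (!![D 1 1, -D 0 1; -D 1 0, D 0 0] * ε) =
          (-D.det) • (1 : Matrix (Fin 2) (Fin 2) F) := by
        ext i j
        fin_cases i <;> fin_cases j <;> simp [ε, Matrix.det_fin_two, hsym] <;> ring
      simp only [X, hinv, Matrix.smul_mul, Matrix.mul_smul, smul_smul]
      rw [hMM, smul_smul]
      congr 1
      field_simp
    have hXd : D⁻¹ * (Xᵀ * D) = -X := by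
      have hu : IsUnit D.det := IsUnit.mk0 _ hdet
      simp only [X, Matrix.transpose_mul, Matrix.transpose_nonsing_inv, hDT, mul_assoc]
      rw [Matrix.nonsing_inv_mul _ hu, mul_one]
      rw [show εᵀ = -ε by ext i j; fin_cases i <;> fin_cases j <;> simp [ε], Matrix.mul_neg]
    let T₀ := Asch.slot (F := F) (k := 3) (0 : Fin 3) X
    have hR : Refl (RingEquiv.refl F) (c • pureMat (fun _ : Fin 3 => D)) := hgram ▸ Asch.refl_pull (refl_gQ hQ) e P
    have hadj : adj (RingEquiv.refl F) (gQ Q) (co e P T₀) = -co e P T₀ := by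
      rw [Asch.adj_co (refl_gQ hQ), hgram, Asch.adj_pure_slot hR 0 hDu, hXd]
      show co e P (Asch.slot (0 : Fin 3) ((-X).map (RingEquiv.refl F))) = -co e P (Asch.slot (0 : Fin 3) X)
      rw [show (-X).map (RingEquiv.refl F) = -X from Matrix.map_id _, ← neg_one_smul F (co e P _), ← Asch.co_smul]
      congr 1
      ext x y
      simp only [Asch.slot, Matrix.of_apply, Matrix.smul_apply, smul_eq_mul, Matrix.neg_apply]
      split <;> ring
    have hsq : co e P T₀ * co e P T₀ = (-(D.det)⁻¹) • (1 : Mn) := by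
      rw [← Asch.co_mul, show T₀ * T₀ = (-(D.det)⁻¹) • (1 : Matrix (Fin 3 → Fin 2) (Fin 3 → Fin 2) F) by
        simp only [T₀, Asch.slot_eq_pure, Asch.pureMat_mul]
        rw [← Asch.pureMat_one]
        have h1 := Asch.pureMat_smul (Function.update (fun _ : Fin 3 => (1 : F)) 0 (-(D.det)⁻¹))
          (fun _ => (1 : Matrix (Fin 2) (Fin 2) F))
        rw [Finset.prod_update_of_mem (Finset.mem_univ _), Finset.prod_const_one, mul_one] at h1
        rw [← h1]
        congr 1
        funext l
        by_cases hl : l = 0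
        · subst hl; simp [hXX]
        · simp [Function.update_of_ne hl], Asch.co_smul, Asch.co_one]
    exact skew_scalar_plus h2 hQ hadj (by simpa using hdet) hsq (by rw [h8]; norm_num) (by omega)

/-- An abelian minimal normal subgroup gives plus type in dimension eight and occurs in no other case. -/
theorem abelian_case (hQ : (QuadraticMap.polarBilin Q).Nondegenerate) [Nonempty ι] (h3 : 3 ≤ Fintype.card ι)
    {H : Subgroup (GL ι F)} (hH : H ≤ isometryGroup F ⇑Q) (h : Asch.AbelianMin H) :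
    (∃ j, Fintype.card ι = 2 ^ j) ∧ IsPlusTypeOn ⇑Q (⊤ : Submodule F (ι → F)) := by
  classical
  obtain ⟨N, hN, hscal, hle, hn, hmin, hab⟩ := h
  have hG := refl_gQ hQ
  have hfix := fix_gQ hH
  have hNG : Asch.Sims (RingEquiv.refl F) N (gQ Q) := hfix.sims.sup_scalars.mono hle
  obtain ⟨r, hD⟩ := Asch.exists_abData (by omega) hN hscal hn hmin hab
  obtain ⟨hr, htwo, -⟩ := Asch.abelian_bilinear (by omega) hG hNG hD
  subst hr
  have hpow : ∃ j, Fintype.card ι = 2 ^ j := by
    haveI : Fintype (N ⧸ Asch.scalIn N) := Fintype.ofFinite _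
    haveI : Fact (Nat.Prime 2) := ⟨Nat.prime_two⟩
    obtain ⟨-, hcard⟩ := Asch.basis_spec hD
    obtain ⟨k, hk⟩ := (Asch.isPGroup_quot hD).exists_card_eq
    rw [Nat.card_eq_fintype_card, hcard] at hk
    obtain ⟨j, -, hj⟩ := (Nat.dvd_prime_pow Nat.prime_two).1 (Dvd.intro _ hk : Fintype.card ι ∣ 2 ^ k)
    exact ⟨j, hj⟩
  refine ⟨hpow, ?_⟩
  obtain ⟨j, hj⟩ := hpow
  have h4 : 4 ∣ Fintype.card ι := by
    rw [hj]
    have hj2 : 2 ≤ j := by
      by_contra hlt
      have := Nat.pow_le_pow_right (show 0 < 2 by norm_num) (show j ≤ 1 by omega)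
      omega
    exact pow_dvd_pow 2 hj2
  -- the isometric representatives have scalar squares one or minus one
  have hsc : ∀ c : Fˣ, (Asch.sc c : GL ι F) ∈ H → (c : F) * c = 1 := fun c hc => by
    obtain ⟨v, hv⟩ : ∃ v, Q v ≠ 0 := by
      by_contra hno
      push Not at hno
      obtain ⟨x, hx⟩ := nd_left hQ (v := Pi.single (Classical.arbitrary ι) (1 : F)) (by simp)
      exact hx (by rw [QuadraticMap.polar, hno, hno, hno, sub_zero, sub_zero])
    have h1 := iso_of_le hH hc v
    rw [Asch.sc_coe, Matrix.smul_mulVec, Matrix.one_mulVec, QuadraticMap.map_smul, smul_eq_mul] at h1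
    exact mul_right_cancel₀ hv (by rw [one_mul]; exact h1)
  obtain ⟨y, hyH, hy⟩ : ∃ y ∈ H, (y : Mn) * y = (-1 : F) • (1 : Mn) := by
    by_contra hno
    push Not at hno
    have hall : ∀ y ∈ N, y ∈ H → y * y = 1 := by
      intro y hyN hyH
      obtain ⟨c, hc⟩ := Asch.exists_sc (hD.pow_mem y hyN)
      rw [pow_two] at hc
      rcases mul_self_eq_one_iff.1 (hsc c (hc ▸ H.mul_mem hyH hyH)) with h1 | h1
      · rw [hc, show c = 1 from Units.ext h1, map_one]
      · refine absurd ?_ (hno y hyH)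
        rw [← Units.val_mul, hc, Asch.sc_coe, h1]
    obtain ⟨x, hx, y, hy, c, hc1, -, hc⟩ := Asch.exists_noncomm (by omega) hD
    obtain ⟨x', hx', zx, hzx, rfl⟩ := Asch.exists_mul_scalar (hle hx)
    obtain ⟨y', hy', zy, hzy, rfl⟩ := Asch.exists_mul_scalar (hle hy)
    have hx'N : x' ∈ N := by simpa using N.mul_mem hx (N.inv_mem (hscal hzx))
    have hy'N : y' ∈ N := by simpa using N.mul_mem hy (N.inv_mem (hscal hzy))
    have hcomm : y' * x' = x' * y' := by
      have e1 : x'⁻¹ = x' := inv_eq_of_mul_eq_one_right (hall _ hx'N hx')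
      have e2 : y'⁻¹ = y' := inv_eq_of_mul_eq_one_right (hall _ hy'N hy')
      have e3 := inv_eq_of_mul_eq_one_right (hall _ (N.mul_mem hx'N hy'N) (H.mul_mem hx' hy'))
      rw [_root_.mul_inv_rev, e1, e2] at e3
      exact e3
    have hcomm2 : y' * zy * (x' * zx) = x' * zx * (y' * zy) := by
      rw [Commute.mul_mul_mul_comm (Asch.scalar_comm_gl hzy x'), hcomm,
        Commute.mul_mul_mul_comm (Asch.scalar_comm_gl hzx y'), Asch.scalar_comm_gl hzx zy]
    exact hc1 (Asch.sc_injective (ι := ι) (by rw [map_one]; exact right_eq_mul.1 (hcomm2.symm.trans hc)))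
  have hadj : adj (RingEquiv.refl F) (gQ Q) (y : Mn) = -(y : Mn) := by
    rw [hG.adj_iso (hfix y hyH)]
    have h1 : (y : Mn) * (-(y : Mn)) = 1 := by rw [Matrix.mul_neg, hy, neg_one_smul, neg_neg]
    calc ((y⁻¹ : GL ι F) : Mn) = ((y⁻¹ : GL ι F) : Mn) * ((y : Mn) * (-(y : Mn))) := by rw [h1, mul_one]
      _ = _ := by rw [← mul_assoc, Units.inv_mul, one_mul]
  exact skew_scalar_plus htwo hQ hadj (neg_ne_zero.2 one_ne_zero) hy h4 (by omega)

end Cfsg.Agent.Classical.AschEven
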