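import Cfsg.Agent.Lib.Classical.AschTensor
import Cfsg.Agent.Lib.Classical.AschForms

/-!
A tensor power of two-dimensional spaces preserves the tensor power of the determinant form up to scalars.
-/

set_option autoImplicit false
set_option linter.unusedSectionVars false
set_option linter.unusedFintypeInType false
set_option linter.unusedDecidableInType false

namespace Cfsg.Agent.Classical.Asch

open Matrix Module Cfsg.Geo

variable {F : Type*} [Field F] {ι : Type} [Fintype ι] [DecidableEq ι]

/-- A pure tensor of matrices. -/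
def pureMat {k m : ℕ} (gs : Fin k → Matrix (Fin m) (Fin m) F) : Matrix (Fin k → Fin m) (Fin k → Fin m) F :=
  Matrix.of fun x y => ∏ i, gs i (x i) (y i)

theorem pureMat_mul {k m : ℕ} (gs hs : Fin k → Matrix (Fin m) (Fin m) F) :
    pureMat gs * pureMat hs = pureMat fun i => gs i * hs i := by
  ext x y
  simp only [pureMat, Matrix.mul_apply, Matrix.of_apply, ← Finset.prod_mul_distrib]
  exact (Fintype.prod_sum fun i j => gs i (x i) j * hs i j (y i)).symm

theorem pureMat_transpose {k m : ℕ} (gs : Fin k → Matrix (Fin m) (Fin m) F) :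
    (pureMat gs)ᵀ = pureMat fun i => (gs i)ᵀ := rfl

theorem pureMat_smul {k m : ℕ} (c : Fin k → F) (gs : Fin k → Matrix (Fin m) (Fin m) F) :
    pureMat (fun i => c i • gs i) = (∏ i, c i) • pureMat gs := by
  ext x y
  simp [pureMat, Finset.prod_mul_distrib]

theorem pureMat_one {k m : ℕ} : pureMat (fun _ : Fin k => (1 : Matrix (Fin m) (Fin m) F)) = 1 := by
  ext x y
  by_cases h : x = y
  · subst h; simp [pureMat]
  · rw [Matrix.one_apply_ne h]
    obtain ⟨i, hi⟩ := Function.ne_iff.1 h
    exact Finset.prod_eq_zero (Finset.mem_univ i) (Matrix.one_apply_ne hi)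

/-- The determinant form of the plane. -/
def detForm : Matrix (Fin 2) (Fin 2) F := !![0, 1; -1, 0]

theorem detForm_conj (A : Matrix (Fin 2) (Fin 2) F) : Aᵀ * (detForm * A) = A.det • (detForm : Matrix (Fin 2) (Fin 2) F) := by
  ext i j
  fin_cases i <;> fin_cases j <;> simp [detForm, Matrix.mul_apply, Fin.sum_univ_two, Matrix.det_fin_two, Matrix.vecMul, dotProduct] <;> ring

theorem tensorWreath_two_similar {k : ℕ} {g : GL (Fin k → Fin 2) F} (hg : g ∈ tensorWreathStandard 2 k F) :
    ∃ c : Fˣ, (g : Matrix (Fin k → Fin 2) (Fin k → Fin 2) F)ᵀ *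
      (pureMat (fun _ => detForm) * (g : Matrix (Fin k → Fin 2) (Fin k → Fin 2) F)) =
      (c : F) • pureMat (fun _ => detForm) := by
  induction hg using Subgroup.closure_induction with
  | mem g hg =>
    rcases hg with ⟨gs, hgs⟩ | ⟨σ, hσ⟩
    · refine ⟨∏ i, Matrix.GeneralLinearGroup.det (gs i), ?_⟩
      rw [show (g : Matrix (Fin k → Fin 2) (Fin k → Fin 2) F) =
          pureMat fun i => (gs i : Matrix (Fin 2) (Fin 2) F) from Matrix.ext hgs, pureMat_transpose, pureMat_mul,
        pureMat_mul]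
      simp only [detForm_conj]
      rw [pureMat_smul]
      simp
    · refine ⟨1, ?_⟩
      have hg' : (g : Matrix (Fin k → Fin 2) (Fin k → Fin 2) F) = permMat σ := Matrix.ext hσ
      rw [hg', Units.val_one, one_smul]
      ext x y
      rw [Matrix.mul_apply, Finset.sum_eq_single (x ∘ σ.symm) (fun w _ hw => by
          rw [Matrix.transpose_apply]
          have : ¬ x = w ∘ σ := fun h => hw (by rw [h]; ext l; simp)
          simp [permMat, this]) (fun h => absurd (Finset.mem_univ _) h),
        Matrix.mul_apply, Finset.sum_eq_single (y ∘ σ.symm) (fun w _ hw => by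
          have : ¬ y = w ∘ σ := fun h => hw (by rw [h]; ext l; simp)
          simp [permMat, this]) (fun h => absurd (Finset.mem_univ _) h)]
      have hx : x = (x ∘ σ.symm) ∘ σ := by ext l; simp
      have hy : y = (y ∘ σ.symm) ∘ σ := by ext l; simp
      simp only [permMat, Matrix.transpose_apply, Matrix.of_apply, if_pos hx, if_pos hy, one_mul, mul_one, pureMat,
        Function.comp_apply]
      exact Equiv.prod_comp σ.symm fun i => detForm (x i) (y i)
  | one => exact ⟨1, by simp⟩
  | mul a b _ _ ha hb =>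
    obtain ⟨c, hc⟩ := ha
    obtain ⟨d, hd⟩ := hb
    refine ⟨c * d, ?_⟩
    set G := pureMat (F := F) fun _ : Fin k => (detForm : Matrix (Fin 2) (Fin 2) F)
    calc ((a * b : GL _ F) : Matrix _ _ F)ᵀ * (G * ((a * b : GL _ F) : Matrix _ _ F))
        = (b : Matrix _ _ F)ᵀ * (((a : Matrix _ _ F)ᵀ * (G * (a : Matrix _ _ F))) * (b : Matrix _ _ F)) := by
          rw [Units.val_mul, Matrix.transpose_mul]; simp [mul_assoc]
      _ = _ := by rw [hc, Matrix.smul_mul, Matrix.mul_smul, hd, smul_smul, Units.val_mul]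
  | inv a _ ha =>
    obtain ⟨c, hc⟩ := ha
    refine ⟨c⁻¹, ?_⟩
    set G := pureMat (F := F) fun _ : Fin k => (detForm : Matrix (Fin 2) (Fin 2) F)
    have h1 : ((a⁻¹ : GL _ F) : Matrix _ _ F)ᵀ * (((a : Matrix _ _ F)ᵀ * (G * (a : Matrix _ _ F))) *
        ((a⁻¹ : GL _ F) : Matrix _ _ F)) = G := by
      rw [mul_assoc, mul_assoc, Units.mul_inv, mul_one, ← mul_assoc, ← Matrix.transpose_mul, Units.mul_inv,
        Matrix.transpose_one, one_mul]
    rw [hc, Matrix.smul_mul, Matrix.mul_smul] at h1
    conv_rhs => rw [← h1]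
    rw [smul_smul, Units.inv_mul, one_smul]

/-- The stabiliser of a tensor power of planes lies in a similarity group. -/
theorem formClass_of_wreath_two [Fintype F] [Nonempty ι] {H : Subgroup (GL ι F)} {k : ℕ} (hk : 1 ≤ k)
    {e : ι ≃ (Fin k → Fin 2)} {P : GL ι F} (hle : H ≤ tensorWreathSubgroup 2 k e P) : InFormClass H := by
  set G₀ := pureMat (F := F) fun _ : Fin k => (detForm : Matrix (Fin 2) (Fin 2) F) with hG₀
  set G : Matrix ι ι F := ((P⁻¹ : GL ι F) : Matrix ι ι F)ᵀ * (Matrix.reindexAlgEquiv F F e.symm G₀ *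
    ((P⁻¹ : GL ι F) : Matrix ι ι F)) with hG
  let J' : Matrix (Fin 2) (Fin 2) F := -detForm
  have hJ : (detForm : Matrix (Fin 2) (Fin 2) F) * J' = 1 := by
    ext i j
    fin_cases i <;> fin_cases j <;> simp [J', detForm, Matrix.mul_apply, Fin.sum_univ_two]
  have hG₀u : IsUnit G₀ :=
    IsUnit.of_mul_eq_one (pureMat fun _ => J') (by rw [hG₀, pureMat_mul]; simp only [hJ]; exact pureMat_one)
  have hGu : IsUnit G := ((Matrix.isUnit_transpose _).2 P⁻¹.isUnit).mul
    (((hG₀u.map (Matrix.reindexAlgEquiv F F e.symm)).mul P⁻¹.isUnit))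
  have hsim : ∀ g ∈ H, ∃ c : Fˣ, ∀ u v, formOfGram (RingEquiv.refl F) G ((g : Matrix ι ι F) *ᵥ u)
      ((g : Matrix ι ι F) *ᵥ v) = (c : F) * formOfGram (RingEquiv.refl F) G u v := by
    intro g hg
    obtain ⟨y, ⟨x, hx, rfl⟩, rfl⟩ := hle hg
    obtain ⟨c, hc⟩ := tensorWreath_two_similar hx
    refine ⟨c, fun u v => ?_⟩
    rw [formOfGram_mulVec, ← formOfGram_smul]
    congr 1
    rw [show ((MulAut.conj P).toMonoidHom ((glReindex e.symm).toMonoidHom x) : GL ι F).val.map (RingEquiv.refl F) =
      ((MulAut.conj P).toMonoidHom ((glReindex e.symm).toMonoidHom x) : GL ι F).val from rfl]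
    show ((P : Matrix ι ι F) * Matrix.reindexAlgEquiv F F e.symm (x : Matrix _ _ F) *
        ((P⁻¹ : GL ι F) : Matrix ι ι F))ᵀ * (G * ((P : Matrix ι ι F) *
        Matrix.reindexAlgEquiv F F e.symm (x : Matrix _ _ F) * ((P⁻¹ : GL ι F) : Matrix ι ι F))) = _
    rw [hG, Matrix.transpose_mul, Matrix.transpose_mul]
    have hPT : (P : Matrix ι ι F)ᵀ * ((P⁻¹ : GL ι F) : Matrix ι ι F)ᵀ = 1 := by
      rw [← Matrix.transpose_mul, Units.inv_mul, Matrix.transpose_one]
    have hxT : (Matrix.reindexAlgEquiv F F e.symm (x : Matrix _ _ F))ᵀ =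
        Matrix.reindexAlgEquiv F F e.symm (x : Matrix _ _ F)ᵀ := by
      simp [Matrix.reindexAlgEquiv_apply]
    have hred : ∀ M : Matrix ι ι F, (P : Matrix ι ι F)ᵀ * (((P⁻¹ : GL ι F) : Matrix ι ι F)ᵀ * M) = M := fun M => by
      rw [← mul_assoc, hPT, one_mul]
    have hred2 : ∀ M : Matrix ι ι F, ((P⁻¹ : GL ι F) : Matrix ι ι F) * ((P : Matrix ι ι F) * M) = M := fun M => by
      rw [← mul_assoc, Units.inv_mul, one_mul]
    simp only [mul_assoc, hred, hred2]
    rw [hxT, ← mul_assoc (Matrix.reindexAlgEquiv F F e.symm G₀), ← map_mul,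
      ← mul_assoc (Matrix.reindexAlgEquiv F F e.symm (x : Matrix _ _ F)ᵀ), ← map_mul, hc, map_smul,
      Matrix.smul_mul, Matrix.mul_smul]
  have hpow : G₀ᵀ = ((-1 : F) ^ k) • G₀ := by
    rw [hG₀, pureMat_transpose]
    have : ∀ i : Fin k, ((detForm : Matrix (Fin 2) (Fin 2) F))ᵀ = (-1 : F) • detForm := fun _ => by
      ext i j; fin_cases i <;> fin_cases j <;> simp [detForm]
    rw [show (fun i : Fin k => ((detForm : Matrix (Fin 2) (Fin 2) F))ᵀ) = fun _ => (-1 : F) • detForm from
      funext this, pureMat_smul (fun _ => (-1 : F))]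
    simp
  have hGT : Gᵀ = ((-1 : F) ^ k) • G := by
    rw [hG, Matrix.transpose_mul, Matrix.transpose_mul, Matrix.transpose_transpose]
    have : (Matrix.reindexAlgEquiv F F e.symm G₀)ᵀ = ((-1 : F) ^ k) • Matrix.reindexAlgEquiv F F e.symm G₀ := by
      rw [← map_smul, ← hpow]
      simp [Matrix.reindexAlgEquiv_apply]
    rw [this]
    simp [Matrix.smul_mul, Matrix.mul_smul, mul_assoc]
  rcases neg_one_pow_eq_or F k with h1 | h1
  · by_cases h2 : (2 : F) = 0
    · have hneg : (1 : F) = -1 := by linear_combination h2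
      have hskew : Gᵀ = -G := by rw [hGT, h1, hneg, neg_one_smul]
      have hdiag : ∀ x : Fin k → Fin 2, G₀ x x = 0 := fun x => (show (∏ i, (detForm : Matrix (Fin 2) (Fin 2) F) (x i) (x i)) = 0 from
        Finset.prod_eq_zero (Finset.mem_univ (⟨0, by omega⟩ : Fin k)) <| by
        generalize x ⟨0, by omega⟩ = t
        fin_cases t <;> simp [detForm])
      have halt : ∀ u : ι → F, u ⬝ᵥ (G *ᵥ u) = 0 := by
        have key : ∀ u : ι → F, u ⬝ᵥ (Matrix.reindexAlgEquiv F F e.symm G₀ *ᵥ u) = 0 := by
          intro u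
          simp only [dotProduct, Matrix.mulVec, Finset.mul_sum, ← Fintype.sum_prod_type']
          refine Finset.sum_involution (fun p _ => (p.2, p.1)) (fun p _ => ?_) (fun p _ hne heq => hne ?_)
            (fun p _ => Finset.mem_univ _) (fun p _ => rfl)
          · have := congrFun (congrFun hpow (e p.1)) (e p.2)
            simp only [Matrix.transpose_apply, h1, one_smul] at this
            simp only [Matrix.reindexAlgEquiv_apply, Matrix.reindex_apply, Matrix.submatrix_apply, Equiv.symm_symm,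
              this]
            linear_combination (u p.2 * u p.1 * G₀ (e p.1) (e p.2)) * h2
          · have : p.2 = p.1 := congrArg Prod.fst heq
            simp [Matrix.reindexAlgEquiv_apply, Matrix.reindex_apply, this, hdiag]
        intro u
        rw [hG, ← Matrix.mulVec_mulVec, ← Matrix.mulVec_mulVec, Matrix.dotProduct_mulVec, Matrix.vecMul_transpose]
        exact key _
      obtain ⟨hs, he⟩ := symplectic_of_gram hGu hskew halt
      exact Or.inl ⟨_, hs, he, hsim⟩
    · rw [h1, one_smul] at hGT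
      refine Or.inr (Or.inr ⟨_, quadratic_of_gram h2 hGu hGT, h2, fun g hg => ?_⟩)
      obtain ⟨c, hc⟩ := hsim g hg
      exact ⟨c, fun v => hc v v⟩
  · rw [h1, neg_one_smul] at hGT
    by_cases h2 : (2 : F) = 0
    · have hneg : (1 : F) = -1 := by linear_combination h2
      have hdiag : ∀ x : Fin k → Fin 2, G₀ x x = 0 := fun x => (show (∏ i, (detForm : Matrix (Fin 2) (Fin 2) F) (x i) (x i)) = 0 from
        Finset.prod_eq_zero (Finset.mem_univ (⟨0, by omega⟩ : Fin k)) <| by
        generalize x ⟨0, by omega⟩ = t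
        fin_cases t <;> simp [detForm])
      have halt : ∀ u : ι → F, u ⬝ᵥ (G *ᵥ u) = 0 := by
        have key : ∀ u : ι → F, u ⬝ᵥ (Matrix.reindexAlgEquiv F F e.symm G₀ *ᵥ u) = 0 := by
          intro u
          simp only [dotProduct, Matrix.mulVec, Finset.mul_sum, ← Fintype.sum_prod_type']
          refine Finset.sum_involution (fun p _ => (p.2, p.1)) (fun p _ => ?_) (fun p _ hne heq => hne ?_)
            (fun p _ => Finset.mem_univ _) (fun p _ => rfl)
          · have := congrFun (congrFun hpow (e p.1)) (e p.2)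
            rw [h1, Matrix.transpose_apply, ← hneg, one_smul] at this
            simp only [Matrix.reindexAlgEquiv_apply, Matrix.reindex_apply, Matrix.submatrix_apply, Equiv.symm_symm,
              this]
            linear_combination (u p.2 * u p.1 * G₀ (e p.1) (e p.2)) * h2
          · have : p.2 = p.1 := congrArg Prod.fst heq
            simp [Matrix.reindexAlgEquiv_apply, Matrix.reindex_apply, this, hdiag]
        intro u
        rw [hG, ← Matrix.mulVec_mulVec, ← Matrix.mulVec_mulVec, Matrix.dotProduct_mulVec, Matrix.vecMul_transpose]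
        exact key _
      obtain ⟨hs, he⟩ := symplectic_of_gram hGu hGT halt
      exact Or.inl ⟨_, hs, he, hsim⟩
    · obtain ⟨hs, he⟩ := symplectic_of_gram hGu hGT (alt_of_skew h2 hGT)
      exact Or.inl ⟨_, hs, he, hsim⟩

end Cfsg.Agent.Classical.Asch
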