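import Cfsg.Agent.Lib.Classical.AschSpShape
import Cfsg.Agent.Lib.Classical.AschTensorTwo
import Cfsg.Agent.Lib.Classical.QuadModels

/-!
Similitudes of a four dimensional space of plus type are tensor products of planes up to a swap, so the corresponding
symplectic tensor product lies in a tensor wreath product.
-/

set_option autoImplicit false
set_option maxHeartbeats 1000000
set_option linter.unusedSectionVars false
set_option linter.unusedFintypeInType false
set_option linter.unusedDecidableInType false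
set_option linter.unusedSimpArgs false

namespace Cfsg.Agent.Classical.Asch

open Matrix Module Cfsg.Geo
open scoped Kronecker

namespace TensorFour

variable {F : Type*} [Field F]

local notation "M2" => Matrix (Fin 2) (Fin 2) F
local notation "M22" => Matrix (Fin 2 × Fin 2) (Fin 2 × Fin 2) F

/-- The exchange of the two factors. -/
def S : M22 := (1 : M22).submatrix id Prod.swap

/-- The tensor square of the determinant form. -/
def G4 : M22 := (detForm : M2) ⊗ₖ detForm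

/-- A vector as a two by two matrix. -/
def toMat (v : Fin 2 × Fin 2 → F) : M2 := Matrix.of fun i j => v (i, j)

/-- A two by two matrix as a vector. -/
def vec (X : M2) : Fin 2 × Fin 2 → F := fun p => X p.1 p.2

theorem vec_toMat (v : Fin 2 × Fin 2 → F) : vec (toMat v) = v := rfl

theorem kron_vec (A B X : M2) : (A ⊗ₖ B) *ᵥ vec X = vec (A * X * Bᵀ) := by
  funext ⟨i, j⟩
  simp [vec, Matrix.mulVec, dotProduct, Matrix.mul_apply, Fintype.sum_prod_type, Fin.sum_univ_two, Matrix.vecMul]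
  ring

theorem form_vec (X Y : M2) :
    formOfGram (id : F → F) G4 (vec X) (vec Y) = X 0 0 * Y 1 1 + X 1 1 * Y 0 0 - X 0 1 * Y 1 0 - X 1 0 * Y 0 1 := by
  simp [formOfGram, G4, vec, detForm, Fintype.sum_prod_type, Fin.sum_univ_two]
  ring

theorem G4_form_kron (A B : M2) : (A ⊗ₖ B)ᵀ * (G4 * (A ⊗ₖ B)) = (A.det * B.det) • (G4 : M22) := by
  rw [G4, ← Matrix.mul_kronecker_mul, ← Matrix.kroneckerMap_transpose, ← Matrix.mul_kronecker_mul, detForm_conj,
    detForm_conj, Matrix.smul_kronecker, Matrix.kronecker_smul, smul_smul]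

theorem similitude_form {g : M22} {μ : F} (hg : gᵀ * (G4 * g) = μ • G4) (u v : Fin 2 × Fin 2 → F) :
    formOfGram (id : F → F) G4 (g *ᵥ u) (g *ᵥ v) = μ * formOfGram (id : F → F) G4 u v := by
  have h := formOfGram_mulVec (RingEquiv.refl F) G4 g u v
  simp only [RingEquiv.coe_refl, Matrix.map_id] at h
  rw [h, hg]
  simp [formOfGram, Finset.mul_sum, mul_comm, mul_left_comm]

theorem mulVec_vec_ext {g g' : M22} (h : ∀ i j, g *ᵥ vec (Matrix.single i j 1) = g' *ᵥ vec (Matrix.single i j 1)) :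
    g = g' := by
  ext p ⟨i, j⟩
  have := congrFun (h i j) p
  have hv : vec (Matrix.single i j (1 : F)) = Pi.single (i, j) 1 := by
    funext ⟨a, b⟩
    simp only [vec, Matrix.single, Matrix.of_apply, Pi.single_apply, Prod.mk.injEq]
    simp [eq_comm]
  simpa [hv] using this

theorem kron_cancel {A B : M2} (hA : A.det ≠ 0) (hB : B.det ≠ 0) (g : M22) :
    (A⁻¹ ⊗ₖ B⁻¹) * ((A ⊗ₖ B) * g) = g := by
  rw [← Matrix.mul_assoc, ← Matrix.mul_kronecker_mul, Matrix.nonsing_inv_mul A (isUnit_iff_ne_zero.2 hA),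
    Matrix.nonsing_inv_mul B (isUnit_iff_ne_zero.2 hB), Matrix.one_kronecker_one, Matrix.one_mul]

/-- An isometry fixing the identity and the first idempotent. -/
theorem fix_two {g : M22} (hg : gᵀ * (G4 * g) = (1 : F) • G4) (h00 : g *ᵥ vec (Matrix.single 0 0 1) = vec (Matrix.single 0 0 1))
    (h11 : g *ᵥ vec (Matrix.single 1 1 1) = vec (Matrix.single 1 1 1)) (h2 : (2 : F) ≠ 0) :
    ∃ A B : M2, A.det ≠ 0 ∧ B.det ≠ 0 ∧ (g = A ⊗ₖ B ∨ g = (A ⊗ₖ B) * S) := by
  obtain ⟨X, hX⟩ : ∃ X, g *ᵥ vec (Matrix.single 0 1 1) = vec X := ⟨toMat _, (vec_toMat _).symm⟩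
  obtain ⟨Y, hY⟩ : ∃ Y, g *ᵥ vec (Matrix.single 1 0 1) = vec Y := ⟨toMat _, (vec_toMat _).symm⟩
  have f := fun P Q : M2 => similitude_form hg (vec P) (vec Q)
  have e1 := f (Matrix.single 0 1 1) (Matrix.single 0 0 1)
  have e2 := f (Matrix.single 0 1 1) (Matrix.single 1 1 1)
  have e3 := f (Matrix.single 1 0 1) (Matrix.single 0 0 1)
  have e4 := f (Matrix.single 1 0 1) (Matrix.single 1 1 1)
  have e5 := f (Matrix.single 0 1 1) (Matrix.single 0 1 1)
  have e6 := f (Matrix.single 1 0 1) (Matrix.single 1 0 1)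
  have e7 := f (Matrix.single 0 1 1) (Matrix.single 1 0 1)
  simp only [hX, hY, h00, h11] at e1 e2 e3 e4 e5 e6 e7
  simp only [form_vec, one_mul] at e1 e2 e3 e4 e5 e6 e7
  norm_num [Matrix.single] at e1 e2 e3 e4 e5 e6 e7
  have hXsq : X 0 1 * X 1 0 = 0 := by
    refine (mul_eq_zero.1 (show (2 : F) * (X 0 1 * X 1 0) = 0 from ?_)).resolve_left h2
    linear_combination -e5 + 2 * X 0 0 * e1
  have hYsq : Y 0 1 * Y 1 0 = 0 := by
    refine (mul_eq_zero.1 (show (2 : F) * (Y 0 1 * Y 1 0) = 0 from ?_)).resolve_left h2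
    linear_combination -e6 + 2 * Y 0 0 * e3
  have h7 : X 0 1 * Y 1 0 + X 1 0 * Y 0 1 = 1 := by linear_combination -e7 + X 0 0 * e3 + Y 0 0 * e1
  rcases mul_eq_zero.1 hXsq with hx | hx
  · have hc : X 1 0 * Y 0 1 = 1 := by rw [hx] at h7; simpa using h7
    have hy : Y 1 0 = 0 := (mul_eq_zero.1 hYsq).resolve_left fun e => by simp [e] at hc
    refine ⟨!![1, 0; 0, X 1 0], !![1, 0; 0, Y 0 1], by simpa [Matrix.det_fin_two] using left_ne_zero_of_mul_eq_one hc,
      by simpa [Matrix.det_fin_two] using right_ne_zero_of_mul_eq_one hc, Or.inr (mulVec_vec_ext fun i j => ?_)⟩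
    fin_cases i <;> fin_cases j <;> simp only [Fin.zero_eta, Fin.mk_one, h00, h11, hX, hY] <;>
      funext ⟨a, b⟩ <;> fin_cases a <;> fin_cases b <;>
      simp [vec, S, Matrix.mulVec, dotProduct, Matrix.mul_apply, Fintype.sum_prod_type, Fin.sum_univ_two, Matrix.single,
        Matrix.one_apply, e1, e2, e3, e4, hx, hy, hc, mul_comm (Y 0 1)]
  · have hc : X 0 1 * Y 1 0 = 1 := by rw [hx] at h7; simpa using h7
    have hy : Y 0 1 = 0 := (mul_eq_zero.1 hYsq).resolve_right fun e => by simp [e] at hc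
    refine ⟨!![1, 0; 0, Y 1 0], !![1, 0; 0, X 0 1], by simpa [Matrix.det_fin_two] using right_ne_zero_of_mul_eq_one hc,
      by simpa [Matrix.det_fin_two] using left_ne_zero_of_mul_eq_one hc, Or.inl (mulVec_vec_ext fun i j => ?_)⟩
    fin_cases i <;> fin_cases j <;> simp only [Fin.zero_eta, Fin.mk_one, h00, h11, hX, hY] <;>
      funext ⟨a, b⟩ <;> fin_cases a <;> fin_cases b <;>
      simp [vec, Matrix.mulVec, dotProduct, Fintype.sum_prod_type, Fin.sum_univ_two, Matrix.single,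
        e1, e2, e3, e4, hx, hy, hc, mul_comm (Y 1 0)]

/-- The similitudes of the tensor square of the determinant form. -/
theorem similitude {g : M22} {μ : F} (h2 : (2 : F) ≠ 0) (hμ : μ ≠ 0) (hg : gᵀ * (G4 * g) = μ • G4) :
    ∃ A B : M2, A.det ≠ 0 ∧ B.det ≠ 0 ∧ (g = A ⊗ₖ B ∨ g = (A ⊗ₖ B) * S) := by
  have step : ∀ {A B : M2}, A.det ≠ 0 → B.det ≠ 0 →
      (∃ A' B' : M2, A'.det ≠ 0 ∧ B'.det ≠ 0 ∧ ((A ⊗ₖ B) * g = A' ⊗ₖ B' ∨ (A ⊗ₖ B) * g = (A' ⊗ₖ B') * S)) →
      ∃ A B : M2, A.det ≠ 0 ∧ B.det ≠ 0 ∧ (g = A ⊗ₖ B ∨ g = (A ⊗ₖ B) * S) := by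
    rintro A B hA hB ⟨A', B', hA', hB', h⟩
    refine ⟨A⁻¹ * A', B⁻¹ * B', ?_, ?_, ?_⟩
    · rw [Matrix.det_mul, Matrix.det_nonsing_inv, Ring.inverse_eq_inv']; exact mul_ne_zero (inv_ne_zero hA) hA'
    · rw [Matrix.det_mul, Matrix.det_nonsing_inv, Ring.inverse_eq_inv']; exact mul_ne_zero (inv_ne_zero hB) hB'
    rcases h with h | h
    · left; rw [Matrix.mul_kronecker_mul, ← h, kron_cancel hA hB]
    · right; rw [Matrix.mul_kronecker_mul, Matrix.mul_assoc, ← h, kron_cancel hA hB]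
  obtain ⟨X0, hX0⟩ : ∃ X, g *ᵥ vec (1 : M2) = vec X := ⟨toMat _, (vec_toMat _).symm⟩
  have hd : X0.det = μ := by
    have e := similitude_form hg (vec (1 : M2)) (vec (1 : M2))
    rw [hX0, form_vec, form_vec] at e
    simp at e
    refine mul_left_cancel₀ h2 ?_
    rw [Matrix.det_fin_two]
    linear_combination e
  have hXi : (X0⁻¹).det = μ⁻¹ := by rw [Matrix.det_nonsing_inv, Ring.inverse_eq_inv', hd]
  refine step (A := X0⁻¹) (B := 1) (by rw [hXi]; exact inv_ne_zero hμ) (by simp) ?_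
  set g1 : M22 := (X0⁻¹ ⊗ₖ (1 : M2)) * g with hg1d
  have hg1 : g1ᵀ * (G4 * g1) = (1 : F) • G4 := by
    calc g1ᵀ * (G4 * g1) = gᵀ * (((X0⁻¹ ⊗ₖ (1 : M2))ᵀ * (G4 * (X0⁻¹ ⊗ₖ (1 : M2)))) * g) := by
          rw [hg1d, Matrix.transpose_mul]; simp only [Matrix.mul_assoc]
      _ = (1 : F) • G4 := by
          rw [G4_form_kron, hXi, Matrix.det_one, mul_one, Matrix.smul_mul, Matrix.mul_smul, hg, smul_smul,
            inv_mul_cancel₀ hμ]
  have hI : g1 *ᵥ vec (1 : M2) = vec (1 : M2) := by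
    rw [hg1d, ← Matrix.mulVec_mulVec, hX0, kron_vec, Matrix.transpose_one, Matrix.mul_one,
      Matrix.nonsing_inv_mul X0 (isUnit_iff_ne_zero.2 (hd.symm ▸ hμ))]
  obtain ⟨Y, hY⟩ : ∃ X, g1 *ᵥ vec (Matrix.single 0 0 1) = vec X := ⟨toMat _, (vec_toMat _).symm⟩
  have e1 := similitude_form hg1 (vec (Matrix.single 0 0 (1 : F))) (vec (Matrix.single 0 0 (1 : F)))
  have e2 := similitude_form hg1 (vec (Matrix.single 0 0 (1 : F))) (vec (1 : M2))
  simp only [hY, hI] at e1 e2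
  simp only [form_vec, one_mul] at e1 e2
  norm_num [Matrix.single] at e1 e2
  clear_value g1
  have hdY : Y 0 0 * Y 1 1 - Y 0 1 * Y 1 0 = 0 := by
    refine (mul_eq_zero.1 (show (2 : F) * (Y 0 0 * Y 1 1 - Y 0 1 * Y 1 0) = 0 from ?_)).resolve_left h2
    linear_combination e1
  obtain ⟨Pi, hP, hconj⟩ : ∃ Pi : M2, Pi.det ≠ 0 ∧ Y * Pi = Pi * Matrix.single 0 0 1 := by
    by_cases h0 : Y 0 0 = 0
    · have h11 : Y 1 1 = 1 := by linear_combination e2 - h0
      have hm : Y 0 1 * Y 1 0 = 0 := by linear_combination -hdY + Y 1 1 * h0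
      rcases mul_eq_zero.1 hm with h | h
      · refine ⟨!![0, 1; 1, -Y 1 0], by simp [Matrix.det_fin_two], ?_⟩
        ext i j
        fin_cases i <;> fin_cases j <;> simp [Matrix.mul_apply, Fin.sum_univ_two, Matrix.single, h0, h, h11] <;> ring
      · refine ⟨!![Y 0 1, 1; 1, 0], by simp [Matrix.det_fin_two], ?_⟩
        ext i j
        fin_cases i <;> fin_cases j <;> simp [Matrix.mul_apply, Fin.sum_univ_two, Matrix.single, h0, h, h11]
    · refine ⟨!![Y 0 0, -Y 0 1; Y 1 0, Y 0 0], ?_, ?_⟩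
      · simp only [Matrix.det_fin_two_of]
        intro h
        exact h0 (by linear_combination h + hdY - Y 0 0 * e2)
      · ext i j
        fin_cases i <;> fin_cases j <;>
          simp [Matrix.mul_apply, Fin.sum_univ_two, Matrix.single] <;>
          grind
  have hPi : (Pi⁻¹).det ≠ 0 := by rw [Matrix.det_nonsing_inv, Ring.inverse_eq_inv']; exact inv_ne_zero hP
  obtain ⟨A', B', hA', hB', h⟩ := fix_two (g := (Pi⁻¹ ⊗ₖ Piᵀ) * g1) (h2 := h2) (by
      calc ((Pi⁻¹ ⊗ₖ Piᵀ) * g1)ᵀ * (G4 * ((Pi⁻¹ ⊗ₖ Piᵀ) * g1))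
          = g1ᵀ * (((Pi⁻¹ ⊗ₖ Piᵀ)ᵀ * (G4 * (Pi⁻¹ ⊗ₖ Piᵀ))) * g1) := by
            rw [Matrix.transpose_mul]; simp only [Matrix.mul_assoc]
        _ = (1 : F) • G4 := by
            rw [G4_form_kron, Matrix.det_transpose, Matrix.det_nonsing_inv, Ring.inverse_eq_inv', inv_mul_cancel₀ hP,
              one_smul]
            simpa using hg1) (by
      rw [← Matrix.mulVec_mulVec, hY, kron_vec, Matrix.transpose_transpose, Matrix.mul_assoc, hconj,
        ← Matrix.mul_assoc, Matrix.nonsing_inv_mul _ (isUnit_iff_ne_zero.2 hP), Matrix.one_mul]) (by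
      have h11 : vec (Matrix.single 1 1 (1 : F)) = vec (1 : M2) - vec (Matrix.single 0 0 1) := by
        funext ⟨a, b⟩; fin_cases a <;> fin_cases b <;> simp [vec, Matrix.single]
      rw [h11, Matrix.mulVec_sub, ← Matrix.mulVec_mulVec, ← Matrix.mulVec_mulVec, hI, hY, kron_vec, kron_vec,
        Matrix.transpose_transpose, Matrix.mul_one, Matrix.mul_assoc, hconj, ← Matrix.mul_assoc,
        Matrix.nonsing_inv_mul _ (isUnit_iff_ne_zero.2 hP), Matrix.one_mul])
  refine ⟨(Pi⁻¹)⁻¹ * A', (Piᵀ)⁻¹ * B', ?_, ?_, ?_⟩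
  · rw [Matrix.det_mul, Matrix.det_nonsing_inv, Ring.inverse_eq_inv']; exact mul_ne_zero (inv_ne_zero hPi) hA'
  · rw [Matrix.det_mul, Matrix.det_nonsing_inv, Ring.inverse_eq_inv', Matrix.det_transpose]
    exact mul_ne_zero (inv_ne_zero hP) hB'
  have hPt : (Piᵀ).det ≠ 0 := by rwa [Matrix.det_transpose]
  rcases h with h | h
  · left; rw [Matrix.mul_kronecker_mul, ← h, kron_cancel hPi hPt]
  · right; rw [Matrix.mul_kronecker_mul, Matrix.mul_assoc, ← h, kron_cancel hPi hPt]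

/-- A plus type symmetric form in four variables is the tensor square of the determinant form up to a scalar. -/
theorem exists_basis [Finite F] (h2 : (2 : F) ≠ 0) {f₂ : (Fin 4 → F) → (Fin 4 → F) → F} (hf₂ : IsSymmetricForm f₂)
    (hplus : IsPlusTypeOn (fun v : Fin 4 → F => f₂ v v) ⊤) :
    ∃ B : Matrix (Fin 4) (Fin 2 × Fin 2) F, ∃ C : Matrix (Fin 2 × Fin 2) (Fin 4) F,
      B * C = 1 ∧ C * B = 1 ∧ Bᵀ * (gramMatrix f₂ * B) = (1 / 2 : F) • (G4 : M22) := by
  classical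
  let Bf : LinearMap.BilinForm F (Fin 4 → F) := LinearMap.mk₂ F f₂ hf₂.bilinear.add_left
    (fun c x v => hf₂.bilinear.smul_left c x v) hf₂.bilinear.add_right (fun c v x => hf₂.bilinear.smul_right c v x)
  let Q : QuadraticForm F (Fin 4 → F) := Bf.toQuadraticMap
  have hQv : ∀ v, Q v = f₂ v v := fun v => rfl
  have hpol : ∀ u v, QuadraticMap.polar ⇑Q u v = 2 * f₂ u v := fun u v => by
    show QuadraticMap.polar (fun x => Bf x x) u v = 2 * Bf u v
    have hs : Bf v u = Bf u v := hf₂.symm v u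
    simp [QuadraticMap.polar, hs]
    ring
  have hQ : (QuadraticMap.polarBilin Q).Nondegenerate := by
    refine nondegenerate_of_separatingLeft _ fun u hu => ?_
    by_contra hne
    obtain ⟨y, hy⟩ := (hf₂.nondegenerate u hne).2
    have e := hu y
    rw [QuadraticMap.polarBilin_apply_apply, hpol] at e
    exact hy ((mul_eq_zero.1 e).resolve_left h2)
  rcases exists_even_basis (V := Fin 4 → F) (m := 2) (by simp) Q hQ with
    ⟨b, hb0, hbp, hbq⟩ | ⟨-, b, ζ, hζ, hb0, hb1, hb2, hb3, hb4, hb5, hb6⟩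
  · let v : Fin 2 × Fin 2 → Fin 4 → F := fun p =>
      ![![b (Sum.inl 0), b (Sum.inl 1)], ![-(b (Sum.inr 1)), b (Sum.inr 0)]] p.1 p.2
    let Bm : Matrix (Fin 4) (Fin 2 × Fin 2) F := Matrix.of fun i p => v p i
    have hsp : ∀ y : Fin 4 → F, ∃ x : Fin 2 × Fin 2 → F, Bm *ᵥ x = y := fun y => by
      refine ⟨fun p => ![![b.repr y (Sum.inl 0), b.repr y (Sum.inl 1)],
        ![-(b.repr y (Sum.inr 1)), b.repr y (Sum.inr 0)]] p.1 p.2, funext fun i => ?_⟩
      conv_rhs => rw [← b.sum_repr y]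
      simp [Bm, v, Matrix.mulVec, dotProduct, Fintype.sum_prod_type, Fin.sum_univ_two, Fintype.sum_sum_type]
      ring
    choose Cx hCx using fun i : Fin 4 => hsp (Pi.single i 1)
    let Cm : Matrix (Fin 2 × Fin 2) (Fin 4) F := Matrix.of fun p i => Cx i p
    have hBC : Bm * Cm = 1 := by
      ext i j
      have e := congrFun (hCx j) i
      rw [Matrix.one_apply]
      rw [Pi.single_apply] at e
      exact e
    refine ⟨Bm, Cm, hBC, (Matrix.mul_eq_one_comm_of_equiv finProdFinEquiv.symm).1 hBC, ?_⟩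
    have hval : ∀ p r, (Bmᵀ * (gramMatrix f₂ * Bm)) p r = f₂ (v p) (v r) := fun p r => by
      rw [(sesq_of_bilinear hf₂.bilinear).eq_gram (v p) (v r), formOfGram]
      simp [Matrix.mul_apply, Matrix.transpose_apply, Bm, Finset.mul_sum, mul_assoc]
    have h00 := fun i => (hb0 i).1
    have h01 := fun i => (hb0 i).2
    simp only [hQv] at h00 h01
    have hp : ∀ i j, f₂ (b (Sum.inl i)) (b (Sum.inr j)) = if i = j then 1 / 2 else 0 := fun i j => by
      have e := hbp i j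
      rw [hpol] at e
      split_ifs with h
      · rw [if_pos h] at e; rw [eq_div_iff h2]; linear_combination e
      · rw [if_neg h] at e; exact (mul_eq_zero.1 e).resolve_left h2
    have hp' : ∀ i j, f₂ (b (Sum.inr j)) (b (Sum.inl i)) = if i = j then 1 / 2 else 0 := fun i j => by
      rw [hf₂.symm, hp]
    have hl : ∀ i j, f₂ (b (Sum.inl i)) (b (Sum.inl j)) = 0 ∧ f₂ (b (Sum.inr i)) (b (Sum.inr j)) = 0 := fun i j => by
      obtain ⟨e1, e2⟩ := hbq i j
      rw [hpol] at e1 e2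
      exact ⟨(mul_eq_zero.1 e1).resolve_left h2, (mul_eq_zero.1 e2).resolve_left h2⟩
    have hn : ∀ x y, f₂ (-x) y = -f₂ x y ∧ f₂ x (-y) = -f₂ x y := fun x y =>
      ⟨LinearMap.map_neg₂ Bf x y, map_neg (Bf x) y⟩
    ext ⟨a, a'⟩ ⟨c, c'⟩
    rw [hval]
    fin_cases a <;> fin_cases a' <;> fin_cases c <;> fin_cases c' <;>
      simp [v, hp, hp', (hl _ _).1, (hl _ _).2, fun x y => (hn x y).1, fun x y => (hn x y).2, G4, detForm,
        Matrix.kroneckerMap_apply]
  · exfalso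
    obtain ⟨U, -, hU, hU2⟩ := hplus
    rw [finrank_top, Module.finrank_fintype_fun_eq_card, Fintype.card_fin] at hU2
    have hUs : ∀ u ∈ U, Q u = 0 := fun u hu => hU u hu
    have hzero : ∀ s t : F, s ^ 2 + s * t + ζ * t ^ 2 = 0 → s = 0 ∧ t = 0 := fun s t h => by
      by_cases ht : t = 0
      · subst ht; exact ⟨by simpa using h, rfl⟩
      · refine absurd ?_ (hζ (s / t))
        field_simp
        linear_combination h
    have key : ∀ e : Fin 4 → F, e ≠ 0 → Q e = 0 → (∀ k, QuadraticMap.polar ⇑Q e (b (Sum.inr k)) = 0) →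
        LinearIndependent F ![e, b (Sum.inr 0), b (Sum.inr 1)] → e ∈ U := by
      intro e he0 he hp hli
      let T := Submodule.span F (Set.range ![e, b (Sum.inr 0), b (Sum.inr 1)])
      have hT : finrank F T = 3 := by
        simpa using finrank_span_eq_card hli
      have h1 := Submodule.finrank_sup_add_finrank_inf_eq T U
      have h2' := Submodule.finrank_le (T ⊔ U)
      rw [Module.finrank_fintype_fun_eq_card, Fintype.card_fin] at h2'
      obtain ⟨w, hw, hw0⟩ := Submodule.exists_mem_ne_zero_of_ne_bot (fun h : T ⊓ U = ⊥ => by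
        rw [h, finrank_bot] at h1; omega)
      obtain ⟨c, hc⟩ := (Submodule.mem_span_range_iff_exists_fun F).1 hw.1
      simp [Fin.sum_univ_three] at hc
      have hq : Q w = c 1 ^ 2 + c 1 * c 2 + ζ * c 2 ^ 2 := by
        rw [← hc, QuadraticMap.map_add ⇑Q, QuadraticMap.map_add ⇑Q]
        simp only [QuadraticMap.map_smul, QuadraticMap.polar_add_left, QuadraticMap.polar_smul_left,
          QuadraticMap.polar_smul_right, smul_eq_mul, he, hb4, hb5, hb6, hp]
        ring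
      obtain ⟨h1', h2''⟩ := hzero _ _ (hq ▸ hUs w hw.2)
      rw [h1', h2'', zero_smul, zero_smul, add_zero, add_zero] at hc
      have hc0 : c 0 ≠ 0 := fun h => hw0 (by rw [← hc, h, zero_smul])
      rw [show e = (c 0)⁻¹ • w by rw [← hc, smul_smul, inv_mul_cancel₀ hc0, one_smul]]
      exact U.smul_mem _ hw.2
    have hli := b.linearIndependent
    have he := key (b (Sum.inl (Sum.inl 0))) (b.ne_zero _) (hb0 0).1 (fun k => (hb3 0 k).1) (by
      have h' := hli.comp ![Sum.inl (Sum.inl 0), Sum.inr 0, Sum.inr 1] (by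
        intro x y; fin_cases x <;> fin_cases y <;> simp)
      rw [show ![b (Sum.inl (Sum.inl 0)), b (Sum.inr 0), b (Sum.inr 1)] =
        ⇑b ∘ ![Sum.inl (Sum.inl 0), Sum.inr 0, Sum.inr 1] by funext i; fin_cases i <;> rfl]
      exact h')
    have hf := key (b (Sum.inl (Sum.inr 0))) (b.ne_zero _) (hb0 0).2 (fun k => (hb3 0 k).2) (by
      have h' := hli.comp ![Sum.inl (Sum.inr 0), Sum.inr 0, Sum.inr 1] (by
        intro x y; fin_cases x <;> fin_cases y <;> simp)
      rw [show ![b (Sum.inl (Sum.inr 0)), b (Sum.inr 0), b (Sum.inr 1)] =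
        ⇑b ∘ ![Sum.inl (Sum.inr 0), Sum.inr 0, Sum.inr 1] by funext i; fin_cases i <;> rfl]
      exact h')
    have := hb1 0 0
    rw [QuadraticMap.polar, hUs _ (U.add_mem he hf), hUs _ he, hUs _ hf] at this
    simp at this

end TensorFour

section Embed

variable {F : Type*} [Field F] {m : ℕ} {κ : Type} [Fintype κ] [DecidableEq κ]

local notation "K8" => Matrix (Fin 2 × (Fin 2 × Fin 2)) (Fin 2 × (Fin 2 × Fin 2)) F
local notation "K4" => Matrix (Fin 4) (Fin 4) F
local notation "K24" => Matrix (Fin 2 × Fin 4) (Fin 2 × Fin 4) F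
local notation "K3" => Matrix (Fin 3 → Fin 2) (Fin 3 → Fin 2) F
local notation "MN" => Matrix (Fin m ⊕ Fin m) (Fin m ⊕ Fin m) F

/-- An element of a coordinate space moved to the symplectic space. -/
noncomputable def coordHom (e : (Fin m ⊕ Fin m) ≃ κ) (P : GL (Fin m ⊕ Fin m) F) :
    GL κ F →* GL (Fin m ⊕ Fin m) F :=
  (MulAut.conj P).toMonoidHom.comp (glReindex e.symm).toMonoidHom

theorem coordHom_mulVec (e : (Fin m ⊕ Fin m) ≃ κ) (P : GL (Fin m ⊕ Fin m) F) (k : GL κ F) (x : κ → F) :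
    (coordHom e P k : Matrix (Fin m ⊕ Fin m) (Fin m ⊕ Fin m) F) *ᵥ
        ((P : Matrix (Fin m ⊕ Fin m) (Fin m ⊕ Fin m) F) *ᵥ (x ∘ e)) =
      (P : Matrix (Fin m ⊕ Fin m) (Fin m ⊕ Fin m) F) *ᵥ (((k : Matrix κ κ F) *ᵥ x) ∘ e) := by
  show ((P * glReindex e.symm k * P⁻¹ : GL (Fin m ⊕ Fin m) F) : MN) *ᵥ _ = _
  rw [Matrix.mulVec_mulVec, ← Units.val_mul, inv_mul_cancel_right, Units.val_mul, ← Matrix.mulVec_mulVec]
  congr 1
  show ((k : Matrix κ κ F).submatrix e e) *ᵥ (x ∘ e) = _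
  rw [Matrix.submatrix_mulVec_equiv]
  simp [Function.comp_assoc]

theorem coordHom_mem_spGL {e : (Fin m ⊕ Fin m) ≃ κ} {P : GL (Fin m ⊕ Fin m) F} {c : F} {G : Matrix κ κ F}
    (hc : c ≠ 0) (hst : ∀ x y : κ → F, sympForm m F ((P : MN) *ᵥ (x ∘ e))
      ((P : MN) *ᵥ (y ∘ e)) = c * formOfGram (id : F → F) G x y) {k : GL κ F} :
    coordHom e P k ∈ spGL m F ↔ (k : Matrix κ κ F)ᵀ * (G * (k : Matrix κ κ F)) = G := by
  have key : ∀ x y, formOfGram (id : F → F) G ((k : Matrix κ κ F) *ᵥ x) ((k : Matrix κ κ F) *ᵥ y) =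
      formOfGram (id : F → F) ((k : Matrix κ κ F)ᵀ * (G * (k : Matrix κ κ F))) x y := fun x y => by
    have h := formOfGram_mulVec (RingEquiv.refl F) G (k : Matrix κ κ F) x y
    simpa using h
  constructor
  · intro h
    refine gram_inj (RingEquiv.refl F) fun x y => ?_
    show formOfGram id _ x y = formOfGram id G x y
    have e1 := h ((P : MN) *ᵥ (x ∘ e)) ((P : MN) *ᵥ (y ∘ e))
    change sympForm m F ((coordHom e P k : MN) *ᵥ _) ((coordHom e P k : MN) *ᵥ _) = _ at e1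
    rw [coordHom_mulVec, coordHom_mulVec, hst, hst, key] at e1
    exact mul_left_cancel₀ hc e1
  · intro h u v
    have surj : ∀ u : Fin m ⊕ Fin m → F, ∃ x : κ → F, (P : MN) *ᵥ (x ∘ e) = u := fun u => by
      refine ⟨(((P⁻¹ : GL (Fin m ⊕ Fin m) F) : MN) *ᵥ u) ∘ e.symm, ?_⟩
      rw [Function.comp_assoc, Equiv.symm_comp_self, Function.comp_id, Matrix.mulVec_mulVec, Units.mul_inv,
        Matrix.one_mulVec]
    obtain ⟨x, rfl⟩ := surj u
    obtain ⟨y, rfl⟩ := surj v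
    show sympForm m F ((coordHom e P k : MN) *ᵥ _) ((coordHom e P k : MN) *ᵥ _) = _
    rw [coordHom_mulVec, coordHom_mulVec, hst, hst, key, h]

/-- A symplectic tensor product with a four dimensional plus space is contained in a tensor wreath product and is
not maximal. -/
theorem tensor_plus_not_maximal [Fintype F] {H : Subgroup (GL (Fin m ⊕ Fin m) F)} (h2 : (2 : F) ≠ 0)
    (hH : IsMaximalIn (spGL m F) H) {e : (Fin m ⊕ Fin m) ≃ Fin 2 × Fin 4} {P : GL (Fin m ⊕ Fin m) F}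
    {f₁ : (Fin 2 → F) → (Fin 2 → F) → F} {f₂ : (Fin 4 → F) → (Fin 4 → F) → F}
    (hf₁ : IsSymplecticForm f₁) (hf₂ : IsSymmetricForm f₂) (hplus : IsPlusTypeOn (fun v : Fin 4 → F => f₂ v v) ⊤)
    (hst : IsTensorFormStructure id (sympForm m F) f₁ f₂ e P) :
    H ≠ tensorProductSubgroup 2 4 e P ⊓ spGL m F := by
  classical
  intro hHeq
  obtain ⟨B, C, hBC, hCB, hB⟩ := TensorFour.exists_basis h2 hf₂ hplus
  obtain ⟨c, hc, hcf⟩ := hst
  set G₁ := gramMatrix f₁ with hG₁
  set G₂ := gramMatrix f₂ with hG₂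
  have hG₁00 : ∀ i, G₁ i i = 0 := fun i => hf₁.alternating _
  have hG₁10 : G₁ 1 0 = -G₁ 0 1 := by
    have h := hf₁.alternating (Pi.single (0 : Fin 2) (1 : F) + Pi.single 1 1)
    rw [hf₁.bilinear.add_left, hf₁.bilinear.add_right, hf₁.bilinear.add_right] at h
    simp only [hf₁.alternating, zero_add, add_zero] at h
    show f₁ _ _ = -f₁ _ _
    linear_combination h
  have hG₁e : G₁ = G₁ 0 1 • (detForm : Matrix (Fin 2) (Fin 2) F) := by
    ext i j
    fin_cases i <;> fin_cases j <;> simp [detForm, hG₁00, hG₁10]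
  have hg01 : G₁ 0 1 ≠ 0 := by
    intro h
    obtain ⟨y, hy⟩ := (hf₁.nondegenerate (Pi.single (0 : Fin 2) (1 : F)) (by simp)).2
    refine hy ?_
    rw [(sesq_of_bilinear hf₁.bilinear).eq_gram, formOfGram]
    simp [← hG₁, Fin.sum_univ_two, hG₁00, hG₁10, h]
  let c4 : Fin 4 ≃ Fin 2 × Fin 2 := (finProdFinEquiv (m := 2) (n := 2)).symm
  let B' : GL (Fin 4) F := ⟨B.submatrix id c4, C.submatrix c4 id, by
    rw [Matrix.submatrix_mul_equiv, hBC]; simp, by
    rw [← Matrix.submatrix_mul _ _ _ id _ Function.bijective_id, hCB]; simp⟩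
  let M : GL (Fin 2 × Fin 4) F := ⟨(1 : Matrix (Fin 2) (Fin 2) F) ⊗ₖ (B' : Matrix (Fin 4) (Fin 4) F),
    (1 : Matrix (Fin 2) (Fin 2) F) ⊗ₖ ((B'⁻¹ : GL (Fin 4) F) : Matrix (Fin 4) (Fin 4) F),
    by rw [← Matrix.mul_kronecker_mul, Matrix.one_mul, Units.mul_inv, Matrix.one_kronecker_one],
    by rw [← Matrix.mul_kronecker_mul, Matrix.one_mul, Units.inv_mul, Matrix.one_kronecker_one]⟩
  let r : Fin 2 × Fin 4 ≃ Fin 2 × (Fin 2 × Fin 2) := (Equiv.refl _).prodCongr c4
  let e' : (Fin m ⊕ Fin m) ≃ Fin 2 × (Fin 2 × Fin 2) := e.trans r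
  let P' : GL (Fin m ⊕ Fin m) F := P * glReindex e.symm M
  let G8 : Matrix (Fin 2 × (Fin 2 × Fin 2)) (Fin 2 × (Fin 2 × Fin 2)) F :=
    (detForm : Matrix (Fin 2) (Fin 2) F) ⊗ₖ TensorFour.G4
  have hst' : ∀ x y : Fin 2 × (Fin 2 × Fin 2) → F, sympForm m F ((P' : MN) *ᵥ (x ∘ e'))
      ((P' : MN) *ᵥ (y ∘ e')) = (c * (G₁ 0 1 * (1 / 2))) * formOfGram (id : F → F) G8 x y := by
    intro x y
    have hP : ∀ x : Fin 2 × (Fin 2 × Fin 2) → F, (P' : MN) *ᵥ (x ∘ e') =
        (P : MN) *ᵥ (((M : K24) *ᵥ (x ∘ r)) ∘ e) := by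
      intro x
      show ((P * glReindex e.symm M : GL (Fin m ⊕ Fin m) F) : MN) *ᵥ _ = _
      rw [Units.val_mul, ← Matrix.mulVec_mulVec]
      congr 1
      show ((M : K24).submatrix e e) *ᵥ ((x ∘ r) ∘ e) = _
      rw [Matrix.submatrix_mulVec_equiv]
      simp [Function.comp_assoc]
    rw [hP, hP, hcf, mul_assoc]
    congr 1
    have h := formOfGram_mulVec (RingEquiv.refl F) (G₁ ⊗ₖ G₂) (M : K24) (x ∘ r) (y ∘ r)
    simp only [RingEquiv.coe_refl, Matrix.map_id] at h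
    refine h.trans ?_
    have hM : (M : K24)ᵀ * ((G₁ ⊗ₖ G₂) * (M : K24)) =
        (G₁ 0 1 * (1 / 2)) • G8.submatrix r r := by
      show ((1 : Matrix (Fin 2) (Fin 2) F) ⊗ₖ (B' : Matrix (Fin 4) (Fin 4) F))ᵀ * _ = _
      rw [← Matrix.kroneckerMap_transpose, Matrix.transpose_one]
      show _ * ((G₁ ⊗ₖ G₂) * ((1 : Matrix (Fin 2) (Fin 2) F) ⊗ₖ (B' : Matrix (Fin 4) (Fin 4) F))) = _
      rw [← Matrix.mul_kronecker_mul, ← Matrix.mul_kronecker_mul, Matrix.one_mul, Matrix.mul_one]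
      have hB' : (B' : Matrix (Fin 4) (Fin 4) F)ᵀ * (G₂ * (B' : Matrix (Fin 4) (Fin 4) F)) =
          (1 / 2 : F) • (TensorFour.G4 (F := F)).submatrix c4 c4 := by
        show (B.submatrix id c4)ᵀ * (G₂ * B.submatrix id c4) = _
        ext i j
        have := congrFun (congrFun hB (c4 i)) (c4 j)
        simpa [Matrix.mul_apply] using this
      rw [hB', hG₁e]
      ext ⟨i, j⟩ ⟨i', j'⟩
      fin_cases i <;> fin_cases i' <;> simp [G8, r, detForm] <;> ring
    rw [hM]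
    simp only [formOfGram, id_eq, RingEquiv.coe_refl, Finset.mul_sum, Matrix.smul_apply, Matrix.submatrix_apply,
      smul_eq_mul, Function.comp_apply]
    rw [← Equiv.sum_comp r]
    refine Finset.sum_congr rfl fun i _ => ?_
    rw [← Equiv.sum_comp r]
    exact Finset.sum_congr rfl fun j _ => by ring
  have hc' : c * (G₁ 0 1 * (1 / 2)) ≠ 0 := mul_ne_zero hc (mul_ne_zero hg01 (one_div_ne_zero h2))
  let s : Fin 2 × (Fin 2 × Fin 2) ≃ (Fin 3 → Fin 2) :=
    { toFun := fun p => ![p.1, p.2.1, p.2.2]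
      invFun := fun v => (v 0, (v 1, v 2))
      left_inv := fun p => rfl
      right_inv := fun v => by ext i; fin_cases i <;> rfl }
  let W : Subgroup (GL (Fin m ⊕ Fin m) F) := tensorWreathSubgroup 2 3 (e'.trans s) P'
  have hW : ∀ k : GL (Fin 2 × (Fin 2 × Fin 2)) F, glReindex s k ∈ tensorWreathStandard 2 3 F →
      coordHom e' P' k ∈ W := by
    intro k hk
    refine ⟨_, ⟨_, hk, rfl⟩, ?_⟩
    show P' * glReindex (e'.trans s).symm (glReindex s k) * P'⁻¹ = P' * glReindex e'.symm k * P'⁻¹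
    congr 2
  have hle : H ≤ W := by
    intro g hg
    rw [hHeq] at hg
    obtain ⟨⟨_, ⟨k, ⟨a, b, hk⟩, rfl⟩, rfl⟩, hgS⟩ := hg
    have hkG := (coordHom_mem_spGL (c := c) (G := G₁ ⊗ₖ G₂) hc hcf (k := k)).1 hgS
    rw [hk, ← Matrix.kroneckerMap_transpose, ← Matrix.mul_kronecker_mul, ← Matrix.mul_kronecker_mul] at hkG
    set a' := (a : Matrix (Fin 2) (Fin 2) F)
    set b' := (b : Matrix (Fin 4) (Fin 4) F)
    obtain ⟨ν, hν, hbG⟩ : ∃ ν : F, ν ≠ 0 ∧ b'ᵀ * (G₂ * b') = ν • G₂ := by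
      have e1 : ∀ i j, (a'ᵀ * (G₁ * a')) 0 1 * (b'ᵀ * (G₂ * b')) i j = G₁ 0 1 * G₂ i j := fun i j =>
        congrFun (congrFun hkG ((0 : Fin 2), i)) ((1 : Fin 2), j)
      have hG₂ne : ∃ i j, G₂ i j ≠ 0 := by
        by_contra h0
        push Not at h0
        obtain ⟨y, hy⟩ := (hf₂.nondegenerate (Pi.single (0 : Fin 4) (1 : F)) (by simp)).2
        refine hy ?_
        rw [(sesq_of_bilinear hf₂.bilinear).eq_gram, formOfGram]
        simp [← hG₂, h0]
      obtain ⟨i, j, hij⟩ := hG₂ne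
      have ha0 : (a'ᵀ * (G₁ * a')) 0 1 ≠ 0 := fun h => mul_ne_zero hg01 hij (by rw [← e1 i j, h, zero_mul])
      refine ⟨G₁ 0 1 / (a'ᵀ * (G₁ * a')) 0 1, div_ne_zero hg01 ha0, ?_⟩
      ext i j
      rw [Matrix.smul_apply, smul_eq_mul, div_mul_eq_mul_div, eq_div_iff ha0, mul_comm, e1]
    let X : Matrix (Fin 2 × Fin 2) (Fin 2 × Fin 2) F := C * b' * B
    have hX : Xᵀ * (TensorFour.G4 * X) = ν • TensorFour.G4 := by
      have hG4 : TensorFour.G4 (F := F) = (2 : F) • (Bᵀ * (G₂ * B)) := by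
        rw [hB, smul_smul, mul_one_div, div_self h2, one_smul]
      have e2 : Xᵀ * (Bᵀ * (G₂ * B)) * X = Bᵀ * (b'ᵀ * (G₂ * b')) * B := by
        show (C * b' * B)ᵀ * (Bᵀ * (G₂ * B)) * (C * b' * B) = _
        calc (C * b' * B)ᵀ * (Bᵀ * (G₂ * B)) * (C * b' * B)
            = Bᵀ * b'ᵀ * ((B * C)ᵀ * G₂ * (B * C)) * b' * B := by
              simp only [Matrix.transpose_mul, Matrix.mul_assoc]
          _ = _ := by rw [hBC, Matrix.transpose_one, Matrix.one_mul, Matrix.mul_one]; simp only [Matrix.mul_assoc]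
      rw [← Matrix.mul_assoc, hG4, Matrix.mul_smul, Matrix.smul_mul, e2, hbG]
      simp [Matrix.mul_smul, Matrix.smul_mul, smul_smul, mul_comm, Matrix.mul_assoc]
    obtain ⟨A₁, A₂, hA₁, hA₂, hXA⟩ := TensorFour.similitude h2 hν hX
    let k' : GL (Fin 2 × (Fin 2 × Fin 2)) F := glReindex r (M⁻¹ * k * M)
    have hk' : (k' : K8) = a' ⊗ₖ X := by
      ext ⟨i, j⟩ ⟨i', j'⟩
      have e1 : ((M⁻¹ * k * M : GL (Fin 2 × Fin 4) F) : K24) =
          a' ⊗ₖ (((B'⁻¹ : GL (Fin 4) F) : K4) * b' * (B' : K4)) := by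
        rw [Units.val_mul, Units.val_mul, hk]
        show ((1 : Matrix (Fin 2) (Fin 2) F) ⊗ₖ ((B'⁻¹ : GL (Fin 4) F) : K4)) * _ *
          ((1 : Matrix (Fin 2) (Fin 2) F) ⊗ₖ (B' : K4)) = _
        rw [← Matrix.mul_kronecker_mul, ← Matrix.mul_kronecker_mul, Matrix.one_mul, Matrix.mul_one]
      show ((M⁻¹ * k * M : GL (Fin 2 × Fin 4) F) : K24) (i, c4.symm j) (i', c4.symm j') = _
      rw [e1, Matrix.kroneckerMap_apply, Matrix.kroneckerMap_apply]
      congr 1
      show (C.submatrix c4 id * b' * B.submatrix id c4) (c4.symm j) (c4.symm j') = _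
      simp [X, Matrix.mul_apply, Finset.sum_mul]
    have hgk : (MulAut.conj P).toMonoidHom ((glReindex e.symm).toMonoidHom k) = coordHom e' P' k' := by
      show P * glReindex e.symm k * P⁻¹ = P' * glReindex e'.symm (glReindex r (M⁻¹ * k * M)) * P'⁻¹
      have : glReindex e'.symm (glReindex r (M⁻¹ * k * M)) = glReindex e.symm (M⁻¹ * k * M) := by
        refine Units.ext ?_
        ext i j
        show ((M⁻¹ * k * M : GL (Fin 2 × Fin 4) F) : K24) (r.symm (r (e i))) (r.symm (r (e j))) =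
          ((M⁻¹ * k * M : GL (Fin 2 × Fin 4) F) : K24) (e i) (e j)
        simp
      rw [this, map_mul, map_mul, map_inv]
      show _ = P * glReindex e.symm M * _ * (P * glReindex e.symm M)⁻¹
      group
    rw [hgk]
    refine hW _ ?_
    have mk : ∀ A : Fin 3 → Matrix (Fin 2) (Fin 2) F, (∀ i, (A i).det ≠ 0) →
        ∀ g : GL (Fin 3 → Fin 2) F, (∀ x y, (g : K3) x y = ∏ i, A i (x i) (y i)) →
        g ∈ tensorWreathStandard 2 3 F := fun A hA g hg =>
      Subgroup.subset_closure (Or.inl ⟨fun i => Matrix.GeneralLinearGroup.mkOfDetNeZero (A i) (hA i), hg⟩)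
    have hdets : ∀ i, (![a', A₁, A₂] i).det ≠ 0 := by
      intro i
      fin_cases i
      · exact Matrix.GeneralLinearGroup.det_ne_zero a
      · exact hA₁
      · exact hA₂
    rcases hXA with h | h
    · refine mk _ hdets _ fun x y => ?_
      show (k' : K8) (x 0, (x 1, x 2)) (y 0, (y 1, y 2)) = _
      rw [hk', h]
      simp [Fin.prod_univ_three, mul_assoc]
    · let σ : Equiv.Perm (Fin 3) := Equiv.swap 1 2
      let pm : GL (Fin 3 → Fin 2) F :=
        ⟨Matrix.of fun x y => if y = x ∘ σ then 1 else 0, Matrix.of fun x y => if y = x ∘ σ then 1 else 0, by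
          ext x y
          rw [Matrix.mul_apply, Finset.sum_eq_single (x ∘ σ) (fun z _ hz => by simp [hz]) (by simp)]
          simp [Matrix.one_apply, Function.comp_assoc, show (σ : Fin 3 → Fin 3) ∘ σ = id by ext i; simp [σ], eq_comm],
          by
          ext x y
          rw [Matrix.mul_apply, Finset.sum_eq_single (x ∘ σ) (fun z _ hz => by simp [hz]) (by simp)]
          simp [Matrix.one_apply, Function.comp_assoc, show (σ : Fin 3 → Fin 3) ∘ σ = id by ext i; simp [σ], eq_comm]⟩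
      have hpm : pm ∈ tensorWreathStandard 2 3 F := Subgroup.subset_closure (Or.inr ⟨σ, fun x y => rfl⟩)
      have hp : glReindex s k' * pm⁻¹ ∈ tensorWreathStandard 2 3 F := by
        refine mk _ hdets _ fun x y => ?_
        rw [Units.val_mul, Matrix.mul_apply, Finset.sum_eq_single (y ∘ σ) (fun z _ hz => ?_) (by simp)]
        · show (k' : K8) (x 0, (x 1, x 2)) ((y ∘ σ) 0, ((y ∘ σ) 1, (y ∘ σ) 2)) *
            (if y = (y ∘ σ) ∘ σ then 1 else 0) = _
          rw [hk', h, if_pos (by ext i; simp [σ]), mul_one, TensorFour.S]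
          simp [σ, Fin.prod_univ_three, Matrix.mul_apply, Fintype.sum_prod_type, Matrix.one_apply, Equiv.swap_apply_def,
            mul_assoc]
        · refine mul_eq_zero_of_right _ (if_neg fun e => hz ?_)
          rw [e]; ext i; simp [σ]
      simpa using mul_mem hp hpm
  have hnot := not_sp_le_wreath (m := m) (k := 2) (t := 3) le_rfl (by norm_num) (e'.trans s) P'
  have hWS : W ⊓ spGL m F = H := by
    rcases hH.2 (W ⊓ spGL m F) (le_inf hle hH.1.le) inf_le_right with h | h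
    · exact h
    · exact absurd (h.ge.trans inf_le_left) hnot
  let σ : Fin 2 × (Fin 2 × Fin 2) ≃ Fin 2 × (Fin 2 × Fin 2) :=
    { toFun := fun p => (p.2.1, (p.1, p.2.2))
      invFun := fun p => (p.2.1, (p.1, p.2.2))
      left_inv := fun p => rfl
      right_inv := fun p => rfl }
  have hσσ : (1 : K8).submatrix id σ * (1 : K8).submatrix id σ = 1 := by
    rw [show ((1 : K8).submatrix id σ) = (1 : K8).submatrix (Equiv.refl _) σ from rfl, Matrix.mul_submatrix_one]
    rw [Matrix.submatrix_submatrix]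
    exact Matrix.submatrix_id_id _
  let k0 : GL (Fin 2 × (Fin 2 × Fin 2)) F :=
    ⟨(1 : K8).submatrix id σ, (1 : K8).submatrix id σ, hσσ, hσσ⟩
  have hk0S : coordHom e' P' k0 ∈ spGL m F := by
    rw [coordHom_mem_spGL hc' hst']
    show ((1 : K8).submatrix id σ)ᵀ * (G8 * (1 : K8).submatrix id σ) = G8
    rw [show ((1 : K8).submatrix id σ) = (1 : K8).submatrix (Equiv.refl _) σ from rfl, Matrix.mul_submatrix_one,
      Matrix.transpose_submatrix, Matrix.transpose_one, Matrix.one_submatrix_mul, Matrix.submatrix_submatrix]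
    ext ⟨a, b, b'⟩ ⟨a', d, d'⟩
    simp [σ, G8, TensorFour.G4]
    ring
  have hk0W : coordHom e' P' k0 ∈ W := hW k0 (Subgroup.subset_closure (Or.inr ⟨Equiv.swap 0 1, fun x y => by
    show (1 : K8) (x 0, (x 1, x 2)) (y 1, (y 0, y 2)) = _
    rw [Matrix.one_apply]
    refine if_congr ⟨fun h => ?_, fun h => ?_⟩ rfl rfl
    · simp only [Prod.mk.injEq] at h
      ext i; fin_cases i <;> simp [h.1, h.2.1, h.2.2, Equiv.swap_apply_def]
    · subst h; simp [Equiv.swap_apply_def]⟩))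
  have hmem : coordHom e' P' k0 ∈ H := hWS ▸ Subgroup.mem_inf.2 ⟨hk0W, hk0S⟩
  rw [hHeq] at hmem
  obtain ⟨⟨_, ⟨k, ⟨a, b, hk⟩, rfl⟩, hke⟩, -⟩ := hmem
  have hkk : M⁻¹ * k * M = glReindex r.symm k0 := by
    have h1 : P * glReindex e.symm k * P⁻¹ = P' * glReindex e'.symm k0 * P'⁻¹ := hke
    show (M⁻¹ * k * M : GL (Fin 2 × Fin 4) F) = _
    have h3 : glReindex e'.symm k0 = glReindex e.symm (glReindex r.symm k0) := Units.ext rfl
    rw [h3] at h1
    refine (glReindex (F := F) e.symm).injective ?_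
    rw [map_mul, map_mul, map_inv]
    calc (glReindex e.symm M)⁻¹ * glReindex e.symm k * glReindex e.symm M
        = (P * glReindex e.symm M)⁻¹ * (P * glReindex e.symm k * P⁻¹) * (P * glReindex e.symm M) := by group
      _ = _ := by rw [h1]; show (P * glReindex e.symm M)⁻¹ * (P * glReindex e.symm M * _ *
            (P * glReindex e.symm M)⁻¹) * _ = _; group
  set b'' : Matrix (Fin 4) (Fin 4) F :=
    ((B'⁻¹ : GL (Fin 4) F) : K4) * (b : K4) * (B' : K4)
  have hentry : ∀ i i' j j', (a : Matrix (Fin 2) (Fin 2) F) i i' * b'' (c4.symm j) (c4.symm j') =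
      (1 : K8) (i, j) (σ (i', j')) := by
    intro i i' j j'
    have h0 := congrArg (fun g : GL (Fin 2 × Fin 4) F => (g : K24)) hkk
    have h := congrFun (congrFun h0 (i, c4.symm j)) (i', c4.symm j')
    rw [Units.val_mul, Units.val_mul, hk] at h
    change (((1 : Matrix (Fin 2) (Fin 2) F) ⊗ₖ ((B'⁻¹ : GL (Fin 4) F) : K4) : K24) * (_ : K24) *
      ((1 : Matrix (Fin 2) (Fin 2) F) ⊗ₖ (B' : K4))) _ _ =
      (1 : K8) (r (i, c4.symm j)) (σ (r (i', c4.symm j'))) at h
    rw [← Matrix.mul_kronecker_mul, ← Matrix.mul_kronecker_mul, Matrix.one_mul, Matrix.mul_one] at h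
    rw [show r (i, c4.symm j) = (i, j) by simp [r], show r (i', c4.symm j') = (i', j') by simp [r]] at h
    exact h
  have e00 := hentry 0 0 (0, 0) (0, 0)
  have e01 := hentry 0 1 (1, 0) (0, 0)
  have e10 := hentry 0 0 (1, 0) (0, 0)
  simp [σ, Matrix.one_apply] at e00 e01 e10
  rcases e10 with e | e
  · rw [e, zero_mul] at e00; exact zero_ne_one e00
  · rw [e, mul_zero] at e01; exact zero_ne_one e01

end Embed

end Cfsg.Agent.Classical.Asch
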