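import Cfsg.Agent.Lib.Classical.AschEvenSmall
import Cfsg.Agent.Lib.Classical.AschEvenTensor
import Cfsg.Agent.Lib.Classical.AschTensorFour
import Cfsg.Agent.Lib.Classical.AschOrth
import Cfsg.Agent.Lib.Classical.AschPlanes

/-!
Tensor products in dimension twelve: a symplectic plane times a symplectic space, and three times four orthogonal
dimensions, which is a symplectic product for plus type and an orthogonal decomposition over three elements.
-/

set_option autoImplicit false
set_option linter.unusedSectionVars false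
set_option linter.unusedFintypeInType false
set_option linter.unusedDecidableInType false
set_option quotPrecheck false

namespace Cfsg.Agent.Classical.AschEven

open Matrix Module Cfsg.Geo
open scoped Kronecker
open Asch (TensorData pull co)

variable {F : Type*} [Field F] [Fintype F] {ι : Type} [Fintype ι] [DecidableEq ι] {Q : QuadraticForm F (ι → F)}

local notation "Mn" => Matrix ι ι F
local notation "B" => QuadraticMap.polar ⇑Q

omit [Fintype F] in
/-- A matrix with zero diagonal and opposite entries gives a symplectic form. -/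
theorem symplectic_gram {n : ℕ} {C : Matrix (Fin n) (Fin n) F} (hC : IsUnit C) (hs : ∀ p q, C q p = -C p q)
    (hd : ∀ p, C p p = 0) : IsSymplecticForm (formOfGram (RingEquiv.refl F) C) := by
  have hsq := Asch.sesq_formOfGram (RingEquiv.refl F) C
  refine ⟨⟨hsq.add_left, hsq.smul_left, hsq.add_right, hsq.smul_right⟩, fun u v => ?_, fun v => ?_,
    Asch.gram_nondeg _ hC⟩
  · simp only [formOfGram, RingEquiv.refl_apply]
    rw [Finset.sum_comm, ← Finset.sum_neg_distrib]
    refine Finset.sum_congr rfl fun i _ => ?_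
    rw [← Finset.sum_neg_distrib]
    refine Finset.sum_congr rfl fun j _ => ?_
    rw [hs i j]; ring
  · rw [Asch.formOfGram_eq]
    exact Asch.alt_eval (fun a b => hs b a) hd v

/-- The form structure of a tensor decomposition. -/
theorem tensor_structure {a b : ℕ} {e : ι ≃ Fin a × Fin b} {P : GL ι F} {C : Matrix (Fin a) (Fin a) F}
    {D : Matrix (Fin b) (Fin b) F} (hg : pull (RingEquiv.refl F) (gQ Q) e P = C ⊗ₖ D) :
    IsTensorFormStructure id B (formOfGram (RingEquiv.refl F) C) (formOfGram (RingEquiv.refl F) D) e P :=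
  ⟨1, one_ne_zero, fun x y => by
    rw [one_mul, Asch.gram_formOfGram, Asch.gram_formOfGram, ← cvec_apply, ← cvec_apply, polar_cvec, hg]; rfl⟩

/-- Changing coordinates in a tensor product. -/
theorem rebase {a b : ℕ} {κ : Type} [Fintype κ] [DecidableEq κ] (e : ι ≃ Fin a × Fin b) (P : GL ι F)
    (U : GL (Fin a × Fin b) F) (r : Fin a × Fin b ≃ κ) :
    (∀ z : κ → F, cvec (e.trans r) (P * glReindex e.symm U) z = cvec e P ((U : Matrix _ _ F) *ᵥ (z ∘ r))) ∧
      ∀ M : Matrix κ κ F, co (e.trans r) (P * glReindex e.symm U) M =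
        co e P ((U : Matrix _ _ F) * M.submatrix r r * ((U⁻¹ : GL (Fin a × Fin b) F) : Matrix _ _ F)) := by
  constructor
  · intro z
    rw [cvec_apply, cvec_apply, Units.val_mul, ← Matrix.mulVec_mulVec]
    congr 1
    show ((U : Matrix _ _ F).submatrix e e) *ᵥ ((z ∘ r) ∘ e) = _
    rw [Matrix.submatrix_mulVec_equiv]
    simp [Function.comp_assoc]
  · intro M
    simp only [Asch.co, Asch.cj, _root_.mul_inv_rev, Units.val_mul, map_mul]
    rw [show ((glReindex e.symm U : GL ι F) : Mn) = Matrix.reindexAlgEquiv F F e.symm (U : Matrix _ _ F) from rfl,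
      show (((glReindex e.symm U)⁻¹ : GL ι F) : Mn) =
        Matrix.reindexAlgEquiv F F e.symm ((U⁻¹ : GL (Fin a × Fin b) F) : Matrix _ _ F) from rfl,
      show Matrix.reindexAlgEquiv F F (e.trans r).symm M = Matrix.reindexAlgEquiv F F e.symm (M.submatrix r r) by
        ext i j; simp [Matrix.reindexAlgEquiv_apply]]
    simp only [mul_assoc]

omit [Fintype F] in
theorem mem_tensor_of {a b : ℕ} {e : ι ≃ Fin a × Fin b} {P g : GL ι F} (A : GL (Fin a) F) (C : GL (Fin b) F)
    (h : (g : Mn) = co e P ((A : Matrix (Fin a) (Fin a) F) ⊗ₖ (C : Matrix (Fin b) (Fin b) F))) :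
    g ∈ tensorProductSubgroup a b e P := by
  let k : GL (Fin a × Fin b) F := ⟨(A : Matrix (Fin a) (Fin a) F) ⊗ₖ (C : Matrix (Fin b) (Fin b) F),
    ((A⁻¹ : GL (Fin a) F) : Matrix (Fin a) (Fin a) F) ⊗ₖ ((C⁻¹ : GL (Fin b) F) : Matrix (Fin b) (Fin b) F),
    by rw [← Matrix.mul_kronecker_mul, Units.mul_inv, Units.mul_inv, Matrix.one_kronecker_one],
    by rw [← Matrix.mul_kronecker_mul, Units.inv_mul, Units.inv_mul, Matrix.one_kronecker_one]⟩
  refine ⟨glReindex e.symm k, ⟨k, ⟨A, C, rfl⟩, rfl⟩, Units.ext ?_⟩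
  rw [h]; rfl

/-- Three orthogonal copies of the second factor. -/
theorem three_fours (h2 : (2 : F) ≠ 0) {e : ι ≃ Fin 3 × Fin 4} {P : GL ι F} {H : Subgroup (GL ι F)}
    {C : Matrix (Fin 3) (Fin 3) F} {D : Matrix (Fin 4) (Fin 4) F}
    (h : TensorData (RingEquiv.refl F) (gQ Q) H e P C D) (hC : Cᵀ = C) (hD : Dᵀ = D) :
    ∃ E : Fin 3 → Submodule F (ι → F), IsOrthogonalMDecomposition (⇑Q) 4 E ∧
      (∀ i, IsPlusTypeOn (⇑Q) (E i) ↔
        IsPlusTypeOn (fun v : Fin 4 → F => formOfGram (RingEquiv.refl F) D v v) ⊤) ∧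
      (Fintype.card F = 3 → H ≤ decompositionStabilizer E) := by
  classical
  obtain ⟨s, X, hs, hX⟩ := Asch.sym_congr_one (k := 3) ⟨1, rfl⟩ h2 h.unit_left hC
  set Xm := (X : Matrix (Fin 3) (Fin 3) F) with hXm
  have hXC : ∀ i j, (Xmᵀ * (C * Xm)) i j = if i = j then s⁻¹ else 0 := fun i j => by
    have h1 := congrFun (congrFun hX i) j
    rw [Matrix.smul_mul, Matrix.mul_smul, Matrix.smul_apply, Matrix.one_apply, smul_eq_mul] at h1
    by_cases hij : i = j
    · rw [if_pos hij] at h1 ⊢; exact eq_inv_of_mul_eq_one_right h1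
    · rw [if_neg hij] at h1 ⊢; exact (mul_eq_zero.1 h1).resolve_left hs
  let v₀ : Fin 3 → ((Fin 4 → F) →ₗ[F] (Fin 3 × Fin 4 → F)) := fun i =>
    { toFun := fun z x => Xm x.1 i * z x.2
      map_add' := fun z z' => by funext x; simp [mul_add]
      map_smul' := fun c z => by funext x; simp only [Pi.smul_apply, RingHom.id_apply, smul_eq_mul]; ring }
  let v : Fin 3 → ((Fin 4 → F) →ₗ[F] (ι → F)) := fun i => (cvec e P).comp (v₀ i)
  have hBv : ∀ i j z z', B (v i z) (v j z') =
      (if i = j then s⁻¹ else 0) * formOfGram (RingEquiv.refl F) D z z' := by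
    intro i j z z'
    show B (cvec e P fun x => Xm x.1 i * z x.2) (cvec e P fun x => Xm x.1 j * z' x.2) = _
    rw [polar_cvec, h.gram, ← hXC]
    simp only [formOfGram, RingEquiv.refl_apply, Fintype.sum_prod_type, Matrix.kroneckerMap_apply, Matrix.mul_apply,
      Matrix.transpose_apply, Finset.mul_sum, Finset.sum_mul]
    rw [Finset.sum_comm]
    refine Finset.sum_congr rfl fun p _ => ?_
    rw [Finset.sum_congr rfl (fun q _ => Finset.sum_comm), Finset.sum_comm]
    exact Finset.sum_congr rfl fun q _ => Finset.sum_congr rfl fun l _ => Finset.sum_congr rfl fun m _ => by ring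
  have hQv : ∀ i z, Q (v i z) = s⁻¹ * formOfGram (RingEquiv.refl F) D z z / 2 := fun i z => by
    have h1 := hBv i i z z
    rw [polar_two, if_pos rfl] at h1
    rw [← h1, mul_div_cancel_left₀ _ h2]
  have hvinj : ∀ i, Function.Injective (v i) := fun i => (injective_iff_map_eq_zero _).2 fun z hz => by
    by_contra hz0
    obtain ⟨y, hy⟩ := (Asch.gram_nondeg (RingEquiv.refl F) h.unit_right z hz0).2
    have h1 := hBv i i z y
    rw [hz, if_pos rfl, ← QuadraticMap.polarBilin_apply_apply, map_zero, LinearMap.zero_apply] at h1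
    exact hy ((mul_eq_zero.1 h1.symm).resolve_left (inv_ne_zero hs))
  let E : Fin 3 → Submodule F (ι → F) := fun i => LinearMap.range (v i)
  let φ : ∀ i, (Fin 4 → F) ≃ₗ[F] E i := fun i => LinearEquiv.ofInjective (v i) (hvinj i)
  have hφ : ∀ i z, Q ((φ i z : E i) : ι → F) = s⁻¹ * formOfGram (RingEquiv.refl F) D z z / 2 := fun i z => hQv i z
  have hd : ∀ i, finrank F (E i) = 4 := fun i => by
    rw [LinearMap.finrank_range_of_inj (hvinj i), Module.finrank_fin_fun]
  have hcard : Fintype.card ι = 12 := by rw [Asch.card_of_equiv e]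
  refine ⟨E, ⟨mk_decomp (by norm_num) (by norm_num) hd (fun i x hx hx0 => ?_) (fun i j hij x hx y hy => ?_)
    (by rw [hcard]), fun i j => ⟨(φ i).symm.trans (φ j), fun w => ?_⟩⟩, fun i => ?_, fun h3 g hg => ?_⟩
  · obtain ⟨z, rfl⟩ := hx
    have hz0 : z ≠ 0 := fun h => hx0 (by rw [h, map_zero])
    obtain ⟨y, hy⟩ := (Asch.gram_nondeg (RingEquiv.refl F) h.unit_right z hz0).2
    have hne : B (v i z) (v i y) ≠ 0 := by rw [hBv, if_pos rfl]; exact mul_ne_zero (inv_ne_zero hs) hy
    exact ⟨⟨v i y, ⟨y, rfl⟩, by rwa [QuadraticMap.polar_comm]⟩, v i y, ⟨y, rfl⟩, hne⟩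
  · obtain ⟨z, rfl⟩ := hx
    obtain ⟨z', rfl⟩ := hy
    rw [hBv, if_neg hij, zero_mul]
  · obtain ⟨z, rfl⟩ := (φ i).surjective w
    rw [LinearEquiv.trans_apply, LinearEquiv.symm_apply_apply, hφ, hφ]
  · constructor
    · rintro ⟨U, hU, hU0, hUd⟩
      refine ⟨U.comap (v i), le_top, fun z hz => ?_, ?_⟩
      · have h1 := hU0 _ hz
        rw [hQv, div_eq_zero_iff, or_iff_left h2, mul_eq_zero] at h1
        exact h1.resolve_left (inv_ne_zero hs)
      · rw [hd] at hUd
        have h1 := (Submodule.equivMapOfInjective (v i) (hvinj i) (U.comap (v i))).finrank_eq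
        rw [Submodule.map_comap_eq_self hU] at h1
        rw [finrank_top, Module.finrank_fin_fun, h1, hUd]
    · rintro ⟨U, -, hU0, hUd⟩
      refine ⟨U.map (v i), LinearMap.map_le_range, fun x hx => ?_, ?_⟩
      · obtain ⟨z, hz, rfl⟩ := hx
        rw [hQv, show formOfGram (RingEquiv.refl F) D z z = 0 from hU0 z hz, mul_zero, zero_div]
      · rw [← (Submodule.equivMapOfInjective (v i) (hvinj i) U).finrank_eq, hd, hUd, finrank_top,
          Module.finrank_fin_fun]
  · obtain ⟨A, C', u, hgv, hA, -⟩ := h.sim g hg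
    rw [show (A : Matrix (Fin 3) (Fin 3) F).map (RingEquiv.refl F) = (A : Matrix (Fin 3) (Fin 3) F) from
      Matrix.map_id _] at hA
    have hμ := Asch.multiplier_three h3 h.unit_left hA
    rw [hμ, one_smul] at hA
    have horth := Asch.orth_conj (Z := X) (W := A) (C := s • C) (by simpa using hX)
      (by rw [Matrix.smul_mul, Matrix.mul_smul, hA])
    set M := X⁻¹ * A * X with hM
    have hMo : (M : Matrix (Fin 3) (Fin 3) F)ᵀ * (M : Matrix (Fin 3) (Fin 3) F) = 1 := horth
    have hcol := fun j => Asch.monomial_three h3 hMo j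
    choose π hπ hπ' using hcol
    have hAX : ∀ j p, ((A : Matrix (Fin 3) (Fin 3) F) * Xm) p j = Xm p (π j) * (M : Matrix (Fin 3) (Fin 3) F) (π j) j := by
      intro j p
      have h1 : (A : Matrix (Fin 3) (Fin 3) F) * Xm = Xm * (M : Matrix (Fin 3) (Fin 3) F) := by
        rw [hXm, ← Units.val_mul, ← Units.val_mul, hM]
        congr 1
        group
      rw [h1, Matrix.mul_apply, Finset.sum_eq_single (π j) (fun l _ hl => by rw [hπ' j l hl, mul_zero]) (by simp)]
    have hgv' : ∀ j z, (g : Mn) *ᵥ v j z =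
        v (π j) ((M : Matrix (Fin 3) (Fin 3) F) (π j) j • ((C' : Matrix (Fin 4) (Fin 4) F) *ᵥ z)) := by
      intro j z
      show (g : Mn) *ᵥ cvec e P (fun x => Xm x.1 j * z x.2) = cvec e P (fun x => Xm x.1 (π j) *
        ((M : Matrix (Fin 3) (Fin 3) F) (π j) j • ((C' : Matrix (Fin 4) (Fin 4) F) *ᵥ z)) x.2)
      rw [hgv, co_cvec]
      congr 1
      funext x
      rw [Pi.smul_apply, smul_eq_mul, ← mul_assoc, ← hAX]
      simp only [Matrix.mulVec, dotProduct, Matrix.kroneckerMap_apply, Fintype.sum_prod_type, Matrix.mul_apply,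
        Finset.sum_mul, Finset.mul_sum]
      rw [Finset.sum_comm]
      exact Finset.sum_congr rfl fun p _ => Finset.sum_congr rfl fun q _ => by ring
    have hπinj : Function.Injective π := by
      intro i j hij
      by_contra hne
      have h1 := congrFun (congrFun hMo i) j
      rw [Matrix.mul_apply, Matrix.one_apply_ne hne,
        Finset.sum_eq_single (π i) (fun l _ hl => by rw [Matrix.transpose_apply, hπ' i l hl, zero_mul]) (by simp),
        Matrix.transpose_apply] at h1
      exact mul_ne_zero (hπ i) (hij ▸ hπ j) h1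
    refine ⟨Equiv.ofBijective π (Finite.injective_iff_bijective.1 hπinj), fun j => ?_⟩
    refine Submodule.eq_of_le_of_finrank_eq ?_ ?_
    · rintro _ ⟨_, ⟨z, rfl⟩, rfl⟩
      exact ⟨_, (hgv' j z).symm.trans (Matrix.toLin'_apply _ _).symm⟩
    · rw [hd, ← (Submodule.equivMapOfInjective (Matrix.toLin' (g : Mn))
        (fun x y hxy => MaxTv.gl_mulVec_injective g (by simpa using hxy)) (E j)).finrank_eq, hd]

set_option maxHeartbeats 800000 in
/-- Three times four orthogonal dimensions of plus type lie in a symplectic product. -/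
theorem three_four_plus (h2 : (2 : F) ≠ 0) {e : ι ≃ Fin 3 × Fin 4} {P : GL ι F} {H : Subgroup (GL ι F)}
    {C : Matrix (Fin 3) (Fin 3) F} {D : Matrix (Fin 4) (Fin 4) F}
    (h : TensorData (RingEquiv.refl F) (gQ Q) H e P C D) (hC : Cᵀ = C) (hD : Dᵀ = D)
    (hdet : ∀ g ∈ H, (g : Mn).det = 1)
    (hplus : IsPlusTypeOn (fun v : Fin 4 → F => formOfGram (RingEquiv.refl F) D v v) ⊤) :
    ∃ (e' : ι ≃ Fin 2 × Fin 6) (P' : GL ι F) (C₁ : Matrix (Fin 2) (Fin 2) F) (D₁ : Matrix (Fin 6) (Fin 6) F),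
      IsSymplecticForm (formOfGram (RingEquiv.refl F) C₁) ∧ IsSymplecticForm (formOfGram (RingEquiv.refl F) D₁) ∧
      IsTensorFormStructure id B (formOfGram (RingEquiv.refl F) C₁) (formOfGram (RingEquiv.refl F) D₁) e' P' ∧
      (∀ (x : Fin 2 → F) (y : Fin 6 → F), Q ((P' : Mn) *ᵥ ((fun p : Fin 2 × Fin 6 => x p.1 * y p.2) ∘ e')) = 0) ∧
      H ≤ tensorProductSubgroup 2 6 e' P' := by
  classical
  obtain ⟨Bm, Bi, hBBi, hBiB, hBG⟩ := Asch.TensorFour.exists_basis h2 (Asch.isSymmetricForm_gram h.unit_right hD) hplus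
  rw [Asch.gram_formOfGram] at hBG
  let c4 : Fin 4 ≃ Fin 2 × Fin 2 := (finProdFinEquiv (m := 2) (n := 2)).symm
  let f6 : Fin 3 × Fin 2 ≃ Fin 6 := finProdFinEquiv
  let W : GL (Fin 4) F := ⟨Bm.submatrix id c4, Bi.submatrix c4 id, by
    rw [Matrix.submatrix_mul_equiv, hBBi]; simp, by
    rw [← Matrix.submatrix_mul _ _ _ id _ Function.bijective_id, hBiB]; simp⟩
  set Wm := (W : Matrix (Fin 4) (Fin 4) F)
  set Wi := ((W⁻¹ : GL (Fin 4) F) : Matrix (Fin 4) (Fin 4) F)
  let U : GL (Fin 3 × Fin 4) F := ⟨(1 : Matrix (Fin 3) (Fin 3) F) ⊗ₖ Wm, (1 : Matrix (Fin 3) (Fin 3) F) ⊗ₖ Wi,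
    by rw [← Matrix.mul_kronecker_mul, Matrix.one_mul, Units.mul_inv, Matrix.one_kronecker_one],
    by rw [← Matrix.mul_kronecker_mul, Matrix.one_mul, Units.inv_mul, Matrix.one_kronecker_one]⟩
  let r : Fin 3 × Fin 4 ≃ Fin 2 × Fin 6 :=
    { toFun := fun x => ((c4 x.2).1, f6 (x.1, (c4 x.2).2))
      invFun := fun y => ((f6.symm y.2).1, c4.symm (y.1, (f6.symm y.2).2))
      left_inv := fun x => by simp
      right_inv := fun y => by simp }
  obtain ⟨hz, hco⟩ := rebase e P U r
  set δ : Matrix (Fin 2) (Fin 2) F := Asch.detForm with hδ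
  let D₁ : Matrix (Fin 6) (Fin 6) F := (1 / 2 : F) • (C ⊗ₖ δ).submatrix f6.symm f6.symm
  have hW4 : Wmᵀ * (D * Wm) = (1 / 2 : F) • (δ ⊗ₖ δ).submatrix c4 c4 := by
    show (Bm.submatrix id c4)ᵀ * (D * Bm.submatrix id c4) = _
    ext i j
    have := congrFun (congrFun hBG (c4 i)) (c4 j)
    simpa [Matrix.mul_apply, Asch.TensorFour.G4, hδ] using this
  have hgram : pull (RingEquiv.refl F) (gQ Q) (e.trans r) (P * glReindex e.symm U) = δ ⊗ₖ D₁ := by
    refine Asch.gram_inj (RingEquiv.refl F) fun z w => ?_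
    rw [← polar_cvec, hz, hz, polar_cvec, h.gram, Asch.formOfGram_mulVec,
      show (U : Matrix (Fin 3 × Fin 4) (Fin 3 × Fin 4) F).map (RingEquiv.refl F) = (U : Matrix _ _ F) from
        Matrix.map_id _]
    show formOfGram _ (((1 : Matrix (Fin 3) (Fin 3) F) ⊗ₖ Wm)ᵀ * ((C ⊗ₖ D) * ((1 : Matrix (Fin 3) (Fin 3) F) ⊗ₖ Wm)))
      _ _ = _
    rw [Asch.kron_transpose, Matrix.transpose_one, ← Matrix.mul_kronecker_mul, ← Matrix.mul_kronecker_mul,
      Matrix.one_mul, Matrix.mul_one, hW4]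
    simp only [formOfGram, RingEquiv.refl_apply]
    rw [← r.sum_comp]
    refine Finset.sum_congr rfl fun x _ => ?_
    rw [← r.sum_comp]
    refine Finset.sum_congr rfl fun y _ => ?_
    simp only [r, D₁, Function.comp_apply, Matrix.smul_apply, Matrix.submatrix_apply, Matrix.kroneckerMap_apply,
      Equiv.coe_fn_mk, smul_eq_mul, Equiv.symm_apply_apply]
    ring
  have hδs : ∀ p q, δ q p = -δ p q := fun p q => by fin_cases p <;> fin_cases q <;> simp [hδ, Asch.detForm]
  have hδd : ∀ p, δ p p = 0 := fun p => by fin_cases p <;> simp [hδ, Asch.detForm]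
  have hδu : IsUnit δ := (Matrix.isUnit_iff_isUnit_det _).2 (by simp [hδ, Asch.detForm, Matrix.det_fin_two])
  have hD₁u : IsUnit D₁ := by
    have h1 : IsUnit ((C ⊗ₖ δ).submatrix f6.symm f6.symm) := (Matrix.isUnit_submatrix_equiv f6.symm f6.symm).2
      ((Matrix.isUnit_iff_isUnit_det _).2 (by
        rw [Matrix.det_kronecker]
        exact (((Matrix.isUnit_iff_isUnit_det _).1 h.unit_left).pow _).mul
          (((Matrix.isUnit_iff_isUnit_det _).1 hδu).pow _)))
    show IsUnit ((Units.mk0 (1 / 2 : F) (one_div_ne_zero h2)) • (C ⊗ₖ δ).submatrix f6.symm f6.symm)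
    exact h1.smul _
  refine ⟨e.trans r, P * glReindex e.symm U, δ, D₁, symplectic_gram hδu hδs hδd,
    symplectic_gram hD₁u (fun p q => ?_) (fun p => ?_), tensor_structure hgram, fun x y => ?_, fun g hg => ?_⟩
  · simp only [D₁, Matrix.smul_apply, Matrix.submatrix_apply, Matrix.kroneckerMap_apply, smul_eq_mul]
    rw [hδs, show C (f6.symm q).1 (f6.symm p).1 = C (f6.symm p).1 (f6.symm q).1 from congrFun (congrFun hC _) _]
    ring
  · simp [D₁, hδd]
  · have h1 := polar_cvec (Q := Q) (e.trans r) (P * glReindex e.symm U)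
      (fun p : Fin 2 × Fin 6 => x p.1 * y p.2) (fun p : Fin 2 × Fin 6 => x p.1 * y p.2)
    have h3 : formOfGram (RingEquiv.refl F) (δ ⊗ₖ D₁) (fun p : Fin 2 × Fin 6 => x p.1 * y p.2)
        (fun p : Fin 2 × Fin 6 => x p.1 * y p.2) = 0 := by
      have h4 := (symplectic_gram hδu hδs hδd).alternating x
      simp only [formOfGram, RingEquiv.refl_apply, Fintype.sum_prod_type, Matrix.kroneckerMap_apply] at h4 ⊢
      calc _ = (∑ p, ∑ q, x p * δ p q * x q) * (∑ l, ∑ m, y l * D₁ l m * y m) := by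
            rw [Finset.sum_mul_sum]
            refine Finset.sum_congr rfl fun p _ => Finset.sum_congr rfl fun l _ => ?_
            rw [Finset.sum_mul_sum]
            exact Finset.sum_congr rfl fun q _ => Finset.sum_congr rfl fun m _ => by ring
        _ = 0 := by rw [h4, zero_mul]
    rw [hgram, h3, polar_two] at h1
    exact (mul_eq_zero.1 h1).resolve_left h2
  · obtain ⟨A, C', u, hgv, hA, hB⟩ := h.sim g hg
    rw [show (A : Matrix (Fin 3) (Fin 3) F).map (RingEquiv.refl F) = (A : Matrix (Fin 3) (Fin 3) F) from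
      Matrix.map_id _] at hA
    rw [show (C' : Matrix (Fin 4) (Fin 4) F).map (RingEquiv.refl F) = (C' : Matrix (Fin 4) (Fin 4) F) from
      Matrix.map_id _] at hB
    set Am := (A : Matrix (Fin 3) (Fin 3) F)
    set Cm := (C' : Matrix (Fin 4) (Fin 4) F)
    set μ : F := ((u⁻¹ : Fˣ) : F)
    -- the second factor in the tensor coordinates
    let k : Matrix (Fin 2 × Fin 2) (Fin 2 × Fin 2) F := (Wi * Cm * Wm).submatrix c4.symm c4.symm
    have hk : kᵀ * (Asch.TensorFour.G4 * k) = μ • Asch.TensorFour.G4 := by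
      have h1 : (Wi * Cm * Wm)ᵀ * ((δ ⊗ₖ δ).submatrix c4 c4 * (Wi * Cm * Wm)) = μ • (δ ⊗ₖ δ).submatrix c4 c4 := by
        refine smul_right_injective (Matrix (Fin 4) (Fin 4) F) (one_div_ne_zero h2) ?_
        show (1 / 2 : F) • _ = (1 / 2 : F) • _
        rw [← Matrix.mul_smul, ← Matrix.smul_mul, smul_comm, ← hW4,
          show (Wi * Cm * Wm)ᵀ * (Wmᵀ * (D * Wm) * (Wi * Cm * Wm)) =
            Wmᵀ * ((Cmᵀ * ((Wm * Wi)ᵀ * (D * ((Wm * Wi) * Cm)))) * Wm) by
              simp only [Matrix.transpose_mul, mul_assoc],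
          show Wm * Wi = 1 from Units.mul_inv W, Matrix.transpose_one, one_mul, one_mul, hB, Matrix.smul_mul,
          Matrix.mul_smul]
      have h3 := congrArg (fun M : Matrix (Fin 4) (Fin 4) F => M.submatrix c4.symm c4.symm) h1
      simp only [← Matrix.submatrix_mul_equiv _ _ _ c4.symm, Matrix.submatrix_submatrix, Equiv.self_comp_symm,
        Matrix.submatrix_id_id, ← Matrix.transpose_submatrix, Matrix.submatrix_smul, Pi.smul_apply] at h3
      exact h3
    have hkd : k.det = Cm.det := by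
      show (Matrix.det ((Wi * Cm * Wm).submatrix c4.symm c4.symm)) = _
      rw [Matrix.det_submatrix_equiv_self, Matrix.det_units_conj']
    obtain ⟨A₁, B₁, hA₁, hB₁, hk'⟩ := Asch.TensorFour.similitude h2 (Units.ne_zero _) hk
    have hS : (Asch.TensorFour.S (F := F)).det = -1 := by
      have h1 : Asch.TensorFour.S (F := F) =
          (1 : Matrix (Fin 2 × Fin 2) (Fin 2 × Fin 2) F).submatrix id (Equiv.prodComm (Fin 2) (Fin 2)) := rfl
      rw [h1, Matrix.det_permute', Matrix.det_one, mul_one,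
        show Equiv.Perm.sign (Equiv.prodComm (Fin 2) (Fin 2)) = -1 by decide]
      simp
    -- the exchange of the factors is excluded by the determinant
    have hk1 : k = A₁ ⊗ₖ B₁ := by
      refine hk'.resolve_right fun hbad => ?_
      have hμ' : A₁.det * B₁.det = μ := by
        have hSG : (Asch.TensorFour.S (F := F))ᵀ * (Asch.TensorFour.G4 * Asch.TensorFour.S) = Asch.TensorFour.G4 := by
          ext ⟨i, j⟩ ⟨i', j'⟩
          fin_cases i <;> fin_cases j <;> fin_cases i' <;> fin_cases j' <;>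
            simp [Asch.TensorFour.S, Asch.TensorFour.G4, Asch.detForm, Matrix.mul_apply, Fintype.sum_prod_type,
              Fin.sum_univ_two, Matrix.one_apply]
        rw [hbad, Matrix.transpose_mul,
          show (Asch.TensorFour.S (F := F))ᵀ * (A₁ ⊗ₖ B₁)ᵀ * (Asch.TensorFour.G4 * (A₁ ⊗ₖ B₁ * Asch.TensorFour.S)) =
            (Asch.TensorFour.S (F := F))ᵀ * (((A₁ ⊗ₖ B₁)ᵀ * (Asch.TensorFour.G4 * (A₁ ⊗ₖ B₁))) * Asch.TensorFour.S) by
              simp only [mul_assoc],
          Asch.TensorFour.G4_form_kron, Matrix.smul_mul, Matrix.mul_smul, hSG] at hk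
        have h5 := congrFun (congrFun hk (0, 0)) (1, 1)
        simpa [Asch.TensorFour.G4, Asch.detForm] using h5
      have hdC : Cm.det = -(μ ^ 2) := by
        rw [← hkd, hbad, Matrix.det_mul, Matrix.det_kronecker, hS, Fintype.card_fin, ← hμ']
        ring
      have hg1 := hdet g hg
      rw [hgv, Asch.co_det, Matrix.det_kronecker, Fintype.card_fin, Fintype.card_fin, hdC] at hg1
      have hA2 : Am.det ^ 2 = (u : F) ^ 3 := by
        have h5 := congrArg Matrix.det hA
        rw [Matrix.det_mul, Matrix.det_mul, Matrix.det_transpose, Matrix.det_smul, Fintype.card_fin] at h5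
        refine mul_right_cancel₀ ((Matrix.isUnit_iff_isUnit_det _).1 h.unit_left).ne_zero ?_
        linear_combination h5
      have h6 : Am.det ^ 4 = (u : F) ^ 6 := by linear_combination (Am.det ^ 2 + (u : F) ^ 3) * hA2
      have h7 : ((u : F) * μ) ^ 6 = 1 := by rw [show (u : F) * μ = 1 from Units.mul_inv u, one_pow]
      exact h2 (by linear_combination -hg1 - μ ^ 6 * h6 - h7)
    let A₂ : GL (Fin 2) F := Matrix.GeneralLinearGroup.mkOfDetNeZero A₁ hA₁
    let B₂ : GL (Fin 6) F := Matrix.GeneralLinearGroup.mkOfDetNeZero ((Am ⊗ₖ B₁).submatrix f6.symm f6.symm) (by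
      rw [Matrix.det_submatrix_equiv_self, Matrix.det_kronecker]
      exact mul_ne_zero (pow_ne_zero _ ((Matrix.isUnit_iff_isUnit_det _).1 A.isUnit).ne_zero) (pow_ne_zero _ hB₁))
    refine mem_tensor_of A₂ B₂ ?_
    rw [hgv, hco]
    congr 1
    have hsub : (A₁ ⊗ₖ ((Am ⊗ₖ B₁).submatrix f6.symm f6.symm)).submatrix r r =
        Am ⊗ₖ ((A₁ ⊗ₖ B₁).submatrix c4 c4) := by
      ext x y
      simp [r]
      ring
    show _ = (U : Matrix _ _ F) * (A₁ ⊗ₖ ((Am ⊗ₖ B₁).submatrix f6.symm f6.symm)).submatrix r r * _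
    rw [hsub, ← hk1]
    show Am ⊗ₖ Cm = ((1 : Matrix (Fin 3) (Fin 3) F) ⊗ₖ Wm) * _ * ((1 : Matrix (Fin 3) (Fin 3) F) ⊗ₖ Wi)
    rw [← Matrix.mul_kronecker_mul, ← Matrix.mul_kronecker_mul, Matrix.one_mul, Matrix.mul_one]
    congr 1
    simp only [k, Matrix.submatrix_submatrix, Equiv.symm_comp_self, Matrix.submatrix_id_id]
    rw [show Wm * (Wi * Cm * Wm) * Wi = (Wm * Wi) * Cm * (Wm * Wi) by simp only [mul_assoc],
      show Wm * Wi = 1 from Units.mul_inv W, one_mul, mul_one]

end Cfsg.Agent.Classical.AschEven
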