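import Cfsg.Agent.Lib.Classical.AschEvenTensor
import Cfsg.Agent.Lib.Classical.AschOrthProper
import Cfsg.Agent.Lib.Classical.AschOrthPlane
import Cfsg.Agent.Lib.Classical.AschUnitProper

/-!
The orthogonal group `Ω` of even dimension lies in no stabiliser of a decomposition or of a tensor product.
-/

set_option autoImplicit false
set_option linter.unusedSectionVars false
set_option linter.unusedFintypeInType false
set_option linter.unusedDecidableInType false
set_option quotPrecheck false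

namespace Cfsg.Agent.Classical.AschEven

open Matrix Module Cfsg.Geo OrthAut
open scoped Kronecker

variable {F : Type*} [Field F] [Fintype F] {ι : Type} [Fintype ι] [DecidableEq ι] {Q : QuadraticForm F (ι → F)}

local notation "Mn" => Matrix ι ι F
local notation "B" => QuadraticMap.polar ⇑Q

variable (hQ : (QuadraticMap.polarBilin Q).Nondegenerate) (h7 : 7 ≤ Fintype.card ι)
include hQ h7

/-- `Ω` is generated by the long root elements. -/
theorem omega_le_of_roots {M : Subgroup (GL ι F)}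
    (h : ∀ e w, TS Q e w → ∀ g : GL ι F, g ∈ Geo.omegaGL ⇑Q →
      (∀ x, (g : Mn) *ᵥ x = x + B e x • w - B w x • e) → g ∈ M) : Geo.omegaGL ⇑Q ≤ M := by
  have hT := AschOrthTwo.tri_of_card hQ h7
  suffices Omega F ⇑Q ≤ M.comap (isometryGroup F ⇑Q).subtype by
    rintro _ ⟨g, hg, rfl⟩
    exact this hg
  rw [omega_eq_sR_all hQ hT]
  refine (Subgroup.closure_le _).2 fun g hg => ?_
  obtain ⟨a, b, hab, hgab⟩ := hg
  refine h a b hab _ (Subgroup.mem_map_of_mem _ ?_) fun x => ?_
  · rw [omega_eq_sR_all hQ hT]; exact Subgroup.subset_closure ⟨a, b, hab, hgab⟩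
  · show ogVal g *ᵥ x = _
    rw [hgab, eMat_mulVec, hab.2.1, zero_mul, zero_smul, sub_zero]

/-- `Ω` permutes no decomposition into parts of dimension at least three. -/
theorem not_omega_le_decomp_three {t k : ℕ} (hk : 3 ≤ k) {D : Fin t → Submodule F (ι → F)}
    (hD : IsMDecomposition k D) : ¬ Geo.omegaGL ⇑Q ≤ decompositionStabilizer D := by
  classical
  intro hle
  haveI : NeZero t := ⟨by have := hD.two_le; omega⟩
  have hdim : ∀ i, finrank F (D i) = k := hD.finrank_eq
  have h0 : D 0 ≠ ⊥ := fun h => by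
    have := hdim 0
    rw [h, finrank_bot] at this
    omega
  have ht : D 0 ≠ ⊤ := fun h => by
    have h1 := hdim 0
    rw [h, finrank_top, Module.finrank_pi] at h1
    have h2 := MaxMon.decomp_card hD
    have := hD.two_le
    nlinarith
  refine AschOrthTwo.not_omega_le_subspace hQ h7 h0 ht (omega_le_of_roots hQ h7 fun e w _ g hg hgx => ?_)
  obtain ⟨σ, hσ⟩ := hle hg
  have hfix : σ 0 = 0 := by
    by_contra hne
    let L : D 0 →ₗ[F] Submodule.span F ({e, w} : Set (ι → F)) :=
      LinearMap.codRestrict _ ((Matrix.toLin' (g : Mn) - LinearMap.id).comp (D 0).subtype) fun x => by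
        rw [LinearMap.comp_apply, LinearMap.sub_apply, LinearMap.id_apply, Matrix.toLin'_apply, Submodule.coe_subtype, hgx,
          show ((x : ι → F) + B e (x : ι → F) • w - B w (x : ι → F) • e) - (x : ι → F) =
            B e (x : ι → F) • w - B w (x : ι → F) • e by abel]
        exact Submodule.sub_mem _ (Submodule.smul_mem _ _ (Submodule.subset_span (by simp)))
          (Submodule.smul_mem _ _ (Submodule.subset_span (by simp)))
    have hL : Function.Injective L := by
      refine (injective_iff_map_eq_zero L).2 fun x hx => Subtype.ext ?_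
      have h1 : (g : Mn) *ᵥ (x : ι → F) - (x : ι → F) = 0 := congrArg Subtype.val hx
      have h2 : (x : ι → F) ∈ D (σ 0) := by
        rw [← hσ 0]
        exact ⟨x, x.2, by rw [Matrix.toLin'_apply]; exact sub_eq_zero.1 h1⟩
      have hdis : Disjoint (D 0) (D (σ 0)) := hD.indep.pairwiseDisjoint (Ne.symm hne)
      exact Submodule.disjoint_def.1 hdis _ x.2 h2
    have h1 := LinearMap.finrank_le_finrank_of_injective hL
    have h2 := finrank_span_le_card (R := F) ({e, w} : Set (ι → F))
    rw [Set.toFinset_insert, Set.toFinset_singleton] at h2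
    have h3 := (Finset.card_le_two (a := e) (b := w))
    rw [hdim] at h1
    omega
  exact (MaxTv.mem_subspaceStabilizer_iff (D 0) g).2 fun x hx => by
    have h1 : (g : Mn) *ᵥ x ∈ D (σ 0) := hσ 0 ▸ ⟨x, hx, Matrix.toLin'_apply _ _⟩
    rwa [hfix] at h1

/-- In characteristic two `Ω` permutes no orthogonal decomposition into at least four isometric parts. -/
theorem not_omega_le_planes (h2 : (2 : F) = 0) {t : ℕ} (ht : 4 ≤ t) {D : Fin t → Submodule F (ι → F)}
    (hD : IsOrthogonalMDecomposition (⇑Q) 2 D) : ¬ Geo.omegaGL ⇑Q ≤ decompositionStabilizer D := by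
  classical
  intro hle
  have hM := hD.decomp.decomp
  haveI : NeZero t := ⟨by omega⟩
  let i₁ : Fin t := ⟨1, by omega⟩
  let i₂ : Fin t := ⟨2, by omega⟩
  let i₃ : Fin t := ⟨3, by omega⟩
  obtain ⟨a, ha, ha0⟩ := Submodule.exists_mem_ne_zero_of_ne_bot (p := D 0) fun h => by
    have := hM.finrank_eq 0
    rw [h, finrank_bot] at this
    omega
  choose φ hφ using fun l => hD.isometric 0 l
  set v : Fin t → ι → F := fun l => (φ l ⟨a, ha⟩ : ι → F) with hv
  have hvD : ∀ l, v l ∈ D l := fun l => (φ l ⟨a, ha⟩).2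
  have hvQ : ∀ l, Q (v l) = Q a := fun l => hφ l ⟨a, ha⟩
  have hv0 : ∀ l, v l ≠ 0 := fun l h => ha0 (by
    have h1 : φ l ⟨a, ha⟩ = 0 := Subtype.ext h
    exact congrArg Subtype.val ((LinearEquiv.map_eq_zero_iff _).1 h1))
  have horth : ∀ l l', l ≠ l' → B (v l) (v l') = 0 := fun l l' h => hD.decomp.orthogonal l l' h _ (hvD l) _ (hvD l')
  have hne : (0 : Fin t) ≠ i₁ ∧ (0 : Fin t) ≠ i₂ ∧ (0 : Fin t) ≠ i₃ ∧ i₁ ≠ i₂ ∧ i₁ ≠ i₃ ∧ i₂ ≠ i₃ := by
    simp [i₁, i₂, i₃, Fin.ext_iff]
  obtain ⟨h01, h02, h03, h12, h13, h23⟩ := hne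
  set e := v 0 + v i₁ with he
  set w := v i₂ + v i₃ with hw
  have hQe : Q e = 0 := by
    rw [he, QuadraticMap.map_add ⇑Q, hvQ, hvQ, horth _ _ h01]
    linear_combination Q a * h2
  have hQw : Q w = 0 := by
    rw [hw, QuadraticMap.map_add ⇑Q, hvQ, hvQ, horth _ _ h23]
    linear_combination Q a * h2
  have hew : B e w = 0 := by
    simp only [he, hw, QuadraticMap.polar_add_left, QuadraticMap.polar_add_right, horth _ _ h02, horth _ _ h03,
      horth _ _ h12, horth _ _ h13, add_zero]
  obtain ⟨p, hfix, hkill, -, -⟩ := Asch.exists_proj hM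
  have hp : ∀ l l', l ≠ l' → p l *ᵥ v l' = 0 := fun l l' h => hkill l l' h _ (hvD l')
  have hpp : ∀ l, p l *ᵥ v l = v l := fun l => hfix l _ (hvD l)
  have hcomb : ∀ (s r : F) (l : Fin t), p l *ᵥ (s • e + r • w) =
      s • (p l *ᵥ v 0) + s • (p l *ᵥ v i₁) + (r • (p l *ᵥ v i₂) + r • (p l *ᵥ v i₃)) := fun s r l => by
    simp only [he, hw, Matrix.mulVec_add, Matrix.mulVec_smul, smul_add]
  have hs : ∀ (s r : F) (l : Fin t), s • e + r • w ∈ D l → s = 0 ∧ r = 0 := by
    intro s r l hl
    have hz : ∀ m, m ≠ l → p m *ᵥ (s • e + r • w) = 0 := fun m hm => hkill m l hm _ hl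
    have c0 : l ≠ 0 → s = 0 := fun h => by
      have h1 := hz 0 (Ne.symm h)
      rw [hcomb, hpp, hp _ _ h01, hp _ _ h02, hp _ _ h03] at h1
      simpa [hv0] using h1
    have c1 : l ≠ i₁ → s = 0 := fun h => by
      have h1 := hz i₁ (Ne.symm h)
      rw [hcomb, hpp, hp _ _ h01.symm, hp _ _ h12, hp _ _ h13] at h1
      simpa [hv0] using h1
    have c2 : l ≠ i₂ → r = 0 := fun h => by
      have h1 := hz i₂ (Ne.symm h)
      rw [hcomb, hpp, hp _ _ h02.symm, hp _ _ h12.symm, hp _ _ h23] at h1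
      simpa [hv0] using h1
    have c3 : l ≠ i₃ → r = 0 := fun h => by
      have h1 := hz i₃ (Ne.symm h)
      rw [hcomb, hpp, hp _ _ h03.symm, hp _ _ h13.symm, hp _ _ h23.symm] at h1
      simpa [hv0] using h1
    constructor
    · by_cases h : l = 0
      · exact c1 (h ▸ h01)
      · exact c0 h
    · by_cases h : l = i₂
      · exact c3 (h ▸ h23)
      · exact c2 h
  have hli : ∀ s r : F, s • e + r • w = 0 → s = 0 ∧ r = 0 := fun s r h => hs s r 0 (h ▸ zero_mem _)
  have hT := AschOrthTwo.tri_of_card hQ h7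
  obtain ⟨g, hg, hgx⟩ := AschOrthTwo.exists_siegel hQ hT hQe hew
  have hgx' : ∀ x, (g : Mn) *ᵥ x = x + B e x • w - B w x • e := fun x => by
    rw [hgx, hQw, zero_mul, zero_smul, sub_zero]
  obtain ⟨σ, hσ⟩ := hle hg
  have hNspan : ∀ x, (g : Mn) *ᵥ x - x = (-(B w x)) • e + B e x • w := fun x => by
    rw [hgx', neg_smul]; abel
  have hσid : ∀ l, σ l = l := by
    intro l
    by_contra hne
    let L : D l →ₗ[F] F × F := LinearMap.prod
      ((QuadraticMap.polarBilin Q e).comp (D l).subtype) ((QuadraticMap.polarBilin Q w).comp (D l).subtype)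
    have hL : Function.Injective L := by
      refine (injective_iff_map_eq_zero L).2 fun x hx => Subtype.ext ?_
      have h1 : B e (x : ι → F) = 0 := congrArg Prod.fst hx
      have h3 : B w (x : ι → F) = 0 := congrArg Prod.snd hx
      have h4 : (x : ι → F) ∈ D (σ l) := by
        rw [← hσ l]
        exact ⟨x, x.2, by rw [Matrix.toLin'_apply, hgx', h1, h3, zero_smul, zero_smul, add_zero, sub_zero]⟩
      exact Submodule.disjoint_def.1 (hM.indep.pairwiseDisjoint (Ne.symm hne)) _ x.2 h4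
    have hsurj : Function.Surjective L :=
      (LinearMap.injective_iff_surjective_of_finrank_eq_finrank (by
        rw [hM.finrank_eq, Module.finrank_prod, Module.finrank_self])).1 hL
    obtain ⟨x, hx⟩ := hsurj (1, -1)
    have h1 : B e (x : ι → F) = 1 := congrArg Prod.fst hx
    have h3 : B w (x : ι → F) = -1 := congrArg Prod.snd hx
    have h4 : (g : Mn) *ᵥ (x : ι → F) ∈ D (σ l) := hσ l ▸ ⟨x, x.2, Matrix.toLin'_apply _ _⟩
    have h5 : (g : Mn) *ᵥ (x : ι → F) - x = e + w := by
      rw [hNspan, h1, h3, neg_neg, one_smul, one_smul]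
    obtain ⟨m, hm1, hm2⟩ : ∃ m : Fin t, m ≠ l ∧ m ≠ σ l ∧ p m *ᵥ (e + w) ≠ 0 := by
      have key : ∀ m : Fin t, m = 0 ∨ m = i₁ ∨ m = i₂ ∨ m = i₃ → p m *ᵥ (e + w) ≠ 0 := by
        intro m hm
        rw [show e + w = (1 : F) • e + (1 : F) • w by rw [one_smul, one_smul], hcomb, one_smul, one_smul, one_smul,
          one_smul]
        rcases hm with rfl | rfl | rfl | rfl
        · rw [hpp, hp _ _ h01, hp _ _ h02, hp _ _ h03]; simpa using hv0 0
        · rw [hpp, hp _ _ h01.symm, hp _ _ h12, hp _ _ h13]; simpa using hv0 i₁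
        · rw [hpp, hp _ _ h02.symm, hp _ _ h12.symm, hp _ _ h23]; simpa using hv0 i₂
        · rw [hpp, hp _ _ h03.symm, hp _ _ h13.symm, hp _ _ h23.symm]; simpa using hv0 i₃
      obtain ⟨m, hm, hml⟩ : ∃ m ∈ ({0, i₁, i₂, i₃} : Finset (Fin t)), m ∉ ({l, σ l} : Finset (Fin t)) :=
        Finset.not_subset.1 fun hsub => by
          have h6 := Finset.card_le_card hsub
          rw [Finset.card_insert_of_notMem (by simp [h01, h02, h03]), Finset.card_insert_of_notMem (by simp [h12, h13]),
            Finset.card_insert_of_notMem (by simp [h23]), Finset.card_singleton] at h6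
          have := Finset.card_le_two (a := l) (b := σ l)
          omega
      simp only [Finset.mem_insert, Finset.mem_singleton, not_or] at hm hml
      exact ⟨m, hml.1, hml.2, key m hm⟩
    apply hm2.2
    rw [← h5, Matrix.mulVec_sub, hkill m (σ l) hm2.1 _ h4, hkill m l hm1 _ x.2, sub_zero]
  have hzero : ∀ l, ∀ x ∈ D l, B e x = 0 := by
    intro l x hx
    have h4 : (g : Mn) *ᵥ x ∈ D l := by
      have h5 : (g : Mn) *ᵥ x ∈ D (σ l) := hσ l ▸ ⟨x, hx, Matrix.toLin'_apply _ _⟩
      rwa [hσid] at h5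
    have h6 := (D l).sub_mem h4 hx
    rw [hNspan] at h6
    exact (hs _ _ l h6).2
  apply one_ne_zero (α := F)
  refine (hli 1 0 ?_).1
  rw [one_smul, zero_smul, add_zero]
  refine hQ.1 e fun y => ?_
  have hy : y ∈ (⨆ l, D l) := hM.iSup_eq_top ▸ trivial
  exact (iSup_le (fun l x hx => LinearMap.mem_ker.2 (hzero l x hx)) :
    (⨆ l, D l) ≤ LinearMap.ker (QuadraticMap.polarBilin Q e)) hy

/-- `Ω` preserves no tensor product with factors of degree at least two and three. -/
theorem not_omega_le_tensor {a b : ℕ} (ha : 2 ≤ a) (hb : 3 ≤ b) (e : ι ≃ Fin a × Fin b) (P : GL ι F) :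
    ¬ Geo.omegaGL ⇑Q ≤ tensorProductSubgroup a b e P := by
  classical
  intro hle
  let a₀ : Fin a := ⟨0, by omega⟩
  let a₁ : Fin a := ⟨1, by omega⟩
  let b₀ : Fin b := ⟨0, by omega⟩
  let E : Matrix (Fin a × Fin b) (Fin a × Fin b) F := Matrix.single a₀ a₀ (1 : F) ⊗ₖ (1 : Matrix (Fin b) (Fin b) F)
  let W : Submodule F (ι → F) := LinearMap.range (Matrix.toLin' (Asch.co e P E))
  have hEd : E = Matrix.diagonal fun x => if x.1 = a₀ then 1 else 0 := by
    ext ⟨p, s⟩ ⟨p', s'⟩
    by_cases h : s = s' <;> by_cases hp : p = p' <;> by_cases hp0 : p = a₀ <;>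
      simp_all [E, Matrix.single_apply, eq_comm]
  have hE : ∀ z : Fin a × Fin b → F, E *ᵥ z = fun x => if x.1 = a₀ then z x else 0 := fun z => by
    funext x
    rw [hEd, Matrix.mulVec_diagonal]
    split <;> simp
  have hW0 : W ≠ ⊥ := fun h => by
    have h1 : Matrix.toLin' (Asch.co e P E) (cvec e P (Pi.single (a₀, b₀) 1)) ∈ W := LinearMap.mem_range_self _ _
    rw [h, Submodule.mem_bot, Matrix.toLin'_apply, co_cvec, hE] at h1
    have := congrFun (cvec_injective e P (h1.trans (map_zero _).symm)) (a₀, b₀)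
    simp at this
  have hWt : W ≠ ⊤ := fun h => by
    obtain ⟨x, hx⟩ : cvec e P (Pi.single (a₁, b₀) 1) ∈ W := h ▸ trivial
    obtain ⟨z, rfl⟩ := cvec_surjective e P x
    rw [Matrix.toLin'_apply, co_cvec, hE] at hx
    have := congrFun (cvec_injective e P hx) (a₁, b₀)
    simp [a₀, a₁, Fin.ext_iff] at this
  refine AschOrthTwo.not_omega_le_subspace hQ h7 hW0 hWt (omega_le_of_roots hQ h7 fun u w _ g hg hgx => ?_)
  obtain ⟨_, ⟨k, ⟨A, C, hk⟩, rfl⟩, hgk⟩ := hle hg
  have hgco : (g : Mn) = Asch.co e P ((A : Matrix (Fin a) (Fin a) F) ⊗ₖ (C : Matrix (Fin b) (Fin b) F)) := by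
    rw [← hgk, ← hk]; rfl
  set Am := (A : Matrix (Fin a) (Fin a) F)
  set Cm := (C : Matrix (Fin b) (Fin b) F)
  have heig : ∀ y : Fin a → F, y ≠ 0 → ∃ s : F, Am *ᵥ y = s • y := by
    intro y hy
    by_contra hno
    push Not at hno
    let T₀ : (Fin b → F) →ₗ[F] (Fin a × Fin b → F) :=
      { toFun := fun z x => y x.1 * z x.2
        map_add' := fun z z' => by funext x; simp [mul_add]
        map_smul' := fun s z => by funext x; simp only [Pi.smul_apply, RingHom.id_apply, smul_eq_mul]; ring }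
    let T : (Fin b → F) →ₗ[F] (ι → F) := (cvec e P).comp T₀
    let L : (Fin b → F) →ₗ[F] F × F := LinearMap.prod
      ((QuadraticMap.polarBilin Q u).comp T) ((QuadraticMap.polarBilin Q w).comp T)
    have hL : Function.Injective L := by
      refine (injective_iff_map_eq_zero L).2 fun z hz => ?_
      have h1 : B u (T z) = 0 := congrArg Prod.fst hz
      have h2 : B w (T z) = 0 := congrArg Prod.snd hz
      have h3 : cvec e P ((Am ⊗ₖ Cm) *ᵥ fun x => y x.1 * z x.2) = cvec e P fun x => y x.1 * z x.2 := by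
        rw [← co_cvec, ← hgco]
        exact (hgx (T z)).trans (by rw [h1, h2]; simp only [zero_smul, add_zero, sub_zero]; rfl)
      have h4 : ∀ p s, (Am *ᵥ y) p * (Cm *ᵥ z) s = y p * z s := fun p s => by
        have := congrFun (cvec_injective e P h3) (p, s)
        simp only [Matrix.mulVec, dotProduct, Matrix.kroneckerMap_apply, Fintype.sum_prod_type] at this
        rw [← this]
        simp only [Matrix.mulVec, dotProduct, Finset.sum_mul, Finset.mul_sum]
        rw [Finset.sum_comm]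
        exact Finset.sum_congr rfl fun i _ => Finset.sum_congr rfl fun j _ => by ring
      by_contra hz0
      obtain ⟨s, hs⟩ := Function.ne_iff.1 hz0
      simp only [Pi.zero_apply] at hs
      by_cases hc : (Cm *ᵥ z) s = 0
      · obtain ⟨p, hp⟩ := Function.ne_iff.1 hy
        have := h4 p s
        rw [hc, mul_zero] at this
        exact hp ((mul_eq_zero.1 this.symm).resolve_right hs)
      · exact hno (((Cm *ᵥ z) s)⁻¹ * z s) (funext fun p => by
          rw [Pi.smul_apply, smul_eq_mul, mul_comm _ (z s), mul_assoc, mul_comm ((Cm *ᵥ z) s)⁻¹, ← mul_assoc,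
            mul_comm (z s), ← h4, mul_assoc, mul_inv_cancel₀ hc, mul_one])
    have h1 := LinearMap.finrank_le_finrank_of_injective hL
    rw [Module.finrank_fin_fun, Module.finrank_prod, Module.finrank_self] at h1
    omega
  obtain ⟨c, hc⟩ := Asch.scalar_of_eigen' heig
  refine (MaxTv.mem_subspaceStabilizer_iff W g).2 ?_
  rintro _ ⟨x, rfl⟩
  refine ⟨(g : Mn) *ᵥ x, ?_⟩
  rw [Matrix.toLin'_apply, Matrix.toLin'_apply, Matrix.mulVec_mulVec, Matrix.mulVec_mulVec]
  congr 1
  rw [hgco, ← Asch.co_mul, ← Asch.co_mul]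
  congr 1
  simp only [E, ← Matrix.mul_kronecker_mul, hc, Matrix.mul_one, Matrix.one_mul, Matrix.smul_mul, Matrix.mul_smul]

end Cfsg.Agent.Classical.AschEven
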