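import Cfsg.Agent.Lib.Classical.MaxDecomp
import Cfsg.Agent.Lib.Classical.MaxHermitian
import Cfsg.Prelude.Def_GeometricClasses

/-!
Rational structures on `F ^ ι` over a subfield, and maps of the shape `x ↦ x + N x`.
-/

set_option autoImplicit false
set_option linter.unusedSectionVars false

namespace Cfsg.Agent.Classical.MaxTv

open Matrix Module

variable {F : Type*} [Field F] {ι : Type} [Fintype ι] [DecidableEq ι]

local notation "V" => (ι → F)
local notation "Mn" => Matrix ι ι F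

/-- `M` contains the map `x ↦ x + N x`. -/
def InN (M : Subgroup (GL ι F)) (N : V → V) : Prop :=
  ∃ T ∈ M, ∀ x, (T : Mn) *ᵥ x = x + N x

variable {M : Subgroup (GL ι F)}

theorem InN.congr {N N' : V → V} (h : InN M N) (e : ∀ x, N x = N' x) : InN M N' :=
  h.imp fun T hT => ⟨hT.1, fun x => by rw [hT.2, e]⟩

theorem InN.add {N₁ N₂ : V → V} (h₁ : InN M N₁) (h₂ : InN M N₂) (h : ∀ x, N₁ (x + N₂ x) = N₁ x) :
    InN M fun x => N₁ x + N₂ x := by
  obtain ⟨T, hT, hTx⟩ := h₁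
  obtain ⟨S, hS, hSx⟩ := h₂
  refine ⟨T * S, mul_mem hT hS, fun x => ?_⟩
  rw [Units.val_mul, ← Matrix.mulVec_mulVec, hSx, hTx, h]
  abel

theorem InN.neg {N : V → V} (h : InN M N) (hN : ∀ x, N (x - N x) = N x) : InN M fun x => -N x := by
  obtain ⟨T, hT, hTx⟩ := h
  refine ⟨T⁻¹, inv_mem hT, fun x => ?_⟩
  have h1 := hTx (x - N x)
  rw [hN, sub_add_cancel] at h1
  rw [← sub_eq_add_neg]
  conv_lhs => rw [← h1]
  exact inv_mulVec_cancel T _

theorem InN.sub {N₁ N₂ : V → V} (h₁ : InN M N₁) (h₂ : InN M N₂) (hN : ∀ x, N₂ (x - N₂ x) = N₂ x)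
    (h : ∀ x, N₁ (x - N₂ x) = N₁ x) : InN M fun x => N₁ x - N₂ x :=
  ((h₁.add (h₂.neg hN) fun x => by rw [← sub_eq_add_neg]; exact h x)).congr fun x => (sub_eq_add_neg _ _).symm

/-- A matrix over a subfield with a non-zero kernel vector upstairs has one downstairs. -/
theorem exists_rational_ker {κ : Type} [Fintype κ] [DecidableEq κ] {F₀ : Subfield F} (A : Matrix κ ι F₀)
    {x : ι → F} (hx : x ≠ 0) (h : A.map F₀.subtype *ᵥ x = 0) : ∃ y : ι → F₀, y ≠ 0 ∧ A *ᵥ y = 0 := by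
  by_contra hc
  push Not at hc
  have hinj : LinearMap.ker (Matrix.mulVecLin A) = ⊥ := (Submodule.eq_bot_iff _).2 fun y hy => by
    by_contra hy0
    exact hc y hy0 (LinearMap.mem_ker.1 hy)
  obtain ⟨L, hL⟩ := (Matrix.mulVecLin A).exists_leftInverse_of_injective hinj
  have h1 : LinearMap.toMatrix' L * A = 1 := by
    refine Matrix.ext_iff_mulVec.2 fun y => ?_
    rw [← Matrix.mulVec_mulVec, Matrix.one_mulVec, LinearMap.toMatrix'_mulVec]
    exact LinearMap.congr_fun hL y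
  have h2 : (LinearMap.toMatrix' L).map F₀.subtype * A.map F₀.subtype = 1 := by
    rw [← Matrix.map_mul, h1, Matrix.map_one _ (map_zero _) (map_one _)]
  exact hx (by rw [← Matrix.one_mulVec x, ← h2, ← Matrix.mulVec_mulVec, h, Matrix.mulVec_zero])

/-- `v` has coordinates in `F₀` with respect to the columns of `P`. -/
def Rat (F₀ : Subfield F) (P : GL ι F) (v : ι → F) : Prop :=
  ∀ i, (((P⁻¹ : GL ι F) : Mn) *ᵥ v) i ∈ F₀

variable {F₀ : Subfield F} {P : GL ι F}

theorem Rat.zero : Rat F₀ P (0 : ι → F) := fun i => by simp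

theorem Rat.add {u v : V} (hu : Rat F₀ P u) (hv : Rat F₀ P v) : Rat F₀ P (u + v) := fun i => by
  rw [Matrix.mulVec_add]; exact add_mem (hu i) (hv i)

theorem Rat.sub {u v : V} (hu : Rat F₀ P u) (hv : Rat F₀ P v) : Rat F₀ P (u - v) := fun i => by
  rw [Matrix.mulVec_sub]; exact sub_mem (hu i) (hv i)

theorem Rat.smul {v : V} {c : F} (hc : c ∈ F₀) (hv : Rat F₀ P v) : Rat F₀ P (c • v) := fun i => by
  rw [Matrix.mulVec_smul]; exact mul_mem hc (hv i)

theorem Rat.sum {κ : Type*} (s : Finset κ) {v : κ → V} (h : ∀ i ∈ s, Rat F₀ P (v i)) :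
    Rat F₀ P (∑ i ∈ s, v i) :=
  Finset.sum_induction v (Rat F₀ P) (fun _ _ => Rat.add) Rat.zero h

theorem rat_of_coe (y : ι → F₀) : Rat F₀ P ((P : Mn) *ᵥ fun i => (y i : F)) := fun i => by
  rw [inv_mulVec_cancel]; exact (y i).2

theorem Rat.exists_coe {v : V} (hv : Rat F₀ P v) : ∃ y : ι → F₀, (P : Mn) *ᵥ (fun i => (y i : F)) = v :=
  ⟨fun i => ⟨_, hv i⟩, mulVec_inv_cancel P v⟩

theorem rat_single (i : ι) : Rat F₀ P ((P : Mn) *ᵥ Pi.single i 1) := fun j => by
  rw [inv_mulVec_cancel]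
  by_cases h : j = i
  · subst h; simp
  · simp [h]

theorem eq_sum_rat (P : GL ι F) (v : V) :
    v = ∑ i, (((P⁻¹ : GL ι F) : Mn) *ᵥ v) i • ((P : Mn) *ᵥ Pi.single i 1) := by
  conv_lhs => rw [← mulVec_inv_cancel P v]
  simp only [← Matrix.mulVec_smul, ← Matrix.mulVec_sum]
  congr 1
  funext j
  simp [Finset.sum_apply, Pi.single_apply]

/-- `h` maps rational vectors to rational vectors. -/
def RatMap (F₀ : Subfield F) (P : GL ι F) (h : GL ι F) : Prop :=
  ∀ x, Rat F₀ P x → Rat F₀ P ((h : Mn) *ᵥ x)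

/-- `v` lies on a rational line. -/
def RatLine (F₀ : Subfield F) (P : GL ι F) (v : ι → F) : Prop :=
  ∃ c : F, ∃ r, Rat F₀ P r ∧ v = c • r

/-- The matrix over `F₀` of a map of rational structures. -/
theorem exists_subfield_matrix {h : GL ι F} (a : F) (hh : ∀ x, Rat F₀ P x → Rat F₀ P (a • ((h : Mn) *ᵥ x))) :
    ∃ A : Matrix ι ι F₀,
      A.map F₀.subtype = a • (((P⁻¹ : GL ι F) : Mn) * (h : Mn) * (P : Mn)) := by
  refine ⟨fun i j => ⟨a * (((P⁻¹ : GL ι F) : Mn) * (h : Mn) * (P : Mn)) i j, ?_⟩, rfl⟩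
  have := hh _ (rat_single (F₀ := F₀) (P := P) j) i
  rw [Matrix.mulVec_smul, Matrix.mulVec_mulVec, Matrix.mulVec_mulVec, Matrix.mulVec_single_one] at this
  rw [Pi.smul_apply, Matrix.col_apply, smul_eq_mul] at this
  exact this

theorem mem_subfieldSubgroup_of {h : GL ι F} {a : F} (ha : a ≠ 0)
    (hh : ∀ x, Rat F₀ P x → Rat F₀ P (a • ((h : Mn) *ᵥ x))) : h ∈ Geo.subfieldSubgroup F₀ P := by
  obtain ⟨A, hA⟩ := exists_subfield_matrix a hh
  set C : GL ι F := P⁻¹ * h * P with hC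
  have hAC : A.map F₀.subtype = a • (C : Mn) := hA
  have hdet : IsUnit A.det := by
    refine isUnit_iff_ne_zero.2 fun h0 => ?_
    have h1 := congrArg F₀.subtype h0
    rw [RingHom.map_det, map_zero] at h1
    have h2 : (a • (C : Mn)).det = 0 := hAC ▸ h1
    rw [Matrix.det_smul, mul_eq_zero] at h2
    exact h2.elim (pow_ne_zero _ ha) ((Matrix.isUnit_iff_isUnit_det _).1 C.isUnit).ne_zero
  let u : GL ι F₀ := (((Matrix.isUnit_iff_isUnit_det A).2 hdet)).unit
  let s : GL ι F := Units.map (Matrix.scalar ι : F →+* Matrix ι ι F).toMonoidHom (Units.mk0 a⁻¹ (inv_ne_zero ha))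
  refine ⟨C, ?_, ?_⟩
  · rw [show C = Matrix.GeneralLinearGroup.map (F₀.subtype : F₀ →+* F) u * s from Units.ext ?_]
    · exact mul_mem (Subgroup.mem_sup_left ⟨u, rfl⟩) (Subgroup.mem_sup_right ⟨_, rfl⟩)
    · show (C : Mn) = A.map F₀.subtype * Matrix.scalar ι a⁻¹
      rw [hAC, Matrix.scalar_apply, ← Matrix.smul_one_eq_diagonal, Matrix.mul_smul, Matrix.mul_one, smul_smul,
        inv_mul_cancel₀ ha, one_smul]
  · show P * C * P⁻¹ = h
    rw [hC]; group

theorem exists_of_mem_subfieldSubgroup {h : GL ι F} (hh : h ∈ Geo.subfieldSubgroup F₀ P) :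
    ∃ a : F, a ≠ 0 ∧ ∀ x, Rat F₀ P x → Rat F₀ P (a • ((h : Mn) *ᵥ x)) := by
  obtain ⟨C, hC, rfl⟩ := hh
  obtain ⟨_, ⟨u, rfl⟩, s, hs, rfl⟩ := Subgroup.mem_sup_of_normal_right.1 hC
  obtain ⟨c, hc⟩ := (Geo.mem_scalars_iff s).1 hs
  refine ⟨(c : F)⁻¹, inv_ne_zero c.ne_zero, fun x hx => ?_⟩
  obtain ⟨y, rfl⟩ := hx.exists_coe
  have h1 : ((MulAut.conj P).toMonoidHom (Matrix.GeneralLinearGroup.map (F₀.subtype : F₀ →+* F) u * s) : GL ι F) =
      P * (Matrix.GeneralLinearGroup.map (F₀.subtype : F₀ →+* F) u * s) * P⁻¹ := rfl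
  rw [h1, Units.val_mul, Units.val_mul, Units.val_mul, ← Matrix.mulVec_mulVec, inv_mulVec_cancel,
    ← Matrix.mulVec_mulVec, ← Matrix.mulVec_mulVec, hc, Matrix.smul_mulVec, Matrix.one_mulVec,
    Matrix.mulVec_smul, Matrix.mulVec_smul, smul_smul, inv_mul_cancel₀ c.ne_zero, one_smul]
  have := rat_of_coe (P := P) ((u : Matrix ι ι F₀) *ᵥ y)
  rwa [show (fun i => ((((u : Matrix ι ι F₀) *ᵥ y) i : F₀) : F)) =
    ((Matrix.GeneralLinearGroup.map (F₀.subtype : F₀ →+* F) u : GL ι F) : Mn) *ᵥ fun i => (y i : F) from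
      funext fun i => RingHom.map_mulVec F₀.subtype _ y i] at this

theorem RatMap.inv [Finite F] {h : GL ι F} (hh : RatMap F₀ P h) : RatMap F₀ P h⁻¹ := by
  have hpow : ∀ k : ℕ, RatMap F₀ P (h ^ k) := fun k => by
    induction k with
    | zero => intro x hx; rwa [pow_zero, Units.val_one, Matrix.one_mulVec]
    | succ k ih => intro x hx; rw [pow_succ, Units.val_mul, ← Matrix.mulVec_mulVec]; exact ih _ (hh x hx)
  have h1 : h⁻¹ = h ^ (orderOf h - 1) := by
    refine inv_eq_of_mul_eq_one_right ?_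
    rw [← pow_succ', Nat.sub_add_cancel (orderOf_pos h), pow_orderOf_eq_one]
  rw [h1]; exact hpow _

/-- If all rational vectors go to rational lines, one scalar serves for all. -/
theorem exists_scalar_of_lines [Nonempty ι] {g : GL ι F}
    (hg : ∀ x, Rat F₀ P x → RatLine F₀ P ((g : Mn) *ᵥ x)) :
    ∃ a : F, a ≠ 0 ∧ ∀ x, Rat F₀ P x → Rat F₀ P (a • ((g : Mn) *ᵥ x)) := by
  classical
  choose c s hs hgs using fun i : ι => hg _ (rat_single (F₀ := F₀) (P := P) i)
  have hcol : ∀ i, (g : Mn) *ᵥ ((P : Mn) *ᵥ Pi.single i 1) ≠ 0 := fun i h0 => by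
    have := gl_mulVec_injective P (gl_mulVec_injective g
      (show (g : Mn) *ᵥ ((P : Mn) *ᵥ Pi.single i 1) = (g : Mn) *ᵥ ((P : Mn) *ᵥ 0) by
        rw [h0, Matrix.mulVec_zero, Matrix.mulVec_zero]))
    exact one_ne_zero (Pi.single_eq_zero_iff.1 this)
  have hc : ∀ i, c i ≠ 0 := fun i e => hcol i (by rw [hgs i, e, zero_smul])
  choose σ hσ using fun i => (hs i).exists_coe
  -- the matrix with columns `σ i` is invertible over `F₀`
  have hind : LinearIndependent F s := by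
    refine Fintype.linearIndependent_iff.2 fun d hd i => ?_
    have hz : (g : Mn) *ᵥ ((P : Mn) *ᵥ fun j => d j / c j) = (g : Mn) *ᵥ ((P : Mn) *ᵥ 0) := by
      conv_lhs => rw [show (fun j => d j / c j) = ∑ j, (d j / c j) • (Pi.single j 1 : V) by
        funext k; simp [Finset.sum_apply, Pi.single_apply]]
      simp only [Matrix.mulVec_sum, Matrix.mulVec_smul, Matrix.mulVec_zero, hgs, smul_smul]
      rw [← hd]
      exact Finset.sum_congr rfl fun j _ => by rw [div_mul_cancel₀ _ (hc j)]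
    have := congrFun (gl_mulVec_injective P (gl_mulVec_injective g hz)) i
    exact (div_eq_zero_iff.1 this).resolve_right (hc i)
  have hcoef : ∀ r, Rat F₀ P r → ∃ d : ι → F, (∀ i, d i ∈ F₀) ∧ r = ∑ i, d i • s i := fun r hr => by
    have hinj : Function.Injective (fun d : ι → F₀ => ∑ i, d i • σ i) := fun d d' e => by
      funext i
      have e' : ∑ i, (d i : F) • s i = ∑ i, (d' i : F) • s i := by
        have := congrArg (fun z : ι → F₀ => (P : Mn) *ᵥ fun j => (z j : F)) e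
        simp only [← hσ, ← Matrix.mulVec_smul, ← Matrix.mulVec_sum]
        convert this using 2 <;> · funext j; simp [Finset.sum_apply]
      exact Subtype.ext (Fintype.linearIndependent_iffₛ.1 hind _ _ e' i)
    let L : (ι → F₀) →ₗ[F₀] (ι → F₀) := Fintype.linearCombination F₀ σ
    have hL : Function.Injective L := fun a b e => hinj (by simpa [L, Fintype.linearCombination_apply] using e)
    obtain ⟨y, rfl⟩ := hr.exists_coe
    obtain ⟨d, hd⟩ := (LinearMap.injective_iff_surjective.1 hL) y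
    refine ⟨fun i => d i, fun i => (d i).2, ?_⟩
    simp only [← hσ, ← Matrix.mulVec_smul, ← Matrix.mulVec_sum, ← hd]
    congr 1
    funext j
    simp [L, Fintype.linearCombination_apply, Finset.sum_apply]
  obtain ⟨i₀⟩ := ‹Nonempty ι›
  refine ⟨(c i₀)⁻¹, inv_ne_zero (hc i₀), ?_⟩
  have hbasis : ∀ i, Rat F₀ P ((c i₀)⁻¹ • ((g : Mn) *ᵥ ((P : Mn) *ᵥ Pi.single i 1))) := fun i => by
    rw [hgs i, smul_smul]
    refine Rat.smul ?_ (hs i)
    rcases eq_or_ne i i₀ with rfl | hi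
    · rw [inv_mul_cancel₀ (hc _)]; exact one_mem _
    obtain ⟨b, r, hr, hgr⟩ := hg _ ((rat_single (F₀ := F₀) (P := P) i₀).add (rat_single i))
    rw [Matrix.mulVec_add, hgs, hgs] at hgr
    obtain ⟨d, hd, rfl⟩ := hcoef r hr
    have h2 : ∀ j, (if j = i₀ then c i₀ else if j = i then c i else 0) = b * d j := by
      refine Fintype.linearIndependent_iffₛ.1 hind _ _ ?_
      rw [Finset.smul_sum] at hgr
      simp only [smul_smul] at hgr
      rw [← hgr, Finset.sum_eq_add_of_mem i₀ i (Finset.mem_univ _) (Finset.mem_univ _) (Ne.symm hi)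
        (fun j _ hj => by rw [if_neg hj.1, if_neg hj.2, zero_smul])]
      simp [hi]
    have e1 := h2 i₀
    have e2 := h2 i
    rw [if_pos rfl] at e1
    rw [if_neg hi, if_pos rfl] at e2
    have hb : b ≠ 0 := fun e => hc i₀ (by rw [e1, e, zero_mul])
    rw [e1, e2, mul_inv, mul_mul_mul_comm, inv_mul_cancel₀ hb, one_mul]
    exact mul_mem (inv_mem (hd i₀)) (hd i)
  intro x hx
  rw [eq_sum_rat P x, Matrix.mulVec_sum, Finset.smul_sum]
  refine Rat.sum _ fun i _ => ?_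
  rw [Matrix.mulVec_smul, smul_comm]
  exact (hbasis i).smul (hx i)

end Cfsg.Agent.Classical.MaxTv
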