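import Cfsg.Agent.Lib.Classical.OrthSign

/-!
Field automorphisms of an even-dimensional `PΩ(Q)` with rational coefficients: descent of cocycles,
conjugacy in the coset of the inner-diagonal group, the centraliser.
-/

set_option autoImplicit false
set_option linter.unusedSectionVars false
set_option quotPrecheck false

namespace Cfsg.Agent.Classical.OrthAut

open Matrix Module Cfsg.Agent.Classical.Descent

section Forms

variable {F₀ F : Type*} [Field F₀] [Field F] {ι : Type} [Fintype ι] [DecidableEq ι] (j : F₀ →+* F)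

theorem exists_rat_form {Q' : QuadraticForm F (ι → F)} (hmem : ∀ u : ι → F₀, Q' (j ∘ u) ∈ j.range)
    (hnd : (QuadraticMap.polarBilin Q').Nondegenerate) :
    ∃ P : QuadraticForm F₀ (ι → F₀), (∀ u, Q' (j ∘ u) = j (P u)) ∧
      (QuadraticMap.polarBilin P).Nondegenerate := by
  choose φ hφ using hmem
  have hsum : ∀ u v : ι → F₀, (j ∘ (u + v) : ι → F) = j ∘ u + j ∘ v := fun u v => funext fun l => by simp
  have hsmul : ∀ (a : F₀) (u : ι → F₀), (j ∘ (a • u) : ι → F) = j a • (j ∘ u) := fun a u =>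
    funext fun l => by simp
  have hpol : ∀ u v, j (QuadraticMap.polar φ u v) = QuadraticMap.polar ⇑Q' (j ∘ u) (j ∘ v) := fun u v => by
    simp only [QuadraticMap.polar, map_sub, ← hsum, hφ]
  let P : QuadraticForm F₀ (ι → F₀) := QuadraticMap.ofPolar φ
    (fun a u => j.injective (by
      rw [smul_eq_mul, map_mul, map_mul, hφ, hφ, hsmul, QuadraticMap.map_smul, smul_eq_mul]))
    (fun u u' v => j.injective (by
      rw [map_add, hpol, hpol, hpol, hsum, QuadraticMap.polar_add_left]))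
    (fun a u v => j.injective (by
      rw [smul_eq_mul, map_mul, hpol, hpol, hsmul, QuadraticMap.polar_smul_left, smul_eq_mul]))
  refine ⟨P, fun u => (hφ u).symm, nondegenerate_of_separatingLeft _ fun u hu => ?_⟩
  have h0 : ∀ i, QuadraticMap.polar ⇑Q' (j ∘ u) (Pi.single i 1) = 0 := fun i => by
    rw [single_rat j, ← hpol]
    have := hu (Pi.single i 1)
    rw [QuadraticMap.polarBilin_apply_apply] at this
    rw [show QuadraticMap.polar φ u (Pi.single i 1) = 0 from this, map_zero]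
  have hz : QuadraticMap.polarBilin Q' (j ∘ u) = 0 := (Pi.basisFun F ι).ext fun i => by
    rw [Pi.basisFun_apply, QuadraticMap.polarBilin_apply_apply, LinearMap.zero_apply]; exact h0 i
  have hu0 : (j ∘ u : ι → F) = 0 := hnd.1 _ fun z => by rw [hz, LinearMap.zero_apply]
  funext l
  exact j.injective (by rw [show j (u l) = (0 : F) from congrFun hu0 l, Pi.zero_apply, map_zero])

/-- A totally singular half of the rational form gives one of the ambient form. -/
theorem half_of_rat {Q : QuadraticForm F (ι → F)} {P' : QuadraticForm F₀ (ι → F₀)} {y : GL ι F} {ε : F}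
    (hP' : ∀ u : ι → F₀, Q ((y : Matrix ι ι F) *ᵥ (j ∘ u)) = ε * j (P' u))
    {U : Submodule F₀ (ι → F₀)} (hU : Half P' U) : ∃ W, Half Q W := by
  set k := finrank F₀ U with hk
  let b := Module.finBasis F₀ U
  let L₀ : (Fin k → F₀) →ₗ[F₀] (ι → F₀) := U.subtype ∘ₗ b.equivFun.symm.toLinearMap
  have hL₀ : Function.Injective L₀ := Subtype.val_injective.comp b.equivFun.symm.injective
  obtain ⟨R, hR⟩ := L₀.exists_leftInverse_of_injective (LinearMap.ker_eq_bot.2 hL₀)
  set A : Matrix ι (Fin k) F₀ := LinearMap.toMatrix' L₀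
  set C : Matrix (Fin k) ι F₀ := LinearMap.toMatrix' R
  have hCA : C * A = 1 := by
    rw [← LinearMap.toMatrix'_comp, hR, LinearMap.toMatrix'_id]
  let L : (Fin k → F) →ₗ[F] (ι → F) := Matrix.mulVecLin ((y : Matrix ι ι F) * A.map j)
  have hL : Function.Injective L := fun x x' h => by
    have h1 := congrArg (((C.map j) * ((y⁻¹ : GL ι F) : Matrix ι ι F)) *ᵥ ·) h
    simp only [L, Matrix.mulVecLin_apply, Matrix.mulVec_mulVec] at h1
    rwa [Matrix.mul_assoc, ← Matrix.mul_assoc ((y⁻¹ : GL ι F) : Matrix ι ι F), Units.inv_mul, Matrix.one_mul,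
      ← Matrix.map_mul, hCA, Matrix.map_one _ j.map_zero j.map_one, Matrix.one_mulVec, Matrix.one_mulVec] at h1
  refine ⟨LinearMap.range L, ?_, by rw [LinearMap.finrank_range_of_inj hL, Module.finrank_fin_fun]; exact hU.2⟩
  have hzero : Q.comp L = 0 := quad_ext_rat j fun u => by
    rw [QuadraticMap.comp_apply, _root_.QuadraticMap.zero_apply, Matrix.mulVecLin_apply, ← Matrix.mulVec_mulVec,
      mulVec_rat', hP']
    rw [show A *ᵥ u = L₀ u from LinearMap.toMatrix'_mulVec _ _, show P' (L₀ u) = 0 from hU.1 _ (b.equivFun.symm u).2,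
      map_zero, mul_zero]
  rintro _ ⟨x, rfl⟩
  exact congrArg (fun q : QuadraticForm F (Fin k → F) => q x) hzero
where
  mulVec_rat' {κ : Type} [Fintype κ] {A : Matrix ι κ F₀} {u : κ → F₀} : A.map j *ᵥ (j ∘ u) = j ∘ (A *ᵥ u) := by
    funext i; simp [Matrix.mulVec, dotProduct, map_sum]

end Forms

variable {F : Type*} [Field F] [Fintype F] {ι : Type} [Fintype ι] [DecidableEq ι]
  {Q : QuadraticForm F (ι → F)} {n : ℕ}

local notation "Mn" => Matrix ι ι F
local notation "PQ" => POmega F ⇑Q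
local notation "GO" => Geo.quadSimilarityGroup (F := F) ⇑Q

/-- `Q` commutes with the field automorphism `σ`. -/
def RatAt (Q : QuadraticForm F (ι → F)) (σ : F ≃+* F) : Prop := ∀ v : ι → F, Q (σ ∘ v) = σ (Q v)

theorem Rat.ratAt (hR : Rat Q) (σ : RingAut F) : RatAt Q σ := hR σ

theorem RatAt.one : RatAt Q (1 : RingAut F) := fun v => rfl

theorem RatAt.mul {σ τ : RingAut F} (h : RatAt Q σ) (h' : RatAt Q τ) : RatAt Q (σ * τ : RingAut F) := fun v => by
  show Q (σ ∘ τ ∘ v) = σ (τ (Q v))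
  rw [h, h']

theorem RatAt.pow {σ : RingAut F} (h : RatAt Q σ) : ∀ k : ℕ, RatAt Q (σ ^ k : RingAut F)
  | 0 => by rw [pow_zero]; exact RatAt.one
  | k + 1 => by rw [pow_succ]; exact (h.pow k).mul h

theorem isPair_fld {σ : F ≃+* F} (h : RatAt Q σ) : IsSemisimilarityPair (⇑Q) (1 : GL ι F) σ :=
  ⟨1, fun v => by rw [Units.val_one, Matrix.one_mulVec, Units.val_one, one_mul]; exact h v⟩

/-- A standard field automorphism. -/
noncomputable def fld {σ : F ≃+* F} (h : RatAt Q σ) : MulAut PQ := poSemi (isPair_fld h)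

theorem fld_congr {σ τ : F ≃+* F} (h : RatAt Q σ) (h' : RatAt Q τ) (e : σ = τ) : fld h = fld h' := by
  subst e; rfl

theorem fld_one : fld (RatAt.one (Q := Q)) = 1 := poSemi_scalar _ (c := 1) (by simp)

theorem fld_mul {σ τ : RingAut F} (h : RatAt Q σ) (h' : RatAt Q τ) : fld h * fld h' = fld (h.mul h') := by
  show poSemi _ * poSemi _ = poSemi _
  rw [poSemi_mul (isPair_fld h) (isPair_fld h')]
  exact poSemi_congr _ _ (by rw [map_one, mul_one]) rfl

theorem fld_induced_iff {σ : F ≃+* F} (h : RatAt Q σ) {β : MulAut PQ} :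
    IsFieldAutPOmegaOf (⇑Q) σ β ↔ β = fld h := by
  rw [fld, ← induced_iff (isPair_fld h)]
  simp only [IsFieldAutPOmegaOf, IsInducedBySemilinearPOmega, inv_one, Units.val_one, Matrix.one_mul,
    Matrix.mul_one]

theorem gmap_mem_GO {σ : F ≃+* F} (hR : RatAt Q σ) {g : GL ι F} (hg : g ∈ GO) : gmap σ g ∈ GO := by
  obtain ⟨c, hc⟩ := hg
  refine ⟨Units.map σ.toMonoidHom c, fun v => ?_⟩
  obtain ⟨w, rfl⟩ : ∃ w : ι → F, σ ∘ w = v := ⟨σ.symm ∘ v, funext fun i => σ.apply_symm_apply _⟩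
  show Q ((g : Mn).map σ *ᵥ (σ ∘ w)) = σ (c : F) * Q (σ ∘ w)
  rw [map_comp_mulVec, hR, hR, ← map_mul]
  exact congrArg σ (hc w)

/-- A field automorphism on similarities. -/
noncomputable def goMap {σ : F ≃+* F} (hR : RatAt Q σ) :
    Geo.quadSimilarityGroup (F := F) ⇑Q →* Geo.quadSimilarityGroup (F := F) ⇑Q :=
  ((gmap σ).comp (Geo.quadSimilarityGroup (F := F) ⇑Q).subtype).codRestrict _ fun g => gmap_mem_GO hR g.2

theorem goMap_coe {σ : F ≃+* F} (hR : RatAt Q σ) (g : GO) : ((goMap hR g : GO) : GL ι F) = gmap σ (g : GL ι F) :=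
  rfl

theorem field_conj_go {σ : RingAut F} (hR : RatAt Q σ) (g : GO) :
    fld hR * goHom Q g = goHom Q (goMap hR g) * fld hR := by
  rw [goHom_apply, goHom_apply]
  show poSemi (isPair_fld hR) * _ = _ * poSemi (isPair_fld hR)
  rw [poSemi_mul (σ := σ) (τ := (1 : RingAut F)) _ (isPair_refl g.2),
    poSemi_mul (σ := (1 : RingAut F)) (τ := σ) (isPair_refl (goMap hR g).2)]
  refine poSemi_congr _ _ ?_ (by rw [mul_one, one_mul])
  rw [one_mul, gmap_one, mul_one]
  rfl

theorem coe_scalar_smul (μ : Fˣ) :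
    ((Matrix.GeneralLinearGroup.scalar ι μ : GL ι F) : Mn) = (μ : F) • 1 := by
  ext a b
  by_cases hab : a = b <;> simp [hab]

theorem goHom_scalar {g : GO} {c : F} (h : ((g : GL ι F) : Mn) = c • 1) : goHom Q g = 1 := poSemi_scalar _ h

namespace EvenSpace

variable (H : EvenSpace Q n)
include H

theorem decomp_go (hR : Rat Q) (β : MulAut PQ) :
    ∃ (g : GO) (σ : RingAut F), β = goHom Q g * fld (hR.ratAt σ) := by
  obtain ⟨g, σ, h, rfl⟩ := H.exists_poSemi β
  have hg : g ∈ GO := by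
    obtain ⟨c, hc⟩ := h
    refine ⟨c, fun v => ?_⟩
    obtain ⟨w, rfl⟩ : ∃ w : ι → F, σ ∘ w = v := ⟨σ.symm ∘ v, funext fun i => σ.apply_symm_apply _⟩
    rw [hR]; exact hc w
  refine ⟨⟨g, hg⟩, σ, ?_⟩
  rw [goHom_apply]
  show _ = poSemi _ * poSemi (isPair_fld (hR.ratAt σ))
  rw [poSemi_mul (σ := (1 : RingAut F)) (τ := σ) (isPair_refl hg)]
  exact poSemi_congr _ _ (by rw [map_one, mul_one]) (one_mul σ).symm

theorem poSemi_inj {g k : GL ι F} {σ τ : RingAut F} (h : IsSemisimilarityPair (⇑Q) g σ)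
    (h' : IsSemisimilarityPair (⇑Q) k τ) (e : (poSemi h : MulAut PQ) = poSemi h') :
    σ = τ ∧ ∃ c : F, (g : Mn) = c • (k : Mn) := by
  obtain ⟨h1, c, hc⟩ := poSemi_eq_one H.nd H.tri H.good (isPair_mul (isPair_inv h') h) (by
    rw [← poSemi_mul (isPair_inv h') h, ← poSemi_inv h', e, inv_mul_cancel])
  refine ⟨(inv_mul_eq_one.1 (h1 : τ⁻¹ * σ = 1)).symm, τ c, ?_⟩
  have h2 : (gmap (τ⁻¹ : RingAut F) (k⁻¹ * g) : Mn) = c • 1 := by rw [map_mul]; exact hc
  have h3 : (((k⁻¹ * g : GL ι F)) : Mn) = τ c • 1 := by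
    have h4 := congrArg (fun A : Mn => A.map τ) h2
    rw [show ((gmap (τ⁻¹ : RingAut F) (k⁻¹ * g) : GL ι F) : Mn).map τ = ((k⁻¹ * g : GL ι F) : Mn) from
      Matrix.ext fun a b => τ.apply_symm_apply _] at h4
    rw [h4]
    ext a b
    by_cases hab : a = b <;> simp [hab]
  calc (g : Mn) = (k : Mn) * (((k⁻¹ * g : GL ι F)) : Mn) := by
        rw [← Units.val_mul, mul_inv_cancel_left]
    _ = _ := by rw [h3, Matrix.mul_smul, Matrix.mul_one]

theorem go_field_inj {g k : GO} {σ τ : RingAut F} (hσ : RatAt Q σ) (hτ : RatAt Q τ)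
    (e : goHom Q g * fld hσ = goHom Q k * fld hτ) :
    σ = τ ∧ ∃ c : F, ((g : GL ι F) : Mn) = c • ((k : GL ι F) : Mn) := by
  change poSemi _ * poSemi (isPair_fld hσ) = poSemi _ * poSemi (isPair_fld hτ) at e
  rw [poSemi_mul (σ := (1 : RingAut F)) (τ := σ) (isPair_refl g.2),
    poSemi_mul (σ := (1 : RingAut F)) (τ := τ) (isPair_refl k.2)] at e
  obtain ⟨h1, c, hc⟩ := H.poSemi_inj _ _ e
  refine ⟨by rwa [one_mul, one_mul] at h1, c, ?_⟩
  rwa [map_one, mul_one, mul_one] at hc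

theorem goHom_inj {g k : GO} (e : goHom Q g = goHom Q k) :
    ∃ c : F, ((g : GL ι F) : Mn) = c • ((k : GL ι F) : Mn) :=
  (H.go_field_inj RatAt.one RatAt.one (by rw [e])).2

theorem mu_goMap {σ : F ≃+* F} (hR : RatAt Q σ) (g : GO) : (mu (goMap hR g) : F) = σ (mu g : F) := by
  refine congrArg Units.val (H.mu_eq (d := Units.map σ.toMonoidHom (mu g)) fun v => ?_)
  obtain ⟨w, rfl⟩ : ∃ w : ι → F, σ ∘ w = v := ⟨σ.symm ∘ v, funext fun i => σ.apply_symm_apply _⟩
  show Q (((g : GL ι F) : Mn).map σ *ᵥ (σ ∘ w)) = σ (mu g : F) * Q (σ ∘ w)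
  rw [map_comp_mulVec, hR, hR, mu_spec, map_mul]

theorem psgn_goMap {σ : F ≃+* F} (hR : RatAt Q σ) (g : GO) : psgn n (goMap hR g) = psgn n g := by
  by_cases h2 : (2 : F) = 0
  · obtain ⟨s, h, -, hg⟩ := exists_norm_iso h2 g
    rw [H.psgn_eq_dick h2 hg,
      H.psgn_eq_dick h2 (s := σ s) (h := mapOG σ.toRingHom (fun u => hR u) h),
      dick_mapOG σ.toRingHom (fun u => hR u) H.nd H.tri H.nd H.tri]
    show ((g : GL ι F) : Mn).map σ = σ s • (ogVal h).map σ
    rw [hg]; ext x y; simp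
  · have : psgn n (goMap hR g) = 1 ↔ psgn n g = 1 := by
      rw [psgn_eq_one_iff_det h2, psgn_eq_one_iff_det h2, H.mu_goMap hR, ← map_pow]
      show (((g : GL ι F) : Mn).map σ).det = _ ↔ _
      rw [show (((g : GL ι F) : Mn).map σ).det = σ ((g : GL ι F) : Mn).det from
        (RingHom.map_det (σ : F ≃+* F).toRingHom _).symm, σ.injective.eq_iff]
    rcases Int.units_eq_one_or (psgn n g) with e | e
    · rw [this.2 e, e]
    · rw [e]
      exact (Int.units_eq_one_or _).resolve_left fun h => by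
        rw [this.1 h] at e; exact absurd e (by decide)

omit H in
theorem conj_field_go (y : GO) {σ : RingAut F} (hR : RatAt Q σ) :
    goHom Q y * fld hR * (goHom Q y)⁻¹ = goHom Q (y * (goMap hR y)⁻¹) * fld hR := by
  rw [← map_inv, mul_assoc, field_conj_go, ← mul_assoc, ← map_mul, map_inv (goMap hR)]

theorem pow_go_field (d : GO) {σ : RingAut F} (hR : RatAt Q σ) : ∀ k : ℕ, ∃ N : GO,
    ((N : GL ι F)) = twistNorm σ (d : GL ι F) k ∧ psgn n N = psgn n d ^ k ∧
      (goHom Q d * fld hR) ^ k = goHom Q N * fld (hR.pow k)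
  | 0 => ⟨1, rfl, by rw [pow_zero]; exact map_one H.psgnHom, by
      rw [pow_zero, map_one, one_mul, fld_congr (hR.pow 0) RatAt.one (pow_zero σ), fld_one]⟩
  | k + 1 => by
    obtain ⟨N, hN, hs, he⟩ := pow_go_field d hR k
    refine ⟨d * goMap hR N, ?_, ?_, ?_⟩
    · rw [Subgroup.coe_mul, goMap_coe, hN]; rfl
    · rw [H.psgn_mul, H.psgn_goMap hR, hs, pow_succ']
    · rw [pow_succ', he, fld_congr (hR.pow (k + 1)) (hR.mul (hR.pow k)) (pow_succ' σ k), ← fld_mul hR (hR.pow k),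
        map_mul (goHom Q), mul_assoc, ← mul_assoc (fld hR), field_conj_go]
      group

theorem orderOf_go_field {σ : RingAut F} (hR : RatAt Q σ) {d : GO} {r : ℕ} (hr : r.Prime) (hσ : σ ≠ 1)
    (h : orderOf (goHom Q d * fld hR) = r) :
    orderOf σ = r ∧ psgn n d ^ r = 1 ∧
      ∃ c : Fˣ, twistNorm σ (d : GL ι F) r = Matrix.GeneralLinearGroup.scalar ι c := by
  obtain ⟨N, hN, hs, he⟩ := H.pow_go_field d hR r
  rw [← h, pow_orderOf_eq_one, h] at he
  obtain ⟨h1, c, hc⟩ := H.go_field_inj (g := N) (k := 1) (hR.pow r) RatAt.one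
    (by rw [map_one, fld_one, one_mul]; exact he.symm)
  have hc' : ((N : GL ι F) : Mn) = c • 1 := hc
  have hc0 : c ≠ 0 := fun h0 => by
    obtain ⟨v, hv⟩ := H.exists_one
    have := mu_spec N v
    rw [hc', h0, zero_smul, Matrix.zero_mulVec, QuadraticMap.map_zero, hv, mul_one] at this
    exact (mu N).ne_zero this.symm
  refine ⟨(hr.eq_one_or_self_of_dvd _ (orderOf_dvd_of_pow_eq_one h1)).resolve_left
    fun h1 => hσ (orderOf_eq_one_iff.1 h1), hs ▸ H.psgn_scalar hc', Units.mk0 c hc0, Units.ext ?_⟩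
  rw [← hN, hc']
  ext a b
  by_cases hab : a = b <;> simp [hab]

/-- A field class element is conjugate under the inner-diagonal group to a standard one. -/
theorem fieldClass_param (hR : Rat Q) {x : MulAut PQ} (hx : IsFieldAutClassPOmega (⇑Q) x)
    (hv : ∀ σ : RingAut F, ∃ (v : ι → F), Q v ≠ 0 ∧ σ ∘ v = v) :
    ∃ (σ : RingAut F) (a : GO), σ ≠ 1 ∧ psgn n a = 1 ∧ x = goHom Q a * fld (hR.ratAt σ) * (goHom Q a)⁻¹ := by
  obtain ⟨α, φ, σ, hσ, hφ, hα⟩ := hx
  obtain rfl : φ = fld (hR.ratAt σ) := (fld_induced_iff (hR.ratAt σ)).1 hφ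
  obtain ⟨c, ρ, rfl⟩ := H.decomp_go hR α
  set a₀ := goMap (hR.ratAt (ρ⁻¹ : RingAut F)) c⁻¹
  have hc : fld (hR.ratAt ρ) * fld (hR.ratAt σ) = fld (hR.ratAt σ) * fld (hR.ratAt ρ) := by
    rw [fld_mul, fld_mul]; exact fld_congr _ _ (PSLAut.ringAut_commute _ _)
  have hinv : (fld (hR.ratAt ρ))⁻¹ = fld (hR.ratAt (ρ⁻¹ : RingAut F)) := by
    refine inv_eq_of_mul_eq_one_right ?_
    rw [fld_mul, ← fld_one (Q := Q)]
    exact fld_congr _ _ (mul_inv_cancel ρ)
  have h2 : (fld (hR.ratAt ρ))⁻¹ * (goHom Q c)⁻¹ = goHom Q a₀ * (fld (hR.ratAt ρ))⁻¹ := by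
    rw [hinv, ← map_inv, field_conj_go]
  set u := fld (hR.ratAt ρ)
  set φ := fld (hR.ratAt σ)
  have hx' : x = goHom Q a₀ * φ * (goHom Q a₀)⁻¹ := by
    calc x = (u⁻¹ * (goHom Q c)⁻¹) * φ * (goHom Q c * u) := by rw [← hα]; group
      _ = goHom Q a₀ * (u⁻¹ * φ * u) * (goHom Q a₀)⁻¹ * (goHom Q a₀ * u⁻¹ * (goHom Q c * u)) := by
        rw [h2]; group
      _ = goHom Q a₀ * φ * (goHom Q a₀)⁻¹ := by
        rw [show u⁻¹ * φ * u = φ by rw [mul_assoc, ← hc, inv_mul_cancel_left], ← h2]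
        group
  obtain ⟨v, hv0, hvσ⟩ := hv σ
  rcases H.exists_rat_improper hv0 a₀ with h | h
  · exact ⟨σ, a₀, hσ, h, hx'⟩
  · refine ⟨σ, a₀ * ogToGO Q (refl hv0), hσ, h, ?_⟩
    set r := ogToGO Q (refl hv0)
    have hr : goMap (hR.ratAt σ) r = r := go_ext (Matrix.ext_iff_mulVec.2 fun w => by
      obtain ⟨z, rfl⟩ : ∃ z : ι → F, σ ∘ z = w := ⟨σ.symm ∘ w, funext fun i => σ.apply_symm_apply _⟩
      show ((ogVal (refl hv0)).map σ) *ᵥ (σ ∘ z) = ogVal (refl hv0) *ᵥ (σ ∘ z)
      rw [map_comp_mulVec, refl_apply, refl_apply]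
      have hB : QuadraticMap.polar ⇑Q v (σ ∘ z) = σ (QuadraticMap.polar ⇑Q v z) := by
        conv_lhs => rw [← hvσ]
        simp only [QuadraticMap.polar, map_sub, ← hR σ]
        rw [show σ ∘ v + σ ∘ z = σ ∘ (v + z) from funext fun i => (map_add σ _ _).symm]
      have hQv : σ (Q v) = Q v := by rw [← hR σ, hvσ]
      funext i
      have hvi : σ (v i) = v i := congrFun hvσ i
      simp only [Function.comp_apply, Pi.sub_apply, Pi.smul_apply, smul_eq_mul, map_sub, map_mul,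
        map_inv₀, hQv, hvi, hB])
    have hcomm : goHom Q r * φ * (goHom Q r)⁻¹ = φ := by
      show goHom Q r * fld (hR.ratAt σ) * (goHom Q r)⁻¹ = fld (hR.ratAt σ)
      rw [conj_field_go, hr, mul_inv_cancel, map_one, one_mul]
    calc x = goHom Q a₀ * (goHom Q r * φ * (goHom Q r)⁻¹) * (goHom Q a₀)⁻¹ := by rw [hcomm]; exact hx'
      _ = _ := by simp only [φ, map_mul]; group

section Fixed

variable {F₀ : Type*} [Field F₀] [Fintype F₀] {P : QuadraticForm F₀ (ι → F₀)} {j : F₀ →+* F}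
  {σ : RingAut F} (hR : RatAt Q σ)
include hR

/-- A cocycle in the similarity group, descended: up to a similarity it gives a form over the small field. -/
theorem exists_twisted_form (hj : ∀ x, σ x = x ↔ x ∈ j.range) {d : GO} {r : ℕ} (hσr : orderOf σ = r) {c : Fˣ}
    (hd : twistNorm σ (d : GL ι F) r = Matrix.GeneralLinearGroup.scalar ι c) :
    ∃ (μ : Fˣ) (y : GL ι F) (ε : Fˣ) (P' : QuadraticForm F₀ (ι → F₀)),
      (d : GL ι F) = Matrix.GeneralLinearGroup.scalar ι μ * (y * (gmap σ y)⁻¹) ∧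
      (∀ u, Q ((y : Mn) *ᵥ (j ∘ u)) = (ε : F) * j (P' u)) ∧
      (QuadraticMap.polarBilin P').Nondegenerate := by
  haveI : Nonempty ι := Fintype.card_pos_iff.1 (by
    by_contra h
    obtain ⟨v, hv⟩ := H.exists_one
    haveI : IsEmpty ι := Fintype.card_eq_zero_iff.1 (by omega)
    rw [Subsingleton.elim v 0, QuadraticMap.map_zero] at hv
    exact zero_ne_one hv)
  subst hσr
  obtain ⟨μ, y, hy⟩ := exists_coboundary_scalar σ (d : GL ι F) hd
  set w : F := (μ : F)⁻¹ * (μ : F)⁻¹ * (mu d : F)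
  have hyσ : (y : Mn) = (μ : F)⁻¹ • (((d : GL ι F) : Mn) * (y : Mn).map σ) := by
    have h1 : (d : GL ι F) * gmap σ y = Matrix.GeneralLinearGroup.scalar ι μ * y := by
      rw [hy, mul_assoc, mul_assoc, inv_mul_cancel, mul_one]
    have h2 : ((d : GL ι F) : Mn) * (y : Mn).map σ = (μ : F) • (y : Mn) := by
      have h3 := congrArg Units.val h1
      simp only [Units.val_mul, coe_scalar_smul, Matrix.smul_mul, Matrix.one_mul] at h3
      exact h3
    rw [h2, smul_smul, inv_mul_cancel₀ μ.ne_zero, one_smul]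
  have hfix : ∀ u : ι → F₀, Q ((y : Mn) *ᵥ (j ∘ u)) = w * σ (Q ((y : Mn) *ᵥ (j ∘ u))) := fun u => by
    have hju : (σ : F → F) ∘ (j ∘ u) = j ∘ u := funext fun i => (hj _).2 ⟨u i, rfl⟩
    conv_lhs => rw [hyσ, Matrix.smul_mulVec, ← Matrix.mulVec_mulVec, QuadraticMap.map_smul, mu_spec]
    rw [smul_eq_mul, ← hR, ← map_comp_mulVec, hju]
    ring
  obtain ⟨u₁, hu₁⟩ : ∃ u : ι → F₀, Q ((y : Mn) *ᵥ (j ∘ u)) ≠ 0 := by
    by_contra hcon
    push Not at hcon
    obtain ⟨v, hv⟩ := H.exists_one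
    have h0 : Q.comp (Matrix.mulVecLin (y : Mn)) = 0 := quad_ext_rat j fun u => by
      rw [QuadraticMap.comp_apply, Matrix.mulVecLin_apply, hcon, _root_.QuadraticMap.zero_apply]
    have h1 := congrArg (fun q : QuadraticForm F (ι → F) => q (((y⁻¹ : GL ι F) : Mn) *ᵥ v)) h0
    simp only [QuadraticMap.comp_apply, Matrix.mulVecLin_apply, Matrix.mulVec_mulVec, Units.mul_inv,
      Matrix.one_mulVec, hv, _root_.QuadraticMap.zero_apply] at h1
    exact one_ne_zero h1
  set ε : F := Q ((y : Mn) *ᵥ (j ∘ u₁))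
  have hnd' : (QuadraticMap.polarBilin ((ε⁻¹) • Q.comp (Matrix.mulVecLin (y : Mn)))).Nondegenerate := by
    refine nondegenerate_of_separatingLeft _ fun u hu => ?_
    have h1 : (y : Mn) *ᵥ u = 0 := H.nd.1 _ fun z => by
      have h := hu (((y⁻¹ : GL ι F) : Mn) *ᵥ z)
      rw [QuadraticMap.polarBilin_apply_apply, FunLike.coe_smul, QuadraticMap.polar_smul, smul_eq_mul,
        mul_eq_zero] at h
      have h := h.resolve_left (inv_ne_zero hu₁)
      simp only [QuadraticMap.polarBilin_apply_apply, QuadraticMap.polar, QuadraticMap.comp_apply,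
        Matrix.mulVecLin_apply, Matrix.mulVec_add, Matrix.mulVec_mulVec, Units.mul_inv,
        Matrix.one_mulVec] at h ⊢
      exact h
    have := congrArg (((y⁻¹ : GL ι F) : Mn) *ᵥ ·) h1
    simpa [Matrix.mulVec_mulVec] using this
  obtain ⟨P', hP', hPn'⟩ := exists_rat_form j (Q' := ε⁻¹ • Q.comp (Matrix.mulVecLin (y : Mn))) (fun u => by
    refine (hj _).1 ?_
    rw [_root_.QuadraticMap.smul_apply, QuadraticMap.comp_apply, Matrix.mulVecLin_apply, smul_eq_mul, map_mul,
      map_inv₀]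
    have e1 : ε = w * σ ε := hfix u₁
    have e2 := hfix u
    have hw : w ≠ 0 := fun h0 => hu₁ (by rw [e1, h0, zero_mul])
    conv_rhs => rw [e1, e2, _root_.mul_inv_rev]
    field_simp) hnd'
  refine ⟨μ, y, Units.mk0 ε hu₁, P', hy, fun u => ?_, hPn'⟩
  rw [← hP' u, _root_.QuadraticMap.smul_apply, QuadraticMap.comp_apply, Matrix.mulVecLin_apply, smul_eq_mul,
    Units.val_mk0, ← mul_assoc, mul_inv_cancel₀ hu₁, one_mul]

/-- If the descended form is the rational one, the cocycle splits in the similarity group. -/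
theorem exists_split (hP : ∀ u, Q (j ∘ u) = j (P u)) (hj : ∀ x, σ x = x ↔ x ∈ j.range) {d : GO} {μ : Fˣ}
    {y : GL ι F} {ε : Fˣ} {P' : QuadraticForm F₀ (ι → F₀)}
    (hd : (d : GL ι F) = Matrix.GeneralLinearGroup.scalar ι μ * (y * (gmap σ y)⁻¹))
    (hP' : ∀ u, Q ((y : Mn) *ᵥ (j ∘ u)) = (ε : F) * j (P' u))
    {z : GL ι F₀} (hz : ∀ u, P' ((z : Matrix ι ι F₀) *ᵥ u) = P u) :
    ∃ g : GO, goHom Q d = goHom Q (g * (goMap hR g)⁻¹) ∧ psgn n d = 1 := by
  set zF := Matrix.GeneralLinearGroup.map j z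
  have hzσ : gmap σ zF = zF := Units.ext (Matrix.ext fun a b => (hj _).2 ⟨_, rfl⟩)
  have hg : y * zF ∈ GO := by
    refine ⟨ε, fun v => ?_⟩
    have h : Q.comp (Matrix.mulVecLin ((y * zF : GL ι F) : Mn)) = (ε : F) • Q := quad_ext_rat j fun u => by
      rw [QuadraticMap.comp_apply, Matrix.mulVecLin_apply, _root_.QuadraticMap.smul_apply, smul_eq_mul, hP,
        Units.val_mul, show (zF : Mn) = (z : Matrix ι ι F₀).map j from rfl, ← Matrix.mulVec_mulVec, mulVec_rat,
        hP', hz]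
    exact congrArg (fun q : QuadraticForm F (ι → F) => q v) h
  set g : GO := ⟨y * zF, hg⟩
  set s : GO := d * (g * (goMap hR g)⁻¹)⁻¹
  have hs : ((s : GL ι F) : Mn) = (μ : F) • 1 := by
    have hs' : (s : GL ι F) = Matrix.GeneralLinearGroup.scalar ι μ := by
      show (d : GL ι F) * ((y * zF) * (gmap σ (y * zF))⁻¹)⁻¹ = _
      rw [hd, map_mul, hzσ]; group
    rw [hs', coe_scalar_smul]
  have hd' : d = s * (g * (goMap hR g)⁻¹) := (inv_mul_cancel_right _ _).symm
  clear_value s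
  refine ⟨g, by rw [hd', map_mul, goHom_scalar hs, one_mul], ?_⟩
  show H.psgnHom d = 1
  rw [hd', map_mul, map_mul, map_inv, show H.psgnHom s = 1 from H.psgn_scalar hs,
    show H.psgnHom (goMap hR g) = H.psgnHom g from H.psgn_goMap hR g, mul_inv_cancel, mul_one]

/-- Similarities over the small field, over the large one. -/
noncomputable def mapGO (hP : ∀ u, Q (j ∘ u) = j (P u)) :
    Geo.quadSimilarityGroup (F := F₀) ⇑P →* Geo.quadSimilarityGroup (F := F) ⇑Q :=
  ((Matrix.GeneralLinearGroup.map j).comp (Geo.quadSimilarityGroup (F := F₀) ⇑P).subtype).codRestrict _ fun g => by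
    obtain ⟨c, hc⟩ := g.2
    refine ⟨Units.map j.toMonoidHom c, fun v => ?_⟩
    have h : Q.comp (Matrix.mulVecLin (((g : GL ι F₀) : Matrix ι ι F₀).map j)) = j c • Q :=
      quad_ext_rat j fun u => by
        rw [QuadraticMap.comp_apply, Matrix.mulVecLin_apply, mulVec_rat, _root_.QuadraticMap.smul_apply,
          smul_eq_mul, hP, hP, hc, map_mul]
    exact congrArg (fun q : QuadraticForm F (ι → F) => q v) h

omit hR in
theorem mapGO_coe (hP : ∀ u, Q (j ∘ u) = j (P u)) (g : Geo.quadSimilarityGroup (F := F₀) ⇑P) :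
    (((mapGO hP g : GO) : GL ι F) : Mn) = ((g : GL ι F₀) : Matrix ι ι F₀).map j := rfl

omit hR in
theorem mu_mapGO (hP : ∀ u, Q (j ∘ u) = j (P u)) (g : Geo.quadSimilarityGroup (F := F₀) ⇑P) :
    (mu (mapGO hP g) : F) = j (mu g : F₀) := by
  refine congrArg Units.val (H.mu_eq (d := Units.map j.toMonoidHom (mu g)) fun v => ?_)
  have h : Q.comp (Matrix.mulVecLin (((g : GL ι F₀) : Matrix ι ι F₀).map j)) = j (mu g : F₀) • Q :=
    quad_ext_rat j fun u => by
      rw [QuadraticMap.comp_apply, Matrix.mulVecLin_apply, mulVec_rat, _root_.QuadraticMap.smul_apply,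
        smul_eq_mul, hP, hP, mu_spec, map_mul]
  exact congrArg (fun q : QuadraticForm F (ι → F) => q v) h

omit hR in
theorem psgn_mapGO (hP : ∀ u, Q (j ∘ u) = j (P u)) (H₀ : EvenSpace P n)
    (g : Geo.quadSimilarityGroup (F := F₀) ⇑P) : psgn n (mapGO hP g) = psgn n g := by
  by_cases h2 : (2 : F₀) = 0
  · obtain ⟨s, h, -, hg⟩ := exists_norm_iso h2 g
    rw [H₀.psgn_eq_dick h2 hg,
      H.psgn_eq_dick (by rw [← map_ofNat j, h2, map_zero]) (s := j s) (h := mapOG j hP h),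
      dick_mapOG j hP H₀.nd H₀.tri H.nd H.tri]
    show ((g : GL ι F₀) : Matrix ι ι F₀).map j = j s • (ogVal h).map j
    rw [hg]; ext x y; simp
  · have h2' : (2 : F) ≠ 0 := fun h => h2 (j.injective (by rw [map_ofNat, h, map_zero]))
    have : psgn n (mapGO hP g) = 1 ↔ psgn n g = 1 := by
      rw [psgn_eq_one_iff_det h2', psgn_eq_one_iff_det h2, H.mu_mapGO hP, H.mapGO_coe hP, ← map_pow,
        ← RingHom.mapMatrix_apply, ← RingHom.map_det, j.injective.eq_iff]
    rcases Int.units_eq_one_or (psgn n g) with e | e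
    · rw [this.2 e, e]
    · rw [e]
      exact (Int.units_eq_one_or _).resolve_left fun h => by
        rw [this.1 h] at e; exact absurd e (by decide)

theorem centralizer_eq_map (hP : ∀ u, Q (j ∘ u) = j (P u)) (H₀ : EvenSpace P n)
    (hj : ∀ x, σ x = x ↔ x ∈ j.range) :
    H.diagAut ⊓ Subgroup.centralizer {fld hR} =
      H₀.psgnHom.ker.map ((goHom Q).comp (mapGO hP)) := by
  ext β
  constructor
  · rintro ⟨⟨g, hg, rfl⟩, hc⟩
    have hc' := Subgroup.mem_centralizer_singleton_iff.1 hc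
    rw [field_conj_go] at hc'
    obtain ⟨-, c, hc'⟩ := H.go_field_inj hR hR hc'.symm
    have hc0 : c ≠ 0 := fun h0 => (gmap σ (g : GL ι F)).det_ne_zero (by
      rw [show ((gmap σ (g : GL ι F) : GL ι F) : Mn) = c • ((g : GL ι F) : Mn) from hc', h0, zero_smul]
      haveI : Nonempty ι := Fintype.card_pos_iff.1 (by
        rw [H.card]
        by_contra hn
        obtain ⟨v, hv⟩ := H.exists_one
        haveI : IsEmpty ι := Fintype.card_eq_zero_iff.1 (by rw [H.card]; omega)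
        rw [Subsingleton.elim v 0, QuadraticMap.map_zero] at hv
        exact zero_ne_one hv)
      rw [Matrix.det_zero])
    haveI : Nonempty ι := Fintype.card_pos_iff.1 (by
      rw [H.card]
      by_contra hn
      obtain ⟨v, hv⟩ := H.exists_one
      haveI : IsEmpty ι := Fintype.card_eq_zero_iff.1 (by rw [H.card]; omega)
      rw [Subsingleton.elim v 0, QuadraticMap.map_zero] at hv
      exact zero_ne_one hv)
    obtain ⟨μ, k, hk, hgk⟩ := exists_fixed_of_map_eq_smul σ (g : GL ι F) (c := Units.mk0 c hc0) (Units.ext (by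
      rw [Units.val_mul, coe_scalar_smul, Units.val_mk0, Matrix.smul_mul, Matrix.one_mul]
      exact hc'))
    have hfix : ∀ a b, ∃ y, j y = (k : Mn) a b := fun a b =>
      (hj _).1 (congrFun (congrFun (congrArg (fun u : GL ι F => (u : Mn)) hk) a) b)
    choose A hA using hfix
    have hA' : (Matrix.of A).map j = (k : Mn) := Matrix.ext hA
    have hd : (Matrix.of A).det ≠ 0 := fun h0 => k.det_ne_zero (by
      rw [← hA', ← RingHom.mapMatrix_apply, ← RingHom.map_det, h0, map_zero])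
    set k₀ := Matrix.GeneralLinearGroup.mkOfDetNeZero (Matrix.of A) hd
    have hgk' : ((g : GL ι F) : Mn) = (μ : F) • (k : Mn) := by
      rw [hgk, Units.val_mul, coe_scalar_smul, Matrix.smul_mul, Matrix.one_mul]
    have hk₀ : k₀ ∈ Geo.quadSimilarityGroup (F := F₀) ⇑P := by
      have hkq : ∀ u, Q ((k : Mn) *ᵥ (j ∘ u)) = ((mu g : F) / ((μ : F) * μ)) * j (P u) := fun u => by
        have := mu_spec g (j ∘ u)
        rw [hgk', Matrix.smul_mulVec, QuadraticMap.map_smul, hP, smul_eq_mul] at this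
        field_simp
        linear_combination this
      obtain ⟨v, hv⟩ := H₀.exists_one
      have hc₀ := hkq v
      rw [← hA', mulVec_rat, hP, hv, map_one, mul_one] at hc₀
      refine ⟨Units.mk0 (P (Matrix.of A *ᵥ v)) fun h0 => ?_, fun u => j.injective ?_⟩
      · rw [h0, map_zero] at hc₀
        exact div_ne_zero (mu g).ne_zero (mul_ne_zero μ.ne_zero μ.ne_zero) hc₀.symm
      · show j (P (Matrix.of A *ᵥ u)) = _
        rw [← hP, ← mulVec_rat, hA', hkq, Units.val_mk0, map_mul, hc₀]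
    set t : GO := g * (mapGO hP ⟨k₀, hk₀⟩)⁻¹
    have ht : ((t : GL ι F) : Mn) = (μ : F) • 1 := by
      show ((g : GL ι F) : Mn) * (((Matrix.GeneralLinearGroup.map j k₀)⁻¹ : GL ι F) : Mn) = _
      rw [show Matrix.GeneralLinearGroup.map j k₀ = k from Units.ext hA', hgk', Matrix.smul_mul, Units.mul_inv]
    refine ⟨⟨k₀, hk₀⟩, ?_, ?_⟩
    · show psgn n _ = 1
      rw [← H.psgn_mapGO hP H₀, ← show H.psgnHom g = 1 from hg,
        show g = t * mapGO hP ⟨k₀, hk₀⟩ from (inv_mul_cancel_right _ _).symm]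
      show _ = H.psgnHom (t * _)
      rw [map_mul, show H.psgnHom t = 1 from H.psgn_scalar ht, one_mul]
      rfl
    · rw [MonoidHom.comp_apply, show g = t * mapGO hP ⟨k₀, hk₀⟩ from (inv_mul_cancel_right _ _).symm,
        map_mul, goHom_scalar ht, one_mul]
  · rintro ⟨g, hg, rfl⟩
    refine ⟨⟨_, (H.psgn_mapGO hP H₀ g).trans hg, rfl⟩, Subgroup.mem_centralizer_singleton_iff.2 ?_⟩
    rw [MonoidHom.comp_apply, field_conj_go]
    congr 2
    exact (go_ext (Matrix.ext fun a b => (hj _).2 ⟨_, rfl⟩) : goMap hR _ = _).symm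

omit hR in
theorem ker_comp_mapGO (hP : ∀ u, Q (j ∘ u) = j (P u)) (H₀ : EvenSpace P n) :
    ((goHom Q).comp (mapGO hP)).ker = (goHom P).ker := by
  ext g
  simp only [MonoidHom.mem_ker, MonoidHom.comp_apply]
  constructor
  · intro h
    obtain ⟨c, hc⟩ := H.goHom_inj (k := 1) (h.trans (map_one _).symm)
    rw [H.mapGO_coe hP, Subgroup.coe_one, Units.val_one] at hc
    obtain ⟨i⟩ : Nonempty ι := Fintype.card_pos_iff.1 (by
      rw [H.card]
      by_contra hn
      obtain ⟨v, hv⟩ := H.exists_one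
      haveI : IsEmpty ι := Fintype.card_eq_zero_iff.1 (by rw [H.card]; omega)
      rw [Subsingleton.elim v 0, QuadraticMap.map_zero] at hv
      exact zero_ne_one hv)
    refine goHom_scalar (c := ((g : GL ι F₀) : Matrix ι ι F₀) i i) (Matrix.ext fun a b => j.injective ?_)
    have hab := congrFun (congrFun hc a) b
    have hii := congrFun (congrFun hc i) i
    simp only [Matrix.map_apply, Matrix.smul_apply, OneMemClass.coe_one, Units.val_one, Matrix.one_apply_eq,
      smul_eq_mul, mul_one] at hab hii ⊢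
    rw [hab, map_mul, hii]
    rcases eq_or_ne a b with rfl | hab' <;> [simp; simp [hab']]
  · intro h
    obtain ⟨-, c, hc⟩ := poSemi_eq_one H₀.nd H₀.tri H₀.good (isPair_refl g.2) h
    refine goHom_scalar (c := j c) ?_
    rw [H.mapGO_coe hP, hc]
    ext a b
    by_cases hab : a = b <;> simp [hab]

/-- The centraliser of a standard field automorphism in the inner-diagonal group. -/
theorem centralizer_iso (hP : ∀ u, Q (j ∘ u) = j (P u)) (H₀ : EvenSpace P n)
    (hj : ∀ x, σ x = x ↔ x ∈ j.range) :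
    Nonempty (↥(H.diagAut ⊓ Subgroup.centralizer {fld hR}) ≃* ↥H₀.diagAut) := by
  set K := H₀.psgnHom.ker
  set φ₁ := ((goHom Q).comp (mapGO hP)).comp K.subtype
  set φ₂ := (goHom P).comp K.subtype
  have hk : φ₁.ker = φ₂.ker := by
    ext g
    exact SetLike.ext_iff.1 (H.ker_comp_mapGO hP H₀) (g : Geo.quadSimilarityGroup (F := F₀) ⇑P)
  have r1 : φ₁.range = H.diagAut ⊓ Subgroup.centralizer {fld hR} := by
    rw [H.centralizer_eq_map hR hP H₀ hj, MonoidHom.range_eq_map, ← Subgroup.map_map,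
      ← MonoidHom.range_eq_map, Subgroup.range_subtype]
  have r2 : φ₂.range = H₀.diagAut := by
    show ((goHom P).comp K.subtype).range = K.map (goHom P)
    rw [MonoidHom.range_eq_map, ← Subgroup.map_map, ← MonoidHom.range_eq_map, Subgroup.range_subtype]
  exact ⟨(MulEquiv.subgroupCongr r1.symm).trans ((QuotientGroup.quotientKerEquivRange φ₁).symm.trans
    ((QuotientGroup.quotientMulEquivOfEq hk).trans ((QuotientGroup.quotientKerEquivRange φ₂).trans
      (MulEquiv.subgroupCongr r2))))⟩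

end Fixed

end EvenSpace

end Cfsg.Agent.Classical.OrthAut
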