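import Cfsg.Agent.Lib.Classical.AschEvenTensor
import Cfsg.Agent.Lib.Classical.MaxRational
import Cfsg.Agent.Lib.Classical.OrthEvenField
import Cfsg.Agent.Lib.Classical.AschFormResidual
import Mathlib.FieldTheory.Finite.Extension
import Mathlib.Algebra.Polynomial.SpecificDegree

/-!
Rational structures of even dimensional quadratic spaces: a Gram structure is one of the quadratic form, and
a structure over a subfield of index two forces plus type.
-/

set_option autoImplicit false
set_option linter.unusedSectionVars false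
set_option linter.unusedFintypeInType false
set_option linter.unusedDecidableInType false
set_option quotPrecheck false

namespace Cfsg.Agent.Classical.AschEven

open Matrix Module Cfsg.Geo Cfsg.Agent.Classical.Descent
open Asch (Refl Fix Irr Inv irr_iff adj)

variable {F : Type*} [Field F] [Fintype F]

/-- A quadratic over a subfield of index two has a root upstairs. -/
theorem root_two {F₀ : Subfield F} (hcard : Fintype.card F = Nat.card F₀ ^ 2) (ζ : F₀) :
    ∃ t : F, t ^ 2 + t + (ζ : F) = 0 := by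
  classical
  by_contra hno
  push Not at hno
  set f : Polynomial F₀ := Polynomial.X ^ 2 + Polynomial.X + Polynomial.C ζ with hf
  have hdeg : f.natDegree = 2 := by rw [hf]; compute_degree!
  have hirr : Irreducible f := Polynomial.irreducible_of_degree_le_three_of_not_isRoot
    (by rw [hdeg]; simp) fun x hx => hno (x : F) (by
      have h := congrArg (fun y : F₀ => (y : F)) hx
      simpa [hf] using h)
  obtain ⟨g, hg⟩ := (hirr.natDegree_dvd_iff_dvd_X_pow_card_pow_sub_X (n := 2)).1 (by rw [hdeg])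
  have hq : 1 < Fintype.card F := Fintype.one_lt_card
  have hg0 : g ≠ 0 := fun h => by
    rw [h, mul_zero] at hg
    exact FiniteField.X_pow_card_sub_X_ne_zero F₀ (hcard ▸ hq) hg
  have hgdeg : g.natDegree < Fintype.card F := by
    have h1 := Polynomial.natDegree_mul hirr.ne_zero hg0
    rw [← hg, FiniteField.X_pow_card_sub_X_natDegree_eq F₀ (hcard ▸ hq), hdeg, ← hcard] at h1
    omega
  have hroot : ∀ x : F, (g.map F₀.subtype).eval x = 0 := fun x => by
    have h1 := congrArg (fun p : Polynomial F₀ => (p.map F₀.subtype).eval x) hg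
    simp only [Polynomial.map_mul, Polynomial.eval_mul, Polynomial.map_sub, Polynomial.map_pow, Polynomial.map_X,
      Polynomial.eval_sub, Polynomial.eval_pow, Polynomial.eval_X] at h1
    rw [← hcard, FiniteField.pow_card, sub_self] at h1
    refine (mul_eq_zero.1 h1.symm).resolve_left ?_
    simp only [hf, Polynomial.map_add, Polynomial.map_pow, Polynomial.map_X, Polynomial.map_C, Polynomial.eval_add,
      Polynomial.eval_pow, Polynomial.eval_X, Polynomial.eval_C]
    exact hno x
  refine hg0 ((Polynomial.map_eq_zero F₀.subtype).1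
    (Polynomial.eq_zero_of_natDegree_lt_card_of_eval_eq_zero _ Function.injective_id hroot ?_))
  exact lt_of_le_of_lt Polynomial.natDegree_map_le hgdeg

variable {ι : Type} [Fintype ι] [DecidableEq ι] {Q : QuadraticForm F (ι → F)}

local notation "Mn" => Matrix ι ι F
local notation "B" => QuadraticMap.polar ⇑Q

/-- A form with a rational structure over a subfield of index two has plus type. -/
theorem plus_of_rat_two (hQ : (QuadraticMap.polarBilin Q).Nondegenerate) {m : ℕ}
    (hn : Fintype.card ι = 2 * (m + 1)) {F₀ : Subfield F} (hcard : Fintype.card F = Nat.card F₀ ^ 2) {P : GL ι F}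
    {ζ : F} (hζ : ζ ≠ 0) (h : IsQuadFormRationalStructure (fun v => ζ * Q v) F₀ P) :
    IsPlusTypeOn ⇑Q (⊤ : Submodule F (ι → F)) := by
  classical
  haveI : Fintype F₀ := Fintype.ofFinite _
  set j : F₀ →+* F := F₀.subtype
  let Q' : QuadraticForm F (ι → F) := (ζ • Q).comp (Matrix.toLin' (P : Mn))
  have hQ' : ∀ v, Q' v = ζ * Q ((P : Mn) *ᵥ v) := fun v => by simp [Q']
  have hpol' : ∀ u v, QuadraticMap.polar ⇑Q' u v = ζ * B ((P : Mn) *ᵥ u) ((P : Mn) *ᵥ v) := fun u v => by
    simp only [QuadraticMap.polar, hQ', Matrix.mulVec_add]; ring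
  have hnd : (QuadraticMap.polarBilin Q').Nondegenerate := nondegenerate_of_separatingLeft _ fun u hu => by
    by_contra hu0
    obtain ⟨x, hx⟩ := nd_left hQ (v := (P : Mn) *ᵥ u) fun h0 => hu0 (by
      have := congrArg (((P⁻¹ : GL ι F) : Mn) *ᵥ ·) h0
      simpa [Matrix.mulVec_mulVec] using this)
    have h1 := hu (((P⁻¹ : GL ι F) : Mn) *ᵥ x)
    rw [QuadraticMap.polarBilin_apply_apply, hpol', Matrix.mulVec_mulVec, Units.mul_inv, Matrix.one_mulVec] at h1
    exact hx ((mul_eq_zero.1 h1).resolve_left hζ)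
  obtain ⟨Pf, hPf, hPfnd⟩ := OrthAut.exists_rat_form j (Q' := Q') (fun u =>
    ⟨⟨_, h (j ∘ u) fun i => (u i).2⟩, (hQ' _).symm⟩) hnd
  have hPf' : ∀ u : ι → F₀, Q ((P : Mn) *ᵥ (j ∘ u)) = ζ⁻¹ * j (Pf u) := fun u => by
    rw [← hPf, hQ', ← mul_assoc, inv_mul_cancel₀ hζ, one_mul]
  rcases EvenType.exists_std hPfnd (m := m) (by rw [Module.finrank_pi, hn]) with ⟨⟨U, hU, hUd⟩, -⟩ | ⟨-, ξ, e, hξ, he⟩
  · obtain ⟨W, hW⟩ := OrthAut.half_of_rat j hPf' (U := U) ⟨hU, by rw [hUd, Module.finrank_pi]⟩
    exact plus_of_half hW.1 hW.2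
  obtain ⟨t, ht⟩ := root_two hcard ξ
  let A : Matrix ι ((Fin m ⊕ Fin m) ⊕ Fin 2) F₀ := LinearMap.toMatrix' (e : (((Fin m ⊕ Fin m) ⊕ Fin 2) → F₀) →ₗ[F₀] (ι → F₀))
  let C : Matrix ((Fin m ⊕ Fin m) ⊕ Fin 2) ι F₀ := LinearMap.toMatrix' (e.symm : (ι → F₀) →ₗ[F₀] (((Fin m ⊕ Fin m) ⊕ Fin 2) → F₀))
  have hCA : C * A = 1 := by
    rw [← LinearMap.toMatrix'_comp, LinearEquiv.symm_comp, LinearMap.toMatrix'_id]
  let L : (((Fin m ⊕ Fin m) ⊕ Fin 2) → F) →ₗ[F] (ι → F) := Matrix.mulVecLin ((P : Mn) * A.map j)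
  have hL : Function.Injective L := fun x x' hx => by
    have h1 := congrArg (((C.map j) * ((P⁻¹ : GL ι F) : Mn)) *ᵥ ·) hx
    simp only [L, Matrix.mulVecLin_apply, Matrix.mulVec_mulVec] at h1
    rwa [Matrix.mul_assoc, ← Matrix.mul_assoc ((P⁻¹ : GL ι F) : Mn), Units.inv_mul, Matrix.one_mul,
      ← Matrix.map_mul, hCA, Matrix.map_one _ j.map_zero j.map_one, Matrix.one_mulVec, Matrix.one_mulVec] at h1
  have hLQ : Q.comp L = ζ⁻¹ • qfMinus m F 1 (ξ : F) := OrthAut.quad_ext_rat j fun u => by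
    rw [QuadraticMap.comp_apply, Matrix.mulVecLin_apply, ← Matrix.mulVec_mulVec, OrthAut.half_of_rat.mulVec_rat',
      hPf', show A *ᵥ u = e u from LinearMap.toMatrix'_mulVec _ _, show Pf (e u) = qfMinus m F₀ 1 ξ u from he u, QuadraticMap.smul_apply, smul_eq_mul,
      qfMinus_apply, qfMinus_apply]
    simp [quadFormMinus, j]
  have hQL : ∀ z, Q (L z) = ζ⁻¹ * qfMinus m F 1 (ξ : F) z := fun z => by
    have := congrArg (fun q : QuadraticForm F (((Fin m ⊕ Fin m) ⊕ Fin 2) → F) => q z) hLQ
    simpa using this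
  have hBL : ∀ u v, B (L u) (L v) = ζ⁻¹ * QuadraticMap.polar ⇑(qfMinus m F 1 (ξ : F)) u v := fun u v => by
    simp only [QuadraticMap.polar, ← map_add, hQL]; ring
  let b : Fin m ⊕ Unit → ((Fin m ⊕ Fin m) ⊕ Fin 2) → F := Sum.elim (fun i => Pi.single (Sum.inl (Sum.inl i)) 1)
    (fun _ => Sum.elim 0 ![t, 1])
  have hli : LinearIndependent F b := by
    refine Fintype.linearIndependent_iff.2 fun c hc x => ?_
    have hc' : ∀ k, ∑ y, c y * b y k = 0 := fun k => by simpa using congrFun hc k
    rcases x with i | u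
    · simpa [b, Fintype.sum_sum_type, Pi.single_apply, Sum.inl.injEq, Finset.sum_ite_eq] using
        hc' (Sum.inl (Sum.inl i))
    · simpa [b, Fintype.sum_sum_type] using hc' (Sum.inr 1)
  refine plus_of_family (b := fun x => L (b x)) (hli.map' L (LinearMap.ker_eq_bot.2 hL)) (fun x => ?_)
    (fun x y hxy => ?_) (by simp [hn])
  · rw [hQL, qfMinus_apply]
    rcases x with i | u
    · simp [b, quadFormMinus, Pi.single_apply, Sum.inl.injEq]
    · simp [b, quadFormMinus]
      right
      linear_combination ht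
  · rw [hBL, polar_qfMinus]
    rcases x with i | u <;> rcases y with k | w
    · simp [b, Pi.single_apply]
    · simp [b, Pi.single_apply]
    · simp [b, Pi.single_apply]
    · exact absurd rfl hxy

/-- The Gram structure of a group of isometries is one of the quadratic form. -/
theorem quad_rational (hQ : (QuadraticMap.polarBilin Q).Nondegenerate) (h3 : 3 ≤ Fintype.card ι)
    {H : Subgroup (GL ι F)} (hH : H ≤ isometryGroup F ⇑Q) (hirr : Irr H)
    (h : Asch.RatCase (RingEquiv.refl F) (gQ Q) H) :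
    ∃ (F₁ : Subfield F) (r : ℕ) (P : GL ι F) (ζ : F), r.Prime ∧ Fintype.card F = Nat.card F₁ ^ r ∧ ζ ≠ 0 ∧
      IsQuadFormRationalStructure (fun v => ζ * Q v) F₁ P ∧ H ≤ subfieldSubgroup F₁ P := by
  classical
  haveI : Nonempty ι := Fintype.card_pos_iff.1 (by omega)
  obtain ⟨F₁, r, P, ζ, hr, hcard, hζ, hmem, hle⟩ := h
  refine ⟨F₁, r, P, ζ, hr, hcard, hζ, ?_, hle⟩
  rw [show (P : Mn).map (RingEquiv.refl F) = (P : Mn) from Matrix.map_id _] at hmem
  have hbil : ∀ u v : ι → F, (∀ i, u i ∈ F₁) → (∀ i, v i ∈ F₁) →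
      ζ * B ((P : Mn) *ᵥ u) ((P : Mn) *ᵥ v) ∈ F₁ := by
    intro u v hu hv
    rw [← form_eq, Asch.formOfGram_mulVec, show (P : Mn).map (RingEquiv.refl F) = (P : Mn) from Matrix.map_id _]
    simp only [formOfGram, RingEquiv.refl_apply, Finset.mul_sum]
    refine F₁.sum_mem fun a _ => F₁.sum_mem fun b _ => ?_
    rw [show ∀ x : F, ζ * (u a * x * v b) = u a * (ζ * x) * v b from fun x => by ring]
    exact F₁.mul_mem (F₁.mul_mem (hu a) (hmem a b)) (hv b)
  intro u hu
  show ζ * Q ((P : Mn) *ᵥ u) ∈ F₁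
  by_cases h2 : (2 : F) = 0
  swap
  · have h1 := hbil u u hu hu
    rw [polar_two] at h1
    rw [show ζ * Q ((P : Mn) *ᵥ u) = ζ * (2 * Q ((P : Mn) *ᵥ u)) / 2 by field_simp]
    exact F₁.div_mem h1 (by rw [← one_add_one_eq_two]; exact F₁.add_mem F₁.one_mem F₁.one_mem)
  haveI : CharP F 2 := CharTwo.of_one_ne_zero_of_two_eq_zero one_ne_zero h2
  have hsqrt : ∀ a : F, a ^ 2 ∈ F₁ → a ∈ F₁ := fun a ha => by
    obtain ⟨φ, -, hfix⟩ := Asch.exists_frob F₁
    refine (hfix a).1 (sub_eq_zero.1 (pow_eq_zero_iff two_ne_zero |>.1 ?_))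
    have h1 : φ a ^ 2 = a ^ 2 := by rw [← map_pow]; exact (hfix _).2 ha
    linear_combination h1 + (a ^ 2 - φ a * a) * h2
  set Pv : (ι → F₁) → ι → F := fun y => (P : Mn) *ᵥ fun i => (y i : F) with hPv
  have hadd : ∀ y z, Pv (y + z) = Pv y + Pv z := fun y z => by
    rw [hPv, ← Matrix.mulVec_add]; rfl
  have hsmul : ∀ (a : F₁) y, Pv (a • y) = (a : F) • Pv y := fun a y => by
    rw [hPv, ← Matrix.mulVec_smul]; rfl
  have hPb : ∀ y z, ζ * B (Pv y) (Pv z) ∈ F₁ := fun y z => hbil _ _ (fun i => (y i).2) fun i => (z i).2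
  let U : Submodule F₁ (ι → F₁) :=
    { carrier := {y | ζ * Q (Pv y) ∈ F₁}
      add_mem' := fun {y z} hy hz => by
        show ζ * Q (Pv (y + z)) ∈ F₁
        rw [hadd, QuadraticMap.map_add ⇑Q, mul_add, mul_add]
        exact F₁.add_mem (F₁.add_mem hy hz) (hPb y z)
      zero_mem' := by simp [Pv, ← Pi.zero_def]
      smul_mem' := fun a y hy => by
        show ζ * Q (Pv (a • y)) ∈ F₁
        rw [hsmul, QuadraticMap.map_smul, smul_eq_mul, mul_left_comm]
        exact F₁.mul_mem (F₁.mul_mem a.2 a.2) hy }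
  suffices hU : U = ⊤ from (hU ▸ Submodule.mem_top : (fun i => (⟨u i, hu i⟩ : F₁)) ∈ U)
  have hstab : ∀ g ∈ H, ∀ y, ∃ z, (g : Mn) *ᵥ Pv y = Pv z := by
    intro g hg y
    obtain ⟨a, ha, hga⟩ := MaxTv.exists_of_mem_subfieldSubgroup (hle hg)
    have ha1 : a ∈ F₁ := by
      obtain ⟨i, l, hil⟩ : ∃ i l, B (Pv (Pi.single i 1)) (Pv (Pi.single l 1)) ≠ 0 := by
        by_contra hno
        push Not at hno
        refine (Asch.unit_ne_zero (refl_gQ hQ).unit : gQ Q ≠ 0) ?_
        have hz : ((P : Mn)ᵀ * (gQ Q * (P : Mn))) = 0 := by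
          ext i l
          have h1 := hno i l
          rw [hPv, ← form_eq, Asch.formOfGram_mulVec,
            show (P : Mn).map (RingEquiv.refl F) = (P : Mn) from Matrix.map_id _] at h1
          rw [show (fun k => ((Pi.single i (1 : F₁) : ι → F₁) k : F)) = Pi.single i 1 by
              funext k; by_cases hk : k = i <;> simp [hk],
            show (fun k => ((Pi.single l (1 : F₁) : ι → F₁) k : F)) = Pi.single l 1 by
              funext k; by_cases hk : k = l <;> simp [hk], Asch.formOfGram_single] at h1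
          exact h1
        rw [← mul_assoc] at hz
        have := congrArg (fun M => (((P⁻¹ : GL ι F) : Mn))ᵀ * M * ((P⁻¹ : GL ι F) : Mn)) hz
        simp only [mul_zero, zero_mul, ← mul_assoc, ← Matrix.transpose_mul, Units.mul_inv, Matrix.transpose_one,
          one_mul] at this
        rw [mul_assoc, Units.mul_inv, mul_one] at this
        exact this
      obtain ⟨zi, hzi⟩ := (hga _ (MaxTv.rat_of_coe _)).exists_coe
      obtain ⟨zl, hzl⟩ := (hga _ (MaxTv.rat_of_coe _)).exists_coe
      refine hsqrt a ?_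
      have h1 := hPb zi zl
      rw [show Pv zi = a • ((g : Mn) *ᵥ Pv (Pi.single i 1)) from hzi,
        show Pv zl = a • ((g : Mn) *ᵥ Pv (Pi.single l 1)) from hzl, QuadraticMap.polar_smul_left,
        QuadraticMap.polar_smul_right, polar_iso (iso_of_le hH hg), smul_eq_mul, smul_eq_mul] at h1
      have h4 := F₁.div_mem h1 (hPb (Pi.single i 1) (Pi.single l 1))
      rwa [show ζ * (a * (a * B (Pv (Pi.single i 1)) (Pv (Pi.single l 1)))) /
        (ζ * B (Pv (Pi.single i 1)) (Pv (Pi.single l 1))) = a ^ 2 by field_simp] at h4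
    obtain ⟨z, hz⟩ := (hga _ (MaxTv.rat_of_coe y)).exists_coe
    refine ⟨(⟨a, ha1⟩ : F₁)⁻¹ • z, ?_⟩
    rw [hsmul, show Pv z = a • ((g : Mn) *ᵥ Pv y) from hz]
    push_cast
    rw [inv_smul_smul₀ ha]
  have hinjP : Function.Injective Pv := fun y z hyz => by
    funext i
    have := congrFun (congrArg (((P⁻¹ : GL ι F) : Mn) *ᵥ ·) hyz) i
    simp only [hPv, Matrix.mulVec_mulVec, Units.inv_mul, Matrix.one_mulVec] at this
    exact Subtype.ext this
  let W : Submodule F (ι → F) := Submodule.span F (Pv '' (U : Set (ι → F₁)))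
  have hWinv : ∀ g ∈ H, ∀ v ∈ W, (g : Mn) *ᵥ v ∈ W := by
    intro g hg v hv
    suffices W ≤ W.comap (Matrix.toLin' (g : Mn)) by
      have h1 := this hv
      rwa [Submodule.mem_comap, Matrix.toLin'_apply] at h1
    refine Submodule.span_le.2 ?_
    rintro _ ⟨y, hy, rfl⟩
    obtain ⟨z, hz⟩ := hstab g hg y
    rw [SetLike.mem_coe, Submodule.mem_comap, Matrix.toLin'_apply, hz]
    refine Submodule.subset_span ⟨z, ?_, rfl⟩
    show ζ * Q (Pv z) ∈ F₁
    rw [← hz, iso_of_le hH hg]
    exact hy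
  rcases irr_iff.1 hirr W hWinv with hW | hW
  · exfalso
    have hUb : ∀ y ∈ U, y = 0 := fun y hy => hinjP (by
      have h1 : Pv y ∈ W := Submodule.subset_span ⟨y, hy, rfl⟩
      rw [hW, Submodule.mem_bot] at h1
      rw [h1]; simp [Pv, ← Pi.zero_def])
    obtain ⟨i⟩ : Nonempty ι := Fintype.card_pos_iff.1 (by omega)
    have hid : ∀ g ∈ H, ∀ y, (g : Mn) *ᵥ Pv y = Pv y := by
      intro g hg y
      obtain ⟨z, hz⟩ := hstab g hg y
      have hmem : z + y ∈ U := by
        show ζ * Q (Pv (z + y)) ∈ F₁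
        rw [hadd, QuadraticMap.map_add ⇑Q, ← hz, iso_of_le hH hg, hz, mul_add,
          show Q (Pv y) + Q (Pv y) = 0 by linear_combination Q (Pv y) * h2, mul_zero, zero_add]
        exact hPb z y
      rw [hz, show z = y by
        have h1 := eq_neg_of_add_eq_zero_left (hUb _ hmem)
        rw [h1]
        funext k
        exact Subtype.ext (by simp [neg_eq_iff_add_eq_zero, CharTwo.add_self_eq_zero])]
    rcases irr_iff.1 hirr (Submodule.span F {Pv (Pi.single i 1)}) (fun g hg v hv => by
        obtain ⟨c, rfl⟩ := Submodule.mem_span_singleton.1 hv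
        rw [Matrix.mulVec_smul, hid g hg]
        exact hv) with hb | hb
    · rw [Submodule.span_singleton_eq_bot] at hb
      have := congrFun (hinjP (show Pv (Pi.single i 1) = Pv 0 by rw [hb]; simp [Pv, ← Pi.zero_def])) i
      simp at this
    · have h4 := finrank_top F (ι → F)
      rw [← hb, Module.finrank_pi] at h4
      have h5 := finrank_span_le_card (R := F) ({Pv (Pi.single i 1)} : Set (ι → F))
      simp only [Set.toFinset_singleton, Finset.card_singleton] at h5
      omega
  · haveI : FiniteDimensional F₁ (ι → F₁) := inferInstance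
    refine Submodule.eq_top_of_finrank_eq (le_antisymm (Submodule.finrank_le U) ?_)
    let bU := Module.finBasis F₁ U
    have hspan : W ≤ Submodule.span F (Set.range fun k => Pv (bU k : ι → F₁)) := Submodule.span_le.2 (by
      rintro _ ⟨y, hy, rfl⟩
      have h1 := bU.sum_repr ⟨y, hy⟩
      have h4 : y = ∑ k, bU.repr ⟨y, hy⟩ k • (bU k : ι → F₁) := by
        have h5 := congrArg (fun w : U => (w : ι → F₁)) h1
        simp only [AddSubmonoidClass.coe_finset_sum, SetLike.val_smul] at h5
        exact h5.symm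
      have hsum : ∀ s : Finset (Fin (finrank F₁ U)), Pv (∑ k ∈ s, bU.repr ⟨y, hy⟩ k • (bU k : ι → F₁)) ∈
          Submodule.span F (Set.range fun k => Pv (bU k : ι → F₁)) := by
        intro s
        induction s using Finset.induction_on with
        | empty => simp [Pv, ← Pi.zero_def]
        | insert a s ha ih =>
          rw [Finset.sum_insert ha, hadd, hsmul]
          exact Submodule.add_mem _ (Submodule.smul_mem _ _ (Submodule.subset_span ⟨a, rfl⟩)) ih
      rw [SetLike.mem_coe, h4]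
      exact hsum Finset.univ)
    rw [hW] at hspan
    have h4 := Submodule.finrank_mono hspan
    rw [finrank_top, Module.finrank_pi] at h4
    rw [Module.finrank_pi]
    exact h4.trans ((finrank_range_le_card _).trans (by rw [Fintype.card_fin]))

end Cfsg.Agent.Classical.AschEven
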