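import Cfsg.Agent.Lib.Classical.AschEvenDecomp
import Cfsg.Agent.Lib.Classical.AschEvenRat
import Cfsg.Agent.Lib.Classical.AschOrth

/-!
Small fields: stabilisers of decompositions into planes or four dimensional spaces lie in stabilisers of
subspaces, frames, finer decompositions or subfield structures.
-/

set_option autoImplicit false
set_option linter.unusedSectionVars false
set_option linter.unusedFintypeInType false
set_option linter.unusedDecidableInType false
set_option quotPrecheck false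

namespace Cfsg.Agent.Classical.AschEven

open Matrix Module Cfsg.Geo
open Asch (Inv)

variable {F : Type*} [Field F] [Fintype F] {ι : Type} [Fintype ι] [DecidableEq ι] {Q : QuadraticForm F (ι → F)}

local notation "Mn" => Matrix ι ι F
local notation "B" => QuadraticMap.polar ⇑Q

/-- Orthogonal non-degenerate parts filling the dimension form a decomposition. -/
theorem mk_decomp {t k : ℕ} (ht : 2 ≤ t) (hk : 0 < k) {D : Fin t → Submodule F (ι → F)}
    (hd : ∀ i, finrank F (D i) = k) (hnd : ∀ i, IsNondegenerateOn B (D i))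
    (ho : ∀ i j, i ≠ j → AreOrthogonalFor B (D i) (D j)) (htk : t * k = Fintype.card ι) :
    IsNondegenerateMDecomposition B k D := by
  classical
  let L : (∀ i, D i) →ₗ[F] (ι → F) := ∑ i, (D i).subtype.comp (LinearMap.proj i)
  have hLx : ∀ x, L x = ∑ i, (x i : ι → F) := fun x => by simp [L]
  have hinj : Function.Injective L := by
    refine (injective_iff_map_eq_zero L).2 fun x hx => funext fun i => Subtype.ext ?_
    by_contra h0
    obtain ⟨-, y, hy, hxy⟩ := hnd i _ (x i).2 h0
    have h1 : B (L x) y = 0 := by rw [hx, ← QuadraticMap.polarBilin_apply_apply]; simp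
    rw [hLx, ← QuadraticMap.polarBilin_apply_apply, map_sum, LinearMap.sum_apply] at h1
    simp only [QuadraticMap.polarBilin_apply_apply] at h1
    rw [Finset.sum_eq_single i (fun j _ hji => ho j i hji _ (x j).2 y hy) (by simp)] at h1
    exact hxy h1
  have hsurj : Function.Surjective L := (LinearMap.injective_iff_surjective_of_finrank_eq_finrank (by
    rw [Module.finrank_pi_fintype, Module.finrank_pi]; simp [hd, htk])).1 hinj
  refine ⟨⟨ht, hk, hd, ?_, ?_⟩, hnd, ho⟩
  · intro i
    rw [Submodule.disjoint_def]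
    intro x hx hx'
    by_contra h0
    obtain ⟨-, y, hy, hxy⟩ := hnd i x hx h0
    have hle : (⨆ (j) (_ : j ≠ i), D j) ≤ LinearMap.ker ((QuadraticMap.polarBilin Q).flip y) :=
      iSup₂_le fun j hj z hz => LinearMap.mem_ker.2 (ho j i hj z hz y hy)
    exact hxy (hle hx')
  · refine eq_top_iff.2 fun v _ => ?_
    obtain ⟨x, rfl⟩ := hsurj v
    rw [hLx]
    exact Submodule.sum_mem _ fun i _ => Submodule.mem_iSup_of_mem i (x i).2

omit [Fintype F] in
theorem li_of_orth {κ : Type} [Fintype κ] {v : κ → ι → F} (hB : ∀ x, B (v x) (v x) ≠ 0)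
    (ho : ∀ x y, x ≠ y → B (v x) (v y) = 0) : LinearIndependent F v := by
  rw [Fintype.linearIndependent_iff]
  intro c hc p
  have h := congrArg (fun x => QuadraticMap.polarBilin Q (v p) x) hc
  simp only [map_sum, map_smul, map_zero, QuadraticMap.polarBilin_apply_apply] at h
  rw [Finset.sum_eq_single p (fun p' _ hp' => by rw [ho p p' (Ne.symm hp'), smul_zero]) (by simp), smul_eq_mul] at h
  exact (mul_eq_zero.1 h).resolve_right (hB p)

/-- An orthogonal basis of vectors of one norm gives a frame. -/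
theorem frame_of_units (h2 : (2 : F) ≠ 0) {t : ℕ} (ht : 2 ≤ t) (htn : t = Fintype.card ι) {s : F} (hs : s ≠ 0)
    {v : Fin t → ι → F} (hvQ : ∀ p, Q (v p) = s) (ho : ∀ p q, p ≠ q → B (v p) (v q) = 0) :
    ∃ D : Fin t → Submodule F (ι → F), IsOrthogonalMDecomposition (⇑Q) 1 D ∧
      ∀ g : GL ι F, (∀ p, ∃ (q : Fin t) (c : F), (g : Mn) *ᵥ v p = c • v q) → g ∈ decompositionStabilizer D := by
  classical
  have hv0 : ∀ p, v p ≠ 0 := fun p h => hs (by rw [← hvQ p, h, QuadraticMap.map_zero])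
  have hvB : ∀ p, B (v p) (v p) ≠ 0 := fun p => by rw [polar_two, hvQ]; exact mul_ne_zero h2 hs
  have hli := li_of_orth hvB ho
  refine ⟨fun p => Submodule.span F {v p}, ⟨mk_decomp ht one_pos (fun p => finrank_span_singleton (hv0 p))
    (fun p x hx hx0 => ?_) (fun p q hpq x hx y hy => ?_) (by rw [mul_one, htn]), fun p q => ?_⟩, fun g hg => ?_⟩
  · obtain ⟨c, rfl⟩ := Submodule.mem_span_singleton.1 hx
    have hc0 : c ≠ 0 := fun h => hx0 (by rw [h, zero_smul])
    refine ⟨⟨v p, Submodule.mem_span_singleton_self _, ?_⟩, v p, Submodule.mem_span_singleton_self _, ?_⟩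
    · rw [QuadraticMap.polar_smul_right, smul_eq_mul]; exact mul_ne_zero hc0 (hvB p)
    · rw [QuadraticMap.polar_smul_left, smul_eq_mul]; exact mul_ne_zero hc0 (hvB p)
  · obtain ⟨c, rfl⟩ := Submodule.mem_span_singleton.1 hx
    obtain ⟨c', rfl⟩ := Submodule.mem_span_singleton.1 hy
    rw [QuadraticMap.polar_smul_left, QuadraticMap.polar_smul_right, ho p q hpq, smul_zero, smul_zero]
  · refine ⟨(LinearEquiv.toSpanNonzeroSingleton F _ (v p) (hv0 p)).symm.trans
      (LinearEquiv.toSpanNonzeroSingleton F _ (v q) (hv0 q)), fun x => ?_⟩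
    obtain ⟨c, rfl⟩ := (LinearEquiv.toSpanNonzeroSingleton F _ (v p) (hv0 p)).surjective x
    rw [LinearEquiv.trans_apply, LinearEquiv.symm_apply_apply]
    show Q (c • v q) = Q (c • v p)
    rw [QuadraticMap.map_smul, QuadraticMap.map_smul, hvQ, hvQ]
  · choose π c hπ using hg
    have hc0 : ∀ p, c p ≠ 0 := fun p h => hv0 p (MaxTv.gl_mulVec_injective g (by
      show (g : Mn) *ᵥ v p = (g : Mn) *ᵥ 0
      rw [hπ p, h, zero_smul, Matrix.mulVec_zero]))
    have hinj : Function.Injective π := by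
      intro p q hpq
      by_contra hne
      have h1 : (c q) • v p + (-c p) • v q = 0 := MaxTv.gl_mulVec_injective g (by
        show (g : Mn) *ᵥ _ = (g : Mn) *ᵥ 0
        rw [Matrix.mulVec_add, Matrix.mulVec_smul, Matrix.mulVec_smul, hπ, hπ, hpq, Matrix.mulVec_zero]
        module)
      have h2' := congrArg (fun x => B (v p) x) h1
      simp only [QuadraticMap.polar_add_right, QuadraticMap.polar_smul_right, ho p q hne, smul_zero, add_zero,
        smul_eq_mul] at h2'
      rw [QuadraticMap.polar_zero_right] at h2'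
      exact mul_ne_zero (hc0 q) (hvB p) (by linear_combination h2')
    refine ⟨Equiv.ofBijective π (Finite.injective_iff_bijective.1 hinj), fun p => ?_⟩
    show (Submodule.span F {v p}).map _ = Submodule.span F {v (π p)}
    rw [Submodule.map_span, Set.image_singleton, Matrix.toLin'_apply, hπ,
      Submodule.span_singleton_smul_eq (IsUnit.mk0 _ (hc0 p))]

/-- A rationally spanned structure that is permuted gives a subfield group. -/
theorem points_subfield {v : ι → ι → F} (hli : LinearIndependent F v) (F₀ : Subfield F) :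
    ∃ P : GL ι F, (∀ u : ι → F, (P : Mn) *ᵥ u = ∑ x, u x • v x) ∧
      ∀ g : GL ι F, (∀ x, ∃ u : ι → F, (∀ y, u y ∈ F₀) ∧ (g : Mn) *ᵥ v x = ∑ y, u y • v y) →
        g ∈ subfieldSubgroup F₀ P := by
  classical
  let Pm : Mn := Matrix.of fun a x => v x a
  have hPm : ∀ u : ι → F, Pm *ᵥ u = ∑ x, u x • v x := fun u => by
    funext a
    simp [Pm, Matrix.mulVec, dotProduct, Finset.sum_apply, mul_comm]
  have hdet : Pm.det ≠ 0 := fun h => by
    obtain ⟨u, hu0, hu⟩ := Matrix.exists_mulVec_eq_zero_iff.2 h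
    rw [hPm] at hu
    exact hu0 (funext (Fintype.linearIndependent_iff.1 hli u hu))
  let P : GL ι F := Matrix.GeneralLinearGroup.mkOfDetNeZero Pm hdet
  have hP : ∀ u : ι → F, (P : Mn) *ᵥ u = ∑ x, u x • v x := hPm
  refine ⟨P, hP, fun g hg => Asch.mem_subfieldSubgroup_one F₀ P g fun a x => ?_⟩
  obtain ⟨u, hu, hgx⟩ := hg x
  have h1 : ((P⁻¹ * g * P : GL ι F) : Mn) *ᵥ Pi.single x 1 = u := by
    rw [Units.val_mul, Units.val_mul, ← Matrix.mulVec_mulVec, ← Matrix.mulVec_mulVec, hP (Pi.single x 1),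
      Finset.sum_eq_single x (fun y _ hy => by rw [Pi.single_eq_of_ne hy, zero_smul]) (by simp), Pi.single_eq_same,
      one_smul, hgx, ← hP u, Matrix.mulVec_mulVec, Units.inv_mul, Matrix.one_mulVec]
  rw [Matrix.mulVec_single_one] at h1
  rw [show ((P⁻¹ * g * P : GL ι F) : Mn) a x = u a from congrFun h1 a]
  exact hu a

/-- A frame over a field that is not prime lies in a subfield group. -/
theorem lines_subfield (hQ : (QuadraticMap.polarBilin Q).Nondegenerate) (h2 : (2 : F) ≠ 0)
    (hq : ¬ (Fintype.card F).Prime) {t : ℕ} {D : Fin t → Submodule F (ι → F)}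
    (hD : IsOrthogonalMDecomposition (⇑Q) 1 D) :
    ∃ (F₁ : Subfield F) (r : ℕ) (P : GL ι F) (ζ : F), r.Prime ∧ Fintype.card F = Nat.card F₁ ^ r ∧ ζ ≠ 0 ∧
      IsQuadFormRationalStructure (fun v => ζ * Q v) F₁ P ∧
      decompositionStabilizer D ⊓ isometryGroup F ⇑Q ≤ subfieldSubgroup F₁ P := by
  classical
  obtain ⟨p, hp⟩ := CharP.exists F
  haveI := hp
  obtain ⟨k, hpr, hk⟩ := FiniteField.card F p
  haveI : Fact p.Prime := ⟨hpr⟩
  have hne : (⊥ : Subfield F) ≠ ⊤ := by
    intro htop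
    apply hq
    have h1 := Subfield.card_bot (F := F) p
    rw [htop] at h1
    rw [← Nat.card_eq_fintype_card]
    rw [show Nat.card (⊤ : Subfield F) = Nat.card F from Nat.card_congr
      (Equiv.subtypeUnivEquiv fun x => Subfield.mem_top x)] at h1
    rwa [h1]
  obtain ⟨F₁, r, hr, -, hcard⟩ := Asch.exists_prime_index hne
  have hdec := hD.decomp.decomp
  have htn : t = Fintype.card ι := by
    have := MaxMon.decomp_card hdec
    rwa [mul_one] at this
  have hvec : ∀ i, ∃ v : ι → F, v ∈ D i ∧ ∀ w ∈ D i, ∃ c : F, w = c • v := fun i => by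
    obtain ⟨v, hv, hs⟩ := finrank_eq_one_iff'.1 (hdec.finrank_eq i)
    refine ⟨v.1, v.2, fun w hw => ?_⟩
    obtain ⟨c, hc⟩ := hs ⟨w, hw⟩
    exact ⟨c, (congrArg Subtype.val hc).symm⟩
  choose v hvD hvs using hvec
  haveI : NeZero t := ⟨by have := hdec.two_le; omega⟩
  have hv0 : ∀ i, v i ≠ 0 := fun i h0 => by
    have h1 : D i = ⊥ := by
      rw [eq_bot_iff]
      intro w hw
      obtain ⟨c, rfl⟩ := hvs i w hw
      simp [h0]
    have := hdec.finrank_eq i
    rw [h1, finrank_bot] at this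
    omega
  have hQv : ∀ i, Q (v i) ≠ 0 := fun i h0 => by
    obtain ⟨⟨x, hx, hne0⟩, -⟩ := hD.decomp.nondegenerate i (v i) (hvD i) (hv0 i)
    obtain ⟨c, rfl⟩ := hvs i x hx
    apply hne0
    rw [QuadraticMap.polar_smul_left, polar_two, h0, mul_zero, smul_zero]
  have hscale : ∀ i, ∃ c : F, c ≠ 0 ∧ Q (c • v i) = Q (v 0) := fun i => by
    obtain ⟨e, he⟩ := hD.isometric 0 i
    obtain ⟨c, hc⟩ := hvs i _ (e ⟨v 0, hvD 0⟩).2
    have h1 := he ⟨v 0, hvD 0⟩
    rw [hc] at h1
    exact ⟨c, fun h => hQv 0 (by rw [← h1, h]; simp), h1⟩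
  choose c hc0 hc using hscale
  let ε : ι ≃ Fin t := Fintype.equivFinOfCardEq htn.symm
  let w : ι → ι → F := fun y => c (ε y) • v (ε y)
  have hwo : ∀ x y, x ≠ y → B (w x) (w y) = 0 := fun x y hxy => by
    simp only [w, QuadraticMap.polar_smul_left, QuadraticMap.polar_smul_right,
      hD.decomp.orthogonal _ _ (fun h => hxy (ε.injective h)) _ (hvD _) _ (hvD _), smul_zero]
  have hwB : ∀ x, B (w x) (w x) ≠ 0 := fun x => by
    rw [polar_two, hc]; exact mul_ne_zero h2 (hQv 0)
  obtain ⟨P, hP, hmem⟩ := points_subfield (li_of_orth hwB hwo) F₁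
  refine ⟨F₁, r, P, (Q (v 0))⁻¹, hr, hcard, inv_ne_zero (hQv 0), fun u hu => ?_, fun g hg => hmem g fun x => ?_⟩
  · show (Q (v 0))⁻¹ * Q ((P : Mn) *ᵥ u) ∈ F₁
    rw [hP, quad_orth_sum w u hwo]
    simp only [w, hc]
    rw [← Finset.sum_mul, mul_comm _ (Q (v 0)), ← mul_assoc, inv_mul_cancel₀ (hQv 0), one_mul]
    exact F₁.sum_mem fun y _ => F₁.pow_mem (hu y) 2
  · obtain ⟨π, hπ⟩ := hg.1
    have h1 : (g : Mn) *ᵥ w x ∈ D (π (ε x)) := by
      rw [← hπ]; exact ⟨w x, (D _).smul_mem _ (hvD _), rfl⟩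
    obtain ⟨d, hd⟩ := hvs _ _ h1
    set y := ε.symm (π (ε x)) with hy
    have hd' : (g : Mn) *ᵥ w x = (d * (c (ε y))⁻¹) • w y := by
      simp only [w, smul_smul, mul_assoc, inv_mul_cancel₀ (hc0 (ε y)), mul_one]
      rw [hd, hy, Equiv.apply_symm_apply]
    set s := d * (c (ε y))⁻¹
    have hs : s = 1 ∨ s = -1 := by
      refine mul_self_eq_one_iff.1 (mul_right_cancel₀ (hQv 0) ?_)
      have h3 := (mem_isometryGroup.1 hg.2) (w x)
      rw [hd', QuadraticMap.map_smul, smul_eq_mul, hc, hc] at h3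
      rw [one_mul]
      exact h3
    refine ⟨Pi.single y s, fun z => ?_, ?_⟩
    · by_cases hz : z = y
      · subst hz
        rw [Pi.single_eq_same]
        rcases hs with h | h <;> rw [h]
        · exact F₁.one_mem
        · exact F₁.neg_mem F₁.one_mem
      · rw [Pi.single_eq_of_ne hz]; exact F₁.zero_mem
    · rw [hd', Finset.sum_eq_single y (fun z _ hz => by rw [Pi.single_eq_of_ne hz, zero_smul]) (by simp),
        Pi.single_eq_same]

section Planes

variable {t : ℕ} {D : Fin t → Submodule F (ι → F)} (hD : IsOrthogonalMDecomposition (⇑Q) 2 D)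
include hD

/-- Hyperbolic pairs of planes of plus type. -/
theorem plus_pairs (hp : ∀ i, IsPlusTypeOn (⇑Q) (D i)) :
    ∃ E F' : Fin t → ι → F, (∀ i, E i ∈ D i ∧ F' i ∈ D i) ∧
      (∀ i (a b : F), Q (a • E i + b • F' i) = a * b) ∧
      (∀ i, ∀ x ∈ D i, ∃ a b : F, x = a • E i + b • F' i) ∧
      (∀ i (a b : F), a • E i + b • F' i = 0 → a = 0 ∧ b = 0) := by
  classical
  have h : ∀ i, ∃ e : (Fin 1 ⊕ Fin 1 → F) ≃ₗ[F] D i, ∀ v, EvenType.res Q (D i) (e v) = qfPlus 1 F v := fun i => by
    rcases EvenType.exists_std (EvenType.nondeg_res_on (hD.decomp.nondegenerate i)) (m := 0)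
      (hD.decomp.decomp.finrank_eq i) with ⟨-, h⟩ | ⟨hn, -⟩
    · exact h
    · exact absurd ((EvenType.plus_res_iff (D i)).2 (hp i)) hn
  choose e he using h
  let z : F → F → Fin 1 ⊕ Fin 1 → F := fun a b => Sum.elim (fun _ => a) fun _ => b
  have hz : ∀ i a b, (e i (z a b) : ι → F) = a • (e i (z 1 0) : ι → F) + b • (e i (z 0 1) : ι → F) := fun i a b => by
    rw [← Submodule.coe_smul, ← Submodule.coe_smul, ← Submodule.coe_add, ← map_smul, ← map_smul, ← map_add]
    congr 2
    funext x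
    rcases x with x | x <;> simp [z]
  refine ⟨fun i => e i (z 1 0), fun i => e i (z 0 1), fun i => ⟨(e i _).2, (e i _).2⟩, fun i a b => ?_,
    fun i x hx => ?_, fun i a b hab => ?_⟩
  · rw [← hz, ← EvenType.res_apply, he, qfPlus_apply]
    simp [z, quadFormPlus]
  · obtain ⟨v, hv⟩ := (e i).surjective ⟨x, hx⟩
    refine ⟨v (Sum.inl 0), v (Sum.inr 0), ?_⟩
    rw [← hz, show z (v (Sum.inl 0)) (v (Sum.inr 0)) = v by
      funext y; rcases y with y | y <;> simp [z, Fin.eq_zero y], hv]
  · rw [← hz] at hab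
    have h1 : e i (z a b) = 0 := Subtype.ext hab
    rw [LinearEquiv.map_eq_zero_iff] at h1
    exact ⟨congrFun h1 (Sum.inl 0), congrFun h1 (Sum.inr 0)⟩

/-- Vectors of one part and a permutation of the parts. -/
theorem perm_parts {g : GL ι F} (hg : g ∈ decompositionStabilizer D) :
    ∃ σ : Equiv.Perm (Fin t), ∀ i, ∀ x ∈ D i, (g : Mn) *ᵥ x ∈ D (σ i) := by
  obtain ⟨σ, hσ⟩ := hg
  exact ⟨σ, fun i x hx => hσ i ▸ ⟨x, hx, Matrix.toLin'_apply _ _⟩⟩

/-- Over two elements plus planes have an invariant sum of their nonsingular vectors. -/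
theorem planes_two (hq : Fintype.card F = 2) (hp : ∀ i, IsPlusTypeOn (⇑Q) (D i)) :
    ∃ v : ι → F, v ≠ 0 ∧ Q v = (t : F) ∧
      decompositionStabilizer D ⊓ isometryGroup F ⇑Q ≤ subspaceStabilizer (Submodule.span F {v}) := by
  classical
  have h01 : ∀ a : F, a ≠ 0 → a = 1 := fun a ha => by
    have h1 := FiniteField.pow_card_sub_one_eq_one a ha
    rwa [hq, show 2 - 1 = 1 from rfl, pow_one] at h1
  obtain ⟨E, E', hE, hQE, hspan, hli⟩ := plus_pairs hD hp
  set s : Fin t → ι → F := fun i => E i + E' i with hs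
  have hsQ : ∀ i, Q (s i) = 1 := fun i => by
    have := hQE i 1 1
    rw [one_smul, one_smul, mul_one] at this
    exact this
  have hsD : ∀ i, s i ∈ D i := fun i => (D i).add_mem (hE i).1 (hE i).2
  have hso : ∀ i j, i ≠ j → B (s i) (s j) = 0 := fun i j h => hD.decomp.orthogonal i j h _ (hsD i) _ (hsD j)
  have hv := quad_orth_sum s (fun _ => (1 : F)) hso
  simp only [one_smul, one_pow, one_mul, hsQ, Finset.sum_const, Finset.card_univ, Fintype.card_fin, nsmul_one] at hv
  refine ⟨∑ i, s i, fun h0 => ?_, hv, fun g hg => ?_⟩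
  · obtain ⟨p, hfix, hkill, -, -⟩ := Asch.exists_proj hD.decomp.decomp
    have ht := hD.decomp.decomp.two_le
    let i₀ : Fin t := ⟨0, by omega⟩
    have h1 := congrArg (p i₀ *ᵥ ·) h0
    simp only [Matrix.mulVec_sum, Matrix.mulVec_zero] at h1
    rw [Finset.sum_eq_single i₀ (fun j _ hj => hkill i₀ j (Ne.symm hj) _ (hsD j)) (by simp), hfix _ _ (hsD _)] at h1
    have h3 := hsQ i₀
    rw [h1, QuadraticMap.map_zero] at h3
    exact zero_ne_one h3
  obtain ⟨σ, hσ⟩ := perm_parts hD hg.1
  have hgs : ∀ i, (g : Mn) *ᵥ s i = s (σ i) := fun i => by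
    obtain ⟨a, b, hab⟩ := hspan _ _ (hσ i _ (hsD i))
    have h1 := (mem_isometryGroup.1 hg.2) (s i)
    rw [hsQ, hab, hQE] at h1
    rw [hab, h01 a (left_ne_zero_of_mul (h1 ▸ one_ne_zero)), h01 b (right_ne_zero_of_mul (h1 ▸ one_ne_zero)),
      one_smul, one_smul]
  refine (MaxTv.mem_subspaceStabilizer_iff _ g).2 fun x hx => ?_
  obtain ⟨c, rfl⟩ := Submodule.mem_span_singleton.1 hx
  rw [Matrix.mulVec_smul, Matrix.mulVec_sum]
  simp only [hgs]
  rw [Equiv.sum_comp σ s]
  exact Submodule.smul_mem _ _ (Submodule.mem_span_singleton_self _)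

/-- Over three elements plus planes have an invariant non-degenerate subspace meeting each in a line. -/
theorem planes_three_plus (hq : Fintype.card F = 3) (hp : ∀ i, IsPlusTypeOn (⇑Q) (D i)) :
    ∃ U : Submodule F (ι → F), finrank F U = t ∧ IsNondegenerateOn B U ∧
      decompositionStabilizer D ⊓ isometryGroup F ⇑Q ≤ subspaceStabilizer U := by
  classical
  have hcast : ((3 : ℕ) : F) = 0 := hq ▸ FiniteField.cast_card_eq_zero F
  have h30 : (3 : F) = 0 := by exact_mod_cast hcast
  have h2 : (2 : F) ≠ 0 := fun h => one_ne_zero (α := F) (by linear_combination h30 - h)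
  obtain ⟨E, E', hE, hQE, hspan, hli⟩ := plus_pairs hD hp
  set s : Fin t → ι → F := fun i => E i + E' i with hs
  have hsQ : ∀ i, Q (s i) = 1 := fun i => by
    have := hQE i 1 1
    rw [one_smul, one_smul, mul_one] at this
    exact this
  have hsD : ∀ i, s i ∈ D i := fun i => (D i).add_mem (hE i).1 (hE i).2
  have hso : ∀ i j, i ≠ j → B (s i) (s j) = 0 := fun i j h => hD.decomp.orthogonal i j h _ (hsD i) _ (hsD j)
  have hsB : ∀ i, B (s i) (s i) ≠ 0 := fun i => by rw [polar_two, hsQ, mul_one]; exact h2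
  have hl := li_of_orth hsB hso
  refine ⟨Submodule.span F (Set.range s), by rw [finrank_span_eq_card hl, Fintype.card_fin], fun x hx hx0 => ?_,
    fun g hg => ?_⟩
  · obtain ⟨c, rfl⟩ := (Submodule.mem_span_range_iff_exists_fun F).1 hx
    obtain ⟨i, hi⟩ : ∃ i, c i ≠ 0 := by
      by_contra hno
      push Not at hno
      exact hx0 (by simp [hno])
    have hval : B (∑ j, c j • s j) (s i) = c i * B (s i) (s i) := by
      rw [← QuadraticMap.polarBilin_apply_apply, map_sum, LinearMap.sum_apply]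
      simp only [map_smul, LinearMap.smul_apply, smul_eq_mul, QuadraticMap.polarBilin_apply_apply]
      exact Finset.sum_eq_single i (fun j _ hj => by rw [hso j i hj, mul_zero]) (by simp)
    refine ⟨⟨s i, Submodule.subset_span ⟨i, rfl⟩, ?_⟩, s i, Submodule.subset_span ⟨i, rfl⟩, ?_⟩
    · rw [QuadraticMap.polar_comm, hval]; exact mul_ne_zero hi (hsB i)
    · rw [hval]; exact mul_ne_zero hi (hsB i)
  obtain ⟨σ, hσ⟩ := perm_parts hD hg.1
  refine (MaxTv.mem_subspaceStabilizer_iff _ g).2 fun x hx => ?_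
  obtain ⟨c, rfl⟩ := (Submodule.mem_span_range_iff_exists_fun F).1 hx
  rw [Matrix.mulVec_sum]
  refine Submodule.sum_mem _ fun i _ => ?_
  rw [Matrix.mulVec_smul]
  refine Submodule.smul_mem _ _ ?_
  obtain ⟨a, b, hab⟩ := hspan _ _ (hσ i _ (hsD i))
  have h1 := (mem_isometryGroup.1 hg.2) (s i)
  rw [hsQ, hab, hQE] at h1
  have ha : a ≠ 0 := left_ne_zero_of_mul (h1 ▸ one_ne_zero)
  have haa : a * a = 1 := by
    have h3 := FiniteField.pow_card_sub_one_eq_one a ha
    rw [hq] at h3
    linear_combination h3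
  rw [hab, show b = a by linear_combination a * h1 - b * haa, ← smul_add]
  exact Submodule.smul_mem _ _ (Submodule.subset_span ⟨σ i, rfl⟩)

/-- Over four elements plus planes carry a rational structure over two elements. -/
theorem planes_four (hQ : (QuadraticMap.polarBilin Q).Nondegenerate) (hq : Fintype.card F = 4)
    (hp : ∀ i, IsPlusTypeOn (⇑Q) (D i)) :
    ∃ (F₀ : Subfield F) (P : GL ι F), Fintype.card F = Nat.card F₀ ^ 2 ∧
      IsQuadFormRationalStructure (fun v => (1 : F) * Q v) F₀ P ∧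
      decompositionStabilizer D ⊓ isometryGroup F ⇑Q ≤ subfieldSubgroup F₀ P := by
  classical
  have hcast : ((4 : ℕ) : F) = 0 := hq ▸ FiniteField.cast_card_eq_zero F
  have h20 : (2 : F) = 0 := mul_self_eq_zero.1 (by
    have h40 : (4 : F) = 0 := by exact_mod_cast hcast
    linear_combination h40)
  haveI : CharP F 2 := CharTwo.of_one_ne_zero_of_two_eq_zero one_ne_zero h20
  haveI : Fact (Nat.Prime 2) := ⟨Nat.prime_two⟩
  have hcube : ∀ a : F, a ≠ 0 → a ^ 3 = 1 := fun a ha => by
    have h := FiniteField.pow_card_sub_one_eq_one a ha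
    rwa [hq] at h
  obtain ⟨w, -, hw⟩ := Finset.exists_mem_notMem_of_card_lt_card (s := ({0, 1} : Finset F))
    (t := Finset.univ) (by rw [Finset.card_univ, hq]; exact lt_of_le_of_lt Finset.card_le_two (by norm_num))
  simp only [Finset.mem_insert, Finset.mem_singleton, not_or] at hw
  obtain ⟨hw0, hw1⟩ := hw
  have hw2 : w * w + w + 1 = 0 := by
    refine (mul_eq_zero.1 (show (w - 1) * (w * w + w + 1) = 0 by linear_combination hcube w hw0)).resolve_left
      (sub_ne_zero.2 hw1)
  obtain ⟨E, E', hE, hQE, hspan, hli⟩ := plus_pairs hD hp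
  have htn := MaxMon.decomp_card hD.decomp.decomp
  let ε : ι ≃ Fin t × Fin 2 := (Fintype.equivFinOfCardEq htn.symm).trans finProdFinEquiv.symm
  let u : Fin 2 → F × F := ![(1, 1), (w, w * w)]
  let v : ι → ι → F := fun x => (u (ε x).2).1 • E (ε x).1 + (u (ε x).2).2 • E' (ε x).1
  have hvD : ∀ x, v x ∈ D (ε x).1 := fun x => (D _).add_mem ((D _).smul_mem _ (hE _).1) ((D _).smul_mem _ (hE _).2)
  obtain ⟨pr, hfix, hkill, -, -⟩ := Asch.exists_proj hD.decomp.decomp
  have hsum : ∀ (c : ι → F) i, pr i *ᵥ (∑ x, c x • v x) = c (ε.symm (i, 0)) • v (ε.symm (i, 0)) +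
      c (ε.symm (i, 1)) • v (ε.symm (i, 1)) := fun c i => by
    rw [← ε.symm.sum_comp, Matrix.mulVec_sum, Fintype.sum_prod_type, Finset.sum_eq_single i (fun j _ hj => ?_) (by simp),
      Fin.sum_univ_two]
    · simp only [Matrix.mulVec_smul]
      rw [hfix i _ (by simpa using hvD (ε.symm (i, 0))), hfix i _ (by simpa using hvD (ε.symm (i, 1)))]
    · refine Finset.sum_eq_zero fun l _ => ?_
      rw [Matrix.mulVec_smul, hkill i j (Ne.symm hj) _ (by simpa using hvD (ε.symm (j, l))), smul_zero]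
  have hv2 : ∀ (a b : F) i, a • v (ε.symm (i, 0)) + b • v (ε.symm (i, 1)) =
      (a + b * w) • E i + (a + b * (w * w)) • E' i := fun a b i => by
    simp only [v, Equiv.apply_symm_apply, u, Matrix.cons_val_zero, Matrix.cons_val_one]
    module
  have hlv : LinearIndependent F v := Fintype.linearIndependent_iff.2 fun c hc x => by
    have h1 := hsum c (ε x).1
    rw [hc, Matrix.mulVec_zero, hv2] at h1
    obtain ⟨e1, e2⟩ := hli _ _ _ h1.symm
    have hb : c (ε.symm ((ε x).1, 1)) = 0 := by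
      have h3 : c (ε.symm ((ε x).1, 1)) * (w * (w - 1)) = 0 := by linear_combination e2 - e1
      exact (mul_eq_zero.1 h3).resolve_right (mul_ne_zero hw0 (sub_ne_zero.2 hw1))
    have ha : c (ε.symm ((ε x).1, 0)) = 0 := by linear_combination e1 - w * hb
    have hx : x = ε.symm ((ε x).1, (ε x).2) := by simp
    rw [hx]
    generalize (ε x).2 = l
    fin_cases l <;> simp [ha, hb]
  obtain ⟨P, hP, hmem⟩ := points_subfield hlv (⊥ : Subfield F)
  refine ⟨⊥, P, by rw [hq, Subfield.card_bot (F := F) 2]; rfl, fun c hc => ?_, fun g hg => hmem g fun x => ?_⟩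
  · show 1 * Q ((P : Mn) *ᵥ c) ∈ (⊥ : Subfield F)
    rw [one_mul, hP]
    have hdec : (∑ x, c x • v x) = ∑ i, (pr i *ᵥ ∑ x, c x • v x) := by
      simp only [hsum]
      rw [← ε.symm.sum_comp, Fintype.sum_prod_type]
      simp [Fin.sum_univ_two]
    have h1 := quad_orth_sum (fun i => pr i *ᵥ ∑ x, c x • v x) (fun _ => (1 : F)) (fun i j hij => by
      rw [hsum, hsum]
      refine hD.decomp.orthogonal i j hij _ ?_ _ ?_ <;>
        exact Submodule.add_mem _ (Submodule.smul_mem _ _ (by simpa using hvD (ε.symm (_, 0))))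
          (Submodule.smul_mem _ _ (by simpa using hvD (ε.symm (_, 1)))))
    simp only [one_smul, one_pow, one_mul] at h1
    rw [hdec, h1]
    refine Subfield.sum_mem _ fun i _ => ?_
    rw [hsum, hv2, hQE]
    set a := c (ε.symm (i, 0))
    set b := c (ε.symm (i, 1))
    rw [show (a + b * w) * (a + b * (w * w)) = a * a + a * b + b * b by
      linear_combination (a * b + b * b * (w - 1)) * hw2 + (-(a * b)) * h20]
    exact Subfield.add_mem _ (Subfield.add_mem _ (Subfield.mul_mem _ (hc _) (hc _)) (Subfield.mul_mem _ (hc _) (hc _)))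
      (Subfield.mul_mem _ (hc _) (hc _))
  · obtain ⟨σ, hσ⟩ := perm_parts hD hg.1
    obtain ⟨a, b, hab⟩ := hspan _ _ (hσ _ _ (hvD x))
    have h1 := (mem_isometryGroup.1 hg.2) (v x)
    have hQv : Q (v x) = 1 := by
      show Q ((u (ε x).2).1 • E (ε x).1 + (u (ε x).2).2 • E' (ε x).1) = 1
      rw [hQE]
      generalize (ε x).2 = l
      fin_cases l <;> simp [u]
      linear_combination hcube w hw0
    rw [hab, hQE, hQv] at h1
    have ha : a ≠ 0 := left_ne_zero_of_mul (h1 ▸ one_ne_zero)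
    have hb : b = a * a := by linear_combination (a * a) * h1 - b * hcube a ha
    set i := σ (ε x).1
    have key : ∃ α β : F, (α = 0 ∨ α = 1) ∧ (β = 0 ∨ β = 1) ∧ a = α + β * w ∧ b = α + β * (w * w) := by
      have h3 : (a - 1) * (a - w) * (a - (w + 1)) = 0 := by
        linear_combination hcube a ha + (a - 1) * hw2 + (-(w + 1) * a ^ 2 + w * a + 1) * h20
      rcases mul_eq_zero.1 h3 with h4 | h4
      · rcases mul_eq_zero.1 h4 with h5 | h5
        · exact ⟨1, 0, Or.inr rfl, Or.inl rfl, by linear_combination h5, by rw [hb, sub_eq_zero.1 h5]; ring⟩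
        · exact ⟨0, 1, Or.inl rfl, Or.inr rfl, by linear_combination h5, by rw [hb, sub_eq_zero.1 h5]; ring⟩
      · exact ⟨1, 1, Or.inr rfl, Or.inr rfl, by linear_combination h4,
          by rw [hb, sub_eq_zero.1 h4]; linear_combination w * h20⟩
    obtain ⟨α, β, hα, hβ, rfl, rfl⟩ := key
    refine ⟨Pi.single (ε.symm (i, 0)) α + Pi.single (ε.symm (i, 1)) β, fun y => ?_, ?_⟩
    · have hz : ∀ z : F, (z = 0 ∨ z = 1) → ∀ y' : ι, (Pi.single y' z : ι → F) y ∈ (⊥ : Subfield F) :=
        fun z hz y' => by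
          by_cases hy : y = y'
          · subst hy
            rw [Pi.single_eq_same]
            rcases hz with rfl | rfl
            · exact Subfield.zero_mem _
            · exact Subfield.one_mem _
          · rw [Pi.single_eq_of_ne hy]; exact Subfield.zero_mem _
      exact Subfield.add_mem _ (hz α hα _) (hz β hβ _)
    · rw [hab, ← hv2]
      simp [add_smul, Finset.sum_add_distrib, Pi.single_apply, ite_smul]

/-- Over five elements plus planes carry a frame. -/
theorem planes_five (hq : Fintype.card F = 5) (hp : ∀ i, IsPlusTypeOn (⇑Q) (D i)) :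
    ∃ D' : Fin (t * 2) → Submodule F (ι → F), IsOrthogonalMDecomposition (⇑Q) 1 D' ∧
      decompositionStabilizer D ⊓ isometryGroup F ⇑Q ≤ decompositionStabilizer D' := by
  classical
  have hcast : ((5 : ℕ) : F) = 0 := hq ▸ FiniteField.cast_card_eq_zero F
  have h50 : (5 : F) = 0 := by exact_mod_cast hcast
  have h2 : (2 : F) ≠ 0 := fun h => one_ne_zero (α := F) (by linear_combination h50 - 2 * h)
  obtain ⟨E, E', hE, hQE, hspan, hli⟩ := plus_pairs hD hp
  have htn := MaxMon.decomp_card hD.decomp.decomp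
  let ε : Fin (t * 2) ≃ Fin t × Fin 2 := finProdFinEquiv.symm
  let u : Fin 2 → F × F := ![(1, 1), (2, 3)]
  let v : Fin (t * 2) → ι → F := fun p => (u (ε p).2).1 • E (ε p).1 + (u (ε p).2).2 • E' (ε p).1
  have hvD : ∀ p, v p ∈ D (ε p).1 := fun p => (D _).add_mem ((D _).smul_mem _ (hE _).1) ((D _).smul_mem _ (hE _).2)
  have hu : ∀ l, (u l).1 * (u l).2 = 1 := fun l => by
    fin_cases l <;> simp [u]
    linear_combination h50
  have hvQ : ∀ p, Q (v p) = 1 := fun p => by rw [hQE]; exact hu _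
  have ho : ∀ p q, p ≠ q → B (v p) (v q) = 0 := by
    intro p q hpq
    by_cases hi : (ε p).1 = (ε q).1
    · have hl : (ε p).2 ≠ (ε q).2 := fun h => hpq (ε.injective (Prod.ext hi h))
      have h0 : Q (v p + v q) = 2 := by
        simp only [v, hi]
        rw [show (u (ε p).2).1 • E (ε q).1 + (u (ε p).2).2 • E' (ε q).1 + ((u (ε q).2).1 • E (ε q).1 +
          (u (ε q).2).2 • E' (ε q).1) = ((u (ε p).2).1 + (u (ε q).2).1) • E (ε q).1 +
            ((u (ε p).2).2 + (u (ε q).2).2) • E' (ε q).1 by module, hQE]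
        revert hl
        generalize (ε p).2 = l
        generalize (ε q).2 = l'
        fin_cases l <;> fin_cases l' <;> simp [u] <;> linear_combination (2 : F) * h50
      rw [QuadraticMap.polar, h0, hvQ, hvQ]
      ring
    · exact hD.decomp.orthogonal _ _ hi _ (hvD p) _ (hvD q)
  obtain ⟨D', hD', hmem⟩ := frame_of_units h2 (by have := hD.decomp.decomp.two_le; omega) htn one_ne_zero hvQ ho
  refine ⟨D', hD', fun g hg => hmem g fun p => ?_⟩
  obtain ⟨σ, hσ⟩ := perm_parts hD hg.1
  obtain ⟨a, b, hab⟩ := hspan _ _ (hσ _ _ (hvD p))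
  have h1 := (mem_isometryGroup.1 hg.2) (v p)
  rw [hab, hQE, hvQ] at h1
  have ha : a ≠ 0 := left_ne_zero_of_mul (h1 ▸ one_ne_zero)
  have ha4 : a ^ 4 = 1 := by
    have := FiniteField.pow_card_sub_one_eq_one a ha
    rwa [hq] at this
  have h3 : (a * a - 1) * ((a - 2) * (a + 2)) = 0 := by linear_combination ha4 - (a * a - 1) * h50
  rcases mul_eq_zero.1 h3 with h4 | h4
  · refine ⟨ε.symm (σ (ε p).1, 0), a, ?_⟩
    rw [hab, show b = a by linear_combination a * h1 - b * h4]
    simp [v, u]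
  · rcases mul_eq_zero.1 h4 with h5 | h5
    · refine ⟨ε.symm (σ (ε p).1, 1), 1, ?_⟩
      obtain rfl : a = 2 := sub_eq_zero.1 h5
      rw [hab, show b = 3 by linear_combination (3 : F) * h1 - b * h50]
      simp [v, u]
    · refine ⟨ε.symm (σ (ε p).1, 1), -1, ?_⟩
      obtain rfl : a = -2 := eq_neg_of_add_eq_zero_left h5
      rw [hab, show b = -3 by linear_combination (-3 : F) * h1 - b * h50]
      simp [v, u]

/-- Over three elements minus planes carry a frame. -/
theorem planes_three_minus (hq : Fintype.card F = 3) (hp : ∀ i, ¬ IsPlusTypeOn (⇑Q) (D i)) :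
    ∃ D' : Fin (t * 2) → Submodule F (ι → F), IsOrthogonalMDecomposition (⇑Q) 1 D' ∧
      decompositionStabilizer D ⊓ isometryGroup F ⇑Q ≤ decompositionStabilizer D' := by
  classical
  have hcast : ((3 : ℕ) : F) = 0 := hq ▸ FiniteField.cast_card_eq_zero F
  have h30 : (3 : F) = 0 := by exact_mod_cast hcast
  have h2 : (2 : F) ≠ 0 := fun h => one_ne_zero (α := F) (by linear_combination h30 - h)
  have hsq : ∀ x : F, x = 0 ∨ x = 1 ∨ x = -1 := fun x => by
    rcases eq_or_ne x 0 with h | h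
    · exact Or.inl h
    · have h1 := FiniteField.pow_card_sub_one_eq_one x h
      rw [hq] at h1
      exact Or.inr (sq_eq_one_iff.1 h1)
  have h : ∀ i, ∃ u w : ι → F, u ∈ D i ∧ w ∈ D i ∧ (∀ a b : F, Q (a • u + b • w) = a * a + b * b) ∧
      ∀ x ∈ D i, ∃ a b : F, x = a • u + b • w := fun i => by
    rcases EvenType.exists_std (EvenType.nondeg_res_on (hD.decomp.nondegenerate i)) (m := 0)
      (hD.decomp.decomp.finrank_eq i) with ⟨hpl, -⟩ | ⟨-, ζ, e, hζ, he⟩
    · exact absurd ((EvenType.plus_res_iff (D i)).1 hpl) (hp i)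
    have hζ2 : ζ = -1 := by
      rcases hsq ζ with h | h | h
      · exact absurd (by rw [h]; ring) (hζ 0)
      · exact absurd (by rw [h]; linear_combination h30) (hζ 1)
      · exact h
    let z : F → F → (Fin 0 ⊕ Fin 0) ⊕ Fin 2 → F := fun a b => Sum.elim 0 ![a + b, b]
    have hz : ∀ a b, (e (z a b) : ι → F) = a • (e (z 1 0) : ι → F) + b • (e (z 0 1) : ι → F) := fun a b => by
      rw [← Submodule.coe_smul, ← Submodule.coe_smul, ← Submodule.coe_add, ← map_smul, ← map_smul, ← map_add]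
      congr 2
      funext x
      rcases x with x | x
      · rcases x with x | x <;> exact x.elim0
      · fin_cases x <;> simp [z]
    refine ⟨e (z 1 0), e (z 0 1), (e _).2, (e _).2, fun a b => ?_, fun x hx => ?_⟩
    · rw [← hz, ← EvenType.res_apply, he, qfMinus_apply, hζ2]
      simp [z, quadFormMinus]
      linear_combination (a * b) * h30
    · obtain ⟨v, hv⟩ := e.surjective ⟨x, hx⟩
      refine ⟨v (Sum.inr 0) - v (Sum.inr 1), v (Sum.inr 1), ?_⟩
      rw [← hz, show z (v (Sum.inr 0) - v (Sum.inr 1)) (v (Sum.inr 1)) = v by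
        funext y
        rcases y with y | y
        · rcases y with y | y <;> exact y.elim0
        · fin_cases y <;> simp [z], hv]
  choose U W hU hW hQU hspan using h
  have htn := MaxMon.decomp_card hD.decomp.decomp
  let ε : Fin (t * 2) ≃ Fin t × Fin 2 := finProdFinEquiv.symm
  let v : Fin (t * 2) → ι → F := fun p => ![U (ε p).1, W (ε p).1] (ε p).2
  have hvD : ∀ p, v p ∈ D (ε p).1 := fun p => by
    show ![U (ε p).1, W (ε p).1] (ε p).2 ∈ D (ε p).1
    generalize (ε p).2 = l
    fin_cases l <;> simp [hU, hW]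
  have hQ1 : ∀ i, Q (U i) = 1 ∧ Q (W i) = 1 ∧ B (U i) (W i) = 0 := fun i => by
    have e1 := hQU i 1 0
    have e2 := hQU i 0 1
    have e3 := hQU i 1 1
    simp only [one_smul, zero_smul, add_zero, zero_add, mul_one, mul_zero] at e1 e2 e3
    exact ⟨e1, e2, by rw [QuadraticMap.polar, e3, e1, e2]; ring⟩
  have hvQ : ∀ p, Q (v p) = 1 := fun p => by
    show Q (![U (ε p).1, W (ε p).1] (ε p).2) = 1
    generalize (ε p).2 = l
    fin_cases l <;> simp [(hQ1 _).1, (hQ1 _).2.1]
  have ho : ∀ p q, p ≠ q → B (v p) (v q) = 0 := by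
    intro p q hpq
    by_cases hi : (ε p).1 = (ε q).1
    · have hl : (ε p).2 ≠ (ε q).2 := fun h => hpq (ε.injective (Prod.ext hi h))
      show B (![U (ε p).1, W (ε p).1] (ε p).2) (![U (ε q).1, W (ε q).1] (ε q).2) = 0
      rw [hi]
      revert hl
      generalize (ε p).2 = l
      generalize (ε q).2 = l'
      fin_cases l <;> fin_cases l' <;> simp [(hQ1 _).2.2, QuadraticMap.polar_comm _ (W (ε q).1) (U (ε q).1)]
    · exact hD.decomp.orthogonal _ _ hi _ (hvD p) _ (hvD q)
  obtain ⟨D', hD', hmem⟩ := frame_of_units h2 (by have := hD.decomp.decomp.two_le; omega) htn one_ne_zero hvQ ho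
  refine ⟨D', hD', fun g hg => hmem g fun p => ?_⟩
  obtain ⟨σ, hσ⟩ := perm_parts hD hg.1
  obtain ⟨a, b, hab⟩ := hspan _ _ (hσ _ _ (hvD p))
  have h1 := (mem_isometryGroup.1 hg.2) (v p)
  rw [hab, hQU, hvQ] at h1
  rcases eq_or_ne a 0 with rfl | ha
  · exact ⟨ε.symm (σ (ε p).1, 1), b, by rw [hab]; simp [v]⟩
  · rcases eq_or_ne b 0 with rfl | hb
    · exact ⟨ε.symm (σ (ε p).1, 0), a, by rw [hab]; simp [v]⟩
    · exfalso
      have haa : a * a = 1 := by
        rcases hsq a with h | rfl | rfl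
        · exact absurd h ha
        · ring
        · ring
      have hbb : b * b = 1 := by
        rcases hsq b with h | rfl | rfl
        · exact absurd h hb
        · ring
        · ring
      exact one_ne_zero (α := F) (by linear_combination h1 - haa - hbb)

end Planes

/-- Over two elements four dimensional plus parts split into pairs of minus planes. -/
theorem fours_two (hq : Fintype.card F = 2) {t : ℕ} {D : Fin t → Submodule F (ι → F)}
    (hD : IsOrthogonalMDecomposition (⇑Q) 4 D) (hp : ∀ i, IsPlusTypeOn (⇑Q) (D i)) :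
    ∃ D' : Fin (t * 2) → Submodule F (ι → F), IsOrthogonalMDecomposition (⇑Q) 2 D' ∧
      (∀ p, ¬ IsPlusTypeOn (⇑Q) (D' p)) ∧
      decompositionStabilizer D ⊓ isometryGroup F ⇑Q ≤ decompositionStabilizer D' := by
  classical
  have hcast : ((2 : ℕ) : F) = 0 := hq ▸ FiniteField.cast_card_eq_zero F
  have h20 : (2 : F) = 0 := by exact_mod_cast hcast
  have h01 : ∀ a : F, a = 0 ∨ a = 1 := fun a => by
    rcases eq_or_ne a 0 with h | h
    · exact Or.inl h
    · have h1 := FiniteField.pow_card_sub_one_eq_one a h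
      rw [hq, show 2 - 1 = 1 from rfl, pow_one] at h1
      exact Or.inr h1
  have h : ∀ i, ∃ e : (Fin 2 ⊕ Fin 2 → F) ≃ₗ[F] D i, ∀ v, EvenType.res Q (D i) (e v) = qfPlus 2 F v := fun i => by
    rcases EvenType.exists_std (EvenType.nondeg_res_on (hD.decomp.nondegenerate i)) (m := 1)
      (hD.decomp.decomp.finrank_eq i) with ⟨-, h⟩ | ⟨hn, -⟩
    · exact h
    · exact absurd ((EvenType.plus_res_iff (D i)).2 (hp i)) hn
  choose e he using h
  have hQe : ∀ i z, Q (e i z : ι → F) = z (Sum.inl 0) * z (Sum.inr 0) + z (Sum.inl 1) * z (Sum.inr 1) := fun i z => by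
    rw [← EvenType.res_apply, he, qfPlus_apply]
    simp [quadFormPlus, Fin.sum_univ_two]
  let c : Fin 2 → Fin 2 → Fin 2 ⊕ Fin 2 → F :=
    ![![Sum.elim ![1, 0] ![1, 0], Sum.elim ![1, 1] ![0, 1]], ![Sum.elim ![0, 1] ![0, 1], Sum.elim ![1, 1] ![1, 0]]]
  let w : Fin t → Fin 2 → Fin 2 → ι → F := fun i l j => (e i (c l j) : ι → F)
  have hwD : ∀ i l j, w i l j ∈ D i := fun i l j => (e i _).2
  have hwQ : ∀ i l j, Q (w i l j) = 1 := fun i l j => by
    simp only [w, hQe]
    fin_cases l <;> fin_cases j <;> simp [c]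
  have hwB : ∀ i l, B (w i l 0) (w i l 1) = 1 := fun i l => by
    simp only [QuadraticMap.polar, w, ← Submodule.coe_add, ← map_add, hQe]
    fin_cases l <;> simp [c] <;> linear_combination h20
  have hwo : ∀ i l l', l ≠ l' → ∀ j j', B (w i l j) (w i l' j') = 0 := by
    intro i l l' hll j j'
    simp only [QuadraticMap.polar, w, ← Submodule.coe_add, ← map_add, hQe]
    revert hll
    fin_cases l <;> fin_cases l' <;> fin_cases j <;> fin_cases j' <;> simp [c] <;> linear_combination h20
  let ε : Fin (t * 2) ≃ Fin t × Fin 2 := finProdFinEquiv.symm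
  let A : Fin (t * 2) → Submodule F (ι → F) := fun p => Submodule.span F (Set.range (w (ε p).1 (ε p).2))
  have hAD : ∀ p, A p ≤ D (ε p).1 := fun p => Submodule.span_le.2 (by rintro _ ⟨j, rfl⟩; exact hwD _ _ _)
  have hval : ∀ i l (a b : F), B (a • w i l 0 + b • w i l 1) (w i l 0) = b ∧
      B (a • w i l 0 + b • w i l 1) (w i l 1) = a := fun i l a b => by
    simp only [QuadraticMap.polar_add_left, QuadraticMap.polar_smul_left, smul_eq_mul, polar_two, hwQ, hwB,
      QuadraticMap.polar_comm _ (w i l 1) (w i l 0)]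
    exact ⟨by linear_combination a * h20, by linear_combination b * h20⟩
  have hQab : ∀ i l (a b : F), Q (a • w i l 0 + b • w i l 1) = a * a + a * b + b * b := fun i l a b => by
    rw [QuadraticMap.map_add ⇑Q, QuadraticMap.map_smul, QuadraticMap.map_smul, hwQ, hwQ, QuadraticMap.polar_smul_left,
      QuadraticMap.polar_smul_right, hwB, smul_eq_mul, smul_eq_mul, smul_eq_mul, smul_eq_mul]
    ring
  have hmemA : ∀ i l x, x ∈ Submodule.span F (Set.range (w i l)) → ∃ a b : F, x = a • w i l 0 + b • w i l 1 :=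
    fun i l x hx => by
      obtain ⟨d, rfl⟩ := (Submodule.mem_span_range_iff_exists_fun F).1 hx
      exact ⟨d 0, d 1, Fin.sum_univ_two _⟩
  have hdimA : ∀ p, finrank F (A p) = 2 := fun p => by
    rw [finrank_span_eq_card, Fintype.card_fin]
    refine Fintype.linearIndependent_iff.2 fun d hd j => ?_
    rw [Fin.sum_univ_two] at hd
    obtain ⟨e1, e2⟩ := hval (ε p).1 (ε p).2 (d 0) (d 1)
    rw [hd] at e1 e2
    simp only [QuadraticMap.polar_zero_left] at e1 e2
    fin_cases j
    · exact e2.symm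
    · exact e1.symm
  have hndA : ∀ p, IsNondegenerateOn B (A p) := fun p x hx hx0 => by
    obtain ⟨a, b, rfl⟩ := hmemA _ _ x hx
    obtain ⟨e1, e2⟩ := hval (ε p).1 (ε p).2 a b
    by_cases ha : a = 0
    · have hb : b ≠ 0 := fun hb => hx0 (by rw [ha, hb]; simp)
      exact ⟨⟨_, Submodule.subset_span ⟨0, rfl⟩, by rw [QuadraticMap.polar_comm, e1]; exact hb⟩,
        _, Submodule.subset_span ⟨0, rfl⟩, by rw [e1]; exact hb⟩
    · exact ⟨⟨_, Submodule.subset_span ⟨1, rfl⟩, by rw [QuadraticMap.polar_comm, e2]; exact ha⟩,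
        _, Submodule.subset_span ⟨1, rfl⟩, by rw [e2]; exact ha⟩
  have hoA : ∀ p q, p ≠ q → AreOrthogonalFor B (A p) (A q) := by
    intro p q hpq x hx y hy
    by_cases hi : (ε p).1 = (ε q).1
    · have hl : (ε p).2 ≠ (ε q).2 := fun h => hpq (ε.injective (Prod.ext hi h))
      obtain ⟨a, b, rfl⟩ := hmemA _ _ x hx
      obtain ⟨a', b', rfl⟩ := hmemA _ _ y hy
      simp only [hi, QuadraticMap.polar_add_left, QuadraticMap.polar_add_right, QuadraticMap.polar_smul_left,
        QuadraticMap.polar_smul_right, hwo _ _ _ hl, smul_zero, add_zero]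
    · exact hD.decomp.orthogonal _ _ hi _ (hAD p hx) _ (hAD q hy)
  have hnp : ∀ p, ¬ IsPlusTypeOn (⇑Q) (A p) := fun p hpl => by
    obtain ⟨S, hS, hS0, hSd⟩ := hpl
    rw [hdimA] at hSd
    obtain ⟨x, hx, hx0⟩ := Submodule.exists_mem_ne_zero_of_ne_bot (p := S) fun h => by
      rw [h, finrank_bot] at hSd; omega
    obtain ⟨a, b, rfl⟩ := hmemA _ _ x (hS hx)
    have h1 := hS0 _ hx
    rw [hQab] at h1
    rcases h01 a with rfl | rfl <;> rcases h01 b with rfl | rfl
    · simp at hx0
    · simp at h1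
    · simp at h1
    · exact one_ne_zero (α := F) (by linear_combination h1 - h20)
  refine ⟨A, ⟨mk_decomp (by have := hD.decomp.decomp.two_le; omega) two_pos hdimA hndA hoA
    (by rw [mul_assoc]; exact MaxMon.decomp_card hD.decomp.decomp), fun p q => ?_⟩, hnp, fun g hg => ?_⟩
  · obtain ⟨φ, hφ⟩ := EvenType.iso_of_type (EvenType.nondeg_res_on (hndA p)) (EvenType.nondeg_res_on (hndA q))
      (m := 0) (hdimA p) (hdimA q)
      (iff_of_false (fun h => hnp p ((EvenType.plus_res_iff _).1 h)) (fun h => hnp q ((EvenType.plus_res_iff _).1 h)))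
    exact EvenType.isometric_of_res hφ
  obtain ⟨σ, hσ⟩ := hg.1
  have hgQ := mem_isometryGroup.1 hg.2
  have hone : ∀ i, ∀ x ∈ D i, Q x = 1 → ∃ l, x ∈ Submodule.span F (Set.range (w i l)) := by
    intro i x hx hQx
    obtain ⟨z, hz⟩ := (e i).surjective ⟨x, hx⟩
    obtain rfl : (e i z : ι → F) = x := congrArg Subtype.val hz
    rw [hQe] at hQx
    have hcomb : ∀ a b l, z = a • c l 0 + b • c l 1 → ∃ l', (e i z : ι → F) ∈ Submodule.span F (Set.range (w i l')) :=
      fun a b l hzl => ⟨l, (Submodule.mem_span_range_iff_exists_fun F).2 ⟨![a, b], by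
        rw [Fin.sum_univ_two, hzl, map_add, map_smul, map_smul]; rfl⟩⟩
    rcases h01 (z (Sum.inl 0)) with e1 | e1 <;> rcases h01 (z (Sum.inl 1)) with e2 | e2 <;>
      rcases h01 (z (Sum.inr 0)) with e3 | e3 <;> rcases h01 (z (Sum.inr 1)) with e4 | e4
    all_goals first
      | (exfalso; rw [e1, e2, e3, e4] at hQx; simp at hQx; done)
      | (exfalso; rw [e1, e2, e3, e4] at hQx; exact one_ne_zero (α := F) (by linear_combination h20 - hQx))
      | (refine hcomb 1 0 0 ?_; funext x; rcases x with x | x <;> fin_cases x <;> simp [c, e1, e2, e3, e4]; done)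
      | (refine hcomb 0 1 0 ?_; funext x; rcases x with x | x <;> fin_cases x <;> simp [c, e1, e2, e3, e4]; done)
      | (refine hcomb 1 1 0 ?_; funext x; rcases x with x | x <;> fin_cases x <;>
          simp [c, e1, e2, e3, e4] <;> (first | linear_combination h20 | linear_combination -h20))
      | (refine hcomb 1 0 1 ?_; funext x; rcases x with x | x <;> fin_cases x <;> simp [c, e1, e2, e3, e4]; done)
      | (refine hcomb 0 1 1 ?_; funext x; rcases x with x | x <;> fin_cases x <;> simp [c, e1, e2, e3, e4]; done)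
      | (refine hcomb 1 1 1 ?_; funext x; rcases x with x | x <;> fin_cases x <;>
          simp [c, e1, e2, e3, e4] <;> (first | linear_combination h20 | linear_combination -h20))
  have key : ∀ p, ∃ q, ∀ x ∈ A p, (g : Mn) *ᵥ x ∈ A q := by
    intro p
    have hi : ∀ j, (g : Mn) *ᵥ w (ε p).1 (ε p).2 j ∈ D (σ (ε p).1) := fun j =>
      hσ _ ▸ ⟨_, hwD _ _ _, Matrix.toLin'_apply _ _⟩
    obtain ⟨l₀, h0⟩ := hone _ _ (hi 0) ((hgQ _).trans (hwQ _ _ _))
    obtain ⟨l₁, h1⟩ := hone _ _ (hi 1) ((hgQ _).trans (hwQ _ _ _))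
    have hll : l₁ = l₀ := by
      by_contra hne
      obtain ⟨a, b, hab⟩ := hmemA _ _ _ h0
      obtain ⟨a', b', hab'⟩ := hmemA _ _ _ h1
      have hz : B ((g : Mn) *ᵥ w (ε p).1 (ε p).2 0) ((g : Mn) *ᵥ w (ε p).1 (ε p).2 1) = 0 := by
        rw [hab, hab']
        simp only [QuadraticMap.polar_add_left, QuadraticMap.polar_add_right, QuadraticMap.polar_smul_left,
          QuadraticMap.polar_smul_right, hwo _ _ _ (Ne.symm hne), smul_zero, add_zero]
      rw [polar_iso hgQ, hwB] at hz
      exact one_ne_zero hz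
    subst hll
    refine ⟨ε.symm (σ (ε p).1, l₁), fun x hx => ?_⟩
    obtain ⟨a, b, rfl⟩ := hmemA _ _ x hx
    rw [Matrix.mulVec_add, Matrix.mulVec_smul, Matrix.mulVec_smul]
    simp only [A, Equiv.apply_symm_apply]
    exact Submodule.add_mem _ (Submodule.smul_mem _ _ h0) (Submodule.smul_mem _ _ h1)
  choose τ hτ using key
  have hmap : ∀ p, (A p).map (Matrix.toLin' (g : Mn)) = A (τ p) := fun p => by
    refine Submodule.eq_of_le_of_finrank_eq ?_ ?_
    · rintro _ ⟨x, hx, rfl⟩
      rw [Matrix.toLin'_apply]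
      exact hτ p x hx
    · rw [hdimA, ← (Submodule.equivMapOfInjective (Matrix.toLin' (g : Mn))
        (fun x y hxy => MaxTv.gl_mulVec_injective g (by simpa using hxy)) (A p)).finrank_eq, hdimA]
  have hτinj : Function.Injective τ := by
    intro p q hpq
    by_contra hne
    have h1 : A p = A q := Submodule.map_injective_of_injective
      (f := Matrix.toLin' (g : Mn)) (fun x y hxy => MaxTv.gl_mulVec_injective g (by simpa using hxy))
      (by rw [hmap, hmap, hpq])
    obtain ⟨x, hx, hx0⟩ := Submodule.exists_mem_ne_zero_of_ne_bot (p := A p) fun h => by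
      have := hdimA p
      rw [h, finrank_bot] at this
      omega
    obtain ⟨-, y, hy, hxy⟩ := hndA p x hx hx0
    exact hxy (hoA p q hne x hx y (h1 ▸ hy))
  exact ⟨Equiv.ofBijective τ (Finite.injective_iff_bijective.1 hτinj), hmap⟩

end Cfsg.Agent.Classical.AschEven
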