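import Cfsg.Agent.Lib.Classical.MaxTransvection

/-!
Transvections written with a reflexive sesquilinear form; maximality of symplectic similitudes in `SL`.
-/

set_option autoImplicit false
set_option linter.unusedSectionVars false

namespace Cfsg.Agent.Classical.MaxTv

open Matrix Module

variable {F : Type*} [Field F] {ι : Type} [Fintype ι] [DecidableEq ι]

local notation "V" => (ι → F)
local notation "Mn" => Matrix ι ι F

/-- Linear in the first and `σ`-semilinear in the second argument, reflexive, non-degenerate. -/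
structure Sesq (σ : F ≃+* F) (f : V → V → F) : Prop where
  add_left : ∀ x y v, f (x + y) v = f x v + f y v
  smul_left : ∀ (c : F) (x v : V), f (c • x) v = c * f x v
  add_right : ∀ v x y, f v (x + y) = f v x + f v y
  smul_right : ∀ (c : F) (v x : V), f v (c • x) = σ c * f v x
  eq_zero : ∀ w, (∀ x, f x w = 0) → w = 0
  refl : ∀ v w, f v w = 0 → f w v = 0

variable {σ : F ≃+* F} {f : (ι → F) → (ι → F) → F}

namespace Sesq

variable (hs : Sesq σ f)
include hs

theorem zero_left (v : V) : f 0 v = 0 := by simpa using hs.smul_left 0 0 v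

theorem zero_right (v : V) : f v 0 = 0 := by simpa using hs.smul_right 0 v 0

theorem sub_left (x y v : V) : f (x - y) v = f x v - f y v := by
  rw [eq_sub_iff_add_eq, ← hs.add_left, sub_add_cancel]

theorem sub_right (v x y : V) : f v (x - y) = f v x - f v y := by
  rw [eq_sub_iff_add_eq, ← hs.add_right, sub_add_cancel]

theorem exists_left {v : V} (hv : v ≠ 0) : ∃ x, f x v ≠ 0 := by
  by_contra hc
  push Not at hc
  exact hv (hs.eq_zero v hc)

theorem exists_one {v : V} (hv : v ≠ 0) : ∃ x, f x v = 1 := by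
  obtain ⟨x, hx⟩ := hs.exists_left hv
  exact ⟨(f x v)⁻¹ • x, by rw [hs.smul_left, inv_mul_cancel₀ hx]⟩

/-- `x ↦ f x w` as a linear map. -/
def lin (w : V) : V →ₗ[F] F :=
  { toFun := fun x => f x w
    map_add' := fun x y => hs.add_left x y w
    map_smul' := fun c x => hs.smul_left c x w }

@[simp] theorem lin_apply (w x : V) : hs.lin w x = f x w := rfl

/-- Perpendicular to the kernel of `f · v` means proportional to `v`. -/
theorem eq_smul_of_ker {v w : V} (hv : v ≠ 0) (h : ∀ x, f x v = 0 → f x w = 0) : ∃ c : F, w = c • v := by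
  obtain ⟨x₀, hx₀⟩ := hs.exists_one hv
  refine ⟨σ.symm (f x₀ w), sub_eq_zero.1 (hs.eq_zero _ fun x => ?_)⟩
  have h1 := h (x - f x v • x₀) (by rw [hs.sub_left, hs.smul_left, hx₀, mul_one, sub_self])
  rw [hs.sub_left, hs.smul_left, sub_eq_zero] at h1
  rw [hs.sub_right, hs.smul_right, RingEquiv.apply_symm_apply, h1, mul_comm, sub_self]

end Sesq

/-- The functional `x ↦ f x w` as a row vector. -/
def fn (f : (ι → F) → (ι → F) → F) (w : ι → F) : ι → F := fun i => f (Pi.single i 1) w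

theorem fn_dot (hs : Sesq σ f) (w x : V) : fn f w ⬝ᵥ x = f x w := by
  show (∑ i, fn f w i * x i) = hs.lin w x
  conv_rhs => rw [← Finset.univ_sum_single x]
  rw [map_sum]
  refine Finset.sum_congr rfl fun i _ => ?_
  rw [show Pi.single i (x i) = x i • (Pi.single i (1 : F) : V) by rw [← Pi.single_smul, smul_eq_mul, mul_one],
    map_smul, smul_eq_mul, mul_comm]
  rfl

theorem fn_ext (hs : Sesq σ f) {φ w : V} (h : ∀ x, φ ⬝ᵥ x = f x w) : φ = fn f w :=
  dotProduct_eq _ _ fun x => (h x).trans (fn_dot hs w x).symm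

theorem fn_injective (hs : Sesq σ f) : Function.Injective (fn f) := fun a b h => by
  refine sub_eq_zero.1 (hs.eq_zero _ fun x => ?_)
  rw [hs.sub_right, ← fn_dot hs, ← fn_dot hs, h, sub_self]

theorem fn_surjective [Finite F] (hs : Sesq σ f) : Function.Surjective (fn f) :=
  Finite.injective_iff_surjective.1 (fn_injective hs)

theorem fn_add (hs : Sesq σ f) (a b : V) : fn f (a + b) = fn f a + fn f b :=
  funext fun i => hs.add_right _ a b

theorem fn_sub (hs : Sesq σ f) (a b : V) : fn f (a - b) = fn f a - fn f b :=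
  funext fun i => hs.sub_right _ a b

theorem fn_smul (hs : Sesq σ f) (c : F) (a : V) : fn f (c • a) = σ c • fn f a :=
  funext fun i => hs.smul_right c _ a

theorem fn_zero (hs : Sesq σ f) : fn f (0 : V) = 0 := funext fun i => hs.zero_right _

variable {M : Subgroup (GL ι F)} {v w w' : ι → F}

theorem InT.smul_left {φ : V} (h : InT M v φ) (c : F) (hc : c ≠ 0) : InT M (c • v) (c⁻¹ • φ) := by
  obtain ⟨g, hg, hgx⟩ := h
  exact ⟨g, hg, fun x => by rw [hgx, smul_dotProduct, smul_smul, smul_eq_mul]; congr 2; field_simp⟩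

theorem InT.fn_sub (hs : Sesq σ f) (h : InT M v (fn f w)) (h' : InT M v (fn f w')) (hw : f v w = 0)
    (hw' : f v w' = 0) : InT M v (fn f (w - w')) := by
  rw [MaxTv.fn_sub hs, sub_eq_add_neg]
  exact h.add_right (h'.neg (by rw [fn_dot hs, hw'])) (by rw [fn_dot hs, hw])

theorem InT.fn_conj (hs : Sesq σ f) (h : InT M v (fn f w)) {g : GL ι F} (hg : g ∈ M)
    (hgi : ∀ x y, f ((g : Mn) *ᵥ x) ((g : Mn) *ᵥ y) = f x y) :
    InT M ((g : Mn) *ᵥ v) (fn f ((g : Mn) *ᵥ w)) := by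
  have h1 := h.conj hg
  rwa [fn_ext hs (φ := fn f w ᵥ* ((g⁻¹ : GL ι F) : Mn)) (w := (g : Mn) *ᵥ w) (fun x => ?_)] at h1
  rw [← Matrix.dotProduct_mulVec, fn_dot hs, ← hgi, Matrix.mulVec_mulVec, ← Units.val_mul, mul_inv_cancel,
    Units.val_one, Matrix.one_mulVec]

/-- A transvection of an isotropic vector preserving the form. -/
theorem isometry_tv (hs : Sesq σ f) {c : F} (hv : f v v = 0)
    (hc : ∀ x y, c * f x v * f v y + σ (c * f y v) * f x v = 0) {g : GL ι F}
    (hg : ∀ x, (g : Mn) *ᵥ x = x + (c * f x v) • v) :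
    ∀ x y, f ((g : Mn) *ᵥ x) ((g : Mn) *ᵥ y) = f x y := by
  intro x y
  rw [hg, hg, hs.add_left, hs.add_right, hs.add_right, hs.smul_left, hs.smul_left, hs.smul_right, hs.smul_right, hv]
  linear_combination hc x y

theorem exists_isometry_tv (hs : Sesq σ f) {c : F} (hv : f v v = 0)
    (hc : ∀ x y, c * f x v * f v y + σ (c * f y v) * f x v = 0) :
    ∃ g : GL ι F, g ∈ Geo.similarityGroup f ⊓ Geo.specialLinear ι F ∧
      (∀ x y, f ((g : Mn) *ᵥ x) ((g : Mn) *ᵥ y) = f x y) ∧ ∀ x, (g : Mn) *ᵥ x = x + (c * f x v) • v := by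
  obtain ⟨g, hg⟩ := exists_tv (φ := c • fn f v) (v := v) (by rw [smul_dotProduct, fn_dot hs, hv, smul_zero])
  have hg' : ∀ x, (g : Mn) *ᵥ x = x + (c * f x v) • v := fun x => by
    rw [hg, smul_dotProduct, fn_dot hs, smul_eq_mul]
  have hi := isometry_tv hs hv hc hg'
  exact ⟨g, ⟨⟨1, fun x y => by rw [hi, Units.val_one, one_mul]⟩,
    det_tv hg (by rw [smul_dotProduct, fn_dot hs, hv, smul_zero])⟩, hi, hg'⟩

/-- A transvection whose two vectors are not proportional is not a similitude. -/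
theorem not_mem_similarity (hs : Sesq σ f) (hv : f v v = 0) (hvw : f v w = 0) (hv0 : v ≠ 0)
    (hw : ∀ c : F, w ≠ c • v) {g : GL ι F} (hg : ∀ x, (g : Mn) *ᵥ x = x + (f x w) • v) :
    g ∉ Geo.similarityGroup f := by
  rintro ⟨c, hc⟩
  have key : ∀ x y, (1 - (c : F)) * f x y + σ (f y w) * f x v + f x w * f v y = 0 := fun x y => by
    have := hc x y
    rw [hg, hg, hs.add_left, hs.add_right, hs.add_right, hs.smul_left, hs.smul_left, hs.smul_right,
      hs.smul_right, hv] at this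
    linear_combination this
  obtain ⟨y₀, hy₀⟩ := hs.exists_left hv0
  have hy₁ : f v y₀ ≠ 0 := fun e => hy₀ (hs.refl _ _ e)
  have hc1 : (1 : F) - c = 0 := by
    have := key v y₀
    rw [hv, hvw, mul_zero, add_zero, zero_mul, add_zero] at this
    exact (mul_eq_zero.1 this).resolve_right hy₁
  obtain ⟨x₀, hx₀⟩ := hs.exists_one hv0
  obtain ⟨d, hd⟩ := hs.eq_smul_of_ker hv0 (w := w) fun y hy => by
    have := key x₀ y
    rw [hc1, hx₀, hs.refl _ _ hy, zero_mul, mul_zero, add_zero, zero_add, mul_one] at this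
    exact σ.map_eq_zero_iff.1 this
  exact hw d hd

theorem exists_ker_notMem {S : Submodule F V} (φ : V →ₗ[F] F) (h : finrank F S + 1 < Fintype.card ι) :
    ∃ x, φ x = 0 ∧ x ∉ S := by
  by_contra hc
  push Not at hc
  have h1 : finrank F (LinearMap.ker φ) ≤ finrank F S := Submodule.finrank_mono fun x hx => hc x hx
  have h2 := φ.finrank_range_add_finrank_ker
  have h3 : finrank F (LinearMap.range φ) ≤ 1 :=
    (LinearMap.range φ).finrank_le.trans (Module.finrank_self F).le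
  rw [Module.finrank_pi] at h2
  omega

/-- Symplectic similitudes are maximal in `SL`. -/
theorem symplectic_similitude_maximal [Finite F] (hn : 3 ≤ Fintype.card ι) (hf : Geo.IsSymplecticForm f) :
    Geo.IsMaximalIn (Geo.specialLinear ι F) (Geo.similarityGroup f ⊓ Geo.specialLinear ι F) := by
  have hs : Sesq (RingEquiv.refl F) f := {
    add_left := hf.bilinear.add_left
    smul_left := hf.bilinear.smul_left
    add_right := hf.bilinear.add_right
    smul_right := fun c v x => by simpa using hf.bilinear.smul_right c v x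
    eq_zero := fun w hw => by
      by_contra h
      obtain ⟨⟨x, hx⟩, -⟩ := hf.nondegenerate w h
      exact hx (hw x)
    refl := fun v w h => by rw [hf.skew, h, neg_zero] }
  have htv : ∀ (v : V) (c : F), ∀ x y, c * f x v * f v y + (RingEquiv.refl F) (c * f y v) * f x v = 0 :=
    fun v c x y => by rw [RingEquiv.refl_apply, hf.skew y v]; ring
  have hex : ∀ u : V, ∃ z, f z u = 0 ∧ z ∉ (F ∙ u) := fun u => by
    obtain ⟨z, hz, hz'⟩ := exists_ker_notMem (S := F ∙ u) (hs.lin u)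
      (by have := finrank_span_le_card (R := F) ({u} : Set V); simp at this; omega)
    exact ⟨z, hz, hz'⟩
  refine isMaximalIn_intro inf_le_right (fun hle => ?_) fun M hHM hMK g hgM hgH => ?_
  · obtain ⟨v, hv0⟩ : ∃ v : V, v ≠ 0 := by
      obtain ⟨i⟩ : Nonempty ι := Fintype.card_pos_iff.1 (by omega)
      exact ⟨Pi.single i 1, by simp⟩
    obtain ⟨w, hw, hw'⟩ := hex v
    have hvw : f v w = 0 := hs.refl _ _ hw
    obtain ⟨g, hg⟩ := exists_tv (φ := fn f w) (v := v) (by rw [fn_dot hs, hvw])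
    exact not_mem_similarity hs (hf.alternating v) hvw hv0
      (fun c e => hw' (Submodule.mem_span_singleton.2 ⟨c, e.symm⟩))
      (fun x => by rw [hg, fn_dot hs]) (hle (det_tv hg (by rw [fn_dot hs, hvw]))).1
  have hgns : g ∉ Geo.similarityGroup f := fun h => hgH ⟨h, hMK hgM⟩
  -- symplectic transvections
  have hT : ∀ (u : V) (c : F), InT M u (fn f (c • u)) := fun u c => by
    obtain ⟨t, ht, -, htx⟩ := exists_isometry_tv hs (hf.alternating u) (htv u c)
    exact ⟨t, hHM ht, fun x => by rw [htx, fn_dot hs, hs.smul_right, RingEquiv.refl_apply]⟩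
  have hmove : ∀ a b : V, f a b ≠ 0 → ∃ t ∈ M, (∀ x y, f ((t : Mn) *ᵥ x) ((t : Mn) *ᵥ y) = f x y) ∧
      (t : Mn) *ᵥ a = b ∧ ∀ z, f z (b - a) = 0 → (t : Mn) *ᵥ z = z := fun a b hab => by
    obtain ⟨t, ht, hti, htx⟩ := exists_isometry_tv hs (hf.alternating (b - a)) (htv (b - a) (f a b)⁻¹)
    refine ⟨t, hHM ht, hti, ?_, fun z hz => by rw [htx, hz, mul_zero, zero_smul, add_zero]⟩
    rw [htx, hs.sub_right, hf.alternating, sub_zero, inv_mul_cancel₀ hab, one_smul, add_sub_cancel]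
  -- a transvection outside the symplectic group
  obtain ⟨v₀, w₀, hv₀, hvw₀, hne₀, h₀⟩ :
      ∃ v₀ w₀ : V, v₀ ≠ 0 ∧ f v₀ w₀ = 0 ∧ w₀ ∉ (F ∙ v₀) ∧ InT M v₀ (fn f w₀) := by
    by_contra hc
    push Not at hc
    have hmu : ∀ u : V, u ≠ 0 → ∃ μ : F, ∀ x, f ((g : Mn) *ᵥ x) ((g : Mn) *ᵥ u) = μ * f x u := fun u hu => by
      obtain ⟨w, hw⟩ := fn_surjective hs (fn f u ᵥ* ((g⁻¹ : GL ι F) : Mn))
      have hwx : ∀ x, f ((g : Mn) *ᵥ x) w = f x u := fun x => by
        rw [← fn_dot hs, hw, vecMul_inv_dot, fn_dot hs]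
      have h1 : InT M ((g : Mn) *ᵥ u) (fn f w) := by
        rw [hw]
        have := (hT u 1).conj hgM
        rwa [one_smul] at this
      have h2 : f ((g : Mn) *ᵥ u) w = 0 := by rw [hwx, hf.alternating]
      have hgu : (g : Mn) *ᵥ u ≠ 0 := fun h => hu (by
        simpa [Matrix.mulVec_mulVec, ← Units.val_mul] using congrArg (fun z => ((g⁻¹ : GL ι F) : Mn) *ᵥ z) h)
      obtain ⟨d, hd⟩ := Submodule.mem_span_singleton.1 (not_imp_not.1 (hc _ _ hgu h2) h1)
      obtain ⟨x, hx⟩ := hs.exists_left hu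
      have hd0 : d ≠ 0 := fun e => hx (by rw [← hwx, ← hd, e, zero_smul, hs.zero_right])
      refine ⟨d⁻¹, fun y => ?_⟩
      rw [← hwx y, ← hd, hs.smul_right, RingEquiv.refl_apply, inv_mul_cancel_left₀ hd0]
    choose μ hμ using hmu
    have heq : ∀ a b (ha : a ≠ 0) (hb : b ≠ 0), μ a ha = μ b hb := by
      have h1 : ∀ a b (ha : a ≠ 0) (hb : b ≠ 0), f a b ≠ 0 → μ a ha = μ b hb := fun a b ha hb hab => by
        have e1 := hμ b hb a
        have e2 := hμ a ha b
        rw [hf.skew ((g : Mn) *ᵥ b), e1, hf.skew b, mul_neg, neg_inj] at e2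
        exact (mul_right_cancel₀ hab e2).symm
      intro a b ha hb
      obtain ⟨x₁, hx₁⟩ := hs.exists_left ha
      obtain ⟨x₂, hx₂⟩ := hs.exists_left hb
      obtain ⟨x, -, hxa, hxb⟩ := exists_both (S := ⊤) (hs.lin a) (hs.lin b) ⟨x₁, trivial, hx₁⟩ ⟨x₂, trivial, hx₂⟩
      have hx : x ≠ 0 := fun e => hxa (by simp [e, hs.zero_left])
      rw [← h1 x a hx ha hxa, h1 x b hx hb hxb]
    obtain ⟨u₀, hu₀⟩ : ∃ u : V, u ≠ 0 := by
      obtain ⟨i⟩ : Nonempty ι := Fintype.card_pos_iff.1 (by omega)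
      exact ⟨Pi.single i 1, by simp⟩
    have hne : μ u₀ hu₀ ≠ 0 := fun e => by
      obtain ⟨x, hx⟩ := hs.exists_left (v := (g : Mn) *ᵥ u₀) fun h => hu₀ (by
        simpa [Matrix.mulVec_mulVec, ← Units.val_mul] using congrArg (fun z => ((g⁻¹ : GL ι F) : Mn) *ᵥ z) h)
      refine hx ?_
      have := hμ u₀ hu₀ (((g⁻¹ : GL ι F) : Mn) *ᵥ x)
      rwa [Matrix.mulVec_mulVec, ← Units.val_mul, mul_inv_cancel, Units.val_one, Matrix.one_mulVec, e, zero_mul] at this
    refine hgns ⟨Units.mk0 _ hne, fun x u => ?_⟩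
    rcases eq_or_ne u 0 with rfl | hu
    · simp [hs.zero_right]
    · rw [hμ u hu, heq u u₀ hu hu₀, Units.val_mk0]
  -- all functionals at `v₀`
  have hperp : ∀ w, f v₀ w = 0 → InT M v₀ (fn f w) := by
    have h1 : ∀ w, f v₀ w = 0 → f w₀ w ≠ 0 → InT M v₀ (fn f w) := fun w hw hww => by
      obtain ⟨t, ht, hti, htw, htz⟩ := hmove w₀ w hww
      have := h₀.fn_conj hs ht hti
      rwa [htw, htz v₀ (by rw [hs.sub_right, hw, hvw₀, sub_zero])] at this
    obtain ⟨w₁, hw₁, hw₁'⟩ : ∃ w₁, f v₀ w₁ = 0 ∧ f w₀ w₁ ≠ 0 := by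
      by_contra hc
      push Not at hc
      obtain ⟨c, hc'⟩ := hs.eq_smul_of_ker hv₀ (w := w₀) fun x hx => hs.refl _ _ (hc x (hs.refl _ _ hx))
      exact hne₀ (Submodule.mem_span_singleton.2 ⟨c, hc'.symm⟩)
    intro w hw
    by_cases hww : f w₀ w = 0
    · have := (h1 (w + w₁) (by rw [hs.add_right, hw, hw₁, add_zero])
        (by rw [hs.add_right, hww, zero_add]; exact hw₁')).fn_sub hs (h1 w₁ hw₁ hw₁')
        (by rw [hs.add_right, hw, hw₁, add_zero]) hw₁
      rwa [add_sub_cancel_right] at this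
    · exact h1 w hw hww
  refine specialLinear_le fun v φ hφ => ?_
  obtain ⟨w, rfl⟩ := fn_surjective hs φ
  rw [fn_dot hs] at hφ
  rcases eq_or_ne v 0 with rfl | hv
  · exact InT.zero_left _
  obtain ⟨h, hh, hhi, hhv⟩ : ∃ h ∈ M, (∀ x y, f ((h : Mn) *ᵥ x) ((h : Mn) *ᵥ y) = f x y) ∧ (h : Mn) *ᵥ v₀ = v := by
    by_cases h1 : f v₀ v = 0
    · obtain ⟨x₁, hx₁⟩ := hs.exists_left hv₀
      obtain ⟨x₂, hx₂⟩ := hs.exists_left hv
      obtain ⟨x, -, hxa, hxb⟩ := exists_both (S := ⊤) (hs.lin v₀) (hs.lin v) ⟨x₁, trivial, hx₁⟩ ⟨x₂, trivial, hx₂⟩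
      obtain ⟨s, hsM, hsi, hsv, -⟩ := hmove v₀ x fun e => hxa (hs.refl _ _ e)
      obtain ⟨t, htM, hti, htx, -⟩ := hmove x v hxb
      exact ⟨t * s, mul_mem htM hsM, fun a b => by
        rw [Units.val_mul, ← Matrix.mulVec_mulVec, ← Matrix.mulVec_mulVec, hti, hsi],
        by rw [Units.val_mul, ← Matrix.mulVec_mulVec, hsv, htx]⟩
    · obtain ⟨t, htM, hti, htx, -⟩ := hmove v₀ v h1
      exact ⟨t, htM, hti, htx⟩
  set w' := ((h⁻¹ : GL ι F) : Mn) *ᵥ w with hw'
  have hhw : (h : Mn) *ᵥ w' = w := by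
    rw [hw', Matrix.mulVec_mulVec, ← Units.val_mul, mul_inv_cancel, Units.val_one, Matrix.one_mulVec]
  have := (hperp w' (by rw [← hhi, hhv, hhw, hφ])).fn_conj hs hh hhi
  rwa [hhv, hhw] at this

end Cfsg.Agent.Classical.MaxTv
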