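import Cfsg.Agent.Lib.Classical.MaxOrthUnit
import Cfsg.Agent.Lib.Classical.MaxSesq

/-!
Stabilisers of pairs of complementary maximal totally singular subspaces are maximal in orthogonal groups, in
every characteristic.
-/

set_option autoImplicit false
set_option linter.unusedSectionVars false
set_option quotPrecheck false

namespace Cfsg.Agent.Classical.MaxTv

open Matrix Module OrthAut

variable {F : Type*} [Field F] {ι : Type} [Fintype ι] [DecidableEq ι] {Q : QuadraticForm F (ι → F)}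

local notation "V" => (ι → F)
local notation "Mn" => Matrix ι ι F
local notation "B" => QuadraticMap.polar ⇑Q

/-- An overgroup of the stabiliser of the singular pair `A`, `C`. -/
structure OPair (Q : QuadraticForm F (ι → F)) (M : Subgroup (GL ι F)) (A C : Submodule F (ι → F)) : Prop where
  nd : (QuadraticMap.polarBilin Q).Nondegenerate
  singA : ∀ a ∈ A, Q a = 0
  singC : ∀ c ∈ C, Q c = 0
  top : A ⊔ C = ⊤
  disj : A ⊓ C = ⊥
  dimA : 5 ≤ finrank F A
  dimC : 5 ≤ finrank F C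
  roots : ∀ a ∈ A, ∀ c ∈ C, QuadraticMap.polar ⇑Q a c = 0 → ∃ t ∈ M, (t : Matrix ι ι F) = eMat Q a c
  iso : ∀ k ∈ M, ∀ x, Q ((k : Matrix ι ι F) *ᵥ x) = Q x

/-- All Siegel elements at `a` are in `M`. -/
def Full (Q : QuadraticForm F (ι → F)) (M : Subgroup (GL ι F)) (a : ι → F) : Prop :=
  ∀ b, QuadraticMap.polar ⇑Q a b = 0 → ∃ t ∈ M, (t : Matrix ι ι F) = eMat Q a b

variable {M : Subgroup (GL ι F)} {A C : Submodule F (ι → F)}

theorem polar_zero_of_sing {S : Submodule F V} (hS : ∀ a ∈ S, Q a = 0) {x y : V} (hx : x ∈ S) (hy : y ∈ S) :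
    B x y = 0 := by
  rw [QuadraticMap.polar, hS _ (add_mem hx hy), hS x hx, hS y hy]; simp

theorem full_map (hiso : ∀ k ∈ M, ∀ x, Q ((k : Mn) *ᵥ x) = Q x) {a : V} (h : Full Q M a) {k : GL ι F}
    (hk : k ∈ M) : Full Q M ((k : Mn) *ᵥ a) := fun b hb => by
  obtain ⟨b₀, rfl⟩ : ∃ b₀, (k : Mn) *ᵥ b₀ = b := ⟨_, mulVec_inv_cancel k b⟩
  rw [isometry_polar (hiso k hk)] at hb
  obtain ⟨t, ht, htx⟩ := h b₀ hb
  refine ⟨k * t * k⁻¹, mul_mem (mul_mem hk ht) (inv_mem hk), Matrix.ext_iff_mulVec.2 fun y => ?_⟩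
  obtain ⟨z, rfl⟩ : ∃ z, (k : Mn) *ᵥ z = y := ⟨_, mulVec_inv_cancel k y⟩
  rw [Units.val_mul, Units.val_mul, ← Matrix.mulVec_mulVec, ← Matrix.mulVec_mulVec, inv_mulVec_cancel, htx,
    Matrix.mulVec_mulVec, isometry_eMat (hiso k hk), ← Matrix.mulVec_mulVec]

theorem full_zero : Full Q M 0 := fun b _ =>
  ⟨1, one_mem M, Matrix.ext_iff_mulVec.2 fun y => by simp [eMat_mulVec]⟩

theorem eMat_swap {a b : V} (ha : Q a = 0) (hb : Q b = 0) : eMat Q a (-b) = eMat Q b a :=
  Matrix.ext_iff_mulVec.2 fun y => by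
    simp only [eMat_mulVec, QuadraticMap.map_neg, ha, hb, QuadraticMap.polar_neg_left, zero_mul, zero_smul, sub_zero]
    module

namespace OPair

variable (hp : OPair Q M A C)
include hp

theorem symm : OPair Q M C A where
  nd := hp.nd
  singA := hp.singC
  singC := hp.singA
  top := by rw [sup_comm, hp.top]
  disj := by rw [inf_comm, hp.disj]
  dimA := hp.dimC
  dimC := hp.dimA
  iso := hp.iso
  roots c hc a ha h := by
    obtain ⟨t, ht, htx⟩ := hp.roots a ha (-c) (C.neg_mem hc)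
      (by rw [QuadraticMap.polar_neg_right, QuadraticMap.polar_comm, h, neg_zero])
    exact ⟨t, ht, by rw [htx, eMat_swap (hp.singA a ha) (hp.singC c hc)]⟩

/-- A partner in `C` separating `x` from a subspace of `A`. -/
theorem exists_sep {S : Submodule F V} (hS : S ≤ A) {x : V} (hx : x ∈ A) (hxS : x ∉ S) :
    ∃ c ∈ C, B c x = 1 ∧ ∀ y ∈ S, B c y = 0 := by
  obtain ⟨w, hw1, hw2⟩ := exists_bilin_eq_one (QuadraticMap.polarBilin Q) hp.nd S hxS
  obtain ⟨w₁, h₁, w₂, h₂, rfl⟩ := Submodule.mem_sup.1 (hp.top ▸ Submodule.mem_top : w ∈ A ⊔ C)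
  have e : ∀ y ∈ A, B w₂ y = B (w₁ + w₂) y := fun y hy => by
    rw [QuadraticMap.polar_add_left, polar_zero_of_sing hp.singA h₁ hy, zero_add]
  exact ⟨w₂, h₂, (e x hx).trans hw1, fun y hy => (e y (hS hy)).trans (hw2 y hy)⟩

theorem mem_span_pair_of {u c : V} (hu : u ∈ A) (hc : c ∈ A) (h : ∀ b ∈ C, B b u = 0 → B b c = 0) :
    c ∈ Submodule.span F {u} := by
  by_contra hcs
  obtain ⟨b, hb, hb1, hb2⟩ := hp.exists_sep
    ((Submodule.span_singleton_le_iff_mem _ _).2 hu) hc hcs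
  exact one_ne_zero (hb1.symm.trans (h b hb (hb2 u (Submodule.mem_span_singleton_self u))))

/-- The moves of the pair stabiliser. -/
theorem move {x : V} (hx : Q x = 0) {y : V} (hy : y ∈ CR (M := M) hx) {a c : V} (ha : a ∈ A) (hc : c ∈ C)
    (hac : B a c = 0) (hax : B a x = 0) (hcx : B c x = 0) :
    B a y • c - B c y • a ∈ CR (M := M) hx := by
  obtain ⟨k, hk, hkx⟩ := hp.roots a ha c hc hac
  have kx : ∀ z, (k : Mn) *ᵥ z = z + B a z • c - B c z • a := fun z => by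
    rw [hkx, eMat_mulVec, hp.singC c hc, zero_mul, zero_smul, sub_zero]
  have hfix : (k : Mn) *ᵥ x = x := by rw [kx, hax, hcx]; module
  have h3 : (k : Mn) *ᵥ y ∈ CR (M := M) hx := by
    refine ⟨?_, fun r => ?_⟩
    · have := hy.1
      rw [← isometry_polar (hp.iso k hk), hfix] at this
      exact this
    · obtain ⟨t, ht, htx⟩ := hy.2 r
      refine ⟨k * t * k⁻¹, mul_mem (mul_mem hk ht) (inv_mem hk), Matrix.ext_iff_mulVec.2 fun z => ?_⟩
      obtain ⟨z', rfl⟩ : ∃ z', (k : Mn) *ᵥ z' = z := ⟨_, mulVec_inv_cancel k z⟩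
      conv_rhs => rw [← hfix]
      rw [Units.val_mul, Units.val_mul, ← Matrix.mulVec_mulVec, ← Matrix.mulVec_mulVec, inv_mulVec_cancel, htx,
        Matrix.mulVec_mulVec, isometry_eMat (hp.iso k hk), ← Matrix.mulVec_mulVec, Matrix.mulVec_smul]
  have h4 := (CR (M := M) hx).sub_mem h3 hy
  rwa [kx, show y + B a y • c - B c y • a - y = B a y • c - B c y • a by abel] at h4

/-- One extra element at `a` gives all of them. -/
theorem upgrade {a : V} (ha : a ∈ A) {c : V} (hc : c ∈ CR (M := M) (hp.singA a ha))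
    (hcout : c ∉ Submodule.span F {a} ⊔ C) : Full Q M a := by
  set R := CR (M := M) (hp.singA a ha)
  have hCR : ∀ b ∈ C, B a b = 0 → b ∈ R := fun b hb hab => ⟨hab, fun r =>
    hp.roots a ha (r • b) (C.smul_mem r hb) (by rw [QuadraticMap.polar_smul_right, hab, smul_zero])⟩
  obtain ⟨c₁, h₁, c₂, h₂, rfl⟩ := Submodule.mem_sup.1 (hp.top ▸ Submodule.mem_top : c ∈ A ⊔ C)
  have hc₁ : c₁ ∉ Submodule.span F {a} := fun h => hcout (Submodule.add_mem_sup h h₂)
  have haR : ∀ a' ∈ A, a' ∉ Submodule.span F {a, c₁} → a' ∈ R := fun a' ha' hout => by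
    obtain ⟨b, hb, hb1, hb2⟩ := hp.exists_sep (S := Submodule.span F {a, a'}) (Submodule.span_le.2 (by
      rintro y (rfl | rfl) <;> assumption)) h₁ fun hmem => by
        obtain ⟨s, t, hst⟩ := Submodule.mem_span_pair.1 hmem
        by_cases ht : t = 0
        · exact hc₁ (Submodule.mem_span_singleton.2 ⟨s, by rw [← hst, ht, zero_smul, add_zero]⟩)
        · exact hout (Submodule.mem_span_pair.2 ⟨-(t⁻¹ * s), t⁻¹, by
            rw [← hst, smul_add, smul_smul, smul_smul, inv_mul_cancel₀ ht, one_smul]; module⟩)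
    have hba : B b a = 0 := hb2 a (Submodule.subset_span (by simp))
    have hba' : B b a' = 0 := hb2 a' (Submodule.subset_span (by simp))
    have h := hp.move (hp.singA a ha) hc ha' hb (by rw [QuadraticMap.polar_comm, hba'])
      (polar_zero_of_sing hp.singA ha' ha) hba
    rw [show B b (c₁ + c₂) = 1 by
      rw [QuadraticMap.polar_add_right, hb1, polar_zero_of_sing hp.singC hb h₂, add_zero], one_smul] at h
    have h5 := R.sub_mem (R.smul_mem (B a' (c₁ + c₂)) (hCR b hb (by rw [QuadraticMap.polar_comm, hba]))) h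
    rwa [sub_sub_cancel] at h5
  have hA : ∀ a' ∈ A, a' ∈ R := fun a' ha' => by
    by_cases hout : a' ∈ Submodule.span F {a, c₁}
    · obtain ⟨a'', ha'', hout''⟩ : ∃ a'' ∈ A, a'' ∉ Submodule.span F {a, c₁} := by
        by_contra hcon
        push Not at hcon
        have h3 := Submodule.finrank_mono (show A ≤ Submodule.span F {a, c₁} from hcon)
        have h4 := finrank_range_le_card (R := F) ![a, c₁]
        rw [Set.finrank, Matrix.range_cons_cons_empty, Fintype.card_fin] at h4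
        have := hp.dimA
        omega
      have h5 := R.sub_mem (haR (a' + a'') (A.add_mem ha' ha'') fun h => hout'' (by
        have := Submodule.sub_mem _ h hout
        rwa [add_sub_cancel_left] at this)) (haR a'' ha'' hout'')
      rwa [add_sub_cancel_right] at h5
    · exact haR a' ha' hout
  intro y hy
  obtain ⟨y₁, e₁, y₂, e₂, rfl⟩ := Submodule.mem_sup.1 (hp.top ▸ Submodule.mem_top : y ∈ A ⊔ C)
  rw [QuadraticMap.polar_add_right, polar_zero_of_sing hp.singA ha e₁, zero_add] at hy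
  obtain ⟨t, ht, htx⟩ := (R.add_mem (hA y₁ e₁) (hCR y₂ e₂ hy)).2 1
  exact ⟨t, ht, by rw [htx, one_smul]⟩

theorem full_side {a : V} (ha : a ∈ A) (ha0 : a ≠ 0) (h : Full Q M a) : ∀ y ∈ A, Full Q M y := by
  have key : ∀ y ∈ A, y ∉ Submodule.span F {a} → Full Q M y := fun y hy hya => by
    have hay : B a y = 0 := polar_zero_of_sing hp.singA ha hy
    refine hp.upgrade hy (c := a) ⟨by rw [QuadraticMap.polar_comm]; exact hay, fun r => ?_⟩ fun hmem => ?_
    · obtain ⟨t, ht, htx⟩ := h (-(r • y)) (by rw [QuadraticMap.polar_neg_right, QuadraticMap.polar_smul_right,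
        hay, smul_zero, neg_zero])
      refine ⟨t, ht, ?_⟩
      rw [htx, eMat_swap (hp.singA a ha) (hp.singA _ (A.smul_mem r hy)), eMat_smul_left]
    · obtain ⟨z, hz, w, hw, hzw⟩ := Submodule.mem_sup.1 hmem
      obtain ⟨r, rfl⟩ := Submodule.mem_span_singleton.1 hz
      have hw0 : w ∈ A ⊓ C := ⟨by rw [show w = a - r • y by rw [← hzw]; abel]; exact A.sub_mem ha (A.smul_mem r hy), hw⟩
      rw [hp.disj, Submodule.mem_bot] at hw0
      rw [hw0, add_zero] at hzw
      have hr : r ≠ 0 := fun hr => ha0 (by rw [← hzw, hr, zero_smul])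
      exact hya (Submodule.mem_span_singleton.2 ⟨r⁻¹, by rw [← hzw, smul_smul, inv_mul_cancel₀ hr, one_smul]⟩)
  intro y hy
  rcases eq_or_ne y 0 with rfl | hy0
  · exact full_zero
  by_cases hya : y ∈ Submodule.span F {a}
  · obtain ⟨r, rfl⟩ := Submodule.mem_span_singleton.1 hya
    intro b hb
    have hr : r ≠ 0 := fun hr => hy0 (by rw [hr, zero_smul])
    rw [QuadraticMap.polar_smul_left, smul_eq_mul, mul_eq_zero, or_iff_right hr] at hb
    obtain ⟨t, ht, htx⟩ := h (r • b) (by rw [QuadraticMap.polar_smul_right, hb, smul_zero])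
    exact ⟨t, ht, by rw [htx, eMat_smul_left]⟩
  · exact key y hy hya

/-- If `C(x)` pairs with `C ∩ x⊥` some vector of `A` is full. -/
theorem find {x : V} (hx : Q x = 0) {u : V} (hu : u ∈ A) (hu0 : u ≠ 0) (hxu : x - u ∈ C) {y b : V}
    (hy : y ∈ CR (M := M) hx) (hb : b ∈ C) (hbx : B b x = 0) (hby : B b y ≠ 0) :
    ∃ a ∈ A, a ≠ 0 ∧ Full Q M a := by
  set P := QuadraticMap.polarBilin Q with hP
  obtain ⟨a, ha, hau⟩ : ∃ a ∈ A ⊓ LinearMap.ker (P x) ⊓ LinearMap.ker (P b) ⊓ LinearMap.ker (P y),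
      a ∉ Submodule.span F {u} := by
    by_contra hcon
    push Not at hcon
    have h1 := Submodule.finrank_mono (show A ⊓ LinearMap.ker (P x) ⊓ LinearMap.ker (P b) ⊓ LinearMap.ker (P y) ≤
      Submodule.span F {u} from hcon)
    rw [finrank_span_singleton hu0] at h1
    have h2 := finrank_le_inf_ker_add_one A (P x)
    have h3 := finrank_le_inf_ker_add_one (A ⊓ LinearMap.ker (P x)) (P b)
    have h4 := finrank_le_inf_ker_add_one (A ⊓ LinearMap.ker (P x) ⊓ LinearMap.ker (P b)) (P y)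
    have := hp.dimA
    omega
  have haA : a ∈ A := ha.1.1.1
  have e1 : B x a = 0 := ha.1.1.2
  have e2 : B b a = 0 := ha.1.2
  have e3 : B y a = 0 := ha.2
  have h := hp.move hx hy haA hb (by rw [QuadraticMap.polar_comm, e2]) (by rw [QuadraticMap.polar_comm, e1]) hbx
  rw [QuadraticMap.polar_comm _ a y, e3, zero_smul, zero_sub, ← neg_smul] at h
  have hax := ((CR (M := M) hx).smul_mem_iff (neg_ne_zero.2 hby)).1 h
  have ha0 : a ≠ 0 := fun h => hau (h ▸ zero_mem _)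
  refine ⟨a, haA, ha0, hp.upgrade haA (c := x) ⟨by rw [QuadraticMap.polar_comm]; exact e1, fun r => ?_⟩ fun hmem => ?_⟩
  · obtain ⟨t, ht, htx⟩ := hax.2 (-r)
    refine ⟨t, ht, ?_⟩
    rw [htx, neg_smul, eMat_swap hx (hp.singA _ (A.smul_mem r haA)), eMat_smul_left]
  · obtain ⟨z, hz, w, hw, hzw⟩ := Submodule.mem_sup.1 hmem
    obtain ⟨r, rfl⟩ := Submodule.mem_span_singleton.1 hz
    have hw0 : r • a - u ∈ A ⊓ C := ⟨A.sub_mem (A.smul_mem r haA) hu, by
      rw [show r • a - u = (x - u) - w by rw [← hzw]; abel]; exact C.sub_mem hxu hw⟩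
    rw [hp.disj, Submodule.mem_bot, sub_eq_zero] at hw0
    have hr : r ≠ 0 := fun hr => hu0 (by rw [← hw0, hr, zero_smul])
    exact hau (Submodule.mem_span_singleton.2 ⟨r⁻¹, by rw [← hw0, smul_smul, inv_mul_cancel₀ hr, one_smul]⟩)

theorem exists_full {g : GL ι F} (hg : g ∈ M) {p : V} (hpA : p ∈ A) (hgA : (g : Mn) *ᵥ p ∉ A)
    (hgC : (g : Mn) *ᵥ p ∉ C) : ∃ a, a ≠ 0 ∧ (a ∈ A ∨ a ∈ C) ∧ Full Q M a := by
  obtain ⟨x, hxdef⟩ : ∃ x, x = (g : Mn) *ᵥ p := ⟨_, rfl⟩
  rw [← hxdef] at hgA hgC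
  have hx : Q x = 0 := by rw [hxdef, hp.iso g hg]; exact hp.singA p hpA
  obtain ⟨u, hu, v, hv, huv⟩ := Submodule.mem_sup.1 (hp.top ▸ Submodule.mem_top : x ∈ A ⊔ C)
  have hu0 : u ≠ 0 := fun h => hgC (by rw [← huv, h, zero_add]; exact hv)
  have hv0 : v ≠ 0 := fun h => hgA (by rw [← huv, h, add_zero]; exact hu)
  by_contra hcon
  push Not at hcon
  have hspan : ∀ y ∈ CR (M := M) hx, y ∈ Submodule.span F {u, v} := fun y hy => by
    obtain ⟨y₁, e₁, y₂, e₂, rfl⟩ := Submodule.mem_sup.1 (hp.top ▸ Submodule.mem_top : y ∈ A ⊔ C)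
    have f1 : y₁ ∈ Submodule.span F {u} := hp.mem_span_pair_of hu e₁ fun b hb hbu => by
      by_contra hne
      obtain ⟨a, ha, ha0, hfull⟩ := hp.find hx hu hu0 (by rw [← huv, add_sub_cancel_left]; exact hv) hy hb
        (by rw [← huv, QuadraticMap.polar_add_right, hbu, polar_zero_of_sing hp.singC hb hv, add_zero])
        (by rw [QuadraticMap.polar_add_right, polar_zero_of_sing hp.singC hb e₂, add_zero]; exact hne)
      exact hcon a ha0 (Or.inl ha) hfull
    have f2 : y₂ ∈ Submodule.span F {v} := hp.symm.mem_span_pair_of hv e₂ fun b hb hbv => by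
      by_contra hne
      obtain ⟨a, ha, ha0, hfull⟩ := hp.symm.find hx hv hv0 (by rw [← huv, add_sub_cancel_right]; exact hu) hy hb
        (by rw [← huv, QuadraticMap.polar_add_right, hbv, polar_zero_of_sing hp.singA hb hu, zero_add])
        (by rw [QuadraticMap.polar_add_right, polar_zero_of_sing hp.singA hb e₁, zero_add]; exact hne)
      exact hcon a ha0 (Or.inr ha) hfull
    obtain ⟨r, rfl⟩ := Submodule.mem_span_singleton.1 f1
    obtain ⟨r', rfl⟩ := Submodule.mem_span_singleton.1 f2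
    exact Submodule.mem_span_pair.2 ⟨r, r', rfl⟩
  set P := QuadraticMap.polarBilin Q with hP
  obtain ⟨gl, hgl⟩ : ∃ gl : V →ₗ[F] V, gl = Matrix.toLin' (g : Mn) := ⟨_, rfl⟩
  have hgla : ∀ z, gl z = (g : Mn) *ᵥ z := fun z => by rw [hgl, Matrix.toLin'_apply]
  have hX : (C ⊓ LinearMap.ker (P p)).map gl ≤ Submodule.span F {u, v} := by
    rintro _ ⟨b, ⟨hb, hbp⟩, rfl⟩
    refine hspan _ ⟨by rw [hgla, hxdef, isometry_polar (hp.iso g hg)]; exact hbp, fun r => ?_⟩
    obtain ⟨t, ht, htx⟩ := hp.roots p hpA (r • b) (C.smul_mem r hb)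
      (by rw [QuadraticMap.polar_smul_right, show B p b = 0 from hbp, smul_zero])
    refine ⟨g * t * g⁻¹, mul_mem (mul_mem hg ht) (inv_mem hg), Matrix.ext_iff_mulVec.2 fun z => ?_⟩
    obtain ⟨z', rfl⟩ : ∃ z', (g : Mn) *ᵥ z' = z := ⟨_, mulVec_inv_cancel g z⟩
    rw [hgla, hxdef, Units.val_mul, Units.val_mul, ← Matrix.mulVec_mulVec, ← Matrix.mulVec_mulVec, inv_mulVec_cancel,
      htx, Matrix.mulVec_mulVec, isometry_eMat (hp.iso g hg), ← Matrix.mulVec_mulVec, Matrix.mulVec_smul]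
  have hinj : Function.Injective gl := fun a b h => gl_mulVec_injective g (by simpa [hgla] using h)
  have h1 := Submodule.finrank_mono hX
  rw [(Submodule.equivMapOfInjective gl hinj _).finrank_eq.symm] at h1
  have h2 := finrank_le_inf_ker_add_one C (P p)
  have h3 := finrank_range_le_card (R := F) ![u, v]
  rw [Set.finrank, Matrix.range_cons_cons_empty, Fintype.card_fin] at h3
  have := hp.dimC
  omega

theorem full_all (hA : ∀ y ∈ A, Full Q M y) (hC : ∀ y ∈ C, Full Q M y) {x : V} (hx : Q x = 0) : Full Q M x := by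
  obtain ⟨u, hu, v, hv, rfl⟩ := Submodule.mem_sup.1 (hp.top ▸ Submodule.mem_top : x ∈ A ⊔ C)
  rcases eq_or_ne v 0 with rfl | hv0
  · rw [add_zero]; exact hA u hu
  have huv : B u v = 0 := by
    rw [quad_add, hp.singA u hu, hp.singC v hv, zero_add, zero_add] at hx; exact hx
  obtain ⟨a, ha, ha1, -⟩ := hp.symm.exists_sep (S := ⊥) bot_le hv (by simpa using hv0)
  obtain ⟨k, hk, hkx⟩ := hA a ha u (polar_zero_of_sing hp.singA ha hu)
  have := full_map hp.iso (hC v hv) hk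
  rwa [hkx, eMat_mulVec, hp.singA u hu, ha1, huv, one_smul, zero_smul, zero_mul, zero_smul, sub_zero, sub_zero,
    add_comm] at this

end OPair

/-- The pair stabiliser in `Ω` contains an element exchanging the two subspaces. -/
theorem exists_orth_swap {A C : Submodule F V} (hnd : (QuadraticMap.polarBilin Q).Nondegenerate)
    (hA : ∀ a ∈ A, Q a = 0) (hC : ∀ c ∈ C, Q c = 0) (htop : A ⊔ C = ⊤) {r : ℕ} (hdA : finrank F A = 2 * r)
    (hdC : finrank F C = 2 * r) {G : Subgroup (GL ι F)}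
    (hG : ∀ a b, Q a = 0 → Q b = 0 → B a b = 0 → ∃ t ∈ G, (t : Mn) = eMat Q a b) :
    ∃ J ∈ G, (∀ y ∈ A, (J : Mn) *ᵥ y ∈ C) ∧ ∀ y ∈ C, (J : Mn) *ᵥ y ∈ A := by
  classical
  let bA : Basis (Fin r ⊕ Fin r) F A := (Module.finBasisOfFinrankEq F A hdA).reindex
    ((finCongr (two_mul r)).trans finSumFinEquiv.symm)
  obtain ⟨Ev, hEv⟩ : ∃ Ev : C →ₗ[F] (Fin r ⊕ Fin r → F), ∀ b i, Ev b i = B (b : V) (bA i : V) :=
    ⟨LinearMap.pi fun i => ((QuadraticMap.polarBilin Q).flip (bA i : V)).comp C.subtype, fun b i => rfl⟩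
  have spanA : Submodule.span F (Set.range fun i => (bA i : V)) = A := by
    rw [show (fun i => (bA i : V)) = A.subtype ∘ bA from rfl, Set.range_comp, Submodule.span_image, bA.span_eq,
      Submodule.map_top, Submodule.range_subtype]
  have hinj : Function.Injective Ev := by
    refine LinearMap.ker_eq_bot.1 (LinearMap.ker_eq_bot'.2 fun b hb => Subtype.ext (hnd.1 _ fun z => ?_))
    obtain ⟨a, ha, b', hb', rfl⟩ := Submodule.mem_sup.1 (htop ▸ Submodule.mem_top : z ∈ A ⊔ C)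
    show B (b : V) (a + b') = 0
    rw [QuadraticMap.polar_add_right, polar_zero_of_sing hC b.2 hb', add_zero]
    rw [← spanA] at ha
    induction ha using Submodule.span_induction with
    | mem y hy => obtain ⟨i, rfl⟩ := hy; rw [← hEv, hb]; rfl
    | zero => simp
    | add y z _ _ h1 h2 => rw [QuadraticMap.polar_add_right, h1, h2, add_zero]
    | smul s y _ h1 => rw [QuadraticMap.polar_smul_right, h1, smul_zero]
  have hsurj : Function.Surjective Ev := (LinearMap.injective_iff_surjective_of_finrank_eq_finrank (by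
    rw [hdC, finrank_pi, Fintype.card_sum, Fintype.card_fin, two_mul])).1 hinj
  choose bC hbC using fun i => hsurj (Pi.single i 1)
  have hfe : ∀ i l, B (bC l : V) (bA i : V) = if i = l then 1 else 0 := fun i l => by
    rw [← hEv, hbC, Pi.single_apply]
  have hef : ∀ i l, B (bA i : V) (bC l : V) = if i = l then 1 else 0 := fun i l => by
    rw [QuadraticMap.polar_comm, hfe]
  have hee : ∀ i l, B (bA i : V) (bA l : V) = 0 := fun i l => polar_zero_of_sing hA (bA i).2 (bA l).2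
  have hff : ∀ i l, B (bC i : V) (bC l : V) = 0 := fun i l => polar_zero_of_sing hC (bC i).2 (bC l).2
  have spanC : C ≤ Submodule.span F (Set.range fun i => (bC i : V)) := fun y hy => by
    have e1 : ∑ i, B y (bA i : V) • bC i = (⟨y, hy⟩ : C) := hinj (by
      ext l
      rw [map_sum, Finset.sum_apply]
      simp only [map_smul, hbC, Pi.smul_apply, Pi.single_apply, smul_eq_mul, mul_ite, mul_one, mul_zero]
      rw [Finset.sum_ite_eq, hEv]
      simp)
    have e2 := congrArg C.subtype e1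
    simp only [map_sum, map_smul, Submodule.subtype_apply] at e2
    rw [← e2]
    exact Submodule.sum_mem _ fun i _ => Submodule.smul_mem _ _ (Submodule.subset_span ⟨i, rfl⟩)
  have swap1 : ∀ k : Fin r, ∃ w ∈ G,
      ((w : Mn) *ᵥ (bA (Sum.inl k) : V) = (bC (Sum.inr k) : V) ∧
        (w : Mn) *ᵥ (bC (Sum.inl k) : V) = (bA (Sum.inr k) : V) ∧
        (w : Mn) *ᵥ (bA (Sum.inr k) : V) = -(bC (Sum.inl k) : V) ∧
        (w : Mn) *ᵥ (bC (Sum.inr k) : V) = -(bA (Sum.inl k) : V)) ∧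
      ∀ z, B (bA (Sum.inl k) : V) z = 0 → B (bA (Sum.inr k) : V) z = 0 → B (bC (Sum.inl k) : V) z = 0 →
        B (bC (Sum.inr k) : V) z = 0 → (w : Mn) *ᵥ z = z := by
    intro k
    obtain ⟨t₁, h1, h1x⟩ := hG (bA (Sum.inl k) : V) (bA (Sum.inr k) : V) (hA _ (bA _).2) (hA _ (bA _).2) (hee _ _)
    obtain ⟨t₂, h2, h2x⟩ := hG (bC (Sum.inl k) : V) (bC (Sum.inr k) : V) (hC _ (bC _).2) (hC _ (bC _).2) (hff _ _)
    have q2 : Q (bA (Sum.inr k) : V) = 0 := hA _ (bA _).2
    have r2 : Q (bC (Sum.inr k) : V) = 0 := hC _ (bC _).2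
    have a1 : ∀ z, (t₁ : Mn) *ᵥ z =
        z + B (bA (Sum.inl k) : V) z • (bA (Sum.inr k) : V) - B (bA (Sum.inr k) : V) z • (bA (Sum.inl k) : V) :=
      fun z => by rw [h1x, eMat_mulVec, q2, zero_mul, zero_smul, sub_zero]
    have a2 : ∀ z, (t₂ : Mn) *ᵥ z =
        z + B (bC (Sum.inl k) : V) z • (bC (Sum.inr k) : V) - B (bC (Sum.inr k) : V) z • (bC (Sum.inl k) : V) :=
      fun z => by rw [h2x, eMat_mulVec, r2, zero_mul, zero_smul, sub_zero]
    have n12 : (Sum.inl k : Fin r ⊕ Fin r) ≠ Sum.inr k := Sum.inl_ne_inr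
    refine ⟨t₁ * t₂ * t₁, mul_mem (mul_mem h1 h2) h1, ⟨?_, ?_, ?_, ?_⟩, fun z z1 z2 z3 z4 => ?_⟩
    pick_goal 5
    · simp [Units.val_mul, ← Matrix.mulVec_mulVec, a1, a2, z1, z2, z3, z4]
    all_goals simp [Units.val_mul, ← Matrix.mulVec_mulVec, a1, a2, Matrix.mulVec_add, Matrix.mulVec_sub, hee, hff,
      hef, hfe, n12, n12.symm, QuadraticMap.polar_add_right, QuadraticMap.polar_sub_right,
      QuadraticMap.polar_neg_right, Matrix.mulVec_neg]
    all_goals abel
  have main : ∀ K : Finset (Fin r), ∃ J ∈ G, (∀ k ∈ K, ∀ i, (i = Sum.inl k ∨ i = Sum.inr k) →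
      (J : Mn) *ᵥ (bA i : V) ∈ C ∧ (J : Mn) *ᵥ (bC i : V) ∈ A) ∧
      (∀ k ∉ K, ∀ i, (i = Sum.inl k ∨ i = Sum.inr k) →
        (J : Mn) *ᵥ (bA i : V) = (bA i : V) ∧ (J : Mn) *ᵥ (bC i : V) = (bC i : V)) := by
    intro K
    induction K using Finset.induction_on with
    | empty => exact ⟨1, one_mem G, by simp, by simp⟩
    | @insert k K hk ih =>
      obtain ⟨J, hJ, hJ1, hJ2⟩ := ih
      obtain ⟨w, hw, ⟨w1, w2, w3, w4⟩, hwz⟩ := swap1 k
      have hfix : ∀ l, l ≠ k → ∀ i, (i = Sum.inl l ∨ i = Sum.inr l) →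
          (w : Mn) *ᵥ (bA i : V) = (bA i : V) ∧ (w : Mn) *ᵥ (bC i : V) = (bC i : V) := fun l hl i hi => by
        have n1 : Sum.inl k ≠ i ∧ Sum.inr k ≠ i := by
          rcases hi with rfl | rfl <;> simp [Ne.symm hl]
        exact ⟨hwz _ (hee _ _) (hee _ _) (by rw [hfe, if_neg n1.1.symm]) (by rw [hfe, if_neg n1.2.symm]),
          hwz _ (by rw [hef, if_neg n1.1]) (by rw [hef, if_neg n1.2]) (hff _ _) (hff _ _)⟩
      obtain ⟨jl, jl'⟩ := hJ2 k hk _ (Or.inl rfl)
      obtain ⟨jr, jr'⟩ := hJ2 k hk _ (Or.inr rfl)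
      refine ⟨J * w, mul_mem hJ hw, fun l hl i hi => ?_, fun l hl i hi => ?_⟩
      · rw [Units.val_mul, ← Matrix.mulVec_mulVec, ← Matrix.mulVec_mulVec]
        rcases Finset.mem_insert.1 hl with rfl | hl
        · rcases hi with rfl | rfl
          · rw [w1, w2, jr', jr]
            exact ⟨(bC _).2, (bA _).2⟩
          · rw [w3, w4, Matrix.mulVec_neg, Matrix.mulVec_neg, jl', jl]
            exact ⟨C.neg_mem (bC _).2, A.neg_mem (bA _).2⟩
        · rw [(hfix l (fun h => hk (h ▸ hl)) i hi).1, (hfix l (fun h => hk (h ▸ hl)) i hi).2]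
          exact hJ1 l hl i hi
      · rw [Finset.mem_insert] at hl
        push Not at hl
        rw [Units.val_mul, ← Matrix.mulVec_mulVec, ← Matrix.mulVec_mulVec, (hfix l hl.1 i hi).1,
          (hfix l hl.1 i hi).2]
        exact hJ2 l hl.2 i hi
  obtain ⟨J, hJ, hJ1, -⟩ := main Finset.univ
  have hspan : ∀ (T : Submodule F V) (b : Fin r ⊕ Fin r → V), (∀ i, (J : Mn) *ᵥ b i ∈ T) →
      ∀ y ∈ Submodule.span F (Set.range b), (J : Mn) *ᵥ y ∈ T := fun T b hb y hy => by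
    have h : Submodule.span F (Set.range b) ≤ T.comap (Matrix.toLin' (J : Mn)) :=
      Submodule.span_le.2 (by rintro _ ⟨i, rfl⟩; simpa using hb i)
    simpa using h hy
  have hj : ∀ i, (J : Mn) *ᵥ (bA i : V) ∈ C ∧ (J : Mn) *ᵥ (bC i : V) ∈ A := fun i => by
    rcases i with k | k
    · exact hJ1 k (Finset.mem_univ _) _ (Or.inl rfl)
    · exact hJ1 k (Finset.mem_univ _) _ (Or.inr rfl)
  exact ⟨J, hJ, fun y hy => hspan C (fun i => (bA i : V)) (fun i => (hj i).1) y (spanA.symm ▸ hy),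
    fun y hy => hspan A (fun i => (bC i : V)) (fun i => (hj i).2) y (spanC hy)⟩

/-- Stabilisers of singular pairs are maximal in `Ω`. -/
theorem orthogonal_pair_maximal [Fintype F] (Q₀ : (ι → F) → F) (hQ₀ : Geo.IsNondegenerateQuadraticForm Q₀)
    {k : ℕ} (hk : 5 ≤ k) (hke : Even k) (D : Fin 2 → Submodule F V) (hD : Geo.IsMDecomposition k D)
    (hts : ∀ i, Geo.IsTotallySingularQuad Q₀ (D i)) :
    Geo.IsMaximalIn (Geo.omegaGL Q₀) (Geo.decompositionStabilizer D ⊓ Geo.omegaGL Q₀) := by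
  classical
  obtain ⟨Qf, hQf⟩ : ∃ Qf : QuadraticForm F V, ⇑Qf = Q₀ :=
    ⟨QuadraticMap.ofPolar Q₀ (fun a x => by rw [hQ₀.smul, smul_eq_mul, sq])
      (fun x x' y => hQ₀.polar_bilinear.add_left x x' y) (fun a x y => hQ₀.polar_bilinear.smul_left a x y), rfl⟩
  subst hQf
  have hnd : (QuadraticMap.polarBilin Qf).Nondegenerate := by
    have key : ∀ u, (∀ v, QuadraticMap.polar ⇑Qf v u = 0) → u = 0 := fun u hu => by
      by_contra h0
      obtain ⟨x, hx⟩ := (hQ₀.nondegenerate u h0).1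
      exact hx (hu x)
    exact ⟨fun u hu => key u fun v => by rw [QuadraticMap.polar_comm]; exact hu v, fun u hu => key u hu⟩
  obtain ⟨pr, hpr⟩ := exists_proj hD.indep hD.iSup_eq_top
  have hdim : ∀ i l, finrank F (D i) = finrank F (D l) := fun i l => by rw [hD.finrank_eq, hD.finrank_eq]
  have hne : ∀ i, D i ≠ ⊥ := fun i h => by
    have := hD.finrank_eq i; rw [h, finrank_bot] at this; omega
  have htop : D 0 ⊔ D 1 = ⊤ := eq_top_iff.2 fun x _ => by
    rw [← hpr.sum x, Fin.sum_univ_two]; exact Submodule.add_mem_sup (hpr.mem 0 x) (hpr.mem 1 x)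
  have hdisj : D 0 ⊓ D 1 = ⊥ := (Submodule.eq_bot_iff _).2 fun x hx => by
    rw [← hpr.self 0 x hx.1, hpr.other 0 1 (by decide) x hx.2]
  have hT : Tri Qf := by
    have h3 : 3 ≤ finrank F (D 0) := by rw [hD.finrank_eq]; omega
    obtain ⟨b⟩ : Nonempty (Basis (Fin (finrank F (D 0))) F (D 0)) := ⟨Module.finBasis F (D 0)⟩
    let v : Fin 3 → V := fun i => (b (Fin.castLE h3 i) : V)
    have hv : LinearIndependent F v := (b.linearIndependent.comp _ (Fin.castLE_injective h3)).map'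
      (D 0).subtype (Submodule.ker_subtype _)
    have li : ∀ s t u : F, s • v 0 + t • v 1 + u • v 2 = 0 → s = 0 ∧ t = 0 ∧ u = 0 := fun s t u h => by
      have := Fintype.linearIndependent_iff.1 hv ![s, t, u] (by simpa [Fin.sum_univ_three] using h)
      exact ⟨this 0, this 1, this 2⟩
    have hmem : ∀ i, v i ∈ D 0 := fun i => (b _).2
    refine ⟨v 0, v 1, v 2, ⟨hts 0 _ (hmem 0), hts 0 _ (hmem 1), polar_zero_of_sing (hts 0) (hmem 0) (hmem 1),
      fun s t h => ?_⟩, hts 0 _ (hmem 2), polar_zero_of_sing (hts 0) (hmem 0) (hmem 2),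
      polar_zero_of_sing (hts 0) (hmem 1) (hmem 2), li⟩
    obtain ⟨h1, h2, -⟩ := li s t 0 (by rw [zero_smul, add_zero]; exact h)
    exact ⟨h1, h2⟩
  have inOm : ∀ {e w : V}, OK Qf e w → ∃ t ∈ Geo.omegaGL ⇑Qf, (t : Mn) = eMat Qf e w := fun {e w} h =>
    ⟨_, Subgroup.mem_map_of_mem _ (sR_le_omega hnd hT (eOG_mem hnd hT h)), eOG_val h⟩
  refine isMaximalIn_intro inf_le_right (fun hle => ?_) fun M hHM hMG g hgM hgH => ?_
  · obtain ⟨c, hc, hc0⟩ := Submodule.exists_mem_ne_zero_of_ne_bot (hne 1)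
    obtain ⟨z, hz⟩ : ∃ z, QuadraticMap.polar ⇑Qf z c ≠ 0 := by
      by_contra hcon
      push Not at hcon
      exact hc0 (hnd.2 c hcon)
    rw [← hpr.sum z, Fin.sum_univ_two, QuadraticMap.polar_add_left,
      polar_zero_of_sing (hts 1) (hpr.mem 1 z) hc, add_zero] at hz
    obtain ⟨a₁, ha₁, ha₁c, ha₁0⟩ : ∃ a ∈ D 0, QuadraticMap.polar ⇑Qf a c = 0 ∧ a ≠ 0 := by
      have h2 := finrank_le_inf_ker_add_one (D 0) ((QuadraticMap.polarBilin Qf).flip c)
      have h3 : 0 < finrank F (D 0 ⊓ LinearMap.ker ((QuadraticMap.polarBilin Qf).flip c) : Submodule F V) := by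
        rw [hD.finrank_eq] at h2; omega
      obtain ⟨a, ha, ha0⟩ := Submodule.exists_mem_ne_zero_of_ne_bot
        (fun h => by rw [h, finrank_bot] at h3; omega :
          (D 0 ⊓ LinearMap.ker ((QuadraticMap.polarBilin Qf).flip c) : Submodule F V) ≠ ⊥)
      exact ⟨a, ha.1, ha.2, ha0⟩
    obtain ⟨t, ht, htx⟩ := inOm (e := pr 0 z) (w := a₁)
      ⟨hts 0 _ (hpr.mem 0 z), polar_zero_of_sing (hts 0) (hpr.mem 0 z) ha₁⟩
    obtain ⟨π, hπ⟩ := (hle ht).1
    have h1 : (t : Mn) *ᵥ c ∈ D (π 1) := hπ 1 ▸ ⟨c, hc, Matrix.toLin'_apply _ _⟩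
    rw [htx, eMat_mulVec, ha₁c, hts 0 a₁ ha₁, zero_smul, sub_zero, zero_mul, zero_smul, sub_zero] at h1
    generalize π 1 = l at h1
    fin_cases l
    · have h2 := (D 0).sub_mem h1 ((D 0).smul_mem (QuadraticMap.polar (⇑Qf) (pr 0 z) c) ha₁)
      rw [add_sub_cancel_right] at h2
      have h3 : c ∈ D 0 ⊓ D 1 := ⟨h2, hc⟩
      rw [hdisj, Submodule.mem_bot] at h3
      exact hc0 h3
    · have h2 := (D 1).sub_mem h1 hc
      rw [add_sub_cancel_left] at h2
      have h3 : a₁ ∈ D 0 ⊓ D 1 := ⟨ha₁, ((D 1).smul_mem_iff hz).1 h2⟩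
      rw [hdisj, Submodule.mem_bot] at h3
      exact ha₁0 h3
  have hMi : ∀ k ∈ M, ∀ x, Qf ((k : Mn) *ᵥ x) = Qf x := fun k hkM => by
    obtain ⟨k', -, rfl⟩ := Subgroup.mem_map.1 (hMG hkM)
    exact mem_isometryGroup.1 k'.2
  have hp : OPair Qf M (D 0) (D 1) :=
    { nd := hnd
      singA := hts 0
      singC := hts 1
      top := htop
      disj := hdisj
      dimA := by rw [hD.finrank_eq]; omega
      dimC := by rw [hD.finrank_eq]; omega
      iso := hMi
      roots := fun a ha c hc hac => by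
        obtain ⟨t, ht, htx⟩ := inOm (e := a) (w := c) ⟨hts 0 a ha, hac⟩
        refine ⟨t, hHM ⟨hpr.mem_stabilizer hdim id (fun i y hy => ?_) hne, ht⟩, htx⟩
        rw [htx, eMat_mulVec, hts 1 c hc, zero_mul, zero_smul, sub_zero]
        fin_cases i
        · simp only [Fin.zero_eta, id_eq] at hy ⊢
          rw [polar_zero_of_sing (hts 0) ha hy, zero_smul, add_zero]
          exact sub_mem hy (Submodule.smul_mem _ _ ha)
        · simp only [Fin.mk_one, id_eq] at hy ⊢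
          rw [polar_zero_of_sing (hts 1) hc hy, zero_smul, sub_zero]
          exact add_mem hy (Submodule.smul_mem _ _ hc) }
  obtain ⟨a, ha0, ha, hfull⟩ : ∃ a, a ≠ 0 ∧ (a ∈ D 0 ∨ a ∈ D 1) ∧ Full Qf M a := by
    obtain ⟨l, p, hpm, i, i', hii, hi, hi'⟩ := hpr.exists_spread hdim hne fun h => hgH ⟨h, hMG hgM⟩
    have hnm : ∀ l, (g : Mn) *ᵥ p ∉ D l := fun l hl => by
      rcases eq_or_ne i l with rfl | hil
      · exact hi' (hpr.other i' i (Ne.symm hii) _ hl)
      · exact hi (hpr.other i l hil _ hl)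
    fin_cases l
    · exact hp.exists_full hgM hpm (hnm 0) (hnm 1)
    · obtain ⟨w, h0, h1, h2⟩ := hp.symm.exists_full hgM hpm (hnm 1) (hnm 0)
      exact ⟨w, h0, h1.symm, h2⟩
  obtain ⟨r, hr⟩ := hke
  obtain ⟨J, hJG, hJA, hJC⟩ := exists_orth_swap hnd (hts 0) (hts 1) htop (r := r)
    (by rw [hD.finrank_eq]; omega) (by rw [hD.finrank_eq]; omega) (G := Geo.omegaGL ⇑Qf)
    (fun a b ha hb hab => inOm ⟨ha, hab⟩)
  have hJM : J ∈ M := hHM ⟨hpr.mem_stabilizer hdim (Equiv.swap 0 1) (fun i y hy => by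
    fin_cases i
    · simpa using hJA y hy
    · simpa using hJC y hy) hne, hJG⟩
  have hj := full_map hMi hfull hJM
  have hj0 : (J : Mn) *ᵥ a ≠ 0 := fun h => ha0 (gl_mulVec_injective J (by simpa using h))
  have hall : ∀ x, Qf x = 0 → Full Qf M x := fun x hx => by
    rcases ha with ha | ha
    · exact hp.full_all (hp.full_side ha ha0 hfull) (hp.symm.full_side (hJA a ha) hj0 hj) hx
    · exact hp.full_all (hp.full_side (hJC a ha) hj0 hj) (hp.symm.full_side ha ha0 hfull) hx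
  exact omegaGL_le_of_roots hnd hT fun a b hab => hall a hab.1 b hab.2.2.1

end Cfsg.Agent.Classical.MaxTv
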