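import Cfsg.Agent.Lib.Classical.MaxSympWreath
import Cfsg.Agent.Lib.Classical.Witt

/-!
Stabilisers of totally singular and of non-degenerate subspaces are maximal in symplectic groups.
-/

set_option autoImplicit false
set_option linter.unusedSectionVars false

namespace Cfsg.Agent.Classical.MaxTv

open Matrix Module

variable {F : Type*} [Field F] {m : ℕ}

local notation "V" => (Fin m ⊕ Fin m → F)
local notation "Mn" => Matrix (Fin m ⊕ Fin m) (Fin m ⊕ Fin m) F
local notation "B" => sympForm m F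

theorem mem_subspaceStabilizer_iff {ι : Type} [Fintype ι] [DecidableEq ι] (W : Submodule F (ι → F))
    (g : GL ι F) : g ∈ Geo.subspaceStabilizer W ↔ ∀ x ∈ W, (g : Matrix ι ι F) *ᵥ x ∈ W := by
  refine ⟨fun h x hx => (h x).1 hx, fun h v => ⟨h v, fun hv => ?_⟩⟩
  have heq : W.map (Matrix.toLin' (g : Matrix ι ι F)) = W := by
    refine Submodule.eq_of_le_of_finrank_eq (fun y hy => ?_) ?_
    · obtain ⟨x, hx, rfl⟩ := hy
      rw [Matrix.toLin'_apply]; exact h x hx
    · exact (Submodule.equivMapOfInjective _ (fun a b hab => gl_mulVec_injective g (by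
        simpa [Matrix.toLin'_apply] using hab)) W).finrank_eq.symm
  obtain ⟨x, hx, hxv⟩ : (g : Matrix ι ι F) *ᵥ v ∈ W.map (Matrix.toLin' (g : Matrix ι ι F)) := heq.symm ▸ hv
  rw [Matrix.toLin'_apply] at hxv
  exact gl_mulVec_injective g hxv ▸ hx

theorem symp_finrank_ker {W : Submodule F (Fin m ⊕ Fin m → F)} (hW : Geo.IsNondegenerateOn (sympForm m F) W) :
    ∃ W' : Submodule F (Fin m ⊕ Fin m → F), IsCompl W W' ∧ (∀ x, x ∈ W' ↔ ∀ w ∈ W, sympForm m F x w = 0) := by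
  classical
  let W' : Submodule F V :=
    { carrier := {x | ∀ w ∈ W, B x w = 0}
      add_mem' := fun {x y} hx hy w hw => by rw [sympForm_add_left, hx w hw, hy w hw, add_zero]
      zero_mem' := fun w _ => sesq_sympForm.zero_left w
      smul_mem' := fun c x hx w hw => by rw [sympForm_smul_left, hx w hw, mul_zero] }
  refine ⟨W', ⟨disjoint_iff.2 ((Submodule.eq_bot_iff _).2 fun x hx => ?_), ?_⟩, fun x => Iff.rfl⟩
  · by_contra hne
    obtain ⟨-, y, hy, hy'⟩ := hW x hx.1 hne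
    exact hy' (hx.2 y hy)
  · let r : V →ₗ[F] Module.Dual F W :=
      { toFun := fun x => (sympB m F x).comp W.subtype
        map_add' := fun x y => by ext; simp
        map_smul' := fun c x => by ext; simp }
    have hinj : Function.Injective (r.comp W.subtype) := fun x y e => by
      by_contra hne
      obtain ⟨-, z, hz, hz'⟩ := hW (x - y : W) (x - y).2 (fun h => hne (sub_eq_zero.1 (Subtype.ext h)))
      refine hz' ?_
      have : sympB m F (x : V) z = sympB m F (y : V) z := LinearMap.congr_fun e ⟨z, hz⟩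
      rw [← sympB_apply, Submodule.coe_sub, map_sub, LinearMap.sub_apply, this, sub_self]
    have hsurj := (LinearMap.injective_iff_surjective_of_finrank_eq_finrank Subspace.dual_finrank_eq.symm).1 hinj
    refine codisjoint_iff.2 (eq_top_iff.2 fun x _ => Submodule.mem_sup.2 ?_)
    obtain ⟨w, hw⟩ := hsurj (r x)
    refine ⟨w, w.2, x - w, fun z hz => ?_, add_sub_cancel _ _⟩
    have : sympB m F (w : V) z = sympB m F x z := LinearMap.congr_fun hw ⟨z, hz⟩
    rw [sympForm_sub_left, ← sympB_apply, ← sympB_apply, this, sub_self]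

/-- Stabilisers of small non-degenerate subspaces are maximal in `Sp`. -/
theorem symplectic_nondeg_maximal (W : Submodule F (Fin m ⊕ Fin m → F)) (hW0 : W ≠ ⊥)
    (hW : Geo.IsNondegenerateOn (sympForm m F) W) (hdim : finrank F W < m) :
    Geo.IsMaximalIn (spGL m F) (Geo.subspaceStabilizer W ⊓ spGL m F) := by
  have hs : Sesq (RingEquiv.refl F) (sympForm m F) := sesq_sympForm
  obtain ⟨W', hc, hW'⟩ := symp_finrank_ker hW
  have hsum : finrank F W + finrank F W' = m + m := by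
    rw [Submodule.finrank_add_eq_of_isCompl hc, Module.finrank_pi, Fintype.card_sum, Fintype.card_fin]
  have hdec : ∀ v : V, ∃ x ∈ W, ∃ y ∈ W', x + y = v := fun v =>
    Submodule.mem_sup.1 (show v ∈ W ⊔ W' by rw [hc.sup_eq_top]; exact Submodule.mem_top)
  have hperp : ∀ x ∈ W, ∀ y ∈ W', B x y = 0 := fun x hx y hy => hs.refl _ _ ((hW' y).1 hy x hx)
  have hndW' : ∀ y ∈ W', y ≠ 0 → ∃ z ∈ W', B y z ≠ 0 := fun y hy hy0 => by
    obtain ⟨v, hv⟩ := exists_sympForm_eq_one hy0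
    obtain ⟨x, hx, z, hz, rfl⟩ := hdec v
    refine ⟨z, hz, ?_⟩
    rw [sympForm_add_right, (hW' y).1 hy x hx, zero_add] at hv
    rw [hv]; exact one_ne_zero
  have hT : ∀ v, v ∈ W ∨ v ∈ W' → ∀ g : GL (Fin m ⊕ Fin m) F, ∀ c : F,
      (∀ x, (g : Mn) *ᵥ x = x + (c * B x v) • v) → g ∈ Geo.subspaceStabilizer W := fun v hv g c hg =>
    (mem_subspaceStabilizer_iff W g).2 fun x hx => by
      rw [hg]
      rcases hv with hv | hv
      · exact add_mem hx (W.smul_mem _ hv)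
      · rw [hperp x hx v hv, mul_zero, zero_smul, add_zero]; exact hx
  obtain ⟨x₀, hx₀, hx₀0⟩ := Submodule.exists_mem_ne_zero_of_ne_bot hW0
  obtain ⟨y₀, hy₀, hy₀0⟩ := Submodule.exists_mem_ne_zero_of_ne_bot (p := W') fun e => by
    rw [e, finrank_bot] at hsum; omega
  refine isMaximalIn_intro inf_le_right (fun hle => ?_) fun M hHM hMK g hgM hgH => ?_
  · obtain ⟨⟨z, hz, hzx⟩, -⟩ := hW x₀ hx₀ hx₀0
    obtain ⟨g, hg, hgx⟩ := exists_sp_tv (x₀ + y₀) 1
    have h := (mem_subspaceStabilizer_iff W g).1 (hle hg).1 z hz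
    rw [hgx, one_mul, sympForm_add_right, hperp z hz y₀ hy₀, add_zero] at h
    have h1 : y₀ ∈ W := by
      have h2 := sub_mem ((W.smul_mem (B z x₀)⁻¹ (sub_mem h hz))) hx₀
      rwa [add_sub_cancel_left, smul_smul, inv_mul_cancel₀ hzx, one_smul, add_sub_cancel_left] at h2
    exact hy₀0 (Submodule.disjoint_def.1 hc.disjoint y₀ h1 hy₀)
  have hblock : ∀ v, v ∈ W ∨ v ∈ W' → Pt M v := fun v hv c => by
    obtain ⟨T, hTs, hTx⟩ := exists_sp_tv v c
    exact ⟨T, hHM ⟨hT v hv T c hTx, hTs⟩, fun x => by rw [hTx, fn_dot hs, sympForm_smul_right]⟩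
  have hgs := mem_spGL.1 (hMK hgM)
  obtain ⟨x₁, hx₁, y₁, hy₁, hx₁0, hy₁0, hP⟩ :
      ∃ x₁ ∈ W, ∃ y₁ ∈ W', x₁ ≠ 0 ∧ y₁ ≠ 0 ∧ Pt M (x₁ + y₁) := by
    by_contra hc'
    push Not at hc'
    have hone : ∀ v, v ∈ W ∨ v ∈ W' → (g : Mn) *ᵥ v ∈ W ∨ (g : Mn) *ᵥ v ∈ W' := fun v hv => by
      obtain ⟨x, hx, y, hy, hxy⟩ := hdec ((g : Mn) *ᵥ v)
      by_cases h1 : x = 0
      · rw [h1, zero_add] at hxy; exact Or.inr (hxy ▸ hy)
      by_cases h2 : y = 0
      · rw [h2, add_zero] at hxy; exact Or.inl (hxy ▸ hx)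
      exact absurd (hxy.symm ▸ (hblock v hv).map hgM (hMK hgM)) (hc' x hx y hy h1 h2)
    let L := Matrix.toLin' (g : Mn)
    have hsub : ∀ U : Submodule F V, (∀ v ∈ U, v ∈ W ∨ v ∈ W') → U.map L ≤ W ∨ U.map L ≤ W' := fun U hU => by
      by_contra hh
      push Not at hh
      obtain ⟨a, ha, ha'⟩ := SetLike.not_le_iff_exists.1 hh.1
      obtain ⟨b, hb, hb'⟩ := SetLike.not_le_iff_exists.1 hh.2
      obtain ⟨u, hu, rfl⟩ := ha
      obtain ⟨w, hw, rfl⟩ := hb
      simp only [L, Matrix.toLin'_apply] at ha' hb'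
      have h1 := (hone u (hU u hu)).resolve_left ha'
      have h2 := (hone w (hU w hw)).resolve_right hb'
      rcases hone (u + w) (hU _ (add_mem hu hw)) with h3 | h3 <;> rw [Matrix.mulVec_add] at h3
      · exact ha' (by simpa using sub_mem h3 h2)
      · exact hb' (by simpa using sub_mem h3 h1)
    have hfr : ∀ U : Submodule F V, finrank F (U.map L) = finrank F U := fun U =>
      (Submodule.equivMapOfInjective _ (fun a b hab => gl_mulVec_injective g (by
        simpa [L, Matrix.toLin'_apply] using hab)) U).finrank_eq.symm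
    rcases hsub W (fun v hv => Or.inl hv) with h | h
    · exact hgH ⟨(mem_subspaceStabilizer_iff W g).2 fun x hx =>
        h ⟨x, hx, Matrix.toLin'_apply _ _⟩, hMK hgM⟩
    rcases hsub W' (fun v hv => Or.inr hv) with h' | h'
    · have := Submodule.finrank_mono h'
      rw [hfr] at this; omega
    · have h1 : ∀ v, (g : Mn) *ᵥ v ∈ W' := fun v => by
        obtain ⟨x, hx, y, hy, rfl⟩ := hdec v
        rw [Matrix.mulVec_add]
        exact add_mem (h ⟨x, hx, Matrix.toLin'_apply _ _⟩) (h' ⟨y, hy, Matrix.toLin'_apply _ _⟩)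
      have h2 := h1 (((g⁻¹ : GL (Fin m ⊕ Fin m) F) : Mn) *ᵥ x₀)
      rw [mulVec_inv_cancel] at h2
      exact hx₀0 (Submodule.disjoint_def.1 hc.disjoint x₀ hx₀ h2)
  have hW'W' : ∀ y ∈ W', y ≠ 0 → ∃ z ∈ W', B z y ≠ 0 := fun y hy hy0 => by
    obtain ⟨z, hz, hz'⟩ := hndW' y hy hy0
    exact ⟨z, hz, fun e => hz' (hs.refl _ _ e)⟩
  -- transitivity inside each summand
  have hrepl : ∀ (S : Submodule F V), (∀ v ∈ S, v ∈ W ∨ v ∈ W') → (∀ y ∈ S, y ≠ 0 → ∃ z ∈ S, B z y ≠ 0) →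
      ∀ r, (∀ s ∈ S, B r s = 0) → ∀ x ∈ S, ∀ u ∈ S, x ≠ 0 → u ≠ 0 → Pt M (r + x) → Pt M (r + u) := by
    intro S hS hnS r hr x hx u hu hx0 hu0 h
    have step : ∀ x ∈ S, ∀ u ∈ S, B x u ≠ 0 → Pt M (r + x) → Pt M (r + u) := fun x hx u hu hne h => by
      have := h.add (hblock _ (hS _ (sub_mem hu hx))) (by
        rw [sympForm_add_left, hr _ (sub_mem hu hx), zero_add, sympForm_sub_right, sympForm_self, sub_zero]
        exact hne)
      rwa [show r + x + (u - x) = r + u by abel] at this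
    obtain ⟨z₁, hz₁, hz₁'⟩ := hnS x hx hx0
    obtain ⟨z₂, hz₂, hz₂'⟩ := hnS u hu hu0
    obtain ⟨z, hz, hzx, hzu⟩ := exists_both (S := S) (hs.lin x) (hs.lin u) ⟨z₁, hz₁, hz₁'⟩ ⟨z₂, hz₂, hz₂'⟩
    exact step z hz u hu hzu (step x hx z hz (fun e => hzx (hs.refl _ _ e)) h)
  refine spGL_le fun v => ?_
  obtain ⟨x, hx, y, hy, rfl⟩ := hdec v
  by_cases h1 : x = 0
  · rw [h1, zero_add]; exact hblock y (Or.inr hy)
  by_cases h2 : y = 0
  · rw [h2, add_zero]; exact hblock x (Or.inl hx)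
  have h3 : Pt M (y₁ + x) := hrepl W (fun v hv => Or.inl hv) (fun w hw hw0 => (hW w hw hw0).1) y₁
    (fun s hs' => (hW' y₁).1 hy₁ s hs') x₁ hx₁ x hx hx₁0 h1 (by rwa [add_comm])
  rw [add_comm] at h3
  exact hrepl W' (fun v hv => Or.inr hv) hW'W' x (fun s hs' => hperp x hx s hs') y₁ hy₁ y hy hy₁0 h2 h3

/-- Stabilisers of totally singular subspaces are maximal in `Sp`. -/
theorem symplectic_parabolic_maximal (W : Submodule F (Fin m ⊕ Fin m → F)) (hW0 : W ≠ ⊥)
    (hW : Geo.IsTotallySingularFor (sympForm m F) W) :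
    Geo.IsMaximalIn (spGL m F) (Geo.subspaceStabilizer W ⊓ spGL m F) := by
  have hs : Sesq (RingEquiv.refl F) (sympForm m F) := sesq_sympForm
  have hA : (sympB m F).IsAlt := fun v => by rw [sympB_apply, sympForm_self]
  have hB : (sympB m F).Nondegenerate :=
    ⟨fun x h => hs.eq_zero x fun y => hs.refl _ _ (by rw [← sympB_apply]; exact h y),
      fun x h => hs.eq_zero x fun y => by rw [← sympB_apply]; exact h y⟩
  obtain ⟨w₀, hw₀, hw₀0⟩ := Submodule.exists_mem_ne_zero_of_ne_bot hW0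
  -- `InP v` : orthogonal to `W`
  have hWperp : ∀ v, (∀ z, (∀ w ∈ W, B z w = 0) → B v z = 0) → v ∈ W := fun v hv => by
    by_contra hvW
    obtain ⟨z, hz, hzW⟩ := exists_bilin_eq_one (sympB m F) hB W hvW
    rw [sympB_apply] at hz
    have hzW' : ∀ w ∈ W, B z w = 0 := fun w hw => by rw [← sympB_apply]; exact hzW w hw
    rw [sympForm_swap, hv z hzW', neg_zero] at hz
    exact zero_ne_one hz
  obtain ⟨u₀, hu₀⟩ := exists_sympForm_eq_one hw₀0
  refine isMaximalIn_intro inf_le_right (fun hle => ?_) fun M hHM hMK g hgM hgH => ?_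
  · obtain ⟨g, hg, hgx⟩ := exists_sp_tv u₀ 1
    have h := (mem_subspaceStabilizer_iff W g).1 (hle hg).1 w₀ hw₀
    rw [hgx, one_mul, hu₀, one_smul] at h
    have h1 : u₀ ∈ W := by simpa using sub_mem h hw₀
    rw [hW w₀ hw₀ u₀ h1] at hu₀
    exact zero_ne_one hu₀
  have hblock : ∀ v, (∀ w ∈ W, B v w = 0) → Pt M v := fun v hv c => by
    obtain ⟨T, hTs, hTx⟩ := exists_sp_tv v c
    refine ⟨T, hHM ⟨(mem_subspaceStabilizer_iff W T).2 fun x hx => ?_, hTs⟩,
      fun x => by rw [hTx, fn_dot hs, sympForm_smul_right]⟩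
    rw [hTx, hs.refl _ _ (hv x hx), mul_zero, zero_smul, add_zero]; exact hx
  obtain ⟨v₁, hv₁, hv₁n⟩ : ∃ v₁, Pt M v₁ ∧ ∃ w ∈ W, B v₁ w ≠ 0 := by
    by_contra hc
    push Not at hc
    refine hgH ⟨(mem_subspaceStabilizer_iff W g).2 fun x hx => hWperp _ fun z hz => ?_, hMK hgM⟩
    -- the inverse image of an orthogonal vector is orthogonal
    let U : Submodule F V :=
      { carrier := {x | ∀ w ∈ W, B x w = 0}
        add_mem' := fun {x y} hx hy w hw => by rw [sympForm_add_left, hx w hw, hy w hw, add_zero]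
        zero_mem' := fun w _ => hs.zero_left w
        smul_mem' := fun c x hx w hw => by rw [sympForm_smul_left, hx w hw, mul_zero] }
    have hU : U.map (Matrix.toLin' (g : Mn)) = U := by
      refine Submodule.eq_of_le_of_finrank_eq ?_ (Submodule.equivMapOfInjective _ (fun a b hab =>
        gl_mulVec_injective g (by simpa [Matrix.toLin'_apply] using hab)) U).finrank_eq.symm
      rintro _ ⟨u, hu, rfl⟩
      rw [Matrix.toLin'_apply]
      exact hc _ ((hblock u hu).map hgM (hMK hgM))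
    obtain ⟨z', hz', rfl⟩ : z ∈ U.map (Matrix.toLin' (g : Mn)) := by rw [hU]; exact hz
    rw [Matrix.toLin'_apply, (mem_spGL.1 (hMK hgM))]
    exact hs.refl _ _ (hz' x hx)
  have hcoset : ∀ v, Pt M v → (∃ w ∈ W, B v w ≠ 0) → ∀ z, (∀ w ∈ W, B z w = 0) → Pt M (v + z) := by
    intro v hv ⟨w₁, hw₁, hvw⟩ z hz
    by_cases h : B v z = 0
    · have h1 := hv.add (hblock w₁ fun w hw => hW w₁ hw₁ w hw) hvw
      have h2 := h1.add (hblock (z - w₁) fun w hw => by rw [sympForm_sub_left, hz w hw, hW w₁ hw₁ w hw, sub_zero]) (by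
        rw [sympForm_add_left, sympForm_sub_right, sympForm_sub_right, h, sympForm_self, hs.refl _ _ (hz w₁ hw₁)]
        simpa using hvw)
      rwa [show v + w₁ + (z - w₁) = v + z by abel] at h2
    · exact hv.add (hblock z hz) h
  refine spGL_le fun u => ?_
  by_cases hu : ∀ w ∈ W, B u w = 0
  · exact hblock u hu
  push Not at hu
  obtain ⟨wa, hwa, hwa'⟩ := hv₁n
  obtain ⟨wb, hwb, hwb'⟩ := hu
  obtain ⟨w₂, hw₂, ha, hb⟩ := exists_both (S := W) (hs.lin v₁) (hs.lin u)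
    ⟨wa, hwa, fun e => hwa' (hs.refl _ _ e)⟩ ⟨wb, hwb, fun e => hwb' (hs.refl _ _ e)⟩
  rw [Sesq.lin_apply] at ha hb
  set k := B w₂ v₁ / B w₂ u with hk
  have hk0 : k ≠ 0 := div_ne_zero ha hb
  have hku : B w₂ (k • u) = B w₂ v₁ := by rw [sympForm_smul_right, hk, div_mul_cancel₀ _ hb]
  -- an automorphism of `W` exchanging the two functionals
  let ψ : W →ₗ[F] V :=
    { toFun := fun w => (w : V) + ((B w v₁ - B w (k • u)) / B w₂ v₁) • w₂
      map_add' := fun a b => by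
        simp only [Submodule.coe_add, sympForm_add_left]
        module
      map_smul' := fun c a => by
        simp only [Submodule.coe_smul, sympForm_smul_left, RingHom.id_apply]
        module }
  have hψW : ∀ w : W, ψ w ∈ W := fun w => add_mem w.2 (W.smul_mem _ hw₂)
  have hψu : ∀ w : W, B (ψ w) (k • u) = B w v₁ := fun w => by
    show B ((w : V) + ((B w v₁ - B w (k • u)) / B w₂ v₁) • w₂) (k • u) = _
    rw [sympForm_add_left, sympForm_smul_left, hku, div_mul_cancel₀ _ ha]; ring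
  have hψinj : Function.Injective ψ := (injective_iff_map_eq_zero ψ).2 fun w hw => by
    have h1 := hψu w
    rw [hw, hs.zero_left] at h1
    have h2 : (w : V) + ((B w v₁ - B w (k • u)) / B w₂ v₁) • w₂ = 0 := hw
    rw [← h1, zero_sub, neg_div, neg_smul, ← sub_eq_add_neg, sub_eq_zero] at h2
    have h3 : B w v₁ = B w (k • u) := by
      conv_lhs => rw [h2]
      rw [sympForm_smul_left, div_mul_cancel₀ _ ha]
    rw [← h3, ← h1, zero_div, zero_smul] at h2
    exact Subtype.ext h2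
  obtain ⟨e, hef, heψ⟩ := witt_alternating (sympB m F) hB hA W ψ hψinj
    (fun a b => by rw [sympB_apply, sympB_apply, hW _ (hψW a) _ (hψW b), hW _ a.2 _ b.2])
  obtain ⟨T, hT⟩ := exists_gl_of_injective e.toLinearMap e.injective
  have hTe : ∀ x, (T : Mn) *ᵥ x = e x := hT
  have hTs : T ∈ spGL m F := mem_spGL.2 fun x y => by
    rw [hTe, hTe, ← sympB_apply, hef, sympB_apply]
  have hTW : T ∈ Geo.subspaceStabilizer W := (mem_subspaceStabilizer_iff W T).2 fun x hx => by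
    rw [hTe, heψ ⟨x, hx⟩]; exact hψW _
  have hTv : Pt M ((T : Mn) *ᵥ v₁) := hv₁.map (hHM ⟨hTW, hTs⟩) hTs
  have hTW' : ∀ w ∈ W, ∃ w' : W, (T : Mn) *ᵥ (w' : V) = w := fun w hw => by
    exact ⟨⟨((T⁻¹ : GL (Fin m ⊕ Fin m) F) : Mn) *ᵥ w,
      (mem_subspaceStabilizer_iff W _).1 (inv_mem hTW) w hw⟩, mulVec_inv_cancel T w⟩
  have hz : ∀ w ∈ W, B (k • u - (T : Mn) *ᵥ v₁) w = 0 := fun w hw => by
    obtain ⟨w', rfl⟩ := hTW' w hw
    refine hs.refl _ _ ?_
    rw [sympForm_sub_right, mem_spGL.1 hTs, hTe, heψ w', hψu, sub_self]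
  have hne : ∃ w ∈ W, B ((T : Mn) *ᵥ v₁) w ≠ 0 := by
    refine ⟨(T : Mn) *ᵥ wa, ?_, by rw [mem_spGL.1 hTs]; exact hwa'⟩
    rw [hTe, heψ ⟨wa, hwa⟩]; exact hψW _
  have h := (hcoset _ hTv hne _ hz).smul k⁻¹
  rwa [add_sub_cancel, smul_smul, inv_mul_cancel₀ hk0, one_smul] at h

end Cfsg.Agent.Classical.MaxTv
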