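import Cfsg.Agent.Lib.Classical.MaxOrthSub
import Cfsg.Agent.Lib.Classical.MaxSympSubspace

/-!
Stabilisers of non-degenerate subspaces are maximal in orthogonal groups: the entry point.
-/

set_option autoImplicit false
set_option linter.unusedSectionVars false
set_option quotPrecheck false

namespace Cfsg.Agent.Classical.MaxTv

open Matrix Module OrthAut
open scoped commutatorElement

variable {F : Type*} [Field F] [Fintype F] {ι : Type} [Fintype ι] [DecidableEq ι] {Q : QuadraticForm F (ι → F)}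

local notation "V" => (ι → F)
local notation "Mn" => Matrix ι ι F
local notation "B" => QuadraticMap.polar ⇑Q

theorem nd_of_isNondegenerateQuadraticForm (h : Geo.IsNondegenerateQuadraticForm ⇑Q) :
    (QuadraticMap.polarBilin Q).Nondegenerate := by
  have key : ∀ u, (∀ v, QuadraticMap.polar ⇑Q v u = 0) → u = 0 := fun u hu => by
    by_contra h0
    obtain ⟨x, hx⟩ := (h.nondegenerate u h0).1
    exact hx (hu x)
  exact ⟨fun u hu => key u fun v => by rw [QuadraticMap.polar_comm]; exact hu v, fun u hu => key u hu⟩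

theorem isNondegenerateQuadraticForm_of (hQ : (QuadraticMap.polarBilin Q).Nondegenerate) :
    Geo.IsNondegenerateQuadraticForm ⇑Q where
  smul c v := by rw [QuadraticMap.map_smul, smul_eq_mul, sq]
  polar_bilinear :=
    { add_left := fun x y v => QuadraticMap.polar_add_left Q x y v
      smul_left := fun c x v => by rw [QuadraticMap.polar_smul_left, smul_eq_mul]
      add_right := fun v x y => QuadraticMap.polar_add_right Q v x y
      smul_right := fun c v x => by rw [QuadraticMap.polar_smul_right, smul_eq_mul] }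
  nondegenerate v hv := by
    constructor
    · by_contra hc; push Not at hc; exact hv (hQ.2 v hc)
    · by_contra hc; push Not at hc; exact hv (hQ.1 v hc)

/-- Two reflections of the same value multiply into `Ω`, in every characteristic. -/
theorem refl_pair_mem (hQ : (QuadraticMap.polarBilin Q).Nondegenerate) (hT : Tri Q) {v w : V}
    (hv : Q v ≠ 0) (hw : Q w ≠ 0) (h : Q w = Q v) : refl hv * refl hw ∈ Omega F ⇑Q := by
  obtain ⟨g, -, hg⟩ := exists_move_value hQ hT hv h
  have hconj : refl hw = g * refl hv * g⁻¹ := by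
    rw [refl_conj g hv (by rw [hg]; exact hw)]
    exact refl_congr hw _ (c := 1) (by rw [one_smul, hg])
  have hinv : (refl hv)⁻¹ = refl hv := inv_eq_of_mul_eq_one_right (refl_mul_self hv)
  have : refl hv * refl hw = ⁅refl hv, g⁆ := by
    rw [hconj, commutatorElement_def, hinv, mul_assoc, mul_assoc, mul_assoc]
  rw [this, Omega, commutator_def]
  exact Subgroup.commutator_mem_commutator (Subgroup.mem_top _) (Subgroup.mem_top _)

/-- Isometries fixing a non-degenerate subspace fix its perpendicular space. -/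
theorem perp_stable {W U : Submodule F V} (htop : W ⊔ U = ⊤) (horth : ∀ w ∈ W, ∀ u ∈ U, B w u = 0)
    (hW : NdQ Q W) {g : GL ι F} (hg : ∀ x, Q ((g : Mn) *ᵥ x) = Q x)
    (h : ∀ w ∈ W, (g : Mn) *ᵥ w ∈ W) : ∀ u ∈ U, (g : Mn) *ᵥ u ∈ U := by
  intro u hu
  obtain ⟨a, ha, b, hb, hab⟩ := Submodule.mem_sup.1 (htop ▸ Submodule.mem_top : (g : Mn) *ᵥ u ∈ W ⊔ U)
  suffices ha0 : a = 0 by rw [← hab, ha0, zero_add]; exact hb
  by_contra h0
  obtain ⟨y, hy, hay⟩ := hW a ha h0
  let L : W →ₗ[F] W := ((Matrix.toLin' (g : Mn)).comp W.subtype).codRestrict W fun w => by simpa using h w w.2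
  have hL : Function.Injective L := fun x z hxz => Subtype.ext (gl_mulVec_injective g (by
    simpa [L] using congrArg Subtype.val hxz))
  obtain ⟨y', hy'⟩ := (LinearMap.injective_iff_surjective.1 hL) ⟨y, hy⟩
  have hy'' : (g : Mn) *ᵥ (y' : V) = y := by simpa [L] using congrArg Subtype.val hy'
  have h1 : B (y' : V) u = 0 := horth _ y'.2 u hu
  rw [← isometry_polar hg, hy'', ← hab, QuadraticMap.polar_add_right, horth y hy b hb, add_zero,
    QuadraticMap.polar_comm] at h1
  exact hay h1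

theorem card_le_three_of_sq {a r : F} (hr : r ≠ 0) (h : ∀ c : F, c ≠ 0 → a + c * c * r = 0) :
    Fintype.card F ≤ 3 := by
  classical
  refine le_trans (Finset.card_le_card (s := Finset.univ) (t := ({0, 1, -1} : Finset F)) fun c _ => ?_)
    Finset.card_le_three
  by_cases hc : c = 0
  · simp [hc]
  have h1 : c * c = 1 * 1 := mul_right_cancel₀ hr (by linear_combination h c hc - h 1 one_ne_zero)
  rcases mul_self_eq_mul_self_iff.1 h1 with e | e <;> simp [e]

/-- A short summand is irreducible for the stabiliser of a point of the other one. -/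
theorem smallIrr_of (hQ : (QuadraticMap.polarBilin Q).Nondegenerate) (hT : Tri Q) {M : Subgroup (GL ι F)}
    {W U : Submodule F V} (htop : W ⊔ U = ⊤) (horth : ∀ w ∈ W, ∀ u ∈ U, B w u = 0) (hW : NdQ Q W) (hU : NdQ Q U)
    (h5 : finrank F U ≤ 2 → 5 ≤ finrank F W)
    (hmem : ∀ t ∈ Geo.omegaGL ⇑Q, (∀ w ∈ W, (t : Mn) *ᵥ w ∈ W) → (∀ u ∈ U, (t : Mn) *ᵥ u ∈ U) → t ∈ M)
    (hex : finrank F U = 2 → Fintype.card F ≤ 3 → ∀ z ∈ U, Q z = 0 → z = 0) : SmallIrr Q M W U := by
  intro hU2 a ha hQa R hRU hR0 hinv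
  replace h5 := h5 hU2
  obtain ⟨r, hr, hr0⟩ := Submodule.exists_mem_ne_zero_of_ne_bot hR0
  by_contra hne
  have hlt := Submodule.finrank_lt_finrank_of_lt (lt_of_le_of_ne hRU hne)
  have hR1 : finrank F R = 1 := by
    have : 0 < finrank F R := Nat.pos_of_ne_zero fun h => hR0 (Submodule.finrank_eq_zero.1 h)
    omega
  have hU2' : finrank F U = 2 := by omega
  have hline : ∀ x ∈ R, x ∈ Submodule.span F {r} := fun x hx => by
    rw [Submodule.eq_of_le_of_finrank_le ((Submodule.span_singleton_le_iff_mem r R).2 hr)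
      (by rw [hR1, finrank_span_singleton hr0])]
    exact hx
  -- anisotropic vectors of `U` are on the line or perpendicular to it
  have key : ∀ v ∈ U, Q v ≠ 0 → B v r = 0 ∨ v ∈ Submodule.span F {r} := by
    intro v hv hQv
    obtain ⟨p, hp, hpa, hQp⟩ : ∃ p ∈ W, B p a = 0 ∧ Q p = Q v := by
      set T := W ⊓ LinearMap.ker (QuadraticMap.polarBilin Q a) with hTdef
      have d1 := finrank_le_inf_ker_add_one W (QuadraticMap.polarBilin Q a)
      rw [← hTdef] at d1
      have d2 : finrank F (T ⊓ LinearMap.BilinForm.orthogonal (QuadraticMap.polarBilin Q) T : Submodule F V) ≤ 1 := by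
        have hle : T ⊓ LinearMap.BilinForm.orthogonal (QuadraticMap.polarBilin Q) T ≤
            LinearMap.BilinForm.orthogonal (QuadraticMap.polarBilin Q) (T ⊔ U) := by
          intro x hx y hy
          obtain ⟨t, ht, u, hu, rfl⟩ := Submodule.mem_sup.1 hy
          show B (t + u) x = 0
          rw [QuadraticMap.polar_add_left, show B t x = 0 from hx.2 t ht, zero_add, QuadraticMap.polar_comm]
          exact horth x hx.1.1 u hu
        have h1 := Submodule.finrank_mono hle
        rw [LinearMap.BilinForm.finrank_orthogonal hQ, finrank_pi] at h1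
        have hinf : W ⊓ U = ⊥ := (Submodule.eq_bot_iff _).2 fun x hx => by
          by_contra h0
          obtain ⟨y, hy, hxy⟩ := hW x hx.1 h0
          exact hxy (by rw [QuadraticMap.polar_comm]; exact horth y hy x hx.2)
        have h2 := Submodule.finrank_sup_add_finrank_inf_eq T U
        rw [show T ⊓ U = ⊥ from le_bot_iff.1 (hinf ▸ inf_le_inf_right U inf_le_left), finrank_bot, add_zero] at h2
        have h3 := Submodule.finrank_sup_add_finrank_inf_eq W U
        rw [htop, hinf, finrank_bot, finrank_top, finrank_pi, add_zero] at h3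
        omega
      obtain ⟨e, he, -, -, hQe, z, hz, hez⟩ := exists_hyp_in (Q := Q) (T := T) (by omega)
      refine ⟨((Q v - Q z) / B e z) • e + z, W.add_mem (W.smul_mem _ he.1) hz.1, ?_, ?_⟩
      · rw [QuadraticMap.polar_comm]
        exact (T.add_mem (T.smul_mem _ he) hz).2
      · rw [quad_add, QuadraticMap.map_smul, hQe, QuadraticMap.polar_smul_left, smul_eq_mul, smul_eq_mul,
          div_mul_cancel₀ _ hez]
        ring
    have hQp0 : Q p ≠ 0 := hQp ▸ hQv
    set t := refl hQp0 * refl hQv with ht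
    have hval : ∀ x, (((t : isometryGroup F ⇑Q) : GL ι F) : Mn) *ᵥ x =
        (x - ((Q v)⁻¹ * B v x) • v) - ((Q p)⁻¹ * B p (x - ((Q v)⁻¹ * B v x) • v)) • p := fun x => by
      show ogVal (refl hQp0 * refl hQv) *ᵥ x = _
      rw [ogVal_mul, ← Matrix.mulVec_mulVec, refl_apply, refl_apply]
    have hpv : B p v = 0 := horth p hp v hv
    have htW : ∀ w ∈ W, (((t : isometryGroup F ⇑Q) : GL ι F) : Mn) *ᵥ w ∈ W := fun w hw => by
      rw [hval, QuadraticMap.polar_comm _ v w, horth w hw v hv, mul_zero, zero_smul, sub_zero]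
      exact W.sub_mem hw (W.smul_mem _ hp)
    have htU : ∀ u ∈ U, (((t : isometryGroup F ⇑Q) : GL ι F) : Mn) *ᵥ u = u - ((Q v)⁻¹ * B v u) • v := fun u hu => by
      rw [hval, horth p hp _ (U.sub_mem hu (U.smul_mem _ hv)), mul_zero, zero_smul, sub_zero]
    have htU' : ∀ u ∈ U, (((t : isometryGroup F ⇑Q) : GL ι F) : Mn) *ᵥ u ∈ U := fun u hu => by
      rw [htU u hu]; exact U.sub_mem hu (U.smul_mem _ hv)
    have htM := hmem _ (Subgroup.mem_map_of_mem _ (refl_pair_mem hQ hT hQp0 hQv hQp.symm)) htW htU'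
    have hta : (((t : isometryGroup F ⇑Q) : GL ι F) : Mn) *ᵥ a = a := by
      rw [hval, QuadraticMap.polar_comm _ v a, horth a ha v hv, mul_zero, zero_smul, sub_zero, hpa, mul_zero,
        zero_smul, sub_zero]
    have h := hline _ (hinv _ htM hta htU' r hr)
    replace h : r - ((Q v)⁻¹ * B v r) • v ∈ Submodule.span F {r} := by rw [← htU r (hRU hr)]; exact h
    by_cases hvr : B v r = 0
    · exact Or.inl hvr
    refine Or.inr ?_
    have h1 := Submodule.sub_mem _ (Submodule.mem_span_singleton_self r) h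
    rw [sub_sub_cancel] at h1
    exact (Submodule.smul_mem_iff _ (mul_ne_zero (inv_ne_zero hQv) hvr)).1 h1
  obtain ⟨s, hs, hrs⟩ := hU r (hRU hr) hr0
  have hspan : ∀ x ∈ U, B x r = 0 → B r r = 0 → x ∈ Submodule.span F {r} := fun x hx hxr hrr => by
    by_contra hout
    have hlt : Submodule.span F {r} < Submodule.span F {r} ⊔ Submodule.span F {x} :=
      lt_of_le_of_ne le_sup_left fun e => hout (e.symm ▸ Submodule.mem_sup_right (Submodule.mem_span_singleton_self x))
    have h1 := Submodule.finrank_lt_finrank_of_lt hlt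
    rw [finrank_span_singleton hr0] at h1
    have heq := Submodule.eq_of_le_of_finrank_le (S₁ := Submodule.span F {r} ⊔ Submodule.span F {x}) (S₂ := U)
      (sup_le ((Submodule.span_singleton_le_iff_mem r U).2 (hRU hr)) ((Submodule.span_singleton_le_iff_mem x U).2 hx))
      (by omega)
    rw [← heq] at hs
    obtain ⟨y₁, e₁, y₂, e₂, rfl⟩ := Submodule.mem_sup.1 hs
    obtain ⟨c₁, rfl⟩ := Submodule.mem_span_singleton.1 e₁
    obtain ⟨c₂, rfl⟩ := Submodule.mem_span_singleton.1 e₂
    rw [QuadraticMap.polar_add_right, QuadraticMap.polar_smul_right, QuadraticMap.polar_smul_right, hrr,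
      QuadraticMap.polar_comm _ r x, hxr] at hrs
    simp at hrs
  by_cases hrr : B r r = 0
  · -- all anisotropic vectors lie on the line
    have hall : ∀ x ∈ U, x ∉ Submodule.span F {r} → Q x = 0 := fun x hx hxr => by
      by_contra h0
      rcases key x hx h0 with h | h
      · exact hxr (hspan x hx h hrr)
      · exact hxr h
    have hs' : s ∉ Submodule.span F {r} := fun h => by
      obtain ⟨c, rfl⟩ := Submodule.mem_span_singleton.1 h
      rw [QuadraticMap.polar_smul_right, hrr, smul_zero] at hrs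
      exact hrs rfl
    have hout : ∀ c : F, s + c • r ∉ Submodule.span F {r} := fun c h => hs' (by
      simpa using Submodule.sub_mem _ h (Submodule.smul_mem _ c (Submodule.mem_span_singleton_self r)))
    have hQs := hall s hs hs'
    have h1 : ∀ c : F, c ≠ 0 → c * Q r + B r s = 0 := fun c hc => by
      have h := hall _ (U.add_mem hs (U.smul_mem c (hRU hr))) (hout c)
      rw [quad_add, QuadraticMap.map_smul, hQs, zero_add, QuadraticMap.polar_smul_right, smul_eq_mul, smul_eq_mul,
        QuadraticMap.polar_comm _ s r] at h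
      exact (mul_eq_zero.1 (show c * (c * Q r + B r s) = 0 by linear_combination h)).resolve_left hc
    have hQr : Q r ≠ 0 := fun h0 => hrs (by simpa [h0] using h1 1 one_ne_zero)
    have hF : ∀ c : F, c ≠ 0 → c = 1 := fun c hc =>
      mul_right_cancel₀ hQr (by linear_combination h1 c hc - h1 1 one_ne_zero)
    have hcard : Fintype.card F ≤ 3 := by
      classical
      refine le_trans (Finset.card_le_card (s := Finset.univ) (t := ({0, 1} : Finset F)) fun c _ => ?_)
        (Finset.card_le_two.trans (by norm_num))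
      by_cases hc : c = 0
      · simp [hc]
      · simp [hF c hc]
    exact hs' (by rw [hex hU2' hcard s hs hQs]; exact zero_mem _)
  · -- an anisotropic line and its perpendicular
    have hQr : Q r ≠ 0 := fun h0 => hrr (by rw [polar_self2, h0, mul_zero])
    obtain ⟨x, ⟨hxU, hxr⟩, hx0⟩ := Submodule.exists_mem_ne_zero_of_ne_bot
      (p := U ⊓ LinearMap.ker (QuadraticMap.polarBilin Q r)) (fun h => by
        have h1 := finrank_le_inf_ker_add_one U (QuadraticMap.polarBilin Q r)
        rw [h, finrank_bot] at h1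
        omega)
    change B r x = 0 at hxr
    have hxr' : B x r = 0 := by rw [QuadraticMap.polar_comm]; exact hxr
    have hmix : ∀ c : F, c ≠ 0 → Q x + c * c * Q r = 0 := fun c hc => by
      have hQc : Q (x + c • r) = Q x + c * c * Q r := by
        rw [quad_add, QuadraticMap.map_smul, QuadraticMap.polar_smul_right, hxr', smul_zero, add_zero, smul_eq_mul]
      by_contra h4
      rcases key _ (U.add_mem hxU (U.smul_mem c (hRU hr))) (hQc ▸ h4) with h5 | h5
      · rw [QuadraticMap.polar_add_left, hxr', QuadraticMap.polar_smul_left, zero_add, smul_eq_mul, mul_eq_zero] at h5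
        exact h5.elim hc hrr
      · have h6 := Submodule.sub_mem _ h5 (Submodule.smul_mem _ c (Submodule.mem_span_singleton_self r))
        rw [add_sub_cancel_right] at h6
        obtain ⟨d, hd⟩ := Submodule.mem_span_singleton.1 h6
        rw [← hd, QuadraticMap.polar_smul_left, smul_eq_mul, mul_eq_zero, or_iff_left hrr] at hxr'
        exact hx0 (by rw [← hd, hxr', zero_smul])
    have hcard : Fintype.card F ≤ 3 := card_le_three_of_sq hQr fun c hc => by
      exact hmix c hc
    have h8 := hex hU2' hcard _ (U.add_mem hxU (hRU hr)) (by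
      rw [quad_add, hxr']
      linear_combination hmix 1 one_ne_zero)
    rw [add_eq_zero_iff_eq_neg] at h8
    rw [h8, QuadraticMap.polar_neg_left, neg_eq_zero] at hxr'
    exact hrr hxr'

theorem isometry_of_mem_omegaGL {g : GL ι F} (hg : g ∈ Geo.omegaGL ⇑Q) : ∀ x, Q ((g : Mn) *ᵥ x) = Q x := by
  obtain ⟨k', -, rfl⟩ := Subgroup.mem_map.1 hg
  exact fun x => mem_isometryGroup.1 k'.2 x

/-- The two summands of a non-degenerate decomposition, big one first, or two four-spaces in even
characteristic. -/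
theorem nondeg_big_maximal_gen (hQ : Geo.IsNondegenerateQuadraticForm ⇑Q) (W U : Submodule F V)
    (htop : W ⊔ U = ⊤) (horth : ∀ w ∈ W, ∀ u ∈ U, B w u = 0) (hW : Geo.IsNondegenerateOn (QuadraticMap.polar ⇑Q) W)
    (hU : Geo.IsNondegenerateOn (QuadraticMap.polar ⇑Q) U) (hU0 : U ≠ ⊥)
    (hw : 5 ≤ finrank F W ∨ ((2 : F) ≠ 0 ∧ 4 ≤ finrank F W) ∨ Four Q W U)
    (hle : finrank F U ≤ finrank F W) (hdims : 7 ≤ finrank F W + finrank F U)
    (hex : finrank F U = 2 → Fintype.card F ≤ 3 → ∀ z ∈ U, Q z = 0 → z = 0)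
    (hswap : finrank F U = finrank F W → ∀ g ∈ Geo.omegaGL ⇑Q, ¬ ∀ w ∈ W, (g : Mn) *ᵥ w ∈ U)
    (S : Subgroup (GL ι F)) (hS : S ≤ Geo.omegaGL ⇑Q)
    (hiff : ∀ t ∈ Geo.omegaGL ⇑Q, t ∈ S ↔ ∀ w ∈ W, (t : Mn) *ᵥ w ∈ W) :
    Geo.IsMaximalIn (Geo.omegaGL ⇑Q) S := by
  have hnd := nd_of_isNondegenerateQuadraticForm hQ
  have hW' := ndQ_of_isNondegenerateOn hW
  have hU' := ndQ_of_isNondegenerateOn hU
  have hT := tri_top hnd (by
    have h1 := Submodule.finrank_sup_add_finrank_inf_eq W U
    have hinf : W ⊓ U = ⊥ := (Submodule.eq_bot_iff _).2 fun x hx => by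
      by_contra h0
      obtain ⟨y, hy, hxy⟩ := hW' x hx.1 h0
      exact hxy (by rw [QuadraticMap.polar_comm]; exact horth y hy x hx.2)
    rw [htop, hinf, finrank_bot, finrank_top, finrank_pi] at h1
    omega)
  have hcross : ∀ g ∈ Geo.omegaGL ⇑Q, ¬ ∀ w ∈ W, (g : Mn) *ᵥ w ∈ U := fun g hg h => by
    refine hswap (le_antisymm hle ?_) g hg h
    have hinj : Function.Injective (Matrix.toLin' (g : Mn)) := fun a b hab => gl_mulVec_injective g (by simpa using hab)
    rw [(Submodule.equivMapOfInjective _ hinj W).finrank_eq]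
    exact Submodule.finrank_mono (by rintro _ ⟨w, hw, rfl⟩; simpa using h w hw)
  refine orthogonal_subspace_maximal_gen (⇑Q) hQ W U S htop horth hW hU
    (hw.imp_right fun h => h.imp_right fun h Q' hQ' => (QuadraticMap.ext fun x => congrFun hQ' x : Q' = Q) ▸ h) hdims hS
    (fun t ht hw _ => (hiff t ht).2 hw) (fun hle' => ?_) (fun g hg hgS => ⟨fun h => hgS ((hiff g hg).2 h), hcross g hg⟩)
    (fun Q' hQ' M hM => ?_) (fun Q' hQ' M hM h => absurd h (by
      rcases hw with h' | ⟨-, h'⟩ | h'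
      exacts [by omega, by omega, by rw [h'.dimW]; omega]))
  · obtain ⟨b, hb, hb0⟩ := Submodule.exists_mem_ne_zero_of_ne_bot hU0
    have hrad : finrank F (W ⊓ LinearMap.BilinForm.orthogonal (QuadraticMap.polarBilin Q) W : Submodule F V) + 3 ≤
        finrank F W := by
      have h4 : 4 ≤ finrank F W := by
        rcases hw with h | ⟨-, h⟩ | h
        exacts [by omega, h, h.dimW.ge]
      rw [show W ⊓ LinearMap.BilinForm.orthogonal (QuadraticMap.polarBilin Q) W = ⊥ from
        (Submodule.eq_bot_iff _).2 fun x hx => by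
          by_contra h0
          obtain ⟨y, hy, hxy⟩ := hW' x hx.1 h0
          exact hxy (by rw [QuadraticMap.polar_comm]; exact hx.2 y hy), finrank_bot]
      omega
    obtain ⟨a, ha, -, -, hQa, z, hz, haz⟩ := exists_hyp_in (Q := Q) (T := W) hrad
    have hOK : OK Q a b := ⟨hQa, horth a ha b hb⟩
    obtain ⟨t, ht, htx⟩ : ∃ t ∈ Geo.omegaGL ⇑Q, (t : Mn) = eMat Q a b :=
      ⟨_, Subgroup.mem_map_of_mem _ (sR_le_omega hnd hT (eOG_mem hnd hT hOK)), eOG_val hOK⟩
    have h := (hiff t ht).1 (hle' ht) z hz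
    rw [htx, eMat_mulVec, QuadraticMap.polar_comm _ b z, horth z hz b hb, zero_smul, sub_zero] at h
    have h2 := W.sub_mem (W.add_mem h (W.smul_mem (Q b * B a z) ha)) hz
    rw [sub_add_cancel, add_sub_cancel_left] at h2
    obtain ⟨y, hy, hby⟩ := hU' _ (U.smul_mem (B a z) hb) (smul_ne_zero haz hb0)
    exact hby (horth _ h2 y hy)
  · obtain rfl : Q' = Q := QuadraticMap.ext fun x => congrFun hQ' x
    exact smallIrr_of hnd hT htop horth hW' hU' (fun h => by
      rcases hw with h' | ⟨-, h'⟩ | h'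
      exacts [by omega, by omega, by rw [h'.dimW, h'.dimU] at *; omega]) (fun t ht hw _ => hM ((hiff t ht).2 hw)) hex

/-- The two summands of a non-degenerate decomposition, big one first. -/
theorem nondeg_big_maximal (hQ : Geo.IsNondegenerateQuadraticForm ⇑Q) (W U : Submodule F V)
    (htop : W ⊔ U = ⊤) (horth : ∀ w ∈ W, ∀ u ∈ U, B w u = 0) (hW : Geo.IsNondegenerateOn (QuadraticMap.polar ⇑Q) W)
    (hU : Geo.IsNondegenerateOn (QuadraticMap.polar ⇑Q) U) (hU0 : U ≠ ⊥)
    (hw : 5 ≤ finrank F W ∨ (2 : F) ≠ 0 ∧ 4 ≤ finrank F W)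
    (hle : finrank F U ≤ finrank F W) (hdims : 7 ≤ finrank F W + finrank F U)
    (hex : finrank F U = 2 → Fintype.card F ≤ 3 → ∀ z ∈ U, Q z = 0 → z = 0)
    (hswap : finrank F U = finrank F W → ∀ g ∈ Geo.omegaGL ⇑Q, ¬ ∀ w ∈ W, (g : Mn) *ᵥ w ∈ U)
    (S : Subgroup (GL ι F)) (hS : S ≤ Geo.omegaGL ⇑Q)
    (hiff : ∀ t ∈ Geo.omegaGL ⇑Q, t ∈ S ↔ ∀ w ∈ W, (t : Mn) *ᵥ w ∈ W) :
    Geo.IsMaximalIn (Geo.omegaGL ⇑Q) S :=
  nondeg_big_maximal_gen hQ W U htop horth hW hU hU0 (hw.imp_right Or.inl) hle hdims hex hswap S hS hiff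

/-- Stabilisers of non-degenerate subspaces are maximal in `Ω`, dimension at least seven. -/
theorem orthogonal_nondeg_maximal_seven (Q₀ : V → F) (hQ : Geo.IsNondegenerateQuadraticForm Q₀)
    (hn : 7 ≤ Fintype.card ι) (h2' : 9 ≤ Fintype.card ι ∨ (2 : F) ≠ 0) (W : Submodule F V) (hW0 : W ≠ ⊥) (hW1 : W ≠ ⊤)
    (hW : Geo.IsNondegenerateOn (QuadraticMap.polar Q₀) W)
    (hex : ∀ U : Submodule F V, finrank F U = 2 → Geo.IsNondegenerateOn (QuadraticMap.polar Q₀) U →
      (U = W ∨ (Geo.AreOrthogonalFor (QuadraticMap.polar Q₀) U W ∧ finrank F U + finrank F W = Fintype.card ι)) →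
      Fintype.card F ≤ 3 → ∀ z ∈ U, Q₀ z = 0 → z = 0)
    (hswap : ∀ U : Submodule F V, Geo.AreOrthogonalFor (QuadraticMap.polar Q₀) U W →
      Geo.IsNondegenerateOn (QuadraticMap.polar Q₀) U → finrank F U = finrank F W →
      finrank F U + finrank F W = Fintype.card ι → ∀ g ∈ Geo.omegaGL Q₀, ¬ ∀ w ∈ W, (g : Mn) *ᵥ w ∈ U) :
    Geo.IsMaximalIn (Geo.omegaGL Q₀) (Geo.subspaceStabilizer W ⊓ Geo.omegaGL Q₀) := by
  obtain ⟨Qf, hQf⟩ : ∃ Qf : QuadraticForm F V, ⇑Qf = Q₀ :=
    ⟨QuadraticMap.ofPolar Q₀ (fun a x => by rw [hQ.smul, smul_eq_mul, sq])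
      (fun x x' y => hQ.polar_bilinear.add_left x x' y) (fun a x y => hQ.polar_bilinear.smul_left a x y), rfl⟩
  subst hQf
  have hnd := nd_of_isNondegenerateQuadraticForm hQ
  have hW' := ndQ_of_isNondegenerateOn hW
  set U := LinearMap.BilinForm.orthogonal (QuadraticMap.polarBilin Qf) W with hUdef
  have hWU : ∀ w ∈ W, ∀ u ∈ U, QuadraticMap.polar (⇑Qf) w u = 0 := fun w hw u hu => hu w hw
  have hinf : W ⊓ U = ⊥ := (Submodule.eq_bot_iff _).2 fun x hx => by
    by_contra h0
    obtain ⟨y, hy, hxy⟩ := hW' x hx.1 h0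
    exact hxy (by rw [QuadraticMap.polar_comm]; exact hWU y hy x hx.2)
  have hsum : finrank F W + finrank F U = Fintype.card ι := by
    have h1 : finrank F U = Fintype.card ι - finrank F W := by
      rw [LinearMap.BilinForm.finrank_orthogonal hnd, finrank_pi]
    have h2 := Submodule.finrank_le W
    rw [finrank_pi] at h2
    omega
  have htop : W ⊔ U = ⊤ := Submodule.eq_top_of_finrank_eq (by
    have h := Submodule.finrank_sup_add_finrank_inf_eq W U
    rw [hinf, finrank_bot] at h
    rw [finrank_pi]; omega)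
  have hU : Geo.IsNondegenerateOn (QuadraticMap.polar ⇑Qf) U := fun u hu hu0 => by
    obtain ⟨x, hx⟩ : ∃ x, QuadraticMap.polar (⇑Qf) x u ≠ 0 := by
      by_contra hc; push Not at hc; exact hu0 (hnd.2 u hc)
    obtain ⟨a, ha, b, hb, rfl⟩ := Submodule.mem_sup.1 (htop ▸ Submodule.mem_top : x ∈ W ⊔ U)
    rw [QuadraticMap.polar_add_left, hWU a ha u hu, zero_add] at hx
    exact ⟨⟨b, hb, hx⟩, b, hb, by rw [QuadraticMap.polar_comm]; exact hx⟩
  have hU0 : U ≠ ⊥ := fun h => hW1 (by rw [h, sup_bot_eq] at htop; exact htop)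
  have hUW : ∀ u ∈ U, ∀ w ∈ W, QuadraticMap.polar (⇑Qf) u w = 0 := fun u hu w hw => by
    rw [QuadraticMap.polar_comm]; exact hWU w hw u hu
  by_cases hle : finrank F U ≤ finrank F W
  · exact nondeg_big_maximal hQ W U htop hWU hW hU hU0 (h2'.imp (fun h => by omega) fun h => ⟨h, by omega⟩) hle (by omega)
      (fun h2 h3 => hex U h2 hU (Or.inr ⟨hUW, by omega⟩) h3) (fun he => hswap U hUW hU he (by omega)) _ inf_le_right
      fun t ht => ⟨fun h => (mem_subspaceStabilizer_iff W t).1 h.1, fun h => ⟨(mem_subspaceStabilizer_iff W t).2 h, ht⟩⟩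
  · exact nondeg_big_maximal hQ U W (by rw [sup_comm, htop]) hUW hU hW hW0 (h2'.imp (fun h => by omega) fun h => ⟨h, by omega⟩) (by omega) (by omega)
      (fun h2 h3 => hex W h2 hW (Or.inl rfl) h3) (fun he => absurd he (by omega)) _ inf_le_right
      fun t ht => ⟨fun h => perp_stable htop hWU hW' (isometry_of_mem_omegaGL ht) ((mem_subspaceStabilizer_iff W t).1 h.1),
        fun h => ⟨(mem_subspaceStabilizer_iff W t).2 (perp_stable (by rw [sup_comm, htop]) hUW
          (ndQ_of_isNondegenerateOn hU) (isometry_of_mem_omegaGL ht) h), ht⟩⟩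

/-- Stabilisers of non-degenerate subspaces are maximal in `Ω`. -/
theorem orthogonal_nondeg_maximal (Q₀ : V → F) (hQ : Geo.IsNondegenerateQuadraticForm Q₀)
    (hn : 9 ≤ Fintype.card ι) (W : Submodule F V) (hW0 : W ≠ ⊥) (hW1 : W ≠ ⊤)
    (hW : Geo.IsNondegenerateOn (QuadraticMap.polar Q₀) W)
    (hex : ∀ U : Submodule F V, finrank F U = 2 → Geo.IsNondegenerateOn (QuadraticMap.polar Q₀) U →
      (U = W ∨ (Geo.AreOrthogonalFor (QuadraticMap.polar Q₀) U W ∧ finrank F U + finrank F W = Fintype.card ι)) →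
      Fintype.card F ≤ 3 → ∀ z ∈ U, Q₀ z = 0 → z = 0)
    (hswap : ∀ U : Submodule F V, Geo.AreOrthogonalFor (QuadraticMap.polar Q₀) U W →
      Geo.IsNondegenerateOn (QuadraticMap.polar Q₀) U → finrank F U = finrank F W →
      finrank F U + finrank F W = Fintype.card ι → ∀ g ∈ Geo.omegaGL Q₀, ¬ ∀ w ∈ W, (g : Mn) *ᵥ w ∈ U) :
    Geo.IsMaximalIn (Geo.omegaGL Q₀) (Geo.subspaceStabilizer W ⊓ Geo.omegaGL Q₀) :=
  orthogonal_nondeg_maximal_seven Q₀ hQ (by omega) (Or.inl hn) W hW0 hW1 hW hex hswap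

end Cfsg.Agent.Classical.MaxTv
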