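import Cfsg.Agent.Lib.Classical.MaxOrthSubMain
import Cfsg.Agent.Lib.Classical.NormalForms

/-!
An isometry carrying a half-dimensional non-degenerate subspace of even dimension into its
perpendicular space forces plus type.
-/

set_option autoImplicit false
set_option linter.unusedSectionVars false
set_option quotPrecheck false

namespace Cfsg.Agent.Classical.MaxTv

open Matrix Module OrthAut

variable {F : Type*} [Field F] [Fintype F] {ι : Type} [Fintype ι] [DecidableEq ι] {Q : QuadraticForm F (ι → F)}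

local notation "V" => (ι → F)
local notation "Mn" => Matrix ι ι F
local notation "B" => QuadraticMap.polar ⇑Q

theorem polar_self_two (v : V) : B v v = 2 * Q v := by
  simp only [QuadraticMap.polar_self]; norm_num

theorem map_three_orth {v₁ v₂ r : V} (a b : F) (h12 : B v₁ v₂ = 0) (h1r : B v₁ r = 0) (h2r : B v₂ r = 0) :
    Q (a • v₁ + b • v₂ + r) = a ^ 2 * Q v₁ + b ^ 2 * Q v₂ + Q r := by
  rw [QuadraticMap.map_add ⇑Q, QuadraticMap.map_add ⇑Q (a • v₁), QuadraticMap.map_smul, QuadraticMap.map_smul,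
    QuadraticMap.polar_add_left, QuadraticMap.polar_smul_left, QuadraticMap.polar_smul_left,
    QuadraticMap.polar_smul_left, QuadraticMap.polar_smul_right, h12, h1r, h2r]
  simp only [smul_eq_mul]; ring

/-- A non-degenerate even-dimensional space in odd characteristic has an anti-isometry. -/
theorem exists_anti_isometry (h2 : (2 : F) ≠ 0) (j : ℕ) :
    ∀ W : Submodule F V, NdQ Q W → finrank F W = 2 * j →
      ∃ J : V →ₗ[F] V, ∀ w ∈ W, J w ∈ W ∧ Q (J w) = -Q w := by
  induction j with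
  | zero =>
    intro W _ h
    refine ⟨0, fun w hw => ?_⟩
    obtain rfl : W = ⊥ := Submodule.finrank_eq_zero.1 (by omega)
    obtain rfl := (Submodule.mem_bot F).1 hw
    simp
  | succ j ih =>
    intro W hW h
    set C := QuadraticMap.polarBilin Q with hC
    have hS : LinearMap.BilinForm.IsSymm C := ⟨fun x y => QuadraticMap.polar_comm (⇑Q) x y⟩
    have hW' : ∀ w ∈ W, w ≠ 0 → ∃ u ∈ W, C w u ≠ 0 := hW
    obtain ⟨v₁, hv₁, hb₁⟩ := exists_aniso_in C h2 hS hW' (by omega)
    have hd₁ := finrank_inf_orth C hv₁ hb₁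
    have hnd₁ := nondeg_inf_ker C hS hW' hv₁ hb₁
    obtain ⟨v₂, ⟨hv₂, hv₁₂⟩, hb₂⟩ := exists_aniso_in C h2 hS hnd₁ (by omega)
    have hd₂ := finrank_inf_orth C (W := W ⊓ LinearMap.ker (C v₁)) ⟨hv₂, hv₁₂⟩ hb₂
    have hnd₂ := nondeg_inf_ker C hS hnd₁ ⟨hv₂, hv₁₂⟩ hb₂
    obtain ⟨J, hJ⟩ := ih _ hnd₂ (by omega)
    have hα : Q v₁ ≠ 0 := fun h0 => hb₁ (by rw [hC, QuadraticMap.polarBilin_apply_apply, polar_self_two, h0, mul_zero])
    have hβ : Q v₂ ≠ 0 := fun h0 => hb₂ (by rw [hC, QuadraticMap.polarBilin_apply_apply, polar_self_two, h0, mul_zero])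
    obtain ⟨x, y, hxy⟩ := FiniteField.exists_root_sum_quadratic (R := F)
      (f := Polynomial.C (Q v₁) * Polynomial.X ^ 2)
      (g := Polynomial.C (Q v₂) * Polynomial.X ^ 2 - Polynomial.C (-Q v₁))
      (Polynomial.degree_C_mul_X_pow 2 hα)
      (by
        rw [Polynomial.degree_sub_C (by rw [Polynomial.degree_C_mul_X_pow 2 hβ]; decide)]
        exact Polynomial.degree_C_mul_X_pow 2 hβ)
      (FiniteField.odd_card_of_char_ne_two fun hc => h2 (by exact_mod_cast (ringChar.spec F 2).2 (by rw [hc])))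
    simp at hxy
    set z : F := -(Q v₂ * y / Q v₁) with hz
    let φ₁ : V →ₗ[F] F := (C v₁ v₁)⁻¹ • C v₁
    let φ₂ : V →ₗ[F] F := (C v₂ v₂)⁻¹ • C v₂
    let r : V →ₗ[F] V := LinearMap.id - φ₁.smulRight v₁ - φ₂.smulRight v₂
    refine ⟨φ₁.smulRight (x • v₁ + y • v₂) + φ₂.smulRight (z • v₁ + x • v₂) + J.comp r, fun w hw => ?_⟩
    have h12 : B v₁ v₂ = 0 := hv₁₂
    have h21 : B v₂ v₁ = 0 := by rw [QuadraticMap.polar_comm]; exact h12
    have hb₁' : B v₁ v₁ ≠ 0 := hb₁
    have hb₂' : B v₂ v₂ ≠ 0 := hb₂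
    have hr : r w ∈ W ⊓ LinearMap.ker (C v₁) ⊓ LinearMap.ker (C v₂) := by
      refine ⟨⟨W.sub_mem (W.sub_mem hw (W.smul_mem _ hv₁)) (W.smul_mem _ hv₂), ?_⟩, ?_⟩
      · simp [r, φ₁, φ₂, hC, QuadraticMap.polarBilin_apply_apply, h12, LinearMap.mem_ker]
        field_simp; ring
      · simp [r, φ₁, φ₂, hC, QuadraticMap.polarBilin_apply_apply, h21, LinearMap.mem_ker]
        field_simp; ring
    obtain ⟨hJm, hJQ⟩ := hJ _ hr
    have hval : (φ₁.smulRight (x • v₁ + y • v₂) + φ₂.smulRight (z • v₁ + x • v₂) + J.comp r) w =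
        (φ₁ w * x + φ₂ w * z) • v₁ + (φ₁ w * y + φ₂ w * x) • v₂ + J (r w) := by
      simp only [LinearMap.add_apply, LinearMap.smulRight_apply, LinearMap.comp_apply]; module
    refine ⟨?_, ?_⟩
    · rw [hval]
      exact W.add_mem (W.add_mem (W.smul_mem _ hv₁) (W.smul_mem _ hv₂)) hJm.1.1
    · have hw' : w = φ₁ w • v₁ + φ₂ w • v₂ + r w := by
        simp only [r, LinearMap.sub_apply, LinearMap.id_apply, LinearMap.smulRight_apply]; module
      conv_rhs => rw [hw', map_three_orth (Q := Q) _ _ h12 hr.1.2 hr.2]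
      rw [hval, map_three_orth (Q := Q) _ _ h12 hJm.1.2 hJm.2, hJQ, hz]
      field_simp
      linear_combination (φ₁ w ^ 2 * Q v₁ + φ₂ w ^ 2 * Q v₂) * hxy

/-- An isometry carrying a half-dimensional non-degenerate space of even dimension into its
perpendicular space forces plus type. -/
theorem plusType_of_swap {W U : Submodule F V} (hW : NdQ Q W) (horth : ∀ w ∈ W, ∀ u ∈ U, B w u = 0)
    (hev : Even (finrank F W)) (hdim : 2 * finrank F W = Fintype.card ι) {g : GL ι F}
    (hg : ∀ x, Q ((g : Mn) *ᵥ x) = Q x) (hgW : ∀ w ∈ W, (g : Mn) *ᵥ w ∈ U) :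
    Geo.IsPlusTypeOn ⇑Q ⊤ := by
  obtain ⟨J, hJ⟩ : ∃ J : V →ₗ[F] V, ∀ w ∈ W, J w ∈ W ∧ Q (J w) = -Q w := by
    by_cases h2 : (2 : F) = 0
    · have : CharP F 2 := (CharP.charP_iff_prime_eq_zero Nat.prime_two).2 (by exact_mod_cast h2)
      exact ⟨LinearMap.id, fun w hw => ⟨hw, (CharTwo.neg_eq (Q w)).symm⟩⟩
    · obtain ⟨j, hj⟩ := hev
      exact exists_anti_isometry h2 j W hW (by omega)
  let f : V →ₗ[F] V := LinearMap.id + (Matrix.toLin' (g : Mn)).comp J
  refine ⟨W.map f, le_top, ?_, ?_⟩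
  · rintro _ ⟨w, hw, rfl⟩
    show Q (w + Matrix.toLin' (g : Mn) (J w)) = 0
    rw [QuadraticMap.map_add ⇑Q, Matrix.toLin'_apply, hg, (hJ w hw).2, horth w hw _ (hgW _ (hJ w hw).1)]
    ring
  · have hinj : Function.Injective (f.comp W.subtype) := by
      refine (injective_iff_map_eq_zero _).2 fun w hw => ?_
      by_contra h0
      obtain ⟨y, hy, hwy⟩ := hW (w : V) w.2 (by simpa using h0)
      have h1 : (w : V) = -((g : Mn) *ᵥ J w) := eq_neg_of_add_eq_zero_left (by simpa [f] using hw)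
      apply hwy
      rw [h1, QuadraticMap.polar_neg_left, QuadraticMap.polar_comm, horth y hy _ (hgW _ (hJ _ w.2).1), neg_zero]
    rw [finrank_top, Module.finrank_pi, show W.map f = LinearMap.range (f.comp W.subtype) by
      rw [LinearMap.range_comp, Submodule.range_subtype], LinearMap.finrank_range_of_inj hinj]
    exact hdim

/-- Singular vectors give plus type planes. -/
theorem plusType_plane {U : Submodule F V} (h2 : finrank F U = 2) {z : V} (hz : z ∈ U) (hQz : Q z = 0)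
    (h0 : z ≠ 0) : Geo.IsPlusTypeOn (⇑Q) U := by
  refine ⟨Submodule.span F {z}, (Submodule.span_singleton_le_iff_mem z _).2 hz, fun w hw => ?_, ?_⟩
  · obtain ⟨c, rfl⟩ := Submodule.mem_span_singleton.1 hw
    rw [QuadraticMap.map_smul, hQz, smul_zero]
  · rw [finrank_span_singleton h0, h2]

/-- A quadratic form given as a function. -/
theorem exists_form {Q₀ : V → F} (hQ : Geo.IsNondegenerateQuadraticForm Q₀) :
    ∃ Qf : QuadraticForm F V, ⇑Qf = Q₀ :=
  ⟨QuadraticMap.ofPolar Q₀ (fun a x => by rw [hQ.smul, smul_eq_mul, sq])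
      (fun x x' y => hQ.polar_bilinear.add_left x x' y) (fun a x y => hQ.polar_bilinear.smul_left a x y), rfl⟩

end Cfsg.Agent.Classical.MaxTv
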