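import Cfsg.Agent.Lib.Classical.AschNonMax
import Cfsg.Agent.Lib.Classical.MaxOrthPair
import Cfsg.Agent.Lib.Classical.MaxOrthSubMain
import Cfsg.Agent.Lib.Classical.MaxOrthSubMinus
import Cfsg.Agent.Lib.Classical.OrthSingular

/-!
Members of the geometric classes of orthogonal groups that are not maximal because of the two classes of maximal
totally singular subspaces.
-/

set_option autoImplicit false
set_option linter.unusedSectionVars false
set_option linter.unusedFintypeInType false
set_option linter.unusedDecidableInType false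
set_option quotPrecheck false

namespace Cfsg.Agent.Classical.AschOrthTwo

open Matrix Module Cfsg.Geo OrthAut

variable {F : Type*} [Field F] {ι : Type} [Fintype ι] [DecidableEq ι] {Q : QuadraticForm F (ι → F)}

local notation "B" => QuadraticMap.polar ⇑Q
local notation "Mn" => Matrix ι ι F

theorem tri_of_half {U : Submodule F (ι → F)} (hU : Half Q U) (h3 : 3 ≤ finrank F U) : Tri Q := by
  obtain ⟨b⟩ : Nonempty (Basis (Fin (finrank F U)) F U) := ⟨Module.finBasis F U⟩
  let v : Fin 3 → (ι → F) := fun i => (b (Fin.castLE h3 i) : ι → F)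
  have hv : LinearIndependent F v := (b.linearIndependent.comp _ (Fin.castLE_injective h3)).map'
    U.subtype (Submodule.ker_subtype _)
  have li : ∀ s t u : F, s • v 0 + t • v 1 + u • v 2 = 0 → s = 0 ∧ t = 0 ∧ u = 0 := fun s t u h => by
    have := Fintype.linearIndependent_iff.1 hv ![s, t, u] (by simpa [Fin.sum_univ_three] using h)
    exact ⟨this 0, this 1, this 2⟩
  have hmem : ∀ i, v i ∈ U := fun i => (b _).2
  refine ⟨v 0, v 1, v 2, ⟨hU.1 _ (hmem 0), hU.1 _ (hmem 1), half_polar hU (hmem 0) (hmem 1),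
    fun s t h => ?_⟩, hU.1 _ (hmem 2), half_polar hU (hmem 0) (hmem 2), half_polar hU (hmem 1) (hmem 2), li⟩
  obtain ⟨h1, h2, -⟩ := li s t 0 (by rw [zero_smul, add_zero]; exact h)
  exact ⟨h1, h2⟩

variable [Fintype F] (hQ : (QuadraticMap.polarBilin Q).Nondegenerate) (hT : Tri Q)
include hQ hT

/-- Siegel elements lie in the kernel `Ω`. -/
theorem exists_siegel {e w : ι → F} (he : Q e = 0) (hew : B e w = 0) :
    ∃ t ∈ Geo.omegaGL ⇑Q, ∀ x, (t : Mn) *ᵥ x = x + B e x • w - B w x • e - (Q w * B e x) • e := by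
  refine ⟨_, Subgroup.mem_map_of_mem _ (sR_le_omega hQ hT (eOG_mem hQ hT ⟨he, hew⟩)), fun x => ?_⟩
  show eMat Q e w *ᵥ x = _
  rw [eMat_mulVec]

/-- `Ω` preserves the class of a maximal totally singular subspace. -/
theorem sign_omega {g : GL ι F} (hg : g ∈ Geo.omegaGL ⇑Q) {U : Submodule F (ι → F)} (hU : Half Q U) :
    Half Q (imageSubmodule (g : Mn) U) ∧
      Even (finrank F U + finrank F ↥(U ⊓ imageSubmodule (g : Mn) U)) := by
  obtain ⟨k, hk, rfl⟩ := Subgroup.mem_map.1 hg
  have hd : dick k = 1 := (Abelianization.commutator_subset_ker (dickHom hQ hT)) hk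
  have h1 := pSign_image hQ hT hU hU k
  rw [hd, pSign_self, mul_one, pSign] at h1
  refine ⟨half_image_og k hU, ?_⟩
  show Even (finrank F U + finrank F ↥(U ⊓ imageSubmodule (ogVal k) U))
  rcases Nat.even_or_odd (finrank F U + finrank F ↥(U ⊓ imageSubmodule (ogVal k) U)) with h | h
  · exact h
  · rw [h.neg_one_pow] at h1
    exact absurd h1 (by decide)

/-- The stabiliser of a totally singular subspace of one less than half the dimension is not maximal. -/
theorem nearly_half_not_maximal {U₀ : Submodule F (ι → F)} (hU₀ : Half Q U₀) {W : Submodule F (ι → F)}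
    (hW : ∀ w ∈ W, Q w = 0) (hdim : 2 * (finrank F W + 1) = Fintype.card ι) (h3 : 3 ≤ finrank F U₀) :
    ∃ K : Subgroup (GL ι F), subspaceStabilizer W ⊓ Geo.omegaGL ⇑Q < K ∧ K < Geo.omegaGL ⇑Q := by
  have hWB : ∀ x ∈ W, ∀ y ∈ W, B x y = 0 := fun x hx y hy => MaxTv.polar_zero_of_sing hW hx hy
  have hd0 := hU₀.2
  -- a singular vector orthogonal to the subspace and outside it
  obtain ⟨x, hxU, hxW, hxperp⟩ : ∃ x ∈ U₀, x ∉ W ∧ ∀ w ∈ W, B w x = 0 := by
    by_contra hno
    push Not at hno
    have hle : LinearMap.BilinForm.orthogonal (QuadraticMap.polarBilin Q) (U₀ ⊔ W) ≤ U₀ ⊓ W := by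
      intro y hy
      have hyU : y ∈ U₀ := half_orth hQ hU₀ fun u hu => hy u (Submodule.mem_sup_left hu)
      refine ⟨hyU, ?_⟩
      by_contra hyW
      obtain ⟨w, hw, hne⟩ := hno y hyU hyW
      exact hne (hy w (Submodule.mem_sup_right hw))
    have h1 := Submodule.finrank_mono hle
    rw [LinearMap.BilinForm.finrank_orthogonal hQ, Module.finrank_pi] at h1
    have := Submodule.finrank_sup_add_finrank_inf_eq U₀ W
    omega
  have hx0 : Q x = 0 := hU₀.1 x hxU
  set U := W ⊔ Submodule.span F {x}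
  have hxmem : x ∈ U := Submodule.mem_sup_right (Submodule.mem_span_singleton_self x)
  have hU : Half Q U := by
    refine ⟨fun u hu => ?_, ?_⟩
    · obtain ⟨w, hw, z, hz, rfl⟩ := Submodule.mem_sup.1 hu
      obtain ⟨c, rfl⟩ := Submodule.mem_span_singleton.1 hz
      rw [OrthAut.quad_add, hW w hw, QuadraticMap.map_smul, hx0, QuadraticMap.polar_smul_right, hxperp w hw]
      simp
    · rw [Submodule.finrank_sup_span_singleton hxW]; exact hdim
  have hfin : finrank F U = finrank F W + 1 := Submodule.finrank_sup_span_singleton hxW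
  have hle : subspaceStabilizer W ⊓ Geo.omegaGL ⇑Q ≤ subspaceStabilizer U := by
    intro g hg
    obtain ⟨hH, hev⟩ := sign_omega hQ hT hg.2 hU
    have hWle : W ≤ U ⊓ imageSubmodule (g : Mn) U := by
      intro w hw
      refine ⟨Submodule.mem_sup_left hw, mem_imageSubmodule.2 ⟨((g⁻¹ : GL ι F) : Mn) *ᵥ w,
        Submodule.mem_sup_left ((MaxTv.mem_subspaceStabilizer_iff W g⁻¹).1 (inv_mem hg.1) w hw), ?_⟩⟩
      rw [Matrix.mulVec_mulVec, Units.mul_inv, Matrix.one_mulVec]
    have h1 := Submodule.finrank_mono hWle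
    have h2 : finrank F ↥(U ⊓ imageSubmodule (g : Mn) U) ≤ finrank F U := Submodule.finrank_mono inf_le_left
    have h4 : finrank F ↥(U ⊓ imageSubmodule (g : Mn) U) = finrank F U := by
      rw [Nat.even_iff] at hev
      omega
    have h5 : U ⊓ imageSubmodule (g : Mn) U = U := Submodule.eq_of_le_of_finrank_eq inf_le_left h4
    have h6 : U = imageSubmodule (g : Mn) U :=
      Submodule.eq_of_le_of_finrank_eq (le_of_eq_of_le h5.symm inf_le_right) (by rw [finrank_imageSubmodule])
    refine (MaxTv.mem_subspaceStabilizer_iff U g).2 fun u hu => ?_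
    rw [h6]
    exact mem_imageSubmodule.2 ⟨u, hu, rfl⟩
  obtain ⟨u, hu, hu0⟩ := Submodule.exists_mem_ne_zero_of_ne_bot (p := W) fun h => by
    rw [h, finrank_bot] at hdim
    omega
  refine Asch.exists_between hle ?_ fun hall => ?_
  · obtain ⟨w, hxw, huw⟩ : ∃ w, B x w = 0 ∧ B u w ≠ 0 := by
      by_contra hno
      push Not at hno
      obtain ⟨z, hz⟩ : ∃ z, B x z ≠ 0 := by
        by_contra h
        push Not at h
        exact hxW (by rw [show x = 0 from hQ.1 x h]; exact zero_mem _)
      set c := B u z / B x z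
      have h0 : u - c • x = 0 := hQ.1 _ fun y => by
        show B (u - c • x) y = 0
        have h1 := hno (y - (B x y / B x z) • z) (by
          rw [QuadraticMap.polar_sub_right, QuadraticMap.polar_smul_right, smul_eq_mul, div_mul_cancel₀ _ hz, sub_self])
        rw [QuadraticMap.polar_sub_right, QuadraticMap.polar_smul_right, smul_eq_mul] at h1
        rw [QuadraticMap.polar_sub_left, QuadraticMap.polar_smul_left, smul_eq_mul]
        simp only [c]
        field_simp at h1 ⊢
        linear_combination h1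
      rw [sub_eq_zero] at h0
      rcases eq_or_ne c 0 with hc | hc
      · exact hu0 (by rw [h0, hc, zero_smul])
      · exact hxW ((Submodule.smul_mem_iff _ hc).1 (h0 ▸ hu))
    obtain ⟨t, ht, htx⟩ := exists_siegel hQ hT hx0 hxw
    refine ⟨t, ⟨(MaxTv.mem_subspaceStabilizer_iff U t).2 fun y hy => ?_, ht⟩, fun h => ?_⟩
    · rw [htx, half_polar hU hxmem hy]
      simpa using U.sub_mem hy (U.smul_mem _ hxmem)
    · have h1 := (MaxTv.mem_subspaceStabilizer_iff W t).1 h u hu
      rw [htx, half_polar hU hxmem (Submodule.mem_sup_left hu)] at h1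
      simp only [zero_smul, add_zero, mul_zero, sub_zero, Submodule.sub_mem_iff_right _ hu] at h1
      rw [QuadraticMap.polar_comm] at h1
      exact hxW ((Submodule.smul_mem_iff _ huw).1 h1)
  · obtain ⟨e, he, hxe⟩ : ∃ e, Q e = 0 ∧ B x e ≠ 0 := by
      obtain ⟨z, hz⟩ : ∃ z, B x z ≠ 0 := by
        by_contra h
        push Not at h
        exact hxW (by rw [show x = 0 from hQ.1 x h]; exact zero_mem _)
      obtain ⟨z', h1⟩ : ∃ z', B x z' = 1 :=
        ⟨(B x z)⁻¹ • z, by rw [QuadraticMap.polar_smul_right, smul_eq_mul, inv_mul_cancel₀ hz]⟩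
      refine ⟨z' - Q z' • x, ?_, ?_⟩
      · rw [sub_eq_add_neg, ← neg_smul, OrthAut.quad_add, QuadraticMap.map_smul, hx0, QuadraticMap.polar_smul_right,
          QuadraticMap.polar_comm, h1]
        simp
      · rw [QuadraticMap.polar_sub_right, QuadraticMap.polar_smul_right, h1, half_polar hU hxmem hxmem]
        simp
    have heU : e ∉ U := fun h => hxe (half_polar hU hxmem h)
    obtain ⟨v, hv, hv0, hve⟩ : ∃ v ∈ U, v ≠ 0 ∧ B e v = 0 := by
      have h1 := MaxTv.finrank_le_inf_ker_add_one U (QuadraticMap.polarBilin Q e)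
      obtain ⟨v, hv, hv0⟩ := Submodule.exists_mem_ne_zero_of_ne_bot
        (p := U ⊓ LinearMap.ker (QuadraticMap.polarBilin Q e)) fun h => by
          rw [h, finrank_bot, hfin] at h1
          omega
      exact ⟨v, hv.1, hv0, hv.2⟩
    obtain ⟨w, hew, hvw⟩ : ∃ w, B e w = 0 ∧ B v w ≠ 0 := by
      by_contra hno
      push Not at hno
      obtain ⟨z, hz⟩ : ∃ z, B e z ≠ 0 := ⟨x, by rwa [QuadraticMap.polar_comm]⟩
      set c := B v z / B e z
      have h0 : v - c • e = 0 := hQ.1 _ fun y => by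
        show B (v - c • e) y = 0
        have h1 := hno (y - (B e y / B e z) • z) (by
          rw [QuadraticMap.polar_sub_right, QuadraticMap.polar_smul_right, smul_eq_mul, div_mul_cancel₀ _ hz, sub_self])
        rw [QuadraticMap.polar_sub_right, QuadraticMap.polar_smul_right, smul_eq_mul] at h1
        rw [QuadraticMap.polar_sub_left, QuadraticMap.polar_smul_left, smul_eq_mul]
        simp only [c]
        field_simp at h1 ⊢
        linear_combination h1
      rw [sub_eq_zero] at h0
      rcases eq_or_ne c 0 with hc | hc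
      · exact hv0 (by rw [h0, hc, zero_smul])
      · exact heU ((Submodule.smul_mem_iff _ hc).1 (h0 ▸ hv))
    obtain ⟨t, ht, htx⟩ := exists_siegel hQ hT he hew
    have h1 := (MaxTv.mem_subspaceStabilizer_iff U t).1 (hall ht) v hv
    rw [htx, hve] at h1
    simp only [zero_smul, add_zero, mul_zero, sub_zero, Submodule.sub_mem_iff_right _ hv] at h1
    rw [QuadraticMap.polar_comm] at h1
    exact heU ((Submodule.smul_mem_iff _ hvw).1 h1)

/-- With halves of odd dimension a stabiliser of the pair fixes each of them. -/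
theorem odd_pair_not_maximal {k : ℕ} (hk : Odd k) (hk3 : 3 ≤ k) {D : Fin 2 → Submodule F (ι → F)}
    (hD : IsMDecomposition k D) (hts : ∀ i, ∀ x ∈ D i, Q x = 0) (hn : 2 * k = Fintype.card ι) :
    ∃ K : Subgroup (GL ι F), decompositionStabilizer D ⊓ Geo.omegaGL ⇑Q < K ∧ K < Geo.omegaGL ⇑Q := by
  have hH : ∀ i, Half Q (D i) := fun i => ⟨hts i, by rw [hD.finrank_eq]; exact hn⟩
  have hdis : D 0 ⊓ D 1 = ⊥ := by
    refine (Submodule.eq_bot_iff _).2 fun x hx => Submodule.disjoint_def.1 (hD.indep 0) x hx.1 ?_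
    exact Submodule.mem_iSup_of_mem 1 (Submodule.mem_iSup_of_mem (by decide) hx.2)
  have hle : decompositionStabilizer D ⊓ Geo.omegaGL ⇑Q ≤ subspaceStabilizer (D 0) := by
    intro g hg
    obtain ⟨σ, hσ⟩ := hg.1
    have himg : imageSubmodule (g : Mn) (D 0) = D (σ 0) := hσ 0
    obtain ⟨-, hev⟩ := sign_omega hQ hT hg.2 (hH 0)
    rw [himg] at hev
    obtain h | h := Fin.exists_fin_two.1 ⟨σ 0, rfl⟩
    · refine (MaxTv.mem_subspaceStabilizer_iff _ g).2 fun u hu => ?_
      have h1 : (g : Mn) *ᵥ u ∈ D (σ 0) := by rw [← himg]; exact mem_imageSubmodule.2 ⟨u, hu, rfl⟩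
      rwa [h] at h1
    · rw [h, hdis, finrank_bot, add_zero, hD.finrank_eq] at hev
      exact absurd hev (Nat.not_even_iff_odd.2 hk)
  have hrank : ∀ i, 2 ≤ finrank F (D i) := fun i => by rw [hD.finrank_eq]; omega
  obtain ⟨e, he, he0⟩ := Submodule.exists_mem_ne_zero_of_ne_bot (p := D 0) fun h => by
    have := hrank 0; rw [h, finrank_bot] at this; omega
  obtain ⟨w, hw, hwe⟩ : ∃ w ∈ D 0, w ∉ Submodule.span F {e} := by
    by_contra h
    push Not at h
    have h1 := Submodule.finrank_mono (show D 0 ≤ Submodule.span F {e} from h)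
    rw [finrank_span_singleton he0] at h1
    have := hrank 0
    omega
  have hw0 : w ≠ 0 := fun h => hwe (by rw [h]; exact zero_mem _)
  obtain ⟨y, hy, hwy⟩ : ∃ y ∈ D 1, B w y ≠ 0 := by
    by_contra hno
    push Not at hno
    have h1 : w ∈ D 1 := half_orth hQ (hH 1) fun u hu => by rw [QuadraticMap.polar_comm]; exact hno u hu
    have h2 : w ∈ D 0 ⊓ D 1 := ⟨hw, h1⟩
    rw [hdis, Submodule.mem_bot] at h2
    exact hw0 h2
  obtain ⟨t, ht, htx⟩ := exists_siegel hQ hT (hts 0 e he) (half_polar (hH 0) he hw)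
  refine Asch.exists_between hle ⟨t, ⟨(MaxTv.mem_subspaceStabilizer_iff _ t).2 fun u hu => ?_, ht⟩, ?_⟩ ?_
  · rw [htx, half_polar (hH 0) he hu, half_polar (hH 0) hw hu]
    simpa using hu
  · rintro ⟨σ, hσ⟩
    have h1 : (t : Mn) *ᵥ y ∈ D (σ 1) := hσ 1 ▸ ⟨y, hy, Matrix.toLin'_apply _ _⟩
    rw [htx, hts 0 w hw, zero_mul, zero_smul, sub_zero, add_sub_assoc] at h1
    have hin : B e y • w - B w y • e ∈ D 0 := (D 0).sub_mem ((D 0).smul_mem _ hw) ((D 0).smul_mem _ he)
    obtain h | h := Fin.exists_fin_two.1 ⟨σ 1, rfl⟩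
    · rw [h, Submodule.add_mem_iff_left _ hin] at h1
      have h2 : y ∈ D 0 ⊓ D 1 := ⟨h1, hy⟩
      rw [hdis, Submodule.mem_bot] at h2
      exact hwy (by rw [h2, QuadraticMap.polar_zero_right])
    · rw [h, Submodule.add_mem_iff_right _ hy] at h1
      have h2 : B e y • w - B w y • e ∈ D 0 ⊓ D 1 := ⟨hin, h1⟩
      rw [hdis, Submodule.mem_bot, sub_eq_zero] at h2
      rcases eq_or_ne (B e y) 0 with h3 | h3
      · rw [h3, zero_smul, eq_comm, smul_eq_zero] at h2
        exact h2.elim hwy he0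
      · exact hwe ((Submodule.smul_mem_iff _ h3).1 (h2 ▸ Submodule.smul_mem _ _ (Submodule.mem_span_singleton_self e)))
  · intro hall
    obtain ⟨a, ha, ha0⟩ := Submodule.exists_mem_ne_zero_of_ne_bot (p := D 1) fun h => by
      have := hrank 1; rw [h, finrank_bot] at this; omega
    obtain ⟨b, hb, hba⟩ : ∃ b ∈ D 1, b ∉ Submodule.span F {a} := by
      by_contra h
      push Not at h
      have h1 := Submodule.finrank_mono (show D 1 ≤ Submodule.span F {a} from h)
      rw [finrank_span_singleton ha0] at h1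
      have := hrank 1
      omega
    obtain ⟨x, hx, hbx⟩ : ∃ x ∈ D 0, B b x ≠ 0 := by
      by_contra hno
      push Not at hno
      have h1 : b ∈ D 0 := half_orth hQ (hH 0) fun u hu => by rw [QuadraticMap.polar_comm]; exact hno u hu
      have h2 : b ∈ D 0 ⊓ D 1 := ⟨h1, hb⟩
      rw [hdis, Submodule.mem_bot] at h2
      exact hba (by rw [h2]; exact zero_mem _)
    obtain ⟨s, hs, hsx⟩ := exists_siegel hQ hT (hts 1 a ha) (half_polar (hH 1) ha hb)
    have h1 := (MaxTv.mem_subspaceStabilizer_iff _ s).1 (hall hs) x hx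
    rw [hsx, hts 1 b hb, zero_mul, zero_smul, sub_zero, add_sub_assoc, Submodule.add_mem_iff_right _ hx] at h1
    have hin : B a x • b - B b x • a ∈ D 1 := (D 1).sub_mem ((D 1).smul_mem _ hb) ((D 1).smul_mem _ ha)
    have h2 : B a x • b - B b x • a ∈ D 0 ⊓ D 1 := ⟨h1, hin⟩
    rw [hdis, Submodule.mem_bot, sub_eq_zero] at h2
    rcases eq_or_ne (B a x) 0 with h3 | h3
    · rw [h3, zero_smul, eq_comm, smul_eq_zero] at h2
      exact h2.elim hbx ha0
    · exact hba ((Submodule.smul_mem_iff _ h3).1 (h2 ▸ Submodule.smul_mem _ _ (Submodule.mem_span_singleton_self a)))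

end Cfsg.Agent.Classical.AschOrthTwo
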