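import Cfsg.Agent.Lib.Classical.AschEven
import Cfsg.Agent.Lib.Classical.AschEvenProper
import Cfsg.Agent.Lib.Classical.AschEvenSmall
import Cfsg.Agent.Lib.Classical.AschEvenFive
import Cfsg.Agent.Lib.Classical.AschEvenProduct
import Cfsg.Agent.Lib.Classical.AschOrthProper
import Cfsg.Agent.Lib.Classical.AschOrthPlane
import Cfsg.Agent.Lib.Classical.AschOrthNonMax

/-!
Case analysis shared by the ten- and twelve-dimensional orthogonal groups.
-/

set_option autoImplicit false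
set_option linter.unusedSectionVars false
set_option linter.unusedFintypeInType false
set_option linter.unusedDecidableInType false
set_option quotPrecheck false

namespace Cfsg.Agent.Classical.AschEven

open Matrix Module Cfsg.Geo

variable {F : Type*} [Field F] [Fintype F] {ι : Type} [Fintype ι] [DecidableEq ι] {Q : QuadraticForm F (ι → F)}
  {H : Subgroup (GL ι F)}

local notation "Mn" => Matrix ι ι F
local notation "B" => QuadraticMap.polar ⇑Q

theorem odd_of_two_ne (h2 : (2 : F) ≠ 0) : Odd (Fintype.card F) := by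
  refine Nat.odd_iff.2 (FiniteField.odd_card_of_char_ne_two fun h => h2 ?_)
  have h1 : ((ringChar F : ℕ) : F) = 0 := ringChar.Nat.cast_ringChar
  rw [h] at h1; exact_mod_cast h1

theorem card_ne_six : Fintype.card F ≠ 6 := fun h => by
  have h1 := FiniteField.isPrimePow_card F
  rw [h, isPrimePow_nat_iff_bounded] at h1
  revert h1; decide

theorem mod_four_of_square (h2 : (2 : F) ≠ 0) (h : ¬ IsSquare (-1 : F)) : Fintype.card F % 4 = 3 := by
  have h1 : Fintype.card F % 4 ≠ 1 := fun h' => h ((EvenType.neg_one_square_iff h2).2 h')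
  have := Nat.odd_iff.1 (odd_of_two_ne h2)
  omega

theorem not_prime_pow_of {r : ℕ} (hr : r.Prime) {F₁ : Subfield F} (hc : Fintype.card F = Nat.card F₁ ^ r) :
    F₁ ≠ ⊤ := by
  intro ht
  subst ht
  rw [Nat.card_congr (Equiv.subtypeUnivEquiv fun x => Subfield.mem_top x), Nat.card_eq_fintype_card] at hc
  have h1 : (Fintype.card F) ^ 1 < Fintype.card F ^ r := Nat.pow_lt_pow_right Fintype.one_lt_card hr.one_lt
  rw [pow_one, ← hc] at h1
  exact lt_irrefl _ h1

theorem absurd_between {M K : Subgroup (GL ι F)} (hH : IsMaximalIn (Geo.omegaGL ⇑Q) H) (hle : H ≤ M)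
    (h1 : M < K) (h2 : K < Geo.omegaGL ⇑Q) : False := by
  rcases hH.2 K (hle.trans h1.le) h2.le with h | h
  · exact h1.not_ge (h ▸ hle)
  · exact h2.ne h

theorem det_one_of_omega {g : GL ι F} (hg : g ∈ Geo.omegaGL ⇑Q) : (g : Mn).det = 1 := by
  obtain ⟨x, hx, rfl⟩ := hg
  exact OrthAut.det_omega hx

theorem not_irr_of_stab (hirr : Asch.Irr H) {W : Submodule F (ι → F)} (h0 : W ≠ ⊥) (ht : W ≠ ⊤)
    (hle : H ≤ subspaceStabilizer W) : False :=
  (Asch.irr_iff.1 hirr W fun g hg => (MaxTv.mem_subspaceStabilizer_iff W g).1 (hle hg)).elim h0 ht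

theorem not_irr_of_span (hirr : Asch.Irr H) (hn : 2 ≤ Fintype.card ι) {v : ι → F} (hv : v ≠ 0)
    (hle : H ≤ subspaceStabilizer (Submodule.span F {v})) : False := by
  refine not_irr_of_stab hirr (by simpa using hv) (fun h => ?_) hle
  have h1 := finrank_top F (ι → F)
  rw [← h, finrank_span_singleton hv, Module.finrank_pi] at h1
  omega

theorem omega_le_iso : Geo.omegaGL ⇑Q ≤ isometryGroup F ⇑Q := Subgroup.map_subtype_le _

/-- A maximal reducible subgroup of `Ω`. -/
theorem reducible_cases (hQ : (QuadraticMap.polarBilin Q).Nondegenerate) (h7 : 7 ≤ Fintype.card ι) [Nonempty ι]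
    (hH : IsMaximalIn (Geo.omegaGL ⇑Q) H) (hirr : ¬ Asch.Irr H) :
    (∃ U : Submodule F (ι → F), U ≠ ⊥ ∧ IsTotallySingularQuad ⇑Q U ∧
        H = subspaceStabilizer U ⊓ Geo.omegaGL ⇑Q) ∨
    (¬ Odd (Fintype.card F) ∧ ∃ v : ι → F, Q v ≠ 0 ∧
        H = subspaceStabilizer (Submodule.span F {v}) ⊓ Geo.omegaGL ⇑Q) ∨
    (Odd (Fintype.card F) ∧ ∃ W : Submodule F (ι → F), W ≠ ⊥ ∧ W ≠ ⊤ ∧ Odd (finrank F W) ∧
        2 * finrank F W ≤ Fintype.card ι ∧ IsNondegenerateOn B W ∧ H = subspaceStabilizer W ⊓ Geo.omegaGL ⇑Q) ∨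
    (∃ W : Submodule F (ι → F), finrank F W = 2 ∧ IsNondegenerateOn B W ∧ ¬ IsPlusTypeOn ⇑Q W ∧
        H = subspaceStabilizer W ⊓ Geo.omegaGL ⇑Q) ∨
    (4 ≤ Fintype.card F ∧ ∃ W : Submodule F (ι → F), finrank F W = 2 ∧ IsNondegenerateOn B W ∧
        IsPlusTypeOn ⇑Q W ∧ H = subspaceStabilizer W ⊓ Geo.omegaGL ⇑Q) ∨
    (∃ W : Submodule F (ι → F), W ≠ ⊥ ∧ W ≠ ⊤ ∧ Even (finrank F W) ∧ 4 ≤ finrank F W ∧
        2 * finrank F W ≤ Fintype.card ι ∧ IsNondegenerateOn B W ∧ H = subspaceStabilizer W ⊓ Geo.omegaGL ⇑Q) := by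
  have hiso : H ≤ isometryGroup F ⇑Q := hH.1.le.trans omega_le_iso
  have hsub : ∀ W : Submodule F (ι → F), W ≠ ⊥ → W ≠ ⊤ → H ≤ subspaceStabilizer W →
      H = subspaceStabilizer W ⊓ Geo.omegaGL ⇑Q := fun W h1 h2 hle =>
    AschOrthTwo.omega_eq_inter hH hle (AschOrthTwo.not_omega_le_subspace hQ h7 h1 h2)
  rcases reducible_even hQ hiso hirr with ⟨U, h0, hU, hle⟩ | ⟨h2, v, hv, hle⟩ | ⟨W, h0, hW, hd, hle⟩
  · exact Or.inl ⟨U, h0, hU, hsub U h0 (ts_ne_top hQ hU) hle⟩
  · have hv0 : v ≠ 0 := fun h => hv (by rw [h, QuadraticMap.map_zero])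
    refine Or.inr (Or.inl ⟨fun hodd => ?_, v, hv, hsub _ (by simpa using hv0) (fun h => ?_) hle⟩)
    · exact AschOrthTwo.two_ne_zero_of_odd_card hodd h2
    · have h1 := finrank_top F (ι → F)
      rw [← h, finrank_span_singleton hv0, Module.finrank_pi] at h1
      omega
  have hWt : W ≠ ⊤ := fun h => by
    rw [h, finrank_top, Module.finrank_pi] at hd
    omega
  have hpos : 0 < finrank F W := Nat.pos_of_ne_zero fun h => h0 (Submodule.finrank_eq_zero.1 h)
  have heq := hsub W h0 hWt hle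
  rcases Nat.even_or_odd (finrank F W) with hev | hod
  · by_cases h4 : 4 ≤ finrank F W
    · exact Or.inr (Or.inr (Or.inr (Or.inr (Or.inr ⟨W, h0, hWt, hev, h4, hd, hW, heq⟩))))
    obtain ⟨j, hj⟩ := hev
    have h2 : finrank F W = 2 := by omega
    by_cases hp : IsPlusTypeOn (⇑Q) W
    · by_cases hq : 4 ≤ Fintype.card F
      · exact Or.inr (Or.inr (Or.inr (Or.inr (Or.inl ⟨hq, W, h2, hW, hp, heq⟩))))
      · obtain ⟨K, hK, hKlt⟩ := AschOrthTwo.plane_not_maximal (by omega) hQ h7 h2 hW hp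
        exact (absurd_between hH heq.le hK hKlt).elim
    · exact Or.inr (Or.inr (Or.inr (Or.inl ⟨W, h2, hW, hp, heq⟩)))
  · exact Or.inr (Or.inr (Or.inl ⟨odd_card_of_odd hod hW, W, h0, hWt, hod, hd, hW, heq⟩))

/-- The stabiliser of a half-dimensional non-degenerate subspace permutes it and its complement. -/
theorem half_pair (hQ : (QuadraticMap.polarBilin Q).Nondegenerate) {k : ℕ} (hn : 2 * k = Fintype.card ι)
    (hk : 0 < k) (hH : H ≤ isometryGroup F ⇑Q) {W : Submodule F (ι → F)} (hW : IsNondegenerateOn B W)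
    (hd : finrank F W = k) (hle : H ≤ subspaceStabilizer W) :
    ∃ D : Fin 2 → Submodule F (ι → F), IsNondegenerateMDecomposition B k D ∧
      H ≤ decompositionStabilizer D := by
  have htop : IsNondegenerateOn B (⊤ : Submodule F (ι → F)) := fun w _ hw => by
    obtain ⟨x, hx⟩ := nd_left hQ hw
    exact ⟨⟨x, trivial, by rwa [QuadraticMap.polar_comm]⟩, x, trivial, hx⟩
  obtain ⟨W', -, hmem, hW', -, -, hdim⟩ := exists_complement hQ htop hW le_top
  rw [finrank_top, Module.finrank_pi, hd, ← hn] at hdim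
  refine ⟨![W, W'], mk_decomp le_rfl hk (fun i => ?_) (fun i => ?_) (fun i j hij => ?_) hn, fun g hg =>
    ⟨1, fun i => ?_⟩⟩
  · fin_cases i
    · exact hd
    · show finrank F W' = k
      omega
  · fin_cases i
    · simpa using hW
    · simpa using hW'
  · fin_cases i <;> fin_cases j <;> first
      | exact absurd rfl hij
      | (intro u hu v hv; simp at hu hv; first
          | exact ((hmem u).1 hu).2 v hv
          | (rw [QuadraticMap.polar_comm]; exact ((hmem v).1 hv).2 u hu))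
  · have hWi : ∀ h ∈ H, ∀ x ∈ W, (h : Mn) *ᵥ x ∈ W := fun h hh => (MaxTv.mem_subspaceStabilizer_iff W h).1 (hle hh)
    have hW'i : ∀ x ∈ W', (g : Mn) *ᵥ x ∈ W' := fun x hx => by
      refine (hmem _).2 ⟨trivial, fun p hp => ?_⟩
      have h1 : (g : Mn) *ᵥ (((g⁻¹ : GL ι F) : Mn) *ᵥ p) = p := by
        rw [Matrix.mulVec_mulVec, Units.mul_inv, Matrix.one_mulVec]
      rw [← h1, polar_iso (iso_of_le hH hg)]
      exact ((hmem x).1 hx).2 _ (hWi g⁻¹ (inv_mem hg) p hp)
    have key : ∀ U : Submodule F (ι → F), (∀ x ∈ U, (g : Mn) *ᵥ x ∈ U) → U.map (Matrix.toLin' (g : Mn)) = U := by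
      intro U hU
      refine Submodule.eq_of_le_of_finrank_eq ?_ ?_
      · rintro _ ⟨x, hx, rfl⟩
        rw [Matrix.toLin'_apply]; exact hU x hx
      · exact ((Submodule.equivMapOfInjective (Matrix.toLin' (g : Mn))
          (fun x y hxy => MaxTv.gl_mulVec_injective g (by simpa using hxy)) U).finrank_eq).symm
    fin_cases i
    · simpa using key W (hWi g hg)
    · simpa using key W' hW'i

theorem ortho_pair {k : ℕ} {D : Fin 2 → Submodule F (ι → F)} (hD : IsNondegenerateMDecomposition B k D)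
    (h : AreIsometricFor ⇑Q (D 0) (D 1)) : IsOrthogonalMDecomposition (⇑Q) k D := by
  refine ⟨hD, fun i j => ?_⟩
  obtain ⟨φ, hφ⟩ := h
  fin_cases i <;> fin_cases j
  · exact ⟨LinearEquiv.refl F _, fun _ => rfl⟩
  · exact ⟨φ, hφ⟩
  · exact ⟨φ.symm, fun w => by simpa using (hφ (φ.symm w)).symm⟩
  · exact ⟨LinearEquiv.refl F _, fun _ => rfl⟩

/-- In a space of plus type two orthogonal halves of even dimension are isometric. -/
theorem pair_isometric (hQ : (QuadraticMap.polarBilin Q).Nondegenerate) {j : ℕ}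
    {D : Fin 2 → Submodule F (ι → F)} (hD : IsNondegenerateMDecomposition B (2 * (j + 1)) D)
    (hp : IsPlusTypeOn ⇑Q (⊤ : Submodule F (ι → F))) : AreIsometricFor ⇑Q (D 0) (D 1) := by
  have hsup : D 0 ⊔ D 1 = ⊤ := by
    rw [← hD.decomp.iSup_eq_top]
    refine le_antisymm (sup_le (le_iSup D 0) (le_iSup D 1)) (iSup_le fun i => ?_)
    fin_cases i
    · exact le_sup_left
    · exact le_sup_right
  have hinf : D 0 ⊓ D 1 = ⊥ := (hD.decomp.indep.pairwiseDisjoint (by decide : (0 : Fin 2) ≠ 1)).eq_bot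
  have htop : IsNondegenerateOn B (⊤ : Submodule F (ι → F)) := fun w _ hw => by
    obtain ⟨x, hx⟩ := nd_left hQ hw
    exact ⟨⟨x, trivial, by rwa [QuadraticMap.polar_comm]⟩, x, trivial, hx⟩
  have h1 := EvenType.plus_sub hsup hinf (hD.orthogonal 0 1 (by decide)) (EvenType.nondeg_res_on htop)
    (hD.decomp.finrank_eq 0) (hD.decomp.finrank_eq 1)
  obtain ⟨φ, hφ⟩ := EvenType.iso_of_type (EvenType.nondeg_res_on (hD.nondegenerate 0))
    (EvenType.nondeg_res_on (hD.nondegenerate 1)) (hD.decomp.finrank_eq 0) (hD.decomp.finrank_eq 1)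
    (h1.1 ((EvenType.plus_res_iff _).2 hp))
  exact EvenType.isometric_of_res hφ

/-- A transitively permuted orthogonal decomposition. -/
theorem orth_decomp_data (hH : H ≤ isometryGroup F ⇑Q)
    (h : Asch.OrthDecomp (RingEquiv.refl F) (gQ Q) H) :
    ∃ (t k : ℕ) (D : Fin t → Submodule F (ι → F)), t * k = Fintype.card ι ∧ IsOrthogonalMDecomposition (⇑Q) k D ∧
      H ≤ decompositionStabilizer D := by
  obtain ⟨t, k, D, hD, hle, htr⟩ := h
  rw [form_eq] at hD
  refine ⟨t, k, D, MaxMon.decomp_card hD.decomp, ⟨hD, fun i j => ?_⟩, hle⟩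
  obtain ⟨g, hg, hgij⟩ := htr i j
  exact ⟨(Submodule.equivMapOfInjective _ (fun x y hxy => MaxTv.gl_mulVec_injective g (by simpa using hxy))
    (D i)).trans (LinearEquiv.ofEq _ _ hgij), fun w => iso_of_le hH hg w.1⟩

/-- `Ω` permutes no non-degenerate decomposition. -/
theorem not_omega_le_parts (hQ : (QuadraticMap.polarBilin Q).Nondegenerate) (hn : 8 ≤ Fintype.card ι) {t k : ℕ}
    {D : Fin t → Submodule F (ι → F)} (hD : IsNondegenerateMDecomposition B k D)
    (hiso : k = 2 → IsOrthogonalMDecomposition (⇑Q) k D) : ¬ Geo.omegaGL ⇑Q ≤ decompositionStabilizer D := by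
  by_cases h2 : (2 : F) = 0
  swap
  · exact AschOrthTwo.not_omega_le_decomp hQ (by omega) h2 hD
  by_cases hk : 3 ≤ k
  · exact not_omega_le_decomp_three hQ (by omega) hk hD.decomp
  have htk := MaxMon.decomp_card hD.decomp
  have hk0 := hD.decomp.pos
  obtain rfl : k = 2 := by
    by_contra hne
    obtain rfl : k = 1 := by omega
    exact AschOrthTwo.two_ne_zero_of_odd_card (odd_card_of_odd (by rw [hD.decomp.finrank_eq]; exact odd_one)
      (hD.nondegenerate ⟨0, by have := hD.decomp.two_le; omega⟩)) h2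
  exact not_omega_le_planes hQ (by omega) h2 (by omega) (hiso rfl)

theorem family_pow (hQ : (QuadraticMap.polarBilin Q).Nondegenerate) [Nonempty ι]
    (hH : H ≤ isometryGroup F ⇑Q) (h : Asch.FamilyMin (RingEquiv.refl F) (gQ Q) H) :
    ∃ k t, 2 ≤ k ∧ 2 ≤ t ∧ k ^ t = Fintype.card ι := by
  obtain ⟨N, t, T, hN, hNG, hT⟩ := h
  obtain ⟨k, e, P, D, hP, -⟩ := Asch.powerData_of_family (refl_gQ hQ) (fix_gQ hH) hNG hN hT
  exact ⟨k, t, hP.2.1, hP.1, by rw [Fintype.card_congr e, Fintype.card_fun, Fintype.card_fin, Fintype.card_fin]⟩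

theorem tensor_le {a b : ℕ} {e : ι ≃ Fin a × Fin b} {P : GL ι F} {C : Matrix (Fin a) (Fin a) F}
    {D : Matrix (Fin b) (Fin b) F} (h : Asch.TensorData (RingEquiv.refl F) (gQ Q) H e P C D) :
    H ≤ tensorProductSubgroup a b e P := fun g hg => by
  obtain ⟨A, C', u, hgv, -, -⟩ := h.sim g hg
  exact mem_tensor_of A C' hgv

end Cfsg.Agent.Classical.AschEven
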