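import Cfsg.Agent.Lib.Classical.AschEvenType

/-!
The type of a quadratic space with an orthogonal decomposition into isometric parts.
-/

set_option autoImplicit false
set_option linter.unusedSectionVars false
set_option linter.unusedFintypeInType false
set_option linter.unusedDecidableInType false
set_option quotPrecheck false
set_option maxHeartbeats 1000000
set_option synthInstance.maxHeartbeats 400000
set_option synthInstance.maxSize 4000

namespace Cfsg.Agent.Classical.EvenType

open Module Matrix Cfsg.Geo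

variable {F : Type*} [Field F] [Fintype F]

section Sub

variable {W : Type*} [AddCommGroup W] [Module F W] [FiniteDimensional F W] {Q : QuadraticForm F W} {S A B : Submodule F W}

omit [Fintype F] in
theorem sub_split (hA : A ≤ S) (hB : B ≤ S) (hsup : A ⊔ B = S) (hinf : A ⊓ B = ⊥)
    (horth : ∀ a ∈ A, ∀ b ∈ B, QuadraticMap.polar ⇑Q a b = 0) :
    Split (res Q S) (A.comap S.subtype) (B.comap S.subtype) := by
  refine ⟨?_, ?_, fun a ha b hb => by rw [polar_res]; exact horth _ ha _ hb⟩
  · rw [eq_top_iff]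
    rintro ⟨x, hx⟩ -
    obtain ⟨a, ha, b, hb, e⟩ := Submodule.mem_sup.1 (hsup.symm ▸ hx : x ∈ A ⊔ B)
    exact Submodule.mem_sup.2 ⟨⟨a, hA ha⟩, ha, ⟨b, hB hb⟩, hb, Subtype.ext e⟩
  · refine (Submodule.eq_bot_iff _).2 fun x hx => Subtype.ext ?_
    have h : (x : W) ∈ A ⊓ B := ⟨hx.1, hx.2⟩
    rwa [hinf, Submodule.mem_bot] at h

omit [Fintype F] in
/-- A Gram determinant agrees with another up to a square. -/
theorem gram_sq (R : QuadraticForm F W) {κ κ' : Type*} [Fintype κ]
    [DecidableEq κ] [Fintype κ'] [DecidableEq κ'] (c : Module.Basis κ F W) (c' : Module.Basis κ' F W) :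
    ∃ t : F, t ≠ 0 ∧ gramDet (QuadraticMap.polarBilin R) c' = t ^ 2 * gramDet (QuadraticMap.polarBilin R) c :=
  gramDet_change _ c c'

/-- The type of a sum of two orthogonal subspaces. -/
theorem plus_sub (hsup : A ⊔ B = S) (hinf : A ⊓ B = ⊥) (horth : ∀ a ∈ A, ∀ b ∈ B, QuadraticMap.polar ⇑Q a b = 0)
    (hS : (QuadraticMap.polarBilin (res Q S)).Nondegenerate) {a b : ℕ} (ha : finrank F A = 2 * (a + 1))
    (hb : finrank F B = 2 * (b + 1)) : Plus (res Q S) ↔ (Plus (res Q A) ↔ Plus (res Q B)) := by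
  have hA : A ≤ S := hsup ▸ le_sup_left
  have hB : B ≤ S := hsup ▸ le_sup_right
  let eA := Submodule.comapSubtypeEquivOfLe hA
  let eB := Submodule.comapSubtypeEquivOfLe hB
  rw [(sub_split hA hB hsup hinf horth).plus_iff hS (eA.finrank_eq.trans ha) (eB.finrank_eq.trans hb)]
  exact iff_congr ⟨Plus.map eA (fun _ => rfl), Plus.map eA.symm (fun _ => rfl)⟩
    ⟨Plus.map eB (fun _ => rfl), Plus.map eB.symm (fun _ => rfl)⟩

omit [Fintype F] in
/-- The Gram determinant of a sum of two orthogonal subspaces. -/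
theorem gram_sub (hsup : A ⊔ B = S) (hinf : A ⊓ B = ⊥) (horth : ∀ a ∈ A, ∀ b ∈ B, QuadraticMap.polar ⇑Q a b = 0) :
    ∃ v : F, v ≠ 0 ∧ gramDet (QuadraticMap.polarBilin (res Q S)) (Module.finBasis F S) =
      v ^ 2 * (gramDet (QuadraticMap.polarBilin (res Q A)) (Module.finBasis F A) *
        gramDet (QuadraticMap.polarBilin (res Q B)) (Module.finBasis F B)) := by
  have hA : A ≤ S := hsup ▸ le_sup_left
  have hB : B ≤ S := hsup ▸ le_sup_right
  let eA := Submodule.comapSubtypeEquivOfLe hA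
  let eB := Submodule.comapSubtypeEquivOfLe hB
  obtain ⟨c, hc⟩ := gramDet_split (sub_split hA hB hsup hinf horth) ((Module.finBasis F A).map eA.symm)
    ((Module.finBasis F B).map eB.symm)
  obtain ⟨v, hv, hv'⟩ := gram_sq (res Q S) c (Module.finBasis F S)
  refine ⟨v, hv, ?_⟩
  rw [hv', hc, gramDet_isometry (Q := res Q A) eA.symm (fun _ => rfl),
    gramDet_isometry (Q := res Q B) eB.symm (fun _ => rfl)]

end Sub

variable {ι : Type} [Fintype ι] [DecidableEq ι] {Q : QuadraticForm F (ι → F)}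

local notation "V" => (ι → F)

omit [Fintype F] in
theorem gram_iso {A B : Submodule F V} (h : AreIsometricFor (⇑Q) A B) :
    ∃ t : F, t ≠ 0 ∧ gramDet (QuadraticMap.polarBilin (res Q B)) (Module.finBasis F B) =
      t ^ 2 * gramDet (QuadraticMap.polarBilin (res Q A)) (Module.finBasis F A) := by
  obtain ⟨φ, hφ⟩ := h
  have h1 := gramDet_isometry (Q := res Q A) (Q' := res Q B) φ
    (fun v => by rw [res_apply, res_apply]; exact hφ v) (Module.finBasis F A)
  rw [← h1]
  exact gram_sq _ _ _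

/-- The partial sums of a decomposition. -/
def psum {t : ℕ} (D : Fin t → Submodule F V) (s : Finset (Fin t)) : Submodule F V := ⨆ i ∈ s, D i

theorem decomp_sum {t k : ℕ} (hk : 1 ≤ k) {D : Fin t → Submodule F V}
    (hD : IsOrthogonalMDecomposition (⇑Q) k D) (i₀ : Fin t) {s : Finset (Fin t)} (hs : s.Nonempty) :
    finrank F (psum D s) = k * s.card ∧
    IsNondegenerateOn (QuadraticMap.polar ⇑Q) (psum D s) ∧
    (∃ u : F, u ≠ 0 ∧ gramDet (QuadraticMap.polarBilin (res Q (psum D s))) (Module.finBasis F _) =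
      u ^ 2 * gramDet (QuadraticMap.polarBilin (res Q (D i₀))) (Module.finBasis F (D i₀)) ^ s.card) ∧
    (Even k → (Plus (res Q (psum D s)) ↔ (Plus (res Q (D i₀)) ∨ Even s.card))) := by
  classical
  induction hs using Finset.Nonempty.cons_induction with
  | singleton a =>
    have e : psum D {a} = D a := by simp [psum]
    rw [e, Finset.card_singleton, mul_one]
    refine ⟨hD.decomp.decomp.finrank_eq a, hD.decomp.nondegenerate a, ?_, fun _ => ?_⟩
    · obtain ⟨u, hu, h⟩ := gram_iso (hD.isometric i₀ a)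
      exact ⟨u, hu, by rw [pow_one]; exact h⟩
    · rw [plus_res_iff, plus_res_iff]
      simp only [Nat.not_even_one, or_false]
      exact ⟨plus_of_isometric (hD.isometric a i₀), plus_of_isometric (hD.isometric i₀ a)⟩
  | cons a s ha hs ih =>
    obtain ⟨hdim, hnd, ⟨u, hu, hg⟩, hp⟩ := ih
    set S := psum D (Finset.cons a s ha) with hS
    have hA : D a ≤ S := le_iSup₂ (f := fun i (_ : i ∈ Finset.cons a s ha) => D i) a (Finset.mem_cons_self a s)
    have hB : psum D s ≤ S := iSup₂_le fun i hi =>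
      le_iSup₂ (f := fun i (_ : i ∈ Finset.cons a s ha) => D i) i (Finset.mem_cons_of_mem hi)
    have hsup : D a ⊔ psum D s = S := by
      refine le_antisymm (sup_le hA hB) (iSup₂_le fun i hi => ?_)
      rcases Finset.mem_cons.1 hi with rfl | hi
      · exact le_sup_left
      · exact le_trans (le_iSup₂ (f := fun i (_ : i ∈ s) => D i) i hi) le_sup_right
    have horth : ∀ x ∈ D a, ∀ y ∈ psum D s, QuadraticMap.polar ⇑Q x y = 0 := by
      intro x hx y hy
      refine LinearMap.mem_ker.1 ((iSup₂_le fun i hi z hz => LinearMap.mem_ker.2 ?_ :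
        psum D s ≤ LinearMap.ker (QuadraticMap.polarBilin Q x)) hy)
      rw [QuadraticMap.polarBilin_apply_apply]
      exact hD.decomp.orthogonal a i (fun e => ha (e ▸ hi)) x hx z hz
    have hinf : D a ⊓ psum D s = ⊥ := (Submodule.eq_bot_iff _).2 fun x hx => by
      by_contra hx0
      obtain ⟨⟨y, hy, hxy⟩, -⟩ := hD.decomp.nondegenerate a x hx.1 hx0
      exact hxy (horth y hy x hx.2)
    have hdimS : finrank F S = k * (s.card + 1) := by
      have h1 := Submodule.finrank_sup_add_finrank_inf_eq (D a) (psum D s)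
      rw [hsup, hinf, finrank_bot, hD.decomp.decomp.finrank_eq, hdim] at h1
      rw [mul_add, mul_one]; omega
    have hndS : IsNondegenerateOn (QuadraticMap.polar ⇑Q) S := by
      intro x hx hx0
      obtain ⟨y, hy, z, hz, rfl⟩ := Submodule.mem_sup.1 (hsup.symm ▸ hx : x ∈ D a ⊔ psum D s)
      suffices h : ∃ w ∈ S, QuadraticMap.polar ⇑Q (y + z) w ≠ 0 by
        obtain ⟨w, hw, hne⟩ := h
        exact ⟨⟨w, hw, by rwa [QuadraticMap.polar_comm]⟩, w, hw, hne⟩
      by_cases hy0 : y = 0
      · obtain ⟨-, w, hw, hne⟩ := hnd z hz (fun h => hx0 (by rw [hy0, h, add_zero]))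
        exact ⟨w, hB hw, by rwa [hy0, zero_add]⟩
      · obtain ⟨-, w, hw, hne⟩ := hD.decomp.nondegenerate a y hy hy0
        exact ⟨w, hA hw, by rwa [QuadraticMap.polar_add_left, QuadraticMap.polar_comm _ z, horth w hw z hz,
          add_zero]⟩
    rw [Finset.card_cons]
    refine ⟨hdimS, hndS, ?_, fun hev => ?_⟩
    · obtain ⟨v, hv, hv'⟩ := gram_sub (Q := Q) hsup hinf horth
      obtain ⟨w, hw, hw'⟩ := gram_iso (hD.isometric i₀ a)
      refine ⟨v * w * u, mul_ne_zero (mul_ne_zero hv hw) hu, ?_⟩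
      rw [hv', hw', hg]
      ring
    · obtain ⟨j, hj⟩ := hev
      obtain ⟨c', hc'⟩ : ∃ c', j * s.card = c' + 1 :=
        ⟨j * s.card - 1, (Nat.sub_add_cancel (Nat.mul_pos (by omega) hs.card_pos)).symm⟩
      rw [plus_sub hsup hinf horth (nondeg_res_on hndS) (a := j - 1) (b := c')
        (by rw [hD.decomp.decomp.finrank_eq]; omega) (by rw [hdim, hj, ← hc']; ring), hp ⟨j, hj⟩]
      have hiff : Plus (res Q (D a)) ↔ Plus (res Q (D i₀)) := by
        rw [plus_res_iff, plus_res_iff]
        exact ⟨plus_of_isometric (hD.isometric a i₀), plus_of_isometric (hD.isometric i₀ a)⟩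
      rw [hiff, Nat.even_add_one]
      by_cases h1 : Plus (res Q (D i₀)) <;> simp [h1]

variable {t k : ℕ} {D : Fin t → Submodule F (ι → F)}

theorem psum_univ (hD : IsOrthogonalMDecomposition (⇑Q) k D) : psum D Finset.univ = ⊤ := by
  simp [psum, hD.decomp.decomp.iSup_eq_top]

/-- The type of a space with an orthogonal decomposition into parts of even dimension. -/
theorem decomp_plus_even (hk : Even k) (hD : IsOrthogonalMDecomposition (⇑Q) k D) (i : Fin t) :
    IsPlusTypeOn (⇑Q) (⊤ : Submodule F V) ↔ (IsPlusTypeOn (⇑Q) (D i) ∨ Even t) := by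
  have h := (decomp_sum hD.decomp.decomp.pos hD i (s := Finset.univ) ⟨i, Finset.mem_univ i⟩).2.2.2 hk
  rw [psum_univ hD, plus_res_iff, plus_res_iff, Finset.card_univ, Fintype.card_fin] at h
  exact h

/-- The type of a space with an orthogonal decomposition into evenly many isometric parts, in odd characteristic. -/
theorem decomp_plus_disc (h2 : (2 : F) ≠ 0) (hQ : (QuadraticMap.polarBilin Q).Nondegenerate) {m : ℕ}
    (hn : Fintype.card ι = 2 * (m + 1)) (ht : Even t) (hD : IsOrthogonalMDecomposition (⇑Q) k D) :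
    IsPlusTypeOn (⇑Q) (⊤ : Submodule F V) ↔ IsSquare ((-1 : F) ^ (m + 1)) := by
  have ht2 := hD.decomp.decomp.two_le
  let i : Fin t := ⟨0, by omega⟩
  obtain ⟨-, hnd, ⟨u, hu, hg⟩, -⟩ := decomp_sum hD.decomp.decomp.pos hD i (s := Finset.univ) ⟨i, Finset.mem_univ i⟩
  rw [psum_univ hD] at hnd hg
  have hd : finrank F (⊤ : Submodule F V) = 2 * (m + 1) := by rw [finrank_top, Module.finrank_pi, hn]
  set d := gramDet (QuadraticMap.polarBilin (res Q (D i))) (Module.finBasis F (D i))
  have hd0 : d ≠ 0 := gramDet_ne_zero (nondeg_res_on (hD.decomp.nondegenerate i)) _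
  rw [← plus_res_iff, plus_iff_disc h2 (nondeg_res_on hnd) hd (Module.finBasis F _), hg, Finset.card_univ,
    Fintype.card_fin]
  obtain ⟨j, hj⟩ := ht
  rw [show (-1 : F) ^ (m + 1) * (u ^ 2 * d ^ t) = (u * d ^ j) ^ 2 * (-1) ^ (m + 1) by
    rw [hj, ← two_mul, pow_mul]; ring]
  exact isSquare_mul_sq (mul_ne_zero hu (pow_ne_zero _ hd0))

theorem neg_one_square_iff (h2 : (2 : F) ≠ 0) : IsSquare (-1 : F) ↔ Fintype.card F % 4 = 1 := by
  rw [FiniteField.isSquare_neg_one_iff]
  have h := FiniteField.odd_card_of_char_ne_two (F := F) fun hc => h2 (by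
    exact_mod_cast (ringChar.spec F 2).2 (by rw [hc]))
  omega

/-- The type of a space with two non-isometric orthogonal halves of odd dimension. -/
theorem halves_noniso (h2 : (2 : F) ≠ 0) (hQ : (QuadraticMap.polarBilin Q).Nondegenerate) {j : ℕ}
    (hn : Fintype.card ι = 2 * (2 * j + 1)) {D : Fin 2 → Submodule F V}
    (hD : IsNondegenerateMDecomposition (QuadraticMap.polar ⇑Q) (2 * j + 1) D)
    (hni : ¬ AreIsometricFor (⇑Q) (D 0) (D 1)) :
    IsPlusTypeOn (⇑Q) (⊤ : Submodule F V) ↔ ¬ IsSquare (-1 : F) := by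
  have hsup : D 0 ⊔ D 1 = ⊤ := by
    rw [← hD.decomp.iSup_eq_top]
    refine le_antisymm (sup_le (le_iSup D 0) (le_iSup D 1)) (iSup_le fun i => ?_)
    fin_cases i
    · exact le_sup_left
    · exact le_sup_right
  have hsp : Split Q (D 0) (D 1) := by
    refine ⟨hsup, (Submodule.eq_bot_iff _).2 fun x hx => ?_, hD.orthogonal 0 1 (by decide)⟩
    by_contra hx0
    obtain ⟨⟨y, hy, hxy⟩, -⟩ := hD.nondegenerate 0 x hx.1 hx0
    exact hxy (hD.orthogonal 0 1 (by decide) y hy x hx.2)
  have hd : finrank F V = 2 * (2 * j + 1) := by rw [Module.finrank_pi, hn]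
  obtain ⟨c, hc⟩ := gramDet_split hsp (Module.finBasis F (D 0)) (Module.finBasis F (D 1))
  set a := gramDet (QuadraticMap.polarBilin (res Q (D 0))) (Module.finBasis F (D 0))
  set b := gramDet (QuadraticMap.polarBilin (res Q (D 1))) (Module.finBasis F (D 1))
  have hn0 := nondeg_res_on (hD.nondegenerate 0)
  have hn1 := nondeg_res_on (hD.nondegenerate 1)
  have hns : ¬ IsSquare (a * b) := by
    intro hsq
    obtain ⟨φ, hφ⟩ := (isometric_iff_disc h2 hn0 hn1 (Module.finBasis F (D 0)) (Module.finBasis F (D 1))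
      (by simp [hD.decomp.finrank_eq])).2 hsq
    exact hni ⟨φ, hφ⟩
  have hab : a * b ≠ 0 := mul_ne_zero (gramDet_ne_zero hn0 _) (gramDet_ne_zero hn1 _)
  rw [← plus_top_iff, plus_iff_disc h2 hQ (m := 2 * j) (by omega) c, hc, (Odd.neg_one_pow ⟨j, rfl⟩ :
    (-1 : F) ^ (2 * j + 1) = -1)]
  constructor
  · intro h hsq
    exact hns ((isSquare_mul_left_iff (neg_ne_zero.2 one_ne_zero) hsq).1 h)
  · intro h
    exact isSquare_of_two_nonsquares h2 h hns

end Cfsg.Agent.Classical.EvenType
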