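import Cfsg.Agent.Lib.Classical.AschEvenBase

/-!
Quadratic field extensions normalised by an irreducible group of isometries of an even dimensional quadratic space.
-/

set_option autoImplicit false
set_option linter.unusedSectionVars false
set_option linter.unusedFintypeInType false
set_option linter.unusedDecidableInType false
set_option quotPrecheck false

namespace Cfsg.Agent.Classical.AschEven

open Matrix Module Cfsg.Geo
open Asch (Refl Fix Irr Inv irr_iff cj adj)

variable {F : Type*} [Field F] [Fintype F] {ι : Type} [Fintype ι] [DecidableEq ι] [Nonempty ι]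
  {Q : QuadraticForm F (ι → F)}

local notation "Mn" => Matrix ι ι F
local notation "B" => QuadraticMap.polar ⇑Q

/-- A field of degree two is spanned by one and any other element. -/
theorem field2_span {K : Subalgebra F Mn} (hK : IsFieldSubalgebra 2 K) {T : Mn} (hT : T ∈ K)
    (hns : ∀ a : F, T ≠ a • (1 : Mn)) : ∀ k ∈ K, ∃ a b : F, k = a • (1 : Mn) + b • T := by
  haveI : FiniteDimensional F K := Module.finite_of_finrank_pos (by rw [hK.finrank_eq]; norm_num)
  let L : (Fin 2 → F) →ₗ[F] K := Fintype.linearCombination F ![1, ⟨T, hT⟩]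
  have hval : ∀ c, ((L c : K) : Mn) = c 0 • (1 : Mn) + c 1 • T := fun c => by
    simp [L, Fintype.linearCombination_apply, Fin.sum_univ_two]
  have hinj : Function.Injective L := (injective_iff_map_eq_zero L).2 fun c hc => by
    have h0 := hval c
    rw [hc, ZeroMemClass.coe_zero] at h0
    by_cases h1 : c 1 = 0
    · rw [h1, zero_smul, add_zero, eq_comm, smul_eq_zero] at h0
      funext i; fin_cases i
      · exact h0.resolve_right one_ne_zero
      · exact h1
    · exfalso
      refine hns (-(c 1)⁻¹ * c 0) ?_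
      calc T = (c 1)⁻¹ • (c 1 • T) := by rw [smul_smul, inv_mul_cancel₀ h1, one_smul]
        _ = (c 1)⁻¹ • -(c 0 • (1 : Mn)) := by rw [← eq_neg_of_add_eq_zero_right h0.symm]
        _ = _ := by rw [smul_neg, smul_smul, ← neg_smul, neg_mul]
  have hsurj : Function.Surjective L :=
    (LinearMap.injective_iff_surjective_of_finrank_eq_finrank (by rw [hK.finrank_eq]; simp)).1 hinj
  intro k hk
  obtain ⟨c, hc⟩ := hsurj ⟨k, hk⟩
  exact ⟨c 0, c 1, by rw [← hval, hc]⟩

/-- A field of degree two has an element off the scalars, satisfying a quadratic equation without roots. -/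
theorem field2_gen {K : Subalgebra F Mn} (hK : IsFieldSubalgebra 2 K) :
    ∃ T ∈ K, (∀ a : F, T ≠ a • (1 : Mn)) ∧ ∃ τ N : F, T * T = τ • T - N • (1 : Mn) ∧
      ∀ x : F, x ^ 2 - τ * x + N ≠ 0 := by
  obtain ⟨T, hT, hns⟩ : ∃ T ∈ K, ∀ a : F, T ≠ a • (1 : Mn) := by
    by_contra hno
    push Not at hno
    have hbot : K = ⊥ := eq_bot_iff.2 fun k hk => by
      obtain ⟨a, ha⟩ := hno k hk
      rw [ha]
      exact Subalgebra.smul_mem _ (Subalgebra.one_mem _) a
    have := hK.finrank_eq
    rw [hbot, Subalgebra.finrank_bot] at this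
    omega
  obtain ⟨a, b, hab⟩ := field2_span hK hT hns _ (K.mul_mem hT hT)
  refine ⟨T, hT, hns, b, -a, by rw [hab, neg_smul, sub_neg_eq_add, add_comm], fun x hx => ?_⟩
  have hfac : (T - x • (1 : Mn)) * (T - (b - x) • (1 : Mn)) = 0 := by
    simp only [Matrix.sub_mul, Matrix.mul_sub, Matrix.smul_mul, Matrix.mul_smul, one_mul, mul_one, hab]
    have : a = x ^ 2 - b * x := by linear_combination -hx
    rw [this]
    module
  obtain ⟨y, -, hy⟩ := hK.inv _ (K.sub_mem hT (K.smul_mem K.one_mem x)) (sub_ne_zero.2 (hns x))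
  have hy' := mul_eq_one_comm.1 hy
  refine hns (b - x) (sub_eq_zero.1 ?_)
  calc T - (b - x) • (1 : Mn) = y * ((T - x • (1 : Mn)) * (T - (b - x) • (1 : Mn))) := by
        rw [← mul_assoc, hy', one_mul]
    _ = 0 := by rw [hfac, mul_zero]

/-- A self-adjoint quadratic extension with an alternating twist needs a multiple of four dimensions. -/
theorem kalt_dvd (hQ : (QuadraticMap.polarBilin Q).Nondegenerate) (h2 : (2 : F) = 0) (T : Mn) (τ N : F)
    (hsq : T * T = τ • T - N • (1 : Mn)) (hroot : ∀ x : F, x ^ 2 - τ * x + N ≠ 0)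
    (hsa : ∀ u v, B (T *ᵥ u) v = B u (T *ᵥ v)) (halt : ∀ v, B v (T *ᵥ v) = 0) :
    ∀ d (U : Submodule F (ι → F)), finrank F U = d → IsNondegenerateOn B U → (∀ v ∈ U, T *ᵥ v ∈ U) → 4 ∣ d := by
  have hTT : ∀ v, T *ᵥ (T *ᵥ v) = τ • T *ᵥ v - N • v := fun v => by
    rw [Matrix.mulVec_mulVec, hsq, Matrix.sub_mulVec, Matrix.smul_mulVec, Matrix.smul_mulVec, Matrix.one_mulVec]
  have hself : ∀ v, B v v = 0 := fun v => by rw [polar_two, h2, zero_mul]
  have hTself : ∀ v, B (T *ᵥ v) v = 0 := fun v => by rw [QuadraticMap.polar_comm]; exact halt v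
  intro d
  induction d using Nat.strong_induction_on with
  | _ d ih =>
    intro U hd hU hT
    rcases Nat.eq_zero_or_pos d with h0 | h0
    · exact h0 ▸ dvd_zero 4
    obtain ⟨v, hv, hv0⟩ := Submodule.exists_mem_ne_zero_of_ne_bot (p := U) fun h => by
      rw [h, finrank_bot] at hd; omega
    obtain ⟨w, hw, hvw⟩ : ∃ w ∈ U, B v w = 1 := by
      obtain ⟨-, y, hy, hvy⟩ := hU v hv hv0
      exact ⟨(B v y)⁻¹ • y, U.smul_mem _ hy, by
        rw [QuadraticMap.polar_smul_right, smul_eq_mul, inv_mul_cancel₀ hvy]⟩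
    let b : Fin 4 → ι → F := ![v, T *ᵥ v, w, T *ᵥ w]
    let P := Submodule.span F (Set.range b)
    have hbP : ∀ i, b i ∈ P := fun i => Submodule.subset_span ⟨i, rfl⟩
    set α := B v (T *ᵥ w) with hα
    have hwv : B w v = 1 := by rw [QuadraticMap.polar_comm, hvw]
    have hTwv : B (T *ᵥ w) v = α := by rw [hα, QuadraticMap.polar_comm]
    have hTvw : B (T *ᵥ v) w = α := by rw [hsa, hα]
    have hwTv : B w (T *ᵥ v) = α := by rw [QuadraticMap.polar_comm, hTvw]
    have hTwTv : B (T *ᵥ w) (T *ᵥ v) = τ * α - N := by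
      rw [hsa, hTT, QuadraticMap.polar_sub_right, QuadraticMap.polar_smul_right, QuadraticMap.polar_smul_right,
        hwTv, hwv, smul_eq_mul, smul_eq_mul, mul_one]
    have hTvTw : B (T *ᵥ v) (T *ᵥ w) = τ * α - N := by rw [QuadraticMap.polar_comm, hTwTv]
    have hker : ∀ c : Fin 4 → F, (∀ i, B (∑ l, c l • b l) (b i) = 0) → c = 0 := by
      intro c hc
      have e0 := hc 0
      have e1 := hc 1
      have e2 := hc 2
      have e3 := hc 3
      simp only [Fin.sum_univ_four, b, Matrix.cons_val_zero, Matrix.cons_val_one, Matrix.cons_val,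
        QuadraticMap.polar_add_left, QuadraticMap.polar_smul_left, smul_eq_mul, hself, hTself, halt, hvw, hwv,
        hTwv, hTvw, hwTv, hTwTv, hTvTw, ← hα, mul_zero, zero_add, add_zero, mul_one] at e0 e1 e2 e3
      have hdet : τ * α - N - α * α ≠ 0 := fun h => hroot α (by linear_combination -h)
      have h3 : c 3 = 0 := (mul_eq_zero.1 (show (τ * α - N - α * α) * c 3 = 0 by
        linear_combination e1 - α * e0)).resolve_left hdet
      have h2' : c 2 = 0 := by rw [h3, zero_mul, add_zero] at e0; exact e0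
      have h1 : c 1 = 0 := (mul_eq_zero.1 (show (τ * α - N - α * α) * c 1 = 0 by
        linear_combination e3 - α * e2)).resolve_left hdet
      have h0' : c 0 = 0 := by rw [h1, zero_mul, add_zero] at e2; exact e2
      funext i; fin_cases i <;> assumption
    have hli : LinearIndependent F b := Fintype.linearIndependent_iff.2 fun c hc i =>
      congrFun (hker c fun i => by rw [hc, QuadraticMap.polar_zero_left]) i
    have hPd : finrank F P = 4 := (finrank_span_eq_card hli).trans (by simp)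
    have hP : IsNondegenerateOn B P := by
      intro x hx hx0
      obtain ⟨c, rfl⟩ := (Submodule.mem_span_range_iff_exists_fun F).1 hx
      obtain ⟨i, hi⟩ : ∃ i, B (∑ l, c l • b l) (b i) ≠ 0 := by
        by_contra hno
        push Not at hno
        exact hx0 (by rw [hker c hno]; simp)
      exact ⟨⟨b i, hbP i, by rwa [QuadraticMap.polar_comm]⟩, b i, hbP i, hi⟩
    have hPU : P ≤ U := Submodule.span_le.2 (by
      rintro _ ⟨i, rfl⟩
      fin_cases i
      · exact hv
      · exact hT _ hv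
      · exact hw
      · exact hT _ hw)
    obtain ⟨U', -, hU', hU'nd, -, -, hdim⟩ := exists_complement hQ hU hP hPU
    have hTP : ∀ p ∈ P, T *ᵥ p ∈ P := by
      intro p hp
      refine (Submodule.span_le (p := P.comap (Matrix.toLin' T)).2 ?_ : P ≤ P.comap (Matrix.toLin' T)) hp
      rintro _ ⟨i, rfl⟩
      rw [SetLike.mem_coe, Submodule.mem_comap, Matrix.toLin'_apply]
      fin_cases i
      · exact hbP 1
      · show T *ᵥ (T *ᵥ v) ∈ P
        rw [hTT]; exact P.sub_mem (P.smul_mem _ (hbP 1)) (P.smul_mem _ (hbP 0))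
      · exact hbP 3
      · show T *ᵥ (T *ᵥ w) ∈ P
        rw [hTT]; exact P.sub_mem (P.smul_mem _ (hbP 3)) (P.smul_mem _ (hbP 2))
    have := ih (finrank F U') (by omega) U' rfl hU'nd fun x hx => by
      obtain ⟨hxU, hxP⟩ := (hU' x).1 hx
      exact (hU' _).2 ⟨hT x hxU, fun p hp => by rw [hsa]; exact hxP _ (hTP p hp)⟩
    omega

/-- What a normalised field of degree two does to the quadratic form. -/
theorem field2_data (hQ : (QuadraticMap.polarBilin Q).Nondegenerate) (h3 : 3 ≤ Fintype.card ι)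
    {H : Subgroup (GL ι F)} (hH : H ≤ isometryGroup F ⇑Q) (hirr : Irr H) {K : Subalgebra F Mn}
    (hK : IsFieldSubalgebra 2 K) (hcl : ∀ k ∈ K, adj (RingEquiv.refl F) (gQ Q) k ∈ K)
    (hle : H ≤ subalgebraNormalizer K) :
    (IsSelfAdjointFor B K ∧ ((2 : F) = 0 → 4 ∣ Fintype.card ι)) ∨
      (IsAdjointClosedFor B K ∧ ¬ IsSelfAdjointFor B K ∧
        (∀ k ∈ K, ∃ c : F, ∀ v : ι → F, Q (k *ᵥ v) = c * Q v) ∧
        ∀ j, Fintype.card ι = 2 * (j + 1) → (IsPlusTypeOn ⇑Q (⊤ : Submodule F (ι → F)) ↔ Even (j + 1))) := by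
  have hG := refl_gQ hQ
  have hB : ∀ k u v, B (k *ᵥ u) v = B u (adj (RingEquiv.refl F) (gQ Q) k *ᵥ v) := fun k u v => by
    rw [← form_eq]; exact hG.form_left k u v
  obtain ⟨T, hTK, hns, τ₀, N₀, hsq₀, hroot₀⟩ := field2_gen hK
  have hspan := field2_span hK hTK hns
  set A := adj (RingEquiv.refl F) (gQ Q) T with hA
  have hinvfun : ∀ (g : GL ι F) (v : ι → F), T *ᵥ ((g : Mn) *ᵥ v) = (g : Mn) *ᵥ (cj g⁻¹ T *ᵥ v) := fun g v => by
    simp [cj, Matrix.mulVec_mulVec, ← mul_assoc]
  have hcj : ∀ g ∈ H, cj g⁻¹ T ∈ K := fun g hg => ((hle (H.inv_mem hg)) T).1 hTK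
  have hclosed : ∀ g ∈ H, cj g⁻¹ T * cj g⁻¹ T = τ₀ • cj g⁻¹ T - N₀ • (1 : Mn) := fun g _ => by
    rw [← Asch.cj_mul, hsq₀]
    simp [cj, Matrix.mul_sub, Matrix.sub_mul]
  have htwo : ∀ g ∈ H, cj g⁻¹ T = T ∨ cj g⁻¹ T = τ₀ • (1 : Mn) - T := by
    intro g hg
    by_cases h : cj g⁻¹ T - T = 0
    · exact Or.inl (sub_eq_zero.1 h)
    right
    obtain ⟨y, -, hy⟩ := hK.inv _ (K.sub_mem (hcj g hg) hTK) h
    have hy' := mul_eq_one_comm.1 hy
    set k' := cj g⁻¹ T with hk'
    have hcomm : k' * T = T * k' := hK.comm _ (hcj g hg) _ hTK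
    have hprod : (k' - T) * (k' - (τ₀ • (1 : Mn) - T)) = 0 := by
      simp only [Matrix.sub_mul, Matrix.mul_sub, Matrix.smul_mul, Matrix.mul_smul, one_mul, mul_one]
      rw [show k' * k' = τ₀ • k' - N₀ • (1 : Mn) from hclosed g hg, hsq₀, hcomm]
      module
    refine sub_eq_zero.1 ?_
    calc k' - (τ₀ • (1 : Mn) - T) = y * ((k' - T) * (k' - (τ₀ • (1 : Mn) - T))) := by
          rw [← mul_assoc, hy', one_mul]
      _ = 0 := by rw [hprod, mul_zero]
  by_cases hA' : A = T
  · left
    have hself : ∀ k ∈ K, adj (RingEquiv.refl F) (gQ Q) k = k := fun k hk => by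
      obtain ⟨a, b, rfl⟩ := hspan k hk
      rw [hG.adj_add, hG.adj_smul, hG.adj_smul, hG.adj_one, ← hA, hA']
      rfl
    refine ⟨fun k hk u v => by rw [hB, hself k hk], fun h2 => ?_⟩
    have hsa : ∀ u v, B (T *ᵥ u) v = B u (T *ᵥ v) := fun u v => by rw [hB, ← hA, hA']
    have hself' : ∀ v, B v v = 0 := fun v => by rw [polar_two, h2, zero_mul]
    obtain ⟨W, hW, hWb⟩ := semi_kernel (⊤ : Submodule F (ι → F)) (fun v (_ : Unit) => B v (T *ᵥ v))
      (fun u _ v _ => funext fun _ => by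
        simp only [Pi.add_apply, Matrix.mulVec_add, QuadraticMap.polar_add_left, QuadraticMap.polar_add_right]
        have h : B v (T *ᵥ u) = B u (T *ᵥ v) := by rw [← hsa, QuadraticMap.polar_comm]
        linear_combination h + B u (T *ᵥ v) * h2)
      (fun c v _ => funext fun _ => by
        simp only [Pi.smul_apply, Matrix.mulVec_smul, QuadraticMap.polar_smul_left, QuadraticMap.polar_smul_right,
          smul_eq_mul]
        ring)
    have htop : W = ⊤ := by
      refine (irr_iff.1 hirr W fun g hg v hv => (hW _).2 ⟨trivial, funext fun _ => ?_⟩).resolve_left fun hb => ?_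
      · show B ((g : Mn) *ᵥ v) (T *ᵥ ((g : Mn) *ᵥ v)) = 0
        rw [hinvfun, polar_iso (iso_of_le hH hg)]
        have hv' : B v (T *ᵥ v) = 0 := congrFun ((hW v).1 hv).2 ()
        obtain ⟨a, b, hab⟩ := hspan _ (hcj g hg)
        rw [hab, Matrix.add_mulVec, Matrix.smul_mulVec, Matrix.smul_mulVec, Matrix.one_mulVec,
          QuadraticMap.polar_add_right, QuadraticMap.polar_smul_right, QuadraticMap.polar_smul_right, hv', hself']
        simp
      · have := hWb hb
        rw [finrank_top, Module.finrank_pi, Fintype.card_unit] at this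
        omega
    exact kalt_dvd hQ h2 T τ₀ N₀ hsq₀ hroot₀ hsa (fun v => congrFun ((hW v).1 (htop ▸ trivial)).2 ())
      (Fintype.card ι) ⊤ (by rw [finrank_top, Module.finrank_pi])
      (fun v _ hv => by
        obtain ⟨x, hx⟩ := nd_left hQ hv
        exact ⟨⟨x, trivial, by rwa [QuadraticMap.polar_comm]⟩, x, trivial, hx⟩)
      fun _ _ => trivial
  right
  have hfixed : ∀ k ∈ K, adj (RingEquiv.refl F) (gQ Q) k = k → ∃ a : F, k = a • (1 : Mn) := by
    intro k hk hkk
    obtain ⟨a, b, rfl⟩ := hspan k hk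
    refine ⟨a, ?_⟩
    rw [hG.adj_add, hG.adj_smul, hG.adj_smul, hG.adj_one, ← hA] at hkk
    simp only [RingEquiv.refl_apply, add_right_inj] at hkk
    by_cases hb : b = 0
    · rw [hb, zero_smul, add_zero]
    · exact absurd ((smul_right_injective Mn hb) hkk) hA'
  have hAK : A ∈ K := hcl T hTK
  obtain ⟨τ, hτ⟩ := hfixed (T + A) (K.add_mem hTK hAK) (by rw [hG.adj_add, hA, hG.adj_adj, add_comm])
  obtain ⟨N, hN⟩ := hfixed (T * A) (K.mul_mem hTK hAK) (by rw [hG.adj_mul, hA, hG.adj_adj])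
  have hA2 : A = τ • (1 : Mn) - T := eq_sub_of_add_eq (by rw [add_comm]; exact hτ)
  have hsq : T * T = τ • T - N • (1 : Mn) := by
    rw [← hN, hA2, Matrix.mul_sub, Matrix.mul_smul, mul_one, sub_sub_cancel]
  have hττ : τ = τ₀ ∧ N = N₀ := by
    have h := hsq.symm.trans hsq₀
    have h' : (τ - τ₀) • T = (N - N₀) • (1 : Mn) := by rw [sub_smul, sub_smul]; exact sub_eq_sub_iff_sub_eq_sub.1 h
    by_cases hc : τ - τ₀ = 0
    · rw [hc, zero_smul, eq_comm, smul_eq_zero] at h'
      exact ⟨sub_eq_zero.1 hc, sub_eq_zero.1 (h'.resolve_right one_ne_zero)⟩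
    · exact absurd (by rw [← smul_smul, ← h', inv_smul_smul₀ hc] : T = ((τ - τ₀)⁻¹ * (N - N₀)) • (1 : Mn)) (hns _)
  obtain ⟨rfl, rfl⟩ := hττ
  have hBT : ∀ u v, B (T *ᵥ u) v = τ * B u v - B u (T *ᵥ v) := fun u v => by
    rw [hB, ← hA, hA2, Matrix.sub_mulVec, Matrix.smul_mulVec, Matrix.one_mulVec, QuadraticMap.polar_sub_right,
      QuadraticMap.polar_smul_right, smul_eq_mul]
  have hTT : ∀ v, T *ᵥ (T *ᵥ v) = τ • T *ᵥ v - N • v := fun v => by
    rw [Matrix.mulVec_mulVec, hsq, Matrix.sub_mulVec, Matrix.smul_mulVec, Matrix.smul_mulVec, Matrix.one_mulVec]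
  have hTTB : ∀ u v, B (T *ᵥ u) (T *ᵥ v) = N * B u v := fun u v => by
    rw [hBT, hTT, QuadraticMap.polar_sub_right, QuadraticMap.polar_smul_right, QuadraticMap.polar_smul_right,
      smul_eq_mul, smul_eq_mul]
    ring
  obtain ⟨W, hW, hWb⟩ := semi_kernel (⊤ : Submodule F (ι → F))
    (fun v => ![B v (T *ᵥ v) - τ * Q v, Q (T *ᵥ v) - N * Q v])
    (fun u _ v _ => funext fun i => by
      fin_cases i <;>
        simp only [Fin.zero_eta, Fin.mk_one, Fin.isValue, Matrix.cons_val_zero, Matrix.cons_val_one,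
          Pi.add_apply, Matrix.mulVec_add, QuadraticMap.polar_add_left, QuadraticMap.polar_add_right,
          QuadraticMap.map_add ⇑Q, hTTB]
      · rw [QuadraticMap.polar_comm _ v (T *ᵥ u), hBT]; ring
      · ring)
    (fun c v _ => funext fun i => by
      fin_cases i <;>
        simp only [Fin.zero_eta, Fin.mk_one, Fin.isValue, Matrix.cons_val_zero, Matrix.cons_val_one,
          Pi.smul_apply, Matrix.mulVec_smul, QuadraticMap.polar_smul_left, QuadraticMap.polar_smul_right,
          QuadraticMap.map_smul, smul_eq_mul] <;> ring)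
  have htop : W = ⊤ := by
    refine (irr_iff.1 hirr W fun g hg v hv => (hW _).2 ⟨trivial, ?_⟩).resolve_left fun hb => ?_
    · have h := ((hW v).1 hv).2
      have h1 : B v (T *ᵥ v) = τ * Q v := sub_eq_zero.1 (congrFun h 0)
      have h2 : Q (T *ᵥ v) = N * Q v := sub_eq_zero.1 (congrFun h 1)
      funext i
      fin_cases i <;>
        simp only [Fin.zero_eta, Fin.mk_one, Fin.isValue, Matrix.cons_val_zero, Matrix.cons_val_one,
          Pi.zero_apply, hinvfun, iso_of_le hH hg, polar_iso (iso_of_le hH hg)] <;>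
        rcases htwo g hg with e | e <;>
        simp only [e, Matrix.sub_mulVec, Matrix.add_mulVec, Matrix.neg_mulVec, Matrix.smul_mulVec, Matrix.one_mulVec, sub_eq_add_neg,
          QuadraticMap.polar_add_right, QuadraticMap.polar_neg_right, QuadraticMap.polar_smul_right,
          QuadraticMap.polar_smul_left, QuadraticMap.map_add ⇑Q, QuadraticMap.map_neg, QuadraticMap.map_smul,
          polar_two, h1, h2, smul_eq_mul] <;> ring
    · have := hWb hb
      rw [finrank_top, Module.finrank_pi, Fintype.card_fin] at this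
      omega
  have hall : ∀ v, B v (T *ᵥ v) = τ * Q v ∧ Q (T *ᵥ v) = N * Q v := fun v =>
    ⟨sub_eq_zero.1 (congrFun ((hW v).1 (htop ▸ trivial)).2 0),
      sub_eq_zero.1 (congrFun ((hW v).1 (htop ▸ trivial)).2 1)⟩
  refine ⟨fun k hk => ⟨_, hcl k hk, fun u v => hB k u v⟩, fun hsa => hA' ?_, fun k hk => ?_, fun j hj =>
    herm_type_top hQ hsq hroot₀ (fun v => (hall v).2) (fun v => (hall v).1) hj⟩
  · refine (hG.adj_unique ?_).symm
    refine Asch.gram_inj (RingEquiv.refl F) fun u v => ?_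
    have h1 := hsa T hTK u v
    have e1 : ∀ M : Mn, formOfGram (RingEquiv.refl F) (gQ Q * M.map (RingEquiv.refl F)) u v =
        formOfGram (RingEquiv.refl F) (gQ Q) u (M *ᵥ v) := fun M => by
      rw [Asch.formOfGram_eq, Asch.formOfGram_eq, Asch.map_mulVec, Matrix.mulVec_mulVec]
    rw [← hG.adj_spec, e1, e1, form_eq, ← h1, hB]
  · obtain ⟨a, b, rfl⟩ := hspan k hk
    refine ⟨a ^ 2 + τ * a * b + N * b ^ 2, fun v => ?_⟩
    rw [Matrix.add_mulVec, Matrix.smul_mulVec, Matrix.smul_mulVec, Matrix.one_mulVec, QuadraticMap.map_add ⇑Q,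
      QuadraticMap.map_smul, QuadraticMap.map_smul, QuadraticMap.polar_smul_left, QuadraticMap.polar_smul_right,
      (hall v).1, (hall v).2]
    simp only [smul_eq_mul]
    ring

end Cfsg.Agent.Classical.AschEven
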