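import Cfsg.Agent.Lib.Classical.OrthPlusForms
import Cfsg.Agent.Lib.Classical.MaxOrthSubMinus

/-!
The two types of even dimensional quadratic spaces over a finite field: sums, decompositions, discriminants.
-/

set_option autoImplicit false
set_option linter.unusedSectionVars false
set_option linter.unusedFintypeInType false
set_option linter.unusedDecidableInType false
set_option quotPrecheck false

namespace Cfsg.Agent.Classical.EvenType

open Module Matrix Cfsg.Geo
open OrthAut (Half Aniso)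

variable {F : Type*} [Field F] [Fintype F] {V W : Type*} [AddCommGroup V] [Module F V] [FiniteDimensional F V]
  [AddCommGroup W] [Module F W] [FiniteDimensional F W]

/-- Some subspace of half the dimension is totally singular. -/
def Plus (Q : QuadraticForm F V) : Prop :=
  ∃ U : Submodule F V, (∀ u ∈ U, Q u = 0) ∧ 2 * finrank F U = finrank F V

omit [Fintype F] in
theorem Plus.map {Q : QuadraticForm F V} {Q' : QuadraticForm F W} (e : V ≃ₗ[F] W) (he : ∀ v, Q' (e v) = Q v)
    (h : Plus Q) : Plus Q' := by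
  obtain ⟨U, hU, hd⟩ := h
  refine ⟨U.map (e : V →ₗ[F] W), ?_, by rw [LinearEquiv.finrank_map_eq, hd, e.finrank_eq]⟩
  rintro _ ⟨u, hu, rfl⟩
  exact (he u).trans (hU u hu)

theorem aniso_one {ζ : F} (hζ : ∀ t : F, t ^ 2 + t + ζ ≠ 0) : Aniso F 1 ζ := fun z₁ z₂ h => by
  by_cases hz : z₂ = 0
  · subst hz; exact ⟨by simpa using h, rfl⟩
  · exact absurd (by field_simp; linear_combination h : (z₁ / z₂) ^ 2 + z₁ / z₂ + ζ = 0) (hζ _)

/-- An elliptic standard form of dimension `2 * (m + 1)`. -/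
def IsMinusStd (Q : QuadraticForm F V) (m : ℕ) (ζ : F) (e : ((Fin m ⊕ Fin m) ⊕ Fin 2 → F) ≃ₗ[F] V) : Prop :=
  (∀ t : F, t ^ 2 + t + ζ ≠ 0) ∧ ∀ v, Q (e v) = qfMinus m F 1 ζ v

theorem IsMinusStd.not_plus {Q : QuadraticForm F V} {m : ℕ} {ζ : F}
    {e : ((Fin m ⊕ Fin m) ⊕ Fin 2 → F) ≃ₗ[F] V} (h : IsMinusStd Q m ζ e) : ¬ Plus Q := by
  intro hp
  obtain ⟨U, hU, hd⟩ := hp.map e.symm (Q' := qfMinus m F 1 ζ) (fun v => by
    rw [← h.2, LinearEquiv.apply_symm_apply])
  have := singular_finrank_le_minus m (aniso_one h.1) U hU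
  rw [Module.finrank_pi, OrthAut.card_iota] at hd
  omega

theorem exists_std {Q : QuadraticForm F V} (hn : (QuadraticMap.polarBilin Q).Nondegenerate) {m : ℕ}
    (hV : finrank F V = 2 * (m + 1)) :
    (Plus Q ∧ ∃ e : (Fin (m + 1) ⊕ Fin (m + 1) → F) ≃ₗ[F] V, ∀ v, Q (e v) = qfPlus (m + 1) F v) ∨
      (¬ Plus Q ∧ ∃ ζ e, IsMinusStd Q m ζ e) := by
  rcases exists_even_basis hV Q hn with ⟨bb, hq, hEF, hEE⟩ | ⟨-, bb, ζ, hζ, hq, hEF, hEE, hER, h0, h01, h1⟩
  · left
    have hex : ∃ e : (Fin (m + 1) ⊕ Fin (m + 1) → F) ≃ₗ[F] V, ∀ v, Q (e v) = qfPlus (m + 1) F v := by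
      refine exists_isometry_of_bases (Q := qfPlus (m + 1) F) (Q' := Q) (Pi.basisFun F _) bb (fun i => ?_)
        fun i l => ?_
      · simp only [Pi.basisFun_apply]
        rcases i with i | i
        · rw [(hq i).1]; simp [qfPlus_apply, quadFormPlus]
        · rw [(hq i).2]; simp [qfPlus_apply, quadFormPlus]
      · simp only [Pi.basisFun_apply, polar_qfPlus]
        rcases i with i | i <;> rcases l with l | l
        · rw [(hEE i l).1]; simp [Pi.single_apply]
        · rw [hEF i l]; simp [Pi.single_apply, eq_comm]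
        · rw [QuadraticMap.polar_comm, hEF l i]; simp [Pi.single_apply, eq_comm]
        · rw [(hEE i l).2]; simp [Pi.single_apply]
    obtain ⟨e, he⟩ := hex
    obtain ⟨U, hU, hUr⟩ := exists_singular_plus (F := F) (m + 1)
    refine ⟨Plus.map e he ⟨U, hU, ?_⟩, e, he⟩
    rw [hUr, Module.finrank_pi]
    simp
    omega
  · right
    have hex : ∃ e : ((Fin m ⊕ Fin m) ⊕ Fin 2 → F) ≃ₗ[F] V, ∀ v, Q (e v) = qfMinus m F 1 ζ v := by
      refine exists_isometry_of_bases (Q := qfMinus m F 1 ζ) (Q' := Q) (Pi.basisFun F _) bb (fun i => ?_)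
        fun i l => ?_
      · simp only [Pi.basisFun_apply]
        rcases i with (i | i) | i
        · rw [(hq i).1]; simp [qfMinus_apply, quadFormMinus]
        · rw [(hq i).2]; simp [qfMinus_apply, quadFormMinus]
        · fin_cases i
          · simp only [Fin.zero_eta, Fin.isValue]; rw [h0]; simp [qfMinus_apply, quadFormMinus]
          · simp only [Fin.mk_one, Fin.isValue]; rw [h1]; simp [qfMinus_apply, quadFormMinus]
      · simp only [Pi.basisFun_apply, polar_qfMinus]
        rcases i with (i | i) | i <;> rcases l with (l | l) | l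
        · rw [(hEE i l).1]; simp [Pi.single_apply]
        · rw [hEF i l]; simp [Pi.single_apply, eq_comm]
        · rw [(hER i l).1]; simp [Pi.single_apply]
        · rw [QuadraticMap.polar_comm, hEF l i]; simp [Pi.single_apply, eq_comm]
        · rw [(hEE i l).2]; simp [Pi.single_apply]
        · rw [(hER i l).2]; simp [Pi.single_apply]
        · rw [QuadraticMap.polar_comm, (hER l i).1]; simp [Pi.single_apply]
        · rw [QuadraticMap.polar_comm, (hER l i).2]; simp [Pi.single_apply]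
        · fin_cases i <;> fin_cases l <;>
            simp only [Fin.zero_eta, Fin.mk_one, Fin.isValue, h01, QuadraticMap.polar_self, h0, h1,
              QuadraticMap.polar_comm _ (bb (Sum.inr 1)) (bb (Sum.inr 0))] <;>
            simp [Pi.single_apply] <;> ring
    obtain ⟨e, he⟩ := hex
    exact ⟨IsMinusStd.not_plus ⟨hζ, he⟩, ζ, e, hζ, he⟩

/-- Two spaces of one dimension and one type are isometric. -/
theorem iso_of_type {Q : QuadraticForm F V} {Q' : QuadraticForm F W}
    (hn : (QuadraticMap.polarBilin Q).Nondegenerate) (hn' : (QuadraticMap.polarBilin Q').Nondegenerate) {m : ℕ}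
    (hV : finrank F V = 2 * (m + 1)) (hW : finrank F W = 2 * (m + 1)) (h : Plus Q ↔ Plus Q') :
    ∃ φ : V ≃ₗ[F] W, ∀ v, Q' (φ v) = Q v := by
  rcases exists_std hn hV with ⟨hp, e, he⟩ | ⟨hp, ζ, e, hζ, he⟩
  · rcases exists_std hn' hW with ⟨-, e', he'⟩ | ⟨hp', -⟩
    · exact ⟨e.symm.trans e', fun v => by
        rw [LinearEquiv.trans_apply, he', ← he, LinearEquiv.apply_symm_apply]⟩
    · exact absurd (h.1 hp) hp'
  · rcases exists_std hn' hW with ⟨hp', -⟩ | ⟨-, ζ', e', hζ', he'⟩
    · exact absurd (h.2 hp') hp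
    · obtain ⟨T, hT⟩ := OrthAut.shift_plane (Q' := qfMinus m F 1 ζ') hζ hζ'
        ⟨LinearEquiv.refl F _, fun v => rfl⟩
      exact ⟨e.symm.trans (T.trans e'), fun v => by
        rw [LinearEquiv.trans_apply, LinearEquiv.trans_apply, he', hT, ← he, LinearEquiv.apply_symm_apply]⟩

/-- An orthogonal splitting. -/
structure Split (Q : QuadraticForm F V) (A B : Submodule F V) : Prop where
  sup : A ⊔ B = ⊤
  inf : A ⊓ B = ⊥
  orth : ∀ a ∈ A, ∀ b ∈ B, QuadraticMap.polar ⇑Q a b = 0

/-- The restriction of a form. -/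
noncomputable def res (Q : QuadraticForm F V) (A : Submodule F V) : QuadraticForm F A := Q.comp A.subtype

omit [Fintype F] in
theorem res_apply (Q : QuadraticForm F V) (A : Submodule F V) (a : A) : res Q A a = Q (a : V) := rfl

omit [Fintype F] in
theorem polar_res (Q : QuadraticForm F V) (A : Submodule F V) (a b : A) :
    QuadraticMap.polar ⇑(res Q A) a b = QuadraticMap.polar ⇑Q (a : V) (b : V) := rfl

omit [Fintype F] in
theorem nondeg_res {Q : QuadraticForm F V} {A : Submodule F V}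
    (h : ∀ a ∈ A, a ≠ 0 → ∃ x ∈ A, QuadraticMap.polar ⇑Q a x ≠ 0) :
    (QuadraticMap.polarBilin (res Q A)).Nondegenerate := by
  refine nondegenerate_of_separatingLeft _ fun a ha => ?_
  by_contra h0
  obtain ⟨x, hx, hax⟩ := h a a.2 (fun e => h0 (Subtype.ext e))
  exact hax (ha ⟨x, hx⟩)

namespace Split

variable {Q : QuadraticForm F V} {A B : Submodule F V} (h : Split Q A B)
include h

omit [Fintype F] in
theorem symm : Split Q B A :=
  ⟨by rw [sup_comm, h.sup], by rw [inf_comm, h.inf], fun b hb a ha => by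
    rw [QuadraticMap.polar_comm]; exact h.orth a ha b hb⟩

omit [Fintype F] in
theorem quad (a : A) (b : B) : Q ((a : V) + b) = res Q A a + res Q B b := by
  rw [QuadraticMap.map_add ⇑Q, h.orth _ a.2 _ b.2, add_zero]; rfl

omit [Fintype F] in
theorem dim : finrank F A + finrank F B = finrank F V := by
  have h1 := Submodule.finrank_sup_add_finrank_inf_eq A B
  rw [h.sup, h.inf, finrank_top, finrank_bot, add_zero] at h1
  exact h1.symm

omit [Fintype F] in
theorem nondeg_left (hQ : (QuadraticMap.polarBilin Q).Nondegenerate) :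
    (QuadraticMap.polarBilin (res Q A)).Nondegenerate := by
  refine nondeg_res fun a ha ha0 => ?_
  by_contra hno
  push Not at hno
  refine ha0 (hQ.1 a fun v => ?_)
  obtain ⟨a', ha', b, hb, rfl⟩ := Submodule.mem_sup.1 (h.sup ▸ Submodule.mem_top : v ∈ A ⊔ B)
  rw [map_add, QuadraticMap.polarBilin_apply_apply, QuadraticMap.polarBilin_apply_apply, hno a' ha',
    h.orth a ha b hb, add_zero]

omit [Fintype F] in
/-- A totally singular subspace from one in each part. -/
theorem singular_sum {L : Type*} [AddCommGroup L] [Module F L] [FiniteDimensional F L] (f : L →ₗ[F] A)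
    (g : L →ₗ[F] B) (hq : ∀ l, res Q A (f l) + res Q B (g l) = 0) (hinj : ∀ l, f l = 0 → g l = 0 → l = 0) :
    ∃ U : Submodule F V, (∀ u ∈ U, Q u = 0) ∧ finrank F U = finrank F L := by
  let φ : L →ₗ[F] V := A.subtype.comp f + B.subtype.comp g
  refine ⟨LinearMap.range φ, ?_, LinearMap.finrank_range_of_inj ((injective_iff_map_eq_zero φ).2 fun l hl => ?_)⟩
  · rintro _ ⟨l, rfl⟩
    show Q ((f l : V) + (g l : V)) = 0
    rw [h.quad]; exact hq l
  · have h1 : (f l : V) = -(g l : V) := eq_neg_of_add_eq_zero_left hl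
    have h2 : (f l : V) ∈ A ⊓ B := ⟨(f l).2, h1 ▸ B.neg_mem (g l).2⟩
    rw [h.inf, Submodule.mem_bot] at h2
    rw [h2, eq_comm, neg_eq_zero] at h1
    exact hinj l (Subtype.ext h2) (Subtype.ext h1)

omit [Fintype F] in
theorem plus_plus (hA : Plus (res Q A)) (hB : Plus (res Q B)) : Plus Q := by
  obtain ⟨UA, hUA, hdA⟩ := hA
  obtain ⟨UB, hUB, hdB⟩ := hB
  obtain ⟨U, hU, hd⟩ := h.singular_sum (L := UA × UB) (UA.subtype.comp (LinearMap.fst F UA UB))
    (UB.subtype.comp (LinearMap.snd F UA UB)) (fun l => by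
      simp [hUA _ l.1.2, hUB _ l.2.2]) (fun l h1 h2 => Prod.ext (Subtype.ext h1) (Subtype.ext h2))
  refine ⟨U, hU, ?_⟩
  have h3 := h.dim
  rw [Module.finrank_prod] at hd
  omega

theorem minus_minus (hQ : (QuadraticMap.polarBilin Q).Nondegenerate) {a b : ℕ}
    (hA : finrank F A = 2 * (a + 1)) (hB : finrank F B = 2 * (b + 1)) (hpA : ¬ Plus (res Q A))
    (hpB : ¬ Plus (res Q B)) : Plus Q := by
  rcases exists_std (h.nondeg_left hQ) hA with ⟨hp, -⟩ | ⟨-, ζ, eA, hζ, heA⟩
  · exact absurd hp hpA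
  rcases exists_std (h.symm.nondeg_left hQ) hB with ⟨hp, -⟩ | ⟨-, ζ', eB, hζ', heB⟩
  · exact absurd hp hpB
  have hab := aniso_one hζ
  have hab' := aniso_one hζ'
  have hn1 := nondegenerate_qfMinus 0 hab
  have hn2 : (QuadraticMap.polarBilin (-(qfMinus 0 F 1 ζ'))).Nondegenerate := by
    refine nondegenerate_of_separatingLeft _ fun u hu => (nondegenerate_qfMinus 0 hab').1 u fun v => ?_
    have h1 := hu v
    rw [QuadraticMap.polarBilin_apply_apply, FunLike.coe_neg, QuadraticMap.polar_neg] at h1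
    exact neg_eq_zero.1 h1
  have hh2 : ¬ ∃ U, Half (-(qfMinus 0 F 1 ζ')) U := by
    rintro ⟨U, hU, hr⟩
    exact OrthAut.not_half_qfMinus hab' ⟨U, fun u hu => neg_eq_zero.1 (hU u hu), hr⟩
  obtain ⟨ψ, hψ⟩ := OrthAut.minus_unique (qfMinus 0 F 1 ζ) (-(qfMinus 0 F 1 ζ')) hn1 hn2
    (OrthAut.not_half_qfMinus hab) hh2
  let incl : (c : ℕ) → ((Fin c → F) × ((Fin 0 ⊕ Fin 0) ⊕ Fin 2 → F)) →ₗ[F] ((Fin c ⊕ Fin c) ⊕ Fin 2 → F) :=
    fun c =>
    { toFun := fun x => Sum.elim (Sum.elim x.1 0) (fun j => x.2 (Sum.inr j))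
      map_add' := fun x y => by funext i; rcases i with (i | i) | i <;> simp
      map_smul' := fun r x => by funext i; rcases i with (i | i) | i <;> simp }
  have hincl : ∀ c t x, qfMinus c F 1 t (incl c x) = qfMinus 0 F 1 t x.2 := fun c t x => by
    simp [qfMinus_apply, quadFormMinus, incl]
  let L := ((Fin a → F) × (Fin b → F)) × ((Fin 0 ⊕ Fin 0) ⊕ Fin 2 → F)
  let f : L →ₗ[F] A := eA.toLinearMap.comp ((incl a).comp
    (LinearMap.prod ((LinearMap.fst F _ _).comp (LinearMap.fst F _ _)) (LinearMap.snd F _ _)))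
  let g : L →ₗ[F] B := eB.toLinearMap.comp ((incl b).comp
    (LinearMap.prod ((LinearMap.snd F _ _).comp (LinearMap.fst F _ _))
      ((Matrix.mulVecLin (ψ : Matrix _ _ F)).comp (LinearMap.snd F _ _))))
  obtain ⟨U, hU, hd⟩ := h.singular_sum f g (fun l => by
      show res Q A (eA _) + res Q B (eB _) = 0
      rw [heA, heB]
      simp only [LinearMap.comp_apply, LinearMap.prod_apply, Pi.prod, hincl]
      show qfMinus 0 F 1 ζ l.2 + qfMinus 0 F 1 ζ' ((ψ : Matrix _ _ F) *ᵥ l.2) = 0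
      have h2 := hψ l.2
      rw [_root_.QuadraticMap.neg_apply] at h2
      linear_combination -h2)
    (fun l h1 h2 => by
      have h1' := (LinearEquiv.map_eq_zero_iff eA).1 h1
      have h2' := (LinearEquiv.map_eq_zero_iff eB).1 h2
      refine Prod.ext (Prod.ext (funext fun i => congrFun h1' (Sum.inl (Sum.inl i)))
        (funext fun i => congrFun h2' (Sum.inl (Sum.inl i)))) (funext fun i => ?_)
      rcases i with (i | i) | i
      · exact i.elim0
      · exact i.elim0
      · exact congrFun h1' (Sum.inr i))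
  refine ⟨U, hU, ?_⟩
  have h3 := h.dim
  simp [L, Module.finrank_prod, Module.finrank_fintype_fun_eq_card] at hd
  omega

theorem plus_minus (hQ : (QuadraticMap.polarBilin Q).Nondegenerate) (hpA : Plus (res Q A)) {b : ℕ}
    (hB : finrank F B = 2 * (b + 1)) (hpB : ¬ Plus (res Q B)) : ¬ Plus Q := by
  rintro ⟨C, hC, hdC⟩
  obtain ⟨UA, hUA, hdA⟩ := hpA
  rcases exists_std (h.symm.nondeg_left hQ) hB with ⟨hp, -⟩ | ⟨-, ζ, eB, hζ, heB⟩
  · exact hpB hp
  have hnA := h.nondeg_left hQ
  let half : (Fin b → F) →ₗ[F] ((Fin b ⊕ Fin b) ⊕ Fin 2 → F) :=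
    { toFun := fun x => Sum.elim (Sum.elim x 0) 0
      map_add' := fun x y => by funext i; rcases i with (i | i) | i <;> simp
      map_smul' := fun r x => by funext i; rcases i with (i | i) | i <;> simp }
  let SA : Submodule F V := UA.map A.subtype
  let SB : Submodule F V := (LinearMap.range (eB.toLinearMap.comp half)).map B.subtype
  have hSA : ∀ x ∈ SA, ∃ a : A, a ∈ UA ∧ (a : V) = x := fun x ⟨a, ha, e⟩ => ⟨a, ha, e⟩
  have hSB : ∀ x ∈ SB, ∃ y, ((eB (half y) : B) : V) = x := by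
    rintro _ ⟨_, ⟨y, rfl⟩, rfl⟩; exact ⟨y, rfl⟩
  have hQSB : ∀ y, res Q B (eB (half y)) = 0 := fun y => by
    rw [heB]; simp [qfMinus_apply, quadFormMinus, half]
  have hZ : ∀ w ∈ SA ⊔ SB, Q w = 0 := by
    intro w hw
    obtain ⟨x, hx, y, hy, rfl⟩ := Submodule.mem_sup.1 hw
    obtain ⟨a, ha, rfl⟩ := hSA x hx
    obtain ⟨y', rfl⟩ := hSB y hy
    rw [h.quad, hUA a ha, hQSB, add_zero]
  have hpol : ∀ {W : Submodule F V}, (∀ w ∈ W, Q w = 0) → ∀ x ∈ W, ∀ y ∈ W, QuadraticMap.polar ⇑Q x y = 0 := by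
    intro W hW x hx y hy
    rw [QuadraticMap.polar, hW _ (W.add_mem hx hy), hW x hx, hW y hy]; ring
  have hmax : ∀ W : Submodule F V, SA ⊔ SB ≤ W → (∀ w ∈ W, Q w = 0) → W = SA ⊔ SB := by
    intro W hle hW
    refine le_antisymm (fun w hw => ?_) hle
    obtain ⟨x, hx, y, hy, rfl⟩ := Submodule.mem_sup.1 (h.sup ▸ Submodule.mem_top : w ∈ A ⊔ B)
    have hperp : ∀ z ∈ SA ⊔ SB, QuadraticMap.polar ⇑Q (x + y) z = 0 := fun z hz => hpol hW _ hw _ (hle hz)
    have hxU : (⟨x, hx⟩ : A) ∈ UA := by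
      have heq : UA = LinearMap.BilinForm.orthogonal (QuadraticMap.polarBilin (res Q A)) UA := by
        refine Submodule.eq_of_le_of_finrank_le (fun u hu w hw => ?_) ?_
        · rw [QuadraticMap.polarBilin_apply_apply, polar_res]
          exact hpol hZ _ (Submodule.mem_sup_left ⟨w, hw, rfl⟩) _ (Submodule.mem_sup_left ⟨u, hu, rfl⟩)
        · rw [LinearMap.BilinForm.finrank_orthogonal hnA]; omega
      rw [heq]
      intro u hu
      have h1 := hperp (u : V) (Submodule.mem_sup_left ⟨u, hu, rfl⟩)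
      rw [QuadraticMap.polar_add_left, QuadraticMap.polar_comm _ y, h.orth _ u.2 _ hy, add_zero] at h1
      show QuadraticMap.polar ⇑Q (u : V) x = 0
      rwa [QuadraticMap.polar_comm]
    refine Submodule.mem_sup.2 ⟨x, ⟨⟨x, hx⟩, hxU, rfl⟩, y, ?_, rfl⟩
    set d : (Fin b ⊕ Fin b) ⊕ Fin 2 → F := eB.symm ⟨y, hy⟩ with hd
    have heBd : eB d = ⟨y, hy⟩ := eB.apply_symm_apply _
    have hQy : Q y = 0 := by
      have h1 := hW _ (W.sub_mem hw (hle (Submodule.mem_sup_left ⟨⟨x, hx⟩, hxU, rfl⟩)))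
      simpa using h1
    have hr : ∀ i, d (Sum.inl (Sum.inr i)) = 0 := fun i => by
      have h1 := hperp ((eB (half (Pi.single i 1)) : B) : V)
        (Submodule.mem_sup_right ⟨_, ⟨_, rfl⟩, rfl⟩)
      rw [QuadraticMap.polar_add_left, h.orth _ hx _ (Subtype.coe_prop _), zero_add,
        show y = ((eB d : B) : V) by rw [heBd]] at h1
      have h2 : QuadraticMap.polar ⇑(qfMinus b F 1 ζ) d (half (Pi.single i 1)) = 0 := by
        rw [QuadraticMap.polar, ← heB, ← heB, ← heB, map_add]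
        exact h1
      rw [polar_qfMinus] at h2
      simpa [half, Pi.single_apply] using h2
    have hq : qfMinus b F 1 ζ d = 0 := by rw [← heB, heBd]; exact hQy
    have h2 : d (Sum.inr 0) ^ 2 + 1 * d (Sum.inr 0) * d (Sum.inr 1) + ζ * d (Sum.inr 1) ^ 2 = 0 := by
      simpa [qfMinus_apply, quadFormMinus, hr] using hq
    obtain ⟨h3, h4⟩ := aniso_one hζ _ _ h2
    have hd' : d = half (fun i => d (Sum.inl (Sum.inl i))) := by
      funext j
      rcases j with (j | j) | j
      · rfl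
      · exact hr j
      · fin_cases j
        · exact h3
        · exact h4
    refine ⟨eB d, ⟨_, by rw [hd']; rfl⟩, by rw [heBd]; rfl⟩
  have hle := singular_finrank_le Q hQ hZ hC hmax
  have h1 := Submodule.finrank_add_le_finrank_add_finrank SA SB
  have h2 : finrank F SA ≤ finrank F UA := Submodule.finrank_map_le _ _
  have h3 : finrank F SB ≤ b := by
    refine (Submodule.finrank_map_le _ _).trans ((LinearMap.finrank_range_le _).trans ?_)
    rw [Module.finrank_fin_fun]
  have h4 := h.dim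
  omega

/-- The type of an orthogonal sum. -/
theorem plus_iff (hQ : (QuadraticMap.polarBilin Q).Nondegenerate) {a b : ℕ}
    (hA : finrank F A = 2 * (a + 1)) (hB : finrank F B = 2 * (b + 1)) :
    Plus Q ↔ (Plus (res Q A) ↔ Plus (res Q B)) := by
  by_cases h1 : Plus (res Q A) <;> by_cases h2 : Plus (res Q B)
  · simp [h1, h2, h.plus_plus h1 h2]
  · simp [h1, h2, h.plus_minus hQ h1 hB h2]
  · simp [h1, h2, h.symm.plus_minus hQ h2 hA h1]
  · simp [h1, h2, h.minus_minus hQ hA hB h1 h2]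

end Split

/-- The type read off the discriminant. -/
theorem plus_iff_disc (h2 : (2 : F) ≠ 0) {Q : QuadraticForm F V}
    (hn : (QuadraticMap.polarBilin Q).Nondegenerate) {m : ℕ} (hV : finrank F V = 2 * (m + 1)) {ι : Type*}
    [Fintype ι] [DecidableEq ι] (b : Module.Basis ι F V) :
    Plus Q ↔ IsSquare ((-1) ^ (m + 1) * gramDet (QuadraticMap.polarBilin Q) b) := by
  classical
  rcases exists_std hn hV with ⟨hp, e, he⟩ | ⟨hp, ζ, e, hζ, he⟩
  · obtain ⟨t, -, ht⟩ := gramDet_change (QuadraticMap.polarBilin Q) ((Pi.basisFun F _).map e) b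
    simp only [hp, true_iff]
    rw [ht, gramDet_isometry e he, gramDet_qfPlus]
    exact ⟨t * (-1) ^ (m + 1), by ring⟩
  · obtain ⟨t, ht0, ht⟩ := gramDet_change (QuadraticMap.polarBilin Q) ((Pi.basisFun F _).map e) b
    simp only [hp, false_iff]
    rw [ht, gramDet_isometry e he, gramDet_qfMinus]
    rintro ⟨s, hs⟩
    have hsq : (((-1 : F) ^ m) * ((-1) ^ m)) = 1 := by rw [← pow_add, ← two_mul, pow_mul]; simp
    refine hζ ((-1 + s / t) / 2) ?_
    rw [pow_succ] at hs
    field_simp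
    linear_combination -hs - (4 * ζ - 1) * t ^ 2 * hsq

section Sum

variable {Q : QuadraticForm F V} {A B : Submodule F V}

omit [Fintype F] in
theorem gramDet_split (h : Split Q A B) {ι κ : Type*} [Fintype ι] [DecidableEq ι] [Fintype κ] [DecidableEq κ]
    (a : Module.Basis ι F A) (b : Module.Basis κ F B) :
    ∃ c : Module.Basis (ι ⊕ κ) F V, gramDet (QuadraticMap.polarBilin Q) c =
      gramDet (QuadraticMap.polarBilin (res Q A)) a * gramDet (QuadraticMap.polarBilin (res Q B)) b := by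
  let e := Submodule.prodEquivOfIsCompl A B ⟨disjoint_iff.2 h.inf, codisjoint_iff.2 h.sup⟩
  refine ⟨(a.prod b).map e, ?_⟩
  rw [gramDet_eq_of, gramDet_eq_of, gramDet_eq_of, ← Matrix.det_fromBlocks_zero₂₁ _ (0 : Matrix ι κ F)]
  congr 1
  ext i j
  rcases i with i | i <;> rcases j with j | j <;>
    simp [e, Submodule.coe_prodEquivOfIsCompl', polar_res, h.orth, h.symm.orth]

end Sum

section Coord

variable {ι : Type} [Fintype ι] [DecidableEq ι] {Q : QuadraticForm F (ι → F)}

omit [Fintype F] in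
theorem plus_res_iff (W : Submodule F (ι → F)) : Plus (res Q W) ↔ IsPlusTypeOn (⇑Q) W := by
  constructor
  · rintro ⟨U, hU, hd⟩
    refine ⟨U.map W.subtype, Submodule.map_subtype_le _ _, ?_, ?_⟩
    · rintro _ ⟨u, hu, rfl⟩; exact hU u hu
    · rw [Submodule.finrank_map_subtype_eq]; exact hd
  · rintro ⟨U, hle, hU, hd⟩
    refine ⟨U.comap W.subtype, fun u hu => hU _ hu, ?_⟩
    rw [(Submodule.comapSubtypeEquivOfLe hle).finrank_eq]; exact hd

omit [Fintype F] in
theorem plus_top_iff : Plus Q ↔ IsPlusTypeOn (⇑Q) (⊤ : Submodule F (ι → F)) := by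
  constructor
  · rintro ⟨U, hU, hd⟩
    exact ⟨U, le_top, hU, by rw [finrank_top]; exact hd⟩
  · rintro ⟨U, -, hU, hd⟩
    exact ⟨U, hU, by rwa [finrank_top] at hd⟩

omit [Fintype F] in
theorem nondeg_res_on {W : Submodule F (ι → F)} (h : IsNondegenerateOn (QuadraticMap.polar ⇑Q) W) :
    (QuadraticMap.polarBilin (res Q W)).Nondegenerate :=
  nondeg_res fun a ha ha0 => (h a ha ha0).2

omit [Fintype F] in
theorem isometric_of_res {W W' : Submodule F (ι → F)} {φ : W ≃ₗ[F] W'} (h : ∀ v, res Q W' (φ v) = res Q W v) :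
    AreIsometricFor (⇑Q) W W' := ⟨φ, h⟩

/-- Isometric subspaces have one type. -/
theorem plus_of_isometric {W W' : Submodule F (ι → F)} (h : AreIsometricFor (⇑Q) W W')
    (hp : IsPlusTypeOn (⇑Q) W) : IsPlusTypeOn (⇑Q) W' := by
  obtain ⟨φ, hφ⟩ := h
  rw [← plus_res_iff] at hp ⊢
  exact hp.map φ (fun v => by rw [res_apply, res_apply]; exact hφ v)

end Coord

end Cfsg.Agent.Classical.EvenType
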