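import Cfsg.Agent.Lib.Classical.AschAdjoint

/-!
Imprimitive groups of similitudes: orthogonal decompositions or a pair of totally singular subspaces.
-/

set_option autoImplicit false
set_option linter.unusedSectionVars false
set_option linter.unusedFintypeInType false
set_option linter.unusedDecidableInType false

namespace Cfsg.Agent.Classical.Asch

open Matrix Module Cfsg.Geo

variable {F : Type*} [Field F] {ι : Type} [Fintype ι] [DecidableEq ι]

/-- The image of a matrix. -/
def rg (q : Matrix ι ι F) : Submodule F (ι → F) := LinearMap.range (Matrix.toLin' q)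

theorem mem_rg {q : Matrix ι ι F} (hq : q * q = q) {v : ι → F} : v ∈ rg q ↔ q *ᵥ v = v := by
  constructor
  · rintro ⟨w, rfl⟩
    rw [Matrix.toLin'_apply, Matrix.mulVec_mulVec, hq]
  · intro h
    exact ⟨v, by rw [Matrix.toLin'_apply, h]⟩

theorem mulVec_mem_rg (q : Matrix ι ι F) (v : ι → F) : q *ᵥ v ∈ rg q := ⟨v, Matrix.toLin'_apply _ _⟩

theorem rg_ne_bot {q : Matrix ι ι F} (hq : q ≠ 0) : rg q ≠ ⊥ := fun h => hq (by
  apply Matrix.toLin'.injective
  rw [map_zero]
  exact LinearMap.range_eq_bot.1 h)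

theorem map_rg (g : GL ι F) (q : Matrix ι ι F) :
    (rg q).map (Matrix.toLin' (g : Matrix ι ι F)) = rg (cj g q) := by
  apply le_antisymm
  · rintro _ ⟨_, ⟨w, rfl⟩, rfl⟩
    refine ⟨(g : Matrix ι ι F) *ᵥ w, ?_⟩
    simp [Matrix.toLin'_apply, Matrix.mulVec_mulVec, cj, mul_assoc]
  · rintro _ ⟨w, rfl⟩
    refine ⟨q *ᵥ (((g⁻¹ : GL ι F) : Matrix ι ι F) *ᵥ w), mulVec_mem_rg _ _, ?_⟩
    simp [Matrix.toLin'_apply, Matrix.mulVec_mulVec, cj, mul_assoc]

/-- An irreducible group permuting orthogonal idempotents is transitive on the non-zero ones. -/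
theorem idem_trans {H : Subgroup (GL ι F)} (hH : Irr H) {κ : Type*} (q : κ → Matrix ι ι F)
    (hidem : ∀ c, q c * q c = q c) (horth : ∀ c d, c ≠ d → q c * q d = 0)
    (hperm : ∀ g ∈ H, ∀ c, ∃ d, cj g (q c) = q d) {a b : κ} (ha : q a ≠ 0) (hb : q b ≠ 0) :
    ∃ g ∈ H, cj g (q a) = q b := by
  by_contra hno
  push Not at hno
  apply hb
  have htop := iSup_map_eq_top hH (rg_ne_bot ha)
  have hle : (⊤ : Submodule F (ι → F)) ≤ LinearMap.ker (Matrix.toLin' (q b)) := by
    rw [← htop]
    refine iSup_le fun g => ?_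
    rw [map_rg]
    obtain ⟨d, hd⟩ := hperm g g.2 a
    rw [hd]
    rintro v hv
    have hdb : b ≠ d := fun h => hno g g.2 (by rw [hd, h])
    rw [LinearMap.mem_ker, Matrix.toLin'_apply, ← (mem_rg (hidem d)).1 hv, Matrix.mulVec_mulVec, horth b d hdb,
      Matrix.zero_mulVec]
  apply Matrix.toLin'.injective
  rw [map_zero]
  exact LinearMap.ker_eq_top.1 (top_le_iff.1 hle)

/-- Permuted orthogonal idempotents summing to one give a transitively permuted decomposition. -/
theorem decomp_of_idem {H : Subgroup (GL ι F)} (hH : Irr H) {t : ℕ} (ht : 2 ≤ t) (q : Fin t → Matrix ι ι F)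
    (hne : ∀ c, q c ≠ 0) (hidem : ∀ c, q c * q c = q c) (horth : ∀ c d, c ≠ d → q c * q d = 0)
    (hsum : ∑ c, q c = 1) (hperm : ∀ g ∈ H, ∀ c, ∃ d, cj g (q c) = q d) :
    ∃ k, IsMDecomposition k (fun c => rg (q c)) ∧ H ≤ decompositionStabilizer (fun c => rg (q c)) ∧
      ∀ c d, ∃ g ∈ H, (rg (q c)).map (Matrix.toLin' (g : Matrix ι ι F)) = rg (q d) := by
  have hinj : ∀ c d, q c = q d → c = d := fun c d h => by
    by_contra hcd
    apply hne c
    rw [← hidem c]
    conv_lhs => arg 2; rw [h]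
    exact horth c d hcd
  have htrans : ∀ c d, ∃ g ∈ H, (rg (q c)).map (Matrix.toLin' (g : Matrix ι ι F)) = rg (q d) := fun c d => by
    obtain ⟨g, hg, h⟩ := idem_trans hH q hidem horth hperm (hne c) (hne d)
    exact ⟨g, hg, by rw [map_rg, h]⟩
  let z : Fin t := ⟨0, by omega⟩
  refine ⟨finrank F (rg (q z)), ⟨ht, ?_, fun c => ?_, ?_, ?_⟩, fun g hg => ?_, htrans⟩
  · exact Nat.pos_of_ne_zero fun h => rg_ne_bot (hne z) (Submodule.finrank_eq_zero.1 h)
  · obtain ⟨g, -, h⟩ := htrans z c
    show finrank F (rg (q c)) = _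
    rw [← h]
    exact (Submodule.equivMapOfInjective _ (map_inj g) _).finrank_eq.symm
  · intro c
    rw [disjoint_iff, eq_bot_iff]
    rintro v ⟨hv1, hv2⟩
    have hle : (⨆ (d) (_ : d ≠ c), rg (q d)) ≤ LinearMap.ker (Matrix.toLin' (q c)) := iSup₂_le fun d hdc u hu => by
      rw [LinearMap.mem_ker, Matrix.toLin'_apply, ← (mem_rg (hidem d)).1 hu, Matrix.mulVec_mulVec,
        horth c d (Ne.symm hdc), Matrix.zero_mulVec]
    have h1 := hle hv2
    rw [LinearMap.mem_ker, Matrix.toLin'_apply, (mem_rg (hidem c)).1 hv1] at h1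
    exact (Submodule.mem_bot F).2 h1
  · rw [eq_top_iff]
    intro v _
    rw [← Matrix.one_mulVec v, ← hsum, Matrix.sum_mulVec]
    exact Submodule.sum_mem _ fun c _ => Submodule.mem_iSup_of_mem c (mulVec_mem_rg _ _)
  · choose τ hτ using hperm g hg
    have hτinj : Function.Injective τ := fun a b h => hinj a b (by
      have h1 := hτ a
      rw [h, ← hτ b] at h1
      simpa [cj_inv_cj] using congrArg (cj g⁻¹) h1)
    exact ⟨Equiv.ofBijective τ (Finite.injective_iff_bijective.1 hτinj), fun c => by rw [map_rg, hτ]; rfl⟩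

/-- An idempotent and its adjoint splitting the space into a permuted pair of totally singular subspaces. -/
def SkewPair (σ : F ≃+* F) (G : Matrix ι ι F) (H : Subgroup (GL ι F)) : Prop :=
  ∃ p : Matrix ι ι F, p * p = p ∧ p + adj σ G p = 1 ∧ p ≠ 0 ∧ adj σ G p ≠ 0 ∧
    ∀ g ∈ H, cj g p = p ∨ cj g p = adj σ G p

/-- A transitively permuted orthogonal decomposition into non-degenerate subspaces. -/
def OrthDecomp (σ : F ≃+* F) (G : Matrix ι ι F) (H : Subgroup (GL ι F)) : Prop :=
  ∃ (t k : ℕ) (D : Fin t → Submodule F (ι → F)), IsNondegenerateMDecomposition (formOfGram σ G) k D ∧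
    H ≤ decompositionStabilizer D ∧ ∀ i j, ∃ g ∈ H, (D i).map (Matrix.toLin' (g : Matrix ι ι F)) = D j

variable {σ : F ≃+* F} {G : Matrix ι ι F}

/-- The decomposition of a skew pair. -/
theorem pair_decomp (hG : Refl σ G) {H : Subgroup (GL ι F)} (hH : Sims σ H G) (hirr : Irr H)
    (h : SkewPair σ G H) :
    ∃ (k : ℕ) (D : Fin 2 → Submodule F (ι → F)), 2 * k = Fintype.card ι ∧ IsMDecomposition k D ∧
      (∀ i, IsTotallySingularFor (formOfGram σ G) (D i)) ∧ H ≤ decompositionStabilizer D := by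
  obtain ⟨p, hp, hsum, hp0, hp0', hperm⟩ := h
  set p' := adj σ G p with hp'
  have hp'' : p' * p' = p' := by rw [hp', ← hG.adj_mul, hp]
  have h01 : p * p' = 0 := by
    have := congrArg (p * ·) hsum
    simp only [Matrix.mul_add, hp, mul_one] at this
    exact left_eq_add.1 this.symm
  have h10 : p' * p = 0 := by
    have := congrArg (· * p) hsum
    simp only [Matrix.add_mul, hp, one_mul] at this
    exact left_eq_add.1 this.symm
  obtain ⟨k, hD, hle, -⟩ := decomp_of_idem hirr le_rfl ![p, p'] (by intro c; fin_cases c <;> assumption)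
    (by intro c; fin_cases c <;> assumption)
    (by intro c d hcd; fin_cases c <;> fin_cases d <;> first | exact absurd rfl hcd | assumption)
    (by simpa [Fin.sum_univ_two] using hsum) (by
      intro g hg c
      obtain ⟨μ, hμ⟩ := hH g hg
      fin_cases c
      · rcases hperm g hg with h | h
        · exact ⟨0, h⟩
        · exact ⟨1, h⟩
      · rcases hperm g hg with h | h
        · refine ⟨1, ?_⟩
          show cj g p' = p'
          rw [hp', ← hG.adj_cj hμ, h]
        · refine ⟨0, ?_⟩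
          show cj g p' = p
          rw [hp', ← hG.adj_cj hμ, h, hp', hG.adj_adj])
  refine ⟨k, _, ?_, hD, ?_, hle⟩
  · have h1 := Submodule.finrank_sup_add_finrank_inf_eq (rg p) (rg p')
    have hdis : rg p ⊓ rg p' = ⊥ := by
      rw [eq_bot_iff]
      rintro v ⟨hv, hv'⟩
      rw [Submodule.mem_bot, ← (mem_rg hp).1 hv, ← (mem_rg hp'').1 hv', Matrix.mulVec_mulVec, h01,
        Matrix.zero_mulVec]
    have htop : rg p ⊔ rg p' = ⊤ := by
      rw [eq_top_iff]
      intro v _
      rw [← Matrix.one_mulVec v, ← hsum, Matrix.add_mulVec]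
      exact Submodule.add_mem_sup (mulVec_mem_rg _ _) (mulVec_mem_rg _ _)
    have e0 : finrank F (rg p) = k := hD.finrank_eq 0
    have e1 : finrank F (rg p') = k := hD.finrank_eq 1
    rw [htop, hdis, finrank_top, finrank_bot, Module.finrank_fintype_fun_eq_card, e0, e1] at h1
    omega
  · intro c u hu v hv
    fin_cases c
    · change u ∈ rg p at hu
      change v ∈ rg p at hv
      rw [← (mem_rg hp).1 hu, hG.form_left, ← hp', ← (mem_rg hp).1 hv, Matrix.mulVec_mulVec, h10,
        Matrix.zero_mulVec]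
      simp [formOfGram]
    · change u ∈ rg p' at hu
      change v ∈ rg p' at hv
      rw [← (mem_rg hp'').1 hu, hG.form_left, hp', hG.adj_adj, ← (mem_rg hp'').1 hv, Matrix.mulVec_mulVec,
        h01, Matrix.zero_mulVec]
      simp [formOfGram]

/-- Self-adjoint permuted idempotents give an orthogonal decomposition. -/
theorem orth_decomp (hG : Refl σ G) {H : Subgroup (GL ι F)} (hirr : Irr H) {t : ℕ} (ht : 2 ≤ t)
    (q : Fin t → Matrix ι ι F) (hne : ∀ c, q c ≠ 0) (hidem : ∀ c, q c * q c = q c)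
    (horth : ∀ c d, c ≠ d → q c * q d = 0) (hsum : ∑ c, q c = 1)
    (hperm : ∀ g ∈ H, ∀ c, ∃ d, cj g (q c) = q d) (hself : ∀ c, adj σ G (q c) = q c) : OrthDecomp σ G H := by
  obtain ⟨k, hD, hle, htr⟩ := decomp_of_idem hirr ht q hne hidem horth hsum hperm
  refine ⟨t, k, _, ⟨hD, fun c => hG.nondeg_on ?_, fun c d hcd u hu v hv => ?_⟩, hle, htr⟩
  · rw [eq_bot_iff]
    rintro w ⟨hw, hwp⟩
    rw [Submodule.mem_bot]
    by_contra hw0
    obtain ⟨v, hv⟩ := (hG.nondeg w hw0).2
    apply hv
    rw [← (mem_rg (hidem c)).1 hw, hG.form_left, hself]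
    exact hwp _ (mulVec_mem_rg _ _)
  · rw [← (mem_rg (hidem c)).1 hu, hG.form_left, hself, ← (mem_rg (hidem d)).1 hv, Matrix.mulVec_mulVec,
      horth c d hcd, Matrix.zero_mulVec]
    simp [formOfGram]

/-- Projections of a decomposition. -/
theorem exists_proj {t k : ℕ} {D : Fin t → Submodule F (ι → F)} (hD : IsMDecomposition k D) :
    ∃ p : Fin t → Matrix ι ι F, (∀ i, ∀ v ∈ D i, p i *ᵥ v = v) ∧
      (∀ i j, i ≠ j → ∀ v ∈ D j, p i *ᵥ v = 0) ∧ (∀ i v, p i *ᵥ v ∈ D i) ∧
      ∀ A B : Matrix ι ι F, (∀ i, ∀ v ∈ D i, A *ᵥ v = B *ᵥ v) → A = B := by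
  classical
  let U : Fin t → Submodule F (ι → F) := fun i => ⨆ (j) (_ : j ≠ i), D j
  have hc : ∀ i, IsCompl (D i) (U i) := fun i => ⟨hD.indep i, codisjoint_iff.2 (by
    rw [eq_top_iff, ← hD.iSup_eq_top]
    refine iSup_le fun j => ?_
    by_cases hj : j = i
    · subst hj; exact le_sup_left
    · exact le_sup_of_le_right (le_iSup₂_of_le j hj le_rfl))⟩
  let p : Fin t → Matrix ι ι F := fun i =>
    LinearMap.toMatrix' ((D i).subtype.comp (Submodule.projectionOnto _ _ (hc i)))
  have hp : ∀ i v, p i *ᵥ v = (Submodule.projectionOnto _ _ (hc i) v : ι → F) := fun i v => by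
    rw [← Matrix.toLin'_apply, Matrix.toLin'_toMatrix']
    rfl
  refine ⟨p, fun i v hv => by rw [hp, Submodule.projectionOnto_apply_of_mem_left (hc i) hv],
    fun i j hij v hv => by
      rw [hp, Submodule.projectionOnto_apply_of_mem_right (hc i)
        (le_iSup₂_of_le (f := fun j (_ : j ≠ i) => D j) j (Ne.symm hij) le_rfl hv), Submodule.coe_zero],
    fun i v => by rw [hp]; exact SetLike.coe_mem _, fun A B h => ?_⟩
  apply Matrix.toLin'.injective
  refine LinearMap.ext fun v => ?_
  have hle : (⊤ : Submodule F (ι → F)) ≤ LinearMap.eqLocus (Matrix.toLin' A) (Matrix.toLin' B) := by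
    rw [← hD.iSup_eq_top]
    exact iSup_le fun i w hw => by
      rw [LinearMap.mem_eqLocus, Matrix.toLin'_apply, Matrix.toLin'_apply]
      exact h i w hw
  exact hle (Submodule.mem_top : v ∈ ⊤)

/-- A decomposition stable under the commutant of a group of similitudes. -/
theorem imprimitive_case (hG : Refl σ G) {H N : Subgroup (GL ι F)} (hH : Sims σ H G) (hN : Sims σ N G)
    (hirr : Irr H) {t k : ℕ} {D : Fin t → Submodule F (ι → F)} (hD : IsMDecomposition k D)
    (hle : H ≤ decompositionStabilizer D)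
    (hDc : ∀ M : Matrix ι ι F, Com N M → ∀ i, ∀ v ∈ D i, M *ᵥ v ∈ D i) (hDi : ∀ i, Inv N (D i)) :
    OrthDecomp σ G H ∨ SkewPair σ G H := by
  classical
  obtain ⟨p, hfix, hkill, hmem, hext⟩ := exists_proj hD
  have hcomp : ∀ i M, (∀ j, ∀ v ∈ D j, M *ᵥ v ∈ D j) → M * p i = p i * M := fun i M hM => by
    refine hext _ _ fun j v hv => ?_
    rw [← Matrix.mulVec_mulVec, ← Matrix.mulVec_mulVec]
    by_cases hij : i = j
    · subst hij; rw [hfix i v hv, hfix i _ (hM i v hv)]
    · rw [hkill i j hij v hv, hkill i j hij _ (hM j v hv), Matrix.mulVec_zero]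
  have hpN : ∀ i, Com N (p i) := fun i x hx => (hcomp i _ fun j v hv => hDi j x hx v hv).symm
  have hcen : ∀ i M, Com N M → M * p i = p i * M := fun i M hM => hcomp i M (hDc M hM)
  have hpp : ∀ i j, p i * p j = if i = j then p i else 0 := fun i j => by
    refine hext _ _ fun l v hv => ?_
    rw [← Matrix.mulVec_mulVec]
    by_cases hjl : j = l
    · subst hjl
      rw [hfix j v hv]
      by_cases hij : i = j
      · subst hij; rw [if_pos rfl]
      · rw [if_neg hij, hkill i j hij v hv, Matrix.zero_mulVec]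
    · rw [hkill j l hjl v hv, Matrix.mulVec_zero]
      by_cases hij : i = j
      · subst hij; rw [if_pos rfl, hkill i l hjl v hv]
      · rw [if_neg hij, Matrix.zero_mulVec]
  have hsum : ∑ i, p i = 1 := hext _ _ fun l v hv => by
    rw [Matrix.sum_mulVec, Finset.sum_eq_single l (fun i _ hi => hkill i l hi v hv)
      (fun h => absurd (Finset.mem_univ _) h), hfix l v hv, Matrix.one_mulVec]
  have hp0 : ∀ i, p i ≠ 0 := fun i h => by
    have hbot : D i = ⊥ := (Submodule.eq_bot_iff _).2 fun v hv => by rw [← hfix i v hv, h, Matrix.zero_mulVec]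
    have := hD.finrank_eq i
    rw [hbot, finrank_bot] at this
    exact hD.pos.ne this
  have hperm : ∀ g ∈ H, ∃ τ : Equiv.Perm (Fin t), ∀ i, cj g (p i) = p (τ i) := by
    intro g hg
    obtain ⟨τ, hτ⟩ := hle hg
    refine ⟨τ, fun i => hext _ _ fun l v hv => ?_⟩
    obtain ⟨j, rfl⟩ := τ.surjective l
    rw [← hτ j] at hv
    obtain ⟨w, hw, rfl⟩ := hv
    have hgw : Matrix.toLin' (g : Matrix ι ι F) w ∈ D (τ j) := hτ j ▸ ⟨w, hw, rfl⟩
    rw [Matrix.toLin'_apply] at hgw ⊢
    rw [show cj g (p i) *ᵥ ((g : Matrix ι ι F) *ᵥ w) = (g : Matrix ι ι F) *ᵥ (p i *ᵥ w) by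
      simp [cj, Matrix.mulVec_mulVec, mul_assoc]]
    by_cases hij : i = j
    · subst hij; rw [hfix i w hw, hfix (τ i) _ hgw]
    · rw [hkill i j hij w hw, Matrix.mulVec_zero, hkill _ _ (fun h => hij (τ.injective h)) _ hgw]
  -- the products
  let e : Fin t × Fin t → Matrix ι ι F := fun c => p c.1 * adj σ G (p c.2)
  have hswap : ∀ i j, adj σ G (e (i, j)) = e (j, i) := fun i j => by
    show adj σ G (p i * adj σ G (p j)) = _
    rw [hG.adj_mul, hG.adj_adj]
  have hmul : ∀ c d, e c * e d = (if c = d then e c else 0) := by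
    rintro ⟨i, j⟩ ⟨a, b⟩
    show p i * adj σ G (p j) * (p a * adj σ G (p b)) = _
    rw [mul_assoc, ← mul_assoc (adj σ G (p j)), hcen a _ (hG.adj_com hN (hpN j)), mul_assoc (p a),
      ← hG.adj_mul, ← mul_assoc, hpp, hpp]
    by_cases h1 : i = a
    · subst h1
      by_cases h2 : b = j
      · subst h2; rw [if_pos rfl, if_pos rfl, if_pos rfl]
      · rw [if_pos rfl, if_neg h2, hG.adj_zero, mul_zero, if_neg (fun h => h2 (congrArg Prod.snd h).symm)]
    · rw [if_neg h1, zero_mul, if_neg (fun h => h1 (congrArg Prod.fst h))]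
  have hidem : ∀ c, e c * e c = e c := fun c => by rw [hmul, if_pos rfl]
  have horth : ∀ c d, c ≠ d → e c * e d = 0 := fun c d h => by rw [hmul, if_neg h]
  have hrow : ∀ i, ∑ j, e (i, j) = p i := fun i => by
    show ∑ j, p i * adj σ G (p j) = _
    rw [← Finset.mul_sum, ← hG.adj_sum, hsum, hG.adj_one, mul_one]
  have hpe : ∀ g ∈ H, ∃ τ : Equiv.Perm (Fin t), ∀ i j, cj g (e (i, j)) = e (τ i, τ j) := by
    intro g hg
    obtain ⟨τ, hτ⟩ := hperm g hg
    obtain ⟨μ, hμ⟩ := hH g hg
    refine ⟨τ, fun i j => ?_⟩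
    show cj g (p i * adj σ G (p j)) = p (τ i) * adj σ G (p (τ j))
    rw [cj_mul, ← hG.adj_cj hμ, hτ, hτ]
  by_cases hdiag : ∀ i j, i ≠ j → e (i, j) = 0
  · left
    have hself : ∀ i, adj σ G (p i) = p i := fun i => by
      have h1 : p i = e (i, i) := by
        rw [← hrow i]
        exact Finset.sum_eq_single i (fun j _ hj => hdiag i j (Ne.symm hj)) fun h => absurd (Finset.mem_univ _) h
      conv_lhs => rw [h1, hswap]
      exact h1.symm
    exact orth_decomp hG hirr hD.two_le p hp0 (fun i => by rw [hpp, if_pos rfl])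
      (fun i j h => by rw [hpp, if_neg h]) hsum
      (fun g hg i => by obtain ⟨τ, hτ⟩ := hperm g hg; exact ⟨τ i, hτ i⟩) hself
  push Not at hdiag
  obtain ⟨a, b, hab, hne⟩ := hdiag
  have hoff : ∀ i, e (i, i) = 0 := fun i => by
    by_contra hne'
    obtain ⟨g, hg, hge⟩ := idem_trans hirr e hidem horth
      (fun g hg c => by obtain ⟨τ, hτ⟩ := hpe g hg; exact ⟨(τ c.1, τ c.2), hτ _ _⟩) hne' hne
    obtain ⟨τ, hτ⟩ := hpe g hg
    rw [hτ] at hge
    have hne2 : ((τ i, τ i) : Fin t × Fin t) ≠ (a, b) := fun h =>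
      hab ((congrArg Prod.fst h).symm.trans (congrArg Prod.snd h))
    refine hne ?_
    have := horth _ _ hne2
    rw [hge, hidem] at this
    exact this
  have hpartner : ∀ i, ∃ j, j ≠ i ∧ e (i, j) ≠ 0 := fun i => by
    by_contra hno
    push Not at hno
    refine hp0 i ?_
    rw [← hrow i]
    refine Finset.sum_eq_zero fun j _ => ?_
    by_cases hji : j = i
    · subst hji; exact hoff j
    · exact hno j hji
  rcases Nat.lt_or_ge t 3 with ht3 | ht3
  · right
    have ht2 : t = 2 := by have := hD.two_le; omega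
    subst ht2
    have h0 : p 0 = e (0, 1) := by rw [← hrow 0, Fin.sum_univ_two, hoff, zero_add]
    have h1 : p 1 = e (1, 0) := by rw [← hrow 1, Fin.sum_univ_two, hoff, add_zero]
    have hadj : adj σ G (p 0) = p 1 := by rw [h0, hswap, ← h1]
    refine ⟨p 0, by rw [hpp, if_pos rfl], ?_, hp0 0, by rw [hadj]; exact hp0 1, fun g hg => ?_⟩
    · rw [hadj, ← hsum, Fin.sum_univ_two]
    · obtain ⟨τ, hτ⟩ := hperm g hg
      rw [hadj, hτ]
      generalize τ 0 = c
      fin_cases c
      · exact Or.inl rfl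
      · exact Or.inr rfl
  · left
    let S : Finset (Fin t × Fin t) := Finset.univ.filter fun c => c.1 < c.2 ∧ e c ≠ 0
    have hpick : ∀ i, ∃ c ∈ S, c.1 = i ∨ c.2 = i := fun i => by
      obtain ⟨j, hji, hje⟩ := hpartner i
      rcases lt_or_gt_of_ne hji with h | h
      · refine ⟨(j, i), Finset.mem_filter.2 ⟨Finset.mem_univ _, h, fun h0 => hje ?_⟩, Or.inr rfl⟩
        rw [← hswap j i, h0, hG.adj_zero]
      · exact ⟨(i, j), Finset.mem_filter.2 ⟨Finset.mem_univ _, h, hje⟩, Or.inl rfl⟩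
    let q : S → Matrix ι ι F := fun c => e c.1 + e (c.1.2, c.1.1)
    have hlt : ∀ c : S, c.1.1 < c.1.2 := fun c => (Finset.mem_filter.1 c.2).2.1
    have hqe : ∀ c : S, ∀ d : Fin t × Fin t, e d * q c = (if d = c.1 ∨ d = (c.1.2, c.1.1) then e d else 0) := by
      intro c d
      show e d * (e c.1 + e (c.1.2, c.1.1)) = _
      rw [Matrix.mul_add, hmul, hmul]
      by_cases h1 : d = c.1
      · have h2 : d ≠ (c.1.2, c.1.1) := fun h => (hlt c).ne (congrArg Prod.fst (h1.symm.trans h))
        rw [if_pos h1, if_neg h2, if_pos (Or.inl h1), add_zero]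
      · rw [if_neg h1, zero_add]
        by_cases h2 : d = (c.1.2, c.1.1)
        · rw [if_pos h2, if_pos (Or.inr h2)]
        · rw [if_neg h2, if_neg (not_or.2 ⟨h1, h2⟩)]
    have hqmul : ∀ c d : S, q c * q d = if c = d then q c else 0 := by
      intro c d
      show (e c.1 + e (c.1.2, c.1.1)) * q d = _
      rw [Matrix.add_mul, hqe, hqe]
      by_cases hcd : c = d
      · subst hcd
        rw [if_pos (Or.inl rfl), if_pos (Or.inr rfl), if_pos rfl]
      · have h1 : ¬ (c.1 = d.1 ∨ c.1 = (d.1.2, d.1.1)) := by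
          rintro (h | h)
          · exact hcd (Subtype.ext h)
          · have := hlt c; rw [h] at this; exact absurd (hlt d) (not_lt.2 this.le)
        have h2 : ¬ ((c.1.2, c.1.1) = d.1 ∨ (c.1.2, c.1.1) = (d.1.2, d.1.1)) := by
          rintro (h | h)
          · have := hlt d; rw [← h] at this; exact absurd (hlt c) (not_lt.2 this.le)
          · exact hcd (Subtype.ext (Prod.ext (congrArg Prod.snd h) (congrArg Prod.fst h)))
        rw [if_neg h1, if_neg h2, if_neg hcd, add_zero]
    have hqself : ∀ c : S, adj σ G (q c) = q c := fun c => by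
      show adj σ G (e c.1 + e (c.1.2, c.1.1)) = _
      rw [hG.adj_add, show adj σ G (e c.1) = e (c.1.2, c.1.1) from hswap _ _, hswap, add_comm]
    have hqne : ∀ c : S, q c ≠ 0 := fun c h => (Finset.mem_filter.1 c.2).2.2 (by
      have := hqe c c.1
      rwa [h, mul_zero, if_pos (Or.inl rfl), eq_comm] at this)
    have hqsum : ∑ c : S, q c = 1 := by
      have h1 : ∑ c : Fin t × Fin t, e c = 1 := by rw [Fintype.sum_prod_type]; simp only [hrow, hsum]
      have hnd : ∀ c : Fin t × Fin t, ¬ (c.1 < c.2 ∧ e c ≠ 0) → ¬ (c.2 < c.1 ∧ e c ≠ 0) → e c = 0 := by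
        rintro ⟨i, j⟩ ha hb
        by_contra h0
        rcases lt_trichotomy i j with h | h | h
        · exact ha ⟨h, h0⟩
        · subst h; exact h0 (hoff i)
        · exact hb ⟨h, h0⟩
      rw [← h1, ← Finset.sum_filter_add_sum_filter_not Finset.univ (fun c : Fin t × Fin t => c.1 < c.2 ∧ e c ≠ 0)]
      rw [Finset.sum_add_distrib, Finset.sum_coe_sort S (fun c => e c),
        Finset.sum_coe_sort S (fun c => e (c.2, c.1))]
      congr 1
      refine Finset.sum_bij_ne_zero (fun c _ _ => (c.2, c.1)) (fun c hc _ => ?_) (fun c _ _ d _ _ h => ?_)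
        (fun d hd hd0 => ?_) fun c _ _ => rfl
      · simp only [S, Finset.mem_filter, Finset.mem_univ, true_and] at hc ⊢
        exact fun h => absurd h.1 (not_lt.2 hc.1.le)
      · exact Prod.ext (congrArg Prod.snd h) (congrArg Prod.fst h)
      · simp only [S, Finset.mem_filter, Finset.mem_univ, true_and] at hd ⊢
        have h2 : d.2 < d.1 := by
          by_contra h
          exact hd0 (hnd d hd fun h' => h h'.1)
        refine ⟨(d.2, d.1), ⟨h2, fun h0 => hd0 ?_⟩, hd0, rfl⟩
        show e (d.1, d.2) = 0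
        rw [← hswap, h0, hG.adj_zero]
    have hqperm : ∀ g ∈ H, ∀ c : S, ∃ d : S, cj g (q c) = q d := by
      intro g hg c
      obtain ⟨τ, hτ⟩ := hpe g hg
      have hne' : e (τ c.1.1, τ c.1.2) ≠ 0 := fun h => (Finset.mem_filter.1 c.2).2.2 (by
        have h1 := hτ c.1.1 c.1.2
        rw [h] at h1
        have h2 := congrArg (cj g⁻¹) h1
        rw [cj_inv_cj] at h2
        simpa [cj] using h2)
      rcases lt_or_gt_of_ne (fun h => (hlt c).ne (τ.injective h) : τ c.1.1 ≠ τ c.1.2) with h | h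
      · refine ⟨⟨(τ c.1.1, τ c.1.2), Finset.mem_filter.2 ⟨Finset.mem_univ _, h, hne'⟩⟩, ?_⟩
        show cj g (e c.1 + e (c.1.2, c.1.1)) = _
        rw [cj_add, show e c.1 = e (c.1.1, c.1.2) from rfl, hτ, hτ]
      · refine ⟨⟨(τ c.1.2, τ c.1.1), Finset.mem_filter.2 ⟨Finset.mem_univ _, h, fun h0 => hne' ?_⟩⟩, ?_⟩
        · rw [← hswap, h0, hG.adj_zero]
        · show cj g (e c.1 + e (c.1.2, c.1.1)) = _
          rw [cj_add, show e c.1 = e (c.1.1, c.1.2) from rfl, hτ, hτ, add_comm]
    let ε := (Fintype.equivFin S).symm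
    have hcard : 2 ≤ Fintype.card S := by
      obtain ⟨c, hc, hc0⟩ := hpick ⟨0, by omega⟩
      obtain ⟨l, hl1, hl2⟩ : ∃ l, l ≠ c.1 ∧ l ≠ c.2 := by
        by_contra hno
        push Not at hno
        have hsub : (Finset.univ : Finset (Fin t)) ⊆ {c.1, c.2} := fun l _ => by
          by_cases h : l = c.1
          · simp [h]
          · simp [hno l h]
        have := (Finset.card_le_card hsub).trans Finset.card_le_two
        rw [Finset.card_univ, Fintype.card_fin] at this
        omega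
      obtain ⟨d, hd, hdl⟩ := hpick l
      rw [Fintype.card_coe]
      exact Finset.one_lt_card.2 ⟨c, hc, d, hd, fun h => by
        subst h
        rcases hdl with h | h
        · exact hl1 h.symm
        · exact hl2 h.symm⟩
    refine orth_decomp hG hirr hcard (fun c => q (ε c)) (fun c => hqne _) (fun c => by rw [hqmul, if_pos rfl])
      (fun c d h => by rw [hqmul, if_neg (fun he => h (ε.injective he))]) ?_ (fun g hg c => ?_)
      (fun c => hqself _)
    · rw [ε.sum_comp q]; exact hqsum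
    · obtain ⟨d, hd⟩ := hqperm g hg (ε c)
      exact ⟨ε.symm d, by rw [hd, Equiv.apply_symm_apply]⟩

end Cfsg.Agent.Classical.Asch
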