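import Cfsg.Agent.Lib.Classical.AschFormField
import Cfsg.Agent.Lib.Classical.GaloisDescent

/-!
Absolutely irreducible groups of similitudes rational over a subfield: the form is rational up to a scalar; two
forms for different field automorphisms force rationality.
-/

set_option autoImplicit false
set_option linter.unusedSectionVars false
set_option linter.unusedFintypeInType false
set_option linter.unusedDecidableInType false

namespace Cfsg.Agent.Classical.Asch

open Matrix Module Cfsg.Geo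

variable {F : Type*} [Field F] {ι : Type} [Fintype ι] [DecidableEq ι] {σ : F ≃+* F} {G : Matrix ι ι F}

/-- A subfield group compatible with the form up to a scalar. -/
def RatCase [Fintype F] (σ : F ≃+* F) (G : Matrix ι ι F) (H : Subgroup (GL ι F)) : Prop :=
  ∃ (F₁ : Subfield F) (r : ℕ) (P : GL ι F) (ζ : F), r.Prime ∧ Fintype.card F = Nat.card F₁ ^ r ∧ ζ ≠ 0 ∧
    (∀ i j, ζ * ((P : Matrix ι ι F)ᵀ * (G * (P : Matrix ι ι F).map σ)) i j ∈ F₁) ∧ H ≤ subfieldSubgroup F₁ P

/-- Two matrices scaled alike by an absolutely irreducible group are proportional. -/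
theorem eq_smul_of_same {P : Subgroup (GL ι F)} (hP : AI P) {G G' : Matrix ι ι F} (hG : IsUnit G)
    (h : ∀ x ∈ P, ∃ μ : F, (x : Matrix ι ι F)ᵀ * (G * (x : Matrix ι ι F).map σ) = μ • G ∧
      (x : Matrix ι ι F)ᵀ * (G' * (x : Matrix ι ι F).map σ) = μ • G') : ∃ c : F, G' = c • G := by
  obtain ⟨u, rfl⟩ := hG
  set D : Matrix ι ι F := ((u⁻¹ : (Matrix ι ι F)ˣ) : Matrix ι ι F) * G' with hD
  obtain ⟨c, hc⟩ := hP.scalar (M := D.map σ.symm) fun x hx => by
    obtain ⟨μ, h1, h2⟩ := h x hx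
    have hxT : (((x⁻¹ : GL ι F) : Matrix ι ι F))ᵀ * (x : Matrix ι ι F)ᵀ = 1 := by
      rw [← Matrix.transpose_mul, Units.mul_inv, Matrix.transpose_one]
    have e1 : ∀ M : Matrix ι ι F, (x : Matrix ι ι F)ᵀ * (M * (x : Matrix ι ι F).map σ) = μ • M →
        M * (x : Matrix ι ι F).map σ = μ • ((((x⁻¹ : GL ι F) : Matrix ι ι F))ᵀ * M) := fun M hM => by
      rw [← Matrix.mul_smul, ← hM, ← mul_assoc, hxT, one_mul]
    have key : D * (x : Matrix ι ι F).map σ = (x : Matrix ι ι F).map σ * D := by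
      have hu : (u : Matrix ι ι F) * D = G' := by rw [hD, ← mul_assoc, Units.mul_inv, one_mul]
      apply u.isUnit.mul_left_cancel
      rw [← mul_assoc, hu, e1 G' h2, ← mul_assoc (u : Matrix ι ι F), e1 _ h1, Matrix.smul_mul, mul_assoc, hu]
    have := congrArg (fun M : Matrix ι ι F => M.map σ.symm) key
    simp only [Matrix.map_mul] at this
    rwa [show ((x : Matrix ι ι F).map σ).map σ.symm = (x : Matrix ι ι F) by ext i j; simp] at this
  refine ⟨σ c, ?_⟩
  have hD' : D = σ c • (1 : Matrix ι ι F) := by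
    ext i j
    have := congrArg σ (congrFun (congrFun hc i) j)
    simpa [Matrix.one_apply, apply_ite σ] using this
  calc G' = (u : Matrix ι ι F) * D := by rw [hD, ← mul_assoc, Units.mul_inv, one_mul]
    _ = _ := by rw [hD', Matrix.mul_smul, mul_one]

/-- The multiplier of a similitude is fixed by the automorphism. -/
theorem Refl.mult_fixed (hG : Refl σ G) [Nonempty ι] {x : GL ι F} {μ : F}
    (hx : (x : Matrix ι ι F)ᵀ * (G * (x : Matrix ι ι F).map σ) = μ • G) : σ μ = μ := by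
  obtain ⟨ε, hε⟩ := hG.tr
  have h := congrArg (fun M : Matrix ι ι F => Mᵀ.map σ) hx
  simp only [Matrix.transpose_mul, Matrix.transpose_transpose, Matrix.map_mul, Matrix.transpose_smul, hε,
    map_smul_mat] at h
  rw [show (((x : Matrix ι ι F).map σ)ᵀ).map σ = (x : Matrix ι ι F)ᵀ by ext i j; simp [hG.inv]] at h
  simp only [Matrix.smul_mul, Matrix.mul_smul, mul_assoc, hx, smul_smul] at h
  have h0 : G ≠ 0 := fun h0 => not_isUnit_zero (h0 ▸ hG.unit)
  obtain ⟨i, j, hij⟩ : ∃ i j, G i j ≠ 0 := by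
    by_contra hno
    push Not at hno
    exact h0 (Matrix.ext hno)
  have h2 := congrFun (congrFun h i) j
  simp only [Matrix.smul_apply, smul_eq_mul] at h2
  have h3 := mul_right_cancel₀ hij h2
  rw [mul_comm (σ μ)] at h3
  exact (mul_left_cancel₀ ε.ne_zero h3).symm

/-- The Frobenius map of a subfield. -/
theorem exists_frob [Fintype F] (F₀ : Subfield F) :
    ∃ φ : F →+* F, (∀ a, φ a = a ^ Nat.card F₀) ∧ ∀ a, φ a = a ↔ a ∈ F₀ := by
  classical
  obtain ⟨p, hp⟩ := CharP.exists F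
  haveI := hp
  obtain ⟨⟨f, hf0⟩, hpr, hq⟩ := FiniteField.card F p
  haveI : Fact p.Prime := ⟨hpr⟩
  haveI : Fintype F₀ := Fintype.ofFinite F₀
  haveI : CharP F₀ p := CharP.subring' F p F₀.toSubring
  obtain ⟨⟨f₀, hf₀0⟩, -, hq₀⟩ := FiniteField.card F₀ p
  have hq₀' : Nat.card F₀ = p ^ f₀ := by rw [Nat.card_eq_fintype_card]; exact hq₀
  refine ⟨iterateFrobenius F p f₀, fun a => by rw [hq₀']; rfl, fun a => ⟨fun h => mem_of_frob_fixed F₀ ?_, fun h => ?_⟩⟩
  · rw [hq₀']; exact h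
  · have h1 := congrArg (fun t : F₀ => (t : F)) (FiniteField.pow_card (⟨a, h⟩ : F₀))
    show a ^ p ^ f₀ = a
    rw [← hq₀', Nat.card_eq_fintype_card]
    simpa using h1

/-- Automorphisms preserve subfields of a finite field. -/
theorem map_mem_subfield [Fintype F] (σ : F ≃+* F) {F₀ : Subfield F} {a : F} (ha : a ∈ F₀) : σ a ∈ F₀ := by
  obtain ⟨φ, hφ, hfix⟩ := exists_frob F₀
  rw [← hfix, hφ, ← map_pow, ← hφ, (hfix a).2 ha]

/-- A group of similitudes realised over a subfield has a form rational up to a scalar. -/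
theorem rational_gram [Fintype F] [Nonempty ι] (hG : IsUnit G) {P : Subgroup (GL ι F)} (hP : AI P)
    {F₀ : Subfield F} {B : GL ι F} (hB : ∀ x ∈ P, ∀ i j, cj B (x : Matrix ι ι F) i j ∈ F₀)
    (hμ : ∀ x ∈ P, ∃ μ : F, μ ∈ F₀ ∧ (x : Matrix ι ι F)ᵀ * (G * (x : Matrix ι ι F).map σ) = μ • G) :
    ∃ ζ : F, ζ ≠ 0 ∧ ∀ i j, ζ * ((((B⁻¹ : GL ι F) : Matrix ι ι F))ᵀ *
      (G * (((B⁻¹ : GL ι F) : Matrix ι ι F)).map σ)) i j ∈ F₀ := by
  classical
  set C : Matrix ι ι F := ((B⁻¹ : GL ι F) : Matrix ι ι F) with hC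
  set G' : Matrix ι ι F := Cᵀ * (G * C.map σ) with hG'
  have hG'u : IsUnit G' := ((Matrix.isUnit_transpose _).2 B⁻¹.isUnit).mul
    (hG.mul (B⁻¹.isUnit.map σ.toRingHom.mapMatrix))
  obtain ⟨a, b, hab⟩ : ∃ a b, G' a b ≠ 0 := by
    by_contra hno
    push Not at hno
    exact not_isUnit_zero ((Matrix.ext hno : G' = 0) ▸ hG'u)
  refine ⟨(G' a b)⁻¹, inv_ne_zero hab, fun i j => ?_⟩
  set G₂ : Matrix ι ι F := (G' a b)⁻¹ • G' with hG₂
  suffices h : G₂ i j ∈ F₀ by simpa [hG₂] using h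
  obtain ⟨φ, hφ, hfix⟩ := exists_frob F₀
  have hP' : AI (P.map (MulAut.conj B).toMonoidHom) := by
    refine ai_of (irr_iff.2 fun W hW => ?_) fun M hM => ?_
    · rcases irr_iff.1 hP.irr (W.map (Matrix.toLin' C)) (fun g hg v hv => by
        obtain ⟨w, hw, rfl⟩ := hv
        refine ⟨_, hW _ ⟨g, hg, rfl⟩ w hw, ?_⟩
        simp [Matrix.toLin'_apply, Matrix.mulVec_mulVec, hC, ← mul_assoc]) with h | h
      · exact Or.inl (Submodule.map_injective_of_injective (map_inj B⁻¹) (h.trans (Submodule.map_bot _).symm))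
      · exact Or.inr (Submodule.map_injective_of_injective (map_inj B⁻¹) (h.trans (by
          rw [Submodule.map_top, LinearMap.range_eq_top.2 (LinearMap.injective_iff_surjective.1 (map_inj B⁻¹))])))
    · obtain ⟨c, hc⟩ := hP.scalar (M := cj B⁻¹ M) fun x hx => by
        have := congrArg (cj B⁻¹) (hM _ ⟨x, hx, rfl⟩)
        rw [cj_mul, cj_mul, show cj B⁻¹ (((MulAut.conj B).toMonoidHom x : GL ι F) : Matrix ι ι F) =
          (x : Matrix ι ι F) by rw [cj_coe]; congr 1; simp [mul_assoc]] at this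
        exact this
      refine ⟨c, ?_⟩
      rw [← cj_cj_inv B M, hc, cj_smul, show cj B (1 : Matrix ι ι F) = 1 by simp [cj]]
  have hscale : ∀ y ∈ P.map (MulAut.conj B).toMonoidHom, ∃ μ : F,
      (y : Matrix ι ι F)ᵀ * (G₂ * (y : Matrix ι ι F).map σ) = μ • G₂ ∧
      (y : Matrix ι ι F)ᵀ * (G₂.map φ * (y : Matrix ι ι F).map σ) = μ • G₂.map φ := by
    rintro _ ⟨x, hx, rfl⟩
    obtain ⟨μ, hμ0, hμx⟩ := hμ x hx
    refine ⟨μ, ?_⟩
    set y : GL ι F := (MulAut.conj B).toMonoidHom x with hy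
    have hyx : C * (y : Matrix ι ι F) = (x : Matrix ι ι F) * C := by
      rw [hC, hy, ← Units.val_mul, ← Units.val_mul]
      congr 1
      simp [mul_assoc]
    have h1 : (y : Matrix ι ι F)ᵀ * (G₂ * (y : Matrix ι ι F).map σ) = μ • G₂ := by
      rw [hG₂, Matrix.smul_mul, Matrix.mul_smul, smul_comm μ]
      congr 1
      calc (y : Matrix ι ι F)ᵀ * (G' * (y : Matrix ι ι F).map σ)
          = (C * (y : Matrix ι ι F))ᵀ * (G * (C * (y : Matrix ι ι F)).map σ) := by
            rw [hG', Matrix.transpose_mul, Matrix.map_mul]; simp [mul_assoc]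
        _ = Cᵀ * (((x : Matrix ι ι F)ᵀ * (G * (x : Matrix ι ι F).map σ)) * C.map σ) := by
            rw [hyx, Matrix.transpose_mul, Matrix.map_mul]; simp [mul_assoc]
        _ = μ • G' := by rw [hμx, Matrix.smul_mul, Matrix.mul_smul, hG']
    refine ⟨h1, ?_⟩
    have hyfix : (y : Matrix ι ι F).map φ = (y : Matrix ι ι F) := by
      ext k l
      exact (hfix _).2 (by rw [hy]; show ((B * x * B⁻¹ : GL ι F) : Matrix ι ι F) k l ∈ F₀; rw [← cj_coe]; exact hB x hx k l)
    have h2 := congrArg (fun M : Matrix ι ι F => M.map φ) h1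
    simp only [Matrix.map_mul, Matrix.transpose_map] at h2
    rw [hyfix, show ((y : Matrix ι ι F).map σ).map φ = (y : Matrix ι ι F).map σ by
      ext k l
      have := congrFun (congrFun hyfix k) l
      simp only [Matrix.map_apply] at this ⊢
      rw [hφ, ← map_pow, ← hφ, this],
      show (μ • G₂).map φ = μ • G₂.map φ by ext k l; simp [(hfix μ).2 hμ0]] at h2
    exact h2
  have hG₂u : IsUnit G₂ := by
    rw [hG₂, show (G' a b)⁻¹ • G' = (Units.mk0 _ (inv_ne_zero hab)) • G' from rfl]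
    exact hG'u.smul _
  obtain ⟨c, hc⟩ := eq_smul_of_same hP' hG₂u hscale
  have hc1 : c = 1 := by
    have := congrFun (congrFun hc a) b
    simpa [hG₂, hab, eq_comm] using this
  rw [hc1, one_smul] at hc
  exact (hfix _).1 (congrFun (congrFun hc i) j)

/-- The subfield class from a realised normal group of similitudes. -/
theorem ratCase_of_realised [Fintype F] [Nonempty ι] (hG : IsUnit G) {F₀ : Subfield F} (hne : F₀ ≠ ⊤)
    {N H : Subgroup (GL ι F)} (hN : AI N) (hn : Norms H N) {B : GL ι F}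
    (hB : ∀ x ∈ N, ∀ i j, cj B (x : Matrix ι ι F) i j ∈ F₀)
    (hμ : ∀ x ∈ N, ∃ μ : F, μ ∈ F₀ ∧ (x : Matrix ι ι F)ᵀ * (G * (x : Matrix ι ι F).map σ) = μ • G) :
    RatCase σ G H := by
  obtain ⟨F₁, r, hr, hle, hcard⟩ := exists_prime_index hne
  obtain ⟨ζ, hζ, hmem⟩ := rational_gram hG hN hB hμ
  exact ⟨F₁, r, B⁻¹, ζ, hr, hcard, hζ, fun i j => hle (hmem i j),
    le_subfieldSubgroup hN hn fun x hx i j => hle (hB x hx i j)⟩

/-- The fixed field of an automorphism. -/
def fixField (τ : RingAut F) : Subfield F := RingHom.eqLocusField τ.toRingHom (RingHom.id F)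

theorem mem_fixField {τ : RingAut F} {a : F} : a ∈ fixField τ ↔ τ a = a := Iff.rfl

theorem fixField_ne_top {τ : RingAut F} (h : τ ≠ 1) : fixField τ ≠ ⊤ := fun ht => h (RingEquiv.ext fun a => by
  have : a ∈ fixField τ := ht ▸ Subfield.mem_top a
  exact this)

/-- A group with a twisted self-intertwiner of scalar norm is rational up to scalars over the fixed field. -/
theorem rational_of_twist [Fintype F] [Nonempty ι] (τ : RingAut F) (g : GL ι F) {c : Fˣ}
    (hnorm : Descent.twistNorm τ g (orderOf τ) = Matrix.GeneralLinearGroup.scalar ι c)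
    (P : Subgroup (GL ι F))
    (h : ∀ x ∈ P, ∃ ν : Fˣ, x = Matrix.GeneralLinearGroup.scalar ι ν * (g * Descent.gmap τ x * g⁻¹)) :
    ∃ B : GL ι F, ∀ x ∈ P, (x = g * Descent.gmap τ x * g⁻¹ → ∀ i j, cj B (x : Matrix ι ι F) i j ∈ fixField τ) ∧
      ∃ d : Fˣ, ∀ i j, ((d : F) • cj B (x : Matrix ι ι F)) i j ∈ fixField τ := by
  obtain ⟨μ, y, hy⟩ := Descent.exists_coboundary_scalar τ g hnorm
  refine ⟨y⁻¹, fun x hx => ?_⟩
  have hgy : y⁻¹ * g * Descent.gmap τ y = Matrix.GeneralLinearGroup.scalar ι μ := by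
    rw [hy, ← mul_assoc y⁻¹, ← Descent.scalar_comm μ y⁻¹]
    group
  set z : GL ι F := y⁻¹ * x * y with hz
  have hkey : ∀ ν : Fˣ, x = Matrix.GeneralLinearGroup.scalar ι ν * (g * Descent.gmap τ x * g⁻¹) →
      z = Matrix.GeneralLinearGroup.scalar ι ν * Descent.gmap τ z := by
    intro ν hν
    calc z = y⁻¹ * (Matrix.GeneralLinearGroup.scalar ι ν * (g * Descent.gmap τ x * g⁻¹)) * y := by rw [hz, ← hν]
      _ = Matrix.GeneralLinearGroup.scalar ι ν * ((y⁻¹ * g * Descent.gmap τ y) * Descent.gmap τ z *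
          (y⁻¹ * g * Descent.gmap τ y)⁻¹) := by
          rw [← mul_assoc y⁻¹, ← Descent.scalar_comm ν y⁻¹, hz, map_mul, map_mul, map_inv]
          group
      _ = _ := by rw [hgy, Descent.scalar_comm μ, mul_inv_cancel_right]
  have hval : ((z : GL ι F) : Matrix ι ι F) = cj y⁻¹ (x : Matrix ι ι F) := by
    rw [cj_coe, hz, inv_inv]
  refine ⟨fun hx1 i j => ?_, ?_⟩
  · have h1 := hkey 1 (by rw [map_one, one_mul]; exact hx1)
    rw [map_one, one_mul] at h1
    rw [mem_fixField, ← hval]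
    exact (congrFun (congrFun (congrArg (fun u : GL ι F => (u : Matrix ι ι F)) h1) i) j).symm
  · obtain ⟨ν, hν⟩ := h x hx
    have h1 : Descent.gmap τ z = Matrix.GeneralLinearGroup.scalar ι ν⁻¹ * z := by
      conv_rhs => rw [hkey ν hν, ← mul_assoc, ← map_mul, inv_mul_cancel, map_one, one_mul]
    obtain ⟨d, k, hk, hdk⟩ := Descent.exists_fixed_of_map_eq_smul τ z h1
    refine ⟨d⁻¹, fun i j => ?_⟩
    rw [mem_fixField]
    have h2 : ((d⁻¹ : Fˣ) : F) • cj y⁻¹ (x : Matrix ι ι F) = (k : Matrix ι ι F) := by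
      rw [← hval, hdk, Units.val_mul, Matrix.GeneralLinearGroup.coe_scalar, Matrix.scalar_apply,
        ← Matrix.smul_one_eq_diagonal, Matrix.smul_mul, one_mul, smul_smul, Units.inv_mul, one_smul]
    rw [h2]
    exact congrFun (congrFun (congrArg (fun u : GL ι F => (u : Matrix ι ι F)) hk) i) j

/-- Fixed forms for two different automorphisms force realisability over a proper subfield. -/
theorem two_forms [Fintype F] [Nonempty ι] {σ' : F ≃+* F} {G' : Matrix ι ι F}
    (hinv' : ∀ a, σ' (σ' a) = a) (hG : IsUnit G) (hG' : IsUnit G') (hne : σ ≠ σ')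
    {P : Subgroup (GL ι F)} (hP : AI P) (h : Fix σ P G) (h' : Fix σ' P G') :
    ∃ F₀ : Subfield F, F₀ ≠ ⊤ ∧ RealisableOver F₀ (matrixSet P) := by
  obtain ⟨u, rfl⟩ := hG
  obtain ⟨u', rfl⟩ := hG'
  let τ : RingAut F := (σ' : RingAut F) * (σ : RingAut F)
  have hτ : τ ≠ 1 := fun h1 => hne (RingEquiv.ext fun a => by
    have h2 : σ' (σ a) = a := RingEquiv.congr_fun h1 a
    have h3 := congrArg σ' h2
    rwa [hinv'] at h3)
  let g : GL ι F := Descent.gmap (σ' : RingAut F) (u'⁻¹ * u)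
  have hrel : ∀ x ∈ P, x = g * Descent.gmap τ x * g⁻¹ := by
    intro x hx
    have h1 := h x hx
    have h2 := h' x hx
    have hxT : (((x⁻¹ : GL ι F) : Matrix ι ι F))ᵀ * (x : Matrix ι ι F)ᵀ = 1 := by
      rw [← Matrix.transpose_mul, Units.mul_inv, Matrix.transpose_one]
    have e1 : (u : Matrix ι ι F) * (x : Matrix ι ι F).map σ = ((x⁻¹ : GL ι F) : Matrix ι ι F)ᵀ * u := by
      conv_rhs => rw [← h1, ← mul_assoc, hxT, one_mul]
    have e2 : (u' : Matrix ι ι F) * (x : Matrix ι ι F).map σ' = ((x⁻¹ : GL ι F) : Matrix ι ι F)ᵀ * u' := by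
      conv_rhs => rw [← h2, ← mul_assoc, hxT, one_mul]
    have e3 : u'⁻¹ * u * Descent.gmap (σ : RingAut F) x = Descent.gmap (σ' : RingAut F) x * (u'⁻¹ * u) := by
      apply Units.ext
      show ((u'⁻¹ : GL ι F) : Matrix ι ι F) * (u : Matrix ι ι F) * (x : Matrix ι ι F).map σ =
        (x : Matrix ι ι F).map σ' * (((u'⁻¹ : GL ι F) : Matrix ι ι F) * (u : Matrix ι ι F))
      rw [mul_assoc, e1, ← mul_assoc ((x : Matrix ι ι F).map σ'),
        show (x : Matrix ι ι F).map σ' * ((u'⁻¹ : GL ι F) : Matrix ι ι F) =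
          ((u'⁻¹ : GL ι F) : Matrix ι ι F) * ((x⁻¹ : GL ι F) : Matrix ι ι F)ᵀ by
          calc (x : Matrix ι ι F).map σ' * ((u'⁻¹ : GL ι F) : Matrix ι ι F)
              = ((u'⁻¹ : GL ι F) : Matrix ι ι F) * ((u' : Matrix ι ι F) * (x : Matrix ι ι F).map σ') *
                ((u'⁻¹ : GL ι F) : Matrix ι ι F) := by rw [← mul_assoc, Units.inv_mul, one_mul]
            _ = _ := by rw [e2, mul_assoc, mul_assoc, Units.mul_inv, mul_one], mul_assoc]
    have e4 := congrArg (Descent.gmap (σ' : RingAut F)) e3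
    simp only [map_mul, Descent.gmap_gmap, show (σ' : RingAut F) * σ' = 1 from RingEquiv.ext hinv',
      Descent.gmap_one] at e4
    rw [show g * Descent.gmap τ x = x * g by simp only [g, τ, map_mul]; exact e4, mul_inv_cancel_right]
  have hiter : ∀ k, ∀ x ∈ P, x = Descent.twistNorm τ g k * Descent.gmap (τ ^ k : RingAut F) x *
      (Descent.twistNorm τ g k)⁻¹ := by
    intro k
    induction k with
    | zero => intro x _; simp [Descent.twistNorm, Descent.gmap_one]
    | succ k ih =>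
      intro x hx
      conv_lhs => rw [hrel x hx, ih x hx]
      rw [map_mul, map_mul, map_inv, Descent.gmap_gmap, ← pow_succ', Descent.twistNorm]
      group
  obtain ⟨c, hc⟩ := exists_sc (hP.mem_scalars (g := Descent.twistNorm τ g (orderOf τ)) fun x hx => by
    have := hiter (orderOf τ) x hx
    rw [pow_orderOf_eq_one, Descent.gmap_one] at this
    exact (eq_mul_inv_iff_mul_eq.1 this).symm)
  have hsc : Descent.twistNorm τ g (orderOf τ) = Matrix.GeneralLinearGroup.scalar ι c := by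
    rw [hc]; exact Units.ext (by rw [Matrix.GeneralLinearGroup.coe_scalar]; rfl)
  obtain ⟨B, hB⟩ := rational_of_twist τ g hsc P fun x hx => ⟨1, by rw [map_one, one_mul]; exact hrel x hx⟩
  refine ⟨fixField τ, fixField_ne_top hτ, B, ?_⟩
  rintro _ ⟨x, hx, rfl⟩ i j
  exact (hB x hx).1 (hrel x hx) i j

end Cfsg.Agent.Classical.Asch
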