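import Cfsg.Agent.Lib.Classical.AschOrthShape
import Cfsg.Agent.Lib.Classical.OrthOmegaIndex

/-!
Stabilisers of orthogonal decompositions into small spaces with distinguished frames are not maximal.
-/

set_option autoImplicit false
set_option linter.unusedSectionVars false
set_option linter.unusedFintypeInType false
set_option linter.unusedDecidableInType false
set_option quotPrecheck false

namespace Cfsg.Agent.Classical.AschOrthTwo

open Matrix Module Cfsg.Geo OrthAut

variable {F : Type*} [Field F] [Fintype F] {ι : Type} [Fintype ι] [DecidableEq ι] {Q : QuadraticForm F (ι → F)}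

local notation "B" => QuadraticMap.polar ⇑Q
local notation "Mn" => Matrix ι ι F

/-- Orthogonal vectors of non-zero value are independent. -/
theorem frame_li (h2 : (2 : F) ≠ 0) {κ : Type} [Fintype κ] [DecidableEq κ] {w : κ → ι → F}
    (hQw : ∀ p, Q (w p) ≠ 0) (ho : ∀ p p', p ≠ p' → B (w p) (w p') = 0) : LinearIndependent F w := by
  rw [Fintype.linearIndependent_iff]
  intro g hg p
  have h := congrArg (fun x => QuadraticMap.polarBilin Q (w p) x) hg
  simp only [map_sum, map_smul, map_zero, QuadraticMap.polarBilin_apply_apply] at h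
  rw [Finset.sum_eq_single p (fun p' _ hp' => by rw [ho p p' (Ne.symm hp'), smul_zero]) (by simp),
    OrthAut.polar_self2, smul_eq_mul] at h
  exact (mul_eq_zero.1 h).resolve_right (mul_ne_zero h2 (hQw p))

/-- An orthogonal frame spans a space of the same dimension. -/
theorem frame_span (h2 : (2 : F) ≠ 0) {k : ℕ} {W : Submodule F (ι → F)} (hd : finrank F W = k)
    {v : Fin k → ι → F} (hv : ∀ l, v l ∈ W ∧ Q (v l) ≠ 0) (ho : ∀ l l', l ≠ l' → B (v l) (v l') = 0) :
    ∀ x ∈ W, ∃ a : Fin k → F, x = ∑ l, a l • v l := by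
  intro x hx
  have hsp : Submodule.span F (Set.range v) = W := Submodule.eq_of_le_of_finrank_eq
    (Submodule.span_le.2 (by rintro _ ⟨l, rfl⟩; exact (hv l).1))
    (by rw [finrank_span_eq_card (frame_li h2 (fun l => (hv l).2) ho), hd, Fintype.card_fin])
  rw [← hsp, Submodule.mem_span_range_iff_exists_fun] at hx
  obtain ⟨a, ha⟩ := hx
  exact ⟨a, ha.symm⟩

/-- A distinguished frame in one member makes the stabiliser a proper subgroup of a frame stabiliser. -/
theorem frame_not_maximal (hQ : (QuadraticMap.polarBilin Q).Nondegenerate) (h7 : 7 ≤ Fintype.card ι)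
    (h2 : (2 : F) ≠ 0) {t k : ℕ} [NeZero t] {D : Fin t → Submodule F (ι → F)}
    (hD : IsOrthogonalMDecomposition ⇑Q k D) (hk : 2 ≤ k) (ht : 3 ≤ t) (v₀ : Fin k → ι → F)
    (hv₀ : ∀ l, v₀ l ∈ D 0 ∧ Q (v₀ l) ≠ 0) (hv₀o : ∀ l l', l ≠ l' → B (v₀ l) (v₀ l') = 0)
    (hcls : ∀ (a : Fin k → F) (l : Fin k), ∑ i, a i * a i * Q (v₀ i) = Q (v₀ l) →
      ∃ l', ∀ i, i ≠ l' → a i = 0) :
    ∃ K : Subgroup (GL ι F), decompositionStabilizer D ⊓ Geo.omegaGL ⇑Q < K ∧ K < Geo.omegaGL ⇑Q := by
  classical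
  choose iso hiso using fun i => hD.isometric 0 i
  let v : Fin t → Fin k → ι → F := fun i l => (iso i ⟨v₀ l, (hv₀ l).1⟩ : ι → F)
  have hvm : ∀ i l, v i l ∈ D i := fun i l => (iso i ⟨v₀ l, (hv₀ l).1⟩).2
  have hvQ : ∀ i l, Q (v i l) = Q (v₀ l) := fun i l => hiso i _
  have hvQ0 : ∀ i l, Q (v i l) ≠ 0 := fun i l => by rw [hvQ]; exact (hv₀ l).2
  have hvo : ∀ i l l', l ≠ l' → B (v i l) (v i l') = 0 := by
    intro i l l' hll
    have h := hiso i (⟨v₀ l, (hv₀ l).1⟩ + ⟨v₀ l', (hv₀ l').1⟩)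
    rw [map_add, Submodule.coe_add, Submodule.coe_add, OrthAut.quad_add, OrthAut.quad_add, hv₀o l l' hll] at h
    change Q (v i l) + Q (v i l') + B (v i l) (v i l') = _ at h
    rw [hvQ, hvQ] at h
    linear_combination h
  have hvx : ∀ i, ∀ x ∈ D i, ∃ a : Fin k → F, x = ∑ l, a l • v i l := fun i =>
    frame_span h2 (hD.decomp.decomp.finrank_eq i) (fun l => ⟨hvm i l, hvQ0 i l⟩) (hvo i)
  let eN : Fin t × Fin k ≃ Fin (t * k) := finProdFinEquiv
  let w : Fin (t * k) → ι → F := fun p => v (eN.symm p).1 (eN.symm p).2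
  let D' : Fin (t * k) → Submodule F (ι → F) := fun p => Submodule.span F {w p}
  have hw : ∀ i l, w (eN (i, l)) = v i l := fun i l => by simp [w]
  have hwQ : ∀ p, Q (w p) ≠ 0 := fun p => hvQ0 _ _
  have hw0 : ∀ p, w p ≠ 0 := fun p h => hwQ p (by rw [h, QuadraticMap.map_zero])
  have hwB : ∀ p, B (w p) (w p) ≠ 0 := fun p => by
    rw [OrthAut.polar_self2]; exact mul_ne_zero h2 (hwQ p)
  have hdo : ∀ i j, i ≠ j → ∀ x ∈ D i, ∀ y ∈ D j, B x y = 0 := fun i j hij x hx y hy =>
    hD.decomp.orthogonal i j hij x hx y hy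
  have hwo : ∀ p p', p ≠ p' → B (w p) (w p') = 0 := by
    intro p p' hpp
    by_cases hi : (eN.symm p).1 = (eN.symm p').1
    · show B (v _ _) (v _ _) = 0
      rw [hi]
      exact hvo _ _ _ fun hl => hpp (eN.symm.injective (Prod.ext hi hl))
    · exact hdo _ _ hi _ (hvm _ _) _ (hvm _ _)
  have hspan : iSup D' = ⊤ := by
    refine eq_top_iff.2 ?_
    rw [← hD.decomp.decomp.iSup_eq_top]
    refine iSup_le fun i x hx => ?_
    obtain ⟨a, rfl⟩ := hvx i x hx
    refine Submodule.sum_mem _ fun l _ => Submodule.smul_mem _ _ (Submodule.mem_iSup_of_mem (eN (i, l)) ?_)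
    simp [D', w, Submodule.mem_span_singleton_self]
  have hDnd : IsNondegenerateMDecomposition B 1 D' := by
    refine ⟨⟨by nlinarith, one_pos, fun p => finrank_span_singleton (hw0 p),
      (frame_li h2 hwQ hwo).iSupIndep_span_singleton, hspan⟩, fun p x hx hx0 => ?_, fun p p' hpp x hx y hy => ?_⟩
    · obtain ⟨c, rfl⟩ := Submodule.mem_span_singleton.1 hx
      have hc0 : c ≠ 0 := fun h => hx0 (by rw [h, zero_smul])
      refine ⟨⟨w p, Submodule.mem_span_singleton_self _, ?_⟩, w p, Submodule.mem_span_singleton_self _, ?_⟩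
      · rw [QuadraticMap.polar_smul_right, smul_eq_mul]; exact mul_ne_zero hc0 (hwB p)
      · rw [QuadraticMap.polar_smul_left, smul_eq_mul]; exact mul_ne_zero hc0 (hwB p)
    · obtain ⟨c, rfl⟩ := Submodule.mem_span_singleton.1 hx
      obtain ⟨c', rfl⟩ := Submodule.mem_span_singleton.1 hy
      simp [QuadraticMap.polar_smul_left, QuadraticMap.polar_smul_right, hwo p p' hpp]
  -- a permutation of the vectors of the frame gives one of the lines
  have hperm : ∀ g : GL ι F, (∀ x, Q ((g : Mn) *ᵥ x) = Q x) → (∀ p, ∃ p', (g : Mn) *ᵥ w p ∈ D' p') →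
      g ∈ decompositionStabilizer D' := by
    intro g hgQ key
    choose τ hτ using key
    have hmap : ∀ p, (D' p).map (Matrix.toLin' (g : Mn)) = D' (τ p) := by
      intro p
      show (Submodule.span F {w p}).map _ = _
      rw [Submodule.map_span, Set.image_singleton, Matrix.toLin'_apply]
      refine Submodule.eq_of_le_of_finrank_eq (Submodule.span_le.2 (by simpa using hτ p)) ?_
      rw [finrank_span_singleton (hw0 (τ p)), finrank_span_singleton]
      intro h0
      exact hw0 p (MaxTv.gl_mulVec_injective g (h0.trans (Matrix.mulVec_zero _).symm))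
    have hτinj : Function.Injective τ := by
      intro p p' hpp
      by_contra hne
      obtain ⟨c, hc⟩ := Submodule.mem_span_singleton.1 (hτ p)
      obtain ⟨c', hc'⟩ := Submodule.mem_span_singleton.1 (hτ p')
      have h := OrthAut.isometry_polar hgQ (w p) (w p')
      rw [← hc, ← hc', hwo p p' hne, hpp, QuadraticMap.polar_smul_left, QuadraticMap.polar_smul_right, smul_eq_mul,
        smul_eq_mul, mul_eq_zero, mul_eq_zero] at h
      rcases h with h | h | h
      · exact hw0 p (MaxTv.gl_mulVec_injective g (show _ *ᵥ w p = _ *ᵥ 0 by rw [← hc, h, zero_smul, Matrix.mulVec_zero]))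
      · exact hw0 p' (MaxTv.gl_mulVec_injective g (show _ *ᵥ w p' = _ *ᵥ 0 by rw [← hc', h, zero_smul, Matrix.mulVec_zero]))
      · exact hwB _ h
    exact ⟨Equiv.ofBijective τ (Finite.injective_iff_bijective.1 hτinj), hmap⟩
  refine Asch.exists_between (M := decompositionStabilizer D') (fun g hg => ?_) ?_
    (not_omega_le_decomp hQ h7 h2 hDnd)
  · obtain ⟨σ, hσ⟩ := hg.1
    have hgQ := MaxTv.isometry_of_mem_omegaGL hg.2
    refine hperm g hgQ fun p => ?_
    set i := (eN.symm p).1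
    have hx : (g : Mn) *ᵥ w p ∈ D (σ i) := by
      rw [← hσ i]; exact ⟨w p, hvm _ _, rfl⟩
    obtain ⟨a, ha⟩ := hvx _ _ hx
    have hQa : ∑ j, a j * a j * Q (v₀ j) = Q (v₀ (eN.symm p).2) := by
      have h1 := OrthAut.isometry_polar hgQ (w p) (w p)
      rw [ha, ← QuadraticMap.polarBilin_apply_apply, map_sum] at h1
      simp only [map_smul, LinearMap.sum_apply, LinearMap.smul_apply, map_sum, QuadraticMap.polarBilin_apply_apply,
        smul_eq_mul] at h1
      rw [Finset.sum_congr rfl fun l _ => congrArg (a l * ·) (Finset.sum_eq_single l (fun l' _ hl' => by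
        rw [hvo _ _ _ hl', mul_zero]) (by simp))] at h1
      simp only [OrthAut.polar_self2, hvQ] at h1
      change _ = 2 * Q (v _ _) at h1
      rw [hvQ] at h1
      refine mul_left_cancel₀ h2 (Eq.trans ?_ h1)
      rw [Finset.mul_sum]
      exact Finset.sum_congr rfl fun j _ => by ring
    obtain ⟨l', hl'⟩ := hcls a _ hQa
    refine ⟨eN (σ i, l'), ?_⟩
    rw [ha, Finset.sum_eq_single l' (fun j _ hj => by rw [hl' j hj, zero_smul]) (by simp)]
    exact Submodule.smul_mem _ _ (by simp [D', w, Submodule.mem_span_singleton_self])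
  -- a three cycle of equal vectors in three members
  let l₀ : Fin k := ⟨0, by omega⟩
  let l₁ : Fin k := ⟨1, by omega⟩
  have hl : l₁ ≠ l₀ := by simp [l₀, l₁, Fin.ext_iff]
  let i₁ : Fin t := ⟨1, by omega⟩
  let i₂ : Fin t := ⟨2, by omega⟩
  have h01 : (0 : Fin t) ≠ i₁ := by simp [i₁, Fin.ext_iff]
  have h02 : (0 : Fin t) ≠ i₂ := by simp [i₂, Fin.ext_iff]
  have h12 : i₁ ≠ i₂ := by simp [i₁, i₂, Fin.ext_iff]
  have hsub : ∀ i j, i ≠ j → Q (v i l₀ - v j l₀) = 2 * Q (v₀ l₀) := fun i j hij => by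
    rw [sub_eq_add_neg, OrthAut.quad_add, QuadraticMap.map_neg, QuadraticMap.polar_neg_right, hvQ, hvQ,
      hdo i j hij _ (hvm _ _) _ (hvm _ _)]
    ring
  have hne2 : (2 : F) * Q (v₀ l₀) ≠ 0 := mul_ne_zero h2 (hv₀ l₀).2
  have ha : Q (v 0 l₀ - v i₁ l₀) ≠ 0 := by rw [hsub _ _ h01]; exact hne2
  have hb : Q (v i₁ l₀ - v i₂ l₀) ≠ 0 := by rw [hsub _ _ h12]; exact hne2
  set g : isometryGroup F ⇑Q := OrthAut.refl ha * OrthAut.refl hb with hg
  have hgΩ : (g : GL ι F) ∈ Geo.omegaGL ⇑Q := by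
    refine Subgroup.mem_map_of_mem _ (refl_mod h2 hQ ha hb ?_)
    rw [hsub _ _ h01, hsub _ _ h12, div_self hne2]
    exact IsSquare.one
  have hgx : ∀ x, ((g : GL ι F) : Mn) *ᵥ x = ogVal (OrthAut.refl ha) *ᵥ (ogVal (OrthAut.refl hb) *ᵥ x) := fun x => by
    show ogVal g *ᵥ x = _
    rw [hg, ogVal_mul, ← Matrix.mulVec_mulVec]
  -- reflection in a difference of two frame vectors
  have hr : ∀ i j (hij : i ≠ j) (h : Q (v i l₀ - v j l₀) ≠ 0), ogVal (OrthAut.refl h) *ᵥ v i l₀ = v j l₀ ∧
      ogVal (OrthAut.refl h) *ᵥ v j l₀ = v i l₀ ∧ ∀ p, w p ≠ v i l₀ → w p ≠ v j l₀ → ogVal (OrthAut.refl h) *ᵥ w p = w p := by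
    intro i j hij h
    have hvv : ∀ i, B (v i l₀) (v i l₀) = 2 * Q (v₀ l₀) := fun i => by rw [OrthAut.polar_self2, hvQ]
    refine ⟨?_, ?_, fun p hpi hpj => ?_⟩
    · rw [refl_apply, hsub _ _ hij, QuadraticMap.polar_sub_left, hvv, QuadraticMap.polar_comm _ (v j l₀),
        hdo i j hij _ (hvm _ _) _ (hvm _ _), sub_zero, inv_mul_cancel₀ hne2, one_smul, sub_sub_cancel]
    · rw [refl_apply, hsub _ _ hij, QuadraticMap.polar_sub_left, hvv,
        hdo i j hij _ (hvm _ _) _ (hvm _ _), zero_sub, mul_neg, inv_mul_cancel₀ hne2, neg_one_smul]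
      abel
    · rw [← hw i l₀] at hpi
      rw [← hw j l₀] at hpj
      rw [refl_apply, QuadraticMap.polar_sub_left, ← hw i l₀, ← hw j l₀, hwo _ _ (fun e => hpi (by rw [e])),
        hwo _ _ (fun e => hpj (by rw [e])), sub_zero, mul_zero, zero_smul, sub_zero]
  obtain ⟨ha0, ha1, hafix⟩ := hr 0 i₁ h01 ha
  obtain ⟨hb1, hb2, hbfix⟩ := hr i₁ i₂ h12 hb
  have hinj : ∀ i l j l', v i l = v j l' → i = j ∧ l = l' := fun i l j l' h => by
    by_contra hne
    have hp : eN (i, l) ≠ eN (j, l') := fun e => hne (by simpa [eN.injective.eq_iff] using e)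
    have := hwo _ _ hp
    rw [hw, hw, h] at this
    exact (mul_ne_zero h2 (hvQ0 j l')) (by rwa [OrthAut.polar_self2] at this)
  refine ⟨g, ⟨hperm g (MaxTv.isometry_of_mem_omegaGL hgΩ) fun p => ?_, hgΩ⟩, fun h => ?_⟩
  · -- images of frame vectors
    have hb' : ∃ q, ogVal (OrthAut.refl hb) *ᵥ w p = w q := by
      by_cases h1 : w p = v i₁ l₀
      · exact ⟨eN (i₂, l₀), by rw [h1, hb1, hw]⟩
      by_cases h2' : w p = v i₂ l₀
      · exact ⟨eN (i₁, l₀), by rw [h2', hb2, hw]⟩
      exact ⟨p, hbfix p h1 h2'⟩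
    obtain ⟨q, hq⟩ := hb'
    have ha' : ∃ r, ogVal (OrthAut.refl ha) *ᵥ w q = w r := by
      by_cases h1 : w q = v 0 l₀
      · exact ⟨eN (i₁, l₀), by rw [h1, ha0, hw]⟩
      by_cases h2' : w q = v i₁ l₀
      · exact ⟨eN (0, l₀), by rw [h2', ha1, hw]⟩
      exact ⟨q, hafix q h1 h2'⟩
    obtain ⟨r, hr'⟩ := ha'
    exact ⟨r, by rw [hgx, hq, hr']; exact Submodule.mem_span_singleton_self _⟩
  · obtain ⟨σ, hσ⟩ := h
    have e0 : ((g : GL ι F) : Mn) *ᵥ v 0 l₀ = v i₁ l₀ := by
      have := hbfix (eN (0, l₀)) (by rw [hw]; exact fun e => h01 (hinj _ _ _ _ e).1)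
        (by rw [hw]; exact fun e => h02 (hinj _ _ _ _ e).1)
      rw [hw] at this
      rw [hgx, this, ha0]
    have e1 : ((g : GL ι F) : Mn) *ᵥ v 0 l₁ = v 0 l₁ := by
      have hb' := hbfix (eN (0, l₁)) (by rw [hw]; exact fun e => h01 (hinj _ _ _ _ e).1)
        (by rw [hw]; exact fun e => h02 (hinj _ _ _ _ e).1)
      have ha' := hafix (eN (0, l₁)) (by rw [hw]; exact fun e => hl (hinj _ _ _ _ e).2)
        (by rw [hw]; exact fun e => h01 (hinj _ _ _ _ e).1)
      rw [hw] at hb' ha'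
      rw [hgx, hb', ha']
    have m0 : v i₁ l₀ ∈ D (σ 0) := by
      rw [← hσ 0, ← e0]; exact ⟨_, hvm _ _, rfl⟩
    have m1 : v 0 l₁ ∈ D (σ 0) := by
      rw [← hσ 0, ← e1]; exact ⟨_, hvm _ _, rfl⟩
    by_cases hs : σ 0 = 0
    · rw [hs] at m0
      have := hdo 0 i₁ h01 _ m0 _ (hvm i₁ l₀)
      exact (mul_ne_zero h2 (hvQ0 i₁ l₀)) (by rwa [OrthAut.polar_self2] at this)
    · have := hdo _ _ hs _ m1 _ (hvm 0 l₁)
      exact (mul_ne_zero h2 (hvQ0 0 l₁)) (by rwa [OrthAut.polar_self2] at this)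

/-- Over three elements the members of dimension two or three have distinguished frames. -/
theorem small_decomp_not_maximal (hQ : (QuadraticMap.polarBilin Q).Nondegenerate) (h7 : 7 ≤ Fintype.card ι)
    (h3 : Fintype.card F = 3) {t k : ℕ} {D : Fin t → Submodule F (ι → F)}
    (hD : IsOrthogonalMDecomposition ⇑Q k D) (hk : k = 2 ∨ k = 3) (ht : 3 ≤ t) :
    ∃ K : Subgroup (GL ι F), decompositionStabilizer D ⊓ Geo.omegaGL ⇑Q < K ∧ K < Geo.omegaGL ⇑Q := by
  classical
  haveI : NeZero t := ⟨by omega⟩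
  have hcast : ((3 : ℕ) : F) = 0 := h3 ▸ FiniteField.cast_card_eq_zero F
  have h30 : (3 : F) = 0 := by exact_mod_cast hcast
  have h2 : (2 : F) ≠ 0 := fun h => one_ne_zero (α := F) (by linear_combination h30 - h)
  have hsq : ∀ x : F, x = 0 ∨ x * x = 1 := fun x => by
    rcases eq_or_ne x 0 with h | h
    · exact Or.inl h
    · have h1 := FiniteField.pow_card_sub_one_eq_one x h
      rw [h3] at h1
      exact Or.inr (by linear_combination h1)
  rcases hk with rfl | rfl
  · -- planes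
    have hnd := hD.decomp.nondegenerate 0
    obtain ⟨u, hu, hQu⟩ : ∃ u ∈ D 0, Q u ≠ 0 := by
      by_contra hno
      push Not at hno
      obtain ⟨x, hx, hx0⟩ := Submodule.exists_mem_ne_zero_of_ne_bot (p := D 0) fun h => by
        have := hD.decomp.decomp.finrank_eq 0
        rw [h, finrank_bot] at this; omega
      obtain ⟨⟨y, hy, hxy⟩, -⟩ := hnd x hx hx0
      exact hxy (MaxTv.polar_zero_of_sing hno hy hx)
    have huu : B u u ≠ 0 := by rw [OrthAut.polar_self2]; exact mul_ne_zero h2 hQu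
    obtain ⟨y, hy, hyu⟩ : ∃ y ∈ D 0, y ∉ F ∙ u := by
      by_contra hno
      push Not at hno
      have h1 := Submodule.finrank_mono (show D 0 ≤ F ∙ u from hno)
      rw [hD.decomp.decomp.finrank_eq, finrank_span_singleton (fun h => hQu (by rw [h, QuadraticMap.map_zero]))] at h1
      omega
    set z := y - (B u y / B u u) • u with hz
    have hzD : z ∈ D 0 := (D 0).sub_mem hy ((D 0).smul_mem _ hu)
    have huz : B u z = 0 := by
      rw [hz, QuadraticMap.polar_sub_right, QuadraticMap.polar_smul_right, smul_eq_mul, div_mul_cancel₀ _ huu, sub_self]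
    have hz0 : z ≠ 0 := fun h => hyu (Submodule.mem_span_singleton.2 ⟨_, (sub_eq_zero.1 h).symm⟩)
    have hQz : Q z ≠ 0 := by
      intro hQz
      obtain ⟨⟨x, hx, hxz⟩, -⟩ := hnd z hzD hz0
      have hli : LinearIndependent F ![u, z] := by
        rw [LinearIndependent.pair_iff]
        intro a b hab
        have h1 := congrArg (fun x => B u x) hab
        simp only [QuadraticMap.polar_add_right, QuadraticMap.polar_smul_right, huz, smul_eq_mul, mul_zero, add_zero,
          QuadraticMap.polar_zero_right, mul_eq_zero, huu, or_false] at h1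
        rw [h1, zero_smul, zero_add, smul_eq_zero] at hab
        exact ⟨h1, hab.resolve_right hz0⟩
      have hsp : Submodule.span F {u, z} = D 0 := by
        refine Submodule.eq_of_le_of_finrank_eq (Submodule.span_le.2 fun p hp => ?_) ?_
        · rcases hp with rfl | rfl
          · exact hu
          · exact hzD
        · have := finrank_span_eq_card hli
          rw [Matrix.range_cons, Matrix.range_cons, Matrix.range_empty, Set.union_empty, Set.singleton_union] at this
          rw [this, hD.decomp.decomp.finrank_eq]; rfl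
      rw [← hsp, Submodule.mem_span_pair] at hx
      obtain ⟨a, b, rfl⟩ := hx
      simp [QuadraticMap.polar_add_left, QuadraticMap.polar_smul_left, huz, OrthAut.polar_self' hQz] at hxz
    refine frame_not_maximal hQ h7 h2 hD le_rfl ht ![u, z] (fun l => by fin_cases l <;> simp [hu, hzD, hQu, hQz])
      (fun l l' hll => by
        fin_cases l <;> fin_cases l' <;> simp [huz, QuadraticMap.polar_comm _ z u] at hll ⊢) fun a l h => ?_
    rw [Fin.sum_univ_two] at h
    simp only [Matrix.cons_val_zero, Matrix.cons_val_one] at h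
    rcases hsq (a 0) with e | e
    · exact ⟨1, fun i hi => by fin_cases i <;> simp_all⟩
    rcases hsq (a 1) with e' | e'
    · exact ⟨0, fun i hi => by fin_cases i <;> simp_all⟩
    exfalso
    fin_cases l <;> simp [e, e'] at h
    · exact hQz h
    · exact hQu h
  · obtain ⟨v, s, hs, hv, hvo, -⟩ := exists_equal_norm_basis h3 (hD.decomp.nondegenerate 0)
      (hD.decomp.decomp.finrank_eq 0)
    refine frame_not_maximal hQ h7 h2 hD (by omega) ht v (fun l => ⟨(hv l).1, by rw [(hv l).2]; exact hs⟩) hvo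
      fun a l h => ?_
    simp only [fun i => (hv i).2, ← Finset.sum_mul] at h
    rw [Fin.sum_univ_three] at h
    have hQa : a 0 * a 0 + a 1 * a 1 + a 2 * a 2 = 1 := mul_right_cancel₀ hs (h.trans (one_mul s).symm)
    rcases hsq (a 0) with e0 | e0 <;> rcases hsq (a 1) with e1 | e1 <;> rcases hsq (a 2) with e2 | e2
    case inr.inr.inr => exact absurd hQa (by rw [e0, e1, e2]; exact fun h => h2 (by linear_combination h))
    case inl.inl.inl => simp [e0, e1, e2] at hQa
    case inl.inr.inr => exact absurd hQa (by rw [e0, e1, e2]; simp)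
    case inr.inl.inr => exact absurd hQa (by rw [e0, e1, e2]; simp)
    case inr.inr.inl => exact absurd hQa (by rw [e0, e1, e2]; simp)
    case inl.inl.inr => exact ⟨2, fun i hi => by fin_cases i <;> simp_all⟩
    case inl.inr.inl => exact ⟨1, fun i hi => by fin_cases i <;> simp_all⟩
    case inr.inl.inl => exact ⟨0, fun i hi => by fin_cases i <;> simp_all⟩

end Cfsg.Agent.Classical.AschOrthTwo
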