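import Cfsg.Agent.Lib.Classical.MaxMonomialGL
import Mathlib.RingTheory.IntegralDomain

/-!
The monomial subgroup of `SL` is maximal over fields of at least five elements, in dimension at least thirteen.
-/

set_option autoImplicit false
set_option linter.unusedSectionVars false

namespace Cfsg.Agent.Classical.MaxMon

open Matrix Module MaxTv

variable {F : Type*} [Field F] {ι : Type} [Fintype ι] [DecidableEq ι]

local notation "V" => (ι → F)
local notation "Mn" => Matrix ι ι F

theorem col_apply (g : Matrix ι ι F) (i j : ι) : (g *ᵥ Pi.single j 1) i = g i j := by simp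

theorem isMon_of_cols {g : Matrix ι ι F} (h : ∀ j, ∃ i a, g *ᵥ Pi.single j 1 = Pi.single i a) : IsMon g :=
  fun j => by
    obtain ⟨i, a, hi⟩ := h j
    exact ⟨i, fun i' hi' => by rw [← col_apply g i' j, hi, Pi.single_eq_of_ne hi']⟩

theorem IsMon.exists_perm {g : GL ι F} (h : IsMon (g : Mn)) : ∃ π : Equiv.Perm ι, ∃ x : ι → F,
    (∀ j, x j ≠ 0) ∧ ∀ j, (g : Mn) *ᵥ Pi.single j 1 = Pi.single (π j) (x j) := by
  choose p hp using h
  have hcol : ∀ j, (g : Mn) *ᵥ Pi.single j 1 = Pi.single (p j) ((g : Mn) (p j) j) := fun j => by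
    funext i
    rw [col_apply]
    by_cases hi : i = p j
    · subst hi; rw [Pi.single_eq_same]
    · rw [Pi.single_eq_of_ne hi, hp j i hi]
  have hx : ∀ j, (g : Mn) (p j) j ≠ 0 := fun j e => by
    have h1 := hcol j
    rw [e, Pi.single_zero] at h1
    have := congrFun (gl_mulVec_injective g (h1.trans (Matrix.mulVec_zero _).symm)) j
    simp at this
  have hinj : Function.Injective p := fun a b hab => by
    by_contra hne
    set s := (g : Mn) (p a) a
    set t := (g : Mn) (p b) b
    have hv : (g : Mn) *ᵥ (t • Pi.single a 1 - s • Pi.single b 1) = 0 := by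
      rw [Matrix.mulVec_sub, Matrix.mulVec_smul, Matrix.mulVec_smul, hcol a, hcol b, hab]
      rw [← Pi.single_smul, ← Pi.single_smul, smul_eq_mul, smul_eq_mul, mul_comm, sub_eq_zero]
      congr 2
      show (g : Mn) (p b) a = (g : Mn) (p a) a
      rw [hab]
    have := congrFun (gl_mulVec_injective g (hv.trans (Matrix.mulVec_zero _).symm)) a
    simp [Pi.single_eq_of_ne hne] at this
    exact hx b this
  exact ⟨Equiv.ofBijective p (Finite.injective_iff_bijective.1 hinj), _, hx, hcol⟩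

theorem mon_apply {g : Mn} {π : Equiv.Perm ι} {x : ι → F}
    (h : ∀ j, g *ᵥ Pi.single j 1 = Pi.single (π j) (x j)) (z : V) (j : ι) :
    (g *ᵥ z) (π j) = x j * z j := by
  rw [Matrix.mulVec, dotProduct, Finset.sum_eq_single j]
  · rw [← col_apply g (π j) j, h, Pi.single_eq_same]
  · intro i _ hi
    rw [← col_apply g (π j) i, h, Pi.single_eq_of_ne (fun e => hi (π.injective e).symm), zero_mul]
  · simp

theorem IsMon.inv {g : GL ι F} (h : IsMon (g : Mn)) : IsMon ((g⁻¹ : GL ι F) : Mn) := by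
  obtain ⟨π, x, hx, hπ⟩ := h.exists_perm
  refine isMon_of_cols fun j => ⟨π.symm j, (x (π.symm j))⁻¹, gl_mulVec_injective g ?_⟩
  show (g : Mn) *ᵥ _ = (g : Mn) *ᵥ _
  rw [mulVec_inv_cancel, show (Pi.single (π.symm j) (x (π.symm j))⁻¹ : V) =
    (x (π.symm j))⁻¹ • Pi.single (π.symm j) 1 by rw [← Pi.single_smul, smul_eq_mul, mul_one],
    Matrix.mulVec_smul, hπ, ← Pi.single_smul, smul_eq_mul, inv_mul_cancel₀ (hx _), Equiv.apply_symm_apply]

theorem IsMon.mul {a b : Mn} (ha : IsMon a) (hb : IsMon b) : IsMon (a * b) := fun j => by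
  obtain ⟨i, hi⟩ := hb j
  obtain ⟨l, hl⟩ := ha i
  refine ⟨l, fun l' hl' => ?_⟩
  rw [Matrix.mul_apply]
  refine Finset.sum_eq_zero fun t _ => ?_
  by_cases ht : t = i
  · rw [ht, hl l' hl', zero_mul]
  · rw [hi t ht, mul_zero]

/-- A monomial matrix with given permutation and coefficients. -/
theorem exists_mon (σ : Equiv.Perm ι) (f : ι → F) (hf : ∀ j, f j ≠ 0) : ∃ g : GL ι F,
    (∀ j, (g : Mn) *ᵥ Pi.single j 1 = Pi.single (σ j) (f j)) ∧ IsMon (g : Mn) ∧
    (g : Mn).det = (Equiv.Perm.sign σ : ℤ) * ∏ j, f j := by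
  have hd : ((Equiv.Perm.permMatrix F σ.symm) * Matrix.diagonal f : Mn).det = (Equiv.Perm.sign σ : ℤ) * ∏ j, f j := by
    rw [Matrix.det_mul, Matrix.det_permutation, Matrix.det_diagonal, Equiv.Perm.sign_symm]
  have hne : ((Equiv.Perm.permMatrix F σ.symm) * Matrix.diagonal f : Mn).det ≠ 0 := by
    rw [hd]
    refine mul_ne_zero ?_ (Finset.prod_ne_zero_iff.2 fun j _ => hf j)
    rcases Int.units_eq_one_or (Equiv.Perm.sign σ) with h | h <;> simp [h]
  have hcol : ∀ j, ((Equiv.Perm.permMatrix F σ.symm) * Matrix.diagonal f : Mn) *ᵥ Pi.single j 1 =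
      Pi.single (σ j) (f j) := fun j => by
    rw [← Matrix.mulVec_mulVec, Matrix.diagonal_mulVec_single, mul_one, Matrix.permMatrix_mulVec]
    funext i
    by_cases hi : i = σ j
    · subst hi; simp
    · rw [Function.comp_apply, Pi.single_eq_of_ne hi, Pi.single_eq_of_ne]
      exact fun e => hi (by rw [← e, Equiv.apply_symm_apply])
  exact ⟨Matrix.GeneralLinearGroup.mkOfDetNeZero _ hne, hcol, isMon_of_cols fun j => ⟨_, _, hcol j⟩, hd⟩

theorem exists_diag (f : ι → F) (hf : ∀ i, f i ≠ 0) : ∃ d : GL ι F, (d : Mn) = Matrix.diagonal f :=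
  ⟨Matrix.GeneralLinearGroup.mkOfDetNeZero (Matrix.diagonal f) (by
    rw [Matrix.det_diagonal]; exact Finset.prod_ne_zero_iff.2 fun j _ => hf j), rfl⟩

theorem isMon_diagonal (f : ι → F) : IsMon (Matrix.diagonal f) :=
  fun j => ⟨j, fun i hi => Matrix.diagonal_apply_ne _ hi⟩

/-- Diagonal entries `l, l⁻¹` at two places. -/
def pairFun (a b : ι) (l : F) (i : ι) : F := if i = a then l else if i = b then l⁻¹ else 1

theorem pairFun_left {a b : ι} {l : F} : pairFun a b l a = l := by simp [pairFun]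

theorem pairFun_right {a b : ι} {l : F} (hab : a ≠ b) : pairFun a b l b = l⁻¹ := by simp [pairFun, hab.symm]

theorem pairFun_other {a b : ι} {l : F} {i : ι} (ha : i ≠ a) (hb : i ≠ b) : pairFun a b l i = 1 := by
  simp [pairFun, ha, hb]

theorem pairFun_ne {a b : ι} {l : F} (hl : l ≠ 0) (i : ι) : pairFun a b l i ≠ 0 := by
  unfold pairFun
  split_ifs
  exacts [hl, inv_ne_zero hl, one_ne_zero]

theorem pairFun_prod {a b : ι} {l : F} (hab : a ≠ b) (hl : l ≠ 0) : ∏ i, pairFun a b l i = 1 := by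
  rw [Fintype.prod_eq_mul a b hab (fun i hi => pairFun_other hi.1 hi.2), pairFun_left, pairFun_right hab,
    mul_inv_cancel₀ hl]

/-- A scalar whose square and cube are not one. -/
theorem exists_generic [Fintype F] (hq : 5 ≤ Fintype.card F) : ∃ l : F, l ≠ 0 ∧ l ^ 2 ≠ 1 ∧ l ^ 3 ≠ 1 := by
  obtain ⟨g, hg⟩ := IsCyclic.exists_ofOrder_eq_natCard (α := Fˣ)
  have hc : 4 ≤ orderOf g := by
    rw [hg, Nat.card_units, Nat.card_eq_fintype_card]; omega
  refine ⟨g, g.ne_zero, ?_, ?_⟩ <;> intro e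
  · have : orderOf g ∣ 2 := orderOf_dvd_of_pow_eq_one (Units.ext (by simpa using e))
    exact absurd (Nat.le_of_dvd (by norm_num) this) (by omega)
  · have : orderOf g ∣ 3 := orderOf_dvd_of_pow_eq_one (Units.ext (by simpa using e))
    exact absurd (Nat.le_of_dvd (by norm_num) this) (by omega)

/-- Two linear conditions on three coordinates. -/
theorem exists_ker (α β : ι → F) (j : Fin 3 → ι) (hj : Function.Injective j) :
    ∃ z : ι → F, z ≠ 0 ∧ α ⬝ᵥ z = 0 ∧ β ⬝ᵥ z = 0 ∧ ∀ i, (∀ k, i ≠ j k) → z i = 0 := by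
  let Z : (Fin 3 → F) →ₗ[F] V := Fintype.linearCombination F fun k => Pi.single (j k) (1 : F)
  let L : (Fin 3 → F) →ₗ[F] (Fin 2 → F) :=
    (Matrix.of ![α, β]).mulVecLin.comp Z
  have hlt : finrank F (Fin 2 → F) < finrank F (Fin 3 → F) := by simp
  obtain ⟨γ, hγ, hγ0⟩ :=
    Submodule.exists_mem_ne_zero_of_ne_bot (LinearMap.ker_ne_bot_of_finrank_lt (f := L) hlt)
  have hZ : ∀ i, Z γ i = ∑ k, if i = j k then γ k else 0 := fun i => by
    simp only [Z, Fintype.linearCombination_apply, Finset.sum_apply, Pi.smul_apply, smul_eq_mul,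
      Pi.single_apply, mul_ite, mul_one, mul_zero]
  refine ⟨Z γ, fun e => hγ0 (funext fun k => ?_), ?_, ?_, fun i hi => ?_⟩
  · have := congrFun e (j k)
    rw [hZ, Finset.sum_eq_single k (fun k' _ hk' => if_neg fun e => hk' (hj e).symm) (by simp)] at this
    simpa using this
  · simpa [L, Matrix.mulVec] using congrFun (LinearMap.mem_ker.1 hγ) 0
  · simpa [L, Matrix.mulVec] using congrFun (LinearMap.mem_ker.1 hγ) 1
  · rw [hZ]; exact Finset.sum_eq_zero fun k _ => if_neg (hi k)

/-- A monomial matrix which is a generic rank two change of the identity moves only two coordinates. -/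
theorem mon_rankTwo {k : GL ι F} (hk : IsMon (k : Mn)) {u w α β : V} {l : F} (hl0 : l ≠ 0)
    (hl2 : l ^ 2 ≠ 1) (hl3 : l ^ 3 ≠ 1)
    (hkx : ∀ z : V, (k : Mn) *ᵥ z = z + ((l - 1) * (α ⬝ᵥ z)) • u + ((l⁻¹ - 1) * (β ⬝ᵥ z)) • w)
    (hαu : α ⬝ᵥ u = 1) (hαw : α ⬝ᵥ w = 0) (hβu : β ⬝ᵥ u = 0) (hβw : β ⬝ᵥ w = 1) :
    ∃ S : Finset ι, S.card ≤ 2 ∧ ∀ i ∉ S, u i = 0 ∧ w i = 0 := by
  classical
  obtain ⟨π, x, hx, hπ⟩ := hk.exists_perm
  set S := Finset.univ.filter fun j => ¬ (π j = j ∧ x j = 1) with hS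
  have hl1 : l ≠ 1 := fun e => hl2 (by rw [e, one_pow])
  have hlu : (k : Mn) *ᵥ u = l • u := by rw [hkx, hαu, hβu]; module
  have hlw : (k : Mn) *ᵥ w = l⁻¹ • w := by rw [hkx, hαw, hβw]; module
  refine ⟨S, ?_, fun i hi => ?_⟩
  swap
  · simp only [hS, Finset.mem_filter, Finset.mem_univ, true_and, not_not] at hi
    have h1 := mon_apply hπ u i
    have h2 := mon_apply hπ w i
    rw [hi.1, hi.2, hlu, Pi.smul_apply, smul_eq_mul, one_mul] at h1
    rw [hi.1, hi.2, hlw, Pi.smul_apply, smul_eq_mul, one_mul] at h2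
    constructor
    · by_contra hne
      exact hl1 ((mul_eq_right₀ hne).1 h1)
    · by_contra hne
      exact hl1 (inv_eq_one.1 ((mul_eq_right₀ hne).1 h2))
  by_contra hc
  obtain ⟨a, b, c, ha, hb, hc', hab, hac, hbc⟩ := Finset.two_lt_card_iff.1 (not_le.1 hc)
  obtain ⟨z, hz0, hzα, hzβ, hzs⟩ := exists_ker α β ![a, b, c] (by
    intro p q h
    fin_cases p <;> fin_cases q <;> simp_all)
  obtain ⟨j, hj⟩ : ∃ j, z j ≠ 0 := by
    by_contra hcon; push Not at hcon; exact hz0 (funext hcon)
  have hjS : j ∈ S := by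
    by_contra hjS
    exact hj (hzs j fun p e => hjS (by subst e; fin_cases p <;> assumption))
  have hfix : ∀ i, z (π i) = x i * z i := fun i => by
    have := mon_apply hπ z i
    rwa [hkx, hzα, hzβ, mul_zero, mul_zero, zero_smul, zero_smul, add_zero, add_zero] at this
  have hπj : π j ≠ j := fun e => by
    have h1 := hfix j
    rw [e] at h1
    exact (Finset.mem_filter.1 hjS).2 ⟨e, ((mul_eq_right₀ hj).1 h1.symm)⟩
  -- the minimal polynomial
  set C := l + l⁻¹ with hC
  have hpoly : ∀ y : V, (k : Mn) *ᵥ ((k : Mn) *ᵥ ((k : Mn) *ᵥ y)) - (C + 1) • ((k : Mn) *ᵥ ((k : Mn) *ᵥ y))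
      + (C + 1) • ((k : Mn) *ᵥ y) - y = 0 := fun y => by
    rw [hkx y]
    simp only [Matrix.mulVec_add, Matrix.mulVec_smul, hlu, hlw, hkx y, smul_smul]
    rw [hC]
    match_scalars <;> field_simp <;> ring
  have h := hpoly (Pi.single j 1)
  have hk2 : (k : Mn) *ᵥ ((k : Mn) *ᵥ Pi.single j 1) = Pi.single (π (π j)) (x j * x (π j)) := by
    rw [hπ, show (Pi.single (π j) (x j) : V) = x j • Pi.single (π j) 1 by
      rw [← Pi.single_smul, smul_eq_mul, mul_one], Matrix.mulVec_smul, hπ, ← Pi.single_smul, smul_eq_mul]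
  have hk3 : (k : Mn) *ᵥ (Pi.single (π (π j)) (x j * x (π j))) =
      Pi.single (π (π (π j))) (x j * x (π j) * x (π (π j))) := by
    rw [show (Pi.single (π (π j)) (x j * x (π j)) : V) = (x j * x (π j)) • Pi.single (π (π j)) 1 by
      rw [← Pi.single_smul, smul_eq_mul, mul_one], Matrix.mulVec_smul, hπ, ← Pi.single_smul, smul_eq_mul]
  rw [hk2, hk3, hπ] at h
  by_cases h2 : π (π j) = j
  · have hP : x j * x (π j) = 1 := by
      have h1 := hfix (π j)
      rw [h2, hfix j] at h1
      exact mul_right_cancel₀ hj (by linear_combination -h1)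
    have h0 := congrFun h j
    rw [h2] at h0
    simp [Pi.single_eq_of_ne (Ne.symm hπj), hP] at h0
    refine hl2 ?_
    have : C + 2 = 0 := by linear_combination -h0
    rw [hC] at this
    field_simp at this
    have hsq : (l + 1) ^ 2 = 0 := by linear_combination this
    have h5 := pow_eq_zero_iff (n := 2) (by norm_num) |>.1 hsq
    linear_combination (l - 1) * h5
  by_cases h3 : π (π (π j)) = j
  · have hP : x j * x (π j) * x (π (π j)) = 1 := by
      have h1 := hfix (π (π j))
      rw [h3, hfix (π j), hfix j] at h1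
      exact mul_right_cancel₀ hj (by linear_combination -h1)
    have h0 := congrFun h (π j)
    rw [h3] at h0
    have hne : π j ≠ π (π j) := fun e => hπj (π.injective e).symm
    simp [Pi.single_eq_of_ne hne, Pi.single_eq_of_ne hπj, hx j] at h0
    refine hl3 ?_
    rw [hC] at h0
    field_simp at h0
    linear_combination (l - 1) * h0
  have h0 := congrFun h (π (π (π j)))
  have n1 : π (π (π j)) ≠ π (π j) := fun e => hπj (π.injective (π.injective e))
  have n2 : π (π (π j)) ≠ π j := fun e => h2 (π.injective e)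
  simp [Pi.single_eq_of_ne n1, Pi.single_eq_of_ne n2, Pi.single_eq_of_ne h3, hx] at h0

/-- A monomial involution which is a rank two change of the identity moves only four coordinates. -/
theorem mon_involution {k : GL ι F} (hk : IsMon (k : Mn)) (hkk : ∀ z : V, (k : Mn) *ᵥ ((k : Mn) *ᵥ z) = z)
    {u w α β : V} (hkx : ∀ z : V, (k : Mn) *ᵥ z = z + (α ⬝ᵥ z) • u + (β ⬝ᵥ z) • w) :
    ∃ S : Finset ι, S.card ≤ 4 ∧ ∀ (z : V), ∀ i ∉ S, ((k : Mn) *ᵥ z) i = z i := by
  classical
  obtain ⟨π, x, hx, hπ⟩ := hk.exists_perm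
  set S := Finset.univ.filter fun j => ¬ (π j = j ∧ x j = 1) with hS
  refine ⟨S, ?_, fun z i hi => ?_⟩
  swap
  · simp only [hS, Finset.mem_filter, Finset.mem_univ, true_and, not_not] at hi
    have h1 := mon_apply hπ z i
    rwa [hi.1, hi.2, one_mul] at h1
  have hππ : ∀ j, π (π j) = j := fun j => by
    have h1 := hkk (Pi.single j 1)
    rw [hπ, show (Pi.single (π j) (x j) : V) = x j • Pi.single (π j) 1 by
      rw [← Pi.single_smul, smul_eq_mul, mul_one], Matrix.mulVec_smul, hπ, ← Pi.single_smul] at h1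
    by_contra hne
    have h2 := congrFun h1 (π (π j))
    rw [Pi.single_eq_same, Pi.single_eq_of_ne hne, smul_eq_mul] at h2
    exact mul_ne_zero (hx j) (hx (π j)) h2
  by_contra hc
  push Not at hc
  obtain ⟨a, ha⟩ : S.Nonempty := Finset.card_pos.1 (by omega)
  obtain ⟨b, hb, hb'⟩ := Finset.exists_mem_notMem_of_card_lt_card (s := ({a, π a} : Finset ι)) (t := S)
    (lt_of_le_of_lt Finset.card_le_two (by omega))
  obtain ⟨c, hc1, hc2⟩ := Finset.exists_mem_notMem_of_card_lt_card (s := ({a, π a, b, π b} : Finset ι))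
    (t := S) (lt_of_le_of_lt Finset.card_le_four (by omega))
  simp only [Finset.mem_insert, Finset.mem_singleton, not_or] at hb' hc2
  obtain ⟨z, hz0, hzα, hzβ, hzs⟩ := exists_ker α β ![a, b, c] (by
    intro p q h
    fin_cases p <;> fin_cases q <;> simp_all)
  obtain ⟨j, hj⟩ : ∃ j, z j ≠ 0 := by
    by_contra hcon; push Not at hcon; exact hz0 (funext hcon)
  have hfix : z (π j) = x j * z j := by
    have := mon_apply hπ z j
    rwa [hkx, hzα, hzβ, zero_smul, zero_smul, add_zero, add_zero] at this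
  have hsupp : ∀ i, z i ≠ 0 → i = a ∨ i = b ∨ i = c := fun i hi => by
    by_contra hcon
    push Not at hcon
    exact hi (hzs i fun p => by fin_cases p <;> simp [hcon])
  have hjS : j ∈ S := by rcases hsupp j hj with rfl | rfl | rfl <;> assumption
  have hπj : π j ≠ j := fun e => by
    rw [e] at hfix
    exact (Finset.mem_filter.1 hjS).2 ⟨e, ((mul_eq_right₀ hj).1 hfix.symm)⟩
  have h2 := hsupp (π j) (by rw [hfix]; exact mul_ne_zero (hx j) hj)
  rcases hsupp j hj with rfl | rfl | rfl <;> rcases h2 with h2 | h2 | h2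
  all_goals have h3 := congrArg π h2
  all_goals rw [hππ] at h3
  all_goals
    first
    | exact hπj h2
    | exact hb'.2 h2.symm
    | exact hc2.2.1 h2.symm
    | exact hc2.2.2.2 h2.symm
    | exact hb'.2 h3
    | exact hc2.2.1 h3
    | exact hc2.2.2.2 h3

/-- Two disjoint patterns of four scalars with sum four and product one. -/
theorem exists_pattern [Fintype F] (hq : 5 ≤ Fintype.card F) : ∃ f : Fin 4 → Fin 4 → F,
    Function.Injective f ∧ ∀ i, (∑ j, f i j = 4) ∧ (∏ j, f i j = 1) ∧ ∃ j, f i j ≠ 1 := by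
  classical
  obtain ⟨t, ht⟩ := exists_avoid ({0, 1, -1} : Finset F) (lt_of_le_of_lt Finset.card_le_three (by omega))
  simp only [Finset.mem_insert, Finset.mem_singleton, not_or] at ht
  obtain ⟨ht0, ht1, htm⟩ := ht
  by_cases h2 : (2 : F) = 0
  · have hne : t ≠ t⁻¹ := fun e => by
      field_simp at e
      refine ht1 ?_
      have : (t - 1) ^ 2 = 0 := by linear_combination e + (1 - t) * h2
      exact sub_eq_zero.1 ((pow_eq_zero_iff (by norm_num)).1 this)
    refine ⟨![![t, t, t⁻¹, t⁻¹], ![t, t⁻¹, t, t⁻¹], ![t⁻¹, t⁻¹, t, t], ![t⁻¹, t, t⁻¹, t]], ?_, fun i => ?_⟩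
    · intro p q h
      have h0 := congrFun h 0
      have h1 := congrFun h 1
      fin_cases p <;> fin_cases q <;> simp at h0 h1 ⊢ <;>
        first
        | exact hne h0
        | exact hne h0.symm
        | exact hne h1
        | exact hne h1.symm
    · fin_cases i <;> refine ⟨?_, ?_, ?_⟩ <;>
        first
        | (simp [Fin.sum_univ_four]; linear_combination (t + t⁻¹ - 2) * h2; done)
        | (simp [Fin.prod_univ_four]; field_simp; done)
        | exact ⟨0, ht1⟩
        | exact ⟨2, ht1⟩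
        | exact ⟨1, ht1⟩
  · have hs : 1 - t ^ 2 ≠ 0 := by
      intro e
      have : (t - 1) * (t + 1) = 0 := by linear_combination -e
      rcases mul_eq_zero.1 this with e | e
      · exact ht1 (sub_eq_zero.1 e)
      · exact htm (eq_neg_of_add_eq_zero_left e)
    have h4 : (4 : F) ≠ 0 := by
      rw [show (4 : F) = 2 * 2 by norm_num]; exact mul_ne_zero h2 h2
    set a := (1 - t ^ 2) / (4 * t) with ha
    set γ := 4 / (1 - t ^ 2) with hγ
    set δ := 4 - γ with hδ
    have ha0 : a ≠ 0 := div_ne_zero hs (mul_ne_zero h4 ht0)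
    have haa : a ≠ -a := fun e => by
      have : (2 : F) * a = 0 := by linear_combination e
      exact mul_ne_zero h2 ha0 this
    have hprod : a * -a * γ * δ = 1 := by
      rw [hδ, hγ, ha]
      field_simp
      ring
    have hcross : ∀ s : F, ¬ (γ = s ∧ δ = -s) := fun s h => h4 (by
      have : γ + δ = 4 := by rw [hδ]; ring
      rw [← this, h.1, h.2]; ring)
    refine ⟨![![a, -a, γ, δ], ![-a, a, γ, δ], ![γ, δ, a, -a], ![γ, δ, -a, a]], ?_, fun i => ?_⟩
    · intro p q h
      have h0 := congrFun h 0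
      have h1 := congrFun h 1
      have h2' := congrFun h 2
      fin_cases p <;> fin_cases q <;> simp at h0 h1 h2' ⊢ <;>
        first
        | exact haa h0
        | exact haa h0.symm
        | exact haa h2'
        | exact haa h2'.symm
        | exact hcross a ⟨h0.symm, h1.symm⟩
        | exact hcross a ⟨h0, h1⟩
        | exact hcross (-a) ⟨h0.symm, by rw [neg_neg]; exact h1.symm⟩
        | exact hcross (-a) ⟨h0, by rw [neg_neg]; exact h1⟩
    · fin_cases i <;> refine ⟨?_, ?_, ?_⟩ <;>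
        first
        | (simp [Fin.sum_univ_four, hδ]; done)
        | (simp [Fin.sum_univ_four, hδ]; ring1)
        | (simp [Fin.prod_univ_four]; linear_combination hprod; done)
        | (by_cases e : a = 1
           · first
             | exact ⟨0, by simpa using fun e' : -a = 1 => haa (e.trans e'.symm)⟩
             | exact ⟨1, by simpa using fun e' : -a = 1 => haa (e.trans e'.symm)⟩
             | exact ⟨2, by simpa using fun e' : -a = 1 => haa (e.trans e'.symm)⟩
             | exact ⟨3, by simpa using fun e' : -a = 1 => haa (e.trans e'.symm)⟩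
           · first
             | exact ⟨0, by simpa using e⟩
             | exact ⟨1, by simpa using e⟩
             | exact ⟨2, by simpa using e⟩
             | exact ⟨3, by simpa using e⟩)

variable {M : Subgroup (GL ι F)}

/-- The subgroup contains the monomial elements of determinant one. -/
def MonLe (M : Subgroup (GL ι F)) : Prop := ∀ m : GL ι F, IsMon (m : Mn) → (m : Mn).det = 1 → m ∈ M

theorem MonLe.diag (hM : MonLe M) (f : ι → F) (hf : ∀ i, f i ≠ 0) (hp : ∏ i, f i = 1) :
    ∃ d ∈ M, (d : Mn) = Matrix.diagonal f := by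
  obtain ⟨d, hd⟩ := exists_diag f hf
  exact ⟨d, hM d (by rw [hd]; exact isMon_diagonal f) (by rw [hd, Matrix.det_diagonal, hp]), hd⟩

/-- The monomial swap fixing a vector. -/
theorem exists_swap {a b : ι} (hab : a ≠ b) {α β : F} (hα : α ≠ 0) (hβ : β ≠ 0) : ∃ g : GL ι F,
    (∀ z : V, (g : Mn) *ᵥ z = z + ((Pi.single b β⁻¹ - Pi.single a α⁻¹) ⬝ᵥ z) •
      (Pi.single a α - Pi.single b β)) ∧ IsMon (g : Mn) ∧ (g : Mn).det = -1 := by
  set η : V := Pi.single b β⁻¹ - Pi.single a α⁻¹ with hη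
  set w : V := Pi.single a α - Pi.single b β with hw
  have hηw : 1 + η ⬝ᵥ w = -1 := by
    rw [hη, hw, sub_dotProduct, dotProduct_sub, dotProduct_sub, single_dotProduct, single_dotProduct,
      single_dotProduct, single_dotProduct]
    simp [Pi.single_eq_of_ne hab, Pi.single_eq_of_ne hab.symm, inv_mul_cancel₀ hα, inv_mul_cancel₀ hβ]
  obtain ⟨g, hg, hd⟩ := exists_rankOne w η (by rw [hηw]; simp)
  refine ⟨g, hg, isMon_of_cols fun j => ?_, hd.trans hηw⟩
  rw [hg]
  by_cases hja : j = a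
  · subst hja
    refine ⟨b, α⁻¹ * β, ?_⟩
    funext i
    rw [hη, sub_dotProduct, single_dotProduct, single_dotProduct]
    rcases eq_or_ne i j with rfl | hi
    · simp [hw, Pi.single_eq_of_ne hab, Pi.single_eq_of_ne hab.symm, inv_mul_cancel₀ hα]
    rcases eq_or_ne i b with rfl | hib
    · simp [hw, Pi.single_eq_of_ne hab, Pi.single_eq_of_ne hab.symm]
    simp [hw, Pi.single_eq_of_ne hab.symm, Pi.single_eq_of_ne hi, Pi.single_eq_of_ne hib]
  by_cases hjb : j = b
  · subst hjb
    refine ⟨a, β⁻¹ * α, ?_⟩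
    funext i
    rw [hη, sub_dotProduct, single_dotProduct, single_dotProduct]
    rcases eq_or_ne i j with rfl | hi
    · simp [hw, Pi.single_eq_of_ne hab, Pi.single_eq_of_ne hab.symm, inv_mul_cancel₀ hβ]
    rcases eq_or_ne i a with rfl | hia
    · simp [hw, Pi.single_eq_of_ne hab, Pi.single_eq_of_ne hab.symm]
    simp [hw, Pi.single_eq_of_ne hab, Pi.single_eq_of_ne hi, Pi.single_eq_of_ne hia]
  refine ⟨j, 1, ?_⟩
  rw [hη, sub_dotProduct, single_dotProduct, single_dotProduct, Pi.single_eq_of_ne (Ne.symm hja),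
    Pi.single_eq_of_ne (Ne.symm hjb)]
  simp

/-- Every element fixing a coordinate line is monomial. -/
def FixMon (M : Subgroup (GL ι F)) : Prop :=
  ∀ k ∈ M, ∀ c (ν : F), (k : Mn) *ᵥ Pi.single c 1 = Pi.single c ν → IsMon (k : Mn)

variable [Fintype F]

/-- Two columns of `g` at zeros of one column of its inverse lie in a coordinate plane. -/
theorem pair_support (hM : MonLe M) (hF : FixMon M) (hq : 5 ≤ Fintype.card F) {g : GL ι F} (hg : g ∈ M)
    {c a b : ι} (hab : a ≠ b) (hac : ((g⁻¹ : GL ι F) : Mn) a c = 0) (hbc : ((g⁻¹ : GL ι F) : Mn) b c = 0) :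
    ∃ S : Finset ι, S.card ≤ 2 ∧ ∀ i ∉ S, (g : Mn) i a = 0 ∧ (g : Mn) i b = 0 := by
  classical
  obtain ⟨l, hl0, hl2, hl3⟩ := exists_generic hq
  obtain ⟨d, hdM, hd⟩ := hM.diag (pairFun a b l) (pairFun_ne hl0) (pairFun_prod hab hl0)
  have hdx : ∀ z : V, (d : Mn) *ᵥ z =
      z + ((l - 1) * z a) • Pi.single a 1 + ((l⁻¹ - 1) * z b) • Pi.single b 1 := fun z => by
    funext i
    rw [hd, Matrix.mulVec_diagonal]
    rcases eq_or_ne i a with rfl | hia
    · simp [pairFun_left, Pi.single_eq_of_ne hab]; ring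
    rcases eq_or_ne i b with rfl | hib
    · simp [pairFun_right hab, Pi.single_eq_of_ne hab.symm]; ring
    simp [pairFun_other hia hib, Pi.single_eq_of_ne hia, Pi.single_eq_of_ne hib]
  set k := g * d * g⁻¹ with hk
  have hkx : ∀ z : V, (k : Mn) *ᵥ z =
      z + ((l - 1) * ((Pi.single a 1 ᵥ* ((g⁻¹ : GL ι F) : Mn)) ⬝ᵥ z)) • ((g : Mn) *ᵥ Pi.single a 1)
        + ((l⁻¹ - 1) * ((Pi.single b 1 ᵥ* ((g⁻¹ : GL ι F) : Mn)) ⬝ᵥ z)) • ((g : Mn) *ᵥ Pi.single b 1) :=
    fun z => by
      rw [hk, Units.val_mul, Units.val_mul, ← Matrix.mulVec_mulVec, ← Matrix.mulVec_mulVec, hdx,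
        Matrix.mulVec_add, Matrix.mulVec_add, Matrix.mulVec_smul, Matrix.mulVec_smul, mulVec_inv_cancel,
        ← Matrix.dotProduct_mulVec, ← Matrix.dotProduct_mulVec, single_dotProduct, single_dotProduct,
        one_mul, one_mul]
  have hfix : (k : Mn) *ᵥ Pi.single c 1 = Pi.single c 1 := by
    rw [hkx, ← Matrix.dotProduct_mulVec, ← Matrix.dotProduct_mulVec, single_dotProduct, single_dotProduct,
      col_apply, col_apply, hac, hbc]
    simp
  have hmon := hF k (mul_mem (mul_mem hg hdM) (inv_mem hg)) c 1 hfix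
  obtain ⟨S, hS, hS'⟩ := mon_rankTwo hmon hl0 hl2 hl3 hkx (by rw [vecMul_inv_dot]; simp)
    (by rw [vecMul_inv_dot]; simp [Pi.single_eq_of_ne hab, Pi.single_eq_of_ne hab.symm])
    (by rw [vecMul_inv_dot]; simp [Pi.single_eq_of_ne hab, Pi.single_eq_of_ne hab.symm]) (by rw [vecMul_inv_dot]; simp)
  exact ⟨S, hS, fun i hi => by simpa [col_apply] using hS' i hi⟩

/-- Three zeros in a column of the inverse force a monomial element. -/
theorem three_zeros (hM : MonLe M) (hF : FixMon M) (hq : 5 ≤ Fintype.card F) (hn : 4 ≤ Fintype.card ι)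
    {g : GL ι F} (hg : g ∈ M) {c : ι} {j : Fin 3 → ι} (hj : Function.Injective j)
    (hz : ∀ p, ((g⁻¹ : GL ι F) : Mn) (j p) c = 0) : IsMon (g : Mn) := by
  classical
  -- any two columns at zeros lie in a plane
  have hpair : ∀ (c : ι) (a b : ι), a ≠ b → ((g⁻¹ : GL ι F) : Mn) a c = 0 →
      ((g⁻¹ : GL ι F) : Mn) b c = 0 →
      ∃ S : Finset ι, S.card ≤ 2 ∧ ∀ i ∉ S, (g : Mn) i a = 0 ∧ (g : Mn) i b = 0 :=
    fun c a b hab ha hb => pair_support hM hF hq hg hab ha hb
  -- each such column has a single entry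
  have hsingle : ∀ (c : ι) (j : Fin 3 → ι), Function.Injective j → (∀ p, ((g⁻¹ : GL ι F) : Mn) (j p) c = 0) →
      ∃ i, ∀ i', i' ≠ i → (g : Mn) i' (j 0) = 0 := by
    intro c j hj hz
    by_contra hcon
    push Not at hcon
    obtain ⟨i₁, -, hi₁⟩ := hcon (j 0)
    obtain ⟨i₂, hne, hi₂⟩ := hcon i₁
    have hS : ∀ p, p ≠ 0 → ∀ i, i ≠ i₁ → i ≠ i₂ → (g : Mn) i (j p) = 0 ∧ (g : Mn) i (j 0) = 0 := by
      intro p hp i h1 h2
      obtain ⟨S, hS, hS'⟩ := hpair c (j p) (j 0) (fun e => hp (hj e)) (hz p) (hz 0)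
      refine hS' i fun hi => ?_
      have : ({i, i₁, i₂} : Finset ι) ⊆ S := by
        intro x hx
        simp only [Finset.mem_insert, Finset.mem_singleton] at hx
        rcases hx with rfl | rfl | rfl
        · exact hi
        · by_contra hx; exact hi₁ (hS' _ hx).2
        · by_contra hx; exact hi₂ (hS' _ hx).2
      have := Finset.card_le_card this
      rw [Finset.card_eq_three.2 ⟨i, i₁, i₂, h1, h2, hne.symm, rfl⟩] at this
      omega
    obtain ⟨z, hz0, hz1, hz2, hzs⟩ := exists_ker ((g : Mn) i₁) ((g : Mn) i₂) j hj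
    refine hz0 (gl_mulVec_injective g ?_)
    show (g : Mn) *ᵥ z = (g : Mn) *ᵥ 0
    rw [Matrix.mulVec_zero]
    funext i
    show (g : Mn) i ⬝ᵥ z = 0
    by_cases h1 : i = i₁
    · rw [h1]; exact hz1
    by_cases h2 : i = i₂
    · rw [h2]; exact hz2
    refine Finset.sum_eq_zero fun y _ => ?_
    by_cases hy : ∃ p, y = j p
    · obtain ⟨p, rfl⟩ := hy
      by_cases hp : p = 0
      · subst hp; rw [(hS 1 (by decide) i h1 h2).2, zero_mul]
      · rw [(hS p hp i h1 h2).1, zero_mul]
    · push Not at hy; rw [hzs y hy, mul_zero]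
  obtain ⟨i, hi⟩ := hsingle c j hj hz
  set a := j 0
  set μ := (g : Mn) i a
  have hga : (g : Mn) *ᵥ Pi.single a 1 = μ • Pi.single i 1 := by
    funext x
    rw [col_apply]
    by_cases hx : x = i
    · subst hx; simp [μ]
    · simp [Pi.single_eq_of_ne hx, hi x hx]
  have hzero : ∀ x, x ≠ a → ((g⁻¹ : GL ι F) : Mn) x i = 0 := fun x hx => by
    have h1 := congrFun (inv_mulVec_cancel g (Pi.single a 1)) x
    rw [hga, Matrix.mulVec_smul, Pi.smul_apply, smul_eq_mul, col_apply, Pi.single_eq_of_ne hx] at h1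
    refine (mul_eq_zero.1 h1).resolve_left fun e => ?_
    have h2 := hga
    rw [e, zero_smul] at h2
    have := congrFun (gl_mulVec_injective g (h2.trans (Matrix.mulVec_zero _).symm)) a
    simp at this
  intro x
  by_cases hx : x = a
  · exact ⟨i, by rw [hx]; exact hi⟩
  obtain ⟨b, -, hb⟩ := Finset.exists_mem_notMem_of_card_lt_card (s := ({a, x} : Finset ι))
    (t := Finset.univ) (lt_of_le_of_lt Finset.card_le_two (by rw [Finset.card_univ]; omega))
  obtain ⟨e, -, he⟩ := Finset.exists_mem_notMem_of_card_lt_card (s := ({a, x, b} : Finset ι))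
    (t := Finset.univ) (lt_of_le_of_lt Finset.card_le_three (by rw [Finset.card_univ]; omega))
  simp only [Finset.mem_insert, Finset.mem_singleton, not_or] at hb he
  refine hsingle i ![x, b, e] (by intro p q h; fin_cases p <;> fin_cases q <;> simp_all) fun p => ?_
  fin_cases p
  exacts [hzero x hx, hzero b hb.1, hzero e he.1]

/-- A non-monomial element may be taken fixing a coordinate line. -/
theorem exists_fix (hM : MonLe M) (hq : 5 ≤ Fintype.card F) (hn : 10 ≤ Fintype.card ι) {g : GL ι F}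
    (hg : g ∈ M) (hmon : ¬ IsMon (g : Mn)) :
    ∃ k ∈ M, ¬ IsMon (k : Mn) ∧ ∃ c ν, (k : Mn) *ᵥ Pi.single c 1 = Pi.single c ν := by
  classical
  by_contra hcon
  have hF : FixMon M := fun k hk c ν h => by_contra fun h' => hcon ⟨k, hk, h', c, ν, h⟩
  have hzeros : ∀ {k : GL ι F}, k ∈ M → ∀ c, ∀ S : Finset ι, S.card + 3 ≤ Fintype.card ι →
      (∀ i ∉ S, ((k⁻¹ : GL ι F) : Mn) i c = 0) → IsMon (k : Mn) := by
    intro k hk c S hS h0
    obtain ⟨T, hT, hT'⟩ := Finset.exists_subset_card_eq (s := Sᶜ) (n := 3) (by rw [Finset.card_compl]; omega)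
    refine three_zeros hM hF hq (by omega) hk (c := c)
      (j := fun p => (T.equivFinOfCardEq hT').symm p)
      (Subtype.val_injective.comp (T.equivFinOfCardEq hT').symm.injective) fun p => h0 _ ?_
    exact Finset.mem_compl.1 (hT ((T.equivFinOfCardEq hT').symm p).2)
  obtain ⟨c, -⟩ : ∃ c : ι, True := by
    obtain ⟨c⟩ := Fintype.card_pos_iff.1 (show 0 < Fintype.card ι by omega)
    exact ⟨c, trivial⟩
  set v := ((g⁻¹ : GL ι F) : Mn) *ᵥ Pi.single c 1 with hv
  have hgv : (g : Mn) *ᵥ v = Pi.single c 1 := mulVec_inv_cancel g _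
  set Z := Finset.univ.filter fun i => v i ≠ 0 with hZ
  have hZcard : 8 ≤ Z.card := by
    by_contra hlt
    refine hmon (hzeros hg c Z (by omega) fun i hi => ?_)
    simpa [hZ, hv, col_apply] using hi
  obtain ⟨T, hT, hT'⟩ := Finset.exists_subset_card_eq (s := Z) (n := 4) (by omega)
  set a : Fin 4 → ι := fun p => (T.equivFinOfCardEq hT').symm p
  have ha : Function.Injective a := Subtype.val_injective.comp (T.equivFinOfCardEq hT').symm.injective
  have hva : ∀ p, v (a p) ≠ 0 := fun p =>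
    (Finset.mem_filter.1 (hT ((T.equivFinOfCardEq hT').symm p).2)).2
  -- pairs of pairs
  have hpairs : ∀ p q r s : Fin 4, p ≠ q → r ≠ s → p ≠ r → p ≠ s → q ≠ r → q ≠ s →
      ∃ S : Finset ι, S.card ≤ 4 ∧ ∀ i ∉ S,
        ((g : Mn) *ᵥ (Pi.single (a p) (v (a p)) - Pi.single (a q) (v (a q)))) i = 0 ∧
        ((g : Mn) *ᵥ (Pi.single (a r) (v (a r)) - Pi.single (a s) (v (a s)))) i = 0 := by
    intro p q r s hpq hrs hpr hps hqr hqs
    obtain ⟨s₁, hs₁, hm₁, hd₁⟩ := exists_swap (fun e => hpq (ha e)) (hva p) (hva q)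
    obtain ⟨s₂, hs₂, hm₂, hd₂⟩ := exists_swap (fun e => hrs (ha e)) (hva r) (hva s)
    set η₁ : V := Pi.single (a q) (v (a q))⁻¹ - Pi.single (a p) (v (a p))⁻¹ with hη₁
    set η₂ : V := Pi.single (a s) (v (a s))⁻¹ - Pi.single (a r) (v (a r))⁻¹ with hη₂
    set w₁ : V := Pi.single (a p) (v (a p)) - Pi.single (a q) (v (a q)) with hw₁
    set w₂ : V := Pi.single (a r) (v (a r)) - Pi.single (a s) (v (a s)) with hw₂
    have n1 : a p ≠ a q := fun e => hpq (ha e)
    have n2 : a r ≠ a s := fun e => hrs (ha e)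
    have n3 : a p ≠ a r := fun e => hpr (ha e)
    have n4 : a p ≠ a s := fun e => hps (ha e)
    have n5 : a q ≠ a r := fun e => hqr (ha e)
    have n6 : a q ≠ a s := fun e => hqs (ha e)
    have e11 : η₁ ⬝ᵥ w₁ = -2 := by
      rw [hη₁, hw₁, sub_dotProduct, dotProduct_sub, dotProduct_sub]
      simp [Pi.single_eq_of_ne n1, Pi.single_eq_of_ne n1.symm, inv_mul_cancel₀ (hva p),
        inv_mul_cancel₀ (hva q)]
      ring
    have e22 : η₂ ⬝ᵥ w₂ = -2 := by
      rw [hη₂, hw₂, sub_dotProduct, dotProduct_sub, dotProduct_sub]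
      simp [Pi.single_eq_of_ne n2, Pi.single_eq_of_ne n2.symm, inv_mul_cancel₀ (hva r),
        inv_mul_cancel₀ (hva s)]
      ring
    have e12 : η₁ ⬝ᵥ w₂ = 0 := by
      rw [hη₁, hw₂, sub_dotProduct, dotProduct_sub, dotProduct_sub]
      simp [Pi.single_eq_of_ne n3, Pi.single_eq_of_ne n3.symm, Pi.single_eq_of_ne n4, Pi.single_eq_of_ne n4.symm, Pi.single_eq_of_ne n5, Pi.single_eq_of_ne n5.symm, Pi.single_eq_of_ne n6, Pi.single_eq_of_ne n6.symm]
    have e21 : η₂ ⬝ᵥ w₁ = 0 := by
      rw [hη₂, hw₁, sub_dotProduct, dotProduct_sub, dotProduct_sub]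
      simp [Pi.single_eq_of_ne n3, Pi.single_eq_of_ne n3.symm, Pi.single_eq_of_ne n4, Pi.single_eq_of_ne n4.symm, Pi.single_eq_of_ne n5, Pi.single_eq_of_ne n5.symm, Pi.single_eq_of_ne n6, Pi.single_eq_of_ne n6.symm]
    have hsx : ∀ z : V, ((s₁ * s₂ : GL ι F) : Mn) *ᵥ z = z + (η₁ ⬝ᵥ z) • w₁ + (η₂ ⬝ᵥ z) • w₂ := fun z => by
      rw [Units.val_mul, ← Matrix.mulVec_mulVec, hs₂, hs₁, dotProduct_add, dotProduct_smul, e12, smul_zero,
        add_zero]
      module
    have hs2 : ∀ z : V, ((s₁ * s₂ : GL ι F) : Mn) *ᵥ (((s₁ * s₂ : GL ι F) : Mn) *ᵥ z) = z := fun z => by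
      rw [hsx, hsx z]
      simp only [dotProduct_add, dotProduct_smul, e11, e12, e21, e22, smul_eq_mul]
      module
    have hsM : s₁ * s₂ ∈ M := hM _ (by rw [Units.val_mul]; exact hm₁.mul hm₂)
      (by rw [Units.val_mul, Matrix.det_mul, hd₁, hd₂]; ring)
    set k := g * (s₁ * s₂) * g⁻¹ with hk
    have hkx : ∀ z : V, (k : Mn) *ᵥ z = z + ((η₁ ᵥ* ((g⁻¹ : GL ι F) : Mn)) ⬝ᵥ z) • ((g : Mn) *ᵥ w₁)
        + ((η₂ ᵥ* ((g⁻¹ : GL ι F) : Mn)) ⬝ᵥ z) • ((g : Mn) *ᵥ w₂) := fun z => by
      rw [hk, Units.val_mul, Units.val_mul, ← Matrix.mulVec_mulVec, ← Matrix.mulVec_mulVec, hsx,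
        Matrix.mulVec_add, Matrix.mulVec_add, Matrix.mulVec_smul, Matrix.mulVec_smul, mulVec_inv_cancel,
        ← Matrix.dotProduct_mulVec, ← Matrix.dotProduct_mulVec]
    have hfix : (k : Mn) *ᵥ Pi.single c 1 = Pi.single c 1 := by
      rw [hkx, ← hgv, vecMul_inv_dot, vecMul_inv_dot, hη₁, hη₂, sub_dotProduct, sub_dotProduct,
        single_dotProduct, single_dotProduct, single_dotProduct, single_dotProduct,
        inv_mul_cancel₀ (hva p), inv_mul_cancel₀ (hva q), inv_mul_cancel₀ (hva r), inv_mul_cancel₀ (hva s)]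
      simp
    obtain ⟨S, hS, hS'⟩ := mon_involution (hF k (mul_mem (mul_mem hg hsM) (inv_mem hg)) c 1 hfix)
      (fun z => by
        rw [hk, Units.val_mul, Units.val_mul, ← Matrix.mulVec_mulVec, ← Matrix.mulVec_mulVec,
          ← Matrix.mulVec_mulVec, ← Matrix.mulVec_mulVec, inv_mulVec_cancel, hs2, mulVec_inv_cancel]) hkx
    refine ⟨S, hS, fun i hi => ⟨?_, ?_⟩⟩
    · have h1 := hS' ((g : Mn) *ᵥ Pi.single (a q) (v (a q))) i hi
      rw [hkx, vecMul_inv_dot, vecMul_inv_dot, hη₁, hη₂] at h1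
      simp [Pi.single_eq_of_ne n1, Pi.single_eq_of_ne n1.symm, Pi.single_eq_of_ne n5, Pi.single_eq_of_ne n6,
        Pi.single_eq_of_ne n5.symm, Pi.single_eq_of_ne n6.symm, hva q] at h1
      linear_combination h1
    · have h1 := hS' ((g : Mn) *ᵥ Pi.single (a s) (v (a s))) i hi
      rw [hkx, vecMul_inv_dot, vecMul_inv_dot, hη₁, hη₂] at h1
      simp [Pi.single_eq_of_ne n2, Pi.single_eq_of_ne n2.symm, Pi.single_eq_of_ne n4, Pi.single_eq_of_ne n6,
        Pi.single_eq_of_ne n4.symm, Pi.single_eq_of_ne n6.symm, hva s] at h1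
      linear_combination h1
  obtain ⟨S₁, hS₁, hS₁'⟩ := hpairs 0 1 2 3 (by decide) (by decide) (by decide) (by decide) (by decide) (by decide)
  obtain ⟨S₂, hS₂, hS₂'⟩ := hpairs 0 2 1 3 (by decide) (by decide) (by decide) (by decide) (by decide) (by decide)
  -- small changes of four coordinates of `v`
  set W : (Fin 4 → F) → V := fun δ => ∑ p, Pi.single (a p) (δ p * v (a p)) with hW
  have hsupp : ∀ δ : Fin 4 → F, ∑ p, δ p = 0 → ∀ i ∉ S₁ ∪ S₂, ((g : Mn) *ᵥ W δ) i = 0 := by
    intro δ hδ i hi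
    rw [Finset.mem_union, not_or] at hi
    have hsplit : W δ = (-δ 1) • (Pi.single (a 0) (v (a 0)) - Pi.single (a 1) (v (a 1)))
        + (-δ 3) • (Pi.single (a 2) (v (a 2)) - Pi.single (a 3) (v (a 3)))
        + (δ 0 + δ 1) • (Pi.single (a 0) (v (a 0)) - Pi.single (a 2) (v (a 2))) := by
      rw [Fin.sum_univ_four] at hδ
      simp only [hW, Fin.sum_univ_four, smul_sub, ← Pi.single_smul, smul_eq_mul]
      funext x
      simp only [Pi.add_apply, Pi.sub_apply, Pi.single_apply]
      split_ifs <;> first | ring1 | linear_combination (v (a 2)) * hδ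
    rw [hsplit, Matrix.mulVec_add, Matrix.mulVec_add, Matrix.mulVec_smul, Matrix.mulVec_smul,
      Matrix.mulVec_smul]
    simp [(hS₁' i hi.1).1, (hS₁' i hi.1).2, (hS₂' i hi.2).1]
  have hcap : 2 ≤ (S₁ ∩ S₂).card := by
    by_contra hlt
    set z : V := W ![1, -1, -1, 1] with hz
    have hz1 : z = (Pi.single (a 0) (v (a 0)) - Pi.single (a 1) (v (a 1)))
        - (Pi.single (a 2) (v (a 2)) - Pi.single (a 3) (v (a 3))) := by
      simp only [hz, hW, Fin.sum_univ_four]
      funext y
      simp [Pi.single_apply]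
      split_ifs <;> ring
    have hz2 : z = (Pi.single (a 0) (v (a 0)) - Pi.single (a 2) (v (a 2)))
        - (Pi.single (a 1) (v (a 1)) - Pi.single (a 3) (v (a 3))) := by
      rw [hz1]; abel
    have hout : ∀ i ∉ S₁ ∩ S₂, ((g : Mn) *ᵥ z) i = 0 := by
      intro i hi
      rw [Finset.mem_inter, not_and_or] at hi
      rcases hi with hi | hi
      · rw [hz1, Matrix.mulVec_sub]; simp [(hS₁' i hi).1, (hS₁' i hi).2]
      · rw [hz2, Matrix.mulVec_sub]; simp [(hS₂' i hi).1, (hS₂' i hi).2]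
    have hza : z (a 0) ≠ 0 := by
      rw [hz1]
      simp [ha.eq_iff, hva 0]
    obtain ⟨i, hi⟩ : ∃ i, ((g : Mn) *ᵥ z) i ≠ 0 := by
      by_contra h0; push Not at h0
      exact hza (congrFun (gl_mulVec_injective g (show (g : Mn) *ᵥ z = (g : Mn) *ᵥ 0 by
        rw [Matrix.mulVec_zero]; exact funext h0)) (a 0))
    have hgz : (g : Mn) *ᵥ z = Pi.single i (((g : Mn) *ᵥ z) i) := by
      funext y
      by_cases hy : y = i
      · subst hy; simp
      rw [Pi.single_eq_of_ne hy]
      refine hout y fun h => hy ?_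
      exact Finset.card_le_one.1 (by omega) y h i (by_contra fun h' => hi (hout i h'))
    refine hmon (hzeros hg i (Finset.univ.image a) (by
      have := Finset.card_image_le (s := (Finset.univ : Finset (Fin 4))) (f := a)
      rw [Finset.card_univ, Fintype.card_fin] at this
      omega) fun y hy => ?_)
    have h1 := congrFun (congrArg (fun z => ((g⁻¹ : GL ι F) : Mn) *ᵥ z) hgz) y
    simp only [inv_mulVec_cancel] at h1
    rw [← col_apply ((g⁻¹ : GL ι F) : Mn) y i]
    rw [show (Pi.single i (((g : Mn) *ᵥ z) i) : V) = (((g : Mn) *ᵥ z) i) • Pi.single i 1 by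
      rw [← Pi.single_smul, smul_eq_mul, mul_one], Matrix.mulVec_smul, Pi.smul_apply, smul_eq_mul] at h1
    refine (mul_eq_zero.1 (h1.symm.trans ?_)).resolve_left hi
    simp only [Finset.mem_image, Finset.mem_univ, true_and, not_exists] at hy
    rw [hz, hW]
    simp only [Finset.sum_apply]
    exact Finset.sum_eq_zero fun q _ => Pi.single_eq_of_ne (fun e => hy q e.symm) _
  obtain ⟨f, hf, hf'⟩ := exists_pattern hq
  obtain ⟨o, hoZ, ho⟩ := Finset.exists_mem_notMem_of_card_lt_card (s := Finset.univ.image a) (t := Z)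
    (lt_of_le_of_lt Finset.card_image_le (by rw [Finset.card_univ, Fintype.card_fin]; omega))
  simp only [Finset.mem_image, Finset.mem_univ, true_and, not_exists] at ho
  have hvo : v o ≠ 0 := (Finset.mem_filter.1 hoZ).2
  have hWa : ∀ δ p, W δ (a p) = δ p * v (a p) := fun δ p => by
    simp only [hW, Finset.sum_apply]
    rw [Finset.sum_eq_single p (fun q _ hq' => Pi.single_eq_of_ne (fun e => hq' (ha e).symm) _) (by simp),
      Pi.single_eq_same]
  have hWo : ∀ δ, W δ o = 0 := fun δ => by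
    simp only [hW, Finset.sum_apply]
    exact Finset.sum_eq_zero fun q _ => Pi.single_eq_of_ne (fun e => ho q e.symm) _
  have key : ∀ i, ∃ c' x, c' ≠ c ∧ x ≠ 0 ∧
      Pi.single c' x = Pi.single c 1 + (g : Mn) *ᵥ W (fun p => f i p - 1) ∧
      v + W (fun p => f i p - 1) = x • (((g⁻¹ : GL ι F) : Mn) *ᵥ Pi.single c' 1) := by
    intro i
    obtain ⟨hsum, hprod, j, hj⟩ := hf' i
    set F' : ι → F := fun y => if h : ∃ p, a p = y then f i h.choose else 1 with hF'
    have hFa : ∀ p, F' (a p) = f i p := fun p => by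
      have h : ∃ q, a q = a p := ⟨p, rfl⟩
      simp only [hF', dif_pos h]
      rw [ha h.choose_spec]
    have hFo : ∀ y, (∀ p, a p ≠ y) → F' y = 1 := fun y hy => by
      simp only [hF']
      rw [dif_neg (fun ⟨p, hp⟩ => hy p hp)]
    have hFp : ∏ y, F' y = 1 := by
      rw [← Finset.prod_subset (Finset.subset_univ (Finset.univ.image a)) (fun y _ hy => hFo y (by
        simpa using hy)), Finset.prod_image (fun p _ q _ e => ha e), ← hprod]
      exact Finset.prod_congr rfl fun p _ => hFa p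
    obtain ⟨d, hdM, hd⟩ := hM.diag F' (fun y => by
      by_cases h : ∃ p, a p = y
      · obtain ⟨p, rfl⟩ := h
        rw [hFa]
        exact (Finset.prod_ne_zero_iff.1 (by rw [hprod]; exact one_ne_zero)) p (Finset.mem_univ p)
      · push Not at h; rw [hFo y h]; exact one_ne_zero) hFp
    have hdv : (d : Mn) *ᵥ v = v + W (fun p => f i p - 1) := by
      funext y
      rw [hd, Matrix.mulVec_diagonal, Pi.add_apply]
      by_cases h : ∃ p, a p = y
      · obtain ⟨p, rfl⟩ := h
        rw [hFa, hWa]; ring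
      · push Not at h
        rw [hFo y h, hW]
        simp only [Finset.sum_apply]
        rw [Finset.sum_eq_zero fun q _ => Pi.single_eq_of_ne (Ne.symm (h q)) _]; ring
    set k := g * d * g⁻¹ with hk
    have hkM : k ∈ M := mul_mem (mul_mem hg hdM) (inv_mem hg)
    have hkc : (k : Mn) *ᵥ Pi.single c 1 = Pi.single c 1 + (g : Mn) *ᵥ W (fun p => f i p - 1) := by
      rw [hk, Units.val_mul, Units.val_mul, ← Matrix.mulVec_mulVec, ← Matrix.mulVec_mulVec, ← hv, hdv,
        Matrix.mulVec_add, hgv]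
    have hS : (insert c (S₁ ∪ S₂)).card + 3 ≤ Fintype.card ι := by
      have := (Finset.card_insert_le c (S₁ ∪ S₂)).trans (by
        have := Finset.card_union_add_card_inter S₁ S₂
        omega : (S₁ ∪ S₂).card + 1 ≤ 7)
      omega
    have hmonk : IsMon (k : Mn) := by
      have := hzeros (inv_mem hkM) c _ hS fun y hy => by
        rw [inv_inv, ← col_apply (k : Mn) y c, hkc]
        rw [Finset.mem_insert, not_or] at hy
        rw [Pi.add_apply, Pi.single_eq_of_ne hy.1, zero_add,
          hsupp _ (by rw [Finset.sum_sub_distrib, hsum]; simp) y hy.2]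
      simpa using this.inv
    obtain ⟨π, x, hx, hπ⟩ := hmonk.exists_perm
    have hrel : v + W (fun p => f i p - 1) = x c • (((g⁻¹ : GL ι F) : Mn) *ᵥ Pi.single (π c) 1) := by
      rw [← Matrix.mulVec_smul, ← Pi.single_smul, smul_eq_mul, mul_one, ← hπ c, hkc, Matrix.mulVec_add,
        inv_mulVec_cancel, hv]
    refine ⟨π c, x c, fun e => ?_, hx c, by rw [← hπ c, hkc], hrel⟩
    rw [e, ← hv] at hrel
    have h1 := congrFun hrel o
    rw [Pi.add_apply, hWo, add_zero, Pi.smul_apply, smul_eq_mul] at h1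
    have h2 := congrFun hrel (a j)
    rw [Pi.add_apply, hWa, Pi.smul_apply, smul_eq_mul, (mul_eq_right₀ hvo).1 h1.symm] at h2
    exact hj (sub_eq_zero.1 ((mul_eq_zero.1 (by linear_combination h2 :
      (f i j - 1) * v (a j) = 0)).resolve_right (hva j)))
  choose c' x hc' hx hk hrel using key
  have hdist : Function.Injective c' := fun i i' e => hf (funext fun p => by
    have h1 := hrel i
    have h2 := hrel i'
    rw [← e] at h2
    set y := ((g⁻¹ : GL ι F) : Mn) *ᵥ Pi.single (c' i) 1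
    have o1 := congrFun h1 o
    have o2 := congrFun h2 o
    simp only [Pi.add_apply, hWo, add_zero, Pi.smul_apply, smul_eq_mul] at o1 o2
    have hy : y o ≠ 0 := fun e => hvo (by rw [o1, e, mul_zero])
    have hxx : x i = x i' := mul_right_cancel₀ hy (o1.symm.trans o2)
    have p1 := congrFun h1 (a p)
    have p2 := congrFun h2 (a p)
    simp only [Pi.add_apply, hWa, Pi.smul_apply, smul_eq_mul] at p1 p2
    exact mul_right_cancel₀ (hva p) (by rw [hxx] at p1; linear_combination p1 - p2))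
  let L : (Fin 4 → F) →ₗ[F] (Fin 3 → F) :=
    (Matrix.of fun (s : Fin 3) (i : Fin 4) => f i s.castSucc - 1).mulVecLin
  obtain ⟨γ, hγ, hγ0⟩ := Submodule.exists_mem_ne_zero_of_ne_bot
    (LinearMap.ker_ne_bot_of_finrank_lt (f := L) (by simp))
  have hγ' : ∀ p, ∑ i, γ i * (f i p - 1) = 0 := by
    have h3 : ∀ s : Fin 3, ∑ i, γ i * (f i s.castSucc - 1) = 0 := fun s => by
      have := congrFun (LinearMap.mem_ker.1 hγ) s
      simpa [L, Matrix.mulVec, dotProduct, mul_comm] using this
    intro p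
    induction p using Fin.lastCases with
    | cast s => exact h3 s
    | last =>
      have htot : ∑ p : Fin 4, ∑ i, γ i * (f i p - 1) = 0 := by
        rw [Finset.sum_comm]
        exact Finset.sum_eq_zero fun i _ => by
          rw [← Finset.mul_sum, Finset.sum_sub_distrib, (hf' i).1]; simp
      rw [Fin.sum_univ_castSucc, Finset.sum_eq_zero (fun s _ => h3 s), zero_add] at htot
      exact htot
  have hzero : ∑ i, γ i • (Pi.single (c' i) (x i) - Pi.single c 1 : V) = 0 := by
    simp only [hk, add_sub_cancel_left, ← Matrix.mulVec_smul, ← Matrix.mulVec_sum]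
    rw [show ∑ i, γ i • W (fun p => f i p - 1) = (0 : V) by
      simp only [hW, Finset.smul_sum]
      rw [Finset.sum_comm]
      refine Finset.sum_eq_zero fun p _ => ?_
      funext y
      simp only [Finset.sum_apply, Pi.smul_apply, smul_eq_mul, Pi.single_apply, Pi.zero_apply]
      split_ifs
      · simp only [← mul_assoc, ← Finset.sum_mul, hγ' p, zero_mul]
      · simp, Matrix.mulVec_zero]
  refine hγ0 (funext fun i => ?_)
  have := congrFun hzero (c' i)
  simp only [Finset.sum_apply, Pi.smul_apply, Pi.sub_apply, smul_eq_mul, Pi.zero_apply] at this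
  rw [Finset.sum_eq_single i (fun i' _ hi' => by
    rw [Pi.single_eq_of_ne (fun e => hi' (hdist e).symm), Pi.single_eq_of_ne (hc' i)]; ring) (by simp),
    Pi.single_eq_same, Pi.single_eq_of_ne (hc' i), sub_zero] at this
  exact (mul_eq_zero.1 this).resolve_right (hx i)

theorem torus_conj {v φ : V} (h : InT M v φ) {f : ι → F} (hf : ∀ i, f i ≠ 0) {d : GL ι F} (hd : d ∈ M)
    (hdf : (d : Mn) = Matrix.diagonal f) : InT M (f * v) (φ / f) := by
  have := h.conj hd
  convert this using 1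
  · funext i; rw [hdf, Matrix.mulVec_diagonal]; rfl
  refine dotProduct_eq _ _ fun z => ?_
  obtain ⟨z, rfl⟩ : ∃ y, z = (d : Mn) *ᵥ y := ⟨_, (mulVec_inv_cancel d z).symm⟩
  rw [vecMul_inv_dot, hdf]
  refine Finset.sum_congr rfl fun i _ => ?_
  rw [Matrix.mulVec_diagonal, Pi.div_apply]
  field_simp [hf i]

/-- A transvection with coordinate centre gives an elementary one. -/
theorem root_of_axis (hM : MonLe M) (hq : 5 ≤ Fintype.card F) (hn : 4 ≤ Fintype.card ι) {c : ι} {ψ : V}
    (h : InT M (Pi.single c 1) ψ) (hc : ψ c = 0) {j : ι} (hj : ψ j ≠ 0) : HasRoot M := by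
  classical
  obtain ⟨μ, hμ0, hμ2, -⟩ := exists_generic hq
  have hμ1 : μ ≠ 1 := fun e => hμ2 (by rw [e, one_pow])
  have hjc : j ≠ c := fun e => hj (e ▸ hc)
  obtain ⟨l, -, hl⟩ := Finset.exists_mem_notMem_of_card_lt_card (s := ({c, j} : Finset ι))
    (t := Finset.univ) (lt_of_le_of_lt Finset.card_le_two (by rw [Finset.card_univ]; omega))
  obtain ⟨l', -, hl'⟩ := Finset.exists_mem_notMem_of_card_lt_card (s := ({c, j, l} : Finset ι))
    (t := Finset.univ) (lt_of_le_of_lt Finset.card_le_three (by rw [Finset.card_univ]; omega))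
  simp only [Finset.mem_insert, Finset.mem_singleton, not_or] at hl hl'
  have step : ∀ {φ : V} (m : ι), InT M (Pi.single c 1) φ → φ c = 0 → j ≠ m → m ≠ c →
      InT M (Pi.single c 1) (φ / pairFun j m μ - φ) := by
    intro φ m h hφ hjm hmc
    obtain ⟨d, hd, hdf⟩ := hM.diag (pairFun j m μ) (pairFun_ne hμ0) (pairFun_prod hjm hμ0)
    have h1 := torus_conj h (pairFun_ne hμ0) hd hdf
    rw [show pairFun j m μ * Pi.single c (1 : F) = Pi.single c 1 by
      funext i
      by_cases hi : i = c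
      · subst hi; simp [pairFun_other (Ne.symm hjc) (Ne.symm hmc)]
      · simp [Pi.single_eq_of_ne hi]] at h1
    exact mixR h h1 (by simp [dotProduct_single, hφ, pairFun_other (Ne.symm hjc) (Ne.symm hmc)])
  have h1 := step l h hc (Ne.symm hl.2) hl.1
  have h2 := step l' h1 (by simp [hc]) (Ne.symm hl'.2.1) hl'.1
  set t := (ψ j / μ - ψ j) / μ - (ψ j / μ - ψ j) with ht
  have ht0 : t ≠ 0 := by
    rw [ht, show (ψ j / μ - ψ j) / μ - (ψ j / μ - ψ j) = ψ j * (μ⁻¹ - 1) ^ 2 by field_simp]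
    exact mul_ne_zero hj (pow_ne_zero 2 (sub_ne_zero.2 fun e => hμ1 (inv_eq_one.1 e)))
  have h3 : InT M (Pi.single c 1) (t • (Pi.single j (1 : F) : V)) := by
    convert h2 using 1
    funext i
    rcases eq_or_ne i j with rfl | hij
    · simp [pairFun_left, ht]
    rcases eq_or_ne i l with rfl | hil
    · simp [Pi.single_eq_of_ne hij, pairFun_other hij (Ne.symm hl'.2.2)]
    simp [Pi.single_eq_of_ne hij, pairFun_other hij hil]
  have h4 := InT.scale_left h3
  rw [← Pi.single_smul, smul_eq_mul, mul_one] at h4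
  exact ⟨c, j, t, Ne.symm hjc, ht0, h4⟩

/-- Two elements differing in one row give an elementary transvection. -/
theorem root_of_diff (hM : MonLe M) (hq : 5 ≤ Fintype.card F) (hn : 4 ≤ Fintype.card ι) {A B : GL ι F}
    (hA : A ∈ M) (hB : B ∈ M) {c : ι} {χ : V} {ν : F}
    (hAB : ∀ j, (A : Mn) *ᵥ Pi.single j 1 = (B : Mn) *ᵥ Pi.single j 1 + χ j • Pi.single c 1)
    (hBc : (B : Mn) *ᵥ Pi.single c 1 = Pi.single c ν) (hc : χ c = 0) {j : ι} (hj : χ j ≠ 0) : HasRoot M := by
  have hν : ν ≠ 0 := fun e => by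
    rw [e, Pi.single_zero] at hBc
    have := congrFun (gl_mulVec_injective B (hBc.trans (Matrix.mulVec_zero _).symm)) c
    simp at this
  have hmat : (A : Mn) = (B : Mn) + vecMulVec (Pi.single c 1) χ := by
    ext i j
    have := congrFun (hAB j) i
    rw [col_apply, Pi.add_apply, col_apply, Pi.smul_apply, smul_eq_mul] at this
    rw [this, Matrix.add_apply, Matrix.vecMulVec_apply, mul_comm]
  refine root_of_axis hM hq hn (c := c) (ψ := ν⁻¹ • χ) ⟨B⁻¹ * A, mul_mem (inv_mem hB) hA, fun z =>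
    gl_mulVec_injective B ?_⟩ (by simp [hc]) (j := j) (by simp [hj, hν])
  show (B : Mn) *ᵥ (((B⁻¹ * A : GL ι F) : Mn) *ᵥ z) = (B : Mn) *ᵥ _
  rw [Units.val_mul, ← Matrix.mulVec_mulVec, mulVec_inv_cancel, hmat, Matrix.add_mulVec,
    Matrix.vecMulVec_mulVec, Matrix.mulVec_add, Matrix.mulVec_smul, hBc, ← Pi.single_smul, smul_dotProduct]
  rw [op_smul_eq_smul, ← Pi.single_smul]
  simp only [smul_eq_mul]
  congr 2
  field_simp

/-- The block at a fixed coordinate line. -/
theorem submatrix_mul_of_fix {A B : Mn} {c : ι} (hA : ∀ i, i ≠ c → A i c = 0) :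
    (A * B).submatrix (Subtype.val : {i // i ≠ c} → ι) (Subtype.val : {i // i ≠ c} → ι) =
      A.submatrix (Subtype.val : {i // i ≠ c} → ι) (Subtype.val : {i // i ≠ c} → ι) *
        B.submatrix (Subtype.val : {i // i ≠ c} → ι) (Subtype.val : {i // i ≠ c} → ι) := by
  ext i j
  simp only [Matrix.submatrix_apply, Matrix.mul_apply]
  rw [← Finset.sum_subtype (Finset.univ.erase c) (by simp) (fun l => A i l * B l j),
    ← Finset.add_sum_erase _ _ (Finset.mem_univ c), hA i i.2, zero_mul, zero_add]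

theorem inv_col_zero {m : GL ι F} {c : ι} (h : ∀ i, i ≠ c → (m : Mn) i c = 0) :
    ∀ i, i ≠ c → ((m⁻¹ : GL ι F) : Mn) i c = 0 := by
  intro i hi
  have hm : (m : Mn) *ᵥ Pi.single c 1 = (m : Mn) c c • Pi.single c 1 := by
    funext x
    rw [col_apply]
    by_cases hx : x = c
    · subst hx; simp
    · simp [Pi.single_eq_of_ne hx, h x hx]
  have h1 := congrFun (inv_mulVec_cancel m (Pi.single c 1)) i
  rw [hm, Matrix.mulVec_smul, Pi.smul_apply, smul_eq_mul, col_apply, Pi.single_eq_of_ne hi] at h1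
  refine (mul_eq_zero.1 h1).resolve_left fun e => ?_
  rw [e, zero_smul] at hm
  have := congrFun (gl_mulVec_injective m (hm.trans (Matrix.mulVec_zero _).symm)) c
  simp at this

/-- The group induced on the block. -/
def blockGroup (M : Subgroup (GL ι F)) (c : ι) : Subgroup (GL {i // i ≠ c} F) where
  carrier := {g | ∃ m ∈ M, (∀ i, i ≠ c → (m : Mn) i c = 0) ∧
    (g : Matrix {i // i ≠ c} {i // i ≠ c} F) = (m : Mn).submatrix Subtype.val Subtype.val}
  one_mem' := ⟨1, one_mem M, fun i hi => by simp [hi], by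
    rw [Units.val_one, Units.val_one, Matrix.submatrix_one _ Subtype.val_injective]⟩
  mul_mem' := by
    rintro a b ⟨m, hm, hmc, ha⟩ ⟨m', hm', hmc', hb⟩
    refine ⟨m * m', mul_mem hm hm', fun i hi => ?_, by
      rw [Units.val_mul, Units.val_mul, submatrix_mul_of_fix hmc, ha, hb]⟩
    rw [Units.val_mul, Matrix.mul_apply]
    refine Finset.sum_eq_zero fun l _ => ?_
    by_cases hl : l = c
    · rw [hl, hmc i hi, zero_mul]
    · rw [hmc' l hl, mul_zero]
  inv_mem' := by
    rintro a ⟨m, hm, hmc, ha⟩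
    refine ⟨m⁻¹, inv_mem hm, inv_col_zero hmc, ?_⟩
    rw [Matrix.coe_units_inv a]
    refine Matrix.inv_eq_right_inv ?_
    rw [ha, ← submatrix_mul_of_fix hmc, ← Units.val_mul, mul_inv_cancel, Units.val_one,
      Matrix.submatrix_one _ Subtype.val_injective]

theorem single_val {c : ι} (a : {i // i ≠ c}) (x : F) (i : {i // i ≠ c}) :
    (Pi.single a x : {i // i ≠ c} → F) i = (Pi.single (a : ι) x : V) i := by
  simp [Pi.single_apply, Subtype.ext_iff]

theorem blockGroup_ctx (hM : MonLe M) (hq : 5 ≤ Fintype.card F) (hn : 4 ≤ Fintype.card ι) (c : ι) :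
    Ctx (blockGroup M c) where
  hom a e he := by
    obtain ⟨d, hd, hdf⟩ := hM.diag (pairFun (a : ι) c (1 + e)) (pairFun_ne he) (pairFun_prod a.2 he)
    obtain ⟨g, hg, -⟩ := exists_rankOne (Pi.single a 1 : {i // i ≠ c} → F) (Pi.single a e)
      (by simpa using he)
    refine ⟨g, ⟨d, hd, fun i hi => by rw [hdf, Matrix.diagonal_apply_ne _ hi], ?_⟩, hg⟩
    rw [tv_val hg, hdf]
    ext i j
    have hi2 : c ≠ (i : ι) := Ne.symm i.2
    have hj2 : c ≠ (j : ι) := Ne.symm j.2
    simp only [Matrix.add_apply, Matrix.vecMulVec_apply, Matrix.submatrix_apply, Matrix.one_apply,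
      Matrix.diagonal_apply, Pi.single_apply, pairFun, Subtype.ext_iff]
    split_ifs <;> simp_all
  swap a b α β hab hα hβ := by
    have hab' : (a : ι) ≠ b := fun e => hab (Subtype.ext e)
    obtain ⟨s, hs, hms, hds⟩ := exists_swap hab' hα hβ
    obtain ⟨d, hdf⟩ := exists_diag (fun i => if i = c then (-1 : F) else 1) (fun i => by split_ifs <;> simp)
    have hsd : s * d ∈ M := hM _ (by rw [Units.val_mul, hdf]; exact hms.mul (isMon_diagonal _)) (by
      rw [Units.val_mul, hdf, Matrix.det_mul, hds, Matrix.det_diagonal,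
        Fintype.prod_eq_single c (fun i hi => if_neg hi), if_pos rfl, neg_mul_neg, mul_one])
    set η : {i // i ≠ c} → F := Pi.single b β⁻¹ - Pi.single a α⁻¹ with hη
    set w : {i // i ≠ c} → F := Pi.single a α - Pi.single b β with hw
    obtain ⟨g, hg, -⟩ := exists_rankOne w η (by
      rw [hη, hw, sub_dotProduct, dotProduct_sub, dotProduct_sub]
      simp [Pi.single_eq_of_ne hab, Pi.single_eq_of_ne hab.symm, inv_mul_cancel₀ hα, inv_mul_cancel₀ hβ])
    refine ⟨g, ⟨s * d, hsd, fun i hi => ?_, ?_⟩, hg⟩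
    · rw [Units.val_mul, hdf, Matrix.mul_diagonal, tv_val hs, Matrix.add_apply, Matrix.one_apply_ne hi,
        Matrix.vecMulVec_apply]
      simp [Pi.single_eq_of_ne (Ne.symm a.2), Pi.single_eq_of_ne (Ne.symm b.2)]
    · rw [tv_val hg, Units.val_mul, hdf, tv_val hs, hη, hw]
      ext i j
      rw [Matrix.submatrix_apply, Matrix.mul_diagonal, if_neg j.2, mul_one]
      simp only [Matrix.add_apply, Matrix.vecMulVec_apply, Pi.sub_apply, single_val, Matrix.one_apply,
        Subtype.ext_iff]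
  q5 := hq
  n3 := by
    rw [Fintype.card_subtype_compl, Fintype.card_subtype_eq]
    omega

/-- A non-monomial element fixing a coordinate line gives an elementary transvection. -/
theorem root_of_fix (hM : MonLe M) (hq : 5 ≤ Fintype.card F) (hn : 4 ≤ Fintype.card ι) {k : GL ι F}
    (hk : k ∈ M) (hmon : ¬ IsMon (k : Mn)) {c : ι} {ν : F}
    (hkc : (k : Mn) *ᵥ Pi.single c 1 = Pi.single c ν) : HasRoot M := by
  classical
  have hcol : ∀ i, i ≠ c → (k : Mn) i c = 0 := fun i hi => by
    rw [← col_apply (k : Mn) i c, hkc, Pi.single_eq_of_ne hi]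
  let kg : GL {i // i ≠ c} F := ⟨(k : Mn).submatrix Subtype.val Subtype.val,
    ((k⁻¹ : GL ι F) : Mn).submatrix Subtype.val Subtype.val,
    by rw [← submatrix_mul_of_fix hcol, ← Units.val_mul, mul_inv_cancel, Units.val_one,
      Matrix.submatrix_one _ Subtype.val_injective],
    by rw [← submatrix_mul_of_fix (inv_col_zero hcol), ← Units.val_mul, inv_mul_cancel, Units.val_one,
      Matrix.submatrix_one _ Subtype.val_injective]⟩
  have hkg : kg ∈ blockGroup M c := ⟨k, hk, hcol, rfl⟩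
  by_cases hb : IsMon (kg : Matrix {i // i ≠ c} {i // i ≠ c} F)
  · obtain ⟨σ, x, hx, hσ⟩ := hb.exists_perm
    set σ' : Equiv.Perm ι := Equiv.Perm.ofSubtype σ
    have hσ' : ∀ j (hj : j ≠ c), σ' j = σ ⟨j, hj⟩ := fun j hj => Equiv.Perm.ofSubtype_apply_of_mem σ hj
    have hσc : σ' c = c := Equiv.Perm.ofSubtype_apply_of_not_mem σ (by simp)
    have hkj : ∀ j, j ≠ c → ∀ i, i ≠ c → i ≠ σ' j → (k : Mn) i j = 0 := fun j hj i hi hne => by
      have h1 := congrFun (hσ ⟨j, hj⟩) ⟨i, hi⟩
      rw [col_apply, Pi.single_eq_of_ne (fun e => hne (by rw [hσ' j hj, ← e]))] at h1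
      exact h1
    obtain ⟨j, hjc, hφ⟩ : ∃ j, j ≠ c ∧ (k : Mn) c j ≠ 0 := by
      by_contra hcon
      push Not at hcon
      refine hmon fun j => ?_
      by_cases hj : j = c
      · exact ⟨c, fun i hi => by rw [hj]; exact hcol i hi⟩
      · refine ⟨σ' j, fun i hi => ?_⟩
        by_cases hic : i = c
        · rw [hic]; exact hcon j hj
        · exact hkj j hj i hic hi
    obtain ⟨μ, hμ0, hμ2, -⟩ := exists_generic hq
    have hμ1 : μ ≠ 1 := fun e => hμ2 (by rw [e, one_pow])
    obtain ⟨l, -, hl⟩ := Finset.exists_mem_notMem_of_card_lt_card (s := ({c, j} : Finset ι))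
      (t := Finset.univ) (lt_of_le_of_lt Finset.card_le_two (by rw [Finset.card_univ]; omega))
    simp only [Finset.mem_insert, Finset.mem_singleton, not_or] at hl
    set f := pairFun j l μ with hf
    have hfp : ∏ i, f i = 1 := pairFun_prod (Ne.symm hl.2) hμ0
    obtain ⟨d, hd, hdf⟩ := hM.diag f (pairFun_ne hμ0) hfp
    obtain ⟨d', hd', hdf'⟩ := hM.diag (fun i => f (σ'.symm i)) (fun i => pairFun_ne hμ0 _)
      (by rw [Equiv.prod_comp σ'.symm f, hfp])
    have hfc : f c = 1 := pairFun_other (Ne.symm hjc) (Ne.symm hl.1)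
    have hcs : σ'.symm c = c := by rw [Equiv.symm_apply_eq, hσc]
    refine root_of_diff hM hq hn (mul_mem hk hd) (mul_mem hd' hk) (c := c)
      (χ := fun i => if i = c then 0 else (k : Mn) c i * (f i - 1)) (ν := ν) (fun i => ?_) ?_
      (if_pos rfl) (j := j) ?_
    · funext y
      rw [col_apply, Pi.add_apply, col_apply, Pi.smul_apply, Units.val_mul, Units.val_mul, hdf, hdf',
        Matrix.mul_diagonal, Matrix.diagonal_mul, smul_eq_mul]
      by_cases hi : i = c
      · subst hi
        rw [if_pos rfl, hfc]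
        by_cases hy : y = i
        · subst hy; rw [hcs, hfc]; ring
        · rw [hcol y hy]; ring
      rw [if_neg hi]
      by_cases hy : y = c
      · subst hy; rw [hcs, hfc, Pi.single_eq_same]; ring
      rw [Pi.single_eq_of_ne hy]
      by_cases hys : y = σ' i
      · rw [hys, Equiv.symm_apply_apply]; ring
      · rw [hkj i hi y hy hys]; ring
    · rw [Units.val_mul, ← Matrix.mulVec_mulVec, hkc, hdf', Matrix.diagonal_mulVec_single, hcs, hfc, one_mul]
    · rw [if_neg hjc, hf, pairFun_left]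
      exact mul_ne_zero hφ (sub_ne_zero.2 hμ1)
  obtain ⟨x, y, t, hxy, ht, g, ⟨r, hr, hrc, hgr⟩, hgx⟩ := (blockGroup_ctx hM hq hn c).exists_root hkg hb
  have hblock : ∀ i j, i ≠ c → j ≠ c → (r : Mn) i j =
      (if i = j then 1 else 0) + (if i = x ∧ j = y then t else 0) := by
    intro i j hi hj
    have h1 := congrFun (congrFun hgr ⟨i, hi⟩) ⟨j, hj⟩
    rw [Matrix.submatrix_apply, tv_val hgx, Matrix.add_apply, Matrix.vecMulVec_apply, Matrix.one_apply,
      single_val, single_val] at h1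
    rw [← h1]
    simp only [Pi.single_apply, Subtype.ext_iff]
    congr 1
    split_ifs <;> simp_all
  have hxy' : (x : ι) ≠ y := fun e => hxy (Subtype.ext e)
  obtain ⟨l, hl0, hl2, hl3⟩ := exists_generic hq
  have hl1 : l ≠ 1 := fun e => hl2 (by rw [e, one_pow])
  set f : ι → F := fun i => if i = c then (l ^ 2)⁻¹ else if i = x ∨ i = y then l else 1 with hf
  have hfne : ∀ i, f i ≠ 0 := fun i => by
    simp only [hf]; split_ifs
    exacts [inv_ne_zero (pow_ne_zero 2 hl0), hl0, one_ne_zero]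
  have hfp : ∏ i, f i = 1 := by
    rw [← Finset.prod_subset (Finset.subset_univ ({c, (x : ι), (y : ι)} : Finset ι)) (fun i _ hi => by
      simp only [Finset.mem_insert, Finset.mem_singleton, not_or] at hi
      simp [hf, hi.1, hi.2.1, hi.2.2]), Finset.prod_insert (by simp [Ne.symm x.2, Ne.symm y.2]),
      Finset.prod_insert (by simp [hxy']), Finset.prod_singleton]
    simp [hf, x.2, y.2]
    field_simp
  obtain ⟨d, hd, hdf⟩ := hM.diag f hfne hfp
  by_cases hχ : ∃ j, j ≠ c ∧ (r : Mn) c j * (f j - f c) ≠ 0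
  · obtain ⟨j, hjc, hj⟩ := hχ
    refine root_of_diff hM hq hn (mul_mem hr hd) (mul_mem hd hr) (c := c)
      (χ := fun i => if i = c then 0 else (r : Mn) c i * (f i - f c)) (ν := f c * (r : Mn) c c)
      (fun i => ?_) ?_ (if_pos rfl) (j := j) (by rw [if_neg hjc]; exact hj)
    · funext z
      rw [col_apply, Pi.add_apply, col_apply, Pi.smul_apply, Units.val_mul, Units.val_mul, hdf,
        Matrix.mul_diagonal, Matrix.diagonal_mul, smul_eq_mul]
      by_cases hi : i = c
      · subst hi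
        rw [if_pos rfl]
        by_cases hz : z = i
        · subst hz; ring
        · rw [hrc z hz]; ring
      rw [if_neg hi]
      by_cases hz : z = c
      · subst hz; rw [Pi.single_eq_same]; ring
      rw [Pi.single_eq_of_ne hz, hblock z i hz hi]
      by_cases hzi : z = i
      · subst hzi; ring
      rw [if_neg hzi]
      split_ifs with h
      · simp [hf, h.1, h.2, x.2, y.2]; ring
      · ring
    · funext z
      rw [col_apply, Units.val_mul, hdf, Matrix.diagonal_mul]
      by_cases hz : z = c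
      · subst hz; rw [Pi.single_eq_same]
      · rw [Pi.single_eq_of_ne hz, hrc z hz, mul_zero]
  push Not at hχ
  have hφ : ∀ j, j ≠ c → (r : Mn) c j = 0 := fun j hj => (mul_eq_zero.1 (hχ j hj)).resolve_right fun e => by
    simp only [hf, if_neg hj, if_pos] at e
    split_ifs at e <;> field_simp at e
    · exact hl3 (by linear_combination e)
    · exact hl2 (by linear_combination e)
  obtain ⟨o, -, ho⟩ := Finset.exists_mem_notMem_of_card_lt_card (s := ({c, (x : ι), (y : ι)} : Finset ι))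
    (t := Finset.univ) (lt_of_le_of_lt Finset.card_le_three (by rw [Finset.card_univ]; omega))
  simp only [Finset.mem_insert, Finset.mem_singleton, not_or] at ho
  obtain ⟨e, he, hef⟩ := hM.diag (pairFun (x : ι) o l) (pairFun_ne hl0) (pairFun_prod (Ne.symm ho.2.1) hl0)
  refine ⟨x, y, (l - 1) * t, hxy', mul_ne_zero (sub_ne_zero.2 hl1) ht, e * r * e⁻¹ * r⁻¹,
    mul_mem (mul_mem (mul_mem he hr) (inv_mem he)) (inv_mem hr), fun z => ?_⟩
  obtain ⟨w, rfl⟩ : ∃ w, z = (r : Mn) *ᵥ w := ⟨_, (mulVec_inv_cancel r z).symm⟩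
  obtain ⟨u, rfl⟩ : ∃ u, w = (e : Mn) *ᵥ u := ⟨_, (mulVec_inv_cancel e w).symm⟩
  rw [Units.val_mul, Units.val_mul, Units.val_mul, ← Matrix.mulVec_mulVec, inv_mulVec_cancel,
    ← Matrix.mulVec_mulVec, inv_mulVec_cancel, ← Matrix.mulVec_mulVec]
  have hrz : ∀ z : V, ∀ i, ((r : Mn) *ᵥ z) i = (if i = c then (r : Mn) c c * z c else z i) +
      (if i = x then t * z y else 0) := fun z i => by
    show ∑ j, (r : Mn) i j * z j = _
    rw [← Finset.add_sum_erase _ _ (Finset.mem_univ c)]
    by_cases hi : i = c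
    · subst hi
      rw [Finset.sum_eq_zero (fun j hj => by rw [hφ j (Finset.ne_of_mem_erase hj), zero_mul]), if_pos rfl,
        if_neg (Ne.symm x.2)]
    rw [hrc i hi, zero_mul, zero_add, if_neg hi, Finset.sum_congr rfl (fun j hj => by
      rw [hblock i j hi (Finset.ne_of_mem_erase hj), add_mul, ite_mul, ite_mul, one_mul, zero_mul, ite_and]),
      Finset.sum_add_distrib]
    congr 1
    · simp [hi]
    · split_ifs with h
      · simp [y.2]
      · simp
  funext i
  simp only [hef, Matrix.mulVec_diagonal, Pi.add_apply, Pi.smul_apply, single_dotProduct, one_mul, smul_eq_mul,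
    hrz, Pi.single_apply, if_neg (Ne.symm hxy'), if_neg y.2]
  by_cases hix : i = x
  · simp [hix, x.2, pairFun_left, pairFun_other (Ne.symm hxy') (Ne.symm ho.2.2)]; ring
  by_cases hic : i = c
  · simp [hic, Ne.symm x.2, pairFun_other (Ne.symm x.2) (Ne.symm ho.1)]
  simp [hix, hic]

/-- Monomial elements with one non-monomial element generate `SL`. -/
theorem specialLinear_le_of_fix (hM : MonLe M) (hq : 5 ≤ Fintype.card F) (hn : 4 ≤ Fintype.card ι)
    {k : GL ι F} (hk : k ∈ M) (hkm : ¬ IsMon (k : Mn)) {c : ι} {ν : F}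
    (hkc : (k : Mn) *ᵥ Pi.single c 1 = Pi.single c ν) : Geo.specialLinear ι F ≤ M := by
  classical
  obtain ⟨x, y, t, hxy, ht, hroot⟩ := root_of_fix hM hq hn hk hkm hkc
  have hscale : ∀ s : F, InT M (Pi.single x s) (Pi.single y 1) := fun s => by
    by_cases hs : s = 0
    · rw [hs, Pi.single_zero]; exact InT.zero_left _
    obtain ⟨o, -, ho⟩ := Finset.exists_mem_notMem_of_card_lt_card (s := ({x, y} : Finset ι))
      (t := Finset.univ) (lt_of_le_of_lt Finset.card_le_two (by rw [Finset.card_univ]; omega))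
    simp only [Finset.mem_insert, Finset.mem_singleton, not_or] at ho
    have hμ : s / t ≠ 0 := div_ne_zero hs ht
    obtain ⟨d, hd, hdf⟩ := hM.diag (pairFun x o (s / t)) (pairFun_ne hμ) (pairFun_prod (Ne.symm ho.1) hμ)
    have h1 := torus_conj hroot (pairFun_ne hμ) hd hdf
    convert h1 using 1 <;> funext i
    · by_cases hi : i = x
      · subst hi; simp [pairFun_left, div_mul_cancel₀ _ ht]
      · simp [Pi.single_eq_of_ne hi]
    · by_cases hi : i = y
      · subst hi; simp [pairFun_other (Ne.symm hxy) (Ne.symm ho.2)]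
      · simp [Pi.single_eq_of_ne hi]
  have hall : ∀ i j (s : F), i ≠ j → InT M (Pi.single i s) (Pi.single j 1) := by
    intro i j s hij
    obtain ⟨σ, hσx, hσy⟩ : ∃ σ : Equiv.Perm ι, σ x = i ∧ σ y = j := by
      refine ⟨(Equiv.swap x i).trans (Equiv.swap (Equiv.swap x i y) j), ?_, by simp⟩
      rw [Equiv.trans_apply, Equiv.swap_apply_left, Equiv.swap_apply_of_ne_of_ne ?_ hij]
      intro e
      exact hxy ((Equiv.swap x i).injective (by rw [Equiv.swap_apply_left]; exact e))
    set ε : F := ((Equiv.Perm.sign σ : ℤ) : F) with hε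
    have hε2 : ε * ε = 1 := by rcases Int.units_eq_one_or (Equiv.Perm.sign σ) with h | h <;> simp [hε, h]
    have hε0 : ε ≠ 0 := left_ne_zero_of_mul_eq_one hε2
    obtain ⟨m, hm, hmm, hmd⟩ := exists_mon σ (Function.update (1 : ι → F) x ε) (fun l => by
      by_cases hl : l = x
      · subst hl; simpa using hε0
      · simp [hl])
    have hmM : m ∈ M := hM m hmm (by
      rw [hmd, Finset.prod_update_of_mem (Finset.mem_univ x)]; simpa [← hε] using hε2)
    have h1 := (hscale (s * ε)).conj hmM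
    convert h1 using 1
    · rw [show (Pi.single x (s * ε) : V) = (s * ε) • Pi.single x 1 by
        rw [← Pi.single_smul, smul_eq_mul, mul_one], Matrix.mulVec_smul, hm, Function.update_self, hσx,
        ← Pi.single_smul, smul_eq_mul, mul_assoc, hε2, mul_one]
    · refine dotProduct_eq _ _ fun z => ?_
      obtain ⟨w, rfl⟩ : ∃ w, z = (m : Mn) *ᵥ w := ⟨_, (mulVec_inv_cancel m z).symm⟩
      rw [vecMul_inv_dot, single_dotProduct, single_dotProduct, ← hσy, mon_apply hm w y,
        Function.update_of_ne (Ne.symm hxy)]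
      simp
  have hone : ∀ j (w : V), w j = 0 → InT M w (Pi.single j 1) := fun j w hw => by
    rw [← Finset.univ_sum_single w]
    refine InT.sum_left _ _ (fun i _ => ?_) fun i _ => ?_
    · by_cases hij : i = j
      · rw [hij, hw, Pi.single_zero]; exact InT.zero_left _
      · exact hall i j _ hij
    · by_cases hij : i = j
      · rw [hij, hw, Pi.single_zero, dotProduct_zero]
      · simp [Pi.single_eq_of_ne hij, Pi.single_eq_of_ne (Ne.symm hij)]
  refine specialLinear_le fun v φ hφ => ?_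
  rcases eq_or_ne v 0 with rfl | hv
  · exact InT.zero_left _
  obtain ⟨j, hj⟩ : ∃ j, v j ≠ 0 := by
    by_contra hc; push Not at hc; exact hv (funext hc)
  obtain ⟨T, hT, hTx⟩ : InT M ((Pi.single j (v j) : V) - v) (Pi.single j (v j)⁻¹) := by
    have := InT.scale_right (c := (v j)⁻¹) (φ := Pi.single j (1 : F)) (v := (Pi.single j (v j) : V) - v)
      (M := M) (hone j _ (by simp))
    rwa [← Pi.single_smul, smul_eq_mul, mul_one] at this
  have hTv : (T : Mn) *ᵥ v = Pi.single j (v j) := by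
    rw [hTx, single_dotProduct, inv_mul_cancel₀ hj, one_smul, add_sub_cancel]
  set φ' := φ ᵥ* ((T⁻¹ : GL ι F) : Mn)
  have hφ' : φ' j = 0 := by
    have h1 : φ' ⬝ᵥ Pi.single j (v j) = 0 := by rw [← hTv, vecMul_inv_dot]; exact hφ
    rw [dotProduct_single] at h1
    exact (mul_eq_zero.1 h1).resolve_right hj
  have hmain : InT M (Pi.single j (v j)) φ' := by
    rw [← Finset.univ_sum_single φ']
    refine InT.sum_right _ _ (fun i _ => ?_) fun i _ => ?_
    · by_cases hij : i = j
      · rw [hij, hφ', Pi.single_zero]; exact InT.zero_right _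
      · have := InT.scale_right (c := φ' i) (v := (Pi.single j (v j) : V)) (φ := Pi.single i (1 : F)) (M := M)
          (by rw [← Pi.single_smul, smul_eq_mul]; exact hall j i _ (Ne.symm hij))
        rwa [← Pi.single_smul, smul_eq_mul, mul_one] at this
    · by_cases hij : i = j
      · rw [hij, hφ', Pi.single_zero, zero_dotProduct]
      · simp [Pi.single_eq_of_ne hij, Pi.single_eq_of_ne (Ne.symm hij)]
  have := hmain.conj (inv_mem hT)
  rwa [← hTv, inv_mulVec_cancel, inv_inv, Matrix.vecMul_vecMul, ← Units.val_mul, inv_mul_cancel, Units.val_one,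
    Matrix.vecMul_one] at this

/-- In dimension at least ten the monomial group and one further element generate `SL`. -/
theorem specialLinear_le_of_monLe (hM : MonLe M) (hq : 5 ≤ Fintype.card F) (hn : 10 ≤ Fintype.card ι)
    {g : GL ι F} (hg : g ∈ M) (hmon : ¬ IsMon (g : Mn)) : Geo.specialLinear ι F ≤ M := by
  obtain ⟨k, hk, hkm, c, ν, hkc⟩ := exists_fix hM hq hn hg hmon
  exact specialLinear_le_of_fix hM hq (by omega) hk hkm hkc

end Cfsg.Agent.Classical.MaxMon
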