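import Cfsg.Agent.Lib.Classical.AschSLProper
import Cfsg.Agent.Lib.Classical.MaxMonomial

/-!
Stabilisers of decompositions into lines over small fields lie in other subgroups of the special linear group.
-/

set_option autoImplicit false
set_option linter.unusedSectionVars false
set_option linter.unusedFintypeInType false
set_option linter.unusedDecidableInType false

namespace Cfsg.Agent.Classical.Asch

open Matrix Module Cfsg.Geo

variable {F : Type*} [Field F] {ι : Type} [Fintype ι] [DecidableEq ι]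

/-- The monomial matrix of a permutation and a family of scalars. -/
def mono {R : Type*} [CommRing R] (σ : Equiv.Perm ι) (c : ι → R) : Matrix ι ι R :=
  Matrix.of fun a i => if a = σ i then c i else 0

theorem mono_apply {R : Type*} [CommRing R] (σ : Equiv.Perm ι) (c : ι → R) (a i : ι) :
    mono σ c a i = if a = σ i then c i else 0 := rfl

theorem mono_mul {R : Type*} [CommRing R] (σ τ : Equiv.Perm ι) (c d : ι → R) :
    mono σ c * mono τ d = mono (σ * τ) (fun i => c (τ i) * d i) := by
  ext a i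
  rw [Matrix.mul_apply, Finset.sum_eq_single (τ i) (fun b _ hb => by simp [mono_apply, hb]) (by simp)]
  by_cases h : a = σ (τ i) <;> simp [mono_apply, h]

theorem mono_one {R : Type*} [CommRing R] (c : ι → R) : mono (1 : Equiv.Perm ι) c = Matrix.diagonal c := by
  ext a i
  by_cases h : a = i
  · subst h; simp [mono_apply]
  · simp [mono_apply, h]

theorem mono_map {R S : Type*} [CommRing R] [CommRing S] (f : R →+* S) (σ : Equiv.Perm ι) (c : ι → R) :
    (mono σ c).map f = mono σ (f ∘ c) := by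
  ext a i
  by_cases h : a = σ i <;> simp [mono_apply, h]

theorem mono_det {R : Type*} [CommRing R] (σ : Equiv.Perm ι) (c : ι → R) :
    (mono σ c).det = (Equiv.Perm.sign σ : ℤ) * ∏ i, c i := by
  have h : mono σ c = mono σ (fun _ => (1 : R)) * Matrix.diagonal c := by
    rw [← mono_one, mono_mul]
    simp
  have h' : mono σ (fun _ => (1 : R)) = Equiv.Perm.permMatrix R σ.symm := by
    ext a i
    by_cases h : a = σ i
    · subst h; simp [mono_apply, Equiv.Perm.permMatrix, PEquiv.toMatrix_apply]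
    · have h2 : σ.symm a ≠ i := fun e => h (by rw [← e, Equiv.apply_symm_apply])
      simp [mono_apply, h, h2, Equiv.Perm.permMatrix, PEquiv.toMatrix_apply]
  rw [h, Matrix.det_mul, Matrix.det_diagonal, h', Matrix.det_permutation, Equiv.Perm.sign_symm]

theorem mono_isMon (σ : Equiv.Perm ι) (c : ι → F) : MaxMon.IsMon (mono σ c) := fun j =>
  ⟨σ j, fun i' hi => by simp [mono_apply, hi]⟩

theorem det_conj_eq (P g : GL ι F) : ((P⁻¹ * g * P : GL ι F) : Matrix ι ι F).det = (g : Matrix ι ι F).det := by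
  rw [Units.val_mul, Units.val_mul, Matrix.det_units_conj']

/-- Coordinates in which a stabiliser of lines is monomial. -/
theorem exists_lines_coords {n : ℕ} {D : Fin n → Submodule F (Fin n → F)} (hD : IsMDecomposition 1 D) :
    ∃ P : GL (Fin n) F, ∀ g ∈ decompositionStabilizer D,
      ∃ (σ : Equiv.Perm (Fin n)) (c : Fin n → F), (∀ i, c i ≠ 0) ∧
        ((P⁻¹ * g * P : GL (Fin n) F) : Matrix (Fin n) (Fin n) F) = mono σ c := by
  classical
  have hne : ∀ i, D i ≠ ⊥ := fun i e => by
    have := hD.finrank_eq i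
    rw [e, finrank_bot] at this; omega
  choose w hw hw0 using fun i => Submodule.exists_mem_ne_zero_of_ne_bot (hne i)
  have hspan : ∀ i, ∀ v ∈ D i, ∃ a : F, v = a • w i := fun i v hv => by
    obtain ⟨a, ha⟩ := (finrank_eq_one_iff_of_nonzero' (⟨w i, hw i⟩ : D i)
      (fun e => hw0 i (congrArg Subtype.val e))).1 (hD.finrank_eq i) ⟨v, hv⟩
    exact ⟨a, (congrArg Subtype.val ha).symm⟩
  have hli : LinearIndependent F w := hD.indep.linearIndependent D hw hw0
  obtain ⟨P, hP⟩ : IsUnit (Matrix.of fun r i => w i r : Matrix (Fin n) (Fin n) F) :=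
    Matrix.linearIndependent_cols_iff_isUnit.1 hli
  refine ⟨P, fun g hg => ?_⟩
  obtain ⟨σ, hσ⟩ := hg
  have hc : ∀ i, ∃ a : F, (g : Matrix (Fin n) (Fin n) F) *ᵥ w i = a • w (σ i) := fun i => by
    refine hspan _ _ ?_
    rw [← hσ i]
    exact ⟨w i, hw i, Matrix.toLin'_apply _ _⟩
  choose c hc using hc
  refine ⟨σ, c, fun i h0 => ?_, ?_⟩
  · have h1 := hc i
    rw [h0, zero_smul] at h1
    apply hw0 i
    rw [← Matrix.one_mulVec (w i), ← Units.inv_mul g, ← Matrix.mulVec_mulVec, h1, Matrix.mulVec_zero]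
  · have h1 : (g : Matrix (Fin n) (Fin n) F) * (P : Matrix (Fin n) (Fin n) F) =
        (P : Matrix (Fin n) (Fin n) F) * mono σ c := by
      ext r i
      have h2 := congrFun (hc i) r
      rw [hP, Matrix.mul_apply, Matrix.mul_apply]
      conv_rhs => rw [Finset.sum_eq_single (σ i) (fun b _ hb => by simp [mono_apply, hb]) (by simp)]
      simp only [Matrix.mulVec, dotProduct, Pi.smul_apply, smul_eq_mul] at h2
      simp only [Matrix.of_apply, mono_apply, if_true, h2]
      ring
    rw [Units.val_mul, Units.val_mul, mul_assoc, h1, ← mul_assoc, Units.inv_mul, one_mul]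

theorem lines_fixed_vector {n : ℕ} (hn : 2 ≤ n) [Fintype F] (hq : Fintype.card F = 2)
    {D : Fin n → Submodule F (Fin n → F)} (hD : IsMDecomposition 1 D) :
    ∃ W : Submodule F (Fin n → F), W ≠ ⊥ ∧ W ≠ ⊤ ∧
      decompositionStabilizer D ≤ subspaceStabilizer W := by
  obtain ⟨P, hP⟩ := exists_lines_coords hD
  have h1 : ∀ x : F, x ≠ 0 → x = 1 := fun x hx => by
    have := FiniteField.pow_card_sub_one_eq_one x hx
    rwa [hq, pow_one] at this
  set u : Fin n → F := (P : Matrix (Fin n) (Fin n) F) *ᵥ fun _ => 1 with hu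
  have hu0 : u ≠ 0 := fun h => by
    have := congrArg (((P⁻¹ : GL (Fin n) F) : Matrix (Fin n) (Fin n) F) *ᵥ ·) h
    simp only [hu, Matrix.mulVec_mulVec, Units.inv_mul, Matrix.one_mulVec, Matrix.mulVec_zero] at this
    exact one_ne_zero (congrFun this ⟨0, by omega⟩)
  have hfix : ∀ g ∈ decompositionStabilizer D, (g : Matrix (Fin n) (Fin n) F) *ᵥ u = u := by
    intro g hg
    obtain ⟨σ, c, hc0, hc⟩ := hP g hg
    have h2 : ((P⁻¹ * g * P : GL (Fin n) F) : Matrix (Fin n) (Fin n) F) *ᵥ (fun _ => 1) = fun _ => 1 := by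
      rw [hc]
      funext a
      rw [Matrix.mulVec, dotProduct, Finset.sum_eq_single (σ.symm a) (fun b _ hb => by
        simp [mono_apply, show ¬ a = σ b from fun e => hb (by rw [e, Equiv.symm_apply_apply])]) (by simp)]
      simp [mono_apply, h1 _ (hc0 _)]
    calc (g : Matrix (Fin n) (Fin n) F) *ᵥ u
        = (P : Matrix (Fin n) (Fin n) F) *ᵥ (((P⁻¹ * g * P : GL (Fin n) F) : Matrix (Fin n) (Fin n) F) *ᵥ fun _ => 1) := by
          rw [hu, Matrix.mulVec_mulVec, Matrix.mulVec_mulVec, ← Units.val_mul, ← Units.val_mul]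
          congr 2
          group
      _ = u := by rw [h2]
  refine ⟨Submodule.span F {u}, by simpa using hu0, fun h => ?_, fun g hg v => ?_⟩
  · have := congrArg (fun W : Submodule F (Fin n → F) => finrank F W) h
    simp only [finrank_top, Module.finrank_fintype_fun_eq_card, Fintype.card_fin] at this
    rw [finrank_span_singleton hu0] at this
    omega
  · simp only [SetLike.mem_coe, Submodule.mem_span_singleton]
    constructor
    · rintro ⟨a, rfl⟩
      refine ⟨a, ?_⟩
      show a • u = (g : Matrix (Fin n) (Fin n) F) *ᵥ (a • u)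
      rw [Matrix.mulVec_smul, hfix g hg]
    · rintro ⟨a, ha⟩
      refine ⟨a, ?_⟩
      have h3 := congrArg (((g⁻¹ : GL (Fin n) F) : Matrix (Fin n) (Fin n) F) *ᵥ ·) ha
      have h4 : ((glToMat (Fin n) F) g : Matrix (Fin n) (Fin n) F) = (g : Matrix (Fin n) (Fin n) F) := rfl
      simp only [h4, Matrix.mulVec_mulVec, Units.inv_mul, Matrix.one_mulVec, Matrix.mulVec_smul] at h3
      rw [hfix _ (inv_mem hg)] at h3
      exact h3

/-- A similarity in new coordinates is a similarity. -/
theorem similarity_of_coords {σ : F ≃+* F} {P g : GL ι F} {G : Matrix ι ι F} {μ : F} (hμ : μ ≠ 0)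
    (h : ((P⁻¹ * g * P : GL ι F) : Matrix ι ι F)ᵀ * (G * ((P⁻¹ * g * P : GL ι F) : Matrix ι ι F).map σ) = μ • G) :
    g ∈ similarityGroup (formOfGram σ (((P⁻¹ : GL ι F) : Matrix ι ι F)ᵀ *
      (G * ((P⁻¹ : GL ι F) : Matrix ι ι F).map σ))) := by
  refine ⟨Units.mk0 μ hμ, fun u v => ?_⟩
  have h1 : ((P⁻¹ : GL ι F) : Matrix ι ι F) * (g : Matrix ι ι F) =
      ((P⁻¹ * g * P : GL ι F) : Matrix ι ι F) * ((P⁻¹ : GL ι F) : Matrix ι ι F) := by
    rw [← Units.val_mul, ← Units.val_mul]
    congr 1
    group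
  rw [← formOfGram_mulVec, ← formOfGram_mulVec, Matrix.mulVec_mulVec, Matrix.mulVec_mulVec, h1,
    ← Matrix.mulVec_mulVec, ← Matrix.mulVec_mulVec, formOfGram_mulVec σ G, h, formOfGram_smul]
  rfl

theorem isUnit_coords {σ : F ≃+* F} (P : GL ι F) {G : Matrix ι ι F} (hG : IsUnit G) :
    IsUnit ((P : Matrix ι ι F)ᵀ * (G * (P : Matrix ι ι F).map σ)) :=
  (Matrix.isUnit_transpose _ |>.2 P.isUnit).mul (hG.mul (P.isUnit.map σ.toRingHom.mapMatrix))

theorem mono_gram (σ' : F ≃+* F) (σ : Equiv.Perm ι) (c : ι → F) (h : ∀ i, c i * σ' (c i) = 1) :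
    (mono σ c)ᵀ * ((1 : Matrix ι ι F) * (mono σ c).map σ') = (1 : F) • (1 : Matrix ι ι F) := by
  rw [one_mul, one_smul]
  ext i j
  rw [Matrix.mul_apply, Finset.sum_eq_single (σ i) (fun b _ hb => by simp [mono_apply, hb]) (by simp)]
  by_cases hij : i = j
  · subst hij; simp [mono_apply, h i]
  · simp [mono_apply, hij]

theorem lines_quadratic {n : ℕ} [Fintype F] (hq : Fintype.card F = 3)
    {D : Fin n → Submodule F (Fin n → F)} (hD : IsMDecomposition 1 D) :
    ∃ Q : (Fin n → F) → F, IsNondegenerateQuadraticForm Q ∧ (2 : F) ≠ 0 ∧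
      decompositionStabilizer D ≤ quadSimilarityGroup Q := by
  obtain ⟨P, hP⟩ := exists_lines_coords hD
  have h2 : (2 : F) ≠ 0 := fun h => by
    have h3 := Nat.cast_card_eq_zero F
    rw [hq] at h3
    exact one_ne_zero (α := F) (by linear_combination (h3 : ((3 : ℕ) : F) = 0) - h)
  have hmap : ∀ M : Matrix (Fin n) (Fin n) F, M.map (RingEquiv.refl F) = M := fun M => by ext; simp
  have hU := isUnit_coords (σ := RingEquiv.refl F) P⁻¹ (G := (1 : Matrix (Fin n) (Fin n) F)) isUnit_one
  refine ⟨_, quadratic_of_gram h2 hU (by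
    simp only [Matrix.transpose_mul, Matrix.transpose_transpose, one_mul, hmap]), h2, fun g hg => ?_⟩
  obtain ⟨σ, c, hc0, hc⟩ := hP g hg
  obtain ⟨d, hd⟩ := similarity_of_coords (σ := RingEquiv.refl F) (P := P) (g := g)
    (G := (1 : Matrix (Fin n) (Fin n) F)) one_ne_zero
    (by
      rw [hc]
      refine mono_gram _ _ _ fun i => ?_
      have := FiniteField.pow_card_sub_one_eq_one (c i) (hc0 i)
      rw [hq] at this
      simpa [sq] using this)
  exact ⟨d, fun v => hd v v⟩

theorem lines_unitary {n : ℕ} [Fintype F] (hq : Fintype.card F = 4)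
    {D : Fin n → Submodule F (Fin n → F)} (hD : IsMDecomposition 1 D) :
    ∃ (σ : F ≃+* F) (f : (Fin n → F) → (Fin n → F) → F), IsUnitaryForm σ f ∧
      decompositionStabilizer D ≤ similarityGroup f := by
  classical
  obtain ⟨P, hP⟩ := exists_lines_coords hD
  have h2 : (2 : F) = 0 := by
    have h := Nat.cast_card_eq_zero F
    rw [hq] at h
    push_cast at h
    exact pow_eq_zero_iff two_ne_zero |>.1 (by linear_combination h)
  have h4 : ∀ x : F, (x ^ 2) ^ 2 = x := fun x => by
    rw [← pow_mul]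
    simpa [hq] using FiniteField.pow_card x
  let s : F ≃+* F :=
    { toFun := fun x => x ^ 2
      invFun := fun x => x ^ 2
      left_inv := h4
      right_inv := h4
      map_mul' := fun x y => mul_pow x y 2
      map_add' := fun x y => by linear_combination (x * y) * h2 }
  have hs : s ≠ RingEquiv.refl F := fun h => by
    obtain ⟨x, hx0, hx1⟩ : ∃ x : F, x ≠ 0 ∧ x ≠ 1 := by
      by_contra hno
      push Not at hno
      have : Fintype.card F ≤ 2 := by
        rw [← Finset.card_univ]
        refine le_trans (Finset.card_le_card (fun x _ => ?_)) (Finset.card_le_two (a := (0 : F)) (b := 1))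
        by_cases hx : x = 0
        · simp [hx]
        · simp [hno x hx]
      omega
    have h5 : x ^ 2 = x := RingEquiv.congr_fun h x
    exact hx1 (mul_left_cancel₀ hx0 (by rw [mul_one, ← sq, h5]))
  have hU := isUnit_coords (σ := s) P⁻¹ (G := (1 : Matrix (Fin n) (Fin n) F)) isUnit_one
  refine ⟨s, _, unitary_of_gram hs h4 hU ?_, fun g hg => ?_⟩
  · have hss : ∀ M : Matrix (Fin n) (Fin n) F, (M.map s).map s = M := fun M => by
      ext i j; exact h4 _
    rw [one_mul, Matrix.transpose_mul, Matrix.map_mul, Matrix.transpose_map, hss, Matrix.transpose_transpose]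
  · obtain ⟨σ, c, hc0, hc⟩ := hP g hg
    refine similarity_of_coords one_ne_zero ?_
    rw [hc]
    refine mono_gram _ _ _ fun i => ?_
    have := FiniteField.pow_card_sub_one_eq_one (c i) (hc0 i)
    rw [hq] at this
    show c i * (c i) ^ 2 = 1
    rw [← pow_succ']
    exact this

/-- The fixed-point-free involutions and the identity on four points. -/
def klein : Fin 4 → Equiv.Perm (Fin 4) :=
  ![1, Equiv.swap 0 1 * Equiv.swap 2 3, Equiv.swap 0 2 * Equiv.swap 1 3, Equiv.swap 0 3 * Equiv.swap 1 2]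

/-- The characters of the group of four elements. -/
def kleinChar : Fin 4 → Fin 4 → ZMod 5 :=
  ![![1, 1, 1, 1], ![1, -1, 1, -1], ![1, 1, -1, -1], ![1, -1, -1, 1]]

/-- The character table as a matrix of determinant one. -/
def hadamard : GL (Fin 4) (ZMod 5) :=
  ⟨Matrix.of kleinChar, -Matrix.of kleinChar, by decide, by decide⟩

theorem klein_conj : ∀ (σ : Equiv.Perm (Fin 4)) (k : Fin 4), ∃ l, σ * klein k * σ⁻¹ = klein l := by decide

theorem hadamard_perm : ∀ k, (hadamard : Matrix (Fin 4) (Fin 4) (ZMod 5)) * mono (klein k) (fun _ => 1) *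
    ((hadamard⁻¹ : GL (Fin 4) (ZMod 5)) : Matrix (Fin 4) (Fin 4) (ZMod 5)) = mono 1 (kleinChar k) := by decide

theorem hadamard_diag : ∀ k, (hadamard : Matrix (Fin 4) (Fin 4) (ZMod 5)) * mono 1 (kleinChar k) *
    ((hadamard⁻¹ : GL (Fin 4) (ZMod 5)) : Matrix (Fin 4) (Fin 4) (ZMod 5)) = mono (klein k) (fun _ => 1) := by decide

theorem kleinChar_ne : ∀ l i, kleinChar l i ≠ 0 := by decide

theorem kleinChar_sq : ∀ l i, kleinChar l i ^ 2 = 1 := by decide

theorem kleinChar_prod : ∀ l, ∏ i, kleinChar l i = 1 := by decide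

theorem hadamard_det : (hadamard : Matrix (Fin 4) (Fin 4) (ZMod 5)).det = 1 := by decide

/-- The generating set of the group normalised by the stabiliser of four lines over five elements. -/
def kleinSet (F : Type*) [Field F] : Set (GL (Fin 4) F) :=
  {x | ∃ (k : Fin 4) (c : Fin 4 → F), (∀ i j, c i ^ 2 = c j ^ 2) ∧ ∏ i, c i = 1 ∧
    (x : Matrix (Fin 4) (Fin 4) F) = mono (klein k) c}

theorem mem_normalizer_of_image_le [Finite F] {X : Set (GL ι F)} {g : GL ι F}
    (h : ∀ x ∈ X, g * x * g⁻¹ ∈ Subgroup.closure X) : g ∈ Subgroup.normalizer (Subgroup.closure X : Set (GL ι F)) := by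
  set R := Subgroup.closure X
  have hle : R ≤ R.comap (MulAut.conj g).toMonoidHom := (Subgroup.closure_le _).2 h
  rw [Subgroup.mem_normalizer_iff]
  intro y
  refine ⟨fun hy => hle hy, fun hy => ?_⟩
  let φ : R → R := fun r => ⟨g * r * g⁻¹, hle r.2⟩
  have hinj : Function.Injective φ := fun a b hab =>
    Subtype.ext (mul_left_cancel (mul_right_cancel (congrArg Subtype.val hab)))
  obtain ⟨r, hr⟩ := Finite.injective_iff_surjective.1 hinj ⟨_, hy⟩
  have : (r : GL ι F) = y := mul_left_cancel (mul_right_cancel (congrArg Subtype.val hr))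
  exact this ▸ r.2

theorem kleinSet_isMon [Finite F] {x : GL (Fin 4) F} (hx : x ∈ Subgroup.closure (kleinSet F)) :
    MaxMon.IsMon (x : Matrix (Fin 4) (Fin 4) F) := by
  induction hx using Subgroup.closure_induction with
  | mem x hx =>
    obtain ⟨k, c, -, -, hc⟩ := hx
    rw [hc]
    exact mono_isMon _ _
  | one => rw [Units.val_one, ← Matrix.diagonal_one]; exact MaxMon.isMon_diagonal _
  | mul a b _ _ ha hb => rw [Units.val_mul]; exact MaxMon.IsMon.mul ha hb
  | inv a _ ha => exact MaxMon.IsMon.inv ha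

theorem kleinSet_conj_monomial [Fintype F] (hq : Fintype.card F = 5) {g : GL (Fin 4) F} {σ : Equiv.Perm (Fin 4)}
    {d : Fin 4 → F} (hd : ∀ i, d i ≠ 0) (hg : (g : Matrix (Fin 4) (Fin 4) F) = mono σ d)
    (hdet : (∏ i, d i) ^ 2 = 1) : ∀ x ∈ kleinSet F, g * x * g⁻¹ ∈ kleinSet F := by
  rintro x ⟨k, c, hsq, hprod, hx⟩
  obtain ⟨l, hl⟩ := klein_conj σ k
  let c' : Fin 4 → F := fun j => d (klein k (σ.symm j)) * c (σ.symm j) / d (σ.symm j)
  have hp4 : ∀ i, (d i ^ 2) ^ 2 = 1 := fun i => by
    rw [← pow_mul]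
    simpa [hq] using FiniteField.pow_card_sub_one_eq_one (d i) (hd i)
  have hall : d 0 ^ 2 * d 1 ^ 2 * d 2 ^ 2 * d 3 ^ 2 = 1 := by
    rw [Fin.prod_univ_four] at hdet
    linear_combination hdet
  have hinv : ∀ i, (d i ^ 2)⁻¹ = d i ^ 2 := fun i => inv_eq_of_mul_eq_one_right (by rw [← sq]; exact hp4 i)
  have hratio : ∀ i j, (d (klein k i) / d i) ^ 2 = (d (klein k j) / d j) ^ 2 := by
    have hbase : ∀ i, d (klein k i) ^ 2 * d i ^ 2 = d (klein k 0) ^ 2 * d 0 ^ 2 := by
      intro i
      have e0 := hp4 0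
      have e1 := hp4 1
      have e2 := hp4 2
      have e3 := hp4 3
      fin_cases k <;> fin_cases i <;> simp [klein, Equiv.swap_apply_def] <;> first
        | ring1
        | linear_combination e1 - e0
        | linear_combination e2 - e0
        | linear_combination e3 - e0
        | linear_combination (d 0 ^ 2 * d 1 ^ 2) * hall - (d 2 ^ 2 * d 3 ^ 2) * (d 1 ^ 2) ^ 2 * e0 - (d 2 ^ 2 * d 3 ^ 2) * e1
        | linear_combination (d 0 ^ 2 * d 2 ^ 2) * hall - (d 1 ^ 2 * d 3 ^ 2) * (d 2 ^ 2) ^ 2 * e0 - (d 1 ^ 2 * d 3 ^ 2) * e2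
        | linear_combination (d 0 ^ 2 * d 3 ^ 2) * hall - (d 1 ^ 2 * d 2 ^ 2) * (d 3 ^ 2) ^ 2 * e0 - (d 1 ^ 2 * d 2 ^ 2) * e3
    intro i j
    rw [div_pow, div_pow, div_eq_mul_inv, div_eq_mul_inv, hinv, hinv, hbase i, hbase j]
  refine ⟨l, c', fun i j => ?_, ?_, ?_⟩
  · simp only [c', mul_div_right_comm, mul_pow]
    rw [hratio (σ.symm i) (σ.symm j), hsq (σ.symm i) (σ.symm j)]
  · show ∏ j, c' j = 1
    rw [show c' = (fun i => d (klein k i) * c i / d i) ∘ σ.symm from rfl]
    simp only [Function.comp_def]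
    rw [Equiv.prod_comp σ.symm (fun i => d (klein k i) * c i / d i), Finset.prod_div_distrib,
      Finset.prod_mul_distrib, Equiv.prod_comp (klein k) d, hprod, mul_one,
      div_self (Finset.prod_ne_zero_iff.2 fun i _ => hd i)]
  · have h1 : (g : Matrix (Fin 4) (Fin 4) F) * (x : Matrix (Fin 4) (Fin 4) F) =
        mono (klein l) c' * (g : Matrix (Fin 4) (Fin 4) F) := by
      rw [hg, hx, mono_mul, mono_mul, ← hl, show σ * klein k * σ⁻¹ * σ = σ * klein k by group]
      congr 1
      funext i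
      simp only [c', Equiv.symm_apply_apply]
      field_simp [hd i]
    rw [Units.val_mul, Units.val_mul, h1, mul_assoc, Units.mul_inv, mul_one]

/-- The stabiliser of four lines over five elements is not maximal in the special linear group. -/
theorem lines_not_maximal [Fintype F] (hq : Fintype.card F = 5) {H : Subgroup (GL (Fin 4) F)}
    (hH : IsMaximalIn (specialLinear (Fin 4) F) H) {D : Fin 4 → Submodule F (Fin 4 → F)}
    (hD : IsMDecomposition 1 D) : H ≠ decompositionStabilizer D ⊓ specialLinear (Fin 4) F := by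
  classical
  intro hHD
  haveI : Fact (Nat.Prime 5) := ⟨by norm_num⟩
  haveI : CharP F 5 := charP_of_card_eq_prime hq
  obtain ⟨P, hP⟩ := exists_lines_coords hD
  let f : ZMod 5 →+* F := ZMod.castHom dvd_rfl F
  let W : GL (Fin 4) F := Matrix.GeneralLinearGroup.map f hadamard
  have hWval : (W : Matrix (Fin 4) (Fin 4) F) = (hadamard : Matrix (Fin 4) (Fin 4) (ZMod 5)).map f := rfl
  have hWinv : ((W⁻¹ : GL (Fin 4) F) : Matrix (Fin 4) (Fin 4) F) =
      ((hadamard⁻¹ : GL (Fin 4) (ZMod 5)) : Matrix (Fin 4) (Fin 4) (ZMod 5)).map f := rfl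
  set R : Subgroup (GL (Fin 4) F) := Subgroup.closure (kleinSet F) with hR
  let K : Subgroup (GL (Fin 4) F) := Subgroup.normalizer (R : Set (GL (Fin 4) F))
  let M : Subgroup (GL (Fin 4) F) := K.map (MulAut.conj P).toMonoidHom ⊓ specialLinear (Fin 4) F
  have hsgn : ∀ σ : Equiv.Perm (Fin 4), ((Equiv.Perm.sign σ : ℤ) : F) ^ 2 = 1 := fun σ => by
    rcases Int.units_eq_one_or (Equiv.Perm.sign σ) with h | h <;> simp [h]
  have hHM : H ≤ M := by
    intro g hg
    rw [hHD] at hg
    refine ⟨⟨P⁻¹ * g * P, ?_, by simp [mul_assoc]⟩, hg.2⟩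
    obtain ⟨σ, d, hd, hval⟩ := hP g hg.1
    have hdet : (∏ i, d i) ^ 2 = 1 := by
      have h1 : (mono σ d).det = 1 := by
        rw [← hval, det_conj_eq]
        exact congrArg Units.val (MonoidHom.mem_ker.1 hg.2)
      rw [mono_det] at h1
      calc (∏ i, d i) ^ 2 = (((Equiv.Perm.sign σ : ℤ) : F) * ∏ i, d i) ^ 2 := by rw [mul_pow, hsgn, one_mul]
        _ = 1 := by rw [h1, one_pow]
    exact mem_normalizer_of_image_le fun x hx =>
      Subgroup.subset_closure (kleinSet_conj_monomial hq hd hval hdet x hx)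
  have hWK : W ∈ K := by
    refine mem_normalizer_of_image_le ?_
    rintro x ⟨k, c, hsq, hprod, hx⟩
    -- split off a scalar and a character
    let d : Fin 4 → F := fun i => c ((klein k).symm i)
    have hd0 : ∀ i, d i ≠ 0 := fun i h => by
      have h1 : ∏ i, c i = 0 := Finset.prod_eq_zero (Finset.mem_univ ((klein k).symm i)) h
      rw [hprod] at h1
      exact one_ne_zero h1
    have hdp : d 0 * d 1 * d 2 * d 3 = 1 := by
      rw [← Fin.prod_univ_four, ← hprod]
      exact Equiv.prod_comp (klein k).symm c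
    let s : F := d 0
    let ε : Fin 4 → F := fun i => d i / s
    have hε : ∀ i, ε i = 1 ∨ ε i = -1 := fun i => by
      have h1 : ε i ^ 2 = 1 := by
        simp only [ε, s, div_pow]
        rw [show d i ^ 2 = d 0 ^ 2 from hsq _ _, div_self (pow_ne_zero _ (hd0 0))]
      exact sq_eq_one_iff.1 h1
    have hεp : ε 0 * ε 1 * ε 2 * ε 3 = 1 := by
      have hs4 : s ^ 4 = 1 := by simpa [hq] using FiniteField.pow_card_sub_one_eq_one s (hd0 0)
      calc ε 0 * ε 1 * ε 2 * ε 3 = (d 0 * d 1 * d 2 * d 3) / s ^ 4 := by simp only [ε]; ring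
        _ = 1 := by rw [hdp, hs4, div_one]
    have h11 : (1 : F) ≠ -1 := fun h => by
      have h2 : ((2 : ℕ) : F) = 0 := by push_cast; linear_combination h
      rw [CharP.cast_eq_zero_iff F 5] at h2
      norm_num at h2
    obtain ⟨j, hj⟩ : ∃ j : Fin 4, ε = f ∘ kleinChar j := by
      have e0 : ε 0 = 1 := div_self (hd0 0)
      rw [e0, one_mul] at hεp
      rcases hε 1 with e1 | e1 <;> rcases hε 2 with e2 | e2
      · have e3 : ε 3 = 1 := by rw [e1, e2, one_mul, one_mul] at hεp; exact hεp
        exact ⟨0, funext fun i => by fin_cases i <;> simp [kleinChar, e0, e1, e2, e3]⟩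
      · have e3 : ε 3 = -1 := by rw [e1, e2, one_mul, neg_mul, one_mul, neg_eq_iff_eq_neg] at hεp; exact hεp
        exact ⟨2, funext fun i => by fin_cases i <;> simp [kleinChar, e0, e1, e2, e3]⟩
      · have e3 : ε 3 = -1 := by rw [e1, e2, mul_one, neg_mul, one_mul, neg_eq_iff_eq_neg] at hεp; exact hεp
        exact ⟨1, funext fun i => by fin_cases i <;> simp [kleinChar, e0, e1, e2, e3]⟩
      · have e3 : ε 3 = 1 := by rw [e1, e2, neg_mul_neg, one_mul, one_mul] at hεp; exact hεp
        exact ⟨3, funext fun i => by fin_cases i <;> simp [kleinChar, e0, e1, e2, e3]⟩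
    have hfac : (x : Matrix (Fin 4) (Fin 4) F) =
        s • ((mono 1 (kleinChar j)).map f * (mono (klein k) (fun _ => 1)).map f) := by
      rw [mono_map, mono_map, mono_mul, hx, ← hj, one_mul]
      ext a i
      by_cases h : a = klein k i
      · subst h
        simp [mono_apply, ε, d, mul_div_cancel₀ _ (hd0 0), s]
      · simp [mono_apply, h]
    -- the images of the two factors lie in the set
    have hmemV : ∀ l, ∃ y ∈ kleinSet F, (y : Matrix (Fin 4) (Fin 4) F) = mono (klein l) (fun _ => (1 : F)) := by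
      intro l
      obtain ⟨y, hy, -, -⟩ := MaxMon.exists_mon (klein l) (fun _ => (1 : F)) (fun _ => one_ne_zero)
      have hy' : (y : Matrix (Fin 4) (Fin 4) F) = mono (klein l) (fun _ => (1 : F)) := Matrix.ext fun a i => by
        have h1 := congrFun (hy i) a
        rw [MaxMon.col_apply, Pi.single_apply] at h1
        rw [h1, mono_apply]
      exact ⟨y, ⟨l, _, fun _ _ => rfl, Finset.prod_eq_one fun _ _ => rfl, hy'⟩, hy'⟩
    have hmemD : ∀ l (t : F), t ≠ 0 → ∃ y ∈ kleinSet F,
        (y : Matrix (Fin 4) (Fin 4) F) = mono 1 (fun i => t * f (kleinChar l i)) := by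
      intro l t ht
      have ht4 : t ^ 4 = 1 := by simpa [hq] using FiniteField.pow_card_sub_one_eq_one t ht
      have hne : ∀ i, t * f (kleinChar l i) ≠ 0 := fun i => mul_ne_zero ht (by
        rw [map_ne_zero]
        exact kleinChar_ne l i)
      obtain ⟨y, hy, -, -⟩ := MaxMon.exists_mon (1 : Equiv.Perm (Fin 4)) _ hne
      have hy' : (y : Matrix (Fin 4) (Fin 4) F) = mono 1 (fun i => t * f (kleinChar l i)) := Matrix.ext fun a i => by
        have h1 := congrFun (hy i) a
        rw [MaxMon.col_apply, Pi.single_apply] at h1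
        rw [h1, mono_apply]
      refine ⟨y, ⟨0, _, fun a b => ?_, ?_, hy'⟩, hy'⟩
      · rw [mul_pow, mul_pow, ← map_pow, ← map_pow, kleinChar_sq, kleinChar_sq]
      · rw [Finset.prod_mul_distrib, ← map_prod, kleinChar_prod, map_one, mul_one, Finset.prod_const, Finset.card_univ,
          Fintype.card_fin, ht4]
    obtain ⟨y, hyX, hy⟩ := hmemV j
    obtain ⟨z, hzX, hz⟩ := hmemD k s (hd0 0)
    have heq : W * x * W⁻¹ = y * z := Units.ext (by
      rw [Units.val_mul, Units.val_mul, Units.val_mul, hy, hz, hfac, hWval, hWinv]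
      have h1 := congrArg (fun M : Matrix (Fin 4) (Fin 4) (ZMod 5) => M.map f) (hadamard_diag j)
      have h2 := congrArg (fun M : Matrix (Fin 4) (Fin 4) (ZMod 5) => M.map f) (hadamard_perm k)
      have h3 := congrArg (fun M : Matrix (Fin 4) (Fin 4) (ZMod 5) => M.map f) (Units.inv_mul hadamard)
      simp only [Matrix.map_mul] at h1 h2 h3
      rw [Matrix.map_one f (map_zero f) (map_one f)] at h3
      set A := (hadamard : Matrix (Fin 4) (Fin 4) (ZMod 5)).map f with hA
      set B := ((hadamard⁻¹ : GL (Fin 4) (ZMod 5)) : Matrix (Fin 4) (Fin 4) (ZMod 5)).map f with hB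
      calc A * (s • ((mono 1 (kleinChar j)).map f * (mono (klein k) (fun _ => 1)).map f)) * B
          = s • ((A * (mono 1 (kleinChar j)).map f * B) * (A * (mono (klein k) (fun _ => 1)).map f * B)) := by
            rw [Matrix.mul_smul, Matrix.smul_mul]
            congr 1
            simp only [← mul_assoc]
            rw [mul_assoc _ B A, h3, mul_one]
        _ = _ := by
            rw [h1, h2, mono_map, mono_map, mono_mul, mono_mul]
            ext a i
            by_cases h : a = klein j i <;> simp [mono_apply, h])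
    rw [heq]
    exact Subgroup.mul_mem _ (Subgroup.subset_closure hyX) (Subgroup.subset_closure hzX)
  have hWdet : (W : Matrix (Fin 4) (Fin 4) F).det = 1 := by
    rw [hWval, ← RingHom.mapMatrix_apply, ← RingHom.map_det, hadamard_det, map_one]
  have hWM : P * W * P⁻¹ ∈ M := ⟨⟨W, hWK, rfl⟩, sl_conj (MonoidHom.mem_ker.2 (Units.ext (by
    rw [Matrix.GeneralLinearGroup.val_det_apply]; exact hWdet)))⟩
  rcases hH.2 M hHM inf_le_right with h | h
  · rw [h, hHD] at hWM
    obtain ⟨σ, c, -, hc⟩ := hP _ hWM.1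
    rw [show P⁻¹ * (P * W * P⁻¹) * P = W by group, hWval] at hc
    have h0 := congrFun (congrFun hc 0) 0
    have h1 := congrFun (congrFun hc 1) 0
    simp [mono_apply, hadamard, kleinChar] at h0 h1
    by_cases hs : (0 : Fin 4) = σ 0
    · rw [if_neg (fun e : (1 : Fin 4) = σ 0 => absurd (hs.trans e.symm) (by decide))] at h1
      exact one_ne_zero h1
    · rw [if_neg hs] at h0
      exact one_ne_zero h0
  · -- a transvection does not normalise the group
    obtain ⟨T, hT, hTx⟩ := exists_transvection (v := (Pi.single 0 1 : Fin 4 → F)) (φ := Pi.single 2 1) (by simp)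
    have hTK : T ∈ K := by
      have h1 : P * T * P⁻¹ ∈ M := h.ge (sl_conj hT)
      obtain ⟨y, hy, hyT⟩ := h1.1
      have : y = T := mul_left_cancel (mul_right_cancel hyT)
      exact this ▸ hy
    let c0 : Fin 4 → F := f ∘ kleinChar 2
    obtain ⟨x0, hx0, -, -⟩ := MaxMon.exists_mon (1 : Equiv.Perm (Fin 4)) c0 (fun i => by
      simp only [c0, Function.comp_apply, map_ne_zero]; exact kleinChar_ne 2 i)
    have hx0' : (x0 : Matrix (Fin 4) (Fin 4) F) = mono 1 c0 := Matrix.ext fun a i => by
      have h1 := congrFun (hx0 i) a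
      rw [MaxMon.col_apply, Pi.single_apply] at h1
      rw [h1, mono_apply]
    have hx0X : x0 ∈ kleinSet F := by
      refine ⟨0, c0, fun a b => ?_, ?_, hx0'⟩
      · simp only [c0, Function.comp_apply, ← map_pow]
        rw [kleinChar_sq, kleinChar_sq]
      · simp only [c0, Function.comp_apply, ← map_prod]
        rw [kleinChar_prod, map_one]
    have hmon := kleinSet_isMon ((Subgroup.mem_normalizer_iff.1 hTK x0).1 (Subgroup.subset_closure hx0X))
    obtain ⟨i, hi⟩ := hmon 2
    have hT' : ∀ v : Fin 4 → F, ((T⁻¹ : GL (Fin 4) F) : Matrix (Fin 4) (Fin 4) F) *ᵥ v = v - v 2 • Pi.single 0 1 := by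
      intro v
      have h2 : (T : Matrix (Fin 4) (Fin 4) F) *ᵥ (v - v 2 • Pi.single 0 1) = v := by
        rw [hTx, dot_single]; simp
      conv_lhs => rw [← h2, Matrix.mulVec_mulVec, Units.inv_mul, Matrix.one_mulVec]
    have hcol : ((T * x0 * T⁻¹ : GL (Fin 4) F) : Matrix (Fin 4) (Fin 4) F) *ᵥ Pi.single 2 1 =
        -Pi.single 2 1 - (2 : F) • Pi.single 0 1 := by
      rw [Units.val_mul, Units.val_mul, ← Matrix.mulVec_mulVec, ← Matrix.mulVec_mulVec, hT', hTx, dot_single,
        hx0', mono_one]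
      funext a
      fin_cases a <;> simp [c0, kleinChar, Matrix.mulVec_diagonal] <;> ring
    have e0 := congrFun hcol 0
    have e2 := congrFun hcol 2
    rw [MaxMon.col_apply] at e0 e2
    by_cases hi0 : i = 0
    · have h2 := hi 2 (by rw [hi0]; decide)
      rw [h2] at e2
      simp at e2
    · have h2 := hi 0 (Ne.symm hi0)
      rw [h2] at e0
      have h2' : ((2 : ℕ) : F) = 0 := by
        push_cast
        simpa using e0.symm
      rw [CharP.cast_eq_zero_iff F 5] at h2'
      norm_num at h2'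

end Cfsg.Agent.Classical.Asch
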