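import Cfsg.Agent.Lib.Classical.AschTensorTwo
import Cfsg.Agent.Lib.Classical.AschAbelian

/-!
Aschbacher's theorem for subgroups of the general linear group: a geometric class or the residual class.
-/

set_option autoImplicit false
set_option linter.unusedSectionVars false
set_option linter.unusedFintypeInType false
set_option linter.unusedDecidableInType false

namespace Cfsg.Agent.Classical.Asch

open Matrix Module Cfsg.Geo
open scoped Kronecker Pointwise commutatorElement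

variable {F : Type*} [Field F] {ι : Type} [Fintype ι] [DecidableEq ι]

/-- The group lies in a member of a geometric class, or in the residual class. -/
def LinCase [Fintype F] (H : Subgroup (GL ι F)) : Prop :=
  (∃ W : Submodule F (ι → F), W ≠ ⊥ ∧ W ≠ ⊤ ∧ H ≤ subspaceStabilizer W) ∨
  (∃ (t m : ℕ) (D : Fin t → Submodule F (ι → F)), IsMDecomposition m D ∧ H ≤ decompositionStabilizer D) ∨
  (∃ (r : ℕ) (K : Subalgebra F (Matrix ι ι F)), r.Prime ∧ IsFieldSubalgebra r K ∧ H ≤ subalgebraNormalizer K) ∨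
  (∃ (a b : ℕ) (e : ι ≃ Fin a × Fin b) (P : GL ι F), 2 ≤ a ∧ a < b ∧ H ≤ tensorProductSubgroup a b e P) ∨
  (∃ (m t : ℕ) (e : ι ≃ (Fin t → Fin m)) (P : GL ι F), 3 ≤ m ∧ 2 ≤ t ∧ H ≤ tensorWreathSubgroup m t e P) ∨
  InSubfieldClass H ∨ InNormalizerClass H ∨ InFormClass H ∨ InLinearResidualClass H

theorem not_irr {H : Subgroup (GL ι F)} (h : ¬ Irr H) :
    ∃ W : Submodule F (ι → F), W ≠ ⊥ ∧ W ≠ ⊤ ∧ H ≤ subspaceStabilizer W := by
  rw [irr_iff] at h
  push Not at h
  obtain ⟨W, hW, h1, h2⟩ := h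
  refine ⟨W, h1, h2, fun g hg v => ⟨fun hv => hW g hg v hv, fun hv => ?_⟩⟩
  have h3 := hW g⁻¹ (H.inv_mem hg) _ hv
  change ((g⁻¹ : GL ι F) : Matrix ι ι F) *ᵥ ((g : Matrix ι ι F) *ᵥ v) ∈ W at h3
  rwa [Matrix.mulVec_mulVec, Units.inv_mul, Matrix.one_mulVec] at h3

theorem tensor_swap {a b : ℕ} (e : ι ≃ Fin a × Fin b) (P : GL ι F) :
    tensorProductSubgroup a b e P ≤ tensorProductSubgroup b a (e.trans (Equiv.prodComm _ _)) P := by
  rintro _ ⟨y, ⟨k, ⟨A, B, hk⟩, rfl⟩, rfl⟩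
  let e' : (Fin a × Fin b) ≃ (Fin b × Fin a) := Equiv.prodComm _ _
  refine ⟨glReindex (e.trans e').symm (glReindex e' k), ⟨glReindex e' k, ⟨B, A, ?_⟩, rfl⟩, ?_⟩
  · ext ⟨i, j⟩ ⟨i', j'⟩
    show Matrix.reindexAlgEquiv F F e' (k : Matrix _ _ F) (i, j) (i', j') = _
    rw [hk]
    simp [e', Matrix.reindexAlgEquiv_apply, mul_comm]
  · congr 1

theorem tensor_le_wreath {m : ℕ} (e : ι ≃ Fin m × Fin m) (P : GL ι F) :
    tensorProductSubgroup m m e P ≤ tensorWreathSubgroup m 2 (e.trans (finTwoArrowEquiv (Fin m)).symm) P := by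
  rintro _ ⟨y, ⟨k, ⟨A, B, hk⟩, rfl⟩, rfl⟩
  let e' : (Fin m × Fin m) ≃ (Fin 2 → Fin m) := (finTwoArrowEquiv (Fin m)).symm
  refine ⟨glReindex (e.trans e').symm (glReindex e' k), ⟨glReindex e' k,
    Subgroup.subset_closure (Or.inl ⟨![A, B], fun x y => ?_⟩), rfl⟩, ?_⟩
  · show Matrix.reindexAlgEquiv F F e' (k : Matrix _ _ F) x y = _
    rw [hk]
    simp [e', Matrix.reindexAlgEquiv_apply, Fin.prod_univ_two]
  · congr 1

theorem linCase_of_split [Fintype F] [Nonempty ι] {H N : Subgroup (GL ι F)} (hn : Norms H N)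
    (hns : ¬ N ≤ scalars ι F) (h : Split N) : LinCase H := by
  obtain ⟨a, b, e, P, ha, hb, hle, -⟩ := tensor_of_split hn hns h
  rcases lt_trichotomy a b with hab | hab | hab
  · exact Or.inr (Or.inr (Or.inr (Or.inl ⟨a, b, e, P, ha, hab, hle⟩)))
  · subst hab
    have hle' := hle.trans (tensor_le_wreath e P)
    rcases Nat.lt_or_ge a 3 with ha3 | ha3
    · have ha2 : a = 2 := by omega
      subst ha2
      exact Or.inr (Or.inr (Or.inr (Or.inr (Or.inr (Or.inr (Or.inr (Or.inl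
        (formClass_of_wreath_two (by omega) hle'))))))))
    · exact Or.inr (Or.inr (Or.inr (Or.inr (Or.inl ⟨a, 2, _, P, ha3, le_rfl, hle'⟩))))
  · exact Or.inr (Or.inr (Or.inr (Or.inl ⟨b, a, _, P, hb, hab, hle.trans (tensor_swap e P)⟩)))

/-- Every outcome of Clifford's theorem other than absolute irreducibility gives a class. -/
theorem linCase_or_ai [Fintype F] [Nonempty ι] {H N : Subgroup (GL ι F)} (hH : Irr H) (hn : Norms H N)
    (hns : ¬ N ≤ scalars ι F) : LinCase H ∨ AI N := by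
  rcases clifford hH hn with ⟨t, m, D, hD, hle, -, -⟩ | ⟨K, hc, hinv, h2, -, -, hcj⟩ | hs | hai
  · exact Or.inl (Or.inr (Or.inl ⟨t, m, D, hD, hle⟩))
  · obtain ⟨r, K', hr, hK', -, hle, -⟩ := exists_prime_field hc hinv h2 hcj
    exact Or.inl (Or.inr (Or.inr (Or.inl ⟨r, K', hr, hK', hle⟩)))
  · exact Or.inl (linCase_of_split hn hns hs)
  · exact Or.inr hai

theorem conj_commutator_mem {H N : Subgroup (GL ι F)} (hn : Norms H N) : Norms H ⁅N, N⁆ := by
  intro h hh x hx
  have hle : ⁅N, N⁆ ≤ (⁅N, N⁆ : Subgroup (GL ι F)).comap (MulAut.conj h).toMonoidHom := by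
    rw [Subgroup.commutator_le]
    intro a ha b hb
    show h * ⁅a, b⁆ * h⁻¹ ∈ (⁅N, N⁆ : Subgroup (GL ι F))
    have h1 : h * ⁅a, b⁆ * h⁻¹ = ⁅h * a * h⁻¹, h * b * h⁻¹⁆ := by simp [commutatorElement_def]; group
    rw [h1]
    exact Subgroup.commutator_mem_commutator (hn h hh a ha) (hn h hh b hb)
  exact hle hx

theorem exists_mul_scalar {H : Subgroup (GL ι F)} {g : GL ι F} (hg : g ∈ H ⊔ scalars ι F) :
    ∃ h ∈ H, ∃ z ∈ scalars ι F, g = h * z := by
  rw [← SetLike.mem_coe, Subgroup.mul_normal] at hg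
  obtain ⟨h, hh, z, hz, rfl⟩ := hg
  exact ⟨h, hh, z, hz, rfl⟩

theorem commutator_scalar_mul {a b : GL ι F} {z w : GL ι F} (hz : z ∈ scalars ι F) (hw : w ∈ scalars ι F) :
    ⁅a * z, b * w⁆ = ⁅a, b⁆ := by
  rw [commutatorElement_def, commutatorElement_def]
  have e1 : ∀ g, z * g = g * z := scalar_comm_gl hz
  have e2 : ∀ g, w * g = g * w := scalar_comm_gl hw
  calc a * z * (b * w) * (a * z)⁻¹ * (b * w)⁻¹ = a * (z * (b * w * z⁻¹)) * a⁻¹ * (b * w)⁻¹ := by group
    _ = a * (b * w) * a⁻¹ * (b * w)⁻¹ := by rw [e1]; group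
    _ = a * b * (w * (a⁻¹ * w⁻¹)) * b⁻¹ := by group
    _ = _ := by rw [e2]; group

/-- The commutator subgroup of a group of the form subgroup times scalars. -/
theorem commutator_sup_scalars_le (H : Subgroup (GL ι F)) :
    ⁅H ⊔ scalars ι F, H ⊔ scalars ι F⁆ ≤ ⁅H, H⁆ := by
  rw [Subgroup.commutator_le]
  intro a ha b hb
  obtain ⟨x, hx, z, hz, rfl⟩ := exists_mul_scalar ha
  obtain ⟨y, hy, w, hw, rfl⟩ := exists_mul_scalar hb
  rw [commutator_scalar_mul hz hw]
  exact Subgroup.commutator_mem_commutator hx hy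

theorem scal_of_commutator {N : Subgroup (GL ι F)} (h : ⁅N, N⁆ ≤ scalars ι F) : Scal N := by
  intro x hx y hy
  obtain ⟨c, hc⟩ := exists_sc (h (Subgroup.commutator_mem_commutator hy hx))
  exact ⟨c, by rw [← hc, commutatorElement_def]; group⟩

/-- The perfect core of a normal subgroup which is simple modulo scalars. -/
theorem residual_core [Fintype F] [Nonempty ι] {H N : Subgroup (GL ι F)} (h2 : 2 ≤ Fintype.card ι)
    (hn : Norms H N) (hN : AI N) (hscal : scalars ι F ≤ N)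
    (hle : N ≤ H ⊔ scalars ι F) (hperf : N ≤ ⁅N, N⁆ ⊔ scalars ι F)
    (hsimple : ∀ X : Subgroup (GL ι F), scalars ι F ≤ X → X ≤ N → Norms N X → X = scalars ι F ∨ X = N) :
    AI ⁅N, N⁆ ∧ Norms H ⁅N, N⁆ ∧ ⁅N, N⁆ ≤ H ∧
      ((∀ F₀ : Subfield F, F₀ ≠ ⊤ → ¬ RealisableOver F₀ (matrixSet ⁅N, N⁆)) → IsResidualCore H ⁅N, N⁆) := by
  set P : Subgroup (GL ι F) := ⁅N, N⁆ with hP
  have hPN : P ≤ N := (Subgroup.commutator_le).2 fun a ha b hb => by
    rw [commutatorElement_def]
    exact N.mul_mem (N.mul_mem (N.mul_mem ha hb) (N.inv_mem ha)) (N.inv_mem hb)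
  have hPH : P ≤ H := (Subgroup.commutator_mono hle hle).trans ((commutator_sup_scalars_le H).trans
    ((Subgroup.commutator_le).2 fun a ha b hb => by
      rw [commutatorElement_def]
      exact H.mul_mem (H.mul_mem (H.mul_mem ha hb) (H.inv_mem ha)) (H.inv_mem hb)))
  have hPn : Norms H P := conj_commutator_mem hn
  have hperfP : ⁅P, P⁆ = P := by
    refine le_antisymm ((Subgroup.commutator_le).2 fun a ha b hb => ?_) ?_
    · rw [commutatorElement_def]
      exact P.mul_mem (P.mul_mem (P.mul_mem ha hb) (P.inv_mem ha)) (P.inv_mem hb)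
    · exact (Subgroup.commutator_mono hperf hperf).trans (commutator_sup_scalars_le P)
  have hPai : AI P := by
    refine ai_of (irr_iff.2 fun W hW => irr_iff.1 hN.irr W fun g hg v hv => ?_) fun M hM => hN.scalar fun x hx => ?_
    · obtain ⟨p, hp, z, hz, rfl⟩ := exists_mul_scalar (hperf hg)
      obtain ⟨c, hc⟩ := exists_sc hz
      rw [hc, Units.val_mul, sc_coe, Matrix.mul_smul, mul_one, Matrix.smul_mulVec]
      exact W.smul_mem _ (hW p hp v hv)
    · obtain ⟨p, hp, z, hz, rfl⟩ := exists_mul_scalar (hperf hx)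
      rw [Units.val_mul, ← mul_assoc, hM p hp, mul_assoc, ← scalar_comm hz, mul_assoc]
  refine ⟨hPai, hPn, hPH, fun hreal => ?_⟩
  have hnotab : ¬ P ≤ scalars ι F := AbData.not_le h2 hPai
  refine ⟨hPH, hPn, hperfP, ?_, ?_, ?_, hPai, hreal⟩
  · -- simplicity
    set S : Subgroup P := (scalars ι F).subgroupOf P with hS
    haveI : Nontrivial (P ⧸ S) := by
      obtain ⟨p, hp, hps⟩ := SetLike.not_le_iff_exists.1 hnotab
      exact ⟨⟨QuotientGroup.mk ⟨p, hp⟩, 1, fun h => hps (Subgroup.mem_subgroupOf.1 ((QuotientGroup.eq_one_iff _).1 h))⟩⟩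
    refine ⟨fun K hK => ?_⟩
    let K₁ : Subgroup P := K.comap (QuotientGroup.mk' S)
    haveI : K₁.Normal := hK.comap _
    have hSK : S ≤ K₁ := fun x hx => by
      show QuotientGroup.mk' S x ∈ K
      rw [show QuotientGroup.mk' S x = 1 from (QuotientGroup.eq_one_iff x).2 hx]
      exact K.one_mem
    let X : Subgroup (GL ι F) := K₁.map P.subtype ⊔ scalars ι F
    have hXN : Norms N X := by
      intro g hg
      obtain ⟨p, hp, z, hz, rfl⟩ := exists_mul_scalar (hperf hg)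
      have hmap : X ≤ X.comap (MulAut.conj (p * z)).toMonoidHom := by
        refine sup_le ?_ fun w hw => Subgroup.mem_sup_right (scalars_normal.conj_mem w hw _)
        rintro _ ⟨k, hk, rfl⟩
        refine Subgroup.mem_sup_left ⟨(⟨p, hp⟩ : P) * k * (⟨p, hp⟩ : P)⁻¹, ‹K₁.Normal›.conj_mem k hk _, ?_⟩
        show p * (k : GL ι F) * p⁻¹ = p * z * k * (p * z)⁻¹
        rw [mul_assoc p z (k : GL ι F), scalar_comm_gl hz]
        group
      exact fun x hx => hmap hx
    rcases hsimple X le_sup_right (sup_le (by rintro _ ⟨k, -, rfl⟩; exact hPN k.2)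
      hscal) hXN with hX | hX
    · left
      rw [eq_bot_iff]
      intro q hq
      obtain ⟨p, rfl⟩ := QuotientGroup.mk_surjective q
      rw [Subgroup.mem_bot, QuotientGroup.eq_one_iff, Subgroup.mem_subgroupOf]
      exact hX ▸ Subgroup.mem_sup_left ⟨p, hq, rfl⟩
    · right
      rw [eq_top_iff]
      intro q _
      obtain ⟨p, rfl⟩ := QuotientGroup.mk_surjective q
      obtain ⟨_, ⟨k, hk, rfl⟩, z, hz, hpz⟩ := exists_mul_scalar (H := K₁.map P.subtype) (hX.ge (hPN p.2))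
      have hzS : k⁻¹ * p ∈ S := by
        rw [Subgroup.mem_subgroupOf]
        show (k : GL ι F)⁻¹ * (p : GL ι F) ∈ scalars ι F
        rw [hpz, Subgroup.coe_subtype, inv_mul_cancel_left]
        exact hz
      have hpK : p ∈ K₁ := by
        have := K₁.mul_mem hk (hSK hzS)
        rwa [mul_inv_cancel_left] at this
      exact hpK
  · intro hc
    refine hnotab ?_
    rw [← hperfP, Subgroup.commutator_le]
    intro a ha b hb
    have := hc.is_comm.comm (QuotientGroup.mk (s := (scalars ι F).subgroupOf P) ⟨a, ha⟩) (QuotientGroup.mk ⟨b, hb⟩)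
    rw [← QuotientGroup.mk_mul, ← QuotientGroup.mk_mul, QuotientGroup.eq, Subgroup.mem_subgroupOf] at this
    have h1 := scalars_normal.conj_mem _ this (a * b)
    have h3 : a * b * ((a * b)⁻¹ * (b * a)) * (a * b)⁻¹ = ⁅b, a⁆ := by rw [commutatorElement_def]; group
    have h4 : ⁅b, a⁆ ∈ scalars ι F := h3 ▸ h1
    rw [← commutatorElement_inv]
    exact (scalars ι F).inv_mem h4
  · intro h _ hh2
    refine hPai.mem_scalars fun x hx => ?_
    have key : ∀ y ∈ P, ∃ c : Fˣ, h * y * h⁻¹ = sc c * y := fun y hy => by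
      obtain ⟨c, hc⟩ := exists_sc (hh2 y hy)
      exact ⟨c, by rw [← hc]; group⟩
    let C : Subgroup (GL ι F) := Subgroup.centralizer {h}
    have hle' : ⁅P, P⁆ ≤ C := (Subgroup.commutator_le).2 fun a ha b hb => by
      rw [Subgroup.mem_centralizer_iff]
      intro y hy
      rw [Set.mem_singleton_iff] at hy
      subst hy
      obtain ⟨c, hc⟩ := key a ha
      obtain ⟨d, hd⟩ := key b hb
      have h1 : y * ⁅a, b⁆ * y⁻¹ = ⁅a, b⁆ := by
        calc y * ⁅a, b⁆ * y⁻¹ = ⁅y * a * y⁻¹, y * b * y⁻¹⁆ := by simp [commutatorElement_def]; group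
          _ = ⁅a * sc c, b * sc d⁆ := by rw [hc, hd, (sc_comm c a).eq, (sc_comm d b).eq]
          _ = _ := commutator_scalar_mul (sc_mem _) (sc_mem _)
      exact eq_mul_inv_iff_mul_eq.1 h1.symm |>.symm
    rw [hperfP] at hle'
    exact (Subgroup.mem_centralizer_iff.1 (hle' hx) h rfl)

/-- The residual case. -/
theorem residual_or_class [Fintype F] [Nonempty ι] {H N : Subgroup (GL ι F)} (h2 : 2 ≤ Fintype.card ι)
    (hn : Norms H N) (hN : AI N) (hscal : scalars ι F ≤ N)
    (hle : N ≤ H ⊔ scalars ι F) (hperf : N ≤ ⁅N, N⁆ ⊔ scalars ι F)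
    (hsimple : ∀ X : Subgroup (GL ι F), scalars ι F ≤ X → X ≤ N → Norms N X → X = scalars ι F ∨ X = N) :
    LinCase H := by
  obtain ⟨hPai, hPn, -, hcore⟩ := residual_core h2 hn hN hscal hle hperf hsimple
  set P : Subgroup (GL ι F) := ⁅N, N⁆ with hP
  by_cases hreal : ∃ F₀ : Subfield F, F₀ ≠ ⊤ ∧ RealisableOver F₀ (matrixSet P)
  · obtain ⟨F₀, hne, B, hB⟩ := hreal
    exact Or.inr (Or.inr (Or.inr (Or.inr (Or.inr (Or.inl
      (subfieldClass_of_realised hne hPai hPn fun x hx => hB _ ⟨x, hx, rfl⟩))))))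
  push Not at hreal
  by_cases hforms : (∃ Q : (ι → F) → F, IsNondegenerateQuadraticForm Q ∧ FixesQuadForm (matrixSet P) Q) ∨
      (∃ f : (ι → F) → (ι → F) → F, IsSymplecticForm f ∧ FixesForm (matrixSet P) f) ∨
      ∃ (σ : F ≃+* F) (f : (ι → F) → (ι → F) → F), IsUnitaryForm σ f ∧ FixesForm (matrixSet P) f
  · exact Or.inr (Or.inr (Or.inr (Or.inr (Or.inr (Or.inr (Or.inr (Or.inl
      (formClass_of_fixed hPai hPn hforms))))))))
  refine Or.inr (Or.inr (Or.inr (Or.inr (Or.inr (Or.inr (Or.inr (Or.inr ⟨P, hcore hreal, ?_⟩)))))))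
  push Not at hforms
  refine ⟨?_, ?_, ?_⟩
  · rintro ⟨Q, hQ, hfx⟩; exact hforms.1 Q hQ hfx
  · rintro ⟨f, hf, hfx⟩; exact hforms.2.1 f hf hfx
  · rintro ⟨σ, f, hf, hfx⟩; exact hforms.2.2 σ f hf hfx

theorem conj_map_norms {N T : Subgroup (GL ι F)} {g : GL ι F} (hg : ∀ x ∈ N, g⁻¹ * x * g ∈ N) (hT : Norms N T) :
    Norms N (T.map (MulAut.conj g).toMonoidHom) := by
  rintro x hx _ ⟨t, ht, rfl⟩
  refine ⟨_, hT _ (hg x hx) t ht, ?_⟩
  show g * (g⁻¹ * x * g * t * (g⁻¹ * x * g)⁻¹) * g⁻¹ = x * (g * t * g⁻¹) * x⁻¹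
  group

/-- A family of permuted commuting subgroups, perfect modulo scalars. -/
structure Family (H N : Subgroup (GL ι F)) {k : ℕ} (T : Fin k → Subgroup (GL ι F)) : Prop where
  two_le : 2 ≤ k
  le : ∀ i, T i ≤ N
  gen : N ≤ ⨆ i, T i
  comm : ∀ i j, i ≠ j → ∀ x ∈ T i, ∀ y ∈ T j, x * y = y * x
  not_scalar : ∀ i, ¬ T i ≤ scalars ι F
  perm : ∀ h ∈ H, ∀ i, ∃ j, ∀ x ∈ T i, h * x * h⁻¹ ∈ T j
  trans : ∀ i j, ∃ h ∈ H, ∀ x ∈ T i, h * x * h⁻¹ ∈ T j
  perfect : ∀ i, T i ≤ ⁅T i, T i⁆ ⊔ scalars ι F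

/-- The minimal non-scalar normal subgroup splits into permuted commuting factors or is simple modulo scalars. -/
theorem family_or_simple [Fintype F] [Nonempty ι] {H N : Subgroup (GL ι F)} (h3 : 2 ≤ Fintype.card ι)
    (hn : Norms H N) (hN : AI N) (hscal : scalars ι F ≤ N)
    (hmin : ∀ N' : Subgroup (GL ι F), scalars ι F ≤ N' → N' ≤ N → Norms H N' → N' = scalars ι F ∨ N' = N)
    (hab : ¬ Scal N) :
    (∃ (k : ℕ) (T : Fin k → Subgroup (GL ι F)), Family H N T) ∨
      (N ≤ ⁅N, N⁆ ⊔ scalars ι F ∧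
        ∀ X : Subgroup (GL ι F), scalars ι F ≤ X → X ≤ N → Norms N X → X = scalars ι F ∨ X = N) := by
  classical
  obtain ⟨T, ⟨hZT, hTN, hTn, hTs⟩, hTmin⟩ := wellFounded_lt.has_min
    {T : Subgroup (GL ι F) | scalars ι F ≤ T ∧ T ≤ N ∧ Norms N T ∧ ¬ T ≤ scalars ι F}
    ⟨N, hscal, le_rfl, fun g hg x hx => N.mul_mem (N.mul_mem hg hx) (N.inv_mem hg),
      AbData.not_le (by omega) hN⟩
  haveI : Fintype H := Fintype.ofFinite H
  let cT : GL ι F → Subgroup (GL ι F) := fun g => T.map (MulAut.conj g).toMonoidHom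
  let S : Finset (Subgroup (GL ι F)) := Finset.univ.image fun g : H => cT g
  let ε := (Fintype.equivFin S).symm
  let T' : Fin (Fintype.card S) → Subgroup (GL ι F) := fun i => (ε i).1
  have hT' : ∀ i, ∃ g ∈ H, T' i = cT g := fun i => by
    obtain ⟨g, -, hg⟩ := Finset.mem_image.1 (ε i).2
    exact ⟨g, g.2, hg.symm⟩
  have hsurj : ∀ g ∈ H, ∃ i, T' i = cT g := fun g hg =>
    ⟨ε.symm ⟨_, Finset.mem_image.2 ⟨⟨g, hg⟩, Finset.mem_univ _, rfl⟩⟩, by simp [T']⟩
  have hT'inj : Function.Injective T' := fun a b h => ε.injective (Subtype.ext h)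
  -- properties of the conjugates
  have hprop : ∀ i, scalars ι F ≤ T' i ∧ T' i ≤ N ∧ Norms N (T' i) ∧ ¬ T' i ≤ scalars ι F ∧
      ∀ X, scalars ι F ≤ X → X ≤ T' i → Norms N X → X = scalars ι F ∨ X = T' i := by
    intro i
    obtain ⟨g, hg, hi⟩ := hT' i
    rw [hi]
    have hgN : ∀ x ∈ N, g⁻¹ * x * g ∈ N := fun x hx => hn.inv_mem hg hx
    refine ⟨fun z hz => ⟨z, hZT hz, ?_⟩, ?_, conj_map_norms hgN hTn, fun hle' => hTs fun t ht => ?_,
      fun X hZX hXT hXn => ?_⟩
    · show g * z * g⁻¹ = z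
      rw [← scalar_comm_gl hz g, mul_inv_cancel_right]
    · rintro _ ⟨t, ht, rfl⟩
      exact hn g hg t (hTN ht)
    · have h1 := scalars_normal.conj_mem _ (hle' ⟨t, ht, rfl⟩) g⁻¹
      simpa [mul_assoc] using h1
    · let Y : Subgroup (GL ι F) := X.map (MulAut.conj g⁻¹).toMonoidHom
      have hYT : Y ≤ T := by
        rintro _ ⟨x, hx, rfl⟩
        obtain ⟨t, ht, rfl⟩ := hXT hx
        simpa [mul_assoc] using ht
      have hZY : scalars ι F ≤ Y := fun z hz => ⟨z, hZX hz, by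
        show g⁻¹ * z * g⁻¹⁻¹ = z
        rw [← scalar_comm_gl hz g⁻¹, mul_inv_cancel_right]⟩
      by_cases hY : Y ≤ scalars ι F
      · left
        refine le_antisymm (fun x hx => ?_) hZX
        have h1 := scalars_normal.conj_mem _ (hY ⟨x, hx, rfl⟩) g
        simpa [mul_assoc] using h1
      · right
        have hYn : Norms N Y := conj_map_norms (g := g⁻¹) (fun x hx => by rw [inv_inv]; exact hn g hg x hx) hXn
        have hYeq : Y = T := by
          by_contra hne
          exact hTmin Y ⟨hZY, hYT.trans hTN, hYn, hY⟩ (lt_of_le_of_ne hYT hne)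
        refine le_antisymm hXT ?_
        rintro _ ⟨t, ht, rfl⟩
        rw [← hYeq] at ht
        obtain ⟨x, hx, rfl⟩ := ht
        simpa [mul_assoc] using hx
  -- they generate
  have hTT' : ∃ i, T' i = T := by
    obtain ⟨i, hi⟩ := hsurj 1 H.one_mem
    exact ⟨i, by rw [hi]; ext; simp [cT]⟩
  obtain ⟨i₀, hi₀⟩ := hTT'
  have hsup : (⨆ i, T' i) = N := by
    refine (hmin _ (le_trans (hi₀ ▸ hZT) (le_iSup T' i₀)) (iSup_le fun i => (hprop i).2.1) ?_).resolve_left fun h =>
      hTs (hi₀ ▸ h ▸ le_iSup T' i₀)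
    intro h hh x hx
    have hle' : (⨆ i, T' i) ≤ (⨆ i, T' i).comap (MulAut.conj h).toMonoidHom := iSup_le fun i y hy => by
      obtain ⟨g, hg, hi⟩ := hT' i
      obtain ⟨j, hj⟩ := hsurj (h * g) (H.mul_mem hh hg)
      rw [hi] at hy
      obtain ⟨t, ht, rfl⟩ := hy
      refine Subgroup.mem_iSup_of_mem j ?_
      rw [hj]
      exact ⟨t, ht, by simp [mul_assoc]⟩
    exact hle' hx
  -- commutators of distinct conjugates are scalar
  have hcross : ∀ i j, i ≠ j → ∀ x ∈ T' i, ∀ y ∈ T' j, ⁅x, y⁆ ∈ scalars ι F := by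
    intro i j hij x hx y hy
    obtain ⟨hZi, hiN, hin, -, himin⟩ := hprop i
    obtain ⟨hZj, hjN, hjn, -, hjmin⟩ := hprop j
    have hinf : T' i ⊓ T' j = scalars ι F := by
      have hXn : Norms N (T' i ⊓ T' j) := fun g hg z hz => ⟨hin g hg z hz.1, hjn g hg z hz.2⟩
      rcases himin _ (le_inf hZi hZj) inf_le_left hXn with h | h
      · exact h
      rcases hjmin _ (le_inf hZi hZj) inf_le_right hXn with h' | h'
      · exact h'
      exact absurd (hT'inj (h.symm.trans h')) hij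
    rw [← hinf, commutatorElement_def]
    refine ⟨?_, (T' j).mul_mem (hjn x (hiN hx) y hy) ((T' j).inv_mem hy)⟩
    rw [mul_assoc (x * y), mul_assoc x, ← mul_assoc y]
    exact (T' i).mul_mem hx (hin y (hjN hy) _ ((T' i).inv_mem hx))
  -- each is perfect modulo scalars
  have hperf : ∀ i, T' i ≤ ⁅T' i, T' i⁆ ⊔ scalars ι F := by
    intro i
    obtain ⟨hZi, hiN, hin, -, himin⟩ := hprop i
    have hsub : ⁅T' i, T' i⁆ ⊔ scalars ι F ≤ T' i := sup_le ((Subgroup.commutator_le).2 fun a ha b hb => by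
      rw [commutatorElement_def]
      exact (T' i).mul_mem ((T' i).mul_mem ((T' i).mul_mem ha hb) ((T' i).inv_mem ha)) ((T' i).inv_mem hb)) hZi
    have hnorm : Norms N (⁅T' i, T' i⁆ ⊔ scalars ι F) := fun g hg x hx => by
      obtain ⟨c, hc, z, hz, rfl⟩ := exists_mul_scalar hx
      rw [show g * (c * z) * g⁻¹ = (g * c * g⁻¹) * (g * z * g⁻¹) by group]
      exact Subgroup.mul_mem_sup (conj_commutator_mem hin g hg c hc) (scalars_normal.conj_mem z hz g)
    rcases himin _ le_sup_right hsub hnorm with h | h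
    · exfalso
      have hii : ⁅T' i, T' i⁆ ≤ scalars ι F := le_sup_left.trans h.le
      have hT0 : ⁅T, T⁆ ≤ scalars ι F := by
        obtain ⟨g, hg, hi⟩ := hT' i
        rw [Subgroup.commutator_le]
        intro a ha b hb
        have h1 := scalars_normal.conj_mem _ (hii (Subgroup.commutator_mem_commutator
          (show g * a * g⁻¹ ∈ T' i by rw [hi]; exact ⟨a, ha, rfl⟩)
          (show g * b * g⁻¹ ∈ T' i by rw [hi]; exact ⟨b, hb, rfl⟩))) g⁻¹
        have h2 : g⁻¹ * ⁅g * a * g⁻¹, g * b * g⁻¹⁆ * g⁻¹⁻¹ = ⁅a, b⁆ := by simp [commutatorElement_def]; group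
        rwa [h2] at h1
      have hall : ∀ k l, ∀ a ∈ T' k, ∀ b ∈ T' l, ⁅a, b⁆ ∈ scalars ι F := by
        intro k l a ha b hb
        by_cases hkl : k = l
        · subst hkl
          obtain ⟨g, hg, hk⟩ := hT' k
          rw [hk] at ha hb
          obtain ⟨a, ha, rfl⟩ := ha
          obtain ⟨b, hb, rfl⟩ := hb
          have h1 := scalars_normal.conj_mem _ (hT0 (Subgroup.commutator_mem_commutator ha hb)) g
          have h2 : g * ⁅a, b⁆ * g⁻¹ = ⁅g * a * g⁻¹, g * b * g⁻¹⁆ := by simp [commutatorElement_def]; group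
          rwa [h2] at h1
        · exact hcross k l hkl a ha b hb
      apply hab
      -- centralising modulo scalars is a subgroup
      let C : GL ι F → Subgroup (GL ι F) := fun y =>
        { carrier := {x | ∃ c : Fˣ, y * x = sc c * (x * y)}
          mul_mem' := fun {a b} ha hb => by
            obtain ⟨c, hc⟩ := ha
            obtain ⟨d, hd⟩ := hb
            refine ⟨c * d, ?_⟩
            calc y * (a * b) = (y * a) * b := by group
              _ = sc c * (a * (y * b)) := by rw [hc]; group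
              _ = _ := by
                rw [hd, ← mul_assoc a, ← (sc_comm d a).eq, map_mul]
                group
          one_mem' := ⟨1, by simp⟩
          inv_mem' := fun {a} ha => by
            obtain ⟨c, hc⟩ := ha
            refine ⟨c⁻¹, ?_⟩
            have h1 : a⁻¹ * y = sc c * (y * a⁻¹) := by
              calc a⁻¹ * y = a⁻¹ * (y * a) * a⁻¹ := by group
                _ = a⁻¹ * (sc c * a) * (y * a⁻¹) := by rw [hc]; group
                _ = _ := by rw [(sc_comm c a).eq, inv_mul_cancel_left]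
            rw [h1, ← mul_assoc, ← map_mul, inv_mul_cancel, map_one, one_mul] }
      intro x hx y hy
      have h1 : ∀ l, ∀ b ∈ T' l, N ≤ C b := fun l b hb => hsup.ge.trans (iSup_le fun k a ha => by
        obtain ⟨c, hc⟩ := exists_sc (hall l k b hb a ha)
        exact ⟨c, by rw [← hc, commutatorElement_def]; group⟩)
      have h2 : N ≤ C x := hsup.ge.trans (iSup_le fun l b hb => by
        obtain ⟨c, hc⟩ := h1 l b hb hx
        exact ⟨c⁻¹, by rw [hc, ← mul_assoc, ← map_mul, inv_mul_cancel, map_one, one_mul]⟩)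
      obtain ⟨c, hc⟩ := h2 hy
      exact ⟨c⁻¹, by rw [hc, ← mul_assoc, ← map_mul, inv_mul_cancel, map_one, one_mul]⟩
    · exact h.ge
  have hcomm : ∀ i j, i ≠ j → ∀ x ∈ T' i, ∀ y ∈ T' j, x * y = y * x := by
    intro i j hij x hx y hy
    have hle' : ⁅T' i, T' i⁆ ≤ Subgroup.centralizer {y} := (Subgroup.commutator_le).2 fun a ha b hb => by
      rw [Subgroup.mem_centralizer_iff]
      intro w hw
      rw [Set.mem_singleton_iff] at hw
      subst hw
      have key : ∀ u ∈ T' i, ∃ c : Fˣ, u * w * u⁻¹ = sc c * w := fun u hu => by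
        obtain ⟨c, hc⟩ := exists_sc (hcross i j hij u hu w hy)
        exact ⟨c, by rw [← hc, commutatorElement_def]; group⟩
      obtain ⟨c, hc⟩ := key a ha
      obtain ⟨d, hd⟩ := key b hb
      have hfix : ⁅a, b⁆ * w * ⁅a, b⁆⁻¹ = w := by
        have hap : ∀ (e : Fˣ) (u : GL ι F), u * (sc e * w) * u⁻¹ = sc e * (u * w * u⁻¹) := fun e u => by
          rw [← mul_assoc u, ← (sc_comm e u).eq]; group
        have hinv : ∀ (e : Fˣ) (u : GL ι F), u * w * u⁻¹ = sc e * w → u⁻¹ * w * u = sc e⁻¹ * w := by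
          intro e u he
          have h1 : w = sc e * (u⁻¹ * w * u) := by
            calc w = u⁻¹ * (u * w * u⁻¹) * u := by group
              _ = _ := by rw [he, ← mul_assoc u⁻¹, ← (sc_comm e u⁻¹).eq]; group
          conv_rhs => rw [h1, ← mul_assoc, ← map_mul, inv_mul_cancel, map_one, one_mul]
        calc ⁅a, b⁆ * w * ⁅a, b⁆⁻¹ = a * (b * (a⁻¹ * (b⁻¹ * w * b) * a⁻¹⁻¹) * b⁻¹) * a⁻¹ := by
              rw [commutatorElement_def]; group
          _ = w := by
            rw [hinv d b hd, hap, inv_inv, hinv c a hc, ← mul_assoc (sc d⁻¹), ← map_mul, hap, hd,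
              ← mul_assoc (sc (d⁻¹ * c⁻¹)), ← map_mul, hap, hc, ← mul_assoc, ← map_mul]
            rw [show d⁻¹ * c⁻¹ * d * c = 1 by rw [mul_comm d⁻¹ c⁻¹, inv_mul_cancel_right, inv_mul_cancel],
              map_one, one_mul]
      exact (mul_inv_eq_iff_eq_mul.1 hfix).symm
    obtain ⟨a, ha, z, hz, rfl⟩ := exists_mul_scalar (hperf i hx)
    have hay : y * a = a * y := Subgroup.mem_centralizer_iff.1 (hle' ha) y rfl
    rw [mul_assoc, scalar_comm_gl hz y, ← mul_assoc, ← hay, mul_assoc]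
  by_cases hk : 2 ≤ Fintype.card S
  · exact Or.inl ⟨_, T', ⟨hk, fun i => (hprop i).2.1, hsup.ge, hcomm, fun i => (hprop i).2.2.2.1,
      (fun h hh i => by
        obtain ⟨g, hg, hi⟩ := hT' i
        obtain ⟨j, hj⟩ := hsurj (h * g) (H.mul_mem hh hg)
        refine ⟨j, fun x hx => ?_⟩
        rw [hi] at hx
        obtain ⟨t, ht, rfl⟩ := hx
        rw [hj]
        exact ⟨t, ht, by simp [mul_assoc]⟩),
      (fun i j => by
        obtain ⟨g, hg, hi⟩ := hT' i
        obtain ⟨g', hg', hj⟩ := hT' j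
        refine ⟨g' * g⁻¹, H.mul_mem hg' (H.inv_mem hg), fun x hx => ?_⟩
        rw [hi] at hx
        obtain ⟨t, ht, rfl⟩ := hx
        rw [hj]
        exact ⟨t, ht, by simp [mul_assoc]⟩), hperf⟩⟩
  · have hone : ∀ i, T' i = T := fun i => by
      have := i.isLt
      have := i₀.isLt
      rw [show i = i₀ from Fin.ext (by omega), hi₀]
    have hTeq : T = N := le_antisymm hTN (hsup.ge.trans (iSup_le fun i => (hone i).le))
    subst hTeq
    refine Or.inr ⟨by rw [← hi₀]; exact hperf i₀, fun X h1 h2 h3 => ?_⟩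
    have := (hprop i₀).2.2.2.2 X h1 (hi₀.symm ▸ h2) h3
    rwa [hi₀] at this

theorem nonabelian_case [Fintype F] [Nonempty ι] {H N : Subgroup (GL ι F)} (h3 : 3 ≤ Fintype.card ι)
    (hn : Norms H N) (hN : AI N) (hscal : scalars ι F ≤ N) (hle : N ≤ H ⊔ scalars ι F)
    (hmin : ∀ N' : Subgroup (GL ι F), scalars ι F ≤ N' → N' ≤ N → Norms H N' → N' = scalars ι F ∨ N' = N)
    (hab : ¬ Scal N) : LinCase H := by
  rcases family_or_simple (by omega) hn hN hscal hmin hab with ⟨k, T, hT⟩ | ⟨hperf, hsimple⟩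
  · obtain ⟨m, e, P, hm, hle', -⟩ :=
      wreath_of_family hT.two_le T hN hT.le hT.gen hT.comm hT.not_scalar hT.perm hT.trans
    rcases Nat.lt_or_ge m 3 with h | h
    · have hm2 : m = 2 := by omega
      subst hm2
      exact Or.inr (Or.inr (Or.inr (Or.inr (Or.inr (Or.inr (Or.inr (Or.inl
        (formClass_of_wreath_two (le_trans (by omega) hT.two_le) hle'))))))))
    · exact Or.inr (Or.inr (Or.inr (Or.inr (Or.inl ⟨m, _, e, P, h, hT.two_le, hle'⟩))))
  · exact residual_or_class (by omega) hn hN hscal hle hperf hsimple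

/-- Aschbacher's theorem in the linear case. -/
theorem aschbacher [Fintype F] (H : Subgroup (GL ι F)) (h3 : 3 ≤ Fintype.card ι) : LinCase H := by
  haveI : Nonempty ι := Fintype.card_pos_iff.1 (by omega)
  by_cases hirr : Irr H
  · by_cases hHs : H ≤ scalars ι F
    · exfalso
      obtain ⟨i⟩ := ‹Nonempty ι›
      rcases irr_iff.1 hirr (Submodule.span F {(Pi.single i 1 : ι → F)}) (fun g hg v hv => by
        obtain ⟨c, hc⟩ := exists_sc (hHs hg)
        rw [hc, sc_coe, Matrix.smul_mulVec, Matrix.one_mulVec]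
        exact Submodule.smul_mem _ _ hv) with h | h
      · simp at h
      · have := congrArg (fun W : Submodule F (ι → F) => finrank F W) h
        simp only [finrank_top, Module.finrank_fintype_fun_eq_card] at this
        rw [finrank_span_singleton (by simp)] at this
        omega
    rcases linCase_or_ai hirr (N := H) (fun h hh x hx => H.mul_mem (H.mul_mem hh hx) (H.inv_mem hh)) hHs with
      h | hai
    · exact h
    have hle0 : scalars ι F ≤ H ⊔ scalars ι F := le_sup_right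
    obtain ⟨N, ⟨hscal, hle, hn, hns⟩, hNmin⟩ := wellFounded_lt.has_min
      {N : Subgroup (GL ι F) | scalars ι F ≤ N ∧ N ≤ H ⊔ scalars ι F ∧ Norms H N ∧ ¬ N ≤ scalars ι F}
      ⟨H ⊔ scalars ι F, hle0, le_rfl, fun h hh x hx =>
        Subgroup.mul_mem _ (Subgroup.mul_mem _ (Subgroup.mem_sup_left hh) hx)
          (Subgroup.inv_mem _ (Subgroup.mem_sup_left hh)), fun h => hHs (le_sup_left.trans h)⟩
    have hmin : ∀ N' : Subgroup (GL ι F), scalars ι F ≤ N' → N' ≤ N → Norms H N' →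
        N' = scalars ι F ∨ N' = N := by
      intro N' h1 h2 h4
      by_cases h5 : N' ≤ scalars ι F
      · exact Or.inl (le_antisymm h5 h1)
      · right
        by_contra hne
        exact hNmin N' ⟨h1, h2.trans hle, h4, h5⟩ (lt_of_le_of_ne h2 hne)
    rcases linCase_or_ai hirr hn hns with h | hN
    · exact h
    by_cases hab : Scal N
    · rcases abelian_case h3 hN hscal hn hmin hab with h | h | h
      · exact Or.inr (Or.inr (Or.inr (Or.inr (Or.inr (Or.inr (Or.inl h))))))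
      · exact Or.inr (Or.inr (Or.inr (Or.inr (Or.inr (Or.inr (Or.inr (Or.inl h)))))))
      · exact Or.inr (Or.inr (Or.inr (Or.inr (Or.inr (Or.inl h)))))
    · exact nonabelian_case h3 hn hN hscal hle hmin hab
  · exact Or.inl (not_irr hirr)

end Cfsg.Agent.Classical.Asch
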