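import Cfsg.Agent.Lib.Classical.AschUnitShape
import Cfsg.Agent.Lib.Classical.AschSpShape

/-!
Members of the geometric classes over very small fields that are contained in larger proper subgroups.
-/

set_option autoImplicit false
set_option linter.unusedSectionVars false
set_option linter.unusedFintypeInType false
set_option linter.unusedDecidableInType false

namespace Cfsg.Agent.Classical.Asch

open Matrix Module Cfsg.Geo
open scoped Kronecker

section General

variable {F : Type*} [Field F] {ι : Type} [Fintype ι] [DecidableEq ι]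

/-- Intersection with an overgroup lies strictly between, given a witness and properness. -/
theorem exists_between {S A M : Subgroup (GL ι F)} (hle : A ⊓ S ≤ M) (hwit : ∃ g ∈ M ⊓ S, g ∉ A)
    (hns : ¬ S ≤ M) : ∃ K : Subgroup (GL ι F), A ⊓ S < K ∧ K < S :=
  ⟨M ⊓ S, lt_of_le_of_ne (le_inf hle inf_le_right) (fun h => by
      obtain ⟨g, hg, hga⟩ := hwit
      exact hga (h.ge hg).1),
    lt_of_le_of_ne inf_le_right fun h => hns (h.ge.trans inf_le_left)⟩

/-- The centre of a transvection permuting the parts of a decomposition lies in one part, or in two lines. -/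
theorem tv_decomp {t m : ℕ} {D : Fin t → Submodule F (ι → F)} (hD : IsMDecomposition m D) {g : GL ι F}
    (hg : g ∈ decompositionStabilizer D) {φ : (ι → F) → F} {v : ι → F}
    (hgx : ∀ x, (g : Matrix ι ι F) *ᵥ x = x + φ x • v) (hadd : ∀ x y, φ (x + y) = φ x + φ y)
    (hφ : ∃ x, φ x ≠ 0) : ∃ i j, v ∈ D i ⊔ D j ∧ (2 ≤ m → i = j) := by
  obtain ⟨σ, hσ⟩ := hg
  have hzero : φ 0 = 0 := by simpa using hadd 0 0
  obtain ⟨i, x, hx, hφx⟩ : ∃ i, ∃ x ∈ D i, φ x ≠ 0 := by
    by_contra hno
    push Not at hno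
    obtain ⟨y, hy⟩ := hφ
    refine hy ?_
    have hyt : y ∈ ⨆ i, D i := by rw [hD.iSup_eq_top]; trivial
    refine Submodule.iSup_induction (motive := fun y => φ y = 0) D hyt (fun i x hx => hno i x hx) hzero
      fun a b ha hb => by rw [hadd, ha, hb, add_zero]
  have himg : ∀ z ∈ D i, z + φ z • v ∈ D (σ i) := fun z hz => by
    rw [← hσ i, ← hgx]
    exact ⟨z, hz, Matrix.toLin'_apply _ _⟩
  have hv : v ∈ D i ⊔ D (σ i) := by
    have h1 : φ x • v ∈ D i ⊔ D (σ i) := by
      have := Submodule.sub_mem _ (Submodule.mem_sup_right (S := D i) (himg x hx)) (Submodule.mem_sup_left hx)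
      simpa using this
    simpa [smul_smul, hφx] using (D i ⊔ D (σ i)).smul_mem (φ x)⁻¹ h1
  refine ⟨i, σ i, hv, fun hm => ?_⟩
  by_contra hne
  have hdis : Disjoint (D i) (D (σ i)) := (hD.indep i).mono_right
    (le_iSup₂ (f := fun (j : Fin t) (_ : j ≠ i) => D j) (σ i) (Ne.symm hne))
  obtain ⟨z, hz, hxz⟩ : ∃ z ∈ D i, z ∉ F ∙ x := by
    by_contra hno
    push Not at hno
    have h1 := Submodule.finrank_mono (show D i ≤ F ∙ x from hno)
    rw [hD.finrank_eq, finrank_span_singleton (fun h0 => hφx (by rw [h0, hzero]))] at h1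
    omega
  let w := φ z • x - φ x • z
  have hw : w ∈ D i := Submodule.sub_mem _ (Submodule.smul_mem _ _ hx) (Submodule.smul_mem _ _ hz)
  have hw' : w ∈ D (σ i) := by
    have := Submodule.sub_mem _ (Submodule.smul_mem _ (φ z) (himg x hx)) (Submodule.smul_mem _ (φ x) (himg z hz))
    have e : φ z • (x + φ x • v) - φ x • (z + φ z • v) = w := by
      simp only [w, smul_add, smul_smul, mul_comm (φ z) (φ x)]; abel
    rwa [e] at this
  have hw0 : φ x • z = φ z • x := (sub_eq_zero.1 (Submodule.disjoint_def.1 hdis w hw hw')).symm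
  exact hxz (Submodule.mem_span_singleton.2 ⟨(φ x)⁻¹ * φ z, by rw [← smul_smul, ← hw0, smul_smul, inv_mul_cancel₀ hφx, one_smul]⟩)

/-- A large set of vectors is not covered by the sums of two parts. -/
theorem exists_avoid [Fintype F] {t m : ℕ} {D : Fin t → Submodule F (ι → F)} (hD : IsMDecomposition m D)
    (S : Set (ι → F)) (hS : t * t * Fintype.card F ^ (2 * m) < Nat.card S) :
    ∃ v ∈ S, ∀ i j, v ∉ D i ⊔ D j := by
  classical
  by_contra hno
  push Not at hno
  have hle : S ⊆ ⋃ p : Fin t × Fin t, ((D p.1 ⊔ D p.2 : Submodule F (ι → F)) : Set (ι → F)) := fun v hv => by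
    obtain ⟨i, j, h⟩ := hno v hv
    exact Set.mem_iUnion.2 ⟨(i, j), h⟩
  have hcard : ∀ p : Fin t × Fin t, Nat.card (D p.1 ⊔ D p.2 : Submodule F (ι → F)) ≤ Fintype.card F ^ (2 * m) := by
    intro p
    rw [Module.natCard_eq_pow_finrank (K := F), Nat.card_eq_fintype_card]
    refine Nat.pow_le_pow_right Fintype.card_pos ((Submodule.finrank_add_le_finrank_add_finrank _ _).trans ?_)
    rw [hD.finrank_eq, hD.finrank_eq, two_mul]
  have h1 : Nat.card S ≤ ∑ _p : Fin t × Fin t, Fintype.card F ^ (2 * m) := by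
    refine le_trans ?_ (Finset.sum_le_sum fun p _ => hcard p)
    rw [Nat.card_coe_set_eq]
    refine (Set.ncard_le_ncard hle (Set.toFinite _)).trans ?_
    refine (Set.ncard_iUnion_le_of_fintype _).trans (Finset.sum_le_sum fun p _ => ?_)
    rw [← Nat.card_coe_set_eq]
    exact le_rfl
  simp only [Finset.sum_const, Finset.card_univ, Fintype.card_prod, Fintype.card_fin, smul_eq_mul] at h1
  omega

/-- A form group of a symplectic form contains all its transvections. -/
theorem exists_symp_tv {f : (ι → F) → (ι → F) → F} (hf : IsSymplecticForm f) (v : ι → F) :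
    ∃ g ∈ similarityGroup f ⊓ specialLinear ι F, ∀ x, (g : Matrix ι ι F) *ᵥ x = x + f x v • v := by
  have hs := sesq_of_bilinear hf.bilinear
  let φ : ι → F := fun a => f (Pi.single a 1) v
  have hφ : ∀ x, φ ⬝ᵥ x = f x v := fun x => by
    rw [hs.eq_gram x v]
    simp only [formOfGram_eq, φ, dotProduct]
    refine Finset.sum_congr rfl fun a _ => ?_
    rw [hs.eq_gram, formOfGram_eq]
    simp [mul_comm]
  obtain ⟨g, hg, hgx⟩ := exists_transvection (v := v) (φ := φ) (by rw [hφ, hf.alternating])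
  have hgx' : ∀ x, (g : Matrix ι ι F) *ᵥ x = x + f x v • v := fun x => by rw [hgx, hφ]
  refine ⟨g, ⟨⟨1, fun a b => ?_⟩, hg⟩, hgx'⟩
  rw [Units.val_one, one_mul, hgx', hgx', hf.bilinear.add_left, hf.bilinear.add_right, hf.bilinear.add_right,
    hf.bilinear.smul_left, hf.bilinear.smul_left, hf.bilinear.smul_right, hf.bilinear.smul_right, hf.alternating,
    hf.skew v b]
  ring

end General

section Exceptions

variable {F : Type*} [Field F] [Fintype F] {n : ℕ}

theorem pow_bound {n : ℕ} (hn : 13 ≤ n) :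
    4 * (n * n) * 2 < 2 ^ n ∧ 81 * (n * n) < 3 ^ n ∧ 16 * (n * n) < 4 ^ (n - 2) := by
  induction n, hn using Nat.le_induction with
  | base => norm_num
  | succ n hn ih =>
    obtain ⟨h1, h2, h3⟩ := ih
    have e : (n + 1) * (n + 1) ≤ 2 * (n * n) := by nlinarith
    refine ⟨?_, ?_, ?_⟩
    · rw [pow_succ]; omega
    · rw [pow_succ]; omega
    · rw [show n + 1 - 2 = n - 2 + 1 by omega, pow_succ]; omega

/-- Over three elements many vectors are anisotropic. -/
theorem card_anisotropic (hq : Fintype.card F = 3) {Q : (Fin n → F) → F} (hQ : IsNondegenerateQuadraticForm Q)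
    (hn : 0 < n) : 3 ^ n ≤ 3 * Nat.card {v | Q v ≠ 0} := by
  classical
  have h2 : (2 : F) ≠ 0 := fun h => by
    have h3 := Nat.cast_card_eq_zero F
    rw [hq] at h3
    exact one_ne_zero (α := F) (by linear_combination (h3 : ((3 : ℕ) : F) = 0) - h)
  have hadd : ∀ u v, Q (u + v) = Q u + Q v + QuadraticMap.polar Q u v := fun u v => by
    rw [QuadraticMap.polar]; ring
  obtain ⟨a, ha⟩ : ∃ a, Q a ≠ 0 := by
    by_contra hno
    push Not at hno
    obtain ⟨⟨x, hx⟩, -⟩ := hQ.nondegenerate (Pi.single ⟨0, hn⟩ 1) (by simp)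
    refine hx ?_
    simp [QuadraticMap.polar, hno]
  have hsplit : ∀ u, Q u ≠ 0 ∨ Q (u + a) ≠ 0 ∨ Q (u - a) ≠ 0 := fun u => by
    by_contra hno
    push Not at hno
    obtain ⟨h0, hp, hm⟩ := hno
    rw [hadd, h0, zero_add] at hp
    rw [sub_eq_add_neg, hadd, h0, zero_add, show -a = (-1 : F) • a by simp, hQ.smul, hQ.polar_bilinear.smul_right] at hm
    exact ha ((mul_eq_zero.1 (show (2 : F) * Q a = 0 by linear_combination hp + hm)).resolve_left h2)
  let T : Finset (Fin n → F) := Finset.univ.filter fun v => Q v ≠ 0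
  have hcov : (Finset.univ : Finset (Fin n → F)) ⊆ T ∪ T.image (· - a) ∪ T.image (· + a) := by
    intro u _
    rcases hsplit u with h | h | h
    · exact Finset.mem_union_left _ (Finset.mem_union_left _ (by simpa [T] using h))
    · exact Finset.mem_union_left _ (Finset.mem_union_right _ (Finset.mem_image.2 ⟨u + a, by simpa [T] using h, by simp⟩))
    · exact Finset.mem_union_right _ (Finset.mem_image.2 ⟨u - a, by simpa [T] using h, by simp⟩)
  have h1 := Finset.card_le_card hcov
  rw [Finset.card_univ, Fintype.card_fun, Fintype.card_fin, hq] at h1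
  have h3 := Finset.card_union_le (T ∪ T.image (· - a)) (T.image (· + a))
  have h4 := Finset.card_union_le T (T.image (· - a))
  have h5 := Finset.card_image_le (s := T) (f := (· - a))
  have h6 := Finset.card_image_le (s := T) (f := (· + a))
  have h7 : Nat.card {v | Q v ≠ 0} = T.card := by
    rw [Nat.card_eq_fintype_card, Fintype.card_ofFinset]
    exact congrArg Finset.card (by ext; simp [T])
  omega

/-- A Hermitian form over four elements has many isotropic vectors. -/
theorem card_isotropic (hq : Fintype.card F = 4) {σ : F ≃+* F} {f : (Fin n → F) → (Fin n → F) → F}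
    (hf : IsUnitaryForm σ f) (hn : 3 ≤ n) : 4 ^ (n - 2) ≤ Nat.card {v | f v v = 0} := by
  classical
  have hs := MaxTv.herm_of_isUnitaryForm hf
  obtain ⟨e, -, he⟩ := hs.exists_iso (S := ⊤) (by rw [finrank_top, Module.finrank_pi]; simpa using (by omega : 2 ≤ n))
  obtain ⟨he0, hee⟩ := he
  obtain ⟨f', -, hff, hef'⟩ := hs.exists_iso_left (S := ⊤) (u := e)
    (by rw [finrank_top, Module.finrank_fin_fun, Fintype.card_fin]; omega) (by
      by_contra hno
      push Not at hno
      exact he0 (hs.eq_zero e fun x => hno x trivial))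
  have hef : f e f' ≠ 0 := fun h0 => hef' (hs.refl _ _ h0)
  let S : Submodule F (Fin n → F) := LinearMap.ker (hs.toSesq.lin e) ⊓ LinearMap.ker (hs.toSesq.lin f')
  have hrank : n - 2 ≤ finrank F S := by
    have h1 := MaxTv.finrank_le_inf_ker_add_one (⊤ : Submodule F (Fin n → F)) (hs.toSesq.lin e)
    have h2 := MaxTv.finrank_le_inf_ker_add_one (LinearMap.ker (hs.toSesq.lin e)) (hs.toSesq.lin f')
    rw [top_inf_eq, finrank_top, Module.finrank_fin_fun] at h1
    show n - 2 ≤ finrank F (LinearMap.ker _ ⊓ LinearMap.ker _ : Submodule F (Fin n → F))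
    omega
  have hmem : ∀ s ∈ S, f s e = 0 ∧ f s f' = 0 := fun s hs' =>
    ⟨LinearMap.mem_ker.1 hs'.1, LinearMap.mem_ker.1 hs'.2⟩
  -- the trace is onto the fixed field
  have hfix : ∀ s, ∃ μ : F, f s s + σ μ + μ = 0 := by
    intro s
    obtain ⟨z, hz⟩ := exists_moved hs.ne_refl
    have h0 : z + σ z ≠ 0 := fun h => hz (by
      have h2 : (2 : F) = 0 := by
        by_contra h2
        have := odd_card_of_two_ne h2
        rw [hq] at this
        exact absurd this (by decide)
      linear_combination h - z * h2)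
    refine ⟨-(f s s) / (z + σ z) * z, ?_⟩
    rw [map_mul, map_div₀, map_neg, hs.self_fixed, map_add, hs.invol, add_comm (σ z) z]
    field_simp
    ring
  choose μ hμ using hfix
  let g : S → {v | f v v = 0} := fun s => ⟨(s : Fin n → F) + e + (σ (μ s) / f f' e) • f', by
    obtain ⟨h1, h2⟩ := hmem s s.2
    show f _ _ = 0
    rw [hs.add_left, hs.add_left, hs.add_right, hs.add_right, hs.add_right, hs.add_right, hs.add_right, hs.add_right,
      hs.smul_left, hs.smul_left, hs.smul_left, hs.smul_right, hs.smul_right, hs.smul_right, h1, h2, hee, hff,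
      hs.herm e s, h1, hs.herm f' s, h2, hs.herm e f', map_zero, map_div₀, hs.invol]
    have h3 := hμ s
    have h4 : f f' e ≠ 0 := hef'
    have h4' : σ (f f' e) ≠ 0 := (map_ne_zero σ).2 hef'
    field_simp
    linear_combination (σ (f f' e) * f f' e) * h3⟩
  have hinj : Function.Injective g := by
    intro s s' h
    have h1 := congrArg Subtype.val h
    simp only [g] at h1
    have h2 : (s : Fin n → F) - s' = (σ (μ s') / f f' e - σ (μ s) / f f' e) • f' := by
      rw [sub_smul]; linear_combination (norm := module) h1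
    have h3 : f ((s : Fin n → F) - s') e = 0 := LinearMap.mem_ker.1 (S.sub_mem s.2 s'.2).1
    rw [h2, hs.smul_left, mul_eq_zero, or_iff_left hef'] at h3
    rw [h3, zero_smul, sub_eq_zero] at h2
    exact Subtype.ext h2
  refine le_trans ?_ (Nat.card_le_card_of_injective g hinj)
  rw [Module.natCard_eq_pow_finrank (K := F), Nat.card_eq_fintype_card, hq]
  exact Nat.pow_le_pow_right (by norm_num) hrank

/-- A product of two reflections. -/
theorem exists_two_reflections {Q : (Fin n → F) → F} (hQ : IsNondegenerateQuadraticForm Q) (h2 : (2 : F) ≠ 0)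
    {a v : Fin n → F} (ha : Q a ≠ 0) (hv : Q v ≠ 0) :
    ∃ g ∈ quadSimilarityGroup Q ⊓ specialLinear (Fin n) F,
      (∀ x, ∃ c d : F, (g : Matrix (Fin n) (Fin n) F) *ᵥ x = x + c • a + d • v) ∧
      ((∃ w : F, v = w • a) ∨ ∃ x, (g : Matrix (Fin n) (Fin n) F) *ᵥ x ≠ x) := by
  have hs := sesq_of_bilinear hQ.polar_bilinear
  have hadd : ∀ u w, Q (u + w) = Q u + Q w + QuadraticMap.polar Q u w := fun u w => by
    rw [QuadraticMap.polar]; ring
  have hself : ∀ w, QuadraticMap.polar Q w w = 2 * Q w := fun w => by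
    rw [QuadraticMap.polar, show w + w = (2 : F) • w by rw [two_smul], hQ.smul]; ring
  have hrefl : ∀ b : Fin n → F, Q b ≠ 0 → ∃ r : GL (Fin n) F, (r : Matrix (Fin n) (Fin n) F).det = -1 ∧
      ∀ x, (r : Matrix (Fin n) (Fin n) F) *ᵥ x = x + (-(QuadraticMap.polar Q x b) / Q b) • b := by
    intro b hb
    let φ : Fin n → F := fun i => -(QuadraticMap.polar Q (Pi.single i 1) b) / Q b
    have hφ : ∀ x, φ ⬝ᵥ x = -(QuadraticMap.polar Q x b) / Q b := fun x => by
      rw [hs.eq_gram x b]
      simp only [formOfGram_eq, φ, dotProduct, neg_div, Finset.sum_div, ← Finset.sum_neg_distrib]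
      refine Finset.sum_congr rfl fun i _ => ?_
      rw [hs.eq_gram, formOfGram_eq]
      simp
      ring
    have hb2 : φ ⬝ᵥ b = -2 := by rw [hφ, hself]; field_simp
    have hsq : (1 + Matrix.vecMulVec b φ) * (1 + Matrix.vecMulVec b φ) = 1 := by
      rw [add_mul, one_mul, mul_add, mul_one, Matrix.vecMulVec_mul_vecMulVec, hb2]
      ext i j
      simp [Matrix.vecMulVec_apply]
      ring
    refine ⟨⟨_, _, hsq, hsq⟩, ?_, fun x => ?_⟩
    · show (1 + Matrix.vecMulVec b φ).det = -1
      rw [Matrix.vecMulVec_eq Unit, Matrix.det_one_add_replicateCol_mul_replicateRow, hb2]; norm_num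
    · show (1 + Matrix.vecMulVec b φ) *ᵥ x = _
      rw [Matrix.add_mulVec, Matrix.one_mulVec, Matrix.vecMulVec_mulVec, ← hφ]; simp
  obtain ⟨r, hrd, hr⟩ := hrefl a ha
  obtain ⟨s, hsd, hs'⟩ := hrefl v hv
  have hpres : ∀ (g : GL (Fin n) F) (b : Fin n → F), Q b ≠ 0 → (∀ x, (g : Matrix (Fin n) (Fin n) F) *ᵥ x =
      x + (-(QuadraticMap.polar Q x b) / Q b) • b) → ∀ x, Q ((g : Matrix (Fin n) (Fin n) F) *ᵥ x) = Q x := by
    intro g b hb hg x
    rw [hg, hadd, hQ.smul, hQ.polar_bilinear.smul_right]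
    field_simp
    ring
  refine ⟨s * r, ⟨⟨1, fun x => ?_⟩, MonoidHom.mem_ker.2 (Units.ext ?_)⟩, fun x => ?_, ?_⟩
  · rw [Units.val_one, one_mul, Units.val_mul, ← Matrix.mulVec_mulVec, hpres s v hv hs', hpres r a ha hr]
  · rw [Matrix.GeneralLinearGroup.val_det_apply, Units.val_mul, Matrix.det_mul, hrd, hsd]; norm_num
  · refine ⟨-(QuadraticMap.polar Q x a) / Q a, -(QuadraticMap.polar Q ((r : Matrix (Fin n) (Fin n) F) *ᵥ x) v) / Q v, ?_⟩
    rw [Units.val_mul, ← Matrix.mulVec_mulVec, hs', hr]
  · by_contra hno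
    push Not at hno
    have h1 := hno.2 a
    rw [Units.val_mul, ← Matrix.mulVec_mulVec, hs', hr, neg_div, hself, mul_div_assoc, div_self ha, mul_one] at h1
    have h5 : ∀ k : F, a + (-2 : F) • a + k • v = a → k • v = (2 : F) • a := fun k hk => by
      linear_combination (norm := module) hk
    have h6 := h5 _ h1
    by_cases hk : (-(QuadraticMap.polar Q (a + (-2 : F) • a) v) / Q v) = 0
    · rw [hk, zero_smul] at h6
      exact ha (by
        have h7 : a = 0 := (smul_eq_zero.1 h6.symm).resolve_left h2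
        rw [h7, show (0 : Fin n → F) = (0 : F) • (0 : Fin n → F) by simp, hQ.smul]; ring)
    · exact hno.1 _ (show v = ((-(QuadraticMap.polar Q (a + (-2 : F) • a) v) / Q v)⁻¹ * 2) • a by
        rw [← smul_smul, ← h6, inv_smul_smul₀ hk])

theorem planes_sl_not_maximal (hn : 13 ≤ n) (hq : Fintype.card F = 2) {t : ℕ} {D : Fin t → Submodule F (Fin n → F)}
    (hD : IsMDecomposition 2 D) : ∃ K : Subgroup (GL (Fin n) F),
      decompositionStabilizer D ⊓ specialLinear (Fin n) F < K ∧ K < specialLinear (Fin n) F := by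
  obtain ⟨f, hf, hle⟩ := planes_symplectic hD (Or.inl hq)
  have htn : t * 2 = n := by simpa using MaxMon.decomp_card hD
  obtain ⟨v, -, hv⟩ := exists_avoid hD Set.univ (by
    rw [Nat.card_coe_set_eq, Set.ncard_univ, Nat.card_eq_fintype_card, Fintype.card_fun, Fintype.card_fin, hq]
    have := (pow_bound hn).1
    subst htn
    rw [show t * t * 2 ^ (2 * 2) = 4 * (t * 2 * (t * 2)) by ring]
    omega)
  refine exists_between hle ?_
    (not_sl_le_similarity (by simp; omega) (sesq_of_bilinear hf.bilinear) hf.nondegenerate)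
  obtain ⟨g, hg, hgx⟩ := exists_symp_tv hf v
  refine ⟨g, hg, fun hgD => ?_⟩
  have hv0 : v ≠ 0 := fun h => hv ⟨0, by have := hD.two_le; omega⟩ ⟨0, by have := hD.two_le; omega⟩ (by rw [h]; exact zero_mem _)
  obtain ⟨-, x, hx⟩ := hf.nondegenerate v hv0
  obtain ⟨i, j, hij, -⟩ := tv_decomp hD hgD (φ := fun x => f x v) hgx (fun a b => hf.bilinear.add_left a b v)
    ⟨x, fun h => hx (by rw [hf.skew]; simpa using h)⟩
  exact hv i j hij

theorem lines_sl_not_maximal (hn : 13 ≤ n) (hq : Fintype.card F ≤ 4) {t : ℕ} {D : Fin t → Submodule F (Fin n → F)}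
    (hD : IsMDecomposition 1 D) : ∃ K : Subgroup (GL (Fin n) F),
      decompositionStabilizer D ⊓ specialLinear (Fin n) F < K ∧ K < specialLinear (Fin n) F := by
  classical
  have htn : t = n := by simpa using MaxMon.decomp_card hD
  subst htn
  have h3 : 3 ≤ Fintype.card (Fin t) := by simp; omega
  have hb := pow_bound hn
  have hnotin : ∀ {v : Fin t → F}, (∀ i j, v ∉ D i ⊔ D j) → v ≠ 0 := fun {v} hv h =>
    hv ⟨0, by omega⟩ ⟨0, by omega⟩ (by rw [h]; exact zero_mem _)
  have h1 := Fintype.one_lt_card (α := F)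
  rcases (by omega : Fintype.card F = 2 ∨ Fintype.card F = 3 ∨ Fintype.card F = 4) with h | h | h
  · -- two elements: a fixed vector
    obtain ⟨W, hW1, hW2, hWle⟩ := lines_fixed_vector (by omega) h hD
    refine exists_between (inf_le_left.trans hWle) ?_ (not_sl_le_subspace (by omega) hW1 hW2)
    obtain ⟨f, hf0, hWf⟩ := W.exists_le_ker_of_lt_top (lt_top_iff_ne_top.2 hW2)
    have hrk : t - 1 ≤ finrank F (LinearMap.ker f) := by
      have := MaxTv.finrank_le_inf_ker_add_one (⊤ : Submodule F (Fin t → F)) f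
      rw [top_inf_eq, finrank_top, Module.finrank_fin_fun] at this
      omega
    obtain ⟨v, hvk, hv⟩ := exists_avoid hD (LinearMap.ker f : Set (Fin t → F)) (by
      rw [show Nat.card (LinearMap.ker f : Set (Fin t → F)) = Nat.card (LinearMap.ker f) from rfl,
        Module.natCard_eq_pow_finrank (K := F), Nat.card_eq_fintype_card, h]
      have h5 : 2 ^ (t - 1) ≤ 2 ^ finrank F (LinearMap.ker f) := Nat.pow_le_pow_right (by norm_num) hrk
      have h6 : 2 ^ t = 2 ^ (t - 1) * 2 := by rw [← pow_succ, Nat.sub_add_cancel (by omega)]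
      omega)
    let φ : Fin t → F := fun a => f (Pi.single a 1)
    have hfe : ∀ x, φ ⬝ᵥ x = f x := fun x => by
      conv_rhs => rw [pi_eq_sum_univ' x]
      simp [φ, dotProduct, mul_comm]
    have hφ0 : φ ≠ 0 := fun h0 => hf0 (LinearMap.ext fun x => by rw [← hfe, h0, zero_dotProduct]; rfl)
    have hφv : φ ⬝ᵥ v = 0 := (hfe v).trans (LinearMap.mem_ker.1 hvk)
    have hφW : ∀ x ∈ W, φ ⬝ᵥ x = 0 := fun x hx => (hfe x).trans (LinearMap.mem_ker.1 (hWf hx))
    obtain ⟨g, hg, hgx⟩ := exists_transvection hφv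
    refine ⟨g, ⟨(MaxTv.mem_subspaceStabilizer_iff W g).2 fun x hx => ?_, hg⟩, fun hgD => ?_⟩
    · rw [hgx, hφW x hx, zero_smul, add_zero]; exact hx
    · obtain ⟨b, hb⟩ := Function.ne_iff.1 hφ0
      obtain ⟨i, j, hij, -⟩ := tv_decomp hD hgD (φ := fun x => φ ⬝ᵥ x) hgx (fun a b => dotProduct_add _ _ _)
        ⟨Pi.single b 1, by simpa using hb⟩
      exact hv i j hij
  · obtain ⟨Q, hQ, h2, hQle⟩ := lines_quadratic h hD
    refine exists_between (inf_le_left.trans hQle) ?_ (not_sl_le_quadSimilarity h3 hQ)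
    have haniso := card_anisotropic h hQ (n := t) (by omega)
    obtain ⟨a, ha, hav⟩ := exists_avoid hD {v | Q v ≠ 0} (by rw [h]; omega)
    obtain ⟨v, hv, hvv⟩ : ∃ v, Q v ≠ 0 ∧ ∀ i j, v ∉ D i ⊔ D j ⊔ F ∙ a := by
      by_contra hno
      push Not at hno
      have hle : {v | Q v ≠ 0} ⊆ ⋃ p : Fin t × Fin t,
          ((D p.1 ⊔ D p.2 ⊔ F ∙ a : Submodule F (Fin t → F)) : Set (Fin t → F)) := fun v hv => by
        obtain ⟨i, j, hij⟩ := hno v hv
        exact Set.mem_iUnion.2 ⟨(i, j), hij⟩
      have hcard : ∀ p : Fin t × Fin t,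
          ((D p.1 ⊔ D p.2 ⊔ F ∙ a : Submodule F (Fin t → F)) : Set (Fin t → F)).ncard ≤ 27 := by
        intro p
        rw [← Nat.card_coe_set_eq]
        show Nat.card (D p.1 ⊔ D p.2 ⊔ F ∙ a : Submodule F (Fin t → F)) ≤ _
        rw [Module.natCard_eq_pow_finrank (K := F), Nat.card_eq_fintype_card, h,
          show (27 : ℕ) = 3 ^ 3 by norm_num]
        refine Nat.pow_le_pow_right (by norm_num) ?_
        have h5 := Submodule.finrank_add_le_finrank_add_finrank (D p.1) (D p.2)
        have h6 := Submodule.finrank_add_le_finrank_add_finrank (D p.1 ⊔ D p.2) (F ∙ a)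
        rw [hD.finrank_eq, hD.finrank_eq] at h5
        rw [finrank_span_singleton (hnotin hav)] at h6
        omega
      have h5 := ((Set.ncard_le_ncard hle (Set.toFinite _)).trans (Set.ncard_iUnion_le_of_fintype _)).trans
        (Finset.sum_le_sum fun p _ => hcard p)
      simp only [Finset.sum_const, Finset.card_univ, Fintype.card_prod, Fintype.card_fin, smul_eq_mul] at h5
      rw [← Nat.card_coe_set_eq] at h5
      omega
    obtain ⟨g, hg, hgx, hga⟩ := exists_two_reflections hQ h2 ha hv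
    refine ⟨g, hg, fun ⟨σ, hσ⟩ => ?_⟩
    have hfix : ∀ i, ∀ x ∈ D i, (g : Matrix (Fin t) (Fin t) F) *ᵥ x = x := by
      intro i x hx
      obtain ⟨c, d, hcd⟩ := hgx x
      have hmem : c • a + d • v ∈ D i ⊔ D (σ i) := by
        have h5 : (g : Matrix (Fin t) (Fin t) F) *ᵥ x ∈ D (σ i) := by rw [← hσ i]; exact ⟨x, hx, Matrix.toLin'_apply _ _⟩
        rw [hcd] at h5
        have := Submodule.sub_mem _ (Submodule.mem_sup_right (S := D i) h5) (Submodule.mem_sup_left (T := D (σ i)) hx)
        simpa [add_assoc] using this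
      by_cases hd : d = 0
      · by_cases hc : c = 0
        · rw [hcd, hc, hd]; simp
        · rw [hd, zero_smul, add_zero, Submodule.smul_mem_iff _ hc] at hmem
          exact absurd hmem (hav i (σ i))
      · exfalso
        refine hvv i (σ i) ?_
        have h6 : d • v ∈ D i ⊔ D (σ i) ⊔ F ∙ a := by
          have := Submodule.sub_mem _ (Submodule.mem_sup_left (T := F ∙ a) hmem)
            (Submodule.mem_sup_right (S := D i ⊔ D (σ i)) (Submodule.smul_mem _ c (Submodule.mem_span_singleton_self a)))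
          simpa using this
        rwa [Submodule.smul_mem_iff _ hd] at h6
    have hall : ∀ x, (g : Matrix (Fin t) (Fin t) F) *ᵥ x = x := fun x => by
      have hx : x ∈ ⨆ i, D i := by rw [hD.iSup_eq_top]; trivial
      refine Submodule.iSup_induction (motive := fun x => (g : Matrix (Fin t) (Fin t) F) *ᵥ x = x) D hx hfix
        (Matrix.mulVec_zero _) fun b c hb hc => by rw [Matrix.mulVec_add, hb, hc]
    rcases hga with ⟨w, hw⟩ | ⟨x, hx⟩
    · exact hvv ⟨0, by omega⟩ ⟨0, by omega⟩ (Submodule.mem_sup_right (hw ▸ Submodule.smul_mem _ w (Submodule.mem_span_singleton_self a)))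
    · exact hx (hall x)
  · obtain ⟨σ, f, hf, hfle⟩ := lines_unitary h hD
    have hs := MaxTv.herm_of_isUnitaryForm hf
    refine exists_between (inf_le_left.trans hfle) ?_ (not_sl_le_similarity h3 (sesq_of_unitary hf) hf.nondegenerate)
    obtain ⟨v, hvv, hv⟩ := exists_avoid hD {v | f v v = 0} (by
      have := card_isotropic h hf (by omega)
      rw [h]
      omega)
    let φ : Fin t → F := fun a => f (Pi.single a 1) v
    have hφ : ∀ x, φ ⬝ᵥ x = f x v := fun x => by
      rw [(sesq_of_unitary hf).eq_gram x v]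
      simp only [formOfGram_eq, φ, dotProduct]
      refine Finset.sum_congr rfl fun a _ => ?_
      rw [(sesq_of_unitary hf).eq_gram, formOfGram_eq]
      simp [mul_comm]
    have hvv' : f v v = 0 := hvv
    obtain ⟨g, hg, hgx⟩ := exists_transvection (v := v) (φ := φ) (by rw [hφ, hvv'])
    have h20 : (2 : F) = 0 := by
      by_contra h2
      have := odd_card_of_two_ne h2
      rw [h] at this
      exact absurd this (by decide)
    refine ⟨g, ⟨⟨1, fun a b => ?_⟩, hg⟩, fun hgD => ?_⟩
    · rw [Units.val_one, one_mul, hgx, hgx, hφ, hφ, hs.add_left, hs.add_right, hs.add_right, hs.smul_left,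
        hs.smul_left, hs.smul_right, hs.smul_right, hvv', ← hs.herm v b]
      linear_combination (f a v * f v b) * h20
    · obtain ⟨i, j, hij, -⟩ := tv_decomp hD hgD (φ := fun x => φ ⬝ᵥ x) hgx (fun a b => dotProduct_add _ _ _) (by
        by_contra hno
        push Not at hno
        exact hnotin hv (hs.eq_zero v fun x => by rw [← hφ]; exact hno x))
      exact hv i j hij

theorem planes_su_not_maximal (hF : Fintype.card F = 2 ^ 2) (hn : 13 ≤ n) {t : ℕ}
    {D : Fin t → Submodule F (Fin n → F)} (hD : IsNondegenerateMDecomposition (hermForm n F 2) 2 D) :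
    ∃ K : Subgroup (GL (Fin n) F), decompositionStabilizer D ⊓ (GU n F 2 ⊓ specialLinear (Fin n) F) < K ∧
      K < GU n F 2 ⊓ specialLinear (Fin n) F := by
  classical
  have hs := MaxTv.herm_hermForm (n := n) hF
  have h2 := two_eq_zero_four hF
  have h2v : ∀ y : Fin n → F, y + y = 0 := fun y => by rw [← two_smul F y, h2, zero_smul]
  obtain ⟨D', hD', hle⟩ := planes_lines hF hD
  have htn : t * 2 = n := by simpa using MaxMon.decomp_card hD.decomp
  refine exists_between ((inf_le_inf le_rfl inf_le_left).trans hle) ?_ (not_su_le_decomp hF (by omega) hD'.decomp)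
  by_contra hno
  push Not at hno
  have hne : ∀ a, D' a ≠ ⊥ := fun a e => by
    have := hD'.decomp.finrank_eq a
    rw [e, finrank_bot] at this
    omega
  choose w hw hw0 using fun a => Submodule.exists_mem_ne_zero_of_ne_bot (hne a)
  have hspan : ∀ a, D' a = F ∙ w a := fun a => (Submodule.eq_of_le_of_finrank_eq
    (by simpa using hw a) (by rw [finrank_span_singleton (hw0 a), hD'.decomp.finrank_eq])).symm
  have hww : ∀ a a', hermForm n F 2 (w a) (w a') = if a = a' then 1 else 0 := by
    intro a a'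
    by_cases h : a = a'
    · subst h
      rw [if_pos rfl]
      obtain ⟨⟨x, hx, hxne⟩, -⟩ := hD'.nondegenerate a (w a) (hw a) (hw0 a)
      rw [hspan a, Submodule.mem_span_singleton] at hx
      obtain ⟨k, rfl⟩ := hx
      rw [hs.smul_left] at hxne
      have hx0 : hermForm n F 2 (w a) (w a) ≠ 0 := right_ne_zero_of_mul hxne
      have h5 := hs.self_fixed (w a)
      rw [MaxTv.qEquiv_apply, sq] at h5
      exact mul_left_cancel₀ hx0 (h5.trans (mul_one _).symm)
    · rw [if_neg h]; exact hD'.orthogonal a a' h _ (hw a) _ (hw a')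
  have hpair : ∀ a b, a ≠ b → ∃ i, w a + w b ∈ D i := by
    intro a b hab
    set d := w a + w b with hd
    have hdd : hermForm n F 2 d d = 0 := by
      rw [hd, hs.add_left, hs.add_right, hs.add_right, hww, hww, hww, hww, if_pos rfl, if_neg hab,
        if_neg (Ne.symm hab), if_pos rfl]
      linear_combination h2
    obtain ⟨g, hg, hgx⟩ := MaxTv.exists_gu_tv hF hdd (c := (1 : F)) (by rw [map_one]; linear_combination h2)
    have hgD' : g ∈ decompositionStabilizer D' := by
      refine ⟨Equiv.swap a b, fun i => ?_⟩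
      rw [hspan, Submodule.map_span, Set.image_singleton, Matrix.toLin'_apply, hgx, one_mul, hd, hs.add_right,
        hww, hww, hspan]
      congr 2
      rcases eq_or_ne i a with rfl | ha
      · rw [if_pos rfl, if_neg hab, Equiv.swap_apply_left, add_zero, one_smul]
        rw [← add_assoc, h2v, zero_add]
      · rcases eq_or_ne i b with rfl | hb
        · rw [if_neg ha, if_pos rfl, Equiv.swap_apply_right, zero_add, one_smul]
          rw [add_comm (w a), ← add_assoc, h2v, zero_add]
        · rw [if_neg ha, if_neg hb, Equiv.swap_apply_of_ne_of_ne ha hb, add_zero, zero_smul, add_zero]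
    obtain ⟨i, j, hij, hm⟩ := tv_decomp hD.decomp (hno g ⟨hgD', hg⟩) (φ := fun x => 1 * hermForm n F 2 x d) hgx
      (fun x y => by rw [hs.add_left, mul_add]) ⟨w a, by
        rw [one_mul, hd, hs.add_right, hww, hww, if_pos rfl, if_neg hab, add_zero]; exact one_ne_zero⟩
    obtain rfl := hm le_rfl
    rw [sup_idem] at hij
    exact ⟨i, hij⟩
  let z : Fin (t * 2) := ⟨0, by omega⟩
  let x : Fin 3 → Fin (t * 2) := fun l => ⟨l + 1, by omega⟩
  have hxz : ∀ l, z ≠ x l := fun l h => absurd (congrArg Fin.val h) (show (0 : ℕ) ≠ (l : ℕ) + 1 by omega)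
  have hxinj : ∀ l l', x l = x l' → l = l' := fun l l' h => by
    exact Fin.ext (Nat.add_right_cancel (congrArg Fin.val h))
  choose idx hidx using fun l => hpair z (x l) (hxz l)
  have heq : ∀ l l', idx l = idx l' := by
    intro l l'
    by_contra hne'
    have hll : x l ≠ x l' := fun h => hne' (by rw [hxinj l l' h])
    obtain ⟨k, hk⟩ := hpair (x l) (x l') hll
    set d₁ := w z + w (x l)
    set d₂ := w z + w (x l')
    have hsum : w (x l) + w (x l') = d₁ + d₂ := by
      simp only [d₁, d₂]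
      rw [add_add_add_comm, h2v, zero_add]
    rw [hsum] at hk
    have hdis : ∀ p r, p ≠ r → ∀ y, y ∈ D p → y ∈ D r → y = 0 := fun p r hpr y hp hr =>
      Submodule.disjoint_def.1 (hD.decomp.indep p) y hp
        (Submodule.mem_iSup_of_mem r (Submodule.mem_iSup_of_mem (Ne.symm hpr) hr))
    have hd1 : d₁ ≠ 0 := fun h => by
      have := congrArg (fun y => hermForm n F 2 y (w z)) h
      simp [d₁, hs.add_left, hww, Ne.symm (hxz l), hs.toSesq.zero_left] at this
    have hd2 : d₂ ≠ 0 := fun h => by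
      have := congrArg (fun y => hermForm n F 2 y (w z)) h
      simp [d₂, hs.add_left, hww, Ne.symm (hxz l'), hs.toSesq.zero_left] at this
    by_cases hk1 : k = idx l
    · exact hd2 (hdis _ _ hne' d₂ (by
        have h5 := (D (idx l)).sub_mem (hk1 ▸ hk) (show d₁ ∈ D (idx l) from hidx l)
        rwa [add_sub_cancel_left] at h5) (hidx l'))
    by_cases hk2 : k = idx l'
    · exact hd1 (hdis _ _ hne' d₁ (hidx l) (by
        have h5 := (D (idx l')).sub_mem (hk2 ▸ hk) (show d₂ ∈ D (idx l') from hidx l')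
        rwa [add_sub_cancel_right] at h5))
    have h0 : d₁ + d₂ = 0 := Submodule.disjoint_def.1 (hD.decomp.indep k) _ hk (Submodule.add_mem _
      (Submodule.mem_iSup_of_mem (idx l) (Submodule.mem_iSup_of_mem (Ne.symm hk1) (hidx l)))
      (Submodule.mem_iSup_of_mem (idx l') (Submodule.mem_iSup_of_mem (Ne.symm hk2) (hidx l'))))
    refine hd1 (hdis _ _ hne' d₁ (hidx l) ?_)
    rw [eq_neg_of_add_eq_zero_left h0]
    exact neg_mem (hidx l')
  have hli : LinearIndependent F (fun l => (⟨w z + w (x l), heq l 0 ▸ hidx l⟩ : D (idx 0))) := by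
    rw [Fintype.linearIndependent_iff]
    intro c hc l
    have h1 : hermForm n F 2 (∑ i, c i • (w z + w (x i))) (w (x l)) = 0 := by
      have h5 := congrArg Subtype.val hc
      simp only [AddSubmonoidClass.coe_finset_sum, Submodule.coe_smul, ZeroMemClass.coe_zero] at h5
      rw [h5, hs.toSesq.zero_left]
    change hs.toSesq.lin (w (x l)) _ = 0 at h1
    rw [map_sum] at h1
    rw [Finset.sum_eq_single l (fun i _ hi => by
      show hermForm n F 2 (c i • (w z + w (x i))) (w (x l)) = 0
      rw [hs.smul_left, hs.add_left, hww, hww, if_neg (hxz l), if_neg (fun h => hi (hxinj i l h))]; ring) (by simp)] at h1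
    change hermForm n F 2 (c l • (w z + w (x l))) (w (x l)) = 0 at h1
    rw [hs.smul_left, hs.add_left, hww, hww, if_neg (hxz l), if_pos rfl, zero_add, mul_one] at h1
    exact h1
  have := hli.fintype_card_le_finrank
  rw [hD.decomp.finrank_eq, Fintype.card_fin] at this
  omega

theorem tensor_su_not_maximal (hF : Fintype.card F = 2 ^ 2) (hn : 13 ≤ n) {b : ℕ} {e : Fin n ≃ Fin 2 × Fin b}
    {P : GL (Fin n) F} {f₁ : (Fin 2 → F) → (Fin 2 → F) → F} {f₂ : (Fin b → F) → (Fin b → F) → F}
    (hf₁ : IsUnitaryFormPow 2 f₁) (hf₂ : IsUnitaryFormPow 2 f₂)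
    (hst : IsTensorFormStructure (fun x : F => x ^ 2) (hermForm n F 2) f₁ f₂ e P) :
    ∃ K : Subgroup (GL (Fin n) F), tensorProductSubgroup 2 b e P ⊓ (GU n F 2 ⊓ specialLinear (Fin n) F) < K ∧
      K < GU n F 2 ⊓ specialLinear (Fin n) F := by
  have hcard := Fintype.card_congr e
  simp only [Fintype.card_fin, Fintype.card_prod] at hcard
  have hs := MaxTv.herm_hermForm (n := n) hF
  obtain ⟨D, hD, hle⟩ := tensor_halves hF (b := b) (by omega) hf₁ hf₂ hst
  refine exists_between ((inf_le_inf le_rfl inf_le_left).trans hle) ?_ (not_su_le_decomp hF (by omega) hD.decomp)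
  obtain ⟨d, hd, hd0, hdd⟩ := hs.exists_iso (S := D 0) (by rw [hD.decomp.finrank_eq]; omega)
  obtain ⟨c, hc0, g, hg, hgx⟩ := exists_su_tv hF hdd
  refine ⟨g, ⟨⟨1, fun i => ?_⟩, hg⟩, su_tv_not_mem_tensor hF le_rfl (by omega) e P hd0 hdd hc0 hgx⟩
  refine Submodule.eq_of_le_of_finrank_eq ?_ ?_
  · rintro _ ⟨x, hx, rfl⟩
    rw [Matrix.toLin'_apply, hgx]
    rcases eq_or_ne i 0 with rfl | hi
    · exact add_mem hx (Submodule.smul_mem _ _ hd)
    · rw [hD.orthogonal i 0 hi x hx d hd, mul_zero, zero_smul, add_zero]; exact hx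
  · exact (Submodule.equivMapOfInjective _ (fun a b hab => MaxTv.gl_mulVec_injective g (by
      simpa [Matrix.toLin'_apply] using hab)) (D i)).finrank_eq.symm

theorem tensor_sl_not_maximal (hn : 13 ≤ n) (hq : Fintype.card F = 2) {b : ℕ} (e : Fin n ≃ Fin 2 × Fin b)
    (P : GL (Fin n) F) : ∃ K : Subgroup (GL (Fin n) F),
      tensorProductSubgroup 2 b e P ⊓ specialLinear (Fin n) F < K ∧ K < specialLinear (Fin n) F := by
  classical
  have hcard := Fintype.card_congr e
  simp only [Fintype.card_fin, Fintype.card_prod] at hcard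
  obtain ⟨K, hK, hle, hdata⟩ := tensor_two_field_data hq (b := b) (by omega) e P
  refine exists_between (inf_le_left.trans hle) ?_ (not_sl_le_field (by simp; omega) le_rfl hK)
  let j0 : Fin b := ⟨0, by omega⟩
  let j1 : Fin b := ⟨1, by omega⟩
  have hj : j0 ≠ j1 := by simp [j0, j1, Fin.ext_iff]
  set W := omegaTwo F
  set E : Matrix (Fin b) (Fin b) F := Matrix.single j0 j1 1
  have hEE : E * E = 0 := Matrix.single_mul_single_of_ne _ _ _ _ hj.symm _
  have hsq : (W ⊗ₖ E) * (W ⊗ₖ E) = 0 := by rw [← Matrix.mul_kronecker_mul, hEE, Matrix.kronecker_zero]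
  have hinv : co e P (1 + W ⊗ₖ E) * co e P (1 - W ⊗ₖ E) = 1 := by
    rw [← co_mul, add_mul, one_mul, mul_sub, mul_one, hsq, sub_zero, sub_add_cancel, co_one]
  let g : GL (Fin n) F := ⟨co e P (1 + W ⊗ₖ E), co e P (1 - W ⊗ₖ E), hinv, mul_eq_one_comm.1 hinv⟩
  refine ⟨g, ⟨?_, ?_⟩, ?_⟩
  · intro k
    have hcomm : ∀ k ∈ K, (g : Matrix (Fin n) (Fin n) F) * k = k * g := by
      intro k hk
      obtain ⟨A, rfl, hA⟩ := hdata k hk
      show co e P _ * co e P _ = co e P _ * co e P _
      rw [← co_mul, ← co_mul]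
      congr 1
      rw [add_mul, mul_add, one_mul, mul_one, ← Matrix.mul_kronecker_mul, ← Matrix.mul_kronecker_mul, one_mul,
        mul_one, hA]
    have hcj : ∀ k ∈ K, (g : Matrix (Fin n) (Fin n) F) * k * ((g⁻¹ : GL (Fin n) F) : Matrix (Fin n) (Fin n) F) = k := by
      intro k hk
      rw [hcomm k hk, mul_assoc, Units.mul_inv, mul_one]
    refine ⟨fun hk => (hcj k hk).symm ▸ hk, fun hk => ?_⟩
    have h5 := hcomm _ hk
    rw [mul_assoc (_ * k), Units.inv_mul, mul_one] at h5
    have h6 : (g : Matrix (Fin n) (Fin n) F) * k * ((g⁻¹ : GL (Fin n) F) : Matrix (Fin n) (Fin n) F) = k := by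
      have := congrArg (((g⁻¹ : GL (Fin n) F) : Matrix (Fin n) (Fin n) F) * ·) h5
      rwa [← mul_assoc, Units.inv_mul, one_mul, ← mul_assoc, Units.inv_mul, one_mul] at this
    rwa [h6] at hk
  · refine MonoidHom.mem_ker.2 (Units.ext ?_)
    have h1 : ∀ u : Fˣ, (u : F) = 1 := fun u => by
      have := FiniteField.pow_card_sub_one_eq_one (u : F) u.ne_zero
      rwa [hq, pow_one] at this
    rw [h1, Units.val_one]
  · rintro ⟨_, ⟨k, ⟨A, B, hk⟩, rfl⟩, hgk⟩
    have hgco : co e P (1 + W ⊗ₖ E) = co e P ((A : Matrix (Fin 2) (Fin 2) F) ⊗ₖ (B : Matrix (Fin b) (Fin b) F)) := by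
      show (g : Matrix (Fin n) (Fin n) F) = _
      rw [← hgk, ← hk]; rfl
    have h := fun i j => congrFun (congrFun (co_injective e P hgco) i) j
    have e1 := h (0, j0) (0, j0)
    have e2 := h (0, j0) (1, j1)
    have e3 := h (0, j0) (1, j0)
    simp [W, E, omegaTwo, hj, hj.symm] at e1 e2 e3
    rcases e3 with h' | h'
    · simp [h'] at e2
    · simp [h'] at e1

end Exceptions

section Symplectic

variable {F : Type*} [Field F] [Fintype F] {m : ℕ}

theorem planes_sp_not_maximal (hm : 7 ≤ m) (hq : Fintype.card F = 2) {t : ℕ}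
    {D : Fin t → Submodule F (Fin m ⊕ Fin m → F)} (hD : IsNondegenerateMDecomposition (sympForm m F) 2 D) :
    ∃ K : Subgroup (GL (Fin m ⊕ Fin m) F), decompositionStabilizer D ⊓ spGL m F < K ∧ K < spGL m F := by
  classical
  obtain ⟨Q, hQ, hpol, hle⟩ := planes_quad hq hD
  have h2 : (2 : F) = 0 := by
    have h := Nat.cast_card_eq_zero F
    rwa [hq] at h
  have hall : ∀ x : F, x = 0 ∨ x = 1 := fun x => by
    by_cases hx : x = 0
    · exact Or.inl hx
    · have := FiniteField.pow_card_sub_one_eq_one x hx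
      rw [hq, pow_one] at this
      exact Or.inr this
  have htn : t * 2 = m + m := by simpa using MaxMon.decomp_card hD.decomp
  have hadd : ∀ u v, Q (u + v) = Q u + Q v + sympForm m F u v := fun u v => by
    rw [← hpol, QuadraticMap.polar]; ring
  refine exists_between hle ?_ (not_sp_le_quadSimilarity (by omega) h2 hQ hpol)
  have hone : ∀ i, ∃ u ∈ D i, Q u = 1 := by
    intro i
    by_contra hno
    push Not at hno
    obtain ⟨x, hx, hx0⟩ := Submodule.exists_mem_ne_zero_of_ne_bot (p := D i) fun e => by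
      have := hD.decomp.finrank_eq i
      rw [e, finrank_bot] at this
      omega
    obtain ⟨⟨y, hy, hyx⟩, -⟩ := hD.nondegenerate i x hx hx0
    refine hyx ?_
    have h0 : ∀ u ∈ D i, Q u = 0 := fun u hu => (hall _).resolve_right (hno u hu)
    have := hadd y x
    rw [h0 _ (Submodule.add_mem _ hy hx), h0 y hy, h0 x hx] at this
    simpa using this.symm
  choose u hu hQu using hone
  let p : Fin 3 → Fin t := fun l => ⟨l, by omega⟩
  have hp : ∀ l l', l ≠ l' → p l ≠ p l' := fun l l' h h' => h (by simpa [p, Fin.ext_iff] using h')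
  have horth : ∀ l l', l ≠ l' → sympForm m F (u (p l)) (u (p l')) = 0 := fun l l' h =>
    hD.orthogonal _ _ (hp l l' h) _ (hu _) _ (hu _)
  set v := u (p 0) + u (p 1) + u (p 2) with hv
  have hQv : Q v = 1 := by
    rw [hv, hadd, hadd, hQu, hQu, hQu, sympForm_add_left, horth 0 1 (by decide), horth 0 2 (by decide),
      horth 1 2 (by decide)]
    linear_combination h2
  obtain ⟨g, hg, hgx⟩ := MaxTv.exists_sp_tv (m := m) v 1
  refine ⟨g, ⟨⟨1, fun x => ?_⟩, hg⟩, fun hgD => ?_⟩
  · rw [Units.val_one, one_mul, hgx, one_mul, hadd, hQ.smul, sympForm_smul_right, hQv]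
    linear_combination (sympForm m F x v * sympForm m F x v) * h2
  have hnot : ∀ i, v ∉ D i := by
    intro i hi
    obtain ⟨l, hl⟩ : ∃ l, p l ≠ i := by
      by_contra hno
      push Not at hno
      exact hp 0 1 (by decide) ((hno 0).trans (hno 1).symm)
    obtain ⟨-, x, hx, hne⟩ := hD.nondegenerate (p l) (u (p l)) (hu _) (fun h0 => by
      have h5 := hQu (p l)
      rw [h0, show (0 : Fin m ⊕ Fin m → F) = (0 : F) • (0 : Fin m ⊕ Fin m → F) by simp, hQ.smul] at h5
      simp at h5)
    have h5 : sympForm m F v x = 0 := hD.orthogonal i (p l) (Ne.symm hl) v hi x hx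
    have h6 : ∀ l', l' ≠ l → sympForm m F (u (p l')) x = 0 := fun l' h => hD.orthogonal _ _ (hp l' l h) _ (hu _) x hx
    rw [hv, sympForm_add_left, sympForm_add_left] at h5
    refine hne ?_
    fin_cases l
    · simp only [h6 1 (by decide), h6 2 (by decide), add_zero] at h5; exact h5
    · simp only [h6 0 (by decide), h6 2 (by decide), add_zero, zero_add] at h5; exact h5
    · simp only [h6 0 (by decide), h6 1 (by decide), zero_add] at h5; exact h5
  obtain ⟨i, j, hij, hmm⟩ := tv_decomp hD.decomp hgD (φ := fun x => 1 * sympForm m F x v) hgx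
    (fun a b => by rw [sympForm_add_left, mul_add]) (by
      have hv0 : v ≠ 0 := fun h => hnot (p 0) (by rw [h]; exact zero_mem _)
      obtain ⟨x, hx⟩ := exists_sympForm_eq_one hv0
      exact ⟨x, by rw [one_mul, sympForm_swap, hx]; simp⟩)
  obtain rfl := hmm le_rfl
  rw [sup_idem] at hij
  exact hnot i hij

end Symplectic

end Cfsg.Agent.Classical.Asch
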