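import Cfsg.Agent.Lib.Classical.AschNonMax

/-!
More members of the geometric classes that are contained in larger proper subgroups.
-/

set_option autoImplicit false
set_option linter.unusedSectionVars false
set_option linter.unusedFintypeInType false
set_option linter.unusedDecidableInType false

namespace Cfsg.Agent.Classical.Asch

open Matrix Module Cfsg.Geo
open scoped Kronecker

section General

variable {F : Type*} [Field F] {ι : Type} [Fintype ι] [DecidableEq ι]

/-- No transvection is a tensor product of two matrices of degree at least two. -/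
theorem tv_not_mem_tensor {a b : ℕ} (ha : 2 ≤ a) (hb : 2 ≤ b) (e : ι ≃ Fin a × Fin b) (P : GL ι F)
    {v : ι → F} (hv0 : v ≠ 0) {φ : (ι → F) →ₗ[F] F} (hφ : φ ≠ 0) {g : GL ι F}
    (hgx : ∀ x, (g : Matrix ι ι F) *ᵥ x = x + φ x • v) : g ∉ tensorProductSubgroup a b e P := by
  rintro ⟨_, ⟨k, ⟨A, B, hk⟩, rfl⟩, hgk⟩
  have hgco : (g : Matrix ι ι F) =
      co e P ((A : Matrix (Fin a) (Fin a) F) ⊗ₖ (B : Matrix (Fin b) (Fin b) F)) := by
    rw [← hgk, ← hk]; rfl
  let T : (Fin a × Fin b → F) →ₗ[F] (ι → F) :=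
    (Matrix.toLin' (P : Matrix ι ι F)).comp (LinearMap.funLeft F F e)
  have hT : ∀ x, T x = (P : Matrix ι ι F) *ᵥ (x ∘ e) := fun x => rfl
  have hfix : ∀ x, φ (T x) = 0 →
      ((A : Matrix (Fin a) (Fin a) F) ⊗ₖ (B : Matrix (Fin b) (Fin b) F)) *ᵥ x = x := by
    intro x hx
    have h1 := coords_mulVec e P ((A : Matrix (Fin a) (Fin a) F) ⊗ₖ (B : Matrix (Fin b) (Fin b) F)) (T x)
    rw [← hgco, hgx, hx, zero_smul, add_zero] at h1
    have h2 : (((P⁻¹ : GL ι F) : Matrix ι ι F) *ᵥ T x) ∘ e.symm = x := by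
      rw [hT, Matrix.mulVec_mulVec, Units.inv_mul, Matrix.one_mulVec]; funext p; simp
    rw [h2] at h1
    exact h1.symm
  have hkey : ∀ (y : Fin a → F) (z : Fin b → F), y ≠ 0 → z ≠ 0 → φ (T fun p => y p.1 * z p.2) = 0 →
      ∀ p : Fin a × Fin b, ((A : Matrix (Fin a) (Fin a) F) *ᵥ y) p.1 * ((B : Matrix (Fin b) (Fin b) F) *ᵥ z) p.2 =
        y p.1 * z p.2 := by
    intro y z _ _ h p
    have := congrFun (hfix _ h) p
    simp only [Matrix.mulVec, dotProduct, Matrix.kroneckerMap_apply, Fintype.sum_prod_type] at this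
    rw [← this]
    simp only [Matrix.mulVec, dotProduct, Finset.sum_mul, Finset.mul_sum]
    rw [Finset.sum_comm]
    refine Finset.sum_congr rfl fun i _ => Finset.sum_congr rfl fun j _ => ?_
    ring
  have heig : ∀ (z : Fin b → F), z ≠ 0 → ∃ s : F, (B : Matrix (Fin b) (Fin b) F) *ᵥ z = s • z := by
    intro z hz
    let L : (Fin a → F) →ₗ[F] (Fin a × Fin b → F) :=
      { toFun := fun y p => y p.1 * z p.2
        map_add' := fun y y' => by funext p; simp [add_mul]
        map_smul' := fun s y => by funext p; simp [mul_assoc] }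
    obtain ⟨y, hy0, hy⟩ : ∃ y, y ≠ 0 ∧ φ (T (L y)) = 0 := by
      by_contra hno
      push Not at hno
      have hinj : Function.Injective (φ.comp (T.comp L)) := (injective_iff_map_eq_zero _).2 fun y hy => by
        by_contra h0
        exact hno y h0 hy
      have := LinearMap.finrank_le_finrank_of_injective hinj
      rw [Module.finrank_fintype_fun_eq_card, finrank_self, Fintype.card_fin] at this
      omega
    have h1 := hkey y z hy0 hz hy
    obtain ⟨i, hi⟩ := Function.ne_iff.1 hy0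
    have hA : ((A : Matrix (Fin a) (Fin a) F) *ᵥ y) i ≠ 0 := fun h0 => by
      obtain ⟨j, hj⟩ := Function.ne_iff.1 hz
      have := h1 (i, j)
      rw [h0, zero_mul] at this
      exact mul_ne_zero hi hj this.symm
    refine ⟨(((A : Matrix (Fin a) (Fin a) F) *ᵥ y) i)⁻¹ * y i, funext fun j => ?_⟩
    rw [Pi.smul_apply, smul_eq_mul, mul_assoc, ← h1 (i, j), inv_mul_cancel_left₀ hA]
  have heig' : ∀ (y : Fin a → F), y ≠ 0 → ∃ s : F, (A : Matrix (Fin a) (Fin a) F) *ᵥ y = s • y := by
    intro y hy0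
    let L : (Fin b → F) →ₗ[F] (Fin a × Fin b → F) :=
      { toFun := fun z p => y p.1 * z p.2
        map_add' := fun z z' => by funext p; simp [mul_add]
        map_smul' := fun s z => by funext p; simp [mul_left_comm] }
    obtain ⟨z, hz0, hz⟩ : ∃ z, z ≠ 0 ∧ φ (T (L z)) = 0 := by
      by_contra hno
      push Not at hno
      have hinj : Function.Injective (φ.comp (T.comp L)) := (injective_iff_map_eq_zero _).2 fun y hy => by
        by_contra h0
        exact hno y h0 hy
      have := LinearMap.finrank_le_finrank_of_injective hinj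
      rw [Module.finrank_fintype_fun_eq_card, finrank_self, Fintype.card_fin] at this
      omega
    have h1 := hkey y z hy0 hz0 hz
    obtain ⟨j, hj⟩ := Function.ne_iff.1 hz0
    have hB : ((B : Matrix (Fin b) (Fin b) F) *ᵥ z) j ≠ 0 := fun h0 => by
      obtain ⟨i, hi⟩ := Function.ne_iff.1 hy0
      have := h1 (i, j)
      rw [h0, mul_zero] at this
      exact mul_ne_zero hi hj this.symm
    refine ⟨z j * (((B : Matrix (Fin b) (Fin b) F) *ᵥ z) j)⁻¹, funext fun i => ?_⟩
    rw [Pi.smul_apply, smul_eq_mul, mul_comm _ (y i), ← mul_assoc, ← h1 (i, j), mul_assoc, mul_inv_cancel₀ hB, mul_one]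
  obtain ⟨α, hα⟩ := scalar_of_eigen' heig'
  obtain ⟨β, hβ⟩ := scalar_of_eigen' heig
  have hgs : (g : Matrix ι ι F) = (α * β) • (1 : Matrix ι ι F) := by
    rw [hgco, hα, hβ, Matrix.smul_kronecker, Matrix.kronecker_smul, Matrix.one_kronecker_one, smul_smul, co_smul, co_one]
  obtain ⟨u, hu⟩ : ∃ u, φ u ≠ 0 := by
    by_contra hno
    push Not at hno
    exact hφ (LinearMap.ext fun x => by simpa using hno x)
  have hmem : ∀ x, φ x • v = (α * β - 1) • x := fun x => by
    have := hgx x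
    rw [hgs, Matrix.smul_mulVec, Matrix.one_mulVec] at this
    rw [sub_smul, one_smul, this]; abel
  have hab : α * β - 1 ≠ 0 := fun h0 => by
    have := hmem u
    rw [h0, zero_smul, smul_eq_zero] at this
    exact this.elim hu hv0
  have htop : (⊤ : Submodule F (ι → F)) ≤ F ∙ v := fun x _ => Submodule.mem_span_singleton.2
    ⟨(α * β - 1)⁻¹ * φ x, by rw [← smul_smul, hmem, inv_smul_smul₀ hab]⟩
  have hfin := Submodule.finrank_mono htop
  rw [finrank_top, Module.finrank_fintype_fun_eq_card, finrank_span_singleton hv0, Fintype.card_congr e,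
    Fintype.card_prod, Fintype.card_fin, Fintype.card_fin] at hfin
  nlinarith

end General

section Linear

variable {F : Type*} [Field F] {n : ℕ}

theorem exists_functional {W : Submodule F (Fin n → F)} {u : Fin n → F} (hu : u ∉ W) :
    ∃ φ : Fin n → F, φ ⬝ᵥ u ≠ 0 ∧ ∀ x ∈ W, φ ⬝ᵥ x = 0 := by
  obtain ⟨f, hf, hW⟩ := Submodule.exists_le_ker_of_notMem hu
  have hfe : ∀ x, (fun a => f (Pi.single a 1)) ⬝ᵥ x = f x := fun x => by
    conv_rhs => rw [pi_eq_sum_univ' x]
    simp [dotProduct, mul_comm]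
  exact ⟨fun a => f (Pi.single a 1), by rwa [hfe], fun x hx => (hfe x).trans (LinearMap.mem_ker.1 (hW hx))⟩

theorem flag_not_maximal {W U : Submodule F (Fin n → F)} (hW0 : W ≠ ⊥) (hWU : W < U) (hU : U ≠ ⊤) :
    ∃ K : Subgroup (GL (Fin n) F), subspaceStabilizer W ⊓ subspaceStabilizer U ⊓ specialLinear (Fin n) F < K ∧
      K < specialLinear (Fin n) F := by
  have hn : 2 ≤ Fintype.card (Fin n) := by
    have h1 := Submodule.finrank_lt_finrank_of_lt hWU
    have h2 := Submodule.finrank_lt hU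
    rw [Module.finrank_fin_fun] at h2
    rw [Fintype.card_fin]
    omega
  refine exists_between (inf_le_left.trans inf_le_left) ?_
    (not_sl_le_subspace hn hW0 (fun h => (h ▸ hWU).not_ge le_top))
  obtain ⟨v, -, hv⟩ := SetLike.exists_of_lt (lt_top_iff_ne_top.2 hU)
  obtain ⟨u, hu, huW⟩ := SetLike.exists_of_lt hWU
  obtain ⟨φ, hφu, hφ⟩ := exists_functional (W := W ⊔ F ∙ v) (u := u) (fun h => by
    obtain ⟨w, hw, z, hz, hwz⟩ := Submodule.mem_sup.1 h
    obtain ⟨c, rfl⟩ := Submodule.mem_span_singleton.1 hz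
    rcases eq_or_ne c 0 with rfl | hc
    · exact huW (by rw [← hwz, zero_smul, add_zero]; exact hw)
    · refine hv ((Submodule.smul_mem_iff _ hc).1 ?_)
      rw [show c • v = u - w by rw [← hwz]; abel]
      exact U.sub_mem hu (hWU.le hw))
  obtain ⟨g, hg, hgx⟩ := exists_transvection (hφ v (Submodule.mem_sup_right (Submodule.mem_span_singleton_self v)))
  refine ⟨g, ⟨(MaxTv.mem_subspaceStabilizer_iff W g).2 fun x hx => ?_, hg⟩, fun h => ?_⟩
  · rw [hgx, hφ x (Submodule.mem_sup_left hx), zero_smul, add_zero]; exact hx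
  · have h1 := (MaxTv.mem_subspaceStabilizer_iff U g).1 h.2 u hu
    rw [hgx, Submodule.add_mem_iff_right _ hu, Submodule.smul_mem_iff _ hφu] at h1
    exact hv h1

theorem complements_not_maximal {W U : Submodule F (Fin n → F)} (hW0 : W ≠ ⊥) (hinf : W ⊓ U = ⊥)
    (hsup : W ⊔ U = ⊤) (hU0 : U ≠ ⊥) :
    ∃ K : Subgroup (GL (Fin n) F), subspaceStabilizer W ⊓ subspaceStabilizer U ⊓ specialLinear (Fin n) F < K ∧
      K < specialLinear (Fin n) F := by
  have hWt : W ≠ ⊤ := fun h => hU0 (by rwa [h, top_inf_eq] at hinf)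
  have hn : 2 ≤ Fintype.card (Fin n) := by
    have h1 := Submodule.finrank_lt hWt
    have h2 : 1 ≤ finrank F W := Submodule.one_le_finrank_iff.2 hW0
    rw [Module.finrank_fin_fun] at h1
    rw [Fintype.card_fin]
    omega
  refine exists_between (inf_le_left.trans inf_le_left) ?_ (not_sl_le_subspace hn hW0 hWt)
  obtain ⟨v, hvW, hv0⟩ := Submodule.exists_mem_ne_zero_of_ne_bot hW0
  obtain ⟨z, -, hz⟩ := SetLike.exists_of_lt (lt_top_iff_ne_top.2 hWt)
  obtain ⟨φ, hφz, hφ⟩ := exists_functional hz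
  obtain ⟨g, hg, hgx⟩ := exists_transvection (hφ v hvW)
  refine ⟨g, ⟨(MaxTv.mem_subspaceStabilizer_iff W g).2 fun x hx => ?_, hg⟩, fun h => ?_⟩
  · rw [hgx, hφ x hx, zero_smul, add_zero]; exact hx
  · have hzWU : z ∈ W ⊔ U := by rw [hsup]; trivial
    obtain ⟨w, hw, u, hu, hwu⟩ := Submodule.mem_sup.1 hzWU
    have hφu : φ ⬝ᵥ u ≠ 0 := by
      rw [← hwu, dotProduct_add, hφ w hw, zero_add] at hφz
      exact hφz
    have h1 := (MaxTv.mem_subspaceStabilizer_iff U g).1 h.2 u hu
    rw [hgx, Submodule.add_mem_iff_right _ hu, Submodule.smul_mem_iff _ hφu] at h1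
    exact hv0 ((Submodule.disjoint_def.1 (disjoint_iff.2 hinf)) v hvW h1)

end Linear

section Symplectic

variable {F : Type*} [Field F] [Fintype F] {m : ℕ}

theorem tensor_sp_not_maximal (hq : Fintype.card F = 3) {a : ℕ} (ha : 2 ≤ a)
    {e : (Fin m ⊕ Fin m) ≃ Fin a × Fin 3} {P : GL (Fin m ⊕ Fin m) F}
    {f₁ : (Fin a → F) → (Fin a → F) → F} {f₂ : (Fin 3 → F) → (Fin 3 → F) → F}
    (hf₁ : IsSymplecticForm f₁) (hf₂ : IsSymmetricForm f₂)
    (hst : IsTensorFormStructure id (sympForm m F) f₁ f₂ e P) :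
    ∃ K : Subgroup (GL (Fin m ⊕ Fin m) F), tensorProductSubgroup a 3 e P ⊓ spGL m F < K ∧ K < spGL m F := by
  obtain ⟨D, hD, hle⟩ := tensor_three_decomp hq ha hf₁ hf₂ hst
  refine exists_between hle ?_ (not_sp_le_decomp hD.decomp)
  obtain ⟨d, hd, hd0⟩ := Submodule.exists_mem_ne_zero_of_ne_bot (p := D 0) fun h => by
    have := hD.decomp.finrank_eq 0
    rw [h, finrank_bot] at this
    omega
  obtain ⟨g, hg, hgx⟩ := MaxTv.exists_sp_tv (m := m) d 1
  refine ⟨g, ⟨⟨1, fun i => ?_⟩, hg⟩, ?_⟩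
  · refine Submodule.eq_of_le_of_finrank_eq ?_ ?_
    · rintro _ ⟨x, hx, rfl⟩
      rw [Matrix.toLin'_apply, hgx, one_mul]
      rcases eq_or_ne i 0 with rfl | hi
      · exact add_mem hx (Submodule.smul_mem _ _ hd)
      · rw [hD.orthogonal i 0 hi x hx d hd, zero_smul, add_zero]; exact hx
    · exact (Submodule.equivMapOfInjective _ (fun a b hab => MaxTv.gl_mulVec_injective g (by
        simpa [Matrix.toLin'_apply] using hab)) (D i)).finrank_eq.symm
  · let φ : (Fin m ⊕ Fin m → F) →ₗ[F] F :=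
      { toFun := fun x => sympForm m F x d
        map_add' := fun x y => sympForm_add_left x y d
        map_smul' := fun c x => by rw [sympForm_smul_left]; rfl }
    refine tv_not_mem_tensor ha (by norm_num) e P hd0 (φ := φ) (fun h => ?_) (fun x => by rw [hgx, one_mul]; rfl)
    obtain ⟨x, hx⟩ := exists_sympForm_eq_one hd0
    have h1 : sympForm m F x d = 0 := LinearMap.congr_fun h x
    rw [sympForm_swap, hx] at h1
    simp at h1

end Symplectic

end Cfsg.Agent.Classical.Asch
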