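import Cfsg.Agent.Lib.Classical.AschOrthPlane

/-!
Stabilisers of totally singular subspaces are maximal in `Ω`: an overgroup with all Siegel elements at two
non-orthogonal singular points contains all of them.
-/

set_option autoImplicit false
set_option linter.unusedSectionVars false
set_option linter.unusedFintypeInType false
set_option linter.unusedDecidableInType false
set_option quotPrecheck false

namespace Cfsg.Agent.Classical.AschOrthTwo

open Matrix Module Cfsg.Geo OrthAut
open MaxTv (Full full_map)

variable {F : Type*} [Field F] [Fintype F] {ι : Type} [Fintype ι] [DecidableEq ι] {Q : QuadraticForm F (ι → F)}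
  {M : Subgroup (GL ι F)}

local notation "B" => QuadraticMap.polar ⇑Q
local notation "Mn" => Matrix ι ι F

theorem full_smul {x : ι → F} {c : F} (hc : c ≠ 0) (h : Full Q M x) : Full Q M (c • x) := by
  intro b hb
  rw [QuadraticMap.polar_smul_left, smul_eq_mul] at hb
  obtain ⟨t, ht, htx⟩ := h (c • b) (by
    rw [QuadraticMap.polar_smul_right, (mul_eq_zero.1 hb).resolve_left hc, smul_zero])
  refine ⟨t, ht, ?_⟩
  rw [htx]
  refine Matrix.ext_iff_mulVec.2 fun z => ?_
  rw [eMat_mulVec, eMat_mulVec]
  simp only [QuadraticMap.polar_smul_left, QuadraticMap.map_smul, smul_eq_mul, smul_smul]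
  ring_nf

variable (hiso : ∀ k : GL ι F, k ∈ M → ∀ x : ι → F, Q ((k : Matrix ι ι F) *ᵥ x) = Q x)
include hiso

/-- Siegel elements at a point move any non-orthogonal singular point to any other. -/
theorem full_of_pair {y y' z : ι → F} (hy : Q y = 0) (hy' : Q y' = 0) (hz : Q z = 0) (h : Full Q M y)
    (h' : Full Q M y') (hyy : B y y' ≠ 0) (hyz : B y z ≠ 0) : Full Q M z := by
  set p := (B y y')⁻¹ • y'
  set r := (B y z)⁻¹ • z
  have hp : B y p = 1 := by rw [QuadraticMap.polar_smul_right, smul_eq_mul, inv_mul_cancel₀ hyy]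
  have hr : B y r = 1 := by rw [QuadraticMap.polar_smul_right, smul_eq_mul, inv_mul_cancel₀ hyz]
  have hQp : Q p = 0 := by rw [QuadraticMap.map_smul, hy', smul_zero]
  have hQr : Q r = 0 := by rw [QuadraticMap.map_smul, hz, smul_zero]
  obtain ⟨t, ht, htx⟩ := h (r - p) (by rw [QuadraticMap.polar_sub_right, hr, hp, sub_self])
  have hb : B (r - p) p + Q (r - p) = 0 := by
    have h1 : Q (p + (r - p)) = Q r := by rw [add_sub_cancel]
    rw [OrthAut.quad_add, hQp, hQr, zero_add, QuadraticMap.polar_comm] at h1
    linear_combination h1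
  have himg : (t : Mn) *ᵥ p = r := by
    rw [htx, eMat_mulVec, hp, one_smul, mul_one, sub_sub, ← add_smul, hb, zero_smul, sub_zero, add_sub_cancel]
  have h2 := full_map hiso (full_smul (inv_ne_zero hyy) h') ht
  rw [himg] at h2
  have h3 := full_smul hyz h2
  rwa [smul_inv_smul₀ hyz] at h3

/-- Two non-orthogonal points with all their Siegel elements give all singular points. -/
theorem full_of_pair_all (hQ : (QuadraticMap.polarBilin Q).Nondegenerate) {y y' : ι → F} (hy : Q y = 0)
    (hy' : Q y' = 0) (h : Full Q M y) (h' : Full Q M y') (hyy : B y y' ≠ 0) {z : ι → F} (hz : Q z = 0) :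
    Full Q M z := by
  by_cases hyz : B y z = 0
  swap
  · exact full_of_pair hiso hy hy' hz h h' hyy hyz
  by_cases hz0 : z = 0
  · rw [hz0]; exact MaxTv.full_zero
  obtain ⟨v, hv⟩ : ∃ v, B z v ≠ 0 := by
    by_contra hno
    push Not at hno
    exact hz0 (hQ.1 z hno)
  obtain ⟨w, hw1, hw2⟩ : ∃ w, B y w ≠ 0 ∧ B z w ≠ 0 := by
    by_cases h1 : B y v = 0
    · by_cases h2 : B z y' = 0
      · refine ⟨y' + v, ?_, ?_⟩
        · rw [QuadraticMap.polar_add_right, h1, add_zero]; exact hyy
        · rw [QuadraticMap.polar_add_right, h2, zero_add]; exact hv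
      · exact ⟨y', hyy, h2⟩
    · exact ⟨v, h1, hv⟩
  set u := w + (-(Q w) / B y w) • y
  have hu : Q u = 0 := by
    rw [OrthAut.quad_add, QuadraticMap.map_smul, hy, QuadraticMap.polar_smul_right, QuadraticMap.polar_comm _ w y,
      smul_eq_mul, smul_eq_mul, div_mul_cancel₀ _ hw1]
    ring
  have hyu : B y u ≠ 0 := by
    rw [QuadraticMap.polar_add_right, QuadraticMap.polar_smul_right, OrthAut.polar_self' hy, smul_zero, add_zero]
    exact hw1
  have hzu : B u z ≠ 0 := by
    rw [QuadraticMap.polar_comm, QuadraticMap.polar_add_right, QuadraticMap.polar_smul_right,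
      QuadraticMap.polar_comm _ z y, hyz, smul_zero, add_zero]
    exact hw2
  have hfu := full_of_pair hiso hy hy' hu h h' hyy hyu
  exact full_of_pair hiso hu hy hz hfu h (by rwa [QuadraticMap.polar_comm]) hzu

omit hiso

/-- Stabilisers of totally singular subspaces are maximal. -/
theorem parabolic_maximal (hQ : (QuadraticMap.polarBilin Q).Nondegenerate) (h13 : 7 ≤ Fintype.card ι)
    {W : Submodule F (ι → F)} (hW0 : W ≠ ⊥) (hW : ∀ w ∈ W, Q w = 0)
    (hex : ∀ y, Q y = 0 → y ∉ W → (∀ w ∈ W, B w y = 0) → Fintype.card ι ≠ 2 * finrank F W + 2) :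
    IsMaximalIn (Geo.omegaGL ⇑Q) (subspaceStabilizer W ⊓ Geo.omegaGL ⇑Q) := by
  classical
  have hT : Tri Q := tri_of_card hQ (by omega)
  have hWB : ∀ x ∈ W, ∀ y ∈ W, B x y = 0 := fun x hx y hy => MaxTv.polar_zero_of_sing hW hx hy
  have hperp : W ≤ LinearMap.BilinForm.orthogonal (QuadraticMap.polarBilin Q) W := fun x hx w hw => hWB w hw x hx
  have hrk : 2 * finrank F W ≤ Fintype.card ι := by
    have h1 := Submodule.finrank_mono hperp
    rw [LinearMap.BilinForm.finrank_orthogonal hQ, Module.finrank_pi] at h1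
    have h2 := Submodule.finrank_le W
    rw [Module.finrank_pi] at h2
    omega
  have hpair : ∀ a : ι → F, a ≠ 0 → Q a = 0 → ∃ e, Q e = 0 ∧ B a e = 1 := by
    intro a ha hQa
    obtain ⟨z, hz⟩ : ∃ z, B a z ≠ 0 := by
      by_contra hno
      push Not at hno
      exact ha (hQ.1 a hno)
    obtain ⟨z', h1⟩ : ∃ z', B a z' = 1 :=
      ⟨(B a z)⁻¹ • z, by rw [QuadraticMap.polar_smul_right, smul_eq_mul, inv_mul_cancel₀ hz]⟩
    refine ⟨z' + (-Q z') • a, ?_, ?_⟩
    · rw [OrthAut.quad_add, QuadraticMap.map_smul, hQa, QuadraticMap.polar_smul_right, QuadraticMap.polar_comm, h1]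
      simp
    · rw [QuadraticMap.polar_add_right, QuadraticMap.polar_smul_right, h1, OrthAut.polar_self' hQa]
      simp
  obtain ⟨a, ha, ha0⟩ := Submodule.exists_mem_ne_zero_of_ne_bot hW0
  refine MaxTv.isMaximalIn_intro inf_le_right (fun hle => ?_) fun M hHM hMG g hgM hgH => ?_
  · obtain ⟨e, he, hae⟩ := hpair a ha0 (hW a ha)
    set K := LinearMap.BilinForm.orthogonal (QuadraticMap.polarBilin Q) (Submodule.span F {e, a})
    obtain ⟨w, hwK, hwW⟩ : ∃ w ∈ K, w ∉ W ⊔ Submodule.span F {e} := by
      by_contra hno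
      push Not at hno
      have h1 := Submodule.finrank_mono (show K ≤ W ⊔ Submodule.span F {e} from hno)
      rw [LinearMap.BilinForm.finrank_orthogonal hQ, Module.finrank_pi] at h1
      have h2 := Submodule.finrank_add_le_finrank_add_finrank W (Submodule.span F {e})
      have h3 : finrank F (Submodule.span F ({e} : Set (ι → F))) ≤ 1 := by
        simpa using finrank_span_le_card ({e} : Set (ι → F))
      have h4 : finrank F (Submodule.span F ({e, a} : Set (ι → F))) ≤ 2 := by
        have h5 := finrank_span_le_card (R := F) ({e, a} : Set (ι → F))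
        have h6 : ({e, a} : Set (ι → F)).toFinset.card ≤ 2 := by
          rw [Set.toFinset_insert, Set.toFinset_singleton]
          exact Finset.card_le_two
        omega
      omega
    have hew : B e w = 0 := hwK e (Submodule.subset_span (by simp))
    have haw : B a w = 0 := hwK a (Submodule.subset_span (by simp))
    obtain ⟨t, ht, htx⟩ := exists_siegel hQ hT he hew
    have h1 := (MaxTv.mem_subspaceStabilizer_iff W t).1 (hle ht).1 a ha
    rw [htx, QuadraticMap.polar_comm _ e a, hae, QuadraticMap.polar_comm _ w a, haw, one_smul, zero_smul, sub_zero,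
      mul_one, add_sub_assoc, Submodule.add_mem_iff_right _ ha] at h1
    refine hwW (Submodule.mem_sup.2 ⟨_, h1, Q w • e,
      Submodule.smul_mem _ _ (Submodule.mem_span_singleton_self e), sub_add_cancel _ _⟩)
  have hiso : ∀ k ∈ M, ∀ x, Q ((k : Mn) *ᵥ x) = Q x := fun k hk => MaxTv.isometry_of_mem_omegaGL (hMG hk)
  have hfull : ∀ a ∈ W, Full Q M a := by
    intro a ha b hab
    obtain ⟨t, ht, htx⟩ := exists_siegel hQ hT (hW a ha) hab
    refine ⟨t, hHM ⟨(MaxTv.mem_subspaceStabilizer_iff W t).2 fun x hx => ?_, ht⟩,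
      Matrix.ext_iff_mulVec.2 fun x => by rw [htx, eMat_mulVec]⟩
    rw [htx, hWB a ha x hx]
    simp only [zero_smul, add_zero, mul_zero, sub_zero]
    exact W.sub_mem hx (W.smul_mem _ ha)
  obtain ⟨a', ha', hga⟩ : ∃ a' ∈ W, (g : Mn) *ᵥ a' ∉ W := by
    by_contra hno
    push Not at hno
    exact hgH ⟨(MaxTv.mem_subspaceStabilizer_iff W g).2 hno, hMG hgM⟩
  set y := (g : Mn) *ᵥ a'
  have hy0 : Q y = 0 := by rw [hiso g hgM, hW a' ha']
  have hfy : Full Q M y := full_map hiso (hfull a' ha') hgM
  obtain ⟨p, p', hp, hp', hfp, hfp', hpp⟩ : ∃ p p', Q p = 0 ∧ Q p' = 0 ∧ Full Q M p ∧ Full Q M p' ∧ B p p' ≠ 0 := by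
    by_cases hyW : ∀ w ∈ W, B w y = 0
    swap
    · push Not at hyW
      obtain ⟨w, hw, hwy⟩ := hyW
      exact ⟨w, y, hW w hw, hy0, hfull w hw, hfy, hwy⟩
    obtain ⟨x, hx, hxy⟩ : ∃ x, (∀ w ∈ W, B w x = 0) ∧ B y x ≠ 0 := by
      by_contra hno
      push Not at hno
      have h1 : y ∈ LinearMap.BilinForm.orthogonal (QuadraticMap.polarBilin Q)
          (LinearMap.BilinForm.orthogonal (QuadraticMap.polarBilin Q) W) := fun x hx => by
        show B x y = 0
        rw [QuadraticMap.polar_comm]
        exact hno x hx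
      rw [LinearMap.BilinForm.orthogonal_orthogonal hQ
        (fun u v (h : B u v = 0) => show B v u = 0 by rwa [QuadraticMap.polar_comm])] at h1
      exact hga h1
    obtain ⟨x₁, hx₁W, hyx₁⟩ : ∃ x₁, (∀ w ∈ W, B w x₁ = 0) ∧ B y x₁ = 1 :=
      ⟨(B y x)⁻¹ • x, fun w hw => by rw [QuadraticMap.polar_smul_right, hx w hw, smul_zero],
        by rw [QuadraticMap.polar_smul_right, smul_eq_mul, inv_mul_cancel₀ hxy]⟩
    set e := x₁ + (-Q x₁) • y
    have heW : ∀ w ∈ W, B w e = 0 := fun w hw => by
      rw [QuadraticMap.polar_add_right, QuadraticMap.polar_smul_right, hx₁W w hw, hyW w hw, smul_zero, add_zero]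
    have hye : B y e = 1 := by
      rw [QuadraticMap.polar_add_right, QuadraticMap.polar_smul_right, hyx₁, OrthAut.polar_self' hy0]
      simp
    have hQe : Q e = 0 := by
      rw [OrthAut.quad_add, QuadraticMap.map_smul, hy0, QuadraticMap.polar_smul_right, QuadraticMap.polar_comm, hyx₁]
      simp
    set T := LinearMap.BilinForm.orthogonal (QuadraticMap.polarBilin Q) (W ⊔ Submodule.span F {y, e})
    have hTW : ∀ z ∈ T, ∀ w ∈ W, B w z = 0 := fun z hz w hw => hz w (Submodule.mem_sup_left hw)
    have hTy : ∀ z ∈ T, B y z = 0 := fun z hz => hz y (Submodule.mem_sup_right (Submodule.subset_span (by simp)))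
    have hTe : ∀ z ∈ T, B e z = 0 := fun z hz => hz e (Submodule.mem_sup_right (Submodule.subset_span (by simp)))
    obtain ⟨w, hw, hQw⟩ : ∃ w ∈ T, Q w ≠ 0 := by
      by_contra hno
      push Not at hno
      have hTT : ∀ u ∈ T, ∀ v ∈ T, B u v = 0 := fun u hu v hv => MaxTv.polar_zero_of_sing hno hu hv
      have hle : T ≤ W := by
        intro z hz
        have h1 : z ∈ LinearMap.BilinForm.orthogonal (QuadraticMap.polarBilin Q)
            (LinearMap.BilinForm.orthogonal (QuadraticMap.polarBilin Q) W) := fun v hv => by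
          show B v z = 0
          have hv' : v - B v e • y - B v y • e ∈ T := by
            intro s hs
            obtain ⟨w, hw, s', hs', rfl⟩ := Submodule.mem_sup.1 hs
            obtain ⟨c, d, rfl⟩ := Submodule.mem_span_pair.1 hs'
            show B (w + (c • y + d • e)) _ = 0
            simp only [QuadraticMap.polar_add_left, QuadraticMap.polar_smul_left, QuadraticMap.polar_sub_right,
              QuadraticMap.polar_smul_right, smul_eq_mul, show B w v = 0 from hv w hw, hyW w hw, heW w hw, hye,
              QuadraticMap.polar_comm _ e y, OrthAut.polar_self' hy0, OrthAut.polar_self' hQe,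
              QuadraticMap.polar_comm _ v e, QuadraticMap.polar_comm _ v y]
            ring
          have h2 := hTT _ hv' z hz
          rw [QuadraticMap.polar_sub_left, QuadraticMap.polar_sub_left, QuadraticMap.polar_smul_left,
            QuadraticMap.polar_smul_left, hTy z hz, hTe z hz] at h2
          simpa using h2
        rwa [LinearMap.BilinForm.orthogonal_orthogonal hQ
          (fun u v (h : B u v = 0) => show B v u = 0 by rwa [QuadraticMap.polar_comm])] at h1
      have h1 := Submodule.finrank_mono hle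
      rw [LinearMap.BilinForm.finrank_orthogonal hQ, Module.finrank_pi] at h1
      have h2 := Submodule.finrank_add_le_finrank_add_finrank W (Submodule.span F {y, e})
      have h3 : finrank F (Submodule.span F ({y, e} : Set (ι → F))) ≤ 2 := by
        have h5 := finrank_span_le_card (R := F) ({y, e} : Set (ι → F))
        have h6 : ({y, e} : Set (ι → F)).toFinset.card ≤ 2 := by
          rw [Set.toFinset_insert, Set.toFinset_singleton]
          exact Finset.card_le_two
        omega
      have h4 := hex y hy0 hga hyW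
      -- the span of `W`, `y`, `e` is non-degenerate modulo `W`
      have h7 : finrank F W + 2 ≤ Fintype.card ι - finrank F W := by
        have hWy : W ⊔ Submodule.span F {y} ≤
            LinearMap.BilinForm.orthogonal (QuadraticMap.polarBilin Q) W := by
          refine sup_le hperp ((Submodule.span_singleton_le_iff_mem y _).2 hyW)
        have hne : e ∉ W ⊔ Submodule.span F {y} := by
          intro h
          obtain ⟨w, hw, z, hz, hwz⟩ := Submodule.mem_sup.1 h
          obtain ⟨c, rfl⟩ := Submodule.mem_span_singleton.1 hz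
          have h8 : B y e = 0 := by
            rw [← hwz, QuadraticMap.polar_add_right, QuadraticMap.polar_smul_right, OrthAut.polar_self' hy0,
              QuadraticMap.polar_comm, hyW w hw, smul_zero, add_zero]
          rw [hye] at h8
          exact one_ne_zero h8
        have h9 := Submodule.finrank_mono (show (W ⊔ Submodule.span F {y}) ⊔ Submodule.span F {e} ≤
          LinearMap.BilinForm.orthogonal (QuadraticMap.polarBilin Q) W from
          sup_le hWy ((Submodule.span_singleton_le_iff_mem e _).2 heW))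
        rw [Submodule.finrank_sup_span_singleton hne, Submodule.finrank_sup_span_singleton hga,
          LinearMap.BilinForm.finrank_orthogonal hQ, Module.finrank_pi] at h9
        omega
      omega
    obtain ⟨t, ht, htx⟩ := exists_siegel hQ hT hQe (hTe w hw)
    have htM : t ∈ M := hHM ⟨(MaxTv.mem_subspaceStabilizer_iff W t).2 fun x hx => by
      rw [htx, QuadraticMap.polar_comm _ e x, heW x hx, QuadraticMap.polar_comm _ w x, hTW w hw x hx]
      simpa using hx, ht⟩
    refine ⟨y, (t : Mn) *ᵥ y, hy0, by rw [hiso t htM, hy0], hfy, full_map hiso hfy htM, ?_⟩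
    rw [htx, QuadraticMap.polar_comm _ e y, hye, QuadraticMap.polar_comm _ w y, hTy w hw]
    simp only [one_smul, zero_smul, sub_zero, mul_one, QuadraticMap.polar_add_right, QuadraticMap.polar_sub_right,
      QuadraticMap.polar_smul_right, hTy w hw, hye, OrthAut.polar_self' hy0, smul_eq_mul, mul_one, add_zero, zero_sub]
    exact neg_ne_zero.2 hQw
  exact MaxTv.omegaGL_le_of_roots hQ hT fun a b hab => full_of_pair_all hiso hQ hp hp' hfp hfp' hpp hab.1 b hab.2.2.1

end Cfsg.Agent.Classical.AschOrthTwo
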