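import Cfsg.Agent.Lib.Classical.AschOrthParabolic

/-!
Stabilisers of non-singular points are maximal in orthogonal groups in characteristic two.
-/

set_option autoImplicit false
set_option linter.unusedSectionVars false
set_option linter.unusedFintypeInType false
set_option linter.unusedDecidableInType false
set_option quotPrecheck false

namespace Cfsg.Agent.Classical.AschOrthTwo

open Matrix Module Cfsg.Geo OrthAut
open MaxTv (Full full_map)

variable {F : Type*} [Field F] [Fintype F] {ι : Type} [Fintype ι] [DecidableEq ι] {Q : QuadraticForm F (ι → F)}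

local notation "B" => QuadraticMap.polar ⇑Q
local notation "Mn" => Matrix ι ι F

/-- Over characteristic two the stabiliser of a non-singular point is maximal. -/
theorem point_maximal (h2 : (2 : F) = 0) (hQ : (QuadraticMap.polarBilin Q).Nondegenerate)
    (h13 : 7 ≤ Fintype.card ι) {v : ι → F} (hv : Q v ≠ 0) :
    IsMaximalIn (Geo.omegaGL ⇑Q) (subspaceStabilizer (Submodule.span F {v}) ⊓ Geo.omegaGL ⇑Q) := by
  classical
  have hT : Tri Q := tri_of_card hQ (by omega)
  have hv0 : v ≠ 0 := fun h => hv (by rw [h, QuadraticMap.map_zero])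
  have hself : ∀ x, B x x = 0 := fun x => by
    rw [QuadraticMap.polar_self, two_nsmul, ← two_mul, h2, zero_mul]
  have hrad : ∀ (S : Submodule F (ι → F)) (k : ℕ), finrank F S ≤ k → 2 * k + 3 ≤ Fintype.card ι →
      finrank F (LinearMap.BilinForm.orthogonal (QuadraticMap.polarBilin Q) S ⊓
        LinearMap.BilinForm.orthogonal (QuadraticMap.polarBilin Q)
          (LinearMap.BilinForm.orthogonal (QuadraticMap.polarBilin Q) S) : Submodule F (ι → F)) + 3 ≤
      finrank F (LinearMap.BilinForm.orthogonal (QuadraticMap.polarBilin Q) S) := by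
    intro S k hk hk'
    have h1 := Submodule.finrank_mono (inf_le_right : LinearMap.BilinForm.orthogonal (QuadraticMap.polarBilin Q) S ⊓
        LinearMap.BilinForm.orthogonal (QuadraticMap.polarBilin Q)
          (LinearMap.BilinForm.orthogonal (QuadraticMap.polarBilin Q) S) ≤ _)
    rw [LinearMap.BilinForm.orthogonal_orthogonal hQ
      (fun u v (h : B u v = 0) => show B v u = 0 by rwa [QuadraticMap.polar_comm])] at h1
    rw [LinearMap.BilinForm.orthogonal_orthogonal hQ
      (fun u v (h : B u v = 0) => show B v u = 0 by rwa [QuadraticMap.polar_comm]),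
      LinearMap.BilinForm.finrank_orthogonal hQ, Module.finrank_pi]
    omega
  refine MaxTv.isMaximalIn_intro inf_le_right (fun hle => ?_) fun M hHM hMG g hgM hgH => ?_
  · obtain ⟨e, -, hQe, hev⟩ := MaxTv.exists_sing_pairing (Q := Q) (T := ⊤) (y := v) (by
      have h1 : (⊤ : Submodule F (ι → F)) ⊓ LinearMap.BilinForm.orthogonal (QuadraticMap.polarBilin Q) ⊤ = ⊥ := by
        refine (Submodule.eq_bot_iff _).2 fun x hx => hQ.2 x fun y => hx.2 y trivial
      rw [h1, finrank_bot, finrank_top, Module.finrank_pi]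
      omega) (by
      obtain ⟨z, hz⟩ : ∃ z, B v z ≠ 0 := by
        by_contra hno
        push Not at hno
        exact hv0 (hQ.1 v hno)
      exact ⟨z, trivial, by rwa [QuadraticMap.polar_comm]⟩)
    obtain ⟨w, hew, hw⟩ : ∃ w, B e w = 0 ∧ w ∉ Submodule.span F {e, v} := by
      by_contra hno
      push Not at hno
      have h1 := Submodule.finrank_mono (show LinearMap.BilinForm.orthogonal (QuadraticMap.polarBilin Q)
        (Submodule.span F {e}) ≤ Submodule.span F {e, v} from
          fun w hw => hno w (hw e (Submodule.mem_span_singleton_self e)))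
      rw [LinearMap.BilinForm.finrank_orthogonal hQ, Module.finrank_pi] at h1
      have h5 := finrank_span_le_card (R := F) ({e, v} : Set (ι → F))
      have h6 : ({e, v} : Set (ι → F)).toFinset.card ≤ 2 := by
        rw [Set.toFinset_insert, Set.toFinset_singleton]
        exact Finset.card_le_two
      have h7 : finrank F (Submodule.span F ({e} : Set (ι → F))) ≤ 1 := by
        simpa using finrank_span_le_card (R := F) ({e} : Set (ι → F))
      omega
    obtain ⟨t, ht, htx⟩ := exists_siegel hQ hT hQe hew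
    have h1 := (MaxTv.mem_subspaceStabilizer_iff _ t).1 (hle ht).1 v (Submodule.mem_span_singleton_self v)
    rw [htx, add_sub_assoc, add_sub_assoc, Submodule.add_mem_iff_right _ (Submodule.mem_span_singleton_self v)] at h1
    obtain ⟨c, hc⟩ := Submodule.mem_span_singleton.1 h1
    refine hw ((Submodule.smul_mem_iff _ hev).1 ?_)
    rw [Submodule.mem_span_pair]
    refine ⟨B w v + Q w * B e v, c, ?_⟩
    linear_combination (norm := module) hc
  have hiso : ∀ k : GL ι F, k ∈ M → ∀ x : ι → F, Q ((k : Matrix ι ι F) *ᵥ x) = Q x :=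
    fun k hk => MaxTv.isometry_of_mem_omegaGL (hMG hk)
  set u := (g : Mn) *ᵥ v
  have hu : u ∉ Submodule.span F {v} := fun h => hgH ⟨(MaxTv.mem_subspaceStabilizer_iff _ g).2 fun x hx => by
    obtain ⟨c, rfl⟩ := Submodule.mem_span_singleton.1 hx
    rw [Matrix.mulVec_smul]
    exact Submodule.smul_mem _ _ h, hMG hgM⟩
  have hroot : ∀ e b, Q e = 0 → B e b = 0 → B e v = 0 → B b v = 0 → ∃ t ∈ M, (t : Mn) = eMat Q e b := by
    intro e b he heb hev hbv
    obtain ⟨t, ht, htx⟩ := exists_siegel hQ hT he heb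
    refine ⟨t, hHM ⟨(MaxTv.mem_subspaceStabilizer_iff _ t).2 fun x hx => ?_, ht⟩,
      Matrix.ext_iff_mulVec.2 fun x => by rw [htx, eMat_mulVec]⟩
    obtain ⟨c, rfl⟩ := Submodule.mem_span_singleton.1 hx
    rw [htx]
    simp only [QuadraticMap.polar_smul_right, hev, hbv, smul_zero, mul_zero, zero_smul, add_zero, sub_zero]
    exact hx
  have hroot' : ∀ e b, Q e = 0 → B e b = 0 → B e u = 0 → B b u = 0 → ∃ t ∈ M, (t : Mn) = eMat Q e b := by
    intro e b he heb heu hbu
    set h : GL ι F := g⁻¹
    have hh : h ∈ M := inv_mem hgM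
    have hinv : ∀ x, (h : Mn) *ᵥ ((g : Mn) *ᵥ x) = x := fun x => by
      rw [Matrix.mulVec_mulVec, Units.inv_mul, Matrix.one_mulVec]
    have hinv' : ∀ x, (g : Mn) *ᵥ ((h : Mn) *ᵥ x) = x := fun x => by
      rw [Matrix.mulVec_mulVec, Units.mul_inv, Matrix.one_mulVec]
    have hB : ∀ x y, B ((h : Mn) *ᵥ x) ((h : Mn) *ᵥ y) = B x y := isometry_polar (hiso h hh)
    obtain ⟨t, ht, htx⟩ := hroot _ ((h : Mn) *ᵥ b) (by rw [hiso h hh, he]) (by rw [hB, heb])
      (by rw [← hinv v, hB]; exact heu) (by rw [← hinv v, hB]; exact hbu)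
    refine ⟨g * t * h, mul_mem (mul_mem hgM ht) hh, Matrix.ext_iff_mulVec.2 fun y => ?_⟩
    rw [Units.val_mul, Units.val_mul, ← Matrix.mulVec_mulVec, ← Matrix.mulVec_mulVec, htx, Matrix.mulVec_mulVec,
      isometry_eMat (hiso g hgM), ← Matrix.mulVec_mulVec, hinv', hinv', hinv']
  set S := Submodule.span F ({u, v} : Set (ι → F))
  set T := LinearMap.BilinForm.orthogonal (QuadraticMap.polarBilin Q) S
  have hTu : ∀ z ∈ T, B z u = 0 := fun z hz => by
    rw [QuadraticMap.polar_comm]; exact hz u (Submodule.subset_span (by simp))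
  have hTv : ∀ z ∈ T, B z v = 0 := fun z hz => by
    rw [QuadraticMap.polar_comm]; exact hz v (Submodule.subset_span (by simp))
  have hS : finrank F S ≤ 2 := by
    have h5 := finrank_span_le_card (R := F) ({u, v} : Set (ι → F))
    have h6 : ({u, v} : Set (ι → F)).toFinset.card ≤ 2 := by
      rw [Set.toFinset_insert, Set.toFinset_singleton]
      exact Finset.card_le_two
    exact h5.trans h6
  obtain ⟨e, he, -, -, hQe, z, hz, hez⟩ := MaxTv.exists_hyp_in (Q := Q) (T := T) (hrad S 2 hS (by omega))
  have hfull : ∀ a ∈ T, Q a = 0 → (∃ y ∈ T, B a y ≠ 0) → Full Q M a := by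
    intro a ha hQa ⟨y, hy, hay⟩ b hab
    have hav : B a v = 0 := hTv a ha
    have hau : B a u = 0 := hTu a ha
    obtain ⟨z, hza, hzv, hzu⟩ : ∃ z, B a z = 0 ∧ B z v = 0 ∧ B z u ≠ 0 := by
      by_contra hno
      push Not at hno
      have h1 : u ∈ LinearMap.BilinForm.orthogonal (QuadraticMap.polarBilin Q)
          (LinearMap.BilinForm.orthogonal (QuadraticMap.polarBilin Q) (Submodule.span F {a, v})) := fun z hz =>
        hno z (hz a (Submodule.subset_span (by simp))) (by
          rw [QuadraticMap.polar_comm]; exact hz v (Submodule.subset_span (by simp)))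
      rw [LinearMap.BilinForm.orthogonal_orthogonal hQ
        (fun u v (h : B u v = 0) => show B v u = 0 by rwa [QuadraticMap.polar_comm]), Submodule.mem_span_pair] at h1
      obtain ⟨c, d, hcd⟩ := h1
      rcases eq_or_ne c 0 with rfl | hc
      · exact hu (Submodule.mem_span_singleton.2 ⟨d, by rw [← hcd, zero_smul, zero_add]⟩)
      · refine hay ?_
        have h2 := congrArg (fun x => B x y) hcd
        simp only [QuadraticMap.polar_add_left, QuadraticMap.polar_smul_left, smul_eq_mul,
          QuadraticMap.polar_comm _ u y, QuadraticMap.polar_comm _ v y, hTu y hy, hTv y hy, mul_zero,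
          add_zero] at h2
        exact (mul_eq_zero.1 h2).resolve_left hc
    set b₁ := (B b u / B z u) • z
    have hb1 : B b₁ v = 0 ∧ B a b₁ = 0 ∧ B b₁ u = B b u := by
      refine ⟨?_, ?_, ?_⟩
      · rw [QuadraticMap.polar_smul_left, hzv, smul_zero]
      · rw [QuadraticMap.polar_smul_right, hza, smul_zero]
      · rw [QuadraticMap.polar_smul_left, smul_eq_mul, div_mul_cancel₀ _ hzu]
    obtain ⟨t, ht, htx⟩ := hroot a b₁ hQa hb1.2.1 hav hb1.1
    obtain ⟨s, hs, hsx⟩ := hroot' a (b - b₁) hQa (by rw [QuadraticMap.polar_sub_right, hab, hb1.2.1, sub_zero]) hau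
      (by rw [QuadraticMap.polar_sub_left, hb1.2.2, sub_self])
    refine ⟨t * s, mul_mem ht hs, ?_⟩
    rw [Units.val_mul, htx, hsx, eMat_mul ⟨hQa, hb1.2.1⟩ ⟨hQa, by rw [QuadraticMap.polar_sub_right, hab, hb1.2.1, sub_zero]⟩,
      add_sub_cancel]
  set e' := z + (-(Q z) / B e z) • e
  have he' : e' ∈ T := T.add_mem hz (T.smul_mem _ he)
  have hQe' : Q e' = 0 := by
    rw [OrthAut.quad_add, QuadraticMap.map_smul, hQe, QuadraticMap.polar_smul_right, QuadraticMap.polar_comm _ z e,
      smul_eq_mul, smul_eq_mul, div_mul_cancel₀ _ hez]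
    ring
  have hee : B e e' ≠ 0 := by
    rw [QuadraticMap.polar_add_right, QuadraticMap.polar_smul_right, OrthAut.polar_self' hQe, smul_zero, add_zero]
    exact hez
  exact MaxTv.omegaGL_le_of_roots hQ hT fun a b hab => full_of_pair_all hiso hQ hQe hQe'
    (hfull e he hQe ⟨e', he', hee⟩) (hfull e' he' hQe' ⟨e, he, by rwa [QuadraticMap.polar_comm]⟩) hee hab.1 b hab.2.2.1

end Cfsg.Agent.Classical.AschOrthTwo
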