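import Cfsg.Agent.Lib.Classical.AschFrameNonMax
import Cfsg.Agent.Lib.Classical.AschEvenProper

/-!
Stabilisers of orthogonal decompositions into plus-type spaces of dimension two or four over tiny fields are not
maximal.
-/

set_option autoImplicit false
set_option linter.unusedSectionVars false
set_option linter.unusedFintypeInType false
set_option linter.unusedDecidableInType false
set_option quotPrecheck false

namespace Cfsg.Agent.Classical.AschOrthTwo

open Matrix Module Cfsg.Geo OrthAut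

variable {F : Type*} [Field F] [Fintype F] {ι : Type} [Fintype ι] [DecidableEq ι] {Q : QuadraticForm F (ι → F)}

local notation "B" => QuadraticMap.polar ⇑Q
local notation "Mn" => Matrix ι ι F

/-- A plus-type plane has a hyperbolic pair. -/
theorem hyperbolic_plane {W : Submodule F (ι → F)} (hdim : finrank F W = 2)
    (hW : IsNondegenerateOn (QuadraticMap.polar ⇑Q) W) (hplus : IsPlusTypeOn (⇑Q) W) :
    ∃ e f, e ∈ W ∧ f ∈ W ∧ Q e = 0 ∧ Q f = 0 ∧ B e f = 1 ∧ ∀ x ∈ W, ∃ a b : F, x = a • e + b • f := by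
  obtain ⟨S, hSW, hS0, hSd⟩ := hplus
  rw [hdim] at hSd
  obtain ⟨e, he, he0⟩ := Submodule.exists_mem_ne_zero_of_ne_bot (p := S) fun h => by
    rw [h, finrank_bot] at hSd; omega
  have hQe : Q e = 0 := hS0 e he
  have heW := hSW he
  have hBee : B e e = 0 := OrthAut.polar_self' hQe
  obtain ⟨f', hf', hef'⟩ : ∃ f' ∈ W, B e f' = 1 := by
    obtain ⟨-, z, hz, hez⟩ := hW e heW he0
    exact ⟨(B e z)⁻¹ • z, W.smul_mem _ hz, by
      rw [QuadraticMap.polar_smul_right, smul_eq_mul, inv_mul_cancel₀ hez]⟩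
  set f := f' + (-Q f') • e
  have hfW : f ∈ W := W.add_mem hf' (W.smul_mem _ heW)
  have hef : B e f = 1 := by
    rw [QuadraticMap.polar_add_right, QuadraticMap.polar_smul_right, hBee, hef', smul_zero, add_zero]
  have hQf : Q f = 0 := by
    rw [OrthAut.quad_add, QuadraticMap.map_smul, hQe, QuadraticMap.polar_smul_right, QuadraticMap.polar_comm, hef']
    simp
  have hli : LinearIndependent F ![e, f] := by
    rw [LinearIndependent.pair_iff]
    intro s t hst
    have h1 := congrArg (fun y => B y f) hst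
    have h2 := congrArg (fun y => B y e) hst
    simp [QuadraticMap.polar_add_left, QuadraticMap.polar_smul_left, hef, QuadraticMap.polar_comm _ f e, hBee,
      OrthAut.polar_self' hQf, QuadraticMap.polar_zero_left] at h1 h2
    exact ⟨h1, h2⟩
  have hsp : Submodule.span F {e, f} = W := by
    refine Submodule.eq_of_le_of_finrank_eq (Submodule.span_le.2 fun x hx => ?_) ?_
    · rcases hx with rfl | rfl
      · exact heW
      · exact hfW
    · have := finrank_span_eq_card hli
      rw [Matrix.range_cons, Matrix.range_cons, Matrix.range_empty, Set.union_empty, Set.singleton_union] at this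
      rw [this, hdim]; rfl
  refine ⟨e, f, heW, hfW, hQe, hQf, hef, fun x hx => ?_⟩
  rw [← hsp, Submodule.mem_span_pair] at hx
  obtain ⟨a, b, rfl⟩ := hx
  exact ⟨a, b, rfl⟩

/-- Over five elements plus-type planes have distinguished frames. -/
theorem plus_planes_five_not_maximal (hQ : (QuadraticMap.polarBilin Q).Nondegenerate) (h7 : 7 ≤ Fintype.card ι)
    (h5 : Fintype.card F = 5) {t : ℕ} {D : Fin t → Submodule F (ι → F)} (hD : IsOrthogonalMDecomposition ⇑Q 2 D)
    (hplus : ∀ i, IsPlusTypeOn (⇑Q) (D i)) (ht : 3 ≤ t) :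
    ∃ K : Subgroup (GL ι F), decompositionStabilizer D ⊓ Geo.omegaGL ⇑Q < K ∧ K < Geo.omegaGL ⇑Q := by
  haveI : NeZero t := ⟨by omega⟩
  have hcast : ((5 : ℕ) : F) = 0 := h5 ▸ FiniteField.cast_card_eq_zero F
  have h50 : (5 : F) = 0 := by exact_mod_cast hcast
  have h2 : (2 : F) ≠ 0 := fun h => one_ne_zero (α := F) (by linear_combination h50 - 2 * h)
  obtain ⟨e, f, he, hf, hQe, hQf, hef, -⟩ := hyperbolic_plane (hD.decomp.decomp.finrank_eq 0)
    (hD.decomp.nondegenerate 0) (hplus 0)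
  set v : Fin 2 → ι → F := ![e + f, (2 : F) • (e + (-1 : F) • f)]
  have hQv : ∀ l, Q (v l) = 1 := fun l => by
    fin_cases l
    · simp [v, OrthAut.quad_add, hQe, hQf, hef]
    · simp [v, QuadraticMap.map_smul, OrthAut.quad_add, QuadraticMap.polar_neg_right, hQe, hQf, hef]
      linear_combination (-1 : F) * h50
  refine frame_not_maximal hQ h7 h2 hD le_rfl ht v (fun l => ⟨?_, by rw [hQv]; exact one_ne_zero⟩)
    (fun l l' hll => ?_) fun a l h => ?_
  · fin_cases l
    · exact (D 0).add_mem he hf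
    · exact (D 0).smul_mem _ ((D 0).add_mem he ((D 0).smul_mem _ hf))
  · fin_cases l <;> fin_cases l' <;> simp [v, QuadraticMap.polar_add_left, QuadraticMap.polar_add_right,
      QuadraticMap.polar_smul_left, QuadraticMap.polar_smul_right, QuadraticMap.polar_neg_left,
      QuadraticMap.polar_neg_right, hef, QuadraticMap.polar_comm _ f e, OrthAut.polar_self' hQe,
      OrthAut.polar_self' hQf] at hll ⊢
  rw [Fin.sum_univ_two, hQv, hQv, hQv, mul_one, mul_one] at h
  have hsq : ∀ x : F, x ≠ 0 → x * x = 1 ∨ x * x = -1 := fun x hx => by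
    have h1 := FiniteField.pow_card_sub_one_eq_one x hx
    rw [h5] at h1
    exact sq_eq_one_iff.1 (by linear_combination h1)
  by_cases e0 : a 0 = 0
  · exact ⟨1, fun i hi => by fin_cases i <;> simp_all⟩
  by_cases e1 : a 1 = 0
  · exact ⟨0, fun i hi => by fin_cases i <;> simp_all⟩
  exfalso
  rcases hsq _ e0 with p | p <;> rcases hsq _ e1 with r | r <;> rw [p, r] at h <;>
    refine one_ne_zero (α := F) ?_
  · linear_combination h
  · linear_combination -h
  · linear_combination -h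
  · linear_combination 2 * h50 + 3 * h

/-- Over two or four elements plus-type planes span a structure over two elements. -/
theorem plus_planes_even_not_maximal (hQ : (QuadraticMap.polarBilin Q).Nondegenerate) (h7 : 7 ≤ Fintype.card ι)
    (hq : Fintype.card F = 2 ∨ Fintype.card F = 4) {t : ℕ} {D : Fin t → Submodule F (ι → F)}
    (hD : IsOrthogonalMDecomposition ⇑Q 2 D) (hplus : ∀ i, IsPlusTypeOn (⇑Q) (D i)) (ht : 3 ≤ t) :
    ∃ K : Subgroup (GL ι F), decompositionStabilizer D ⊓ Geo.omegaGL ⇑Q < K ∧ K < Geo.omegaGL ⇑Q := by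
  classical
  haveI : NeZero t := ⟨by omega⟩
  have h4 : (4 : F) = 0 := by
    rcases hq with h | h
    · have : ((2 : ℕ) : F) = 0 := h ▸ FiniteField.cast_card_eq_zero F
      have h' : (2 : F) = 0 := by exact_mod_cast this
      linear_combination 2 * h'
    · have : ((4 : ℕ) : F) = 0 := h ▸ FiniteField.cast_card_eq_zero F
      exact_mod_cast this
  have h2 : (2 : F) = 0 := mul_self_eq_zero.1 (by linear_combination h4)
  let P : F → Prop := fun c => c = 0 ∨ (Fintype.card F = 4 ∧ c = 1)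
  have hP0 : P 0 := Or.inl rfl
  have hPadd : ∀ a b, P a → P b → P (a + b) := by
    rintro a b (rfl | ⟨h, rfl⟩) (rfl | ⟨h', rfl⟩)
    · simp [P]
    · simp [P, h']
    · simp [P, h]
    · exact Or.inl (by linear_combination h2)
  have hPneg : ∀ a, P a → P (-a) := by
    intro a ha
    rwa [show -a = a by linear_combination (-a) * h2]
  have hroot : ∀ a b : F, a * b = 1 → P (a + b) := by
    intro a b hab
    have ha : a ≠ 0 := left_ne_zero_of_mul_eq_one hab
    have h1 := FiniteField.pow_card_sub_one_eq_one a ha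
    rcases hq with h | h <;> rw [h] at h1
    · rw [pow_one] at h1
      subst h1
      exact Or.inl (by linear_combination hab + h2)
    · rcases eq_or_ne a 1 with rfl | hne
      · exact Or.inl (by linear_combination hab + h2)
      · have h3 : a * a + a + 1 = 0 := mul_left_cancel₀ (sub_ne_zero.2 hne) (by linear_combination h1)
        exact Or.inr ⟨h, mul_left_cancel₀ ha (by linear_combination h3 + hab - a * h2)⟩
  obtain ⟨c, hc0, hcP⟩ : ∃ c : F, c ≠ 0 ∧ ¬ P c := by
    rcases hq with h | h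
    · exact ⟨1, one_ne_zero, by simp [P, h]⟩
    · by_contra hno
      push Not at hno
      have h1 : (Finset.univ : Finset F) ⊆ {0, 1} := fun x _ => by
        rcases eq_or_ne x 0 with rfl | hx
        · simp
        · rcases hno x hx with h' | ⟨-, rfl⟩
          · exact absurd h' hx
          · simp
      have h2' := (Finset.card_le_card h1).trans Finset.card_le_two
      rw [Finset.card_univ, h] at h2'
      omega
  choose e f he hf hQe hQf hef hexp using fun i =>
    hyperbolic_plane (hD.decomp.decomp.finrank_eq i) (hD.decomp.nondegenerate i) (hplus i)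
  have hdo : ∀ i j, i ≠ j → ∀ x ∈ D i, ∀ y ∈ D j, B x y = 0 := fun i j hij x hx y hy =>
    hD.decomp.orthogonal i j hij x hx y hy
  set u : Fin t → ι → F := fun i => e i + f i
  have hu : ∀ i, u i ∈ D i := fun i => (D i).add_mem (he i) (hf i)
  have hQu : ∀ i, Q (u i) = 1 := fun i => by simp [u, OrthAut.quad_add, hQe, hQf, hef]
  have hue : ∀ i, B (u i) (e i) = 1 := fun i => by
    simp [u, QuadraticMap.polar_add_left, OrthAut.polar_self' (hQe i), QuadraticMap.polar_comm _ (f i) (e i), hef]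
  let S : Set (ι → F) := {x | ∃ i, x ∈ D i ∧ Q x = 1}
  have huS : ∀ i, u i ∈ S := fun i => ⟨i, hu i, hQu i⟩
  have hBS : ∀ x ∈ S, ∀ y ∈ S, P (B x y) := by
    rintro x ⟨i, hx, hQx⟩ y ⟨j, hy, hQy⟩
    rcases eq_or_ne i j with rfl | hij
    · obtain ⟨a, b, rfl⟩ := hexp i x hx
      obtain ⟨a', b', rfl⟩ := hexp i y hy
      simp only [OrthAut.quad_add, QuadraticMap.map_smul, hQe, hQf, QuadraticMap.polar_smul_left,
        QuadraticMap.polar_smul_right, hef, smul_eq_mul, mul_zero, add_zero, zero_add, mul_one] at hQx hQy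
      simp only [QuadraticMap.polar_add_left, QuadraticMap.polar_add_right, QuadraticMap.polar_smul_left,
        QuadraticMap.polar_smul_right, hef, QuadraticMap.polar_comm _ (f i) (e i), OrthAut.polar_self' (hQe i),
        OrthAut.polar_self' (hQf i), smul_eq_mul, mul_zero, add_zero, zero_add, mul_one]
      convert hroot (b * a') (a * b') (by linear_combination a' * b' * hQx + hQy) using 1
      ring
    · exact Or.inl (hdo i j hij x hx y hy)
  set L : AddSubgroup (ι → F) := AddSubgroup.closure S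
  have hBL : ∀ x ∈ L, ∀ y ∈ L, P (B x y) := by
    have h1 : ∀ x ∈ L, ∀ s ∈ S, P (B x s) := by
      intro x hx
      induction hx using AddSubgroup.closure_induction with
      | mem x hx => exact hBS x hx
      | zero => exact fun s _ => by rw [QuadraticMap.polar_zero_left]; exact hP0
      | add a b _ _ ha hb =>
        intro s hs
        rw [QuadraticMap.polar_add_left]; exact hPadd _ _ (ha s hs) (hb s hs)
      | neg a _ ha =>
        intro s hs
        rw [QuadraticMap.polar_neg_left]; exact hPneg _ (ha s hs)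
    intro x hx y hy
    induction hy using AddSubgroup.closure_induction with
    | mem y hy => exact h1 x hx y hy
    | zero => rw [QuadraticMap.polar_zero_right]; exact hP0
    | add a b _ _ ha hb => rw [QuadraticMap.polar_add_right]; exact hPadd _ _ ha hb
    | neg a _ ha => rw [QuadraticMap.polar_neg_right]; exact hPneg _ ha
  have hscal : ∀ c, P c → ∀ x ∈ L, c • x ∈ L := by
    rintro c (rfl | ⟨-, rfl⟩) x hx
    · rw [zero_smul]; exact zero_mem _
    · rwa [one_smul]
  let M : Subgroup (GL ι F) :=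
    { carrier := {g | ∀ x, (g : Mn) *ᵥ x ∈ L ↔ x ∈ L}
      mul_mem' := fun {a b} ha hb x => by rw [Units.val_mul, ← Matrix.mulVec_mulVec, ha, hb]
      one_mem' := fun x => by simp
      inv_mem' := fun {a} ha x => by
        conv_rhs => rw [← MaxTv.mulVec_inv_cancel a x]
        rw [ha] }
  have hMmem : ∀ g : GL ι F, (∀ x ∈ S, (g : Mn) *ᵥ x ∈ L) → g ∈ M := by
    intro g hg
    have h1 : ∀ x ∈ L, (g : Mn) *ᵥ x ∈ L := by
      intro x hx
      induction hx using AddSubgroup.closure_induction with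
      | mem x hx => exact hg x hx
      | zero => rw [Matrix.mulVec_zero]; exact zero_mem _
      | add a b _ _ ha hb => rw [Matrix.mulVec_add]; exact add_mem ha hb
      | neg a _ ha => rw [Matrix.mulVec_neg]; exact neg_mem ha
    let φ : L → L := fun x => ⟨(g : Mn) *ᵥ x.1, h1 _ x.2⟩
    have hφ : Function.Surjective φ := Finite.injective_iff_surjective.1 fun a b hab =>
      Subtype.ext (MaxTv.gl_mulVec_injective g (congrArg Subtype.val hab))
    refine fun x => ⟨fun hx => ?_, h1 x⟩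
    obtain ⟨y, hy⟩ := hφ ⟨_, hx⟩
    exact (MaxTv.gl_mulVec_injective g (congrArg Subtype.val hy)) ▸ y.2
  have hT := tri_of_card hQ h7
  let i₁ : Fin t := ⟨1, by omega⟩
  let i₂ : Fin t := ⟨2, by omega⟩
  have h01 : (0 : Fin t) ≠ i₁ := by simp [i₁, Fin.ext_iff]
  have h02 : (0 : Fin t) ≠ i₂ := by simp [i₂, Fin.ext_iff]
  have h12 : i₁ ≠ i₂ := by simp [i₁, i₂, Fin.ext_iff]
  refine Asch.exists_between (M := M) (fun g hg => ?_) ?_ fun hall => ?_
  · obtain ⟨σ, hσ⟩ := hg.1
    refine hMmem g fun x ⟨i, hx, hQx⟩ => AddSubgroup.subset_closure ⟨σ i, ?_, ?_⟩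
    · rw [← hσ i]; exact ⟨x, hx, Matrix.toLin'_apply _ _⟩
    · rw [MaxTv.isometry_of_mem_omegaGL hg.2, hQx]
  · set a := u 0 + u i₁ with ha
    have hQa : Q a = 0 := by
      rw [ha, OrthAut.quad_add, hQu, hQu, hdo _ _ h01 _ (hu _) _ (hu _), add_zero]
      linear_combination h2
    have hab : B a (u i₂) = 0 := by
      rw [ha, QuadraticMap.polar_add_left, hdo _ _ h02 _ (hu _) _ (hu _), hdo _ _ h12 _ (hu _) _ (hu _), add_zero]
    obtain ⟨g, hg, hgx⟩ := exists_siegel hQ hT hQa hab
    refine ⟨g, ⟨hMmem g fun x hx => ?_, hg⟩, fun h => ?_⟩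
    · have hxL : x ∈ L := AddSubgroup.subset_closure hx
      have hu' : ∀ i, u i ∈ L := fun i => AddSubgroup.subset_closure (huS i)
      have haL : a ∈ L := add_mem (hu' 0) (hu' i₁)
      rw [hgx, hQu, one_mul]
      exact sub_mem (sub_mem (add_mem hxL (hscal _ (hBL _ haL _ hxL) _ (hu' _)))
        (hscal _ (hBL _ (hu' _) _ hxL) _ haL)) (hscal _ (hBL _ haL _ hxL) _ haL)
    · obtain ⟨σ, hσ⟩ := h
      have hae : B a (e 0) = 1 := by
        rw [ha, QuadraticMap.polar_add_left, hue, hdo _ _ h01.symm _ (hu _) _ (he _), add_zero]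
      have himg : (g : Mn) *ᵥ e 0 = e 0 + u i₂ - a := by
        rw [hgx, hae, hdo _ _ h02.symm _ (hu _) _ (he _), hQu]
        simp
      have hm : (g : Mn) *ᵥ e 0 ∈ D (σ 0) := by rw [← hσ 0]; exact ⟨_, he 0, Matrix.toLin'_apply _ _⟩
      have key : ∀ j, j ≠ 0 → B ((g : Mn) *ᵥ e 0) (e j) ≠ 0 → σ 0 = j := fun j _ hB => by
        by_contra hne
        exact hB (hdo _ _ hne _ hm _ (he j))
      have k1 := key i₁ h01.symm (by
        rw [himg, ha, QuadraticMap.polar_sub_left, QuadraticMap.polar_add_left Q (e 0), QuadraticMap.polar_add_left Q (u 0),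
          hdo _ _ h01 _ (he _) _ (he _), hdo _ _ h12.symm _ (hu _) _ (he _), hdo _ _ h01 _ (hu _) _ (he _), hue]
        simp)
      have k2 := key i₂ h02.symm (by
        rw [himg, ha, QuadraticMap.polar_sub_left, QuadraticMap.polar_add_left Q (e 0), QuadraticMap.polar_add_left Q (u 0),
          hdo _ _ h02 _ (he _) _ (he _), hdo _ _ h12 _ (hu _) _ (he _), hdo _ _ h02 _ (hu _) _ (he _), hue]
        simp)
      exact h12 (k1.symm.trans k2)
  · obtain ⟨g, hg, hgx⟩ := exists_siegel hQ hT (hQe 0) (hdo _ _ h01 _ (he _) _ (he _) : B (e 0) (e i₁) = 0)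
    have hu0 : u 0 ∈ L := AddSubgroup.subset_closure (huS 0)
    have h1 := (hall hg (u 0)).2 hu0
    rw [hgx, hQe, zero_mul, zero_smul, sub_zero, QuadraticMap.polar_comm _ (e 0) (u 0), hue,
      hdo _ _ h01.symm _ (he _) _ (hu _), one_smul, zero_smul, sub_zero] at h1
    have hy : c • e i₁ + c⁻¹ • f i₁ ∈ S := ⟨i₁, (D i₁).add_mem ((D i₁).smul_mem _ (he _)) ((D i₁).smul_mem _ (hf _)), by
      simp [OrthAut.quad_add, QuadraticMap.map_smul, QuadraticMap.polar_smul_left, QuadraticMap.polar_smul_right, hQe,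
        hQf, hef, mul_inv_cancel₀ hc0, inv_mul_cancel₀ hc0]⟩
    have h3 := hBL _ h1 _ (AddSubgroup.subset_closure hy)
    simp only [QuadraticMap.polar_add_left, QuadraticMap.polar_add_right, QuadraticMap.polar_smul_right, smul_eq_mul,
      hdo _ _ h01 _ (hu _) _ (he _), hdo _ _ h01 _ (hu _) _ (hf _), hef, OrthAut.polar_self' (hQe i₁),
      mul_zero, zero_add, mul_one] at h3
    rcases h3 with h3 | ⟨h4', h3⟩
    · exact hc0 (inv_eq_zero.1 h3)
    · exact hcP (Or.inr ⟨h4', inv_eq_one.1 h3⟩)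

/-- A plus-type space of dimension four has a hyperbolic basis. -/
theorem hyperbolic_four (h2 : (2 : F) = 0) {W : Submodule F (ι → F)} (hdim : finrank F W = 4)
    (hW : IsNondegenerateOn (QuadraticMap.polar ⇑Q) W) (hplus : IsPlusTypeOn (⇑Q) W) :
    ∃ e₁ f₁ e₂ f₂, e₁ ∈ W ∧ f₁ ∈ W ∧ e₂ ∈ W ∧ f₂ ∈ W ∧ Q e₁ = 0 ∧ Q f₁ = 0 ∧ Q e₂ = 0 ∧ Q f₂ = 0 ∧
      B e₁ f₁ = 1 ∧ B e₂ f₂ = 1 ∧ B e₁ e₂ = 0 ∧ B e₁ f₂ = 0 ∧ B f₁ e₂ = 0 ∧ B f₁ f₂ = 0 := by
  obtain ⟨U, hUW, hU0, hUd⟩ := hplus
  rw [hdim] at hUd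
  let b := Module.finBasisOfFinrankEq F U (show finrank F U = 2 by omega)
  set e₁ : ι → F := (b 0 : ι → F)
  set e₂ : ι → F := (b 1 : ι → F)
  have hm1 : e₁ ∈ W := hUW (b 0).2
  have hm2 : e₂ ∈ W := hUW (b 1).2
  have hQ1 : Q e₁ = 0 := hU0 _ (b 0).2
  have hQ2 : Q e₂ = 0 := hU0 _ (b 1).2
  have h12 : B e₁ e₂ = 0 := MaxTv.polar_zero_of_sing hU0 (b 0).2 (b 1).2
  let L : W →ₗ[F] F × F := LinearMap.prod ((QuadraticMap.polarBilin Q e₁).comp W.subtype)
    ((QuadraticMap.polarBilin Q e₂).comp W.subtype)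
  have hL : ∀ p, p ∈ LinearMap.range L := by
    intro p
    by_contra hp
    obtain ⟨φ, hφ, hker⟩ := Submodule.exists_le_ker_of_notMem hp
    have hφe : ∀ q : F × F, φ q = q.1 * φ (1, 0) + q.2 * φ (0, 1) := fun q => by
      conv_lhs => rw [show q = q.1 • (1, 0) + q.2 • (0, 1) by simp]
      rw [map_add, map_smul, map_smul, smul_eq_mul, smul_eq_mul]
    set x := φ (1, 0) • e₁ + φ (0, 1) • e₂ with hx
    have hx0 : x ≠ 0 := by
      intro h
      have hs := Fintype.linearIndependent_iff.1 b.linearIndependent ![φ (1, 0), φ (0, 1)]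
        (Subtype.ext (by simpa [Fin.sum_univ_two] using h))
      apply hφ
      rw [hφe, show φ (1, 0) = 0 by simpa using hs 0, show φ (0, 1) = 0 by simpa using hs 1]
      simp
    obtain ⟨-, z, hz, hxz⟩ := hW x (W.add_mem (W.smul_mem _ hm1) (W.smul_mem _ hm2)) hx0
    apply hxz
    have := LinearMap.mem_ker.1 (hker ⟨⟨z, hz⟩, rfl⟩)
    rw [hφe] at this
    rw [hx, QuadraticMap.polar_add_left, QuadraticMap.polar_smul_left, QuadraticMap.polar_smul_left, smul_eq_mul,
      smul_eq_mul]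
    simpa [L, mul_comm] using this
  obtain ⟨⟨a, ha⟩, hab⟩ := hL (1, 0)
  obtain ⟨⟨c, hc⟩, hcd⟩ := hL (0, 1)
  have ha1 : B e₁ a = 1 := congrArg Prod.fst hab
  have ha2 : B e₂ a = 0 := congrArg Prod.snd hab
  have hc1 : B e₁ c = 0 := congrArg Prod.fst hcd
  have hc2 : B e₂ c = 1 := congrArg Prod.snd hcd
  set f₁ := a + Q a • e₁ with hf₁
  set c' := c + B c f₁ • e₁ with hc'
  set f₂ := c' + Q c' • e₂ with hf₂
  have h11 := OrthAut.polar_self' hQ1
  have h22 := OrthAut.polar_self' hQ2
  have h21 : B e₂ e₁ = 0 := by rw [QuadraticMap.polar_comm, h12]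
  have e1f1 : B e₁ f₁ = 1 := by
    rw [hf₁, QuadraticMap.polar_add_right, QuadraticMap.polar_smul_right, h11, smul_zero, add_zero, ha1]
  have e2f1 : B e₂ f₁ = 0 := by
    rw [hf₁, QuadraticMap.polar_add_right, QuadraticMap.polar_smul_right, h21, smul_zero, add_zero, ha2]
  have e1c : B e₁ c' = 0 := by
    rw [hc', QuadraticMap.polar_add_right, QuadraticMap.polar_smul_right, h11, smul_zero, add_zero, hc1]
  have e2c : B e₂ c' = 1 := by
    rw [hc', QuadraticMap.polar_add_right, QuadraticMap.polar_smul_right, h21, smul_zero, add_zero, hc2]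
  have f1c : B f₁ c' = 0 := by
    rw [hc', QuadraticMap.polar_add_right, QuadraticMap.polar_smul_right, QuadraticMap.polar_comm _ f₁ e₁, e1f1,
      smul_eq_mul, mul_one, QuadraticMap.polar_comm _ f₁ c]
    linear_combination (B c f₁) * h2
  refine ⟨e₁, f₁, e₂, f₂, hm1, W.add_mem ha (W.smul_mem _ hm1), hm2,
    W.add_mem (W.add_mem hc (W.smul_mem _ hm1)) (W.smul_mem _ hm2), hQ1, ?_, hQ2, ?_, e1f1, ?_, h12, ?_,
    by rw [QuadraticMap.polar_comm, e2f1], ?_⟩
  · rw [hf₁, OrthAut.quad_add, QuadraticMap.map_smul, hQ1, QuadraticMap.polar_smul_right, QuadraticMap.polar_comm,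
      ha1, smul_eq_mul, smul_eq_mul]
    linear_combination (Q a) * h2
  · rw [hf₂, OrthAut.quad_add, QuadraticMap.map_smul, hQ2, QuadraticMap.polar_smul_right, QuadraticMap.polar_comm,
      e2c, smul_eq_mul, smul_eq_mul]
    linear_combination (Q c') * h2
  · rw [hf₂, QuadraticMap.polar_add_right, QuadraticMap.polar_smul_right, h22, smul_zero, add_zero, e2c]
  · rw [hf₂, QuadraticMap.polar_add_right, QuadraticMap.polar_smul_right, h12, smul_zero, add_zero, e1c]
  · rw [hf₂, QuadraticMap.polar_add_right, QuadraticMap.polar_smul_right, QuadraticMap.polar_comm _ f₁ e₂, e2f1,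
      smul_zero, add_zero, f1c]

set_option maxHeartbeats 1000000 in
/-- Over two elements plus-type spaces of dimension four refine to planes of minus type. -/
theorem plus_four_not_maximal (hQ : (QuadraticMap.polarBilin Q).Nondegenerate) (h7 : 7 ≤ Fintype.card ι)
    (hq : Fintype.card F = 2) {t : ℕ} {D : Fin t → Submodule F (ι → F)}
    (hD : IsOrthogonalMDecomposition ⇑Q 4 D) (hplus : ∀ i, IsPlusTypeOn (⇑Q) (D i)) (ht : 2 ≤ t) :
    ∃ K : Subgroup (GL ι F), decompositionStabilizer D ⊓ Geo.omegaGL ⇑Q < K ∧ K < Geo.omegaGL ⇑Q := by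
  classical
  haveI : NeZero t := ⟨by omega⟩
  have hcast : ((2 : ℕ) : F) = 0 := hq ▸ FiniteField.cast_card_eq_zero F
  have h2 : (2 : F) = 0 := by exact_mod_cast hcast
  have h01F : ∀ x : F, x = 0 ∨ x = 1 := fun x => by
    rcases eq_or_ne x 0 with h | h
    · exact Or.inl h
    · have h1 := FiniteField.pow_card_sub_one_eq_one x h
      rw [hq, pow_one] at h1
      exact Or.inr h1
  have h11 : (1 : F) + 1 = 0 := by linear_combination h2
  choose e₁ f₁ e₂ f₂ me1 mf1 me2 mf2 qe1 qf1 qe2 qf2 b11 b22 bee bef bfe bff using fun i =>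
    hyperbolic_four h2 (hD.decomp.decomp.finrank_eq i) (hD.decomp.nondegenerate i) (hplus i)
  let z : Fin t → Fin 2 → Fin 2 → ι → F := fun i => ![![e₁ i + f₁ i, e₁ i + (e₂ i + f₂ i)],
    ![e₂ i + f₂ i, e₁ i + f₁ i + e₂ i]]
  have hzm : ∀ i s r, z i s r ∈ D i := fun i s r => by
    fin_cases s <;> fin_cases r <;>
      simp [z, Submodule.add_mem, me1 i, mf1 i, me2 i, mf2 i]
  have hQz : ∀ i s r, Q (z i s r) = 1 := fun i s r => by
    fin_cases s <;> fin_cases r <;>
      simp [z, OrthAut.quad_add, QuadraticMap.polar_add_left, QuadraticMap.polar_add_right, qe1 i, qf1 i, qe2 i,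
        qf2 i, b11 i, b22 i, bee i, bef i, bfe i]
  have hBz : ∀ i s r s' r', B (z i s r) (z i s' r') = if s = s' ∧ r ≠ r' then 1 else 0 := fun i s r s' r' => by
    fin_cases s <;> fin_cases r <;> fin_cases s' <;> fin_cases r' <;>
      simp [z, QuadraticMap.polar_add_left, QuadraticMap.polar_add_right, OrthAut.polar_self' (qe1 i),
        OrthAut.polar_self' (qf1 i), OrthAut.polar_self' (qe2 i), OrthAut.polar_self' (qf2 i), b11 i, b22 i, bee i,
        bef i, bfe i, bff i, QuadraticMap.polar_comm _ (f₁ i) (e₁ i), QuadraticMap.polar_comm _ (f₂ i) (e₂ i),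
        QuadraticMap.polar_comm _ (e₂ i) (e₁ i), QuadraticMap.polar_comm _ (f₂ i) (e₁ i),
        QuadraticMap.polar_comm _ (e₂ i) (f₁ i), QuadraticMap.polar_comm _ (f₂ i) (f₁ i), h11, h2]
  have hdo : ∀ i j, i ≠ j → ∀ x ∈ D i, ∀ y ∈ D j, B x y = 0 := fun i j hij x hx y hy =>
    hD.decomp.orthogonal i j hij x hx y hy
  let eN : Fin t × Fin 2 ≃ Fin (t * 2) := finProdFinEquiv
  let w : Fin (t * 2) → Fin 2 → ι → F := fun p r => z (eN.symm p).1 (eN.symm p).2 r
  have hw : ∀ i s, w (eN (i, s)) = z i s := fun i s => by simp [w]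
  have hwB : ∀ p r p' r', B (w p r) (w p' r') = if p = p' ∧ r ≠ r' then 1 else 0 := by
    intro p r p' r'
    obtain ⟨⟨i, s⟩, rfl⟩ := eN.surjective p
    obtain ⟨⟨j, s'⟩, rfl⟩ := eN.surjective p'
    rw [hw, hw]
    rcases eq_or_ne i j with rfl | hij
    · rw [hBz]; simp
    · rw [hdo i j hij _ (hzm _ _ _) _ (hzm _ _ _)]; simp [hij]
  have hli : LinearIndependent F (fun p : Fin (t * 2) × Fin 2 => w p.1 p.2) := by
    rw [Fintype.linearIndependent_iff]
    intro g hg q
    obtain ⟨p, r⟩ := q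
    let r' : Fin 2 := if r = 0 then 1 else 0
    have hr : r ≠ r' := by fin_cases r <;> simp [r']
    have h := congrArg (fun x => QuadraticMap.polarBilin Q (w p r') x) hg
    simp only [map_sum, map_smul, map_zero, QuadraticMap.polarBilin_apply_apply, hwB, smul_eq_mul, mul_ite,
      mul_one, mul_zero] at h
    rw [Finset.sum_eq_single (p, r) (fun q _ hq' => if_neg fun hc => hq' (Prod.ext hc.1.symm (by
      have h1 := hc.2
      obtain ⟨p', x⟩ := q
      fin_cases r <;> fin_cases x <;> simp_all [r']))) (by simp)] at h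
    simpa [hr.symm] using h
  let D' : Fin (t * 2) → Submodule F (ι → F) := fun p => Submodule.span F (Set.range (w p))
  have hwm : ∀ p r, w p r ∈ D' p := fun p r => Submodule.subset_span ⟨r, rfl⟩
  have hD'x : ∀ p, ∀ x ∈ D' p, ∃ a : Fin 2 → F, x = a 0 • w p 0 + a 1 • w p 1 := fun p x hx => by
    rw [Submodule.mem_span_range_iff_exists_fun] at hx
    obtain ⟨a, rfl⟩ := hx
    exact ⟨a, by rw [Fin.sum_univ_two]⟩
  have hliD : ∀ p, LinearIndependent F (w p) := fun p =>
    hli.comp (fun r : Fin 2 => (p, r)) (fun a b h => congrArg Prod.snd h)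
  have hrank : ∀ p, finrank F (D' p) = 2 := fun p => by
    rw [finrank_span_eq_card (hliD p), Fintype.card_fin]
  have horth : ∀ p p', p ≠ p' → ∀ x ∈ D' p, ∀ y ∈ D' p', B x y = 0 := by
    intro p p' hpp x hx y hy
    obtain ⟨a, rfl⟩ := hD'x p x hx
    obtain ⟨b, rfl⟩ := hD'x p' y hy
    simp [QuadraticMap.polar_add_left, QuadraticMap.polar_add_right, QuadraticMap.polar_smul_left,
      QuadraticMap.polar_smul_right, hwB, hpp]
  have hDx : ∀ i, ∀ x ∈ D i, ∃ a : Fin 2 → Fin 2 → F,
      x = a 0 0 • z i 0 0 + a 0 1 • z i 0 1 + (a 1 0 • z i 1 0 + a 1 1 • z i 1 1) := by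
    intro i x hx
    have hl := hli.comp (fun q : Fin 2 × Fin 2 => (eN (i, q.1), q.2)) (fun a b h => by
      simp [eN.injective.eq_iff] at h
      exact Prod.ext h.1 h.2)
    have hsp : Submodule.span F (Set.range fun q : Fin 2 × Fin 2 => z i q.1 q.2) = D i := by
      refine Submodule.eq_of_le_of_finrank_eq (Submodule.span_le.2 (by rintro _ ⟨q, rfl⟩; exact hzm _ _ _)) ?_
      rw [finrank_span_eq_card (by simpa [Function.comp_def, hw] using hl), hD.decomp.decomp.finrank_eq]
      simp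
    rw [← hsp, Submodule.mem_span_range_iff_exists_fun] at hx
    obtain ⟨a, rfl⟩ := hx
    exact ⟨fun s r => a (s, r), by simp [Fintype.sum_prod_type, Fin.sum_univ_two]⟩
  have hspan : iSup D' = ⊤ := by
    refine eq_top_iff.2 ?_
    rw [← hD.decomp.decomp.iSup_eq_top]
    refine iSup_le fun i x hx => ?_
    obtain ⟨a, rfl⟩ := hDx i x hx
    have : ∀ s r, z i s r ∈ iSup D' := fun s r =>
      Submodule.mem_iSup_of_mem (eN (i, s)) (by rw [← hw]; exact hwm _ _)
    exact add_mem (add_mem (Submodule.smul_mem _ _ (this _ _)) (Submodule.smul_mem _ _ (this _ _)))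
      (add_mem (Submodule.smul_mem _ _ (this _ _)) (Submodule.smul_mem _ _ (this _ _)))
  have hquad : ∀ p (a : Fin 2 → F), Q (a 0 • w p 0 + a 1 • w p 1) = a 0 * a 0 + a 1 * a 1 + a 0 * a 1 := by
    intro p a
    have h0 : ∀ r, Q (w p r) = 1 := fun r => hQz _ _ _
    simp [OrthAut.quad_add, QuadraticMap.map_smul, QuadraticMap.polar_smul_left, QuadraticMap.polar_smul_right, h0,
      hwB]
    ring
  have hnd : ∀ p, ∀ x ∈ D' p, x ≠ 0 → ∃ y ∈ D' p, B x y ≠ 0 := by
    intro p x hx hx0
    obtain ⟨a, rfl⟩ := hD'x p x hx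
    rcases eq_or_ne (a 0) 0 with h0 | h0
    · refine ⟨w p 0, hwm _ _, fun h => hx0 ?_⟩
      simp [QuadraticMap.polar_add_left, QuadraticMap.polar_smul_left, hwB] at h
      rw [h, h0, zero_smul, zero_smul, add_zero]
    · refine ⟨w p 1, hwm _ _, fun h => h0 ?_⟩
      simpa [QuadraticMap.polar_add_left, QuadraticMap.polar_smul_left, hwB] using h
  have hind : iSupIndep D' := by
    intro p
    rw [Submodule.disjoint_def]
    intro x hx hmem
    by_contra hx0
    obtain ⟨y, hy, hxy⟩ := hnd p x hx hx0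
    apply hxy
    have hle : (⨆ (q) (_ : q ≠ p), D' q) ≤ LinearMap.ker (QuadraticMap.polarBilin Q y) :=
      iSup₂_le fun q hq' v hv => LinearMap.mem_ker.2 (by
        rw [QuadraticMap.polarBilin_apply_apply]; exact horth _ _ (Ne.symm hq') _ hy _ hv)
    have := LinearMap.mem_ker.1 (hle hmem)
    rwa [QuadraticMap.polarBilin_apply_apply, QuadraticMap.polar_comm] at this
  have hD' : IsOrthogonalMDecomposition ⇑Q 2 D' := by
    refine ⟨⟨⟨by omega, two_pos, hrank, hind, hspan⟩, fun p x hx hx0 => ?_, horth⟩, fun p p' => ?_⟩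
    · obtain ⟨y, hy, hxy⟩ := hnd p x hx hx0
      exact ⟨⟨y, hy, by rwa [QuadraticMap.polar_comm]⟩, y, hy, hxy⟩
    · refine ⟨(Basis.span (hliD p)).equiv (Basis.span (hliD p')) (Equiv.refl _), fun x => ?_⟩
      set b := Basis.span (hliD p)
      set b' := Basis.span (hliD p')
      have hx : (x : ι → F) = b.repr x 0 • w p 0 + b.repr x 1 • w p 1 := by
        conv_lhs => rw [← b.sum_repr x]
        simp [Fin.sum_univ_two, b, Basis.span_apply]
      have hx' : ((b.equiv b' (Equiv.refl _) x : D' p') : ι → F) = b.repr x 0 • w p' 0 + b.repr x 1 • w p' 1 := by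
        rw [show b.equiv b' (Equiv.refl _) x = ∑ r, b.repr x r • b' r from
          b'.ext_elem fun r => by fin_cases r <;> simp [Basis.equiv]]
        simp [Fin.sum_univ_two, b', Basis.span_apply]
      rw [hx', hx, hquad p' fun r => b.repr x r, hquad p fun r => b.repr x r]
  have hperm : ∀ g : GL ι F, (∀ p, ∃ p', ∀ r, (g : Mn) *ᵥ w p r ∈ D' p') → g ∈ decompositionStabilizer D' := by
    intro g key
    choose τ hτ using key
    have hmap : ∀ p, (D' p).map (Matrix.toLin' (g : Mn)) = D' (τ p) := by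
      intro p
      refine Submodule.eq_of_le_of_finrank_eq ?_ ?_
      · show (Submodule.span F (Set.range (w p))).map _ ≤ _
        rw [Submodule.map_span, Submodule.span_le]
        rintro _ ⟨_, ⟨r, rfl⟩, rfl⟩
        rw [Matrix.toLin'_apply]; exact hτ p r
      · rw [hrank, ← hrank p]
        exact (Submodule.equivMapOfInjective _ (fun a b hab => MaxTv.gl_mulVec_injective g
          (by simpa [Matrix.toLin'_apply] using hab)) (D' p)).finrank_eq.symm
    have hinj : Function.Injective τ := by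
      intro p p' hpp
      by_contra hne
      have h1 : D' p = D' p' := Submodule.map_injective_of_injective (f := Matrix.toLin' (g : Mn))
        (fun a b hab => MaxTv.gl_mulVec_injective g (by simpa [Matrix.toLin'_apply] using hab))
        (by rw [hmap, hmap, hpp])
      have h2' := horth p p' hne _ (hwm p 0) _ (h1 ▸ hwm p 1)
      rw [hwB, if_pos ⟨rfl, by decide⟩] at h2'
      exact one_ne_zero h2'
    exact ⟨Equiv.ofBijective τ (Finite.injective_iff_bijective.1 hinj), hmap⟩
  have ht4 : 4 ≤ t * 2 := by omega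
  refine Asch.exists_between (M := decompositionStabilizer D') (fun g hg => ?_) ?_
    (AschEven.not_omega_le_planes hQ h7 h2 ht4 hD')
  · obtain ⟨σ, hσ⟩ := hg.1
    have hgQ := MaxTv.isometry_of_mem_omegaGL hg.2
    refine hperm g fun p => ?_
    set i := (eN.symm p).1
    have hone : ∀ r, ∃ s, (g : Mn) *ᵥ w p r ∈ D' (eN (σ i, s)) := by
      intro r
      have hx : (g : Mn) *ᵥ w p r ∈ D (σ i) := by
        rw [← hσ i]; exact ⟨w p r, hzm _ _ _, Matrix.toLin'_apply _ _⟩
      obtain ⟨a, ha⟩ := hDx _ _ hx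
      have h1 : Q ((g : Mn) *ᵥ w p r) = 1 := by rw [hgQ]; exact hQz _ _ _
      rw [ha, ← hw, ← hw] at h1
      have hB0 : B (a 0 0 • w (eN (σ i, 0)) 0 + a 0 1 • w (eN (σ i, 0)) 1)
          (a 1 0 • w (eN (σ i, 1)) 0 + a 1 1 • w (eN (σ i, 1)) 1) = 0 :=
        horth _ _ (by simp [eN.injective.eq_iff]) _
          (add_mem (Submodule.smul_mem _ _ (hwm _ _)) (Submodule.smul_mem _ _ (hwm _ _))) _
          (add_mem (Submodule.smul_mem _ _ (hwm _ _)) (Submodule.smul_mem _ _ (hwm _ _)))
      rw [OrthAut.quad_add, hquad _ (a 0), hquad _ (a 1), hB0, add_zero] at h1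
      by_cases hz : a 0 0 = 0 ∧ a 0 1 = 0
      · refine ⟨1, ?_⟩
        rw [ha, hz.1, hz.2, zero_smul, zero_smul, add_zero, zero_add, ← hw]
        exact add_mem (Submodule.smul_mem _ _ (hwm _ _)) (Submodule.smul_mem _ _ (hwm _ _))
      · refine ⟨0, ?_⟩
        have hf : ∀ x y : F, ¬ (x = 0 ∧ y = 0) → x * x + y * y + x * y = 1 := fun x y hxy => by
          rcases h01F x with rfl | rfl <;> rcases h01F y with rfl | rfl
          · exact absurd ⟨rfl, rfl⟩ hxy
          · ring
          · ring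
          · linear_combination h2
        have hz' : a 1 0 = 0 ∧ a 1 1 = 0 := by
          by_contra hne
          rw [hf _ _ hz, hf _ _ hne] at h1
          exact one_ne_zero (α := F) (by linear_combination h1)
        rw [ha, hz'.1, hz'.2, zero_smul, zero_smul, add_zero, add_zero, ← hw]
        exact add_mem (Submodule.smul_mem _ _ (hwm _ _)) (Submodule.smul_mem _ _ (hwm _ _))
    obtain ⟨s, hs⟩ := hone 0
    obtain ⟨s', hs'⟩ := hone 1
    have hss : s = s' := by
      by_contra hne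
      have h1 := horth _ _ (by simp [eN.injective.eq_iff, hne]) _ hs _ hs'
      rw [OrthAut.isometry_polar hgQ, hwB, if_pos ⟨rfl, by decide⟩] at h1
      exact one_ne_zero h1
    refine ⟨eN (σ i, s), fun r => ?_⟩
    fin_cases r
    · exact hs
    · exact hss ▸ hs'
  -- exchange of two planes in different members
  let i₁ : Fin t := ⟨1, by omega⟩
  have h01 : (0 : Fin t) ≠ i₁ := by simp [i₁, Fin.ext_iff]
  set p₀ := eN (0, 0)
  set p₁ := eN (i₁, 0)
  have hp : p₀ ≠ p₁ := by simp [p₀, p₁, eN.injective.eq_iff, h01]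
  set a := w p₀ 0 + w p₁ 0 with ha
  set b := w p₀ 1 + w p₁ 1 with hb
  have hwQ : ∀ p r, Q (w p r) = 1 := fun p r => hQz _ _ _
  have hQa : Q a = 0 := by
    rw [ha, OrthAut.quad_add, hwQ, hwQ, hwB, if_neg (fun h => hp h.1), add_zero, h11]
  have hQb : Q b = 0 := by
    rw [hb, OrthAut.quad_add, hwQ, hwQ, hwB, if_neg (fun h => hp h.1), add_zero, h11]
  have hab : B a b = 0 := by
    simp [ha, hb, QuadraticMap.polar_add_left, QuadraticMap.polar_add_right, hwB, hp, hp.symm, h11]
  obtain ⟨g, hg, hgx⟩ := exists_siegel hQ (tri_of_card hQ h7) hQa hab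
  have hBaw : ∀ p r, B a (w p r) = if (p = p₀ ∨ p = p₁) ∧ r = 1 then 1 else 0 := fun p r => by
    rw [ha, QuadraticMap.polar_add_left, hwB, hwB]
    fin_cases r <;> by_cases h : p = p₀ <;> by_cases h' : p = p₁ <;>
      simp [h, h', hp, hp.symm, eq_comm]
  have hBbw : ∀ p r, B b (w p r) = if (p = p₀ ∨ p = p₁) ∧ r = 0 then 1 else 0 := fun p r => by
    rw [hb, QuadraticMap.polar_add_left, hwB, hwB]
    fin_cases r <;> by_cases h : p = p₀ <;> by_cases h' : p = p₁ <;>
      simp [h, h', hp, hp.symm, eq_comm]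
  have hdbl : ∀ v : ι → F, v + v = 0 := fun v => by rw [← two_smul F, h2, zero_smul]
  have hdbl' : ∀ v v' : ι → F, v + (v + v') = v' := fun v v' => by rw [← add_assoc, hdbl, zero_add]
  have hdbl'' : ∀ v v' : ι → F, v + (v' + v) = v' := fun v v' => by rw [add_left_comm, hdbl, add_zero]
  have hneg : ∀ v : ι → F, -v = v := fun v => neg_eq_of_add_eq_zero_left (hdbl v)
  have hgw : ∀ p r, (g : Mn) *ᵥ w p r = w (Equiv.swap p₀ p₁ p) r := fun p r => by
    rw [hgx, hQb, zero_mul, zero_smul, sub_zero, hBaw, hBbw]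
    by_cases h : p = p₀
    · subst h
      rw [Equiv.swap_apply_left]
      fin_cases r <;> simp [ha, hb, hneg, hdbl', hdbl'']
    by_cases h' : p = p₁
    · subst h'
      rw [Equiv.swap_apply_right]
      fin_cases r <;> simp [ha, hb, hneg, hdbl', hdbl'']
    rw [Equiv.swap_apply_of_ne_of_ne h h']
    simp [h, h']
  refine ⟨g, ⟨hperm g fun p => ⟨_, fun r => by rw [hgw]; exact hwm _ r⟩, hg⟩, fun h => ?_⟩
  obtain ⟨σ, hσ⟩ := h
  have m : ∀ s r, (g : Mn) *ᵥ z 0 s r ∈ D (σ 0) := fun s r => by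
    rw [← hσ 0]; exact ⟨_, hzm _ _ _, Matrix.toLin'_apply _ _⟩
  have m0 := m 0 0
  rw [← hw, hgw, Equiv.swap_apply_left] at m0
  have m1 := m 1 0
  rw [← hw, hgw, Equiv.swap_apply_of_ne_of_ne (by simp [p₀, eN.injective.eq_iff])
    (by simp [p₁, eN.injective.eq_iff, h01])] at m1
  simp only [p₁, hw] at m0 m1
  by_cases hs : σ 0 = 0
  · rw [hs] at m0
    have h1 := hdo 0 i₁ h01 _ m0 _ (hzm i₁ 0 1)
    rw [hBz, if_pos ⟨rfl, by decide⟩] at h1
    exact one_ne_zero h1
  · have h1 := hdo _ _ hs _ m1 _ (hzm 0 1 1)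
    rw [hBz, if_pos ⟨rfl, by decide⟩] at h1
    exact one_ne_zero h1

end Cfsg.Agent.Classical.AschOrthTwo
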