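import Mathlib

/-!
Computations over three elements for four dimensional symplectic groups.
-/

set_option autoImplicit false
set_option maxRecDepth 20000

namespace Cfsg.Agent.Classical.SpFourThree

abbrev Z := ZMod 3
abbrev V4 := Fin 4 → Z
abbrev M4 := Fin 4 → Fin 4 → Z

def mulM (A B : M4) : M4 := fun i j => A i 0 * B 0 j + A i 1 * B 1 j + A i 2 * B 2 j + A i 3 * B 3 j

def mulV (A : M4) (u : V4) : V4 := fun i => A i 0 * u 0 + A i 1 * u 1 + A i 2 * u 2 + A i 3 * u 3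

def one : M4 := fun i j => if i = j then 1 else 0

def tr (A : M4) : M4 := fun i j => A j i

def negM (A : M4) : M4 := fun i j => -(A i j)

def pw (A : M4) : ℕ → M4
  | 0 => one
  | k + 1 => mulM (pw A k) A

def frm (u v : V4) : Z := -(u 0 * v 2) - u 1 * v 3 + u 2 * v 0 + u 3 * v 1

def Jm : M4 := ![![0, 0, 2, 0], ![0, 0, 0, 2], ![1, 0, 0, 0], ![0, 1, 0, 0]]

def jv (u : V4) : V4 := ![-(u 2), -(u 3), u 0, u 1]

def inv4 (A : M4) : M4 := negM (mulM (mulM Jm (tr A)) Jm)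

def cand (s : Z) (x y : V4) : M4 := fun i j => ![x i, y i, s * jv x i, s * jv y i] j

def R : Fin 32 → M4 :=
  ![![![1, 0, 0, 0], ![0, 1, 0, 0], ![0, 0, 1, 0], ![0, 0, 0, 1]],
    ![![0, 2, 0, 2], ![1, 0, 1, 0], ![0, 2, 0, 1], ![1, 0, 2, 0]],
    ![![0, 0, 2, 0], ![0, 0, 0, 2], ![1, 0, 0, 0], ![0, 1, 0, 0]],
    ![![0, 1, 0, 2], ![2, 0, 1, 0], ![0, 2, 0, 2], ![1, 0, 1, 0]],
    ![![0, 0, 2, 0], ![0, 0, 0, 1], ![1, 0, 0, 0], ![0, 2, 0, 0]],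
    ![![0, 1, 0, 2], ![1, 0, 2, 0], ![0, 2, 0, 2], ![2, 0, 2, 0]],
    ![![2, 0, 0, 0], ![0, 1, 0, 0], ![0, 0, 2, 0], ![0, 0, 0, 1]],
    ![![0, 1, 0, 1], ![1, 0, 1, 0], ![0, 1, 0, 2], ![1, 0, 2, 0]],
    ![![0, 0, 0, 2], ![0, 0, 2, 0], ![0, 1, 0, 0], ![1, 0, 0, 0]],
    ![![2, 0, 1, 0], ![0, 1, 0, 2], ![1, 0, 1, 0], ![0, 2, 0, 2]],
    ![![0, 2, 0, 0], ![2, 0, 0, 0], ![0, 0, 0, 2], ![0, 0, 2, 0]],
    ![![2, 0, 2, 0], ![0, 1, 0, 1], ![2, 0, 1, 0], ![0, 1, 0, 2]],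
    ![![0, 1, 0, 0], ![2, 0, 0, 0], ![0, 0, 0, 1], ![0, 0, 2, 0]],
    ![![1, 0, 1, 0], ![0, 1, 0, 1], ![1, 0, 2, 0], ![0, 1, 0, 2]],
    ![![0, 0, 0, 2], ![0, 0, 1, 0], ![0, 1, 0, 0], ![2, 0, 0, 0]],
    ![![2, 0, 1, 0], ![0, 2, 0, 1], ![1, 0, 1, 0], ![0, 1, 0, 1]],
    ![![2, 0, 0, 0], ![0, 2, 0, 0], ![0, 0, 2, 0], ![0, 0, 0, 2]],
    ![![0, 1, 0, 1], ![2, 0, 2, 0], ![0, 1, 0, 2], ![2, 0, 1, 0]],
    ![![0, 0, 1, 0], ![0, 0, 0, 1], ![2, 0, 0, 0], ![0, 2, 0, 0]],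
    ![![0, 2, 0, 1], ![1, 0, 2, 0], ![0, 1, 0, 1], ![2, 0, 2, 0]],
    ![![0, 0, 1, 0], ![0, 0, 0, 2], ![2, 0, 0, 0], ![0, 1, 0, 0]],
    ![![0, 2, 0, 1], ![2, 0, 1, 0], ![0, 1, 0, 1], ![1, 0, 1, 0]],
    ![![1, 0, 0, 0], ![0, 2, 0, 0], ![0, 0, 1, 0], ![0, 0, 0, 2]],
    ![![0, 2, 0, 2], ![2, 0, 2, 0], ![0, 2, 0, 1], ![2, 0, 1, 0]],
    ![![0, 0, 0, 1], ![0, 0, 1, 0], ![0, 2, 0, 0], ![2, 0, 0, 0]],
    ![![1, 0, 2, 0], ![0, 2, 0, 1], ![2, 0, 2, 0], ![0, 1, 0, 1]],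
    ![![0, 1, 0, 0], ![1, 0, 0, 0], ![0, 0, 0, 1], ![0, 0, 1, 0]],
    ![![1, 0, 1, 0], ![0, 2, 0, 2], ![1, 0, 2, 0], ![0, 2, 0, 1]],
    ![![0, 2, 0, 0], ![1, 0, 0, 0], ![0, 0, 0, 2], ![0, 0, 1, 0]],
    ![![2, 0, 2, 0], ![0, 2, 0, 2], ![2, 0, 1, 0], ![0, 2, 0, 1]],
    ![![0, 0, 0, 1], ![0, 0, 2, 0], ![0, 2, 0, 0], ![1, 0, 0, 0]],
    ![![1, 0, 2, 0], ![0, 1, 0, 2], ![2, 0, 2, 0], ![0, 2, 0, 2]]]

def rmul : Fin 32 → Fin 32 → Fin 32 :=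
  ![![0, 1, 2, 3, 4, 5, 6, 7, 8, 9, 10, 11, 12, 13, 14, 15, 16, 17, 18, 19, 20, 21, 22, 23, 24, 25, 26, 27, 28, 29, 30, 31],
    ![1, 0, 19, 18, 5, 4, 23, 22, 9, 8, 27, 26, 13, 12, 31, 30, 17, 16, 3, 2, 21, 20, 7, 6, 25, 24, 11, 10, 29, 28, 15, 14],
    ![2, 3, 16, 17, 6, 7, 20, 21, 10, 11, 24, 25, 14, 15, 28, 29, 18, 19, 0, 1, 22, 23, 4, 5, 26, 27, 8, 9, 30, 31, 12, 13],
    ![3, 2, 1, 0, 7, 6, 5, 4, 11, 10, 9, 8, 15, 14, 13, 12, 19, 18, 17, 16, 23, 22, 21, 20, 27, 26, 25, 24, 31, 30, 29, 28],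
    ![4, 5, 6, 7, 16, 17, 18, 19, 28, 29, 30, 31, 8, 9, 10, 11, 20, 21, 22, 23, 0, 1, 2, 3, 12, 13, 14, 15, 24, 25, 26, 27],
    ![5, 4, 23, 22, 17, 16, 3, 2, 29, 28, 15, 14, 9, 8, 27, 26, 21, 20, 7, 6, 1, 0, 19, 18, 13, 12, 31, 30, 25, 24, 11, 10],
    ![6, 7, 20, 21, 18, 19, 0, 1, 30, 31, 12, 13, 10, 11, 24, 25, 22, 23, 4, 5, 2, 3, 16, 17, 14, 15, 28, 29, 26, 27, 8, 9],
    ![7, 6, 5, 4, 19, 18, 17, 16, 31, 30, 29, 28, 11, 10, 9, 8, 23, 22, 21, 20, 3, 2, 1, 0, 15, 14, 13, 12, 27, 26, 25, 24],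
    ![8, 9, 10, 11, 12, 13, 14, 15, 16, 17, 18, 19, 20, 21, 22, 23, 24, 25, 26, 27, 28, 29, 30, 31, 0, 1, 2, 3, 4, 5, 6, 7],
    ![9, 8, 27, 26, 13, 12, 31, 30, 17, 16, 3, 2, 21, 20, 7, 6, 25, 24, 11, 10, 29, 28, 15, 14, 1, 0, 19, 18, 5, 4, 23, 22],
    ![10, 11, 24, 25, 14, 15, 28, 29, 18, 19, 0, 1, 22, 23, 4, 5, 26, 27, 8, 9, 30, 31, 12, 13, 2, 3, 16, 17, 6, 7, 20, 21],
    ![11, 10, 9, 8, 15, 14, 13, 12, 19, 18, 17, 16, 23, 22, 21, 20, 27, 26, 25, 24, 31, 30, 29, 28, 3, 2, 1, 0, 7, 6, 5, 4],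
    ![12, 13, 14, 15, 24, 25, 26, 27, 4, 5, 6, 7, 16, 17, 18, 19, 28, 29, 30, 31, 8, 9, 10, 11, 20, 21, 22, 23, 0, 1, 2, 3],
    ![13, 12, 31, 30, 25, 24, 11, 10, 5, 4, 23, 22, 17, 16, 3, 2, 29, 28, 15, 14, 9, 8, 27, 26, 21, 20, 7, 6, 1, 0, 19, 18],
    ![14, 15, 28, 29, 26, 27, 8, 9, 6, 7, 20, 21, 18, 19, 0, 1, 30, 31, 12, 13, 10, 11, 24, 25, 22, 23, 4, 5, 2, 3, 16, 17],
    ![15, 14, 13, 12, 27, 26, 25, 24, 7, 6, 5, 4, 19, 18, 17, 16, 31, 30, 29, 28, 11, 10, 9, 8, 23, 22, 21, 20, 3, 2, 1, 0],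
    ![16, 17, 18, 19, 20, 21, 22, 23, 24, 25, 26, 27, 28, 29, 30, 31, 0, 1, 2, 3, 4, 5, 6, 7, 8, 9, 10, 11, 12, 13, 14, 15],
    ![17, 16, 3, 2, 21, 20, 7, 6, 25, 24, 11, 10, 29, 28, 15, 14, 1, 0, 19, 18, 5, 4, 23, 22, 9, 8, 27, 26, 13, 12, 31, 30],
    ![18, 19, 0, 1, 22, 23, 4, 5, 26, 27, 8, 9, 30, 31, 12, 13, 2, 3, 16, 17, 6, 7, 20, 21, 10, 11, 24, 25, 14, 15, 28, 29],
    ![19, 18, 17, 16, 23, 22, 21, 20, 27, 26, 25, 24, 31, 30, 29, 28, 3, 2, 1, 0, 7, 6, 5, 4, 11, 10, 9, 8, 15, 14, 13, 12],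
    ![20, 21, 22, 23, 0, 1, 2, 3, 12, 13, 14, 15, 24, 25, 26, 27, 4, 5, 6, 7, 16, 17, 18, 19, 28, 29, 30, 31, 8, 9, 10, 11],
    ![21, 20, 7, 6, 1, 0, 19, 18, 13, 12, 31, 30, 25, 24, 11, 10, 5, 4, 23, 22, 17, 16, 3, 2, 29, 28, 15, 14, 9, 8, 27, 26],
    ![22, 23, 4, 5, 2, 3, 16, 17, 14, 15, 28, 29, 26, 27, 8, 9, 6, 7, 20, 21, 18, 19, 0, 1, 30, 31, 12, 13, 10, 11, 24, 25],
    ![23, 22, 21, 20, 3, 2, 1, 0, 15, 14, 13, 12, 27, 26, 25, 24, 7, 6, 5, 4, 19, 18, 17, 16, 31, 30, 29, 28, 11, 10, 9, 8],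
    ![24, 25, 26, 27, 28, 29, 30, 31, 0, 1, 2, 3, 4, 5, 6, 7, 8, 9, 10, 11, 12, 13, 14, 15, 16, 17, 18, 19, 20, 21, 22, 23],
    ![25, 24, 11, 10, 29, 28, 15, 14, 1, 0, 19, 18, 5, 4, 23, 22, 9, 8, 27, 26, 13, 12, 31, 30, 17, 16, 3, 2, 21, 20, 7, 6],
    ![26, 27, 8, 9, 30, 31, 12, 13, 2, 3, 16, 17, 6, 7, 20, 21, 10, 11, 24, 25, 14, 15, 28, 29, 18, 19, 0, 1, 22, 23, 4, 5],
    ![27, 26, 25, 24, 31, 30, 29, 28, 3, 2, 1, 0, 7, 6, 5, 4, 11, 10, 9, 8, 15, 14, 13, 12, 19, 18, 17, 16, 23, 22, 21, 20],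
    ![28, 29, 30, 31, 8, 9, 10, 11, 20, 21, 22, 23, 0, 1, 2, 3, 12, 13, 14, 15, 24, 25, 26, 27, 4, 5, 6, 7, 16, 17, 18, 19],
    ![29, 28, 15, 14, 9, 8, 27, 26, 21, 20, 7, 6, 1, 0, 19, 18, 13, 12, 31, 30, 25, 24, 11, 10, 5, 4, 23, 22, 17, 16, 3, 2],
    ![30, 31, 12, 13, 10, 11, 24, 25, 22, 23, 4, 5, 2, 3, 16, 17, 14, 15, 28, 29, 26, 27, 8, 9, 6, 7, 20, 21, 18, 19, 0, 1],
    ![31, 30, 29, 28, 11, 10, 9, 8, 23, 22, 21, 20, 3, 2, 1, 0, 15, 14, 13, 12, 27, 26, 25, 24, 7, 6, 5, 4, 19, 18, 17, 16]]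

def rinv : Fin 32 → Fin 32 := ![0, 1, 18, 3, 20, 21, 6, 23, 24, 25, 10, 27, 28, 29, 14, 31, 16, 17, 2, 19, 4, 5, 22, 7, 8, 9, 26, 11, 12, 13, 30, 15]

def gens : Fin 4 → Fin 32 := ![8, 4, 2, 1]

def W : M4 := ![![1, 2, 0, 1], ![2, 2, 0, 1], ![0, 2, 2, 2], ![0, 2, 1, 2]]

def Winv : M4 := ![![2, 1, 0, 0], ![2, 2, 2, 2], ![0, 0, 1, 2], ![1, 1, 2, 2]]

def inR (A : M4) : Bool := (List.finRange 32).any fun n => (List.finRange 4).all fun i => (List.finRange 4).all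
  fun j => A i j == R n i j

/-- The test on the normaliser of the complex structure. -/
def okB (s : Z) (x y : V4) : Bool :=
  !(frm y (fun i => s * jv y i) == -1) || !(frm x y == 0) || !(frm x (fun i => s * jv y i) == 0) ||
    ((mulM (cand s x y) (inv4 (cand s x y)) == one) &&
      (List.finRange 4).all fun n => inR (mulM (mulM (cand s x y) (R (gens n))) (inv4 (cand s x y))))

def good (s : Z) (x : V4) : Bool :=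
  !(frm x (fun i => s * jv x i) == -1) ||
    (List.finRange 3).all fun a => (List.finRange 3).all fun b => (List.finRange 3).all fun c =>
      (List.finRange 3).all fun d => okB s x ![a, b, c, d]

def inW (s : Z) (v : V4) : Bool := (v 3 == s * v 0) && (v 2 == -(s * v 1))

def wbasis (s : Z) : Fin 2 → V4 := ![![1, 0, 0, s], ![0, 1, -s, 0]]

/-- Vectors inside one of the two standard totally isotropic planes. -/
def blk (p : Fin 2) (a b : Z) : V4 := if p = 0 then ![a, b, 0, 0] else ![0, 0, a, b]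

def okP (p : Fin 2) (x y z w : V4) : Bool :=
  let g : M4 := fun i j => ![x i, y i, z i, w i] j
  !(frm x z == -1) || !(frm x w == 0) || !(frm y z == 0) || !(frm y w == -1) ||
    [(1 : Z), -1].all fun s => [(1 : Z), -1].any fun s' => (List.finRange 2).all fun k => inW s' (mulV g (wbasis s k))

theorem good_all : ∀ e : Fin 2, ∀ a b c d : Z, good (![(1 : Z), -1] e) ![a, b, c, d] = true := by decide +kernel
theorem pair_all : ∀ p : Fin 2, ∀ a b a' b' c d c' d' : Z,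
    okP p (blk p a b) (blk p a' b') (blk (1 - p) c d) (blk (1 - p) c' d') = true := by decide +kernel
theorem R_zero : R 0 = one := by decide +kernel
theorem R_mul : ∀ i j, mulM (R i) (R j) = R (rmul i j) := by decide +kernel
theorem R_inv : ∀ i, mulM (R i) (R (rinv i)) = one ∧ mulM (R (rinv i)) (R i) = one := by decide +kernel
theorem R_word : ∀ (i : Fin 4) (j k l : Fin 2) (n : Fin 32), (n : ℕ) = 8 * i + 4 * j + 2 * k + l →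
    R n = mulM (mulM (mulM (pw (R (gens 0)) i) (pw (R (gens 1)) j)) (pw (R (gens 2)) k)) (pw (R (gens 3)) l) := by
  decide +kernel
theorem W_inv : mulM W Winv = one ∧ mulM Winv W = one := by decide +kernel
theorem W_symp : ∀ a b : Fin 4, frm (fun i => W i a) (fun i => W i b) = frm (fun i => one i a) (fun i => one i b) := by
  decide +kernel
theorem W_norm : ∀ n, inR (mulM (mulM W (R n)) Winv) = true := by decide +kernel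
theorem W_not : mulM W Jm ≠ mulM Jm W ∧ mulM W Jm ≠ negM (mulM Jm W) := by decide +kernel

/-- A transvection outside the normaliser. -/
def Tv : M4 := fun i j => if i = j then 1 else if i = 2 ∧ j = 0 then 1 else 0

def Tvinv : M4 := fun i j => if i = j then 1 else if i = 2 ∧ j = 0 then 2 else 0

theorem Tv_inv : mulM Tv Tvinv = one ∧ mulM Tvinv Tv = one := by decide +kernel
theorem Tv_symp : ∀ a b : Fin 4, frm (fun i => Tv i a) (fun i => Tv i b) = frm (fun i => one i a) (fun i => one i b) := by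
  decide +kernel
theorem Tv_out : ∃ n, inR (mulM (mulM Tv (R n)) Tvinv) = false := by decide +kernel

end Cfsg.Agent.Classical.SpFourThree
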