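import Cfsg.Agent.Lib.Classical.AschSpShape
import Cfsg.Agent.Lib.Classical.AschSpFourData

/-!
Over three elements in dimension four: the normaliser of a unitary field lies in a larger normaliser, and the
stabiliser of two complementary totally isotropic planes fixes a pair of orthogonal planes.
-/

set_option autoImplicit false
set_option maxRecDepth 20000
set_option maxHeartbeats 1000000
set_option synthInstance.maxHeartbeats 400000
set_option linter.unusedSectionVars false
set_option linter.unusedFintypeInType false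
set_option linter.unusedDecidableInType false
set_option linter.unusedSimpArgs false

namespace Cfsg.Agent.Classical.SpFourThree

open Matrix Module Cfsg.Geo Cfsg.Agent.Classical.Asch

variable {F : Type*} [Field F]

local notation "G4" => GL (Fin 2 ⊕ Fin 2) F
local notation "M4F" => Matrix (Fin 2 ⊕ Fin 2) (Fin 2 ⊕ Fin 2) F
local notation "V4F" => (Fin 2 ⊕ Fin 2 → F)
local notation "nd" => (finSumFinEquiv : Fin 2 ⊕ Fin 2 ≃ Fin 4)

theorem nd_vals : nd (Sum.inl 0) = 0 ∧ nd (Sum.inl 1) = 1 ∧ nd (Sum.inr 0) = 2 ∧ nd (Sum.inr 1) = 3 :=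
  ⟨rfl, rfl, rfl, rfl⟩

variable (ι : Z →+* F)

/-- The matrix of a table. -/
def toM (A : M4) : M4F := Matrix.of fun i j => ι (A (nd i) (nd j))

/-- The vector of a table. -/
def toV (u : V4) : V4F := fun i => ι (u (nd i))

theorem toM_mul (A B : M4) : toM ι (mulM A B) = toM ι A * toM ι B := by
  ext i j
  simp [toM, mulM, Matrix.mul_apply, Fintype.sum_sum_type, Fin.sum_univ_two, nd_vals.1, nd_vals.2.1, nd_vals.2.2.1,
    nd_vals.2.2.2]
  ring

theorem toV_mul (A : M4) (u : V4) : toV ι (mulV A u) = toM ι A *ᵥ toV ι u := by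
  ext i
  simp [toM, toV, mulV, Matrix.mulVec, dotProduct, Fintype.sum_sum_type, Fin.sum_univ_two, nd_vals.1, nd_vals.2.1,
    nd_vals.2.2.1, nd_vals.2.2.2]
  ring

theorem toM_one : toM ι one = (1 : M4F) := by
  ext i j
  simp [toM, one, Matrix.one_apply, (nd).injective.eq_iff, apply_ite ι]

theorem toM_pw (A : M4) (k : ℕ) : toM ι (pw A k) = toM ι A ^ k := by
  induction k with
  | zero => simp [pw, toM_one]
  | succ k ih => rw [pw, toM_mul, ih, pow_succ]

theorem toM_neg (A : M4) : toM ι (negM A) = -toM ι A := by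
  ext i j; simp [toM, negM]

theorem toM_inj : Function.Injective (toM ι) := fun A B e => funext fun i => funext fun j =>
  ι.injective (by simpa [toM] using congrFun (congrFun e ((nd).symm i)) ((nd).symm j))

theorem toV_inj : Function.Injective (toV ι) := fun A B e => funext fun i =>
  ι.injective (by simpa [toV] using congrFun e ((nd).symm i))

theorem frm_eq (u v : V4) : sympForm 2 F (toV ι u) (toV ι v) = ι (frm u v) := by
  simp [sympForm, toV, frm, Matrix.J, Matrix.mulVec, dotProduct, Fintype.sum_sum_type, Fin.sum_univ_two, nd_vals.1,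
    nd_vals.2.1, nd_vals.2.2.1, nd_vals.2.2.2]
  ring

theorem toM_Jm : toM ι Jm = Matrix.J (Fin 2) F := by
  have h2 : (2 : Z) = -1 := by decide
  ext i j
  rcases i with i | i <;> rcases j with j | j <;> fin_cases i <;> fin_cases j <;>
    simp [toM, Jm, Matrix.J, nd_vals.1, nd_vals.2.1, nd_vals.2.2.1, nd_vals.2.2.2, h2]

theorem jv_eq (u : V4) : toV ι (jv u) = Matrix.J (Fin 2) F *ᵥ toV ι u := by
  ext i
  rcases i with i | i <;> fin_cases i <;>
    simp [toV, jv, Matrix.J, Matrix.mulVec, dotProduct, Fintype.sum_sum_type, Fin.sum_univ_two, nd_vals.1,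
      nd_vals.2.1, nd_vals.2.2.1, nd_vals.2.2.2]

/-- An element from a table. -/
def elt (A B : M4) (h : mulM A B = one ∧ mulM B A = one) : G4 :=
  ⟨toM ι A, toM ι B, by rw [← toM_mul, h.1, toM_one], by rw [← toM_mul, h.2, toM_one]⟩

theorem elt_mem (A B : M4) (h : mulM A B = one ∧ mulM B A = one)
    (hs : ∀ a b : Fin 4, frm (fun i => A i a) (fun i => A i b) = frm (fun i => one i a) (fun i => one i b)) :
    elt ι A B h ∈ spGL 2 F := by
  have key : ∀ a b, sympForm 2 F (toM ι A *ᵥ Pi.single a 1) (toM ι A *ᵥ Pi.single b 1) =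
      sympForm 2 F (Pi.single a 1) (Pi.single b 1) := by
    intro a b
    have ha : ∀ (M : M4) a, toM ι M *ᵥ Pi.single a 1 = toV ι (fun i => M i (nd a)) := fun M a => by
      ext i; simp [toM, toV]
    rw [ha, ha, frm_eq, hs, ← frm_eq, ← ha one, ← ha one, toM_one, Matrix.one_mulVec, Matrix.one_mulVec]
  intro u v
  show sympForm 2 F (toM ι A *ᵥ u) (toM ι A *ᵥ v) = sympForm 2 F u v
  have hu : ∀ w : V4F, w = ∑ i, w i • Pi.single i 1 := fun w => by ext i; simp [Pi.single_apply]
  rw [hu u, hu v]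
  simp only [← sympB_apply, map_sum, map_smul, Matrix.mulVec_sum, Matrix.mulVec_smul, LinearMap.coe_sum,
    Finset.sum_apply, LinearMap.smul_apply]
  simp only [sympB_apply, key]

/-- An element of the normal subgroup. -/
def relt (n : Fin 32) : G4 := elt ι (R n) (R (rinv n)) (R_inv n)

theorem relt_val (n : Fin 32) : ((relt ι n : G4) : M4F) = toM ι (R n) := rfl

theorem relt_mul (i j : Fin 32) : relt ι i * relt ι j = relt ι (rmul i j) :=
  Units.ext (by rw [Units.val_mul, relt_val, relt_val, relt_val, ← toM_mul, R_mul])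

/-- The group of order thirty-two. -/
def RG : Subgroup G4 where
  carrier := {g | ∃ n, g = relt ι n}
  mul_mem' := by
    rintro _ _ ⟨i, rfl⟩ ⟨j, rfl⟩
    exact ⟨rmul i j, relt_mul ι i j⟩
  one_mem' := ⟨0, Units.ext (by rw [relt_val, R_zero, toM_one]; rfl)⟩
  inv_mem' := by
    rintro _ ⟨i, rfl⟩
    exact ⟨rinv i, Units.ext rfl⟩

theorem mem_RG_of_inR (g : G4) (A : M4) (hg : (g : M4F) = toM ι A) (h : inR A = true) : g ∈ RG ι := by
  simp only [inR, List.any_eq_true, List.all_eq_true, List.mem_finRange, true_implies, beq_iff_eq] at h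
  obtain ⟨n, -, hn⟩ := h
  exact ⟨n, Units.ext (by rw [hg, relt_val, funext fun i => funext fun j => hn i j])⟩

theorem mem_normalizer_of_gens (g : G4) (h : ∀ k : Fin 4, g * relt ι (gens k) * g⁻¹ ∈ RG ι) :
    g ∈ subgroupNormalizer (RG ι) := by
  have key : ∀ n, g * relt ι n * g⁻¹ ∈ RG ι := by
    intro n
    obtain ⟨i, j, k, l, e⟩ : ∃ (i : Fin 4) (j k l : Fin 2), (n : ℕ) = 8 * i + 4 * j + 2 * k + l :=
      ⟨⟨n / 8, by omega⟩, ⟨n / 4 % 2, by omega⟩, ⟨n / 2 % 2, by omega⟩, ⟨n % 2, by omega⟩, by simp; omega⟩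
    have hw : relt ι n = relt ι (gens 0) ^ (i : ℕ) * relt ι (gens 1) ^ (j : ℕ) * relt ι (gens 2) ^ (k : ℕ) *
        relt ι (gens 3) ^ (l : ℕ) := Units.ext (by
      rw [relt_val, R_word i j k l n e]
      simp only [Units.val_mul, Units.val_pow_eq_pow_val, relt_val, toM_mul, toM_pw])
    have hh : ∀ a b : G4, g * (a * b) * g⁻¹ = (g * a * g⁻¹) * (g * b * g⁻¹) := fun a b => by group
    have hp : ∀ (a : G4) (m : ℕ), g * a ^ m * g⁻¹ = (g * a * g⁻¹) ^ m := fun a m => conj_pow.symm
    rw [hw, hh, hh, hh, hp, hp, hp, hp]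
    exact mul_mem (mul_mem (mul_mem (pow_mem (h 0) _) (pow_mem (h 1) _)) (pow_mem (h 2) _)) (pow_mem (h 3) _)
  let f : RG ι → RG ι := fun r => ⟨g * r.1 * g⁻¹, by obtain ⟨n, hn⟩ := r.2; rw [hn]; exact key n⟩
  haveI : Finite (RG ι) := Finite.of_surjective (fun n : Fin 32 => (⟨relt ι n, n, rfl⟩ : RG ι))
    (fun ⟨x, n, hn⟩ => ⟨n, Subtype.ext hn.symm⟩)
  have hf : Function.Injective f := fun a b e => Subtype.ext (mul_left_cancel (mul_right_cancel (congrArg Subtype.val e)))
  refine Subgroup.mem_normalizer_iff.2 fun x => ⟨fun hx => (f ⟨x, hx⟩).2, fun hx => ?_⟩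
  obtain ⟨⟨y, hy⟩, hy'⟩ := (Finite.injective_iff_surjective.1 hf) ⟨g * x * g⁻¹, hx⟩
  have := congrArg Subtype.val hy'
  simp [f] at this
  exact this ▸ hy

section Three

variable (hι : Function.Bijective ι)
include hι

theorem exists_table (v : V4F) : ∃ u : V4, toV ι u = v := by
  choose s hs using hι.2
  exact ⟨fun i => s (v ((nd).symm i)), funext fun i => by simp [toV, hs]⟩

theorem normalizer_le {g : G4} (hg : g ∈ spGL 2 F) {e : Fin 2}
    (hJ : (g : M4F) * Matrix.J (Fin 2) F = ι (![(1 : Z), -1] e) • (Matrix.J (Fin 2) F * (g : M4F))) :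
    g ∈ subgroupNormalizer (RG ι) := by
  set s := ![(1 : Z), -1] e with hs
  obtain ⟨x, hx⟩ := exists_table ι hι ((g : M4F) *ᵥ Pi.single (Sum.inl 0) 1)
  obtain ⟨y, hy⟩ := exists_table ι hι ((g : M4F) *ᵥ Pi.single (Sum.inl 1) 1)
  have hJc : ∀ k : Fin 2, Matrix.J (Fin 2) F *ᵥ Pi.single (Sum.inl k) 1 = Pi.single (Sum.inr k) 1 := fun k => by
    ext i
    rcases i with i | i <;> simp [Matrix.J, Matrix.one_apply, Pi.single_apply]
  have hs2 : ι s * ι s = 1 := by
    rw [← map_mul, show s * s = 1 by fin_cases e <;> simp [hs], map_one]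
  have hr : ∀ k : Fin 2, ∀ u : V4, toV ι u = (g : M4F) *ᵥ Pi.single (Sum.inl k) 1 →
      toV ι (fun i => s * jv u i) = (g : M4F) *ᵥ Pi.single (Sum.inr k) 1 := by
    intro k u hu
    rw [← hJc k, Matrix.mulVec_mulVec, hJ, Matrix.smul_mulVec, ← Matrix.mulVec_mulVec, ← hu, ← jv_eq]
    ext i; simp [toV]
  have hx' := hr 0 x hx
  have hy' := hr 1 y hy
  have hgA : (g : M4F) = toM ι (cand s x y) := by
    ext i j
    rcases j with j | j <;> fin_cases j
    · have := congrFun hx i; simpa [toV, toM, cand, nd_vals.1] using this.symm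
    · have := congrFun hy i; simpa [toV, toM, cand, nd_vals.2.1] using this.symm
    · have := congrFun hx' i; simpa [toV, toM, cand, nd_vals.2.2.1] using this.symm
    · have := congrFun hy' i; simpa [toV, toM, cand, nd_vals.2.2.2] using this.symm
  have hf : ∀ a b : V4, ∀ p r, toV ι a = (g : M4F) *ᵥ Pi.single p 1 → toV ι b = (g : M4F) *ᵥ Pi.single r 1 →
      ι (frm a b) = sympForm 2 F (Pi.single p 1) (Pi.single r 1) := fun a b p r ha hb => by
    rw [← frm_eq, ha, hb]; exact hg _ _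
  have e1 : frm x (fun i => s * jv x i) = -1 := ι.injective (by
    rw [hf _ _ _ _ hx hx', map_neg, map_one]; simp [sympForm, Matrix.J, dotProduct, Matrix.mulVec, Fintype.sum_sum_type])
  have e2 : frm y (fun i => s * jv y i) = -1 := ι.injective (by
    rw [hf _ _ _ _ hy hy', map_neg, map_one]; simp [sympForm, Matrix.J, dotProduct, Matrix.mulVec, Fintype.sum_sum_type])
  have e3 : frm x y = 0 := ι.injective (by
    rw [hf _ _ _ _ hx hy, map_zero]; simp [sympForm, Matrix.J, dotProduct, Matrix.mulVec, Fintype.sum_sum_type])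
  have e4 : frm x (fun i => s * jv y i) = 0 := ι.injective (by
    rw [hf _ _ _ _ hx hy', map_zero]; simp [sympForm, Matrix.J, dotProduct, Matrix.mulVec, Fintype.sum_sum_type])
  have hgood := good_all e (x 0) (x 1) (x 2) (x 3)
  rw [show (![x 0, x 1, x 2, x 3] : V4) = x by ext i; fin_cases i <;> rfl, ← hs] at hgood
  simp only [good, e1, beq_self_eq_true, Bool.not_true, Bool.false_or, List.all_eq_true, List.mem_finRange,
    true_implies] at hgood
  have hok := hgood (y 0) (y 1) (y 2) (y 3)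
  rw [show (![y 0, y 1, y 2, y 3] : V4) = y by ext i; fin_cases i <;> rfl] at hok
  simp only [okB, e2, e3, e4, beq_self_eq_true, Bool.not_true, Bool.false_or, Bool.and_eq_true, beq_iff_eq,
    List.all_eq_true, List.mem_finRange, true_implies] at hok
  have hinv : ((g⁻¹ : G4) : M4F) = toM ι (inv4 (cand s x y)) :=
    Units.inv_eq_of_mul_eq_one_right (by rw [hgA, ← toM_mul, hok.1, toM_one])
  refine mem_normalizer_of_gens ι g fun k => mem_RG_of_inR ι _ _ ?_ (hok.2 k)
  rw [Units.val_mul, Units.val_mul, hgA, hinv, relt_val, toM_mul, toM_mul]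

theorem pair_le {g : G4} (hg : g ∈ spGL 2 F) {p : Fin 2}
    (h0 : ∀ k i : Fin 2, (g : M4F) (if p = 0 then Sum.inr i else Sum.inl i) (Sum.inl k) = 0)
    (h1 : ∀ k i : Fin 2, (g : M4F) (if p = 0 then Sum.inl i else Sum.inr i) (Sum.inr k) = 0) (s : Z)
    (hs : s = 1 ∨ s = -1) :
    ∃ s' : Z, (s' = 1 ∨ s' = -1) ∧ ∀ k, ∃ w : V4, inW s' w = true ∧ (g : M4F) *ᵥ toV ι (wbasis s k) = toV ι w := by
  have hcol : ∀ r, ∃ u : V4, toV ι u = fun i => (g : M4F) i r := fun r => exists_table ι hι _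
  choose U hU using hcol
  have hUv : ∀ r i, ι (U r (nd i)) = (g : M4F) i r := fun r i => congrFun (hU r) i
  have hb : ∀ k : Fin 2, (∃ a b, U (Sum.inl k) = blk p a b) ∧ ∃ a b, U (Sum.inr k) = blk (1 - p) a b := by
    intro k
    have z0 : ∀ i : Fin 2, U (Sum.inl k) (nd (if p = 0 then Sum.inr i else Sum.inl i)) = 0 := fun i =>
      ι.injective (by rw [hUv, h0, map_zero])
    have z1 : ∀ i : Fin 2, U (Sum.inr k) (nd (if p = 0 then Sum.inl i else Sum.inr i)) = 0 := fun i =>
      ι.injective (by rw [hUv, h1, map_zero])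
    have a0 := z0 0
    have a1 := z0 1
    have b0 := z1 0
    have b1 := z1 1
    fin_cases p <;> simp [nd_vals.1, nd_vals.2.1, nd_vals.2.2.1, nd_vals.2.2.2] at a0 a1 b0 b1
    · exact ⟨⟨_, _, by ext i; fin_cases i <;> simp [blk, a0, a1] <;> rfl⟩,
        _, _, by ext i; fin_cases i <;> simp [blk, b0, b1] <;> rfl⟩
    · exact ⟨⟨_, _, by ext i; fin_cases i <;> simp [blk, a0, a1] <;> rfl⟩,
        _, _, by ext i; fin_cases i <;> simp [blk, b0, b1] <;> rfl⟩
  obtain ⟨⟨a, b, ex⟩, c, d, ez⟩ := hb 0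
  obtain ⟨⟨a', b', ey⟩, c', d', ew⟩ := hb 1
  have hf : ∀ q r, ι (frm (U q) (U r)) = sympForm 2 F (Pi.single q 1) (Pi.single r 1) := fun q r => by
    rw [← frm_eq, hU, hU]
    have := hg (Pi.single q 1) (Pi.single r 1)
    change sympForm 2 F ((g : M4F) *ᵥ _) ((g : M4F) *ᵥ _) = _ at this
    rwa [Matrix.mulVec_single_one, Matrix.mulVec_single_one] at this
  have e1 : frm (U (Sum.inl 0)) (U (Sum.inr 0)) = -1 := ι.injective (by
    rw [hf, map_neg, map_one]; simp [sympForm, Matrix.J, dotProduct, Matrix.mulVec, Fintype.sum_sum_type])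
  have e2 : frm (U (Sum.inl 0)) (U (Sum.inr 1)) = 0 := ι.injective (by
    rw [hf, map_zero]; simp [sympForm, Matrix.J, dotProduct, Matrix.mulVec, Fintype.sum_sum_type])
  have e3 : frm (U (Sum.inl 1)) (U (Sum.inr 0)) = 0 := ι.injective (by
    rw [hf, map_zero]; simp [sympForm, Matrix.J, dotProduct, Matrix.mulVec, Fintype.sum_sum_type])
  have e4 : frm (U (Sum.inl 1)) (U (Sum.inr 1)) = -1 := ι.injective (by
    rw [hf, map_neg, map_one]; simp [sympForm, Matrix.J, dotProduct, Matrix.mulVec, Fintype.sum_sum_type])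
  have hok := pair_all p a b a' b' c d c' d'
  rw [← ex, ← ey, ← ez, ← ew] at hok
  simp only [okP, e1, e2, e3, e4, beq_self_eq_true, Bool.not_true, Bool.false_or, List.all_eq_true, List.any_eq_true,
    List.mem_finRange, true_implies] at hok
  obtain ⟨s', hs'm, hs'⟩ := hok s (by simpa using hs)
  refine ⟨s', by simpa using hs'm, fun k => ⟨_, hs' k, ?_⟩⟩
  rw [toV_mul]
  congr 1
  ext i r
  rcases r with r | r <;> fin_cases r <;>
    simp [toM, ← hUv, nd_vals.1, nd_vals.2.1, nd_vals.2.2.1, nd_vals.2.2.2]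

end Three

omit ι in
theorem exists_symp_frame (v : Fin 2 ⊕ Fin 2 → V4F)
    (hv : ∀ a b, sympForm 2 F (v a) (v b) = sympForm 2 F (Pi.single a 1) (Pi.single b 1)) :
    ∃ P : G4, P ∈ spGL 2 F ∧ ∀ a, (P : M4F) *ᵥ Pi.single a 1 = v a := by
  let A : M4F := Matrix.of fun i j => v j i
  have hA : ∀ a, A *ᵥ Pi.single a 1 = v a := fun a => by ext i; simp [A]
  have key : ∀ x y, sympForm 2 F (A *ᵥ x) (A *ᵥ y) = sympForm 2 F x y := by
    intro x y
    have hu : ∀ w : V4F, w = ∑ i, w i • Pi.single i 1 := fun w => by ext i; simp [Pi.single_apply]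
    rw [hu x, hu y]
    simp only [← sympB_apply, map_sum, map_smul, Matrix.mulVec_sum, Matrix.mulVec_smul, LinearMap.coe_sum,
      Finset.sum_apply, LinearMap.smul_apply]
    simp only [sympB_apply, hA, hv]
  have hinj : Function.Injective A.mulVec := fun x y e => by
    by_contra hne
    obtain ⟨z, hz⟩ := exists_sympForm_eq_one (sub_ne_zero.2 hne)
    rw [← key, Matrix.mulVec_sub, show A *ᵥ x = A *ᵥ y from e, sub_self] at hz
    simp [sympForm] at hz
  obtain ⟨P, hP⟩ := Matrix.mulVec_injective_iff_isUnit.1 hinj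
  exact ⟨P, fun x y => by show sympForm 2 F ((P : M4F) *ᵥ x) ((P : M4F) *ᵥ y) = _; rw [hP, key], fun a => by rw [hP, hA]⟩

theorem sg_orth : ∀ e e' : Fin 2, e ≠ e' → ∀ k k',
    frm (wbasis (![(1 : Z), -1] e) k) (wbasis (![(1 : Z), -1] e') k') = 0 := by decide +kernel

theorem sg_val : ∀ e : Fin 2, frm (wbasis (![(1 : Z), -1] e) 0) (wbasis (![(1 : Z), -1] e) 1) ≠ 0 := by
  decide +kernel

omit ι in
theorem J_single (k : Fin 2) : Matrix.J (Fin 2) F *ᵥ Pi.single (Sum.inl k) 1 = Pi.single (Sum.inr k) 1 ∧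
    Matrix.J (Fin 2) F *ᵥ Pi.single (Sum.inr k) 1 = -Pi.single (Sum.inl k) 1 := by
  constructor <;> ext i <;> rcases i with i | i <;> simp [Matrix.J, Matrix.one_apply, Pi.single_apply]

omit ι in
/-- The normaliser of a field of unitary type is not maximal. -/
theorem unitary_field_not_maximal [Fintype F] (hq : Fintype.card F = 3) {H : Subgroup G4}
    (hH : IsMaximalIn (spGL 2 F) H) {K : Subalgebra F M4F} (hK : IsFieldSubalgebra 2 K)
    (hac : IsAdjointClosedFor (sympForm 2 F) K) (hns : ¬ IsSelfAdjointFor (sympForm 2 F) K) :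
    H ≠ subalgebraNormalizer K ⊓ spGL 2 F := by
  intro hHeq
  let ι : Z →+* F := (ZMod.ringEquivOfPrime F Nat.prime_three hq).toRingHom
  have hι : Function.Bijective ι := (ZMod.ringEquivOfPrime F Nat.prime_three hq).bijective
  have hall : ∀ c : F, c = 0 ∨ c = 1 ∨ c = -1 := fun c => by
    obtain ⟨z, rfl⟩ := hι.2 c
    fin_cases z
    · left; exact map_zero ι
    · right; left; exact map_one ι
    · right; right; rw [show (⟨2, _⟩ : Fin 3) = (-1 : Z) from rfl, map_neg, map_one]
  have h2 : (2 : F) ≠ 0 := by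
    intro h
    have := ι.injective (show ι 2 = ι 0 by rw [map_ofNat, map_zero, h])
    revert this; decide
  have hne : (1 : F) ≠ -1 := fun h => h2 (by linear_combination h)
  letI : Field K := (field_model hK).toField
  haveI : FiniteDimensional F K := Module.finite_of_finrank_pos (by rw [hK.finrank_eq]; norm_num)
  haveI : Finite K := Module.finite_of_finite F
  haveI : Fintype K := Fintype.ofFinite K
  have hcardK : Fintype.card K = 9 := by
    rw [Module.card_eq_pow_finrank (K := F), hq, hK.finrank_eq]; norm_num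
  obtain ⟨u, hu⟩ := IsCyclic.exists_ofOrder_eq_natCard (α := Kˣ)
  rw [Nat.card_units, Nat.card_eq_fintype_card, hcardK] at hu
  let jK : K := (u ^ 2 : Kˣ)
  have hj2 : jK * jK = -1 := by
    have h4 : u ^ 4 ≠ 1 := pow_ne_one_of_lt_orderOf (by norm_num) (by rw [hu]; norm_num)
    have h8 : u ^ 8 = 1 := by
      have h := pow_orderOf_eq_one u
      rw [hu] at h
      exact h
    have hz : (jK * jK - 1) * (jK * jK + 1) = 0 := by
      have := congrArg (Units.val : Kˣ → K) h8
      simp only [Units.val_pow_eq_pow_val, Units.val_one] at this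
      simp only [jK, Units.val_pow_eq_pow_val]
      linear_combination this
    refine eq_neg_of_add_eq_zero_left ((mul_eq_zero.1 hz).resolve_left fun h => h4 (Units.ext ?_))
    rw [sub_eq_zero] at h
    simp only [jK, Units.val_pow_eq_pow_val] at h
    rw [Units.val_pow_eq_pow_val, Units.val_one, ← h]
    ring
  set j : M4F := (jK : M4F) with hjdef
  have hjK : j ∈ K := jK.2
  have hjj : j * j = -1 := congrArg Subtype.val hj2
  have hpm : ∀ k ∈ K, k * k = -1 → k = j ∨ k = -j := by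
    intro k hk hkk
    have e : ((⟨k, hk⟩ : K) - jK) * ((⟨k, hk⟩ : K) + jK) = 0 := by
      have : (⟨k, hk⟩ : K) * ⟨k, hk⟩ = -1 := Subtype.ext hkk
      linear_combination this - hj2
    rcases mul_eq_zero.1 e with e | e
    · left; exact congrArg Subtype.val (sub_eq_zero.1 e)
    · right; exact congrArg Subtype.val (eq_neg_of_add_eq_zero_left e)
  have hspan : ∀ k ∈ K, ∃ a b : F, k = a • (1 : M4F) + b • j := by
    intro k hk
    have hli : LinearIndependent F ![(1 : K), jK] := by
      rw [LinearIndependent.pair_iff]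
      intro a b e
      by_cases hb : b = 0
      · subst hb; simpa using e
      · exfalso
        have e1 : jK = algebraMap F K (-(a / b)) := by
          rw [Algebra.algebraMap_eq_smul_one]
          have := congrArg (fun z : K => b⁻¹ • z) e
          simp only [smul_add, smul_smul, inv_mul_cancel₀ hb, one_smul, smul_zero] at this
          rw [eq_neg_of_add_eq_zero_right this, neg_smul, div_eq_inv_mul]
        rw [e1, ← map_mul, ← map_one (algebraMap F K), ← map_neg] at hj2
        have e2 := (algebraMap F K).injective hj2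
        rcases hall (-(a / b)) with h | h | h <;> rw [h] at e2
        · simp at e2
        · exact hne (by simpa using e2)
        · exact hne (by simpa using e2)
    have hb := hli.span_eq_top_of_card_eq_finrank (by simp [hK.finrank_eq])
    obtain ⟨c, hc⟩ := (Submodule.mem_span_range_iff_exists_fun F).1 (hb ▸ Submodule.mem_top : (⟨k, hk⟩ : K) ∈ _)
    refine ⟨c 0, c 1, ?_⟩
    have := congrArg (Subtype.val : K → M4F) hc
    simp [Fin.sum_univ_two] at this
    exact this.symm
  have hadj : ∀ x y : V4F, sympForm 2 F (j *ᵥ x) y = -sympForm 2 F x (j *ᵥ y) := by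
    obtain ⟨k', hk', hf⟩ := hac j hjK
    have hk2 : k' * k' = -1 := by
      refine Matrix.toLin'.injective (LinearMap.ext fun y => ?_)
      rw [Matrix.toLin'_apply, Matrix.toLin'_apply]
      by_contra hne'
      obtain ⟨z, hz⟩ := exists_sympForm_eq_one (sub_ne_zero.2 hne')
      have e : ∀ x, sympForm 2 F x ((k' * k') *ᵥ y) = sympForm 2 F x ((-1 : M4F) *ᵥ y) := fun x => by
        rw [← Matrix.mulVec_mulVec, ← hf, ← hf, Matrix.mulVec_mulVec, hjj]
        simp [sympForm, Matrix.neg_mulVec, Matrix.mulVec_neg]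
      rw [← sympB_apply, map_sub, LinearMap.sub_apply, sympB_apply, sympB_apply, sympForm_swap, e,
        ← sympForm_swap, sub_self] at hz
      exact zero_ne_one hz
    intro x y
    rcases hpm k' hk' hk2 with rfl | rfl
    · exfalso
      refine hns fun k hk x y => ?_
      obtain ⟨a, b, rfl⟩ := hspan k hk
      simp only [Matrix.add_mulVec, Matrix.smul_mulVec, Matrix.one_mulVec, ← sympB_apply, map_add, map_smul,
        LinearMap.add_apply, LinearMap.smul_apply]
      simp only [sympB_apply, hf]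
    · rw [hf, Matrix.neg_mulVec, ← sympB_apply, map_neg, sympB_apply]
  have hswap : ∀ x y : V4F, sympForm 2 F x (j *ᵥ y) = sympForm 2 F y (j *ᵥ x) := fun x y => by
    rw [sympForm_swap, hadj, neg_neg]
  have hjx : ∀ x : V4F, j *ᵥ (j *ᵥ x) = -x := fun x => by
    rw [Matrix.mulVec_mulVec, hjj, Matrix.neg_mulVec, Matrix.one_mulVec]
  have hjsym : ∀ x y : V4F, sympForm 2 F (j *ᵥ x) (j *ᵥ y) = sympForm 2 F x y := fun x y => by
    rw [hadj, hjx, ← sympB_apply, map_neg, neg_neg, sympB_apply]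
  have scale : ∀ v : V4F, sympForm 2 F v (j *ᵥ v) ≠ 0 → ∃ a b : F, sympForm 2 F (a • v + b • (j *ᵥ v))
      (j *ᵥ (a • v + b • (j *ᵥ v))) = -1 := by
    intro v hv
    have e : ∀ a b : F, sympForm 2 F (a • v + b • (j *ᵥ v)) (j *ᵥ (a • v + b • (j *ᵥ v))) =
        (a ^ 2 + b ^ 2) * sympForm 2 F v (j *ᵥ v) := fun a b => by
      simp only [Matrix.mulVec_add, Matrix.mulVec_smul, hjx, ← sympB_apply, map_add, map_smul, map_neg,
        LinearMap.add_apply, LinearMap.smul_apply, LinearMap.neg_apply, smul_eq_mul]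
      simp only [sympB_apply, sympForm_self, hadj, hjx]
      ring
    rcases hall (sympForm 2 F v (j *ᵥ v)) with h | h | h
    · exact absurd h hv
    · refine ⟨1, 1, ?_⟩; rw [e, h]
      have h3 : (3 : F) = 0 := by
        have := FiniteField.cast_card_eq_zero F; rw [hq] at this; exact_mod_cast this
      linear_combination h3
    · refine ⟨1, 0, ?_⟩; rw [e, h]; ring
  have exist : ∀ S : Submodule F V4F, S ≠ ⊥ → (∀ x ∈ S, j *ᵥ x ∈ S) →
      (∀ x ∈ S, x ≠ 0 → ∃ y ∈ S, sympForm 2 F x y ≠ 0) → ∃ v ∈ S, sympForm 2 F v (j *ᵥ v) = -1 := by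
    intro S hS hjS hnd
    obtain ⟨x, hx, hx0⟩ := Submodule.exists_mem_ne_zero_of_ne_bot hS
    have hex : ∃ v ∈ S, sympForm 2 F v (j *ᵥ v) ≠ 0 := by
      by_contra hno
      push Not at hno
      obtain ⟨y, hy, hxy⟩ := hnd (j *ᵥ x) (hjS x hx) (fun h => hx0 (by
        have := hjx x; rw [h, Matrix.mulVec_zero] at this; exact neg_eq_zero.1 this.symm))
      refine hxy ((mul_eq_zero.1 (show (2 : F) * sympForm 2 F (j *ᵥ x) y = 0 from ?_)).resolve_left h2)
      have e := hno (x + y) (S.add_mem hx hy)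
      simp only [Matrix.mulVec_add, ← sympB_apply, map_add, LinearMap.add_apply] at e
      simp only [sympB_apply, hno x hx, hno y hy, hswap y x] at e
      rw [hadj]
      linear_combination -e
    obtain ⟨v, hv, hv'⟩ := hex
    obtain ⟨a, b, hab⟩ := scale v hv'
    exact ⟨_, S.add_mem (S.smul_mem _ hv) (S.smul_mem _ (hjS v hv)), hab⟩
  obtain ⟨v, -, hv⟩ := exist ⊤ (by simp) (fun _ _ => trivial) fun x _ hx => by
    obtain ⟨y, hy⟩ := exists_sympForm_eq_one hx
    exact ⟨y, trivial, by rw [hy]; exact one_ne_zero⟩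
  let S : Submodule F V4F := LinearMap.ker (sympB 2 F v) ⊓ LinearMap.ker (sympB 2 F (j *ᵥ v))
  have hS : ∀ x, x ∈ S ↔ sympForm 2 F v x = 0 ∧ sympForm 2 F (j *ᵥ v) x = 0 := fun x => by
    simp [S, sympB_apply]
  have hjvv : sympForm 2 F (j *ᵥ v) v = 1 := by rw [sympForm_swap, hv, neg_neg]
  have hdec : ∀ z : V4F, z + sympForm 2 F (j *ᵥ v) z • (-v) + sympForm 2 F v z • (j *ᵥ v) ∈ S := fun z => by
    rw [hS]
    simp only [← sympB_apply, map_add, map_smul, map_neg, smul_eq_mul]
    simp only [sympB_apply, sympForm_self, hv, hjvv]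
    constructor <;> ring
  obtain ⟨w, hwS, hw⟩ := exist S (by
      intro h
      have h1 := MaxTv.finrank_le_inf_ker_add_one (⊤ : Submodule F V4F) (sympB 2 F v)
      have h2 := MaxTv.finrank_le_inf_ker_add_one (LinearMap.ker (sympB 2 F v)) (sympB 2 F (j *ᵥ v))
      rw [top_inf_eq, finrank_top, Module.finrank_fintype_fun_eq_card] at h1
      change _ ≤ finrank F S + 1 at h2
      rw [h, finrank_bot] at h2
      simp at h1
      omega)
    (fun x hx => by
      rw [hS] at hx ⊢
      refine ⟨?_, by rw [hjsym]; exact hx.1⟩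
      have := hadj v x
      rw [hx.2] at this
      linear_combination this)
    fun x hx hx0 => by
      obtain ⟨z, hz⟩ := exists_sympForm_eq_one hx0
      refine ⟨_, hdec z, ?_⟩
      rw [hS] at hx
      have e1 : sympForm 2 F x v = 0 := by rw [sympForm_swap, hx.1, neg_zero]
      have e2 : sympForm 2 F x (j *ᵥ v) = 0 := by rw [sympForm_swap, hx.2, neg_zero]
      simp only [← sympB_apply, map_add, map_smul, map_neg, smul_eq_mul]
      simp only [sympB_apply, hz, e1, e2]
      simp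
  obtain ⟨hvw, hjvw⟩ := (hS w).1 hwS
  have hvjw : sympForm 2 F v (j *ᵥ w) = 0 := by
    have := hadj v w
    rw [hjvw] at this
    linear_combination this
  obtain ⟨P, hPS, hP⟩ := exists_symp_frame (F := F)
    (Sum.elim ![v, w] ![j *ᵥ v, j *ᵥ w]) (fun a b => by
      have e1 : sympForm 2 F w v = 0 := by rw [sympForm_swap, hvw, neg_zero]
      have e2 : sympForm 2 F w (j *ᵥ v) = 0 := by rw [sympForm_swap, hjvw, neg_zero]
      have e3 : sympForm 2 F (j *ᵥ w) v = 0 := by rw [sympForm_swap, hvjw, neg_zero]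
      have e4 : sympForm 2 F (j *ᵥ w) w = 1 := by rw [sympForm_swap, hw, neg_neg]
      rcases a with a | a <;> rcases b with b | b <;> fin_cases a <;> fin_cases b <;>
        simp [sympForm_self, hv, hw, hvw, hjvw, hjvv, hvjw, e1, e2, e3, e4, hjsym] <;>
        simp [sympForm, Matrix.J, dotProduct, Matrix.mulVec, Fintype.sum_sum_type])
  have hPj : j * (P : M4F) = (P : M4F) * Matrix.J (Fin 2) F := by
    refine Matrix.ext_of_mulVec_single fun a => ?_
    rw [← Matrix.mulVec_mulVec, ← Matrix.mulVec_mulVec, hP]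
    rcases a with a | a
    · rw [(J_single a).1, hP]; fin_cases a <;> simp
    · rw [(J_single a).2, Matrix.mulVec_neg, hP]; fin_cases a <;> simp [hjx]
  let L : Subgroup G4 := (subgroupNormalizer (RG ι)).map (MulAut.conj P).toMonoidHom ⊓ spGL 2 F
  have hle : H ≤ L := by
    intro g hg
    rw [hHeq] at hg
    obtain ⟨hgN, (hgS : g ∈ spGL 2 F)⟩ := hg
    refine ⟨⟨P⁻¹ * g * P, ?_, by show P * (P⁻¹ * g * P) * P⁻¹ = g; group⟩, hgS⟩
    have hk : (g : M4F) * j * ((g⁻¹ : G4) : M4F) ∈ K := (hgN j).1 hjK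
    have hsq : ((g : M4F) * j * ((g⁻¹ : G4) : M4F)) * ((g : M4F) * j * ((g⁻¹ : G4) : M4F)) = -1 := by
      calc _ = (g : M4F) * (j * (((g⁻¹ : G4) : M4F) * (g : M4F)) * j) * ((g⁻¹ : G4) : M4F) := by
            simp only [Matrix.mul_assoc]
        _ = _ := by rw [Units.inv_mul, Matrix.mul_one, hjj, Matrix.mul_neg, Matrix.mul_one, Matrix.neg_mul,
            Units.mul_inv]
    have hgj : ∃ e : Fin 2, (g : M4F) * j = ι (![(1 : Z), -1] e) • (j * (g : M4F)) := by
      rcases hpm _ hk hsq with e | e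
      · refine ⟨0, ?_⟩
        simp only [Matrix.cons_val_zero, map_one, one_smul]
        conv_rhs => rw [← e]
        rw [Matrix.mul_assoc, Units.inv_mul, Matrix.mul_one]
      · refine ⟨1, ?_⟩
        simp only [Matrix.cons_val_one, Matrix.cons_val_zero, map_neg, map_one, neg_one_smul]
        rw [← Matrix.neg_mul, ← e, Matrix.mul_assoc, Units.inv_mul, Matrix.mul_one]
    obtain ⟨e, he⟩ := hgj
    refine normalizer_le ι hι (mul_mem (mul_mem (inv_mem hPS) hgS) hPS) (e := e) ?_
    have hPj' : ((P⁻¹ : G4) : M4F) * j = Matrix.J (Fin 2) F * ((P⁻¹ : G4) : M4F) := by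
      calc ((P⁻¹ : G4) : M4F) * j = ((P⁻¹ : G4) : M4F) * (j * (P : M4F)) * ((P⁻¹ : G4) : M4F) := by
            simp only [Matrix.mul_assoc, Units.mul_inv, Matrix.mul_one]
        _ = _ := by rw [hPj, ← Matrix.mul_assoc, Units.inv_mul, Matrix.one_mul]
    simp only [Units.val_mul]
    calc ((P⁻¹ : G4) : M4F) * (g : M4F) * (P : M4F) * Matrix.J (Fin 2) F
        = ((P⁻¹ : G4) : M4F) * ((g : M4F) * j) * (P : M4F) := by
          simp only [Matrix.mul_assoc, ← hPj]
      _ = ι (![(1 : Z), -1] e) • ((((P⁻¹ : G4) : M4F) * j) * ((g : M4F) * (P : M4F))) := by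
          rw [he, Matrix.mul_smul, Matrix.smul_mul]; simp only [Matrix.mul_assoc]
      _ = _ := by rw [hPj']; simp only [Matrix.mul_assoc]
  rcases hH.2 L hle inf_le_right with hL | hL
  · let w0 : G4 := elt ι W Winv W_inv
    have hw0 : P * w0 * P⁻¹ ∈ L := by
      refine ⟨⟨w0, mem_normalizer_of_gens ι w0 fun k => mem_RG_of_inR ι _ _ ?_ (W_norm (gens k)), rfl⟩,
        (spGL 2 F).mul_mem ((spGL 2 F).mul_mem hPS (elt_mem ι W Winv W_inv W_symp)) ((spGL 2 F).inv_mem hPS)⟩
      rw [Units.val_mul, Units.val_mul, toM_mul, toM_mul]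
      rfl
    rw [hL, hHeq] at hw0
    have hPJ : ∀ g : G4, ((P * g * P⁻¹ : G4) : M4F) * j * (((P * g * P⁻¹)⁻¹ : G4) : M4F) =
        (P : M4F) * ((g : M4F) * Matrix.J (Fin 2) F * ((g⁻¹ : G4) : M4F)) * ((P⁻¹ : G4) : M4F) := by
      intro g
      have e1 : ((P⁻¹ : G4) : M4F) * j * (P : M4F) = Matrix.J (Fin 2) F := by
        rw [Matrix.mul_assoc, hPj, ← Matrix.mul_assoc, Units.inv_mul, Matrix.one_mul]
      rw [← e1, _root_.mul_inv_rev, _root_.mul_inv_rev, inv_inv, Units.val_mul, Units.val_mul, Units.val_mul,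
        Units.val_mul]
      simp only [Matrix.mul_assoc]
    have hk := (hw0.1 j).1 hjK
    have hsq : ∀ M N : M4F, M * N = 1 → N * M = 1 → (M * j * N) * (M * j * N) = -1 := fun M N h h' => by
      calc _ = M * (j * (N * M) * j) * N := by simp only [Matrix.mul_assoc]
        _ = _ := by rw [h', Matrix.mul_one, hjj, Matrix.mul_neg, Matrix.mul_one, Matrix.neg_mul, h]
    have hval := hpm _ hk (hsq _ _ (Units.mul_inv _) (Units.inv_mul _))
    rw [hPJ] at hval
    have hj' : (P : M4F) * Matrix.J (Fin 2) F * ((P⁻¹ : G4) : M4F) = j := by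
      rw [← hPj, Matrix.mul_assoc, Units.mul_inv, Matrix.mul_one]
    have hcan : ∀ X Y : M4F, (P : M4F) * X * ((P⁻¹ : G4) : M4F) = (P : M4F) * Y * ((P⁻¹ : G4) : M4F) → X = Y :=
      fun X Y h => by
        have := congrArg (fun T : M4F => ((P⁻¹ : G4) : M4F) * T * (P : M4F)) h
        simpa [← Matrix.mul_assoc, Matrix.mul_assoc _ ((P⁻¹ : G4) : M4F)] using this
    rcases hval with h | h
    · rw [← hj'] at h
      have e := congrArg (fun T : M4F => T * (w0 : M4F)) (hcan _ _ h)
      simp only [Matrix.mul_assoc, Units.inv_mul, Matrix.mul_one] at e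
      refine W_not.1 (toM_inj ι ?_)
      rw [toM_mul, toM_mul, toM_Jm]
      exact e
    · rw [← hj', ← Matrix.neg_mul, ← Matrix.mul_neg] at h
      have e := congrArg (fun T : M4F => T * (w0 : M4F)) (hcan _ _ h)
      simp only [Matrix.mul_assoc, Units.inv_mul, Matrix.mul_one, Matrix.neg_mul] at e
      refine W_not.2 (toM_inj ι ?_)
      rw [toM_neg, toM_mul, toM_mul, toM_Jm]
      exact e
  · have hT : P * elt ι Tv Tvinv Tv_inv * P⁻¹ ∈ L :=
      hL ▸ mul_mem (mul_mem hPS (elt_mem ι Tv Tvinv Tv_inv Tv_symp)) (inv_mem hPS)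
    obtain ⟨⟨y, hy, hye⟩, -⟩ := hT
    have hy' : y = elt ι Tv Tvinv Tv_inv := by simpa using hye
    subst hy'
    obtain ⟨n, hn⟩ := Tv_out
    obtain ⟨m, hm⟩ := (Subgroup.mem_normalizer_iff.1 hy (relt ι n)).1 ⟨n, rfl⟩
    have hm' := congrArg (Units.val : G4 → M4F) hm
    rw [Units.val_mul, Units.val_mul, relt_val, relt_val] at hm'
    change toM ι Tv * toM ι (R n) * toM ι Tvinv = _ at hm'
    rw [← toM_mul, ← toM_mul] at hm'
    have : inR (mulM (mulM Tv (R n)) Tvinv) = true := by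
      rw [toM_inj ι hm']
      simp only [inR, List.any_eq_true, List.all_eq_true, List.mem_finRange, true_implies, beq_iff_eq]
      exact ⟨m, trivial, fun _ _ => rfl⟩
    rw [hn] at this
    exact Bool.false_ne_true this

omit ι in
/-- The stabiliser of two totally isotropic planes fixes two orthogonal planes. -/
theorem sp_pair_small [Fintype F] (hq : Fintype.card F = 3) {H : Subgroup G4} (hH : IsMaximalIn (spGL 2 F) H)
    {D : Fin 2 → Submodule F V4F} (hD : IsMDecomposition 2 D)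
    (hts : ∀ i, IsTotallySingularFor (sympForm 2 F) (D i)) (hHD : H = decompositionStabilizer D ⊓ spGL 2 F) :
    ∃ D' : Fin 2 → Submodule F V4F, IsNondegenerateMDecomposition (sympForm 2 F) 2 D' ∧
      H = decompositionStabilizer D' ⊓ spGL 2 F := by
  let ι : Z →+* F := (ZMod.ringEquivOfPrime F Nat.prime_three hq).toRingHom
  have hι : Function.Bijective ι := (ZMod.ringEquivOfPrime F Nat.prime_three hq).bijective
  have h2 : (2 : F) ≠ 0 := by
    intro h
    have := ι.injective (show ι 2 = ι 0 by rw [map_ofNat, map_zero, h])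
    revert this; decide
  have hsup : D 0 ⊔ D 1 = ⊤ := by
    rw [← hD.iSup_eq_top]
    refine le_antisymm (sup_le (le_iSup D 0) (le_iSup D 1)) (iSup_le fun i => ?_)
    fin_cases i
    · exact le_sup_left
    · exact le_sup_right
  have hpart : ∀ a ∈ D 0, a ≠ 0 → ∃ c ∈ D 1, sympForm 2 F a c = -1 := by
    intro a ha ha0
    obtain ⟨z, hz⟩ := exists_sympForm_eq_one ha0
    obtain ⟨x, hx, c, hc, rfl⟩ := Submodule.mem_sup.1 (hsup ▸ Submodule.mem_top : z ∈ D 0 ⊔ D 1)
    refine ⟨-c, (D 1).neg_mem hc, ?_⟩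
    rw [← sympB_apply, map_add, sympB_apply, sympB_apply, hts 0 a ha x hx, zero_add] at hz
    rw [← sympB_apply, map_neg, sympB_apply, hz]
  obtain ⟨a, ha, ha0⟩ := Submodule.exists_mem_ne_zero_of_ne_bot (p := D 0) (fun h => by
    have := hD.finrank_eq 0; rw [h, finrank_bot] at this; norm_num at this)
  obtain ⟨c, hc, hac⟩ := hpart a ha ha0
  obtain ⟨b, hb, hb0⟩ := Submodule.exists_mem_ne_zero_of_ne_bot (p := D 0 ⊓ LinearMap.ker ((sympB 2 F).flip c))
    (fun h => by
      have h1 := MaxTv.finrank_le_inf_ker_add_one (D 0) ((sympB 2 F).flip c)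
      rw [h, finrank_bot, hD.finrank_eq] at h1
      omega)
  have hbc : sympForm 2 F b c = 0 := by simpa [sympB_apply] using hb.2
  obtain ⟨d₀, hd₀, hbd₀⟩ := hpart b hb.1 hb0
  set d := d₀ + sympForm 2 F a d₀ • c with hd
  have hdD : d ∈ D 1 := (D 1).add_mem hd₀ ((D 1).smul_mem _ hc)
  have had : sympForm 2 F a d = 0 := by
    rw [hd, ← sympB_apply, map_add, map_smul, sympB_apply, sympB_apply, hac, smul_eq_mul]; ring
  have hbd : sympForm 2 F b d = -1 := by
    rw [hd, ← sympB_apply, map_add, map_smul, sympB_apply, sympB_apply, hbd₀, hbc, smul_zero, add_zero]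
  obtain ⟨P, hPS, hP⟩ := exists_symp_frame (F := F) (Sum.elim ![a, b] ![c, d]) (fun r s => by
    have e1 : sympForm 2 F c a = 1 := by rw [sympForm_swap, hac, neg_neg]
    have e2 : sympForm 2 F d b = 1 := by rw [sympForm_swap, hbd, neg_neg]
    have e3 : sympForm 2 F c b = 0 := by rw [sympForm_swap, hbc, neg_zero]
    have e4 : sympForm 2 F d a = 0 := by rw [sympForm_swap, had, neg_zero]
    rcases r with r | r <;> rcases s with s | s <;> fin_cases r <;> fin_cases s <;>
      simp [sympForm_self, hac, hbd, hbc, had, e1, e2, e3, e4, hts 0 a ha b hb.1, hts 0 b hb.1 a ha,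
        hts 1 c hc d hdD, hts 1 d hdD c hc] <;>
      simp [sympForm, Matrix.J, dotProduct, Matrix.mulVec, Fintype.sum_sum_type])
  have hmem0 : ∀ k, (P : M4F) *ᵥ Pi.single (Sum.inl k) 1 ∈ D 0 := fun k => by
    rw [hP]; fin_cases k
    · exact ha
    · exact hb.1
  have hmem1 : ∀ k, (P : M4F) *ᵥ Pi.single (Sum.inr k) 1 ∈ D 1 := fun k => by
    rw [hP]; fin_cases k
    · exact hc
    · exact hdD
  have hz0 : ∀ y : V4F, (P : M4F) *ᵥ y ∈ D 0 → ∀ i, y (Sum.inr i) = 0 := fun y hy i => by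
    have e := hts 0 _ hy _ (hmem0 i)
    have e' : sympForm 2 F ((P : M4F) *ᵥ y) ((P : M4F) *ᵥ Pi.single (Sum.inl i) 1) =
        sympForm 2 F y (Pi.single (Sum.inl i) 1) := hPS _ _
    rw [e'] at e
    fin_cases i <;> simpa [sympForm, Matrix.J, dotProduct, Matrix.mulVec, Fintype.sum_sum_type] using e
  have hz1 : ∀ y : V4F, (P : M4F) *ᵥ y ∈ D 1 → ∀ i, y (Sum.inl i) = 0 := fun y hy i => by
    have e := hts 1 _ hy _ (hmem1 i)
    have e' : sympForm 2 F ((P : M4F) *ᵥ y) ((P : M4F) *ᵥ Pi.single (Sum.inr i) 1) =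
        sympForm 2 F y (Pi.single (Sum.inr i) 1) := hPS _ _
    rw [e'] at e
    fin_cases i <;> simpa [sympForm, Matrix.J, dotProduct, Matrix.mulVec, Fintype.sum_sum_type] using e
  let sg : Fin 2 → Z := ![1, -1]
  let B : Fin 2 → Fin 2 → V4F := fun e k => (P : M4F) *ᵥ toV ι (wbasis (sg e) k)
  let D' : Fin 2 → Submodule F V4F := fun e => Submodule.span F (Set.range (B e))
  have hB : ∀ e e' k k', sympForm 2 F (B e k) (B e' k') = ι (frm (wbasis (sg e) k) (wbasis (sg e') k')) :=
    fun e e' k k' => (hPS _ _).trans (frm_eq ι _ _)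
  have hmemB : ∀ e x, x ∈ D' e → ∃ α β : F, x = α • B e 0 + β • B e 1 := fun e x hx => by
    obtain ⟨c, rfl⟩ := (Submodule.mem_span_range_iff_exists_fun F).1 hx
    exact ⟨c 0, c 1, by simp [Fin.sum_univ_two]⟩
  have horth : ∀ e e', e ≠ e' → ∀ x ∈ D' e, ∀ y ∈ D' e', sympForm 2 F x y = 0 := by
    intro e e' hne x hx y hy
    obtain ⟨α, β, rfl⟩ := hmemB e x hx
    obtain ⟨α', β', rfl⟩ := hmemB e' y hy
    simp only [← sympB_apply, map_add, map_smul, LinearMap.add_apply, LinearMap.smul_apply]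
    simp only [sympB_apply, hB]
    have h0 : ∀ k k', frm (wbasis (sg e) k) (wbasis (sg e') k') = 0 := sg_orth e e' hne
    simp [h0]
  have hval : ∀ e, ι (frm (wbasis (sg e) 0) (wbasis (sg e) 1)) ≠ 0 := fun e => by
    rw [Ne, ← map_zero ι, ι.injective.eq_iff]; exact sg_val e
  have hnd : ∀ (e : Fin 2) (α β : F), α • B e 0 + β • B e 1 ≠ 0 →
      sympForm 2 F (B e 0) (α • B e 0 + β • B e 1) ≠ 0 ∨ sympForm 2 F (B e 1) (α • B e 0 + β • B e 1) ≠ 0 := by
    intro e α β h0
    by_cases hβ : β = 0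
    · right
      have hα : α ≠ 0 := fun hα => h0 (by simp [hα, hβ])
      rw [hβ, zero_smul, add_zero, ← sympB_apply, map_smul, sympB_apply, sympForm_swap, hB]
      simp [hα, hval e]
    · left
      rw [← sympB_apply, map_add, map_smul, map_smul, sympB_apply, sympB_apply, sympForm_self, hB]
      simp [hβ, hval e]
  have hND : ∀ e, IsNondegenerateOn (sympForm 2 F) (D' e) := fun e x hx hx0 => by
    obtain ⟨α, β, rfl⟩ := hmemB e x hx
    rcases hnd e α β hx0 with h | h
    · exact ⟨⟨_, Submodule.subset_span ⟨0, rfl⟩, h⟩, _, Submodule.subset_span ⟨0, rfl⟩,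
        fun h' => h (by rw [sympForm_swap, h', neg_zero])⟩
    · exact ⟨⟨_, Submodule.subset_span ⟨1, rfl⟩, h⟩, _, Submodule.subset_span ⟨1, rfl⟩,
        fun h' => h (by rw [sympForm_swap, h', neg_zero])⟩
  have hfin : ∀ e, finrank F (D' e) = 2 := fun e => by
    refine (finrank_span_eq_card ?_).trans (Fintype.card_fin 2)
    rw [show B e = ![B e 0, B e 1] from funext fun k => by fin_cases k <;> rfl, LinearIndependent.pair_iff' ?_]
    · intro α hα
      have h := congrArg (sympForm 2 F (B e 0)) hα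
      rw [← sympB_apply, map_smul, sympB_apply, sympForm_self, smul_zero, hB] at h
      exact hval e h.symm
    · intro h
      exact hval e (by rw [← hB, h]; simp [sympForm])
  have hdisj : D' 0 ⊓ D' 1 = ⊥ := (Submodule.eq_bot_iff _).2 fun x hx => by
    by_contra hx0
    obtain ⟨⟨y, hy, hy'⟩, -⟩ := hND 0 x hx.1 hx0
    exact hy' (horth 0 1 (by decide) y hy x hx.2)
  have hdec : IsMDecomposition 2 D' := by
    refine ⟨le_rfl, two_pos, hfin, fun i => ?_, ?_⟩
    · refine Disjoint.mono_right (iSup₂_le (a := D' (1 - i)) fun j hj => ?_) ?_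
      · rw [show j = 1 - i by revert hj; revert i j; decide]
      · fin_cases i
        · exact disjoint_iff.2 hdisj
        · exact disjoint_iff.2 (inf_comm (D' 0) (D' 1) ▸ hdisj)
    · refine Submodule.eq_top_of_finrank_eq ?_
      have h := Submodule.finrank_sup_add_finrank_inf_eq (D' 0) (D' 1)
      rw [hdisj, finrank_bot, hfin, hfin, add_zero] at h
      have h' : iSup D' = D' 0 ⊔ D' 1 := le_antisymm
        (iSup_le fun i => by fin_cases i <;> [exact le_sup_left; exact le_sup_right])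
        (sup_le (le_iSup D' 0) (le_iSup D' 1))
      rw [h', h, Module.finrank_fintype_fun_eq_card]
      simp
  refine ⟨D', ⟨hdec, hND, fun i j hij => horth i j hij⟩, sp_eq_inter hH ?_ (not_sp_le_decomp hdec)⟩
  intro g hg
  rw [hHD] at hg
  obtain ⟨⟨π, hπ⟩, hgS⟩ := hg
  have hgD : ∀ i x, x ∈ D i → (g : M4F) *ᵥ x ∈ D (π i) := fun i x hx => hπ i ▸ ⟨x, hx, rfl⟩
  set g0 : G4 := P⁻¹ * g * P with hg0
  have hPg : ∀ y, (P : M4F) *ᵥ ((g0 : M4F) *ᵥ y) = (g : M4F) *ᵥ ((P : M4F) *ᵥ y) := fun y => by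
    rw [Matrix.mulVec_mulVec, Matrix.mulVec_mulVec, ← Units.val_mul, ← Units.val_mul, hg0]
    congr 2; group
  have h0 : ∀ k i : Fin 2, (g0 : M4F) (if π 0 = 0 then Sum.inr i else Sum.inl i) (Sum.inl k) = 0 := fun k i => by
    have hmem : (P : M4F) *ᵥ ((g0 : M4F) *ᵥ Pi.single (Sum.inl k) 1) ∈ D (π 0) := by
      rw [hPg]; exact hgD 0 _ (hmem0 k)
    generalize π 0 = p at hmem ⊢
    fin_cases p
    · simpa using hz0 _ hmem i
    · simpa using hz1 _ hmem i
  have h1 : ∀ k i : Fin 2, (g0 : M4F) (if π 0 = 0 then Sum.inl i else Sum.inr i) (Sum.inr k) = 0 := fun k i => by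
    have hne : π 1 = 1 - π 0 := by
      have : π 1 ≠ π 0 := fun e => absurd (π.injective e) (by decide)
      revert this; generalize π 0 = p; generalize π 1 = r; revert p r; decide
    have hmem : (P : M4F) *ᵥ ((g0 : M4F) *ᵥ Pi.single (Sum.inr k) 1) ∈ D (1 - π 0) := by
      rw [hPg, ← hne]; exact hgD 1 _ (hmem1 k)
    generalize π 0 = p at hmem ⊢
    fin_cases p
    · simpa using hz1 ((g0 : M4F) *ᵥ Pi.single (Sum.inr k) 1) (by simpa only [Fin.zero_eta, sub_zero] using hmem) i
    · simpa using hz0 ((g0 : M4F) *ᵥ Pi.single (Sum.inr k) 1) (by simpa only [Fin.mk_one, sub_self] using hmem) i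
  have him : ∀ e, ∃ e', (D' e).map (Matrix.toLin' (g : M4F)) = D' e' := by
    intro e
    obtain ⟨s', hs', hk⟩ := pair_le ι hι (mul_mem (mul_mem (inv_mem hPS) hgS) hPS) h0 h1 (sg e)
      (by fin_cases e <;> simp [sg])
    obtain ⟨e', rfl⟩ : ∃ e', sg e' = s' := by
      rcases hs' with rfl | rfl
      · exact ⟨0, rfl⟩
      · exact ⟨1, rfl⟩
    refine ⟨e', Submodule.eq_of_le_of_finrank_eq ?_ ?_⟩
    · rw [Submodule.map_span_le]
      rintro _ ⟨k, rfl⟩
      obtain ⟨w, hw, hgw⟩ := hk k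
      rw [Matrix.toLin'_apply, ← hPg, hgw]
      simp only [inW, Bool.and_eq_true, beq_iff_eq] at hw
      have : toV ι w = ι (w 0) • toV ι (wbasis (sg e') 0) + ι (w 1) • toV ι (wbasis (sg e') 1) := by
        ext i
        rcases i with i | i <;> fin_cases i <;>
          simp [toV, wbasis, nd_vals.1, nd_vals.2.1, nd_vals.2.2.1, nd_vals.2.2.2, hw.1, hw.2, mul_comm]
      rw [this, Matrix.mulVec_add, Matrix.mulVec_smul, Matrix.mulVec_smul]
      exact add_mem (Submodule.smul_mem _ _ (Submodule.subset_span ⟨0, rfl⟩))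
        (Submodule.smul_mem _ _ (Submodule.subset_span ⟨1, rfl⟩))
    · rw [hfin, ← (Submodule.equivMapOfInjective _ (fun x y h => MaxTv.gl_mulVec_injective g
        (by simpa [Matrix.toLin'_apply] using h)) (D' e)).finrank_eq, hfin]
  choose π' hπ' using him
  refine ⟨Equiv.ofBijective π' (Finite.injective_iff_bijective.1 fun e e' he => ?_), hπ'⟩
  by_contra hne
  have h : (D' e).map (Matrix.toLin' (g : M4F)) = (D' e').map (Matrix.toLin' (g : M4F)) := by rw [hπ', hπ', he]
  have hinj := Submodule.map_injective_of_injective (f := Matrix.toLin' (g : M4F))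
    (fun x y h => MaxTv.gl_mulVec_injective g (by simpa [Matrix.toLin'_apply] using h)) h
  have : D' 0 = D' 1 := by
    fin_cases e <;> fin_cases e' <;> simp at hne
    · exact hinj
    · exact hinj.symm
  rw [this, inf_idem] at hdisj
  have := hfin 1
  rw [hdisj, finrank_bot] at this
  norm_num at this

end Cfsg.Agent.Classical.SpFourThree
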