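import Cfsg.Agent.Lib.Classical.AschSymp
import Cfsg.Agent.Lib.Classical.AschSLProper
import Cfsg.Agent.Lib.Classical.MaxSympWreath
import Cfsg.Agent.Lib.Classical.SympSimple

/-!
The symplectic group lies in no member of a geometric class.
-/

set_option autoImplicit false
set_option linter.unusedSectionVars false
set_option linter.unusedFintypeInType false
set_option linter.unusedDecidableInType false

namespace Cfsg.Agent.Classical.Asch

open Matrix Module Cfsg.Geo
open MaxTv (exists_sp_tv gl_mulVec_injective)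
open scoped commutatorElement

variable {F : Type*} [Field F] {m : ℕ}

theorem scalar_of_eigen {ι : Type} [Fintype ι] [DecidableEq ι] {A : Matrix ι ι F}
    (h : ∀ v : ι → F, v ≠ 0 → ∃ a : F, A *ᵥ v = a • v) : ∃ c : F, A = c • (1 : Matrix ι ι F) := by
  obtain ⟨l, hl⟩ : ∃ l : F, Matrix.toLin' A = l • LinearMap.id := by
    refine LinearMap.exists_eq_smul_id_of_forall_notLinearIndependent fun v => ?_
    rcases eq_or_ne v 0 with rfl | hv
    · exact fun hli => (hli.ne_zero 0) (by simp)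
    · obtain ⟨r, hr⟩ := h v hv
      intro hli
      have := LinearIndependent.pair_iff.1 hli r (-1) (by rw [Matrix.toLin'_apply, hr]; simp)
      simpa using this.2
  refine ⟨l, Matrix.toLin'.injective ?_⟩
  rw [hl, map_smul, Matrix.toLin'_one]

/-- The symplectic group inside the general linear group. -/
def spHom (m : ℕ) (F : Type*) [Field F] :
    Matrix.symplecticGroup (Fin m) F →* GL (Fin m ⊕ Fin m) F :=
  MonoidHom.toHomUnits (Submonoid.subtype (Matrix.symplecticGroup (Fin m) F))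

theorem spHom_val (A : Matrix.symplecticGroup (Fin m) F) :
    ((spHom m F A : GL (Fin m ⊕ Fin m) F) : Matrix (Fin m ⊕ Fin m) (Fin m ⊕ Fin m) F) = A := rfl

theorem spHom_mem (A : Matrix.symplecticGroup (Fin m) F) : spHom m F A ∈ spGL m F :=
  fun u v => sympForm_map A u v

theorem exists_spHom {g : GL (Fin m ⊕ Fin m) F} (hg : g ∈ spGL m F) : ∃ A, spHom m F A = g :=
  ⟨⟨_, mem_symplecticGroup_iff_form.2 hg⟩, Units.ext rfl⟩

theorem sp_transitive {u v : (Fin m ⊕ Fin m) → F} (hu : u ≠ 0) (hv : v ≠ 0) :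
    ∃ g ∈ spGL m F, (g : Matrix (Fin m ⊕ Fin m) (Fin m ⊕ Fin m) F) *ᵥ u = v := by
  obtain ⟨A, hA⟩ := symp_pretransitive hu hv
  exact ⟨_, spHom_mem A, hA⟩

theorem not_sp_le_subspace {W : Submodule F ((Fin m ⊕ Fin m) → F)} (h1 : W ≠ ⊥) (ht : W ≠ ⊤) :
    ¬ spGL m F ≤ subspaceStabilizer W := by
  intro hle
  obtain ⟨w, hw, hw0⟩ := Submodule.exists_mem_ne_zero_of_ne_bot h1
  obtain ⟨v, -, hv⟩ := SetLike.exists_of_lt (lt_top_iff_ne_top.2 ht)
  obtain ⟨g, hg, hgv⟩ := sp_transitive hw0 (fun h0 : v = 0 => hv (h0 ▸ W.zero_mem))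
  exact hv (hgv ▸ ((hle hg) w).1 hw)

theorem not_sp_le_decomp {t k : ℕ} {D : Fin t → Submodule F ((Fin m ⊕ Fin m) → F)} (hD : IsMDecomposition k D) :
    ¬ spGL m F ≤ decompositionStabilizer D := by
  intro hle
  let a : Fin t := ⟨0, by have := hD.two_le; omega⟩
  let b : Fin t := ⟨1, by have := hD.two_le; omega⟩
  have hab : a ≠ b := by simp [a, b, Fin.ext_iff]
  have hne : ∀ i, D i ≠ ⊥ := fun i h => by
    have := hD.finrank_eq i
    rw [h, finrank_bot] at this
    exact hD.pos.ne this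
  obtain ⟨u, hu, hu0⟩ := Submodule.exists_mem_ne_zero_of_ne_bot (hne a)
  obtain ⟨w, hw, hw0⟩ := Submodule.exists_mem_ne_zero_of_ne_bot (hne b)
  have huw : ∀ k, u + w ∉ D k := by
    intro k hk
    rcases eq_or_ne k a with rfl | hka
    · have h1 : w ∈ D a := by simpa using (D a).sub_mem hk hu
      exact hw0 ((Submodule.disjoint_def.1 (hD.indep.pairwiseDisjoint hab)) w h1 hw)
    · have h1 : u ∈ D a ⊓ (⨆ (i) (_ : i ≠ a), D i) := ⟨hu, by
        have h2 : u + w ∈ (⨆ (i) (_ : i ≠ a), D i) := Submodule.mem_iSup_of_mem k (Submodule.mem_iSup_of_mem hka hk)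
        have h3 : w ∈ (⨆ (i) (_ : i ≠ a), D i) :=
          Submodule.mem_iSup_of_mem b (Submodule.mem_iSup_of_mem hab.symm hw)
        simpa using Submodule.sub_mem _ h2 h3⟩
      rw [(hD.indep a).eq_bot, Submodule.mem_bot] at h1
      exact hu0 h1
  obtain ⟨g, hg, hgu⟩ := sp_transitive hu0 (fun h0 : u + w = 0 => huw a (h0 ▸ (D a).zero_mem))
  obtain ⟨σ, hσ⟩ := hle hg
  refine huw (σ a) ?_
  rw [← hgu, ← hσ]
  exact ⟨u, hu, Matrix.toLin'_apply _ _⟩

theorem not_sp_le_field (hm : 2 ≤ m) {r : ℕ} (hr : 2 ≤ r)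
    {K : Subalgebra F (Matrix (Fin m ⊕ Fin m) (Fin m ⊕ Fin m) F)} (hK : IsFieldSubalgebra r K) :
    ¬ spGL m F ≤ subalgebraNormalizer K := by
  intro hle
  haveI : Nonempty (Fin m ⊕ Fin m) := ⟨Sum.inl ⟨0, by omega⟩⟩
  have hline : ∀ k ∈ K, ∀ v : (Fin m ⊕ Fin m) → F, v ≠ 0 → ∃ a : F, k *ᵥ v = a • v := by
    intro k hk v hv0
    obtain ⟨g, hg, hgx⟩ := exists_sp_tv (m := m) v 1
    have hcomm : (g : Matrix (Fin m ⊕ Fin m) (Fin m ⊕ Fin m) F) * k = k * g := by
      by_contra hne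
      set d := (g : Matrix (Fin m ⊕ Fin m) (Fin m ⊕ Fin m) F) * k *
        ((g⁻¹ : GL (Fin m ⊕ Fin m) F) : Matrix (Fin m ⊕ Fin m) (Fin m ⊕ Fin m) F) - k with hd
      have hdK : d ∈ K := K.sub_mem ((hle hg k).1 hk) hk
      have hd0 : d ≠ 0 := fun h0 => hne (by
        have h1 := sub_eq_zero.1 (hd ▸ h0)
        conv_rhs => rw [← h1, mul_assoc, Units.inv_mul, mul_one])
      obtain ⟨y, -, hy⟩ := hK.inv d hdK hd0
      have hy' : y * d = 1 := mul_eq_one_comm.1 hy
      let L : ((Fin m ⊕ Fin m) → F) →ₗ[F] F × F :=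
        { toFun := fun x => (sympForm m F x v, sympForm m F (k *ᵥ x) v)
          map_add' := fun a b => by simp [Matrix.mulVec_add, sympForm_add_left]
          map_smul' := fun c a => by simp [Matrix.mulVec_smul, sympForm_smul_left] }
      obtain ⟨x, hx0, hxL⟩ : ∃ x, x ≠ 0 ∧ L x = 0 := by
        by_contra hno
        push Not at hno
        have hinj : Function.Injective L := (injective_iff_map_eq_zero L).2 fun x hx => by
          by_contra h0
          exact hno x h0 hx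
        have := LinearMap.finrank_le_finrank_of_injective hinj
        rw [Module.finrank_fintype_fun_eq_card, Module.finrank_prod, finrank_self, Fintype.card_sum,
          Fintype.card_fin] at this
        omega
      have hx1 : sympForm m F x v = 0 := congrArg Prod.fst hxL
      have hx2 : sympForm m F (k *ᵥ x) v = 0 := congrArg Prod.snd hxL
      have hgx' : (g : Matrix (Fin m ⊕ Fin m) (Fin m ⊕ Fin m) F) *ᵥ x = x := by
        rw [hgx, hx1, mul_zero, zero_smul, add_zero]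
      have hginv : ((g⁻¹ : GL (Fin m ⊕ Fin m) F) : Matrix (Fin m ⊕ Fin m) (Fin m ⊕ Fin m) F) *ᵥ x = x := by
        conv_lhs => rw [← hgx']
        rw [Matrix.mulVec_mulVec, Units.inv_mul, Matrix.one_mulVec]
      have hdx : d *ᵥ x = 0 := by
        rw [hd, Matrix.sub_mulVec, ← Matrix.mulVec_mulVec, hginv, ← Matrix.mulVec_mulVec, hgx, hx2,
          mul_zero, zero_smul, add_zero, sub_self]
      apply hx0
      rw [← Matrix.one_mulVec x, ← hy', ← Matrix.mulVec_mulVec, hdx, Matrix.mulVec_zero]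
    obtain ⟨x, hx⟩ := exists_sympForm_eq_one hv0
    have h1 := congrArg (fun A => A *ᵥ x) hcomm
    simp only [← Matrix.mulVec_mulVec, hgx, Matrix.mulVec_add, Matrix.mulVec_smul, add_right_inj, one_mul] at h1
    rw [sympForm_swap x v, hx] at h1
    exact ⟨-sympForm m F (k *ᵥ x) v, by
      have h2 := congrArg (fun z => -z) h1
      simpa using h2.symm⟩
  have hbot : K ≤ ⊥ := fun k hk => by
    obtain ⟨a, rfl⟩ := scalar_of_eigen fun v hv => hline k hk v hv
    rw [← Algebra.algebraMap_eq_smul_one]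
    exact Subalgebra.algebraMap_mem _ a
  have := hK.finrank_eq
  rw [eq_bot_iff.2 hbot, Subalgebra.finrank_bot] at this
  omega

/-- If the symplectic group lies in a conjugate of a reindexed group, that group has an element differing
from one in a single row, with unit diagonal. -/
theorem sp_row {κ : Type} [Fintype κ] [DecidableEq κ] {e : (Fin m ⊕ Fin m) ≃ κ} {P : GL (Fin m ⊕ Fin m) F}
    {K : Subgroup (GL κ F)} (hle : spGL m F ≤ (K.map (glReindex e.symm).toMonoidHom).map (MulAut.conj P).toMonoidHom)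
    (p : κ) : ∃ k ∈ K, ∃ φ : κ → F, φ p = 0 ∧ φ ≠ 0 ∧
      ∀ x y, (k : Matrix κ κ F) x y = (if x = y then 1 else 0) + if x = p then φ y else 0 := by
  let v : (Fin m ⊕ Fin m) → F := (P : Matrix (Fin m ⊕ Fin m) (Fin m ⊕ Fin m) F) *ᵥ Pi.single (e.symm p) 1
  obtain ⟨g, hg, hgx⟩ := exists_sp_tv (m := m) v 1
  let φ : κ → F := fun y => sympForm m F ((P : Matrix (Fin m ⊕ Fin m) (Fin m ⊕ Fin m) F) *ᵥ Pi.single (e.symm y) 1) v
  obtain ⟨w, ⟨k, hk, rfl⟩, hw⟩ := hle hg
  have h1 : P * glReindex e.symm k * P⁻¹ = g := hw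
  have hval : ∀ x y, (k : Matrix κ κ F) x y = (if x = y then 1 else 0) + if x = p then φ y else 0 := by
    intro x y
    have h2 : (P : Matrix (Fin m ⊕ Fin m) (Fin m ⊕ Fin m) F) *
        Matrix.reindexAlgEquiv F F e.symm (k : Matrix κ κ F) = (g : Matrix (Fin m ⊕ Fin m) (Fin m ⊕ Fin m) F) * P := by
      rw [← h1]
      simp only [Units.val_mul, mul_assoc, Units.inv_mul, mul_one]
      rfl
    have h3 : Matrix.reindexAlgEquiv F F e.symm (k : Matrix κ κ F) *ᵥ Pi.single (e.symm y) 1 =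
        Pi.single (e.symm y) 1 + φ y • Pi.single (e.symm p) 1 := by
      apply gl_mulVec_injective P
      show (P : Matrix (Fin m ⊕ Fin m) (Fin m ⊕ Fin m) F) *ᵥ _ = (P : Matrix (Fin m ⊕ Fin m) (Fin m ⊕ Fin m) F) *ᵥ _
      rw [Matrix.mulVec_mulVec, h2, ← Matrix.mulVec_mulVec, hgx, Matrix.mulVec_add, Matrix.mulVec_smul, one_mul]
    have h4 := congrFun h3 (e.symm x)
    simp only [Matrix.mulVec_single, Matrix.reindexAlgEquiv_apply, Matrix.reindex_apply, Matrix.submatrix_apply,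
      Equiv.symm_symm, Equiv.apply_symm_apply, Pi.add_apply, Pi.smul_apply, Matrix.col_apply, MulOpposite.op_one,
      one_smul, Pi.single_apply, EmbeddingLike.apply_eq_iff_eq, smul_eq_mul, mul_ite, mul_one, mul_zero] at h4
    exact h4
  refine ⟨k, hk, φ, sympForm_self _, fun h0 => ?_, hval⟩
  have hv0 : v ≠ 0 := fun h => by
    have h5 : Pi.single (e.symm p) (1 : F) = 0 := gl_mulVec_injective P (by
      show (P : Matrix (Fin m ⊕ Fin m) (Fin m ⊕ Fin m) F) *ᵥ _ = (P : Matrix (Fin m ⊕ Fin m) (Fin m ⊕ Fin m) F) *ᵥ _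
      rw [Matrix.mulVec_zero]; exact h)
    simpa using congrFun h5 (e.symm p)
  obtain ⟨x, hx⟩ := exists_sympForm_eq_one hv0
  have hk1 : (k : Matrix κ κ F) = 1 := by
    ext a b
    rw [hval, h0]
    simp [Matrix.one_apply]
  have hg1 : g = 1 := by rw [← h1, show k = 1 from Units.ext hk1, map_one, mul_one, mul_inv_cancel]
  have h6 := hgx x
  rw [hg1, Units.val_one, Matrix.one_mulVec, left_eq_add, one_mul, smul_eq_zero] at h6
  rcases h6 with h6 | h6
  · rw [sympForm_swap, hx] at h6; simp at h6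
  · exact hv0 h6

theorem not_sp_le_tensor {a b : ℕ} (ha : 2 ≤ a) (hb : 2 ≤ b) (e : (Fin m ⊕ Fin m) ≃ Fin a × Fin b)
    (P : GL (Fin m ⊕ Fin m) F) : ¬ spGL m F ≤ tensorProductSubgroup a b e P := by
  intro hle
  obtain ⟨k, ⟨A, B, hk⟩, φ, hφp, hφ, hval⟩ := sp_row hle (p := (⟨0, by omega⟩, ⟨0, by omega⟩))
  set p : Fin a × Fin b := (⟨0, by omega⟩, ⟨0, by omega⟩) with hp
  have h : ∀ x y : Fin a × Fin b, (A : Matrix (Fin a) (Fin a) F) x.1 y.1 * (B : Matrix (Fin b) (Fin b) F) x.2 y.2 =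
      (if x = y then 1 else 0) + if x = p then φ y else 0 := fun x y => by
    rw [← hval, hk, Matrix.kroneckerMap_apply]
  have hA : ∀ i i', i ≠ i' → (A : Matrix (Fin a) (Fin a) F) i i' = 0 := by
    intro i i' hii
    let j : Fin b := ⟨1, by omega⟩
    have hne : (i, j) ≠ p := fun h => by simp [p, j, Prod.ext_iff, Fin.ext_iff] at h
    have h1 := h (i, j) (i', j)
    have h2 := h (i, j) (i, j)
    rw [if_neg hne] at h1 h2
    simp [hii] at h1 h2
    exact h1.resolve_right fun h0 => by simp [h0] at h2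
  have hB : ∀ i i', i ≠ i' → (B : Matrix (Fin b) (Fin b) F) i i' = 0 := by
    intro i i' hii
    let j : Fin a := ⟨1, by omega⟩
    have hne : (j, i) ≠ p := fun h => by simp [p, j, Prod.ext_iff, Fin.ext_iff] at h
    have h1 := h (j, i) (j, i')
    have h2 := h (j, i) (j, i)
    rw [if_neg hne] at h1 h2
    simp [hii] at h1 h2
    exact h1.resolve_left fun h0 => by simp [h0] at h2
  refine hφ (funext fun y => ?_)
  rcases eq_or_ne p y with rfl | hy
  · exact hφp
  have h1 := h p y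
  rw [if_neg hy, if_pos rfl, zero_add] at h1
  rw [Pi.zero_apply, ← h1]
  by_cases hy1 : p.1 = y.1
  · rw [hB _ _ (fun h2 => hy (Prod.ext hy1 h2)), mul_zero]
  · rw [hA _ _ hy1, zero_mul]

theorem not_sp_le_wreath [Fintype F] {k t : ℕ} (hk : 2 ≤ k) (ht : 2 ≤ t) (e : (Fin m ⊕ Fin m) ≃ (Fin t → Fin k))
    (P : GL (Fin m ⊕ Fin m) F) : ¬ spGL m F ≤ tensorWreathSubgroup k t e P := by
  classical
  intro hle
  let c0 : Fin k := ⟨0, by omega⟩
  let c1 : Fin k := ⟨1, by omega⟩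
  let p : Fin t → Fin k := fun _ => c0
  obtain ⟨g, hg, φ, hφp, hφ, hval⟩ := sp_row hle p
  obtain ⟨σ, A, hA⟩ := mem_wreathStandard hg
  have hdiag : ∀ (x : Fin t → Fin k) i, A i (x i) (x (σ i)) ≠ 0 := fun x i h0 => by
    have h1 := hval x x
    rw [hA, Finset.prod_eq_zero (Finset.mem_univ i) h0] at h1
    by_cases hx : x = p
    · subst hx; simp [hφp] at h1
    · simp [hx] at h1
  have hσ : σ = 1 := by
    by_contra hne
    obtain ⟨i, hi⟩ : ∃ i, σ i ≠ i := by
      by_contra hno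
      push Not at hno
      exact hne (Equiv.ext hno)
    have hall : ∀ a b, A i a b ≠ 0 := fun a b => by
      have := hdiag (Function.update (Function.update p i a) (σ i) b) i
      simpa [hi, Ne.symm hi] using this
    let x : Fin t → Fin k := fun _ => c1
    let y : Fin t → Fin k := Function.update x (σ i) c0
    have hxp : x ≠ p := fun h => by simpa [x, p, c0, c1, Fin.ext_iff] using congrFun h ⟨0, by omega⟩
    have hxy : x ≠ y := fun h => by simpa [x, y, c0, c1, Fin.ext_iff] using congrFun h (σ i)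
    have h1 := hval x y
    rw [hA, if_neg hxy, if_neg hxp, add_zero, Finset.prod_eq_zero_iff] at h1
    obtain ⟨l, -, hl⟩ := h1
    rcases eq_or_ne l i with rfl | hli
    · exact hall _ _ hl
    · rw [show y (σ l) = x (σ l) from Function.update_of_ne (fun h => hli (σ.injective h)) _ _] at hl
      exact hdiag x l hl
  subst hσ
  have hoff : ∀ i a b, a ≠ b → A i a b = 0 := by
    intro i a b hab
    obtain ⟨j, hji⟩ := Fintype.exists_ne_of_one_lt_card (α := Fin t) (by simp; omega) i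
    let x : Fin t → Fin k := Function.update (Function.update p j c1) i a
    let y : Fin t → Fin k := Function.update x i b
    have hxp : x ≠ p := fun h => by simpa [x, p, hji, c0, c1, Fin.ext_iff] using congrFun h j
    have hxy : x ≠ y := fun h => hab (by simpa [x, y] using congrFun h i)
    have h1 := hval x y
    rw [hA, if_neg hxy, if_neg hxp, add_zero, Finset.prod_eq_zero_iff] at h1
    obtain ⟨l, -, hl⟩ := h1
    rcases eq_or_ne l i with rfl | hli
    · simpa [x, y] using hl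
    · exact absurd (by simpa [y, Function.update_of_ne hli] using hl) (hdiag x l)
  refine hφ (funext fun y => ?_)
  rcases eq_or_ne p y with rfl | hy
  · exact hφp
  obtain ⟨i, hi⟩ := Function.ne_iff.1 hy
  have h1 := hval p y
  rw [hA, if_neg hy, if_pos rfl, zero_add, Finset.prod_eq_zero (Finset.mem_univ i) (hoff i _ _ (by simpa using hi))] at h1
  exact h1.symm

theorem not_sp_le_subfield (hm : 1 ≤ m) {F₀ : Subfield F} (hne : F₀ ≠ ⊤) (P : GL (Fin m ⊕ Fin m) F) :
    ¬ spGL m F ≤ subfieldSubgroup F₀ P := by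
  intro hle
  obtain ⟨c, hc⟩ : ∃ c : F, c ∉ F₀ := by
    by_contra hno
    push Not at hno
    exact hne (eq_top_iff.2 fun x _ => hno x)
  let i : Fin m ⊕ Fin m := Sum.inl ⟨0, by omega⟩
  let v : (Fin m ⊕ Fin m) → F := (P : Matrix (Fin m ⊕ Fin m) (Fin m ⊕ Fin m) F) *ᵥ Pi.single i 1
  obtain ⟨j, hj⟩ : ∃ j, sympForm m F ((P : Matrix (Fin m ⊕ Fin m) (Fin m ⊕ Fin m) F) *ᵥ Pi.single j 1) v ≠ 0 := by
    by_contra hno
    push Not at hno
    have hv0 : v ≠ 0 := fun h => by
      have h5 : Pi.single i (1 : F) = 0 := gl_mulVec_injective P (by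
        show (P : Matrix (Fin m ⊕ Fin m) (Fin m ⊕ Fin m) F) *ᵥ _ = (P : Matrix (Fin m ⊕ Fin m) (Fin m ⊕ Fin m) F) *ᵥ _
        rw [Matrix.mulVec_zero]; exact h)
      simpa using congrFun h5 i
    obtain ⟨x, hx⟩ := exists_sympForm_eq_one hv0
    let L : ((Fin m ⊕ Fin m) → F) →ₗ[F] F :=
      ((sympB m F).flip v).comp (Matrix.toLin' (P : Matrix (Fin m ⊕ Fin m) (Fin m ⊕ Fin m) F))
    have hL : L = 0 := LinearMap.pi_ext fun a r => by
      rw [show Pi.single a r = r • (Pi.single a 1 : (Fin m ⊕ Fin m) → F) by simp [← Pi.single_smul'], map_smul,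
        LinearMap.zero_apply]
      refine smul_eq_zero.2 (Or.inr ?_)
      simpa [L, sympB_apply] using hno a
    have h2 := LinearMap.congr_fun hL
      (((P⁻¹ : GL (Fin m ⊕ Fin m) F) : Matrix (Fin m ⊕ Fin m) (Fin m ⊕ Fin m) F) *ᵥ x)
    simp [L, sympB_apply, Matrix.mulVec_mulVec, sympForm_swap x v, hx] at h2
  set s := sympForm m F ((P : Matrix (Fin m ⊕ Fin m) (Fin m ⊕ Fin m) F) *ᵥ Pi.single j 1) v with hs
  obtain ⟨g, hg, hgx⟩ := exists_sp_tv (m := m) v (c * s⁻¹)
  obtain ⟨y, hy, hye⟩ := hle hg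
  change P * y * P⁻¹ = g at hye
  have hcol : ∀ l, (y : Matrix (Fin m ⊕ Fin m) (Fin m ⊕ Fin m) F) *ᵥ Pi.single l 1 = Pi.single l 1 +
      (c * s⁻¹ * sympForm m F ((P : Matrix (Fin m ⊕ Fin m) (Fin m ⊕ Fin m) F) *ᵥ Pi.single l 1) v) • Pi.single i 1 := by
    intro l
    apply gl_mulVec_injective P
    show (P : Matrix (Fin m ⊕ Fin m) (Fin m ⊕ Fin m) F) *ᵥ _ = (P : Matrix (Fin m ⊕ Fin m) (Fin m ⊕ Fin m) F) *ᵥ _
    rw [Matrix.mulVec_mulVec, ← Units.val_mul, show P * y = g * P by rw [← hye]; group, Units.val_mul,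
      ← Matrix.mulVec_mulVec, hgx, Matrix.mulVec_add, Matrix.mulVec_smul]
  have hij : i ≠ j := fun h => hj (by rw [hs, ← h]; exact sympForm_self v)
  have hy1 : (y : Matrix (Fin m ⊕ Fin m) (Fin m ⊕ Fin m) F) i i = 1 := by
    have h1 := congrFun (hcol i) i
    simpa [v, sympForm_self] using h1
  have hyc : (y : Matrix (Fin m ⊕ Fin m) (Fin m ⊕ Fin m) F) i j = c := by
    have h1 := congrFun (hcol j) i
    rw [← hs, Matrix.mulVec_single_one, mul_assoc, inv_mul_cancel₀ hj, mul_one] at h1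
    simpa [hij] using h1
  rw [Subgroup.mul_normal] at hy
  obtain ⟨u, ⟨u, rfl⟩, z, hz, huz⟩ := hy
  obtain ⟨d, hd⟩ := (mem_scalars_iff z).1 hz
  have hvalu : ∀ a b, (y : Matrix (Fin m ⊕ Fin m) (Fin m ⊕ Fin m) F) a b =
      (d : F) * (((u : Matrix (Fin m ⊕ Fin m) (Fin m ⊕ Fin m) F₀) a b : F₀) : F) := fun a b => by
    rw [← huz, Units.val_mul, hd, Matrix.mul_smul, mul_one, Matrix.smul_apply, smul_eq_mul]
    rfl
  rw [hvalu] at hy1 hyc
  have hdinv : (d : F) = (((u : Matrix (Fin m ⊕ Fin m) (Fin m ⊕ Fin m) F₀) i i : F₀) : F)⁻¹ :=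
    eq_inv_of_mul_eq_one_left hy1
  exact hc (hyc ▸ hdinv ▸ F₀.mul_mem (F₀.inv_mem ((u : Matrix (Fin m ⊕ Fin m) (Fin m ⊕ Fin m) F₀) i i).2)
    ((u : Matrix (Fin m ⊕ Fin m) (Fin m ⊕ Fin m) F₀) i j).2)

theorem not_sp_le_quadSimilarity (hm : 2 ≤ m) (h2 : (2 : F) = 0) {Q : ((Fin m ⊕ Fin m) → F) → F}
    (hQ : IsNondegenerateQuadraticForm Q) (hpol : ∀ u v, QuadraticMap.polar Q u v = sympForm m F u v) :
    ¬ spGL m F ≤ quadSimilarityGroup Q := by
  intro hle
  let i : Fin m := ⟨0, by omega⟩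
  let j : Fin m := ⟨1, by omega⟩
  have hij : i ≠ j := by simp [i, j]
  have hij' : j ≠ i := hij.symm
  have hadd : ∀ u v, Q (u + v) = Q u + Q v + sympForm m F u v := fun u v => by
    rw [← hpol, QuadraticMap.polar]; ring
  -- a vector orthogonal to a hyperbolic pair takes the value one
  have hone : ∀ v z z' : (Fin m ⊕ Fin m) → F, v ≠ 0 → sympForm m F z v = 0 → sympForm m F z' v = 0 →
      sympForm m F z z' ≠ 0 → Q v = 1 := by
    intro v z z' hv hz hz' hzz
    obtain ⟨g, hg, hgx⟩ := exists_sp_tv (m := m) v 1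
    obtain ⟨μ, hμ⟩ := hle hg
    have hkey : ∀ x, Q x + sympForm m F x v * sympForm m F x v * (Q v + 1) = (μ : F) * Q x := fun x => by
      rw [← hμ x, hgx, one_mul, hadd, hQ.smul, sympForm_smul_right]
      ring
    have hperp : ∀ x, sympForm m F x v = 0 → ((μ : F) - 1) * Q x = 0 := fun x hx => by
      have := hkey x
      rw [hx] at this
      linear_combination -this
    have hμ1 : (μ : F) - 1 = 0 := by
      by_contra hne
      have h0 : ∀ x, sympForm m F x v = 0 → Q x = 0 := fun x hx => (mul_eq_zero.1 (hperp x hx)).resolve_left hne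
      apply hzz
      have := hadd z z'
      rw [h0 z hz, h0 z' hz', h0 _ (by rw [sympForm_add_left, hz, hz', add_zero])] at this
      simpa using this.symm
    obtain ⟨x, hx⟩ := exists_sympForm_eq_one hv
    have h1 := hkey x
    rw [sympForm_swap x v, hx] at h1
    linear_combination h1 - h2 + (Q x) * hμ1
  have hall : ∀ v : (Fin m ⊕ Fin m) → F, v ≠ 0 → Q v = 1 := by
    intro v hv
    obtain ⟨g, hg, rfl⟩ := sp_transitive (u := Pi.single (Sum.inr i) (1 : F)) (by simp) hv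
    refine hone _ ((g : Matrix (Fin m ⊕ Fin m) (Fin m ⊕ Fin m) F) *ᵥ Pi.single (Sum.inr j) 1)
      ((g : Matrix (Fin m ⊕ Fin m) (Fin m ⊕ Fin m) F) *ᵥ Pi.single (Sum.inl j) 1) hv ?_ ?_ ?_
    all_goals rw [show ∀ u w, sympForm m F ((g : Matrix (Fin m ⊕ Fin m) (Fin m ⊕ Fin m) F) *ᵥ u)
        ((g : Matrix (Fin m ⊕ Fin m) (Fin m ⊕ Fin m) F) *ᵥ w) = sympForm m F u w from hg]
    · simp [sympForm_single_inr, hij, hij']
    · simp [sympForm_single_inr, hij, hij']
    · rw [sympForm_single_pair]; exact one_ne_zero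
  have h1 := hadd (Pi.single (Sum.inr i) 1) (Pi.single (Sum.inr j) 1)
  rw [hall (Pi.single (Sum.inr i) 1) (by simp), hall (Pi.single (Sum.inr j) 1) (by simp), hall (Pi.single (Sum.inr i) 1 + Pi.single (Sum.inr j) 1) (fun h => one_ne_zero (α := F) (by simpa [Pi.single_eq_of_ne, hij] using congrFun h (Sum.inr i)))] at h1
  simp [sympForm_single_inr] at h1

theorem sp_center_scalar {A : Matrix.symplecticGroup (Fin m) F} (hm : 1 ≤ m) (hA : A ∈ Subgroup.center _) :
    spHom m F A ∈ scalars (Fin m ⊕ Fin m) F := by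
  obtain ⟨c, hc⟩ := scalar_of_eigen (A := (A : Matrix (Fin m ⊕ Fin m) (Fin m ⊕ Fin m) F)) fun v hv => by
    have h1 := congrArg Subtype.val (Subgroup.mem_center_iff.1 hA (sympTv v 1))
    obtain ⟨x, hx⟩ := exists_sympForm_eq_one hv
    have h2 := congrArg (fun M : Matrix (Fin m ⊕ Fin m) (Fin m ⊕ Fin m) F => M *ᵥ x) h1
    simp only [Submonoid.coe_mul, sympTv, ← Matrix.mulVec_mulVec, sympTransvection_mulVec, Matrix.mulVec_add,
      Matrix.mulVec_smul, add_right_inj, one_mul] at h2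
    rw [sympForm_swap x v, hx] at h2
    exact ⟨-sympForm m F ((A : Matrix (Fin m ⊕ Fin m) (Fin m ⊕ Fin m) F) *ᵥ x) v, by
      simpa using (congrArg (fun z => -z) h2).symm⟩
  refine (mem_scalars_iff _).2 ⟨Units.mk0 c fun h0 => ?_, hc⟩
  haveI : Nonempty (Fin m ⊕ Fin m) := ⟨Sum.inl ⟨0, hm⟩⟩
  exact (spHom m F A).ne_zero (by rw [spHom_val, hc, h0, zero_smul])

set_option maxHeartbeats 1000000 in
theorem not_sp_le_normalizer [Fintype F] (hm : 2 ≤ m) (h2 : (2 : F) ≠ 0) {R : Subgroup (GL (Fin m ⊕ Fin m) F)}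
    (hR : IsSymplecticTypeGroup 2 R) (hRai : ActsAbsolutelyIrreducibly (matrixSet R))
    (hsim : R ≤ similarityGroup (sympForm m F)) : ¬ spGL m F ≤ subgroupNormalizer R := by
  classical
  intro hle
  haveI : Nonempty (Fin m ⊕ Fin m) := ⟨Sum.inl ⟨0, by omega⟩⟩
  have hnorm : ∀ g ∈ spGL m F, ∀ x ∈ R, g * x * g⁻¹ ∈ R := fun g hg x hx =>
    (Subgroup.mem_normalizer_iff.1 (hle hg) x).1 hx
  have hsconj : ∀ x ∈ R, ∀ g ∈ spGL m F, x * g * x⁻¹ ∈ spGL m F := by
    intro x hx g hg u v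
    obtain ⟨c, hc⟩ := hsim hx
    obtain ⟨d, hd⟩ := hsim (R.inv_mem hx)
    show sympForm m F (((x * g * x⁻¹ : GL (Fin m ⊕ Fin m) F) : Matrix (Fin m ⊕ Fin m) (Fin m ⊕ Fin m) F) *ᵥ u)
      (((x * g * x⁻¹ : GL (Fin m ⊕ Fin m) F) : Matrix (Fin m ⊕ Fin m) (Fin m ⊕ Fin m) F) *ᵥ v) = _
    rw [Units.val_mul, Units.val_mul, ← Matrix.mulVec_mulVec, ← Matrix.mulVec_mulVec, ← Matrix.mulVec_mulVec,
      ← Matrix.mulVec_mulVec, hc,
      show ∀ u w, sympForm m F ((g : Matrix (Fin m ⊕ Fin m) (Fin m ⊕ Fin m) F) *ᵥ u)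
        ((g : Matrix (Fin m ⊕ Fin m) (Fin m ⊕ Fin m) F) *ᵥ w) = sympForm m F u w from hg, ← hc]
    simp [Matrix.mulVec_mulVec]
  set K := spGL m F ⊓ R with hK
  have hcom : ∀ g ∈ spGL m F, ∀ x ∈ R, g * x * g⁻¹ * x⁻¹ ∈ K := by
    intro g hg x hx
    refine ⟨?_, R.mul_mem (hnorm g hg x hx) (R.inv_mem hx)⟩
    rw [show g * x * g⁻¹ * x⁻¹ = g * (x * g⁻¹ * x⁻¹) by group]
    exact mul_mem hg (hsconj x hx _ (inv_mem hg))
  have hperf : commutator (Matrix.symplecticGroup (Fin m) F) = ⊤ :=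
    symp_commutator_eq_top (Or.inr (Or.inl ⟨hm, h2⟩))
  let φ := spHom m F
  -- a subgroup containing all commutators contains everything
  have hgen : ∀ C : Subgroup (GL (Fin m ⊕ Fin m) F),
      (∀ a b : Matrix.symplecticGroup (Fin m) F, φ (a * b * a⁻¹ * b⁻¹) ∈ C) → spGL m F ≤ C := by
    intro C hC g hg
    obtain ⟨A, rfl⟩ := exists_spHom hg
    have : commutator (Matrix.symplecticGroup (Fin m) F) ≤ C.comap φ :=
      Subgroup.commutator_le.2 fun a _ b _ => by rw [commutatorElement_def]; exact hC a b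
    exact this (hperf ▸ Subgroup.mem_top A)
  have hKs : K ≤ scalars (Fin m ⊕ Fin m) F := by
    by_contra hns
    let K₁ : Subgroup (Matrix.symplecticGroup (Fin m) F) := K.comap φ
    haveI : K₁.Normal := ⟨fun x hx g => by
      show φ (g * x * g⁻¹) ∈ K
      rw [map_mul, map_mul, map_inv]
      exact ⟨(spGL m F).mul_mem ((spGL m F).mul_mem (spHom_mem g) hx.1) ((spGL m F).inv_mem (spHom_mem g)),
        hnorm _ (spHom_mem g) _ hx.2⟩⟩
    obtain ⟨x, hx, hxs⟩ := SetLike.not_le_iff_exists.1 hns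
    obtain ⟨x₁, rfl⟩ := exists_spHom hx.1
    let π := QuotientGroup.mk' (Subgroup.center (Matrix.symplecticGroup (Fin m) F))
    haveI : IsSimpleGroup (PSp m F) := PSp_isSimpleGroup (by omega) hperf
    haveI : IsSimpleGroup (Matrix.symplecticGroup (Fin m) F ⧸ Subgroup.center (Matrix.symplecticGroup (Fin m) F)) :=
      ‹IsSimpleGroup (PSp m F)›
    haveI : (K₁.map π).Normal := ‹K₁.Normal›.map π (QuotientGroup.mk'_surjective _)
    have htop : K₁.map π = ⊤ := by
      refine (IsSimpleGroup.eq_bot_or_eq_top_of_normal (K₁.map π) inferInstance).resolve_left fun hb => hxs ?_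
      have h1 : π x₁ ∈ K₁.map π := ⟨x₁, hx, rfl⟩
      rw [hb, Subgroup.mem_bot, QuotientGroup.mk'_apply, QuotientGroup.eq_one_iff] at h1
      exact sp_center_scalar (by omega) h1
    have hlift : ∀ u : Matrix.symplecticGroup (Fin m) F, ∃ k ∈ K₁, ∃ z ∈ Subgroup.center _, u = k * z := by
      intro u
      obtain ⟨k, hk, hku⟩ := htop.ge (Subgroup.mem_top (π u))
      refine ⟨k, hk, k⁻¹ * u, ?_, by group⟩
      rw [← QuotientGroup.eq]
      exact hku
    have hK' : spGL m F ≤ K := hgen K fun a b => by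
      obtain ⟨k, hk, z, hz, hka⟩ := hlift a
      obtain ⟨l, hl, w, hw, hlb⟩ := hlift b
      have e1 : ∀ g, z * g = g * z := fun g => (Subgroup.mem_center_iff.1 hz g).symm
      have e2 : ∀ g, w * g = g * w := fun g => (Subgroup.mem_center_iff.1 hw g).symm
      have hcm : a * b * a⁻¹ * b⁻¹ = k * l * k⁻¹ * l⁻¹ := by
        rw [hka, hlb]
        calc k * z * (l * w) * (k * z)⁻¹ * (l * w)⁻¹ = k * (z * (l * w * z⁻¹)) * k⁻¹ * (l * w)⁻¹ := by group
          _ = k * (l * w) * k⁻¹ * (l * w)⁻¹ := by rw [e1]; group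
          _ = k * l * (w * (k⁻¹ * w⁻¹)) * l⁻¹ := by group
          _ = _ := by rw [e2]; group
      show a * b * a⁻¹ * b⁻¹ ∈ K₁
      rw [hcm]
      exact mul_mem (mul_mem (mul_mem hk hl) (inv_mem hk)) (inv_mem hl)
    -- a transvection has order the characteristic
    obtain ⟨p, hp⟩ := CharP.exists F
    haveI := hp
    haveI : Fact p.Prime := ⟨CharP.char_is_prime F p⟩
    let v : (Fin m ⊕ Fin m) → F := Pi.single (Sum.inr ⟨0, by omega⟩) 1
    obtain ⟨g, hg, hgx⟩ := exists_sp_tv (m := m) v 1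
    have hk : ∀ (k : ℕ) (x : (Fin m ⊕ Fin m) → F),
        ((g ^ k : GL (Fin m ⊕ Fin m) F) : Matrix (Fin m ⊕ Fin m) (Fin m ⊕ Fin m) F) *ᵥ x =
          x + ((k : F) * sympForm m F x v) • v := by
      intro k
      induction k with
      | zero => intro x; simp
      | succ k ih =>
        intro x
        rw [pow_succ, Units.val_mul, ← Matrix.mulVec_mulVec, ih, hgx, sympForm_add_left, sympForm_smul_left,
          sympForm_self, mul_zero, add_zero, add_assoc, ← add_smul, Nat.cast_succ]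
        congr 2
        ring
    have hgp : g ^ p = 1 := Units.ext (Matrix.ext_iff_mulVec.2 fun x => by
      rw [hk, CharP.cast_eq_zero, zero_mul, zero_smul, add_zero, Units.val_one, Matrix.one_mulVec])
    have hg1 : g ≠ 1 := fun h => by
      obtain ⟨x, hx⟩ := exists_sympForm_eq_one (u := v) (by simp [v])
      have := hgx x
      rw [h, Units.val_one, Matrix.one_mulVec, left_eq_add, one_mul, sympForm_swap, hx, smul_eq_zero] at this
      simp [v] at this
    have hord := orderOf_eq_prime hgp hg1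
    obtain ⟨k, hk'⟩ := hR.pGroup ⟨g, (hK' hg).2⟩
    have h1 : g ^ 2 ^ k = 1 := congrArg Subtype.val hk'
    have h3 : p ∣ 2 ^ k := hord ▸ orderOf_dvd_of_pow_eq_one h1
    have hp2 := (Nat.prime_dvd_prime_iff_eq (Fact.out : p.Prime) Nat.prime_two).1
      ((Fact.out : p.Prime).dvd_of_dvd_pow h3)
    subst hp2
    exact h2 (by simpa using CharP.cast_eq_zero F 2)
  obtain ⟨x, hx, hxs⟩ : ∃ x ∈ R, x ∉ scalars (Fin m ⊕ Fin m) F :=
    SetLike.not_le_iff_exists.1 (AbData.not_le (by simp; omega) (show AI R from hRai))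
  apply hxs
  have hC : spGL m F ≤ Subgroup.centralizer ({x} : Set (GL (Fin m ⊕ Fin m) F)) := by
    refine hgen _ fun a b => ?_
    rw [Subgroup.mem_centralizer_iff]
    intro y hy
    rw [Set.mem_singleton_iff] at hy
    subst hy
    rw [map_mul, map_mul, map_mul, map_inv, map_inv]
    generalize hA : φ a = A
    generalize hB : φ b = B
    obtain ⟨c, hc⟩ := exists_sc (hKs (hcom A (hA ▸ spHom_mem a) y hx))
    obtain ⟨d, hd⟩ := exists_sc (hKs (hcom B (hB ▸ spHom_mem b) y hx))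
    have ea : A * y * A⁻¹ = sc c * y := by rw [← hc]; group
    have eb : B * y * B⁻¹ = sc d * y := by rw [← hd]; group
    have hcs : ∀ (s : Fˣ) (g z : GL (Fin m ⊕ Fin m) F), g * (sc s * z) * g⁻¹ = sc s * (g * z * g⁻¹) := fun s g z => by
      rw [← mul_assoc g, ← (sc_comm s g).eq]; group
    have hinv : ∀ (s : Fˣ) (g : GL (Fin m ⊕ Fin m) F), g * y * g⁻¹ = sc s * y → g⁻¹ * y * g⁻¹⁻¹ = sc s⁻¹ * y :=
      fun s g e => by
      have h1 : y = sc s * (g⁻¹ * y * g⁻¹⁻¹) := by rw [← hcs s g⁻¹ y, ← e]; group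
      calc g⁻¹ * y * g⁻¹⁻¹ = sc s⁻¹ * (sc s * (g⁻¹ * y * g⁻¹⁻¹)) := by
            rw [← mul_assoc (sc s⁻¹), ← map_mul, inv_mul_cancel, map_one, one_mul]
        _ = _ := by rw [← h1]
    have hkey : (A * B * A⁻¹ * B⁻¹) * y * (A * B * A⁻¹ * B⁻¹)⁻¹ = y := by
      calc (A * B * A⁻¹ * B⁻¹) * y * (A * B * A⁻¹ * B⁻¹)⁻¹
          = A * (B * (A⁻¹ * (B⁻¹ * y * B⁻¹⁻¹) * A⁻¹⁻¹) * B⁻¹) * A⁻¹ := by group
        _ = y := by
          rw [hinv d B eb, hcs, hinv c A ea, hcs, hcs, hcs, eb, hcs, hcs, ea, ← mul_assoc (sc d⁻¹), ← map_mul,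
            ← mul_assoc, ← map_mul, ← mul_assoc, ← map_mul,
            show d⁻¹ * c⁻¹ * d * c = 1 by rw [mul_comm d⁻¹ c⁻¹, inv_mul_cancel_right, inv_mul_cancel], map_one,
            one_mul]
    symm
    exact mul_inv_eq_iff_eq_mul.1 hkey
  obtain ⟨c, hc⟩ := scalar_of_eigen (A := (x : Matrix (Fin m ⊕ Fin m) (Fin m ⊕ Fin m) F)) fun v hv => by
    obtain ⟨g, hg, hgx⟩ := exists_sp_tv (m := m) v 1
    obtain ⟨w, hw⟩ := exists_sympForm_eq_one hv
    have h1 := congrArg (fun t : GL (Fin m ⊕ Fin m) F => (t : Matrix (Fin m ⊕ Fin m) (Fin m ⊕ Fin m) F) *ᵥ w)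
      (Subgroup.mem_centralizer_iff.1 (hC hg) x rfl)
    simp only [Units.val_mul, ← Matrix.mulVec_mulVec, hgx, Matrix.mulVec_add, Matrix.mulVec_smul, add_right_inj,
      one_mul] at h1
    rw [sympForm_swap w v, hw] at h1
    exact ⟨-sympForm m F ((x : Matrix (Fin m ⊕ Fin m) (Fin m ⊕ Fin m) F) *ᵥ w) v, by
      simpa using congrArg (fun z => -z) h1⟩
  exact (mem_scalars_iff x).2 ⟨Units.mk0 c fun h0 => x.ne_zero (by rw [hc, h0, zero_smul]), hc⟩

end Cfsg.Agent.Classical.Asch
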