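import Cfsg.Agent.Lib.Classical.AschFormCommon
import Cfsg.Agent.Lib.Classical.AschFormQuad
import Cfsg.Agent.Lib.Classical.AschLinear
import Cfsg.Agent.Lib.Classical.Symp

/-!
Aschbacher's theorem for subgroups of the symplectic group.
-/

set_option autoImplicit false
set_option linter.unusedSectionVars false
set_option linter.unusedFintypeInType false
set_option linter.unusedDecidableInType false

namespace Cfsg.Agent.Classical.Asch

open Matrix Module Cfsg.Geo
open scoped Kronecker Pointwise commutatorElement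

variable {F : Type*} [Field F] [Fintype F] {m : ℕ}


/-- The first, second, fifth, sixth and eighth classes, with the dimension in the sixth class recorded. -/
def SympPartialDim (m : ℕ) (F : Type*) [Field F] [Fintype F]
    (M : Subgroup (GL (Fin m ⊕ Fin m) F)) : Prop :=
  let f := sympForm m F
  let I := spGL m F
  (∃ W : Submodule F (Fin m ⊕ Fin m → F), W ≠ ⊥ ∧ IsTotallySingularFor f W ∧ M = subspaceStabilizer W ⊓ I) ∨
  (∃ W : Submodule F (Fin m ⊕ Fin m → F), W ≠ ⊥ ∧ IsNondegenerateOn f W ∧ Module.finrank F W < m ∧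
      M = subspaceStabilizer W ⊓ I) ∨
  (∃ (t k : ℕ) (D : Fin t → Submodule F (Fin m ⊕ Fin m → F)), IsNondegenerateMDecomposition f k D ∧
      M = decompositionStabilizer D ⊓ I) ∨
  (∃ (D : Fin 2 → Submodule F (Fin m ⊕ Fin m → F)), Odd (Fintype.card F) ∧ IsMDecomposition m D ∧
      (∀ i, IsTotallySingularFor f (D i)) ∧ M = decompositionStabilizer D ⊓ I) ∨
  (∃ (F₀ : Subfield F) (r : ℕ) (P : GL (Fin m ⊕ Fin m) F) (ζ : F), r.Prime ∧ Fintype.card F = Nat.card F₀ ^ r ∧ ζ ≠ 0 ∧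
      IsFormRationalStructure f F₀ ζ P ∧ M = subfieldSubgroup F₀ P ⊓ I) ∨
  (∃ (R : Subgroup (GL (Fin m ⊕ Fin m) F)) (p k : ℕ), IsSymplecticTypeGroup 2 R ∧
      ActsAbsolutelyIrreducibly (matrixSet R) ∧ R ≤ similarityGroup f ∧ p.Prime ∧ Odd p ∧ Fintype.card F = p ∧
      Nat.card R = 2 ^ (1 + 2 * k) ∧ Nat.card (Subgroup.center R) = 2 ∧ IsOfMinusType k R ∧ m + m = 2 ^ k ∧
      M = subgroupNormalizer R ⊓ I) ∨
  (∃ Q : (Fin m ⊕ Fin m → F) → F, ¬ Odd (Fintype.card F) ∧ IsNondegenerateQuadraticForm Q ∧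
      (∀ u v, QuadraticMap.polar Q u v = f u v) ∧ M = quadSimilarityGroup Q ⊓ I)

/-- The classes, with the dimension in the sixth class recorded. -/
def SympClassDim (m : ℕ) (F : Type*) [Field F] [Fintype F] (M : Subgroup (GL (Fin m ⊕ Fin m) F)) : Prop :=
  let f := sympForm m F
  let I := spGL m F
  SympPartialDim m F M ∨
  (∃ (r : ℕ) (K : Subalgebra F (Matrix (Fin m ⊕ Fin m) (Fin m ⊕ Fin m) F)), r.Prime ∧ IsFieldSubalgebra r K ∧
      IsSelfAdjointFor f K ∧ (∀ k ∈ K, ∀ v, f (k *ᵥ v) v = 0) ∧ M = subalgebraNormalizer K ⊓ I) ∨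
  (∃ K : Subalgebra F (Matrix (Fin m ⊕ Fin m) (Fin m ⊕ Fin m) F), Odd (Fintype.card F) ∧ IsFieldSubalgebra 2 K ∧
      IsAdjointClosedFor f K ∧ ¬ IsSelfAdjointFor f K ∧ M = subalgebraNormalizer K ⊓ I) ∨
  (∃ (n₁ n₂ : ℕ) (e : (Fin m ⊕ Fin m) ≃ Fin n₁ × Fin n₂) (P : GL (Fin m ⊕ Fin m) F)
      (f₁ : (Fin n₁ → F) → (Fin n₁ → F) → F) (f₂ : (Fin n₂ → F) → (Fin n₂ → F) → F),
      Odd (Fintype.card F) ∧ 3 ≤ n₂ ∧ IsSymplecticForm f₁ ∧ IsSymmetricForm f₂ ∧
      IsTensorFormStructure id f f₁ f₂ e P ∧ M = tensorProductSubgroup n₁ n₂ e P ⊓ I) ∨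
  (∃ (k t : ℕ) (e : (Fin m ⊕ Fin m) ≃ (Fin t → Fin k)) (P : GL (Fin m ⊕ Fin m) F) (f₁ : (Fin k → F) → (Fin k → F) → F),
      Odd (Fintype.card F) ∧ Odd t ∧ 3 ≤ t ∧ ¬ (Fintype.card F = 3 ∧ k = 2) ∧ IsSymplecticForm f₁ ∧
      IsTensorPowerFormStructure id f f₁ e P ∧ M = tensorWreathSubgroup k t e P ⊓ I)

theorem SympClassDim.inClass {M : Subgroup (GL (Fin m ⊕ Fin m) F)} (h : SympClassDim m F M) :
    InSymplecticClass m F M := by
  rcases h with (h | h | h | h | h | ⟨R, p, k, h1, h2, h3, h4, h5, h6, h7, h8, h9, -, hM⟩ | h) | h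
  · exact Or.inl (Or.inl h)
  · exact Or.inl (Or.inr (Or.inl h))
  · exact Or.inl (Or.inr (Or.inr (Or.inl h)))
  · exact Or.inl (Or.inr (Or.inr (Or.inr (Or.inl h))))
  · exact Or.inl (Or.inr (Or.inr (Or.inr (Or.inr (Or.inl h)))))
  · exact Or.inl (Or.inr (Or.inr (Or.inr (Or.inr (Or.inr (Or.inl
      ⟨R, p, k, h1, h2, h3, h4, h5, h6, h7, h8, h9, hM⟩))))))
  · exact Or.inl (Or.inr (Or.inr (Or.inr (Or.inr (Or.inr (Or.inr h))))))
  · exact Or.inr h

/-- The goal of the symplectic theorem, with dimensions recorded. -/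
def SympGoal (H : Subgroup (GL (Fin m ⊕ Fin m) F)) : Prop :=
  (∃ M : Subgroup (GL (Fin m ⊕ Fin m) F), SympClassDim m F M ∧ H ≤ M) ∨ InSymplecticResidualClass H

omit [Fintype F] in
theorem sympForm_gram :
    sympForm m F = formOfGram (RingEquiv.refl F) (gramMatrix (sympForm m F)) := by
  funext u v
  exact (sesq_of_bilinear (F := F) (ι := (Fin m ⊕ Fin m)) (f := sympForm m F)
    ⟨fun x y v => sympForm_add_left x y v, sympForm_smul_left, fun v x y => sympForm_add_right v x y,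
      sympForm_smul_right⟩).eq_gram u v

omit [Fintype F] in
theorem sympGram_alt (u : (Fin m ⊕ Fin m) → F) : formOfGram (RingEquiv.refl F) (gramMatrix (sympForm m F)) u u = 0 := by
  rw [← sympForm_gram]; exact sympForm_self u

omit [Fintype F] in
theorem refl_sympGram : Refl (RingEquiv.refl F) (gramMatrix (sympForm m F)) := by
  refine ⟨fun _ => rfl, gram_isUnit (RingEquiv.refl F) ?_, -1, ?_⟩
  · rw [← sympForm_gram]
    intro v hv
    obtain ⟨x, hx⟩ : ∃ x, sympForm m F v x = 1 := exists_sympForm_eq_one hv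
    exact ⟨⟨x, by rw [sympForm_swap, hx]; simp⟩, ⟨x, by rw [hx]; simp⟩⟩
  · ext a b
    show sympForm m F (Pi.single b 1) (Pi.single a 1) = ((-1 : Fˣ) : F) * sympForm m F (Pi.single a 1) (Pi.single b 1)
    rw [sympForm_swap, Units.val_neg, Units.val_one, neg_one_mul]

omit [Fintype F] in
theorem fix_of_le_spGL {H : Subgroup (GL (Fin m ⊕ Fin m) F)} (hH : H ≤ spGL m F) :
    Fix (RingEquiv.refl F) H (gramMatrix (sympForm m F)) := fun x hx => gram_inj _ fun u v => by
  rw [← formOfGram_mulVec, ← sympForm_gram]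
  exact hH hx u v

variable {H : Subgroup (GL (Fin m ⊕ Fin m) F)}


theorem goal_quad (hH : H ≤ spGL m F) (h2 : (2 : F) = 0) (h : QuadCase (gramMatrix (sympForm m F)) H) : SympGoal H := by
  obtain ⟨Q, hQ, hpol, hle⟩ := h
  refine Or.inl ⟨_, Or.inl (Or.inr (Or.inr (Or.inr (Or.inr (Or.inr (Or.inr ⟨Q, ?_, hQ, fun u v => ?_, rfl⟩)))))),
    le_inf hle hH⟩
  · intro hodd
    haveI : CharP F 2 := CharTwo.of_one_ne_zero_of_two_eq_zero one_ne_zero h2
    have := FiniteField.even_card_iff_char_two.1 (ringChar.eq F 2)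
    rw [Nat.odd_iff] at hodd
    omega
  · rw [hpol, ← sympForm_gram]

theorem goal_skewPair (hH : H ≤ spGL m F) (hirr : Irr H) (h : SkewPair (RingEquiv.refl F) (gramMatrix (sympForm m F)) H) : SympGoal H := by
  have hG := refl_sympGram (F := F) (m := m)
  by_cases h2 : (2 : F) = 0
  · exact goal_quad hH h2 (quad_of_pair hG h2 sympGram_alt (fix_of_le_spGL hH) h)
  obtain ⟨k, D, hk, hD, hts, hle⟩ := pair_decomp hG (fix_of_le_spGL hH).sims hirr h
  have hkm : k = m := by simp at hk; omega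
  subst hkm
  refine Or.inl ⟨_, Or.inl (Or.inr (Or.inr (Or.inr (Or.inl ⟨D, odd_card_of_two_ne h2, hD, fun i => ?_, rfl⟩)))),
    le_inf hle hH⟩
  rw [sympForm_gram]; exact hts i

theorem goal_field (hm : 2 ≤ m) (hH : H ≤ spGL m F) (h : FieldCase (RingEquiv.refl F) (gramMatrix (sympForm m F)) H) : SympGoal H := by
  haveI : Nonempty (Fin m ⊕ Fin m) := ⟨Sum.inl ⟨0, by omega⟩⟩
  have hG := refl_sympGram (F := F) (m := m)
  have hs := sesq_formOfGram (RingEquiv.refl F) (gramMatrix (sympForm m F))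
  obtain ⟨r, K, hr, hK, hcl, hle, -⟩ := h
  by_cases hself : ∀ k ∈ K, adj (RingEquiv.refl F) (gramMatrix (sympForm m F)) k = k
  · have hdiag : ∀ k ∈ K, ∀ v, formOfGram (RingEquiv.refl F) (gramMatrix (sympForm m F)) (k *ᵥ v) v = 0 := by
      intro k hk v
      by_cases h2 : (2 : F) = 0
      · haveI : FiniteDimensional F K := Module.finite_of_finrank_pos (by rw [hK.finrank_eq]; exact hr.pos)
        haveI : Finite K := Module.finite_of_finite F
        have hinj : Function.Injective fun x : K => x * x := fun x y hxy => by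
          by_contra hne
          have hne' : ((x - y : K) : Matrix (Fin m ⊕ Fin m) (Fin m ⊕ Fin m) F) ≠ 0 := fun h0 => hne (sub_eq_zero.1 (Subtype.ext h0))
          obtain ⟨z, -, hz⟩ := hK.inv _ (x - y).2 hne'
          have hsq : ((x - y : K) : Matrix (Fin m ⊕ Fin m) (Fin m ⊕ Fin m) F) * (x - y : K) = 0 := by
            have hc : (x : Matrix (Fin m ⊕ Fin m) (Fin m ⊕ Fin m) F) * y = y * x := hK.comm _ x.2 _ y.2
            have hxy' : (x : Matrix (Fin m ⊕ Fin m) (Fin m ⊕ Fin m) F) * x = y * y := congrArg Subtype.val hxy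
            simp only [AddSubgroupClass.coe_sub, Matrix.sub_mul, Matrix.mul_sub, hxy', hc]
            calc (y : Matrix (Fin m ⊕ Fin m) (Fin m ⊕ Fin m) F) * y - y * x - (y * x - y * y)
                = (2 : F) • ((y : Matrix (Fin m ⊕ Fin m) (Fin m ⊕ Fin m) F) * y - y * x) := by rw [two_smul]; abel
              _ = 0 := by rw [h2, zero_smul]
          apply hne'
          calc ((x - y : K) : Matrix (Fin m ⊕ Fin m) (Fin m ⊕ Fin m) F) = (x - y : K) * (((x - y : K) : Matrix (Fin m ⊕ Fin m) (Fin m ⊕ Fin m) F) * z) := by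
                rw [hz, mul_one]
            _ = 0 := by rw [← mul_assoc, hsq, zero_mul]
        obtain ⟨l, hl⟩ := (Finite.injective_iff_surjective.1 hinj) ⟨k, hk⟩
        have hl' : (l : Matrix (Fin m ⊕ Fin m) (Fin m ⊕ Fin m) F) * l = k := congrArg Subtype.val hl
        rw [← hl', ← Matrix.mulVec_mulVec, hG.form_left, hself _ l.2]
        exact sympGram_alt _
      · have h1 : formOfGram (RingEquiv.refl F) (gramMatrix (sympForm m F)) (k *ᵥ v) v = formOfGram (RingEquiv.refl F) (gramMatrix (sympForm m F)) v (k *ᵥ v) := by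
          rw [hG.form_left, hself k hk]
        have h3 := sympGram_alt (F := F) (m := m) (k *ᵥ v + v)
        rw [hs.add_left, hs.add_right, hs.add_right, sympGram_alt, sympGram_alt, ← h1] at h3
        have h4 : (2 : F) * formOfGram (RingEquiv.refl F) (gramMatrix (sympForm m F)) (k *ᵥ v) v = 0 := by linear_combination h3
        exact (mul_eq_zero.1 h4).resolve_left h2
    refine Or.inl ⟨_, Or.inr (Or.inl ⟨r, K, hr, hK, fun k hk u v => ?_, fun k hk v => ?_, rfl⟩), le_inf hle hH⟩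
    · rw [sympForm_gram, hG.form_left, hself k hk]
    · rw [sympForm_gram]; exact hdiag k hk v
  push Not at hself
  obtain ⟨k₀, hk₀, hne⟩ := hself
  have hr2 : r = 2 := by
    by_contra hr2
    exact hne ((adj_field hG hr hK hcl).1 rfl hr2 k₀ hk₀)
  subst hr2
  by_cases h2 : (2 : F) = 0
  · exact goal_quad hH h2 (quad_of_field hG h2 sympGram_alt (fix_of_le_spGL hH) hK hcl hle hk₀ hne)
  refine Or.inl ⟨_, Or.inr (Or.inr (Or.inl ⟨K, odd_card_of_two_ne h2, hK, fun k hk => ⟨_, hcl k hk, fun u v => ?_⟩,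
    ?_, rfl⟩)), le_inf hle hH⟩
  · rw [sympForm_gram, hG.form_left, gram_formOfGram]
  · intro hsa
    refine hne (hG.adj_unique ?_).symm
    refine gram_inj (RingEquiv.refl F) fun u v => ?_
    have h1 := hsa k₀ hk₀ u v
    rw [sympForm_gram] at h1
    rw [hG.form_left] at h1
    have e1 : ∀ M : Matrix (Fin m ⊕ Fin m) (Fin m ⊕ Fin m) F, formOfGram (RingEquiv.refl F) ((gramMatrix (sympForm m F)) * M.map (RingEquiv.refl F)) u v =
        formOfGram (RingEquiv.refl F) (gramMatrix (sympForm m F)) u (M *ᵥ v) := fun M => by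
      rw [formOfGram_eq, formOfGram_eq, map_mulVec, Matrix.mulVec_mulVec]
    rw [← hG.adj_spec, e1, e1]
    exact h1.symm

omit [Fintype F] in
theorem transpose_scalar_sq {n : ℕ} [Nonempty (Fin n)] {C : Matrix (Fin n) (Fin n) F} (hC : IsUnit C) {α : F}
    (h : Cᵀ = α • C) : α * α = 1 := by
  have h1 := congrArg Matrix.transpose h
  rw [Matrix.transpose_transpose, Matrix.transpose_smul, h, smul_smul] at h1
  obtain ⟨i, j, hij⟩ := exists_entry (unit_ne_zero hC)
  have h3 := congrFun (congrFun h1 i) j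
  rw [Matrix.smul_apply, smul_eq_mul] at h3
  exact mul_right_cancel₀ hij (by rw [one_mul]; exact h3.symm)

omit [Fintype F] in
theorem symplectic_formOfGram {n : ℕ} {D : Matrix (Fin n) (Fin n) F} (h2 : (2 : F) ≠ 0) (hD : IsUnit D)
    (hskew : Dᵀ = -D) : IsSymplecticForm (formOfGram (RingEquiv.refl F) D) := by
  have hs := sesq_formOfGram (RingEquiv.refl F) D
  have halt : ∀ u, formOfGram (RingEquiv.refl F) D u u = 0 := fun u => by
    rw [formOfGram_eq]; exact alt_of_skew h2 hskew u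
  refine ⟨⟨hs.add_left, hs.smul_left, hs.add_right, hs.smul_right⟩, fun v w => ?_, halt, gram_nondeg _ hD⟩
  have h3 := halt (v + w)
  rw [hs.add_left, hs.add_right, hs.add_right, halt, halt] at h3
  linear_combination h3

omit [Fintype F] in
theorem symmetric_formOfGram {n : ℕ} {D : Matrix (Fin n) (Fin n) F} (hD : IsUnit D) (hsymm : Dᵀ = D) :
    IsSymmetricForm (formOfGram (RingEquiv.refl F) D) := by
  have hs := sesq_formOfGram (RingEquiv.refl F) D
  refine ⟨⟨hs.add_left, hs.smul_left, hs.add_right, hs.smul_right⟩, fun u v => ?_, gram_nondeg _ hD⟩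
  simp only [formOfGram, RingEquiv.refl_apply]
  rw [Finset.sum_comm]
  refine Finset.sum_congr rfl fun i _ => Finset.sum_congr rfl fun j _ => ?_
  have h1 : D j i = D i j := congrFun (congrFun hsymm i) j
  rw [h1]; ring

set_option maxHeartbeats 800000 in
theorem goal_tensor_odd (hm : 2 ≤ m) (h2 : (2 : F) ≠ 0) (hH : H ≤ spGL m F) (hirr : Irr H) {a b : ℕ}
    {e : (Fin m ⊕ Fin m) ≃ Fin a × Fin b} {P : GL (Fin m ⊕ Fin m) F} {C : Matrix (Fin a) (Fin a) F} {D : Matrix (Fin b) (Fin b) F}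
    (h : TensorData (RingEquiv.refl F) (gramMatrix (sympForm m F)) H e P C D) (hC : Cᵀ = -C) (hD : Dᵀ = D) : SympGoal H := by
  haveI : Nonempty (Fin m ⊕ Fin m) := ⟨Sum.inl ⟨0, by omega⟩⟩
  have hG := refl_sympGram (F := F) (m := m)
  rcases Nat.lt_or_ge b 3 with hb | hb
  swap
  · refine Or.inl ⟨_, Or.inr (Or.inr (Or.inr (Or.inl ⟨a, b, e, P, _, _, odd_card_of_two_ne h2, hb,
      symplectic_formOfGram h2 h.unit_left hC, symmetric_formOfGram h.unit_right hD, ⟨1, one_ne_zero, fun x y => ?_⟩,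
      rfl⟩))), le_inf h.le hH⟩
    rw [gram_formOfGram, gram_formOfGram, one_mul, sympForm_gram, form_coords, h.gram]
    rfl
  have hb2 : b = 2 := by have := h.hb; omega
  subst hb2
  let ε : Matrix (Fin 2) (Fin 2) F := !![0, 1; -1, 0]
  have hdet : D.det ≠ 0 := ((Matrix.isUnit_iff_isUnit_det D).1 h.unit_right).ne_zero
  have hsym : D 1 0 = D 0 1 := congrFun (congrFun hD 0) 1
  let X : Matrix (Fin 2) (Fin 2) F := (D.det)⁻¹ • !![D 0 1, D 1 1; -D 0 0, -D 0 1]
  have hDX : D * X = ε := by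
    have h1 : D * !![D 0 1, D 1 1; -D 0 0, -D 0 1] = D.det • ε := by
      ext i j
      fin_cases i <;> fin_cases j <;>
        simp [ε, Matrix.mul_apply, Fin.sum_univ_two, Matrix.det_fin_two, hsym] <;> ring
    simp only [X, Matrix.mul_smul, h1, smul_smul, inv_mul_cancel₀ hdet, one_smul]
  have hεT : εᵀ = -ε := by ext i j; fin_cases i <;> fin_cases j <;> simp [ε]
  have hXT : Xᵀ * D = -ε := by
    have h1 := congrArg Matrix.transpose hDX
    rwa [Matrix.transpose_mul, hD, hεT] at h1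
  have hXX : X * X = (-(D.det)⁻¹) • (1 : Matrix (Fin 2) (Fin 2) F) := by
    have h1 : (!![D 0 1, D 1 1; -D 0 0, -D 0 1] : Matrix (Fin 2) (Fin 2) F) * !![D 0 1, D 1 1; -D 0 0, -D 0 1] =
        (-D.det) • 1 := by
      ext i j
      fin_cases i <;> fin_cases j <;> simp [Matrix.det_fin_two, hsym] <;> ring
    simp only [X, Matrix.smul_mul, Matrix.mul_smul, h1, smul_smul]
    congr 1
    field_simp
  clear_value X
  let T := co e P ((1 : Matrix (Fin a) (Fin a) F) ⊗ₖ X)
  have hT : adj (RingEquiv.refl F) (gramMatrix (sympForm m F)) T = -T := by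
    have h1 : ((1 : Matrix (Fin a) (Fin a) F) ⊗ₖ (-X)) =
        adj (RingEquiv.refl F) (C ⊗ₖ D) ((1 : Matrix (Fin a) (Fin a) F) ⊗ₖ X) := by
      refine (h.gram ▸ refl_pull hG e P : Refl (RingEquiv.refl F) (C ⊗ₖ D)).adj_unique ?_
      rw [show (((1 : Matrix (Fin a) (Fin a) F) ⊗ₖ (-X))).map (RingEquiv.refl F) = (1 : Matrix _ _ F) ⊗ₖ (-X) from
          Matrix.map_id _,
        ← Matrix.mul_kronecker_mul, kron_transpose, ← Matrix.mul_kronecker_mul, mul_one, Matrix.transpose_one,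
        one_mul, Matrix.mul_neg, hDX, hXT]
    rw [adj_co hG, h.gram, ← h1]
    show co e P ((1 : Matrix (Fin a) (Fin a) F) ⊗ₖ (-X)) = -T
    rw [show ((1 : Matrix (Fin a) (Fin a) F) ⊗ₖ (-X)) = (-1 : F) • ((1 : Matrix (Fin a) (Fin a) F) ⊗ₖ X) by
        ext i j; simp, co_smul, neg_one_smul]
  have hsq : T * T = (-(D.det)⁻¹) • (1 : Matrix (Fin m ⊕ Fin m) (Fin m ⊕ Fin m) F) := by
    rw [← co_mul, ← Matrix.mul_kronecker_mul, hXX, one_mul, Matrix.kronecker_smul, Matrix.one_kronecker_one,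
      co_smul, co_one]
  have hperm : ∀ g ∈ H, cj g T = T ∨ cj g T = -T := by
    intro g hg
    obtain ⟨A, B, u, hg', -, hB⟩ := h.sim g hg
    set μ : F := ((u⁻¹ : Fˣ) : F)
    set dB := (B : Matrix (Fin 2) (Fin 2) F).det with hdB
    rw [show (B : Matrix (Fin 2) (Fin 2) F).map (RingEquiv.refl F) = (B : Matrix (Fin 2) (Fin 2) F) from
      Matrix.map_id _] at hB
    have hεB : (B : Matrix (Fin 2) (Fin 2) F)ᵀ * (ε * B) = dB • ε := by
      ext i j
      fin_cases i <;> fin_cases j <;> simp [ε, hdB, Matrix.mul_apply, Fin.sum_univ_two, Matrix.det_fin_two, Matrix.vecMul, dotProduct] <;> ring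
    have hμ : dB = μ ∨ dB = -μ := by
      have h1 := congrArg Matrix.det hB
      rw [Matrix.det_mul, Matrix.det_mul, Matrix.det_transpose, Matrix.det_smul, Fintype.card_fin, ← hdB] at h1
      refine sq_eq_sq_iff_eq_or_eq_neg.1 (mul_right_cancel₀ hdet ?_)
      linear_combination h1
    have hBX : dB • ((B : Matrix (Fin 2) (Fin 2) F) * X) = μ • (X * (B : Matrix (Fin 2) (Fin 2) F)) := by
      refine (((Matrix.isUnit_transpose _).2 B.isUnit).mul h.unit_right).mul_left_cancel ?_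
      rw [Matrix.mul_smul, Matrix.mul_smul, ← mul_assoc, mul_assoc (_ᵀ) D, hB, Matrix.smul_mul, hDX, mul_assoc,
        ← mul_assoc D, hDX, hεB, smul_smul, smul_smul, mul_comm]
    have hdB0 : dB ≠ 0 := ((Matrix.isUnit_iff_isUnit_det _).1 B.isUnit).ne_zero
    obtain ⟨s, hs, hBs⟩ : ∃ s : F, (s = 1 ∨ s = -1) ∧ (B : Matrix (Fin 2) (Fin 2) F) * X = s • (X * B) := by
      refine ⟨dB⁻¹ * μ, ?_, by rw [← smul_smul, ← hBX, smul_smul, inv_mul_cancel₀ hdB0, one_smul]⟩
      rcases hμ with hμ | hμ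
      · left; rw [hμ] at hdB0 ⊢; exact inv_mul_cancel₀ hdB0
      · right; rw [hμ] at hdB0 ⊢; rw [inv_neg, neg_mul, inv_mul_cancel₀ (neg_ne_zero.1 hdB0)]
    have hgT : (g : Matrix (Fin m ⊕ Fin m) (Fin m ⊕ Fin m) F) * T = s • (T * (g : Matrix (Fin m ⊕ Fin m) (Fin m ⊕ Fin m) F)) := by
      rw [hg', ← co_mul, ← co_mul, ← Matrix.mul_kronecker_mul, hBs, mul_one, ← Matrix.mul_kronecker_mul, one_mul,
        Matrix.kronecker_smul, co_smul]
    have h1 : cj g T = s • T := by
      show (g : Matrix (Fin m ⊕ Fin m) (Fin m ⊕ Fin m) F) * T * ((g⁻¹ : GL (Fin m ⊕ Fin m) F) : Matrix (Fin m ⊕ Fin m) (Fin m ⊕ Fin m) F) = _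
      rw [hgT, Matrix.smul_mul, mul_assoc, Units.mul_inv, mul_one]
    rcases hs with rfl | rfl
    · exact Or.inl (by rw [h1, one_smul])
    · exact Or.inr (by rw [h1, neg_one_smul])
  rcases skew_case hG h2 (by simp; omega) hT (by simpa using hdet) hsq hperm with h' | h'
  · exact goal_skewPair hH hirr h'
  · exact goal_field hm hH h'

theorem goal_tensor (hm : 2 ≤ m) (hH : H ≤ spGL m F) (hirr : Irr H) {a b : ℕ}
    {e : (Fin m ⊕ Fin m) ≃ Fin a × Fin b} {P : GL (Fin m ⊕ Fin m) F} {C : Matrix (Fin a) (Fin a) F} {D : Matrix (Fin b) (Fin b) F}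
    (h : TensorData (RingEquiv.refl F) (gramMatrix (sympForm m F)) H e P C D) : SympGoal H := by
  have hG := refl_sympGram (F := F) (m := m)
  haveI : Nonempty (Fin a) := ⟨⟨0, by have := h.ha; omega⟩⟩
  haveI : Nonempty (Fin b) := ⟨⟨0, by have := h.hb; omega⟩⟩
  obtain ⟨α, β, hα, hβ⟩ := h.tr
  rw [show Cᵀ.map (RingEquiv.refl F) = Cᵀ from Matrix.map_id _] at hα
  rw [show Dᵀ.map (RingEquiv.refl F) = Dᵀ from Matrix.map_id _] at hβ
  have hα2 := transpose_scalar_sq h.unit_left hα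
  have hβ2 := transpose_scalar_sq h.unit_right hβ
  have halt' : ∀ z, formOfGram (RingEquiv.refl F) (C ⊗ₖ D) z z = 0 := fun z => by
    rw [← h.gram, ← form_coords]; exact sympGram_alt _
  by_cases h2 : (2 : F) = 0
  · have hone : ∀ x : F, x * x = 1 → x = 1 := fun x hx => by
      have h1 : (x - 1) * (x - 1) = 0 := by linear_combination hx + (1 - x) * h2
      exact sub_eq_zero.1 (mul_self_eq_zero.1 h1)
    have hCs : ∀ p q, C p q = C q p := fun p q => by
      have := congrFun (congrFun hα p) q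
      rw [hone _ hα2, one_smul] at this
      exact this.symm
    have hDs : ∀ s t, D s t = D t s := fun s t => by
      have := congrFun (congrFun hβ s) t
      rw [hone _ hβ2, one_smul] at this
      exact this.symm
    have hz : ∀ p s, C p p * D s s = 0 := fun p s => by
      have h1 := halt' (Pi.single (p, s) 1)
      rwa [formOfGram_single, Matrix.kroneckerMap_apply] at h1
    by_cases hC : ∀ p, C p p = 0
    · by_cases hD : ∀ s, D s s = 0
      · exact goal_quad hH h2 (quad_of_tensor hG h2 sympGram_alt (fix_of_le_spGL hH) h hC hD hCs hDs)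
      · exfalso
        obtain ⟨w, hw, hwB⟩ := exists_diag_functional h2 hDs hD
        refine not_irr_of_functional e P (by have := h.ha; omega) h.hb hw (fun g hg => ?_) hirr
        obtain ⟨A, B, u, hg', -, hB⟩ := h.sim g hg
        obtain ⟨l, hl⟩ := hwB B _ hB
        exact ⟨_, _, l, hg', hl⟩
    · exfalso
      push Not at hC
      obtain ⟨p, hp⟩ := hC
      have hD : ∀ s, D s s = 0 := fun s => (mul_eq_zero.1 (hz p s)).resolve_left hp
      have h' := h.swap
      obtain ⟨w, hw, hwB⟩ := exists_diag_functional h2 hCs (fun hall => hp (hall p))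
      refine not_irr_of_functional (e.trans (Equiv.prodComm _ _)) P (by have := h.hb; omega) h.ha hw (fun g hg => ?_) hirr
      obtain ⟨A, B, u, hg', -, hB⟩ := h'.sim g hg
      obtain ⟨l, hl⟩ := hwB B _ hB
      exact ⟨_, _, l, hg', hl⟩
  have hskew : (α : F) * β = -1 := by
    have h1 : pull (RingEquiv.refl F) (gramMatrix (sympForm m F)) e P = C ⊗ₖ D := h.gram
    obtain ⟨i, j, hij⟩ := exists_entry (unit_ne_zero (α := Fin a × Fin b)
      (h.gram ▸ (refl_pull hG e P).unit : IsUnit (C ⊗ₖ D)))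
    have h3 : formOfGram (RingEquiv.refl F) (C ⊗ₖ D) (Pi.single i 1) (Pi.single j 1) +
        formOfGram (RingEquiv.refl F) (C ⊗ₖ D) (Pi.single j 1) (Pi.single i 1) = 0 := by
      have hs := sesq_formOfGram (RingEquiv.refl F) (C ⊗ₖ D)
      have h4 := halt' (Pi.single i 1 + Pi.single j 1)
      rw [hs.add_left, hs.add_right, hs.add_right, halt', halt'] at h4
      linear_combination h4
    rw [formOfGram_single, formOfGram_single, Matrix.kroneckerMap_apply, Matrix.kroneckerMap_apply] at h3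
    have e1 : C j.1 i.1 = (α : F) * C i.1 j.1 := congrFun (congrFun hα i.1) j.1
    have e2 : D j.2 i.2 = (β : F) * D i.2 j.2 := congrFun (congrFun hβ i.2) j.2
    rw [e1, e2] at h3
    rw [Matrix.kroneckerMap_apply] at hij
    have h5 : (1 + (α : F) * β) * (C i.1 j.1 * D i.2 j.2) = 0 := by linear_combination h3
    linear_combination (mul_eq_zero.1 h5).resolve_right hij
  rcases mul_self_eq_one_iff.1 hα2 with hα1 | hα1
  · have hβ1 : (β : F) = -1 := by linear_combination hskew - (β : F) * hα1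
    exact goal_tensor_odd hm h2 hH hirr h.swap (by rw [hβ, hβ1, neg_one_smul]) (by rw [hα, hα1, one_smul])
  · have hβ1 : (β : F) = 1 := by linear_combination -hskew + (β : F) * hα1
    exact goal_tensor_odd hm h2 hH hirr h (by rw [hα, hα1, neg_one_smul]) (by rw [hβ, hβ1, one_smul])

theorem goal_family (hm : 2 ≤ m) (hH : H ≤ spGL m F) (h : FamilyMin (RingEquiv.refl F) (gramMatrix (sympForm m F)) H) : SympGoal H := by
  haveI : Nonempty (Fin m ⊕ Fin m) := ⟨Sum.inl ⟨0, by omega⟩⟩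
  have hG := refl_sympGram (F := F) (m := m)
  obtain ⟨N, k, T, hN, hNG, hT⟩ := h
  obtain ⟨d, e, P, D, hP, hφ⟩ := powerData_of_family hG (fix_of_le_spGL hH) hNG hN hT
  by_cases h2 : (2 : F) = 0
  · exact goal_quad hH h2 (quad_of_power hG h2 sympGram_alt (fix_of_le_spGL hH) hP)
  obtain ⟨hk, hd, hDu, ⟨β, hβ⟩, ⟨c, hc, hgram⟩, hle⟩ := hP
  haveI : Nonempty (Fin d) := ⟨⟨0, by omega⟩⟩
  rw [show Dᵀ.map (RingEquiv.refl F) = Dᵀ from Matrix.map_id _] at hβ
  have hβk : (β : F) ^ k = -1 := by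
    have hu := (refl_pull hG e P).unit
    obtain ⟨x, y, hxy⟩ := exists_entry (unit_ne_zero hu)
    have hs := sesq_formOfGram (RingEquiv.refl F) (pull (RingEquiv.refl F) (gramMatrix (sympForm m F)) e P)
    have halt' : ∀ z, formOfGram (RingEquiv.refl F) (pull (RingEquiv.refl F) (gramMatrix (sympForm m F)) e P) z z = 0 := fun z => by
      rw [← form_coords]; exact sympGram_alt _
    have h4 := halt' (Pi.single x 1 + Pi.single y 1)
    rw [hs.add_left, hs.add_right, hs.add_right, halt', halt', formOfGram_single, formOfGram_single] at h4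
    rw [hgram] at h4 hxy
    simp only [Matrix.smul_apply, pureMat, Matrix.of_apply, smul_eq_mul] at h4 hxy
    have e1 : ∏ i, D (y i) (x i) = (β : F) ^ k * ∏ i, D (x i) (y i) := by
      conv_rhs => rw [show (β : F) ^ k = ∏ _i : Fin k, (β : F) by simp, ← Finset.prod_mul_distrib]
      exact Finset.prod_congr rfl fun i _ => congrFun (congrFun hβ (x i)) (y i)
    rw [e1] at h4
    have h5 : (1 + (β : F) ^ k) * (c * ∏ i, D (x i) (y i)) = 0 := by linear_combination h4
    linear_combination (mul_eq_zero.1 h5).resolve_right hxy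
  have hne : (1 : F) ≠ -1 := fun h => h2 (by linear_combination h)
  have hβ1 : (β : F) = -1 := (mul_self_eq_one_iff.1 (transpose_scalar_sq hDu hβ)).resolve_left fun h => hne (by
    rw [← hβk, h, one_pow])
  have hkodd : Odd k := by
    rcases Nat.even_or_odd k with he | ho
    · exfalso; exact hne (by rw [← hβk, hβ1, he.neg_one_pow])
    · exact ho
  have hq32 : ¬ (Fintype.card F = 3 ∧ d = 2) := by
    rintro ⟨hq, rfl⟩
    obtain ⟨φ, hφi, -⟩ := hφ ⟨0, by omega⟩
    exact family_not_solvable hT _ (solvable_gl2_three hq) φ hφi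
  refine Or.inl ⟨_, Or.inr (Or.inr (Or.inr (Or.inr ⟨d, k, e, P, _, odd_card_of_two_ne h2, hkodd,
    by obtain ⟨j, hj⟩ := hkodd; omega, hq32,
    symplectic_formOfGram h2 hDu (by rw [hβ, hβ1, neg_one_smul]), ⟨c, hc, fun x y => ?_⟩, rfl⟩))), le_inf hle hH⟩
  rw [gram_formOfGram, sympForm_gram, form_coords, hgram, formOfGram_smul]
  simp [formOfGram, pureMat, Matrix.of_apply]

theorem goal_abelian (hm : 2 ≤ m) (hH : H ≤ spGL m F) (h : AbelianMin H) :
    SympGoal H ∨ RatCase (RingEquiv.refl F) (gramMatrix (sympForm m F)) H := by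
  haveI : Nonempty (Fin m ⊕ Fin m) := ⟨Sum.inl ⟨0, by omega⟩⟩
  obtain ⟨N, hN, hscal, hle, hn, hmin, hab⟩ := h
  rcases abelian_symplectic (by simp; omega) refl_sympGram sympGram_alt (fix_of_le_spGL hH) hN hscal hle hn hmin hab
    with ⟨R, p, k, hR, hRai, hfix, hp, hpo, hcard, hRc, hcen, hminus, hle', hdim⟩ | h
  · refine Or.inl (Or.inl ⟨_, Or.inl (Or.inr (Or.inr (Or.inr (Or.inr (Or.inr (Or.inl
      ⟨R, p, k, hR, hRai, fun g hg => ⟨1, fun u v => ?_⟩, hp, hpo, hcard, hRc, hcen, hminus,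
        by simpa using hdim, rfl⟩)))))),
      le_inf hle' hH⟩)
    rw [sympForm_gram, formOfGram_mulVec, hfix g hg, Units.val_one, one_mul]
  · exact Or.inr h

omit [Fintype F] in
theorem formOfGram_mem {ι : Type} [Fintype ι] [DecidableEq ι] (G : Matrix ι ι F) (P : GL ι F) (F₁ : Subfield F)
    (σ : F ≃+* F) (ζ : F) (h : ∀ i j, ζ * ((P : Matrix ι ι F)ᵀ * (G * (P : Matrix ι ι F).map σ)) i j ∈ F₁)
    (u v : ι → F) (hu : ∀ i, u i ∈ F₁) (hv : ∀ i, σ (v i) ∈ F₁) :
    ζ * formOfGram σ G ((P : Matrix ι ι F) *ᵥ u) ((P : Matrix ι ι F) *ᵥ v) ∈ F₁ := by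
  rw [formOfGram_mulVec, formOfGram]
  simp only [Finset.mul_sum]
  refine F₁.sum_mem fun i _ => F₁.sum_mem fun j _ => ?_
  rw [show ζ * (u i * ((P : Matrix ι ι F)ᵀ * (G * (P : Matrix ι ι F).map σ)) i j * σ (v j)) =
    u i * (ζ * ((P : Matrix ι ι F)ᵀ * (G * (P : Matrix ι ι F).map σ)) i j) * σ (v j) by ring]
  exact F₁.mul_mem (F₁.mul_mem (hu i) (h i j)) (hv j)

theorem goal_rational (hH : H ≤ spGL m F) (h : RatCase (RingEquiv.refl F) (gramMatrix (sympForm m F)) H) : SympGoal H := by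
  obtain ⟨F₁, r, P, ζ, hr, hcard, hζ, hmem, hle⟩ := h
  refine Or.inl ⟨_, Or.inl (Or.inr (Or.inr (Or.inr (Or.inr (Or.inl ⟨F₁, r, P, ζ, hr, hcard, hζ, ?_, rfl⟩))))),
    le_inf hle hH⟩
  intro u v hu hv
  rw [sympForm_gram]
  exact formOfGram_mem _ P F₁ _ ζ hmem u v hu hv

theorem goal_core (hm : 2 ≤ m) (hH : H ≤ spGL m F) (h : CoreCase (RingEquiv.refl F) (gramMatrix (sympForm m F)) H) : SympGoal H := by
  haveI : Nonempty (Fin m ⊕ Fin m) := ⟨Sum.inl ⟨0, by omega⟩⟩
  have hG := refl_sympGram (F := F) (m := m)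
  obtain ⟨P, hcore, hPfix, hno⟩ := h
  by_cases hQ : ∃ Q : ((Fin m ⊕ Fin m) → F) → F, IsNondegenerateQuadraticForm Q ∧ FixesQuadForm (matrixSet P) Q
  · obtain ⟨Q, hQ, hfix⟩ := hQ
    have hpf : FixesForm (matrixSet P) (QuadraticMap.polar Q) := fun s hs u v => by
      simp only [QuadraticMap.polar, ← Matrix.mulVec_add, hfix s hs]
    have hs := sesq_of_bilinear hQ.polar_bilinear
    obtain ⟨c, hc⟩ := Fix.eq_smul hcore.absIrred hPfix hG.unit (G' := gramMatrix (QuadraticMap.polar Q))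
      (fix_of_fixesForm hs hpf)
    have hpol : ∀ u v, QuadraticMap.polar Q u v = c * formOfGram (RingEquiv.refl F) (gramMatrix (sympForm m F)) u v := fun u v => by
      rw [hs.eq_gram, hc, formOfGram_smul]
    have hc0 : c ≠ 0 := by
      intro h0
      obtain ⟨⟨x, hx⟩, -⟩ := hQ.nondegenerate (Pi.single (Classical.arbitrary (Fin m ⊕ Fin m)) 1) (by simp)
      exact hx (by rw [hpol, h0, zero_mul])
    by_cases h2 : (2 : F) = 0
    · let Q' : ((Fin m ⊕ Fin m) → F) → F := fun v => c⁻¹ * Q v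
      refine goal_quad hH h2 (quad_of_fixed hG h2 (by simp; omega) hcore.absIrred hcore.normal (fix_of_le_spGL hH)
        (Q := Q') (fun d v => ?_) (fun u v => ?_) fun x hx v => ?_)
      · simp only [Q', hQ.smul]; ring
      · show c⁻¹ * Q (u + v) - c⁻¹ * Q u - c⁻¹ * Q v = _
        rw [← mul_sub, ← mul_sub]
        show c⁻¹ * QuadraticMap.polar Q u v = _
        rw [hpol, inv_mul_cancel_left₀ hc0]
      · simp only [Q']
        rw [hfix _ ⟨x, hx, rfl⟩]
    · exfalso
      obtain ⟨⟨x, hx⟩, -⟩ := hQ.nondegenerate (Pi.single (Classical.arbitrary (Fin m ⊕ Fin m)) 1) (by simp)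
      set v : (Fin m ⊕ Fin m) → F := Pi.single (Classical.arbitrary (Fin m ⊕ Fin m)) 1
      have h1 : QuadraticMap.polar Q x v = QuadraticMap.polar Q v x := QuadraticMap.polar_comm _ _ _
      have h3 := sympGram_alt (F := F) (m := m) (x + v)
      have hsG := sesq_formOfGram (RingEquiv.refl F) (gramMatrix (sympForm m F))
      rw [hsG.add_left, hsG.add_right, hsG.add_right, sympGram_alt, sympGram_alt] at h3
      have h4 : (2 : F) * QuadraticMap.polar Q x v = 0 := by
        rw [hpol x v, hpol v x] at h1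
        rw [hpol]
        linear_combination h1 + c * h3
      exact hx ((mul_eq_zero.1 h4).resolve_left h2)
  refine Or.inr ⟨P, hcore, hQ, ?_⟩
  rintro ⟨σ', f, hf, hfix⟩
  have hs := sesq_of_unitary hf
  refine hno σ' (gramMatrix f) hf.ne_refl hf.involutive (gram_isUnit σ' ?_) (fix_of_fixesForm hs hfix)
  rw [show formOfGram σ' (gramMatrix f) = f from funext₂ fun u v => (hs.eq_gram u v).symm]
  exact hf.nondegenerate

/-- Aschbacher's theorem in the symplectic case, with dimensions recorded. -/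
theorem aschbacher_symp_dim (hm : 2 ≤ m) (hH : H ≤ spGL m F) : SympGoal H := by
  have hG := refl_sympGram (F := F) (m := m)
  have hcard : Fintype.card (Fin m ⊕ Fin m) = m + m := by simp
  by_cases hirr : Irr H
  swap
  · rcases reducible_case hG (fix_of_le_spGL hH).sims hirr with ⟨W, h1, h2, hle⟩ | ⟨W, h1, h2, h3, hle⟩ |
      ⟨k, D, -, hD, hle⟩
    · refine Or.inl ⟨_, Or.inl (Or.inl ⟨W, h1, ?_, rfl⟩), le_inf hle hH⟩
      rw [sympForm_gram]; exact h2
    · refine Or.inl ⟨_, Or.inl (Or.inr (Or.inl ⟨W, h1, ?_, by omega, rfl⟩)), le_inf hle hH⟩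
      rw [sympForm_gram]; exact h2
    · refine Or.inl ⟨_, Or.inl (Or.inr (Or.inr (Or.inl ⟨2, k, D, ?_, rfl⟩))), le_inf hle hH⟩
      rw [sympForm_gram]; exact hD
  rcases irr_case hG (by omega) (fix_of_le_spGL hH) hirr with ⟨t, k, D, hD, hle, -⟩ | h | h |
    ⟨a, b, e, P, C, D, h⟩ | h | h | h | h
  · refine Or.inl ⟨_, Or.inl (Or.inr (Or.inr (Or.inl ⟨t, k, D, ?_, rfl⟩))), le_inf hle hH⟩
    rw [sympForm_gram]; exact hD
  · exact goal_skewPair hH hirr h
  · exact goal_field hm hH h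
  · exact goal_tensor hm hH hirr h
  · rcases goal_abelian hm hH h with h | h
    · exact h
    · exact goal_rational hH h
  · exact goal_family hm hH h
  · exact goal_rational hH h
  · exact goal_core hm hH h

/-- Aschbacher's theorem in the symplectic case. -/
theorem aschbacher_symp (hm : 2 ≤ m) (hH : H ≤ spGL m F) :
    (∃ M : Subgroup (GL (Fin m ⊕ Fin m) F), InSymplecticClass m F M ∧ H ≤ M) ∨ InSymplecticResidualClass H :=
  (aschbacher_symp_dim hm hH).imp_left fun ⟨M, hM, hle⟩ => ⟨M, hM.inClass, hle⟩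

end Cfsg.Agent.Classical.Asch
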