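import Cfsg.Agent.Lib.Classical.AschClifford

/-!
Tensor decompositions: a split normal subgroup gives two tensor factors, commuting permuted subgroups give a tensor
power.
-/

set_option autoImplicit false
set_option linter.unusedSectionVars false
set_option linter.unusedFintypeInType false
set_option linter.unusedDecidableInType false

namespace Cfsg.Agent.Classical.Asch

open Matrix Module Cfsg.Geo
open scoped Kronecker

variable {F : Type*} [Field F] {ι : Type} [Fintype ι] [DecidableEq ι]

/-- Multiplicative bijective linear maps of a matrix algebra are inner. -/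
theorem exists_inner {m : ℕ} (f : Matrix (Fin m) (Fin m) F → Matrix (Fin m) (Fin m) F) (hadd : ∀ A B, f (A + B) = f A + f B)
    (hsmul : ∀ (c : F) A, f (c • A) = c • f A) (hmul : ∀ A B, f (A * B) = f A * f B) (hone : f 1 = 1)
    (hinj : Function.Injective f) : ∃ g : GL (Fin m) F, ∀ A, f A = cj g A := by
  let L : Matrix (Fin m) (Fin m) F →ₗ[F] Matrix (Fin m) (Fin m) F := ⟨⟨f, hadd⟩, hsmul⟩
  have hbij : Function.Bijective L := ⟨hinj, LinearMap.surjective_of_injective (f := L) hinj⟩
  let ψ : Matrix (Fin m) (Fin m) F ≃ₐ[F] Matrix (Fin m) (Fin m) F :=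
    AlgEquiv.ofLinearEquiv (LinearEquiv.ofBijective L hbij) hone hmul
  let T := (Matrix.toLinAlgEquiv' (R := F) (n := Fin m))
  obtain ⟨U, hU⟩ := AlgEquiv.eq_linearEquivConjAlgEquiv ((T.symm.trans ψ).trans T)
  have hUM : LinearMap.toMatrix' (U : (Fin m → F) →ₗ[F] (Fin m → F)) *
      LinearMap.toMatrix' (U.symm : (Fin m → F) →ₗ[F] (Fin m → F)) = 1 := by
    rw [← LinearMap.toMatrix'_comp]
    simp
  refine ⟨⟨LinearMap.toMatrix' (U : (Fin m → F) →ₗ[F] (Fin m → F)),
    LinearMap.toMatrix' (U.symm : (Fin m → F) →ₗ[F] (Fin m → F)), hUM, mul_eq_one_comm.1 hUM⟩, fun A => ?_⟩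
  have h1 := congrArg (fun e => T.symm (e (T A))) hU
  simp only [AlgEquiv.trans_apply, AlgEquiv.symm_apply_apply] at h1
  calc f A = ψ A := rfl
    _ = _ := by
      rw [h1]
      show LinearMap.toMatrix' ((U : (Fin m → F) →ₗ[F] (Fin m → F)) ∘ₗ Matrix.toLin' A ∘ₗ
        (U.symm : (Fin m → F) →ₗ[F] (Fin m → F))) = _
      rw [LinearMap.toMatrix'_comp, LinearMap.toMatrix'_comp, LinearMap.toMatrix'_toLin', ← mul_assoc]
      rfl

/-- A matrix commuting with all second-factor matrices lies in the first factor. -/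
theorem eq_kron_one {a b : ℕ} (hb : 0 < b) {X : Matrix (Fin a × Fin b) (Fin a × Fin b) F}
    (h : ∀ B : Matrix (Fin b) (Fin b) F, Commute X ((1 : Matrix (Fin a) (Fin a) F) ⊗ₖ B)) :
    X = (Matrix.of fun p p' => X (p, ⟨0, hb⟩) (p', ⟨0, hb⟩)) ⊗ₖ (1 : Matrix (Fin b) (Fin b) F) := by
  have key : ∀ i i' j' p p', (if i' = j' then X (p, i) (p', i) else 0) = X (p, i') (p', j') := by
    intro i i' j' p p'
    have h1 := congrFun (congrFun (h (Matrix.single i' i 1)).eq (p, i')) (p', i)
    have h2 := congrFun (congrFun (h (Matrix.single j' i 1)).eq (p, i')) (p', i)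
    simp only [Matrix.mul_apply, Fintype.sum_prod_type, Matrix.kroneckerMap_apply, Matrix.one_apply,
      Matrix.single_apply, ite_mul, mul_ite, one_mul, zero_mul, mul_one, mul_zero, Finset.sum_ite_eq,
      Finset.sum_ite_eq', Finset.mem_univ, if_true, and_true, true_and] at h1 h2
    by_cases hij : i' = j'
    · subst hij
      simp only [if_true]
      simpa using h1.symm
    · simp only [hij, if_false] at h2 ⊢
      simpa [Ne.symm hij] using h2.symm
  ext ⟨p, i'⟩ ⟨p', j'⟩
  rw [← key ⟨0, hb⟩ i' j' p p']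
  simp [Matrix.one_apply]

theorem kron_one_left_injective {a b : ℕ} (ha : 0 < a) :
    Function.Injective (fun B : Matrix (Fin b) (Fin b) F => (1 : Matrix (Fin a) (Fin a) F) ⊗ₖ B) := by
  intro B B' h
  ext i j
  simpa using congrFun (congrFun h (⟨0, ha⟩, i)) (⟨0, ha⟩, j)

theorem kron_one_right_injective {a b : ℕ} (hb : 0 < b) :
    Function.Injective (fun A : Matrix (Fin a) (Fin a) F => A ⊗ₖ (1 : Matrix (Fin b) (Fin b) F)) := by
  intro A A' h
  ext i j
  simpa using congrFun (congrFun h (i, ⟨0, hb⟩)) (j, ⟨0, hb⟩)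

theorem card_of_equiv {a b : ℕ} (e : ι ≃ Fin a × Fin b) : Fintype.card ι = a * b := by
  rw [Fintype.card_congr e, Fintype.card_prod, Fintype.card_fin, Fintype.card_fin]

/-- The normaliser of a split subgroup is a tensor product group. -/
theorem tensor_of_split [Nonempty ι] {H N : Subgroup (GL ι F)} (hn : Norms H N)
    (hns : ¬ N ≤ scalars ι F) (h : Split N) :
    ∃ (a b : ℕ) (e : ι ≃ Fin a × Fin b) (P : GL ι F), 2 ≤ a ∧ 2 ≤ b ∧ H ≤ tensorProductSubgroup a b e P ∧
      ∀ M : Matrix ι ι F, Com N M ↔ ∃ B : Matrix (Fin b) (Fin b) F, M = co e P ((1 : Matrix (Fin a) (Fin a) F) ⊗ₖ B) := by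
  obtain ⟨a, b, e, P, hb, hN, hC⟩ := h
  have ha0 : 0 < a := (e (Classical.arbitrary ι)).1.pos
  have ha : 2 ≤ a := by
    by_contra hlt
    have ha1 : a = 1 := by omega
    subst ha1
    refine hns fun x hx => ?_
    obtain ⟨A, hA⟩ := hN x hx
    have hA' : A = A 0 0 • (1 : Matrix (Fin 1) (Fin 1) F) := by
      ext i j; rw [Subsingleton.elim i 0, Subsingleton.elim j 0]; simp
    rw [hA', Matrix.smul_kronecker, Matrix.one_kronecker_one, co_smul, co_one] at hA
    exact (mem_scalars_iff x).2 ⟨Units.mk0 _ fun h0 => x.ne_zero (by rw [hA, h0, zero_smul]), hA⟩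
  refine ⟨a, b, e, P, ha, hb, fun g hg => ?_, hC⟩
  have hex : ∀ B : Matrix (Fin b) (Fin b) F, ∃ B' : Matrix (Fin b) (Fin b) F,
      cj g (co e P ((1 : Matrix (Fin a) (Fin a) F) ⊗ₖ B)) = co e P ((1 : Matrix (Fin a) (Fin a) F) ⊗ₖ B') :=
    fun B => (hC _).1 (hn.com_cj hg ((hC _).2 ⟨B, rfl⟩))
  choose f hf using hex
  have hinj0 : Function.Injective fun B : Matrix (Fin b) (Fin b) F =>
      co e P ((1 : Matrix (Fin a) (Fin a) F) ⊗ₖ B) := (co_injective e P).comp (kron_one_left_injective ha0)
  obtain ⟨β, hβ⟩ := exists_inner f (fun A B => hinj0 (by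
      show co e P _ = co e P _
      rw [← hf, Matrix.kronecker_add, co_add, cj_add, hf, hf, Matrix.kronecker_add, co_add]))
    (fun c A => hinj0 (by
      show co e P _ = co e P _
      rw [← hf, Matrix.kronecker_smul, co_smul, cj_smul, hf, Matrix.kronecker_smul, co_smul]))
    (fun A B => hinj0 (by
      show co e P _ = co e P _
      rw [← hf, ← mul_one (1 : Matrix (Fin a) (Fin a) F), Matrix.mul_kronecker_mul, co_mul, cj_mul, mul_one, hf, hf,
        ← co_mul, ← Matrix.mul_kronecker_mul, mul_one]))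
    (hinj0 (by
      show co e P _ = co e P _
      rw [← hf, Matrix.one_kronecker_one, co_one]; simp [cj]))
    (fun A B hAB => by
      have := hf A
      rw [hAB, ← hf B] at this
      exact hinj0 (by simpa [cj_inv_cj] using congrArg (cj g⁻¹) this))
  obtain ⟨Y, hY⟩ := co_surjective e P (g : Matrix ι ι F)
  set X := ((1 : Matrix (Fin a) (Fin a) F) ⊗ₖ ((β⁻¹ : GL (Fin b) F) : Matrix (Fin b) (Fin b) F)) * Y with hXdef
  have hX := eq_kron_one (a := a) (b := b) (by omega) (X := X) fun B => by
    have h1 := hf B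
    rw [hβ] at h1
    have h2 : (g : Matrix ι ι F) * co e P ((1 : Matrix (Fin a) (Fin a) F) ⊗ₖ B) =
        co e P ((1 : Matrix (Fin a) (Fin a) F) ⊗ₖ cj β B) * (g : Matrix ι ι F) := by
      rw [← h1]; simp [cj, mul_assoc]
    rw [← hY, ← co_mul, ← co_mul] at h2
    have h3 := co_injective e P h2
    show X * _ = _ * X
    rw [hXdef, mul_assoc, h3, ← mul_assoc, ← mul_assoc, ← Matrix.mul_kronecker_mul, ← Matrix.mul_kronecker_mul,
      cj]
    simp [← mul_assoc]
  set A := Matrix.of fun p p' => X (p, ⟨0, by omega⟩) (p', ⟨0, by omega⟩) with hA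
  clear_value A
  have hYeq : Y = A ⊗ₖ (β : Matrix (Fin b) (Fin b) F) := by
    calc Y = ((1 : Matrix (Fin a) (Fin a) F) ⊗ₖ (β : Matrix (Fin b) (Fin b) F)) * X := by
          rw [hXdef, ← mul_assoc, ← Matrix.mul_kronecker_mul, mul_one, Units.mul_inv, Matrix.one_kronecker_one,
            one_mul]
      _ = _ := by rw [hX, ← Matrix.mul_kronecker_mul, one_mul, mul_one]
  have hYu : IsUnit Y := by
    have h1 := g.isUnit
    rw [← hY, co, cj] at h1
    have h2 : IsUnit (Matrix.reindexAlgEquiv F F e.symm Y) :=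
      ((Units.isUnit_units_mul P _).1 ((Units.isUnit_mul_units _ P⁻¹).1 h1))
    exact (MulEquiv.isUnit_map (Matrix.reindexAlgEquiv F F e.symm)).1 h2
  have hAu : IsUnit A := by
    rw [Matrix.isUnit_iff_isUnit_det] at hYu ⊢
    rw [hYeq, Matrix.det_kronecker] at hYu
    exact (isUnit_pow_iff (by simp; omega)).1 (isUnit_of_mul_isUnit_left hYu)
  let k : GL (Fin a × Fin b) F := hYu.unit
  refine ⟨glReindex e.symm k, ⟨k, ⟨hAu.unit, β, hYeq⟩, rfl⟩, Units.ext ?_⟩
  rw [← hY]
  rfl

/-- A matrix acting in one slot of a tensor power. -/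
def slot {k m : ℕ} (i : Fin k) (Y : Matrix (Fin m) (Fin m) F) :
    Matrix (Fin k → Fin m) (Fin k → Fin m) F :=
  Matrix.of fun x y => if ∀ l, l ≠ i → x l = y l then Y (x i) (y i) else 0

/-- The matrix permuting the slots. -/
def permMat {k m : ℕ} (σ : Equiv.Perm (Fin k)) : Matrix (Fin k → Fin m) (Fin k → Fin m) F :=
  Matrix.of fun x y => if y = x ∘ σ then 1 else 0

theorem permMat_mul_slot {k m : ℕ} (σ : Equiv.Perm (Fin k)) (i : Fin k) (Y : Matrix (Fin m) (Fin m) F) :
    permMat σ * slot i Y = slot (σ i) Y * permMat σ := by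
  ext x z
  rw [Matrix.mul_apply, Matrix.mul_apply, Finset.sum_eq_single (x ∘ σ) (fun w _ hw => by simp [permMat, hw])
    (fun h => absurd (Finset.mem_univ _) h), Finset.sum_eq_single (z ∘ σ.symm) (fun w _ hw => ?_)
    (fun h => absurd (Finset.mem_univ _) h)]
  · have hiff : (∀ l, l ≠ i → x (σ l) = z l) ↔ ∀ l, l ≠ σ i → x l = z (σ.symm l) := by
      constructor
      · intro h l hl
        simpa using h (σ.symm l) fun he => hl (by rw [← he, Equiv.apply_symm_apply])
      · intro h l hl
        simpa using h (σ l) fun he => hl (σ.injective he)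
    have hz : z = z ∘ σ.symm ∘ σ := by ext l; simp
    simp [permMat, slot, hiff, ← hz, Function.comp_assoc]
  · have : ¬ z = w ∘ σ := fun h => hw (by rw [h]; ext l; simp)
    simp [permMat, this]

set_option maxHeartbeats 1000000 in
/-- Commuting unital embeddings of matrix algebras give coordinates in a tensor power. -/
theorem exists_power_coords [Fintype F] {k m : ℕ} (hm : 0 < m)
    {N : Subgroup (GL ι F)} (hN : Irr N) [Nonempty ι] (T : Fin k → Subgroup (GL ι F))
    (hsup : N ≤ ⨆ i, T i) (φ : Fin k → (Matrix (Fin m) (Fin m) F →ₐ[F] Matrix ι ι F))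
    (hcomm : ∀ i j, i ≠ j → ∀ X Y, Commute (φ i X) (φ j Y))
    (hT : ∀ i, ∀ x ∈ T i, ∃ Y, (x : Matrix ι ι F) = φ i Y) :
    ∃ (e : ι ≃ (Fin k → Fin m)) (P : GL ι F), (∀ i Y, φ i Y = co e P (slot i Y)) ∧
      ∀ gs : Fin k → GL (Fin m) F, ∃ u : GL ι F,
        (∀ i Y, cj u (φ i Y) = φ i (cj (gs i) Y)) ∧
        (u : Matrix ι ι F) = co e P (Matrix.of fun x y => ∏ i, (gs i : Matrix (Fin m) (Fin m) F) (x i) (y i)) := by
  classical
  let z : Fin m := ⟨0, hm⟩
  let Φ : (Fin k → Matrix (Fin m) (Fin m) F) →* Matrix ι ι F :=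
    MonoidHom.noncommPiCoprod (fun i => (φ i).toMonoidHom) fun i j hij X Y => hcomm i j hij X Y
  have hsingle : ∀ i Y, Φ (Pi.mulSingle i Y) = φ i Y := fun i Y =>
    MonoidHom.noncommPiCoprod_mulSingle (fun j => (φ j).toMonoidHom) i Y
  have hupd : ∀ (g : Fin k → Matrix (Fin m) (Fin m) F) i Y,
      Φ (Function.update g i Y) = φ i Y * Φ (Function.update g i 1) := by
    intro g i Y
    rw [← hsingle, ← map_mul]
    congr 1
    ext1 l
    by_cases hl : l = i
    · subst hl; simp
    · simp [hl]
  have hzero : ∀ (g : Fin k → Matrix (Fin m) (Fin m) F) i, g i = 0 → Φ g = 0 := fun g i hg => by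
    rw [← Function.update_eq_self i g, hupd, hg, map_zero, zero_mul]
  have hscal : ∀ c : Fin k → F, Φ (fun i => c i • (1 : Matrix (Fin m) (Fin m) F)) = (∏ i, c i) • 1 := by
    let f₁ : (Fin k → F) →* Matrix ι ι F := Φ.comp (Pi.monoidHom fun i =>
      (algebraMap F (Matrix (Fin m) (Fin m) F)).toMonoidHom.comp (Pi.evalMonoidHom (fun _ => F) i))
    let f₂ : (Fin k → F) →* Matrix ι ι F := (algebraMap F (Matrix ι ι F)).toMonoidHom.comp
      { toFun := fun c => ∏ i, c i
        map_one' := by simp
        map_mul' := fun a b => by simp [Finset.prod_mul_distrib] }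
    have h12 : f₁ = f₂ := MonoidHom.pi_ext fun i x => by
      have h1 : (fun j => algebraMap F (Matrix (Fin m) (Fin m) F) ((Pi.mulSingle i x : Fin k → F) j)) =
          Pi.mulSingle i (algebraMap F (Matrix (Fin m) (Fin m) F) x) := by
        ext1 j
        by_cases hj : j = i
        · subst hj; simp
        · simp [hj]
      show Φ (fun j => algebraMap F (Matrix (Fin m) (Fin m) F) ((Pi.mulSingle i x : Fin k → F) j)) =
        algebraMap F (Matrix ι ι F) (∏ j, (Pi.mulSingle i x : Fin k → F) j)
      rw [h1, hsingle, AlgHom.commutes, Finset.prod_pi_mulSingle']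
      simp
    intro c
    have h3 : Φ (fun i => algebraMap F (Matrix (Fin m) (Fin m) F) (c i)) = algebraMap F (Matrix ι ι F) (∏ i, c i) :=
      DFunLike.congr_fun h12 c
    simpa only [Algebra.algebraMap_eq_smul_one] using h3
  have hsmul : ∀ (c : Fin k → F) g, Φ (fun i => c i • g i) = (∏ i, c i) • Φ g := fun c g => by
    calc Φ (fun i => c i • g i) = Φ ((fun i => c i • (1 : Matrix (Fin m) (Fin m) F)) * g) := by
          congr 1; funext i; simp
      _ = _ := by rw [map_mul, hscal, Matrix.smul_mul, one_mul]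
  let E : (Fin k → Fin m) → (Fin k → Fin m) → Matrix ι ι F := fun x y =>
    Φ fun i => Matrix.single (x i) (y i) 1
  -- the basic idempotent is non-zero
  have hE0 : E (fun _ => z) (fun _ => z) ≠ 0 := by
    suffices hs : ∀ s : Finset (Fin k),
        Φ (fun i => if i ∈ s then Matrix.single z z (1 : F) else 1) ≠ 0 by
      simpa [E] using hs Finset.univ
    intro s
    induction s using Finset.induction_on with
    | empty => simp only [Finset.notMem_empty, if_false]; rw [← Pi.one_def, map_one]; exact one_ne_zero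
    | insert j s hj ih =>
      intro h0
      apply ih
      set g : Fin k → Matrix (Fin m) (Fin m) F := fun i => if i ∈ s then Matrix.single z z (1 : F) else 1 with hg
      have hgj : g j = 1 := by simp [hg, hj]
      have h1 : φ j (Matrix.single z z 1) * Φ g = 0 := by
        rw [← hsingle, ← map_mul, ← h0]
        congr 1
        funext i
        by_cases hi : i = j
        · subst hi; simp [hgj]
        · simp [hg, hi]
      have hc : ∀ Y, Φ g * φ j Y = φ j Y * Φ g := fun Y => by
        rw [← hsingle, ← map_mul, ← map_mul]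
        congr 1
        funext i
        by_cases hi : i = j
        · subst hi; simp [hgj]
        · simp [hi]
      have h2 : ∀ c, φ j (Matrix.single c c 1) * Φ g = 0 := fun c => by
        calc φ j (Matrix.single c c 1) * Φ g
            = φ j (Matrix.single c z 1) * (φ j (Matrix.single z z 1) * Φ g) * φ j (Matrix.single z c 1) := by
              rw [mul_assoc, mul_assoc (φ j (Matrix.single z z 1)), hc, ← mul_assoc, ← mul_assoc, ← map_mul,
                ← map_mul, Matrix.single_mul_single_same, Matrix.single_mul_single_same, mul_one, mul_one]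
          _ = 0 := by rw [h1, mul_zero, zero_mul]
      have h3 : (∑ c, Matrix.single c c (1 : F)) = (1 : Matrix (Fin m) (Fin m) F) := by
        ext p q
        simp only [Matrix.sum_apply, Matrix.single_apply, Matrix.one_apply]
        by_cases hpq : p = q
        · subst hpq; simp
        · simp only [hpq, if_false]
          exact Finset.sum_eq_zero fun c _ => if_neg fun h => hpq (h.1.symm.trans h.2)
      calc Φ g = φ j 1 * Φ g := by rw [map_one, one_mul]
        _ = 0 := by rw [← h3, map_sum, Finset.sum_mul]; exact Finset.sum_eq_zero fun c _ => h2 c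
  obtain ⟨v, hv0, hvfix⟩ : ∃ v, v ≠ 0 ∧ E (fun _ => z) (fun _ => z) *ᵥ v = v := by
    by_contra hno
    push Not at hno
    apply hE0
    apply Matrix.toLin'.injective
    refine LinearMap.ext fun u => ?_
    rw [map_zero, LinearMap.zero_apply, Matrix.toLin'_apply]
    by_contra hu
    refine hno _ hu ?_
    rw [Matrix.mulVec_mulVec]
    congr 1
    show Φ _ * Φ _ = Φ _
    rw [← map_mul]
    congr 1
    funext i
    simp
  let b : (Fin k → Fin m) → ι → F := fun x => E x (fun _ => z) *ᵥ v
  have hdual : ∀ x (gs : Fin k → Matrix (Fin m) (Fin m) F) y,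
      E (fun _ => z) x *ᵥ (Φ gs *ᵥ b y) = (∏ i, gs i (x i) (y i)) • v := by
    intro x gs y
    conv_rhs => rw [← hvfix, ← Matrix.smul_mulVec]
    show Φ _ *ᵥ (Φ gs *ᵥ (Φ _ *ᵥ v)) = _
    rw [Matrix.mulVec_mulVec, Matrix.mulVec_mulVec, ← map_mul, ← map_mul, ← hsmul]
    congr 2
    funext i
    simp only [Pi.mul_apply]
    rw [Matrix.single_mul_mul_single, one_mul, mul_one]
    simp
  have hb : ∀ x y, E (fun _ => z) x *ᵥ b y = (if x = y then 1 else 0 : F) • v := by
    intro x y
    have := hdual x 1 y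
    rw [map_one, Matrix.one_mulVec] at this
    rw [this]
    congr 1
    by_cases h : x = y
    · subst h; simp
    · rw [if_neg h]
      obtain ⟨i, hi⟩ := Function.ne_iff.1 h
      exact Finset.prod_eq_zero (Finset.mem_univ i) (by simp [Matrix.one_apply, hi])
  have hslot : ∀ i Y y, φ i Y *ᵥ b y = ∑ x, slot i Y x y • b x := by
    intro i Y y
    set g : Fin k → Matrix (Fin m) (Fin m) F := fun l => Matrix.single (y l) z (1 : F) with hg
    have h1 : φ i Y * E y (fun _ => z) = Φ (Function.update g i (Y * g i)) := by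
      show φ i Y * Φ g = _
      rw [← hsingle, ← map_mul]
      congr 1
      funext l
      by_cases hl : l = i
      · subst hl; simp
      · simp [hl]
    have h2 : Y * g i = ∑ c, Y c (y i) • Matrix.single c z (1 : F) := by
      ext p q
      simp only [hg, Matrix.sum_apply, Matrix.smul_apply, Matrix.single_apply, smul_eq_mul, Matrix.mul_apply]
      by_cases hq : z = q
      · subst hq; simp
      · simp [hq]
    show φ i Y *ᵥ (E y _ *ᵥ v) = _
    rw [Matrix.mulVec_mulVec, h1, hupd, h2, map_sum, Finset.sum_mul, Matrix.sum_mulVec,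
      ← (Finset.univ.filter fun x : Fin k → Fin m => ∀ l, l ≠ i → x l = y l).sum_add_sum_compl]
    rw [Finset.sum_eq_zero (s := (Finset.univ.filter fun x : Fin k → Fin m => ∀ l, l ≠ i → x l = y l)ᶜ)
      (fun x hx => by
        simp only [Finset.mem_compl, Finset.mem_filter, Finset.mem_univ, true_and] at hx
        simp [slot, hx]), add_zero]
    refine Finset.sum_bij' (fun c _ => Function.update y i c) (fun x _ => x i) (fun c _ => ?_)
      (fun x _ => Finset.mem_univ _) (fun c _ => by simp) (fun x hx => ?_) (fun c _ => ?_)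
    · simp only [Finset.mem_filter, Finset.mem_univ, true_and]
      intro l hl
      simp [hl]
    · simp only [Finset.mem_filter, Finset.mem_univ, true_and] at hx
      ext1 l
      by_cases hl : l = i
      · subst hl; simp
      · simp [hl, hx l hl]
    · rw [map_smul, Matrix.smul_mul, Matrix.smul_mulVec]
      have : slot i Y (Function.update y i c) y = Y c (y i) := by
        simp +contextual [slot]
      rw [this]
      congr 1
      show _ = Φ _ *ᵥ v
      congr 1
      rw [← hupd]
      congr 1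
      funext l
      by_cases hl : l = i
      · subst hl; simp
      · simp [hg, hl]
  -- the vectors form a basis
  have hli : LinearIndependent F b := by
    rw [Fintype.linearIndependent_iff]
    intro c hc x
    have := congrArg (E (fun _ => z) x *ᵥ ·) hc
    simp only [Matrix.mulVec_sum, Matrix.mulVec_smul, hb, Matrix.mulVec_zero, smul_smul, ← Finset.sum_smul] at this
    rcases smul_eq_zero.1 this with h | h
    · simpa using h
    · exact absurd h hv0
  set U := Submodule.span F (Set.range b) with hU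
  have hbne : Nonempty (Fin k → Fin m) := ⟨fun _ => z⟩
  have htop : U = ⊤ := by
    have hstab : ∀ i, ∀ x ∈ T i, ∀ w ∈ U, (x : Matrix ι ι F) *ᵥ w ∈ U := by
      intro i x hx w hw
      obtain ⟨Y, hY⟩ := hT i x hx
      have hle : U ≤ U.comap (Matrix.toLin' (x : Matrix ι ι F)) := Submodule.span_le.2 (by
        rintro _ ⟨y, rfl⟩
        rw [SetLike.mem_coe, Submodule.mem_comap, Matrix.toLin'_apply, hY, hslot]
        exact Submodule.sum_mem _ fun x _ => Submodule.smul_mem _ _ (Submodule.subset_span ⟨x, rfl⟩))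
      simpa [Matrix.toLin'_apply] using hle hw
    let G : Subgroup (GL ι F) :=
      { carrier := {x | U.map (Matrix.toLin' (x : Matrix ι ι F)) = U}
        mul_mem' := fun {a b} (ha : _ = U) (hb : _ = U) => by
          show U.map (Matrix.toLin' ((a * b : GL ι F) : Matrix ι ι F)) = U
          rw [Units.val_mul, Matrix.toLin'_mul, Submodule.map_comp, hb, ha]
        one_mem' := by simp
        inv_mem' := fun {a} (ha : _ = U) => by
          show U.map (Matrix.toLin' ((a⁻¹ : GL ι F) : Matrix ι ι F)) = U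
          conv_lhs => rw [← ha]
          rw [← Submodule.map_comp, ← Matrix.toLin'_mul, Units.inv_mul, Matrix.toLin'_one, Submodule.map_id] }
    have hNG : N ≤ G := hsup.trans (iSup_le fun i x hx => by
      show U.map _ = U
      apply Submodule.eq_of_le_of_finrank_eq
      · rintro _ ⟨w, hw, rfl⟩
        rw [Matrix.toLin'_apply]
        exact hstab i x hx w hw
      · exact (Submodule.equivMapOfInjective _ (map_inj x) _).finrank_eq.symm)
    refine (irr_iff.1 hN U fun g hg w hw => ?_).resolve_left fun h => hv0 ?_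
    · have : U.map (Matrix.toLin' (g : Matrix ι ι F)) = U := hNG hg
      rw [← this]
      exact ⟨w, hw, Matrix.toLin'_apply _ _⟩
    · have h1 : b (fun _ => z) ∈ U := Submodule.subset_span ⟨_, rfl⟩
      rw [h, Submodule.mem_bot] at h1
      rw [← hvfix]
      exact h1
  let bV := Module.Basis.mk hli htop.ge
  let ε : ι ≃ (Fin k → Fin m) := (Pi.basisFun F ι).indexEquiv bV
  let Q : Matrix ι ι F := Matrix.of fun r j => b (ε j) r
  have hQ : IsUnit Q := Matrix.linearIndependent_cols_iff_isUnit.1 (hli.comp ε ε.injective)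
  have hP : ∀ j r, (hQ.unit : Matrix ι ι F) r j = b (ε j) r := fun j r => rfl
  have hpure : ∀ gs : Fin k → Matrix (Fin m) (Fin m) F,
      Φ gs = co ε hQ.unit (Matrix.of fun x y => ∏ i, gs i (x i) (y i)) := fun gs => eq_co hP fun y => by
    obtain ⟨c, hc⟩ := (Submodule.mem_span_range_iff_exists_fun F).1 (htop.ge (Submodule.mem_top :
      Φ gs *ᵥ b y ∈ ⊤))
    rw [← hc]
    refine Finset.sum_congr rfl fun x _ => ?_
    congr 1
    have h1 := congrArg (E (fun _ => z) x *ᵥ ·) hc
    simp only [Matrix.mulVec_sum, Matrix.mulVec_smul, hb, smul_smul, ← Finset.sum_smul, hdual] at h1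
    have := smul_left_injective F hv0 h1
    simpa using this
  refine ⟨ε, hQ.unit, fun i Y => eq_co hP (hslot i Y), fun gs => ?_⟩
  let gU : Fin k → Matrix (Fin m) (Fin m) F := fun i => (gs i : Matrix (Fin m) (Fin m) F)
  let gI : Fin k → Matrix (Fin m) (Fin m) F := fun i => ((gs i)⁻¹ : GL (Fin m) F)
  have hUI : gU * gI = 1 := by funext i; simp [gU, gI]
  have hIU : gI * gU = 1 := by funext i; simp [gU, gI]
  refine ⟨⟨Φ gU, Φ gI, by rw [← map_mul, hUI, map_one], by rw [← map_mul, hIU, map_one]⟩, fun i Y => ?_,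
    hpure gU⟩
  show Φ gU * φ i Y * Φ gI = _
  rw [← hsingle, ← map_mul, ← map_mul, ← hsingle]
  congr 1
  funext l
  by_cases hl : l = i
  · subst hl; simp [gU, gI, cj]
  · simp [hl, gU, gI]

set_option maxHeartbeats 1000000 in
/-- Commuting permuted subgroups give a tensor power. -/
theorem wreath_of_family [Fintype F] [Nonempty ι] {H N : Subgroup (GL ι F)} {k : ℕ} (hk : 2 ≤ k)
    (T : Fin k → Subgroup (GL ι F)) (hN : AI N) (hle : ∀ i, T i ≤ N) (hsup : N ≤ ⨆ i, T i)
    (hcomm : ∀ i j, i ≠ j → ∀ x ∈ T i, ∀ y ∈ T j, x * y = y * x) (hns : ∀ i, ¬ T i ≤ scalars ι F)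
    (hperm : ∀ h ∈ H, ∀ i, ∃ j, ∀ x ∈ T i, h * x * h⁻¹ ∈ T j)
    (htrans : ∀ i j, ∃ h ∈ H, ∀ x ∈ T i, h * x * h⁻¹ ∈ T j) :
    ∃ (m : ℕ) (e : ι ≃ (Fin k → Fin m)) (P : GL ι F), 2 ≤ m ∧ H ≤ tensorWreathSubgroup m k e P ∧
      ∀ i M, (∀ j, j ≠ i → Com (T j) M) ↔ ∃ Y, M = co e P (slot i Y) := by
  classical
  -- commuting with each member is commuting with N
  have hComN : ∀ M : Matrix ι ι F, (∀ i, Com (T i) M) → Com N M := by
    intro M hM
    let G : Subgroup (GL ι F) :=
      { carrier := {x | Commute M (x : Matrix ι ι F)}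
        mul_mem' := fun {a b} (ha : Commute M _) (hb : Commute M _) => by
          show Commute M _
          rw [Units.val_mul]
          exact ha.mul_right hb
        one_mem' := by simp
        inv_mem' := fun {a} (ha : Commute M _) => ha.units_inv_right }
    exact fun x hx => (hsup.trans (iSup_le fun i y hy => (hM i y hy : Commute M _)) : N ≤ G) hx
  have hNn : ∀ i, Norms N (T i) := by
    intro i g hg x hx
    have hle' : N ≤ Subgroup.normalizer (T i : Set (GL ι F)) := hsup.trans (iSup_le fun j y hy => by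
      by_cases hij : j = i
      · subst hij; exact Subgroup.le_normalizer hy
      · rw [Subgroup.mem_normalizer_iff]
        intro z
        constructor
        · intro hz
          rwa [hcomm j i hij y hy z hz, mul_inv_cancel_right]
        · intro hz
          have h1 := hcomm j i hij y hy _ hz
          have : z = y * z * y⁻¹ := by
            have h2 : y * (y * z * y⁻¹) * y⁻¹ = y * z * y⁻¹ := by rw [h1, mul_inv_cancel_right]
            calc z = y⁻¹ * (y * z * y⁻¹) * y := by group
              _ = y⁻¹ * (y * (y * z * y⁻¹) * y⁻¹) * y := by rw [h2]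
              _ = y * z * y⁻¹ := by group
          rwa [this])
    exact (Subgroup.mem_normalizer_iff.1 (hle' hg) x).1 hx
  have hother : ∀ i : Fin k, ∃ j, j ≠ i := fun i => by
    by_cases h0 : i.val = 0
    · exact ⟨⟨1, by omega⟩, fun h => by rw [← h] at h0; simp at h0⟩
    · exact ⟨⟨0, by omega⟩, fun h => h0 (by rw [← h])⟩
  -- the algebra of each member
  have hsplit : ∀ i, Split (T i) := by
    intro i
    obtain ⟨j, hji⟩ := hother i
    have hcj : ∀ l, l ≠ i → ∀ x ∈ T l, Com (T i) (x : Matrix ι ι F) := fun l hl x hx y hy => by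
      simpa using congrArg (fun t : GL ι F => (t : Matrix ι ι F)) (hcomm l i hl x hx y hy)
    rcases clifford hN.irr (hNn i) with ⟨t, m, D, hD, -, hDc, hDi⟩ | ⟨K, -, -, hK2, hKc, -, -⟩ | hs | hai
    · exfalso
      let z : Fin t := ⟨0, by have := hD.two_le; omega⟩
      let G : Subgroup (GL ι F) :=
        { carrier := {x | (D z).map (Matrix.toLin' (x : Matrix ι ι F)) = D z}
          mul_mem' := fun {a b} (ha : _ = _) (hb : _ = _) => by
            show Submodule.map (Matrix.toLin' ((a * b : GL ι F) : Matrix ι ι F)) _ = _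
            rw [Units.val_mul, Matrix.toLin'_mul, Submodule.map_comp, hb, ha]
          one_mem' := by simp
          inv_mem' := fun {a} (ha : _ = _) => by
            show Submodule.map (Matrix.toLin' ((a⁻¹ : GL ι F) : Matrix ι ι F)) _ = _
            conv_lhs => rw [← ha]
            rw [← Submodule.map_comp, ← Matrix.toLin'_mul, Units.inv_mul, Matrix.toLin'_one, Submodule.map_id] }
      have hNG : N ≤ G := hsup.trans (iSup_le fun l x hx => by
        apply Submodule.eq_of_le_of_finrank_eq
        · rintro _ ⟨w, hw, rfl⟩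
          rw [Matrix.toLin'_apply]
          by_cases hl : l = i
          · subst hl; exact hDi z x hx w hw
          · exact hDc _ (hcj l hl x hx) z w hw
        · exact (Submodule.equivMapOfInjective _ (map_inj x) _).finrank_eq.symm)
      rcases irr_iff.1 hN.irr (D z) (fun g hg w hw => (hNG hg).le ⟨w, hw, Matrix.toLin'_apply _ _⟩) with h | h
      · have := hD.finrank_eq z
        rw [h, finrank_bot] at this
        exact hD.pos.ne this
      · let o : Fin t := ⟨1, by have := hD.two_le; omega⟩
        have h1 : Disjoint (D o) (D z) := (hD.indep.pairwiseDisjoint) (by simp [o, z, Fin.ext_iff])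
        rw [h, disjoint_top] at h1
        have := hD.finrank_eq o
        rw [h1, finrank_bot] at this
        exact hD.pos.ne this
    · exfalso
      have hsub : K ≤ (⊥ : Subalgebra F (Matrix ι ι F)) := fun k hk => by
        obtain ⟨c, hc⟩ := hN.scalar (hComN k fun l => by
          by_cases hl : l = i
          · subst hl; exact (hKc k hk).1
          · exact fun x hx => ((hKc k hk).2 _ (hcj l hl x hx)).symm)
        rw [hc, ← Algebra.algebraMap_eq_smul_one]
        exact Subalgebra.algebraMap_mem _ c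
      rw [eq_bot_iff.2 hsub, Subalgebra.finrank_bot] at hK2
      omega
    · exact hs
    · exact absurd (fun x hx => hai.mem_scalars fun y hy => hcomm j i hji x hx y hy) (hns j)
  let CO : Fin k → Matrix ι ι F → Prop := fun i M => ∀ j, j ≠ i → Com (T j) M
  have hemb : ∀ i, ∃ (m : ℕ) (φ : Matrix (Fin m) (Fin m) F →ₐ[F] Matrix ι ι F), 2 ≤ m ∧ Function.Injective φ ∧
      (∀ x ∈ T i, ∃ Y, (x : Matrix ι ι F) = φ Y) ∧ (∀ M, CO i M ↔ ∃ Y, M = φ Y) ∧
      ∀ M Y, Com (T i) M → Commute M (φ Y) := by
    intro i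
    obtain ⟨a, b, e, P, hb, hT, hC⟩ := hsplit i
    have hb0 : 0 < b := by omega
    let φ : Matrix (Fin a) (Fin a) F →ₐ[F] Matrix ι ι F :=
      { toFun := fun A => co e P (A ⊗ₖ (1 : Matrix (Fin b) (Fin b) F))
        map_one' := by rw [Matrix.one_kronecker_one, co_one]
        map_mul' := fun A B => by rw [← co_mul, ← Matrix.mul_kronecker_mul, one_mul]
        map_zero' := by rw [Matrix.zero_kronecker, ← zero_smul F (1 : Matrix (Fin a × Fin b) _ F), co_smul, zero_smul]
        map_add' := fun A B => by rw [Matrix.add_kronecker, co_add]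
        commutes' := fun c => by
          rw [Algebra.algebraMap_eq_smul_one, Algebra.algebraMap_eq_smul_one, Matrix.smul_kronecker,
            Matrix.one_kronecker_one, co_smul, co_one] }
    have hφ : ∀ A, φ A = co e P (A ⊗ₖ (1 : Matrix (Fin b) (Fin b) F)) := fun _ => rfl
    have hinj : Function.Injective φ := (co_injective e P).comp (kron_one_right_injective hb0)
    have hcen : ∀ M Y, Com (T i) M → Commute M (φ Y) := fun M Y hM => by
      obtain ⟨B, rfl⟩ := (hC M).1 hM
      show _ * _ = _ * _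
      rw [hφ, ← co_mul, ← co_mul, ← Matrix.mul_kronecker_mul, ← Matrix.mul_kronecker_mul, one_mul, mul_one,
        one_mul, mul_one]
    have hfwd : ∀ x ∈ T i, ∃ Y, (x : Matrix ι ι F) = φ Y := hT
    refine ⟨a, φ, ?_, hinj, hfwd, fun M => ⟨fun hM => ?_, ?_⟩, hcen⟩
    · by_contra hlt
      refine hns i fun x hx => ?_
      obtain ⟨A, hA⟩ := hT x hx
      have ha1 : a = 1 := by
        have := (e (Classical.arbitrary ι)).1.pos
        omega
      subst ha1
      have hA' : A = A 0 0 • (1 : Matrix (Fin 1) (Fin 1) F) := by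
        ext p q; rw [Subsingleton.elim p 0, Subsingleton.elim q 0]; simp
      rw [hA', Matrix.smul_kronecker, Matrix.one_kronecker_one, co_smul, co_one] at hA
      exact (mem_scalars_iff x).2 ⟨Units.mk0 _ fun h0 => x.ne_zero (by rw [hA, h0, zero_smul]), hA⟩
    · obtain ⟨Y, rfl⟩ := co_surjective e P M
      let sl : Fin a → Fin a → Matrix (Fin b) (Fin b) F := fun p p' => Matrix.of fun u v => Y (p, u) (p', v)
      have hsl : ∀ p p', ∃ c : F, sl p p' = c • 1 := by
        intro p p'
        have hcom : ∀ l, Com (T l) (co e P ((1 : Matrix (Fin a) (Fin a) F) ⊗ₖ sl p p')) := by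
          intro l
          by_cases hl : l = i
          · subst hl; exact (hC _).2 ⟨_, rfl⟩
          · intro x hx
            obtain ⟨B, hB⟩ := (hC _).1 (show Com (T i) (x : Matrix ι ι F) from fun y hy => by
              simpa using congrArg (fun t : GL ι F => (t : Matrix ι ι F)) (hcomm l i hl x hx y hy))
            have h1 := hM l hl x hx
            rw [hB, ← co_mul, ← co_mul] at h1
            have h2 := co_injective e P h1
            rw [hB, ← co_mul, ← co_mul, ← Matrix.mul_kronecker_mul, ← Matrix.mul_kronecker_mul]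
            congr 2
            ext u v
            have h3 := congrFun (congrFun h2 (p, u)) (p', v)
            simpa [Matrix.mul_apply, Fintype.sum_prod_type, Matrix.one_apply, sl] using h3
        obtain ⟨c, hc⟩ := hN.scalar (hComN _ hcom)
        refine ⟨c, kron_one_left_injective (a := a) p.pos (co_injective e P ?_)⟩
        show co e P _ = co e P (_ ⊗ₖ (c • 1))
        rw [hc, Matrix.kronecker_smul, Matrix.one_kronecker_one, co_smul, co_one]
      choose c hc using hsl
      refine ⟨Matrix.of c, ?_⟩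
      rw [hφ]
      congr 1
      ext ⟨p, u⟩ ⟨p', v⟩
      have := congrFun (congrFun (hc p p') u) v
      simpa [sl, Matrix.one_apply] using this
    · rintro ⟨Y, rfl⟩ j hj x hx
      exact (hcen _ Y fun y hy => by
        simpa using congrArg (fun t : GL ι F => (t : Matrix ι ι F)) (hcomm j i hj x hx y hy)).eq.symm
  choose a φ ha hinj hTφ hCO hcen using hemb
  -- each element permutes the members
  have hdist : ∀ i j, (∀ x ∈ T i, x ∈ T j) → i = j := fun i j h => by
    by_contra hij
    refine hns i fun x hx => hN.mem_scalars fun y hy => Units.ext ?_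
    simpa using hComN (x : Matrix ι ι F) (fun l => by
      intro z hz
      by_cases hl : l = i
      · subst hl
        simpa using congrArg (fun t : GL ι F => (t : Matrix ι ι F)) (hcomm l j hij z hz x (h x hx)).symm
      · simpa using congrArg (fun t : GL ι F => (t : Matrix ι ι F)) (hcomm l i hl z hz x hx).symm) y hy
  have hpi : ∀ h ∈ H, ∃ σ : Equiv.Perm (Fin k), (∀ i, ∀ x ∈ T i, h * x * h⁻¹ ∈ T (σ i)) ∧
      ∀ i, ∀ x ∈ T (σ i), h⁻¹ * x * h ∈ T i := by
    intro h hh
    choose f hf using hperm h hh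
    choose g hg using hperm h⁻¹ (H.inv_mem hh)
    have hgf : ∀ i, g (f i) = i := fun i => (hdist i (g (f i)) fun x hx => by
      have := hg (f i) _ (hf i x hx)
      simpa [mul_assoc] using this).symm
    refine ⟨Equiv.ofBijective f (Finite.injective_iff_bijective.1 (Function.LeftInverse.injective hgf)), hf,
      fun i x hx => ?_⟩
    have := hg (f i) x hx
    rw [hgf, inv_inv] at this
    exact this
  have hmove : ∀ h ∈ H, ∀ (σ : Equiv.Perm (Fin k)), (∀ i, ∀ x ∈ T i, h * x * h⁻¹ ∈ T (σ i)) →
      (∀ i, ∀ x ∈ T (σ i), h⁻¹ * x * h ∈ T i) → ∀ i Y, ∃ Y', cj h (φ i Y) = φ (σ i) Y' := by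
    intro h _ σ _ hs2 i Y
    refine (hCO _ _).1 fun j hj x hx => ?_
    obtain ⟨l, rfl⟩ := σ.surjective j
    have h1 := (hCO i _).2 ⟨Y, rfl⟩ l (fun e => hj (by rw [e])) _ (hs2 l x hx)
    have h2 := congrArg (cj h) h1
    rw [cj_mul, cj_mul, cj_coe] at h2
    simpa [mul_assoc] using h2
  -- all dimensions agree
  have hdim : ∀ i j, a i ≤ a j := by
    intro i j
    obtain ⟨h, hh, hij⟩ := htrans i j
    obtain ⟨σ, hs1, hs2⟩ := hpi h hh
    have hj : σ i = j := by
      by_contra hne
      obtain ⟨i', hi'⟩ := σ.surjective j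
      have : ∀ x ∈ T i, x ∈ T i' := fun x hx => by
        have := hs2 i' (h * x * h⁻¹) (by rw [hi']; exact hij x hx)
        simpa [mul_assoc] using this
      exact hne (by rw [hdist i i' this, hi'])
    subst hj
    choose Y' hY' using hmove h hh σ hs1 hs2 i
    let L : Matrix (Fin (a i)) (Fin (a i)) F →ₗ[F] Matrix (Fin (a (σ i))) (Fin (a (σ i))) F :=
      { toFun := Y'
        map_add' := fun X Y => hinj _ (by rw [map_add, ← hY', ← hY', ← hY', map_add, cj_add])
        map_smul' := fun c X => hinj _ (by rw [RingHom.id_apply, map_smul, ← hY', ← hY', map_smul, cj_smul]) }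
    have hL : Function.Injective L := fun X Y hXY => hinj i (by
      have := hY' X
      rw [show Y' X = Y' Y from hXY, ← hY' Y] at this
      simpa [cj_inv_cj] using congrArg (cj h⁻¹) this)
    have := LinearMap.finrank_le_finrank_of_injective hL
    simp only [Module.finrank_matrix, Module.finrank_self, mul_one, Fintype.card_fin] at this
    exact Nat.mul_self_le_mul_self_iff.1 this
  obtain ⟨m, hm⟩ : ∃ m, ∀ i, a i = m :=
    ⟨a ⟨0, by omega⟩, fun i => le_antisymm (hdim _ _) (hdim _ _)⟩
  have hre : ∀ i, ∃ ψ : Matrix (Fin m) (Fin m) F →ₐ[F] Matrix ι ι F, Function.Injective ψ ∧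
      (∀ x ∈ T i, ∃ Y, (x : Matrix ι ι F) = ψ Y) ∧ (∀ M, CO i M ↔ ∃ Y, M = ψ Y) ∧
      ∀ M Y, Com (T i) M → Commute M (ψ Y) := by
    intro i
    have h1 : ∃ φ : Matrix (Fin (a i)) (Fin (a i)) F →ₐ[F] Matrix ι ι F, Function.Injective φ ∧
        (∀ x ∈ T i, ∃ Y, (x : Matrix ι ι F) = φ Y) ∧ (∀ M, CO i M ↔ ∃ Y, M = φ Y) ∧
        ∀ M Y, Com (T i) M → Commute M (φ Y) := ⟨φ i, hinj i, hTφ i, hCO i, hcen i⟩
    rw [hm i] at h1
    exact h1
  choose ψ hψinj hψT hψCO hψcen using hre
  have hm2 : 2 ≤ m := hm ⟨0, by omega⟩ ▸ ha _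
  have hψcomm : ∀ i j, i ≠ j → ∀ X Y, Commute (ψ i X) (ψ j Y) := fun i j hij X Y =>
    hψcen j _ Y fun x hx => (hψCO i _).2 ⟨X, rfl⟩ j hij.symm x hx
  obtain ⟨e, P, hco, hpure⟩ := exists_power_coords (by omega) hN.irr T hsup ψ hψcomm hψT
  refine ⟨m, e, P, hm2, fun h hh => ?_, fun i M => (hψCO i M).trans (by simp only [hco])⟩
  obtain ⟨σ, hs1, hs2⟩ := hpi h hh
  have hex : ∀ i Y, ∃ Y', cj h (ψ i Y) = ψ (σ i) Y' := by
    intro i Y
    refine (hψCO _ _).1 fun j hj x hx => ?_
    obtain ⟨l, rfl⟩ := σ.surjective j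
    have h1 := (hψCO i _).2 ⟨Y, rfl⟩ l (fun e => hj (by rw [e])) _ (hs2 l x hx)
    have h2 := congrArg (cj h) h1
    rw [cj_mul, cj_mul, cj_coe] at h2
    simpa [mul_assoc] using h2
  choose f hf using hex
  have hinner : ∀ i, ∃ g : GL (Fin m) F, ∀ Y, f i Y = cj g Y := fun i => exists_inner (f i)
    (fun X Y => hψinj _ (by rw [map_add, ← hf, ← hf, ← hf, map_add, cj_add]))
    (fun c X => hψinj _ (by rw [map_smul, ← hf, ← hf, map_smul, cj_smul]))
    (fun X Y => hψinj _ (by rw [map_mul, ← hf, ← hf, ← hf, map_mul, cj_mul]))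
    (hψinj _ (by rw [← hf, map_one, map_one]; simp [cj]))
    (fun X Y hXY => hψinj i (by
      have := hf i X
      rw [hXY, ← hf i Y] at this
      simpa [cj_inv_cj] using congrArg (cj h⁻¹) this))
  choose g hg using hinner
  let gs : Fin k → GL (Fin m) F := fun j => g (σ.symm j)
  obtain ⟨u, hu, hpu⟩ := hpure gs
  -- the permutation
  have hS : permMat σ * permMat σ.symm = (1 : Matrix (Fin k → Fin m) (Fin k → Fin m) F) ∧
      permMat σ.symm * permMat σ = (1 : Matrix (Fin k → Fin m) (Fin k → Fin m) F) := by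
    have key : ∀ τ : Equiv.Perm (Fin k), permMat τ * permMat τ.symm =
        (1 : Matrix (Fin k → Fin m) (Fin k → Fin m) F) := by
      intro τ
      ext x y
      rw [Matrix.mul_apply, Finset.sum_eq_single (x ∘ τ) (fun w _ hw => by simp [permMat, hw])
        (fun h => absurd (Finset.mem_univ _) h)]
      have : (x ∘ τ) ∘ τ.symm = x := by ext l; simp
      simp [permMat, Matrix.one_apply, this, eq_comm]
    exact ⟨key σ, by simpa using key σ.symm⟩
  let Sg : GL (Fin k → Fin m) F := ⟨permMat σ, permMat σ.symm, hS.1, hS.2⟩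
  let S : GL ι F := ⟨co e P (permMat σ), co e P (permMat σ.symm), by rw [← co_mul, hS.1, co_one],
    by rw [← co_mul, hS.2, co_one]⟩
  have hSmove : ∀ i Y, cj S (ψ i Y) = ψ (σ i) Y := fun i Y => by
    rw [hco, hco, cj]
    show co e P (permMat σ) * co e P (slot i Y) * co e P (permMat σ.symm) = _
    rw [← co_mul, ← co_mul, permMat_mul_slot, mul_assoc, hS.1, mul_one]
  set w := S⁻¹ * u⁻¹ * h with hw
  clear_value w
  obtain ⟨c, hc⟩ := (mem_scalars_iff w).1 (hN.mem_scalars fun x hx => Units.ext (by
    simpa using hComN (w : Matrix ι ι F) (fun i y hy => by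
      obtain ⟨Y, hY⟩ := hψT i y hy
      rw [hY]
      have h1 : cj w (ψ i Y) = ψ i Y := by
        rw [hw, ← cj_cj, ← cj_cj, hf, hg]
        have h2 : cj u (ψ (σ i) Y) = ψ (σ i) (cj (g i) Y) := by rw [hu]; simp [gs]
        rw [← h2, cj_inv_cj, ← hSmove, cj_inv_cj]
      have := congrArg (· * (w : Matrix ι ι F)) h1
      simpa [cj, mul_assoc] using this) x hx))
  let i₀ : Fin k := ⟨0, by omega⟩
  let gs' : Fin k → GL (Fin m) F :=
    Function.update gs i₀ (Units.map (Matrix.scalar (Fin m) : F →+* _).toMonoidHom c * gs i₀)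
  let M : Matrix (Fin k → Fin m) (Fin k → Fin m) F :=
    Matrix.of fun x y => ∏ i, (gs' i : Matrix (Fin m) (Fin m) F) (x i) (y i)
  obtain ⟨u', -, hu'⟩ := hpure gs'
  have hMu : IsUnit M := by
    have h1 := u'.isUnit
    rw [hu', co, cj] at h1
    exact (MulEquiv.isUnit_map (Matrix.reindexAlgEquiv F F e.symm)).1
      ((Units.isUnit_units_mul P _).1 ((Units.isUnit_mul_units _ P⁻¹).1 h1))
  have hmem : hMu.unit * Sg ∈ tensorWreathStandard m k F :=
    Subgroup.mul_mem _ (Subgroup.subset_closure (Or.inl ⟨gs', fun x y => rfl⟩))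
      (Subgroup.subset_closure (Or.inr ⟨σ, fun x y => rfl⟩))
  refine ⟨glReindex e.symm (hMu.unit * Sg), ⟨_, hmem, rfl⟩, Units.ext ?_⟩
  show co e P (M * permMat σ) = (h : Matrix ι ι F)
  rw [co_mul, ← hu']
  have hMc : (u' : Matrix ι ι F) = (c : F) • (u : Matrix ι ι F) := by
    rw [hu', hpu, ← co_smul]
    congr 1
    ext x y
    simp only [gs', Matrix.of_apply, Matrix.smul_apply, smul_eq_mul]
    rw [← Finset.mul_prod_erase _ _ (Finset.mem_univ i₀), ← Finset.mul_prod_erase _ (fun i => (gs i :
      Matrix (Fin m) (Fin m) F) (x i) (y i)) (Finset.mem_univ i₀), Function.update_self, ← mul_assoc]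
    congr 1
    · simp [Matrix.scalar_apply]
    · exact Finset.prod_congr rfl fun i hi => by rw [Function.update_of_ne (Finset.ne_of_mem_erase hi)]
  rw [hMc, show co e P (permMat σ) = (S : Matrix ι ι F) from rfl]
  have : h = u * S * w := by rw [hw]; group
  rw [this, Units.val_mul, Units.val_mul, hc, Matrix.mul_smul, mul_one, Matrix.smul_mul]

end Cfsg.Agent.Classical.Asch
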