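import Cfsg.Agent.Lib.Classical.AschEvenProper
import Cfsg.Agent.Lib.Classical.AschSpShape
import Cfsg.Agent.Lib.Classical.AschNonMaxTensor

/-!
Over two elements a tensor product with a symplectic plane is not maximal: it normalises a cyclic group of order three.
-/

set_option autoImplicit false
set_option linter.unusedSectionVars false
set_option linter.unusedFintypeInType false
set_option linter.unusedDecidableInType false
set_option quotPrecheck false

namespace Cfsg.Agent.Classical.AschOrthTwo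

open Matrix Module Cfsg.Geo OrthAut
open scoped Kronecker

variable {F : Type*} [Field F] [Fintype F] {ι : Type} [Fintype ι] [DecidableEq ι] {Q : QuadraticForm F (ι → F)}

local notation "B" => QuadraticMap.polar ⇑Q
local notation "Mn" => Matrix ι ι F

/-- The roots of `X² + X + 1` among two by two matrices over two elements. -/
theorem binary_order_three (h01 : ∀ x : F, x = 0 ∨ x = 1) (h2 : (2 : F) = 0) {X : Matrix (Fin 2) (Fin 2) F}
    (hX : X * X + X + 1 = 0) : X = !![0, 1; 1, 1] ∨ X = !![1, 1; 1, 0] := by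
  have h11 : (1 : F) + 1 = 0 := by linear_combination h2
  obtain ⟨a, b, c, d, rfl⟩ : ∃ a b c d, X = !![a, b; c, d] := ⟨_, _, _, _, Matrix.eta_fin_two X⟩
  have e00 := congrFun (congrFun hX 0) 0
  have e01 := congrFun (congrFun hX 0) 1
  have e10 := congrFun (congrFun hX 1) 0
  have e11 := congrFun (congrFun hX 1) 1
  simp at e00 e01 e10 e11
  rcases h01 a with rfl | rfl <;> rcases h01 b with rfl | rfl <;> rcases h01 c with rfl | rfl <;>
    rcases h01 d with rfl | rfl <;> simp [h11] at e00 e01 e10 e11 ⊢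

set_option maxHeartbeats 1000000 in
/-- The stabiliser of a tensor product with a plane is not maximal over two elements. -/
theorem tensor_binary_not_maximal (hQ : (QuadraticMap.polarBilin Q).Nondegenerate) (h7 : 7 ≤ Fintype.card ι)
    (hq : Fintype.card F = 2) {b : ℕ} (hb : 3 ≤ b) (e : ι ≃ Fin 2 × Fin b) (P : GL ι F)
    {f₁ : (Fin 2 → F) → (Fin 2 → F) → F} {f₂ : (Fin b → F) → (Fin b → F) → F}
    (hf₁ : IsSymplecticForm f₁) (hf₂ : IsSymplecticForm f₂)
    (hst : IsTensorFormStructure id (QuadraticMap.polar ⇑Q) f₁ f₂ e P)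
    (hpure : ∀ (y : Fin 2 → F) (z : Fin b → F), Q ((P : Mn) *ᵥ ((fun p : Fin 2 × Fin b => y p.1 * z p.2) ∘ e)) = 0) :
    ∃ K : Subgroup (GL ι F), tensorProductSubgroup 2 b e P ⊓ Geo.omegaGL ⇑Q < K ∧ K < Geo.omegaGL ⇑Q := by
  classical
  have hcast : ((2 : ℕ) : F) = 0 := hq ▸ FiniteField.cast_card_eq_zero F
  have h2 : (2 : F) = 0 := by exact_mod_cast hcast
  have h11 : (1 : F) + 1 = 0 := by linear_combination h2
  have h01 : ∀ x : F, x = 0 ∨ x = 1 := fun x => by
    rcases eq_or_ne x 0 with h | h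
    · exact Or.inl h
    · have h1 := FiniteField.pow_card_sub_one_eq_one x h
      rw [hq, pow_one] at h1
      exact Or.inr h1
  obtain ⟨c, hc, hcf⟩ := hst
  have hs₁ := Asch.sesq_of_bilinear hf₁.bilinear
  have hs₂ := Asch.sesq_of_bilinear hf₂.bilinear
  let T : (Fin 2 → F) → (Fin b → F) → (ι → F) := fun y z =>
    (P : Mn) *ᵥ ((fun p : Fin 2 × Fin b => y p.1 * z p.2) ∘ e)
  have hT : ∀ y z y' z', B (T y z) (T y' z') = c * (f₁ y y' * f₂ z z') := fun y z y' z' => by
    simp only [T]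
    rw [hcf, hs₁.eq_gram, hs₂.eq_gram, Asch.formOfGram_tmul]; rfl
  have hTinj : ∀ y z y' z', T y z = T y' z' → ∀ i j, y i * z j = y' i * z' j := fun y z y' z' h i j => by
    have h1 := congrFun (MaxTv.gl_mulVec_injective P h) (e.symm (i, j))
    simpa using h1
  -- the element of order three
  let A : GL (Fin 2) F := ⟨!![0, 1; 1, 1], !![1, 1; 1, 0], by
    ext i j; fin_cases i <;> fin_cases j <;> simp [h11], by
    ext i j; fin_cases i <;> fin_cases j <;> simp [h11]⟩
  let κ : GL ι F := ⟨Asch.co e P ((A : Matrix (Fin 2) (Fin 2) F) ⊗ₖ (1 : Matrix (Fin b) (Fin b) F)),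
    Asch.co e P (((A⁻¹ : GL (Fin 2) F) : Matrix (Fin 2) (Fin 2) F) ⊗ₖ (1 : Matrix (Fin b) (Fin b) F)), by
      rw [← Asch.co_mul, ← Matrix.mul_kronecker_mul, Units.mul_inv, one_mul, Matrix.one_kronecker_one, Asch.co_one],
    by rw [← Asch.co_mul, ← Matrix.mul_kronecker_mul, Units.inv_mul, one_mul, Matrix.one_kronecker_one, Asch.co_one]⟩
  have hcoT : ∀ (X : Matrix (Fin 2) (Fin 2) F) (Y : Matrix (Fin b) (Fin b) F) y z,
      Asch.co e P (X ⊗ₖ Y) *ᵥ T y z = T (X *ᵥ y) (Y *ᵥ z) := by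
    intro X Y y z
    have h1 := Asch.coords_mulVec e P (X ⊗ₖ Y) (T y z)
    have h4 : ∀ y z, ((((P⁻¹ : GL ι F) : Mn) *ᵥ T y z)) ∘ e.symm = fun p : Fin 2 × Fin b => y p.1 * z p.2 :=
      fun y z => by
        simp only [T]
        rw [Matrix.mulVec_mulVec, Units.inv_mul, Matrix.one_mulVec]
        funext p; simp
    rw [h4, Asch.kron_mulVec_tmul, ← h4] at h1
    refine MaxTv.gl_mulVec_injective P⁻¹ ?_
    funext i
    have h5 := congrFun h1 (e i)
    simpa only [Function.comp_apply, Equiv.symm_apply_apply] using h5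
  have hκT : ∀ y z, (κ : Mn) *ᵥ T y z = T ((A : Matrix (Fin 2) (Fin 2) F) *ᵥ y) z := fun y z => by
    show Asch.co e P _ *ᵥ _ = _
    rw [hcoT, Matrix.one_mulVec]
  -- pure tensors span
  have hspan : ∀ p : Submodule F (ι → F), (∀ y z, T y z ∈ p) → ∀ v, v ∈ p := by
    intro p hp v
    have hv : v = ∑ q : Fin 2 × Fin b, ((((P⁻¹ : GL ι F) : Mn) *ᵥ v) (e.symm q)) •
        T (Pi.single q.1 1) (Pi.single q.2 1) := by
      simp only [T, ← Matrix.mulVec_smul, ← Matrix.mulVec_sum]
      refine MaxTv.gl_mulVec_injective P⁻¹ ?_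
      show ((P⁻¹ : GL ι F) : Mn) *ᵥ v = _ *ᵥ _
      rw [Matrix.mulVec_mulVec _ _ (P : Mn), Units.inv_mul, Matrix.one_mulVec]
      funext i
      rw [Finset.sum_apply, Finset.sum_eq_single (e i)]
      · simp
      · intro q _ hq'
        simp only [Pi.smul_apply, Function.comp_apply, smul_eq_mul]
        by_cases h1 : (e i).1 = q.1
        · have h2' : (e i).2 ≠ q.2 := fun h2' => hq' (Prod.ext h1 h2').symm
          rw [Pi.single_eq_of_ne h2']; ring
        · rw [Pi.single_eq_of_ne h1]; ring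
      · simp
    rw [hv]
    exact p.sum_mem fun q _ => p.smul_mem _ (hp _ _)
  have hf₁A : ∀ y y', f₁ ((A : Matrix (Fin 2) (Fin 2) F) *ᵥ y) ((A : Matrix (Fin 2) (Fin 2) F) *ᵥ y') = f₁ y y' := by
    intro y y'
    have hG : ∀ y y', f₁ y y' = y 0 * y' 1 * f₁ (Pi.single 0 1) (Pi.single 1 1) -
        y 1 * y' 0 * f₁ (Pi.single 0 1) (Pi.single 1 1) := by
      intro y y'
      have hskew : f₁ (Pi.single 1 1) (Pi.single 0 1) = -f₁ (Pi.single 0 1) (Pi.single 1 1) := by
        have h := hf₁.alternating (Pi.single 1 1 + Pi.single 0 1)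
        rw [hf₁.bilinear.add_left, hf₁.bilinear.add_right, hf₁.bilinear.add_right, hf₁.alternating,
          hf₁.alternating] at h
        linear_combination h
      rw [show y = y 0 • Pi.single 0 1 + y 1 • Pi.single 1 1 by funext i; fin_cases i <;> simp,
        show y' = y' 0 • Pi.single 0 1 + y' 1 • Pi.single 1 1 by funext i; fin_cases i <;> simp]
      simp only [hf₁.bilinear.add_left, hf₁.bilinear.add_right, hf₁.bilinear.smul_left, hf₁.bilinear.smul_right,
        hf₁.alternating, hskew]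
      simp
      ring
    rw [hG, hG y y']
    simp [A, Matrix.vecHead, Matrix.vecTail]
    linear_combination -(f₁ (Pi.single 0 1) (Pi.single 1 1)) * (y 0 * y' 1 - y 1 * y' 0) * h2
  have hκB : ∀ x x', B ((κ : Mn) *ᵥ x) ((κ : Mn) *ᵥ x') = B x x' := by
    intro x
    let p₁ : Submodule F (ι → F) :=
      { carrier := {x | ∀ x', B ((κ : Mn) *ᵥ x) ((κ : Mn) *ᵥ x') = B x x'}
        add_mem' := fun ha hb x' => by
          rw [Matrix.mulVec_add, QuadraticMap.polar_add_left, QuadraticMap.polar_add_left, ha, hb]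
        zero_mem' := fun x' => by rw [Matrix.mulVec_zero, QuadraticMap.polar_zero_left, QuadraticMap.polar_zero_left]
        smul_mem' := fun s a ha x' => by
          rw [Matrix.mulVec_smul, QuadraticMap.polar_smul_left, QuadraticMap.polar_smul_left, ha] }
    refine hspan p₁ (fun y z => ?_) x
    let p₂ : Submodule F (ι → F) :=
      { carrier := {x' | B ((κ : Mn) *ᵥ T y z) ((κ : Mn) *ᵥ x') = B (T y z) x'}
        add_mem' := fun {a a'} (ha : _ = _) (hb : _ = _) => by
          show _ = _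
          rw [Matrix.mulVec_add, QuadraticMap.polar_add_right, QuadraticMap.polar_add_right, ha, hb]
        zero_mem' := by
          show _ = _
          rw [Matrix.mulVec_zero, QuadraticMap.polar_zero_right, QuadraticMap.polar_zero_right]
        smul_mem' := fun s a (ha : _ = _) => by
          show _ = _
          rw [Matrix.mulVec_smul, QuadraticMap.polar_smul_right, QuadraticMap.polar_smul_right, ha] }
    exact hspan p₂ fun y' z' => show _ = _ by rw [hκT, hκT, hT, hT, hf₁A]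
  have hκQ : ∀ x, Q ((κ : Mn) *ᵥ x) = Q x := by
    let p : Submodule F (ι → F) :=
      { carrier := {x | Q ((κ : Mn) *ᵥ x) = Q x}
        add_mem' := fun {a a'} (ha : _ = _) (hb : _ = _) => by
          show _ = _
          rw [Matrix.mulVec_add, OrthAut.quad_add, OrthAut.quad_add, ha, hb, hκB]
        zero_mem' := by show _ = _; rw [Matrix.mulVec_zero]
        smul_mem' := fun s a (ha : _ = _) => by
          show _ = _
          rw [Matrix.mulVec_smul, QuadraticMap.map_smul, QuadraticMap.map_smul, ha] }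
    exact hspan p fun y z => show _ = _ by rw [hκT, hpure, hpure]
  have hA2 : (A : Matrix (Fin 2) (Fin 2) F) * A = (A : Matrix (Fin 2) (Fin 2) F) + 1 := by
    ext i j; fin_cases i <;> fin_cases j <;> simp [A, h11]
  have hκ2 : ∀ x, (κ : Mn) *ᵥ ((κ : Mn) *ᵥ x) = (κ : Mn) *ᵥ x + x := by
    let p : Submodule F (ι → F) :=
      { carrier := {x | (κ : Mn) *ᵥ ((κ : Mn) *ᵥ x) = (κ : Mn) *ᵥ x + x}
        add_mem' := fun {a a'} (ha : _ = _) (hb : _ = _) => by
          show _ = _
          rw [Matrix.mulVec_add, Matrix.mulVec_add, ha, hb]; abel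
        zero_mem' := by show _ = _; simp
        smul_mem' := fun s a (ha : _ = _) => by
          show _ = _
          rw [Matrix.mulVec_smul, Matrix.mulVec_smul, ha, smul_add] }
    refine hspan p fun y z => show _ = _ from ?_
    rw [hκT, hκT, Matrix.mulVec_mulVec, hA2, Matrix.add_mulVec, Matrix.one_mulVec]
    simp only [T, ← Matrix.mulVec_add]
    congr 1
    funext i
    simp [add_mul]
  let M : Subgroup (GL ι F) := Subgroup.normalizer (Subgroup.zpowers κ : Set (GL ι F))
  -- data for the Siegel elements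
  let B₂ : LinearMap.BilinForm F (Fin b → F) := LinearMap.mk₂ F f₂ hf₂.bilinear.add_left
    (fun c x v => hf₂.bilinear.smul_left c x v) hf₂.bilinear.add_right (fun c v x => hf₂.bilinear.smul_right c v x)
  obtain ⟨w₁, hw₁⟩ : ∃ w : Fin b → F, w ≠ 0 := ⟨Pi.single ⟨0, by omega⟩ 1, by simp⟩
  obtain ⟨w₂, hw12, hw₂s⟩ : ∃ z, f₂ w₁ z = 0 ∧ z ∉ F ∙ w₁ := by
    by_contra hno
    push Not at hno
    have h1 := Submodule.finrank_mono (show LinearMap.ker (B₂ w₁) ≤ F ∙ w₁ from fun v hv => hno v hv)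
    have h2' := (B₂ w₁).finrank_range_add_finrank_ker
    have h3' := Submodule.finrank_le (LinearMap.range (B₂ w₁))
    rw [Module.finrank_fintype_fun_eq_card, Fintype.card_fin] at h2'
    rw [finrank_self] at h3'
    rw [finrank_span_singleton hw₁] at h1
    omega
  obtain ⟨w₃, hw13, hw23⟩ : ∃ z, f₂ w₁ z = 1 ∧ f₂ w₂ z = 0 := by
    by_contra hno
    push Not at hno
    apply hw₂s
    have hB1 : ∀ z, f₂ w₂ z = 0 → f₂ w₁ z = 0 := fun z hz => by
      rcases h01 (f₂ w₁ z) with h | h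
      · exact h
      · exact absurd hz (hno z h)
    obtain ⟨s, hs⟩ : ∃ s, f₂ w₂ s = 1 := by
      obtain ⟨s, hs⟩ := (hf₂.nondegenerate w₂ (fun h => hw₂s (h ▸ zero_mem _))).2
      exact ⟨s, (h01 _).resolve_left hs⟩
    have key : w₁ = f₂ w₁ s • w₂ := by
      by_contra hne
      obtain ⟨z, hz⟩ := (hf₂.nondegenerate _ (sub_ne_zero.2 hne)).2
      apply hz
      show B₂ (w₁ - f₂ w₁ s • w₂) z = 0
      rw [map_sub, map_smul, LinearMap.sub_apply, LinearMap.smul_apply, smul_eq_mul]
      show f₂ w₁ z - f₂ w₁ s * f₂ w₂ z = 0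
      rcases h01 (f₂ w₂ z) with h | h
      · rw [h, hB1 z h]; ring
      · have h5 := hB1 (z - s) (by
          show B₂ w₂ (z - s) = 0
          rw [map_sub]
          show f₂ w₂ z - f₂ w₂ s = 0
          rw [h, hs, sub_self])
        change B₂ w₁ (z - s) = 0 at h5
        rw [map_sub] at h5
        change f₂ w₁ z - f₂ w₁ s = 0 at h5
        rw [h, mul_one, h5]
    rcases h01 (f₂ w₁ s) with h | h
    · rw [h, zero_smul] at key; exact absurd key hw₁
    · rw [h, one_smul] at key; exact key ▸ Submodule.mem_span_singleton_self _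
  let u₀ : Fin 2 → F := ![1, 0]
  let u₁ : Fin 2 → F := ![0, 1]
  have hAu₀ : (A : Matrix (Fin 2) (Fin 2) F) *ᵥ u₀ = u₁ := by
    funext i; fin_cases i <;> simp [A, u₀, u₁]
  have hu01 : f₁ u₀ u₁ ≠ 0 := fun h0 => by
    have hu : u₀ ≠ 0 := fun h => by simpa [u₀] using congrFun h 0
    obtain ⟨y, hy⟩ := (hf₁.nondegenerate u₀ hu).2
    apply hy
    rw [show y = y 0 • u₀ + y 1 • u₁ by funext i; fin_cases i <;> simp [u₀, u₁], hf₁.bilinear.add_right,
      hf₁.bilinear.smul_right, hf₁.bilinear.smul_right, hf₁.alternating, h0]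
    simp
  have hc1 : c = 1 := (h01 c).resolve_left hc
  have hT3 := tri_of_card hQ h7
  refine Asch.exists_between (M := M) (fun g hg => ?_) ?_ fun hall => ?_
  · -- tensor elements normalise
    obtain ⟨⟨_, ⟨k, ⟨A', A₂, hk⟩, rfl⟩, hgk⟩, -⟩ := hg
    have hgco : (g : Mn) = Asch.co e P ((A' : Matrix (Fin 2) (Fin 2) F) ⊗ₖ (A₂ : Matrix (Fin b) (Fin b) F)) := by
      rw [← hgk, ← hk]
      rfl
    set X := (A' : Matrix (Fin 2) (Fin 2) F) * A * ((A'⁻¹ : GL (Fin 2) F) : Matrix (Fin 2) (Fin 2) F) with hX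
    have hgi : ((g⁻¹ : GL ι F) : Mn) =
        Asch.co e P (((A'⁻¹ : GL (Fin 2) F) : Matrix (Fin 2) (Fin 2) F) ⊗ₖ ((A₂⁻¹ : GL (Fin b) F) : Matrix (Fin b) (Fin b) F)) := by
      refine left_inv_eq_right_inv (a := (g : Mn)) (Units.inv_mul g) ?_
      rw [hgco, ← Asch.co_mul, ← Matrix.mul_kronecker_mul, Units.mul_inv, Units.mul_inv, Matrix.one_kronecker_one,
        Asch.co_one]
    have hconj : ((g * κ * g⁻¹ : GL ι F) : Mn) = Asch.co e P (X ⊗ₖ (1 : Matrix (Fin b) (Fin b) F)) := by
      rw [Units.val_mul, Units.val_mul, hgco, hgi]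
      show _ * Asch.co e P _ * _ = _
      rw [← Asch.co_mul, ← Asch.co_mul, ← Matrix.mul_kronecker_mul, ← Matrix.mul_kronecker_mul, mul_one,
        Units.mul_inv, hX]
    have hXX : X * X + X + 1 = 0 := by
      have h0 : (A : Matrix (Fin 2) (Fin 2) F) * A + A + 1 = 0 := by
        ext i j; fin_cases i <;> fin_cases j <;> simp [A, h11]
      have h1 : X * X = (A' : Matrix (Fin 2) (Fin 2) F) * ((A : Matrix (Fin 2) (Fin 2) F) * A) *
          ((A'⁻¹ : GL (Fin 2) F) : Matrix (Fin 2) (Fin 2) F) := by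
        rw [hX]; simp only [mul_assoc, Units.inv_mul_cancel_left]
      rw [h1, hX]
      calc _ = (A' : Matrix (Fin 2) (Fin 2) F) * ((A : Matrix (Fin 2) (Fin 2) F) * A + A + 1) *
            ((A'⁻¹ : GL (Fin 2) F) : Matrix (Fin 2) (Fin 2) F) := by
            rw [mul_add, mul_add, add_mul, add_mul, mul_one, Units.mul_inv]
        _ = 0 := by rw [h0, mul_zero, zero_mul]
    show g ∈ Subgroup.normalizer _
    have hmem : ∀ n ∈ Subgroup.zpowers κ, g * n * g⁻¹ ∈ Subgroup.zpowers κ := by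
      rintro n ⟨i, rfl⟩
      show g * κ ^ i * g⁻¹ ∈ _
      rw [← conj_zpow]
      refine Subgroup.zpow_mem _ ?_ i
      rcases binary_order_three h01 h2 hXX with h | h
      · rw [show g * κ * g⁻¹ = κ from Units.ext (by rw [hconj, h])]
        exact Subgroup.mem_zpowers κ
      · rw [show g * κ * g⁻¹ = κ⁻¹ from Units.ext (by rw [hconj, h]; rfl)]
        exact inv_mem (Subgroup.mem_zpowers κ)
    exact Subgroup.mem_normalizer_iff_map_conj_eq.2 (Subgroup.eq_of_le_of_card_ge (by
      rintro _ ⟨n, hn, rfl⟩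
      exact hmem n hn) (by rw [Subgroup.card_map_of_injective (MulAut.conj g).injective]))
  · -- a unitary element
    set a := T u₀ w₁ + T u₁ w₂ with ha
    set a' := (κ : Mn) *ᵥ a with ha'
    have hTB0 : ∀ y y', B (T y w₁) (T y' w₂) = 0 := fun y y' => by rw [hT, hw12, mul_zero, mul_zero]
    have hQT : ∀ y z, Q (T y z) = 0 := fun y z => hpure y z
    have hQa : Q a = 0 := by rw [ha, OrthAut.quad_add, hQT, hQT, hTB0]; simp
    have hQa' : Q a' = 0 := by rw [ha', hκQ, hQa]
    have haa' : B a a' = 0 := by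
      rw [ha', ha, Matrix.mulVec_add, hκT, hκT]
      simp only [QuadraticMap.polar_add_left, QuadraticMap.polar_add_right, hTB0,
        QuadraticMap.polar_comm _ (T _ w₂) (T _ w₁)]
      rw [hT, hT, hf₂.alternating, hf₂.alternating]
      simp
    obtain ⟨g, hg, hgx⟩ := exists_siegel hQ hT3 hQa haa'
    have hgx' : ∀ x, (g : Mn) *ᵥ x = x + B a x • a' - B a' x • a := fun x => by
      rw [hgx, hQa', zero_mul, zero_smul, sub_zero]
    refine ⟨g, ⟨?_, hg⟩, fun h => ?_⟩
    · have hcomm : g * κ = κ * g := by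
        refine Units.ext (Matrix.ext_iff_mulVec.2 fun x => ?_)
        rw [Units.val_mul, Units.val_mul, ← Matrix.mulVec_mulVec, ← Matrix.mulVec_mulVec, hgx', hgx',
          Matrix.mulVec_sub, Matrix.mulVec_add, Matrix.mulVec_smul, Matrix.mulVec_smul, ha', hκ2, hκB]
        have h1 : B a ((κ : Mn) *ᵥ x) = B ((κ : Mn) *ᵥ a) x + B a x := by
          have := hκB ((κ : Mn) *ᵥ a) x
          rw [hκ2, QuadraticMap.polar_add_left] at this
          rw [hκB] at this
          linear_combination this - (B a x) * h2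
        rw [h1]
        match_scalars
        all_goals first
          | ring1
          | linear_combination (B ((κ : Mn) *ᵥ a) x) * h2
          | linear_combination -(B ((κ : Mn) *ᵥ a) x) * h2
          | linear_combination (B a x) * h2
          | linear_combination -(B a x) * h2
      refine Subgroup.mem_normalizer_iff_map_conj_eq.2 (Subgroup.eq_of_le_of_card_ge ?_
        (by rw [Subgroup.card_map_of_injective (MulAut.conj g).injective]))
      rintro _ ⟨_, ⟨i, rfl⟩, rfl⟩
      show g * κ ^ i * g⁻¹ ∈ _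
      rw [← conj_zpow, hcomm, mul_inv_cancel_right]
      exact ⟨i, rfl⟩
    · obtain ⟨_, ⟨k, ⟨A', A₂, hk⟩, rfl⟩, hgk⟩ := h
      have hgco : (g : Mn) = Asch.co e P ((A' : Matrix (Fin 2) (Fin 2) F) ⊗ₖ (A₂ : Matrix (Fin b) (Fin b) F)) := by
        rw [← hgk, ← hk]
        rfl
      have hgT : ∀ y z, (g : Mn) *ᵥ T y z =
          T ((A' : Matrix (Fin 2) (Fin 2) F) *ᵥ y) ((A₂ : Matrix (Fin b) (Fin b) F) *ᵥ z) := fun y z => by
        rw [hgco, hcoT]
      have hfix : ∀ y, (g : Mn) *ᵥ T y w₁ = T y w₁ := fun y => by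
        have h0 : ∀ y', B (T y' w₁) (T y w₁) = 0 ∧ B (T y' w₂) (T y w₁) = 0 := fun y' =>
          ⟨by rw [hT, hf₂.alternating, mul_zero, mul_zero], by rw [QuadraticMap.polar_comm, hTB0]⟩
        rw [hgx', ha', ha, Matrix.mulVec_add, hκT, hκT]
        simp [QuadraticMap.polar_add_left, h0]
      obtain ⟨j, hj⟩ := Function.ne_iff.1 hw₁
      have hw1j : w₁ j = 1 := (h01 _).resolve_left hj
      have hA1 : ∀ y, (A' : Matrix (Fin 2) (Fin 2) F) *ᵥ y = y := by
        intro y
        funext i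
        have h1 := hTinj _ _ _ _ ((hgT _ _).symm.trans (hfix y)) i j
        rw [hw1j, mul_one] at h1
        rcases h01 (((A₂ : Matrix (Fin b) (Fin b) F) *ᵥ w₁) j) with h | h
        · exfalso
          have h3 := hTinj _ _ _ _ ((hgT _ _).symm.trans (hfix u₀)) 0 j
          rw [h, mul_zero, hw1j, mul_one] at h3
          simp [u₀] at h3
        · rwa [h, mul_one] at h1
      have h5 := hgT u₀ w₃
      rw [hA1, hgx', ha'] at h5
      have hBa : B a (T u₀ w₃) = 0 := by
        rw [ha, QuadraticMap.polar_add_left, hT, hT, hw23, hf₁.alternating]; simp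
      have hBa' : B ((κ : Mn) *ᵥ a) (T u₀ w₃) = c * f₁ u₁ u₀ := by
        rw [ha, Matrix.mulVec_add, hκT, hκT, QuadraticMap.polar_add_left, hT, hT, hw23, hw13, hAu₀]; simp
      rw [hBa, hBa', zero_smul, add_zero] at h5
      have h10 : c * f₁ u₁ u₀ = 1 := (h01 _).resolve_left (mul_ne_zero hc (fun h0 => hu01 (by
        have h := hf₁.alternating (u₀ + u₁)
        rw [hf₁.bilinear.add_left, hf₁.bilinear.add_right, hf₁.bilinear.add_right, hf₁.alternating,
          hf₁.alternating, h0] at h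
        simpa using h)))
      rw [h10, one_smul] at h5
      have h6 := congrFun (MaxTv.gl_mulVec_injective P (show (P : Mn) *ᵥ ((fun p : Fin 2 × Fin b =>
          u₀ p.1 * w₃ p.2) ∘ e - ((fun p : Fin 2 × Fin b => u₀ p.1 * w₁ p.2) ∘ e +
            (fun p : Fin 2 × Fin b => u₁ p.1 * w₂ p.2) ∘ e)) = _ by
        rw [Matrix.mulVec_sub, Matrix.mulVec_add]; exact h5))
      obtain ⟨j', hj'⟩ := Function.ne_iff.1 (show w₂ ≠ 0 from fun h => hw₂s (h ▸ zero_mem _))
      have h7' := h6 (e.symm (1, j'))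
      simp [u₀, u₁] at h7'
      exact hj' h7'
  · obtain ⟨g, hg, hgx⟩ := exists_siegel hQ hT3 (hpure u₀ w₁)
      (show B (T u₀ w₁) (T u₀ w₂) = 0 by rw [hT, hw12, mul_zero, mul_zero])
    have hgx' : ∀ x, (g : Mn) *ᵥ x = x + B (T u₀ w₁) x • T u₀ w₂ - B (T u₀ w₂) x • T u₀ w₁ := fun x => by
      have := hgx x
      rw [show Q (T u₀ w₂) = 0 from hpure _ _, zero_mul, zero_smul, sub_zero] at this
      exact this
    have h1 : g * κ * g⁻¹ ∈ Subgroup.zpowers κ :=
      (Subgroup.mem_normalizer_iff.1 (hall hg) κ).1 (Subgroup.mem_zpowers κ)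
    obtain ⟨i, hi⟩ := h1
    have hκ3 : κ ^ (3 : ℤ) = 1 := by
      refine Units.ext (Matrix.ext_iff_mulVec.2 fun x => ?_)
      rw [show (3 : ℤ) = ((3 : ℕ) : ℤ) from rfl, zpow_natCast, pow_succ, pow_two, Units.val_mul, Units.val_mul,
        ← Matrix.mulVec_mulVec, ← Matrix.mulVec_mulVec, hκ2, hκ2, Units.val_one, Matrix.one_mulVec]
      rw [show (κ : Mn) *ᵥ x + x + (κ : Mn) *ᵥ x = x + ((2 : F) • ((κ : Mn) *ᵥ x)) by rw [two_smul]; abel, h2,
        zero_smul, add_zero]
    have hdec : κ ^ i = 1 ∨ κ ^ i = κ ∨ κ ^ i = κ * κ := by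
      have h3 : κ ^ i = κ ^ (i % 3) := by
        conv_lhs => rw [← Int.emod_add_mul_ediv i 3, _root_.zpow_add, _root_.zpow_mul, hκ3, _root_.one_zpow, mul_one]
      have := Int.emod_nonneg i (show (3 : ℤ) ≠ 0 by norm_num)
      have := Int.emod_lt_of_pos i (show (0 : ℤ) < 3 by norm_num)
      rcases (by omega : i % 3 = 0 ∨ i % 3 = 1 ∨ i % 3 = 2) with h | h | h <;> rw [h3, h]
      · left; rw [zpow_zero]
      · right; left; rw [zpow_one]
      · right; right; rw [show (2 : ℤ) = ((2 : ℕ) : ℤ) from rfl, zpow_natCast, pow_two]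
    have hgk : ∀ x, (g : Mn) *ᵥ ((κ : Mn) *ᵥ x) = ((κ ^ i : GL ι F) : Mn) *ᵥ ((g : Mn) *ᵥ x) := fun x => by
      show _ = _
      rw [show (κ ^ i : GL ι F) = g * κ * g⁻¹ from hi, Matrix.mulVec_mulVec, Matrix.mulVec_mulVec, ← Units.val_mul,
        ← Units.val_mul, inv_mul_cancel_right]
    -- test vectors
    have hfix : ∀ y, (g : Mn) *ᵥ T y w₁ = T y w₁ := fun y => by
      rw [hgx', hT, hT, hf₂.alternating, show f₂ w₂ w₁ = 0 from by
        have h := hf₂.alternating (w₁ + w₂)
        rw [hf₂.bilinear.add_left, hf₂.bilinear.add_right, hf₂.bilinear.add_right, hf₂.alternating,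
          hf₂.alternating, hw12] at h
        simpa using h]
      simp
    have hne : T u₀ w₁ ≠ T u₁ w₁ := fun h => by
      obtain ⟨j, hj⟩ := Function.ne_iff.1 hw₁
      have := hTinj _ _ _ _ h 0 j
      simp [u₀, u₁] at this
      exact hj this
    rcases hdec with h | h | h
    · have h4 := hgk (T u₀ w₁)
      rw [h, hκT, hAu₀, hfix, hfix, Units.val_one, Matrix.one_mulVec] at h4
      exact hne h4.symm
    · have h4 := hgk (T u₁ w₃)
      rw [h, hκT, hgx', hgx', Matrix.mulVec_sub, Matrix.mulVec_add, Matrix.mulVec_smul, Matrix.mulVec_smul, hκT, hκT,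
        hκT, hT, hT, hT, hT, hw13, hw23, hAu₀] at h4
      simp only [mul_zero, mul_one, zero_smul, sub_zero, add_right_inj, hc1, one_mul] at h4
      rw [(h01 (f₁ u₀ u₁)).resolve_left hu01, one_smul] at h4
      have hj' : ∀ j, (f₁ u₀ ((A : Matrix (Fin 2) (Fin 2) F) *ᵥ u₁)) • T u₀ w₂ = T u₁ w₂ → w₂ j = 0 := fun j h => by
        rcases h01 (f₁ u₀ ((A : Matrix (Fin 2) (Fin 2) F) *ᵥ u₁)) with h' | h'
        · rw [h', zero_smul] at h
          have := congrFun (MaxTv.gl_mulVec_injective P (show (P : Mn) *ᵥ 0 = (P : Mn) *ᵥ ((fun p : Fin 2 × Fin b => u₁ p.1 * w₂ p.2) ∘ e) by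
            rw [Matrix.mulVec_zero]; exact h)) (e.symm (1, j))
          simp [u₁] at this
          exact this.symm
        · rw [h', one_smul] at h
          have := hTinj _ _ _ _ h 1 j
          simp [u₀, u₁] at this
          exact this.symm
      exact hw₂s ((show w₂ = 0 from funext fun j => hj' j h4) ▸ zero_mem _)
    · have h4 := hgk (T u₀ w₁)
      rw [h, Units.val_mul, ← Matrix.mulVec_mulVec, hκ2, hκT, hAu₀, hfix, hfix, hκT, hAu₀, left_eq_add] at h4
      obtain ⟨j, hj⟩ := Function.ne_iff.1 hw₁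
      have := congrFun (MaxTv.gl_mulVec_injective P (show (P : Mn) *ᵥ ((fun p : Fin 2 × Fin b => u₀ p.1 * w₁ p.2) ∘ e) = (P : Mn) *ᵥ 0 by
        rw [Matrix.mulVec_zero]; exact h4)) (e.symm (0, j))
      simp [u₀] at this
      exact hj this

end Cfsg.Agent.Classical.AschOrthTwo
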