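import Cfsg.Agent.Lib.Classical.OrthSimple
import Cfsg.Agent.Lib.Classical.OrthGenTrans

/-!
`Ω(Q)` is generated by all Siegel transformations as soon as there is a singular vector and the dimension is at
least four, in odd characteristic; no totally singular solid is needed.
-/

set_option autoImplicit false
set_option linter.unusedSectionVars false
set_option quotPrecheck false

namespace Cfsg.Agent.Classical.OrthAut

open Matrix Module
open scoped commutatorElement

variable {F : Type*} [Field F] [Fintype F] {ι : Type} [Fintype ι] [DecidableEq ι]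
  {Q : QuadraticForm F (ι → F)}

local notation "Mn" => Matrix ι ι F
local notation "B" => QuadraticMap.polar ⇑Q
local notation "OG" => isometryGroup F ⇑Q

variable (Q) in
/-- The subgroup generated by every Siegel transformation. -/
def eR : Subgroup (isometryGroup F ⇑Q) :=
  Subgroup.closure {g | ∃ (e w : ι → F), OK Q e w ∧ ogVal g = eMat Q e w}

theorem eOG_mem_eR {e w : ι → F} (h : OK Q e w) : eOG h ∈ eR Q := Subgroup.subset_closure ⟨e, w, h, rfl⟩

instance eR_normal : (eR Q).Normal := by
  refine ⟨fun n hn g => ?_⟩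
  have hle : eR Q ≤ (eR Q).comap (MulAut.conj g).toMonoidHom := by
    refine (Subgroup.closure_le _).2 ?_
    rintro x ⟨a, b, h, hx⟩
    obtain rfl : x = eOG h := ogVal_ext hx
    exact Subgroup.subset_closure ⟨_, _, ⟨by rw [ogVal_quad]; exact h.1, by rw [isometry_polar (ogVal_quad g)]; exact h.2⟩,
      conj_eOG g h⟩
  exact hle hn

variable (hQ : (QuadraticMap.polarBilin Q).Nondegenerate) (h2 : (2 : F) ≠ 0)
include hQ h2

omit h2 in
/-- The complement of a hyperbolic pair. -/
theorem pairPerp_spec {e f : ι → F} (P : Pair Q e f) :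
    let W : Submodule F (ι → F) :=
      LinearMap.ker (QuadraticMap.polarBilin Q e) ⊓ LinearMap.ker (QuadraticMap.polarBilin Q f)
    (∀ w ∈ W, B e w = 0 ∧ B f w = 0) ∧ (∀ w ∈ W, w ≠ 0 → ∃ u ∈ W, B w u ≠ 0) ∧
      Fintype.card ι ≤ finrank F W + 2 ∧ ∀ x, x - B f x • e - B e x • f ∈ W := by
  intro W
  have hmem : ∀ w ∈ W, B e w = 0 ∧ B f w = 0 := fun w hw => ⟨hw.1, hw.2⟩
  have hproj : ∀ x, x - B f x • e - B e x • f ∈ W := fun x => by
    refine ⟨?_, ?_⟩ <;>
    · show QuadraticMap.polarBilin Q _ _ = 0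
      simp [QuadraticMap.polarBilin_apply_apply, QuadraticMap.polar_sub_right, QuadraticMap.polar_smul_right,
        polar_self' P.1, polar_self' P.2.1, P.2.2, QuadraticMap.polar_comm _ f e]
  refine ⟨hmem, fun w hw hw0 => ?_, ?_, hproj⟩
  · by_contra h
    push Not at h
    refine hw0 (eq_zero_of_polar hQ fun z => ?_)
    have h1 := h _ (hproj z)
    rw [QuadraticMap.polar_sub_right, QuadraticMap.polar_sub_right, QuadraticMap.polar_smul_right,
      QuadraticMap.polar_smul_right, QuadraticMap.polar_comm _ w e, QuadraticMap.polar_comm _ w f, (hmem w hw).1,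
      (hmem w hw).2, smul_zero, smul_zero, sub_zero, sub_zero] at h1
    exact h1
  · have h1 := LinearMap.finrank_range_add_finrank_ker
      ((QuadraticMap.polarBilin Q e).prod (QuadraticMap.polarBilin Q f))
    have h2' := Submodule.finrank_le (LinearMap.range ((QuadraticMap.polarBilin Q e).prod (QuadraticMap.polarBilin Q f)))
    rw [Module.finrank_prod, Module.finrank_self] at h2'
    rw [Module.finrank_pi, LinearMap.ker_prod] at h1
    change _ + finrank F W = _ at h1
    omega

omit h2 in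
/-- A Siegel transformation at an anisotropic vector is a product of two reflections of equal value. -/
theorem eOG_eq_refl {e w : ι → F} (h : OK Q e w) (hw : Q w ≠ 0) :
    ∃ (s : ι → F) (hs : Q s ≠ 0), Q s = Q w ∧ eOG h = OrthAut.refl hw * OrthAut.refl hs := by
  have hq : Q (w + Q w • e) = Q w := by
    rw [quad_add_smul, h.1, QuadraticMap.polar_comm _ w e, h.2]; ring
  refine ⟨_, (by rw [hq]; exact hw : Q (w + Q w • e) ≠ 0), hq, ogVal_ext ?_⟩
  rw [eOG_val, eMat_eq_refl h.1 h.2 hw]

/-- Every Siegel transformation is a product of anisotropic ones. -/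
theorem eOG_mem_of_aniso {N : Subgroup OG}
    (hN : ∀ (e w : ι → F) (h : OK Q e w), Q w ≠ 0 → eOG h ∈ N) (hn : 3 ≤ Fintype.card ι)
    {e w : ι → F} (h : OK Q e w) : eOG h ∈ N := by
  by_cases hw : Q w ≠ 0
  · exact hN e w h hw
  push Not at hw
  by_cases he : e = 0
  · have h1 : eOG h = 1 := ogVal_ext (by
      rw [eOG_val, he, show (0 : ι → F) = (0 : F) • (0 : ι → F) by simp, eMat_smul_left, zero_smul, eMat_zero,
        ogVal_one])
    rw [h1]; exact one_mem _
  obtain ⟨f, hf, hef⟩ := exists_pair hQ he h.1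
  obtain ⟨hmem, hnd, hd, -⟩ := pairPerp_spec hQ (e := e) (f := f) ⟨h.1, hf, hef⟩
  set W := LinearMap.ker (QuadraticMap.polarBilin Q e) ⊓ LinearMap.ker (QuadraticMap.polarBilin Q f)
  obtain ⟨u, hu, hu0⟩ : ∃ u ∈ W, Q u ≠ 0 := by
    obtain ⟨x, hx, hx0⟩ := Submodule.exists_mem_ne_zero_of_ne_bot (p := W) fun hb => by
      rw [hb, finrank_bot] at hd; omega
    obtain ⟨y, hy, hxy⟩ := hnd x hx hx0
    by_contra hh
    push Not at hh
    exact hxy (by rw [QuadraticMap.polar, hh _ (add_mem hx hy), hh _ hx, hh _ hy]; simp)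
  obtain ⟨s, hs0, hs⟩ : ∃ s : F, s ≠ 0 ∧ Q (w + (-s) • u) ≠ 0 := by
    by_contra hh
    push Not at hh
    have a1 := hh 1 one_ne_zero
    have a2 := hh (-1) (neg_ne_zero.2 one_ne_zero)
    rw [quad_add_smul, hw] at a1 a2
    exact hu0 ((mul_eq_zero.1 (show (2 : F) * Q u = 0 by linear_combination a1 + a2)).resolve_left h2)
  have k1 : OK Q e (s • u) := ⟨h.1, by rw [QuadraticMap.polar_smul_right, (hmem u hu).1, smul_zero]⟩
  have k2 : OK Q e (w + (-s) • u) := ⟨h.1, by
    rw [QuadraticMap.polar_add_right, QuadraticMap.polar_smul_right, h.2, (hmem u hu).1, smul_zero, add_zero]⟩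
  rw [show eOG h = eOG k1 * eOG k2 from ogVal_ext (by
    rw [ogVal_mul, eOG_val, eOG_val, eOG_val, eMat_mul k1 k2,
      show s • u + (w + (-s) • u) = w by module])]
  exact mul_mem (hN _ _ k1 (by rw [QuadraticMap.map_smul, smul_eq_mul]; exact mul_ne_zero (mul_ne_zero hs0 hs0) hu0))
    (hN _ _ k2 hs)

theorem eR_le_omega (hn : 3 ≤ Fintype.card ι) : eR Q ≤ Omega F ⇑Q := by
  refine (Subgroup.closure_le _).2 ?_
  rintro g ⟨e, w, h, hg⟩
  obtain rfl : g = eOG h := ogVal_ext hg
  refine eOG_mem_of_aniso hQ h2 (fun e w h hw => ?_) hn h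
  obtain ⟨s, hs, hq, e1⟩ := eOG_eq_refl hQ h hw
  rw [e1]
  exact refl_mod h2 hQ hw hs (by rw [hq, div_self hw]; exact IsSquare.one)

section Trans

variable (hn : 4 ≤ Fintype.card ι)
include hn

omit hn in
/-- Singular vectors paired with `y` form one orbit. -/
theorem eR_step {y a b : ι → F} (hy : Q y = 0) (ha : Q a = 0) (hb : Q b = 0) (hya : B y a = 1) (hyb : B y b = 1) :
    ∃ g ∈ eR Q, ogVal g *ᵥ a = b := by
  set w := b - a - (B a b - 0) • y with hw
  have hk : OK Q y w := ⟨hy, by
    rw [hw, QuadraticMap.polar_sub_right, QuadraticMap.polar_sub_right, QuadraticMap.polar_smul_right,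
      polar_self' hy, hya, hyb]; simp⟩
  refine ⟨eOG hk, eOG_mem_eR hk, ?_⟩
  have h1 : B w a = 0 := by
    rw [hw, QuadraticMap.polar_sub_left, QuadraticMap.polar_sub_left, QuadraticMap.polar_smul_left,
      QuadraticMap.polar_comm _ b a, polar_self' ha, hya]; simp
  have h3 : Q w = -(B a b) := by
    rw [hw, show b - a - (B a b - 0) • y = b + ((-1 : F) • a + (-(B a b)) • y) by module, quad_add, quad_add,
      QuadraticMap.map_smul, QuadraticMap.map_smul, ha, hb, hy, QuadraticMap.polar_add_right,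
      QuadraticMap.polar_smul_right, QuadraticMap.polar_smul_right, QuadraticMap.polar_smul_left,
      QuadraticMap.polar_smul_right, QuadraticMap.polar_comm _ b a, QuadraticMap.polar_comm _ b y,
      QuadraticMap.polar_comm _ a y, hya, hyb]
    simp only [smul_eq_mul]; ring
  rw [eOG_val, eMat_mulVec, hya, h1, h3, hw]
  module

/-- Singular vectors form one orbit. -/
theorem eR_trans {e x : ι → F} (he0 : e ≠ 0) (he : Q e = 0) (hx0 : x ≠ 0) (hx : Q x = 0) :
    ∃ g ∈ eR Q, ogVal g *ᵥ e = x := by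
  have key : ∀ {a b : ι → F}, Q a = 0 → Q b = 0 → (∀ s t : F, s • a + t • b = 0 → s = 0 ∧ t = 0) →
      ∃ g ∈ eR Q, ogVal g *ᵥ a = b := by
    intro a b ha hb hind
    obtain ⟨y, hy, hya, hyb⟩ : ∃ y, Q y = 0 ∧ B y a = 1 ∧ B y b = 1 := by
      obtain ⟨y₀, h1, h1'⟩ := exists_polar2 hQ hind 1 1
      by_cases hab : B a b = 0
      · refine ⟨y₀ + (-Q y₀) • a, ?_, ?_, ?_⟩
        · rw [quad_add_smul, ha, QuadraticMap.polar_comm, h1]; ring
        · rw [QuadraticMap.polar_comm, QuadraticMap.polar_add_right, QuadraticMap.polar_smul_right,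
            polar_self' ha, h1]; simp
        · rw [QuadraticMap.polar_comm, QuadraticMap.polar_add_right, QuadraticMap.polar_smul_right, h1',
            QuadraticMap.polar_comm _ b a, hab]; simp
      · obtain ⟨hmem, hnd, hd, -⟩ := pairPerp_spec hQ (e := a) (f := (B a b)⁻¹ • b) ⟨ha, by
          rw [QuadraticMap.map_smul, hb, smul_zero], by
          rw [QuadraticMap.polar_smul_right, smul_eq_mul, inv_mul_cancel₀ hab]⟩
        obtain ⟨r, hr, hQr⟩ := exists_value_in hQ h2 hnd (by omega) (-(B a b)⁻¹)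
        obtain ⟨hra, hrb⟩ := hmem r hr
        rw [QuadraticMap.polar_smul_left, smul_eq_mul, mul_eq_zero] at hrb
        have hrb' : B b r = 0 := hrb.resolve_left (inv_ne_zero hab)
        refine ⟨(B a b)⁻¹ • a + (B a b)⁻¹ • b + r, ?_, ?_, ?_⟩
        · rw [quad_add, quad_add, QuadraticMap.map_smul, QuadraticMap.map_smul, ha, hb, hQr,
            QuadraticMap.polar_add_left, QuadraticMap.polar_smul_left, QuadraticMap.polar_smul_left,
            QuadraticMap.polar_smul_left, QuadraticMap.polar_smul_right, hra, hrb']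
          simp only [smul_eq_mul]; field_simp; ring
        · rw [QuadraticMap.polar_comm, QuadraticMap.polar_add_right, QuadraticMap.polar_add_right,
            QuadraticMap.polar_smul_right, QuadraticMap.polar_smul_right, polar_self' ha, hra]
          simp [hab]
        · rw [QuadraticMap.polar_comm, QuadraticMap.polar_add_right, QuadraticMap.polar_add_right,
            QuadraticMap.polar_smul_right, QuadraticMap.polar_smul_right, polar_self' hb,
            QuadraticMap.polar_comm _ b a, hrb']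
          simp [hab]
    exact eR_step hQ h2 hy ha hb hya hyb
  have hli : ∀ {a b : ι → F}, a ≠ 0 → (∀ c : F, b ≠ c • a) → ∀ s t : F, s • a + t • b = 0 → s = 0 ∧ t = 0 := by
    intro a b ha hb s t h
    by_cases ht : t = 0
    · subst ht; rw [zero_smul, add_zero] at h; exact ⟨(smul_eq_zero.1 h).resolve_right ha, rfl⟩
    · refine absurd ?_ (hb (-s / t))
      linear_combination (norm := skip) t⁻¹ • h
      match_scalars <;> field_simp <;> ring
  by_cases hdep : ∀ c : F, x ≠ c • e
  · exact key he hx (hli he0 hdep)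
  push Not at hdep
  obtain ⟨c, rfl⟩ := hdep
  have hc : c ≠ 0 := fun h => hx0 (by rw [h, zero_smul])
  obtain ⟨f, hf, hef⟩ := exists_pair hQ he0 he
  have hne : ∀ d : F, f ≠ d • e := fun d h => one_ne_zero (α := F) (by
    rw [← hef, h, QuadraticMap.polar_smul_right, polar_self' he, smul_zero])
  obtain ⟨g, hg, hge⟩ := key he hf (hli he0 hne)
  obtain ⟨g', hg', hgf⟩ := key hf hx (hli (fun h => hne 0 (by rw [h, zero_smul])) fun d h => hc (by
    have := congrArg (B e) h
    rw [QuadraticMap.polar_smul_right, QuadraticMap.polar_smul_right, polar_self' he, hef, smul_zero,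
      smul_eq_mul, mul_one] at this
    have := h.trans (by rw [← this, zero_smul])
    exact (smul_eq_zero.1 this).resolve_right he0))
  exact ⟨g' * g, mul_mem hg' hg, by rw [ogVal_mul, ← Matrix.mulVec_mulVec, hge, hgf]⟩

/-- Hyperbolic pairs form one orbit. -/
theorem eR_trans_pair {e f e' f' : ι → F} (P : Pair Q e f) (P' : Pair Q e' f') :
    ∃ g ∈ eR Q, ogVal g *ᵥ e = e' ∧ ogVal g *ᵥ f = f' := by
  have ne0 : ∀ {a b : ι → F}, Pair Q a b → a ≠ 0 := fun P h => by
    have := P.2.2; rw [h, QuadraticMap.polar_zero_left] at this; exact zero_ne_one this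
  obtain ⟨g, hg, hge⟩ := eR_trans hQ h2 hn (ne0 P) P.1 (ne0 P') P'.1
  have h1 : B e' (ogVal g *ᵥ f) = 1 := by rw [← hge, isometry_polar (ogVal_quad g)]; exact P.2.2
  have hk : OK Q e' ((ogVal g *ᵥ f) - f' - (B f' (ogVal g *ᵥ f) - 0) • e') := ⟨P'.1, by
    rw [QuadraticMap.polar_sub_right, QuadraticMap.polar_sub_right, QuadraticMap.polar_smul_right,
      polar_self' P'.1, h1, P'.2.2]; simp⟩
  obtain ⟨k, hk', hkf⟩ : ∃ k ∈ eR Q, ogVal k *ᵥ e' = e' ∧ ogVal k *ᵥ f' = ogVal g *ᵥ f := by
    refine ⟨eOG hk, eOG_mem_eR hk, ?_, ?_⟩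
    · rw [eOG_val, eMat_mulVec, polar_self' P'.1, QuadraticMap.polar_comm _ _ e', hk.2]; simp
    · set a := f'
      set b := ogVal g *ᵥ f
      have hb : Q b = 0 := (ogVal_quad g f).trans P.2.1
      have e1 : B (b - a - (B a b - 0) • e') a = 0 := by
        rw [QuadraticMap.polar_sub_left, QuadraticMap.polar_sub_left, QuadraticMap.polar_smul_left,
          QuadraticMap.polar_comm _ b a, polar_self' P'.2.1, P'.2.2]; simp
      have e3 : Q (b - a - (B a b - 0) • e') = -(B a b) := by
        rw [show b - a - (B a b - 0) • e' = b + ((-1 : F) • a + (-(B a b)) • e') by module, quad_add, quad_add,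
          QuadraticMap.map_smul, QuadraticMap.map_smul, hb, P'.2.1, P'.1, QuadraticMap.polar_add_right,
          QuadraticMap.polar_smul_right, QuadraticMap.polar_smul_right, QuadraticMap.polar_smul_left,
          QuadraticMap.polar_smul_right, QuadraticMap.polar_comm _ b a, QuadraticMap.polar_comm _ b e',
          QuadraticMap.polar_comm _ a e', h1, P'.2.2]
        simp only [smul_eq_mul]; ring
      rw [eOG_val, eMat_mulVec, P'.2.2, e1, e3]
      module
  refine ⟨k⁻¹ * g, mul_mem (inv_mem hk') hg, ?_, ?_⟩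
  · rw [ogVal_mul, ← Matrix.mulVec_mulVec, hge]
    conv_lhs => rw [← hkf.1]
    rw [ogVal_inv_cancel]
  · rw [ogVal_mul, ← Matrix.mulVec_mulVec, ← hkf.2, ogVal_inv_cancel]

variable (hiso : ∃ e, e ≠ 0 ∧ Q e = 0)
include hiso

/-- Vectors of equal non-zero value form one orbit. -/
theorem eR_trans_value {v w : ι → F} (hv : Q v ≠ 0) (hvw : Q w = Q v) : ∃ g ∈ eR Q, ogVal g *ᵥ v = w := by
  have ex : ∀ x : ι → F, Q x ≠ 0 → ∃ e f, Pair Q e f ∧ x = e + Q x • f := by
    intro x hx
    obtain ⟨e, he, hxe⟩ : ∃ e, Q e = 0 ∧ B x e ≠ 0 := by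
      by_contra hh
      push Not at hh
      obtain ⟨e₀, he0, he⟩ := hiso
      obtain ⟨f₀, hf, hef⟩ := exists_pair hQ he0 he
      obtain ⟨hmem, -, -, hproj⟩ := pairPerp_spec hQ (e := e₀) (f := f₀) ⟨he, hf, hef⟩
      have hx0 : ∀ r, B e₀ r = 0 → B f₀ r = 0 → B x r = 0 := by
        intro r h1 h2'
        have hq : Q (r + e₀ + (-(Q r)) • f₀) = 0 := by
          rw [quad_add_smul, quad_add, he, hf, QuadraticMap.polar_comm _ r e₀, h1,
            QuadraticMap.polar_add_left, QuadraticMap.polar_comm _ r f₀, h2', hef]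
          simp
        have := hh _ hq
        rw [QuadraticMap.polar_add_right, QuadraticMap.polar_add_right, QuadraticMap.polar_smul_right, hh _ he,
          hh _ hf, smul_zero, add_zero, add_zero] at this
        exact this
      have : x = 0 := eq_zero_of_polar hQ fun z => by
        have h := hx0 _ (hmem _ (hproj z)).1 (hmem _ (hproj z)).2
        rwa [QuadraticMap.polar_sub_right, QuadraticMap.polar_sub_right, QuadraticMap.polar_smul_right,
          QuadraticMap.polar_smul_right, hh _ he, hh _ hf, smul_zero, smul_zero, sub_zero, sub_zero] at h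
      exact hx (by rw [this, QuadraticMap.map_zero])
    refine ⟨(Q x / B x e) • e, (Q x)⁻¹ • (x - (Q x / B x e) • e), ⟨?_, ?_, ?_⟩, ?_⟩
    · rw [QuadraticMap.map_smul, he, smul_zero]
    · rw [QuadraticMap.map_smul, sub_eq_add_neg, ← neg_smul, quad_add_smul, he, smul_eq_mul]
      field_simp
      ring
    · rw [QuadraticMap.polar_smul_left, QuadraticMap.polar_smul_right, QuadraticMap.polar_sub_right,
        QuadraticMap.polar_smul_right, polar_self' he, QuadraticMap.polar_comm _ e x]
      simp only [smul_eq_mul]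
      field_simp
      ring
    · rw [smul_smul, mul_inv_cancel₀ hx, one_smul, add_sub_cancel]
  obtain ⟨e, f, P, hve⟩ := ex v hv
  obtain ⟨e', f', P', hwe⟩ := ex w (hvw ▸ hv)
  obtain ⟨g, hg, g1, g2⟩ := eR_trans_pair hQ h2 hn P P'
  refine ⟨g, hg, ?_⟩
  rw [hve, hwe, Matrix.mulVec_add, Matrix.mulVec_smul, g1, g2, hvw]

/-- `Ω` is generated by the Siegel transformations. -/
theorem omega_eq_eR : Omega F ⇑Q = eR Q := by
  refine le_antisymm ?_ (eR_le_omega hQ h2 (by omega))
  set q := QuotientGroup.mk' (eR Q)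
  obtain ⟨ε, hε⟩ := FiniteField.exists_nonsquare (F := F)
    (fun hc => h2 (by haveI := ringChar.of_eq hc; exact CharTwo.two_eq_zero))
  have hε0 : ε ≠ 0 := fun h0 => hε (h0 ▸ IsSquare.zero)
  obtain ⟨e₀, he0, he⟩ := hiso
  obtain ⟨f₀, hf, hef⟩ := exists_pair hQ he0 he
  obtain ⟨hmem, hnd, hd, -⟩ := pairPerp_spec hQ (e := e₀) (f := f₀) ⟨he, hf, hef⟩
  have hQv : Q (e₀ + f₀) = 1 := by rw [quad_add, he, hf, hef]; simp
  obtain ⟨u, hu, hQw⟩ := exists_value_in hQ h2 hnd (by omega) ε
  have hv : Q (e₀ + f₀) ≠ 0 := by rw [hQv]; exact one_ne_zero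
  have hw : Q u ≠ 0 := by rw [hQw]; exact hε0
  have horth : B (e₀ + f₀) u = 0 := by rw [QuadraticMap.polar_add_left, (hmem u hu).1, (hmem u hu).2, add_zero]
  have hcom : OrthAut.refl hv * OrthAut.refl hw = OrthAut.refl hw * OrthAut.refl hv := by
    refine ogVal_ext (Matrix.ext_iff_mulVec.2 fun x => ?_)
    rw [ogVal_mul, ogVal_mul, ← Matrix.mulVec_mulVec, ← Matrix.mulVec_mulVec]
    simp only [refl_apply, QuadraticMap.polar_sub_right, QuadraticMap.polar_smul_right, horth,
      QuadraticMap.polar_comm _ u (e₀ + f₀), smul_zero, sub_zero]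
    module
  have same : ∀ {v w : ι → F} (hv : Q v ≠ 0) (hw : Q w ≠ 0), IsSquare (Q v / Q w) →
      q (OrthAut.refl hv) = q (OrthAut.refl hw) := by
    intro v w hv hw hs
    obtain ⟨c, hc⟩ := hs
    have hvw : Q (c • w) = Q v := by
      rw [QuadraticMap.map_smul, smul_eq_mul, ← hc, div_mul_cancel₀ _ hw]
    obtain ⟨g, hg, hgv⟩ := eR_trans_value hQ h2 hn ⟨e₀, he0, he⟩ hv hvw
    have hgv0 : Q (ogVal g *ᵥ v) ≠ 0 := by rw [ogVal_quad]; exact hv
    have e1 : OrthAut.refl hgv0 = OrthAut.refl hw := (refl_congr hw hgv0 hgv).symm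
    rw [← e1, ← refl_conj g hv hgv0, map_mul, map_mul,
      show q g = 1 from (QuotientGroup.eq_one_iff g).2 hg, map_inv,
      show q g = 1 from (QuotientGroup.eq_one_iff g).2 hg, inv_one, one_mul, mul_one]
  have two : ∀ {v : ι → F} (hv' : Q v ≠ 0), q (OrthAut.refl hv') = q (OrthAut.refl hv) ∨
      q (OrthAut.refl hv') = q (OrthAut.refl hw) := by
    intro v hv'
    by_cases hs : IsSquare (Q v)
    · exact Or.inl (same hv' hv (by rwa [hQv, div_one]))
    · refine Or.inr (same hv' hw ?_)
      rw [hQw, div_eq_mul_inv]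
      exact isSquare_of_two_nonsquares h2 hs fun h => hε (by simpa using h.inv)
  have hgen : ∀ {v v' : ι → F} (h : Q v ≠ 0) (h' : Q v' ≠ 0),
      Commute (q (OrthAut.refl h)) (q (OrthAut.refl h')) := by
    intro v v' h h'
    have hq : Commute (q (OrthAut.refl hv)) (q (OrthAut.refl hw)) := by
      show _ = _
      rw [← map_mul, ← map_mul, hcom]
    rcases two h with e1 | e1 <;> rcases two h' with e2 | e2 <;> rw [e1, e2]
    exacts [hq, hq.symm]
  have hall : ∀ x y : OG, Commute (q x) (q y) := by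
    intro x y
    refine Subgroup.closure_induction (p := fun x _ => Commute (q x) (q y)) ?_ ?_ ?_ ?_
      (reflections_generate h2 hQ x)
    · rintro _ ⟨v, hv', rfl⟩
      refine Subgroup.closure_induction (p := fun y _ => Commute (q (OrthAut.refl hv')) (q y)) ?_ ?_ ?_ ?_
        (reflections_generate h2 hQ y)
      · rintro _ ⟨w', hw', rfl⟩; exact hgen hv' hw'
      · rw [map_one]; exact Commute.one_right _
      · intro a b _ _ ha hb; rw [map_mul]; exact ha.mul_right hb
      · intro a _ ha; rw [map_inv]; exact ha.inv_right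
    · rw [map_one]; exact Commute.one_left _
    · intro a b _ _ ha hb; rw [map_mul]; exact ha.mul_left hb
    · intro a _ ha; rw [map_inv]; exact ha.inv_left
  show commutator _ ≤ eR Q
  rw [commutator_def, Subgroup.commutator_le]
  intro x _ y _
  rw [← QuotientGroup.eq_one_iff]
  show q ⁅x, y⁆ = 1
  rw [map_commutatorElement]
  exact commutatorElement_eq_one_iff_commute.2 (hall x y)

end Trans

/-- A nondegenerate space of dimension at least three over a finite field is isotropic. -/
theorem exists_singular_three (hn : 3 ≤ Fintype.card ι) : ∃ e, e ≠ 0 ∧ Q e = 0 := by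
  obtain ⟨v, -, h1, h3⟩ := exists_singular_in (Q := Q) (W := ⊤)
    (fun w hw hw0 => nondeg_top hQ w hw hw0) (by rwa [finrank_top, Module.finrank_pi])
  exact ⟨v, h1, h3⟩

end Cfsg.Agent.Classical.OrthAut
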