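import Cfsg.Agent.Lib.Classical.AschEvenProper
import Cfsg.Agent.Lib.Classical.AschSpShape
import Cfsg.Agent.Lib.Classical.OrthShortRoot

/-!
Over three elements a tensor product with a three dimensional orthogonal space is not maximal: it permutes three
orthogonal blocks.
-/

set_option autoImplicit false
set_option linter.unusedSectionVars false
set_option linter.unusedFintypeInType false
set_option linter.unusedDecidableInType false
set_option quotPrecheck false

namespace Cfsg.Agent.Classical.AschOrthTwo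

open Matrix Module Cfsg.Geo OrthAut
open scoped Kronecker

variable {F : Type*} [Field F] [Fintype F] {ι : Type} [Fintype ι] [DecidableEq ι] {Q : QuadraticForm F (ι → F)}

local notation "B" => QuadraticMap.polar ⇑Q
local notation "Mn" => Matrix ι ι F

set_option maxHeartbeats 1000000 in
/-- The tensor stabiliser is not maximal. -/
theorem tensor_three_not_maximal (hQ : (QuadraticMap.polarBilin Q).Nondegenerate) (h7 : 7 ≤ Fintype.card ι)
    (hq : Fintype.card F = 3) {b : ℕ} (hb : 3 ≤ b) (e : ι ≃ Fin 3 × Fin b) (P : GL ι F)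
    {f₁ : (Fin 3 → F) → (Fin 3 → F) → F} {f₂ : (Fin b → F) → (Fin b → F) → F}
    (hf₁ : IsSymmetricForm f₁) (hf₂ : IsSymmetricForm f₂)
    (hst : IsTensorFormStructure id (QuadraticMap.polar ⇑Q) f₁ f₂ e P) :
    ∃ K : Subgroup (GL ι F), tensorProductSubgroup 3 b e P ⊓ Geo.omegaGL ⇑Q < K ∧ K < Geo.omegaGL ⇑Q := by
  classical
  have hcast : (Fintype.card F : F) = 0 := FiniteField.cast_card_eq_zero F
  rw [hq] at hcast
  have h3 : (3 : F) = 0 := by exact_mod_cast hcast
  have h2 : (2 : F) ≠ 0 := fun h => one_ne_zero (show (1 : F) = 0 by linear_combination h3 - h)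
  have hne11 : (1 : F) ≠ -1 := fun h => h2 (by linear_combination h)
  have hall : ∀ x : F, x = 0 ∨ x = 1 ∨ x = -1 := fun x => by
    by_contra h
    push Not at h
    have h1 : ({x, 0, 1, -1} : Finset F).card ≤ 3 := hq ▸ Finset.card_le_univ _
    simp [h.1, h.2.1, h.2.2, hne11] at h1
  obtain ⟨δ, w, hδ, hw⟩ := Asch.exists_equal_frame h3 h2 hall hf₁
  obtain ⟨c, hc, hcf⟩ := hst
  have hs₁ := Asch.sesq_of_bilinear hf₁.bilinear
  have hs₂ := Asch.sesq_of_bilinear hf₂.bilinear
  have hg₁ : ∀ y y', f₁ y y' = formOfGram id (gramMatrix f₁) y y' := fun y y' => hs₁.eq_gram y y'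
  have hg₂ : ∀ y y', f₂ y y' = formOfGram id (gramMatrix f₂) y y' := fun y y' => hs₂.eq_gram y y'
  let T : (Fin 3 → F) → (Fin b → F) → (ι → F) := fun y z =>
    (P : Mn) *ᵥ ((fun p : Fin 3 × Fin b => y p.1 * z p.2) ∘ e)
  let L : Fin 3 → (Fin b → F) →ₗ[F] (ι → F) := fun l =>
    { toFun := fun z => T (w l) z
      map_add' := fun z z' => by
        simp only [T]; rw [← Matrix.mulVec_add]; congr 1; funext i; simp [mul_add]
      map_smul' := fun s z => by
        simp only [T]; rw [RingHom.id_apply, ← Matrix.mulVec_smul]; congr 1; funext i; simp [mul_left_comm] }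
  have hT : ∀ y z y' z', B (T y z) (T y' z') = c * (f₁ y y' * f₂ z z') := fun y z y' z' => by
    simp only [T]
    rw [hcf, hg₁, hg₂, Asch.formOfGram_tmul]
  have hTinj : ∀ y z y' z', T y z = T y' z' → ∀ i j, y i * z j = y' i * z' j := fun y z y' z' h i j => by
    have h1 := congrFun (MaxTv.gl_mulVec_injective P h) (e.symm (i, j))
    simpa using h1
  have hform : ∀ l l' z z', B (L l z) (L l' z') = c * ((if l = l' then δ else 0) * f₂ z z') := by
    intro l l' z z'
    rw [← hw]
    exact hT (w l) z (w l') z'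
  let D : Fin 3 → Submodule F (ι → F) := fun l => LinearMap.range (L l)
  have hnd : ∀ l z, (∀ z', B (L l z) (L l z') = 0) → z = 0 := by
    intro l z hz
    by_contra hne
    obtain ⟨z', hz'⟩ := (hf₂.nondegenerate z hne).2
    have := hz z'
    rw [hform, if_pos rfl] at this
    rcases mul_eq_zero.1 this with h | h
    · exact hc h
    · rcases mul_eq_zero.1 h with h | h
      · exact hδ h
      · exact hz' h
  have hinjL : ∀ l, Function.Injective (L l) := fun l => (injective_iff_map_eq_zero _).2 fun z hz =>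
    hnd l z fun z' => by rw [hz, QuadraticMap.polar_zero_left]
  have horth : ∀ i j, i ≠ j → ∀ x ∈ D i, ∀ y ∈ D j, B x y = 0 := by
    rintro i j hij _ ⟨z, rfl⟩ _ ⟨z', rfl⟩
    rw [hform, if_neg hij, zero_mul, mul_zero]
  let B₁ : LinearMap.BilinForm F (Fin 3 → F) := LinearMap.mk₂ F f₁ hf₁.bilinear.add_left
    (fun c x v => hf₁.bilinear.smul_left c x v) hf₁.bilinear.add_right (fun c v x => hf₁.bilinear.smul_right c v x)
  -- completeness of the frame
  have hframe : ∀ y : Fin 3 → F, y = ∑ l, (δ⁻¹ * f₁ y (w l)) • w l := by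
    have hli : LinearIndependent F w := by
      rw [Fintype.linearIndependent_iff]
      intro g hg i
      have h1 := congrArg (fun x => B₁ x (w i)) hg
      simp [B₁, map_sum, LinearMap.sum_apply, hw, hδ] at h1
      exact h1
    intro y
    let bw := basisOfLinearIndependentOfCardEqFinrank hli (by simp)
    have hb' : ∀ l, bw l = w l := fun l => by simp [bw]
    conv_lhs => rw [← bw.sum_repr y]
    refine Finset.sum_congr rfl fun l _ => ?_
    rw [hb']
    congr 1
    have h1 := congrArg (fun x => B₁ x (w l)) (bw.sum_repr y)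
    simp [B₁, map_sum, LinearMap.sum_apply, hb', hw] at h1
    rw [← h1]
    field_simp
  have htop : iSup D = ⊤ := by
    refine eq_top_iff.2 fun v _ => ?_
    let x : Fin 3 × Fin b → F := (((P⁻¹ : GL ι F) : Mn) *ᵥ v) ∘ e.symm
    let z : Fin 3 → Fin b → F := fun l j => δ⁻¹ * f₁ (fun i => x (i, j)) (w l)
    have hv : v = ∑ l, L l (z l) := by
      show v = ∑ l, (P : Mn) *ᵥ _
      rw [← Matrix.mulVec_sum]
      refine MaxTv.gl_mulVec_injective P⁻¹ ?_
      show ((P⁻¹ : GL ι F) : Mn) *ᵥ v = _ *ᵥ _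
      rw [Matrix.mulVec_mulVec _ _ (P : Mn), Units.inv_mul, Matrix.one_mulVec]
      funext i
      have h1 := congrFun (hframe (fun a => x (a, (e i).2))) (e i).1
      simp only [Finset.sum_apply, Pi.smul_apply, smul_eq_mul] at h1 ⊢
      rw [show x ((e i).1, (e i).2) = (((P⁻¹ : GL ι F) : Mn) *ᵥ v) i by simp [x]] at h1
      rw [h1]
      refine Finset.sum_congr rfl fun l _ => ?_
      simp only [Function.comp_apply, z]
      ring
    rw [hv]
    exact Submodule.sum_mem _ fun l _ => Submodule.mem_iSup_of_mem l ⟨_, rfl⟩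
  have hind : iSupIndep D := by
    intro i
    rw [Submodule.disjoint_def]
    rintro _ ⟨z, rfl⟩ hmem
    have hz : z = 0 := hnd i z fun z' => by
      have hle : (⨆ (j) (_ : j ≠ i), D j) ≤ LinearMap.ker (QuadraticMap.polarBilin Q (L i z')) :=
        iSup₂_le fun j hji u hu => LinearMap.mem_ker.2 (by
          rw [QuadraticMap.polarBilin_apply_apply, QuadraticMap.polar_comm]
          exact horth j i hji u hu _ ⟨z', rfl⟩)
      have h1 := LinearMap.mem_ker.1 (hle hmem)
      rwa [QuadraticMap.polarBilin_apply_apply, QuadraticMap.polar_comm] at h1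
    rw [hz, map_zero]
  have hrank : ∀ i, finrank F (D i) = b := fun i => by
    rw [LinearMap.finrank_range_of_inj (hinjL i), Module.finrank_fintype_fun_eq_card, Fintype.card_fin]
  have hD : IsMDecomposition b D := ⟨by norm_num, by omega, hrank, hind, htop⟩
  have hgT' : ∀ g ∈ tensorProductSubgroup 3 b e P, ∃ (A : GL (Fin 3) F) (A₂ : GL (Fin b) F), ∀ y z,
      (g : Mn) *ᵥ T y z = T ((A : Matrix (Fin 3) (Fin 3) F) *ᵥ y) ((A₂ : Matrix (Fin b) (Fin b) F) *ᵥ z) := by
    rintro g ⟨_, ⟨k, ⟨A, A₂, hk⟩, rfl⟩, hgk⟩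
    refine ⟨A, A₂, fun y z => ?_⟩
    have hgco : (g : Mn) = Asch.co e P ((A : Matrix (Fin 3) (Fin 3) F) ⊗ₖ (A₂ : Matrix (Fin b) (Fin b) F)) := by
      rw [← hgk, ← hk]
      rfl
    have h1 := Asch.coords_mulVec e P ((A : Matrix (Fin 3) (Fin 3) F) ⊗ₖ (A₂ : Matrix (Fin b) (Fin b) F)) (T y z)
    rw [← hgco] at h1
    have h4 : ∀ y z, ((((P⁻¹ : GL ι F) : Mn) *ᵥ T y z)) ∘ e.symm = fun p : Fin 3 × Fin b => y p.1 * z p.2 :=
      fun y z => by
        simp only [T]
        rw [Matrix.mulVec_mulVec, Units.inv_mul, Matrix.one_mulVec]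
        funext p; simp
    rw [h4, Asch.kron_mulVec_tmul, ← h4] at h1
    refine MaxTv.gl_mulVec_injective P⁻¹ ?_
    funext i
    have h5 := congrFun h1 (e i)
    simpa only [Function.comp_apply, Equiv.symm_apply_apply] using h5
  have hmapD : ∀ g : GL ι F, ∀ l l', (∀ z, (g : Mn) *ᵥ L l z ∈ D l') →
      (D l).map (Matrix.toLin' (g : Mn)) = D l' := by
    intro g l l' h
    refine Submodule.eq_of_le_of_finrank_eq ?_ ?_
    · rintro _ ⟨_, ⟨z, rfl⟩, rfl⟩
      rw [Matrix.toLin'_apply]; exact h z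
    · rw [← (Submodule.equivMapOfInjective (Matrix.toLin' (g : Mn))
        (fun x y h => MaxTv.gl_mulVec_injective g (by simpa [Matrix.toLin'_apply] using h)) (D l)).finrank_eq,
        hrank, hrank]
  refine Asch.exists_between (M := decompositionStabilizer D) (fun g hg => ?_) ?_
    (AschEven.not_omega_le_decomp_three hQ h7 hb hD)
  · obtain ⟨A, A₂, hgT⟩ := hgT' g hg.1
    have hgQ := MaxTv.isometry_of_mem_omegaGL hg.2
    -- the first factor is a similitude
    obtain ⟨μ, hμ⟩ : ∃ μ : F, ∀ u v, f₁ ((A : Matrix (Fin 3) (Fin 3) F) *ᵥ u) ((A : Matrix (Fin 3) (Fin 3) F) *ᵥ v) =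
        μ * f₁ u v := by
      obtain ⟨z₀, hz₀⟩ : ∃ z₀ : Fin b → F, z₀ ≠ 0 := ⟨Pi.single ⟨0, by omega⟩ 1, by simp⟩
      obtain ⟨z₁, hz₁⟩ := (hf₂.nondegenerate z₀ hz₀).2
      have h : ∀ u v, f₁ ((A : Matrix (Fin 3) (Fin 3) F) *ᵥ u) ((A : Matrix (Fin 3) (Fin 3) F) *ᵥ v) *
          f₂ ((A₂ : Matrix (Fin b) (Fin b) F) *ᵥ z₀) ((A₂ : Matrix (Fin b) (Fin b) F) *ᵥ z₁) =
            f₁ u v * f₂ z₀ z₁ := by
        intro u v
        have h1 := OrthAut.isometry_polar hgQ (T u z₀) (T v z₁)
        rw [hgT, hgT, hT, hT] at h1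
        exact mul_left_cancel₀ hc h1
      have hne0 : f₂ ((A₂ : Matrix (Fin b) (Fin b) F) *ᵥ z₀) ((A₂ : Matrix (Fin b) (Fin b) F) *ᵥ z₁) ≠ 0 := fun h0 => by
        have h1 := h (w 0) (w 0)
        rw [h0, mul_zero, hw, if_pos rfl] at h1
        exact (mul_ne_zero hδ hz₁) h1.symm
      refine ⟨f₂ z₀ z₁ / f₂ ((A₂ : Matrix (Fin b) (Fin b) F) *ᵥ z₀) ((A₂ : Matrix (Fin b) (Fin b) F) *ᵥ z₁), fun u v => ?_⟩
      rw [div_mul_eq_mul_div, eq_div_iff hne0]
      linear_combination h u v
    -- coordinates of the images of the frame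
    let cm : Matrix (Fin 3) (Fin 3) F := Matrix.of fun l k => δ⁻¹ * f₁ ((A : Matrix (Fin 3) (Fin 3) F) *ᵥ w l) (w k)
    have hcm : ∀ l, (A : Matrix (Fin 3) (Fin 3) F) *ᵥ w l = ∑ k, cm l k • w k := fun l => hframe _
    have hgram : cm * cmᵀ = μ • (1 : Matrix (Fin 3) (Fin 3) F) := by
      ext l l'
      have h1 := hμ (w l) (w l')
      rw [hcm l, hcm l', hw] at h1
      rw [show f₁ (∑ k, cm l k • w k) (∑ k, cm l' k • w k) = B₁ (∑ k, cm l k • w k) (∑ k, cm l' k • w k) from rfl] at h1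
      simp only [map_sum, map_smul, LinearMap.sum_apply, LinearMap.smul_apply, smul_eq_mul] at h1
      simp only [B₁, LinearMap.mk₂_apply, hw, mul_ite, mul_zero, Finset.sum_ite_eq, Finset.sum_ite_eq', Finset.mem_univ, if_true] at h1
      rw [Matrix.mul_apply, Matrix.smul_apply, Matrix.one_apply]
      simp only [Matrix.transpose_apply, smul_eq_mul]
      have h6 : δ * ∑ k, cm l k * cm l' k = δ * (μ * if l = l' then 1 else 0) := by
        rw [Finset.mul_sum]
        refine Eq.trans (Finset.sum_congr rfl fun k _ => ?_) (h1.trans ?_)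
        · ring
        · split_ifs <;> ring
      exact mul_left_cancel₀ hδ h6
    have hsq : ∀ x : F, x = 0 ∨ x * x = 1 := fun x => by
      rcases hall x with rfl | rfl | rfl <;> simp
    have hμ1 : μ = 1 := by
      have hd := congrArg Matrix.det hgram
      rw [Matrix.det_mul, Matrix.det_transpose, Matrix.det_smul, Matrix.det_one, mul_one, Fintype.card_fin] at hd
      have hμ0 : μ ≠ 0 := fun h0 => by
        obtain ⟨v₀, hv₀⟩ : ∃ v₀, (A : Matrix (Fin 3) (Fin 3) F) *ᵥ v₀ = w 0 :=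
          ⟨((A⁻¹ : GL (Fin 3) F) : Matrix (Fin 3) (Fin 3) F) *ᵥ w 0, by simp [Matrix.mulVec_mulVec]⟩
        have h1 := hμ v₀ v₀
        rw [hv₀, hw, if_pos rfl, h0, zero_mul] at h1
        exact hδ h1
      rcases hsq cm.det with h | h
      · rw [h, zero_mul] at hd; exact absurd hd.symm (pow_ne_zero _ hμ0)
      · rcases hsq μ with h' | h'
        · exact absurd h' hμ0
        · rw [h, pow_succ, pow_two, h', one_mul] at hd; exact hd.symm
    subst hμ1
    have hone : ∀ l, ∃ k, cm l k ≠ 0 ∧ ∀ k', k' ≠ k → cm l k' = 0 := by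
      intro l
      have h1 := congrFun (congrFun hgram l) l
      simp [Matrix.mul_apply, Fin.sum_univ_three] at h1
      rcases hsq (cm l 0) with h0 | h0 <;> rcases hsq (cm l 1) with h1' | h1' <;> rcases hsq (cm l 2) with h2' | h2' <;>
        simp only [h0, h1', h2', mul_zero, zero_mul, add_zero, zero_add] at h1
      · exact absurd h1 zero_ne_one
      · exact ⟨2, fun h => by simp [h] at h2', fun k' hk' => by
          fin_cases k' <;> first | exact absurd rfl hk' | assumption⟩
      · exact ⟨1, fun h => by simp [h] at h1', fun k' hk' => by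
          fin_cases k' <;> first | exact absurd rfl hk' | assumption⟩
      · exact absurd (show (1 : F) = 0 by linear_combination h1) one_ne_zero
      · exact ⟨0, fun h => by simp [h] at h0, fun k' hk' => by
          fin_cases k' <;> first | exact absurd rfl hk' | assumption⟩
      · exact absurd (show (1 : F) = 0 by linear_combination h1) one_ne_zero
      · exact absurd (show (1 : F) = 0 by linear_combination h1) one_ne_zero
      · exact absurd (show (1 : F) = 0 by linear_combination h3 - h1) one_ne_zero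
    choose σ hσne hσ using hone
    have hinj : Function.Injective σ := by
      intro l l' h
      by_contra hne
      have h1 := congrFun (congrFun hgram l) l'
      rw [Matrix.mul_apply, Finset.sum_eq_single (σ l) (fun k _ hk => by rw [hσ l k hk, zero_mul]) (by simp),
        Matrix.transpose_apply, Matrix.smul_apply, Matrix.one_apply_ne hne, smul_zero] at h1
      rcases mul_eq_zero.1 h1 with h1 | h1
      · exact hσne l h1
      · exact hσne l' (h ▸ h1)
    refine ⟨Equiv.ofBijective σ (Finite.injective_iff_bijective.1 hinj), fun l => ?_⟩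
    rw [Equiv.ofBijective_apply]
    refine hmapD g l _ fun z => ⟨cm l (σ l) • ((A₂ : Matrix (Fin b) (Fin b) F) *ᵥ z), ?_⟩
    show T (w (σ l)) _ = (g : Mn) *ᵥ T (w l) z
    rw [hgT, hcm l, Finset.sum_eq_single (σ l) (fun k _ hk => by rw [hσ l k hk, zero_smul]) (by simp)]
    simp only [T]
    congr 1
    funext i
    simp only [Function.comp_apply, Pi.smul_apply, smul_eq_mul]
    ring
  -- a Siegel element inside one block
  let B₂ : LinearMap.BilinForm F (Fin b → F) := LinearMap.mk₂ F f₂ hf₂.bilinear.add_left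
    (fun c x v => hf₂.bilinear.smul_left c x v) hf₂.bilinear.add_right (fun c v x => hf₂.bilinear.smul_right c v x)
  obtain ⟨z₀, hz₀0, hz₀⟩ : ∃ z₀, z₀ ≠ 0 ∧ f₂ z₀ z₀ = 0 := by
    have hp : ∀ u v, QuadraticMap.polar ⇑(LinearMap.BilinMap.toQuadraticMap B₂) u v = 2 * f₂ u v := fun u v => by
      rw [LinearMap.BilinMap.polar_toQuadraticMap]
      show f₂ u v + f₂ v u = _
      rw [hf₂.symm v u]; ring
    have key : ∀ u, (∀ v, f₂ v u = 0) → u = 0 := fun u hu => by
      by_contra h0
      obtain ⟨x, hx⟩ := (hf₂.nondegenerate u h0).1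
      exact hx (hu x)
    have hn2 : (QuadraticMap.polarBilin (LinearMap.BilinMap.toQuadraticMap B₂)).Nondegenerate := by
      refine ⟨fun u hu => key u fun v => ?_, fun u hu => key u fun v => ?_⟩
      · have h1 := hu v
        rw [QuadraticMap.polarBilin_apply_apply, hp, mul_eq_zero] at h1
        rw [hf₂.symm]; exact h1.resolve_left h2
      · have h1 := hu v
        rw [QuadraticMap.polarBilin_apply_apply, hp, mul_eq_zero] at h1
        exact h1.resolve_left h2
    obtain ⟨z, hz0, hz⟩ := OrthAut.exists_singular_three hn2 h2 (by rw [Fintype.card_fin]; exact hb)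
    exact ⟨z, hz0, hz⟩
  obtain ⟨z₁, hz₁, hz₁s⟩ : ∃ z₁, f₂ z₀ z₁ = 0 ∧ z₁ ∉ F ∙ z₀ := by
    by_contra hno
    push Not at hno
    have h1 := Submodule.finrank_mono (show LinearMap.ker (B₂ z₀) ≤ F ∙ z₀ from fun v hv => hno v hv)
    have h2' := (B₂ z₀).finrank_range_add_finrank_ker
    have h3' := Submodule.finrank_le (LinearMap.range (B₂ z₀))
    rw [Module.finrank_fintype_fun_eq_card, Fintype.card_fin] at h2'
    rw [finrank_self] at h3'
    rw [finrank_span_singleton hz₀0] at h1
    omega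
  set a := L 0 z₀ with ha
  set a' := L 0 z₁ with ha'
  have hQa : Q a = 0 := by
    have h1 := hform 0 0 z₀ z₀
    rw [hz₀, mul_zero, mul_zero, OrthAut.polar_self2, mul_eq_zero] at h1
    exact h1.resolve_left h2
  have haa' : B a a' = 0 := by rw [hform, hz₁, mul_zero, mul_zero]
  have ha0 : a ∈ D 0 := ⟨z₀, rfl⟩
  have ha'0 : a' ∈ D 0 := ⟨z₁, rfl⟩
  obtain ⟨g, hg, hgx⟩ := exists_siegel hQ (tri_of_card hQ h7) hQa haa'
  have hfix : ∀ l, l ≠ 0 → ∀ z, (g : Mn) *ᵥ L l z = L l z := fun l hl z => by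
    rw [hgx, horth 0 l hl.symm _ ha0 _ ⟨z, rfl⟩, horth 0 l hl.symm _ ha'0 _ ⟨z, rfl⟩]
    simp
  refine ⟨g, ⟨⟨1, fun l => hmapD g l _ fun z => ?_⟩, hg⟩, fun h => ?_⟩
  · rw [Equiv.Perm.one_apply]
    by_cases hl : l = 0
    · subst hl
      rw [hgx]
      exact sub_mem (sub_mem (add_mem ⟨z, rfl⟩ (Submodule.smul_mem _ _ ha'0)) (Submodule.smul_mem _ _ ha0))
        (Submodule.smul_mem _ _ ha0)
    · rw [hfix l hl]; exact ⟨z, rfl⟩
  · obtain ⟨A, A₂, hgT⟩ := hgT' g h
    have hl1 : (1 : Fin 3) ≠ 0 := by decide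
    have h1 : ∀ z i j, ((A : Matrix (Fin 3) (Fin 3) F) *ᵥ w 1) i * ((A₂ : Matrix (Fin b) (Fin b) F) *ᵥ z) j =
        w 1 i * z j := fun z => hTinj _ _ _ _ ((hgT _ _).symm.trans (hfix 1 hl1 z))
    have hw0 : w 1 ≠ 0 := fun h0 => hδ (by
      have := hw 1 1
      rw [if_pos rfl, h0] at this
      rw [← this, show f₁ 0 0 = B₁ 0 0 from rfl, map_zero])
    obtain ⟨i, hi⟩ := Function.ne_iff.1 hw0
    have hA0 : ((A : Matrix (Fin 3) (Fin 3) F) *ᵥ w 1) i ≠ 0 := fun h0 => by
      have := h1 (Pi.single ⟨0, by omega⟩ 1) i ⟨0, by omega⟩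
      rw [h0, zero_mul, Pi.single_eq_same, mul_one] at this
      exact hi this.symm
    obtain ⟨s, hsc⟩ : ∃ s : F, ∀ z, (A₂ : Matrix (Fin b) (Fin b) F) *ᵥ z = s • z :=
      ⟨(((A : Matrix (Fin 3) (Fin 3) F) *ᵥ w 1) i)⁻¹ * w 1 i, fun z => funext fun j => by
        rw [Pi.smul_apply, smul_eq_mul, mul_assoc, ← h1 z i j, inv_mul_cancel_left₀ hA0]⟩
    have hga : (g : Mn) *ᵥ a = a := by
      rw [hgx, OrthAut.polar_self' hQa, QuadraticMap.polar_comm _ a' a, haa']
      simp
    have h0 : ∀ i j, ((A : Matrix (Fin 3) (Fin 3) F) *ᵥ w 0) i * (s * z₀ j) = w 0 i * z₀ j := fun i j => by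
      have := hTinj _ _ _ _ ((hgT _ _).symm.trans hga) i j
      rwa [hsc] at this
    obtain ⟨j₀, hj₀⟩ := Function.ne_iff.1 hz₀0
    have hall0 : ∀ z, (g : Mn) *ᵥ L 0 z = L 0 z := fun z => by
      show (g : Mn) *ᵥ T (w 0) z = T (w 0) z
      rw [hgT, hsc]
      simp only [T]
      congr 1
      funext p
      simp only [Function.comp_apply, Pi.smul_apply, smul_eq_mul]
      have h4 : ((A : Matrix (Fin 3) (Fin 3) F) *ᵥ w 0) (e p).1 * s = w 0 (e p).1 :=
        mul_right_cancel₀ hj₀ (by rw [mul_assoc]; exact h0 _ _)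
      rw [← mul_assoc, h4]
    obtain ⟨z, hz⟩ : ∃ z, B a (L 0 z) ≠ 0 := by
      by_contra hno
      push Not at hno
      exact hz₀0 (hnd 0 z₀ hno)
    have h5 := hall0 z
    rw [hgx] at h5
    apply hz₁s
    have h6 : B a (L 0 z) • a' = (B a' (L 0 z) + Q a' * B a (L 0 z)) • a := by
      rw [add_smul, ← sub_eq_zero]
      refine Eq.trans ?_ (sub_eq_zero.2 h5)
      abel
    rw [ha', ha, ← map_smul, ← map_smul] at h6
    have h7' := hinjL 0 h6
    exact Submodule.mem_span_singleton.2 ⟨(B a (L 0 z))⁻¹ * (B a' (L 0 z) + Q a' * B a (L 0 z)), by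
      rw [← smul_smul]
      erw [← h7']
      rw [smul_smul, inv_mul_cancel₀ hz, one_smul]⟩

end Cfsg.Agent.Classical.AschOrthTwo
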