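import Cfsg.Agent.Lib.Classical.AschUnitSmall
import Cfsg.Agent.Lib.Classical.AschLinear
import Cfsg.Agent.Lib.Classical.AschFormQuad

/-!
Aschbacher's theorem for subgroups of the unitary group.
-/

set_option autoImplicit false
set_option linter.unusedSectionVars false
set_option linter.unusedFintypeInType false
set_option linter.unusedDecidableInType false

namespace Cfsg.Agent.Classical.Asch

open Matrix Module Cfsg.Geo
open scoped Kronecker Pointwise commutatorElement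

variable {F : Type*} [Field F] [Fintype F] {σ : F ≃+* F}

theorem mem_subfieldSubgroup_of {ι : Type} [Fintype ι] [DecidableEq ι] {F₁ : Subfield F} {P g k : GL ι F} {d : Fˣ}
    (hk : ∀ i j, (k : Matrix ι ι F) i j ∈ F₁) (h : P⁻¹ * g * P = Matrix.GeneralLinearGroup.scalar ι d * k) :
    g ∈ subfieldSubgroup F₁ P := by
  let k₀ : Matrix ι ι F₁ := fun i j => ⟨_, hk i j⟩
  have hk₀ : k₀.map F₁.subtype = (k : Matrix ι ι F) := rfl
  have hdet : k₀.det ≠ 0 := fun h0 => by
    have h1 := congrArg F₁.subtype h0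
    rw [RingHom.map_det, map_zero, RingHom.mapMatrix_apply, hk₀] at h1
    exact ((Matrix.isUnit_iff_isUnit_det _).1 k.isUnit).ne_zero h1
  refine ⟨Matrix.GeneralLinearGroup.scalar ι d * k, ?_, ?_⟩
  · refine Subgroup.mul_mem _ (Subgroup.mem_sup_right ((mem_scalars_iff _).2 ⟨d, ?_⟩))
      (Subgroup.mem_sup_left ⟨Matrix.GeneralLinearGroup.mkOfDetNeZero k₀ hdet, Units.ext hk₀⟩)
    rw [Matrix.GeneralLinearGroup.coe_scalar, Matrix.scalar_apply, Matrix.smul_one_eq_diagonal]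
  · show P * (Matrix.GeneralLinearGroup.scalar ι d * k) * P⁻¹ = g
    rw [← h]
    group

/-- Elements of a tensor power of a two-dimensional space respect the product of the alternating forms. -/
theorem power_two_skew {t : ℕ} {x : GL (Fin t → Fin 2) F} (hx : x ∈ tensorWreathStandard 2 t F) :
    ∃ d : Fˣ, (x : Matrix (Fin t → Fin 2) (Fin t → Fin 2) F)ᵀ *
      ((pureMat fun _ : Fin t => (!![0, 1; -1, 0] : Matrix (Fin 2) (Fin 2) F)) *
        (x : Matrix (Fin t → Fin 2) (Fin t → Fin 2) F)) =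
      (d : F) • pureMat fun _ : Fin t => (!![0, 1; -1, 0] : Matrix (Fin 2) (Fin 2) F) := by
  classical
  set E := pureMat fun _ : Fin t => (!![0, 1; -1, 0] : Matrix (Fin 2) (Fin 2) F) with hE
  induction hx using Subgroup.closure_induction with
  | mem x hx =>
    rcases hx with ⟨gs, hgs⟩ | ⟨π, hπ⟩
    · have hx' : (x : Matrix (Fin t → Fin 2) (Fin t → Fin 2) F) =
          pureMat fun i => (gs i : Matrix (Fin 2) (Fin 2) F) := Matrix.ext hgs
      refine ⟨∏ i, Matrix.GeneralLinearGroup.det (gs i), ?_⟩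
      rw [hx', hE, pureMat_transpose, pureMat_mul, pureMat_mul, Units.coe_prod, ← pureMat_smul]
      congr 1
      funext i
      ext a b
      fin_cases a <;> fin_cases b <;>
        simp [Matrix.mul_apply, Fin.sum_univ_two, Matrix.det_fin_two, Matrix.vecMul, dotProduct] <;> ring
    · refine ⟨1, ?_⟩
      rw [Units.val_one, one_smul]
      have hx' : (x : Matrix (Fin t → Fin 2) (Fin t → Fin 2) F) = permMat π := Matrix.ext hπ
      rw [hx']
      ext a b
      rw [Matrix.mul_apply, Finset.sum_eq_single (a ∘ π.symm) (fun w _ hw => ?_)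
        (fun h => absurd (Finset.mem_univ _) h), Matrix.mul_apply,
        Finset.sum_eq_single (b ∘ π.symm) (fun w _ hw => ?_) (fun h => absurd (Finset.mem_univ _) h)]
      · have e1 : ∀ w : Fin t → Fin 2, w = w ∘ π.symm ∘ π := fun w => by ext l; simp
        simp only [permMat, Matrix.transpose_apply, Matrix.of_apply, Function.comp_assoc, ← e1, if_true, one_mul,
          mul_one, hE, pureMat, Function.comp_apply]
        exact Equiv.prod_comp π.symm fun i => (!![0, 1; -1, 0] : Matrix (Fin 2) (Fin 2) F) (a i) (b i)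
      · have : ¬ b = w ∘ π := fun h => hw (by rw [h]; ext l; simp)
        simp [permMat, this]
      · have : ¬ a = w ∘ π := fun h => hw (by rw [h]; ext l; simp)
        simp [permMat, this]
  | one => exact ⟨1, by simp⟩
  | mul a b _ _ iha ihb =>
    obtain ⟨c, hc⟩ := iha
    obtain ⟨d, hd⟩ := ihb
    refine ⟨c * d, ?_⟩
    set A := (a : Matrix (Fin t → Fin 2) (Fin t → Fin 2) F)
    set B := (b : Matrix (Fin t → Fin 2) (Fin t → Fin 2) F)
    rw [Units.val_mul, Matrix.transpose_mul, show Bᵀ * Aᵀ * (E * (A * B)) = Bᵀ * ((Aᵀ * (E * A)) * B) by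
      simp [mul_assoc], hc, Matrix.smul_mul, Matrix.mul_smul, hd, smul_smul, Units.val_mul]
  | inv a _ iha =>
    obtain ⟨c, hc⟩ := iha
    refine ⟨c⁻¹, ?_⟩
    set A := (a : Matrix (Fin t → Fin 2) (Fin t → Fin 2) F)
    set A' := ((a⁻¹ : GL (Fin t → Fin 2) F) : Matrix (Fin t → Fin 2) (Fin t → Fin 2) F)
    have h1 : A * A' = 1 := Units.mul_inv a
    have h3 : A'ᵀ * (Aᵀ * (E * A)) * A' = A'ᵀ * ((c : F) • E) * A' := by rw [hc]
    rw [show A'ᵀ * (Aᵀ * (E * A)) * A' = (A * A')ᵀ * (E * (A * A')) by simp [Matrix.transpose_mul, mul_assoc], h1,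
      Matrix.transpose_one, one_mul, mul_one, Matrix.mul_smul, Matrix.smul_mul, mul_assoc] at h3
    conv_rhs => rw [h3]
    rw [smul_smul, Units.inv_mul, one_smul]

set_option maxHeartbeats 800000 in
/-- Isometries of a tensor power of a two-dimensional hermitian space are rational up to scalars. -/
theorem ratCase_of_power_two {ι : Type} [Fintype ι] [DecidableEq ι] {G : Matrix ι ι F}
    (hne : σ ≠ RingEquiv.refl F) (hinv : ∀ a, σ (σ a) = a) {H : Subgroup (GL ι F)} (hH : Fix σ H G) {t : ℕ}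
    {e : ι ≃ (Fin t → Fin 2)} {P : GL ι F} {c : F} (hc : c ≠ 0)
    (hgram : pull σ G e P = c • (1 : Matrix (Fin t → Fin 2) (Fin t → Fin 2) F))
    (hle : H ≤ tensorWreathSubgroup 2 t e P) : RatCase σ G H := by
  classical
  haveI : Nonempty ι := ⟨e.symm fun _ => 0⟩
  let τ : RingAut F := σ
  have hτ1 : τ ≠ 1 := fun h => hne h
  haveI : Fact (Nat.Prime 2) := ⟨Nat.prime_two⟩
  have hord : orderOf τ = 2 := orderOf_eq_prime (RingEquiv.ext hinv) hτ1
  let εm : Matrix (Fin 2) (Fin 2) F := !![0, 1; -1, 0]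
  let εu : GL (Fin 2) F := ⟨εm, !![0, -1; 1, 0],
    by ext i j; fin_cases i <;> fin_cases j <;> simp [εm],
    by ext i j; fin_cases i <;> fin_cases j <;> simp [εm]⟩
  obtain ⟨g, hg, -⟩ := pure_mem_standard (F := F) (fun _ : Fin t => εu)
  change (g : Matrix (Fin t → Fin 2) (Fin t → Fin 2) F) = pureMat fun _ => εm at hg
  have hεσ : εm.map σ = εm := by ext i j; fin_cases i <;> fin_cases j <;> simp [εm]
  have hgσ : (g : Matrix (Fin t → Fin 2) (Fin t → Fin 2) F).map σ = g := by rw [hg, pureMat_map, hεσ]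
  have hgT : (g : Matrix (Fin t → Fin 2) (Fin t → Fin 2) F)ᵀ = ((-1 : F) ^ t) • (g : Matrix _ _ F) := by
    rw [hg, pureMat_transpose, show (-1 : F) ^ t = ∏ _i : Fin t, (-1 : F) by simp, ← pureMat_smul]
    congr 1
    funext i
    ext a b
    fin_cases a <;> fin_cases b <;> simp [εm]
  have hgg : (g : Matrix (Fin t → Fin 2) (Fin t → Fin 2) F) * g = ((-1 : F) ^ t) • 1 := by
    rw [hg, pureMat_mul, show (-1 : F) ^ t = ∏ _i : Fin t, (-1 : F) by simp, ← pureMat_one, ← pureMat_smul]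
    congr 1
    funext i
    ext a b
    fin_cases a <;> fin_cases b <;> simp [εm]
  have hsq : g * g = Matrix.GeneralLinearGroup.scalar (Fin t → Fin 2) ((-1 : Fˣ) ^ t) := Units.ext (by
    rw [Units.val_mul, hgg, Matrix.GeneralLinearGroup.coe_scalar, Matrix.scalar_apply, Matrix.smul_one_eq_diagonal,
      Units.val_pow_eq_pow_val, Units.val_neg, Units.val_one])
  have hnorm : Descent.twistNorm τ g (orderOf τ) =
      Matrix.GeneralLinearGroup.scalar (Fin t → Fin 2) ((-1 : Fˣ) ^ t) := by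
    rw [hord]
    show g * Descent.gmap τ (g * Descent.gmap τ 1) = _
    rw [map_one, mul_one, show Descent.gmap τ g = g from Units.ext hgσ, hsq]
  obtain ⟨μ, y, hy⟩ := Descent.exists_coboundary_scalar τ g hnorm
  have hσy : Descent.gmap τ y = g⁻¹ * (Matrix.GeneralLinearGroup.scalar (Fin t → Fin 2) μ * y) := by
    rw [eq_inv_mul_iff_mul_eq, hy]
    group
  let P' : GL ι F := P * glReindex e.symm y
  obtain ⟨F₁, r, hr, hle₁, hcard⟩ := exists_prime_index (fixField_ne_top hτ1)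
  set Y : Matrix (Fin t → Fin 2) (Fin t → Fin 2) F := (y : Matrix (Fin t → Fin 2) (Fin t → Fin 2) F) with hY
  set M : Matrix (Fin t → Fin 2) (Fin t → Fin 2) F := Yᵀ * Y.map σ with hM
  have hMsymm : Mᵀ = ((-1 : F) ^ t) • M := by
    have h1 : Y.map σ = ((g⁻¹ : GL (Fin t → Fin 2) F) : Matrix _ _ F) * ((μ : F) • Y) := by
      have := congrArg (fun u : GL (Fin t → Fin 2) F => (u : Matrix (Fin t → Fin 2) (Fin t → Fin 2) F)) hσy
      simp only [Units.val_mul, Matrix.GeneralLinearGroup.coe_scalar, Matrix.scalar_apply,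
        ← Matrix.smul_one_eq_diagonal, Matrix.smul_mul, one_mul] at this
      exact this
    have h2 : (((g⁻¹ : GL (Fin t → Fin 2) F) : Matrix (Fin t → Fin 2) (Fin t → Fin 2) F))ᵀ =
        ((-1 : F) ^ t) • ((g⁻¹ : GL (Fin t → Fin 2) F) : Matrix _ _ F) := by
      have hgi : ((g⁻¹ : GL (Fin t → Fin 2) F) : Matrix (Fin t → Fin 2) (Fin t → Fin 2) F) =
          ((-1 : F) ^ t) • (g : Matrix _ _ F) := by
        refine g.isUnit.mul_left_cancel ?_
        rw [Units.mul_inv, Matrix.mul_smul, hgg, smul_smul, ← mul_pow, neg_one_mul, neg_neg, one_pow, one_smul]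
      rw [hgi, Matrix.transpose_smul, hgT]
    rw [hM, h1, Matrix.transpose_mul, Matrix.transpose_transpose, Matrix.transpose_mul, h2, Matrix.transpose_smul]
    simp only [Matrix.mul_smul, Matrix.smul_mul, mul_assoc, smul_smul]
  have hMherm : Mᵀ.map σ = M := by
    rw [hM, Matrix.transpose_mul, Matrix.transpose_transpose, Matrix.map_mul,
      show ((Y.map σ)ᵀ).map σ = Yᵀ by ext i j; simp [hinv]]
  obtain ⟨ζ₀, hζ₀, hζσ⟩ : ∃ ζ₀ : F, ζ₀ ≠ 0 ∧ σ ζ₀ * (-1) ^ t = ζ₀ := by
    rcases neg_one_pow_eq_or F t with h | h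
    · exact ⟨1, one_ne_zero, by rw [h, map_one, one_mul]⟩
    · obtain ⟨x, hx⟩ := exists_moved hne
      exact ⟨x - σ x, fun h0 => hx (sub_eq_zero.1 h0).symm, by rw [h, map_sub, hinv]; ring⟩
  refine ⟨F₁, r, P', ζ₀ * c⁻¹, hr, hcard, mul_ne_zero hζ₀ (inv_ne_zero hc), fun i j => hle₁ ?_, fun x hx => ?_⟩
  · have hP' : ((P' : GL ι F) : Matrix ι ι F) = (P : Matrix ι ι F) * Matrix.reindexAlgEquiv F F e.symm Y := rfl
    have h1 : Matrix.reindexAlgEquiv F F e ((P' : Matrix ι ι F)ᵀ * (G * (P' : Matrix ι ι F).map σ)) = c • M := by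
      set R := Matrix.reindexAlgEquiv F F e.symm Y with hR
      rw [hP', Matrix.transpose_mul, Matrix.map_mul,
        show Rᵀ * (P : Matrix ι ι F)ᵀ * (G * ((P : Matrix ι ι F).map σ * R.map σ)) =
          Rᵀ * (((P : Matrix ι ι F)ᵀ * (G * (P : Matrix ι ι F).map σ)) * R.map σ) by simp [mul_assoc],
        map_mul, map_mul,
        show Matrix.reindexAlgEquiv F F e Rᵀ = Yᵀ by ext i j; simp [hR, Matrix.reindexAlgEquiv_apply],
        show Matrix.reindexAlgEquiv F F e (R.map σ) = Y.map σ by ext i j; simp [hR, Matrix.reindexAlgEquiv_apply],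
        show Matrix.reindexAlgEquiv F F e ((P : Matrix ι ι F)ᵀ * (G * (P : Matrix ι ι F).map σ)) = c • 1 from hgram,
        Matrix.smul_mul, one_mul, Matrix.mul_smul]
    have h2 : ((P' : Matrix ι ι F)ᵀ * (G * (P' : Matrix ι ι F).map σ)) i j = c * M (e i) (e j) := by
      have := congrFun (congrFun h1 (e i)) (e j)
      simpa [Matrix.reindexAlgEquiv_apply] using this
    show σ _ = _
    have e1 : σ (M (e i) (e j)) = M (e j) (e i) := by
      have := congrFun (congrFun hMherm (e j)) (e i)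
      simpa using this
    have e2 : M (e j) (e i) = (-1 : F) ^ t * M (e i) (e j) := congrFun (congrFun hMsymm (e i)) (e j)
    rw [h2, mul_assoc, inv_mul_cancel_left₀ hc, map_mul, e1, e2, ← mul_assoc, hζσ]
    rfl
  obtain ⟨z, hzmem, hxz⟩ := exists_mem_wreath (hle hx)
  have hiso : (z : Matrix (Fin t → Fin 2) (Fin t → Fin 2) F)ᵀ *
      (z : Matrix (Fin t → Fin 2) (Fin t → Fin 2) F).map σ = 1 := by
    have h1 := hH x hx
    rw [hxz] at h1
    have h2 := pull_congr σ G e P (z : Matrix (Fin t → Fin 2) (Fin t → Fin 2) F)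
    rw [h1, hgram, Matrix.smul_mul, one_mul, Matrix.mul_smul] at h2
    exact (smul_right_injective _ hc h2).symm
  have hiso' := mul_eq_one_comm.1 hiso
  obtain ⟨d, hd⟩ := power_two_skew hzmem
  rw [← hg] at hd
  have h3 : (g : Matrix (Fin t → Fin 2) (Fin t → Fin 2) F) * z =
      (d : F) • ((z : Matrix (Fin t → Fin 2) (Fin t → Fin 2) F).map σ * g) := by
    calc (g : Matrix (Fin t → Fin 2) (Fin t → Fin 2) F) * z
        = ((z : Matrix (Fin t → Fin 2) (Fin t → Fin 2) F).map σ * (z : Matrix (Fin t → Fin 2) (Fin t → Fin 2) F)ᵀ) * ((g : Matrix (Fin t → Fin 2) (Fin t → Fin 2) F) * z) := by rw [hiso', one_mul]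
      _ = _ := by rw [mul_assoc, hd, Matrix.mul_smul]
  set sd : Fˣ := Units.map σ.toMonoidHom d with hsd
  have h4 : g * Descent.gmap τ z = Matrix.GeneralLinearGroup.scalar (Fin t → Fin 2) sd * (z * g) := by
    apply Units.ext
    have h5 := congrArg (fun M : Matrix (Fin t → Fin 2) (Fin t → Fin 2) F => M.map σ) h3
    simp only [Matrix.map_mul, hgσ, map_smul_mat] at h5
    rw [show ((z : Matrix (Fin t → Fin 2) (Fin t → Fin 2) F).map σ).map σ = z by ext i j; simp [hinv]] at h5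
    show (g : Matrix (Fin t → Fin 2) (Fin t → Fin 2) F) * (z : Matrix (Fin t → Fin 2) (Fin t → Fin 2) F).map σ = _
    rw [h5, Units.val_mul, Units.val_mul, Matrix.GeneralLinearGroup.coe_scalar, Matrix.scalar_apply,
      ← Matrix.smul_one_eq_diagonal, Matrix.smul_mul, one_mul]
    rfl
  set w := y⁻¹ * z * y with hw
  have h5 : Descent.gmap τ w = Matrix.GeneralLinearGroup.scalar (Fin t → Fin 2) sd⁻¹ * w ∨
      Descent.gmap τ w = Matrix.GeneralLinearGroup.scalar (Fin t → Fin 2) sd * w := by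
    have hz' : Descent.gmap τ z = g⁻¹ * (Matrix.GeneralLinearGroup.scalar (Fin t → Fin 2) sd * (z * g)) := by
      rw [← h4, inv_mul_cancel_left]
    right
    rw [hw, map_mul, map_mul, map_inv, hσy, hz']
    have c1 : ∀ u : GL (Fin t → Fin 2) F, Matrix.GeneralLinearGroup.scalar (Fin t → Fin 2) μ * u =
        u * Matrix.GeneralLinearGroup.scalar (Fin t → Fin 2) μ := Descent.scalar_comm μ
    have c2 : ∀ u : GL (Fin t → Fin 2) F, Matrix.GeneralLinearGroup.scalar (Fin t → Fin 2) sd * u =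
        u * Matrix.GeneralLinearGroup.scalar (Fin t → Fin 2) sd := Descent.scalar_comm sd
    rw [c1 y, c2 (z * g), c2 (y⁻¹ * z * y)]
    calc (g⁻¹ * (y * Matrix.GeneralLinearGroup.scalar (Fin t → Fin 2) μ))⁻¹ *
          (g⁻¹ * (z * g * Matrix.GeneralLinearGroup.scalar (Fin t → Fin 2) sd)) *
          (g⁻¹ * (y * Matrix.GeneralLinearGroup.scalar (Fin t → Fin 2) μ))
        = (Matrix.GeneralLinearGroup.scalar (Fin t → Fin 2) μ)⁻¹ * (y⁻¹ * z * g *
            (Matrix.GeneralLinearGroup.scalar (Fin t → Fin 2) sd * g⁻¹) * y) *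
            Matrix.GeneralLinearGroup.scalar (Fin t → Fin 2) μ := by group
      _ = (Matrix.GeneralLinearGroup.scalar (Fin t → Fin 2) μ)⁻¹ * (y⁻¹ * z *
            (Matrix.GeneralLinearGroup.scalar (Fin t → Fin 2) sd * y)) *
            Matrix.GeneralLinearGroup.scalar (Fin t → Fin 2) μ := by rw [c2 g⁻¹]; group
      _ = _ := by
          rw [c2 y, mul_assoc _⁻¹, ← c1, inv_mul_cancel_left]
          group
  obtain ⟨d', k, hk, hwk⟩ : ∃ (d' : Fˣ) (k : GL (Fin t → Fin 2) F), Descent.gmap τ k = k ∧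
      w = Matrix.GeneralLinearGroup.scalar (Fin t → Fin 2) d' * k := by
    rcases h5 with h5 | h5 <;> exact Descent.exists_fixed_of_map_eq_smul τ w h5
  refine mem_subfieldSubgroup_of (k := glReindex e.symm k) (d := d') (fun i j => hle₁ ?_) ?_
  · show σ ((k : Matrix (Fin t → Fin 2) (Fin t → Fin 2) F) (e i) (e j)) = _
    exact congrFun (congrFun (congrArg (fun u : GL (Fin t → Fin 2) F => (u : Matrix (Fin t → Fin 2) (Fin t → Fin 2) F)) hk) (e i)) (e j)
  · have hxv : x = P * glReindex e.symm z * P⁻¹ := Units.ext hxz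
    rw [hxv, show P'⁻¹ * (P * glReindex e.symm z * P⁻¹) * P' = glReindex e.symm w by
      simp only [P', w, map_mul, map_inv]; group, hwk, map_mul]
    congr 1
    apply Units.ext
    show Matrix.reindexAlgEquiv F F e.symm _ = _
    rw [Matrix.GeneralLinearGroup.coe_scalar, Matrix.GeneralLinearGroup.coe_scalar, Matrix.scalar_apply,
      Matrix.scalar_apply, ← Matrix.smul_one_eq_diagonal, map_smul, map_one, Matrix.smul_one_eq_diagonal]

variable {n q : ℕ} {H : Subgroup (GL (Fin n) F)}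

/-- The first, second, fifth and sixth classes, with commutators and dimension in the sixth recorded. -/
def UnitPartialDim (n : ℕ) (F : Type*) [Field F] [Fintype F] (q : ℕ)
    (M : Subgroup (GL (Fin n) F)) : Prop :=
  let f := hermForm n F q
  let I := GU n F q
  (∃ W : Submodule F (Fin n → F), W ≠ ⊥ ∧ IsTotallySingularFor f W ∧ M = subspaceStabilizer W ⊓ I) ∨
  (∃ W : Submodule F (Fin n → F), W ≠ ⊥ ∧ IsNondegenerateOn f W ∧ 2 * Module.finrank F W < n ∧
      M = subspaceStabilizer W ⊓ I) ∨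
  (∃ (t k : ℕ) (D : Fin t → Submodule F (Fin n → F)), IsNondegenerateMDecomposition f k D ∧
      M = decompositionStabilizer D ⊓ I) ∨
  (∃ (k : ℕ) (D : Fin 2 → Submodule F (Fin n → F)), 2 * k = n ∧ IsMDecomposition k D ∧
      (∀ i, IsTotallySingularFor f (D i)) ∧ M = decompositionStabilizer D ⊓ I) ∨
  (∃ (F₀ : Subfield F) (r : ℕ) (P : GL (Fin n) F), r.Prime ∧ Odd r ∧ Fintype.card F = Nat.card F₀ ^ r ∧
      IsFormRationalStructure f F₀ 1 P ∧ M = subfieldSubgroup F₀ P ⊓ I) ∨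
  (∃ (F₀ : Subfield F) (P : GL (Fin n) F), Odd q ∧ Fintype.card F = Nat.card F₀ ^ 2 ∧
      IsFormRationalStructure f F₀ 1 P ∧ M = subfieldSubgroup F₀ P ⊓ I) ∨
  (∃ (F₀ : Subfield F) (P : GL (Fin n) F) (ζ : F), Even n ∧ Fintype.card F = Nat.card F₀ ^ 2 ∧ ζ ≠ 0 ∧
      ζ + ζ ^ q = 0 ∧ IsFormRationalStructure f F₀ ζ P ∧
      (∀ u : Fin n → F, (∀ i, u i ∈ F₀) → f ((P : Matrix (Fin n) (Fin n) F) *ᵥ u) ((P : Matrix (Fin n) (Fin n) F) *ᵥ u) = 0) ∧
      M = subfieldSubgroup F₀ P ⊓ I) ∨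
  (∃ (r : ℕ) (R : Subgroup (GL (Fin n) F)) (p e k : ℕ), IsSymplecticTypeGroup r R ∧
      ActsAbsolutelyIrreducibly (matrixSet R) ∧ R ≤ similarityGroup f ∧ r ≠ p ∧
      IsMinimalFieldFor (Nat.card (Subgroup.center R)) p e F ∧
      ((Odd r ∧ Nat.card (Subgroup.center R) = r ∧ 1 ≤ k ∧ Nat.card R = r ^ (1 + 2 * k)) ∨
       (r = 2 ∧ e = 2 ∧ Nat.card (Subgroup.center R) = 4 ∧ Nat.card R = 2 ^ (2 + 2 * k))) ∧
      Scal R ∧ n = r ^ k ∧ M = subgroupNormalizer R ⊓ I)

/-- The classes, with commutators and dimension in the sixth recorded. -/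
def UnitClassDim (n : ℕ) (F : Type*) [Field F] [Fintype F] (q : ℕ) (M : Subgroup (GL (Fin n) F)) : Prop :=
  let f := hermForm n F q
  let I := GU n F q
  UnitPartialDim n F q M ∨
  (∃ (r : ℕ) (K : Subalgebra F (Matrix (Fin n) (Fin n) F)), r.Prime ∧ Odd r ∧ IsFieldSubalgebra r K ∧
      IsAdjointClosedFor f K ∧ M = subalgebraNormalizer K ⊓ I) ∨
  (∃ (n₁ n₂ : ℕ) (e : Fin n ≃ Fin n₁ × Fin n₂) (P : GL (Fin n) F)
      (f₁ : (Fin n₁ → F) → (Fin n₁ → F) → F) (f₂ : (Fin n₂ → F) → (Fin n₂ → F) → F),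
      2 ≤ n₁ ∧ n₁ < n₂ ∧ IsUnitaryFormPow q f₁ ∧ IsUnitaryFormPow q f₂ ∧
      IsTensorFormStructure (fun x : F => x ^ q) f f₁ f₂ e P ∧ M = tensorProductSubgroup n₁ n₂ e P ⊓ I) ∨
  (∃ (k t : ℕ) (e : Fin n ≃ (Fin t → Fin k)) (P : GL (Fin n) F) (f₁ : (Fin k → F) → (Fin k → F) → F),
      3 ≤ k ∧ 2 ≤ t ∧ ¬ (q = 2 ∧ k = 3) ∧ IsUnitaryFormPow q f₁ ∧
      IsTensorPowerFormStructure (fun x : F => x ^ q) f f₁ e P ∧ M = tensorWreathSubgroup k t e P ⊓ I)

theorem UnitClassDim.inClass {n q : ℕ} {M : Subgroup (GL (Fin n) F)} (h : UnitClassDim n F q M) :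
    InUnitaryClass n F q M := by
  rcases h with (h | h | h | h | h | h | h | ⟨r, R, p, e, k, h1, h2, h3, h4, h5, h6, -, -, hM⟩) | h
  · exact Or.inl (Or.inl h)
  · exact Or.inl (Or.inr (Or.inl h))
  · exact Or.inl (Or.inr (Or.inr (Or.inl h)))
  · exact Or.inl (Or.inr (Or.inr (Or.inr (Or.inl h))))
  · exact Or.inl (Or.inr (Or.inr (Or.inr (Or.inr (Or.inl h)))))
  · exact Or.inl (Or.inr (Or.inr (Or.inr (Or.inr (Or.inr (Or.inl h))))))
  · exact Or.inl (Or.inr (Or.inr (Or.inr (Or.inr (Or.inr (Or.inr (Or.inl h)))))))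
  · exact Or.inl (Or.inr (Or.inr (Or.inr (Or.inr (Or.inr (Or.inr (Or.inr
      ⟨r, R, p, e, k, h1, h2, h3, h4, h5, h6, hM⟩)))))))
  · exact Or.inr h

/-- The goal of the unitary theorem, with dimensions recorded. -/
def UnitGoal (q : ℕ) (H : Subgroup (GL (Fin n) F)) : Prop :=
  (∃ M : Subgroup (GL (Fin n) F), UnitClassDim n F q M ∧ H ≤ M) ∨ InUnitaryResidualClass H

theorem fix_of_le_GU (hσ : ∀ a, σ a = a ^ q) (hH : H ≤ GU n F q) : Fix σ H 1 :=
  fun _ hx => (mem_GU_gram hσ).1 (hH hx)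

theorem unit_goal_skewPair (hσ : ∀ a, σ a = a ^ q) (hinv : ∀ a, σ (σ a) = a) (hH : H ≤ GU n F q) (hirr : Irr H)
    (h : SkewPair σ 1 H) : UnitGoal q H := by
  obtain ⟨k, D, hk, hD, hts, hle⟩ := pair_decomp (refl_one hinv) (fix_of_le_GU hσ hH).sims hirr h
  refine Or.inl ⟨_, Or.inl (Or.inr (Or.inr (Or.inr (Or.inl ⟨k, D, by rw [hk, Fintype.card_fin], hD, fun i => ?_, rfl⟩)))),
    le_inf hle hH⟩
  rw [hermForm_gram hσ]; exact hts i

theorem unit_goal_field [Nonempty (Fin n)] (hσ : ∀ a, σ a = a ^ q) (hne : σ ≠ RingEquiv.refl F)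
    (hinv : ∀ a, σ (σ a) = a) (hH : H ≤ GU n F q) (h : FieldCase σ 1 H) : UnitGoal q H := by
  obtain ⟨r, K, hr, hK, hcl, hle, -⟩ := h
  have hr2 := (adj_field (refl_one hinv) hr hK hcl).2 hne
  refine Or.inl ⟨_, Or.inr (Or.inl ⟨r, K, hr, hr.odd_of_ne_two hr2, hK, fun k hk => ⟨_, hcl k hk, fun u v => ?_⟩,
    rfl⟩), le_inf hle hH⟩
  rw [hermForm_gram hσ]
  exact (refl_one hinv).form_left k u v

theorem unit_goal_rational [Nonempty (Fin n)] (hn : 2 ≤ n) (hF : Fintype.card F = q ^ 2) (hσ : ∀ a, σ a = a ^ q)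
    (hne : σ ≠ RingEquiv.refl F) (hinv : ∀ a, σ (σ a) = a) (hH : H ≤ GU n F q) (hirr : Irr H)
    (h : RatCase σ 1 H) : UnitGoal q H := by
  classical
  obtain ⟨F₁, r, P, ζ, hr, hcard, hζ, hmem, hle⟩ := h
  set M : Matrix (Fin n) (Fin n) F :=
    (P : Matrix (Fin n) (Fin n) F)ᵀ * (1 * (P : Matrix (Fin n) (Fin n) F).map σ) with hMdef
  have hMh : ∀ i j, σ (M i j) = M j i := fun i j => by
    simp only [hMdef, one_mul, Matrix.mul_apply, Matrix.transpose_apply, Matrix.map_apply, map_sum, map_mul, hinv]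
    exact Finset.sum_congr rfl fun l _ => mul_comm _ _
  have hMu : IsUnit M := ((Matrix.isUnit_transpose _).2 P.isUnit).mul
    (isUnit_one.mul (P.isUnit.map σ.toRingHom.mapMatrix))
  obtain ⟨i₀, j₀, hij⟩ := exists_entry (unit_ne_zero hMu)
  obtain ⟨u, hu, hu1, hζu⟩ : ∃ u ∈ F₁, u * σ u = 1 ∧ σ ζ = u * ζ := by
    have h1 : σ (ζ * M i₀ j₀) / (ζ * M j₀ i₀) = σ ζ / ζ := by
      rw [map_mul, hMh]
      have : M j₀ i₀ ≠ 0 := fun h0 => hij (by rw [← hinv (M i₀ j₀), hMh, h0, map_zero])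
      field_simp
    refine ⟨σ ζ / ζ, h1 ▸ F₁.div_mem (map_mem_subfield σ (hmem i₀ j₀)) (hmem j₀ i₀), ?_, ?_⟩
    · have : σ ζ ≠ 0 := by simpa using hζ
      rw [map_div₀, hinv]
      field_simp
    · field_simp
  have hstr : ∀ (ζ' : F) (P' : GL (Fin n) F),
      (∀ i j, ζ' * ((P' : Matrix (Fin n) (Fin n) F)ᵀ * ((1 : Matrix (Fin n) (Fin n) F) * (P' : Matrix (Fin n) (Fin n) F).map σ)) i j ∈ F₁) →
      IsFormRationalStructure (hermForm n F q) F₁ ζ' P' := by
    intro ζ' P' hm u v hu' hv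
    rw [hermForm_gram hσ, formOfGram_mulVec, formOfGram]
    simp only [Finset.mul_sum]
    refine F₁.sum_mem fun i _ => F₁.sum_mem fun j _ => ?_
    rw [show ∀ a b c : F, ζ' * (a * b * c) = a * (ζ' * b) * c from fun a b c => by ring]
    exact F₁.mul_mem (F₁.mul_mem (hu' i) (hm i j)) (map_mem_subfield σ (hv j))
  have hrescale : ∀ ζ' : F, ζ' ≠ 0 → σ ζ' = ζ' → (∀ i j, ζ' * M i j ∈ F₁) →
      ∃ P' : GL (Fin n) F, subfieldSubgroup F₁ P' = subfieldSubgroup F₁ P ∧
        IsFormRationalStructure (hermForm n F q) F₁ 1 P' := by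
    intro ζ' hζ'0 hfix hm
    obtain ⟨l, hl⟩ := exists_norm_eq (σ := (σ : F →+* F))
      (fun he => hne (RingEquiv.ext (RingHom.congr_fun he))) hinv hfix hζ'0
    have hl' : l * σ l = ζ' := hl
    have hl0 : l ≠ 0 := fun h0 => hζ'0 (by rw [← hl', h0, zero_mul])
    refine ⟨sc (Units.mk0 l hl0) * P, ?_, hstr 1 _ fun i j => ?_⟩
    · show Subgroup.map _ _ = Subgroup.map _ _
      congr 1
      refine MonoidHom.ext fun a => ?_
      show sc (Units.mk0 l hl0) * P * a * (sc (Units.mk0 l hl0) * P)⁻¹ = P * a * P⁻¹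
      rw [_root_.mul_inv_rev, ← mul_assoc, mul_assoc (sc _) P a, mul_assoc (sc _) (P * a) P⁻¹,
        (sc_comm _ (P * a * P⁻¹)).eq, mul_inv_cancel_right]
    · rw [Units.val_mul, sc_coe, Units.val_mk0, Matrix.smul_mul, one_mul, Matrix.transpose_smul, map_smul_mat, one_mul,
        one_mul, Matrix.smul_mul, Matrix.mul_smul, smul_smul, hl', Matrix.smul_apply, smul_eq_mul]
      have := hm i j
      rwa [hMdef, one_mul] at this
  have hclassOdd : Odd r ∨ Odd q → ∀ ζ' : F, ζ' ≠ 0 → σ ζ' = ζ' → (∀ i j, ζ' * M i j ∈ F₁) → r = 2 ∨ Odd r →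
      UnitGoal q H := by
    intro hor ζ' h0 hfix hm h2or
    obtain ⟨P', hP', hstr'⟩ := hrescale ζ' h0 hfix hm
    by_cases hrodd : Odd r
    · exact Or.inl ⟨_, Or.inl (Or.inr (Or.inr (Or.inr (Or.inr (Or.inl ⟨F₁, r, P', hr, hrodd, hcard, hstr', rfl⟩))))),
        le_inf (hP'.symm ▸ hle) hH⟩
    · have hr2 := h2or.resolve_right hrodd
      subst hr2
      exact Or.inl ⟨_, Or.inl (Or.inr (Or.inr (Or.inr (Or.inr (Or.inr (Or.inl
        ⟨F₁, P', hor.resolve_left hrodd, hcard, hstr', rfl⟩)))))), le_inf (hP'.symm ▸ hle) hH⟩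
  rcases hr.eq_two_or_odd' with rfl | hrodd
  swap
  · -- odd index: make the multiplier fixed
    obtain ⟨x, hxF, hx⟩ : ∃ x ∈ F₁, σ x ≠ x := by
      by_contra hno
      push Not at hno
      obtain ⟨j, hj⟩ := hrodd
      have hQ : Nat.card F₁ ^ r = q ^ 2 := by rw [← hcard, hF]
      haveI : Fintype F₁ := Fintype.ofFinite F₁
      obtain ⟨g, hg⟩ := IsCyclic.exists_ofOrder_eq_natCard (α := F₁ˣ)
      rw [Nat.card_units] at hg
      set Q := Nat.card F₁ with hQdef
      have hQ1 : 1 < Q := by rw [hQdef, Nat.card_eq_fintype_card]; exact Fintype.one_lt_card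
      obtain ⟨Q₁, hQ₁⟩ : ∃ Q₁, Q = Q₁ * Q₁ := by
        obtain ⟨p, hp⟩ := CharP.exists F
        haveI := hp
        haveI : CharP F₁ p := CharP.subring' F p F₁.toSubring
        obtain ⟨na, hp', hca⟩ := FiniteField.card F₁ p
        obtain ⟨a, haeq⟩ : ∃ a : ℕ, (na : ℕ) = a := ⟨_, rfl⟩
        rw [haeq] at hca
        obtain ⟨nb, hp'', hb'⟩ := FiniteField.card F p
        rw [hF] at hb'
        have hQa : Q = p ^ a := Nat.card_eq_fintype_card.trans hca
        obtain ⟨c, -, hc⟩ := (Nat.dvd_prime_pow hp').1 (hb' ▸ dvd_pow_self q two_ne_zero : q ∣ p ^ (nb : ℕ))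
        rw [hQa, hc, ← pow_mul, ← pow_mul] at hQ
        have h1 : a * r = c * 2 := Nat.pow_right_injective hp'.two_le hQ
        have h2 : Even a := by
          by_contra hodd
          rw [Nat.not_even_iff_odd] at hodd
          exact (Nat.not_even_iff_odd.2 (hodd.mul ⟨j, hj⟩)) (h1 ▸ ⟨c, by ring⟩)
        obtain ⟨a₁, ha₁⟩ := h2
        exact ⟨p ^ a₁, by rw [← pow_add, ← ha₁, hQa]⟩
      have hq : q = Q₁ ^ r := by
        have h1 : (Q₁ ^ r) ^ 2 = q ^ 2 := by rw [← hQ, hQ₁]; ring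
        exact (Nat.pow_left_injective two_ne_zero h1).symm
      have hfix : g ^ q = g := Units.ext (Subtype.ext (by
        have := hno ((g : F₁) : F) (g : F₁).2
        rw [hσ] at this
        simpa using this))
      have hred : g ^ q = g ^ Q₁ := by
        rw [hq, hj, pow_succ, pow_mul (g), pow_mul Q₁, pow_two, ← hQ₁]
        clear * - hg hQ1
        induction j with
        | zero => simp
        | succ j ih =>
          have hgQ : g ^ Q = g := by
            rw [show Q = (Q - 1) + 1 by omega, pow_succ, ← hg, pow_orderOf_eq_one, one_mul]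
          rw [pow_succ' Q, pow_mul, hgQ]
          exact ih
      have hQ₁1 : 1 < Q₁ := by nlinarith
      have h3 : g ^ (Q₁ - 1) = 1 := by
        refine mul_right_cancel (b := g) ?_
        rw [← pow_succ, Nat.sub_add_cancel hQ₁1.le, one_mul, ← hred, hfix]
      have h4 := Nat.le_of_dvd (by omega) (orderOf_dvd_of_pow_eq_one h3)
      rw [hg, hQ₁] at h4
      have : Q₁ * 2 ≤ Q₁ * Q₁ := Nat.mul_le_mul_left _ hQ₁1
      omega
    obtain ⟨v, hv, hv0, hvσ⟩ : ∃ v ∈ F₁, v ≠ 0 ∧ σ v * u = v := by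
      have key : ∀ a : F, σ (a + σ a * u) * u = a + σ a * u := fun a => by
        rw [map_add, map_mul, hinv]
        linear_combination a * hu1
      by_cases h0 : 1 + u = 0
      · exact ⟨x + σ x * u, F₁.add_mem hxF (F₁.mul_mem (map_mem_subfield σ hxF) hu),
          fun h1 => hx (by linear_combination σ x * h0 - h1), key x⟩
      · exact ⟨1 + σ 1 * u, F₁.add_mem F₁.one_mem (F₁.mul_mem (by rw [map_one]; exact F₁.one_mem) hu),
          by rwa [map_one, one_mul], key 1⟩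
    exact hclassOdd (Or.inl hrodd) (v * ζ) (mul_ne_zero hv0 hζ)
      (by rw [map_mul, hζu, ← mul_assoc, hvσ])
      (fun i j => by rw [mul_assoc]; exact F₁.mul_mem hv (hmem i j)) (Or.inr hrodd)
  -- index two
  have hfix1 : ∀ a ∈ F₁, σ a = a := fun a ha => by
    haveI : Fintype F₁ := Fintype.ofFinite F₁
    have hq : Fintype.card F₁ = q := by
      rw [Nat.card_eq_fintype_card, hF] at hcard
      exact (Nat.pow_left_injective two_ne_zero hcard).symm
    rw [hσ]
    simpa [hq] using congrArg (fun t : F₁ => (t : F)) (FiniteField.pow_card (⟨a, ha⟩ : F₁))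
  rw [hfix1 u hu] at hu1
  have hsym : ∀ i j, M j i * u = M i j := fun i j => by
    have h1 := hfix1 _ (hmem i j)
    rw [map_mul, hMh, hζu] at h1
    exact mul_left_cancel₀ hζ (by linear_combination h1)
  have hclassAlt : Even n → ζ + ζ ^ q = 0 → (∀ i, M i i = 0) → (∀ i j, M j i = -(M i j)) → UnitGoal q H := by
    intro hev hz hdiag hskew
    refine Or.inl ⟨_, Or.inl (Or.inr (Or.inr (Or.inr (Or.inr (Or.inr (Or.inr (Or.inl
      ⟨F₁, P, ζ, hev, hcard, hζ, hz, hstr ζ P hmem, fun w hw => ?_, rfl⟩))))))), le_inf hle hH⟩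
    rw [hermForm_gram hσ, formOfGram_mulVec]
    show formOfGram σ M w w = 0
    rw [formOfGram, ← Fintype.sum_prod_type']
    refine Finset.sum_involution (fun p _ => (p.2, p.1)) (fun p _ => ?_) (fun p _ hne' heq => ?_)
      (fun p _ => Finset.mem_univ _) fun p _ => rfl
    · rw [hskew p.1 p.2, hfix1 _ (hw p.2), hfix1 _ (hw p.1)]; ring
    · apply hne'
      have : p.2 = p.1 := congrArg Prod.fst heq
      rw [this, hdiag, mul_zero, zero_mul]
  have heven : (∀ i, M i i = 0) → (∀ i j, M j i = -(M i j)) → Even n := fun hdiag hskew => by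
    have halt : ∀ w : Fin n → F, w ⬝ᵥ (M *ᵥ w) = 0 := fun w => by
      simp only [dotProduct, Matrix.mulVec, Finset.mul_sum]
      rw [← Fintype.sum_prod_type']
      refine Finset.sum_involution (fun p _ => (p.2, p.1)) (fun p _ => ?_) (fun p _ hne' heq => ?_)
        (fun p _ => Finset.mem_univ _) fun p _ => rfl
      · rw [hskew p.1 p.2]; ring
      · apply hne'
        have : p.2 = p.1 := congrArg Prod.fst heq
        rw [this, hdiag, zero_mul, mul_zero]
    simpa using (symplectic_of_gram hMu (Matrix.ext hskew) halt).2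
  by_cases h2 : (2 : F) = 0
  · -- characteristic two
    have hneg : ∀ a : F, -a = a := fun a => by linear_combination (-a) * h2
    have hu' : u = 1 := by
      have : (u - 1) * (u - 1) = 0 := by linear_combination hu1 + (1 - u) * h2
      exact sub_eq_zero.1 (mul_self_eq_zero.1 this)
    have hsym' : ∀ i j, M j i = M i j := fun i j => by simpa [hu'] using hsym i j
    by_cases hdiag : ∀ i, M i i = 0
    · refine hclassAlt (heven hdiag fun i j => by rw [hneg, hsym' i j]) ?_ hdiag fun i j => by rw [hneg, hsym' i j]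
      rw [← hσ, hζu, hu', one_mul, ← two_mul, h2, zero_mul]
    · exfalso
      obtain ⟨w, hw, hwB⟩ := exists_diag_functional (D := M) h2 (fun i j => (hsym' i j).symm) hdiag
      refine (?_ : ¬ Irr H) hirr
      intro hirr'
      let Φ : (Fin n → F) →ₗ[F] F :=
        { toFun := fun v => ∑ i, w i * (((P⁻¹ : GL (Fin n) F) : Matrix (Fin n) (Fin n) F) *ᵥ v) i
          map_add' := fun a b => by simp [Matrix.mulVec_add, mul_add, Finset.sum_add_distrib]
          map_smul' := fun a b => by simp [Matrix.mulVec_smul, Finset.mul_sum, mul_left_comm] }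
      have hkey : ∀ g ∈ H, ∀ v, Φ v = 0 → Φ ((g : Matrix (Fin n) (Fin n) F) *ᵥ v) = 0 := by
        intro g hg v hv
        obtain ⟨k, hk, hgk⟩ := hle hg
        have hgk' : P * k * P⁻¹ = g := hgk
        obtain ⟨k₀, ⟨k₁, rfl⟩, z, hz, rfl⟩ := exists_mul_scalar hk
        obtain ⟨d, rfl⟩ := exists_sc hz
        set K := ((Matrix.GeneralLinearGroup.map (F₁.subtype : F₁ →+* F) k₁ : GL (Fin n) F) : Matrix (Fin n) (Fin n) F)
          with hKdef
        have hKfix : K.map σ = K := by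
          ext i j
          exact hfix1 _ ((k₁ : Matrix (Fin n) (Fin n) F₁) i j).2
        have hgM : (g : Matrix (Fin n) (Fin n) F) * (P : Matrix (Fin n) (Fin n) F) =
            (d : F) • ((P : Matrix (Fin n) (Fin n) F) * K) := by
          rw [← Units.val_mul, ← hgk', inv_mul_cancel_right, ← mul_assoc, Units.val_mul, Units.val_mul, sc_coe,
            Matrix.mul_smul, mul_one, hKdef]
        have hgiso : (g : Matrix (Fin n) (Fin n) F)ᵀ * (g : Matrix (Fin n) (Fin n) F).map σ = 1 := by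
          have := fix_of_le_GU hσ hH g hg
          rwa [one_mul] at this
        have hKiso : Kᵀ * (M * K) = ((d : F) * σ (d : F))⁻¹ • M := by
          have h1 : ((g : Matrix (Fin n) (Fin n) F) * (P : Matrix (Fin n) (Fin n) F))ᵀ *
              ((g : Matrix (Fin n) (Fin n) F) * (P : Matrix (Fin n) (Fin n) F)).map σ = M := by
            rw [hMdef, one_mul, Matrix.transpose_mul, Matrix.map_mul, mul_assoc, ← mul_assoc (_ᵀ) (Matrix.map _ _),
              hgiso, one_mul]
          rw [hgM, Matrix.transpose_smul, map_smul_mat, Matrix.smul_mul, Matrix.mul_smul, smul_smul,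
            Matrix.map_mul, hKfix, Matrix.transpose_mul, mul_assoc, ← mul_assoc (_ᵀ) (Matrix.map _ _) K] at h1
          conv_rhs => rw [← h1]
          rw [smul_smul, inv_mul_cancel₀ (mul_ne_zero d.ne_zero (by simpa using d.ne_zero)), one_smul, hMdef, one_mul]
        obtain ⟨l, hl⟩ := hwB K _ hKiso
        show ∑ i, w i * _ = (0 : F)
        have e1 : ((P⁻¹ : GL (Fin n) F) : Matrix (Fin n) (Fin n) F) *ᵥ ((g : Matrix (Fin n) (Fin n) F) *ᵥ v) =
            (d : F) • (K *ᵥ (((P⁻¹ : GL (Fin n) F) : Matrix (Fin n) (Fin n) F) *ᵥ v)) := by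
          rw [Matrix.mulVec_mulVec, Matrix.mulVec_mulVec, ← Matrix.smul_mulVec]
          congr 1
          calc ((P⁻¹ : GL (Fin n) F) : Matrix (Fin n) (Fin n) F) * (g : Matrix (Fin n) (Fin n) F)
              = ((P⁻¹ : GL (Fin n) F) : Matrix (Fin n) (Fin n) F) *
                ((g : Matrix (Fin n) (Fin n) F) * (P : Matrix (Fin n) (Fin n) F)) *
                ((P⁻¹ : GL (Fin n) F) : Matrix (Fin n) (Fin n) F) := by
                  rw [← mul_assoc, mul_assoc, Units.mul_inv, mul_one]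
            _ = _ := by
                  rw [hgM, Matrix.mul_smul, ← mul_assoc, Units.inv_mul, one_mul, Matrix.smul_mul]
        rw [e1]
        show w ⬝ᵥ ((d : F) • (K *ᵥ _)) = 0
        rw [dotProduct_smul, Matrix.dotProduct_mulVec, hl, smul_dotProduct,
          show w ⬝ᵥ (((P⁻¹ : GL (Fin n) F) : Matrix (Fin n) (Fin n) F) *ᵥ v) = 0 from hv, smul_zero, smul_zero]
      rcases irr_iff.1 hirr' (LinearMap.ker Φ) (fun g hg v hv => hkey g hg v hv) with hker | hker
      · have h1 := LinearMap.finrank_range_add_finrank_ker Φ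
        rw [hker, finrank_bot, Module.finrank_fintype_fun_eq_card, Fintype.card_fin] at h1
        have h3 := Submodule.finrank_le (LinearMap.range Φ)
        rw [Module.finrank_self] at h3
        omega
      · obtain ⟨s, hs⟩ : ∃ s, w s ≠ 0 := by
          by_contra hno
          push Not at hno
          exact hw (funext hno)
        have h1 : Φ ((P : Matrix (Fin n) (Fin n) F) *ᵥ Pi.single s 1) = 0 := by
          rw [LinearMap.ker_eq_top] at hker
          rw [hker]; rfl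
        change ∑ i, w i * _ = (0 : F) at h1
        rw [Matrix.mulVec_mulVec, Units.inv_mul, Matrix.one_mulVec, Finset.sum_eq_single s (fun i _ hi => by
          simp [Pi.single_apply, hi]) (fun hh => absurd (Finset.mem_univ _) hh)] at h1
        exact hs (by simpa using h1)
  have hqodd : Odd q := by
    have h1 := odd_card_of_two_ne h2
    rw [hF] at h1
    exact Nat.Odd.of_mul_left (by rwa [← pow_two])
  rcases mul_self_eq_one_iff.1 hu1 with hu' | hu'
  · exact hclassOdd (Or.inr hqodd) ζ hζ (by rw [hζu, hu', one_mul]) hmem (Or.inl rfl)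
  · have hskew : ∀ i j, M j i = -(M i j) := fun i j => by
      have := hsym i j
      rw [hu'] at this
      linear_combination -this
    have hdiag : ∀ i, M i i = 0 := fun i => by
      have h1 : (2 : F) * M i i = 0 := by linear_combination hskew i i
      exact (mul_eq_zero.1 h1).resolve_left h2
    exact hclassAlt (heven hdiag hskew) (by rw [← hσ, hζu, hu']; ring) hdiag hskew

theorem unit_goal_family [Nonempty (Fin n)] (hn : 2 ≤ n) (hF : Fintype.card F = q ^ 2) (hσ : ∀ a, σ a = a ^ q)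
    (hne : σ ≠ RingEquiv.refl F) (hinv : ∀ a, σ (σ a) = a) (hH : H ≤ GU n F q) (hirr : Irr H)
    (h : FamilyMin σ 1 H) : UnitGoal q H := by
  classical
  obtain ⟨N, t, T, hN, hNG, hT⟩ := h
  obtain ⟨k, e, P, D, ⟨ht, hk, hDu, ⟨β, hβ⟩, ⟨c, hc, hgram⟩, hle⟩, hφ⟩ :=
    powerData_of_family (refl_one hinv) (fix_of_le_GU hσ hH) hNG hN hT
  haveI : Nonempty (Fin k) := ⟨⟨0, by omega⟩⟩
  obtain ⟨s, hs0, hs⟩ := exists_herm_scale hne hinv hDu hβ
  have hDu' : IsUnit (s • D) := by
    rw [show s • D = (Units.mk0 s hs0) • D from rfl]; exact hDu.smul _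
  obtain ⟨X, hX⟩ := herm_congr_one hne hinv hDu' hs
  obtain ⟨P', hle', hgram'⟩ := power_rebase hgram hle (fun _ => X)
  have hXD : (X : Matrix (Fin k) (Fin k) F)ᵀ * (D * (X : Matrix (Fin k) (Fin k) F).map σ) =
      s⁻¹ • (1 : Matrix (Fin k) (Fin k) F) := by
    rw [← hX, Matrix.smul_mul, Matrix.mul_smul, smul_smul, inv_mul_cancel₀ hs0, one_smul]
  have hgram'' : pull σ 1 e P' = (c * (s⁻¹) ^ t) • (1 : Matrix (Fin t → Fin k) (Fin t → Fin k) F) := by
    rw [hgram', hXD, pureMat_smul (fun _ : Fin t => s⁻¹) (fun _ => (1 : Matrix (Fin k) (Fin k) F)), pureMat_one,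
      smul_smul]
    simp
  have hc' : c * (s⁻¹) ^ t ≠ 0 := mul_ne_zero hc (pow_ne_zero _ (inv_ne_zero hs0))
  rcases Nat.lt_or_ge k 3 with hk3 | hk3
  · have hk2 : k = 2 := by omega
    subst hk2
    exact unit_goal_rational hn hF hσ hne hinv hH hirr
      (ratCase_of_power_two hne hinv (fix_of_le_GU hσ hH) hc' hgram'' hle')
  have hex : ¬ (q = 2 ∧ k = 3) := by
    rintro ⟨rfl, rfl⟩
    obtain ⟨φ, hφi, hφs⟩ := hφ ⟨0, by omega⟩
    refine family_not_solvable hT _ (solvable_GU3_two hF)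
      (((MulAut.conj X⁻¹).toMonoidHom.comp φ).codRestrict (GU 3 F 2) fun x => ?_) ?_
    · obtain ⟨μ, hμ⟩ := hφs x
      have hμ1 : (μ : F) = 1 := by
        haveI : Nonempty (Fin 3) := ⟨0⟩
        have hD' : Refl σ D := ⟨hinv, hDu, β, hβ⟩
        have hfix := hD'.mult_fixed hμ
        rw [hσ] at hfix
        exact mul_left_cancel₀ μ.ne_zero (by linear_combination hfix)
      rw [mem_GU_gram hσ]
      set A : Matrix (Fin 3) (Fin 3) F := (φ x : Matrix (Fin 3) (Fin 3) F)
      set Xm : Matrix (Fin 3) (Fin 3) F := (X : Matrix (Fin 3) (Fin 3) F)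
      set Xi : Matrix (Fin 3) (Fin 3) F := ((X⁻¹ : GL (Fin 3) F) : Matrix (Fin 3) (Fin 3) F)
      show (((X⁻¹ * φ x * X⁻¹⁻¹ : GL (Fin 3) F)) : Matrix (Fin 3) (Fin 3) F)ᵀ *
        (1 * (((X⁻¹ * φ x * X⁻¹⁻¹ : GL (Fin 3) F)) : Matrix (Fin 3) (Fin 3) F).map σ) = 1
      rw [inv_inv, Units.val_mul, Units.val_mul]
      show (Xi * A * Xm)ᵀ * (1 * (Xi * A * Xm).map σ) = 1
      have e0 : Xiᵀ * Xi.map σ = s • D := by
        calc Xiᵀ * Xi.map σ = Xiᵀ * ((Xmᵀ * ((s • D) * Xm.map σ)) * Xi.map σ) := by rw [hX, one_mul]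
          _ = (Xm * Xi)ᵀ * ((s • D) * (Xm * Xi).map σ) := by simp [Matrix.transpose_mul, mul_assoc]
          _ = _ := by
            rw [show Xm * Xi = 1 from Units.mul_inv X, Matrix.transpose_one, Matrix.map_one σ (map_zero σ) (map_one σ),
              one_mul, mul_one]
      rw [one_mul, Matrix.transpose_mul, Matrix.transpose_mul, Matrix.map_mul, Matrix.map_mul,
        show Xmᵀ * (Aᵀ * Xiᵀ) * (Xi.map σ * A.map σ * Xm.map σ) =
          Xmᵀ * ((Aᵀ * ((Xiᵀ * Xi.map σ) * A.map σ)) * Xm.map σ) by simp [mul_assoc], e0]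
      have e1 : Aᵀ * ((s • D) * A.map σ) = s • D := by
        rw [Matrix.smul_mul, Matrix.mul_smul, hμ, hμ1, one_smul]
      rw [e1, hX]
    · intro a b hab
      apply hφi
      exact (MulAut.conj X⁻¹).injective (congrArg Subtype.val hab)
  refine Or.inl ⟨_, Or.inr (Or.inr (Or.inr ⟨k, t, e, P', formOfGram σ (1 : Matrix (Fin k) (Fin k) F), hk3, ht, hex,
    unitaryFormPow_of_gram hσ hinv isUnit_one (by rw [Matrix.transpose_one, Matrix.map_one σ (map_zero σ) (map_one σ)]),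
    ⟨_, hc', fun x y => ?_⟩, rfl⟩)), le_inf hle' hH⟩
  rw [gram_formOfGram, hermForm_gram hσ, form_coords, hgram'', formOfGram_smul, ← pureMat_one]
  simp [formOfGram, pureMat, hσ]

theorem unit_goal_abelian (hσ : ∀ a, σ a = a ^ q) (hH : H ≤ GU n F q) (h : UnitNormCase σ 1 H) : UnitGoal q H := by
  obtain ⟨r, R, p, e, k, hR, hRai, hsim, hrp, hmin, hcases, hle, hscal, hdim⟩ := h
  refine Or.inl ⟨_, Or.inl (Or.inr (Or.inr (Or.inr (Or.inr (Or.inr (Or.inr (Or.inr
    ⟨r, R, p, e, k, hR, hRai, fun g hg => ?_, hrp, hmin, hcases, hscal, by simpa using hdim, rfl⟩))))))), le_inf hle hH⟩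
  obtain ⟨μ, hμ⟩ := hsim g hg
  refine ⟨μ, fun u v => ?_⟩
  rw [hermForm_gram hσ, formOfGram_mulVec, hμ, formOfGram_smul]

theorem unit_goal_tensor [Nonempty (Fin n)] (hn : 2 ≤ n) (hF : Fintype.card F = q ^ 2) (hσ : ∀ a, σ a = a ^ q)
    (hne : σ ≠ RingEquiv.refl F) (hinv : ∀ a, σ (σ a) = a) (hH : H ≤ GU n F q) (hirr : Irr H) {a b : ℕ}
    {e : Fin n ≃ Fin a × Fin b} {P : GL (Fin n) F} {C : Matrix (Fin a) (Fin a) F} {D : Matrix (Fin b) (Fin b) F}
    (h : TensorData σ 1 H e P C D) : UnitGoal q H := by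
  classical
  suffices main : ∀ {a b : ℕ} {e : Fin n ≃ Fin a × Fin b} {P : GL (Fin n) F} {C : Matrix (Fin a) (Fin a) F}
      {D : Matrix (Fin b) (Fin b) F}, TensorData σ 1 H e P C D → a ≤ b → UnitGoal q H by
    rcases le_total a b with hab | hab
    · exact main h hab
    · exact main h.swap hab
  intro a b e P C D h hab
  have ha := h.ha
  have hb := h.hb
  haveI : Nonempty (Fin a) := ⟨⟨0, by omega⟩⟩
  haveI : Nonempty (Fin b) := ⟨⟨0, by omega⟩⟩
  obtain ⟨α, β, hα, hβ⟩ := h.tr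
  obtain ⟨s, hs0, hs⟩ := exists_herm_scale hne hinv h.unit_left hα
  obtain ⟨t, ht0, ht⟩ := exists_herm_scale hne hinv h.unit_right hβ
  have hC' : IsUnit (s • C) := by rw [show s • C = (Units.mk0 s hs0) • C from rfl]; exact h.unit_left.smul _
  have hD' : IsUnit (t • D) := by rw [show t • D = (Units.mk0 t ht0) • D from rfl]; exact h.unit_right.smul _
  have hgram : pull σ 1 e P = (s * t)⁻¹ • ((s • C) ⊗ₖ (t • D)) := by
    rw [h.gram, Matrix.smul_kronecker, Matrix.kronecker_smul, smul_smul, smul_smul, mul_assoc, inv_mul_cancel₀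
      (mul_ne_zero hs0 ht0), one_smul]
  rcases lt_or_eq_of_le hab with hlt | heq
  · refine Or.inl ⟨_, Or.inr (Or.inr (Or.inl ⟨a, b, e, P, _, _, ha, hlt, unitaryFormPow_of_gram hσ hinv hC' hs,
      unitaryFormPow_of_gram hσ hinv hD' ht, ⟨(s * t)⁻¹, inv_ne_zero (mul_ne_zero hs0 ht0), fun x y => ?_⟩, rfl⟩)),
      le_inf h.le hH⟩
    rw [gram_formOfGram, gram_formOfGram, hermForm_gram hσ, form_coords, hgram, formOfGram_smul]
    simp only [formOfGram, hσ]
  subst heq
  obtain ⟨X, hX⟩ := herm_congr_one hne hinv hC' hs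
  obtain ⟨Y, hY⟩ := herm_congr_one hne hinv hD' ht
  let e' : Fin n ≃ (Fin 2 → Fin a) := e.trans (finTwoArrowEquiv (Fin a)).symm
  have hgram2 : pull σ 1 e' P = (s * t)⁻¹ • pureMat ![s • C, t • D] := by
    ext x y
    have := congrFun (congrFun hgram (x 0, x 1)) (y 0, y 1)
    simp [pull, e', Matrix.reindexAlgEquiv_apply, pureMat, Fin.prod_univ_two] at this ⊢
    exact this
  obtain ⟨P', hle', hgram'⟩ := power_rebase hgram2 (h.le.trans (tensor_le_wreath e P)) ![X, Y]
  have hgram'' : pull σ 1 e' P' = (s * t)⁻¹ • (1 : Matrix (Fin 2 → Fin a) (Fin 2 → Fin a) F) := by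
    rw [hgram', ← pureMat_one]
    congr 2
    funext i
    fin_cases i
    · exact hX
    · exact hY
  have hc' : (s * t)⁻¹ ≠ 0 := inv_ne_zero (mul_ne_zero hs0 ht0)
  rcases Nat.lt_or_ge a 3 with ha3 | ha3
  · have ha2 : a = 2 := by omega
    subst ha2
    exact unit_goal_rational hn hF hσ hne hinv hH hirr
      (ratCase_of_power_two hne hinv (fix_of_le_GU hσ hH) hc' hgram'' hle')
  by_cases hex : q = 2 ∧ a = 3
  · obtain ⟨rfl, rfl⟩ := hex
    let u : GL (Fin 3 × Fin 3) F := ⟨(X : Matrix (Fin 3) (Fin 3) F) ⊗ₖ (Y : Matrix (Fin 3) (Fin 3) F),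
      ((X⁻¹ : GL (Fin 3) F) : Matrix (Fin 3) (Fin 3) F) ⊗ₖ ((Y⁻¹ : GL (Fin 3) F) : Matrix (Fin 3) (Fin 3) F),
      by rw [← Matrix.mul_kronecker_mul, Units.mul_inv, Units.mul_inv, Matrix.one_kronecker_one],
      by rw [← Matrix.mul_kronecker_mul, Units.inv_mul, Units.inv_mul, Matrix.one_kronecker_one]⟩
    let P₂ : GL (Fin n) F := P * glReindex e.symm u
    have hco : ∀ M : Matrix (Fin 3 × Fin 3) (Fin 3 × Fin 3) F,
        co e P₂ M = co e P ((u : Matrix _ _ F) * M * ((u⁻¹ : GL _ F) : Matrix _ _ F)) := fun M => by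
      simp only [co, cj, P₂, _root_.mul_inv_rev, Units.val_mul, map_mul]
      rw [show ((glReindex e.symm u : GL (Fin n) F) : Matrix (Fin n) (Fin n) F) =
          Matrix.reindexAlgEquiv F F e.symm (u : Matrix _ _ F) from rfl,
        show (((glReindex e.symm u)⁻¹ : GL (Fin n) F) : Matrix (Fin n) (Fin n) F) =
          Matrix.reindexAlgEquiv F F e.symm ((u⁻¹ : GL _ F) : Matrix _ _ F) from rfl]
      simp only [mul_assoc]
    have hgram₂ : pull σ 1 e P₂ = (s * t)⁻¹ • ((1 : Matrix (Fin 3) (Fin 3) F) ⊗ₖ (1 : Matrix (Fin 3) (Fin 3) F)) := by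
      have h1 : ((P₂ : GL (Fin n) F) : Matrix (Fin n) (Fin n) F) =
          (P : Matrix (Fin n) (Fin n) F) * Matrix.reindexAlgEquiv F F e.symm (u : Matrix _ _ F) := rfl
      set R := Matrix.reindexAlgEquiv F F e.symm (u : Matrix _ _ F) with hR
      rw [pull, h1, Matrix.transpose_mul, Matrix.map_mul,
        show Rᵀ * (P : Matrix (Fin n) (Fin n) F)ᵀ * (1 * ((P : Matrix (Fin n) (Fin n) F).map σ * R.map σ)) =
          Rᵀ * (((P : Matrix (Fin n) (Fin n) F)ᵀ * (1 * (P : Matrix (Fin n) (Fin n) F).map σ)) * R.map σ) by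
            simp [mul_assoc], map_mul, map_mul,
        show Matrix.reindexAlgEquiv F F e Rᵀ = (u : Matrix _ _ F)ᵀ by ext i j; simp [hR, Matrix.reindexAlgEquiv_apply],
        show Matrix.reindexAlgEquiv F F e (R.map σ) = (u : Matrix _ _ F).map σ by
          ext i j; simp [hR, Matrix.reindexAlgEquiv_apply],
        show Matrix.reindexAlgEquiv F F e ((P : Matrix (Fin n) (Fin n) F)ᵀ * (1 * (P : Matrix (Fin n) (Fin n) F).map σ)) =
          (s * t)⁻¹ • ((s • C) ⊗ₖ (t • D)) from hgram, Matrix.smul_mul, Matrix.mul_smul,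
        show (u : Matrix _ _ F) = (X : Matrix (Fin 3) (Fin 3) F) ⊗ₖ (Y : Matrix (Fin 3) (Fin 3) F) from rfl,
        kron_transpose, kron_map, ← Matrix.mul_kronecker_mul, ← Matrix.mul_kronecker_mul, hX, hY]
    rcases small_tensor hF hσ (refl_one hinv) e P₂ hgram₂ (H := H) (fun g hg => by
      obtain ⟨A, B, v, hgv, hA, hB⟩ := h.sim g hg
      have hv1 : (v : F) = 1 := by
        have hfix := (⟨hinv, h.unit_left, α, hα⟩ : Refl σ C).mult_fixed hA
        rw [hσ] at hfix
        exact mul_left_cancel₀ v.ne_zero (by linear_combination hfix)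
      have hv1' : ((v⁻¹ : Fˣ) : F) = 1 := by rw [Units.val_inv_eq_inv_val, hv1, inv_one]
      rw [hv1, one_smul] at hA
      rw [hv1', one_smul] at hB
      have key : ∀ (Z : GL (Fin 3) F) (C₀ : Matrix (Fin 3) (Fin 3) F) (W : GL (Fin 3) F),
          (Z : Matrix (Fin 3) (Fin 3) F)ᵀ * (C₀ * (Z : Matrix (Fin 3) (Fin 3) F).map σ) = 1 →
          (W : Matrix (Fin 3) (Fin 3) F)ᵀ * (C₀ * (W : Matrix (Fin 3) (Fin 3) F).map σ) = C₀ →
          UnitSmall.U3 σ (Z⁻¹ * W * Z) := fun Z C₀ W hZ hW => by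
        set Zm := (Z : Matrix (Fin 3) (Fin 3) F)
        set Zi := ((Z⁻¹ : GL (Fin 3) F) : Matrix (Fin 3) (Fin 3) F)
        set Wm := (W : Matrix (Fin 3) (Fin 3) F)
        have e0 : Ziᵀ * Zi.map σ = C₀ := by
          calc Ziᵀ * Zi.map σ = Ziᵀ * ((Zmᵀ * (C₀ * Zm.map σ)) * Zi.map σ) := by rw [hZ, one_mul]
            _ = (Zm * Zi)ᵀ * (C₀ * (Zm * Zi).map σ) := by simp [Matrix.transpose_mul, mul_assoc]
            _ = _ := by
              rw [show Zm * Zi = 1 from Units.mul_inv Z, Matrix.transpose_one,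
                Matrix.map_one σ (map_zero σ) (map_one σ), one_mul, mul_one]
        show (Zi * Wm * Zm)ᵀ * (1 * (Zi * Wm * Zm).map σ) = 1
        rw [one_mul, Matrix.transpose_mul, Matrix.transpose_mul, Matrix.map_mul, Matrix.map_mul,
          show Zmᵀ * (Wmᵀ * Ziᵀ) * (Zi.map σ * Wm.map σ * Zm.map σ) =
            Zmᵀ * ((Wmᵀ * ((Ziᵀ * Zi.map σ) * Wm.map σ)) * Zm.map σ) by simp [mul_assoc], e0, hW, hZ]
      refine ⟨X⁻¹ * A * X, Y⁻¹ * B * Y, key X (s • C) A hX (by rw [Matrix.smul_mul, Matrix.mul_smul, hA]),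
        key Y (t • D) B hY (by rw [Matrix.smul_mul, Matrix.mul_smul, hB]), ?_⟩
      rw [hgv, hco]
      congr 1
      show _ = ((X : Matrix (Fin 3) (Fin 3) F) ⊗ₖ (Y : Matrix (Fin 3) (Fin 3) F)) * _ *
        (((X⁻¹ : GL (Fin 3) F) : Matrix (Fin 3) (Fin 3) F) ⊗ₖ ((Y⁻¹ : GL (Fin 3) F) : Matrix (Fin 3) (Fin 3) F))
      rw [← Matrix.mul_kronecker_mul, ← Matrix.mul_kronecker_mul]
      simp only [Units.val_mul, ← mul_assoc, Units.mul_inv, one_mul]
      simp only [mul_assoc, Units.mul_inv, mul_one]) with h' | h'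
    · exact unit_goal_abelian hσ hH h'
    · exact unit_goal_rational hn hF hσ hne hinv hH hirr h'
  refine Or.inl ⟨_, Or.inr (Or.inr (Or.inr ⟨a, 2, e', P', formOfGram σ (1 : Matrix (Fin a) (Fin a) F), ha3, le_rfl,
    hex, unitaryFormPow_of_gram hσ hinv isUnit_one
      (by rw [Matrix.transpose_one, Matrix.map_one σ (map_zero σ) (map_one σ)]),
    ⟨_, hc', fun x y => ?_⟩, rfl⟩)), le_inf hle' hH⟩
  rw [gram_formOfGram, hermForm_gram hσ, form_coords, hgram'', formOfGram_smul, ← pureMat_one]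
  simp [formOfGram, pureMat, hσ]

theorem unit_goal_core [Nonempty (Fin n)] (hne : σ ≠ RingEquiv.refl F) (h : CoreCase σ (1 : Matrix (Fin n) (Fin n) F) H) :
    UnitGoal q H := by
  obtain ⟨P, hcore, hPfix, hno⟩ := h
  refine Or.inr ⟨P, hcore, ?_, ?_⟩
  · rintro ⟨Q, hQ, hfix⟩
    have hpf : FixesForm (matrixSet P) (QuadraticMap.polar Q) := fun s hs u v => by
      simp only [QuadraticMap.polar, ← Matrix.mulVec_add, hfix s hs]
    have hs := sesq_of_bilinear hQ.polar_bilinear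
    refine hno (RingEquiv.refl F) _ (Ne.symm hne) (fun _ => rfl) (gram_isUnit (RingEquiv.refl F) ?_) (fix_of_fixesForm hs hpf)
    rw [show formOfGram (RingEquiv.refl F) (gramMatrix (QuadraticMap.polar Q)) = QuadraticMap.polar Q from
      funext₂ fun u v => (hs.eq_gram u v).symm]
    exact hQ.nondegenerate
  · rintro ⟨f, hf, hfix⟩
    have hs := sesq_of_bilinear hf.bilinear
    refine hno (RingEquiv.refl F) _ (Ne.symm hne) (fun _ => rfl) (gram_isUnit (RingEquiv.refl F) ?_) (fix_of_fixesForm hs hfix)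
    rw [show formOfGram (RingEquiv.refl F) (gramMatrix f) = f from funext₂ fun u v => (hs.eq_gram u v).symm]
    exact hf.nondegenerate

/-- Aschbacher's theorem in the unitary case, with dimensions recorded. -/
theorem aschbacher_unit_dim (hn : 3 ≤ n) (hF : Fintype.card F = q ^ 2) (hH : H ≤ GU n F q) : UnitGoal q H := by
  have hσ : ∀ a, MaxTv.qEquiv hF a = a ^ q := fun a => rfl
  have hinv : ∀ a, MaxTv.qEquiv hF (MaxTv.qEquiv hF a) = a := qFrob_qFrob hF
  have hne : MaxTv.qEquiv hF ≠ RingEquiv.refl F := fun e =>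
    qFrob_ne_id hF (RingHom.ext fun x => RingEquiv.congr_fun e x)
  haveI : Nonempty (Fin n) := ⟨⟨0, by omega⟩⟩
  set σ := MaxTv.qEquiv hF
  have hG : Refl σ (1 : Matrix (Fin n) (Fin n) F) := refl_one hinv
  by_cases hirr : Irr H
  swap
  · rcases reducible_case hG (fix_of_le_GU hσ hH).sims hirr with ⟨W, h1, h2, hle⟩ | ⟨W, h1, h2, h3, hle⟩ |
      ⟨k, D, -, hD, hle⟩
    · refine Or.inl ⟨_, Or.inl (Or.inl ⟨W, h1, ?_, rfl⟩), le_inf hle hH⟩
      rw [hermForm_gram hσ]; exact h2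
    · refine Or.inl ⟨_, Or.inl (Or.inr (Or.inl ⟨W, h1, ?_, by simpa using h3, rfl⟩)), le_inf hle hH⟩
      rw [hermForm_gram hσ]; exact h2
    · refine Or.inl ⟨_, Or.inl (Or.inr (Or.inr (Or.inl ⟨2, k, D, ?_, rfl⟩))), le_inf hle hH⟩
      rw [hermForm_gram hσ]; exact hD
  rcases irr_case hG (by simpa using hn) (fix_of_le_GU hσ hH) hirr with ⟨t, k, D, hD, hle, -⟩ | h | h |
    ⟨a, b, e, P, C, D, h⟩ | ⟨N, hN, hscal, hle, hnm, hmin, hab⟩ | h | h | h
  · refine Or.inl ⟨_, Or.inl (Or.inr (Or.inr (Or.inl ⟨t, k, D, ?_, rfl⟩))), le_inf hle hH⟩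
    rw [hermForm_gram hσ]; exact hD
  · exact unit_goal_skewPair hσ hinv hH hirr h
  · exact unit_goal_field hσ hne hinv hH h
  · exact unit_goal_tensor (by omega) hF hσ hne hinv hH hirr h
  · rcases abelian_unitary (by simpa using (by omega : 2 ≤ n)) hF hσ hG
      ((fix_of_le_GU hσ hH).sims.sup_scalars.mono hle) hN hscal hnm hmin hab with h | h
    · exact unit_goal_abelian hσ hH h
    · exact unit_goal_rational (by omega) hF hσ hne hinv hH hirr h
  · exact unit_goal_family (by omega) hF hσ hne hinv hH hirr h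
  · exact unit_goal_rational (by omega) hF hσ hne hinv hH hirr h
  · exact unit_goal_core hne h

/-- Aschbacher's theorem in the unitary case. -/
theorem aschbacher_unit (hn : 3 ≤ n) (hF : Fintype.card F = q ^ 2) (hH : H ≤ GU n F q) :
    (∃ M : Subgroup (GL (Fin n) F), InUnitaryClass n F q M ∧ H ≤ M) ∨ InUnitaryResidualClass H :=
  (aschbacher_unit_dim hn hF hH).imp_left fun ⟨M, hM, hle⟩ => ⟨M, hM.inClass, hle⟩

end Cfsg.Agent.Classical.Asch
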