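import Cfsg.Agent.Lib.Classical.AschFormCommon
import Cfsg.Agent.Lib.Classical.MaxUnitary
import Cfsg.Agent.Lib.Classical.NormalForms

/-!
Hermitian matrices and unitary groups for the unitary form of Aschbacher's theorem.
-/

set_option autoImplicit false
set_option linter.unusedSectionVars false
set_option linter.unusedFintypeInType false
set_option linter.unusedDecidableInType false

namespace Cfsg.Agent.Classical.Asch

open Matrix Module Cfsg.Geo
open scoped Kronecker Pointwise commutatorElement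

variable {F : Type*} [Field F] [Fintype F] {n q : ℕ} {σ : F ≃+* F}

theorem hermForm_gram (hσ : ∀ a, σ a = a ^ q) :
    hermForm n F q = formOfGram σ (1 : Matrix (Fin n) (Fin n) F) := by
  funext u v
  rw [formOfGram_eq, Matrix.one_mulVec]
  simp [hermForm, dotProduct, hσ]

theorem mem_GU_gram (hσ : ∀ a, σ a = a ^ q) {g : GL (Fin n) F} :
    g ∈ GU n F q ↔ (g : Matrix (Fin n) (Fin n) F)ᵀ * (1 * (g : Matrix (Fin n) (Fin n) F).map σ) = 1 := by
  constructor
  · intro h
    refine gram_inj σ fun u v => ?_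
    rw [← formOfGram_mulVec, ← hermForm_gram hσ]
    exact h u v
  · intro h u v
    show hermForm n F q ((g : Matrix (Fin n) (Fin n) F) *ᵥ u) ((g : Matrix (Fin n) (Fin n) F) *ᵥ v) = _
    rw [hermForm_gram hσ, formOfGram_mulVec, h]

theorem refl_one {ι : Type} [Fintype ι] [DecidableEq ι] (hinv : ∀ a, σ (σ a) = a) :
    Refl σ (1 : Matrix ι ι F) :=
  ⟨hinv, isUnit_one, 1, by rw [Matrix.transpose_one, Matrix.map_one σ (map_zero σ) (map_one σ), Units.val_one, one_smul]⟩

theorem solvable_GU3_two (hF : Fintype.card F = 2 ^ 2) : Group.IsSolvable (GU 3 F 2) := by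
  refine Cfsg.Agent.S0144.result 2 3 3 4 Nat.prime_two Nat.prime_three ?_
  have h := order_GU hF 3
  rw [Finset.prod_range_succ, Finset.prod_range_succ, Finset.prod_range_succ, Finset.prod_range_zero] at h
  norm_num at h ⊢
  exact_mod_cast h

theorem exists_moved (hne : σ ≠ RingEquiv.refl F) : ∃ x, σ x ≠ x := by
  by_contra h
  push Not at h
  exact hne (RingEquiv.ext h)

/-- A multiple of a reflexive matrix is hermitian. -/
theorem exists_herm_scale (hne : σ ≠ RingEquiv.refl F) (hinv : ∀ a, σ (σ a) = a) {k : ℕ} [Nonempty (Fin k)]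
    {C : Matrix (Fin k) (Fin k) F} (hC : IsUnit C) {α : Fˣ} (h : Cᵀ.map σ = (α : F) • C) :
    ∃ t : F, t ≠ 0 ∧ (t • C)ᵀ.map σ = t • C := by
  have hα : σ (α : F) * (α : F) = 1 := by
    have h1 : ((Cᵀ.map σ)ᵀ).map σ = (((α : F) • C)ᵀ).map σ := by rw [h]
    rw [show ((Cᵀ.map σ)ᵀ).map σ = C by ext i j; simp [hinv], Matrix.transpose_smul, map_smul_mat, h, smul_smul] at h1
    obtain ⟨i, j, hij⟩ := exists_entry (unit_ne_zero hC)
    have h2 := congrFun (congrFun h1 i) j
    rw [Matrix.smul_apply, smul_eq_mul] at h2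
    exact mul_right_cancel₀ hij (by rw [one_mul]; exact h2.symm)
  obtain ⟨t, ht0, ht⟩ : ∃ t : F, t ≠ 0 ∧ σ t * α = t := by
    have key : ∀ x : F, σ (x + σ x * α) * α = x + σ x * α := fun x => by
      rw [map_add, map_mul, hinv]
      linear_combination x * hα
    by_cases h0 : 1 + (α : F) = 0
    · obtain ⟨x, hx⟩ := exists_moved hne
      refine ⟨x + σ x * α, fun h1 => hx ?_, key x⟩
      linear_combination σ x * h0 - h1
    · exact ⟨1 + σ 1 * α, by rwa [map_one, one_mul], key 1⟩
  refine ⟨t, ht0, ?_⟩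
  rw [Matrix.transpose_smul, map_smul_mat, h, smul_smul, ht]

/-- A non-singular hermitian matrix is congruent to the identity. -/
theorem herm_congr_one (hne : σ ≠ RingEquiv.refl F) (hinv : ∀ a, σ (σ a) = a) {k : ℕ}
    {C : Matrix (Fin k) (Fin k) F} (hC : IsUnit C) (h : Cᵀ.map σ = C) :
    ∃ X : GL (Fin k) F, (X : Matrix (Fin k) (Fin k) F)ᵀ * (C * (X : Matrix (Fin k) (Fin k) F).map σ) = 1 := by
  have hs := sesq_formOfGram σ C
  let B : (Fin k → F) →ₛₗ[(σ : F →+* F)] (Fin k → F) →ₗ[F] F :=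
    LinearMap.mk₂'ₛₗ (σ : F →+* F) (RingHom.id F) (fun v w => formOfGram σ C w v)
      (fun a b c => hs.add_right c a b) (fun c a b => hs.smul_right c b a)
      (fun a b c => hs.add_left b c a) (fun c a b => hs.smul_left c b a)
  have hsymm : ∀ v w, σ (formOfGram σ C w v) = formOfGram σ C v w := fun v w => by
    simp only [formOfGram, map_sum, map_mul, hinv]
    rw [Finset.sum_comm]
    refine Finset.sum_congr rfl fun i _ => Finset.sum_congr rfl fun j _ => ?_
    have h1 : σ (C j i) = C i j := congrFun (congrFun h i) j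
    rw [h1]; ring
  obtain ⟨b, -, hb⟩ := exists_orthonormal_family_herm B (fun he => hne (RingEquiv.ext (RingHom.congr_fun he)))
    hinv ⟨fun v w => hsymm v w⟩ k ⊤ (fun w _ hw => by
      obtain ⟨⟨x, hx⟩, -⟩ := gram_nondeg σ hC w hw
      exact ⟨x, trivial, hx⟩) (by rw [finrank_top, Module.finrank_fintype_fun_eq_card, Fintype.card_fin])
  let X : Matrix (Fin k) (Fin k) F := fun i j => b j i
  have hX : Xᵀ * (C * X.map σ) = 1 := by
    ext i j
    have h2 : formOfGram σ C (b i) (b j) = if j = i then 1 else 0 := hb j i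
    have h3 : formOfGram σ C (b i) (b j) = (Xᵀ * (C * X.map σ)) i j := by
      rw [← formOfGram_single σ (Xᵀ * (C * X.map σ)), ← formOfGram_mulVec]
      congr 1 <;> (funext l; simp [X, Matrix.mulVec, dotProduct, Pi.single_apply])
    rw [← h3, h2, Matrix.one_apply]
    simp [eq_comm]
  have hdet : IsUnit X.det := by
    have h2 := congrArg Matrix.det hX
    rw [Matrix.det_mul, Matrix.det_transpose, Matrix.det_one] at h2
    exact IsUnit.of_mul_eq_one _ h2
  exact ⟨Matrix.nonsingInvUnit X hdet, hX⟩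

theorem unitaryFormPow_of_gram (hσ : ∀ a, σ a = a ^ q) (hinv : ∀ a, σ (σ a) = a) {k : ℕ}
    {C : Matrix (Fin k) (Fin k) F} (hC : IsUnit C) (h : Cᵀ.map σ = C) :
    IsUnitaryFormPow q (formOfGram σ C) := by
  have hs := sesq_formOfGram σ C
  refine ⟨hs.add_left, hs.smul_left, fun v w => ?_, gram_nondeg σ hC⟩
  rw [← hσ]
  simp only [formOfGram, map_sum, map_mul, hinv]
  rw [Finset.sum_comm]
  refine Finset.sum_congr rfl fun i _ => Finset.sum_congr rfl fun j _ => ?_
  have h1 : σ (C i j) = C j i := congrFun (congrFun h j) i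
  rw [h1]; ring

end Cfsg.Agent.Classical.Asch
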