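import Mathlib

/-!
Computations over the field with four elements for a subgroup of order 660 of the five dimensional unitary group.
-/

set_option autoImplicit false
set_option maxRecDepth 20000

namespace Cfsg.Agent.Classical.UnitFive

/-- The four elements. -/
inductive E
  | z | o | w | v
  deriving DecidableEq

instance : Fintype E := ⟨⟨[E.z, E.o, E.w, E.v], by decide⟩, fun x => by cases x <;> decide⟩

def add : E → E → E
  | .z, y => y
  | x, .z => x
  | .o, .o => .z | .o, .w => .v | .o, .v => .w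
  | .w, .o => .v | .w, .w => .z | .w, .v => .o
  | .v, .o => .w | .v, .w => .o | .v, .v => .z

def mul : E → E → E
  | .z, _ => .z
  | _, .z => .z
  | .o, y => y
  | x, .o => x
  | .w, .w => .v | .w, .v => .o
  | .v, .w => .o | .v, .v => .w

def cj : E → E
  | .w => .v | .v => .w | x => x

abbrev V5 := Fin 5 → E
abbrev M5 := Fin 5 → Fin 5 → E

def mulM (A B : M5) : M5 := fun i j =>
  add (add (add (add (mul (A i 0) (B 0 j)) (mul (A i 1) (B 1 j))) (mul (A i 2) (B 2 j))) (mul (A i 3) (B 3 j)))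
    (mul (A i 4) (B 4 j))

def mulV (A : M5) (u : V5) : V5 := fun i =>
  add (add (add (add (mul (A i 0) (u 0)) (mul (A i 1) (u 1))) (mul (A i 2) (u 2))) (mul (A i 3) (u 3)))
    (mul (A i 4) (u 4))

def smulV (c : E) (u : V5) : V5 := fun i => mul c (u i)

def smulM (c : E) (A : M5) : M5 := fun i j => mul c (A i j)

def oneM : M5 := fun i j => if i = j then .o else .z

def pw (A : M5) : ℕ → M5
  | 0 => oneM
  | k + 1 => mulM (pw A k) A

def herm (A : M5) : M5 := fun i j => cj (A j i)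

def dotE (u u' : V5) : E :=
  add (add (add (add (mul (u 0) (cj (u' 0))) (mul (u 1) (cj (u' 1)))) (mul (u 2) (cj (u' 2))))
    (mul (u 3) (cj (u' 3)))) (mul (u 4) (cj (u' 4)))

def T : M5 := ![![.z, .w, .z, .v, .o], ![.z, .w, .v, .z, .o], ![.z, .o, .w, .w, .z], ![.w, .z, .z, .z, .z], ![.z, .z, .o, .o, .w]]

def S : M5 := ![![.z, .w, .z, .z, .z], ![.o, .z, .w, .w, .z], ![.o, .z, .z, .w, .o], ![.z, .z, .v, .v, .w], ![.v, .z, .o, .z, .v]]

def W : M5 := ![![.o, .w, .o, .v, .v], ![.v, .z, .z, .v, .o], ![.o, .z, .z, .w, .o], ![.w, .w, .v, .o, .o], ![.w, .o, .o, .o, .o]]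

def Minv : M5 := ![![.o, .o, .w, .z, .z], ![.z, .v, .o, .v, .w], ![.z, .v, .z, .z, .v], ![.z, .z, .o, .z, .w], ![.z, .w, .z, .z, .z]]

def D : Fin 55 → V5 :=
  ![![.z, .z, .z, .o, .o],
    ![.o, .v, .o, .z, .w],
    ![.z, .o, .w, .v, .w],
    ![.z, .o, .w, .z, .z],
    ![.o, .z, .w, .v, .v],
    ![.o, .v, .v, .z, .v],
    ![.z, .o, .v, .w, .w],
    ![.o, .v, .w, .z, .o],
    ![.o, .o, .w, .z, .w],
    ![.o, .z, .o, .v, .v],
    ![.o, .w, .o, .z, .o],
    ![.o, .w, .z, .v, .o],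
    ![.o, .w, .w, .w, .z],
    ![.z, .o, .o, .v, .o],
    ![.o, .v, .o, .o, .z],
    ![.o, .z, .o, .o, .o],
    ![.o, .z, .w, .v, .w],
    ![.o, .z, .w, .w, .o],
    ![.o, .w, .v, .z, .w],
    ![.o, .o, .v, .z, .o],
    ![.z, .o, .z, .w, .z],
    ![.o, .w, .z, .v, .w],
    ![.z, .o, .w, .w, .o],
    ![.o, .o, .w, .o, .z],
    ![.z, .o, .v, .v, .v],
    ![.o, .z, .v, .w, .v],
    ![.o, .v, .z, .o, .w],
    ![.o, .o, .z, .w, .w],
    ![.z, .o, .w, .o, .v],
    ![.o, .z, .w, .z, .z],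
    ![.o, .z, .w, .o, .v],
    ![.o, .o, .o, .o, .z],
    ![.o, .w, .z, .w, .o],
    ![.o, .o, .v, .z, .w],
    ![.o, .o, .z, .o, .o],
    ![.z, .o, .v, .z, .z],
    ![.z, .o, .v, .v, .w],
    ![.o, .v, .v, .w, .z],
    ![.o, .z, .o, .w, .w],
    ![.z, .o, .v, .o, .o],
    ![.o, .z, .z, .z, .w],
    ![.o, .w, .w, .v, .z],
    ![.o, .w, .o, .v, .z],
    ![.o, .z, .o, .o, .v],
    ![.o, .z, .o, .z, .z],
    ![.o, .v, .z, .w, .v],
    ![.z, .o, .w, .v, .v],
    ![.o, .z, .z, .z, .o],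
    ![.o, .o, .o, .w, .z],
    ![.o, .v, .w, .v, .z],
    ![.z, .o, .z, .o, .z],
    ![.o, .w, .v, .z, .o],
    ![.z, .z, .z, .o, .v],
    ![.o, .o, .z, .o, .w],
    ![.o, .v, .z, .v, .o]]

def pT : Fin 55 → Fin 55 := ![1, 4, 7, 10, 12, 15, 18, 20, 22, 25, 26, 28, 31, 29, 23, 34, 24, 0, 37, 21, 5, 42, 19, 45, 8, 14, 46, 17, 47, 6, 39, 48, 49, 50, 13, 40, 33, 2, 41, 3, 53, 32, 38, 52, 36, 54, 44, 27, 11, 16, 51, 30, 35, 9, 43]

def cT : Fin 55 → E := ![.w, .v, .w, .w, .o, .w, .o, .o, .o, .o, .w, .w, .w, .o, .w, .w, .v, .w, .o, .v, .v, .v, .w, .o, .v, .w, .v, .o, .w, .o, .w, .o, .v, .w, .v, .w, .w, .v, .v, .o, .w, .o, .o, .w, .v, .v, .v, .o, .v, .v, .o, .w, .v, .v, .w]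

def pS : Fin 55 → Fin 55 := ![2, 5, 8, 11, 13, 16, 19, 21, 23, 3, 27, 29, 18, 32, 33, 22, 35, 6, 38, 40, 41, 25, 43, 30, 9, 46, 1, 34, 37, 24, 0, 7, 14, 4, 42, 26, 17, 49, 52, 12, 36, 53, 45, 50, 28, 10, 31, 20, 15, 54, 48, 47, 39, 51, 44]

def cS : Fin 55 → E := ![.w, .o, .w, .w, .v, .o, .w, .o, .w, .w, .v, .v, .v, .w, .o, .o, .v, .o, .v, .w, .w, .v, .w, .w, .w, .v, .o, .w, .w, .w, .v, .w, .v, .w, .w, .w, .w, .o, .o, .w, .o, .v, .v, .o, .v, .o, .w, .o, .w, .o, .w, .v, .w, .w, .o]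

def pW : Fin 55 → Fin 55 := ![3, 6, 9, 0, 14, 17, 1, 21, 24, 2, 20, 30, 12, 32, 4, 28, 36, 5, 39, 26, 10, 7, 44, 29, 8, 31, 19, 47, 15, 23, 11, 25, 13, 33, 51, 40, 16, 48, 52, 18, 35, 45, 53, 54, 22, 41, 46, 27, 37, 50, 49, 34, 38, 42, 43]

def cW : Fin 55 → E := ![.w, .o, .v, .v, .v, .o, .o, .o, .o, .w, .w, .v, .o, .w, .w, .o, .v, .o, .o, .v, .v, .o, .w, .w, .o, .o, .w, .v, .o, .v, .w, .o, .v, .o, .v, .o, .w, .w, .o, .o, .o, .w, .o, .o, .v, .v, .o, .w, .v, .o, .o, .w, .o, .o, .o]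

def ch : Fin 6 → E := ![.o, .v, .o, .o, .w, .o]

def Z : M5 := fun i j => if i = j then (if i = 0 then .w else if i = 1 then .v else .o) else .z

def poly (A : M5) : M5 := fun i j =>
  add (add (add (add (add (mul (ch 0) (oneM i j)) (mul (ch 1) (A i j))) (mul (ch 2) (pw A 2 i j)))
    (mul (ch 3) (pw A 3 i j))) (mul (ch 4) (pw A 4 i j))) (mul (ch 5) (pw A 5 i j))

/-- The matrix sending the first coordinate vectors along the orbit to a given orbit. -/
def comm (u : V5) : M5 :=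
  mulM (fun i j => (![u, mulV T u, mulV T (mulV T u), mulV T (mulV T (mulV T u)),
    mulV T (mulV T (mulV T (mulV T u)))] : Fin 5 → V5) j i) Minv

/-- Unitary commutant elements pass all the quick tests only as multiples of powers. -/
def good (u : V5) : Bool :=
  !(dotE u u == .o) || !(dotE (mulV T u) u == dotE (mulV T (fun i => oneM i 0)) (fun i => oneM i 0)) ||
    !(dotE (mulV T (mulV T u)) u == dotE (mulV T (mulV T (fun i => oneM i 0))) (fun i => oneM i 0)) ||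
    [E.o, E.w, E.v].any fun c => (List.range 11).any fun k =>
      (List.finRange 5).all fun i => mul c (pw T k i 0) == u i

theorem T_unit : mulM (herm T) T = oneM ∧ mulM T (herm T) = oneM := by decide +kernel
theorem S_unit : mulM (herm S) S = oneM ∧ mulM S (herm S) = oneM := by decide +kernel
theorem W_unit : mulM (herm W) W = oneM ∧ mulM W (herm W) = oneM := by decide +kernel
theorem Z_unit : mulM (herm Z) Z = oneM ∧ mulM Z (herm Z) = oneM := by decide +kernel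
theorem T_order : pw T 11 = oneM ∧ T ≠ oneM := by decide +kernel
theorem S_order : pw S 5 = oneM := by decide +kernel
theorem W_order : mulM W W = oneM := by decide +kernel
theorem ST : mulM S T = mulM (pw T 3) S := by decide +kernel
theorem W_moves : ∀ k : Fin 11, mulM W T ≠ mulM (pw T k) W := by decide +kernel
theorem T_perm : ∀ i, mulV T (D i) = smulV (cT i) (D (pT i)) ∧ cT i ≠ .z := by decide +kernel
theorem S_perm : ∀ i, mulV S (D i) = smulV (cS i) (D (pS i)) ∧ cS i ≠ .z := by decide +kernel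
theorem W_perm : ∀ i, mulV W (D i) = smulV (cW i) (D (pW i)) ∧ cW i ≠ .z := by decide +kernel
theorem perm_inj : Function.Injective pT ∧ Function.Injective pS ∧ Function.Injective pW := by
  refine ⟨?_, ?_, ?_⟩ <;> intro a b <;> revert a b <;> decide +kernel
theorem D_ne : ∀ i, D i ≠ fun _ => .z := by decide +kernel
theorem Z_out : ∀ (j : Fin 55) (c : E), mulV Z (D 2) ≠ smulV c (D j) := by decide +kernel
theorem poly_T : poly T = fun _ _ => .z := by decide +kernel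
theorem poly_pow : ∀ j : Fin 11, (poly (pw T j) = fun _ _ => .z) → ∃ i : Fin 5, (3 : ℕ) ^ (i : ℕ) % 11 = j := by
  decide +kernel
theorem good_all : ∀ a b c d e : E, good ![a, b, c, d, e] = true := by decide +kernel
theorem comm_one : comm (fun i => oneM i 0) = oneM := by decide +kernel

end Cfsg.Agent.Classical.UnitFive
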