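import Cfsg.Agent.Lib.Classical.AschUnitBase

/-!
The group `GU₃(2)` normalises an extraspecial group; tensor squares of it in dimension nine.
-/

set_option autoImplicit false
set_option linter.unusedSectionVars false
set_option linter.unusedFintypeInType false
set_option linter.unusedDecidableInType false

namespace Cfsg.Agent.Classical.Asch

open Matrix Module Cfsg.Geo
open scoped Kronecker Pointwise commutatorElement

variable {F : Type*} [Field F] [Fintype F]

namespace UnitSmall

local notation "G3" => GL (Fin 3) F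
local notation "M3" => Matrix (Fin 3) (Fin 3) F

/-- The data of the field with four elements. -/
structure Four (σ : F ≃+* F) (ω : F) : Prop where
  card : Fintype.card F = 4
  pow : ∀ a, σ a = a ^ 2
  two : (2 : F) = 0
  rel : 1 + ω + ω ^ 2 = 0
  ne_one : ω ≠ 1

variable {σ : F ≃+* F} {ω : F}

attribute [local instance] _root_.Classical.propDecidable

theorem Four.cube (h : Four σ ω) : ω ^ 3 = 1 := by linear_combination (ω - 1) * h.rel

theorem Four.ne_zero (h : Four σ ω) : ω ≠ 0 := fun h0 => by simpa [h0] using h.rel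

theorem Four.norm (h : Four σ ω) (x : F) : x * σ x = if x = 0 then 0 else 1 := by
  rw [h.pow, ← pow_succ']
  split
  · subst x; norm_num
  · next hx => simpa [h.card] using FiniteField.pow_card_sub_one_eq_one x hx

theorem exists_four (hF : Fintype.card F = 2 ^ 2) (hσ : ∀ a, σ a = a ^ 2) : ∃ ω : F, Four σ ω := by
  classical
  have h2 : (2 : F) = 0 := by
    have h4 : (4 : F) = 0 := by
      have := FiniteField.cast_card_eq_zero F
      rw [hF] at this
      norm_num at this
      exact this
    have : (2 : F) * 2 = 0 := by linear_combination h4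
    exact mul_self_eq_zero.1 this
  obtain ⟨u, hu⟩ : ∃ u : Fˣ, u ≠ 1 := by
    haveI : Nontrivial Fˣ := Fintype.one_lt_card_iff_nontrivial.1 (by rw [Fintype.card_units, hF]; norm_num)
    exact exists_ne 1
  have hu' : (u : F) ≠ 1 := fun h => hu (Units.ext h)
  have h3 : (u : F) ^ 3 = 1 := by simpa [hF] using FiniteField.pow_card_sub_one_eq_one (u : F) u.ne_zero
  have h5 : ((u : F) - 1) * (1 + (u : F) + (u : F) ^ 2) = 0 := by linear_combination h3
  exact ⟨u, by rw [hF]; norm_num, hσ, h2, (mul_eq_zero.1 h5).resolve_left (sub_ne_zero.2 hu'), hu'⟩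

/-- An element of the unitary group. -/
abbrev U3 (σ : F ≃+* F) (g : G3) : Prop := (g : M3)ᵀ * (1 * (g : M3).map σ) = 1

theorem U3.inv_eq {g : G3} (h : Four σ ω) (hg : U3 σ g) : ((g⁻¹ : G3) : M3) = ((g : M3).map σ)ᵀ := by
  have h1 : ((g : M3).map σ)ᵀ * (g : M3) = 1 := by
    have := congrArg Matrix.transpose hg
    simpa [Matrix.transpose_mul] using this
  calc ((g⁻¹ : G3) : M3) = (((g : M3).map σ)ᵀ * (g : M3)) * ((g⁻¹ : G3) : M3) := by rw [h1, one_mul]
    _ = _ := by rw [mul_assoc, Units.mul_inv, mul_one]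

theorem U3.row {g : G3} (h : Four σ ω) (hg : U3 σ g) (i i' : Fin 3) :
    ∑ j, (g : M3) i j * σ ((g : M3) i' j) = if i = i' then 1 else 0 := by
  have h1 : (g : M3) * ((g : M3).map σ)ᵀ = 1 := by rw [← hg.inv_eq h, Units.mul_inv]
  have := congrFun (congrFun h1 i) i'
  simpa [Matrix.mul_apply, Matrix.one_apply] using this

theorem U3.col {g : G3} (hg : U3 σ g) (j j' : Fin 3) :
    ∑ i, (g : M3) i j * σ ((g : M3) i j') = if j = j' then 1 else 0 := by
  have := congrFun (congrFun hg j) j'
  simpa [Matrix.mul_apply, Matrix.one_apply] using this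

theorem U3.mul {g g' : G3} (hg : U3 σ g) (hg' : U3 σ g') : U3 σ (g * g') := by
  show ((g : M3) * (g' : M3))ᵀ * (1 * ((g : M3) * (g' : M3)).map σ) = 1
  unfold U3 at hg hg'
  rw [one_mul] at hg hg'
  rw [one_mul, Matrix.transpose_mul, Matrix.map_mul]
  rw [show (g' : M3)ᵀ * (g : M3)ᵀ * ((g : M3).map σ * (g' : M3).map σ) =
    (g' : M3)ᵀ * (((g : M3)ᵀ * (g : M3).map σ) * (g' : M3).map σ) by simp [mul_assoc],
    hg, one_mul]
  exact hg'

theorem U3.one : U3 σ (1 : G3) := by
  show ((1 : G3) : M3)ᵀ * (1 * ((1 : G3) : M3).map σ) = 1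
  simp

theorem U3.inv {g : G3} (h : Four σ ω) (hg : U3 σ g) : U3 σ g⁻¹ := by
  show ((g⁻¹ : G3) : M3)ᵀ * (1 * ((g⁻¹ : G3) : M3).map σ) = 1
  rw [one_mul, hg.inv_eq h, Matrix.transpose_transpose]
  have : ((((g : M3).map σ)ᵀ).map σ) = (g : M3)ᵀ := by
    ext i j
    show σ (σ ((g : M3) j i)) = (g : M3) j i
    rw [h.pow, h.pow, ← pow_mul, show 2 * 2 = Fintype.card F by rw [h.card], FiniteField.pow_card]
  rw [this]
  have h1 := congrArg Matrix.transpose (show (g : M3) * ((g : M3).map σ)ᵀ = 1 by rw [← hg.inv_eq h, Units.mul_inv])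
  simpa [Matrix.transpose_mul] using h1

/-- The diagonal element. -/
def yM (ω : F) : M3 := Matrix.diagonal ![1, ω, ω ^ 2]

/-- A monomial matrix with a cyclic permutation. -/
def Shift (M : M3) (s : Fin 3) : Prop := ∀ j k, M j k ≠ 0 → j = k + s

theorem y_shift (h : Four σ ω) {M : M3} {s : Fin 3} (hM : Shift M s) :
    ∃ c : F, c ≠ 0 ∧ yM ω * M = c • (M * yM ω) := by
  refine ⟨![1, ω, ω ^ 2] s, ?_, ?_⟩
  · fin_cases s <;> simp [h.ne_zero]
  · ext j k
    rw [Matrix.smul_apply, smul_eq_mul, yM, Matrix.diagonal_mul, Matrix.mul_diagonal]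
    by_cases hz : M j k = 0
    · simp [hz]
    · have hj := hM j k hz
      subst hj
      have h4 := h.cube
      fin_cases k <;> fin_cases s <;> simp <;>
        first | (linear_combination (0 : F) * h4) | (linear_combination (-M _ _) * h4) |
          (linear_combination (-M _ _ * ω) * h4) | (linear_combination (M _ _) * h4) | ring

theorem weight (h : Four σ ω) {v : Fin 3 → F} (hv : ∑ i, v i * σ (v i) = 1) :
    (∀ i, v i ≠ 0) ∨ ∃ i, v i ≠ 0 ∧ ∀ i', i' ≠ i → v i' = 0 := by
  simp only [Fin.sum_univ_three, h.norm] at hv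
  have h1 : (1 : F) + 1 = 0 := by rw [one_add_one_eq_two, h.two]
  by_cases a : v 0 = 0 <;> by_cases b : v 1 = 0 <;> by_cases c : v 2 = 0 <;>
    simp [a, b, c, h1] at hv <;>
    first
      | (refine Or.inl fun i => ?_; fin_cases i <;> assumption)
      | (refine Or.inr ⟨0, a, fun i hi => ?_⟩; fin_cases i <;> simp_all)
      | (refine Or.inr ⟨1, b, fun i hi => ?_⟩; fin_cases i <;> simp_all)
      | (refine Or.inr ⟨2, c, fun i hi => ?_⟩; fin_cases i <;> simp_all)

theorem fpf_shift : ∀ f : Fin 3 → Fin 3, Function.Injective f → (∀ k, f k ≠ k) → ∃ s, ∀ k, f k = k + s := by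
  decide

/-- A conjugate of the diagonal element is monomial. -/
theorem conj_shift (h : Four σ ω) {Y g : G3} (hY : (Y : M3) = yM ω) (hYu : U3 σ Y) (hg : U3 σ g) :
    ∃ s, Shift ((g * Y * g⁻¹ : G3) : M3) s := by
  classical
  set M : G3 := g * Y * g⁻¹ with hMdef
  have hMu : U3 σ M := (hg.mul hYu).mul (hg.inv h)
  have hentry : ∀ i k, (M : M3) i k = ∑ j, (g : M3) i j * ![1, ω, ω ^ 2] j * σ ((g : M3) k j) := by
    intro i k
    rw [hMdef, Units.val_mul, Units.val_mul, hY, hg.inv_eq h, Matrix.mul_apply]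
    exact Finset.sum_congr rfl fun j _ => by rw [yM, Matrix.mul_diagonal]; rfl
  have hdiag : ∀ i, (M : M3) i i = ∑ j, ![1, ω, ω ^ 2] j * (if (g : M3) i j = 0 then 0 else 1) := fun i => by
    rw [hentry]
    exact Finset.sum_congr rfl fun j _ => by rw [← h.norm]; ring
  have hrow : ∀ i, ∑ j, (g : M3) i j * σ ((g : M3) i j) = 1 := fun i => by rw [hg.row h i i, if_pos rfl]
  by_cases hfull : ∀ i j, (g : M3) i j ≠ 0
  · have hzero : ∀ i, (M : M3) i i = 0 := fun i => by
      rw [hdiag]; simp only [hfull i, if_false, mul_one, Fin.sum_univ_three]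
      simpa using h.rel
    have hone : ∀ k, ∃ i, (M : M3) i k ≠ 0 ∧ ∀ i', i' ≠ i → (M : M3) i' k = 0 := fun k =>
      (weight h (v := fun i => (M : M3) i k) (by rw [hMu.col k k, if_pos rfl])).resolve_left fun hall => hall k (hzero k)
    choose π hπ hπ0 using hone
    have hinj : Function.Injective π := fun a b hab => by
      by_contra hne
      have h1 := hMu.col a b
      rw [if_neg hne, Finset.sum_eq_single (π a) (fun i _ hi => by rw [hπ0 a i hi, zero_mul])
        (fun hh => absurd (Finset.mem_univ _) hh)] at h1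
      rcases mul_eq_zero.1 h1 with h2 | h2
      · exact hπ a h2
      · exact hπ b (by rw [← hab]; exact σ.map_eq_zero_iff.1 h2)
    obtain ⟨s, hs⟩ := fpf_shift π hinj fun k hk => hπ k (by rw [hk]; exact hzero k)
    exact ⟨s, fun j k hjk => by rw [← hs k]; by_contra hne; exact hjk (hπ0 k j hne)⟩
  · push Not at hfull
    obtain ⟨i₀, j₀, hz⟩ := hfull
    have hsupp : ∀ i, ∃ j, (g : M3) i j ≠ 0 ∧ ∀ j', j' ≠ j → (g : M3) i j' = 0 := by
      obtain ⟨l, hl, hl0⟩ := (weight h (hrow i₀)).resolve_left fun hall => hall j₀ hz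
      intro i
      by_cases hi : i = i₀
      · exact hi ▸ ⟨l, hl, hl0⟩
      · refine (weight h (hrow i)).resolve_left fun hall => ?_
        have h1 := hg.row h i i₀
        rw [if_neg hi, Finset.sum_eq_single l (fun j _ hj => by rw [hl0 j hj, map_zero, mul_zero])
          (fun hh => absurd (Finset.mem_univ _) hh)] at h1
        rcases mul_eq_zero.1 h1 with h2 | h2
        · exact hall l h2
        · exact hl (σ.map_eq_zero_iff.1 h2)
    choose π hπ hπ0 using hsupp
    refine ⟨0, fun i k hik => ?_⟩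
    rw [add_zero]
    by_contra hne
    apply hik
    rw [hentry]
    refine Finset.sum_eq_zero fun j _ => ?_
    by_cases hi : j = π i
    · by_cases hk : j = π k
      · exfalso
        have h1 := hg.row h i k
        rw [if_neg hne, Finset.sum_eq_single j (fun j' _ hj' => by rw [hπ0 i j' (hi ▸ hj'), zero_mul])
          (fun hh => absurd (Finset.mem_univ _) hh)] at h1
        rcases mul_eq_zero.1 h1 with h2 | h2
        · exact hπ i (hi ▸ h2)
        · exact hπ k (hk ▸ σ.map_eq_zero_iff.1 h2)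
      · rw [hπ0 k j hk, map_zero, mul_zero]
    · rw [hπ0 i j hi, zero_mul, zero_mul]

/-- The group generated by the conjugates of the diagonal element. -/
def nGroup (σ : F ≃+* F) (Y : G3) : Subgroup G3 :=
  Subgroup.closure {x | ∃ g : G3, U3 σ g ∧ x = g * Y * g⁻¹}

theorem nGroup_prop (h : Four σ ω) {Y : G3} (hY : (Y : M3) = yM ω) (hYu : U3 σ Y) {x : G3}
    (hx : x ∈ nGroup σ Y) : U3 σ x ∧ ∃ s, Shift (x : M3) s := by
  induction hx using Subgroup.closure_induction with
  | mem x hx =>
    obtain ⟨g, hg, rfl⟩ := hx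
    exact ⟨(hg.mul hYu).mul (hg.inv h), conj_shift h hY hYu hg⟩
  | one => exact ⟨U3.one, 0, fun j k hjk => by
      rw [add_zero]; by_contra hne; exact hjk (by rw [Units.val_one, Matrix.one_apply_ne hne])⟩
  | mul a b _ _ iha ihb =>
    obtain ⟨ha, s, hs⟩ := iha
    obtain ⟨hb, t, ht⟩ := ihb
    refine ⟨ha.mul hb, t + s, fun j k hjk => ?_⟩
    rw [Units.val_mul, Matrix.mul_apply] at hjk
    obtain ⟨l, -, hl⟩ := Finset.exists_ne_zero_of_sum_ne_zero hjk
    rw [hs j l (left_ne_zero_of_mul hl), ht l k (right_ne_zero_of_mul hl), add_assoc]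
  | inv a _ iha =>
    obtain ⟨ha, s, hs⟩ := iha
    refine ⟨ha.inv h, -s, fun j k hjk => ?_⟩
    rw [ha.inv_eq h, Matrix.transpose_apply, Matrix.map_apply] at hjk
    rw [hs k j fun h0 => hjk (by rw [h0, map_zero]), add_neg_cancel_right]

theorem nGroup_conj {Y g : G3} (hg : U3 σ g) {x : G3} (hx : x ∈ nGroup σ Y) : g * x * g⁻¹ ∈ nGroup σ Y := by
  have hle : nGroup σ Y ≤ (nGroup σ Y).comap (MulAut.conj g).toMonoidHom := by
    refine (Subgroup.closure_le _).2 ?_
    rintro _ ⟨g', hg', rfl⟩
    refine Subgroup.subset_closure ⟨g * g', hg.mul hg', ?_⟩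
    simp [mul_assoc]
  exact hle hx

theorem nGroup_self {Y : G3} : Y ∈ nGroup σ Y :=
  Subgroup.subset_closure ⟨1, U3.one, by simp⟩

theorem nGroup_scal (h : Four σ ω) {Y : G3} (hY : (Y : M3) = yM ω) (hYu : U3 σ Y) : Scal (nGroup σ Y) := by
  let π := QuotientGroup.mk' (scalars (Fin 3) F)
  have hgen : ∀ g g' : G3, U3 σ g → U3 σ g' → π (g * Y * g⁻¹) * π (g' * Y * g'⁻¹) =
      π (g' * Y * g'⁻¹) * π (g * Y * g⁻¹) := by
    intro g g' hg hg'
    obtain ⟨s, hs⟩ := conj_shift h hY hYu ((hg.inv h).mul hg')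
    set z := (g⁻¹ * g') * Y * (g⁻¹ * g')⁻¹ with hz
    obtain ⟨c, hc0, hc⟩ := y_shift h hs
    have h1 : Y * z = sc (Units.mk0 c hc0) * (z * Y) := by
      apply Units.ext
      show (Y : M3) * (z : M3) = ((sc (Units.mk0 c hc0) : G3) : M3) * ((z : M3) * (Y : M3))
      rw [sc_coe, Units.val_mk0, Matrix.smul_mul, one_mul, hY]
      exact hc
    have hπ : π Y * π z = π z * π Y := by
      rw [← map_mul, ← map_mul, h1, map_mul π (sc _)]
      rw [show π (sc (Units.mk0 c hc0) : G3) = 1 from (QuotientGroup.eq_one_iff _).2 (sc_mem _), one_mul]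
    rw [show g' * Y * g'⁻¹ = g * z * g⁻¹ by rw [hz]; group, map_mul, map_mul, map_mul, map_mul, map_inv]
    calc π g * π Y * (π g)⁻¹ * (π g * π z * (π g)⁻¹) = π g * (π Y * π z) * (π g)⁻¹ := by group
      _ = _ := by rw [hπ]; group
  have hcomm : ∀ x ∈ nGroup σ Y, ∀ y ∈ nGroup σ Y, π x * π y = π y * π x := by
    intro x hx y hy
    induction hy using Subgroup.closure_induction with
    | mem y hy =>
      obtain ⟨g', hg', rfl⟩ := hy
      induction hx using Subgroup.closure_induction with
      | mem x hx => obtain ⟨g, hg, rfl⟩ := hx; exact hgen g g' hg hg'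
      | one => simp
      | mul a b _ _ iha ihb => rw [map_mul π a b, mul_assoc, ihb, ← mul_assoc, iha, mul_assoc]
      | inv a _ iha => rw [map_inv]; exact (Commute.inv_left iha).eq
    | one => simp
    | mul a b _ _ iha ihb => rw [map_mul π a b, ← mul_assoc, iha, mul_assoc, ihb, mul_assoc]
    | inv a _ iha => rw [map_inv]; exact (Commute.inv_right iha).eq
  intro x hx y hy
  have h1 : (x * y)⁻¹ * (y * x) ∈ scalars (Fin 3) F := by
    rw [← QuotientGroup.eq]
    show π (x * y) = π (y * x)
    rw [map_mul, map_mul, hcomm x hx y hy]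
  obtain ⟨c, hc⟩ := exists_sc h1
  exact ⟨c, by rw [(sc_comm c _).eq, ← hc, mul_inv_cancel_left]⟩

variable {ι : Type} [Fintype ι] [DecidableEq ι]

/-- The tensor map in given coordinates. -/
noncomputable def kap (e : ι ≃ Fin 3 × Fin 3) (P : GL ι F) : G3 × G3 →* GL ι F :=
  MonoidHom.toHomUnits
    { toFun := fun p => co e P ((p.1 : M3) ⊗ₖ (p.2 : M3))
      map_one' := by
        show co e P (((1 : G3) : M3) ⊗ₖ ((1 : G3) : M3)) = 1
        rw [Units.val_one, Matrix.one_kronecker_one, co_one]
      map_mul' := fun p p' => by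
        show co e P (((p.1 * p'.1 : G3) : M3) ⊗ₖ ((p.2 * p'.2 : G3) : M3)) = _
        rw [Units.val_mul, Units.val_mul, Matrix.mul_kronecker_mul, co_mul] }

theorem kap_coe (e : ι ≃ Fin 3 × Fin 3) (P : GL ι F) (A B : G3) :
    ((kap e P (A, B) : GL ι F) : Matrix ι ι F) = co e P ((A : M3) ⊗ₖ (B : M3)) := rfl

theorem kap_sc (e : ι ≃ Fin 3 × Fin 3) (P : GL ι F) (a b : Fˣ) : kap e P (sc a, sc b) = sc (a * b) := by
  apply Units.ext
  rw [kap_coe, sc_coe, sc_coe, sc_coe, Matrix.smul_kronecker, Matrix.kronecker_smul, smul_smul,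
    Matrix.one_kronecker_one, co_smul, co_one, Units.val_mul]

/-- The swap of the two factors. -/
noncomputable def swap (e : ι ≃ Fin 3 × Fin 3) (P : GL ι F) : GL ι F :=
  have h : co e P ((Equiv.prodComm (Fin 3) (Fin 3)).toPEquiv.toMatrix : Matrix (Fin 3 × Fin 3) (Fin 3 × Fin 3) F) *
      co e P ((Equiv.prodComm (Fin 3) (Fin 3)).toPEquiv.toMatrix) = 1 := by
    rw [← co_mul, ← PEquiv.toMatrix_trans, ← Equiv.toPEquiv_trans, ← co_one e P]
    congr 1
    rw [show (Equiv.prodComm (Fin 3) (Fin 3)).trans (Equiv.prodComm (Fin 3) (Fin 3)) = Equiv.refl _ from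
      Equiv.ext fun x => rfl, Equiv.toPEquiv_refl, PEquiv.toMatrix_refl]
  ⟨_, _, h, h⟩

theorem swap_kap (e : ι ≃ Fin 3 × Fin 3) (P : GL ι F) (A B : G3) :
    swap e P * kap e P (A, B) * (swap e P)⁻¹ = kap e P (B, A) := by
  rw [mul_inv_eq_iff_eq_mul]
  apply Units.ext
  rw [Units.val_mul, Units.val_mul, kap_coe, kap_coe]
  show co e P _ * co e P _ = co e P _ * co e P _
  rw [← co_mul, ← co_mul, PEquiv.toMatrix_toPEquiv_mul, PEquiv.mul_toMatrix_toPEquiv]
  congr 1
  ext ⟨a, b⟩ ⟨c, d⟩
  simp [mul_comm]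

end UnitSmall

open UnitSmall in
set_option maxHeartbeats 1000000 in
/-- Tensor squares of `GU₃(2)`. -/
theorem small_tensor {ι : Type} [Fintype ι] [DecidableEq ι] [Nonempty ι] {σ : F ≃+* F} {G : Matrix ι ι F}
    (hF : Fintype.card F = 2 ^ 2) (hσ : ∀ a, σ a = a ^ 2) (hG : Refl σ G)
    (e : ι ≃ Fin 3 × Fin 3) (P : GL ι F) {c : F}
    (hgram : pull σ G e P = c • ((1 : Matrix (Fin 3) (Fin 3) F) ⊗ₖ (1 : Matrix (Fin 3) (Fin 3) F)))
    {H : Subgroup (GL ι F)}
    (hH : ∀ g ∈ H, ∃ A B : GL (Fin 3) F, U3 σ A ∧ U3 σ B ∧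
      (g : Matrix ι ι F) = co e P ((A : Matrix (Fin 3) (Fin 3) F) ⊗ₖ (B : Matrix (Fin 3) (Fin 3) F))) :
    UnitNormCase σ G H ∨ RatCase σ G H := by
  classical
  obtain ⟨ω, h⟩ := exists_four hF hσ
  have hω0 := h.ne_zero
  have hω3 := h.cube
  have hcard : Fintype.card ι = 9 := by rw [card_of_equiv e]
  have hσω : σ ω = ω ^ 2 := h.pow ω
  let Y : GL (Fin 3) F := ⟨yM ω, Matrix.diagonal ![1, ω ^ 2, ω],
    by rw [yM, Matrix.diagonal_mul_diagonal, ← Matrix.diagonal_one]; congr 1; funext i
       fin_cases i <;> simp <;> linear_combination hω3,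
    by rw [yM, Matrix.diagonal_mul_diagonal, ← Matrix.diagonal_one]; congr 1; funext i
       fin_cases i <;> simp <;> linear_combination hω3⟩
  have hYu : U3 σ Y := by
    show (yM ω)ᵀ * (1 * (yM ω).map σ) = 1
    rw [one_mul, yM, Matrix.diagonal_transpose, Matrix.diagonal_map (map_zero σ), Matrix.diagonal_mul_diagonal,
      ← Matrix.diagonal_one]
    congr 1
    funext i
    fin_cases i <;> simp [hσω]
    · linear_combination hω3
    · linear_combination (ω ^ 3 + 1) * hω3
  let D : GL (Fin 3) F := ⟨Matrix.diagonal ![1, 1, ω], Matrix.diagonal ![1, 1, ω ^ 2],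
    by rw [Matrix.diagonal_mul_diagonal, ← Matrix.diagonal_one]; congr 1; funext i
       fin_cases i <;> simp <;> linear_combination hω3,
    by rw [Matrix.diagonal_mul_diagonal, ← Matrix.diagonal_one]; congr 1; funext i
       fin_cases i <;> simp <;> linear_combination hω3⟩
  have hDu : U3 σ D := by
    show (Matrix.diagonal ![1, 1, ω])ᵀ * (1 * (Matrix.diagonal ![1, 1, ω]).map σ) = 1
    rw [one_mul, Matrix.diagonal_transpose, Matrix.diagonal_map (map_zero σ), Matrix.diagonal_mul_diagonal,
      ← Matrix.diagonal_one]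
    congr 1
    funext i
    fin_cases i <;> simp [hσω]
    linear_combination hω3
  let gm : Matrix (Fin 3) (Fin 3) F := !![1, 1, 1; 1, ω, ω ^ 2; 1, ω ^ 2, ω]
  have h3 : (1 : F) + 1 + 1 = 1 := by linear_combination h.two
  have hgm : gmᵀ * gm.map σ = 1 := by
    ext i j
    fin_cases i <;> fin_cases j <;> simp [gm, Matrix.mul_apply, Fin.sum_univ_three, hσω] <;>
      first
        | linear_combination h.rel
        | linear_combination h.two
        | linear_combination h3
        | linear_combination (1 + ω ^ 3 + 1) * hω3 + h.two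
        | linear_combination h.rel + ω * hω3
        | linear_combination h.rel + (ω + ω ^ 2) * hω3
        | linear_combination h.two + (ω ^ 3 + 2) * hω3
  let g₀ : GL (Fin 3) F := Matrix.nonsingInvUnit gm (by
    have h1 := congrArg Matrix.det hgm
    rw [Matrix.det_mul, Matrix.det_transpose, Matrix.det_one] at h1
    exact IsUnit.of_mul_eq_one _ h1)
  have hg₀ : U3 σ g₀ := by
    show gmᵀ * (1 * gm.map σ) = 1
    rw [one_mul, hgm]
  set X : GL (Fin 3) F := g₀ * Y * g₀⁻¹ with hX
  have hXN : X ∈ nGroup σ Y := nGroup_conj hg₀ nGroup_self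
  obtain ⟨hXu, sX, hsX⟩ := nGroup_prop h (Y := Y) rfl hYu hXN
  have hX00 : (X : Matrix (Fin 3) (Fin 3) F) 0 0 = 0 := by
    rw [hX, Units.val_mul, Units.val_mul, hg₀.inv_eq h]
    show (gm * yM ω * (gm.map σ)ᵀ) 0 0 = 0
    rw [Matrix.mul_apply]
    simp only [yM, Matrix.mul_diagonal]
    simp [gm, Fin.sum_univ_three]
    linear_combination h.rel
  have hsX0 : sX ≠ 0 := by
    intro h0
    subst h0
    apply X.isUnit.map (Matrix.detMonoidHom) |>.ne_zero
    show (X : Matrix (Fin 3) (Fin 3) F).det = 0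
    have hd : (X : Matrix (Fin 3) (Fin 3) F) = Matrix.diagonal fun i => (X : Matrix (Fin 3) (Fin 3) F) i i := by
      ext i j
      by_cases hij : i = j
      · subst hij; rw [Matrix.diagonal_apply_eq]
      · rw [Matrix.diagonal_apply_ne _ hij]
        by_contra hne
        exact hij (by simpa using hsX i j hne)
    rw [hd, Matrix.det_diagonal]
    exact Finset.prod_eq_zero (Finset.mem_univ 0) hX00
  -- the extended group and its normal subgroup
  let S : Set (GL ι F) := {g | ∃ A B : GL (Fin 3) F, U3 σ A ∧ U3 σ B ∧ g = kap e P (A, B)} ∪ {swap e P}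
  let H' : Subgroup (GL ι F) := Subgroup.closure S
  have hHH' : H ≤ H' := fun g hg => by
    obtain ⟨A, B, hA, hB, hgv⟩ := hH g hg
    exact Subgroup.subset_closure (Or.inl ⟨A, B, hA, hB, Units.ext (by rw [hgv, kap_coe])⟩)
  let N₁ := ((nGroup σ Y).prod (nGroup σ Y)).map (kap e P)
  let N := N₁ ⊔ scalars ι F
  have hNscal : scalars ι F ≤ N := le_sup_right
  have hmemN : ∀ {a b : GL (Fin 3) F}, a ∈ nGroup σ Y → b ∈ nGroup σ Y → kap e P (a, b) ∈ N :=
    fun ha hb => Subgroup.mem_sup_left ⟨(_, _), ⟨ha, hb⟩, rfl⟩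
  have hNmem : ∀ z ∈ N, ∃ a ∈ nGroup σ Y, ∃ b ∈ nGroup σ Y, ∃ d : Fˣ, z = kap e P (a, b) * sc d := fun z hz => by
    obtain ⟨x, hx, w, hw, rfl⟩ := exists_mul_scalar hz
    obtain ⟨⟨a, b⟩, ⟨ha, hb⟩, rfl⟩ := hx
    obtain ⟨d, rfl⟩ := exists_sc hw
    exact ⟨a, ha, b, hb, d, rfl⟩
  have hnorm : ∀ g ∈ S, ∀ z ∈ N, g * z * g⁻¹ ∈ N := by
    intro g hg z hz
    obtain ⟨a, ha, b, hb, d, rfl⟩ := hNmem z hz
    rw [show g * (kap e P (a, b) * sc d) * g⁻¹ = (g * kap e P (a, b) * g⁻¹) * sc d by
      simp only [mul_assoc]; rw [(sc_comm d g⁻¹).eq]]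
    refine N.mul_mem ?_ (hNscal (sc_mem d))
    rcases hg with ⟨A, B, hA, hB, rfl⟩ | hg
    · rw [← map_inv, ← map_mul, ← map_mul]
      exact hmemN (nGroup_conj hA ha) (nGroup_conj hB hb)
    · rw [Set.mem_singleton_iff] at hg
      subst hg
      rw [swap_kap]
      exact hmemN hb ha
  haveI : Finite (GL ι F) := inferInstance
  have hn : Norms H' N := by
    intro g hg
    induction hg using Subgroup.closure_induction with
    | mem g hg => exact hnorm g hg
    | one => intro z hz; simpa using hz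
    | mul a b _ _ iha ihb =>
      intro z hz
      rw [show a * b * z * (a * b)⁻¹ = a * (b * z * b⁻¹) * a⁻¹ by group]
      exact iha _ (ihb z hz)
    | inv a _ iha =>
      intro z hz
      let φ : N → N := fun y => ⟨a * y * a⁻¹, iha y y.2⟩
      have hφ : Function.Injective φ := fun y y' hyy => Subtype.ext (by
        simpa [φ] using congrArg Subtype.val hyy)
      obtain ⟨⟨y, hy⟩, hy'⟩ := (Finite.injective_iff_surjective.1 hφ) ⟨z, hz⟩
      have e1 : a * y * a⁻¹ = z := congrArg Subtype.val hy'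
      rw [show a⁻¹ * z * a⁻¹⁻¹ = y by rw [← e1]; group]
      exact hy
  have hNG : Sims σ N G := by
    refine (Fix.sims (P := N₁) fun z hz => ?_).sup_scalars
    obtain ⟨⟨a, b⟩, ⟨ha, hb⟩, rfl⟩ := hz
    apply pull_injective σ e P
    show pull σ _ e P = pull σ G e P
    rw [kap_coe, pull_congr, hgram, Matrix.smul_mul, Matrix.mul_smul, kron_transpose, kron_map,
      ← Matrix.mul_kronecker_mul, ← Matrix.mul_kronecker_mul, (nGroup_prop h (Y := Y) rfl hYu ha).1,
      (nGroup_prop h (Y := Y) rfl hYu hb).1]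
  have hscalN : Scal N := by
    intro z hz z' hz'
    obtain ⟨a, ha, b, hb, d, rfl⟩ := hNmem z hz
    obtain ⟨a', ha', b', hb', d', rfl⟩ := hNmem z' hz'
    obtain ⟨c₁, hc₁⟩ := nGroup_scal h (Y := Y) rfl hYu a ha a' ha'
    obtain ⟨c₂, hc₂⟩ := nGroup_scal h (Y := Y) rfl hYu b hb b' hb'
    refine ⟨c₁ * c₂, ?_⟩
    calc kap e P (a', b') * sc d' * (kap e P (a, b) * sc d)
        = kap e P (a', b') * kap e P (a, b) * (sc d' * sc d) := by
          rw [mul_assoc, ← mul_assoc (sc d'), (sc_comm d' _).eq]; group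
      _ = sc (c₁ * c₂) * (kap e P (a, b) * kap e P (a', b')) * (sc d * sc d') := by
          rw [← map_mul (kap e P), ← map_mul (kap e P), Prod.mk_mul_mk, Prod.mk_mul_mk, hc₁, hc₂, (sc_comm d' (sc d)).eq,
            show ((sc c₁ * (a * a'), sc c₂ * (b * b')) : GL (Fin 3) F × GL (Fin 3) F) =
              (sc c₁, sc c₂) * (a * a', b * b') from rfl, map_mul, kap_sc]
      _ = _ := by
          rw [mul_assoc, mul_assoc, mul_assoc, ← mul_assoc (kap e P (a', b')) (sc d), ← (sc_comm d _).eq]
          group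
  -- coordinates
  have hcoY1 : ((kap e P (Y, 1) : GL ι F) : Matrix ι ι F) =
      co e P (Matrix.diagonal fun x => ![1, ω, ω ^ 2] x.1) := by
    rw [kap_coe]; congr 1
    show yM ω ⊗ₖ (1 : Matrix (Fin 3) (Fin 3) F) = _
    rw [yM, ← Matrix.diagonal_one, Matrix.diagonal_kronecker_diagonal]; simp
  have hcoY2 : ((kap e P (1, Y) : GL ι F) : Matrix ι ι F) =
      co e P (Matrix.diagonal fun x => ![1, ω, ω ^ 2] x.2) := by
    rw [kap_coe]; congr 1
    show (1 : Matrix (Fin 3) (Fin 3) F) ⊗ₖ yM ω = _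
    rw [yM, ← Matrix.diagonal_one, Matrix.diagonal_kronecker_diagonal]; simp
  have hvinj : Function.Injective (![1, ω, ω ^ 2] : Fin 3 → F) := by
    have h1 : ω ^ 2 ≠ 1 := fun h1 => h.ne_one (by linear_combination hω3 - ω * h1)
    have h2' : ω ^ 2 ≠ ω := fun h2' => h.ne_one (mul_left_cancel₀ hω0 (by linear_combination h2'))
    intro i j hij
    fin_cases i <;> fin_cases j <;>
      first
        | rfl
        | exact absurd hij h.ne_one
        | exact absurd hij.symm h.ne_one
        | exact absurd hij h1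
        | exact absurd hij.symm h1
        | exact absurd hij h2'
        | exact absurd hij.symm h2'
        | exact h.ne_one hij
        | exact h.ne_one hij.symm
        | exact h1 hij
        | exact h1 hij.symm
        | exact h2' hij
        | exact h2' hij.symm
  have hXne : ∀ k, (X : Matrix (Fin 3) (Fin 3) F) (k + sX) k ≠ 0 := fun k h0 => by
    apply X.isUnit.map (Matrix.detMonoidHom) |>.ne_zero
    show (X : Matrix (Fin 3) (Fin 3) F).det = 0
    refine Matrix.det_eq_zero_of_column_eq_zero k fun j => ?_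
    by_contra hne
    exact hne (by rw [hsX j k hne]; exact h0)
  have hai : AI N := by
    refine ai_of (irr_iff.2 fun W hW => ?_) fun M hM => ?_
    · rw [or_iff_not_imp_left]
      intro hWb
      obtain ⟨v, hv, hv0⟩ := W.exists_mem_ne_zero_of_ne_bot hWb
      let T : (ι → F) ≃ₗ[F] (Fin 3 × Fin 3 → F) :=
        { toFun := fun w => (((P⁻¹ : GL ι F) : Matrix ι ι F) *ᵥ w) ∘ e.symm
          invFun := fun z => (P : Matrix ι ι F) *ᵥ (z ∘ e)
          map_add' := fun a b => by rw [Matrix.mulVec_add]; rfl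
          map_smul' := fun a b => by rw [Matrix.mulVec_smul]; rfl
          left_inv := fun w => by
            show (P : Matrix ι ι F) *ᵥ ((((P⁻¹ : GL ι F) : Matrix ι ι F) *ᵥ w) ∘ e.symm ∘ e) = w
            simp [Matrix.mulVec_mulVec]
          right_inv := fun z => by
            show (((P⁻¹ : GL ι F) : Matrix ι ι F) *ᵥ ((P : Matrix ι ι F) *ᵥ (z ∘ e))) ∘ e.symm = z
            simp [Matrix.mulVec_mulVec, Function.comp_assoc] }
      let W' : Submodule F (Fin 3 × Fin 3 → F) := W.map (T : (ι → F) →ₗ[F] _)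
      have hW' : ∀ {a b : GL (Fin 3) F}, a ∈ nGroup σ Y → b ∈ nGroup σ Y → ∀ z ∈ W',
          ((a : Matrix (Fin 3) (Fin 3) F) ⊗ₖ (b : Matrix (Fin 3) (Fin 3) F)) *ᵥ z ∈ W' := by
        rintro a b ha hb _ ⟨w, hw, rfl⟩
        refine ⟨_, hW _ (hmemN ha hb) w hw, ?_⟩
        show (((P⁻¹ : GL ι F) : Matrix ι ι F) *ᵥ (((kap e P (a, b) : GL ι F) : Matrix ι ι F) *ᵥ w)) ∘ e.symm = _
        rw [kap_coe, coords_mulVec]
        rfl
      have hY1 : ∀ z ∈ W', (fun x => ![1, ω, ω ^ 2] x.1 * z x) ∈ W' := fun z hz => by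
        have h1 := hW' (nGroup_self (Y := Y)) (Subgroup.one_mem _) z hz
        convert h1 using 1
        funext x
        show _ = ((yM ω ⊗ₖ (1 : Matrix (Fin 3) (Fin 3) F)) *ᵥ z) x
        rw [yM, ← Matrix.diagonal_one, Matrix.diagonal_kronecker_diagonal, Matrix.mulVec_diagonal]
        simp
      have hY2 : ∀ z ∈ W', (fun x => ![1, ω, ω ^ 2] x.2 * z x) ∈ W' := fun z hz => by
        have h1 := hW' (Subgroup.one_mem _) (nGroup_self (Y := Y)) z hz
        convert h1 using 1
        funext x
        show _ = (((1 : Matrix (Fin 3) (Fin 3) F) ⊗ₖ yM ω) *ᵥ z) x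
        rw [yM, ← Matrix.diagonal_one, Matrix.diagonal_kronecker_diagonal, Matrix.mulVec_diagonal]
        simp
      have hproj : ∀ (k : Fin 3 × Fin 3 → Fin 3),
          (∀ z ∈ W', (fun x => ![1, ω, ω ^ 2] (k x) * z x) ∈ W') → ∀ p, ∀ z ∈ W',
          (fun x => if k x = p then z x else 0) ∈ W' := by
        intro k hk p z hz
        have h1 := hk z hz
        have h2 := hk _ h1
        let a : F := (![1, ω, ω ^ 2] p) ^ 2
        have hmem := W'.add_mem hz (W'.add_mem (W'.smul_mem a h1) (W'.smul_mem (a ^ 2) h2))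
        convert hmem using 1
        funext x
        simp only [Pi.add_apply, Pi.smul_apply, smul_eq_mul, a]
        generalize k x = j
        have hv3 : ∀ i : Fin 3, (![1, ω, ω ^ 2] i) ^ 3 = 1 := fun i => by
          fin_cases i <;> simp <;> first | linear_combination hω3 | linear_combination (ω ^ 3 + 1) * hω3
        set t := (![1, ω, ω ^ 2] p) ^ 2 * ![1, ω, ω ^ 2] j with ht
        have key : (if j = p then (1 : F) else 0) = 1 + t + t * t := by
          split
          · next hjp =>
            subst hjp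
            rw [ht, ← pow_succ, hv3]
            linear_combination -h.two
          · next hjp =>
            have ht1 : t - 1 ≠ 0 := fun h0 => hjp (hvinj (by
              have h3' := hv3 p
              linear_combination (![1, ω, ω ^ 2] p) * h0 - (![1, ω, ω ^ 2] j) * h3'))
            refine ((mul_eq_zero.1 (show (t - 1) * (1 + t + t * t) = 0 from ?_)).resolve_left ht1).symm
            rw [ht]
            linear_combination ((![1, ω, ω ^ 2] j) ^ 3 * ((![1, ω, ω ^ 2] p) ^ 3 + 1)) * hv3 p + hv3 j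
        rw [show (if j = p then z x else 0) = (if j = p then (1 : F) else 0) * z x by split <;> simp, key, ht]
        ring
      have hTv : T v ≠ 0 := fun h0 => hv0 (T.map_eq_zero_iff.1 h0)
      obtain ⟨⟨p, q⟩, hpq⟩ := Function.ne_iff.1 hTv
      have hsingle : (Pi.single (p, q) 1 : Fin 3 × Fin 3 → F) ∈ W' := by
        have hz := hproj Prod.snd hY2 q _ (hproj Prod.fst hY1 p (T v) ⟨v, hv, rfl⟩)
        have h1 := W'.smul_mem ((T v (p, q))⁻¹) hz
        convert h1 using 1
        funext x
        obtain ⟨i, j⟩ := x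
        by_cases hi : i = p <;> by_cases hj : j = q
        · subst hi; subst hj; simp [inv_mul_cancel₀ hpq]
        all_goals simp [Pi.single_apply, hi, hj]
      have hstep : ∀ i j, (Pi.single (i, j) 1 : Fin 3 × Fin 3 → F) ∈ W' →
          (Pi.single (i + sX, j) 1 : Fin 3 × Fin 3 → F) ∈ W' ∧ (Pi.single (i, j + sX) 1 : Fin 3 × Fin 3 → F) ∈ W' := by
        intro i j hij
        constructor
        · have h1 := W'.smul_mem ((X : Matrix (Fin 3) (Fin 3) F) (i + sX) i)⁻¹
            (hW' hXN (Subgroup.one_mem _) _ hij)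
          convert h1 using 1
          funext ⟨a, b⟩
          rw [Matrix.mulVec_single_one]
          by_cases ha : a = i + sX
          · subst ha
            by_cases hb : b = j <;> simp [Pi.single_apply, hb, hXne i]
          · have h0 : (X : Matrix (Fin 3) (Fin 3) F) a i = 0 := by
              by_contra hne; exact ha (hsX a i hne)
            simp [Pi.single_apply, ha, h0]
        · have h1 := W'.smul_mem ((X : Matrix (Fin 3) (Fin 3) F) (j + sX) j)⁻¹
            (hW' (Subgroup.one_mem _) hXN _ hij)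
          convert h1 using 1
          funext ⟨a, b⟩
          rw [Matrix.mulVec_single_one]
          by_cases hb : b = j + sX
          · subst hb
            by_cases ha : a = i <;> simp [Pi.single_apply, ha, hXne j]
          · have h0 : (X : Matrix (Fin 3) (Fin 3) F) b j = 0 := by
              by_contra hne; exact hb (hsX b j hne)
            simp [Pi.single_apply, hb, h0]
      have horbit : ∀ a b s : Fin 3, s ≠ 0 → b = a ∨ b = a + s ∨ b = a + s + s := by decide
      have hall : ∀ x, (Pi.single x 1 : Fin 3 × Fin 3 → F) ∈ W' := by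
        rintro ⟨i, j⟩
        have h1 : (Pi.single (i, q) 1 : Fin 3 × Fin 3 → F) ∈ W' := by
          rcases horbit p i sX hsX0 with rfl | rfl | rfl
          exacts [hsingle, (hstep _ _ hsingle).1, (hstep _ _ (hstep _ _ hsingle).1).1]
        rcases horbit q j sX hsX0 with rfl | rfl | rfl
        exacts [h1, (hstep _ _ h1).2, (hstep _ _ (hstep _ _ h1).2).2]
      have htop : W' = ⊤ := by
        rw [eq_top_iff]
        intro z _
        rw [pi_eq_sum_univ' z]
        exact W'.sum_mem fun x _ => W'.smul_mem _ (hall x)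
      rw [eq_top_iff]
      intro w _
      obtain ⟨w', hw', heq⟩ : T w ∈ W' := htop ▸ trivial
      rwa [← T.injective heq]
    · obtain ⟨M, rfl⟩ := co_surjective e P M
      have hc : ∀ {a b : GL (Fin 3) F}, a ∈ nGroup σ Y → b ∈ nGroup σ Y →
          M * ((a : Matrix (Fin 3) (Fin 3) F) ⊗ₖ (b : Matrix (Fin 3) (Fin 3) F)) =
            ((a : Matrix (Fin 3) (Fin 3) F) ⊗ₖ (b : Matrix (Fin 3) (Fin 3) F)) * M := fun ha hb => by
        apply co_injective e P
        have := hM _ (hmemN ha hb)
        rwa [kap_coe, ← co_mul, ← co_mul] at this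
      have hdiag : ∀ x y, x ≠ y → M x y = 0 := by
        intro x y hxy
        have h1 := congrFun (congrFun (hc (nGroup_self (Y := Y)) (Subgroup.one_mem _)) x) y
        have h2 := congrFun (congrFun (hc (Subgroup.one_mem _) (nGroup_self (Y := Y))) x) y
        rw [show ((Y : GL (Fin 3) F) : Matrix (Fin 3) (Fin 3) F) ⊗ₖ ((1 : GL (Fin 3) F) : Matrix (Fin 3) (Fin 3) F) =
          Matrix.diagonal (fun z => ![1, ω, ω ^ 2] z.1) by
            show yM ω ⊗ₖ (1 : Matrix (Fin 3) (Fin 3) F) = _
            rw [yM, ← Matrix.diagonal_one, Matrix.diagonal_kronecker_diagonal]; simp,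
          Matrix.mul_diagonal, Matrix.diagonal_mul] at h1
        rw [show ((1 : GL (Fin 3) F) : Matrix (Fin 3) (Fin 3) F) ⊗ₖ ((Y : GL (Fin 3) F) : Matrix (Fin 3) (Fin 3) F) =
          Matrix.diagonal (fun z => ![1, ω, ω ^ 2] z.2) by
            show (1 : Matrix (Fin 3) (Fin 3) F) ⊗ₖ yM ω = _
            rw [yM, ← Matrix.diagonal_one, Matrix.diagonal_kronecker_diagonal]; simp,
          Matrix.mul_diagonal, Matrix.diagonal_mul] at h2
        by_contra hne
        refine hxy (Prod.ext (hvinj ?_) (hvinj ?_))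
        · exact mul_right_cancel₀ hne (h1.symm.trans (mul_comm _ _))
        · exact mul_right_cancel₀ hne (h2.symm.trans (mul_comm _ _))
      have hMd : M = Matrix.diagonal fun x => M x x := by
        ext x y
        by_cases hxy : x = y
        · subst hxy; rw [Matrix.diagonal_apply_eq]
        · rw [Matrix.diagonal_apply_ne _ hxy, hdiag x y hxy]
      have hstep : ∀ i j, M (i + sX, j) (i + sX, j) = M (i, j) (i, j) ∧
          M (i, j + sX) (i, j + sX) = M (i, j) (i, j) := by
        intro i j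
        constructor
        · have h1 := congrFun (congrFun (hc hXN (Subgroup.one_mem _)) (i + sX, j)) (i, j)
          rw [hMd, Matrix.diagonal_mul, Matrix.mul_diagonal] at h1
          simp only [Matrix.kroneckerMap_apply, Units.val_one, Matrix.one_apply_eq, mul_one] at h1
          exact mul_right_cancel₀ (hXne i) (h1.trans (mul_comm _ _))
        · have h1 := congrFun (congrFun (hc (Subgroup.one_mem _) hXN) (i, j + sX)) (i, j)
          rw [hMd, Matrix.diagonal_mul, Matrix.mul_diagonal] at h1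
          simp only [Matrix.kroneckerMap_apply, Units.val_one, Matrix.one_apply_eq, one_mul] at h1
          exact mul_right_cancel₀ (hXne j) (h1.trans (mul_comm _ _))
      have horbit : ∀ a b s : Fin 3, s ≠ 0 → b = a ∨ b = a + s ∨ b = a + s + s := by decide
      refine ⟨M (0, 0) (0, 0), ?_⟩
      rw [show M = M (0, 0) (0, 0) • (1 : Matrix (Fin 3 × Fin 3) (Fin 3 × Fin 3) F) from ?_, co_smul, co_one]
      · simp
      conv_lhs => rw [hMd]
      rw [Matrix.smul_one_eq_diagonal]
      congr 1
      funext ⟨i, j⟩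
      have h1 : M (i, j) (i, j) = M (0, j) (0, j) := by
        rcases horbit 0 i sX hsX0 with rfl | rfl | rfl
        exacts [rfl, (hstep _ _).1, ((hstep _ _).1).trans (hstep _ _).1]
      rcases horbit 0 j sX hsX0 with rfl | rfl | rfl
      exacts [h1, h1.trans (hstep _ _).2, h1.trans (((hstep _ _).2).trans (hstep _ _).2)]
  -- minimality
  have hmin : ∀ N' : Subgroup (GL ι F), scalars ι F ≤ N' → N' ≤ N → Norms H' N' →
      N' = scalars ι F ∨ N' = N := by
    intro N' hs hle' hn'
    rw [or_iff_not_imp_left]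
    intro hne
    have hS : ∀ g ∈ S, g ∈ H' := fun g hg => Subgroup.subset_closure hg
    have hconj : ∀ {A B a b : GL (Fin 3) F}, U3 σ A → U3 σ B → kap e P (a, b) ∈ N' →
        kap e P (A * a * A⁻¹, B * b * B⁻¹) ∈ N' := fun hA hB hab => by
      have := hn' _ (hS _ (Or.inl ⟨_, _, hA, hB, rfl⟩)) _ hab
      rwa [← map_inv, ← map_mul, ← map_mul] at this
    have hsw : ∀ {a b : GL (Fin 3) F}, kap e P (a, b) ∈ N' → kap e P (b, a) ∈ N' := fun hab => by
      have := hn' _ (hS _ (Or.inr rfl)) _ hab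
      rwa [swap_kap] at this
    have hcomm : ∀ {A a b : GL (Fin 3) F}, U3 σ A → kap e P (a, b) ∈ N' →
        kap e P (A * a * A⁻¹ * a⁻¹, 1) ∈ N' := fun {A a b} hA hab => by
      have := N'.mul_mem (hconj hA U3.one hab) (N'.inv_mem hab)
      rwa [← map_inv, ← map_mul, one_mul, inv_one, mul_one, Prod.inv_mk, Prod.mk_mul_mk, mul_inv_cancel] at this
    -- the first factor
    have hfirst : ∀ {a b : GL (Fin 3) F}, a ∈ nGroup σ Y → a ∉ scalars (Fin 3) F → kap e P (a, b) ∈ N' →
        kap e P (Y, 1) ∈ N' := by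
      have hscmul : ∀ {d : Fˣ} {x : GL (Fin 3) F}, kap e P (sc d * x, 1) ∈ N' → kap e P (x, 1) ∈ N' :=
        fun {d x} hdx => by
          rw [show ((sc d * x, 1) : GL (Fin 3) F × GL (Fin 3) F) = (sc d, sc 1) * (x, 1) by
            rw [map_one, Prod.mk_mul_mk, one_mul], map_mul, kap_sc] at hdx
          exact (N'.mul_mem_cancel_left (hs (sc_mem _))).1 hdx
      have hshifted : ∀ {a b : GL (Fin 3) F} {s : Fin 3}, Shift (a : Matrix (Fin 3) (Fin 3) F) s → s ≠ 0 →
          kap e P (a, b) ∈ N' → kap e P (Y, 1) ∈ N' := by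
        intro a b s hsa hs0 hab
        have h1 := hcomm hDu hab
        have hDa : ∀ {d : F} (hd : d ≠ 0) {Z : GL (Fin 3) F},
            (∀ j k, j = k + s → ![1, 1, ω] j = d * (Z : Matrix (Fin 3) (Fin 3) F) j j * ![1, 1, ω] k) →
            (Z : Matrix (Fin 3) (Fin 3) F) = Matrix.diagonal (fun j => (Z : Matrix (Fin 3) (Fin 3) F) j j) →
            D * a * D⁻¹ * a⁻¹ = sc (Units.mk0 d hd) * Z := by
          intro d hd Z hrel hZ
          rw [mul_inv_eq_iff_eq_mul, mul_inv_eq_iff_eq_mul]
          apply Units.ext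
          show Matrix.diagonal ![1, 1, ω] * (a : Matrix (Fin 3) (Fin 3) F) =
            _ * (a : Matrix (Fin 3) (Fin 3) F) * Matrix.diagonal ![1, 1, ω]
          rw [Units.val_mul, sc_coe, Units.val_mk0, Matrix.smul_mul, one_mul]
          conv_rhs => rw [hZ]
          ext j k
          rw [Matrix.smul_mul, Matrix.smul_mul, Matrix.smul_apply, Matrix.mul_diagonal, Matrix.diagonal_mul,
            Matrix.diagonal_mul, smul_eq_mul]
          by_cases hz : (a : Matrix (Fin 3) (Fin 3) F) j k = 0
          · simp [hz]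
          · rw [hrel j k (hsa j k hz)]; ring
        have hs12 : ∀ t : Fin 3, t ≠ 0 → t = 1 ∨ t = 2 := by decide
        obtain rfl | rfl := hs12 s hs0
        · rw [hDa (d := ω ^ 2) (pow_ne_zero 2 hω0) (Z := Y) (fun j k hjk => by
              subst hjk; fin_cases k <;> simp [Y, yM] <;> first | linear_combination (-1 : F) * hω3 |
                linear_combination (-ω) * hω3)
            (by show yM ω = _; simp [Y, yM])] at h1
          exact hscmul h1
        · have hZ : ((Y⁻¹ : GL (Fin 3) F) : Matrix (Fin 3) (Fin 3) F) = Matrix.diagonal ![1, ω ^ 2, ω] := rfl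
          rw [hDa (d := 1) one_ne_zero (Z := Y⁻¹) (fun j k hjk => by
              subst hjk; rw [hZ]; fin_cases k <;> simp <;> linear_combination (-1 : F) * hω3)
            (by rw [hZ]; simp)] at h1
          have h2 := N'.inv_mem (hscmul h1)
          rwa [← map_inv, Prod.inv_mk, inv_inv, inv_one] at h2
      intro a b ha hans hab
      obtain ⟨hau, s, hsa⟩ := nGroup_prop h (Y := Y) rfl hYu ha
      by_cases hs0 : s = 0
      · -- a diagonal non-scalar element: move it
        subst hs0
        set a' := g₀ * a * g₀⁻¹ with ha'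
        obtain ⟨-, t, ht⟩ := nGroup_prop h (Y := Y) rfl hYu (nGroup_conj hg₀ ha)
        by_cases ht0 : t = 0
        · exfalso
          subst ht0
          obtain ⟨da, hda⟩ : ∃ da, (a : Matrix (Fin 3) (Fin 3) F) = Matrix.diagonal da :=
            ⟨fun i => (a : Matrix (Fin 3) (Fin 3) F) i i, by
              ext i j
              by_cases hij : i = j
              · subst hij; rw [Matrix.diagonal_apply_eq]
              · rw [Matrix.diagonal_apply_ne _ hij]
                by_contra hne'
                exact hij (by simpa using hsa i j hne')⟩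
          obtain ⟨da', hd'⟩ : ∃ da', (a' : Matrix (Fin 3) (Fin 3) F) = Matrix.diagonal da' :=
            ⟨fun i => (a' : Matrix (Fin 3) (Fin 3) F) i i, by
              ext i j
              by_cases hij : i = j
              · subst hij; rw [Matrix.diagonal_apply_eq]
              · rw [Matrix.diagonal_apply_ne _ hij]
                by_contra hne'
                exact hij (by simpa using ht i j hne')⟩
          have hga : (g₀ : Matrix (Fin 3) (Fin 3) F) * (a : Matrix (Fin 3) (Fin 3) F) =
              (a' : Matrix (Fin 3) (Fin 3) F) * (g₀ : Matrix (Fin 3) (Fin 3) F) := by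
            rw [← Units.val_mul, ← Units.val_mul, ha', inv_mul_cancel_right]
          rw [hda, hd'] at hga
          have hall : ∀ j, da j = da' 0 := fun j => by
            have := congrFun (congrFun hga 0) j
            rw [Matrix.mul_diagonal, Matrix.diagonal_mul] at this
            have hg0j : (g₀ : Matrix (Fin 3) (Fin 3) F) 0 j = 1 := by
              show gm 0 j = 1
              fin_cases j <;> simp [gm]
            rwa [hg0j, one_mul, mul_one] at this
          have hne0 : da' 0 ≠ 0 := fun h0 => by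
            apply a.isUnit.map (Matrix.detMonoidHom) |>.ne_zero
            show (a : Matrix (Fin 3) (Fin 3) F).det = 0
            rw [hda, Matrix.det_diagonal]
            exact Finset.prod_eq_zero (Finset.mem_univ 0) (by rw [hall, h0])
          refine hans ((mem_scalars_iff a).2 ⟨Units.mk0 _ hne0, ?_⟩)
          rw [hda, Units.val_mk0, Matrix.smul_one_eq_diagonal]
          congr 1
          funext j
          exact hall j
        · refine hshifted (b := 1) ?_ ht0 (hcomm hg₀ hab)
          intro j k hjk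
          rw [Units.val_mul, Matrix.mul_apply] at hjk
          obtain ⟨l, -, hl⟩ := Finset.exists_ne_zero_of_sum_ne_zero hjk
          have hl2 : (((a⁻¹ : GL (Fin 3) F) : Matrix (Fin 3) (Fin 3) F)) l k ≠ 0 := right_ne_zero_of_mul hl
          rw [hau.inv_eq h, Matrix.transpose_apply, Matrix.map_apply] at hl2
          have e2 := hsa k l fun h0 => hl2 (by rw [h0, map_zero])
          rw [ht j l (left_ne_zero_of_mul hl), e2, add_zero]
      · exact hshifted hsa hs0 hab
    obtain ⟨z, hz, hzs⟩ : ∃ z ∈ N', z ∉ scalars ι F := SetLike.not_le_iff_exists.1 fun h1 => hne (le_antisymm h1 hs)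
    obtain ⟨a, ha, b, hb, d, rfl⟩ := hNmem z (hle' hz)
    have hab : kap e P (a, b) ∈ N' := (N'.mul_mem_cancel_right (hs (sc_mem d))).1 hz
    have hY1 : kap e P (Y, 1) ∈ N' := by
      by_cases has : a ∈ scalars (Fin 3) F
      · refine hfirst hb (fun hbs => hzs ?_) (hsw hab)
        obtain ⟨u, rfl⟩ := exists_sc has
        obtain ⟨v, rfl⟩ := exists_sc hbs
        rw [kap_sc, ← map_mul]; exact sc_mem _
      · exact hfirst ha has hab
    refine le_antisymm hle' (sup_le ?_ hs)
    rw [Subgroup.map_le_iff_le_comap]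
    rintro ⟨u, v⟩ ⟨hu, hv⟩
    have hall : ∀ x ∈ nGroup σ Y, kap e P (x, 1) ∈ N' := by
      intro x hx
      induction hx using Subgroup.closure_induction with
      | mem x hx =>
        obtain ⟨g, hg, rfl⟩ := hx
        have := hconj hg U3.one hY1
        rwa [inv_one, mul_one, mul_one] at this
      | one => rw [show ((1, 1) : GL (Fin 3) F × GL (Fin 3) F) = 1 from rfl, map_one]; exact N'.one_mem
      | mul p r _ _ ihp ihr =>
        have := N'.mul_mem ihp ihr
        rwa [← map_mul, Prod.mk_mul_mk, mul_one] at this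
      | inv p _ ihp =>
        have := N'.inv_mem ihp
        rwa [← map_inv, Prod.inv_mk, inv_one] at this
    show kap e P (u, v) ∈ N'
    rw [show ((u, v) : GL (Fin 3) F × GL (Fin 3) F) = (u, 1) * (1, v) by rw [Prod.mk_mul_mk, mul_one, one_mul],
      map_mul]
    exact N'.mul_mem (hall u hu) (hsw (hall v hv))
  rcases abelian_unitary (H := H') (by omega) hF hσ hG hNG hai hNscal hn hmin hscalN with
    ⟨r, R, p, e', k, h1, h2, h3', h4, h5, h6, h7, h8⟩ | ⟨F₁, r, P', ζ, h1, h2, h3', h4, h5⟩
  · exact Or.inl ⟨r, R, p, e', k, h1, h2, h3', h4, h5, h6, hHH'.trans h7, h8⟩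
  · exact Or.inr ⟨F₁, r, P', ζ, h1, h2, h3', h4, hHH'.trans h5⟩

end Cfsg.Agent.Classical.Asch
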