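import Cfsg.Agent.Lib.Classical.AschUnitShape
import Cfsg.Agent.Lib.Classical.AschUnitSmall
import Cfsg.Agent.Lib.Classical.AschUnitFiveData

/-!
In five dimensions over four elements, the normaliser of a quintic field is not maximal.
-/

set_option autoImplicit false
set_option maxRecDepth 20000
set_option maxHeartbeats 1000000
set_option synthInstance.maxHeartbeats 400000
set_option linter.unusedSectionVars false
set_option linter.unusedFintypeInType false
set_option linter.unusedDecidableInType false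
set_option linter.unusedSimpArgs false

namespace Cfsg.Agent.Classical.UnitFive

open Matrix Module Cfsg.Geo Cfsg.Agent.Classical.Asch
open MaxTv (qEquiv qEquiv_apply)
open Cfsg.Agent.Classical.Asch.UnitSmall (Four exists_four)
open scoped Pointwise

variable {F : Type*} [Field F] [Fintype F] {σ : F ≃+* F} {ω : F}

local notation "G5" => GL (Fin 5) F
local notation "M5F" => Matrix (Fin 5) (Fin 5) F

/-- The value of a symbol. -/
def ι (ω : F) : E → F
  | .z => 0 | .o => 1 | .w => ω | .v => ω ^ 2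

theorem ι_add (h : Four σ ω) (x y : E) : ι ω (add x y) = ι ω x + ι ω y := by
  have h2 := h.two
  have hr := h.rel
  cases x <;> cases y <;> simp [ι, add] <;> grind

theorem ι_mul (h : Four σ ω) (x y : E) : ι ω (mul x y) = ι ω x * ι ω y := by
  have hc := h.cube
  cases x <;> cases y <;> simp [ι, mul] <;> grind

theorem ι_cj (h : Four σ ω) (x : E) : ι ω (cj x) = σ (ι ω x) := by
  rw [h.pow]
  have hc := h.cube
  cases x <;> simp [ι, cj] <;> first | (linear_combination -ω * hc) | ring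

theorem ι_inj (h : Four σ ω) : Function.Injective (ι ω) := by
  have h0 := h.ne_zero
  have h1 := h.ne_one
  have hs : ω ^ 2 ≠ 1 := fun e => h1 (by linear_combination h.cube - ω * e)
  have hz : ω ^ 2 ≠ 0 := pow_ne_zero 2 h0
  have hs' : ω ^ 2 ≠ ω := fun e => h1 (mul_left_cancel₀ h0 (by linear_combination e))
  intro x y
  cases x <;> cases y <;>
    simp [ι, h0, h1, hz, Ne.symm hz, hs, hs', Ne.symm h1, Ne.symm h0, Ne.symm hs, Ne.symm hs']

theorem ι_surj (h : Four σ ω) : Function.Surjective (ι ω) := by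
  refine ((Fintype.bijective_iff_injective_and_card _).2 ⟨ι_inj h, ?_⟩).2
  rw [h.card]; rfl

/-- The matrix of a table. -/
def toM (ω : F) (A : M5) : M5F := Matrix.of fun i j => ι ω (A i j)

/-- The vector of a table. -/
def toV (ω : F) (u : V5) : Fin 5 → F := fun i => ι ω (u i)

theorem toM_mul (h : Four σ ω) (A B : M5) : toM ω (mulM A B) = toM ω A * toM ω B := by
  ext i j
  simp [toM, mulM, Matrix.mul_apply, Fin.sum_univ_five, ι_add h, ι_mul h]

theorem toV_mul (h : Four σ ω) (A : M5) (u : V5) : toV ω (mulV A u) = toM ω A *ᵥ toV ω u := by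
  ext i
  simp [toM, toV, mulV, Matrix.mulVec, dotProduct, Fin.sum_univ_five, ι_add h, ι_mul h]

theorem toV_smul (h : Four σ ω) (c : E) (u : V5) : toV ω (smulV c u) = ι ω c • toV ω u := by
  ext i
  simp [toV, smulV, ι_mul h]

theorem toM_one : toM ω oneM = (1 : M5F) := by
  ext i j
  simp only [toM, oneM, Matrix.of_apply, Matrix.one_apply]
  split <;> simp [ι]

theorem toM_pw (h : Four σ ω) (A : M5) (k : ℕ) : toM ω (pw A k) = toM ω A ^ k := by
  induction k with
  | zero => simp [pw, toM_one]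
  | succ k ih => rw [pw, toM_mul h, ih, pow_succ]

theorem toM_inj (h : Four σ ω) : Function.Injective (toM ω) := fun A B e =>
  funext fun i => funext fun j => ι_inj h (congrFun (congrFun e i) j)

theorem toM_herm (h : Four σ ω) (A : M5) : toM ω (herm A) = ((toM ω A)ᵀ).map σ := by
  ext i j
  simp [toM, herm, ι_cj h]

/-- A unitary element from a table. -/
def unitOf (h : Four σ ω) (A : M5) (hA : mulM (herm A) A = oneM ∧ mulM A (herm A) = oneM) : G5 :=
  ⟨toM ω A, toM ω (herm A), by rw [← toM_mul h, hA.2, toM_one], by rw [← toM_mul h, hA.1, toM_one]⟩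

theorem unitOf_mem (h : Four σ ω) (A : M5) (hA : mulM (herm A) A = oneM ∧ mulM A (herm A) = oneM) :
    unitOf h A hA ∈ GU 5 F 2 := by
  rw [mem_GU_gram h.pow]
  show (toM ω A)ᵀ * (1 * (toM ω A).map σ) = 1
  have h1 : toM ω (herm A) * toM ω A = 1 := by rw [← toM_mul h, hA.1, toM_one]
  have h2 := congrArg (fun M : M5F => M.map σ) h1
  simp only [Matrix.map_mul, toM_herm h, Matrix.map_map, Matrix.map_one σ (map_zero σ) (map_one σ)] at h2
  rw [Matrix.one_mul]
  convert h2 using 2
  ext i j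
  simp [h.pow, ← pow_mul]
  rw [show (toM ω A j i) ^ 4 = toM ω A j i by rw [← h.card, FiniteField.pow_card]]

theorem det_eq_one (h : Four σ ω) {M : M5F} {k : ℕ} (hk : Nat.Coprime k 3) (hM : M ^ k = 1) : M.det = 1 := by
  have h1 : M.det ^ k = 1 := by rw [← Matrix.det_pow, hM, Matrix.det_one]
  have h0 : M.det ≠ 0 := fun h0 => by
    rcases Nat.eq_zero_or_pos k with rfl | hk0
    · simp at hk
    · rw [h0, zero_pow hk0.ne'] at h1; exact zero_ne_one h1
  have h3 : M.det ^ 3 = 1 := by simpa [h.card] using FiniteField.pow_card_sub_one_eq_one M.det h0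
  have := pow_gcd_eq_one.2 ⟨h1, h3⟩
  rwa [Nat.coprime_iff_gcd_eq_one.1 hk, pow_one] at this

/-- The special unitary group. -/
abbrev SU5 (F : Type*) [Field F] : Subgroup (GL (Fin 5) F) := GU 5 F 2 ⊓ specialLinear (Fin 5) F

theorem unitOf_sl (h : Four σ ω) (A : M5) (hA : mulM (herm A) A = oneM ∧ mulM A (herm A) = oneM) {k : ℕ}
    (hk : Nat.Coprime k 3) (hp : pw A k = oneM) : unitOf h A hA ∈ SU5 F := by
  refine ⟨unitOf_mem h A hA, MonoidHom.mem_ker.2 (Units.ext ?_)⟩
  show (toM ω A).det = 1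
  exact det_eq_one h hk (by rw [← toM_pw h, hp, toM_one])

theorem exists_four_five (hF : Fintype.card F = 2 ^ 2) : ∃ ω : F, Four (qEquiv hF) ω :=
  exists_four hF fun _ => rfl

variable (h : Four σ ω)
include h

omit h in
/-- The lines of the configuration. -/
def lines (ω : F) (i : Fin 55) : Submodule F (Fin 5 → F) := F ∙ toV ω (D i)

theorem unitOf_perm (A : M5) (hA : mulM (herm A) A = oneM ∧ mulM A (herm A) = oneM) (p : Fin 55 → Fin 55)
    (c : Fin 55 → E) (hp : Function.Injective p) (hq : ∀ i, mulV A (D i) = smulV (c i) (D (p i)) ∧ c i ≠ .z) :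
    unitOf h A hA ∈ decompositionStabilizer (lines ω) := by
  refine ⟨Equiv.ofBijective p (Finite.injective_iff_bijective.1 hp), fun i => ?_⟩
  show (F ∙ toV ω (D i)).map (Matrix.toLin' (toM ω A)) = F ∙ toV ω (D (p i))
  rw [Submodule.map_span, Set.image_singleton, Matrix.toLin'_apply, ← toV_mul h, (hq i).1, toV_smul h]
  refine Submodule.span_singleton_smul_eq (isUnit_iff_ne_zero.2 fun e => (hq i).2 (ι_inj h ?_)) _
  rw [e]; rfl

/-- The element of order eleven. -/
def tG : G5 := unitOf h T T_unit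

/-- The element of order five. -/
def sG : G5 := unitOf h S S_unit

/-- The involution. -/
def wG : G5 := unitOf h W W_unit

omit h in
/-- The subgroup of the configuration. -/
def big (ω : F) : Subgroup G5 := decompositionStabilizer (lines ω) ⊓ SU5 F

theorem tG_mem : tG h ∈ big ω :=
  ⟨unitOf_perm h T T_unit pT cT perm_inj.1 T_perm, unitOf_sl h T T_unit (k := 11) (by decide) T_order.1⟩

theorem sG_mem : sG h ∈ big ω :=
  ⟨unitOf_perm h S S_unit pS cS perm_inj.2.1 S_perm, unitOf_sl h S S_unit (k := 5) (by decide) S_order⟩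

theorem wG_mem : wG h ∈ big ω :=
  ⟨unitOf_perm h W W_unit pW cW perm_inj.2.2 W_perm, unitOf_sl h W W_unit (k := 2) (by decide) (by
    show mulM (mulM oneM W) W = oneM
    exact toM_inj h (by rw [toM_mul h, toM_mul h, toM_one, one_mul, ← toM_mul h, W_order, toM_one]))⟩

theorem big_ne : big ω ≠ SU5 F := by
  intro hL
  have hz : unitOf h Z Z_unit ∈ SU5 F := by
    refine ⟨unitOf_mem h Z Z_unit, MonoidHom.mem_ker.2 (Units.ext ?_)⟩
    show (toM ω Z).det = 1
    rw [show toM ω Z = Matrix.diagonal ![ω, ω ^ 2, 1, 1, 1] by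
      ext i j
      fin_cases i <;> fin_cases j <;> simp [toM, Z, ι], Matrix.det_diagonal, Fin.prod_univ_five]
    simp only [Matrix.cons_val]
    linear_combination h.cube
  rw [← hL] at hz
  obtain ⟨⟨π, hπ⟩, -⟩ := hz
  have h2 := hπ 2
  have hmem : toM ω Z *ᵥ toV ω (D 2) ∈ lines ω (π 2) := by
    rw [← h2]
    exact Submodule.mem_map.2 ⟨_, Submodule.mem_span_singleton_self _, rfl⟩
  obtain ⟨c, hc⟩ := Submodule.mem_span_singleton.1 hmem
  obtain ⟨c, rfl⟩ := ι_surj h c
  rw [← toV_smul h, ← toV_mul h] at hc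
  exact Z_out (π 2) c (funext fun i => ι_inj h (congrFun hc.symm i))

omit h in
/-- The matrix of the orbit of the first coordinate vector. -/
def M0 : M5 := fun i j => pw T j i 0

omit h in
theorem M0_inv : mulM M0 Minv = oneM := by decide +kernel

theorem commute_tG {y : G5} (hy : y ∈ GU 5 F 2) (hc : y * tG h = tG h * y) :
    ∃ (c : F) (k : ℕ), (y : M5F) = c • toM ω T ^ k := by
  have hcm : (y : M5F) * toM ω T = toM ω T * (y : M5F) := congrArg Units.val hc
  have hcol : ∀ i, ∃ x : E, ι ω x = (y : M5F) i 0 := fun i => ι_surj h _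
  choose u hu using hcol
  let e0 : V5 := fun i => oneM i 0
  have hye : (y : M5F) *ᵥ toV ω e0 = toV ω u := by
    ext i
    show ((y : M5F) *ᵥ toV ω e0) i = ι ω (u i)
    rw [hu]
    simp [toV, e0, oneM, Matrix.mulVec, dotProduct, Fin.sum_univ_five, ι]
  have hdot : ∀ a b : V5, ι ω (dotE a b) = hermForm 5 F 2 (toV ω a) (toV ω b) := fun a b => by
    simp [dotE, hermForm, toV, Fin.sum_univ_five, ι_add h, ι_mul h, ι_cj h, h.pow]
  have hinv : ∀ a b, hermForm 5 F 2 ((y : M5F) *ᵥ a) ((y : M5F) *ᵥ b) = hermForm 5 F 2 a b := hy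
  have t1 : dotE u u = .o := ι_inj h (by
    rw [hdot, ← hye, hinv, ← hdot]; rfl)
  have t2 : dotE (mulV T u) u = dotE (mulV T e0) e0 := ι_inj h (by
    rw [hdot, hdot, toV_mul h, toV_mul h, ← hye, Matrix.mulVec_mulVec, ← hcm, ← Matrix.mulVec_mulVec, hinv])
  have t3 : dotE (mulV T (mulV T u)) u = dotE (mulV T (mulV T e0)) e0 := ι_inj h (by
    have hcv : ∀ v, toM ω T *ᵥ ((y : M5F) *ᵥ v) = (y : M5F) *ᵥ (toM ω T *ᵥ v) := fun v => by
      rw [Matrix.mulVec_mulVec, Matrix.mulVec_mulVec, hcm]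
    rw [hdot, hdot, toV_mul h, toV_mul h, toV_mul h, toV_mul h, ← hye, hcv, hcv, hinv])
  have hgood := good_all (u 0) (u 1) (u 2) (u 3) (u 4)
  rw [show (![u 0, u 1, u 2, u 3, u 4] : V5) = u by ext i; fin_cases i <;> rfl] at hgood
  simp only [good, t1, t2, t3, beq_self_eq_true, Bool.not_true, Bool.false_or, List.any_eq_true,
    List.all_eq_true, List.mem_finRange, true_implies, beq_iff_eq, e0] at hgood
  obtain ⟨c, -, k, -, hck⟩ := hgood
  refine ⟨ι ω c, k, ?_⟩
  let X : M5F := (y : M5F) - ι ω c • toM ω T ^ k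
  have hX0 : ∀ i, X i 0 = 0 := fun i => by
    simp only [X, Matrix.sub_apply, Matrix.smul_apply, smul_eq_mul, ← toM_pw h]
    rw [← hu, ← hck i, ι_mul h]
    exact sub_self _
  have hXT : ∀ j : ℕ, X * toM ω T ^ j = toM ω T ^ j * X := by
    intro j
    refine (Commute.pow_right ?_ j).eq
    exact Commute.sub_left hcm ((Commute.pow_self _ k).smul_left _)
  have hXM : X * toM ω M0 = 0 := by
    ext i j
    have h1 := congrFun (congrFun (hXT j) i) 0
    rw [Matrix.mul_apply, Matrix.mul_apply] at h1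
    rw [Matrix.mul_apply]
    simp only [hX0, mul_zero, Finset.sum_const_zero, ← toM_pw h] at h1
    exact h1
  have hX : X = 0 := by
    rw [show X = X * (toM ω M0 * toM ω Minv) by rw [← toM_mul h, M0_inv, toM_one, mul_one],
      ← Matrix.mul_assoc, hXM, Matrix.zero_mul]
  exact sub_eq_zero.1 hX

theorem centralizer_tG {y : G5} (hy : y ∈ SU5 F) (hc : y * tG h = tG h * y) : y ∈ big ω := by
  obtain ⟨c, k, hck⟩ := commute_tG h hy.1 hc
  have hd : (y : M5F).det = 1 := congrArg Units.val (MonoidHom.mem_ker.1 hy.2)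
  have hdT : (toM ω T).det = 1 := det_eq_one h (k := 11) (by decide) (by rw [← toM_pw h, T_order.1, toM_one])
  rw [hck, Matrix.det_smul, Matrix.det_pow, hdT, one_pow, mul_one, Fintype.card_fin] at hd
  have hc0 : c ≠ 0 := fun e => by rw [e, zero_pow (by norm_num)] at hd; exact zero_ne_one hd
  have h3 : c ^ 3 = 1 := by simpa [h.card] using FiniteField.pow_card_sub_one_eq_one c hc0
  have hc1 : c = 1 := by linear_combination (-c) * hd + (c ^ 3 + 1) * h3
  have : y = tG h ^ k := Units.ext (by rw [hck, hc1, one_smul, Units.val_pow_eq_pow_val]; rfl)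
  rw [this]
  exact pow_mem (tG_mem h) k

theorem normalizer_tG {y : G5} (hy : y ∈ SU5 F) {j : ℕ} (hj : y * tG h * y⁻¹ = tG h ^ j) : y ∈ big ω := by
  have h11 : tG h ^ 11 = 1 := Units.ext (by
    rw [Units.val_pow_eq_pow_val]; show toM ω T ^ 11 = 1; rw [← toM_pw h, T_order.1, toM_one])
  rw [← Nat.mod_add_div j 11, pow_add, pow_mul, h11, one_pow, mul_one] at hj
  have hjm : (y : M5F) * toM ω T * (y⁻¹ : G5) = toM ω T ^ (j % 11) := by
    have := congrArg Units.val hj
    rw [Units.val_mul, Units.val_mul, Units.val_pow_eq_pow_val] at this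
    exact this
  have hpow : ∀ n : ℕ, (y : M5F) * toM ω T ^ n * (y⁻¹ : G5) = (toM ω T ^ (j % 11)) ^ n := fun n => by
    have := congrArg Units.val (conj_pow (a := y) (b := tG h) (i := n))
    rw [hj] at this
    simp only [Units.val_mul, Units.val_pow_eq_pow_val] at this
    exact this.symm
  have hpoly : poly (pw T (⟨j % 11, Nat.mod_lt _ (by norm_num)⟩ : Fin 11)) = fun _ _ => .z := by
    have hP : ∀ A : M5, toM ω (poly A) = ι ω (ch 0) • 1 + ι ω (ch 1) • toM ω A + ι ω (ch 2) • toM ω A ^ 2 +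
        ι ω (ch 3) • toM ω A ^ 3 + ι ω (ch 4) • toM ω A ^ 4 + ι ω (ch 5) • toM ω A ^ 5 := fun A => by
      rw [← toM_pw h, ← toM_pw h, ← toM_pw h, ← toM_pw h, ← toM_one (ω := ω)]
      ext i k
      simp [toM, poly, ι_add h, ι_mul h]
    have hz : toM ω (fun _ _ => E.z) = (0 : M5F) := by ext; simp [toM, ι]
    refine toM_inj h ?_
    have h0 := hP T
    rw [poly_T, hz] at h0
    rw [hz, hP, toM_pw h, ← hpow 2, ← hpow 3, ← hpow 4, ← hpow 5, ← hjm]
    have := congrArg (fun M : M5F => (y : M5F) * M * (y⁻¹ : G5)) h0.symm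
    simp only [Matrix.mul_add, Matrix.add_mul, Matrix.mul_smul, Matrix.smul_mul, Matrix.mul_one, Matrix.mul_zero,
      Matrix.zero_mul, Units.mul_inv] at this
    exact this
  obtain ⟨i, hi⟩ := poly_pow _ hpoly
  have hst : sG h * tG h * (sG h)⁻¹ = tG h ^ 3 := by
    rw [mul_inv_eq_iff_eq_mul]
    refine Units.ext ?_
    rw [Units.val_mul, Units.val_mul, Units.val_pow_eq_pow_val]
    show toM ω S * toM ω T = toM ω T ^ 3 * toM ω S
    rw [← toM_pw h, ← toM_mul h, ← toM_mul h, ST]
  have hsi : ∀ i : ℕ, sG h ^ i * tG h * (sG h ^ i)⁻¹ = tG h ^ (3 ^ i) := by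
    intro i
    induction i with
    | zero => simp
    | succ i ih =>
      rw [pow_succ' (sG h), show sG h * sG h ^ i * tG h * (sG h * sG h ^ i)⁻¹ =
        sG h * (sG h ^ i * tG h * (sG h ^ i)⁻¹) * (sG h)⁻¹ by group, ih, ← conj_pow, hst, ← pow_mul, pow_succ']
  have hy' : tG h ^ (j % 11) = sG h ^ (i : ℕ) * tG h * (sG h ^ (i : ℕ))⁻¹ := by
    rw [hsi, ← Nat.mod_add_div (3 ^ (i : ℕ)) 11, pow_add, pow_mul, h11, one_pow, mul_one, hi]
  have hs := pow_mem (sG_mem h) (i : ℕ)
  have hc : (sG h ^ (i : ℕ))⁻¹ * y ∈ big ω := by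
    refine centralizer_tG h (mul_mem (inv_mem hs.2) hy) ?_
    rw [show (sG h ^ (i : ℕ))⁻¹ * y * tG h = (sG h ^ (i : ℕ))⁻¹ * (y * tG h * y⁻¹) * y by group, hj, hy']
    group
  simpa using mul_mem hs hc

theorem wG_not {j : ℕ} : wG h * tG h * (wG h)⁻¹ ≠ tG h ^ j := by
  intro e
  have h11 : tG h ^ 11 = 1 := Units.ext (by
    rw [Units.val_pow_eq_pow_val]; show toM ω T ^ 11 = 1; rw [← toM_pw h, T_order.1, toM_one])
  rw [← Nat.mod_add_div j 11, pow_add, pow_mul, h11, one_pow, mul_one, mul_inv_eq_iff_eq_mul] at e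
  have e' := congrArg Units.val e
  rw [Units.val_mul, Units.val_mul, Units.val_pow_eq_pow_val] at e'
  refine W_moves ⟨j % 11, Nat.mod_lt _ (by norm_num)⟩ (toM_inj h ?_)
  rw [toM_mul h, toM_mul h, toM_pw h]
  exact e'

theorem orderOf_tG : orderOf (tG h) = 11 := by
  haveI : Fact (Nat.Prime 11) := ⟨by norm_num⟩
  refine orderOf_eq_prime ?_ ?_
  · exact Units.ext (by rw [Units.val_pow_eq_pow_val]; show toM ω T ^ 11 = 1; rw [← toM_pw h, T_order.1, toM_one])
  · intro e
    refine T_order.2 (toM_inj h ?_)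
    rw [toM_one]
    exact congrArg Units.val e

omit h in
/-- A quintic field closed under adjoints has a unitary element of order eleven. -/
theorem exists_torus (hF : Fintype.card F = 2 ^ 2) {K : Subalgebra F M5F} (hK : IsFieldSubalgebra 5 K)
    (hac : IsAdjointClosedFor (hermForm 5 F 2) K) :
    ∃ X : G5, X ∈ SU5 F ∧ orderOf X = 11 ∧
      ∀ g ∈ subalgebraNormalizer K, g * X * g⁻¹ ∈ Subgroup.zpowers X := by
  obtain ⟨ω, h⟩ := exists_four_five (F := F) hF
  generalize qEquiv hF = σ at h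
  have hσσ : ∀ a, σ (σ a) = a := fun a => by
    rw [h.pow, h.pow, ← pow_mul, show 2 * 2 = Fintype.card F by rw [h.card], FiniteField.pow_card]
  have hadj : ∀ k ∈ K, kᵀ.map σ ∈ K := by
    intro k hk
    obtain ⟨k', hk', hf⟩ := hac k hk
    convert hk'
    ext i j
    have e := hf (Pi.single i 1) (Pi.single j 1)
    rw [hermForm_single_right hF, ← hermForm_symm hF 5 (k' *ᵥ Pi.single j 1) (Pi.single i 1),
      hermForm_single_right hF, Matrix.mulVec_single_one,
      Matrix.mulVec_single_one] at e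
    simp only [Matrix.col_apply] at e
    simp only [Matrix.map_apply, Matrix.transpose_apply]
    rw [e, ← h.pow, hσσ]
  letI : Field K := (field_model hK).toField
  haveI : FiniteDimensional F K := Module.finite_of_finrank_pos (by rw [hK.finrank_eq]; norm_num)
  haveI : Finite K := Module.finite_of_finite F
  haveI : Fintype K := Fintype.ofFinite K
  have hcardK : Fintype.card K = 1024 := by
    rw [Module.card_eq_pow_finrank (K := F), h.card, hK.finrank_eq]
    norm_num
  haveI : Fact (Nat.Prime 11) := ⟨by norm_num⟩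
  obtain ⟨u, hu⟩ := exists_prime_orderOf_dvd_card' (G := Kˣ) 11 (by
    rw [Nat.card_units, Nat.card_eq_fintype_card, hcardK]; norm_num)
  let x : K := u
  have hx : IsPrimitiveRoot x 11 := IsPrimitiveRoot.coe_units_iff.2 (hu ▸ IsPrimitiveRoot.orderOf u)
  let τ : K →+* K :=
    { toFun := fun k => ⟨((k : M5F))ᵀ.map σ, hadj k k.2⟩
      map_one' := Subtype.ext (by
        show ((1 : M5F))ᵀ.map σ = 1
        rw [Matrix.transpose_one, Matrix.map_one σ (map_zero σ) (map_one σ)])
      map_mul' := fun a b => Subtype.ext (by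
        show ((a : M5F) * (b : M5F))ᵀ.map σ = (a : M5F)ᵀ.map σ * (b : M5F)ᵀ.map σ
        rw [hK.comm _ a.2 _ b.2, Matrix.transpose_mul, Matrix.map_mul])
      map_zero' := Subtype.ext (by ext; simp)
      map_add' := fun a b => Subtype.ext (by ext; simp) }
  have hττ : ∀ k, τ (τ k) = k := fun k => Subtype.ext (by
    show (((k : M5F))ᵀ.map σ)ᵀ.map σ = k
    ext i j; simp [hσσ])
  obtain ⟨j, hj, hxj⟩ := hx.eq_pow_of_pow_eq_one (show (τ x) ^ 11 = 1 by rw [← map_pow, hx.pow_eq_one, map_one])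
  have hjj : j * j % 11 = 1 := by
    have e := hττ x
    rw [← hxj, map_pow, ← hxj, ← pow_mul] at e
    have e1 : x ^ (j * j) = x ^ 1 := e.trans (pow_one x).symm
    rw [← pow_mod_orderOf, ← hx.eq_orderOf] at e1
    exact hx.pow_inj (Nat.mod_lt _ (by norm_num)) (by norm_num) e1
  have hj10 : j = 10 := by
    interval_cases j <;> simp at hjj ⊢
    rw [pow_one] at hxj
    let E := RingHom.eqLocusField τ (RingHom.id K)
    haveI : Fintype E := Fintype.ofFinite E
    have hω : τ (algebraMap F K ω) = algebraMap F K (ω ^ 2) := Subtype.ext (by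
      show (algebraMap F M5F ω)ᵀ.map σ = algebraMap F M5F (ω ^ 2)
      ext i k
      by_cases hik : i = k
      · subst hik; simp [Matrix.algebraMap_eq_diagonal, h.pow]
      · simp [Matrix.algebraMap_eq_diagonal, Matrix.diagonal, hik, Ne.symm hik])
    have hmem : ∀ k : K, k ∈ E ↔ τ k = k := fun k => Iff.rfl
    have h2 : (2 : K) = 0 := by rw [← map_ofNat (algebraMap F K) 2, h.two, map_zero]
    have hr : 1 + algebraMap F K ω + algebraMap F K ω ^ 2 = 0 := by
      rw [← map_one (algebraMap F K), ← map_pow, ← map_add, ← map_add, h.rel, map_zero]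
    let f : E × E → K := fun p => (p.1 : K) + algebraMap F K ω * p.2
    have hf : Function.Bijective f := by
      constructor
      · rintro ⟨⟨a, ha⟩, ⟨b, hb⟩⟩ ⟨⟨a', ha'⟩, ⟨b', hb'⟩⟩ e
        rw [hmem] at ha hb ha' hb'
        have e' := congrArg τ e
        simp only [f, map_add, map_mul, ha, hb, ha', hb', hω, map_pow] at e e'
        have hb2 : b = b' := by linear_combination -e - e' + (b - b') * hr + (a - a') * h2
        subst hb2
        have : a = a' := by linear_combination e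
        subst this
        rfl
      · intro k
        refine ⟨(⟨k + algebraMap F K ω * (k + τ k), ?_⟩, ⟨k + τ k, ?_⟩), ?_⟩
        · rw [hmem]
          simp only [map_add, map_mul, hττ, hω, map_pow]
          linear_combination (τ k + k) * hr - (k + algebraMap F K ω * (k + τ k)) * h2
        · rw [hmem]; simp only [map_add, hττ]; ring
        · simp only [f]
          linear_combination algebraMap F K ω * (k + τ k) * h2
    have hcE := Fintype.card_of_bijective hf
    rw [Fintype.card_prod, hcardK] at hcE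
    have h32 : Fintype.card E = 32 := by
      have := Nat.mul_self_inj.1 (hcE.trans (show 1024 = 32 * 32 by norm_num))
      exact this
    have hxE : x ∈ E := (hmem x).2 hxj.symm
    have h31 : x ^ 31 = 1 := by
      have := FiniteField.pow_card_sub_one_eq_one (⟨x, hxE⟩ : E) (fun e => hx.ne_zero (by norm_num)
        (congrArg Subtype.val e))
      rw [h32] at this
      exact congrArg Subtype.val this
    have := hx.dvd_of_pow_eq_one 31 h31
    norm_num at this
  subst hj10
  have hxx : τ x * x = 1 := by rw [← hxj, ← pow_succ, hx.pow_eq_one]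
  have hm : (x : M5F)ᵀ.map σ * (x : M5F) = 1 := congrArg Subtype.val hxx
  let X : G5 := ⟨(x : M5F), (x : M5F)ᵀ.map σ, by rw [hK.comm _ x.2 _ (hadj _ x.2)]; exact hm, hm⟩
  have hX11 : (x : M5F) ^ 11 = 1 := congrArg Subtype.val hx.pow_eq_one
  have hord : orderOf X = 11 := orderOf_eq_prime (Units.ext (by rw [Units.val_pow_eq_pow_val]; exact hX11))
    fun e => hx.ne_one (by norm_num) (Subtype.ext (congrArg Units.val e))
  refine ⟨X, ⟨?_, ?_⟩, hord, ?_⟩
  · show X ∈ GU 5 F 2
    rw [mem_GU_gram h.pow]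
    have h2 := congrArg (fun M : M5F => M.map σ) hm
    simp only [Matrix.map_mul, Matrix.map_map, Matrix.map_one σ (map_zero σ) (map_one σ)] at h2
    show (x : M5F)ᵀ * (1 * (x : M5F).map σ) = 1
    rw [Matrix.one_mul]
    convert h2 using 2
    ext i k
    simp [hσσ]
  · refine MonoidHom.mem_ker.2 (Units.ext ?_)
    exact det_eq_one h (k := 11) (by decide) hX11
  · intro g hg
    have hy := (hg (x : M5F)).1 x.2
    obtain ⟨i, -, hi⟩ := hx.eq_pow_of_pow_eq_one (show (⟨_, hy⟩ : K) ^ 11 = 1 from Subtype.ext (by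
      show ((g * X * g⁻¹ : G5) : M5F) ^ 11 = 1
      rw [← Units.val_pow_eq_pow_val, conj_pow,
        show X ^ 11 = 1 by rw [← hord]; exact pow_orderOf_eq_one X]
      simp))
    refine ⟨i, ?_⟩
    show X ^ (i : ℤ) = _
    rw [zpow_natCast]
    exact Units.ext (by rw [Units.val_pow_eq_pow_val]; exact congrArg Subtype.val hi)

omit h in
/-- The normaliser of a quintic field is not maximal over four elements. -/
theorem not_maximal (hF : Fintype.card F = 2 ^ 2) {K : Subalgebra F M5F} (hK : IsFieldSubalgebra 5 K)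
    (hac : IsAdjointClosedFor (hermForm 5 F 2) K) :
    ¬ IsMaximalIn (SU5 F) (subalgebraNormalizer K ⊓ SU5 F) := by
  intro hmax
  obtain ⟨X, hXS, hXo, hXn⟩ := exists_torus hF hK hac
  obtain ⟨ω, h⟩ := exists_four_five (F := F) hF
  generalize qEquiv hF = σ at h
  haveI : Fact (Nat.Prime 11) := ⟨by norm_num⟩
  have hcard : Nat.card (GU 5 F 2) = 41057280 := by
    have e := order_GU hF 5
    norm_num [Finset.prod_range_succ] at e
    exact_mod_cast e
  have hfac : (Nat.card (GU 5 F 2)).factorization 11 = 1 := by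
    rw [hcard, show 41057280 = 11 * 3732480 by norm_num, Nat.factorization_mul (by norm_num) (by norm_num),
      Finsupp.add_apply, Nat.Prime.factorization_self (by norm_num),
      Nat.factorization_eq_zero_of_not_dvd (n := 3732480) (p := 11) (by norm_num)]
  let Xu : GU 5 F 2 := ⟨X, hXS.1⟩
  let tu : GU 5 F 2 := ⟨tG h, (tG_mem h).2.1⟩
  have hXu : Nat.card (Subgroup.zpowers Xu) = 11 := by
    rw [Nat.card_zpowers, ← orderOf_injective (GU 5 F 2).subtype Subtype.val_injective Xu]; exact hXo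
  have htu : Nat.card (Subgroup.zpowers tu) = 11 := by
    rw [Nat.card_zpowers, ← orderOf_injective (GU 5 F 2).subtype Subtype.val_injective tu]; exact orderOf_tG h
  let P : Sylow 11 (GU 5 F 2) := Sylow.ofCard (Subgroup.zpowers Xu) (by rw [hfac, pow_one, hXu])
  let Q : Sylow 11 (GU 5 F 2) := Sylow.ofCard (Subgroup.zpowers tu) (by rw [hfac, pow_one, htu])
  obtain ⟨g, hg⟩ := MulAction.exists_smul_eq (GU 5 F 2) P Q
  have hg' : MulAut.conj g • Subgroup.zpowers Xu = Subgroup.zpowers tu := congrArg Sylow.toSubgroup hg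
  have hXt : (g : G5) * X * (g : G5)⁻¹ ∈ Subgroup.zpowers (tG h) := by
    have : g * Xu * g⁻¹ ∈ Subgroup.zpowers tu := by
      rw [← hg']; exact Subgroup.smul_mem_pointwise_smul _ _ _ (Subgroup.mem_zpowers Xu)
    obtain ⟨k, hk⟩ := this
    exact ⟨k, congrArg Subtype.val hk⟩
  have htX : tG h ∈ Subgroup.zpowers ((g : G5) * X * (g : G5)⁻¹) := by
    have := Subgroup.mem_zpowers tu
    rw [← hg', Subgroup.mem_pointwise_smul_iff_inv_smul_mem] at this
    obtain ⟨k, hk⟩ := this
    refine ⟨k, ?_⟩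
    have hk' := congrArg Subtype.val (congrArg (fun z => g * z * g⁻¹) hk)
    simp only [MulAut.smul_def, MulAut.conj_inv_apply, Subgroup.coe_mul, Subgroup.coe_inv,
      Subgroup.coe_zpow] at hk'
    show ((g : G5) * X * (g : G5)⁻¹) ^ k = tG h
    rw [conj_zpow]
    refine hk'.trans ?_
    show (g : G5) * ((g : G5)⁻¹ * tG h * (g : G5)) * (g : G5)⁻¹ = tG h
    group
  have hsl : ∀ a : G5, ∀ y : G5, a ∈ GU 5 F 2 → y ∈ SU5 F → a * y * a⁻¹ ∈ SU5 F := fun a y ha hy =>
    Subgroup.mem_inf.2 ⟨mul_mem (mul_mem ha (Subgroup.mem_inf.1 hy).1) (inv_mem ha), (MonoidHom.normal_ker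
      (Matrix.GeneralLinearGroup.det : G5 →* Fˣ)).conj_mem y hy.2 a⟩
  have hnat : ∀ y ∈ subalgebraNormalizer K ⊓ SU5 F,
      (g : G5) * y * (g : G5)⁻¹ ∈ SU5 F ∧ ∃ j : ℕ,
        ((g : G5) * y * (g : G5)⁻¹) * tG h * ((g : G5) * y * (g : G5)⁻¹)⁻¹ = tG h ^ j := by
    intro y hy
    refine ⟨hsl _ _ g.2 hy.2, ?_⟩
    obtain ⟨m, hm⟩ := htX
    obtain ⟨i, hi⟩ := hXn y hy.1
    have : ((g : G5) * y * (g : G5)⁻¹) * tG h * ((g : G5) * y * (g : G5)⁻¹)⁻¹ ∈ Subgroup.zpowers (tG h) := by
      rw [← hm]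
      show _ * ((g : G5) * X * (g : G5)⁻¹) ^ m * _ ∈ _
      rw [← conj_zpow]
      refine Subgroup.zpow_mem _ ?_ m
      rw [hm, show (g : G5) * y * (g : G5)⁻¹ * ((g : G5) * X * (g : G5)⁻¹) * ((g : G5) * y * (g : G5)⁻¹)⁻¹ =
        (g : G5) * (y * X * y⁻¹) * (g : G5)⁻¹ by group, ← hi]
      show (g : G5) * X ^ i * (g : G5)⁻¹ ∈ _
      rw [← conj_zpow]
      exact Subgroup.zpow_mem _ hXt i
    obtain ⟨j, hj⟩ := mem_powers_iff_mem_zpowers.2 this
    exact ⟨j, hj.symm⟩
  let L : Subgroup G5 := (big ω).comap (MulAut.conj (g : G5)).toMonoidHom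
  have hL : ∀ y, y ∈ L ↔ (g : G5) * y * (g : G5)⁻¹ ∈ big ω := fun y => Iff.rfl
  have hle : subalgebraNormalizer K ⊓ SU5 F ≤ L := fun y hy => by
    obtain ⟨h1, j, hj⟩ := hnat y hy
    exact (hL y).2 (normalizer_tG h h1 hj)
  have hLS : L ≤ SU5 F := fun y hy => by
    have := hsl _ _ (inv_mem g.2) ((hL y).1 hy).2
    rwa [show (g : G5)⁻¹ * ((g : G5) * y * (g : G5)⁻¹) * (g : G5)⁻¹⁻¹ = y by group] at this
  rcases hmax.2 L hle hLS with e | e
  · have hw : (g : G5)⁻¹ * wG h * (g : G5) ∈ L :=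
      (hL _).2 (by rw [show (g : G5) * ((g : G5)⁻¹ * wG h * (g : G5)) * (g : G5)⁻¹ = wG h by group]; exact wG_mem h)
    rw [e] at hw
    obtain ⟨-, j, hj⟩ := hnat _ hw
    rw [show (g : G5) * ((g : G5)⁻¹ * wG h * (g : G5)) * (g : G5)⁻¹ = wG h by group] at hj
    exact wG_not h hj
  · refine big_ne h (le_antisymm inf_le_right fun y hy => ?_)
    have : (g : G5)⁻¹ * y * (g : G5) ∈ L := by
      rw [e]; simpa using hsl _ _ (inv_mem g.2) hy
    rw [hL, show (g : G5) * ((g : G5)⁻¹ * y * (g : G5)) * (g : G5)⁻¹ = y by group] at this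
    exact this

end Cfsg.Agent.Classical.UnitFive
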