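import Cfsg.Agent.Lib.Classical.AschUnitShape
import Cfsg.Agent.Lib.Classical.Unit

/-!
In four dimensions the special unitary group permutes no decomposition and normalises no symplectic-type group of
order 64.
-/

set_option autoImplicit false
set_option linter.unusedSectionVars false
set_option linter.unusedFintypeInType false
set_option linter.unusedDecidableInType false

namespace Cfsg.Agent.Classical.Asch

open Matrix Module Cfsg.Geo
open MaxTv (gl_mulVec_injective qEquiv herm_hermForm exists_gu_tv finrank_le_inf_ker_add_one)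

variable {F : Type*} [Field F] [Fintype F] {n q : ℕ}

section
variable (hF : Fintype.card F = q ^ 2)
include hF

/-- The special unitary group permutes no decomposition, from dimension four on. -/
theorem not_su_le_decomp_four (hn : 4 ≤ n) {t k : ℕ} {D : Fin t → Submodule F (Fin n → F)} (hD : IsMDecomposition k D) :
    ¬ GU n F q ⊓ specialLinear (Fin n) F ≤ decompositionStabilizer D := by
  classical
  intro hle
  have hs := herm_hermForm (n := n) hF
  let a : Fin t := ⟨0, by have := hD.two_le; omega⟩
  have hne : ∀ i, D i ≠ ⊥ := fun i h => by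
    have := hD.finrank_eq i
    rw [h, finrank_bot] at this
    exact hD.pos.ne this
  have hdis : ∀ i j, i ≠ j → ∀ x ∈ D i, x ∈ D j → x = 0 := fun i j hij =>
    Submodule.disjoint_def.1 (hD.indep.pairwiseDisjoint hij)
  by_cases hk : 2 ≤ k
  · -- every transvection fixes every part
    have hfix : ∀ v, hermForm n F q v v = 0 → ∀ c, ∀ g ∈ GU n F q ⊓ specialLinear (Fin n) F,
        (∀ x, (g : Matrix (Fin n) (Fin n) F) *ᵥ x = x + (c * hermForm n F q x v) • v) →
        ∀ x ∈ D a, (g : Matrix (Fin n) (Fin n) F) *ᵥ x ∈ D a := by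
      intro v _ c g hg hgx x hx
      obtain ⟨σ, hσ⟩ := hle hg
      have hmem : ∀ y ∈ D a, (g : Matrix (Fin n) (Fin n) F) *ᵥ y ∈ D (σ a) := fun y hy => by
        rw [← hσ a]; exact ⟨y, hy, Matrix.toLin'_apply _ _⟩
      by_cases hσa : σ a = a
      · exact hσa ▸ hmem x hx
      exfalso
      let φ : D a →ₗ[F] F :=
        { toFun := fun y => hermForm n F q y v
          map_add' := fun y z => hs.add_left y z v
          map_smul' := fun s y => hs.smul_left s y v }
      have hinj : Function.Injective φ := (injective_iff_map_eq_zero φ).2 fun y hy => by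
        have h1 := hmem y y.2
        rw [hgx, show hermForm n F q y v = 0 from hy, mul_zero, zero_smul, add_zero] at h1
        exact Subtype.ext (hdis a (σ a) (Ne.symm hσa) _ y.2 h1)
      have := LinearMap.finrank_le_finrank_of_injective hinj
      rw [hD.finrank_eq, finrank_self] at this
      omega
    obtain ⟨u, hu, hu0⟩ := Submodule.exists_mem_ne_zero_of_ne_bot (hne a)
    let b : Fin t := ⟨1, by have := hD.two_le; omega⟩
    obtain ⟨w, hw, hw0⟩ := Submodule.exists_mem_ne_zero_of_ne_bot (hne b)
    have hwa : w ∉ D a := fun h => hw0 (hdis a b (by simp [a, b, Fin.ext_iff]) w h hw)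
    -- the part is invariant under transvections, hence contains the vectors not perpendicular to it
    have hall : ∀ v, hermForm n F q v v = 0 → (∃ x ∈ D a, hermForm n F q x v ≠ 0) → v ∈ D a := by
      rintro v hv ⟨x, hx, hxv⟩
      obtain ⟨c, hc0, g, hg, hgx⟩ := exists_su_tv hF hv
      have h1 := hfix v hv c g hg hgx x hx
      rw [hgx] at h1
      have := (D a).smul_mem (c * hermForm n F q x v)⁻¹ ((D a).sub_mem h1 hx)
      rwa [add_sub_cancel_left, smul_smul, inv_mul_cancel₀ (mul_ne_zero hc0 hxv), one_smul] at this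
    have hirr := fun hinv => not_su_le_subspace hF (by omega) (hne a)
      (fun htop => hwa (htop ▸ trivial)) hinv
    refine hirr fun g hg x => ?_
    obtain ⟨σ, hσ⟩ := hle hg
    have hmem : ∀ y ∈ D a, (g : Matrix (Fin n) (Fin n) F) *ᵥ y ∈ D (σ a) := fun y hy => by
      rw [← hσ a]; exact ⟨y, hy, Matrix.toLin'_apply _ _⟩
    have hσa : σ a = a := by
      by_contra hσa
      obtain ⟨v, hv0, hvv, huv⟩ := exists_iso_not_perp hF (by omega) hu0
      have hva := hall v hvv ⟨u, hu, huv⟩
      have hgv := hmem v hva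
      have hgvv : hermForm n F q ((g : Matrix (Fin n) (Fin n) F) *ᵥ v) ((g : Matrix (Fin n) (Fin n) F) *ᵥ v) = 0 := by
        rw [show ∀ p p', hermForm n F q ((g : Matrix (Fin n) (Fin n) F) *ᵥ p)
          ((g : Matrix (Fin n) (Fin n) F) *ᵥ p') = hermForm n F q p p' from hg.1, hvv]
      have hgv0 : (g : Matrix (Fin n) (Fin n) F) *ᵥ v ≠ 0 := fun h0 =>
        hv0 (gl_mulVec_injective g (h0.trans (Matrix.mulVec_zero _).symm))
      have hnot : (g : Matrix (Fin n) (Fin n) F) *ᵥ v ∉ D a := fun h => hgv0 (hdis a (σ a) (Ne.symm hσa) _ h hgv)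
      -- every isotropic vector not in the part is perpendicular to it
      have hperp : ∀ z, hermForm n F q z z = 0 → z ∉ D a → ∀ x ∈ D a, hermForm n F q x z = 0 := fun z hz hzn x hx => by
        by_contra hne'
        exact hzn (hall z hz ⟨x, hx, hne'⟩)
      obtain ⟨e, -, hee, heu, heg⟩ := hs.exists_iso_both (S := ⊤) (u := u)
        (w := (g : Matrix (Fin n) (Fin n) F) *ᵥ v) (by rw [finrank_top, Module.finrank_fin_fun, Fintype.card_fin]; omega)
        (by
          by_contra hno
          push Not at hno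
          exact hu0 (hs.eq_zero u fun x => hno x trivial))
        (by
          by_contra hno
          push Not at hno
          exact hgv0 (hs.eq_zero _ fun x => hno x trivial))
      have hea : e ∈ D a := hall e hee ⟨u, hu, fun h => heu (hs.refl _ _ h)⟩
      exact heg (hperp _ hgvv hnot e hea)
    constructor
    · intro hx
      have := hmem x hx
      rwa [hσa] at this
    · intro hx
      have h1 : (g : Matrix (Fin n) (Fin n) F) *ᵥ x ∈ (D a).map (Matrix.toLin' (g : Matrix (Fin n) (Fin n) F)) := by
        rw [hσ a, hσa]; exact hx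
      obtain ⟨y, hy, hyx⟩ := h1
      rw [Matrix.toLin'_apply] at hyx
      exact gl_mulVec_injective g hyx ▸ hy
  · obtain rfl : k = 1 := by have := hD.pos; omega
    choose u hu hu0 using fun i => Submodule.exists_mem_ne_zero_of_ne_bot (hne i)
    have hline : ∀ i x, x ∈ D i → ∃ s : F, x = s • u i := fun i x hx => by
      obtain ⟨s, hs'⟩ := (finrank_eq_one_iff_of_nonzero' (⟨u i, hu i⟩ : D i) (fun h => hu0 i (congrArg Subtype.val h))).1
        (hD.finrank_eq i) ⟨x, hx⟩
      exact ⟨s, (congrArg Subtype.val hs').symm⟩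
    have hli : LinearIndependent F u :=
      hD.indep.linearIndependent D hu hu0
    -- a transvection moves the first line to a line in the plane of the line and its vector
    have key : ∀ v, hermForm n F q v v = 0 → hermForm n F q (u a) v ≠ 0 →
        ∃ b, b ≠ a ∧ ∃ α β : F, v = α • u a + β • u b := by
      intro v hv hav
      obtain ⟨c, hc0, g, hg, hgx⟩ := exists_su_tv hF hv
      obtain ⟨σ, hσ⟩ := hle hg
      have h1 : (g : Matrix (Fin n) (Fin n) F) *ᵥ u a ∈ D (σ a) := by
        rw [← hσ a]; exact ⟨u a, hu a, Matrix.toLin'_apply _ _⟩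
      obtain ⟨s, hs'⟩ := hline _ _ h1
      rw [hgx] at hs'
      have hd := mul_ne_zero hc0 hav
      have hv' : v = (-(c * hermForm n F q (u a) v)⁻¹) • u a + ((c * hermForm n F q (u a) v)⁻¹ * s) • u (σ a) := by
        rw [← smul_smul, ← hs', smul_add, smul_smul _ _ v, inv_mul_cancel₀ hd, one_smul, neg_smul]
        abel
      by_cases hσa : σ a = a
      · rw [hσa, ← add_smul] at hv'
        obtain ⟨b, hb⟩ := Fintype.exists_ne_of_one_lt_card (α := Fin t) (by simp; have := hD.two_le; omega) a
        refine ⟨b, hb, -(c * hermForm n F q (u a) v)⁻¹ + (c * hermForm n F q (u a) v)⁻¹ * s, 0, hv'.trans ?_⟩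
        rw [zero_smul, add_zero]
      · exact ⟨σ a, hσa, _, _, hv'⟩
    obtain ⟨v₀, hv₀0, hv₀, hav₀⟩ := exists_iso_not_perp hF (by omega) (hu0 a)
    obtain ⟨j, hj⟩ := Function.ne_iff.1 hv₀0
    obtain ⟨z, hzS, hz0, hzz⟩ := hs.exists_iso
      (S := LinearMap.ker (hs.toSesq.lin v₀) ⊓ LinearMap.ker (LinearMap.proj j)) (by
      have h1 := finrank_le_inf_ker_add_one (⊤ : Submodule F (Fin n → F)) (hs.toSesq.lin v₀)
      rw [top_inf_eq, finrank_top, Module.finrank_fin_fun] at h1
      have h2 := finrank_le_inf_ker_add_one (LinearMap.ker (hs.toSesq.lin v₀))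
        (LinearMap.proj j : (Fin n → F) →ₗ[F] F)
      omega)
    have hzv : hermForm n F q z v₀ = 0 := LinearMap.mem_ker.1 hzS.1
    have hzj : z j = 0 := LinearMap.mem_ker.1 hzS.2
    -- the isotropic vectors on the line through v₀ in the direction z
    let v : F → Fin n → F := fun l => v₀ + l • z
    have hviso : ∀ l, hermForm n F q (v l) (v l) = 0 := fun l => by
      simp only [v, hs.add_left, hs.add_right, hs.smul_left, hs.smul_right, hv₀, hzz, hzv, hs.refl _ _ hzv,
        mul_zero, add_zero]
    have haff : ∀ l, hermForm n F q (u a) (v l) = hermForm n F q (u a) v₀ + qEquiv hF l * hermForm n F q (u a) z :=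
      fun l => by simp only [v, hs.add_right, hs.smul_right]
    let good : Finset F := Finset.univ.filter fun l => hermForm n F q (u a) (v l) ≠ 0
    have hgood : 3 ≤ good.card := by
      have hbad : (Finset.univ.filter fun l => ¬ hermForm n F q (u a) (v l) ≠ 0).card ≤ 1 := by
        refine Finset.card_le_one.2 fun l hl l' hl' => ?_
        simp only [Finset.mem_filter, Finset.mem_univ, true_and, not_not, haff] at hl hl'
        apply (qEquiv hF).injective
        by_contra hne'
        have h0 : hermForm n F q (u a) z = 0 := by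
          have : (qEquiv hF l - qEquiv hF l') * hermForm n F q (u a) z = 0 := by linear_combination hl - hl'
          exact (mul_eq_zero.1 this).resolve_left (sub_ne_zero.2 hne')
        rw [h0, mul_zero, add_zero] at hl
        exact hav₀ hl
      have hsum := Finset.card_filter_add_card_filter_not
        (s := (Finset.univ : Finset F)) (fun l => hermForm n F q (u a) (v l) ≠ 0)
      rw [Finset.card_univ] at hsum
      have hq := two_le_q hF
      have : 4 ≤ Fintype.card F := by rw [hF]; nlinarith
      show 3 ≤ (Finset.univ.filter fun l => hermForm n F q (u a) (v l) ≠ 0).card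
      omega
    obtain ⟨l₁, l₂, l₃, h1, h2, h3, h12, h13, h23⟩ := Finset.two_lt_card_iff.1 hgood
    simp only [good, Finset.mem_filter, Finset.mem_univ, true_and] at h1 h2 h3
    obtain ⟨b₁, hb₁, α₁, β₁, e₁⟩ := key _ (hviso l₁) h1
    obtain ⟨b₂, hb₂, α₂, β₂, e₂⟩ := key _ (hviso l₂) h2
    obtain ⟨b₃, hb₃, α₃, β₃, e₃⟩ := key _ (hviso l₃) h3
    have hbne : ∀ (l l' : F), l ≠ l' → ∀ (b b' : Fin t) (α β α' β' : F), v l = α • u a + β • u b →
        v l' = α' • u a + β' • u b' → b ≠ b' := by
      intro l l' hll b b' α β α' β' e e' hbb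
      subst hbb
      have hz : (l - l') • z = (α - α') • u a + (β - β') • u b := by
        calc (l - l') • z = v l - v l' := by simp only [v]; module
          _ = _ := by rw [e, e']; module
      -- then three independent vectors lie in a plane
      set P : Submodule F (Fin n → F) := Submodule.span F {u a, u b} with hP
      have hzP : z ∈ P := by
        have h := P.smul_mem (l - l')⁻¹ (show (l - l') • z ∈ P by rw [hz]; exact Submodule.mem_span_pair.2 ⟨_, _, rfl⟩)
        rwa [smul_smul, inv_mul_cancel₀ (sub_ne_zero.2 hll), one_smul] at h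
      have hv₀P : v₀ ∈ P := by
        have hvl : v l ∈ P := by rw [e]; exact Submodule.mem_span_pair.2 ⟨_, _, rfl⟩
        have := P.sub_mem hvl (P.smul_mem l hzP)
        simpa [v] using this
      have hli3 : LinearIndependent F ![u a, v₀, z] := by
        rw [Fintype.linearIndependent_iff]
        intro g hg
        simp [Fin.sum_univ_three] at hg
        have hg0 : g 0 = 0 := by
          have := congrArg (fun x => hermForm n F q x v₀) hg
          simp only [hs.add_left, hs.smul_left, hs.toSesq.zero_left, hv₀, hzv, mul_zero, add_zero] at this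
          exact (mul_eq_zero.1 this).resolve_right hav₀
        rw [hg0, zero_smul, zero_add] at hg
        have hg1 : g 1 = 0 := by
          have := congrFun hg j
          simp [hzj] at this
          exact this.resolve_right hj
        rw [hg1, zero_smul, zero_add, smul_eq_zero] at hg
        intro i
        fin_cases i
        · exact hg0
        · exact hg1
        · exact hg.resolve_right hz0
      have hsub : Submodule.span F (Set.range ![u a, v₀, z]) ≤ P := Submodule.span_le.2 (by
        rintro x ⟨i, rfl⟩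
        fin_cases i
        · exact Submodule.subset_span (by simp)
        · exact hv₀P
        · exact hzP)
      have h4 := Submodule.finrank_mono hsub
      rw [finrank_span_eq_card hli3, Fintype.card_fin] at h4
      have h5 : finrank F P ≤ 2 := by
        have := finrank_span_finset_le_card (R := F) ({u a, u b} : Finset (Fin n → F))
        rw [Set.finrank, Finset.coe_pair] at this
        exact this.trans Finset.card_le_two
      omega
    have hb12 := hbne _ _ h12 _ _ _ _ _ _ e₁ e₂
    have hb13 := hbne _ _ h13 _ _ _ _ _ _ e₁ e₃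
    have hb23 := hbne _ _ h23 _ _ _ _ _ _ e₂ e₃
    have hrel : (l₂ - l₃) • v l₁ + (l₃ - l₁) • v l₂ + (l₁ - l₂) • v l₃ = 0 := by simp only [v]; module
    rw [e₁, e₂, e₃] at hrel
    rw [Fintype.linearIndependent_iff] at hli
    have h4 := hli (Pi.single a ((l₂ - l₃) * α₁ + (l₃ - l₁) * α₂ + (l₁ - l₂) * α₃) +
      Pi.single b₁ ((l₂ - l₃) * β₁) + Pi.single b₂ ((l₃ - l₁) * β₂) + Pi.single b₃ ((l₁ - l₂) * β₃)) (by
        simp only [Pi.add_apply, add_smul, Finset.sum_add_distrib, Pi.single_apply, ite_smul, zero_smul,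
          Finset.sum_ite_eq', Finset.mem_univ, if_true]
        rw [← hrel]
        module) b₁
    simp [Pi.single_apply, hb₁, hb12, hb13] at h4
    have hβ₁ : β₁ = 0 := h4.resolve_left (sub_ne_zero.2 h23)
    rw [hβ₁, zero_smul, add_zero] at e₁
    have h6 := hviso l₁
    rw [e₁, hs.smul_left, hs.smul_right, mul_eq_zero, mul_eq_zero] at h6
    rw [e₁, hs.smul_right] at h1
    rcases h6 with h6 | h6 | h6
    · exact h1 (by rw [h6, map_zero, zero_mul])
    · exact h1 (by rw [h6, zero_mul])
    · exact h1 (by rw [h6, mul_zero])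

end

/-- An element of prime order normalising a finite subgroup fixes as many of its elements as their number, modulo
the prime. -/
theorem conj_fixed_mod {G : Type*} [Group G] [Finite G] {l : ℕ} [Fact l.Prime] {x : G} (hx : x ^ l = 1)
    {S : Subgroup G} (hS : x ∈ Subgroup.normalizer (S : Set G)) :
    Nat.card S ≡ Nat.card (S ⊓ Subgroup.centralizer {x} : Subgroup G) [MOD l] := by
  classical
  let C := Subgroup.zpowers x
  have hC : IsPGroup l C := fun c => ⟨1, by
    obtain ⟨k, hk⟩ := c.2
    refine Subtype.ext ?_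
    show (c : G) ^ (l ^ 1) = 1
    simp only at hk
    rw [pow_one, ← hk, ← zpow_natCast, ← _root_.zpow_mul, mul_comm, _root_.zpow_mul, zpow_natCast, hx, _root_.one_zpow]⟩
  have hmem : ∀ c : C, ∀ s ∈ S, (c : G) * s * (c : G)⁻¹ ∈ S := fun c s hs => by
    have hc : (c : G) ∈ Subgroup.normalizer (S : Set G) := Subgroup.zpowers_le.2 hS c.2
    exact (Subgroup.mem_normalizer_iff.1 hc s).1 hs
  letI act : MulAction C S :=
    { smul := fun c s => ⟨(c : G) * s * (c : G)⁻¹, hmem c s s.2⟩
      one_smul := fun s => Subtype.ext (by show (1 : G) * s * (1 : G)⁻¹ = s; simp)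
      mul_smul := fun c d s => Subtype.ext (by
        show ((c : G) * d) * s * ((c : G) * d)⁻¹ = (c : G) * ((d : G) * s * (d : G)⁻¹) * (c : G)⁻¹
        group) }
  refine (hC.card_modEq_card_fixedPoints S).trans ?_
  refine congrArg (· % l) (Nat.card_congr ?_)
  exact
    { toFun := fun s => ⟨s.1.1, s.1.2, Subgroup.mem_centralizer_singleton_iff.2 (by
        have h := congrArg Subtype.val (s.2 ⟨x, Subgroup.mem_zpowers x⟩)
        change x * (s.1 : G) * x⁻¹ = s.1 at h
        rw [mul_inv_eq_iff_eq_mul] at h
        exact h.symm)⟩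
      invFun := fun s => ⟨⟨s.1, s.2.1⟩, fun c => Subtype.ext (by
        show (c : G) * s.1 * (c : G)⁻¹ = s.1
        obtain ⟨k, hk⟩ := c.2
        have hcm : Commute x s.1 := (Subgroup.mem_centralizer_singleton_iff.1 s.2.2).symm
        rw [← hk, (hcm.zpow_left k).eq, mul_inv_cancel_right])⟩
      left_inv := fun _ => rfl
      right_inv := fun _ => rfl }

/-- An element of prime order at least seven normalising a symplectic-type group of order 64 is a scalar. -/
theorem scalar_of_normalizes {ι : Type} [Fintype ι] [DecidableEq ι] [Nonempty ι] {R : Subgroup (GL ι F)} (hR : AI R)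
    (hscal : Scal R) (h64 : Nat.card R = 64) (hZ : Nat.card (Subgroup.center R) = 4) {l : ℕ} (hl : l.Prime)
    (h7 : 7 ≤ l) {x : GL ι F} (hx : x ^ l = 1) (hN : x ∈ subgroupNormalizer R) : x ∈ scalars ι F := by
  classical
  haveI : Fact l.Prime := ⟨hl⟩
  have hscc : ∀ {z : GL ι F}, z ∈ scalars ι F → ∀ y, z * y = y * z := fun {z} hz y => by
    obtain ⟨c, rfl⟩ := exists_sc hz
    refine Units.ext ?_
    rw [Units.val_mul, Units.val_mul, sc_coe, Matrix.smul_mul, Matrix.mul_smul, one_mul, mul_one]
  set Z : Subgroup (GL ι F) := (Subgroup.center R).map R.subtype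
  have hZc : Nat.card Z = 4 := by
    rw [← hZ]; exact (Nat.card_congr (Subgroup.equivMapOfInjective _ _ R.subtype_injective).toEquiv).symm
  have hZs : ∀ z ∈ Z, z ∈ R ∧ z ∈ scalars ι F := by
    rintro z ⟨w, hw, rfl⟩
    exact ⟨w.2, hR.mem_scalars fun y hy => (congrArg Subtype.val (Subgroup.mem_center_iff.1 hw ⟨y, hy⟩)).symm⟩
  have hsZ : ∀ z ∈ R, z ∈ scalars ι F → z ∈ Z := fun z hz hzs =>
    ⟨⟨z, hz⟩, Subgroup.mem_center_iff.2 fun y => Subtype.ext (hscc hzs y).symm, rfl⟩
  set Fx : Subgroup (GL ι F) := R ⊓ Subgroup.centralizer {x}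
  have hZF : Z ≤ Fx := fun z hz => ⟨(hZs z hz).1,
    Subgroup.mem_centralizer_singleton_iff.2 (hscc (hZs z hz).2 x)⟩
  have h4F : 4 ∣ Nat.card Fx := hZc ▸ Subgroup.card_dvd_of_le hZF
  have hF64 : Nat.card Fx ∣ 64 := h64 ▸ Subgroup.card_dvd_of_le inf_le_left
  have hmod := conj_fixed_mod hx hN
  rw [h64] at hmod
  by_cases hall : Nat.card Fx = 64
  · have hFR : Fx = R := Subgroup.eq_of_le_of_card_ge inf_le_left (by rw [h64, hall])
    refine hR.mem_scalars fun y hy => ?_
    have h := (hFR.symm ▸ hy : y ∈ Fx).2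
    exact (Subgroup.mem_centralizer_singleton_iff.1 h).symm
  exfalso
  have hd : Nat.card Fx ∈ Nat.divisors 64 := Nat.mem_divisors.2 ⟨hF64, by norm_num⟩
  rw [show Nat.divisors 64 = {1, 2, 4, 8, 16, 32, 64} by decide] at hd
  simp only [Finset.mem_insert, Finset.mem_singleton] at hd
  have hdvd : l ∣ 64 - Nat.card Fx := (Nat.modEq_iff_dvd' (by omega)).1 hmod.symm
  obtain ⟨rfl, h8⟩ : l = 7 ∧ Nat.card Fx = 8 := by
    have hle : l ≤ 64 - Nat.card Fx := Nat.le_of_dvd (by omega) hdvd
    rcases hd with h | h | h | h | h | h | h <;> rw [h] at hdvd hle h4F ⊢ <;> first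
      | omega
      | (have h60 : l ≤ 60 := by omega
         interval_cases l <;> revert hl hdvd <;> decide)
  obtain ⟨y, hyF, hyZ⟩ : ∃ y ∈ Fx, y ∉ Z := by
    by_contra hno
    push Not at hno
    have := Subgroup.card_dvd_of_le (show Fx ≤ Z from hno)
    rw [h8, hZc] at this
    norm_num at this
  have hys : y ∉ scalars ι F := fun h => hyZ (hsZ y hyF.1 h)
  set C : Subgroup (GL ι F) := R ⊓ Subgroup.centralizer {y}
  have hxN : x ∈ Subgroup.normalizer (C : Set (GL ι F)) := by
    rw [Subgroup.mem_normalizer_iff]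
    intro s
    have hR' := Subgroup.mem_normalizer_iff.1 hN s
    have hxy : Commute x y := (Subgroup.mem_centralizer_singleton_iff.1 hyF.2).symm
    simp only [C, Subgroup.mem_inf, Subgroup.mem_centralizer_singleton_iff]
    refine and_congr hR' ⟨fun h => ?_, fun h => ?_⟩
    · exact ((hxy.symm.mul_right (Commute.symm h)).mul_right hxy.symm.inv_right).symm.eq
    · have h' : Commute y (x * s * x⁻¹) := Commute.symm h
      have := (hxy.symm.inv_right.mul_right h').mul_right hxy.symm
      rw [show x⁻¹ * (x * s * x⁻¹) * x = s by group] at this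
      exact this.symm.eq
  have hmodC := conj_fixed_mod hx hxN
  have hsub : C ⊓ Subgroup.centralizer {x} ≤ Fx := inf_le_inf_right _ inf_le_left
  have hCx : Fx ≤ C ⊓ Subgroup.centralizer {x} := by
    have hcl : Subgroup.closure (insert y (Z : Set (GL ι F))) = Fx := by
      refine Subgroup.eq_of_le_of_card_ge ((Subgroup.closure_le _).2 (Set.insert_subset hyF hZF)) ?_
      have h1 : Z ≤ Subgroup.closure (insert y (Z : Set (GL ι F))) := fun z hz =>
        Subgroup.subset_closure (Set.mem_insert_of_mem _ hz)
      have h2 := Subgroup.card_dvd_of_le ((Subgroup.closure_le _).2 (Set.insert_subset hyF hZF))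
      rw [h8] at h2 ⊢
      have h3 := Subgroup.card_dvd_of_le h1
      rw [hZc] at h3
      by_contra hlt
      have hd' : Nat.card (Subgroup.closure (insert y (Z : Set (GL ι F)))) = 4 := by
        have := Nat.le_of_dvd (by norm_num) h2
        obtain ⟨c, hc⟩ := h3
        have : c = 1 ∨ c = 0 := by omega
        rcases this with rfl | rfl
        · omega
        · exact absurd hc (by simpa using Nat.card_pos.ne')
      have := Subgroup.eq_of_le_of_card_ge h1 (by rw [hd', hZc])
      exact hyZ (this.symm ▸ Subgroup.subset_closure (Set.mem_insert y _))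
    have hyy : Subgroup.closure (insert y (Z : Set (GL ι F))) ≤ C := (Subgroup.closure_le _).2
      (Set.insert_subset ⟨hyF.1, Subgroup.mem_centralizer_singleton_iff.2 rfl⟩ fun z hz =>
        ⟨(hZs z hz).1, Subgroup.mem_centralizer_singleton_iff.2 (hscc (hZs z hz).2 y)⟩)
    exact le_inf (hcl ▸ hyy) inf_le_right
  rw [le_antisymm hsub hCx, h8] at hmodC
  -- the index of the centraliser is at most four
  have hcomm : ∀ r : R, ∃ z : Z, (r : GL ι F) * y = z * (y * r) := fun r => by
    obtain ⟨c, hc⟩ := hscal y hyF.1 r r.2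
    refine ⟨⟨sc c, hsZ _ ?_ ⟨c, rfl⟩⟩, hc⟩
    have h1 : sc c = ((r : GL ι F) * y) * (y * r)⁻¹ := by rw [hc]; group
    rw [h1]
    exact R.mul_mem (R.mul_mem r.2 hyF.1) (R.inv_mem (R.mul_mem hyF.1 r.2))
  choose ψ hψ using hcomm
  let φ : R →* Z := MonoidHom.mk' ψ fun a b => Subtype.ext (by
    have e1 := hψ a
    have e2 := hψ b
    have e3 := hψ (a * b)
    have hc := hscc (hZs _ (ψ b).2).2
    rw [Subgroup.coe_mul, mul_assoc, e2, ← mul_assoc, ← hc, mul_assoc, ← mul_assoc (a : GL ι F), e1,
      mul_assoc (ψ a : GL ι F), mul_assoc y, ← mul_assoc (ψ b : GL ι F), hc] at e3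
    exact (mul_right_cancel e3).symm)
  have hker : φ.ker.map R.subtype ≤ C := by
    rintro _ ⟨r, hr, rfl⟩
    refine ⟨r.2, Subgroup.mem_centralizer_singleton_iff.2 ?_⟩
    have h1 := hψ r
    rw [show ψ r = 1 from hr, Subgroup.coe_one, one_mul] at h1
    exact h1
  have hCd : Nat.card C ∈ Nat.divisors 64 :=
    Nat.mem_divisors.2 ⟨h64 ▸ Subgroup.card_dvd_of_le inf_le_left, by norm_num⟩
  rw [show Nat.divisors 64 = {1, 2, 4, 8, 16, 32, 64} by decide] at hCd
  simp only [Finset.mem_insert, Finset.mem_singleton] at hCd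
  have hC16 : 16 ≤ Nat.card C := by
    have h1 := φ.ker.card_mul_index
    rw [h64, Subgroup.index_ker] at h1
    have h2 : Nat.card φ.range ≤ 4 := hZc ▸ Subgroup.card_le_card_group _
    have h3 : Nat.card φ.ker ≤ Nat.card C := by
      have h4 := (Nat.card_congr (Subgroup.equivMapOfInjective φ.ker _ R.subtype_injective).toEquiv).symm
      have h5 := Nat.le_of_dvd Nat.card_pos (Subgroup.card_dvd_of_le hker)
      omega
    nlinarith
  have hC64 : Nat.card C = 64 := by
    rcases hCd with h | h | h | h | h | h | h <;> rw [h] at hC16 hmodC ⊢ <;> first | omega | (revert hmodC; decide)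
  have hCR : C = R := Subgroup.eq_of_le_of_card_ge inf_le_left (by rw [h64, hC64])
  exact hys (hR.mem_scalars fun r hr =>
    (Subgroup.mem_centralizer_singleton_iff.1 (hCR.symm ▸ hr : r ∈ C).2).symm)

/-- The special unitary group normalises no symplectic-type group of order 64 in dimension four. -/
theorem not_su_le_normalizer_four (hF : Fintype.card F = q ^ 2) (hp : q.Prime) (h4 : q % 4 = 3)
    {R : Subgroup (GL (Fin 4) F)} (hRai : ActsAbsolutelyIrreducibly (matrixSet R)) (hscal : Scal R)
    (h64 : Nat.card R = 64) (hZ : Nat.card (Subgroup.center R) = 4) :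
    ¬ GU 4 F q ⊓ specialLinear (Fin 4) F ≤ subgroupNormalizer R := by
  intro hle
  have hs := herm_hermForm (n := 4) hF
  haveI : Fact q.Prime := ⟨hp⟩
  have hq2 := hp.two_le
  rcases lt_or_ge q 7 with h7 | h7
  · obtain rfl : q = 3 := by omega
    haveI : Fact (Nat.Prime 7) := ⟨by norm_num⟩
    obtain ⟨g, hg⟩ := exists_prime_orderOf_dvd_card' (G := GU 4 F 3) 7 (by
      have e := order_GU hF 4
      norm_num [Finset.prod_range_succ] at e
      rw [show Nat.card (GU 4 F 3) = 52254720 by exact_mod_cast e]
      norm_num)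
    have hg7 : (g : GL (Fin 4) F) ^ 7 = 1 := by
      have := congrArg Subtype.val (hg ▸ pow_orderOf_eq_one g : g ^ 7 = 1)
      simpa using this
    set M := ((g : GL (Fin 4) F) : Matrix (Fin 4) (Fin 4) F)
    have hM7 : M.det ^ 7 = 1 := by
      rw [← Matrix.det_pow, ← Units.val_pow_eq_pow_val, hg7, Units.val_one, Matrix.det_one]
    have hM4 : M.det ^ 4 = 1 := by
      have h1 := congrArg Matrix.det ((mem_GU_gram (σ := qEquiv hF) fun _ => rfl).1 g.2)
      rw [Matrix.det_mul, Matrix.det_transpose, Matrix.det_mul, Matrix.det_one, one_mul,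
        show (M.map (qEquiv hF)).det = qEquiv hF M.det from ((qEquiv hF).map_det M).symm,
        MaxTv.qEquiv_apply] at h1
      linear_combination h1
    have hdet : M.det = 1 := by
      have h8 : M.det ^ 8 = 1 := by rw [show 8 = 4 * 2 by rfl, pow_mul, hM4, one_pow]
      rw [pow_succ, hM7, one_mul] at h8
      exact h8
    have hgS : (g : GL (Fin 4) F) ∈ GU 4 F 3 ⊓ specialLinear (Fin 4) F :=
      ⟨g.2, MonoidHom.mem_ker.2 (Units.ext hdet)⟩
    obtain ⟨c, hc⟩ := exists_sc (scalar_of_normalizes hRai hscal h64 hZ (by norm_num) le_rfl hg7 (hle hgS))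
    have hd4 : (c : F) ^ 4 = 1 := by
      have : M = (c : F) • (1 : Matrix (Fin 4) (Fin 4) F) := by rw [show M = _ from congrArg Units.val hc, sc_coe]
      rw [this, Matrix.det_smul, Matrix.det_one, mul_one, Fintype.card_fin] at hdet
      exact hdet
    have hd7 : (c : F) ^ 7 = 1 := by
      rw [hc, ← map_pow] at hg7
      have h1 := congrArg (fun t : GL (Fin 4) F => (t : Matrix (Fin 4) (Fin 4) F) 0 0) hg7
      simpa [sc_coe, smul_pow] using h1
    have hc1 : (c : F) = 1 := by linear_combination (c : F) ^ 0 * hd4 * (c : F) ^ 4 + hd4 - (c : F) * hd7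
    have : g = 1 := Subtype.ext (by rw [hc, show c = 1 from Units.ext hc1, map_one]; rfl)
    rw [this, orderOf_one] at hg
    norm_num at hg
  · obtain ⟨v, hv0, hv⟩ := exists_iso_ne_zero hF (show 2 ≤ 4 by norm_num)
    obtain ⟨c, hc0, t, ht, htx⟩ := exists_su_tv hF hv
    have hchar : (q : F) = 0 := by
      have h := FiniteField.cast_card_eq_zero F
      rw [hF, Nat.cast_pow] at h
      exact eq_zero_of_pow_eq_zero h
    have hpow : ∀ (k : ℕ) x, ((t ^ k : GL (Fin 4) F) : Matrix (Fin 4) (Fin 4) F) *ᵥ x =
        x + ((k : F) * (c * hermForm 4 F q x v)) • v := by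
      intro k
      induction k with
      | zero => intro x; simp
      | succ k ih =>
        intro x
        rw [pow_succ', Units.val_mul, ← Matrix.mulVec_mulVec, ih, htx, hs.add_left, hs.smul_left, hv, mul_zero,
          add_zero, Nat.cast_succ, add_assoc, ← add_smul]
        congr 2
        ring
    have htq : t ^ q = 1 := Units.ext (Matrix.ext_of_mulVec_single fun j => by
      rw [hpow, hchar, zero_mul, zero_smul, add_zero, Units.val_one, Matrix.one_mulVec])
    obtain ⟨d, hd⟩ := exists_sc (scalar_of_normalizes hRai hscal h64 hZ hp h7 htq (hle ht))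
    have h1 := htx v
    rw [hd, sc_coe, Matrix.smul_mulVec, Matrix.one_mulVec, hv, mul_zero, zero_smul, add_zero] at h1
    have hd1 : (d : F) = 1 := smul_left_injective F hv0 (by simpa using h1)
    obtain ⟨w, hw⟩ : ∃ w, hermForm 4 F q w v ≠ 0 := by
      by_contra hno
      push Not at hno
      exact hv0 (hs.eq_zero v hno)
    have h2 := htx w
    rw [hd, sc_coe, hd1, one_smul, Matrix.one_mulVec, left_eq_add, smul_eq_zero] at h2
    exact h2.elim (mul_ne_zero hc0 hw) hv0

end Cfsg.Agent.Classical.Asch
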