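import Mathlib

/-!
Computations in the group of order 64 generated by signs, translations of four points and fourth roots of unity.
-/

set_option autoImplicit false

namespace Cfsg.Agent.Classical.UnitFour

/-- Symbols: an exponent, a sign pattern and a translation. -/
abbrev Sym := ZMod 4 × Fin 4 × Fin 4

def fx (a b : Fin 4) : Fin 4 := Fin.ofNat 4 (a.val ^^^ b.val)

def dot (a b : Fin 4) : ZMod 4 :=
  ((((a.val &&& b.val) % 2) + (a.val &&& b.val) / 2 : ℕ) : ZMod 4)

/-- The product of symbols. -/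
def pmul (p q : Sym) : Sym := (p.1 + q.1 + 2 * dot p.2.2 q.2.1, fx p.2.1 q.2.1, fx p.2.2 q.2.2)

def pone : Sym := (0, 0, 0)

def pinv (p : Sym) : Sym := pmul p (pmul p p)

/-- The exponent of the entry in a row. -/
def expo (p : Sym) (i : Fin 4) : ZMod 4 := p.1 + 2 * dot p.2.1 i

def swapA (p : Sym) : Sym := (p.1 + 2 * dot p.2.1 p.2.2, p.2.2, p.2.1)

def shearA (s : Fin 4) (p : Sym) : Sym :=
  (p.1 + dot p.2.2 s, fx p.2.1 (Fin.ofNat 4 (p.2.2.val &&& s.val)), p.2.2)

/-- The four automorphisms used. -/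
def auto : Fin 4 → Sym → Sym :=
  ![shearA 1, shearA 2, fun p => swapA (shearA 1 (swapA p)), fun p => swapA (shearA 2 (swapA p))]

/-- The symbol with given rows. -/
def readRow (x : Fin 4) (F : Fin 4 → ZMod 4) : Sym :=
  (F 0, Fin.ofNat 4 ((if F 1 = F 0 then 0 else 1) + (if F 2 = F 0 then 0 else 2)), x)

def finv (f : Fin 4 → Fin 4) (i : Fin 4) : Fin 4 := ((List.finRange 4).find? fun k => f k == i).getD 0

/-- Conjugation by a permutation. -/
def permConj (f : Fin 4 → Fin 4) (p : Sym) : Sym :=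
  readRow (fx (f p.2.2) (f 0)) fun i => expo p (finv f i)

/-- Conjugation by a diagonal. -/
def diagConj (m : Fin 4 → ZMod 4) (p : Sym) : Sym :=
  readRow p.2.2 fun i => expo p i + m i - m (fx i p.2.2)

theorem fx_assoc : ∀ j x y : Fin 4, fx (fx j y) x = fx j (fx x y) := by decide +kernel
theorem fx_cancel : ∀ j x : Fin 4, fx (fx j x) x = j := by decide +kernel
theorem fx_inj : ∀ j x y : Fin 4, fx j x = fx j y → x = y := by decide +kernel
theorem expo_mul : ∀ (p q : Sym) (i : Fin 4), expo p i + expo q (fx i p.2.2) = expo (pmul p q) i := by decide +kernel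
theorem expo_ext : ∀ p q : Sym, p.2.2 = q.2.2 → (∀ i, expo p i = expo q i) → p = q := by decide +kernel
theorem expo_one : ∀ i : Fin 4, expo pone i = 0 := by decide +kernel
theorem expo_scalar : ∀ (a : ZMod 4) (i : Fin 4), expo (a, 0, 0) i = a ∧ fx i 0 = i := by decide +kernel
theorem pmul_inv : ∀ p, pmul p (pinv p) = pone ∧ pmul (pinv p) p = pone := by decide +kernel
theorem pow_four : ∀ p : Sym, pmul p (pmul p (pmul p p)) = pone := by decide +kernel
theorem exp_two : pmul (1, 0, 0) (1, 0, 0) ≠ pone := by decide +kernel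
theorem commutator_scalar : ∀ p q : Sym, ∃ a : ZMod 4, pmul q p = pmul (a, 0, 0) (pmul p q) := by decide +kernel
theorem center_card : Fintype.card {p : Sym // ∀ q, pmul q p = pmul p q} = 4 := by decide +kernel
theorem central_scalar : ∀ p : Sym, (∀ q, pmul q p = pmul p q) → p.2.1 = 0 ∧ p.2.2 = 0 := by decide +kernel
theorem scalar_gen : ∀ a : ZMod 4, (a, (0 : Fin 4), (0 : Fin 4)) = pone ∨ (a, (0 : Fin 4), (0 : Fin 4)) = (1, 0, 0) ∨
    (a, (0 : Fin 4), (0 : Fin 4)) = pmul (1, 0, 0) (1, 0, 0) ∨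
    (a, (0 : Fin 4), (0 : Fin 4)) = pinv (1, 0, 0) := by decide +kernel
theorem auto_bij : ∀ k : Fin 4, ∀ p q, auto k p = auto k q → p = q := by decide +kernel
theorem auto_mul : ∀ k : Fin 4, ∀ p q, auto k (pmul p q) = pmul (auto k p) (auto k q) := by decide +kernel
theorem auto_moves : ∀ p : Sym, (p.2.1 ≠ 0 ∨ p.2.2 ≠ 0) → ∃ k, pmul p (auto k p) ≠ pmul (auto k p) p := by
  decide +kernel

theorem perm_rule : ∀ a b c d : Fin 4, Function.Injective ![a, b, c, d] → ∀ (p : Sym) (j : Fin 4),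
    fx (![a, b, c, d] j) (permConj ![a, b, c, d] p).2.2 = ![a, b, c, d] (fx j p.2.2) ∧
      expo (permConj ![a, b, c, d] p) (![a, b, c, d] j) = expo p j := by decide +kernel

theorem diag_rule : ∀ a b c d : ZMod 4, 2 * (a + b + c + d) = 0 → ∀ (p : Sym) (i : Fin 4),
    (diagConj ![a, b, c, d] p).2.2 = p.2.2 ∧
      expo (diagConj ![a, b, c, d] p) i + ![a, b, c, d] (fx i p.2.2) = expo p i + ![a, b, c, d] i := by decide +kernel

theorem sum_signs : ∀ i k : Fin 4,
    (((List.finRange 4).map fun c => 2 * dot c i + 2 * dot c k).count 0) = if i = k then 4 else 2 := by decide +kernel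

end Cfsg.Agent.Classical.UnitFour
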