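import Cfsg.Agent.Lib.Classical.AschUnitFour
import Cfsg.Agent.Lib.Classical.AschUnitFourData

/-!
In four dimensions over nine elements the stabiliser of an orthogonal frame normalises a symplectic-type group of
order 64.
-/

set_option autoImplicit false
set_option linter.unusedSectionVars false
set_option linter.unusedFintypeInType false
set_option linter.unusedDecidableInType false

namespace Cfsg.Agent.Classical.UnitFour

open Matrix Module Cfsg.Geo Cfsg.Agent.Classical.Asch
open MaxTv (qEquiv herm_hermForm)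

variable {F : Type*} [Field F] [Fintype F]

/-- A square root of minus one, unitary of norm one. -/
structure Root (σ : F ≃+* F) (z : F) : Prop where
  sq : z * z = -1
  two : (2 : F) ≠ 0
  conj : σ z = -z

variable {σ : F ≃+* F} {z : F}

def zp (z : F) (a : ZMod 4) : F := z ^ a.val

theorem Root.four (h : Root σ z) : z ^ 4 = 1 := by linear_combination (z * z - 1) * h.sq

theorem zp_zero : zp z (0 : ZMod 4) = 1 := by simp [zp]

theorem zp_add (h : Root σ z) (a b : ZMod 4) : zp z (a + b) = zp z a * zp z b := by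
  rw [zp, zp, zp, ← pow_add, ZMod.val_add]
  exact (pow_eq_pow_mod _ h.four).symm

theorem zp_ne (h : Root σ z) (a : ZMod 4) : zp z a ≠ 0 :=
  pow_ne_zero _ fun e => by simpa [e] using h.four

theorem prim (h : Root σ z) : IsPrimitiveRoot z 4 := by
  have h2 : ¬ z ^ 2 = 1 := fun e => h.two (by linear_combination h.sq - e)
  have hord : orderOf z = 4 := by
    haveI : Fact (Nat.Prime 2) := ⟨Nat.prime_two⟩
    exact orderOf_eq_prime_pow (p := 2) (n := 1) (by simpa using h2) (by simpa using h.four)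
  exact hord ▸ IsPrimitiveRoot.orderOf z

theorem zp_inj (h : Root σ z) {a b : ZMod 4} (e : zp z a = zp z b) : a = b :=
  ZMod.val_injective 4 ((prim h).pow_inj (ZMod.val_lt a) (ZMod.val_lt b) e)

theorem zp_surj (h : Root σ z) {d : F} (hd : d ^ 4 = 1) : ∃ a : ZMod 4, zp z a = d := by
  obtain ⟨i, hi, e⟩ := (prim h).eq_pow_of_pow_eq_one hd
  exact ⟨(i : ZMod 4), by rw [zp, ZMod.val_natCast, Nat.mod_eq_of_lt hi, e]⟩

theorem zp_norm (h : Root σ z) (a : ZMod 4) : zp z a * σ (zp z a) = 1 := by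
  rw [zp, map_pow, ← mul_pow, h.conj, show z * -z = 1 by linear_combination -h.sq, one_pow]

/-- The matrix of a symbol. -/
def mat (z : F) (p : Sym) : Matrix (Fin 4) (Fin 4) F :=
  Matrix.of fun i j => if i = fx j p.2.2 then zp z (expo p i) else 0

theorem mat_mul (h : Root σ z) (p q : Sym) : mat z p * mat z q = mat z (pmul p q) := by
  ext i j
  rw [Matrix.mul_apply, Finset.sum_eq_single (fx j q.2.2) (fun k _ hk => by simp [mat, hk]) (by simp)]
  simp only [mat, Matrix.of_apply, if_true, fx_assoc]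
  rw [show (pmul p q).2.2 = fx p.2.2 q.2.2 from rfl]
  by_cases hi : i = fx j (fx p.2.2 q.2.2)
  · rw [if_pos hi, if_pos hi, ← zp_add h, ← expo_mul p q i]
    congr 3
    rw [hi, ← fx_assoc, fx_cancel]
  · rw [if_neg hi, if_neg hi, zero_mul]

theorem mat_scalar (a : ZMod 4) : mat z (a, 0, 0) = zp z a • (1 : Matrix (Fin 4) (Fin 4) F) := by
  ext i j
  simp only [mat, Matrix.of_apply, (expo_scalar a _).1, (expo_scalar a _).2, Matrix.smul_apply, Matrix.one_apply,
    smul_eq_mul, mul_ite, mul_one, mul_zero]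

theorem mat_one : mat z pone = (1 : Matrix (Fin 4) (Fin 4) F) := by
  rw [show pone = ((0 : ZMod 4), (0 : Fin 4), (0 : Fin 4)) from rfl, mat_scalar, zp_zero, one_smul]

theorem mat_inj (h : Root σ z) {p q : Sym} (e : mat z p = mat z q) : p = q := by
  have hx : p.2.2 = q.2.2 := by
    have h1 := congrFun (congrFun e (fx 0 p.2.2)) 0
    simp only [mat, Matrix.of_apply, if_true] at h1
    by_contra hne
    rw [if_neg fun hh => hne (fx_inj _ _ _ hh)] at h1
    exact zp_ne h _ h1
  refine expo_ext p q hx fun i => zp_inj h ?_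
  have h1 := congrFun (congrFun e i) (fx i p.2.2)
  simp only [mat, Matrix.of_apply, fx_cancel, ← hx, if_true] at h1
  exact h1

/-- The invertible matrix of a symbol. -/
def unit (h : Root σ z) (p : Sym) : GL (Fin 4) F :=
  ⟨mat z p, mat z (pinv p), by rw [mat_mul h, (pmul_inv p).1, mat_one],
    by rw [mat_mul h, (pmul_inv p).2, mat_one]⟩

theorem unit_val (h : Root σ z) (p : Sym) : (unit h p : Matrix (Fin 4) (Fin 4) F) = mat z p := rfl

theorem unit_mul (h : Root σ z) (p q : Sym) : unit h (pmul p q) = unit h p * unit h q :=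
  Units.ext (mat_mul h p q).symm

theorem unit_inj (h : Root σ z) {p q : Sym} (e : unit h p = unit h q) : p = q :=
  mat_inj h (congrArg Units.val e)

/-- The group of order 64 in the coordinates of a basis. -/
def grp (h : Root σ z) (U : GL (Fin 4) F) : Subgroup (GL (Fin 4) F) where
  carrier := Set.range fun p => U * unit h p * U⁻¹
  mul_mem' := by
    rintro _ _ ⟨p, rfl⟩ ⟨q, rfl⟩
    exact ⟨pmul p q, by simp only [unit_mul]; group⟩
  one_mem' := ⟨pone, by
    show U * unit h pone * U⁻¹ = 1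
    rw [show unit h pone = 1 from Units.ext mat_one]; group⟩
  inv_mem' := by
    rintro _ ⟨p, rfl⟩
    refine ⟨pinv p, ?_⟩
    show U * unit h (pinv p) * U⁻¹ = (U * unit h p * U⁻¹)⁻¹
    rw [show unit h (pinv p) = (unit h p)⁻¹ from Units.ext rfl]; group

variable (h : Root σ z) (U : GL (Fin 4) F)

theorem equiv_exists : ∃ e : Sym ≃ grp h U, (∀ p, ((e p : grp h U) : GL (Fin 4) F) = U * unit h p * U⁻¹) ∧
    ∀ p q, e (pmul p q) = e p * e q := by
  let f : Sym → grp h U := fun p => ⟨_, p, rfl⟩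
  have hf : Function.Bijective f := by
    refine ⟨fun p q e => unit_inj h ?_, fun ⟨_, p, hp⟩ => ⟨p, Subtype.ext hp⟩⟩
    have h1 := congrArg Subtype.val e
    exact mul_left_cancel (mul_right_cancel h1)
  refine ⟨Equiv.ofBijective f hf, fun p => rfl, fun p q => Subtype.ext ?_⟩
  show U * unit h (pmul p q) * U⁻¹ = U * unit h p * U⁻¹ * (U * unit h q * U⁻¹)
  rw [unit_mul]; group

theorem grp_card : Nat.card (grp h U) = 64 := by
  obtain ⟨e, -, -⟩ := equiv_exists h U
  rw [← Nat.card_congr e]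
  simp

theorem grp_center : Nat.card (Subgroup.center (grp h U)) = 4 := by
  classical
  obtain ⟨e, -, hm⟩ := equiv_exists h U
  have hiff : ∀ p, (∀ q, pmul q p = pmul p q) ↔ e p ∈ Subgroup.center (grp h U) := fun p => by
    rw [Subgroup.mem_center_iff]
    constructor
    · intro hp g
      obtain ⟨q, rfl⟩ := e.surjective g
      rw [← hm, ← hm, hp]
    · intro hp q
      exact e.injective (by rw [hm, hm]; exact hp (e q))
  exact ((Nat.card_congr (e.subtypeEquiv hiff)).symm.trans (Nat.card_eq_fintype_card)).trans center_card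

theorem grp_scal : Scal (grp h U) := by
  rintro _ ⟨p, rfl⟩ _ ⟨q, rfl⟩
  obtain ⟨a, ha⟩ := commutator_scalar p q
  refine ⟨Units.mk0 (zp z a) (zp_ne h a), ?_⟩
  have hs : unit h (a, 0, 0) = sc (Units.mk0 (zp z a) (zp_ne h a)) := Units.ext (by
    rw [unit_val, mat_scalar, sc_coe, Units.val_mk0])
  have hc : ∀ y : GL (Fin 4) F, sc (Units.mk0 (zp z a) (zp_ne h a)) * y = y * sc (Units.mk0 (zp z a) (zp_ne h a)) :=
    fun y => Units.ext (by rw [Units.val_mul, Units.val_mul, sc_coe, Matrix.smul_mul, Matrix.mul_smul, one_mul, mul_one])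
  simp only
  calc U * unit h q * U⁻¹ * (U * unit h p * U⁻¹) = U * (unit h q * unit h p) * U⁻¹ := by group
    _ = U * (unit h (a, 0, 0) * (unit h p * unit h q)) * U⁻¹ := by rw [← unit_mul, ha, unit_mul, unit_mul]
    _ = sc (Units.mk0 (zp z a) (zp_ne h a)) * (U * unit h p * U⁻¹ * (U * unit h q * U⁻¹)) := by
      rw [hs, ← mul_assoc U, ← hc U]; group

theorem grp_symplecticType : IsSymplecticTypeGroup 2 (grp h U) := by
  classical
  obtain ⟨e, -, hm⟩ := equiv_exists h U
  have he1 : e pone = 1 := by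
    have h1 := hm pone pone
    rw [show pmul pone pone = pone by decide] at h1
    exact mul_eq_left.1 h1.symm
  have hfour : ∀ g : grp h U, g ^ 4 = 1 := fun g => by
    obtain ⟨p, rfl⟩ := e.surjective g
    rw [pow_succ', pow_succ', pow_succ', pow_one, ← hm, ← hm, ← hm, pow_four, he1]
  have hexp : Monoid.exponent (grp h U) = 4 := by
    refine Nat.dvd_antisymm (Monoid.exponent_dvd_iff_forall_pow_eq_one.2 hfour) ?_
    have h1 : orderOf (e (1, 0, 0)) = 2 ^ (1 + 1) := by
      haveI : Fact (Nat.Prime 2) := ⟨Nat.prime_two⟩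
      refine orderOf_eq_prime_pow ?_ (hfour _)
      rw [pow_one, pow_two, ← hm, ← he1]
      exact fun hh => exp_two (e.injective hh)
    have := Monoid.order_dvd_exponent (e (1, 0, 0))
    rwa [h1] at this
  refine ⟨Nat.prime_two, IsPGroup.of_card (n := 6) (grp_card h U), fun A hA hcomm => ?_, hexp.trans (by norm_num)⟩
  have hsub : ∀ g ∈ A, g ∈ Subgroup.zpowers (e (1, 0, 0)) := by
    intro g hg
    obtain ⟨p, rfl⟩ := e.surjective g
    by_cases hp : p.2.1 ≠ 0 ∨ p.2.2 ≠ 0
    · exfalso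
      obtain ⟨k, hk⟩ := auto_moves p hp
      let α : Sym ≃ Sym := Equiv.ofBijective (auto k) (Finite.injective_iff_bijective.1 (auto_bij k))
      let β : grp h U ≃* grp h U :=
        { e.symm.trans (α.trans e) with
          map_mul' := fun a b => by
            obtain ⟨p, rfl⟩ := e.surjective a
            obtain ⟨q, rfl⟩ := e.surjective b
            show e (auto k (e.symm (e p * e q))) = e (auto k (e.symm (e p))) * e (auto k (e.symm (e q)))
            rw [← hm, e.symm_apply_apply, e.symm_apply_apply, e.symm_apply_apply, auto_mul, hm] }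
      have hβ : β (e p) ∈ A := by
        have h2 := hA.fixed β
        rw [← h2] at hg
        exact hg
      have h3 := congrArg Subtype.val (mul_comm' ⟨e p, hg⟩ ⟨β (e p), hβ⟩)
      change e p * e (auto k (e.symm (e p))) = e (auto k (e.symm (e p))) * e p at h3
      rw [e.symm_apply_apply, ← hm, ← hm] at h3
      exact hk (e.injective h3)
    · push Not at hp
      obtain ⟨a, c, x⟩ := p
      obtain ⟨rfl, rfl⟩ := hp
      have hmem := Subgroup.mem_zpowers (e ((1, 0, 0) : Sym))
      rcases scalar_gen a with ha | ha | ha | ha <;> rw [ha]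
      · rw [he1]; exact one_mem _
      · exact hmem
      · rw [hm]; exact mul_mem hmem hmem
      · rw [pinv, hm, hm]; exact mul_mem hmem (mul_mem hmem hmem)
  exact Subgroup.isCyclic_of_le (show A ≤ Subgroup.zpowers (e (1, 0, 0)) from hsub)

theorem dot_sum (h : Root σ z) (i k : Fin 4) :
    ∑ c : Fin 4, zp z (2 * dot c i + 2 * dot c k) = if i = k then 4 else 0 := by
  have h2 : zp z (2 : ZMod 4) = -1 := by
    show z ^ (2 : ℕ) = -1
    linear_combination h.sq
  have hc : ∀ i k : Fin 4, let e := fun c => 2 * dot c i + 2 * dot c k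
      if i = k then e 0 = 0 ∧ e 1 = 0 ∧ e 2 = 0 ∧ e 3 = 0
      else (e 0 = 0 ∧ e 1 = 2 ∧ e 2 = 0 ∧ e 3 = 2) ∨ (e 0 = 0 ∧ e 1 = 0 ∧ e 2 = 2 ∧ e 3 = 2) ∨
        (e 0 = 0 ∧ e 1 = 2 ∧ e 2 = 2 ∧ e 3 = 0) := by decide +kernel
  have h' := hc i k
  simp only at h'
  by_cases hik : i = k
  · rw [if_pos hik] at h' ⊢
    obtain ⟨e0, e1, e2, e3⟩ := h'
    rw [Fin.sum_univ_four, e0, e1, e2, e3, zp_zero]
    norm_num
  · rw [if_neg hik] at h' ⊢
    rcases h' with ⟨e0, e1, e2, e3⟩ | ⟨e0, e1, e2, e3⟩ | ⟨e0, e1, e2, e3⟩ <;>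
      rw [Fin.sum_univ_four, e0, e1, e2, e3, zp_zero, h2] <;> ring

theorem grp_ai : ActsAbsolutelyIrreducibly (matrixSet (grp h U)) := by
  classical
  set Um := (U : Matrix (Fin 4) (Fin 4) F)
  set Ui := ((U⁻¹ : GL (Fin 4) F) : Matrix (Fin 4) (Fin 4) F)
  have hUiU : Ui * Um = 1 := U.inv_mul
  have hUUi : Um * Ui = 1 := U.mul_inv
  have hin : ∀ p, Um * mat z p * Ui ∈ matrixSet (grp h U) := fun p => ⟨U * unit h p * U⁻¹, ⟨p, rfl⟩, rfl⟩
  have h4 : (4 : F) ≠ 0 := by
    rw [show (4 : F) = 2 * 2 by norm_num]; exact mul_ne_zero h.two h.two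
  have hdiag : ∀ (c : Fin 4) (v : Fin 4 → F), mat z (0, c, 0) *ᵥ v = fun i => zp z (2 * dot c i) * v i := by
    intro c v
    funext i
    have hfx : ∀ j : Fin 4, fx j 0 = j := fun j => (expo_scalar 0 j).2
    simp [mat, Matrix.mulVec, dotProduct, hfx, expo]
  have hshift : ∀ (x : Fin 4) (j : Fin 4), mat z (0, 0, x) *ᵥ Pi.single j 1 = Pi.single (fx j x) 1 := by
    intro x j
    funext i
    rw [Matrix.mulVec_single_one]
    by_cases hi : i = fx j x
    · subst hi
      have : expo ((0 : ZMod 4), (0 : Fin 4), x) (fx j x) = 0 := expo_one _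
      simp [mat, this, zp_zero]
    · simp [mat, hi]
  have hxx : ∀ a b : Fin 4, fx a (fx a b) = b := by decide
  have hzero : ∀ j : Fin 4, fx 0 j = j := by decide
  refine ⟨fun W hW => ?_, fun M hM => ?_⟩
  · by_cases hbot : W = ⊥
    · exact Or.inl hbot
    right
    obtain ⟨v, hv, hv0⟩ := Submodule.exists_mem_ne_zero_of_ne_bot hbot
    have hWm : ∀ p, ∀ w ∈ W, Um *ᵥ (mat z p *ᵥ (Ui *ᵥ w)) ∈ W := fun p w hw => by
      rw [Matrix.mulVec_mulVec, Matrix.mulVec_mulVec]
      exact hW _ (hin p) ⟨w, hw, Matrix.toLin'_apply _ _⟩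
    obtain ⟨i₀, hi₀⟩ : ∃ i, (Ui *ᵥ v) i ≠ 0 := Function.ne_iff.1 fun e => hv0 (by
      rw [← Matrix.one_mulVec v, ← hUUi, ← Matrix.mulVec_mulVec]
      show Um *ᵥ (Ui *ᵥ v) = 0
      rw [show Ui *ᵥ v = 0 from e, Matrix.mulVec_zero])
    have hproj : Um *ᵥ Pi.single i₀ 1 ∈ W := by
      have h1 : ∑ c : Fin 4, zp z (2 * dot c i₀) • (Um *ᵥ (mat z (0, c, 0) *ᵥ (Ui *ᵥ v))) ∈ W :=
        Submodule.sum_mem _ fun c _ => W.smul_mem _ (hWm _ _ hv)
      have h2 : ∑ c : Fin 4, zp z (2 * dot c i₀) • (Um *ᵥ (mat z (0, c, 0) *ᵥ (Ui *ᵥ v))) =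
          (4 * (Ui *ᵥ v) i₀) • (Um *ᵥ Pi.single i₀ 1) := by
        simp only [← Matrix.mulVec_smul, ← Matrix.mulVec_sum, hdiag]
        congr 1
        funext i
        simp only [Finset.sum_apply, Pi.smul_apply, smul_eq_mul, ← mul_assoc, ← zp_add h, ← Finset.sum_mul,
          dot_sum h i₀ i]
        by_cases hi : i₀ = i
        · subst hi; simp
        · simp [hi, Ne.symm hi]
      rw [h2] at h1
      have h3 := W.smul_mem (4 * (Ui *ᵥ v) i₀)⁻¹ h1
      rwa [smul_smul, inv_mul_cancel₀ (mul_ne_zero h4 hi₀), one_smul] at h3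
    have hall : ∀ j, Um *ᵥ Pi.single j 1 ∈ W := fun j => by
      have h1 := hWm (0, 0, fx i₀ j) _ hproj
      rwa [Matrix.mulVec_mulVec (Pi.single i₀ 1) Ui Um, hUiU, Matrix.one_mulVec, hshift,
        hxx i₀ j] at h1
    refine eq_top_iff.2 fun w _ => ?_
    rw [← Matrix.one_mulVec w, ← hUUi, ← Matrix.mulVec_mulVec, pi_eq_sum_univ' (Ui *ᵥ w), Matrix.mulVec_sum]
    exact Submodule.sum_mem _ fun j _ => by rw [Matrix.mulVec_smul]; exact W.smul_mem _ (hall j)
  · set N := Ui * M * Um with hN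
    have hcomm : ∀ p, mat z p * N = N * mat z p := fun p => by
      have h1 := hM _ (hin p)
      calc mat z p * N = Ui * (Um * mat z p * Ui * M) * Um := by
            rw [hN]; simp only [← mul_assoc, hUiU, one_mul]
        _ = Ui * (M * (Um * mat z p * Ui)) * Um := by rw [h1]
        _ = N * mat z p := by rw [hN]; simp only [mul_assoc, hUiU, mul_one]
    have hoff : ∀ i j, i ≠ j → N i j = 0 := fun i j hij => by
      by_contra hne
      have hall : ∀ c, zp z (2 * dot c i) = zp z (2 * dot c j) := fun c => by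
        have h1 := congrFun (congrFun (hcomm (0, c, 0)) i) j
        have hfx : ∀ j : Fin 4, fx j 0 = j := fun j => (expo_scalar 0 j).2
        simp [mat, Matrix.mul_apply, hfx, expo] at h1
        rw [mul_comm] at h1
        exact mul_left_cancel₀ hne h1
      have hdec : ∀ i j : Fin 4, (∀ c : Fin 4, 2 * dot c i = 2 * dot c j) → i = j := by decide
      exact hij (hdec i j fun c => zp_inj h (hall c))
    have heq : ∀ j, N j j = N 0 0 := fun j => by
      have h1 := congrFun (congrFun (hcomm (0, 0, j)) j) 0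
      rw [Matrix.mul_apply, Matrix.mul_apply, Finset.sum_eq_single 0 (fun k _ hk => by rw [hoff k 0 hk, mul_zero])
        (by simp), Finset.sum_eq_single j (fun k _ hk => by rw [hoff j k (Ne.symm hk), zero_mul]) (by simp)] at h1
      have hj : fx 0 j = j := hzero j
      have he : expo ((0 : ZMod 4), (0 : Fin 4), j) j = 0 := expo_one j
      simp [mat, hj, he, zp_zero] at h1
      exact h1.symm
    refine ⟨N 0 0, ?_⟩
    have hN1 : N = N 0 0 • (1 : Matrix (Fin 4) (Fin 4) F) := by
      ext i j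
      by_cases hij : i = j
      · subst hij; simp [heq i]
      · simp [hoff i j hij, hij]
    calc M = Um * N * Ui := by rw [hN]; simp only [← mul_assoc, hUUi, one_mul]; rw [mul_assoc, hUUi, mul_one]
      _ = _ := by rw [hN1]; simp only [Matrix.mul_smul, Matrix.smul_mul, mul_one, hUUi, Matrix.smul_apply, Matrix.one_apply_eq, smul_eq_mul]

/-- Monomial matrices of determinant one normalise the group. -/
theorem normalizes (h : Root σ z) {f : Fin 4 → Fin 4} (hf : Function.Injective f) {m : Fin 4 → ZMod 4}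
    (hm : 2 * (m 0 + m 1 + m 2 + m 3) = 0) {M : Matrix (Fin 4) (Fin 4) F}
    (hM : ∀ j, M *ᵥ Pi.single j 1 = zp z (m j) • Pi.single (f j) 1) (p : Sym) :
    ∃ p', M * mat z p = mat z p' * M := by
  have hfe : f = ![f 0, f 1, f 2, f 3] := funext fun i => by fin_cases i <;> rfl
  let m' : Fin 4 → ZMod 4 := fun i => m (finv f i)
  have hfinv : ∀ j, finv f (f j) = j := fun j => by
    have : ∀ a b c d : Fin 4, Function.Injective ![a, b, c, d] → ∀ j, finv ![a, b, c, d] (![a, b, c, d] j) = j := by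
      decide +kernel
    rw [hfe] at hf ⊢
    exact this _ _ _ _ hf j
  have hm'e : m' = ![m' 0, m' 1, m' 2, m' 3] := funext fun i => by fin_cases i <;> rfl
  have hpr : ∀ p j, fx (f j) (permConj f p).2.2 = f (fx j p.2.2) ∧ expo (permConj f p) (f j) = expo p j := by
    rw [hfe] at hf ⊢
    exact perm_rule _ _ _ _ hf
  have hm' : 2 * (m' 0 + m' 1 + m' 2 + m' 3) = 0 := by
    rw [← hm]
    have : ∑ i, m' i = ∑ i, m i := by
      rw [← (Equiv.ofBijective f (Finite.injective_iff_bijective.1 hf)).sum_comp m']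
      exact Finset.sum_congr rfl fun j _ => congrArg m (hfinv j)
    simpa [Fin.sum_univ_four] using congrArg (2 * ·) this
  have hdr : ∀ p i, (diagConj m' p).2.2 = p.2.2 ∧
      expo (diagConj m' p) i + m' (fx i p.2.2) = expo p i + m' i := by
    rw [hm'e]
    exact diag_rule _ _ _ _ hm'
  set p₁ := permConj f p
  refine ⟨diagConj m' p₁, Matrix.ext_of_mulVec_single fun j => ?_⟩
  have hmat : ∀ (q : Sym) (j : Fin 4), mat z q *ᵥ Pi.single j 1 =
      zp z (expo q (fx j q.2.2)) • Pi.single (fx j q.2.2) 1 := fun q j => by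
    funext i
    rw [Matrix.mulVec_single_one]
    by_cases hi : i = fx j q.2.2
    · subst hi; simp [mat]
    · simp [mat, hi]
  rw [← Matrix.mulVec_mulVec, hmat, Matrix.mulVec_smul, hM, ← Matrix.mulVec_mulVec, hM, Matrix.mulVec_smul, hmat,
    smul_smul, smul_smul, ← zp_add h, ← zp_add h, (hdr p₁ (f j)).1, (hpr p j).1]
  congr 2
  have h1 := (hdr p₁ (f (fx j p.2.2))).2
  rw [← (hpr p j).1, fx_cancel, (hpr p j).1, (hpr p (fx j p.2.2)).2] at h1
  simp only [m', hfinv] at h1
  rw [← h1, add_comm]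

/-- An orthonormal basis adapted to a frame. -/
theorem exists_frame_basis {q : ℕ} (hF : Fintype.card F = q ^ 2) {D : Fin 4 → Submodule F (Fin 4 → F)}
    (hD : IsNondegenerateMDecomposition (hermForm 4 F q) 1 D) :
    ∃ U : GL (Fin 4) F, U ∈ GU 4 F q ∧
      ∀ i, D i = Submodule.span F {(U : Matrix (Fin 4) (Fin 4) F) *ᵥ Pi.single i 1} := by
  classical
  have hs := herm_hermForm (n := 4) hF
  have : ∀ i, ∃ u ∈ D i, hermForm 4 F q u u = 1 := fun i => by
    obtain ⟨u, hu, huu⟩ := hs.exists_norm_in (T := D i) (fun w hw hw0 => (hD.nondegenerate i w hw hw0).1)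
      (fun e => by have := hD.decomp.finrank_eq i; rw [e, finrank_bot] at this; omega) (map_one (qEquiv hF))
    exact ⟨u, hu, huu⟩
  choose u hu huu using this
  let M : Matrix (Fin 4) (Fin 4) F := Matrix.of fun a i => u i a
  have hM : Mᵀ * (1 * M.map (qEquiv hF)) = 1 := by
    ext i j
    rw [Matrix.one_mul, Matrix.mul_apply]
    have e : ∑ a, u i a * qEquiv hF (u j a) = hermForm 4 F q (u i) (u j) := rfl
    simp only [M, Matrix.transpose_apply, Matrix.map_apply, Matrix.of_apply, e]
    by_cases hij : i = j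
    · subst hij; rw [huu, Matrix.one_apply_eq]
    · rw [Matrix.one_apply_ne hij]; exact hD.orthogonal i j hij _ (hu i) _ (hu j)
  have hu' : IsUnit M := IsUnit.of_mul_eq_one_right _ hM |> fun _ => by
    rw [Matrix.isUnit_iff_isUnit_det]
    have := congrArg Matrix.det hM
    rw [Matrix.det_mul, Matrix.det_transpose, Matrix.det_one] at this
    exact IsUnit.of_mul_eq_one _ this
  refine ⟨hu'.unit, (mem_GU_gram fun _ => rfl).2 hM, fun i => ?_⟩
  have hcol : M *ᵥ Pi.single i 1 = u i := by rw [Matrix.mulVec_single_one]; rfl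
  rw [IsUnit.unit_spec, hcol]
  refine (Submodule.eq_of_le_of_finrank_eq ?_ ?_).symm
  · rw [Submodule.span_singleton_le_iff_mem]; exact hu i
  · rw [finrank_span_singleton (fun e => by simpa [e, hs.toSesq.zero_left] using huu i), hD.decomp.finrank_eq]

/-- Over nine elements the stabiliser of an orthogonal frame normalises a symplectic-type group. -/
theorem frame_normalizer (hF : Fintype.card F = 3 ^ 2) {D : Fin 4 → Submodule F (Fin 4 → F)}
    (hD : IsNondegenerateMDecomposition (hermForm 4 F 3) 1 D) :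
    ∃ R : Subgroup (GL (Fin 4) F), IsSymplecticTypeGroup 2 R ∧ ActsAbsolutelyIrreducibly (matrixSet R) ∧
      R ≤ similarityGroup (hermForm 4 F 3) ∧ Nat.card R = 64 ∧ Nat.card (Subgroup.center R) = 4 ∧ Scal R ∧
      decompositionStabilizer D ⊓ (GU 4 F 3 ⊓ specialLinear (Fin 4) F) ≤ subgroupNormalizer R := by
  classical
  obtain ⟨z, hz0, hz⟩ := exists_skew_scalar (F := F) hF
  have h3 : (3 : F) = 0 := by
    have := FiniteField.cast_card_eq_zero F
    rw [hF] at this
    norm_num at this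
    exact mul_self_eq_zero.1 (show (3 : F) * 3 = 0 by norm_num; exact this)
  have h : Root (qEquiv hF) z := by
    refine ⟨?_, fun e => one_ne_zero (α := F) (by linear_combination h3 - e), ?_⟩
    · rw [MaxTv.qEquiv_apply] at hz
      refine mul_left_cancel₀ hz0 ?_
      linear_combination hz
    · linear_combination hz
  obtain ⟨U, hU, hDU⟩ := exists_frame_basis hF hD
  set Um := (U : Matrix (Fin 4) (Fin 4) F)
  have hGU : ∀ p, unit h p ∈ GU 4 F 3 := fun p => by
    rw [mem_GU_gram (σ := qEquiv hF) fun _ => rfl, Matrix.one_mul]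
    ext i j
    rw [Matrix.mul_apply, Finset.sum_eq_single (fx i p.2.2) (fun k _ hk => by simp [unit_val, mat, hk]) (by simp)]
    by_cases hij : i = j
    · subst hij; simp [unit_val, mat, zp_norm h]
    · have : fx i p.2.2 ≠ fx j p.2.2 := fun e => hij (by rw [← fx_cancel i p.2.2, e, fx_cancel])
      simp [unit_val, mat, this, hij]
  have hsim : grp h U ≤ similarityGroup (hermForm 4 F 3) := by
    rintro _ ⟨p, rfl⟩
    refine ⟨1, fun u v => ?_⟩
    rw [Units.val_one, one_mul]
    exact MaxTv.mem_GU.1 ((GU 4 F 3).mul_mem ((GU 4 F 3).mul_mem hU (hGU p)) ((GU 4 F 3).inv_mem hU)) u v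
  refine ⟨grp h U, grp_symplecticType h U, grp_ai h U, hsim, grp_card h U, grp_center h U, grp_scal h U, ?_⟩
  have key : ∀ g ∈ decompositionStabilizer D ⊓ (GU 4 F 3 ⊓ specialLinear (Fin 4) F), ∀ r ∈ grp h U,
      g * r * g⁻¹ ∈ grp h U := by
    rintro g ⟨hgD, hgU, hgS⟩ _ ⟨p, rfl⟩
    obtain ⟨π, hπ⟩ := hgD
    set G := U⁻¹ * g * U with hG
    set Gm := (G : Matrix (Fin 4) (Fin 4) F)
    have hGG : G ∈ GU 4 F 3 := (GU 4 F 3).mul_mem ((GU 4 F 3).mul_mem ((GU 4 F 3).inv_mem hU) hgU) hU
    have hd : ∀ j, ∃ d : F, Gm *ᵥ Pi.single j 1 = d • Pi.single (π j) 1 := by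
      intro j
      have h1 : (g : Matrix (Fin 4) (Fin 4) F) *ᵥ (Um *ᵥ Pi.single j 1) ∈ D (π j) := by
        rw [← hπ j]
        exact ⟨_, by rw [hDU j]; exact Submodule.mem_span_singleton_self _, Matrix.toLin'_apply _ _⟩
      rw [hDU (π j), Submodule.mem_span_singleton] at h1
      obtain ⟨d, hd⟩ := h1
      refine ⟨d, MaxTv.gl_mulVec_injective U ?_⟩
      show Um *ᵥ (Gm *ᵥ _) = Um *ᵥ (d • _)
      rw [Matrix.mulVec_smul, hd, Matrix.mulVec_mulVec, Matrix.mulVec_mulVec, ← Units.val_mul, ← Units.val_mul]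
      congr 2
      rw [hG]; group
    choose d hd using hd
    have hd4 : ∀ j, d j ^ 4 = 1 := fun j => by
      have h1 := MaxTv.mem_GU.1 hGG (Pi.single j 1) (Pi.single j 1)
      rw [hd, (herm_hermForm (n := 4) hF).smul_left, (herm_hermForm (n := 4) hF).smul_right,
        hermForm_single_right hF, hermForm_single_right hF, MaxTv.qEquiv_apply] at h1
      simp at h1
      linear_combination h1
    choose m hm using fun j => zp_surj h (hd4 j)
    have hGperm : Gm = (Matrix.diagonal d).submatrix π.symm id := by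
      refine Matrix.ext fun i j => ?_
      have h1 := congrFun (hd j) i
      rw [Matrix.mulVec_single_one, Matrix.col_apply] at h1
      rw [h1, Matrix.submatrix_apply]
      by_cases hi : i = π j
      · subst hi; simp
      · have : π.symm i ≠ j := fun e => hi (by rw [← e, Equiv.apply_symm_apply])
        simp [hi, this]
    have hGdet : Gm.det = 1 := by
      have hgdet : (g : Matrix (Fin 4) (Fin 4) F).det = 1 := by
        have h0 := congrArg Units.val (MonoidHom.mem_ker.1 hgS)
        rwa [Matrix.GeneralLinearGroup.val_det_apply, Units.val_one] at h0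
      show (G : Matrix (Fin 4) (Fin 4) F).det = 1
      rw [hG, Units.val_mul, Units.val_mul, Matrix.det_units_conj', hgdet]
    have hpar : 2 * (m 0 + m 1 + m 2 + m 3) = 0 := by
      refine zp_inj h ?_
      rw [two_mul, zp_zero, zp_add h]
      simp only [zp_add h, hm]
      rw [hGperm, Matrix.det_permute, Matrix.det_diagonal, Fin.prod_univ_four] at hGdet
      rcases Int.units_eq_one_or (Equiv.Perm.sign π.symm) with e | e <;> rw [e] at hGdet <;>
        simp only [Units.val_neg, Units.val_one, Int.cast_neg, Int.cast_one, one_mul, neg_one_mul] at hGdet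
      · rw [hGdet, one_mul]
      · linear_combination (-(d 0 * d 1 * d 2 * d 3) + 1) * hGdet
    obtain ⟨p', hp'⟩ := normalizes h π.injective hpar (M := Gm) (fun j => by rw [hd, hm]) p
    refine ⟨p', ?_⟩
    have hp'' : G * unit h p = unit h p' * G := Units.ext hp'
    show U * unit h p' * U⁻¹ = g * (U * unit h p * U⁻¹) * g⁻¹
    rw [show g * (U * unit h p * U⁻¹) * g⁻¹ = U * (G * unit h p * G⁻¹) * U⁻¹ by rw [hG]; group, hp'']
    group
  intro g hg
  rw [subgroupNormalizer, Subgroup.mem_normalizer_iff]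
  refine fun r => ⟨key g hg r, fun hr => ?_⟩
  have h1 := key g⁻¹ ((decompositionStabilizer D ⊓ (GU 4 F 3 ⊓ specialLinear (Fin 4) F)).inv_mem hg) _ hr
  rwa [inv_inv, show g⁻¹ * (g * r * g⁻¹) * g = r by group] at h1

end Cfsg.Agent.Classical.UnitFour
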