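import Cfsg.Agent.Lib.Classical.AschUnitFour

/-!
In four dimensions over at most nine elements the stabiliser of two complementary totally isotropic planes lies in a
subfield group of symplectic type.
-/

set_option autoImplicit false
set_option linter.unusedSectionVars false
set_option linter.unusedFintypeInType false
set_option linter.unusedDecidableInType false

namespace Cfsg.Agent.Classical.Asch

open Matrix Module Cfsg.Geo
open MaxTv (qEquiv herm_hermForm)

variable {F : Type*} [Field F] [Fintype F] {q : ℕ}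

/-- Hyperbolic bases of two complementary totally isotropic planes. -/
theorem exists_pair_basis (hF : Fintype.card F = q ^ 2) {D : Fin 2 → Submodule F (Fin 4 → F)}
    (hD : IsMDecomposition 2 D) (hts : ∀ i, IsTotallySingularFor (hermForm 4 F q) (D i)) :
    ∃ e f : Fin 2 → (Fin 4 → F), (∀ i, e i ∈ D 0) ∧ (∀ i, f i ∈ D 1) ∧
      (∀ i j, hermForm 4 F q (e i) (f j) = if i = j then 1 else 0) ∧
      (∀ x ∈ D 0, ∃ u : Fin 2 → F, x = ∑ i, u i • e i) ∧ (∀ y ∈ D 1, ∃ u : Fin 2 → F, y = ∑ i, u i • f i) := by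
  classical
  have hs := herm_hermForm (n := 4) hF
  let b := Module.finBasisOfFinrankEq F (D 0) (hD.finrank_eq 0)
  let e : Fin 2 → Fin 4 → F := fun i => b i
  have hx : ∀ x ∈ D 0, ∃ u : Fin 2 → F, x = ∑ i, u i • e i := fun x hx => by
    refine ⟨fun i => b.repr ⟨x, hx⟩ i, ?_⟩
    have h1 := congrArg Subtype.val (b.sum_repr ⟨x, hx⟩)
    simp only [Submodule.coe_sum, Submodule.coe_smul] at h1
    exact h1.symm
  let L : D 1 →ₗ[F] (Fin 2 → F) :=
    { toFun := fun y i => hermForm 4 F q y (e i)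
      map_add' := fun y y' => funext fun i => hs.add_left _ _ _
      map_smul' := fun c y => funext fun i => hs.smul_left _ _ _ }
  have hL : Function.Injective L := (injective_iff_map_eq_zero L).2 fun y hy => by
    refine Subtype.ext (hs.eq_zero (y : Fin 4 → F) fun x => ?_)
    have htop : x ∈ D 0 ⊔ D 1 := by
      have h1 : iSup D ≤ D 0 ⊔ D 1 := iSup_le fun i => by
        fin_cases i
        · exact le_sup_left
        · exact le_sup_right
      exact h1 (hD.iSup_eq_top ▸ trivial)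
    obtain ⟨a, ha, c, hc, rfl⟩ := Submodule.mem_sup.1 htop
    obtain ⟨u, rfl⟩ := hx a ha
    rw [hs.add_left, hts 1 c hc y y.2, add_zero, Fin.sum_univ_two, hs.add_left, hs.smul_left, hs.smul_left]
    have h0 := congrFun hy 0
    have h1 := congrFun hy 1
    simp only [Pi.zero_apply] at h0 h1
    rw [hs.herm (e 0), show hermForm 4 F q y (e 0) = 0 from h0, hs.herm (e 1),
      show hermForm 4 F q y (e 1) = 0 from h1, map_zero, mul_zero, mul_zero, add_zero]
  have hsur : Function.Surjective L := (L.injective_iff_surjective_of_finrank_eq_finrank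
    (by rw [hD.finrank_eq, Module.finrank_fin_fun])).1 hL
  choose y hy using fun j => hsur (Pi.single j 1)
  refine ⟨e, fun j => y j, fun i => (b i).2, fun j => (y j).2, fun i j => ?_, hx, fun z hz => ?_⟩
  · rw [hs.herm, show hermForm 4 F q (y j) (e i) = (Pi.single j 1 : Fin 2 → F) i from congrFun (hy j) i]
    by_cases h : i = j
    · subst h; simp
    · simp [h]
  · refine ⟨L ⟨z, hz⟩, ?_⟩
    have h1 : (⟨z, hz⟩ : D 1) = ∑ i, L ⟨z, hz⟩ i • y i := hL (by
      rw [map_sum]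
      simp only [map_smul, hy]
      funext i
      simp [Finset.sum_apply, Pi.single_apply])
    have h2 := congrArg Subtype.val h1
    simp only [Submodule.coe_sum, Submodule.coe_smul] at h2
    exact h2

/-- With at most nine elements a pair of totally isotropic planes has a symplectic subfield structure. -/
theorem pair_subfield (hF : Fintype.card F = q ^ 2) (hq : q ≤ 3) {D : Fin 2 → Submodule F (Fin 4 → F)}
    (hD : IsMDecomposition 2 D) (hts : ∀ i, IsTotallySingularFor (hermForm 4 F q) (D i)) :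
    ∃ (F₀ : Subfield F) (P : GL (Fin 4) F) (ζ : F), Fintype.card F = Nat.card F₀ ^ 2 ∧ ζ ≠ 0 ∧ ζ + ζ ^ q = 0 ∧
      IsFormRationalStructure (hermForm 4 F q) F₀ ζ P ∧
      (∀ u : Fin 4 → F, (∀ i, u i ∈ F₀) →
        hermForm 4 F q ((P : Matrix (Fin 4) (Fin 4) F) *ᵥ u) ((P : Matrix (Fin 4) (Fin 4) F) *ᵥ u) = 0) ∧
      decompositionStabilizer D ⊓ (GU 4 F q ⊓ specialLinear (Fin 4) F) ≤ subfieldSubgroup F₀ P := by
  classical
  obtain ⟨e, f, he, hf, hef, hxe, hxf⟩ := exists_pair_basis hF hD hts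
  have hs := herm_hermForm (n := 4) hF
  set σ := qEquiv hF with hσ
  set B := hermForm 4 F q with hB
  obtain ⟨ζ, hζ0, hζ⟩ := exists_skew_scalar (F := F) hF
  obtain ⟨lam, hlam⟩ := exists_moved hs.ne_refl
  set F₀ : Subfield F := RingHom.eqLocusField (σ : F →+* F) (RingHom.id F)
  have hmem : ∀ x, x ∈ F₀ ↔ σ x = x := fun x => Iff.rfl
  have hsp : ∀ x, ∃ a b : F, σ a = a ∧ σ b = b ∧ x = a + lam * b := fun x => by
    have hd : σ lam - lam ≠ 0 := sub_ne_zero.2 hlam
    refine ⟨x - lam * ((σ x - x) / (σ lam - lam)), (σ x - x) / (σ lam - lam), ?_, ?_, by ring⟩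
    · rw [map_sub, map_mul, map_div₀, map_sub, map_sub, hs.invol, hs.invol,
        show (x - σ x) / (lam - σ lam) = (σ x - x) / (σ lam - lam) by rw [← neg_sub (σ x), ← neg_sub (σ lam), neg_div_neg_eq]]
      have h1 : (σ lam - lam) * ((σ x - x) / (σ lam - lam)) = σ x - x := mul_div_cancel₀ _ hd
      linear_combination -h1
    · rw [map_div₀, map_sub, map_sub, hs.invol, hs.invol, ← neg_sub (σ x), ← neg_sub (σ lam), neg_div_neg_eq]
  have hindep : ∀ a b : F, σ a = a → σ b = b → a + lam * b = 0 → a = 0 ∧ b = 0 := fun a b ha hb h => by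
    have h' := congrArg σ h
    rw [map_add, map_mul, ha, hb, map_zero] at h'
    have hb0 : b = 0 := by
      refine (mul_eq_zero.1 (show (σ lam - lam) * b = 0 by linear_combination h' - h)).resolve_left (sub_ne_zero.2 hlam)
    exact ⟨by rw [hb0, mul_zero, add_zero] at h; exact h, hb0⟩
  have hcard : Fintype.card F = Nat.card F₀ ^ 2 := by
    let φ : F₀ × F₀ → F := fun p => (p.1 : F) + lam * p.2
    have hφ : Function.Bijective φ := by
      refine ⟨fun p p' h => ?_, fun x => ?_⟩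
      · have h' : ((p.1 : F) - p'.1) + lam * ((p.2 : F) - p'.2) = 0 := by
          simp only [φ] at h; linear_combination h
        obtain ⟨h1, h2⟩ := hindep _ _ (by rw [map_sub, (hmem _).1 p.1.2, (hmem _).1 p'.1.2])
          (by rw [map_sub, (hmem _).1 p.2.2, (hmem _).1 p'.2.2]) h'
        exact Prod.ext (Subtype.ext (sub_eq_zero.1 h1)) (Subtype.ext (sub_eq_zero.1 h2))
      · obtain ⟨a, b, ha, hb, rfl⟩ := hsp x
        exact ⟨(⟨a, (hmem a).2 ha⟩, ⟨b, (hmem b).2 hb⟩), rfl⟩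
    rw [← Nat.card_eq_fintype_card, ← Nat.card_congr (Equiv.ofBijective φ hφ), Nat.card_prod, pow_two]
  -- the lattice
  let pnt : F → F → (Fin 4 → F) := fun u₀ u₁ => u₀ • e 0 + u₁ • e 1 + (σ u₁ • f 0 + (-σ u₀) • f 1)
  have hfe : ∀ i j, B (f i) (e j) = if i = j then 1 else 0 := fun i j => by
    rw [hs.herm, hef]; by_cases h : i = j <;> simp [h, eq_comm]
  have hee : ∀ i j, B (e i) (e j) = 0 := fun i j => hts 0 _ (he i) _ (he j)
  have hff : ∀ i j, B (f i) (f j) = 0 := fun i j => hts 1 _ (hf i) _ (hf j)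
  have hgen : ∀ a₀ a₁ b₀ b₁ c₀ c₁ d₀ d₁ : F,
      B (a₀ • e 0 + a₁ • e 1 + (b₀ • f 0 + b₁ • f 1)) (c₀ • e 0 + c₁ • e 1 + (d₀ • f 0 + d₁ • f 1)) =
        a₀ * σ d₀ + a₁ * σ d₁ + (b₀ * σ c₀ + b₁ * σ c₁) := by
    intro a₀ a₁ b₀ b₁ c₀ c₁ d₀ d₁
    simp only [hs.add_left, hs.add_right, hs.smul_left, hs.smul_right, hee, hff, hef, hfe]
    simp
  have hpnt : ∀ u₀ u₁ v₀ v₁ : F, B (pnt u₀ u₁) (pnt v₀ v₁) =
      (u₀ * v₁ - u₁ * v₀) - σ (u₀ * v₁ - u₁ * v₀) := fun u₀ u₁ v₀ v₁ => by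
    simp only [pnt, hgen, hs.invol, map_neg, map_sub, map_mul]; ring
  let Pm : Matrix (Fin 4) (Fin 4) F := Matrix.of fun a l => (![pnt 1 0, pnt 0 1, pnt lam 0, pnt 0 lam] : Fin 4 → Fin 4 → F) l a
  have hP : ∀ u : Fin 4 → F, (∀ i, u i ∈ F₀) → Pm *ᵥ u = pnt (u 0 + lam * u 2) (u 1 + lam * u 3) := by
    intro u hu
    funext a
    simp only [Pm, pnt, Matrix.mulVec, dotProduct, Matrix.of_apply, Fin.sum_univ_four, map_add, map_mul,
      (hmem _).1 (hu 0), (hmem _).1 (hu 1), (hmem _).1 (hu 2), (hmem _).1 (hu 3), Pi.add_apply, Pi.smul_apply,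
      smul_eq_mul, Matrix.cons_val_zero, Matrix.cons_val_one, Matrix.cons_val_two, Matrix.cons_val_three,
      Matrix.head_cons, Matrix.tail_cons, map_zero, map_one]
    ring
  have hunit : IsUnit Pm := by
    rw [← Matrix.mulVec_injective_iff_isUnit]
    refine (injective_iff_map_eq_zero Pm.mulVecLin).2 ?_
    intro u hu
    have hu' : Pm *ᵥ u = 0 := hu
    choose a b ha hb hab using fun i => hsp (u i)
    have hsplit : u = (fun i => a i) + lam • (fun i => b i) := funext fun i => by simp [hab i]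
    have hmemA : ∀ i, a i ∈ F₀ := fun i => (hmem _).2 (ha i)
    have hmemB : ∀ i, b i ∈ F₀ := fun i => (hmem _).2 (hb i)
    rw [hsplit, Matrix.mulVec_add, Matrix.mulVec_smul, hP _ hmemA, hP _ hmemB] at hu'
    have hco : ∀ (i : Fin 2) (x : Fin 4 → F), x = 0 → B x (f i) = 0 ∧ B x (e i) = 0 := fun i x h => by
      rw [h, hs.toSesq.zero_left, hs.toSesq.zero_left]; exact ⟨rfl, rfl⟩
    have e0 := hco 0 _ hu'
    have e1 := hco 1 _ hu'
    simp only [pnt, hs.add_left, hs.smul_left, hee, hff, hef, hfe, mul_zero, add_zero, zero_add] at e0 e1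
    simp [map_add, map_mul, ha, hb] at e0 e1
    obtain ⟨A0, C1⟩ := e0
    obtain ⟨A1, C0⟩ := e1
    have hsum : ∀ p r s t : F, σ p = p → σ r = r → σ s = s → σ t = t →
        p + lam * r + lam * (s + lam * t) = 0 → p + σ lam * r + lam * (s + σ lam * t) = 0 →
        p = 0 ∧ r = 0 ∧ s = 0 ∧ t = 0 := fun p r s t hp hr hs' ht h h' => by
      have hrt : r + lam * t = 0 := by
        refine (mul_eq_zero.1 (show (σ lam - lam) * (r + lam * t) = 0 by linear_combination h' - h)).resolve_left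
          (sub_ne_zero.2 hlam)
      obtain ⟨hr0, ht0⟩ := hindep r t hr ht hrt
      subst hr0 ht0
      obtain ⟨hp0, hs0⟩ := hindep p s hp hs' (by linear_combination h)
      exact ⟨hp0, rfl, hs0, rfl⟩
    obtain ⟨a0, a2, b0, b2⟩ := hsum (a 0) (a 2) (b 0) (b 2) (ha 0) (ha 2) (hb 0) (hb 2) (by linear_combination A0)
      (by linear_combination -C0)
    obtain ⟨a1, a3, b1, b3⟩ := hsum (a 1) (a 3) (b 1) (b 3) (ha 1) (ha 3) (hb 1) (hb 3) (by linear_combination A1)
      (by linear_combination C1)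
    funext i
    fin_cases i <;> simp [hab, a0, a1, a2, a3, b0, b1, b2, b3]
  have hu4 : ∀ u₀ u₁ : F, ∃ u : Fin 4 → F, (∀ i, u i ∈ F₀) ∧ Pm *ᵥ u = pnt u₀ u₁ := fun u₀ u₁ => by
    obtain ⟨a, b, ha, hb, rfl⟩ := hsp u₀
    obtain ⟨c, d, hc, hd, rfl⟩ := hsp u₁
    have hu : ∀ i, (![a, c, b, d] : Fin 4 → F) i ∈ F₀ := fun i => by fin_cases i <;> simp [hmem, ha, hb, hc, hd]
    exact ⟨_, hu, by rw [hP _ hu]; rfl⟩
  set P := hunit.unit
  refine ⟨F₀, P, ζ, hcard, hζ0, hζ, fun u v hu hv => ?_, fun u hu => ?_, fun g hg => ?_⟩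
  · show ζ * B (Pm *ᵥ u) (Pm *ᵥ v) ∈ F₀
    rw [hP u hu, hP v hv, hpnt, hmem]
    set d := (u 0 + lam * u 2) * (v 1 + lam * v 3) - (u 1 + lam * u 3) * (v 0 + lam * v 2)
    rw [map_mul, map_sub, hs.invol]
    have hζ' : σ ζ = -ζ := eq_neg_of_add_eq_zero_right hζ
    rw [hζ']; ring
  · show B (Pm *ᵥ u) (Pm *ᵥ u) = 0
    rw [hP u hu, hpnt]
    simp [mul_comm]
  obtain ⟨⟨π, hπ⟩, hgU, hgS⟩ := hg
  set gm := (g : Matrix (Fin 4) (Fin 4) F)
  have hiso : ∀ x y, B (gm *ᵥ x) (gm *ᵥ y) = B x y := MaxTv.mem_GU.1 hgU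
  have himg : ∀ i x, x ∈ D i → gm *ᵥ x ∈ D (π i) := fun i x hx => by
    rw [← hπ i]; exact ⟨x, hx, Matrix.toLin'_apply _ _⟩
  let E : Matrix (Fin 4) (Fin 4) F := Matrix.of fun a l => (![e 0, e 1, f 0, f 1] : Fin 4 → Fin 4 → F) l a
  have hE : ∀ u : Fin 4 → F, E *ᵥ u = u 0 • e 0 + u 1 • e 1 + (u 2 • f 0 + u 3 • f 1) := fun u => by
    funext a
    simp [E, Matrix.mulVec, dotProduct, Fin.sum_univ_four]
    ring
  have hEdet : E.det ≠ 0 := by
    intro h0
    obtain ⟨v, hv0, hv⟩ := Matrix.exists_mulVec_eq_zero_iff.2 h0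
    refine hv0 (funext fun i => ?_)
    rw [hE] at hv
    have h1 : ∀ y, B (v 0 • e 0 + v 1 • e 1 + (v 2 • f 0 + v 3 • f 1)) y = 0 := fun y => by
      rw [hv, hs.toSesq.zero_left]
    have a0 := h1 (f 0)
    have a1 := h1 (f 1)
    have a2 := h1 (e 0)
    have a3 := h1 (e 1)
    simp only [hs.add_left, hs.smul_left, hee, hff, hef, hfe] at a0 a1 a2 a3
    simp at a0 a1 a2 a3
    fin_cases i <;> assumption
  have hgdet : gm.det = 1 := by
    have h0 := congrArg Units.val (MonoidHom.mem_ker.1 hgS)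
    rwa [Matrix.GeneralLinearGroup.val_det_apply, Units.val_one] at h0
  -- the shape of the element
  have hdetN : ∀ {C : Matrix (Fin 4) (Fin 4) F}, gm * E = E * C → C.det = 1 := fun {C} hC => by
    have h1 := congrArg Matrix.det hC
    rw [Matrix.det_mul, Matrix.det_mul, hgdet, one_mul] at h1
    exact (mul_eq_left₀ hEdet).1 h1.symm
  have hfix : ∀ {δ : F}, δ ≠ 0 → δ / σ δ = 1 → ∀ {r : F}, (r = δ ∨ r = -δ) → ∃ s : F, s ≠ 0 ∧ s / σ s = r := by
    intro δ hδ0 hδ r hr
    have hσδ : σ δ = δ := ((div_eq_one_iff_eq ((map_ne_zero σ).2 hδ0)).1 hδ).symm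
    have hpow : δ ^ q = δ := hσδ
    have hδ1 : δ = 1 ∨ δ = -1 := by
      have hq2 := two_le_q hF
      rcases (by omega : q = 2 ∨ q = 3) with h | h <;> rw [h] at hpow
      · exact Or.inl (mul_left_cancel₀ hδ0 (by linear_combination hpow))
      · exact mul_self_eq_one_iff.1 (mul_left_cancel₀ hδ0 (by linear_combination hpow))
    have hneg : ζ / σ ζ = -1 := by rw [eq_neg_of_add_eq_zero_right hζ, div_neg, div_self hζ0]
    have h1' : (1 : F) / σ 1 = 1 := by rw [map_one, div_one]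
    rcases hr with rfl | rfl <;> rcases hδ1 with h | h <;> subst h
    · exact ⟨1, one_ne_zero, h1'⟩
    · exact ⟨ζ, hζ0, hneg⟩
    · exact ⟨ζ, hζ0, hneg⟩
    · exact ⟨1, one_ne_zero, by rw [h1', neg_neg]⟩
  have hsq : ∀ {δ : F}, δ ≠ 0 → δ / σ δ = 1 → δ * δ = 1 := by
    intro δ hδ0 hδ
    have hσδ : σ δ = δ := ((div_eq_one_iff_eq ((map_ne_zero σ).2 hδ0)).1 hδ).symm
    have hpow : δ ^ q = δ := hσδ
    have hq2 := two_le_q hF
    rcases (by omega : q = 2 ∨ q = 3) with h | h <;> rw [h] at hpow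
    · have h1 : δ = 1 := mul_left_cancel₀ hδ0 (by linear_combination hpow)
      rw [h1, mul_one]
    · exact mul_left_cancel₀ hδ0 (by linear_combination hpow)
  have key : ∃ s : F, s ≠ 0 ∧ ∀ u₀ u₁, ∃ w₀ w₁, gm *ᵥ pnt u₀ u₁ = s • pnt w₀ w₁ := by
    rcases Fin.exists_fin_two.1 ⟨π 0, rfl⟩ with h0 | h0
    · have h1 : π 1 = 1 := by
        rcases Fin.exists_fin_two.1 ⟨π 1, rfl⟩ with h | h
        · exact absurd (π.injective (h.trans h0.symm)) (by decide)
        · exact h
      choose A hA using fun j => hxe _ (h0 ▸ himg 0 _ (he j))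
      choose C hC using fun j => hxf _ (h1 ▸ himg 1 _ (hf j))
      simp only [Fin.sum_univ_two] at hA hC
      have hrel : ∀ i j, A i 0 * σ (C j 0) + A i 1 * σ (C j 1) = if i = j then 1 else 0 := fun i j => by
        rw [← hef i j, ← hiso, hA, hC]
        simp only [hs.add_left, hs.add_right, hs.smul_left, hs.smul_right, hef]
        simp
      obtain ⟨δ, hδ⟩ : ∃ δ : F, δ = A 0 0 * A 1 1 - A 0 1 * A 1 0 := ⟨_, rfl⟩
      have r00 := hrel 0 0
      have r01 := hrel 0 1
      have r10 := hrel 1 0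
      have r11 := hrel 1 1
      simp only [if_true, show (0 : Fin 2) ≠ 1 by decide, show (1 : Fin 2) ≠ 0 by decide, if_false] at r00 r01 r10 r11
      have hC00 : δ * σ (C 0 0) = A 1 1 := by rw [hδ]; linear_combination (A 1 1) * r00 - (A 0 1) * r10
      have hC01 : δ * σ (C 0 1) = -A 1 0 := by rw [hδ]; linear_combination (A 0 0) * r10 - (A 1 0) * r00
      have hC10 : δ * σ (C 1 0) = -A 0 1 := by rw [hδ]; linear_combination (A 1 1) * r01 - (A 0 1) * r11
      have hC11 : δ * σ (C 1 1) = A 0 0 := by rw [hδ]; linear_combination (A 0 0) * r11 - (A 1 0) * r01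
      have hδ0 : δ ≠ 0 := fun h => by
        rw [h, zero_mul] at hC00 hC01
        simp only [eq_comm (a := (0 : F)), neg_eq_zero] at hC00 hC01
        simp [hC00, hC01] at r11
      let N : Matrix (Fin 4) (Fin 4) F :=
        !![A 0 0, A 1 0, 0, 0; A 0 1, A 1 1, 0, 0; 0, 0, C 0 0, C 1 0; 0, 0, C 0 1, C 1 1]
      have hgE : gm * E = E * N := Matrix.ext_of_mulVec_single fun l => by
        rw [← Matrix.mulVec_mulVec, ← Matrix.mulVec_mulVec, hE, hE]
        fin_cases l <;> simp [N, Matrix.mulVec_single_one, hA, hC]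
      have hN := hdetN hgE
      have hσC : σ (C 0 0 * C 1 1 - C 0 1 * C 1 0) * δ = 1 := by
        refine mul_left_cancel₀ hδ0 ?_
        rw [map_sub, map_mul, map_mul]
        linear_combination (δ * σ (C 1 1)) * hC00 - (δ * σ (C 1 0)) * hC01 + (A 1 1) * hC11 + (A 1 0) * hC10 - hδ
      have hδσ : δ / σ δ = 1 := by
        have h2 := congrArg σ hσC
        rw [map_mul, hs.invol, map_one] at h2
        have hdet : δ * (C 0 0 * C 1 1 - C 0 1 * C 1 0) = 1 := by
          rw [← hN]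
          simp [N, Matrix.det_succ_row_zero, Fin.sum_univ_succ, Fin.succAbove, hδ]
          ring
        have hne : σ δ ≠ 0 := (map_ne_zero σ).2 hδ0
        field_simp
        linear_combination (-δ) * h2 + σ δ * hdet
      obtain ⟨s, hs0, hsr⟩ := hfix hδ0 hδσ (r := δ) (Or.inl rfl)
      have hsσ : s = δ * σ s := (div_eq_iff ((map_ne_zero σ).2 hs0)).1 hsr
      refine ⟨s, hs0, fun u₀ u₁ => ⟨(u₀ * A 0 0 + u₁ * A 1 0) / s, (u₀ * A 0 1 + u₁ * A 1 1) / s, ?_⟩⟩
      have hσs : σ s ≠ 0 := (map_ne_zero σ).2 hs0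
      have hσδ : σ δ = δ := ((div_eq_one_iff_eq ((map_ne_zero σ).2 hδ0)).1 hδσ).symm
      have hC' : ∀ i j, ∀ X, δ * σ (C i j) = X → δ * C i j = σ X := fun i j X h => by
        rw [← h, map_mul, hσδ, hs.invol]
      have k00 := hC' 0 0 _ hC00
      have k01 := hC' 0 1 _ hC01
      have k10 := hC' 1 0 _ hC10
      have k11 := hC' 1 1 _ hC11
      simp only [map_neg] at k01 k10
      have h2 := hsq hδ0 hδσ
      have e0 : σ u₁ * C 0 0 - σ u₀ * C 1 0 = s * σ ((u₀ * A 0 1 + u₁ * A 1 1) / s) := by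
        rw [map_div₀, map_add, map_mul, map_mul]
        field_simp
        linear_combination (-(σ s * (σ u₁ * C 0 0 - σ u₀ * C 1 0))) * h2 - (δ * σ s * σ u₀) * k10 +
          (δ * σ s * σ u₁) * k00 - (σ u₀ * σ (A 0 1) + σ u₁ * σ (A 1 1)) * hsσ
      have e1 : σ u₁ * C 0 1 - σ u₀ * C 1 1 = -(s * σ ((u₀ * A 0 0 + u₁ * A 1 0) / s)) := by
        rw [map_div₀, map_add, map_mul, map_mul]
        field_simp
        linear_combination (-(σ s * (σ u₁ * C 0 1 - σ u₀ * C 1 1))) * h2 + (δ * σ s * σ u₁) * k01 -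
          (δ * σ s * σ u₀) * k11 + (σ u₀ * σ (A 0 0) + σ u₁ * σ (A 1 0)) * hsσ
      simp only [pnt, Matrix.mulVec_add, Matrix.mulVec_smul, hA, hC]
      match_scalars
      · field_simp
      · field_simp
      · linear_combination e0
      · linear_combination e1
    · have h1 : π 1 = 0 := by
        rcases Fin.exists_fin_two.1 ⟨π 1, rfl⟩ with h | h
        · exact h
        · exact absurd (π.injective (h.trans h0.symm)) (by decide)
      choose A hA using fun j => hxf _ (h0 ▸ himg 0 _ (he j))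
      choose C hC using fun j => hxe _ (h1 ▸ himg 1 _ (hf j))
      simp only [Fin.sum_univ_two] at hA hC
      have hrel : ∀ i j, A i 0 * σ (C j 0) + A i 1 * σ (C j 1) = if i = j then 1 else 0 := fun i j => by
        rw [← hef i j, ← hiso, hA, hC]
        simp only [hs.add_left, hs.add_right, hs.smul_left, hs.smul_right, hfe]
        simp
      obtain ⟨δ, hδ⟩ : ∃ δ : F, δ = A 0 0 * A 1 1 - A 0 1 * A 1 0 := ⟨_, rfl⟩
      have r00 := hrel 0 0
      have r01 := hrel 0 1
      have r10 := hrel 1 0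
      have r11 := hrel 1 1
      simp only [if_true, show (0 : Fin 2) ≠ 1 by decide, show (1 : Fin 2) ≠ 0 by decide, if_false] at r00 r01 r10 r11
      have hC00 : δ * σ (C 0 0) = A 1 1 := by rw [hδ]; linear_combination (A 1 1) * r00 - (A 0 1) * r10
      have hC01 : δ * σ (C 0 1) = -A 1 0 := by rw [hδ]; linear_combination (A 0 0) * r10 - (A 1 0) * r00
      have hC10 : δ * σ (C 1 0) = -A 0 1 := by rw [hδ]; linear_combination (A 1 1) * r01 - (A 0 1) * r11
      have hC11 : δ * σ (C 1 1) = A 0 0 := by rw [hδ]; linear_combination (A 0 0) * r11 - (A 1 0) * r01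
      have hδ0 : δ ≠ 0 := fun h => by
        rw [h, zero_mul] at hC00 hC01
        simp only [eq_comm (a := (0 : F)), neg_eq_zero] at hC00 hC01
        simp [hC00, hC01] at r11
      let N : Matrix (Fin 4) (Fin 4) F :=
        !![0, 0, C 0 0, C 1 0; 0, 0, C 0 1, C 1 1; A 0 0, A 1 0, 0, 0; A 0 1, A 1 1, 0, 0]
      have hgE : gm * E = E * N := Matrix.ext_of_mulVec_single fun l => by
        rw [← Matrix.mulVec_mulVec, ← Matrix.mulVec_mulVec, hE, hE]
        fin_cases l <;> simp [N, Matrix.mulVec_single_one, hA, hC]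
      have hN := hdetN hgE
      have hσC : σ (C 0 0 * C 1 1 - C 0 1 * C 1 0) * δ = 1 := by
        refine mul_left_cancel₀ hδ0 ?_
        rw [map_sub, map_mul, map_mul]
        linear_combination (δ * σ (C 1 1)) * hC00 - (δ * σ (C 1 0)) * hC01 + (A 1 1) * hC11 + (A 1 0) * hC10 - hδ
      have hδσ : δ / σ δ = 1 := by
        have h2 := congrArg σ hσC
        rw [map_mul, hs.invol, map_one] at h2
        have hdet : δ * (C 0 0 * C 1 1 - C 0 1 * C 1 0) = 1 := by
          rw [← hN]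
          simp [N, Matrix.det_succ_row_zero, Fin.sum_univ_succ, Fin.succAbove, hδ]
          ring
        have hne : σ δ ≠ 0 := (map_ne_zero σ).2 hδ0
        field_simp
        linear_combination (-δ) * h2 + σ δ * hdet
      have hσδ : σ δ = δ := ((div_eq_one_iff_eq ((map_ne_zero σ).2 hδ0)).1 hδσ).symm
      obtain ⟨s, hs0, hsr⟩ := hfix hδ0 hδσ (r := -δ) (Or.inr rfl)
      have hsσ : s = -δ * σ s := (div_eq_iff ((map_ne_zero σ).2 hs0)).1 hsr
      have hsσ' : σ s = -δ * s := by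
        have := congrArg σ hsσ
        rwa [map_mul, map_neg, hσδ, hs.invol] at this
      have hσs : σ s ≠ 0 := (map_ne_zero σ).2 hs0
      have hC' : ∀ i j, ∀ X, δ * σ (C i j) = X → δ * C i j = σ X := fun i j X h => by
        rw [← h, map_mul, hσδ, hs.invol]
      have k00 := hC' 0 0 _ hC00
      have k01 := hC' 0 1 _ hC01
      have k10 := hC' 1 0 _ hC10
      have k11 := hC' 1 1 _ hC11
      simp only [map_neg] at k01 k10
      refine ⟨s, hs0, fun u₀ u₁ => ⟨(σ u₁ * C 0 0 - σ u₀ * C 1 0) / s, (σ u₁ * C 0 1 - σ u₀ * C 1 1) / s, ?_⟩⟩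
      have j00 : δ * σ (C 0 0) = A 1 1 := hC00
      have h2 := hsq hδ0 hδσ
      have e0 : u₀ * A 0 0 + u₁ * A 1 0 = s * σ ((σ u₁ * C 0 1 - σ u₀ * C 1 1) / s) := by
        have h : δ * (u₀ * A 0 0 + u₁ * A 1 0) + (u₁ * σ (C 0 1) - u₀ * σ (C 1 1)) = 0 := by
          linear_combination (-(u₁ * σ (C 0 1) - u₀ * σ (C 1 1))) * h2 + (δ * u₁) * hC01 - (δ * u₀) * hC11
        rw [map_div₀, map_sub, map_mul, map_mul, hs.invol, hs.invol, hsσ']
        field_simp
        linear_combination h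
      have e1 : u₀ * A 0 1 + u₁ * A 1 1 = -(s * σ ((σ u₁ * C 0 0 - σ u₀ * C 1 0) / s)) := by
        have h : δ * (u₀ * A 0 1 + u₁ * A 1 1) - (u₁ * σ (C 0 0) - u₀ * σ (C 1 0)) = 0 := by
          linear_combination (u₁ * σ (C 0 0) - u₀ * σ (C 1 0)) * h2 + (δ * u₀) * hC10 - (δ * u₁) * hC00
        rw [map_div₀, map_sub, map_mul, map_mul, hs.invol, hs.invol, hsσ']
        field_simp
        linear_combination h
      simp only [pnt, Matrix.mulVec_add, Matrix.mulVec_smul, hA, hC]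
      match_scalars
      · linear_combination e0
      · linear_combination e1
      · field_simp; ring
      · field_simp; ring
  obtain ⟨s, hs0, hgs⟩ := key
  have hcol : ∀ l, ∃ w : Fin 4 → F, (∀ i, w i ∈ F₀) ∧ gm *ᵥ (Pm *ᵥ Pi.single l 1) = s • (Pm *ᵥ w) := fun l => by
    have h1 : ∀ i, (Pi.single l 1 : Fin 4 → F) i ∈ F₀ := fun i => by
      by_cases h : i = l
      · subst h; rw [Pi.single_eq_same]; exact one_mem F₀
      · rw [Pi.single_eq_of_ne h]; exact zero_mem F₀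
    rw [hP _ h1]
    obtain ⟨w₀, w₁, hw⟩ := hgs ((Pi.single l 1 : Fin 4 → F) 0 + lam * (Pi.single l 1 : Fin 4 → F) 2)
      ((Pi.single l 1 : Fin 4 → F) 1 + lam * (Pi.single l 1 : Fin 4 → F) 3)
    obtain ⟨w, hwm, hwP⟩ := hu4 w₀ w₁
    exact ⟨w, hwm, by rw [hw, hwP]⟩
  choose W hW hgW using hcol
  let N : Matrix (Fin 4) (Fin 4) F := Matrix.of fun i j => W j i
  have hgPN : gm * Pm = s • (Pm * N) := by
    refine Matrix.ext_of_mulVec_single fun j => ?_
    rw [← Matrix.mulVec_mulVec, hgW, Matrix.smul_mulVec, ← Matrix.mulVec_mulVec,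
      show N *ᵥ Pi.single j 1 = W j by rw [Matrix.mulVec_single_one]; rfl]
  have hNu : IsUnit N := by
    rw [Matrix.isUnit_iff_isUnit_det, isUnit_iff_ne_zero]
    intro h0
    have h1 := congrArg Matrix.det hgPN
    rw [Matrix.det_mul, Matrix.det_smul, Matrix.det_mul, h0, mul_zero, mul_zero, hgdet, one_mul] at h1
    exact ((Matrix.isUnit_iff_isUnit_det _).1 hunit).ne_zero h1
  refine mem_subfieldSubgroup_of (k := hNu.unit) (d := Units.mk0 s hs0) (fun i j => hW j i) (Units.ext ?_)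
  rw [Units.val_mul, Units.val_mul, Units.val_mul, mul_assoc, show (P : Matrix (Fin 4) (Fin 4) F) = Pm from rfl,
    hgPN, Matrix.mul_smul, ← mul_assoc, show Pm = (P : Matrix (Fin 4) (Fin 4) F) from rfl, P.inv_mul, one_mul,
    IsUnit.unit_spec, Matrix.GeneralLinearGroup.coe_scalar, Matrix.scalar_apply, ← Matrix.smul_one_eq_diagonal,
    Matrix.smul_mul, one_mul, Units.val_mk0]

end Cfsg.Agent.Classical.Asch
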