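import Cfsg.Agent.Lib.Classical.AschUnitProper
import Cfsg.Agent.Lib.Classical.AschSLn

/-!
The maximal subgroups of the special unitary groups: members of the geometric classes or residual.
-/

set_option autoImplicit false
set_option linter.unusedSectionVars false
set_option linter.unusedFintypeInType false
set_option linter.unusedDecidableInType false

namespace Cfsg.Agent.Classical.Asch

open Matrix Module Cfsg.Geo
open MaxTv (gl_mulVec_injective qEquiv herm_hermForm herm_of_isUnitaryForm Herm finrank_le_inf_ker_add_one)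
open scoped Kronecker

variable {F : Type*} [Field F] [Fintype F] {n q : ℕ}

/-- A maximal subgroup of the special unitary group inside a proper overgroup is the intersection. -/
theorem su_eq_inter {H M : Subgroup (GL (Fin n) F)}
    (hH : IsMaximalIn (GU n F q ⊓ specialLinear (Fin n) F) H) (hle : H ≤ M)
    (hns : ¬ GU n F q ⊓ specialLinear (Fin n) F ≤ M) : H = M ⊓ (GU n F q ⊓ specialLinear (Fin n) F) :=
  ((hH.2 (M ⊓ (GU n F q ⊓ specialLinear (Fin n) F)) (le_inf hle hH.1.le) inf_le_right).resolve_right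
    fun h => hns (h.ge.trans inf_le_left)).symm

theorem subfield_two_ne_top {F₀ : Subfield F} (hc : Fintype.card F = Nat.card F₀ ^ 2) : F₀ ≠ ⊤ :=
  subfield_ne_top Nat.prime_two hc

/-- The shapes of maximal subgroups of the special unitary group, before numerical conditions. -/
structure UnitShape (q : ℕ) (H : Subgroup (GL (Fin n) F)) : Prop where
  shape :
    (∃ W : Submodule F (Fin n → F), W ≠ ⊥ ∧ IsTotallySingularFor (hermForm n F q) W ∧
      H = subspaceStabilizer W ⊓ (GU n F q ⊓ specialLinear (Fin n) F)) ∨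
    (∃ W : Submodule F (Fin n → F), W ≠ ⊥ ∧ IsNondegenerateOn (hermForm n F q) W ∧ 2 * finrank F W < n ∧
      H = subspaceStabilizer W ⊓ (GU n F q ⊓ specialLinear (Fin n) F)) ∨
    (∃ (t k : ℕ) (D : Fin t → Submodule F (Fin n → F)), IsNondegenerateMDecomposition (hermForm n F q) k D ∧
      2 ≤ t ∧ 1 ≤ k ∧ t * k = n ∧ H = decompositionStabilizer D ⊓ (GU n F q ⊓ specialLinear (Fin n) F)) ∨
    (∃ (k : ℕ) (D : Fin 2 → Submodule F (Fin n → F)), 2 * k = n ∧ IsMDecomposition k D ∧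
      (∀ i, IsTotallySingularFor (hermForm n F q) (D i)) ∧
      H = decompositionStabilizer D ⊓ (GU n F q ⊓ specialLinear (Fin n) F)) ∨
    (∃ (F₀ : Subfield F) (r : ℕ) (P : GL (Fin n) F), r.Prime ∧ Odd r ∧ Fintype.card F = Nat.card F₀ ^ r ∧
      IsFormRationalStructure (hermForm n F q) F₀ 1 P ∧
      H = subfieldSubgroup F₀ P ⊓ (GU n F q ⊓ specialLinear (Fin n) F)) ∨
    (Odd q ∧ ∃ (F₀ : Subfield F) (P : GL (Fin n) F), Fintype.card F = Nat.card F₀ ^ 2 ∧
      IsFormRationalStructure (hermForm n F q) F₀ 1 P ∧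
      H = subfieldSubgroup F₀ P ⊓ (GU n F q ⊓ specialLinear (Fin n) F)) ∨
    (Even n ∧ ∃ (F₀ : Subfield F) (P : GL (Fin n) F) (ζ : F), Fintype.card F = Nat.card F₀ ^ 2 ∧ ζ ≠ 0 ∧
      ζ + ζ ^ q = 0 ∧ IsFormRationalStructure (hermForm n F q) F₀ ζ P ∧
      (∀ u : Fin n → F, (∀ i, u i ∈ F₀) → (hermForm n F q) (Matrix.mulVec (P : Matrix (Fin n) (Fin n) F) u)
        (Matrix.mulVec (P : Matrix (Fin n) (Fin n) F) u) = 0) ∧
      H = subfieldSubgroup F₀ P ⊓ (GU n F q ⊓ specialLinear (Fin n) F)) ∨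
    (∃ (r : ℕ) (R : Subgroup (GL (Fin n) F)) (p e k : ℕ), IsSymplecticTypeGroup r R ∧
      ActsAbsolutelyIrreducibly (matrixSet R) ∧ R ≤ similarityGroup (hermForm n F q) ∧ r ≠ p ∧
      IsMinimalFieldFor (Nat.card (Subgroup.center R)) p e F ∧
      ((Odd r ∧ Nat.card (Subgroup.center R) = r ∧ 1 ≤ k ∧ Nat.card R = r ^ (1 + 2 * k)) ∨
       (r = 2 ∧ e = 2 ∧ Nat.card (Subgroup.center R) = 4 ∧ Nat.card R = 2 ^ (2 + 2 * k))) ∧
      n = r ^ k ∧ H = subgroupNormalizer R ⊓ (GU n F q ⊓ specialLinear (Fin n) F)) ∨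
    (∃ (r : ℕ) (K : Subalgebra F (Matrix (Fin n) (Fin n) F)), r.Prime ∧ Odd r ∧ r ∣ n ∧ IsFieldSubalgebra r K ∧
      IsAdjointClosedFor (hermForm n F q) K ∧
      H = subalgebraNormalizer K ⊓ (GU n F q ⊓ specialLinear (Fin n) F)) ∨
    (∃ (a b : ℕ) (e : Fin n ≃ Fin a × Fin b) (P : GL (Fin n) F)
      (f₁ : (Fin a → F) → (Fin a → F) → F) (f₂ : (Fin b → F) → (Fin b → F) → F),
      2 ≤ a ∧ a < b ∧ a * b = n ∧ IsUnitaryFormPow q f₁ ∧ IsUnitaryFormPow q f₂ ∧
      IsTensorFormStructure (fun x : F => x ^ q) (hermForm n F q) f₁ f₂ e P ∧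
      H = tensorProductSubgroup a b e P ⊓ (GU n F q ⊓ specialLinear (Fin n) F)) ∨
    (∃ (k t : ℕ) (e : Fin n ≃ (Fin t → Fin k)) (P : GL (Fin n) F) (f₁ : (Fin k → F) → (Fin k → F) → F),
      3 ≤ k ∧ 2 ≤ t ∧ k ^ t = n ∧ ¬ (q = 2 ∧ k = 3) ∧ IsUnitaryFormPow q f₁ ∧
      IsTensorPowerFormStructure (fun x : F => x ^ q) (hermForm n F q) f₁ e P ∧
      H = tensorWreathSubgroup k t e P ⊓ (GU n F q ⊓ specialLinear (Fin n) F)) ∨
    InUnitaryResidualClass H

theorem unitShape (hn : 5 ≤ n) (hF : Fintype.card F = q ^ 2) {H : Subgroup (GL (Fin n) F)}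
    (hH : IsMaximalIn (GU n F q ⊓ specialLinear (Fin n) F) H) : UnitShape q H := by
  haveI : Nonempty (Fin n) := ⟨⟨0, by omega⟩⟩
  have hs := herm_hermForm (n := n) hF
  refine ⟨?_⟩
  rcases aschbacher_unit_dim (by omega) hF (hH.1.le.trans inf_le_left) with ⟨M, hM, hle⟩ | h
  swap
  · exact Or.inr (Or.inr (Or.inr (Or.inr (Or.inr (Or.inr (Or.inr (Or.inr (Or.inr (Or.inr (Or.inr h))))))))))
  rcases hM with (⟨W, h1, h2, rfl⟩ | ⟨W, h1, h2, h3, rfl⟩ | ⟨t, k, D, hD, rfl⟩ | ⟨k, D, hk, hD, hts, rfl⟩ |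
    ⟨F₀, r, P, hr, hro, hc, hrat, rfl⟩ | ⟨F₀, P, hq, hc, hrat, rfl⟩ |
    ⟨F₀, P, ζ, hev, hc, hζ, hz, hrat, halt, rfl⟩ |
    ⟨r, R, p, e, k, hR, hai, hsim, hrp, hmin, hcases, hscal, hdim, rfl⟩) |
    ⟨r, K, hr, hro, hK, hac, rfl⟩ | ⟨a, b, e, P, f₁, f₂, ha, hab, hf₁, hf₂, hst, rfl⟩ |
    ⟨k, t, e, P, f₁, hk, ht, hex, hf₁, hst, rfl⟩
  · have hWtop : W ≠ ⊤ := by
      intro h
      subst h
      obtain ⟨v, hv0, -, hv⟩ := exists_iso_not_perp hF (show 3 ≤ n by omega)
        (u := (Pi.single ⟨0, by omega⟩ 1 : Fin n → F)) (by simp)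
      exact hv (h2 _ trivial v trivial)
    exact Or.inl ⟨W, h1, h2, su_eq_inter hH (hle.trans inf_le_left) (not_su_le_subspace hF (by omega) h1 hWtop)⟩
  · have hWtop : W ≠ ⊤ := by
      intro h
      subst h
      rw [finrank_top, Module.finrank_fin_fun] at h3
      omega
    exact Or.inr (Or.inl ⟨W, h1, h2, h3,
      su_eq_inter hH (hle.trans inf_le_left) (not_su_le_subspace hF (by omega) h1 hWtop)⟩)
  · have hc : t * k = n := by simpa using MaxMon.decomp_card hD.decomp
    exact Or.inr (Or.inr (Or.inl ⟨t, k, D, hD, hD.decomp.two_le, hD.decomp.pos, hc,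
      su_eq_inter hH (hle.trans inf_le_left) (not_su_le_decomp hF hn hD.decomp)⟩))
  · exact Or.inr (Or.inr (Or.inr (Or.inl ⟨k, D, hk, hD, hts,
      su_eq_inter hH (hle.trans inf_le_left) (not_su_le_decomp hF hn hD)⟩)))
  · exact Or.inr (Or.inr (Or.inr (Or.inr (Or.inl ⟨F₀, r, P, hr, hro, hc, hrat,
      su_eq_inter hH (hle.trans inf_le_left) (not_su_le_subfield hF (by omega) (subfield_ne_top hr hc) P)⟩))))
  · exact Or.inr (Or.inr (Or.inr (Or.inr (Or.inr (Or.inl ⟨hq, F₀, P, hc, hrat,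
      su_eq_inter hH (hle.trans inf_le_left) (not_su_le_subfield hF (by omega) (subfield_two_ne_top hc) P)⟩)))))
  · exact Or.inr (Or.inr (Or.inr (Or.inr (Or.inr (Or.inr (Or.inl ⟨hev, F₀, P, ζ, hc, hζ, hz, hrat, halt,
      su_eq_inter hH (hle.trans inf_le_left) (not_su_le_subfield hF (by omega) (subfield_two_ne_top hc) P)⟩))))))
  · exact Or.inr (Or.inr (Or.inr (Or.inr (Or.inr (Or.inr (Or.inr (Or.inl ⟨r, R, p, e, k, hR, hai, hsim, hrp, hmin,
      hcases, hdim, su_eq_inter hH (hle.trans inf_le_left) (not_su_le_normalizer hF hn hR hai hscal)⟩)))))))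
  · have hdvd : r ∣ n := by simpa using field_degree_dvd hK
    exact Or.inr (Or.inr (Or.inr (Or.inr (Or.inr (Or.inr (Or.inr (Or.inr (Or.inl ⟨r, K, hr, hro, hdvd, hK, hac,
      su_eq_inter hH (hle.trans inf_le_left) (not_su_le_field hF (by omega) hr.two_le hK)⟩))))))))
  · have hc : a * b = n := by
      have := Fintype.card_congr e
      simpa using this.symm
    exact Or.inr (Or.inr (Or.inr (Or.inr (Or.inr (Or.inr (Or.inr (Or.inr (Or.inr (Or.inl ⟨a, b, e, P, f₁, f₂, ha,
      hab, hc, hf₁, hf₂, hst,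
      su_eq_inter hH (hle.trans inf_le_left) (not_su_le_tensor hF (by omega) ha (by omega) e P)⟩)))))))))
  · have hc : k ^ t = n := by
      have := Fintype.card_congr e
      simpa using this.symm
    exact Or.inr (Or.inr (Or.inr (Or.inr (Or.inr (Or.inr (Or.inr (Or.inr (Or.inr (Or.inr (Or.inl ⟨k, t, e, P, f₁,
      hk, ht, hc, hex, hf₁, hst,
      su_eq_inter hH (hle.trans inf_le_left) (not_su_le_wreath hF (by omega) hk ht e P)⟩))))))))))

/-- A hermitian plane has an orthonormal pair. -/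
theorem exists_orth_pair {ι : Type} [Fintype ι] [DecidableEq ι] {σ : F ≃+* F} {f : (ι → F) → (ι → F) → F}
    (hs : Herm σ f) {T : Submodule F (ι → F)} (hnd : ∀ w ∈ T, w ≠ 0 → ∃ x ∈ T, f x w ≠ 0) (h2 : finrank F T = 2) :
    ∃ u u' : ι → F, u ∈ T ∧ u' ∈ T ∧ f u u = 1 ∧ f u' u' = 1 ∧ f u u' = 0 ∧ f u' u = 0 ∧
      ∀ x ∈ T, x = f x u • u + f x u' • u' := by
  obtain ⟨u, hu, huu⟩ := hs.exists_norm_in hnd (fun e => by rw [e, finrank_bot] at h2; omega) (map_one σ)
  have hnd' := hs.nd_inf_ker hnd hu (by rw [huu]; exact one_ne_zero)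
  have hne : T ⊓ LinearMap.ker (hs.toSesq.lin u) ≠ ⊥ := fun e => by
    have := finrank_le_inf_ker_add_one T (hs.toSesq.lin u)
    rw [e, finrank_bot] at this
    omega
  obtain ⟨u', ⟨hu', hu'u⟩, hu'u'⟩ := hs.exists_norm_in hnd' hne (map_one σ)
  have h21 : f u' u = 0 := LinearMap.mem_ker.1 hu'u
  have h12 : f u u' = 0 := hs.refl _ _ h21
  have hexp : ∀ x ∈ T, x = f x u • u + f x u' • u' := by
    intro x hx
    let B : Submodule F (ι → F) := Submodule.span F {u, u'}
    have hB : B ≤ T := Submodule.span_le.2 (by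
      rintro y (rfl | rfl)
      · exact hu
      · exact hu')
    have hli : LinearIndependent F ![u, u'] := by
      rw [LinearIndependent.pair_iff]
      intro s t hst
      have e1 := congrArg (fun y => f y u) hst
      have e2 := congrArg (fun y => f y u') hst
      simp only [hs.add_left, hs.smul_left, huu, hu'u', h12, h21, hs.toSesq.zero_left, mul_one, mul_zero, add_zero,
        zero_add] at e1 e2
      exact ⟨e1, e2⟩
    have hBT : B = T := Submodule.eq_of_le_of_finrank_eq hB (by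
      have := finrank_span_eq_card hli
      rw [Matrix.range_cons, Matrix.range_cons, Matrix.range_empty, Set.union_empty, Set.singleton_union] at this
      rw [this, h2]; rfl)
    rw [← hBT] at hx
    obtain ⟨s, t, rfl⟩ := Submodule.mem_span_pair.1 hx
    simp only [hs.add_left, hs.smul_left, huu, hu'u', h12, h21, mul_one, mul_zero, add_zero, zero_add]
  exact ⟨u, u', hu, hu', huu, hu'u', h12, h21, hexp⟩

/-- Over four elements every norm is zero or one. -/
theorem norm_two [DecidableEq F] (hF : Fintype.card F = 2 ^ 2) (x : F) : x * qEquiv hF x = if x = 0 then 0 else 1 := by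
  by_cases hx : x = 0
  · simp [hx]
  · rw [if_neg hx, MaxTv.qEquiv_apply, ← pow_succ']
    have := FiniteField.pow_card_sub_one_eq_one x hx
    rwa [hF] at this

theorem two_eq_zero_four (hF : Fintype.card F = 2 ^ 2) : (2 : F) = 0 := by
  by_contra h2
  have := odd_card_of_two_ne h2
  rw [hF] at this
  exact absurd this (by decide)

/-- Over four elements a stabiliser of planes preserves a frame of lines. -/
theorem planes_lines (hF : Fintype.card F = 2 ^ 2) {t : ℕ} {D : Fin t → Submodule F (Fin n → F)}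
    (hD : IsNondegenerateMDecomposition (hermForm n F 2) 2 D) :
    ∃ D' : Fin (t * 2) → Submodule F (Fin n → F), IsNondegenerateMDecomposition (hermForm n F 2) 1 D' ∧
      decompositionStabilizer D ⊓ GU n F 2 ≤ decompositionStabilizer D' := by
  classical
  have hs := herm_hermForm (n := n) hF
  choose u u' hu hu' huu hu'u' h12 h21 hexp using fun i => exists_orth_pair hs (T := D i)
    (fun w hw hw0 => (hD.nondegenerate i w hw hw0).1) (hD.decomp.finrank_eq i)
  let v : Fin t × Fin 2 → (Fin n → F) := fun p => if p.2 = 0 then u p.1 else u' p.1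
  have hv : ∀ p, v p ∈ D p.1 := fun p => by
    by_cases h : p.2 = 0 <;> simp [v, h, hu, hu']
  have hvv : ∀ p p', hermForm n F 2 (v p) (v p') = if p = p' then 1 else 0 := by
    rintro ⟨i, a⟩ ⟨j, b⟩
    by_cases hij : i = j
    · subst hij
      fin_cases a <;> fin_cases b <;> simp [v, huu, hu'u', h12, h21]
    · rw [if_neg (fun h => hij (congrArg Prod.fst h))]
      exact hD.orthogonal i j hij _ (hv (i, a)) _ (hv (j, b))
  have hv0 : ∀ p, v p ≠ 0 := fun p h => one_ne_zero (α := F) (by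
    have := hvv p p
    rwa [h, hs.toSesq.zero_left, if_pos rfl, eq_comm] at this)
  let E : Fin t × Fin 2 ≃ Fin (t * 2) := finProdFinEquiv
  let D' : Fin (t * 2) → Submodule F (Fin n → F) := fun s => F ∙ v (E.symm s)
  have horth : ∀ i j, i ≠ j → AreOrthogonalFor (hermForm n F 2) (D' i) (D' j) := by
    intro i j hij x hx y hy
    obtain ⟨a, rfl⟩ := Submodule.mem_span_singleton.1 hx
    obtain ⟨b, rfl⟩ := Submodule.mem_span_singleton.1 hy
    rw [hs.smul_left, hs.smul_right, hvv, if_neg (fun h => hij (E.symm.injective h)), mul_zero, mul_zero]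
  refine ⟨D', ⟨⟨by have := hD.decomp.two_le; omega, one_pos, fun i => finrank_span_singleton (hv0 _), ?_, ?_⟩, ?_,
    horth⟩, ?_⟩
  · intro i
    rw [Submodule.disjoint_def]
    intro x hx hmem
    obtain ⟨a, rfl⟩ := Submodule.mem_span_singleton.1 hx
    have hle : (⨆ (j) (_ : j ≠ i), D' j) ≤ LinearMap.ker (hs.toSesq.lin (v (E.symm i))) :=
      iSup₂_le fun j hji y hy => LinearMap.mem_ker.2 (horth j i hji y hy _ (Submodule.mem_span_singleton_self _))
    have h1 : hermForm n F 2 (a • v (E.symm i)) (v (E.symm i)) = 0 := LinearMap.mem_ker.1 (hle hmem)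
    rw [hs.smul_left, hvv, if_pos rfl, mul_one] at h1
    rw [h1, zero_smul]
  · rw [eq_top_iff, ← hD.decomp.iSup_eq_top, iSup_le_iff]
    intro i x hx
    rw [hexp i x hx]
    refine Submodule.add_mem _ ?_ ?_
    · refine Submodule.smul_mem _ _ (Submodule.mem_iSup_of_mem (E (i, 0)) ?_)
      simp [D', v]
    · refine Submodule.smul_mem _ _ (Submodule.mem_iSup_of_mem (E (i, 1)) ?_)
      simp [D', v]
  · intro i w hw hw0
    obtain ⟨a, rfl⟩ := Submodule.mem_span_singleton.1 hw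
    have ha : a ≠ 0 := fun h => hw0 (by rw [h, zero_smul])
    refine ⟨⟨v (E.symm i), Submodule.mem_span_singleton_self _, ?_⟩, ⟨v (E.symm i), Submodule.mem_span_singleton_self _, ?_⟩⟩
    · rw [hs.smul_right, hvv, if_pos rfl, mul_one]; simpa using ha
    · rw [hs.smul_left, hvv, if_pos rfl, mul_one]; exact ha
  intro g hg
  obtain ⟨σ, hσ⟩ := hg.1
  have hmem : ∀ p, ∃ p', ∃ c : F, c ≠ 0 ∧ (g : Matrix (Fin n) (Fin n) F) *ᵥ v p = c • v p' := by
    intro p
    have h1 : (g : Matrix (Fin n) (Fin n) F) *ᵥ v p ∈ D (σ p.1) := by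
      rw [← hσ p.1]; exact ⟨v p, hv p, Matrix.toLin'_apply _ _⟩
    set x := (g : Matrix (Fin n) (Fin n) F) *ᵥ v p with hx
    have hxx : hermForm n F 2 x x = 1 := by
      rw [hx, show ∀ a b, hermForm n F 2 ((g : Matrix (Fin n) (Fin n) F) *ᵥ a)
        ((g : Matrix (Fin n) (Fin n) F) *ᵥ b) = hermForm n F 2 a b from hg.2, hvv, if_pos rfl]
    have hx' := hexp _ x h1
    set a := hermForm n F 2 x (u (σ p.1))
    set b := hermForm n F 2 x (u' (σ p.1))
    rw [hx', hs.add_left, hs.add_right, hs.add_right, hs.smul_left, hs.smul_left, hs.smul_right, hs.smul_right,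
      hs.smul_left, hs.smul_left, hs.smul_right, hs.smul_right, huu, hu'u', h12, h21, mul_one, mul_one, mul_zero,
      mul_zero, mul_zero, mul_zero, add_zero, zero_add, norm_two hF, norm_two hF] at hxx
    by_cases ha : a = 0
    · by_cases hb : b = 0
      · rw [if_pos ha, if_pos hb, add_zero] at hxx
        exact absurd hxx zero_ne_one
      · exact ⟨(σ p.1, 1), b, hb, by rw [hx', ha, zero_smul, zero_add]; simp [v]⟩
    · by_cases hb : b = 0
      · exact ⟨(σ p.1, 0), a, ha, by rw [hx', hb, zero_smul, add_zero]; simp [v]⟩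
      · rw [if_neg ha, if_neg hb] at hxx
        exact absurd (show (1 : F) = 0 by linear_combination two_eq_zero_four hF - hxx) one_ne_zero
  choose π c hc hgv using hmem
  have hπ : Function.Injective π := by
    intro p p' h
    by_contra hne
    have h1 : (g : Matrix (Fin n) (Fin n) F) *ᵥ v p = (g : Matrix (Fin n) (Fin n) F) *ᵥ ((c p / c p') • v p') := by
      rw [Matrix.mulVec_smul, hgv, hgv, h, smul_smul, div_mul_cancel₀ _ (hc p')]
    have h2 := congrArg (fun y => hermForm n F 2 y (v p)) (gl_mulVec_injective g h1)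
    simp only [hs.smul_left, hvv, if_pos rfl, if_neg (Ne.symm hne), mul_zero] at h2
    exact one_ne_zero h2
  refine ⟨(E.symm.trans (Equiv.ofBijective π (Finite.injective_iff_bijective.1 hπ))).trans E, fun i => ?_⟩
  show (F ∙ v (E.symm i)).map _ = F ∙ v (E.symm (E (π (E.symm i))))
  rw [E.symm_apply_apply, Submodule.map_span, Set.image_singleton, Matrix.toLin'_apply, hgv]
  exact Submodule.span_singleton_smul_eq (IsUnit.mk0 _ (hc _)) _

set_option maxHeartbeats 1000000 in
/-- Over four elements a tensor product with a plane preserves two orthogonal halves. -/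
theorem tensor_halves (hF : Fintype.card F = 2 ^ 2) {b : ℕ} (hb : 0 < b) {e : Fin n ≃ Fin 2 × Fin b}
    {P : GL (Fin n) F} {f₁ : (Fin 2 → F) → (Fin 2 → F) → F} {f₂ : (Fin b → F) → (Fin b → F) → F}
    (hf₁ : IsUnitaryFormPow 2 f₁) (hf₂ : IsUnitaryFormPow 2 f₂)
    (hst : IsTensorFormStructure (fun x : F => x ^ 2) (hermForm n F 2) f₁ f₂ e P) :
    ∃ D : Fin 2 → Submodule F (Fin n → F), IsNondegenerateMDecomposition (hermForm n F 2) b D ∧
      tensorProductSubgroup 2 b e P ⊓ GU n F 2 ≤ decompositionStabilizer D := by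
  classical
  have hne : qEquiv hF ≠ RingEquiv.refl F := (herm_hermForm (n := n) hF).ne_refl
  have hinv : ∀ a, qEquiv hF (qEquiv hF a) = a := (herm_hermForm (n := n) hF).invol
  have hu₁ : IsUnitaryForm (qEquiv hF) f₁ := ⟨hne, hinv, hf₁.add_left, hf₁.smul_left, hf₁.herm, hf₁.nondegenerate⟩
  have hu₂ : IsUnitaryForm (qEquiv hF) f₂ := ⟨hne, hinv, hf₂.add_left, hf₂.smul_left, hf₂.herm, hf₂.nondegenerate⟩
  have hs₁ := herm_of_isUnitaryForm hu₁
  have hs₂ := herm_of_isUnitaryForm hu₂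
  have hg₁ : ∀ y y', f₁ y y' = formOfGram (fun x : F => x ^ 2) (gramMatrix f₁) y y' :=
    fun y y' => (sesq_of_unitary hu₁).eq_gram y y'
  have hg₂ : ∀ y y', f₂ y y' = formOfGram (fun x : F => x ^ 2) (gramMatrix f₂) y y' :=
    fun y y' => (sesq_of_unitary hu₂).eq_gram y y'
  obtain ⟨u, u', -, -, huu, hu'u', h12, h21, hexp⟩ := exists_orth_pair hs₁ (T := ⊤)
    (fun w _ hw0 => by
      obtain ⟨⟨x, hx⟩, -⟩ := hf₁.nondegenerate w hw0
      exact ⟨x, trivial, hx⟩) (by rw [finrank_top, Module.finrank_fin_fun])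
  let w : Fin 2 → Fin 2 → F := ![u, u']
  have hw : ∀ l l', f₁ (w l) (w l') = if l = l' then 1 else 0 := fun l l' => by
    fin_cases l <;> fin_cases l' <;> simp [w, huu, hu'u', h12, h21]
  obtain ⟨c, hc, hcf⟩ := hst
  let T : (Fin 2 → F) → (Fin b → F) → (Fin n → F) := fun y z =>
    (P : Matrix (Fin n) (Fin n) F) *ᵥ ((fun p : Fin 2 × Fin b => y p.1 * z p.2) ∘ e)
  have hT : ∀ y z y' z', hermForm n F 2 (T y z) (T y' z') = c * (f₁ y y' * f₂ z z') := fun y z y' z' => by
    simp only [T]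
    rw [hcf, hg₁, hg₂]
    congr 1
    simp only [formOfGram, Matrix.kroneckerMap_apply, Fintype.sum_prod_type]
    rw [Finset.sum_mul]
    refine Finset.sum_congr rfl fun i _ => ?_
    rw [Finset.sum_mul, Finset.sum_comm]
    refine Finset.sum_congr rfl fun j _ => ?_
    rw [Finset.mul_sum]
    refine Finset.sum_congr rfl fun k _ => ?_
    rw [Finset.mul_sum]
    refine Finset.sum_congr rfl fun l _ => ?_
    rw [mul_pow]
    ring
  let L : Fin 2 → (Fin b → F) →ₗ[F] (Fin n → F) := fun l =>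
    { toFun := fun z => T (w l) z
      map_add' := fun z z' => by
        simp only [T]; rw [← Matrix.mulVec_add]; congr 1; funext i; simp [mul_add]
      map_smul' := fun s z => by
        simp only [T]; rw [RingHom.id_apply, ← Matrix.mulVec_smul]; congr 1; funext i; simp [mul_left_comm] }
  have hL : ∀ l z, L l z = T (w l) z := fun _ _ => rfl
  let D : Fin 2 → Submodule F (Fin n → F) := fun l => LinearMap.range (L l)
  have hform : ∀ l l' z z', hermForm n F 2 (L l z) (L l' z') = c * ((if l = l' then 1 else 0) * f₂ z z') :=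
    fun l l' z z' => by rw [hL, hL, hT, hw]
  have hnd : ∀ l z, (∀ z', hermForm n F 2 (L l z) (L l z') = 0) → z = 0 := by
    intro l z hz
    by_contra hne
    obtain ⟨z', hz'⟩ := (hf₂.nondegenerate z hne).2
    have := hz z'
    rw [hform, if_pos rfl, one_mul] at this
    exact hz' ((mul_eq_zero.1 this).resolve_left hc)
  have horth : ∀ i j, i ≠ j → AreOrthogonalFor (hermForm n F 2) (D i) (D j) := by
    rintro i j hij _ ⟨y, rfl⟩ _ ⟨y', rfl⟩
    rw [hform, if_neg hij, zero_mul, mul_zero]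
  have hsh := herm_hermForm (n := n) hF
  have htop : iSup D = ⊤ := by
    refine eq_top_iff.2 fun x _ => ?_
    let X : Fin 2 × Fin b → F := (((P⁻¹ : GL (Fin n) F) : Matrix (Fin n) (Fin n) F) *ᵥ x) ∘ e.symm
    let z : Fin 2 → Fin b → F := fun l j => f₁ (fun i => X (i, j)) (w l)
    have hx : x = ∑ l, L l (z l) := by
      simp only [hL, T, ← Matrix.mulVec_sum]
      refine gl_mulVec_injective P⁻¹ ?_
      show ((P⁻¹ : GL (Fin n) F) : Matrix (Fin n) (Fin n) F) *ᵥ x = _ *ᵥ _
      rw [Matrix.mulVec_mulVec _ _ (P : Matrix (Fin n) (Fin n) F), Units.inv_mul, Matrix.one_mulVec]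
      funext i
      have h1 := congrFun (hexp (fun k => X (k, (e i).2)) trivial) (e i).1
      rw [Fin.sum_univ_two]
      simp only [Pi.add_apply, Pi.smul_apply, smul_eq_mul, Function.comp_apply, w, z, Matrix.cons_val_zero,
        Matrix.cons_val_one] at h1 ⊢
      rw [show X ((e i).1, (e i).2) = (((P⁻¹ : GL (Fin n) F) : Matrix (Fin n) (Fin n) F) *ᵥ x) i by simp [X]] at h1
      rw [h1]
      ring
    rw [hx]
    exact Submodule.sum_mem _ fun l _ => Submodule.mem_iSup_of_mem l ⟨_, rfl⟩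
  have hind : iSupIndep D := by
    intro i
    rw [Submodule.disjoint_def]
    rintro _ ⟨y, rfl⟩ hmem
    have hy : y = 0 := hnd i y fun y' => by
      have hle : (⨆ (j) (_ : j ≠ i), D j) ≤ LinearMap.ker (hsh.toSesq.lin (L i y')) := iSup₂_le fun j hji u hu =>
        LinearMap.mem_ker.2 (horth j i hji u hu _ ⟨y', rfl⟩)
      exact LinearMap.mem_ker.1 (hle hmem)
    rw [hy, map_zero]
  have hrank : ∀ i, finrank F (D i) = b := fun i => by
    have hinj : Function.Injective (L i) := (injective_iff_map_eq_zero _).2 fun y hy => hnd i y fun y' => by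
      rw [hy, hsh.toSesq.zero_left]
    rw [LinearMap.finrank_range_of_inj hinj, Module.finrank_fintype_fun_eq_card, Fintype.card_fin]
  refine ⟨D, ⟨⟨le_rfl, hb, hrank, hind, htop⟩, ?_, horth⟩, ?_⟩
  · rintro i _ ⟨y, rfl⟩ hne
    obtain ⟨y', hy'⟩ : ∃ y', hermForm n F 2 (L i y) (L i y') ≠ 0 := by
      by_contra hno
      push Not at hno
      exact hne (by rw [hnd i y hno, map_zero])
    exact ⟨⟨_, ⟨y', rfl⟩, fun h => hy' (hsh.refl _ _ h)⟩, ⟨_, ⟨y', rfl⟩, hy'⟩⟩
  intro g hg
  obtain ⟨⟨_, ⟨k, ⟨A, B, hk⟩, rfl⟩, hgk⟩, hgu⟩ := hg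
  have hgco : (g : Matrix (Fin n) (Fin n) F) =
      co e P ((A : Matrix (Fin 2) (Fin 2) F) ⊗ₖ (B : Matrix (Fin b) (Fin b) F)) := by
    rw [← hgk, ← hk]; rfl
  have hgT : ∀ y z, (g : Matrix (Fin n) (Fin n) F) *ᵥ T y z =
      T ((A : Matrix (Fin 2) (Fin 2) F) *ᵥ y) ((B : Matrix (Fin b) (Fin b) F) *ᵥ z) := by
    intro y z
    have h1 := coords_mulVec e P ((A : Matrix (Fin 2) (Fin 2) F) ⊗ₖ (B : Matrix (Fin b) (Fin b) F)) (T y z)
    rw [← hgco] at h1
    have h4 : ∀ y z, ((((P⁻¹ : GL (Fin n) F) : Matrix (Fin n) (Fin n) F) *ᵥ T y z)) ∘ e.symm =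
        fun p : Fin 2 × Fin b => y p.1 * z p.2 := fun y z => by
      simp only [T]
      rw [Matrix.mulVec_mulVec, Units.inv_mul, Matrix.one_mulVec]
      funext p; simp
    have h5 : ((A : Matrix (Fin 2) (Fin 2) F) ⊗ₖ (B : Matrix (Fin b) (Fin b) F)) *ᵥ
        (fun p : Fin 2 × Fin b => y p.1 * z p.2) =
        fun p : Fin 2 × Fin b => ((A : Matrix (Fin 2) (Fin 2) F) *ᵥ y) p.1 * ((B : Matrix (Fin b) (Fin b) F) *ᵥ z) p.2 := by
      funext p
      simp only [Matrix.mulVec, dotProduct, Matrix.kroneckerMap_apply, Fintype.sum_prod_type, Finset.sum_mul,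
        Finset.mul_sum]
      rw [Finset.sum_comm]
      refine Finset.sum_congr rfl fun j _ => Finset.sum_congr rfl fun k _ => ?_
      ring
    rw [h4, h5, ← h4] at h1
    refine gl_mulVec_injective P⁻¹ ?_
    funext i
    have h5 := congrFun h1 (e i)
    simpa only [Function.comp_apply, Equiv.symm_apply_apply] using h5
  have hgu' : ∀ a b, hermForm n F 2 ((g : Matrix (Fin n) (Fin n) F) *ᵥ a)
      ((g : Matrix (Fin n) (Fin n) F) *ᵥ b) = hermForm n F 2 a b := hgu
  obtain ⟨z₀, hz₀⟩ : ∃ z₀, f₂ z₀ z₀ ≠ 0 := by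
    obtain ⟨z₀, -, h⟩ := hs₂.exists_aniso_of_nd (T := ⊤) (fun w _ hw0 => by
      obtain ⟨⟨x, hx⟩, -⟩ := hf₂.nondegenerate w hw0
      exact ⟨x, trivial, hx⟩) (by
      intro e'
      have := congrArg (fun S : Submodule F (Fin b → F) => finrank F S) e'
      simp at this
      omega)
    exact ⟨z₀, h⟩
  -- the image of a vector of the frame is in one line of the frame
  have hperm : ∀ l, ∃ l', ∃ s : F, (A : Matrix (Fin 2) (Fin 2) F) *ᵥ w l = s • w l' := by
    intro l
    have h1 := hgu' (T (w l) z₀) (T (w l) z₀)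
    rw [hgT, hT, hT, hw, if_pos rfl, one_mul] at h1
    have h2 := mul_left_cancel₀ hc h1
    set x := (A : Matrix (Fin 2) (Fin 2) F) *ᵥ w l
    have hxx : f₁ x x ≠ 0 := fun h => hz₀ (by rw [← h2, h, zero_mul])
    have hx' := hexp x trivial
    set a := f₁ x u
    set a' := f₁ x u'
    by_cases ha : a = 0
    · exact ⟨1, a', by rw [hx', ha, zero_smul, zero_add]; rfl⟩
    · by_cases ha' : a' = 0
      · exact ⟨0, a, by rw [hx', ha', zero_smul, add_zero]; rfl⟩
      · exfalso
        refine hxx ?_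
        rw [hx', hs₁.add_left, hs₁.add_right, hs₁.add_right, hs₁.smul_left, hs₁.smul_left, hs₁.smul_left,
          hs₁.smul_left, hs₁.smul_right, hs₁.smul_right, hs₁.smul_right, hs₁.smul_right, huu, hu'u', h12, h21, mul_one,
          mul_one, mul_zero, mul_zero, mul_zero, mul_zero, add_zero, zero_add, norm_two hF, norm_two hF, if_neg ha,
          if_neg ha']
        linear_combination two_eq_zero_four hF
  choose π s hs' using hperm
  have hAw : ∀ l z, (g : Matrix (Fin n) (Fin n) F) *ᵥ L l z = L (π l) (s l • ((B : Matrix (Fin b) (Fin b) F) *ᵥ z)) := by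
    intro l z
    rw [hL, hL, hgT, hs']
    simp only [T]
    congr 1
    funext i
    simp only [Function.comp_apply, Pi.smul_apply, smul_eq_mul]
    ring
  have hπ : Function.Injective π := by
    intro l l' h
    by_contra hne
    have h1 := hgu' (L l z₀) (L l' z₀)
    rw [hform l l', if_neg hne, zero_mul, mul_zero, hAw, hAw, h, hform, if_pos rfl, one_mul,
      hs₂.smul_left, hs₂.smul_right] at h1
    have h2 := hgu' (L l z₀) (L l z₀)
    rw [hform l l, hAw, h, hform, if_pos rfl, if_pos rfl, one_mul, one_mul, hs₂.smul_left, hs₂.smul_right] at h2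
    have h3 := hgu' (L l' z₀) (L l' z₀)
    rw [hform l' l', hAw, hform, if_pos rfl, if_pos rfl, one_mul, one_mul, hs₂.smul_left, hs₂.smul_right] at h3
    rcases mul_eq_zero.1 h1 with h1 | h1
    · exact hc h1
    rcases mul_eq_zero.1 h1 with h1 | h1
    · rw [h1, zero_mul, mul_zero] at h2; exact mul_ne_zero hc hz₀ h2.symm
    rcases mul_eq_zero.1 h1 with h1 | h1
    · rw [h1, zero_mul, mul_zero, mul_zero] at h3; exact mul_ne_zero hc hz₀ h3.symm
    · rw [h1, mul_zero, mul_zero, mul_zero] at h2; exact mul_ne_zero hc hz₀ h2.symm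
  refine ⟨Equiv.ofBijective π (Finite.injective_iff_bijective.1 hπ), fun l => ?_⟩
  rw [Equiv.ofBijective_apply]
  refine Submodule.eq_of_le_of_finrank_eq ?_ ?_
  · rintro _ ⟨_, ⟨y, rfl⟩, rfl⟩
    rw [Matrix.toLin'_apply, hAw]
    exact ⟨_, rfl⟩
  · rw [← (Submodule.equivMapOfInjective (Matrix.toLin' (g : Matrix (Fin n) (Fin n) F))
      (fun x y h => gl_mulVec_injective g (by simpa [Matrix.toLin'_apply] using h)) (D l)).finrank_eq, hrank, hrank]

/-- A stabiliser of planes over four elements is a stabiliser of lines. -/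
theorem su_planes_small (hn : 5 ≤ n) (hF : Fintype.card F = q ^ 2) (hq : ¬ 3 ≤ q) {H : Subgroup (GL (Fin n) F)}
    (hH : IsMaximalIn (GU n F q ⊓ specialLinear (Fin n) F) H) {t : ℕ} {D : Fin t → Submodule F (Fin n → F)}
    (hD : IsNondegenerateMDecomposition (hermForm n F q) 2 D)
    (hHD : H = decompositionStabilizer D ⊓ (GU n F q ⊓ specialLinear (Fin n) F)) :
    ∃ D' : Fin (t * 2) → Submodule F (Fin n → F), IsNondegenerateMDecomposition (hermForm n F q) 1 D' ∧
      H = decompositionStabilizer D' ⊓ (GU n F q ⊓ specialLinear (Fin n) F) := by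
  obtain rfl : q = 2 := by have := two_le_q hF; omega
  obtain ⟨D', hD', hle⟩ := planes_lines hF hD
  exact ⟨D', hD', su_eq_inter hH ((hHD.le.trans (inf_le_inf le_rfl inf_le_left)).trans hle)
    (not_su_le_decomp hF hn hD'.decomp)⟩

/-- A tensor product with a plane over four elements is a stabiliser of two halves. -/
theorem su_tensor_small (hn : 5 ≤ n) (hF : Fintype.card F = q ^ 2) (hq : ¬ 3 ≤ q) {H : Subgroup (GL (Fin n) F)}
    (hH : IsMaximalIn (GU n F q ⊓ specialLinear (Fin n) F) H) {b : ℕ} (hb : 0 < b) {e : Fin n ≃ Fin 2 × Fin b}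
    {P : GL (Fin n) F} {f₁ : (Fin 2 → F) → (Fin 2 → F) → F} {f₂ : (Fin b → F) → (Fin b → F) → F}
    (hf₁ : IsUnitaryFormPow q f₁) (hf₂ : IsUnitaryFormPow q f₂)
    (hst : IsTensorFormStructure (fun x : F => x ^ q) (hermForm n F q) f₁ f₂ e P)
    (hHD : H = tensorProductSubgroup 2 b e P ⊓ (GU n F q ⊓ specialLinear (Fin n) F)) :
    ∃ D : Fin 2 → Submodule F (Fin n → F), IsNondegenerateMDecomposition (hermForm n F q) b D ∧
      H = decompositionStabilizer D ⊓ (GU n F q ⊓ specialLinear (Fin n) F) := by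
  obtain rfl : q = 2 := by have := two_le_q hF; omega
  obtain ⟨D, hD, hle⟩ := tensor_halves hF hb hf₁ hf₂ hst
  exact ⟨D, hD, su_eq_inter hH ((hHD.le.trans (inf_le_inf le_rfl inf_le_left)).trans hle)
    (not_su_le_decomp hF hn hD.decomp)⟩

/-- Groups of odd exponent inside the similitudes preserve the form exactly when the exponent is prime to `q - 1`. -/
theorem le_GU_of_exponent (hF : Fintype.card F = q ^ 2) {r : ℕ} {R : Subgroup (GL (Fin n) F)} (hn : 0 < n)
    (hexp : ∀ x ∈ R, x ^ r = 1) (hco : Nat.Coprime r (q - 1))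
    (hsim : R ≤ similarityGroup (hermForm n F q)) : R ≤ GU n F q := by
  intro x hx
  have hs := herm_hermForm (n := n) hF
  obtain ⟨μ, hμ⟩ := hsim hx
  have hpow : ∀ (k : ℕ) u v, hermForm n F q (((x ^ k : GL (Fin n) F) : Matrix (Fin n) (Fin n) F) *ᵥ u)
      (((x ^ k : GL (Fin n) F) : Matrix (Fin n) (Fin n) F) *ᵥ v) = (μ : F) ^ k * hermForm n F q u v := by
    intro k
    induction k with
    | zero => intro u v; simp
    | succ k ih =>
      intro u v
      rw [pow_succ, Units.val_mul, ← Matrix.mulVec_mulVec, ← Matrix.mulVec_mulVec, ih, hμ, pow_succ, mul_assoc]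
  let e₀ : Fin n → F := Pi.single ⟨0, hn⟩ 1
  have he₀ : hermForm n F q e₀ e₀ = 1 := by
    have := two_le_q hF
    simp [hermForm, e₀, Pi.single_apply, zero_pow (show q ≠ 0 by omega)]
  have h1 : (μ : F) ^ r = 1 := by
    have := hpow r e₀ e₀
    rw [hexp x hx, Units.val_one, Matrix.one_mulVec, he₀, mul_one] at this
    exact this.symm
  have h2 : (μ : F) ^ (q - 1) = 1 := by
    have h3 := hμ e₀ e₀
    rw [he₀, mul_one] at h3
    have hfix : qEquiv hF (μ : F) = μ := by rw [← h3]; exact hs.self_fixed _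
    rw [MaxTv.qEquiv_apply] at hfix
    refine mul_left_cancel₀ μ.ne_zero ?_
    rw [mul_one, ← pow_succ', Nat.sub_add_cancel (by have := two_le_q hF; omega)]
    exact hfix
  have h4 : (μ : F) = 1 := by
    have := pow_gcd_eq_one.2 ⟨h1, h2⟩
    rwa [hco.gcd_eq_one, pow_one] at this
  intro u v
  show hermForm n F q ((x : Matrix (Fin n) (Fin n) F) *ᵥ u) ((x : Matrix (Fin n) (Fin n) F) *ᵥ v) = _
  rw [hμ, h4, one_mul]

/-- Arithmetic of the sixth class in odd prime dimension. -/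
theorem unit_class_six {r p e : ℕ} (hr : Odd r) (hrp : r.Prime) (hne : r ≠ p) (hF : Fintype.card F = q ^ 2)
    (hmin : IsMinimalFieldFor r p e F) :
    p.Prime ∧ CharP F p ∧ ∃ d, e = 2 * d ∧ q = p ^ d ∧ 0 < d ∧ e < r ∧ (p % r) ^ e % r = 1 ∧
      ∀ d', 0 < d' → d' < e → (p % r) ^ d' % r ≠ 1 := by
  obtain ⟨hp, hchar, hcard, hdvd, hm⟩ := hmin
  have hqp : q ^ 2 = p ^ e := hF.symm.trans hcard
  obtain ⟨d, -, rfl⟩ := (Nat.dvd_prime_pow hp).1 (Dvd.intro q (by rw [← hqp]; ring) : q ∣ p ^ e)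
  rw [← pow_mul] at hqp
  have he : e = 2 * d := by have := Nat.pow_right_injective hp.two_le hqp; omega
  have key : ∀ d', r ∣ p ^ d' - 1 ↔ (p % r) ^ d' % r = 1 := fun d' => by
    have h1 : 1 ≤ p ^ d' := Nat.one_le_pow _ _ hp.pos
    rw [← Nat.modEq_iff_dvd' h1, ← Nat.pow_mod]
    show 1 % r = p ^ d' % r ↔ _
    rw [Nat.one_mod_eq_one.2 hrp.ne_one, eq_comm]
  have hd : 0 < d := by
    rcases Nat.eq_zero_or_pos d with rfl | h
    · have := Fintype.one_lt_card (α := F)
      simp [hF] at this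
    · exact h
  refine ⟨hp, hchar, d, he, rfl, hd, ?_, (key e).1 hdvd, fun d' h1 h2 h3 => hm d' h1 h2 ((key d').2 h3)⟩
  by_contra hle
  haveI : Fact r.Prime := ⟨hrp⟩
  have hcop : (p : ZMod r) ≠ 0 := fun h0 => hne ((Nat.prime_dvd_prime_iff_eq hrp hp).1
    ((ZMod.natCast_eq_zero_iff p r).1 h0))
  refine hm (r - 1) (by have := hrp.two_le; omega) (by have := hrp.two_le; omega) ?_
  rw [← ZMod.natCast_eq_zero_iff, Nat.cast_sub (Nat.one_le_pow _ _ hp.pos), Nat.cast_pow,
    ZMod.pow_card_sub_one_eq_one hcop, Nat.cast_one, sub_self]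

/-- Arithmetic of the sixth class for the prime two. -/
theorem unit_class_six_two {p : ℕ} (hF : Fintype.card F = q ^ 2) (hmin : IsMinimalFieldFor 4 p 2 F) :
    p.Prime ∧ q = p ∧ p % 4 = 3 := by
  obtain ⟨hp, -, hcard, hdvd, hm⟩ := hmin
  have hq : q = p := by
    have h := hF.symm.trans hcard
    exact Nat.pow_left_injective (by norm_num) h
  refine ⟨hp, hq, ?_⟩
  have h1 := hm 1 one_pos (by norm_num)
  rw [pow_one] at h1
  rcases hp.eq_two_or_odd with rfl | hodd
  · norm_num at hdvd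
  · omega

end Cfsg.Agent.Classical.Asch
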