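import Cfsg.Agent.Lib.Classical.AschUnitShape
import Cfsg.Agent.Lib.Classical.AschUnitFive

/-!
In six dimensions over four elements the normaliser of a cubic field closed under adjoints lies in a subfield group
of symplectic type.
-/

set_option autoImplicit false
set_option linter.unusedSectionVars false
set_option linter.unusedFintypeInType false
set_option linter.unusedDecidableInType false

namespace Cfsg.Agent.Classical.UnitSix

open Matrix Module Cfsg.Geo Cfsg.Agent.Classical.Asch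
open MaxTv (qEquiv herm_hermForm Herm)
open Cfsg.Agent.Classical.Asch.UnitSmall (Four exists_four)

variable {F : Type*} [Field F] [Fintype F]

local notation "M6" => Matrix (Fin 6) (Fin 6) F
local notation "V6" => (Fin 6 → F)

/-- A cubic field closed under the adjoint of a hermitian form over four elements. -/
structure CubicData (σ : F ≃+* F) (ω : F) (K : Subalgebra F M6) (τ : M6 → M6) : Prop where
  four : Four σ ω
  herm : Herm σ (hermForm 6 F 2)
  field : IsFieldSubalgebra 3 K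
  mem : ∀ k ∈ K, τ k ∈ K
  adj : ∀ k ∈ K, ∀ u v : V6, hermForm 6 F 2 (k *ᵥ u) v = hermForm 6 F 2 u (τ k *ᵥ v)
  add : ∀ a b : M6, τ (a + b) = τ a + τ b
  mul : ∀ a ∈ K, ∀ b ∈ K, τ (a * b) = τ a * τ b
  one : τ 1 = 1
  smul : ∀ (c : F) (a : M6), τ (c • a) = σ c • τ a
  invol : ∀ a, τ (τ a) = a

variable {σ : F ≃+* F} {ω : F} {K : Subalgebra F (Matrix (Fin 6) (Fin 6) F)}
  {τ : Matrix (Fin 6) (Fin 6) F → Matrix (Fin 6) (Fin 6) F}

local notation "hB" => hermForm 6 F 2

theorem exists_cubicData (hF : Fintype.card F = 2 ^ 2) (hK : IsFieldSubalgebra 3 K)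
    (hac : IsAdjointClosedFor (hermForm 6 F 2) K) :
    ∃ (σ : F ≃+* F) (ω : F) (τ : M6 → M6), CubicData σ ω K τ := by
  obtain ⟨ω, h⟩ := exists_four hF (σ := qEquiv hF) fun _ => rfl
  have hs := herm_hermForm (n := 6) hF
  have hu : ∀ k ∈ K, kᵀ.map (qEquiv hF) ∈ K := by
    intro k hk
    obtain ⟨k', hk', he⟩ := hac k hk
    convert hk'
    ext i j
    have e := he (Pi.single i 1) (Pi.single j 1)
    rw [hermForm_single_right hF, ← hermForm_symm hF 6 (k' *ᵥ Pi.single j 1) (Pi.single i 1),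
      hermForm_single_right hF, Matrix.mulVec_single_one,
      Matrix.mulVec_single_one] at e
    simp only [Matrix.col_apply] at e
    simp only [Matrix.map_apply, Matrix.transpose_apply]
    rw [e, ← h.pow, hs.invol]
  refine ⟨qEquiv hF, ω, fun k => kᵀ.map (qEquiv hF), ⟨h, hs, hK, hu, fun k _ u v => ?_, fun a b => ?_,
    fun a ha b hb => ?_, ?_, fun c a => ?_, fun a => ?_⟩⟩
  · rw [hermForm_gram (σ := qEquiv hF) fun _ => rfl]
    simp only [formOfGram_eq, Matrix.one_mulVec]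
    show (k *ᵥ u ⬝ᵥ fun j => qEquiv hF (v j)) = u ⬝ᵥ fun j => qEquiv hF ((kᵀ.map (qEquiv hF) *ᵥ v) j)
    rw [show (fun j => qEquiv hF ((kᵀ.map (qEquiv hF) *ᵥ v) j)) = kᵀ *ᵥ (fun j => qEquiv hF (v j)) by
        funext i
        simp [Matrix.mulVec, dotProduct, map_sum, map_mul, hs.invol],
      dotProduct_comm, Matrix.dotProduct_mulVec, dotProduct_comm, Matrix.mulVec_transpose]
  · ext i j; simp
  · rw [hK.comm a ha b hb, Matrix.transpose_mul, Matrix.map_mul]
  · rw [Matrix.transpose_one, Matrix.map_one _ (map_zero _) (map_one _)]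
  · ext i j; simp
  · ext i j; simp [hs.invol]

namespace CubicData

variable (D : CubicData σ ω K τ)
include D

theorem σ_fix {c : F} (hc : σ c = c) : c = 0 ∨ c = 1 := by
  rw [D.four.pow] at hc
  rcases eq_or_ne c 0 with h | h
  · exact Or.inl h
  · exact Or.inr (mul_left_cancel₀ h (by linear_combination hc))

theorem zero : τ 0 = 0 := by simpa using D.smul 0 0

theorem adj_right {k : M6} (hk : k ∈ K) (u v : V6) : hB u (k *ᵥ v) = hB (τ k *ᵥ u) v := by
  rw [D.adj _ (D.mem _ hk), D.invol]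

theorem neg_eq (k : M6) : -k = k := by
  have h : k + k = 0 := by rw [← two_smul F k, D.four.two, zero_smul]
  exact (eq_neg_of_add_eq_zero_left h).symm

theorem sq_inj {a b : M6} (ha : a ∈ K) (hb : b ∈ K) (h : a * a = b * b) : a = b := by
  by_contra hne
  have hab : a + b ≠ 0 := fun e => hne ((eq_neg_of_add_eq_zero_left e).trans (D.neg_eq b))
  obtain ⟨y, -, hy⟩ := D.field.inv _ (add_mem ha hb) hab
  have h0 : (a + b) * (a + b) = 0 := by
    rw [add_mul, mul_add, mul_add, D.field.comm b hb a ha, h]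
    have hn := D.neg_eq (a * b)
    have hn' := D.neg_eq (b * b)
    calc b * b + a * b + (a * b + b * b) = -(b * b) + -(a * b) + (a * b + b * b) := by rw [hn, hn']
      _ = 0 := by abel
  have := congrArg (· * y) h0
  simp only [mul_assoc, hy, mul_one, zero_mul] at this
  exact hab this

/-- Every fixed element is the square of a fixed element. -/
theorem exists_sqrt {N : M6} (hN : N ∈ K) (hNf : τ N = N) : ∃ a ∈ K, τ a = a ∧ a * a = N := by
  classical
  haveI : Finite K := Finite.of_injective (fun x : K => (x : M6)) Subtype.val_injective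
  obtain ⟨⟨a, ha⟩, he⟩ := ((Finite.injective_iff_surjective (f := fun x : K => x * x)).1 fun x y e =>
    Subtype.ext (D.sq_inj x.2 y.2 (congrArg Subtype.val e))) ⟨N, hN⟩
  have he' : a * a = N := congrArg Subtype.val he
  refine ⟨a, ha, D.sq_inj (D.mem _ ha) ha ?_, he'⟩
  rw [← D.mul _ ha _ ha, he', hNf]

/-- Every element is the sum of a fixed one and a multiple of a fixed one. -/
theorem split {x : M6} (hx : x ∈ K) :
    ∃ a ∈ K, ∃ b ∈ K, τ a = a ∧ τ b = b ∧ x = a + ω • b := by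
  have hω2 : σ ω = ω ^ 2 := D.four.pow ω
  refine ⟨x + ω • (x + τ x), add_mem hx (K.smul_mem (add_mem hx (D.mem _ hx)) ω), x + τ x,
    add_mem hx (D.mem _ hx), ?_, ?_, ?_⟩
  · rw [D.add, D.smul, D.add, D.invol, hω2, show τ x + x = x + τ x from add_comm _ _]
    have h2 := D.four.two
    have hr := D.four.rel
    match_scalars <;> grind
  · rw [D.add, D.invol, add_comm]
  · have h2 := D.four.two
    have hr := D.four.rel
    match_scalars <;> grind

/-- A non-degenerate functional pulls a functional back uniquely. -/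
theorem exists_rep {T : M6 →ₗ[F] F} {k₀ : M6} (hk₀ : k₀ ∈ K) (hT : T k₀ ≠ 0) :
    (∀ N ∈ K, (∀ k ∈ K, T (N * k) = 0) → N = 0) ∧ ∀ R : M6 →ₗ[F] F, ∃ N ∈ K, ∀ k ∈ K, T (N * k) = R k := by
  have hinj : ∀ N ∈ K, (∀ k ∈ K, T (N * k) = 0) → N = 0 := by
    intro N hN h
    by_contra h0
    obtain ⟨y, hy, hNy⟩ := D.field.inv N hN h0
    have := h (y * k₀) (mul_mem hy hk₀)
    rw [← mul_assoc, hNy, one_mul] at this
    exact hT this
  refine ⟨hinj, fun R => ?_⟩
  let L : K →ₗ[F] Module.Dual F K :=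
    { toFun := fun N =>
        { toFun := fun k => T ((N : M6) * (k : M6))
          map_add' := fun a b => by simp [mul_add]
          map_smul' := fun c a => by simp }
      map_add' := fun a b => by ext k; simp [add_mul]
      map_smul' := fun c a => by ext k; simp }
  have hL : Function.Injective L := (injective_iff_map_eq_zero L).2 fun N hN => Subtype.ext
    (hinj N N.2 fun k hk => LinearMap.congr_fun hN ⟨k, hk⟩)
  obtain ⟨N, hN⟩ := ((L.injective_iff_surjective_of_finrank_eq_finrank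
    (Subspace.dual_finrank_eq).symm).1 hL) (R.comp K.toSubmodule.subtype)
  exact ⟨N, N.2, fun k hk => LinearMap.congr_fun hN ⟨k, hk⟩⟩

/-- The functional of a pair of vectors. -/
def pairing (u v : V6) : M6 →ₗ[F] F where
  toFun k := hB (k *ᵥ u) v
  map_add' a b := by rw [Matrix.add_mulVec, D.herm.add_left]
  map_smul' c a := by rw [Matrix.smul_mulVec, D.herm.smul_left]; rfl

theorem pairing_apply (u v : V6) (k : M6) : D.pairing u v k = hB (k *ᵥ u) v := rfl

theorem pairing_self_conj {u : V6} {k : M6} (hk : k ∈ K) : hB (τ k *ᵥ u) u = σ (hB (k *ᵥ u) u) := by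
  rw [← D.adj_right hk, D.herm.herm]

/-- A vector whose line is totally singular. -/
theorem exists_sing : ∃ e : V6, e ≠ 0 ∧ ∀ k ∈ K, hB (k *ᵥ e) e = 0 := by
  obtain ⟨v, hv⟩ := exists_ne (0 : V6)
  by_cases hsing : ∀ k ∈ K, hB (k *ᵥ v) v = 0
  · exact ⟨v, hv, hsing⟩
  push Not at hsing
  obtain ⟨k₀, hk₀, hT⟩ := hsing
  obtain ⟨hinj, hsurj⟩ := D.exists_rep (T := D.pairing v v) hk₀ hT
  -- a vector orthogonal to the line
  let L : V6 →ₗ[F] Module.Dual F K :=
    { toFun := fun w =>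
        { toFun := fun k => hB ((k : M6) *ᵥ w) v
          map_add' := fun a b => by simp [Matrix.add_mulVec, D.herm.add_left]
          map_smul' := fun c a => by simp [Matrix.smul_mulVec, D.herm.smul_left] }
      map_add' := fun a b => by ext k; simp [Matrix.mulVec_add, D.herm.add_left]
      map_smul' := fun c a => by ext k; simp [Matrix.mulVec_smul, D.herm.smul_left] }
  obtain ⟨w, hw, hw0⟩ : ∃ w, L w = 0 ∧ w ≠ 0 := by
    by_contra hno
    push Not at hno
    have h1 := LinearMap.finrank_le_finrank_of_injective (f := L) ((injective_iff_map_eq_zero L).2 hno)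
    rw [Subspace.dual_finrank_eq, Module.finrank_fin_fun,
      show finrank F K = 3 from D.field.finrank_eq] at h1
    omega
  have hwv : ∀ k ∈ K, hB (k *ᵥ w) v = 0 := fun k hk => LinearMap.congr_fun hw ⟨k, hk⟩
  obtain ⟨N, hN, hNk⟩ := hsurj (D.pairing w w)
  have hNf : τ N = N := by
    have h0 : N + τ N = 0 := hinj _ (add_mem hN (D.mem _ hN)) fun k hk => by
      have h1 := hNk k hk
      have h2 := hNk _ (D.mem _ hk)
      simp only [pairing_apply] at h1 h2 ⊢
      have h3 : hB ((τ N * k) *ᵥ v) v = σ (hB ((N * τ k) *ᵥ v) v) := by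
        rw [← D.pairing_self_conj (mul_mem hN (D.mem _ hk)), D.mul _ hN _ (D.mem _ hk), D.invol]
      rw [add_mul, Matrix.add_mulVec, D.herm.add_left, h3, h2, h1, D.pairing_self_conj hk, D.herm.invol]
      linear_combination (hB (k *ᵥ w) w) * D.four.two
    exact ((eq_neg_of_add_eq_zero_right h0).trans (D.neg_eq N))
  obtain ⟨a, ha, haf, haN⟩ := D.exists_sqrt hN hNf
  refine ⟨a *ᵥ v + w, fun h0 => ?_, fun k hk => ?_⟩
  · have ha0 : a *ᵥ v = -w := eq_neg_of_add_eq_zero_left h0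
    rcases eq_or_ne a 0 with rfl | hane
    · rw [Matrix.zero_mulVec] at ha0; exact hw0 (neg_eq_zero.1 ha0.symm)
    · obtain ⟨y, hy, hay⟩ := D.field.inv a ha hane
      apply hT
      have h1 : hB ((k₀ * y) *ᵥ (a *ᵥ v)) v = 0 := by
        rw [ha0, ← neg_one_smul F w, Matrix.mulVec_smul, D.herm.smul_left, hwv _ (mul_mem hk₀ hy), mul_zero]
      rwa [Matrix.mulVec_mulVec, mul_assoc, D.field.comm y hy a ha, hay, mul_one] at h1
  · have h1 : hB ((k * a) *ᵥ v) (a *ᵥ v) = hB ((N * k) *ᵥ v) v := by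
      rw [D.adj_right ha, haf, Matrix.mulVec_mulVec, ← mul_assoc, D.field.comm a ha k hk, mul_assoc, haN,
        D.field.comm k hk N hN]
    have h2 : hB (k *ᵥ w) (a *ᵥ v) = 0 := by
      rw [D.adj_right ha, haf, Matrix.mulVec_mulVec]; exact hwv _ (mul_mem ha hk)
    have h3 : hB ((k * a) *ᵥ v) w = 0 := by
      rw [D.adj _ (mul_mem hk ha), D.herm.herm, hwv _ (D.mem _ (mul_mem hk ha)), map_zero]
    have h4 := hNk k hk
    simp only [pairing_apply] at h4
    rw [Matrix.mulVec_add, D.herm.add_left, D.herm.add_right, D.herm.add_right, Matrix.mulVec_mulVec, h1, h2, h3,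
      h4, zero_add, add_zero]
    linear_combination (hB (k *ᵥ w) w) * D.four.two

/-- A hyperbolic pair for the cubic field. -/
theorem exists_pair : ∃ (e w : V6) (T : M6 →ₗ[F] F), (∀ k ∈ K, hB (k *ᵥ e) e = 0) ∧
    (∀ k ∈ K, hB (k *ᵥ w) w = 0) ∧ (∀ k ∈ K, hB (k *ᵥ w) e = T k) ∧ (∀ k ∈ K, hB (k *ᵥ e) w = T k) ∧
    (∀ k ∈ K, T (τ k) = σ (T k)) ∧ (∀ N ∈ K, (∀ k ∈ K, T (N * k) = 0) → N = 0) := by
  obtain ⟨e, he0, he⟩ := D.exists_sing
  obtain ⟨v, hv⟩ : ∃ v : V6, ∃ k ∈ K, hB (k *ᵥ v) v ≠ 0 := by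
    have hF : Fintype.card F = 2 ^ 2 := D.four.card
    refine ⟨Pi.single 0 1, 1, one_mem K, ?_⟩
    rw [Matrix.one_mulVec, hermForm_single_right hF]
    simp
  obtain ⟨k₀, hk₀, hT⟩ := hv
  let T := D.pairing v v
  obtain ⟨hinj, hsurj⟩ := D.exists_rep (T := T) hk₀ hT
  have hTτ : ∀ k ∈ K, T (τ k) = σ (T k) := fun k hk => D.pairing_self_conj hk
  let L : V6 →ₗ[F] Module.Dual F K :=
    { toFun := fun w =>
        { toFun := fun k => hB ((k : M6) *ᵥ w) e
          map_add' := fun a b => by simp [Matrix.add_mulVec, D.herm.add_left]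
          map_smul' := fun c a => by simp [Matrix.smul_mulVec, D.herm.smul_left] }
      map_add' := fun a b => by ext k; simp [Matrix.mulVec_add, D.herm.add_left]
      map_smul' := fun c a => by ext k; simp [Matrix.mulVec_smul, D.herm.smul_left] }
  have hLk : ∀ (w : V6), ∀ k₁ ∈ K, ∀ k ∈ K, hB (k *ᵥ (k₁ *ᵥ w)) e = hB ((k₁ * k) *ᵥ w) e := fun w k₁ h1 k h2 => by
    rw [Matrix.mulVec_mulVec, D.field.comm k h2 k₁ h1]
  obtain ⟨u, ku, hku, hu⟩ : ∃ u : V6, ∃ k ∈ K, hB (k *ᵥ u) e ≠ 0 := by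
    by_contra hno
    push Not at hno
    refine he0 (D.herm.eq_zero e fun x => ?_)
    have h1 := hno x 1 (one_mem K)
    rw [Matrix.one_mulVec] at h1
    exact h1
  obtain ⟨-, hsurj'⟩ := D.exists_rep (T := D.pairing u e) hku hu
  obtain ⟨N, hN, hNk⟩ := hsurj' T
  have hw₀ : ∀ k ∈ K, hB (k *ᵥ (N *ᵥ u)) e = T k := fun k hk => by
    rw [hLk u N hN k hk]; exact hNk k hk
  set w₀ := N *ᵥ u with hw₀def
  obtain ⟨M, hM, hMk⟩ := hsurj (D.pairing w₀ w₀)
  have hMf : τ M = M := by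
    have h0 : M + τ M = 0 := hinj _ (add_mem hM (D.mem _ hM)) fun k hk => by
      have h1 := hMk k hk
      have h2 := hMk _ (D.mem _ hk)
      have h3 : T (τ M * k) = σ (T (M * τ k)) := by
        rw [← hTτ _ (mul_mem hM (D.mem _ hk)), D.mul _ hM _ (D.mem _ hk), D.invol]
      rw [add_mul, map_add, h3, h2, h1, pairing_apply, pairing_apply, D.pairing_self_conj hk, D.herm.invol]
      linear_combination (hB (k *ᵥ w₀) w₀) * D.four.two
    exact ((eq_neg_of_add_eq_zero_right h0).trans (D.neg_eq M))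
  have hew : ∀ k ∈ K, hB (k *ᵥ e) w₀ = T k := fun k hk => by
    rw [D.adj _ hk, D.herm.herm, hw₀ _ (D.mem _ hk), hTτ _ hk, D.herm.invol]
  let b := ω • M
  have hb : b ∈ K := K.smul_mem hM ω
  have hτb : τ b = ω ^ 2 • M := by rw [D.smul, hMf, D.four.pow]
  refine ⟨e, w₀ + b *ᵥ e, T, he, fun k hk => ?_, fun k hk => ?_, fun k hk => ?_, hTτ, hinj⟩
  · have h1 : hB (k *ᵥ w₀) (b *ᵥ e) = T (τ b * k) := by
      rw [D.adj_right hb, Matrix.mulVec_mulVec, hw₀ _ (mul_mem (D.mem _ hb) hk)]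
    have h2 : hB (k *ᵥ (b *ᵥ e)) w₀ = T (k * b) := by
      rw [Matrix.mulVec_mulVec, hew _ (mul_mem hk hb)]
    have h3 : hB (k *ᵥ (b *ᵥ e)) (b *ᵥ e) = 0 := by
      rw [D.adj_right hb, Matrix.mulVec_mulVec, Matrix.mulVec_mulVec, he _ (mul_mem (mul_mem (D.mem _ hb) hk) hb)]
    have h4 : hB (k *ᵥ w₀) w₀ = T (M * k) := (hMk k hk).symm
    rw [Matrix.mulVec_add, D.herm.add_left, D.herm.add_right, D.herm.add_right, h1, h2, h3, h4, hτb,
      Matrix.smul_mul, map_smul, Matrix.mul_smul, map_smul, D.field.comm k hk M hM, smul_eq_mul, smul_eq_mul]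
    linear_combination T (M * k) * D.four.rel
  · rw [Matrix.mulVec_add, D.herm.add_left, hw₀ k hk, Matrix.mulVec_mulVec, he _ (mul_mem hk hb), add_zero]
  · rw [D.herm.add_right, hew k hk, D.adj_right hb, Matrix.mulVec_mulVec, he _ (mul_mem (D.mem _ hb) hk), add_zero]


/-- The expansion of the form in hyperbolic coordinates. -/
theorem form_pair {e w : V6} {T : M6 →ₗ[F] F} (he : ∀ k ∈ K, hB (k *ᵥ e) e = 0) (hw : ∀ k ∈ K, hB (k *ᵥ w) w = 0)
    (hwe : ∀ k ∈ K, hB (k *ᵥ w) e = T k) (hew : ∀ k ∈ K, hB (k *ᵥ e) w = T k) {a b c d k : M6} (ha : a ∈ K)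
    (hb : b ∈ K) (hc : c ∈ K) (hd : d ∈ K) (hk : k ∈ K) :
    hB (k *ᵥ (a *ᵥ e + b *ᵥ w)) (c *ᵥ e + d *ᵥ w) = T ((τ d * a + τ c * b) * k) := by
  have hc' := D.mem _ hc
  have hd' := D.mem _ hd
  rw [Matrix.mulVec_add, D.herm.add_left, D.herm.add_right, D.herm.add_right, D.adj_right hc, D.adj_right hc,
    D.adj_right hd, D.adj_right hd]
  simp only [Matrix.mulVec_mulVec]
  rw [he _ (mul_mem hc' (mul_mem hk ha)), hwe _ (mul_mem hc' (mul_mem hk hb)),
    hew _ (mul_mem hd' (mul_mem hk ha)), hw _ (mul_mem hd' (mul_mem hk hb)), zero_add, add_zero,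
    add_mul, map_add, D.field.comm k hk b hb, D.field.comm k hk a ha]
  simp only [mul_assoc]

/-- A basis of fixed elements. -/
theorem exists_fixed_basis : ∃ B : Fin 3 → M6, (∀ i, B i ∈ K) ∧ (∀ i, τ (B i) = B i) ∧ LinearIndependent F B ∧
    ∀ x ∈ K, ∃ c : Fin 3 → F, x = ∑ i, c i • B i ∧ (τ x = x → ∀ i, σ (c i) = c i) := by
  classical
  obtain ⟨b, hbs, hspan, hli⟩ := exists_linearIndependent F {x : M6 | x ∈ K ∧ τ x = x}
  have hK : Submodule.span F {x : M6 | x ∈ K ∧ τ x = x} = Subalgebra.toSubmodule K := by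
    refine le_antisymm (Submodule.span_le.2 fun x hx => hx.1) fun x hx => ?_
    obtain ⟨a, ha, b, hb, haf, hbf, rfl⟩ := D.split hx
    exact add_mem (Submodule.subset_span ⟨ha, haf⟩) (Submodule.smul_mem _ _ (Submodule.subset_span ⟨hb, hbf⟩))
  haveI : Fintype b := Fintype.ofFinite b
  have hcard : Fintype.card b = 3 := by
    rw [← finrank_span_eq_card hli, Subtype.range_coe_subtype, Set.setOf_mem_eq, hspan, hK]
    exact D.field.finrank_eq
  let ε : Fin 3 ≃ b := (Fintype.equivFinOfCardEq hcard).symm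
  have hBi : LinearIndependent F fun i => (ε i : M6) := hli.comp ε ε.injective
  refine ⟨fun i => (ε i : M6), fun i => (hbs (ε i).2).1, fun i => (hbs (ε i).2).2, hBi, fun x hx => ?_⟩
  have hx' : x ∈ Submodule.span F (Set.range fun i => (ε i : M6)) := by
    rw [show (Set.range fun i => (ε i : M6)) = b by
      ext y; exact ⟨fun ⟨i, hi⟩ => hi ▸ (ε i).2, fun hy => ⟨ε.symm ⟨y, hy⟩, by simp⟩⟩, hspan, hK]
    exact hx
  obtain ⟨c, rfl⟩ := (Submodule.mem_span_range_iff_exists_fun F).1 hx'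
  refine ⟨c, rfl, fun hτ i => ?_⟩
  let τh : M6 →+ M6 := ⟨⟨τ, D.zero⟩, D.add⟩
  have h1 : ∑ i, σ (c i) • (ε i : M6) = ∑ i, c i • (ε i : M6) := by
    refine Eq.trans ?_ hτ
    show _ = τh _
    rw [map_sum]
    refine Finset.sum_congr rfl fun j _ => ?_
    show _ = τ _
    rw [D.smul, (hbs (ε j).2).2]
  exact hBi.eq_coords_of_eq h1 i

/-- The coordinates of a pair of vectors over the field. -/
theorem exists_coords {e w : V6} {T : M6 →ₗ[F] F} (he : ∀ k ∈ K, hB (k *ᵥ e) e = 0)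
    (hw : ∀ k ∈ K, hB (k *ᵥ w) w = 0) (hwe : ∀ k ∈ K, hB (k *ᵥ w) e = T k) (hew : ∀ k ∈ K, hB (k *ᵥ e) w = T k)
    (hT : ∀ N ∈ K, (∀ k ∈ K, T (N * k) = 0) → N = 0) {B : Fin 3 → M6} (hBm : ∀ i, B i ∈ K)
    (hli : LinearIndependent F B) :
    ∃ P : GL (Fin 6) F, ∀ u : V6, (P : M6) *ᵥ u = (∑ i, u (finSumFinEquiv (m := 3) (n := 3) (.inl i)) • B i) *ᵥ e +
      (∑ i, u (finSumFinEquiv (m := 3) (n := 3) (.inr i)) • B i) *ᵥ w := by
  classical
  let col : Fin 3 ⊕ Fin 3 → V6 := Sum.elim (fun i => B i *ᵥ e) (fun i => B i *ᵥ w)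
  let M : M6 := Matrix.of fun a l => col ((finSumFinEquiv (m := 3) (n := 3)).symm l) a
  have hM : ∀ u : V6, M *ᵥ u = (∑ i, u (finSumFinEquiv (m := 3) (n := 3) (.inl i)) • B i) *ᵥ e +
      (∑ i, u (finSumFinEquiv (m := 3) (n := 3) (.inr i)) • B i) *ᵥ w := by
    intro u
    rw [Matrix.sum_mulVec, Matrix.sum_mulVec]
    funext a
    rw [Matrix.mulVec, dotProduct, ← (finSumFinEquiv (m := 3) (n := 3)).sum_comp, Fintype.sum_sum_type, Pi.add_apply,
      Finset.sum_apply, Finset.sum_apply]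
    simp [M, col, Matrix.smul_mulVec, mul_comm]
  have hinj : Function.Injective M.mulVecLin := by
    refine (injective_iff_map_eq_zero _).2 fun u hu => ?_
    rw [Matrix.mulVecLin_apply, hM] at hu
    set a := ∑ i, u (finSumFinEquiv (m := 3) (n := 3) (.inl i)) • B i
    set b := ∑ i, u (finSumFinEquiv (m := 3) (n := 3) (.inr i)) • B i
    have ha : a ∈ K := Subalgebra.sum_mem K fun i _ => K.smul_mem (hBm i) _
    have hb : b ∈ K := Subalgebra.sum_mem K fun i _ => K.smul_mem (hBm i) _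
    have key : ∀ c ∈ K, ∀ d ∈ K, ∀ k ∈ K, T ((τ d * a + τ c * b) * k) = 0 := fun c hc d hd k hk => by
      rw [← D.form_pair he hw hwe hew ha hb hc hd hk, hu, Matrix.mulVec_zero, D.herm.toSesq.zero_left]
    have ha0 : a = 0 := hT _ ha fun k hk => by
      have := key 0 (zero_mem K) 1 (one_mem K) k hk
      rwa [D.one, D.zero, one_mul, zero_mul, add_zero] at this
    have hb0 : b = 0 := hT _ hb fun k hk => by
      have := key 1 (one_mem K) 0 (zero_mem K) k hk
      rwa [D.one, D.zero, one_mul, zero_mul, zero_add] at this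
    funext l
    obtain ⟨l', rfl⟩ := (finSumFinEquiv (m := 3) (n := 3)).surjective l
    rcases l' with i | i
    · exact Fintype.linearIndependent_iff.1 hli _ ha0 i
    · exact Fintype.linearIndependent_iff.1 hli _ hb0 i
  have hu : IsUnit M := Matrix.mulVec_injective_iff_isUnit.1 fun x y hxy => hinj hxy
  exact ⟨hu.unit, fun u => hM u⟩

/-- Fixed multiples of one element. -/
theorem ray {a b : M6} (ha : a ∈ K) (hb : b ∈ K) (h : τ (τ b * a) = τ b * a) (hb0 : b ≠ 0) :
    ∃ r ∈ K, τ r = r ∧ a = b * r := by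
  obtain ⟨y, hy, hby⟩ := D.field.inv b hb hb0
  have hy1 : τ y * τ b = 1 := by rw [← D.mul y hy b hb, D.field.comm y hy b hb, hby, D.one]
  have hτy := D.mem _ hy
  refine ⟨a * y, mul_mem ha hy, ?_, ?_⟩
  · rw [D.mul _ (D.mem _ hb) _ ha, D.invol] at h
    rw [D.mul a ha y hy]
    calc τ a * τ y = τ a * τ y * (b * y) := by rw [hby, mul_one]
      _ = τ y * (b * τ a) * y := by
        rw [D.field.comm (τ a) (D.mem _ ha) (τ y) hτy, D.field.comm b hb (τ a) (D.mem _ ha)]
        simp only [mul_assoc]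
      _ = a * y := by rw [h, ← mul_assoc (τ y), hy1, one_mul]
  · rw [D.field.comm a ha y hy, ← mul_assoc, hby, one_mul]

/-- The fixed elements form a field with eight elements, so the involution is the eighth power. -/
theorem pow_eight {k : M6} (hk : k ∈ K) : k ^ 8 = τ k := by
  classical
  letI : Field K := (field_model D.field).toField
  obtain ⟨B, hBK, hBf, hBli, hBc⟩ := D.exists_fixed_basis
  let E := {x : K // τ (x : M6) = x ∧ x ≠ 0}
  have h2K : (2 : K) = 0 := by rw [← map_ofNat (algebraMap F K) 2, D.four.two, map_zero]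
  have h0 : Fintype.card {x : K // τ (x : M6) = x} = 8 := by
    let φ : (Fin 3 → {c : F // σ c = c}) → {x : K // τ (x : M6) = x} := fun c =>
      ⟨⟨∑ i, (c i : F) • B i, Subalgebra.sum_mem K fun i _ => K.smul_mem (hBK i) _⟩, by
        let τh : M6 →+ M6 := ⟨⟨τ, D.zero⟩, D.add⟩
        show τh (∑ i, (c i : F) • B i) = ∑ i, (c i : F) • B i
        rw [map_sum]
        refine Finset.sum_congr rfl fun i _ => ?_
        show τ _ = _
        rw [D.smul, hBf, (c i).2]⟩
    have hφ : Function.Bijective φ := by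
      refine ⟨fun c c' e => funext fun i => Subtype.ext ?_, fun x => ?_⟩
      · exact hBli.eq_coords_of_eq (f := fun i => (c i : F)) (g := fun i => (c' i : F))
          (congrArg (fun z : {x : K // τ (x : M6) = x} => ((z.1 : K) : M6)) e) i
      · obtain ⟨c, hc, hcf⟩ := hBc _ x.1.2
        exact ⟨fun i => ⟨c i, hcf x.2 i⟩, Subtype.ext (Subtype.ext hc.symm)⟩
    have h2 : Fintype.card {c : F // σ c = c} = 2 := by
      rw [Fintype.card_subtype, show (Finset.univ.filter fun c : F => σ c = c) = {0, 1} by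
        ext c
        simp only [Finset.mem_filter, Finset.mem_univ, true_and, Finset.mem_insert, Finset.mem_singleton]
        exact ⟨D.σ_fix, fun h => by rcases h with rfl | rfl <;> simp⟩]
      simp
    rw [← Fintype.card_of_bijective hφ, Fintype.card_fun, h2, Fintype.card_fin]; norm_num
  have h7 : Fintype.card E = 7 := by
    rw [Fintype.card_subtype] at h0
    rw [Fintype.card_subtype, show (Finset.univ.filter fun x : K => τ (x : M6) = x ∧ x ≠ 0) =
      (Finset.univ.filter fun x : K => τ (x : M6) = x).erase 0 by ext x; simp [and_comm],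
      Finset.card_erase_of_mem (by simpa using D.zero), h0]
  have hfix : ∀ x : K, τ (x : M6) = x → x ^ 8 = x := by
    intro x hx
    by_cases hx0 : x = 0
    · rw [hx0, zero_pow (by norm_num)]
    let m : E → E := fun y => ⟨x * y.1, by
      show τ ((x : M6) * (y.1 : M6)) = _
      rw [D.mul _ x.2 _ y.1.2, hx, y.2.1]; rfl, mul_ne_zero hx0 y.2.2⟩
    have hm : Function.Bijective m := Finite.injective_iff_bijective.1 fun y y' e =>
      Subtype.ext (mul_left_cancel₀ hx0 (congrArg Subtype.val e))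
    have h := (Equiv.ofBijective m hm).prod_comp fun y : E => (y : K)
    have h' : x ^ 7 * ∏ y : E, (y : K) = ∏ y : E, (y : K) := by
      refine Eq.trans ?_ h
      show _ = ∏ y : E, x * (y : K)
      rw [Finset.prod_mul_distrib, Finset.prod_const, Finset.card_univ, h7]
    have := (mul_eq_right₀ (Finset.prod_ne_zero_iff.2 fun y _ => y.2.2)).1 h'
    rw [pow_succ, this, one_mul]
  have hadd : ∀ a b : K, (a + b) ^ 8 = a ^ 8 + b ^ 8 := fun a b => by
    have h1 : ∀ a b : K, (a + b) ^ 2 = a ^ 2 + b ^ 2 := fun a b => by linear_combination (a * b) * h2K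
    rw [show (8 : ℕ) = 2 * 2 * 2 by rfl]
    simp only [pow_mul, h1]
  obtain ⟨a, ha, b, hb, haf, hbf, rfl⟩ := D.split hk
  have h := hadd ⟨a, ha⟩ (ω • ⟨b, hb⟩)
  rw [hfix ⟨a, ha⟩ haf, smul_pow, hfix ⟨b, hb⟩ hbf] at h
  rw [D.add, D.smul, haf, hbf, D.four.pow]
  refine (congrArg Subtype.val h).trans ?_
  show a + ω ^ 8 • b = a + ω ^ 2 • b
  rw [show ω ^ 8 = ω ^ 2 by linear_combination (ω ^ 5 + ω ^ 2) * D.four.cube]

/-- The cube roots of unity in the field are scalars. -/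
theorem cube_root {x : M6} (hx : x ∈ K) (h : x ^ 3 = 1) : ∃ c : F, c ^ 3 = 1 ∧ x = c • (1 : M6) := by
  letI : Field K := (field_model D.field).toField
  have h2K : (2 : K) = 0 := by rw [← map_ofNat (algebraMap F K) 2, D.four.two, map_zero]
  set o := algebraMap F K ω
  have hr : 1 + o + o ^ 2 = 0 := by rw [← map_one (algebraMap F K), ← map_pow, ← map_add, ← map_add, D.four.rel, map_zero]
  have h' : (⟨x, hx⟩ : K) ^ 3 = 1 := Subtype.ext h
  generalize hk : (⟨x, hx⟩ : K) = k at h'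
  have hcases : (k - 1) * ((k - o) * (k - o ^ 2)) = 0 := by
    linear_combination h' + (-k ^ 2 + o * k - o + 1) * hr
  have e : ∀ c : F, k = algebraMap F K c → x = c • (1 : M6) := fun c hc => by
    rw [← Algebra.algebraMap_eq_smul_one]
    exact congrArg Subtype.val (hk.trans hc)
  rcases mul_eq_zero.1 hcases with h1 | h1
  · exact ⟨1, one_pow 3, e 1 (by rw [map_one]; exact sub_eq_zero.1 h1)⟩
  rcases mul_eq_zero.1 h1 with h1 | h1
  · exact ⟨ω, D.four.cube, e ω (sub_eq_zero.1 h1)⟩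
  · exact ⟨ω ^ 2, by rw [← pow_mul, mul_comm, pow_mul, D.four.cube, one_pow],
      e (ω ^ 2) (by rw [map_pow]; exact sub_eq_zero.1 h1)⟩

/-- An element of norm one in the field is a scalar, or its cube is a scalar and it has determinant a square of
that scalar. -/
theorem norm_one_det {κ : M6} (hκ : κ ∈ K) (hn : τ κ * κ = 1) {e w : V6} {T : M6 →ₗ[F] F}
    (he : ∀ k ∈ K, hB (k *ᵥ e) e = 0) (hw : ∀ k ∈ K, hB (k *ᵥ w) w = 0) (hwe : ∀ k ∈ K, hB (k *ᵥ w) e = T k)
    (hew : ∀ k ∈ K, hB (k *ᵥ e) w = T k) (hT : ∀ N ∈ K, (∀ k ∈ K, T (N * k) = 0) → N = 0) :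
    (∃ c : F, c ≠ 0 ∧ κ = c • (1 : M6)) ∨ κ.det ≠ 1 := by
  classical
  obtain ⟨ζ, hζ, hκ3⟩ := D.cube_root (pow_mem hκ 3) (by
    rw [← pow_mul, show 3 * 3 = 8 + 1 by rfl, pow_succ, D.pow_eight hκ, hn])
  have hζ0 : ζ ≠ 0 := fun e => by simp [e] at hζ
  by_cases hζ1 : ζ = 1
  · rw [hζ1, one_smul] at hκ3
    obtain ⟨c, hc, hcκ⟩ := D.cube_root hκ hκ3
    exact Or.inl ⟨c, fun e => by simp [e] at hc, hcκ⟩
  right
  have h2 := D.four.two
  have hζr : 1 + ζ + ζ ^ 2 = 0 := by
    refine (mul_eq_zero.1 ?_).resolve_left (sub_ne_zero.2 hζ1)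
    linear_combination hζ
  have hc3 : ∀ c : F, c ≠ 0 → c ^ 3 = 1 := fun c hc => by
    have := FiniteField.pow_card_sub_one_eq_one c hc
    rwa [D.four.card] at this
  have hli : LinearIndependent F ![(1 : M6), κ, κ * κ] := by
    letI : Field K := (field_model D.field).toField
    set z := algebraMap F K ζ
    set k : K := ⟨κ, hκ⟩
    have hz : 1 + z + z ^ 2 = 0 := by
      rw [← map_one (algebraMap F K), ← map_pow, ← map_add, ← map_add, hζr, map_zero]
    have hk3 : k ^ 3 = z := Subtype.ext (hκ3.trans (Algebra.algebraMap_eq_smul_one ζ).symm)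
    have h2K : (2 : K) = 0 := by rw [← map_ofNat (algebraMap F K) 2, h2, map_zero]
    have hk0 : k ≠ 0 := fun e => hζ0 ((algebraMap F K).injective (by rw [map_zero]; rw [e, zero_pow (by norm_num)] at hk3; exact hk3.symm))
    rw [Fintype.linearIndependent_iff]
    intro c hc
    simp only [Fin.sum_univ_three, Matrix.cons_val_zero, Matrix.cons_val_one, Matrix.cons_val_two, Matrix.head_cons,
      Matrix.tail_cons] at hc
    set A := algebraMap F K (c 0)
    set B := algebraMap F K (c 1)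
    set C := algebraMap F K (c 2)
    have h1 : A + B * k + C * k ^ 2 = 0 := by
      apply Subtype.ext
      refine Eq.trans ?_ hc
      show algebraMap F M6 (c 0) + algebraMap F M6 (c 1) * κ + algebraMap F M6 (c 2) * κ ^ 2 = _
      simp only [← Algebra.smul_def, Algebra.algebraMap_eq_smul_one, pow_two, Matrix.smul_mul, one_mul]
    have hfrob : ∀ a : F, algebraMap F K a ^ 4 = algebraMap F K a := fun a => by
      rw [← map_pow, ← D.four.card, FiniteField.pow_card]
    have hsq : ∀ a b : K, (a + b) ^ 4 = a ^ 4 + b ^ 4 := fun a b => by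
      linear_combination (2 * a ^ 3 * b + 3 * a ^ 2 * b ^ 2 + 2 * a * b ^ 3) * h2K
    have hstep : ∀ s : K, A + B * s + C * s ^ 2 = 0 → A + B * s ^ 4 + C * (s ^ 4) ^ 2 = 0 := fun s hs => by
      have := congrArg (· ^ 4) hs
      simp only [hsq, mul_pow, A, B, C, hfrob, zero_pow (show 4 ≠ 0 by norm_num)] at this
      rw [← pow_mul, mul_comm 4 2, pow_mul]
      exact this
    have hk4 : k ^ 4 = z * k := by rw [pow_succ, hk3]
    have h2' := hstep k h1
    rw [hk4] at h2'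
    have h3' := hstep (z * k) h2'
    rw [mul_pow, hk4, show z ^ 4 = z by rw [← map_pow, ← D.four.card, FiniteField.pow_card]] at h3'
    have hA : A = 0 := by linear_combination h1 + h2' + h3' - A * h2K - (B * k) * hz -
      (C * k ^ 2 * (1 - z + z ^ 2)) * hz
    have hA0 : c 0 = 0 := (algebraMap F K).injective (hA.trans (map_zero _).symm)
    have hBC : B + C * k = 0 := by
      refine (mul_eq_zero.1 ?_).resolve_right hk0
      linear_combination h1 - hA
    have hC : c 2 = 0 := by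
      by_contra hne
      have hCne : C ≠ 0 := fun e => hne ((algebraMap F K).injective (e.trans (map_zero _).symm))
      have hkF : k = algebraMap F K (c 1 * (c 2)⁻¹) := by
        rw [map_mul, map_inv₀, eq_mul_inv_iff_mul_eq₀ hCne]
        linear_combination hBC - B * h2K
      refine hζ1 ((algebraMap F K).injective ?_)
      rw [← show k ^ 3 = algebraMap F K ζ from hk3, hkF, ← map_pow]
      refine congrArg _ (hc3 _ fun e => hk0 ?_)
      rw [hkF, e, map_zero]
    have hB0 : c 1 = 0 := (algebraMap F K).injective (by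
      rw [map_zero]
      refine Eq.trans ?_ hBC
      show B = _
      simp [C, hC])
    intro i
    fin_cases i <;> assumption
  obtain ⟨P, hP⟩ := D.exists_coords he hw hwe hew hT (B := ![1, κ, κ * κ])
    (fun i => by fin_cases i <;> simp [hκ, mul_mem hκ hκ]) hli
  let C3 : Matrix (Fin 3) (Fin 3) F := !![0, 0, ζ; 1, 0, 0; 0, 1, 0]
  let C : M6 := (Matrix.fromBlocks C3 0 0 C3).submatrix (finSumFinEquiv (m := 3) (n := 3)).symm
    (finSumFinEquiv (m := 3) (n := 3)).symm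
  have hC : κ * (P : M6) = (P : M6) * C := by
    refine Matrix.ext_of_mulVec_single fun l => ?_
    obtain ⟨l', rfl⟩ := (finSumFinEquiv (m := 3) (n := 3)).surjective l
    rw [← Matrix.mulVec_mulVec, ← Matrix.mulVec_mulVec, hP, hP]
    have hk3' : κ * (κ * κ) = ζ • (1 : M6) := by rw [← hκ3, pow_succ', pow_two]
    rcases l' with i | i <;> fin_cases i <;>
      simp [C, C3, Fin.sum_univ_three, Matrix.mulVec_single_one, Matrix.mulVec_mulVec, hk3', Matrix.col_apply]
  have hdet : κ.det = ζ * ζ := by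
    have h1 := congrArg Matrix.det hC
    rw [Matrix.det_mul, Matrix.det_mul, mul_comm (P : M6).det,
      show C.det = ζ * ζ by
        rw [Matrix.det_submatrix_equiv_self, Matrix.det_fromBlocks_zero₂₁]
        simp [C3, Matrix.det_fin_three]] at h1
    exact mul_right_cancel₀ ((Matrix.isUnit_iff_isUnit_det _).1 P.isUnit).ne_zero h1
  intro h
  rw [hdet] at h
  exact hζ1 (by linear_combination hζ - ζ * h)

theorem det_fixed {n : Type} [DecidableEq n] [Fintype n] {M : Matrix n n F} (hM : ∀ i j, σ (M i j) = M i j) :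
    σ M.det = M.det := by
  rw [σ.map_det]
  congr 1
  ext i j
  exact hM i j

/-- The normaliser of the field inside the special unitary group lies in a subfield group. -/
theorem le_subfield : ∃ (F₀ : Subfield F) (P : GL (Fin 6) F), Fintype.card F = Nat.card F₀ ^ 2 ∧
    IsFormRationalStructure hB F₀ 1 P ∧
    (∀ u : V6, (∀ i, u i ∈ F₀) → hB ((P : M6) *ᵥ u) ((P : M6) *ᵥ u) = 0) ∧
    subalgebraNormalizer K ⊓ (GU 6 F 2 ⊓ specialLinear (Fin 6) F) ≤ subfieldSubgroup F₀ P := by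
  classical
  obtain ⟨e, w, T, he, hw, hwe, hew, hTτ, hT⟩ := D.exists_pair
  obtain ⟨B, hBK, hBf, hBli, hBc⟩ := D.exists_fixed_basis
  obtain ⟨P, hP⟩ := D.exists_coords he hw hwe hew hT hBK hBli
  set F₀ : Subfield F := RingHom.eqLocusField (σ : F →+* F) (RingHom.id F) with hF₀
  have hmem : ∀ x, x ∈ F₀ ↔ σ x = x := fun x => Iff.rfl
  have hcard : Nat.card F₀ = 2 := by
    rw [Nat.card_eq_two_iff]
    refine ⟨0, 1, zero_ne_one, ?_⟩
    ext ⟨x, hx⟩
    simp only [Set.mem_insert_iff, Set.mem_singleton_iff, Set.mem_univ, iff_true]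
    rcases D.σ_fix ((hmem x).1 hx) with rfl | rfl
    · exact Or.inl rfl
    · exact Or.inr rfl
  let W : Set V6 := {x | ∃ a ∈ K, ∃ b ∈ K, τ a = a ∧ τ b = b ∧ x = a *ᵥ e + b *ᵥ w}
  let τh : M6 →+ M6 := ⟨⟨τ, D.zero⟩, D.add⟩
  have hfixsum : ∀ c : Fin 3 → F, (∀ i, σ (c i) = c i) → τ (∑ i, c i • B i) = ∑ i, c i • B i := fun c hc => by
    show τh _ = _
    rw [map_sum]
    exact Finset.sum_congr rfl fun i _ => by show τ _ = _; rw [D.smul, hBf, hc]
  have hsumK : ∀ c : Fin 3 → F, ∑ i, c i • B i ∈ K := fun c => Subalgebra.sum_mem K fun i _ => K.smul_mem (hBK i) _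
  have hPW : ∀ u : V6, (∀ i, u i ∈ F₀) → (P : M6) *ᵥ u ∈ W := fun u hu =>
    ⟨_, hsumK _, _, hsumK _, hfixsum _ fun i => (hmem _).1 (hu _), hfixsum _ fun i => (hmem _).1 (hu _), hP u⟩
  have hWP : ∀ x ∈ W, ∃ u : V6, (∀ i, u i ∈ F₀) ∧ (P : M6) *ᵥ u = x := by
    rintro x ⟨a, ha, b, hb, haf, hbf, rfl⟩
    obtain ⟨c, hc, hcf⟩ := hBc a ha
    obtain ⟨c', hc', hcf'⟩ := hBc b hb
    refine ⟨fun l => Sum.elim c c' ((finSumFinEquiv (m := 3) (n := 3)).symm l), fun l => ?_, ?_⟩
    · obtain ⟨l', rfl⟩ := (finSumFinEquiv (m := 3) (n := 3)).surjective l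
      rw [hmem]
      rcases l' with i | i
      · simpa using hcf haf i
      · simpa using hcf' hbf i
    · rw [hP, hc, hc']; simp
  have hform : ∀ a ∈ K, ∀ b ∈ K, ∀ c ∈ K, ∀ d ∈ K, τ c = c → τ d = d →
      hB (a *ᵥ e + b *ᵥ w) (c *ᵥ e + d *ᵥ w) = T (d * a + c * b) := fun a ha b hb c hc d hd hcf hdf => by
    have := D.form_pair he hw hwe hew ha hb hc hd (one_mem K)
    rwa [Matrix.one_mulVec, hcf, hdf, mul_one] at this
  refine ⟨F₀, P, by rw [D.four.card, hcard]; rfl, fun u v hu hv => ?_, fun u hu => ?_, fun g hg => ?_⟩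
  · obtain ⟨a, ha, b, hb, haf, hbf, hPu⟩ := hPW u hu
    obtain ⟨c, hc, d, hd, hcf, hdf, hPv⟩ := hPW v hv
    rw [hmem, one_mul, hPu, hPv, hform a ha b hb c hc d hd hcf hdf,
      ← hTτ _ (add_mem (mul_mem hd ha) (mul_mem hc hb)), D.add, D.mul d hd a ha, D.mul c hc b hb, haf, hbf, hcf,
      hdf]
  · obtain ⟨a, ha, b, hb, haf, hbf, hPu⟩ := hPW u hu
    rw [hPu, hform a ha b hb a ha b hb haf hbf, D.field.comm b hb a ha, map_add]
    linear_combination T (a * b) * D.four.two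
  obtain ⟨hgN, hgU, hgS⟩ := hg
  set gm := (g : M6)
  set gi := ((g⁻¹ : GL (Fin 6) F) : M6)
  have hiso : ∀ x y, hB (gm *ᵥ x) (gm *ᵥ y) = hB x y := MaxTv.mem_GU.1 hgU
  have hgig : gi * gm = 1 := g.inv_mul
  have hggi : gm * gi = 1 := g.mul_inv
  have hθ : ∀ k ∈ K, gm * k * gi ∈ K := fun k hk => (hgN k).1 hk
  have hθ' : ∀ k ∈ K, gi * k * gm ∈ K := fun k hk => by
    refine (hgN _).2 ?_
    rw [show gm * (gi * k * gm) * gi = (gm * gi) * k * (gm * gi) by simp only [mul_assoc], hggi, one_mul, mul_one]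
    exact hk
  have hback : ∀ k x, k *ᵥ (gm *ᵥ x) = gm *ᵥ ((gi * k * gm) *ᵥ x) := fun k x => by
    rw [Matrix.mulVec_mulVec, Matrix.mulVec_mulVec,
      show gm * (gi * k * gm) = (gm * gi) * k * gm by simp only [mul_assoc], hggi, one_mul]
  have hθτ : ∀ k ∈ K, τ (gi * k * gm) = gi * τ k * gm := by
    intro k hk
    refine Matrix.ext_of_mulVec_single fun l => funext fun j => ?_
    have h1 : ∀ u v, hB u (τ (gi * k * gm) *ᵥ v) = hB u ((gi * τ k * gm) *ᵥ v) := fun u v => by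
      rw [← D.adj _ (hθ' k hk), ← hiso, ← hback k, D.adj _ hk, hback (τ k), hiso]
    have h2 := congrArg σ (h1 (Pi.single j 1) (Pi.single l 1))
    rwa [← D.herm.herm, ← D.herm.herm, hermForm_single_right (q := 2) D.four.card,
      hermForm_single_right (q := 2) D.four.card] at h2
  have hsurjP : ∀ x : V6, ∃ a ∈ K, ∃ b ∈ K, x = a *ᵥ e + b *ᵥ w := fun x => by
    let u := ((P⁻¹ : GL (Fin 6) F) : M6) *ᵥ x
    refine ⟨∑ i, u (finSumFinEquiv (m := 3) (n := 3) (.inl i)) • B i, hsumK _,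
      ∑ i, u (finSumFinEquiv (m := 3) (n := 3) (.inr i)) • B i, hsumK _, ?_⟩
    rw [← hP u, Matrix.mulVec_mulVec, P.mul_inv, Matrix.one_mulVec]
  obtain ⟨a, ha, b, hb, hge⟩ := hsurjP (gm *ᵥ e)
  obtain ⟨c, hc, d, hd, hgw⟩ := hsurjP (gm *ᵥ w)
  have hτ := D.mem
  have hray : ∀ {a b : M6} {x : V6}, a ∈ K → b ∈ K → gm *ᵥ x = a *ᵥ e + b *ᵥ w → (∀ k ∈ K, hB (k *ᵥ x) x = 0) →
      τ (τ b * a) = τ b * a := fun {a b x} ha hb hx hx0 => by
    have h0 : τ b * a + τ a * b = 0 := hT _ (add_mem (mul_mem (hτ _ hb) ha) (mul_mem (hτ _ ha) hb)) fun k hk => by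
      rw [← D.form_pair he hw hwe hew ha hb ha hb hk, ← hx, hback, hiso]
      exact hx0 _ (hθ' k hk)
    rw [D.mul _ (hτ _ hb) _ ha, D.invol, D.field.comm b hb (τ a) (hτ _ ha)]
    exact ((eq_neg_of_add_eq_zero_left h0).trans (D.neg_eq _)).symm
  have hXk : ∀ k ∈ K, T ((τ d * a + τ c * b) * k) = T (gi * k * gm) := fun k hk => by
    rw [← D.form_pair he hw hwe hew ha hb hc hd hk, ← hge, ← hgw, hback, hiso, hew _ (hθ' k hk)]
  set X := τ d * a + τ c * b with hX
  have hXK : X ∈ K := add_mem (mul_mem (hτ _ hd) ha) (mul_mem (hτ _ hc) hb)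
  have hX0 : X ≠ 0 := fun e0 => by
    have h1 := hT 1 (one_mem K) fun k hk => by
      have h2 := hXk _ (hθ k hk)
      rw [e0, zero_mul, map_zero,
        show gi * (gm * k * gi) * gm = (gi * gm) * k * (gi * gm) by simp only [mul_assoc], hgig, one_mul, mul_one] at h2
      rw [one_mul]; exact h2.symm
    exact one_ne_zero h1
  have hXf : τ X = X := by
    have h0 : τ X + X = 0 := hT _ (add_mem (hτ _ hXK) hXK) fun k hk => by
      have h1 : T (τ X * k) = σ (T (X * τ k)) := by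
        rw [← hTτ _ (mul_mem hXK (hτ _ hk)), D.mul _ hXK _ (hτ _ hk), D.invol]
      rw [add_mul, map_add, h1, hXk _ (hτ _ hk), ← hθτ k hk, hTτ _ (hθ' k hk), D.herm.invol, hXk _ hk]
      linear_combination T (gi * k * gm) * D.four.two
    exact (eq_neg_of_add_eq_zero_left h0).trans (D.neg_eq _)
  obtain ⟨lam, hlam, hlam0, a₀, ha₀, b₀, hb₀, ha₀f, hb₀f, hae, hbe⟩ : ∃ l ∈ K, l ≠ 0 ∧ ∃ r ∈ K, ∃ s ∈ K,
      τ r = r ∧ τ s = s ∧ a = l * r ∧ b = l * s := by
    by_cases hb0 : b = 0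
    · refine ⟨a, ha, fun e0 => hX0 ?_, 1, one_mem K, 0, zero_mem K, D.one, D.zero, (mul_one a).symm, by
        rw [hb0, mul_zero]⟩
      rw [hX, e0, hb0, mul_zero, mul_zero, add_zero]
    · obtain ⟨r, hr, hrf, har⟩ := D.ray ha hb (hray ha hb hge he) hb0
      exact ⟨b, hb, hb0, r, hr, 1, one_mem K, hrf, D.one, har, (mul_one b).symm⟩
  obtain ⟨mu, hmu, c₀, hc₀, d₀, hd₀, hc₀f, hd₀f, hce, hde⟩ : ∃ l ∈ K, ∃ r ∈ K, ∃ s ∈ K,
      τ r = r ∧ τ s = s ∧ c = l * r ∧ d = l * s := by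
    by_cases hd0 : d = 0
    · exact ⟨c, hc, 1, one_mem K, 0, zero_mem K, D.one, D.zero, (mul_one c).symm, by rw [hd0, mul_zero]⟩
    · obtain ⟨r, hr, hrf, hcr⟩ := D.ray hc hd (hray hc hd hgw hw) hd0
      exact ⟨d, hd, r, hr, 1, one_mem K, hrf, D.one, hcr, (mul_one d).symm⟩
  obtain ⟨ν, hν, hνf, hmuν⟩ : ∃ ν ∈ K, τ ν = ν ∧ mu = lam * ν := by
    refine D.ray hmu hlam ?_ hlam0
    set Y := d₀ * a₀ + c₀ * b₀
    have hY : Y ∈ K := add_mem (mul_mem hd₀ ha₀) (mul_mem hc₀ hb₀)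
    have hXY : X = τ mu * lam * Y := by
      rw [hX, hde, hce, hae, hbe, D.mul _ hmu _ hd₀, D.mul _ hmu _ hc₀, hd₀f, hc₀f, mul_add]
      congr 1
      · rw [mul_assoc (τ mu) d₀, ← mul_assoc d₀, D.field.comm d₀ hd₀ lam hlam]; simp only [mul_assoc]
      · rw [mul_assoc (τ mu) c₀, ← mul_assoc c₀, D.field.comm c₀ hc₀ lam hlam]; simp only [mul_assoc]
    obtain ⟨y, hy, hYy⟩ := D.field.inv Y hY fun e0 => hX0 (by rw [hXY, e0, mul_zero])
    have hYf : τ Y = Y := by rw [D.add, D.mul _ hd₀ _ ha₀, D.mul _ hc₀ _ hb₀, hd₀f, ha₀f, hc₀f, hb₀f]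
    have hyf : τ y = y := by
      calc τ y = τ y * (Y * y) := by rw [hYy, mul_one]
        _ = τ (y * Y) * y := by rw [D.mul _ hy _ hY, hYf, mul_assoc]
        _ = y := by rw [D.field.comm y hy Y hY, hYy, D.one, one_mul]
    have hml : τ mu * lam = X * y := by rw [hXY, mul_assoc, hYy, mul_one]
    have hmlf : τ (τ mu * lam) = τ mu * lam := by rw [hml, D.mul _ hXK _ hy, hXf, hyf]
    rw [D.mul _ (hτ _ hlam) _ hmu, D.invol, D.field.comm lam hlam (τ mu) (hτ _ hmu), ← hmlf,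
      D.mul _ (hτ _ hmu) _ hlam, D.invol, D.field.comm mu hmu _ (hτ _ hlam)]
  obtain ⟨ρ, hρ, hρf, hρN⟩ := D.exists_sqrt (mul_mem (hτ _ hlam) hlam)
    (by rw [D.mul _ (hτ _ hlam) _ hlam, D.invol, D.field.comm lam hlam _ (hτ _ hlam)])
  obtain ⟨y, hy, hρy⟩ := D.field.inv ρ hρ fun e0 => hlam0 (by
    rw [e0, mul_zero] at hρN
    by_contra hl
    obtain ⟨z, hz, hlz⟩ := D.field.inv lam hlam hl
    have h3 := congrArg (· * z) hρN.symm
    simp only [mul_assoc, hlz, mul_one, zero_mul] at h3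
    exact hl (by rw [← D.invol lam, h3, D.zero]))
  set κ := lam * y with hκdef
  have hκ : κ ∈ K := mul_mem hlam hy
  have hκρ : lam = κ * ρ := by rw [hκdef, mul_assoc, D.field.comm y hy ρ hρ, hρy, mul_one]
  have hκn : τ κ * κ = 1 := by
    have hτy : τ y = y := by
      calc τ y = τ y * (ρ * y) := by rw [hρy, mul_one]
        _ = τ (y * ρ) * y := by rw [D.mul _ hy _ hρ, hρf, mul_assoc]
        _ = y := by rw [D.field.comm y hy ρ hρ, hρy, D.one, one_mul]
    rw [hκdef, D.mul _ hlam _ hy, hτy,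
      show τ lam * y * (lam * y) = τ lam * (y * lam) * y by simp only [mul_assoc], D.field.comm y hy lam hlam,
      show τ lam * (lam * y) * y = (τ lam * lam) * y * y by simp only [mul_assoc], ← hρN, mul_assoc ρ ρ y, hρy,
      mul_one, hρy]
  clear_value κ
  have hgW : ∀ x ∈ W, ∃ x' ∈ W, gm *ᵥ x = κ *ᵥ x' := by
    rintro x ⟨p, hp, r, hr, hpf, hrf, rfl⟩
    have hmul : ∀ k : M6, ∀ v, gm *ᵥ (k *ᵥ v) = (gm * k * gi) *ᵥ (gm *ᵥ v) := fun k v => by
      rw [Matrix.mulVec_mulVec, Matrix.mulVec_mulVec,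
        show gm * k * gi * gm = gm * k * (gi * gm) by simp only [mul_assoc], hgig, mul_one]
    have hfix : ∀ k ∈ K, τ k = k → τ (gm * k * gi) = gm * k * gi := fun k hk hkf => by
      have h1 := hθτ _ (hθ k hk)
      rw [show gi * (gm * k * gi) * gm = (gi * gm) * k * (gi * gm) by simp only [mul_assoc], hgig, one_mul, mul_one,
        hkf] at h1
      calc τ (gm * k * gi) = gm * (gi * τ (gm * k * gi) * gm) * gi := by
            rw [show gm * (gi * τ (gm * k * gi) * gm) * gi = (gm * gi) * τ (gm * k * gi) * (gm * gi) by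
              simp only [mul_assoc], hggi, one_mul, mul_one]
        _ = gm * k * gi := by rw [← h1]
    set p' := gm * p * gi
    set r' := gm * r * gi
    have hp' := hθ p hp
    have hr' := hθ r hr
    set A := ρ * (p' * a₀ + r' * (ν * c₀))
    set C := ρ * (p' * b₀ + r' * (ν * d₀))
    have hp'f := hfix p hp hpf
    have hr'f := hfix r hr hrf
    refine ⟨A *ᵥ e + C *ᵥ w, ⟨A, ?_, C, ?_, ?_, ?_, rfl⟩, ?_⟩
    · exact mul_mem hρ (add_mem (mul_mem hp' ha₀) (mul_mem hr' (mul_mem hν hc₀)))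
    · exact mul_mem hρ (add_mem (mul_mem hp' hb₀) (mul_mem hr' (mul_mem hν hd₀)))
    · rw [D.mul _ hρ _ (add_mem (mul_mem hp' ha₀) (mul_mem hr' (mul_mem hν hc₀))), D.add, D.mul _ hp' _ ha₀,
        D.mul _ hr' _ (mul_mem hν hc₀), D.mul _ hν _ hc₀, hρf, hp'f, hr'f, ha₀f, hνf, hc₀f]
    · rw [D.mul _ hρ _ (add_mem (mul_mem hp' hb₀) (mul_mem hr' (mul_mem hν hd₀))), D.add, D.mul _ hp' _ hb₀,
        D.mul _ hr' _ (mul_mem hν hd₀), D.mul _ hν _ hd₀, hρf, hp'f, hr'f, hb₀f, hνf, hd₀f]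
    · rw [Matrix.mulVec_add, hmul p e, hmul r w, hge, hgw, hae, hbe, hce, hde, hmuν, hκρ]
      simp only [A, C, Matrix.mulVec_add, Matrix.mulVec_mulVec, mul_add, Matrix.add_mulVec]
      have hsw : ∀ {k : M6}, k ∈ K → ∀ z : M6, k * (κ * ρ * z) = κ * (ρ * (k * z)) := fun {k} hk z => by
        rw [← mul_assoc, D.field.comm k hk _ (mul_mem hκ hρ)]; simp only [mul_assoc]
      rw [hsw hp' a₀, hsw hp' b₀, mul_assoc (κ * ρ) ν c₀, mul_assoc (κ * ρ) ν d₀, hsw hr' (ν * c₀),
        hsw hr' (ν * d₀)]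
      abel
  have hcols : ∀ j, ∃ u : V6, (∀ i, u i ∈ F₀) ∧ gm *ᵥ ((P : M6) *ᵥ Pi.single j 1) = κ *ᵥ ((P : M6) *ᵥ u) := fun j => by
    obtain ⟨x', hx', hgx⟩ := hgW _ (hPW (Pi.single j 1) fun i => by
      by_cases h : i = j
      · subst h; rw [Pi.single_eq_same]; exact one_mem F₀
      · rw [Pi.single_eq_of_ne h]; exact zero_mem F₀)
    obtain ⟨u, hu, rfl⟩ := hWP x' hx'
    exact ⟨u, hu, hgx⟩
  choose U hU hgU' using hcols
  let N : M6 := Matrix.of fun i j => U j i
  have hgPN : gm * (P : M6) = κ * ((P : M6) * N) := by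
    refine Matrix.ext_of_mulVec_single fun j => ?_
    rw [← Matrix.mulVec_mulVec, hgU', ← Matrix.mulVec_mulVec, ← Matrix.mulVec_mulVec,
      show N *ᵥ Pi.single j 1 = U j by rw [Matrix.mulVec_single_one]; rfl]
  rcases D.norm_one_det hκ hκn he hw hwe hew hT with ⟨c, hc0, hcκ⟩ | hdκ
  · rw [hcκ, Matrix.smul_mul, Matrix.one_mul] at hgPN
    have hN : IsUnit N := by
      rw [Matrix.isUnit_iff_isUnit_det, isUnit_iff_ne_zero]
      intro h0
      have h1 := congrArg Matrix.det hgPN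
      rw [Matrix.det_mul, Matrix.det_smul, Matrix.det_mul, h0, mul_zero, mul_zero] at h1
      exact mul_ne_zero ((Matrix.isUnit_iff_isUnit_det _).1 g.isUnit).ne_zero
        ((Matrix.isUnit_iff_isUnit_det _).1 P.isUnit).ne_zero h1
    refine mem_subfieldSubgroup_of (k := hN.unit) (d := Units.mk0 c hc0) (fun i j => hU j i) (Units.ext ?_)
    rw [Units.val_mul, Units.val_mul, Units.val_mul, mul_assoc, hgPN, Matrix.mul_smul, ← mul_assoc, P.inv_mul,
      one_mul, IsUnit.unit_spec, Matrix.GeneralLinearGroup.coe_scalar, Matrix.scalar_apply,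
      ← Matrix.smul_one_eq_diagonal, Matrix.smul_mul, one_mul, Units.val_mk0]
  · exfalso
    have hgdet : gm.det = 1 := by
      have h0 := congrArg Units.val (MonoidHom.mem_ker.1 hgS)
      rwa [Matrix.GeneralLinearGroup.val_det_apply, Units.val_one] at h0
    have h1 := congrArg Matrix.det hgPN
    rw [Matrix.det_mul, Matrix.det_mul, Matrix.det_mul, hgdet, one_mul] at h1
    rcases D.σ_fix (D.det_fixed fun i j => (hmem _).1 (hU j i) : σ N.det = N.det) with h0 | h0
    · rw [h0, mul_zero, mul_zero] at h1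
      exact ((Matrix.isUnit_iff_isUnit_det _).1 P.isUnit).ne_zero h1
    · rw [h0, mul_one] at h1
      exact hdκ (mul_right_cancel₀ ((Matrix.isUnit_iff_isUnit_det _).1 P.isUnit).ne_zero (by rw [one_mul]; exact h1.symm))

end CubicData

/-- Over four elements the normaliser of a cubic field is a subfield group of symplectic type, if it is maximal. -/
theorem cubic_subfield {q : ℕ} (hF : Fintype.card F = q ^ 2) (hq : q = 2) {H : Subgroup (GL (Fin 6) F)}
    (hH : IsMaximalIn (GU 6 F q ⊓ specialLinear (Fin 6) F) H) (hK : IsFieldSubalgebra 3 K)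
    (hac : IsAdjointClosedFor (hermForm 6 F q) K)
    (hle : H ≤ subalgebraNormalizer K) :
    ∃ (F₀ : Subfield F) (P : GL (Fin 6) F) (ζ : F), Fintype.card F = Nat.card F₀ ^ 2 ∧ ζ ≠ 0 ∧ ζ + ζ ^ q = 0 ∧
      IsFormRationalStructure (hermForm 6 F q) F₀ ζ P ∧
      (∀ u : V6, (∀ i, u i ∈ F₀) → hermForm 6 F q ((P : M6) *ᵥ u) ((P : M6) *ᵥ u) = 0) ∧
      H = subfieldSubgroup F₀ P ⊓ (GU 6 F q ⊓ specialLinear (Fin 6) F) := by
  subst hq
  obtain ⟨σ, ω, τ, D⟩ := exists_cubicData hF hK hac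
  obtain ⟨F₀, P, hc, hrat, halt, hN⟩ := D.le_subfield
  exact ⟨F₀, P, 1, hc, one_ne_zero, by rw [one_pow]; linear_combination D.four.two, hrat, halt,
    su_eq_inter hH ((le_inf hle hH.1.le).trans hN) (not_su_le_subfield hF (by norm_num) (subfield_two_ne_top hc) P)⟩

end Cfsg.Agent.Classical.UnitSix
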