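import Cfsg.Agent.Lib.Classical.AschUnitShape
import Cfsg.Agent.Lib.Classical.AschUnitFive

/-!
In six dimensions over four elements the stabiliser of an orthogonal frame preserves a larger configuration of 126
isotropic points, so it is not maximal.
-/

set_option autoImplicit false
set_option linter.unusedSectionVars false
set_option linter.unusedFintypeInType false
set_option linter.unusedDecidableInType false

namespace Cfsg.Agent.Classical.UnitSix

open Matrix Module Cfsg.Geo Cfsg.Agent.Classical.Asch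
open MaxTv (qEquiv herm_hermForm)
open Cfsg.Agent.Classical.Asch.UnitSmall (Four exists_four)
open Cfsg.Agent.Classical.UnitFive (E ι add mul ι_add ι_mul ι_inj ι_surj)

variable {F : Type*} [Field F] [Fintype F]

/-- Two non-zero coordinates, or all non-zero with product one. -/
def Good (c : Fin 6 → F) : Prop := Nat.card {i // c i ≠ 0} = 2 ∨ ((∀ i, c i ≠ 0) ∧ ∏ i, c i = 1)

/-- The table form of `Good`. -/
def goodE (a b c d e f : E) : Bool :=
  let l := [a, b, c, d, e, f]
  (l.count .z == 4) || ((l.count .z == 0) && (mul a (mul b (mul c (mul d (mul e f)))) == .o))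

theorem goodE_step : ∀ a b c d e f : E, goodE a b c d e f = true →
    let s := add a (add b (add c (add d (add e f))))
    goodE (add a s) (add b s) (add c s) (add d s) (add e s) (add f s) = true := by decide +kernel

variable {σ : F ≃+* F} {ω : F}

theorem good_iff (h : Four σ ω) (x : Fin 6 → E) :
    Good (fun i => ι ω (x i)) ↔ goodE (x 0) (x 1) (x 2) (x 3) (x 4) (x 5) = true := by
  classical
  have hz : ∀ y : E, ι ω y = 0 ↔ y = .z := fun y => ⟨fun e => ι_inj h (e.trans rfl), fun e => by rw [e]; rfl⟩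
  have hcount : (List.count .z [x 0, x 1, x 2, x 3, x 4, x 5]) + Nat.card {i // ι ω (x i) ≠ 0} = 6 := by
    rw [Nat.card_eq_fintype_card, Fintype.card_subtype, Finset.card_filter]
    simp only [ne_eq, hz, Fin.sum_univ_six, List.count_cons, List.count_nil, beq_iff_eq]
    split_ifs <;> omega
  have hall : (∀ i, ι ω (x i) ≠ 0) ↔ List.count .z [x 0, x 1, x 2, x 3, x 4, x 5] = 0 := by
    simp only [ne_eq, hz, List.count_eq_zero, List.mem_cons, List.not_mem_nil, or_false, not_or]
    simp [Fin.forall_fin_succ, eq_comm]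
  have hprod : ∏ i, ι ω (x i) = ι ω (mul (x 0) (mul (x 1) (mul (x 2) (mul (x 3) (mul (x 4) (x 5)))))) := by
    simp only [ι_mul h, Fin.prod_univ_six]; ring
  have hone : ∀ y : E, ι ω y = 1 ↔ y = .o := fun y => ⟨fun e => ι_inj h (e.trans rfl), fun e => by rw [e]; rfl⟩
  simp only [Good, goodE, Bool.or_eq_true, Bool.and_eq_true, beq_iff_eq, hall, hprod, hone]
  constructor
  · rintro (h1 | h1)
    · left; omega
    · exact Or.inr h1
  · rintro (h1 | h1)
    · left; omega
    · exact Or.inr h1

/-- The transvection of the all-one vector preserves the configuration. -/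
theorem good_step (h : Four σ ω) {c : Fin 6 → F} (hc : Good c) : Good fun i => c i + ∑ j, c j := by
  choose x hx using fun i => ι_surj h (c i)
  obtain rfl : c = fun i => ι ω (x i) := funext fun i => (hx i).symm
  let s := add (x 0) (add (x 1) (add (x 2) (add (x 3) (add (x 4) (x 5)))))
  have hs : ι ω s = ∑ j, ι ω (x j) := by simp only [s, ι_add h, Fin.sum_univ_six]; ring
  have h1 := (good_iff h fun i => add (x i) s).2 (goodE_step _ _ _ _ _ _ ((good_iff h x).1 hc))
  simpa [ι_add h, hs] using h1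

theorem good_monomial {c d : Fin 6 → F} (π : Equiv.Perm (Fin 6)) (hd : ∀ i, d i ≠ 0) (hdp : ∏ i, d i = 1)
    (hc : Good c) : Good fun i => d (π.symm i) * c (π.symm i) := by
  rcases hc with h | ⟨h, h'⟩
  · left
    rw [← h]
    exact Nat.card_congr (π.symm.subtypeEquiv fun i => by simp [hd])
  · refine Or.inr ⟨fun i => mul_ne_zero (hd _) (h _), ?_⟩
    rw [Equiv.prod_comp π.symm fun i => d i * c i, Finset.prod_mul_distrib, hdp, h', one_mul]

abbrev SU6 (F : Type*) [Field F] : Subgroup (GL (Fin 6) F) := GU 6 F 2 ⊓ specialLinear (Fin 6) F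

/-- An orthonormal basis adapted to a frame. -/
theorem exists_frame_basis (hF : Fintype.card F = 2 ^ 2) {D : Fin 6 → Submodule F (Fin 6 → F)}
    (hD : IsNondegenerateMDecomposition (hermForm 6 F 2) 1 D) :
    ∃ U : GL (Fin 6) F, U ∈ GU 6 F 2 ∧
      ∀ i, D i = Submodule.span F {(U : Matrix (Fin 6) (Fin 6) F) *ᵥ Pi.single i 1} := by
  classical
  have hs := herm_hermForm (n := 6) hF
  have : ∀ i, ∃ u ∈ D i, hermForm 6 F 2 u u = 1 := fun i => by
    obtain ⟨u, hu, huu⟩ := hs.exists_norm_in (T := D i) (fun w hw hw0 => (hD.nondegenerate i w hw hw0).1)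
      (fun e => by have := hD.decomp.finrank_eq i; rw [e, finrank_bot] at this; omega) (map_one (qEquiv hF))
    exact ⟨u, hu, huu⟩
  choose u hu huu using this
  let M : Matrix (Fin 6) (Fin 6) F := Matrix.of fun a i => u i a
  have hM : Mᵀ * (1 * M.map (qEquiv hF)) = 1 := by
    ext i j
    rw [Matrix.one_mul, Matrix.mul_apply]
    have e : ∑ a, u i a * qEquiv hF (u j a) = hermForm 6 F 2 (u i) (u j) := rfl
    simp only [M, Matrix.transpose_apply, Matrix.map_apply, Matrix.of_apply, e]
    by_cases hij : i = j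
    · subst hij; rw [huu, Matrix.one_apply_eq]
    · rw [Matrix.one_apply_ne hij]; exact hD.orthogonal i j hij _ (hu i) _ (hu j)
  let U : GL (Fin 6) F := ⟨M, (M.map (qEquiv hF))ᵀ, by
    rw [Matrix.one_mul] at hM
    have h2 := congrArg Matrix.transpose hM
    rw [Matrix.transpose_mul, Matrix.transpose_transpose, Matrix.transpose_one] at h2
    exact mul_eq_one_comm.1 h2, by
    rw [Matrix.one_mul] at hM
    have h2 := congrArg Matrix.transpose hM
    rwa [Matrix.transpose_mul, Matrix.transpose_transpose, Matrix.transpose_one] at h2⟩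
  refine ⟨U, (mem_GU_gram fun _ => rfl).2 hM, fun i => ?_⟩
  have hcol : (U : Matrix (Fin 6) (Fin 6) F) *ᵥ Pi.single i 1 = u i := by
    rw [Matrix.mulVec_single_one]; rfl
  rw [hcol]
  refine (Submodule.eq_of_le_of_finrank_eq ?_ ?_).symm
  · rw [Submodule.span_singleton_le_iff_mem]; exact hu i
  · rw [finrank_span_singleton (fun e => by simpa [e, hs.toSesq.zero_left] using huu i), hD.decomp.finrank_eq]

/-- The points of the configuration. -/
def config (U : GL (Fin 6) F) : Set (Fin 6 → F) :=
  {x | Good (((U⁻¹ : GL (Fin 6) F) : Matrix (Fin 6) (Fin 6) F) *ᵥ x)}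

/-- The elements preserving the configuration. -/
def configGroup (U : GL (Fin 6) F) : Subgroup (GL (Fin 6) F) := stabilizing (glToMat (Fin 6) F) (config U)

theorem mem_configGroup_of {U g : GL (Fin 6) F}
    (h : ∀ x, x ∈ config U → (g : Matrix (Fin 6) (Fin 6) F) *ᵥ x ∈ config U) : g ∈ configGroup U := by
  intro x
  refine ⟨h x, fun hx => ?_⟩
  obtain ⟨y, hy, hyx⟩ := (((Set.toFinite (config U)).injOn_iff_bijOn_of_mapsTo
    (f := fun x => (g : Matrix (Fin 6) (Fin 6) F) *ᵥ x) h).1
      (fun a _ b _ hab => MaxTv.gl_mulVec_injective g hab)).surjOn hx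
  rwa [← MaxTv.gl_mulVec_injective g hyx]

/-- Over four elements the stabiliser of an orthogonal frame in dimension six is not maximal. -/
theorem frame_not_maximal (hF : Fintype.card F = 2 ^ 2) {H : Subgroup (GL (Fin 6) F)}
    {D : Fin 6 → Submodule F (Fin 6 → F)} (hD : IsNondegenerateMDecomposition (hermForm 6 F 2) 1 D)
    (hH : IsMaximalIn (SU6 F) H) (hle : H ≤ decompositionStabilizer D) : False := by
  classical
  obtain ⟨ω, h⟩ := exists_four hF (σ := qEquiv hF) fun _ => rfl
  have hs := herm_hermForm (n := 6) hF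
  obtain ⟨U, hU, hDU⟩ := exists_frame_basis hF hD
  set Um := (U : Matrix (Fin 6) (Fin 6) F) with hUm
  set Ui := ((U⁻¹ : GL (Fin 6) F) : Matrix (Fin 6) (Fin 6) F) with hUi
  have hUiU : Ui * Um = 1 := U.inv_mul
  have hUUi : Um * Ui = 1 := U.mul_inv
  have hmem : ∀ c, Um *ᵥ c ∈ config U ↔ Good c := fun c => by
    show Good (Ui *ᵥ (Um *ᵥ c)) ↔ _
    rw [Matrix.mulVec_mulVec, hUiU, Matrix.one_mulVec]
  -- the frame stabiliser preserves the configuration
  have hHM : H ≤ configGroup U := by
    intro g hg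
    obtain ⟨π, hπ⟩ := hle hg
    have hd : ∀ i, ∃ d : F, (g : Matrix (Fin 6) (Fin 6) F) *ᵥ (Um *ᵥ Pi.single i 1) =
        d • (Um *ᵥ Pi.single (π i) 1) := by
      intro i
      have h1 : (g : Matrix (Fin 6) (Fin 6) F) *ᵥ (Um *ᵥ Pi.single i 1) ∈ D (π i) := by
        rw [← hπ i]
        exact ⟨_, by rw [hDU i]; exact Submodule.mem_span_singleton_self _, Matrix.toLin'_apply _ _⟩
      rw [hDU (π i), Submodule.mem_span_singleton] at h1
      exact h1.imp fun _ e => e.symm
    choose d hd using hd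
    have hd0 : ∀ i, d i ≠ 0 := fun i e => by
      have h1 := hd i
      rw [e, zero_smul, Matrix.mulVec_mulVec] at h1
      have h2 := MaxTv.gl_mulVec_injective (g * U) (h1.trans (Matrix.mulVec_zero _).symm)
      simpa using congrFun h2 i
    have hgm : Ui * (g : Matrix (Fin 6) (Fin 6) F) * Um = (Matrix.diagonal d).submatrix π.symm id := by
      ext a i
      have h1 := congrArg (fun v => (Ui *ᵥ v) a) (hd i)
      simp only [Matrix.mulVec_smul, Matrix.mulVec_mulVec, hUiU] at h1
      rw [← mul_assoc, Matrix.one_mulVec, Matrix.mulVec_single_one] at h1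
      rw [show (Ui * (g : Matrix (Fin 6) (Fin 6) F) * Um) a i = _ from h1, Matrix.submatrix_apply]
      by_cases ha : a = π i
      · subst ha; simp
      · have : π.symm a ≠ i := fun e => ha (by rw [← e, Equiv.apply_symm_apply])
        simp [ha, this]
    have hdp : ∏ i, d i = 1 := by
      have hgdet : (g : Matrix (Fin 6) (Fin 6) F).det = 1 := by
        have hsl : g ∈ specialLinear (Fin 6) F := (hH.1.le hg).2
        have h0 := congrArg Units.val (MonoidHom.mem_ker.1 hsl)
        rwa [Matrix.GeneralLinearGroup.val_det_apply, Units.val_one] at h0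
      have h1 := congrArg Matrix.det hgm
      rw [Matrix.det_mul, Matrix.det_mul, Matrix.det_permute, Matrix.det_diagonal, hgdet,
        mul_one, ← Matrix.det_mul, hUiU, Matrix.det_one] at h1
      rcases Int.units_eq_one_or (Equiv.Perm.sign π.symm) with e | e <;> rw [e] at h1
      · simpa using h1.symm
      · simp only [Units.val_neg, Units.val_one, Int.cast_neg, Int.cast_one, neg_one_mul] at h1
        have hP : ∏ i, d i = -1 := by linear_combination h1
        linear_combination hP - h.two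
    refine mem_configGroup_of fun x hx => ?_
    have hx' : Good (Ui *ᵥ x) := hx
    have h2 : Ui *ᵥ ((g : Matrix (Fin 6) (Fin 6) F) *ᵥ x) = fun a => d (π.symm a) * (Ui *ᵥ x) (π.symm a) := by
      have : (g : Matrix (Fin 6) (Fin 6) F) *ᵥ x = (g : Matrix (Fin 6) (Fin 6) F) *ᵥ (Um *ᵥ (Ui *ᵥ x)) := by
        rw [Matrix.mulVec_mulVec, Matrix.mulVec_mulVec, mul_assoc, hUUi, mul_one]
      rw [this, Matrix.mulVec_mulVec, Matrix.mulVec_mulVec, hgm]
      funext a
      simp [Matrix.mulVec, dotProduct, Matrix.diagonal]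
    show Good _
    rw [h2]
    exact good_monomial π hd0 hdp hx'
  -- transvections
  have hone : ∀ c : F, c ≠ 0 → c + qEquiv hF c = 0 → c = 1 := fun c hc0 hc => by
    rw [MaxTv.qEquiv_apply] at hc
    refine mul_left_cancel₀ hc0 ?_
    linear_combination -hc + (c ^ 2) * h.two
  have htv : ∀ v : Fin 6 → F, hermForm 6 F 2 v v = 0 → ∃ t ∈ SU6 F, ∀ x,
      (t : Matrix (Fin 6) (Fin 6) F) *ᵥ (Um *ᵥ x) = Um *ᵥ (x + hermForm 6 F 2 x v • v) := by
    intro v hv
    have hUv : hermForm 6 F 2 (Um *ᵥ v) (Um *ᵥ v) = 0 := (MaxTv.mem_GU.1 hU v v).trans hv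
    obtain ⟨c, hc0, hc⟩ := exists_skew_scalar (F := F) hF
    obtain rfl := hone c hc0 hc
    obtain ⟨t, ht, htx⟩ := MaxTv.exists_gu_tv hF hUv hc
    exact ⟨t, ht, fun x => by rw [htx, one_mul, Matrix.mulVec_add, Matrix.mulVec_smul, MaxTv.mem_GU.1 hU]⟩
  have hherm1 : ∀ x, hermForm 6 F 2 x (fun _ => 1) = ∑ j, x j := fun x => by simp [hermForm]
  have h20 : (2 : F) = 0 := h.two
  obtain ⟨t, ht, htx⟩ := htv (fun _ => 1) (by rw [hherm1]; simp; linear_combination (3 : F) * h20)
  have htM : t ∈ configGroup U := by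
    refine mem_configGroup_of fun x hx => ?_
    have hx' : Good (Ui *ᵥ x) := hx
    have hxx : Um *ᵥ (Ui *ᵥ x) = x := by rw [Matrix.mulVec_mulVec, hUUi, Matrix.one_mulVec]
    rw [← hxx, htx, hmem]
    convert good_step h hx' using 1
    funext i
    simp [hherm1]
  let K : Subgroup (GL (Fin 6) F) := configGroup U ⊓ SU6 F
  have htH : t ∉ H := by
    intro htH
    obtain ⟨π, hπ⟩ := hle htH
    have h1 : (t : Matrix (Fin 6) (Fin 6) F) *ᵥ (Um *ᵥ Pi.single 0 1) ∈ D (π 0) := by
      rw [← hπ 0]
      exact ⟨_, by rw [hDU 0]; exact Submodule.mem_span_singleton_self _, Matrix.toLin'_apply _ _⟩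
    rw [htx, hDU (π 0), Submodule.mem_span_singleton] at h1
    obtain ⟨a, ha⟩ := h1
    rw [← Matrix.mulVec_smul] at ha
    have h2 := MaxTv.gl_mulVec_injective U ha
    obtain ⟨i, j, hi, hj, hij⟩ : ∃ i j : Fin 6, i ≠ 0 ∧ j ≠ 0 ∧ i ≠ j := ⟨1, 2, by decide, by decide, by decide⟩
    have hsum : ∑ k, (Pi.single 0 1 : Fin 6 → F) k = 1 := by simp
    have e1 := congrFun h2 i
    have e2 := congrFun h2 j
    simp [hherm1, hsum, hi, hj, Pi.single_apply] at e1 e2
    have ei : i = π 0 := by by_contra hne; simp [hne] at e1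
    have ej : j = π 0 := by by_contra hne; simp [hne] at e2
    exact hij (ei.trans ej.symm)
  obtain ⟨v1, hv1, hv1'⟩ : ∃ v : Fin 6 → F, v = ![1, 1, 1, 1, 0, 0] ∧ hermForm 6 F 2 v v = 0 := ⟨_, rfl, by
    simp [hermForm, Fin.sum_univ_six]; linear_combination (2 : F) * h20⟩
  obtain ⟨t', ht', ht'x⟩ := htv v1 hv1'
  rcases hH.2 K (le_inf hHM hH.1.le) inf_le_right with e | e
  · exact htH (e ▸ ⟨htM, ht⟩)
  · have h1 : t' ∈ configGroup U := (e.symm ▸ ht' : t' ∈ K).1
    let x : Fin 6 → F := ![1, 0, 0, 0, 1, 0]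
    have hx : Good x := by
      choose y hy using fun i => ι_surj h (x i)
      rw [show x = fun i => ι ω (y i) from funext fun i => (hy i).symm, good_iff h]
      have : ∀ i, y i = (![.o, .z, .z, .z, .o, .z] : Fin 6 → E) i := fun i =>
        ι_inj h ((hy i).trans (by fin_cases i <;> simp [x, ι]))
      simp only [this]
      decide
    have h2 : ((t' : Matrix (Fin 6) (Fin 6) F) *ᵥ (Um *ᵥ x)) ∈ config U := (h1 _).1 ((hmem x).2 hx)
    rw [ht'x, hmem] at h2
    choose y hy using fun i => ι_surj h ((x + hermForm 6 F 2 x v1 • v1) i)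
    rw [show (x + hermForm 6 F 2 x v1 • v1) = fun i => ι ω (y i) from funext fun i => (hy i).symm, good_iff h] at h2
    have : ∀ i, y i = (![.z, .o, .o, .o, .o, .z] : Fin 6 → E) i := fun i => ι_inj h ((hy i).trans (by
      fin_cases i <;> simp [x, hv1, ι, hermForm, Fin.sum_univ_six]
      linear_combination h20))
    simp only [this] at h2
    exact absurd h2 (by decide)

end Cfsg.Agent.Classical.UnitSix
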