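import Cfsg.Agent.Lib.Classical.AschUnitFour

/-!
In three dimensions, over fields of more than four elements, the special unitary group permutes no decomposition into
lines, has no proper field of definition and normalises no extraspecial group of order 27.
-/

set_option autoImplicit false
set_option linter.unusedSectionVars false
set_option linter.unusedFintypeInType false
set_option linter.unusedDecidableInType false

namespace Cfsg.Agent.Classical.UnitThree

open Matrix Module Cfsg.Geo Cfsg.Agent.Classical.Asch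
open MaxTv (gl_mulVec_injective qEquiv qEquiv_apply herm_hermForm exists_gu_tv finrank_le_inf_ker_add_one)

variable {F : Type*} [Field F] [Fintype F] {n q : ℕ}

section
variable (hF : Fintype.card F = q ^ 2)
include hF

/-- A fixed scalar other than zero and one. -/
theorem exists_fixed_scalar (hq : 3 ≤ q) : ∃ l : F, qEquiv hF l = l ∧ l ≠ 0 ∧ l ≠ 1 := by
  obtain ⟨u, hu⟩ := IsCyclic.exists_ofOrder_eq_natCard (α := Fˣ)
  rw [Nat.card_units, Nat.card_eq_fintype_card, hF] at hu
  refine ⟨((u ^ (q + 1) : Fˣ) : F), ?_, Units.ne_zero _, fun e => ?_⟩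
  · have h := FiniteField.pow_card (u : F)
    rw [hF] at h
    rw [qEquiv_apply, Units.val_pow_eq_pow_val, ← pow_mul, show (q + 1) * q = q ^ 2 + q by ring, pow_add, h,
      ← pow_succ']
  · have h1 : orderOf u ≤ q + 1 :=
      Nat.le_of_dvd (by omega) (orderOf_dvd_of_pow_eq_one (Units.ext e))
    have h2 : q * 3 ≤ q * q := Nat.mul_le_mul_left q hq
    rw [hu, pow_two] at h1
    omega

/-- The special unitary group permutes no decomposition into lines. -/
theorem not_su_le_lines (hn : 3 ≤ n) (hq : 3 ≤ q) {t : ℕ} {D : Fin t → Submodule F (Fin n → F)}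
    (hD : IsMDecomposition 1 D) : ¬ GU n F q ⊓ specialLinear (Fin n) F ≤ decompositionStabilizer D := by
  classical
  intro hle
  have hs := herm_hermForm (n := n) hF
  let a : Fin t := ⟨0, by have := hD.two_le; omega⟩
  have hne : D a ≠ ⊥ := fun h => by
    have := hD.finrank_eq a
    rw [h, finrank_bot] at this
    omega
  obtain ⟨u, hu, hu0⟩ := Submodule.exists_mem_ne_zero_of_ne_bot hne
  obtain ⟨v, -, hv, huv⟩ := exists_iso_not_perp hF hn hu0
  obtain ⟨c, hc0, hc⟩ := exists_skew_scalar (F := F) hF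
  obtain ⟨l, hl, hl0, hl1⟩ := exists_fixed_scalar hF hq
  have hva : v ∉ D a := fun h => by
    obtain ⟨s, hs'⟩ := (finrank_eq_one_iff_of_nonzero' (⟨u, hu⟩ : D a) (fun e => hu0 (congrArg Subtype.val e))).1
      (hD.finrank_eq a) ⟨v, h⟩
    have hs'' : s • u = v := congrArg Subtype.val hs'
    rw [← hs'', hs.smul_right] at huv
    rw [← hs'', hs.smul_left, hs.smul_right] at hv
    obtain ⟨h1, h2⟩ := mul_ne_zero_iff.1 huv
    exact mul_ne_zero (fun e : s = 0 => h1 (by rw [e, map_zero])) (mul_ne_zero h1 h2) hv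
  have key : ∀ d : F, d ≠ 0 → d + qEquiv hF d = 0 →
      ∃ b, b ≠ a ∧ u + (d * hermForm n F q u v) • v ∈ D b ∧ u + (d * hermForm n F q u v) • v ≠ 0 := by
    intro d hd0 hd
    obtain ⟨g, hg, hgx⟩ := exists_gu_tv hF hv hd
    obtain ⟨π, hπ⟩ := hle hg
    have h1 : (g : Matrix (Fin n) (Fin n) F) *ᵥ u ∈ D (π a) := by
      rw [← hπ a]; exact ⟨u, hu, Matrix.toLin'_apply _ _⟩
    refine ⟨π a, fun e => hva ?_, hgx u ▸ h1, hgx u ▸ fun e => hu0 ?_⟩
    · rw [e, hgx] at h1
      have := (D a).smul_mem (d * hermForm n F q u v)⁻¹ ((D a).sub_mem h1 hu)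
      rwa [add_sub_cancel_left, smul_smul, inv_mul_cancel₀ (mul_ne_zero hd0 huv), one_smul] at this
    · exact gl_mulVec_injective g (e.trans (Matrix.mulVec_zero _).symm)
  obtain ⟨b, hba, hb, hb0⟩ := key c hc0 hc
  obtain ⟨b', hba', hb', hb0'⟩ := key (l * c) (mul_ne_zero hl0 hc0) (by
    rw [map_mul, hl, ← mul_add, hc, mul_zero])
  have hbb : b ≠ b' := by
    rintro rfl
    have h1 := (D b).sub_mem hb' hb
    rw [add_sub_add_left_eq_sub, ← sub_smul] at h1
    have hne' : l * c * hermForm n F q u v - c * hermForm n F q u v ≠ 0 := by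
      rw [show l * c * hermForm n F q u v - c * hermForm n F q u v = (l - 1) * (c * hermForm n F q u v) by ring]
      exact mul_ne_zero (sub_ne_zero.2 hl1) (mul_ne_zero hc0 huv)
    have h2 := (D b).smul_mem (l * c * hermForm n F q u v - c * hermForm n F q u v)⁻¹ h1
    rw [smul_smul, inv_mul_cancel₀ hne', one_smul] at h2
    have h3 : u ∈ D b := by simpa using (D b).sub_mem hb ((D b).smul_mem (c * hermForm n F q u v) h2)
    exact hu0 (Submodule.disjoint_def.1 (hD.indep.pairwiseDisjoint hba) u h3 hu)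
  have hinj : Function.Injective ![a, b, b'] := by
    intro i j e
    fin_cases i <;> fin_cases j <;> simp_all
  have hli : LinearIndependent F ![u, u + (c * hermForm n F q u v) • v,
      u + (l * c * hermForm n F q u v) • v] :=
    (hD.indep.comp hinj).linearIndependent _ (fun i => by fin_cases i <;> assumption)
      (fun i => by fin_cases i <;> assumption)
  have h0 := Fintype.linearIndependent_iff.1 hli ![1 - l, l, -1] (by
    simp [Fin.sum_univ_three]; module) 1
  exact hl0 (by simpa using h0)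

/-- Every isotropic vector is a multiple of a rational one, when the special unitary group is rational. -/
theorem exists_rational_rep (hn : 3 ≤ n) {F₀ : Subfield F} {P : GL (Fin n) F}
    (hle : GU n F q ⊓ specialLinear (Fin n) F ≤ subfieldSubgroup F₀ P) {v : Fin n → F} (hv0 : v ≠ 0)
    (hv : hermForm n F q v v = 0) :
    ∃ s : F, s ≠ 0 ∧ ∀ i, s * (((P⁻¹ : GL (Fin n) F) : Matrix (Fin n) (Fin n) F) *ᵥ v) i ∈ F₀ := by
  have hs := herm_hermForm (n := n) hF
  obtain ⟨c, hc0, g, hg, hgx⟩ := exists_su_tv hF hv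
  obtain ⟨y, hy, hye⟩ := hle hg
  change P * y * P⁻¹ = g at hye
  set a := ((P⁻¹ : GL (Fin n) F) : Matrix (Fin n) (Fin n) F) *ᵥ v with ha
  let b : Fin n → F := fun j => c * hermForm n F q ((P : Matrix (Fin n) (Fin n) F) *ᵥ Pi.single j 1) v
  have hyij : ∀ i j, (y : Matrix (Fin n) (Fin n) F) i j = (if i = j then 1 else 0) + a i * b j := by
    intro i j
    have h1 : (y : Matrix (Fin n) (Fin n) F) *ᵥ Pi.single j 1 =
        ((P⁻¹ : GL (Fin n) F) : Matrix (Fin n) (Fin n) F) *ᵥ ((g : Matrix (Fin n) (Fin n) F) *ᵥ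
          ((P : Matrix (Fin n) (Fin n) F) *ᵥ Pi.single j 1)) := by
      rw [Matrix.mulVec_mulVec, Matrix.mulVec_mulVec, ← Units.val_mul, ← Units.val_mul, ← hye]
      congr 2
      group
    rw [hgx, Matrix.mulVec_add, Matrix.mulVec_smul, Matrix.mulVec_mulVec, Units.inv_mul, Matrix.one_mulVec] at h1
    have h2 := congrFun h1 i
    simp only [Matrix.mulVec_single_one, Matrix.col_apply, Pi.add_apply, Pi.single_apply, Pi.smul_apply,
      smul_eq_mul] at h2
    rw [h2, ← ha]
    simp only [b, Matrix.mulVec_single_one]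
    ring
  obtain ⟨j, hbj⟩ : ∃ j, b j ≠ 0 := by
    by_contra hno
    push Not at hno
    apply hv0
    refine hs.eq_zero v fun x => ?_
    let φ : (Fin n → F) →ₗ[F] F := (hs.toSesq.lin v).comp (Matrix.toLin' (P : Matrix (Fin n) (Fin n) F))
    have hφ : φ = 0 := LinearMap.pi_ext fun k r => by
      rw [show Pi.single k r = r • (Pi.single k 1 : Fin n → F) by simp [← Pi.single_smul'], map_smul,
        LinearMap.zero_apply]
      refine smul_eq_zero.2 (Or.inr ?_)
      have := hno k
      simp only [b, mul_eq_zero, hc0, false_or] at this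
      exact this
    have := LinearMap.congr_fun hφ (((P⁻¹ : GL (Fin n) F) : Matrix (Fin n) (Fin n) F) *ᵥ x)
    simpa [φ, MaxTv.Sesq.lin, Matrix.mulVec_mulVec] using this
  have hab : ∑ i, a i * b i = 0 := by
    let φ : (Fin n → F) →ₗ[F] F := (hs.toSesq.lin v).comp (Matrix.toLin' (P : Matrix (Fin n) (Fin n) F))
    have h1 : φ a = hermForm n F q v v := by
      simp [φ, MaxTv.Sesq.lin, ha, Matrix.mulVec_mulVec]
    have h2 : φ a = ∑ i, a i * φ (Pi.single i 1) := by
      conv_lhs => rw [pi_eq_sum_univ' a]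
      simp [map_sum]
    calc ∑ i, a i * b i = c * ∑ i, a i * φ (Pi.single i 1) := by
          rw [Finset.mul_sum]
          refine Finset.sum_congr rfl fun i _ => ?_
          simp [b, φ, MaxTv.Sesq.lin]
          ring
      _ = 0 := by rw [← h2, h1, hv, mul_zero]
  rw [Subgroup.mul_normal] at hy
  obtain ⟨u, ⟨u, rfl⟩, z, hz, huz⟩ := hy
  obtain ⟨d, hd⟩ := (mem_scalars_iff z).1 hz
  have hvalu : ∀ i j, (y : Matrix (Fin n) (Fin n) F) i j =
      (d : F) * (((u : Matrix (Fin n) (Fin n) F₀) i j : F₀) : F) := fun i j => by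
    rw [← huz, Units.val_mul, hd, Matrix.mul_smul, mul_one, Matrix.smul_apply, smul_eq_mul]
    rfl
  have hentry : ∀ i j, ((d : F))⁻¹ * ((if i = j then 1 else 0) + a i * b j) ∈ F₀ := fun i j => by
    rw [← hyij, hvalu, inv_mul_cancel_left₀ d.ne_zero]
    exact ((u : Matrix (Fin n) (Fin n) F₀) i j).2
  obtain ⟨i₀, ha0⟩ : ∃ i, a i ≠ 0 := Function.ne_iff.1 (show a ≠ 0 from fun h => hv0 (by
    have := congrArg (fun w => (P : Matrix (Fin n) (Fin n) F) *ᵥ w) h
    simpa [ha, Matrix.mulVec_mulVec] using this))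
  obtain ⟨p, r, hpr, hpr0⟩ : ∃ p r, p ≠ r ∧ a p * b r ≠ 0 := by
    by_contra hno
    push Not at hno
    rcases eq_or_ne i₀ j with rfl | hij
    · rw [Finset.sum_eq_single i₀ (fun k _ hk => hno k i₀ hk |> fun h => by
        rw [(mul_eq_zero.1 h).resolve_right hbj, zero_mul]) (by simp)] at hab
      exact mul_ne_zero ha0 hbj hab
    · exact mul_ne_zero ha0 hbj (hno i₀ j hij)
  obtain ⟨k, hkp, hkr⟩ : ∃ k, k ≠ p ∧ k ≠ r := by
    have hcard : ({p, r} : Finset (Fin n)).card < (Finset.univ : Finset (Fin n)).card := by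
      have := Finset.card_le_two (a := p) (b := r)
      rw [Finset.card_univ, Fintype.card_fin]
      omega
    obtain ⟨k, -, hk⟩ := Finset.exists_mem_notMem_of_card_lt_card hcard
    exact ⟨k, fun h => hk (by simp [h]), fun h => hk (by simp [h])⟩
  have hoff : ∀ i j, i ≠ j → ((d : F))⁻¹ * (a i * b j) ∈ F₀ := fun i j hij => by
    simpa [if_neg hij] using hentry i j
  have hkk : ((d : F))⁻¹ * (a k * b k) ∈ F₀ := by
    have h1 := F₀.mul_mem (F₀.mul_mem (hoff p k (Ne.symm hkp)) (hoff k r hkr)) (F₀.inv_mem (hoff p r hpr))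
    have heq : (d : F)⁻¹ * (a p * b k) * ((d : F)⁻¹ * (a k * b r)) * ((d : F)⁻¹ * (a p * b r))⁻¹ =
        (d : F)⁻¹ * (a k * b k) := by
      obtain ⟨hp0, hr0⟩ := mul_ne_zero_iff.1 hpr0
      have := d.ne_zero
      field_simp
    rwa [heq] at h1
  have hd0 : ((d : F))⁻¹ ∈ F₀ := by
    have := F₀.sub_mem (hentry k k) hkk
    rwa [if_pos rfl, mul_add, mul_one, add_sub_cancel_right] at this
  have hun : ∀ i j, a i * b j ∈ F₀ := fun i j => by
    have h1 := F₀.mul_mem (F₀.inv_mem hd0) (hentry i j)
    rw [inv_inv, ← mul_assoc, mul_inv_cancel₀ d.ne_zero, one_mul] at h1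
    by_cases hij : i = j
    · rw [if_pos hij] at h1; simpa using F₀.sub_mem h1 F₀.one_mem
    · rwa [if_neg hij, zero_add] at h1
  exact ⟨b r, (mul_ne_zero_iff.1 hpr0).2, fun i => by rw [mul_comm]; exact hun i r⟩

/-- The special unitary group in dimension three has no proper field of definition. -/
theorem not_su_le_subfield_three {F₀ : Subfield F} (hne : F₀ ≠ ⊤) (P : GL (Fin 3) F) :
    ¬ GU 3 F q ⊓ specialLinear (Fin 3) F ≤ subfieldSubgroup F₀ P := by
  classical
  intro hle
  have hs := herm_hermForm (n := 3) hF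
  set σ := qEquiv hF with hσ
  obtain ⟨c, hc0, hc⟩ := exists_skew_scalar (F := F) hF
  -- three isotropic vectors forming a basis
  obtain ⟨v, hv0, hv⟩ := exists_iso_ne_zero hF (show 2 ≤ 3 by norm_num)
  obtain ⟨w, hw0, hw, hvw⟩ := exists_iso_not_perp hF le_rfl hv0
  obtain ⟨u, huS, hu0⟩ := Submodule.exists_mem_ne_zero_of_ne_bot
    (p := LinearMap.ker (hs.toSesq.lin v) ⊓ LinearMap.ker (hs.toSesq.lin w)) fun h => by
      have h1 := finrank_le_inf_ker_add_one (⊤ : Submodule F (Fin 3 → F)) (hs.toSesq.lin v)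
      rw [top_inf_eq, finrank_top, Module.finrank_fin_fun] at h1
      have h2 := finrank_le_inf_ker_add_one (LinearMap.ker (hs.toSesq.lin v)) (hs.toSesq.lin w)
      rw [h, finrank_bot] at h2
      omega
  have huv : hermForm 3 F q u v = 0 := LinearMap.mem_ker.1 huS.1
  have huw : hermForm 3 F q u w = 0 := LinearMap.mem_ker.1 huS.2
  obtain ⟨z, hz0, hz, huz⟩ := exists_iso_not_perp hF le_rfl hu0
  let x : Fin 3 → Fin 3 → F := ![v, w, z]
  have hx0 : ∀ i, x i ≠ 0 := fun i => by fin_cases i <;> assumption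
  have hxi : ∀ i, hermForm 3 F q (x i) (x i) = 0 := fun i => by fin_cases i <;> assumption
  have hli : LinearIndependent F x := by
    rw [Fintype.linearIndependent_iff]
    intro g hg
    simp only [x, Fin.sum_univ_three, Matrix.cons_val] at hg
    have h2 : g 2 = 0 := by
      have := congrArg (fun y => hermForm 3 F q y u) hg
      simp only [hs.add_left, hs.smul_left, hs.toSesq.zero_left, hs.refl _ _ huv, hs.refl _ _ huw, mul_zero,
        zero_add] at this
      exact (mul_eq_zero.1 this).resolve_right fun e => huz (hs.refl _ _ e)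
    rw [h2, zero_smul, add_zero] at hg
    have h1 : g 1 = 0 := by
      have := congrArg (fun y => hermForm 3 F q y v) hg
      simp only [hs.add_left, hs.smul_left, hs.toSesq.zero_left, hv, mul_zero, zero_add] at this
      exact (mul_eq_zero.1 this).resolve_right fun e => hvw (hs.refl _ _ e)
    rw [h1, zero_smul, add_zero, smul_eq_zero] at hg
    intro i
    fin_cases i
    · exact hg.resolve_right hv0
    · exact h1
    · exact h2
  choose s hs0 hs' using fun i => exists_rational_rep hF le_rfl hle (hx0 i) (hxi i)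
  set Pi' := ((P⁻¹ : GL (Fin 3) F) : Matrix (Fin 3) (Fin 3) F) with hPi
  -- a proper subfield containing the fixed field consists of fixed elements
  have hfix : (∀ l : F, σ l = l → l ∈ F₀) → ∀ y ∈ F₀, σ y = y := by
    intro hin y hy
    by_contra hne'
    refine hne (eq_top_iff.2 fun r _ => ?_)
    have hd : y - σ y ≠ 0 := sub_ne_zero.2 (Ne.symm hne')
    have hb : σ ((r - σ r) / (y - σ y)) = (r - σ r) / (y - σ y) := by
      rw [map_div₀, map_sub, map_sub, hσ, hs.invol, hs.invol, ← hσ, ← neg_sub r (σ r), ← neg_sub y (σ y),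
        neg_div_neg_eq]
    have hb' : σ (r - (r - σ r) / (y - σ y) * y) = r - (r - σ r) / (y - σ y) * y := by
      rw [map_sub, map_mul, hb]
      linear_combination (div_mul_cancel₀ (r - σ r) hd)
    have := F₀.add_mem (hin _ hb') (F₀.mul_mem (hin _ hb) hy)
    rwa [sub_add_cancel] at this
  -- scaled products are skew
  have hskew : ∀ i j, σ (hermForm 3 F q (s i • x i) (s j • x j)) =
      -hermForm 3 F q (s i • x i) (s j • x j) := by
    intro i j
    by_cases hk : hermForm 3 F q (x i) (x j) = 0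
    · rw [hs.smul_left, hs.smul_right, hk, mul_zero, mul_zero, map_zero, neg_zero]
    have hij : i ≠ j := fun e => hk (e ▸ hxi i)
    set k := hermForm 3 F q (x i) (x j) with hkdef
    let X : Fin 3 → F := fun m => s i * (Pi' *ᵥ x i) m
    let Y : Fin 3 → F := fun m => s j * (Pi' *ᵥ x j) m
    have hX : ∀ m, X m ∈ F₀ := hs' i
    have hY : ∀ m, Y m ∈ F₀ := hs' j
    obtain ⟨a, b, hab⟩ : ∃ a b, X a * Y b - X b * Y a ≠ 0 := by
      by_contra hno
      push Not at hno
      obtain ⟨a, ha⟩ : ∃ a, (Pi' *ᵥ x i) a ≠ 0 := Function.ne_iff.1 (show Pi' *ᵥ x i ≠ 0 from fun h =>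
        hx0 i (gl_mulVec_injective P⁻¹ (h.trans (Matrix.mulVec_zero _).symm)))
      have hXa : X a ≠ 0 := mul_ne_zero (hs0 i) ha
      have hYX : Pi' *ᵥ (s j • x j) = Pi' *ᵥ ((Y a / X a * s i) • x i) := by
        funext b
        rw [Matrix.mulVec_smul, Matrix.mulVec_smul, Pi.smul_apply, Pi.smul_apply, smul_eq_mul, smul_eq_mul,
          mul_assoc]
        show Y b = Y a / X a * X b
        field_simp
        linear_combination hno a b
      have h1 := congrArg (fun y => hermForm 3 F q (x i) y) (gl_mulVec_injective P⁻¹ hYX)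
      simp only [hs.smul_right, hxi i, mul_zero, ← hkdef, mul_eq_zero, hk, or_false] at h1
      exact hs0 j (σ.injective (h1.trans (map_zero σ).symm))
    have hrat : ∀ l : F, σ l = l → l ≠ 0 → c * l * s j / (k * s i) ∈ F₀ := by
      intro l hl hl0
      set α := c * l / k with hα
      have hα0 : α ≠ 0 := div_ne_zero (mul_ne_zero hc0 hl0) hk
      have hiso : hermForm 3 F q (x j + α • x i) (x j + α • x i) = 0 := by
        have hkk : hermForm 3 F q (x j) (x i) = σ k := hs.herm _ _
        simp only [hs.add_left, hs.add_right, hs.smul_left, hs.smul_right, hxi i, hxi j, hkk, ← hkdef,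
          mul_zero, add_zero, zero_add, ← hσ, ← map_mul]
        rw [show α * k = c * l by rw [hα, div_mul_cancel₀ _ hk], map_mul, hl]
        linear_combination l * hc
      have hne0 : x j + α • x i ≠ 0 := fun h => hk (by
        have h1 := congrArg (fun y => hermForm 3 F q (x i) y) h
        simpa [hs.add_right, hs.smul_right, hxi i, hs.toSesq.zero_right] using h1)
      obtain ⟨r, hr0, hr⟩ := exists_rational_rep hF le_rfl hle hne0 hiso
      have hZ : ∀ m, r * (Pi' *ᵥ x j) m + r * α * (Pi' *ᵥ x i) m ∈ F₀ := fun m => by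
        have := hr m
        rwa [Matrix.mulVec_add, Matrix.mulVec_smul, Pi.add_apply, Pi.smul_apply, smul_eq_mul, mul_add,
          ← mul_assoc] at this
      have hA : r * α / s i ∈ F₀ := by
        have hm : ∀ m, r / s j * Y m + r * α / s i * X m ∈ F₀ := fun m => by
          have := hZ m
          simp only [X, Y]
          rwa [show r / s j * (s j * (Pi' *ᵥ x j) m) + r * α / s i * (s i * (Pi' *ᵥ x i) m) =
            r * (Pi' *ᵥ x j) m + r * α * (Pi' *ᵥ x i) m by
              have := hs0 i; have := hs0 j; field_simp]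
        have := F₀.div_mem (F₀.sub_mem (F₀.mul_mem (hm a) (hY b)) (F₀.mul_mem (hm b) (hY a)))
          (F₀.sub_mem (F₀.mul_mem (hX a) (hY b)) (F₀.mul_mem (hX b) (hY a)))
        convert this using 1
        rw [eq_div_iff hab]
        ring
      have hB : r / s j ∈ F₀ := by
        have hm : ∀ m, r / s j * Y m + r * α / s i * X m ∈ F₀ := fun m => by
          have := hZ m
          simp only [X, Y]
          rwa [show r / s j * (s j * (Pi' *ᵥ x j) m) + r * α / s i * (s i * (Pi' *ᵥ x i) m) =
            r * (Pi' *ᵥ x j) m + r * α * (Pi' *ᵥ x i) m by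
              have := hs0 i; have := hs0 j; field_simp]
        have := F₀.div_mem (F₀.sub_mem (F₀.mul_mem (hm b) (hX a)) (F₀.mul_mem (hm a) (hX b)))
          (F₀.sub_mem (F₀.mul_mem (hX a) (hY b)) (F₀.mul_mem (hX b) (hY a)))
        convert this using 1
        rw [eq_div_iff hab]
        ring
      have := F₀.div_mem hA hB
      convert this using 1
      rw [hα]
      have := hs0 i
      have := hs0 j
      field_simp
    set ρ := c * s j / (k * s i) with hρ
    have hρ0 : ρ ≠ 0 := div_ne_zero (mul_ne_zero hc0 (hs0 j)) (mul_ne_zero hk (hs0 i))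
    have hρF : ρ ∈ F₀ := by simpa using hrat 1 (map_one σ) one_ne_zero
    have hρfix : σ ρ = ρ := by
      refine hfix (fun l hl => ?_) ρ hρF
      by_cases hl0 : l = 0
      · exact hl0 ▸ F₀.zero_mem
      have := F₀.div_mem (hrat l hl hl0) hρF
      convert this using 1
      rw [eq_div_iff hρ0, hρ]
      ring
    have hval : hermForm 3 F q (s i • x i) (s j • x j) = c / ρ * (s j * σ (s j)) := by
      rw [hs.smul_left, hs.smul_right, ← hkdef, hρ]
      have := hs0 i
      have := hs0 j
      field_simp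
    have hcn : σ c = -c := by linear_combination hc
    rw [hval, map_mul, map_div₀, map_mul, hρfix, hcn]
    rw [show σ (σ (s j)) = s j from hs.invol _]
    ring
  -- a skew form in three dimensions is degenerate
  set H := fun i j => hermForm 3 F q (s i • x i) (s j • x j) with hH
  have hanti : ∀ i j, H j i = -H i j := fun i j => by
    show hermForm 3 F q _ _ = _
    rw [hs.herm, hskew]
  have hdiag : ∀ i, H i i = 0 := fun i => by
    show hermForm 3 F q _ _ = _
    rw [hs.smul_left, hs.smul_right, hxi, mul_zero, mul_zero]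
  let R : Fin 3 → F := H 1 2 • (s 0 • x 0) + H 2 0 • (s 1 • x 1) + H 0 1 • (s 2 • x 2)
  have hR : ∀ j, hermForm 3 F q R (s j • x j) = 0 := fun j => by
    simp only [R, hs.add_left, hs.smul_left (c := H _ _)]
    show H 1 2 * H 0 j + H 2 0 * H 1 j + H 0 1 * H 2 j = 0
    fin_cases j <;> simp only [Fin.zero_eta, Fin.mk_one, Fin.reduceFinMk, hdiag, hanti 0 1, hanti 1 2, hanti 2 0] <;> ring
  have hR0 : R = 0 := by
    let B := basisOfLinearIndependentOfCardEqFinrank hli (by simp)
    have hl : hs.toSesq.lin R = 0 := B.ext fun j => by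
      rw [coe_basisOfLinearIndependentOfCardEqFinrank, LinearMap.zero_apply]
      show hermForm 3 F q (x j) R = 0
      have h1 := hs.refl _ _ (hR j)
      rw [hs.smul_left] at h1
      exact (mul_eq_zero.1 h1).resolve_left (hs0 j)
    exact hs.eq_zero R fun y => LinearMap.congr_fun hl y
  have h0 := Fintype.linearIndependent_iff.1 hli ![H 1 2 * s 0, H 2 0 * s 1, H 0 1 * s 2] (by
    rw [Fin.sum_univ_three]
    simpa [R, smul_smul] using hR0) 2
  simp only [Matrix.cons_val, mul_eq_zero, hs0, or_false] at h0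
  change hermForm 3 F q (s 0 • x 0) (s 1 • x 1) = 0 at h0
  rw [hs.smul_left, hs.smul_right] at h0
  simp only [mul_eq_zero, hs0, false_or] at h0
  rcases h0 with h0 | h0
  · exact hs0 1 (σ.injective (h0.trans (map_zero σ).symm))
  · exact hvw h0

/-- The special unitary group normalises no extraspecial group of order 27 in characteristic at least five. -/
theorem not_su_le_normalizer_three (hp : q.Prime) (h5 : 5 ≤ q) {R : Subgroup (GL (Fin 3) F)}
    (hRai : ActsAbsolutelyIrreducibly (matrixSet R)) (h27 : Nat.card R = 27)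
    (hZ : Nat.card (Subgroup.center R) = 3) : ¬ GU 3 F q ⊓ specialLinear (Fin 3) F ≤ subgroupNormalizer R := by
  classical
  intro hle
  haveI : Fact q.Prime := ⟨hp⟩
  have hs := herm_hermForm (n := 3) hF
  have hR : AI R := hRai
  obtain ⟨v, hv0, hv⟩ := exists_iso_ne_zero hF (show 2 ≤ 3 by norm_num)
  obtain ⟨c, hc0, g, hg, hgx⟩ := exists_su_tv hF hv
  have hchar : (q : F) = 0 := by
    have h := FiniteField.cast_card_eq_zero F
    rw [hF, Nat.cast_pow] at h
    exact eq_zero_of_pow_eq_zero h
  have hpow : ∀ (k : ℕ) y, ((g ^ k : GL (Fin 3) F) : Matrix (Fin 3) (Fin 3) F) *ᵥ y =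
      y + ((k : F) * (c * hermForm 3 F q y v)) • v := by
    intro k
    induction k with
    | zero => intro y; simp
    | succ k ih =>
      intro y
      rw [pow_succ', Units.val_mul, ← Matrix.mulVec_mulVec, ih, hgx, hs.add_left, hs.smul_left, hv, mul_zero,
        add_zero, Nat.cast_succ, add_assoc, ← add_smul]
      congr 2
      ring
  have hgq : g ^ q = 1 := Units.ext (Matrix.ext_of_mulVec_single fun j => by
    rw [hpow, hchar, zero_mul, zero_smul, add_zero, Units.val_one, Matrix.one_mulVec])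
  set Fx : Subgroup (GL (Fin 3) F) := R ⊓ Subgroup.centralizer {g}
  have hZF : (Subgroup.center R).map R.subtype ≤ Fx := by
    rintro z ⟨w, hw, rfl⟩
    have hws : (w : GL (Fin 3) F) ∈ scalars (Fin 3) F :=
      hR.mem_scalars fun y hy => (congrArg Subtype.val (Subgroup.mem_center_iff.1 hw ⟨y, hy⟩)).symm
    exact ⟨w.2, Subgroup.mem_centralizer_singleton_iff.2 (scalar_comm_gl hws g)⟩
  have h3 : 3 ∣ Nat.card Fx := by
    have h := Subgroup.card_dvd_of_le hZF
    rwa [← Nat.card_congr (Subgroup.equivMapOfInjective _ _ R.subtype_injective).toEquiv, hZ] at h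
  have hd : Nat.card Fx ∈ Nat.divisors 27 :=
    Nat.mem_divisors.2 ⟨h27 ▸ Subgroup.card_dvd_of_le inf_le_left, by norm_num⟩
  rw [show Nat.divisors 27 = {1, 3, 9, 27} by decide] at hd
  simp only [Finset.mem_insert, Finset.mem_singleton] at hd
  have hmod := conj_fixed_mod hgq (hle hg)
  rw [h27] at hmod
  have hdvd : q ∣ 27 - Nat.card Fx := (Nat.modEq_iff_dvd' (by omega)).1 hmod.symm
  have hall : Nat.card Fx = 27 := by
    rcases hd with e | e | e | e
    · omega
    · exfalso
      rw [e] at hdvd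
      have := Nat.le_of_dvd (by norm_num) hdvd
      interval_cases q <;> revert hp hdvd <;> decide
    · exfalso
      rw [e] at hdvd
      have := Nat.le_of_dvd (by norm_num) hdvd
      interval_cases q <;> revert hp hdvd <;> decide
    · exact e
  have hFR : Fx = R := Subgroup.eq_of_le_of_card_ge inf_le_left (by rw [h27, hall])
  obtain ⟨d, hd'⟩ := exists_sc (hR.mem_scalars (g := g) fun y hy =>
    (Subgroup.mem_centralizer_singleton_iff.1 (hFR.symm ▸ hy : y ∈ Fx).2).symm)
  have h1 := hgx v
  rw [hd', sc_coe, Matrix.smul_mulVec, Matrix.one_mulVec, hv, mul_zero, zero_smul, add_zero] at h1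
  have hd1 : (d : F) = 1 := smul_left_injective F hv0 (by simpa using h1)
  obtain ⟨w, hw⟩ : ∃ w, hermForm 3 F q w v ≠ 0 := by
    by_contra hno
    push Not at hno
    exact hv0 (hs.eq_zero v hno)
  have h2 := hgx w
  rw [hd', sc_coe, hd1, one_smul, Matrix.one_mulVec, left_eq_add, smul_eq_zero] at h2
  exact h2.elim (mul_ne_zero hc0 hw) hv0

end

end Cfsg.Agent.Classical.UnitThree
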