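import Mathlib

/-!
Finite data for the small three-dimensional unitary groups: matrices over the field with `p ^ 2` elements, coded
in base `p`, and three configurations of nonisotropic lines with their stabilisers.
-/

set_option autoImplicit false

namespace Cfsg.Agent.Classical.UnitThree.Code

/-- Sum of codes. -/
def cadd (p x y : ℕ) : ℕ := (x % p + y % p) % p + p * ((x / p + y / p) % p)

/-- Product of codes, the root squaring to two. -/
def cmul (p x y : ℕ) : ℕ :=
  (x % p * (y % p) + 2 * (x / p * (y / p))) % p + p * ((x % p * (y / p) + x / p * (y % p)) % p)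

/-- Negation of codes. -/
def cneg (p x : ℕ) : ℕ := cmul p (p - 1) x

/-- Conjugation of codes. -/
def ccj (p x : ℕ) : ℕ := x % p + p * ((p - 1) * (x / p) % p)

/-- An entry of a matrix. -/
def ent (A : List ℕ) (i j : ℕ) : ℕ := A.getD (3 * i + j) 0

/-- An entry of a vector. -/
def nth (v : List ℕ) (i : ℕ) : ℕ := v.getD i 0

/-- An entry of a product. -/
def pent (p : ℕ) (A B : List ℕ) (i j : ℕ) : ℕ :=
  cadd p (cadd p (cmul p (ent A i 0) (ent B 0 j)) (cmul p (ent A i 1) (ent B 1 j))) (cmul p (ent A i 2) (ent B 2 j))

/-- The product of matrices. -/
def mmul (p : ℕ) (A B : List ℕ) : List ℕ :=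
  [pent p A B 0 0, pent p A B 0 1, pent p A B 0 2, pent p A B 1 0, pent p A B 1 1, pent p A B 1 2,
    pent p A B 2 0, pent p A B 2 1, pent p A B 2 2]

/-- The identity matrix. -/
def mone : List ℕ := [1, 0, 0, 0, 1, 0, 0, 0, 1]

/-- The conjugate transpose. -/
def mct (p : ℕ) (A : List ℕ) : List ℕ :=
  [ccj p (ent A 0 0), ccj p (ent A 1 0), ccj p (ent A 2 0), ccj p (ent A 0 1), ccj p (ent A 1 1), ccj p (ent A 2 1),
    ccj p (ent A 0 2), ccj p (ent A 1 2), ccj p (ent A 2 2)]

/-- A power of a matrix. -/
def mpow (p : ℕ) (A : List ℕ) : ℕ → List ℕ
  | 0 => mone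
  | n + 1 => mmul p A (mpow p A n)

/-- A scalar multiple of a matrix. -/
def mscal (p c : ℕ) (A : List ℕ) : List ℕ :=
  [cmul p c (ent A 0 0), cmul p c (ent A 0 1), cmul p c (ent A 0 2), cmul p c (ent A 1 0), cmul p c (ent A 1 1),
    cmul p c (ent A 1 2), cmul p c (ent A 2 0), cmul p c (ent A 2 1), cmul p c (ent A 2 2)]

/-- A sum of matrices. -/
def madd (p : ℕ) (A B : List ℕ) : List ℕ :=
  [cadd p (ent A 0 0) (ent B 0 0), cadd p (ent A 0 1) (ent B 0 1), cadd p (ent A 0 2) (ent B 0 2),
    cadd p (ent A 1 0) (ent B 1 0), cadd p (ent A 1 1) (ent B 1 1), cadd p (ent A 1 2) (ent B 1 2),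
    cadd p (ent A 2 0) (ent B 2 0), cadd p (ent A 2 1) (ent B 2 1), cadd p (ent A 2 2) (ent B 2 2)]

/-- The matrix with given columns. -/
def ofCols (u v w : List ℕ) : List ℕ :=
  [nth u 0, nth v 0, nth w 0, nth u 1, nth v 1, nth w 1, nth u 2, nth v 2, nth w 2]

/-- An entry of the image of a vector. -/
def aent (p : ℕ) (A v : List ℕ) (i : ℕ) : ℕ :=
  cadd p (cadd p (cmul p (ent A i 0) (nth v 0)) (cmul p (ent A i 1) (nth v 1))) (cmul p (ent A i 2) (nth v 2))

/-- The image of a vector. -/
def mapp (p : ℕ) (A v : List ℕ) : List ℕ := [aent p A v 0, aent p A v 1, aent p A v 2]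

/-- A scalar multiple of a vector. -/
def vscal (p c : ℕ) (v : List ℕ) : List ℕ := [cmul p c (nth v 0), cmul p c (nth v 1), cmul p c (nth v 2)]

/-- The hermitian product. -/
def hdot (p : ℕ) (u v : List ℕ) : ℕ :=
  cadd p (cadd p (cmul p (nth u 0) (ccj p (nth v 0))) (cmul p (nth u 1) (ccj p (nth v 1))))
    (cmul p (nth u 2) (ccj p (nth v 2)))

/-- The conjugate of the vector product. -/
def hcross (p : ℕ) (u v : List ℕ) : List ℕ :=
  [ccj p (cadd p (cmul p (nth u 1) (nth v 2)) (cneg p (cmul p (nth u 2) (nth v 1)))),
    ccj p (cadd p (cmul p (nth u 2) (nth v 0)) (cneg p (cmul p (nth u 0) (nth v 2)))),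
    ccj p (cadd p (cmul p (nth u 0) (nth v 1)) (cneg p (cmul p (nth u 1) (nth v 0))))]

/-- The determinant. -/
def mdet (p : ℕ) (A : List ℕ) : ℕ :=
  cadd p (cadd p (cmul p (ent A 0 0) (cadd p (cmul p (ent A 1 1) (ent A 2 2)) (cneg p (cmul p (ent A 1 2) (ent A 2 1)))))
    (cneg p (cmul p (ent A 0 1) (cadd p (cmul p (ent A 1 0) (ent A 2 2)) (cneg p (cmul p (ent A 1 2) (ent A 2 0)))))))
    (cmul p (ent A 0 2) (cadd p (cmul p (ent A 1 0) (ent A 2 1)) (cneg p (cmul p (ent A 1 1) (ent A 2 0)))))

/-- A special unitary matrix. -/
def isSU (p : ℕ) (A : List ℕ) : Bool := mmul p (mct p A) A == mone && mdet p A == 1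

/-- The code of a vector. -/
def vcode (p : ℕ) (v : List ℕ) : ℕ := nth v 0 + p * p * nth v 1 + p * p * (p * p) * nth v 2

/-- The bits of a list of codes. -/
def toBits : List ℕ → ℕ
  | [] => 0
  | d :: l => Nat.lor (2 ^ d) (toBits l)

/-- All multiples of a list of vectors. -/
def multiples (p : ℕ) (l : List (List ℕ)) : List ℕ :=
  l.flatMap fun v => (List.range (p * p - 1)).map fun c => vcode p (vscal p (c + 1) v)

/-- A configuration of lines. -/
structure Cfg where
  /-- The representatives. -/
  pts : List (List ℕ)
  /-- The codes of the multiples. -/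
  bits : ℕ
  /-- An element outside the stabiliser. -/
  out : List ℕ

/-- A matrix maps the configuration into itself. -/
def stab (p : ℕ) (C : Cfg) (A : List ℕ) : Bool :=
  C.pts.all fun v => Nat.testBit C.bits (vcode p (mapp p A v))

/-- The lines of the configuration `cfgThree`. -/
def cfgThreePts : List (List ℕ) :=
  [[0, 0, 1], [0, 1, 0], [0, 1, 1], [0, 1, 2], [1, 0, 0], [1, 0, 1], [1, 0, 2], [1, 1, 0], [1, 1, 5],
  [1, 1, 7], [1, 2, 0], [1, 2, 5], [1, 2, 7], [1, 4, 4], [1, 4, 8], [1, 5, 1], [1, 5, 2], [1, 7, 1],
  [1, 7, 2], [1, 8, 4], [1, 8, 8]]

/-- The codes of the multiples of the lines of `cfgThree`. -/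
def cfgThreeBits : ℕ := 0x7001200007244422111001254049002800c065092141115012222000012400495012400a00301942070012000072444221112428222a024444000024c400c000344000a15081e20060001a200050a840f115092543112481c0ffe

/-- An element outside the stabiliser of `cfgThree`. -/
def cfgThreeOut : List ℕ := [2, 8, 1, 7, 3, 2, 1, 3, 5]

/-- An element of order seven, for `cfgThree`. -/
def tMatThree : List ℕ := [1, 1, 4, 5, 7, 0, 1, 1, 8]

/-- An element normalising the subgroup of order seven, for `cfgThree`. -/
def sMatThree : List ℕ := [0, 0, 2, 1, 0, 0, 0, 2, 0]

/-- The inverse of the orbit matrix, for `cfgThree`. -/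
def mInvThree : List ℕ := [1, 1, 6, 0, 5, 7, 0, 5, 6]

/-- The coefficients of the cubic equation, for `cfgThree`. -/
def cubicThree : List ℕ := [1, 5, 4]

/-- An element moving the subgroup of order seven, for `cfgThree`. -/
def wMatThree : List ℕ := [0, 0, 1, 0, 1, 0, 2, 0, 0]

/-- An element with an irrational column, for `cfgThree`. -/
def vMatThree : List ℕ := [1, 1, 4, 1, 1, 8, 7, 5, 0]

/-- The irrational entries of `vMatThree`. -/
def vPosThree : ℕ × ℕ := (0, 2)

/-- The lines of the configuration `cfgFive`. -/
def cfgFivePts : List (List ℕ) :=
  [[0, 0, 1], [0, 1, 0], [0, 1, 1], [0, 1, 4], [0, 1, 12], [0, 1, 13], [0, 1, 17], [0, 1, 18], [1, 0, 0],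
  [1, 0, 1], [1, 0, 4], [1, 0, 12], [1, 0, 13], [1, 0, 17], [1, 0, 18], [1, 1, 0], [1, 1, 1], [1, 1, 2],
  [1, 1, 3], [1, 1, 4], [1, 1, 10], [1, 1, 15], [1, 2, 1], [1, 2, 2], [1, 2, 3], [1, 2, 4], [1, 3, 1],
  [1, 3, 2], [1, 3, 3], [1, 3, 4], [1, 4, 0], [1, 4, 1], [1, 4, 2], [1, 4, 3], [1, 4, 4], [1, 4, 10],
  [1, 4, 15], [1, 5, 5], [1, 5, 20], [1, 6, 9], [1, 6, 13], [1, 6, 17], [1, 6, 21], [1, 7, 13], [1, 7, 17],
  [1, 8, 12], [1, 8, 18], [1, 9, 6], [1, 9, 12], [1, 9, 18], [1, 9, 24], [1, 10, 1], [1, 10, 4], [1, 11, 14],
  [1, 11, 16], [1, 12, 0], [1, 12, 8], [1, 12, 9], [1, 12, 13], [1, 12, 17], [1, 12, 21], [1, 12, 22],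
  [1, 13, 0], [1, 13, 6], [1, 13, 7], [1, 13, 12], [1, 13, 18], [1, 13, 23], [1, 13, 24], [1, 14, 11],
  [1, 14, 19], [1, 15, 1], [1, 15, 4], [1, 16, 11], [1, 16, 19], [1, 17, 0], [1, 17, 6], [1, 17, 7],
  [1, 17, 12], [1, 17, 18], [1, 17, 23], [1, 17, 24], [1, 18, 0], [1, 18, 8], [1, 18, 9], [1, 18, 13],
  [1, 18, 17], [1, 18, 21], [1, 18, 22], [1, 19, 14], [1, 19, 16], [1, 20, 5], [1, 20, 20], [1, 21, 6],
  [1, 21, 12], [1, 21, 18], [1, 21, 24], [1, 22, 12], [1, 22, 18], [1, 23, 13], [1, 23, 17], [1, 24, 9],
  [1, 24, 13], [1, 24, 17], [1, 24, 21]]

/-- The codes of the multiples of the lines of `cfgFive`. -/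
def cfgFiveBits : ℕ := 0x1055041400040002100020007e200200000006410410000003d000040200080400010000003d041040000006100040020007e00840040004041541044004002222001515008a8a80444440120024d400040605030421085a008400240480042108008200000001240a0401a02c050281000000120208000421080d01602008400084216e05030500010048090001100010004008002000220006042c0802100021085a680b012000802050200901200000012011000042108302818210842001100000000489012018140c12000801a02c0421085a00840040a0400104001000100800080020800302160420007e0084002000800a8a80600008020020000000f0888800000018800080000006088880000003c2002004000400a8a80480020000840008001fc00010208208105504182a820c10410240049a200200240480205020200008010843342a84082020000280004a2901084210128a40402800008080042a840842108200008081408024048008008002108661000200000060000030200040194821000006042108090120020020042a840928a404200040080800084219a050200210866080800080010128a405028100200200240480042108000001885508100a00040001020000800140000ca410c10410008200000001200000f02020002000418410c100420f805000004400001400000420fe10430420004002200000000f00000480820010410400404001888c04444400222200311180818c04c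00003c000012011000088880002800008080000420f9888c042000400410000800101888c0401083e080800020800088880004400000001200000f005000308218304104082082061043040c602700004040a04004210800000184a290108421980500002000408550812404802154204200040014000084219920240000001810842040a040400010094520208080010010008008001010001948212000801a02c07028182800080084210205020004400004100024048004210b4901200041000011000205020021085a800080c0a0609a02c0480020010842000000900210000108000000126042c0c000101028100108420000006128a4042108660140000800102154204901200855081080010005000021086648090000000604210810281010000402514808202000400400200200040400065208400003c000012011000088880002800008080000420f9888c042000400410000800101888c0401083e080800020800088880004400000001200000f005000308218304104082082061043040c6027041040020800000004800003c080800080010610430401083e014000011000005000001083f8410c1080010008800000003c00001202080041041001010006223011111000888800c44602063013000006042108090120020020042a840928a404200040080800084219a050200210866080800080010128a405028100200200240480042108000001885508100a00040001020000800140000ca4109000400d016038140c1400040042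1081028100022000020800120240021085a480900020800008800102810010842d4000406050304d016024001000842100000048010800008400000009302160420007e0084002000800a8a80600008020020000000f0888800000018800080000006088880000003c2002004000400a8a80480020000840008001fc00010208208105504182a820c10410240049a0084000842169a02c048002008140802404800000048044000108420c0a06084210800440000000122404806050304800200680b0108421680210010281000410004000402000200082000c08581400040605030421085a008400240480042108008200000001240a0401a02c050281000000120208000421080d01602008400084216e05030500010048090001100010004008002000220006042c0c15410500010000840008001f880080000001904104000000f400010080020100004000000f410410000001840010008001f802100100010105504110010008888005454022a2a01111100480093440040048090040a040400010021086685508104040000500009452021084202514808050000101000855081084210400010102810048090010010004210cc20004000000c0000060400080329042222200011000010400208208010002000a0001888c07082182080800000009020200308218262230100a000000004a082080041000011000088880020004000841f00000f000007801083e0630131515009000401000101055041000006400010044440104104010010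000210004004010410401111004000100010801055041400040100040054540200000c00000f04000fc20007e00001e9001268a8a80480020080008082a82080000320000802222008208200800800010800200200820820088880200008000840082a820a0002008002002a2a01000006000007820007e10003f00000f48009344444000220000208004104100200040014000311180e1043041010000000120404006104304c446020140000000094104100082000022000111100040008001083e00001e00000f002107c0c602720024d6042c0b02160640049a1948210ca410818c04c0c60261948216042c086520840c60260630130ca410b02160640049ac085816042c0c800934329042063013900126c8009340c6027fffffe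

/-- An element outside the stabiliser of `cfgFive`. -/
def cfgFiveOut : List ℕ := [1, 18, 2, 21, 6, 16, 4, 1, 24]

/-- An element of order seven, for `cfgFive`. -/
def tMatFive : List ℕ := [0, 5, 11, 5, 9, 6, 19, 24, 3]

/-- An element normalising the subgroup of order seven, for `cfgFive`. -/
def sMatFive : List ℕ := [3, 2, 5, 3, 2, 20, 20, 20, 0]

/-- The inverse of the orbit matrix, for `cfgFive`. -/
def mInvFive : List ℕ := [1, 24, 9, 0, 20, 14, 0, 8, 15]

/-- The coefficients of the cubic equation, for `cfgFive`. -/
def cubicFive : List ℕ := [1, 8, 7]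

/-- An element moving the subgroup of order seven, for `cfgFive`. -/
def wMatFive : List ℕ := [0, 0, 1, 0, 1, 0, 4, 0, 0]

/-- An element with an irrational column, for `cfgFive`. -/
def vMatFive : List ℕ := [0, 5, 5, 11, 9, 21, 16, 24, 6]

/-- The irrational entries of `vMatFive`. -/
def vPosFive : ℕ × ℕ := (1, 2)

/-- An element mapping the first axis off the axes. -/
def uMatFive : List ℕ := [0, 5, 5, 5, 2, 3, 20, 2, 3]

/-- The nonzero entries of `uMatFive`. -/
def uPosFive : ℕ × ℕ := (1, 2)

/-- The lines of the configuration `cfgSix`. -/
def cfgSixPts : List (List ℕ) :=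
  [[0, 1, 4], [0, 1, 13], [0, 1, 18], [1, 0, 4], [1, 0, 13], [1, 0, 18], [1, 1, 7], [1, 1, 18], [1, 1, 23],
  [1, 1, 24], [1, 2, 12], [1, 3, 6], [1, 4, 0], [1, 4, 12], [1, 4, 18], [1, 5, 14], [1, 6, 3], [1, 7, 1],
  [1, 8, 17], [1, 9, 17], [1, 10, 12], [1, 11, 11], [1, 12, 2], [1, 12, 4], [1, 12, 10], [1, 12, 15],
  [1, 13, 0], [1, 13, 13], [1, 13, 17], [1, 14, 5], [1, 15, 12], [1, 16, 20], [1, 17, 8], [1, 17, 9],
  [1, 17, 13], [1, 17, 22], [1, 18, 0], [1, 18, 1], [1, 18, 4], [1, 19, 19], [1, 20, 16], [1, 21, 21],
  [1, 22, 17], [1, 23, 1], [1, 24, 1]]

/-- The codes of the multiples of the lines of `cfgSix`. -/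
def cfgSixBits : ℕ := 0x28280020000020000020000820000048000000000800002000000200004000000080200000002000080000000010000a8080000080000080080080400000800000400000684000e00000042000482000000a00c02020180800000000200200000000400000100020000000210040010000400000100000010000210018800000400040900040480000000002000000800010000008000000020040c0200000202018010800c000200100000000080004000000000120000008002020040000000080004000000040280300000200002100500010280000000040000080008000004000000100000020602000082800000000200040009840000000000802000000000200000800001000000200000040000080000008200000000003401000000008080a80008000000040000a0a001001008800002000408000004000200100000040000004508001148004000001000000080320080000400084100000100000040400a00000000040008000008000000000200280020100000000204000000020000004820800000200000000080000000801148000200c80200001000000228400200000028002100000008000040008480000000000408000000400000000800808010400000800000000400080000002410000080000400004000002000004000000200006201000208008200000000020000800400860008800400800000001080000001000000040000020000000100021028000020000004000009808400800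200000100000000100000201000001000000208008021050020000020000002000000004f080100000020010000000000800000400100000002000020000440022000000100001008c0008402000020020000020000000000800080320228400200000020000022900080000020200402000008000000a000800100200000001000004000008000002000421000000000040000010200000004820004000002100480020200010000800002000000000200200000800006010100010000002000000001000040100010200010030050000010b001000000008002000000002000001000010006002000000800001000004000000020040008402800200080000200002020040100004a200000200000020010a20000000208000000000200000200200000080209000008000001000000400001006400020000000400000000080000040100000100000400860000004c020000002000002000002102808200200002000100000000100000200400000200000002000c4020000200000010000880040420040200000100000004000000080100000008000008800708010008000000000100020000820024023000020000000008002000001000010000080000000004000001300000400000080108280420108000000010000000040000008040400840008400800000002000a00080004010a2000000020002000040104800100000000400400000002000000804a200000040008000000004000008000c8000000100021001828030020000020000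00800000000010010000000100100010200002000100000000080010010100c02000001000404010802000400002000010000100000080000000080000206000a80808000000002000000034000400000004800000000000a000000000100800000000001000200000000420000004000e001000000008080002080008000004002002011414000080000400090000080400040802100401000008000008000001000000000040100003005000000200000020001000004000100040401000000042cc0202000002000002000020000000800000400040000c004000000801000405000102000080080000004000000400000100004000000010b00002000400000100000000200010802000080c0202018028000002000080000000080020000010000000002600200080080480000080000080a80000000200000800020000000200800000010000200000020000080000000008000040080002080002000002000a0a00000004000004020004c00000d00000440008100000080000200004000800000028002080801000010000200020004200008008020900020000000404a2000002000000080000020000800000000421440000080000000408000000010000320000000004000008000800000400001000004000000210280440021000000200000000080c40200000013000400010000000040000200000000800000400080008010c0020000400000008200202100200000680010008000000a0a0000002008000000000202000000000040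0002000000100020000000040800001000000200201000080002000020004c000040020000405400200008200004080010204000e0000800400000100100c00000000040000000401000000000100001000000040001000000008000400800000141400000040001000000000d8000004000002000082054040000800080012000000400000201000008000000200000800000000099008c0020000000100000001000880040108280008000008000080000040000000002000004001000008200200004000080061002000840202000480040c00020602000408004820002410008400808402000482060020006400000420040420100c80000020600400090c0040060020040008103200000210028001020800120084020000000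

/-- An element outside the stabiliser of `cfgSix`. -/
def cfgSixOut : List ℕ := [5, 22, 4, 17, 15, 20, 22, 15, 23]

/-- The cube root of unity. -/
def omega : ℕ := 12

/-- The group of order 27. -/
def heis : List (List ℕ) :=
  [[1, 0, 0, 0, 1, 0, 0, 0, 1], [0, 0, 1, 1, 0, 0, 0, 1, 0], [0, 0, 1, 12, 0, 0, 0, 17, 0],
  [0, 0, 1, 17, 0, 0, 0, 12, 0], [0, 0, 12, 1, 0, 0, 0, 17, 0], [0, 0, 12, 12, 0, 0, 0, 12, 0],
  [0, 0, 12, 17, 0, 0, 0, 1, 0], [0, 0, 17, 1, 0, 0, 0, 12, 0], [0, 0, 17, 12, 0, 0, 0, 1, 0],
  [0, 0, 17, 17, 0, 0, 0, 17, 0], [0, 1, 0, 0, 0, 1, 1, 0, 0], [0, 1, 0, 0, 0, 12, 17, 0, 0],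
  [0, 1, 0, 0, 0, 17, 12, 0, 0], [0, 12, 0, 0, 0, 1, 17, 0, 0], [0, 12, 0, 0, 0, 12, 12, 0, 0],
  [0, 12, 0, 0, 0, 17, 1, 0, 0], [0, 17, 0, 0, 0, 1, 12, 0, 0], [0, 17, 0, 0, 0, 12, 1, 0, 0],
  [0, 17, 0, 0, 0, 17, 17, 0, 0], [1, 0, 0, 0, 12, 0, 0, 0, 17], [1, 0, 0, 0, 17, 0, 0, 0, 12],
  [12, 0, 0, 0, 1, 0, 0, 0, 17], [12, 0, 0, 0, 12, 0, 0, 0, 12], [12, 0, 0, 0, 17, 0, 0, 0, 1],
  [17, 0, 0, 0, 1, 0, 0, 0, 12], [17, 0, 0, 0, 12, 0, 0, 0, 1], [17, 0, 0, 0, 17, 0, 0, 0, 17]]

/-- An element moving the group of order 27. -/
def wMatSix : List ℕ := [0, 5, 5, 16, 9, 21, 16, 21, 9]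

/-- The configuration of 21 lines over nine elements. -/
def cfgThree : Cfg := ⟨cfgThreePts, cfgThreeBits, cfgThreeOut⟩

/-- The configuration of 105 lines over 25 elements. -/
def cfgFive : Cfg := ⟨cfgFivePts, cfgFiveBits, cfgFiveOut⟩

/-- The configuration of 45 lines over 25 elements. -/
def cfgSix : Cfg := ⟨cfgSixPts, cfgSixBits, cfgSixOut⟩

/-- The configuration is as described. -/
def checkCfg (p : ℕ) (C : Cfg) : Bool :=
  toBits (multiples p C.pts) == C.bits && C.pts.all (fun v => v.length == 3 && v.all fun x => Nat.blt x (p * p)) &&
    isSU p C.out && !stab p C C.out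

/-- The codes of norm one. -/
def normOne (p : ℕ) : List ℕ := (List.range (p * p)).filter fun x => cmul p x (ccj p x) == 1

/-- The six orders of the coordinates. -/
def orders : List (List ℕ) := [[0, 1, 2], [0, 2, 1], [1, 0, 2], [1, 2, 0], [2, 0, 1], [2, 1, 0]]

/-- The column supported at one place. -/
def axisCol (i c : ℕ) : List ℕ :=
  [if i == 0 then c else 0, if i == 1 then c else 0, if i == 2 then c else 0]

/-- Every monomial element preserves the configuration. -/
def checkFrame (p : ℕ) (C : Cfg) : Bool :=
  orders.all fun π => (normOne p).all fun a => (normOne p).all fun b => (normOne p).all fun c =>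
    !(mdet p (ofCols (axisCol (nth π 0) a) (axisCol (nth π 1) b) (axisCol (nth π 2) c)) == 1) ||
      stab p C (ofCols (axisCol (nth π 0) a) (axisCol (nth π 1) b) (axisCol (nth π 2) c))

/-- An element of the stabiliser moves the frame. -/
def checkFrameWitness : Bool :=
  isSU 5 uMatFive && stab 5 cfgFive uMatFive && ent uMatFive uPosFive.1 0 != 0 &&
    ent uMatFive uPosFive.2 0 != 0 && Nat.blt uPosFive.1 3 && Nat.blt uPosFive.2 3 && uPosFive.1 != uPosFive.2

/-- The integral vectors. -/
def intVecs (p : ℕ) : List (List ℕ) :=
  (List.range p).flatMap fun a => (List.range p).flatMap fun b => (List.range p).map fun c => [a, b, c]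

/-- Every multiple of a rational element preserves the configuration. -/
def checkRational (p : ℕ) (C : Cfg) : Bool :=
  (List.range (p * p)).all fun d => !(cmul p d (cmul p d d) == 1) || (intVecs p).all fun a =>
    !(hdot p (vscal p d a) (vscal p d a) == 1) || (intVecs p).all fun b =>
      !(hdot p (vscal p d a) (vscal p d b) == 0) || !(hdot p (vscal p d b) (vscal p d b) == 1) ||
        stab p C (ofCols (vscal p d a) (vscal p d b) (hcross p (vscal p d a) (vscal p d b)))

/-- An element of the stabiliser has an irrational column. -/
def checkRationalWitness (p : ℕ) (C : Cfg) (V : List ℕ) (ij : ℕ × ℕ) : Bool :=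
  isSU p V && stab p C V && Nat.blt ij.1 3 && Nat.blt ij.2 3 &&
    cmul p (ent V ij.1 0) (ccj p (ent V ij.2 0)) != ccj p (cmul p (ent V ij.1 0) (ccj p (ent V ij.2 0)))

/-- The data of an element of order seven. -/
structure Torus where
  /-- The element. -/
  t : List ℕ
  /-- An element normalising its group. -/
  s : List ℕ
  /-- The inverse of the matrix of the orbit of the first axis. -/
  m : List ℕ
  /-- The coefficients of the cubic equation. -/
  k : List ℕ
  /-- An element moving its group. -/
  w : List ℕ

/-- The torus over nine elements. -/
def torusThree : Torus := ⟨tMatThree, sMatThree, mInvThree, cubicThree, wMatThree⟩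

/-- The torus over 25 elements. -/
def torusFive : Torus := ⟨tMatFive, sMatFive, mInvFive, cubicFive, wMatFive⟩

/-- A matrix satisfies the cubic equation. -/
def cubicEq (p : ℕ) (k A : List ℕ) : Bool :=
  mmul p A (mmul p A A) == madd p (madd p (mscal p (nth k 0) mone) (mscal p (nth k 1) A))
    (mscal p (nth k 2) (mmul p A A))

/-- The basic facts on the torus. -/
def checkTorus (p : ℕ) (C : Cfg) (T : Torus) : Bool :=
  isSU p T.t && stab p C T.t && isSU p T.s && stab p C T.s && isSU p T.w && stab p C T.w &&
  mpow p T.t 7 == mone && T.t != mone && cubicEq p T.k T.t &&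
  mmul p (ofCols [1, 0, 0] (mapp p T.t [1, 0, 0]) (mapp p T.t (mapp p T.t [1, 0, 0]))) T.m == mone &&
  (List.range 7).all (fun j => !cubicEq p T.k (mpow p T.t j) || (List.range 3).any fun i =>
    mmul p (mpow p T.s i) T.t == mmul p (mpow p T.t j) (mpow p T.s i)) &&
  (List.range 7).all (fun j => mmul p T.w T.t != mmul p (mpow p T.t j) T.w)

/-- Every element commuting with the torus preserves the configuration. -/
def checkCentraliser (p : ℕ) (C : Cfg) (T : Torus) : Bool :=
  (List.range (p * p)).all fun a => (List.range (p * p)).all fun b => (List.range (p * p)).all fun c =>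
    !(hdot p [a, b, c] [a, b, c] == 1) ||
      !(hdot p (mapp p T.t [a, b, c]) [a, b, c] == hdot p (mapp p T.t [1, 0, 0]) [1, 0, 0]) ||
      !(hdot p (mapp p T.t (mapp p T.t [a, b, c])) [a, b, c] ==
        hdot p (mapp p T.t (mapp p T.t [1, 0, 0])) [1, 0, 0]) ||
      !(mdet p (mmul p (ofCols [a, b, c] (mapp p T.t [a, b, c]) (mapp p T.t (mapp p T.t [a, b, c]))) T.m) == 1) ||
      stab p C (mmul p (ofCols [a, b, c] (mapp p T.t [a, b, c]) (mapp p T.t (mapp p T.t [a, b, c]))) T.m)

/-- The diagonal generator of the group of order 27. -/
def dMat : List ℕ := [1, 0, 0, 0, omega, 0, 0, 0, cmul 5 omega omega]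

/-- The cyclic generator of the group of order 27. -/
def cMat : List ℕ := [0, 0, 1, 1, 0, 0, 0, 1, 0]

/-- The facts on the group of order 27. -/
def checkHeis : Bool :=
  heis.length == 27 && heis.getD 0 [] == mone && heis.all (fun A => A.length == 9 && A.all fun x => Nat.blt x 25) &&
  heis.all (fun A => heis.contains (mmul 5 dMat A) && heis.contains (mmul 5 cMat A)) && decide heis.Nodup &&
  heis.all (fun A => isSU 5 A) && heis.contains dMat && heis.contains cMat &&
  isSU 5 wMatSix && stab 5 cfgSix wMatSix && heis.all (fun B => mmul 5 wMatSix dMat != mmul 5 B wMatSix) &&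
  mapp 5 cMat [1, 0, 0] == [0, 1, 0] && mapp 5 cMat [0, 1, 0] == [0, 0, 1] && mapp 5 dMat [1, 0, 0] == [1, 0, 0]

/-- The sum of the powers of an element of order three. -/
def fixMat (A : List ℕ) : List ℕ := madd 5 (madd 5 mone A) (mmul 5 A A)

/-- A column of `fixMat` which is not zero. -/
def fixVec (A : List ℕ) : List ℕ :=
  if mapp 5 (fixMat A) [1, 0, 0] == [0, 0, 0] then
    (if mapp 5 (fixMat A) [0, 1, 0] == [0, 0, 0] then mapp 5 (fixMat A) [0, 0, 1] else mapp 5 (fixMat A) [0, 1, 0])
  else mapp 5 (fixMat A) [1, 0, 0]

/-- The fixed vectors of the elements outside the centre are multiples of one vector. -/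
def checkFix : Bool :=
  heis.all fun A => (List.range 25).any (fun c => A == mscal 5 c mone) ||
    [[1, 0, 0], [0, 1, 0], [0, 0, 1]].all fun e =>
      (List.range 25).any fun s => mapp 5 (fixMat A) e == vscal 5 s (fixVec A)

/-- Every element normalising the group of order 27 preserves the configuration. -/
def checkNormaliser : Bool :=
  heis.all fun A => (List.range 25).any (fun c => A == mscal 5 c mone) || (List.range 25).all fun c =>
    !(hdot 5 (vscal 5 c (fixVec A)) (vscal 5 c (fixVec A)) == 1) || heis.all fun B =>
      !(mdet 5 (ofCols (vscal 5 c (fixVec A)) (mapp 5 B (vscal 5 c (fixVec A)))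
        (mapp 5 B (mapp 5 B (vscal 5 c (fixVec A))))) == 1) ||
      !(mmul 5 (ofCols (vscal 5 c (fixVec A)) (mapp 5 B (vscal 5 c (fixVec A)))
        (mapp 5 B (mapp 5 B (vscal 5 c (fixVec A))))) dMat == mmul 5 A (ofCols (vscal 5 c (fixVec A))
        (mapp 5 B (vscal 5 c (fixVec A))) (mapp 5 B (mapp 5 B (vscal 5 c (fixVec A)))))) ||
      stab 5 cfgSix (ofCols (vscal 5 c (fixVec A)) (mapp 5 B (vscal 5 c (fixVec A)))
        (mapp 5 B (mapp 5 B (vscal 5 c (fixVec A)))))

end Cfsg.Agent.Classical.UnitThree.Code
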