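import Cfsg.Agent.Lib.Classical.AschUnitThreeFrame

/-!
Over 25 elements, the normaliser of an extraspecial group of order 27 in the three-dimensional special unitary group
lies in a larger proper subgroup.
-/

set_option autoImplicit false
set_option maxRecDepth 8000
set_option maxHeartbeats 1000000
set_option linter.unusedSectionVars false
set_option linter.unusedFintypeInType false
set_option linter.unusedDecidableInType false

namespace Cfsg.Agent.Classical.UnitThree

open Matrix Module Cfsg.Geo Cfsg.Agent.Classical.Asch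
open MaxTv (qEquiv qEquiv_apply herm_hermForm gl_mulVec_injective)
open Code
open scoped Pointwise

variable {F : Type*} [Field F] [Fintype F] {w : F}

local notation "M3F" => Matrix (Fin 3) (Fin 3) F
local notation "G3" => GL (Fin 3) F

/-- An extraspecial group of order 27 of similitudes over 25 elements is special unitary. -/
theorem le_su (hF : Fintype.card F = 5 ^ 2) {R : Subgroup G3} (hexp : ∀ x ∈ R, x ^ 3 = 1)
    (hsim : R ≤ similarityGroup (hermForm 3 F 5)) (hRai : ActsAbsolutelyIrreducibly (matrixSet R))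
    (hscal : Scal R) : R ≤ SU3 F 5 := by
  classical
  have hR : AI R := hRai
  have h5 : (5 : F) = 0 := by
    have := FiniteField.cast_card_eq_zero F
    rw [hF, Nat.cast_pow] at this
    exact_mod_cast eq_zero_of_pow_eq_zero this
  have hne : (6 : F) ≠ 0 := fun e => one_ne_zero (by linear_combination e - h5)
  intro x hx
  refine ⟨le_GU_of_exponent hF (by norm_num) hexp (by norm_num) hsim hx, MonoidHom.mem_ker.2 (Units.ext ?_)⟩
  show (x : M3F).det = 1
  by_cases hxs : x ∈ scalars (Fin 3) F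
  · obtain ⟨c, rfl⟩ := exists_sc hxs
    have h1 := congrArg (fun g : G3 => (g : M3F) 0 0) (hexp _ hx)
    simp only [Units.val_pow_eq_pow_val, sc_coe, smul_pow, one_pow, Matrix.smul_apply, Matrix.one_apply_eq,
      smul_eq_mul, mul_one, Units.val_one] at h1
    rw [sc_coe, Matrix.det_smul, Matrix.det_one, mul_one, Fintype.card_fin]
    exact h1
  obtain ⟨y, hy, hxy⟩ : ∃ y ∈ R, y * x ≠ x * y := by
    by_contra hno
    push Not at hno
    exact hxs (hR.mem_scalars fun z hz => (hno z hz).symm)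
  obtain ⟨c, hc⟩ := hscal x hx y hy
  have hc1 : (c : F) ≠ 1 := fun e => hxy (by rw [hc, show c = 1 from Units.ext e, map_one, one_mul])
  have hmat : (y : M3F) * (x : M3F) = (c : F) • ((x : M3F) * (y : M3F)) := by
    have := congrArg Units.val hc
    rwa [Units.val_mul, Units.val_mul, sc_coe, Matrix.smul_mul, one_mul, Units.val_mul] at this
  have hc2 : (c : F) ^ 2 ≠ 1 := by
    have hd := congrArg Matrix.det hmat
    rw [Matrix.det_smul, Matrix.det_mul, Matrix.det_mul, Fintype.card_fin] at hd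
    have h3 : (c : F) ^ 3 = 1 := by
      have hx0 : (x : M3F).det ≠ 0 := ((Matrix.isUnit_iff_isUnit_det _).1 x.isUnit).ne_zero
      have hy0 : (y : M3F).det ≠ 0 := ((Matrix.isUnit_iff_isUnit_det _).1 y.isUnit).ne_zero
      exact mul_right_cancel₀ (mul_ne_zero hx0 hy0) (by linear_combination -hd)
    intro e
    exact hc1 (by linear_combination h3 - (c : F) * e)
  have hconj : (x : M3F) = (c : F) • ((y⁻¹ : G3) * (x : M3F) * (y : M3F)) := by
    rw [Matrix.mul_assoc, ← Matrix.mul_smul, ← hmat, ← Matrix.mul_assoc, Units.inv_mul, one_mul]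
  have htr : ∀ M : M3F, ((y⁻¹ : G3) * M * (y : M3F)).trace = M.trace := fun M => by
    rw [Matrix.trace_mul_comm, ← Matrix.mul_assoc, Units.mul_inv, one_mul]
  have t1 : (x : M3F).trace = 0 := by
    have h := congrArg Matrix.trace hconj
    rw [Matrix.trace_smul, htr, smul_eq_mul] at h
    exact (mul_eq_zero.1 (show ((c : F) - 1) * (x : M3F).trace = 0 by linear_combination -h)).resolve_left
      (sub_ne_zero.2 hc1)
  have t2 : ((x : M3F) * (x : M3F)).trace = 0 := by
    have h : (x : M3F) * (x : M3F) = (c : F) ^ 2 • ((y⁻¹ : G3) * ((x : M3F) * (x : M3F)) * (y : M3F)) := by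
      conv_lhs => rw [hconj]
      rw [Matrix.smul_mul, Matrix.mul_smul, smul_smul, ← pow_two]
      congr 1
      rw [show (y⁻¹ : G3) * (x : M3F) * (y : M3F) * ((y⁻¹ : G3) * (x : M3F) * (y : M3F)) =
        (y⁻¹ : G3) * (x : M3F) * ((y : M3F) * (y⁻¹ : G3)) * (x : M3F) * (y : M3F) by simp only [Matrix.mul_assoc],
        Units.mul_inv, mul_one]
      simp only [Matrix.mul_assoc]
    have h' := congrArg Matrix.trace h
    rw [Matrix.trace_smul, htr, smul_eq_mul] at h'
    exact (mul_eq_zero.1 (show ((c : F) ^ 2 - 1) * ((x : M3F) * (x : M3F)).trace = 0 by linear_combination -h')).resolve_left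
      (sub_ne_zero.2 hc2)
  have h3 : ((x : M3F) * (x : M3F) * (x : M3F)).trace = 3 := by
    have := congrArg (fun g : G3 => (g : M3F)) (hexp x hx)
    simp only [pow_succ, pow_zero, one_mul, Units.val_mul, Units.val_one] at this
    rw [this, Matrix.trace_one, Fintype.card_fin]
    norm_num
  -- the determinant in terms of the traces of the powers
  have hid : 6 * (x : M3F).det = (x : M3F).trace ^ 3 - 3 * (x : M3F).trace * ((x : M3F) * (x : M3F)).trace +
      2 * ((x : M3F) * (x : M3F) * (x : M3F)).trace := by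
    simp only [Matrix.det_fin_three, Matrix.trace_fin_three, Matrix.mul_apply, Fin.sum_univ_three]
    ring
  rw [t1, t2, h3] at hid
  exact mul_left_cancel₀ hne (by linear_combination hid)

/-- The coded group of order 27. -/
def heisGrp (w : F) : Subgroup G3 :=
  Subgroup.closure {g | (g : M3F) = toM 5 w dMat ∨ (g : M3F) = toM 5 w cMat}

namespace Model

variable (h : Model 5 w)
include h

theorem heisGrp_list {g : G3} (hg : g ∈ heisGrp w) : ∃ A ∈ heis, (g : M3F) = toM 5 w A := by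
  have hk := heis_ok
  simp only [checkHeis, Bool.and_eq_true, beq_iff_eq, List.all_eq_true, List.contains_iff_mem, Nat.blt_eq] at hk
  obtain ⟨⟨⟨⟨⟨⟨⟨⟨⟨⟨⟨⟨⟨hlen, h0⟩, -⟩, hcl⟩, -⟩, -⟩, -⟩, -⟩, -⟩, -⟩, -⟩, -⟩, -⟩, -⟩ := hk
  rw [heisGrp, ← Subgroup.mem_toSubmonoid, Subgroup.closure_toSubmonoid_of_finite] at hg
  induction hg using Submonoid.closure_induction_left with
  | one =>
    refine ⟨mone, ?_, by rw [h.toM_mone, Units.val_one]⟩
    rw [← h0, List.getD_eq_getElem _ _ (by omega)]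
    exact List.getElem_mem _
  | mul_left a ha y _ ih =>
    obtain ⟨A, hA, hyA⟩ := ih
    rcases ha with ha | ha
    · exact ⟨_, (hcl A hA).1, by rw [h.toM_mmul, Units.val_mul, ha, hyA]⟩
    · exact ⟨_, (hcl A hA).2, by rw [h.toM_mmul, Units.val_mul, ha, hyA]⟩

theorem toM_inj {A B : List ℕ} (hA : A.length = 9 ∧ ∀ x ∈ A, x < 25) (hB : B.length = 9 ∧ ∀ x ∈ B, x < 25)
    (e : toM 5 w A = toM 5 w B) : A = B := by
  refine List.ext_getElem (hA.1.trans hB.1.symm) fun k h1 h2 => ?_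
  have hk : k < 9 := hA.1 ▸ h1
  have e1 := congrFun (congrFun e ⟨k / 3, by omega⟩) ⟨k % 3, by omega⟩
  simp only [toM, Matrix.of_apply, ent, show 3 * (k / 3) + k % 3 = k by omega, List.getD_eq_getElem _ _ h1,
    List.getD_eq_getElem _ _ h2] at e1
  exact h.val_inj (hA.2 _ (List.getElem_mem h1)) (hB.2 _ (List.getElem_mem h2)) e1

theorem heisGrp_le : heisGrp w ≤ SU3 F 5 := by
  intro g hg
  obtain ⟨A, hA, hgA⟩ := h.heisGrp_list hg
  have hk := heis_ok
  simp only [checkHeis, Bool.and_eq_true, beq_iff_eq, List.all_eq_true, List.contains_iff_mem, Nat.blt_eq] at hk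
  obtain ⟨⟨⟨⟨⟨⟨⟨⟨⟨-, hsu⟩, -⟩, -⟩, -⟩, -⟩, -⟩, -⟩, -⟩, -⟩ := hk
  obtain ⟨g', hg'S, hg'⟩ := h.exists_su (hsu A hA)
  rwa [show g = g' from Units.ext (hgA.trans hg'.symm)]

theorem card_heisGrp : Nat.card (heisGrp w) = 27 := by
  classical
  have hk := heis_ok
  simp only [checkHeis, Bool.and_eq_true, beq_iff_eq, List.all_eq_true, List.contains_iff_mem, Nat.blt_eq,
    decide_eq_true_iff] at hk
  obtain ⟨⟨⟨⟨⟨⟨⟨⟨⟨⟨⟨⟨⟨hlen, h0⟩, hval⟩, hcl⟩, hnd⟩, hsu⟩, hd⟩, hc⟩, -⟩, -⟩, -⟩, -⟩, -⟩, -⟩ := hk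
  obtain ⟨dd, -, hdd⟩ := h.exists_su (hsu _ hd)
  obtain ⟨cc, -, hcc⟩ := h.exists_su (hsu _ hc)
  have hddm : dd ∈ heisGrp w := Subgroup.subset_closure (Or.inl hdd)
  have hccm : cc ∈ heisGrp w := Subgroup.subset_closure (Or.inr hcc)
  -- every element of the list is a word in the generators
  have hword : ∀ A ∈ heis, ∃ a < 3, ∃ b < 3, ∃ e < 3, A = mmul 5 (mmul 5 (mpow 5 dMat a) (mpow 5 cMat b))
      (mpow 5 (mmul 5 (mmul 5 dMat cMat) (mmul 5 (mpow 5 dMat 2) (mpow 5 cMat 2))) e) := by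
    decide +kernel
  have hmemA : ∀ A ∈ heis, ∃ g ∈ heisGrp w, (g : M3F) = toM 5 w A := by
    intro A hA
    obtain ⟨a, -, b, -, e, -, rfl⟩ := hword A hA
    refine ⟨dd ^ a * cc ^ b * (dd * cc * (dd ^ 2 * cc ^ 2)) ^ e, mul_mem (mul_mem (pow_mem hddm _) (pow_mem hccm _))
      (pow_mem (mul_mem (mul_mem hddm hccm) (mul_mem (pow_mem hddm _) (pow_mem hccm _))) _), ?_⟩
    simp only [h.toM_mmul, h.toM_mpow, Units.val_mul, Units.val_pow_eq_pow_val, hdd, hcc]
  choose g hg hgA using fun i : Fin 27 => hmemA (heis.getD i []) (by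
    rw [List.getD_eq_getElem _ _ (by omega)]; exact List.getElem_mem _)
  have hb : Function.Bijective fun i : Fin 27 => (⟨g i, hg i⟩ : heisGrp w) := by
    refine ⟨fun i j e => ?_, fun x => ?_⟩
    · have e1 : toM 5 w (heis.getD i []) = toM 5 w (heis.getD j []) := by
        rw [← hgA, ← hgA]; exact congrArg (fun z : heisGrp w => ((z : G3) : M3F)) e
      rw [List.getD_eq_getElem _ _ (by omega), List.getD_eq_getElem _ _ (by omega)] at e1
      exact Fin.ext ((hnd.getElem_inj_iff).1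
        (h.toM_inj (hval _ (List.getElem_mem _)) (hval _ (List.getElem_mem _)) e1))
    · obtain ⟨A, hA, hxA⟩ := h.heisGrp_list x.2
      obtain ⟨i, hi, rfl⟩ := List.mem_iff_getElem.1 hA
      refine ⟨⟨i, by omega⟩, Subtype.ext (Units.ext ?_)⟩
      rw [hgA, hxA, List.getD_eq_getElem _ _ hi]
  rw [← Nat.card_eq_of_bijective _ hb, Nat.card_fin]

/-- An element normalising the coded group of order 27 preserves the configuration. -/
theorem normaliser_mem {y : G3} (hy : y ∈ SU3 F 5) (hN : y ∈ subgroupNormalizer (heisGrp w)) :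
    y ∈ h.big cfgSix := by
  have hk := heis_ok
  simp only [checkHeis, Bool.and_eq_true, beq_iff_eq, List.all_eq_true, List.contains_iff_mem, Nat.blt_eq,
    bne_iff_ne, ne_eq] at hk
  obtain ⟨⟨⟨⟨⟨⟨⟨⟨⟨⟨⟨⟨⟨-, -⟩, -⟩, -⟩, -⟩, hsu⟩, hd⟩, hc⟩, -⟩, -⟩, -⟩, hC0⟩, hC1⟩, hD0⟩ := hk
  obtain ⟨dd, -, hdd⟩ := h.exists_su (hsu _ hd)
  obtain ⟨cc, -, hcc⟩ := h.exists_su (hsu _ hc)
  have hddm : dd ∈ heisGrp w := Subgroup.subset_closure (Or.inl hdd)
  have hccm : cc ∈ heisGrp w := Subgroup.subset_closure (Or.inr hcc)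
  obtain ⟨A, hA, hyA⟩ := h.heisGrp_list ((Subgroup.mem_normalizer_iff.1 hN dd).1 hddm)
  obtain ⟨B, hB, hyB⟩ := h.heisGrp_list ((Subgroup.mem_normalizer_iff.1 hN cc).1 hccm)
  have hA' : toM 5 w A * (y : M3F) = (y : M3F) * toM 5 w dMat := by
    rw [← hyA, ← hdd, ← Units.val_mul, ← Units.val_mul]; congr 1; group
  have hB' : toM 5 w B * (y : M3F) = (y : M3F) * toM 5 w cMat := by
    rw [← hyB, ← hcc, ← Units.val_mul, ← Units.val_mul]; congr 1; group
  -- the element A is not a scalar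
  have hns : ∀ c < 25, A ≠ mscal 5 c mone := by
    rintro c hc' rfl
    rw [h.toM_mscal, h.toM_mone, Matrix.smul_mul, one_mul] at hA'
    have h1 : toM 5 w dMat = val 5 w c • (1 : M3F) := by
      have := congrArg (fun M : M3F => (y⁻¹ : G3) * M) hA'
      simp only [Matrix.mul_smul, Units.inv_mul, ← Matrix.mul_assoc, one_mul] at this
      exact this.symm
    have h00 := congrFun (congrFun h1 0) 0
    have h11 := congrFun (congrFun h1 1) 1
    simp only [toM, Matrix.of_apply, Matrix.smul_apply, Matrix.one_apply_eq, smul_eq_mul, mul_one] at h00 h11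
    have : ent dMat 0 0 = ent dMat 1 1 := h.val_inj (by decide) (by decide) (h00.trans h11.symm)
    exact absurd this (by decide)
  obtain ⟨a, b, c, ha, hb, hc', hu⟩ := h.exists_toV ((y : M3F) *ᵥ toV 5 w [1, 0, 0])
  set u := toV 5 w [a, b, c] with hudef
  have hAu : toM 5 w A *ᵥ u = u := by
    rw [hu, Matrix.mulVec_mulVec, hA', ← Matrix.mulVec_mulVec, ← h.toV_mapp, hD0]
  -- the fixed vector is a multiple of the column
  obtain ⟨s, hs, hus⟩ : ∃ s, s < 5 * 5 ∧ u = toV 5 w (vscal 5 s (fixVec A)) := by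
    have hf := fix_ok
    simp only [checkFix, List.all_eq_true, Bool.or_eq_true, List.any_eq_true, List.mem_range, beq_iff_eq] at hf
    rcases hf A hA with ⟨c', hc'', e⟩ | hcols
    · exact absurd e (hns c' hc'')
    obtain ⟨s0, -, e0⟩ := hcols [1, 0, 0] (by simp)
    obtain ⟨s1, -, e1⟩ := hcols [0, 1, 0] (by simp)
    obtain ⟨s2, -, e2⟩ := hcols [0, 0, 1] (by simp)
    have h3 : toM 5 w (fixMat A) *ᵥ u = (3 : F) • u := by
      simp only [fixMat, h.toM_madd, h.toM_mone, h.toM_mmul, Matrix.add_mulVec, Matrix.one_mulVec,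
        ← Matrix.mulVec_mulVec, hAu]
      module
    have hdec : u = u 0 • toV 5 w [1, 0, 0] + u 1 • toV 5 w [0, 1, 0] + u 2 • toV 5 w [0, 0, 1] := by
      funext i
      fin_cases i <;> simp [toV, nth, h.val_zero, h.val_one]
    have he : (3 : F) • u = (u 0 * val 5 w s0 + u 1 * val 5 w s1 + u 2 * val 5 w s2) • toV 5 w (fixVec A) := by
      rw [← h3]
      conv_lhs => rw [hdec]
      simp only [Matrix.mulVec_add, Matrix.mulVec_smul, ← h.toV_mapp, e0, e1, e2, h.toV_vscal, add_smul, smul_smul]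
    have h30 : (3 : F) ≠ 0 := fun e => by
      have h5 := h.cast_p
      push_cast at h5
      exact one_ne_zero (show (1 : F) = 0 by linear_combination 2 * e - h5)
    obtain ⟨s, hs, hsv⟩ := h.exists_code ((3 : F)⁻¹ * (u 0 * val 5 w s0 + u 1 * val 5 w s1 + u 2 * val 5 w s2))
    refine ⟨s, hs, ?_⟩
    rw [h.toV_vscal, hsv, ← smul_smul, ← he, smul_smul, inv_mul_cancel₀ h30, one_smul]
  set v := vscal 5 s (fixVec A) with hv
  have hyv : toV 5 w v = (y : M3F) *ᵥ toV 5 w [1, 0, 0] := hus.symm.trans hu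
  have h1 : toV 5 w (mapp 5 B v) = (y : M3F) *ᵥ toV 5 w [0, 1, 0] := by
    rw [h.toV_mapp, hyv, Matrix.mulVec_mulVec, hB', ← Matrix.mulVec_mulVec, ← h.toV_mapp, hC0]
  have h2 : toV 5 w (mapp 5 B (mapp 5 B v)) = (y : M3F) *ᵥ toV 5 w [0, 0, 1] := by
    rw [h.toV_mapp, h1, Matrix.mulVec_mulVec, hB', ← Matrix.mulVec_mulVec, ← h.toV_mapp, hC1]
  set Y := ofCols v (mapp 5 B v) (mapp 5 B (mapp 5 B v)) with hY
  have hM : (y : M3F) = toM 5 w Y := by
    rw [hY, toM_ofCols, hyv, h1, h2]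
    ext i j
    fin_cases j <;>
      simp [Matrix.transpose_apply, Matrix.mulVec, dotProduct, Fin.sum_univ_three, toV, nth, h.val_zero, h.val_one]
  refine h.mem_big cfgSix_ok hy hM ?_
  have hn := normaliser_ok
  simp only [checkNormaliser, List.all_eq_true, Bool.or_eq_true, List.any_eq_true, List.mem_range, beq_iff_eq,
    Bool.not_eq_true'] at hn
  rcases hn A hA with ⟨c', hc'', e⟩ | hn
  · exact absurd e (hns c' hc'')
  have c1 : hdot 5 v v = 1 := by
    refine h.hdot_eq_const (by norm_num) ?_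
    rw [hyv, show hermForm 3 F 5 ((y : M3F) *ᵥ toV 5 w [1, 0, 0]) ((y : M3F) *ᵥ toV 5 w [1, 0, 0]) =
      hermForm 3 F 5 (toV 5 w [1, 0, 0]) (toV 5 w [1, 0, 0]) from hy.1 _ _, h.val_one]
    simp [hermForm, toV, nth, Fin.sum_univ_three, h.val_one, h.val_zero]
  rcases hn s hs with e | e
  · rw [c1] at e; simp at e
  rcases e B hB with (e | e) | e
  · change (mdet 5 Y == 1) = false at e
    rw [h.mdet_eq_one (by rw [← hM]; exact congrArg Units.val (MonoidHom.mem_ker.1 hy.2))] at e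
    simp at e
  · change (mmul 5 Y dMat == mmul 5 A Y) = false at e
    rw [h.mmul_eq_of_toM (A := Y) (B := dMat) (A' := A) (B' := Y) (by
      rw [h.toM_mmul, h.toM_mmul, ← hM, hA'])] at e
    simp at e
  · exact e

end Model

/-- The 3-part of the special unitary group over 25 elements is 27. -/
theorem sylow_three (hF : Fintype.card F = 5 ^ 2) (h : Model 5 w) {R : Subgroup (SU3 F 5)} (hR : Nat.card R = 27) :
    Nat.card R = 3 ^ (Nat.card (SU3 F 5)).factorization 3 := by
  classical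
  haveI : Fact (Nat.Prime 3) := ⟨Nat.prime_three⟩
  obtain ⟨ω, hω, hω1⟩ : ∃ ω : F, ω ^ 3 = 1 ∧ ω ≠ 1 := by
    refine ⟨val 5 w omega, ?_, fun e => ?_⟩
    · have : cmul 5 omega (cmul 5 omega omega) = 1 := by decide
      have e := congrArg (val 5 w) this
      rw [h.val_cmul, h.val_cmul, h.val_one] at e
      linear_combination e
    · exact absurd (h.val_inj (by decide) (by norm_num) (e.trans h.val_one.symm)) (by decide)
  let f : GU 3 F 5 →* Fˣ := (Matrix.GeneralLinearGroup.det : G3 →* Fˣ).comp (GU 3 F 5).subtype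
  have hker : Nat.card f.ker = Nat.card (SU3 F 5) := Nat.card_congr
    { toFun := fun x => ⟨x.1.1, x.1.2, x.2⟩
      invFun := fun x => ⟨⟨x.1, x.2.1⟩, x.2.2⟩
      left_inv := fun _ => rfl
      right_inv := fun _ => rfl }
  have hω0 : ω ≠ 0 := fun e => by simp [e] at hω
  have hD : (Matrix.diagonal ![ω, 1, 1] : M3F).det = ω := by simp [Matrix.det_diagonal, Fin.prod_univ_three]
  let D : G3 := Matrix.GeneralLinearGroup.mkOfDetNeZero (Matrix.diagonal ![ω, 1, 1]) (by rw [hD]; exact hω0)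
  have hDU : D ∈ GU 3 F 5 := by
    refine (mem_GU_gram (σ := qEquiv hF) fun _ => rfl).2 ?_
    show (Matrix.diagonal ![ω, 1, 1] : M3F)ᵀ * (1 * (Matrix.diagonal ![ω, 1, 1] : M3F).map (qEquiv hF)) = 1
    rw [one_mul, Matrix.diagonal_transpose, Matrix.diagonal_map (map_zero _), Matrix.diagonal_mul_diagonal]
    rw [← Matrix.diagonal_one]
    congr 1
    funext i
    fin_cases i <;> simp [qEquiv_apply]
    calc ω * ω ^ 5 = (ω ^ 3) ^ 2 := by ring
      _ = 1 := by rw [hω, one_pow]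
  have hval : ((f ⟨D, hDU⟩ : Fˣ) : F) = ω := hD
  have h3 : 3 ∣ Nat.card f.range := by
    have ho : orderOf (f ⟨D, hDU⟩) = 3 := orderOf_eq_prime (Units.ext (by
      rw [Units.val_pow_eq_pow_val, hval, hω, Units.val_one])) fun e => hω1 (by rw [← hval, e, Units.val_one])
    have hd := orderOf_dvd_natCard (⟨f ⟨D, hDU⟩, ⟨_, rfl⟩⟩ : f.range)
    rwa [← orderOf_injective f.range.subtype Subtype.val_injective, Subgroup.coe_subtype, ho] at hd
  have hmul := f.ker.card_mul_index
  rw [Subgroup.index_ker, hker] at hmul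
  have hcard : Nat.card (GU 3 F 5) = 81 * 28000 := by
    have e := order_GU hF 3
    norm_num [Finset.prod_range_succ] at e
    rw [Nat.card_eq_fintype_card]
    exact_mod_cast e
  obtain ⟨r, hr⟩ := h3
  have hr' : Nat.card (SU3 F 5) * r = 27 * 28000 := by
    rw [hr, hcard] at hmul
    linarith
  have hdvd : Nat.card (SU3 F 5) ∣ 27 * 28000 := Dvd.intro r hr'
  have hle : (Nat.card (SU3 F 5)).factorization 3 ≤ 3 := by
    have h1 := (Nat.factorization_le_iff_dvd Nat.card_pos.ne' (by norm_num)).2 hdvd 3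
    rwa [Nat.factorization_mul (by norm_num) (by norm_num), Finsupp.add_apply,
      show (27 : ℕ) = 3 ^ 3 by norm_num, Nat.Prime.factorization_pow Nat.prime_three, Finsupp.single_eq_same,
      Nat.factorization_eq_zero_of_not_dvd (n := 28000) (p := 3) (by norm_num)] at h1
  have hge : 3 ≤ (Nat.card (SU3 F 5)).factorization 3 :=
    (Nat.Prime.pow_dvd_iff_le_factorization Nat.prime_three Nat.card_pos.ne').1 (by
      rw [show (3 : ℕ) ^ 3 = 27 by norm_num, ← hR]; exact Subgroup.card_subgroup_dvd_card R)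
  rw [hR, le_antisymm hle hge]
  norm_num

/-- Over 25 elements a maximal subgroup normalises no extraspecial group of order 27. -/
theorem extraspecial_five {H : Subgroup G3} (hF : Fintype.card F = 5 ^ 2) (hH : IsMaximalIn (SU3 F 5) H)
    {R : Subgroup G3} (hexp : ∀ x ∈ R, x ^ 3 = 1) (hsim : R ≤ similarityGroup (hermForm 3 F 5))
    (hRai : ActsAbsolutelyIrreducibly (matrixSet R)) (hscal : Scal R) (h27 : Nat.card R = 27)
    (hle : H ≤ subgroupNormalizer R) : False := by
  classical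
  obtain ⟨w, h⟩ := exists_model hF (Or.inr rfl)
  have hRS := le_su hF hexp hsim hRai hscal
  haveI : Fact (Nat.Prime 3) := ⟨Nat.prime_three⟩
  set G := SU3 F 5
  have hcR : Nat.card (R.subgroupOf G) = 27 := by
    rw [Nat.card_congr (Subgroup.subgroupOfEquivOfLe hRS).toEquiv, h27]
  have hcP : Nat.card ((heisGrp w).subgroupOf G) = 27 := by
    rw [Nat.card_congr (Subgroup.subgroupOfEquivOfLe h.heisGrp_le).toEquiv, h.card_heisGrp]
  let P : Sylow 3 G := Sylow.ofCard (R.subgroupOf G) (sylow_three hF h hcR)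
  let Q : Sylow 3 G := Sylow.ofCard ((heisGrp w).subgroupOf G) (sylow_three hF h hcP)
  obtain ⟨g, hg⟩ := MulAction.exists_smul_eq G P Q
  have hg' : MulAut.conj g • R.subgroupOf G = (heisGrp w).subgroupOf G := congrArg Sylow.toSubgroup hg
  have hiff : ∀ x : G3, x ∈ heisGrp w ↔ (g : G3)⁻¹ * x * (g : G3) ∈ R := by
    intro x
    by_cases hx : x ∈ G
    · have h1 : (⟨x, hx⟩ : G) ∈ MulAut.conj g • R.subgroupOf G ↔ x ∈ heisGrp w := by
        rw [hg']; exact Subgroup.mem_subgroupOf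
      rw [← h1, Subgroup.mem_pointwise_smul_iff_inv_smul_mem, Subgroup.mem_subgroupOf, MulAut.smul_def,
        MulAut.conj_inv_apply]
      rfl
    · refine ⟨fun hm => absurd (h.heisGrp_le hm) hx, fun hm => absurd ?_ hx⟩
      have := mul_mem (mul_mem g.2 (hRS hm)) (inv_mem g.2)
      rwa [show (g : G3) * ((g : G3)⁻¹ * x * (g : G3)) * (g : G3)⁻¹ = x by group] at this
  have hnorm : ∀ y : G3, y ∈ subgroupNormalizer R ↔
      (g : G3) * y * (g : G3)⁻¹ ∈ subgroupNormalizer (heisGrp w) := by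
    intro y
    simp only [subgroupNormalizer, Subgroup.mem_normalizer_iff]
    constructor
    · intro hy x
      rw [hiff, hiff, hy ((g : G3)⁻¹ * x * (g : G3))]
      rw [show (g : G3)⁻¹ * ((g : G3) * y * (g : G3)⁻¹ * x * ((g : G3) * y * (g : G3)⁻¹)⁻¹) * (g : G3) =
        y * ((g : G3)⁻¹ * x * (g : G3)) * y⁻¹ by group]
    · intro hy x
      have := hy ((g : G3) * x * (g : G3)⁻¹)
      rw [hiff, hiff, show (g : G3)⁻¹ * ((g : G3) * x * (g : G3)⁻¹) * (g : G3) = x by group,
        show (g : G3)⁻¹ * ((g : G3) * y * (g : G3)⁻¹ * ((g : G3) * x * (g : G3)⁻¹) *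
          ((g : G3) * y * (g : G3)⁻¹)⁻¹) * (g : G3) = y * x * y⁻¹ by group] at this
      exact this
  refine false_of_conj hH hle (B := h.big cfgSix) g.2.1 ?_ inf_le_left (h.exists_not_big cfgSix_ok) ?_
  · rintro y ⟨hyN, hyS⟩
    exact h.normaliser_mem (conj_mem_su g.2.1 hyS) ((hnorm y).1 hyN)
  · have hk := heis_ok
    simp only [checkHeis, Bool.and_eq_true, beq_iff_eq, List.all_eq_true, List.contains_iff_mem, Nat.blt_eq,
      bne_iff_ne, ne_eq] at hk
    obtain ⟨⟨⟨⟨⟨⟨⟨⟨⟨-, hsu⟩, hd⟩, -⟩, hwS⟩, hwst⟩, hmove⟩, -⟩, -⟩, -⟩ := hk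
    obtain ⟨x, hxS, hx⟩ := h.exists_su hwS
    refine ⟨x, h.mem_big cfgSix_ok hxS hx hwst, fun hmem => ?_⟩
    have hxN := (hnorm _).1 hmem
    rw [show (g : G3) * ((g : G3)⁻¹ * x * (g : G3)) * (g : G3)⁻¹ = x by group] at hxN
    obtain ⟨dd, -, hdd⟩ := h.exists_su (hsu _ hd)
    obtain ⟨B, hB, hxB⟩ := h.heisGrp_list
      ((Subgroup.mem_normalizer_iff.1 hxN dd).1 (Subgroup.subset_closure (Or.inl hdd)))
    refine hmove B hB (h.mmul_eq_of_toM ?_)
    calc toM 5 w (mmul 5 wMatSix dMat) = (x : M3F) * (dd : M3F) :=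
          (h.toM_mmul _ _).trans (congrArg₂ (· * ·) hx.symm hdd.symm)
      _ = ((x * dd * x⁻¹ : G3) : M3F) * (x : M3F) := by
          rw [← Units.val_mul, ← Units.val_mul]
          exact congrArg Units.val (by group)
      _ = toM 5 w B * toM 5 w wMatSix := congrArg₂ (· * ·) hxB hx
      _ = toM 5 w (mmul 5 B wMatSix) := (h.toM_mmul _ _).symm

end Cfsg.Agent.Classical.UnitThree
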