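import Cfsg.Agent.Lib.Classical.AschUnitThreeFrame

/-!
Over 9 and 25 elements, the normaliser of a cubic field in the three-dimensional special unitary group lies in a
larger proper subgroup.
-/

set_option autoImplicit false
set_option maxRecDepth 8000
set_option maxHeartbeats 1000000
set_option synthInstance.maxHeartbeats 400000
set_option linter.unusedSectionVars false
set_option linter.unusedFintypeInType false
set_option linter.unusedDecidableInType false

namespace Cfsg.Agent.Classical.UnitThree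

open Matrix Module Cfsg.Geo Cfsg.Agent.Classical.Asch
open MaxTv (qEquiv qEquiv_apply herm_hermForm gl_mulVec_injective)
open Code
open scoped Pointwise

variable {F : Type*} [Field F] [Fintype F] {p : ℕ} {w : F}

local notation "M3F" => Matrix (Fin 3) (Fin 3) F
local notation "G3" => GL (Fin 3) F

namespace Model

variable (h : Model p w)
include h

theorem skew : qEquiv h.hF w = -w ∧ w ≠ 0 ∧ (2 : F) ≠ 0 := by
  refine ⟨by rw [qEquiv_apply, h.conj_root], fun e => ?_, fun e => ?_⟩
  · have h1 := h.sq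
    rw [e, mul_zero] at h1
    have h2 : ((2 : ℕ) : F) = 0 := by push_cast; exact h1.symm
    haveI := h.charP.1
    rw [CharP.cast_eq_zero_iff F p] at h2
    rcases h.hp with rfl | rfl <;> norm_num at h2
  · have h2 : ((2 : ℕ) : F) = 0 := by push_cast; exact e
    haveI := h.charP.1
    rw [CharP.cast_eq_zero_iff F p] at h2
    rcases h.hp with rfl | rfl <;> norm_num at h2

/-- A cubic field closed under adjoints has a special unitary element of order seven. -/
theorem exists_torus {K : Subalgebra F M3F} (hK : IsFieldSubalgebra 3 K)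
    (hac : IsAdjointClosedFor (hermForm 3 F p) K) :
    ∃ X : G3, X ∈ SU3 F p ∧ orderOf X = 7 ∧ ∀ g ∈ subalgebraNormalizer K, g * X * g⁻¹ ∈ Subgroup.zpowers X := by
  obtain ⟨hσw, hw0, h2⟩ := h.skew
  have hF := h.hF
  have hinv : ∀ a, qEquiv hF (qEquiv hF a) = a := (herm_hermForm (n := 1) hF).invol
  have hσ : ∀ a, qEquiv hF a = a ^ p := fun a => rfl
  generalize qEquiv hF = σ at hσw hinv hσ
  have hadj : ∀ k ∈ K, kᵀ.map σ ∈ K := by
    intro k hk
    obtain ⟨k', hk', hf⟩ := hac k hk
    convert hk'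
    ext i j
    have e := hf (Pi.single i 1) (Pi.single j 1)
    rw [hermForm_single_right hF, ← hermForm_symm hF 3 (k' *ᵥ Pi.single j 1) (Pi.single i 1),
      hermForm_single_right hF, Matrix.mulVec_single_one, Matrix.mulVec_single_one] at e
    simp only [Matrix.col_apply] at e
    simp only [Matrix.map_apply, Matrix.transpose_apply]
    rw [e, ← hσ, hinv]
  letI : Field K := (field_model hK).toField
  haveI : FiniteDimensional F K := Module.finite_of_finrank_pos (by rw [hK.finrank_eq]; norm_num)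
  haveI : Finite K := Module.finite_of_finite F
  haveI : Fintype K := Fintype.ofFinite K
  have hcardK : Fintype.card K = p ^ 6 := by
    rw [Module.card_eq_pow_finrank (K := F), h.hF, hK.finrank_eq, ← pow_mul]
  haveI : Fact (Nat.Prime 7) := ⟨by norm_num⟩
  obtain ⟨u, hu⟩ := exists_prime_orderOf_dvd_card' (G := Kˣ) 7 (by
    rw [Nat.card_units, Nat.card_eq_fintype_card, hcardK]
    rcases h.hp with rfl | rfl <;> norm_num)
  let x : K := u
  have hx : IsPrimitiveRoot x 7 := IsPrimitiveRoot.coe_units_iff.2 (hu ▸ IsPrimitiveRoot.orderOf u)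
  let τ : K →+* K :=
    { toFun := fun k => ⟨((k : M3F))ᵀ.map σ, hadj k k.2⟩
      map_one' := Subtype.ext (by
        show ((1 : M3F))ᵀ.map σ = 1
        rw [Matrix.transpose_one, Matrix.map_one σ (map_zero σ) (map_one σ)])
      map_mul' := fun a b => Subtype.ext (by
        show ((a : M3F) * (b : M3F))ᵀ.map σ = (a : M3F)ᵀ.map σ * (b : M3F)ᵀ.map σ
        rw [hK.comm _ a.2 _ b.2, Matrix.transpose_mul, Matrix.map_mul])
      map_zero' := Subtype.ext (by ext; simp)
      map_add' := fun a b => Subtype.ext (by ext; simp) }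
  have hττ : ∀ k, τ (τ k) = k := fun k => Subtype.ext (by
    show (((k : M3F))ᵀ.map σ)ᵀ.map σ = k
    ext i j; simp [hinv])
  obtain ⟨j, hj, hxj⟩ := hx.eq_pow_of_pow_eq_one (show (τ x) ^ 7 = 1 by rw [← map_pow, hx.pow_eq_one, map_one])
  have hjj : j * j % 7 = 1 := by
    have e := hττ x
    rw [← hxj, map_pow, ← hxj, ← pow_mul] at e
    have e1 : x ^ (j * j) = x ^ 1 := e.trans (pow_one x).symm
    rw [← pow_mod_orderOf, ← hx.eq_orderOf] at e1
    exact hx.pow_inj (Nat.mod_lt _ (by norm_num)) (by norm_num) e1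
  have hj6 : j = 6 := by
    interval_cases j <;> simp at hjj ⊢
    rw [pow_one] at hxj
    let E := RingHom.eqLocusField τ (RingHom.id K)
    haveI : Fintype E := Fintype.ofFinite E
    have hwK : τ (algebraMap F K w) = -algebraMap F K w := Subtype.ext (by
      show (algebraMap F M3F w)ᵀ.map σ = -algebraMap F M3F w
      ext i k
      by_cases hik : i = k
      · subst hik; simp [Matrix.algebraMap_eq_diagonal, hσw]
      · simp [Matrix.algebraMap_eq_diagonal, Matrix.diagonal, hik, Ne.symm hik])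
    have hmem : ∀ k : K, k ∈ E ↔ τ k = k := fun k => Iff.rfl
    have h2K : (2 : K) ≠ 0 := fun e => h2 ((algebraMap F K).injective (by rw [map_ofNat, map_zero, e]))
    have hwK0 : algebraMap F K w ≠ 0 := (map_ne_zero _).2 hw0
    set W := algebraMap F K w with hW
    let f : E × E → K := fun a => (a.1 : K) + W * a.2
    have hf : Function.Bijective f := by
      constructor
      · rintro ⟨⟨a, ha⟩, ⟨b, hb⟩⟩ ⟨⟨a', ha'⟩, ⟨b', hb'⟩⟩ e
        rw [hmem] at ha hb ha' hb'
        have e' := congrArg τ e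
        simp only [f, map_add, map_mul, ha, hb, ha', hb', hwK] at e e'
        have ha2 : a = a' := mul_left_cancel₀ h2K (by linear_combination e + e')
        subst ha2
        have hb2 : b = b' := mul_left_cancel₀ hwK0 (by linear_combination e)
        subst hb2
        rfl
      · intro k
        refine ⟨(⟨(k + τ k) / 2, ?_⟩, ⟨(k - τ k) / (2 * W), ?_⟩), ?_⟩
        · rw [hmem, map_div₀, map_add, hττ, map_ofNat, add_comm]
        · rw [hmem, map_div₀, map_sub, hττ, map_mul, map_ofNat, hwK, mul_neg, div_neg, ← neg_div, neg_sub]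
        · simp only [f]
          field_simp
          ring
    have hcE := Fintype.card_of_bijective hf
    rw [Fintype.card_prod, hcardK, show p ^ 6 = p ^ 3 * p ^ 3 by ring] at hcE
    have hE : Fintype.card E = p ^ 3 := Nat.mul_self_inj.1 hcE
    have hxE : x ∈ E := (hmem x).2 hxj.symm
    have hpow : x ^ (p ^ 3 - 1) = 1 := by
      have := FiniteField.pow_card_sub_one_eq_one (⟨x, hxE⟩ : E) (fun e => hx.ne_zero (by norm_num)
        (congrArg Subtype.val e))
      rw [hE] at this
      exact congrArg Subtype.val this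
    have := hx.dvd_of_pow_eq_one _ hpow
    rcases h.hp with rfl | rfl <;> norm_num at this
  subst hj6
  have hxx : τ x * x = 1 := by rw [← hxj, ← pow_succ, hx.pow_eq_one]
  have hm : (x : M3F)ᵀ.map σ * (x : M3F) = 1 := congrArg Subtype.val hxx
  let X : G3 := ⟨(x : M3F), (x : M3F)ᵀ.map σ, by rw [hK.comm _ x.2 _ (hadj _ x.2)]; exact hm, hm⟩
  have hX7 : (x : M3F) ^ 7 = 1 := congrArg Subtype.val hx.pow_eq_one
  have hord : orderOf X = 7 := orderOf_eq_prime (Units.ext (by rw [Units.val_pow_eq_pow_val]; exact hX7))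
    fun e => hx.ne_one (by norm_num) (Subtype.ext (congrArg Units.val e))
  refine ⟨X, ⟨?_, ?_⟩, hord, ?_⟩
  · show X ∈ GU 3 F p
    rw [mem_GU_gram hσ]
    have h2 := congrArg (fun M : M3F => M.map σ) hm
    simp only [Matrix.map_mul, Matrix.map_map, Matrix.map_one σ (map_zero σ) (map_one σ)] at h2
    show (x : M3F)ᵀ * (1 * (x : M3F).map σ) = 1
    rw [Matrix.one_mul]
    convert h2 using 2
    ext i k
    simp [hinv]
  · refine MonoidHom.mem_ker.2 (Units.ext ?_)
    show (x : M3F).det = 1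
    have h7 : (x : M3F).det ^ 7 = 1 := by rw [← Matrix.det_pow, hX7, Matrix.det_one]
    have h0 : (x : M3F).det ≠ 0 := fun e => by simp [e] at h7
    have hc := FiniteField.pow_card_sub_one_eq_one _ h0
    rw [h.hF] at hc
    have := pow_gcd_eq_one.2 ⟨h7, hc⟩
    rcases h.hp with rfl | rfl <;> simpa using this
  · intro g hg
    have hy := (hg (x : M3F)).1 x.2
    obtain ⟨i, -, hi⟩ := hx.eq_pow_of_pow_eq_one (show (⟨_, hy⟩ : K) ^ 7 = 1 from Subtype.ext (by
      show ((g * X * g⁻¹ : G3) : M3F) ^ 7 = 1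
      rw [← Units.val_pow_eq_pow_val, conj_pow,
        show X ^ 7 = 1 by rw [← hord]; exact pow_orderOf_eq_one X]
      simp))
    refine ⟨i, ?_⟩
    show X ^ (i : ℤ) = _
    rw [zpow_natCast]
    exact Units.ext (by rw [Units.val_pow_eq_pow_val]; exact congrArg Subtype.val hi)

/-- An element normalising the group of the coded element of order seven preserves the configuration. -/
theorem torus_mem {C : Cfg} {T : Torus} (hC : checkCfg p C = true) (hT : checkTorus p C T = true)
    (hcen : checkCentraliser p C T = true) {t : G3} (ht : (t : M3F) = toM p w T.t) {y : G3} (hy : y ∈ SU3 F p)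
    {j : ℕ} (hj : y * t * y⁻¹ = t ^ j) : y ∈ h.big C := by
  simp only [checkTorus, Bool.and_eq_true, beq_iff_eq, List.all_eq_true, List.mem_range, Bool.or_eq_true,
    Bool.not_eq_true', List.any_eq_true, bne_iff_ne, ne_eq] at hT
  obtain ⟨⟨⟨⟨⟨⟨⟨⟨⟨⟨⟨-, -⟩, hsS⟩, hsst⟩, -⟩, -⟩, h7⟩, -⟩, hk⟩, hM⟩, hroots⟩, -⟩ := hT
  obtain ⟨s, hsmem, hs⟩ := h.exists_su hsS
  have hsbig : s ∈ h.big C := h.mem_big hC hsmem hs hsst
  have ht7 : t ^ 7 = 1 := Units.ext (by
    rw [Units.val_pow_eq_pow_val, ht, ← h.toM_mpow, h7, h.toM_mone, Units.val_one])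
  rw [← Nat.mod_add_div j 7, pow_add, pow_mul, ht7, one_pow, mul_one] at hj
  set k := j % 7 with hkdef
  have hk7 : k < 7 := Nat.mod_lt _ (by norm_num)
  -- the cubic equation is carried along
  have hpow : ∀ n : ℕ, (y : M3F) * toM p w T.t ^ n * (y⁻¹ : G3) = (toM p w T.t ^ k) ^ n := fun n => by
    have := congrArg Units.val (conj_pow (a := y) (b := t) (i := n))
    rw [hj] at this
    simp only [Units.val_mul, Units.val_pow_eq_pow_val, ht] at this
    exact this.symm
  have hcub : cubicEq p T.k (mpow p T.t k) = true := by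
    have hk' : mmul p T.t (mmul p T.t T.t) = madd p (madd p (mscal p (nth T.k 0) mone) (mscal p (nth T.k 1) T.t))
        (mscal p (nth T.k 2) (mmul p T.t T.t)) := by
      simpa [cubicEq] using hk
    have e0 := congrArg (toM p w) hk'
    simp only [h.toM_mmul, h.toM_madd, h.toM_mscal, h.toM_mone] at e0
    have e1 := congrArg (fun M : M3F => (y : M3F) * M * (y⁻¹ : G3)) e0
    have h1 := hpow 1
    have h2' := hpow 2
    have h3 := hpow 3
    rw [pow_one] at h1
    rw [pow_one] at h1
    rw [show toM p w T.t * (toM p w T.t * toM p w T.t) = toM p w T.t ^ 3 by rw [pow_succ', pow_two],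
      ← pow_two (toM p w T.t)] at e1
    simp only [Matrix.mul_add, Matrix.add_mul, Matrix.mul_smul, Matrix.smul_mul, Matrix.mul_one, Units.mul_inv,
      h1, h2', h3] at e1
    simp only [cubicEq, beq_iff_eq]
    have hval : ∀ A B : List ℕ, A.length = 9 → B.length = 9 → (∀ i, A.getD i 0 < p * p) →
        (∀ i, B.getD i 0 < p * p) → toM p w A = toM p w B → A = B := by
      intro A B hA hB hA' hB' e
      refine List.ext_getElem (hA.trans hB.symm) fun i h1 h2 => ?_
      have hi : i < 9 := hA ▸ h1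
      have e1 := congrFun (congrFun e ⟨i / 3, by omega⟩) ⟨i % 3, by omega⟩
      simp only [toM, Matrix.of_apply, ent, show 3 * (i / 3) + i % 3 = i by omega] at e1
      have e2 := h.val_inj (hA' i) (hB' i) e1
      rwa [List.getD_eq_getElem _ _ h1, List.getD_eq_getElem _ _ h2] at e2
    have h0 : 0 < p * p := Nat.mul_pos h.pos h.pos
    refine hval _ _ rfl rfl (fun i => ?_) (fun i => ?_) ?_
    · rw [mmul]
      iterate 9 (rcases i with _ | i; · exact h.cadd_lt _ _)
      simpa using h0
    · rw [madd]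
      iterate 9 (rcases i with _ | i; · exact h.cadd_lt _ _)
      simpa using h0
    · simp only [h.toM_mmul, h.toM_madd, h.toM_mscal, h.toM_mone, h.toM_mpow]
      rw [← pow_two, ← pow_succ']
      exact e1
  rcases hroots k hk7 with e | ⟨i, -, hi⟩
  · rw [hcub] at e; simp at e
  have hst : s ^ i * t = t ^ k * s ^ i := Units.ext (by
    have := congrArg (toM p w) hi
    simpa [h.toM_mmul, h.toM_mpow, ht, hs] using this)
  set z := (s ^ i)⁻¹ * y with hz
  have hzS : z ∈ SU3 F p := mul_mem (inv_mem (pow_mem hsmem i)) hy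
  have hzt : z * t = t * z := by
    have h1 : y * t = t ^ k * y := by rw [← hj]; group
    rw [hz, mul_assoc, h1, ← mul_assoc, ← mul_assoc, eq_comm]
    have h2 : (s ^ i)⁻¹ * t ^ k = t * (s ^ i)⁻¹ := by
      rw [inv_mul_eq_iff_eq_mul, ← mul_assoc, hst, mul_inv_cancel_right]
    rw [h2]
  suffices hzb : z ∈ h.big C by
    have := mul_mem (pow_mem hsbig i) hzb
    rwa [hz, mul_inv_cancel_left] at this
  -- an element commuting with the torus is determined by the image of an axis
  have hzt' : (z : M3F) * toM p w T.t = toM p w T.t * (z : M3F) := by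
    have := congrArg Units.val hzt
    simpa [ht] using this
  obtain ⟨a, b, c, ha, hb, hc, hu⟩ := h.exists_toV ((z : M3F) *ᵥ toV p w [1, 0, 0])
  set u := [a, b, c] with hudef
  have hTu : toV p w (mapp p T.t u) = (z : M3F) *ᵥ toV p w (mapp p T.t [1, 0, 0]) := by
    rw [h.toV_mapp, h.toV_mapp, hu, Matrix.mulVec_mulVec, Matrix.mulVec_mulVec, hzt']
  have hTTu : toV p w (mapp p T.t (mapp p T.t u)) = (z : M3F) *ᵥ toV p w (mapp p T.t (mapp p T.t [1, 0, 0])) := by
    rw [h.toV_mapp, hTu, h.toV_mapp _ (mapp p T.t [1, 0, 0]), Matrix.mulVec_mulVec, Matrix.mulVec_mulVec, hzt']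
  have hiso : ∀ v v', hermForm 3 F p ((z : M3F) *ᵥ v) ((z : M3F) *ᵥ v') = hermForm 3 F p v v' := hzS.1
  set A := mmul p (ofCols u (mapp p T.t u) (mapp p T.t (mapp p T.t u))) T.m with hA
  have hz' : (z : M3F) = toM p w A := by
    have e := congrArg (toM p w) hM
    rw [h.toM_mmul, h.toM_mone] at e
    rw [hA, h.toM_mmul, show toM p w (ofCols u (mapp p T.t u) (mapp p T.t (mapp p T.t u))) =
      (z : M3F) * toM p w (ofCols [1, 0, 0] (mapp p T.t [1, 0, 0]) (mapp p T.t (mapp p T.t [1, 0, 0]))) by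
        rw [toM_ofCols, toM_ofCols, hTTu, hTu, hu]
        ext i l
        fin_cases l <;> simp [Matrix.mul_apply, Matrix.mulVec, dotProduct], mul_assoc, e, mul_one]
  refine h.mem_big hC hzS hz' ?_
  simp only [checkCentraliser, List.all_eq_true, List.mem_range, Bool.or_eq_true, Bool.not_eq_true'] at hcen
  have c1 : hdot p u u = 1 := by
    refine h.hdot_eq_const (by rcases h.hp with rfl | rfl <;> norm_num) ?_
    rw [hu, hiso, h.val_one]
    have hp0 : (0 : F) ^ p = 0 := zero_pow (by have := h.pos; omega)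
    simp [hermForm, toV, nth, Fin.sum_univ_three, h.val_one, h.val_zero, hp0]
  have c2 : hdot p (mapp p T.t u) u = hdot p (mapp p T.t [1, 0, 0]) [1, 0, 0] :=
    h.hdot_eq (by rw [hTu, hu, hiso])
  have c3 : hdot p (mapp p T.t (mapp p T.t u)) u = hdot p (mapp p T.t (mapp p T.t [1, 0, 0])) [1, 0, 0] :=
    h.hdot_eq (by rw [hTTu, hu, hiso])
  have c4 : mdet p A = 1 := h.mdet_eq_one (by
    rw [← hz']; exact congrArg Units.val (MonoidHom.mem_ker.1 hzS.2))
  rcases hcen a ha b hb c hc with (((e | e) | e) | e) | e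
  · rw [c1] at e; simp at e
  · rw [c2] at e; simp at e
  · rw [c3] at e; simp at e
  · change (mdet p A == 1) = false at e
    rw [c4] at e; simp at e
  · exact e

end Model

/-- Over 9 and 25 elements a maximal subgroup normalises no cubic field. -/
theorem field_small {q : ℕ} {H : Subgroup G3} (hF : Fintype.card F = q ^ 2) (hq : q = 3 ∨ q = 5)
    (hH : IsMaximalIn (SU3 F q) H) {K : Subalgebra F M3F} (hK : IsFieldSubalgebra 3 K)
    (hac : IsAdjointClosedFor (hermForm 3 F q) K) (hle : H ≤ subalgebraNormalizer K) : False := by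
  classical
  obtain ⟨w, h⟩ := exists_model hF hq
  obtain ⟨C, T, hC, hT, hcen⟩ : ∃ C T, checkCfg q C = true ∧ checkTorus q C T = true ∧
      checkCentraliser q C T = true := by
    rcases hq with rfl | rfl
    · exact ⟨_, _, cfgThree_ok, torusThree_ok, centraliserThree_ok⟩
    · exact ⟨_, _, cfgFive_ok, torusFive_ok, centraliserFive_ok⟩
  have hT' := hT
  simp only [checkTorus, Bool.and_eq_true, beq_iff_eq, List.all_eq_true, List.mem_range, Bool.or_eq_true,
    Bool.not_eq_true', List.any_eq_true, bne_iff_ne, ne_eq] at hT'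
  obtain ⟨⟨⟨⟨⟨⟨⟨⟨⟨⟨⟨htS, htst⟩, -⟩, -⟩, hwS⟩, hwst⟩, h7⟩, h1⟩, -⟩, hM⟩, -⟩, hmove⟩ := hT'
  obtain ⟨t, htmem, ht⟩ := h.exists_su htS
  obtain ⟨X, hXS, hXo, hXn⟩ := h.exists_torus hK hac
  haveI : Fact (Nat.Prime 7) := ⟨by norm_num⟩
  have ht7 : t ^ 7 = 1 := Units.ext (by
    rw [Units.val_pow_eq_pow_val, ht, ← h.toM_mpow, h7, h.toM_mone, Units.val_one])
  have hto : orderOf t = 7 := orderOf_eq_prime ht7 fun e => by
    have e1 : toM q w T.t = 1 := by rw [← ht, e, Units.val_one]
    have e2 := congrArg (toM q w) hM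
    rw [h.toM_mmul, h.toM_mone, Model.toM_ofCols, h.toV_mapp, h.toV_mapp, e1, Matrix.one_mulVec] at e2
    have hdet := congrArg Matrix.det e2
    have hz : ∀ v v' : Fin 3 → F, (Matrix.of ![v, v, v']).det = 0 := fun v v' =>
      Matrix.det_zero_of_row_eq (show (0 : Fin 3) ≠ 1 by decide) rfl
    rw [Matrix.det_mul, Matrix.det_one, Matrix.det_transpose, hz, zero_mul] at hdet
    exact zero_ne_one hdet
  have hfac : (Nat.card (GU 3 F q)).factorization 7 = 1 := by
    have e := order_GU hF 3
    rcases hq with rfl | rfl <;> norm_num [Finset.prod_range_succ] at e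
    · rw [show Nat.card (GU 3 F 3) = 7 * 3456 by rw [Nat.card_eq_fintype_card]; exact_mod_cast e, Nat.factorization_mul (by norm_num) (by norm_num),
        Finsupp.add_apply, Nat.Prime.factorization_self (by norm_num),
        Nat.factorization_eq_zero_of_not_dvd (n := 3456) (p := 7) (by norm_num)]
    · rw [show Nat.card (GU 3 F 5) = 7 * 324000 by rw [Nat.card_eq_fintype_card]; exact_mod_cast e,
        Nat.factorization_mul (by norm_num) (by norm_num), Finsupp.add_apply,
        Nat.Prime.factorization_self (by norm_num),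
        Nat.factorization_eq_zero_of_not_dvd (n := 324000) (p := 7) (by norm_num)]
  let Xu : GU 3 F q := ⟨X, hXS.1⟩
  let tu : GU 3 F q := ⟨t, htmem.1⟩
  have hXu : Nat.card (Subgroup.zpowers Xu) = 7 := by
    rw [Nat.card_zpowers, ← orderOf_injective (GU 3 F q).subtype Subtype.val_injective Xu]; exact hXo
  have htu : Nat.card (Subgroup.zpowers tu) = 7 := by
    rw [Nat.card_zpowers, ← orderOf_injective (GU 3 F q).subtype Subtype.val_injective tu]; exact hto
  let P : Sylow 7 (GU 3 F q) := Sylow.ofCard (Subgroup.zpowers Xu) (by rw [hfac, pow_one, hXu])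
  let Q : Sylow 7 (GU 3 F q) := Sylow.ofCard (Subgroup.zpowers tu) (by rw [hfac, pow_one, htu])
  obtain ⟨g, hg⟩ := MulAction.exists_smul_eq (GU 3 F q) P Q
  have hg' : MulAut.conj g • Subgroup.zpowers Xu = Subgroup.zpowers tu := congrArg Sylow.toSubgroup hg
  have hXt : (g : G3) * X * (g : G3)⁻¹ ∈ Subgroup.zpowers t := by
    have : g * Xu * g⁻¹ ∈ Subgroup.zpowers tu := by
      rw [← hg']; exact Subgroup.smul_mem_pointwise_smul _ _ _ (Subgroup.mem_zpowers Xu)
    obtain ⟨k, hk⟩ := this
    exact ⟨k, congrArg Subtype.val hk⟩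
  have htX : t ∈ Subgroup.zpowers ((g : G3) * X * (g : G3)⁻¹) := by
    have := Subgroup.mem_zpowers tu
    rw [← hg', Subgroup.mem_pointwise_smul_iff_inv_smul_mem] at this
    obtain ⟨k, hk⟩ := this
    refine ⟨k, ?_⟩
    have hk' := congrArg Subtype.val (congrArg (fun z => g * z * g⁻¹) hk)
    simp only [MulAut.smul_def, MulAut.conj_inv_apply, Subgroup.coe_mul, Subgroup.coe_inv,
      Subgroup.coe_zpow] at hk'
    show ((g : G3) * X * (g : G3)⁻¹) ^ k = t
    rw [conj_zpow]
    refine hk'.trans ?_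
    show (g : G3) * ((g : G3)⁻¹ * t * (g : G3)) * (g : G3)⁻¹ = t
    group
  have hnat : ∀ y ∈ subalgebraNormalizer K, ∃ j : ℕ,
      ((g : G3) * y * (g : G3)⁻¹) * t * ((g : G3) * y * (g : G3)⁻¹)⁻¹ = t ^ j := by
    intro y hy
    obtain ⟨m, hm⟩ := htX
    obtain ⟨i, hi⟩ := hXn y hy
    have : ((g : G3) * y * (g : G3)⁻¹) * t * ((g : G3) * y * (g : G3)⁻¹)⁻¹ ∈ Subgroup.zpowers t := by
      rw [← hm]
      show _ * ((g : G3) * X * (g : G3)⁻¹) ^ m * _ ∈ _
      rw [← conj_zpow]
      refine Subgroup.zpow_mem _ ?_ m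
      rw [hm, show (g : G3) * y * (g : G3)⁻¹ * ((g : G3) * X * (g : G3)⁻¹) * ((g : G3) * y * (g : G3)⁻¹)⁻¹ =
        (g : G3) * (y * X * y⁻¹) * (g : G3)⁻¹ by group, ← hi]
      show (g : G3) * X ^ i * (g : G3)⁻¹ ∈ _
      rw [← conj_zpow]
      exact Subgroup.zpow_mem _ hXt i
    obtain ⟨j, hj⟩ := mem_powers_iff_mem_zpowers.2 this
    exact ⟨j, hj.symm⟩
  refine false_of_conj hH hle (B := h.big C) g.2 ?_ inf_le_left (h.exists_not_big hC) ?_
  · rintro y ⟨hyK, hyS⟩
    obtain ⟨j, hj⟩ := hnat y hyK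
    exact h.torus_mem hC hT hcen ht (conj_mem_su g.2 hyS) hj
  · obtain ⟨x, hxS, hx⟩ := h.exists_su hwS
    refine ⟨x, h.mem_big hC hxS hx hwst, fun hmem => ?_⟩
    obtain ⟨j, hj⟩ := hnat _ hmem
    rw [show (g : G3) * ((g : G3)⁻¹ * x * (g : G3)) * (g : G3)⁻¹ = x by group, ← Nat.mod_add_div j 7, pow_add,
      pow_mul, ht7, one_pow, mul_one, mul_inv_eq_iff_eq_mul] at hj
    refine hmove (j % 7) (Nat.mod_lt _ (by norm_num)) (h.mmul_eq_of_toM ?_)
    have := congrArg Units.val hj
    simpa [h.toM_mmul, h.toM_mpow, ht, hx] using this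

end Cfsg.Agent.Classical.UnitThree
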