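import Cfsg.Agent.Lib.Classical.AschUnitThreeModel


/-!
Over 9 and 25 elements, members of geometric classes of the three-dimensional special unitary group inside larger
proper subgroups: the frame stabiliser and the groups of rational elements.
-/

set_option autoImplicit false
set_option maxRecDepth 8000
set_option maxHeartbeats 1000000
set_option linter.unusedSectionVars false
set_option linter.unusedFintypeInType false
set_option linter.unusedDecidableInType false

namespace Cfsg.Agent.Classical.UnitThree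

open Matrix Module Cfsg.Geo Cfsg.Agent.Classical.Asch
open MaxTv (qEquiv qEquiv_apply herm_hermForm gl_mulVec_injective)
open Code

variable {F : Type*} [Field F] [Fintype F] {p : ℕ} {w : F}

/-- The special unitary group. -/
abbrev SU3 (F : Type*) [Field F] (q : ℕ) : Subgroup (GL (Fin 3) F) := GU 3 F q ⊓ specialLinear (Fin 3) F

theorem conj_mem_su {q : ℕ} {g y : GL (Fin 3) F} (hg : g ∈ GU 3 F q) (hy : y ∈ SU3 F q) :
    g * y * g⁻¹ ∈ SU3 F q :=
  Subgroup.mem_inf.2 ⟨mul_mem (mul_mem hg (Subgroup.mem_inf.1 hy).1) (inv_mem hg), (MonoidHom.normal_ker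
    (Matrix.GeneralLinearGroup.det : GL (Fin 3) F →* Fˣ)).conj_mem y hy.2 g⟩

/-- A maximal subgroup inside `M` is not conjugate into a larger proper subgroup `B`. -/
theorem false_of_conj {q : ℕ} {H M B : Subgroup (GL (Fin 3) F)} (hH : IsMaximalIn (SU3 F q) H) (hle : H ≤ M)
    {g : GL (Fin 3) F} (hg : g ∈ GU 3 F q) (hin : ∀ y ∈ M ⊓ SU3 F q, g * y * g⁻¹ ∈ B) (hB : B ≤ SU3 F q)
    (hne : ∃ z ∈ SU3 F q, z ∉ B) (hw : ∃ x ∈ B, g⁻¹ * x * g ∉ M) : False := by
  let L : Subgroup (GL (Fin 3) F) := B.comap (MulAut.conj g).toMonoidHom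
  have hL : ∀ y, y ∈ L ↔ g * y * g⁻¹ ∈ B := fun y => Iff.rfl
  have hLS : L ≤ SU3 F q := fun y hy => by
    have := conj_mem_su (inv_mem hg) (hB ((hL y).1 hy))
    rwa [show g⁻¹ * (g * y * g⁻¹) * g⁻¹⁻¹ = y by group] at this
  rcases hH.2 L (fun y hy => (hL y).2 (hin y ⟨hle hy, hH.1.le hy⟩)) hLS with e | e
  · obtain ⟨x, hx, hxM⟩ := hw
    refine hxM (hle (e ▸ (hL _).2 ?_))
    rwa [show g * (g⁻¹ * x * g) * g⁻¹ = x by group]
  · obtain ⟨z, hz, hzB⟩ := hne
    have : g⁻¹ * z * g ∈ L := by rw [e]; simpa using conj_mem_su (inv_mem hg) hz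
    rw [hL, show g * (g⁻¹ * z * g) * g⁻¹ = z by group] at this
    exact hzB this

/-- A frame is the image of the coordinate frame under an isometry. -/
theorem exists_frame_basis {q : ℕ} (hF : Fintype.card F = q ^ 2) {D : Fin 3 → Submodule F (Fin 3 → F)}
    (hD : IsNondegenerateMDecomposition (hermForm 3 F q) 1 D) :
    ∃ U : GL (Fin 3) F, U ∈ GU 3 F q ∧
      ∀ i, D i = Submodule.span F {(U : Matrix (Fin 3) (Fin 3) F) *ᵥ Pi.single i 1} := by
  classical
  have hs := herm_hermForm (n := 3) hF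
  have : ∀ i, ∃ u ∈ D i, hermForm 3 F q u u = 1 := fun i => by
    obtain ⟨u, hu, huu⟩ := hs.exists_norm_in (T := D i) (fun v hv hv0 => (hD.nondegenerate i v hv hv0).1)
      (fun e => by have := hD.decomp.finrank_eq i; rw [e, finrank_bot] at this; omega) (map_one (qEquiv hF))
    exact ⟨u, hu, huu⟩
  choose u hu huu using this
  let M : Matrix (Fin 3) (Fin 3) F := Matrix.of fun a i => u i a
  have hM : Mᵀ * (1 * M.map (qEquiv hF)) = 1 := by
    ext i j
    rw [Matrix.one_mul, Matrix.mul_apply]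
    have e : ∑ a, u i a * qEquiv hF (u j a) = hermForm 3 F q (u i) (u j) := rfl
    simp only [M, Matrix.transpose_apply, Matrix.map_apply, Matrix.of_apply, e]
    by_cases hij : i = j
    · subst hij; rw [huu, Matrix.one_apply_eq]
    · rw [Matrix.one_apply_ne hij]; exact hD.orthogonal i j hij _ (hu i) _ (hu j)
  have hu' : IsUnit M := by
    rw [Matrix.isUnit_iff_isUnit_det]
    have := congrArg Matrix.det hM
    rw [Matrix.det_mul, Matrix.det_transpose, Matrix.det_one] at this
    exact IsUnit.of_mul_eq_one _ this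
  refine ⟨hu'.unit, (mem_GU_gram fun _ => rfl).2 hM, fun i => ?_⟩
  have hcol : M *ᵥ Pi.single i 1 = u i := by rw [Matrix.mulVec_single_one]; rfl
  rw [IsUnit.unit_spec, hcol]
  refine (Submodule.eq_of_le_of_finrank_eq ?_ ?_).symm
  · rw [Submodule.span_singleton_le_iff_mem]; exact hu i
  · rw [finrank_span_singleton (fun e => by simpa [e, hs.toSesq.zero_left] using huu i), hD.decomp.finrank_eq]

theorem axis_cols {π : Equiv.Perm (Fin 3)} : [((π 0 : Fin 3) : ℕ), (π 1 : ℕ), (π 2 : ℕ)] ∈ orders := by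
  revert π
  decide

namespace Model

variable (h : Model p w)
include h

theorem toV_axisCol (i : Fin 3) (c : ℕ) : toV p w (axisCol i c) = Pi.single i (val p w c) := by
  funext k
  fin_cases i <;> fin_cases k <;> simp [toV, axisCol, nth, h.val_zero]

/-- The elements permuting the coordinate axes preserve the configuration. -/
theorem frame_mem {C : Cfg} (hC : checkCfg p C = true) (hck : checkFrame p C = true) {y : GL (Fin 3) F}
    (hy : y ∈ SU3 F p) (hax : ∃ π : Equiv.Perm (Fin 3), ∀ j, ∃ d : F,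
      (y : Matrix (Fin 3) (Fin 3) F) *ᵥ Pi.single j 1 = Pi.single (π j) d) : y ∈ h.big C := by
  obtain ⟨π, hπ⟩ := hax
  choose d hd using hπ
  choose c hc hcd using fun j => h.exists_code (d j)
  have hnorm : ∀ j, c j ∈ normOne p := fun j => by
    have h1 : hermForm 3 F p ((y : Matrix (Fin 3) (Fin 3) F) *ᵥ Pi.single j 1)
        ((y : Matrix (Fin 3) (Fin 3) F) *ᵥ Pi.single j 1) = hermForm 3 F p (Pi.single j 1) (Pi.single j 1) :=
      hy.1 _ _
    rw [hd, ← hcd j] at h1
    have hp0 := h.pos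
    simp only [hermForm, Fin.sum_univ_three] at h1
    have h2 : val p w (c j) * qEquiv h.hF (val p w (c j)) = 1 := by
      have hpp : (0 : F) ^ p = 0 := zero_pow (by omega)
      generalize π j = k at h1
      fin_cases j <;> fin_cases k <;> simpa [qEquiv_apply, hpp] using h1
    simp only [normOne, List.mem_filter, List.mem_range, beq_iff_eq]
    refine ⟨hc j, h.val_inj (h.cmul_lt _ _) ?_ ?_⟩
    · rcases h.hp with rfl | rfl <;> norm_num
    · rw [h.val_cmul, h.val_ccj, h2, h.val_one]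
  set A := ofCols (axisCol (π 0) (c 0)) (axisCol (π 1) (c 1)) (axisCol (π 2) (c 2)) with hA
  have hM : (y : Matrix (Fin 3) (Fin 3) F) = toM p w A := by
    ext i j
    have h1 := congrFun (hd j) i
    rw [Matrix.mulVec_single_one, Matrix.col_apply] at h1
    rw [h1, hA, toM_ofCols]
    fin_cases j <;>
      simp [h.toV_axisCol, hcd, Matrix.transpose_apply]
  refine h.mem_big hC hy hM ?_
  simp only [checkFrame, List.all_eq_true, Bool.or_eq_true, Bool.not_eq_true'] at hck
  have hdet : mdet p A = 1 := h.mdet_eq_one (by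
    rw [← hM]; exact congrArg Units.val (MonoidHom.mem_ker.1 hy.2))
  rcases hck _ (axis_cols (π := π)) _ (hnorm 0) _ (hnorm 1) _ (hnorm 2) with h1 | h1
  · change (mdet p A == 1) = false at h1
    rw [hdet] at h1
    simp at h1
  · exact h1

end Model

/-- Over 25 elements a maximal subgroup preserves no orthogonal frame. -/
theorem frame_five {H : Subgroup (GL (Fin 3) F)} (hF : Fintype.card F = 5 ^ 2) (hH : IsMaximalIn (SU3 F 5) H)
    {D : Fin 3 → Submodule F (Fin 3 → F)} (hD : IsNondegenerateMDecomposition (hermForm 3 F 5) 1 D)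
    (hle : H ≤ decompositionStabilizer D) : False := by
  classical
  obtain ⟨w, h⟩ := exists_model hF (Or.inr rfl)
  obtain ⟨U, hU, hUD⟩ := exists_frame_basis hF hD
  have hstd : ∀ y : GL (Fin 3) F, U * y * U⁻¹ ∈ decompositionStabilizer D →
      ∃ π : Equiv.Perm (Fin 3), ∀ j, ∃ d : F,
        (y : Matrix (Fin 3) (Fin 3) F) *ᵥ Pi.single j 1 = Pi.single (π j) d := by
    rintro y ⟨π, hπ⟩
    refine ⟨π, fun j => ?_⟩
    have h1 : ((U * y * U⁻¹ : GL (Fin 3) F) : Matrix (Fin 3) (Fin 3) F) *ᵥ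
        ((U : Matrix (Fin 3) (Fin 3) F) *ᵥ Pi.single j 1) ∈ D (π j) := by
      rw [← hπ j, hUD j]
      exact ⟨_, Submodule.mem_span_singleton_self _, Matrix.toLin'_apply _ _⟩
    rw [hUD (π j), Matrix.mulVec_mulVec, ← Units.val_mul, show U * y * U⁻¹ * U = U * y by group, Units.val_mul,
      ← Matrix.mulVec_mulVec, Submodule.mem_span_singleton] at h1
    obtain ⟨d, hd⟩ := h1
    refine ⟨d, gl_mulVec_injective U ?_⟩
    show (U : Matrix (Fin 3) (Fin 3) F) *ᵥ _ = (U : Matrix (Fin 3) (Fin 3) F) *ᵥ _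
    rw [← hd, ← Matrix.mulVec_smul]
    congr 1
    simp [← Pi.single_smul']
  refine false_of_conj hH hle (B := h.big cfgFive) (inv_mem hU) ?_ inf_le_left (h.exists_not_big cfgFive_ok) ?_
  · rintro y ⟨hyD, hyS⟩
    refine h.frame_mem cfgFive_ok frameFive_ok (conj_mem_su (inv_mem hU) hyS) (hstd _ ?_)
    rwa [show U * (U⁻¹ * y * U⁻¹⁻¹) * U⁻¹ = y by group]
  · have hck := frameWitness_ok
    simp only [checkFrameWitness, Bool.and_eq_true, Nat.blt_eq, bne_iff_ne, ne_eq] at hck
    obtain ⟨⟨⟨⟨⟨⟨hsu, hst⟩, hi0⟩, hj0⟩, hi⟩, hj⟩, hij⟩ := hck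
    obtain ⟨g, hgS, hg⟩ := h.exists_su hsu
    refine ⟨g, h.mem_big cfgFive_ok hgS hg hst, fun hmem => ?_⟩
    rw [inv_inv] at hmem
    obtain ⟨π, hπ⟩ := hstd g hmem
    obtain ⟨d, hd⟩ := hπ 0
    have hlt : ∀ k < 3, ent uMatFive k 0 < 5 * 5 := by decide
    have key : ∀ k (hk : k < 3), ent uMatFive k 0 ≠ 0 → (⟨k, hk⟩ : Fin 3) = π 0 := fun k hk hk0 => by
      by_contra hne
      have h1 := congrFun hd ⟨k, hk⟩
      rw [Matrix.mulVec_single_one, Matrix.col_apply, Pi.single_eq_of_ne hne, hg] at h1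
      exact h.val_ne_zero (hlt k hk) hk0 h1
    exact hij (congrArg Fin.val ((key _ hi hi0).trans (key _ hj hj0).symm))

/-- A subfield of index two consists of the elements fixed by the conjugation. -/
theorem index_two_fixed {q : ℕ} (hF : Fintype.card F = q ^ 2) {F₀ : Subfield F}
    (hc : Fintype.card F = Nat.card F₀ ^ 2) {a : F} (ha : a ∈ F₀) : qEquiv hF a = a := by
  haveI : Fintype F₀ := Fintype.ofFinite F₀
  have hq : Fintype.card F₀ = q := by
    rw [← Nat.card_eq_fintype_card]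
    exact Nat.pow_left_injective (by norm_num) (hc.symm.trans hF)
  have := FiniteField.pow_card (⟨a, ha⟩ : F₀)
  rw [hq] at this
  exact congrArg Subtype.val this

theorem natCast_mem_subfield (F₀ : Subfield F) (t : ℕ) : (t : F) ∈ F₀ := natCast_mem F₀ t

/-- The diagonal of a symmetric rational form can be made constant. -/
theorem exists_const_basis {q : ℕ} (hF : Fintype.card F = q ^ 2) (hodd : Odd q) {F₀ : Subfield F}
    (hc : Fintype.card F = Nat.card F₀ ^ 2) {P : GL (Fin 3) F}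
    (hrat : IsFormRationalStructure (hermForm 3 F q) F₀ 1 P) :
    ∃ (c : F) (U : Fin 3 → Fin 3 → F), c ≠ 0 ∧ qEquiv hF c = c ∧ (∀ i k, U i k ∈ F₀) ∧
      ∀ i j, hermForm 3 F q ((P : Matrix (Fin 3) (Fin 3) F) *ᵥ U i) ((P : Matrix (Fin 3) (Fin 3) F) *ᵥ U j) =
        if i = j then c else 0 := by
  classical
  haveI : Fintype F₀ := Fintype.ofFinite F₀
  have hs := herm_hermForm (n := 3) hF
  set Pm := (P : Matrix (Fin 3) (Fin 3) F)
  have hr : ∀ u v : Fin 3 → F, (∀ i, u i ∈ F₀) → (∀ i, v i ∈ F₀) → hermForm 3 F q (Pm *ᵥ u) (Pm *ᵥ v) ∈ F₀ :=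
    fun u v hu hv => by simpa using hrat u v hu hv
  have h2 : (2 : F) ≠ 0 := by
    intro e
    haveI : CharP F 2 := CharTwo.of_one_ne_zero_of_two_eq_zero one_ne_zero e
    obtain ⟨m, -, hm⟩ := FiniteField.card F 2
    rw [hF] at hm
    exact absurd (hm ▸ hodd.pow : Odd (2 ^ (m : ℕ))) (Nat.not_odd_iff_even.2 (Nat.even_pow.2 ⟨even_two, m.pos.ne'⟩))
  -- the bilinear form on the rational vectors
  let e : (Fin 3 → F₀) → (Fin 3 → F) := fun u i => (u i : F)
  let b : (Fin 3 → F₀) → (Fin 3 → F₀) → F₀ := fun u v =>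
    ⟨hermForm 3 F q (Pm *ᵥ e u) (Pm *ᵥ e v), hr _ _ (fun i => (u i).2) fun i => (v i).2⟩
  have he_add : ∀ u v, e (u + v) = e u + e v := fun u v => funext fun i => rfl
  have he_smul : ∀ (a : F₀) u, e (a • u) = (a : F) • e u := fun a u => funext fun i => rfl
  let B : LinearMap.BilinForm F₀ (Fin 3 → F₀) := LinearMap.mk₂ F₀ b
    (fun u u' v => Subtype.ext (by
      show hermForm 3 F q _ _ = hermForm 3 F q _ _ + hermForm 3 F q _ _
      rw [he_add, Matrix.mulVec_add, hs.add_left]))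
    (fun a u v => Subtype.ext (by
      show hermForm 3 F q _ _ = (a : F) * hermForm 3 F q _ _
      rw [he_smul, Matrix.mulVec_smul, hs.smul_left]))
    (fun u v v' => Subtype.ext (by
      show hermForm 3 F q _ _ = hermForm 3 F q _ _ + hermForm 3 F q _ _
      rw [he_add, Matrix.mulVec_add, hs.add_right]))
    (fun a u v => Subtype.ext (by
      show hermForm 3 F q _ _ = (a : F) * hermForm 3 F q _ _
      rw [he_smul, Matrix.mulVec_smul, hs.smul_right, index_two_fixed hF hc a.2]))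
  have hB : ∀ u v, (B u v : F) = hermForm 3 F q (Pm *ᵥ e u) (Pm *ᵥ e v) := fun u v => rfl
  have hsymm : B.IsSymm := ⟨fun u v => Subtype.ext (by
    rw [hB, hB, hs.herm (Pm *ᵥ e v)]
    exact (index_two_fixed hF hc (B u v).2).symm)⟩
  haveI : Invertible (2 : F₀) := invertibleOfNonzero fun e2 => h2 (congrArg Subtype.val e2)
  obtain ⟨v₀, hv₀⟩ := LinearMap.BilinForm.exists_orthogonal_basis (LinearMap.BilinForm.isSymm_iff.1 hsymm)
  let v := v₀.reindex (finCongr (Module.finrank_fin_fun F₀))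
  have horth : ∀ i j, i ≠ j → B (v i) (v j) = 0 := fun i j hij => by
    simp only [v, Module.Basis.reindex_apply]
    exact hv₀ ((finCongr (Module.finrank_fin_fun F₀)).symm.injective.ne hij)
  -- no vector of the basis is isotropic
  have hnz : ∀ i, B (v i) (v i) ≠ 0 := by
    intro i h0
    have hz : ∀ u, B u (v i) = 0 := fun u => by
      have hl : B.flip (v i) = 0 := v.ext fun j => by
        by_cases hji : j = i
        · subst hji; simpa using h0
        · simpa using horth j i hji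
      exact LinearMap.congr_fun hl u
    refine v.ne_zero i (funext fun k => Subtype.ext ?_)
    have hPv : Pm *ᵥ e (v i) = 0 := hs.eq_zero _ fun x => by
      have h1 : ∀ u : Fin 3 → F₀, hermForm 3 F q (Pm *ᵥ e u) (Pm *ᵥ e (v i)) = 0 := fun u => by
        rw [← hB, hz]; rfl
      obtain ⟨y, rfl⟩ : ∃ y, Pm *ᵥ y = x :=
        ⟨((P⁻¹ : GL (Fin 3) F) : Matrix (Fin 3) (Fin 3) F) *ᵥ x, by
          rw [Matrix.mulVec_mulVec, Units.mul_inv, Matrix.one_mulVec]⟩
      have hy : y = y 0 • e (Pi.single 0 1) + y 1 • e (Pi.single 1 1) + y 2 • e (Pi.single 2 1) := by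
        funext k
        fin_cases k <;> simp [e, Pi.single_apply]
      rw [hy]
      simp only [Matrix.mulVec_add, Matrix.mulVec_smul, hs.add_left, hs.smul_left, h1, mul_zero, add_zero]
    exact congrFun (gl_mulVec_injective P (hPv.trans (Matrix.mulVec_zero _).symm)) k
  -- squares have index two
  have hsq : ∀ a b : F₀, a ≠ 0 → b ≠ 0 → ¬ IsSquare a → ¬ IsSquare b → IsSquare (a * b) := by
    intro a b ha hb h1 h2'
    have h3 := (quadraticChar_neg_one_iff_not_isSquare (a := a)).2 h1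
    have h4 := (quadraticChar_neg_one_iff_not_isSquare (a := b)).2 h2'
    refine (quadraticChar_one_iff_isSquare (mul_ne_zero ha hb)).1 ?_
    rw [map_mul, h3, h4]
    norm_num
  -- make the values equal
  obtain ⟨c, U, hc0, hU⟩ : ∃ (c : F₀) (U : Fin 3 → Fin 3 → F₀), c ≠ 0 ∧
      ∀ i j, B (U i) (U j) = if i = j then c else 0 := by
    set a := fun i => B (v i) (v i) with hadef
    obtain ⟨i, j, k, hij, hik, hjk, hsqij⟩ : ∃ i j k : Fin 3, i ≠ j ∧ i ≠ k ∧ j ≠ k ∧ IsSquare (a i * a j) := by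
      by_cases h01 : IsSquare (a 0 * a 1)
      · exact ⟨0, 1, 2, by decide, by decide, by decide, h01⟩
      by_cases h02 : IsSquare (a 0 * a 2)
      · exact ⟨0, 2, 1, by decide, by decide, by decide, h02⟩
      refine ⟨1, 2, 0, by decide, by decide, by decide, ?_⟩
      obtain ⟨s, hs'⟩ := hsq _ _ (mul_ne_zero (hnz 0) (hnz 1)) (mul_ne_zero (hnz 0) (hnz 2)) h01 h02
      refine ⟨s / a 0, ?_⟩
      rw [div_mul_div_comm, ← hs', eq_div_iff (mul_ne_zero (hnz 0) (hnz 0))]
      ring
    obtain ⟨s, hs'⟩ := hsqij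
    -- two equal values
    let u₂ := (s / a j) • v j
    have hu₂ : B u₂ u₂ = a i := by
      simp only [u₂, map_smul, LinearMap.smul_apply, smul_eq_mul]
      show s / a j * (s / a j * a j) = a i
      rw [div_mul_cancel₀ _ (hnz j), div_mul_eq_mul_div, ← hs', mul_div_cancel_right₀ _ (hnz j)]
    have hiu : B (v i) u₂ = 0 := by simp [u₂, horth i j hij]
    have hui : B u₂ (v i) = 0 := by simp [u₂, horth j i hij.symm]
    have huk : B u₂ (v k) = 0 := by simp [u₂, horth j k hjk]
    have hku : B (v k) u₂ = 0 := by simp [u₂, horth k j hjk.symm]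
    -- represent the third value
    obtain ⟨x, y, hxy⟩ : ∃ x y : F₀, a i * x ^ 2 + a i * y ^ 2 = a k := by
      have hodd' : Fintype.card F₀ % 2 = 1 := by
        have hq : Fintype.card F₀ = q := by
          rw [← Nat.card_eq_fintype_card]
          exact Nat.pow_left_injective (by norm_num) (hc.symm.trans hF)
        rw [hq]; exact Nat.odd_iff.1 hodd
      open Polynomial in
      obtain ⟨x, y, hxy⟩ := FiniteField.exists_root_sum_quadratic
        (f := C (a i) * X ^ 2 + C (0 : F₀) * X + C (0 : F₀)) (g := C (a i) * X ^ 2 + C (0 : F₀) * X + C (-a k))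
        (degree_quadratic (hnz i)) (degree_quadratic (hnz i)) hodd'
      refine ⟨x, y, ?_⟩
      simp only [Polynomial.eval_add, Polynomial.eval_mul, Polynomial.eval_C, Polynomial.eval_pow, Polynomial.eval_X,
        zero_mul, add_zero] at hxy
      linear_combination hxy
    refine ⟨a k, ![x • v i + y • u₂, (-y) • v i + x • u₂, v k], hnz k, fun m l => ?_⟩
    have hai : B (v i) (v i) = a i := rfl
    have hak : B (v k) (v k) = a k := rfl
    fin_cases m <;> fin_cases l <;>
      simp [map_add, map_smul, hu₂, hiu, hui, huk, hku, horth i k hik, horth k i hik.symm, hai, hak] <;>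
      first
        | (linear_combination hxy)
        | ring
  refine ⟨c, fun i => e (U i), fun e0 => hc0 (Subtype.ext e0), index_two_fixed hF hc c.2, fun i k => (U i k).2,
    fun i j => ?_⟩
  rw [← hB, hU]
  split_ifs <;> rfl

/-- A rational structure carrying the form can be moved onto the coordinates by an isometry. -/
theorem exists_rational_conj {q : ℕ} (hF : Fintype.card F = q ^ 2) (hodd : Odd q) {F₀ : Subfield F}
    (hc : Fintype.card F = Nat.card F₀ ^ 2) {P : GL (Fin 3) F}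
    (hrat : IsFormRationalStructure (hermForm 3 F q) F₀ 1 P) :
    ∃ g ∈ GU 3 F q, ∀ y ∈ subfieldSubgroup F₀ P,
      ∃ (d : Fˣ) (u : Matrix (Fin 3) (Fin 3) F), (∀ i j, u i j ∈ F₀) ∧
        ((g⁻¹ * y * g : GL (Fin 3) F) : Matrix (Fin 3) (Fin 3) F) = (d : F) • u := by
  classical
  have hs := herm_hermForm (n := 3) hF
  obtain ⟨c, U, hc0, hcfix, hUF, hU⟩ := exists_const_basis hF hodd hc hrat
  obtain ⟨s, hs'⟩ := hs.exists_norm (t := c⁻¹) (by rw [map_inv₀, hcfix])
  set Um : Matrix (Fin 3) (Fin 3) F := Matrix.of fun a i => U i a with hUm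
  set Pm := (P : Matrix (Fin 3) (Fin 3) F)
  let M : Matrix (Fin 3) (Fin 3) F := s • (Pm * Um)
  have hcol : ∀ i a, (Pm * Um) a i = (Pm *ᵥ U i) a := fun i a => rfl
  have hMU : Mᵀ * (1 * M.map (qEquiv hF)) = 1 := by
    ext i j
    rw [Matrix.one_mul, Matrix.mul_apply]
    have hij : ∑ a, Mᵀ i a * M.map (qEquiv hF) a j =
        (s * qEquiv hF s) * hermForm 3 F q (Pm *ᵥ U i) (Pm *ᵥ U j) := by
      simp only [M, Matrix.transpose_apply, Matrix.map_apply, Matrix.smul_apply, smul_eq_mul, map_mul, hcol,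
        hermForm, Finset.mul_sum]
      refine Finset.sum_congr rfl fun a _ => ?_
      simp only [qEquiv_apply]
      ring
    rw [hij, hs', hU, Matrix.one_apply]
    split_ifs
    · exact inv_mul_cancel₀ hc0
    · rw [mul_zero]
  have hMunit : IsUnit M := by
    rw [Matrix.isUnit_iff_isUnit_det]
    have := congrArg Matrix.det hMU
    rw [Matrix.det_mul, Matrix.det_transpose, Matrix.det_one] at this
    exact IsUnit.of_mul_eq_one _ this
  refine ⟨hMunit.unit, (mem_GU_gram fun _ => rfl).2 hMU, ?_⟩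
  rintro y ⟨z, hz, rfl⟩
  rw [Subgroup.mul_normal] at hz
  obtain ⟨u, ⟨u, rfl⟩, t, ht, rfl⟩ := hz
  obtain ⟨d, hd⟩ := (mem_scalars_iff t).1 ht
  have hUdet : Um.det ≠ 0 := fun e => ((Matrix.isUnit_iff_isUnit_det M).1 hMunit).ne_zero <| by
    show M.det = 0
    simp [M, Matrix.det_mul, e]
  let Ug : GL (Fin 3) F₀ :=
    Matrix.GeneralLinearGroup.mkOfDetNeZero (Matrix.of fun a i => (⟨U i a, hUF i a⟩ : F₀)) fun e => hUdet (by
      have := RingHom.map_det F₀.subtype (Matrix.of fun a i => (⟨U i a, hUF i a⟩ : F₀))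
      rw [e, map_zero] at this
      exact this.symm)
  let u' : GL (Fin 3) F₀ := Ug⁻¹ * u * Ug
  refine ⟨d, fun i j => ((u' : Matrix (Fin 3) (Fin 3) F₀) i j : F), fun i j => SetLike.coe_mem _, ?_⟩
  have hUg : ((Matrix.GeneralLinearGroup.map (F₀.subtype : F₀ →+* F) Ug : GL (Fin 3) F) :
      Matrix (Fin 3) (Fin 3) F) = Um := rfl
  have hu' : (fun i j => ((u' : Matrix (Fin 3) (Fin 3) F₀) i j : F)) =
      ((Matrix.GeneralLinearGroup.map (F₀.subtype : F₀ →+* F) u' : GL (Fin 3) F) : Matrix (Fin 3) (Fin 3) F) := rfl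
  rw [hu']
  have hs0 : s ≠ 0 := fun e => by rw [e, zero_mul] at hs'; exact inv_ne_zero hc0 hs'.symm
  set gU := Matrix.GeneralLinearGroup.map (F₀.subtype : F₀ →+* F) Ug
  set gu := Matrix.GeneralLinearGroup.map (F₀.subtype : F₀ →+* F) u
  have hgm : hMunit.unit = sc (Units.mk0 s hs0) * (P * gU) := Units.ext (by
    show M = _
    rw [Units.val_mul, sc_coe, Units.val_mul, hUg, Matrix.smul_mul, one_mul]
    rfl)
  rw [hgm]
  change ((( sc (Units.mk0 s hs0) * (P * gU))⁻¹ * (P * (gu * t) * P⁻¹) * (sc (Units.mk0 s hs0) * (P * gU)) :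
    GL (Fin 3) F) : Matrix (Fin 3) (Fin 3) F) = _
  conv_rhs => rw [map_mul, map_mul, map_inv]
  have hcm := fun z : GL (Fin 3) F => (sc_comm (Units.mk0 s hs0) z).eq
  have ht' : ∀ z : GL (Fin 3) F, t * z = z * t := fun z => scalar_comm_gl ht z
  have key : ∀ G X : GL (Fin 3) F,
      (sc (Units.mk0 s hs0) * G)⁻¹ * X * (sc (Units.mk0 s hs0) * G) = G⁻¹ * X * G := fun G X => by
    calc (sc (Units.mk0 s hs0) * G)⁻¹ * X * (sc (Units.mk0 s hs0) * G)
        = G⁻¹ * ((sc (Units.mk0 s hs0))⁻¹ * (X * sc (Units.mk0 s hs0))) * G := by group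
      _ = _ := by rw [← hcm X, inv_mul_cancel_left]
  rw [key, show (P * gU)⁻¹ * (P * (gu * t) * P⁻¹) * (P * gU) = gU⁻¹ * gu * gU * t by
    calc (P * gU)⁻¹ * (P * (gu * t) * P⁻¹) * (P * gU) = gU⁻¹ * gu * (t * gU) := by group
      _ = _ := by rw [ht' gU, ← mul_assoc], Units.val_mul, hd, Matrix.mul_smul, mul_one]

namespace Model

variable (h : Model p w)
include h

/-- The rational multiples preserve the configuration. -/
theorem rational_mem {C : Cfg} (hC : checkCfg p C = true) (hck : checkRational p C = true) {F₀ : Subfield F}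
    (hc : Fintype.card F = Nat.card F₀ ^ 2) {y : GL (Fin 3) F} (hy : y ∈ SU3 F p) {d : Fˣ}
    {u : Matrix (Fin 3) (Fin 3) F} (hu : ∀ i j, u i j ∈ F₀)
    (hyu : (y : Matrix (Fin 3) (Fin 3) F) = (d : F) • u) : y ∈ h.big C := by
  have hdet : (y : Matrix (Fin 3) (Fin 3) F).det = 1 := congrArg Units.val (MonoidHom.mem_ker.1 hy.2)
  -- the scalar can be taken to be a cube root of unity
  have hd3 : qEquiv h.hF ((d : F) ^ 3) = (d : F) ^ 3 := by
    rw [hyu, Matrix.det_smul, Fintype.card_fin] at hdet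
    have hu' : qEquiv h.hF u.det = u.det := by
      rw [RingEquiv.map_det]
      congr 1
      ext i j
      exact index_two_fixed h.hF hc (hu i j)
    have h1 := congrArg (qEquiv h.hF) hdet
    rw [map_mul, map_one, hu'] at h1
    exact mul_right_cancel₀ (right_ne_zero_of_mul_eq_one hdet) (h1.trans hdet.symm)
  obtain ⟨s, hs0, hs3, hsfix⟩ : ∃ s : F, s ≠ 0 ∧ s ^ 3 = (d : F) ^ 3 ∧ qEquiv h.hF s = s := by
    have hx0 : (d : F) ^ 3 ≠ 0 := pow_ne_zero _ d.ne_zero
    have hx := hd3
    rw [qEquiv_apply] at hx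
    rcases h.hp with rfl | rfl
    · refine ⟨(d : F) ^ 3, hx0, ?_, hd3⟩
      exact hx
    · refine ⟨((d : F) ^ 3) ^ 3, pow_ne_zero _ hx0, ?_, by rw [map_pow, hd3]⟩
      have h4 : ((d : F) ^ 3) ^ 4 = 1 := mul_left_cancel₀ hx0 (by rw [← pow_succ', hx, mul_one])
      calc (((d : F) ^ 3) ^ 3) ^ 3 = ((d : F) ^ 3) ^ 4 * ((d : F) ^ 3) ^ 4 * (d : F) ^ 3 := by ring
        _ = _ := by rw [h4, one_mul, one_mul]
  obtain ⟨ζ, hζ, hζd⟩ := h.exists_code ((d : F) / s)
  have hζ3 : cmul p ζ (cmul p ζ ζ) = 1 := by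
    refine h.val_inj (h.cmul_lt _ _) (by rcases h.hp with rfl | rfl <;> norm_num) ?_
    rw [h.val_cmul, h.val_cmul, hζd, h.val_one]
    field_simp
    linear_combination -hs3
  choose t ht htv using fun i j =>
    h.exists_nat_of_fixed (a := s * u i j) (by rw [map_mul, hsfix, index_two_fixed h.hF hc (hu i j)])
  have hent : ∀ i j, (y : Matrix (Fin 3) (Fin 3) F) i j = val p w ζ * val p w (t i j) := fun i j => by
    rw [hyu, Matrix.smul_apply, smul_eq_mul, hζd, htv]
    field_simp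
  set a : List ℕ := [t 0 0, t 1 0, t 2 0] with ha
  set b : List ℕ := [t 0 1, t 1 1, t 2 1] with hb
  have hmem : ∀ i j k : Fin 3, ∀ l : Fin 3, [t i l, t j l, t k l] ∈ intVecs p := fun i j k l => by
    simp only [intVecs, List.mem_flatMap, List.mem_map, List.mem_range]
    exact ⟨_, ht i l, _, ht j l, _, ht k l, rfl⟩
  have hcol : ∀ l : Fin 3, toV p w (vscal p ζ [t 0 l, t 1 l, t 2 l]) =
      (y : Matrix (Fin 3) (Fin 3) F) *ᵥ Pi.single l 1 := fun l => by
    rw [h.toV_vscal, Matrix.mulVec_single_one]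
    funext i
    fin_cases i <;> simp [toV, nth, hent]
  have hiso : ∀ l l' : Fin 3, hermForm 3 F p ((y : Matrix (Fin 3) (Fin 3) F) *ᵥ Pi.single l 1)
      ((y : Matrix (Fin 3) (Fin 3) F) *ᵥ Pi.single l' 1) = hermForm 3 F p (Pi.single l 1) (Pi.single l' 1) :=
    fun l l' => hy.1 _ _
  have hp0 : (0 : F) ^ p = 0 := zero_pow (by have := h.pos; omega)
  have h00 : hdot p (vscal p ζ a) (vscal p ζ a) = 1 := by
    refine h.hdot_eq_const (by rcases h.hp with rfl | rfl <;> norm_num) ?_
    rw [hcol, hiso, h.val_one]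
    simp [hermForm, Fin.sum_univ_three, hp0]
  have h11 : hdot p (vscal p ζ b) (vscal p ζ b) = 1 := by
    refine h.hdot_eq_const (by rcases h.hp with rfl | rfl <;> norm_num) ?_
    rw [hcol, hiso, h.val_one]
    simp [hermForm, Fin.sum_univ_three, hp0]
  have h01 : hdot p (vscal p ζ a) (vscal p ζ b) = 0 := by
    refine h.hdot_eq_const (by have := h.pos; nlinarith) ?_
    rw [hcol, hcol, hiso, h.val_zero]
    simp [hermForm, Fin.sum_univ_three, hp0]
  -- the third column is the conjugate vector product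
  have hg := (mem_GU_gram (σ := qEquiv h.hF) fun _ => rfl).1 hy.1
  rw [Matrix.one_mul] at hg
  have hadj : (y : Matrix (Fin 3) (Fin 3) F).adjugate =
      (((y : Matrix (Fin 3) (Fin 3) F))ᵀ).map (qEquiv h.hF) := by
    have h1 := congrArg (fun M : Matrix (Fin 3) (Fin 3) F => M.map (qEquiv h.hF)) hg
    simp only [Matrix.map_mul, Matrix.map_map, Matrix.map_one (qEquiv h.hF) (map_zero _) (map_one _)] at h1
    have hinv : (y : Matrix (Fin 3) (Fin 3) F).map (⇑(qEquiv h.hF) ∘ ⇑(qEquiv h.hF)) = (y : Matrix (Fin 3) (Fin 3) F) :=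
      Matrix.ext fun i j => (herm_hermForm (n := 1) h.hF).invol _
    rw [hinv] at h1
    have h2 := Matrix.mul_adjugate (y : Matrix (Fin 3) (Fin 3) F)
    rw [hdet, one_smul] at h2
    calc (y : Matrix (Fin 3) (Fin 3) F).adjugate
        = ((y : Matrix (Fin 3) (Fin 3) F)ᵀ.map (qEquiv h.hF) * (y : Matrix (Fin 3) (Fin 3) F)) *
          (y : Matrix (Fin 3) (Fin 3) F).adjugate := by rw [h1, one_mul]
      _ = _ := by rw [mul_assoc, h2, mul_one]
  have hcross : toV p w (hcross p (vscal p ζ a) (vscal p ζ b)) =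
      (y : Matrix (Fin 3) (Fin 3) F) *ᵥ Pi.single 2 1 := by
    rw [Matrix.mulVec_single_one]
    have hinvol : ∀ x, qEquiv h.hF (qEquiv h.hF x) = x := (herm_hermForm (n := 1) h.hF).invol
    funext i
    have h2 := congrArg (qEquiv h.hF) (congrFun (congrFun hadj 2) i)
    rw [Matrix.map_apply, Matrix.transpose_apply, hinvol, Matrix.adjugate_fin_three] at h2
    rw [Matrix.col_apply, ← h2]
    fin_cases i <;>
      simp [toV, Code.hcross, nth, vscal, a, b, h.val_ccj, h.val_cadd, h.val_cneg, h.val_cmul, hent] <;> ring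
  set A := ofCols (vscal p ζ a) (vscal p ζ b) (Code.hcross p (vscal p ζ a) (vscal p ζ b)) with hA
  have hM : (y : Matrix (Fin 3) (Fin 3) F) = toM p w A := by
    rw [hA, toM_ofCols, hcross, hcol, hcol]
    ext i j
    fin_cases j <;> simp [Matrix.transpose_apply]
  refine h.mem_big hC hy hM ?_
  simp only [checkRational, List.all_eq_true, Bool.or_eq_true, Bool.not_eq_true', List.mem_range] at hck
  rcases hck ζ hζ with h1 | h1
  · rw [hζ3] at h1; simp at h1
  rcases h1 a (hmem 0 1 2 0) with h2 | h2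
  · rw [h00] at h2; simp at h2
  rcases h2 b (hmem 0 1 2 1) with (h3 | h3) | h3
  · rw [h01] at h3; simp at h3
  · rw [h11] at h3; simp at h3
  · exact h3

end Model

/-- Over 9 and 25 elements a maximal subgroup has no rational structure of index two. -/
theorem rational_small {q : ℕ} {H : Subgroup (GL (Fin 3) F)} (hF : Fintype.card F = q ^ 2) (hq : q = 3 ∨ q = 5)
    (hH : IsMaximalIn (SU3 F q) H) {F₀ : Subfield F} (hc : Fintype.card F = Nat.card F₀ ^ 2) {P : GL (Fin 3) F}
    (hrat : IsFormRationalStructure (hermForm 3 F q) F₀ 1 P) (hle : H ≤ subfieldSubgroup F₀ P) : False := by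
  obtain ⟨w, h⟩ := exists_model hF hq
  obtain ⟨g, hg, hgy⟩ := exists_rational_conj hF (by rcases hq with rfl | rfl <;> decide) hc hrat
  obtain ⟨C, V, ij, hC, hck, hwit⟩ : ∃ C V ij, checkCfg q C = true ∧ checkRational q C = true ∧
      checkRationalWitness q C V ij = true := by
    rcases hq with rfl | rfl
    · exact ⟨_, _, _, cfgThree_ok, rationalThree_ok, rationalWitnessThree_ok⟩
    · exact ⟨_, _, _, cfgFive_ok, rationalFive_ok, rationalWitnessFive_ok⟩
  refine false_of_conj hH hle (B := h.big C) (inv_mem hg) ?_ inf_le_left (h.exists_not_big hC) ?_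
  · rintro y ⟨hyM, hyS⟩
    obtain ⟨d, u, hu, hyu⟩ := hgy y hyM
    rw [inv_inv]
    have := conj_mem_su (inv_mem hg) hyS
    rw [inv_inv] at this
    exact h.rational_mem hC hck hc this hu hyu
  · simp only [checkRationalWitness, Bool.and_eq_true, Nat.blt_eq, bne_iff_ne, ne_eq] at hwit
    obtain ⟨⟨⟨⟨hsu, hst⟩, hi⟩, hj⟩, hne⟩ := hwit
    obtain ⟨x, hxS, hx⟩ := h.exists_su hsu
    refine ⟨x, h.mem_big hC hxS hx hst, fun hmem => ?_⟩
    rw [inv_inv] at hmem
    obtain ⟨d, u, hu, hxu⟩ := hgy _ hmem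
    rw [show g⁻¹ * (g * x * g⁻¹) * g = x by group, hx] at hxu
    refine hne (h.val_inj (h.cmul_lt _ _) (h.ccj_lt _) ?_)
    have e : ∀ k (hk : k < 3), val q w (ent V k 0) = (d : F) * u ⟨k, hk⟩ 0 := fun k hk =>
      congrFun (congrFun hxu ⟨k, hk⟩) 0
    have hfix := fun i j => index_two_fixed h.hF hc (hu i j)
    rw [h.val_ccj, h.val_cmul, h.val_ccj, e _ hi, e _ hj]
    simp only [map_mul, hfix, (herm_hermForm (n := 1) h.hF).invol]
    ring

end Cfsg.Agent.Classical.UnitThree
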