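import Cfsg.Agent.Lib.Classical.AschUnitThreeData

/-!
Kernel checks for the configurations in the small three-dimensional unitary groups (heis).
-/

set_option autoImplicit false
set_option maxRecDepth 8000

namespace Cfsg.Agent.Classical.UnitThree.Code

theorem heis_ok : checkHeis = true := by decide +kernel
theorem fix_ok : checkFix = true := by decide +kernel
theorem normaliser_ok : checkNormaliser = true := by decide +kernel

end Cfsg.Agent.Classical.UnitThree.Code
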