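import Cfsg.Agent.Lib.Classical.AschUnitThreeData

/-!
Kernel checks for the configurations in the small three-dimensional unitary groups (lines).
-/

set_option autoImplicit false
set_option maxRecDepth 8000

namespace Cfsg.Agent.Classical.UnitThree.Code

theorem cfgThree_ok : checkCfg 3 cfgThree = true := by decide +kernel
theorem cfgFive_ok : checkCfg 5 cfgFive = true := by decide +kernel
theorem cfgSix_ok : checkCfg 5 cfgSix = true := by decide +kernel
theorem frameFive_ok : checkFrame 5 cfgFive = true := by decide +kernel
theorem frameWitness_ok : checkFrameWitness = true := by decide +kernel
theorem rationalThree_ok : checkRational 3 cfgThree = true := by decide +kernel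
theorem rationalFive_ok : checkRational 5 cfgFive = true := by decide +kernel
theorem rationalWitnessThree_ok : checkRationalWitness 3 cfgThree vMatThree vPosThree = true := by decide +kernel
theorem rationalWitnessFive_ok : checkRationalWitness 5 cfgFive vMatFive vPosFive = true := by decide +kernel

end Cfsg.Agent.Classical.UnitThree.Code
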