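import Cfsg.Agent.Lib.Classical.AschUnitThree
import Cfsg.Agent.Lib.Classical.AschUnitThreeLines
import Cfsg.Agent.Lib.Classical.AschUnitThreeTorus
import Cfsg.Agent.Lib.Classical.AschUnitThreeHeis

/-!
The coded fields with 9 and 25 elements, and the stabilisers of the configurations of lines.
-/

set_option autoImplicit false
set_option linter.unusedSectionVars false
set_option linter.unusedFintypeInType false
set_option linter.unusedDecidableInType false
set_option linter.unusedSimpArgs false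

namespace Cfsg.Agent.Classical.UnitThree

open Matrix Module Cfsg.Geo Cfsg.Agent.Classical.Asch
open MaxTv (qEquiv qEquiv_apply gl_mulVec_injective)
open Code

variable {F : Type*} [Field F] [Fintype F] {p : ℕ} {w : F}

/-- The coded field with `p ^ 2` elements. -/
structure Model (p : ℕ) (w : F) : Prop where
  hF : Fintype.card F = p ^ 2
  hp : p = 3 ∨ p = 5
  sq : w * w = 2

theorem exists_model (hF : Fintype.card F = p ^ 2) (hp : p = 3 ∨ p = 5) : ∃ w : F, Model p w := by
  have hchar : (p : F) = 0 := by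
    have h := FiniteField.cast_card_eq_zero F
    rw [hF, Nat.cast_pow] at h
    exact eq_zero_of_pow_eq_zero h
  have hc : ringChar F ≠ 2 := fun h => by
    have h2 : ((2 : ℕ) : F) = 0 := h ▸ ringChar.Nat.cast_ringChar
    rcases hp with rfl | rfl <;> push_cast at h2 hchar
    · exact one_ne_zero (show (1 : F) = 0 by linear_combination hchar - h2)
    · exact one_ne_zero (show (1 : F) = 0 by linear_combination hchar - 2 * h2)
  have hne : (2 : F) ≠ 0 := Ring.two_ne_zero hc
  obtain ⟨w, hw⟩ := (FiniteField.isSquare_iff hc hne).2 (by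
    rcases hp with rfl | rfl <;> push_cast at hchar <;> rw [hF]
    · show (2 : F) ^ 4 = 1
      linear_combination 5 * hchar
    · show (2 : F) ^ 12 = 1
      linear_combination 819 * hchar)
  exact ⟨w, hF, hp, hw.symm⟩

/-- The element of a code. -/
def val (p : ℕ) (w : F) (x : ℕ) : F := ((x % p : ℕ) : F) + ((x / p : ℕ) : F) * w

/-- The matrix of a list of codes. -/
def toM (p : ℕ) (w : F) (A : List ℕ) : Matrix (Fin 3) (Fin 3) F := Matrix.of fun i j => val p w (ent A i j)

/-- The vector of a list of codes. -/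
def toV (p : ℕ) (w : F) (v : List ℕ) : Fin 3 → F := fun i => val p w (nth v i)

/-- The setwise stabiliser of a set of vectors. -/
def setStab (S : Set (Fin 3 → F)) : Subgroup (GL (Fin 3) F) where
  carrier := {g | ∀ v, v ∈ S ↔ (g : Matrix (Fin 3) (Fin 3) F) *ᵥ v ∈ S}
  mul_mem' {a b} ha hb := fun v => by
    rw [Units.val_mul, ← Matrix.mulVec_mulVec, ← ha, ← hb]
  one_mem' := fun v => by rw [Units.val_one, Matrix.one_mulVec]
  inv_mem' {a} ha := fun v => by
    conv_rhs => rw [ha, Matrix.mulVec_mulVec, Units.mul_inv, Matrix.one_mulVec]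

theorem mem_setStab_of_mapsTo {S : Set (Fin 3 → F)} {g : GL (Fin 3) F}
    (h : ∀ v ∈ S, (g : Matrix (Fin 3) (Fin 3) F) *ᵥ v ∈ S) : g ∈ setStab S := by
  have hinj : Function.Injective fun v => (g : Matrix (Fin 3) (Fin 3) F) *ᵥ v := gl_mulVec_injective g
  have hfin : S.Finite := Set.toFinite S
  have himg : (fun v => (g : Matrix (Fin 3) (Fin 3) F) *ᵥ v) '' S = S := by
    refine Set.eq_of_subset_of_ncard_le (Set.image_subset_iff.2 h) ?_ hfin
    rw [Set.ncard_image_of_injective _ hinj]
  intro v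
  refine ⟨h v, fun hv => ?_⟩
  rw [← himg] at hv
  obtain ⟨u, hu, e⟩ := hv
  exact hinj e ▸ hu

theorem vcode_inj {p : ℕ} {u v : List ℕ} (hu : ∀ i, nth u i < p * p) (hv : ∀ i, nth v i < p * p)
    (e : vcode p u = vcode p v) (i : Fin 3) : nth u i = nth v i := by
  have key : ∀ a b a' b' : ℕ, a < p * p → a' < p * p → a + p * p * b = a' + p * p * b' → a = a' ∧ b = b' := by
    intro a b a' b' ha ha' he
    have h1 := congrArg (· % (p * p)) he
    simp only [Nat.add_mul_mod_self_left, Nat.mod_eq_of_lt ha, Nat.mod_eq_of_lt ha'] at h1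
    subst h1
    exact ⟨rfl, Nat.eq_of_mul_eq_mul_left (by omega) (Nat.add_left_cancel he)⟩
  have hlin : ∀ v : List ℕ, vcode p v = nth v 0 + p * p * (nth v 1 + p * p * nth v 2) := fun v => by
    unfold vcode; ring
  rw [hlin, hlin] at e
  obtain ⟨e0, e'⟩ := key _ _ _ _ (hu 0) (hv 0) e
  obtain ⟨e1, e2⟩ := key _ _ _ _ (hu 1) (hv 1) e'
  fin_cases i <;> assumption

namespace Model

variable (h : Model p w)
include h

theorem pos : 0 < p := by rcases h.hp with rfl | rfl <;> norm_num

theorem cast_p : (p : F) = 0 := by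
  have h' := FiniteField.cast_card_eq_zero F
  rw [h.hF, Nat.cast_pow] at h'
  exact eq_zero_of_pow_eq_zero h'

theorem cast_mod (n : ℕ) : ((n % p : ℕ) : F) = (n : F) := by
  conv_rhs => rw [← Nat.div_add_mod n p, Nat.cast_add, Nat.cast_mul, h.cast_p, zero_mul, zero_add]

theorem div_mod {a : ℕ} (ha : a < p) (b : ℕ) : (a + p * b) / p = b ∧ (a + p * b) % p = a :=
  ⟨by rw [Nat.add_mul_div_left _ _ h.pos, Nat.div_eq_of_lt ha, zero_add],
    by rw [Nat.add_mul_mod_self_left, Nat.mod_eq_of_lt ha]⟩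

theorem val_cadd (x y : ℕ) : val p w (cadd p x y) = val p w x + val p w y := by
  obtain ⟨h1, h2⟩ := h.div_mod (Nat.mod_lt (x % p + y % p) h.pos) ((x / p + y / p) % p)
  rw [cadd, val, h1, h2, h.cast_mod, h.cast_mod]
  simp only [val, Nat.cast_add]
  ring

theorem val_cmul (x y : ℕ) : val p w (cmul p x y) = val p w x * val p w y := by
  obtain ⟨h1, h2⟩ := h.div_mod (Nat.mod_lt (x % p * (y % p) + 2 * (x / p * (y / p))) h.pos)
    ((x % p * (y / p) + x / p * (y % p)) % p)
  rw [cmul, val, h1, h2, h.cast_mod, h.cast_mod]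
  simp only [val, Nat.cast_add, Nat.cast_mul, Nat.cast_ofNat]
  linear_combination -((x / p : ℕ) : F) * ((y / p : ℕ) : F) * h.sq

theorem val_nat {x : ℕ} (hx : x < p) : val p w x = x := by
  rw [val, Nat.mod_eq_of_lt hx, Nat.div_eq_of_lt hx, Nat.cast_zero, zero_mul, add_zero]

theorem val_zero : val p w 0 = 0 := by rw [h.val_nat h.pos, Nat.cast_zero]

theorem val_one : val p w 1 = 1 := by
  rw [h.val_nat (by rcases h.hp with rfl | rfl <;> norm_num), Nat.cast_one]

theorem cast_pred : ((p - 1 : ℕ) : F) = -1 := by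
  rw [Nat.cast_sub h.pos, h.cast_p, zero_sub, Nat.cast_one]

theorem val_cneg (x : ℕ) : val p w (cneg p x) = -val p w x := by
  rw [cneg, h.val_cmul, h.val_nat (by have := h.pos; omega), h.cast_pred, neg_one_mul]

theorem charP : CharP F p ∧ p.Prime := by
  have hp : p.Prime := by rcases h.hp with rfl | rfl <;> norm_num
  haveI : Fact p.Prime := ⟨hp⟩
  exact ⟨charP_of_card_eq_prime_pow (f := 2) h.hF, hp⟩

theorem conj_root : w ^ p = -w := by
  have h' := h.cast_p
  rcases h.hp with rfl | rfl <;> push_cast at h'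
  · linear_combination w * h.sq + w * h'
  · linear_combination (w * w * w + 2 * w) * h.sq + w * h'

theorem val_ccj (x : ℕ) : val p w (ccj p x) = qEquiv h.hF (val p w x) := by
  obtain ⟨hc, hp⟩ := h.charP
  haveI : Fact p.Prime := ⟨hp⟩
  obtain ⟨h1, h2⟩ := h.div_mod (Nat.mod_lt x h.pos) ((p - 1) * (x / p) % p)
  have hcast : ∀ n : ℕ, (n : F) ^ p = n := fun n => by rw [← frobenius_def, map_natCast]
  rw [ccj, val, h1, h2, h.cast_mod, h.cast_mod, qEquiv_apply, val, add_pow_char, mul_pow, hcast, hcast, h.cast_mod,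
    h.conj_root, Nat.cast_mul, h.cast_pred]
  ring

theorem val_inj {x y : ℕ} (hx : x < p * p) (hy : y < p * p) (e : val p w x = val p w y) : x = y := by
  have hd : cadd p x (cneg p y) = 0 ∨ ∃ c, cmul p (cadd p x (cneg p y)) c = 1 := by
    have key : ∀ p ∈ [3, 5], ∀ x < p * p, ∀ y < p * p, cadd p x (cneg p y) = 0 ∨
        ((List.range (p * p)).any fun c => cmul p (cadd p x (cneg p y)) c == 1) = true := by decide +kernel
    rcases key p (by rcases h.hp with rfl | rfl <;> simp) x hx y hy with h0 | h0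
    · exact Or.inl h0
    · obtain ⟨c, -, hc⟩ := List.any_eq_true.1 h0
      exact Or.inr ⟨c, beq_iff_eq.1 hc⟩
  rcases hd with h0 | ⟨c, hc⟩
  · have key : ∀ p ∈ [3, 5], ∀ x < p * p, ∀ y < p * p, cadd p x (cneg p y) = 0 → x = y := by decide +kernel
    exact key p (by rcases h.hp with rfl | rfl <;> simp) x hx y hy h0
  · have h1 := congrArg (val p w) hc
    rw [h.val_cmul, h.val_cadd, h.val_cneg, e, add_neg_cancel, zero_mul, h.val_one] at h1
    exact absurd h1 zero_ne_one

theorem exists_code (a : F) : ∃ c, c < p * p ∧ val p w c = a := by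
  let f : Fin (p * p) → F := fun c => val p w c
  have hf : Function.Bijective f := (Fintype.bijective_iff_injective_and_card f).2
    ⟨fun a b e => Fin.ext (h.val_inj a.2 b.2 e), by rw [Fintype.card_fin, h.hF, pow_two]⟩
  obtain ⟨c, hc⟩ := hf.2 a
  exact ⟨c, c.2, hc⟩

theorem val_ne_zero {x : ℕ} (hx : x < p * p) (hx0 : x ≠ 0) : val p w x ≠ 0 := fun e =>
  hx0 (h.val_inj hx (by omega) (e.trans h.val_zero.symm))

theorem exists_nat_of_fixed {a : F} (ha : qEquiv h.hF a = a) : ∃ t, t < p ∧ val p w t = a := by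
  obtain ⟨c, hc, rfl⟩ := h.exists_code a
  rw [← h.val_ccj] at ha
  have key : ∀ p ∈ [3, 5], ∀ c < p * p, ccj p c < p * p ∧ (ccj p c = c → c < p) := by decide +kernel
  obtain ⟨h1, h2⟩ := key p (by rcases h.hp with rfl | rfl <;> simp) c hc
  exact ⟨c, h2 (h.val_inj h1 hc ha), rfl⟩

theorem cadd_lt (x y : ℕ) : cadd p x y < p * p := by
  have h1 := Nat.mod_lt (x % p + y % p) h.pos
  have h2 := Nat.mod_lt (x / p + y / p) h.pos
  unfold cadd
  nlinarith

theorem cmul_lt (x y : ℕ) : cmul p x y < p * p := by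
  have h1 := Nat.mod_lt (x % p * (y % p) + 2 * (x / p * (y / p))) h.pos
  have h2 := Nat.mod_lt (x % p * (y / p) + x / p * (y % p)) h.pos
  unfold cmul
  nlinarith

theorem ccj_lt (x : ℕ) : ccj p x < p * p := by
  have h1 := Nat.mod_lt x h.pos
  have h2 := Nat.mod_lt ((p - 1) * (x / p)) h.pos
  unfold ccj
  nlinarith

theorem toM_mmul (A B : List ℕ) : toM p w (mmul p A B) = toM p w A * toM p w B := by
  ext i j
  fin_cases i <;> fin_cases j <;>
    simp [toM, mmul, ent, pent, Matrix.mul_apply, Fin.sum_univ_three, h.val_cadd, h.val_cmul]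

theorem toM_mone : toM p w mone = 1 := by
  ext i j
  fin_cases i <;> fin_cases j <;> simp [toM, mone, ent, h.val_one, h.val_zero]

theorem toM_mct (A : List ℕ) : toM p w (mct p A) = ((toM p w A)ᵀ).map (qEquiv h.hF) := by
  ext i j
  fin_cases i <;> fin_cases j <;> simp [toM, mct, ent, h.val_ccj]

theorem toM_mscal (c : ℕ) (A : List ℕ) : toM p w (mscal p c A) = val p w c • toM p w A := by
  ext i j
  fin_cases i <;> fin_cases j <;> simp [toM, mscal, ent, h.val_cmul]

theorem toM_madd (A B : List ℕ) : toM p w (madd p A B) = toM p w A + toM p w B := by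
  ext i j
  fin_cases i <;> fin_cases j <;> simp [toM, madd, ent, h.val_cadd]

theorem toM_mpow (A : List ℕ) : ∀ n, toM p w (mpow p A n) = toM p w A ^ n
  | 0 => by rw [mpow, h.toM_mone, pow_zero]
  | n + 1 => by rw [mpow, h.toM_mmul, toM_mpow A n, pow_succ']

theorem toV_mapp (A v : List ℕ) : toV p w (mapp p A v) = toM p w A *ᵥ toV p w v := by
  ext i
  fin_cases i <;>
    simp [toM, toV, mapp, aent, ent, nth, Matrix.mulVec, dotProduct, Fin.sum_univ_three, h.val_cadd, h.val_cmul]

theorem toV_vscal (c : ℕ) (v : List ℕ) : toV p w (vscal p c v) = val p w c • toV p w v := by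
  ext i
  fin_cases i <;> simp [toV, vscal, nth, h.val_cmul]

theorem hdot_val (u v : List ℕ) : val p w (hdot p u v) = hermForm 3 F p (toV p w u) (toV p w v) := by
  simp [hdot, hermForm, toV, Fin.sum_univ_three, h.val_cadd, h.val_cmul, h.val_ccj, qEquiv_apply]

theorem mdet_val (A : List ℕ) : val p w (mdet p A) = (toM p w A).det := by
  rw [Matrix.det_fin_three]
  simp [toM, mdet, h.val_cadd, h.val_cmul, h.val_cneg]
  ring

omit h in
theorem toM_ofCols (u v x : List ℕ) :
    toM p w (ofCols u v x) = (Matrix.of ![toV p w u, toV p w v, toV p w x])ᵀ := by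
  ext i j
  fin_cases i <;> fin_cases j <;> simp [toM, toV, ofCols, ent, nth]

theorem mmul_lt (A B : List ℕ) (i j : ℕ) : ent (mmul p A B) i j < p * p := by
  have h0 : 0 < p * p := Nat.mul_pos h.pos h.pos
  have hp := fun i j => h.cadd_lt (cadd p (cmul p (ent A i 0) (ent B 0 j)) (cmul p (ent A i 1) (ent B 1 j)))
    (cmul p (ent A i 2) (ent B 2 j))
  generalize hk : 3 * i + j = k
  rw [ent, hk, mmul]
  iterate 9 (rcases k with _ | k; · exact hp _ _)
  simpa using h0

theorem mmul_eq_of_toM {A B A' B' : List ℕ} (e : toM p w (mmul p A B) = toM p w (mmul p A' B')) :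
    mmul p A B = mmul p A' B' := by
  refine List.ext_getElem rfl fun k h1 h2 => ?_
  have hk : k < 9 := h1
  have e1 := congrFun (congrFun e ⟨k / 3, by omega⟩) ⟨k % 3, by omega⟩
  simp only [toM, Matrix.of_apply] at e1
  have e2 := h.val_inj (h.mmul_lt _ _ _ _) (h.mmul_lt _ _ _ _) e1
  rw [ent, ent, show 3 * (k / 3) + k % 3 = k by omega, List.getD_eq_getElem _ _ h1,
    List.getD_eq_getElem _ _ h2] at e2
  exact e2

theorem hdot_eq {u v u' v' : List ℕ}
    (e : hermForm 3 F p (toV p w u) (toV p w v) = hermForm 3 F p (toV p w u') (toV p w v')) :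
    hdot p u v = hdot p u' v' :=
  h.val_inj (h.cadd_lt _ _) (h.cadd_lt _ _) (by rw [h.hdot_val, h.hdot_val, e])

theorem hdot_eq_const {u v : List ℕ} {c : ℕ} (hc : c < p * p)
    (e : hermForm 3 F p (toV p w u) (toV p w v) = val p w c) : hdot p u v = c :=
  h.val_inj (h.cadd_lt _ _) hc (by rw [h.hdot_val, e])

theorem mdet_eq_one {A : List ℕ} (e : (toM p w A).det = 1) : mdet p A = 1 :=
  h.val_inj (h.cadd_lt _ _) (by have := h.pos; rcases h.hp with rfl | rfl <;> norm_num)
    (by rw [h.mdet_val, e, h.val_one])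

theorem exists_toV (v : Fin 3 → F) : ∃ a b c, a < p * p ∧ b < p * p ∧ c < p * p ∧ toV p w [a, b, c] = v := by
  obtain ⟨a, ha, ea⟩ := h.exists_code (v 0)
  obtain ⟨b, hb, eb⟩ := h.exists_code (v 1)
  obtain ⟨c, hc, ec⟩ := h.exists_code (v 2)
  exact ⟨a, b, c, ha, hb, hc, funext fun i => by fin_cases i <;> simp [toV, nth, ea, eb, ec]⟩

/-- The vectors on the lines of a configuration. -/
def vectors (_ : Model p w) (C : Cfg) : Set (Fin 3 → F) :=
  {v | ∃ a : F, a ≠ 0 ∧ ∃ u ∈ C.pts, v = a • toV p w u}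

/-- The stabiliser of a configuration in the special unitary group. -/
def big (C : Cfg) : Subgroup (GL (Fin 3) F) := (GU 3 F p ⊓ specialLinear (Fin 3) F) ⊓ setStab (h.vectors C)

theorem stab_mem {C : Cfg} (hC : checkCfg p C = true) {g : GL (Fin 3) F} {A : List ℕ}
    (hg : (g : Matrix (Fin 3) (Fin 3) F) = toM p w A) (hs : stab p C A = true) :
    g ∈ setStab (h.vectors C) := by
  simp only [checkCfg, Bool.and_eq_true, beq_iff_eq, List.all_eq_true, Nat.blt_eq] at hC
  obtain ⟨⟨⟨hbits, hpts⟩, -⟩, -⟩ := hC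
  refine mem_setStab_of_mapsTo ?_
  rintro _ ⟨a, ha, u, hu, rfl⟩
  simp only [stab, List.all_eq_true] at hs
  have hb := hs u hu
  rw [← hbits] at hb
  have hmem : ∀ (L : List ℕ) (c : ℕ), (toBits L).testBit c = true → c ∈ L := by
    intro L
    induction L with
    | nil => intro c; simp [toBits]
    | cons d L ih =>
      intro c hc
      rw [toBits, show Nat.lor (2 ^ d) (toBits L) = 2 ^ d ||| toBits L from rfl, Nat.testBit_or,
        Bool.or_eq_true, Nat.testBit_two_pow, decide_eq_true_iff] at hc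
      rcases hc with rfl | hc
      · exact List.mem_cons_self
      · exact List.mem_cons_of_mem _ (ih c hc)
  have hb' := hmem _ _ hb
  simp only [multiples, List.mem_flatMap, List.mem_map, List.mem_range] at hb'
  obtain ⟨v, hv, c, hc, hcv⟩ := hb'
  have h0 : 0 < p * p := Nat.mul_pos h.pos h.pos
  have e := vcode_inj (p := p) (u := vscal p (c + 1) v) (v := mapp p A u) (fun i => by
      rcases i with _ | _ | _ | i <;> first | exact h.cmul_lt _ _ | simpa [nth, vscal] using h0) (fun i => by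
      rcases i with _ | _ | _ | i <;> first | exact h.cadd_lt _ _ | simpa [nth, mapp] using h0) hcv
  have he : toV p w (mapp p A u) = val p w (c + 1) • toV p w v := by
    rw [← h.toV_vscal]
    funext i
    show val p w _ = val p w _
    rw [e i]
  refine ⟨a * val p w (c + 1), mul_ne_zero ha (h.val_ne_zero (by omega) (by omega)), v, hv, ?_⟩
  rw [Matrix.mulVec_smul, hg, ← h.toV_mapp, he, smul_smul]

theorem mem_big {C : Cfg} (hC : checkCfg p C = true) {g : GL (Fin 3) F} {A : List ℕ}
    (hgS : g ∈ GU 3 F p ⊓ specialLinear (Fin 3) F) (hg : (g : Matrix (Fin 3) (Fin 3) F) = toM p w A)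
    (hs : stab p C A = true) : g ∈ h.big C := ⟨hgS, h.stab_mem hC hg hs⟩

theorem exists_su {A : List ℕ} (hA : isSU p A = true) :
    ∃ g : GL (Fin 3) F, g ∈ GU 3 F p ⊓ specialLinear (Fin 3) F ∧ (g : Matrix (Fin 3) (Fin 3) F) = toM p w A := by
  simp only [isSU, Bool.and_eq_true, beq_iff_eq] at hA
  obtain ⟨h1, h2⟩ := hA
  have e := congrArg (toM p w) h1
  rw [h.toM_mmul, h.toM_mone] at e
  refine ⟨⟨toM p w A, toM p w (mct p A), mul_eq_one_comm.1 e, e⟩, ⟨?_, MonoidHom.mem_ker.2 (Units.ext ?_)⟩, rfl⟩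
  · refine (mem_GU_gram (σ := qEquiv h.hF) fun _ => rfl).2 ?_
    show (toM p w A)ᵀ * (1 * (toM p w A).map (qEquiv h.hF)) = 1
    rw [Matrix.one_mul]
    have e' := congrArg (fun M : Matrix (Fin 3) (Fin 3) F => M.map (qEquiv h.hF)) e
    rw [h.toM_mct] at e'
    simp only [Matrix.map_mul, Matrix.map_map, Matrix.map_one (qEquiv h.hF) (map_zero _) (map_one _)] at e'
    convert e' using 2
    ext i j
    show toM p w A j i = qEquiv h.hF (qEquiv h.hF (toM p w A j i))
    exact ((MaxTv.herm_hermForm (n := 1) h.hF).invol _).symm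
  · show (toM p w A).det = 1
    rw [← h.mdet_val, h2, h.val_one]

theorem nth_lt {v : List ℕ} (hv : ∀ x ∈ v, x < p * p) (i : ℕ) : nth v i < p * p := by
  by_cases hi : i < v.length
  · rw [nth, List.getD_eq_getElem _ _ hi]
    exact hv _ (List.getElem_mem hi)
  · rw [nth, List.getD_eq_default _ _ (by omega)]
    exact Nat.mul_pos h.pos h.pos

theorem exists_not_big {C : Cfg} (hC : checkCfg p C = true) :
    ∃ g ∈ GU 3 F p ⊓ specialLinear (Fin 3) F, g ∉ h.big C := by
  have hC' := hC
  simp only [checkCfg, Bool.and_eq_true, beq_iff_eq, List.all_eq_true, Nat.blt_eq, Bool.not_eq_true'] at hC'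
  obtain ⟨⟨⟨hbits, hpts⟩, hout⟩, hns⟩ := hC'
  obtain ⟨g, hgS, hg⟩ := h.exists_su hout
  refine ⟨g, hgS, fun hmem => ?_⟩
  rw [Bool.eq_false_iff] at hns
  apply hns
  simp only [stab, List.all_eq_true]
  intro u hu
  have hu1 : toV p w u ∈ h.vectors C := ⟨1, one_ne_zero, u, hu, (one_smul _ _).symm⟩
  obtain ⟨a, ha, v, hv, hav⟩ := (hmem.2 _).1 hu1
  rw [hg, ← h.toV_mapp] at hav
  obtain ⟨c, hc, rfl⟩ := h.exists_code a
  have hc0 : c ≠ 0 := fun e => ha (by rw [e, h.val_zero])
  have h0 : 0 < p * p := Nat.mul_pos h.pos h.pos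
  rw [← h.toV_vscal] at hav
  have e : ∀ i : Fin 3, nth (mapp p C.out u) i = nth (vscal p c v) i := fun i => by
    refine h.val_inj ?_ ?_ (congrFun hav i)
    · fin_cases i <;> exact h.cadd_lt _ _
    · fin_cases i <;> exact h.cmul_lt _ _
  have hcode : vcode p (mapp p C.out u) = vcode p (vscal p c v) := by
    unfold vcode
    rw [show nth (mapp p C.out u) 0 = _ from e 0, show nth (mapp p C.out u) 1 = _ from e 1,
      show nth (mapp p C.out u) 2 = _ from e 2]
    rfl
  have hmemL : vcode p (mapp p C.out u) ∈ multiples p C.pts := by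
    simp only [multiples, List.mem_flatMap, List.mem_map, List.mem_range]
    exact ⟨v, hv, c - 1, by omega, by rw [show c - 1 + 1 = c by omega, hcode]⟩
  rw [← hbits]
  have hto : ∀ (L : List ℕ) (c : ℕ), c ∈ L → (toBits L).testBit c = true := by
    intro L
    induction L with
    | nil => intro c; simp
    | cons d L ih =>
      intro c hc
      rw [toBits, show Nat.lor (2 ^ d) (toBits L) = 2 ^ d ||| toBits L from rfl, Nat.testBit_or,
        Bool.or_eq_true, Nat.testBit_two_pow, decide_eq_true_iff]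
      rcases List.mem_cons.1 hc with rfl | hc
      · exact Or.inl rfl
      · exact Or.inr (ih c hc)
  exact hto _ _ hmemL

end Model

end Cfsg.Agent.Classical.UnitThree
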