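import Cfsg.Agent.Lib.Classical.OrthDickson
import Cfsg.Agent.Lib.Classical.QuadModels

/-!
Crossed homomorphisms of small orthogonal groups over the field with two elements: a checkable
certificate that all of them are principal.  Vectors are encoded as natural numbers.
-/

set_option autoImplicit false
set_option linter.unusedSectionVars false
set_option quotPrecheck false

namespace Cfsg.Agent.Classical.BinCoc

open Matrix Cfsg.Agent.Classical.OrthAut
open scoped commutatorElement

/-- The certificate. -/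
structure Cert where
  n : ℕ
  q : ℕ → Bool
  v0 : ℕ
  ws : List ℕ
  bs : List ℕ
  order : List ℕ
  rels : List (List ℕ)
  L : List (List ℕ)
  C : List (ℕ × ℕ × List ℕ)

variable (c : Cert)

/-- The polar form. -/
def bq (a b : ℕ) : Bool := c.q (a ^^^ b) ^^ (c.q a ^^ c.q b)

/-- A transvection. -/
def tr (w u : ℕ) : ℕ := if bq c w u then u ^^^ w else u

/-- The generator `i` of the index-two subgroup. -/
def rn (i u : ℕ) : ℕ := tr c (c.ws.getD i c.v0) (tr c c.v0 u)

/-- The translation part of a word. -/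
def fw (x : ℕ → ℕ) (w : List ℕ) : ℕ := w.foldr (fun i u => rn c i u ^^^ x i) 0

/-- Exclusive or of a list. -/
def xs (l : List ℕ) : ℕ := l.foldr (fun a b => a ^^^ b) 0

/-- The linear candidate for the fixing vector. -/
def lmap (x : ℕ → ℕ) : ℕ :=
  xs ((List.range c.ws.length).map fun i => xs ((List.range c.n).map fun a =>
    if (x i).testBit a then (c.L.getD i []).getD a 0 else 0))

/-- The residual read off from the relations. -/
def cmap (e : ℕ → ℕ) (j : ℕ) : ℕ :=
  xs (c.C.map fun t => if (e t.1).testBit t.2.1 then t.2.2.getD j 0 else 0)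

/-- The relation values. -/
def emap (x : ℕ → ℕ) (r : ℕ) : ℕ := fw c x (c.rels.getD r [])

/-- All combinations of a list. -/
def span (l : List ℕ) : List ℕ := l.foldl (fun s b => s ++ s.map (fun a => a ^^^ b)) [0]

/-- The targets at stage `j`. -/
def cand (j v : ℕ) : Bool :=
  c.q v && (List.range j).all fun i => bq c (c.bs.getD i 0) v == bq c (c.bs.getD i 0) (c.bs.getD j 0)

/-- The vectors reached at stage `j` in `k` steps. -/
def reach (j : ℕ) : ℕ → List ℕ
  | 0 => [c.bs.getD j 0]
  | k + 1 => ((List.range (2 ^ c.n)).filter (cand c j)).filter fun v =>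
      (reach j k).any fun u => v == u || bq c u v

/-- The list is grown from the seen vectors by the generators. -/
def orderOK : List ℕ → List ℕ → Bool
  | _, [] => true
  | seen, v :: t => (seen.any fun u => (List.range c.ws.length).any fun i =>
      rn c i u == v || rn c i v == u) && orderOK (seen ++ [v]) t

/-- All checks on a certificate. -/
def Check : Bool :=
  c.q c.v0 && decide (c.v0 < 2 ^ c.n) &&
  c.ws.all (fun w => c.q w && decide (w < 2 ^ c.n)) &&
  c.bs.all (fun w => c.q w && decide (w < 2 ^ c.n)) &&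
  (c.bs.getD 0 0 == c.v0) &&
  (List.range (2 ^ c.n)).all (fun a => (span c.bs).contains a) &&
  (List.range c.bs.length).all (fun j => (List.range (2 ^ c.n)).all fun v =>
    !cand c j v || (span (c.bs.take j)).contains v || (reach c j 2).contains v) &&
  orderOK c [c.v0] c.order && c.L.all (fun e => e.all fun a => decide (a < 2 ^ c.n)) && c.order.all (fun a => decide (a < 2 ^ c.n)) &&
  (List.range (2 ^ c.n)).all (fun v => !c.q v || (c.v0 :: c.order).contains v) &&
  c.rels.all (fun w => w.all (fun i => decide (i < c.ws.length)) &&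
    (List.range (2 ^ c.n)).all fun a => w.foldr (rn c) a == a) &&
  (List.range c.ws.length).all fun i => (List.range c.n).all fun a => (List.range c.ws.length).all fun j =>
    let x := fun k => if k = i then 2 ^ a else 0
    let v := lmap c x
    x j ^^^ (rn c j v ^^^ v) == cmap c (emap c x) j

section Linear

theorem neg_vec {α : Type*} (v : α → ZMod 2) : -v = v := funext fun i => ZMod.neg_eq_self_mod_two (v i)

theorem xor4 (a b a' b' : ℕ) : (a ^^^ a') ^^^ (b ^^^ b') = (a ^^^ b) ^^^ (a' ^^^ b') := by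
  refine Nat.eq_of_testBit_eq fun k => ?_
  simp only [Nat.testBit_xor]
  cases a.testBit k <;> cases b.testBit k <;> cases a'.testBit k <;> cases b'.testBit k <;> rfl

theorem xs_map_xor {α : Type*} (l : List α) (f g : α → ℕ) :
    xs (l.map fun a => f a ^^^ g a) = xs (l.map f) ^^^ xs (l.map g) := by
  induction l with
  | nil => simp [xs]
  | cons a l ih =>
    simp only [xs, List.map_cons, List.foldr_cons] at ih ⊢
    rw [ih, xor4]

theorem ite_testBit_xor (a b k t : ℕ) : (if (a ^^^ b).testBit k then t else 0) =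
    (if a.testBit k then t else 0) ^^^ (if b.testBit k then t else 0) := by
  rw [Nat.testBit_xor]
  cases a.testBit k <;> cases b.testBit k <;> simp

theorem lmap_xor (x y : ℕ → ℕ) : lmap c (fun i => x i ^^^ y i) = lmap c x ^^^ lmap c y := by
  simp only [lmap, ite_testBit_xor, xs_map_xor]

theorem cmap_xor (x y : ℕ → ℕ) (j : ℕ) : cmap c (fun i => x i ^^^ y i) j = cmap c x j ^^^ cmap c y j := by
  simp only [cmap, ite_testBit_xor, xs_map_xor]

theorem fw_xor (hR : ∀ i a b, a < 2 ^ c.n → b < 2 ^ c.n → rn c i (a ^^^ b) = rn c i a ^^^ rn c i b)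
    (hB : ∀ i a, a < 2 ^ c.n → rn c i a < 2 ^ c.n) (x y : ℕ → ℕ) (hx : ∀ i, x i < 2 ^ c.n)
    (hy : ∀ i, y i < 2 ^ c.n) (w : List ℕ) :
    fw c (fun i => x i ^^^ y i) w = fw c x w ^^^ fw c y w ∧ fw c x w < 2 ^ c.n ∧ fw c y w < 2 ^ c.n := by
  induction w with
  | nil => simp [fw]
  | cons i w ih =>
    obtain ⟨h1, h2, h3⟩ := ih
    simp only [fw, List.foldr_cons] at h1 h2 h3 ⊢
    exact ⟨by rw [h1, hR i _ _ h2 h3, xor4], Nat.xor_lt_two_pow (hB i _ h2) (hx i),
      Nat.xor_lt_two_pow (hB i _ h3) (hy i)⟩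

end Linear

variable {ι : Type} [Fintype ι] [DecidableEq ι]


/-- Decoding. -/
def dec (pos : ι → ℕ) (a : ℕ) : (ι → ZMod 2) := fun i => if a.testBit (pos i) then 1 else 0

omit [Fintype ι] [DecidableEq ι] in
theorem dec_xor (pos : ι → ℕ) (a b : ℕ) : dec pos (a ^^^ b) = dec pos a + dec pos b := by
  funext i
  simp only [dec, Pi.add_apply, Nat.testBit_xor]
  cases a.testBit (pos i) <;> cases b.testBit (pos i) <;> decide

omit [Fintype ι] [DecidableEq ι] in
theorem dec_zero (pos : ι → ℕ) : dec pos 0 = 0 := by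
  funext i; simp [dec]

/-- A bit. -/
def bz (b : Bool) : ZMod 2 := if b then 1 else 0

variable {Q : QuadraticForm (ZMod 2) (ι → ZMod 2)} {pos : ι → ℕ}
  (hq : ∀ a < 2 ^ c.n, Q (dec pos a) = bz (c.q a))
  (hs : ∀ v : (ι → ZMod 2), ∃ a < 2 ^ c.n, dec pos a = v)
  (hdec : ∀ a < 2 ^ c.n, dec pos a = 0 → a = 0)
include hq hs hdec

local notation "OG" => isometryGroup (ZMod 2) ⇑Q

theorem dec_inj {a b : ℕ} (ha : a < 2 ^ c.n) (hb : b < 2 ^ c.n) (h : dec pos a = dec pos b) : a = b :=
  Nat.xor_eq_zero_iff.1 (hdec _ (Nat.xor_lt_two_pow ha hb) (by rw [dec_xor, h]; exact funext fun i => CharTwo.add_self_eq_zero _))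

theorem polar_dec {a b : ℕ} (ha : a < 2 ^ c.n) (hb : b < 2 ^ c.n) :
    QuadraticMap.polar ⇑Q (dec pos a) (dec pos b) = bz (bq c a b) := by
  rw [QuadraticMap.polar, ← dec_xor, hq _ ha, hq _ hb, hq _ (Nat.xor_lt_two_pow ha hb), bq]
  cases c.q (a ^^^ b) <;> cases c.q a <;> cases c.q b <;> rfl

theorem refl_dec {w u : ℕ} (hw : w < 2 ^ c.n) (hu : u < 2 ^ c.n) (hqw : c.q w = true)
    (h : Q (dec pos w) ≠ 0) :
    tr c w u < 2 ^ c.n ∧ ogVal (refl h) *ᵥ dec pos u = dec pos (tr c w u) := by
  refine ⟨by rw [tr]; split_ifs; exacts [Nat.xor_lt_two_pow hu hw, hu], ?_⟩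
  rw [refl_apply, polar_dec c hq hs hdec hw hu, hq _ hw, hqw, tr]
  cases bq c w u
  · simp [bz]
  · simp [bz, dec_xor, sub_eq_add_neg, neg_vec]

theorem eq_one_of {g : OG} (h : ∀ a < 2 ^ c.n, ogVal g *ᵥ dec pos a = dec pos a) : g = 1 :=
  ogVal_ext (Matrix.ext_iff_mulVec.2 fun x => by
    obtain ⟨a, ha, rfl⟩ := hs x
    rw [h a ha, ogVal_one, Matrix.one_mulVec])

/-- Every crossed homomorphism is principal. -/
theorem main (hc : Check c = true) (f : ↥(Omega (ZMod 2) ⇑Q) → (ι → ZMod 2))
    (hf : ∀ g h : ↥(Omega (ZMod 2) ⇑Q), f (g * h) = f g + ogVal (g : OG) *ᵥ f h) :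
    ∃ v : (ι → ZMod 2), ∀ g : ↥(Omega (ZMod 2) ⇑Q), f g = ogVal (g : OG) *ᵥ v - v := by
  classical
  simp only [Check, Bool.and_eq_true, List.all_eq_true, List.mem_range, Bool.or_eq_true,
    Bool.not_eq_true', decide_eq_true_eq, beq_iff_eq, List.contains_iff_mem] at hc
  obtain ⟨⟨⟨⟨⟨⟨⟨⟨⟨⟨⟨⟨hv0q, hv0⟩, hws⟩, hbs⟩, hb0⟩, hspan⟩, hprof⟩, hord⟩, hL⟩, hordlt⟩, hall⟩, hrels⟩, hlin⟩ := hc
  have nz : ∀ {w : ℕ}, w < 2 ^ c.n → c.q w = true → Q (dec pos w) ≠ 0 := fun hw hqw => by
    rw [hq _ hw, hqw]; decide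
  let rf : ℕ → OG := fun w => if h : Q (dec pos w) ≠ 0 then refl h else 1
  have rf_dec : ∀ {w u : ℕ}, w < 2 ^ c.n → u < 2 ^ c.n → c.q w = true →
      tr c w u < 2 ^ c.n ∧ ogVal (rf w) *ᵥ dec pos u = dec pos (tr c w u) := fun hw hu hqw => by
    simp only [rf, dif_pos (nz hw hqw)]
    exact refl_dec c hq hs hdec hw hu hqw _
  have getw : ∀ i, c.ws.getD i c.v0 < 2 ^ c.n ∧ c.q (c.ws.getD i c.v0) = true := fun i => by
    rcases lt_or_ge i c.ws.length with h | h
    · rw [List.getD_eq_getElem _ _ h]
      exact ⟨(hws _ (List.getElem_mem h)).2, (hws _ (List.getElem_mem h)).1⟩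
    · rw [List.getD_eq_default _ _ h]; exact ⟨hv0, hv0q⟩
  set t0 := rf c.v0
  let r : ℕ → OG := fun i => rf (c.ws.getD i c.v0) * t0
  have r_dec : ∀ i {u : ℕ}, u < 2 ^ c.n → rn c i u < 2 ^ c.n ∧ ogVal (r i) *ᵥ dec pos u = dec pos (rn c i u) := by
    intro i u hu
    obtain ⟨h1, h2⟩ := rf_dec hv0 hu hv0q
    obtain ⟨h3, h4⟩ := rf_dec (getw i).1 h1 (getw i).2
    exact ⟨h3, by rw [ogVal_mul, ← Matrix.mulVec_mulVec, h2, h4, rn]⟩
  have hB : ∀ i a, a < 2 ^ c.n → rn c i a < 2 ^ c.n := fun i a ha => (r_dec i ha).1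
  have hR : ∀ i a b, a < 2 ^ c.n → b < 2 ^ c.n → rn c i (a ^^^ b) = rn c i a ^^^ rn c i b := by
    intro i a b ha hb
    refine dec_inj c hq hs hdec (hB _ _ (Nat.xor_lt_two_pow ha hb))
      (Nat.xor_lt_two_pow (hB _ _ ha) (hB _ _ hb)) ?_
    rw [dec_xor, ← (r_dec i (Nat.xor_lt_two_pow ha hb)).2, dec_xor, Matrix.mulVec_add, (r_dec i ha).2,
      (r_dec i hb).2]
  -- reflections generate and are transitive
  set R : Subgroup OG := Subgroup.closure {g | ∃ w < 2 ^ c.n, c.q w = true ∧ g = rf w}
  have getb : ∀ {i}, i < c.bs.length → c.bs.getD i 0 < 2 ^ c.n ∧ c.q (c.bs.getD i 0) = true := fun {i} h => by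
    rw [List.getD_eq_getElem _ _ h]
    exact ⟨(hbs _ (List.getElem_mem h)).2, (hbs _ (List.getElem_mem h)).1⟩
  have hreach : ∀ j < c.bs.length, ∀ k, ∀ v ∈ reach c j k, v < 2 ^ c.n ∧ cand c j v = true ∧
      ∃ g ∈ R, (∀ i < j, ogVal g *ᵥ dec pos (c.bs.getD i 0) = dec pos (c.bs.getD i 0)) ∧
        ogVal g *ᵥ dec pos (c.bs.getD j 0) = dec pos v := by
    intro j hj k
    induction k with
    | zero =>
      intro v hv
      rw [reach, List.mem_singleton] at hv
      subst hv
      exact ⟨(getb hj).1, by rw [cand, (getb hj).2]; simp, 1, one_mem _, fun i _ => by rw [ogVal_one, Matrix.one_mulVec],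
        by rw [ogVal_one, Matrix.one_mulVec]⟩
    | succ k ih =>
      intro v hv
      simp only [reach, List.mem_filter, List.mem_range, List.any_eq_true, Bool.or_eq_true, beq_iff_eq] at hv
      obtain ⟨⟨hvn, hvc⟩, u, hu, hu'⟩ := hv
      obtain ⟨hun, huc, g, hg, hgi, hgj⟩ := ih u hu
      rcases hu' with rfl | hb
      · exact ⟨hvn, hvc, g, hg, hgi, hgj⟩
      · have hcu := huc
        have hcv := hvc
        simp only [cand, Bool.and_eq_true, List.all_eq_true, List.mem_range, beq_iff_eq] at hcu hcv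
        have hwn : u ^^^ v < 2 ^ c.n := Nat.xor_lt_two_pow hun hvn
        have hwq : c.q (u ^^^ v) = true := by
          have := hb
          rw [bq, hcu.1, hcv.1] at this
          simpa using this
        refine ⟨hvn, hvc, rf (u ^^^ v) * g, mul_mem (Subgroup.subset_closure ⟨_, hwn, hwq, rfl⟩) hg,
          fun i hi => ?_, ?_⟩
        · rw [ogVal_mul, ← Matrix.mulVec_mulVec, hgi i hi, (rf_dec hwn (getb (hi.trans hj)).1 hwq).2, tr, if_neg]
          intro hc'
          have hbi := (getb (hi.trans hj)).1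
          have e : bz (bq c (u ^^^ v) (c.bs.getD i 0)) = bz (bq c (c.bs.getD i 0) u) + bz (bq c (c.bs.getD i 0) v) := by
            rw [← polar_dec c hq hs hdec hwn hbi, ← polar_dec c hq hs hdec hbi hun, ← polar_dec c hq hs hdec hbi hvn,
              dec_xor, QuadraticMap.polar_add_left, QuadraticMap.polar_comm _ (dec pos u),
              QuadraticMap.polar_comm _ (dec pos v)]
          rw [hc', hcu.2 i hi, hcv.2 i hi, CharTwo.add_self_eq_zero] at e
          exact absurd e (by decide)
        · rw [ogVal_mul, ← Matrix.mulVec_mulVec, hgj, (rf_dec hwn hun hwq).2, tr, if_pos]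
          · rw [← Nat.xor_assoc, Nat.xor_self, Nat.zero_xor]
          · have e := polar_dec c hq hs hdec hwn hun
            rw [dec_xor, QuadraticMap.polar_add_left, QuadraticMap.polar_self, hq _ hun, QuadraticMap.polar_comm,
              polar_dec c hq hs hdec hun hvn, hb] at e
            cases hbw : bq c (u ^^^ v) u
            · rw [hbw] at e
              simp [bz, show (2 : (ZMod 2)) = 0 from rfl] at e
            · rfl
  have hgenR : ∀ j, j ≤ c.bs.length → ∀ g : OG, ∃ h ∈ R, ∀ i < j,
      ogVal (h * g) *ᵥ dec pos (c.bs.getD i 0) = dec pos (c.bs.getD i 0) := by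
    intro j
    induction j with
    | zero => exact fun _ g => ⟨1, one_mem _, fun i hi => absurd hi (Nat.not_lt_zero i)⟩
    | succ j ih =>
      intro hj g
      obtain ⟨h, hh, hfix⟩ := ih (by omega) g
      have hj' : j < c.bs.length := hj
      obtain ⟨v, hvn, hv⟩ := hs (ogVal (h * g) *ᵥ dec pos (c.bs.getD j 0))
      have hcand : cand c j v = true := by
        have hqv : c.q v = true := by
          have e : bz (c.q v) = bz true := by
            rw [← hq _ hvn, hv, ogVal_quad, hq _ (getb hj').1, (getb hj').2]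
          revert e
          cases c.q v <;> simp [bz]
        simp only [cand, Bool.and_eq_true, List.all_eq_true, List.mem_range, beq_iff_eq]
        refine ⟨hqv, fun i hi => ?_⟩
        have hbi := (getb (hi.trans hj')).1
        have e : bz (bq c (c.bs.getD i 0) v) = bz (bq c (c.bs.getD i 0) (c.bs.getD j 0)) := by
          rw [← polar_dec c hq hs hdec hbi hvn, ← polar_dec c hq hs hdec hbi (getb hj').1, hv, ← hfix i hi,
            isometry_polar (ogVal_quad (h * g)), hfix i hi]
        revert e
        cases bq c (c.bs.getD i 0) v <;> cases bq c (c.bs.getD i 0) (c.bs.getD j 0) <;> simp [bz]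
      rcases hprof j hj' v hvn with (h' | h') | h'
      · rw [hcand] at h'; simp at h'
      · have hlin' : ∀ x ∈ span (c.bs.take j), ogVal (h * g) *ᵥ dec pos x = dec pos x := by
          suffices ∀ (l : List ℕ) (s : List ℕ), (∀ b ∈ l, ogVal (h * g) *ᵥ dec pos b = dec pos b) →
              (∀ x ∈ s, ogVal (h * g) *ᵥ dec pos x = dec pos x) →
              ∀ x ∈ l.foldl (fun s b => s ++ s.map (fun a => a ^^^ b)) s,
                ogVal (h * g) *ᵥ dec pos x = dec pos x from
            this _ [0] (fun b hb => by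
              obtain ⟨i, hi, rfl⟩ := List.mem_take_iff_getElem.1 hb
              have := hfix i (lt_of_lt_of_le hi (Nat.min_le_left _ _))
              rwa [List.getD_eq_getElem _ _ (lt_of_lt_of_le hi (Nat.min_le_right _ _))] at this)
              (fun x hx => by rw [List.mem_singleton.1 hx, dec_zero, Matrix.mulVec_zero])
          intro l
          induction l with
          | nil => exact fun s _ hsx x hx => hsx x hx
          | cons b l ihl =>
            intro s hl hsx
            refine ihl _ (fun b' hb' => hl b' (List.mem_cons_of_mem _ hb')) fun x hx => ?_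
            rcases List.mem_append.1 hx with hx | hx
            · exact hsx x hx
            · obtain ⟨y, hy, rfl⟩ := List.mem_map.1 hx
              rw [dec_xor, Matrix.mulVec_add, hsx y hy, hl b (List.mem_cons_self ..)]
        have e := (ogVal_inv_cancel (h * g) (dec pos (c.bs.getD j 0))).symm
        rw [← hv] at e
        nth_rw 1 [← hlin' v h'] at e
        rw [ogVal_inv_cancel] at e
        refine ⟨h, hh, fun i hi => ?_⟩
        rcases Nat.lt_succ_iff_lt_or_eq.1 hi with hi | rfl
        · exact hfix i hi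
        · rw [← hv, e]
      · obtain ⟨-, -, k, hk, hki, hkj⟩ := hreach j hj' 2 v h'
        refine ⟨k⁻¹ * h, mul_mem (inv_mem hk) hh, fun i hi => ?_⟩
        rw [mul_assoc, ogVal_mul, ← Matrix.mulVec_mulVec]
        rcases Nat.lt_succ_iff_lt_or_eq.1 hi with hi | rfl
        · rw [hfix i hi]; conv_lhs => rw [← hki i hi, ogVal_inv_cancel]
        · rw [← hv, ← hkj, ogVal_inv_cancel]
  have hR_top : ∀ g : OG, g ∈ R := by
    intro g
    obtain ⟨h, hh, hfix⟩ := hgenR c.bs.length le_rfl g
    have : h * g = 1 := by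
      refine eq_one_of c hq hs hdec fun a ha => ?_
      suffices ∀ (l : List ℕ) (s : List ℕ), (∀ b ∈ l, ogVal (h * g) *ᵥ dec pos b = dec pos b) →
          (∀ x ∈ s, ogVal (h * g) *ᵥ dec pos x = dec pos x) →
          ∀ x ∈ l.foldl (fun s b => s ++ s.map (fun a => a ^^^ b)) s,
            ogVal (h * g) *ᵥ dec pos x = dec pos x from
        this _ [0] (fun b hb => by
          obtain ⟨i, hi, rfl⟩ := List.mem_iff_getElem.1 hb
          have := hfix i hi
          rwa [List.getD_eq_getElem _ _ hi] at this)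
          (fun x hx => by rw [List.mem_singleton.1 hx, dec_zero, Matrix.mulVec_zero]) a (hspan a ha)
      intro l
      induction l with
      | nil => exact fun s _ hsx x hx => hsx x hx
      | cons b l ihl =>
        intro s hl hsx
        refine ihl _ (fun b' hb' => hl b' (List.mem_cons_of_mem _ hb')) fun x hx => ?_
        rcases List.mem_append.1 hx with hx | hx
        · exact hsx x hx
        · obtain ⟨y, hy, rfl⟩ := List.mem_map.1 hx
          rw [dec_xor, Matrix.mulVec_add, hsx y hy, hl b (List.mem_cons_self ..)]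
    rw [eq_inv_of_mul_eq_one_right this]
    exact inv_mem hh
  -- products of two reflections lie in the commutator subgroup
  have rf_conj : ∀ (g : OG) {w v : ℕ}, w < 2 ^ c.n → c.q w = true → v < 2 ^ c.n →
      ogVal g *ᵥ dec pos w = dec pos v → g * rf w * g⁻¹ = rf v := by
    intro g w v hw hqw hv hgv
    have hnv : Q (ogVal g *ᵥ dec pos w) ≠ 0 := by rw [ogVal_quad]; exact nz hw hqw
    simp only [rf, dif_pos (nz hw hqw), dif_pos (hgv ▸ hnv : Q (dec pos v) ≠ 0)]
    rw [refl_conj g (nz hw hqw) hnv]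
    refine ogVal_ext (Matrix.ext_iff_mulVec.2 fun x => ?_)
    rw [refl_apply, refl_apply, hgv]
  have rf_inv : ∀ w, (rf w)⁻¹ = rf w := fun w => inv_eq_of_mul_eq_one_right (by
    simp only [rf]; split_ifs with hh
    · refine ogVal_ext (Matrix.ext_iff_mulVec.2 fun x => ?_)
      rw [ogVal_mul, ← Matrix.mulVec_mulVec, refl_apply, refl_apply, ogVal_one, Matrix.one_mulVec]
      rw [QuadraticMap.polar_sub_right, QuadraticMap.polar_smul_right, QuadraticMap.polar_self]
      funext j
      simp [show (2 : (ZMod 2)) = 0 from rfl]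
      linear_combination (-(Q (dec pos w))⁻¹ * QuadraticMap.polar (⇑Q) (dec pos w) x * dec pos w j) * (CharTwo.two_eq_zero (R := ZMod 2))
    · rw [mul_one])
  have hlenpos : 0 < c.bs.length := by
    by_contra h
    have h0 : c.bs = [] := List.length_eq_zero_iff.1 (Nat.eq_zero_of_not_pos h)
    have := hspan c.v0 hv0
    rw [h0] at this
    have h00 : c.v0 = 0 := by simpa [span] using this
    have := hq 0 (Nat.two_pow_pos _)
    rw [dec_zero, QuadraticMap.map_zero, ← h00, hv0q] at this
    exact absurd this (by decide)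
  have r_mem : ∀ i, r i ∈ Omega (ZMod 2) ⇑Q := by
    intro i
    have hc0 : cand c 0 (c.ws.getD i c.v0) = true := by rw [cand, (getw i).2]; simp
    rcases hprof 0 hlenpos _ (getw i).1 with (h' | h') | h'
    · rw [hc0] at h'; simp at h'
    · exfalso
      have h0 : c.ws.getD i c.v0 = 0 := by simpa [span] using h'
      have := (getw i).2
      have h00 := hq 0 (Nat.two_pow_pos _)
      rw [dec_zero, QuadraticMap.map_zero, ← h0, this] at h00
      exact absurd h00 (by decide)
    · obtain ⟨-, -, k, -, -, hk⟩ := hreach 0 hlenpos 2 _ h'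
      rw [hb0] at hk
      have : r i = ⁅k, t0⁆ := by
        rw [commutatorElement_def, rf_conj k hv0 hv0q (getw i).1 hk, rf_inv]
      rw [this]
      exact Subgroup.commutator_mem_commutator (Subgroup.mem_top _) (Subgroup.mem_top _)
  let s : ℕ → ↥(Omega (ZMod 2) ⇑Q) := fun i => ⟨r i, r_mem i⟩
  have f_one : f 1 = 0 := by
    have := hf 1 1
    simp only [mul_one, OneMemClass.coe_one, ogVal_one, Matrix.one_mulVec] at this
    exact left_eq_add.1 this
  choose enc henc hencd using hs
  let X : ℕ → ℕ := fun i => if i < c.ws.length then enc (f (s i)) else 0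
  have hX : ∀ i, X i < 2 ^ c.n := fun i => by simp only [X]; split_ifs; exacts [henc _, Nat.two_pow_pos _]
  have hs' : ∀ v : (ι → ZMod 2), ∃ a < 2 ^ c.n, dec pos a = v := fun v => ⟨_, henc v, hencd v⟩
  have hword : ∀ w : List ℕ, (∀ i ∈ w, i < c.ws.length) →
      fw c X w < 2 ^ c.n ∧ f (w.map s).prod = dec pos (fw c X w) ∧
      ∀ a < 2 ^ c.n, w.foldr (rn c) a < 2 ^ c.n ∧
        ogVal (((w.map s).prod : ↥(Omega (ZMod 2) ⇑Q)) : OG) *ᵥ dec pos a = dec pos (w.foldr (rn c) a) := by
    intro w
    induction w with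
    | nil => exact fun _ => ⟨Nat.two_pow_pos _, by simp [f_one, fw, dec_zero], fun a ha => ⟨ha, by simp⟩⟩
    | cons i w ih =>
      intro hw
      obtain ⟨h1, h2, h3⟩ := ih fun j hj => hw j (List.mem_cons_of_mem _ hj)
      have hi := hw i (List.mem_cons_self ..)
      simp only [fw, List.foldr_cons] at h1 h2 ⊢
      refine ⟨Nat.xor_lt_two_pow (hB _ _ h1) (hX i), ?_, fun a ha => ⟨hB _ _ (h3 a ha).1, ?_⟩⟩
      · rw [List.map_cons, List.prod_cons, hf, h2, dec_xor, add_comm]
        congr 1
        · exact (r_dec i h1).2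
        · simp [X, hi, hencd]
      · rw [List.map_cons, List.prod_cons, Subgroup.coe_mul, ogVal_mul, ← Matrix.mulVec_mulVec, (h3 a ha).2]
        exact (r_dec i (h3 a ha).1).2
  have hE : ∀ rr, emap c X rr = 0 := by
    intro rr
    rcases lt_or_ge rr c.rels.length with hr | hr
    · obtain ⟨hlt, hfix⟩ := hrels _ (List.getElem_mem hr)
      obtain ⟨h1, h2, h3⟩ := hword _ hlt
      rw [emap, List.getD_eq_getElem _ _ hr]
      refine hdec _ h1 ?_
      rw [← h2, show ((c.rels[rr]).map s).prod = 1 from Subtype.ext (eq_one_of c hq hs' hdec fun a ha => by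
        rw [(h3 a ha).2, hfix a ha]), f_one]
    · rw [emap, List.getD_eq_default _ _ hr]; rfl
  let T : (ℕ → ℕ) → Prop := fun x => (∀ i, x i < 2 ^ c.n) ∧ ∀ j < c.ws.length,
    x j ^^^ (rn c j (lmap c x) ^^^ lmap c x) = cmap c (emap c x) j
  have hLb : ∀ l : List ℕ, (∀ a ∈ l, a < 2 ^ c.n) → xs l < 2 ^ c.n := by
    intro l
    induction l with
    | nil => exact fun _ => Nat.two_pow_pos _
    | cons a l ih =>
      exact fun h => Nat.xor_lt_two_pow (h a (List.mem_cons_self ..)) (ih fun b hb => h b (List.mem_cons_of_mem _ hb))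
  have hr0 : ∀ i, rn c i 0 = 0 := fun i => by
    have := hR i 0 0 (Nat.two_pow_pos _) (Nat.two_pow_pos _)
    simpa using this
  have hlm : ∀ x, lmap c x % 2 ^ c.n < 2 ^ c.n := fun x => Nat.mod_lt _ (Nat.two_pow_pos _)
  have hLe : ∀ x, lmap c x < 2 ^ c.n := by
    intro x
    refine hLb _ fun a ha => ?_
    obtain ⟨i, -, rfl⟩ := List.mem_map.1 ha
    refine hLb _ fun b hb => ?_
    obtain ⟨k, -, rfl⟩ := List.mem_map.1 hb
    split_ifs
    · rcases lt_or_ge i c.L.length with h | h
      · rw [List.getD_eq_getElem _ _ h]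
        rcases lt_or_ge k c.L[i].length with h' | h'
        · rw [List.getD_eq_getElem _ _ h']; exact hL _ (List.getElem_mem h) _ (List.getElem_mem h')
        · rw [List.getD_eq_default _ _ h']; exact Nat.two_pow_pos _
      · rw [List.getD_eq_default _ _ h]; simpa using Nat.two_pow_pos _
    · exact Nat.two_pow_pos _
  have hTadd : ∀ x y, T x → T y → T (fun i => x i ^^^ y i) := fun x y hx hy =>
    ⟨fun i => Nat.xor_lt_two_pow (hx.1 i) (hy.1 i), fun j hj => by
      rw [lmap_xor, hR j _ _ (hLe x) (hLe y), xor4 (rn c j (lmap c x)), xor4 (x j), hx.2 j hj, hy.2 j hj, ← cmap_xor]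
      exact congrArg (fun e => cmap c e j) (funext fun rr => (fw_xor c hR hB x y hx.1 hy.1 _).1.symm)⟩
  have hT0 : T (fun _ => 0) := by
    refine ⟨fun _ => Nat.two_pow_pos _, fun j _ => ?_⟩
    have hl : lmap c (fun _ => 0) = 0 := by
      have := lmap_xor c (fun _ => 0) (fun _ => 0)
      simpa using this
    have he : emap c (fun _ => 0) = fun _ => 0 := funext fun rr => by
      have := (fw_xor c hR hB (fun _ => 0) (fun _ => 0) (fun _ => Nat.two_pow_pos _) (fun _ => Nat.two_pow_pos _)
        (c.rels.getD rr [])).1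
      simpa [emap] using this
    have hc' : cmap c (fun _ => 0) j = 0 := by
      have := cmap_xor c (fun _ => 0) (fun _ => 0) j
      simpa using this
    rw [hl, he, hc', hr0]
    simp
  have hT1 : ∀ i < c.ws.length, ∀ m ≤ c.n, ∀ a < 2 ^ m, T (fun k => if k = i then a else 0) := by
    intro i hi m
    induction m with
    | zero =>
      intro _ a ha
      obtain rfl : a = 0 := by simpa using ha
      simpa using hT0
    | succ m ih =>
      intro hm a ha
      rcases lt_or_ge a (2 ^ m) with h | h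
      · exact ih (by omega) a h
      · have hb : T (fun k => if k = i then 2 ^ m else 0) :=
          ⟨fun k => by dsimp only; split_ifs; exacts [Nat.pow_lt_pow_right Nat.one_lt_two hm, Nat.two_pow_pos _],
            fun j hj => hlin i hi m hm j hj⟩
        have hlt : a ^^^ 2 ^ m < 2 ^ m := by
          refine Nat.lt_pow_two_of_testBit _ fun k hk => ?_
          rcases eq_or_lt_of_le hk with rfl | hk
          · rw [Nat.testBit_xor, Nat.testBit_two_pow_self, Nat.testBit_eq_decide_div_mod_eq,
              Nat.div_eq_of_lt_le (k := 1) (by omega) (by rw [pow_succ] at ha; omega)]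
            rfl
          · rw [Nat.testBit_xor, Nat.testBit_two_pow_of_ne hk.ne, Nat.testBit_lt_two_pow
              (lt_of_lt_of_le ha (Nat.pow_le_pow_right two_pos hk))]
            rfl
        have := hTadd _ _ (ih (by omega) _ hlt) hb
        convert this using 1
        funext k
        split_ifs <;> simp [Nat.xor_assoc]
  have hTX : ∀ k ≤ c.ws.length, T (fun i => if i < k then X i else 0) := by
    intro k
    induction k with
    | zero => intro _; simpa using hT0
    | succ k ih =>
      intro hk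
      have := hTadd _ _ (ih (by omega)) (hT1 k hk c.n le_rfl (X k) (hX k))
      convert this using 1
      funext i
      rcases lt_trichotomy i k with h | h | h
      · simp [h, h.ne, h.trans (Nat.lt_succ_self k)]
      · subst h; simp
      · simp [h.ne', not_lt.2 h.le, show ¬ i < k + 1 by omega]
  have hTX' : T X := by
    convert hTX _ le_rfl using 1
    funext i
    simp only [X]; split_ifs <;> rfl
  set u := lmap c X with hu
  have hzero : ∀ i < c.ws.length, f (s i) = ogVal (r i) *ᵥ dec pos u - dec pos u := by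
    intro i hi
    have h0 : cmap c (emap c X) i = 0 := by
      rw [funext hE]
      have := cmap_xor c (fun _ => 0) (fun _ => 0) i
      simpa using this
    have e := hTX'.2 i hi
    rw [h0, Nat.xor_eq_zero_iff] at e
    rw [← hencd (f (s i)), show enc (f (s i)) = X i by simp [X, hi], e, dec_xor, (r_dec i (hLe X)).2]
    simp [sub_eq_add_neg, neg_vec, u]
  let K : Subgroup ↥(Omega (ZMod 2) ⇑Q) :=
    { carrier := {g | f g = ogVal (g : OG) *ᵥ dec pos u - dec pos u}
      one_mem' := by simp [f_one]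
      mul_mem' := fun {a b} ha hb => by
        show f (a * b) = _
        rw [hf, ha, hb, Subgroup.coe_mul, ogVal_mul, ← Matrix.mulVec_mulVec, Matrix.mulVec_sub]
        abel
      inv_mem' := fun {a} ha => by
        have h1 := hf a⁻¹ a
        rw [inv_mul_cancel, f_one, ha, Matrix.mulVec_sub] at h1
        show f a⁻¹ = _
        rw [Subgroup.coe_inv, ogVal_inv_cancel] at h1
        rw [Subgroup.coe_inv, eq_neg_of_add_eq_zero_left h1.symm]
        abel }
  set L := K.map (Omega (ZMod 2) ⇑Q).subtype with hLdef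
  have hrL : ∀ i, r i ∈ L := by
    intro i
    rcases lt_or_ge i c.ws.length with hi | hi
    · exact ⟨s i, hzero i hi, rfl⟩
    · have : r i = 1 := by
        simp only [r, t0, List.getD_eq_default _ _ hi]
        conv_lhs => arg 1; rw [← rf_inv]
        exact inv_mul_cancel _
      rw [this]
      exact one_mem _
  set E := Subgroup.closure (Set.range r)
  have hEL : E ≤ L := (Subgroup.closure_le _).2 (by rintro _ ⟨i, rfl⟩; exact hrL i)
  have hnorm : ∀ g ∈ E, t0 * g * t0 ∈ E := by
    intro g hg
    induction hg using Subgroup.closure_induction with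
    | mem x hx =>
      obtain ⟨i, rfl⟩ := hx
      have : t0 * r i * t0 = (r i)⁻¹ := by
        simp only [r, _root_.mul_inv_rev, rf_inv, t0]
        rw [mul_assoc, mul_assoc]
        conv_lhs => arg 2; arg 2; arg 1; rw [← rf_inv]
        rw [inv_mul_cancel, mul_one]
      rw [this]
      exact inv_mem (Subgroup.subset_closure ⟨i, rfl⟩)
    | one =>
      have e : t0⁻¹ = t0 := rf_inv _
      rw [mul_one]
      nth_rw 1 [← e]
      rw [inv_mul_cancel]
      exact one_mem _
    | mul a b _ _ ha hb =>
      have e : t0⁻¹ = t0 := rf_inv _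
      rw [show t0 * (a * b) * t0 = (t0 * a * t0) * (t0 * b * t0) by
        conv_rhs => arg 1; arg 2; rw [← e]
        group]
      exact mul_mem ha hb
    | inv a _ ha =>
      have e : t0⁻¹ = t0 := rf_inv _
      rw [show t0 * a⁻¹ * t0 = (t0 * a * t0)⁻¹ by simp [_root_.mul_inv_rev, e, mul_assoc]]
      exact inv_mem ha
  have htrans : ∀ v ∈ c.v0 :: c.order, v < 2 ^ c.n → ∃ k ∈ E, ogVal k *ᵥ dec pos c.v0 = dec pos v := by
    have key : ∀ l seen : List ℕ, orderOK c seen l = true →
        (∀ v ∈ seen, v < 2 ^ c.n → ∃ k ∈ E, ogVal k *ᵥ dec pos c.v0 = dec pos v) →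
        (∀ v ∈ seen, v < 2 ^ c.n) → (∀ v ∈ l, v < 2 ^ c.n) →
        ∀ v ∈ seen ++ l, v < 2 ^ c.n → ∃ k ∈ E, ogVal k *ᵥ dec pos c.v0 = dec pos v := by
      intro l
      induction l with
      | nil => intro seen _ h _ _ v hv; exact h v (by simpa using hv)
      | cons w l ih =>
        intro seen hok h hsn hln v hv
        simp only [orderOK, Bool.and_eq_true, List.any_eq_true, List.mem_range, Bool.or_eq_true, beq_iff_eq] at hok
        obtain ⟨⟨u, hu, i, -, hui⟩, hok⟩ := hok
        refine ih (seen ++ [w]) hok (fun x hx hxn => ?_) ?_ (fun x hx => hln x (List.mem_cons_of_mem _ hx)) v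
          (by simpa using hv)
        · rcases List.mem_append.1 hx with hx | hx
          · exact h x hx hxn
          · rw [List.mem_singleton] at hx
            subst hx
            obtain ⟨k, hk, hku⟩ := h u hu (hsn u hu)
            have hri : r i ∈ E := Subgroup.subset_closure ⟨i, rfl⟩
            rcases hui with e | e
            · exact ⟨r i * k, mul_mem hri hk, by
                rw [ogVal_mul, ← Matrix.mulVec_mulVec, hku, (r_dec i (hsn u hu)).2, e]⟩
            · refine ⟨(r i)⁻¹ * k, mul_mem (inv_mem hri) hk, ?_⟩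
              rw [ogVal_mul, ← Matrix.mulVec_mulVec, hku, ← e, ← (r_dec i hxn).2, ogVal_inv_cancel]
        · intro x hx
          rcases List.mem_append.1 hx with hx | hx
          · exact hsn x hx
          · rw [List.mem_singleton.1 hx]; exact hln w (List.mem_cons_self ..)
    intro v hv hvn
    refine key c.order [c.v0] hord (fun x hx _ => ?_) (fun x hx => by rw [List.mem_singleton.1 hx]; exact hv0)
      ?_ v hv hvn
    · rw [List.mem_singleton.1 hx]
      exact ⟨1, one_mem _, by rw [ogVal_one, Matrix.one_mulVec]⟩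
    · exact hordlt
  have hrv : ∀ w, w < 2 ^ c.n → c.q w = true → rf w * t0 ∈ E := by
    intro w hw hqw
    have := hall w hw
    rw [hqw] at this
    obtain ⟨k, hk, hkw⟩ := htrans w (by simpa using this) hw
    rw [← rf_conj k hv0 hv0q hw hkw, show k * t0 * k⁻¹ * t0 = k * (t0 * k⁻¹ * t0) by group]
    exact mul_mem hk (hnorm _ (inv_mem hk))
  have hpair : ∀ g ∈ R, g ∈ E ∨ g * t0 ∈ E := by
    have e : t0⁻¹ = t0 := rf_inv _
    have e2 : t0 * t0 = 1 := by conv_lhs => arg 1; rw [← e]
                                exact inv_mul_cancel _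
    intro g hg
    induction hg using Subgroup.closure_induction with
    | mem x hx =>
      obtain ⟨w, hw, hqw, rfl⟩ := hx
      exact Or.inr (hrv w hw hqw)
    | one => exact Or.inl (one_mem _)
    | mul a b _ _ ha hb =>
      rcases ha with ha | ha <;> rcases hb with hb | hb
      · exact Or.inl (mul_mem ha hb)
      · exact Or.inr (by rw [mul_assoc]; exact mul_mem ha hb)
      · refine Or.inr ?_
        rw [show a * b * t0 = (a * t0) * (t0 * b * t0) by simp [mul_assoc, ← mul_assoc t0 t0, e2]]
        exact mul_mem ha (hnorm _ hb)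
      · refine Or.inl ?_
        rw [show a * b = (a * t0) * (t0 * (b * t0) * t0) by simp [mul_assoc, ← mul_assoc t0 t0, e2]]
        exact mul_mem ha (hnorm _ hb)
    | inv a _ ha =>
      rcases ha with ha | ha
      · exact Or.inl (inv_mem ha)
      · refine Or.inr ?_
        have := hnorm _ (inv_mem ha)
        rwa [show t0 * (a * t0)⁻¹ * t0 = a⁻¹ * t0 by simp [_root_.mul_inv_rev, e, ← mul_assoc, e2]] at this
  have hcomm : ∀ g h : OG, ⁅g, h⁆ ∈ E := by
    have e : t0⁻¹ = t0 := rf_inv _
    have e2 : t0 * t0 = 1 := by conv_lhs => arg 1; rw [← e]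
                                exact inv_mul_cancel _
    have key : ∀ a ∈ E, t0 * a * t0 ∈ E := hnorm
    intro g h
    rcases hpair g (hR_top g) with hg | hg <;> rcases hpair h (hR_top h) with hh | hh <;> rw [commutatorElement_def]
    · exact mul_mem (mul_mem (mul_mem hg hh) (inv_mem hg)) (inv_mem hh)
    · rw [show g * h * g⁻¹ * h⁻¹ = g * (h * t0) * (t0 * g⁻¹ * t0) * (h * t0)⁻¹ by
        simp [_root_.mul_inv_rev, e, mul_assoc, ← mul_assoc t0 t0, e2]]
      exact mul_mem (mul_mem (mul_mem hg hh) (key _ (inv_mem hg))) (inv_mem hh)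
    · rw [show g * h * g⁻¹ * h⁻¹ = (g * t0) * (t0 * h * t0) * (g * t0)⁻¹ * h⁻¹ by
        simp [_root_.mul_inv_rev, e, mul_assoc, ← mul_assoc t0 t0, e2]]
      exact mul_mem (mul_mem (mul_mem hg (key _ hh)) (inv_mem hg)) (inv_mem hh)
    · rw [show g * h * g⁻¹ * h⁻¹ = (g * t0) * (t0 * (h * t0) * t0) * (t0 * (g * t0)⁻¹ * t0) * (h * t0)⁻¹ by
        simp [_root_.mul_inv_rev, e, mul_assoc, ← mul_assoc t0 t0, e2]]
      exact mul_mem (mul_mem (mul_mem hg (key _ hh)) (key _ (inv_mem hg))) (inv_mem hh)
  refine ⟨dec pos u, fun g => ?_⟩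
  have : (g : OG) ∈ L := hEL ((Subgroup.commutator_le.2 fun a _ b _ => hcomm a b) (by
    rw [← commutator_def]; exact g.2))
  obtain ⟨k, hk, hkg⟩ := this
  obtain rfl : k = g := Subtype.ext hkg
  exact hk

end Cfsg.Agent.Classical.BinCoc
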