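import Mathlib

/-! The heart of the permutation module of `S_{2n}` over the field of two elements, as a symplectic space
of dimension `2n - 2`. -/

set_option autoImplicit false

namespace Cfsg.Agent.Classical.Heart

open Finset Matrix

local notation "Z" => ZMod 2

variable (m : ℕ)

/-- Binary vectors on `2m + 2` points. -/
abbrev Wd := Fin (2 * (m + 1)) → Z
/-- The symplectic space. -/
abbrev Vs := Fin m ⊕ Fin m → Z

variable {m}

def dot (x y : Wd m) : Z := ∑ k, x k * y k

def ev (i : Fin m) : Wd m := fun k => if 2 * i.val ≤ k.val ∧ k.val ≤ 2 * i.val + 1 then 1 else 0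
def fv (i : Fin m) : Wd m := fun k => if 2 * i.val + 1 ≤ k.val ∧ k.val ≤ 2 * m then 1 else 0
def onesV : Wd m := fun _ => 1

theorem dot_add_left (x y z : Wd m) : dot (x + y) z = dot x z + dot y z := by
  simp [dot, add_mul, Finset.sum_add_distrib]

theorem dot_smul_left (c : Z) (x y : Wd m) : dot (c • x) y = c * dot x y := by
  simp [dot, Finset.mul_sum, mul_assoc]

theorem dot_comm (x y : Wd m) : dot x y = dot y x := by simp [dot, mul_comm]

theorem dot_sum_left {κ : Type} (s : Finset κ) (g : κ → Wd m) (y : Wd m) :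
    dot (∑ i ∈ s, g i) y = ∑ i ∈ s, dot (g i) y := by
  simp only [dot, Finset.sum_apply, Finset.sum_mul]
  exact Finset.sum_comm

theorem interval_sum (a b : ℕ) (hb : b < 2 * (m + 1)) :
    (∑ k : Fin (2 * (m + 1)), if a ≤ k.val ∧ k.val ≤ b then (1 : Z) else 0) = ((b + 1 - a : ℕ) : Z) := by
  rw [Fin.sum_univ_eq_sum_range fun k => if a ≤ k ∧ k ≤ b then (1 : Z) else 0, Finset.sum_boole]
  have h : (Finset.range (2 * (m + 1))).filter (fun k => a ≤ k ∧ k ≤ b) = Finset.Icc a b := by
    ext k; simp; omega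
  rw [h, Nat.card_Icc]

theorem dot_ind (a b c d : ℕ) (hb : b < 2 * (m + 1)) :
    dot (m := m) (fun k => if a ≤ k.val ∧ k.val ≤ b then 1 else 0) (fun k => if c ≤ k.val ∧ k.val ≤ d then 1 else 0) =
      ((min b d + 1 - max a c : ℕ) : Z) := by
  rw [← interval_sum (m := m) (max a c) (min b d) (by omega)]
  refine Finset.sum_congr rfl fun k _ => ?_
  simp only [ite_mul, mul_ite, one_mul, zero_mul, mul_one, mul_zero, max_le_iff, le_min_iff]
  split_ifs <;> simp_all

theorem even_cast {k : ℕ} (h : Even k) : ((k : ℕ) : Z) = 0 :=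
  (ZMod.natCast_eq_zero_iff_even).2 h

theorem dot_ee (i j : Fin m) : dot (ev i) (ev j) = 0 := by
  unfold ev
  rw [dot_ind _ _ _ _ (by omega)]
  refine even_cast ⟨if i = j then 1 else 0, ?_⟩
  split_ifs with h
  · subst h; omega
  · rw [Fin.ext_iff] at h; omega

theorem dot_ff (i j : Fin m) : dot (fv i) (fv j) = 0 := by
  unfold fv
  rw [dot_ind _ _ _ _ (by omega)]
  exact even_cast ⟨m - max i.val j.val, by omega⟩

theorem dot_ef (i j : Fin m) : dot (ev i) (fv j) = if i = j then 1 else 0 := by
  unfold ev fv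
  rw [dot_ind _ _ _ _ (by omega)]
  split_ifs with h
  · subst h
    rw [show min (2 * i.val + 1) (2 * m) + 1 - max (2 * i.val) (2 * i.val + 1) = 1 by omega, Nat.cast_one]
  · rw [Fin.ext_iff] at h
    refine even_cast ⟨if j.val < i.val then 1 else 0, ?_⟩
    split_ifs <;> omega

theorem dot_fe (i j : Fin m) : dot (fv i) (ev j) = if i = j then 1 else 0 := by
  rw [dot_comm, dot_ef]; simp [eq_comm]

/-- The coordinates of a vector. -/
def proj : Wd m →ₗ[Z] Vs m where
  toFun x := Sum.elim (fun i => dot x (fv i)) (fun i => dot x (ev i))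
  map_add' x y := by ext (i | i) <;> simp [dot_add_left]
  map_smul' c x := by ext (i | i) <;> simp [dot_smul_left]

/-- The standard lift. -/
def lift : Vs m →ₗ[Z] Wd m where
  toFun u := ∑ i, (u (.inl i) • ev i + u (.inr i) • fv i)
  map_add' u v := by
    rw [← Finset.sum_add_distrib]
    refine Finset.sum_congr rfl fun i _ => ?_
    simp only [Pi.add_apply, add_smul]; abel
  map_smul' c u := by
    rw [Finset.smul_sum]
    exact Finset.sum_congr rfl fun i _ => by simp [smul_smul, smul_add]

theorem dot_lift (u : Vs m) (y : Wd m) :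
    dot (lift u) y = ∑ i, (u (.inl i) * dot (ev i) y + u (.inr i) * dot (fv i) y) := by
  simp [lift, dot_sum_left, dot_add_left, dot_smul_left]

theorem proj_lift (u : Vs m) : proj (lift u) = u := by
  ext (i | i) <;> simp [proj, dot_lift, dot_ef, dot_fe, dot_ee, dot_ff]

theorem dot_ones_ev (i : Fin m) : dot (onesV (m := m)) (ev i) = 0 := by
  rw [show dot onesV (ev i) = ∑ k, ev i k by simp [dot, onesV]]
  unfold ev
  rw [interval_sum _ _ (by omega)]
  exact even_cast ⟨1, by omega⟩

theorem dot_ones_fv (i : Fin m) : dot (onesV (m := m)) (fv i) = 0 := by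
  rw [show dot onesV (fv i) = ∑ k, fv i k by simp [dot, onesV]]
  unfold fv
  rw [interval_sum _ _ (by omega)]
  exact even_cast ⟨m - i.val, by omega⟩

theorem proj_ones : proj (onesV (m := m)) = 0 := by
  ext (i | i) <;> simp [proj, dot_ones_ev, dot_ones_fv]

theorem lift_even (u : Vs m) : dot onesV (lift u) = 0 := by
  rw [dot_comm, dot_lift]
  simp [dot_comm (m := m) (ev _) onesV, dot_comm (m := m) (fv _) onesV, dot_ones_ev, dot_ones_fv]

theorem add_self' (a : Z) : a + a = 0 := by revert a; decide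

/-- An even vector orthogonal to all basis vectors is constant. -/
theorem const_of_proj {w : Wd m} (hw : dot onesV w = 0) (hp : proj w = 0) : ∃ c : Z, w = c • onesV := by
  have he : ∀ i : Fin m, w ⟨2 * i, by omega⟩ = w ⟨2 * i + 1, by omega⟩ := fun i => by
    have h : dot w (ev i) = 0 := congrFun hp (.inr i)
    have h2 : dot w (ev i) = w ⟨2 * i, by omega⟩ + w ⟨2 * i + 1, by omega⟩ := by
      rw [dot, Fintype.sum_eq_add ⟨2 * i, by omega⟩ ⟨2 * i + 1, by omega⟩ (by simp [Fin.ext_iff])]
      · simp [ev]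
      · rintro x ⟨h1, h2⟩
        simp only [ne_eq, Fin.ext_iff] at h1 h2
        simp [ev]
        intro h3 h4
        omega
    rw [h] at h2
    have : ∀ a b : Z, 0 = a + b → a = b := by decide
    exact this _ _ h2
  have hf : ∀ i : Fin m, w ⟨2 * i + 1, by omega⟩ = w ⟨2 * i + 2, by omega⟩ := fun i => by
    have key : ∀ i : Fin m, dot w (fv i) = 0 := fun i => congrFun hp (.inl i)
    have h2 : dot w (fun k => if 2 * i.val + 1 ≤ k.val ∧ k.val ≤ 2 * i.val + 2 then 1 else 0) =
        w ⟨2 * i + 1, by omega⟩ + w ⟨2 * i + 2, by omega⟩ := by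
      rw [dot, Fintype.sum_eq_add ⟨2 * i + 1, by omega⟩ ⟨2 * i + 2, by omega⟩ (by simp [Fin.ext_iff])]
      · simp
      · rintro x ⟨h1, h2⟩
        simp only [ne_eq, Fin.ext_iff] at h1 h2
        simp
        intro h3 h4
        omega
    have h0 : dot w (fun k => if 2 * i.val + 1 ≤ k.val ∧ k.val ≤ 2 * i.val + 2 then 1 else 0) = 0 := by
      by_cases hi : i.val + 1 < m
      · have e : (fun k : Fin (2 * (m + 1)) => if 2 * i.val + 1 ≤ k.val ∧ k.val ≤ 2 * i.val + 2 then (1 : Z) else 0) =
            fv i + fv ⟨i.val + 1, hi⟩ := by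
          funext k
          simp only [fv, Pi.add_apply]
          split_ifs <;> first | omega | simp | decide
        rw [e, dot_comm, dot_add_left, dot_comm _ w, dot_comm _ w, key, key, add_zero]
      · have e : (fun k : Fin (2 * (m + 1)) => if 2 * i.val + 1 ≤ k.val ∧ k.val ≤ 2 * i.val + 2 then (1 : Z) else 0) =
            fv i := by
          funext k
          simp only [fv]
          split_ifs <;> first | omega | rfl
        rw [e, key]
    rw [h0] at h2
    have : ∀ a b : Z, 0 = a + b → a = b := by decide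
    exact this _ _ h2
  have hall : ∀ k : ℕ, ∀ hk : k ≤ 2 * m, w ⟨k, by omega⟩ = w ⟨0, by omega⟩ := by
    intro k
    induction k with
    | zero => intro _; rfl
    | succ k ih =>
      intro hk
      rw [← ih (by omega)]
      rcases Nat.even_or_odd' k with ⟨i, rfl | rfl⟩
      · exact (he ⟨i, by omega⟩).symm
      · exact (hf ⟨i, by omega⟩).symm
  refine ⟨w ⟨0, by omega⟩, ?_⟩
  funext k
  simp only [onesV, Pi.smul_apply, smul_eq_mul, mul_one]
  by_cases hk : k.val ≤ 2 * m
  · exact hall k hk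
  · have hk' : k.val = 2 * m + 1 := by omega
    have hs : dot onesV w = w k + ∑ j ∈ Finset.univ.erase k, w ⟨0, by omega⟩ := by
      rw [dot, ← Finset.add_sum_erase _ _ (Finset.mem_univ k)]
      refine congr (congrArg _ (by simp [onesV])) (Finset.sum_congr rfl fun j hj => ?_)
      have : j.val ≠ k.val := fun h => (Finset.mem_erase.1 hj).1 (Fin.ext h)
      simpa [onesV] using hall j (by omega)
    rw [hw, Finset.sum_const, Finset.card_erase_of_mem (Finset.mem_univ k), Finset.card_univ, Fintype.card_fin,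
      nsmul_eq_mul, show 2 * (m + 1) - 1 = 2 * m + 1 by omega] at hs
    have : ((2 * m + 1 : ℕ) : Z) = 1 := by
      rw [Nat.cast_add, even_cast ⟨m, by omega⟩, zero_add, Nat.cast_one]
    rw [this, one_mul] at hs
    have : ∀ a b : Z, 0 = a + b → a = b := by decide
    exact this _ _ hs

theorem lift_proj {w : Wd m} (hw : dot onesV w = 0) : ∃ c : Z, lift (proj w) = w + c • onesV := by
  obtain ⟨c, hc⟩ := const_of_proj (w := lift (proj w) + w)
    (by rw [dot_comm, dot_add_left, dot_comm _ onesV, dot_comm _ onesV, lift_even, hw, add_zero])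
    (by rw [map_add, proj_lift]; ext x; exact add_self' _)
  refine ⟨c, funext fun k => ?_⟩
  have h := congrFun hc k
  simp only [Pi.add_apply] at h ⊢
  have h2 : ∀ a b d : Z, a + b = d → a = b + d := by decide
  exact h2 _ _ _ h

/-- The action of a permutation on coordinates. -/
def permW (σ : Equiv.Perm (Fin (2 * (m + 1)))) : Wd m →ₗ[Z] Wd m :=
  LinearMap.funLeft Z Z σ.symm

theorem permW_apply (σ : Equiv.Perm (Fin (2 * (m + 1)))) (x : Wd m) (k) : permW σ x k = x (σ.symm k) := rfl

theorem dot_perm (σ : Equiv.Perm (Fin (2 * (m + 1)))) (x y : Wd m) : dot (permW σ x) (permW σ y) = dot x y :=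
  Equiv.sum_comp σ.symm fun k => x k * y k

theorem perm_ones (σ : Equiv.Perm (Fin (2 * (m + 1)))) : permW σ (onesV (m := m)) = onesV := rfl

theorem perm_even (σ : Equiv.Perm (Fin (2 * (m + 1)))) (u : Vs m) : dot onesV (permW σ (lift u)) = 0 := by
  rw [← perm_ones σ, dot_perm, lift_even]

/-- The induced linear map on the heart. -/
def act (σ : Equiv.Perm (Fin (2 * (m + 1)))) : Vs m →ₗ[Z] Vs m := proj ∘ₗ permW σ ∘ₗ lift

theorem act_proj (σ : Equiv.Perm (Fin (2 * (m + 1)))) {w : Wd m} (hw : dot onesV w = 0) :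
    act σ (proj w) = proj (permW σ w) := by
  obtain ⟨c, hc⟩ := lift_proj hw
  show proj (permW σ (lift (proj w))) = _
  rw [hc, map_add, map_smul, perm_ones, map_add, map_smul, proj_ones, smul_zero, add_zero]

theorem act_mul (σ τ : Equiv.Perm (Fin (2 * (m + 1)))) : act σ ∘ₗ act τ = act (σ * τ) := by
  refine LinearMap.ext fun u => ?_
  show act σ (proj (permW τ (lift u))) = _
  rw [act_proj σ (perm_even τ u)]
  rfl

theorem act_one : act (1 : Equiv.Perm (Fin (2 * (m + 1)))) = LinearMap.id := by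
  refine LinearMap.ext fun u => ?_
  exact proj_lift u

/-- The alternating form as a dot product. -/
theorem dot_lifts (u v : Vs m) :
    dot (lift u) (lift v) = ∑ i, (u (.inl i) * v (.inr i) + u (.inr i) * v (.inl i)) := by
  rw [dot_lift]
  refine Finset.sum_congr rfl fun i _ => ?_
  rw [dot_comm (ev i), dot_comm (fv i), dot_lift, dot_lift]
  simp [dot_ef, dot_fe, dot_ee, dot_ff]

theorem dot_act (σ : Equiv.Perm (Fin (2 * (m + 1)))) (u v : Vs m) :
    dot (lift (act σ u)) (lift (act σ v)) = dot (lift u) (lift v) := by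
  obtain ⟨c, hc⟩ := lift_proj (perm_even σ u)
  obtain ⟨d, hd⟩ := lift_proj (perm_even σ v)
  show dot (lift (proj (permW σ (lift u)))) (lift (proj (permW σ (lift v)))) = _
  rw [hc, hd, dot_add_left, dot_smul_left, dot_comm _ (permW σ (lift v) + _), dot_comm onesV, dot_add_left,
    dot_add_left, dot_smul_left, dot_smul_left, dot_comm _ onesV, perm_even, dot_comm (permW σ (lift v)),
    dot_perm]
  simp only [perm_even]
  have h1 : dot (onesV (m := m)) onesV = 0 := by
    simp only [dot, onesV, mul_one, Finset.sum_const, Finset.card_univ, Fintype.card_fin, nsmul_eq_mul]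
    exact even_cast ⟨m + 1, by omega⟩
  rw [h1]; ring

theorem J_form (u v : Vs m) : u ⬝ᵥ (Matrix.J (Fin m) Z *ᵥ v) = dot (lift u) (lift v) := by
  rw [dot_lifts, dotProduct, Fintype.sum_sum_type, ← Finset.sum_add_distrib]
  refine Finset.sum_congr rfl fun i _ => ?_
  simp [Matrix.J, Matrix.mulVec, dotProduct, Fintype.sum_sum_type, Matrix.one_apply]

theorem mem_symplectic {M : Matrix (Fin m ⊕ Fin m) (Fin m ⊕ Fin m) Z}
    (h : ∀ u v, (M *ᵥ u) ⬝ᵥ (Matrix.J (Fin m) Z *ᵥ (M *ᵥ v)) = u ⬝ᵥ (Matrix.J (Fin m) Z *ᵥ v)) :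
    M ∈ Matrix.symplecticGroup (Fin m) Z := by
  have e : Mᵀ * Matrix.J (Fin m) Z * M = Matrix.J (Fin m) Z := by
    ext i j
    have h' := h (Pi.single i 1) (Pi.single j 1)
    rw [single_one_dotProduct, Matrix.mulVec_mulVec, ← Matrix.vecMul_transpose, ← Matrix.dotProduct_mulVec,
      single_one_dotProduct, Matrix.mulVec_mulVec, Matrix.mulVec_single_one, Matrix.mulVec_single_one,
      ← mul_assoc] at h'
    exact h'
  rw [SymplecticGroup.mem_iff']
  exact e

/-- The permutation representation on the heart. -/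
noncomputable def hom (m : ℕ) : Equiv.Perm (Fin (2 * (m + 1))) →* Matrix.symplecticGroup (Fin m) Z where
  toFun σ := ⟨LinearMap.toMatrix' (act σ), mem_symplectic fun u v => by
    simp only [LinearMap.toMatrix'_mulVec, J_form, dot_act]⟩
  map_one' := Subtype.ext ((congrArg LinearMap.toMatrix' act_one).trans LinearMap.toMatrix'_id)
  map_mul' σ τ := Subtype.ext ((congrArg LinearMap.toMatrix' (act_mul σ τ).symm).trans
    (LinearMap.toMatrix'_comp (act σ) (act τ)))

theorem hom_apply (σ : Equiv.Perm (Fin (2 * (m + 1)))) (u : Vs m) :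
    ((hom m σ : Matrix (Fin m ⊕ Fin m) (Fin m ⊕ Fin m) Z)) *ᵥ u = act σ u :=
  LinearMap.toMatrix'_mulVec _ _

/-- The weight two vector on two points. -/
def pairV (i j : Fin (2 * (m + 1))) : Wd m := Pi.single i 1 + Pi.single j 1

theorem pair_even (i j : Fin (2 * (m + 1))) : dot onesV (pairV i j) = 0 := by
  simp [dot, onesV, pairV, Finset.sum_add_distrib, Pi.single_apply, add_self']

theorem hom_injective (hm : 2 ≤ m) : Function.Injective (hom m) := by
  rw [injective_iff_map_eq_one]
  intro σ hσ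
  refine Equiv.ext fun x => by_contra fun hx => ?_
  obtain ⟨z, hzx, hzs, hzy⟩ : ∃ z, z ≠ x ∧ z ≠ σ x ∧ σ z ≠ x := by
    have h3 : ({x, σ x, σ.symm x} : Finset _).card < (Finset.univ : Finset (Fin (2 * (m + 1)))).card := by
      refine lt_of_le_of_lt Finset.card_le_three ?_
      rw [Finset.card_univ, Fintype.card_fin]; omega
    obtain ⟨z, -, hz⟩ := Finset.exists_mem_notMem_of_card_lt_card h3
    simp only [Finset.mem_insert, Finset.mem_singleton, not_or] at hz
    exact ⟨z, hz.1, hz.2.1, fun h => hz.2.2 (by rw [← h, Equiv.symm_apply_apply])⟩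
  have h0 : proj (permW σ (pairV x z) + pairV x z) = 0 := by
    rw [map_add, ← act_proj σ (pair_even x z), ← hom_apply, hσ]
    show (1 : Matrix _ _ Z) *ᵥ _ + _ = _
    rw [Matrix.one_mulVec]
    ext a; exact add_self' _
  obtain ⟨c, hc⟩ := const_of_proj (by
    rw [dot_comm, dot_add_left, dot_comm _ onesV, dot_comm _ onesV, ← perm_ones σ, dot_perm, perm_ones, pair_even,
      add_zero]) h0
  have hpx : permW σ (pairV x z) x = 0 := by
    simp only [permW_apply, pairV, Pi.add_apply]
    have e1 : σ.symm x ≠ x := fun h => hx ((Equiv.symm_apply_eq σ).1 h).symm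
    have e2 : σ.symm x ≠ z := fun h => hzy ((Equiv.symm_apply_eq σ).1 h).symm
    rw [Pi.single_eq_of_ne e1, Pi.single_eq_of_ne e2, add_zero]
  have hcx := congrFun hc x
  have h1 : pairV x z x = 1 := by
    simp [pairV, Pi.single_eq_of_ne (Ne.symm hzx)]
  rw [Pi.add_apply, hpx, h1, Pi.smul_apply, zero_add] at hcx
  obtain ⟨w, hw1, hw2, hw3, hw4⟩ : ∃ w, w ≠ x ∧ w ≠ z ∧ w ≠ σ x ∧ w ≠ σ z := by
    have h4 : ({x, z, σ x, σ z} : Finset _).card < (Finset.univ : Finset (Fin (2 * (m + 1)))).card := by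
      refine lt_of_le_of_lt Finset.card_le_four ?_
      rw [Finset.card_univ, Fintype.card_fin]; omega
    obtain ⟨w, -, hw⟩ := Finset.exists_mem_notMem_of_card_lt_card h4
    simp only [Finset.mem_insert, Finset.mem_singleton, not_or] at hw
    exact ⟨w, hw.1, hw.2.1, hw.2.2.1, hw.2.2.2⟩
  have hcw := congrFun hc w
  simp only [Pi.add_apply, permW_apply, pairV, Pi.smul_apply] at hcw
  rw [Pi.single_eq_of_ne hw1, Pi.single_eq_of_ne hw2,
    Pi.single_eq_of_ne (fun h => hw3 ((Equiv.symm_apply_eq σ).1 h)),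
    Pi.single_eq_of_ne (fun h => hw4 ((Equiv.symm_apply_eq σ).1 h))] at hcw
  simp only [onesV, smul_eq_mul, mul_one, add_zero] at hcx hcw
  exact absurd (hcw.trans hcx.symm) (by decide)

end Cfsg.Agent.Classical.Heart
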