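import Cfsg.Prelude.Def_Involutions
import Cfsg.Agent.Lib.Classical.BinaryAction

/-!
# Binary coset actions and commuting involutions

If all involutions of a finite group are conjugate and a coset action with point stabilisers of even
order is binary, then commuting involutions fix the same points; in a simple group the setwise
stabiliser of such a set of points is strongly embedded.
-/

set_option autoImplicit false
set_option linter.unusedSectionVars false

namespace Cfsg.Agent.BinInvol

open MulAction BinAct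
open scoped Pointwise

/-- The fixed points of an involutive map have the parity of the whole. -/
theorem parity {α : Type*} [Finite α] (σ : α → α) (hσ : Function.Involutive σ) :
    Even (Nat.card α) ↔ Even (Nat.card {a // σ a = a}) := by
  classical
  haveI := Fintype.ofFinite α
  haveI : Fact (Nat.Prime 2) := ⟨Nat.prime_two⟩
  have h1 : (show Function.End α from σ) ^ 2 ^ 1 = 1 := funext fun a => hσ a
  have h2 := Equiv.Perm.card_fixedPoints_modEq h1
  have h3 : Nat.card {a // σ a = a} = Fintype.card (Function.fixedPoints (show Function.End α from σ)) := by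
    rw [← Nat.card_eq_fintype_card]
    rfl
  rw [Nat.even_iff, Nat.even_iff, h3, Nat.card_eq_fintype_card]
  exact iff_of_eq (by rw [show Fintype.card α % 2 = _ from h2])

theorem exists_fixed {α : Type*} [Finite α] (σ : α → α) (hσ : Function.Involutive σ) (h : ¬ Even (Nat.card α)) :
    ∃ a, σ a = a := by
  rw [parity σ hσ] at h
  have : Nat.card {a // σ a = a} ≠ 0 := fun h0 => h (h0 ▸ Even.zero)
  obtain ⟨⟨a, ha⟩⟩ := (Nat.card_ne_zero.1 this).1
  exact ⟨a, ha⟩

variable {G : Type*} [Group G]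

theorem conj_invol {x : G} (hx : x * x = 1) (g : G) : x * (x * g * x) * x = g := by
  calc x * (x * g * x) * x = (x * x) * g * (x * x) := by group
    _ = g := by rw [hx, one_mul, mul_one]

/-- The number of involutions of a group of even order is odd. -/
theorem odd_invol [Finite G] (D : Subgroup G) (he : Even (Nat.card D)) :
    ¬ Even (Nat.card {a : D // a * a = 1 ∧ a ≠ 1}) := by
  classical
  haveI := Fintype.ofFinite G
  have h := (parity (fun a : D => a⁻¹) inv_involutive).1 he
  have e1 : Nat.card {a : D // a⁻¹ = a} = Nat.card {a : D // a * a = 1} :=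
    Nat.card_congr (Equiv.subtypeEquivRight fun a => by rw [inv_eq_iff_mul_eq_one])
  rw [e1, Nat.card_eq_fintype_card, Fintype.card_subtype] at h
  rw [Nat.card_eq_fintype_card, Fintype.card_subtype]
  have h1 : (1 : D) ∈ Finset.univ.filter fun a : D => a * a = 1 := by simp
  have e2 : (Finset.univ.filter fun a : D => a * a = 1 ∧ a ≠ 1) =
      (Finset.univ.filter fun a : D => a * a = 1).erase 1 := by
    ext a; simp [and_comm]
  rw [e2]
  rw [← Finset.card_erase_add_one h1] at h
  intro h'
  exact Nat.not_even_iff_odd.2 h'.add_one h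

/-- A subgroup of even order normalised by two commuting involutions has an involution commuting with both. -/
theorem exists_invol_commute [Finite G] (D : Subgroup G) (he : Even (Nat.card D)) {x y : G} (hx : x * x = 1)
    (hy : y * y = 1) (hc : Commute x y) (hxD : ∀ d ∈ D, x * d * x ∈ D) (hyD : ∀ d ∈ D, y * d * y ∈ D) :
    ∃ w ∈ D, w * w = 1 ∧ w ≠ 1 ∧ Commute x w ∧ Commute y w := by
  have key : ∀ {v : G}, v * v = 1 → ∀ {a : G}, a * a = 1 ∧ a ≠ 1 → (v * a * v) * (v * a * v) = 1 ∧ v * a * v ≠ 1 := by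
    rintro v hv a ⟨ha, ha1⟩
    refine ⟨?_, fun h => ha1 ?_⟩
    · calc (v * a * v) * (v * a * v) = v * a * (v * v) * a * v := by group
        _ = v * (a * a) * v := by rw [hv]; group
        _ = 1 := by rw [ha, mul_one, hv]
    · rw [← conj_invol hv a, h, mul_one, hv]
  let A := {a : G // a ∈ D ∧ a * a = 1 ∧ a ≠ 1}
  have hA : ¬ Even (Nat.card A) := by
    have e : Nat.card A = Nat.card {a : D // a * a = 1 ∧ a ≠ 1} := Nat.card_congr
      { toFun := fun a => ⟨⟨a.1, a.2.1⟩, Subtype.ext a.2.2.1, fun h => a.2.2.2 (congrArg Subtype.val h)⟩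
        invFun := fun a => ⟨a.1.1, a.1.2, congrArg Subtype.val a.2.1, fun h => a.2.2 (Subtype.ext h)⟩
        left_inv := fun a => rfl
        right_inv := fun a => rfl }
    rw [e]
    exact odd_invol D he
  let σ : A → A := fun a => ⟨x * a.1 * x, hxD _ a.2.1, key hx a.2.2⟩
  have hσ : Function.Involutive σ := fun a => Subtype.ext (conj_invol hx a.1)
  rw [parity σ hσ] at hA
  let τ : {a // σ a = a} → {a // σ a = a} := fun a => ⟨⟨y * a.1.1 * y, hyD _ a.1.2.1, key hy a.1.2.2⟩, by
    refine Subtype.ext ?_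
    show x * (y * a.1.1 * y) * x = y * a.1.1 * y
    have h1 : x * a.1.1 * x = a.1.1 := congrArg Subtype.val a.2
    calc x * (y * a.1.1 * y) * x = (x * y) * a.1.1 * (y * x) := by group
      _ = (y * x) * a.1.1 * (x * y) := by rw [hc.eq]
      _ = y * (x * a.1.1 * x) * y := by group
      _ = _ := by rw [h1]⟩
  obtain ⟨a, ha⟩ := exists_fixed τ (fun a => Subtype.ext (Subtype.ext (conj_invol hy a.1.1))) hA
  have h1 : x * a.1.1 * x = a.1.1 := congrArg Subtype.val a.2
  have h2 : y * a.1.1 * y = a.1.1 := congrArg (fun b : {a // σ a = a} => b.1.1) ha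
  refine ⟨a.1.1, a.1.2.1, a.1.2.2.1, a.1.2.2.2, ?_, ?_⟩
  · calc x * a.1.1 = x * a.1.1 * (x * x) := by rw [hx, mul_one]
      _ = (x * a.1.1 * x) * x := by group
      _ = a.1.1 * x := by rw [h1]
  · calc y * a.1.1 = y * a.1.1 * (y * y) := by rw [hy, mul_one]
      _ = (y * a.1.1 * y) * y := by group
      _ = a.1.1 * y := by rw [h2]

variable {H : Subgroup G}

/-- Binarity for tuples with an arbitrary finite index type. -/
theorem isBin_tuple (hb : IsBin H) {ι : Type*} [Finite ι] (I J : ι → G ⧸ H)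
    (hp : ∀ i j, ∃ g : G, g • I i = J i ∧ g • I j = J j) : ∃ g : G, ∀ i, g • I i = J i := by
  classical
  rcases isEmpty_or_nonempty ι with hι | hι
  · exact ⟨1, fun i => (IsEmpty.false i).elim⟩
  obtain ⟨m, ⟨e⟩⟩ := Finite.exists_equiv_fin ι
  let f : Fin (m + 2) → ι := fun k => if h : (k : ℕ) < m then e.symm ⟨k, h⟩ else Classical.arbitrary ι
  obtain ⟨g, hg⟩ := hb (m + 2) (I ∘ f) (J ∘ f) (by omega) fun i j _ => hp (f i) (f j)
  refine ⟨g, fun i => ?_⟩
  have h1 := hg ⟨(e i : ℕ), by omega⟩
  have h2 : f ⟨(e i : ℕ), by omega⟩ = i := by simp [f]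
  simp only [Function.comp_apply, h2] at h1
  exact h1

/-- The points fixed by an element. -/
def fx (H : Subgroup G) (t : G) : Set (G ⧸ H) := {c | t • c = c}

theorem fx_conj (t g : G) : fx H (g * t * g⁻¹) = g • fx H t := by
  ext c
  rw [Set.mem_smul_set_iff_inv_smul_mem]
  simp only [fx, Set.mem_ofPred_eq, mul_smul]
  exact ⟨fun h => (smul_left_cancel_iff g).1 (h.trans (smul_inv_smul g c).symm),
    fun h => by rw [h, smul_inv_smul]⟩

theorem card_fx_conj [Finite G] {s t : G} (hst : IsConj s t) : (fx H s).ncard = (fx H t).ncard := by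
  obtain ⟨g, rfl⟩ := isConj_iff.1 hst
  rw [fx_conj]
  exact (Set.ncard_image_of_injective _ (MulAction.injective g)).symm

theorem invol_iff {t : G} : orderOf t = 2 ↔ t * t = 1 ∧ t ≠ 1 := by
  haveI : Fact (Nat.Prime 2) := ⟨Nat.prime_two⟩
  refine ⟨fun h => ⟨?_, fun e => ?_⟩, fun h => orderOf_eq_prime (by rw [sq, h.1]) h.2⟩
  · rw [← sq, ← h, pow_orderOf_eq_one]
  · rw [e, orderOf_one] at h
    omega

variable (hone : ∀ s t : G, orderOf s = 2 → orderOf t = 2 → IsConj s t)
include hone

/-- An involution fixing the fixed points of another one has the same fixed points. -/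
theorem fx_eq_of_fixing [Finite G] {t w : G} (ht : orderOf t = 2) (hw : orderOf w = 2)
    (h : w ∈ fixingSubgroup G (fx H t)) : fx H w = fx H t :=
  (Set.eq_of_subset_of_ncard_le (fun c hc => (mem_fixingSubgroup_iff G).1 h c hc) (card_fx_conj (hone _ _ hw ht)).le
    (Set.toFinite _)).symm

/-- Commuting involutions have the same fixed points. -/
theorem fx_eq_of_commute [Finite G] (hb : IsBin H) {x y : G} (hx : orderOf x = 2) (hy : orderOf y = 2)
    (hc : Commute x y) : fx H x = fx H y := by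
  by_cases hxy : x = y
  · rw [hxy]
  obtain ⟨hx2, hx1⟩ := invol_iff.1 hx
  obtain ⟨hy2, hy1⟩ := invol_iff.1 hy
  have hz : orderOf (x * y) = 2 := invol_iff.2 ⟨by
    calc x * y * (x * y) = x * (y * x) * y := by group
      _ = (x * x) * (y * y) := by rw [← hc.eq]; group
      _ = 1 := by rw [hx2, hy2, one_mul],
    fun h => hxy ((mul_eq_one_iff_eq_inv.1 h).trans (inv_eq_of_mul_eq_one_right hy2))⟩
  classical
  -- the twisted tuple
  let S : Set (G ⧸ H) := fx H x ∪ fx H y ∪ fx H (x * y)
  have hzy : ∀ c ∈ fx H y, (x * y) • c = x • c := fun c hc' => by rw [mul_smul, show y • c = c from hc']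
  obtain ⟨g, hg⟩ := isBin_tuple hb (fun c : S => (c : G ⧸ H))
    (fun c : S => if (c : G ⧸ H) ∈ fx H y then x • (c : G ⧸ H) else c) (by
    rintro ⟨c, hc'⟩ ⟨d, hd'⟩
    by_cases h1 : c ∈ fx H y <;> by_cases h2 : d ∈ fx H y <;> simp only [h1, h2, if_true, if_false]
    · exact ⟨x, rfl, rfl⟩
    · rcases hd' with (h | h) | h
      · exact ⟨x, rfl, h⟩
      · exact absurd h h2
      · exact ⟨x * y, hzy c h1, h⟩
    · rcases hc' with (h | h) | h
      · exact ⟨x, h, rfl⟩
      · exact absurd h h1
      · exact ⟨x * y, h, hzy d h2⟩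
    · exact ⟨1, one_smul _ _, one_smul _ _⟩)
  have gy : ∀ c ∈ fx H y, g • c = x • c := fun c hc' => by
    have := hg ⟨c, Or.inl (Or.inr hc')⟩
    simpa [hc'] using this
  have gx : ∀ c ∈ fx H x, g • c = c := fun c hc' => by
    have := hg ⟨c, Or.inl (Or.inl hc')⟩
    by_cases h1 : c ∈ fx H y
    · simp only [h1, if_true] at this
      rw [this, show x • c = c from hc']
    · simpa [h1] using this
  have gz : ∀ c ∈ fx H (x * y), g • c = c := fun c hc' => by
    have := hg ⟨c, Or.inr hc'⟩
    by_cases h1 : c ∈ fx H y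
    · simp only [h1, if_true] at this
      rw [this, ← hzy c h1, show (x * y) • c = c from hc']
    · simpa [h1] using this
  let D₁ := fixingSubgroup G (fx H x ∪ fx H (x * y))
  let D₂ := fixingSubgroup G (fx H x ∪ fx H y)
  have g1 : g ∈ D₁ := (mem_fixingSubgroup_iff G).2 fun c hc' => hc'.elim (gx c) (gz c)
  have g2 : g⁻¹ * x ∈ D₂ := (mem_fixingSubgroup_iff G).2 fun c hc' => by
    rw [mul_smul, inv_smul_eq_iff]
    rcases hc' with h | h
    · rw [show x • c = c from h, gx c h]
    · exact (gy c h).symm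
  -- both involutions normalise the two subgroups
  have hnorm : ∀ v : G, v * v = 1 → Commute v x → Commute v y → ∀ A : Set (G ⧸ H),
      (A = fx H x ∪ fx H (x * y) ∨ A = fx H x ∪ fx H y) → ∀ d ∈ fixingSubgroup G A, v * d * v ∈ fixingSubgroup G A := by
    intro v hv2 hvx hvy A hA d hd
    have hmove : ∀ t : G, Commute v t → ∀ c ∈ fx H t, v • c ∈ fx H t := fun t ht c hc' => by
      show t • v • c = v • c
      rw [← mul_smul, ← ht.eq, mul_smul, show t • c = c from hc']
    have hA' : ∀ c ∈ A, v • c ∈ A := by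
      intro c hc'
      rcases hA with rfl | rfl <;> rcases hc' with h | h
      · exact Or.inl (hmove x hvx c h)
      · exact Or.inr (hmove _ (hvx.mul_right hvy) c h)
      · exact Or.inl (hmove x hvx c h)
      · exact Or.inr (hmove y hvy c h)
    refine (mem_fixingSubgroup_iff G).2 fun c hc' => ?_
    rw [mul_smul, mul_smul, (mem_fixingSubgroup_iff G).1 hd _ (hA' c hc'), ← mul_smul, hv2, one_smul]
  have heven : Even (Nat.card D₁) ∨ Even (Nat.card D₂) := by
    by_contra hodd
    push Not at hodd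
    obtain ⟨h1, h2⟩ := hodd
    let C := {c : G // c ∈ D₁ ∧ c⁻¹ * x ∈ D₂}
    have hCc : ¬ Even (Nat.card C) := by
      have hE : Odd (Nat.card ↥(D₁ ⊓ D₂)) :=
        (Nat.not_even_iff_odd.1 h1).of_dvd_nat (Subgroup.card_dvd_of_le inf_le_left)
      have e : Nat.card C = Nat.card ↥(D₁ ⊓ D₂) := Nat.card_congr
        { toFun := fun c => ⟨g⁻¹ * c.1, Subgroup.mem_inf.2 ⟨mul_mem (inv_mem g1) c.2.1, by
            rw [show g⁻¹ * c.1 = (g⁻¹ * x) * (c.1⁻¹ * x)⁻¹ by group]
            exact mul_mem g2 (inv_mem c.2.2)⟩⟩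
          invFun := fun d => ⟨g * d.1, mul_mem g1 (Subgroup.mem_inf.1 d.2).1, by
            rw [show (g * d.1)⁻¹ * x = d.1⁻¹ * (g⁻¹ * x) by group]
            exact mul_mem (inv_mem (Subgroup.mem_inf.1 d.2).2) g2⟩
          left_inv := fun c => Subtype.ext (by simp)
          right_inv := fun d => Subtype.ext (by simp) }
      rw [e]
      exact Nat.not_even_iff_odd.2 hE
    obtain ⟨⟨f, hf1, hf2⟩, hff⟩ := exists_fixed (fun c : C => (⟨x * c.1 * x,
        hnorm x hx2 (Commute.refl x) hc _ (Or.inl rfl) _ c.2.1, by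
          rw [show (x * c.1 * x)⁻¹ * x = x⁻¹ * (c.1⁻¹ * x⁻¹) * x by group, inv_eq_of_mul_eq_one_right hx2]
          exact hnorm x hx2 (Commute.refl x) hc _ (Or.inr rfl) _ c.2.2⟩ : C))
      (fun c => Subtype.ext (conj_invol hx2 c.1)) hCc
    have hfx : x * f * x = f := congrArg Subtype.val hff
    have hcm : Commute f x := by
      calc f * x = (x * f * x) * x := by rw [hfx]
        _ = x * f * (x * x) := by group
        _ = x * f := by rw [hx2, mul_one]
    have ho : Odd (orderOf (f⁻¹ * x)) :=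
      (Nat.not_even_iff_odd.1 h2).of_dvd_nat (Subgroup.orderOf_dvd_natCard _ hf2)
    have ho' : Odd (orderOf f) :=
      (Nat.not_even_iff_odd.1 h1).of_dvd_nat (Subgroup.orderOf_dvd_natCard _ hf1)
    have hd : orderOf x ∣ Nat.lcm (orderOf f) (orderOf (f⁻¹ * x)) := by
      have := (((Commute.refl f).inv_right).mul_right hcm).orderOf_mul_dvd_lcm
      rwa [mul_inv_cancel_left] at this
    rw [hx] at hd
    exact Nat.not_even_iff_odd.2 (ho'.mul ho) (even_iff_two_dvd.2 (hd.trans (Nat.lcm_dvd_mul _ _)))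
  have hsub : ∀ {A : Set (G ⧸ H)} {t w : G}, fx H t ⊆ A → w ∈ fixingSubgroup G A →
      w ∈ fixingSubgroup G (fx H t) := fun hA hw =>
    (mem_fixingSubgroup_iff G).2 fun c hc' => (mem_fixingSubgroup_iff G).1 hw c (hA hc')
  rcases heven with he | he
  · obtain ⟨w, hw, hw2, hw1, -, -⟩ := exists_invol_commute D₁ he hx2 hy2 hc
      (hnorm x hx2 (Commute.refl x) hc _ (Or.inl rfl)) (hnorm y hy2 hc.symm (Commute.refl y) _ (Or.inl rfl))
    have hwo := invol_iff.2 ⟨hw2, hw1⟩
    have e1 := fx_eq_of_fixing hone hx hwo (hsub (Set.subset_union_left) hw)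
    have e2 := fx_eq_of_fixing hone hz hwo (hsub (Set.subset_union_right) hw)
    have e3 : fx H x ⊆ fx H y := fun c hc' => by
      have hcz : (x * y) • c = c := by
        have : c ∈ fx H (x * y) := by rw [← e2, e1]; exact hc'
        exact this
      rw [mul_smul, smul_eq_iff_eq_inv_smul, inv_eq_of_mul_eq_one_right hx2, show x • c = c from hc'] at hcz
      exact hcz
    exact Set.eq_of_subset_of_ncard_le e3 (card_fx_conj (hone _ _ hy hx)).le (Set.toFinite _)
  · obtain ⟨w, hw, hw2, hw1, -, -⟩ := exists_invol_commute D₂ he hx2 hy2 hc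
      (hnorm x hx2 (Commute.refl x) hc _ (Or.inr rfl)) (hnorm y hy2 hc.symm (Commute.refl y) _ (Or.inr rfl))
    have hwo := invol_iff.2 ⟨hw2, hw1⟩
    exact (fx_eq_of_fixing hone hx hwo (hsub (Set.subset_union_left) hw)).symm.trans
      (fx_eq_of_fixing hone hy hwo (hsub (Set.subset_union_right) hw))

/-- The point stabilisers are closed under commuting involutions. -/
theorem mem_of_commute [Finite G] (hb : IsBin H) {x y : G} (hx : orderOf x = 2) (hy : orderOf y = 2)
    (hc : Commute x y) (hxH : x ∈ H) : y ∈ H := by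
  have h1 : (QuotientGroup.mk 1 : G ⧸ H) ∈ fx H x := smul_mk_self_iff.2 (by rw [mem_stab]; simpa using hxH)
  rw [fx_eq_of_commute hone hb hx hy hc] at h1
  simpa using mem_stab.1 (smul_mk_self_iff.1 h1)

/-- In a simple group the setwise stabiliser of the fixed points of an involution is strongly embedded. -/
theorem exists_stronglyEmbedded [Finite G] [IsSimpleGroup G] (hb : IsBin H) (hH : H ≠ ⊤)
    (he : Even (Nat.card H)) : ∃ M : Subgroup G, Cfsg.IsStronglyEmbedded M := by
  haveI : Fact (Nat.Prime 2) := ⟨Nat.prime_two⟩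
  obtain ⟨t, ht⟩ := exists_prime_orderOf_dvd_card' (G := H) 2 (even_iff_two_dvd.1 he)
  have htG : orderOf (t : G) = 2 := by rw [Subgroup.orderOf_coe]; exact ht
  obtain ⟨ht2, ht1⟩ := invol_iff.1 htG
  have h1 : (QuotientGroup.mk 1 : G ⧸ H) ∈ fx H (t : G) :=
    smul_mk_self_iff.2 (by rw [mem_stab]; simp)
  let M := stabilizer G (fx H (t : G))
  have hM : ∀ u ∈ M, orderOf u = 2 → fx H u = fx H (t : G) := by
    intro u hu huo
    obtain ⟨hu2, -⟩ := invol_iff.1 huo
    let D := fixingSubgroup G (fx H (t : G))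
    have htD : (t : G) ∈ D := (mem_fixingSubgroup_iff G).2 fun c hc => hc
    have hDe : Even (Nat.card D) := even_iff_two_dvd.2 (htG ▸ Subgroup.orderOf_dvd_natCard D htD)
    have huD : ∀ d ∈ D, u * d * u ∈ D := fun d hd => (mem_fixingSubgroup_iff G).2 fun c hc => by
      have hc' : u • c ∈ fx H (t : G) := by
        have := Set.smul_mem_smul_set (a := u) hc
        rwa [mem_stabilizer_iff.1 hu] at this
      rw [mul_smul, mul_smul, (mem_fixingSubgroup_iff G).1 hd _ hc', ← mul_smul, hu2, one_smul]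
    obtain ⟨w, hw, hw2, hw1, hcw, -⟩ := exists_invol_commute D hDe hu2 hu2 (Commute.refl u) huD huD
    have hwo := invol_iff.2 ⟨hw2, hw1⟩
    rw [fx_eq_of_commute hone hb huo hwo hcw]
    exact fx_eq_of_fixing hone htG hwo hw
  refine ⟨M, fun htop => hH (eq_top_iff.2 fun g _ => ?_), ?_, fun g hg => ?_⟩
  · have hN : Subgroup.normalClosure {(t : G)} = ⊤ :=
      (Subgroup.normalClosure_normal (s := {(t : G)})).eq_bot_or_eq_top.resolve_left fun h => ht1
        (Subgroup.mem_bot.1 (h ▸ Subgroup.subset_normalClosure (Set.mem_singleton _)))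
    have hle : Subgroup.normalClosure {(t : G)} ≤ H := (Subgroup.closure_le _).2 fun a ha => by
      obtain ⟨s, hs, hsa⟩ := Group.mem_conjugatesOfSet_iff.1 ha
      rw [Set.mem_singleton_iff] at hs
      subst hs
      obtain ⟨c, rfl⟩ := isConj_iff.1 hsa
      have hmem : (c * (t : G) * c⁻¹) ∈ stabilizer G (QuotientGroup.mk 1 : G ⧸ H) := by
        show (QuotientGroup.mk 1 : G ⧸ H) ∈ fx H (c * (t : G) * c⁻¹)
        rw [fx_conj, mem_stabilizer_iff.1 (show c ∈ M by rw [htop]; trivial)]
        exact h1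
      simpa using mem_stab.1 (smul_mk_self_iff.1 hmem)
    exact hle (hN ▸ Subgroup.mem_top g)
  · refine even_iff_two_dvd.2 (htG ▸ Subgroup.orderOf_dvd_natCard M ?_)
    rw [mem_stabilizer_iff, ← fx_conj, mul_assoc, mul_inv_cancel, mul_one]
  · by_contra hev
    obtain ⟨⟨u, hu⟩, huo⟩ := exists_prime_orderOf_dvd_card' (G := ↥(M ⊓ M.map (MulAut.conj g).toMonoidHom)) 2
      (even_iff_two_dvd.1 (Nat.not_odd_iff_even.1 hev))
    rw [Subgroup.orderOf_mk] at huo
    obtain ⟨hu1, v, hv, hvu⟩ := Subgroup.mem_inf.1 hu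
    have hvo : orderOf v = 2 := by
      rw [← huo, ← hvu]
      exact (orderOf_injective _ (MulAut.conj g).injective v).symm
    have e1 := hM u hu1 huo
    have e2 := hM v hv hvo
    refine hg (mem_stabilizer_iff.2 ?_)
    rw [← e2, ← fx_conj, show g * v * g⁻¹ = u from hvu, e1, e2]

omit hone

/-- A TI subgroup of involutions containing the involutions commuting with any of its own gives a binary action. -/
theorem isBin_of_closed (Z : Subgroup G) (hexp : ∀ z ∈ Z, z * z = 1)
    (hC : ∀ z ∈ Z, z ≠ 1 → ∀ y : G, y * y = 1 → Commute z y → y ∈ Z) : IsBin Z := by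
  have hst : ∀ {a x : G}, x ∈ stab Z a → x ≠ 1 → ∀ y : G, y * y = 1 → Commute x y → y ∈ stab Z a := by
    intro a x hx hx1 y hy hc
    rw [mem_stab] at hx ⊢
    refine hC _ hx (fun e => hx1 ?_) _ ?_ ?_
    · rw [show x = a * (a⁻¹ * x * a) * a⁻¹ by group, e, mul_one, mul_inv_cancel]
    · calc a⁻¹ * y * a * (a⁻¹ * y * a) = a⁻¹ * (y * y) * a := by group
        _ = 1 := by rw [hy, mul_one, inv_mul_cancel]
    · calc a⁻¹ * x * a * (a⁻¹ * y * a) = a⁻¹ * (x * y) * a := by group
        _ = a⁻¹ * (y * x) * a := by rw [hc.eq]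
        _ = a⁻¹ * y * a * (a⁻¹ * x * a) := by group
  have hsq : ∀ {a x : G}, x ∈ stab Z a → x * x = 1 := fun {a x} hx => by
    have := hexp _ (mem_stab.1 hx)
    rw [show a⁻¹ * x * a * (a⁻¹ * x * a) = a⁻¹ * (x * x) * a by group] at this
    rw [show x * x = a * (a⁻¹ * (x * x) * a) * a⁻¹ by group, this, mul_one, mul_inv_cancel]
  have hcomm : ∀ {a x y : G}, x ∈ stab Z a → y ∈ stab Z a → Commute x y := fun {a x y} hx hy => by
    have h1 := hsq (mul_mem hx hy)
    calc x * y = (y * y) * (x * y) * (x * x) := by rw [hsq hy, hsq hx, one_mul, mul_one]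
      _ = y * ((y * x) * (y * x)) * x := by group
      _ = y * x := by rw [hsq (mul_mem hy hx), mul_one]
  have hle : ∀ {a b x : G}, x ∈ stab Z a → x ∈ stab Z b → x ≠ 1 → stab Z a ≤ stab Z b :=
    fun hxa hxb hx1 y hy => hst hxb hx1 y (hsq hy) (hcomm hxa hy)
  refine isBin_of_triangle (fun a b hab => (Subgroup.eq_bot_iff_forall _).2 fun x hx => ?_) ?_
  · by_contra hx1
    exact hab (le_antisymm (hle (Subgroup.mem_inf.1 hx).1 (Subgroup.mem_inf.1 hx).2 hx1)
      (hle (Subgroup.mem_inf.1 hx).2 (Subgroup.mem_inf.1 hx).1 hx1))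
  · intro a b c hab hac hbc x hx y hy hxy
    by_contra hne
    by_cases hx1 : x = 1
    · rw [hx1, one_mul] at hxy hne
      exact hac (le_antisymm (hle hxy hy hne) (hle hy hxy hne))
    by_cases hy1 : y = 1
    · rw [hy1, mul_one] at hxy hne
      exact hab (le_antisymm (hle hxy hx hne) (hle hx hxy hne))
    have hcm : Commute x y := by
      calc x * y = (y * y) * (x * y) * (x * x) := by rw [hsq hy, hsq hx, one_mul, mul_one]
        _ = y * (y * x * (y * x)) * x := by group
        _ = y * x := by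
          have h2 : y * x * (y * x) = 1 := by
            have h3 := hsq hxy
            calc y * x * (y * x) = y * (x * y * (x * y)) * y⁻¹ := by group
              _ = 1 := by rw [h3, mul_one, mul_inv_cancel]
          rw [h2, mul_one]
    have hyb : y ∈ stab Z b := hst hx hx1 y (hsq hy) hcm
    exact hbc (le_antisymm (hle hyb hy hy1) (hle hy hyb hy1))

end Cfsg.Agent.BinInvol
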