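import Mathlib
import Cfsg.Agent.Lib.Classical.BinarySuborbit

/-!
Small coset actions of the alternating and symmetric groups of degree four and five that are not binary.
-/

set_option autoImplicit false
set_option maxRecDepth 8000

namespace Cfsg.Agent.BinAct

open Equiv

/-- Double transpositions in `A₄`. -/
abbrev dA4 (i j k l : Fin 4) (h : Perm.sign (swap i j * swap k l) = 1 := by decide) :
    alternatingGroup (Fin 4) := ⟨swap i j * swap k l, Perm.mem_alternatingGroup.2 h⟩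

/-- Three-cycles in `A₄`. -/
abbrev tA4 (i j k : Fin 4) (h : Perm.sign (swap i j * swap j k) = 1 := by decide) :
    alternatingGroup (Fin 4) := ⟨swap i j * swap j k, Perm.mem_alternatingGroup.2 h⟩

/-- Double transpositions in `A₅`. -/
abbrev dA5 (i j k l : Fin 5) (h : Perm.sign (swap i j * swap k l) = 1 := by decide) :
    alternatingGroup (Fin 5) := ⟨swap i j * swap k l, Perm.mem_alternatingGroup.2 h⟩

/-- Three-cycles in `A₅`. -/
abbrev tA5 (i j k : Fin 5) (h : Perm.sign (swap i j * swap j k) = 1 := by decide) :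
    alternatingGroup (Fin 5) := ⟨swap i j * swap j k, Perm.mem_alternatingGroup.2 h⟩

/-- `A₄` on a subgroup containing a three-cycle and no involution. -/
theorem not_isBin_alt4 {K : Subgroup (alternatingGroup (Fin 4))} (ht : tA4 0 1 2 ∈ K)
    (hv : ∀ v : alternatingGroup (Fin 4), v ≠ 1 → v * v = 1 → v ∉ K) : ¬ IsBin K := by
  refine not_isBin_cert (tA4 1 2 3) (tA4 0 1 3) (tA4 0 2 1) (tA4 0 1 2) (tA4 0 1 2) (by decide)
    [tA4 0 1 2] [dA4 0 1 2 3, dA4 0 2 1 3, dA4 0 3 1 2] (by simpa using ht) ?_ ?_ ht ht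
    [[0, 1, 4], [0, 2, 3], [0, 0, 1]] (by decide)
  · intro z hz
    simp only [List.mem_cons, List.not_mem_nil, or_false] at hz
    rcases hz with rfl | rfl | rfl <;> exact hv _ (by decide) (by decide)
  · exact (show (tA4 0 1 2)⁻¹ = tA4 0 2 1 by decide) ▸ inv_mem ht

/-- `S₄` on a subgroup containing a non-normal four-group and not the normal one. -/
theorem not_isBin_perm4 {K : Subgroup (Perm (Fin 4))} (h1 : swap 0 1 ∈ K) (h2 : swap 2 3 ∈ K)
    (hv : swap 0 2 * swap 1 3 ∉ K) : ¬ IsBin K := by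
  refine not_isBin_cert (swap 1 2) (swap 1 3) (swap 0 1 * swap 2 3) (swap 0 1 * swap 2 3)
    (swap 0 1 * swap 2 3) (by decide) [swap 0 1, swap 2 3] [swap 0 2 * swap 1 3, swap 0 3 * swap 1 2]
    (by simp [h1, h2]) ?_ (mul_mem h1 h2) (mul_mem h1 h2) (mul_mem h1 h2)
    [[4, 2], [2, 3, 5], [2, 3, 1, 5]] (by decide)
  intro z hz
  simp only [List.mem_cons, List.not_mem_nil, or_false] at hz
  rcases hz with rfl | rfl
  · exact hv
  · intro hz
    refine hv ?_
    rw [show (swap 0 2 * swap 1 3 : Perm (Fin 4)) = swap 0 1 * swap 2 3 * (swap 0 3 * swap 1 2) by decide]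
    exact mul_mem (mul_mem h1 h2) hz

/-- `A₅` on a subgroup containing an involution and no four-group around it. -/
theorem not_isBin_alt5 {K : Subgroup (alternatingGroup (Fin 5))} (ha : dA5 0 1 2 3 ∈ K)
    (hb : dA5 0 2 1 3 ∉ K) : ¬ IsBin K := by
  refine not_isBin_cert (tA5 1 2 3) (tA5 0 1 2) (dA5 0 1 2 3) (dA5 0 1 2 3) (dA5 0 1 2 3) (by decide)
    [dA5 0 1 2 3] [dA5 0 2 1 3, dA5 0 3 1 2] (by simpa using ha) ?_ ha ha ha
    [[2, 1, 4, 3], [4, 1, 2, 3], [3, 4, 2, 4], [3, 2, 3, 4], [4, 1, 2], [2, 2, 3, 1], [1, 2, 1], [2, 1, 2],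
      [1, 2, 4], [1, 4, 4], [2, 1, 4], [4, 3, 4], [4, 4, 1]] (by decide)
  intro z hz
  simp only [List.mem_cons, List.not_mem_nil, or_false] at hz
  rcases hz with rfl | rfl
  · exact hb
  · intro hz
    refine hb ?_
    rw [show dA5 0 2 1 3 = dA5 0 1 2 3 * dA5 0 3 1 2 by decide]
    exact mul_mem ha hz

/-- An automorphism moving any three-cycle of `A₄` to the standard one. -/
theorem alt4_conj : ∀ t : alternatingGroup (Fin 4), t ≠ 1 → t * t * t = 1 →
    ∃ c : Perm (Fin 4), c * (t : Perm (Fin 4)) * c⁻¹ = (tA4 0 1 2 : Perm (Fin 4)) := by decide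

/-- Every involution of `A₅` is conjugate to the standard one. -/
theorem alt5_conj : ∀ v : alternatingGroup (Fin 5), v ≠ 1 → v * v = 1 →
    ∃ c : alternatingGroup (Fin 5), c * v * c⁻¹ = dA5 0 1 2 3 := by decide

/-- The centraliser of the standard involution of `A₅`. -/
theorem alt5_cent : ∀ v : alternatingGroup (Fin 5), v * dA5 0 1 2 3 = dA5 0 1 2 3 * v →
    v = 1 ∨ v = dA5 0 1 2 3 ∨ v = dA5 0 2 1 3 ∨ v = dA5 0 3 1 2 := by decide

/-- The involutions of `S₄` in the standard non-normal four-group. -/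
theorem perm4_cent : ∀ v : Perm (Fin 4), v * (swap 0 1) = (swap 0 1) * v →
    v = 1 ∨ v = swap 0 1 ∨ v = swap 2 3 ∨ v = swap 0 1 * swap 2 3 := by decide

end Cfsg.Agent.BinAct
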