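import Cfsg.Agent.Lib.Block.SylowDefectCount
import Cfsg.Agent.Lib.Block.GreenIntersection
import Cfsg.Agent.Lib.Block.Elementary2

/-!
Counting blocks: at most one block of defect zero when the sums over double cosets are constant on the
free double cosets, and no block of intermediate defect when radical subgroups have small centralisers.
-/

set_option autoImplicit false
set_option linter.unusedSectionVars false
set_option linter.style.haveILetI false

namespace Cfsg.Agent.Classical.BlockCount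

open Cfsg Cfsg.Agent.Block

universe u

variable {G : Type u} [Group G] [Finite G] {p : ℕ} [Fact p.Prime] {M : Ideal AlgInt}

/-- `P` meets its conjugate by `g` trivially. -/
def Free (P : Subgroup G) (g : G) : Prop := ∀ u ∈ P, g⁻¹ * u * g ∈ P → u = 1

theorem sum_eq_zero_of_no_fixed {k : Type*} [Field k] [CharP k p] {α Q : Type*} [Fintype α] [Group Q]
    [Finite Q] [MulAction Q α] (hQ : IsPGroup p Q) (F : α → k)
    (hF : ∀ (u : Q) (a : α), F (u • a) = F a) (hfix : ∀ a, a ∈ MulAction.fixedPoints Q α → F a = 0) :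
    ∑ a, F a = 0 := by
  rw [sum_eq_sum_fixed (p := p) (fun x => by rw [nsmul_eq_mul, CharP.cast_eq_zero, zero_mul]) hQ F hF]
  exact finsum_mem_eq_zero_of_forall_eq_zero hfix

section Unique

variable {k : Type*} [Field k] [CharP k p] [Fintype G] (P : Subgroup G) [Fintype P]

theorem sum_free_of_classFun (hP : IsPGroup p P) (ε : G → k) (hcl : ∀ g h : G, ε (h * g * h⁻¹) = ε g)
    (hsupp : ∀ g, ε g ≠ 0 → ¬ p ∣ Nat.card (Subgroup.centralizer ({g} : Set G)))
    {g : G} (hg : ∑ u : P, ε (g * u) ≠ 0) : Free P g := by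
  classical
  intro a ha hga
  by_contra ha1
  let Q : Subgroup G := Subgroup.zpowers a
  have hQP : Q ≤ P := Subgroup.zpowers_le.2 ha
  have hQ : IsPGroup p Q := hP.to_le hQP
  have hQg : ∀ q ∈ Q, g⁻¹ * q * g ∈ P := by
    rintro q ⟨i, rfl⟩
    have : g⁻¹ * a ^ i * g = (g⁻¹ * a * g) ^ i := by
      have h := conj_zpow (i := i) (a := g⁻¹) (b := a)
      rw [inv_inv] at h
      exact h.symm
    show g⁻¹ * a ^ i * g ∈ P
    rw [this]
    exact zpow_mem hga i
  letI : MulAction Q P :=
    { smul := fun q u => ⟨(g⁻¹ * q * g) * u * (q : G)⁻¹,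
        mul_mem (mul_mem (hQg q q.2) u.2) (inv_mem (hQP q.2))⟩
      one_smul := fun u => Subtype.ext (by show (g⁻¹ * ((1 : Q) : G) * g) * (u : G) * ((1 : Q) : G)⁻¹ = u; simp)
      mul_smul := fun q r u => Subtype.ext (by
        show (g⁻¹ * ((q * r : Q) : G) * g) * (u : G) * ((q * r : Q) : G)⁻¹ =
          (g⁻¹ * q * g) * ((g⁻¹ * r * g) * u * (r : G)⁻¹) * (q : G)⁻¹
        rw [Subgroup.coe_mul]; group) }
  refine hg (sum_eq_zero_of_no_fixed (p := p) hQ _ (fun q u => ?_) fun u hu => ?_)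
  · show ε (g * ((g⁻¹ * q * g) * u * (q : G)⁻¹)) = _
    rw [show g * ((g⁻¹ * q * g) * (u : G) * (q : G)⁻¹) = (q : G) * (g * u) * (q : G)⁻¹ by group, hcl]
  · by_contra h0
    have hfix : (g⁻¹ * a * g) * (u : G) * a⁻¹ = u :=
      congrArg Subtype.val (hu ⟨a, Subgroup.mem_zpowers a⟩)
    have hmem : a ∈ Subgroup.centralizer ({g * (u : G)} : Set G) := by
      rw [Subgroup.mem_centralizer_singleton_iff]
      calc a * (g * (u : G)) = g * ((g⁻¹ * a * g) * u * a⁻¹) * a := by group
        _ = _ := by rw [hfix]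
    obtain ⟨i, hi⟩ : ∃ i, orderOf a = p ^ i := by
      obtain ⟨i, hi⟩ := hP ⟨a, ha⟩
      have : a ^ p ^ i = 1 := congrArg Subtype.val hi
      obtain ⟨j, -, hj⟩ := (Nat.dvd_prime_pow (Fact.out : p.Prime)).1 (orderOf_dvd_of_pow_eq_one this)
      exact ⟨j, hj⟩
    rcases i with _ | i
    · exact ha1 (orderOf_eq_one_iff.1 (by rw [hi, pow_zero]))
    · exact hsupp _ h0 ((dvd_pow_self p (Nat.succ_ne_zero i)).trans
        (hi ▸ Subgroup.orderOf_dvd_natCard _ hmem))

theorem sum_kernel_nonfree (hP : IsPGroup p P) (φ : G → k) (hr : ∀ g, ∀ u ∈ P, φ (g * u) = φ g)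
    {z : G} (hz : ¬ Free P z) (g : G) : ∑ u : P, φ (g * u * z⁻¹) = 0 := by
  classical
  simp only [Free, not_forall] at hz
  obtain ⟨a, ha, hza, ha1⟩ := hz
  set b := z⁻¹ * a * z with hb
  let Q : Subgroup G := Subgroup.zpowers b
  have hQP : Q ≤ P := Subgroup.zpowers_le.2 hza
  have hQ : IsPGroup p Q := hP.to_le hQP
  have hQz : ∀ q ∈ Q, z * q * z⁻¹ ∈ P := by
    rintro q ⟨i, rfl⟩
    show z * b ^ i * z⁻¹ ∈ P
    rw [← conj_zpow, show z * b * z⁻¹ = a by rw [hb]; group]
    exact zpow_mem ha i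
  letI : MulAction Q P :=
    { smul := fun q u => ⟨(u : G) * (q : G)⁻¹, mul_mem u.2 (inv_mem (hQP q.2))⟩
      one_smul := fun u => Subtype.ext (by show (u : G) * ((1 : Q) : G)⁻¹ = u; simp)
      mul_smul := fun q r u => Subtype.ext (by
        show (u : G) * ((q * r : Q) : G)⁻¹ = (u : G) * (r : G)⁻¹ * (q : G)⁻¹
        rw [Subgroup.coe_mul]; group) }
  refine sum_eq_zero_of_no_fixed (p := p) hQ _ (fun q u => ?_) fun u hu => ?_
  · show φ (g * ((u : G) * (q : G)⁻¹) * z⁻¹) = _
    rw [show g * ((u : G) * (q : G)⁻¹) * z⁻¹ = g * u * z⁻¹ * (z * (q : G)⁻¹ * z⁻¹) by group,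
      hr _ _ (hQz _ (inv_mem q.2))]
  · exfalso
    have h1 : (u : G) * b⁻¹ = u := congrArg Subtype.val (hu ⟨b, Subgroup.mem_zpowers b⟩)
    have hb1 : b = 1 := inv_eq_one.1 (mul_eq_left.1 h1)
    refine ha1 ?_
    rw [show a = z * b * z⁻¹ by rw [hb]; group, hb1]
    simp

/-- The function of the idempotent times the sum over `P` is constant on the big cell. -/
theorem sum_const_on (hP : IsPGroup p P) (Big : G → Prop)
    (hker : ∀ φ : G → k, (∀ g, ∀ u ∈ P, φ (g * u) = φ g) → (∀ g, ∀ u ∈ P, φ (u * g) = φ g) →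
      (∀ g, φ g ≠ 0 → Free P g) → ∀ z, Free P z → ∀ g g', Big g → Big g' →
        ∑ u : P, φ (g * u * z⁻¹) = ∑ u : P, φ (g' * u * z⁻¹))
    (ε : G → k) (hcl : ∀ g h : G, ε (h * g * h⁻¹) = ε g)
    (hsupp : ∀ g, ε g ≠ 0 → ¬ p ∣ Nat.card (Subgroup.centralizer ({g} : Set G)))
    (hidem : ∀ g, ε g = ∑ y, ε y * ε (y⁻¹ * g))
    {g g' : G} (hg : Big g) (hg' : Big g') : ∑ u : P, ε (g * u) = ∑ u : P, ε (g' * u) := by
  classical
  set φ : G → k := fun g => ∑ u : P, ε (g * u) with hφ
  have hr : ∀ x, ∀ a ∈ P, φ (x * a) = φ x := fun x a ha => by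
    simp only [hφ]
    exact Fintype.sum_equiv (Equiv.mulLeft (⟨a, ha⟩ : P)) _ _ fun u => by simp [mul_assoc]
  have hl : ∀ x, ∀ a ∈ P, φ (a * x) = φ x := fun x a ha => by
    simp only [hφ]
    refine Fintype.sum_equiv (Equiv.mulRight (⟨a, ha⟩ : P)) _ _ fun u => ?_
    simp only [Equiv.coe_mulRight, Subgroup.coe_mul]
    rw [← hcl (x * ((u : G) * a)) a]
    congr 1
    group
  -- one representative in each orbit of `P`
  let rel : Setoid G :=
    { r := fun y y' => ∃ v ∈ P, y' = v * y * v⁻¹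
      iseqv := ⟨fun y => ⟨1, one_mem P, by simp⟩,
        fun {y y'} ⟨v, hv, e⟩ => ⟨v⁻¹, inv_mem hv, by rw [e]; group⟩,
        fun {y y' y''} ⟨v, hv, e⟩ ⟨w, hw, e'⟩ => ⟨w * v, mul_mem hw hv, by rw [e', e]; group⟩⟩ }
  let rep : G → G := fun y => (Quotient.mk rel y).out
  let b : G → k := fun z => if rep z = z then ε z else 0
  have hdec : ∀ y, ε y = ∑ v : P, b ((v : G)⁻¹ * y * v) := by
    intro y
    have hrep : ∀ v : P, rep ((v : G)⁻¹ * y * v) = rep y := fun v => by
      show (Quotient.mk rel _).out = (Quotient.mk rel y).out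
      congr 1
      exact Quotient.sound ⟨v, v.2, by group⟩
    have hε : ∀ v : P, ε ((v : G)⁻¹ * y * v) = ε y := fun v => by
      conv_rhs => rw [show y = (v : G) * ((v : G)⁻¹ * y * v) * (v : G)⁻¹ by group, hcl]
    by_cases h0 : ε y = 0
    · rw [h0]
      refine (Finset.sum_eq_zero fun v _ => ?_).symm
      simp only [b, hε, h0, ite_self]
    obtain ⟨v₀, hv₀, e₀⟩ : ∃ v ∈ P, y = v * rep y * v⁻¹ :=
      Quotient.exact (s := rel) (Quotient.out_eq (Quotient.mk rel y))
    have e1 : v₀⁻¹ * y * v₀ = rep y := by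
      calc v₀⁻¹ * y * v₀ = v₀⁻¹ * (v₀ * rep y * v₀⁻¹) * v₀ := by rw [← e₀]
        _ = rep y := by group
    rw [Finset.sum_eq_single (⟨v₀, hv₀⟩ : P)]
    · show ε y = b (v₀⁻¹ * y * v₀)
      simp only [b, e1]
      rw [show rep (rep y) = rep y by rw [← e1]; exact (hrep ⟨v₀, hv₀⟩).trans e1.symm, if_pos rfl, ← e1]
      exact (hε ⟨v₀, hv₀⟩).symm
    · intro v _ hv
      simp only [b]
      rw [if_neg]
      intro e
      rw [hrep v] at e
      refine hsupp y h0 ?_
      have hc : (v : G) * v₀⁻¹ ∈ Subgroup.centralizer ({y} : Set G) := by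
        rw [Subgroup.mem_centralizer_singleton_iff]
        calc (v : G) * v₀⁻¹ * y = (v : G) * (v₀⁻¹ * y * v₀) * v₀⁻¹ := by group
          _ = (v : G) * rep y * v₀⁻¹ := by rw [e1]
          _ = (v : G) * ((v : G)⁻¹ * y * v) * v₀⁻¹ := by rw [e]
          _ = _ := by group
      have hne : (v : G) * v₀⁻¹ ≠ 1 := fun h => hv (Subtype.ext (mul_inv_eq_one.1 h))
      obtain ⟨i, hi⟩ := hP ⟨_, mul_mem v.2 (inv_mem hv₀)⟩
      have hi' : ((v : G) * v₀⁻¹) ^ p ^ i = 1 := congrArg Subtype.val hi
      obtain ⟨j, -, hj⟩ := (Nat.dvd_prime_pow (Fact.out : p.Prime)).1 (orderOf_dvd_of_pow_eq_one hi')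
      rcases j with _ | j
      · exact absurd (orderOf_eq_one_iff.1 (by rw [hj, pow_zero])) hne
      · exact (dvd_pow_self p (Nat.succ_ne_zero j)).trans (hj ▸ Subgroup.orderOf_dvd_natCard _ hc)
    · exact fun h => absurd (Finset.mem_univ _) h
  have key : ∀ x, φ x = ∑ z : G, b z * ∑ u : P, φ (x * u * z⁻¹) := by
    intro x
    have h1 : φ x = ∑ y, ε y * ∑ u : P, ε (x * u * y⁻¹) := by
      simp only [hφ, Finset.mul_sum]
      rw [Finset.sum_comm]
      refine Finset.sum_congr rfl fun u _ => ?_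
      rw [hidem (x * u)]
      refine Finset.sum_congr rfl fun y _ => ?_
      rw [← hcl (y⁻¹ * (x * u)) y]
      congr 2
      group
    rw [h1]
    conv_lhs => enter [2, y]; rw [hdec y, Finset.sum_mul]
    rw [Finset.sum_comm]
    conv_lhs =>
      enter [2, v]
      rw [← Equiv.sum_comp (MulAut.conj (v : G)).toEquiv]
    rw [Finset.sum_comm]
    refine Finset.sum_congr rfl fun z _ => ?_
    simp only [MulEquiv.toEquiv_eq_coe, MulEquiv.coe_toEquiv, MulAut.conj_apply]
    simp only [show ∀ v : P, (v : G)⁻¹ * ((v : G) * z * (v : G)⁻¹) * v = z from fun v => by group,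
      ← Finset.mul_sum]
    congr 1
    simp only [hφ]
    calc ∑ v : P, ∑ u : P, ε (x * u * ((v : G) * z * (v : G)⁻¹)⁻¹)
        = ∑ v : P, ∑ u : P, ε (x * u * z⁻¹ * (v : G)⁻¹) := by
          refine Finset.sum_congr rfl fun v _ => Fintype.sum_equiv (Equiv.mulRight v) _ _ fun u => ?_
          simp only [Equiv.coe_mulRight, Subgroup.coe_mul]
          congr 1
          group
      _ = _ := by
          rw [Finset.sum_comm]
          refine Finset.sum_congr rfl fun u _ => Fintype.sum_equiv (Equiv.inv P) _ _ fun v => ?_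
          simp
  show φ g = φ g'
  rw [key g, key g']
  refine Finset.sum_congr rfl fun z _ => ?_
  by_cases hz : Free P z
  · rw [hker φ hr hl (fun x hx => sum_free_of_classFun P hP ε hcl hsupp hx) z hz g g' hg hg']
  · rw [sum_kernel_nonfree P hP φ hr hz g, sum_kernel_nonfree P hP φ hr hz g']

end Unique

theorem coeff_mul_eq_sum {k : Type*} [Semiring k] [Fintype G] (a b : MonoidAlgebra k G) (g : G) :
    (a * b).coeff g = ∑ y, a.coeff y * b.coeff (y⁻¹ * g) := by
  classical
  have ha : a = ∑ y, MonoidAlgebra.single y (a.coeff y) := MonoidAlgebra.ext (Finsupp.ext fun x => by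
    simp [MonoidAlgebra.coeff_sum, Finsupp.single_apply])
  conv_lhs => rw [ha]
  simp [Finset.sum_mul, MonoidAlgebra.coeff_sum, MonoidAlgebra.coeff_single_mul_apply]

theorem coeff_mul_psum {k : Type*} [Semiring k] (P : Subgroup G) [Fintype P] (a : MonoidAlgebra k G) (g : G) :
    (a * ∑ u : P, MonoidAlgebra.single (u : G) (1 : k)).coeff g = ∑ u : P, a.coeff (g * u) := by
  classical
  rw [Finset.mul_sum, MonoidAlgebra.coeff_sum, Finsupp.finsetSum_apply]
  refine Fintype.sum_equiv (Equiv.inv P) _ _ fun u => ?_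
  simp [MonoidAlgebra.coeff_mul_single_apply]

theorem red_blockCoeff_supp (hM : IsPModular p M) {B : Set (IrrCharacter G)} (hB : IsPBlock M B)
    (hD : IsDefectGroup p M B ⊥) {g : G} (hg : red hM (blockCoeff B g) ≠ 0) :
    ¬ p ∣ Nat.card (Subgroup.centralizer ({g} : Set G)) := by
  intro hdvd
  have hu : ¬ MemLocalIdeal M (blockCoeff B g) := fun h =>
    hg ((red_eq_zero hM (blockCoeff_ring hM hB g)).2 h)
  let Q : Sylow p (Subgroup.centralizer ({g} : Set G)) := Classical.arbitrary _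
  obtain ⟨x, hx⟩ := exists_conj_le_of_unit hM hB hD hu Q
  have h1 : Nat.card (csyl Q) = 1 := by
    rw [← card_map_conj x (csyl Q), le_bot_iff.1 hx, Subgroup.card_bot]
  rw [card_csyl] at h1
  have := (Fact.out : p.Prime).factorization_pos_of_dvd Nat.card_pos.ne' hdvd
  rw [Nat.pow_eq_one] at h1
  rcases h1 with h | h
  · exact (Fact.out : p.Prime).ne_one h
  · omega

/-- At most one block of defect zero. -/
theorem defectZero_unique [Fintype G] (hM : IsPModular p M) (P : Subgroup G) [Fintype P]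
    (hP : IsPGroup p P) (Big : G → Prop) (hfree : ∀ g, Free P g → Big g)
    (hker : letI : Field (ResField hM) := resInst hM
      ∀ φ : G → ResField hM, (∀ g, ∀ u ∈ P, φ (g * u) = φ g) → (∀ g, ∀ u ∈ P, φ (u * g) = φ g) →
      (∀ g, φ g ≠ 0 → Free P g) → ∀ z, Free P z → ∀ g g', Big g → Big g' →
        ∑ u : P, φ (g * u * z⁻¹) = ∑ u : P, φ (g' * u * z⁻¹))
    {B B' : Set (IrrCharacter G)} (hB : IsPBlock M B) (hB' : IsPBlock M B')
    (hD : IsDefectGroup p M B ⊥) (hD' : IsDefectGroup p M B' ⊥) : B = B' := by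
  classical
  letI : Field (ResField hM) := resInst hM
  haveI := resField_charP hM
  let A := MonoidAlgebra (ResField hM) G
  let s : A := ∑ u : P, MonoidAlgebra.single (u : G) 1
  let e : Set (IrrCharacter G) → A := fun C => redAlg hM (blockCoeff C)
  have coeff_es : ∀ C (g : G), (e C * s).coeff g = ∑ u : P, red hM (blockCoeff C (g * u)) := fun C g =>
    (coeff_mul_psum P (e C) g).trans (Finset.sum_congr rfl fun u _ => redAlg_coeff hM _ _)
  have hidem : ∀ C, IsPBlock M C → e C * e C = e C := fun C hC => redAlg_blockCoeff_idem hM hC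
  have hne : ∀ C, IsPBlock M C → e C * s ≠ 0 := fun C hC h => by
    obtain ⟨n, hn⟩ := isNilpotent_of_mul_sum_eq_zero P hP (e C) (fun f => by
      induction f using MonoidAlgebra.induction_on with
      | of g => simpa [MonoidAlgebra.of_apply] using redAlg_central hM (blockCoeff_classFun C) g
      | add f g hf hg => rw [mul_add, add_mul, hf, hg]
      | smul r f hf => rw [mul_smul_comm, smul_mul_assoc, hf]) h
    have hp : ∀ m, e C ^ (m + 1) = e C := fun m => by
      induction m with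
      | zero => rw [pow_one]
      | succ m ih => rw [pow_succ, ih, hidem C hC]
    refine redAlg_blockCoeff_ne_zero hM hC ?_
    show e C = 0
    rw [← hp n, pow_succ, hn, zero_mul]
  have hval : ∀ C, IsPBlock M C → IsDefectGroup p M C ⊥ → ∃ c : ResField hM, c ≠ 0 ∧
      ∀ g, (e C * s).coeff g = if Big g then c else 0 := by
    intro C hC hCD
    have hcl : ∀ g h : G, red hM (blockCoeff C (h * g * h⁻¹)) = red hM (blockCoeff C g) :=
      fun g h => by rw [blockCoeff_classFun C g h]
    have hsupp := fun g => red_blockCoeff_supp hM hC hCD (g := g)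
    have hid : ∀ g, red hM (blockCoeff C g) = ∑ y, red hM (blockCoeff C y) * red hM (blockCoeff C (y⁻¹ * g)) := by
      intro g
      calc red hM (blockCoeff C g) = (e C).coeff g := (redAlg_coeff hM _ _).symm
        _ = (e C * e C).coeff g := by rw [hidem C hC]
        _ = _ := (coeff_mul_eq_sum (e C) (e C) g).trans
          (Finset.sum_congr rfl fun y _ => congrArg₂ _ (redAlg_coeff hM _ _) (redAlg_coeff hM _ _))
    have hconst := fun g g' hg hg' => sum_const_on (k := ResField hM) P hP Big hker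
      (fun x => red hM (blockCoeff C x)) hcl hsupp hid (g := g) (g' := g') hg hg'
    have hzero : ∀ g, (e C * s).coeff g ≠ 0 → Big g := fun g hg =>
      hfree g (sum_free_of_classFun P hP _ hcl hsupp (by rwa [coeff_es] at hg))
    obtain ⟨g₀, hg₀⟩ : ∃ g, (e C * s).coeff g ≠ 0 := by
      by_contra hc
      push Not at hc
      exact hne C hC (MonoidAlgebra.ext (Finsupp.ext fun g => by simpa using hc g))
    refine ⟨_, hg₀, fun g => ?_⟩
    split_ifs with hg
    · rw [coeff_es, coeff_es]; exact hconst g g₀ hg (hzero g₀ hg₀)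
    · by_contra h; exact hg (hzero g h)
  by_contra hBB
  obtain ⟨c, hc, hcv⟩ := hval B hB hD
  obtain ⟨c', hc', hcv'⟩ := hval B' hB' hD'
  have hprop : e B * s = (c * c'⁻¹) • (e B' * s) := MonoidAlgebra.ext (Finsupp.ext fun g => by
    rw [MonoidAlgebra.coeff_smul, Finsupp.smul_apply, hcv, hcv', smul_eq_mul]
    split_ifs
    · rw [inv_mul_cancel_right₀ hc']
    · rw [mul_zero])
  have h0 : e B' * e B = 0 := by
    simp only [e]
    rw [funext (blockCoeff_eq B), funext (blockCoeff_eq B'),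
      ← redAlg_mul hM (cenInt_blockInd hM hB') (cenInt_blockInd hM hB)]
    have : blockInd B' * blockInd B = 0 := funext fun χ => by
      by_cases h : χ ∈ B
      · have h' : χ ∉ B' := fun h' => hBB ((pblock_eq_blockOf hM hB h).trans
          (pblock_eq_blockOf hM hB' h').symm)
        simp [blockInd_of_notMem h']
      · simp [blockInd_of_notMem h]
    rw [this]
    simp [redAlg, coeffFun, red_zero]
  have h1 := congrArg (e B' * ·) hprop
  simp only [← mul_assoc, h0, zero_mul, mul_smul_comm, hidem B' hB'] at h1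
  rcases smul_eq_zero.1 h1.symm with h | h
  · exact mul_ne_zero hc (inv_ne_zero hc') h
  · exact hne B' hB' h

theorem exists_block_bot (hM : IsPModular p M) {χ : IrrCharacter G}
    (hfull : (charDegree (χ : G → ℂ)).factorization p = (Nat.card G).factorization p) :
    ∃ B, IsPBlock M B ∧ IsDefectGroup p M B (⊥ : Subgroup G) := by
  classical
  cases nonempty_fintype G
  cases nonempty_fintype (ConjClasses G)
  set B := blockOf M (χ : G → ℂ)
  have hB : IsPBlock M B := isPBlock_blockOf χ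
  refine ⟨B, hB, ?_⟩
  have hz : blockDefect p B = 0 := by
    refine (blockDefect_zero_iff_full hM hB).2 fun ψ hψ => ?_
    by_contra hne
    have h1 := pTors_omega_ideal hM ψ hne
    have hring : ∀ C : ConjClasses G, MemLocalRing M (pTorsInd p C.out) := fun C => by
      simp only [pTorsInd]
      split_ifs
      exacts [ring_one hM, ring_zero hM]
    have h2 : MemLocalIdeal M (omegaFun χ (pTorsInd p) - omegaFun ψ (pTorsInd p)) := by
      rw [omegaFun_eq_sum_classes χ pTorsInd_classFun, omegaFun_eq_sum_classes ψ pTorsInd_classFun,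
        ← Finset.sum_sub_distrib]
      refine ideal_sum hM fun C _ => ?_
      rw [← mul_sub]
      exact ideal_mul_left hM (hring C) (hψ C.out)
    rw [pTors_omega_one hM χ hfull] at h2
    exact ideal_one hM (by simpa using ideal_add hM h2 h1)
  obtain ⟨D, hD⟩ := exists_isDefectGroup hM hB
  have hc := card_defectGroup hM hB hD
  rw [hz, pow_zero] at hc
  exact (Subgroup.eq_bot_of_card_eq D hc) ▸ hD

/-- The number of blocks. -/
theorem card_blocks (hM : IsPModular p M) (P : Sylow p G) (hP : (P : Subgroup G) ≠ ⊥) (Z : Subgroup G)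
    (hZc : Z ≤ Subgroup.center G) (hZp : ∀ z ∈ Z, ¬ p ∣ orderOf z)
    (hrad : ∀ D : Subgroup G, IsPGroup p D → D ≠ ⊥ →
      (∀ K : Subgroup G, IsPGroup p K → K ≤ Subgroup.normalizer (D : Set G) →
        (∀ n ∈ Subgroup.normalizer (D : Set G), ∀ k ∈ K, n * k * n⁻¹ ∈ K) → K ≤ D) →
      ∀ y, ¬ p ∣ orderOf y → y ∈ Subgroup.centralizer (D : Set G) → y ∈ Z)
    {χ : IrrCharacter G}
    (hfull : (charDegree (χ : G → ℂ)).factorization p = (Nat.card G).factorization p)
    (hone : ∀ B B' : Set (IrrCharacter G), IsPBlock M B → IsPBlock M B' → IsDefectGroup p M B ⊥ →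
      IsDefectGroup p M B' ⊥ → B = B') :
    Nat.card {B : Set (IrrCharacter G) // IsPBlock M B} = Nat.card Z + 1 := by
  classical
  cases nonempty_fintype G
  have hdich : ∀ B : {B : Set (IrrCharacter G) // IsPBlock M B},
      ¬ IsDefectGroup p M B.1 (P : Subgroup G) ↔ IsDefectGroup p M B.1 ⊥ := by
    intro B
    refine ⟨fun hnP => ?_, fun h h' => ?_⟩
    · obtain ⟨D, hD⟩ := exists_isDefectGroup hM B.2
      by_contra hnb
      have hDne : D ≠ ⊥ := fun e => hnb (e ▸ hD)
      obtain ⟨g, hg, Q, hQ⟩ := id hD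
      have hy : g ∈ Z := hrad D (IsDefectGroup.isPGroup hD) hDne (fun K hK hKN hKn => by
        haveI : (K.subgroupOf (Subgroup.normalizer (D : Set G))).Normal :=
          ⟨fun k hk n => hKn n n.2 k hk⟩
        have := pCore_normalizer_eq hM B.2 hD (K := K.subgroupOf (Subgroup.normalizer (D : Set G)))
          (hK.of_equiv (Subgroup.subgroupOfEquivOfLe hKN).symm)
        rwa [Subgroup.map_subgroupOf_eq_of_le hKN] at this) g
        (regular_of_unit hM B.2 hg.2.1) (hQ ▸ mem_centralizer_csyl Q)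
      have htop : Subgroup.centralizer ({g} : Set G) = ⊤ := eq_top_iff.2 fun x _ =>
        Subgroup.mem_centralizer_singleton_iff.2 (Subgroup.mem_center_iff.1 (hZc hy) x)
      have hcard : Nat.card D = p ^ (Nat.card G).factorization p := by
        rw [hQ]
        show Nat.card (csyl Q) = _
        rw [card_csyl, htop, Subgroup.card_top]
      obtain ⟨S, hS⟩ := (IsDefectGroup.isPGroup hD).exists_le_sylow
      have hDS : D = S := Subgroup.eq_of_le_of_card_ge hS (by rw [S.card_eq_multiplicity, hcard])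
      obtain ⟨x, hx⟩ := MulAction.exists_smul_eq G S P
      refine hnP ?_
      have h2 := isDefectGroup_map_conj hM hD x
      rw [hDS] at h2
      rw [← hx, Sylow.coe_subgroup_smul]
      exact h2
    · obtain ⟨x, hx⟩ := defectGroup_conj hM B.2 h h'
      rw [Subgroup.map_bot] at hx
      exact hP hx.symm
  have hsplit := Nat.card_congr (Equiv.sumCompl fun B : {B : Set (IrrCharacter G) // IsPBlock M B} =>
    IsDefectGroup p M B.1 (P : Subgroup G)).symm
  rw [hsplit, Nat.card_sum]
  congr 1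
  · rw [Nat.card_congr (Equiv.subtypeSubtypeEquivSubtypeInter (fun B => IsPBlock M B)
      (fun B => IsDefectGroup p M B (P : Subgroup G))), card_blocks_sylow_defect hM P]
    set N := Subgroup.normalizer ((P : Subgroup G) : Set G)
    have hZN : ∀ z ∈ Z, z ∈ N := fun z hz => Subgroup.center_le_normalizer _ (hZc hz)
    have hfix : ∀ z : Z, ∀ n : N, ConjClasses.mk n = ConjClasses.mk (⟨z, hZN z z.2⟩ : N) → (n : G) = z := by
      intro z n h
      obtain ⟨c, hc⟩ := isConj_iff.1 (ConjClasses.mk_eq_mk_iff_isConj.1 h.symm)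
      rw [← hc]
      show (c : G) * (z : G) * (c : G)⁻¹ = z
      rw [Subgroup.mem_center_iff.1 (hZc z.2) c, mul_inv_cancel_right]
    refine (Nat.card_eq_of_bijective (fun z : Z =>
      ⟨ConjClasses.mk (⟨z, hZN z z.2⟩ : N), ?P1⟩) ⟨?P2, ?P3⟩).symm
    case P1 =>
      intro n hn
      have e := hfix z n hn
      refine ⟨?_, ?_⟩
      · rw [← Subgroup.orderOf_coe, e]; exact hZp z z.2
      · rw [e]; exact Subgroup.center_le_centralizer _ (hZc z.2)
    case P2 => intro z z' h; exact (Subtype.ext (hfix z' ⟨z, hZN z z.2⟩ (congrArg Subtype.val h)))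
    case P3 =>
      rintro ⟨C, hC⟩
      obtain ⟨n, rfl⟩ := ConjClasses.exists_rep C
      obtain ⟨hn, hc⟩ := hC n rfl
      have hnZ : (n : G) ∈ Z := hrad P P.2 hP (fun K hK hKN hKn => by
        have hle : (P : Subgroup G) ≤ (K ⊔ P : Subgroup G) := le_sup_right
        have hp2 : IsPGroup p (K ⊔ P : Subgroup G) := hK.to_sup_of_normal_right' P.2 hKN
        exact le_sup_left.trans (P.3 hp2 hle).le) n (by rwa [Subgroup.orderOf_coe]) hc
      exact ⟨⟨n, hnZ⟩, rfl⟩
  · refine Nat.card_eq_one_iff_unique.2 ⟨⟨fun a b => ?_⟩, ?_⟩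
    · exact Subtype.ext (Subtype.ext (hone _ _ a.1.2 b.1.2 ((hdich a.1).1 a.2) ((hdich b.1).1 b.2)))
    · obtain ⟨B, hB, hD⟩ := exists_block_bot hM hfull
      exact ⟨⟨⟨B, hB⟩, (hdich ⟨B, hB⟩).2 hD⟩⟩

end Cfsg.Agent.Classical.BlockCount
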