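import Cfsg.Agent.Lib.Classical.SympBlocks
import Cfsg.Agent.Lib.Classical.Unit
import Cfsg.Prelude.Def_LieClassical

/-! The stabiliser of a non-degenerate subspace is the product of the two isometry groups. -/

set_option autoImplicit false

namespace Cfsg.Agent.BlockStabilizer

open Matrix Cfsg.Agent.Classical

variable {F : Type*} [Field F] {α β γ : Type} [Fintype α] [DecidableEq α] [Fintype β] [DecidableEq β]
  [Fintype γ] [DecidableEq γ]

/-- The isometry group of a form given as a function. -/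
abbrev Iso (f : (γ → F) → (γ → F) → F) : Subgroup (GL γ F) :=
  preserving (Units.coeHom (Matrix γ γ F)) f

variable {fα : (α → F) → (α → F) → F} {fβ : (β → F) → (β → F) → F} {fγ : (γ → F) → (γ → F) → F}

/-- The product map on matrices. -/
noncomputable def blockFun (L : ((α → F) × (β → F)) ≃ₗ[F] (γ → F))
    (A : Matrix α α F) (B : Matrix β β F) : Matrix γ γ F :=
  LinearMap.toMatrix' (L.toLinearMap ∘ₗ (A.mulVecLin.prodMap B.mulVecLin) ∘ₗ L.symm.toLinearMap)

theorem blockFun_mulVec (L : ((α → F) × (β → F)) ≃ₗ[F] (γ → F)) (A : Matrix α α F) (B : Matrix β β F)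
    (z : (α → F) × (β → F)) : blockFun L A B *ᵥ L z = L (A *ᵥ z.1, B *ᵥ z.2) := by
  rw [blockFun, ← Matrix.toLin'_apply, Matrix.toLin'_toMatrix']
  simp

/-- The monoid map. -/
noncomputable def blockHom (L : ((α → F) × (β → F)) ≃ₗ[F] (γ → F)) :
    Matrix α α F × Matrix β β F →* Matrix γ γ F where
  toFun p := blockFun L p.1 p.2
  map_one' := Matrix.mulVec_injective (funext fun x => by
    obtain ⟨z, rfl⟩ := L.surjective x
    rw [blockFun_mulVec]; simp)
  map_mul' p p' := Matrix.mulVec_injective (funext fun x => by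
    obtain ⟨z, rfl⟩ := L.surjective x
    rw [← Matrix.mulVec_mulVec, blockFun_mulVec, blockFun_mulVec, blockFun_mulVec]
    simp [Matrix.mulVec_mulVec])

/-- The group map. -/
noncomputable def blockGL (L : ((α → F) × (β → F)) ≃ₗ[F] (γ → F)) : GL α F × GL β F →* GL γ F :=
  (Units.map (blockHom L)).comp MulEquiv.prodUnits.symm.toMonoidHom

theorem blockGL_mulVec (L : ((α → F) × (β → F)) ≃ₗ[F] (γ → F)) (p : GL α F × GL β F)
    (z : (α → F) × (β → F)) :
    (blockGL L p).val *ᵥ L z = L (p.1.val *ᵥ z.1, p.2.val *ᵥ z.2) :=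
  blockFun_mulVec L p.1.val p.2.val z

/-- The compression of a matrix to the first summand. -/
noncomputable def fstPart (L : ((α → F) × (β → F)) ≃ₗ[F] (γ → F)) (g : Matrix γ γ F) : Matrix α α F :=
  LinearMap.toMatrix' (LinearMap.fst F (α → F) (β → F) ∘ₗ L.symm.toLinearMap ∘ₗ g.mulVecLin ∘ₗ
    L.toLinearMap ∘ₗ LinearMap.inl F (α → F) (β → F))

theorem fstPart_mulVec (L : ((α → F) × (β → F)) ≃ₗ[F] (γ → F)) (g : Matrix γ γ F) (a : α → F) :
    fstPart L g *ᵥ a = (L.symm (g *ᵥ L (a, 0))).1 := by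
  rw [fstPart, ← Matrix.toLin'_apply, Matrix.toLin'_toMatrix']
  rfl

/-- The compression of a matrix to the second summand. -/
noncomputable def sndPart (L : ((α → F) × (β → F)) ≃ₗ[F] (γ → F)) (g : Matrix γ γ F) : Matrix β β F :=
  LinearMap.toMatrix' (LinearMap.snd F (α → F) (β → F) ∘ₗ L.symm.toLinearMap ∘ₗ g.mulVecLin ∘ₗ
    L.toLinearMap ∘ₗ LinearMap.inr F (α → F) (β → F))

theorem sndPart_mulVec (L : ((α → F) × (β → F)) ≃ₗ[F] (γ → F)) (g : Matrix γ γ F) (b : β → F) :
    sndPart L g *ᵥ b = (L.symm (g *ᵥ L (0, b))).2 := by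
  rw [sndPart, ← Matrix.toLin'_apply, Matrix.toLin'_toMatrix']
  rfl

theorem stabilizer_equiv (L : ((α → F) × (β → F)) ≃ₗ[F] (γ → F))
    (hL : ∀ z z', fγ (L z) (L z') = fα z.1 z'.1 + fβ z.2 z'.2)
    (hα : ∀ a, (∀ a', fα a a' = 0) → a = 0) (hα0 : ∀ a, fα 0 a = 0 ∧ fα a 0 = 0)
    (hβ0 : ∀ b, fβ 0 b = 0 ∧ fβ b 0 = 0)
    (S : Set (γ → F)) (hS : ∀ z, L z ∈ S ↔ z.2 = 0) :
    Nonempty (↥((stabilizing (glToMat γ F) S).subgroupOf (Iso fγ)) ≃* ↥(Iso fα) × ↥(Iso fβ)) := by
  classical
  have hval : ∀ (g h : GL γ F) (x : γ → F), g.val *ᵥ (h.val *ᵥ x) = (g * h).val *ᵥ x := fun g h x => by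
    rw [Units.val_mul, Matrix.mulVec_mulVec]
  -- elements of the stabiliser respect the splitting
  have hsplit : ∀ g : GL γ F, g ∈ Iso fγ → (∀ v, v ∈ S ↔ g.val *ᵥ v ∈ S) →
      (∀ a, g.val *ᵥ L (a, 0) = L (fstPart L g.val *ᵥ a, 0)) ∧
        ∀ b, g.val *ᵥ L (0, b) = L (0, sndPart L g.val *ᵥ b) := by
    intro g hg hs
    refine ⟨fun a => ?_, fun b => ?_⟩
    · obtain ⟨z, hz⟩ := L.surjective (g.val *ᵥ L (a, 0))
      have h2 : z.2 = 0 := (hS z).1 (hz ▸ (hs _).1 ((hS (a, 0)).2 rfl))
      rw [fstPart_mulVec, ← hz, L.symm_apply_apply]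
      exact congrArg L (Prod.ext rfl h2)
    · obtain ⟨z, hz⟩ := L.surjective (g.val *ᵥ L (0, b))
      have h1 : z.1 = 0 := hα _ fun a' => by
        obtain ⟨y, hy⟩ := L.surjective ((g⁻¹).val *ᵥ L (a', 0))
        have hgy : g.val *ᵥ L y = L (a', 0) := by
          rw [hy, hval, mul_inv_cancel, Units.val_one, Matrix.one_mulVec]
        have hy2 : y.2 = 0 := (hS y).1 ((hs _).2 (by rw [hgy]; exact (hS _).2 rfl))
        have h := hg (L (0, b)) (L y)
        simp only [Units.coeHom_apply] at h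
        rw [← hz, hgy, hL, hL, hy2, (hβ0 _).2, (hβ0 _).2, (hα0 _).1, add_zero, add_zero] at h
        exact h
      rw [sndPart_mulVec, ← hz, L.symm_apply_apply]
      exact congrArg L (Prod.ext h1 rfl)
  have hmem : ∀ p : ↥(Iso fα) × ↥(Iso fβ),
      blockGL L (p.1.1, p.2.1) ∈ Iso fγ ∧
        blockGL L (p.1.1, p.2.1) ∈ stabilizing (glToMat γ F) S := by
    intro p
    refine ⟨fun u v => ?_, fun v => ?_⟩
    · obtain ⟨z, rfl⟩ := L.surjective u
      obtain ⟨z', rfl⟩ := L.surjective v
      simp only [Units.coeHom_apply, blockGL_mulVec, hL]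
      exact congrArg₂ (· + ·) (p.1.2 z.1 z'.1) (p.2.2 z.2 z'.2)
    · obtain ⟨z, rfl⟩ := L.surjective v
      show L z ∈ S ↔ (blockGL L (p.1.1, p.2.1)).val *ᵥ L z ∈ S
      rw [blockGL_mulVec, hS, hS]
      refine ⟨fun h => by simp [h], fun h => ?_⟩
      exact Matrix.mulVec_injective_iff_isUnit.2 p.2.1.isUnit (by simpa using h)
  let Φ : ↥(Iso fα) × ↥(Iso fβ) →* ↥((stabilizing (glToMat γ F) S).subgroupOf (Iso fγ)) :=
    MonoidHom.codRestrict
      (MonoidHom.codRestrict ((blockGL L).comp ((Iso fα).subtype.prodMap (Iso fβ).subtype)) _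
        fun p => (hmem p).1) _ fun p => (hmem p).2
  have hΦ : ∀ p, ((Φ p).1.1 : GL γ F) = blockGL L (p.1.1, p.2.1) := fun p => rfl
  have hinj : Function.Injective Φ := by
    intro p p' h
    have h' : blockGL L (p.1.1, p.2.1) = blockGL L (p'.1.1, p'.2.1) := by rw [← hΦ, h, hΦ]
    have hz : ∀ z : (α → F) × (β → F),
        (p.1.1.val *ᵥ z.1, p.2.1.val *ᵥ z.2) = (p'.1.1.val *ᵥ z.1, p'.2.1.val *ᵥ z.2) := fun z =>
      L.injective (by
        rw [← blockGL_mulVec L (p.1.1, p.2.1), ← blockGL_mulVec L (p'.1.1, p'.2.1), h'])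
    exact Prod.ext
      (Subtype.ext (Units.ext (Matrix.mulVec_injective (funext fun a => congrArg Prod.fst (hz (a, 0))))))
      (Subtype.ext (Units.ext (Matrix.mulVec_injective (funext fun b => congrArg Prod.snd (hz (0, b))))))
  have hsurj : Function.Surjective Φ := by
    rintro ⟨⟨g, hg⟩, hs⟩
    have hs' : ∀ v, v ∈ S ↔ g.val *ᵥ v ∈ S := hs
    have hgi : (g⁻¹ : GL γ F) ∈ Iso fγ := inv_mem hg
    have hsi : ∀ v, v ∈ S ↔ (g⁻¹).val *ᵥ v ∈ S := fun v => by
      rw [hs' ((g⁻¹).val *ᵥ v), hval, mul_inv_cancel, Units.val_one, Matrix.one_mulVec]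
    obtain ⟨h1, h2⟩ := hsplit g hg hs'
    obtain ⟨i1, i2⟩ := hsplit g⁻¹ hgi hsi
    have hA : ∀ g g' : GL γ F, (∀ a, g.val *ᵥ L (a, 0) = L (fstPart L g.val *ᵥ a, 0)) →
        (∀ a, g'.val *ᵥ L (a, 0) = L (fstPart L g'.val *ᵥ a, 0)) → g * g' = 1 →
        fstPart L g.val * fstPart L g'.val = 1 := fun g g' e e' h =>
      Matrix.mulVec_injective (funext fun a => by
        have := congrArg (fun M => M.val *ᵥ L (a, 0)) h
        simp only [← hval, e', e, Units.val_one, Matrix.one_mulVec] at this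
        rw [← Matrix.mulVec_mulVec, Matrix.one_mulVec]
        exact congrArg Prod.fst (L.injective this))
    have hB : ∀ g g' : GL γ F, (∀ b, g.val *ᵥ L (0, b) = L (0, sndPart L g.val *ᵥ b)) →
        (∀ b, g'.val *ᵥ L (0, b) = L (0, sndPart L g'.val *ᵥ b)) → g * g' = 1 →
        sndPart L g.val * sndPart L g'.val = 1 := fun g g' e e' h =>
      Matrix.mulVec_injective (funext fun b => by
        have := congrArg (fun M => M.val *ᵥ L (0, b)) h
        simp only [← hval, e', e, Units.val_one, Matrix.one_mulVec] at this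
        rw [← Matrix.mulVec_mulVec, Matrix.one_mulVec]
        exact congrArg Prod.snd (L.injective this))
    let A : GL α F := ⟨fstPart L g.val, fstPart L (g⁻¹).val, hA _ _ h1 i1 (mul_inv_cancel g),
      hA _ _ i1 h1 (inv_mul_cancel g)⟩
    let B : GL β F := ⟨sndPart L g.val, sndPart L (g⁻¹).val, hB _ _ h2 i2 (mul_inv_cancel g),
      hB _ _ i2 h2 (inv_mul_cancel g)⟩
    have hAmem : A ∈ Iso fα := fun u v => by
      have h := hg (L (u, 0)) (L (v, 0))
      simp only [Units.coeHom_apply, h1, hL] at h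
      simpa [(hβ0 0).1] using h
    have hBmem : B ∈ Iso fβ := fun u v => by
      have h := hg (L (0, u)) (L (0, v))
      simp only [Units.coeHom_apply, h2, hL] at h
      simpa [(hα0 0).1] using h
    refine ⟨(⟨A, hAmem⟩, ⟨B, hBmem⟩), Subtype.ext (Subtype.ext (Units.ext
      (Matrix.mulVec_injective (funext fun x => ?_))))⟩
    obtain ⟨⟨a, b⟩, rfl⟩ := L.surjective x
    show (blockGL L (A, B)).val *ᵥ L (a, b) = g.val *ᵥ L (a, b)
    rw [blockGL_mulVec, show L (a, b) = L (a, 0) + L (0, b) by rw [← map_add]; simp, Matrix.mulVec_add,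
      h1, h2, ← map_add]
    simp [A, B]
  exact ⟨(MulEquiv.ofBijective Φ ⟨hinj, hsurj⟩).symm⟩

/-- Symplectic matrices as isometries. -/
noncomputable def symplecticEquiv (m : ℕ) :
    Matrix.symplecticGroup (Fin m) F ≃* ↥(Iso (sympForm m F)) :=
  MulEquiv.ofBijective
    (MonoidHom.codRestrict ((Matrix.symplecticGroup (Fin m) F).subtype.toHomUnits) (Iso (sympForm m F))
      fun A u v => sympForm_map A u v)
    ⟨fun A B h => Subtype.ext (congrArg Units.val (congrArg Subtype.val h)),
      fun g => ⟨⟨g.1.val, mem_symplecticGroup_iff_form.2 g.2⟩, Subtype.ext (Units.ext rfl)⟩⟩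

theorem symp_stabilizer (m k : ℕ) (hk : k ≤ m) (W : Submodule F (Fin m ⊕ Fin m → F))
    (hWk : Module.finrank F W = 2 * k)
    (hW : ∀ u ∈ W, (∀ v ∈ W, sympForm m F u v = 0) → u = 0) :
    Nonempty (↥(stabilizing (spToMat m F) (W : Set (Fin m ⊕ Fin m → F))) ≃*
      Matrix.symplecticGroup (Fin k) F × Matrix.symplecticGroup (Fin (m - k)) F) := by
  classical
  have hA : (sympB m F).IsAlt := fun x => by rw [sympB_apply, sympForm_self]
  have hB : (sympB m F).Nondegenerate := sympB_nondegenerate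
  have hc : IsCompl W ((sympB m F).orthogonal W) := by
    refine (LinearMap.BilinForm.isCompl_orthogonal_iff_disjoint hA.isRefl).2 ?_
    rw [Submodule.disjoint_def]
    exact fun x hx hx' => hW x hx fun v hv => by
      rw [← sympB_apply]; exact hA.isRefl _ _ (hx' v hv)
  have hdim := Submodule.finrank_add_eq_of_isCompl hc
  rw [Module.finrank_fintype_fun_eq_card, Fintype.card_sum, Fintype.card_fin, hWk] at hdim
  obtain ⟨L1, hL1⟩ := exists_symp_coords ((sympB m F).restrict W) (fun x => hA x.1)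
    (fun x hx => Subtype.ext (hW x.1 x.2 fun v hv => by rw [← sympB_apply]; exact hx ⟨v, hv⟩)) hWk
  obtain ⟨L2, hL2⟩ := exists_symp_coords (e := m - k) ((sympB m F).restrict ((sympB m F).orthogonal W))
    (fun x => hA x.1) (fun x hx => Subtype.ext (hB.1 x.1 fun y => by
      obtain ⟨a, ha, b, hb, rfl⟩ := Submodule.mem_sup.1
        (hc.sup_eq_top ▸ Submodule.mem_top : y ∈ W ⊔ (sympB m F).orthogonal W)
      rw [map_add, hA.isRefl _ _ (x.2 a ha), zero_add]
      exact hx ⟨b, hb⟩)) (by omega)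
  let L := (LinearEquiv.prodCongr L1 L2).trans (Submodule.prodEquivOfIsCompl _ _ hc)
  have hLz : ∀ z, L z = (L1 z.1 : Fin m ⊕ Fin m → F) + (L2 z.2 : Fin m ⊕ Fin m → F) := fun z => rfl
  obtain ⟨e⟩ := stabilizer_equiv (fα := sympForm k F) (fβ := sympForm (m - k) F) (fγ := sympForm m F)
    L (fun z z' => by
      rw [hLz, hLz, ← hL1, ← hL2, ← sympB_apply]
      simp only [map_add, LinearMap.add_apply, LinearMap.BilinForm.restrict_apply, LinearMap.domRestrict₁₂_apply]
      rw [(L2 z'.2).2 _ (L1 z.1).2, hA.isRefl _ _ ((L2 z.2).2 _ (L1 z'.1).2), add_zero, zero_add]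
      rfl)
    (fun a h => eq_zero_of_sympForm_eq_zero h) (fun a => by simp) (fun b => by simp)
    (W : Set (Fin m ⊕ Fin m → F)) (fun z => by
      rw [hLz, SetLike.mem_coe, Submodule.add_mem_iff_right _ (L1 z.1).2]
      refine ⟨fun h => ?_, fun h => by simp [h]⟩
      have : (L2 z.2 : Fin m ⊕ Fin m → F) = 0 :=
        Submodule.disjoint_def.1 hc.disjoint _ h (L2 z.2).2
      exact L2.injective (Subtype.ext (by simpa using this)))
  let T := (stabilizing (glToMat (Fin m ⊕ Fin m) F) (W : Set (Fin m ⊕ Fin m → F))).subgroupOf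
    (Iso (sympForm m F))
  let e1 : ↥(stabilizing (spToMat m F) (W : Set (Fin m ⊕ Fin m → F))) ≃* ↥T :=
    ((symplecticEquiv m).subgroupMap _).trans (MulEquiv.subgroupCongr (by
      ext g
      refine ⟨?_, fun hg => ⟨(symplecticEquiv m).symm g, fun v => ?_, (symplecticEquiv m).apply_symm_apply g⟩⟩
      · rintro ⟨A, hA', rfl⟩
        exact hA'
      · obtain ⟨A, rfl⟩ := (symplecticEquiv m).surjective g
        rw [MulEquiv.symm_apply_apply]
        exact hg v))
  exact ⟨e1.trans (e.trans (MulEquiv.prodCongr (symplecticEquiv k).symm (symplecticEquiv (m - k)).symm))⟩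

theorem herm_stabilizer [Fintype F] {q : ℕ} (hF : Fintype.card F = q ^ 2) (n k : ℕ)
    (W : Submodule F (Fin n → F)) (hWk : Module.finrank F W = k)
    (hW : ∀ u ∈ W, (∀ v ∈ W, hermForm n F q u v = 0) → u = 0) :
    Nonempty (↥((stabilizing (glToMat (Fin n) F) (W : Set (Fin n → F))).subgroupOf (GU n F q)) ≃*
      ↥(GU k F q) × ↥(GU (n - k) F q)) := by
  classical
  let B : (Fin n → F) →ₛₗ[qFrob hF] (Fin n → F) →ₗ[F] F :=
    LinearMap.mk₂'ₛₗ (qFrob hF) (RingHom.id F) (fun x y => hermForm n F q y x)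
      (fun a b y => by simp [hermForm, ← qFrob_apply hF, mul_add, Finset.sum_add_distrib])
      (fun c a y => by simp [hermForm, qFrob_apply, mul_pow, Finset.mul_sum, mul_left_comm])
      (fun x a b => hermForm_add_left n a b x)
      (fun c x a => by simp [hermForm, Finset.mul_sum, mul_assoc])
  have hB : ∀ x y, B x y = hermForm n F q y x := fun x y => rfl
  have hsymm : ∀ x y, qFrob hF (B x y) = B y x := fun x y => by
    rw [hB, hB, qFrob_apply]
    simp only [hermForm, ← qFrob_apply hF, map_sum, map_mul, qFrob_qFrob hF, mul_comm]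
  have hWnd : ∀ w ∈ W, w ≠ 0 → ∃ u ∈ W, B w u ≠ 0 := fun w hw hw0 => by
    by_contra h
    push Not at h
    refine hw0 (hW w hw fun v hv => ?_)
    rw [← hB, ← hsymm, h v hv, map_zero]
  obtain ⟨b, hbW, hb⟩ := exists_orthonormal_family_herm B (qFrob_ne_id hF) (qFrob_qFrob hF) ⟨hsymm⟩ k W
    hWnd hWk
  have hkn : k ≤ n := by
    have := Submodule.finrank_le W
    rwa [hWk, Module.finrank_fin_fun] at this
  let T : (Fin n → F) →ₗ[F] (Fin k → F) := LinearMap.pi fun i => B (b i)
  let P := LinearMap.ker T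
  have hTsurj : Function.Surjective T := fun c => ⟨∑ j, c j • b j, funext fun i => by
    simp [T, map_sum, hb]⟩
  have hPdim : Module.finrank F P = n - k := by
    have := T.finrank_range_add_finrank_ker
    rw [LinearMap.range_eq_top.2 hTsurj, finrank_top, Module.finrank_fin_fun, Module.finrank_fin_fun] at this
    show Module.finrank F (LinearMap.ker T) = n - k
    omega
  have hdec : ∀ v, v - ∑ j, T v j • b j ∈ P := fun v => by
    refine LinearMap.mem_ker.2 (funext fun i => ?_)
    simp [T, map_sum, hb]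
  have hPnd : ∀ w ∈ P, w ≠ 0 → ∃ u ∈ P, B w u ≠ 0 := fun w hw hw0 => by
    by_contra h
    push Not at h
    refine hw0 ?_
    have hall : ∀ v, B w v = 0 := fun v => by
      rw [show v = (v - ∑ j, T v j • b j) + ∑ j, T v j • b j by rw [sub_add_cancel], map_add,
        h _ (hdec v), zero_add, map_sum]
      refine Finset.sum_eq_zero fun j _ => ?_
      rw [map_smul, ← hsymm, show B (b j) w = 0 from congrFun (LinearMap.mem_ker.1 hw) j, map_zero, smul_zero]
    funext i
    have hh := hall (Pi.single i 1)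
    rw [← hsymm, hB, hermForm_single_right hF] at hh
    simpa using congrArg (qFrob hF) hh
  obtain ⟨c, hcP, hc⟩ := exists_orthonormal_family_herm B (qFrob_ne_id hF) (qFrob_qFrob hF) ⟨hsymm⟩
    (n - k) P hPnd hPdim
  have hbc : ∀ i j, B (b i) (c j) = 0 := fun i j => congrFun (LinearMap.mem_ker.1 (hcP j)) i
  have hcb : ∀ i j, B (c j) (b i) = 0 := fun i j => by rw [← hsymm, hbc, map_zero]
  let f : ((Fin k → F) × (Fin (n - k) → F)) →ₗ[F] (Fin n → F) :=
    (Fintype.linearCombination F b).coprod (Fintype.linearCombination F c)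
  have hf : ∀ z, f z = (∑ i, z.1 i • b i) + ∑ j, z.2 j • c j := fun z => by
    simp [f, Fintype.linearCombination_apply]
  have hform : ∀ z z', hermForm n F q (f z) (f z') =
      hermForm k F q z.1 z'.1 + hermForm (n - k) F q z.2 z'.2 := fun z z' => by
    rw [← hB, hf, hf]
    simp only [map_add, map_sum, LinearMap.map_smulₛₗ, LinearMap.add_apply, LinearMap.sum_apply,
      LinearMap.smul_apply, smul_eq_mul, RingHom.id_apply, hb, hc, hbc, hcb, mul_ite, mul_one, mul_zero,
      Finset.sum_ite_eq, Finset.sum_ite_eq', Finset.mem_univ, if_true, Finset.sum_const_zero, add_zero,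
      zero_add, hermForm, qFrob_apply]
  have hinj : Function.Injective f := (injective_iff_map_eq_zero f).2 fun z hz => by
    have h1 : ∀ i, z.1 i = 0 := fun i => by
      have := congrArg (B (b i)) hz
      simpa [hf, map_sum, hb, hbc] using this
    have h2 : ∀ j, z.2 j = 0 := fun j => by
      have := congrArg (B (c j)) hz
      simpa [hf, map_sum, hc, hcb] using this
    exact Prod.ext (funext h1) (funext h2)
  let L := LinearEquiv.ofBijective f ⟨hinj, (LinearMap.injective_iff_surjective_of_finrank_eq_finrank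
    (by rw [Module.finrank_prod, Module.finrank_fin_fun, Module.finrank_fin_fun, Module.finrank_fin_fun]
        omega)).1 hinj⟩
  have hz0 : ∀ (m : ℕ) (a : Fin m → F), hermForm m F q 0 a = 0 ∧ hermForm m F q a 0 = 0 := fun m a => by
    refine ⟨by simp [hermForm], ?_⟩
    have := two_le_q hF
    simp [hermForm, zero_pow (by omega : q ≠ 0)]
  refine stabilizer_equiv L hform (fun a h => funext fun i => ?_) (hz0 k) (hz0 (n - k)) _ (fun z => ?_)
  · have h1 := h (Pi.single i 1)
    rwa [hermForm_single_right hF] at h1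
  · show f z ∈ W ↔ z.2 = 0
    rw [hf, Submodule.add_mem_iff_right _ (W.sum_mem fun i _ => W.smul_mem _ (hbW i))]
    refine ⟨fun h => funext fun j => ?_, fun h => by simp [h]⟩
    have hP : (∑ j, z.2 j • c j) ∈ P := P.sum_mem fun j _ => P.smul_mem _ (hcP j)
    have h0 : (∑ j, z.2 j • c j) = 0 := by
      by_contra hne
      obtain ⟨u, hu, hu0⟩ := hWnd _ h hne
      apply hu0
      have hbu : ∀ i, B (∑ j, z.2 j • c j) (b i) = 0 := fun i => by
        rw [← hsymm, show B (b i) (∑ j, z.2 j • c j) = 0 from congrFun (LinearMap.mem_ker.1 hP) i, map_zero]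
      obtain ⟨d, rfl⟩ : ∃ d : Fin k → F, u = ∑ i, d i • b i := by
        have hli : LinearIndependent F b := Fintype.linearIndependent_iff.2 fun g hg i => by
          have := congrArg (B (b i)) hg
          simpa [map_sum, hb] using this
        have hsp : Submodule.span F (Set.range b) = W :=
          Submodule.eq_of_le_of_finrank_eq (Submodule.span_le.2 (Set.range_subset_iff.2 hbW))
            (by rw [finrank_span_eq_card hli, Fintype.card_fin, hWk])
        obtain ⟨d, hd⟩ := (Submodule.mem_span_range_iff_exists_fun F).1 (hsp ▸ hu)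
        exact ⟨d, hd.symm⟩
      rw [map_sum]
      exact Finset.sum_eq_zero fun i _ => by rw [map_smul, hbu, smul_zero]
    have := congrArg (B (c j)) h0
    simpa [map_sum, hc] using this

end Cfsg.Agent.BlockStabilizer
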