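import Cfsg.Agent.Lib.Classical.MaxTransvection
import Cfsg.Agent.Lib.Classical.MaxSympSubspace

/-!
Subspace stabilisers are maximal in `SL`.
-/

set_option autoImplicit false
set_option linter.unusedSectionVars false

namespace Cfsg.Agent.Classical.MaxTv

open Matrix Module

variable {F : Type*} [Field F] {ι : Type} [Fintype ι] [DecidableEq ι]

local notation "V" => (ι → F)
local notation "Mn" => Matrix ι ι F

/-- A row vector vanishing on a subspace and equal to one at a given outside vector. -/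
theorem exists_dot_one {S : Submodule F (ι → F)} {u : ι → F} (hu : u ∉ S) :
    ∃ φ : ι → F, φ ⬝ᵥ u = 1 ∧ ∀ x ∈ S, φ ⬝ᵥ x = 0 := by
  obtain ⟨f, hf, hS⟩ := exists_dual_eq_one S hu
  obtain ⟨φ, hφ⟩ := exists_dot f
  exact ⟨φ, by rw [hφ, hf], fun x hx => by rw [hφ]; exact hS x hx⟩

theorem linear_subspace_maximal (W : Submodule F (ι → F)) (hW0 : W ≠ ⊥) (hW1 : W ≠ ⊤) :
    Geo.IsMaximalIn (Geo.specialLinear ι F) (Geo.subspaceStabilizer W ⊓ Geo.specialLinear ι F) := by
  obtain ⟨x₀, hx₀, hx₀0⟩ := Submodule.exists_mem_ne_zero_of_ne_bot hW0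
  obtain ⟨y₀, hy₀⟩ : ∃ y, y ∉ W := by
    by_contra hc
    push Not at hc
    exact hW1 (eq_top_iff.2 fun z _ => hc z)
  refine isMaximalIn_intro inf_le_right (fun hle => ?_) fun M hHM hMK g hgM hgH => ?_
  · have hx : x₀ ∉ (F ∙ y₀) := fun e => by
      obtain ⟨c, hc⟩ := Submodule.mem_span_singleton.1 e
      have hc0 : c ≠ 0 := fun e0 => hx₀0 (by rw [← hc, e0, zero_smul])
      exact hy₀ (by simpa [smul_smul, hc0] using W.smul_mem c⁻¹ (hc.symm ▸ hx₀ : c • y₀ ∈ W))
    obtain ⟨φ, h1, h2⟩ := exists_dot_one hx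
    obtain ⟨g, hg⟩ := exists_tv (φ := φ) (v := y₀) (h2 y₀ (Submodule.mem_span_singleton_self _))
    have h := (mem_subspaceStabilizer_iff W g).1 (hle (det_tv hg (h2 y₀ (Submodule.mem_span_singleton_self _)))).1 x₀ hx₀
    rw [hg, h1, one_smul] at h
    exact hy₀ (by simpa using sub_mem h hx₀)
  have hin : ∀ v φ : V, φ ⬝ᵥ v = 0 → (v ∈ W ∨ ∀ x ∈ W, φ ⬝ᵥ x = 0) → InT M v φ := fun v φ h hor => by
    obtain ⟨T, hT⟩ := exists_tv h
    refine ⟨T, hHM ⟨(mem_subspaceStabilizer_iff W T).2 fun x hx => ?_, det_tv hT h⟩, hT⟩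
    rw [hT]
    rcases hor with hv | hφ
    · exact add_mem hx (W.smul_mem _ hv)
    · rw [hφ x hx, zero_smul, add_zero]; exact hx
  let Full : V → Prop := fun u => ∀ φ : V, φ ⬝ᵥ u = 0 → InT M u φ
  have hmove : ∀ u, Full u → ∀ T ∈ M, Full ((T : Mn) *ᵥ u) := fun u hu T hT φ hφ => by
    have h := (hu (φ ᵥ* (T : Mn)) (by rw [← Matrix.dotProduct_mulVec]; exact hφ)).conj hT
    rwa [Matrix.vecMul_vecMul, ← Units.val_mul, mul_inv_cancel, Units.val_one, Matrix.vecMul_one] at h
  have hsmul : ∀ u, Full u → ∀ c : F, Full (c • u) := fun u hu c φ hφ => by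
    rcases eq_or_ne c 0 with rfl | hc
    · rw [zero_smul]; exact InT.zero_left _
    obtain ⟨T, hT, hTx⟩ := hu (c • φ) (by rwa [smul_dotProduct, ← dotProduct_smul])
    exact ⟨T, hT, fun x => by rw [hTx, smul_dotProduct, smul_smul, smul_eq_mul, mul_comm]⟩
  obtain ⟨u, hu, huW⟩ : ∃ u, Full u ∧ u ∉ W := by
    by_contra hc
    push Not at hc
    exact hgH ⟨(mem_subspaceStabilizer_iff W g).2 fun x hx =>
      hc _ (hmove x (fun φ hφ => hin x φ hφ (Or.inl hx)) g hgM), hMK hgM⟩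
  have haddW : ∀ u, Full u → u ∉ W → ∀ a ∈ W, Full (u + a) := fun u hu huW a ha => by
    rcases eq_or_ne a 0 with rfl | ha0
    · rwa [add_zero]
    have hua : u ∉ (F ∙ a) := fun e => huW (((Submodule.span_singleton_le_iff_mem a W).2 ha) e)
    obtain ⟨ψ, h1, h2⟩ := exists_dot_one hua
    obtain ⟨T, hT, hTx⟩ := hin a ψ (h2 a (Submodule.mem_span_singleton_self _)) (Or.inl ha)
    have := hmove u hu T hT
    rwa [hTx, h1, one_smul] at this
  have hout : ∀ v, v ∉ W → Full v := fun v hv => by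
    by_cases h : v ∈ W ⊔ (F ∙ u)
    · obtain ⟨w, hw, z, hz, rfl⟩ := Submodule.mem_sup.1 h
      obtain ⟨c, rfl⟩ := Submodule.mem_span_singleton.1 hz
      rw [add_comm]
      exact haddW _ (hsmul u hu c) (fun e => hv (add_mem hw e)) w hw
    · have hnot : u ∉ W ⊔ (F ∙ (v - u)) := fun e => by
        obtain ⟨w, hw, z, hz, he⟩ := Submodule.mem_sup.1 e
        obtain ⟨c, rfl⟩ := Submodule.mem_span_singleton.1 hz
        have hc : c ≠ 0 := fun e0 => huW (by rw [← he, e0, zero_smul, add_zero]; exact hw)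
        refine h (Submodule.mem_sup.2 ⟨-(c⁻¹ • w), neg_mem (W.smul_mem _ hw), (c⁻¹ + 1) • u,
          Submodule.smul_mem _ _ (Submodule.mem_span_singleton_self _), ?_⟩)
        have h1 : c • v = (1 + c) • u - w := by linear_combination (norm := module) he
        have h2 : v = c⁻¹ • ((1 + c) • u - w) := by rw [← h1, smul_smul, inv_mul_cancel₀ hc, one_smul]
        rw [h2]
        match_scalars <;> field_simp
      obtain ⟨ψ, h1, h2⟩ := exists_dot_one hnot
      obtain ⟨T, hT, hTx⟩ := hin (v - u) ψ (h2 _ (Submodule.mem_sup_right (Submodule.mem_span_singleton_self _)))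
        (Or.inr fun x hx => h2 x (Submodule.mem_sup_left hx))
      have := hmove u hu T hT
      rwa [hTx, h1, one_smul, add_sub_cancel] at this
  refine specialLinear_le fun v φ hφ => ?_
  by_cases hv : v ∈ W
  swap
  · exact hout v hv φ hφ
  exact hin v φ hφ (Or.inl hv)

end Cfsg.Agent.Classical.MaxTv
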