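import Cfsg.Agent.Lib.Classical.MaxDecomp
import Cfsg.Agent.Lib.Classical.MaxTransvection
import Cfsg.Agent.Lib.Classical.MaxLinearSubspace

/-!
Stabilisers of decompositions into subspaces of dimension at least two are maximal in `SL`: a group containing
one of them properly has a transvection between two summands.
-/

set_option autoImplicit false
set_option linter.unusedSectionVars false

namespace Cfsg.Agent.Classical.MaxTv

open Matrix Module

variable {F : Type*} [Field F] {ι : Type} [Fintype ι] [DecidableEq ι]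

local notation "V" => (ι → F)
local notation "Mn" => Matrix ι ι F

/-- A homology or transvection with given centre and axis. -/
theorem exists_rankOne (v φ : ι → F) (h : 1 + φ ⬝ᵥ v ≠ 0) : ∃ g : GL ι F,
    (∀ x : V, (g : Mn) *ᵥ x = x + (φ ⬝ᵥ x) • v) ∧ (g : Mn).det = 1 + φ ⬝ᵥ v := by
  have hd : (1 + vecMulVec v φ : Mn).det = 1 + φ ⬝ᵥ v := by
    rw [Matrix.vecMulVec_eq Unit, Matrix.det_one_add_replicateCol_mul_replicateRow]
  refine ⟨Matrix.GeneralLinearGroup.mkOfDetNeZero (1 + vecMulVec v φ) (by rw [hd]; exact h),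
    fun x => ?_, hd⟩
  show (1 + vecMulVec v φ) *ᵥ x = _
  rw [Matrix.add_mulVec, Matrix.one_mulVec, Matrix.vecMulVec_mulVec]
  simp

theorem mem_specialLinear_iff {g : GL ι F} : g ∈ Geo.specialLinear ι F ↔ (g : Mn).det = 1 :=
  MonoidHom.mem_ker.trans (Units.ext_iff.trans (by simp))

variable {M : Subgroup (GL ι F)} {v φ : ι → F}

theorem InT.scale_left {c : F} (h : InT M v (c • φ)) : InT M (c • v) φ := by
  obtain ⟨g, hg, hgx⟩ := h
  exact ⟨g, hg, fun x => by rw [hgx, smul_dotProduct, smul_smul, smul_eq_mul, mul_comm]⟩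

theorem InT.scale_right {c : F} (h : InT M (c • v) φ) : InT M v (c • φ) := by
  obtain ⟨g, hg, hgx⟩ := h
  exact ⟨g, hg, fun x => by rw [hgx, smul_dotProduct, smul_smul, smul_eq_mul, mul_comm]⟩

theorem InT.neg_left (h : InT M v φ) (hφ : φ ⬝ᵥ v = 0) : InT M (-v) φ := by
  have := InT.scale_left (c := (-1 : F)) (φ := φ) (v := v) (by rw [neg_one_smul]; exact h.neg hφ)
  rwa [neg_one_smul] at this

theorem InT.sum_left {κ : Type*} (s : Finset κ) (w : κ → ι → F) (h : ∀ i ∈ s, InT M (w i) φ)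
    (h0 : ∀ i ∈ s, φ ⬝ᵥ w i = 0) : InT M (∑ i ∈ s, w i) φ := by
  classical
  induction s using Finset.induction_on with
  | empty => rw [Finset.sum_empty]; exact InT.zero_left _
  | insert a s ha ih =>
    rw [Finset.sum_insert ha]
    refine (h a (Finset.mem_insert_self _ _)).add_left
      (ih (fun i hi => h i (Finset.mem_insert_of_mem hi)) fun i hi => h0 i (Finset.mem_insert_of_mem hi)) ?_
    rw [dotProduct_sum]
    exact Finset.sum_eq_zero fun i hi => h0 i (Finset.mem_insert_of_mem hi)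

theorem InT.sum_right {κ : Type*} (s : Finset κ) (w : κ → ι → F) (h : ∀ i ∈ s, InT M v (w i))
    (h0 : ∀ i ∈ s, w i ⬝ᵥ v = 0) : InT M v (∑ i ∈ s, w i) := by
  classical
  induction s using Finset.induction_on with
  | empty => rw [Finset.sum_empty]; exact InT.zero_right _
  | insert a s ha ih =>
    rw [Finset.sum_insert ha]
    exact (h a (Finset.mem_insert_self _ _)).add_right
      (ih (fun i hi => h i (Finset.mem_insert_of_mem hi)) fun i hi => h0 i (Finset.mem_insert_of_mem hi))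
      (h0 a (Finset.mem_insert_self _ _))

/-- Conjugation of a transvection by a transvection. -/
theorem InT.tv_conj {y χ : ι → F} (h : InT M v φ) (h' : InT M y χ) (hχ : χ ⬝ᵥ y = 0) :
    InT M (v + (χ ⬝ᵥ v) • y) (φ - (φ ⬝ᵥ y) • χ) := by
  obtain ⟨T, hT, hTx⟩ := h'
  have := h.conj hT
  rw [hTx] at this
  convert this using 1
  refine dotProduct_eq _ _ fun x => ?_
  obtain ⟨z, rfl⟩ : ∃ z, x = (T : Mn) *ᵥ z := ⟨_, (mulVec_inv_cancel T x).symm⟩
  rw [vecMul_inv_dot, hTx, sub_dotProduct, smul_dotProduct, dotProduct_add, dotProduct_add, dotProduct_smul,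
    dotProduct_smul, hχ]
  simp only [smul_eq_mul]
  ring

variable {t : ℕ}

/-- A functional supported on one summand. -/
def OnB (D : Fin t → Submodule F (ι → F)) (b : Fin t) (χ : ι → F) : Prop :=
  ∀ j, j ≠ b → ∀ x ∈ D j, χ ⬝ᵥ x = 0

variable {D : Fin t → Submodule F (ι → F)} {p : Fin t → ((ι → F) →ₗ[F] (ι → F))}

namespace IsProj

/-- The component of a functional on a summand. -/
def cmp (_hp : IsProj D p) (b : Fin t) (φ : ι → F) : ι → F := φ ᵥ* LinearMap.toMatrix' (p b)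

variable (hp : IsProj D p)
include hp

theorem cmp_dot (b : Fin t) (φ x : ι → F) : hp.cmp b φ ⬝ᵥ x = φ ⬝ᵥ p b x := by
  rw [cmp, ← Matrix.dotProduct_mulVec, LinearMap.toMatrix'_mulVec]

theorem cmp_on (b : Fin t) (φ : ι → F) : OnB D b (hp.cmp b φ) := fun j hj x hx => by
  rw [hp.cmp_dot, hp.other b j (Ne.symm hj) x hx, dotProduct_zero]

theorem cmp_self {b : Fin t} {φ x : ι → F} (hx : x ∈ D b) : hp.cmp b φ ⬝ᵥ x = φ ⬝ᵥ x := by
  rw [hp.cmp_dot, hp.self b x hx]

theorem on_dot {b : Fin t} {χ : ι → F} (hχ : OnB D b χ) (x : ι → F) : χ ⬝ᵥ x = χ ⬝ᵥ p b x := by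
  conv_lhs => rw [← hp.sum x]
  rw [dotProduct_sum]
  exact Finset.sum_eq_single b (fun j _ hj => hχ j hj _ (hp.mem j x)) (by simp)

theorem sum_cmp (φ : ι → F) : ∑ b, hp.cmp b φ = φ :=
  dotProduct_eq _ _ fun x => by
    simp only [sum_dotProduct, hp.cmp_dot]
    rw [← dotProduct_sum, hp.sum]

theorem exists_on {b : Fin t} {S : Submodule F (ι → F)} {x : ι → F} (hS : S ≤ D b) (hx : x ∈ D b)
    (hxS : x ∉ S) : ∃ χ, OnB D b χ ∧ χ ⬝ᵥ x = 1 ∧ ∀ y ∈ S, χ ⬝ᵥ y = 0 := by
  obtain ⟨χ, h1, h2⟩ := exists_dot_one hxS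
  exact ⟨hp.cmp b χ, hp.cmp_on b χ, by rw [hp.cmp_self hx, h1],
    fun y hy => by rw [hp.cmp_self (hS hy)]; exact h2 y hy⟩

end IsProj

/-- A linear map permuting the summands as prescribed. -/
theorem exists_gl_perm (hp : IsProj D p) {m : ℕ} (hm : ∀ i, finrank F (D i) = m) (σ : Equiv.Perm (Fin t)) :
    ∃ g : GL ι F, ∀ i, ∀ x ∈ D i, (g : Mn) *ᵥ x ∈ D (σ i) := by
  classical
  let e : ∀ i, D i ≃ₗ[F] (Fin m → F) := fun i => LinearEquiv.ofFinrankEq _ _ (by rw [hm, finrank_fin_fun])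
  let S : Equiv.Perm (Fin t) → (V →ₗ[F] V) := fun σ =>
    ∑ i, (D (σ i)).subtype.comp ((e (σ i)).symm.toLinearMap.comp
      ((e i).toLinearMap.comp ((p i).codRestrict (D i) (hp.mem i))))
  have hS : ∀ (σ : Equiv.Perm (Fin t)) i (x : D i), S σ x = ((e (σ i)).symm (e i x) : V) := fun σ i x => by
    simp only [S, LinearMap.sum_apply, LinearMap.comp_apply]
    rw [Finset.sum_eq_single i]
    · have : (p i).codRestrict (D i) (hp.mem i) (x : V) = x := Subtype.ext (hp.self i _ x.2)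
      rw [this]
      rfl
    · intro j _ hj
      have : (p j).codRestrict (D j) (hp.mem j) (x : V) = 0 := Subtype.ext (hp.other j i hj _ x.2)
      rw [this, map_zero, map_zero, map_zero]
    · simp
  have hinv : ∀ x, S σ.symm (S σ x) = x := fun x => by
    conv_rhs => rw [← hp.sum x]
    conv_lhs => rw [← hp.sum x]
    simp only [map_sum]
    refine Finset.sum_congr rfl fun i _ => ?_
    rw [show p i x = ((⟨p i x, hp.mem i x⟩ : D i) : V) from rfl, hS, hS]
    have : ∀ (a : Fin t) (_ : a = i) (y : Fin m → F), ((e a).symm y : V) = ((e i).symm y : V) := by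
      rintro a rfl y; rfl
    rw [this _ (σ.symm_apply_apply i), LinearEquiv.apply_symm_apply, LinearEquiv.symm_apply_apply]
  obtain ⟨g, hg⟩ := exists_gl_of_injective (S σ) (Function.LeftInverse.injective hinv)
  exact ⟨g, fun i x hx => by rw [hg, show x = ((⟨x, hx⟩ : D i) : V) from rfl, hS]; exact Subtype.coe_prop _⟩

/-- Stabilisers of decompositions into summands of dimension at least two are maximal in `SL`: the general form. -/
theorem linear_wreath_maximal' [Fintype F] (m : ℕ) (hD : Geo.IsMDecomposition m D) (hm2 : 2 ≤ m)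
    (hex : m = 2 → (3 ≤ t ∧ 2 < Fintype.card F) ∨ (t = 2 ∧ 4 ≤ Fintype.card F)) :
    Geo.IsMaximalIn (Geo.specialLinear ι F) (Geo.decompositionStabilizer D ⊓ Geo.specialLinear ι F) := by
  classical
  obtain ⟨ht, -, hk, hind, htop⟩ := hD
  obtain ⟨p, hp⟩ := exists_proj hind htop
  have hne : ∀ i, D i ≠ ⊥ := fun i e => by have := hk i; rw [e, finrank_bot] at this; omega
  have hm' : ∀ i j, finrank F (D i) = finrank F (D j) := fun i j => by rw [hk, hk]
  have hline : ∀ (i : Fin t) (a : V), ∃ z ∈ D i, z ∉ (F ∙ a) := fun i a => by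
    by_contra hc
    push Not at hc
    have := Submodule.finrank_mono (show D i ≤ F ∙ a from hc)
    have h1 : finrank F (F ∙ a) ≤ 1 := by
      refine le_trans (finrank_span_le_card ({a} : Set V)) ?_
      simp
    rw [hk] at this
    omega
  refine isMaximalIn_intro inf_le_right (fun hle => ?_) fun M hHM hMK g hgM hgH => ?_
  · obtain ⟨a, b, hab⟩ : ∃ a b : Fin t, a ≠ b := ⟨⟨0, by omega⟩, ⟨1, by omega⟩, by simp⟩
    obtain ⟨w, hw, hw0⟩ := Submodule.exists_mem_ne_zero_of_ne_bot (hne a)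
    obtain ⟨z, hz, hz0⟩ := Submodule.exists_mem_ne_zero_of_ne_bot (hne b)
    obtain ⟨χ, hχ, h1, -⟩ := hp.exists_on (S := ⊥) bot_le hz (by simpa using hz0)
    obtain ⟨T, hT⟩ := exists_tv (φ := χ) (v := w) (hχ a hab w hw)
    obtain ⟨τ, hτ⟩ := (hle (det_tv hT (hχ a hab w hw))).1
    have hmem : z + w ∈ D (τ b) := by
      rw [← hτ b]
      exact ⟨z, hz, by rw [Matrix.toLin'_apply, hT, h1, one_smul]⟩
    by_cases hτb : τ b = a
    · rw [hτb] at hmem
      have hza : z ∈ D a := by simpa using sub_mem hmem hw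
      exact hz0 (by rw [← hp.self b z hz, hp.other b a (Ne.symm hab) z hza])
    · exact hw0 (by
        have := hp.other a (τ b) (Ne.symm hτb) _ hmem
        rwa [map_add, hp.other a b hab z hz, zero_add, hp.self a w hw] at this)
  have hg' : g ∉ Geo.decompositionStabilizer D := fun h => hgH ⟨h, hMK hgM⟩
  -- transvections inside one summand
  have hblk : ∀ b, ∀ y ∈ D b, ∀ χ, OnB D b χ → χ ⬝ᵥ y = 0 → InT M y χ := fun b y hy χ hχ h0 => by
    obtain ⟨T, hT⟩ := exists_tv h0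
    refine ⟨T, hHM ⟨hp.mem_stabilizer hm' id (fun j x hx => ?_) hne, det_tv hT h0⟩, hT⟩
    rw [hT]
    by_cases hjb : j = b
    · subst hjb; exact add_mem hx ((D j).smul_mem _ hy)
    · rw [hχ j hjb x hx, zero_smul, add_zero]; exact hx
  have stepR : ∀ u ψ b, InT M u ψ → ψ ⬝ᵥ u = 0 → p b u = 0 → (∃ y ∈ D b, ψ ⬝ᵥ y ≠ 0) →
      ∀ χ, OnB D b χ → InT M u χ := by
    intro u ψ b h hψu hub ⟨y₀, hy₀, hy₀'⟩
    have hker : ∀ y ∈ D b, ψ ⬝ᵥ y ≠ 0 → ∀ χ, OnB D b χ → χ ⬝ᵥ y = 0 → InT M u χ := by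
      intro y hy hy' χ hχ h0
      set χ' : V := -(ψ ⬝ᵥ y)⁻¹ • χ with hχ'
      have hχ'y : χ' ⬝ᵥ y = 0 := by rw [hχ', smul_dotProduct, h0, smul_zero]
      have hu0 : χ' ⬝ᵥ u = 0 := by rw [hχ', smul_dotProduct, hp.on_dot hχ, hub, dotProduct_zero, smul_zero]
      have h1 := h.tv_conj (hblk b y hy χ' (fun j hj x hx => by
        rw [hχ', smul_dotProduct, hχ j hj x hx, smul_zero]) hχ'y) hχ'y
      rw [hu0, zero_smul, add_zero] at h1
      have h2 := h1.add_right (h.neg hψu) (by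
        rw [sub_dotProduct, smul_dotProduct, hψu, hu0, smul_zero, sub_zero])
      convert h2 using 1
      rw [hχ', smul_smul, mul_neg, mul_inv_cancel₀ hy']
      module
    obtain ⟨z, hz, hzy⟩ := hline b y₀
    obtain ⟨y₁, hy₁, hy₁', hy₁y⟩ : ∃ y₁ ∈ D b, ψ ⬝ᵥ y₁ ≠ 0 ∧ y₁ ∉ (F ∙ y₀) := by
      by_cases hz' : ψ ⬝ᵥ z = 0
      · exact ⟨y₀ + z, add_mem hy₀ hz, by rw [dotProduct_add, hz', add_zero]; exact hy₀',
          fun e => hzy (by simpa using sub_mem e (Submodule.mem_span_singleton_self y₀))⟩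
      · exact ⟨z, hz, hz', hzy⟩
    have hy₀y : y₀ ∉ (F ∙ y₁) := fun e => by
      obtain ⟨c, hc⟩ := Submodule.mem_span_singleton.1 e
      have hc0 : c ≠ 0 := fun e0 => hy₀' (by rw [← hc, e0, zero_smul, dotProduct_zero])
      exact hy₁y (Submodule.mem_span_singleton.2 ⟨c⁻¹, by rw [← hc, smul_smul, inv_mul_cancel₀ hc0, one_smul]⟩)
    obtain ⟨α, hα, hα1, hα2⟩ :=
      hp.exists_on ((Submodule.span_singleton_le_iff_mem _ _).2 hy₁) hy₀ hy₀y
    intro χ hχ
    have hα' : OnB D b ((χ ⬝ᵥ y₀) • α) := fun j hj x hx => by rw [smul_dotProduct, hα j hj x hx, smul_zero]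
    have hA := hker y₁ hy₁ hy₁' _ hα' (by
      rw [smul_dotProduct, hα2 y₁ (Submodule.mem_span_singleton_self _), smul_zero])
    have hB := hker y₀ hy₀ hy₀' (χ - (χ ⬝ᵥ y₀) • α)
      (fun j hj x hx => by rw [sub_dotProduct, hχ j hj x hx, hα' j hj x hx, sub_zero])
      (by rw [sub_dotProduct, smul_dotProduct, hα1, smul_eq_mul, mul_one, sub_self])
    have := hA.add_right hB (by rw [hp.on_dot hα', hub, dotProduct_zero])
    rwa [add_sub_cancel] at this
  have stepL : ∀ u ψ b, InT M u ψ → ψ ⬝ᵥ u = 0 → p b u ≠ 0 → (∀ y ∈ D b, ψ ⬝ᵥ y = 0) →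
      ∀ w ∈ D b, InT M w ψ := by
    intro u ψ b h hψu hub hψb
    have hout : ∀ y ∈ D b, y ∉ (F ∙ p b u) → InT M y ψ := by
      intro y hy hyu
      have hne' : p b u ∉ (F ∙ y) := fun e => by
        obtain ⟨c, hc⟩ := Submodule.mem_span_singleton.1 e
        have hc0 : c ≠ 0 := fun e0 => hub (by rw [← hc, e0, zero_smul])
        exact hyu (Submodule.mem_span_singleton.2
          ⟨c⁻¹, by rw [← hc, smul_smul, inv_mul_cancel₀ hc0, one_smul]⟩)
      obtain ⟨ζ, hζ, hζ1, hζ2⟩ :=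
        hp.exists_on ((Submodule.span_singleton_le_iff_mem _ _).2 hy) (hp.mem b u) hne'
      have hζy := hζ2 y (Submodule.mem_span_singleton_self _)
      have h1 := h.tv_conj (hblk b y hy ζ hζ hζy) hζy
      rw [hψb y hy, zero_smul, sub_zero, hp.on_dot hζ, hζ1, one_smul] at h1
      have h2 := h1.add_left (h.neg_left hψu) (by rw [dotProduct_neg, hψu, neg_zero])
      rwa [add_neg_cancel_comm] at h2
    intro w hw
    by_cases hwu : w ∈ (F ∙ p b u)
    · obtain ⟨z, hz, hzu⟩ := hline b (p b u)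
      have h1 := hout (w + z) (add_mem hw hz) fun e => hzu (by simpa using sub_mem e hwu)
      have h2 := hout (-z) (neg_mem hz) fun e => hzu (by simpa using neg_mem e)
      have := h1.add_left h2 (by rw [dotProduct_neg, hψb z hz, neg_zero])
      rwa [add_neg_cancel_right] at this
    · exact hout w hw hwu
  let Cross : Fin t → Fin t → Prop := fun a b => ∀ w ∈ D a, ∀ χ, OnB D b χ → InT M w χ
  -- a transvection in two different summands gives a crossing pair
  have hA' : ∀ u ψ b, InT M u ψ → ψ ⬝ᵥ u = 0 → p b u ≠ 0 → (∀ y ∈ D b, ψ ⬝ᵥ y = 0) →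
      ∀ i, (∃ y ∈ D i, ψ ⬝ᵥ y ≠ 0) → b ≠ i ∧ Cross b i := by
    intro u ψ b h hψu hub hψb i ⟨y, hy, hy'⟩
    have hbi : b ≠ i := fun e => hy' (hψb y (e ▸ hy))
    refine ⟨hbi, fun w hw χ hχ => ?_⟩
    exact stepR w ψ i (stepL u ψ b h hψu hub hψb w hw) (hψb w hw) (hp.other i b (Ne.symm hbi) w hw)
      ⟨y, hy, hy'⟩ χ hχ
  obtain ⟨a, b, hab, hQ⟩ : ∃ a b, a ≠ b ∧ Cross a b := by
    obtain ⟨a₀, x, hx, i₁, j₁, hij, hi₁, hj₁⟩ := hp.exists_spread hm' hne hg'
    set u := (g : Mn) *ᵥ x with hu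
    obtain ⟨z, hz, hzx⟩ := hline a₀ x
    obtain ⟨φ, hφ, hφz, hφx⟩ :=
      hp.exists_on ((Submodule.span_singleton_le_iff_mem _ _).2 hx) hz hzx
    have hφx := hφx x (Submodule.mem_span_singleton_self _)
    set ψ := φ ᵥ* ((g⁻¹ : GL ι F) : Mn) with hψ
    have h : InT M u ψ := (hblk a₀ x hx φ hφ hφx).conj hgM
    have hψu : ψ ⬝ᵥ u = 0 := by rw [hψ, hu, vecMul_inv_dot, hφx]
    have hψ0 : ψ ⬝ᵥ ((g : Mn) *ᵥ z) ≠ 0 := by rw [hψ, vecMul_inv_dot, hφz]; exact one_ne_zero
    obtain ⟨i₀, hi₀⟩ : ∃ i, ∃ y ∈ D i, ψ ⬝ᵥ y ≠ 0 := by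
      by_contra hc
      push Not at hc
      refine hψ0 ?_
      rw [← hp.sum ((g : Mn) *ᵥ z), dotProduct_sum]
      exact Finset.sum_eq_zero fun i _ => hc i _ (hp.mem i _)
    by_cases hA : ∃ b, p b u = 0 ∧ ∃ y ∈ D b, ψ ⬝ᵥ y ≠ 0
    · obtain ⟨b, hb, hyb⟩ := hA
      have hib : i₁ ≠ b := fun e => hi₁ (e ▸ hb)
      refine ⟨i₁, b, hib, fun w hw χ hχ => ?_⟩
      have h1 := stepR u ψ b h hψu hb hyb χ hχ
      exact stepL u χ i₁ h1 (by rw [hp.on_dot hχ, hb, dotProduct_zero]) hi₁ (hχ i₁ hib) w hw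
    by_cases hB : ∃ b, p b u ≠ 0 ∧ ∀ y ∈ D b, ψ ⬝ᵥ y = 0
    · obtain ⟨b, hb, hyb⟩ := hB
      exact ⟨b, i₀, hA' u ψ b h hψu hb hyb i₀ hi₀⟩
    push Not at hA hB
    by_cases hC : ∃ i, ∃ y ∈ D i, ψ ⬝ᵥ y ≠ 0 ∧ p i u ≠ 0 ∧
        ∃ z ∈ D i, z ∉ Submodule.span F ({y, p i u} : Set V)
    · obtain ⟨i, y, hy, hy', hiu, z, hz, hzy⟩ := hC
      obtain ⟨χ, hχ, hχz, hχS⟩ := hp.exists_on (Submodule.span_le.2 (by
        rintro v (rfl | rfl)
        exacts [hy, hp.mem i u])) hz hzy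
      have hχy := hχS y (Submodule.subset_span (Set.mem_insert _ _))
      have hχu : χ ⬝ᵥ u = 0 := by
        rw [hp.on_dot hχ]; exact hχS _ (Submodule.subset_span (Set.mem_insert_of_mem _ rfl))
      have h1 := h.tv_conj (hblk i y hy χ hχ hχy) hχy
      rw [hχu, zero_smul, add_zero] at h1
      have h2 := h1.add_right (h.neg hψu) (by rw [sub_dotProduct, smul_dotProduct, hψu, hχu, smul_zero, sub_zero])
      obtain ⟨j, hju, hji⟩ : ∃ j, p j u ≠ 0 ∧ j ≠ i := by
        rcases eq_or_ne i₁ i with rfl | hne'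
        · exact ⟨j₁, hj₁, Ne.symm hij⟩
        · exact ⟨i₁, hi₁, hne'⟩
      refine ⟨j, i, hA' u _ j h2 ?_ hju (fun v hv => ?_) i ⟨z, hz, ?_⟩⟩
      · rw [add_dotProduct, sub_dotProduct, smul_dotProduct, neg_dotProduct, hψu, hχu, smul_zero]; simp
      · rw [add_dotProduct, sub_dotProduct, smul_dotProduct, neg_dotProduct, hχ j hji v hv, smul_zero]; ring
      · rw [add_dotProduct, sub_dotProduct, smul_dotProduct, neg_dotProduct, hχz, smul_eq_mul, mul_one]
        exact fun e => hy' (by linear_combination -e)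
    -- only planes remain, with `ψ` killing every component
    push Not at hC
    have hi₀u : p i₀ u ≠ 0 := fun e => by
      obtain ⟨y, hy, hy'⟩ := hi₀
      exact hy' (hA i₀ e y hy)
    obtain ⟨y₀, hy₀, hy₀'⟩ := hi₀
    have hsub := hC i₀ y₀ hy₀ hy₀' hi₀u
    have hm : m = 2 := by
      have := Submodule.finrank_mono (show D i₀ ≤ Submodule.span F ({y₀, p i₀ u} : Set V) from hsub)
      have h2 := finrank_span_finset_le_card (R := F) ({y₀, p i₀ u} : Finset V)
      rw [Set.finrank, Finset.coe_pair] at h2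
      have := Finset.card_le_two (a := y₀) (b := p i₀ u)
      rw [hk] at *
      omega
    have hq : 2 < Fintype.card F := by rcases hex hm with h | h <;> omega
    obtain ⟨ν, hν0, hν1⟩ : ∃ ν : F, ν ≠ 0 ∧ ν ≠ 1 := by
      by_contra hc
      push Not at hc
      have : (Finset.univ : Finset F) ⊆ {0, 1} := fun x _ => by
        by_cases hx : x = 0 <;> simp [hx, hc x]
      have := (Finset.card_le_card this).trans Finset.card_le_two
      rw [Finset.card_univ] at this
      omega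
    have hψi : ψ ⬝ᵥ p i₀ u = 0 := by
      by_contra hne'
      obtain ⟨z, hz, hzu⟩ := hline i₀ (p i₀ u)
      exact hzu (by simpa using hC i₀ (p i₀ u) (hp.mem i₀ u) hne' hi₀u z hz)
    obtain ⟨l, hlu, hli⟩ : ∃ l, p l u ≠ 0 ∧ l ≠ i₀ := by
      rcases eq_or_ne i₁ i₀ with rfl | hne'
      · exact ⟨j₁, hj₁, Ne.symm hij⟩
      · exact ⟨i₁, hi₁, hne'⟩
    rcases hex hm with ⟨ht3, -⟩ | ⟨ht2, hq4⟩
    swap
    · -- two planes: transvections with one centre and independent ratios on the two planes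
      obtain ⟨y₁, hy₁, hy₁'⟩ := hB l hlu
      obtain ⟨zi, hzi, hzi1⟩ : ∃ z ∈ D i₀, ψ ⬝ᵥ z = 1 := ⟨(ψ ⬝ᵥ y₀)⁻¹ • y₀, (D i₀).smul_mem _ hy₀, by
        rw [dotProduct_smul, smul_eq_mul, inv_mul_cancel₀ hy₀']⟩
      obtain ⟨zl, hzl, hzl1⟩ : ∃ z ∈ D l, ψ ⬝ᵥ z = 1 := ⟨(ψ ⬝ᵥ y₁)⁻¹ • y₁, (D l).smul_mem _ hy₁, by
        rw [dotProduct_smul, smul_eq_mul, inv_mul_cancel₀ hy₁']⟩
      have hψl : ψ ⬝ᵥ p l u = 0 := by
        by_contra hne'
        obtain ⟨z, hz, hzu⟩ := hline l (p l u)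
        exact hzu (by simpa using hC l (p l u) (hp.mem l u) hne' hlu z hz)
      have h2il : ∀ q, q = i₀ ∨ q = l := fun q => by
        subst ht2
        rcases eq_or_ne q i₀ with h | h
        · exact Or.inl h
        · refine Or.inr (Fin.ext ?_)
          have := Fin.val_ne_of_ne h
          have := Fin.val_ne_of_ne hli
          omega
      have hmem' : ∀ (k : Fin t) (w f : V), w ∈ D k → OnB D k f → ∀ r : GL ι F,
          (∀ x, (r : Mn) *ᵥ x = x + (f ⬝ᵥ x) • w) → r ∈ Geo.decompositionStabilizer D :=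
        fun k w f hw hf r hr => hp.mem_stabilizer hm' id (fun q v hv => by
          rw [hr]
          by_cases hqk : q = k
          · subst hqk; exact add_mem hv ((D q).smul_mem _ hw)
          · rw [hf q hqk v hv, zero_smul, add_zero]; exact hv) hne
      have hcard : Fintype.card ι = 4 := by
        have h1 : ∀ (k : Fin t), finrank F (D k) = 2 := fun k => by rw [hk, hm]
        have h2 : (⊤ : Submodule F V) ≤ D i₀ ⊔ D l := fun x _ => by
          rw [← hp.sum x]
          refine Submodule.sum_mem _ fun q _ => ?_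
          rcases h2il q with rfl | rfl
          exacts [Submodule.mem_sup_left (hp.mem _ x), Submodule.mem_sup_right (hp.mem _ x)]
        have h3 := Submodule.finrank_sup_add_finrank_inf_eq (D i₀) (D l)
        rw [(hind.pairwiseDisjoint (Ne.symm hli)).eq_bot, finrank_bot, h1, h1, top_le_iff.1 h2, finrank_top,
          finrank_fintype_fun_eq_card] at h3
        omega
      -- scaling the two components
      have hgrp : ∀ a b s : F, a ≠ 0 → b ≠ 0 → s ^ 4 * (a * b) = 1 →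
          InT M u (a⁻¹ • hp.cmp i₀ ψ + b⁻¹ • hp.cmp l ψ) := by
        intro a b s ha hb hsab
        have hs : s ≠ 0 := fun e => by simp [e] at hsab
        obtain ⟨g₁, hg₁, hd₁⟩ := exists_rankOne ((a - 1) • zi) (hp.cmp i₀ ψ) (by
          rw [dotProduct_smul, hp.cmp_self hzi, hzi1, smul_eq_mul, mul_one, add_sub_cancel]; exact ha)
        obtain ⟨g₂, hg₂, hd₂⟩ := exists_rankOne ((b - 1) • zl) (hp.cmp l ψ) (by
          rw [dotProduct_smul, hp.cmp_self hzl, hzl1, smul_eq_mul, mul_one, add_sub_cancel]; exact hb)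
        rw [dotProduct_smul, hp.cmp_self hzi, hzi1, smul_eq_mul, mul_one, add_sub_cancel] at hd₁
        rw [dotProduct_smul, hp.cmp_self hzl, hzl1, smul_eq_mul, mul_one, add_sub_cancel] at hd₂
        obtain ⟨c, hc⟩ : ∃ c : GL ι F, (c : Mn) = s • (1 : Mn) :=
          ⟨Matrix.GeneralLinearGroup.mkOfDetNeZero (s • (1 : Mn)) (by
            rw [Matrix.det_smul, Matrix.det_one, mul_one]; exact pow_ne_zero _ hs), rfl⟩
        have hcD : c ∈ Geo.decompositionStabilizer D := hp.mem_stabilizer hm' id (fun q v hv => by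
          rw [hc, Matrix.smul_mulVec, Matrix.one_mulVec]; exact (D q).smul_mem _ hv) hne
        have hTH : c * (g₁ * g₂) ∈ M := hHM ⟨mul_mem hcD (mul_mem
            (hmem' i₀ _ _ ((D i₀).smul_mem _ hzi) (hp.cmp_on i₀ ψ) g₁ hg₁)
            (hmem' l _ _ ((D l).smul_mem _ hzl) (hp.cmp_on l ψ) g₂ hg₂)), mem_specialLinear_iff.2 (by
          rw [Units.val_mul, Units.val_mul, Matrix.det_mul, Matrix.det_mul, hc, Matrix.det_smul, Matrix.det_one,
            hd₁, hd₂, hcard, mul_one, hsab])⟩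
        have happ : ∀ x, ((c * (g₁ * g₂) : GL ι F) : Mn) *ᵥ x =
            s • (x + (hp.cmp l ψ ⬝ᵥ x) • ((b - 1) • zl) + (hp.cmp i₀ ψ ⬝ᵥ x) • ((a - 1) • zi)) := fun x => by
          rw [Units.val_mul, Units.val_mul, ← Matrix.mulVec_mulVec, ← Matrix.mulVec_mulVec, hg₂, hg₁, hc,
            Matrix.smul_mulVec, Matrix.one_mulVec, dotProduct_add, dotProduct_smul, dotProduct_smul,
            hp.cmp_on i₀ ψ l hli zl hzl]
          simp
        have hu' : ((c * (g₁ * g₂) : GL ι F) : Mn) *ᵥ u = s • u := by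
          rw [happ, hp.cmp_dot, hp.cmp_dot, hψi, hψl]; simp
        have h1 := h.conj hTH
        rw [hu'] at h1
        have hψ' : ψ ᵥ* (((c * (g₁ * g₂))⁻¹ : GL ι F) : Mn) =
            s⁻¹ • (a⁻¹ • hp.cmp i₀ ψ + b⁻¹ • hp.cmp l ψ) := dotProduct_eq _ _ fun y => by
          obtain ⟨x, rfl⟩ : ∃ x, y = ((c * (g₁ * g₂) : GL ι F) : Mn) *ᵥ x := ⟨_, (mulVec_inv_cancel _ y).symm⟩
          rw [vecMul_inv_dot, happ]
          simp only [smul_dotProduct, add_dotProduct, dotProduct_smul, dotProduct_add, smul_eq_mul,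
            hp.cmp_self hzi, hp.cmp_self hzl, hzi1, hzl1, hp.cmp_on i₀ ψ l hli zl hzl,
            hp.cmp_on l ψ i₀ (Ne.symm hli) zi hzi]
          have hx : ψ ⬝ᵥ x = hp.cmp i₀ ψ ⬝ᵥ x + hp.cmp l ψ ⬝ᵥ x := by
            conv_lhs => rw [← hp.sum_cmp ψ]
            rw [sum_dotProduct]
            have : (Finset.univ : Finset (Fin t)) = {i₀, l} := by
              ext q; simpa using h2il q
            rw [this, Finset.sum_pair (Ne.symm hli)]
          rw [hx]
          field_simp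
          ring
        rw [hψ'] at h1
        have := h1.smul_left s⁻¹ (inv_ne_zero hs)
        rwa [smul_smul, inv_mul_cancel₀ hs, one_smul, inv_inv, smul_smul, mul_inv_cancel₀ hs, one_smul] at this
      have h11 := hgrp 1 1 1 one_ne_zero one_ne_zero (by ring)
      have hker : ∀ x y : F, (x • hp.cmp i₀ ψ + y • hp.cmp l ψ) ⬝ᵥ u = 0 := fun x y => by
        rw [add_dotProduct, smul_dotProduct, smul_dotProduct, hp.cmp_dot, hp.cmp_dot, hψi, hψl]; simp
      by_cases h4 : ∃ s : F, s ≠ 0 ∧ s ^ 4 ≠ 1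
      · obtain ⟨s, hs, hs4⟩ := h4
        have h1 := (hgrp 1 (s ^ 4)⁻¹ s one_ne_zero (inv_ne_zero (pow_ne_zero _ hs)) (by field_simp)).add_right
          (h11.neg (hker _ _)) (hker _ _)
        rw [inv_inv, show (1 : F)⁻¹ • hp.cmp i₀ ψ + s ^ 4 • hp.cmp l ψ +
          -((1 : F)⁻¹ • hp.cmp i₀ ψ + (1 : F)⁻¹ • hp.cmp l ψ) = (s ^ 4 - 1) • hp.cmp l ψ by
            rw [inv_one]; module] at h1
        refine ⟨i₀, l, hA' u _ i₀ h1 (by rw [smul_dotProduct, hp.cmp_dot, hψl, smul_zero]) hi₀u (fun v hv => ?_)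
          l ⟨zl, hzl, ?_⟩⟩
        · rw [smul_dotProduct, hp.cmp_on l ψ i₀ (Ne.symm hli) v hv, smul_zero]
        · rw [smul_dotProduct, hp.cmp_self hzl, hzl1, smul_eq_mul, mul_one]; exact sub_ne_zero.2 hs4
      · push Not at h4
        have h5 : Fintype.card F = 5 := by
          obtain ⟨g, hg⟩ := IsCyclic.exists_ofOrder_eq_natCard (α := Fˣ)
          have h6 : orderOf g ∣ 4 := orderOf_dvd_of_pow_eq_one (Units.ext (by simpa using h4 g g.ne_zero))
          rw [hg, Nat.card_units, Nat.card_eq_fintype_card] at h6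
          have := Nat.le_of_dvd (by norm_num) h6
          have hle : Fintype.card F ≤ 5 := by omega
          interval_cases hc : Fintype.card F <;> simp_all
        have h50 : (5 : F) = 0 := by
          have := FiniteField.cast_card_eq_zero F
          rw [h5] at this; exact_mod_cast this
        have h20 : (2 : F) ≠ 0 := fun e => one_ne_zero (α := F) (by linear_combination h50 - 2 * e)
        have h1 := ((hgrp (-2) (-2)⁻¹ 1 (neg_ne_zero.2 h20) (inv_ne_zero (neg_ne_zero.2 h20)) (by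
          rw [one_pow, one_mul, mul_inv_cancel₀ (neg_ne_zero.2 h20)])).add_right h11 (hker _ _)).add_right h11 (by
          rw [add_dotProduct, hker, hker, add_zero])
        rw [inv_inv, inv_one, show (-2 : F)⁻¹ • hp.cmp i₀ ψ + (-2 : F) • hp.cmp l ψ +
          ((1 : F) • hp.cmp i₀ ψ + (1 : F) • hp.cmp l ψ) + ((1 : F) • hp.cmp i₀ ψ + (1 : F) • hp.cmp l ψ) =
          ((-2 : F)⁻¹ + 2) • hp.cmp i₀ ψ by module] at h1
        refine ⟨l, i₀, hA' u _ l h1 (by rw [smul_dotProduct, hp.cmp_dot, hψi, smul_zero]) hlu (fun v hv => ?_)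
          i₀ ⟨zi, hzi, ?_⟩⟩
        · rw [smul_dotProduct, hp.cmp_on i₀ ψ l hli v hv, smul_zero]
        · rw [smul_dotProduct, hp.cmp_self hzi, hzi1, smul_eq_mul, mul_one]
          intro e
          field_simp at e
          exact h20 (by linear_combination h50 - e)
    obtain ⟨ν, hν0, hν1⟩ : ∃ ν : F, ν ≠ 0 ∧ ν ≠ 1 := by
      by_contra hc
      push Not at hc
      have : (Finset.univ : Finset F) ⊆ {0, 1} := fun x _ => by
        by_cases hx : x = 0 <;> simp [hx, hc x]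
      have := (Finset.card_le_card this).trans Finset.card_le_two
      rw [Finset.card_univ] at this
      omega
    obtain ⟨j, hji, hjl⟩ : ∃ j, j ≠ i₀ ∧ j ≠ l := by
      by_contra hc
      push Not at hc
      have : (Finset.univ : Finset (Fin t)) ⊆ {i₀, l} := fun x _ => by
        by_cases hx : x = i₀
        · simp [hx]
        · rw [hc x hx]; simp
      have := (Finset.card_le_card this).trans Finset.card_le_two
      rw [Finset.card_univ, Fintype.card_fin] at this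
      omega
    obtain ⟨zj, hzj, hzju⟩ := hline j (p j u)
    obtain ⟨α, hα, hαz, hαu⟩ :=
      hp.exists_on ((Submodule.span_singleton_le_iff_mem _ _).2 (hp.mem j u)) hzj hzju
    set zi := (ψ ⬝ᵥ y₀)⁻¹ • y₀
    have hzi : zi ∈ D i₀ := (D i₀).smul_mem _ hy₀
    have hzi1 : ψ ⬝ᵥ zi = 1 := by rw [dotProduct_smul, smul_eq_mul, inv_mul_cancel₀ hy₀']
    obtain ⟨g₁, hg₁, hd₁⟩ := exists_rankOne ((ν - 1) • zi) (hp.cmp i₀ ψ) (by
      rw [dotProduct_smul, hp.cmp_self hzi, hzi1, smul_eq_mul, mul_one, add_sub_cancel]; exact hν0)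
    obtain ⟨g₂, hg₂, hd₂⟩ := exists_rankOne ((ν⁻¹ - 1) • zj) α (by
      rw [dotProduct_smul, hαz, smul_eq_mul, mul_one, add_sub_cancel]; exact inv_ne_zero hν0)
    rw [dotProduct_smul, hp.cmp_self hzi, hzi1, smul_eq_mul, mul_one, add_sub_cancel] at hd₁
    rw [dotProduct_smul, hαz, smul_eq_mul, mul_one, add_sub_cancel] at hd₂
    have hmem : ∀ (k : Fin t) (w f : V), w ∈ D k → OnB D k f → ∀ r : GL ι F,
        (∀ x, (r : Mn) *ᵥ x = x + (f ⬝ᵥ x) • w) → r ∈ Geo.decompositionStabilizer D :=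
      fun k w f hw hf r hr => hp.mem_stabilizer hm' id (fun q v hv => by
        rw [hr]
        by_cases hqk : q = k
        · subst hqk; exact add_mem hv ((D q).smul_mem _ hw)
        · rw [hf q hqk v hv, zero_smul, add_zero]; exact hv) hne
    have hTH : g₁ * g₂ ∈ M := hHM ⟨mul_mem (hmem i₀ _ _ ((D i₀).smul_mem _ hzi) (hp.cmp_on i₀ ψ) g₁ hg₁)
        (hmem j _ _ ((D j).smul_mem _ hzj) hα g₂ hg₂), mem_specialLinear_iff.2 (by
      rw [Units.val_mul, Matrix.det_mul, hd₁, hd₂, mul_inv_cancel₀ hν0])⟩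
    have hfix : ∀ v, ((g₁ * g₂ : GL ι F) : Mn) *ᵥ v = v + (α ⬝ᵥ v) • ((ν⁻¹ - 1) • zj)
        + (hp.cmp i₀ ψ ⬝ᵥ v) • ((ν - 1) • zi) := fun v => by
      rw [Units.val_mul, ← Matrix.mulVec_mulVec, hg₂, hg₁, dotProduct_add, dotProduct_smul, dotProduct_smul,
        hp.cmp_on i₀ ψ j hji zj hzj]
      simp
    have hfu : ((g₁ * g₂ : GL ι F) : Mn) *ᵥ u = u := by
      rw [hfix, hp.cmp_dot, hψi, hp.on_dot hα, hαu _ (Submodule.mem_span_singleton_self _)]
      simp
    have h1 := h.conj hTH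
    rw [hfu] at h1
    set ψ' := ψ ᵥ* (((g₁ * g₂)⁻¹ : GL ι F) : Mn)
    have hψ'u : ψ' ⬝ᵥ u = 0 := by
      rw [← hfu, vecMul_inv_dot]; exact hψu
    have h2 := h1.add_right (h.neg hψu) hψ'u
    refine ⟨l, i₀, hA' u _ l h2 (by rw [add_dotProduct, neg_dotProduct, hψ'u, hψu, neg_zero, add_zero]) hlu
      (fun v hv => ?_) i₀ ⟨ν • zi, (D i₀).smul_mem _ hzi, ?_⟩⟩
    · have hfv : ((g₁ * g₂ : GL ι F) : Mn) *ᵥ v = v := by
        rw [hfix, hα l (Ne.symm hjl) v hv, hp.cmp_on i₀ ψ l hli v hv]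
        simp
      rw [add_dotProduct, neg_dotProduct]
      nth_rewrite 1 [← hfv]
      rw [vecMul_inv_dot, add_neg_cancel]
    · have hfz : ((g₁ * g₂ : GL ι F) : Mn) *ᵥ zi = ν • zi := by
        rw [hfix, hα i₀ (Ne.symm hji) zi hzi, hp.cmp_self hzi, hzi1]
        module
      rw [add_dotProduct, neg_dotProduct]
      nth_rewrite 1 [← hfz]
      rw [vecMul_inv_dot, hzi1, dotProduct_smul, hzi1, smul_eq_mul, mul_one, ← sub_eq_add_neg]
      exact sub_ne_zero.2 (Ne.symm hν1)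
  have hall : ∀ c d, c ≠ d → Cross c d := by
    intro c d hcd
    obtain ⟨σ, hσa, hσb⟩ : ∃ σ : Equiv.Perm (Fin t), σ a = c ∧ σ b = d := by
      refine ⟨(Equiv.swap a c).trans (Equiv.swap (Equiv.swap a c b) d), ?_, by simp⟩
      rw [Equiv.trans_apply, Equiv.swap_apply_left, Equiv.swap_apply_of_ne_of_ne ?_ hcd]
      intro e
      exact hab ((Equiv.swap a c).injective (by rw [Equiv.swap_apply_left]; exact e))
    obtain ⟨S, hS⟩ := exists_gl_perm hp hk σ
    obtain ⟨z, hz, hz0⟩ := Submodule.exists_mem_ne_zero_of_ne_bot (hne a)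
    obtain ⟨α, hα, hαz, -⟩ := hp.exists_on (S := ⊥) bot_le hz (by simpa using hz0)
    have hdet : (S : Mn).det ≠ 0 := Matrix.GeneralLinearGroup.det_ne_zero S
    obtain ⟨r, hr, hrd⟩ := exists_rankOne (((S : Mn).det⁻¹ - 1) • z) α (by
      rw [dotProduct_smul, hαz, smul_eq_mul, mul_one, add_sub_cancel]; exact inv_ne_zero hdet)
    rw [dotProduct_smul, hαz, smul_eq_mul, mul_one, add_sub_cancel] at hrd
    have hTD : ∀ i, ∀ x ∈ D i, ((S * r : GL ι F) : Mn) *ᵥ x ∈ D (σ i) := fun i x hx => by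
      rw [Units.val_mul, ← Matrix.mulVec_mulVec, hr]
      refine hS i _ ?_
      by_cases hia : i = a
      · subst hia; exact add_mem hx ((D i).smul_mem _ ((D i).smul_mem _ hz))
      · rw [hα i hia x hx, zero_smul, add_zero]; exact hx
    have hstab : S * r ∈ Geo.decompositionStabilizer D := hp.mem_stabilizer hm' σ hTD hne
    have hTM : S * r ∈ M := hHM ⟨hstab, mem_specialLinear_iff.2 (by
      rw [Units.val_mul, Matrix.det_mul, hrd, mul_inv_cancel₀ hdet])⟩
    have hback : ∀ i, ∀ w ∈ D (σ i), ∃ w' ∈ D i, ((S * r : GL ι F) : Mn) *ᵥ w' = w := fun i w hw => by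
      have : (D i).map (Matrix.toLin' ((S * r : GL ι F) : Mn)) = D (σ i) := by
        refine Submodule.eq_of_le_of_finrank_eq ?_ ?_
        · rintro _ ⟨v, hv, rfl⟩
          rw [Matrix.toLin'_apply]
          exact hTD i v hv
        · rw [(Submodule.equivMapOfInjective _ (fun x y h => gl_mulVec_injective (S * r) (by
            simpa [Matrix.toLin'_apply] using h)) (D i)).finrank_eq.symm, hm']
      rw [← this] at hw
      obtain ⟨w', hw', e⟩ := hw
      exact ⟨w', hw', by rw [← e, Matrix.toLin'_apply]⟩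
    intro w hw χ hχ
    obtain ⟨w', hw', rfl⟩ := hback a w (hσa ▸ hw)
    have hon : OnB D b (χ ᵥ* ((S * r : GL ι F) : Mn)) := fun i hib v hv => by
      rw [← Matrix.dotProduct_mulVec]
      exact hχ (σ i) (fun e => hib (σ.injective (e.trans hσb.symm))) _ (hTD i v hv)
    have := (hQ w' hw' _ hon).conj hTM
    rwa [Matrix.vecMul_vecMul, ← Units.val_mul, mul_inv_cancel, Units.val_one, Matrix.vecMul_one] at this
  have hone : ∀ j, ∀ χ, OnB D j χ → ∀ v, χ ⬝ᵥ v = 0 → InT M v χ := fun j χ hχ v h0 => by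
    rw [← hp.sum v]
    have hz : ∀ i, χ ⬝ᵥ p i v = 0 := fun i => by
      by_cases hij : i = j
      · subst hij; rw [← hp.on_dot hχ]; exact h0
      · exact hχ i hij _ (hp.mem i v)
    refine InT.sum_left _ _ (fun i _ => ?_) fun i _ => hz i
    by_cases hij : i = j
    · subst hij; exact hblk i _ (hp.mem i v) χ hχ (hz i)
    · exact hall i j hij _ (hp.mem i v) χ hχ
  refine specialLinear_le fun v φ hφ => ?_
  rcases eq_or_ne v 0 with rfl | hv
  · exact InT.zero_left _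
  obtain ⟨j, hj⟩ : ∃ j, p j v ≠ 0 := by
    by_contra hc
    push Not at hc
    exact hv (hp.ext fun i => by simp [hc i])
  obtain ⟨χ, hχ, hχv, -⟩ := hp.exists_on (S := ⊥) bot_le (hp.mem j v) (by simpa using hj)
  obtain ⟨T, hT, hTx⟩ := hone j χ hχ (p j v - v) (by
    rw [dotProduct_sub, hp.on_dot hχ v, sub_self])
  have hTv : (T : Mn) *ᵥ v = p j v := by
    rw [hTx, hp.on_dot hχ v, hχv, one_smul, add_sub_cancel]
  set φ' := φ ᵥ* ((T⁻¹ : GL ι F) : Mn)
  have hφ' : φ' ⬝ᵥ p j v = 0 := by rw [← hTv, vecMul_inv_dot]; exact hφ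
  have hsplit : ∀ i, hp.cmp i φ' ⬝ᵥ p j v = 0 := fun i => by
    rw [hp.cmp_dot, hp.comp]
    split_ifs with h
    · exact hφ'
    · exact dotProduct_zero _
  have hmain : InT M (p j v) φ' := by
    rw [← hp.sum_cmp φ']
    exact InT.sum_right _ _ (fun i _ => hone i _ (hp.cmp_on i φ') _ (hsplit i)) fun i _ => hsplit i
  have := hmain.conj (inv_mem hT)
  rwa [← hTv, inv_mulVec_cancel, inv_inv, Matrix.vecMul_vecMul, ← Units.val_mul, inv_mul_cancel, Units.val_one,
    Matrix.vecMul_one] at this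

/-- Stabilisers of decompositions into summands of dimension at least two are maximal in `SL`. -/
theorem linear_wreath_maximal [Fintype F] (m : ℕ) (hD : Geo.IsMDecomposition m D) (hm2 : 2 ≤ m)
    (hex : m = 2 → 3 ≤ t ∧ 2 < Fintype.card F) :
    Geo.IsMaximalIn (Geo.specialLinear ι F) (Geo.decompositionStabilizer D ⊓ Geo.specialLinear ι F) :=
  linear_wreath_maximal' m hD hm2 fun h => Or.inl (hex h)

end Cfsg.Agent.Classical.MaxTv
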