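import Cfsg.Agent.Lib.Classical.QuadBasic
import Cfsg.Agent.Lib.Classical.OrthOrder

/-!
Siegel transformations of a non-degenerate quadratic space: the algebra of long root elements
`eMat e w` (`e`, `w` spanning a totally singular line) and of the root groups at a singular point.
-/

set_option autoImplicit false
set_option linter.unusedSectionVars false
set_option quotPrecheck false

namespace Cfsg.Agent.Classical.OrthAut

open Matrix

variable {F : Type*} [Field F] {ι : Type} [Fintype ι] [DecidableEq ι] (Q : QuadraticForm F (ι → F))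

local notation "V" => (ι → F)
local notation "Mn" => Matrix ι ι F
local notation "B" => QuadraticMap.polar ⇑Q

/-- The Siegel transformation of a singular `e` and `w ⊥ e`. -/
def eMat (e w : V) : Mn :=
  siegelMatrix ⇑Q e w 1 - Q w • Matrix.vecMulVec e (polarVec ⇑Q e)

/-- `eMat e w` is an isometry. -/
def OK (e w : V) : Prop := Q e = 0 ∧ B e w = 0

/-- `a, b` span a totally singular line. -/
def TS (a b : V) : Prop :=
  Q a = 0 ∧ Q b = 0 ∧ B a b = 0 ∧ ∀ s t : F, s • a + t • b = 0 → s = 0 ∧ t = 0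

/-- The long root elements. -/
def rootSet : Set Mn := {M | ∃ a b, TS Q a b ∧ M = eMat Q a b}

/-- The long root elements of lines through `e`. -/
def thru (e : V) : Set Mn := {M | ∃ w, TS Q e w ∧ M = eMat Q e w}

variable {Q}

theorem eMat_mulVec (e w x : V) :
    eMat Q e w *ᵥ x = x + B e x • w - B w x • e - (Q w * B e x) • e := by
  rw [eMat, Matrix.sub_mulVec, siegelMatrix_mulVec, Matrix.smul_mulVec, Matrix.vecMulVec_mulVec,
    polarVec_dotProduct, op_smul_eq_smul, smul_smul, one_mul, one_mul]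

theorem polar_self' {v : V} (hv : Q v = 0) : B v v = 0 := by
  rw [QuadraticMap.polar_self, hv, smul_zero]

theorem polar_self2 (v : V) : B v v = 2 * Q v := by
  rw [QuadraticMap.polar_self, two_nsmul, two_mul]

theorem polar_lin_left (u v y : V) (s t : F) : B (s • u + t • v) y = s * B u y + t * B v y := by
  simp [QuadraticMap.polar_add_left, QuadraticMap.polar_smul_left]

theorem polar_lin_right (u v y : V) (s t : F) : B y (s • u + t • v) = s * B y u + t * B y v := by
  simp [QuadraticMap.polar_add_right, QuadraticMap.polar_smul_right]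

theorem quad_lin (u v : V) (s t : F) :
    Q (s • u + t • v) = s * s * Q u + t * t * Q v + s * t * B u v := by
  rw [quad_add_smul Q, QuadraticMap.map_smul, QuadraticMap.polar_smul_left, smul_eq_mul, smul_eq_mul]
  ring

theorem quad_add (u v : V) : Q (u + v) = Q u + Q v + B u v := QuadraticMap.map_add ⇑Q u v

theorem OK.add {e w w' : V} (h : OK Q e w) (h' : OK Q e w') : OK Q e (w + w') :=
  ⟨h.1, by rw [QuadraticMap.polar_add_right, h.2, h'.2, add_zero]⟩

theorem OK.smul {e w : V} (h : OK Q e w) (c : F) : OK Q e (c • w) :=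
  ⟨h.1, by rw [QuadraticMap.polar_smul_right, h.2, smul_zero]⟩

theorem OK.zero {e : V} (he : Q e = 0) : OK Q e 0 := ⟨he, by simp⟩

theorem TS.ok {a b : V} (h : TS Q a b) : OK Q a b := ⟨h.1, h.2.2.1⟩

theorem TS.left_ne {a b : V} (h : TS Q a b) : a ≠ 0 := fun h0 =>
  one_ne_zero (h.2.2.2 1 0 (by simp [h0])).1

theorem TS.right_ne {a b : V} (h : TS Q a b) : b ≠ 0 := fun h0 =>
  one_ne_zero (h.2.2.2 0 1 (by simp [h0])).2

theorem TS.symm {a b : V} (h : TS Q a b) : TS Q b a :=
  ⟨h.2.1, h.1, by rw [QuadraticMap.polar_comm]; exact h.2.2.1, fun s t h0 =>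
    (h.2.2.2 t s (by rw [add_comm]; exact h0)).symm⟩

theorem eMat_quad {e w : V} (h : OK Q e w) (x : V) : Q (eMat Q e w *ᵥ x) = Q x := by
  rw [eMat_mulVec, show x + B e x • w - B w x • e - (Q w * B e x) • e =
      (x + B e x • w) + (-(B w x + Q w * B e x)) • e by module,
    quad_add_smul, quad_add_smul, h.1, QuadraticMap.polar_add_left, QuadraticMap.polar_smul_left,
    QuadraticMap.polar_comm _ x e, QuadraticMap.polar_comm _ x w, QuadraticMap.polar_comm _ w e, h.2,
    smul_eq_mul]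
  ring

theorem eMat_zero (e : V) : eMat Q e 0 = 1 := by
  refine Matrix.ext_iff_mulVec.2 fun x => ?_
  simp [eMat_mulVec]

theorem eMat_mul {e w w' : V} (h : OK Q e w) (h' : OK Q e w') :
    eMat Q e w * eMat Q e w' = eMat Q e (w + w') := by
  refine Matrix.ext_iff_mulVec.2 fun x => ?_
  rw [← Matrix.mulVec_mulVec]
  simp only [eMat_mulVec, QuadraticMap.polar_add_right, QuadraticMap.polar_sub_right,
    QuadraticMap.polar_smul_right, QuadraticMap.polar_add_left, quad_add, smul_eq_mul, h.2, h'.2,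
    polar_self' h.1, QuadraticMap.polar_comm _ w e, QuadraticMap.polar_comm _ w' w]
  module

theorem eMat_comm {e w w' : V} (h : OK Q e w) (h' : OK Q e w') :
    Commute (eMat Q e w) (eMat Q e w') := by
  show _ * _ = _ * _
  rw [eMat_mul h h', eMat_mul h' h, add_comm]

theorem eMat_pow {e w : V} (h : OK Q e w) (k : ℕ) : eMat Q e w ^ k = eMat Q e (k • w) := by
  induction k with
  | zero => rw [pow_zero, zero_smul, eMat_zero]
  | succ k ih =>
    rw [pow_succ, ih, succ_nsmul]
    exact eMat_mul (by rw [← Nat.cast_smul_eq_nsmul F]; exact h.smul _) h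

theorem eMat_pow_char {p : ℕ} [CharP F p] {e w : V} (h : OK Q e w) : eMat Q e w ^ p = 1 := by
  rw [eMat_pow h, ← Nat.cast_smul_eq_nsmul F, CharP.cast_eq_zero, zero_smul, eMat_zero]

theorem det_eMat {p : ℕ} [Fact p.Prime] [CharP F p] {e w : V} (h : OK Q e w) :
    (eMat Q e w).det = 1 := frobenius_inj F p (by
  rw [frobenius_def, frobenius_def, ← Matrix.det_pow, eMat_pow_char h, Matrix.det_one, one_pow])

theorem eMat_smul_left (e w : V) (c : F) : eMat Q (c • e) w = eMat Q e (c • w) := by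
  refine Matrix.ext_iff_mulVec.2 fun x => ?_
  simp only [eMat_mulVec, QuadraticMap.polar_smul_left, QuadraticMap.map_smul, smul_eq_mul]
  module

theorem eMat_add_self {e w : V} (h : OK Q e w) (t : F) : eMat Q e (w + t • e) = eMat Q e w := by
  refine Matrix.ext_iff_mulVec.2 fun x => ?_
  simp only [eMat_mulVec, QuadraticMap.polar_add_left, QuadraticMap.polar_smul_left, quad_add_smul, h.1,
    QuadraticMap.polar_comm _ w e, h.2, smul_eq_mul]
  module

/-! ### Semisimilarities -/

/-- A semilinear map multiplying `Q` by `κ`. -/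
structure Semi (Q : QuadraticForm F (ι → F)) (G : (ι → F) → (ι → F)) (σ : F ≃+* F) (κ : F) : Prop where
  map_add : ∀ x y, G (x + y) = G x + G y
  map_smul : ∀ (c : F) x, G (c • x) = σ c • G x
  quad : ∀ x, Q (G x) = κ * σ (Q x)
  ne : κ ≠ 0

theorem Semi.map_sub {G : V → V} {σ : F ≃+* F} {κ : F} (hG : Semi Q G σ κ) (x y : V) :
    G (x - y) = G x - G y := eq_sub_of_add_eq (by rw [← hG.map_add, sub_add_cancel])

theorem Semi.map_zero {G : V → V} {σ : F ≃+* F} {κ : F} (hG : Semi Q G σ κ) : G 0 = 0 := by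
  simpa using hG.map_smul 0 0

theorem Semi.polar {G : V → V} {σ : F ≃+* F} {κ : F} (hG : Semi Q G σ κ) (x y : V) :
    B (G x) (G y) = κ * σ (B x y) := by
  simp only [QuadraticMap.polar, ← hG.map_add, hG.quad, _root_.map_sub]; ring

theorem Semi.eMat {G : V → V} {σ : F ≃+* F} {κ : F} (hG : Semi Q G σ κ) (e w x : V) :
    G (eMat Q e w *ᵥ x) = eMat Q (G e) (κ⁻¹ • G w) *ᵥ G x := by
  have hκ := hG.ne
  simp only [eMat_mulVec, hG.map_sub, hG.map_add, hG.map_smul, QuadraticMap.polar_smul_left,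
    QuadraticMap.map_smul, hG.polar, hG.quad, smul_eq_mul, smul_smul, map_mul]
  match_scalars <;> field_simp

theorem semi_of_isometry {g : Mn} (hg : ∀ x, Q (g *ᵥ x) = Q x) :
    Semi Q (fun x => g *ᵥ x) (RingEquiv.refl F) 1 :=
  ⟨Matrix.mulVec_add g, fun c x => Matrix.mulVec_smul g c x, fun x => by simp [hg], one_ne_zero⟩

theorem isometry_eMat {g : Mn} (hg : ∀ x, Q (g *ᵥ x) = Q x) (e w : V) :
    g * eMat Q e w = eMat Q (g *ᵥ e) (g *ᵥ w) * g := by
  refine Matrix.ext_iff_mulVec.2 fun x => ?_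
  have := (semi_of_isometry hg).eMat e w x
  simpa [← Matrix.mulVec_mulVec] using this

theorem isometry_polar {g : Mn} (hg : ∀ x, Q (g *ᵥ x) = Q x) (x y : V) :
    B (g *ᵥ x) (g *ᵥ y) = B x y := by
  have := (semi_of_isometry hg).polar x y
  simpa using this

/-! ### Prescribed inner products -/

variable (hQ : (QuadraticMap.polarBilin Q).Nondegenerate)
include hQ

theorem exists_polar {k : ℕ} {v : Fin k → V} (hv : LinearIndependent F v) (c : Fin k → F) :
    ∃ z : V, ∀ i, B (v i) z = c i := by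
  obtain ⟨φ, hφ⟩ := LinearMap.exists_extend
    (((Module.Basis.span hv).constr F c : Submodule.span F (Set.range v) →ₗ[F] F))
  refine ⟨(LinearMap.BilinForm.toDual (QuadraticMap.polarBilin Q) hQ).symm φ, fun i => ?_⟩
  rw [QuadraticMap.polar_comm, ← QuadraticMap.polarBilin_apply_apply,
    LinearMap.BilinForm.apply_toDual_symm_apply]
  have h1 := LinearMap.congr_fun hφ (Module.Basis.span hv i)
  rw [Module.Basis.constr_basis, LinearMap.comp_apply, Submodule.subtype_apply,
    Module.Basis.span_apply] at h1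
  exact h1

omit hQ in
theorem li2 {a b : V} (h : ∀ s t : F, s • a + t • b = 0 → s = 0 ∧ t = 0) :
    LinearIndependent F ![a, b] := by
  refine Fintype.linearIndependent_iff.2 fun g hg i => ?_
  rw [Fin.sum_univ_two] at hg
  obtain ⟨h1, h2⟩ := h _ _ hg
  fin_cases i <;> assumption

omit hQ in
theorem li3 {a b c : V} (h : ∀ s t u : F, s • a + t • b + u • c = 0 → s = 0 ∧ t = 0 ∧ u = 0) :
    LinearIndependent F ![a, b, c] := by
  refine Fintype.linearIndependent_iff.2 fun g hg i => ?_
  rw [Fin.sum_univ_three] at hg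
  obtain ⟨h1, h2, h3⟩ := h _ _ _ hg
  fin_cases i <;> assumption

omit hQ in
theorem li4 {a b c d : V}
    (h : ∀ s t u v : F, s • a + t • b + u • c + v • d = 0 → s = 0 ∧ t = 0 ∧ u = 0 ∧ v = 0) :
    LinearIndependent F ![a, b, c, d] := by
  refine Fintype.linearIndependent_iff.2 fun g hg i => ?_
  rw [Fin.sum_univ_four] at hg
  obtain ⟨h1, h2, h3, h4⟩ := h _ _ _ _ hg
  fin_cases i <;> assumption

theorem exists_polar2 {a b : V} (h : ∀ s t : F, s • a + t • b = 0 → s = 0 ∧ t = 0) (x y : F) :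
    ∃ z, B a z = x ∧ B b z = y := by
  obtain ⟨z, hz⟩ := exists_polar hQ (li2 h) ![x, y]
  exact ⟨z, hz 0, hz 1⟩

theorem exists_polar3 {a b c : V}
    (h : ∀ s t u : F, s • a + t • b + u • c = 0 → s = 0 ∧ t = 0 ∧ u = 0) (x y w : F) :
    ∃ z, B a z = x ∧ B b z = y ∧ B c z = w := by
  obtain ⟨z, hz⟩ := exists_polar hQ (li3 h) ![x, y, w]
  exact ⟨z, hz 0, hz 1, hz 2⟩

theorem exists_polar4 {a b c d : V}
    (h : ∀ s t u v : F, s • a + t • b + u • c + v • d = 0 → s = 0 ∧ t = 0 ∧ u = 0 ∧ v = 0)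
    (x y w r : F) : ∃ z, B a z = x ∧ B b z = y ∧ B c z = w ∧ B d z = r := by
  obtain ⟨z, hz⟩ := exists_polar hQ (li4 h) ![x, y, w, r]
  exact ⟨z, hz 0, hz 1, hz 2, hz 3⟩

theorem exists_polar1 {a : V} (ha : a ≠ 0) (x : F) : ∃ z, B a z = x := by
  obtain ⟨z, hz⟩ := exists_polar hQ (k := 1) (v := ![a]) (by
    refine Fintype.linearIndependent_iff.2 fun g hg i => ?_
    rw [Fin.sum_univ_one] at hg
    fin_cases i
    exact (smul_eq_zero.1 hg).resolve_right ha) ![x]
  exact ⟨z, hz 0⟩

theorem eq_zero_of_polar {u : V} (h : ∀ z, B u z = 0) : u = 0 := by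
  by_contra hu
  obtain ⟨z, hz⟩ := exists_polar1 hQ hu 1
  rw [h z] at hz
  exact zero_ne_one hz

/-- A singular non-zero vector has a partner. -/
theorem exists_pair {e : V} (he : e ≠ 0) (hee : Q e = 0) : ∃ f, Q f = 0 ∧ B e f = 1 := by
  obtain ⟨z, hz⟩ := exists_polar1 hQ he 1
  refine ⟨z + (-Q z) • e, ?_, ?_⟩
  · rw [quad_add_smul, hee, QuadraticMap.polar_comm, hz]; ring
  · rw [QuadraticMap.polar_add_right, hz, QuadraticMap.polar_smul_right, polar_self' hee, smul_zero,
      add_zero]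

/-! ### Root elements and their lines -/

theorem eMat_inj {e w w' : V} (he : e ≠ 0) (h : OK Q e w) (h' : OK Q e w')
    (eq : eMat Q e w = eMat Q e w') : ∃ t : F, w' = w + t • e := by
  obtain ⟨f, -, hf⟩ := exists_pair hQ he h.1
  have h1 := congrArg (· *ᵥ f) eq
  simp only [eMat_mulVec, hf, one_smul, mul_one] at h1
  exact ⟨(B w' f + Q w') - (B w f + Q w), by linear_combination (norm := module) -h1⟩

theorem thru_ne_one {e : V} {M : Mn} (hM : M ∈ thru Q e) : M ≠ 1 := by
  obtain ⟨w, h, rfl⟩ := hM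
  intro h1
  obtain ⟨t, ht⟩ := eMat_inj hQ h.left_ne h.ok (OK.zero h.1) (h1.trans (eMat_zero e).symm)
  exact one_ne_zero (h.2.2.2 t 1 (by rw [one_smul, add_comm]; exact ht.symm)).2

omit hQ in
theorem thru_subset {e : V} : thru Q e ⊆ rootSet Q := fun _ ⟨w, h, eq⟩ => ⟨e, w, h, eq⟩

theorem rootSet_ne_one {M : Mn} (hM : M ∈ rootSet Q) : M ≠ 1 :=
  hM.elim fun _ ⟨b, h, eq⟩ => thru_ne_one hQ ⟨b, h, eq⟩

omit hQ in
theorem thru_smul {e : V} {c : F} (hc : c ≠ 0) : thru Q (c • e) = thru Q e := by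
  suffices key : ∀ (e : V) (c : F), c ≠ 0 → thru Q (c • e) ⊆ thru Q e by
    refine (key e c hc).antisymm ?_
    have := key (c • e) c⁻¹ (inv_ne_zero hc)
    rwa [smul_smul, inv_mul_cancel₀ hc, one_smul] at this
  rintro e c hc _ ⟨w, ⟨h1, h2, h3, h4⟩, rfl⟩
  rw [QuadraticMap.map_smul, smul_eq_mul, mul_eq_zero, or_iff_right (mul_ne_zero hc hc)] at h1
  rw [QuadraticMap.polar_smul_left, smul_eq_mul, mul_eq_zero, or_iff_right hc] at h3
  refine ⟨c • w, ⟨h1, by rw [QuadraticMap.map_smul, h2, smul_zero],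
    by rw [QuadraticMap.polar_smul_right, h3, smul_zero], fun s t h0 => ?_⟩, eMat_smul_left e w c⟩
  obtain ⟨a, b⟩ := h4 (s / c) (t * c) (by rw [smul_smul, div_mul_cancel₀ _ hc, ← smul_smul]; exact h0)
  exact ⟨by simpa [hc] using a, by simpa [hc] using b⟩

omit hQ in
/-- Every non-zero vector of the line may serve as first entry. -/
theorem thru_of_span {a b : V} (h : TS Q a b) {s t : F} (hst : s • a + t • b ≠ 0) :
    eMat Q a b ∈ thru Q (s • a + t • b) := by
  obtain ⟨ha, hb, hab, hind⟩ := h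
  have hba : B b a = 0 := by rw [QuadraticMap.polar_comm]; exact hab
  by_cases hs : s = 0
  · subst hs
    have ht : t ≠ 0 := fun ht => hst (by simp [ht])
    refine ⟨(-t⁻¹) • a, ⟨by simp [QuadraticMap.map_smul, hb], by simp [QuadraticMap.map_smul, ha],
      by simp [QuadraticMap.polar_smul_left, QuadraticMap.polar_smul_right, hba], fun x y h0 => ?_⟩, ?_⟩
    · obtain ⟨h1, h2⟩ := hind (y * -t⁻¹) (x * t) (by rw [← h0]; module)
      exact ⟨by simpa [ht] using h2, by simpa [ht] using h1⟩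
    · refine Matrix.ext_iff_mulVec.2 fun x => ?_
      simp only [zero_smul, zero_add, eMat_mulVec, QuadraticMap.polar_smul_left, QuadraticMap.map_smul,
        ha, hb, smul_eq_mul, mul_zero, zero_mul, sub_zero]
      match_scalars <;> field_simp
  · refine ⟨s⁻¹ • b, ⟨by simp [quad_lin, ha, hb, hab], by simp [QuadraticMap.map_smul, hb],
      by simp [polar_lin_left, QuadraticMap.polar_smul_right, hab, polar_self' hb], fun x y h0 => ?_⟩, ?_⟩
    · obtain ⟨h1, h2⟩ := hind (x * s) (x * t + y * s⁻¹) (by rw [← h0]; module)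
      have hx : x = 0 := by simpa [hs] using h1
      exact ⟨hx, by simpa [hx, hs] using h2⟩
    · refine Matrix.ext_iff_mulVec.2 fun x => ?_
      simp only [eMat_mulVec, polar_lin_left, QuadraticMap.polar_smul_left, QuadraticMap.map_smul,
        hb, smul_eq_mul, mul_zero, zero_mul, sub_zero]
      match_scalars <;> field_simp <;> ring

theorem span_of_eMat_eq {a b c d : V} (h : TS Q a b) (hd : OK Q c d)
    (hind : ∀ s t : F, s • c + t • d = 0 → s = 0 ∧ t = 0) (eq : eMat Q a b = eMat Q c d) :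
    (∃ s t : F, c = s • a + t • b) ∧ ∃ s t : F, d = s • a + t • b := by
  have him : ∀ x, eMat Q a b *ᵥ x - x = (-(B b x)) • a + B a x • b := fun x => by
    rw [eMat_mulVec, h.2.1]; module
  obtain ⟨x, hx1, hx2⟩ := exists_polar2 hQ hind 0 (-1)
  have h1 := him x
  rw [eq, eMat_mulVec, hx1, hx2] at h1
  have hc : c = (-(B b x)) • a + B a x • b := by rw [← h1]; module
  obtain ⟨y, hy1, hy2⟩ := exists_polar2 hQ hind 1 0
  have h2 := him y
  rw [eq, eMat_mulVec, hy1, hy2] at h2
  refine ⟨⟨_, _, hc⟩, Q d * -(B b x) + -(B b y), Q d * B a x + B a y, ?_⟩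
  linear_combination (norm := module) h2 + Q d • hc

theorem mem_thru_iff {a b e : V} (h : TS Q a b) :
    eMat Q a b ∈ thru Q e ↔ e ≠ 0 ∧ ∃ s t : F, e = s • a + t • b := by
  constructor
  · rintro ⟨w, hw, eq⟩
    exact ⟨hw.left_ne, (span_of_eMat_eq hQ h hw.ok hw.2.2.2 eq).1⟩
  · rintro ⟨he, s, t, rfl⟩
    exact thru_of_span h he

theorem eMat_mem_iff {e u : V} (he : e ≠ 0) (hu : OK Q e u) :
    (eMat Q e u ∈ rootSet Q ∨ eMat Q e u = 1) ↔ Q u = 0 := by
  have hfe : ∀ t : F, Q (t • e) = 0 := fun t => by simp [QuadraticMap.map_smul, hu.1]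
  constructor
  · rintro (⟨a, b, h, eq⟩ | h1)
    · by_cases hdep : ∃ t : F, u = t • e
      · obtain ⟨t, rfl⟩ := hdep; exact hfe t
      have hind : ∀ s t : F, s • e + t • u = 0 → s = 0 ∧ t = 0 := fun s t h0 => by
        have ht : t = 0 := by
          by_contra ht
          exact hdep ⟨-(t⁻¹ * s), by
            have := congrArg (t⁻¹ • ·) h0
            simp only [smul_add, smul_smul, inv_mul_cancel₀ ht, one_smul, smul_zero] at this
            linear_combination (norm := module) this⟩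
        subst ht
        exact ⟨(smul_eq_zero.1 (by simpa using h0)).resolve_right he, rfl⟩
      obtain ⟨-, s, t, rfl⟩ := span_of_eMat_eq hQ h hu hind eq.symm
      rw [quad_lin, h.1, h.2.1, h.2.2.1]; ring
    · obtain ⟨t, ht⟩ := eMat_inj hQ he hu (OK.zero hu.1) (h1.trans (eMat_zero e).symm)
      rw [show u = (-t) • e by linear_combination (norm := module) -ht]
      exact hfe _
  · intro h0
    by_cases hdep : ∃ t : F, u = t • e
    · obtain ⟨t, rfl⟩ := hdep
      right
      rw [← zero_add (t • e), eMat_add_self (OK.zero hu.1), eMat_zero]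
    · refine Or.inl ⟨e, u, ⟨hu.1, h0, hu.2, fun s t h0 => ?_⟩, rfl⟩
      have ht : t = 0 := by
        by_contra ht
        exact hdep ⟨-(t⁻¹ * s), by
          have := congrArg (t⁻¹ • ·) h0
          simp only [smul_add, smul_smul, inv_mul_cancel₀ ht, one_smul, smul_zero] at this
          linear_combination (norm := module) this⟩
      subst ht
      exact ⟨(smul_eq_zero.1 (by simpa using h0)).resolve_right he, rfl⟩

/-- Commuting root elements on disjoint lines have orthogonal lines. -/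
theorem orth_of_commute {a b c d : V} (h : TS Q a b) (h' : TS Q c d)
    (hdis : ∀ s t u v : F, s • a + t • b + u • c + v • d = 0 → s = 0 ∧ t = 0 ∧ u = 0 ∧ v = 0)
    (hc : Commute (eMat Q a b) (eMat Q c d)) :
    B a c = 0 ∧ B a d = 0 ∧ B b c = 0 ∧ B b d = 0 := by
  have key : ∀ z, (B c z * B a d - B d z * B a c = 0) ∧ (B d z * B b c - B c z * B b d = 0) := fun z => by
    have h1 := congrArg (· *ᵥ z) hc.eq
    simp only [← Matrix.mulVec_mulVec, eMat_mulVec, QuadraticMap.polar_add_right,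
      QuadraticMap.polar_sub_right, QuadraticMap.polar_smul_right, h.2.1, h'.2.1, smul_eq_mul,
      zero_mul, zero_smul, sub_zero, QuadraticMap.polar_comm _ c a, QuadraticMap.polar_comm _ c b,
      QuadraticMap.polar_comm _ d a, QuadraticMap.polar_comm _ d b] at h1
    have h2 := hdis (B d z * B b c - B c z * B b d) (B c z * B a d - B d z * B a c)
      (B a z * B b d - B b z * B a d) (B b z * B a c - B a z * B b c)
      (by linear_combination (norm := module) h1)
    exact ⟨h2.2.1, h2.1⟩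
  obtain ⟨z, hz1, hz2⟩ := exists_polar2 hQ h'.2.2.2 1 0
  obtain ⟨y, hy1, hy2⟩ := exists_polar2 hQ h'.2.2.2 0 1
  obtain ⟨e1, e2⟩ := key z
  obtain ⟨e3, e4⟩ := key y
  rw [hz1, hz2] at e1 e2
  rw [hy1, hy2] at e3 e4
  simp only [zero_mul, one_mul, sub_zero, zero_sub, neg_eq_zero] at e1 e2 e3 e4
  exact ⟨e3, e1, e4, e2⟩

omit hQ in
/-- Orthogonal lines give commuting root elements. -/
theorem commute_of_orth {a b c d : V} (h : TS Q a b) (h' : TS Q c d)
    (hac : B a c = 0) (had : B a d = 0) (hbc : B b c = 0) (hbd : B b d = 0) :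
    Commute (eMat Q a b) (eMat Q c d) := by
  refine Matrix.ext_iff_mulVec.2 fun z => ?_
  simp only [← Matrix.mulVec_mulVec, eMat_mulVec, QuadraticMap.polar_add_right,
    QuadraticMap.polar_sub_right, QuadraticMap.polar_smul_right, h.2.1, h'.2.1, smul_eq_mul,
    QuadraticMap.polar_comm _ c a, QuadraticMap.polar_comm _ c b,
    QuadraticMap.polar_comm _ d a, QuadraticMap.polar_comm _ d b, hac, had, hbc, hbd]
  module

/-- For skew orthogonal lines the product is no root element. -/
theorem mul_not_mem {a b c d : V} (h : TS Q a b) (h' : TS Q c d)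
    (hdis : ∀ s t u v : F, s • a + t • b + u • c + v • d = 0 → s = 0 ∧ t = 0 ∧ u = 0 ∧ v = 0)
    (hac : B a c = 0) (had : B a d = 0) (hbc : B b c = 0) (hbd : B b d = 0) :
    ¬ (eMat Q a b * eMat Q c d ∈ rootSet Q ∨ eMat Q a b * eMat Q c d = 1) := by
  have him : ∀ z, (eMat Q a b * eMat Q c d) *ᵥ z - z =
      B a z • b + (-(B b z)) • a + B c z • d + (-(B d z)) • c := fun z => by
    simp only [← Matrix.mulVec_mulVec, eMat_mulVec, QuadraticMap.polar_add_right,
      QuadraticMap.polar_sub_right, QuadraticMap.polar_smul_right, h.2.1, h'.2.1, smul_eq_mul,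
      hac, had, hbc, hbd]
    module
  obtain ⟨za, ha1, ha2, ha3, ha4⟩ := exists_polar4 hQ hdis 0 (-1) 0 0
  obtain ⟨zb, hb1, hb2, hb3, hb4⟩ := exists_polar4 hQ hdis 1 0 0 0
  obtain ⟨zc, hc1, hc2, hc3, hc4⟩ := exists_polar4 hQ hdis 0 0 0 (-1)
  have iA := him za; rw [ha1, ha2, ha3, ha4] at iA
  have iB := him zb; rw [hb1, hb2, hb3, hb4] at iB
  have iC := him zc; rw [hc1, hc2, hc3, hc4] at iC
  rintro (⟨g, k, -, eq⟩ | eq)
  · have hg : ∀ z, ∃ s t : F, (eMat Q a b * eMat Q c d) *ᵥ z - z = s • g + t • k := fun z =>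
      ⟨-(B k z) - Q k * B g z, B g z, by rw [eq, eMat_mulVec]; module⟩
    obtain ⟨s1, t1, e1⟩ := hg za
    obtain ⟨s2, t2, e2⟩ := hg zb
    obtain ⟨s3, t3, e3⟩ := hg zc
    have hza : a = s1 • g + t1 • k := by linear_combination (norm := module) e1 - iA
    have hzb : b = s2 • g + t2 • k := by linear_combination (norm := module) e2 - iB
    have hzc : c = s3 • g + t3 • k := by linear_combination (norm := module) e3 - iC
    have h0 := hdis (s2 * t3 - s3 * t2) (s3 * t1 - s1 * t3) (s1 * t2 - s2 * t1) 0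
      (by rw [hza, hzb, hzc]; module)
    have h1 : s2 * t3 - s3 * t2 = 0 := h0.1
    have h2 : s3 * t1 - s1 * t3 = 0 := h0.2.1
    have h3 : s1 * t2 - s2 * t1 = 0 := h0.2.2.1
    have h4 := h.2.2.2 t2 (-t1) (by
      rw [hza, hzb]; linear_combination (norm := module) h3 • g)
    have h5 := h.2.2.2 s2 (-s1) (by
      rw [hza, hzb]; linear_combination (norm := module) (-h3) • k)
    have h6 : t1 = 0 := neg_eq_zero.1 h4.2
    have h7 : s1 = 0 := neg_eq_zero.1 h5.2
    exact h.left_ne (by rw [hza, h6, h7]; simp)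
  · rw [eq, Matrix.one_mulVec, sub_self] at iA
    exact h.left_ne (by linear_combination (norm := module) -iA)

end Cfsg.Agent.Classical.OrthAut
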