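import Cfsg.Agent.Lib.Classical.MaxSesq
import Cfsg.Agent.Lib.Classical.OrthRoots
import Cfsg.Agent.Lib.Classical.Witt
import Cfsg.Agent.Lib.Classical.NormalForms

/-!
In odd characteristic the similarity groups of quadratic forms are maximal in the special linear groups.

The stabiliser of a non-singular point `r` in an overgroup induces transvections modulo `r` with an axis that moves
around; two different lifts of one of them give a transvection.
-/

set_option autoImplicit false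
set_option linter.unusedSectionVars false

namespace Cfsg.Agent.Classical.MaxTv

open Matrix Module OrthAut

variable {F : Type*} [Field F] {ι : Type} [Fintype ι] [DecidableEq ι]

local notation "V" => (ι → F)
local notation "Mn" => Matrix ι ι F

theorem exists_ker_dot {ψ φ : V} (h : ∀ t : F, φ ≠ t • ψ) (c : F) : ∃ z, ψ ⬝ᵥ z = 0 ∧ φ ⬝ᵥ z = c := by
  obtain ⟨z, hz, hz'⟩ : ∃ z, ψ ⬝ᵥ z = 0 ∧ φ ⬝ᵥ z ≠ 0 := by
    by_contra hc
    push Not at hc
    by_cases hψ : ψ = 0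
    · refine h 0 ?_
      rw [zero_smul]
      exact dotProduct_eq_zero _ fun z => hc z (by rw [hψ, zero_dotProduct])
    obtain ⟨z, hz⟩ : ∃ z, ψ ⬝ᵥ z ≠ 0 := by
      by_contra hc'
      push Not at hc'
      exact hψ (dotProduct_eq_zero _ hc')
    refine h (φ ⬝ᵥ z / (ψ ⬝ᵥ z)) (dotProduct_eq _ _ fun x => ?_)
    have h1 := hc (x - (ψ ⬝ᵥ x / (ψ ⬝ᵥ z)) • z)
      (by rw [dotProduct_sub, dotProduct_smul, smul_eq_mul, div_mul_cancel₀ _ hz, sub_self])
    rw [dotProduct_sub, dotProduct_smul, sub_eq_zero] at h1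
    rw [h1, smul_dotProduct, smul_eq_mul, smul_eq_mul]
    ring
  exact ⟨(c / (φ ⬝ᵥ z)) • z, by rw [dotProduct_smul, hz, smul_zero],
    by rw [dotProduct_smul, smul_eq_mul, div_mul_cancel₀ _ hz']⟩

/-- A functional separating a vector from a subspace, as a row vector. -/
theorem exists_dot_sep (S : Submodule F V) {x : V} (hx : x ∉ S) :
    ∃ φ : V, φ ⬝ᵥ x = 1 ∧ ∀ z ∈ S, φ ⬝ᵥ z = 0 := by
  obtain ⟨a, ha1, ha2⟩ := Cfsg.Agent.Classical.exists_dual_eq_one S hx
  obtain ⟨φ, hφ⟩ := exists_dot (a : V →ₗ[F] F)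
  exact ⟨φ, by rw [hφ]; exact ha1, fun z hz => by rw [hφ]; exact ha2 z hz⟩

/-! ### Transvections modulo a point -/

/-- `K` has an element fixing `r` that is the transvection `(w, φ)` modulo `r`. -/
def QT (K : Subgroup (GL ι F)) (r w φ : V) : Prop :=
  φ ⬝ᵥ r = 0 ∧ φ ⬝ᵥ w = 0 ∧
    ∃ h ∈ K, ∃ ψ : V, ψ ⬝ᵥ r = 0 ∧ ∀ x : V, (h : Mn) *ᵥ x = x + (φ ⬝ᵥ x) • w + (ψ ⬝ᵥ x) • r

variable {K : Subgroup (GL ι F)} {r w φ ψ : ι → F}

theorem QT.zero (hφr : φ ⬝ᵥ r = 0) : QT K r 0 φ :=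
  ⟨hφr, dotProduct_zero _, 1, one_mem K, 0, zero_dotProduct _, fun x => by simp⟩

theorem QT.conj (h : QT K r w φ) {k : GL ι F} (hk : k ∈ K) {d : F} (hd : d ≠ 0)
    (hkr : (k : Mn) *ᵥ r = d • r) : QT K r ((k : Mn) *ᵥ w) (φ ᵥ* ((k⁻¹ : GL ι F) : Mn)) := by
  obtain ⟨hr, hw, g, hg, ψ, hψr, hgx⟩ := h
  have e : ∀ (θ : V), θ ⬝ᵥ r = 0 → (θ ᵥ* ((k⁻¹ : GL ι F) : Mn)) ⬝ᵥ r = 0 := fun θ hθ => by
    have h1 := vecMul_inv_dot k θ r
    rw [hkr, dotProduct_smul, hθ, smul_eq_mul] at h1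
    exact (mul_eq_zero.1 h1).resolve_left hd
  refine ⟨e φ hr, by rw [vecMul_inv_dot, hw], k * g * k⁻¹, mul_mem (mul_mem hk hg) (inv_mem hk),
    d • (ψ ᵥ* ((k⁻¹ : GL ι F) : Mn)), by rw [smul_dotProduct, e ψ hψr, smul_zero], fun x => ?_⟩
  rw [Units.val_mul, Units.val_mul, ← Matrix.mulVec_mulVec, ← Matrix.mulVec_mulVec, hgx, Matrix.mulVec_add,
    Matrix.mulVec_add, Matrix.mulVec_mulVec _ (k : Mn), ← Units.val_mul, mul_inv_cancel, Units.val_one,
    Matrix.one_mulVec, Matrix.mulVec_smul, Matrix.mulVec_smul, hkr, Matrix.dotProduct_mulVec,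
    Matrix.dotProduct_mulVec, smul_smul, smul_dotProduct, smul_eq_mul, mul_comm]

theorem QT.exists_fix (h : QT K r w φ) : ∃ k ∈ K, (k : Mn) *ᵥ r = r ∧
    (∀ x, φ ⬝ᵥ x = 0 → ∃ t : F, (k : Mn) *ᵥ x = x + t • r) ∧
    (∀ x, ∃ t : F, (k : Mn) *ᵥ x = x + (φ ⬝ᵥ x) • w + t • r) ∧
    ∀ θ : V, θ ⬝ᵥ r = 0 → θ ᵥ* ((k⁻¹ : GL ι F) : Mn) = θ - (θ ⬝ᵥ w) • φ := by
  obtain ⟨hr, hw, g, hg, ψ, hψr, hgx⟩ := h
  refine ⟨g, hg, by rw [hgx, hr, hψr, zero_smul, zero_smul, add_zero, add_zero],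
    fun x hx => ⟨ψ ⬝ᵥ x, by rw [hgx, hx, zero_smul, add_zero]⟩, fun x => ⟨_, hgx x⟩, fun θ hθ => ?_⟩
  refine dotProduct_eq _ _ fun y => ?_
  obtain ⟨x, rfl⟩ : ∃ x, (g : Mn) *ᵥ x = y := ⟨((g⁻¹ : GL ι F) : Mn) *ᵥ y, by
    rw [Matrix.mulVec_mulVec, ← Units.val_mul, mul_inv_cancel, Units.val_one, Matrix.one_mulVec]⟩
  rw [vecMul_inv_dot, hgx]
  simp only [sub_dotProduct, smul_dotProduct, dotProduct_add, dotProduct_smul, smul_eq_mul, hr, hw, hθ]
  ring

/-- The axes with all centres. -/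
def QAxis (K : Subgroup (GL ι F)) (r φ : V) : Prop :=
  φ ⬝ᵥ r = 0 ∧ ∀ w, φ ⬝ᵥ w = 0 → QT K r w φ

theorem QAxis.conj (h : QAxis K r φ) {k : GL ι F} (hk : k ∈ K) {d : F} (hd : d ≠ 0)
    (hkr : (k : Mn) *ᵥ r = d • r) : QAxis K r (φ ᵥ* ((k⁻¹ : GL ι F) : Mn)) := by
  have h0 := ((QT.zero (K := K) h.1).conj hk hd hkr).1
  refine ⟨h0, fun w hw => ?_⟩
  obtain ⟨x, rfl⟩ : ∃ x, (k : Mn) *ᵥ x = w := ⟨((k⁻¹ : GL ι F) : Mn) *ᵥ w, by
    rw [Matrix.mulVec_mulVec, ← Units.val_mul, mul_inv_cancel, Units.val_one, Matrix.one_mulVec]⟩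
  rw [vecMul_inv_dot] at hw
  exact (h.2 x hw).conj hk hd hkr

theorem QAxis.smul (h : QAxis K r φ) {c : F} (hc : c ≠ 0) : QAxis K r (c • φ) := by
  have h0 : (c • φ) ⬝ᵥ r = 0 := by rw [smul_dotProduct, h.1, smul_zero]
  refine ⟨h0, fun w hw => ?_⟩
  rw [smul_dotProduct, smul_eq_mul, mul_eq_zero] at hw
  obtain ⟨-, -, g, hg, ψ, hψr, hgx⟩ := h.2 (c • w) (by rw [dotProduct_smul, hw.resolve_left hc, smul_zero])
  refine ⟨h0, by rw [smul_dotProduct, hw.resolve_left hc, smul_zero], g, hg, ψ, hψr, fun x => ?_⟩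
  rw [hgx, smul_dotProduct, smul_eq_mul, smul_smul, mul_comm c]

theorem QAxis.add (h : φ = 0 ∨ QAxis K r φ) (h' : ψ = 0 ∨ QAxis K r ψ) :
    φ + ψ = 0 ∨ QAxis K r (φ + ψ) := by
  rcases h with rfl | h
  · simpa using h'
  rcases h' with rfl | h'
  · exact Or.inr (by simpa using h)
  by_cases hp : ∀ t : F, φ ≠ t • ψ
  · obtain ⟨z, hz1, hz2⟩ := exists_ker_dot hp (-1)
    obtain ⟨k, hk, hkr, -, -, hinv⟩ := (h'.2 z hz1).exists_fix
    have := h.conj hk one_ne_zero (by rw [hkr, one_smul])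
    rw [hinv φ h.1, hz2, neg_smul, one_smul, sub_neg_eq_add] at this
    exact Or.inr this
  · push Not at hp
    obtain ⟨t, rfl⟩ := hp
    rw [show t • ψ + ψ = (t + 1) • ψ by module]
    by_cases ht : t + 1 = 0
    · exact Or.inl (by rw [ht, zero_smul])
    · exact Or.inr (h'.smul ht)

/-! ### Centres with all axes -/

/-- The vectors all whose transvections lie in `K`. -/
def tvCentres (K : Subgroup (GL ι F)) : Submodule F V where
  carrier := {v | ∀ φ, φ ⬝ᵥ v = 0 → InT K v φ}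
  zero_mem' := fun φ _ => InT.zero_left φ
  smul_mem' := fun c v hv φ hφ => by
    by_cases hc : c = 0
    · rw [hc, zero_smul]; exact InT.zero_left φ
    have := (hv (c • φ) (by rwa [smul_dotProduct, ← dotProduct_smul])).smul_left c hc
    rwa [smul_smul, inv_mul_cancel₀ hc, one_smul] at this
  add_mem' := fun {v u} hv hu φ hφ => by
    by_cases hp : v ∈ Submodule.span F {u}
    · obtain ⟨t, rfl⟩ := Submodule.mem_span_singleton.1 hp
      have e : t • u + u = (t + 1) • u := by module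
      rw [e] at hφ ⊢
      by_cases ht : t + 1 = 0
      · rw [ht, zero_smul]; exact InT.zero_left φ
      have := (hu ((t + 1) • φ) (by rwa [smul_dotProduct, ← dotProduct_smul])).smul_left (t + 1) ht
      rwa [smul_smul, inv_mul_cancel₀ ht, one_smul] at this
    obtain ⟨θ, hθ1, hθ2⟩ := exists_dot_sep _ hp
    obtain ⟨k, hk, hkx⟩ := hu θ (hθ2 u (Submodule.mem_span_singleton_self u))
    have hkv : (k : Mn) *ᵥ v = v + u := by rw [hkx, hθ1, one_smul]
    have := (hv (φ ᵥ* (k : Mn)) (by rw [← Matrix.dotProduct_mulVec, hkv, hφ])).conj hk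
    rwa [hkv, Matrix.vecMul_vecMul, ← Units.val_mul, mul_inv_cancel, Units.val_one, Matrix.vecMul_one]
      at this

theorem tvCentres_conj {v : V} (hv : v ∈ tvCentres K) {k : GL ι F} (hk : k ∈ K) :
    (k : Mn) *ᵥ v ∈ tvCentres K := fun φ hφ => by
  have := (hv (φ ᵥ* (k : Mn)) (by rw [← Matrix.dotProduct_mulVec, hφ])).conj hk
  rwa [Matrix.vecMul_vecMul, ← Units.val_mul, mul_inv_cancel, Units.val_one, Matrix.vecMul_one] at this

/-! ### Quadratic forms -/

variable {Q : QuadraticForm F (ι → F)}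

set_option quotPrecheck false in
local notation "B" => QuadraticMap.polar ⇑Q

theorem exists_anisotropic_ker (hQ : (QuadraticMap.polarBilin Q).Nondegenerate) {k : ℕ}
    (L : Fin k → (V →ₗ[F] F)) (hk : 2 * k < Fintype.card ι) :
    ∃ z, (∀ i, L i z = 0) ∧ Q z ≠ 0 := by
  set W := LinearMap.ker (LinearMap.pi L) with hW
  have hdim : Fintype.card ι ≤ finrank F W + k := by
    have h1 := (LinearMap.pi L).finrank_range_add_finrank_ker
    have h2 := Submodule.finrank_le (LinearMap.range (LinearMap.pi L))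
    rw [finrank_pi, Fintype.card_fin] at h2
    rw [finrank_pi] at h1
    rw [hW]
    omega
  by_contra hc
  push Not at hc
  have hz : ∀ z ∈ W, Q z = 0 := fun z hz => hc z fun i => congrFun (LinearMap.mem_ker.1 hz) i
  have hle : W ≤ LinearMap.BilinForm.orthogonal (QuadraticMap.polarBilin Q) W := fun x hx y hy => by
    show B y x = 0
    rw [QuadraticMap.polar, hz _ (add_mem hy hx), hz y hy, hz x hx]; simp
  have h1 := Submodule.finrank_mono hle
  rw [LinearMap.BilinForm.finrank_orthogonal hQ, finrank_pi] at h1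
  omega

/-- The bound improves by one when an anisotropic vector is orthogonal to the common kernel. -/
theorem exists_anisotropic_ker' (hQ : (QuadraticMap.polarBilin Q).Nondegenerate) {k : ℕ}
    (L : Fin k → (V →ₗ[F] F)) (hk : 2 * k ≤ Fintype.card ι) {r : V} (hr : Q r ≠ 0)
    (hperp : ∀ z, (∀ i, L i z = 0) → B z r = 0) : ∃ z, (∀ i, L i z = 0) ∧ Q z ≠ 0 := by
  set W := LinearMap.ker (LinearMap.pi L) with hW
  have hdim : Fintype.card ι ≤ finrank F W + k := by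
    have h1 := (LinearMap.pi L).finrank_range_add_finrank_ker
    have h2 := Submodule.finrank_le (LinearMap.range (LinearMap.pi L))
    rw [finrank_pi, Fintype.card_fin] at h2
    rw [finrank_pi] at h1
    rw [hW]
    omega
  by_contra hc
  push Not at hc
  have hz : ∀ z ∈ W, Q z = 0 := fun z hz => hc z fun i => congrFun (LinearMap.mem_ker.1 hz) i
  have hrW : r ∉ W := fun h => hr (hz r h)
  have hlt : W < LinearMap.BilinForm.orthogonal (QuadraticMap.polarBilin Q) W := by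
    refine SetLike.lt_iff_le_and_exists.2 ⟨fun x hx y hy => ?_, r, fun y hy => ?_, hrW⟩
    · show B y x = 0
      rw [QuadraticMap.polar, hz _ (add_mem hy hx), hz y hy, hz x hx]; simp
    · exact hperp y fun i => congrFun (LinearMap.mem_ker.1 hy) i
  have h1 := Submodule.finrank_lt_finrank_of_lt hlt
  rw [LinearMap.BilinForm.finrank_orthogonal hQ, finrank_pi] at h1
  omega

theorem le_of_reflection_invariant (h2 : (2 : F) ≠ 0) {D S : Submodule F V} {x : V} (hxS : x ∈ S) (hxD : x ∈ D)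
    (hx : ∃ y ∈ D, B x y ≠ 0)
    (hinv : ∀ y ∈ S, y ∈ D → ∀ u ∈ D, Q u ≠ 0 → y - ((Q u)⁻¹ * B u y) • u ∈ S)
    (haux : ∀ v ∈ D, Q v = 0 → B v x ≠ 0 → ∃ z ∈ D, B x z = 0 ∧ B v z = 0 ∧ Q z ≠ 0) : D ≤ S := by
  have anis : ∀ u ∈ D, B u x ≠ 0 → Q u ≠ 0 → u ∈ S := fun u hu hux hQu => by
    have h1 := S.sub_mem hxS (hinv x hxS hxD u hu hQu)
    rw [sub_sub_cancel] at h1
    exact (S.smul_mem_iff (mul_ne_zero (inv_ne_zero hQu) hux)).1 h1
  have big : ∀ v ∈ D, B v x ≠ 0 → v ∈ S := fun v hv hvx => by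
    by_cases hQv : Q v ≠ 0
    · exact anis v hv hvx hQv
    push Not at hQv
    obtain ⟨z, hz, hxz, hvz, hQz⟩ := haux v hv hQv hvx
    have a1 : v + z ∈ S := by
      refine anis _ (add_mem hv hz) ?_ ?_
      · rw [QuadraticMap.polar_add_left, QuadraticMap.polar_comm _ z x, hxz, add_zero]; exact hvx
      · rw [quad_add, hQv, hvz, zero_add, add_zero]; exact hQz
    have a2 : v - z ∈ S := by
      refine anis _ (sub_mem hv hz) ?_ ?_
      · rw [QuadraticMap.polar_sub_left, QuadraticMap.polar_comm _ z x, hxz, sub_zero]; exact hvx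
      · rw [sub_eq_add_neg, quad_add, QuadraticMap.map_neg, hQv, QuadraticMap.polar_neg_right, hvz,
          neg_zero, zero_add, add_zero]; exact hQz
    have h1 := add_mem a1 a2
    rw [show v + z + (v - z) = (2 : F) • v by module] at h1
    exact (S.smul_mem_iff h2).1 h1
  obtain ⟨y, hy, hxy⟩ := hx
  rw [QuadraticMap.polar_comm] at hxy
  intro v hv
  by_cases hvx : B v x ≠ 0
  · exact big v hv hvx
  push Not at hvx
  have h1 := sub_mem (big (v + y) (add_mem hv hy) (by rw [QuadraticMap.polar_add_left, hvx, zero_add]; exact hxy))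
    (big y hy hxy)
  rwa [add_sub_cancel_right] at h1

theorem quadratic_similarity_maximal [Finite F] (hodd : (2 : F) ≠ 0) (hn : 4 ≤ Fintype.card ι)
    (Q₀ : (ι → F) → F) (hQ₀ : Geo.IsNondegenerateQuadraticForm Q₀) :
    Geo.IsMaximalIn (Geo.specialLinear ι F) (Geo.quadSimilarityGroup Q₀ ⊓ Geo.specialLinear ι F) := by
  classical
  obtain ⟨p, hp⟩ := CharP.exists F
  have hpf : Fact p.Prime := ⟨CharP.char_is_prime F p⟩
  obtain ⟨Qf, hQf⟩ : ∃ Qf : QuadraticForm F V, ⇑Qf = Q₀ :=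
    ⟨QuadraticMap.ofPolar Q₀ (fun a x => by rw [hQ₀.smul, smul_eq_mul, sq])
      (fun x x' y => hQ₀.polar_bilinear.add_left x x' y) (fun a x y => hQ₀.polar_bilinear.smul_left a x y), rfl⟩
  subst hQf
  set P := QuadraticMap.polar ⇑Qf with hP
  have hs : Sesq (RingEquiv.refl F) P :=
    { add_left := hQ₀.polar_bilinear.add_left
      smul_left := hQ₀.polar_bilinear.smul_left
      add_right := hQ₀.polar_bilinear.add_right
      smul_right := hQ₀.polar_bilinear.smul_right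
      eq_zero := fun w hw => by
        by_contra h0
        obtain ⟨x, hx⟩ := (hQ₀.nondegenerate w h0).1
        exact hx (hw x)
      refl := fun v w h => by rw [hP, QuadraticMap.polar_comm]; exact h }
  have hsym : ∀ a b, P a b = P b a := fun a b => QuadraticMap.polar_comm _ a b
  have hnd : (QuadraticMap.polarBilin Qf).Nondegenerate :=
    ⟨fun x h => hs.eq_zero x fun y => hs.refl _ _ (h y), fun x h => hs.eq_zero x fun y => h y⟩
  have memH : ∀ (M : Mn) (hd : M.det = 1), (∀ x, Qf (M *ᵥ x) = Qf x) →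
      ∃ g : GL ι F, g ∈ Geo.quadSimilarityGroup ⇑Qf ⊓ Geo.specialLinear ι F ∧ (g : Mn) = M := by
    intro M hd hM
    refine ⟨Matrix.GeneralLinearGroup.mkOfDetNeZero M (by rw [hd]; exact one_ne_zero),
      ⟨⟨1, fun v => ?_⟩, MonoidHom.mem_ker.2 (Units.ext ?_)⟩, rfl⟩
    · rw [Units.val_one, one_mul]; exact hM v
    · rw [Matrix.GeneralLinearGroup.val_det_apply]; exact hd
  -- a hyperbolic pair
  obtain ⟨e, -, he0, hQe⟩ := exists_singular_in Qf (W := ⊤)
    (fun w _ hw => by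
      obtain ⟨x, hx⟩ := hs.exists_left hw
      exact ⟨x, trivial, fun h => hx (hs.refl _ _ h)⟩)
    (by rw [finrank_top, finrank_pi]; omega)
  refine isMaximalIn_intro inf_le_right (fun hle => ?_) fun K hHK hKSL g hgK hgH => ?_
  · obtain ⟨r, -, hr⟩ := exists_anisotropic_ker hnd (k := 0) (fun i => i.elim0) (by omega)
    obtain ⟨φ, hφ1, hφ2⟩ := exists_dot_sep (Submodule.span F {r}) (x := e) (fun hmem => by
      obtain ⟨t, rfl⟩ := Submodule.mem_span_singleton.1 hmem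
      rw [QuadraticMap.map_smul, smul_eq_mul, mul_eq_zero] at hQe
      rcases hQe with h | h
      · exact he0 (by rw [mul_self_eq_zero.1 h, zero_smul])
      · exact hr h)
    have hφr := hφ2 r (Submodule.mem_span_singleton_self r)
    obtain ⟨t, ht⟩ := exists_tv hφr
    obtain ⟨c, hc⟩ := (hle (det_tv ht hφr)).1
    have hc1 : (c : F) = 1 := by
      have := hc r
      rw [ht, hφr, zero_smul, add_zero] at this
      exact mul_right_cancel₀ hr (by rw [one_mul]; exact this.symm)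
    have key : ∀ x, φ ⬝ᵥ x ≠ 0 → P x r + (φ ⬝ᵥ x) * Qf r = 0 := fun x hx => by
      have := hc x
      rw [ht, quad_add_smul, hc1, one_mul] at this
      exact mul_left_cancel₀ hx (by linear_combination this)
    have h1 := key e (by rw [hφ1]; exact one_ne_zero)
    have h2 := key (e + r) (by rw [dotProduct_add, hφ1, hφr, add_zero]; exact one_ne_zero)
    rw [dotProduct_add, hφr, add_zero, hs.add_left, hP, polar_self2] at h2
    exact mul_ne_zero hodd hr (by linear_combination h2 - h1)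
  have hgdet : g ∈ Geo.specialLinear ι F := hKSL hgK
  obtain ⟨f₀, hf₀⟩ := hs.exists_one he0
  -- `g` does not map all singular vectors to singular vectors
  obtain ⟨q, hQq, hQr⟩ : ∃ q, Qf q = 0 ∧ Qf ((g : Mn) *ᵥ q) ≠ 0 := by
    by_contra hcon
    push Not at hcon
    obtain ⟨Q', hQ'⟩ : ∃ Q' : QuadraticForm F V, ∀ x, Q' x = Qf ((g : Mn) *ᵥ x) :=
      ⟨Qf.comp (Matrix.mulVecLin (g : Mn)), fun x => rfl⟩
    set f := f₀ - Qf f₀ • e with hf
    have hPee : P e e = 0 := polar_self' hQe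
    have hef : P e f = 1 := by
      rw [hf, hs.sub_right, hsym e f₀, hf₀, hs.smul_right, hPee, mul_zero, sub_zero]
    have hQff : Qf f = 0 := by
      rw [hf, sub_eq_add_neg, ← neg_smul, quad_add_smul, hQe, show QuadraticMap.polar (⇑Qf) f₀ e = 1 from hf₀]
      ring
    set c := QuadraticMap.polar ⇑Q' e f with hc
    have z : ∀ x, Qf x = 0 → Q' x = 0 := fun x hx => by rw [hQ']; exact hcon x hx
    have Q'ab : ∀ (a b : F) (x : V), Q' (a • e + b • f + x) =
        Q' x + a * b * c + a * QuadraticMap.polar ⇑Q' e x + b * QuadraticMap.polar ⇑Q' f x := fun a b x => by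
      rw [quad_add, quad_lin, z e hQe, z f hQff, QuadraticMap.polar_add_left, QuadraticMap.polar_smul_left,
        QuadraticMap.polar_smul_left, smul_eq_mul, smul_eq_mul]
      ring
    have Qab : ∀ (a b : F) (x : V), P e x = 0 → P f x = 0 → Qf (a • e + b • f + x) = a * b + Qf x :=
      fun a b x h1 h2 => by
      rw [quad_add, quad_lin, hQe, hQff, QuadraticMap.polar_add_left, QuadraticMap.polar_smul_left,
        QuadraticMap.polar_smul_left, show QuadraticMap.polar (⇑Qf) e x = 0 from h1,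
        show QuadraticMap.polar (⇑Qf) f x = 0 from h2, show QuadraticMap.polar (⇑Qf) e f = 1 from hef,
        smul_eq_mul, smul_eq_mul]
      ring
    have k1 : ∀ x, P e x = 0 → P f x = 0 → Q' x = c * Qf x ∧
        QuadraticMap.polar ⇑Q' e x = Qf x * QuadraticMap.polar ⇑Q' f x := fun x h1 h2 => by
      have a1 := z _ (show Qf ((1 : F) • e + (-Qf x) • f + x) = 0 by rw [Qab _ _ x h1 h2]; ring)
      have a2 := z _ (show Qf ((-1 : F) • e + Qf x • f + x) = 0 by rw [Qab _ _ x h1 h2]; ring)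
      rw [Q'ab] at a1 a2
      exact ⟨mul_left_cancel₀ hodd (by linear_combination a1 + a2),
        mul_left_cancel₀ hodd (by linear_combination a1 - a2)⟩
    have k2 : ∀ x, P e x = 0 → P f x = 0 →
        QuadraticMap.polar ⇑Q' f x = 0 ∧ QuadraticMap.polar ⇑Q' e x = 0 := fun x h1 h2 => by
      refine (fun hL => ⟨hL, by rw [(k1 x h1 h2).2, hL, mul_zero]⟩) ?_
      by_contra hx0
      obtain ⟨L, hL⟩ : ∃ L : V →ₗ[F] F, L = (QuadraticMap.polarBilin Q') f := ⟨_, rfl⟩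
      have hL' : ∀ y, L y = QuadraticMap.polar ⇑Q' f y := fun y => by rw [hL]; rfl
      -- the parallelogram of the identity
      have par : ∀ u v, P e u = 0 → P f u = 0 → P e v = 0 → P f v = 0 →
          Qf v * L u + P u v * L v = 0 := fun u v u1 u2 v1 v2 => by
        rw [hL', hL']
        have a3 := (k1 _ (show P e (u + v) = 0 by rw [hs.add_right, u1, v1, add_zero])
          (show P f (u + v) = 0 by rw [hs.add_right, u2, v2, add_zero])).2
        have a4 := (k1 _ (show P e (u - v) = 0 by rw [hs.sub_right, u1, v1, sub_zero])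
          (show P f (u - v) = 0 by rw [hs.sub_right, u2, v2, sub_zero])).2
        rw [quad_add, QuadraticMap.polar_add_right, QuadraticMap.polar_add_right, (k1 u u1 u2).2,
          (k1 v v1 v2).2] at a3
        rw [sub_eq_add_neg, quad_add, QuadraticMap.map_neg, QuadraticMap.polar_neg_right,
          QuadraticMap.polar_add_right, QuadraticMap.polar_add_right, QuadraticMap.polar_neg_right,
          QuadraticMap.polar_neg_right, (k1 u u1 u2).2, (k1 v v1 v2).2] at a4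
        exact mul_left_cancel₀ hodd (by
          show (2 : F) * (Qf v * QuadraticMap.polar ⇑Q' f u + QuadraticMap.polar (⇑Qf) u v * QuadraticMap.polar ⇑Q' f v) = 2 * 0
          linear_combination -a3 - a4)
      obtain ⟨y, hy, hy0⟩ := Submodule.exists_mem_ne_zero_of_ne_bot (LinearMap.ker_ne_bot_of_finrank_lt
        (f := LinearMap.pi ![hs.lin e, hs.lin f, L]) (by rw [finrank_pi, finrank_pi, Fintype.card_fin]; omega))
      have hy' := fun i => congrFun (LinearMap.mem_ker.1 hy) i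
      have y1 : P e y = 0 := hs.refl _ _ (hy' 0)
      have y2 : P f y = 0 := hs.refl _ _ (hy' 1)
      have y4 : L y = 0 := hy' 2
      have hxL : L x ≠ 0 := by rw [hL']; exact hx0
      -- on the kernel the form vanishes
      have hker : ∀ w, P e w = 0 → P f w = 0 → L w = 0 → Qf w = 0 ∧ P x w = 0 := fun w w1 w2 w4 => by
        have b1 := par x w h1 h2 w1 w2
        have b2 := par w x w1 w2 h1 h2
        rw [w4, mul_zero, add_zero] at b1
        rw [w4, mul_zero, zero_add, hsym] at b2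
        exact ⟨(mul_eq_zero.1 b1).resolve_right hxL, (mul_eq_zero.1 b2).resolve_right hxL⟩
      refine hy0 (hs.eq_zero y fun v => ?_)
      obtain ⟨u, hu⟩ : ∃ u, u = v - P v f • e - P v e • f := ⟨_, rfl⟩
      have u1 : P e u = 0 := by
        rw [hsym, hu, hs.sub_left, hs.sub_left, hs.smul_left, hs.smul_left, hPee, hsym f e, hef]; ring
      have u2 : P f u = 0 := by
        rw [hsym, hu, hs.sub_left, hs.sub_left, hs.smul_left, hs.smul_left, hef,
          show P f f = 0 from polar_self' hQff]; ring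
      obtain ⟨w, hw⟩ : ∃ w, w = u - (L u / L x) • x := ⟨_, rfl⟩
      have w1 : P e w = 0 := by rw [hw, hs.sub_right, hs.smul_right, h1, u1, mul_zero, sub_zero]
      have w2 : P f w = 0 := by rw [hw, hs.sub_right, hs.smul_right, h2, u2, mul_zero, sub_zero]
      have w4 : L w = 0 := by rw [hw, map_sub, map_smul, smul_eq_mul, div_mul_cancel₀ _ hxL, sub_self]
      have c1 := (hker (w + y) (by rw [hs.add_right, w1, y1, add_zero]) (by rw [hs.add_right, w2, y2, add_zero])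
        (by rw [map_add, w4, y4, add_zero])).1
      rw [quad_add, (hker w w1 w2 w4).1, (hker y y1 y2 y4).1, zero_add, zero_add] at c1
      have c2 : P w y = 0 := c1
      rw [show v = P v f • e + P v e • f + ((L u / L x) • x + w) by rw [hw, hu]; abel]
      simp only [hs.add_left, hs.smul_left, y1, y2, c2, (hker y y1 y2 y4).2, mul_zero, add_zero]
    have prop : ∀ v, Q' v = c * Qf v := fun v => by
      obtain ⟨x, hx⟩ : ∃ x, x = v - P v f • e - P v e • f := ⟨_, rfl⟩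
      have h1 : P e x = 0 := by
        rw [hsym, hx, hs.sub_left, hs.sub_left, hs.smul_left, hs.smul_left, hPee, hsym f e, hef]; ring
      have h2 : P f x = 0 := by
        rw [hsym, hx, hs.sub_left, hs.sub_left, hs.smul_left, hs.smul_left, hef,
          show P f f = 0 from polar_self' hQff]; ring
      have hv : v = P v f • e + P v e • f + x := by rw [hx]; abel
      rw [hv, Q'ab, Qab _ _ x h1 h2, (k1 x h1 h2).1, (k2 x h1 h2).1, (k2 x h1 h2).2]
      ring
    have hc0 : c ≠ 0 := fun h0 => by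
      obtain ⟨r, -, hr⟩ := exists_anisotropic_ker hnd (k := 0) (fun i => i.elim0) (by omega)
      have := prop (((g⁻¹ : GL ι F) : Mn) *ᵥ r)
      rw [hQ', Matrix.mulVec_mulVec, ← Units.val_mul, mul_inv_cancel, Units.val_one, Matrix.one_mulVec, h0,
        zero_mul] at this
      exact hr this
    exact hgH ⟨⟨Units.mk0 c hc0, fun v => by rw [Units.val_mk0, ← hQ']; exact prop v⟩, hgdet⟩
  have hq0 : q ≠ 0 := fun h => hQr (by rw [h, Matrix.mulVec_zero, QuadraticMap.map_zero])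
  obtain ⟨r, hr⟩ : ∃ r, r = (g : Mn) *ᵥ q := ⟨_, rfl⟩
  rw [← hr] at hQr
  set gi := ((g⁻¹ : GL ι F) : Mn) with hgi
  have ggi : ∀ x, (g : Mn) *ᵥ (gi *ᵥ x) = x := fun x => by
    rw [Matrix.mulVec_mulVec, ← Units.val_mul, mul_inv_cancel, Units.val_one, Matrix.one_mulVec]
  have two : ∀ u z, Qf u ≠ 0 → Qf z ≠ 0 → ∃ k ∈ K, ∀ x : V, (k : Mn) *ᵥ x =
      reflectionMatrix ⇑Qf u *ᵥ (reflectionMatrix ⇑Qf z *ᵥ x) ∧ Qf ((k : Mn) *ᵥ x) = Qf x := by
    intro u z hu hz
    obtain ⟨k, hk, hkM⟩ := memH (reflectionMatrix ⇑Qf u * reflectionMatrix ⇑Qf z)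
      (by rw [Matrix.det_mul, det_reflection _ hu, det_reflection _ hz, neg_mul_neg, one_mul])
      (fun x => by rw [← Matrix.mulVec_mulVec, reflection_preserves _ hu, reflection_preserves _ hz])
    exact ⟨k, hHK hk, fun x => ⟨by rw [hkM, Matrix.mulVec_mulVec],
      by rw [hkM, ← Matrix.mulVec_mulVec, reflection_preserves _ hu, reflection_preserves _ hz]⟩⟩
  -- conjugated Siegel elements
  have siegel : ∀ w₀, P q w₀ = 0 → ∃ h ∈ K, ∀ x : V,
      (h : Mn) *ᵥ ((g : Mn) *ᵥ x) = (g : Mn) *ᵥ x + P q x • ((g : Mn) *ᵥ w₀) +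
        (-(P w₀ x) - Qf w₀ * P q x) • r ∧
      (h : Mn) *ᵥ ((h : Mn) *ᵥ ((g : Mn) *ᵥ x)) + (g : Mn) *ᵥ x =
        (h : Mn) *ᵥ ((g : Mn) *ᵥ x) + (h : Mn) *ᵥ ((g : Mn) *ᵥ x) + (-(2 * Qf w₀ * P q x)) • r := by
    intro w₀ hw₀
    have ok : OK Qf q w₀ := ⟨hQq, hw₀⟩
    obtain ⟨k, hk, hkM⟩ := memH (eMat Qf q w₀) (det_eMat (p := p) ok) (eMat_quad ok)
    refine ⟨g * k * g⁻¹, mul_mem (mul_mem hgK (hHK hk)) (inv_mem hgK), fun x => ?_⟩
    have hgk : ∀ y, ((g * k * g⁻¹ : GL ι F) : Mn) *ᵥ ((g : Mn) *ᵥ y) = (g : Mn) *ᵥ (eMat Qf q w₀ *ᵥ y) :=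
      fun y => by
      rw [← hkM, Matrix.mulVec_mulVec, Matrix.mulVec_mulVec, ← Units.val_mul, ← Units.val_mul,
        inv_mul_cancel_right]
    refine ⟨?_, ?_⟩
    · rw [hgk, eMat_mulVec, hr, hP]
      simp only [Matrix.mulVec_sub, Matrix.mulVec_add, Matrix.mulVec_smul]
      module
    · rw [hgk, hgk, hr, Matrix.mulVec_mulVec _ (eMat Qf q w₀), eMat_mul ok ok, ← Matrix.mulVec_add,
        ← Matrix.mulVec_smul, ← Matrix.mulVec_add, ← Matrix.mulVec_add]
      congr 1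
      rw [eMat_mulVec, eMat_mulVec, quad_add, polar_self2, hP]
      simp only [QuadraticMap.polar_add_left]
      module
  obtain ⟨φ₀, hφ₀⟩ : ∃ φ₀, φ₀ = fn P q ᵥ* gi := ⟨_, rfl⟩
  have dot0 : ∀ (a x : V), (fn P a ᵥ* gi) ⬝ᵥ ((g : Mn) *ᵥ x) = P a x := fun a x => by
    rw [vecMul_inv_dot, fn_dot hs, hsym]
  have hqq : P q q = 0 := polar_self' hQq
  have hφ₀r : φ₀ ⬝ᵥ r = 0 := by rw [hφ₀, hr, dot0, hqq]
  have hax : QAxis K r φ₀ := by
    refine ⟨hφ₀r, fun w hw => ?_⟩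
    rw [← ggi w, hφ₀, dot0] at hw
    obtain ⟨h, hh, hhx⟩ := siegel _ hw
    refine ⟨hφ₀r, by rw [← ggi w, hφ₀, dot0, hw], h, hh, -(fn P (gi *ᵥ w) ᵥ* gi) - Qf (gi *ᵥ w) • φ₀, ?_,
      fun x => ?_⟩
    · rw [sub_dotProduct, neg_dotProduct, smul_dotProduct, hφ₀r, hr, dot0, hsym, hw]; simp
    · have := (hhx (gi *ᵥ x)).1
      rw [ggi, ggi] at this
      rw [this]
      congr 1
      · rw [hφ₀]; congr 2; conv_rhs => rw [← ggi x, dot0]
      · congr 1
        rw [sub_dotProduct, neg_dotProduct, smul_dotProduct, hφ₀, smul_eq_mul]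
        conv_rhs => rw [← ggi x, dot0, dot0]
  have hφ₀0 : φ₀ ≠ 0 := fun h => by
    obtain ⟨x, hx⟩ := hs.exists_left hq0
    apply hx
    rw [hsym, ← dot0 q x, ← hφ₀, h, zero_dotProduct]
  -- all axes
  have allAx : ∀ φ : V, φ ⬝ᵥ r = 0 → ∀ w, φ ⬝ᵥ w = 0 → QT K r w φ := by
    let S : Submodule F V :=
      { carrier := {w | fn P w = 0 ∨ QAxis K r (fn P w)}
        zero_mem' := Or.inl (fn_zero hs)
        add_mem' := fun {a b} ha hb => by
          show fn P (a + b) = 0 ∨ QAxis K r (fn P (a + b))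
          rw [fn_add hs]; exact QAxis.add ha hb
        smul_mem' := fun c a ha => by
          show fn P (c • a) = 0 ∨ QAxis K r (fn P (c • a))
          rw [fn_smul hs, RingEquiv.refl_apply]
          rcases ha with ha | ha
          · exact Or.inl (by rw [ha, smul_zero])
          by_cases hc : c = 0
          · exact Or.inl (by rw [hc, zero_smul])
          · exact Or.inr (ha.smul hc) }
    set D : Submodule F V := LinearMap.ker (hs.lin r) with hD
    have hDS : D ≤ S := by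
      obtain ⟨x, hx⟩ := fn_surjective hs φ₀
      have hxr : P x r = 0 := hs.refl _ _ (by rw [← fn_dot hs, hx, hφ₀r])
      have hx0 : x ≠ 0 := fun h => hφ₀0 (by rw [← hx, h, fn_zero hs])
      refine le_of_reflection_invariant (Q := Qf) (x := x) hodd (Or.inr (by rw [hx]; exact hax)) hxr ?_ ?_ ?_
      · obtain ⟨a, ha⟩ := hs.exists_left hx0
        refine ⟨a - (P a r / P r r) • r, ?_, ?_⟩
        · show P (a - (P a r / P r r) • r) r = 0
          rw [hs.sub_left, hs.smul_left, div_mul_cancel₀ _ (by rw [hP, polar_self2]; exact mul_ne_zero hodd hQr),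
            sub_self]
        · show P x _ ≠ 0
          rw [hs.sub_right, hs.smul_right, hxr, mul_zero, sub_zero, hsym]; exact ha
      · intro y hy hyD u hu hQu
        have hyr : P r y = 0 := hs.refl _ _ hyD
        have hur : P u r = 0 := hu
        obtain ⟨k, hk, hkx⟩ := two u r hQu hQr
        have hky : (k : Mn) *ᵥ y = y - ((Qf u)⁻¹ * P u y) • u := by
          rw [(hkx y).1, reflectionMatrix_mulVec _ r y, show QuadraticMap.polar (⇑Qf) r y = 0 from hyr, mul_zero,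
            zero_smul, sub_zero, reflectionMatrix_mulVec]
        have hkr : (k : Mn) *ᵥ r = (-1 : F) • r := by
          rw [(hkx r).1, reflectionMatrix_mulVec _ r r, polar_self2,
            show (Qf r)⁻¹ * (2 * Qf r) = 2 by field_simp, show r - (2 : F) • r = (-1 : F) • r by module,
            reflectionMatrix_mulVec, QuadraticMap.polar_smul_right,
            show QuadraticMap.polar (⇑Qf) u r = 0 from hur, smul_zero, mul_zero, zero_smul, sub_zero]
        show fn P _ = 0 ∨ QAxis K r (fn P _)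
        rw [← hky]
        have e : fn P ((k : Mn) *ᵥ y) = fn P y ᵥ* ((k⁻¹ : GL ι F) : Mn) := (fn_ext hs fun z => by
          obtain ⟨z', rfl⟩ : ∃ z', (k : Mn) *ᵥ z' = z := ⟨((k⁻¹ : GL ι F) : Mn) *ᵥ z, by
            rw [Matrix.mulVec_mulVec, ← Units.val_mul, mul_inv_cancel, Units.val_one, Matrix.one_mulVec]⟩
          rw [vecMul_inv_dot, fn_dot hs, hP, QuadraticMap.polar, QuadraticMap.polar, ← Matrix.mulVec_add,
            (hkx _).2, (hkx _).2, (hkx _).2]).symm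
        rw [e]
        rcases hy with hy | hy
        · exact Or.inl (by rw [hy, Matrix.zero_vecMul])
        · exact Or.inr (hy.conj hk (neg_ne_zero.2 one_ne_zero) hkr)
      · intro v hvr hQv hvx
        obtain ⟨z, hz, hz0⟩ := Submodule.exists_mem_ne_zero_of_ne_bot (LinearMap.ker_ne_bot_of_finrank_lt
          (f := LinearMap.pi ![hs.lin r, hs.lin x, hs.lin v]) (by
            rw [finrank_pi, finrank_pi, Fintype.card_fin]; omega))
        have hz' := fun i => congrFun (LinearMap.mem_ker.1 hz) i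
        have z1 : P z r = 0 := hz' 0
        have z2 : P z x = 0 := hz' 1
        have z3 : P z v = 0 := hz' 2
        by_cases hQz : Qf z ≠ 0
        · exact ⟨z, z1, hs.refl _ _ z2, hs.refl _ _ z3, hQz⟩
        push Not at hQz
        obtain ⟨u, hu⟩ := hs.exists_left hz0
        have hvr' : P v r = 0 := hvr
        have hvx' : P v x ≠ 0 := hvx
        have hPvv : P v v = 0 := polar_self' hQv
        have hrr : P r r ≠ 0 := by rw [hP, polar_self2]; exact mul_ne_zero hodd hQr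
        obtain ⟨u', hu'⟩ : ∃ u', u' = u - (P u r / P r r) • r - (P u v / P v x) • x -
            ((P u x - P u v / P v x * P x x) / P v x) • v := ⟨_, rfl⟩
        have u1 : P u' r = 0 := by
          simp only [hu', hs.sub_left, hs.smul_left, hxr, hvr', div_mul_cancel₀ _ hrr]; ring
        have u2 : P u' x = 0 := by
          simp only [hu', hs.sub_left, hs.smul_left, hsym r x, hxr]; field_simp; ring
        have u3 : P u' v = 0 := by
          simp only [hu', hs.sub_left, hs.smul_left, hsym r v, hvr', hPvv, hsym x v]; field_simp; ring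
        have u4 : P u' z ≠ 0 := by
          simp only [hu', hs.sub_left, hs.smul_left, hsym r z, z1, hsym x z, z2, hsym v z, z3, mul_zero, sub_zero]
          exact hu
        by_cases hQu : Qf u' ≠ 0
        · exact ⟨u', u1, hs.refl _ _ u2, hs.refl _ _ u3, hQu⟩
        push Not at hQu
        refine ⟨u' + z, ?_, ?_, ?_, ?_⟩
        · show P (u' + z) r = 0
          rw [hs.add_left, u1, z1, add_zero]
        · exact hs.refl _ _ (by rw [hs.add_left, u2, z2, add_zero])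
        · exact hs.refl _ _ (by rw [hs.add_left, u3, z3, add_zero])
        · rw [quad_add, hQu, hQz, zero_add, zero_add]; exact u4
    intro φ hφ w hw
    by_cases h0 : φ = 0
    · subst h0
      exact ⟨hφ, hw, 1, one_mem K, 0, zero_dotProduct _, fun x => by simp⟩
    obtain ⟨a, rfl⟩ := fn_surjective hs φ
    have haD : a ∈ D := hs.refl _ _ (by rwa [fn_dot hs] at hφ)
    exact ((hDS haD).resolve_left h0).2 w hw
  -- two lifts of one transvection modulo `r`
  obtain ⟨f₁, hf₁⟩ := hs.exists_one hq0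
  obtain ⟨w₁, w₂, hw₁q, hw₂q, hw₁f, hw₂f, hind, hw₂0, hQne⟩ : ∃ w₁ w₂, P q w₁ = 0 ∧ P q w₂ = 0 ∧ P f₁ w₁ = 0 ∧
      P f₁ w₂ = 0 ∧ (∀ t : F, w₁ ≠ t • w₂) ∧ w₂ ≠ 0 ∧ Qf w₁ ≠ Qf w₂ := by
    have hWnd : ∀ w ∈ (LinearMap.ker (hs.lin q) ⊓ LinearMap.ker (hs.lin f₁) : Submodule F V), w ≠ 0 →
        ∃ u ∈ (LinearMap.ker (hs.lin q) ⊓ LinearMap.ker (hs.lin f₁) : Submodule F V),
          QuadraticMap.polarBilin Qf w u ≠ 0 := by
      intro w hw hw0
      obtain ⟨hwq, hwf⟩ : P w q = 0 ∧ P w f₁ = 0 := hw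
      obtain ⟨x, hx⟩ := hs.exists_left hw0
      have hqf : P q f₁ = 1 := by rw [hsym]; exact hf₁
      refine ⟨x - (P x q) • f₁ - (P x f₁ - P x q * P f₁ f₁) • q, ⟨?_, ?_⟩, ?_⟩
      · show P _ q = 0
        rw [hs.sub_left, hs.sub_left, hs.smul_left, hs.smul_left, hf₁, hqq]; ring
      · show P _ f₁ = 0
        rw [hs.sub_left, hs.sub_left, hs.smul_left, hs.smul_left, hqf]; ring
      · show P w _ ≠ 0
        rw [hsym, hs.sub_left, hs.sub_left, hs.smul_left, hs.smul_left, hsym f₁ w, hwf, hsym q w, hwq]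
        simpa using hx
    obtain ⟨w₂, hw₂W, hQw₂⟩ : ∃ w ∈ (LinearMap.ker (hs.lin q) ⊓ LinearMap.ker (hs.lin f₁) : Submodule F V),
        Qf w ≠ 0 := by
      by_contra hc
      push Not at hc
      obtain ⟨w, hw, hw0⟩ := Submodule.exists_mem_ne_zero_of_ne_bot (LinearMap.ker_ne_bot_of_finrank_lt
        (f := LinearMap.pi ![hs.lin q, hs.lin f₁]) (by rw [finrank_pi, finrank_pi, Fintype.card_fin]; omega))
      have hwW : w ∈ (LinearMap.ker (hs.lin q) ⊓ LinearMap.ker (hs.lin f₁) : Submodule F V) :=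
        ⟨congrFun (LinearMap.mem_ker.1 hw) 0, congrFun (LinearMap.mem_ker.1 hw) 1⟩
      obtain ⟨u, hu, hwu⟩ := hWnd w hwW hw0
      refine hwu ?_
      rw [QuadraticMap.polarBilin_apply_apply, QuadraticMap.polar, hc _ (add_mem hwW hu), hc w hwW, hc u hu]
      simp
    have hw₂0 : w₂ ≠ 0 := fun e => hQw₂ (by rw [e, QuadraticMap.map_zero])
    obtain ⟨w, hw, hw0⟩ := Submodule.exists_mem_ne_zero_of_ne_bot (LinearMap.ker_ne_bot_of_finrank_lt
      (f := LinearMap.pi ![hs.lin q, hs.lin f₁, hs.lin w₂]) (by rw [finrank_pi, finrank_pi, Fintype.card_fin]; omega))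
    have hw' := fun i => congrFun (LinearMap.mem_ker.1 hw) i
    have e1 : P q w = 0 := hs.refl _ _ (hw' 0)
    have e2 : P f₁ w = 0 := hs.refl _ _ (hw' 1)
    have e3 : P w w₂ = 0 := hw' 2
    have g1 : P q w₂ = 0 := hs.refl _ _ hw₂W.1
    have g2 : P f₁ w₂ = 0 := hs.refl _ _ hw₂W.2
    have hne : ∀ t : F, w ≠ t • w₂ := fun t e => by
      have h3 := e3
      rw [e, hs.smul_left, hP, polar_self2, mul_eq_zero, or_iff_left (mul_ne_zero hodd hQw₂)] at h3
      exact hw0 (by rw [e, h3, zero_smul])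
    by_cases hQ : Qf w = Qf w₂
    · refine ⟨w + w₂, w₂, by rw [hs.add_right, e1, g1, add_zero], g1, by rw [hs.add_right, e2, g2, add_zero], g2,
        fun t e => hne (t - 1) (by rw [sub_smul, one_smul, ← e, add_sub_cancel_right]), hw₂0, fun e => hQw₂ ?_⟩
      rw [quad_add, show QuadraticMap.polar (⇑Qf) w w₂ = 0 from e3, hQ] at e
      linear_combination e
    · exact ⟨w, w₂, e1, g1, e2, g2, hne, hw₂0, hQ⟩
  have inj : Function.Injective fun x : V => (g : Mn) *ᵥ x := fun a b h => by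
    have h' := congrArg (gi *ᵥ ·) h
    simp only [Matrix.mulVec_mulVec, hgi, ← Units.val_mul, inv_mul_cancel, Units.val_one, Matrix.one_mulVec] at h'
    exact h'
  set a₁ := (g : Mn) *ᵥ w₁ with ha₁
  set a₂ := (g : Mn) *ᵥ w₂ with ha₂
  have n1 : a₁ ∉ Submodule.span F {r, a₂} := fun h => by
    obtain ⟨s, t, hst⟩ := Submodule.mem_span_pair.1 h
    rw [hr, ha₁, ha₂, ← Matrix.mulVec_smul, ← Matrix.mulVec_smul, ← Matrix.mulVec_add] at hst
    have e := inj hst
    have hs' : s = 0 := by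
      rw [← e, hs.add_right, hs.smul_right, hs.smul_right, hf₁, hw₂f] at hw₁f
      simpa using hw₁f
    rw [hs', zero_smul, zero_add] at e
    exact hind t e.symm
  have n2 : a₂ ∉ Submodule.span F {r, a₁} := fun h => by
    obtain ⟨s, t, hst⟩ := Submodule.mem_span_pair.1 h
    rw [hr, ha₁, ha₂, ← Matrix.mulVec_smul, ← Matrix.mulVec_smul, ← Matrix.mulVec_add] at hst
    have e := inj hst
    have hs' : s = 0 := by
      rw [← e, hs.add_right, hs.smul_right, hs.smul_right, hf₁, hw₁f] at hw₂f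
      simpa using hw₂f
    rw [hs', zero_smul, zero_add] at e
    have ht : t ≠ 0 := fun e' => hw₂0 (by rw [← e, e', zero_smul])
    exact hind t⁻¹ (by rw [← e, smul_smul, inv_mul_cancel₀ ht, one_smul])
  obtain ⟨ψ₁, hψ₁1, hψ₁0⟩ := exists_dot_sep _ n1
  obtain ⟨ψ₂, hψ₂1, hψ₂0⟩ := exists_dot_sep _ n2
  have m1 : ∀ (θ : V) (a b : V), (∀ z ∈ Submodule.span F {a, b}, θ ⬝ᵥ z = 0) → θ ⬝ᵥ a = 0 ∧ θ ⬝ᵥ b = 0 :=
    fun θ a b h => ⟨h a (Submodule.subset_span (by simp)), h b (Submodule.subset_span (by simp))⟩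
  obtain ⟨hψ₁r, hψ₁2⟩ := m1 _ _ _ hψ₁0
  obtain ⟨hψ₂r, hψ₂2⟩ := m1 _ _ _ hψ₂0
  set θ := ψ₁ + ψ₂ with hθ
  have θ1 : θ ⬝ᵥ a₁ = 1 := by rw [hθ, add_dotProduct, hψ₁1, hψ₂2, add_zero]
  have θ2 : θ ⬝ᵥ a₂ = 1 := by rw [hθ, add_dotProduct, hψ₁2, hψ₂1, zero_add]
  have θr : θ ⬝ᵥ r = 0 := by rw [hθ, add_dotProduct, hψ₁r, hψ₂r, add_zero]
  have d1 : φ₀ ⬝ᵥ a₁ = 0 := by rw [hφ₀, ha₁, dot0, hw₁q]
  have d2 : φ₀ ⬝ᵥ a₂ = 0 := by rw [hφ₀, ha₂, dot0, hw₂q]
  obtain ⟨k, hk, hkr, -, hkx, hkinv⟩ :=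
    (allAx θ θr (a₂ - a₁) (by rw [dotProduct_sub, θ1, θ2, sub_self])).exists_fix
  obtain ⟨h₁, hh₁, hh₁x⟩ := siegel w₁ hw₁q
  obtain ⟨h₂, hh₂, hh₂x⟩ := siegel w₂ hw₂q
  obtain ⟨t, ht⟩ := hkx a₁
  rw [θ1, one_smul, add_sub_cancel] at ht
  set ζ₁ := -(fn P w₁ ᵥ* gi) - Qf w₁ • φ₀ with hζ₁
  set ζ₂ := -(fn P w₂ ᵥ* gi) - Qf w₂ • φ₀ with hζ₂
  have ev : ∀ (w : V) (h : GL ι F), (∀ x : V,
      (h : Mn) *ᵥ ((g : Mn) *ᵥ x) = (g : Mn) *ᵥ x + P q x • ((g : Mn) *ᵥ w) +
        (-(P w x) - Qf w * P q x) • r) → ∀ y, (h : Mn) *ᵥ y = y + (φ₀ ⬝ᵥ y) • ((g : Mn) *ᵥ w) +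
          ((-(fn P w ᵥ* gi) - Qf w • φ₀) ⬝ᵥ y) • r := fun w h hh y => by
    obtain ⟨x, rfl⟩ : ∃ x, (g : Mn) *ᵥ x = y := ⟨_, ggi y⟩
    rw [hh, sub_dotProduct, neg_dotProduct, smul_dotProduct, hφ₀, dot0, dot0, smul_eq_mul]
  have e1 := ev w₁ h₁ fun x => (hh₁x x).1
  have e2 := ev w₂ h₂ fun x => (hh₂x x).1
  rw [← ha₁, ← hζ₁] at e1
  rw [← ha₂, ← hζ₂] at e2
  set ki := ((k⁻¹ : GL ι F) : Mn) with hki
  have kki : ∀ y, (k : Mn) *ᵥ (ki *ᵥ y) = y := fun y => by
    rw [Matrix.mulVec_mulVec, ← Units.val_mul, mul_inv_cancel, Units.val_one, Matrix.one_mulVec]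
  set h₃ := k * h₁ * k⁻¹ with hh₃
  set ζ₃ := (ζ₁ ᵥ* ki) + t • φ₀ with hζ₃
  have hφk : φ₀ ᵥ* ki = φ₀ := by
    rw [hki, hkinv φ₀ hφ₀r, dotProduct_sub, d1, d2, sub_zero, zero_smul, sub_zero]
  have h3k : ∀ y, (h₃ : Mn) *ᵥ ((k : Mn) *ᵥ y) = (k : Mn) *ᵥ ((h₁ : Mn) *ᵥ y) := fun y => by
    rw [hh₃, Matrix.mulVec_mulVec, Matrix.mulVec_mulVec, ← Units.val_mul, ← Units.val_mul,
      inv_mul_cancel_right]
  have e3 : ∀ y, (h₃ : Mn) *ᵥ y = y + (φ₀ ⬝ᵥ y) • a₂ + (ζ₃ ⬝ᵥ y) • r := fun y => by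
    obtain ⟨x, rfl⟩ : ∃ x, (k : Mn) *ᵥ x = y := ⟨_, kki y⟩
    rw [h3k, e1, Matrix.mulVec_add, Matrix.mulVec_add, Matrix.mulVec_smul, Matrix.mulVec_smul, ht, hkr,
      hζ₃, add_dotProduct, smul_dotProduct, show φ₀ ⬝ᵥ x = φ₀ ⬝ᵥ ((k : Mn) *ᵥ x) by
        conv_rhs => rw [← hφk]; rw [hki, vecMul_inv_dot],
      hki, vecMul_inv_dot, smul_eq_mul]
    module
  set δ := ζ₂ - ζ₃ with hδ
  have hζ₂r : ζ₂ ⬝ᵥ r = 0 := by
    rw [hζ₂, sub_dotProduct, neg_dotProduct, smul_dotProduct, hφ₀r, hr, dot0, hsym, hw₂q]; simp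
  have hζ₁r : ζ₁ ⬝ᵥ r = 0 := by
    rw [hζ₁, sub_dotProduct, neg_dotProduct, smul_dotProduct, hφ₀r, hr, dot0, hsym, hw₁q]; simp
  have hζ₃r : ζ₃ ⬝ᵥ r = 0 := by
    rw [hζ₃, add_dotProduct, smul_dotProduct, hφ₀r, smul_zero, add_zero]
    have := vecMul_inv_dot k ζ₁ r
    rwa [hkr, hζ₁r] at this
  have hδr : δ ⬝ᵥ r = 0 := by rw [hδ, sub_dotProduct, hζ₂r, hζ₃r, sub_zero]
  have hδ0 : δ ≠ 0 := fun h => by
    have eq23 : ∀ y, (h₂ : Mn) *ᵥ y = (h₃ : Mn) *ᵥ y := fun y => by rw [e2, e3, sub_eq_zero.1 h]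
    obtain ⟨x, hx⟩ : ∃ x, (k : Mn) *ᵥ x = (g : Mn) *ᵥ f₁ := ⟨_, kki _⟩
    obtain ⟨x', rfl⟩ : ∃ x', (g : Mn) *ᵥ x' = x := ⟨_, ggi x⟩
    have s1 := congrArg ((k : Mn) *ᵥ ·) (hh₁x x').2
    have hPq : P q x' = 1 := by
      have e1 := dot0 q x'
      have e2 := dot0 q f₁
      have e3 := vecMul_inv_dot k φ₀ ((g : Mn) *ᵥ x')
      rw [← hki, hφk, hx] at e3
      rw [← hφ₀] at e1 e2
      rw [← e1, ← e3, e2, hsym, hf₁]
    simp only [Matrix.mulVec_add, Matrix.mulVec_smul, hkr, ← h3k, hPq, mul_one, hx, ← eq23] at s1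
    rw [(hh₂x f₁).2, hsym q f₁, hf₁, mul_one, add_right_inj, ← sub_eq_zero, ← sub_smul, smul_eq_zero] at s1
    rcases s1 with h' | h'
    · exact hQne (mul_left_cancel₀ hodd (by linear_combination h'))
    · exact hQr (by rw [h', QuadraticMap.map_zero])
  have inδ : InT K r δ := by
    refine ⟨h₃⁻¹ * h₂, mul_mem (inv_mem (mul_mem (mul_mem hk hh₁) (inv_mem hk))) hh₂, fun x => ?_⟩
    have e : (h₃ : Mn) *ᵥ (x + (δ ⬝ᵥ x) • r) = (h₂ : Mn) *ᵥ x := by
      rw [e3, e2, hδ]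
      simp only [dotProduct_add, dotProduct_smul, hφ₀r, hζ₃r, sub_dotProduct, smul_eq_mul, mul_zero, add_zero]
      module
    rw [Units.val_mul, ← Matrix.mulVec_mulVec, ← e, Matrix.mulVec_mulVec, ← Units.val_mul, inv_mul_cancel,
      Units.val_one, Matrix.one_mulVec]
  have spread : ∀ φ : V, φ ⬝ᵥ r = 0 → (∀ s : F, δ ≠ s • φ) → InT K r φ := fun φ hφ hind => by
    obtain ⟨z, hz1, hz2⟩ := exists_ker_dot hind (-1)
    obtain ⟨j, hj, hjr, -, -, hjinv⟩ := (allAx φ hφ z hz1).exists_fix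
    have h' := inδ.conj hj
    rw [hjr, hjinv δ hδr, hz2, neg_smul, one_smul, sub_neg_eq_add] at h'
    have := h'.add_right (inδ.neg hδr) (by rw [add_dotProduct, hδr, hφ, add_zero])
    rwa [add_neg_cancel_comm] at this
  have hrC : r ∈ tvCentres K := fun φ hφ => by
    by_cases h0 : φ = 0
    · subst h0; exact InT.zero_right r
    by_cases hind : ∀ s : F, δ ≠ s • φ
    · exact spread φ hφ hind
    push Not at hind
    obtain ⟨s, hs'⟩ := hind
    have hs0 : s ≠ 0 := fun h => hδ0 (by rw [hs', h, zero_smul])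
    obtain ⟨φ', hφ', hφ'ind⟩ : ∃ φ' : V, φ' ⬝ᵥ r = 0 ∧ ∀ s : F, φ' ≠ s • φ := by
      by_cases hc : ∀ s : F, φ₀ ≠ s • φ
      · exact ⟨φ₀, hφ₀r, hc⟩
      push Not at hc
      obtain ⟨s₀, hs₀⟩ := hc
      refine ⟨θ, θr, fun s₁ h₁ => ?_⟩
      have hs₀0 : s₀ ≠ 0 := fun h => hφ₀0 (by rw [hs₀, h, zero_smul])
      rw [hs₀, smul_dotProduct, smul_eq_mul, mul_eq_zero, or_iff_right hs₀0] at d1
      rw [h₁, smul_dotProduct, d1, smul_zero] at θ1
      exact zero_ne_one θ1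
    have i2 : ∀ s₁ : F, δ ≠ s₁ • φ' := fun s₁ h₁ => by
      have hs1 : s₁ ≠ 0 := fun h => hδ0 (by rw [h₁, h, zero_smul])
      apply hφ'ind (s₁⁻¹ * s)
      rw [← smul_smul, ← hs', h₁, smul_smul, inv_mul_cancel₀ hs1, one_smul]
    have i1 : ∀ s₁ : F, δ ≠ s₁ • (φ - φ') := fun s₁ h₁ => by
      have hs1 : s₁ ≠ 0 := fun h => hδ0 (by rw [h₁, h, zero_smul])
      apply hφ'ind (1 - s₁⁻¹ * s)
      rw [sub_smul, one_smul, ← smul_smul, ← hs', h₁, smul_smul, inv_mul_cancel₀ hs1, one_smul, sub_sub_cancel]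
    have := (spread _ (by rw [sub_dotProduct, hφ, hφ', sub_zero]) i1).add_right (spread φ' hφ' i2)
      (by rw [sub_dotProduct, hφ, hφ', sub_zero])
    rwa [sub_add_cancel] at this
  have htop : (⊤ : Submodule F V) ≤ tvCentres K := by
    refine le_of_reflection_invariant (Q := Qf) (x := r) hodd hrC trivial
      ⟨r, trivial, by rw [polar_self2]; exact mul_ne_zero hodd hQr⟩ ?_ ?_
    · intro y hy _ u _ hQu
      obtain ⟨z, hz, hQz⟩ := exists_anisotropic_ker hnd ![hs.lin y] (by omega)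
      obtain ⟨j, hj, hjx⟩ := two u z hQu hQz
      have := tvCentres_conj hy hj
      rwa [(hjx y).1, reflectionMatrix_mulVec _ z y, show QuadraticMap.polar (⇑Qf) z y = 0 from hz 0, mul_zero,
        zero_smul, sub_zero, reflectionMatrix_mulVec] at this
    · intro v _ _ _
      obtain ⟨z, hz, hQz⟩ := exists_anisotropic_ker' hnd ![hs.lin r, hs.lin v] (by omega) hQr fun z hz => hz 0
      exact ⟨z, trivial, hs.refl _ _ (hz 0), hs.refl _ _ (hz 1), hQz⟩
  exact specialLinear_le fun v φ hφ => htop (Submodule.mem_top : v ∈ ⊤) φ hφ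

end Cfsg.Agent.Classical.MaxTv
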