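import Cfsg.Agent.Lib.Classical.RegularBlocks
import Cfsg.Agent.Lib.Lie.CurtisTitsTypeA

/-!
Adjacent transvections in `SL_{n+1}`: generation, diagonal twists and regular products.
-/

set_option autoImplicit false

namespace Cfsg.Agent.Classical.RegularBlocks

open Matrix Cfsg.Agent.Lie.CurtisTitsA

variable {F : Type*} [Field F] {n : ℕ}

/-- The upper transvection at an adjacent place. -/
def adjUp (l : Fin n) (t : F) : SpecialLinearGroup (Fin (n + 1)) F :=
  tvN l.castSucc l.succ (Fin.ne_of_val_ne (by simp)) t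

/-- The lower transvection at an adjacent place. -/
def adjLo (l : Fin n) (t : F) : SpecialLinearGroup (Fin (n + 1)) F :=
  tvN l.succ l.castSucc (Fin.ne_of_val_ne (by simp)) t

theorem adj_top {H : Subgroup (SpecialLinearGroup (Fin (n + 1)) F)}
    (hu : ∀ l t, adjUp l t ∈ H) (hl : ∀ l t, adjLo l t ∈ H) : H = ⊤ := by
  have hadj : ∀ i j : Fin (n + 1), (h : i ≠ j) → i.val < n + 1 → j.val < n + 1 →
      (j.val = i.val + 1 ∨ i.val = j.val + 1) → ∀ t, tvN i j h t ∈ H := by
    intro i j h _ _ hor t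
    rcases hor with e | e
    · obtain ⟨l, rfl, rfl⟩ : ∃ l : Fin n, i = l.castSucc ∧ j = l.succ :=
        ⟨⟨i.val, by omega⟩, Fin.ext rfl, Fin.ext e⟩
      exact hu l t
    · obtain ⟨l, rfl, rfl⟩ : ∃ l : Fin n, i = l.succ ∧ j = l.castSucc :=
        ⟨⟨j.val, by omega⟩, Fin.ext e, Fin.ext rfl⟩
      exact hl l t
  rw [eq_top_iff, ← Classical.SL_closure_transvections, Subgroup.closure_le]
  rintro _ ⟨⟨i, j, hij, t⟩, rfl⟩
  have := tv_mem_of_adjacent H (n + 1) hadj i j hij i.2 j.2 t
  exact this

theorem hom_ext_adj {G : Type*} [Group G] {f g : SpecialLinearGroup (Fin (n + 1)) F →* G}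
    (hu : ∀ l t, f (adjUp l t) = g (adjUp l t)) (hl : ∀ l t, f (adjLo l t) = g (adjLo l t)) : f = g := by
  have h : f.eqLocus g = ⊤ := adj_top (fun l t => hu l t) fun l t => hl l t
  exact MonoidHom.ext fun x => (h ▸ Subgroup.mem_top x : x ∈ f.eqLocus g)

/-- Conjugation by a diagonal matrix, on `SL`. -/
noncomputable def conjDiag (d : Fin (n + 1) → Fˣ) :
    SpecialLinearGroup (Fin (n + 1)) F →* SpecialLinearGroup (Fin (n + 1)) F where
  toFun X := ⟨Matrix.of fun i j => (d i : F) * X.val i j * ((d j)⁻¹ : Fˣ), by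
    have e : (Matrix.of fun i j => (d i : F) * X.val i j * ((d j)⁻¹ : Fˣ)) =
        Matrix.diagonal (fun i => (d i : F)) * X.val * Matrix.diagonal (fun j => (((d j)⁻¹ : Fˣ) : F)) := by
      ext i j; simp
    rw [e, Matrix.det_mul, Matrix.det_mul, X.2, mul_one, ← Matrix.det_mul, Matrix.diagonal_mul_diagonal]
    simp⟩
  map_one' := Subtype.ext (by
    ext i j
    show (d i : F) * (1 : Matrix (Fin (n + 1)) (Fin (n + 1)) F) i j * ((d j)⁻¹ : Fˣ) =
      (1 : Matrix (Fin (n + 1)) (Fin (n + 1)) F) i j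
    by_cases h : i = j
    · subst h; simp
    · simp [h])
  map_mul' X Y := Subtype.ext (by
    ext i j
    show (d i : F) * (X.val * Y.val) i j * ((d j)⁻¹ : Fˣ) =
      ((Matrix.of fun i j => (d i : F) * X.val i j * ((d j)⁻¹ : Fˣ)) *
        (Matrix.of fun i j => (d i : F) * Y.val i j * ((d j)⁻¹ : Fˣ))) i j
    simp only [Matrix.mul_apply, Matrix.of_apply, Finset.mul_sum, Finset.sum_mul]
    refine Finset.sum_congr rfl fun k _ => ?_
    rw [show (d i : F) * X.val i k * ((d k)⁻¹ : Fˣ) * ((d k : F) * Y.val k j * ((d j)⁻¹ : Fˣ)) =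
      (d i : F) * X.val i k * ((((d k)⁻¹ : Fˣ) : F) * (d k : F)) * Y.val k j * ((d j)⁻¹ : Fˣ) by ring,
      Units.inv_mul, mul_one]
    ring)

theorem conjDiag_tv (d : Fin (n + 1) → Fˣ) {i j : Fin (n + 1)} (h : i ≠ j) (t : F) :
    conjDiag d (tvN i j h t) = tvN i j h ((d i : F) * t * ((d j)⁻¹ : Fˣ)) := by
  refine Subtype.ext ?_
  ext a b
  show (d a : F) * (Matrix.transvection i j t) a b * ((d b)⁻¹ : Fˣ) =
    Matrix.transvection i j ((d i : F) * t * ((d j)⁻¹ : Fˣ)) a b
  simp only [Matrix.transvection, Matrix.add_apply, Matrix.single_apply, Matrix.one_apply]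
  by_cases hab : a = b
  · subst hab
    rw [if_neg (fun e : i = a ∧ j = a => h (e.1.trans e.2.symm)), if_neg (fun e : i = a ∧ j = a => h (e.1.trans e.2.symm))]
    simp
  · by_cases h2 : i = a ∧ j = b
    · obtain ⟨rfl, rfl⟩ := h2; simp [hab]
    · simp [hab, h2]

theorem adjLo_mem [Finite F] (l : Fin n) (t : F) : adjLo l t ∈ lowU F (n + 1) := by
  intro i j hij
  show Matrix.transvection l.succ l.castSucc t i j = _
  have hne : ¬ (l.succ = i ∧ l.castSucc = j) := by
    rintro ⟨rfl, rfl⟩
    have : (l : ℕ) + 1 ≤ l := hij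
    omega
  simp [Matrix.transvection, Matrix.add_apply, Matrix.single_apply, Matrix.one_apply, hne]

theorem adjLo_sub (l : Fin n) (t : F) {i j : Fin (n + 1)} (h : j.val + 1 = i.val) :
    (adjLo l t).val i j = if l.val = j.val then t else 0 := by
  show Matrix.transvection l.succ l.castSucc t i j = _
  have hne : i ≠ j := Fin.ne_of_val_ne (by omega)
  simp only [Matrix.transvection, Matrix.add_apply, Matrix.single_apply, Matrix.one_apply, if_neg hne,
    zero_add]
  by_cases hl : l.val = j.val
  · rw [if_pos ⟨Fin.ext (by simp; omega), Fin.ext (by simp [hl])⟩, if_pos hl]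
  · rw [if_neg (fun e => hl (by simpa [Fin.ext_iff] using congrArg Fin.val e.2)), if_neg hl]

/-- A product of all the adjacent lower transvections, in any order, is regular. -/
theorem reg_prod_adjLo [Finite F] {L : List (Fin n)} (hnd : L.Nodup) (hall : ∀ l, l ∈ L) (a : Fin n → F)
    (ha : ∀ l, a l ≠ 0) :
    (L.map fun l => adjLo l (a l)).prod ∈ lowU F (n + 1) ∧ Reg (L.map fun l => adjLo l (a l)).prod.val := by
  have key : ∀ L : List (Fin n), L.Nodup → (L.map fun l => adjLo l (a l)).prod ∈ lowU F (n + 1) ∧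
      ∀ i j : Fin (n + 1), (h : j.val + 1 = i.val) →
        (L.map fun l => adjLo l (a l)).prod.val i j =
          if (⟨j.val, by omega⟩ : Fin n) ∈ L then a ⟨j.val, by omega⟩ else 0 := by
    intro L
    induction L with
    | nil =>
      intro _
      refine ⟨one_mem _, fun i j h => ?_⟩
      show (1 : Matrix (Fin (n + 1)) (Fin (n + 1)) F) i j = _
      rw [Matrix.one_apply_ne (Fin.ne_of_val_ne (by omega))]
      simp
    | cons l L ih =>
      intro hnd
      rw [List.nodup_cons] at hnd
      obtain ⟨h1, h2⟩ := ih hnd.2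
      refine ⟨by rw [List.map_cons, List.prod_cons]; exact mul_mem (adjLo_mem l _) h1, fun i j h => ?_⟩
      rw [List.map_cons, List.prod_cons, subdiag_mul (adjLo_mem l _) h1 h, adjLo_sub l _ h, h2 i j h]
      by_cases hl : l.val = j.val
      · have e : (⟨j.val, by omega⟩ : Fin n) = l := Fin.ext hl.symm
        rw [if_pos hl, e, if_neg hnd.1, add_zero, if_pos List.mem_cons_self]
      · have e : (⟨j.val, by omega⟩ : Fin n) ≠ l := fun e => hl (congrArg Fin.val e).symm
        rw [if_neg hl, zero_add]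
        simp [List.mem_cons, e]
  obtain ⟨h1, h2⟩ := key L hnd
  refine ⟨h1, reg_of_lower (Nat.succ_pos n) h1 fun i j h => ?_⟩
  rw [h2 i j h, if_pos (hall _)]
  exact ha _

/-- The same for the upper ones. -/
theorem reg_prod_adjUp [Finite F] {L : List (Fin n)} (hnd : L.Nodup) (hall : ∀ l, l ∈ L) (a : Fin n → F)
    (ha : ∀ l, a l ≠ 0) : Reg (L.map fun l => adjUp l (a l)).prod.val := by
  have e : ∀ L : List (Fin n), (L.map fun l => adjUp l (a l)).prod.val =
      ((L.reverse.map fun l => adjLo l (a l)).prod.val)ᵀ := by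
    intro L
    induction L with
    | nil => exact Matrix.transpose_one.symm
    | cons l L ih =>
      rw [List.map_cons, List.prod_cons, List.reverse_cons, List.map_append, List.prod_append,
        val_mul', val_mul', Matrix.transpose_mul, ih, List.map_cons, List.map_nil, List.prod_singleton]
      congr 1
      show Matrix.transvection l.castSucc l.succ (a l) = (Matrix.transvection l.succ l.castSucc (a l))ᵀ
      rw [Matrix.transvection, Matrix.transvection, Matrix.transpose_add, Matrix.transpose_one,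
        Matrix.transpose_single]
  rw [e]
  exact (reg_prod_adjLo (L := L.reverse) (List.nodup_reverse.2 hnd)
    (fun l => List.mem_reverse.2 (hall l)) a ha).2.transpose

end Cfsg.Agent.Classical.RegularBlocks
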