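import Cfsg.Agent.Lib.Classical.ChevRootSets
import Cfsg.Agent.Lib.Lie.CurtisTitsEdge

/-!
Finite checks for a Levi subgroup of type `A` used in the class-square covering.
-/

set_option autoImplicit false

namespace Cfsg.Agent.Classical.ThompsonChev

open Cfsg.Lie Cfsg.Agent.Lie.Chev

/-- The words, the components of the Levi subgroup, the permutation of the components under the
longest word, and the exponents of the torus elements. -/
structure Cfg where
  L0 : List ℕ
  LJ : List ℕ
  comps : List (List ℕ)
  sigma : List ℕ
  e : List ℤ
  f : List (List ℤ)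

namespace Cfg

variable (g : Cfg) (T : Tables)

/-- The number of components. -/
def nc : ℕ := g.comps.length

/-- The length of a component. -/
def len (k : ℕ) : ℕ := (g.comps.getD k []).length

/-- A node of a component. -/
def node (k l : ℕ) : ℕ := (g.comps.getD k []).getD l 0

/-- All the nodes. -/
def nodes : List ℕ := g.comps.flatten

/-- A root of the subsystem. -/
def inJ (r : ℕ) : Bool := (List.range T.l).all fun i => g.nodes.contains i || (T.vec r i == 0)

/-- The positive roots of the subsystem. -/
def PJ : List ℕ := (posList T).filter (g.inJ T)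

/-- The remaining positive roots. -/
def RJ : List ℕ := (posList T).filter fun r => !(g.inJ T r)

/-- The negatives of the positive roots of the subsystem. -/
def NJ : List ℕ := negOf T (g.PJ T)

/-- The negatives of the remaining positive roots. -/
def RN : List ℕ := negOf T (g.RJ T)

/-- A root is a simple one or the only commutator term of two earlier ones. -/
def builtBy (S : List ℕ) (simp : List ℕ) (before : ℕ → ℕ → Bool) (r : ℕ) : Bool :=
  simp.contains r || S.any fun a => S.any fun b =>
    before a r && before b r && !(Nat.beq b a) && !(Nat.beq b (T.neg a)) &&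
      match T.commTerms a b with
      | [(x, C, i, j)] => Nat.beq x r && decide (C * C = 1) && Nat.beq i 1 && Nat.beq j 1
      | _ => false

/-- The image of a component under the longest word is a component, read in the same order. -/
def direct (k : ℕ) : Bool :=
  (List.range (g.len k)).all fun l =>
    Nat.beq (g.L0.foldr T.refl (T.simple (g.node k l))) (T.neg (T.simple (g.node (g.sigma.getD k 0) l)))

/-- The same in the opposite order. -/
def reversed (k : ℕ) : Bool :=
  (List.range (g.len k)).all fun l =>
    Nat.beq (g.L0.foldr T.refl (T.simple (g.node k l)))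
      (T.neg (T.simple (g.node (g.sigma.getD k 0) (g.len k - 1 - l))))

/-- The checks on the roots. -/
def checkRoots : Bool :=
  g.nodes.all (fun p => Nat.blt p T.l) &&
  (List.range g.nc).all (fun k => Nat.blt 0 (g.len k) && Nat.ble (g.len k) 3 &&
    (List.range (g.len k)).all fun l =>
      (!(Nat.blt (l + 1) (g.len k)) || T.checkEdge (g.node k l) (g.node k (l + 1))) &&
      (List.range g.nc).all fun k' => (List.range (g.len k')).all fun l' =>
        ((Nat.beq k k') && !(Nat.blt (l + 1) l')) ||
          (T.checkApart (g.node k l) (g.node k' l') && !(Nat.beq (g.node k l) (g.node k' l')))) &&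
  (g.PJ T).all (builtBy T (g.PJ T) (g.nodes.map T.simple) fun a r => Nat.blt a r) &&
  (g.NJ T).all (builtBy T (g.NJ T) (g.nodes.map fun p => T.neg (T.simple p)) fun a r => Nat.blt r a) &&
  g.nodes.all (fun p =>
    closedUnder T (g.RJ T) (T.simple p) && closedUnder T (g.RJ T) (T.neg (T.simple p)) &&
    closedUnder T (g.RN T) (T.simple p) && closedUnder T (g.RN T) (T.neg (T.simple p))) &&
  (negList T).all (fun r => (g.RN T).contains r || (g.NJ T).contains r) &&
  g.LJ.all (fun p => g.nodes.contains p) &&
  (g.PJ T).all (fun r => Nat.blt (g.LJ.foldr T.refl r) T.h) &&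
  (g.RJ T).all (fun r => (g.RN T).contains (g.L0.foldr T.refl r)) &&
  (g.RN T).all (fun r => Nat.blt r T.h && (g.RJ T).contains (g.L0.foldr T.refl r)) &&
  (List.range g.nc).all (fun k => Nat.blt (g.sigma.getD k 0) g.nc &&
    Nat.beq (g.sigma.getD (g.sigma.getD k 0) 0) k && Nat.beq (g.len (g.sigma.getD k 0)) (g.len k) &&
    (g.direct T k || g.reversed T k))

/-- The exponent of a root at the torus element given by an exponent vector. -/
def expo (v : List ℤ) (r : ℕ) : ℤ := ∑ i ∈ Finset.range T.l, v.getD i 0 * T.cartan i r

/-- The exponent of the determinant on a component. -/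
def detExpo (v : List ℤ) (k : ℕ) : ℤ :=
  ∑ l ∈ Finset.range (g.len k), ((l : ℤ) + 1) * expo T v (T.simple (g.node k l))

/-- The conditions on the torus elements over a field with `m + 1` elements. -/
def TorusOK (m : ℕ) : Prop :=
  (∀ r ∈ g.RJ T, ¬ (m : ℤ) ∣ expo T g.e r) ∧ (∀ p ∈ g.nodes, (m : ℤ) ∣ expo T g.e (T.simple p)) ∧
  (∀ r ∈ List.range T.n, (m : ℤ) ∣ expo T g.e (g.L0.foldr T.refl r) + expo T g.e r) ∧
  ∀ k ∈ List.range g.nc, ∀ k' ∈ List.range g.nc,
    (Nat.gcd (g.len k + 1) m : ℤ) ∣ g.detExpo T (g.f.getD k' []) k - (if k = k' then 1 else 0)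

instance (m : ℕ) : Decidable (g.TorusOK T m) := by unfold TorusOK; infer_instance

end Cfg

end Cfsg.Agent.Classical.ThompsonChev
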