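import Cfsg.Agent.Lib.Classical.ChevLeviData
import Cfsg.Agent.Lib.Classical.ChevLeviBlocks

/-!
The homomorphism of a product of special linear groups onto a Levi subgroup.
-/

set_option autoImplicit false

namespace Cfsg.Agent.Classical.ThompsonChev

open Cfsg.Lie Cfsg.Agent.Lie.Chev Cfsg.Agent.Lie.CurtisTitsA Cfsg.Agent.Classical.RegularBlocks
open scoped MatrixGroups

/-- The product of the special linear groups of the components. -/
abbrev Lev (g : Cfg) (F : Type*) [Field F] : Type _ :=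
  (k : Fin g.nc) → Matrix.SpecialLinearGroup (Fin (g.len k + 1)) F

section

variable {D : ChevalleyDatum} (c : CertFull D) {F : Type*} [Field F]

/-- The facts about the roots, read off the checks. -/
structure RootFacts (g : Cfg) : Prop where
  nodes_lt : ∀ p ∈ g.nodes, p < D.rank
  len_pos : ∀ k < g.nc, 0 < g.len k
  len_le : ∀ k < g.nc, g.len k ≤ 3
  edge : ∀ k < g.nc, ∀ l, l + 1 < g.len k → c.T.checkEdge (g.node k l) (g.node k (l + 1)) = true
  apart : ∀ k < g.nc, ∀ l < g.len k, ∀ k' < g.nc, ∀ l' < g.len k', (k ≠ k' ∨ l + 1 < l') →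
    c.T.checkApart (g.node k l) (g.node k' l') = true ∧ g.node k l ≠ g.node k' l'
  builtP : ∀ r ∈ g.PJ c.T, Cfg.builtBy c.T (g.PJ c.T) (g.nodes.map c.T.simple) (fun a r => Nat.blt a r) r = true
  builtN : ∀ r ∈ g.NJ c.T, Cfg.builtBy c.T (g.NJ c.T) (g.nodes.map fun p => c.T.neg (c.T.simple p))
    (fun a r => Nat.blt r a) r = true
  closed : ∀ p ∈ g.nodes, closedUnder c.T (g.RJ c.T) (D.simple p) = true ∧
    closedUnder c.T (g.RJ c.T) (D.neg (D.simple p)) = true ∧
    closedUnder c.T (g.RN c.T) (D.simple p) = true ∧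
    closedUnder c.T (g.RN c.T) (D.neg (D.simple p)) = true
  negs : ∀ r ∈ negList c.T, r ∈ g.RN c.T ∨ r ∈ g.NJ c.T
  LJ_nodes : ∀ p ∈ g.LJ, p ∈ g.nodes
  LJ_neg : ∀ r ∈ g.PJ c.T, c.wl g.LJ r ∈ negList c.T
  L0_RJ : ∀ r ∈ g.RJ c.T, c.wl g.L0 r ∈ g.RN c.T
  RN_neg : ∀ r ∈ g.RN c.T, r ∈ negList c.T
  L0_RN : ∀ r ∈ g.RN c.T, c.wl g.L0 r ∈ g.RJ c.T
  sigma : ∀ k < g.nc, g.sigma.getD k 0 < g.nc ∧ g.sigma.getD (g.sigma.getD k 0) 0 = k ∧
    g.len (g.sigma.getD k 0) = g.len k ∧ (g.direct c.T k = true ∨ g.reversed c.T k = true)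

include c

theorem rootFacts {g : Cfg} (h : g.checkRoots c.T = true) : RootFacts c g := by
  simp only [Cfg.checkRoots, Bool.and_eq_true, Bool.or_eq_true, List.all_eq_true, List.mem_range,
    Bool.not_eq_true', Nat.blt_eq, Nat.ble_eq, Nat.beq_eq, List.contains_iff_mem] at h
  obtain ⟨⟨⟨⟨⟨⟨⟨⟨⟨⟨h1, h2⟩, h3⟩, h4⟩, h5⟩, h6⟩, h7⟩, h8⟩, h9⟩, h10⟩, h11⟩ := h
  have hlt : ∀ p ∈ g.nodes, p < D.rank := fun p hp => c.rank_eq ▸ h1 p hp
  refine ⟨hlt, fun k hk => (h2 k hk).1.1, fun k hk => (h2 k hk).1.2, fun k hk l hl => ?_,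
    fun k hk l hl k' hk' l' hl' hor => ?_, h3, h4, fun p hp => ?_, h6, h7, fun r hr => ?_,
    fun r hr => ?_, fun r hr => ?_, fun r hr => ?_, fun k hk => ?_⟩
  · rcases ((h2 k hk).2 l (by omega)).1 with h | h
    · rw [← Nat.blt_eq, h] at hl; exact absurd hl (by simp)
    · exact h
  · rcases ((h2 k hk).2 l hl).2 k' hk' l' hl' with h | h
    · rcases hor with hne | hlt'
      · exact absurd h.1 hne
      · rw [← Nat.blt_eq, h.2] at hlt'; exact absurd hlt' (by simp)
    · exact ⟨h.1, Nat.ne_of_beq_eq_false h.2⟩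
  · obtain ⟨⟨⟨a1, a2⟩, a3⟩, a4⟩ := h5 p hp
    rw [nsimple_tbl c (hlt p hp)] at a2 a4
    rw [simple_tbl c (hlt p hp)] at a1 a3
    exact ⟨a1, a2, a3, a4⟩
  · rw [mem_negList, wl_eq_foldr]; exact h8 r hr
  · rw [wl_eq_foldr]; exact h9 r hr
  · rw [mem_negList]; exact (h10 r hr).1
  · rw [wl_eq_foldr]; exact (h10 r hr).2
  · obtain ⟨⟨⟨a1, a2⟩, a3⟩, a4⟩ := h11 k hk
    exact ⟨a1, a2, a3, a4⟩

theorem node_mem {g : Cfg} {k l : ℕ} (hk : k < g.nc) (hl : l < g.len k) : g.node k l ∈ g.nodes := by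
  simp only [Cfg.nc, Cfg.len] at hk hl
  rw [List.getD_eq_getElem _ _ hk] at hl
  rw [Cfg.nodes, Cfg.node, List.getD_eq_getElem _ _ hk, List.getD_eq_getElem _ _ hl]
  exact List.mem_flatten.2 ⟨_, List.getElem_mem hk, List.getElem_mem hl⟩

theorem exists_node {g : Cfg} {p : ℕ} (hp : p ∈ g.nodes) :
    ∃ k < g.nc, ∃ l < g.len k, g.node k l = p := by
  obtain ⟨s, hs, hps⟩ := List.mem_flatten.1 hp
  obtain ⟨k, hk, rfl⟩ := List.getElem_of_mem hs
  obtain ⟨l, hl, rfl⟩ := List.getElem_of_mem hps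
  refine ⟨k, hk, l, by rw [Cfg.len, List.getD_eq_getElem _ _ hk]; exact hl, ?_⟩
  rw [Cfg.node, List.getD_eq_getElem _ _ hk, List.getD_eq_getElem _ _ hl]

theorem mem_rootRange {r : ℕ} {R : List ℕ} (h : r ∈ R.map c.T.neg) (hR : ∀ x ∈ R, x < D.nroots) :
    r < D.nroots := by
  obtain ⟨x, hx, rfl⟩ := List.mem_map.1 h
  rw [← c.neg_eq (hR x hx)]
  exact c.neg_lt (hR x hx)

variable {g : Cfg}

theorem PJ_lt {r : ℕ} (h : r ∈ g.PJ c.T) : r < D.nroots := posList_lt c (List.mem_filter.1 h).1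

theorem RJ_lt {r : ℕ} (h : r ∈ g.RJ c.T) : r < D.nroots := posList_lt c (List.mem_filter.1 h).1

theorem NJ_lt {r : ℕ} (h : r ∈ g.NJ c.T) : r < D.nroots := mem_rootRange c h fun _ hx => PJ_lt c hx

theorem RN_lt {r : ℕ} (h : r ∈ g.RN c.T) : r < D.nroots := mem_rootRange c h fun _ hx => RJ_lt c hx

theorem pos_split {r : ℕ} (h : r ∈ posList c.T) : r ∈ g.RJ c.T ∨ r ∈ g.PJ c.T := by
  cases hb : g.inJ c.T r
  · exact Or.inl (List.mem_filter.2 ⟨h, by simp [hb]⟩)
  · exact Or.inr (List.mem_filter.2 ⟨h, hb⟩)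

theorem xe_apart {p q : ℕ} (hp : p < D.rank) (hq : q < D.rank) (hne : p ≠ q)
    (h : c.T.checkApart p q = true) {r s : ℕ} (hr : r = D.simple p ∨ r = D.neg (D.simple p))
    (hs : s = D.simple q ∨ s = D.neg (D.simple q)) (a b : F) :
    Commute (xe c r a) (xe c s b) := by
  have h' := of_decide_eq_true h
  have hterms : c.T.commTerms r s = [] := by
    refine (h' r ?_ s ?_).1
    · rw [simple_tbl c hp, ← c.neg_eq (c.simple_lt hp)]; simpa using hr
    · rw [simple_tbl c hq, ← c.neg_eq (c.simple_lt hq)]; simpa using hs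
  have hne' : D.simple p ≠ D.simple q := fun e => hne (c.simple_inj hp hq e)
  have hpn : ∀ {u v : ℕ}, u < D.rank → v < D.rank → D.simple u ≠ D.neg (D.simple v) := fun {u v} hu hv e =>
    (c.not_pos_iff (c.simple_lt hv)).2 (e ▸ c.pos_simple hu) (c.pos_simple hv)
  have hrn : r < D.nroots := by
    rcases hr with rfl | rfl
    exacts [c.simple_lt hp, c.neg_lt (c.simple_lt hp)]
  have hsn : s < D.nroots := by
    rcases hs with rfl | rfl
    exacts [c.simple_lt hq, c.neg_lt (c.simple_lt hq)]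
  have h1 : s ≠ r ∧ s ≠ D.neg r := by
    rcases hr with rfl | rfl <;> rcases hs with rfl | rfl
    · exact ⟨Ne.symm hne', hpn hq hp⟩
    · exact ⟨Ne.symm (hpn hp hq), fun e => hne' (by
        simpa [c.neg_neg (c.simple_lt hq), c.neg_neg (c.simple_lt hp)] using (congrArg D.neg e).symm)⟩
    · exact ⟨hpn hq hp, by rw [c.neg_neg (c.simple_lt hp)]; exact Ne.symm hne'⟩
    · refine ⟨fun e => hne' ?_, by rw [c.neg_neg (c.simple_lt hp)]; exact Ne.symm (hpn hp hq)⟩
      simpa [c.neg_neg (c.simple_lt hq), c.neg_neg (c.simple_lt hp)] using (congrArg D.neg e).symm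
  refine Commute.symm (Subtype.ext ?_)
  have key := c.xg_comm hrn hsn h1.1 h1.2 a b
  rw [hterms, List.map_nil, List.prod_nil, mul_one] at key
  rw [Subgroup.coe_mul, Subgroup.coe_mul, xe_val c hrn, xe_val c hsn]
  exact key

omit c in
theorem mem_of_gens {G : Type*} [Group G] (φ : SL(2, F) →* G) (H : Subgroup G)
    (hu : ∀ a, φ (upSL a) ∈ H) (hl : ∀ a, φ (loSL a) ∈ H) (x : SL(2, F)) : φ x ∈ H := by
  have htop : H.comap φ = ⊤ := by
    rw [eq_top_iff, ← Classical.SL_closure_transvections, Subgroup.closure_le]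
    rintro _ ⟨⟨i, j, hij, a⟩, rfl⟩
    show φ _ ∈ H
    fin_cases i <;> fin_cases j
    all_goals first
      | exact absurd rfl hij
      | (convert hu a using 2; refine ext_two ?_ ?_ ?_ ?_ <;>
          simp [Matrix.SpecialLinearGroup.transvection, Matrix.transvection, upSL_val]; done)
      | (convert hl a using 2; refine ext_two ?_ ?_ ?_ ?_ <;>
          simp [Matrix.SpecialLinearGroup.transvection, Matrix.transvection, loSL_val]; done)
  exact (htop ▸ Subgroup.mem_top x : x ∈ H.comap φ)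

omit c in
/-- The identification of `SL_{n+1}` with `SL₂` when `n = 1`. -/
theorem exists_to_two {n : ℕ} (h : n = 1) :
    ∃ E : Matrix.SpecialLinearGroup (Fin (n + 1)) F →* SL(2, F), ∀ (l : Fin n) (t : F),
      E (adjUp l t) = upSL t ∧ E (adjLo l t) = loSL t := by
  subst h
  refine ⟨MonoidHom.id _, fun l t => ?_⟩
  obtain rfl : l = 0 := Subsingleton.elim _ _
  constructor <;> apply Subtype.ext <;> ext i j <;> fin_cases i <;> fin_cases j <;>
    simp [adjUp, adjLo, tvN, upSL, loSL, Matrix.transvection, id_eq, MonoidHom.id]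

theorem commute_of_apart {p q : ℕ} (hp : p < D.rank) (hq : q < D.rank) (hne : p ≠ q)
    (ha : c.T.checkApart p q = true) {φ ψ : SL(2, F) →* ↥(D.group F)}
    (hφu : ∀ t, φ (upSL t) = xe c (D.simple p) t) (hφl : ∀ t, φ (loSL t) = xe c (D.neg (D.simple p)) t)
    (hψu : ∀ t, ψ (upSL t) = xe c (D.simple q) t) (hψl : ∀ t, ψ (loSL t) = xe c (D.neg (D.simple q)) t)
    (x y : SL(2, F)) : Commute (φ x) (ψ y) := by
  have key : ∀ r, (r = D.simple p ∨ r = D.neg (D.simple p)) → ∀ a : F, Commute (xe c r a) (ψ y) := by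
    intro r hr a
    refine (Subgroup.mem_centralizer_singleton_iff.1 (mem_of_gens ψ (Subgroup.centralizer {xe c r a})
      (fun b => ?_) (fun b => ?_) y)).symm
    · rw [hψu]
      exact Subgroup.mem_centralizer_singleton_iff.2 (xe_apart c hp hq hne ha hr (Or.inl rfl) a b).eq.symm
    · rw [hψl]
      exact Subgroup.mem_centralizer_singleton_iff.2 (xe_apart c hp hq hne ha hr (Or.inr rfl) a b).eq.symm
  refine Subgroup.mem_centralizer_singleton_iff.1 (mem_of_gens φ (Subgroup.centralizer {ψ y})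
    (fun a => ?_) (fun a => ?_) x)
  · rw [hφu]; exact Subgroup.mem_centralizer_singleton_iff.2 (key _ (Or.inl rfl) a).eq
  · rw [hφl]; exact Subgroup.mem_centralizer_singleton_iff.2 (key _ (Or.inr rfl) a).eq

/-- A chain of at least two nodes, in the general linear group. -/
theorem exists_chain_val [Finite F] {n : ℕ} (hn : 2 ≤ n) (p : ℕ → ℕ) (hp : ∀ l < n, p l < D.rank)
    (hedge : ∀ l, l + 1 < n → c.T.checkEdge (p l) (p (l + 1)) = true)
    (φ : ℕ → SL(2, F) →* GL D.Idx F)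
    (hu : ∀ l < n, ∀ t, φ l (upSL t) = c.xg (D.simple (p l)) t)
    (hlo : ∀ l < n, ∀ t, φ l (loSL t) = c.xg (D.neg (D.simple (p l))) t)
    (hfar : ∀ k l, k + 1 < l → l < n → ∀ x y, Commute (φ k x) (φ l y)) :
    ∃ Ψ : Matrix.SpecialLinearGroup (Fin (n + 1)) F →* GL D.Idx F, ∀ (l : Fin n) (t : F),
      Ψ (adjUp l t) = c.xg (D.simple (p l)) t ∧ Ψ (adjLo l t) = c.xg (D.neg (D.simple (p l))) t := by
  obtain ⟨Ψ, hΨ⟩ := exists_chain φ n hn (fun l hl => by
    obtain ⟨ψ, hψ⟩ := exists_edge_hom (F := F) c (hp l (by omega)) (hp (l + 1) hl) (hedge l hl)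
    have e1 : ψ.comp up3 = φ l := by
      refine hom_ext2 (fun t => ?_) (fun t => ?_)
      · rw [MonoidHom.comp_apply, up3_up, hψ, hu l (by omega), ← simple_tbl c (hp l (by omega))]
        simp [esgn, Tables.edgeSign, Tables.edgeRoot]
      · rw [MonoidHom.comp_apply, up3_lo, hψ, hlo l (by omega), ← nsimple_tbl c (hp l (by omega))]
        simp [esgn, Tables.edgeSign, Tables.edgeRoot]
    have e2 : ψ.comp dn3 = φ (l + 1) := by
      refine hom_ext2 (fun t => ?_) (fun t => ?_)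
      · rw [MonoidHom.comp_apply, dn3_up, hψ, hu (l + 1) hl, ← simple_tbl c (hp (l + 1) hl)]
        simp [esgn, Tables.edgeSign, Tables.edgeRoot]
      · rw [MonoidHom.comp_apply, dn3_lo, hψ, hlo (l + 1) hl, ← nsimple_tbl c (hp (l + 1) hl)]
        simp [esgn, Tables.edgeSign, Tables.edgeRoot]
    exact ⟨ψ, DFunLike.congr_fun e1, DFunLike.congr_fun e2⟩) hfar
  refine ⟨Ψ, fun l t => ?_⟩
  obtain ⟨a, b⟩ := hΨ l.castSucc l.succ (by simp) t
  exact ⟨a.trans (hu l l.2 t), b.trans (hlo l l.2 t)⟩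

/-- The homomorphism of one component. -/
theorem exists_psi [Finite F] (hF : RootFacts c g) {k : ℕ} (hk : k < g.nc) :
    ∃ ψ : Matrix.SpecialLinearGroup (Fin (g.len k + 1)) F →* ↥(D.group F),
      ∀ (l : Fin (g.len k)) (t : F),
        ψ (adjUp l t) = xe c (D.simple (g.node k l)) t ∧
        ψ (adjLo l t) = xe c (D.neg (D.simple (g.node k l))) t := by
  have hrk : ∀ l < g.len k, g.node k l < D.rank := fun l hl => hF.nodes_lt _ (node_mem c hk hl)
  choose φ hφu hφl _ using fun p : {p : ℕ // p < D.rank} => exists_slHom c (F := F) p.2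
  rcases Nat.eq_or_lt_of_le (show 1 ≤ g.len k from hF.len_pos k hk) with h1 | h1
  · obtain ⟨E, hE⟩ := exists_to_two (F := F) h1.symm
    refine ⟨(φ ⟨g.node k 0, hrk 0 (by omega)⟩).comp E, fun l t => ?_⟩
    have hl : (l : ℕ) = 0 := by omega
    exact ⟨by rw [MonoidHom.comp_apply, (hE l t).1, hφu, hl],
      by rw [MonoidHom.comp_apply, (hE l t).2, hφl, hl]⟩
  obtain ⟨φ', hφ'⟩ : ∃ φ' : ℕ → SL(2, F) →* GL D.Idx F, ∀ l (h : l < g.len k),
      φ' l = (D.group F).subtype.comp (φ ⟨g.node k l, hrk l h⟩) :=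
    ⟨fun l => if h : l < g.len k then (D.group F).subtype.comp (φ ⟨g.node k l, hrk l h⟩) else 1,
      fun l h => dif_pos h⟩
  obtain ⟨Ψ, hval⟩ := exists_chain_val c (n := g.len k) h1 (g.node k) hrk (hF.edge k hk) φ'
    (fun l h t => by
      rw [hφ' l h, MonoidHom.comp_apply, hφu]
      exact xe_val c (c.simple_lt (hrk l h)) t)
    (fun l h t => by
      rw [hφ' l h, MonoidHom.comp_apply, hφl]
      exact xe_val c (c.neg_lt (c.simple_lt (hrk l h))) t)
    (fun l l' hll hl' x y => by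
      have hl : l < g.len k := by omega
      obtain ⟨ha, hne⟩ := hF.apart k hk l hl k hk l' hl' (Or.inr hll)
      rw [hφ' l hl, hφ' l' hl']
      exact (commute_of_apart c (hrk l hl) (hrk l' hl') hne ha (hφu ⟨_, hrk l hl⟩) (hφl ⟨_, hrk l hl⟩)
        (hφu ⟨_, hrk l' hl'⟩) (hφl ⟨_, hrk l' hl'⟩) x y).map (D.group F).subtype)
  have htop : (D.group F).comap Ψ = ⊤ :=
    adj_top (fun l t => by
        rw [Subgroup.mem_comap, (hval l t).1]
        exact c.xg_mem_group (c.simple_lt (hrk l l.2)) t)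
      fun l t => by
        rw [Subgroup.mem_comap, (hval l t).2]
        exact c.xg_mem_group (c.neg_lt (c.simple_lt (hrk l l.2))) t
  refine ⟨Ψ.codRestrict _ fun X => (htop ▸ Subgroup.mem_top X : X ∈ (D.group F).comap Ψ),
    fun l t => ⟨Subtype.ext ?_, Subtype.ext ?_⟩⟩
  · rw [xe_val c (c.simple_lt (hrk l l.2))]; exact (hval l t).1
  · rw [xe_val c (c.neg_lt (c.simple_lt (hrk l l.2)))]; exact (hval l t).2

end

/-- A homomorphism out of a finite product is determined on the factors. -/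
theorem pi_induction {ι : Type*} [Fintype ι] [DecidableEq ι] {N : ι → Type*} [∀ i, Group (N i)]
    {P : (∀ i, N i) → Prop} (one : P 1) (mul : ∀ a b, P a → P b → P (a * b))
    (single : ∀ i x, P (Pi.mulSingle i x)) (x : ∀ i, N i) : P x := by
  suffices ∀ S : Finset ι, P (fun i => if i ∈ S then x i else 1) by simpa using this Finset.univ
  intro S
  induction S using Finset.induction_on with
  | empty => convert one using 1; funext i; simp
  | insert j S hj ih =>
    convert mul _ _ (single j (x j)) ih using 1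
    funext i
    rcases eq_or_ne i j with rfl | h
    · simp [hj]
    · simp [h]

end Cfsg.Agent.Classical.ThompsonChev
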