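import Cfsg.Agent.Lib.Classical.PrescribedGauss

/-!
The square of a class `c = t * j` inside a Levi subgroup covers the group once it covers the middle
part of the prescribed Gauss decomposition.
-/

set_option autoImplicit false

namespace Cfsg.Agent.Classical.ClassSquareLevi

variable {G : Type*} [Group G]

/-- Translates of a fixed-point-free element are conjugates of it. -/
theorem exists_conj_left [Finite G] (W : Subgroup G) {c : G}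
    (hn : ∀ w ∈ W, c * w * c⁻¹ ∈ W) (hfix : ∀ w ∈ W, c * w = w * c → w = 1) {w : G} (hw : w ∈ W) :
    ∃ x ∈ W, x * c * x⁻¹ = w * c := by
  let f : W → W := fun x => ⟨(x : G) * (c * (x : G)⁻¹ * c⁻¹), mul_mem x.2 (hn _ (inv_mem x.2))⟩
  have hinj : Function.Injective f := by
    intro x y h
    have h1 : (x : G) * (c * (x : G)⁻¹ * c⁻¹) = (y : G) * (c * (y : G)⁻¹ * c⁻¹) :=
      congrArg Subtype.val h
    have e1 : (x : G) * (c * (x : G)⁻¹) = (y : G) * (c * (y : G)⁻¹) := by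
      simpa [← mul_assoc] using h1
    have h2 := hfix ((y : G)⁻¹ * x) (mul_mem (inv_mem y.2) x.2) (by
      calc c * ((y : G)⁻¹ * x) = (y : G)⁻¹ * ((y : G) * (c * (y : G)⁻¹)) * x := by group
        _ = _ := by rw [← e1]; group)
    exact Subtype.ext (inv_mul_eq_one.1 h2).symm
  obtain ⟨x, hx⟩ := Finite.surjective_of_injective hinj ⟨w, hw⟩
  refine ⟨x, x.2, ?_⟩
  rw [show w = (x : G) * (c * (x : G)⁻¹ * c⁻¹) from (congrArg Subtype.val hx).symm]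
  group

theorem exists_conj_right [Finite G] (W : Subgroup G) {c : G}
    (hn : ∀ w ∈ W, c * w * c⁻¹ ∈ W) (hfix : ∀ w ∈ W, c * w = w * c → w = 1) {w : G} (hw : w ∈ W) :
    ∃ x ∈ W, x * c * x⁻¹ = c * w := by
  obtain ⟨x, hx, e⟩ := exists_conj_left W hn hfix (hn w hw)
  exact ⟨x, hx, by rw [e]; group⟩

/-- The covering of an element in Gauss form. -/
theorem product_of_form [Finite G] (M Wv Wu : Subgroup G) {c : G} (hc : c ∈ M)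
    (hMv : ∀ m ∈ M, ∀ w ∈ Wv, m * w * m⁻¹ ∈ Wv) (hMu : ∀ m ∈ M, ∀ w ∈ Wu, m * w * m⁻¹ ∈ Wu)
    (hfv : ∀ w ∈ Wv, c * w = w * c → w = 1) (hfu : ∀ w ∈ Wu, c * w = w * c → w = 1)
    {g z w₁ w₂ m₁ m₂ : G} (hw₁ : w₁ ∈ Wv) (hw₂ : w₂ ∈ Wu) (h₁ : m₁ ∈ M) (h₂ : m₂ ∈ M)
    (hz : z * g * z⁻¹ = w₁ * ((m₁ * c * m₁⁻¹) * (m₂ * c * m₂⁻¹)) * w₂) :
    ∃ x y : G, g = (x * c * x⁻¹) * (y * c * y⁻¹) := by
  obtain ⟨a, -, ha⟩ := exists_conj_left Wv (hMv c hc) hfv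
    (show m₁⁻¹ * w₁ * m₁⁻¹⁻¹ ∈ Wv from hMv _ (inv_mem h₁) _ hw₁)
  obtain ⟨b, -, hb⟩ := exists_conj_right Wu (hMu c hc) hfu
    (show m₂⁻¹ * w₂ * m₂⁻¹⁻¹ ∈ Wu from hMu _ (inv_mem h₂) _ hw₂)
  refine ⟨z⁻¹ * (m₁ * a), z⁻¹ * (m₂ * b), ?_⟩
  calc g = z⁻¹ * (z * g * z⁻¹) * z := by group
    _ = z⁻¹ * ((m₁ * (m₁⁻¹ * w₁ * m₁⁻¹⁻¹ * c) * m₁⁻¹) *
          (m₂ * (c * (m₂⁻¹ * w₂ * m₂⁻¹⁻¹)) * m₂⁻¹)) * z := by rw [hz]; group
    _ = _ := by rw [← ha, ← hb]; group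

/-- Covering the image of a group in which only central elements are exceptional. -/
theorem quotient_square {Q : Type*} [Group Q] (φ : G →* Q) (hφ : Function.Surjective φ)
    (hker : ∀ g ∈ Subgroup.center G, φ g = 1) {c : G}
    (hreal : ∃ x : Q, x * φ c * x⁻¹ = (φ c)⁻¹)
    (hcover : ∀ g ∉ Subgroup.center G, ∃ x y : G, g = (x * c * x⁻¹) * (y * c * y⁻¹)) :
    ∃ d : Q, ∀ k : Q, ∃ x y : Q, k = (x * d * x⁻¹) * (y * d * y⁻¹) := by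
  refine ⟨φ c, fun k => ?_⟩
  obtain ⟨g, rfl⟩ := hφ k
  by_cases hg : g ∈ Subgroup.center G
  · obtain ⟨x, hx⟩ := hreal
    exact ⟨1, x, by rw [hker g hg, hx]; group⟩
  · obtain ⟨x, y, rfl⟩ := hcover g hg
    exact ⟨φ x, φ y, by simp⟩

/-- Transfer along an isomorphism. -/
theorem square_transfer {Q H : Type*} [Group Q] [Group H] (e : Q ≃* H)
    (h : ∃ d : H, ∀ k : H, ∃ x y : H, k = (x * d * x⁻¹) * (y * d * y⁻¹)) :
    ∃ d : Q, ∀ k : Q, ∃ x y : Q, k = (x * d * x⁻¹) * (y * d * y⁻¹) := by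
  obtain ⟨d, hd⟩ := h
  refine ⟨e.symm d, fun k => ?_⟩
  obtain ⟨x, y, hk⟩ := hd (e k)
  exact ⟨e.symm x, e.symm y, e.injective (by simp [hk])⟩

open PrescribedGauss

/-- The covering for a group with a split root datum. -/
theorem cover_of_rootData [Finite G] {F : Type*} [Field F] [Fintype F] {ι : Type*} [Fintype ι]
    (D : RootData G F ι) (hq : 7 ≤ Fintype.card F) (hA : ∀ i, D.A i i = 2)
    (hrow : ∀ i, ∑ j ∈ (@Finset.erase ι (Classical.decEq ι) Finset.univ i), (D.A i j).natAbs ≤ 3)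
    (hconn : D.Connected) (M Wv Wu : Subgroup G) {c : G} (goal : ι → Fˣ) (hc : c ∈ M)
    (hMv : ∀ m ∈ M, ∀ w ∈ Wv, m * w * m⁻¹ ∈ Wv) (hMu : ∀ m ∈ M, ∀ w ∈ Wu, m * w * m⁻¹ ∈ Wu)
    (hfv : ∀ w ∈ Wv, c * w = w * c → w = 1) (hfu : ∀ w ∈ Wu, c * w = w * c → w = 1)
    (hmid : ∀ v ∈ D.V, ∀ u ∈ D.U, ∃ w₁ ∈ Wv, ∃ w₂ ∈ Wu, ∃ m₁ ∈ M, ∃ m₂ ∈ M,
      v * D.T goal * u = w₁ * ((m₁ * c * m₁⁻¹) * (m₂ * c * m₂⁻¹)) * w₂)
    {g : G} (hg : g ∉ Subgroup.center G) : ∃ x y : G, g = (x * c * x⁻¹) * (y * c * y⁻¹) := by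
  obtain ⟨z, v, hv, u, hu, hz⟩ :=
    D.form_of_notMem_center hq hA (fun i => by convert hrow i) hconn hg goal
  obtain ⟨w₁, hw₁, w₂, hw₂, m₁, h₁, m₂, h₂, e⟩ := hmid v hv u hu
  exact product_of_form M Wv Wu hc hMv hMu hfv hfu hw₁ hw₂ h₁ h₂ (hz.trans e)

end Cfsg.Agent.Classical.ClassSquareLevi
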