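import Cfsg.Agent.Lib.Classical.ChevLeviHoms
import Cfsg.Agent.Lib.Classical.ClassSquareLevi
import Cfsg.Agent.Lib.Lie.Chev.CycTori
import Cfsg.Agent.Lib.Lie.Chev.SteinbergKer

/-!
A Chevalley group is the square of the class of `c = t * j`, with `t` in the split torus and `j`
regular unipotent in a Levi subgroup of type `A`.
-/

set_option autoImplicit false
set_option linter.unusedSectionVars false

namespace Cfsg.Agent.Classical.ThompsonChev

open Cfsg.Lie Cfsg.Agent.Lie.Chev Cfsg.Agent.Classical.RegularBlocks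
open scoped MatrixGroups

variable {D : ChevalleyDatum} (c : CertFull D) {F : Type*} [Field F] {g : Cfg}

/-- The torus element of an exponent vector. -/
def zfun (ζ : Fˣ) (v : List ℤ) : ℕ → Fˣ := fun i => ζ ^ v.getD i 0

include c

theorem tchar_zfun (ζ : Fˣ) (v : List ℤ) (r : ℕ) : c.tchar (zfun ζ v) r = ζ ^ Cfg.expo c.T v r := by
  rw [Cert.tchar, Cfg.expo, ← c.rank_eq, ← zpow_sum_eq]
  exact Finset.prod_congr rfl fun i _ => (_root_.zpow_mul ζ _ _).symm

/-- The value of a root on the torus parameters, as a homomorphism. -/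
def tcharHom (F : Type*) [Field F] (r : ℕ) : (ℕ → Fˣ) →* Fˣ where
  toFun z := c.tchar z r
  map_one' := by simp [Cert.tchar]
  map_mul' z z' := by simp [Cert.tchar, mul_zpow, Finset.prod_mul_distrib]

theorem te_commute_xe {z : ℕ → Fˣ} {r : ℕ} (h : c.tchar z r = 1) (t : F) :
    Commute (te c F z) (xe c r t) := by
  have := te_conj c z r t
  rw [h, Units.val_one, one_mul] at this
  exact mul_inv_eq_iff_eq_mul.1 this

theorem pair_mem {S : Subgroup ↥(D.group F)} {a b r : ℕ} {C : ℤ}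
    (ha : a < D.nroots) (hb : b < D.nroots) (hr : r < D.nroots) (h1 : b ≠ a) (h2 : b ≠ c.T.neg a)
    (hterm : c.T.commTerms a b = [(r, C, 1, 1)]) (hC : C * C = 1)
    (hSa : ∀ t, xe c a t ∈ S) (hSb : ∀ t, xe c b t ∈ S) (s : F) : xe c r s ∈ S := by
  have key := c.xg_comm ha hb h1 (by rw [c.neg_eq ha]; exact h2) (-((C : F) * s)) 1
  rw [hterm] at key
  simp only [List.map_cons, List.map_nil, List.prod_cons, List.prod_nil, mul_one, pow_one, neg_neg] at key
  have hC' : (C : F) * ((C : F) * s) = s := by rw [← mul_assoc, ← Int.cast_mul, hC, Int.cast_one, one_mul]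
  rw [hC'] at key
  have e : xe c r s = (xe c a (-((C : F) * s)) * xe c b 1)⁻¹ * (xe c b 1 * xe c a (-((C : F) * s))) := by
    apply Subtype.ext
    rw [Subgroup.coe_mul, Subgroup.coe_inv, Subgroup.coe_mul, Subgroup.coe_mul, xe_val c ha, xe_val c hb,
      xe_val c hr, key, inv_mul_cancel_left]
  rw [e]
  exact mul_mem (inv_mem (mul_mem (hSa _) (hSb _))) (mul_mem (hSb _) (hSa _))

theorem PJ_mem (hF : RootFacts c g) {S : Subgroup ↥(D.group F)}
    (hS : ∀ p ∈ g.nodes, ∀ t, xe c (D.simple p) t ∈ S) :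
    ∀ r ∈ g.PJ c.T, ∀ t, xe c r t ∈ S := by
  intro r
  induction r using Nat.strong_induction_on with
  | _ r ih =>
    intro hr t
    have hb := hF.builtP r hr
    simp only [Cfg.builtBy, Bool.or_eq_true, List.contains_iff_mem, List.mem_map, List.any_eq_true,
      Bool.and_eq_true, Bool.not_eq_true', Nat.blt_eq] at hb
    rcases hb with ⟨p, hp, rfl⟩ | ⟨a, ha, b, hb, ⟨⟨⟨h1, h2⟩, h3⟩, h4⟩, h5⟩
    · rw [simple_tbl c (hF.nodes_lt p hp)]; exact hS p hp t
    · split at h5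
      · next x C i j heq =>
        simp only [Bool.and_eq_true, Nat.beq_eq, decide_eq_true_eq] at h5
        obtain ⟨⟨⟨rfl, hC⟩, rfl⟩, rfl⟩ := h5
        exact pair_mem c (PJ_lt c ha) (PJ_lt c hb) (PJ_lt c hr) (Nat.ne_of_beq_eq_false h3)
          (Nat.ne_of_beq_eq_false h4) heq hC (ih a h1 ha) (ih b h2 hb) t
      · cases h5

theorem NJ_mem (hF : RootFacts c g) {S : Subgroup ↥(D.group F)}
    (hS : ∀ p ∈ g.nodes, ∀ t, xe c (D.neg (D.simple p)) t ∈ S) :
    ∀ r ∈ g.NJ c.T, ∀ t, xe c r t ∈ S := by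
  suffices ∀ d, ∀ r ∈ g.NJ c.T, D.nroots - r = d → ∀ t, xe c r t ∈ S from fun r hr => this _ r hr rfl
  intro d
  induction d using Nat.strong_induction_on with
  | _ d ih =>
    intro r hr hd t
    have hlt := NJ_lt c hr
    have hb := hF.builtN r hr
    simp only [Cfg.builtBy, Bool.or_eq_true, List.contains_iff_mem, List.mem_map, List.any_eq_true,
      Bool.and_eq_true, Bool.not_eq_true', Nat.blt_eq] at hb
    rcases hb with ⟨p, hp, rfl⟩ | ⟨a, ha, b, hb, ⟨⟨⟨h1, h2⟩, h3⟩, h4⟩, h5⟩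
    · rw [nsimple_tbl c (hF.nodes_lt p hp)]; exact hS p hp t
    · split at h5
      · next x C i j heq =>
        simp only [Bool.and_eq_true, Nat.beq_eq, decide_eq_true_eq] at h5
        obtain ⟨⟨⟨rfl, hC⟩, rfl⟩, rfl⟩ := h5
        have := NJ_lt c ha
        have := NJ_lt c hb
        exact pair_mem c (NJ_lt c ha) (NJ_lt c hb) hlt (Nat.ne_of_beq_eq_false h3)
          (Nat.ne_of_beq_eq_false h4) heq hC (ih _ (by omega) a ha rfl) (ih _ (by omega) b hb rfl) t
      · cases h5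

/-- The normalising elements of a root subgroup list. -/
theorem mem_normalizer_rs {R : List ℕ} {s : ℕ} (hs : s < D.nroots) (hR : ∀ r ∈ R, r < D.nroots)
    (hcl : closedUnder c.T R s = true) (a : F) :
    xe c s a ∈ Subgroup.normalizer (rs c F R : Set ↥(D.group F)) := by
  refine Subgroup.mem_normalizer_iff.2 fun w => ⟨fun hw => xe_rs c hs hR hcl a hw, fun hw => ?_⟩
  have h2 := xe_rs c hs hR hcl (-a) hw
  rw [xe_neg] at h2
  simpa [mul_assoc] using h2

theorem te_mem_normalizer_rs {R : List ℕ} (z : ℕ → Fˣ) :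
    te c F z ∈ Subgroup.normalizer (rs c F R : Set ↥(D.group F)) := by
  refine Subgroup.mem_normalizer_iff.2 fun w => ⟨fun hw => te_rs c z hw, fun hw => ?_⟩
  have h2 := te_rs c z⁻¹ hw
  rw [map_inv] at h2
  simpa [mul_assoc] using h2

section Levi

variable (Ψ : (k : Fin g.nc) → Matrix.SpecialLinearGroup (Fin (g.len k + 1)) F →* ↥(D.group F))

/-- The given homomorphisms are those of the components. -/
def IsPsi : Prop :=
  ∀ (k : Fin g.nc) (l : Fin (g.len k)) (t : F),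
    Ψ k (adjUp l t) = xe c (D.simple (g.node k l)) t ∧
    Ψ k (adjLo l t) = xe c (D.neg (D.simple (g.node k l))) t

variable {Ψ}

theorem psi_mem (hΨ : IsPsi c Ψ) {S : Subgroup ↥(D.group F)} {k : Fin g.nc}
    (h1 : ∀ l < g.len k, ∀ t, xe c (D.simple (g.node k l)) t ∈ S)
    (h2 : ∀ l < g.len k, ∀ t, xe c (D.neg (D.simple (g.node k l))) t ∈ S)
    (X : Matrix.SpecialLinearGroup (Fin (g.len k + 1)) F) : Ψ k X ∈ S := by
  have htop : S.comap (Ψ k) = ⊤ :=
    adj_top (fun l t => by rw [Subgroup.mem_comap, (hΨ k l t).1]; exact h1 l l.2 t)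
      fun l t => by rw [Subgroup.mem_comap, (hΨ k l t).2]; exact h2 l l.2 t
  exact (htop ▸ Subgroup.mem_top X : X ∈ S.comap (Ψ k))

theorem psi_commute (hF : RootFacts c g) (hΨ : IsPsi c Ψ) :
    Pairwise fun k k' => ∀ x y, Commute (Ψ k x) (Ψ k' y) := by
  intro k k' hne x y
  have hne' : (k : ℕ) ≠ k' := Fin.val_ne_of_ne hne
  refine Subgroup.mem_centralizer_singleton_iff.1 (psi_mem c hΨ (S := Subgroup.centralizer {Ψ k' y}) ?_ ?_ x)
  all_goals
    intro l hl t
    refine Subgroup.mem_centralizer_singleton_iff.2 (Subgroup.mem_centralizer_singleton_iff.1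
      (psi_mem c hΨ (S := Subgroup.centralizer {_}) ?_ ?_ y)).symm
    all_goals
      intro l' hl' t'
      obtain ⟨ha, hn⟩ := hF.apart k k.2 l hl k' k'.2 l' hl' (Or.inl hne')
      refine Subgroup.mem_centralizer_singleton_iff.2 ?_
      exact (xe_apart c (hF.nodes_lt _ (node_mem c k.2 hl)) (hF.nodes_lt _ (node_mem c k'.2 hl')) hn ha
        (by first | exact Or.inl rfl | exact Or.inr rfl) (by first | exact Or.inl rfl | exact Or.inr rfl)
        t t').eq.symm

variable [Fintype F]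

omit c in
theorem exists_regW (F : Type*) [Field F] [Fintype F] (g : Cfg) :
    ∃ w : Lev g F, (∀ k : Fin g.nc, Reg (w k).val) ∧ ∀ k : Fin g.nc, w k ∈ lowU F (g.len k + 1) ∧
      w k = ((List.finRange (g.len k)).map fun l => adjLo l (1 : F)).prod := by
  refine ⟨fun k => ((List.finRange (g.len k)).map fun l => adjLo l (1 : F)).prod, fun k => ?_, fun k => ⟨?_, rfl⟩⟩
  · exact (reg_prod_adjLo (List.nodup_finRange _) (List.mem_finRange) (fun _ => (1 : F))
      fun _ => one_ne_zero).2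
  · exact (reg_prod_adjLo (List.nodup_finRange _) (List.mem_finRange) (fun _ => (1 : F))
      fun _ => one_ne_zero).1

variable (hF : RootFacts c g) (hΨ : IsPsi c Ψ)

/-- The homomorphism of the product onto the Levi subgroup. -/
noncomputable def levHom : Lev g F →* ↥(D.group F) :=
  MonoidHom.noncommPiCoprod Ψ (psi_commute c hF hΨ)

theorem levHom_single (k : Fin g.nc) (X : Matrix.SpecialLinearGroup (Fin (g.len k + 1)) F) :
    levHom c hF hΨ (Pi.mulSingle k X) = Ψ k X := by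
  unfold levHom
  apply MonoidHom.noncommPiCoprod_mulSingle

theorem lev_mem {S : Subgroup ↥(D.group F)}
    (h1 : ∀ p ∈ g.nodes, ∀ t, xe c (D.simple p) t ∈ S)
    (h2 : ∀ p ∈ g.nodes, ∀ t, xe c (D.neg (D.simple p)) t ∈ S) (X : Lev g F) : levHom c hF hΨ X ∈ S := by
  refine pi_induction (P := fun X => levHom c hF hΨ X ∈ S) (by simp) (fun a b ha hb => by
    rw [map_mul]; exact mul_mem ha hb) (fun k x => ?_) X
  rw [levHom_single]
  exact psi_mem c hΨ (fun l hl => h1 _ (node_mem c k.2 hl)) (fun l hl => h2 _ (node_mem c k.2 hl)) x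

theorem te_commute_lev {z : ℕ → Fˣ} (hz : ∀ p ∈ g.nodes, c.tchar z (D.simple p) = 1) (X : Lev g F) :
    Commute (te c F z) (levHom c hF hΨ X) := by
  have h := lev_mem c hF hΨ (S := Subgroup.centralizer {te c F z})
    (fun p hp t => Subgroup.mem_centralizer_singleton_iff.2 (te_commute_xe c (hz p hp) t).eq.symm)
    (fun p hp t => Subgroup.mem_centralizer_singleton_iff.2 (te_commute_xe c (r := D.neg (D.simple p))
      (by rw [c.tchar_neg z (c.simple_lt (hF.nodes_lt p hp)), hz p hp, inv_one]) t).eq.symm) X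
  exact (Subgroup.mem_centralizer_singleton_iff.1 h).symm

/-- The diagonal matrix of a component realised by a torus element. -/
noncomputable def diagOf (z : ℕ → Fˣ) (k : Fin g.nc) : Fin (g.len k + 1) → Fˣ := fun i =>
  ∏ l ∈ Finset.univ.filter (fun l : Fin (g.len k) => (i : ℕ) ≤ l), c.tchar z (D.simple (g.node k l))

theorem diagOf_succ (z : ℕ → Fˣ) (k : Fin g.nc) (l : Fin (g.len k)) :
    diagOf c z k l.castSucc = c.tchar z (D.simple (g.node k l)) * diagOf c z k l.succ := by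
  rw [diagOf, diagOf,
    show (Finset.univ.filter fun l' : Fin (g.len k) => ((l.castSucc : Fin _) : ℕ) ≤ l') =
      insert l (Finset.univ.filter fun l' : Fin (g.len k) => ((l.succ : Fin _) : ℕ) ≤ l') by
      ext l'
      simp only [Finset.mem_filter, Finset.mem_univ, true_and, Finset.mem_insert, Fin.ext_iff,
        Fin.val_castSucc, Fin.val_succ]
      omega]
  rw [Finset.prod_insert (by simp)]

theorem te_conj_lev (z : ℕ → Fˣ) (X : Lev g F) :
    te c F z * levHom c hF hΨ X * (te c F z)⁻¹ =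
      levHom c hF hΨ (fun k => conjDiag (diagOf c z k) (X k)) := by
  refine pi_induction (P := fun X => te c F z * levHom c hF hΨ X * (te c F z)⁻¹ =
      levHom c hF hΨ (fun k => conjDiag (diagOf c z k) (X k))) ?_ (fun a b ha hb => ?_) (fun k x => ?_) X
  · have : (fun k : Fin g.nc => conjDiag (diagOf c z k) ((1 : Lev g F) k)) = 1 := by funext k; simp
    rw [this, map_one]; simp
  · have : (fun k : Fin g.nc => conjDiag (diagOf c z k) ((a * b) k)) =
        (fun k => conjDiag (diagOf c z k) (a k)) * fun k => conjDiag (diagOf c z k) (b k) := by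
      funext k; simp
    rw [this, map_mul, map_mul, ← ha, ← hb]; group
  · have : (fun k' : Fin g.nc => conjDiag (diagOf c z k') ((Pi.mulSingle k x : Lev g F) k')) =
        Pi.mulSingle k (conjDiag (diagOf c z k) x) := by
      funext k'
      rcases eq_or_ne k' k with rfl | h
      · simp
      · simp [h]
    rw [this, levHom_single, levHom_single]
    have hhom : (MulAut.conj (te c F z)).toMonoidHom.comp (Ψ k) = (Ψ k).comp (conjDiag (diagOf c z k)) := by
      refine hom_ext_adj (fun l t => ?_) (fun l t => ?_)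
      · show te c F z * Ψ k (adjUp l t) * (te c F z)⁻¹ = Ψ k (conjDiag _ (adjUp l t))
        rw [(hΨ k l t).1, te_conj]
        unfold adjUp
        rw [conjDiag_tv]
        refine (congrArg (xe c _) ?_).trans ((hΨ k l _).1).symm
        rw [diagOf_succ c z k l, Units.val_mul, mul_right_comm, mul_assoc ((c.tchar z _ : Fˣ) : F),
          Units.mul_inv, mul_one]
      · show te c F z * Ψ k (adjLo l t) * (te c F z)⁻¹ = Ψ k (conjDiag _ (adjLo l t))
        rw [(hΨ k l t).2, te_conj, c.tchar_neg z (c.simple_lt (hF.nodes_lt _ (node_mem c k.2 l.2)))]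
        unfold adjLo
        rw [conjDiag_tv]
        refine (congrArg (xe c _) ?_).trans ((hΨ k l _).2).symm
        rw [diagOf_succ c z k l, mul_inv_rev, Units.val_mul]
        linear_combination (-(((c.tchar z (D.simple (g.node k l)))⁻¹ : Fˣ) : F) * t) *
          (diagOf c z k l.succ).mul_inv
    exact DFunLike.congr_fun hhom x

/-- The group normalising the two complements. -/
noncomputable def levGroup : Subgroup ↥(D.group F) := (levHom c hF hΨ).range ⊔ (te c F).range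

theorem levGroup_normalizes {R : List ℕ} (hR : ∀ r ∈ R, r < D.nroots)
    (hcl : ∀ p ∈ g.nodes, closedUnder c.T R (D.simple p) = true ∧
      closedUnder c.T R (D.neg (D.simple p)) = true) {m w : ↥(D.group F)}
    (hm : m ∈ levGroup c hF hΨ) (hw : w ∈ rs c F R) : m * w * m⁻¹ ∈ rs c F R := by
  have h : levGroup c hF hΨ ≤ Subgroup.normalizer (rs c F R : Set ↥(D.group F)) := by
    refine sup_le ?_ ?_
    · rintro _ ⟨X, rfl⟩
      exact lev_mem c hF hΨ
        (fun p hp t => mem_normalizer_rs c (c.simple_lt (hF.nodes_lt p hp)) hR (hcl p hp).1 t)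
        (fun p hp t => mem_normalizer_rs c (c.neg_lt (c.simple_lt (hF.nodes_lt p hp))) hR (hcl p hp).2 t) X
    · rintro _ ⟨z, rfl⟩
      exact te_mem_normalizer_rs c z
  exact ((Subgroup.mem_normalizer_iff.1 (h hm)) w).1 hw

theorem simple_mem_range {p : ℕ} (hp : p ∈ g.nodes) (t : F) :
    xe c (D.simple p) t ∈ (levHom c hF hΨ).range ∧ xe c (D.neg (D.simple p)) t ∈ (levHom c hF hΨ).range := by
  obtain ⟨k, hk, l, hl, rfl⟩ := exists_node c hp
  exact ⟨⟨Pi.mulSingle ⟨k, hk⟩ (adjUp ⟨l, hl⟩ t), by rw [levHom_single]; exact (hΨ ⟨k, hk⟩ ⟨l, hl⟩ t).1⟩,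
    ⟨Pi.mulSingle ⟨k, hk⟩ (adjLo ⟨l, hl⟩ t), by rw [levHom_single]; exact (hΨ ⟨k, hk⟩ ⟨l, hl⟩ t).2⟩⟩

theorem PJ_le_upper :
    rs c F (g.PJ c.T) ≤ (Subgroup.pi Set.univ fun k : Fin g.nc => upU F (g.len k + 1)).map (levHom c hF hΨ) := by
  refine rs_le c fun r hr t => PJ_mem c hF (fun p hp t => ?_) r hr t
  obtain ⟨k, hk, l, hl, rfl⟩ := exists_node c hp
  refine ⟨Pi.mulSingle ⟨k, hk⟩ (adjUp ⟨l, hl⟩ t), fun k' _ => ?_, by
    rw [levHom_single]; exact (hΨ ⟨k, hk⟩ ⟨l, hl⟩ t).1⟩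
  rcases eq_or_ne k' ⟨k, hk⟩ with rfl | h
  · rw [Pi.mulSingle_eq_same]
    show (adjUp (⟨l, hl⟩ : Fin (g.len k)) t).transpose ∈ lowU F _
    convert adjLo_mem (⟨l, hl⟩ : Fin (g.len k)) t using 1
    refine Subtype.ext ?_
    show Matrix.transpose (Matrix.transvection _ _ t) = Matrix.transvection _ _ t
    rw [Matrix.transvection, Matrix.transvection, Matrix.transpose_add, Matrix.transpose_one,
      Matrix.transpose_single]
  · rw [Pi.mulSingle_eq_of_ne h]; exact Subgroup.one_mem _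

theorem NJ_le_lower :
    rs c F (g.NJ c.T) ≤ (Subgroup.pi Set.univ fun k : Fin g.nc => lowU F (g.len k + 1)).map (levHom c hF hΨ) := by
  refine rs_le c fun r hr t => NJ_mem c hF (fun p hp t => ?_) r hr t
  obtain ⟨k, hk, l, hl, rfl⟩ := exists_node c hp
  refine ⟨Pi.mulSingle ⟨k, hk⟩ (adjLo ⟨l, hl⟩ t), fun k' _ => ?_, by
    rw [levHom_single]; exact (hΨ ⟨k, hk⟩ ⟨l, hl⟩ t).2⟩
  rcases eq_or_ne k' ⟨k, hk⟩ with rfl | h
  · rw [Pi.mulSingle_eq_same]; exact adjLo_mem _ t
  · rw [Pi.mulSingle_eq_of_ne h]; exact Subgroup.one_mem _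

omit c in
/-- An exponent divisible by `gcd(n, m)` gives an `n`-th power. -/
theorem exists_root {ζ : Fˣ} {m n : ℕ} (hζ : orderOf ζ = m) {a : ℤ} (h : (Nat.gcd n m : ℤ) ∣ a) :
    ∃ s : Fˣ, s ^ n = ζ ^ a := by
  obtain ⟨y, rfl⟩ := h
  refine ⟨ζ ^ (Nat.gcdA n m * y), ?_⟩
  rw [← zpow_natCast, ← _root_.zpow_mul]
  refine (orderOf_dvd_sub_iff_zpow_eq_zpow).1 ?_
  rw [hζ, Nat.gcd_eq_gcd_ab n m]
  exact ⟨-(Nat.gcdB n m * y), by ring⟩

theorem det_diagOf {ζ : Fˣ} {z : ℕ → Fˣ} {v : List ℤ} (k : Fin g.nc)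
    (hz : ∀ l < g.len k, c.tchar z (D.simple (g.node k l)) = ζ ^ Cfg.expo c.T v (c.T.simple (g.node k l))) :
    ∏ i, diagOf c z k i = ζ ^ g.detExpo c.T v k := by
  simp only [diagOf, Finset.prod_filter]
  rw [Finset.prod_comm, Cfg.detExpo, Finset.sum_range, ← zpow_sum_eq]
  refine Finset.prod_congr rfl fun l _ => ?_
  rw [← Finset.prod_filter, Finset.prod_const, hz l l.2,
    show (Finset.univ.filter fun i : Fin (g.len k + 1) => (i : ℕ) ≤ l) = Finset.Iic l.castSucc by
      ext i; simp [Fin.le_def],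
    Fin.card_Iic, ← zpow_natCast, ← _root_.zpow_mul]
  congr 1
  simp
  ring

/-- All products of regular unipotent elements in the factors are conjugate under the torus and the Levi. -/
theorem exists_reach {m : ℕ} {ζ : Fˣ} (hζ : orderOf ζ = m) (hgen : ∀ x : Fˣ, x ∈ Subgroup.zpowers ζ)
    (hdet : ∀ k ∈ List.range g.nc, ∀ k' ∈ List.range g.nc,
      (Nat.gcd (g.len k + 1) m : ℤ) ∣ g.detExpo c.T (g.f.getD k' []) k - (if k = k' then 1 else 0))
    {X Y : Lev g F} (hX : ∀ k, Reg (X k).val) (hY : ∀ k, Reg (Y k).val) :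
    ∃ μ ∈ levGroup c hF hΨ, μ * levHom c hF hΨ X * μ⁻¹ = levHom c hF hΨ Y := by
  choose P hP using fun k => exists_conj (hX k) (hY k)
  choose a ha using fun k => Subgroup.mem_zpowers_iff.1 (hgen (Matrix.GeneralLinearGroup.det (P k)))
  let z : ℕ → Fˣ := ∏ k : Fin g.nc, zfun ζ (g.f.getD k []) ^ a k
  let dexp : Fin g.nc → ℤ := fun k => ∑ k' : Fin g.nc, a k' * g.detExpo c.T (g.f.getD k' []) k
  have hd : ∀ k, ∏ i, diagOf c z k i = ζ ^ dexp k := by
    intro k
    have e : ∀ l < g.len k, c.tchar z (D.simple (g.node k l)) =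
        ∏ k' : Fin g.nc, (ζ ^ Cfg.expo c.T (g.f.getD k' []) (c.T.simple (g.node k l))) ^ a k' := by
      intro l hl
      show tcharHom c F _ z = _
      rw [map_prod]
      refine Finset.prod_congr rfl fun k' _ => ?_
      rw [map_zpow, simple_tbl c (hF.nodes_lt _ (node_mem c k.2 hl))]
      congr 1
      exact tchar_zfun c ζ _ _
    simp only [diagOf, Finset.prod_filter]
    rw [Finset.prod_comm, ← zpow_sum_eq]
    simp only [← Finset.prod_filter]
    calc ∏ l : Fin (g.len k), ∏ _i ∈ Finset.univ.filter (fun i : Fin (g.len k + 1) => (i : ℕ) ≤ l),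
          c.tchar z (D.simple (g.node k l))
        = ∏ l : Fin (g.len k), ∏ k' : Fin g.nc,
            ζ ^ (a k' * (((l : ℕ) : ℤ) + 1) * Cfg.expo c.T (g.f.getD k' []) (c.T.simple (g.node k l))) := by
          refine Finset.prod_congr rfl fun l _ => ?_
          rw [Finset.prod_const, e l l.2, ← Finset.prod_pow,
            show (Finset.univ.filter fun i : Fin (g.len k + 1) => (i : ℕ) ≤ l) = Finset.Iic l.castSucc by
              ext i; simp [Fin.le_def],
            Fin.card_Iic]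
          refine Finset.prod_congr rfl fun k' _ => ?_
          rw [← zpow_natCast, ← _root_.zpow_mul, ← _root_.zpow_mul]
          congr 1
          simp
          ring
      _ = _ := by
          rw [Finset.prod_comm]
          refine Finset.prod_congr rfl fun k' _ => ?_
          rw [Cfg.detExpo, Finset.mul_sum, Finset.sum_range, ← zpow_sum_eq]
          exact Finset.prod_congr rfl fun l _ => by rw [mul_assoc]
  have hdiv : ∀ k : Fin g.nc, (Nat.gcd (g.len k + 1) m : ℤ) ∣ a k - dexp k := by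
    intro k
    have e : dexp k - a k = ∑ k' : Fin g.nc, a k' *
        (g.detExpo c.T (g.f.getD k' []) k - (if (k : ℕ) = k' then 1 else 0)) := by
      simp only [dexp, mul_sub, Finset.sum_sub_distrib, mul_ite, mul_one, mul_zero]
      congr 1
      rw [Finset.sum_eq_single k (fun k' _ h => if_neg fun e => h (Fin.ext e.symm)) (by simp), if_pos rfl]
    rw [← dvd_neg, neg_sub, e]
    exact Finset.dvd_sum fun k' _ => dvd_mul_of_dvd_right
      (hdet k (List.mem_range.2 k.2) k' (List.mem_range.2 k'.2)) _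
  choose s hs using fun k => exists_root hζ (hdiv k)
  have hSdet : ∀ k, ((((s k)⁻¹ : Fˣ) : F) •
      ((P k).val * Matrix.diagonal fun i => (((diagOf c z k i)⁻¹ : Fˣ) : F))).det = 1 := by
    intro k
    have e : ((P k).val.det) = ((ζ ^ a k : Fˣ) : F) := by
      rw [ha k]; rfl
    rw [Matrix.det_smul, Matrix.det_mul, Matrix.det_diagonal, e, ← Units.coe_prod, Finset.prod_inv_distrib,
      hd k, Fintype.card_fin, ← Units.val_pow_eq_pow_val, ← Units.val_mul, ← Units.val_mul, inv_pow, hs k,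
      zpow_sub, ← Units.val_one]
    congr 1
    group
  let S : Lev g F := fun k => ⟨_, hSdet k⟩
  refine ⟨levHom c hF hΨ S * te c F z, mul_mem (Subgroup.mem_sup_left ⟨S, rfl⟩)
    (Subgroup.mem_sup_right ⟨z, rfl⟩), ?_⟩
  rw [show levHom c hF hΨ S * te c F z * levHom c hF hΨ X * (levHom c hF hΨ S * te c F z)⁻¹ =
    levHom c hF hΨ S * (te c F z * levHom c hF hΨ X * (te c F z)⁻¹) * (levHom c hF hΨ S)⁻¹ by group,
    te_conj_lev, ← map_inv, ← map_mul, ← map_mul]
  congr 1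
  funext k
  show S k * conjDiag (diagOf c z k) (X k) * (S k)⁻¹ = Y k
  rw [mul_inv_eq_iff_eq_mul]
  refine Subtype.ext ?_
  show ((((s k)⁻¹ : Fˣ) : F) • ((P k).val * Matrix.diagonal fun i => (((diagOf c z k i)⁻¹ : Fˣ) : F))) *
      (Matrix.of fun i j => (diagOf c z k i : F) * (X k).val i j * ((diagOf c z k j)⁻¹ : Fˣ)) =
    (Y k).val * ((((s k)⁻¹ : Fˣ) : F) • ((P k).val * Matrix.diagonal fun i => (((diagOf c z k i)⁻¹ : Fˣ) : F)))
  rw [← hP k, Matrix.smul_mul, Matrix.mul_smul]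
  congr 1
  simp only [mul_assoc]
  congr 1
  rw [← mul_assoc ((P k)⁻¹).val, Units.inv_mul, one_mul]
  ext i j
  rw [Matrix.diagonal_mul, Matrix.mul_diagonal, Matrix.of_apply, ← mul_assoc, ← mul_assoc, Units.inv_mul,
    one_mul]

end Levi

variable [Fintype F]

theorem nwe_LJ_normalizes (hF : RootFacts c g) (hL : ∀ p ∈ g.LJ, p < D.rank) {R : List ℕ}
    (hR : ∀ r ∈ R, r < D.nroots)
    (hcl : ∀ p ∈ g.nodes, closedUnder c.T R (D.simple p) = true ∧
      closedUnder c.T R (D.neg (D.simple p)) = true) {w : ↥(D.group F)} (hw : w ∈ rs c F R) :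
    nwe c F g.LJ hL * w * (nwe c F g.LJ hL)⁻¹ ∈ rs c F R := by
  suffices h : ∀ L : List ℕ, (∀ p ∈ L, p ∈ g.nodes) → ∀ hL' : ∀ p ∈ L, p < D.rank,
      nwe c F L hL' ∈ Subgroup.normalizer (rs c F R : Set ↥(D.group F)) from
    ((Subgroup.mem_normalizer_iff.1 (h g.LJ hF.LJ_nodes hL)) w).1 hw
  intro L
  induction L with
  | nil =>
    intro _ hL'
    have e : nwe c F [] hL' = 1 := Subtype.ext (by simp [nwe, Cert.nw])
    rw [e]; exact one_mem _
  | cons p L ih =>
    intro hmem hL'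
    have hp := hL' p List.mem_cons_self
    obtain ⟨c1, c2⟩ := hcl p (hmem p List.mem_cons_self)
    have e : nwe c F (p :: L) hL' = (xe c (D.simple p) 1 * xe c (D.neg (D.simple p)) (-(1 : F)⁻¹) *
        xe c (D.simple p) 1) * nwe c F L (fun q hq => hL' q (List.mem_cons_of_mem _ hq)) := by
      apply Subtype.ext
      rw [Subgroup.coe_mul, Subgroup.coe_mul, Subgroup.coe_mul, xe_val c (c.simple_lt hp),
        xe_val c (c.neg_lt (c.simple_lt hp))]
      show c.nw F (p :: L) = c.ng (D.simple p) 1 * c.nw F L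
      simp [Cert.nw, Cert.np]
    rw [e]
    exact mul_mem (mul_mem (mul_mem (mem_normalizer_rs c (c.simple_lt hp) hR c1 _)
      (mem_normalizer_rs c (c.neg_lt (c.simple_lt hp)) hR c2 _)) (mem_normalizer_rs c (c.simple_lt hp) hR c1 _))
      (ih (fun q hq => hmem q (List.mem_cons_of_mem _ hq)) _)

/-- No nontrivial element of the complement is fixed by the torus element. -/
theorem eq_one_of_torus_fixed (hF : RootFacts c g) {z : ℕ → Fˣ} (hz : ∀ r ∈ g.RJ c.T, c.tchar z r ≠ 1)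
    {w : ↥(D.group F)} (hw : w ∈ rs c F (g.RJ c.T)) (hfix : te c F z * w * (te c F z)⁻¹ = w) : w = 1 := by
  have hwp : (w : GL D.Idx F) ∈ c.K F c.T.h := by
    rw [← c.posUnipotent_eq]
    exact rs_pos_val c (rs_mono c (fun r hr => (List.mem_filter.1 hr).1) hw)
  obtain ⟨t, ht⟩ := c.exists_oprod _ c.T.h rfl le_rfl _ hwp
  have hconj : c.torus z * c.oprod c.T.h t * (c.torus z)⁻¹ =
      c.oprod c.T.h (fun r => (c.tchar z r : F) * t r) := by
    rw [← MulAut.conj_apply, Cert.oprod, map_list_prod, List.map_map, Cert.oprod]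
    congr 1
    refine List.map_congr_left fun r hr => ?_
    rw [List.mem_range'_1] at hr
    exact c.torus_conj_xg z (by omega) _
  have hf := congrArg Subtype.val hfix
  rw [Subgroup.coe_mul, Subgroup.coe_mul, Subgroup.coe_inv, te_val, ht, hconj] at hf
  have hzero : ∀ r ∈ g.RJ c.T, t r = 0 := by
    intro r hr
    have h := (mem_posList c).1 (List.mem_filter.1 hr).1
    have e := c.oprod_inj _ c.T.h rfl le_rfl _ _ hf r h.1 h.2
    by_contra hne
    refine hz r hr (Units.ext ?_)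
    rw [Units.val_one]
    exact mul_right_cancel₀ hne (e.trans (one_mul _).symm)
  have hPJ : w ∈ rs c F (g.PJ c.T) := by
    have e : w = ((List.range' c.T.h (D.nroots - c.T.h)).map fun r => xe c r (t r)).prod := by
      apply Subtype.ext
      rw [Subgroup.val_list_prod, List.map_map, ht, Cert.oprod]
      congr 1
      refine List.map_congr_left fun r hr => ?_
      rw [List.mem_range'_1] at hr
      exact (xe_val c (by omega) _).symm
    rw [e]
    refine Subgroup.list_prod_mem _ fun x hx => ?_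
    obtain ⟨r, hr, rfl⟩ := List.mem_map.1 hx
    have hr' : r ∈ posList c.T := by rw [posList, ← c.nroots_eq]; exact hr
    rcases pos_split c hr' with h | h
    · rw [hzero r h, xe_zero]; exact one_mem _
    · exact xe_mem_rs c h _
  have hL : ∀ p ∈ g.LJ, p < D.rank := fun p hp => hF.nodes_lt p (hF.LJ_nodes p hp)
  have h1 := nwe_LJ_normalizes c hF hL (fun r hr => RJ_lt c hr)
    (fun p hp => ⟨(hF.closed p hp).1, (hF.closed p hp).2.1⟩) hw
  have h2 := conj_rs c (g := nwe c F g.LJ hL) (K := rs c F (negList c.T)) (fun r hr s => by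
    rw [nwe_conj c hL (PJ_lt c hr)]; exact xe_mem_rs c (hF.LJ_neg r hr) _) hPJ
  exact conj_eq_one_iff.1
    (pos_inter_neg c (rs_mono c (fun r hr => (List.mem_filter.1 hr).1) h1) h2)

/-- The class-square covering of a Chevalley group. -/
theorem square_of_cfg {p : ℕ} [Fact p.Prime] [CharP F p] (g : Cfg)
    (hG : checkGauss c.T g.L0 = true) (hR : g.checkRoots c.T = true)
    (hT : g.TorusOK c.T (Fintype.card F - 1)) (hq : 7 ≤ Fintype.card F)
    (hrow : ∀ i : Fin D.rank, ∑ j ∈ Finset.univ.erase i, (c.T.cartan i (D.simple j)).natAbs ≤ 3)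
    (hconn : ∀ S : Finset (Fin D.rank), S.Nonempty → S ≠ Finset.univ →
      ∃ q ∈ S, ∃ r ∉ S, c.T.cartan q (D.simple r) ≠ 0) :
    ∃ d : ↥(D.group F), ∀ k : ↥(D.group F), ∃ x y : ↥(D.group F), k = (x * d * x⁻¹) * (y * d * y⁻¹) := by
  classical
  have hF := rootFacts c hR
  obtain ⟨hT1, hT2, hT3, hT4⟩ := hT
  obtain ⟨ζ, hgen⟩ := IsCyclic.exists_generator (α := Fˣ)
  set m := Fintype.card F - 1 with hm
  have hζ : orderOf ζ = m := by
    rw [orderOf_eq_card_of_forall_mem_zpowers hgen, Nat.card_units, Nat.card_eq_fintype_card, hm]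
  have hζz : ∀ a : ℤ, ζ ^ a = 1 ↔ (m : ℤ) ∣ a := fun a => by rw [← hζ, orderOf_dvd_iff_zpow_eq_one]
  choose Ψ hΨ using fun k : Fin g.nc => exists_psi c (F := F) hF k.2
  obtain ⟨w, hw, hwl⟩ := exists_regW F g
  set z := zfun ζ g.e with hz
  have hzJ : ∀ q ∈ g.nodes, c.tchar z (D.simple q) = 1 := fun q hq => by
    rw [hz, tchar_zfun, hζz, ← simple_tbl c (hF.nodes_lt q hq)]
    exact hT2 q hq
  have hzR : ∀ r ∈ g.RJ c.T, c.tchar z r ≠ 1 := fun r hr e => hT1 r hr ((hζz _).1 (by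
    rw [← tchar_zfun]; exact e))
  set Φ := levHom c hF hΨ
  set T₀ := te c F z
  have hcomm : ∀ X, Commute T₀ (Φ X) := te_commute_lev c hF hΨ hzJ
  set cc := T₀ * Φ w
  set M := levGroup c hF hΨ with hM
  have hTM : T₀ ∈ M := Subgroup.mem_sup_right ⟨z, rfl⟩
  have hΦM : ∀ X, Φ X ∈ M := fun X => Subgroup.mem_sup_left ⟨X, rfl⟩
  have hMT : ∀ μ ∈ M, Commute μ T₀ := by
    intro μ hμ
    have h : M ≤ Subgroup.centralizer {T₀} := sup_le (by
      rintro _ ⟨X, rfl⟩; exact Subgroup.mem_centralizer_singleton_iff.2 (hcomm X).eq.symm) (by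
      rintro _ ⟨z', rfl⟩
      exact Subgroup.mem_centralizer_singleton_iff.2 (by rw [← map_mul, mul_comm, map_mul]))
    exact Subgroup.mem_centralizer_singleton_iff.1 (h hμ)
  have hreach : ∀ Y : Lev g F, (∀ k, Reg (Y k).val) → ∃ μ ∈ M, μ * cc * μ⁻¹ = T₀ * Φ Y := by
    intro Y hY
    obtain ⟨μ, hμ, e⟩ := exists_reach c hF hΨ hζ hgen hT4 hw hY
    refine ⟨μ, hμ, ?_⟩
    have e' : μ * Φ w * μ⁻¹ = Φ Y := e
    rw [← e', show μ * (T₀ * Φ w) * μ⁻¹ = (μ * T₀) * Φ w * μ⁻¹ by group, (hMT μ hμ).eq]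
    group
  have hMU : ∀ μ ∈ M, ∀ x ∈ rs c F (g.RJ c.T), μ * x * μ⁻¹ ∈ rs c F (g.RJ c.T) := fun μ hμ x hx =>
    levGroup_normalizes c hF hΨ (fun r hr => RJ_lt c hr)
      (fun q hq => ⟨(hF.closed q hq).1, (hF.closed q hq).2.1⟩) hμ hx
  have hMV : ∀ μ ∈ M, ∀ x ∈ rs c F (g.RN c.T), μ * x * μ⁻¹ ∈ rs c F (g.RN c.T) := fun μ hμ x hx =>
    levGroup_normalizes c hF hΨ (fun r hr => RN_lt c hr)
      (fun q hq => ⟨(hF.closed q hq).2.2.1, (hF.closed q hq).2.2.2⟩) hμ hx
  -- fixed points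
  set N := p ^ 2 with hN
  have hwN : w ^ N = 1 := by
    funext k
    refine Subtype.ext ?_
    show ((w k) ^ N).val = 1
    rw [Matrix.SpecialLinearGroup.coe_pow]
    refine (hw k).pow_eq_one ?_
    have := hF.len_le k k.2
    have h2 : 2 ^ 2 ≤ p ^ 2 := Nat.pow_le_pow_left (Fact.out : p.Prime).two_le 2
    omega
  have hcop : Nat.Coprime N m := by
    rw [hN]
    refine ((Fact.out : p.Prime).coprime_iff_not_dvd.2 fun hdvd => ?_).pow_left _
    obtain ⟨n, -, hn⟩ := FiniteField.card F p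
    have h1 : p ∣ Fintype.card F := hn ▸ dvd_pow_self p n.pos.ne'
    have := Nat.dvd_sub h1 hdvd
    rw [hm, Nat.sub_sub_self (by omega)] at this
    exact (Fact.out : p.Prime).ne_one (Nat.dvd_one.1 this)
  have hfu : ∀ x ∈ rs c F (g.RJ c.T), cc * x = x * cc → x = 1 := by
    intro x hx hfix
    refine eq_one_of_torus_fixed c hF hzR hx (mul_inv_eq_iff_eq_mul.2 ?_)
    have hccN : cc ^ N = T₀ ^ N := by rw [(hcomm w).mul_pow, ← map_pow Φ, hwN, map_one, mul_one]
    have h1 : Commute (T₀ ^ N) x := by rw [← hccN]; exact (show Commute cc x from hfix).pow_left N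
    have hTm : T₀ ^ m = 1 := by
      rw [← map_pow, show z ^ m = 1 from ?_, map_one]
      funext i
      show (ζ ^ g.e.getD i 0) ^ m = 1
      rw [← zpow_natCast, ← _root_.zpow_mul, hζz]
      exact dvd_mul_left _ _
    have h2 : Commute (T₀ ^ (Nat.gcd N m)) x := by
      have e : T₀ ^ (Nat.gcd N m) = (T₀ ^ N) ^ Nat.gcdA N m := by
        rw [← zpow_natCast, Nat.gcd_eq_gcd_ab N m, zpow_add, _root_.zpow_mul, _root_.zpow_mul, zpow_natCast,
          zpow_natCast, hTm, one_zpow, mul_one]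
      rw [e]; exact h1.zpow_left _
    rw [Nat.Coprime.gcd_eq_one hcop, pow_one] at h2
    exact h2.eq
  -- the longest element
  have hL0 : ∀ q ∈ g.L0, q < D.rank := by
    have h := hG
    simp only [checkGauss, Bool.and_eq_true, List.all_eq_true, Nat.blt_eq] at h
    exact fun q hq => c.rank_eq ▸ h.1.1.2 q hq
  set n₀ := nwe c F g.L0 hL0 with hn0
  have hn0T : n₀ * T₀ * n₀⁻¹ = T₀⁻¹ := by
    rw [← map_inv]
    apply Subtype.ext
    rw [Subgroup.coe_mul, Subgroup.coe_mul, Subgroup.coe_inv, te_val, te_val]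
    refine c.nw_conj_torus hL0 fun s hs => ?_
    show tcharHom c F _ z⁻¹ = _
    rw [map_inv]
    show (c.tchar (zfun ζ g.e) _)⁻¹ = c.tchar (zfun ζ g.e) s
    rw [tchar_zfun, tchar_zfun, inv_eq_iff_mul_eq_one, ← zpow_add, hζz, wl_eq_foldr]
    exact hT3 s (List.mem_range.2 (c.nroots_eq ▸ hs))
  have himg : ∀ k : Fin g.nc, ∃ B : Matrix.SpecialLinearGroup (Fin (g.len k + 1)) F, Reg B.val ∧
      Ψ k B = n₀ * Ψ ⟨g.sigma.getD k 0, (hF.sigma k k.2).1⟩ (w _) * n₀⁻¹ := by
    intro k'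
    obtain ⟨hs1, hs2, hs3, -⟩ := hF.sigma k' k'.2
    set k : Fin g.nc := ⟨g.sigma.getD k' 0, hs1⟩ with hk
    obtain ⟨-, -, -, hdir⟩ := hF.sigma k k.2
    have hσk : g.sigma.getD k 0 = k' := hs2
    obtain ⟨π, hπinj, hπ⟩ : ∃ π : Fin (g.len k) → Fin (g.len k'), Function.Bijective π ∧ ∀ l : Fin (g.len k),
        c.wl g.L0 (D.simple (g.node k l)) = D.neg (D.simple (g.node k' (π l))) := by
      have key : ∀ l : Fin (g.len k), ∀ l' : ℕ, l' < g.len k' →
          g.L0.foldr c.T.refl (c.T.simple (g.node k l)) = c.T.neg (c.T.simple (g.node k' l')) →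
          c.wl g.L0 (D.simple (g.node k l)) = D.neg (D.simple (g.node k' l')) := by
        intro l l' hl' e
        rw [wl_eq_foldr, ← simple_tbl c (hF.nodes_lt _ (node_mem c k.2 l.2)), e,
          nsimple_tbl c (hF.nodes_lt _ (node_mem c k'.2 hl'))]
      rcases hdir with h | h
      · refine ⟨Fin.cast hs3, (finCongr hs3).bijective, fun l => key l l (hs3 ▸ l.2) ?_⟩
        have h' := List.all_eq_true.1 h l (List.mem_range.2 l.2)
        rw [Nat.beq_eq, hσk] at h'
        exact h'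
      · refine ⟨fun l => Fin.cast hs3 l.rev, ((finCongr hs3).bijective.comp Fin.rev_bijective), fun l => ?_⟩
        refine key l _ (Fin.cast hs3 l.rev).2 ?_
        have h' := List.all_eq_true.1 h l (List.mem_range.2 l.2)
        rw [Nat.beq_eq, hσk] at h'
        rw [h']
        congr 3
        simp only [Fin.val_cast, Fin.val_rev]
        have : g.len k = g.len (g.sigma.getD k' 0) := rfl; omega
    let e := Equiv.ofBijective π hπinj
    refine ⟨((List.finRange (g.len k)).map π |>.map fun l' => adjUp l'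
      ((c.wsign g.L0 (D.neg (D.simple (g.node k (e.symm l')))) : F) * 1)).prod,
      reg_prod_adjUp ((List.nodup_finRange _).map hπinj.1)
        (fun l' => List.mem_map.2 ⟨e.symm l', List.mem_finRange _, e.apply_symm_apply l'⟩) _
        (fun l' => mul_ne_zero (c.wsign_ne_zero _ _) one_ne_zero), ?_⟩
    rw [(hwl k).2, ← MulAut.conj_apply, map_list_prod, map_list_prod, map_list_prod, List.map_map, List.map_map,
      List.map_map, List.map_map]
    congr 1
    refine List.map_congr_left fun l _ => ?_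
    show Ψ k' (adjUp (π l) _) = n₀ * Ψ k (adjLo l 1) * n₀⁻¹
    have hp := hF.nodes_lt _ (node_mem c k.2 l.2)
    have hq := hF.nodes_lt _ (node_mem c k'.2 (π l).2)
    rw [(hΨ k' (π l) _).1, (hΨ k l _).2, hn0, nwe_conj c hL0 (c.neg_lt (c.simple_lt hp)),
      c.wl_neg hL0 (c.simple_lt hp), hπ l, c.neg_neg (c.simple_lt hq)]
    congr 4
    exact congrArg (fun x : Fin _ => D.neg (D.simple (g.node k x))) (e.symm_apply_apply l)
  choose Y hY hYimg using himg
  have hsingle : ∀ (k : Fin g.nc) X, Φ (Pi.mulSingle k X) = Ψ k X := levHom_single c hF hΨ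
  have hn0w : n₀ * Φ w * n₀⁻¹ = Φ Y := by
    let σ : Fin g.nc → Fin g.nc := fun k => ⟨g.sigma.getD k 0, (hF.sigma k k.2).1⟩
    have hσ : Function.Involutive σ := fun k => Fin.ext (hF.sigma k k.2).2.1
    suffices ∀ S : Finset (Fin g.nc), n₀ * Φ (fun k => if k ∈ S then w k else 1) * n₀⁻¹ =
        Φ (fun k => if σ k ∈ S then Y k else 1) by simpa using this Finset.univ
    intro S
    induction S using Finset.induction_on with
    | empty => simp ; simp [← Pi.one_def]
    | insert k S hk ih =>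
      have e1 : (fun k' => if k' ∈ insert k S then w k' else 1) =
          Pi.mulSingle k (w k) * fun k' => if k' ∈ S then w k' else 1 := by
        funext k'
        rcases eq_or_ne k' k with rfl | h
        · simp [hk]
        · simp [h]
      have e2 : (fun k' => if σ k' ∈ insert k S then Y k' else 1) =
          Pi.mulSingle (σ k) (Y (σ k)) * fun k' => if σ k' ∈ S then Y k' else 1 := by
        funext k'
        rcases eq_or_ne k' (σ k) with rfl | h
        · simp [hσ k, hk]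
        · have h' : σ k' ≠ k := fun e => h (by rw [← e, hσ k'])
          simp [h, h']
      rw [e1, e2, map_mul, map_mul, ← ih, hsingle, hsingle]
      have e3 : Ψ (σ k) (Y (σ k)) = n₀ * Ψ k (w k) * n₀⁻¹ := by
        rw [hYimg (σ k)]
        exact congrArg (fun j => n₀ * Ψ j (w j) * n₀⁻¹) (hσ k)
      rw [e3]; group
  have hn0c : ∃ μ ∈ M, n₀ * cc * n₀⁻¹ = μ * cc⁻¹ * μ⁻¹ := by
    have hYr : ∀ k, Reg ((Y⁻¹ : Lev g F) k).val := fun k => (hY k).inv (by
      show (Y k).val * ((Y k)⁻¹).val = 1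
      rw [← RegularBlocks.val_mul', mul_inv_cancel, RegularBlocks.val_one'])
    obtain ⟨μ, hμ, e⟩ := hreach Y⁻¹ hYr
    refine ⟨μ, hμ, ?_⟩
    rw [show μ * cc⁻¹ * μ⁻¹ = (μ * cc * μ⁻¹)⁻¹ by group, e, map_inv, mul_inv_rev, inv_inv,
      show n₀ * (T₀ * Φ w) * n₀⁻¹ = (n₀ * T₀ * n₀⁻¹) * (n₀ * Φ w * n₀⁻¹) by group, hn0T, hn0w]
    exact ((hcomm Y).inv_left).eq
  obtain ⟨μ₀, hμ₀, hn0cc⟩ := hn0c
  have hfv : ∀ x ∈ rs c F (g.RN c.T), cc * x = x * cc → x = 1 := by
    intro x hx hfix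
    have h1 : n₀ * x * n₀⁻¹ ∈ rs c F (g.RJ c.T) := conj_rs c (fun r hr t => by
      rw [hn0, nwe_conj c hL0 (RN_lt c hr)]; exact xe_mem_rs c (hF.L0_RN r hr) _) hx
    have h2 : μ₀⁻¹ * (n₀ * x * n₀⁻¹) * μ₀⁻¹⁻¹ ∈ rs c F (g.RJ c.T) := hMU _ (inv_mem hμ₀) _ h1
    have h3 : Commute (μ₀ * cc⁻¹ * μ₀⁻¹) (n₀ * x * n₀⁻¹) := by
      rw [← hn0cc]; exact (Commute.conj_iff n₀).2 (show Commute cc x from hfix)
    have h4 : Commute cc⁻¹ (μ₀⁻¹ * (n₀ * x * n₀⁻¹) * μ₀⁻¹⁻¹) := by
      have := (Commute.conj_iff (a := μ₀ * cc⁻¹ * μ₀⁻¹) (b := n₀ * x * n₀⁻¹) μ₀⁻¹).2 h3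
      rwa [show μ₀⁻¹ * (μ₀ * cc⁻¹ * μ₀⁻¹) * μ₀⁻¹⁻¹ = cc⁻¹ by group] at this
    have h5 := hfu _ h2 (Commute.inv_left_iff.1 h4).eq
    exact conj_eq_one_iff.1 (conj_eq_one_iff.1 h5)
  -- the middle part
  let Rd := rootData c hG (F := F)
  let goal : Fin D.rank → Fˣ := fun i => z i ^ 2
  have hgoal : Rd.T goal = T₀ * T₀ := by
    show te c F (padv D.rank goal) = te c F z * te c F z
    rw [← map_mul]
    refine Subtype.ext ?_
    rw [te_val, te_val, Cert.torus_apply, Cert.torus_apply]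
    refine dg_ext D F fun s hs => ?_
    rw [c.tchar_padv rfl, Cert.tchar, Finset.prod_range]
    exact Finset.prod_congr rfl fun i _ => by simp [goal, sq]
  have hA : ∀ i, Rd.A i i = 2 := fun i => by
    show c.T.cartan i (D.simple i) = 2
    rw [← c.cartan_eq i.2 (c.simple_lt i.2)]
    exact c.cartan_simple_self i.2
  have hmid : ∀ v ∈ Rd.V, ∀ u ∈ Rd.U, ∃ w₁ ∈ rs c F (g.RN c.T), ∃ w₂ ∈ rs c F (g.RJ c.T),
      ∃ m₁ ∈ M, ∃ m₂ ∈ M, v * Rd.T goal * u = w₁ * ((m₁ * cc * m₁⁻¹) * (m₂ * cc * m₂⁻¹)) * w₂ := by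
    intro v hv u hu
    have hn : ∀ {S R : List ℕ}, (∀ r ∈ S, ∀ t, xe c r t ∈ M) →
        (∀ μ ∈ M, ∀ x ∈ rs c F R, μ * x * μ⁻¹ ∈ rs c F R) →
        ∀ s ∈ S, ∀ a : F, ∀ x ∈ rs c F R, xe c s a * x * (xe c s a)⁻¹ ∈ rs c F R :=
      fun hS hR s hs a x hx => hR _ (hS s hs a) x hx
    have hPJM : ∀ r ∈ g.PJ c.T, ∀ t, xe c r t ∈ M := fun r hr t =>
      Subgroup.mem_sup_left (PJ_mem c hF (fun q hq t => (simple_mem_range c hF hΨ hq t).1) r hr t)
    have hNJM : ∀ r ∈ g.NJ c.T, ∀ t, xe c r t ∈ M := fun r hr t =>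
      Subgroup.mem_sup_left (NJ_mem c hF (fun q hq t => (simple_mem_range c hF hΨ hq t).2) r hr t)
    obtain ⟨a, ha, b, hb, rfl⟩ := rs_split c (hn hNJM hMV) (fun r hr => hF.negs r hr) hv
    obtain ⟨a', ha', b', hb', rfl⟩ := rs_split c (hn hPJM hMU) (fun r hr => pos_split c hr) hu
    obtain ⟨vl, hvl, rfl⟩ := NJ_le_lower c hF hΨ ha
    obtain ⟨ul, hul, rfl⟩ := PJ_le_upper c hF hΨ ha'
    choose A B hA' hB' hAB using fun k : Fin g.nc => exists_product (F := F) (m := g.len k + 1)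
      (by omega) (by have := hF.len_pos k k.2; omega) (hvl k trivial) (hul k trivial)
    obtain ⟨m₁, h₁, e₁⟩ := hreach A hA'
    obtain ⟨m₂, h₂, e₂⟩ := hreach B hB'
    refine ⟨_, hMV _ (hΦM vl) b hb, b', hb', m₁, h₁, m₂, h₂, ?_⟩
    rw [e₁, e₂, hgoal]
    calc Φ vl * b * (T₀ * T₀) * (Φ ul * b')
        = (Φ vl * b * (Φ vl)⁻¹) * ((Φ vl * (T₀ * T₀)) * Φ ul) * b' := by group
      _ = (Φ vl * b * (Φ vl)⁻¹) * ((T₀ * T₀) * (Φ vl * Φ ul)) * b' := by
          rw [((hcomm vl).symm.mul_right (hcomm vl).symm).eq]; group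
      _ = (Φ vl * b * (Φ vl)⁻¹) * ((T₀ * T₀) * (Φ A * Φ B)) * b' := by
          rw [← map_mul Φ, ← map_mul Φ, show vl * ul = A * B from funext hAB]
      _ = _ := by
          rw [show T₀ * T₀ * (Φ A * Φ B) = (T₀ * Φ A) * (T₀ * Φ B) from by
            calc T₀ * T₀ * (Φ A * Φ B) = T₀ * (T₀ * Φ A) * Φ B := by group
              _ = T₀ * (Φ A * T₀) * Φ B := by rw [(hcomm A).eq]
              _ = _ := by group]
  refine ClassSquareLevi.quotient_square (MonoidHom.id _) Function.surjective_id (fun x hx => ?_)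
    (c := cc) ⟨μ₀⁻¹ * n₀, ?_⟩ fun x hx =>
    ClassSquareLevi.cover_of_rootData Rd hq hA (fun i => by convert hrow i using 3 ; rfl) hconn M _ _ goal
      (mul_mem hTM (hΦM w)) hMV hMU hfv hfu hmid hx
  · rw [c.center_group_eq_bot, Subgroup.mem_bot] at hx; exact hx
  · show μ₀⁻¹ * n₀ * cc * (μ₀⁻¹ * n₀)⁻¹ = cc⁻¹
    rw [show μ₀⁻¹ * n₀ * cc * (μ₀⁻¹ * n₀)⁻¹ = μ₀⁻¹ * (n₀ * cc * n₀⁻¹) * μ₀ by group, hn0cc]
    group

end Cfsg.Agent.Classical.ThompsonChev
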