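import Cfsg.Agent.Lib.Classical.PrescribedGauss
import Cfsg.Agent.Lib.Lie.Chev.SLTwo
import Cfsg.Agent.Lib.Lie.Chev.SimpleGens
import Cfsg.Agent.Lib.Lie.Chev.TorusConj
import Cfsg.Agent.Lib.Lie.Chev.StTorus

/-!
Subgroups of a Chevalley group given by lists of roots, and its split root datum for the prescribed
Gauss decomposition.
-/

set_option autoImplicit false

namespace Cfsg.Agent.Classical.ThompsonChev

open Cfsg.Lie Cfsg.Agent.Lie.Chev
open scoped MatrixGroups

/-- A list of roots is stable under conjugation by a root subgroup. -/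
def closedUnder (T : Tables) (R : List ℕ) (s : ℕ) : Bool :=
  R.all fun r => !(Nat.beq r s) && !(Nat.beq r (T.neg s)) &&
    (T.commTerms s r).all fun x => R.contains x.1

/-- The positive roots. -/
def posList (T : Tables) : List ℕ := List.range' T.h (T.n - T.h)

/-- The negative roots. -/
def negList (T : Tables) : List ℕ := List.range T.h

/-- The negatives of a list of roots. -/
def negOf (T : Tables) (R : List ℕ) : List ℕ := R.map T.neg

/-- The checks behind the split root datum: the complements are stable and the longest word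
exchanges the signs. -/
def checkGauss (T : Tables) (L0 : List ℕ) : Bool :=
  (List.range T.l).all (fun i =>
    closedUnder T ((posList T).erase (T.simple i)) (T.simple i) &&
    closedUnder T ((posList T).erase (T.simple i)) (T.neg (T.simple i)) &&
    closedUnder T ((negList T).erase (T.neg (T.simple i))) (T.simple i) &&
    closedUnder T ((negList T).erase (T.neg (T.simple i))) (T.neg (T.simple i))) &&
  L0.all (fun p => Nat.blt p T.l) &&
  (posList T).all (fun r => Nat.blt (L0.foldr T.refl r) T.h) &&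
  (negList T).all (fun r => Nat.ble T.h (L0.foldr T.refl r))

section

variable {D : ChevalleyDatum} (c : CertFull D) {F : Type*} [Field F]

include c

/-- A root element in the group. -/
def xe (r : ℕ) (t : F) : ↥(D.group F) :=
  if h : r < D.nroots then ⟨c.xg r t, c.xg_mem_group h t⟩ else 1

theorem xe_val {r : ℕ} (hr : r < D.nroots) (t : F) : (xe c r t : GL D.Idx F) = c.xg r t := by
  rw [xe, dif_pos hr]

theorem xe_add (r : ℕ) (t u : F) : xe c r (t + u) = xe c r t * xe c r u := by
  by_cases hr : r < D.nroots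
  · exact Subtype.ext (by rw [Subgroup.coe_mul, xe_val c hr, xe_val c hr, xe_val c hr, c.xg_add])
  · simp [xe, hr]

theorem xe_zero (r : ℕ) : xe c r (0 : F) = 1 := by
  have h := xe_add c r (0 : F) 0
  rw [add_zero] at h
  exact mul_eq_left.1 h.symm

theorem xe_neg (r : ℕ) (t : F) : xe c r (-t) = (xe c r t)⁻¹ :=
  eq_inv_of_mul_eq_one_left (by rw [← xe_add, neg_add_cancel, xe_zero])

variable (F) in
/-- The torus in the group. -/
noncomputable def te : (ℕ → Fˣ) →* ↥(D.group F) :=
  (c.torus).codRestrict _ fun z => c.diagonal_le_group (c.torus_mem z)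

theorem te_val (z : ℕ → Fˣ) : (te c F z : GL D.Idx F) = c.torus z := rfl

theorem te_conj (z : ℕ → Fˣ) (r : ℕ) (t : F) :
    te c F z * xe c r t * (te c F z)⁻¹ = xe c r ((c.tchar z r : F) * t) := by
  by_cases hr : r < D.nroots
  · exact Subtype.ext (by
      rw [Subgroup.coe_mul, Subgroup.coe_mul, Subgroup.coe_inv, te_val, xe_val c hr, xe_val c hr,
        c.torus_conj_xg z hr])
  · simp [xe, hr]

variable (F) in
/-- The subgroup generated by the root subgroups of a list of roots. -/
def rs (R : List ℕ) : Subgroup ↥(D.group F) :=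
  Subgroup.closure {g | ∃ r ∈ R, ∃ t : F, g = xe c r t}

theorem xe_mem_rs {R : List ℕ} {r : ℕ} (hr : r ∈ R) (t : F) : xe c r t ∈ rs c F R :=
  Subgroup.subset_closure ⟨r, hr, t, rfl⟩

theorem rs_le {R : List ℕ} {K : Subgroup ↥(D.group F)} (h : ∀ r ∈ R, ∀ t, xe c r t ∈ K) :
    rs c F R ≤ K :=
  (Subgroup.closure_le _).2 (by rintro _ ⟨r, hr, t, rfl⟩; exact h r hr t)

theorem rs_mono {R R' : List ℕ} (h : ∀ r ∈ R, r ∈ R') : rs c F R ≤ rs c F R' :=
  rs_le c fun r hr t => xe_mem_rs c (h r hr) t

theorem conj_rs {R : List ℕ} {g : ↥(D.group F)} {K : Subgroup ↥(D.group F)}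
    (h : ∀ r ∈ R, ∀ t, g * xe c r t * g⁻¹ ∈ K) {w : ↥(D.group F)} (hw : w ∈ rs c F R) :
    g * w * g⁻¹ ∈ K := by
  induction hw using Subgroup.closure_induction with
  | mem x hx => obtain ⟨r, hr, t, rfl⟩ := hx; exact h r hr t
  | one => simp
  | mul a b _ _ ha hb =>
    rw [show g * (a * b) * g⁻¹ = (g * a * g⁻¹) * (g * b * g⁻¹) by group]
    exact mul_mem ha hb
  | inv a _ ha => rw [show g * a⁻¹ * g⁻¹ = (g * a * g⁻¹)⁻¹ by group]; exact inv_mem ha

theorem te_rs {R : List ℕ} (z : ℕ → Fˣ) {w : ↥(D.group F)} (hw : w ∈ rs c F R) :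
    te c F z * w * (te c F z)⁻¹ ∈ rs c F R :=
  conj_rs c (fun r hr t => by rw [te_conj]; exact xe_mem_rs c hr _) hw

theorem xe_rs {R : List ℕ} {s : ℕ} (hs : s < D.nroots) (hR : ∀ r ∈ R, r < D.nroots)
    (hcl : closedUnder c.T R s = true) (a : F) {w : ↥(D.group F)} (hw : w ∈ rs c F R) :
    xe c s a * w * (xe c s a)⁻¹ ∈ rs c F R := by
  refine conj_rs c (fun r hr t => ?_) hw
  have h := List.all_eq_true.1 hcl r hr
  simp only [Bool.and_eq_true, Bool.not_eq_true', List.all_eq_true, List.contains_iff_mem] at h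
  obtain ⟨⟨h1, h2⟩, h3⟩ := h
  have hr' := hR r hr
  have key := c.xg_comm hs hr' (Nat.ne_of_beq_eq_false h1)
    (by rw [c.neg_eq hs]; exact Nat.ne_of_beq_eq_false h2) (-a) t
  have hval : xe c s a * xe c r t * (xe c s a)⁻¹ = xe c r t *
      ((c.T.commTerms s r).map fun x => xe c x.1 ((x.2.1 : F) * (- -a) ^ x.2.2.1 * t ^ x.2.2.2)).prod := by
    apply Subtype.ext
    rw [Subgroup.coe_mul, Subgroup.coe_mul, Subgroup.coe_mul, Subgroup.coe_inv, xe_val c hs,
      xe_val c hr', Subgroup.val_list_prod, List.map_map, c.xg_inv, mul_assoc, key, mul_assoc,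
      ← mul_assoc, ← c.xg_add, add_neg_cancel, c.xg_zero, one_mul]
    congr 2
    refine List.map_congr_left fun x hx => ?_
    simp [xe_val c (hR _ (h3 x hx))]
  rw [hval]
  refine mul_mem (xe_mem_rs c hr t) (Subgroup.list_prod_mem _ fun g hg => ?_)
  obtain ⟨x, hx, rfl⟩ := List.mem_map.1 hg
  exact xe_mem_rs c (h3 x hx) _

theorem rs_split {R S : List ℕ} (hn : ∀ s ∈ S, ∀ a : F, ∀ w ∈ rs c F R,
      xe c s a * w * (xe c s a)⁻¹ ∈ rs c F R)
    {P : List ℕ} (hP : ∀ r ∈ P, r ∈ R ∨ r ∈ S) {g : ↥(D.group F)} (hg : g ∈ rs c F P) :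
    ∃ a ∈ rs c F S, ∃ b ∈ rs c F R, g = a * b := by
  have hle : rs c F S ≤ Subgroup.normalizer (rs c F R : Set ↥(D.group F)) := by
    refine rs_le c fun s hs a => Subgroup.mem_normalizer_iff.2 fun w => ⟨hn s hs a w, fun hw => ?_⟩
    have h2 := hn s hs (-a) _ hw
    rw [xe_neg] at h2
    simpa [mul_assoc] using h2
  have h := rs_le c (K := rs c F S ⊔ rs c F R) (fun r hr t => (hP r hr).elim
    (fun h => Subgroup.mem_sup_right (xe_mem_rs c h t))
    (fun h => Subgroup.mem_sup_left (xe_mem_rs c h t))) hg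
  rw [← SetLike.mem_coe, Subgroup.coe_mul_of_left_le_normalizer_right _ _ hle] at h
  obtain ⟨a, ha, b, hb, e⟩ := h
  exact ⟨a, ha, b, hb, e.symm⟩

theorem rs_singleton {s : ℕ} {g : ↥(D.group F)} (hg : g ∈ rs c F [s]) : ∃ a, g = xe c s a := by
  induction hg using Subgroup.closure_induction with
  | mem x hx => obtain ⟨r, hr, t, rfl⟩ := hx; rw [List.mem_singleton] at hr; exact ⟨t, by rw [hr]⟩
  | one => exact ⟨0, (xe_zero c s).symm⟩
  | mul a b _ _ ha hb =>
    obtain ⟨x, rfl⟩ := ha; obtain ⟨y, rfl⟩ := hb; exact ⟨x + y, (xe_add c s x y).symm⟩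
  | inv a _ ha => obtain ⟨x, rfl⟩ := ha; exact ⟨-x, (xe_neg c s x).symm⟩

theorem mem_posList {r : ℕ} : r ∈ posList c.T ↔ c.Pos r := by
  have hh := c.h_add_h
  simp only [posList, List.mem_range'_1, Cert.Pos, ← c.nroots_eq]
  omega

theorem mem_negList {r : ℕ} : r ∈ negList c.T ↔ r < c.T.h := by simp [negList]

theorem negList_lt {r : ℕ} (h : r ∈ negList c.T) : r < D.nroots := by
  rw [mem_negList] at h
  have hh := c.h_add_h
  omega

theorem posList_lt {r : ℕ} (h : r ∈ posList c.T) : r < D.nroots := ((mem_posList c).1 h).2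

theorem rs_pos_val {g : ↥(D.group F)} (hg : g ∈ rs c F (posList c.T)) :
    (g : GL D.Idx F) ∈ D.posUnipotent F := by
  refine (rs_le c (K := (D.posUnipotent F).subgroupOf (D.group F)) fun r hr t => ?_) hg
  rw [Subgroup.mem_subgroupOf, xe_val c (posList_lt c hr), c.posUnipotent_eq]
  exact c.xg_mem_K ((mem_posList c).1 hr) ((mem_posList c).1 hr).1 t

theorem rs_neg_val {g : ↥(D.group F)} (hg : g ∈ rs c F (negList c.T)) :
    (g : GL D.Idx F) ∈ D.negUnipotent F := by
  refine (rs_le c (K := (D.negUnipotent F).subgroupOf (D.group F)) fun r hr t => ?_) hg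
  rw [Subgroup.mem_subgroupOf, xe_val c (negList_lt c hr)]
  refine Subgroup.subset_closure ⟨r, t, ?_, c.xg_val r t⟩
  rw [c.isNegRoot_iff]
  exact (mem_negList c).1 hr

theorem pos_inter_neg {g : ↥(D.group F)} (h1 : g ∈ rs c F (posList c.T))
    (h2 : g ∈ rs c F (negList c.T)) : g = 1 := by
  have h : (g : GL D.Idx F) ∈ D.borelSubgroup F ⊓ D.negUnipotent F :=
    ⟨c.mem_borel_iff.2 ⟨_, rs_pos_val c h1, 1, one_mem _, (mul_one _).symm⟩, rs_neg_val c h2⟩
  rw [c.borel_inf_negUnipotent.1, Subgroup.mem_bot] at h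
  exact Subtype.ext h

variable (F) in
/-- The product of the simple reflections of a word, in the group. -/
def nwe (L : List ℕ) (hL : ∀ p ∈ L, p < D.rank) : ↥(D.group F) :=
  ⟨c.nw F L, c.N_le_group (c.nw_mem_N hL)⟩

theorem wl_eq_foldr (L : List ℕ) (r : ℕ) : c.wl L r = L.foldr c.T.refl r := by
  induction L with
  | nil => rfl
  | cons p L ih => rw [c.wl_cons, ih]; rfl

theorem nwe_conj {L : List ℕ} (hL : ∀ p ∈ L, p < D.rank) {r : ℕ} (hr : r < D.nroots) (t : F) :
    nwe c F L hL * xe c r t * (nwe c F L hL)⁻¹ =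
      xe c (c.wl L r) ((c.wsign L r : F) * t) := by
  apply Subtype.ext
  rw [Subgroup.coe_mul, Subgroup.coe_mul, Subgroup.coe_inv, xe_val c hr,
    xe_val c (c.wl_lt hL hr)]
  show c.nw F L * _ * (c.nw F L)⁻¹ = _
  rw [c.nw_mul_xg hL hr, mul_inv_cancel_right]

theorem simple_tbl {p : ℕ} (hp : p < D.rank) : c.T.simple p = D.simple p := (c.simple_eq hp).symm

theorem nsimple_tbl {p : ℕ} (hp : p < D.rank) : c.T.neg (c.T.simple p) = D.neg (D.simple p) := by
  rw [c.neg_eq (c.simple_lt hp), simple_tbl c hp]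

theorem tchar_single {p : ℕ} (hp : p < D.rank) (s : Fˣ) :
    c.hg (D.simple p) (s : F) = c.torus (Pi.mulSingle p s) := by
  rw [c.hg_eq (c.simple_lt hp), Cert.torus_apply]
  refine dg_ext D F fun u _ => ?_
  rw [CertFull.pairChar, c.pairing_simple hp, Cert.tchar,
    Finset.prod_eq_single_of_mem p (Finset.mem_range.2 hp) fun i _ hi => by
      rw [Pi.mulSingle_eq_of_ne hi, one_zpow], Pi.mulSingle_eq_same]

/-- The homomorphism of `SL₂` at a simple root, in the group. -/
theorem exists_slHom {p : ℕ} (hp : p < D.rank) : ∃ φ : SL(2, F) →* ↥(D.group F),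
    (∀ t, φ (upSL t) = xe c (D.simple p) t) ∧
    (∀ t, φ (loSL t) = xe c (D.neg (D.simple p)) t) ∧
    ∀ s : Fˣ, φ (dSL (s : F) s.ne_zero) = te c F (Pi.mulSingle p s) := by
  obtain ⟨φ, hr, hφ⟩ := c.exists_sl_root (F := F) (c.simple_lt hp)
  have hmem : ∀ g, φ g ∈ D.group F := by
    intro g
    have h : φ g ∈ D.rootSubgroup F (D.simple p) ⊔ D.rootSubgroup F (D.neg (D.simple p)) := by
      rw [← hr]; exact ⟨g, rfl⟩
    refine (show D.rootSubgroup F (D.simple p) ⊔ D.rootSubgroup F (D.neg (D.simple p)) ≤ D.group F from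
      sup_le ?_ ?_) h <;>
      · refine (Subgroup.closure_le _).2 ?_
        rintro x ⟨t, hx⟩
        rw [c.eq_xg_iff.1 hx]
        first
          | exact c.xg_mem_group (c.simple_lt hp) t
          | exact c.xg_mem_group (c.neg_lt (c.simple_lt hp)) t
  have hu : ∀ t, φ (upSL t) = c.xg (D.simple p) t := fun t => (hφ _ t).1 (upSL_val t)
  have hl : ∀ t, φ (loSL t) = c.xg (D.neg (D.simple p)) t := fun t => (hφ _ t).2 (loSL_val t)
  refine ⟨φ.codRestrict _ hmem, fun t => Subtype.ext ?_, fun t => Subtype.ext ?_,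
    fun s => Subtype.ext ?_⟩
  · rw [xe_val c (c.simple_lt hp)]; exact hu t
  · rw [xe_val c (c.neg_lt (c.simple_lt hp))]; exact hl t
  · rw [te_val, ← tchar_single c hp]
    have e : dSL (s : F) s.ne_zero =
        (upSL (s : F) * loSL (-(s : F)⁻¹) * upSL (s : F)) *
          (upSL (-1) * loSL (-(-1)⁻¹) * upSL (-1)) := by
      refine ext_two ?_ ?_ ?_ ?_ <;>
        simp only [mul_val, upSL_val, loSL_val, dSL_val] <;>
        simp [Matrix.mul_apply, Fin.sum_univ_two, s.ne_zero]
    show φ (dSL (s : F) s.ne_zero) = _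
    rw [e, map_mul, map_mul, map_mul, map_mul, map_mul, hu, hl, hu, hl]
    rfl

/-- The split root datum of a Chevalley group. -/
noncomputable def rootData {L0 : List ℕ} (hchk : checkGauss c.T L0 = true) :
    PrescribedGauss.RootData ↥(D.group F) F (Fin D.rank) :=
  have hk := hchk
  have hk' : ((∀ i < D.rank,
      closedUnder c.T ((posList c.T).erase (D.simple i)) (D.simple i) = true ∧
      closedUnder c.T ((posList c.T).erase (D.simple i)) (D.neg (D.simple i)) = true ∧
      closedUnder c.T ((negList c.T).erase (D.neg (D.simple i))) (D.simple i) = true ∧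
      closedUnder c.T ((negList c.T).erase (D.neg (D.simple i))) (D.neg (D.simple i)) = true) ∧
      (∀ p ∈ L0, p < D.rank)) ∧
      (∀ r ∈ posList c.T, c.wl L0 r ∈ negList c.T) ∧
      (∀ r ∈ negList c.T, c.wl L0 r ∈ posList c.T) := by
    simp only [checkGauss, Bool.and_eq_true, List.all_eq_true, List.mem_range, Nat.blt_eq,
      Nat.ble_eq] at hk
    obtain ⟨⟨⟨h1, h2⟩, h3⟩, h4⟩ := hk
    refine ⟨⟨fun i hi => ?_, fun p hp => c.rank_eq ▸ h2 p hp⟩, fun r hr => ?_, fun r hr => ?_⟩
    · obtain ⟨⟨⟨a1, a2⟩, a3⟩, a4⟩ := h1 i (c.rank_eq ▸ hi)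
      rw [nsimple_tbl c hi] at a2 a3 a4
      rw [simple_tbl c hi] at a1 a2 a3
      exact ⟨a1, a2, a3, a4⟩
    · rw [mem_negList, wl_eq_foldr]; exact h3 r hr
    · rw [mem_posList]
      exact ⟨by rw [wl_eq_foldr]; exact h4 r hr,
        c.wl_lt (fun p hp => c.rank_eq ▸ h2 p hp) (negList_lt c hr)⟩
  have hcl := hk'.1.1
  have hL0 := hk'.1.2
  have hpn := hk'.2.1
  have hnp := hk'.2.2
  have hps : ∀ (i : Fin D.rank), D.simple i ∈ posList c.T := fun i =>
    (mem_posList c).2 (c.pos_simple i.2)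
  have hns : ∀ (i : Fin D.rank), D.neg (D.simple i) ∈ negList c.T := fun i => by
    have h := (c.not_pos_iff (c.neg_lt (c.simple_lt i.2))).2
      (by rw [c.neg_neg (c.simple_lt i.2)]; exact c.pos_simple i.2)
    rw [mem_negList]
    have h2 := c.neg_lt (c.simple_lt i.2)
    simp only [Cert.Pos] at h
    omega
  have epl : ∀ {i : Fin D.rank}, ∀ r ∈ (posList c.T).erase (D.simple i), r < D.nroots :=
    fun r hr => posList_lt c (List.mem_of_mem_erase hr)
  have enl : ∀ {i : Fin D.rank}, ∀ r ∈ (negList c.T).erase (D.neg (D.simple i)), r < D.nroots :=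
    fun r hr => negList_lt c (List.mem_of_mem_erase hr)
  { x := fun i a => xe c (D.simple i) a
    y := fun i a => xe c (D.neg (D.simple i)) a
    T := (te c F).comp (padv D.rank)
    A := fun p i => c.T.cartan p (D.simple i)
    U := rs c F (posList c.T)
    V := rs c F (negList c.T)
    Ui := fun i => rs c F ((posList c.T).erase (D.simple i))
    Vi := fun i => rs c F ((negList c.T).erase (D.neg (D.simple i)))
    x_add := fun i a b => xe_add c _ a b
    y_add := fun i a b => xe_add c _ a b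
    T_x := fun t i a => by
      rw [MonoidHom.comp_apply, ← mul_inv_eq_iff_eq_mul, te_conj]
      congr 2
      rw [c.tchar_padv rfl]
    T_y := fun t i a => by
      rw [MonoidHom.comp_apply, ← mul_inv_eq_iff_eq_mul, te_conj]
      congr 2
      rw [c.tchar_neg _ (c.simple_lt i.2), c.tchar_padv rfl]
    rank_one := fun i r a s hs => by
      obtain ⟨φ, hu, hl, hd⟩ := exists_slHom c (F := F) i.2
      rw [MonoidHom.comp_apply]
      refine Eq.trans ?_ (congrArg (fun z => xe c (D.neg (D.simple i)) (a / (s : F)) * te c F z *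
        xe c (D.simple i) (r / (s : F))) (?_ : Pi.mulSingle (i : ℕ) s = padv D.rank _))
      · rw [← hu, ← hu, ← hl, ← hl, ← hd, ← map_mul, ← map_mul, ← map_mul]
        congr 1
        have := s.ne_zero
        refine ext_two ?_ ?_ ?_ ?_ <;>
          simp only [mul_val, upSL_val, loSL_val, dSL_val] <;>
          simp [Matrix.mul_apply, Fin.sum_univ_two] <;> field_simp <;>
          first
            | linear_combination hs
            | linear_combination -hs
            | ring1
            | rw [hs]; ring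
      · funext k
        simp only [padv, MonoidHom.coe_mk, OneHom.coe_mk]
        split_ifs with h
        · simp [Pi.mulSingle_apply, Fin.ext_iff]
        · rw [Pi.mulSingle_eq_of_ne]; intro e; exact h (e ▸ i.2)
    Ui_le := fun i => rs_mono c fun r hr => List.mem_of_mem_erase hr
    Vi_le := fun i => rs_mono c fun r hr => List.mem_of_mem_erase hr
    x_mem := fun i a => xe_mem_rs c (hps i) a
    y_mem := fun i a => xe_mem_rs c (hns i) a
    U_split := fun i g hg => by
      obtain ⟨u, hu, w, hw, rfl⟩ := rs_split c (S := [D.simple i])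
        (R := (posList c.T).erase (D.simple i))
        (fun s hs a w hw => by
          rw [List.mem_singleton] at hs
          exact hs ▸ xe_rs c (c.simple_lt i.2) epl (hcl i i.2).1 a hw)
        (fun r hr => by
          by_cases h : r = D.simple i
          · exact Or.inr (List.mem_singleton.2 h)
          · exact Or.inl ((List.mem_erase_of_ne h).2 hr)) hg
      obtain ⟨a, rfl⟩ := rs_singleton c hu
      exact ⟨a, by rwa [xe_neg, inv_mul_cancel_left]⟩
    V_split := fun i g hg => by
      obtain ⟨u, hu, w, hw, rfl⟩ := rs_split c (S := [D.neg (D.simple i)])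
        (R := (negList c.T).erase (D.neg (D.simple i)))
        (fun s hs a w hw => by
          rw [List.mem_singleton] at hs
          exact hs ▸ xe_rs c (c.neg_lt (c.simple_lt i.2)) enl (hcl i i.2).2.2.2 a hw)
        (fun r hr => by
          by_cases h : r = D.neg (D.simple i)
          · exact Or.inr (List.mem_singleton.2 h)
          · exact Or.inl ((List.mem_erase_of_ne h).2 hr)) hg
      obtain ⟨a, rfl⟩ := rs_singleton c hu
      exact ⟨a, by rwa [xe_neg, inv_mul_cancel_left]⟩
    x_Ui := fun i a g hg => xe_rs c (c.simple_lt i.2) epl (hcl i i.2).1 a hg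
    y_Ui := fun i a g hg => xe_rs c (c.neg_lt (c.simple_lt i.2)) epl (hcl i i.2).2.1 a hg
    T_Ui := fun i t g hg => te_rs c _ hg
    x_Vi := fun i a g hg => xe_rs c (c.simple_lt i.2) enl (hcl i i.2).2.2.1 a hg
    y_Vi := fun i a g hg => xe_rs c (c.neg_lt (c.simple_lt i.2)) enl (hcl i i.2).2.2.2 a hg
    T_Vi := fun i t g hg => te_rs c _ hg
    gen := fun S hx hy => (Subgroup.eq_top_iff' S).2 (c.simple_induction (P := fun g => g ∈ S)
      (fun i hi t => ⟨by
          have h := hx ⟨i, hi⟩ t
          rwa [xe, dif_pos (c.simple_lt hi)] at h, by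
          have h := hy ⟨i, hi⟩ t
          rwa [xe, dif_pos (c.neg_lt (c.simple_lt hi))] at h⟩)
      (one_mem S) (fun _ _ => mul_mem) fun _ => inv_mem)
    coreU := fun g hg hall => by
      have h := conj_rs c (g := nwe c F L0 hL0) (K := rs c F (negList c.T)) (fun r hr t => by
        rw [nwe_conj c hL0 (posList_lt c hr)]; exact xe_mem_rs c (hpn r hr) _) hg
      exact conj_eq_one_iff.1 (pos_inter_neg c (hall _) h)
    coreV := fun g hg hall => by
      have h := conj_rs c (g := nwe c F L0 hL0) (K := rs c F (posList c.T)) (fun r hr t => by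
        rw [nwe_conj c hL0 (negList_lt c hr)]; exact xe_mem_rs c (hnp r hr) _) hg
      exact conj_eq_one_iff.1 (pos_inter_neg c h (hall _)) }

end

end Cfsg.Agent.Classical.ThompsonChev
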