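import Cfsg.Agent.Lib.Classical.ChevSquareLarge
import Cfsg.Agent.Lib.Lie.Chev.CertsFull

/-!
Class-square data of E8.
-/

set_option autoImplicit false

namespace Cfsg.Agent.Classical.ThompsonChev.CasesEight

open Cfsg.Lie Cfsg.Agent.Lie.Chev Cfsg.Agent.Classical.ThompsonChev

/-- The longest word of E8. -/
def wordE8 : List ℕ := [0, 1, 2, 0, 3, 1, 2, 0, 3, 2, 4, 3, 1, 2, 0, 3, 2, 4, 3, 1, 5, 4, 3, 1, 2, 0, 3, 2, 4, 3, 1, 5, 4, 3, 2, 0, 6, 5, 4, 3, 1, 2, 0, 3, 2, 4, 3, 1, 5, 4, 3, 2, 0, 6, 5, 4, 3, 1, 2, 3, 4, 5, 6, 7, 6, 5, 4, 3, 1, 2, 0, 3, 2, 4, 3, 1, 5, 4, 3, 2, 0, 6, 5, 4, 3, 1, 2, 3, 4, 5, 6, 7, 6, 5, 4, 3, 1, 2, 0, 3, 2, 4, 3, 1, 5, 4, 3, 2, 0, 6, 5, 4, 3, 1, 2, 3, 4, 5, 6, 7]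

theorem diagramE8 : checkDiagram certFullE8.T = true := by decide +kernel

theorem gaussE8 : checkGauss certFullE8.T wordE8 = true := by decide +kernel

/-- Levi data of E8. -/
def cfgE8L : Cfg := ⟨wordE8, [], [], [], [46, 68, 91, 135, 110, 84, 57, 29], []⟩

theorem rootsE8L : cfgE8L.checkRoots certFullE8.T = true := by decide +kernel

theorem largeE8 : cfgE8L.largeOK certFullE8.T 29 = true := by decide +kernel

/-- Levi data of E8. -/
def cfgE89 : Cfg := ⟨wordE8, [0, 2, 0, 3, 2, 0, 5, 6, 5, 7, 6, 5], [[0, 2, 3], [5, 6, 7]], [0, 1], [5, 0, 2, 7, 4, 5, 6, 7], [[0, 1, 0, 0, 0, 0, 0, 0], [0, 1, 0, 0, 3, 0, 0, 0]]⟩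

theorem rootsE89 : cfgE89.checkRoots certFullE8.T = true := by decide +kernel

theorem torusE89 : cfgE89.TorusOK certFullE8.T 8 := by decide +kernel

/-- Levi data of E8. -/
def cfgE811 : Cfg := ⟨wordE8, [0, 1, 2, 0, 4, 5, 4, 7], [[0, 2], [1], [4, 5], [7]], [0, 1, 2, 3], [4, 1, 8, 2, 4, 6, 8, 9], [[0, 0, 0, 0, 0, 0, 0, 0], [0, 0, 0, 1, 0, 0, 0, 0], [0, 0, 0, 0, 0, 0, 0, 0], [0, 0, 0, 0, 0, 0, 1, 0]]⟩

theorem rootsE811 : cfgE811.checkRoots certFullE8.T = true := by decide +kernel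

theorem torusE811 : cfgE811.TorusOK certFullE8.T 10 := by decide +kernel

/-- Levi data of E8. -/
def cfgE813 : Cfg := ⟨wordE8, [0, 1, 2, 0, 4, 5, 4], [[0, 2], [1], [4, 5]], [0, 1, 2], [4, 0, 8, 0, 3, 6, 9, 11], [[0, 0, 0, 4, 0, 0, 1, 0], [0, 0, 0, 3, 0, 0, 0, 0], [0, 0, 0, 0, 0, 0, 1, 0]]⟩

theorem rootsE813 : cfgE813.checkRoots certFullE8.T = true := by decide +kernel

theorem torusE813 : cfgE813.TorusOK certFullE8.T 12 := by decide +kernel

/-- Levi data of E8. -/
def cfgE816 : Cfg := ⟨wordE8, [0, 1, 4, 6], [[0], [1], [4], [6]], [0, 1, 2, 3], [2, 10, 4, 5, 8, 11, 5, 14], [[0, 0, 0, 0, 0, 0, 0, 0], [0, 0, 0, 0, 0, 0, 0, 0], [0, 0, 0, 0, 0, 0, 0, 0], [0, 0, 0, 0, 0, 0, 0, 0]]⟩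

theorem rootsE816 : cfgE816.checkRoots certFullE8.T = true := by decide +kernel

theorem torusE816 : cfgE816.TorusOK certFullE8.T 15 := by decide +kernel

/-- Levi data of E8. -/
def cfgE817 : Cfg := ⟨wordE8, [0, 1, 4, 6], [[0], [1], [4], [6]], [0, 1, 2, 3], [3, 4, 6, 8, 4, 0, 11, 6], [[0, 0, 1, 0, 0, 0, 0, 0], [0, 0, 0, 1, 0, 1, 0, 1], [0, 0, 0, 0, 0, 1, 0, 1], [0, 0, 0, 0, 0, 0, 0, 1]]⟩

theorem rootsE817 : cfgE817.checkRoots certFullE8.T = true := by decide +kernel

theorem torusE817 : cfgE817.TorusOK certFullE8.T 16 := by decide +kernel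

/-- Levi data of E8. -/
def cfgE819 : Cfg := ⟨wordE8, [0, 1, 4], [[0], [1], [4]], [0, 1, 2], [3, 4, 6, 8, 4, 0, 13, 7], [[0, 0, 1, 0, 0, 0, 0, 0], [0, 0, 0, 1, 0, 1, 0, 0], [0, 0, 0, 0, 0, 1, 0, 0]]⟩

theorem rootsE819 : cfgE819.checkRoots certFullE8.T = true := by decide +kernel

theorem torusE819 : cfgE819.TorusOK certFullE8.T 18 := by decide +kernel

/-- Levi data of E8. -/
def cfgE823 : Cfg := ⟨wordE8, [0, 1], [[0], [1]], [0, 1], [11, 16, 0, 10, 3, 17, 5, 14], [[0, 0, 1, 0, 0, 0, 0, 0], [0, 0, 0, 1, 0, 0, 0, 0]]⟩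

theorem rootsE823 : cfgE823.checkRoots certFullE8.T = true := by decide +kernel

theorem torusE823 : cfgE823.TorusOK certFullE8.T 22 := by decide +kernel

/-- Levi data of E8. -/
def cfgE825 : Cfg := ⟨wordE8, [0], [[0]], [0], [10, 15, 20, 5, 22, 10, 17, 23], [[0, 0, 1, 0, 0, 0, 0, 0]]⟩

theorem rootsE825 : cfgE825.checkRoots certFullE8.T = true := by decide +kernel

theorem torusE825 : cfgE825.TorusOK certFullE8.T 24 := by decide +kernel

/-- Levi data of E8. -/
def cfgE827 : Cfg := ⟨wordE8, [0], [[0]], [0], [22, 7, 18, 13, 0, 12, 23, 25], [[0, 0, 1, 0, 0, 0, 0, 0]]⟩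

theorem rootsE827 : cfgE827.checkRoots certFullE8.T = true := by decide +kernel

theorem torusE827 : cfgE827.TorusOK certFullE8.T 26 := by decide +kernel

/-- Levi data of E8. -/
def cfgE829 : Cfg := ⟨wordE8, [0], [[0]], [0], [14, 7, 0, 13, 18, 22, 25, 27], [[0, 0, 1, 0, 0, 0, 0, 0]]⟩

theorem rootsE829 : cfgE829.checkRoots certFullE8.T = true := by decide +kernel

theorem torusE829 : cfgE829.TorusOK certFullE8.T 28 := by decide +kernel

/-- The class-square covering of E8. -/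
theorem squareE8 {F : Type*} [Field F] [Fintype F] (hF : 9 ≤ Fintype.card F) :
    ∃ d : ↥(chevE8.group F), ∀ k : ↥(chevE8.group F), ∃ x y : ↥(chevE8.group F),
      k = (x * d * x⁻¹) * (y * d * y⁻¹) := by
  rcases Nat.lt_or_ge 30 (Fintype.card F) with h | h
  · exact square_of_checks certFullE8 cfgE8L diagramE8 gaussE8 rootsE8L
      (torusOK_of_largeOK largeE8 (by omega)) (by omega)
  · have hpp := FiniteField.isPrimePow_card F
    generalize hn : Fintype.card F = n at hF h hpp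
    interval_cases n
    · exact square_of_checks certFullE8 cfgE89 diagramE8 gaussE8 rootsE89 (hn ▸ torusE89) (by omega)
    · exact (not_primePow_two hpp (a := 2) (b := 5) (by norm_num) (by norm_num) (by norm_num) (by norm_num) (by norm_num)).elim
    · exact square_of_checks certFullE8 cfgE811 diagramE8 gaussE8 rootsE811 (hn ▸ torusE811) (by omega)
    · exact (not_primePow_two hpp (a := 2) (b := 3) (by norm_num) (by norm_num) (by norm_num) (by norm_num) (by norm_num)).elim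
    · exact square_of_checks certFullE8 cfgE813 diagramE8 gaussE8 rootsE813 (hn ▸ torusE813) (by omega)
    · exact (not_primePow_two hpp (a := 2) (b := 7) (by norm_num) (by norm_num) (by norm_num) (by norm_num) (by norm_num)).elim
    · exact (not_primePow_two hpp (a := 3) (b := 5) (by norm_num) (by norm_num) (by norm_num) (by norm_num) (by norm_num)).elim
    · exact square_of_checks certFullE8 cfgE816 diagramE8 gaussE8 rootsE816 (hn ▸ torusE816) (by omega)
    · exact square_of_checks certFullE8 cfgE817 diagramE8 gaussE8 rootsE817 (hn ▸ torusE817) (by omega)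
    · exact (not_primePow_two hpp (a := 2) (b := 3) (by norm_num) (by norm_num) (by norm_num) (by norm_num) (by norm_num)).elim
    · exact square_of_checks certFullE8 cfgE819 diagramE8 gaussE8 rootsE819 (hn ▸ torusE819) (by omega)
    · exact (not_primePow_two hpp (a := 2) (b := 5) (by norm_num) (by norm_num) (by norm_num) (by norm_num) (by norm_num)).elim
    · exact (not_primePow_two hpp (a := 3) (b := 7) (by norm_num) (by norm_num) (by norm_num) (by norm_num) (by norm_num)).elim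
    · exact (not_primePow_two hpp (a := 2) (b := 11) (by norm_num) (by norm_num) (by norm_num) (by norm_num) (by norm_num)).elim
    · exact square_of_checks certFullE8 cfgE823 diagramE8 gaussE8 rootsE823 (hn ▸ torusE823) (by omega)
    · exact (not_primePow_two hpp (a := 2) (b := 3) (by norm_num) (by norm_num) (by norm_num) (by norm_num) (by norm_num)).elim
    · exact square_of_checks certFullE8 cfgE825 diagramE8 gaussE8 rootsE825 (hn ▸ torusE825) (by omega)
    · exact (not_primePow_two hpp (a := 2) (b := 13) (by norm_num) (by norm_num) (by norm_num) (by norm_num) (by norm_num)).elim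
    · exact square_of_checks certFullE8 cfgE827 diagramE8 gaussE8 rootsE827 (hn ▸ torusE827) (by omega)
    · exact (not_primePow_two hpp (a := 2) (b := 7) (by norm_num) (by norm_num) (by norm_num) (by norm_num) (by norm_num)).elim
    · exact square_of_checks certFullE8 cfgE829 diagramE8 gaussE8 rootsE829 (hn ▸ torusE829) (by omega)
    · exact (not_primePow_two hpp (a := 2) (b := 3) (by norm_num) (by norm_num) (by norm_num) (by norm_num) (by norm_num)).elim

end Cfsg.Agent.Classical.ThompsonChev.CasesEight
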