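import Cfsg.Agent.Lib.Classical.ChevLeviSquare

/-!
Bounds that give the torus conditions for all large fields, and small helpers for the cases.
-/

set_option autoImplicit false

namespace Cfsg.Agent.Classical.ThompsonChev

open Cfsg.Lie Cfsg.Agent.Lie.Chev

/-- A regular torus element inverted by the longest word, with bounded exponents. -/
def Cfg.largeOK (g : Cfg) (T : Tables) (B : ℕ) : Bool :=
  g.comps.isEmpty && (g.RJ T).all (fun r => decide (Cfg.expo T g.e r ≠ 0 ∧ (Cfg.expo T g.e r).natAbs ≤ B)) &&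
    (List.range T.n).all fun r => decide (Cfg.expo T g.e (g.L0.foldr T.refl r) + Cfg.expo T g.e r = 0)

theorem torusOK_of_largeOK {g : Cfg} {T : Tables} {B m : ℕ} (h : g.largeOK T B = true) (hm : B < m) :
    g.TorusOK T m := by
  simp only [Cfg.largeOK, Bool.and_eq_true, List.all_eq_true, decide_eq_true_eq] at h
  obtain ⟨⟨h1, h2⟩, h3⟩ := h
  have hc : g.comps = [] := List.isEmpty_iff.1 h1
  refine ⟨fun r hr hdvd => ?_, fun p hp => ?_, fun r hr => ?_, fun k hk => ?_⟩
  · obtain ⟨hne, hle⟩ := h2 r hr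
    have := Nat.le_of_dvd (Int.natAbs_pos.2 hne) (Int.natCast_dvd.1 hdvd)
    omega
  · simp [Cfg.nodes, hc] at hp
  · rw [h3 r hr]; exact dvd_zero _
  · simp [Cfg.nc, hc] at hk

/-- A prime power is divisible by one prime only. -/
theorem not_primePow_two {q a b : ℕ} (hq : IsPrimePow q) (ha : a.Prime) (hb : b.Prime) (hab : a ≠ b)
    (h1 : a ∣ q) (h2 : b ∣ q) : False := by
  obtain ⟨p, k, hp, -, rfl⟩ := hq
  have hp' := Nat.prime_iff.2 hp
  exact hab (((Nat.prime_dvd_prime_iff_eq ha hp').1 (ha.dvd_of_dvd_pow h1)).trans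
    ((Nat.prime_dvd_prime_iff_eq hb hp').1 (hb.dvd_of_dvd_pow h2)).symm)

/-- The bounds on rows and the connectedness of a diagram. -/
def checkDiagram (T : Tables) : Bool :=
  decide ((∀ i : Fin T.l, ∑ j ∈ Finset.univ.erase i, (T.cartan i (T.simple j)).natAbs ≤ 3) ∧
    ∀ S : Finset (Fin T.l), S.Nonempty → S ≠ Finset.univ →
      ∃ q ∈ S, ∃ r ∉ S, T.cartan q (T.simple r) ≠ 0)

variable {D : ChevalleyDatum} (c : CertFull D)

include c

theorem square_of_checks {F : Type*} [Field F] [Fintype F] (g : Cfg)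
    (hD : checkDiagram c.T = true) (hG : checkGauss c.T g.L0 = true) (hR : g.checkRoots c.T = true)
    (hT : g.TorusOK c.T (Fintype.card F - 1)) (hq : 7 ≤ Fintype.card F) :
    ∃ d : ↥(D.group F), ∀ k : ↥(D.group F), ∃ x y : ↥(D.group F), k = (x * d * x⁻¹) * (y * d * y⁻¹) := by
  haveI : CharP F (ringChar F) := ringChar.charP F
  haveI : Fact (ringChar F).Prime := ⟨CharP.char_is_prime F (ringChar F)⟩
  obtain ⟨h1, h2⟩ := of_decide_eq_true hD
  refine square_of_cfg (p := ringChar F) c g hG hR hT hq ?_ ?_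
  · revert h1
    rw [c.rank_eq]
    intro h1 i
    refine le_of_eq_of_le (Finset.sum_congr rfl fun j _ => ?_) (h1 i)
    rw [simple_tbl c (c.rank_eq.symm ▸ j.2)]
  · revert h2
    rw [c.rank_eq]
    intro h2 S hS hS'
    obtain ⟨q, hq', r, hr, h⟩ := h2 S hS hS'
    exact ⟨q, hq', r, hr, by rwa [simple_tbl c (c.rank_eq.symm ▸ r.2)] at h⟩

end Cfsg.Agent.Classical.ThompsonChev
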