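import Cfsg.Agent.Lib.Classical.ChevSquareLarge
import Cfsg.Agent.Lib.Lie.Chev.CertsFull

/-!
Class-square data of E7.
-/

set_option autoImplicit false

namespace Cfsg.Agent.Classical.ThompsonChev.CasesSeven

open Cfsg.Lie Cfsg.Agent.Lie.Chev Cfsg.Agent.Classical.ThompsonChev

/-- The longest word of E7. -/
def wordE7 : List ℕ := [0, 1, 2, 0, 3, 1, 2, 0, 3, 2, 4, 3, 1, 2, 0, 3, 2, 4, 3, 1, 5, 4, 3, 1, 2, 0, 3, 2, 4, 3, 1, 5, 4, 3, 2, 0, 6, 5, 4, 3, 1, 2, 0, 3, 2, 4, 3, 1, 5, 4, 3, 2, 0, 6, 5, 4, 3, 1, 2, 3, 4, 5, 6]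

theorem diagramE7 : checkDiagram certFullE7.T = true := by decide +kernel

theorem gaussE7 : checkGauss certFullE7.T wordE7 = true := by decide +kernel

/-- Levi data of E7. -/
def cfgE7L : Cfg := ⟨wordE7, [], [], [], [18, 26, 35, 51, 40, 28, 15], []⟩

theorem rootsE7L : cfgE7L.checkRoots certFullE7.T = true := by decide +kernel

theorem largeE7 : cfgE7L.largeOK certFullE7.T 21 = true := by decide +kernel

/-- Levi data of E7. -/
def cfgE79 : Cfg := ⟨wordE7, [0, 1, 2, 0, 4], [[0, 2], [1], [4]], [0, 1, 2], [6, 5, 4, 2, 1, 0, 6], [[0, 0, 0, 0, 0, 0, 0], [0, 0, 0, 1, 0, 1, 0], [0, 0, 0, 0, 0, 1, 0]]⟩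

theorem rootsE79 : cfgE79.checkRoots certFullE7.T = true := by decide +kernel

theorem torusE79 : cfgE79.TorusOK certFullE7.T 8 := by decide +kernel

/-- Levi data of E7. -/
def cfgE711 : Cfg := ⟨wordE7, [0, 1, 2, 0], [[0, 2], [1]], [0, 1], [4, 1, 8, 2, 4, 5, 3], [[0, 0, 0, 0, 0, 0, 0], [0, 0, 0, 1, 0, 0, 0]]⟩

theorem rootsE711 : cfgE711.checkRoots certFullE7.T = true := by decide +kernel

theorem torusE711 : cfgE711.TorusOK certFullE7.T 10 := by decide +kernel

/-- Levi data of E7. -/
def cfgE713 : Cfg := ⟨wordE7, [0, 1], [[0], [1]], [0, 1], [7, 10, 2, 8, 0, 3, 2], [[0, 0, 1, 0, 0, 0, 0], [0, 0, 0, 1, 0, 0, 0]]⟩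

theorem rootsE713 : cfgE713.checkRoots certFullE7.T = true := by decide +kernel

theorem torusE713 : cfgE713.TorusOK certFullE7.T 12 := by decide +kernel

/-- Levi data of E7. -/
def cfgE716 : Cfg := ⟨wordE7, [0], [[0]], [0], [10, 0, 5, 14, 7, 12, 1], [[0, 0, 0, 0, 0, 0, 0]]⟩

theorem rootsE716 : cfgE716.checkRoots certFullE7.T = true := by decide +kernel

theorem torusE716 : cfgE716.TorusOK certFullE7.T 15 := by decide +kernel

/-- Levi data of E7. -/
def cfgE717 : Cfg := ⟨wordE7, [0], [[0]], [0], [10, 7, 4, 13, 14, 12, 9], [[0, 0, 1, 0, 0, 0, 0]]⟩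

theorem rootsE717 : cfgE717.checkRoots certFullE7.T = true := by decide +kernel

theorem torusE717 : cfgE717.TorusOK certFullE7.T 16 := by decide +kernel

/-- Levi data of E7. -/
def cfgE719 : Cfg := ⟨wordE7, [0], [[0]], [0], [16, 6, 14, 11, 1, 8, 14], [[0, 0, 1, 0, 0, 0, 0]]⟩

theorem rootsE719 : cfgE719.checkRoots certFullE7.T = true := by decide +kernel

theorem torusE719 : cfgE719.TorusOK certFullE7.T 18 := by decide +kernel

/-- The class-square covering of E7. -/
theorem squareE7 {F : Type*} [Field F] [Fintype F] (hF : 9 ≤ Fintype.card F) :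
    ∃ d : ↥(chevE7.group F), ∀ k : ↥(chevE7.group F), ∃ x y : ↥(chevE7.group F),
      k = (x * d * x⁻¹) * (y * d * y⁻¹) := by
  rcases Nat.lt_or_ge 22 (Fintype.card F) with h | h
  · exact square_of_checks certFullE7 cfgE7L diagramE7 gaussE7 rootsE7L
      (torusOK_of_largeOK largeE7 (by omega)) (by omega)
  · have hpp := FiniteField.isPrimePow_card F
    generalize hn : Fintype.card F = n at hF h hpp
    interval_cases n
    · exact square_of_checks certFullE7 cfgE79 diagramE7 gaussE7 rootsE79 (hn ▸ torusE79) (by omega)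
    · exact (not_primePow_two hpp (a := 2) (b := 5) (by norm_num) (by norm_num) (by norm_num) (by norm_num) (by norm_num)).elim
    · exact square_of_checks certFullE7 cfgE711 diagramE7 gaussE7 rootsE711 (hn ▸ torusE711) (by omega)
    · exact (not_primePow_two hpp (a := 2) (b := 3) (by norm_num) (by norm_num) (by norm_num) (by norm_num) (by norm_num)).elim
    · exact square_of_checks certFullE7 cfgE713 diagramE7 gaussE7 rootsE713 (hn ▸ torusE713) (by omega)
    · exact (not_primePow_two hpp (a := 2) (b := 7) (by norm_num) (by norm_num) (by norm_num) (by norm_num) (by norm_num)).elim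
    · exact (not_primePow_two hpp (a := 3) (b := 5) (by norm_num) (by norm_num) (by norm_num) (by norm_num) (by norm_num)).elim
    · exact square_of_checks certFullE7 cfgE716 diagramE7 gaussE7 rootsE716 (hn ▸ torusE716) (by omega)
    · exact square_of_checks certFullE7 cfgE717 diagramE7 gaussE7 rootsE717 (hn ▸ torusE717) (by omega)
    · exact (not_primePow_two hpp (a := 2) (b := 3) (by norm_num) (by norm_num) (by norm_num) (by norm_num) (by norm_num)).elim
    · exact square_of_checks certFullE7 cfgE719 diagramE7 gaussE7 rootsE719 (hn ▸ torusE719) (by omega)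
    · exact (not_primePow_two hpp (a := 2) (b := 5) (by norm_num) (by norm_num) (by norm_num) (by norm_num) (by norm_num)).elim
    · exact (not_primePow_two hpp (a := 3) (b := 7) (by norm_num) (by norm_num) (by norm_num) (by norm_num) (by norm_num)).elim
    · exact (not_primePow_two hpp (a := 2) (b := 11) (by norm_num) (by norm_num) (by norm_num) (by norm_num) (by norm_num)).elim

end Cfsg.Agent.Classical.ThompsonChev.CasesSeven
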