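import Cfsg.Agent.Lib.Classical.ChevSquareLarge
import Cfsg.Agent.Lib.Lie.Chev.CertsFull

/-!
Class-square data of G2, F4, E6.
-/

set_option autoImplicit false

namespace Cfsg.Agent.Classical.ThompsonChev.CasesSmall

open Cfsg.Lie Cfsg.Agent.Lie.Chev Cfsg.Agent.Classical.ThompsonChev

/-- The longest word of G2. -/
def wordG2 : List ℕ := [0, 1, 0, 1, 0, 1]

theorem diagramG2 : checkDiagram certFullG2.T = true := by decide +kernel

theorem gaussG2 : checkGauss certFullG2.T wordG2 = true := by decide +kernel

/-- Levi data of G2. -/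
def cfgG2L : Cfg := ⟨wordG2, [], [], [], [3, 5], []⟩

theorem rootsG2L : cfgG2L.checkRoots certFullG2.T = true := by decide +kernel

theorem largeG2 : cfgG2L.largeOK certFullG2.T 7 = true := by decide +kernel

/-- The class-square covering of G2. -/
theorem squareG2 {F : Type*} [Field F] [Fintype F] (hF : 9 ≤ Fintype.card F) :
    ∃ d : ↥(chevG2.group F), ∀ k : ↥(chevG2.group F), ∃ x y : ↥(chevG2.group F),
      k = (x * d * x⁻¹) * (y * d * y⁻¹) := by
  rcases Nat.lt_or_ge 8 (Fintype.card F) with h | h
  · exact square_of_checks certFullG2 cfgG2L diagramG2 gaussG2 rootsG2L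
      (torusOK_of_largeOK largeG2 (by omega)) (by omega)
  · omega

/-- The longest word of F4. -/
def wordF4 : List ℕ := [0, 1, 0, 2, 1, 0, 2, 1, 2, 3, 2, 1, 0, 2, 1, 2, 3, 2, 1, 0, 2, 1, 2, 3]

theorem diagramF4 : checkDiagram certFullF4.T = true := by decide +kernel

theorem gaussF4 : checkGauss certFullF4.T wordF4 = true := by decide +kernel

/-- Levi data of F4. -/
def cfgF4L : Cfg := ⟨wordF4, [], [], [], [8, 15, 21, 11], []⟩

theorem rootsF4L : cfgF4L.checkRoots certFullF4.T = true := by decide +kernel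

theorem largeF4 : cfgF4L.largeOK certFullF4.T 11 = true := by decide +kernel

/-- Levi data of F4. -/
def cfgF49 : Cfg := ⟨wordF4, [0], [[0]], [0], [2, 4, 5, 7], [[0, 1, 0, 0]]⟩

theorem rootsF49 : cfgF49.checkRoots certFullF4.T = true := by decide +kernel

theorem torusF49 : cfgF49.TorusOK certFullF4.T 8 := by decide +kernel

/-- Levi data of F4. -/
def cfgF411 : Cfg := ⟨wordF4, [0], [[0]], [0], [6, 2, 7, 9], [[0, 1, 0, 0]]⟩

theorem rootsF411 : cfgF411.checkRoots certFullF4.T = true := by decide +kernel

theorem torusF411 : cfgF411.TorusOK certFullF4.T 10 := by decide +kernel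

/-- The class-square covering of F4. -/
theorem squareF4 {F : Type*} [Field F] [Fintype F] (hF : 9 ≤ Fintype.card F) :
    ∃ d : ↥(chevF4.group F), ∀ k : ↥(chevF4.group F), ∃ x y : ↥(chevF4.group F),
      k = (x * d * x⁻¹) * (y * d * y⁻¹) := by
  rcases Nat.lt_or_ge 12 (Fintype.card F) with h | h
  · exact square_of_checks certFullF4 cfgF4L diagramF4 gaussF4 rootsF4L
      (torusOK_of_largeOK largeF4 (by omega)) (by omega)
  · have hpp := FiniteField.isPrimePow_card F
    generalize hn : Fintype.card F = n at hF h hpp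
    interval_cases n
    · exact square_of_checks certFullF4 cfgF49 diagramF4 gaussF4 rootsF49 (hn ▸ torusF49) (by omega)
    · exact (not_primePow_two hpp (a := 2) (b := 5) (by norm_num) (by norm_num) (by norm_num) (by norm_num) (by norm_num)).elim
    · exact square_of_checks certFullF4 cfgF411 diagramF4 gaussF4 rootsF411 (hn ▸ torusF411) (by omega)
    · exact (not_primePow_two hpp (a := 2) (b := 3) (by norm_num) (by norm_num) (by norm_num) (by norm_num) (by norm_num)).elim

/-- The longest word of E6. -/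
def wordE6 : List ℕ := [0, 1, 2, 0, 3, 1, 2, 0, 3, 2, 4, 3, 1, 2, 0, 3, 2, 4, 3, 1, 5, 4, 3, 1, 2, 0, 3, 2, 4, 3, 1, 5, 4, 3, 2, 0]

theorem diagramE6 : checkDiagram certFullE6.T = true := by decide +kernel

theorem gaussE6 : checkGauss certFullE6.T wordE6 = true := by decide +kernel

/-- Levi data of E6. -/
def cfgE6L : Cfg := ⟨wordE6, [], [], [], [8, 11, 15, 21, 15, 8], []⟩

theorem rootsE6L : cfgE6L.checkRoots certFullE6.T = true := by decide +kernel

theorem largeE6 : cfgE6L.largeOK certFullE6.T 11 = true := by decide +kernel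

/-- Levi data of E6. -/
def cfgE69 : Cfg := ⟨wordE6, [0, 5], [[0], [5]], [1, 0], [2, 7, 4, 5, 4, 2], [[0, 0, 1, 0, 0, 0], [0, 0, 0, 0, 1, 0]]⟩

theorem rootsE69 : cfgE69.checkRoots certFullE6.T = true := by decide +kernel

theorem torusE69 : cfgE69.TorusOK certFullE6.T 8 := by decide +kernel

/-- Levi data of E6. -/
def cfgE611 : Cfg := ⟨wordE6, [1], [[1]], [0], [7, 9, 3, 8, 3, 7], [[0, 0, 0, 1, 0, 0]]⟩

theorem rootsE611 : cfgE611.checkRoots certFullE6.T = true := by decide +kernel

theorem torusE611 : cfgE611.TorusOK certFullE6.T 10 := by decide +kernel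

/-- The class-square covering of E6. -/
theorem squareE6 {F : Type*} [Field F] [Fintype F] (hF : 9 ≤ Fintype.card F) :
    ∃ d : ↥(chevE6.group F), ∀ k : ↥(chevE6.group F), ∃ x y : ↥(chevE6.group F),
      k = (x * d * x⁻¹) * (y * d * y⁻¹) := by
  rcases Nat.lt_or_ge 12 (Fintype.card F) with h | h
  · exact square_of_checks certFullE6 cfgE6L diagramE6 gaussE6 rootsE6L
      (torusOK_of_largeOK largeE6 (by omega)) (by omega)
  · have hpp := FiniteField.isPrimePow_card F
    generalize hn : Fintype.card F = n at hF h hpp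
    interval_cases n
    · exact square_of_checks certFullE6 cfgE69 diagramE6 gaussE6 rootsE69 (hn ▸ torusE69) (by omega)
    · exact (not_primePow_two hpp (a := 2) (b := 5) (by norm_num) (by norm_num) (by norm_num) (by norm_num) (by norm_num)).elim
    · exact square_of_checks certFullE6 cfgE611 diagramE6 gaussE6 rootsE611 (hn ▸ torusE611) (by omega)
    · exact (not_primePow_two hpp (a := 2) (b := 3) (by norm_num) (by norm_num) (by norm_num) (by norm_num) (by norm_num)).elim

end Cfsg.Agent.Classical.ThompsonChev.CasesSmall
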