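import Mathlib
import Cfsg.Prelude.Def_GeometricClasses
import Cfsg.Agent.Lib.Fus.SympFacts

/-!
Absolutely irreducible 2-groups of symplectic type in dimension 4: signs of commutation, frames, and the action of
an element of odd prime order of the normaliser.
-/

set_option autoImplicit false
set_option linter.style.haveILetI false
set_option linter.unusedSectionVars false

namespace Cfsg.Agent.Classical.CliffordFour

open Matrix

variable {F : Type*} [Field F] {ι : Type} [Fintype ι] [DecidableEq ι]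

local notation "G4" => GL ι F
local notation "M4" => Matrix ι ι F

/-- What is used of the two-groups of symplectic type. -/
structure Sym (R : Subgroup (GL ι F)) : Prop where
  fin : Finite R
  dim : Fintype.card ι = 4
  two : (2 : F) ≠ 0
  comm : ∀ g ∈ R, ∀ h ∈ R, g * h = h * g ∨ g * h = -(h * g)
  sq : ∀ g ∈ R, g * g = 1 ∨ g * g = -1
  neg : (-1 : GL ι F) ∈ R
  sc : ∀ M : Matrix ι ι F, (∀ g ∈ R, M * (g : Matrix ι ι F) = (g : Matrix ι ι F) * M) → ∃ z : F, M = z • 1
  card : Nat.card R = 16 * Nat.card (Subgroup.center R)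

/-- Scalar matrices. -/
def Sc (g : GL ι F) : Prop := ∃ z : F, (g : Matrix ι ι F) = z • 1

theorem Sc.comm {g : G4} (hg : Sc g) (h : G4) : g * h = h * g := by
  obtain ⟨z, hz⟩ := hg
  exact Units.ext (by rw [Units.val_mul, Units.val_mul, hz, Matrix.smul_mul, Matrix.mul_smul, one_mul, mul_one])

theorem ne_neg_self [Nonempty ι] (h2 : (2 : F) ≠ 0) (g : G4) : g ≠ -g := fun h => by
  have h1 : g * g⁻¹ = -g * g⁻¹ := congrArg (· * g⁻¹) h
  rw [neg_mul, mul_inv_cancel] at h1
  have h3 := congrArg (fun u : G4 => (u : M4) (Classical.arbitrary ι) (Classical.arbitrary ι)) h1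
  simp at h3
  exact h2 (by linear_combination h3)

variable {R : Subgroup (GL ι F)}

theorem Sym.of (h2 : (2 : F) ≠ 0) (hd : Fintype.card ι = 4) (hRs : Cfsg.Geo.IsSymplecticTypeGroup 2 R)
    (hRi : Cfsg.Geo.ActsAbsolutelyIrreducibly (Cfsg.Geo.matrixSet R)) (hfin : Finite R)
    (hc : Nat.card R = 16 * Nat.card (Subgroup.center R)) : Sym R := by
  haveI := hfin
  haveI : Nonempty ι := Fintype.card_pos_iff.1 (by omega)
  have h4 : ∀ x : R, x ^ 4 = 1 := fun x => by
    have h := Monoid.pow_exponent_eq_one x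
    rwa [hRs.exponent_eq] at h
  obtain ⟨hsq, hcm, -⟩ := Fus.SympPair.symp_facts (T := R) ⟨hRs.pGroup, hRs.cyclic_of_characteristic⟩ h4
  have hsc : ∀ M : M4, (∀ g ∈ R, M * (g : M4) = (g : M4) * M) → ∃ z : F, M = z • 1 := fun M hM =>
    hRi.2 M (by rintro _ ⟨g, hg, rfl⟩; exact hM g hg)
  have hcen : ∀ z : R, z ∈ Subgroup.center R → z ^ 2 = 1 → (z : G4) = 1 ∨ (z : G4) = -1 := by
    intro z hz hz2
    obtain ⟨s, hs⟩ := hsc ((z : G4) : M4) (fun g hg => by
      have h := congrArg (fun u : R => ((u : G4) : M4)) (Subgroup.mem_center_iff.1 hz ⟨g, hg⟩)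
      simpa using h.symm)
    have hs2 : s * s = 1 := by
      have h := congrArg (fun u : R => ((u : G4) : M4) (Classical.arbitrary ι) (Classical.arbitrary ι)) hz2
      simpa [pow_two, hs] using h
    rcases mul_self_eq_one_iff.1 hs2 with rfl | rfl
    · exact Or.inl (Units.ext (by simpa using hs))
    · exact Or.inr (Units.ext (by simpa using hs))
  have hcomm : ∀ g ∈ R, ∀ h ∈ R, g * h = h * g ∨ g * h = -(h * g) := fun g hg h hh => by
    obtain ⟨h1, h3⟩ := hcm ⟨g, hg⟩ ⟨h, hh⟩
    rcases hcen _ h1 h3 with e | e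
    · left
      simp [commutatorElement_def] at e
      rw [mul_inv_eq_one, mul_inv_eq_iff_eq_mul] at e
      exact e
    · right
      simp [commutatorElement_def] at e
      rw [mul_inv_eq_iff_eq_mul, mul_inv_eq_iff_eq_mul] at e
      simpa using e
  refine ⟨hfin, hd, h2, hcomm, fun g hg => ?_, ?_, hsc, hc⟩
  · obtain ⟨h1, h3⟩ := hsq ⟨g, hg⟩
    simpa [pow_two] using hcen _ h1 h3
  · by_contra hneg
    have htop : (Subgroup.center R) = ⊤ := eq_top_iff.2 fun x _ => Subgroup.mem_center_iff.2 fun g => by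
      refine Subtype.ext ((hcomm g g.2 x x.2).resolve_right fun e => hneg ?_)
      have : (-1 : G4) = (g : G4) * (x : G4) * ((x : G4) * (g : G4))⁻¹ := by rw [e, neg_mul, mul_inv_cancel]
      rw [this]
      exact mul_mem (mul_mem g.2 x.2) (inv_mem (mul_mem x.2 g.2))
    rw [htop, Subgroup.card_top] at hc
    have := Nat.card_pos (α := R)
    omega

namespace Sym

variable (S : Sym R)
include S

theorem nonempty : Nonempty ι := Fintype.card_pos_iff.1 (by rw [S.dim]; norm_num)

theorem neg_mem {g : G4} (hg : g ∈ R) : -g ∈ R := by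
  rw [← neg_one_mul g]; exact mul_mem S.neg hg

theorem sc_of_center {g : G4} (hg : g ∈ R) (h : (⟨g, hg⟩ : R) ∈ Subgroup.center R) : Sc g :=
  S.sc _ fun u hu => by
    have e := congrArg (fun x : R => ((x : G4) : M4)) (Subgroup.mem_center_iff.1 h ⟨u, hu⟩)
    simpa using e.symm

theorem center_of_sc {g : R} (h : Sc (g : G4)) : g ∈ Subgroup.center R :=
  Subgroup.mem_center_iff.2 fun u => Subtype.ext (h.comm (u : G4)).symm

theorem exists_anti {g : G4} (hg : g ∈ R) (hns : ¬ Sc g) : ∃ h ∈ R, g * h = -(h * g) := by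
  by_contra hcon
  push Not at hcon
  exact hns (S.sc _ fun u hu => congrArg Units.val ((S.comm g hg u hu).resolve_right (hcon u hu)))

theorem not_sc_of_anti {g h : G4} (h1 : g * h = -(h * g)) : ¬ Sc g := fun hs => by
  haveI := S.nonempty
  exact ne_neg_self S.two (h * g) (by rw [← h1, hs.comm])

theorem trace_zero {g h : G4} (h1 : g * h = -(h * g)) : (g : M4).trace = 0 := by
  have e : ((h⁻¹ : G4) : M4) * (g : M4) * (h : M4) = -(g : M4) := by
    rw [← Units.val_mul, ← Units.val_mul, ← Units.val_neg]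
    refine congrArg Units.val ?_
    rw [mul_assoc, h1, mul_neg, ← mul_assoc, inv_mul_cancel, one_mul]
  have h3 := congrArg Matrix.trace e
  rw [Matrix.trace_units_conj', Matrix.trace_neg] at h3
  exact (mul_eq_zero.1 (show (2 : F) * (g : M4).trace = 0 by linear_combination h3)).resolve_left S.two

theorem trace_zero' {g : G4} (hg : g ∈ R) (hns : ¬ Sc g) : (g : M4).trace = 0 := by
  obtain ⟨h, -, h1⟩ := S.exists_anti hg hns
  exact S.trace_zero h1

/-- Coset representatives of the centre. -/
noncomputable def vec (_S : Sym R) (q : R ⧸ Subgroup.center R) : Matrix ι ι F := ((q.out : R) : GL ι F)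

theorem card_quotient : Nat.card (R ⧸ Subgroup.center R) = 16 := by
  haveI := S.fin
  have h := Subgroup.card_eq_card_quotient_mul_card_subgroup (Subgroup.center R)
  rw [S.card] at h
  exact (Nat.eq_of_mul_eq_mul_right Nat.card_pos h).symm

theorem linearIndependent_vec : LinearIndependent F S.vec := by
  classical
  haveI := S.fin
  haveI := Fintype.ofFinite (R ⧸ Subgroup.center R)
  rw [Fintype.linearIndependent_iff]
  intro c hc q
  have h := congrArg (fun M : M4 => (M * (((q.out : R)⁻¹ : R) : G4)).trace) hc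
  simp only [Finset.sum_mul, Matrix.trace_sum, zero_mul, Matrix.trace_zero, smul_mul, Matrix.trace_smul] at h
  rw [Finset.sum_eq_single q (fun b _ hb => ?_) (by simp)] at h
  · have e : S.vec q * ((((q.out : R)⁻¹ : R) : G4) : M4) = 1 := by
      simp only [Sym.vec, ← Units.val_mul, ← Subgroup.coe_mul, mul_inv_cancel, OneMemClass.coe_one, Units.val_one]
    rw [e, Matrix.trace_one, S.dim] at h
    refine (mul_eq_zero.1 h).resolve_right fun h4 => S.two (pow_eq_zero_iff two_ne_zero |>.1 ?_)
    rw [pow_two]; push_cast at h4; linear_combination h4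
  · have e : (S.vec b * ((((q.out : R)⁻¹ : R) : G4) : M4)).trace = 0 := by
      simp only [Sym.vec, ← Units.val_mul, ← Subgroup.coe_mul]
      refine S.trace_zero' (b.out * q.out⁻¹).2 fun hs => hb ?_
      have h1 := (QuotientGroup.eq_one_iff _).2 (S.center_of_sc hs)
      rwa [QuotientGroup.mk_mul, QuotientGroup.mk_inv, QuotientGroup.out_eq', QuotientGroup.out_eq',
        mul_inv_eq_one] at h1
    rw [e, smul_zero]

/-- The coset representatives form a basis of the matrix algebra. -/
noncomputable def basis [Fintype (R ⧸ Subgroup.center R)] : Module.Basis (R ⧸ Subgroup.center R) F (Matrix ι ι F) :=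
  haveI := S.nonempty
  haveI : Nonempty (R ⧸ Subgroup.center R) := ⟨1⟩
  basisOfLinearIndependentOfCardEqFinrank S.linearIndependent_vec (by
    rw [Module.finrank_matrix, S.dim, Module.finrank_self, ← Nat.card_eq_fintype_card, S.card_quotient])

theorem basis_apply [Fintype (R ⧸ Subgroup.center R)] (q : R ⧸ Subgroup.center R) : S.basis q = S.vec q := by
  rw [Sym.basis, coe_basisOfLinearIndependentOfCardEqFinrank]

theorem sc_of_commute_vec {M : M4} (h : ∀ q, M * S.vec q = S.vec q * M) : ∃ z : F, M = z • 1 := by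
  refine S.sc M fun g hg => ?_
  set q : R ⧸ Subgroup.center R := QuotientGroup.mk ⟨g, hg⟩ with hq
  have h1 : (q.out : R)⁻¹ * ⟨g, hg⟩ ∈ Subgroup.center R := QuotientGroup.eq.1 (QuotientGroup.out_eq' q)
  obtain ⟨z, hz⟩ := S.sc_of_center ((q.out : R)⁻¹ * ⟨g, hg⟩).2 h1
  have e : (g : M4) = z • S.vec q := by
    calc (g : M4) = (((q.out : R) : G4) : M4) * (((((q.out : R)⁻¹ * ⟨g, hg⟩ : R) : G4)) : M4) := by
          rw [← Units.val_mul, ← Subgroup.coe_mul, mul_inv_cancel_left]
      _ = _ := by rw [hz, Matrix.mul_smul, mul_one]; rfl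
  rw [e, Matrix.mul_smul, Matrix.smul_mul, h q]

end Sym

section Action

variable {y : GL ι F} (S : Sym R)

/-- The automorphism of `R` given by an element of its normaliser. -/
noncomputable def conjR (hy : y ∈ Subgroup.normalizer (R : Set (GL ι F))) : R ≃* R where
  toFun g := ⟨y * g * y⁻¹, (Subgroup.mem_normalizer_iff.1 hy g).1 g.2⟩
  invFun g := ⟨y⁻¹ * g * y, by
    have := (Subgroup.mem_normalizer_iff.1 (inv_mem hy) g).1 g.2
    rwa [inv_inv] at this⟩
  left_inv g := Subtype.ext (by simp only; group)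
  right_inv g := Subtype.ext (by simp only; group)
  map_mul' g h := Subtype.ext (by simp only [Subgroup.coe_mul]; group)

variable (hy : y ∈ Subgroup.normalizer (R : Set (GL ι F)))

/-- The permutation of the cosets of the centre. -/
noncomputable def sig : (R ⧸ Subgroup.center R) ≃* (R ⧸ Subgroup.center R) :=
  QuotientGroup.congr _ _ (conjR hy) (by
    ext x
    constructor
    · rintro ⟨z, hz, rfl⟩
      exact Subgroup.mem_center_iff.2 fun g => by
        obtain ⟨g, rfl⟩ := (conjR hy).surjective g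
        show conjR hy g * conjR hy z = conjR hy z * conjR hy g
        rw [← map_mul, Subgroup.mem_center_iff.1 hz g, map_mul]
    · intro hx
      refine ⟨(conjR hy).symm x, Subgroup.mem_center_iff.2 fun g => (conjR hy).injective ?_, by simp⟩
      rw [map_mul, map_mul, MulEquiv.apply_symm_apply, Subgroup.mem_center_iff.1 hx])

theorem sig_mk (g : R) : sig hy (g : R ⧸ Subgroup.center R) = (conjR hy g : R) := rfl

theorem sig_iter (k : ℕ) (g : R) :
    ((sig hy).toEquiv ^ k) (g : R ⧸ Subgroup.center R) = ((((conjR hy).toEquiv ^ k) g : R) : R ⧸ Subgroup.center R) := by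
  induction k with
  | zero => rfl
  | succ k ih => rw [pow_succ', pow_succ', Equiv.Perm.mul_apply, Equiv.Perm.mul_apply, ih]; rfl

theorem conjR_iter (k : ℕ) (g : R) : ((((conjR hy).toEquiv ^ k) g : R) : G4) = y ^ k * g * (y ^ k)⁻¹ := by
  induction k with
  | zero => simp
  | succ k ih =>
    rw [pow_succ', Equiv.Perm.mul_apply]
    show y * ((((conjR hy).toEquiv ^ k) g : R) : G4) * y⁻¹ = _
    rw [ih, pow_succ']; group

variable {r : ℕ}

theorem sig_pow (hyr : y ^ r = 1) : (sig hy).toEquiv ^ r = 1 := Equiv.ext fun q => by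
  obtain ⟨g, rfl⟩ := QuotientGroup.mk_surjective q
  rw [sig_iter, show ((conjR hy).toEquiv ^ r) g = g from Subtype.ext (by rw [conjR_iter, hyr]; simp)]
  rfl

include S in
/-- A fixed coset is centralised. -/
theorem comm_of_fixed (hro : Odd r) (hyr : y ^ r = 1) {g : G4} (hg : g ∈ R) {z : F}
    (hz : ((y * g * y⁻¹ : G4) : M4) = z • (g : M4)) : y * g = g * y := by
  haveI := S.nonempty
  set e : G4 := y * g * y⁻¹ * g⁻¹ with he
  have hes : Sc e := ⟨z, by
    rw [he, Units.val_mul, hz, Matrix.smul_mul, ← Units.val_mul, mul_inv_cancel, Units.val_one]⟩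
  have h1 : y * g * y⁻¹ = e * g := by rw [he, inv_mul_cancel_right]
  have h2 : ∀ k : ℕ, y ^ k * g * (y ^ k)⁻¹ = e ^ k * g := fun k => by
    induction k with
    | zero => simp
    | succ k ih =>
      calc y ^ (k + 1) * g * (y ^ (k + 1))⁻¹ = y * (y ^ k * g * (y ^ k)⁻¹) * y⁻¹ := by rw [pow_succ']; group
        _ = y * e ^ k * y⁻¹ * (y * g * y⁻¹) := by rw [ih]; group
        _ = _ := by
          have hc : y * e ^ k = e ^ k * y := ((hes.comm y).symm |> fun h => (Commute.pow_right h k).eq)
          rw [hc, h1, mul_inv_cancel_right, ← mul_assoc, ← pow_succ]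
  have her : e ^ r = 1 := by
    have := h2 r
    rw [hyr, one_mul, inv_one, mul_one] at this
    exact mul_eq_right.1 this.symm
  have he2 : e ^ 2 = 1 := by
    have h3 : y * (g * g) * y⁻¹ = e ^ 2 * (g * g) := by
      calc y * (g * g) * y⁻¹ = (y * g * y⁻¹) * (y * g * y⁻¹) := by group
        _ = _ := by rw [h1, pow_two, mul_assoc e g, ← mul_assoc g e g, ← hes.comm g]; group
    have h4 : y * (g * g) * y⁻¹ = g * g := by rcases S.sq g hg with h | h <;> rw [h] <;> simp
    exact mul_eq_right.1 (h3.symm.trans h4)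
  obtain ⟨m, rfl⟩ := hro
  have : e = 1 := by rwa [pow_succ, pow_mul, he2, one_pow, one_mul] at her
  rw [this, one_mul, mul_inv_eq_iff_eq_mul] at h1
  exact h1

include S in
theorem fixed_iff (hro : Odd r) (hyr : y ^ r = 1) (q : R ⧸ Subgroup.center R) :
    sig hy q = q ↔ y * ((q.out : R) : G4) = ((q.out : R) : G4) * y := by
  constructor
  · intro h
    have h1 := congrArg (sig hy) (QuotientGroup.out_eq' q)
    rw [h, sig_mk] at h1
    have h2 : (q.out : R)⁻¹ * conjR hy q.out ∈ Subgroup.center R :=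
      QuotientGroup.eq.1 ((QuotientGroup.out_eq' q).trans h1.symm)
    obtain ⟨z, hz⟩ := S.sc_of_center ((q.out : R)⁻¹ * conjR hy q.out).2 h2
    refine comm_of_fixed S hro hyr q.out.2 (z := z) ?_
    calc ((y * ((q.out : R) : G4) * y⁻¹ : G4) : M4)
        = (((q.out : R) : G4) : M4) * ((((q.out : R)⁻¹ * conjR hy q.out : R) : G4) : M4) := by
          rw [← Units.val_mul, ← Subgroup.coe_mul, mul_inv_cancel_left]; rfl
      _ = _ := by rw [hz, Matrix.mul_smul, mul_one]
  · intro h
    conv_lhs => rw [← QuotientGroup.out_eq' q, sig_mk]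
    rw [show conjR hy q.out = q.out from Subtype.ext (by
      show y * ((q.out : R) : G4) * y⁻¹ = _
      rw [h, mul_inv_cancel_right]), QuotientGroup.out_eq']

include S in
theorem trace_mul_trace (hro : Odd r) (hyr : y ^ r = 1) :
    (y : M4).trace * ((y⁻¹ : G4) : M4).trace = (Nat.card {q // sig hy q = q} : F) := by
  classical
  haveI := S.fin
  haveI := Fintype.ofFinite (R ⧸ Subgroup.center R)
  set Y : M4 →ₗ[F] M4 := (LinearMap.mulLeft F (y : M4)).comp (LinearMap.mulRight F ((y⁻¹ : G4) : M4)) with hY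
  have h1 : LinearMap.trace F M4 Y = (y : M4).trace * ((y⁻¹ : G4) : M4).trace := by
    rw [LinearMap.trace_eq_matrix_trace F (Matrix.stdBasis F ι ι), Matrix.trace, Matrix.trace, Matrix.trace,
      Finset.sum_mul_sum, Fintype.sum_prod_type]
    refine Finset.sum_congr rfl fun i _ => Finset.sum_congr rfl fun j _ => ?_
    simp only [Matrix.diag_apply, LinearMap.toMatrix_apply, hY, LinearMap.comp_apply, LinearMap.mulLeft_apply,
      LinearMap.mulRight_apply, Matrix.stdBasis_eq_single]
    simp [Matrix.stdBasis, Matrix.mul_apply, Matrix.single_apply, ite_and]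
  rw [← h1, LinearMap.trace_eq_matrix_trace F S.basis, Matrix.trace]
  rw [Nat.card_eq_fintype_card, Fintype.card_subtype, Finset.card_filter, Nat.cast_sum]
  refine Finset.sum_congr rfl fun q _ => ?_
  rw [Matrix.diag_apply, LinearMap.toMatrix_apply, S.basis_apply]
  have h2 : Y (S.vec q) = ((conjR hy q.out : R) : G4) := by
    show (y : M4) * ((((q.out : R) : G4) : M4) * ((y⁻¹ : G4) : M4)) = _
    rw [← mul_assoc, ← Units.val_mul, ← Units.val_mul]; rfl
  set u : R := conjR hy q.out with hu
  set q' : R ⧸ Subgroup.center R := (u : R ⧸ Subgroup.center R) with hq'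
  have h3 : (q'.out : R)⁻¹ * u ∈ Subgroup.center R := QuotientGroup.eq.1 (QuotientGroup.out_eq' q')
  obtain ⟨z, hz⟩ := S.sc_of_center ((q'.out : R)⁻¹ * u).2 h3
  have h4 : ((u : G4) : M4) = z • S.vec q' := by
    calc ((u : G4) : M4) = (((q'.out : R) : G4) : M4) * ((((q'.out : R)⁻¹ * u : R) : G4) : M4) := by
          rw [← Units.val_mul, ← Subgroup.coe_mul, mul_inv_cancel_left]
      _ = _ := by rw [hz, Matrix.mul_smul, mul_one]; rfl
  have h5 : sig hy q = q' := by conv_lhs => rw [← QuotientGroup.out_eq' q, sig_mk]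
  rw [h2, h4, map_smul, ← S.basis_apply, Module.Basis.repr_self, Finsupp.smul_apply, Finsupp.single_apply]
  by_cases hq : q' = q
  · rw [if_pos hq, if_pos (h5.trans hq)]
    have hc := (fixed_iff S hy hro hyr q).1 (h5.trans hq)
    have e : u = q.out := Subtype.ext (by show y * ((q.out : R) : G4) * y⁻¹ = _; rw [hc, mul_inv_cancel_right])
    have h6 : z • S.vec q = (1 : F) • S.vec q := by
      rw [one_smul]
      conv_lhs => rw [← hq, ← h4, e]
      rfl
    have h7 : S.vec q ≠ 0 := S.linearIndependent_vec.ne_zero q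
    rw [smul_left_injective F h7 h6]; simp
  · rw [if_neg hq, if_neg fun h => hq (h5.symm.trans h)]; simp

end Action

end Cfsg.Agent.Classical.CliffordFour
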