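import Cfsg.Agent.Lib.Classical.SemisimpleFormConjugacy
import Cfsg.Agent.Lib.Classical.Symp
import Cfsg.Prelude.Def_Classical

/-! Conjugacy of semisimple elements of symplectic and orthogonal groups. -/

set_option autoImplicit false

namespace Cfsg.Agent.SympSemisimpleClasses

open Matrix Polynomial

variable {F : Type*} [Field F]

/-- Semisimple maps with equal characteristic polynomial are similar. -/
theorem exists_equiv_of_charpoly_eq {V : Type*} [AddCommGroup V] [Module F V] [FiniteDimensional F V]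
    (g h : Module.End F V) {M : ℕ} (hM : (M : F) ≠ 0) (hg : g ^ M = 1) (hh : h ^ M = 1)
    (hc : LinearMap.charpoly g = LinearMap.charpoly h) : ∃ e : V ≃ₗ[F] V, ∀ v, e (g v) = h (e v) := by
  let b := (Module.finBasis F V).equivFun
  have hpow : ∀ x : Module.End F V, x ^ M = 1 → (b.conjAlgEquiv F x) ^ M = 1 := fun x hx => by
    rw [← map_pow, hx, map_one]
  obtain ⟨e, he⟩ := Cfsg.Agent.Lie.Semisimple.similar_of_charpoly_eq _ (b.conjAlgEquiv F g) (b.conjAlgEquiv F h) M hM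
    (hpow g hg) (hpow h hh)
    (by
      show (b.conj g).charpoly = (b.conj h).charpoly
      rw [LinearEquiv.charpoly_conj, LinearEquiv.charpoly_conj, hc])
  refine ⟨b.trans (e.trans b.symm), fun v => ?_⟩
  have := he (b v)
  simp only [LinearEquiv.trans_apply]
  apply b.injective
  simp [LinearEquiv.conjAlgEquiv_apply] at this
  simpa using this

variable [Fintype F] {p : ℕ} [Fact p.Prime] [CharP F p] {m : ℕ}

local notation "Mt" => Matrix (Fin m ⊕ Fin m) (Fin m ⊕ Fin m) F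

theorem cast_order_ne_zero {G : Type*} [Monoid G] {A : G} (hA : (orderOf A).Coprime p) :
    ((orderOf A : ℕ) : F) ≠ 0 := by
  rw [ne_eq, CharP.cast_eq_zero_iff F p]
  exact (Fact.out : p.Prime).coprime_iff_not_dvd.1 hA.symm

theorem symp_isConj (A B : Matrix.symplecticGroup (Fin m) F) (hA : (orderOf A).Coprime p)
    (P : (Fin m ⊕ Fin m → F) ≃ₗ[F] (Fin m ⊕ Fin m → F))
    (hP : ∀ x, P ((A : Mt) *ᵥ x) = (B : Mt) *ᵥ P x) : IsConj A B := by
  classical
  have hiso : ∀ C : Matrix.symplecticGroup (Fin m) F, ∀ x y, Classical.sympB m F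
      (Matrix.toLinAlgEquiv' (C : Mt) x) (Matrix.toLinAlgEquiv' (C : Mt) y) = Classical.sympB m F x y :=
    fun C x y => by
      rw [Classical.sympB_apply, Classical.sympB_apply]
      exact Classical.sympForm_map C x y
  obtain ⟨Q, hQ, hQA⟩ := SemisimpleFormConjugacy.alternating_conj (B := Classical.sympB m F)
    Classical.sympB_nondegenerate (fun x => by rw [Classical.sympB_apply]; exact Classical.sympForm_self x)
    (g := Matrix.toLinAlgEquiv' (A : Mt)) (h := Matrix.toLinAlgEquiv' (B : Mt)) (hiso A) (hiso B)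
    (M := orderOf A) (cast_order_ne_zero hA)
    (by rw [← map_pow, ← SubmonoidClass.coe_pow, pow_orderOf_eq_one, OneMemClass.coe_one, map_one]) P hP
  set q : Mt := LinearMap.toMatrixAlgEquiv' (Q : (Fin m ⊕ Fin m → F) →ₗ[F] (Fin m ⊕ Fin m → F))
  have hq : ∀ x, q *ᵥ x = Q x := fun x => by
    show Matrix.toLinAlgEquiv' q x = _
    rw [Matrix.toLinAlgEquiv'_toMatrixAlgEquiv']
    rfl
  have hmem : q ∈ Matrix.symplecticGroup (Fin m) F := Classical.mem_symplecticGroup_iff_form.2 fun u v => by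
    rw [hq, hq, ← Classical.sympB_apply, hQ, Classical.sympB_apply]
  refine isConj_iff.2 ⟨⟨q, hmem⟩, mul_inv_eq_iff_eq_mul.2 (Subtype.ext (Matrix.ext_iff_mulVec.2 fun x => ?_))⟩
  show (q * (A : Mt)) *ᵥ x = ((B : Mt) * q) *ᵥ x
  rw [← Matrix.mulVec_mulVec, ← Matrix.mulVec_mulVec, hq, hq]
  exact hQA x

theorem symp_isConj_iff (A B : Matrix.symplecticGroup (Fin m) F) (hA : (orderOf A).Coprime p) :
    IsConj A B ↔ IsConj (A : Mt) (B : Mt) := by
  refine ⟨fun h => ?_, fun h => ?_⟩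
  · exact (Submonoid.subtype (Matrix.symplecticGroup (Fin m) F)).map_isConj h
  · obtain ⟨c, hc⟩ := h
    refine symp_isConj A B hA (LinearMap.GeneralLinearGroup.toLinearEquiv
      (Units.map (Matrix.toLinAlgEquiv' : Mt ≃ₐ[F] _).toAlgHom.toMonoidHom c)) fun x => ?_
    show (c : Mt) *ᵥ ((A : Mt) *ᵥ x) = (B : Mt) *ᵥ ((c : Mt) *ᵥ x)
    rw [Matrix.mulVec_mulVec, Matrix.mulVec_mulVec, hc.eq]

theorem symp_isConj_of_charpoly (A B : Matrix.symplecticGroup (Fin m) F) (hA : (orderOf A).Coprime p)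
    (hB : (orderOf B).Coprime p) (hc : (A : Mt).charpoly = (B : Mt).charpoly) : IsConj A B := by
  have hchar : ∀ C : Mt, LinearMap.charpoly (Matrix.toLinAlgEquiv' C) = C.charpoly := fun C => by
    rw [← LinearMap.charpoly_toMatrix _ (Pi.basisFun F _), LinearMap.toMatrix_eq_toMatrix']
    exact congrArg _ (LinearMap.toMatrix'_toLin' C)
  obtain ⟨e, he⟩ := exists_equiv_of_charpoly_eq (Matrix.toLinAlgEquiv' (A : Mt)) (Matrix.toLinAlgEquiv' (B : Mt))
    (M := orderOf A * orderOf B) (by rw [Nat.cast_mul]; exact mul_ne_zero (cast_order_ne_zero hA) (cast_order_ne_zero hB))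
    (by rw [← map_pow, ← SubmonoidClass.coe_pow, pow_mul, pow_orderOf_eq_one, one_pow, OneMemClass.coe_one, map_one])
    (by rw [← map_pow, ← SubmonoidClass.coe_pow, pow_mul', pow_orderOf_eq_one, one_pow, OneMemClass.coe_one, map_one])
    (by rw [hchar, hchar, hc])
  exact symp_isConj A B hA e he

theorem orth_isConj_iff {n : ℕ} (Q : QuadraticForm F (Fin n → F)) (hQ : (QuadraticMap.polarBilin Q).Nondegenerate)
    (A B : isometryGroup F ⇑Q) (hodd : Odd (orderOf A)) (hA : (orderOf A).Coprime p) :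
    IsConj A B ↔ IsConj ((A : GL (Fin n) F) : Matrix (Fin n) (Fin n) F) ((B : GL (Fin n) F) : Matrix (Fin n) (Fin n) F) := by
  classical
  refine ⟨fun h => ((Units.coeHom (Matrix (Fin n) (Fin n) F)).comp (isometryGroup F ⇑Q).subtype).map_isConj h, fun h => ?_⟩
  obtain ⟨c, hc⟩ := h
  set a := ((A : GL (Fin n) F) : Matrix (Fin n) (Fin n) F)
  set b := ((B : GL (Fin n) F) : Matrix (Fin n) (Fin n) F)
  obtain ⟨R, hR, hRA⟩ := SemisimpleFormConjugacy.quadratic_conj Q hQ
    (g := Matrix.toLinAlgEquiv' a) (h := Matrix.toLinAlgEquiv' b) (fun x => A.2 x x) (fun x => B.2 x x)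
    (M := orderOf A) (cast_order_ne_zero hA) hodd
    (by rw [← map_pow, ← Units.val_pow_eq_pow_val, ← SubgroupClass.coe_pow, pow_orderOf_eq_one, OneMemClass.coe_one,
      Units.val_one, map_one])
    (LinearMap.GeneralLinearGroup.toLinearEquiv
      (Units.map (Matrix.toLinAlgEquiv' : Matrix (Fin n) (Fin n) F ≃ₐ[F] _).toAlgHom.toMonoidHom c))
    (fun x => by
      show (c : Matrix (Fin n) (Fin n) F) *ᵥ (a *ᵥ x) = b *ᵥ ((c : Matrix (Fin n) (Fin n) F) *ᵥ x)
      rw [Matrix.mulVec_mulVec, Matrix.mulVec_mulVec, hc.eq])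
  set r : Matrix (Fin n) (Fin n) F := LinearMap.toMatrixAlgEquiv' (R : (Fin n → F) →ₗ[F] (Fin n → F))
  have hr : ∀ x, r *ᵥ x = R x := fun x => by
    show Matrix.toLinAlgEquiv' r x = _
    rw [Matrix.toLinAlgEquiv'_toMatrixAlgEquiv']
    rfl
  obtain ⟨u, hu⟩ : IsUnit r := IsUnit.map LinearMap.toMatrixAlgEquiv'
    (LinearMap.GeneralLinearGroup.ofLinearEquiv R).isUnit
  have hmem : u ∈ isometryGroup F ⇑Q := fun x y => by
    show Q (u.val *ᵥ x) = Q x
    rw [hu, hr, hR]
  refine isConj_iff.2 ⟨⟨u, hmem⟩, mul_inv_eq_iff_eq_mul.2 (Subtype.ext (Units.ext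
    (Matrix.ext_iff_mulVec.2 fun x => ?_)))⟩
  show (u.val * a) *ᵥ x = (b * u.val) *ᵥ x
  rw [← Matrix.mulVec_mulVec, ← Matrix.mulVec_mulVec, hu, hr, hr]
  exact hRA x

end Cfsg.Agent.SympSemisimpleClasses
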