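import Cfsg.Agent.Lib.Classical.CliffordFour
import Cfsg.Agent.Lib.Classical.SympSemisimpleClasses

/-!
Elements of order two, three and five in dimension 4: characteristic polynomials from trace and determinant.
-/

set_option autoImplicit false
set_option linter.style.haveILetI false
set_option linter.unusedSectionVars false

namespace Cfsg.Agent.Classical.CliffordFour

open Matrix Polynomial

variable {F : Type*} [Field F] {ι : Type} [Fintype ι] [DecidableEq ι]

local notation "G4" => GL ι F
local notation "M4" => Matrix ι ι F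

variable (K : Type*) [Field K] [IsAlgClosed K] [Algebra F K]

/-- An element of finite order prime to the characteristic is diagonalisable over an algebraically closed field. -/
theorem exists_diag (x : G4) {M : ℕ} (hM : (M : K) ≠ 0) (hx : x ^ M = 1) :
    ∃ d : ι → K, (∀ i, d i ^ M = 1) ∧
      (x : M4).charpoly.map (algebraMap F K) = ∏ i, (X - C (d i)) ∧
      algebraMap F K (x : M4).trace = ∑ i, d i ∧ algebraMap F K (x : M4).det = ∏ i, d i ∧
      algebraMap F K ((x⁻¹ : G4) : M4).trace = ∑ i, (d i)⁻¹ ∧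
      (∀ t : K, (∀ i, d i = t) → Sc x) := by
  classical
  let φ := algebraMap F K
  let T : Matrix ι ι K := (x : M4).map φ
  have hT : T ^ M = 1 := by
    show (φ.mapMatrix (x : M4)) ^ M = 1
    rw [← map_pow, ← Units.val_pow_eq_pow_val, hx, Units.val_one, map_one]
  have hsplit : T.charpoly.Splits := IsAlgClosed.splits _
  set L := T.charpoly.roots.toList with hL
  have hlen : L.length = Fintype.card ι := by
    rw [hL, Multiset.length_toList, ← hsplit.natDegree_eq_card_roots, Matrix.charpoly_natDegree_eq_dim]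
  let e := Fintype.equivFinOfCardEq hlen.symm
  let d : ι → K := fun i => L.get (e i)
  have hprod : T.charpoly = ∏ i, (X - C (d i)) := by
    conv_lhs => rw [hsplit.eq_prod_roots_of_monic T.charpoly_monic, ← Multiset.coe_toList T.charpoly.roots, ← hL]
    rw [Multiset.map_coe, Multiset.prod_coe, ← Fin.prod_univ_fun_getElem]
    exact (e.prod_comp fun k : Fin L.length => X - C (L.get k)).symm
  have hd : ∀ i, d i ^ M = 1 := by
    intro i
    have hr : T.charpoly.IsRoot (d i) :=
      Polynomial.isRoot_of_mem_roots (by rw [← Multiset.mem_toList, ← hL]; exact List.get_mem L (e i))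
    obtain ⟨v, hv0, hv⟩ := Matrix.exists_mulVec_eq_zero_iff.2
      (show (Matrix.scalar ι (d i) - T).det = 0 by rw [← Matrix.eval_charpoly]; exact hr)
    have hev : T *ᵥ v = d i • v := by
      rw [Matrix.sub_mulVec, sub_eq_zero, Matrix.scalar_apply] at hv
      rw [← hv]; ext j; simp [Matrix.mulVec_diagonal]
    have hpow : ∀ k : ℕ, (T ^ k) *ᵥ v = d i ^ k • v := fun k => by
      induction k with
      | zero => simp
      | succ k ih => rw [pow_succ', ← Matrix.mulVec_mulVec, ih, Matrix.mulVec_smul, hev, smul_smul, ← pow_succ]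
    have h1 := hpow M
    rw [hT, Matrix.one_mulVec] at h1
    exact smul_left_injective K hv0 (h1.symm.trans (one_smul K v).symm)
  have hM0 : M ≠ 0 := fun h => hM (by rw [h, Nat.cast_zero])
  have hd0 : ∀ i, d i ≠ 0 := fun i h => by simpa [h, zero_pow hM0] using hd i
  let D : Matrix ι ι K := Matrix.diagonal d
  have hD : D ^ M = 1 := by rw [Matrix.diagonal_pow, show d ^ M = fun _ => 1 from funext hd, Matrix.diagonal_one]
  have hch : ∀ C : Matrix ι ι K, LinearMap.charpoly (Matrix.toLinAlgEquiv' C) = C.charpoly := fun C => by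
    rw [← LinearMap.charpoly_toMatrix _ (Pi.basisFun K _), LinearMap.toMatrix_eq_toMatrix']
    exact congrArg _ (LinearMap.toMatrix'_toLin' C)
  obtain ⟨E, hE⟩ := SympSemisimpleClasses.exists_equiv_of_charpoly_eq (Matrix.toLinAlgEquiv' D)
    (Matrix.toLinAlgEquiv' T) hM (by rw [← map_pow, hD, map_one]) (by rw [← map_pow, hT, map_one])
    (by rw [hch, hch, Matrix.charpoly_diagonal, hprod])
  let P : Matrix ι ι K := LinearMap.toMatrixAlgEquiv' (E : (ι → K) →ₗ[K] ι → K)
  let P' : Matrix ι ι K := LinearMap.toMatrixAlgEquiv' (E.symm : (ι → K) →ₗ[K] ι → K)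
  have hPP : P * P' = 1 := by
    show LinearMap.toMatrixAlgEquiv' _ * LinearMap.toMatrixAlgEquiv' _ = 1
    rw [← map_mul, show ((E : (ι → K) →ₗ[K] ι → K) * (E.symm : (ι → K) →ₗ[K] ι → K)) = 1 from
      LinearMap.ext fun v => E.apply_symm_apply v, map_one]
  have hP'P : P' * P = 1 := mul_eq_one_comm.1 hPP
  have hTP : T = P * D * P' := by
    have h : P * D = T * P := by
      have e1 : ((E : (ι → K) →ₗ[K] ι → K) * Matrix.toLinAlgEquiv' D) =
          Matrix.toLinAlgEquiv' T * (E : (ι → K) →ₗ[K] ι → K) := LinearMap.ext hE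
      have e2 := congrArg LinearMap.toMatrixAlgEquiv' e1
      rwa [map_mul, map_mul, LinearMap.toMatrixAlgEquiv'_toLinAlgEquiv', LinearMap.toMatrixAlgEquiv'_toLinAlgEquiv'] at e2
    rw [h, mul_assoc, hPP, mul_one]
  let Ti : Matrix ι ι K := ((x⁻¹ : G4) : M4).map φ
  have hTi : Ti = P * Matrix.diagonal (fun i => (d i)⁻¹) * P' := by
    have h1 : Ti * T = 1 := by
      show φ.mapMatrix _ * φ.mapMatrix _ = 1
      rw [← map_mul, ← Units.val_mul, inv_mul_cancel, Units.val_one, map_one]
    have h2 : T * (P * Matrix.diagonal (fun i => (d i)⁻¹) * P') = 1 := by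
      calc T * (P * Matrix.diagonal (fun i => (d i)⁻¹) * P')
          = P * (D * (P' * P) * Matrix.diagonal (fun i => (d i)⁻¹)) * P' := by rw [hTP]; simp only [mul_assoc]
        _ = 1 := by
          rw [hP'P, mul_one, Matrix.diagonal_mul_diagonal,
            show (fun i => d i * (d i)⁻¹) = fun _ => (1 : K) from funext fun i => mul_inv_cancel₀ (hd0 i),
            Matrix.diagonal_one, mul_one, hPP]
    exact left_inv_eq_right_inv h1 h2
  refine ⟨d, hd, ?_, ?_, ?_, ?_, fun t ht => ?_⟩
  · rw [← hprod]; exact (Matrix.charpoly_map _ φ).symm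
  · rw [show φ (x : M4).trace = T.trace from AddMonoidHom.map_trace φ.toAddMonoidHom _, hTP, Matrix.trace_mul_cycle,
      hP'P, one_mul, Matrix.trace_diagonal]
  · rw [RingHom.map_det, show φ.mapMatrix (x : M4) = T from rfl, hTP, Matrix.det_mul, Matrix.det_mul, mul_right_comm,
      ← Matrix.det_mul, hPP, Matrix.det_one, one_mul, Matrix.det_diagonal]
  · rw [show φ ((x⁻¹ : G4) : M4).trace = Ti.trace from AddMonoidHom.map_trace φ.toAddMonoidHom _, hTi,
      Matrix.trace_mul_cycle, hP'P, one_mul, Matrix.trace_diagonal]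
  · have hTs : T = t • 1 := by
      rw [hTP, show D = t • 1 by rw [Matrix.smul_one_eq_diagonal]; exact congrArg Matrix.diagonal (funext ht), Matrix.mul_smul,
        mul_one, Matrix.smul_mul, hPP]
    have hent : ∀ i j, φ ((x : M4) i j) = if i = j then t else 0 := fun i j => by
      rw [show φ ((x : M4) i j) = T i j from rfl, hTs, Matrix.smul_apply, Matrix.one_apply]; split_ifs <;> simp
    rcases isEmpty_or_nonempty ι with h | ⟨⟨i₀⟩⟩
    · exact ⟨0, Subsingleton.elim _ _⟩
    refine ⟨(x : M4) i₀ i₀, Matrix.ext fun i j => φ.injective ?_⟩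
    rw [hent, Matrix.smul_apply, Matrix.one_apply, smul_eq_mul, map_mul, hent, if_pos rfl]
    split_ifs <;> simp

/-- The eigenvalues of an element of order `r` counted by exponent. -/
theorem exists_counts (hdim : Fintype.card ι = 4) (x : G4) {r : ℕ} {ω : K} (hω : IsPrimitiveRoot ω r)
    (hr : (r : K) ≠ 0) (hx : x ^ r = 1) :
    ∃ n : Fin r → ℕ, ∑ j : Fin r, n j = 4 ∧
      (x : M4).charpoly.map (algebraMap F K) = ∏ j : Fin r, (X - C (ω ^ (j : ℕ))) ^ n j ∧
      algebraMap F K (x : M4).trace = ∑ j : Fin r, (n j : K) * ω ^ (j : ℕ) ∧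
      algebraMap F K (x : M4).det = ∏ j : Fin r, (ω ^ (j : ℕ)) ^ n j ∧
      algebraMap F K ((x⁻¹ : G4) : M4).trace = ∑ j : Fin r, (n j : K) * (ω ^ (j : ℕ))⁻¹ ∧
      (∀ j : Fin r, n j = 4 → Sc x) := by
  classical
  obtain ⟨d, hd, h1, h2, h3, h4, h5⟩ := exists_diag K x hr hx
  haveI : NeZero r := ⟨fun h => hr (by rw [h, Nat.cast_zero])⟩
  choose e he1 he2 using fun i => hω.eq_pow_of_pow_eq_one (hd i)
  let E : ι → Fin r := fun i => ⟨e i, he1 i⟩
  let n : Fin r → ℕ := fun j => (Finset.univ.filter fun i => E i = j).card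
  have hE : ∀ i, d i = ω ^ ((E i : Fin r) : ℕ) := fun i => (he2 i).symm
  have hsum : ∀ f : Fin r → K, ∑ i, f (E i) = ∑ j, (n j : K) * f j := fun f => by
    rw [← Finset.sum_fiberwise' (Finset.univ : Finset ι) E f]
    exact Finset.sum_congr rfl fun j _ => by rw [Finset.sum_const, nsmul_eq_mul]
  have hprod : ∀ {A : Type _} [CommMonoid A] (f : Fin r → A), ∏ i, f (E i) = ∏ j, f j ^ n j := fun {A} _ f => by
    rw [← Finset.prod_fiberwise' (Finset.univ : Finset ι) E f]
    exact Finset.prod_congr rfl fun j _ => by rw [Finset.prod_const]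
  refine ⟨n, ?_, ?_, ?_, ?_, ?_, fun j hj => h5 (ω ^ (j : ℕ)) fun i => ?_⟩
  · rw [← hdim, ← Finset.card_univ]
    exact (Finset.card_eq_sum_card_fiberwise fun i _ => Finset.mem_univ (E i)).symm
  · rw [h1, ← hprod fun j : Fin r => X - C (ω ^ (j : ℕ))]
    exact Finset.prod_congr rfl fun i _ => by rw [hE]
  · rw [h2, ← hsum fun j => ω ^ (j : ℕ)]
    exact Finset.sum_congr rfl fun i _ => hE i
  · rw [h3, ← hprod fun j : Fin r => ω ^ (j : ℕ)]
    exact Finset.prod_congr rfl fun i _ => hE i
  · rw [h4, ← hsum fun j => (ω ^ (j : ℕ))⁻¹]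
    exact Finset.sum_congr rfl fun i _ => by rw [hE]
  · have hall : (Finset.univ.filter fun i => E i = j) = Finset.univ :=
      Finset.eq_univ_of_card _ (hj.trans hdim.symm)
    have hi : i ∈ Finset.univ.filter fun i => E i = j := by rw [hall]; exact Finset.mem_univ i
    rw [hE, (Finset.mem_filter.1 hi).2]

end Cfsg.Agent.Classical.CliffordFour

namespace Cfsg.Agent.Classical.CliffordFour

open Matrix Polynomial

variable {F : Type*} [Field F] {ι : Type} [Fintype ι] [DecidableEq ι] {p : ℕ} [Fact p.Prime] [CharP F p]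

local notation "G4" => GL ι F
local notation "M4" => Matrix ι ι F
local notation "K" => AlgebraicClosure F

theorem eq_of_cast_eq {a b : ℕ} (ha : a < p) (hb : b < p) (h : (a : F) = b) : a = b :=
  Nat.ModEq.eq_of_lt_of_lt ((CharP.natCast_eq_natCast F p).1 h) ha hb

theorem exists_primitive {r : ℕ} (hr : (r : F) ≠ 0) : ∃ ω : K, IsPrimitiveRoot ω r := by
  haveI : NeZero (r : K) := ⟨by rw [← map_natCast (algebraMap F K)]; exact (_root_.map_ne_zero _).2 hr⟩
  haveI : NeZero r := NeZero.of_neZero_natCast K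
  obtain ⟨ω, hω⟩ := IsAlgClosed.exists_root (cyclotomic r K) (by
    rw [degree_cyclotomic]; exact_mod_cast (Nat.totient_pos.2 (NeZero.pos r)).ne')
  exact ⟨ω, isRoot_cyclotomic_iff.1 hω⟩

theorem cast_K {r : ℕ} (hr : (r : F) ≠ 0) : (r : K) ≠ 0 := by
  rw [← map_natCast (algebraMap F K)]; exact (_root_.map_ne_zero _).2 hr

theorem scal_pow_one {c : F} {x : G4} (hx : (x : M4) * x = c • 1) {m : ℕ} (hc : c ^ m = 1) : x ^ (2 * m) = 1 := by
  refine Units.ext ?_
  rw [Units.val_pow_eq_pow_val, pow_mul, pow_two, hx, _root_.smul_pow, one_pow, hc, one_smul, Units.val_one]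

/-- Square roots of a scalar: eigenvalues. -/
theorem exists_roots (h2 : (2 : F) ≠ 0) (hdim : Fintype.card ι = 4) {c : F} (hc : c ^ 4 = 1) (x : G4)
    (hx : (x : M4) * x = c • 1) {s : K} (hs : s * s = algebraMap F K c) :
    ∃ k : ℕ, k ≤ 4 ∧ (x : M4).charpoly.map (algebraMap F K) = (X - C s) ^ (4 - k) * (X + C s) ^ k ∧
      algebraMap F K (x : M4).trace = ((4 : K) - 2 * k) * s ∧
      algebraMap F K (x : M4).det = (-1) ^ k * s ^ 4 ∧ (k = 0 ∨ k = 4 → Sc x) := by
  classical
  have h8 : ((8 : ℕ) : K) ≠ 0 := cast_K (by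
    push_cast; rw [show (8 : F) = 2 ^ 3 by norm_num]; exact pow_ne_zero _ h2)
  obtain ⟨d, hd, h1, h3, h4, -, h6⟩ := exists_diag K x h8 (scal_pow_one (m := 4) hx hc)
  let y : Matrix ι ι K := (x : M4).map (algebraMap F K)
  have hds : ∀ i, d i = s ∨ d i = -s := by
    intro i
    refine mul_self_eq_mul_self_iff.1 ?_
    have hr : y.charpoly.IsRoot (d i) := by
      show ((algebraMap F K).mapMatrix (x : M4)).charpoly.IsRoot (d i)
      rw [show ((algebraMap F K).mapMatrix (x : M4)).charpoly = (x : M4).charpoly.map (algebraMap F K) from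
        Matrix.charpoly_map _ _, h1]
      exact dvd_iff_isRoot.1 (Finset.dvd_prod_of_mem _ (Finset.mem_univ i))
    obtain ⟨v, hv0, hv⟩ := Matrix.exists_mulVec_eq_zero_iff.2
      (show (Matrix.scalar ι (d i) - y).det = 0 by rw [← Matrix.eval_charpoly]; exact hr)
    have hev : y *ᵥ v = d i • v := by
      rw [Matrix.sub_mulVec, sub_eq_zero, Matrix.scalar_apply] at hv
      rw [← hv]; ext j; simp [Matrix.mulVec_diagonal]
    have e2 : y * y = algebraMap F K c • 1 := by
      show (algebraMap F K).mapMatrix (x : M4) * (algebraMap F K).mapMatrix (x : M4) = _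
      rw [← map_mul, hx]
      ext a b
      simp [Matrix.one_apply, apply_ite (algebraMap F K)]
    have h7 := congrArg (fun N : Matrix ι ι K => N *ᵥ v) e2
    simp only [← Matrix.mulVec_mulVec, hev, Matrix.mulVec_smul, smul_smul, Matrix.smul_mulVec, Matrix.one_mulVec] at h7
    exact (smul_left_injective K hv0 h7).trans hs.symm
  let S := Finset.univ.filter fun i => d i ≠ s
  have hS : ∀ i ∈ S, d i = -s := fun i hi => (hds i).resolve_left (Finset.mem_filter.1 hi).2
  have hS' : ∀ i ∈ Sᶜ, d i = s := fun i hi => by simpa [S] using hi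
  have hk : S.card ≤ 4 := hdim ▸ Finset.card_le_univ S
  have hc' : Sᶜ.card = 4 - S.card := by rw [Finset.card_compl, hdim]
  refine ⟨S.card, hk, ?_, ?_, ?_, ?_⟩
  · rw [h1, ← Finset.prod_compl_mul_prod S, Finset.prod_congr rfl fun i hi => by rw [hS' i hi],
      Finset.prod_congr rfl fun i (hi : i ∈ S) => by rw [hS i hi], Finset.prod_const, Finset.prod_const, hc', C_neg,
      sub_neg_eq_add]
  · rw [h3, ← Finset.sum_compl_add_sum S, Finset.sum_congr rfl hS', Finset.sum_congr rfl hS, Finset.sum_const,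
      Finset.sum_const, hc', nsmul_eq_mul, nsmul_eq_mul, Nat.cast_sub hk]
    push_cast; ring
  · rw [h4, ← Finset.prod_compl_mul_prod S, Finset.prod_congr rfl hS', Finset.prod_congr rfl hS, Finset.prod_const,
      Finset.prod_const, hc', neg_pow, mul_left_comm, ← pow_add, Nat.sub_add_cancel hk]
  · rintro (h | h)
    · exact h6 s fun i => hS' i (by rw [Finset.card_eq_zero.1 h]; simp)
    · exact h6 (-s) fun i => hS i (by rw [Finset.eq_univ_of_card S (h.trans hdim.symm)]; simp)

theorem charpoly_eq_of_map {A B : M4} (h : A.charpoly.map (algebraMap F K) = B.charpoly.map (algebraMap F K)) :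
    A.charpoly = B.charpoly := Polynomial.map_injective _ (algebraMap F K).injective h

/-- Square roots of one scalar with the same trace and determinant. -/
theorem charpoly_two (h2 : (2 : F) ≠ 0) (hdim : Fintype.card ι = 4) {c : F} (hc : c ^ 4 = 1) {x y : G4}
    (hx : (x : M4) * x = c • 1) (hy : (y : M4) * y = c • 1) (ht : (x : M4).trace = (y : M4).trace)
    (hd : (x : M4).det = (y : M4).det) : (x : M4).charpoly = (y : M4).charpoly := by
  obtain ⟨s, hs⟩ := IsAlgClosed.exists_eq_mul_self (algebraMap F K c)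
  obtain ⟨k, hk, hcx, htx, hdx, -⟩ := exists_roots h2 hdim hc x hx hs.symm
  obtain ⟨l, hl, hcy, hty, hdy, -⟩ := exists_roots h2 hdim hc y hy hs.symm
  have hs0 : s ≠ 0 := by
    rintro rfl
    rw [mul_zero, map_eq_zero] at hs
    rw [hs, zero_pow (by norm_num)] at hc
    exact zero_ne_one hc
  have h2K : (2 : K) ≠ 0 := by simpa using cast_K (r := 2) (by simpa using h2)
  rw [ht] at htx
  rw [hd] at hdx
  have e1 : (k : K) = l := mul_left_cancel₀ (mul_ne_zero h2K hs0) (by linear_combination htx - hty)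
  have e2 : (-1 : K) ^ k = (-1) ^ l := mul_right_cancel₀ (pow_ne_zero 4 hs0) (hdx.symm.trans hdy)
  have hkl : k = l := by
    have h4 : (4 : K) ≠ 0 := by rw [show (4 : K) = 2 * 2 by norm_num]; exact mul_ne_zero h2K h2K
    have h1 : (-1 : K) ≠ 1 := fun e => h2K (by linear_combination -e)
    have hm : k % 2 = l % 2 := by
      rw [neg_one_pow_eq_pow_mod_two, neg_one_pow_eq_pow_mod_two (n := l)] at e2
      rcases Nat.mod_two_eq_zero_or_one k with h | h <;> rcases Nat.mod_two_eq_zero_or_one l with h' | h' <;>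
        rw [h, h'] at e2 <;> simp only [pow_zero, pow_one] at e2
      · omega
      · exact absurd e2.symm h1
      · exact absurd e2 h1
      · omega
    interval_cases k <;> interval_cases l
    all_goals try omega
    all_goals push_cast at e1
    all_goals first
      | exact absurd (show (2 : K) = 0 by linear_combination e1) h2K
      | exact absurd (show (2 : K) = 0 by linear_combination -e1) h2K
      | exact absurd (show (4 : K) = 0 by linear_combination e1) h4
      | exact absurd (show (4 : K) = 0 by linear_combination -e1) h4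
  exact charpoly_eq_of_map (by rw [hcx, hcy, hkl])

/-- The traces of involutions. -/
theorem invol_trace (h2 : (2 : F) ≠ 0) (hdim : Fintype.card ι = 4) {x : G4} (hx : (x : M4) * x = (1 : F) • 1)
    (hns : ¬ Sc x) : ((x : M4).det = 1 ∧ (x : M4).trace = 0) ∨
      ((x : M4).det = -1 ∧ ((x : M4).trace = 2 ∨ (x : M4).trace = -2)) := by
  obtain ⟨k, hk, -, ht, hd, hsc⟩ := exists_roots (s := (1 : K)) h2 hdim (one_pow 4) x hx (by rw [map_one, one_mul])
  have i1 := (algebraMap F K).injective
  interval_cases k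
  · exact absurd (hsc (Or.inl rfl)) hns
  · exact Or.inr ⟨i1 (by rw [hd]; simp), Or.inl (i1 (by rw [ht, map_ofNat]; norm_num))⟩
  · exact Or.inl ⟨i1 (by rw [hd]; simp), i1 (by rw [ht, map_zero]; norm_num)⟩
  · exact Or.inr ⟨i1 (by rw [hd]; norm_num), Or.inr (i1 (by rw [ht, map_neg, map_ofNat]; norm_num))⟩
  · exact absurd (hsc (Or.inr rfl)) hns

/-- A square root of a nonsquare has determinant the square of the scalar. -/
theorem det_of_nonsquare (h2 : (2 : F) ≠ 0) (hdim : Fintype.card ι = 4) {c : F} (hc : c ^ 4 = 1) {x : G4}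
    (hx : (x : M4) * x = c • 1) (hsq : ¬ IsSquare c) : (x : M4).det = c * c := by
  obtain ⟨s, hs⟩ := IsAlgClosed.exists_eq_mul_self (algebraMap F K c)
  obtain ⟨k, hk, -, ht, hd, -⟩ := exists_roots h2 hdim hc x hx hs.symm
  have h2K : (2 : K) ≠ 0 := by simpa using cast_K (r := 2) (by simpa using h2)
  have h4 : (4 : K) - 2 * k = 0 := by
    by_contra h
    refine hsq ?_
    have he : s = algebraMap F K ((x : M4).trace / ((4 : F) - 2 * k)) := by
      rw [map_div₀, ht, map_sub, map_mul, map_natCast, map_ofNat, map_ofNat, mul_comm, mul_div_assoc,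
        div_self h, mul_one]
    exact ⟨_, (algebraMap F K).injective (by rw [map_mul, ← he, hs])⟩
  have hk2 : (-1 : K) ^ k = 1 := by
    have h1 : (k : K) = 2 := mul_left_cancel₀ h2K (by linear_combination -h4)
    interval_cases k <;> norm_num at h1 ⊢
    all_goals exfalso
    all_goals first | exact h2K (by linear_combination h1) | exact h2K (by linear_combination -h1) | exact one_ne_zero (α := K) (by linear_combination h1) | exact one_ne_zero (α := K) (by linear_combination -h1)
  refine (algebraMap F K).injective ?_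
  rw [hd, hk2, map_mul, one_mul, hs]; ring

/-- Order three: trace fixed by inversion. -/
theorem charpoly_three (hdim : Fintype.card ι = 4) (hp : 5 ≤ p) {x : G4} (hx : x ^ 3 = 1)
    (ht : ((x⁻¹ : G4) : M4).trace = (x : M4).trace) (hns : ¬ Sc x) :
    ((x : M4).trace = 1 ∨ (x : M4).trace = -2) ∧
      ∀ {y : G4}, y ^ 3 = 1 → ((y⁻¹ : G4) : M4).trace = (y : M4).trace → ¬ Sc y →
        (x : M4).trace = (y : M4).trace → (x : M4).charpoly = (y : M4).charpoly := by
  have h3 : (3 : F) ≠ 0 := fun h => by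
    have := (CharP.cast_eq_zero_iff F p 3).1 (by simpa using h)
    have := Nat.le_of_dvd (by norm_num) this
    omega
  obtain ⟨ω, hω⟩ := exists_primitive (F := F) (r := 3) (by simpa using h3)
  have h3K : ((3 : ℕ) : K) ≠ 0 := cast_K (by simpa using h3)
  haveI : CharP K p := charP_of_injective_algebraMap (algebraMap F K).injective p
  have e3 : ω ^ 3 = 1 := hω.pow_eq_one
  have hne : ω - ω ^ 2 ≠ 0 := fun h => by
    have h1 : ω ^ 1 = ω ^ 2 := by rw [pow_one]; exact sub_eq_zero.1 h
    exact absurd (hω.pow_inj (by norm_num) (by norm_num) h1) (by norm_num)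
  have hsum : 1 + ω + ω ^ 2 = 0 := by
    have h := hω.geom_sum_eq_zero (by norm_num)
    simpa [Finset.sum_range_succ] using h
  have key : ∀ y : G4, y ^ 3 = 1 → ((y⁻¹ : G4) : M4).trace = (y : M4).trace → ¬ Sc y →
      ∃ b : ℕ, (b = 1 ∨ b = 2) ∧ algebraMap F K (y : M4).trace = (4 : K) - 3 * (b : K) ∧
        (y : M4).charpoly.map (algebraMap F K) = (X - C 1) ^ (4 - 2 * b) * (X - C ω) ^ b * (X - C (ω ^ 2)) ^ b := by
    intro y hy hyt hys
    obtain ⟨n, hn, hc, htr, -, hti, hsc⟩ := exists_counts K hdim y hω h3K hy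
    rw [Fin.sum_univ_three] at hn htr hti
    rw [Fin.prod_univ_three] at hc
    simp only [Fin.val_zero, Fin.val_one, Fin.val_two, pow_zero, pow_one, inv_one, mul_one] at hn htr hti hc
    rw [hyt, htr] at hti
    have i1 : ω⁻¹ = ω ^ 2 := inv_eq_of_mul_eq_one_right (by rw [← pow_succ', e3])
    have i2 : (ω ^ 2)⁻¹ = ω := inv_eq_of_mul_eq_one_right (by rw [← pow_succ, e3])
    rw [i1, i2] at hti
    have h12 : n 1 = n 2 := eq_of_cast_eq (F := K) (p := p) (by omega) (by omega)
      (sub_eq_zero.1 ((mul_eq_zero.1 (show ((n 1 : K) - n 2) * (ω - ω ^ 2) = 0 by linear_combination hti)).resolve_right hne))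
    refine ⟨n 2, ?_, ?_, ?_⟩
    · rcases Nat.eq_zero_or_pos (n 2) with h | h
      · exact absurd (hsc 0 (by omega)) hys
      · omega
    · rw [htr, h12]
      have h0 : ((n 0 : ℕ) : K) = 4 - 2 * (n 2 : K) := by
        rw [← h12] at hn ⊢
        have := congrArg (Nat.cast : ℕ → K) hn
        push_cast at this
        rw [h12] at this ⊢
        linear_combination this
      rw [h0]
      linear_combination (n 2 : K) * hsum
    · rw [hc, h12, show 4 - 2 * n 2 = n 0 by omega]
  obtain ⟨b, hb, htb, hcb⟩ := key x hx ht hns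
  refine ⟨?_, fun {y} hy hyt hys hxy => ?_⟩
  · rcases hb with rfl | rfl
    · exact Or.inl ((algebraMap F K).injective (by rw [htb, map_one]; norm_num))
    · exact Or.inr ((algebraMap F K).injective (by rw [htb, map_neg, map_ofNat]; norm_num))
  · obtain ⟨b', hb', htb', hcb'⟩ := key y hy hyt hys
    rw [hxy, htb'] at htb
    have h3K' : (3 : K) ≠ 0 := by simpa using h3K
    have e : (b' : K) = b := mul_left_cancel₀ h3K' (by linear_combination -htb)
    have : b' = b := eq_of_cast_eq (F := K) (p := p) (by omega) (by omega) e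
    exact charpoly_eq_of_map (by rw [hcb, hcb', this])

/-- Order five over a field of `p` or `p ^ 2` elements, `p` of order four modulo five. -/
theorem charpoly_five (hdim : Fintype.card ι = 4) (hp : p % 5 = 2 ∨ p % 5 = 3) (hp2 : p ≠ 2)
    (hfix : ∀ s : F, s ^ p ^ 2 = s) {x y : G4} (hx : x ^ 5 = 1) (hy : y ^ 5 = 1)
    (htx : (x : M4).trace ^ p = (x : M4).trace ∨ (x : M4).trace ^ p = ((x⁻¹ : G4) : M4).trace)
    (hty : (y : M4).trace ^ p = (y : M4).trace ∨ (y : M4).trace ^ p = ((y⁻¹ : G4) : M4).trace)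
    (hxs : ¬ Sc x) (hys : ¬ Sc y) : (x : M4).charpoly = (y : M4).charpoly := by
  classical
  have hpp : p.Prime := Fact.out
  have hp3 : 3 ≤ p := by have := hpp.two_le; omega
  have h5 : ((5 : ℕ) : F) ≠ 0 := fun h => by
    have h5p := (Nat.prime_dvd_prime_iff_eq hpp (by norm_num)).1 ((CharP.cast_eq_zero_iff F p 5).1 h)
    omega
  obtain ⟨ω, hω⟩ := exists_primitive (F := F) (r := 5) h5
  haveI : CharP K p := charP_of_injective_algebraMap (algebraMap F K).injective p
  have e5 : ω ^ 5 = 1 := hω.pow_eq_one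
  have hmod : ∀ k : ℕ, ω ^ k = ω ^ (k % 5) := fun k => by
    conv_lhs => rw [← Nat.div_add_mod k 5, pow_add, pow_mul, e5, one_pow, one_mul]
  have hsum : 1 + ω + ω ^ 2 + ω ^ 3 + ω ^ 4 = 0 := by
    simpa [Finset.sum_range_succ] using hω.geom_sum_eq_zero (by norm_num)
  suffices key : ∀ z : G4, z ^ 5 = 1 →
      ((z : M4).trace ^ p = (z : M4).trace ∨ (z : M4).trace ^ p = ((z⁻¹ : G4) : M4).trace) → ¬ Sc z →
      (z : M4).charpoly.map (algebraMap F K) =
        (X - C ω) * (X - C (ω ^ 2)) * (X - C (ω ^ 3)) * (X - C (ω ^ 4)) from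
    charpoly_eq_of_map ((key x hx htx hxs).trans (key y hy hty hys).symm)
  intro z hz htz hzs
  obtain ⟨n, hn, hc, htr, -, hti, hsc⟩ := exists_counts K hdim z hω (cast_K h5) hz
  have hfr : ((z : M4).charpoly.map (algebraMap F K)).map (iterateFrobenius K p 2) =
      (z : M4).charpoly.map (algebraMap F K) := by
    rw [Polynomial.map_map]
    refine congrArg (fun f => Polynomial.map f (z : M4).charpoly) (RingHom.ext fun s => ?_)
    rw [RingHom.comp_apply, iterateFrobenius_def, ← map_pow, hfix]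
  rw [hc, Polynomial.map_prod] at hfr
  rw [Fin.sum_univ_five] at hn htr hti
  rw [Fin.prod_univ_five] at hc
  simp only [Fin.prod_univ_five, Polynomial.map_pow, Polynomial.map_sub, map_X, map_C, iterateFrobenius_def,
    Fin.val_zero, Fin.val_one, Fin.val_two, Fin.coe_ofNat_eq_mod, Nat.reduceMod, pow_zero, pow_one, one_pow, inv_one,
    mul_one, ← pow_mul, zero_mul, one_mul] at hn htr hti hc hfr
  have hq : p ^ 2 % 5 = 4 := by rw [Nat.pow_mod]; rcases hp with h | h <;> rw [h]
  have q1 : ω ^ p ^ 2 = ω ^ 4 := by rw [hmod, hq]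
  have q2 : ω ^ (2 * p ^ 2) = ω ^ 3 := by rw [hmod, show 2 * p ^ 2 % 5 = 3 by rw [Nat.mul_mod, hq]]
  have q3 : ω ^ (3 * p ^ 2) = ω ^ 2 := by rw [hmod, show 3 * p ^ 2 % 5 = 2 by rw [Nat.mul_mod, hq]]
  have q4 : ω ^ (4 * p ^ 2) = ω := by rw [hmod, show 4 * p ^ 2 % 5 = 1 by rw [Nat.mul_mod, hq], pow_one]
  rw [q1, q2, q3, q4] at hfr
  -- multiplicities of the roots
  have hmult : n 1 = n 4 ∧ n 2 = n 3 := by
    have h := congrArg Polynomial.roots hfr
    have hne : ∀ a b c d e : ℕ, ∀ f g i j : K,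
        ((X - C 1) ^ a * (X - C f) ^ b * (X - C g) ^ c * (X - C i) ^ d * (X - C j) ^ e).roots =
        a • {1} + b • {f} + c • {g} + d • {i} + e • ({j} : Multiset K) := fun a b c d e f g i j => by
      have hm := fun (t : K) (k : ℕ) => (monic_X_sub_C t).pow k
      rw [roots_mul (((((hm 1 a).mul (hm f b)).mul (hm g c)).mul (hm i d)).mul (hm j e)).ne_zero,
        roots_mul ((((hm 1 a).mul (hm f b)).mul (hm g c)).mul (hm i d)).ne_zero,
        roots_mul (((hm 1 a).mul (hm f b)).mul (hm g c)).ne_zero, roots_mul ((hm 1 a).mul (hm f b)).ne_zero,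
        roots_pow, roots_pow, roots_pow, roots_pow, roots_pow, roots_X_sub_C, roots_X_sub_C, roots_X_sub_C,
        roots_X_sub_C, roots_X_sub_C]
    rw [hne, hne] at h
    have ne : ∀ {i j : ℕ}, i < 5 → j < 5 → i ≠ j → ω ^ i ≠ ω ^ j := fun hi hj hij e => hij (hω.pow_inj hi hj e)
    have z1 : (1 : K) ≠ ω := by simpa using ne (i := 0) (j := 1) (by norm_num) (by norm_num) (by norm_num)
    have z2 : (1 : K) ≠ ω ^ 2 := by simpa using ne (i := 0) (j := 2) (by norm_num) (by norm_num) (by norm_num)
    have o2 : ω ≠ ω ^ 2 := by simpa using ne (i := 1) (j := 2) (by norm_num) (by norm_num) (by norm_num)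
    have o3 : ω ≠ ω ^ 3 := by simpa using ne (i := 1) (j := 3) (by norm_num) (by norm_num) (by norm_num)
    have o4 : ω ≠ ω ^ 4 := by simpa using ne (i := 1) (j := 4) (by norm_num) (by norm_num) (by norm_num)
    have t3 := ne (i := 2) (j := 3) (by norm_num) (by norm_num) (by norm_num)
    have t4 := ne (i := 2) (j := 4) (by norm_num) (by norm_num) (by norm_num)
    have c1 := congrArg (Multiset.count ω) h
    have c2 := congrArg (Multiset.count (ω ^ 2)) h
    simp [Multiset.count_singleton, z1.symm, z2.symm, o2, o2.symm, o3, o4, t3, t4] at c1 c2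
    omega
  obtain ⟨h14, h23⟩ := hmult
  have i1 : ω⁻¹ = ω ^ 4 := inv_eq_of_mul_eq_one_right (by rw [← pow_succ', e5])
  have i2 : (ω ^ 2)⁻¹ = ω ^ 3 := inv_eq_of_mul_eq_one_right (by rw [← pow_add, e5])
  have i3 : (ω ^ 3)⁻¹ = ω ^ 2 := inv_eq_of_mul_eq_one_right (by rw [← pow_add, e5])
  have i4 : (ω ^ 4)⁻¹ = ω := inv_eq_of_mul_eq_one_right (by rw [← pow_succ, e5])
  rw [i1, i2, i3, i4, ← h14, ← h23] at hti
  rw [← h14, ← h23] at htr
  have heq : algebraMap F K ((z⁻¹ : G4) : M4).trace = algebraMap F K (z : M4).trace := by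
    rw [hti, htr]; ring
  have htp : algebraMap F K (z : M4).trace ^ p = algebraMap F K (z : M4).trace := by
    rcases htz with e | e <;> rw [← map_pow, e]
    exact heq
  have hfp : ∀ k : ℕ, (k : K) ^ p = k := fun k => map_natCast (frobenius K p) k
  rw [htr, add_pow_char, add_pow_char, add_pow_char, add_pow_char, mul_pow, mul_pow, mul_pow, mul_pow, hfp, hfp, hfp,
    ← pow_mul, ← pow_mul, ← pow_mul, hmod p, hmod (2 * p), hmod (3 * p), hmod (4 * p), Nat.mul_mod 2, Nat.mul_mod 3,
    Nat.mul_mod 4] at htp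
  set T := ω + ω ^ 4
  set T' := ω ^ 2 + ω ^ 3
  have hTT : T - T' ≠ 0 := by
    intro h
    have hs : T + T' = -1 := by linear_combination hsum
    have hp' : T * T' = -1 := by linear_combination hsum + (ω + ω ^ 2) * e5
    refine cast_K h5 ?_
    push_cast
    linear_combination (T - T') * h - (T + T' - 1) * hs + (4 : K) * hp'
  have h12 : n 1 = n 2 := by
    refine eq_of_cast_eq (F := K) (p := p) (by omega) (by omega) (sub_eq_zero.1 ?_)
    refine (mul_eq_zero.1 (?_ : ((n 1 : K) - n 2) * (T - T') = 0)).resolve_right hTT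
    rcases hp with h | h <;> rw [h] at htp <;> norm_num at htp
    · linear_combination -htp
    · linear_combination -htp
  rw [← h14, ← h23, ← h12] at hc
  have hn1 : n 1 = 1 := by
    rcases Nat.eq_zero_or_pos (n 1) with h | h
    · exact absurd (hsc 0 (by omega)) hzs
    · omega
  rw [hc, hn1, show n 0 = 0 by omega, pow_zero, one_mul, pow_one, pow_one, pow_one, pow_one]

end Cfsg.Agent.Classical.CliffordFour
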