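import Cfsg.Agent.Lib.Classical.CliffordFourPairs

/-!
Two-groups of symplectic type in dimension 4: elements of order two, three and five of the normaliser.
-/

set_option autoImplicit false
set_option linter.style.haveILetI false
set_option linter.unusedSectionVars false

namespace Cfsg.Agent.Classical.CliffordFour

open Matrix

variable {F : Type*} [Field F] {ι : Type} [Fintype ι] [DecidableEq ι]

local notation "G4" => GL ι F
local notation "M4" => Matrix ι ι F
local notation "N" => fun R => Subgroup.normalizer ((R : Subgroup (GL ι F)) : Set (GL ι F))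

/-- A semilinear anti-automorphism of the matrix algebra. -/
structure Adj (F : Type*) [Field F] (ι : Type) [Fintype ι] [DecidableEq ι] where
  σ : F →+* F
  τ : Matrix ι ι F → Matrix ι ι F
  add : ∀ M M', τ (M + M') = τ M + τ M'
  mul : ∀ M M', τ (M * M') = τ M' * τ M
  smul : ∀ (s : F) (M), τ (s • M) = σ s • τ M
  one : τ 1 = 1
  det : ∀ M, (τ M).det = σ M.det

namespace Adj

variable (A : Adj F ι)

/-- The isometries. -/
def Iso (g : GL ι F) : Prop := A.τ (g : Matrix ι ι F) * (g : Matrix ι ι F) = 1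

theorem neg (M : M4) : A.τ (-M) = -A.τ M := by
  rw [← neg_one_smul F M, A.smul, map_neg, map_one, neg_one_smul]

theorem sub (M M' : M4) : A.τ (M - M') = A.τ M - A.τ M' := by
  rw [sub_eq_add_neg, A.add, A.neg, sub_eq_add_neg]

theorem iso_mul {g h : G4} (hg : A.Iso g) (hh : A.Iso h) : A.Iso (g * h) := by
  rw [Iso, Units.val_mul, A.mul, mul_assoc, ← mul_assoc (A.τ (g : M4)), hg, one_mul, hh]

theorem τ_eq_inv {g : G4} (hg : A.Iso g) : A.τ (g : M4) = ((g⁻¹ : G4) : M4) :=
  calc A.τ (g : M4) = A.τ (g : M4) * ((g : M4) * ((g⁻¹ : G4) : M4)) := by rw [Units.mul_inv, mul_one]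
    _ = _ := by rw [← mul_assoc, hg, one_mul]

theorem τ_of_sq_one {g : G4} (hg : A.Iso g) (h : g * g = 1) : A.τ (g : M4) = (g : M4) := by
  rw [A.τ_eq_inv hg, inv_eq_of_mul_eq_one_right h]

theorem τ_of_sq_neg {g : G4} (hg : A.Iso g) (h : g * g = -1) : A.τ (g : M4) = -(g : M4) := by
  rw [A.τ_eq_inv hg, inv_eq_of_mul_eq_one_right (show g * -g = 1 by rw [mul_neg, h, neg_neg]), Units.val_neg]

end Adj

/-- Scalar units. -/
def scal (s : Fˣ) : GL ι F := Units.map (algebraMap F (Matrix ι ι F)).toMonoidHom s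

theorem coe_scal (s : Fˣ) : ((scal s : GL ι F) : M4) = (s : F) • (1 : M4) := Algebra.algebraMap_eq_smul_one _

theorem scal_sc (s : Fˣ) : Sc (scal s : GL ι F) := ⟨s, coe_scal s⟩

variable {R : Subgroup (GL ι F)}

theorem mem_normalizer (S : Sym R) {x : G4} (h : ∀ g ∈ R, ∃ g' ∈ R, x * g = g' * x) : x ∈ N R := by
  haveI := S.fin
  have hle : R.map (MulAut.conj x).toMonoidHom ≤ R := by
    rintro _ ⟨g, hg, rfl⟩
    obtain ⟨g', hg', e⟩ := h g hg
    simpa [e] using hg'
  have heq : R.map (MulAut.conj x).toMonoidHom = R := by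
    refine Subgroup.eq_of_le_of_card_ge hle ?_
    rw [Subgroup.card_map_of_injective (MulAut.conj x).injective]
  rw [Subgroup.mem_normalizer_iff]
  refine fun g => ⟨fun hg => hle ⟨g, hg, rfl⟩, fun hg => ?_⟩
  rw [← heq] at hg
  obtain ⟨g', hg', e⟩ := hg
  exact (MulAut.conj x).injective e ▸ hg'

theorem sc_mem_normalizer {x : G4} (hx : Sc x) : x ∈ N R := by
  rw [Subgroup.mem_normalizer_iff]
  intro g
  rw [hx.comm g, mul_inv_cancel_right]

/-- The difference of two anticommuting square roots of one. -/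
def diff (h2 : (2 : F) ≠ 0) (e e' : GL ι F) (h1 : e * e = 1) (h1' : e' * e' = 1) (h : e * e' = -(e' * e)) : GL ι F :=
  have key : ((e : M4) - e') * ((e : M4) - e') = (2 : F) • (1 : M4) := by
    have a1 := congrArg Units.val h1
    have a2 := congrArg Units.val h1'
    have a3 := congrArg Units.val h
    simp only [Units.val_mul, Units.val_one, Units.val_neg] at a1 a2 a3
    rw [sub_mul, mul_sub, mul_sub, a1, a2, a3, two_smul]; abel
  { val := (e : M4) - e'
    inv := (2 : F)⁻¹ • ((e : M4) - e')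
    val_inv := by rw [Matrix.mul_smul, key, smul_smul, inv_mul_cancel₀ h2, one_smul]
    inv_val := by rw [Matrix.smul_mul, key, smul_smul, inv_mul_cancel₀ h2, one_smul] }

/-- One minus a square root of minus one. -/
def oneSub (h2 : (2 : F) ≠ 0) (a : GL ι F) (ha : a * a = -1) : GL ι F :=
  have key : (a : M4) * a = -1 := by
    have a1 := congrArg Units.val ha
    simpa using a1
  { val := 1 - (a : M4)
    inv := (2 : F)⁻¹ • (1 + (a : M4))
    val_inv := by
      rw [Matrix.mul_smul, sub_mul, one_mul, mul_add, mul_one, key,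
        show (1 : M4) + a - (a + -1) = (2 : F) • (1 : M4) by rw [two_smul]; abel, smul_smul, inv_mul_cancel₀ h2, one_smul]
    inv_val := by
      rw [Matrix.smul_mul, add_mul, one_mul, mul_sub, mul_one, key,
        show (1 : M4) - a + (a - -1) = (2 : F) • (1 : M4) by rw [two_smul]; abel, smul_smul, inv_mul_cancel₀ h2, one_smul] }

theorem czKey {a b : M4} (ha : a * a = 1) (hb : b * b = 1) (h : b * a = a * b) :
    (1 + a + b - a * b) * (1 + a + b - a * b) = (4 : F) • (1 : M4) := by
  have e1 : a * (a * b) = b := by rw [← mul_assoc, ha, one_mul]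
  have e2 : b * (a * b) = a := by rw [← mul_assoc, h, mul_assoc, hb, mul_one]
  have e3 : a * b * a = b := by rw [mul_assoc, h, e1]
  have e4 : a * b * b = a := by rw [mul_assoc, hb, mul_one]
  have e5 : a * b * (a * b) = 1 := by rw [← mul_assoc, e3, hb]
  simp only [mul_add, add_mul, mul_sub, sub_mul, one_mul, mul_one, ha, hb, h, e1, e2, e3, e4, e5]
  module

/-- The controlled sign change of two commuting involutions. -/
def cz (h2 : (2 : F) ≠ 0) (a b : GL ι F) (ha : a * a = 1) (hb : b * b = 1) (h : b * a = a * b) : GL ι F :=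
  have key : ((2 : F)⁻¹ • (1 + (a : M4) + b - a * b)) * ((2 : F)⁻¹ • (1 + (a : M4) + b - a * b)) = 1 := by
    have a1 := congrArg Units.val ha
    have a2 := congrArg Units.val hb
    have a3 := congrArg Units.val h
    simp only [Units.val_mul, Units.val_one] at a1 a2 a3
    rw [Matrix.smul_mul, Matrix.mul_smul, smul_smul, czKey a1 a2 a3, smul_smul,
      show (2 : F)⁻¹ * 2⁻¹ * 4 = 1 by field_simp; ring, one_smul]
  { val := (2 : F)⁻¹ • (1 + (a : M4) + b - a * b)
    inv := (2 : F)⁻¹ • (1 + (a : M4) + b - a * b)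
    val_inv := key
    inv_val := key }

variable (h2 : (2 : F) ≠ 0)

theorem coe_diff {e e' : G4} (h1 : e * e = 1) (h1' : e' * e' = 1) (h : e * e' = -(e' * e)) :
    ((diff h2 e e' h1 h1' h : G4) : M4) = (e : M4) - e' := rfl

theorem coe_oneSub {a : G4} (ha : a * a = -1) : ((oneSub h2 a ha : G4) : M4) = 1 - (a : M4) := rfl

theorem coe_cz {a b : G4} (ha : a * a = 1) (hb : b * b = 1) (h : b * a = a * b) :
    ((cz h2 a b ha hb h : G4) : M4) = (2 : F)⁻¹ • (1 + (a : M4) + b - a * b) := rfl

theorem oneSub_mem (S : Sym R) {a : G4} (haR : a ∈ R) (ha : a * a = -1) : oneSub h2 a ha ∈ N R := by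
  refine mem_normalizer S fun g hg => ?_
  rcases S.comm a haR g hg with e | e
  · refine ⟨g, hg, Units.ext ?_⟩
    rw [Units.val_mul, Units.val_mul, coe_oneSub, sub_mul, one_mul, mul_sub, mul_one, ← Units.val_mul, e,
      Units.val_mul]
  · refine ⟨g * a, mul_mem hg haR, Units.ext ?_⟩
    have e' : (a : M4) * g = -((g : M4) * a) := by
      have := congrArg Units.val e; simpa using this
    have aa : (a : M4) * a = -1 := by
      have := congrArg Units.val ha; simpa using this
    rw [Units.val_mul, Units.val_mul, coe_oneSub, sub_mul, one_mul, e', Units.val_mul, mul_sub, mul_one,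
      mul_assoc (g : M4), aa, mul_neg, mul_one]
    abel

theorem diff_mem (S : Sym R) {e e' : G4} (he : e ∈ R) (he' : e' ∈ R) (h1 : e * e = 1) (h1' : e' * e' = 1)
    (h : e * e' = -(e' * e)) : diff h2 e e' h1 h1' h ∈ N R := by
  refine mem_normalizer S fun g hg => ?_
  have a1 : (e : M4) * e = 1 := by simpa using congrArg Units.val h1
  have a2 : (e' : M4) * e' = 1 := by simpa using congrArg Units.val h1'
  have a3 : (e : M4) * e' = -((e' : M4) * e) := by simpa using congrArg Units.val h
  have w2 : (g : M4) * e * e' * e' = g * e := by rw [mul_assoc _ (e' : M4), a2, mul_one]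
  have w1 : (g : M4) * e * e' * e = -((g : M4) * e') := by
    rw [mul_assoc (g : M4), a3, mul_neg, neg_mul, mul_assoc (g : M4), mul_assoc (e' : M4), a1, mul_one]
  rcases S.comm e he g hg with k | k <;> rcases S.comm e' he' g hg with k' | k' <;>
    (have k0 : _ := congrArg Units.val k; have k0' : _ := congrArg Units.val k';
      simp only [Units.val_mul, Units.val_neg] at k0 k0')
  · refine ⟨g, hg, Units.ext ?_⟩
    rw [Units.val_mul, Units.val_mul, coe_diff, sub_mul, k0, k0', mul_sub]
  · refine ⟨-(g * e * e'), S.neg_mem (mul_mem (mul_mem hg he) he'), Units.ext ?_⟩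
    rw [Units.val_mul, Units.val_mul, coe_diff, sub_mul, k0, k0', Units.val_neg, Units.val_mul, Units.val_mul, neg_mul,
      mul_sub, w1, w2]
    abel
  · refine ⟨g * e * e', mul_mem (mul_mem hg he) he', Units.ext ?_⟩
    rw [Units.val_mul, Units.val_mul, coe_diff, sub_mul, k0, k0', Units.val_mul, Units.val_mul, mul_sub, w1, w2]
    abel
  · refine ⟨-g, S.neg_mem hg, Units.ext ?_⟩
    rw [Units.val_mul, Units.val_mul, coe_diff, sub_mul, k0, k0', Units.val_neg, neg_mul, mul_sub]
    abel

theorem cz_mem (S : Sym R) {a b : G4} (haR : a ∈ R) (hbR : b ∈ R) (ha : a * a = 1) (hb : b * b = 1)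
    (h : b * a = a * b) : cz h2 a b ha hb h ∈ N R := by
  refine mem_normalizer S fun g hg => ?_
  have a1 : (a : M4) * a = 1 := by simpa using congrArg Units.val ha
  have a2 : (b : M4) * b = 1 := by simpa using congrArg Units.val hb
  have a3 : (b : M4) * a = a * b := by simpa using congrArg Units.val h
  have e1 : (a : M4) * (a * b) = b := by rw [← mul_assoc, a1, one_mul]
  have e2 : (b : M4) * (a * b) = a := by rw [← mul_assoc, a3, mul_assoc, a2, mul_one]
  have e3 : (a : M4) * b * a = b := by rw [mul_assoc, a3, e1]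
  have e4 : (a : M4) * b * b = a := by rw [mul_assoc, a2, mul_one]
  have e5 : (a : M4) * b * (a * b) = 1 := by rw [← mul_assoc, e3, a2]
  have habR : a * b ∈ R := mul_mem haR hbR
  rcases S.comm a haR g hg with k | k <;> rcases S.comm b hbR g hg with k' | k' <;>
    (have k0 : _ := congrArg Units.val k; have k0' : _ := congrArg Units.val k';
      simp only [Units.val_mul, Units.val_neg] at k0 k0';
      have k2 : (a : M4) * b * g = _ := mul_assoc (a : M4) b g;
      rw [k0'] at k2;
      simp only [← mul_assoc, mul_neg, neg_mul, neg_neg, k0] at k2)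
  · refine ⟨g, hg, Units.ext ?_⟩
    rw [Units.val_mul, Units.val_mul, coe_cz, Matrix.smul_mul, Matrix.mul_smul]
    simp only [add_mul, sub_mul, one_mul, k0, k0', k2]
    simp only [mul_add, mul_sub, mul_one, mul_assoc]
  · refine ⟨g * a, mul_mem hg haR, Units.ext ?_⟩
    rw [Units.val_mul, Units.val_mul, Units.val_mul, coe_cz, Matrix.smul_mul, Matrix.mul_smul]
    simp only [add_mul, sub_mul, one_mul, k0, k0', k2]
    simp only [mul_assoc, mul_add, mul_sub, mul_one, a1, a2, a3, e1, e2]
    module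
  · refine ⟨g * b, mul_mem hg hbR, Units.ext ?_⟩
    rw [Units.val_mul, Units.val_mul, Units.val_mul, coe_cz, Matrix.smul_mul, Matrix.mul_smul]
    simp only [add_mul, sub_mul, one_mul, k0, k0', k2]
    simp only [mul_assoc, mul_add, mul_sub, mul_one, a1, a2, a3, e1, e2]
    module
  · refine ⟨-(g * (a * b)), S.neg_mem (mul_mem hg habR), Units.ext ?_⟩
    rw [Units.val_mul, Units.val_mul, Units.val_neg, Units.val_mul, Units.val_mul, coe_cz, Matrix.smul_mul,
      Matrix.mul_smul]
    simp only [add_mul, sub_mul, one_mul, k0, k0', k2, neg_mul]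
    simp only [mul_assoc, mul_add, mul_sub, mul_one, a1, a2, a3, e1, e2]
    module

theorem cz_sq {a b : G4} (ha : a * a = 1) (hb : b * b = 1) (h : b * a = a * b) :
    cz h2 a b ha hb h * cz h2 a b ha hb h = 1 := Units.ext (cz h2 a b ha hb h).val_inv

theorem cz_trace (S : Sym R) {a b : G4} (haR : a ∈ R) (hbR : b ∈ R) (ha : a * a = 1) (hb : b * b = 1)
    (h : b * a = a * b) (hs : ¬ Sc a) (hs' : ¬ Sc b) (hs'' : ¬ Sc (a * b)) :
    ((cz h2 a b ha hb h : G4) : M4).trace = 2 := by
  rw [coe_cz, Matrix.trace_smul, Matrix.trace_sub, Matrix.trace_add, Matrix.trace_add, Matrix.trace_one, S.dim,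
    S.trace_zero' haR hs, S.trace_zero' hbR hs', ← Units.val_mul, S.trace_zero' (mul_mem haR hbR) hs'', smul_eq_mul]
  field_simp
  push_cast
  ring

theorem cz_iso (A : Adj F ι) {a b : G4} (ia : A.Iso a) (ib : A.Iso b) (ha : a * a = 1) (hb : b * b = 1)
    (h : b * a = a * b) : A.Iso (cz h2 a b ha hb h) := by
  have e : A.τ ((cz h2 a b ha hb h : G4) : M4) = ((cz h2 a b ha hb h : G4) : M4) := by
    rw [coe_cz, A.smul, A.sub, A.add, A.add, A.one, A.mul, A.τ_of_sq_one ia ha, A.τ_of_sq_one ib hb,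
      map_inv₀, map_ofNat, show (b : M4) * a = a * b by simpa using congrArg Units.val h]
  rw [Adj.Iso, e]
  exact (cz h2 a b ha hb h).val_inv

section Three

variable {a b : GL ι F} (ha : a * a = -1) (hb : b * b = -1)

/-- An element of order three permuting the three square roots of minus one of a quaternion pair. -/
def three (h2 : (2 : F) ≠ 0) (a b : GL ι F) (ha : a * a = -1) (hb : b * b = -1) : GL ι F :=
  scal (Units.mk0 (-(2 : F)⁻¹) (neg_ne_zero.2 (inv_ne_zero h2))) * (oneSub h2 a ha * oneSub h2 b hb)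

theorem coe_three : ((three h2 a b ha hb : G4) : M4) = (-(2 : F)⁻¹) • (1 - (a : M4) - b + a * b) := by
  rw [three, Units.val_mul, Units.val_mul, coe_scal, coe_oneSub, coe_oneSub, Units.val_mk0, Matrix.smul_mul, one_mul,
    sub_mul, one_mul, mul_sub, mul_one]
  congr 1
  abel

theorem three_mem (S : Sym R) (haR : a ∈ R) (hbR : b ∈ R) : three h2 a b ha hb ∈ N R :=
  mul_mem (sc_mem_normalizer (scal_sc _)) (mul_mem (oneSub_mem h2 S haR ha) (oneSub_mem h2 S hbR hb))

theorem three_rel (hab : a * b = -(b * a)) :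
    ((three h2 a b ha hb : G4) : M4) * (three h2 a b ha hb : G4) + (three h2 a b ha hb : G4) + 1 = 0 := by
  have aa : (a : M4) * a = -1 := by simpa using congrArg Units.val ha
  have bb : (b : M4) * b = -1 := by simpa using congrArg Units.val hb
  have ba : (b : M4) * a = -((a : M4) * b) := by
    rw [eq_neg_iff_add_eq_zero, add_comm, ← eq_neg_iff_add_eq_zero]
    simpa using congrArg Units.val hab
  have e1 : (a : M4) * (a * b) = -b := by rw [← mul_assoc, aa, neg_one_mul]
  have e2 : (b : M4) * (a * b) = a := by rw [← mul_assoc, ba, neg_mul, mul_assoc, bb, mul_neg, mul_one, neg_neg]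
  have e3 : (a : M4) * b * a = b := by rw [mul_assoc, ba, mul_neg, e1, neg_neg]
  have e4 : (a : M4) * b * b = -a := by rw [mul_assoc, bb, mul_neg, mul_one]
  have e5 : (a : M4) * b * (a * b) = -1 := by rw [← mul_assoc, e3, bb]
  rw [coe_three, Matrix.smul_mul, Matrix.mul_smul, smul_smul]
  set w : F := -(2 : F)⁻¹ with hw
  have hw2 : 2 * w = -1 := by rw [hw, mul_neg, mul_inv_cancel₀ h2]
  simp only [mul_add, add_mul, mul_sub, sub_mul, one_mul, mul_one, aa, bb, ba, e1, e2, e3, e4, e5]
  match_scalars <;> first | ring1 | linear_combination (2 * w + 1 : F) * hw2 | linear_combination (w : F) * hw2 | linear_combination (-w : F) * hw2 | linear_combination (-w + 1 : F) * hw2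

theorem three_pow (hab : a * b = -(b * a)) : three h2 a b ha hb ^ 3 = 1 := by
  refine Units.ext ?_
  rw [Units.val_pow_eq_pow_val, Units.val_one]
  have h := three_rel h2 ha hb hab
  set y := ((three h2 a b ha hb : G4) : M4)
  have e : y * (y * y + y + 1) - (y * y + y + 1) = y ^ 3 - 1 := by noncomm_ring
  rw [h, mul_zero, sub_zero] at e
  exact sub_eq_zero.1 e.symm

theorem three_det (S : Sym R) (hab : a * b = -(b * a)) : ((three h2 a b ha hb : G4) : M4).det = 1 := by
  have hflip : ∀ {u v : G4} (hu : u * u = -1), u * v = -(v * u) →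
      ((oneSub h2 u hu : G4) : M4).det * ((oneSub h2 u hu : G4) : M4).det = 16 := by
    intro u v hu huv
    have vu : (v : M4) * u = -((u : M4) * v) := by
      rw [eq_neg_iff_add_eq_zero, add_comm, ← eq_neg_iff_add_eq_zero]
      simpa using congrArg Units.val huv
    have e : (v : M4) * (1 - (u : M4)) = (1 + (u : M4)) * v := by rw [mul_sub, mul_one, vu, add_mul, one_mul]; abel
    have e2 := congrArg Matrix.det e
    rw [Matrix.det_mul, Matrix.det_mul, mul_comm] at e2
    have e3 : (1 - (u : M4)).det = (1 + (u : M4)).det := mul_right_cancel₀ v.det_ne_zero e2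
    have uu : (u : M4) * u = -1 := by simpa using congrArg Units.val hu
    rw [coe_oneSub]
    conv_lhs => arg 2; rw [e3]
    rw [← Matrix.det_mul, sub_mul, one_mul, mul_add, mul_one, uu,
      show (1 : M4) + u - (u + -1) = (2 : F) • (1 : M4) by rw [two_smul]; abel, Matrix.det_smul, Matrix.det_one, S.dim]
    norm_num
  set δ := ((three h2 a b ha hb : G4) : M4).det
  have h3 : δ ^ 3 = 1 := by
    rw [← Matrix.det_pow, ← Units.val_pow_eq_pow_val, three_pow h2 ha hb hab, Units.val_one, Matrix.det_one]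
  have h22 : δ ^ 2 = 1 := by
    show ((three h2 a b ha hb : G4) : M4).det ^ 2 = 1
    rw [three, Units.val_mul, Units.val_mul, Matrix.det_mul, Matrix.det_mul, coe_scal, Matrix.det_smul, Matrix.det_one,
      S.dim, Units.val_mk0]
    have f1 := hflip ha hab
    have f2 := hflip hb (show b * a = -(a * b) by rw [hab, neg_neg])
    generalize ((oneSub h2 a ha : G4) : M4).det = A at f1 ⊢
    generalize ((oneSub h2 b hb : G4) : M4).det = B at f2 ⊢
    field_simp
    linear_combination (B * B) * f1 + (16 : F) * f2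
  calc δ = δ ^ 3 := by rw [pow_succ, h22, one_mul]
    _ = 1 := h3

theorem three_iso (A : Adj F ι) (ia : A.Iso a) (ib : A.Iso b) : A.Iso (three h2 a b ha hb) := by
  have aa : (a : M4) * a = -1 := by simpa using congrArg Units.val ha
  have bb : (b : M4) * b = -1 := by simpa using congrArg Units.val hb
  rw [Adj.Iso, three, Units.val_mul, Units.val_mul, coe_scal, coe_oneSub, coe_oneSub, Units.val_mk0, A.mul, A.mul,
    A.smul, A.one, A.sub, A.sub, A.one, A.τ_of_sq_neg ia ha, A.τ_of_sq_neg ib hb, map_neg, map_inv₀, map_ofNat]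
  simp only [Matrix.smul_mul, Matrix.mul_smul, one_mul, mul_one, sub_neg_eq_add, smul_smul]
  have f1 : ((1 : M4) + a) * (1 - a) = (2 : F) • 1 := by
    rw [add_mul, one_mul, mul_sub, mul_one, aa, two_smul]; abel
  have f2 : ((1 : M4) + b) * (1 - b) = (2 : F) • 1 := by
    rw [add_mul, one_mul, mul_sub, mul_one, bb, two_smul]; abel
  rw [mul_assoc ((1 : M4) + b), ← mul_assoc ((1 : M4) + a), f1, Matrix.smul_mul, one_mul, Matrix.mul_smul, f2,
    smul_smul, smul_smul, show -(2 : F)⁻¹ * -(2 : F)⁻¹ * 2 * 2 = 1 by field_simp, one_smul]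

theorem three_trace (S : Sym R) (haR : a ∈ R) (hbR : b ∈ R) (hab : a * b = -(b * a)) :
    ((three h2 a b ha hb : G4) : M4).trace = -2 := by
  have n1 := S.trace_zero' haR (S.not_sc_of_anti hab)
  have n2 := S.trace_zero' hbR (S.not_sc_of_anti (show b * a = -(a * b) by rw [hab, neg_neg]))
  have n3 := S.trace_zero (g := a * b) (h := a)
    (by rw [mul_assoc, show b * a = -(a * b) by rw [hab, neg_neg], mul_neg])
  rw [Units.val_mul] at n3
  rw [coe_three, Matrix.trace_smul, Matrix.trace_add, Matrix.trace_sub, Matrix.trace_sub, Matrix.trace_one, S.dim, n1,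
    n2, n3, smul_eq_mul]
  field_simp
  push_cast
  ring

/-- The product of the elements for two commuting pairs has trace one. -/
theorem three_mul_three_trace (S : Sym R) {c d : GL ι F} (hc : c * c = -1) (hd : d * d = -1) (haR : a ∈ R)
    (hbR : b ∈ R) (hcR : c ∈ R) (hdR : d ∈ R) (hab : a * b = -(b * a)) (hcd : c * d = -(d * c))
    (hac : a * c = c * a) (had : a * d = d * a) (hbc : b * c = c * b) (hbd : b * d = d * b) :
    ((three h2 a b ha hb * three h2 c d hc hd : G4) : M4).trace = 1 := by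
  have hba : b * a = -(a * b) := by rw [hab, neg_neg]
  have hdc : d * c = -(c * d) := by rw [hcd, neg_neg]
  have Z : ∀ X h Y : G4, X * h = -(h * X) → Y * h = h * Y → ((X : M4) * (Y : M4)).trace = 0 := fun X h Y e e' => by
    rw [← Units.val_mul]
    exact S.trace_zero (h := h) (by rw [mul_assoc, e', ← mul_assoc, e, neg_mul, mul_assoc])
  have ab_a : a * b * a = -(a * (a * b)) := by rw [mul_assoc, hba, mul_neg]
  have cd_c : c * d * c = -(c * (c * d)) := by rw [mul_assoc, hdc, mul_neg]
  have cd_b : Commute (c * d) b := (show Commute c b from hbc.symm).mul_left hbd.symm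
  have cd_a : Commute (c * d) a := (show Commute c a from hac.symm).mul_left had.symm
  have z1 := S.trace_zero' haR (S.not_sc_of_anti hab)
  have z2 := S.trace_zero' hbR (S.not_sc_of_anti hba)
  have z3 := S.trace_zero (g := a * b) ab_a
  have z4 := S.trace_zero' hcR (S.not_sc_of_anti hcd)
  have z5 := S.trace_zero' hdR (S.not_sc_of_anti hdc)
  have z6 := S.trace_zero (g := c * d) cd_c
  have y1 := Z a b c hab hbc.symm
  have y2 := Z a b d hab hbd.symm
  have y3 := Z a b (c * d) hab cd_b.eq
  have y4 := Z b a c hba hac.symm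
  have y5 := Z b a d hba had.symm
  have y6 := Z b a (c * d) hba cd_a.eq
  have y7 := Z (a * b) a c ab_a hac.symm
  have y8 := Z (a * b) a d ab_a had.symm
  have y9 := Z (a * b) a (c * d) ab_a cd_a.eq
  rw [Units.val_mul] at z3 z6 y3 y6 y7 y8 y9 ⊢
  rw [Units.val_mul] at y9
  rw [coe_three, coe_three, Matrix.smul_mul, Matrix.mul_smul]
  simp only [add_mul, sub_mul, mul_add, mul_sub, one_mul, mul_one, Matrix.trace_smul, Matrix.trace_add, Matrix.trace_sub,
    Matrix.trace_one, S.dim, z1, z2, z3, z4, z5, z6, y1, y2, y3, y4, y5, y6, y7, y8, y9, smul_eq_mul]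
  field_simp
  push_cast
  ring

end Three

/-- An element of order five of the normaliser. -/
theorem exists_five (S : Sym R) (E : Frame R) :
    ∃ y : G4, y ∈ N R ∧ ¬ Sc y ∧ y ^ 5 = 1 ∧ (y : M4).det = 1 ∧
      ∀ A : Adj F ι, (∀ g ∈ R, A.Iso g) → A.Iso y := by
  haveI := S.nonempty
  have h2 := S.two
  obtain ⟨a, b, c, d, ha, hb, hc, hd, aa, bb, cc, dd, ab, cd, ac, ad, bc, bd⟩ := E
  have ba : b * a = -(a * b) := by rw [ab, neg_neg]
  have dc : d * c = -(c * d) := by rw [cd, neg_neg]
  have ab2 : a * b * (a * b) = -1 := by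
    rw [mul_assoc, ← mul_assoc b a b, ba, neg_mul, mul_neg, mul_assoc a b b, bb, mul_one, aa]
  have cd2 : c * d * (c * d) = -1 := by
    rw [mul_assoc, ← mul_assoc d c d, dc, neg_mul, mul_neg, mul_assoc c d d, dd, mul_neg, mul_one, mul_neg, cc, neg_neg]
  have ab_a : a * b * a = -(a * (a * b)) := by rw [mul_assoc, ba, mul_neg]
  have ab_b : a * b * b = -(b * (a * b)) := by rw [← mul_assoc b, ba, neg_mul, neg_neg]
  have cd_c : c * d * c = -(c * (c * d)) := by rw [mul_assoc, dc, mul_neg]
  have cd_d : c * d * d = -(d * (c * d)) := by rw [← mul_assoc d, dc, neg_mul, neg_neg]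
  have c_ab : Commute c (a * b) := (show Commute c a from ac.symm).mul_right bc.symm
  have d_ab : Commute d (a * b) := (show Commute d a from ad.symm).mul_right bd.symm
  have cd_ab : Commute (c * d) (a * b) := c_ab.mul_left d_ab
  have cd_a : Commute (c * d) a := (show Commute c a from ac.symm).mul_left ad.symm
  have cd_b : Commute (c * d) b := (show Commute c b from bc.symm).mul_left bd.symm
  -- products `(a * b) * X`
  have sq : ∀ X : G4, Commute X (a * b) → X * X = -1 → a * b * X * (a * b * X) = 1 := fun X hX hXX => by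
    rw [mul_assoc (a * b), ← mul_assoc X, hX.eq, mul_assoc (a * b) X X, hXX, ← mul_assoc, ab2]; simp
  have anti : ∀ X h : G4, a * b * h = -(h * (a * b)) → Commute X h → h * (a * b * X) = -(a * b * X * h) :=
    fun X h e hX => by
      calc h * (a * b * X) = h * (a * b) * X := (mul_assoc h (a * b) X).symm
        _ = -(a * b * h) * X := by rw [e, neg_neg]
        _ = -(a * b * h * X) := neg_mul _ _
        _ = -(a * b * (X * h)) := by rw [hX.eq, mul_assoc (a * b)]
        _ = _ := by rw [mul_assoc (a * b) X h]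
  have prod : ∀ X Y : G4, Commute X (a * b) → a * b * X * (a * b * Y) = -(X * Y) := fun X Y hX => by
    calc a * b * X * (a * b * Y) = a * b * (X * (a * b)) * Y := by group
      _ = a * b * (a * b) * (X * Y) := by rw [hX.eq]; group
      _ = _ := by rw [ab2, neg_one_mul]
  have anti2 : ∀ X Y : G4, Commute X (a * b) → Commute Y (a * b) → X * Y = -(Y * X) →
      a * b * X * (a * b * Y) = -(a * b * Y * (a * b * X)) := fun X Y hX hY e => by
    rw [prod X Y hX, prod Y X hY, e]
  have mR : ∀ X, X ∈ R → a * b * X ∈ R := fun X hX => mul_mem (mul_mem ha hb) hX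
  obtain ⟨e3, rfl⟩ : ∃ e, e = a * b * c := ⟨_, rfl⟩
  obtain ⟨e4, he4⟩ : ∃ e, e = a * b * d := ⟨_, rfl⟩
  obtain ⟨e5, he5⟩ : ∃ e, e = a * b * (c * d) := ⟨_, rfl⟩
  have q3 := sq c c_ab cc
  have q4 : e4 * e4 = 1 := he4 ▸ sq d d_ab dd
  have q5 : e5 * e5 = 1 := he5 ▸ sq _ cd_ab cd2
  have k12 := ab
  have k13 : a * (a * b * c) = -(a * b * c * a) := anti c a ab_a ac.symm
  have k14 : a * e4 = -(e4 * a) := he4 ▸ anti d a ab_a ad.symm
  have k15 : a * e5 = -(e5 * a) := he5 ▸ anti _ a ab_a cd_a
  have k23 : b * (a * b * c) = -(a * b * c * b) := anti c b ab_b bc.symm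
  have k24 : b * e4 = -(e4 * b) := he4 ▸ anti d b ab_b bd.symm
  have k25 : b * e5 = -(e5 * b) := he5 ▸ anti _ b ab_b cd_b
  have k34 : a * b * c * e4 = -(e4 * (a * b * c)) := he4 ▸ anti2 c d c_ab d_ab cd
  have k35 : a * b * c * e5 = -(e5 * (a * b * c)) := he5 ▸ anti2 c _ c_ab cd_ab (by rw [cd_c, neg_neg])
  have k45 : e4 * e5 = -(e5 * e4) := by
    rw [he4, he5]; exact anti2 d _ d_ab cd_ab (by rw [cd_d, neg_neg])
  have m4 : e4 ∈ R := he4 ▸ mR d hd
  have m5 : e5 ∈ R := he5 ▸ mR _ (mul_mem hc hd)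
  set f3 := a * b * c with hf3
  have m3 : f3 ∈ R := mR c hc
  -- the actions of the differences
  have D1 : ∀ {e e' : G4} (h1 : e * e = 1) (h1' : e' * e' = 1) (h : e * e' = -(e' * e)),
      SemiconjBy (diff h2 e e' h1 h1' h) e (-e') ∧ SemiconjBy (diff h2 e e' h1 h1' h) e' (-e) ∧
      ∀ f, e * f = -(f * e) → e' * f = -(f * e') → SemiconjBy (diff h2 e e' h1 h1' h) f (-f) := by
    intro e e' h1 h1' h
    have a1 : (e : M4) * e = 1 := by simpa using congrArg Units.val h1
    have a2 : (e' : M4) * e' = 1 := by simpa using congrArg Units.val h1'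
    have a3 : (e : M4) * e' = -((e' : M4) * e) := by simpa using congrArg Units.val h
    refine ⟨Units.ext ?_, Units.ext ?_, fun f k k' => Units.ext ?_⟩
    · simp only [Units.val_mul, Units.val_neg, coe_diff, sub_mul, mul_sub, neg_mul, a1, a2]
      abel
    · simp only [Units.val_mul, Units.val_neg, coe_diff, sub_mul, mul_sub, neg_mul, a1, a2, a3]
      abel
    · have k0 := congrArg Units.val k
      have k0' := congrArg Units.val k'
      simp only [Units.val_mul, Units.val_neg] at k0 k0' ⊢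
      rw [coe_diff, sub_mul, k0, k0', neg_mul, mul_sub]
      abel
  obtain ⟨A1, A2, A3⟩ := D1 aa bb k12
  obtain ⟨B1, B2, B3⟩ := D1 bb q3 k23
  obtain ⟨C1, C2, C3⟩ := D1 q3 q4 k34
  obtain ⟨E1, E2, E3⟩ := D1 q4 q5 k45
  set u1 := diff h2 a b aa bb k12
  set u2 := diff h2 b f3 bb q3 k23
  set u3 := diff h2 f3 e4 q3 q4 k34
  set u4 := diff h2 e4 e5 q4 q5 k45
  set y := u1 * u2 * u3 * u4 with hy
  have flip : ∀ {g h w x x' : G4}, SemiconjBy g x (-x') → SemiconjBy h w (-x) → SemiconjBy (g * h) w x' :=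
    fun hg hh => by simpa using hg.neg_right.mul_left hh
  have h34 : f3 * a = -(a * f3) := by rw [k13, neg_neg]
  have h45 : e4 * a = -(a * e4) := by rw [k14, neg_neg]
  have h55 : e5 * a = -(a * e5) := by rw [k15, neg_neg]
  have hb4 : e4 * b = -(b * e4) := by rw [k24, neg_neg]
  have hb5 : e5 * b = -(b * e5) := by rw [k25, neg_neg]
  have hb3 : f3 * b = -(b * f3) := by rw [k23, neg_neg]
  have h35 : e5 * f3 = -(f3 * e5) := by rw [k35, neg_neg]
  have ye : y = u1 * (u2 * (u3 * u4)) := by rw [hy, mul_assoc, mul_assoc]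
  have S1 : SemiconjBy y a b := ye ▸ flip A1 ((B3 a ba h34).mul_left (flip (C3 a h34 h45) (E3 a h45 h55)))
  have S2 : SemiconjBy y b f3 :=
    ye ▸ flip (A3 f3 k13 k23) (B1.mul_left (flip (C3 b hb3 hb4) (E3 b hb4 hb5)))
  have h43 : e4 * f3 = -(f3 * e4) := by rw [k34, neg_neg]
  have S3 : SemiconjBy y f3 e4 :=
    ye ▸ flip (A3 e4 k14 k24) ((B3 e4 k24 k34).mul_left (flip C1 (E3 f3 h43 h35)))
  have S4 : SemiconjBy y e4 e5 :=
    ye ▸ flip (A3 e5 k15 k25) ((B3 e5 k25 k35).mul_left (flip (C3 e5 k35 k45) E1))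
  have S5 : SemiconjBy y e5 a := ye ▸ flip A2 (B2.mul_left (flip C2 E2))
  have hyN : y ∈ N R := mul_mem (mul_mem (mul_mem (diff_mem h2 S ha hb aa bb k12) (diff_mem h2 S hb m3 bb q3 k23))
    (diff_mem h2 S m3 m4 q3 q4 k34)) (diff_mem h2 S m4 m5 q4 q5 k45)
  have P1 : SemiconjBy (y ^ 5) a a := by
    have h := S5.mul_left (S4.mul_left (S3.mul_left (S2.mul_left S1)))
    simpa [pow_succ, mul_assoc] using h
  have P2 : SemiconjBy (y ^ 5) b b := by
    have h := S1.mul_left (S5.mul_left (S4.mul_left (S3.mul_left S2)))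
    simpa [pow_succ, mul_assoc] using h
  have P3 : SemiconjBy (y ^ 5) f3 f3 := by
    have h := S2.mul_left (S1.mul_left (S5.mul_left (S4.mul_left S3)))
    simpa [pow_succ, mul_assoc] using h
  have P4 : SemiconjBy (y ^ 5) e4 e4 := by
    have h := S3.mul_left (S2.mul_left (S1.mul_left (S5.mul_left S4)))
    simpa [pow_succ, mul_assoc] using h
  have hyc : Commute (y ^ 5) c := by
    have h : Commute (y ^ 5) ((a * b)⁻¹ * f3) :=
      (((show Commute (y ^ 5) a from P1).mul_right (show Commute (y ^ 5) b from P2)).inv_right).mul_right P3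
    rwa [hf3, inv_mul_cancel_left] at h
  have hyd : Commute (y ^ 5) d := by
    have h : Commute (y ^ 5) ((a * b)⁻¹ * e4) :=
      (((show Commute (y ^ 5) a from P1).mul_right (show Commute (y ^ 5) b from P2)).inv_right).mul_right P4
    rwa [he4, inv_mul_cancel_left] at h
  obtain ⟨z, hz⟩ := (⟨a, b, c, d, ha, hb, hc, hd, aa, bb, cc, dd, ab, cd, ac, ad, bc, bd⟩ : Frame R).commute_all S
    (T := ((y ^ 5 : G4) : M4)) (congrArg Units.val P1.eq) (congrArg Units.val P2.eq) (congrArg Units.val hyc.eq)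
    (congrArg Units.val hyd.eq)
  have hns4 : ¬ Sc (y ^ 4) := fun hs => by
    have h := S4.mul_left (S3.mul_left (S2.mul_left S1))
    have h' : SemiconjBy (y ^ 4) a e5 := by simpa [pow_succ, mul_assoc] using h
    have e : a = e5 := mul_right_cancel ((hs.comm a).symm.trans h'.eq)
    exact ne_neg_self h2 (a * a) (by conv_lhs => arg 2; rw [e]
                                     rw [k15, ← e])
  set δ : Fˣ := Matrix.GeneralLinearGroup.det y with hδ
  have hδv : (δ : F) = (y : M4).det := rfl
  refine ⟨scal δ⁻¹ * y ^ 4, mul_mem (sc_mem_normalizer (scal_sc _)) (pow_mem hyN 4), ?_, ?_, ?_, ?_⟩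
  · rintro ⟨w, hw⟩
    refine hns4 ⟨(δ : F) * w, ?_⟩
    rw [Units.val_mul, coe_scal, Matrix.smul_mul, one_mul] at hw
    rw [mul_smul, ← hw, smul_smul, ← Units.val_mul, mul_inv_cancel, Units.val_one, one_smul]
  · refine Units.ext ?_
    have hc' : Commute (scal δ⁻¹ : G4) (y ^ 4) := (scal_sc _).comm _
    rw [hc'.mul_pow, Units.val_mul, Units.val_pow_eq_pow_val, coe_scal, smul_pow, one_pow, Matrix.smul_mul, one_mul,
      ← pow_mul, mul_comm 4 5, pow_mul, Units.val_pow_eq_pow_val (y ^ 5), hz, smul_pow, one_pow, smul_smul,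
      Units.val_one, ← Units.val_pow_eq_pow_val δ⁻¹]
    have h5 : z ^ 4 = (δ : F) ^ 5 := by
      have := congrArg Matrix.det hz
      rw [Units.val_pow_eq_pow_val, Matrix.det_pow, Matrix.det_smul, Matrix.det_one, mul_one, S.dim] at this
      rw [← this, hδv]
    rw [h5, ← Units.val_pow_eq_pow_val, ← Units.val_mul, ← mul_pow, inv_mul_cancel, one_pow, Units.val_one, one_smul]
  · rw [Units.val_mul, Units.val_pow_eq_pow_val, Matrix.det_mul, Matrix.det_pow, coe_scal, Matrix.det_smul,
      Matrix.det_one, mul_one, S.dim, ← hδv, ← mul_pow, ← Units.val_mul, inv_mul_cancel, Units.val_one, one_pow]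
  · intro A hA
    have hu : ∀ {e e' : G4} (h1 : e * e = 1) (h1' : e' * e' = 1) (h : e * e' = -(e' * e)), e ∈ R → e' ∈ R →
        A.τ ((diff h2 e e' h1 h1' h : G4) : M4) * ((diff h2 e e' h1 h1' h : G4) : M4) = (2 : F) • 1 := by
      intro e e' h1 h1' h he he'
      have a1 : (e : M4) * e = 1 := by simpa using congrArg Units.val h1
      have a2 : (e' : M4) * e' = 1 := by simpa using congrArg Units.val h1'
      have a3 : (e : M4) * e' = -((e' : M4) * e) := by simpa using congrArg Units.val h
      rw [coe_diff, A.sub, A.τ_of_sq_one (hA e he) h1, A.τ_of_sq_one (hA e' he') h1', sub_mul, mul_sub, mul_sub, a1,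
        a2, a3, two_smul]
      abel
    have hy16 : A.τ (y : M4) * (y : M4) = (16 : F) • 1 := by
      rw [hy, Units.val_mul, Units.val_mul, Units.val_mul, A.mul, A.mul, A.mul]
      have g1 := hu aa bb k12 ha hb
      have g2 := hu bb q3 k23 hb m3
      have g3 := hu q3 q4 k34 m3 m4
      have g4 := hu q4 q5 k45 m4 m5
      calc A.τ (u4 : M4) * (A.τ (u3 : M4) * (A.τ (u2 : M4) * A.τ (u1 : M4))) * ((u1 : M4) * u2 * u3 * u4)
          = A.τ (u4 : M4) * (A.τ (u3 : M4) * (A.τ (u2 : M4) * (A.τ (u1 : M4) * u1) * u2) * u3) * u4 := by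
            simp only [mul_assoc]
        _ = _ := by
            rw [g1, Matrix.mul_smul, mul_one, Matrix.smul_mul, g2, smul_smul, Matrix.mul_smul, mul_one, Matrix.smul_mul,
              g3, smul_smul, Matrix.mul_smul, mul_one, Matrix.smul_mul, g4, smul_smul]
            norm_num
    have hpow : ∀ k : ℕ, A.τ ((y : M4) ^ k) * (y : M4) ^ k = (16 : F) ^ k • 1 := fun k => by
      induction k with
      | zero => simp [A.one]
      | succ k ih =>
        calc A.τ ((y : M4) ^ (k + 1)) * (y : M4) ^ (k + 1)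
            = A.τ (y : M4) * (A.τ ((y : M4) ^ k) * (y : M4) ^ k) * (y : M4) := by
              rw [pow_succ, A.mul]; simp only [mul_assoc]
          _ = _ := by rw [ih, Matrix.mul_smul, mul_one, Matrix.smul_mul, hy16, smul_smul, pow_succ]
    have hdet : A.σ (δ : F) * (δ : F) = (16 : F) ^ 4 := by
      have := congrArg Matrix.det hy16
      rw [Matrix.det_mul, A.det, Matrix.det_smul, Matrix.det_one, mul_one, S.dim] at this
      rw [hδv, this]
    rw [Adj.Iso, Units.val_mul, Units.val_pow_eq_pow_val, coe_scal, Matrix.smul_mul, one_mul, A.smul, Matrix.smul_mul,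
      Matrix.mul_smul, hpow, smul_smul, smul_smul, ← hdet, Units.val_inv_eq_inv_val, map_inv₀]
    have d0 : (δ : F) ≠ 0 := δ.ne_zero
    have d1 : A.σ (δ : F) ≠ 0 := (map_ne_zero A.σ).2 d0
    rw [show (A.σ (δ : F))⁻¹ * (δ : F)⁻¹ * (A.σ (δ : F) * (δ : F)) = 1 by field_simp, one_smul]

end Cfsg.Agent.Classical.CliffordFour
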