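import Cfsg.Agent.Lib.Classical.CliffordFourElements
import Cfsg.Agent.Lib.Classical.CliffordFourClasses

/-!
Two-groups of symplectic type in dimension 4: elements of prime order conjugate to no element of the normaliser.
-/

set_option autoImplicit false
set_option linter.style.haveILetI false
set_option linter.unusedSectionVars false

namespace Cfsg.Agent.Classical.CliffordFour

open Matrix

variable {F : Type*} [Field F] {ι : Type} [Fintype ι] [DecidableEq ι]

local notation "G4" => GL ι F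
local notation "M4" => Matrix ι ι F

variable {R : Subgroup (GL ι F)} {x g : GL ι F} {r : ℕ}

theorem conj_facts (hxr : x ^ r = 1) (hns : ¬ Sc x) (g : G4) :
    (g⁻¹ * x * g) ^ r = 1 ∧ ¬ Sc (g⁻¹ * x * g) ∧ ((g⁻¹ * x * g : G4) : M4).trace = (x : M4).trace ∧
      (((g⁻¹ * x * g)⁻¹ : G4) : M4).trace = ((x⁻¹ : G4) : M4).trace := by
  refine ⟨?_, fun h => hns ?_, ?_, ?_⟩
  · have : (g⁻¹ * x * g) ^ r = g⁻¹ * x ^ r * g := by
      induction r with
      | zero => simp
      | succ k _ =>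
        have e : ∀ m : ℕ, (g⁻¹ * x * g) ^ m = g⁻¹ * x ^ m * g := fun m => by
          induction m with
          | zero => simp
          | succ m ih => rw [pow_succ, ih, pow_succ]; group
        exact e _
    rw [this, hxr, mul_one, inv_mul_cancel]
  · obtain ⟨z, hz⟩ := h
    refine ⟨z, ?_⟩
    rw [show x = g * (g⁻¹ * x * g) * g⁻¹ by group, Units.val_mul, Units.val_mul, hz, Matrix.mul_smul, mul_one,
      Matrix.smul_mul, ← Units.val_mul, mul_inv_cancel, Units.val_one]
  · rw [Units.val_mul, Units.val_mul, Matrix.trace_units_conj']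
  · rw [show (g⁻¹ * x * g)⁻¹ = g⁻¹ * x⁻¹ * g by group, Units.val_mul, Units.val_mul, Matrix.trace_units_conj']

theorem not_mem_big (S : Sym R) [Fact r.Prime] (hr : 7 ≤ r) (hxr : x ^ r = 1) (hns : ¬ Sc x) :
    g⁻¹ * x * g ∉ Subgroup.normalizer (R : Set (GL ι F)) := fun hy => by
  obtain ⟨h1, h3, -, -⟩ := conj_facts hxr hns g
  rcases fixed_cases S hy ((Fact.out : r.Prime).odd_of_ne_two (by omega)) h1 h3 with ⟨rfl, -⟩ | ⟨rfl, -⟩ <;> omega

theorem not_mem_five (S : Sym R) (hxr : x ^ 5 = 1) (hns : ¬ Sc x)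
    (h : Axial x ∨ (x : M4).trace * ((x⁻¹ : G4) : M4).trace ≠ 1) :
    g⁻¹ * x * g ∉ Subgroup.normalizer (R : Set (GL ι F)) := fun hy => by
  haveI : Fact (Nat.Prime 5) := ⟨by norm_num⟩
  obtain ⟨h1, h3, ht, hti⟩ := conj_facts hxr hns g
  rcases h with h | h
  · exact h3 (sc_of_axial S hy (r := 5) (by decide) h1 (h.conj g))
  · rcases fixed_cases S hy (by decide) h1 h3 with ⟨-, hn⟩ | ⟨h, -⟩
    · apply h
      rw [← ht, ← hti, trace_mul_trace S hy (r := 5) (by decide) h1, hn, Nat.cast_one]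
    · norm_num at h

theorem not_mem_three (S : Sym R) (hxr : x ^ 3 = 1) (hns : ¬ Sc x)
    (h : Axial x ∨ ((x : M4).trace * ((x⁻¹ : G4) : M4).trace ≠ 1 ∧ (x : M4).trace * ((x⁻¹ : G4) : M4).trace ≠ 4)) :
    g⁻¹ * x * g ∉ Subgroup.normalizer (R : Set (GL ι F)) := fun hy => by
  haveI : Fact (Nat.Prime 3) := ⟨Nat.prime_three⟩
  obtain ⟨h1, h3, ht, hti⟩ := conj_facts hxr hns g
  rcases h with h | ⟨ha, hb⟩
  · exact h3 (sc_of_axial S hy (r := 3) (by decide) h1 (h.conj g))
  · have e := trace_mul_trace S hy (r := 3) (by decide) h1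
    rw [ht, hti] at e
    rcases fixed_cases S hy (by decide) h1 h3 with ⟨h, -⟩ | ⟨-, hn | hn⟩
    · norm_num at h
    · exact ha (by rw [e, hn, Nat.cast_one])
    · exact hb (by rw [e, hn]; norm_num)

theorem not_mem_three_minus (S : Sym R) (E : Frame R) (hc : Nat.card (Subgroup.center R) = 2) (hxr : x ^ 3 = 1)
    (hns : ¬ Sc x) (h : Axial x ∨ (x : M4).trace * ((x⁻¹ : G4) : M4).trace ≠ 4) :
    g⁻¹ * x * g ∉ Subgroup.normalizer (R : Set (GL ι F)) := fun hy => by
  haveI : Fact (Nat.Prime 3) := ⟨Nat.prime_three⟩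
  obtain ⟨h1, h3, ht, hti⟩ := conj_facts hxr hns g
  rcases h with h | hb
  · exact h3 (sc_of_axial S hy (r := 3) (by decide) h1 (h.conj g))
  · have e := trace_mul_trace S hy (r := 3) (by decide) h1
    rw [ht, hti] at e
    rcases fixed_cases S hy (by decide) h1 h3 with ⟨h, -⟩ | ⟨-, hn | hn⟩
    · norm_num at h
    · exact fixed_ne_one S E hc hy h1 hn
    · exact hb (by rw [e, hn]; norm_num)

/-- A two by two block and the identity. -/
def emb (e : ι ≃ Fin 2 ⊕ Fin 2) (A : Matrix (Fin 2) (Fin 2) F) : Matrix ι ι F :=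
  Matrix.reindex e.symm e.symm (Matrix.fromBlocks A 0 0 1)

theorem emb_mul (e : ι ≃ Fin 2 ⊕ Fin 2) (A B : Matrix (Fin 2) (Fin 2) F) : emb e A * emb e B = emb e (A * B) := by
  rw [emb, emb, emb, Matrix.reindex_apply, Matrix.reindex_apply, Matrix.reindex_apply, Matrix.submatrix_mul_equiv,
    Matrix.fromBlocks_multiply]
  simp

theorem emb_one (e : ι ≃ Fin 2 ⊕ Fin 2) : emb e (1 : Matrix (Fin 2) (Fin 2) F) = 1 := by
  rw [emb, Matrix.fromBlocks_one, Matrix.reindex_apply, Matrix.submatrix_one_equiv]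

theorem emb_trace (e : ι ≃ Fin 2 ⊕ Fin 2) (A : Matrix (Fin 2) (Fin 2) F) : (emb e A).trace = A.trace + 2 := by
  rw [Matrix.trace, ← e.symm.sum_comp, Fintype.sum_sum_type, Matrix.trace]
  simp [emb, Matrix.diag]

theorem emb_det (e : ι ≃ Fin 2 ⊕ Fin 2) (A : Matrix (Fin 2) (Fin 2) F) : (emb e A).det = A.det := by
  rw [emb, Matrix.det_reindex_self, Matrix.det_fromBlocks_zero₁₂, Matrix.det_one, mul_one]

/-- The element acting as `A` on a two-dimensional block. -/
def embGL (e : ι ≃ Fin 2 ⊕ Fin 2) (A : Matrix (Fin 2) (Fin 2) F) (hA : A.det = 1) : GL ι F where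
  val := emb e A
  inv := emb e A.adjugate
  val_inv := by rw [emb_mul, Matrix.mul_adjugate, hA, one_smul, emb_one]
  inv_val := by rw [emb_mul, Matrix.adjugate_mul, hA, one_smul, emb_one]

variable (e : ι ≃ Fin 2 ⊕ Fin 2) {A : Matrix (Fin 2) (Fin 2) F} (hA : A.det = 1)

theorem coe_embGL : ((embGL e A hA : G4) : M4) = emb e A := rfl

theorem embGL_trace : ((embGL e A hA : G4) : M4).trace = A.trace + 2 := emb_trace e A

theorem embGL_inv_trace : (((embGL e A hA)⁻¹ : G4) : M4).trace = A.trace + 2 := by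
  show (emb e A.adjugate).trace = _
  rw [emb_trace, Matrix.adjugate_fin_two, Matrix.trace_fin_two, Matrix.trace_fin_two]
  simp [add_comm]

theorem embGL_det : ((embGL e A hA : G4) : M4).det = 1 := (emb_det e A).trans hA

theorem embGL_pow {k : ℕ} (hk : A ^ k = 1) : embGL e A hA ^ k = 1 := by
  refine Units.ext ?_
  rw [Units.val_pow_eq_pow_val, coe_embGL]
  have h : ∀ m : ℕ, emb e A ^ m = emb e (A ^ m) := fun m => by
    induction m with
    | zero => rw [pow_zero, pow_zero, emb_one]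
    | succ m ih => rw [pow_succ, ih, emb_mul, pow_succ]
  rw [h, hk, emb_one, Units.val_one]

theorem embGL_axial {u w : Fin 2 → F} (h : A - 1 = Matrix.vecMulVec u w) : Axial (embGL e A hA : G4) := by
  refine ⟨∑ j, w j • LinearMap.proj (e.symm (Sum.inl j)), fun v hv => ?_⟩
  simp only [LinearMap.sum_apply, LinearMap.smul_apply, LinearMap.proj_apply, smul_eq_mul] at hv
  have h' : A = 1 + Matrix.vecMulVec u w := by rw [← h]; abel
  ext i
  show (emb e A *ᵥ v) i = v i
  obtain ⟨k, rfl⟩ := e.symm.surjective i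
  rw [Matrix.mulVec, dotProduct, ← e.symm.sum_comp, Fintype.sum_sum_type]
  rcases k with a | b
  · simp only [emb, Matrix.reindex_apply, Matrix.submatrix_apply, Equiv.symm_symm, Equiv.apply_symm_apply,
      Matrix.fromBlocks_apply₁₁, Matrix.fromBlocks_apply₁₂, Matrix.zero_apply, zero_mul, Finset.sum_const_zero, add_zero]
    rw [h']
    simp only [Matrix.add_apply, Matrix.vecMulVec_apply, add_mul, Finset.sum_add_distrib, Matrix.one_apply, ite_mul,
      one_mul, zero_mul, Finset.sum_ite_eq, Finset.mem_univ, if_true, mul_assoc, ← Finset.mul_sum, hv, mul_zero, add_zero]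
  · simp only [emb, Matrix.reindex_apply, Matrix.submatrix_apply, Equiv.symm_symm, Equiv.apply_symm_apply,
      Matrix.fromBlocks_apply₂₁, Matrix.fromBlocks_apply₂₂, Matrix.zero_apply, zero_mul, Finset.sum_const_zero, zero_add,
      Matrix.one_apply, ite_mul, one_mul, Finset.sum_ite_eq, Finset.mem_univ, if_true]

theorem embGL_not_sc (h : ∀ z : F, A ≠ z • 1) : ¬ Sc (embGL e A hA : G4) := by
  rintro ⟨z, hz⟩
  refine h z (Matrix.ext fun i j => ?_)
  have := congrFun (congrFun hz (e.symm (Sum.inl i))) (e.symm (Sum.inl j))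
  simpa [coe_embGL, emb, Matrix.one_apply] using this

include hA in
theorem cube_of_trace (ht : A.trace = -1) : A ^ 3 = 1 := by
  have hd := hA
  rw [Matrix.det_fin_two] at hd
  rw [Matrix.trace_fin_two] at ht
  have hd1 : A 1 1 = -1 - A 0 0 := by linear_combination ht
  have hbc : A 0 1 * A 1 0 = -1 - A 0 0 - A 0 0 ^ 2 := by rw [hd1] at hd; linear_combination -hd
  rw [pow_succ, pow_two]
  ext i j
  fin_cases i <;> fin_cases j <;> simp [Matrix.mul_apply, Fin.sum_univ_two, hd1]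
  · linear_combination (A 0 0 - 1) * hbc
  · linear_combination (A 0 1) * hbc
  · linear_combination (A 1 0) * hbc
  · linear_combination (-2 - A 0 0) * hbc

include hA in
theorem five_of_trace {t : F} (ht : A.trace = t) (h : t ^ 2 + t - 1 = 0) : A ^ 5 = 1 := by
  have hd := hA
  rw [Matrix.det_fin_two] at hd
  rw [Matrix.trace_fin_two] at ht
  have hsq : A * A = t • A - 1 := by
    ext i j
    fin_cases i <;> fin_cases j <;> simp [Matrix.mul_apply, Fin.sum_univ_two]
    · linear_combination (A 0 0) * ht - hd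
    · linear_combination (A 0 1) * ht
    · linear_combination (A 1 0) * ht
    · linear_combination (A 1 1) * ht - hd
  have h3 : A ^ 3 = (t ^ 2 - 1) • A - t • 1 := by
    rw [pow_succ, pow_two A, hsq, sub_mul, Matrix.smul_mul, hsq, one_mul, smul_sub, smul_smul]
    module
  have h5 : A ^ 5 = (t ^ 4 - 3 * t ^ 2 + 1) • A - (t ^ 3 - 2 * t) • 1 := by
    rw [show (5 : ℕ) = 3 + 2 from rfl, pow_add, h3, pow_two A, hsq, mul_sub, mul_one, Matrix.mul_smul, sub_mul,
      Matrix.smul_mul, Matrix.smul_mul, one_mul, hsq]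
    match_scalars <;> ring
  rw [h5, show t ^ 4 - 3 * t ^ 2 + 1 = 0 by linear_combination (t ^ 2 - t - 1) * h,
    show t ^ 3 - 2 * t = -1 by linear_combination (t - 1) * h]
  simp

/-- A root of `X ^ 2 + X - 1` in the prime field. -/
theorem exists_golden {p : ℕ} [hp : Fact p.Prime] [CharP F p] (h2 : p ≠ 2) (h : p % 5 = 0 ∨ p % 5 = 1 ∨ p % 5 = 4) :
    ∃ t : F, t ^ 2 + t - 1 = 0 ∧ t ^ p = t := by
  obtain ⟨t, ht⟩ : ∃ t : ZMod p, t ^ 2 + t - 1 = 0 := by
    have h2' : (2 : ZMod p) ≠ 0 := fun e => h2 ((Nat.prime_dvd_prime_iff_eq hp.out Nat.prime_two).1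
      ((ZMod.natCast_eq_zero_iff 2 p).1 (by simpa using e)))
    obtain ⟨s, hs⟩ : IsSquare ((5 : ℕ) : ZMod p) := by
      rcases h with h | h | h
      · have : ((5 : ℕ) : ZMod p) = 0 := by
          rw [ZMod.natCast_eq_zero_iff, (Nat.prime_dvd_prime_iff_eq (by norm_num) hp.out).1 (Nat.dvd_of_mod_eq_zero h)]
        rw [this]; exact IsSquare.zero
      all_goals
        haveI : Fact (Nat.Prime 5) := ⟨by norm_num⟩
        rw [← ZMod.exists_sq_eq_prime_iff_of_mod_four_eq_one (p := 5) (q := p) (by norm_num) h2]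
        rw [← ZMod.natCast_mod, h]
        first | exact ⟨1, rfl⟩ | exact ⟨2, rfl⟩
    refine ⟨(-1 + s) / 2, ?_⟩
    have hs' : s * s = 5 := by simpa using hs.symm
    field_simp
    linear_combination hs'
  refine ⟨ZMod.castHom dvd_rfl F t, ?_, by rw [← map_pow, ZMod.pow_card]⟩
  have := congrArg (ZMod.castHom (dvd_refl p) F) ht
  simpa using this

/-- A product of traces distinct from one. -/
theorem golden_ne {t : F} (h : t ^ 2 + t - 1 = 0) (h5 : (5 : F) ≠ 0) : (t + 2) * (t + 2) ≠ 1 := fun e =>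
  h5 (by linear_combination (3 * t - 1) * e - (3 * t + 8) * h)

/-- A scalar making the power trivial. -/
theorem exists_reduce (hdim : Fintype.card ι = 4) {z : F} (hz : ((x ^ r : G4) : M4) = z • 1)
    (hdet : (x : M4).det = 1) {k : ℕ} (hk : 4 ∣ k * r + 1) :
    z ^ 4 = 1 ∧ ∃ s : Fˣ, (s : F) = z ^ k ∧ (scal s * x) ^ r = 1 := by
  have hz4 : z ^ 4 = 1 := by
    have := congrArg Matrix.det hz
    rw [Units.val_pow_eq_pow_val, Matrix.det_pow, hdet, one_pow, Matrix.det_smul, Matrix.det_one, mul_one, hdim] at this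
    exact this.symm
  have hz0 : z ≠ 0 := fun h => by simp [h] at hz4
  refine ⟨hz4, Units.mk0 (z ^ k) (pow_ne_zero _ hz0), rfl, Units.ext ?_⟩
  rw [((show Commute (scal _ : G4) x from (scal_sc _).comm x)).mul_pow, Units.val_mul, hz, Units.val_pow_eq_pow_val,
    coe_scal, Units.val_mk0, _root_.smul_pow, one_pow, Matrix.smul_mul, one_mul, smul_smul, ← pow_mul, ← pow_succ,
    Units.val_one]
  obtain ⟨c, hc⟩ := hk
  rw [hc, pow_mul, hz4, one_pow, one_smul]

theorem mem_of_scal_conj {H : Subgroup (GL ι F)} (hH : ∀ s : Fˣ, scal s ∈ H) {s : Fˣ}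
    (h : g⁻¹ * (scal s * x) * g ∈ H) : g⁻¹ * x * g ∈ H := by
  have e : g⁻¹ * (scal s * x) * g = scal s * (g⁻¹ * x * g) := by
    rw [← mul_assoc, ← (scal_sc s).comm g⁻¹]; group
  rw [e] at h
  simpa using mul_mem (inv_mem (hH s)) h

theorem not_sc_scal_mul (hns : ¬ Sc x) (s : Fˣ) : ¬ Sc (scal s * x : G4) := by
  rintro ⟨z, hz⟩
  refine hns ⟨(s : F)⁻¹ * z, ?_⟩
  rw [Units.val_mul, coe_scal, Matrix.smul_mul, one_mul] at hz
  rw [mul_smul, ← hz, smul_smul, inv_mul_cancel₀ s.ne_zero, one_smul]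

theorem scal_mul_sq {c : F} (hx : (x : M4) * x = c • 1) (s : Fˣ) :
    ((scal s * x : G4) : M4) * (scal s * x : G4) = ((s : F) * s * c) • 1 := by
  rw [Units.val_mul, coe_scal, Matrix.smul_mul, one_mul, Matrix.smul_mul, Matrix.mul_smul, hx, smul_smul, smul_smul]

theorem scal_mul_det (hdim : Fintype.card ι = 4) (s : Fˣ) :
    ((scal s * x : G4) : M4).det = (s : F) ^ 4 * (x : M4).det := by
  rw [Units.val_mul, Matrix.det_mul, coe_scal, Matrix.det_smul, Matrix.det_one, mul_one, hdim]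

/-- An element of prime order at least seven. -/
theorem exists_big (hdim : Fintype.card ι = 4) [Finite F] {G : Subgroup (GL ι F)}
    (hG : ∀ u ∈ G, (u : M4).det = 1) [hr : Fact r.Prime] (h7 : 7 ≤ r) (hdvd : r ∣ Nat.card G) :
    ∃ x ∈ G, x ^ r = 1 ∧ ¬ Sc x := by
  obtain ⟨⟨x, hxG⟩, hx⟩ := exists_prime_orderOf_dvd_card' (G := G) r hdvd
  refine ⟨x, hxG, ?_, ?_⟩
  · have := congrArg Subtype.val (pow_orderOf_eq_one (⟨x, hxG⟩ : G))
    rwa [hx] at this
  · rintro ⟨z, hz⟩
    have hz4 : z ^ 4 = 1 := by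
      have := hG x hxG
      rwa [hz, Matrix.det_smul, Matrix.det_one, mul_one, hdim] at this
    have hx4 : (⟨x, hxG⟩ : G) ^ 4 = 1 := Subtype.ext (Units.ext (by simp [hz, _root_.smul_pow, hz4]))
    have := orderOf_dvd_of_pow_eq_one hx4
    rw [hx] at this
    have := Nat.le_of_dvd (by norm_num) this
    omega

theorem cases_prime (hr : r.Prime) : r = 2 ∨ r = 3 ∨ r = 5 ∨ 7 ≤ r := by
  by_contra! h
  obtain ⟨h2, h3, h5, h7⟩ := h
  have := hr.two_le
  interval_cases r <;> first | omega | norm_num at hr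

theorem orderOf_four_iff {p : ℕ} : orderOf (p : ZMod 5) = 4 ↔ p % 5 = 2 ∨ p % 5 = 3 := by
  rw [orderOf_eq_iff (by norm_num), ← ZMod.natCast_mod p 5]
  have h := Nat.mod_lt p (show 5 > 0 by norm_num)
  interval_cases hp : p % 5
  · exact ⟨fun h => absurd h.1 (by decide), by simp⟩
  · exact ⟨fun h => absurd (show ((1 : ℕ) : ZMod 5) ^ 2 = 1 by decide) (h.2 2 (by norm_num) (by norm_num)), by simp⟩
  · exact ⟨fun _ => Or.inl rfl, fun _ => ⟨by decide, fun m h1 h2 => by interval_cases m <;> decide⟩⟩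
  · exact ⟨fun _ => Or.inr rfl, fun _ => ⟨by decide, fun m h1 h2 => by interval_cases m <;> decide⟩⟩
  · exact ⟨fun h => absurd (show ((4 : ℕ) : ZMod 5) ^ 2 = 1 by decide) (h.2 2 (by norm_num) (by norm_num)), by simp⟩

end Cfsg.Agent.Classical.CliffordFour
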