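import Cfsg.Agent.Lib.Classical.CliffordFour

/-!
Two-groups of symplectic type in dimension 4: frames, transvection-like elements, fixed cosets.
-/

set_option autoImplicit false
set_option linter.style.haveILetI false
set_option linter.unusedSectionVars false

namespace Cfsg.Agent.Classical.CliffordFour

open Matrix

variable {F : Type*} [Field F] {ι : Type} [Fintype ι] [DecidableEq ι]

local notation "G4" => GL ι F
local notation "M4" => Matrix ι ι F

variable {R : Subgroup (GL ι F)} {y : GL ι F} {r : ℕ}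

/-- A linear functional whose kernel is fixed pointwise. -/
def Axial (y : GL ι F) : Prop :=
  ∃ φ : (ι → F) →ₗ[F] F, ∀ v, φ v = 0 → (y : Matrix ι ι F) *ᵥ v = v

theorem Axial.conj (h : Axial y) (g : G4) : Axial (g⁻¹ * y * g) := by
  obtain ⟨φ, hφ⟩ := h
  refine ⟨φ ∘ₗ Matrix.toLin' (g : M4), fun v hv => ?_⟩
  rw [Units.val_mul, Units.val_mul, ← Matrix.mulVec_mulVec, ← Matrix.mulVec_mulVec,
    hφ _ (by simpa using hv), Matrix.mulVec_mulVec, Units.inv_mul, Matrix.one_mulVec]

theorem inv_eq_or (S : Sym R) {g : G4} (hg : g ∈ R) : g⁻¹ = g ∨ g⁻¹ = -g := by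
  rcases S.sq g hg with h | h
  · exact Or.inl (inv_eq_of_mul_eq_one_right h)
  · exact Or.inr (inv_eq_of_mul_eq_one_right (by rw [mul_neg, h, neg_neg]))

/-- An element of odd prime order of the normaliser fixes no hyperplane pointwise. -/
theorem sc_of_axial (S : Sym R) (hy : y ∈ Subgroup.normalizer (R : Set (GL ι F))) (hro : Odd r) (hyr : y ^ r = 1)
    (hax : Axial y) : Sc y := by
  haveI := S.nonempty
  obtain ⟨φ, hφ⟩ := hax
  have hmem : ∀ g ∈ R, y * g * y⁻¹ ∈ R := fun g hg => (Subgroup.mem_normalizer_iff.1 hy g).1 hg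
  have hmem' : ∀ g ∈ R, y⁻¹ * g * y ∈ R := fun g hg => by
    have := (Subgroup.mem_normalizer_iff.1 (inv_mem hy) g).1 hg
    rwa [inv_inv] at this
  have hcg : ∀ g ∈ R, g * (y * g * y⁻¹) = (y * g * y⁻¹) * g := by
    intro g hg
    obtain ⟨v, hv, hv0⟩ : ∃ v ∈ LinearMap.ker (φ.prod (φ ∘ₗ Matrix.toLin' ((g⁻¹ : G4) : M4))), v ≠ (0 : ι → F) := by
      refine Submodule.exists_mem_ne_zero_of_ne_bot fun hbot => ?_
      have h := LinearMap.finrank_range_add_finrank_ker (φ.prod (φ ∘ₗ Matrix.toLin' ((g⁻¹ : G4) : M4)))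
      rw [hbot, finrank_bot, Module.finrank_fintype_fun_eq_card, S.dim] at h
      have h1 := Submodule.finrank_le (LinearMap.range (φ.prod (φ ∘ₗ Matrix.toLin' ((g⁻¹ : G4) : M4))))
      rw [Module.finrank_prod, Module.finrank_self] at h1
      omega
    simp only [LinearMap.mem_ker, LinearMap.prod_apply, Prod.ext_iff] at hv
    set h := y * g * y⁻¹ with hh
    have hhR : h ∈ R := hmem g hg
    have hw : ((g * h⁻¹ : G4) : M4) *ᵥ v = v := by
      rw [show g * h⁻¹ = g * y * g⁻¹ * y⁻¹ by rw [hh]; group]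
      have e1 : ((y⁻¹ : G4) : M4) *ᵥ v = v := by
        conv_lhs => rw [← hφ v hv.1, Matrix.mulVec_mulVec, Units.inv_mul, Matrix.one_mulVec]
      rw [Units.val_mul, ← Matrix.mulVec_mulVec, e1, Units.val_mul, Units.val_mul, ← Matrix.mulVec_mulVec,
        ← Matrix.mulVec_mulVec, hφ _ (by simpa using hv.2), Matrix.mulVec_mulVec, Units.mul_inv, Matrix.one_mulVec]
    have hww : (g * h⁻¹) * (g * h⁻¹) = 1 := by
      refine (S.sq _ (mul_mem hg (inv_mem hhR))).resolve_right fun e => hv0 ?_
      have e1 := congrArg (fun u : G4 => (u : M4) *ᵥ v) e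
      simp only [Units.val_mul, Units.val_neg, Units.val_one, ← Matrix.mulVec_mulVec, Matrix.neg_mulVec,
        Matrix.one_mulVec] at e1 hw
      rw [hw, hw] at e1
      exact (smul_eq_zero.1 (show (2 : F) • v = 0 by rw [two_smul]; exact eq_neg_iff_add_eq_zero.1 e1)).resolve_left S.two
    refine (S.comm g hg h hhR).resolve_right fun e => ne_neg_self S.two (1 : GL ι F) ?_
    have h3 : h * h = g * g := by
      rw [hh, show y * g * y⁻¹ * (y * g * y⁻¹) = y * (g * g) * y⁻¹ by group]
      rcases S.sq g hg with e1 | e1 <;> rw [e1] <;> simp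
    have h4 : g * h * (g * h) = 1 := by
      rcases inv_eq_or S hhR with e1 | e1 <;> rw [e1] at hww
      · exact hww
      · simpa using hww
    have h5 : h * g = -(g * h) := by rw [e, neg_neg]
    have h6 : g * h * (g * h) = -((g * g) * (h * h)) := by
      calc g * h * (g * h) = g * (h * g) * h := by group
        _ = _ := by rw [h5]; simp [mul_assoc]
    rw [h4, h3] at h6
    rcases S.sq g hg with e1 | e1 <;> rw [e1] at h6 <;> simpa using h6
  have hk : ∀ g ∈ R, Sc ((y * g * y⁻¹) * (y⁻¹ * g * y)) := by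
    intro g hg
    refine S.sc _ fun u hu => ?_
    set σg := y * g * y⁻¹ with hσg
    set σu := y * u * y⁻¹ with hσu
    set τg := y⁻¹ * g * y with hτg
    have hgu : g * u * (σg * σu) = σg * σu * (g * u) := by
      have h := hcg _ (mul_mem hg hu)
      rwa [show y * (g * u) * y⁻¹ = σg * σu by rw [hσg, hσu]; group] at h
    have hA := S.comm u hu σg (hmem g hg)
    have hB := S.comm σu (hmem u hu) g hg
    have hconj : ∀ ε : G4, Sc ε → σu * g = ε * (g * σu) → u * τg = ε * (τg * u) := fun ε hε h => by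
      calc u * τg = y⁻¹ * (σu * g) * y := by rw [hτg, hσu]; group
        _ = y⁻¹ * ε * (g * σu) * y := by rw [h]; group
        _ = _ := by rw [← hε.comm y⁻¹, hσu, hτg]; group
    have hsn : Sc (-1 : G4) := ⟨-1, by simp⟩
    have hs1 : Sc (1 : G4) := ⟨1, by simp⟩
    refine (congrArg Units.val (?_ : u * (σg * τg) = σg * τg * u)).symm
    have hL : g * u * (σg * σu) = g * (u * σg) * σu := by group
    have hR' : σg * σu * (g * u) = σg * (σu * g) * u := by group
    have hc1 : g * σg * (u * σu) = σg * g * (σu * u) := by rw [hcg g hg, hcg u hu]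
    have hne : g * σg * (u * σu) ≠ -(g * σg * (u * σu)) := ne_neg_self S.two _
    rcases hA with hA | hA <;> rcases hB with hB | hB
    · have h1 := hconj 1 hs1 (by rw [one_mul]; exact hB)
      rw [one_mul] at h1
      rw [← mul_assoc u σg, hA, mul_assoc σg u, h1, ← mul_assoc σg]
    · exfalso
      refine hne ?_
      calc g * σg * (u * σu) = g * (u * σg) * σu := by rw [hA]; group
        _ = σg * (σu * g) * u := by rw [← hL, hgu, hR']
        _ = -(σg * g * (σu * u)) := by rw [hB]; simp [mul_assoc]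
        _ = _ := by rw [← hc1]
    · exfalso
      refine hne ?_
      calc g * σg * (u * σu) = -(g * (u * σg) * σu) := by rw [hA]; simp [mul_assoc]
        _ = -(σg * (σu * g) * u) := by rw [← hL, hgu, hR']
        _ = -(σg * g * (σu * u)) := by rw [hB]; simp [mul_assoc]
        _ = _ := by rw [← hc1]
    · have h1 := hconj (-1) hsn (by rw [hB, neg_one_mul])
      rw [neg_one_mul] at h1
      rw [← mul_assoc u σg, hA, neg_mul, mul_assoc σg u, h1, mul_neg, neg_neg, ← mul_assoc σg]
  have h2 : ∀ g ∈ R, y ^ 2 * g = g * y ^ 2 := fun g hg => by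
    obtain ⟨z, hz⟩ := hk g hg
    have e1 : (y ^ 2) * g * (y ^ 2)⁻¹ = y * ((y * g * y⁻¹) * (y⁻¹ * g * y)) * y⁻¹ * g⁻¹ := by rw [pow_two]; group
    have e2 : y * ((y * g * y⁻¹) * (y⁻¹ * g * y)) * y⁻¹ = (y * g * y⁻¹) * (y⁻¹ * g * y) := by
      have hs : Sc ((y * g * y⁻¹) * (y⁻¹ * g * y)) := ⟨z, hz⟩
      rw [← hs.comm y, mul_inv_cancel_right]
    rw [e2] at e1
    rcases inv_eq_or S hg with e | e <;> rw [e] at e1
    · refine comm_of_fixed S hro (by rw [← pow_mul, mul_comm, pow_mul, hyr, one_pow]) hg (z := z) ?_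
      rw [e1, Units.val_mul, hz, Matrix.smul_mul, one_mul]
    · refine comm_of_fixed S hro (by rw [← pow_mul, mul_comm, pow_mul, hyr, one_pow]) hg (z := -z) ?_
      rw [e1, Units.val_mul, hz, Matrix.smul_mul, one_mul, Units.val_neg, smul_neg, neg_smul]
  obtain ⟨m, rfl⟩ := hro
  have hy2 : y = (y ^ 2) ^ (m + 1) := by rw [← pow_mul, show 2 * (m + 1) = 2 * m + 1 + 1 by ring, pow_succ, hyr, one_mul]
  refine S.sc _ fun g hg => ?_
  have h : Commute y g := by rw [hy2]; exact (show Commute (y ^ 2) g from h2 g hg).pow_left _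
  exact congrArg Units.val h.eq

/-- An invariant set of cosets has as many fixed points as elements modulo `r`. -/
theorem card_modEq {α : Type*} [Finite α] [hr : Fact r.Prime] {σ : Equiv.Perm α} (hσ : σ ^ r = 1) {P : α → Prop}
    (hP : ∀ x, P x → P (σ x)) : Nat.card {x // P x} ≡ Nat.card {x // P x ∧ σ x = x} [MOD r] := by
  classical
  haveI := Fintype.ofFinite α
  set f : Function.End {x // P x} := fun x => ⟨σ x.1, hP _ x.2⟩ with hf
  have hfk : ∀ (k : ℕ) (x : {x // P x}), ((f ^ k) x : α) = (σ ^ k) x.1 := fun k => by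
    induction k with
    | zero => exact fun x => rfl
    | succ k ih =>
      intro x
      show (((f ^ (k + 1)) x : {x // P x}) : α) = _
      rw [pow_succ', pow_succ', Equiv.Perm.mul_apply, ← ih]
      rfl
  have hfr : f ^ r ^ 1 = 1 := by
    funext x
    refine Subtype.ext ?_
    rw [pow_one, hfk, hσ]
    rfl
  have h := Equiv.Perm.card_fixedPoints_modEq (p := r) hfr
  rw [← Nat.card_eq_fintype_card, ← Nat.card_eq_fintype_card] at h
  refine h.trans ?_
  refine (congrArg (fun k => k % r) ?_)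
  exact Nat.card_congr ((Equiv.subtypeEquivRight fun x => Subtype.ext_iff).trans
    (Equiv.subtypeSubtypeEquivSubtypeInter P (fun x => σ x = x)))

theorem commute_mk_iff (S : Sym R) {v : G4} {x : R} {q : R ⧸ Subgroup.center R}
    (hx : (x : R ⧸ Subgroup.center R) = q) :
    ((q.out : R) : G4) * v = v * ((q.out : R) : G4) ↔ (x : G4) * v = v * (x : G4) := by
  have h1 : (q.out : R)⁻¹ * x ∈ Subgroup.center R := QuotientGroup.eq.1 ((QuotientGroup.out_eq' q).trans hx.symm)
  have hs := S.sc_of_center ((q.out : R)⁻¹ * x).2 h1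
  set z := (((q.out : R)⁻¹ * x : R) : G4)
  have e : (x : G4) = ((q.out : R) : G4) * z := (mul_inv_cancel_left _ _).symm
  rw [e, mul_assoc, hs.comm v, ← mul_assoc, ← mul_assoc]
  exact ⟨fun h => by rw [h], fun h => mul_right_cancel h⟩

/-- The number of fixed cosets. -/
theorem fixed_cases (S : Sym R) (hy : y ∈ Subgroup.normalizer (R : Set (GL ι F))) [hr : Fact r.Prime] (hro : Odd r)
    (hyr : y ^ r = 1) (hns : ¬ Sc y) :
    (r = 5 ∧ Nat.card {q // sig hy q = q} = 1) ∨
      (r = 3 ∧ (Nat.card {q // sig hy q = q} = 1 ∨ Nat.card {q // sig hy q = q} = 4)) := by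
  classical
  haveI := S.fin
  haveI := S.nonempty
  set σ := sig hy with hσdef
  have hσ : σ.toEquiv ^ r = 1 := sig_pow hy hyr
  set H : Subgroup (R ⧸ Subgroup.center R) :=
    MonoidHom.eqLocus σ.toMonoidHom (MonoidHom.id (R ⧸ Subgroup.center R)) with hH
  set n := Nat.card {q // σ q = q} with hn
  have hnH : Nat.card H = n := rfl
  have hdvd : n ∣ 16 := by rw [← hnH, ← S.card_quotient]; exact Subgroup.card_subgroup_dvd_card H
  have hmod : 16 ≡ n [MOD r] := by
    have h := card_modEq (r := r) (P := fun _ : R ⧸ Subgroup.center R => True) hσ (fun _ _ => trivial)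
    have e1 : Nat.card {q : R ⧸ Subgroup.center R // True} = 16 := by
      rw [← S.card_quotient]; exact Nat.card_congr (Equiv.subtypeUnivEquiv fun _ => trivial)
    have e2 : Nat.card {q : R ⧸ Subgroup.center R // True ∧ σ.toEquiv q = q} = n :=
      Nat.card_congr (Equiv.subtypeEquivRight fun _ => and_iff_right trivial)
    rwa [e1, e2] at h
  have hn16 : n ≠ 16 := fun h => hns (by
    refine S.sc_of_commute_vec fun q => ?_
    have hq : q ∈ H := by
      rw [(Subgroup.card_eq_iff_eq_top H).1 (by rw [hnH, h, S.card_quotient])]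
      exact Subgroup.mem_top q
    exact congrArg Units.val ((fixed_iff S hy hro hyr q).1 hq))
  have hr2 : r ≠ 2 := fun h => by rw [h] at hro; exact absurd hro (by decide)
  have h7 : ¬ (r = 7 ∧ n = 2) := by
    rintro ⟨rfl, hn2⟩
    haveI : Nontrivial {q // σ q = q} := Finite.one_lt_card_iff_nontrivial.1 (by rw [← hn, hn2]; norm_num)
    obtain ⟨⟨q0, hq0⟩, hne⟩ := exists_ne (⟨1, map_one σ⟩ : {q // σ q = q})
    have hq01 : q0 ≠ 1 := fun h => hne (Subtype.ext h)
    set v : G4 := ((q0.out : R) : G4) with hv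
    have hvns : ¬ Sc v := fun h => hq01 (by
      rw [← QuotientGroup.out_eq' q0]; exact (QuotientGroup.eq_one_iff _).2 (S.center_of_sc h))
    have hyv := (fixed_iff S hy hro hyr q0).1 hq0
    obtain ⟨h, hh, hvh⟩ := S.exists_anti q0.out.2 hvns
    let P : R ⧸ Subgroup.center R → Prop := fun q => ((q.out : R) : G4) * v = v * ((q.out : R) : G4)
    have hP : ∀ q, P q → P (σ.toEquiv q) := fun q hq => by
      refine (commute_mk_iff S (q := σ q) (x := conjR hy q.out) ?_).2 ?_
      · rw [hσdef, ← sig_mk, QuotientGroup.out_eq']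
      · show y * ((q.out : R) : G4) * y⁻¹ * v = v * (y * ((q.out : R) : G4) * y⁻¹)
        have e : v = y * v * y⁻¹ := by rw [hyv, mul_inv_cancel_right]
        conv_lhs => rw [e]
        conv_rhs => rw [e]
        rw [show y * ((q.out : R) : G4) * y⁻¹ * (y * v * y⁻¹) = y * (((q.out : R) : G4) * v) * y⁻¹ by group, hq]
        group
    set hq : R ⧸ Subgroup.center R := ((⟨h, hh⟩ : R) : R ⧸ Subgroup.center R) with hhq
    have hflip : ∀ q, P (q * hq) ↔ ¬ P q := fun q => by
      show (_ * v = v * _) ↔ _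
      rw [commute_mk_iff S (q := q * hq) (x := q.out * ⟨h, hh⟩) (by rw [QuotientGroup.mk_mul, QuotientGroup.out_eq'])]
      show ((q.out : R) : G4) * h * v = v * (((q.out : R) : G4) * h) ↔ _
      have e1 : ((q.out : R) : G4) * h * v = -(((q.out : R) : G4) * v * h) := by
        have hhv : h * v = -(v * h) := by rw [hvh, neg_neg]
        rw [mul_assoc, hhv, mul_neg, ← mul_assoc]
      rw [e1, ← mul_assoc v]
      rcases S.comm _ q.out.2 v q0.out.2 with e | e
      · simp only [P, e, not_true_eq_false, iff_false]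
        exact (ne_neg_self S.two _).symm
      · simp only [P, e, neg_mul, neg_neg, true_iff]
        exact (ne_neg_self S.two _).symm
    have h8 : Nat.card {q // P q} = 8 := by
      have e : Nat.card {q // P q} = Nat.card {q // ¬ P q} := (Nat.card_congr ((Equiv.mulRight hq).subtypeEquiv
        (p := fun q => ¬ P q) (q := P) fun q => (hflip q).symm)).symm
      have e2 := Nat.card_congr (Equiv.sumCompl P)
      rw [Nat.card_sum, S.card_quotient] at e2
      omega
    have h9 := card_modEq (r := 7) hσ hP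
    have e : Nat.card {q // P q ∧ σ.toEquiv q = q} = n := by
      refine Nat.card_congr (Equiv.subtypeEquivRight fun q => ⟨fun h => h.2, fun h => ⟨?_, h⟩⟩)
      have hq' : q = 1 ∨ q = q0 := by
        by_contra hcon
        push Not at hcon
        haveI := Fintype.ofFinite {q // σ q = q}
        have h3 : ({⟨1, map_one σ⟩, ⟨q0, hq0⟩, ⟨q, h⟩} : Finset {q // σ q = q}).card = 3 :=
          Finset.card_eq_three.2 ⟨_, _, _, fun e => hq01 (congrArg Subtype.val e).symm,
            fun e => hcon.1 (congrArg Subtype.val e).symm, fun e => hcon.2 (congrArg Subtype.val e).symm, rfl⟩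
        have h4 := Finset.card_le_univ ({⟨1, map_one σ⟩, ⟨q0, hq0⟩, ⟨q, h⟩} : Finset {q // σ q = q})
        rw [h3, ← Nat.card_eq_fintype_card, ← hn, hn2] at h4
        omega
      rcases hq' with rfl | rfl
      · exact (commute_mk_iff S (q := (1 : R ⧸ Subgroup.center R)) (x := 1) rfl).2 (by simp)
      · rfl
    rw [h8, e, hn2] at h9
    exact absurd h9 (by decide)
  have hr5 : r ∣ 16 - n := (Nat.modEq_iff_dvd' (Nat.le_of_dvd (by norm_num) hdvd)).1 hmod.symm
  obtain ⟨k, hk, hk'⟩ := (Nat.dvd_prime_pow Nat.prime_two).1 (show n ∣ 2 ^ 4 from hdvd)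
  interval_cases k <;> rw [hk'] at hr5 hn16 h7 ⊢ <;> first | (exfalso; revert hn16; decide) | (norm_num at hr5 h7 ⊢)
  all_goals
    have hrle := Nat.le_of_dvd (by norm_num) hr5
    have hp := hr.out
    interval_cases r <;> first | omega | norm_num at hp | norm_num at hr5 | simp at hr2 | decide

end Cfsg.Agent.Classical.CliffordFour
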