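import Cfsg.Agent.Lib.Classical.CliffordFourFrame

/-!
Two-groups of symplectic type in dimension 4: two commuting anticommuting pairs and the sixteen products.
-/

set_option autoImplicit false
set_option linter.style.haveILetI false
set_option linter.unusedSectionVars false

namespace Cfsg.Agent.Classical.CliffordFour

open Matrix

variable {F : Type*} [Field F] {ι : Type} [Fintype ι] [DecidableEq ι]

local notation "G4" => GL ι F
local notation "M4" => Matrix ι ι F

variable {R : Subgroup (GL ι F)}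

/-- Two commuting pairs of anticommuting elements with squares `1` and `-1`. -/
structure Frame (R : Subgroup (GL ι F)) where
  a : GL ι F
  b : GL ι F
  c : GL ι F
  d : GL ι F
  ha : a ∈ R
  hb : b ∈ R
  hc : c ∈ R
  hd : d ∈ R
  aa : a * a = 1
  bb : b * b = 1
  cc : c * c = -1
  dd : d * d = -1
  ab : a * b = -(b * a)
  cd : c * d = -(d * c)
  ac : a * c = c * a
  ad : a * d = d * a
  bc : b * c = c * b
  bd : b * d = d * b

/-- Commuting square roots of one in different pairs can be turned into square roots of minus one. -/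
def HasFix (R : Subgroup (GL ι F)) : Prop :=
  ∀ a b c d : GL ι F, a ∈ R → b ∈ R → c ∈ R → d ∈ R → a * a = 1 → c * c = 1 → a * c = c * a →
    a * b = -(b * a) → c * d = -(d * c) → b * c = c * b → a * d = d * a → ∃ z ∈ R, Sc z ∧ z * z = -1

/-- A correction commuting with an anticommuting pair. -/
theorem exists_corr (S : Sym R) {g h : G4} (hg : g ∈ R) (hh : h ∈ R) (hgh : g * h = -(h * g)) {u : G4} (hu : u ∈ R) :
    ∃ k, (k = 1 ∨ k = g ∨ k = h ∨ k = g * h) ∧ k ∈ R ∧ g * (u * k) = u * k * g ∧ h * (u * k) = u * k * h := by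
  have hhg : h * g = -(g * h) := by rw [hgh, neg_neg]
  rcases S.comm g hg u hu with e1 | e1 <;> rcases S.comm h hh u hu with e2 | e2
  · exact ⟨1, Or.inl rfl, one_mem _, by simpa using e1, by simpa using e2⟩
  · refine ⟨g, Or.inr (Or.inl rfl), hg, by rw [← mul_assoc, e1], ?_⟩
    rw [← mul_assoc, e2, neg_mul, mul_assoc u h g, hhg, mul_neg, neg_neg, mul_assoc]
  · refine ⟨h, Or.inr (Or.inr (Or.inl rfl)), hh, ?_, by rw [← mul_assoc, e2]⟩
    rw [← mul_assoc, e1, neg_mul, mul_assoc u g h, hgh, mul_neg, neg_neg, mul_assoc]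
  · refine ⟨g * h, Or.inr (Or.inr (Or.inr rfl)), mul_mem hg hh, ?_, ?_⟩
    · rw [← mul_assoc g u, e1, neg_mul, mul_assoc u g, mul_assoc u (g * h), mul_assoc g h g, hhg, mul_neg, mul_neg]
    · rw [← mul_assoc h u, e2, neg_mul, mul_assoc u h, mul_assoc u (g * h), ← mul_assoc h g h, hhg, neg_mul,
        mul_neg, neg_neg, mul_assoc g h h]

/-- Inverses of the cosets of `1, g, h, g * h`. -/
def quot4 {G : Type*} [Group G] {R : Subgroup G} (g h : R) : Fin 4 → R ⧸ Subgroup.center R :=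
  fun i => ((![1, g, h, g * h] i : R) : R ⧸ Subgroup.center R)⁻¹

theorem mem_quot4 {G : Type*} [Group G] {R : Subgroup G} {g h : R} (q : R ⧸ Subgroup.center R) (k : R)
    (hs : q.out * k ∈ Subgroup.center R) (hk : k = 1 ∨ k = g ∨ k = h ∨ k = g * h) : ∃ i, quot4 g h i = q := by
  have h1 : (k : R ⧸ Subgroup.center R)⁻¹ = q := by
    refine (eq_inv_of_mul_eq_one_left ?_).symm
    calc q * (k : R ⧸ Subgroup.center R) = ((q.out * k : R) : R ⧸ Subgroup.center R) := by
          rw [QuotientGroup.mk_mul, QuotientGroup.out_eq']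
      _ = 1 := (QuotientGroup.eq_one_iff _).2 hs
  rcases hk with rfl | rfl | rfl | rfl
  · exact ⟨0, h1⟩
  · exact ⟨1, h1⟩
  · exact ⟨2, h1⟩
  · exact ⟨3, h1⟩

/-- An anticommuting pair in the centraliser of an anticommuting pair. -/
theorem exists_pair (S : Sym R) {g h : G4} (hg : g ∈ R) (hh : h ∈ R) (hgh : g * h = -(h * g)) :
    ∃ c d, c ∈ R ∧ d ∈ R ∧ c * d = -(d * c) ∧ g * c = c * g ∧ h * c = c * h ∧ g * d = d * g ∧ h * d = d * h := by
  classical
  haveI := S.fin
  haveI := Fintype.ofFinite (R ⧸ Subgroup.center R)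
  obtain ⟨c, hcR, hcg, hch, hcs⟩ : ∃ c ∈ R, g * c = c * g ∧ h * c = c * h ∧ ¬ Sc c := by
    by_contra hcon
    push Not at hcon
    have hT : Function.Surjective (quot4 (R := R) (⟨g, hg⟩ : R) ⟨h, hh⟩) := by
      intro q
      obtain ⟨u, hu, hqu⟩ : ∃ (u : G4) (hu : u ∈ R), (q.out : R) = ⟨u, hu⟩ :=
        ⟨((q.out : R) : G4), SetLike.coe_mem _, rfl⟩
      obtain ⟨k, hk, hkR, e1, e2⟩ := exists_corr S hg hh hgh hu
      have hs : (q.out : R) * ⟨k, hkR⟩ ∈ Subgroup.center R := by
        rw [hqu]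
        exact S.center_of_sc (g := ⟨u, hu⟩ * ⟨k, hkR⟩) (hcon (u * k) (mul_mem hu hkR) e1 e2)
      exact mem_quot4 q ⟨k, hkR⟩ hs (hk.imp Subtype.ext (Or.imp Subtype.ext (Or.imp Subtype.ext Subtype.ext)))
    have h1 := Nat.card_le_card_of_surjective _ hT
    rw [S.card_quotient, Nat.card_eq_fintype_card, Fintype.card_fin] at h1
    omega
  obtain ⟨w, hw, hcw⟩ := S.exists_anti hcR hcs
  obtain ⟨k, hk, hkR, e1, e2⟩ := exists_corr S hg hh hgh hw
  refine ⟨c, w * k, hcR, mul_mem hw hkR, ?_, hcg, hch, e1, e2⟩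
  have hkc : c * k = k * c := by
    rcases hk with rfl | rfl | rfl | rfl
    · simp
    · exact hcg.symm
    · exact hch.symm
    · rw [← mul_assoc, ← hcg, mul_assoc, ← hch, mul_assoc]
  rw [← mul_assoc, hcw, neg_mul, mul_assoc w c k, hkc, mul_assoc]

theorem exists_frame (S : Sym R) (hfix : HasFix R) : Nonempty (Frame R) := by
  haveI := S.fin
  obtain ⟨g, hg, hgs⟩ : ∃ g ∈ R, ¬ Sc g := by
    by_contra h
    push Not at h
    have htop : Subgroup.center R = ⊤ := eq_top_iff.2 fun x _ => S.center_of_sc (h x x.2)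
    have hc := S.card
    rw [htop, Subgroup.card_top] at hc
    have := Nat.card_pos (α := R)
    omega
  obtain ⟨h, hh, hgh⟩ := S.exists_anti hg hgs
  have hhs : ¬ Sc h := S.not_sc_of_anti (h := g) (by rw [hgh, neg_neg])
  -- an involution
  obtain ⟨a, ha, haa, h0, hh0, hah⟩ : ∃ a ∈ R, a * a = 1 ∧ ∃ h ∈ R, a * h = -(h * a) := by
    rcases S.sq g hg with e1 | e1
    · exact ⟨g, hg, e1, h, hh, hgh⟩
    rcases S.sq h hh with e2 | e2
    · exact ⟨h, hh, e2, g, hg, by rw [hgh, neg_neg]⟩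
    obtain ⟨c, d, hc, hd, hcd, hgc, hhc, -, -⟩ := exists_pair S hg hh hgh
    rcases S.sq c hc with e3 | e3
    · exact ⟨c, hc, e3, d, hd, hcd⟩
    refine ⟨g * c, mul_mem hg hc, ?_, h, hh, ?_⟩
    · calc g * c * (g * c) = g * (c * g) * c := by group
        _ = g * g * (c * c) := by rw [← hgc]; group
        _ = 1 := by rw [e1, e3]; simp
    · rw [mul_assoc g c h, ← hhc, ← mul_assoc, hgh, neg_mul, mul_assoc]
  obtain ⟨b, hb, hbb, hab⟩ : ∃ b ∈ R, b * b = 1 ∧ a * b = -(b * a) := by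
    rcases S.sq h0 hh0 with e | e
    · exact ⟨h0, hh0, e, hah⟩
    refine ⟨a * h0, mul_mem ha hh0, ?_, ?_⟩
    · calc a * h0 * (a * h0) = a * (h0 * a) * h0 := by group
        _ = -(a * a * (h0 * h0)) := by
          rw [show h0 * a = -(a * h0) by rw [hah, neg_neg]]; simp [mul_assoc]
        _ = 1 := by rw [haa, e]; simp
    · rw [← mul_assoc, haa, one_mul, mul_assoc, show h0 * a = -(a * h0) by rw [hah, neg_neg], mul_neg, neg_neg,
        ← mul_assoc, haa, one_mul]
  obtain ⟨c, d, hc, hd, hcd, hac, hbc, had, hbd⟩ := exists_pair S ha hb hab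
  obtain ⟨c', hc', hcc, hac', hbc', hcd'⟩ :
      ∃ c', c' ∈ R ∧ c' * c' = -1 ∧ a * c' = c' * a ∧ b * c' = c' * b ∧ c' * d = -(d * c') := by
    rcases S.sq c hc with e | e
    · obtain ⟨z, hz, hzs, hzz⟩ := hfix a b c d ha hb hc hd haa e hac hab hcd hbc had
      refine ⟨z * c, mul_mem hz hc, ?_, ?_, ?_, ?_⟩
      · calc z * c * (z * c) = z * (c * z) * c := by group
          _ = z * z * (c * c) := by rw [← hzs.comm c]; group
          _ = -1 := by rw [hzz, e, mul_one]
      · rw [← mul_assoc, ← hzs.comm a, mul_assoc, hac, mul_assoc]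
      · rw [← mul_assoc, ← hzs.comm b, mul_assoc, hbc, mul_assoc]
      · rw [mul_assoc, hcd, mul_neg, ← mul_assoc, hzs.comm d, mul_assoc]
    · exact ⟨c, hc, e, hac, hbc, hcd⟩
  obtain ⟨d', hd', hdd, had', hbd', hcd''⟩ :
      ∃ d', d' ∈ R ∧ d' * d' = -1 ∧ a * d' = d' * a ∧ b * d' = d' * b ∧ c' * d' = -(d' * c') := by
    rcases S.sq d hd with e | e
    · obtain ⟨z, hz, hzs, hzz⟩ := hfix a b d c' ha hb hd hc' haa e had hab
        (by rw [hcd', neg_neg]) hbd hac'
      refine ⟨z * d, mul_mem hz hd, ?_, ?_, ?_, ?_⟩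
      · calc z * d * (z * d) = z * (d * z) * d := by group
          _ = z * z * (d * d) := by rw [← hzs.comm d]; group
          _ = -1 := by rw [hzz, e, mul_one]
      · rw [← mul_assoc, ← hzs.comm a, mul_assoc, had, mul_assoc]
      · rw [← mul_assoc, ← hzs.comm b, mul_assoc, hbd, mul_assoc]
      · rw [← mul_assoc, ← hzs.comm c', mul_assoc, hcd', mul_neg, mul_assoc]
    · exact ⟨d, hd, e, had, hbd, hcd'⟩
  exact ⟨⟨a, b, c', d', ha, hb, hc', hd', haa, hbb, hcc, hdd, hab, hcd'', hac', had', hbc', hbd'⟩⟩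

theorem exists_sqrt_neg (S : Sym R) (hcard : Nat.card (Subgroup.center R) = 4) :
    ∃ z ∈ R, Sc z ∧ z * z = -1 := by
  haveI := S.fin
  haveI := S.nonempty
  by_contra hcon
  push Not at hcon
  let T : Set (GL ι F) := {1, -1}
  have hle : (fun z : Subgroup.center R => ((z : R) : GL ι F)) '' Set.univ ⊆ T := by
    rintro _ ⟨⟨⟨z, hz⟩, hzc⟩, -, rfl⟩
    have hzs := S.sc_of_center hz hzc
    obtain ⟨s, hs⟩ := hzs
    have hzz := (S.sq z hz).resolve_right (hcon z hz ⟨s, hs⟩)
    have hs2 : s * s = 1 := by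
      have h := congrArg (fun u : G4 => (u : M4) (Classical.arbitrary ι) (Classical.arbitrary ι)) hzz
      simpa [hs] using h
    rcases mul_self_eq_one_iff.1 hs2 with rfl | rfl
    · exact Or.inl (Units.ext (by simpa using hs))
    · exact Or.inr (Units.ext (by simpa using hs))
  have h1 := Set.ncard_le_ncard hle ((Set.finite_singleton _).insert _)
  rw [Set.ncard_image_of_injective _ (fun z z' e => Subtype.ext (Subtype.ext e)), Set.ncard_univ, hcard] at h1
  have h2 : T.ncard ≤ 2 := (Set.ncard_insert_le _ _).trans (by rw [Set.ncard_singleton])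
  omega

theorem hasFix_of_card_center (S : Sym R) (hcard : Nat.card (Subgroup.center R) = 4) : HasFix R :=
  fun _ _ _ _ _ _ _ _ _ _ _ _ _ _ _ => exists_sqrt_neg S hcard

theorem hasFix_of_minus (S : Sym R) (hm : Cfsg.Geo.IsOfMinusType 2 R) : HasFix R := by
  haveI := S.fin
  haveI := S.nonempty
  intro a b c d ha hb hc hd haa hcc hac hab hcd hbc had
  exfalso
  let K : Set R := {⟨-1, S.neg⟩, ⟨a, ha⟩, ⟨c, hc⟩}
  have hcomm : ∀ x ∈ K, ∀ y ∈ K, x * y = y * x := by
    rintro x (rfl | rfl | rfl) y (rfl | rfl | rfl) <;> refine Subtype.ext ?_ <;>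
      simp only [Subgroup.coe_mul, neg_one_mul, mul_neg_one]
    · exact hac
    · exact hac.symm
  haveI hA : IsMulCommutative (Subgroup.closure K) := Subgroup.isMulCommutative_closure hcomm
  have hsq : ∀ x ∈ Subgroup.closure K, x * x = 1 := by
    intro x hx
    induction hx using Subgroup.closure_induction with
    | mem y hy =>
      rcases hy with rfl | rfl | rfl <;> refine Subtype.ext ?_ <;> simp [haa, hcc]
    | one => simp
    | mul y z hy hz ey ez =>
      have h : z * y = y * z := congrArg Subtype.val (hA.is_comm.comm ⟨z, hz⟩ ⟨y, hy⟩)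
      calc y * z * (y * z) = y * (z * y) * z := by group
        _ = (y * y) * (z * z) := by rw [h]; group
        _ = 1 := by rw [ey, ez, one_mul]
    | inv y _ ey => rw [← _root_.mul_inv_rev, ey, inv_one]
  have h8 := hm (Subgroup.closure K) hA hsq
  let f : Bool × Bool × Bool → Subgroup.closure K := fun p =>
    (if p.1 then ⟨⟨-1, S.neg⟩, Subgroup.subset_closure (Or.inl rfl)⟩ else 1) *
      (if p.2.1 then ⟨⟨a, ha⟩, Subgroup.subset_closure (Or.inr (Or.inl rfl))⟩ else 1) *
      (if p.2.2 then ⟨⟨c, hc⟩, Subgroup.subset_closure (Or.inr (Or.inr rfl))⟩ else 1)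
  have hfv : ∀ p, ((f p : R) : G4) = (if p.1 then -1 else 1) * (if p.2.1 then a else 1) * (if p.2.2 then c else 1) := by
    rintro ⟨u, v, w⟩; cases u <;> cases v <;> cases w <;> rfl
  -- the second and third exponent are determined by commutation with `b` and `d`
  have key : ∀ p : Bool × Bool × Bool, (((f p : R) : G4) * b = b * ((f p : R) : G4) ↔ p.2.1 = false) ∧
      (((f p : R) : G4) * d = d * ((f p : R) : G4) ↔ p.2.2 = false) := by
    have n1 : ∀ g : G4, ¬ g = -g := ne_neg_self S.two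
    have n2 : ∀ g : G4, ¬ -g = g := fun g h => n1 g h.symm
    have hab' : ∀ g, a * (b * g) = -(b * (a * g)) := fun g => by rw [← mul_assoc, hab, neg_mul, mul_assoc]
    have hcd' : ∀ g, c * (d * g) = -(d * (c * g)) := fun g => by rw [← mul_assoc, hcd, neg_mul, mul_assoc]
    have had' : ∀ g, a * (d * g) = d * (a * g) := fun g => by rw [← mul_assoc, had, mul_assoc]
    rintro ⟨u, v, w⟩
    constructor <;> rw [hfv] <;> cases u <;> cases v <;> cases w <;>
      simp [mul_assoc, hab, hcd, had, hbc.symm, hab', hcd', had', n1, n2]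
  have hinj : Function.Injective f := by
    intro p p' h
    have hv : ((f p : R) : G4) = ((f p' : R) : G4) := by rw [h]
    obtain ⟨k1, k2⟩ := key p
    obtain ⟨k1', k2'⟩ := key p'
    rw [hv] at k1 k2
    have e1 : p.2.1 = p'.2.1 := Bool.eq_iff_iff.2 (by
      have := k1.symm.trans k1'
      cases hp : p.2.1 <;> cases hp' : p'.2.1 <;> simp [hp, hp'] at this ⊢)
    have e2 : p.2.2 = p'.2.2 := Bool.eq_iff_iff.2 (by
      have := k2.symm.trans k2'
      cases hp : p.2.2 <;> cases hp' : p'.2.2 <;> simp [hp, hp'] at this ⊢)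
    rw [hfv, hfv, e1, e2] at hv
    have e0 := mul_right_cancel (mul_right_cancel hv)
    refine Prod.ext ?_ (Prod.ext e1 e2)
    cases hp : p.1 <;> cases hp' : p'.1 <;> simp [hp, hp'] at e0 ⊢
    · exact ne_neg_self S.two (1 : GL ι F) e0
    · exact ne_neg_self S.two (1 : GL ι F) e0.symm
  have h9 := Nat.card_le_card_of_injective f hinj
  simp only [Nat.card_prod, Nat.card_eq_fintype_card (α := Bool), Fintype.card_bool] at h9
  norm_num at h8
  omega

namespace Frame

variable (E : Frame R)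

/-- The factors from the first pair. -/
def P : Fin 4 → GL ι F := ![1, E.a, E.b, E.a * E.b]

/-- The factors from the second pair. -/
def M : Fin 4 → GL ι F := ![1, E.c, E.d, E.c * E.d]

/-- The sixteen products. -/
def mon (p : Fin 4 × Fin 4) : GL ι F := E.P p.1 * E.M p.2

theorem mon_mem (p : Fin 4 × Fin 4) : E.mon p ∈ R := by
  refine mul_mem ?_ ?_
  · have := E.ha; have := E.hb
    obtain ⟨i, j⟩ := p
    fin_cases i <;> simp [P, mul_mem, one_mem, *]
  · have := E.hc; have := E.hd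
    obtain ⟨i, j⟩ := p
    fin_cases j <;> simp [M, mul_mem, one_mem, *]

theorem P_comm_M (i j : Fin 4) : E.P i * E.M j = E.M j * E.P i := by
  have h1 : Commute E.a E.c := E.ac
  have h2 : Commute E.a E.d := E.ad
  have h3 : Commute E.b E.c := E.bc
  have h4 : Commute E.b E.d := E.bd
  have hA : ∀ j, Commute E.a (E.M j) := fun j => by fin_cases j <;> simp [M, h1, h2, h1.mul_right h2]
  have hB : ∀ j, Commute E.b (E.M j) := fun j => by fin_cases j <;> simp [M, h3, h4, h3.mul_right h4]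
  show Commute _ _
  fin_cases i <;> simp [P, hA, hB, (hA _).mul_left (hB _)]

theorem mon_comm_iff (S : Sym R) (p : Fin 4 × Fin 4) :
    (E.mon p * E.a = E.a * E.mon p ↔ p.1 = 0 ∨ p.1 = 1) ∧ (E.mon p * E.b = E.b * E.mon p ↔ p.1 = 0 ∨ p.1 = 2) ∧
    (E.mon p * E.c = E.c * E.mon p ↔ p.2 = 0 ∨ p.2 = 1) ∧ (E.mon p * E.d = E.d * E.mon p ↔ p.2 = 0 ∨ p.2 = 2) := by
  haveI := S.nonempty
  obtain ⟨i, j⟩ := p
  have n1 : ∀ g : G4, ¬ g = -g := ne_neg_self S.two
  have n2 : ∀ g : G4, ¬ -g = g := fun g h => n1 g h.symm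
  have hba : E.b * E.a = -(E.a * E.b) := by rw [E.ab, neg_neg]
  have hdc : E.d * E.c = -(E.c * E.d) := by rw [E.cd, neg_neg]
  have aa : E.a * (E.a * E.b) = E.b := by rw [← mul_assoc, E.aa, one_mul]
  have bb : E.a * E.b * E.b = E.a := by rw [mul_assoc, E.bb, mul_one]
  have cc : E.c * (E.c * E.d) = -E.d := by rw [← mul_assoc, E.cc, neg_one_mul]
  have dd : E.c * E.d * E.d = -E.c := by rw [mul_assoc, E.dd, mul_neg_one]
  have hM : ∀ g : G4, (∀ k, Commute g (E.M k)) → ∀ h : G4,
      (h * E.M j * g = g * (h * E.M j) ↔ h * g = g * h) := fun g hg h => by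
    rw [mul_assoc h, ← (hg j).eq, ← mul_assoc, ← mul_assoc, mul_left_inj]
  have hP : ∀ g : G4, (∀ k, Commute (E.P k) g) → ∀ h : G4,
      (E.P i * h * g = g * (E.P i * h) ↔ h * g = g * h) := fun g hg h => by
    rw [← mul_assoc g, ← (hg i).eq, mul_assoc, mul_assoc, mul_right_inj]
  have hA : ∀ k, Commute E.a (E.M k) := fun k => E.P_comm_M 1 k
  have hB : ∀ k, Commute E.b (E.M k) := fun k => E.P_comm_M 2 k
  have hC : ∀ k, Commute (E.P k) E.c := fun k => E.P_comm_M k 1
  have hD : ∀ k, Commute (E.P k) E.d := fun k => E.P_comm_M k 2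
  refine ⟨?_, ?_, ?_, ?_⟩
  · rw [mon, hM _ hA]
    fin_cases i <;> simp [P, hba, n1, n2]
    all_goals (rw [mul_assoc, hba, mul_neg]; exact n2 _)
  · rw [mon, hM _ hB]
    fin_cases i <;> simp [P, hba, n1, n2]
    all_goals (rw [← mul_assoc E.b E.a E.b, hba, neg_mul, mul_assoc]; exact n1 _)
  · rw [mon, hP _ hC]
    fin_cases j <;> simp [M, hdc, n1, n2]
    all_goals (rw [mul_assoc, hdc, mul_neg]; exact n2 _)
  · rw [mon, hP _ hD]
    fin_cases j <;> simp [M, hdc, n1, n2]
    all_goals (rw [← mul_assoc E.d E.c E.d, hdc, neg_mul, mul_assoc]; exact n1 _)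

theorem mon_bijective (S : Sym R) :
    Function.Bijective fun p : Fin 4 × Fin 4 => ((⟨E.mon p, E.mon_mem p⟩ : R) : R ⧸ Subgroup.center R) := by
  haveI := S.fin
  refine (Nat.bijective_iff_injective_and_card _).2 ⟨fun p p' h => ?_, by
    rw [S.card_quotient]; simp⟩
  have hs := S.sc_of_center ((⟨E.mon p, E.mon_mem p⟩ : R)⁻¹ * ⟨E.mon p', E.mon_mem p'⟩).2 (QuotientGroup.eq.1 h)
  have e : ∀ g : G4, E.mon p * g = g * E.mon p ↔ E.mon p' * g = g * E.mon p' := fun g => by
    set z := ((((⟨E.mon p, E.mon_mem p⟩ : R))⁻¹ * ⟨E.mon p', E.mon_mem p'⟩ : R) : G4)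
    have e : E.mon p' = E.mon p * z := (mul_inv_cancel_left (E.mon p) (E.mon p')).symm
    rw [e, mul_assoc _ z, hs.comm g, ← mul_assoc, ← mul_assoc, mul_left_inj]
  obtain ⟨k1, k2, k3, k4⟩ := E.mon_comm_iff S p
  obtain ⟨l1, l2, l3, l4⟩ := E.mon_comm_iff S p'
  rw [e] at k1 k2 k3 k4
  have m1 := k1.symm.trans l1
  have m2 := k2.symm.trans l2
  have m3 := k3.symm.trans l3
  have m4 := k4.symm.trans l4
  revert m1 m2 m3 m4
  obtain ⟨i, j⟩ := p
  obtain ⟨i', j'⟩ := p'
  clear * - i j i' j'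
  revert i j i' j'
  decide

theorem commute_all (S : Sym R) {T : M4} (ha : T * (E.a : M4) = E.a * T) (hb : T * (E.b : M4) = E.b * T)
    (hc : T * (E.c : M4) = E.c * T) (hd : T * (E.d : M4) = E.d * T) : ∃ z : F, T = z • 1 := by
  refine S.sc T fun g hg => ?_
  obtain ⟨p, hp⟩ := (E.mon_bijective S).2 ((⟨g, hg⟩ : R) : R ⧸ Subgroup.center R)
  obtain ⟨z, hz⟩ := S.sc_of_center ((⟨E.mon p, E.mon_mem p⟩ : R)⁻¹ * ⟨g, hg⟩).2 (QuotientGroup.eq.1 hp)
  have e : (g : M4) = z • (E.mon p : M4) := by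
    calc (g : M4) = (E.mon p : M4) * (((E.mon p)⁻¹ * g : G4) : M4) := by rw [← Units.val_mul, mul_inv_cancel_left]
      _ = _ := by
        rw [show (((E.mon p)⁻¹ * g : G4) : M4) = z • 1 from hz, Matrix.mul_smul, mul_one]
  have hP : ∀ i, Commute T (E.P i : M4) := fun i => by
    fin_cases i <;> simp [P, show Commute T (E.a : M4) from ha, show Commute T (E.b : M4) from hb,
      (show Commute T (E.a : M4) from ha).mul_right (show Commute T (E.b : M4) from hb)]
  have hM : ∀ j, Commute T (E.M j : M4) := fun j => by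
    fin_cases j <;> simp [M, show Commute T (E.c : M4) from hc, show Commute T (E.d : M4) from hd,
      (show Commute T (E.c : M4) from hc).mul_right (show Commute T (E.d : M4) from hd)]
  rw [e, Matrix.mul_smul, Matrix.smul_mul, mon, Units.val_mul, ((hP p.1).mul_right (hM p.2)).eq]

end Frame

variable {y : GL ι F}

/-- In the minus type an element of order three of the normaliser fixes more than one coset. -/
theorem fixed_ne_one (S : Sym R) (E : Frame R) (hcard : Nat.card (Subgroup.center R) = 2)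
    (hy : y ∈ Subgroup.normalizer (R : Set (GL ι F))) (hyr : y ^ 3 = 1) :
    Nat.card {q // sig hy q = q} ≠ 1 := by
  classical
  haveI := S.fin
  haveI := S.nonempty
  haveI : Fact (Nat.Prime 3) := ⟨Nat.prime_three⟩
  intro h1
  let T : R ⧸ Subgroup.center R → Prop := fun q => q ≠ 1 ∧ ((q.out : R) : G4) * ((q.out : R) : G4) = 1
  have hz2 : ∀ (z : R), z ∈ Subgroup.center R → (z : G4) * (z : G4) = 1 := fun z hz => by
    have h := pow_card_eq_one' (x := (⟨z, hz⟩ : Subgroup.center R))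
    rw [hcard, pow_two] at h
    exact congrArg (fun u : Subgroup.center R => ((u : R) : G4)) h
  have hsq : ∀ (x : R) (q : R ⧸ Subgroup.center R), (x : R ⧸ Subgroup.center R) = q →
      (((q.out : R) : G4) * ((q.out : R) : G4) = 1 ↔ (x : G4) * x = 1) := by
    intro x q hx
    have h1 : (q.out : R)⁻¹ * x ∈ Subgroup.center R := QuotientGroup.eq.1 ((QuotientGroup.out_eq' q).trans hx.symm)
    have hzz := hz2 _ h1
    have hzs := S.sc_of_center ((q.out : R)⁻¹ * x).2 h1
    set z := (((q.out : R)⁻¹ * x : R) : G4)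
    have e : (x : G4) = ((q.out : R) : G4) * z := (mul_inv_cancel_left _ _).symm
    rw [e, mul_assoc _ z, hzs.comm, mul_assoc _ z z, hzz, mul_one]
  have hT : ∀ q, T q → T ((sig hy).toEquiv q) := by
    rintro q ⟨h2, h3⟩
    refine ⟨fun e => h2 ((sig hy).injective (e.trans (map_one _).symm)), ?_⟩
    refine (hsq (conjR hy q.out) _ (by rw [← sig_mk, QuotientGroup.out_eq']; rfl)).2 ?_
    show y * ((q.out : R) : G4) * y⁻¹ * (y * ((q.out : R) : G4) * y⁻¹) = 1
    rw [show y * ((q.out : R) : G4) * y⁻¹ * (y * ((q.out : R) : G4) * y⁻¹) =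
      y * (((q.out : R) : G4) * ((q.out : R) : G4)) * y⁻¹ by group, h3, mul_one, mul_inv_cancel]
  have hcardT : Nat.card {q // T q} = 5 := by
    let bij := Equiv.ofBijective _ (E.mon_bijective S)
    let sP : Fin 4 → Bool := ![true, true, true, false]
    let sM : Fin 4 → Bool := ![true, false, false, false]
    have hba : E.b * E.a = -(E.a * E.b) := by rw [E.ab, neg_neg]
    have hdc : E.d * E.c = -(E.c * E.d) := by rw [E.cd, neg_neg]
    have hPsq : ∀ i, E.P i * E.P i = if sP i then 1 else -1 := fun i => by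
      fin_cases i <;> simp [Frame.P, sP, E.aa, E.bb]
      rw [mul_assoc, ← mul_assoc E.b, hba, neg_mul, mul_neg, mul_assoc E.a E.b, E.bb, mul_one, E.aa]
    have hMsq : ∀ i, E.M i * E.M i = if sM i then 1 else -1 := fun i => by
      fin_cases i <;> simp [Frame.M, sM, E.cc, E.dd]
      rw [mul_assoc, ← mul_assoc E.d, hdc, neg_mul, mul_neg, mul_assoc E.c E.d, E.dd]
      simp [E.cc]
    have hTiff : ∀ p, T (bij p) ↔ p ≠ (0, 0) ∧ sP p.1 = sM p.2 := by
      intro p
      refine and_congr ?_ ?_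
      · have e0 : bij (0, 0) = 1 := (QuotientGroup.eq_one_iff _).2 (S.center_of_sc ⟨1, by simp [Frame.mon, Frame.P, Frame.M]⟩)
        rw [← e0]
        exact bij.injective.ne_iff
      · refine (hsq ⟨E.mon p, E.mon_mem p⟩ _ rfl).trans ?_
        show E.P p.1 * E.M p.2 * (E.P p.1 * E.M p.2) = 1 ↔ _
        rw [show E.P p.1 * E.M p.2 * (E.P p.1 * E.M p.2) = E.P p.1 * (E.M p.2 * E.P p.1) * E.M p.2 by group,
          ← E.P_comm_M, show E.P p.1 * (E.P p.1 * E.M p.2) * E.M p.2 = E.P p.1 * E.P p.1 * (E.M p.2 * E.M p.2) by group,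
          hPsq, hMsq]
        have n1 : ¬ (-1 : G4) = 1 := fun h => ne_neg_self S.two (1 : GL ι F) h.symm
        cases sP p.1 <;> cases sM p.2 <;> simp [n1]
    rw [← Nat.card_congr (bij.subtypeEquiv (p := fun p => p ≠ (0, 0) ∧ sP p.1 = sM p.2) (q := T) fun p => (hTiff p).symm),
      Nat.card_eq_fintype_card]
    decide
  have h := card_modEq (r := 3) (sig_pow hy hyr) hT
  have h0 : Nat.card {q // T q ∧ (sig hy).toEquiv q = q} = 0 := by
    rw [Nat.card_eq_zero]
    refine Or.inl ⟨fun ⟨q, ⟨hq1, _⟩, hq⟩ => hq1 ?_⟩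
    haveI := (Nat.card_eq_one_iff_unique.1 h1).1
    exact congrArg Subtype.val (Subsingleton.elim (⟨q, hq⟩ : {q // sig hy q = q}) ⟨1, map_one _⟩)
  rw [hcardT, h0] at h
  exact absurd h (by decide)

end Cfsg.Agent.Classical.CliffordFour
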