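import Cfsg.Agent.Lib.Classical.CliffordFourElusive

/-!
Two-groups of symplectic type in dimension 4 with centre of order 4: representatives of the classes of elements of
order two and three in the normaliser.
-/

set_option autoImplicit false
set_option linter.style.haveILetI false
set_option linter.unusedSectionVars false

namespace Cfsg.Agent.Classical.CliffordFour

open Matrix

variable {F : Type*} [Field F] {ι : Type} [Fintype ι] [DecidableEq ι] {R : Subgroup (GL ι F)}

local notation "G4" => GL ι F
local notation "M4" => Matrix ι ι F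

theorem one_sq {x : G4} (hx : x * x = 1) : (x : M4) * x = (1 : F) • 1 := by
  rw [← Units.val_mul, hx, Units.val_one, one_smul]

/-- Multiplying by a scalar of square minus one. -/
theorem sq_mul_scalar {z u : G4} (hz : Sc z) (hzz : z * z = -1) : z * u * (z * u) = -(u * u) := by
  calc z * u * (z * u) = z * (u * z) * u := by group
    _ = z * z * (u * u) := by rw [← hz.comm u]; group
    _ = _ := by rw [hzz, neg_one_mul]

/-- Representatives for the involutions modulo a sign. -/
theorem rep_two (S : Sym R) (E : Frame R) (hZ : Nat.card (Subgroup.center R) = 4) {x : G4} (hx : x * x = 1)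
    (hns : ¬ Sc x) :
    ∃ (s : Fˣ) (y : G4), (s = 1 ∨ s = -1) ∧ y ∈ Subgroup.normalizer (R : Set (GL ι F)) ∧ y * y = 1 ∧
      (scal s * x) * (scal s * x) = 1 ∧ ((scal s * x : G4) : M4).charpoly = (y : M4).charpoly ∧
      ∀ A : Adj F ι, (∀ g ∈ R, A.Iso g) → A.Iso y := by
  obtain ⟨z, hzR, hzs, hzz⟩ := exists_sqrt_neg S hZ
  have h2 := S.two
  have hd := S.dim
  have hsc1 : scal 1 * x = x := by
    rw [show (scal 1 : G4) = 1 from Units.ext (by rw [coe_scal]; simp), one_mul]
  have hscn : scal (-1) * x = -x := by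
    rw [show (scal (-1) : G4) = -1 from Units.ext (by rw [coe_scal]; simp), neg_one_mul]
  rcases invol_trace h2 hd (one_sq hx) hns with ⟨hd1, ht⟩ | ⟨hd1, ht⟩
  · refine ⟨1, E.a, Or.inl rfl, Subgroup.le_normalizer E.ha, E.aa, by rw [hsc1, hx], ?_, fun A hA => hA _ E.ha⟩
    rw [hsc1]
    refine charpoly_two h2 hd (one_pow 4) (one_sq hx) (one_sq E.aa) ?_ ?_
    · rw [ht, S.trace_zero' E.ha (S.not_sc_of_anti E.ab)]
    · rcases invol_trace h2 hd (one_sq E.aa) (S.not_sc_of_anti E.ab) with ⟨e, -⟩ | ⟨-, e | e⟩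
      · rw [hd1, e]
      · rw [S.trace_zero' E.ha (S.not_sc_of_anti E.ab)] at e
        exact absurd e.symm h2
      · rw [S.trace_zero' E.ha (S.not_sc_of_anti E.ab)] at e
        exact absurd (by linear_combination e : (2 : F) = 0) h2
  · have huR : z * E.c ∈ R := mul_mem hzR E.hc
    have huu : z * E.c * (z * E.c) = 1 := by rw [sq_mul_scalar hzs hzz, E.cc, neg_neg]
    have hzu : Commute (z * E.c) E.b := (show Commute z E.b from hzs.comm E.b).mul_left E.bc.symm
    have hua : z * E.c * E.a = E.a * (z * E.c) := (show Commute z E.a from hzs.comm E.a).mul_left E.ac.symm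
    have hus : ¬ Sc (z * E.c) := S.not_sc_of_anti (h := E.d) (by
      rw [mul_assoc, E.cd, mul_neg, ← mul_assoc, hzs.comm E.d, mul_assoc])
    have haus : ¬ Sc (E.a * (z * E.c)) := S.not_sc_of_anti (h := E.b) (by
      rw [mul_assoc, hzu.eq, ← mul_assoc, E.ab, neg_mul, mul_assoc])
    have hC := cz_mem h2 S E.ha huR E.aa huu hua
    have hCC := cz_sq h2 E.aa huu hua
    have hCt := cz_trace h2 S E.ha huR E.aa huu hua (S.not_sc_of_anti E.ab) hus haus
    have hCi : ∀ A : Adj F ι, (∀ g ∈ R, A.Iso g) → A.Iso (cz h2 E.a (z * E.c) E.aa huu hua) := fun A hA =>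
      cz_iso h2 A (hA _ E.ha) (hA _ huR) E.aa huu hua
    set C := cz h2 E.a (z * E.c) E.aa huu hua
    have hCs : ¬ Sc C := by
      rintro ⟨w, hw⟩
      have h1 := congrArg Units.val hCC
      rw [Units.val_mul, hw, Matrix.smul_mul, one_mul, smul_smul, Units.val_one] at h1
      haveI := S.nonempty
      have hw2 : w * w = 1 := by simpa using congrFun (congrFun h1 (Classical.arbitrary ι)) (Classical.arbitrary ι)
      rw [hw, Matrix.trace_smul, Matrix.trace_one, hd, smul_eq_mul] at hCt
      push_cast at hCt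
      rcases mul_self_eq_one_iff.1 hw2 with rfl | rfl
      · exact h2 (by linear_combination hCt)
      · have h6 : (3 : F) = 0 := (mul_eq_zero.1 (show (2 : F) * 3 = 0 by linear_combination -hCt)).resolve_left h2
        -- in characteristic three the trace is settled by the determinant
        have hCd : (C : M4).det = 1 := by
          rw [hw, Matrix.det_smul, Matrix.det_one, hd]; norm_num
        have e : cz h2 E.a (z * E.c) E.aa huu hua = -1 := Units.ext (by rw [hw]; simp)
        have e1 := congrArg (fun u : G4 => u * E.b * u⁻¹) e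
        simp only [inv_neg, inv_one, neg_mul, one_mul, mul_neg, mul_one, neg_neg] at e1
        obtain ⟨v, hv⟩ : ∃ v, v = cz h2 E.a (z * E.c) E.aa huu hua := ⟨_, rfl⟩
        have e2 : (v : M4) = (2 : F)⁻¹ • (1 + (E.a : M4) + ((z * E.c : G4) : M4) - E.a * (z * E.c : G4)) := by
          rw [hv, coe_cz]
        rw [hv, e, Units.val_neg, Units.val_one] at e2
        have e3 := congrArg (fun M : M4 => (M * ((E.a : G4) : M4)).trace) e2
        have t1 := S.trace_zero' E.ha (S.not_sc_of_anti E.ab)
        have t2 := S.trace_zero' huR hus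
        have t3 := S.trace_zero' (mul_mem E.ha huR) haus
        have a1 : (E.a : M4) * E.a = 1 := by rw [← Units.val_mul, E.aa, Units.val_one]
        have a2 : ((z * E.c : G4) : M4) * E.a = E.a * (z * E.c : G4) := by rw [← Units.val_mul, ← Units.val_mul, hua]
        rw [neg_mul, one_mul, Matrix.trace_neg, t1, Matrix.smul_mul, sub_mul, add_mul, add_mul, one_mul, a1,
          mul_assoc (E.a : M4), a2, ← mul_assoc (E.a : M4) (E.a : M4), a1, one_mul, Matrix.trace_smul, Matrix.trace_sub,
          Matrix.trace_add, Matrix.trace_add, Matrix.trace_one, t1, hd, ← Units.val_mul, t3, t2, smul_eq_mul] at e3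
        have : (4 : F) = 0 := by
          have := congrArg (fun w : F => 2 * w) e3
          simp only [← mul_assoc, mul_inv_cancel₀ h2, one_mul] at this
          push_cast at this
          linear_combination -this
        exact h2 (by linear_combination (2 : F) * h6 - this)
    obtain ⟨hCd, -⟩ : (C : M4).det = -1 ∧ True := by
      rcases invol_trace h2 hd (one_sq hCC) hCs with ⟨-, e⟩ | ⟨e, -⟩
      · rw [hCt] at e; exact absurd e h2
      · exact ⟨e, trivial⟩
    rcases ht with ht | ht
    · refine ⟨1, C, Or.inl rfl, hC, hCC, by rw [hsc1, hx], ?_, hCi⟩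
      rw [hsc1]
      exact charpoly_two h2 hd (one_pow 4) (one_sq hx) (one_sq hCC) (by rw [ht, hCt]) (by rw [hd1, hCd])
    · have hnx : -x * -x = 1 := by rw [neg_mul_neg, hx]
      refine ⟨-1, C, Or.inr rfl, hC, hCC, by rw [hscn, hnx], ?_, hCi⟩
      rw [hscn]
      refine charpoly_two h2 hd (one_pow 4) (one_sq hnx) (one_sq hCC) ?_ ?_
      · rw [Units.val_neg, Matrix.trace_neg, ht, hCt, neg_neg]
      · rw [Units.val_neg, Matrix.det_neg, hd, hd1, hCd]; norm_num

/-- Representatives of order three with trace one and minus two. -/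
theorem rep_three (S : Sym R) (E : Frame R) (hZ : Nat.card (Subgroup.center R) = 4) (h3 : (3 : F) ≠ 0) {t : F}
    (ht : t = 1 ∨ t = -2) :
    ∃ y : G4, y ∈ Subgroup.normalizer (R : Set (GL ι F)) ∧ y ^ 3 = 1 ∧ (y : M4).det = 1 ∧ (y : M4).trace = t ∧
      ¬ Sc y ∧ ∀ A : Adj F ι, (∀ g ∈ R, A.Iso g) → A.Iso y := by
  obtain ⟨z, hzR, hzs, hzz⟩ := exists_sqrt_neg S hZ
  have h2 := S.two
  haveI := S.nonempty
  suffices hy : ∃ y : G4, y ∈ Subgroup.normalizer (R : Set (GL ι F)) ∧ y ^ 3 = 1 ∧ (y : M4).det = 1 ∧
      (y : M4).trace = t ∧ ∀ A : Adj F ι, (∀ g ∈ R, A.Iso g) → A.Iso y by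
    obtain ⟨y, e1, e2, e3, e4, e5⟩ := hy
    refine ⟨y, e1, e2, e3, e4, ?_, e5⟩
    rintro ⟨w, hw⟩
    rw [hw, Matrix.det_smul, Matrix.det_one, mul_one, S.dim] at e3
    have e6 : w ^ 3 = 1 := by
      have h := congrArg (fun u : G4 => (u : M4) (Classical.arbitrary ι) (Classical.arbitrary ι)) e2
      simpa [hw, _root_.smul_pow] using h
    have hw1 : w = 1 := by linear_combination e3 - w * e6
    rw [hw, hw1, one_smul, Matrix.trace_one, S.dim] at e4
    push_cast at e4
    rcases ht with rfl | rfl
    · exact h3 (by linear_combination e4)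
    · exact h3 ((mul_eq_zero.1 (show (2 : F) * 3 = 0 by linear_combination e4)).resolve_left h2)
  have haa : z * E.a * (z * E.a) = -1 := by rw [sq_mul_scalar hzs hzz, E.aa]
  have hbb : z * E.b * (z * E.b) = -1 := by rw [sq_mul_scalar hzs hzz, E.bb]
  have hab : z * E.a * (z * E.b) = -(z * E.b * (z * E.a)) := by
    have e : ∀ u v : G4, z * u * (z * v) = z * z * (u * v) := fun u v => by
      calc z * u * (z * v) = z * (u * z) * v := by group
        _ = _ := by rw [← hzs.comm u]; group
    rw [e, e, E.ab, mul_neg]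
  have cm : ∀ u v : G4, u * v = v * u → z * u * v = v * (z * u) := fun u v h =>
    (show Commute (z * u) v from (show Commute z v from hzs.comm v).mul_left h).eq
  have m1 := three_mem h2 haa hbb S (mul_mem hzR E.ha) (mul_mem hzR E.hb)
  have m2 := three_mem h2 E.cc E.dd S E.hc E.hd
  rcases ht with rfl | rfl
  · refine ⟨three h2 (z * E.a) (z * E.b) haa hbb * three h2 E.c E.d E.cc E.dd, mul_mem m1 m2, ?_, ?_, ?_,
      fun A hA => A.iso_mul (three_iso h2 haa hbb A (hA _ (mul_mem hzR E.ha)) (hA _ (mul_mem hzR E.hb)))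
        (three_iso h2 E.cc E.dd A (hA _ E.hc) (hA _ E.hd))⟩
    · have hcomm : Commute (three h2 (z * E.a) (z * E.b) haa hbb) (three h2 E.c E.d E.cc E.dd) := by
        have k : ∀ u v : G4, u * v = v * u → Commute (u : M4) (v : M4) := fun u v h => by
          show (u : M4) * v = v * u
          rw [← Units.val_mul, h, Units.val_mul]
        have kac := k _ _ (cm _ _ E.ac)
        have kad := k _ _ (cm _ _ E.ad)
        have kbc := k _ _ (cm _ _ E.bc)
        have kbd := k _ _ (cm _ _ E.bd)
        refine Units.ext ?_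
        show ((three h2 (z * E.a) (z * E.b) haa hbb : G4) : M4) * (three h2 E.c E.d E.cc E.dd : G4) = _
        rw [Units.val_mul, coe_three, coe_three]
        have hL : ∀ {X : M4}, Commute X (E.c : M4) → Commute X (E.d : M4) →
            Commute X (1 - (E.c : M4) - E.d + E.c * E.d) := fun h h' =>
          ((((Commute.one_right _).sub_right h).sub_right h')).add_right (h.mul_right h')
        have hA := hL kac kad
        have hB := hL kbc kbd
        exact ((((((Commute.one_left _).sub_left hA).sub_left hB)).add_left (hA.mul_left hB)).smul_left _).smul_right _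
      rw [hcomm.mul_pow, three_pow h2 haa hbb hab, three_pow h2 E.cc E.dd E.cd, one_mul]
    · rw [Units.val_mul, Matrix.det_mul, three_det h2 haa hbb S hab, three_det h2 E.cc E.dd S E.cd, one_mul]
    · exact three_mul_three_trace h2 haa hbb S E.cc E.dd (mul_mem hzR E.ha) (mul_mem hzR E.hb) E.hc E.hd hab E.cd
        (cm _ _ E.ac) (cm _ _ E.ad) (cm _ _ E.bc) (cm _ _ E.bd)
  · exact ⟨_, m2, three_pow h2 E.cc E.dd E.cd, three_det h2 E.cc E.dd S E.cd, three_trace h2 E.cc E.dd S E.hc E.hd E.cd,
      fun A hA => three_iso h2 E.cc E.dd A (hA _ E.hc) (hA _ E.hd)⟩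

/-- Traces of elements of order three and the Frobenius map. -/
theorem trace_pow_three {p : ℕ} [Fact p.Prime] [CharP F p] (h3 : (3 : F) ≠ 0) {x : G4} (hx : x ^ 3 = 1) :
    (p % 3 = 1 → (x : M4).trace ^ p = (x : M4).trace) ∧
      (p % 3 = 2 → (x : M4).trace ^ p = ((x⁻¹ : G4) : M4).trace) := by
  haveI : CharP (AlgebraicClosure F) p := charP_of_injective_algebraMap (algebraMap F (AlgebraicClosure F)).injective p
  obtain ⟨d, hd, -, ht, -, hti, -⟩ := exists_diag (AlgebraicClosure F) x (M := 3) (cast_K (by simpa using h3)) hx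
  have e : algebraMap F (AlgebraicClosure F) (x : M4).trace ^ p = ∑ i, d i ^ (p % 3) := by
    rw [ht, sum_pow_char]
    refine Finset.sum_congr rfl fun i _ => ?_
    conv_lhs => rw [← Nat.div_add_mod p 3, pow_add, pow_mul, hd, one_pow, one_mul]
  constructor <;> intro h <;> rw [h] at e <;> refine (algebraMap F (AlgebraicClosure F)).injective ?_ <;>
    rw [map_pow, e]
  · rw [ht]; simp only [pow_one]
  · rw [hti]
    exact Finset.sum_congr rfl fun i _ => (inv_eq_of_mul_eq_one_right (by rw [← pow_succ', hd])).symm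

/-- Square roots of scalars inside a finite field. -/
theorem scal_inv_mul_sq {s : Fˣ} {x : G4} (hx : (x : M4) * x = ((s : F) * s) • 1) :
    (scal s⁻¹ * x) * (scal s⁻¹ * x) = 1 := by
  refine Units.ext ?_
  rw [Units.val_mul (scal s⁻¹ * x), scal_mul_sq hx, Units.val_one, ← Units.val_mul, ← Units.val_mul,
    ← Units.val_mul, show s⁻¹ * s⁻¹ * (s * s) = 1 by group, Units.val_one, one_smul]

end Cfsg.Agent.Classical.CliffordFour
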