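import Cfsg.Agent.Lib.Classical.MaxFrameHalf

/-!
Dimension five, elements fixing two frame vectors monomial: a non-monomial element fixing one frame vector exists
only over three elements, and then gives all Siegel elements at short singular vectors.
-/

set_option autoImplicit false
set_option linter.unusedSectionVars false
set_option linter.style.haveILetI false
set_option quotPrecheck false

namespace Cfsg.Agent.Classical.OrthFrame

open Matrix Module MaxTv OrthAut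

namespace Half

variable {F : Type*} [Field F] [Fintype F] {H : Subgroup (GL (Fin 5) F)}

local notation "V₅" => (Fin 5 → F)
local notation "M₅" => Matrix (Fin 5) (Fin 5) F
local notation "GL₅" => GL (Fin 5) F

theorem swap_map : Equiv.Perm.sign (Equiv.swap (3 : Fin 5) 4 * Equiv.swap 0 1) = 1 := by decide

/-- A normalised element: first column half a vector of ones, last column fixed. -/
theorem exists_normal (O : Fr H) (h2 : Fix H 2) {g : GL₅} (hg : g ∈ H)
    (h4 : (g : M₅) *ᵥ Pi.single 4 1 = Pi.single 4 1) (hnm : ¬ Mon g) {c : F} (hc : 2 * c = 1) :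
    ∃ g₀ ∈ H, (g₀ : M₅) *ᵥ Pi.single 4 1 = Pi.single 4 1 ∧ ¬ Mon g₀ ∧
      (g₀ : M₅) *ᵥ Pi.single 0 1 = ![c, c, c, c, 0] := by
  classical
  obtain ⟨a, ha⟩ : ∃ a, (g : M₅) *ᵥ Pi.single 0 1 = a := ⟨_, rfl⟩
  have hpm : ∀ i, i ≠ 4 → a i = c ∨ a i = -c := fun i hi => by
    have h := quarter O h2 hg h4 hnm (l := 0) (by decide) hi
    rw [ha] at h
    have h' : (2 * a i) * (2 * a i) = 1 := by linear_combination h
    rcases mul_self_eq_one_iff.1 h' with e | e
    · exact Or.inl (mul_left_cancel₀ O.two (e.trans hc.symm))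
    · exact Or.inr (mul_left_cancel₀ O.two (by linear_combination e + hc))
  have ha4 : a 4 = 0 := by
    have h := O.polar_eq hg (Pi.single 0 1) (Pi.single 4 1)
    rw [h4, ha] at h
    simpa [Pi.single_apply] using h
  obtain ⟨S, hS⟩ : ∃ S : Finset (Fin 5), S = Finset.univ.filter fun i => i ≠ 4 ∧ a i = -c := ⟨_, rfl⟩
  have hsign : ∀ i, i ≠ 4 → (sgn F S i : F) * a i = c := fun i hi => by
    rcases hpm i hi with e | e
    · have : i ∉ S := by
        rw [hS, Finset.mem_filter]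
        rintro ⟨-, -, e'⟩
        refine O.two ?_
        have : (2 : F) * c = 0 := by linear_combination e' - e
        rw [hc] at this
        exact absurd this one_ne_zero
      rw [show sgn F S i = 1 from if_neg this, Units.val_one, one_mul, e]
    · rw [show sgn F S i = -1 from if_pos (by rw [hS]; simp [hi, e]), e]; simp
  have key : ∀ (T T' : Finset (Fin 5)), Even T.card → Even T'.card → (∀ i, i ≠ 4 → (i ∈ T ↔ i ∈ S)) → (0 : Fin 5) ∉ T' →
      (sgn F T 4 : F) * sgn F T' 4 = 1 →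
      ∃ g₀ ∈ H, (g₀ : M₅) *ᵥ Pi.single 4 1 = Pi.single 4 1 ∧ ¬ Mon g₀ ∧
        (g₀ : M₅) *ᵥ Pi.single 0 1 = ![c, c, c, c, 0] := by
    intro T T' hT hT' hTS h0 hs
    refine ⟨dg T * g * dg T', mul_mem (mul_mem (O.mem_dg hT) hg) (O.mem_dg hT'), ?_, ?_, ?_⟩
    · rw [Units.val_mul, ← Matrix.mulVec_mulVec, dg_single, Matrix.mulVec_smul, Units.val_mul,
        ← Matrix.mulVec_mulVec, h4, dg_single, smul_smul, mul_comm, hs, one_smul]
    · intro hm
      refine hnm ?_
      have hT1 : Mon (dg T : GL₅) := mon_sp 1 (sgn F T)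
      have hT2 : Mon (dg T' : GL₅) := mon_sp 1 (sgn F T')
      have hm' := (hT1.mul hm).mul hT2
      have e : ∀ U : Finset (Fin 5), (dg U : GL₅) * dg U = 1 := fun U => by
        rw [dg_mul, symmDiff_self, Finset.bot_eq_empty, dg_empty]
      rwa [← mul_assoc, ← mul_assoc, e T, one_mul, mul_assoc g, e T', mul_one] at hm'
    · funext k
      rw [Units.val_mul, ← Matrix.mulVec_mulVec, dg_single, show sgn F T' 0 = 1 from if_neg h0, Units.val_one,
        one_smul, Units.val_mul, ← Matrix.mulVec_mulVec, ha, dg_mulVec]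
      have hk : ∀ i, i ≠ 4 → (if i ∈ T then -a i else a i) = c := fun i hi => by
        rw [← hsign i hi]
        by_cases h : i ∈ S
        · rw [if_pos ((hTS i hi).2 h), show sgn F S i = -1 from if_pos h]; simp
        · rw [if_neg (fun h' => h ((hTS i hi).1 h')), show sgn F S i = 1 from if_neg h]; simp
      fin_cases k
      · exact hk _ (by decide)
      · exact hk _ (by decide)
      · exact hk _ (by decide)
      · exact hk _ (by decide)
      · show (if (4 : Fin 5) ∈ T then -a 4 else a 4) = 0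
        rw [ha4]; simp
  rcases Nat.even_or_odd S.card with he | ho
  · exact key S ∅ he (by simp) (fun i _ => Iff.rfl) (by simp) (by
      rw [show sgn F S 4 = 1 from if_neg (by rw [hS]; simp), show sgn F ∅ (4 : Fin 5) = 1 from if_neg (by simp)]
      simp)
  · refine key (insert 4 S) {4, 3} ?_ ⟨1, rfl⟩ (fun i hi => by simp [hi]) (by decide) ?_
    · rw [Finset.card_insert_of_notMem (by rw [hS]; simp)]; exact ho.add_one
    · rw [show sgn F (insert 4 S) (4 : Fin 5) = -1 from if_pos (by simp),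
        show sgn F ({4, 3} : Finset (Fin 5)) 4 = -1 from if_pos (by simp)]
      simp

theorem no_normal (O : Fr H) (h2 : Fix H 2) (h3 : (3 : F) ≠ 0) {g₀ : GL₅} (hg : g₀ ∈ H)
    (h4 : (g₀ : M₅) *ᵥ Pi.single 4 1 = Pi.single 4 1) (hnm : ¬ Mon g₀) {c : F} (hc : 2 * c = 1)
    (h0 : (g₀ : M₅) *ᵥ Pi.single 0 1 = ![c, c, c, c, 0]) : False := by
  classical
  obtain ⟨k, hk⟩ : ∃ k : V₅, k = ![1, 1, 1, 1, 1] := ⟨_, rfl⟩
  have hk2 : k = (2 : F) • (g₀ : M₅) *ᵥ Pi.single 0 1 + (g₀ : M₅) *ᵥ Pi.single 4 1 := by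
    rw [hk, h0, h4]; funext i; fin_cases i <;> simp [hc]
  obtain ⟨m, hm⟩ : ∃ m : GL₅, m = sp (Equiv.swap (3 : Fin 5) 4 * Equiv.swap 0 1) fun _ => 1 := ⟨_, rfl⟩
  have hmH : m ∈ H := hm ▸ O.mem_pure swap_map
  have hmv : ∀ x : V₅, (m : M₅) *ᵥ x = ![x 1, x 0, x 2, x 4, x 3] := fun x => funext fun i => by
    rw [hm, sp_mulVec, Units.val_one, one_mul]
    fin_cases i <;> rfl
  have hminv : m⁻¹ = m := inv_eq_of_mul_eq_one_right (by
    rw [hm, sp_mul, show (Equiv.swap (3 : Fin 5) 4 * Equiv.swap 0 1) * (Equiv.swap 3 4 * Equiv.swap 0 1) = 1 by decide]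
    simpa using sp_one (F := F) (n := 5))
  have hmk : (m : M₅) *ᵥ k = k := by rw [hmv, hk]; rfl
  obtain ⟨T, hT⟩ : ∃ T : GL₅, T = dg {0, 4} := ⟨_, rfl⟩
  have hTH : T ∈ H := hT ▸ O.mem_pair (by decide)
  -- elements commuting with a conjugate of the sign change and fixing the diagonal vector
  have plane : ∀ G ∈ H, ∀ v ∈ H, v * (G * T * G⁻¹) = (G * T * G⁻¹) * v →
      (2 : F) • (G : M₅) *ᵥ Pi.single 0 1 + (G : M₅) *ᵥ Pi.single 4 1 = k → (v : M₅) *ᵥ k = k →
      (v : M₅) *ᵥ ((G : M₅) *ᵥ Pi.single 0 1) = (G : M₅) *ᵥ Pi.single 0 1 ∧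
        (v : M₅) *ᵥ ((G : M₅) *ᵥ Pi.single 4 1) = (G : M₅) *ᵥ Pi.single 4 1 := by
    intro G hG v hv hcomm hGk hvk
    obtain ⟨h, hh⟩ : ∃ h, h = G⁻¹ * v * G := ⟨_, rfl⟩
    have hhH : h ∈ H := hh ▸ mul_mem (mul_mem (inv_mem hG) hv) hG
    have hhT : h * T = T * h := by
      rw [hh, show G⁻¹ * v * G * T = G⁻¹ * (v * (G * T * G⁻¹)) * G by group, hcomm]; group
    have happ : ∀ x, (G : M₅) *ᵥ ((h : M₅) *ᵥ x) = (v : M₅) *ᵥ ((G : M₅) *ᵥ x) := fun x => by
      rw [Matrix.mulVec_mulVec, Matrix.mulVec_mulVec, ← Units.val_mul, ← Units.val_mul, hh, mul_assoc,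
        mul_inv_cancel_left]
    obtain ⟨π, ε, e⟩ := O.exists_sp hhH (mon_of_comm O h2 hhH (S := {0, 4}) rfl (hT ▸ hhT))
    have hek : (h : M₅) *ᵥ ((2 : F) • Pi.single 0 1 + Pi.single 4 1) = (2 : F) • Pi.single 0 1 + Pi.single 4 1 := by
      refine gl_mulVec_injective G ?_
      show (G : M₅) *ᵥ _ = (G : M₅) *ᵥ _
      rw [happ, Matrix.mulVec_add, Matrix.mulVec_smul, hGk, hvk]
    rw [Matrix.mulVec_add, Matrix.mulVec_smul, e, sp_single, sp_single] at hek
    have hsq := O.sq_of_mem (e ▸ hhH)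
    have hπ0 : π 0 = 0 := by
      by_contra hne
      have := congrFun hek 0
      rw [Pi.add_apply, Pi.smul_apply, Pi.single_eq_of_ne (Ne.symm hne), Pi.add_apply, Pi.smul_apply,
        Pi.single_eq_same, Pi.single_eq_of_ne (show (0 : Fin 5) ≠ 4 by decide), smul_zero, zero_add, smul_eq_mul,
        mul_one, add_zero] at this
      rcases eq_or_ne (π 4) 0 with e4 | e4
      · rw [e4, Pi.single_eq_same] at this
        exact h3 (by linear_combination -((ε 4 : F) + 2) * this + hsq 4)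
      · rw [Pi.single_eq_of_ne (Ne.symm e4)] at this
        exact O.two this.symm
    have hπ4 : π 4 = 4 := by
      by_contra hne
      have := congrFun hek 4
      rw [Pi.add_apply, Pi.smul_apply, hπ0, Pi.single_eq_of_ne (show (4 : Fin 5) ≠ 0 by decide),
        Pi.single_eq_of_ne (Ne.symm hne), Pi.add_apply, Pi.smul_apply,
        Pi.single_eq_of_ne (show (4 : Fin 5) ≠ 0 by decide), Pi.single_eq_same, smul_zero, zero_add] at this
      simp at this
    have e0 : (ε 0 : F) = 1 := by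
      have := congrFun hek 0
      simp [hπ0, hπ4] at this
      first
        | (rcases this with h | h
           · exact h
           · exact absurd h O.two)
        | exact mul_left_cancel₀ O.two (by linear_combination this)
    have e4 : (ε 4 : F) = 1 := by
      have := congrFun hek 4
      simpa [hπ0, hπ4] using this
    exact ⟨by rw [← happ, e, sp_single, hπ0, e0], by rw [← happ, e, sp_single, hπ4, e4]⟩
  obtain ⟨u, hu⟩ : ∃ u, u = g₀ * T * g₀⁻¹ := ⟨_, rfl⟩
  have huH : u ∈ H := hu ▸ mul_mem (mul_mem hg hTH) (inv_mem hg)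
  have hua : ∀ x : V₅, (u : M₅) *ᵥ x = x - (2 * ∑ i, (![c, c, c, c, 0] : V₅) i * x i) • ![c, c, c, c, 0] -
      (2 * x 4) • Pi.single 4 1 := fun x => by rw [hu, hT]; exact conj_apply O hg h4 (by decide) h0 x
  have huk : (u : M₅) *ᵥ k = -k := by
    rw [hua, hk, Fin.sum_univ_five]
    funext i
    fin_cases i <;> simp <;>
      first | ring1 | linear_combination (-(4 * c) - 2) * hc | linear_combination (4 * c + 2) * hc
  obtain ⟨f, hf⟩ : ∃ f : V₅, f = ![1, -1, 0, 0, 0] := ⟨_, rfl⟩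
  obtain ⟨f', hf'⟩ : ∃ f' : V₅, f' = ![1, 1, -2, 0, 0] := ⟨_, rfl⟩
  have huf : (u : M₅) *ᵥ f = f := by
    rw [hua, hf, Fin.sum_univ_five]; simp
  have huf' : (u : M₅) *ᵥ f' = f' := by
    rw [hua, hf', Fin.sum_univ_five]; funext i; fin_cases i <;> simp <;> left <;> right <;> ring
  have hmf : (m : M₅) *ᵥ f = -f := by
    rw [hmv, hf]; funext i; fin_cases i <;> simp
  have hmf' : (m : M₅) *ᵥ f' = f' := by
    rw [hmv, hf']; funext i; fin_cases i <;> simp
  obtain ⟨u', hu'⟩ : ∃ u', u' = m * u * m⁻¹ := ⟨_, rfl⟩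
  have hu'H : u' ∈ H := hu' ▸ mul_mem (mul_mem hmH huH) (inv_mem hmH)
  have hu'a : ∀ x, (u' : M₅) *ᵥ x = (m : M₅) *ᵥ ((u : M₅) *ᵥ ((m : M₅) *ᵥ x)) := fun x => by
    rw [hu', hminv, Units.val_mul, Units.val_mul, ← Matrix.mulVec_mulVec, ← Matrix.mulVec_mulVec]
  have hu'k : (u' : M₅) *ᵥ k = -k := by rw [hu'a, hmk, huk, Matrix.mulVec_neg, hmk]
  have hu'f : (u' : M₅) *ᵥ f = f := by rw [hu'a, hmf, Matrix.mulVec_neg, huf, Matrix.mulVec_neg, hmf, neg_neg]
  have hu'f' : (u' : M₅) *ᵥ f' = f' := by rw [hu'a, hmf', huf', hmf']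
  have hTT : T * T = 1 := by rw [hT, dg_mul, symmDiff_self, Finset.bot_eq_empty, dg_empty]
  have u2 : u * u = 1 := by
    rw [hu, show g₀ * T * g₀⁻¹ * (g₀ * T * g₀⁻¹) = g₀ * (T * T) * g₀⁻¹ by group, hTT]; group
  have u2' : u' * u' = 1 := by
    rw [hu', show m * u * m⁻¹ * (m * u * m⁻¹) = m * (u * u) * m⁻¹ by group, u2]; group
  obtain ⟨ρ, hρ⟩ : ∃ ρ, ρ = u * u' := ⟨_, rfl⟩
  have hρH : ρ ∈ H := hρ ▸ mul_mem huH hu'H
  have hfixp : ∀ (x : V₅), (ρ : M₅) *ᵥ x = x → ∀ i : ℕ, ((ρ ^ i : GL₅) : M₅) *ᵥ x = x := fun x hx i => by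
    induction i with
    | zero => simp
    | succ i ih => rw [pow_succ, Units.val_mul, ← Matrix.mulVec_mulVec, hx, ih]
  have ρk : (ρ : M₅) *ᵥ k = k := by
    rw [hρ, Units.val_mul, ← Matrix.mulVec_mulVec, hu'k, Matrix.mulVec_neg, huk, neg_neg]
  have ρf : (ρ : M₅) *ᵥ f = f := by rw [hρ, Units.val_mul, ← Matrix.mulVec_mulVec, hu'f, huf]
  have ρf' : (ρ : M₅) *ᵥ f' = f' := by rw [hρ, Units.val_mul, ← Matrix.mulVec_mulVec, hu'f', huf']
  have hconjρ : u * ρ * u⁻¹ = ρ⁻¹ := by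
    rw [hρ, _root_.mul_inv_rev, show u'⁻¹ = u' from inv_eq_of_mul_eq_one_right u2',
      show u⁻¹ = u from inv_eq_of_mul_eq_one_right u2, ← mul_assoc, u2, one_mul]
  obtain ⟨G', hG'⟩ : ∃ G', G' = m * g₀ := ⟨_, rfl⟩
  have hG'H : G' ∈ H := hG' ▸ mul_mem hmH hg
  have hG'k : (2 : F) • (G' : M₅) *ᵥ Pi.single 0 1 + (G' : M₅) *ᵥ Pi.single 4 1 = k := by
    rw [hG', Units.val_mul, ← Matrix.mulVec_mulVec, ← Matrix.mulVec_mulVec, ← Matrix.mulVec_smul,
      ← Matrix.mulVec_add, ← hk2, hmk]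
  have hG'T : G' * T * G'⁻¹ = u' := by rw [hG', hu', hu]; group
  obtain ⟨N, hN⟩ : ∃ N, N = orderOf ρ := ⟨_, rfl⟩
  have hN0 : 0 < N := hN ▸ (isOfFinOrder_of_finite ρ).orderOf_pos
  rcases Nat.even_or_odd N with ⟨j, hj⟩ | ⟨j, hj⟩
  · -- a central involution fixes everything
    obtain ⟨v, hv⟩ : ∃ v, v = ρ ^ j := ⟨_, rfl⟩
    have hvH : v ∈ H := hv ▸ pow_mem hρH j
    have hvv : v⁻¹ = v := inv_eq_of_mul_eq_one_right (by rw [hv, ← pow_add, ← hj, hN, pow_orderOf_eq_one])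
    have hvu : v * u = u * v := by
      have : u * v * u⁻¹ = v := by
        conv_lhs => rw [hv]
        rw [← conj_pow, hconjρ, inv_pow, ← hv, hvv]
      conv_lhs => rw [← this]
      rw [inv_mul_cancel_right]
    have hvρ : v * ρ = ρ * v := by rw [hv, ← pow_succ, ← pow_succ']
    have hvu' : v * u' = u' * v := by
      have e : u' = u * ρ := by rw [hρ, ← mul_assoc, u2, one_mul]
      rw [e, ← mul_assoc, hvu, mul_assoc, hvρ, mul_assoc]
    have hvk : (v : M₅) *ᵥ k = k := hv ▸ hfixp k ρk j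
    obtain ⟨va, v4⟩ := plane g₀ hg v hvH (hu ▸ hvu) hk2.symm hvk
    obtain ⟨vb, v3⟩ := plane G' hG'H v hvH (by rw [hG'T]; exact hvu') hG'k hvk
    rw [h4] at v4
    have e3 : (G' : M₅) *ᵥ Pi.single 4 1 = Pi.single 3 1 := by
      rw [hG', Units.val_mul, ← Matrix.mulVec_mulVec, h4, hm, sp_single]
      rw [show (Equiv.swap (3 : Fin 5) 4 * Equiv.swap 0 1 : Equiv.Perm (Fin 5)) 4 = 3 by decide, Units.val_one]
    rw [e3] at v3
    obtain ⟨π, ε, e⟩ := O.exists_sp hvH (h2 v hvH {3, 4} (by simp) fun i hi => by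
      rcases Finset.mem_insert.1 hi with rfl | hi
      · exact v3
      · rw [Finset.mem_singleton.1 hi]; exact v4)
    have hε : ∀ i, (ε i : F) = 1 := fun i => by
      have h := congrFun hvk (π i)
      rw [e, sp_mulVec, Equiv.symm_apply_apply, hk] at h
      have h1 : ∀ x : Fin 5, (![1, 1, 1, 1, 1] : V₅) x = 1 := fun x => by fin_cases x <;> rfl
      rwa [h1, h1, mul_one] at h
    have hfix : ∀ a, (v : M₅) *ᵥ Pi.single a 1 = Pi.single a 1 → π a = a := fun a ha => by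
      by_contra hne
      have h := congrFun ha a
      rw [e, sp_single, Pi.single_eq_of_ne (Ne.symm hne), Pi.single_eq_same] at h
      exact zero_ne_one h
    have hπ2 : π * π = 1 := by
      have h : v * v = 1 := by rw [← hvv]; simp [hvv]; rw [hv, ← pow_add, ← hj, hN, pow_orderOf_eq_one]
      rw [e, sp_mul, ← sp_one] at h
      exact (sp_inj h).1
    have hsign : Equiv.Perm.sign π = 1 := by
      have hd := O.det _ (e ▸ hvH)
      rw [sp_val, det_spMat, Finset.prod_eq_one (fun i _ => hε i), mul_one] at hd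
      rcases Int.units_eq_one_or (Equiv.Perm.sign π) with h | h
      · exact h
      · rw [h] at hd
        push_cast at hd
        exact absurd (by linear_combination -hd) O.two
    have hπ1 := perm_three π hπ2 (hfix 3 v3) (hfix 4 v4) hsign
    have hv1 : v = 1 := by
      rw [e, hπ1, ← sp_one]; congr 1; funext i; exact Units.ext (hε i)
    rw [hv] at hv1
    have := Nat.le_of_dvd (by omega) (orderOf_dvd_of_pow_eq_one hv1)
    omega
  · -- the two involutions are conjugate by a power of the rotation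
    obtain ⟨ω, hω⟩ : ∃ ω, ω = ρ ^ j := ⟨_, rfl⟩
    have hωH : ω ∈ H := hω ▸ pow_mem hρH j
    have hωu : ω * u * ω⁻¹ = u' := by
      have h1 : u * ω⁻¹ = ω * u := by
        have : u * ω * u⁻¹ = ω⁻¹ := by rw [hω, ← conj_pow, hconjρ, inv_pow]
        rw [← this, show u⁻¹ = u from inv_eq_of_mul_eq_one_right u2, ← mul_assoc, ← mul_assoc, u2, one_mul]
      rw [mul_assoc, h1, ← mul_assoc]
      have h2j : ω * ω = ρ⁻¹ := eq_inv_of_mul_eq_one_left (by
        rw [hω, ← pow_add, ← pow_succ, show j + j + 1 = N by omega, hN, pow_orderOf_eq_one])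
      rw [h2j, hρ, _root_.mul_inv_rev, show u'⁻¹ = u' from inv_eq_of_mul_eq_one_right u2',
        show u⁻¹ = u from inv_eq_of_mul_eq_one_right u2, mul_assoc, u2, mul_one]
    obtain ⟨z, hz⟩ : ∃ z, z = m * ω := ⟨_, rfl⟩
    have hzH : z ∈ H := hz ▸ mul_mem hmH hωH
    have hza : ∀ x, (z : M₅) *ᵥ x = (m : M₅) *ᵥ ((ω : M₅) *ᵥ x) := fun x => by
      rw [hz, Units.val_mul, ← Matrix.mulVec_mulVec]
    have hzu : z * u = u * z := by
      rw [hz, mul_assoc, show ω * u = u' * ω by rw [← hωu, inv_mul_cancel_right], hu', hminv]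
      rw [show m * (m * u * m * ω) = (m * m) * (u * (m * ω)) by group,
        show m * m = 1 by nth_rewrite 1 [← hminv]; exact inv_mul_cancel m, one_mul]
    have hzk : (z : M₅) *ᵥ k = k := by rw [hza, hω, hfixp k ρk, hmk]
    have hzf : (z : M₅) *ᵥ f = -f := by rw [hza, hω, hfixp f ρf, hmf]
    have hzf' : (z : M₅) *ᵥ f' = f' := by rw [hza, hω, hfixp f' ρf', hmf']
    obtain ⟨za, z4⟩ := plane g₀ hg z hzH (hu ▸ hzu) hk2.symm hzk
    obtain ⟨h, hh⟩ : ∃ h, h = g₀⁻¹ * z * g₀ := ⟨_, rfl⟩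
    have hhH : h ∈ H := hh ▸ mul_mem (mul_mem (inv_mem hg) hzH) hg
    have happ : ∀ x, (g₀ : M₅) *ᵥ ((h : M₅) *ᵥ x) = (z : M₅) *ᵥ ((g₀ : M₅) *ᵥ x) := fun x => by
      rw [Matrix.mulVec_mulVec, Matrix.mulVec_mulVec, ← Units.val_mul, ← Units.val_mul, hh, mul_assoc,
        mul_inv_cancel_left]
    have hhfix : ∀ i ∈ ({0, 4} : Finset (Fin 5)), (h : M₅) *ᵥ Pi.single i 1 = Pi.single i 1 := fun i hi => by
      refine gl_mulVec_injective g₀ ?_
      show (g₀ : M₅) *ᵥ _ = (g₀ : M₅) *ᵥ _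
      rw [happ]
      rcases Finset.mem_insert.1 hi with rfl | hi
      · exact za
      · rw [Finset.mem_singleton.1 hi]; exact z4
    obtain ⟨π, ε, e⟩ := O.exists_sp hhH (h2 h hhH {0, 4} (by simp) hhfix)
    have hfix : ∀ i ∈ ({0, 4} : Finset (Fin 5)), π i = i := fun i hi => by
      by_contra hne
      have h := congrFun (hhfix i hi) i
      rw [e, sp_single, Pi.single_eq_of_ne (Ne.symm hne), Pi.single_eq_same] at h
      exact zero_ne_one h
    have hsq := O.sq_of_mem (e ▸ hhH)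
    obtain ⟨R, hR⟩ : ∃ R : GL₅, R = sp (Equiv.swap (0 : Fin 5) 1) fun _ => 1 := ⟨_, rfl⟩
    have hRv : ∀ x : V₅, (R : M₅) *ᵥ x = ![x 1, x 0, x 2, x 3, x 4] := fun x => funext fun i => by
      rw [hR, sp_mulVec, Units.val_one, one_mul]
      fin_cases i <;> rfl
    have hzR : z = R := by
      suffices hs : z * g₀ = R * g₀ from mul_right_cancel hs
      refine ext_single fun l => ?_
      rw [Units.val_mul, Units.val_mul, ← Matrix.mulVec_mulVec, ← Matrix.mulVec_mulVec]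
      rcases eq_or_ne l 0 with rfl | l0
      · rw [za, h0, hRv]; rfl
      rcases eq_or_ne l 4 with rfl | l4
      · rw [z4, h4, hRv]; funext i; fin_cases i <;> simp
      -- a column of equal squares
      have hl' : π l ≠ 4 := fun e4 => l4 (π.injective (e4.trans (hfix 4 (by simp)).symm))
      have hl0 : π l ≠ 0 := fun e0 => l0 (π.injective (e0.trans (hfix 0 (by simp)).symm))
      obtain ⟨C, hC⟩ : ∃ C, (g₀ : M₅) *ᵥ Pi.single l 1 = C := ⟨_, rfl⟩
      obtain ⟨D, hD⟩ : ∃ D, (g₀ : M₅) *ᵥ Pi.single (π l) 1 = D := ⟨_, rfl⟩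
      obtain ⟨X, hX⟩ : ∃ X, (z : M₅) *ᵥ C = X := ⟨_, rfl⟩
      rw [hC, hX, hRv]
      have hXD : X = (ε l : F) • D := by
        rw [← hX, ← hC, ← happ, e, sp_single, ← hD,
          show Pi.single (π l) (ε l : F) = (ε l : F) • (Pi.single (π l) 1 : V₅) by
            rw [← Pi.single_smul, smul_eq_mul, mul_one], Matrix.mulVec_smul]
      have hXq : ∀ i, i ≠ 4 → 4 * X i ^ 2 = 1 := fun i hi => by
        have := quarter O h2 hg h4 hnm (l := π l) hl' hi
        rw [hD] at this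
        rw [hXD, Pi.smul_apply, smul_eq_mul]
        linear_combination this + 4 * D i ^ 2 * hsq l
      have hCq : ∀ i, i ≠ 4 → 4 * C i ^ 2 = 1 := fun i hi => hC ▸ quarter O h2 hg h4 hnm l4 hi
      have hC4 : C 4 = 0 := by
        have h := O.polar_eq hg (Pi.single l 1) (Pi.single 4 1)
        rw [hC, h4] at h
        simpa [Pi.single_apply, l4, Ne.symm l4] using h
      have hX4 : X 4 = 0 := by
        have h := O.polar_eq hzH C (Pi.single 4 1)
        rw [hX, show (z : M₅) *ᵥ Pi.single 4 1 = Pi.single 4 1 by rw [h4] at z4; exact z4] at h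
        simpa [Pi.single_apply, hC4] using h
      have hCa : c * (C 0 + C 1 + C 2 + C 3) = 0 := by
        have h := O.polar_eq hg (Pi.single l 1) (Pi.single 0 1)
        rw [hC, h0, Fin.sum_univ_five] at h
        simp [Pi.single_apply, l0, Ne.symm l0] at h
        linear_combination h
      have hXa : c * (X 0 + X 1 + X 2 + X 3) = 0 := by
        have h := O.polar_eq hzH C ![c, c, c, c, 0]
        rw [hX, show (z : M₅) *ᵥ ![c, c, c, c, 0] = ![c, c, c, c, 0] by rw [h0] at za; exact za, Fin.sum_univ_five,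
          Fin.sum_univ_five] at h
        simp [hC4] at h
        linear_combination h + hCa
      have hXf : -(X 0 - X 1) = C 0 - C 1 := by
        have h := O.polar_eq hzH C f
        rw [hX, hzf, hf, Fin.sum_univ_five, Fin.sum_univ_five] at h
        simp at h
        linear_combination h
      have hXf' : X 0 + X 1 - 2 * X 2 = C 0 + C 1 - 2 * C 2 := by
        have h := O.polar_eq hzH C f'
        rw [hX, hzf', hf', Fin.sum_univ_five, Fin.sum_univ_five] at h
        simp at h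
        linear_combination h
      have hc0 : c ≠ 0 := fun e => by rw [e, mul_zero] at hc; exact zero_ne_one hc
      have sC : C 0 + C 1 + C 2 + C 3 = 0 := (mul_eq_zero.1 hCa).resolve_left hc0
      have sX : X 0 + X 1 + X 2 + X 3 = 0 := (mul_eq_zero.1 hXa).resolve_left hc0
      obtain ⟨d, hd⟩ : ∃ d, d = X 0 - C 1 := ⟨_, rfl⟩
      have hd1 : X 1 - C 0 = d := by rw [hd]; linear_combination hXf
      have hd2 : X 2 - C 2 = d := mul_left_cancel₀ O.two (by rw [hd]; linear_combination -hXf' + hXf)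
      have hd3 : X 3 - C 3 = -(3 * d) := by linear_combination sX - sC + hd - hd1 - hd2
      have hd0 : d = 0 := by
        by_contra hne
        have hfour : (4 : F) ≠ 0 := by
          rw [show (4 : F) = 2 * 2 by norm_num]; exact mul_ne_zero O.two O.two
        have p2 : 2 * C 2 + d = 0 := by
          have : (4 * d) * (2 * C 2 + d) = 0 := by
            linear_combination hXq 2 (by decide) - hCq 2 (by decide) - 4 * (X 2 + C 2 + d) * hd2
          exact (mul_eq_zero.1 this).resolve_left (mul_ne_zero hfour hne)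
        have p3 : 2 * C 3 - 3 * d = 0 := by
          have : (4 * (3 * d)) * (2 * C 3 - 3 * d) = 0 := by
            linear_combination -(hXq 3 (by decide) - hCq 3 (by decide)) + 4 * (X 3 + C 3 - 3 * d) * hd3
          exact (mul_eq_zero.1 this).resolve_left (mul_ne_zero hfour (mul_ne_zero h3 hne))
        have h8 : (8 : F) * d ^ 2 = 0 := by
          linear_combination (hCq 3 (by decide) - hCq 2 (by decide)) - (2 * C 3 + 3 * d) * p3 + (2 * C 2 - d) * p2
        rw [show (8 : F) = 2 * 2 * 2 by norm_num] at h8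
        exact mul_ne_zero (mul_ne_zero (mul_ne_zero O.two O.two) O.two) (pow_ne_zero 2 hne) h8
      funext i
      fin_cases i
      · show X 0 = C 1; linear_combination hd0 - hd
      · show X 1 = C 0; linear_combination hd0 + hd1
      · show X 2 = C 2; linear_combination hd0 + hd2
      · show X 3 = C 3; linear_combination -3 * hd0 + hd3
      · show X 4 = C 4; rw [hX4, hC4]
    have hd := O.det z hzH
    rw [hzR, hR, sp_val, det_spMat, Equiv.Perm.sign_swap (by decide)] at hd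
    simp at hd
    exact O.two (by linear_combination -hd)

theorem perm_move : ∃ π : Equiv.Perm (Fin 5), Equiv.Perm.sign π = 1 ∧ π 0 = 4 ∧ π 1 = 0 ∧ π 2 = 1 ∧ π 3 = 2 ∧
    π 4 = 3 := ⟨(finRotate 5)⁻¹, by decide +kernel⟩

omit [Fintype F] in
theorem perm_pair (π : Equiv.Perm (Fin 5)) (hπ : π = Equiv.swap 2 4 * Equiv.swap 0 1) : Equiv.Perm.sign π = 1 ∧
    π.symm 0 = 1 ∧ π.symm 1 = 0 ∧ π.symm 2 = 4 ∧ π.symm 3 = 3 ∧ π.symm 4 = 2 := by
  subst hπ; decide

/-- Over three elements a normalised element gives all Siegel elements at short singular vectors. -/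
theorem concl_three (O : Fr H) (hp : (Fintype.card F).Prime) (h3 : (3 : F) = 0) {g₀ : GL₅} (hg : g₀ ∈ H)
    (h4 : (g₀ : M₅) *ᵥ Pi.single 4 1 = Pi.single 4 1) {c : F} (hc : 2 * c = 1)
    (h0 : (g₀ : M₅) *ᵥ Pi.single 0 1 = ![c, c, c, c, 0]) : Concl H := by
  classical
  have hc' : c = -1 := by linear_combination -hc + c * h3
  subst hc'
  have hcard : Fintype.card F = 3 := by
    haveI : Fact (Fintype.card F).Prime := ⟨hp⟩
    haveI : CharP F (Fintype.card F) := charP_of_card_eq_prime rfl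
    have h' : ((3 : ℕ) : F) = 0 := by exact_mod_cast h3
    exact (Nat.prime_dvd_prime_iff_eq hp Nat.prime_three).1 ((CharP.cast_eq_zero_iff F (Fintype.card F) 3).1 h')
  obtain ⟨u, hu⟩ : ∃ u, u = g₀ * dg {0, 4} * g₀⁻¹ := ⟨_, rfl⟩
  have huH : u ∈ H := hu ▸ mul_mem (mul_mem hg (O.mem_pair (by decide))) (inv_mem hg)
  have hua : ∀ x : V₅, (u : M₅) *ᵥ x = x - (2 * ∑ i, (![-1, -1, -1, -1, 0] : V₅) i * x i) • ![-1, -1, -1, -1, 0] -
      (2 * x 4) • Pi.single 4 1 := fun x => by rw [hu]; exact conj_apply O hg h4 (by decide) h0 x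
  obtain ⟨s₀, hs₀⟩ : ∃ s₀ : V₅, s₀ = ![1, 1, 1, 0, 0] := ⟨_, rfl⟩
  have hq₀ : qs F 5 s₀ = 0 := by
    rw [hs₀, qs_apply, Fin.sum_univ_five]; simp; linear_combination h3
  have hpol : ∀ b : V₅, QuadraticMap.polar ⇑(qs F 5) s₀ b = 2 * (b 0 + b 1 + b 2) := fun b => by
    rw [polar_qs, hs₀, Fin.sum_univ_five]; simp
  -- a Siegel element
  obtain ⟨s₁, hs₁⟩ : ∃ s₁ : V₅, s₁ = ![0, 1, 1, 1, 0] := ⟨_, rfl⟩
  have hbase : ∃ t ∈ H, (t : M₅) = eMat (qs F 5) s₁ (-Pi.single 0 1) := by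
    refine ⟨u * dg {0, 4}, mul_mem huH (O.mem_pair (by decide)), Matrix.ext_iff_mulVec.2 fun x => funext fun i => ?_⟩
    rw [Units.val_mul, ← Matrix.mulVec_mulVec, hua, eMat_mulVec, polar_qs, polar_qs, qs_apply, hs₁, Fin.sum_univ_five,
      Fin.sum_univ_five, Fin.sum_univ_five, Fin.sum_univ_five]
    fin_cases i <;> simp [dg_mulVec, Matrix.vecHead, Matrix.vecTail]
    all_goals ring_nf
  obtain ⟨π₁, hπ₁, p0, p1, p2, p3, p4⟩ := perm_move
  have hm₁ := O.mem_pure hπ₁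
  have he4 : Pi.single 4 (1 : F) ∈ CR (M := H) hq₀ := by
    obtain ⟨t, ht, et⟩ := O.siegel_conj hm₁ hbase
    have e1 : ((sp π₁ (fun _ => 1) : GL₅) : M₅) *ᵥ s₁ = s₀ := by
      have hall : ∀ i, ∃ j, π₁ j = i := π₁.surjective
      funext i
      obtain ⟨j, rfl⟩ := hall i
      rw [sp_mulVec, Equiv.symm_apply_apply, Units.val_one, one_mul, hs₁, hs₀]
      fin_cases j <;> dsimp only [Fin.reduceFinMk, Fin.zero_eta, Fin.mk_one] <;> simp [p0, p1, p2, p3, p4]
    rw [e1, Matrix.mulVec_neg, sp_single, p0, Units.val_one] at et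
    have h := O.mem_CR_of hp hq₀ (b := -Pi.single 4 1) (by rw [hpol]; simp) ⟨t, ht, et⟩
    simpa using neg_mem h
  obtain ⟨m, hm⟩ : ∃ m : GL₅, m = sp (Equiv.swap (3 : Fin 5) 4 * Equiv.swap 0 1) fun _ => 1 := ⟨_, rfl⟩
  have hmH : m ∈ H := hm ▸ O.mem_pure swap_map
  have hms : (m : M₅) *ᵥ s₀ = s₀ := funext fun i => by
    rw [hm, sp_mulVec, Units.val_one, one_mul, hs₀]; fin_cases i <;> rfl
  have stab : ∀ g ∈ H, (g : M₅) *ᵥ s₀ = s₀ → ∀ b ∈ CR (M := H) hq₀, (g : M₅) *ᵥ b ∈ CR (M := H) hq₀ :=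
    fun g hgH hgs b hb => O.mem_CR_of hp hq₀
      (by conv_lhs => rw [← hgs]; rw [OrthAut.isometry_polar (O.iso g hgH), hb.1])
      (by
        obtain ⟨t, ht, e⟩ := hb.2 1
        rw [one_smul] at e
        obtain ⟨t', ht', e'⟩ := O.siegel_conj hgH ⟨t, ht, e⟩
        exact ⟨t', ht', by rw [e', hgs]⟩)
  have he3 : Pi.single 3 (1 : F) ∈ CR (M := H) hq₀ := by
    have h := stab m hmH hms _ he4
    rwa [hm, sp_single, show (Equiv.swap (3 : Fin 5) 4 * Equiv.swap 0 1 : Equiv.Perm (Fin 5)) 4 = 3 by decide,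
      Units.val_one] at h
  obtain ⟨π₂, hπ₂⟩ : ∃ π₂ : Equiv.Perm (Fin 5), π₂ = Equiv.swap 2 4 * Equiv.swap 0 1 := ⟨_, rfl⟩
  obtain ⟨hs2, r0, r1, r2, r3, r4⟩ := perm_pair π₂ hπ₂
  obtain ⟨h, hh⟩ : ∃ h : GL₅, h = sp π₂ (sgn F {0, 4}) := ⟨_, rfl⟩
  have hhH : h ∈ H := hh ▸ O.mem_sp hs2 ⟨1, rfl⟩
  obtain ⟨d, hd⟩ : ∃ d, d = h * u * h⁻¹ * dg {2, 3} := ⟨_, rfl⟩
  have hdH : d ∈ H := hd ▸ mul_mem (mul_mem (mul_mem hhH huH) (inv_mem hhH)) (O.mem_pair (by decide))
  have hhv : ∀ y : V₅, (h : M₅) *ᵥ y = ![y 1, -y 0, -y 4, y 3, y 2] := fun y => funext fun i => by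
    rw [hh, sp_mulVec]
    fin_cases i <;> dsimp only [Fin.reduceFinMk, Fin.zero_eta, Fin.mk_one] <;> simp [r0, r1, r2, r3, r4, sgn]
  have hdv : ∀ x y z : V₅, ((dg {2, 3} : GL₅) : M₅) *ᵥ x = (h : M₅) *ᵥ y → (u : M₅) *ᵥ y = z →
      (d : M₅) *ᵥ x = (h : M₅) *ᵥ z := fun x y z e e' => by
    rw [hd, Units.val_mul, ← Matrix.mulVec_mulVec, e, Matrix.mulVec_mulVec, ← Units.val_mul, inv_mul_cancel_right,
      Units.val_mul, ← Matrix.mulVec_mulVec, e']
  have hds : (d : M₅) *ᵥ s₀ = s₀ := by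
    rw [hdv s₀ ![-1, 1, 0, 0, 1] ![-1, 1, 0, 0, -1]]
    · rw [hhv, hs₀]; funext i; fin_cases i <;> simp
    · rw [hhv, hs₀]; funext i; fin_cases i <;> simp [dg_mulVec]
    · rw [hua, Fin.sum_univ_five]; funext i; fin_cases i <;> simp <;> linear_combination 0 * h3
  have hde : (d : M₅) *ᵥ Pi.single 4 1 = ![1, -1, 0, 1, 2] := by
    rw [hdv _ ![0, 0, 1, 0, 0] ![1, 1, 2, 1, 0]]
    · rw [hhv]; funext i; fin_cases i <;> simp
    · rw [hhv]; funext i; fin_cases i <;> simp [dg_mulVec]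
    · rw [hua, Fin.sum_univ_five]; funext i; fin_cases i <;> simp <;> linear_combination -h3
  have hd' : (![1, -1, 0, 0, 0] : V₅) ∈ CR (M := H) hq₀ := by
    have h1 := stab d hdH hds _ he4
    rw [hde] at h1
    have := Submodule.sub_mem _ (Submodule.sub_mem _ h1 he3) (Submodule.smul_mem _ 2 he4)
    convert this using 1
    funext i; fin_cases i <;> simp [Matrix.vecHead, Matrix.vecTail]
  have hself : s₀ ∈ CR (M := H) hq₀ := by
    refine ⟨by rw [QuadraticMap.polar_self, hq₀, smul_zero], fun r => ⟨1, one_mem H, ?_⟩⟩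
    refine Matrix.ext_iff_mulVec.2 fun x => ?_
    rw [Units.val_one, Matrix.one_mulVec, eMat_mulVec, QuadraticMap.map_smul, hq₀, smul_zero,
      QuadraticMap.polar_smul_left]
    simp [smul_smul, mul_comm]
  have hfull : Full (qs F 5) H s₀ := fun b hb => by
    rw [hpol] at hb
    have hb' := (mul_eq_zero.1 hb).resolve_left O.two
    have hmem : b ∈ CR (M := H) hq₀ := by
      have hs : b = (-(b 0 - b 1)) • ![1, -1, 0, 0, 0] + (-(b 0 + b 1)) • s₀ + b 3 • Pi.single 3 1 +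
          b 4 • Pi.single 4 1 := by
        funext i
        fin_cases i <;> simp [hs₀, Matrix.vecHead, Matrix.vecTail]
        · linear_combination b 0 * h3
        · linear_combination b 1 * h3
        · linear_combination hb'
      rw [hs]
      exact Submodule.add_mem _ (Submodule.add_mem _ (Submodule.add_mem _ (Submodule.smul_mem _ _ hd')
        (Submodule.smul_mem _ _ hself)) (Submodule.smul_mem _ _ he3)) (Submodule.smul_mem _ _ he4)
    obtain ⟨t, ht, e⟩ := hmem.2 1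
    exact ⟨t, ht, by rw [e, one_smul]⟩
  intro s hs hs3 b hb
  by_cases hs0 : s = 0
  · refine ⟨1, one_mem H, Matrix.ext_iff_mulVec.2 fun x => ?_⟩
    rw [eMat_mulVec, hs0, Units.val_one, Matrix.one_mulVec]
    simp
  have hsq : ∀ i ∈ supp s, s i * s i = 1 := fun i hi => by
    have h := FiniteField.pow_card_sub_one_eq_one (s i) (mem_supp.1 hi)
    rw [hcard] at h
    linear_combination h
  have hs3' : (supp s).card = 3 := by
    obtain ⟨i, hi⟩ := Function.ne_iff.1 hs0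
    have hpos : 0 < (supp s).card := Finset.card_pos.2 ⟨i, mem_supp.2 hi⟩
    have hz : ((supp s).card : F) = 0 := by
      rw [← hs, qs_apply, ← Finset.sum_subset (Finset.subset_univ (supp s)) (fun i _ hi => by
        rw [show s i = 0 from by_contra fun h => hi (mem_supp.2 h), mul_zero]), Finset.sum_congr rfl hsq]
      simp
    haveI : Fact (Fintype.card F).Prime := ⟨hp⟩
    haveI : CharP F (Fintype.card F) := charP_of_card_eq_prime rfl
    have := Nat.le_of_dvd hpos ((CharP.cast_eq_zero_iff F (Fintype.card F) _).1 hz)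
    omega
  obtain ⟨π, hπ, hπS⟩ := exists_perm_map (S := ({0, 1, 2} : Finset (Fin 5))) (S' := supp s)
    (by rw [hs3']; rfl) (Or.inl (by decide))
  obtain ⟨S₀, hS₀⟩ : ∃ S₀ : Finset (Fin 5), S₀ = ({0, 1, 2} : Finset (Fin 5)).filter fun i => s (π i) = -1 := ⟨_, rfl⟩
  obtain ⟨S, hSe, hS⟩ : ∃ S : Finset (Fin 5), Even S.card ∧ ∀ i ∈ ({0, 1, 2} : Finset (Fin 5)), i ∈ S ↔ i ∈ S₀ := by
    rcases Nat.even_or_odd S₀.card with he | ho
    · exact ⟨S₀, he, fun i _ => Iff.rfl⟩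
    · refine ⟨insert 4 S₀, ?_, fun i hi => ?_⟩
      · rw [Finset.card_insert_of_notMem (by rw [hS₀]; simp)]; exact ho.add_one
      · fin_cases hi <;> simp
  obtain ⟨k, hk⟩ : ∃ k : GL₅, k = sp π (sgn F S) := ⟨_, rfl⟩
  have hkH : k ∈ H := hk ▸ O.mem_sp hπ hSe
  have hks : (k : M₅) *ᵥ s₀ = s := by
    funext i
    obtain ⟨j, rfl⟩ := π.surjective i
    rw [hk, sp_mulVec, Equiv.symm_apply_apply]
    by_cases hj : j ∈ ({0, 1, 2} : Finset (Fin 5))
    · have hj1 : s₀ j = 1 := by rw [hs₀]; fin_cases hj <;> rfl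
      rw [hj1, mul_one]
      by_cases hneg : s (π j) = -1
      · rw [show sgn F S j = -1 from if_pos ((hS j hj).2 (by rw [hS₀]; exact Finset.mem_filter.2 ⟨hj, hneg⟩)), hneg]
        simp
      · rw [show sgn F S j = 1 from if_neg (fun h => hneg (by
          have := (hS j hj).1 h; rw [hS₀] at this; exact (Finset.mem_filter.1 this).2)), Units.val_one]
        exact ((mul_self_eq_one_iff.1 (hsq _ ((hπS j).2 hj))).resolve_right hneg).symm
    · have hz : s₀ j = 0 := by rw [hs₀]; fin_cases j <;> simp at hj <;> rfl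
      rw [hz, mul_zero]
      exact (by_contra fun h => hj ((hπS j).1 (mem_supp.2 (Ne.symm h))))
  obtain ⟨t, ht, et⟩ := hfull (((k⁻¹ : GL₅) : M₅) *ᵥ b) (by
    rw [← OrthAut.isometry_polar (O.iso k hkH), hks, mulVec_inv_cancel, hb])
  obtain ⟨t', ht', e'⟩ := O.siegel_conj hkH ⟨t, ht, et⟩
  exact ⟨t', ht', by rw [e', hks, mulVec_inv_cancel]⟩

/-- Elements fixing one frame vector. -/
theorem concl_of_half (O : Fr H) (hp : (Fintype.card F).Prime) (h2 : Fix H 2) {g : GL₅} (hg : g ∈ H) {i : Fin 5}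
    (hi : (g : M₅) *ᵥ Pi.single i 1 = Pi.single i 1) (hnm : ¬ Mon g) : Concl H := by
  classical
  obtain ⟨π, hπ, hπS⟩ := exists_perm_map (S := ({i} : Finset (Fin 5))) (S' := {4}) (by simp) (Or.inr (by
    rw [Finset.card_compl, Finset.card_singleton]; decide))
  obtain ⟨m, hm⟩ : ∃ m : GL₅, m = sp π fun _ => 1 := ⟨_, rfl⟩
  have hmH : m ∈ H := hm ▸ O.mem_pure hπ
  have hmm : Mon m := hm ▸ mon_sp _ _
  have hπi : π i = 4 := by simpa using (hπS i).2 (by simp)
  have hm1 : (m : M₅) *ᵥ Pi.single i 1 = Pi.single 4 1 := by rw [hm, sp_single, hπi, Units.val_one]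
  have h4 : ((m * g * m⁻¹ : GL₅) : M₅) *ᵥ Pi.single 4 1 = Pi.single 4 1 := by
    rw [Units.val_mul, Units.val_mul, ← Matrix.mulVec_mulVec, ← Matrix.mulVec_mulVec, ← hm1, inv_mulVec_cancel, hi]
  have hnm' : ¬ Mon (m * g * m⁻¹) := fun h => hnm (by
    have := ((O.mon_inv hmH hmm).mul h).mul hmm
    rwa [show m⁻¹ * (m * g * m⁻¹) * m = g by group] at this)
  obtain ⟨c, hc⟩ : ∃ c : F, 2 * c = 1 := ⟨_, mul_inv_cancel₀ O.two⟩
  obtain ⟨g₀, hg₀, h4₀, hnm₀, h0⟩ :=
    exists_normal O h2 (mul_mem (mul_mem hmH hg) (inv_mem hmH)) h4 hnm' hc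
  by_cases h3 : (3 : F) = 0
  · exact concl_three O hp h3 hg₀ h4₀ hc h0
  · exact (no_normal O h2 h3 hg₀ h4₀ hnm₀ hc h0).elim

end Half

end Cfsg.Agent.Classical.OrthFrame
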