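import Cfsg.Agent.Lib.Classical.MaxFrameTriple
import Cfsg.Agent.Lib.Classical.MaxFrameHalfMain

/-!
Stabilisers in `Ω` of orthogonal frames of isometric lines over prime fields are maximal.
-/

set_option autoImplicit false
set_option linter.unusedSectionVars false
set_option linter.style.haveILetI false
set_option quotPrecheck false

namespace Cfsg.Agent.Classical.OrthFrame

open Matrix Module MaxTv OrthAut

variable {F : Type*} [Field F] [Fintype F]

/-- Over three elements no non-monomial element fixes two frame vectors in dimension five. -/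
theorem mon_three {H : Subgroup (GL (Fin 5) F)} (O : Fr H) (h3 : Fintype.card F = 3) : Fix H 2 := by
  classical
  intro g hg S hS hfix k
  by_cases hk : k ∈ S
  · refine ⟨k, fun l hl => ?_⟩
    rw [← Half.gl_col, hfix k hk, Pi.single_eq_of_ne hl]
  obtain ⟨x, hx⟩ : ∃ x, x = (g : Matrix (Fin 5) (Fin 5) F) *ᵥ Pi.single k 1 := ⟨_, rfl⟩
  have hzero : ∀ i ∈ S, x i = 0 := fun i hi => by
    have h := O.polar_eq hg (Pi.single k 1) (Pi.single i 1)
    rw [hfix i hi, ← hx] at h
    simpa [Pi.single_apply, show k ≠ i from fun e => hk (e ▸ hi), show i ≠ k from fun e => hk (e ▸ hi)] using h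
  have hcard : (supp x).card ≤ 3 := by
    have hsub : supp x ⊆ Sᶜ := fun i hi => Finset.mem_compl.2 fun h => mem_supp.1 hi (hzero i h)
    have h := Finset.card_le_card hsub
    rw [Finset.card_compl, Fintype.card_fin] at h
    omega
  have hsq : ∀ i ∈ supp x, x i * x i = 1 := fun i hi => by
    have h := FiniteField.pow_card_sub_one_eq_one (x i) (mem_supp.1 hi)
    rw [h3] at h
    linear_combination h
  have hsum : ((supp x).card : F) = 1 := by
    have h := O.polar_eq hg (Pi.single k 1) (Pi.single k 1)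
    rw [← hx, ← Finset.sum_subset (Finset.subset_univ (supp x)) (fun i _ hi => by
      rw [show x i = 0 from by_contra fun h => hi (mem_supp.2 h), mul_zero]), Finset.sum_congr rfl hsq] at h
    simpa [Pi.single_apply] using h
  haveI : Fact (Fintype.card F).Prime := ⟨h3 ▸ Nat.prime_three⟩
  haveI : CharP F (Fintype.card F) := charP_of_card_eq_prime rfl
  have h1 : (supp x).card = 1 := by
    have h30 : ((3 : ℕ) : F) = 0 := h3 ▸ CharP.cast_eq_zero F (Fintype.card F)
    have hcases : (supp x).card = 0 ∨ (supp x).card = 1 ∨ (supp x).card = 2 ∨ (supp x).card = 3 := by omega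
    rcases hcases with e | e | e | e
    · rw [e, Nat.cast_zero] at hsum; exact absurd hsum.symm one_ne_zero
    · exact e
    · rw [e] at hsum; push_cast at hsum
      exact absurd (by linear_combination hsum : (1 : F) = 0) one_ne_zero
    · rw [e, h30] at hsum; exact absurd hsum.symm one_ne_zero
  obtain ⟨j, hj⟩ := Finset.card_eq_one.1 h1
  refine ⟨j, fun l hl => ?_⟩
  rw [← Half.gl_col, ← hx]
  by_contra hne
  exact hl (Finset.mem_singleton.1 (hj ▸ mem_supp.2 hne))

/-- Dimension five. -/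
theorem dich_five {H : Subgroup (GL (Fin 5) F)} (O : Fr H) (hp : (Fintype.card F).Prime) :
    (∀ g ∈ H, Mon g) ∨ Concl H := by
  classical
  by_cases h2 : Fix H 2
  · by_cases h1 : Fix H 1
    · exact Or.inl fun g hg => O.all_mon (by norm_num) (by norm_num) (by norm_num) h2 (fun _ => h1) hg
    · simp only [Fix, not_forall] at h1
      obtain ⟨g, hg, S, hS, hfix, hnm⟩ := h1
      obtain ⟨i, hi⟩ := Finset.card_pos.1 (show 0 < S.card by omega)
      exact Or.inr (Half.concl_of_half O hp h2 hg (hfix i hi) hnm)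
  · have hq5 : 5 ≤ Fintype.card F := by
      have := hp.two_le
      rcases eq_or_ne (Fintype.card F) 3 with h3 | h3
      · exact absurd (mon_three O h3) h2
      rcases eq_or_ne (Fintype.card F) 2 with h | h
      · haveI : Fact (Fintype.card F).Prime := ⟨hp⟩
        haveI : CharP F (Fintype.card F) := charP_of_card_eq_prime rfl
        refine absurd ?_ O.two
        have := CharP.cast_eq_zero F (Fintype.card F)
        rw [h] at this
        exact_mod_cast this
      rcases eq_or_ne (Fintype.card F) 4 with h4 | h4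
      · rw [h4] at hp; exact absurd hp (by norm_num)
      omega
    simp only [Fix, not_forall] at h2
    obtain ⟨g, hg, S, hS, hfix, hnm⟩ := h2
    obtain ⟨i, hi, j, hj, hij⟩ := Finset.one_lt_card.1 (show 1 < S.card by omega)
    exact Or.inr (concl_of_triple O hp hq5 hg hij (hfix i hi) (hfix j hj) hnm)

/-- The dichotomy. -/
theorem dich : ∀ n, 5 ≤ n → (Odd n ∨ 10 ≤ n) → ∀ {H : Subgroup (GL (Fin n) F)}, Fr H →
    (Fintype.card F).Prime → (∀ g ∈ H, Mon g) ∨ Concl H := by
  classical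
  intro n
  induction n using Nat.strong_induction_on with
  | _ n ih =>
    intro hn hsh H O hp
    rcases eq_or_ne n 5 with rfl | h5
    · exact dich_five O hp
    obtain ⟨k, hk, hkodd, hkn⟩ : ∃ k, (k = 1 ∨ k = 2) ∧ Odd (n - k) ∧ 5 ≤ n - k := by
      rcases Nat.even_or_odd n with he | ho
      · have h10 := hsh.resolve_left (Nat.not_odd_iff_even.2 he)
        obtain ⟨r, rfl⟩ := he
        exact ⟨1, Or.inl rfl, ⟨r - 1, by omega⟩, by omega⟩
      · obtain ⟨r, rfl⟩ := ho
        exact ⟨2, Or.inr rfl, ⟨r - 1, by omega⟩, by omega⟩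
    by_cases hfx : Fix H k
    · refine Or.inl fun g hg => O.all_mon hn ?_ ?_ (fun g hg S hS => hfx g hg S (by omega)) (fun e => absurd e h5) hg
      · rintro rfl; rcases hsh with h | h
        · exact absurd h (by decide)
        · omega
      · rintro rfl; rcases hsh with h | h
        · exact absurd h (by decide)
        · omega
    · simp only [Fix, not_forall] at hfx
      obtain ⟨g, hg, S, hS, hfix, hnm⟩ := hfx
      obtain ⟨T, hTS, hT⟩ := Finset.exists_subset_card_eq (s := S) (n := k) hS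
      have hcard : Fintype.card {i // i ∈ Tᶜ} = n - k := by
        rw [Fintype.card_coe, Finset.card_compl, Fintype.card_fin, hT]
      obtain ⟨σ, hσ⟩ : ∃ σ : Fin (n - k) → Fin n, σ = fun i => ((Fintype.equivFinOfCardEq hcard).symm i : Fin n) :=
        ⟨_, rfl⟩
      have hσi : Function.Injective σ := hσ ▸ Subtype.val_injective.comp (Equiv.injective _)
      obtain ⟨g₀, hg₀, hg₀m⟩ := O.exists_restrict hσi hg fun i hi => hfix i (hTS (by
        by_contra hiT
        exact hi ⟨Fintype.equivFinOfCardEq hcard ⟨i, Finset.mem_compl.2 hiT⟩, by rw [hσ]; simp⟩))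
      rcases ih (n - k) (by omega) hkn (Or.inl hkodd) (O.comap hσi) hp with h | h
      · exact absurd (hg₀m (h g₀ hg₀)) hnm
      · exact Or.inr (O.concl_lift hp hσi hkn (by omega) h)

theorem omegaGL_eq {ι : Type} [Fintype ι] [DecidableEq ι] (Q : (ι → F) → F) :
    Geo.omegaGL Q = ⁅isometryGroup F Q, isometryGroup F Q⁆ := by
  rw [Geo.omegaGL, Omega, commutator_def, Subgroup.map_commutator, ← MonoidHom.range_eq_map, Subgroup.range_subtype]

section Transport

variable {ι : Type} [Fintype ι] [DecidableEq ι] {n : ℕ} (L : (Fin n → F) ≃ₗ[F] (ι → F))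

/-- Change of coordinates. -/
noncomputable def chg : GL ι F →* GL (Fin n) F :=
  MonoidHom.toHomUnits
    { toFun := fun g => LinearMap.toMatrix' (L.symm.toLinearMap ∘ₗ Matrix.toLin' (g : Matrix ι ι F) ∘ₗ L.toLinearMap)
      map_one' := Matrix.ext_iff_mulVec.2 fun x => by simp [LinearMap.toMatrix'_mulVec]
      map_mul' := fun g h => Matrix.ext_iff_mulVec.2 fun x => by
        simp [← Matrix.mulVec_mulVec, LinearMap.toMatrix'_mulVec] }

theorem chg_mulVec (g : GL ι F) (x : Fin n → F) :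
    ((chg L g : GL (Fin n) F) : Matrix (Fin n) (Fin n) F) *ᵥ x = L.symm ((g : Matrix ι ι F) *ᵥ L x) := by
  show LinearMap.toMatrix' (L.symm.toLinearMap ∘ₗ Matrix.toLin' (g : Matrix ι ι F) ∘ₗ L.toLinearMap) *ᵥ x = _
  rw [LinearMap.toMatrix'_mulVec]
  simp

theorem chg_injective : Function.Injective (chg L) := fun g h e => Units.ext (Matrix.ext_iff_mulVec.2 fun y => by
  have h1 := congrArg (fun a : GL (Fin n) F => (a : Matrix (Fin n) (Fin n) F) *ᵥ L.symm y) e
  simp only [chg_mulVec, LinearEquiv.apply_symm_apply] at h1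
  exact L.symm.injective h1)

theorem chg_surjective (h : GL (Fin n) F) : ∃ g, chg L g = h := by
  obtain ⟨g, hg⟩ := exists_gl_of_injective
    (L.toLinearMap ∘ₗ Matrix.toLin' (h : Matrix (Fin n) (Fin n) F) ∘ₗ L.symm.toLinearMap) (fun x y e => by
      simp at e
      exact L.symm.injective (gl_mulVec_injective h e))
  refine ⟨g, Units.ext (Matrix.ext_iff_mulVec.2 fun x => ?_)⟩
  rw [chg_mulVec, hg]
  simp

theorem map_isometryGroup {c : F} (hc : c ≠ 0) (Q : (ι → F) → F) (hL : ∀ x, Q (L x) = c * qs F n x) :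
    (isometryGroup F Q).map (chg L) = isometryGroup F ⇑(qs F n) := by
  ext h
  constructor
  · rintro ⟨g, hg, rfl⟩
    refine mem_isometryGroup.2 fun x => mul_left_cancel₀ hc ?_
    rw [← hL, ← hL, chg_mulVec, LinearEquiv.apply_symm_apply, mem_isometryGroup.1 hg]
  · intro hh
    obtain ⟨g, rfl⟩ := chg_surjective L h
    refine ⟨g, mem_isometryGroup.2 fun y => ?_, rfl⟩
    have h1 := mem_isometryGroup.1 hh (L.symm y)
    rw [chg_mulVec, LinearEquiv.apply_symm_apply] at h1
    rw [← L.apply_symm_apply ((g : Matrix ι ι F) *ᵥ y), hL, h1, ← hL, LinearEquiv.apply_symm_apply]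

theorem map_omegaGL {c : F} (hc : c ≠ 0) (Q : (ι → F) → F) (hL : ∀ x, Q (L x) = c * qs F n x) :
    (Geo.omegaGL Q).map (chg L) = Geo.omegaGL ⇑(qs F n) := by
  rw [omegaGL_eq, omegaGL_eq, Subgroup.map_commutator, map_isometryGroup L hc Q hL]

end Transport

theorem qs_nondeg (h2 : (2 : F) ≠ 0) (n : ℕ) : (QuadraticMap.polarBilin (qs F n)).Nondegenerate := by
  have key : ∀ u : Fin n → F, (∀ v, QuadraticMap.polar ⇑(qs F n) u v = 0) → u = 0 := fun u hu => funext fun i => by
    have h1 := hu (Pi.single i 1)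
    rw [polar_qs, Finset.sum_eq_single i (fun j _ hj => by rw [Pi.single_eq_of_ne hj, mul_zero]) (by simp),
      Pi.single_eq_same, mul_one] at h1
    exact (mul_eq_zero.1 h1).resolve_left h2
  exact ⟨fun u hu => key u hu, fun u hu => key u fun v => by rw [QuadraticMap.polar_comm]; exact hu v⟩

/-- The kernel of the spinor invariants contains squares. -/
theorem sq_mem_omega (h2 : (2 : F) ≠ 0) {n : ℕ} {g : GL (Fin n) F}
    (hg : ∀ x, qs F n ((g : Matrix (Fin n) (Fin n) F) *ᵥ x) = qs F n x) : g * g ∈ Geo.omegaGL ⇑(qs F n) := by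
  have hnd := qs_nondeg h2 n
  obtain ⟨U, hU⟩ : ∃ U : isometryGroup F ⇑(qs F n), U = ⟨g, mem_isometryGroup.2 hg⟩ := ⟨_, rfl⟩
  have hUU : U * U ∈ Omega F ⇑(qs F n) := by
    rw [omega_eq_ker hnd (genQ_odd hnd h2), MonoidHom.mem_ker, map_mul]
    exact Prod.ext (Int.units_mul_self _) (Int.units_mul_self _)
  have := MaxTv.mem_omegaGL_of hUU
  rwa [hU] at this

/-- Not all of `Ω` is monomial. -/
theorem exists_not_mon (h2 : (2 : F) ≠ 0) {n : ℕ} (hn : 7 ≤ n) :
    ∃ u ∈ Geo.omegaGL ⇑(qs F n), ¬ Mon u := by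
  classical
  have hnd := qs_nondeg h2 n
  have hT : Tri (qs F n) := AschOrthTwo.tri_of_card hnd (by rw [Fintype.card_fin]; exact hn)
  obtain ⟨P, R, hPR⟩ := exists_sq_add_sq h2 (-1 : F)
  obtain ⟨i, j, k, l, hij, hik, hil, hjk, hjl, hkl⟩ : ∃ i j k l : Fin n, i ≠ j ∧ i ≠ k ∧ i ≠ l ∧ j ≠ k ∧ j ≠ l ∧ k ≠ l := by
    refine ⟨⟨0, by omega⟩, ⟨1, by omega⟩, ⟨2, by omega⟩, ⟨3, by omega⟩, ?_, ?_, ?_, ?_, ?_, ?_⟩ <;> simp
  obtain ⟨j', hj', hPj, hij'⟩ : ∃ (j' : Fin n) (s : Fin n → F), (s i = 1 ∧ qs F n s = 0 ∧ s l = 0) ∧ s j' ≠ 0 ∧ j' ≠ i := by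
    obtain ⟨s, hs⟩ : ∃ s : Fin n → F, s = Pi.single i 1 + Pi.single j P + Pi.single k R := ⟨_, rfl⟩
    have hsum : ∀ (y : Fin n → F), ∑ m, s m * y m = y i + P * y j + R * y k := fun y => by
      simp only [hs, Pi.add_apply, add_mul, Finset.sum_add_distrib, Pi.single_apply, ite_mul, zero_mul,
        Finset.sum_ite_eq', Finset.mem_univ, if_true, one_mul]
    have hsi : s i = 1 := by simp [hs, hij, hik]
    have hsj : s j = P := by simp [hs, hij.symm, hjk]
    have hsk : s k = R := by simp [hs, hik.symm, hjk.symm]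
    have hsl : s l = 0 := by simp [hs, hil.symm, hjl.symm, hkl.symm]
    have hq : qs F n s = 0 := by rw [qs_apply, hsum, hsi, hsj, hsk]; linear_combination hPR
    by_cases hP : P = 0
    · refine ⟨k, s, ⟨hsi, hq, hsl⟩, ?_, hik.symm⟩
      rw [hsk]
      intro hR
      rw [hP, hR] at hPR
      exact one_ne_zero (α := F) (by linear_combination hPR)
    · exact ⟨j, s, ⟨hsi, hq, hsl⟩, by rw [hsj]; exact hP, hij.symm⟩
  obtain ⟨⟨hsi, hq, hsl⟩, hsj, hji⟩ := And.intro hPj hij'
  have hpol : QuadraticMap.polar ⇑(qs F n) hj' (Pi.single l 1) = 0 := by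
    rw [polar_qs, Finset.sum_eq_single l (fun m _ hm => by rw [Pi.single_eq_of_ne hm, mul_zero]) (by simp), hsl]
    ring
  refine ⟨_, MaxTv.mem_omegaGL_of (sR_le_omega hnd hT (eOG_mem hnd hT ⟨hq, hpol⟩)), fun hmon => ?_⟩
  obtain ⟨m, hm⟩ := hmon i
  have hcol : ∀ x, x ≠ m → ((eMat (qs F n) hj' (Pi.single l 1)) *ᵥ Pi.single i 1) x = 0 := fun x hx => by
    have h1 := hm x hx
    rw [Matrix.mulVec_single, MulOpposite.op_one, one_smul, Matrix.col_apply]
    rwa [show ((eOG (Q := qs F n) ⟨hq, hpol⟩ : GL (Fin n) F) : Matrix (Fin n) (Fin n) F) =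
      eMat (qs F n) hj' (Pi.single l 1) from eOG_val ⟨hq, hpol⟩] at h1
  have hB1 : QuadraticMap.polar ⇑(qs F n) hj' (Pi.single i 1) = 2 := by
    rw [polar_qs, Finset.sum_eq_single i (fun m _ hm => by rw [Pi.single_eq_of_ne hm, mul_zero]) (by simp), hsi]
    simp
  have hB2 : QuadraticMap.polar ⇑(qs F n) (Pi.single l (1 : F)) (Pi.single i 1) = 0 := by
    rw [polar_qs, Finset.sum_eq_single i (fun m _ hm => by rw [Pi.single_eq_of_ne hm, mul_zero]) (by simp),
      Pi.single_eq_of_ne hil, zero_mul, mul_zero]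
  have hql : qs F n (Pi.single l (1 : F)) = 1 := by simp [qs_apply, Pi.single_apply]
  have hval : ∀ x, ((eMat (qs F n) hj' (Pi.single l 1)) *ᵥ Pi.single i 1) x =
      (Pi.single i (1 : F) : Fin n → F) x + 2 * (Pi.single l (1 : F) : Fin n → F) x - 2 * hj' x := fun x => by
    rw [eMat_mulVec, hB1, hB2, hql]; simp
  have hjl' : j' ≠ l := fun e => hsj (e ▸ hsl)
  rcases eq_or_ne l m with rfl | hlm
  · have := hcol j' hjl'
    rw [hval, Pi.single_eq_of_ne hji, Pi.single_eq_of_ne hjl'] at this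
    exact mul_ne_zero h2 hsj (by linear_combination -this)
  · have := hcol l hlm
    rw [hval, Pi.single_eq_of_ne (Ne.symm hil), Pi.single_eq_same, hsl] at this
    exact h2 (by linear_combination this)

/-- Stabilisers of orthogonal frames of isometric lines are maximal over prime fields. -/
theorem orthogonal_frame_maximal {ι : Type} [Fintype ι] [DecidableEq ι] (Q₀ : (ι → F) → F)
    (hQ₀ : Geo.IsNondegenerateQuadraticForm Q₀) (hodd : Odd (Fintype.card F)) (hprime : (Fintype.card F).Prime)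
    (hcard : (Odd (Fintype.card ι) ∧ 7 ≤ Fintype.card ι) ∨ 10 ≤ Fintype.card ι) {t : ℕ}
    (D : Fin t → Submodule F (ι → F)) (hD : Geo.IsOrthogonalMDecomposition Q₀ 1 D) :
    Geo.IsMaximalIn (Geo.omegaGL Q₀) (Geo.decompositionStabilizer D ⊓ Geo.omegaGL Q₀) := by
  classical
  obtain ⟨Q, hQ⟩ := exists_form hQ₀
  subst hQ
  obtain ⟨⟨⟨ht, -, hdim, hind, htop⟩, hnd₀, horth⟩, hiso⟩ := hD
  have h2 : (2 : F) ≠ 0 := two_ne_zero_of_card_odd hodd
  -- a scaled orthonormal basis
  obtain ⟨a₀⟩ : Nonempty (Fin t) := ⟨⟨0, by omega⟩⟩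
  obtain ⟨v₀, hv₀, hv₀0⟩ := Submodule.exists_mem_ne_zero_of_ne_bot (p := D a₀) fun e => by
    have := hdim a₀; rw [e, finrank_bot] at this; omega
  choose e he using fun i => hiso a₀ i
  obtain ⟨v, hv⟩ : ∃ v : Fin t → ι → F, v = fun i => ((e i ⟨v₀, hv₀⟩ : D i) : ι → F) := ⟨_, rfl⟩
  have hvD : ∀ i, v i ∈ D i := fun i => by rw [hv]; exact (e i ⟨v₀, hv₀⟩).2
  have hvQ : ∀ i, Q (v i) = Q v₀ := fun i => by rw [hv]; exact he i ⟨v₀, hv₀⟩
  have hv0 : ∀ i, v i ≠ 0 := fun i h => by
    rw [hv] at h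
    have : (⟨v₀, hv₀⟩ : D a₀) = 0 := (e i).map_eq_zero_iff.1 (Subtype.ext h)
    exact hv₀0 (congrArg Subtype.val this)
  have hspan : ∀ i, D i = Submodule.span F {v i} := fun i =>
    (Submodule.eq_of_le_of_finrank_le ((Submodule.span_singleton_le_iff_mem _ _).2 (hvD i))
      (by rw [finrank_span_singleton (hv0 i), hdim])).symm
  have hli : LinearIndependent F v := iSupIndep.linearIndependent D hind hvD hv0
  have hsp : ⊤ ≤ Submodule.span F (Set.range v) := by
    rw [← htop]
    refine iSup_le fun i => ?_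
    rw [hspan i]
    exact Submodule.span_mono (Set.singleton_subset_iff.2 ⟨i, rfl⟩)
  obtain ⟨L, hL⟩ : ∃ L : (Fin t → F) ≃ₗ[F] (ι → F), ∀ x, L x = ∑ i, x i • v i :=
    ⟨(Basis.mk hli hsp).equivFun.symm, fun x => by simp [Basis.equivFun_symm_apply]⟩
  have htι : t = Fintype.card ι := by
    have := L.finrank_eq
    simpa [Module.finrank_fintype_fun_eq_card] using this
  obtain ⟨c, hc⟩ : ∃ c, c = Q v₀ := ⟨_, rfl⟩
  have hpv : ∀ i j, QuadraticMap.polar ⇑Q (v i) (v j) = if i = j then 2 * c else 0 := fun i j => by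
    rcases eq_or_ne i j with rfl | hij
    · rw [if_pos rfl, polar_self2, hvQ, hc]
    · rw [if_neg hij]; exact horth i j hij _ (hvD i) _ (hvD j)
  have hQL : ∀ x, Q (L x) = c * qs F t x := fun x => by
    refine mul_left_cancel₀ h2 ?_
    rw [← polar_self2, ← QuadraticMap.polarBilin_apply_apply, hL]
    simp only [map_sum, map_smul, LinearMap.sum_apply, LinearMap.smul_apply, QuadraticMap.polarBilin_apply_apply, hpv,
      smul_eq_mul, mul_ite, mul_zero, Finset.sum_ite_eq', Finset.sum_ite_eq, Finset.mem_univ, if_true, qs_apply,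
      Finset.mul_sum]
    exact Finset.sum_congr rfl fun i _ => by ring
  have hc0 : c ≠ 0 := fun h0 => by
    have hnd := nd_of_isNondegenerateQuadraticForm hQ₀
    refine hv0 a₀ (hnd.1 (v a₀) fun y => ?_)
    obtain ⟨x, rfl⟩ := L.surjective y
    simp only [hL, map_sum, map_smul, QuadraticMap.polarBilin_apply_apply, hpv, h0, mul_zero, ite_self, smul_zero,
      Finset.sum_const_zero]
  have hmap := map_omegaGL L hc0 ⇑Q hQL
  have hLe : ∀ i, L (Pi.single i 1) = v i := fun i => by simp [hL, Pi.single_apply]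
  have hstab : ∀ g, chg L g ∈ Geo.omegaGL ⇑(qs F t) → Mon (chg L g) → g ∈ Geo.decompositionStabilizer D := by
    intro g hg hm
    obtain ⟨π, ε, eπ, -⟩ := eq_sp_of_mon hm (isometry_of_mem_omegaGL hg)
    refine ⟨π, fun i => ?_⟩
    have hgv : (g : Matrix ι ι F) *ᵥ v i = (ε i : F) • v (π i) := by
      have h1 := chg_mulVec L g (Pi.single i 1)
      rw [eπ, sp_single, hLe] at h1
      rw [← L.apply_symm_apply ((g : Matrix ι ι F) *ᵥ v i), ← h1, show Pi.single (π i) (ε i : F) =
        (ε i : F) • (Pi.single (π i) 1 : Fin t → F) by rw [← Pi.single_smul, smul_eq_mul, mul_one], map_smul, hLe]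
    rw [hspan i, hspan (π i), Submodule.map_span, Set.image_singleton, Matrix.toLin'_apply, hgv,
      Submodule.span_singleton_smul_eq (IsUnit.mk0 _ (ε i).ne_zero)]
  have hmon : ∀ g ∈ Geo.decompositionStabilizer D, Mon (chg L g) := fun g ⟨σ, hσ⟩ i => by
    refine ⟨σ i, fun k hk => ?_⟩
    have hmem : (g : Matrix ι ι F) *ᵥ v i ∈ D (σ i) := by
      rw [← hσ i]; exact ⟨v i, hvD i, Matrix.toLin'_apply _ _⟩
    rw [hspan] at hmem
    obtain ⟨r, hr⟩ := Submodule.mem_span_singleton.1 hmem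
    have h1 := chg_mulVec L g (Pi.single i 1)
    rw [hLe, ← hr, map_smul, ← hLe, LinearEquiv.symm_apply_apply] at h1
    have h3 := congrFun h1 k
    rw [Matrix.mulVec_single, MulOpposite.op_one, one_smul, Matrix.col_apply, Pi.smul_apply, Pi.single_eq_of_ne hk,
      smul_zero] at h3
    exact h3
  have htodd : 5 ≤ t ∧ (Odd t ∨ 10 ≤ t) ∧ 7 ≤ t := by
    rw [htι]; rcases hcard with ⟨h, h'⟩ | h
    · exact ⟨by omega, Or.inl h, h'⟩
    · exact ⟨by omega, Or.inr h, by omega⟩
  refine isMaximalIn_intro inf_le_right (fun hle => ?_) fun M hHM hMK g hgM hgH => ?_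
  · obtain ⟨u, hu, hnm⟩ := exists_not_mon (F := F) h2 htodd.2.2
    rw [← hmap] at hu
    obtain ⟨g, hg, rfl⟩ := hu
    exact hnm (hmon g (hle hg).1)
  · obtain ⟨H, hH⟩ : ∃ H, H = M.map (chg L) := ⟨_, rfl⟩
    have hHo : H ≤ Geo.omegaGL ⇑(qs F t) := by rw [hH, ← hmap]; exact Subgroup.map_mono hMK
    have O : Fr H :=
      { two := h2
        iso := fun h hh => isometry_of_mem_omegaGL (hHo hh)
        det := fun h hh => by
          obtain ⟨x, hx, rfl⟩ := hHo hh
          exact OrthAut.det_omega hx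
        mon := fun π ε hε => by
          have hiso' : ∀ x, qs F t (((sp π ε : GL (Fin t) F) : Matrix (Fin t) (Fin t) F) *ᵥ x) = qs F t x := by
            intro x
            rw [qs_apply, qs_apply, ← Equiv.sum_comp π]
            refine Finset.sum_congr rfl fun i _ => ?_
            rw [sp_mulVec, Equiv.symm_apply_apply]
            linear_combination x i * x i * hε i
          have hsq := sq_mem_omega h2 hiso'
          have hm : Mon (sp π ε * sp π ε : GL (Fin t) F) := (mon_sp π ε).mul (mon_sp π ε)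
          rw [← hmap] at hsq
          obtain ⟨g, hg, eg⟩ := hsq
          rw [hH]
          refine ⟨g, hHM ⟨hstab g ?_ ?_, hg⟩, eg⟩
          · rw [← hmap]; exact Subgroup.mem_map_of_mem _ hg
          · rw [eg]; exact hm }
    rcases dich t htodd.1 htodd.2.1 O hprime with h | h
    · refine absurd ⟨hstab g (hHo (hH ▸ Subgroup.mem_map_of_mem _ hgM)) (h _ (hH ▸ Subgroup.mem_map_of_mem _ hgM)),
        hMK hgM⟩ hgH
    · have hle := O.omega_le htodd.2.2 h
      rw [hH, ← hmap, Subgroup.map_le_map_iff_of_injective (chg_injective L)] at hle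
      exact hle

end Cfsg.Agent.Classical.OrthFrame
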