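import Cfsg.Agent.Lib.Classical.CliffordFourElements
import Cfsg.Agent.Lib.Classical.MaxFrameMain
import Cfsg.Agent.Lib.Classical.MaxSympWreath
import Cfsg.Agent.Lib.Classical.SympSimple

/-!
Normalisers of two-groups of symplectic type of minus type are maximal in `Sp₄(p)`: the self-adjoint trace zero
matrices form a five dimensional orthogonal space with an orthonormal basis from the two-group.
-/

set_option autoImplicit false
set_option linter.style.haveILetI false
set_option linter.unusedSectionVars false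

namespace Cfsg.Agent.Classical.SpClifford

open Matrix Module MaxTv CliffordFour

local notation "I4" => (Fin 2 ⊕ Fin 2)

variable {F : Type*} [Field F]

local notation "G4" => GL I4 F
local notation "M4" => Matrix I4 I4 F
local notation "V4" => (I4 → F)
local notation "B" => sympForm 2 F
local notation "NR" => fun R => Subgroup.normalizer ((R : Subgroup (GL (Fin 2 ⊕ Fin 2) F)) : Set (GL (Fin 2 ⊕ Fin 2) F))

variable (F) in
/-- The self-adjoint matrices of trace zero. -/
def saZero : Submodule F (Matrix (Fin 2 ⊕ Fin 2) (Fin 2 ⊕ Fin 2) F) where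
  carrier := {X | (∀ x y, B (X *ᵥ x) y = B x (X *ᵥ y)) ∧ X.trace = 0}
  add_mem' := by
    rintro X Y ⟨h1, h2⟩ ⟨h3, h4⟩
    refine ⟨fun x y => ?_, by rw [Matrix.trace_add, h2, h4, add_zero]⟩
    rw [Matrix.add_mulVec, Matrix.add_mulVec, sympForm_add_left, sympForm_add_right, h1, h3]
  zero_mem' := ⟨fun x y => by simp, Matrix.trace_zero _ _⟩
  smul_mem' := by
    rintro c X ⟨h1, h2⟩
    refine ⟨fun x y => ?_, by rw [Matrix.trace_smul, h2, smul_zero]⟩
    rw [Matrix.smul_mulVec, Matrix.smul_mulVec, sympForm_smul_left, sympForm_smul_right, h1]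

theorem mem_saZero {X : M4} : X ∈ saZero F ↔ (∀ x y, B (X *ᵥ x) y = B x (X *ᵥ y)) ∧ X.trace = 0 := Iff.rfl

theorem mulJ_apply (X : M4) (i j : I4) :
    (Matrix.J (Fin 2) F * X) i j = B (Pi.single i 1) (X *ᵥ Pi.single j 1) := by
  rw [sympForm, single_dotProduct, one_mul, Matrix.mulVec_mulVec, Matrix.mulVec_single, MulOpposite.op_one, one_smul,
    Matrix.col_apply]

theorem finrank_saZero_le (h2 : (2 : F) ≠ 0) : finrank F (saZero F) ≤ 5 := by
  classical
  let P : Fin 6 → I4 × I4 := ![(.inl 0, .inl 1), (.inl 0, .inr 0), (.inl 0, .inr 1), (.inl 1, .inr 0),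
    (.inl 1, .inr 1), (.inr 0, .inr 1)]
  let L : (saZero F × F) →ₗ[F] (Fin 6 → F) :=
    (LinearMap.pi fun k => Matrix.entryLinearMap F F (P k).1 (P k).2) ∘ₗ LinearMap.mulLeft F (Matrix.J (Fin 2) F) ∘ₗ
      ((saZero F).subtype.coprod (LinearMap.toSpanSingleton F M4 1))
  have hinj : Function.Injective L := by
    rw [← LinearMap.ker_eq_bot, eq_bot_iff]
    rintro ⟨X, c⟩ hX
    obtain ⟨N, hN⟩ : ∃ N, N = Matrix.J (Fin 2) F * ((X : M4) + c • 1) := ⟨_, rfl⟩
    have hz : ∀ k, N (P k).1 (P k).2 = 0 := fun k => by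
      have := congrFun (LinearMap.mem_ker.1 hX) k
      simpa [L, hN] using this
    have hanti : ∀ i j, N j i = -N i j := fun i j => by
      rw [hN, mulJ_apply, mulJ_apply, sympForm_swap (Pi.single j 1), Matrix.add_mulVec, Matrix.add_mulVec,
        Matrix.smul_mulVec, Matrix.smul_mulVec, Matrix.one_mulVec, Matrix.one_mulVec, sympForm_add_left,
        sympForm_add_right, sympForm_smul_left, sympForm_smul_right, X.2.1]
    have hN0 : N = 0 := by
      refine Matrix.ext fun i j => ?_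
      rw [Matrix.zero_apply]
      have e0 := hz 0; have e1 := hz 1; have e2 := hz 2; have e3 := hz 3; have e4 := hz 4; have e5 := hz 5
      simp [P] at e0 e1 e2 e3 e4 e5
      have hd : ∀ k, N k k = 0 := fun k =>
        (mul_eq_zero.1 (show (2 : F) * N k k = 0 by linear_combination hanti k k)).resolve_left h2
      rcases i with i | i <;> rcases j with j | j <;> fin_cases i <;> fin_cases j <;>
        first | exact hd _ | assumption | (rw [hanti]; simp only [neg_eq_zero]; assumption)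
    have hXc : (X : M4) + c • 1 = 0 := by
      have h := congrArg (Matrix.J (Fin 2) F * ·) (hN.symm.trans hN0)
      simp only [← mul_assoc, Matrix.J_squared, neg_one_mul, mul_zero, neg_eq_zero] at h
      exact h
    have hc : c = 0 := by
      have h := congrArg Matrix.trace hXc
      rw [Matrix.trace_add, X.2.2, Matrix.trace_smul, Matrix.trace_one, Matrix.trace_zero] at h
      simp only [Fintype.card_sum, Fintype.card_fin, zero_add, smul_eq_mul] at h
      have h' : c * ((2 : F) * 2) = 0 := by push_cast at h; linear_combination h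
      exact (mul_eq_zero.1 h').resolve_right (mul_ne_zero h2 h2)
    rw [hc, zero_smul, add_zero] at hXc
    exact Prod.ext (Subtype.ext hXc) hc
  have h := LinearMap.finrank_le_finrank_of_injective hinj
  rw [finrank_prod, finrank_self, finrank_fintype_fun_eq_card, Fintype.card_fin] at h
  omega

/-- Five anticommuting square roots of one generating a two-group of isometries. -/
structure Ga (R : Subgroup (GL (Fin 2 ⊕ Fin 2) F)) (γ : Fin 5 → GL (Fin 2 ⊕ Fin 2) F) : Prop where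
  two : (2 : F) ≠ 0
  sym : Sym R
  le : R ≤ spGL 2 F
  mem : ∀ i, γ i ∈ R
  sq : ∀ i, γ i * γ i = 1
  anti : ∀ i j, i ≠ j → γ i * γ j = -(γ j * γ i)
  gen : R ≤ Subgroup.closure (Set.range γ)
  cz : ∀ X : Matrix (Fin 2 ⊕ Fin 2) (Fin 2 ⊕ Fin 2) F, (∀ i, X * (γ i : Matrix _ _ F) = (γ i : Matrix _ _ F) * X) →
    ∃ z : F, X = z • 1

theorem exists_ga (h2 : (2 : F) ≠ 0) {R : Subgroup (GL (Fin 2 ⊕ Fin 2) F)} (hle : R ≤ spGL 2 F)
    (hs : Cfsg.Geo.IsSymplecticTypeGroup 2 R)
    (hirr : Cfsg.Geo.ActsAbsolutelyIrreducibly (Cfsg.Geo.matrixSet R)) (h32 : Nat.card R = 32)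
    (hz : Nat.card (Subgroup.center R) = 2) (hm : Cfsg.Geo.IsOfMinusType 2 R) :
    ∃ γ, Ga R γ := by
  classical
  have hfin : Finite R := Nat.finite_of_card_ne_zero (by rw [h32]; norm_num)
  have S : Sym R := Sym.of h2 (by simp) hs hirr hfin (by rw [h32, hz])
  obtain ⟨E⟩ := exists_frame S (hasFix_of_minus S hm)
  haveI := S.nonempty
  obtain ⟨a, b, c, d, ha, hb, hc, hd, aa, bb, cc, dd, ab, cd, ac, ad, bc, bd⟩ :
      ∃ a b c d : G4, a = E.a ∧ b = E.b ∧ c = E.c ∧ d = E.d ∧ a * a = 1 ∧ b * b = 1 ∧ c * c = -1 ∧ d * d = -1 ∧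
        b * a = -(a * b) ∧ d * c = -(c * d) ∧ c * a = a * c ∧ d * a = a * d ∧ c * b = b * c ∧ d * b = b * d :=
    ⟨_, _, _, _, rfl, rfl, rfl, rfl, E.aa, E.bb, E.cc, E.dd, by rw [E.ab, neg_neg], by rw [E.cd, neg_neg],
      E.ac.symm, E.ad.symm, E.bc.symm, E.bd.symm⟩
  have aa' : ∀ x, a * (a * x) = x := fun x => by rw [← mul_assoc, aa, one_mul]
  have bb' : ∀ x, b * (b * x) = x := fun x => by rw [← mul_assoc, bb, one_mul]
  have cc' : ∀ x, c * (c * x) = -x := fun x => by rw [← mul_assoc, cc, neg_one_mul]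
  have dd' : ∀ x, d * (d * x) = -x := fun x => by rw [← mul_assoc, dd, neg_one_mul]
  have ab' : ∀ x, b * (a * x) = -(a * (b * x)) := fun x => by rw [← mul_assoc, ab, neg_mul, mul_assoc]
  have cd' : ∀ x, d * (c * x) = -(c * (d * x)) := fun x => by rw [← mul_assoc, cd, neg_mul, mul_assoc]
  have ac' : ∀ x, c * (a * x) = a * (c * x) := fun x => by rw [← mul_assoc, ac, mul_assoc]
  have ad' : ∀ x, d * (a * x) = a * (d * x) := fun x => by rw [← mul_assoc, ad, mul_assoc]
  have bc' : ∀ x, c * (b * x) = b * (c * x) := fun x => by rw [← mul_assoc, bc, mul_assoc]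
  have bd' : ∀ x, d * (b * x) = b * (d * x) := fun x => by rw [← mul_assoc, bd, mul_assoc]
  obtain ⟨γ, hγ⟩ : ∃ γ : Fin 5 → G4, γ = ![a, b, a * (b * c), a * (b * d), a * (b * (c * d))] := ⟨_, rfl⟩
  have hmem : ∀ i, γ i ∈ R := fun i => by
    have r1 : a ∈ R := ha ▸ E.ha
    have r2 : b ∈ R := hb ▸ E.hb
    have r3 : c ∈ R := hc ▸ E.hc
    have r4 : d ∈ R := hd ▸ E.hd
    have r5 := mul_mem r3 r4
    fin_cases i <;> simp [hγ, mul_mem, r1, r2, r3, r4, r5]
  have hsq : ∀ i, γ i * γ i = 1 := fun i => by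
    fin_cases i <;> simp [hγ, mul_assoc, aa, bb, cc, dd, aa', bb', cc', dd', ab, cd, ac, ad, bc, bd,
      ab', cd', ac', ad', bc', bd']
  have hanti : ∀ i j, i ≠ j → γ i * γ j = -(γ j * γ i) := fun i j hij => by
    fin_cases i <;> fin_cases j <;> simp at hij <;>
      simp [hγ, mul_assoc, aa, bb, cc, dd, aa', bb', cc', dd', ab, cd, ac, ad, bc, bd,
        ab', cd', ac', ad', bc', bd']
  have hcd : c = -(γ 0 * (γ 1 * γ 2)) ∧ d = -(γ 0 * (γ 1 * γ 3)) := by
    constructor <;> simp [hγ, aa', bb', ab']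
  have h01 : γ 0 = a ∧ γ 1 = b := by simp [hγ]
  refine ⟨γ, h2, S, hle, hmem, hsq, hanti, fun g hg => ?_, fun X hX => ?_⟩
  · obtain ⟨K, hK⟩ : ∃ K, K = Subgroup.closure (Set.range γ) := ⟨_, rfl⟩
    rw [← hK]
    have hγK : ∀ i, γ i ∈ K := fun i => hK ▸ Subgroup.subset_closure ⟨i, rfl⟩
    have hnK : (-1 : G4) ∈ K := by
      have : γ 0 * γ 1 * (γ 0 * γ 1) = -1 := by
        simp [hγ, mul_assoc, aa, bb, aa', bb', ab, ab']
      exact this ▸ mul_mem (mul_mem (hγK 0) (hγK 1)) (mul_mem (hγK 0) (hγK 1))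
    have hneg : ∀ x ∈ K, -x ∈ K := fun x hx => by rw [← neg_one_mul x]; exact mul_mem hnK hx
    have haK : E.a ∈ K := ha ▸ h01.1 ▸ hγK 0
    have hbK : E.b ∈ K := hb ▸ h01.2 ▸ hγK 1
    have hcK : E.c ∈ K := hc ▸ hcd.1 ▸ hneg _ (mul_mem (hγK 0) (mul_mem (hγK 1) (hγK 2)))
    have hdK : E.d ∈ K := hd ▸ hcd.2 ▸ hneg _ (mul_mem (hγK 0) (mul_mem (hγK 1) (hγK 3)))
    obtain ⟨p, hp⟩ := (E.mon_bijective S).2 ((⟨g, hg⟩ : R) : R ⧸ Subgroup.center R)
    obtain ⟨z, hzd⟩ : ∃ z : R, z = (⟨E.mon p, E.mon_mem p⟩ : R)⁻¹ * ⟨g, hg⟩ := ⟨_, rfl⟩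
    have hzc : z ∈ Subgroup.center R := hzd ▸ QuotientGroup.eq.1 hp
    have hge : g = E.mon p * z := by
      rw [hzd]; exact (mul_inv_cancel_left (E.mon p) g).symm
    obtain ⟨s, hs⟩ := S.sc_of_center z.2 hzc
    have hz2 : (z : G4) * z = 1 := by
      have h := pow_card_eq_one' (x := (⟨z, hzc⟩ : Subgroup.center R))
      rw [hz, pow_two] at h
      exact congrArg (fun u : Subgroup.center R => ((u : R) : G4)) h
    have hs2 : s * s = 1 := by
      have h := congrArg (fun u : G4 => (u : M4) (.inl 0) (.inl 0)) hz2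
      simpa [hs] using h
    have hzK : (z : G4) ∈ K := by
      rcases mul_self_eq_one_iff.1 hs2 with rfl | rfl
      · rw [show (z : G4) = 1 from Units.ext (by simpa using hs)]; exact one_mem K
      · rw [show (z : G4) = -1 from Units.ext (by simpa using hs)]; exact hnK
    rw [hge]
    refine mul_mem (mul_mem ?_ ?_) hzK
    · obtain ⟨i, j⟩ := p
      fin_cases i <;> simp [Frame.P, mul_mem, one_mem, haK, hbK]
    · obtain ⟨i, j⟩ := p
      fin_cases j <;> simp [Frame.M, mul_mem, one_mem, hcK, hdK]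
  · have hX' : ∀ i, Commute X (γ i : M4) := hX
    refine E.commute_all S ?_ ?_ ?_ ?_
    · rw [← ha, ← h01.1]; exact hX 0
    · rw [← hb, ← h01.2]; exact hX 1
    · rw [← hc, hcd.1, Units.val_neg, Units.val_mul, Units.val_mul]
      exact (((hX' 0).mul_right ((hX' 1).mul_right (hX' 2))).neg_right).eq
    · rw [← hd, hcd.2, Units.val_neg, Units.val_mul, Units.val_mul]
      exact (((hX' 0).mul_right ((hX' 1).mul_right (hX' 3))).neg_right).eq

/-- The coordinates with respect to the five matrices. -/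
def co (γ : Fin 5 → GL (Fin 2 ⊕ Fin 2) F) :
    Matrix (Fin 2 ⊕ Fin 2) (Fin 2 ⊕ Fin 2) F →ₗ[F] (Fin 5 → F) :=
  LinearMap.pi fun i => (4 : F)⁻¹ • (Matrix.traceLinearMap (Fin 2 ⊕ Fin 2) F F ∘ₗ
    LinearMap.mulLeft F ((γ i : GL (Fin 2 ⊕ Fin 2) F) : Matrix (Fin 2 ⊕ Fin 2) (Fin 2 ⊕ Fin 2) F))

/-- The matrix with given coordinates. -/
def comb (γ : Fin 5 → GL (Fin 2 ⊕ Fin 2) F) (x : Fin 5 → F) : Matrix (Fin 2 ⊕ Fin 2) (Fin 2 ⊕ Fin 2) F :=
  ∑ i, x i • ((γ i : GL (Fin 2 ⊕ Fin 2) F) : Matrix (Fin 2 ⊕ Fin 2) (Fin 2 ⊕ Fin 2) F)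

variable {γ : Fin 5 → GL (Fin 2 ⊕ Fin 2) F} {R : Subgroup (GL (Fin 2 ⊕ Fin 2) F)}

theorem co_apply (X : M4) (i : Fin 5) : co γ X i = (4 : F)⁻¹ * ((γ i : M4) * X).trace := rfl

theorem smul_one_inj {c d : F} (h : c • (1 : M4) = d • 1) : c = d := by
  simpa using congrFun (congrFun h (Sum.inl 0)) (Sum.inl 0)

namespace Ga

variable (G : Ga R γ)
include G

theorem four : (4 : F) ≠ 0 := by
  rw [show (4 : F) = 2 * 2 by norm_num]; exact mul_ne_zero G.two G.two

theorem val_sq (i : Fin 5) : (γ i : M4) * γ i = 1 := by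
  rw [← Units.val_mul, G.sq]; rfl

theorem val_anti {i j : Fin 5} (h : i ≠ j) : (γ i : M4) * γ j = -((γ j : M4) * γ i) := by
  rw [← Units.val_mul, G.anti i j h, Units.val_neg, Units.val_mul]

theorem trace_mul (i j : Fin 5) : ((γ i : M4) * γ j).trace = if i = j then 4 else 0 := by
  rcases eq_or_ne i j with rfl | h
  · rw [if_pos rfl, G.val_sq, Matrix.trace_one]; norm_num
  · rw [if_neg h]
    have h1 : ((γ i : M4) * γ j).trace = -((γ i : M4) * γ j).trace := by
      conv_lhs => rw [G.val_anti h, Matrix.trace_neg, Matrix.trace_mul_comm]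
    exact (mul_eq_zero.1 (show (2 : F) * _ = 0 by linear_combination h1)).resolve_left G.two

theorem co_comb (x : Fin 5 → F) : co γ (comb γ x) = x := funext fun i => by
  rw [co_apply, comb, Finset.mul_sum, Matrix.trace_sum, Finset.sum_eq_single i
    (fun j _ hj => by rw [Matrix.mul_smul, Matrix.trace_smul, G.trace_mul, if_neg (Ne.symm hj), smul_zero]) (by simp),
    Matrix.mul_smul, Matrix.trace_smul, G.trace_mul, if_pos rfl, smul_eq_mul, mul_comm (x i),
    inv_mul_cancel_left₀ G.four]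

theorem trace_eq (i : Fin 5) : (γ i : M4).trace = 0 := by
  obtain ⟨j, hj⟩ := exists_ne i
  exact G.sym.trace_zero (G.anti i j hj.symm)

theorem mem_saZero' (i : Fin 5) : (γ i : M4) ∈ saZero F := by
  refine ⟨fun x y => ?_, G.trace_eq i⟩
  have h := mem_spGL.1 (G.le (G.mem i)) x ((γ i : M4) *ᵥ y)
  rwa [Matrix.mulVec_mulVec, G.val_sq, Matrix.one_mulVec] at h

theorem comb_mem (x : Fin 5 → F) : comb γ x ∈ saZero F :=
  Submodule.sum_mem _ fun i _ => Submodule.smul_mem _ _ (G.mem_saZero' i)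

theorem comb_co {X : M4} (hX : X ∈ saZero F) : comb γ (co γ X) = X := by
  obtain ⟨L, hLx⟩ : ∃ L : (Fin 5 → F) →ₗ[F] saZero F, ∀ x, (L x : M4) = comb γ x :=
    ⟨{ toFun := fun x => ⟨comb γ x, G.comb_mem x⟩
       map_add' := fun x y => Subtype.ext (by simp [comb, add_smul, Finset.sum_add_distrib])
       map_smul' := fun c x => Subtype.ext (by simp [comb, Finset.smul_sum, smul_smul]) }, fun _ => rfl⟩
  have hL : Function.Injective L := fun x y h => by
    rw [← G.co_comb x, ← G.co_comb y, ← hLx, ← hLx, h]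
  have hdim := finrank_saZero_le (F := F) G.two
  have h5 := LinearMap.finrank_le_finrank_of_injective hL
  rw [finrank_fintype_fun_eq_card, Fintype.card_fin] at h5
  have hsurj : Function.Surjective L := (LinearMap.injective_iff_surjective_of_finrank_eq_finrank (by
    rw [finrank_fintype_fun_eq_card, Fintype.card_fin]; omega)).1 hL
  obtain ⟨x, hx⟩ := hsurj ⟨X, hX⟩
  have hx' : comb γ x = X := by rw [← hLx, hx]
  rw [← hx', G.co_comb]

theorem jordan (x y : Fin 5 → F) :
    comb γ x * comb γ y + comb γ y * comb γ x = QuadraticMap.polar ⇑(OrthFrame.qs F 5) x y • 1 := by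
  have e : ∀ u v : Fin 5 → F, comb γ u * comb γ v = ∑ i, ∑ k, (u i * v k) • ((γ i : M4) * γ k) := fun u v => by
    simp only [comb, Finset.sum_mul, Finset.mul_sum, smul_mul_smul_comm]
    rw [Finset.sum_comm]
  rw [e x y, e y x, Finset.sum_comm (f := fun i k => (y i * x k) • ((γ i : M4) * γ k)), ← Finset.sum_add_distrib]
  rw [OrthFrame.polar_qs, Finset.mul_sum, Finset.sum_smul]
  refine Finset.sum_congr rfl fun i _ => ?_
  rw [← Finset.sum_add_distrib, Finset.sum_eq_single i (fun k _ hk => by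
    rw [G.val_anti hk.symm, smul_neg, mul_comm (y k), neg_add_cancel]) (by simp), G.val_sq, ← add_smul]
  congr 1; ring

theorem sq_comb (x : Fin 5 → F) : comb γ x * comb γ x = OrthFrame.qs F 5 x • 1 := by
  refine smul_right_injective M4 G.two ?_
  show (2 : F) • _ = (2 : F) • _
  rw [two_smul, G.jordan, OrthAut.polar_self2, smul_smul]

theorem conj_mem {g : G4} (hg : g ∈ spGL 2 F) {X : M4} (hX : X ∈ saZero F) :
    (g : M4) * X * ((g⁻¹ : G4) : M4) ∈ saZero F := by
  refine ⟨fun x y => ?_, by rw [Matrix.trace_units_conj, hX.2]⟩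
  have h1 := mem_spGL.1 hg
  have e : ∀ z : V4, (g : M4) *ᵥ (((g⁻¹ : G4) : M4) *ᵥ z) = z := fun z => by
    rw [Matrix.mulVec_mulVec, Units.mul_inv, Matrix.one_mulVec]
  simp only [← Matrix.mulVec_mulVec]
  conv_lhs => rw [← e y, h1, hX.1]
  conv_rhs => rw [← e x, h1]

end Ga

/-- The matrix of conjugation on the coordinates. -/
def act (γ : Fin 5 → GL (Fin 2 ⊕ Fin 2) F) (g : GL (Fin 2 ⊕ Fin 2) F) : Matrix (Fin 5) (Fin 5) F :=
  Matrix.of fun i j => co γ ((g : M4) * (γ j : M4) * ((g⁻¹ : G4) : M4)) i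

theorem act_mulVec (g : G4) (x : Fin 5 → F) :
    act γ g *ᵥ x = co γ ((g : M4) * comb γ x * ((g⁻¹ : G4) : M4)) := funext fun i => by
  simp only [comb, Finset.mul_sum, Finset.sum_mul, Matrix.mul_smul, Matrix.smul_mul, map_sum, map_smul,
    Finset.sum_apply, Pi.smul_apply, smul_eq_mul, Matrix.mulVec, dotProduct, act, Matrix.of_apply]
  exact Finset.sum_congr rfl fun j _ => mul_comm _ _

namespace Ga

variable (G : Ga R γ)
include G

theorem act_one : act γ (1 : G4) = 1 := Matrix.ext_iff_mulVec.2 fun x => by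
  simp [act_mulVec, G.co_comb]

theorem act_mul {g h : G4} (hh : h ∈ spGL 2 F) : act γ (g * h) = act γ g * act γ h :=
  Matrix.ext_iff_mulVec.2 fun x => by
    rw [← Matrix.mulVec_mulVec, act_mulVec, act_mulVec, act_mulVec, G.comb_co (G.conj_mem hh (G.comb_mem x)),
      _root_.mul_inv_rev, Units.val_mul, Units.val_mul]
    simp only [mul_assoc]

theorem act_iso {g : G4} (hg : g ∈ spGL 2 F) (x : Fin 5 → F) :
    OrthFrame.qs F 5 (act γ g *ᵥ x) = OrthFrame.qs F 5 x := by
  refine smul_one_inj (F := F) ?_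
  rw [act_mulVec, ← G.sq_comb, G.comb_co (G.conj_mem hg (G.comb_mem x))]
  calc _ = (g : M4) * (comb γ x * comb γ x) * ((g⁻¹ : G4) : M4) := by
        simp only [mul_assoc, Units.inv_mul_cancel_left]
    _ = _ := by rw [G.sq_comb, Matrix.mul_smul, mul_one, Matrix.smul_mul, Units.mul_inv]

/-- The orthogonal representation. -/
def chi : spGL 2 F →* GL (Fin 5) F :=
  MonoidHom.toHomUnits
    { toFun := fun g => act γ (g : G4)
      map_one' := G.act_one
      map_mul' := fun g h => G.act_mul h.2 }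

theorem chi_val (g : spGL 2 F) : ((G.chi g : GL (Fin 5) F) : Matrix (Fin 5) (Fin 5) F) = act γ (g : G4) := rfl

theorem chi_det [Fintype F] (g : spGL 2 F) : (G.chi g : Matrix (Fin 5) (Fin 5) F).det = 1 := by
  classical
  let φ : Matrix.symplecticGroup (Fin 2) F →* GL (Fin 2 ⊕ Fin 2) F :=
    MonoidHom.toHomUnits (Submonoid.subtype (Matrix.symplecticGroup (Fin 2) F))
  let ψ : Matrix.symplecticGroup (Fin 2) F →* spGL 2 F :=
    φ.codRestrict (spGL 2 F) fun A => mem_spGL.2 (mem_symplecticGroup_iff_form.1 A.2)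
  have h3 : 3 ≤ Fintype.card F := by
    by_contra hlt
    have := Fintype.one_lt_card (α := F)
    have hc : Fintype.card F = 2 := by omega
    exact G.two (by have := FiniteField.cast_card_eq_zero F; rw [hc] at this; exact_mod_cast this)
  have hker : ∀ A, (Matrix.GeneralLinearGroup.det.comp (G.chi.comp ψ)) A = 1 := fun A => by
    refine MonoidHom.mem_ker.1 (Abelianization.commutator_subset_ker _ ?_)
    rw [symp_perfect_of_card (Or.inr (Or.inl ⟨rfl, h3⟩))]
    exact Subgroup.mem_top A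
  have hA : ψ ⟨((g : G4) : M4), mem_symplecticGroup_iff_form.2 (mem_spGL.1 g.2)⟩ = g :=
    Subtype.ext (Units.ext rfl)
  have h := congrArg Units.val (hker ⟨((g : G4) : M4), mem_symplecticGroup_iff_form.2 (mem_spGL.1 g.2)⟩)
  rw [MonoidHom.comp_apply, MonoidHom.comp_apply, hA, Matrix.GeneralLinearGroup.val_det_apply] at h
  exact h

theorem chi_eq_imp {g h : spGL 2 F} (e : G.chi g = G.chi h) : (g : G4) = h ∨ (g : G4) = -(h : G4) := by
  obtain ⟨k, hk⟩ : ∃ k, k = h⁻¹ * g := ⟨_, rfl⟩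
  have hk1 : act γ (k : G4) = 1 := by
    rw [← G.chi_val, hk, map_mul, map_inv, e, inv_mul_cancel]; rfl
  have hcom : ∀ i, ((k : G4) : M4) * γ i = (γ i : M4) * ((k : G4) : M4) := fun i => by
    have h1 := congrArg (fun A => comb γ (A *ᵥ Pi.single i 1)) hk1
    have h2 : comb γ (Pi.single i 1) = (γ i : M4) := by simp [comb, Pi.single_apply, ite_smul]
    simp only [act_mulVec, Matrix.one_mulVec] at h1
    rw [G.comb_co (G.conj_mem k.2 (G.comb_mem _)), h2] at h1
    calc _ = ((k : G4) : M4) * γ i * (((k : G4)⁻¹ : G4) : M4) * ((k : G4) : M4) := by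
          rw [mul_assoc _ (((k : G4)⁻¹ : G4) : M4), Units.inv_mul, mul_one]
      _ = _ := by rw [h1]
  obtain ⟨z, hz⟩ := G.cz _ hcom
  have hz2 : z * z = 1 := by
    obtain ⟨v, hv⟩ := exists_sympForm_eq_one (u := (Pi.single (Sum.inl 0) 1 : V4)) (by simp)
    have h1 := mem_spGL.1 k.2 (Pi.single (Sum.inl 0) 1) v
    rw [hz, Matrix.smul_mulVec, Matrix.smul_mulVec, Matrix.one_mulVec, Matrix.one_mulVec, sympForm_smul_left,
      sympForm_smul_right, hv] at h1
    linear_combination h1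
  have hg : (g : G4) = h * k := by rw [hk]; simp
  rcases mul_self_eq_one_iff.1 hz2 with rfl | rfl
  · left; rw [hg, show (k : G4) = 1 from Units.ext (by simpa using hz), mul_one]
  · right; rw [hg, show (k : G4) = -1 from Units.ext (by simpa using hz), mul_neg_one]

theorem chi_eq_sp (g : spGL 2 F) (π : Equiv.Perm (Fin 5)) (ε : Fin 5 → Fˣ)
    (h : ∀ j, ((g : G4) : M4) * γ j = (ε j : F) • ((γ (π j) : M4) * ((g : G4) : M4))) :
    G.chi g = OrthFrame.sp π ε := by
  refine OrthFrame.ext_single fun j => ?_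
  rw [G.chi_val, OrthFrame.sp_single, act_mulVec, ← G.co_comb (Pi.single (π j) (ε j : F))]
  congr 1
  simp only [comb, Pi.single_apply, ite_smul, zero_smul, Finset.sum_ite_eq', Finset.mem_univ, if_true, one_smul]
  rw [h, Matrix.smul_mul, mul_assoc, Units.mul_inv, mul_one]

theorem mem_normalizer_of {g : G4} (h : ∀ j, g * γ j * g⁻¹ ∈ R) : g ∈ NR R := by
  have hall : R ≤ R.comap (MulAut.conj g).toMonoidHom :=
    G.gen.trans ((Subgroup.closure_le _).2 (by rintro _ ⟨j, rfl⟩; exact h j))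
  exact CliffordFour.mem_normalizer G.sym fun r hr => ⟨g * r * g⁻¹, hall hr, by rw [inv_mul_cancel_right]⟩

theorem mem_normalizer_of_mon {g : spGL 2 F} (h : OrthFrame.Mon (G.chi g)) : (g : G4) ∈ NR R := by
  obtain ⟨π, ε, he, hε⟩ := OrthFrame.eq_sp_of_mon h (fun x => G.act_iso g.2 x)
  refine G.mem_normalizer_of fun j => ?_
  have h1 := congrArg (fun A : GL (Fin 5) F => comb γ ((A : Matrix (Fin 5) (Fin 5) F) *ᵥ Pi.single j 1)) he
  simp only [OrthFrame.sp_single, G.chi_val, act_mulVec] at h1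
  rw [G.comb_co (G.conj_mem g.2 (G.comb_mem _))] at h1
  simp only [comb, Pi.single_apply, ite_smul, zero_smul, Finset.sum_ite_eq', Finset.mem_univ, if_true, one_smul] at h1
  rcases mul_self_eq_one_iff.1 (hε j) with e | e
  · rw [show (g : G4) * γ j * (g : G4)⁻¹ = γ (π j) from Units.ext (by simpa [e] using h1)]
    exact G.mem _
  · rw [show (g : G4) * γ j * (g : G4)⁻¹ = -γ (π j) from Units.ext (by simpa [e] using h1)]
    exact G.sym.neg_mem (G.mem _)

theorem mon_of_mem_normalizer {g : spGL 2 F} (h : (g : G4) ∈ NR R) : OrthFrame.Mon (G.chi g) := by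
  intro j
  obtain ⟨r, hr⟩ : ∃ r, r = (g : G4) * γ j * (g : G4)⁻¹ := ⟨_, rfl⟩
  have hrR : r ∈ R := hr ▸ (Subgroup.mem_normalizer_iff.1 h (γ j)).1 (G.mem j)
  have hrv : (r : M4) = ((g : G4) : M4) * γ j * (((g : G4)⁻¹ : G4) : M4) := by rw [hr, Units.val_mul, Units.val_mul]
  have hrW : (r : M4) ∈ saZero F := hrv ▸ G.conj_mem g.2 (G.mem_saZero' j)
  have hne : co γ (r : M4) ≠ 0 := fun h0 => by
    have h1 := G.comb_co hrW
    rw [h0] at h1
    simp [comb] at h1
    exact r.ne_zero h1.symm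
  obtain ⟨i, hi⟩ := Function.ne_iff.1 hne
  have hsc : Sc (γ i * r) := by
    by_contra hns
    refine hi ?_
    rw [co_apply, ← Units.val_mul, G.sym.trace_zero' (mul_mem (G.mem i) hrR) hns, mul_zero]; rfl
  obtain ⟨z, hz⟩ := hsc
  have hrz : (r : M4) = z • (γ i : M4) := by
    calc (r : M4) = (γ i : M4) * ((γ i * r : G4) : M4) := by
          rw [Units.val_mul, ← mul_assoc, G.val_sq, one_mul]
      _ = _ := by rw [hz, Matrix.mul_smul, mul_one]
  refine ⟨i, fun k hk => ?_⟩
  rw [G.chi_val]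
  show co γ (((g : G4) : M4) * γ j * (((g : G4)⁻¹ : G4) : M4)) k = 0
  rw [← hrv, hrz, map_smul, Pi.smul_apply, co_apply, G.trace_mul, if_neg hk, mul_zero, smul_zero]

theorem neg_one_mem : (-1 : G4) ∈ NR R ⊓ spGL 2 F :=
  ⟨Subgroup.le_normalizer G.sym.neg, G.le G.sym.neg⟩

theorem pair_mem {i j : Fin 5} (h : i ≠ j) :
    ∃ u : spGL 2 F, (u : G4) ∈ NR R ∧ G.chi u = OrthFrame.dg {i, j} := by
  refine ⟨⟨γ i * γ j, G.le (mul_mem (G.mem i) (G.mem j))⟩, Subgroup.le_normalizer (mul_mem (G.mem i) (G.mem j)), ?_⟩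
  rw [OrthFrame.dg]
  refine G.chi_eq_sp _ _ _ fun k => ?_
  show ((γ i * γ j : G4) : M4) * γ k = _ • ((γ k : M4) * ((γ i * γ j : G4) : M4))
  rw [Units.val_mul, ← mul_assoc]
  rcases eq_or_ne k i with rfl | hki
  · rw [OrthFrame.sgn, if_pos (by simp), mul_assoc, G.val_anti h.symm, mul_neg, ← mul_assoc]
    simp
  rcases eq_or_ne k j with rfl | hkj
  · rw [OrthFrame.sgn, if_pos (by simp), G.val_anti hki, neg_mul, mul_assoc, G.val_sq]
    simp [mul_assoc, G.val_sq]
  · rw [OrthFrame.sgn, if_neg (by simp [hki, hkj]), mul_assoc, G.val_anti hkj.symm, mul_neg, ← mul_assoc,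
      G.val_anti hki.symm, neg_mul, neg_neg]
    simp

theorem three_mem {i j k : Fin 5} (hij : i ≠ j) (hjk : j ≠ k) :
    ∃ u : spGL 2 F, (u : G4) ∈ NR R ∧ G.chi u = OrthFrame.sp (Equiv.swap i j * Equiv.swap j k) (fun _ => 1) := by
  -- a difference of two of the matrices swaps them and negates
  have key : ∀ {a b : Fin 5}, a ≠ b → ∃ s : M4, (∀ x y, B (s *ᵥ x) y = B x (s *ᵥ y)) ∧ s * s = (2 : F) • 1 ∧
      ∀ l, s * γ l = -((γ (Equiv.swap a b l) : M4) * s) := fun {a b} hab => by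
    refine ⟨(γ a : M4) - γ b, (sub_mem (G.mem_saZero' a) (G.mem_saZero' b)).1, ?_, fun l => ?_⟩
    · rw [sub_mul, mul_sub, mul_sub, G.val_sq, G.val_sq, G.val_anti hab, two_smul]; abel
    · rcases eq_or_ne l a with rfl | hla
      · rw [Equiv.swap_apply_left, sub_mul, mul_sub, G.val_sq, G.val_sq]; abel
      rcases eq_or_ne l b with rfl | hlb
      · rw [Equiv.swap_apply_right, sub_mul, mul_sub, G.val_sq, G.val_sq]; abel
      · rw [Equiv.swap_apply_of_ne_of_ne hla hlb, sub_mul, mul_sub, G.val_anti hla.symm, G.val_anti hlb.symm]; abel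
  obtain ⟨s, hsS, hss, hsγ⟩ := key hij
  obtain ⟨t, htS, htt, htγ⟩ := key hjk
  have hh : (2 : F)⁻¹ * (2 : F)⁻¹ * ((2 : F) * 2) = 1 := by field_simp [G.two]
  obtain ⟨g, hg⟩ : ∃ g : G4, (g : M4) = (2 : F)⁻¹ • (s * t) := by
    refine ⟨⟨(2 : F)⁻¹ • (s * t), (2 : F)⁻¹ • (t * s), ?_, ?_⟩, rfl⟩
    · rw [smul_mul_smul_comm, mul_assoc s t, ← mul_assoc t t, htt, Matrix.smul_mul, one_mul, Matrix.mul_smul, hss,
        smul_smul, smul_smul]
      rw [show (2 : F)⁻¹ * (2 : F)⁻¹ * 2 * 2 = 1 by linear_combination hh, one_smul]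
    · rw [smul_mul_smul_comm, mul_assoc t s, ← mul_assoc s s, hss, Matrix.smul_mul, one_mul, Matrix.mul_smul, htt,
        smul_smul, smul_smul]
      rw [show (2 : F)⁻¹ * (2 : F)⁻¹ * 2 * 2 = 1 by linear_combination hh, one_smul]
  have hgS : g ∈ spGL 2 F := mem_spGL.2 fun x y => by
    rw [hg, Matrix.smul_mulVec, Matrix.smul_mulVec, sympForm_smul_left, sympForm_smul_right,
      ← Matrix.mulVec_mulVec, ← Matrix.mulVec_mulVec, hsS, Matrix.mulVec_mulVec (t *ᵥ y) s s, hss,
      Matrix.smul_mulVec, Matrix.one_mulVec, sympForm_smul_right, htS, Matrix.mulVec_mulVec y t t, htt,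
      Matrix.smul_mulVec, Matrix.one_mulVec, sympForm_smul_right]
    linear_combination (sympForm 2 F x y) * hh
  have hγg : ∀ l, (g : M4) * γ l = ((γ ((Equiv.swap i j * Equiv.swap j k) l) : M4) * g) := fun l => by
    rw [hg, Matrix.smul_mul, Matrix.mul_smul, Equiv.Perm.mul_apply, mul_assoc, htγ, mul_neg, ← mul_assoc, hsγ,
      neg_mul, neg_neg, mul_assoc]
  refine ⟨⟨g, hgS⟩, G.mem_normalizer_of fun l => ?_, G.chi_eq_sp _ _ _ fun l => by simpa using hγg l⟩
  rw [show g * γ l * g⁻¹ = γ ((Equiv.swap i j * Equiv.swap j k) l) from by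
    rw [mul_inv_eq_iff_eq_mul]; exact Units.ext (by rw [Units.val_mul, Units.val_mul, hγg])]
  exact G.mem _

/-- The image of an overgroup of the normaliser is an overgroup of the frame squares. -/
theorem fr [Fintype F] {M : Subgroup (GL (Fin 2 ⊕ Fin 2) F)} (hM : NR R ⊓ spGL 2 F ≤ M) :
    OrthFrame.Fr ((M.subgroupOf (spGL 2 F)).map G.chi) := by
  classical
  obtain ⟨H, hH⟩ : ∃ H, H = (M.subgroupOf (spGL 2 F)).map G.chi := ⟨_, rfl⟩
  rw [← hH]
  have hin : ∀ u : spGL 2 F, (u : G4) ∈ NR R → G.chi u ∈ H := fun u hu =>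
    hH ▸ ⟨u, Subgroup.mem_subgroupOf.2 (hM ⟨hu, u.2⟩), rfl⟩
  refine ⟨G.two, fun g hg => ?_, fun g hg => ?_, fun π ε hε => ?_⟩
  · obtain ⟨u, -, rfl⟩ := hH ▸ hg
    exact fun x => G.act_iso u.2 x
  · obtain ⟨u, -, rfl⟩ := hH ▸ hg
    exact G.chi_det u
  have hpure : ∀ σ : Equiv.Perm (Fin 5), σ ∈ alternatingGroup (Fin 5) →
      (OrthFrame.sp σ (fun _ => 1) : GL (Fin 5) F) ∈ H := fun σ hσ => by
    rw [← Equiv.Perm.closure_three_cycles_eq_alternating] at hσ
    induction hσ using Subgroup.closure_induction with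
    | mem c hc =>
      obtain ⟨a, ha⟩ := Finset.card_pos.1 (show 0 < c.support.card by rw [hc.card_support]; norm_num)
      have hnd := (hc.nodup_iff_mem_support).2 ha
      simp only [List.nodup_cons, List.mem_cons, List.not_mem_nil, not_or] at hnd
      rw [hc.eq_swap_mul_swap_iff_mem_support.2 ha]
      obtain ⟨u, hu, e⟩ := G.three_mem hnd.1.1 hnd.2.1.1
      exact e ▸ hin u hu
    | one => rw [OrthFrame.sp_one]; exact one_mem H
    | mul a b _ _ ha hb => simpa [OrthFrame.sp_mul] using mul_mem ha hb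
    | inv a _ ha =>
      have h := inv_mem ha
      have e : (OrthFrame.sp a (fun _ => 1) : GL (Fin 5) F)⁻¹ = OrthFrame.sp a⁻¹ (fun _ => 1) :=
        inv_eq_of_mul_eq_one_right (by rw [OrthFrame.sp_mul, mul_inv_cancel]; simp [OrthFrame.sp_one])
      rwa [e] at h
  have hdg : ∀ {S : Finset (Fin 5)}, Even S.card → (OrthFrame.dg S : GL (Fin 5) F) ∈ H := by
    intro S
    induction S using Finset.strongInduction with
    | H S ih =>
      intro hS
      rcases Nat.lt_or_ge S.card 2 with h | h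
      · obtain rfl : S = ∅ := Finset.card_eq_zero.1 (by obtain ⟨k, hk⟩ := hS; omega)
        rw [OrthFrame.dg_empty]; exact one_mem H
      · obtain ⟨a, ha, b, hb, hab⟩ := Finset.one_lt_card.1 h
        have hsub : ({a, b} : Finset (Fin 5)) ⊆ S := by simp [Finset.insert_subset_iff, ha, hb]
        have hcard : ({a, b} : Finset (Fin 5)).card = 2 := Finset.card_pair hab
        have h1 := ih (S \ {a, b}) (Finset.sdiff_ssubset hsub ⟨a, by simp⟩) (by
          rw [Finset.card_sdiff_of_subset hsub, hcard]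
          exact (Nat.even_sub h).2 (iff_of_true hS even_two))
        obtain ⟨u, hu, e⟩ := G.pair_mem hab
        have h2 := mul_mem h1 (e ▸ hin u hu)
        rwa [OrthFrame.dg_mul, show symmDiff (S \ {a, b}) {a, b} = S by
          ext i
          have := @hsub i
          simp only [Finset.mem_symmDiff, Finset.mem_sdiff]
          tauto] at h2
  rw [OrthFrame.sp_mul]
  obtain ⟨δ, hδ⟩ : ∃ δ, δ = fun i => ε (π i) * ε i := ⟨_, rfl⟩
  rw [← hδ]
  have hδs : ∀ i, δ i = 1 ∨ δ i = -1 := fun i => by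
    rcases mul_self_eq_one_iff.1 (show (δ i : F) * δ i = 1 by
      rw [hδ, Units.val_mul, mul_mul_mul_comm, hε, hε, mul_one]) with e | e
    · exact Or.inl (Units.ext e)
    · exact Or.inr (Units.ext (by simpa using e))
  obtain ⟨S, hS⟩ : ∃ S, S = Finset.univ.filter fun i => δ i = -1 := ⟨_, rfl⟩
  have hsg : OrthFrame.sgn F S = δ := funext fun i => by
    rcases hδs i with e | e <;> simp [OrthFrame.sgn, hS, e]
    intro h
    exact absurd (congrArg Units.val h) (fun h' => G.two (by simp at h'; linear_combination h'))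
  have heven : Even S.card := by
    have hp : ∏ i, (δ i : F) = 1 := by
      simp only [hδ, Units.val_mul, Finset.prod_mul_distrib]
      rw [Equiv.prod_comp π (fun i => (ε i : F)), ← Finset.prod_mul_distrib]
      exact Finset.prod_eq_one fun i _ => hε i
    have h2 : ∏ i, (δ i : F) = (-1 : F) ^ S.card := by
      rw [← Finset.prod_const, ← Finset.prod_subset S.subset_univ fun i _ hi => by
        rcases hδs i with e | e
        · simp [e]
        · exact absurd (by simp [hS, e]) hi]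
      exact Finset.prod_congr rfl fun i hi => by
        simp only [hS, Finset.mem_filter] at hi
        simp [hi.2]
    by_contra hodd
    rw [Nat.not_even_iff_odd] at hodd
    rw [hp, hodd.neg_one_pow] at h2
    exact G.two (by linear_combination h2)
  have h := mul_mem (hpure (π * π) (Equiv.Perm.mem_alternatingGroup.2 (by
    rw [Equiv.Perm.sign_mul, Int.units_mul_self]))) (hdg heven)
  rw [OrthFrame.dg, OrthFrame.sp_mul, mul_one, hsg] at h
  simpa using h

end Ga

/-- The self-adjoint nilpotent matrix of `v` and a vector perpendicular to it. -/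
def xw (v w : Fin 2 ⊕ Fin 2 → F) : Matrix (Fin 2 ⊕ Fin 2) (Fin 2 ⊕ Fin 2) F :=
  Matrix.vecMulVec w (Matrix.J (Fin 2) F *ᵥ v) - Matrix.vecMulVec v (Matrix.J (Fin 2) F *ᵥ w)

theorem xw_mulVec (v w x : V4) : xw v w *ᵥ x = B x v • w - B x w • v := by
  rw [xw, Matrix.sub_mulVec, Matrix.vecMulVec_mulVec, Matrix.vecMulVec_mulVec, op_smul_eq_smul, op_smul_eq_smul,
    dotProduct_comm, dotProduct_comm (Matrix.J (Fin 2) F *ᵥ w)]
  rfl

theorem xw_mem {v w : V4} (h : B v w = 0) : xw v w ∈ saZero F := by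
  refine ⟨fun x y => ?_, ?_⟩
  · simp only [xw_mulVec, sympForm_sub_left, sympForm_sub_right, sympForm_smul_left, sympForm_smul_right]
    rw [sympForm_swap w y, sympForm_swap v y]; ring
  · rw [xw, Matrix.trace_sub, Matrix.trace_vecMulVec, Matrix.trace_vecMulVec]
    show B w v - B v w = 0
    rw [sympForm_swap w v, h, neg_zero, sub_zero]

/-- A symplectic basis through a given vector. -/
theorem exists_basis {v : V4} (hv : v ≠ 0) : ∃ f w₁ w₂ : V4, ∃ ω : F, ω ≠ 0 ∧ B v f = 1 ∧ B v w₁ = 0 ∧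
    B v w₂ = 0 ∧ B f w₁ = 0 ∧ B f w₂ = 0 ∧ B w₁ w₂ = ω ∧ ∀ u, B v u = 0 →
      ∃ s : F, u = s • v + (ω⁻¹ * B u w₂) • w₁ + (-(ω⁻¹ * B u w₁)) • w₂ := by
  obtain ⟨f, hf⟩ := exists_sympForm_eq_one hv
  obtain ⟨π, hπ⟩ : ∃ π : V4 → V4, ∀ x, π x = x - B x f • v + B x v • f := ⟨_, fun _ => rfl⟩
  have hπv : ∀ x, B v (π x) = 0 := fun x => by
    rw [hπ, sympForm_add_right, sympForm_sub_right, sympForm_smul_right, sympForm_smul_right, sympForm_self, hf,
      sympForm_swap v x]
    ring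
  have hπf : ∀ x, B f (π x) = 0 := fun x => by
    rw [hπ, sympForm_add_right, sympForm_sub_right, sympForm_smul_right, sympForm_smul_right, sympForm_self,
      sympForm_swap f v, hf, sympForm_swap f x]
    ring
  obtain ⟨x₀, hx₀⟩ : ∃ x₀, π x₀ ≠ 0 := by
    by_contra hc
    push Not at hc
    have htop : (⊤ : Submodule F V4) ≤ Submodule.span F (Set.range ![v, f]) := fun x _ => by
      have : x = B x f • v + (-(B x v)) • f := by
        have h := hc x; rw [hπ] at h; rw [neg_smul, ← sub_eq_zero, ← h]; abel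
      rw [this]
      exact add_mem (Submodule.smul_mem _ _ (Submodule.subset_span ⟨0, rfl⟩))
        (Submodule.smul_mem _ _ (Submodule.subset_span ⟨1, rfl⟩))
    have h := (Submodule.finrank_mono htop).trans (finrank_range_le_card (R := F) ![v, f])
    simp at h
  obtain ⟨y, hy⟩ := exists_sympForm_eq_one hx₀
  have hω : B (π x₀) (π y) = 1 := by
    rw [hπ y, sympForm_add_right, sympForm_sub_right, sympForm_smul_right, sympForm_smul_right,
      sympForm_swap (π x₀) v, sympForm_swap (π x₀) f, hπv, hπf, hy]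
    ring
  refine ⟨f, π x₀, π y, 1, one_ne_zero, hf, hπv _, hπv _, hπf _, hπf _, hω, fun u hu => ⟨B u f, ?_⟩⟩
  obtain ⟨w₁, hw₁⟩ : ∃ w, w = π x₀ := ⟨_, rfl⟩
  obtain ⟨w₂, hw₂⟩ : ∃ w, w = π y := ⟨_, rfl⟩
  rw [← hw₁, ← hw₂, inv_one, one_mul, one_mul]
  have a1 : B v w₁ = 0 := hw₁ ▸ hπv _
  have a2 : B v w₂ = 0 := hw₂ ▸ hπv _
  have a3 : B f w₁ = 0 := hw₁ ▸ hπf _
  have a4 : B f w₂ = 0 := hw₂ ▸ hπf _
  have a5 : B w₁ w₂ = 1 := hw₁ ▸ hw₂ ▸ hω
  obtain ⟨r, hr⟩ : ∃ r, r = u - (B u f • v + B u w₂ • w₁ + (-(B u w₁)) • w₂) := ⟨_, rfl⟩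
  suffices r = 0 by rw [hr, sub_eq_zero] at this; exact this
  have hlin : LinearIndependent F ![v, f, w₁, w₂] := by
    rw [Fintype.linearIndependent_iff]
    intro c hc
    have h : ∀ z, B (∑ i, c i • ![v, f, w₁, w₂] i) z = 0 := fun z => by rw [hc]; simp
    simp only [Fin.sum_univ_four, sympForm_add_left, sympForm_smul_left, Matrix.cons_val_zero, Matrix.cons_val_one,
      Matrix.cons_val, sympForm_swap f v, sympForm_swap w₁ v, sympForm_swap w₂ v, sympForm_swap w₁ f,
      sympForm_swap w₂ f, sympForm_swap w₂ w₁] at h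
    have k0 := h f; have k1 := h v; have k2 := h w₂; have k3 := h w₁
    simp [sympForm_self, hf, a1, a2, a3, a4, a5, sympForm_swap w₁ f, sympForm_swap w₂ f, sympForm_swap w₁ v,
      sympForm_swap w₂ v, sympForm_swap w₂ w₁, sympForm_swap f v] at k0 k1 k2 k3
    intro i
    fin_cases i <;> simp [k0, k1, k2, k3]
  have hsp := hlin.span_eq_top_of_card_eq_finrank (by simp)
  refine eq_zero_of_sympForm_eq_zero fun z => ?_
  have hz : z ∈ Submodule.span F (Set.range ![v, f, w₁, w₂]) := hsp ▸ Submodule.mem_top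
  induction hz using Submodule.span_induction with
  | mem z hz =>
    obtain ⟨i, rfl⟩ := hz
    fin_cases i <;> simp [hr, sympForm_sub_left, sympForm_add_left, sympForm_smul_left, sympForm_self, hf, a1, a2,
      a3, a4, a5, sympForm_swap w₁ f, sympForm_swap w₂ f, sympForm_swap w₁ v, sympForm_swap w₂ v,
      sympForm_swap w₂ w₁, sympForm_swap f v, sympForm_swap u v, hu, -neg_smul]
  | zero => simp
  | add x y _ _ hx hy => rw [sympForm_add_right, hx, hy, add_zero]
  | smul c x _ hx => rw [sympForm_smul_right, hx, mul_zero]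

namespace Ga

variable (G : Ga R γ)
include G

/-- A transvection acts as a long root element of a totally singular line. -/
theorem chi_tv {v : V4} (hv : v ≠ 0) (c : F) (T : spGL 2 F)
    (hT : ∀ x, ((T : G4) : M4) *ᵥ x = x + (c * B x v) • v) :
    ∃ e b : Fin 5 → F, e ≠ 0 ∧ OrthFrame.qs F 5 e = 0 ∧ QuadraticMap.polar ⇑(OrthFrame.qs F 5) e b = 0 ∧
      OrthFrame.qs F 5 b = 0 ∧ act γ (T : G4) = OrthAut.eMat (OrthFrame.qs F 5) e b := by
  obtain ⟨f, w₁, w₂, ω, hω, hf, a1, a2, a3, a4, a5, hdec⟩ := exists_basis hv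
  have hprod : ∀ {w w' : V4}, B v w = 0 → B v w' = 0 → ∀ x,
      xw v w *ᵥ (xw v w' *ᵥ x) = (-(B x v * B w' w)) • v := fun {w w'} h h' x => by
    rw [xw_mulVec v w, xw_mulVec v w', sympForm_sub_left, sympForm_sub_left, sympForm_smul_left, sympForm_smul_left,
      sympForm_smul_left, sympForm_smul_left, sympForm_self, sympForm_swap w' v, h', h]
    simp
  have hpol : ∀ {w w' : V4}, B v w = 0 → B v w' = 0 →
      QuadraticMap.polar ⇑(OrthFrame.qs F 5) (co γ (xw v w)) (co γ (xw v w')) = 0 := fun {w w'} h h' => by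
    refine smul_one_inj (F := F) ?_
    rw [← G.jordan, G.comb_co (xw_mem h), G.comb_co (xw_mem h'), zero_smul]
    refine Matrix.ext_iff_mulVec.2 fun x => ?_
    rw [Matrix.add_mulVec, ← Matrix.mulVec_mulVec, ← Matrix.mulVec_mulVec, hprod h h', hprod h' h,
      Matrix.zero_mulVec, ← add_smul, sympForm_swap w w']
    simp
  have hqz : ∀ {w : V4}, B v w = 0 → OrthFrame.qs F 5 (co γ (xw v w)) = 0 := fun {w} h => by
    have := hpol h h
    rw [OrthAut.polar_self2] at this
    exact (mul_eq_zero.1 this).resolve_left G.two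
  have hpX : ∀ {w : V4}, B v w = 0 → ∀ x : Fin 5 → F,
      QuadraticMap.polar ⇑(OrthFrame.qs F 5) (co γ (xw v w)) x = -B (comb γ x *ᵥ v) w := fun {w} h x => by
    have hJ := congrArg (fun A : M4 => A *ᵥ v) (G.jordan (co γ (xw v w)) x)
    simp only [G.comb_co (xw_mem h), Matrix.add_mulVec, ← Matrix.mulVec_mulVec, Matrix.smul_mulVec,
      Matrix.one_mulVec, xw_mulVec, sympForm_self, h, zero_smul, sub_self, Matrix.mulVec_zero, add_zero] at hJ
    have hvv : B (comb γ x *ᵥ v) v = 0 := by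
      have h1 := (G.comb_mem x).1 v v
      rw [sympForm_swap v] at h1
      exact (mul_eq_zero.1 (show (2 : F) * _ = 0 by linear_combination h1)).resolve_left G.two
    rw [hvv, zero_smul, zero_sub, ← neg_smul] at hJ
    exact (smul_left_injective F hv hJ).symm
  refine ⟨co γ (xw v w₂), (c * ω⁻¹) • co γ (xw v w₁), fun h0 => ?_, hqz a2, ?_, ?_, ?_⟩
  · have h1 := congrArg (fun A => A *ᵥ f) (G.comb_co (xw_mem a2))
    simp only [h0, comb, Pi.zero_apply, zero_smul, Finset.sum_const_zero, Matrix.zero_mulVec, xw_mulVec,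
      sympForm_swap f v, hf, a4, sub_zero] at h1
    have hw2 : w₂ = 0 := by simpa using h1
    rw [hw2, sympForm_zero_right] at a5
    exact hω a5.symm
  · rw [QuadraticMap.polar_smul_right, hpol a2 a1, smul_zero]
  · rw [QuadraticMap.map_smul, hqz a1, smul_zero]
  refine Matrix.ext_iff_mulVec.2 fun x => ?_
  obtain ⟨X, hX⟩ : ∃ X, X = comb γ x := ⟨_, rfl⟩
  have hvX : B v (X *ᵥ v) = 0 := by
    have h1 := (G.comb_mem x).1 v v
    rw [← hX, sympForm_swap (X *ᵥ v)] at h1
    exact (mul_eq_zero.1 (show (2 : F) * _ = 0 by linear_combination -h1)).resolve_left G.two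
  obtain ⟨s, hs⟩ := hdec _ hvX
  have hconj : ((T : G4) : M4) * X * (((T : G4)⁻¹ : G4) : M4) = X - c • xw v (X *ᵥ v) := by
    have h0 : ((T : G4) : M4) * X = (X - c • xw v (X *ᵥ v)) * ((T : G4) : M4) := by
      refine Matrix.ext_iff_mulVec.2 fun y => ?_
      rw [← Matrix.mulVec_mulVec, ← Matrix.mulVec_mulVec, hT, hT, Matrix.sub_mulVec, Matrix.smul_mulVec, xw_mulVec,
        Matrix.mulVec_add, Matrix.mulVec_smul, sympForm_add_left, sympForm_add_left, sympForm_smul_left,
        sympForm_smul_left, sympForm_self, hvX]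
      have : B (X *ᵥ y) v = B y (X *ᵥ v) := by rw [hX]; exact (G.comb_mem x).1 y v
      rw [this]
      funext i
      simp only [Pi.add_apply, Pi.smul_apply, Pi.sub_apply, smul_eq_mul]
      ring
    rw [h0, mul_assoc, Units.mul_inv, mul_one]
  have hlin : xw v (X *ᵥ v) =
      (ω⁻¹ * B (X *ᵥ v) w₂) • xw v w₁ + (-(ω⁻¹ * B (X *ᵥ v) w₁)) • xw v w₂ := by
    refine Matrix.ext_iff_mulVec.2 fun y => ?_
    simp only [Matrix.add_mulVec, Matrix.smul_mulVec, xw_mulVec]
    conv_lhs => rw [hs]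
    simp only [sympForm_add_right, sympForm_smul_right]
    funext i
    simp only [Pi.add_apply, Pi.smul_apply, Pi.sub_apply, smul_eq_mul]
    ring
  rw [act_mulVec, ← hX, hconj, OrthAut.eMat_mulVec, map_sub, map_smul, hlin, map_add, map_smul, map_smul,
    hX, G.co_comb, hpX a2, QuadraticMap.polar_smul_left, hpX a1, QuadraticMap.map_smul, hqz a1]
  funext i
  simp only [Pi.add_apply, Pi.smul_apply, Pi.sub_apply, smul_eq_mul]
  ring

theorem not_mem_normalizer_tv {v : V4} (hv : v ≠ 0) (T : spGL 2 F)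
    (hT : ∀ x, ((T : G4) : M4) *ᵥ x = x + ((1 : F) * B x v) • v) : (T : G4) ∉ NR R := by
  intro hN
  obtain ⟨e, b, -, he, heb, hb, hA⟩ := G.chi_tv hv 1 T hT
  obtain ⟨π, ε, hs, hε⟩ := OrthFrame.eq_sp_of_mon (G.mon_of_mem_normalizer hN) (fun x => G.act_iso T.2 x)
  have hAA : ∀ x, act γ (T : G4) *ᵥ (act γ (T : G4) *ᵥ x) = (2 : F) • (act γ (T : G4) *ᵥ x) - x := fun x => by
    simp only [hA, OrthAut.eMat_mulVec, hb, zero_mul, zero_smul, sub_zero, QuadraticMap.polar_add_right,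
      QuadraticMap.polar_sub_right, QuadraticMap.polar_smul_right, QuadraticMap.polar_comm _ b e, heb,
      OrthAut.polar_self' he, OrthAut.polar_self' hb, smul_eq_mul]
    funext i
    simp only [Pi.add_apply, Pi.smul_apply, Pi.sub_apply, smul_eq_mul]
    ring
  have hcol : ∀ i (a : F), act γ (T : G4) *ᵥ Pi.single i a = Pi.single (π i) (a * ε i) := fun i a => by
    rw [← G.chi_val, hs, show (Pi.single i a : Fin 5 → F) = a • Pi.single i 1 by
      rw [← Pi.single_smul, smul_eq_mul, mul_one], Matrix.mulVec_smul, OrthFrame.sp_single, ← Pi.single_smul,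
      smul_eq_mul]
  have h1 : G.chi T = G.chi 1 := by
    rw [map_one, hs, ← OrthFrame.sp_one]
    refine OrthFrame.ext_single fun i => ?_
    rw [OrthFrame.sp_single, OrthFrame.sp_single]
    have h := congrFun (hAA (Pi.single i 1)) (π i)
    rw [hcol, hcol, Pi.sub_apply, Pi.smul_apply, smul_eq_mul, Pi.single_eq_same] at h
    by_cases hπi : π i = i
    · simp only [Pi.single_apply, hπi, if_true, one_mul] at h
      have he1 : (ε i : F) = 1 := by
        have h2 : ((ε i : F) - 1) * (ε i - 1) = 0 := by linear_combination h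
        exact sub_eq_zero.1 (mul_self_eq_zero.1 h2)
      simp [hπi, he1]
    · exfalso
      rw [Pi.single_eq_of_ne (fun e => hπi (π.injective e.symm)), Pi.single_eq_of_ne hπi] at h
      exact mul_ne_zero G.two (ε i).ne_zero (by linear_combination -h)
  obtain ⟨f, hf⟩ := exists_sympForm_eq_one hv
  rcases G.chi_eq_imp h1 with h | h
  · have h3 := hT f
    rw [h] at h3
    simp [sympForm_swap f v, hf] at h3
    exact hv h3
  · have h3 := hT v
    rw [h] at h3
    simp [Matrix.neg_mulVec, sympForm_self] at h3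
    exact hv (funext fun i => (mul_eq_zero.1 (show (2 : F) * v i = 0 by
      have := congrFun h3 i; simp at this; linear_combination -this)).resolve_left G.two)

theorem maximal [Fintype F] (hp : (Fintype.card F).Prime) :
    Cfsg.Geo.IsMaximalIn (spGL 2 F) (Cfsg.Geo.subgroupNormalizer R ⊓ spGL 2 F) := by
  classical
  obtain ⟨v, hv⟩ : ∃ v : V4, v ≠ 0 := ⟨Pi.single (.inl 0) 1, by simp⟩
  obtain ⟨T, hT, hTx⟩ := exists_sp_tv v (1 : F)
  refine ⟨lt_of_le_of_ne inf_le_right fun e => ?_, fun M hM hMS => ?_⟩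
  · exact G.not_mem_normalizer_tv hv ⟨T, hT⟩ hTx (show T ∈ NR R from (e.symm ▸ hT : T ∈ NR R ⊓ spGL 2 F).1)
  rcases OrthFrame.dich_five (G.fr hM) hp with hmon | hconcl
  · refine Or.inl (le_antisymm (fun g hg => ⟨?_, hMS hg⟩) hM)
    exact G.mem_normalizer_of_mon (g := ⟨g, hMS hg⟩)
      (hmon _ ⟨⟨g, hMS hg⟩, Subgroup.mem_subgroupOf.2 hg, rfl⟩)
  refine Or.inr (le_antisymm hMS (MaxTv.spGL_le fun u => ?_))
  rcases eq_or_ne u 0 with rfl | hu
  · exact Pt.zero
  intro c
  obtain ⟨t, ht, htx⟩ := exists_sp_tv u c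
  refine ⟨t, ?_, fun x => by rw [htx, fn_dot sesq_sympForm, sympForm_smul_right]⟩
  obtain ⟨e, b, he0, he, heb, -, hA⟩ := G.chi_tv hu c ⟨t, ht⟩ htx
  obtain ⟨h, hh, hval⟩ := (G.fr hM).siegel_mem (by norm_num) hconcl he0 he heb
  obtain ⟨m, hm, rfl⟩ := hh
  have hmM : (m : G4) ∈ M := Subgroup.mem_subgroupOf.1 hm
  have heq : G.chi ⟨t, ht⟩ = G.chi m := Units.ext (by rw [hval, G.chi_val, hA])
  rcases G.chi_eq_imp heq with h | h
  · exact (show t = (m : G4) from h) ▸ hmM
  · rw [show t = -1 * (m : G4) by rw [neg_one_mul]; exact h]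
    exact mul_mem (hM G.neg_one_mem) hmM

end Ga

/-- Normalisers of two-groups of minus type and order 32 are maximal in `Sp₄(p)`. -/
theorem symplectic_clifford_maximal [Fintype F] (h2 : (2 : F) ≠ 0) (hp : (Fintype.card F).Prime)
    {R : Subgroup (GL (Fin 2 ⊕ Fin 2) F)} (hle : R ≤ spGL 2 F) (hs : Cfsg.Geo.IsSymplecticTypeGroup 2 R)
    (hirr : Cfsg.Geo.ActsAbsolutelyIrreducibly (Cfsg.Geo.matrixSet R)) (h32 : Nat.card R = 32)
    (hz : Nat.card (Subgroup.center R) = 2) (hm : Cfsg.Geo.IsOfMinusType 2 R) :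
    Cfsg.Geo.IsMaximalIn (spGL 2 F) (Cfsg.Geo.subgroupNormalizer R ⊓ spGL 2 F) := by
  obtain ⟨γ, G⟩ := exists_ga h2 hle hs hirr h32 hz hm
  exact G.maximal hp

end Cfsg.Agent.Classical.SpClifford
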