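import Cfsg.Agent.Lib.Classical.SympEvenFrames
import Cfsg.Agent.S0245

/-!
Normal forms of the symmetric form `B u (N v)` and the number of its isometries.
-/

set_option autoImplicit false

namespace Cfsg.Agent.Classical.SympEven

open Module Matrix Cfsg.Agent.Classical

universe u v

variable {F : Type u} [Field F] [Finite F] [CharP F 2] {V : Type v} [AddCommGroup V] [Module F V] [FiniteDimensional F V]

/-- The number of orthonormal bases. -/
def onNum (q : ℕ) : ℕ → ℕ
  | 0 => 1
  | n + 1 => (q ^ n - if n ≠ 0 ∧ Even n then 1 else 0) * onNum q n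

/-- The order of `Sp(2k, q)`. -/
def spNum (q k : ℕ) : ℕ := q ^ (k ^ 2) * ∏ i : Fin k, (q ^ (2 * ((i : ℕ) + 1)) - 1)

theorem onNum_eq (q h : ℕ) : onNum q (2 * h + 1) = spNum q h ∧ onNum q (2 * h + 2) = q ^ (2 * h + 1) * spNum q h := by
  induction h with
  | zero =>
    have h1 : onNum q 1 = 1 := by simp [onNum]
    refine ⟨by rw [h1]; simp [spNum], ?_⟩
    show (q ^ 1 - if 1 ≠ 0 ∧ Even 1 then 1 else 0) * onNum q 1 = _
    rw [h1]; simp [spNum]
  | succ h ih =>
    have h1 : onNum q (2 * (h + 1) + 1) = spNum q (h + 1) := by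
      show (q ^ (2 * h + 2) - if 2 * h + 2 ≠ 0 ∧ Even (2 * h + 2) then 1 else 0) * onNum q (2 * h + 2) = _
      rw [if_pos ⟨by omega, ⟨h + 1, by omega⟩⟩, ih.2]
      simp only [spNum, Fin.prod_univ_castSucc, Fin.val_castSucc, Fin.val_last,
        show (h + 1) ^ 2 = h ^ 2 + (2 * h + 1) by ring, pow_add, show 2 * (h + 1) = 2 * h + 2 by ring]
      ring
    refine ⟨h1, ?_⟩
    show (q ^ (2 * (h + 1) + 1) - if 2 * (h + 1) + 1 ≠ 0 ∧ Even (2 * (h + 1) + 1) then 1 else 0) *
        onNum q (2 * (h + 1) + 1) = _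
    rw [if_neg (fun hh => Nat.not_even_two_mul_add_one _ hh.2), Nat.sub_zero, h1]

variable (b : LinearMap.BilinForm F V)

theorem card_onb (hS : b.IsSymm) : ∀ (n : ℕ) (W : Submodule F V), (∀ w ∈ W, w ≠ 0 → ∃ u ∈ W, b w u ≠ 0) →
    finrank F W = n → (n ≠ 0 → ∃ v ∈ W, b v v ≠ 0) →
    Nat.card {x : Fin n → V // (∀ i, x i ∈ W) ∧ ∀ i j, b (x i) (x j) = if i = j then 1 else 0} =
      onNum (Nat.card F) n := by
  classical
  haveI : Finite V := Module.finite_of_finite F
  intro n
  induction n with
  | zero =>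
    intro W _ _ _
    haveI : Unique {x : Fin 0 → V // (∀ i, x i ∈ W) ∧ ∀ i j, b (x i) (x j) = if i = j then 1 else 0} :=
      ⟨⟨⟨Fin.elim0, fun i => i.elim0, fun i => i.elim0⟩⟩, fun x => Subtype.ext (funext fun i => i.elim0)⟩
    rw [Nat.card_unique]; rfl
  | succ n ih =>
    intro W hW hn hna
    have : Fintype V := Fintype.ofFinite V
    obtain ⟨e₀, he₀W, he₀⟩ := exists_orthonormal_family_char_two b hS (n + 1) W hW hn hna
    have hspan : Submodule.span F (Set.range e₀) = W := by
      have hli : LinearIndependent F e₀ := linearIndependent_of_orth e₀ (fun i => b (e₀ i))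
        (fun i j hij => by rw [he₀, if_neg hij]) (fun i => by rw [he₀, if_pos rfl]; exact one_ne_zero)
      exact Submodule.eq_of_le_of_finrank_eq (Submodule.span_le.2 (Set.range_subset_iff.2 he₀W))
        (by rw [finrank_span_eq_card hli, Fintype.card_fin, hn])
    set e := ∑ i, e₀ i with he
    have hb0 : ∀ i, b (e₀ i) e = 1 := fun i => by simp [he, he₀, Finset.sum_ite_eq]
    have heW : e ∈ W := W.sum_mem fun i _ => he₀W i
    have hsq : ∀ w ∈ W, b w w = b w e * b w e := fun w hw => by
      rw [← hspan] at hw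
      induction hw using Submodule.span_induction with
      | mem x hx => obtain ⟨i, rfl⟩ := hx; rw [hb0, he₀, if_pos rfl, one_mul]
      | zero => simp
      | add x y _ _ hx hy =>
        have h2 : (2 : F) = 0 := CharTwo.two_eq_zero
        simp only [map_add, LinearMap.add_apply, hS.eq y x, hx, hy]
        linear_combination (b x y - b x e * b y e) * h2
      | smul c x _ hx => simp only [map_smul, LinearMap.smul_apply, smul_eq_mul, hx]; ring
    have hone : ∀ v ∈ W, (b v v = 1 ↔ b v e = 1) := fun v hv => by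
      rw [hsq v hv]
      refine ⟨fun h => ?_, fun h => by rw [h, one_mul]⟩
      rcases mul_self_eq_one_iff.1 h with h | h
      · exact h
      · rw [h, CharTwo.neg_eq]
    have hee : b e e = if Even n then 1 else 0 := by
      rw [show b e e = ∑ i, b (e₀ i) e from
        (congrArg (b e) he).trans ((map_sum (b e) e₀ _).trans (Finset.sum_congr rfl fun i _ => hS.eq _ _))]
      simp only [hb0, Finset.sum_const, Finset.card_univ, Fintype.card_fin, nsmul_one]
      rcases Nat.even_or_odd' n with ⟨t, rfl | rfl⟩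
      · rw [if_pos ⟨t, two_mul t⟩]; push_cast; simp [CharTwo.two_eq_zero]
      · rw [if_neg (Nat.not_even_two_mul_add_one t)]; push_cast; simp [CharTwo.two_eq_zero, add_assoc, one_add_one_eq_two]
    let Top := {v : V // v ∈ W ∧ b v v = 1}
    let Fib : Top → Type v := fun v => {x : Fin n → V //
      (∀ i, x i ∈ W ⊓ LinearMap.ker (b v.1)) ∧ ∀ i j, b (x i) (x j) = if i = j then 1 else 0}
    let E : {x : Fin (n + 1) → V // (∀ i, x i ∈ W) ∧ ∀ i j, b (x i) (x j) = if i = j then 1 else 0} ≃ (v : Top) × Fib v :=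
      { toFun := fun x => ⟨⟨x.1 0, x.2.1 0, by rw [x.2.2, if_pos rfl]⟩, fun i => x.1 i.succ,
          fun i => ⟨x.2.1 _, by show b (x.1 0) (x.1 i.succ) = 0; rw [x.2.2, if_neg (Fin.succ_ne_zero i).symm]⟩,
          fun i j => by rw [x.2.2]; simp⟩
        invFun := fun p => ⟨Fin.cons p.1.1 p.2.1, fun i => by
            induction i using Fin.cases with
            | zero => simpa using p.1.2.1
            | succ i => simpa using (p.2.2.1 i).1,
          fun i j => by
            induction i using Fin.cases with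
            | zero =>
              induction j using Fin.cases with
              | zero => simpa using p.1.2.2
              | succ j => simpa [(Fin.succ_ne_zero j).symm] using (p.2.2.1 j).2
            | succ i =>
              induction j using Fin.cases with
              | zero => simpa [Fin.succ_ne_zero i] using (hS.eq _ _).trans (p.2.2.1 i).2
              | succ j => simpa using p.2.2.2 i j⟩
        left_inv := fun x => Subtype.ext (funext fun i => by induction i using Fin.cases <;> simp)
        right_inv := fun p => by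
          obtain ⟨⟨v, hv⟩, x, hx⟩ := p
          refine Sigma.subtype_ext (Subtype.ext ?_) (funext fun i => ?_) <;> simp }
    have hfib : ∀ v : Top, Nat.card (Fib v) = if n ≠ 0 ∧ v.1 = e then 0 else onNum (Nat.card F) n := fun v => by
      have hv0 : b v.1 v.1 ≠ 0 := by rw [v.2.2]; exact one_ne_zero
      have hnd := nondeg_inf_ker b hS hW v.2.1 hv0
      have hr := finrank_inf_orth b v.2.1 hv0
      split_ifs with hbad
      · haveI : IsEmpty (Fib v) := ⟨fun x => by
          obtain ⟨hn0, hve⟩ := hbad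
          let i : Fin n := ⟨0, Nat.pos_of_ne_zero hn0⟩
          have h1 := x.2.2 i i
          rw [if_pos rfl, hsq _ (x.2.1 i).1, ← hve, hS.eq, (show b v.1 (x.1 i) = 0 from (x.2.1 i).2), zero_mul] at h1
          exact zero_ne_one h1⟩
        exact Nat.card_of_isEmpty
      · refine ih _ hnd (by omega) fun hn0 => ?_
        by_contra! hall
        refine hbad ⟨hn0, ?_⟩
        have hd : e - v.1 ∈ W ⊓ LinearMap.ker (b v.1) := ⟨W.sub_mem heW v.2.1, by
          show b v.1 (e - v.1) = 0
          rw [map_sub, (hone _ v.2.1).1 v.2.2, v.2.2, sub_self]⟩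
        by_contra hne
        obtain ⟨u, hu, hu0⟩ := hnd _ hd (sub_ne_zero.2 (Ne.symm hne))
        refine hu0 ?_
        have h1 := hall u hu
        rw [hsq u hu.1, mul_self_eq_zero] at h1
        rw [map_sub, LinearMap.sub_apply, hS.eq e u, h1, show b v.1 u = 0 from hu.2, sub_zero]
    have hTop : Nat.card Top = Nat.card F ^ n := by
      let φ : W →ₗ[F] F := (b.flip e).comp W.subtype
      have hd := φ.finrank_range_add_finrank_ker
      have hsur : Function.Surjective φ := fun c => ⟨c • ⟨e₀ 0, he₀W 0⟩, by simp [φ, hb0]⟩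
      rw [LinearMap.range_eq_top.2 hsur, finrank_top, Module.finrank_self, hn] at hd
      have hk : finrank F (LinearMap.ker φ) = n := by omega
      rw [← hk, ← Module.natCard_eq_pow_finrank]
      refine Nat.card_congr
        { toFun := fun v => ⟨⟨v.1, v.2.1⟩ - ⟨e₀ 0, he₀W 0⟩, LinearMap.mem_ker.2 (by
            rw [map_sub]; show b v.1 e - b (e₀ 0) e = 0; rw [(hone _ v.2.1).1 v.2.2, hb0, sub_self])⟩
          invFun := fun k => ⟨(k.1 : V) + e₀ 0, W.add_mem k.1.2 (he₀W 0), (hone _ (W.add_mem k.1.2 (he₀W 0))).2 (by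
            rw [map_add, LinearMap.add_apply, hb0, show b (k.1 : V) e = 0 from k.2, zero_add])⟩
          left_inv := fun v => Subtype.ext (sub_add_cancel _ _)
          right_inv := fun k => Subtype.ext (Subtype.ext (add_sub_cancel_right _ _)) }
    rw [Nat.card_congr E, Nat.card_sigma]
    simp only [hfib]
    rw [Finset.sum_ite, Finset.sum_const_zero, zero_add, Finset.sum_const, smul_eq_mul, onNum]
    congr 1
    rw [← hTop, Nat.card_eq_fintype_card, ← Finset.compl_filter, Finset.card_compl]
    congr 1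
    by_cases hcase : n ≠ 0 ∧ Even n
    · rw [if_pos hcase, Finset.card_eq_one]
      refine ⟨⟨e, heW, by rw [hee, if_pos hcase.2]⟩, Finset.eq_singleton_iff_unique_mem.2 ⟨?_, fun v hv => ?_⟩⟩
      · exact Finset.mem_filter.2 ⟨Finset.mem_univ _, hcase.1, rfl⟩
      · exact Subtype.ext (Finset.mem_filter.1 hv).2.2
    · rw [if_neg hcase, Finset.card_eq_zero, Finset.filter_eq_empty_iff]
      rintro v - ⟨hn0, hve⟩
      have h1 := v.2.2
      rw [hve, hee, if_neg fun h => hcase ⟨hn0, h⟩] at h1
      exact zero_ne_one h1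

theorem card_orth_one {s : ℕ} :
    Nat.card {A : Matrix (Fin s) (Fin s) F // A * 1 * Aᵀ = 1} = onNum (Nat.card F) s := by
  classical
  let d : LinearMap.BilinForm F (Fin s → F) := Matrix.toBilin' 1
  have hd : ∀ x y, d x y = x ⬝ᵥ y := fun x y => by simp [d, Matrix.toBilin'_apply']
  rw [← card_onb d ⟨fun x y => by rw [hd, hd, dotProduct_comm]⟩ s ⊤ (fun w _ hw => ?_)
    (by rw [finrank_top, Module.finrank_fin_fun]) (fun hs => ⟨Pi.single ⟨0, Nat.pos_of_ne_zero hs⟩ 1, trivial, by simp [hd]⟩)]
  · refine Nat.card_congr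
      { toFun := fun A => ⟨fun i => A.1 i, fun i => trivial, fun i j => by
          rw [hd]
          have h1 := congrFun (congrFun A.2 i) j
          rw [Matrix.mul_one, Matrix.one_apply, Matrix.mul_apply] at h1
          exact h1⟩
        invFun := fun x => ⟨Matrix.of fun i => x.1 i, by
          ext i j
          rw [Matrix.mul_one, Matrix.one_apply, ← x.2.2, hd, Matrix.mul_apply]
          rfl⟩
        left_inv := fun A => rfl
        right_inv := fun x => rfl }
  · obtain ⟨i, hi⟩ := Function.ne_iff.1 hw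
    exact ⟨Pi.single i 1, trivial, by simpa [hd] using hi⟩

omit [FiniteDimensional F V] in
theorem card_isom_J (h : ℕ) :
    Nat.card {A : Matrix (Fin h ⊕ Fin h) (Fin h ⊕ Fin h) F // A * Matrix.J (Fin h) F * Aᵀ = Matrix.J (Fin h) F} =
      spNum (Nat.card F) h := by
  haveI := Fintype.ofFinite F
  rw [Nat.card_eq_fintype_card (α := F), spNum, Fin.prod_univ_eq_prod_range
    (fun i => Fintype.card F ^ (2 * (i + 1)) - 1), ← Cfsg.Agent.S0245.result (F := F) rfl h]
  rfl

variable {B : LinearMap.BilinForm F V} {N : Module.End F V}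

theorem exists_normal (h : Nil B N) :
    ((∀ v, B v (N v) = 0) → ∃ t, finrank F (LinearMap.range N) = Fintype.card (Fin t ⊕ Fin t) ∧
        ∃ w : Fin t ⊕ Fin t → V, IsTFrame B N (Matrix.J (Fin t) F) w) ∧
      ((∃ v, B v (N v) ≠ 0) → ∃ w : Fin (finrank F (LinearMap.range N)) → V, IsTFrame B N 1 w) := by
  classical
  obtain ⟨U, hU⟩ := Submodule.exists_isCompl (LinearMap.ker N)
  let c : LinearMap.BilinForm F V := B.compl₂ N
  have hc : ∀ x y, c x y = B x (N y) := fun x y => rfl
  have hsym : c.IsSymm := ⟨fun x y => by rw [hc, hc, h.comm]⟩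
  have hUN : finrank F U = finrank F (LinearMap.range N) := by
    have h1 := Submodule.finrank_add_eq_of_isCompl hU
    have h2 := N.finrank_range_add_finrank_ker
    omega
  have hsplit : ∀ x, ∃ u ∈ U, ∀ y, c y x = c y u ∧ c x y = c u y := fun x => by
    obtain ⟨k, hk, u, hu, rfl⟩ := Submodule.mem_sup.1 (hU.sup_eq_top ▸ Submodule.mem_top (x := x))
    refine ⟨u, hu, fun y => ⟨?_, ?_⟩⟩
    · simp [hc, LinearMap.mem_ker.1 hk]
    · rw [hsym.eq (k + u) y, hsym.eq u y]
      simp [hc, LinearMap.mem_ker.1 hk]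
  have hnd : ∀ w ∈ U, w ≠ 0 → ∃ u ∈ U, c w u ≠ 0 := fun w hw hw0 => by
    by_contra! hall
    refine hw0 ((Submodule.disjoint_def.1 hU.disjoint) w (LinearMap.mem_ker.2 (h.nondeg _ fun y => ?_)) hw)
    obtain ⟨u, hu, huy⟩ := hsplit y
    rw [h.adj, ← hc, (huy w).1, hall u hu]
  refine ⟨fun halt => ?_, fun ⟨v, hv⟩ => ?_⟩
  · have hA : c.IsAlt := fun x => halt x
    obtain ⟨t, k, e, f, r, htk, hef, hr, hEF, hEE, hFF, hrad, hspan⟩ := exists_symplectic_family c hA _ U hUN
    have hr0 : ∀ j, r j = 0 := fun j => by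
      by_contra h0
      obtain ⟨u, hu, hu'⟩ := hnd _ (hr j) h0
      exact hu' (hrad j u hu)
    have hG : IsUnit (Matrix.J (Fin t) F).det := Matrix.isUnit_det_J (Fin t) F
    have hgram : ∀ i j, B (Sum.elim e f i) (N (Sum.elim e f j)) = Matrix.J (Fin t) F i j := by
      rintro (i | i) (j | j) <;> simp only [Sum.elim_inl, Sum.elim_inr, ← hc, Matrix.J, Matrix.fromBlocks_apply₁₁,
        Matrix.fromBlocks_apply₁₂, Matrix.fromBlocks_apply₂₁, Matrix.fromBlocks_apply₂₂, Matrix.zero_apply,
        Matrix.neg_apply, Matrix.one_apply, CharTwo.neg_eq, hEE, hFF, hEF]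
      rw [hsym.eq, hEF]
      exact if_congr eq_comm rfl rfl
    refine ⟨t, ?_, exists_tframe h hgram hG⟩
    have hli : LinearIndependent F (Sum.elim e f) := LinearIndependent.of_comp N (li_N h hgram hG)
    rw [← hUN, ← finrank_span_eq_card hli]
    refine congrArg (fun S : Submodule F V => finrank F S) (le_antisymm ?_ (Submodule.span_le.2 ?_))
    · refine hspan.trans (Submodule.span_le.2 ?_)
      rintro z ((⟨i, rfl⟩ | ⟨i, rfl⟩) | ⟨j, rfl⟩)
      · exact Submodule.subset_span ⟨Sum.inl i, rfl⟩
      · exact Submodule.subset_span ⟨Sum.inr i, rfl⟩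
      · rw [hr0]; exact zero_mem _
    · rintro z ⟨i | i, rfl⟩
      exacts [(hef i).1, (hef i).2]
  · obtain ⟨u, hu, huv⟩ := hsplit v
    obtain ⟨w, -, hw⟩ := exists_orthonormal_family_char_two c hsym _ U hnd hUN fun _ => ⟨u, hu, by
      rw [← (huv u).1, hsym.eq, ← (huv v).1, hc]; exact hv⟩
    exact exists_tframe h (fun i j => by rw [← hc, hw, Matrix.one_apply]) (by simp)

end Cfsg.Agent.Classical.SympEven
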