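import Cfsg.Agent.Lib.Classical.FormSimilitude
import Cfsg.Agent.S0245
import Cfsg.Agent.S0287
import Cfsg.Agent.S0288
import Cfsg.Agent.Lib.Classical.SympEvenIsom
import Cfsg.Prelude.Def_ClassicalGeometry

/-!
Projective similitude groups: the models in characteristic two, determinants of similitudes, and orders.
-/

set_option autoImplicit false
set_option linter.unusedSectionVars false

namespace Cfsg.Agent.Classical.FormSim

open Matrix Module Cfsg.Agent.Classical

universe u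

variable {K : Type u} [Field K] {ι κ : Type} [Fintype ι] [DecidableEq ι] [Fintype κ] [DecidableEq κ]

/-- The isometries of a matrix as a form. -/
def iso (M : Matrix ι ι K) : Subgroup (GL ι K) := preserving (Units.coeHom (Matrix ι ι K)) (bf M)

theorem mem_iso {M : Matrix ι ι K} {g : GL ι K} :
    g ∈ iso M ↔ ∀ u v, bf M ((g : Matrix ι ι K) *ᵥ u) ((g : Matrix ι ι K) *ᵥ v) = bf M u v := Iff.rfl

theorem scalar_mulVec (c : Kˣ) (v : ι → K) :
    ((Matrix.GeneralLinearGroup.scalar ι c : GL ι K) : Matrix ι ι K) *ᵥ v = (c : K) • v := by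
  rw [Matrix.GeneralLinearGroup.coe_scalar, Matrix.scalar_apply, ← Matrix.smul_one_eq_diagonal, Matrix.smul_mulVec,
    Matrix.one_mulVec]

theorem scalar_mem_scalars (c : Kˣ) : Matrix.GeneralLinearGroup.scalar ι c ∈ Geo.scalars ι K :=
  (Geo.mem_scalars_iff _).2 ⟨c, by
    rw [Matrix.GeneralLinearGroup.coe_scalar, Matrix.scalar_apply, ← Matrix.smul_one_eq_diagonal]⟩

/-- A subgroup complementing the scalars. -/
theorem projQuot_of_split (H I : Subgroup (GL ι K)) (hle : I ≤ H)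
    (h1 : ∀ g ∈ I, g ∈ Geo.scalars ι K → g = 1)
    (h2 : ∀ h ∈ H, ∃ c : Kˣ, Matrix.GeneralLinearGroup.scalar ι c * h ∈ I) :
    Nonempty (projQuot H ≃* ↥I) := by
  let f : I →* projQuot H := (QuotientGroup.mk' _).comp (Subgroup.inclusion hle)
  refine ⟨(MulEquiv.ofBijective f ⟨?_, fun x => ?_⟩).symm⟩
  · refine (injective_iff_map_eq_one f).2 fun g hg => Subtype.ext ?_
    refine h1 _ g.2 ?_
    exact Subgroup.mem_subgroupOf.1 ((QuotientGroup.eq_one_iff (Subgroup.inclusion hle g)).1 hg)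
  · obtain ⟨⟨h, hh⟩, rfl⟩ := QuotientGroup.mk'_surjective _ x
    obtain ⟨c, hc⟩ := h2 h hh
    refine ⟨⟨_, hc⟩, QuotientGroup.eq.2 (Subgroup.mem_subgroupOf.2 ?_)⟩
    show (Matrix.GeneralLinearGroup.scalar ι c * h)⁻¹ * h ∈ Geo.scalars ι K
    have hcomm : Commute (Matrix.GeneralLinearGroup.scalar ι c) h := Units.ext
      (Matrix.scalar_commute (c : K) (fun r => Commute.all _ r) (h : Matrix ι ι K))
    rw [hcomm.eq, _root_.mul_inv_rev, mul_assoc, inv_mul_cancel, mul_one]
    exact inv_mem (scalar_mem_scalars c)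

section CharTwo

variable [CharP K 2]

theorem sq_inj_char_two {a b : K} (h : a * a = b * b) : a = b := by
  refine CharTwo.add_eq_zero.1 (mul_self_eq_zero.1 ?_)
  linear_combination h + (b * b + a * b) * CharTwo.two_eq_zero (R := K)

variable [Fintype K]

theorem exists_sqrt_unit (c : Kˣ) : ∃ t : Kˣ, (t : K) * (t : K) = c := by
  obtain ⟨r, hr⟩ := FiniteField.isSquare_of_char_two (ringChar.eq K 2) (c : K)
  have hr0 : r ≠ 0 := fun h => c.ne_zero (by rw [hr, h, mul_zero])
  exact ⟨Units.mk0 r hr0, hr.symm⟩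

theorem psim_iso_char_two {M : Matrix ι ι K} (hM : M ≠ 0) : Nonempty (projQuot (sim M) ≃* ↥(iso M)) := by
  refine projQuot_of_split _ _ (fun g hg => ⟨1, fun u v => by rw [Units.val_one, one_mul]; exact hg u v⟩)
    (fun g hg hs => ?_) fun h hh => ?_
  · obtain ⟨c, hc⟩ := (Geo.mem_scalars_iff g).1 hs
    obtain ⟨i, j, hij⟩ : ∃ i j, M i j ≠ 0 := by
      by_contra! hall
      exact hM (Matrix.ext hall)
    have h1 := hg (Pi.single i 1) (Pi.single j 1)
    simp only [Units.coeHom_apply] at h1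
    rw [hc, Matrix.smul_mulVec, Matrix.smul_mulVec, Matrix.one_mulVec, Matrix.one_mulVec] at h1
    simp only [bf, Matrix.mulVec_smul, dotProduct_smul, smul_dotProduct, smul_eq_mul] at h1
    rw [show Pi.single i 1 ⬝ᵥ (M *ᵥ Pi.single j 1) = M i j from bf_single M i j] at h1
    have hc1 : (c : K) = 1 := sq_inj_char_two (mul_right_cancel₀ hij (by linear_combination h1))
    exact Units.ext (by rw [hc, hc1, one_smul, Units.val_one])
  · obtain ⟨c, hc⟩ := hh
    obtain ⟨t, ht⟩ := exists_sqrt_unit c⁻¹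
    refine ⟨t, fun u v => ?_⟩
    show bf M (((Matrix.GeneralLinearGroup.scalar ι t * h : GL ι K) : Matrix ι ι K) *ᵥ u)
      (((Matrix.GeneralLinearGroup.scalar ι t * h : GL ι K) : Matrix ι ι K) *ᵥ v) = bf M u v
    rw [Units.val_mul, ← Matrix.mulVec_mulVec, ← Matrix.mulVec_mulVec, scalar_mulVec, scalar_mulVec]
    simp only [bf, Matrix.mulVec_smul, dotProduct_smul, smul_dotProduct, smul_eq_mul]
    have h1 := hc u v
    simp only [bf] at h1
    rw [← mul_assoc, ht, h1, ← mul_assoc, Units.inv_mul, one_mul]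

theorem pgo_odd_char_two (m : ℕ) :
    Nonempty (PGO K (quadFormOdd m K) ≃* ↥(Matrix.symplecticGroup (Fin m) K)) := by
  have hQc : ∀ (c : K) v, quadFormOdd m K (c • v) = c * c * quadFormOdd m K v := fun c v => by
    rw [← qfOdd_apply, ← qfOdd_apply, QuadraticMap.map_smul, smul_eq_mul]
  have hI : ∀ g ∈ isometryGroup K (quadFormOdd m K), g ∈ Geo.scalars (Unit ⊕ (Fin m ⊕ Fin m)) K → g = 1 := by
    intro g hg hs
    obtain ⟨c, hc⟩ := (Geo.mem_scalars_iff g).1 hs
    have h1 := hg (Pi.single (Sum.inl ()) 1) 0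
    simp only [Units.coeHom_apply, hc, Matrix.smul_mulVec, Matrix.one_mulVec, hQc] at h1
    have hv : quadFormOdd m K (Pi.single (Sum.inl ()) 1) = 1 := by simp [quadFormOdd]
    rw [hv, mul_one] at h1
    have hc1 : (c : K) = 1 := sq_inj_char_two (by rw [h1, mul_one])
    exact Units.ext (by rw [hc, hc1, one_smul, Units.val_one])
  have hH : ∀ h ∈ Geo.quadSimilarityGroup (F := K) (quadFormOdd m K), ∃ c : Kˣ,
      Matrix.GeneralLinearGroup.scalar (Unit ⊕ (Fin m ⊕ Fin m)) c * h ∈ isometryGroup K (quadFormOdd m K) := by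
    intro h hh
    obtain ⟨c, hc⟩ := hh
    obtain ⟨t, ht⟩ := exists_sqrt_unit c⁻¹
    refine ⟨t, fun v _ => ?_⟩
    show quadFormOdd m K (((Matrix.GeneralLinearGroup.scalar _ t * h : GL _ K) : Matrix _ _ K) *ᵥ v) = quadFormOdd m K v
    rw [Units.val_mul, ← Matrix.mulVec_mulVec, scalar_mulVec, hQc, ht, hc, ← mul_assoc, Units.inv_mul, one_mul]
  obtain ⟨e⟩ := projQuot_of_split (Geo.quadSimilarityGroup (F := K) (quadFormOdd m K))
    (isometryGroup K (quadFormOdd m K)) (fun g hg => ⟨1, fun v => by rw [Units.val_one, one_mul]; exact hg v 0⟩) hI hH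
  obtain ⟨e'⟩ := Cfsg.Agent.S0304.result (F := K) m
  exact ⟨e.trans e'⟩

/-- The identity form in odd dimension. -/
theorem iso_odd_char_two (m : ℕ) :
    Nonempty (↥(iso (Matrix.fromBlocks (1 : Matrix Unit Unit K) 0 0 (Matrix.J (Fin m) K))) ≃*
      ↥(Matrix.symplecticGroup (Fin m) K)) := by
  set M := Matrix.fromBlocks (1 : Matrix Unit Unit K) 0 0 (Matrix.J (Fin m) K) with hMdef
  have hbf : ∀ u v, bf M u v = u (Sum.inl ()) * v (Sum.inl ()) + sympForm m K (u ∘ Sum.inr) (v ∘ Sum.inr) :=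
    fun u v => by
    simp [bf, M, Matrix.fromBlocks_mulVec, sympForm, dotProduct, Fintype.sum_sum_type]
  have hval : ∀ v : Unit ⊕ (Fin m ⊕ Fin m) → K, ∀ A : Matrix (Fin m ⊕ Fin m) (Fin m ⊕ Fin m) K,
      Matrix.fromBlocks (1 : Matrix Unit Unit K) 0 0 A *ᵥ v =
        Sum.elim (fun _ => v (Sum.inl ())) (A *ᵥ (v ∘ Sum.inr)) := fun v A => by
    rw [Matrix.fromBlocks_mulVec]
    simp
    rfl
  let f : Matrix.symplecticGroup (Fin m) K →* GL (Unit ⊕ (Fin m ⊕ Fin m)) K :=
    MonoidHom.mk' (fun A => ⟨Matrix.fromBlocks 1 0 0 (A : Matrix (Fin m ⊕ Fin m) (Fin m ⊕ Fin m) K),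
        Matrix.fromBlocks 1 0 0 ((A⁻¹ : Matrix.symplecticGroup (Fin m) K) : Matrix (Fin m ⊕ Fin m) (Fin m ⊕ Fin m) K),
        by rw [Matrix.fromBlocks_multiply]; simp [← Submonoid.coe_mul],
        by rw [Matrix.fromBlocks_multiply]; simp [← Submonoid.coe_mul]⟩)
      fun A A' => Units.ext (by
        show Matrix.fromBlocks (1 : Matrix Unit Unit K) 0 0
            (((A * A' : Matrix.symplecticGroup (Fin m) K)) : Matrix (Fin m ⊕ Fin m) (Fin m ⊕ Fin m) K) =
          Matrix.fromBlocks 1 0 0 (A : Matrix (Fin m ⊕ Fin m) (Fin m ⊕ Fin m) K) *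
            Matrix.fromBlocks 1 0 0 (A' : Matrix (Fin m ⊕ Fin m) (Fin m ⊕ Fin m) K)
        rw [Matrix.fromBlocks_multiply]; simp)
  have hfv : ∀ A, ((f A : GL (Unit ⊕ (Fin m ⊕ Fin m)) K) : Matrix (Unit ⊕ (Fin m ⊕ Fin m)) (Unit ⊕ (Fin m ⊕ Fin m)) K) =
      Matrix.fromBlocks (1 : Matrix Unit Unit K) 0 0 (A : Matrix (Fin m ⊕ Fin m) (Fin m ⊕ Fin m) K) := fun A => rfl
  let φ : Matrix.symplecticGroup (Fin m) K →* iso M := f.codRestrict _ fun A u v => by
    show bf M ((f A : Matrix (Unit ⊕ (Fin m ⊕ Fin m)) (Unit ⊕ (Fin m ⊕ Fin m)) K) *ᵥ u) ((f A : Matrix (Unit ⊕ (Fin m ⊕ Fin m)) (Unit ⊕ (Fin m ⊕ Fin m)) K) *ᵥ v) = bf M u v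
    rw [hfv, hval, hval, hbf, hbf]
    simp [Function.comp_def]
    exact sympForm_map A (u ∘ Sum.inr) (v ∘ Sum.inr)
  refine ⟨(MulEquiv.ofBijective φ ⟨fun A B h => Subtype.ext ?_, fun g => ?_⟩).symm⟩
  · have h1 : ((f A : GL (Unit ⊕ (Fin m ⊕ Fin m)) K) : Matrix (Unit ⊕ (Fin m ⊕ Fin m)) (Unit ⊕ (Fin m ⊕ Fin m)) K) = (f B : GL (Unit ⊕ (Fin m ⊕ Fin m)) K) :=
      congrArg (fun x : iso M => ((x : GL (Unit ⊕ (Fin m ⊕ Fin m)) K) : Matrix (Unit ⊕ (Fin m ⊕ Fin m)) (Unit ⊕ (Fin m ⊕ Fin m)) K)) h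
    rw [hfv, hfv] at h1
    exact (Matrix.fromBlocks_inj.1 h1).2.2.2
  · obtain ⟨g, hg⟩ := g
    change ∀ u v, bf M ((g : Matrix (Unit ⊕ (Fin m ⊕ Fin m)) (Unit ⊕ (Fin m ⊕ Fin m)) K) *ᵥ u) ((g : Matrix (Unit ⊕ (Fin m ⊕ Fin m)) (Unit ⊕ (Fin m ⊕ Fin m)) K) *ᵥ v) = bf M u v at hg
    have h0 : ∀ v, ((g : Matrix (Unit ⊕ (Fin m ⊕ Fin m)) (Unit ⊕ (Fin m ⊕ Fin m)) K) *ᵥ v) (Sum.inl ()) = v (Sum.inl ()) := fun v => by
      have h := hg v v
      rw [hbf, hbf, sympForm_self, sympForm_self, add_zero, add_zero] at h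
      exact sq_inj_char_two h
    have h1 : ∀ v, sympForm m K (((g : Matrix (Unit ⊕ (Fin m ⊕ Fin m)) (Unit ⊕ (Fin m ⊕ Fin m)) K) *ᵥ v) ∘ Sum.inr)
        (((g : Matrix (Unit ⊕ (Fin m ⊕ Fin m)) (Unit ⊕ (Fin m ⊕ Fin m)) K) *ᵥ Pi.single (Sum.inl ()) 1) ∘ Sum.inr) = 0 := fun v => by
      have h := hg v (Pi.single (Sum.inl ()) 1)
      rw [hbf, hbf, h0, h0] at h
      have hz : (Pi.single (Sum.inl ()) (1 : K) : Unit ⊕ (Fin m ⊕ Fin m) → K) ∘ Sum.inr = 0 := by
        funext x; simp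
      rw [add_left_cancel h, hz]
      simp [sympForm]
    have he : ((g : Matrix (Unit ⊕ (Fin m ⊕ Fin m)) (Unit ⊕ (Fin m ⊕ Fin m)) K) *ᵥ Pi.single (Sum.inl ()) 1) ∘ Sum.inr = 0 := by
      refine eq_zero_of_sympForm_eq_zero fun w => ?_
      have h := h1 (((g⁻¹ : GL (Unit ⊕ (Fin m ⊕ Fin m)) K) : Matrix (Unit ⊕ (Fin m ⊕ Fin m)) (Unit ⊕ (Fin m ⊕ Fin m)) K) *ᵥ Sum.elim 0 w)
      rw [Matrix.mulVec_mulVec, Units.mul_inv, Matrix.one_mulVec, Sum.elim_comp_inr] at h
      rw [sympForm_swap, h, neg_zero]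
    let A : Matrix (Fin m ⊕ Fin m) (Fin m ⊕ Fin m) K := (g : Matrix (Unit ⊕ (Fin m ⊕ Fin m)) (Unit ⊕ (Fin m ⊕ Fin m)) K).toBlocks₂₂
    have hgm : (g : Matrix (Unit ⊕ (Fin m ⊕ Fin m)) (Unit ⊕ (Fin m ⊕ Fin m)) K) = Matrix.fromBlocks (1 : Matrix Unit Unit K) 0 0 A := by
      ext i j
      rcases i with i | i <;> rcases j with j | j
      · have h := h0 (Pi.single (Sum.inl j) 1)
        rw [Matrix.mulVec_single_one] at h
        simpa using h
      · have h := h0 (Pi.single (Sum.inr j) 1)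
        rw [Matrix.mulVec_single_one] at h
        simpa using h
      · have h := congrFun he i
        rw [Function.comp_apply, Matrix.mulVec_single_one] at h
        simpa using h
      · simp [A, Matrix.toBlocks₂₂]
    have hA : A ∈ Matrix.symplecticGroup (Fin m) K := mem_symplecticGroup_iff_form.2 fun u v => by
      have h := hg (Sum.elim 0 u) (Sum.elim 0 v)
      rw [hgm, hval, hval, hbf, hbf] at h
      simpa [Function.comp_def] using h
    exact ⟨⟨A, hA⟩, Subtype.ext (Units.ext ((hfv ⟨A, hA⟩).trans hgm.symm))⟩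

/-- The identity form in even dimension is the centraliser of a transvection. -/
theorem iso_even_char_two {m : ℕ} (hm : 1 ≤ m) :
    ∃ t : ↥(Matrix.symplecticGroup (Fin m) K), IsTransvection (t : Matrix (Fin m ⊕ Fin m) (Fin m ⊕ Fin m) K) ∧
      Nonempty (↥(iso (1 : Matrix (Fin m ⊕ Fin m) (Fin m ⊕ Fin m) K)) ≃*
        ↥(Subgroup.centralizer ({t} : Set ↥(Matrix.symplecticGroup (Fin m) K)))) := by
  classical
  set X := Fin m ⊕ Fin m
  let e : X → K := fun _ => 1
  have hsq : ∀ v : X → K, v ⬝ᵥ v = (v ⬝ᵥ e) * (v ⬝ᵥ e) := fun v => by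
    simp only [dotProduct, e, mul_one]
    have key : ∀ s : Finset X, ∑ i ∈ s, v i * v i = (∑ i ∈ s, v i) * ∑ i ∈ s, v i := fun s => by
      induction s using Finset.induction with
      | empty => simp
      | insert a s ha ih =>
        rw [Finset.sum_insert ha, Finset.sum_insert ha, ih]
        linear_combination (-(v a) * ∑ i ∈ s, v i) * CharTwo.two_eq_zero (R := K)
    exact key _
  have hee : e ⬝ᵥ e = 0 := by simp [dotProduct, e, X, CharTwo.add_self_eq_zero]
  have he0 : e ≠ 0 := fun h => one_ne_zero (congrFun h (Sum.inl ⟨0, hm⟩) : (1 : K) = 0)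
  let B : LinearMap.BilinForm K (X → K) := Matrix.toBilin' (1 + Matrix.vecMulVec e e)
  have hB : ∀ u v, B u v = u ⬝ᵥ v + (u ⬝ᵥ e) * (v ⬝ᵥ e) := fun u v => by
    show Matrix.toBilin' _ u v = _
    rw [Matrix.toBilin'_apply', Matrix.add_mulVec, Matrix.one_mulVec, dotProduct_add, Matrix.vecMulVec_mulVec,
      dotProduct_smul]
    show _ + MulOpposite.op (e ⬝ᵥ v) • (u ⬝ᵥ e) = _
    rw [op_smul_eq_mul, dotProduct_comm e v]
  have hBe : ∀ v, B v e = v ⬝ᵥ e := fun v => by rw [hB, hee, mul_zero, add_zero]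
  obtain ⟨L, hL⟩ := exists_symp_coords B (fun v => by rw [hB, hsq, CharTwo.add_self_eq_zero])
    (fun x hx => by
      have h1 : ∀ v, x ⬝ᵥ v + (x ⬝ᵥ e) * (v ⬝ᵥ e) = 0 := fun v => by rw [← hB]; exact hx v
      have hxe : x ⬝ᵥ e = 0 := by simpa [hee] using h1 e
      funext i
      simpa [hxe] using h1 (Pi.single i 1))
    (by rw [Module.finrank_fintype_fun_eq_card, Fintype.card_sum, Fintype.card_fin, two_mul] :
      Module.finrank K (X → K) = 2 * m)
  let e' : X → K := L.symm e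
  have he' : ∀ v, sympForm m K v e' = L v ⬝ᵥ e := fun v => by
    rw [← hL, LinearEquiv.apply_symm_apply, hBe]
  let t : ↥(Matrix.symplecticGroup (Fin m) K) :=
    ⟨sympTransvection m e' 1, mem_symplecticGroup_iff_form.2 fun u v => by
      have hx : ∀ x, L (sympTransvection m e' 1 *ᵥ x) = L x + (L x ⬝ᵥ e) • e := fun x => by
        rw [sympTransvection_mulVec, one_mul, he', map_add, map_smul, LinearEquiv.apply_symm_apply]
      rw [← hL, ← hL, hx, hx, hB, hB]
      simp only [add_dotProduct, dotProduct_add, smul_dotProduct, dotProduct_smul, smul_eq_mul, hee,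
        dotProduct_comm e (L v)]
      linear_combination ((L u ⬝ᵥ e) * (L v ⬝ᵥ e)) * CharTwo.two_eq_zero (R := K)⟩
  have ht : ∀ v, (t : Matrix X X K) *ᵥ v = v + sympForm m K v e' • e' := fun v => by
    show sympTransvection m e' 1 *ᵥ v = _
    rw [sympTransvection_mulVec, one_mul]
  have he'0 : e' ≠ 0 := fun h => he0 (L.symm.injective (h.trans (map_zero _).symm))
  have hta : ∀ v, ((t : Matrix X X K) - 1) *ᵥ v = sympForm m K v e' • e' := fun v => by
    rw [Matrix.sub_mulVec, Matrix.one_mulVec, ht, add_sub_cancel_left]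
  obtain ⟨w, hw⟩ : ∃ w, sympForm m K w e' ≠ 0 := by
    by_contra! hall
    exact he'0 (eq_zero_of_sympForm_eq_zero fun w => by rw [sympForm_swap, hall, neg_zero])
  refine ⟨t, ⟨?_, ?_⟩, ?_⟩
  · rw [Matrix.rank, show LinearMap.range ((t : Matrix X X K) - 1).mulVecLin = Submodule.span K {e'} from ?_,
      finrank_span_singleton he'0]
    ext z
    rw [LinearMap.mem_range, Submodule.mem_span_singleton]
    constructor
    · rintro ⟨v, rfl⟩
      exact ⟨_, (hta v).symm⟩
    · rintro ⟨c, rfl⟩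
      refine ⟨(c / sympForm m K w e') • w, ?_⟩
      rw [Matrix.mulVecLin_apply, Matrix.mulVec_smul, hta, smul_smul, div_mul_cancel₀ _ hw]
  · refine Matrix.ext_iff_mulVec.2 fun v => ?_
    rw [← Matrix.mulVec_mulVec, hta, hta, sympForm_smul_left, sympForm_self, mul_zero, zero_smul, Matrix.zero_mulVec]
  have key : ∀ g : GL X K, g ∈ iso (1 : Matrix X X K) ↔
      (∀ u v, sympForm m K (L.symm ((g : Matrix X X K) *ᵥ L u)) (L.symm ((g : Matrix X X K) *ᵥ L v)) =
        sympForm m K u v) ∧ L.symm ((g : Matrix X X K) *ᵥ L e') = e' := fun g => by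
    have hee' : L e' = e := L.apply_symm_apply e
    simp only [mem_iso, bf, Matrix.one_mulVec, ← hL, LinearEquiv.apply_symm_apply, hee']
    constructor
    · intro hg
      have hge : ∀ v, ((g : Matrix X X K) *ᵥ v) ⬝ᵥ e = v ⬝ᵥ e := fun v => by
        refine sq_inj_char_two ?_
        rw [← hsq, ← hsq, hg]
      have hfix : (g : Matrix X X K) *ᵥ e = e := by
        refine funext fun i => ?_
        have h1 := hge (((g⁻¹ : GL X K) : Matrix X X K) *ᵥ Pi.single i 1)
        rw [← hg (((g⁻¹ : GL X K) : Matrix X X K) *ᵥ Pi.single i 1) e, Matrix.mulVec_mulVec _ (g : Matrix X X K) (((g⁻¹ : GL X K) : Matrix X X K)), Units.mul_inv, Matrix.one_mulVec, single_dotProduct, single_dotProduct,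
          one_mul, one_mul] at h1
        exact h1.symm
      refine ⟨fun u v => ?_, by rw [hfix]⟩
      rw [hB, hB, hg, hge, hge]
    · rintro ⟨hg, hfix⟩
      have hfix' : (g : Matrix X X K) *ᵥ e = e := L.symm.injective hfix
      intro u v
      obtain ⟨u, rfl⟩ := L.surjective u
      obtain ⟨v, rfl⟩ := L.surjective v
      have hge : ∀ x, ((g : Matrix X X K) *ᵥ L x) ⬝ᵥ e = L x ⬝ᵥ e := fun x => by
        have h1 := hg x e'
        rw [hee', hfix', hB, hB, hee, mul_zero, add_zero, mul_zero, add_zero] at h1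
        exact h1
      have h1 := hg u v
      rw [hB, hB, hge, hge] at h1
      exact add_right_cancel h1
  have hcent : ∀ s : ↥(Matrix.symplecticGroup (Fin m) K),
      s ∈ Subgroup.centralizer ({t} : Set ↥(Matrix.symplecticGroup (Fin m) K)) ↔ (s : Matrix X X K) *ᵥ e' = e' :=
    fun s => by
    rw [Subgroup.mem_centralizer_singleton_iff, Subtype.ext_iff, Submonoid.coe_mul, Submonoid.coe_mul]
    constructor
    · intro h
      have hev : ∀ v, sympForm m K v e' • ((s : Matrix X X K) *ᵥ e') =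
          sympForm m K v ((s : Matrix X X K) *ᵥ e') • ((s : Matrix X X K) *ᵥ e') → True := fun _ _ => trivial
      have hv : ∀ v, sympForm m K v e' • ((s : Matrix X X K) *ᵥ e') =
          sympForm m K ((s : Matrix X X K) *ᵥ v) e' • e' := fun v => by
        have h1 := congrArg (fun M : Matrix X X K => M *ᵥ v) h
        simp only [← Matrix.mulVec_mulVec, ht, Matrix.mulVec_add, Matrix.mulVec_smul, add_right_inj] at h1
        exact h1
      obtain ⟨c, hc⟩ : ∃ c, (s : Matrix X X K) *ᵥ e' = c • e' :=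
        ⟨sympForm m K ((s : Matrix X X K) *ᵥ w) e' / sympForm m K w e', by
          rw [div_eq_inv_mul, ← smul_smul, ← hv, smul_smul, inv_mul_cancel₀ hw, one_smul]⟩
      have h3 := hv w
      rw [hc, smul_smul] at h3
      have h4 : sympForm m K ((s : Matrix X X K) *ᵥ w) e' * c = sympForm m K w e' := by
        rw [← sympForm_map s w e', hc, sympForm_smul_right, mul_comm]
      have h5 : sympForm m K w e' * c = sympForm m K ((s : Matrix X X K) *ᵥ w) e' := smul_left_injective K he'0 h3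
      have hc1 : c = 1 := sq_inj_char_two (mul_left_cancel₀ hw (by rw [← mul_assoc, h5, h4, mul_one, mul_one]))
      rw [hc, hc1, one_smul]
    · intro h
      refine Matrix.ext_iff_mulVec.2 fun v => ?_
      have h1 : sympForm m K ((s : Matrix X X K) *ᵥ v) e' = sympForm m K v e' := by
        conv_lhs => rw [← h, sympForm_map]
      rw [← Matrix.mulVec_mulVec, ← Matrix.mulVec_mulVec, ht, ht, Matrix.mulVec_add, Matrix.mulVec_smul, h, h1]
  let φ : ↥(iso (1 : Matrix X X K)) →*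
      ↥(Subgroup.centralizer ({t} : Set ↥(Matrix.symplecticGroup (Fin m) K))) :=
    MonoidHom.mk' (fun g => ⟨⟨((glCongr L g.1 : GL X K) : Matrix X X K), mem_symplecticGroup_iff_form.2 fun u v => by
      rw [glCongr_mulVec, glCongr_mulVec]; exact ((key g.1).1 g.2).1 u v⟩, (hcent _).2 (by
      show ((glCongr L g.1 : GL X K) : Matrix X X K) *ᵥ e' = e'
      rw [glCongr_mulVec]; exact ((key g.1).1 g.2).2)⟩)
      fun g g' => Subtype.ext (Subtype.ext (by
        show ((glCongr L (g.1 * g'.1) : GL X K) : Matrix X X K) = _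
        rw [map_mul, Units.val_mul]; rfl))
  refine ⟨MulEquiv.ofBijective φ ⟨fun g g' h => Subtype.ext ((glCongr L).injective (Units.ext ?_)), fun s => ?_⟩⟩
  · exact congrArg (fun x : ↥(Subgroup.centralizer ({t} : Set ↥(Matrix.symplecticGroup (Fin m) K))) =>
      ((x : ↥(Matrix.symplecticGroup (Fin m) K)) : Matrix X X K)) h
  · let u : GL X K := ⟨(s.1 : Matrix X X K), ((s.1⁻¹ : ↥(Matrix.symplecticGroup (Fin m) K)) : Matrix X X K),
      by rw [← Submonoid.coe_mul, mul_inv_cancel, OneMemClass.coe_one],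
      by rw [← Submonoid.coe_mul, inv_mul_cancel, OneMemClass.coe_one]⟩
    obtain ⟨g, hg⟩ := (glCongr L).surjective u
    refine ⟨⟨g, (key g).2 ⟨fun a b => ?_, ?_⟩⟩, Subtype.ext (Subtype.ext ?_)⟩
    · rw [← glCongr_mulVec, ← glCongr_mulVec, hg]
      exact sympForm_map s.1 a b
    · rw [← glCongr_mulVec, hg]
      exact (hcent _).1 s.2
    · show ((glCongr L g : GL X K) : Matrix X X K) = _
      rw [hg]

end CharTwo

/-! ### Determinants -/

theorem det_glCongr (L : (κ → K) ≃ₗ[K] (ι → K)) (g : GL ι K) :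
    ((glCongr L g : GL κ K) : Matrix κ κ K).det = (g : Matrix ι ι K).det := by
  have h : Matrix.toLin' ((glCongr L g : GL κ K) : Matrix κ κ K) =
      (L.symm : (ι → K) →ₗ[K] (κ → K)) ∘ₗ Matrix.toLin' (g : Matrix ι ι K) ∘ₗ (L : (κ → K) →ₗ[K] (ι → K)) :=
    LinearMap.ext fun v => by
      rw [Matrix.toLin'_apply, glCongr_mulVec]
      simp [Matrix.toLin'_apply]
  have h1 := congrArg LinearMap.det h
  rw [LinearMap.det_toLin'] at h1
  rw [h1, ← LinearMap.det_toLin' (g : Matrix ι ι K)]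
  exact LinearMap.det_conj _ L.symm

theorem Similar.transport {M : Matrix ι ι K} {M' : Matrix κ κ K} (h : Similar M M') :
    ∃ e : GL ι K ≃* GL κ K, (∀ g : GL ι K, (e g : Matrix κ κ K).det = (g : Matrix ι ι K).det) ∧
      ∀ (g : GL ι K) (c : K), (g : Matrix ι ι K)ᵀ * M * (g : Matrix ι ι K) = c • M ↔
        (e g : Matrix κ κ K)ᵀ * M' * (e g : Matrix κ κ K) = c • M' := by
  obtain ⟨L, d, hd, hL⟩ := h
  refine ⟨glCongr L, det_glCongr L, fun g c => ?_⟩
  constructor
  · intro hg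
    refine eq_of_bf fun u v => mul_left_cancel₀ hd ?_
    rw [bf_congr, bf_smul, ← hL, glCongr_mulVec, glCongr_mulVec, LinearEquiv.apply_symm_apply,
      LinearEquiv.apply_symm_apply, ← bf_congr, hg, bf_smul, hL, mul_left_comm]
  · intro hg
    refine eq_of_bf fun u v => ?_
    obtain ⟨x, rfl⟩ := L.surjective u
    obtain ⟨y, rfl⟩ := L.surjective v
    have h1 := congrArg (fun M => d * bf M x y) hg
    simp only [bf_congr, bf_smul] at h1
    rw [← hL, glCongr_mulVec, glCongr_mulVec, LinearEquiv.apply_symm_apply, LinearEquiv.apply_symm_apply,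
      mul_left_comm, ← hL] at h1
    rw [bf_congr, bf_smul]
    exact h1

theorem J_diag (m : ℕ) (c : K) :
    (Matrix.fromBlocks (c • 1 : Matrix (Fin m) (Fin m) K) 0 0 (1 : Matrix (Fin m) (Fin m) K))ᵀ * Matrix.J (Fin m) K *
      Matrix.fromBlocks (c • 1 : Matrix (Fin m) (Fin m) K) 0 0 (1 : Matrix (Fin m) (Fin m) K) =
      c • Matrix.J (Fin m) K := by
  simp [Matrix.J, Matrix.fromBlocks_transpose, Matrix.fromBlocks_multiply, Matrix.fromBlocks_smul]

theorem det_diagBlock (m : ℕ) (c : K) :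
    (Matrix.fromBlocks (c • 1 : Matrix (Fin m) (Fin m) K) 0 0 (1 : Matrix (Fin m) (Fin m) K)).det = c ^ m := by
  rw [Matrix.det_fromBlocks_zero₂₁, Matrix.det_one, mul_one, Matrix.det_smul, Matrix.det_one, mul_one, Fintype.card_fin]

/-- Determinants in the alternating case. -/
theorem alt_det {m : ℕ} {M : Matrix ι ι K} (h : Similar M (Matrix.J (Fin m) K)) :
    (∀ (g : GL ι K) (c : Kˣ), (g : Matrix ι ι K)ᵀ * M * (g : Matrix ι ι K) = (c : K) • M →
      (g : Matrix ι ι K).det = (c : K) ^ m) ∧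
    ∀ c : Kˣ, ∃ g : GL ι K, (g : Matrix ι ι K)ᵀ * M * (g : Matrix ι ι K) = (c : K) • M := by
  obtain ⟨e, hdet, he⟩ := h.transport
  refine ⟨fun g c hg => ?_, fun c => ?_⟩
  · rw [← hdet]
    set A := ((e g : GL (Fin m ⊕ Fin m) K) : Matrix (Fin m ⊕ Fin m) (Fin m ⊕ Fin m) K) *
      Matrix.fromBlocks (((c⁻¹ : Kˣ) : K) • 1 : Matrix (Fin m) (Fin m) K) 0 0 (1 : Matrix (Fin m) (Fin m) K) with hA
    have hmem : A ∈ Matrix.symplecticGroup (Fin m) K := by
      rw [SymplecticGroup.mem_iff', hA, Matrix.transpose_mul,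
        show ∀ (D E : Matrix (Fin m ⊕ Fin m) (Fin m ⊕ Fin m) K), Dᵀ * Eᵀ * Matrix.J (Fin m) K * (E * D) =
          Dᵀ * (Eᵀ * Matrix.J (Fin m) K * E) * D from fun D E => by simp only [Matrix.mul_assoc],
        (he g c).1 hg, Matrix.mul_smul, Matrix.smul_mul, J_diag, smul_smul, Units.mul_inv, one_smul]
    have h1 := SymplecticGroup.det_eq_one hmem
    rw [hA, Matrix.det_mul, det_diagBlock] at h1
    calc ((e g : GL (Fin m ⊕ Fin m) K) : Matrix (Fin m ⊕ Fin m) (Fin m ⊕ Fin m) K).det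
        = ((e g : GL (Fin m ⊕ Fin m) K) : Matrix (Fin m ⊕ Fin m) (Fin m ⊕ Fin m) K).det * ((c⁻¹ : Kˣ) : K) ^ m * (c : K) ^ m := by
          rw [mul_assoc, ← mul_pow, Units.inv_mul, one_pow, mul_one]
      _ = _ := by rw [h1, one_mul]
  · have hu : IsUnit (Matrix.fromBlocks ((c : K) • 1 : Matrix (Fin m) (Fin m) K) 0 0 (1 : Matrix (Fin m) (Fin m) K)).det := by
      refine Eq.mpr (congrArg IsUnit (det_diagBlock m (c : K))) ?_
      exact c.isUnit.pow m
    obtain ⟨D, hD⟩ := (Matrix.isUnit_iff_isUnit_det _).2 hu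
    obtain ⟨g, hg⟩ := e.surjective D
    refine ⟨g, (he g (c : K)).2 ?_⟩
    rw [hg, hD]
    exact J_diag m (c : K)

/-- An isometry of determinant `-1`. -/
theorem exists_reflection [Fintype K] (h2 : (2 : K) ≠ 0) {M : Matrix ι ι K} (hne : Nonempty ι) (hdet : M.det ≠ 0)
    (hM : Mᵀ = M) : ∃ g : GL ι K, (g : Matrix ι ι K)ᵀ * M * (g : Matrix ι ι K) = M ∧
      (g : Matrix ι ι K).det = -1 := by
  classical
  obtain ⟨i₀⟩ := hne
  let D : Matrix ι ι K := Matrix.diagonal (Function.update 1 i₀ M.det)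
  let R : Matrix ι ι K := Matrix.diagonal (Function.update 1 i₀ (-1))
  have hD : D.det = M.det := by
    rw [Matrix.det_diagonal, Finset.prod_update_of_mem (Finset.mem_univ i₀)]; simp
  have hR : R.det = -1 := by
    rw [Matrix.det_diagonal, Finset.prod_update_of_mem (Finset.mem_univ i₀)]; simp
  obtain ⟨e, hed, he⟩ := (similar_of_det h2 hM (Matrix.diagonal_transpose _) hdet (M' := D) (hD ▸ hdet) rfl
    ⟨M.det, by rw [hD]⟩).transport
  obtain ⟨g, hg⟩ := e.surjective (Matrix.GeneralLinearGroup.mk'' R (by rw [hR]; exact isUnit_one.neg))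
  refine ⟨g, ?_, by rw [← hed, hg]; exact hR⟩
  rw [← one_smul K M]
  have hRR : Rᵀ * D * R = (1 : K) • D := by
    rw [one_smul, Matrix.diagonal_transpose, Matrix.diagonal_mul_diagonal, Matrix.diagonal_mul_diagonal]
    congr 1
    funext i
    by_cases hi : i = i₀
    · subst hi; simp
    · simp [hi]
  have h1 := (he g 1).2 (by rw [hg]; exact hRR)
  simpa using h1

/-! ### Orders -/

variable [Fintype K]

theorem natCard_sim {M : Matrix ι ι K} (hM : M ≠ 0) :
    ∃ d, d ∣ Fintype.card K - 1 ∧ Nat.card (sim M) = d * Nat.card (iso M) := by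
  classical
  choose μ hμ using fun g : sim M => mem_sim.1 g.2
  have uniq : ∀ {a b : Kˣ}, (a : K) • M = (b : K) • M → a = b := fun h => Units.ext (smul_left_injective K hM h)
  let f : sim M →* Kˣ := MonoidHom.mk' μ fun g g' => uniq (by
    rw [← hμ, Subgroup.coe_mul, Units.val_mul, Matrix.transpose_mul,
      show ((g'.1 : Matrix ι ι K))ᵀ * (g.1 : Matrix ι ι K)ᵀ * M * ((g.1 : Matrix ι ι K) * (g'.1 : Matrix ι ι K)) =
        ((g'.1 : Matrix ι ι K))ᵀ * ((g.1 : Matrix ι ι K)ᵀ * M * (g.1 : Matrix ι ι K)) * (g'.1 : Matrix ι ι K) by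
        simp only [Matrix.mul_assoc],
      hμ, Matrix.mul_smul, Matrix.smul_mul, hμ, smul_smul, Units.val_mul])
  refine ⟨Nat.card f.range, ?_, ?_⟩
  · rw [← Fintype.card_units, ← Nat.card_eq_fintype_card]
    exact Subgroup.card_subgroup_dvd_card _
  rw [← Subgroup.index_ker, show Nat.card (iso M) = Nat.card f.ker from Nat.card_congr
    { toFun := fun g => ⟨⟨g.1, 1, fun u v => by rw [Units.val_one, one_mul]; exact g.2 u v⟩,
        MonoidHom.mem_ker.2 (uniq ((hμ _).symm.trans (eq_of_bf fun u v => by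
          rw [bf_congr, bf_smul]; exact (g.2 u v).trans (one_mul _).symm)))⟩
      invFun := fun g => ⟨g.1.1, fun u v => by
        simp only [Units.coeHom_apply]
        rw [← bf_congr, hμ g.1, show μ g.1 = 1 from g.2, Units.val_one, one_smul]⟩
      left_inv := fun g => rfl
      right_inv := fun g => rfl }, Subgroup.index_mul_card]

theorem pgsp_p_part {m : ℕ} (hm : 1 ≤ m) (h2 : (2 : K) ≠ 0) :
    Fintype.card K ^ (m ^ 2) ∣ Nat.card (PGSp m K) := by
  have hodd : ¬ 2 ∣ Fintype.card K := fun h => by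
    have := FiniteField.odd_card_of_char_ne_two (F := K) fun hc => h2 (by
      exact_mod_cast (ringChar.spec K 2).2 (by rw [hc]))
    omega
  let g : Matrix.symplecticGroup (Fin m) K →* GSp m K :=
    { toFun := fun A => ⟨⟨(A : Matrix _ _ K), ((A⁻¹ : Matrix.symplecticGroup (Fin m) K) : Matrix _ _ K),
          by rw [← Submonoid.coe_mul, mul_inv_cancel, OneMemClass.coe_one],
          by rw [← Submonoid.coe_mul, inv_mul_cancel, OneMemClass.coe_one]⟩,
        1, fun u v => by rw [Units.val_one, one_mul]; exact sympForm_map A u v⟩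
      map_one' := Subtype.ext (Units.ext rfl)
      map_mul' := fun A B => Subtype.ext (Units.ext rfl) }
  let f : Matrix.symplecticGroup (Fin m) K →* PGSp m K := (QuotientGroup.mk' _).comp g
  have hk : Nat.card f.ker ≤ 2 := by
    classical
    have key : ∀ A : f.ker, (A.1 : Matrix (Fin m ⊕ Fin m) (Fin m ⊕ Fin m) K) = 1 ∨
        (A.1 : Matrix (Fin m ⊕ Fin m) (Fin m ⊕ Fin m) K) = -1 := fun A => by
      obtain ⟨c, hc⟩ := (Geo.mem_scalars_iff _).1 (Subgroup.mem_subgroupOf.1 ((QuotientGroup.eq_one_iff _).1 A.2))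
      change (A.1 : Matrix (Fin m ⊕ Fin m) (Fin m ⊕ Fin m) K) = (c : K) • 1 at hc
      have h := sympForm_map A.1 (Pi.single (Sum.inl ⟨0, hm⟩) 1) (Pi.single (Sum.inr ⟨0, hm⟩) 1)
      rw [hc, Matrix.smul_mulVec, Matrix.smul_mulVec, Matrix.one_mulVec, Matrix.one_mulVec, sympForm_smul_left,
        sympForm_smul_right, ← mul_assoc] at h
      have hne : sympForm m K (Pi.single (Sum.inl ⟨0, hm⟩) 1) (Pi.single (Sum.inr ⟨0, hm⟩) 1) ≠ 0 := by
        simp [sympForm, Matrix.J, Matrix.mulVec_single_one, single_dotProduct]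
      rcases mul_self_eq_one_iff.1 ((mul_eq_right₀ hne).1 h) with h1 | h1 <;> rw [hc, h1] <;> simp
    refine (Nat.card_le_card_of_injective
      (fun A : f.ker => decide ((A.1 : Matrix (Fin m ⊕ Fin m) (Fin m ⊕ Fin m) K) = 1)) fun A A' h => ?_).trans
      (by simp)
    refine Subtype.ext (Subtype.ext ?_)
    rcases key A with h1 | h1 <;> rcases key A' with h3 | h3
    · rw [h1, h3]
    · simp only [h1, h3, decide_true, true_eq_decide_iff] at h
      rw [h1, h3, h]
    · simp only [h1, h3, decide_true, decide_eq_true_iff] at h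
      rw [h1, h3, h]
    · rw [h1, h3]
  have h1 : Nat.card f.ker * Nat.card f.range = Fintype.card K ^ (m ^ 2) *
      ∏ i ∈ Finset.range m, (Fintype.card K ^ (2 * (i + 1)) - 1) := by
    rw [← Cfsg.Agent.S0245.result (F := K) rfl m, ← Subgroup.index_ker, Subgroup.card_mul_index]
  refine dvd_trans ?_ (Subgroup.card_subgroup_dvd_card f.range)
  refine (Nat.Coprime.pow_left _ ?_).dvd_of_dvd_mul_left (Dvd.intro _ h1.symm)
  rw [Nat.coprime_comm]
  have hpos : 0 < Nat.card f.ker := Nat.card_pos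
  interval_cases Nat.card f.ker
  · exact Nat.coprime_one_left _
  · exact (Nat.prime_two.coprime_iff_not_dvd).2 hodd

theorem not_pgsp (h2 : (2 : K) ≠ 0) {k : ℕ} {M : Matrix ι ι K} (hι : Fintype.card ι = 2 * (k + 1))
    (hdet : M.det ≠ 0) (hM : Mᵀ = M) : ¬ Nonempty (projQuot (sim M) ≃* PGSp (k + 1) K) := by
  rintro ⟨e⟩
  haveI : Nonempty ι := Fintype.card_pos_iff.1 (by omega)
  obtain ⟨a, b, hab⟩ := exists_minus h2 (K := K)
  have hne : ∀ {α : Type} [Fintype α] [DecidableEq α] [Nonempty α] {S : Matrix α α K}, S.det ≠ 0 → S ≠ 0 :=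
    fun {α} _ _ _ {S} h h0 => h (by rw [h0, Matrix.det_zero])
  -- the order of the isometry group of a model
  obtain ⟨κ, _, _, _, S, hS, hSim, hord⟩ : ∃ (κ : Type) (_ : Fintype κ) (_ : DecidableEq κ) (_ : Nonempty κ)
      (S : Matrix κ κ K), S.det ≠ 0 ∧ Similar M S ∧ ∃ P, Nat.Coprime (Fintype.card K) P ∧
        Nat.card (iso S) = Fintype.card K ^ ((k + 1) * k) * P := by
    have hcop : ∀ j, Nat.Coprime (Fintype.card K) (Fintype.card K ^ (2 * (j + 1)) - 1) := fun j => by
      refine Nat.Coprime.coprime_dvd_left (dvd_pow_self _ (by omega : 2 * (j + 1) ≠ 0)) ?_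
      rw [Nat.coprime_self_sub_right (Nat.one_le_pow _ _ Fintype.card_pos)]
      exact Nat.coprime_one_right _
    have hodd : ¬ 2 ∣ Fintype.card K := fun h => by
      have := FiniteField.odd_card_of_char_ne_two (F := K) fun hc => h2 (by
        exact_mod_cast (ringChar.spec K 2).2 (by rw [hc]))
      omega
    have hiso : ∀ {α : Type} [Fintype α] [DecidableEq α] (Q : QuadraticForm K (α → K)),
        iso (pMat Q) = isometryGroup K ⇑Q := by
      intro α _ _ Q
      ext g
      constructor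
      · intro hg v _
        have h := hg v v
        simp only [Units.coeHom_apply] at h
        rw [bf_pMat, bf_pMat, ← QuadraticMap.polarBilin_apply_apply, ← QuadraticMap.polarBilin_apply_apply,
          polarBilin_self, polarBilin_self] at h
        exact mul_left_cancel₀ h2 h
      · intro hg u v
        have hQ : ∀ v, Q ((g : Matrix α α K) *ᵥ v) = Q v := fun v => hg v 0
        show bf (pMat Q) ((g : Matrix α α K) *ᵥ u) ((g : Matrix α α K) *ᵥ v) = bf (pMat Q) u v
        rw [bf_pMat, bf_pMat, QuadraticMap.polar, QuadraticMap.polar, ← Matrix.mulVec_add, hQ, hQ, hQ]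
    rcases classify_odd h2 k hab M hι hdet (Or.inl hM) with h | h | h
    · exact absurd h (J_not_symm h2 (by omega) hdet hM)
    · haveI : Nonempty (Fin (k + 1) ⊕ Fin (k + 1)) := ⟨Sum.inl 0⟩
      refine ⟨_, inferInstance, inferInstance, inferInstance, _, det_pMat_ne_zero (nondegenerate_qfPlus _), h,
        2 * (Fintype.card K ^ (k + 1) - 1) * ∏ i ∈ Finset.range k, (Fintype.card K ^ (2 * (i + 1)) - 1), ?_, ?_⟩
      · refine Nat.Coprime.mul_right (Nat.Coprime.mul_right ?_ ?_) (Nat.Coprime.prod_right fun i _ => hcop i)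
        · exact Nat.coprime_comm.1 (Nat.prime_two.coprime_iff_not_dvd.2 hodd)
        · refine Nat.Coprime.coprime_dvd_left (dvd_pow_self _ (Nat.succ_ne_zero k)) ?_
          rw [Nat.coprime_self_sub_right (Nat.one_le_pow _ _ Fintype.card_pos)]
          exact Nat.coprime_one_right _
      · rw [hiso, coe_qfPlus, Cfsg.Agent.S0287.result rfl (k + 1) (by omega), Nat.add_sub_cancel]
        ring
    · haveI : Nonempty ((Fin k ⊕ Fin k) ⊕ Fin 2) := ⟨Sum.inr 0⟩
      refine ⟨_, inferInstance, inferInstance, inferInstance, _, det_pMat_ne_zero (nondegenerate_qfMinus k hab), h,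
        2 * (Fintype.card K ^ (k + 1) + 1) * ∏ i ∈ Finset.range k, (Fintype.card K ^ (2 * (i + 1)) - 1), ?_, ?_⟩
      · refine Nat.Coprime.mul_right (Nat.Coprime.mul_right ?_ ?_) (Nat.Coprime.prod_right fun i _ => hcop i)
        · exact Nat.coprime_comm.1 (Nat.prime_two.coprime_iff_not_dvd.2 hodd)
        · refine Nat.Coprime.coprime_dvd_left (dvd_pow_self _ (Nat.succ_ne_zero k)) ?_
          rw [Nat.coprime_self_add_right]
          exact Nat.coprime_one_right _
      · have h3 := Cfsg.Agent.S0288.result (F := K) rfl (k + 1) (by omega) a b hab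
        rw [Nat.add_sub_cancel] at h3
        rw [hiso, coe_qfMinus, h3]
        ring
  obtain ⟨P, hP, hordP⟩ := hord
  obtain ⟨e'⟩ := psim_congr hSim
  have h1 : Fintype.card K ^ ((k + 1) ^ 2) ∣ Nat.card (sim S) :=
    (pgsp_p_part (by omega) h2).trans (by
      rw [← Nat.card_congr (e'.symm.trans e).toEquiv]
      exact Subgroup.card_quotient_dvd_card _)
  obtain ⟨d, hd, hcard⟩ := natCard_sim (hne hS)
  rw [hcard, hordP, show (k + 1) ^ 2 = (k + 1) * k + (k + 1) by ring, pow_add, mul_left_comm] at h1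
  have h3 := Nat.dvd_of_mul_dvd_mul_left (Nat.pow_pos Fintype.card_pos) h1
  have h4 : Nat.Coprime (Fintype.card K ^ (k + 1)) (d * P) := by
    refine Nat.Coprime.pow_left _ (Nat.Coprime.mul_right (Nat.Coprime.coprime_dvd_right hd ?_) hP)
    rw [Nat.coprime_self_sub_right Fintype.card_pos]
    exact Nat.coprime_one_right _
  have h5 := Nat.eq_one_of_dvd_coprimes h4 dvd_rfl h3
  exact (Nat.one_lt_pow (Nat.succ_ne_zero k) Fintype.one_lt_card).ne' h5

end Cfsg.Agent.Classical.FormSim
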