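import Cfsg.Agent.Lib.Classical.LinFour.UnitGen
import Cfsg.Agent.Lib.Classical.MaxUnitary
import Cfsg.Agent.Lib.Classical.MaxRational

/-!
Symplectic subgroups are maximal in special unitary groups.
-/

set_option autoImplicit false
set_option linter.unusedSectionVars false

namespace Cfsg.Agent.Classical.MaxTv

open Matrix Module

variable {F : Type*} [Field F] {ι : Type} [Fintype ι] [DecidableEq ι]

local notation "V" => (ι → F)
local notation "Mn" => Matrix ι ι F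

/-- The form is alternating on the rational vectors, up to a scalar. -/
structure SympRat (σ : F ≃+* F) (f : (ι → F) → (ι → F) → F) (F₀ : Subfield F) (ζ : F) (P : GL ι F) : Prop where
  herm : Herm σ f
  ne_zero : ζ ≠ 0
  rat : ∀ x y, Rat F₀ P x → Rat F₀ P y → ζ * f x y ∈ F₀
  alt : ∀ x, Rat F₀ P x → f x x = 0

variable {σ : F ≃+* F} {f : (ι → F) → (ι → F) → F} {F₀ : Subfield F} {ζ : F} {P : GL ι F}

namespace SympRat

variable (hd : SympRat σ f F₀ ζ P)
include hd

theorem skew {x y : V} (hx : Rat F₀ P x) (hy : Rat F₀ P y) : f y x = -f x y := by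
  have hs := hd.herm
  have := hd.alt _ (hx.add hy)
  rw [hs.add_left, hs.add_right, hs.add_right, hd.alt x hx, hd.alt y hy, zero_add, add_zero] at this
  exact eq_neg_of_add_eq_zero_right this

theorem skew' {x y : V} (hx : Rat F₀ P x) (hy : Rat F₀ P y) : f x y + σ (f x y) = 0 := by
  rw [← hd.herm.herm, hd.skew hx hy, add_neg_cancel]

theorem exists_partner {r : V} (hr : Rat F₀ P r) (hr0 : r ≠ 0) : ∃ s, Rat F₀ P s ∧ ζ * f r s = 1 := by
  have hs := hd.herm
  obtain ⟨u, hu, hne⟩ : ∃ u, Rat F₀ P u ∧ f u r ≠ 0 := by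
    by_contra hc
    push Not at hc
    refine hr0 (hs.eq_zero _ fun x => ?_)
    show hs.toSesq.lin r x = 0
    rw [eq_sum_rat P x, map_sum]
    refine Finset.sum_eq_zero fun i _ => ?_
    rw [map_smul, Sesq.lin_apply, hc _ (rat_single i), smul_zero]
  have hne' : f r u ≠ 0 := fun e => hne (hs.refl _ _ e)
  have hmem := inv_mem (hd.rat r u hr hu)
  refine ⟨(ζ * f r u)⁻¹ • u, hu.smul hmem, ?_⟩
  have h1 := hd.skew hr (hu.smul hmem)
  rw [hs.smul_left, hd.skew hr hu, mul_neg, neg_inj] at h1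
  rw [← h1]
  have := hd.ne_zero
  field_simp

theorem exists_sep {x r : V} (hx : Rat F₀ P x) (hr : Rat F₀ P r) (hr0 : r ≠ 0) (hind : ∀ k : F, x ≠ k • r) :
    ∃ z, Rat F₀ P z ∧ f r z = 0 ∧ f x z ≠ 0 := by
  have hs := hd.herm
  obtain ⟨s, hsr, hrs⟩ := hd.exists_partner hr hr0
  by_contra hc
  push Not at hc
  refine hind (ζ * f x s) (sub_eq_zero.1 (hs.eq_zero _ fun w => ?_))
  have h0 : ∀ u, Rat F₀ P u → f u (x - (ζ * f x s) • r) = 0 := fun u hu => by
    have hk := hd.rat x s hx hsr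
    have hmem := hd.rat r u hr hu
    have hz : Rat F₀ P (u - (ζ * f r u) • s) := hu.sub (hsr.smul hmem)
    have e1 : f (u - (ζ * f r u) • s) r = 0 := by
      rw [hs.toSesq.sub_left, hs.smul_left, hd.skew hr hu, hd.skew hr hsr]
      linear_combination (f r u) * hrs
    have h1 := hc _ hz (by rw [hd.skew hz hr, e1, neg_zero])
    have h2 := hd.skew (x := x) hx hz
    rw [h1, neg_zero, hs.toSesq.sub_left, hs.smul_left] at h2
    rw [hd.skew (hx.sub (hr.smul hk)) hu, neg_eq_zero, hs.toSesq.sub_left, hs.smul_left]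
    rw [hd.skew hx hsr, hd.skew hx hu] at h2
    linear_combination -h2
  show hs.toSesq.lin _ w = 0
  rw [eq_sum_rat P w, map_sum]
  refine Finset.sum_eq_zero fun i _ => ?_
  rw [map_smul, Sesq.lin_apply, h0 _ (rat_single i), smul_zero]

theorem exists_sep_both {x y r : V} (hx : Rat F₀ P x) (hy : Rat F₀ P y) (hr : Rat F₀ P r) (hr0 : r ≠ 0)
    (hix : ∀ k : F, x ≠ k • r) (hiy : ∀ k : F, y ≠ k • r) :
    ∃ z, Rat F₀ P z ∧ f r z = 0 ∧ f x z ≠ 0 ∧ f y z ≠ 0 := by
  have hs := hd.herm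
  obtain ⟨a, ha, har, hax⟩ := hd.exists_sep hx hr hr0 hix
  obtain ⟨b, hb, hbr, hby⟩ := hd.exists_sep hy hr hr0 hiy
  by_cases h1 : f y a ≠ 0
  · exact ⟨a, ha, har, hax, h1⟩
  by_cases h2 : f x b ≠ 0
  · exact ⟨b, hb, hbr, h2, hby⟩
  push Not at h1 h2
  exact ⟨a + b, ha.add hb, by rw [hs.add_right, har, hbr, add_zero],
    by rw [hs.add_right, h2, add_zero]; exact hax, by rw [hs.add_right, h1, zero_add]; exact hby⟩

end SympRat

theorem exists_rat_decomp [Fintype F] (hcard : Fintype.card F = Nat.card F₀ ^ 2) {ν : F} (hν : ν ∉ F₀) (v : ι → F) :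
    ∃ a b, Rat F₀ P a ∧ Rat F₀ P b ∧ v = a + ν • b := by
  classical
  have hinj : Function.Injective (fun p : F₀ × F₀ => (p.1 : F) + ν * p.2) := fun p p' e => by
    by_cases h : p.2 = p'.2
    · refine Prod.ext (Subtype.ext ?_) h
      simpa [h] using e
    · refine absurd ?_ hν
      have hne : (p.2 : F) - p'.2 ≠ 0 := sub_ne_zero.2 fun e' => h (Subtype.ext e')
      rw [show ν = ((p'.1 : F) - p.1) / ((p.2 : F) - p'.2) by
        rw [eq_div_iff hne]; simp only at e; linear_combination e]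
      exact div_mem (sub_mem p'.1.2 p.1.2) (sub_mem p.2.2 p'.2.2)
  have hbij := (Fintype.bijective_iff_injective_and_card _).2 ⟨hinj, by
    rw [Fintype.card_prod, hcard, sq, Nat.card_eq_fintype_card]⟩
  choose p hp using fun i => hbij.2 ((((P⁻¹ : GL ι F) : Mn) *ᵥ v) i)
  refine ⟨(P : Mn) *ᵥ fun i => ((p i).1 : F), (P : Mn) *ᵥ fun i => ((p i).2 : F), rat_of_coe _, rat_of_coe _, ?_⟩
  rw [← Matrix.mulVec_smul, ← Matrix.mulVec_add]
  conv_lhs => rw [← mulVec_inv_cancel P v]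
  congr 1
  funext i
  exact (hp i).symm

/-- Symplectic subgroups are maximal in `SU`. -/
theorem unitary_symplectic_maximal_of {F : Type*} [Field F] [Fintype F] {n q : ℕ} (hF : Fintype.card F = q ^ 2)
    (hn : 4 ≤ n) (F₀ : Subfield F) (hcard : Fintype.card F = Nat.card F₀ ^ 2) (ζ : F) (hζ0 : ζ ≠ 0)
    (P : GL (Fin n) F) (hP : Geo.IsFormRationalStructure (hermForm n F q) F₀ ζ P)
    (halt : ∀ u : Fin n → F, (∀ i, u i ∈ F₀) →
      hermForm n F q ((P : Matrix (Fin n) (Fin n) F) *ᵥ u) ((P : Matrix (Fin n) (Fin n) F) *ᵥ u) = 0) :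
    Geo.IsMaximalIn (GU n F q ⊓ Geo.specialLinear (Fin n) F)
      (Geo.subfieldSubgroup F₀ P ⊓ (GU n F q ⊓ Geo.specialLinear (Fin n) F)) := by
  classical
  set σ := qEquiv hF with hσ
  set f := hermForm n F q with hf
  have hs : Herm σ f := herm_hermForm hF
  have hd : SympRat σ f F₀ ζ P := ⟨hs, hζ0,
    fun x y hx hy => by have := hP _ _ hx hy; rwa [mulVec_inv_cancel, mulVec_inv_cancel] at this,
    fun x hx => by have := halt _ hx; rwa [mulVec_inv_cancel] at this⟩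
  obtain ⟨ν, hν⟩ : ∃ ν : F, ν ∉ F₀ := by
    by_contra hc
    push Not at hc
    have h1 : Nat.card F₀ = Fintype.card F := by
      rw [← Nat.card_eq_fintype_card]
      exact Nat.card_congr ⟨Subtype.val, fun x => ⟨x, hc x⟩, fun _ => rfl, fun _ => rfl⟩
    have h3 : 1 < Fintype.card F := Fintype.one_lt_card
    rw [h1, sq] at hcard
    exact absurd hcard (Nat.ne_of_lt (lt_mul_of_one_lt_left (by omega) h3))
  set e₀ := (P : Matrix (Fin n) (Fin n) F) *ᵥ Pi.single (⟨0, by omega⟩ : Fin n) 1 with he₀def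
  have he₀ : Rat F₀ P e₀ := rat_single _
  have he₀0 : e₀ ≠ 0 := fun e => by
    have := congrArg (fun z => ((P⁻¹ : GL (Fin n) F) : Matrix (Fin n) (Fin n) F) *ᵥ z) e
    simp only [he₀def, inv_mulVec_cancel, Matrix.mulVec_zero] at this
    have := congrFun this ⟨0, by omega⟩
    simp at this
  obtain ⟨f₀, hf₀, hef₀⟩ := hd.exists_partner he₀ he₀0
  -- the fixed field
  have hfixed : ∀ x : F, σ x = x → x ∈ F₀ := fun x hx => by
    have hq : Nat.card F₀ = q := Nat.pow_left_injective two_ne_zero (by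
      show Nat.card F₀ ^ 2 = q ^ 2; rw [← hcard, hF])
    by_contra hb
    have hq2 := two_le_q hF
    have hsub : ∀ y ∈ (insert x (Finset.univ.map (⟨Subtype.val, Subtype.val_injective⟩ : F₀ ↪ F) : Finset F) :
        Finset F), y ∈ (Polynomial.X ^ q - Polynomial.X : Polynomial F).roots.toFinset := fun y hy => by
      have hne : (Polynomial.X ^ q - Polynomial.X : Polynomial F) ≠ 0 :=
        FiniteField.X_pow_card_sub_X_ne_zero F (by omega)
      simp only [Multiset.mem_toFinset, Polynomial.mem_roots hne, Polynomial.IsRoot, Polynomial.eval_sub,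
        Polynomial.eval_pow, Polynomial.eval_X, sub_eq_zero]
      rcases Finset.mem_insert.1 hy with rfl | hy
      · exact hx
      · obtain ⟨d, -, rfl⟩ := Finset.mem_map.1 hy
        have := congrArg Subtype.val (FiniteField.pow_card d)
        rw [SubmonoidClass.coe_pow, ← Nat.card_eq_fintype_card, hq] at this
        exact this
    have h4 := ((Finset.card_le_card hsub).trans (Multiset.toFinset_card_le _)).trans (Polynomial.card_roots' _)
    rw [FiniteField.X_pow_card_sub_X_natDegree_eq F (by omega), Finset.card_insert_of_notMem (fun hm => by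
      obtain ⟨d, -, hd'⟩ := Finset.mem_map.1 hm
      exact hb (hd' ▸ d.2)), Finset.card_map, Finset.card_univ, ← Nat.card_eq_fintype_card, hq] at h4
    omega
  -- skew scalars
  have hskew : ∀ c : F, c + σ c = 0 → ∃ b ∈ F₀, c = b * ζ := fun c hc => by
    have hk : ζ⁻¹ + σ ζ⁻¹ = 0 := by
      have := hd.skew' he₀ hf₀
      rwa [show f e₀ f₀ = ζ⁻¹ from eq_inv_of_mul_eq_one_right hef₀] at this
    have hfix : σ (c / ζ) = c / ζ := by
      rw [div_eq_mul_inv, map_mul, show σ ζ⁻¹ = -ζ⁻¹ by linear_combination hk,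
        show σ c = -c by linear_combination hc]; ring
    exact ⟨c / ζ, hfixed _ hfix, (div_mul_cancel₀ c hζ0).symm⟩
  refine isMaximalIn_intro inf_le_right (fun hle => ?_) fun M hHM hMK g hgM hgH => ?_
  · -- a point off the rational lines
    obtain ⟨b, ⟨hb, hb0, hbe, hbf⟩⟩ : ∃ b, Rat F₀ P b ∧ b ≠ 0 ∧ f b e₀ = 0 ∧ f b f₀ = 0 := by
      have hn' : 2 < Fintype.card (Fin n) := by simp; omega
      obtain ⟨y, hy, hy'⟩ : ∃ y, Rat F₀ P y ∧ y ∉ Submodule.span F {e₀, f₀} := by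
        by_contra hc
        push Not at hc
        have htop : (⊤ : Submodule F (Fin n → F)) ≤ Submodule.span F {e₀, f₀} := fun x _ => by
          rw [eq_sum_rat P x]
          exact Submodule.sum_mem _ fun i _ => Submodule.smul_mem _ _ (hc _ (rat_single i))
        have h1 := Submodule.finrank_mono htop
        have h2 := finrank_range_le_card (R := F) ![e₀, f₀]
        rw [Set.finrank, Matrix.range_cons_cons_empty, Fintype.card_fin] at h2
        rw [finrank_top, Module.finrank_pi, Fintype.card_fin] at h1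
        omega
      refine ⟨y - (ζ * f y f₀) • e₀ + (ζ * f y e₀) • f₀,
        (hy.sub (he₀.smul (hd.rat y f₀ hy hf₀))).add (hf₀.smul (hd.rat y e₀ hy he₀)), fun e => hy' ?_, ?_, ?_⟩
      · rw [show y = (ζ * f y f₀) • e₀ + (-(ζ * f y e₀)) • f₀ by linear_combination (norm := module) e]
        exact add_mem (Submodule.smul_mem _ _ (Submodule.subset_span (by simp)))
          (Submodule.smul_mem _ _ (Submodule.subset_span (by simp)))
      · rw [hs.add_left, hs.toSesq.sub_left, hs.smul_left, hs.smul_left, hd.alt e₀ he₀, hd.skew he₀ hf₀]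
        linear_combination (-(f y e₀)) * hef₀
      · rw [hs.add_left, hs.toSesq.sub_left, hs.smul_left, hs.smul_left, hd.alt f₀ hf₀]
        linear_combination (-(f y f₀)) * hef₀
    have heb : f e₀ b = 0 := hs.refl _ _ hbe
    set v := e₀ + ν • b with hv
    have hvv : f v v = 0 := by
      rw [hv, hs.add_left, hs.add_right, hs.add_right, hs.smul_left, hs.smul_left, hs.smul_right, hs.smul_right,
        hd.alt _ he₀, hd.alt _ hb, hbe, heb]; ring
    obtain ⟨s, hsr, hbs⟩ := hd.exists_partner hb hb0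
    obtain ⟨τ, hτ0, hτ⟩ := hs.exists_skew
    obtain ⟨t, ht, htx⟩ := exists_gu_tv hF hvv hτ
    simp only [← hf] at htx
    obtain ⟨a, ha, h⟩ := exists_of_mem_subfieldSubgroup (hle ht).1
    have he₀v : f e₀ v = 0 := by rw [hv, hs.add_right, hs.smul_right, hd.alt _ he₀, heb]; ring
    have h1 := h e₀ he₀
    rw [htx, he₀v, mul_zero, zero_smul, add_zero] at h1
    have haF : a ∈ F₀ := by
      have h2 := hd.rat _ _ h1 hf₀
      rwa [hs.smul_left, mul_left_comm, hef₀, mul_one] at h2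
    have h2 := ((h f₀ hf₀).smul (inv_mem haF))
    rw [smul_smul, inv_mul_cancel₀ ha, one_smul, htx] at h2
    have h3 := h2.sub hf₀
    rw [add_sub_cancel_left] at h3
    set k := τ * f f₀ v
    have hk : k ≠ 0 := by
      refine mul_ne_zero hτ0 ?_
      rw [hv, hs.add_right, hs.smul_right, hs.refl _ _ hbf, mul_zero, add_zero, hd.skew he₀ hf₀]
      exact neg_ne_zero.2 (right_ne_zero_of_mul_eq_one hef₀)
    have hvf : f v f₀ = ζ⁻¹ := by
      rw [hv, hs.add_left, hs.smul_left, hbf, mul_zero, add_zero]; exact eq_inv_of_mul_eq_one_right hef₀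
    have hkF : k ∈ F₀ := by
      have := hd.rat _ _ h3 hf₀
      rwa [hs.smul_left, hvf, mul_left_comm, mul_inv_cancel₀ hζ0, mul_one] at this
    have h4 := h3.smul (inv_mem hkF)
    rw [smul_smul, inv_mul_cancel₀ hk, one_smul] at h4
    have h5 := hd.rat _ _ (h4.sub he₀) hsr
    rw [hv, add_sub_cancel_left, hs.smul_left, mul_left_comm, hbs, mul_one] at h5
    exact hν h5
  have hgi := isometry_of_le M hMK hgM
  simp only [← hf] at hgi
  have hMi : ∀ {t : GL (Fin n) F}, t ∈ M → ∀ x y, f ((t : Matrix (Fin n) (Fin n) F) *ᵥ x)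
      ((t : Matrix (Fin n) (Fin n) F) *ᵥ y) = f x y := fun ht => isometry_of_le M hMK ht
  -- rational transvections
  have hrat : ∀ w, Rat F₀ P w → UPt σ f M w := fun w hw c hc => by
    obtain ⟨t, ht, htx⟩ := exists_gu_tv hF (hd.alt w hw) hc
    obtain ⟨b, hb, rfl⟩ := hskew c hc
    refine ⟨t, hHM ⟨mem_subfieldSubgroup_of one_ne_zero fun x hx => ?_, ht⟩, htx⟩
    rw [one_smul, htx, mul_assoc]
    exact hx.add (hw.smul (mul_mem hb (hd.rat x w hx hw)))
  have hmove : ∀ x y, Rat F₀ P x → Rat F₀ P y → f x y ≠ 0 → ∃ t ∈ M,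
      (t : Matrix (Fin n) (Fin n) F) *ᵥ x = y ∧
      ∀ z, f z (y - x) = 0 → (t : Matrix (Fin n) (Fin n) F) *ᵥ z = z := fun x y hx hy hxy => by
    obtain ⟨t, ht, htx⟩ := hrat _ (hy.sub hx) (f x y)⁻¹ (by
      rw [map_inv₀, show σ (f x y) = -f x y by linear_combination hd.skew' hx hy, inv_neg, add_neg_cancel])
    refine ⟨t, ht, ?_, fun z hz => by rw [htx, hz, mul_zero, zero_smul, add_zero]⟩
    rw [htx, hs.toSesq.sub_right, hd.alt x hx, sub_zero, inv_mul_cancel₀ hxy, one_smul, add_sub_cancel]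
  have hRmap : ∀ x y, Rat F₀ P x → Rat F₀ P y → x ≠ 0 → y ≠ 0 → ∃ t ∈ M,
      (t : Matrix (Fin n) (Fin n) F) *ᵥ x = y ∧ RatMap F₀ P t := fun x y hx hy hx0 hy0 => by
    have hstep : ∀ x y, Rat F₀ P x → Rat F₀ P y → f x y ≠ 0 → ∃ t ∈ M,
        (t : Matrix (Fin n) (Fin n) F) *ᵥ x = y ∧ RatMap F₀ P t := fun x y hx hy hxy => by
      obtain ⟨t, ht, hti, htx⟩ := exists_isometry_tv hs.toSesq (v := y - x) (hd.alt _ (hy.sub hx))
        (hs.tv_cond (c := (f x y)⁻¹) (by
          rw [map_inv₀, show σ (f x y) = -f x y by linear_combination hd.skew' hx hy, inv_neg, add_neg_cancel]) _)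
      have hR : RatMap F₀ P t := fun z hz => by
        rw [htx]
        refine hz.add (Rat.smul ?_ (hy.sub hx))
        rw [show (f x y)⁻¹ * f z (y - x) = (ζ * f x y)⁻¹ * (ζ * f z (y - x)) by field_simp]
        exact mul_mem (inv_mem (hd.rat x y hx hy)) (hd.rat z _ hz (hy.sub hx))
      refine ⟨t, hHM ⟨mem_subfieldSubgroup_of one_ne_zero fun z hz => by rw [one_smul]; exact hR z hz,
        mem_GU.2 hti, ht.2⟩, ?_, hR⟩
      rw [htx, hs.toSesq.sub_right, hd.alt x hx, sub_zero, inv_mul_cancel₀ hxy, one_smul, add_sub_cancel]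
    obtain ⟨a, ha, hax⟩ := hd.exists_partner hx hx0
    obtain ⟨b, hb, hby⟩ := hd.exists_partner hy hy0
    have hxa : f x a ≠ 0 := right_ne_zero_of_mul_eq_one hax
    have hyb : f y b ≠ 0 := right_ne_zero_of_mul_eq_one hby
    obtain ⟨z, hz, hz1, hz2⟩ : ∃ z, Rat F₀ P z ∧ f x z ≠ 0 ∧ f y z ≠ 0 := by
      by_cases h1 : f y a ≠ 0
      · exact ⟨a, ha, hxa, h1⟩
      by_cases h2 : f x b ≠ 0
      · exact ⟨b, hb, h2, hyb⟩
      push Not at h1 h2
      exact ⟨a + b, ha.add hb, by rw [hs.add_right, h2, add_zero]; exact hxa,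
        by rw [hs.add_right, h1, zero_add]; exact hyb⟩
    obtain ⟨t₁, ht₁, hx₁, hR₁⟩ := hstep x z hx hz hz1
    obtain ⟨t₂, ht₂, hx₂, hR₂⟩ := hstep z y hz hy fun e => hz2 (hs.refl _ _ e)
    exact ⟨t₂ * t₁, mul_mem ht₂ ht₁, by rw [Units.val_mul, ← Matrix.mulVec_mulVec, hx₁, hx₂],
      fun w hw => by rw [Units.val_mul, ← Matrix.mulVec_mulVec]; exact hR₂ _ (hR₁ w hw)⟩
  have hinvMem : ∀ a b : Fin n → F, Rat F₀ P a → Rat F₀ P b → ¬ RatLine F₀ P (a + ν • b) →
      f (a + ν • b) (a + ν • b) = 0 → f a b = 0 ∧ b ≠ 0 ∧ ∀ k : F, a ≠ k • b := by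
    intro a b ha hb hnl hiso
    refine ⟨?_, fun e => hnl ⟨1, a, ha, by simp [e]⟩, fun k e => hnl ⟨k + ν, b, hb, by rw [e, add_smul]⟩⟩
    rw [hs.add_left, hs.add_right, hs.add_right, hs.smul_left, hs.smul_left, hs.smul_right, hs.smul_right,
      hd.alt a ha, hd.alt b hb, hd.skew ha hb] at hiso
    have hne : σ ν - ν ≠ 0 := fun e => hν (hfixed ν (sub_eq_zero.1 e))
    refine (mul_eq_zero.1 (show (σ ν - ν) * f a b = 0 by linear_combination hiso)).resolve_left hne
  -- one point off the rational lines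
  obtain ⟨a₁, b₁, ha₁, hb₁, hab₁, hb₁0, hind₁, hpt₁⟩ : ∃ a b, Rat F₀ P a ∧ Rat F₀ P b ∧ f a b = 0 ∧ b ≠ 0 ∧
      (∀ k : F, a ≠ k • b) ∧ UPt σ f M (a + ν • b) := by
    have : Nonempty (Fin n) := ⟨⟨0, by omega⟩⟩
    by_contra hc
    push Not at hc
    refine hgH ⟨?_, hMK hgM⟩
    obtain ⟨a, ha, h⟩ := exists_scalar_of_lines (F₀ := F₀) (P := P) (g := g) fun x hx => by
      by_contra hnl
      obtain ⟨a, b, ha, hb, hab⟩ := exists_rat_decomp (P := P) hcard hν ((g : Matrix (Fin n) (Fin n) F) *ᵥ x)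
      have hiso : f (a + ν • b) (a + ν • b) = 0 := by rw [← hab, hgi, hd.alt x hx]
      rw [hab] at hnl
      obtain ⟨h1, h2, h3⟩ := hinvMem a b ha hb hnl hiso
      exact hc a b ha hb h1 h2 h3 (hab ▸ (hrat x hx).map hs hgM hgi)
    exact mem_subfieldSubgroup_of ha h
  refine LinFour.guSL_le_three hF (by omega) (by omega) fun v hvv => ?_
  by_cases hvl : RatLine F₀ P v
  · obtain ⟨c, r, hr, rfl⟩ := hvl
    exact (hrat r hr).smul hs c
  obtain ⟨a, b, ha, hb, rfl⟩ := exists_rat_decomp (P := P) hcard hν v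
  obtain ⟨hab, hb0, hind⟩ := hinvMem a b ha hb hvl hvv
  obtain ⟨S, hS, hSb, hSR⟩ := hRmap b₁ b hb₁ hb hb₁0 hb0
  set a' := (S : Matrix (Fin n) (Fin n) F) *ᵥ a₁ with ha'
  have ha'R : Rat F₀ P a' := hSR _ ha₁
  have hab' : f a' b = 0 := by rw [ha', ← hSb, hMi hS, hab₁]
  have hind' : ∀ k : F, a' ≠ k • b := fun k e => hind₁ k (gl_mulVec_injective S (by
    show (S : Matrix (Fin n) (Fin n) F) *ᵥ a₁ = (S : Matrix (Fin n) (Fin n) F) *ᵥ (k • b₁)
    rw [Matrix.mulVec_smul, hSb]; exact e))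
  obtain ⟨z, hz, hbz, haz, ha'z⟩ := hd.exists_sep_both ha ha'R hb hb0 hind hind'
  obtain ⟨t₁, ht₁, hx₁, hf₁⟩ := hmove a' z ha'R hz ha'z
  obtain ⟨t₂, ht₂, hx₂, hf₂⟩ := hmove z a hz ha fun e => haz (hs.refl _ _ e)
  have e1 : (t₁ : Matrix (Fin n) (Fin n) F) *ᵥ b = b :=
    hf₁ b (by rw [hs.toSesq.sub_right, hbz, hs.refl _ _ hab', sub_zero])
  have e2 : (t₂ : Matrix (Fin n) (Fin n) F) *ᵥ b = b :=
    hf₂ b (by rw [hs.toSesq.sub_right, hbz, hs.refl _ _ hab, sub_zero])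
  have := hpt₁.map hs (mul_mem (mul_mem ht₂ ht₁) hS) (hMi (mul_mem (mul_mem ht₂ ht₁) hS))
  rwa [Matrix.mulVec_add, Matrix.mulVec_smul, Units.val_mul, Units.val_mul, ← Matrix.mulVec_mulVec,
    ← Matrix.mulVec_mulVec, ← Matrix.mulVec_mulVec, ← Matrix.mulVec_mulVec, hSb, e1, e2, ← ha', hx₁, hx₂] at this

/-- The case of degree at least six. -/
theorem unitary_symplectic_maximal_six {F : Type*} [Field F] [Fintype F] {n q : ℕ} (hF : Fintype.card F = q ^ 2)
    (hn : 6 ≤ n) (F₀ : Subfield F) (hcard : Fintype.card F = Nat.card F₀ ^ 2) (ζ : F) (hζ0 : ζ ≠ 0)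
    (P : GL (Fin n) F) (hP : Geo.IsFormRationalStructure (hermForm n F q) F₀ ζ P)
    (halt : ∀ u : Fin n → F, (∀ i, u i ∈ F₀) →
      hermForm n F q ((P : Matrix (Fin n) (Fin n) F) *ᵥ u) ((P : Matrix (Fin n) (Fin n) F) *ᵥ u) = 0) :
    Geo.IsMaximalIn (GU n F q ⊓ Geo.specialLinear (Fin n) F)
      (Geo.subfieldSubgroup F₀ P ⊓ (GU n F q ⊓ Geo.specialLinear (Fin n) F)) :=
  unitary_symplectic_maximal_of hF (by omega) F₀ hcard ζ hζ0 P hP halt

/-- The case of degree at least twelve. -/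
theorem unitary_symplectic_maximal {F : Type*} [Field F] [Fintype F] {n q : ℕ} (hF : Fintype.card F = q ^ 2)
    (hn : 12 ≤ n) (F₀ : Subfield F) (hcard : Fintype.card F = Nat.card F₀ ^ 2) (ζ : F) (hζ0 : ζ ≠ 0)
    (P : GL (Fin n) F) (hP : Geo.IsFormRationalStructure (hermForm n F q) F₀ ζ P)
    (halt : ∀ u : Fin n → F, (∀ i, u i ∈ F₀) →
      hermForm n F q ((P : Matrix (Fin n) (Fin n) F) *ᵥ u) ((P : Matrix (Fin n) (Fin n) F) *ᵥ u) = 0) :
    Geo.IsMaximalIn (GU n F q ⊓ Geo.specialLinear (Fin n) F)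
      (Geo.subfieldSubgroup F₀ P ⊓ (GU n F q ⊓ Geo.specialLinear (Fin n) F)) :=
  unitary_symplectic_maximal_six hF (le_trans (by norm_num) hn) F₀ hcard ζ hζ0 P hP halt

/-- The case of degree at least ten. -/
theorem unitary_symplectic_maximal_ten {F : Type*} [Field F] [Fintype F] {n q : ℕ} (hF : Fintype.card F = q ^ 2)
    (hn : 10 ≤ n) (F₀ : Subfield F) (hcard : Fintype.card F = Nat.card F₀ ^ 2) (ζ : F) (hζ0 : ζ ≠ 0)
    (P : GL (Fin n) F) (hP : Geo.IsFormRationalStructure (hermForm n F q) F₀ ζ P)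
    (halt : ∀ u : Fin n → F, (∀ i, u i ∈ F₀) →
      hermForm n F q ((P : Matrix (Fin n) (Fin n) F) *ᵥ u) ((P : Matrix (Fin n) (Fin n) F) *ᵥ u) = 0) :
    Geo.IsMaximalIn (GU n F q ⊓ Geo.specialLinear (Fin n) F)
      (Geo.subfieldSubgroup F₀ P ⊓ (GU n F q ⊓ Geo.specialLinear (Fin n) F)) :=
  unitary_symplectic_maximal_six hF (le_trans (by norm_num) hn) F₀ hcard ζ hζ0 P hP halt

end Cfsg.Agent.Classical.MaxTv
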