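import Cfsg.Agent.Lib.Classical.MaxSympWreath

/-!
A connected spanning set of transvection centres gives the whole symplectic group, in odd characteristic.
-/

set_option autoImplicit false
set_option linter.unusedSectionVars false

namespace Cfsg.Agent.Classical.MaxTv

open Matrix Module

variable {F : Type*} [Field F] {m : ℕ}

local notation "V" => (Fin m ⊕ Fin m → F)
local notation "B" => sympForm m F

variable {M : Subgroup (GL (Fin m ⊕ Fin m) F)} {S : Set (Fin m ⊕ Fin m → F)}

/-- Adjacency of transvection centres. -/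
def PtAdj (M : Subgroup (GL (Fin m ⊕ Fin m) F)) (u w : Fin m ⊕ Fin m → F) : Prop :=
  Pt M u ∧ Pt M w ∧ sympForm m F u w ≠ 0

/-- The sum of two centres with a common neighbour is a centre. -/
theorem Pt.add_common (h2 : (2 : F) ≠ 0) (hS : ∀ g ∈ S, Pt M g)
    (hsep : ∀ x : V, x ≠ 0 → ∃ g ∈ S, B x g ≠ 0) {u w p : V} (hu : Pt M u) (hw : Pt M w) (hp : Pt M p)
    (hup : B u p ≠ 0) (hwp : B w p ≠ 0) : Pt M (u + w) := by
  by_cases huw : B u w = 0
  swap
  · exact hu.add hw huw
  have step : ∀ q : V, Pt M q → B u q ≠ 0 → B w q ≠ 0 → B u q + B w q ≠ 0 → Pt M (u + w) := by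
    intro q hq h1 h2 h3
    have hq' : Pt M (-q) := by simpa using hq.smul (-1)
    have e1 := hu.add hq h1
    have e2 := hw.add hq' (by rw [← neg_one_smul F q, sympForm_smul_right]; simpa using h2)
    have e3 := e1.add e2 (by
      rw [← neg_one_smul F q, sympForm_add_left, sympForm_add_right, sympForm_add_right, sympForm_smul_right,
        sympForm_smul_right, sympForm_self, sympForm_swap q w]
      intro e
      exact h3 (by linear_combination -e + huw))
    rwa [show u + q + (w + -q) = u + w by abel] at e3
  rcases eq_or_ne (u + w) 0 with h0 | h0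
  · rw [h0]; exact Pt.zero
  by_cases hsum : B u p + B w p ≠ 0
  · exact step p hp hup hwp hsum
  rw [not_not] at hsum
  obtain ⟨q, hqS, hq⟩ := hsep _ h0
  rw [sympForm_add_left] at hq
  -- a neighbour `p` of `u`, `w` of opposite pairings and a point `q` separating their sum
  have main : ∀ p : V, Pt M p → B u p ≠ 0 → B w p = -B u p → B p q ≠ 0 → Pt M (u + w) := by
    intro p hp hup hwp hpq
    by_cases h : B u q ≠ 0 ∧ B w q ≠ 0
    · exact step q (hS q hqS) h.1 h.2 hq
    obtain ⟨t, ht0, ht1, ht2⟩ : ∃ t : F, t ≠ 0 ∧ B u q + t * B u p ≠ 0 ∧ B w q + t * B w p ≠ 0 := by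
      rw [hwp]
      by_cases h1 : B u q + B u p = 0 ∨ B w q - B u p = 0
      · refine ⟨-1, neg_ne_zero.2 one_ne_zero, fun e => ?_, fun e => ?_⟩
        · rcases h1 with h1 | h1
          · exact hup ((mul_eq_zero.1 (show (2 : F) * B u p = 0 by linear_combination h1 - e)).resolve_left h2)
          · rcases not_and_or.1 h with h' | h' <;> rw [not_not] at h'
            · exact hup (by linear_combination -e + h')
            · exact hup (by linear_combination -h1 + h')
        · rcases h1 with h1 | h1
          · rcases not_and_or.1 h with h' | h' <;> rw [not_not] at h'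
            · exact hup (by linear_combination h1 - h')
            · exact hup (by linear_combination e - h')
          · exact hup ((mul_eq_zero.1 (show (2 : F) * B u p = 0 by linear_combination e - h1)).resolve_left h2)
      · push Not at h1
        exact ⟨1, one_ne_zero, by rw [one_mul]; exact h1.1, by rw [one_mul, ← sub_eq_add_neg]; exact h1.2⟩
    refine step (q + t • p) ((hS q hqS).add (hp.smul t) ?_) ?_ ?_ ?_
    · rw [sympForm_smul_right, sympForm_swap q p]; exact mul_ne_zero ht0 (neg_ne_zero.2 hpq)
    · rwa [sympForm_add_right, sympForm_smul_right]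
    · rwa [sympForm_add_right, sympForm_smul_right]
    · rw [sympForm_add_right, sympForm_add_right, sympForm_smul_right, sympForm_smul_right, hwp]
      exact fun e => hq (by linear_combination e)
  by_cases h : B u q ≠ 0 ∧ B w q ≠ 0
  · exact step q (hS q hqS) h.1 h.2 hq
  by_cases hpq : B p q = 0
  swap
  · exact main p hp hup (by linear_combination hsum) hpq
  have hwu : B w u = 0 := by rw [sympForm_swap, huw, neg_zero]
  rcases not_and_or.1 h with h' | h' <;> rw [not_not] at h'
  · refine main (p + w) (hp.add hw ?_) ?_ ?_ ?_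
    · rw [sympForm_swap]; exact neg_ne_zero.2 hwp
    · rwa [sympForm_add_right, huw, add_zero]
    · rw [sympForm_add_right, sympForm_add_right, huw, sympForm_self]
      linear_combination hsum
    · rw [sympForm_add_left, hpq, zero_add]
      exact fun e => hq (by rw [h', e, add_zero])
  · refine main (p + u) (hp.add hu ?_) ?_ ?_ ?_
    · rw [sympForm_swap]; exact neg_ne_zero.2 hup
    · rwa [sympForm_add_right, sympForm_self, add_zero]
    · rw [sympForm_add_right, sympForm_add_right, hwu, sympForm_self]
      linear_combination hsum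
    · rw [sympForm_add_left, hpq, zero_add]
      exact fun e => hq (by rw [h', e, add_zero])

/-- A spanning set of centres, connected by non-orthogonality, gives all of `Sp`. -/
theorem spGL_le_of_connected [Fintype F] (h2 : (2 : F) ≠ 0) (hS : ∀ g ∈ S, Pt M g)
    (hspan : Submodule.span F S = ⊤)
    (hconn : ∀ g ∈ S, ∀ g' ∈ S, Relation.ReflTransGen (PtAdj M) g g') : spGL m F ≤ M := by
  have hsep : ∀ x : V, x ≠ 0 → ∃ g ∈ S, B x g ≠ 0 := fun x hx => by
    by_contra hc
    push Not at hc
    obtain ⟨y, hy⟩ := exists_sympForm_eq_one hx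
    have hle : Submodule.span F S ≤ LinearMap.ker (sympB m F x) :=
      Submodule.span_le.2 fun g hg => by rw [SetLike.mem_coe, LinearMap.mem_ker, sympB_apply, hc g hg]
    have := hle (hspan ▸ Submodule.mem_top : y ∈ Submodule.span F S)
    rw [LinearMap.mem_ker, sympB_apply, hy] at this
    exact one_ne_zero this
  have hnear : ∀ {u w : V}, Pt M u → u ≠ 0 → Relation.ReflTransGen (PtAdj M) u w →
      B u w ≠ 0 ∨ ∃ p, Pt M p ∧ B u p ≠ 0 ∧ B w p ≠ 0 := by
    intro u w hu hu0 h
    induction h with
    | refl =>
      obtain ⟨g, hg, hug⟩ := hsep u hu0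
      exact Or.inr ⟨g, hS g hg, hug, hug⟩
    | @tail r w _ hrw ih =>
      obtain ⟨hr, hw, hrw⟩ := hrw
      have hwr : B w r ≠ 0 := by rw [sympForm_swap]; exact neg_ne_zero.2 hrw
      by_cases hur : B u r = 0
      · obtain ⟨p, hp, hup, hrp⟩ := ih.resolve_left (not_not.2 hur)
        by_cases hwp : B w p = 0
        · exact Or.inr ⟨p + r, hp.add hr (by rw [sympForm_swap]; exact neg_ne_zero.2 hrp),
            by rwa [sympForm_add_right, hur, add_zero], by rwa [sympForm_add_right, hwp, zero_add]⟩
        · exact Or.inr ⟨p, hp, hup, hwp⟩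
      · exact Or.inr ⟨r, hr, hur, hwr⟩
  have hadd : ∀ u w : V, Pt M u → Pt M w → Pt M (u + w) := by
    intro u w hu hw
    rcases eq_or_ne u 0 with rfl | hu0
    · rwa [zero_add]
    rcases eq_or_ne w 0 with rfl | hw0
    · rwa [add_zero]
    obtain ⟨g, hg, hug⟩ := hsep u hu0
    obtain ⟨g', hg', hwg⟩ := hsep w hw0
    have hpath : Relation.ReflTransGen (PtAdj M) u w :=
      ((Relation.ReflTransGen.single ⟨hu, hS g hg, hug⟩).trans (hconn g hg g' hg')).tail
        ⟨hS g' hg', hw, by rw [sympForm_swap]; exact neg_ne_zero.2 hwg⟩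
    rcases hnear hu hu0 hpath with h | ⟨p, hp, hup, hwp⟩
    · exact hu.add hw h
    · exact Pt.add_common h2 hS hsep hu hw hp hup hwp
  refine spGL_le fun v => ?_
  have hv : v ∈ Submodule.span F S := hspan ▸ Submodule.mem_top
  induction hv using Submodule.span_induction with
  | mem x hx => exact hS x hx
  | zero => exact Pt.zero
  | add x y _ _ hx hy => exact hadd x y hx hy
  | smul a x _ hx => exact hx.smul a

end Cfsg.Agent.Classical.MaxTv
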