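import Mathlib

/-! Certificates for extensions of a finite 2-group, given by a power-commutator presentation, by a
binary module of dimension 11: the values of the relators in any choice of lifts are unknowns, vectors of
which are stored as eleven bit masks packed in one number. A table gives right multiplication of normal
forms by generators; associativity and conjugation relations give linear equations in the unknowns, and
a linear combination certificate shows that lifts can be adjusted to prescribed relator values. -/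

set_option autoImplicit false

namespace Cfsg.Agent.Classical.Collect

/-- The module. -/
abbrev V : Type := Fin 11 → ZMod 2

/-- Width of one mask. -/
def width : ℕ := 448

/-- One of the packed masks. -/
def slice (x i : ℕ) : ℕ := (x >>> (width * i)) % 2 ^ width

/-- The value of a mask at an assignment of the unknowns. -/
def evb (U : ℕ → ZMod 2) (m : ℕ) : ZMod 2 :=
  ∑ k ∈ Finset.range width, if m.testBit k then U k else 0

/-- The value of a packed vector. -/
def ev (U : ℕ → ZMod 2) (x : ℕ) : V := fun i => evb U (slice x i.val)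

theorem evb_zero (U : ℕ → ZMod 2) : evb U 0 = 0 := by simp [evb]

theorem evb_xor (U : ℕ → ZMod 2) (a b : ℕ) : evb U (a ^^^ b) = evb U a + evb U b := by
  rw [evb, evb, evb, ← Finset.sum_add_distrib]
  refine Finset.sum_congr rfl fun k _ => ?_
  rw [Nat.testBit_xor]
  cases a.testBit k <;> cases b.testBit k <;> simp [CharTwo.add_self_eq_zero]

theorem evb_of_zero (m : ℕ) : evb (fun _ => 0) m = 0 := by simp [evb]

theorem slice_xor (a b i : ℕ) : slice (a ^^^ b) i = slice a i ^^^ slice b i := by
  refine Nat.eq_of_testBit_eq fun k => ?_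
  simp only [slice, Nat.testBit_mod_two_pow, Nat.testBit_shiftRight, Nat.testBit_xor]
  cases decide (k < width) <;> simp

theorem slice_zero (i : ℕ) : slice 0 i = 0 := by simp [slice]

theorem ev_zero (U : ℕ → ZMod 2) : ev U 0 = 0 := by funext i; simp [ev, slice_zero, evb_zero]

theorem ev_xor (U : ℕ → ZMod 2) (a b : ℕ) : ev U (a ^^^ b) = ev U a + ev U b := by
  funext i; simp [ev, slice_xor, evb_xor]

theorem ev_of_zero (x : ℕ) : ev (fun _ => 0) x = 0 := by funext i; simp [ev, evb_of_zero]

theorem slice_shift {x : ℕ} (hx : x < 2 ^ width) (i j : ℕ) :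
    slice (x <<< (width * i)) j = if j = i then x else 0 := by
  refine Nat.eq_of_testBit_eq fun k => ?_
  simp only [slice, Nat.testBit_mod_two_pow, Nat.testBit_shiftRight, Nat.testBit_shiftLeft]
  by_cases hk : k < width
  · rcases lt_trichotomy j i with h | h | h
    · have h1 : width * (j + 1) ≤ width * i := Nat.mul_le_mul_left _ h
      rw [Nat.mul_succ] at h1
      rw [if_neg h.ne]
      simp [hk, show ¬ width * i ≤ width * j + k by omega]
    · subst h
      simp [hk]
    · have h1 : width * (i + 1) ≤ width * j := Nat.mul_le_mul_left _ h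
      rw [Nat.mul_succ] at h1
      rw [if_neg h.ne']
      simp only [Nat.zero_testBit, Bool.and_eq_false_iff, decide_eq_false_iff_not]
      exact Or.inr (Or.inr (Nat.testBit_lt_two_pow
        (hx.trans_le (Nat.pow_le_pow_right two_pos (by omega)))))
  · simp only [hk, decide_false, Bool.false_and]
    by_cases h : j = i
    · rw [if_pos h]; exact (Nat.testBit_lt_two_pow (hx.trans_le (Nat.pow_le_pow_right two_pos (by omega)))).symm
    · rw [if_neg h, Nat.zero_testBit]

/-- Apply a binary matrix, given by the images of the basis as bit masks, to a packed vector. -/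
def app (M : List ℕ) (x : ℕ) : ℕ :=
  (List.range 11).foldr (fun i acc => (List.range 11).foldr
    (fun j a => (if (M.getD i 0).testBit j then slice x i <<< (width * j) else 0) ^^^ a) 0 ^^^ acc) 0

/-- The linear map of a binary matrix. -/
def mulV (M : List ℕ) (v : V) : V := fun j => ∑ i : Fin 11, if (M.getD i.val 0).testBit j.val then v i else 0

theorem mulV_add (M : List ℕ) (v w : V) : mulV M (v + w) = mulV M v + mulV M w := by
  funext j
  simp only [mulV, Pi.add_apply, ← Finset.sum_add_distrib]
  refine Finset.sum_congr rfl fun i _ => ?_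
  split <;> simp

theorem ev_foldr (U : ℕ → ZMod 2) (f : ℕ → ℕ) (n : ℕ) :
    ev U ((List.range n).foldr (fun i acc => f i ^^^ acc) 0) = ∑ i ∈ Finset.range n, ev U (f i) := by
  induction n with
  | zero => simp [ev_zero]
  | succ n ih =>
    have h : ∀ (L : List ℕ) (z : ℕ), ev U (L.foldr (fun i acc => f i ^^^ acc) z) =
        ev U (L.foldr (fun i acc => f i ^^^ acc) 0) + ev U z := by
      intro L z
      induction L with
      | nil => simp [ev_zero]
      | cons a L ihL => simp only [List.foldr_cons, ev_xor, ihL, add_assoc]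
    rw [List.range_succ, List.foldr_append, h, ih, Finset.sum_range_succ]
    simp [ev_xor, ev_zero]

theorem ev_app (U : ℕ → ZMod 2) (M : List ℕ) (x : ℕ) : ev U (app M x) = mulV M (ev U x) := by
  rw [app, ev_foldr, Finset.sum_range]
  funext j
  rw [Finset.sum_apply, mulV]
  refine Finset.sum_congr rfl fun i _ => ?_
  rw [ev_foldr, Finset.sum_range, Finset.sum_apply, Finset.sum_eq_single j]
  · simp only [ev]
    by_cases h : (M.getD i.val 0).testBit j.val
    · rw [if_pos h, if_pos h, slice_shift (show slice x i.val < 2 ^ width from Nat.mod_lt _ (Nat.two_pow_pos _)), if_pos rfl]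
    · rw [if_neg h, if_neg h, slice_zero, evb_zero]
  · intro k _ hk
    simp only [ev]
    split
    · rw [slice_shift (show slice x i.val < 2 ^ width from Nat.mod_lt _ (Nat.two_pow_pos _)), if_neg (fun e => hk (Fin.ext e.symm)), evb_zero]
    · rw [slice_zero, evb_zero]
  · exact fun h => absurd (Finset.mem_univ _) h

/-! ### Data -/

/-- The generators' matrices, relations, unknowns and multiplication table. -/
structure Pres where
  /-- For each generator, the matrix moving a vector from its left to its right. -/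
  mats : List (List ℕ)
  /-- The relations: left side, right side, packed vector of its unknowns. -/
  rels : List (List ℕ × List ℕ × ℕ)
  /-- For each generator and normal form: product and packed correction. -/
  table : List (List (ℕ × ℕ))

/-- The letters of a normal form. -/
def bitsList (e : ℕ) : List ℕ := (List.range 7).filter fun k => e.testBit k

variable (P : Pres)

/-- Moving a packed vector to the right of a word. -/
def Pres.right (L : List ℕ) (x : ℕ) : ℕ := L.foldl (fun a k => app (P.mats.getD k []) a) x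

/-- A table entry. -/
def Pres.entry (k e : ℕ) : ℕ × ℕ := (P.table.getD k []).getD e (0, 0)

/-- One multiplication step. -/
def Pres.step (s : ℕ × ℕ) (k : ℕ) : ℕ × ℕ :=
  ((P.entry k s.1).1, app (P.mats.getD k []) s.2 ^^^ (P.entry k s.1).2)

/-- Multiply a normal form by a word. -/
def Pres.mulw (e : ℕ) (L : List ℕ) : ℕ × ℕ := L.foldl P.step (e, 0)

/-- The rule justifying a table entry: either appending the letter, or a relation index. -/
def Pres.entryOk (j e : ℕ) : Bool :=
  let r := P.entry j e
  decide (r.1 < 128) &&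
    ((decide (bitsList r.1 = bitsList e ++ [j]) && decide (r.2 = 0)) ||
      P.rels.any fun R =>
        match R.1 with
        | [i, k] =>
          decide (k = j) && decide (e.testBit i) && decide (bitsList e = bitsList (e - 2 ^ i) ++ [i]) &&
            (R.2.1.all (fun l => decide (j < l ∧ l < 7)) ||
              (decide (R.2.1.head? = some j) && R.2.1.tail.all (fun l => decide (j < l ∧ l < 7)) &&
                decide (e - 2 ^ i < e))) &&
            decide (r.1 = (P.mulw (e - 2 ^ i) R.2.1).1) &&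
            decide (r.2 = R.2.2 ^^^ (P.mulw (e - 2 ^ i) R.2.1).2)
        | _ => false)

/-- The table check. -/
def Pres.tableOk : Bool :=
  (List.range 7).all fun j => (List.range 128).all fun e => P.entryOk j e

/-! ### Lifts -/

/-- A choice of lifts in a group, with the vectors embedded. -/
structure Lift (E : Type*) [Group E] where
  /-- The embedding of the module. -/
  ι : V → E
  /-- The lifts. -/
  y : ℕ → E
  /-- The assignment of the unknowns. -/
  U : ℕ → ZMod 2
  ι_add : ∀ a b, ι (a + b) = ι a * ι b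
  ι_inj : Function.Injective ι
  move : ∀ k < 7, ∀ v, ι v * y k = y k * ι (mulV (P.mats.getD k []) v)
  rel : ∀ R ∈ P.rels, (R.1.map y).prod = (R.2.1.map y).prod * ι (ev U R.2.2)

variable {P} {E : Type*} [Group E] (T : Lift P E)

theorem Lift.ι_zero : T.ι 0 = 1 := by
  have h := T.ι_add 0 0
  rw [add_zero] at h
  exact left_eq_mul.mp h

/-- The product of a word of lifts. -/
def Lift.yw (L : List ℕ) : E := (L.map T.y).prod

theorem Lift.yw_append (L M : List ℕ) : T.yw (L ++ M) = T.yw L * T.yw M := by
  simp [Lift.yw]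

theorem Lift.yw_single (k : ℕ) : T.yw [k] = T.y k := by simp [Lift.yw]

theorem Lift.move_word (L : List ℕ) : (∀ k ∈ L, k < 7) → ∀ x,
    T.ι (ev T.U x) * T.yw L = T.yw L * T.ι (ev T.U (P.right L x)) := by
  induction L with
  | nil => intro _ x; simp [Lift.yw, Pres.right]
  | cons k L ih =>
    intro h x
    have h1 := T.move k (h k (List.mem_cons_self ..)) (ev T.U x)
    rw [← ev_app] at h1
    rw [show T.yw (k :: L) = T.y k * T.yw L from by simp [Lift.yw], ← mul_assoc, h1, mul_assoc,
      ih (fun l hl => h l (List.mem_cons_of_mem _ hl)), ← mul_assoc]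
    rfl

/-- Validity of a table entry for the lifts. -/
def Lift.Good (j e : ℕ) : Prop :=
  (P.entry j e).1 < 128 ∧
    T.yw (bitsList e) * T.y j = T.yw (bitsList (P.entry j e).1) * T.ι (ev T.U (P.entry j e).2)

theorem Lift.foldl_good (L : List ℕ) : (∀ k ∈ L, k < 7) → (∀ k ∈ L, ∀ e < 128, T.Good k e) →
    ∀ (s : ℕ × ℕ), s.1 < 128 → (L.foldl P.step s).1 < 128 ∧
      T.yw (bitsList s.1) * T.ι (ev T.U s.2) * T.yw L =
        T.yw (bitsList (L.foldl P.step s).1) * T.ι (ev T.U (L.foldl P.step s).2) := by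
  induction L with
  | nil => intro _ _ s hs; exact ⟨hs, by simp [Lift.yw]⟩
  | cons k L ih =>
    intro h7 hg s hs
    obtain ⟨hlt, hk⟩ := hg k (List.mem_cons_self ..) s.1 hs
    obtain ⟨h1, h2⟩ := ih (fun l hl => h7 l (List.mem_cons_of_mem _ hl))
      (fun l hl => hg l (List.mem_cons_of_mem _ hl)) (P.step s k) hlt
    refine ⟨h1, ?_⟩
    refine Eq.trans ?_ h2
    rw [show T.yw (k :: L) = T.y k * T.yw L from by simp [Lift.yw]]
    simp only [Pres.step, ev_xor, T.ι_add, add_comm (ev T.U (app _ s.2))]
    have h3 := T.move k (h7 k (List.mem_cons_self ..)) (ev T.U s.2)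
    rw [← ev_app] at h3
    rw [mul_assoc (T.yw (bitsList s.1)), ← mul_assoc (T.ι (ev T.U s.2)), h3, ← mul_assoc, ← mul_assoc,
      ← mul_assoc, hk]

theorem Lift.good_of_ok (hok : P.tableOk = true) : ∀ j < 7, ∀ e < 128, T.Good j e := by
  simp only [Pres.tableOk, List.all_eq_true, List.mem_range] at hok
  suffices H : ∀ d, ∀ j, j + d + 1 = 7 → ∀ e < 128, T.Good j e from
    fun j hj => H (6 - j) j (by omega)
  intro d
  induction d using Nat.strong_induction_on with
  | _ d ihd =>
  intro j hj
  have hup : ∀ k, j < k → k < 7 → ∀ e < 128, T.Good k e := fun k h1 h2 =>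
    ihd (6 - k) (by omega) k (by omega)
  intro e
  induction e using Nat.strong_induction_on with
  | _ e ihe =>
  intro he
  have h := hok j (by omega) e he
  simp only [Pres.entryOk, Bool.and_eq_true, Bool.or_eq_true, decide_eq_true_eq, List.any_eq_true] at h
  obtain ⟨hlt, h⟩ := h
  refine ⟨hlt, ?_⟩
  rcases h with ⟨h1, h2⟩ | ⟨R, hR, hb⟩
  · rw [h1, h2, ev_zero, T.ι_zero, mul_one, T.yw_append, T.yw_single]
  · obtain ⟨lhs, rhs, s⟩ := R
    match lhs, hR, hb with
    | [], _, hb => simp at hb
    | [_], _, hb => simp at hb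
    | _ :: _ :: _ :: _, _, hb => simp at hb
    | [i, k], hR, hb =>
      simp only [Bool.and_eq_true, Bool.or_eq_true, decide_eq_true_eq, List.all_eq_true] at hb
      obtain ⟨⟨⟨⟨⟨rfl, hi⟩, hbits⟩, hL⟩, h1⟩, h2⟩ := hb
      have hrest : e - 2 ^ i < 128 := lt_of_le_of_lt (Nat.sub_le _ _) he
      have key : (P.mulw (e - 2 ^ i) rhs).1 < 128 ∧
          T.yw (bitsList (e - 2 ^ i)) * T.yw rhs = T.yw (bitsList (P.mulw (e - 2 ^ i) rhs).1) *
            T.ι (ev T.U (P.mulw (e - 2 ^ i) rhs).2) := by
        rcases hL with hL | ⟨⟨hhd, htl⟩, hdec⟩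
        · obtain ⟨a, b⟩ := T.foldl_good rhs (fun l hl => (hL l hl).2)
            (fun l hl => hup l (hL l hl).1 (hL l hl).2) (e - 2 ^ i, 0) hrest
          simp only [ev_zero, T.ι_zero, mul_one] at b
          exact ⟨a, b⟩
        · cases rhs with
          | nil => simp at hhd
          | cons a tl =>
            simp only [List.head?_cons, Option.some.injEq] at hhd
            subst hhd
            simp only [List.tail_cons] at htl
            obtain ⟨g1, g2⟩ := ihe (e - 2 ^ i) hdec hrest
            obtain ⟨c1, c2⟩ := T.foldl_good tl (fun l hl => (htl l hl).2)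
              (fun l hl => hup l (htl l hl).1 (htl l hl).2) (P.step (e - 2 ^ i, 0) a) g1
            refine ⟨c1, Eq.trans ?_ c2⟩
            rw [show T.yw (a :: tl) = T.y a * T.yw tl from by simp [Lift.yw], ← mul_assoc, g2]
            have hz : mulV (P.mats.getD a []) 0 = 0 := by funext z; simp [mulV]
            simp only [Pres.step, ev_app, ev_xor, ev_zero, hz, zero_add]
      have hr := T.rel _ hR
      simp only [List.map_cons, List.map_nil, List.prod_cons, List.prod_nil, mul_one] at hr
      rw [hbits, T.yw_append, T.yw_single, mul_assoc, hr, ← mul_assoc]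
      change T.yw _ * T.yw rhs * _ = _
      rw [key.2, h1, h2, ev_xor, T.ι_add, mul_assoc, ← T.ι_add, add_comm, T.ι_add]

theorem Lift.mulw_spec (hok : P.tableOk = true) (e : ℕ) (he : e < 128) (L : List ℕ)
    (hL : ∀ k ∈ L, k < 7) :
    (P.mulw e L).1 < 128 ∧ T.yw (bitsList e) * T.yw L =
      T.yw (bitsList (P.mulw e L).1) * T.ι (ev T.U (P.mulw e L).2) := by
  obtain ⟨a, b⟩ := T.foldl_good L hL (fun k hk => T.good_of_ok hok k (hL k hk)) (e, 0) he
  simp only [ev_zero, T.ι_zero, mul_one] at b
  exact ⟨a, b⟩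

theorem bitsList_lt (e : ℕ) : ∀ k ∈ bitsList e, k < 7 := fun _ hk =>
  List.mem_range.mp (List.mem_of_mem_filter hk)

/-! ### Associativity -/

/-- The equation from a triple of generators. -/
def Pres.assocEq (t : ℕ × ℕ × ℕ) : ℕ :=
  let bc := P.mulw (2 ^ t.2.1) [t.2.2]
  (P.mulw (2 ^ t.1) [t.2.1, t.2.2]).2 ^^^ ((P.mulw (2 ^ t.1) (bitsList bc.1)).2 ^^^ bc.2)

/-- The test for a triple of generators. -/
def Pres.assocOk (t : ℕ × ℕ × ℕ) : Bool :=
  decide (t.1 < 7 ∧ t.2.1 < 7 ∧ t.2.2 < 7) && decide (bitsList (2 ^ t.1) = [t.1]) &&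
    decide (bitsList (2 ^ t.2.1) = [t.2.1]) &&
    decide ((P.mulw (2 ^ t.1) [t.2.1, t.2.2]).1 =
      (P.mulw (2 ^ t.1) (bitsList (P.mulw (2 ^ t.2.1) [t.2.2]).1)).1)

theorem Lift.eq_of_same {e a b : ℕ} (h : T.yw (bitsList e) * T.ι (ev T.U a) =
    T.yw (bitsList e) * T.ι (ev T.U b)) : ev T.U (a ^^^ b) = 0 := by
  rw [ev_xor, T.ι_inj (mul_left_cancel h), CharTwo.add_self_eq_zero]

theorem Lift.assoc_zero (hok : P.tableOk = true) {t : ℕ × ℕ × ℕ} (ht : P.assocOk t = true) :
    ev T.U (P.assocEq t) = 0 := by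
  obtain ⟨a, b, c⟩ := t
  simp only [Pres.assocOk, Bool.and_eq_true, decide_eq_true_eq] at ht
  obtain ⟨⟨⟨⟨ha, hb, hc⟩, hA⟩, hB⟩, heq⟩ := ht
  have h2a : 2 ^ a < 128 := (Nat.pow_le_pow_right two_pos (by omega : a ≤ 6)).trans_lt (by norm_num)
  have h2b : 2 ^ b < 128 := (Nat.pow_le_pow_right two_pos (by omega : b ≤ 6)).trans_lt (by norm_num)
  obtain ⟨-, l1⟩ := T.mulw_spec hok _ h2a [b, c] (by
    intro k hk; simp only [List.mem_cons, List.not_mem_nil, or_false] at hk; omega)
  obtain ⟨-, r1⟩ := T.mulw_spec hok _ h2b [c] (by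
    intro k hk; simp only [List.mem_cons, List.not_mem_nil, or_false] at hk; omega)
  obtain ⟨-, r2⟩ := T.mulw_spec hok _ h2a (bitsList (P.mulw (2 ^ b) [c]).1) (bitsList_lt _)
  rw [hA] at l1 r2
  rw [hB] at r1
  refine T.eq_of_same (e := (P.mulw (2 ^ a) [b, c]).1) ?_
  rw [← l1, heq, ev_xor, T.ι_add, ← mul_assoc, ← r2, mul_assoc, ← r1]
  simp [Lift.yw, mul_assoc]

/-! ### Conjugation -/

/-- Conjugation data: matrix of the conjugating element, generators with their images and unknowns, nodes
`(normal form, image, correction)`, the origin of each node after the first, and closing pairs. -/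
structure Conj where
  /-- Matrix of conjugation by the element. -/
  mat : List ℕ
  /-- Normal form, normal form of the image, packed unknowns. -/
  gens : List (ℕ × ℕ × ℕ)
  /-- The nodes. -/
  nodes : List (ℕ × ℕ × ℕ)
  /-- Parent and generator of each node. -/
  src : List (ℕ × ℕ)
  /-- Parent, generator and node reached. -/
  close : List (ℕ × ℕ × ℕ)

variable (P)

/-- The node obtained from a node and a generator. -/
def Pres.next (C : Conj) (p k : ℕ) : ℕ × ℕ × ℕ :=
  let n := C.nodes.getD p (0, 0, 0)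
  let g := C.gens.getD k (0, 0, 0)
  let x := P.mulw n.1 (bitsList g.1)
  let z := P.mulw n.2.1 (bitsList g.2.1)
  (x.1, z.1, P.right (bitsList g.2.1) n.2.2 ^^^ z.2 ^^^ g.2.2 ^^^ app C.mat x.2)

/-- The test for conjugation data. -/
def Pres.conjOk (C : Conj) : Bool :=
  decide (C.nodes.head? = some (0, 0, 0)) &&
    (C.gens.all fun g => decide (g.1 < 128 ∧ g.2.1 < 128)) &&
    ((List.range (C.nodes.length - 1)).all fun i =>
      let s := C.src.getD i (0, 0)
      decide (s.1 ≤ i ∧ s.2 < C.gens.length) &&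
        decide (C.nodes.getD (i + 1) (0, 0, 0) = P.next C s.1 s.2)) &&
    C.close.all fun c =>
      decide (c.1 < C.nodes.length ∧ c.2.1 < C.gens.length ∧ c.2.2 < C.nodes.length) &&
        decide ((P.next C c.1 c.2.1).1 = (C.nodes.getD c.2.2 (0, 0, 0)).1 ∧
          (P.next C c.1 c.2.1).2.1 = (C.nodes.getD c.2.2 (0, 0, 0)).2.1)

/-- The equations of conjugation data. -/
def Pres.conjEq (C : Conj) (c : ℕ × ℕ × ℕ) : ℕ :=
  (P.next C c.1 c.2.1).2.2 ^^^ (C.nodes.getD c.2.2 (0, 0, 0)).2.2

variable {P}

/-- An element realising conjugation data. -/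
structure Lift.Realises (C : Conj) (g : E) : Prop where
  move : ∀ v, g * T.ι v * g⁻¹ = T.ι (mulV C.mat v)
  gen : ∀ k < C.gens.length, g * T.yw (bitsList (C.gens.getD k (0, 0, 0)).1) * g⁻¹ =
    T.yw (bitsList (C.gens.getD k (0, 0, 0)).2.1) * T.ι (ev T.U (C.gens.getD k (0, 0, 0)).2.2)

/-- The meaning of a node. -/
def Lift.NodeGood (g : E) (n : ℕ × ℕ × ℕ) : Prop :=
  (n.1 < 128 ∧ n.2.1 < 128) ∧
    g * T.yw (bitsList n.1) * g⁻¹ = T.yw (bitsList n.2.1) * T.ι (ev T.U n.2.2)

theorem Lift.next_good (hok : P.tableOk = true) {C : Conj} {g : E} (hg : T.Realises C g)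
    (hgens : ∀ k < C.gens.length, (C.gens.getD k (0, 0, 0)).1 < 128 ∧ (C.gens.getD k (0, 0, 0)).2.1 < 128)
    {p k : ℕ} (hp : T.NodeGood g (C.nodes.getD p (0, 0, 0))) (hk : k < C.gens.length) :
    T.NodeGood g (P.next C p k) := by
  obtain ⟨⟨he, ha⟩, hn⟩ := hp
  obtain ⟨x1, x2⟩ := T.mulw_spec hok _ he (bitsList (C.gens.getD k (0, 0, 0)).1) (bitsList_lt _)
  obtain ⟨z1, z2⟩ := T.mulw_spec hok _ ha (bitsList (C.gens.getD k (0, 0, 0)).2.1) (bitsList_lt _)
  refine ⟨⟨x1, z1⟩, ?_⟩
  simp only [Pres.next]
  generalize C.nodes.getD p (0, 0, 0) = n at *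
  have h2 := hg.gen k hk
  generalize C.gens.getD k (0, 0, 0) = q at *
  generalize P.mulw n.1 (bitsList q.1) = x at *
  generalize P.mulw n.2.1 (bitsList q.2.1) = z at *
  have e1 : T.yw (bitsList x.1) = T.yw (bitsList n.1) * T.yw (bitsList q.1) * (T.ι (ev T.U x.2))⁻¹ :=
    eq_mul_inv_of_mul_eq x2.symm
  have e2 : (T.ι (ev T.U x.2))⁻¹ = T.ι (ev T.U x.2) := inv_eq_of_mul_eq_one_right (by
    rw [← T.ι_add, CharTwo.add_self_eq_zero, T.ι_zero])
  rw [e2] at e1
  calc g * T.yw (bitsList x.1) * g⁻¹ = (g * T.yw (bitsList n.1) * g⁻¹) *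
        (g * T.yw (bitsList q.1) * g⁻¹) * (g * T.ι (ev T.U x.2) * g⁻¹) := by rw [e1]; group
    _ = T.yw (bitsList n.2.1) * (T.ι (ev T.U n.2.2) * T.yw (bitsList q.2.1)) *
        T.ι (ev T.U q.2.2) * T.ι (mulV C.mat (ev T.U x.2)) := by
        rw [hn, h2, hg.move]; simp only [mul_assoc]
    _ = _ := by
        rw [T.move_word _ (bitsList_lt _), ← mul_assoc (T.yw (bitsList n.2.1)), z2]
        rw [ev_xor, ev_xor, ev_xor, ev_app, T.ι_add, T.ι_add, T.ι_add]
        generalize T.yw (bitsList z.1) = Y
        have hcomm : ∀ a b, T.ι a * T.ι b = T.ι b * T.ι a := fun a b => by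
          rw [← T.ι_add, ← T.ι_add, add_comm]
        simp only [mul_assoc]
        rw [← mul_assoc (T.ι (ev T.U z.2)), hcomm (ev T.U z.2)]
        simp only [mul_assoc]

theorem Lift.conj_zero (hok : P.tableOk = true) {C : Conj} (hC : P.conjOk C = true) {g : E}
    (hg : T.Realises C g) {c : ℕ × ℕ × ℕ} (hc : c ∈ C.close) : ev T.U (P.conjEq C c) = 0 := by
  simp only [Pres.conjOk, Bool.and_eq_true, List.all_eq_true, decide_eq_true_eq, List.mem_range] at hC
  obtain ⟨⟨⟨h0, hq⟩, hsrc⟩, hcl⟩ := hC
  have hgens : ∀ k < C.gens.length,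
      (C.gens.getD k (0, 0, 0)).1 < 128 ∧ (C.gens.getD k (0, 0, 0)).2.1 < 128 := fun k hk => by
    rw [List.getD_eq_getElem _ _ hk]; exact hq _ (List.getElem_mem hk)
  have hall : ∀ i < C.nodes.length, T.NodeGood g (C.nodes.getD i (0, 0, 0)) := by
    intro i
    induction i using Nat.strong_induction_on with
    | _ i ih =>
    intro hi
    match i with
    | 0 =>
      have : C.nodes.getD 0 (0, 0, 0) = (0, 0, 0) := by
        cases hN : C.nodes with
        | nil => simp
        | cons a l => rw [hN] at h0; simpa using h0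
      rw [this]
      refine ⟨⟨by norm_num, by norm_num⟩, ?_⟩
      simp [bitsList, Lift.yw, ev_zero, T.ι_zero]
    | m + 1 =>
      obtain ⟨⟨hs1, hs2⟩, hs3⟩ := hsrc m (by omega)
      rw [hs3]
      exact T.next_good hok hg hgens (ih _ (by omega) (by omega)) hs2
  obtain ⟨⟨hp, hk, ht⟩, he, ha⟩ := hcl c hc
  obtain ⟨-, hn⟩ := T.next_good hok hg hgens (hall _ hp) hk
  obtain ⟨-, hn'⟩ := hall _ ht
  rw [he, ha] at hn
  exact T.eq_of_same (hn.symm.trans hn')

/-! ### Adjusting the lifts -/

variable (P)

/-- The correction collected along a word when each lift is multiplied by its vector in `d`. -/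
def Pres.one (d : List ℕ) (L : List ℕ) : ℕ :=
  L.foldl (fun x k => app (P.mats.getD k []) x ^^^ d.getD k 0) 0

/-- The new packed value of a relation. -/
def Pres.newVal (d : List ℕ) (R : List ℕ × List ℕ × ℕ) : ℕ :=
  R.2.2 ^^^ (P.one d R.1 ^^^ P.one d R.2.1)

variable {P}

theorem Lift.one_spec (d : List ℕ) : ∀ L : List ℕ, (∀ k ∈ L, k < 7) →
    (L.map fun k => T.y k * T.ι (ev T.U (d.getD k 0))).prod = T.yw L * T.ι (ev T.U (P.one d L)) := by
  intro L
  induction L using List.reverseRecOn with
  | nil => intro _; simp [Lift.yw, Pres.one, ev_zero, T.ι_zero]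
  | append_singleton L k ih =>
    intro h
    rw [List.map_append, List.prod_append, ih (fun l hl => h l (List.mem_append_left _ hl)),
      T.yw_append, T.yw_single]
    conv_rhs => rw [Pres.one, List.foldl_append]
    simp only [List.map_cons, List.map_nil, List.prod_cons, List.prod_nil, mul_one, List.foldl_cons,
      List.foldl_nil, ev_xor, ev_app, T.ι_add]
    rw [show L.foldl (fun x k => app (P.mats.getD k []) x ^^^ d.getD k 0) 0 = P.one d L from rfl,
      mul_assoc, ← mul_assoc (T.ι (ev T.U (P.one d L))), T.move k (h k (by simp)), mul_assoc,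
      mul_assoc]

theorem Lift.adjusted (d : List ℕ) {R : List ℕ × List ℕ × ℕ} (hR : R ∈ P.rels)
    (h1 : ∀ k ∈ R.1, k < 7) (h2 : ∀ k ∈ R.2.1, k < 7) :
    (R.1.map fun k => T.y k * T.ι (ev T.U (d.getD k 0))).prod =
      (R.2.1.map fun k => T.y k * T.ι (ev T.U (d.getD k 0))).prod * T.ι (ev T.U (P.newVal d R)) := by
  rw [T.one_spec d _ h1, T.one_spec d _ h2, Lift.yw, T.rel R hR]
  rw [Pres.newVal, ev_xor, ev_xor, Lift.yw, mul_assoc, ← T.ι_add, mul_assoc, ← T.ι_add]
  refine congrArg (fun v => (R.2.1.map T.y).prod * T.ι v) ?_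
  generalize ev T.U R.2.2 = u
  generalize ev T.U (P.one d R.1) = v
  generalize ev T.U (P.one d R.2.1) = w
  funext z
  simp only [Pi.add_apply]
  generalize u z = a
  generalize v z = b
  generalize w z = c
  revert a b c
  decide

end Cfsg.Agent.Classical.Collect
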