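import Cfsg.Agent.Lib.Classical.CollectCert
import Cfsg.Agent.S0051

/-! From a certificate as in `CollectCert` to lifts with prescribed relator values in any extension, and
from lifts satisfying the relators to a complement of an abelian kernel, by Gaschütz's theorem. -/

set_option autoImplicit false

namespace Cfsg.Agent.Classical.Collect

/-- An extension of `G` by the module with the given action. -/
structure Ext (G : Type*) [Group G] (act : G → V → V) (E : Type*) [Group E] where
  /-- The projection. -/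
  π : E →* G
  /-- The embedding. -/
  ι : V → E
  ι_add : ∀ a b, ι (a + b) = ι a * ι b
  ι_inj : Function.Injective ι
  π_ι : ∀ v, π (ι v) = 1
  exists_ι : ∀ x, π x = 1 → ∃ v, ι v = x
  π_surj : Function.Surjective π
  conj : ∀ x v, x * ι v * x⁻¹ = ι (act (π x) v)

/-- A full certificate. -/
structure Cert where
  /-- The presentation with its table. -/
  pres : Pres
  /-- The conjugation data. -/
  conjs : List Conj
  /-- The triples for associativity. -/
  triples : List (ℕ × ℕ × ℕ)
  /-- The packed equations. -/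
  eqs : List ℕ
  /-- The selected scalar equations: equation and coordinate. -/
  sel : List (ℕ × ℕ)
  /-- Their masks. -/
  scal : List ℕ
  /-- The adjustment of the lifts. -/
  adj : List ℕ
  /-- The mask of the free parameter. -/
  lam : ℕ
  /-- The exceptional relator values. -/
  vstar : List ℕ
  /-- For each relation, for each coordinate, the selected equations to add up. -/
  combos : List (List ℕ)

variable (C : Cert)

/-- The equations of the certificate. -/
def Cert.allEqs : List ℕ :=
  C.triples.map C.pres.assocEq ++ C.conjs.flatMap fun c => c.close.map (C.pres.conjEq c)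

/-- Adding up the selected equations named by the bits of a number. -/
def combine : List ℕ → ℕ → ℕ
  | [], _ => 0
  | m :: L, b => (if b.testBit 0 then m else 0) ^^^ combine L (b / 2)

theorem evb_combine (U : ℕ → ZMod 2) : ∀ (L : List ℕ), (∀ m ∈ L, evb U m = 0) →
    ∀ b, evb U (combine L b) = 0
  | [], _, _ => by simp [combine, evb_zero]
  | m :: L, h, b => by
    rw [combine, evb_xor, evb_combine U L (fun x hx => h x (List.mem_cons_of_mem _ hx)), add_zero]
    split
    · exact h m (List.mem_cons_self ..)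
    · exact evb_zero U

/-- The unknowns of one relator or conjugation are at consecutive bits. -/
def unknownOk (r u : ℕ) : Bool :=
  decide (11 * r + 11 ≤ width) && (List.range 11).all fun i => decide (slice u i = 2 ^ (11 * r + i))

/-- The checks. -/
def Cert.ok : Bool :=
  C.pres.tableOk &&
    ((List.range C.pres.rels.length).all fun r =>
      unknownOk r (C.pres.rels.getD r ([], [], 0)).2.2) &&
    ((List.range C.conjs.length).all fun c =>
      let cj := C.conjs.getD c ⟨[], [], [], [], []⟩
      decide (cj.gens.length ≤ 4) && (List.range cj.gens.length).all fun k =>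
        unknownOk (C.pres.rels.length + (4 * c + k)) (cj.gens.getD k (0, 0, 0)).2.2) &&
    (C.sel.all fun s => decide (s.2 < 11)) &&
    (C.pres.rels.all fun R => R.1.all (fun k => decide (k < 7)) && R.2.1.all fun k => decide (k < 7)) &&
    C.triples.all C.pres.assocOk && C.conjs.all C.pres.conjOk &&
    decide (C.eqs = C.allEqs) &&
    decide (C.scal = C.sel.map fun s => slice (C.eqs.getD s.1 0) s.2) &&
    ((List.range C.pres.rels.length).all fun r => (List.range 11).all fun i =>
      decide ((slice (C.pres.newVal C.adj (C.pres.rels.getD r ([], [], 0))) i ^^^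
          if (C.vstar.getD r 0).testBit i then C.lam else 0) =
        combine C.scal ((C.combos.getD r []).getD i 0)))

theorem evb_two_pow (U : ℕ → ZMod 2) {k : ℕ} (hk : k < width) : evb U (2 ^ k) = U k := by
  rw [evb, Finset.sum_eq_single k]
  · simp
  · intro j _ hj
    rw [if_neg]
    simp [Nat.testBit_two_pow, Ne.symm hj]
  · exact fun h => absurd (Finset.mem_range.mpr hk) h

variable {C} {G : Type*} [Group G] {act : G → V → V} {E : Type*} [Group E]

/-- The exceptional value of a relation. -/
def starVec (m : ℕ) : V := fun i => if m.testBit i.val then 1 else 0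

theorem Ext.exists_remainder (X : Ext G act E) {a b : E} (h : X.π a = X.π b) :
    ∃ v, a = b * X.ι v := by
  obtain ⟨v, hv⟩ := X.exists_ι (b⁻¹ * a) (by rw [map_mul, map_inv, h, inv_mul_cancel])
  exact ⟨v, by rw [hv, mul_inv_cancel_left]⟩

theorem map_prod_word (X : Ext G act E) (g : ℕ → G) (y : ℕ → E) (hy : ∀ k, X.π (y k) = g k)
    (L : List ℕ) : X.π ((L.map y).prod) = (L.map g).prod := by
  rw [map_list_prod, List.map_map]
  exact congrArg List.prod (List.map_congr_left fun k _ => hy k)

/-- The conjugating elements realise the conjugation data. -/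
def Cert.ConjFacts (C : Cert) (act : G → V → V) (g : ℕ → G) (h : ℕ → G) : Prop :=
  ∀ c, ∀ hc : c < C.conjs.length,
    (∀ v, act (h c) v = mulV (C.conjs[c]).mat v) ∧
      ∀ q ∈ (C.conjs[c]).gens,
        h c * ((bitsList q.1).map g).prod * (h c)⁻¹ = ((bitsList q.2.1).map g).prod

/-- Any extension has lifts whose relator values are a multiple of the exceptional ones. -/
theorem Cert.exists_lifts (C : Cert) (hok : C.ok = true) (g : ℕ → G) (h : ℕ → G)
    (hmat : ∀ k < 7, ∀ v, act (g k)⁻¹ v = mulV (C.pres.mats.getD k []) v)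
    (hrel : ∀ R ∈ C.pres.rels, (R.1.map g).prod = (R.2.1.map g).prod)
    (hconj : C.ConjFacts act g h) (X : Ext G act E) :
    ∃ (y : ℕ → E) (lam : ZMod 2), (∀ k, X.π (y k) = g k) ∧
      ∀ r, ∀ hr : r < C.pres.rels.length,
        ((C.pres.rels[r]).1.map y).prod =
          ((C.pres.rels[r]).2.1.map y).prod * X.ι (lam • starVec (C.vstar.getD r 0)) := by
  classical
  choose y₀ hy₀ using fun k => X.π_surj (g k)
  choose t ht using fun c => X.π_surj (h c)
  let sides : ℕ → E × E := fun r =>
    if r < C.pres.rels.length then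
      (((C.pres.rels.getD r ([], [], 0)).1.map y₀).prod, ((C.pres.rels.getD r ([], [], 0)).2.1.map y₀).prod)
    else
      let c := (r - C.pres.rels.length) / 4
      let q := ((C.conjs.getD c ⟨[], [], [], [], []⟩).gens.getD ((r - C.pres.rels.length) % 4) (0, 0, 0))
      (t c * ((bitsList q.1).map y₀).prod * (t c)⁻¹, ((bitsList q.2.1).map y₀).prod)
  let vals : ℕ → V := fun r => Classical.epsilon fun v => (sides r).1 = (sides r).2 * X.ι v
  let U : ℕ → ZMod 2 := fun k => vals (k / 11) ⟨k % 11, Nat.mod_lt _ (by norm_num)⟩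
  simp only [Cert.ok, Bool.and_eq_true, List.all_eq_true, List.mem_range, decide_eq_true_eq] at hok
  obtain ⟨⟨⟨⟨⟨⟨⟨⟨⟨htab, hrs⟩, hcs⟩, hsel⟩, hlt⟩, htri⟩, hcj⟩, heqs⟩, hscal⟩, hcomb⟩ := hok
  -- the packed unknown of a slot evaluates to its value
  have hev : ∀ (a b : E) (u r : ℕ), unknownOk r u = true → sides r = (a, b) → X.π a = X.π b →
      a = b * X.ι (ev U u) := by
    intro a b u r h1 hs hab
    rw [unknownOk, Bool.and_eq_true, decide_eq_true_eq, List.all_eq_true] at h1
    have h2 : ev U u = vals r := by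
      funext i
      have h3 := h1.2 i.val (List.mem_range.mpr i.2)
      rw [decide_eq_true_eq] at h3
      have hi := i.2
      rw [ev, h3, evb_two_pow _ (by omega)]
      have e1 : (11 * r + i.val) / 11 = r := by omega
      have e2 : (11 * r + i.val) % 11 = i.val := by omega
      simp only [U, e1, e2]
    rw [h2]
    have := Classical.epsilon_spec (p := fun v => (sides r).1 = (sides r).2 * X.ι v)
      (by simp only [hs]; exact X.exists_remainder hab)
    simp only [hs] at this
    convert this using 3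
    simp only [vals, hs]
  have hmove : ∀ k < 7, ∀ v, X.ι v * y₀ k = y₀ k * X.ι (mulV (C.pres.mats.getD k []) v) := by
    intro k hk v
    have h1 := X.conj (y₀ k)⁻¹ v
    rw [map_inv, hy₀, hmat k hk, inv_inv] at h1
    rw [← h1]; group
  have hrelU : ∀ R ∈ C.pres.rels, (R.1.map y₀).prod = (R.2.1.map y₀).prod * X.ι (ev U R.2.2) := by
    intro R hR
    obtain ⟨r, hr, rfl⟩ := List.getElem_of_mem hR
    refine hev _ _ _ r (List.getD_eq_getElem _ ([], [], 0) hr ▸ hrs r hr) ?_ ?_
    · simp only [sides, if_pos hr]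
      rw [List.getD_eq_getElem _ _ hr]
    · rw [map_prod_word X g y₀ hy₀, map_prod_word X g y₀ hy₀, hrel _ hR]
  let T : Lift C.pres E := ⟨X.ι, y₀, U, X.ι_add, X.ι_inj, hmove, hrelU⟩
  have hreal : ∀ c, ∀ hc : c < C.conjs.length, T.Realises (C.conjs[c]) (t c) := by
    intro c hc
    refine ⟨fun v => by show t c * X.ι v * (t c)⁻¹ = _; rw [X.conj, ht, (hconj c hc).1], fun k hk => ?_⟩
    obtain ⟨h8, hk'⟩ := hcs c hc
    rw [List.getD_eq_getElem C.conjs _ hc] at h8 hk'
    refine hev _ _ _ (C.pres.rels.length + (4 * c + k)) (hk' k hk) ?_ ?_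
    · have h1 : ¬ C.pres.rels.length + (4 * c + k) < C.pres.rels.length := by omega
      have h2 : (C.pres.rels.length + (4 * c + k) - C.pres.rels.length) / 4 = c := by omega
      have h3 : (C.pres.rels.length + (4 * c + k) - C.pres.rels.length) % 4 = k := by omega
      simp only [sides, if_neg h1, h2, h3, List.getD_eq_getElem C.conjs _ hc]
      rfl
    · rw [List.getD_eq_getElem _ _ hk, map_mul, map_mul, map_inv, ht, Lift.yw, Lift.yw,
        map_prod_word X g y₀ hy₀, map_prod_word X g y₀ hy₀]
      exact (hconj c hc).2 _ (List.getElem_mem hk)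
  have hz : ∀ m ∈ C.allEqs, ev U m = 0 := by
    intro m hm
    simp only [Cert.allEqs, List.mem_append, List.mem_map, List.mem_flatMap] at hm
    rcases hm with ⟨tr, htr, rfl⟩ | ⟨c, hc, q, hq, rfl⟩
    · exact T.assoc_zero htab (htri tr htr)
    · obtain ⟨ci, hci, rfl⟩ := List.getElem_of_mem hc
      exact T.conj_zero htab (hcj _ hc) (hreal ci hci) hq
  have hscal0 : ∀ m ∈ C.scal, evb U m = 0 := by
    intro m hm
    rw [hscal, List.mem_map] at hm
    obtain ⟨s, hs, rfl⟩ := hm
    by_cases h1 : s.1 < C.eqs.length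
    · rw [List.getD_eq_getElem _ _ h1]
      have h4 : C.eqs[s.1] ∈ C.eqs := List.getElem_mem h1
      have h5 : C.eqs[s.1] ∈ C.allEqs := by rw [← heqs]; exact h4
      have h2 := hz C.eqs[s.1] h5
      exact congrFun h2 ⟨s.2, hsel s hs⟩
    · rw [List.getD_eq_default _ _ (not_lt.mp h1), slice_zero, evb_zero]
  refine ⟨fun k => y₀ k * X.ι (ev U (C.adj.getD k 0)), evb U C.lam,
    fun k => by rw [map_mul, X.π_ι, mul_one, hy₀], fun r hr => ?_⟩
  have hR : C.pres.rels[r] ∈ C.pres.rels := List.getElem_mem hr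
  refine (T.adjusted C.adj hR (hlt _ hR).1 (hlt _ hR).2).trans ?_
  refine congrArg (fun v => _ * X.ι v) (funext fun i => ?_)
  have h1 := hcomb r hr i.val i.2
  rw [List.getD_eq_getElem _ _ hr] at h1
  have h2 := congrArg (evb U) h1
  rw [evb_combine U _ hscal0, evb_xor] at h2
  show evb U (slice _ i.val) = evb U C.lam * starVec (C.vstar.getD r 0) i
  rw [CharTwo.add_eq_zero] at h2
  rw [h2, starVec]
  split <;> simp [evb_zero]

/-! ### A complement from lifts satisfying the relations -/

variable [Finite G] [Finite E]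

/-- Lifts satisfying the relations give a complement of the kernel, if the base has odd index. -/
theorem exists_complement (C : Cert) (hok : C.ok = true) (g : ℕ → G)
    (hmat : ∀ k < 7, ∀ v, act (g k)⁻¹ v = mulV (C.pres.mats.getD k []) v)
    (hfree : ∀ a < 128, ∀ b < 128, ((bitsList a).map g).prod = ((bitsList b).map g).prod → a = b)
    (hcard : ∃ d, Odd d ∧ Nat.card G = 128 * d)
    (X : Ext G act E) (y : ℕ → E) (hy : ∀ k, X.π (y k) = g k)
    (hrel : ∀ R ∈ C.pres.rels, (R.1.map y).prod = (R.2.1.map y).prod) :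
    ∃ H : Subgroup E, H ⊓ X.π.ker = ⊥ ∧ H ⊔ X.π.ker = ⊤ := by
  simp only [Cert.ok, Bool.and_eq_true] at hok
  have htab : C.pres.tableOk = true := hok.1.1.1.1.1.1.1.1.1
  let T : Lift C.pres E := ⟨X.ι, y, fun _ => 0, X.ι_add, X.ι_inj, fun k hk v => by
    have h1 := X.conj (y k)⁻¹ v
    rw [map_inv, hy, hmat k hk, inv_inv] at h1
    rw [← h1]; group, fun R hR => by
    have h0 : X.ι 0 = 1 := by
      have h := X.ι_add 0 0
      rw [add_zero] at h
      exact left_eq_mul.mp h
    rw [ev_of_zero, h0, mul_one]; exact hrel R hR⟩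
  let S : Set E := {x | ∃ e < 128, T.yw (bitsList e) = x}
  have hmul : ∀ a ∈ S, ∀ b ∈ S, a * b ∈ S := by
    rintro _ ⟨a, ha, rfl⟩ _ ⟨b, hb, rfl⟩
    obtain ⟨h1, h2⟩ := T.mulw_spec htab a ha (bitsList b) (bitsList_lt b)
    rw [show T.U = fun _ => 0 from rfl, ev_of_zero, T.ι_zero, mul_one] at h2
    exact ⟨_, h1, h2.symm⟩
  have hone : (1 : E) ∈ S := ⟨0, by norm_num, by simp [bitsList, Lift.yw]⟩
  let M : Submonoid E := ⟨⟨S, fun ha hb => hmul _ ha _ hb⟩, hone⟩
  let A : Subgroup E :=
    { M with
      inv_mem' := fun {x} hx => by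
        have e : x ^ (orderOf x - 1) = x⁻¹ := eq_inv_of_mul_eq_one_left (by
          rw [← pow_succ, Nat.sub_add_cancel (orderOf_pos x), pow_orderOf_eq_one])
        show x⁻¹ ∈ M
        rw [← e]
        exact pow_mem hx _ }
  have hπ : ∀ e, X.π (T.yw (bitsList e)) = ((bitsList e).map g).prod := fun e =>
    map_prod_word X g y hy _
  have hA : ∀ x ∈ A, X.π x = 1 → x = 1 := by
    rintro _ ⟨e, he, rfl⟩ h1
    rw [hπ] at h1
    rw [hfree e he 0 (by norm_num) (h1.trans (by simp [bitsList]))]
    simp [bitsList, Lift.yw]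
  have hAK : A ⊓ X.π.ker = ⊥ := (Subgroup.eq_bot_iff_forall _).mpr fun x hx => hA x hx.1 hx.2
  have himg : Nat.card (A.map X.π) = 128 := by
    let f : Fin 128 → A.map X.π := fun e =>
      ⟨X.π (T.yw (bitsList e.val)), Subgroup.mem_map_of_mem _ ⟨e.val, e.2, rfl⟩⟩
    have hb : Function.Bijective f := by
      refine ⟨fun a b h => ?_, fun z => ?_⟩
      · have h1 := congrArg Subtype.val h
        simp only [f, hπ] at h1
        exact Fin.ext (hfree _ a.2 _ b.2 h1)
      · obtain ⟨x, hx⟩ := z
        obtain ⟨_, ⟨e, he, rfl⟩, rfl⟩ := hx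
        exact ⟨⟨e, he⟩, rfl⟩
    rw [← Nat.card_congr (Equiv.ofBijective f hb), Nat.card_fin]
  obtain ⟨d, hd, hcd⟩ := hcard
  let U := A ⊔ X.π.ker
  have hidx : U.index = d := by
    show (A ⊔ X.π.ker).index = d
    rw [← Subgroup.comap_map_eq, Subgroup.index_comap_of_surjective _ X.π_surj]
    have h1 := Subgroup.card_mul_index (A.map X.π)
    rw [himg, hcd] at h1
    exact Nat.eq_of_mul_eq_mul_left (by norm_num) h1
  have hcomm : IsMulCommutative X.π.ker := ⟨⟨fun a b => Subtype.ext (by
    obtain ⟨u, hu⟩ := X.exists_ι a.1 a.2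
    obtain ⟨v, hv⟩ := X.exists_ι b.1 b.2
    simp only [Subgroup.coe_mul]
    rw [← hu, ← hv, ← X.ι_add, ← X.ι_add, add_comm])⟩⟩
  have hk : Nat.card X.π.ker = 2 ^ 11 := by
    rw [← Nat.card_congr (Equiv.ofBijective (fun v : V => (⟨X.ι v, X.π_ι v⟩ : X.π.ker))
      ⟨fun a b h => X.ι_inj (congrArg Subtype.val h), fun z => by
        obtain ⟨v, hv⟩ := X.exists_ι z.1 z.2
        exact ⟨v, Subtype.ext hv⟩⟩), Nat.card_fun, Nat.card_zmod, Nat.card_fin]
  obtain ⟨H, hH⟩ := Cfsg.Agent.S0051.result X.π.ker U le_sup_right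
    (by rw [hk, hidx]; exact Nat.Coprime.pow_left _ (Nat.coprime_two_left.mpr hd))
    A le_sup_left hAK (sup_comm _ _)
  exact ⟨H, by rw [inf_comm]; exact hH.disjoint.eq_bot, by rw [sup_comm]; exact hH.sup_eq_top⟩

end Cfsg.Agent.Classical.Collect
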