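import Cfsg.Agent.Lib.Classical.CommutatorOrder

/-!
Every element of the special linear group over a finite field is a commutator, apart from the two smallest
plane groups.
-/

set_option autoImplicit false

namespace Cfsg.Agent.Classical.CommutatorSL

open Polynomial Module DirectSum

universe u v

variable {F : Type u} [Field F] {V : Type v} [AddCommGroup V] [Module F V]

theorem els_nil (h : End F V) : els h [] = [] := rfl

theorem els_cons (h : End F V) (p : V × ℕ) (l : List (V × ℕ)) :
    els h (p :: l) = allDown (orb h p.1) p.2 ++ els h l := List.flatMap_cons ..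

theorem length_els (h : End F V) : ∀ l : List (V × ℕ), (els h l).length = (l.map Prod.snd).sum
  | [] => rfl
  | p :: l => by rw [els_cons, List.length_append, length_allDown, length_els h l, List.map_cons, List.sum_cons]

theorem els_perm (h : End F V) {l l' : List (V × ℕ)} (hp : l.Perm l') : (els h l).Perm (els h l') :=
  hp.flatMap_right _

theorem spanL_eq_of_perm {l l' : List V} (hp : l.Perm l') : spanL F l = spanL F l' :=
  le_antisymm (spanL_mono fun _ hz => hp.subset hz) (spanL_mono fun _ hz => hp.symm.subset hz)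

theorem spanL_els_cons (h : End F V) (p : V × ℕ) (l : List (V × ℕ)) :
    spanL F (els h (p :: l)) = spanL F (allDown (orb h p.1) p.2) ⊔ spanL F (els h l) := by
  rw [els_cons, spanL_append]

theorem aeval_mem_of_lt (h : End F V) (v : V) {d : ℕ} (K : F[X]) (hK : K.natDegree < d) :
    aeval h K v ∈ spanL F (allDown (orb h v) d) := by
  rw [aeval_eq_sum_range' hK, LinearMap.sum_apply]
  refine Submodule.sum_mem _ fun i hi => ?_
  rw [LinearMap.smul_apply]
  exact Submodule.smul_mem _ _ (mem_spanL (mem_allDown.2 ⟨i, Finset.mem_range.1 hi, rfl⟩))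

theorem aeval_mem (h : End F V) (v : V) {P : F[X]} (hP : P.Monic) (hv : aeval h P v = 0) (K : F[X]) :
    aeval h K v ∈ spanL F (allDown (orb h v) P.natDegree) := by
  rw [← modByMonic_add_div K P, map_add, LinearMap.add_apply, mul_comm, map_mul, Module.End.mul_apply, hv,
    map_zero, add_zero]
  rcases Nat.eq_zero_or_pos P.natDegree with h0 | h0
  · rw [hP.natDegree_eq_zero.1 h0, modByMonic_one, map_zero, LinearMap.zero_apply]
    exact zero_mem _
  · exact aeval_mem_of_lt h v _ (natDegree_modByMonic_lt _ hP fun e => by simp [e] at h0)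

theorem closed_of_monic (h : End F V) (W₀ : Submodule F V) (v : V) (Q : F[X]) (hQ : Q.Monic)
    (hQ1 : 1 ≤ Q.natDegree) (hQ0 : Q.coeff 0 ≠ 0) (hmem : aeval h Q v ∈ W₀) : Closed h W₀ (v, Q.natDegree) := by
  refine ⟨hQ1, -Q.coeff 0, neg_ne_zero.2 hQ0, ?_⟩
  show h (orb h v (Q.natDegree - 1)) - -Q.coeff 0 • orb h v 0 ∈
    W₀ ⊔ spanL F ((down (orb h v) (Q.natDegree - 1)).map Prod.fst)
  rw [orb_succ, Nat.sub_add_cancel hQ1]
  obtain ⟨e, he⟩ : ∃ e, Q.natDegree = e + 1 := ⟨Q.natDegree - 1, by omega⟩
  rw [he, Nat.add_sub_cancel]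
  have h1 : aeval h Q v = ∑ i ∈ Finset.range (e + 2), Q.coeff i • orb h v i := by
    rw [aeval_eq_sum_range, he, LinearMap.sum_apply]
    exact Finset.sum_congr rfl fun i _ => LinearMap.smul_apply ..
  have hc : Q.coeff (e + 1) = 1 := by rw [← he]; exact hQ
  rw [Finset.sum_range_succ', Finset.sum_range_succ, hc, one_smul] at h1
  have h2 : orb h v (e + 1) - -Q.coeff 0 • orb h v 0
      = aeval h Q v - ∑ i ∈ Finset.range e, Q.coeff (i + 1) • orb h v (i + 1) := by
    rw [h1, neg_smul]; abel
  rw [h2]
  refine sub_mem (Submodule.mem_sup_left hmem) (Submodule.mem_sup_right (Submodule.sum_mem _ fun i hi =>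
    Submodule.smul_mem _ _ (mem_spanL ?_)))
  have hj := Finset.mem_range.1 hi
  clear h2 h1 he hc hi
  induction e with
  | zero => omega
  | succ k ih =>
    rcases Nat.lt_succ_iff_lt_or_eq.1 hj with hj | rfl
    · exact List.mem_cons_of_mem _ (ih hj)
    · exact List.mem_cons_self ..

theorem closedSeq_of_closed (h : End F V) : ∀ (l : List (V × ℕ)) (W₀ : Submodule F V),
    (∀ p ∈ l, Closed h ⊥ p) → ClosedSeq h W₀ l
  | [], _, _ => trivial
  | p :: l, _, hl => ⟨closed_mono bot_le (hl p (List.mem_cons_self ..)),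
      closedSeq_of_closed h l _ fun q hq => hl q (List.mem_cons_of_mem _ hq)⟩

/-- The number of pieces of even length. -/
def evenCount (l : List (V × ℕ)) : ℕ := (l.filter fun p => p.2 % 2 = 0).length

theorem evenCount_cons (p : V × ℕ) (l : List (V × ℕ)) :
    evenCount (p :: l) = evenCount l + if p.2 % 2 = 0 then 1 else 0 := by
  unfold evenCount
  rw [List.filter_cons]
  split_ifs with h <;> simp_all

theorem evenCount_perm {l l' : List (V × ℕ)} (hp : l.Perm l') : evenCount l = evenCount l' :=
  (hp.filter _).length_eq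

theorem split_perm (l : List (V × ℕ)) :
    ((l.filter fun p => p.2 % 2 = 1) ++ l.filter fun p => p.2 % 2 = 0).Perm l := by
  refine List.Perm.trans ?_ (List.filter_append_perm (fun p : V × ℕ => p.2 % 2 = 1) l)
  refine List.Perm.append_left _ (List.Perm.of_eq (List.filter_congr fun p _ => ?_))
  rcases Nat.mod_two_eq_zero_or_one p.2 with h | h <;> simp [h]

theorem exists_even_of_odd_count {l : List (V × ℕ)} (hodd : Odd (evenCount l)) :
    ∃ A l', l.Perm (A :: l') ∧ A.2 % 2 = 0 ∧ Even (evenCount l') := by
  classical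
  obtain ⟨A, hA⟩ : ∃ A, A ∈ l.filter fun p => p.2 % 2 = 0 := by
    refine List.exists_mem_of_ne_nil _ fun e => ?_
    rw [evenCount, e] at hodd
    simp at hodd
  rw [List.mem_filter, decide_eq_true_eq] at hA
  refine ⟨A, l.erase A, List.perm_cons_erase hA.1, hA.2, ?_⟩
  rw [evenCount_perm (List.perm_cons_erase hA.1), evenCount_cons, if_pos hA.2] at hodd
  exact Nat.not_odd_iff_even.1 fun h => (Nat.not_even_iff_odd.2 hodd) h.add_one

variable [FiniteDimensional F V]

/-- A first piece of even length and closed other pieces, an even number of them of even length. -/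
theorem isComm_of_pieces' (h : End F V) (hdet : LinearMap.det h = 1) (h3 : 3 ≤ finrank F V) (A : V × ℕ)
    (O l : List (V × ℕ)) (hA : A.2 % 2 = 0) (hO : ∀ p ∈ O, p.2 % 2 = 1) (hOc : ClosedSeq h ⊥ O)
    (hl : ∀ p ∈ l, Closed h ⊥ p) (hev : Even (evenCount l)) (hA1 : 1 ≤ A.2)
    (hAc : ∃ c : F, c ≠ 0 ∧ h (orb h A.1 (A.2 - 1)) - c • A.1 ∈
      spanL F (allDown (fun j => orb h A.1 (j + 1)) (A.2 - 1) ++ els h (O ++ l)))
    (hspan : ⊤ ≤ spanL F (els h (A :: (O ++ l)))) (hlen : ((A :: (O ++ l)).map Prod.snd).sum = finrank F V) :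
    IsComm h := by
  classical
  set lo := l.filter fun p => p.2 % 2 = 1 with hlo
  set le := l.filter fun p => p.2 % 2 = 0 with hle
  have hp : (O ++ lo ++ le).Perm (O ++ l) := by
    rw [List.append_assoc]; exact (split_perm l).append_left _
  have hseq : ∀ (O' : List (V × ℕ)) (W₀ : Submodule F V), ClosedSeq h W₀ O' → ClosedSeq h W₀ (O' ++ lo) := by
    intro O'
    induction O' with
    | nil => exact fun W₀ _ => closedSeq_of_closed h _ _ fun p hp => hl p (List.mem_filter.1 hp).1
    | cons p O' ih => exact fun W₀ hc => ⟨hc.1, ih _ hc.2⟩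
  refine isComm_of_pieces h hdet h3 A (O ++ lo) le (Nat.even_iff.2 hA) (by omega) (fun p hp => ?_)
    (hseq O ⊥ hOc) (fun p hp => ?_) hev ?_ ?_ ?_
  · rcases List.mem_append.1 hp with h' | h'
    · exact Nat.odd_iff.2 (hO p h')
    · rw [hlo, List.mem_filter, decide_eq_true_eq] at h'
      exact Nat.odd_iff.2 h'.2
  · rw [hle, List.mem_filter, decide_eq_true_eq] at hp
    exact ⟨Nat.even_iff.2 hp.2, hl p hp.1⟩
  · obtain ⟨c, hc, hm⟩ := hAc
    exact ⟨c, hc, (spanL_eq_of_perm ((els_perm h hp).append_left _)).symm.le hm⟩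
  · exact hspan.trans (spanL_eq_of_perm (els_perm h (hp.cons A))).symm.le
  · rw [(els_perm h (hp.cons A)).length_eq, length_els, hlen]

/-- An odd number of closed pieces of even length. -/
theorem isComm_of_odd (h : End F V) (hdet : LinearMap.det h = 1) (h3 : 3 ≤ finrank F V) (l : List (V × ℕ))
    (hl : ∀ p ∈ l, Closed h ⊥ p) (hodd : Odd (evenCount l)) (hspan : ⊤ ≤ spanL F (els h l))
    (hlen : (l.map Prod.snd).sum = finrank F V) : IsComm h := by
  classical
  obtain ⟨A, l', hperm, hA, hev⟩ := exists_even_of_odd_count hodd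
  obtain ⟨hA1, c, hc, hm⟩ := hl A (hperm.symm.subset (List.mem_cons_self ..))
  refine isComm_of_pieces' h hdet h3 A [] l' hA (by simp) trivial
    (fun p hp => hl p (hperm.symm.subset (List.mem_cons_of_mem _ hp))) hev hA1 ⟨c, hc, ?_⟩ ?_ ?_
  · rw [show orb h A.1 0 = A.1 by simp [orb], bot_sup_eq] at hm
    refine spanL_mono (fun z hz => List.mem_append.2 (Or.inl ?_)) hm
    rw [List.mem_map] at hz
    obtain ⟨q, hq, rfl⟩ := hz
    have h1 : q.1 ∈ allDown (orb h A.1) (A.2 - 1 + 1) ∧ ∀ k, q ∈ down (orb h A.1) k → ∃ j < k, orb h A.1 (j + 1) = q.1 := by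
      refine ⟨?_, fun k => ?_⟩
      · rw [← down_map_fst]; exact List.mem_append.2 (Or.inl (List.mem_map.2 ⟨q, hq, rfl⟩))
      · induction k with
        | zero => intro h'; simp [down] at h'
        | succ k ih =>
          intro h'
          rcases List.mem_cons.1 h' with h' | h'
          · exact ⟨k, Nat.lt_succ_self k, by rw [h']⟩
          · obtain ⟨j, hj, hje⟩ := ih h'
            exact ⟨j, Nat.lt_succ_of_lt hj, hje⟩
    exact mem_allDown.2 (h1.2 _ hq)
  · exact hspan.trans (spanL_eq_of_perm (els_perm h hperm)).le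
  · rw [← hlen]
    exact ((hperm.map Prod.snd).sum_eq).symm

/-- Pieces of a primary cyclic decomposition. -/
noncomputable def piece (t : V × F[X] × ℕ) : V × ℕ := (t.1, (t.2.1 ^ t.2.2).natDegree)

/-- A primary cyclic decomposition. -/
theorem exists_decomposition (h : End F V) : ∃ T : List (V × F[X] × ℕ),
    (∀ t ∈ T, t.2.1.Monic ∧ Irreducible t.2.1 ∧ 1 ≤ t.2.2 ∧ aeval h (t.2.1 ^ t.2.2) t.1 = 0) ∧
      ⊤ ≤ spanL F (els h (T.map piece)) ∧ ((T.map piece).map Prod.snd).sum = finrank F V := by
  classical
  haveI : Module.Finite F[X] (Module.AEval' h) := inferInstance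
  have htor : Module.IsTorsion F[X] (Module.AEval' h) := by
    intro x
    refine ⟨⟨h.charpoly, mem_nonZeroDivisors_of_ne_zero h.charpoly_monic.ne_zero⟩, ?_⟩
    obtain ⟨v, rfl⟩ := (Module.AEval'.of h).surjective x
    show h.charpoly • Module.AEval'.of h v = 0
    rw [show h.charpoly • Module.AEval'.of h v = Module.AEval'.of h (aeval h h.charpoly • v) from rfl,
      LinearMap.aeval_self_charpoly, zero_smul, map_zero]
  obtain ⟨I, hI, p, hp, e, ⟨E⟩⟩ := Module.equiv_directSum_of_isTorsion htor
  set g : I → F[X] := fun i => p i * C (p i).leadingCoeff⁻¹ with hg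
  have hgm : ∀ i, (g i).Monic := fun i => monic_mul_leadingCoeff_inv (hp i).ne_zero
  have hunit : ∀ i, IsUnit (C (p i).leadingCoeff⁻¹) := fun i =>
    isUnit_C.2 (inv_ne_zero (leadingCoeff_ne_zero.2 (hp i).ne_zero)).isUnit
  have hgi : ∀ i, Irreducible (g i) := fun i => (irreducible_mul_isUnit (hunit i)).2 (hp i)
  set v : I → V := fun i => (Module.AEval'.of h).symm
    (E.symm (DirectSum.lof F[X] I (fun i => F[X] ⧸ F[X] ∙ p i ^ e i) i (Submodule.Quotient.mk 1))) with hv
  have hsmul : ∀ (K : F[X]) (i : I), aeval h K (v i) = (Module.AEval'.of h).symm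
      (E.symm (DirectSum.lof F[X] I (fun i => F[X] ⧸ F[X] ∙ p i ^ e i) i (Submodule.Quotient.mk K))) := by
    intro K i
    refine (Module.AEval'.of h).injective ?_
    rw [LinearEquiv.apply_symm_apply,
      show Module.AEval'.of h (aeval h K (v i)) = K • Module.AEval'.of h (v i) from rfl, hv]
    simp only [LinearEquiv.apply_symm_apply]
    rw [← map_smul, ← map_smul, ← Submodule.Quotient.mk_smul, smul_eq_mul, mul_one]
  have hkill : ∀ i, aeval h (g i ^ e i) (v i) = 0 := fun i => by
    rw [hsmul]
    have h0 : (Submodule.Quotient.mk (g i ^ e i) : F[X] ⧸ F[X] ∙ p i ^ e i) = 0 := by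
      rw [Submodule.Quotient.mk_eq_zero, Submodule.mem_span_singleton]
      exact ⟨C (p i).leadingCoeff⁻¹ ^ e i, by rw [smul_eq_mul, hg, mul_pow, mul_comm]⟩
    rw [h0, map_zero, map_zero, map_zero]
  set J : List I := (Finset.univ : Finset I).toList.filter fun i => e i ≠ 0 with hJ
  refine ⟨J.map fun i => (v i, g i, e i), ?_, ?_, ?_⟩
  · intro t ht
    obtain ⟨i, hi, rfl⟩ := List.mem_map.1 ht
    rw [hJ, List.mem_filter, decide_eq_true_eq] at hi
    exact ⟨hgm i, hgi i, Nat.one_le_iff_ne_zero.2 hi.2, hkill i⟩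
  · intro z _
    have hz : ∀ w : ⨁ i, F[X] ⧸ F[X] ∙ p i ^ e i,
        (Module.AEval'.of h).symm (E.symm w) ∈ spanL F (els h ((J.map fun i => (v i, g i, e i)).map piece)) := by
      intro w
      induction w using DirectSum.induction_on with
      | zero => rw [map_zero, map_zero]; exact zero_mem _
      | of i x =>
        obtain ⟨K, rfl⟩ := Submodule.Quotient.mk_surjective _ x
        rw [← DirectSum.lof_eq_of F[X], ← hsmul]
        rcases Nat.eq_zero_or_pos (e i) with h0 | h0
        · have h1 := hkill i
          rw [h0, pow_zero, map_one, Module.End.one_apply] at h1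
          rw [h1, map_zero]
          exact zero_mem _
        · refine spanL_mono (fun y hy => ?_) (aeval_mem h (v i) ((hgm i).pow _) (hkill i) K)
          rw [els, List.mem_flatMap]
          refine ⟨piece (v i, g i, e i), List.mem_map.2 ⟨_, List.mem_map.2 ⟨i, ?_, rfl⟩, rfl⟩, hy⟩
          rw [hJ, List.mem_filter, decide_eq_true_eq]
          exact ⟨Finset.mem_toList.2 (Finset.mem_univ i), by omega⟩
      | add a b ha hb => rw [map_add, map_add]; exact add_mem ha hb
    simpa using hz (E (Module.AEval'.of h z))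
  · have hsum : ((J.map fun i => (v i, g i, e i)).map piece).map Prod.snd = J.map fun i => (g i ^ e i).natDegree := by
      rw [List.map_map, List.map_map]; rfl
    rw [hsum, (((Module.AEval'.of h).trans (E.restrictScalars F))).finrank_eq]
    haveI : ∀ i, Module.Finite F (F[X] ⧸ F[X] ∙ p i ^ e i) := fun i => by
      have h1 : (F[X] ∙ p i ^ e i) = Ideal.span {g i ^ e i} := by
        rw [hg, mul_pow]
        exact (Ideal.span_singleton_mul_right_unit ((hunit i).pow _) _).symm
      rw [h1]
      exact ((hgm i).pow _).finite_quotient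
    rw [Module.finrank_directSum, ← List.sum_toFinset _ ((Finset.nodup_toList _).filter _)]
    have hset : J.toFinset = Finset.univ.filter fun i => e i ≠ 0 := by
      ext i; simp [hJ]
    rw [hJ] at hset
    rw [hset, Finset.sum_filter]
    refine Finset.sum_congr rfl fun i _ => ?_
    have hd : finrank F (F[X] ⧸ F[X] ∙ p i ^ e i) = (p i ^ e i).natDegree :=
      finrank_quotient_span_eq_natDegree
    rw [hd, hg, mul_pow]
    split_ifs with h0
    · simp [natDegree_mul (pow_ne_zero _ (hp i).ne_zero) (pow_ne_zero _ (hunit i).ne_zero), natDegree_pow]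
    · simp [not_not.1 h0]

variable [Finite F]

/-- The general case in dimension at least three. -/
theorem isComm_ge_three (h : End F V) (hdet : LinearMap.det h = 1) (h3 : 3 ≤ finrank F V) : IsComm h := by
  classical
  have hinj : ∀ z, h z = 0 → z = 0 := by
    have := LinearMap.isUnit_iff_ker_eq_bot h
    intro z hz
    exact (LinearMap.ker_eq_bot.1 (this.1 ((LinearMap.isUnit_iff_isUnit_det h).2 (by rw [hdet]; exact isUnit_one))))
      (by rw [hz, map_zero])
  obtain ⟨T, hT, hspan, hlen⟩ := exists_decomposition h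
  -- constant terms do not vanish
  have hcoeff : ∀ t ∈ T, ∀ Q : F[X], Q.Monic → Q ∣ t.2.1 ^ t.2.2 →
      (∀ w ∈ els h [piece t], w = 0) ∨ Q.coeff 0 ≠ 0 := by
    intro t ht Q hQ hdvd
    obtain ⟨hgm, hgi, he, hk⟩ := hT t ht
    by_cases hx : t.2.1 = X
    · left
      have h0 : t.1 = 0 := by
        have h1 : ∀ k, (h ^ k) t.1 = 0 → t.1 = 0 := by
          intro k
          induction k with
          | zero => exact fun h2 => by simpa using h2
          | succ k ih => exact fun h2 => ih (hinj _ (by rwa [pow_succ', Module.End.mul_apply] at h2))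
        rw [hx, map_pow, aeval_X] at hk
        exact h1 _ hk
      intro w hw
      obtain ⟨q, hq, hw⟩ := List.mem_flatMap.1 hw
      rw [List.mem_singleton] at hq
      obtain ⟨j, _, rfl⟩ := mem_allDown.1 hw
      simp [hq, piece, orb, h0]
    · right
      intro h0
      rw [coeff_zero_eq_eval_zero, ← IsRoot, ← dvd_iff_isRoot, map_zero, sub_zero] at h0
      have h1 : X ∣ t.2.1 := Polynomial.prime_X.dvd_of_dvd_pow (h0.trans hdvd)
      exact hx (eq_of_monic_of_associated hgm monic_X ((irreducible_X.associated_of_dvd hgi h1).symm))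
  -- the zero pieces do not occur
  have hnz : ∀ t ∈ T, ∀ Q : F[X], Q.Monic → Q ∣ t.2.1 ^ t.2.2 → Q.coeff 0 ≠ 0 := by
    intro t ht Q hQ hdvd
    refine (hcoeff t ht Q hQ hdvd).resolve_left fun hz => ?_
    obtain ⟨l₁, l₂, rfl⟩ := List.append_of_mem ht
    have hperm : ((l₁ ++ t :: l₂).map piece).Perm (piece t :: (l₁ ++ l₂).map piece) :=
      (List.perm_middle.map piece)
    have h1 : (⊤ : Submodule F V) ≤ spanL F (els h ((l₁ ++ l₂).map piece)) := by
      refine hspan.trans ((spanL_eq_of_perm (els_perm h hperm)).le.trans ?_)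
      rw [spanL_els_cons]
      refine sup_le (spanL_le fun w hw => ?_) le_rfl
      rw [hz w (by simpa [els] using hw)]
      exact zero_mem _
    have h2 := Submodule.finrank_mono h1
    rw [finrank_top] at h2
    have h4 : finrank F (spanL F (els h ((l₁ ++ l₂).map piece))) ≤ (els h ((l₁ ++ l₂).map piece)).length := by
      have h5 : spanL F (els h ((l₁ ++ l₂).map piece))
          = Submodule.span F ((els h ((l₁ ++ l₂).map piece)).toFinset : Set V) := by rw [spanL, List.coe_toFinset]
      rw [h5]
      exact (finrank_span_finset_le_card _).trans (List.toFinset_card_le _)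
    rw [length_els] at h4
    rw [(hperm.map Prod.snd).sum_eq, List.map_cons, List.sum_cons] at hlen
    obtain ⟨hgm, hgi, he, -⟩ := hT t ht
    have h6 : 1 ≤ (piece t).2 := by
      show 1 ≤ (t.2.1 ^ t.2.2).natDegree
      rw [natDegree_pow]
      exact Nat.one_le_iff_ne_zero.2 (mul_ne_zero (by omega) hgi.natDegree_pos.ne')
    omega
  have hdeg : ∀ t ∈ T, 1 ≤ (t.2.1 ^ t.2.2).natDegree := fun t ht => by
    obtain ⟨-, hgi, he, -⟩ := hT t ht
    rw [natDegree_pow]
    exact Nat.one_le_iff_ne_zero.2 (mul_ne_zero (by omega) hgi.natDegree_pos.ne')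
  have hclosed : ∀ p ∈ T.map piece, Closed h ⊥ p := fun p hp => by
    obtain ⟨t, ht, rfl⟩ := List.mem_map.1 hp
    obtain ⟨hgm, -, -, hk⟩ := hT t ht
    exact closed_of_monic h ⊥ t.1 _ (hgm.pow _) (hdeg t ht) (hnz t ht _ (hgm.pow _) dvd_rfl) (by rw [hk]; exact zero_mem _)
  rcases Nat.even_or_odd (evenCount (T.map piece)) with hev | hodd
  swap
  · exact isComm_of_odd h hdet h3 _ hclosed hodd hspan hlen
  by_cases hdiff : ∃ t ∈ T, ∃ t' ∈ T, t.2.1 ≠ t'.2.1
  · -- merge two pieces with coprime annihilators
    obtain ⟨t, ht, t', ht', hne⟩ := hdiff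
    have hmem' : t' ∈ T.erase t := (List.mem_erase_of_ne (fun e : t' = t => hne (by rw [e]))).2 ht'
    have hperm : T.Perm (t :: t' :: (T.erase t).erase t') :=
      (List.perm_cons_erase ht).trans ((List.perm_cons_erase hmem').cons t)
    set rest := ((T.erase t).erase t').map piece
    have hperm' : (T.map piece).Perm (piece t :: piece t' :: rest) := hperm.map piece
    obtain ⟨hgm, hgi, he, hk⟩ := hT t ht
    obtain ⟨hgm', hgi', he', hk'⟩ := hT t' ht'
    set P := t.2.1 ^ t.2.2 with hP
    set Q := t'.2.1 ^ t'.2.2 with hQ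
    have hcop : IsCoprime P Q := by
      refine IsCoprime.pow ((hgi.coprime_iff_not_dvd).2 fun hd => hne ?_)
      exact eq_of_monic_of_associated hgm hgm' (hgi.associated_of_dvd hgi' hd)
    obtain ⟨a, b, hab⟩ := hcop
    have hPQ : (P * Q).Monic := (hgm.pow _).mul (hgm'.pow _)
    have hkPQ : aeval h (P * Q) (t.1 + t'.1) = 0 := by
      have e1 : aeval h (P * Q) t.1 = 0 := by rw [mul_comm, map_mul, Module.End.mul_apply, hk, map_zero]
      have e2 : aeval h (P * Q) t'.1 = 0 := by rw [map_mul, Module.End.mul_apply, hk', map_zero]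
      rw [map_add, e1, e2, add_zero]
    have hd : (P * Q).natDegree = P.natDegree + Q.natDegree := natDegree_mul (hgm.pow _).ne_zero (hgm'.pow _).ne_zero
    have hc : Closed h ⊥ (t.1 + t'.1, (P * Q).natDegree) := by
      refine closed_of_monic h ⊥ _ _ hPQ (hd ▸ le_add_right (hdeg t ht)) ?_ (by rw [hkPQ]; exact zero_mem _)
      rw [mul_coeff_zero]
      exact mul_ne_zero (hnz t ht _ (hgm.pow _) dvd_rfl) (hnz t' ht' _ (hgm'.pow _) dvd_rfl)
    have hv : ∀ j, orb h t.1 j = aeval h (X ^ j * (b * Q)) (t.1 + t'.1) := fun j => by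
      have e2 : aeval h (b * Q) t'.1 = 0 := by rw [map_mul, Module.End.mul_apply, hk', map_zero]
      have e1 : aeval h (b * Q) t.1 = t.1 := by
        have h1 := congrArg (fun R => aeval h R t.1) hab
        simp only [map_add, map_mul, map_one, LinearMap.add_apply, Module.End.one_apply, Module.End.mul_apply,
          hk, map_zero, zero_add] at h1
        rw [map_mul, Module.End.mul_apply]
        exact h1
      rw [map_mul, Module.End.mul_apply, map_add, e1, e2, add_zero, map_pow, aeval_X]
      rfl
    have hw : ∀ j, orb h t'.1 j = aeval h (X ^ j * (a * P)) (t.1 + t'.1) := fun j => by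
      have e2 : aeval h (a * P) t.1 = 0 := by rw [map_mul, Module.End.mul_apply, hk, map_zero]
      have e1 : aeval h (a * P) t'.1 = t'.1 := by
        have h1 := congrArg (fun R => aeval h R t'.1) hab
        simp only [map_add, map_mul, map_one, LinearMap.add_apply, Module.End.one_apply, Module.End.mul_apply,
          hk', map_zero, add_zero] at h1
        rw [map_mul, Module.End.mul_apply]
        exact h1
      rw [map_mul, Module.End.mul_apply, map_add, e1, e2, zero_add, map_pow, aeval_X]
      rfl
    refine isComm_of_odd h hdet h3 ((t.1 + t'.1, (P * Q).natDegree) :: rest) (fun p hp => ?_) ?_ ?_ ?_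
    · rcases List.mem_cons.1 hp with rfl | hp
      · exact hc
      · exact hclosed p (hperm'.symm.subset (List.mem_cons_of_mem _ (List.mem_cons_of_mem _ hp)))
    · rw [evenCount_perm hperm', evenCount_cons, evenCount_cons, Nat.even_iff] at hev
      rw [evenCount_cons, Nat.odd_iff]
      simp only [piece, ← hP, ← hQ] at hev
      show (evenCount rest + if (P * Q).natDegree % 2 = 0 then 1 else 0) % 2 = 1
      rw [hd]
      split_ifs at hev ⊢ <;> omega
    · refine hspan.trans ((spanL_eq_of_perm (els_perm h hperm')).le.trans ?_)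
      rw [spanL_els_cons, spanL_els_cons, spanL_els_cons, ← sup_assoc]
      refine sup_le_sup_right (sup_le ?_ ?_) _
      · refine spanL_le fun z hz => ?_
        obtain ⟨j, -, rfl⟩ := mem_allDown.1 hz
        show orb h t.1 j ∈ _
        rw [hv]; exact aeval_mem h _ hPQ hkPQ _
      · refine spanL_le fun z hz => ?_
        obtain ⟨j, -, rfl⟩ := mem_allDown.1 hz
        show orb h t'.1 j ∈ _
        rw [hw]; exact aeval_mem h _ hPQ hkPQ _
    · rw [← hlen, (hperm'.map Prod.snd).sum_eq]
      simp [piece, ← hP, ← hQ, hd, add_assoc]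
  push Not at hdiff
  by_cases hbig : ∃ t ∈ T, 2 ≤ t.2.2
  · -- split one piece
    obtain ⟨t, ht, he2⟩ := hbig
    set rest := (T.erase t).map piece
    have hperm : (T.map piece).Perm (piece t :: rest) := (List.perm_cons_erase ht).map piece
    obtain ⟨hgm, hgi, -, hk⟩ := hT t ht
    set g := t.2.1 with hg
    set Q := g ^ (t.2.2 - 1) with hQ
    have hPd : g * Q = g ^ t.2.2 := by rw [hQ, ← pow_succ', Nat.sub_add_cancel (by omega)]
    have hQm : Q.Monic := hgm.pow _
    set w := aeval h Q t.1 with hw
    have hgw : aeval h g w = 0 := by rw [hw, ← Module.End.mul_apply, ← map_mul, hPd, hk]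
    have hQd : Q.natDegree = (t.2.2 - 1) * g.natDegree := natDegree_pow g _
    have hdtot : (piece t).2 = g.natDegree + Q.natDegree := by
      show (g ^ t.2.2).natDegree = _
      rw [← hPd, natDegree_mul hgm.ne_zero hQm.ne_zero]
    have hQ1 : 1 ≤ Q.natDegree := by
      rw [hQd]; exact Nat.one_le_iff_ne_zero.2 (mul_ne_zero (by omega) hgi.natDegree_pos.ne')
    set bot := (w, g.natDegree) with hbot
    set top := (t.1, Q.natDegree) with htopdef
    have hbotc : Closed h ⊥ bot := closed_of_monic h ⊥ w g hgm hgi.natDegree_pos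
      (hnz t ht g hgm (dvd_pow_self g (by omega))) (by rw [hgw]; exact zero_mem _)
    have htopc : Closed h (⊥ ⊔ spanL F (allDown (orb h w) g.natDegree)) top := by
      refine closed_of_monic h _ t.1 Q hQm hQ1 (hnz t ht Q hQm ⟨g, by rw [mul_comm, hPd]⟩) ?_
      refine Submodule.mem_sup_right (mem_spanL (mem_allDown.2 ⟨0, hgi.natDegree_pos, ?_⟩))
      simp [orb, hw]
    have hrest : ∀ p ∈ rest, Closed h ⊥ p := fun p hp => hclosed p (hperm.symm.subset (List.mem_cons_of_mem _ hp))
    have hcover : spanL F (allDown (orb h t.1) (piece t).2)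
        ≤ spanL F (allDown (orb h w) g.natDegree) ⊔ spanL F (allDown (orb h t.1) Q.natDegree) := by
      refine spanL_le fun z hz => ?_
      obtain ⟨j, -, rfl⟩ := mem_allDown.1 hz
      have e : orb h t.1 j = aeval h (X ^ j %ₘ Q) t.1 + aeval h (X ^ j /ₘ Q) w := by
        rw [hw, ← Module.End.mul_apply, ← map_mul, mul_comm (X ^ j /ₘ Q), ← LinearMap.add_apply, ← map_add,
          modByMonic_add_div, map_pow, aeval_X]
        rfl
      rw [e]
      refine add_mem (Submodule.mem_sup_right (aeval_mem_of_lt h _ _ ?_))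
        (Submodule.mem_sup_left (aeval_mem h w hgm hgw _))
      exact natDegree_modByMonic_lt _ hQm fun e => by simp [e] at hQ1
    have hspan' : ⊤ ≤ spanL F (els h (top :: bot :: rest)) := by
      refine hspan.trans ((spanL_eq_of_perm (els_perm h hperm)).le.trans ?_)
      rw [spanL_els_cons, spanL_els_cons, spanL_els_cons, ← sup_assoc]
      exact sup_le_sup_right (hcover.trans (sup_comm _ _).le) _
    have hlen' : ((top :: bot :: rest).map Prod.snd).sum = finrank F V := by
      rw [← hlen, (hperm.map Prod.snd).sum_eq]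
      simp only [List.map_cons, List.sum_cons, hdtot]
      show Q.natDegree + (g.natDegree + _) = _
      omega
    rw [evenCount_perm hperm, evenCount_cons, hdtot, Nat.even_iff] at hev
    rcases Nat.mod_two_eq_zero_or_one Q.natDegree with hQe | hQo
    · -- the upper piece comes first
      obtain ⟨-, c, hc, hm⟩ := htopc
      refine isComm_of_pieces' h hdet h3 top [] (bot :: rest) hQe (by simp) trivial (fun p hp => ?_) ?_ hQ1
        ⟨c, hc, ?_⟩ hspan' hlen'
      · rcases List.mem_cons.1 hp with rfl | hp
        exacts [hbotc, hrest p hp]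
      · rw [evenCount_cons, Nat.even_iff]
        show (evenCount rest + if g.natDegree % 2 = 0 then 1 else 0) % 2 = 0
        have : (g.natDegree + Q.natDegree) % 2 = g.natDegree % 2 := by omega
        rw [this] at hev
        exact hev
      · rw [show orb h top.1 0 = top.1 by simp [orb]] at hm
        refine (sup_le ?_ ?_ : ((⊥ : Submodule F V) ⊔ spanL F (allDown (orb h w) g.natDegree)) ⊔ _ ≤ _) hm
        · rw [bot_sup_eq, List.nil_append, spanL_append, spanL_els_cons]
          exact le_sup_of_le_right le_sup_left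
        · refine spanL_mono fun z hz => List.mem_append.2 (Or.inl ?_)
          rw [show top.2 - 1 = Q.natDegree - 1 from rfl] at hz ⊢
          revert hz
          induction Q.natDegree - 1 with
          | zero => simp [down]
          | succ k ih =>
            intro hz
            rcases List.mem_cons.1 hz with rfl | hz
            · exact List.mem_cons_self ..
            · exact List.mem_cons_of_mem _ (ih hz)
    · -- both halves have odd length
      have hgo : g.natDegree % 2 = 1 := by
        rcases Nat.mod_two_eq_zero_or_one g.natDegree with hg0 | hg1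
        · rw [hQd, Nat.mul_mod, hg0] at hQo
          simp at hQo
        · exact hg1
      have hro : Odd (evenCount rest) := by
        rw [if_pos (by omega)] at hev
        rw [Nat.odd_iff]
        omega
      obtain ⟨A, l', hp', hA, hev'⟩ := exists_even_of_odd_count hro
      obtain ⟨hA1, c, hc, hm⟩ := hrest A (hp'.symm.subset (List.mem_cons_self ..))
      have hperm2 : (top :: bot :: rest).Perm (A :: ([bot, top] ++ l')) := by
        refine ((hp'.cons bot).cons top).trans ?_
        refine (List.Perm.swap _ _ _).trans ?_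
        exact (((List.Perm.swap A top l').cons bot).trans (List.Perm.swap _ _ _))
      refine isComm_of_pieces' h hdet h3 A [bot, top] l' hA ?_ ⟨hbotc, htopc, trivial⟩
        (fun p hp => hrest p (hp'.symm.subset (List.mem_cons_of_mem _ hp))) hev' hA1 ⟨c, hc, ?_⟩
        (hspan'.trans (spanL_eq_of_perm (els_perm h hperm2)).le)
        (by rw [← (hperm2.map Prod.snd).sum_eq]; exact hlen')
      · intro p hp
        rcases List.mem_cons.1 hp with rfl | hp
        · exact hgo
        · rw [List.mem_singleton] at hp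
          subst hp
          exact hQo
      · rw [show orb h A.1 0 = A.1 by simp [orb], bot_sup_eq] at hm
        refine spanL_mono (fun z hz => List.mem_append.2 (Or.inl ?_)) hm
        revert hz
        induction A.2 - 1 with
        | zero => simp [down]
        | succ k ih =>
          intro hz
          rcases List.mem_cons.1 hz with rfl | hz
          · exact List.mem_cons_self ..
          · exact List.mem_cons_of_mem _ (ih hz)
  push Not at hbig
  -- one irreducible annihilates everything
  obtain ⟨t₀, l, rfl⟩ : ∃ t₀ l, T = t₀ :: l := by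
    cases T with
    | nil => simp at hlen; omega
    | cons t₀ l => exact ⟨t₀, l, rfl⟩
  obtain ⟨-, hgi, -, -⟩ := hT t₀ (List.mem_cons_self ..)
  refine isComm_of_irreducible h t₀.2.1 hgi (LinearMap.ext fun z => ?_) hdet
  refine (LinearMap.eqOn_span (g := (0 : End F V)) ?_ (hspan (Submodule.mem_top (x := z))))
  intro w hw
  obtain ⟨p, hp, hw⟩ := List.mem_flatMap.1 hw
  obtain ⟨t, ht, rfl⟩ := List.mem_map.1 hp
  obtain ⟨-, -, he, hk⟩ := hT t ht
  have h1 : t.2.2 = 1 := by have := hbig t ht; omega
  rw [h1, pow_one] at hk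
  rw [← hdiff t ht t₀ (List.mem_cons_self ..)]
  obtain ⟨j, -, rfl⟩ := mem_allDown.1 hw
  show aeval h t.2.1 ((h ^ j) t.1) = 0
  rw [← Module.End.mul_apply, ((commute_aeval_self h t.2.1).pow_right j).eq, Module.End.mul_apply, hk, map_zero]

/-- Every element of determinant one is a commutator. -/
theorem isComm_all (h : End F V) (hdet : LinearMap.det h = 1) (h2 : 2 ≤ finrank F V)
    (hex : finrank F V = 2 → 4 ≤ Nat.card F) : IsComm h := by
  rcases lt_or_eq_of_le h2 with h3 | h2'
  · exact isComm_ge_three h hdet h3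
  by_cases hs : ∃ c : F, ∀ v, h v = c • v
  · obtain ⟨c, hc⟩ := hs
    refine isComm_of_irreducible h (X - C c) (irreducible_X_sub_C c) (LinearMap.ext fun v => ?_) hdet
    simp [hc, sub_self]
  · push Not at hs
    exact isComm_two h h2'.symm hdet hs (hex h2'.symm)

end Cfsg.Agent.Classical.CommutatorSL
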