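import Cfsg.Agent.Lib.Classical.CommutatorFrobenius

/-!
An operator carrying a suitable chain structure is a commutator; the plane case.
-/

set_option autoImplicit false

namespace Cfsg.Agent.Classical.CommutatorSL

open Polynomial Module

universe u v

variable {F : Type u} [Field F] {V : Type v} [AddCommGroup V] [Module F V]

/-- The determinant of a map shifting a basis. -/
theorem det_shift {n : ℕ} (b : Basis (Fin (n + 1)) F V) (L : Module.End F V) (v : V)
    (hL : ∀ i : Fin (n + 1), L (b i) = if h : (i : ℕ) < n then b ⟨i + 1, by omega⟩ else v) :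
    LinearMap.det L = (-1) ^ n * b.repr v 0 := by
  classical
  set M := LinearMap.toMatrix b b L with hM
  have hcol : ∀ i j : Fin (n + 1), (M.submatrix id (finRotate (n + 1)).symm) i j
      = if j = 0 then b.repr v i else if i = j then 1 else 0 := by
    intro i j
    obtain ⟨k, rfl⟩ := (finRotate (n + 1)).surjective j
    rw [Matrix.submatrix_apply, id, Equiv.symm_apply_apply, hM, LinearMap.toMatrix_apply, hL]
    rcases lt_or_eq_of_le (Nat.le_of_lt_succ k.2) with hk | hk
    · have e : finRotate (n + 1) k = ⟨k + 1, by omega⟩ := finRotate_of_lt hk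
      rw [dif_pos hk, e, Basis.repr_self, Finsupp.single_apply,
        if_neg (show (⟨(k : ℕ) + 1, by omega⟩ : Fin (n + 1)) ≠ 0 from fun h => by
          simpa using congrArg Fin.val h)]
      exact if_congr eq_comm rfl rfl
    · have e : finRotate (n + 1) k = 0 := by
        rw [show k = Fin.last n from Fin.ext hk, finRotate_last]
      rw [dif_neg (by omega), e, if_pos rfl]
  have hd : (M.submatrix id (finRotate (n + 1)).symm).det = b.repr v 0 := by
    rw [Matrix.det_of_lowerTriangular, Fin.prod_univ_succ, hcol, if_pos rfl, Finset.prod_eq_one, mul_one]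
    · intro i _
      rw [hcol, if_neg (Fin.succ_ne_zero i), if_pos rfl]
    · intro i j hij
      rw [OrderDual.toDual_lt_toDual] at hij
      rw [hcol, if_neg (Fin.ne_zero_of_lt hij), if_neg hij.ne]
  rw [Matrix.det_permute', Equiv.Perm.sign_symm, sign_finRotate, Nat.add_sub_cancel] at hd
  rw [← LinearMap.det_toMatrix b L, ← hM, ← hd]
  simp [← mul_assoc, ← mul_pow]

variable [FiniteDimensional F V]

/-- The chain criterion: `W` is spanned by `u i`, `i < m`, the operator sends `u i`, `0 < i < m`, into `W`, and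
the partial map `u i ↦ h (u (i + 1))` is cyclic on `W`, as witnessed by a triangular sequence `e`. -/
theorem isComm_of_chain (h : Module.End F V) (hdet : LinearMap.det h = 1) {m : ℕ} (hm : 2 ≤ m)
    (hn : finrank F V = m + 1) (u : ℕ → V) (a₀ : V)
    (hspan : ⊤ ≤ Submodule.span F (insert a₀ (u '' Set.Iio m)))
    (hW0 : h (u 0) ∉ Submodule.span F (u '' Set.Iio m)) (e : ℕ → V)
    (heW : Submodule.span F (e '' Set.Iio m) = Submodule.span F (u '' Set.Iio m))
    (hW : ∀ i, 0 < i → i < m → h (u i) ∈ Submodule.span F (u '' Set.Iio m))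
    (he : ∀ i, i + 1 < m → ∃ j c, j + 1 < m ∧ e i = u j ∧ c ≠ (0 : F) ∧
      h (u (j + 1)) - c • e (i + 1) ∈ Submodule.span F (e '' Set.Iio (i + 1))) :
    IsComm h := by
  classical
  obtain ⟨W, hWdef⟩ : ∃ W, W = Submodule.span F (u '' Set.Iio m) := ⟨_, rfl⟩
  rw [← hWdef] at hW0 heW hW
  have hhinj : Function.Injective h := by
    have := LinearMap.isUnit_iff_ker_eq_bot h
    exact LinearMap.ker_eq_bot.1 (this.1 ((LinearMap.isUnit_iff_isUnit_det h).2 (by rw [hdet]; exact isUnit_one)))
  have hhsurj : Function.Surjective h := LinearMap.injective_iff_surjective.1 hhinj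
  have huW : ∀ i < m, u i ∈ W := fun i hi => hWdef ▸ Submodule.subset_span ⟨i, hi, rfl⟩
  -- a basis from `u` and any vector outside `W`
  let ext : V → Fin (m + 1) → V := fun z i => if (i : ℕ) < m then u i else z
  have hext : ∀ z, (∀ w, w ∈ W → w ∈ Submodule.span F (Set.range (ext z))) ∧
      z ∈ Submodule.span F (Set.range (ext z)) := fun z => by
    refine ⟨fun w hw => ?_, Submodule.subset_span ⟨Fin.last m, by simp [ext]⟩⟩
    refine Submodule.span_le.2 ?_ (hWdef ▸ hw)
    rintro _ ⟨i, hi, rfl⟩
    have hi : i < m := hi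
    exact Submodule.subset_span ⟨⟨i, by omega⟩, by simp [ext, hi]⟩
  have htop₀ : ⊤ ≤ Submodule.span F (Set.range (ext a₀)) := hspan.trans <| Submodule.span_le.2 <| by
    rintro w (rfl | hw)
    exacts [(hext _).2, (hext a₀).1 w (hWdef ▸ Submodule.subset_span hw)]
  let b : Basis (Fin (m + 1)) F V := basisOfTopLeSpanOfCardEqFinrank (ext a₀) htop₀ (by simp [hn])
  have hb : ∀ i, b i = ext a₀ i := fun i => by simp [b]
  have hWtop : ∀ z ∉ W, ⊤ ≤ Submodule.span F (Set.range (ext z)) := fun z hz => by
    refine le_trans ?_ (Submodule.span_le (s := insert z (W : Set V))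
      (p := Submodule.span F (Set.range (ext z))) |>.2 ?_)
    swap
    · rintro w (rfl | hw)
      exacts [(hext _).2, (hext z).1 w hw]
    intro x _
    obtain ⟨t, w, hw, htw⟩ := Submodule.mem_span_insert.1
      (show z ∈ Submodule.span F (insert a₀ (W : Set V)) by
        refine (hspan.trans ?_) Submodule.mem_top
        exact Submodule.span_mono (Set.insert_subset_insert (hWdef ▸ Submodule.subset_span)))
    rw [Submodule.span_eq] at hw
    have ht : t ≠ 0 := fun h => hz (by rw [htw, h, zero_smul, zero_add]; exact hw)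
    obtain ⟨s, w', hw', hx⟩ := Submodule.mem_span_insert.1
      (show x ∈ Submodule.span F (insert a₀ (W : Set V)) by
        refine (hspan.trans ?_) Submodule.mem_top
        exact Submodule.span_mono (Set.insert_subset_insert (hWdef ▸ Submodule.subset_span)))
    rw [Submodule.span_eq] at hw'
    refine Submodule.mem_span_insert.2 ⟨s * t⁻¹, w' - (s * t⁻¹) • w, ?_, ?_⟩
    · exact Submodule.subset_span (W.sub_mem hw' (W.smul_mem _ hw))
    · rw [hx, htw, smul_add, smul_smul, mul_assoc, inv_mul_cancel₀ ht, mul_one]; abel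
  have hindep : LinearIndependent F (fun i : Fin (m + 1) => ext a₀ i) := by
    have := b.linearIndependent
    rwa [funext hb] at this
  -- the partial map
  let T₀ : Module.End F V := b.constr F fun i => if (i : ℕ) + 1 < m then h (u (i + 1)) else 0
  have hT₀ : ∀ i, i + 1 < m → T₀ (u i) = h (u (i + 1)) := fun i hi => by
    have h1 := b.constr_basis F (fun i => if (i : ℕ) + 1 < m then h (u (i + 1)) else 0) ⟨i, by omega⟩
    rw [hb] at h1
    simpa only [ext, show i < m by omega, hi, ↓reduceIte] using h1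
  set Y := Submodule.span F (u '' Set.Iio (m - 1)) with hY
  have huY : u (m - 1) ∉ Y := by
    have h1 := hindep.notMem_span_image (s := {i : Fin (m + 1) | (i : ℕ) < m - 1}) (x := ⟨m - 1, by omega⟩)
      (by simp)
    intro h2
    refine h1 ?_
    simp only [ext, show m - 1 < m by omega, if_true]
    refine Submodule.span_le.2 ?_ h2
    rintro _ ⟨i, hi, rfl⟩
    have hi : i < m - 1 := hi
    exact Submodule.subset_span ⟨⟨i, by omega⟩, hi, by simp [show i < m by omega]⟩
  -- the orbit
  let x : ℕ → V := fun i => (T₀ ^ i) (e 0)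
  let E : ℕ → Submodule F V := fun k => Submodule.span F (e '' Set.Iio k)
  have hEmono : ∀ {k l : ℕ}, k ≤ l → E k ≤ E l := fun hkl =>
    Submodule.span_mono (Set.image_mono (Set.Iio_subset_Iio hkl))
  have heY : ∀ k, k + 1 ≤ m - 1 → E (k + 1) ≤ Y := fun k hk => Submodule.span_le.2 <| by
    rintro _ ⟨i, hi, rfl⟩
    have hi : i < k + 1 := hi
    obtain ⟨j, c, hj, hej, -, -⟩ := he i (by omega)
    rw [hej]
    exact Submodule.subset_span ⟨j, show j < m - 1 by omega, rfl⟩
  have hTe : ∀ i, i + 1 < m → ∃ c ≠ (0 : F), T₀ (e i) - c • e (i + 1) ∈ E (i + 1) := fun i hi => by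
    obtain ⟨j, c, hj, hej, hc, hmem⟩ := he i hi
    exact ⟨c, hc, by rwa [hej, hT₀ j hj]⟩
  have hTE : ∀ k, k + 1 ≤ m → ∀ y ∈ E k, T₀ y ∈ E (k + 1) := fun k hk y hy => by
    refine (Submodule.map_span_le T₀ _ _).2 ?_ (Submodule.mem_map_of_mem hy)
    rintro _ ⟨i, hi, rfl⟩
    have hi : i < k := hi
    obtain ⟨c, -, hmem⟩ := hTe i (by omega)
    have h2 : c • e (i + 1) ∈ E (k + 1) :=
      (E (k + 1)).smul_mem _ (Submodule.subset_span ⟨i + 1, show i + 1 < k + 1 by omega, rfl⟩)
    have h3 := (E (k + 1)).add_mem (hEmono (by omega) hmem) h2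
    rwa [sub_add_cancel] at h3
  have hx : ∀ i, i < m → ∃ c ≠ (0 : F), x i - c • e i ∈ E i := by
    intro i
    induction i with
    | zero => exact fun _ => ⟨1, one_ne_zero, by simp [x]⟩
    | succ i ih =>
      intro hi
      obtain ⟨c, hc, hmem⟩ := ih (by omega)
      obtain ⟨c', hc', hmem'⟩ := hTe i hi
      refine ⟨c * c', mul_ne_zero hc hc', ?_⟩
      have h1 := (E (i + 1)).add_mem (hTE i (by omega) _ hmem) ((E (i + 1)).smul_mem c hmem')
      have h2 : x (i + 1) - (c * c') • e (i + 1)
          = T₀ (x i - c • e i) + c • (T₀ (e i) - c' • e (i + 1)) := by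
        simp only [x, pow_succ', Module.End.mul_apply, map_sub, map_smul, smul_sub, smul_smul]
        abel
      rwa [h2]
  have hxE : ∀ i, i < m → x i ∈ E (i + 1) := fun i hi => by
    obtain ⟨c, -, hmem⟩ := hx i hi
    have h1 := (E (i + 1)).add_mem (hEmono (Nat.le_succ i) hmem)
      ((E (i + 1)).smul_mem c (Submodule.subset_span ⟨i, Nat.lt_succ_self i, rfl⟩))
    rwa [sub_add_cancel] at h1
  have hxY : ∀ i, i + 1 < m → x i ∈ Y := fun i hi => heY i (by omega) (hxE i (by omega))
  have hspanx : ∀ k ≤ m, E k ≤ Submodule.span F (x '' Set.Iio k) := by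
    intro k
    induction k with
    | zero => intro _; simp [E]
    | succ k ih =>
      intro hk
      refine Submodule.span_le.2 ?_
      rintro _ ⟨i, hi, rfl⟩
      have hi : i < k + 1 := hi
      have hmono : Submodule.span F (x '' Set.Iio k) ≤ Submodule.span F (x '' Set.Iio (k + 1)) :=
        Submodule.span_mono (Set.image_mono (Set.Iio_subset_Iio (Nat.le_succ k)))
      rcases Nat.lt_succ_iff_lt_or_eq.1 hi with hi | rfl
      · exact hmono (ih (by omega) (Submodule.subset_span ⟨i, hi, rfl⟩))
      · obtain ⟨c, hc, hmem⟩ := hx i (by omega)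
        have h1 : c • e i ∈ Submodule.span F (x '' Set.Iio (i + 1)) := by
          rw [← sub_sub_cancel (x i) (c • e i)]
          exact sub_mem (Submodule.subset_span ⟨i, Nat.lt_succ_self i, rfl⟩) (hmono (ih (by omega) hmem))
        exact (Submodule.smul_mem_iff _ hc).1 h1
  have hWx : W = Submodule.span F (x '' Set.Iio m) := by
    refine le_antisymm (heW ▸ hspanx m le_rfl) (Submodule.span_le.2 ?_)
    rintro _ ⟨i, hi, rfl⟩
    exact heW ▸ hEmono (show i + 1 ≤ m from hi) (hxE i hi)
  have hxW : ∀ i < m, x i ∈ W := fun i hi => hWx ▸ Submodule.subset_span ⟨i, hi, rfl⟩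
  have hxlast : x (m - 1) ∉ Y := by
    intro hlast
    refine huY (?_ : u (m - 1) ∈ Y)
    have h1 : W ≤ Y := hWx ▸ Submodule.span_le.2 (by
      rintro _ ⟨i, hi, rfl⟩
      have hi : i < m := hi
      rcases lt_or_eq_of_le (show i + 1 ≤ m by omega) with h | h
      · exact hxY i h
      · rwa [show i = m - 1 by omega])
    exact h1 (huW _ (by omega))
  -- the recurrence coefficients
  let s : F := (-1) ^ (m + 1)
  let r : ℕ → F := fun i => if i = 0 then s else if i = 1 ∧ s = 1 then 1 else 0
  set S := ∑ i ∈ Finset.range m, r i with hS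
  have hS1 : S ≠ 1 := by
    have h2 : S = s + (if s = 1 then 1 else 0) := by
      rw [hS, ← Finset.sum_subset (show Finset.range 2 ⊆ Finset.range m from Finset.range_mono hm)]
      · simp [Finset.sum_range_succ, r]
      · intro i _ hi
        simp only [Finset.mem_range] at hi
        simp [r, show i ≠ 0 by omega, show i ≠ 1 by omega]
    rw [h2]
    split_ifs with h3
    · simp [h3]
    · simpa using h3
  -- the hyperplane part
  set y := ∑ i ∈ Finset.range m, r i • x i with hy
  obtain ⟨c₁, w₁, hw₁, hxl⟩ : ∃ c : F, ∃ w ∈ Y, x (m - 1) = c • u (m - 1) + w := by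
    refine Submodule.mem_span_insert.1 (?_ : x (m - 1) ∈ Submodule.span F (insert (u (m - 1)) (Y : Set V))) |>.imp
      fun c hc => ?_
    · refine Submodule.span_le.2 ?_ (hWdef ▸ hxW (m - 1) (by omega))
      rintro _ ⟨i, hi, rfl⟩
      have hi : i < m := hi
      rcases lt_or_eq_of_le (show i ≤ m - 1 by omega) with h | h
      · exact Submodule.subset_span (Or.inr (Submodule.subset_span ⟨i, h, rfl⟩))
      · exact Submodule.subset_span (Or.inl (by rw [h]))
    · obtain ⟨z, hz, hz'⟩ := hc
      exact ⟨z, by rwa [Submodule.span_eq] at hz, hz'⟩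
  have hc₁ : c₁ ≠ 0 := fun h0 => hxlast (by rw [hxl, h0, zero_smul, zero_add]; exact hw₁)
  set y₀ := c₁⁻¹ • (y - T₀ w₁) with hy₀
  let M₁ : Module.End F V := b.constr F fun i =>
    if (i : ℕ) + 1 < m then h (u (i + 1)) else if (i : ℕ) < m then y₀ else a₀
  have hM₁ : ∀ i, i < m → M₁ (u i) = if i + 1 < m then h (u (i + 1)) else y₀ := fun i hi => by
    have h1 := b.constr_basis F (fun i => if (i : ℕ) + 1 < m then h (u (i + 1)) else if (i : ℕ) < m then y₀ else a₀)
      ⟨i, by omega⟩
    rw [hb] at h1
    simpa only [ext, hi, ↓reduceIte] using h1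
  have hM₁a : M₁ a₀ = a₀ := by
    have h1 := b.constr_basis F (fun i => if (i : ℕ) + 1 < m then h (u (i + 1)) else if (i : ℕ) < m then y₀ else a₀)
      (Fin.last m)
    rw [hb] at h1
    simpa only [ext, Fin.val_last, lt_irrefl, show ¬ m + 1 < m by omega, ↓reduceIte] using h1
  have hM₁Y : ∀ w ∈ Y, M₁ w = T₀ w := fun w hw => LinearMap.eqOn_span (by
    rintro _ ⟨i, hi, rfl⟩
    have hi : i < m - 1 := hi
    rw [hM₁ i (by omega), if_pos (by omega), hT₀ i (by omega)]) hw
  have hM₁x : ∀ i, i + 1 < m → M₁ (x i) = x (i + 1) := fun i hi => by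
    rw [hM₁Y _ (hxY i hi)]
    simp [x, pow_succ', Module.End.mul_apply]
  have hM₁last : M₁ (x (m - 1)) = y := by
    rw [hxl, map_add, map_smul, hM₁ _ (by omega), if_neg (by omega), hM₁Y _ hw₁, hy₀, smul_smul,
      mul_inv_cancel₀ hc₁, one_smul, sub_add_cancel]
  have hr0 : r 0 ≠ 0 := pow_ne_zero _ (neg_ne_zero.2 one_ne_zero)
  have hyW : y ∈ W := W.sum_mem fun i hi => W.smul_mem _ (hxW i (Finset.mem_range.1 hi))
  have hM₁W : ∀ w ∈ W, M₁ w ∈ W := fun w hw => by
    rw [hWx] at hw ⊢
    refine (Submodule.map_span_le M₁ _ _).2 ?_ (Submodule.mem_map_of_mem hw)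
    rintro _ ⟨i, hi, rfl⟩
    have hi : i < m := hi
    rcases lt_or_eq_of_le (show i + 1 ≤ m by omega) with h | h
    · rw [hM₁x i h]; exact Submodule.subset_span ⟨i + 1, h, rfl⟩
    · rw [show i = m - 1 by omega, hM₁last, ← hWx]; exact hyW
  have hM₁inj : Function.Injective M₁ := by
    refine LinearMap.injective_iff_surjective.2 (LinearMap.range_eq_top.1 (eq_top_iff.2 (hspan.trans ?_)))
    refine Submodule.span_le.2 (Set.insert_subset ⟨a₀, hM₁a⟩ ?_)
    have hpos : ∀ i, 0 < i → i < m → x i ∈ LinearMap.range M₁ := fun i hi0 hi =>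
      ⟨x (i - 1), by rw [hM₁x _ (by omega), Nat.sub_add_cancel hi0]⟩
    have h0 : x 0 ∈ LinearMap.range M₁ := by
      refine (Submodule.smul_mem_iff _ hr0).1 ?_
      have h1 : r 0 • x 0 = y - ∑ i ∈ (Finset.range m).erase 0, r i • x i := by
        rw [hy, ← Finset.add_sum_erase _ _ (Finset.mem_range.2 (show 0 < m by omega)), add_sub_cancel_right]
      rw [h1]
      refine sub_mem ⟨_, hM₁last⟩ (Submodule.sum_mem _ fun i hi => Submodule.smul_mem _ _ ?_)
      simp only [Finset.mem_erase, Finset.mem_range] at hi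
      exact hpos i (by omega) hi.2
    intro w hw
    have hw' : w ∈ W := hWdef ▸ Submodule.subset_span hw
    rw [hWx] at hw'
    refine Submodule.span_le.2 ?_ hw'
    rintro _ ⟨i, hi, rfl⟩
    rcases Nat.eq_zero_or_pos i with rfl | h
    exacts [h0, hpos i h hi]
  have hy₀W : y₀ ∈ W := by
    have := hM₁W _ (huW (m - 1) (by omega))
    rwa [hM₁ _ (by omega), if_neg (by omega)] at this
  -- the new last vector
  obtain ⟨uf, huf⟩ := hhsurj y₀
  have hufW : uf ∉ W := by
    intro hmem
    have h1 : W ≤ Submodule.span F (insert (u 0) ((fun i => u (i + 1)) '' Set.Iio (m - 1))) :=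
      hWdef ▸ Submodule.span_le.2 (by
        rintro _ ⟨i, hi, rfl⟩
        have hi : i < m := hi
        refine Submodule.subset_span ?_
        rcases Nat.eq_zero_or_pos i with rfl | h
        · exact Or.inl rfl
        · exact Or.inr ⟨i - 1, show i - 1 < m - 1 by omega, show u (i - 1 + 1) = u i by rw [Nat.sub_add_cancel h]⟩)
    obtain ⟨t, w, hw, hufw⟩ := Submodule.mem_span_insert.1 (h1 hmem)
    have hhw : ∀ z ∈ Submodule.span F ((fun i => u (i + 1)) '' Set.Iio (m - 1)), h z ∈ W ∧ h z ∈ Y.map M₁ :=
      fun z hz => by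
        refine ⟨?_, ?_⟩
        · refine (Submodule.map_span_le h _ _).2 ?_ (Submodule.mem_map_of_mem hz)
          rintro _ ⟨i, hi, rfl⟩
          have hi : i < m - 1 := hi
          exact hW (i + 1) (by omega) (by omega)
        · refine (Submodule.map_span_le h _ _).2 ?_ (Submodule.mem_map_of_mem hz)
          rintro _ ⟨i, hi, rfl⟩
          have hi : i < m - 1 := hi
          exact ⟨u i, Submodule.subset_span ⟨i, hi, rfl⟩, by rw [hM₁ i (by omega), if_pos (by omega)]⟩
    have ht : t = 0 := by
      by_contra ht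
      refine hW0 ((Submodule.smul_mem_iff _ ht).1 ?_)
      have h2 : t • h (u 0) = y₀ - h w := by rw [← huf, hufw, map_add, map_smul, add_sub_cancel_right]
      rw [h2]
      exact sub_mem hy₀W (hhw w hw).1
    rw [ht, zero_smul, zero_add] at hufw
    obtain ⟨z, hz, hzeq⟩ := (hhw w hw).2
    rw [← hufw, huf, ← show M₁ (u (m - 1)) = y₀ by rw [hM₁ _ (by omega), if_neg (by omega)]] at hzeq
    exact huY (hM₁inj hzeq ▸ hz)
  let b' : Basis (Fin (m + 1)) F V := basisOfTopLeSpanOfCardEqFinrank (ext uf) (hWtop uf hufW) (by simp [hn])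
  have hb' : ∀ i, b' i = ext uf i := fun i => by simp [b']
  -- the operator of prescribed shape
  let succ' : ℕ → V := fun i => if i + 1 < m then u (i + 1) else uf
  set af := uf - ∑ i ∈ Finset.range m, r i • u i + ∑ i ∈ Finset.range m, r i • succ' i with haf
  let A : Module.End F V := b'.constr F fun i => if (i : ℕ) < m then succ' i else af
  have hA : ∀ i, i < m → A (u i) = succ' i := fun i hi => by
    have h1 := b'.constr_basis F (fun i => if (i : ℕ) < m then succ' i else af) ⟨i, by omega⟩
    rw [hb'] at h1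
    simpa only [ext, hi, ↓reduceIte] using h1
  have hAf : A uf = af := by
    have h1 := b'.constr_basis F (fun i => if (i : ℕ) < m then succ' i else af) (Fin.last m)
    rw [hb'] at h1
    simpa only [ext, Fin.val_last, lt_irrefl, show ¬ m + 1 < m by omega, ↓reduceIte] using h1
  have hrepr : ∀ i, i < m → b'.repr (u i) 0 = if i = 0 then 1 else 0 := fun i hi => by
    have h1 : u i = b' ⟨i, by omega⟩ := by rw [hb']; simp [ext, hi]
    rw [h1, Basis.repr_self, Finsupp.single_apply]
    exact if_congr (by simp [Fin.ext_iff]) rfl rfl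
  have hreprf : b'.repr uf 0 = 0 := by
    have h1 : uf = b' (Fin.last m) := by rw [hb']; simp [ext]
    rw [h1, Basis.repr_self, Finsupp.single_apply, if_neg (by simp [Fin.ext_iff]; omega)]
  have hdetA : LinearMap.det A = 1 := by
    rw [det_shift b' A af fun i => ?_]
    · have hs : ∀ i, i < m → b'.repr (succ' i) 0 = 0 := fun i hi => by
        simp only [succ']
        split_ifs with h
        · rw [hrepr _ h, if_neg (by omega)]
        · exact hreprf
      rw [haf, map_add, map_sub, map_sum, map_sum, Finsupp.add_apply, Finsupp.sub_apply, Finsupp.finsetSum_apply,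
        Finsupp.finsetSum_apply, hreprf]
      rw [Finset.sum_eq_single 0
        (fun i hi hi0 => by
          rw [map_smul, Finsupp.smul_apply, hrepr i (Finset.mem_range.1 hi), if_neg hi0, smul_zero])
        (fun h0 => absurd (Finset.mem_range.2 (show 0 < m by omega)) h0),
        Finset.sum_eq_zero fun i hi => by
          rw [map_smul, Finsupp.smul_apply, hs i (Finset.mem_range.1 hi), smul_zero],
        map_smul, Finsupp.smul_apply, hrepr 0 (by omega), if_pos rfl, smul_eq_mul, mul_one, add_zero, zero_sub]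
      show (-1 : F) ^ m * -((-1) ^ (m + 1)) = 1
      rw [pow_succ, mul_neg_one, neg_neg, ← mul_pow, neg_mul_neg, one_mul, one_pow]
    · rcases lt_or_eq_of_le (Nat.le_of_lt_succ i.2) with hi | hi
      · rw [dif_pos hi, hb', hb']
        simp only [ext, hi, if_true]
        rw [hA _ hi]
      · rw [dif_neg (by omega), hb']
        simp only [ext, show ¬ (i : ℕ) < m by omega, if_false]
        exact hAf
  -- `h * A` agrees with `M₁` on the hyperplane
  set M : Module.End F V := h * A with hM
  have hMu : ∀ i, i < m → M (u i) = M₁ (u i) := fun i hi => by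
    rw [hM, Module.End.mul_apply, hA i hi, hM₁ i hi]
    simp only [succ']
    split_ifs with h1
    exacts [rfl, huf]
  have hMW : ∀ w ∈ W, M w = M₁ w := fun w hw => LinearMap.eqOn_span (by
    rintro _ ⟨i, hi, rfl⟩; exact hMu i hi) (hWdef ▸ hw : w ∈ Submodule.span F (u '' Set.Iio m))
  have hMx : ∀ i, i + 1 < m → M (x i) = x (i + 1) := fun i hi => by
    rw [hMW _ (hxW i (by omega)), hM₁x i hi]
  have hMlast : M (x (m - 1)) = y := by rw [hMW _ (hxW _ (by omega)), hM₁last]
  have hWM : W ≤ W.comap M := fun w hw => by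
    rw [Submodule.mem_comap, hMW w hw]; exact hM₁W w hw
  have hWrank : finrank F W = m := by
    have hq : finrank F W ≤ m := by
      have h1 : W = Submodule.span F (Set.range fun i : Fin m => u i) := by
        rw [hWdef]
        congr 1
        ext z
        exact ⟨fun ⟨i, hi, hz⟩ => ⟨⟨i, hi⟩, hz⟩, fun ⟨i, hz⟩ => ⟨i, i.2, hz⟩⟩
      rw [h1]
      exact (finrank_range_le_card _).trans_eq (Fintype.card_fin m)
    have h2 : ⊤ ≤ W ⊔ (F ∙ a₀) := hspan.trans <| Submodule.span_le.2 <| by
      rintro w (rfl | hw)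
      exacts [le_sup_right (a := W) (Submodule.mem_span_singleton_self _),
        le_sup_left (b := F ∙ a₀) (hWdef ▸ Submodule.subset_span hw : w ∈ W)]
    have h3 := Submodule.finrank_mono h2
    rw [finrank_top, hn] at h3
    have h4 := (Submodule.finrank_add_le_finrank_add_finrank W (F ∙ a₀))
    have h5 : finrank F (F ∙ a₀) ≤ 1 := by
      simpa using finrank_span_le_card (R := F) ({a₀} : Set V)
    omega
  -- the restriction has determinant one, hence the last coefficient is one
  have hdetW : LinearMap.det (M.restrict hWM) = 1 := by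
    obtain ⟨m', rfl⟩ : ∃ m', m = m' + 1 := ⟨m - 1, by omega⟩
    let bx : Basis (Fin (m' + 1)) F W := basisOfTopLeSpanOfCardEqFinrank (fun i => ⟨x i, hxW i i.2⟩) (by
      intro z _
      have hz : (z : V) ∈ Submodule.span F (x '' Set.Iio (m' + 1)) := hWx ▸ z.2
      have h1 : Submodule.span F (x '' Set.Iio (m' + 1)) ≤
          (Submodule.span F (Set.range fun i : Fin (m' + 1) => (⟨x i, hxW i i.2⟩ : W))).map W.subtype := by
        refine Submodule.span_le.2 ?_
        rintro _ ⟨i, hi, rfl⟩
        exact ⟨⟨x i, hxW i hi⟩, Submodule.subset_span ⟨⟨i, hi⟩, rfl⟩, rfl⟩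
      obtain ⟨z', hz', hzz⟩ := h1 hz
      rwa [← Subtype.ext hzz]) (by rw [Fintype.card_fin, hWrank])
    have hbx : ∀ i : Fin (m' + 1), bx i = ⟨x i, hxW i i.2⟩ := fun i => by simp [bx]
    rw [det_shift bx (M.restrict hWM) ⟨y, hyW⟩ fun i => ?_]
    · have h1 : (⟨y, hyW⟩ : W) = ∑ i : Fin (m' + 1), r i • bx i := Subtype.ext (by
        rw [AddSubmonoidClass.coe_finsetSum]
        show y = _
        rw [hy, ← Fin.sum_univ_eq_sum_range (fun i => r i • x i)]
        simp [hbx])
      rw [h1, Basis.repr_sum_self]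
      show (-1 : F) ^ m' * (-1) ^ (m' + 1 + 1) = 1
      rw [← pow_add, show m' + (m' + 1 + 1) = 2 * (m' + 1) by ring, pow_mul]
      norm_num
    · refine Subtype.ext ?_
      rw [hbx]
      show M (x i) = _
      split_ifs with hi
      · rw [hbx]; exact hMx i (by omega)
      · rw [show (i : ℕ) = m' + 1 - 1 by omega]; exact hMlast
  obtain ⟨φ, hφ⟩ : ∃ φ : V →ₗ[F] F, ∀ z, φ z = b'.repr z (Fin.last m) := ⟨b'.coord (Fin.last m), fun z => rfl⟩
  have hφuf : φ uf = 1 := by
    have h1 : uf = b' (Fin.last m) := by rw [hb']; simp [ext]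
    rw [hφ, h1, Basis.repr_self, Finsupp.single_eq_same]
  have hφW : ∀ w ∈ W, φ w = 0 := fun w hw => by
    refine (LinearMap.eqOn_span (g := (0 : V →ₗ[F] F)) ?_ (hWdef ▸ hw : w ∈ Submodule.span F (u '' Set.Iio m))).trans rfl
    rintro _ ⟨i, hi, rfl⟩
    have hi : i < m := hi
    have h1 : u i = b' ⟨i, by omega⟩ := by rw [hb']; simp [ext, hi]
    rw [hφ, h1, Basis.repr_self, Finsupp.single_apply, if_neg (by simp [Fin.ext_iff]; omega)]
    rfl
  have hdec : ∀ z, z - φ z • uf ∈ W := fun z => by
    refine (Submodule.span_le (p := (W.comap (LinearMap.id - φ.smulRight uf)))).2 ?_ (hWtop uf hufW (Submodule.mem_top (x := z)))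
    rintro _ ⟨i, rfl⟩
    simp only [ext]
    split_ifs with hi
    · simp [hφW _ (huW i hi), huW i hi]
    · simp [hφuf]
  have hcoef : φ (M uf) = 1 := by
    have hdetM : LinearMap.det M = 1 := by rw [hM, map_mul, hdet, hdetA, one_mul]
    rw [LinearMap.det_eq_det_mul_det W M hWM, hdetW, one_mul] at hdetM
    have hQ : finrank F (V ⧸ W) = 1 := by
      have := Submodule.finrank_quotient_add_finrank W
      omega
    have h1 : W.mapQ W M hWM = φ (M uf) • (1 : Module.End F (V ⧸ W)) := by
      refine LinearMap.ext fun z => ?_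
      obtain ⟨z, rfl⟩ := Submodule.Quotient.mk_surjective W z
      rw [Submodule.mapQ_apply, LinearMap.smul_apply, Module.End.one_apply, ← Submodule.Quotient.mk_smul,
        Submodule.Quotient.eq]
      have h2 : M z - φ (M uf) • z
          = M (z - φ z • uf) + φ z • (M uf - φ (M uf) • uf) - φ (M uf) • (z - φ z • uf) := by
        rw [map_sub, map_smul]; module
      rw [h2]
      exact sub_mem (add_mem (hWM (hdec z)) (W.smul_mem _ (hdec (M uf)))) (W.smul_mem _ (hdec z))
    rw [h1, LinearMap.det_smul, map_one, mul_one, hQ, pow_one] at hdetM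
    exact hdetM
  -- the fixed vector
  have hrange : W ≤ W.map (M - 1) := by
    have hd : ∀ i, i < m → x i - x 0 ∈ W.map (M - 1) := by
      intro i
      induction i with
      | zero => intro _; simp
      | succ i ih =>
        intro hi
        rw [show x (i + 1) - x 0 = (x (i + 1) - x i) + (x i - x 0) by abel]
        exact add_mem ⟨x i, hxW i (by omega), by simp [hMx i hi]⟩ (ih (by omega))
    have h0 : x 0 ∈ W.map (M - 1) := by
      refine (Submodule.smul_mem_iff _ (sub_ne_zero.2 hS1)).1 ?_
      have h1 : (S - 1) • x 0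
          = (y - x (m - 1)) + (x (m - 1) - x 0) - ∑ i ∈ Finset.range m, r i • (x i - x 0) := by
        simp only [smul_sub, Finset.sum_sub_distrib, ← hy, ← Finset.sum_smul, ← hS, sub_smul, one_smul]
        abel
      rw [h1]
      refine sub_mem (add_mem ⟨x (m - 1), hxW _ (by omega), by simp [hMlast]⟩ (hd _ (by omega)))
        (Submodule.sum_mem _ fun i hi => Submodule.smul_mem _ _ (hd i (Finset.mem_range.1 hi)))
    refine hWx.le.trans (Submodule.span_le.2 ?_)
    rintro _ ⟨i, hi, rfl⟩
    simpa using add_mem (hd i hi) h0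
  obtain ⟨w₀, hw₀, hw₀eq⟩ := hrange (show uf - M uf ∈ W by
    have h1 := hdec (M uf)
    rw [hcoef, one_smul] at h1
    simpa using W.neg_mem h1)
  set f := uf + w₀ with hf
  have hMf : M f = f := by
    simp only [LinearMap.sub_apply, Module.End.one_apply] at hw₀eq
    rw [hf, map_add, ← sub_eq_zero, show M uf + M w₀ - (uf + w₀) = (M w₀ - w₀) - (uf - M uf) by abel, hw₀eq, sub_self]
  have hφf : φ f = 1 := by rw [hf, map_add, hφuf, hφW _ hw₀, add_zero]
  have hφM : ∀ z, φ (M z) = φ z := fun z => by
    conv_lhs => rw [← sub_add_cancel z (φ z • uf)]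
    rw [map_add, map_add, map_smul, map_smul, hcoef, hφW _ (hWM (hdec z)), zero_add, smul_eq_mul, mul_one]
  -- the conjugating operator
  let B : Module.End F V := b'.constr F fun i => if (i : ℕ) < m then x i + f else y + f
  have hB : ∀ i, i < m → B (u i) = x i + f := fun i hi => by
    have h1 := b'.constr_basis F (fun i => if (i : ℕ) < m then x i + f else y + f) ⟨i, by omega⟩
    rw [hb'] at h1
    simpa only [ext, hi, ↓reduceIte] using h1
  have hBf : B uf = y + f := by
    have h1 := b'.constr_basis F (fun i => if (i : ℕ) < m then x i + f else y + f) (Fin.last m)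
    rw [hb'] at h1
    simpa only [ext, Fin.val_last, lt_irrefl, show ¬ m + 1 < m by omega, ↓reduceIte] using h1
  have hBsucc : ∀ i, i < m → B (succ' i) = M (x i + f) := fun i hi => by
    rw [map_add, hMf]
    simp only [succ']
    split_ifs with h1
    · rw [hB _ h1, hMx i h1]
    · rw [hBf, show i = m - 1 by omega, hMlast]
  have hMB : ∀ z, M (B z) = B (A z) := by
    intro z
    refine LinearMap.congr_fun (f := M * B) (g := B * A) (b'.ext fun i => ?_) z
    rw [hb']
    show M (B _) = B (A _)
    simp only [ext]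
    split_ifs with hi
    · rw [hA _ hi, hBsucc _ hi, hB _ hi]
    · rw [hAf, haf, hBf, map_add M, hMf, map_add B, map_sub B, map_sum B, map_sum B, hBf]
      have h1 : ∀ i ∈ Finset.range m, B (r i • u i) = r i • x i + r i • f := fun i hi => by
        rw [map_smul, hB i (Finset.mem_range.1 hi), smul_add]
      have h2 : ∀ i ∈ Finset.range m, B (r i • succ' i) = M (r i • x i) + r i • f := fun i hi => by
        rw [map_smul, hBsucc i (Finset.mem_range.1 hi), map_add, hMf, smul_add, map_smul]
      rw [Finset.sum_congr rfl h1, Finset.sum_congr rfl h2, Finset.sum_add_distrib, Finset.sum_add_distrib,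
        ← hy, ← map_sum, ← hy]
      abel
  have hBsurj : LinearMap.range B = ⊤ := by
    have hxf : ∀ i, i < m → x i + f ∈ LinearMap.range B := fun i hi => ⟨u i, hB i hi⟩
    have h0 : x 0 ∈ LinearMap.range B := by
      refine (Submodule.smul_mem_iff _ (sub_ne_zero.2 hS1)).1 ?_
      have h1 : (S - 1) • x 0 = (y + f) - (x 0 + f) - ∑ i ∈ Finset.range m, r i • ((x i + f) - (x 0 + f)) := by
        simp only [add_sub_add_right_eq_sub, smul_sub, Finset.sum_sub_distrib, ← hy, ← Finset.sum_smul, ← hS,
          sub_smul, one_smul]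
        abel
      rw [h1]
      exact sub_mem (sub_mem ⟨uf, hBf⟩ (hxf 0 (by omega))) (Submodule.sum_mem _ fun i hi =>
        Submodule.smul_mem _ _ (sub_mem (hxf i (Finset.mem_range.1 hi)) (hxf 0 (by omega))))
    have hfR : f ∈ LinearMap.range B := by simpa using sub_mem (hxf 0 (by omega)) h0
    have hWR : W ≤ LinearMap.range B := hWx.le.trans <| Submodule.span_le.2 <| by
      rintro _ ⟨i, hi, rfl⟩
      simpa using sub_mem (hxf i hi) hfR
    rw [eq_top_iff]
    intro z _
    have h3 : z = (z - φ z • uf - φ z • w₀) + φ z • f := by rw [hf, smul_add]; abel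
    rw [h3]
    exact add_mem (hWR (W.sub_mem (hdec z) (W.smul_mem _ hw₀))) (Submodule.smul_mem _ _ hfR)
  have hdetB : LinearMap.det B ≠ 0 := by
    intro h0
    have h1 := LinearMap.det_eq_zero_iff_ker_ne_bot.1 h0
    exact h1 (LinearMap.ker_eq_bot_iff_range_eq_top.2 hBsurj)
  set c := (LinearMap.det B)⁻¹ with hc
  set Z := LinearMap.transvection φ ((c - 1) • f) with hZ
  refine ⟨A, Z * B, hdetA, ?_, ?_⟩
  · rw [map_mul, hZ, LinearMap.transvection.det, map_smul, hφf, smul_eq_mul, mul_one, add_sub_cancel, hc,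
      inv_mul_cancel₀ hdetB]
  · refine LinearMap.ext fun z => ?_
    simp only [Module.End.mul_apply]
    show M (Z (B z)) = Z (B (A z))
    rw [← hMB, hZ, LinearMap.transvection.apply, LinearMap.transvection.apply, map_add, map_smul, map_smul, hMf,
      hφM]

/-- The plane case. -/
theorem isComm_two [Finite F] (h : Module.End F V) (hn : finrank F V = 2) (hdet : LinearMap.det h = 1)
    (hns : ∀ c : F, ∃ v, h v ≠ c • v) (hF : 4 ≤ Nat.card F) : IsComm h := by
  classical
  have := Fintype.ofFinite F
  obtain ⟨x, hx0, hx⟩ : ∃ x : F, x ≠ 0 ∧ x * x ≠ 1 := by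
    by_contra hno
    push Not at hno
    have hsub : (Finset.univ : Finset F) ⊆ {0, 1, -1} := fun y _ => by
      rcases eq_or_ne y 0 with rfl | hy
      · simp
      · rcases mul_self_eq_one_iff.1 (hno y hy) with h | h <;> simp [h]
    have h1 := (Finset.card_le_card hsub).trans Finset.card_le_three
    rw [Finset.card_univ, ← Nat.card_eq_fintype_card] at h1
    omega
  obtain ⟨v, hv⟩ : ∃ v, ∀ c : F, h v ≠ c • v := by
    by_contra hno
    push Not at hno
    choose c hc using hno
    let bV := Module.finBasisOfFinrankEq F V hn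
    have h01 : c (bV 0) = c (bV 1) := by
      have h2 := hc (bV 0 + bV 1)
      rw [map_add, hc, hc, smul_add] at h2
      have h3 := congrArg (fun z => bV.repr z 0) h2
      have h4 := congrArg (fun z => bV.repr z 1) h2
      simp at h3 h4
      rw [h3, h4]
    obtain ⟨w, hw⟩ := hns (c (bV 0))
    refine hw (LinearMap.congr_fun (f := h) (g := c (bV 0) • LinearMap.id) (bV.ext fun i => ?_) w)
    fin_cases i
    · exact hc _
    · show h (bV 1) = c (bV 0) • bV 1
      rw [h01]; exact hc _
  have hv0 : v ≠ 0 := fun e => hv 0 (by simp [e])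
  have hli : LinearIndependent F ![v, h v] :=
    (LinearIndependent.pair_iff' hv0).2 fun c hc => hv c hc.symm
  let b : Basis (Fin 2) F V := basisOfLinearIndependentOfCardEqFinrank hli (by simp [hn])
  have hb0 : b 0 = v := by simp [b]
  have hb1 : b 1 = h v := by simp [b]
  obtain ⟨α, β, hαβ⟩ : ∃ α β : F, h (h v) = α • v + β • h v :=
    ⟨b.repr (h (h v)) 0, b.repr (h (h v)) 1, by
      conv_lhs => rw [← b.sum_repr (h (h v))]
      rw [Fin.sum_univ_two, hb0, hb1]⟩
  have hα : α = -1 := by
    have h1 := det_shift (n := 1) b h (h (h v)) fun i => by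
      fin_cases i
      · simp [hb0, hb1]
      · simp [hb1]
    rw [hdet] at h1
    have h2 : b.repr (h (h v)) 0 = α := by
      rw [hαβ, map_add, map_smul, map_smul, ← hb1, ← hb0]; simp
    rw [h2] at h1
    linear_combination h1
  have hxi : x - x⁻¹ ≠ 0 := fun e => hx (by rw [sub_eq_zero] at e; nth_rewrite 2 [e]; exact mul_inv_cancel₀ hx0)
  set y := x + x⁻¹ - β * x⁻¹ with hy
  let A : Module.End F V := b.constr F ![x • v, y • v + x⁻¹ • h v]
  have hAv : A v = x • v := by
    rw [← hb0]; simp [A]; rw [hb0]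
  have hAhv : A (h v) = y • v + x⁻¹ • h v := by
    rw [← hb1]; simp [A]; rw [hb1]
  set M : Module.End F V := h * A with hM
  have hMv : M v = x • h v := by rw [hM, Module.End.mul_apply, hAv, map_smul]
  have hMhv : M (h v) = (-x⁻¹) • v + (x + x⁻¹) • h v := by
    rw [hM, Module.End.mul_apply, hAhv, map_add, map_smul, map_smul, hαβ, hα, hy]
    module
  let wA := (y * (x⁻¹ - x)⁻¹) • v + h v
  have hAw : A wA = x⁻¹ • wA := by
    simp only [wA, map_add, map_smul, hAv, hAhv, smul_smul, smul_add]
    rw [← sub_eq_zero]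
    have hne : x⁻¹ - x ≠ 0 := fun e => hxi (by rw [← neg_sub, e, neg_zero])
    have : y * (x⁻¹ - x)⁻¹ * x + y - x⁻¹ * (y * (x⁻¹ - x)⁻¹) = 0 := by
      linear_combination (-y) * inv_mul_cancel₀ hne
    linear_combination (norm := module) this • v
  have hg : ∀ l : F, l * l - l * (x + x⁻¹) + 1 = 0 → M (v - (l * x) • h v) = l • (v - (l * x) • h v) := by
    intro l hl
    rw [map_sub, map_smul, hMv, hMhv, ← sub_eq_zero]
    have h1 : l * x * x⁻¹ - l = 0 := by rw [mul_assoc, mul_inv_cancel₀ hx0, mul_one, sub_self]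
    linear_combination (norm := module) h1 • v + (x * hl) • h v
  have hl1 : x * x - x * (x + x⁻¹) + 1 = 0 := by rw [mul_add, mul_inv_cancel₀ hx0]; ring
  have hl2 : x⁻¹ * x⁻¹ - x⁻¹ * (x + x⁻¹) + 1 = 0 := by rw [mul_add, inv_mul_cancel₀ hx0]; ring
  have hli2 : LinearIndependent F ![v, wA] := (LinearIndependent.pair_iff' hv0).2 fun c hc => by
    refine hv (c - y * (x⁻¹ - x)⁻¹) ?_
    rw [sub_smul, hc]; simp [wA]
  let ba : Basis (Fin 2) F V := basisOfLinearIndependentOfCardEqFinrank hli2 (by simp [hn])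
  let B : Module.End F V := ba.constr F ![v - (x * x) • h v, v - (x⁻¹ * x) • h v]
  have hBv : B v = v - (x * x) • h v := by
    rw [show v = ba 0 by simp [ba]]; simp [B]; simp [ba]
  have hBw : B wA = v - (x⁻¹ * x) • h v := by
    rw [show wA = ba 1 by simp [ba]]; simp [B]
  have hMB : ∀ z, M (B z) = B (A z) := by
    intro z
    refine LinearMap.congr_fun (f := M * B) (g := B * A) (ba.ext fun i => ?_) z
    fin_cases i
    · simp only [Module.End.mul_apply]
      rw [show ba _ = v by simp [ba], hBv, hAv, map_smul, hBv, hg x hl1]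
    · simp only [Module.End.mul_apply]
      rw [show ba _ = wA by simp [ba], hBw, hAw, map_smul, hBw, hg x⁻¹ hl2]
  have hdetB : LinearMap.det B ≠ 0 := by
    intro h0
    refine LinearMap.det_eq_zero_iff_ker_ne_bot.1 h0 (LinearMap.ker_eq_bot_iff_range_eq_top.2 ?_)
    rw [eq_top_iff, ← b.span_eq, Submodule.span_le]
    have hd : h v ∈ LinearMap.range B := by
      refine (Submodule.smul_mem_iff (LinearMap.range B)
        (sub_ne_zero.2 (by rw [inv_mul_cancel₀ hx0]; exact Ne.symm hx) : (x⁻¹ * x) - x * x ≠ 0)).1 ?_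
      rw [sub_smul, show (x⁻¹ * x) • h v - (x * x) • h v
        = (v - (x * x) • h v) - (v - (x⁻¹ * x) • h v) by abel]
      exact sub_mem ⟨v, hBv⟩ ⟨wA, hBw⟩
    rintro _ ⟨i, rfl⟩
    fin_cases i
    · simp only [SetLike.mem_coe]
      rw [show b _ = (v - (x * x) • h v) + (x * x) • h v by simp [b]]
      exact add_mem ⟨v, hBv⟩ (Submodule.smul_mem _ _ hd)
    · simp only [SetLike.mem_coe]
      rw [show b _ = h v by simp [b]]
      exact hd
  set d := (LinearMap.det B)⁻¹ with hd
  obtain ⟨χ, hχv, hχw⟩ : ∃ χ : V →ₗ[F] F, χ v = 1 ∧ χ wA = 0 := by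
    refine ⟨ba.coord 0, ?_, ?_⟩
    · rw [show v = ba 0 by simp [ba], Basis.coord_apply, Basis.repr_self, Finsupp.single_eq_same]
    · rw [show wA = ba 1 by simp [ba], Basis.coord_apply, Basis.repr_self]; simp
  set Z := LinearMap.transvection χ ((d - 1) • v) with hZ
  have hdetA : LinearMap.det A = 1 := by
    rw [← LinearMap.det_toMatrix b, Matrix.det_fin_two]
    simp only [LinearMap.toMatrix_apply, hb0, hb1, hAv, hAhv, map_add, map_smul]
    rw [← hb1, ← hb0]
    simp [hx0]
  refine ⟨A, B * Z, hdetA, ?_, ?_⟩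
  · rw [map_mul, hZ, LinearMap.transvection.det, map_smul, hχv, smul_eq_mul, mul_one, add_sub_cancel, hd,
      mul_inv_cancel₀ hdetB]
  · refine LinearMap.ext fun z => ?_
    simp only [Module.End.mul_apply]
    show M (B (Z z)) = B (Z (A z))
    rw [hMB]
    congr 1
    have hχA : χ (A z) = x * χ z := by
      refine LinearMap.congr_fun (f := χ.comp A) (g := x • χ) (ba.ext fun i => ?_) z
      fin_cases i
      · simp only [LinearMap.comp_apply, LinearMap.smul_apply]
        rw [show ba _ = v by simp [ba], hAv, map_smul, hχv]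
      · simp only [LinearMap.comp_apply, LinearMap.smul_apply]
        rw [show ba _ = wA by simp [ba], hAw, map_smul, hχw, smul_zero, smul_zero]
    rw [hZ, LinearMap.transvection.apply, LinearMap.transvection.apply, map_add, map_smul, map_smul, hAv, hχA]
    module

end Cfsg.Agent.Classical.CommutatorSL
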