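import Mathlib

/-!
Commutators in the special linear group: multiplication by a field element of norm one on a finite extension
field, and more generally an operator whose minimal polynomial is irreducible.
-/

set_option autoImplicit false

namespace Cfsg.Agent.Classical.CommutatorSL

open Polynomial Module

universe u v w

variable {F : Type u} [Field F]

/-- `g` is a commutator of two operators of determinant one. -/
def IsComm {V : Type v} [AddCommGroup V] [Module F V] (g : Module.End F V) : Prop :=
  ∃ a b : Module.End F V, LinearMap.det a = 1 ∧ LinearMap.det b = 1 ∧ g * (a * b) = b * a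

theorem isComm_conj {V : Type v} [AddCommGroup V] [Module F V] {W : Type w} [AddCommGroup W] [Module F W]
    (φ : V ≃ₗ[F] W) {g : Module.End F V} (h : IsComm g) : IsComm (φ.conj g) := by
  obtain ⟨a, b, ha, hb, hab⟩ := h
  refine ⟨φ.conj a, φ.conj b, ?_, ?_, ?_⟩
  · rw [LinearEquiv.conj_apply, LinearMap.comp_assoc, LinearMap.det_conj, ha]
  · rw [LinearEquiv.conj_apply, LinearMap.comp_assoc, LinearMap.det_conj, hb]
  · refine LinearMap.ext fun x => ?_
    simpa [LinearEquiv.conj_apply] using congrArg φ (LinearMap.congr_fun hab (φ.symm x))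

variable [Finite F]

section Centralizer

omit [Finite F] in
theorem commute_aeval_self {A : Type w} [Ring A] [Algebra F A] (a : A) (P : F[X]) : Commute (aeval a P) a := by
  have h : aeval a (P * X) = aeval a (X * P) := by rw [mul_comm]
  rw [map_mul, map_mul, aeval_X] at h
  exact h

variable {V : Type v} [AddCommGroup V] [Module F V] [FiniteDimensional F V]

omit [Finite F] in
theorem aeval_pow_card_pow {A : Type w} [Ring A] [Algebra F A] [Fintype F] (g : F[X]) (x : A) (j : ℕ) :
    aeval (x ^ Fintype.card F ^ j) g = (aeval x g) ^ Fintype.card F ^ j := by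
  induction j with
  | zero => simp
  | succ j ih =>
    rw [pow_succ, pow_mul, ← expand_aeval, FiniteField.expand_card, map_pow, ih, ← pow_mul]

/-- An operator with a coprime-primary component of multiplicity prime to `#F - 1` has a centralizer with
arbitrary determinants. -/
theorem exists_commute_det_of_component (a : Module.End F V) (g R : F[X]) (e : ℕ) (hg : g.Monic)
    (hgi : Irreducible g) (hR : R.Monic) (hcop : IsCoprime (g ^ e) R) (hzero : aeval a (g ^ e * R) = 0)
    (hdeg : (g ^ e * R).natDegree = finrank F V)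
    (hmin : ∀ P : F[X], P.natDegree < finrank F V → aeval a P = 0 → P = 0)
    (t' : F) : ∃ z : Module.End F V, Commute z a ∧ LinearMap.det z = t' ^ e := by
  classical
  have := Fintype.ofFinite F
  set V₁ := LinearMap.ker (aeval a (g ^ e)) with hV₁
  set V₂ := LinearMap.ker (aeval a R) with hV₂
  have hdis : Disjoint V₁ V₂ := disjoint_ker_aeval_of_isCoprime a hcop
  have hsup : V₁ ⊔ V₂ = ⊤ := by
    rw [hV₁, hV₂, sup_ker_aeval_eq_ker_aeval_mul_of_coprime a hcop, hzero, LinearMap.ker_zero]
  have hc : IsCompl V₁ V₂ := ⟨hdis, codisjoint_iff.2 hsup⟩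
  have hinv : ∀ (P : F[X]) (x : V), aeval a P x = 0 → aeval a P (a x) = 0 := by
    intro P x hx
    have h : Commute (aeval a P) a := commute_aeval_self a P
    rw [← Module.End.mul_apply, h.eq, Module.End.mul_apply, hx, map_zero]
  have h1 : ∀ x ∈ V₁, a x ∈ V₁ := fun x hx => hinv _ x hx
  set a₁ : Module.End F V₁ := a.restrict h1 with ha₁
  have hres : ∀ (P : F[X]) (x : V₁), ((aeval a₁ P x : V₁) : V) = aeval a P x := by
    intro P x
    induction P using Polynomial.induction_on' with
    | add p q hp hq => simp [hp, hq]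
    | monomial n r =>
      simp only [aeval_monomial, Module.End.mul_apply, Module.algebraMap_end_apply, SetLike.val_smul]
      congr 1
      induction n with
      | zero => simp
      | succ n ih => rw [pow_succ', pow_succ', Module.End.mul_apply, Module.End.mul_apply, ← ih]; rfl
  -- the dimension of the component
  have hge : (g ^ e).Monic := hg.pow e
  have hsum := Submodule.finrank_add_eq_of_isCompl hc
  rw [natDegree_mul hge.ne_zero hR.ne_zero] at hdeg
  have hsplit : ∀ x, ∃ y ∈ V₁, ∃ z ∈ V₂, y + z = x := fun x =>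
    Submodule.mem_sup.1 (hsup ▸ Submodule.mem_top)
  have hd1 : (g ^ e).natDegree ≤ finrank F V₁ := by
    by_contra hlt
    push Not at hlt
    set c := a₁.charpoly with hc'
    have hz : aeval a (c * R) = 0 := LinearMap.ext fun x => by
      obtain ⟨y, hy, z, hz, rfl⟩ := hsplit x
      rw [map_add, show aeval a (c * R) z = 0 by rw [map_mul, Module.End.mul_apply, hz, map_zero],
        mul_comm, map_mul, Module.End.mul_apply, ← hres c ⟨y, hy⟩, hc', LinearMap.aeval_self_charpoly]
      simp
    refine mul_ne_zero a₁.charpoly_monic.ne_zero hR.ne_zero (hmin _ ?_ hz)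
    rw [natDegree_mul a₁.charpoly_monic.ne_zero hR.ne_zero, LinearMap.charpoly_natDegree]
    omega
  have hd2 : R.natDegree ≤ finrank F V₂ := by
    by_contra hlt
    push Not at hlt
    have h2 : ∀ x ∈ V₂, a x ∈ V₂ := fun x hx => hinv _ x hx
    set a₂ : Module.End F V₂ := a.restrict h2 with ha₂
    have hres₂ : ∀ (P : F[X]) (x : V₂), ((aeval a₂ P x : V₂) : V) = aeval a P x := by
      intro P x
      induction P using Polynomial.induction_on' with
      | add p q hp hq => simp [hp, hq]
      | monomial n r =>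
        simp only [aeval_monomial, Module.End.mul_apply, Module.algebraMap_end_apply, SetLike.val_smul]
        congr 1
        induction n with
        | zero => simp
        | succ n ih => rw [pow_succ', pow_succ', Module.End.mul_apply, Module.End.mul_apply, ← ih]; rfl
    have hz : aeval a (g ^ e * a₂.charpoly) = 0 := LinearMap.ext fun x => by
      obtain ⟨y, hy, z, hz, rfl⟩ := hsplit x
      rw [map_add, show aeval a (g ^ e * a₂.charpoly) y = 0 by
          rw [mul_comm, map_mul, Module.End.mul_apply, hy, map_zero],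
        map_mul, Module.End.mul_apply, ← hres₂ _ ⟨z, hz⟩, LinearMap.aeval_self_charpoly]
      simp
    refine mul_ne_zero hge.ne_zero a₂.charpoly_monic.ne_zero (hmin _ ?_ hz)
    rw [natDegree_mul hge.ne_zero a₂.charpoly_monic.ne_zero, LinearMap.charpoly_natDegree]
    omega
  have hdim : finrank F V₁ = g.natDegree * e := by
    rw [natDegree_pow] at hdeg hd1
    rw [mul_comm]
    omega
  -- a semisimple element of the component
  set Θ : Module.End F V₁ := a₁ ^ Fintype.card F ^ e with hΘ
  have hgΘ : aeval Θ g = 0 := by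
    rw [hΘ, aeval_pow_card_pow]
    have he : (aeval a₁ g) ^ e = 0 := LinearMap.ext fun x => Subtype.ext <| by
      rw [← map_pow, hres]
      exact x.2
    exact pow_eq_zero_of_le (Nat.lt_pow_self Fintype.one_lt_card).le he
  have := Fact.mk hgi
  let f : AdjoinRoot g →ₐ[F] Module.End F V₁ :=
    Ideal.Quotient.liftₐ _ (aeval Θ) fun p hp => by
      obtain ⟨r, rfl⟩ := Ideal.mem_span_singleton.1 hp
      rw [map_mul, hgΘ, zero_mul]
  have : FiniteDimensional F (AdjoinRoot g) := (AdjoinRoot.powerBasis hgi.ne_zero).finite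
  have : Finite (AdjoinRoot g) := Module.finite_of_finite F
  letI : Module (AdjoinRoot g) V₁ := Module.compHom V₁ f.toRingHom
  haveI : IsScalarTower F (AdjoinRoot g) V₁ := ⟨fun r l x => by
    show f (r • l) x = r • f l x
    rw [map_smul]; rfl⟩
  haveI : Module.Finite (AdjoinRoot g) V₁ := Module.Finite.of_restrictScalars_finite F (AdjoinRoot g) V₁
  have hL : finrank (AdjoinRoot g) V₁ = e := by
    have h := finrank_mul_finrank F (AdjoinRoot g) V₁
    rw [(AdjoinRoot.powerBasis hgi.ne_zero).finrank, AdjoinRoot.powerBasis_dim, hdim] at h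
    exact Nat.eq_of_mul_eq_mul_left hgi.natDegree_pos h
  obtain ⟨l, hl⟩ := FiniteField.norm_surjective F (AdjoinRoot g) t'
  have hdet : LinearMap.det (f l) = t' ^ e := by
    have h : f l = (l • (1 : Module.End (AdjoinRoot g) V₁)).restrictScalars F := rfl
    rw [h, LinearMap.det_restrictScalars, LinearMap.det_smul, hL, map_one, mul_one, map_pow, hl]
  refine ⟨LinearMap.ofIsCompl hc (V₁.subtype.comp (f l)) V₂.subtype, ?_, ?_⟩
  · refine LinearMap.ext fun x => ?_
    obtain ⟨y, hy, z, hz, rfl⟩ := hsplit x
    have hay : a y ∈ V₁ := h1 y hy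
    have haz : a z ∈ V₂ := hinv _ z hz
    simp only [Module.End.mul_apply, map_add]
    rw [show y = ((⟨y, hy⟩ : V₁) : V) from rfl, show z = ((⟨z, hz⟩ : V₂) : V) from rfl,
      LinearMap.ofIsCompl_apply_left, LinearMap.ofIsCompl_apply_right]
    rw [show a ((⟨y, hy⟩ : V₁) : V) = ((⟨a y, hay⟩ : V₁) : V) from rfl,
      show a ((⟨z, hz⟩ : V₂) : V) = ((⟨a z, haz⟩ : V₂) : V) from rfl,
      LinearMap.ofIsCompl_apply_left, LinearMap.ofIsCompl_apply_right]
    simp only [LinearMap.comp_apply, Submodule.subtype_apply]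
    congr 1
    have hcomm : Commute (f l) a₁ := by
      obtain ⟨P, rfl⟩ := Ideal.Quotient.mk_surjective l
      show Commute (aeval Θ P) a₁
      rw [hΘ, ← expand_aeval]
      exact commute_aeval_self a₁ _
    exact congrArg Subtype.val (LinearMap.congr_fun hcomm.eq ⟨y, hy⟩)
  · let E := Submodule.prodEquivOfIsCompl V₁ V₂ hc
    have h : LinearMap.ofIsCompl hc (V₁.subtype.comp (f l)) V₂.subtype
        = (E.toLinearMap).comp (((f l).prodMap LinearMap.id).comp E.symm.toLinearMap) := by
      refine LinearMap.ofIsCompl_eq hc (fun u => ?_) (fun u => ?_)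
      · simp [E]
      · simp [E]
    rw [h, LinearMap.det_conj, LinearMap.det_prodMap, LinearMap.det_id, mul_one, hdet]

/-- An operator with minimal polynomial `X ^ N - ν` of full degree has a centralizer with arbitrary
determinants. -/
theorem exists_commute_det (a : Module.End F V) (ν : F) (hν : ν ≠ 0) (hV : 0 < finrank F V)
    (hpow : a ^ finrank F V = algebraMap F _ ν)
    (hmin : ∀ P : F[X], P.natDegree < finrank F V → aeval a P = 0 → P = 0)
    (t : F) : ∃ z : Module.End F V, Commute z a ∧ LinearMap.det z = t := by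
  classical
  obtain ⟨p, hp⟩ := CharP.exists F
  have : Fact p.Prime := ⟨CharP.char_is_prime F p⟩
  have : ExpChar F p := .prime Fact.out
  obtain ⟨s, m, hpm, hN⟩ := Nat.exists_eq_pow_mul_and_not_dvd hV.ne' p (Fact.out : p.Prime).ne_one
  have hm : (m : F) ≠ 0 := fun h => hpm ((CharP.cast_eq_zero_iff F p m).1 h)
  have hsurj : ∀ x : F, ∃ y : F, y ^ p ^ s = x := fun x => by
    obtain ⟨y, hy⟩ := (bijective_iterateFrobenius F p s).2 x
    exact ⟨y, hy⟩
  obtain ⟨ν₀, hν₀⟩ := hsurj ν
  have hν₀0 : ν₀ ≠ 0 := fun h => hν (by rw [← hν₀, h, zero_pow (pow_ne_zero _ (Fact.out : p.Prime).ne_zero)])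
  have hm0 : 0 < m := Nat.pos_of_ne_zero fun h => hm (by simp [h])
  set h0 : F[X] := X ^ m - C ν₀ with hh0
  have hh0m : h0.Monic := monic_X_pow_sub_C _ hm0.ne'
  have hh0d : h0.natDegree = m := natDegree_X_pow_sub_C
  have hnu : ¬ IsUnit h0 := fun h => by
    have := natDegree_eq_zero_of_isUnit h
    omega
  obtain ⟨g, hgm, hgi, hgd⟩ := exists_monic_irreducible_factor h0 hnu
  obtain ⟨R, hR⟩ := hgd
  have hRm : R.Monic := Monic.of_mul_monic_left hgm (hR ▸ hh0m)
  have hcop : IsCoprime g R := (hR ▸ separable_X_pow_sub_C ν₀ hm hν₀0 : (g * R).Separable).isCoprime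
  have hpe : (g ^ p ^ s * R ^ p ^ s : F[X]) = X ^ finrank F V - C ν := by
    rw [← mul_pow, ← hR, hh0, sub_pow_expChar_pow, ← C_pow, hν₀, ← pow_mul, hN, mul_comm m]
  obtain ⟨t', rfl⟩ := hsurj t
  refine exists_commute_det_of_component a g (R ^ p ^ s) (p ^ s) hgm hgi (hRm.pow _) hcop.pow ?_ ?_ hmin t'
  · rw [hpe, map_sub, map_pow, aeval_X, aeval_C, hpow, sub_self]
  · rw [hpe, natDegree_X_pow_sub_C]

end Centralizer

/-- Multiplication by an element of norm one on a finite extension field is a commutator. -/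
theorem isComm_lmul (K : Type v) [Field K] [Algebra F K] [Finite K] (ζ : K) (hN : Algebra.norm F ζ = 1) :
    IsComm (Algebra.lmul F K ζ) := by
  classical
  have := Fintype.ofFinite F
  have := Fintype.ofFinite K
  have : Module.Finite F K := Module.Finite.of_finite
  set q := Nat.card F with hq
  set N := finrank F K with hNdef
  have hq1 : 1 < q := Finite.one_lt_card
  have hQ : Nat.card K = q ^ N := Module.natCard_eq_pow_finrank
  have hN0 : 0 < N := finrank_pos
  -- a solution of `β ^ (q - 1) = ζ`
  have hζ : ζ ^ ((Nat.card K - 1) / (q - 1)) = 1 := by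
    rw [← FiniteField.algebraMap_norm_eq_pow (K := F), hN, map_one]
  have hdvd : q - 1 ∣ Nat.card K - 1 := by
    rw [hQ]
    simpa using Nat.sub_dvd_pow_sub_pow q 1 N
  have hζ0 : ζ ≠ 0 := fun h => by simp [h] at hN
  obtain ⟨γ₀, hγ₀⟩ := IsCyclic.exists_generator (α := Kˣ)
  obtain ⟨i, hi : γ₀ ^ i = Units.mk0 ζ hζ0⟩ := (mem_powers_iff_mem_zpowers).2 (hγ₀ (Units.mk0 ζ hζ0))
  obtain ⟨β, hβ0, hβ⟩ : ∃ β : K, β ≠ 0 ∧ β ^ (q - 1) = ζ := by
    have h1 : γ₀ ^ (i * ((Nat.card K - 1) / (q - 1))) = 1 := by
      rw [pow_mul, hi]; exact Units.ext (by simpa using hζ)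
    have h2 : Nat.card K - 1 ∣ i * ((Nat.card K - 1) / (q - 1)) := by
      have h3 := orderOf_dvd_of_pow_eq_one h1
      rwa [orderOf_eq_card_of_forall_mem_zpowers hγ₀, Nat.card_units] at h3
    obtain ⟨c, hc⟩ := hdvd
    rw [hc, Nat.mul_div_cancel_left _ (by omega)] at h2
    have hc0 : 0 < c := by
      rcases Nat.eq_zero_or_pos c with rfl | h
      · have := Finite.one_lt_card (α := K); omega
      · exact h
    obtain ⟨j, hj⟩ := (Nat.mul_dvd_mul_iff_right hc0).1 h2
    refine ⟨((γ₀ ^ j : Kˣ) : K), Units.ne_zero _, ?_⟩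
    have h4 := congrArg Units.val hi
    rw [Units.val_pow_eq_pow_val, hj] at h4
    rw [Units.val_pow_eq_pow_val, ← pow_mul, mul_comm j]
    exact h4
  -- the semilinear-type operator of determinant one
  let σ : K ≃ₗ[F] K := (FiniteField.frobeniusAlgEquivOfAlgebraic F K).toLinearEquiv
  have hσ : ∀ x : K, σ x = x ^ q := fun x => by
    show (FiniteField.frobeniusAlgEquivOfAlgebraic F K) x = x ^ q
    rw [FiniteField.coe_frobeniusAlgEquivOfAlgebraic, hq, Nat.card_eq_fintype_card]
  obtain ⟨γ, hγ⟩ := FiniteField.norm_surjective F K (LinearMap.det (σ : K →ₗ[F] K))⁻¹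
  have hσd : LinearMap.det (σ : K →ₗ[F] K) ≠ 0 := (LinearEquiv.isUnit_det' σ).ne_zero
  have hγ0 : γ ≠ 0 := fun h => inv_ne_zero hσd (by rw [← hγ, h, Algebra.norm_zero])
  set a : Module.End F K := Algebra.lmul F K γ * (σ : K →ₗ[F] K) with ha
  have hax : ∀ x, a x = γ * x ^ q := fun x => by
    rw [ha, Module.End.mul_apply, LinearEquiv.coe_coe, hσ]; rfl
  have hdeta : LinearMap.det a = 1 := by
    rw [ha, map_mul]
    show Algebra.norm F γ * _ = 1
    rw [hγ, inv_mul_cancel₀ hσd]
  have hapow : ∀ i x, (a ^ i) x = γ ^ (∑ j ∈ Finset.range i, q ^ j) * x ^ q ^ i := by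
    intro i
    induction i with
    | zero => intro x; simp
    | succ i ih =>
      intro x
      rw [pow_succ', Module.End.mul_apply, ih, hax, mul_pow, ← pow_mul, ← pow_mul, ← pow_succ, ← mul_assoc,
        ← pow_succ', Finset.sum_mul, Finset.sum_range_succ']
      simp [pow_succ]
  have hν : a ^ N = algebraMap F _ (Algebra.norm F γ) := LinearMap.ext fun x => by
    rw [hapow, Module.algebraMap_end_apply, Algebra.smul_def, FiniteField.algebraMap_norm_eq_pow,
      ← hQ, Nat.card_eq_fintype_card, FiniteField.pow_card, ← Nat.card_eq_fintype_card, hQ,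
      ← Nat.geomSum_eq hq1]
  have hmin : ∀ P : F[X], P.natDegree < N → aeval a P = 0 → P = 0 := by
    intro P hP hPa
    set c : ℕ → K := fun i => algebraMap F K (P.coeff i) * γ ^ (∑ j ∈ Finset.range i, q ^ j) with hc
    set S : K[X] := ∑ i ∈ Finset.range N, C (c i) * X ^ q ^ i with hS
    have hS0 : S = 0 := by
      refine Polynomial.eq_zero_of_natDegree_lt_card_of_eval_eq_zero S (f := id) Function.injective_id
        (fun x => ?_) ?_
      · have h := LinearMap.congr_fun hPa x
        rw [Polynomial.aeval_eq_sum_range' hP, LinearMap.sum_apply, LinearMap.zero_apply] at h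
        rw [hS, eval_finsetSum]
        refine Eq.trans (Finset.sum_congr rfl fun i _ => ?_) h
        rw [LinearMap.smul_apply, hapow, eval_mul, eval_C, eval_pow, eval_X, hc, Algebra.smul_def]
        simp [mul_assoc]
      · refine lt_of_le_of_lt (natDegree_sum_le_of_forall_le _ _ fun i hi => ?_)
          (show q ^ (N - 1) < Fintype.card K by
            rw [← Nat.card_eq_fintype_card, hQ]; exact Nat.pow_lt_pow_right hq1 (by omega))
        refine (natDegree_C_mul_X_pow_le _ _).trans (Nat.pow_le_pow_right (by omega) ?_)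
        have := Finset.mem_range.1 hi
        omega
    ext i
    rw [coeff_zero]
    rcases lt_or_ge i N with hi | hi
    swap
    · exact coeff_eq_zero_of_natDegree_lt (by omega)
    have h := congrArg (fun R : K[X] => R.coeff (q ^ i)) hS0
    rw [coeff_zero, hS, finsetSum_coeff, Finset.sum_eq_single i
      (fun j _ hji => by
        rw [coeff_C_mul_X_pow, if_neg fun h => hji (Nat.pow_right_injective (by omega) h).symm])
      (fun h => absurd (Finset.mem_range.2 hi) h), coeff_C_mul_X_pow, if_pos rfl, hc] at h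
    exact (map_eq_zero _).1 ((mul_eq_zero.1 h).resolve_right (pow_ne_zero _ hγ0))
  obtain ⟨z, hza, hz⟩ := exists_commute_det a (Algebra.norm F γ) (fun h => inv_ne_zero hσd (by rw [← hγ, h]))
    hN0 hν hmin (Algebra.norm F β)⁻¹
  refine ⟨Algebra.lmul F K β * z, a, ?_, hdeta, ?_⟩
  · rw [map_mul, hz]
    exact mul_inv_cancel₀ (Algebra.norm_ne_zero_iff.2 hβ0)
  · refine LinearMap.ext fun x => ?_
    have hc : z (a x) = a (z x) := LinearMap.congr_fun hza.eq x
    simp only [Module.End.mul_apply]
    rw [hc, hax, hax]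
    show ζ * (β * (γ * z x ^ q)) = γ * (β * z x) ^ q
    have hβq : β ^ q = ζ * β := by rw [← hβ, ← pow_succ, Nat.sub_add_cancel hq1.le]
    rw [mul_pow, hβq]
    ring

/-- An operator of determinant one with irreducible annihilating polynomial is a commutator. -/
theorem isComm_of_irreducible {V : Type v} [AddCommGroup V] [Module F V] [FiniteDimensional F V]
    (h : Module.End F V) (f : F[X]) (hf : Irreducible f) (hfh : aeval h f = 0) (hdet : LinearMap.det h = 1) :
    IsComm h := by
  classical
  rcases Nat.eq_zero_or_pos (finrank F V) with h0 | hpos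
  · have := Module.finrank_zero_iff.1 h0
    exact ⟨1, 1, map_one _, map_one _, LinearMap.ext fun x => Subsingleton.elim _ _⟩
  have := Fact.mk hf
  let φ₀ : AdjoinRoot f →ₐ[F] Module.End F V :=
    Ideal.Quotient.liftₐ _ (aeval h) fun p hp => by
      obtain ⟨r, rfl⟩ := Ideal.mem_span_singleton.1 hp
      rw [map_mul, hfh, zero_mul]
  have : FiniteDimensional F (AdjoinRoot f) := (AdjoinRoot.powerBasis hf.ne_zero).finite
  have : Finite (AdjoinRoot f) := Module.finite_of_finite F
  letI : Module (AdjoinRoot f) V := Module.compHom V φ₀.toRingHom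
  haveI : IsScalarTower F (AdjoinRoot f) V := ⟨fun r l x => by
    show φ₀ (r • l) x = r • φ₀ l x
    rw [map_smul]; rfl⟩
  haveI : Module.Finite (AdjoinRoot f) V := Module.Finite.of_restrictScalars_finite F (AdjoinRoot f) V
  have hkpos : 0 < finrank (AdjoinRoot f) V := by
    have hd := finrank_mul_finrank F (AdjoinRoot f) V
    exact Nat.pos_of_ne_zero fun e => by rw [e, mul_zero] at hd; omega
  have : NeZero (finrank (AdjoinRoot f) V) := ⟨hkpos.ne'⟩
  obtain ⟨p, hp⟩ := CharP.exists F
  have : Fact p.Prime := ⟨CharP.char_is_prime F p⟩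
  have : CharP (AdjoinRoot f) p := charP_of_injective_algebraMap (algebraMap F (AdjoinRoot f)).injective p
  let K := FiniteField.Extension (AdjoinRoot f) p (finrank (AdjoinRoot f) V)
  have hK : finrank (AdjoinRoot f) K = finrank (AdjoinRoot f) V := FiniteField.finrank_extension _ _ _
  letI : Algebra F K := ((algebraMap (AdjoinRoot f) K).comp (algebraMap F (AdjoinRoot f))).toAlgebra
  haveI : IsScalarTower F (AdjoinRoot f) K := IsScalarTower.of_algebraMap_eq fun _ => rfl
  let e : K ≃ₗ[AdjoinRoot f] V := LinearEquiv.ofFinrankEq K V hK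
  have hconj : (e.restrictScalars F).conj (Algebra.lmul F K (algebraMap (AdjoinRoot f) K (AdjoinRoot.root f))) = h := by
    refine LinearMap.ext fun x => ?_
    show e (algebraMap (AdjoinRoot f) K (AdjoinRoot.root f) * e.symm x) = h x
    rw [← Algebra.smul_def, map_smul, LinearEquiv.apply_symm_apply]
    show φ₀ (AdjoinRoot.root f) x = h x
    exact LinearMap.congr_fun (aeval_X h) x
  rw [← hconj]
  refine isComm_conj _ (isComm_lmul K _ ?_)
  rw [← hdet, ← hconj, LinearEquiv.conj_apply, LinearMap.comp_assoc, LinearMap.det_conj]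
  rfl

end Cfsg.Agent.Classical.CommutatorSL
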