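import Cfsg.Agent.Lib.Classical.CommutatorChain

/-!
Orderings of a cyclic decomposition that give the chain structure, when an even number of the cyclic pieces
besides a first one of even length have even length.
-/

set_option autoImplicit false

namespace Cfsg.Agent.Classical.CommutatorSL

open Module

universe u v

variable {F : Type u} [Field F] {V : Type v} [AddCommGroup V] [Module F V]

/-- The span of the entries of a list. -/
def spanL (F : Type u) [Field F] {V : Type v} [AddCommGroup V] [Module F V] (l : List V) : Submodule F V :=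
  Submodule.span F {z | z ∈ l}

theorem mem_spanL {l : List V} {z : V} (hz : z ∈ l) : z ∈ spanL F l := Submodule.subset_span hz

theorem spanL_mono {l l' : List V} (h : ∀ z ∈ l, z ∈ l') : spanL F l ≤ spanL F l' := Submodule.span_mono h

theorem spanL_le {l : List V} {W : Submodule F V} (h : ∀ z ∈ l, z ∈ W) : spanL F l ≤ W :=
  Submodule.span_le.2 h

theorem spanL_nil : spanL F ([] : List V) = ⊥ := le_bot_iff.1 (spanL_le (by simp))

theorem spanL_append (l l' : List V) : spanL F (l ++ l') = spanL F l ⊔ spanL F l' := by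
  refine le_antisymm (spanL_le fun z hz => ?_) (sup_le (spanL_mono (by simp +contextual)) (spanL_mono (by simp +contextual)))
  rcases List.mem_append.1 hz with h | h
  exacts [Submodule.mem_sup_left (mem_spanL h), Submodule.mem_sup_right (mem_spanL h)]

/-- Triangularity of a list of pairs `(e, s)`: `h s` is a nonzero multiple of `e` modulo the earlier entries. -/
def Tri (h : End F V) : Submodule F V → List (V × V) → Prop
  | _, [] => True
  | W₀, p :: L => (∃ c : F, c ≠ 0 ∧ h p.2 - c • p.1 ∈ W₀) ∧ Tri h (W₀ ⊔ spanL F [p.1]) L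

theorem tri_mono {h : End F V} : ∀ {W₀ W₁ : Submodule F V} {L : List (V × V)}, W₀ ≤ W₁ → Tri h W₀ L → Tri h W₁ L
  | _, _, [], _, _ => trivial
  | _, _, p :: L, hle, ⟨⟨c, hc, hm⟩, hL⟩ => ⟨⟨c, hc, hle hm⟩, tri_mono (sup_le_sup_right hle _) hL⟩

theorem tri_append {h : End F V} : ∀ {W₀ : Submodule F V} {L₁ L₂ : List (V × V)},
    Tri h W₀ L₁ → Tri h (W₀ ⊔ spanL F (L₁.map Prod.fst)) L₂ → Tri h W₀ (L₁ ++ L₂)
  | _, [], _, _, h₂ => tri_mono (by simp [spanL_nil]) h₂
  | _, p :: L₁, _, ⟨h₁, h₁'⟩, h₂ => ⟨h₁, tri_append h₁' (tri_mono (by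
      rw [List.map_cons, ← List.singleton_append, spanL_append, sup_assoc]) h₂)⟩

theorem tri_get {h : End F V} : ∀ {W₀ : Submodule F V} {L : List (V × V)}, Tri h W₀ L →
    ∀ i, (hi : i < L.length) → ∃ c : F, c ≠ 0 ∧
      h L[i].2 - c • L[i].1 ∈ W₀ ⊔ spanL F ((L.map Prod.fst).take i)
  | _, [], _, i, hi => absurd hi (by simp)
  | _, p :: L, ⟨⟨c, hc, hm⟩, _⟩, 0, _ => ⟨c, hc, Submodule.mem_sup_left hm⟩
  | _, p :: L, ⟨_, hL⟩, i + 1, hi => by
      obtain ⟨c, hc, hm⟩ := tri_get hL i (by simpa using hi)
      refine ⟨c, hc, ?_⟩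
      simp only [List.getElem_cons_succ, List.map_cons, List.take_succ_cons]
      rw [← List.singleton_append, spanL_append, ← sup_assoc]
      exact hm

/-- A segment of the ordering: the pairs `L`, and the order `U` of the same vectors. -/
structure Seg (h : End F V) (W₀ : Submodule F V) (L : List (V × V)) (U : List V) : Prop where
  perm : U.Perm (L.map Prod.fst)
  tri : Tri h W₀ L
  adj : L.IsChain fun p q => [p.1, q.2] <:+: U
  last : U.getLast? = L.getLast?.map Prod.fst
  tail : ∀ z ∈ U.tail, z ∈ L.map Prod.snd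

theorem infix_append_junction {U₁ U₂ : List V} {a b : V} (ha : U₁.getLast? = some a) (hb : U₂.head? = some b) :
    [a, b] <:+: U₁ ++ U₂ := by
  obtain ⟨l₁, rfl⟩ := List.getLast?_eq_some_iff.1 ha
  obtain ⟨l₂, rfl⟩ := List.head?_eq_some_iff.1 hb
  exact ⟨l₁, l₂, by simp⟩

theorem Seg.length_eq {h : End F V} {W₀ : Submodule F V} {L : List (V × V)} {U : List V} (hS : Seg h W₀ L U) :
    U.length = L.length := by simpa using hS.perm.length_eq

theorem Seg.append {h : End F V} {W₀ : Submodule F V} {L₁ L₂ : List (V × V)} {U₁ U₂ : List V}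
    (h₁ : Seg h W₀ L₁ U₁) (h₂ : Seg h (W₀ ⊔ spanL F U₁) L₂ U₂) (hd : U₂.head? = L₂.head?.map Prod.snd) :
    Seg h W₀ (L₁ ++ L₂) (U₁ ++ U₂) := by
  have hU : spanL F U₁ = spanL F (L₁.map Prod.fst) :=
    le_antisymm (spanL_mono fun z hz => h₁.perm.subset hz) (spanL_mono fun z hz => h₁.perm.symm.subset hz)
  constructor
  · rw [List.map_append]; exact h₁.perm.append h₂.perm
  · exact tri_append h₁.tri (hU ▸ h₂.tri)
  · refine List.isChain_append.2 ⟨h₁.adj.imp fun p q hpq => hpq.trans (List.prefix_append _ _).isInfix,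
      h₂.adj.imp fun p q hpq => hpq.trans (List.suffix_append _ _).isInfix, fun p hp q hq => ?_⟩
    refine infix_append_junction ?_ ?_
    · rw [h₁.last, Option.mem_def.1 hp]; rfl
    · rw [hd, Option.mem_def.1 hq]; rfl
  · rcases List.eq_nil_or_concat' L₂ with rfl | ⟨l, p, rfl⟩
    · have h0 : U₂ = [] := List.length_eq_zero_iff.1 (by simpa using h₂.length_eq)
      simp [h0, h₁.last]
    · have h0 : U₂ ≠ [] := fun e => by simpa [e] using h₂.length_eq
      rw [List.getLast?_append_of_ne_nil _ h0, h₂.last, ← List.append_assoc, List.getLast?_concat,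
        List.getLast?_concat]
  · intro z hz
    rw [List.map_append, List.mem_append]
    cases U₁ with
    | nil =>
      exact Or.inr (h₂.tail z (by simpa using hz))
    | cons a l =>
      rw [List.cons_append, List.tail_cons, List.mem_append] at hz
      rcases hz with hz | hz
      · exact Or.inl (h₁.tail z hz)
      · cases U₂ with
        | nil => simp at hz
        | cons b l₂ =>
          refine Or.inr ?_
          rcases List.mem_cons.1 hz with rfl | hz
          · cases L₂ with
            | nil => simp at hd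
            | cons q L₂ =>
              simp only [List.head?_cons, Option.map_some, Option.some.injEq] at hd
              simp [hd]
          · exact h₂.tail z hz

theorem seg_nil (h : End F V) (W₀ : Submodule F V) : Seg h W₀ [] [] :=
  ⟨List.Perm.nil, trivial, List.IsChain.nil, rfl, by simp⟩

/-- `[x (n-1), …, x 0]`. -/
def allDown (x : ℕ → V) : ℕ → List V
  | 0 => []
  | n + 1 => x n :: allDown x n

/-- `[(x k, x (k-1)), …, (x 1, x 0)]`. -/
def down (x : ℕ → V) : ℕ → List (V × V)
  | 0 => []
  | k + 1 => (x (k + 1), x k) :: down x k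

/-- `[x (2t-2), …, x 2, x 0]`. -/
def evens (x : ℕ → V) : ℕ → List V
  | 0 => []
  | t + 1 => x (2 * t) :: evens x t

/-- `[x (2t-1), …, x 3, x 1]`. -/
def odds (x : ℕ → V) : ℕ → List V
  | 0 => []
  | t + 1 => x (2 * t + 1) :: odds x t

theorem mem_allDown {x : ℕ → V} {z : V} : ∀ {n : ℕ}, z ∈ allDown x n ↔ ∃ j < n, x j = z
  | 0 => by simp [allDown]
  | n + 1 => by
    rw [allDown, List.mem_cons, mem_allDown, Nat.exists_lt_succ_right, or_comm, eq_comm]

theorem length_allDown (x : ℕ → V) : ∀ n, (allDown x n).length = n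
  | 0 => rfl
  | n + 1 => by simp [allDown, length_allDown x n]

theorem evens_odds_perm (x : ℕ → V) : ∀ t, (evens x t ++ odds x t).Perm (allDown x (2 * t))
  | 0 => List.Perm.nil
  | t + 1 => by
    show (x (2 * t) :: (evens x t ++ x (2 * t + 1) :: odds x t)).Perm
      (x (2 * t + 1) :: x (2 * t) :: allDown x (2 * t))
    exact (List.Perm.cons _ (List.perm_middle.trans (List.Perm.cons _ (evens_odds_perm x t)))).trans
      (List.Perm.swap _ _ _)

theorem down_map_fst (x : ℕ → V) : ∀ k, (down x k).map Prod.fst ++ [x 0] = allDown x (k + 1)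
  | 0 => rfl
  | k + 1 => by
    simp only [down, List.map_cons, List.cons_append, down_map_fst x k]
    rfl

theorem down_map_snd (x : ℕ → V) : ∀ k, (down x k).map Prod.snd = allDown x k
  | 0 => rfl
  | k + 1 => by simp [down, allDown, down_map_snd x k]

theorem tri_down (h : End F V) (x : ℕ → V) : ∀ (k : ℕ) (W₀ : Submodule F V),
    (∀ j < k, h (x j) = x (j + 1)) → Tri h W₀ (down x k)
  | 0, _, _ => trivial
  | k + 1, W₀, hx => ⟨⟨1, one_ne_zero, by simp [hx k (Nat.lt_succ_self k)]⟩,
      tri_down h x k _ fun j hj => hx j (by omega)⟩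

theorem infix_evens (x : ℕ → V) : ∀ (t j : ℕ), j + 1 < t → [x (2 * j + 2), x (2 * j)] <:+: evens x t
  | 0, j, h => absurd h (by omega)
  | t + 1, j, h => by
    rcases lt_or_eq_of_le (show j + 1 ≤ t by omega) with h' | h'
    · exact List.infix_cons (infix_evens x t j h')
    · obtain ⟨⟩ := h'
      exact (show [x (2 * j + 2), x (2 * j)] <+: evens x (j + 1 + 1) from ⟨evens x j, rfl⟩).isInfix

theorem infix_odds (x : ℕ → V) : ∀ (t j : ℕ), j + 1 < t → [x (2 * j + 3), x (2 * j + 1)] <:+: odds x t
  | 0, j, h => absurd h (by omega)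
  | t + 1, j, h => by
    rcases lt_or_eq_of_le (show j + 1 ≤ t by omega) with h' | h'
    · exact List.infix_cons (infix_odds x t j h')
    · obtain ⟨⟩ := h'
      exact (show [x (2 * j + 3), x (2 * j + 1)] <+: odds x (j + 1 + 1) from ⟨odds x j, rfl⟩).isInfix

theorem chain_down (x : ℕ → V) (U : List V) : ∀ k, (∀ j, j + 2 ≤ k → [x (j + 2), x j] <:+: U) →
    (down x k).IsChain fun p q => [p.1, q.2] <:+: U
  | 0, _ => List.IsChain.nil
  | 1, _ => List.IsChain.singleton _
  | k + 2, hU => List.IsChain.cons_cons (hU k le_rfl) (chain_down x U (k + 1) fun j hj => hU j (by omega))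

theorem infix_step {x : ℕ → V} {a b : ℕ} {U : List V} (he : evens x a <:+: U) (ho : odds x b <:+: U) (j : ℕ)
    (hj : j + 2 < 2 * a ∨ j % 2 = 1) (hj' : j + 2 < 2 * b ∨ j % 2 = 0) : [x (j + 2), x j] <:+: U := by
  rcases Nat.even_or_odd' j with ⟨i, rfl | rfl⟩
  · exact (infix_evens x a i (by omega)).trans he
  · exact (infix_odds x b i (by omega)).trans ho

theorem head?_evens (x : ℕ → V) (t : ℕ) : (evens x (t + 1)).head? = some (x (2 * t)) := rfl

theorem getLast?_evens (x : ℕ → V) : ∀ t, (evens x (t + 1)).getLast? = some (x 0)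
  | 0 => rfl
  | t + 1 => by
    show (x (2 * (t + 1)) :: evens x (t + 1)).getLast? = _
    rw [List.getLast?_cons, getLast?_evens x t]; rfl

theorem getLast?_odds (x : ℕ → V) : ∀ t, (odds x (t + 1)).getLast? = some (x 1)
  | 0 => rfl
  | t + 1 => by
    show (x (2 * (t + 1) + 1) :: odds x (t + 1)).getLast? = _
    rw [List.getLast?_cons, getLast?_odds x t]; rfl

theorem getLast?_down (x : ℕ → V) : ∀ k, (down x (k + 1)).getLast? = some (x 1, x 0)
  | 0 => rfl
  | k + 1 => by
    show ((x (k + 2), x (k + 1)) :: down x (k + 1)).getLast? = _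
    rw [List.getLast?_cons, getLast?_down x k]; rfl

/-- A segment from a piece of odd length. -/
theorem seg_odd (h : End F V) (W₀ : Submodule F V) (x : ℕ → V) (t : ℕ) (hx : ∀ j < 2 * t, h (x j) = x (j + 1))
    (hlast : ∃ c : F, c ≠ 0 ∧ h (x (2 * t)) - c • x 0 ∈ W₀ ⊔ spanL F ((down x (2 * t)).map Prod.fst)) :
    ∃ L U, Seg h W₀ L U ∧ U.head? = L.head?.map Prod.snd ∧ U.Perm (allDown x (2 * t + 1)) := by
  have hperm : (odds x t ++ evens x (t + 1)).Perm (allDown x (2 * t + 1)) :=
    List.perm_middle.trans (List.Perm.cons _ (List.perm_append_comm.trans (evens_odds_perm x t)))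
  refine ⟨down x (2 * t) ++ [(x 0, x (2 * t))], odds x t ++ evens x (t + 1), ⟨?_, ?_, ?_, ?_, ?_⟩, ?_, hperm⟩
  · simp only [List.map_append, List.map_cons, List.map_nil]
    rw [down_map_fst]
    exact hperm
  · exact tri_append (tri_down h x _ _ hx) ⟨hlast, trivial⟩
  · refine List.isChain_append.2 ⟨chain_down x _ _ fun j hj => ?_, List.IsChain.singleton _, fun p hp q hq => ?_⟩
    · exact infix_step (List.suffix_append _ _).isInfix (List.prefix_append _ _).isInfix j (by omega) (by omega)
    · simp only [List.head?_cons, Option.mem_def, Option.some.injEq] at hq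
      subst hq
      cases t with
      | zero => simp [down] at hp
      | succ t =>
        rw [show 2 * (t + 1) = 2 * t + 1 + 1 by ring, getLast?_down, Option.mem_def, Option.some.injEq] at hp
        subst hp
        exact infix_append_junction (getLast?_odds x t) rfl
  · rw [List.getLast?_concat, List.getLast?_append_of_ne_nil _ (by simp [evens]), getLast?_evens]; rfl
  · intro z hz
    obtain ⟨j, hj, rfl⟩ := mem_allDown.1 (hperm.subset (List.mem_of_mem_tail hz))
    simp only [List.map_append, List.map_cons, List.map_nil, down_map_snd, List.mem_append, List.mem_singleton]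
    rcases Nat.lt_succ_iff_lt_or_eq.1 hj with hj | rfl
    · exact Or.inl (mem_allDown.2 ⟨j, hj, rfl⟩)
    · exact Or.inr rfl
  · cases t with
    | zero => rfl
    | succ t => rfl

/-- A segment from two pieces of even length. -/
theorem seg_pair (h : End F V) (W₀ : Submodule F V) (x y : ℕ → V) (s t : ℕ)
    (hx : ∀ j < 2 * s + 1, h (x j) = x (j + 1)) (hy : ∀ j < 2 * t + 1, h (y j) = y (j + 1))
    (hxl : ∃ c : F, c ≠ 0 ∧ h (x (2 * s + 1)) - c • x 0 ∈ W₀ ⊔ spanL F ((down x (2 * s + 1)).map Prod.fst))
    (hyl : ∃ c : F, c ≠ 0 ∧ h (y (2 * t + 1)) - c • y 0 ∈ W₀ ⊔ spanL F ((down y (2 * t + 1)).map Prod.fst)) :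
    ∃ L U, Seg h W₀ L U ∧ U.head? = L.head?.map Prod.snd ∧
      U.Perm (allDown x (2 * s + 2) ++ allDown y (2 * t + 2)) := by
  set U := evens x (s + 1) ++ odds y (t + 1) ++ (odds x (s + 1) ++ evens y (t + 1)) with hU
  have hperm : U.Perm (allDown x (2 * s + 2) ++ allDown y (2 * t + 2)) := by
    have h1 := (evens_odds_perm x (s + 1)).append (evens_odds_perm y (t + 1))
    refine List.Perm.trans ?_ h1
    rw [hU]
    simp only [List.append_assoc]
    refine List.Perm.append_left _ ?_
    rw [← List.append_assoc, ← List.append_assoc]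
    calc (odds y (t + 1) ++ odds x (s + 1) ++ evens y (t + 1)).Perm
          (odds x (s + 1) ++ odds y (t + 1) ++ evens y (t + 1)) := List.perm_append_comm.append_right _
      _ |>.Perm (odds x (s + 1) ++ evens y (t + 1) ++ odds y (t + 1)) := by
          rw [List.append_assoc, List.append_assoc]; exact List.perm_append_comm.append_left _
  refine ⟨down x (2 * s + 1) ++ down y (2 * t + 1) ++ [(x 0, x (2 * s + 1)), (y 0, y (2 * t + 1))], U,
    ⟨?_, ?_, ?_, ?_, ?_⟩, ?_, hperm⟩
  · refine hperm.trans ?_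
    rw [← down_map_fst x, ← down_map_fst y]
    simp only [List.map_append, List.map_cons, List.map_nil, List.append_assoc]
    refine List.Perm.append_left _ ?_
    rw [← List.append_assoc]
    refine (List.perm_append_comm (l₁ := [x 0]) (l₂ := (down y (2 * t + 1)).map Prod.fst)).append_right [y 0] |>.trans ?_
    simp
  · refine tri_append (tri_append (tri_down h x _ _ hx) (tri_down h y _ _ hy)) ⟨?_, ⟨?_, trivial⟩⟩
    · obtain ⟨c, hc, hm⟩ := hxl
      refine ⟨c, hc, (?_ : W₀ ⊔ spanL F ((down x (2 * s + 1)).map Prod.fst) ≤ _) hm⟩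
      rw [List.map_append, spanL_append]
      exact sup_le_sup_left le_sup_left _
    · obtain ⟨c, hc, hm⟩ := hyl
      refine ⟨c, hc, (?_ : W₀ ⊔ spanL F ((down y (2 * t + 1)).map Prod.fst) ≤ _) hm⟩
      rw [List.map_append, spanL_append]
      exact le_sup_of_le_left (sup_le_sup_left le_sup_right _)
  · have i1 : evens x (s + 1) <:+: U := ((List.prefix_append _ _).trans (List.prefix_append _ _)).isInfix
    have i2 : odds x (s + 1) <:+: U :=
      ((List.prefix_append _ _).isInfix).trans (List.suffix_append _ _).isInfix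
    have i3 : evens y (t + 1) <:+: U := ((List.suffix_append _ _).trans (List.suffix_append _ _)).isInfix
    have i4 : odds y (t + 1) <:+: U := ((List.suffix_append _ _).isInfix).trans (List.prefix_append _ _).isInfix
    refine List.isChain_append.2 ⟨List.isChain_append.2 ⟨chain_down x _ _ fun j hj => ?_,
      chain_down y _ _ fun j hj => ?_, fun p hp q hq => ?_⟩, ?_, fun p hp q hq => ?_⟩
    · exact infix_step i1 i2 j (by omega) (by omega)
    · exact infix_step i3 i4 j (by omega) (by omega)
    · rw [getLast?_down, Option.mem_def, Option.some.injEq] at hp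
      simp only [down, List.head?_cons, Option.mem_def, Option.some.injEq] at hq
      subst hp hq
      exact (infix_append_junction (getLast?_odds x s) (head?_evens y t)).trans (List.suffix_append _ _).isInfix
    · refine List.IsChain.cons_cons ?_ (List.IsChain.singleton _)
      exact (infix_append_junction (getLast?_evens x s) rfl).trans (List.prefix_append _ _).isInfix
    · rw [List.getLast?_append_of_ne_nil _ (by simp [down]), getLast?_down, Option.mem_def,
        Option.some.injEq] at hp
      simp only [List.head?_cons, Option.mem_def, Option.some.injEq] at hq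
      subst hp hq
      refine infix_append_junction ?_ rfl
      rw [List.getLast?_append_of_ne_nil _ (by simp [odds]), getLast?_odds]
  · rw [List.getLast?_append_of_ne_nil _ (by simp [odds, evens]), List.getLast?_append_of_ne_nil _ (by simp [odds, evens]),
      List.getLast?_append_of_ne_nil _ (by simp [evens]), getLast?_evens]
    rfl
  · intro z hz
    simp only [List.map_append, List.map_cons, List.map_nil, down_map_snd, List.mem_append, List.mem_cons,
      List.not_mem_nil, or_false]
    rcases List.mem_append.1 (hperm.subset (List.mem_of_mem_tail hz)) with h | h <;>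
      obtain ⟨j, hj, rfl⟩ := mem_allDown.1 h
    · rcases Nat.lt_succ_iff_lt_or_eq.1 hj with hj | rfl
      · exact Or.inl (Or.inl (mem_allDown.2 ⟨j, hj, rfl⟩))
      · exact Or.inr (Or.inl rfl)
    · rcases Nat.lt_succ_iff_lt_or_eq.1 hj with hj | rfl
      · exact Or.inl (Or.inr (mem_allDown.2 ⟨j, hj, rfl⟩))
      · exact Or.inr (Or.inr rfl)
  · rfl

/-- The first segment, from a piece of even length whose bottom vector is left out. -/
theorem seg_first (h : End F V) (x : ℕ → V) (t : ℕ) (hx : ∀ j < 2 * t + 1, h (x j) = x (j + 1)) :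
    ∃ L U, Seg h ⊥ L U ∧ U.head? = some (x (2 * t + 1)) ∧ U.Perm (allDown (fun j => x (j + 1)) (2 * t + 1)) := by
  obtain ⟨y, hy⟩ : ∃ y : ℕ → V, ∀ j, y j = x (j + 1) := ⟨_, fun _ => rfl⟩
  rw [show (fun j => x (j + 1)) = y from funext fun j => (hy j).symm]
  have hperm : (evens y (t + 1) ++ odds y t).Perm (allDown y (2 * t + 1)) :=
    List.Perm.cons _ (evens_odds_perm y t)
  refine ⟨(y 0, x 0) :: down y (2 * t), evens y (t + 1) ++ odds y t, ⟨?_, ?_, ?_, ?_, ?_⟩, ?_, hperm⟩
  · rw [List.map_cons]
    refine hperm.trans ?_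
    rw [← down_map_fst]
    exact List.perm_append_singleton _ _
  · refine ⟨⟨1, one_ne_zero, by simp [hy, hx 0 (by omega)]⟩, tri_down h y _ _ fun j hj => ?_⟩
    rw [hy, hy]; exact hx _ (by omega)
  · refine List.isChain_cons.2 ⟨fun q hq => ?_, chain_down y _ _ fun j hj => ?_⟩
    · cases t with
      | zero => simp [down] at hq
      | succ t =>
        rw [show 2 * (t + 1) = 2 * t + 1 + 1 by ring] at hq
        simp only [down, List.head?_cons, Option.mem_def, Option.some.injEq] at hq
        subst hq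
        exact infix_append_junction (getLast?_evens y (t + 1)) rfl
    · exact infix_step (List.prefix_append _ _).isInfix (List.suffix_append _ _).isInfix j (by omega) (by omega)
  · cases t with
    | zero => rfl
    | succ t =>
      rw [List.getLast?_append_of_ne_nil _ (by simp [odds]), getLast?_odds, List.getLast?_cons,
        show 2 * (t + 1) = 2 * t + 1 + 1 by ring, getLast?_down]
      rfl
  · intro z hz
    rw [List.map_cons, down_map_snd, List.mem_cons]
    have hz' : z ∈ (evens y t ++ odds y t) := by simpa [evens] using hz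
    exact Or.inr (mem_allDown.2 (mem_allDown.1 ((evens_odds_perm y t).subset hz')))
  · show some (y (2 * t)) = _
    rw [hy]

/-- The orbit of a vector. -/
def orb (h : End F V) (v : V) : ℕ → V := fun j => (h ^ j) v

theorem orb_succ (h : End F V) (v : V) (j : ℕ) : h (orb h v j) = orb h v (j + 1) := by
  simp [orb, pow_succ', Module.End.mul_apply]

/-- The entries of a list of pieces `(v, d)`. -/
def els (h : End F V) (l : List (V × ℕ)) : List V := l.flatMap fun p => allDown (orb h p.1) p.2

/-- The last power of a piece is a nonzero multiple of its generator modulo `W₀` and the higher powers. -/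
def Closed (h : End F V) (W₀ : Submodule F V) (p : V × ℕ) : Prop :=
  1 ≤ p.2 ∧ ∃ c : F, c ≠ 0 ∧ h (orb h p.1 (p.2 - 1)) - c • orb h p.1 0 ∈
    W₀ ⊔ spanL F ((down (orb h p.1) (p.2 - 1)).map Prod.fst)

theorem closed_mono {h : End F V} {W₀ W₁ : Submodule F V} {p : V × ℕ} (hle : W₀ ≤ W₁) (hp : Closed h W₀ p) :
    Closed h W₁ p := by
  obtain ⟨h1, c, hc, hm⟩ := hp
  exact ⟨h1, c, hc, sup_le_sup_right hle _ hm⟩

/-- Triangular sequences of pieces. -/
def ClosedSeq (h : End F V) : Submodule F V → List (V × ℕ) → Prop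
  | _, [] => True
  | W₀, p :: l => Closed h W₀ p ∧ ClosedSeq h (W₀ ⊔ spanL F (allDown (orb h p.1) p.2)) l

theorem exists_seg_odds (h : End F V) : ∀ (l : List (V × ℕ)) (W₀ : Submodule F V), (∀ p ∈ l, Odd p.2) →
    ClosedSeq h W₀ l → ∃ L U, Seg h W₀ L U ∧ U.head? = L.head?.map Prod.snd ∧ U.Perm (els h l)
  | [], W₀, _, _ => ⟨[], [], seg_nil h W₀, rfl, List.Perm.nil⟩
  | p :: l, W₀, hodd, ⟨⟨_, hc⟩, hl⟩ => by
    obtain ⟨t, ht⟩ := hodd p (List.mem_cons_self ..)
    rw [show p.2 - 1 = 2 * t by omega] at hc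
    obtain ⟨L₁, U₁, h₁, hd₁, hp₁⟩ := seg_odd h W₀ (orb h p.1) t (fun j _ => orb_succ h p.1 j) hc
    rw [← ht] at hp₁
    have hS : spanL F (allDown (orb h p.1) p.2) ≤ spanL F U₁ := spanL_mono fun z hz => hp₁.symm.subset hz
    have hS' : spanL F U₁ ≤ spanL F (allDown (orb h p.1) p.2) := spanL_mono fun z hz => hp₁.subset hz
    obtain ⟨L₂, U₂, h₂, hd₂, hp₂⟩ := exists_seg_odds h l _ (fun q hq => hodd q (List.mem_cons_of_mem _ hq)) hl
    refine ⟨L₁ ++ L₂, U₁ ++ U₂, h₁.append ?_ hd₂, ?_, ?_⟩
    · rw [le_antisymm hS' hS]; exact h₂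
    · have h0 : U₁ ≠ [] := fun e => by
        have := hp₁.length_eq
        rw [e, length_allDown] at this
        simp at this; omega
      have h0' : L₁ ≠ [] := fun e => by simpa [e, h0] using h₁.length_eq
      rw [List.head?_append_of_ne_nil _ h0, List.head?_append_of_ne_nil _ h0', hd₁]
    · exact hp₁.append hp₂

theorem exists_seg_evens (h : End F V) : ∀ (k : ℕ) (l : List (V × ℕ)) (W₀ : Submodule F V), l.length = 2 * k →
    (∀ p ∈ l, Even p.2 ∧ Closed h W₀ p) →
    ∃ L U, Seg h W₀ L U ∧ U.head? = L.head?.map Prod.snd ∧ U.Perm (els h l)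
  | 0, l, W₀, hl, _ => by
    obtain rfl : l = [] := List.length_eq_zero_iff.1 (by omega)
    exact ⟨[], [], seg_nil h W₀, rfl, List.Perm.nil⟩
  | k + 1, [], _, hl, _ => absurd hl (by simp)
  | k + 1, [_], _, hl, _ => absurd hl (by simp; omega)
  | k + 1, p :: q :: l, W₀, hl, hall => by
    obtain ⟨⟨s, hs⟩, hp1, hpc⟩ := hall p (by simp)
    obtain ⟨⟨t, ht⟩, hq1, hqc⟩ := hall q (by simp)
    rw [show p.2 - 1 = 2 * (s - 1) + 1 by omega] at hpc
    rw [show q.2 - 1 = 2 * (t - 1) + 1 by omega] at hqc
    obtain ⟨L₁, U₁, h₁, hd₁, hp₁⟩ := seg_pair h W₀ (orb h p.1) (orb h q.1) (s - 1) (t - 1)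
      (fun j _ => orb_succ h p.1 j) (fun j _ => orb_succ h q.1 j) hpc hqc
    obtain ⟨L₂, U₂, h₂, hd₂, hp₂⟩ := exists_seg_evens h k l (W₀ ⊔ spanL F U₁) (by simp at hl; omega)
      fun r hr => ⟨(hall r (by simp [hr])).1, closed_mono le_sup_left (hall r (by simp [hr])).2⟩
    rw [show 2 * (s - 1) + 2 = p.2 by omega, show 2 * (t - 1) + 2 = q.2 by omega] at hp₁
    refine ⟨L₁ ++ L₂, U₁ ++ U₂, h₁.append h₂ hd₂, ?_, ?_⟩
    · have h0 : U₁ ≠ [] := fun e => by
        have := hp₁.length_eq
        rw [e, List.length_append, length_allDown, length_allDown] at this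
        simp at this; omega
      have h0' : L₁ ≠ [] := fun e => by simpa [e, h0] using h₁.length_eq
      rw [List.head?_append_of_ne_nil _ h0, List.head?_append_of_ne_nil _ h0', hd₁]
    · simpa [els, List.append_assoc] using hp₁.append hp₂

variable [FiniteDimensional F V]

/-- A triangular cyclic decomposition with a first piece of even length and an even number of other pieces of
even length. -/
theorem isComm_of_pieces (h : End F V) (hdet : LinearMap.det h = 1) (h3 : 3 ≤ finrank F V)
    (A : V × ℕ) (O E : List (V × ℕ)) (hA : Even A.2) (hA0 : 2 ≤ A.2) (hO : ∀ p ∈ O, Odd p.2)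
    (hOc : ClosedSeq h ⊥ O) (hE : ∀ p ∈ E, Even p.2 ∧ Closed h ⊥ p) (hEl : Even E.length)
    (hAc : ∃ c : F, c ≠ 0 ∧ h (orb h A.1 (A.2 - 1)) - c • A.1 ∈
      spanL F (allDown (fun j => orb h A.1 (j + 1)) (A.2 - 1) ++ els h (O ++ E)))
    (hspan : ⊤ ≤ spanL F (els h (A :: (O ++ E)))) (hlen : (els h (A :: (O ++ E))).length = finrank F V) :
    IsComm h := by
  classical
  obtain ⟨t, ht⟩ := hA
  obtain ⟨L₀, U₀, h₀, hd₀, hp₀⟩ := seg_first h (orb h A.1) (t - 1) fun j _ => orb_succ h A.1 j
  rw [show 2 * (t - 1) + 1 = A.2 - 1 by omega] at hd₀ hp₀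
  obtain ⟨L₁, U₁, h₁, hd₁, hp₁⟩ := exists_seg_odds h O ⊥ hO hOc
  obtain ⟨k, hk⟩ := hEl
  obtain ⟨L₂, U₂, h₂, hd₂, hp₂⟩ := exists_seg_evens h k E ⊥ (by omega) hE
  have h01 := h₀.append (⟨h₁.perm, tri_mono bot_le h₁.tri, h₁.adj, h₁.last, h₁.tail⟩) hd₁
  have hS := h01.append (⟨h₂.perm, tri_mono bot_le h₂.tri, h₂.adj, h₂.last, h₂.tail⟩) hd₂
  set L := L₀ ++ L₁ ++ L₂
  set U := U₀ ++ U₁ ++ U₂
  have hperm : U.Perm (allDown (fun j => orb h A.1 (j + 1)) (A.2 - 1) ++ els h (O ++ E)) := by
    refine ((hp₀.append hp₁).append hp₂).trans ?_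
    simp [els, List.flatMap_append]
  have hlenU : U.length + 1 = finrank F V := by
    rw [hperm.length_eq, ← hlen, List.length_append, length_allDown]
    simp only [els, List.flatMap_cons, List.length_append, length_allDown]
    omega
  have hUL := hS.length_eq
  set e : ℕ → V := fun i => (L.map Prod.fst).getD i 0 with he_def
  set u : ℕ → V := fun i => U.getD i 0 with hu_def
  have hu : ∀ i, (hi : i < U.length) → u i = U[i] := fun i hi => List.getD_eq_getElem _ _ hi
  have he : ∀ i, (hi : i < L.length) → e i = L[i].1 := fun i hi => by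
    rw [he_def]; show (L.map Prod.fst).getD i 0 = _
    rw [List.getD_eq_getElem _ _ (by simpa using hi), List.getElem_map]
  have himgU : u '' Set.Iio U.length = {z | z ∈ U} := by
    ext z
    constructor
    · rintro ⟨i, hi, rfl⟩; rw [Set.mem_setOf_eq, hu i hi]; exact List.getElem_mem hi
    · intro hz
      obtain ⟨i, hi, rfl⟩ := List.mem_iff_getElem.1 hz
      exact ⟨i, hi, hu i hi⟩
  have himgE : ∀ i ≤ L.length, e '' Set.Iio i = {z | z ∈ (L.map Prod.fst).take i} := by
    intro i hi
    ext z
    constructor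
    · rintro ⟨j, hj, rfl⟩
      have hj : j < i := hj
      refine List.mem_iff_getElem.2 ⟨j, by simp; omega, ?_⟩
      rw [List.getElem_take, List.getElem_map, he j (by omega)]
    · intro hz
      obtain ⟨j, hj, rfl⟩ := List.mem_iff_getElem.1 hz
      simp at hj
      refine ⟨j, hj.1, ?_⟩
      rw [List.getElem_take, List.getElem_map, he j (by omega)]
  have hW : Submodule.span F (e '' Set.Iio U.length) = Submodule.span F (u '' Set.Iio U.length) := by
    rw [hUL, himgE _ le_rfl, ← hUL, himgU, List.take_of_length_le (by simp [hUL])]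
    exact le_antisymm (spanL_mono fun z hz => hS.perm.symm.subset hz) (spanL_mono fun z hz => hS.perm.subset hz)
  have hsnd : ∀ z ∈ L.map Prod.snd, h z ∈ spanL F (L.map Prod.fst) := by
    intro z hz
    obtain ⟨i, hi, rfl⟩ := List.mem_iff_getElem.1 hz
    simp only [List.length_map] at hi
    rw [List.getElem_map]
    obtain ⟨c, _, hm⟩ := tri_get hS.tri i hi
    rw [bot_sup_eq] at hm
    have h1 := add_mem (spanL_mono (fun z hz => List.mem_of_mem_take hz) hm)
      (Submodule.smul_mem _ c (mem_spanL (F := F) (List.mem_map.2 ⟨L[i], List.getElem_mem hi, rfl⟩)))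
    rwa [sub_add_cancel] at h1
  refine isComm_of_chain h hdet (m := U.length) (by omega) (by omega) u A.1 ?_ ?_ e hW ?_ ?_
  · refine hspan.trans (spanL_le fun z hz => ?_)
    simp only [els, List.flatMap_cons, List.mem_append] at hz
    rw [himgU]
    rcases hz with hz | hz
    · obtain ⟨j, hj, rfl⟩ := mem_allDown.1 hz
      rcases Nat.eq_zero_or_pos j with rfl | hj0
      · exact Submodule.subset_span (Or.inl (by simp [orb]))
      · refine Submodule.subset_span (Or.inr (hperm.symm.subset (List.mem_append.2 (Or.inl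
          (mem_allDown.2 ⟨j - 1, by omega, ?_⟩)))))
        show orb h A.1 (j - 1 + 1) = _
        rw [Nat.sub_add_cancel hj0]
    · exact Submodule.subset_span (Or.inr (hperm.symm.subset (List.mem_append.2 (Or.inr hz))))
  · intro hmem
    rw [himgU] at hmem
    obtain ⟨c, hc, hm⟩ := hAc
    have h0 : U₀ ≠ [] := fun e => by simp [e] at hd₀
    have hu0 : u 0 = orb h A.1 (A.2 - 1) := by
      rw [hu 0 (by omega)]
      have h1 : U.head? = some (orb h A.1 (A.2 - 1)) := by
        rw [show U = U₀ ++ (U₁ ++ U₂) from List.append_assoc .., List.head?_append_of_ne_nil _ h0, hd₀]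
      rw [List.head?_eq_getElem?] at h1
      exact (List.getElem?_eq_some_iff.1 h1).2
    rw [hu0] at hmem
    have hA1 : A.1 ∈ spanL F U := by
      refine (Submodule.smul_mem_iff _ hc).1 ?_
      rw [← sub_sub_cancel (h (orb h A.1 (A.2 - 1))) (c • A.1)]
      exact sub_mem hmem (spanL_mono (fun z hz => hperm.symm.subset hz) hm)
    have htop : ⊤ ≤ spanL F U := hspan.trans (spanL_le fun z hz => by
      simp only [els, List.flatMap_cons, List.mem_append] at hz
      rcases hz with hz | hz
      · obtain ⟨j, hj, rfl⟩ := mem_allDown.1 hz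
        rcases Nat.eq_zero_or_pos j with rfl | hj0
        · simpa [orb] using hA1
        · refine mem_spanL (hperm.symm.subset (List.mem_append.2 (Or.inl (mem_allDown.2 ⟨j - 1, by omega, ?_⟩))))
          show orb h A.1 (j - 1 + 1) = _
          rw [Nat.sub_add_cancel hj0]
      · exact mem_spanL (hperm.symm.subset (List.mem_append.2 (Or.inr hz))))
    have h1 := Submodule.finrank_mono htop
    rw [finrank_top] at h1
    have h2 : finrank F (spanL F U) ≤ U.length := by
      have h3 : spanL F U = Submodule.span F (U.toFinset : Set V) := by rw [spanL, List.coe_toFinset]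
      rw [h3]
      exact (finrank_span_finset_le_card _).trans (List.toFinset_card_le _)
    omega
  · intro i hi0 hi
    rw [himgU, hu i hi]
    refine (spanL_mono (fun z hz => hS.perm.symm.subset hz) : spanL F (L.map Prod.fst) ≤ _) (hsnd _ (hS.tail _ ?_))
    refine List.mem_iff_getElem.2 ⟨i - 1, by simp; omega, ?_⟩
    rw [List.getElem_tail]
    congr 1; omega
  · intro i hi
    have hiL : i + 1 < L.length := by omega
    have hadj : [L[i].1, L[i + 1].2] <:+: U := List.isChain_iff_getElem.1 hS.adj i hiL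
    obtain ⟨l₁, l₂, hU⟩ := hadj
    obtain ⟨c, hc, hm⟩ := tri_get hS.tri (i + 1) hiL
    rw [bot_sup_eq] at hm
    have hlen₁ : l₁.length + 1 < U.length := by rw [← hU]; simp
    refine ⟨l₁.length, c, hlen₁, ?_, hc, ?_⟩
    · rw [he i (by omega), hu _ (by omega)]
      simp [← hU]
    · rw [himgE _ (by omega), he _ hiL, hu _ hlen₁]
      have h1 : U[l₁.length + 1] = L[i + 1].2 := by simp [← hU]
      rw [h1]
      exact hm

end Cfsg.Agent.Classical.CommutatorSL
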