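import Mathlib

/-!
A calculus for bounding composition lengths through subnormal series.
`CLe G x` says that three times the number of strict steps of every subnormal series of `G` is at most `x`.
-/

set_option autoImplicit false

namespace Cfsg.Agent.Classical.CompLength

open Subgroup

section Defs

variable {G : Type*} [Group G]

/-- `H 0 = ⊥ ≤ ... ≤ H l = ⊤`, each term normal in the next. -/
structure IsSeries (l : ℕ) (H : ℕ → Subgroup G) : Prop where
  zero : H 0 = ⊥
  last : H l = ⊤
  le : ∀ i < l, H i ≤ H (i + 1)
  norm : ∀ i < l, ∀ a ∈ H i, ∀ b ∈ H (i + 1), b * a * b⁻¹ ∈ H i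

/-- Number of strict steps. -/
noncomputable def jumps (l : ℕ) (H : ℕ → Subgroup G) : ℕ := by
  classical exact ((Finset.range l).filter fun i => H i ≠ H (i + 1)).card

/-- Three times the composition length is at most `x`. -/
def CLe (G : Type*) [Group G] (x : ℕ) : Prop :=
  ∀ (l : ℕ) (H : ℕ → Subgroup G), IsSeries l H → 3 * jumps l H ≤ x

lemma CLe.mono {x y : ℕ} (h : CLe G x) (hxy : x ≤ y) : CLe G y :=
  fun l H hH => (h l H hH).trans hxy

lemma jumps_cons (l : ℕ) (H : ℕ → Subgroup G) :
    jumps l (fun i => H (i + 1)) ≤ jumps (l + 1) H := by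
  classical
  unfold jumps
  refine Finset.card_le_card_of_injOn (fun i => i + 1) ?_ (fun a _ b _ h => by simpa using h)
  intro i hi
  simp only [Finset.coe_filter, Finset.mem_range, Set.mem_ofPred_eq] at hi ⊢
  exact ⟨by omega, hi.2⟩

lemma jumps_le_of_imp {G' : Type*} [Group G'] (l : ℕ) (H : ℕ → Subgroup G) (H' : ℕ → Subgroup G')
    (h : ∀ i < l, H i ≠ H (i + 1) → H' i ≠ H' (i + 1)) : jumps l H ≤ jumps l H' := by
  classical
  unfold jumps
  refine Finset.card_le_card fun i hi => ?_
  simp only [Finset.mem_filter, Finset.mem_range] at hi ⊢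
  exact ⟨hi.1, h i hi.1 hi.2⟩

lemma jumps_mono {l l' : ℕ} (h : l ≤ l') (H : ℕ → Subgroup G) : jumps l H ≤ jumps l' H := by
  classical
  exact Finset.card_le_card (Finset.filter_subset_filter _ (Finset.range_mono h))

lemma jumps_congr (l : ℕ) (H H' : ℕ → Subgroup G) (h : ∀ i ≤ l, H i = H' i) :
    jumps l H = jumps l H' := by
  classical
  unfold jumps
  refine congrArg Finset.card (Finset.filter_congr fun i hi => ?_)
  rw [h i (by simp at hi; omega), h (i + 1) (by simp at hi; omega)]

end Defs

section Calculus

variable {G Q : Type*} [Group G] [Group Q]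

/-- Extension bound along a homomorphism. -/
lemma CLe.of_ker_range (f : G →* Q) {a b : ℕ} (ha : CLe f.ker a) (hb : CLe f.range b) :
    CLe G (a + b) := by
  classical
  intro l H hH
  let A : ℕ → Subgroup f.ker := fun i => (H i).comap f.ker.subtype
  let B : ℕ → Subgroup f.range := fun i => (H i).map f.rangeRestrict
  have hA : IsSeries l A := by
    refine ⟨?_, ?_, fun i hi => comap_mono (hH.le i hi), fun i hi x hx y hy => ?_⟩
    · simp only [A, hH.zero]
      exact (MonoidHom.ker_eq_bot_iff _).2 (Subgroup.subtype_injective _)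
    · simp only [A, hH.last, comap_top]
    · exact hH.norm i hi _ hx _ hy
  have hB : IsSeries l B := by
    refine ⟨by simp [B, hH.zero], ?_, fun i hi => map_mono (hH.le i hi), fun i hi x hx y hy => ?_⟩
    · simp only [B, hH.last]
      exact map_top_of_surjective _ (MonoidHom.rangeRestrict_surjective f)
    · obtain ⟨x, hx, rfl⟩ := hx
      obtain ⟨y, hy, rfl⟩ := hy
      exact ⟨y * x * y⁻¹, hH.norm i hi x hx y hy, by simp⟩
  have hj : jumps l H ≤ jumps l A + jumps l B := by
    unfold jumps
    refine (Finset.card_le_card ?_).trans (Finset.card_union_le _ _)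
    intro i hi
    simp only [Finset.mem_filter, Finset.mem_union, Finset.mem_range] at hi ⊢
    by_contra hc
    simp only [hi.1, true_and, not_or, not_not] at hc
    refine hi.2 (le_antisymm (hH.le i hi.1) fun x hx => ?_)
    have : f.rangeRestrict x ∈ B (i + 1) := ⟨x, hx, rfl⟩
    rw [← hc.2] at this
    obtain ⟨y, hy, hxy⟩ := this
    have hk : y⁻¹ * x ∈ f.ker := by
      have := congrArg Subtype.val hxy
      simp only [MonoidHom.coe_rangeRestrict] at this
      simp [MonoidHom.mem_ker, this]
    have : (⟨_, hk⟩ : f.ker) ∈ A (i + 1) :=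
      Subgroup.mul_mem _ (Subgroup.inv_mem _ (hH.le i hi.1 hy)) hx
    rw [← hc.1] at this
    have h2 := Subgroup.mul_mem _ hy this
    simpa using h2
  have := ha l A hA
  have := hb l B hB
  omega

lemma CLe.of_surjective {f : G →* Q} (hf : Function.Surjective f) {x : ℕ} (h : CLe G x) :
    CLe Q x := by
  intro l H hH
  let H' : ℕ → Subgroup G := fun i => if i = 0 then ⊥ else (H (i - 1)).comap f
  have hH' : IsSeries (l + 1) H' := by
    refine ⟨by simp [H'], by simp [H', hH.last], fun i hi => ?_, fun i hi a ha b hb => ?_⟩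
    · rcases i with _ | i
      · simp [H']
      · simpa [H'] using comap_mono (hH.le i (by omega))
    · rcases i with _ | i
      · simp only [H', if_true, mem_bot] at ha ⊢
        simp [ha]
      · simp only [H', if_neg (Nat.succ_ne_zero _), Nat.add_sub_cancel, mem_comap, map_mul,
          map_inv] at ha hb ⊢
        exact hH.norm i (by omega) _ ha _ hb
  have h1 : jumps l H ≤ jumps l (fun i => H' (i + 1)) :=
    jumps_le_of_imp _ _ _ fun i _ hne he => hne (comap_injective hf (by simpa [H'] using he))
  have := jumps_cons l H'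
  have := h (l + 1) H' hH'
  omega

lemma CLe.equiv (e : G ≃* Q) {x : ℕ} (h : CLe G x) : CLe Q x :=
  h.of_surjective (f := e.toMonoidHom) e.surjective

lemma CLe.normal (N : Subgroup G) [hN : N.Normal] {x : ℕ} (h : CLe G x) : CLe N x := by
  intro l H hH
  let H' : ℕ → Subgroup G := fun i => if i ≤ l then (H i).map N.subtype else ⊤
  have hl : H' l = N := by
    simp only [H', le_refl, if_true, hH.last, ← MonoidHom.range_eq_map, range_subtype]
  have hH' : IsSeries (l + 1) H' := by
    refine ⟨by simp [H', hH.zero], by simp [H'], fun i hi => ?_, fun i hi a ha b hb => ?_⟩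
    · rcases eq_or_lt_of_le (Nat.lt_succ_iff.1 hi) with rfl | hi
      · simp [H']
      · simpa [H', le_of_lt hi, Nat.succ_le_iff.2 hi] using map_mono (f := N.subtype) (hH.le i hi)
    · rcases eq_or_lt_of_le (Nat.lt_succ_iff.1 hi) with rfl | hi
      · rw [hl] at ha ⊢
        exact hN.conj_mem a ha b
      · simp only [H', le_of_lt hi, Nat.succ_le_iff.2 hi, if_true] at ha hb ⊢
        obtain ⟨a, ha, rfl⟩ := ha
        obtain ⟨b, hb, rfl⟩ := hb
        exact ⟨b * a * b⁻¹, hH.norm i hi a ha b hb, by simp⟩
  have h1 : jumps l H ≤ jumps l H' := jumps_le_of_imp _ _ _ fun i hi hne he => by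
    simp only [H', le_of_lt hi, Nat.succ_le_iff.2 hi, if_true] at he
    exact hne (map_injective (Subgroup.subtype_injective _) he)
  have := jumps_mono (show l ≤ l + 1 by omega) H'
  have := h (l + 1) H' hH'
  omega

lemma CLe.of_injective_normal_range {f : G →* Q} (hf : Function.Injective f) (hn : f.range.Normal)
    {x : ℕ} (h : CLe Q x) : CLe G x := by
  have := hn
  exact (h.normal f.range).equiv (MonoidHom.ofInjective hf).symm

lemma cle_subsingleton [Subsingleton G] (x : ℕ) : CLe G x := by
  classical
  intro l H _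
  have : jumps l H = 0 := by
    have hH' : H = fun _ => ⊥ :=
      funext fun i => Subgroup.ext fun g => by simp [Subsingleton.elim g 1]
    subst hH'
    simp [jumps]
  omega

lemma cle_simple [IsSimpleGroup G] : CLe G 3 := by
  classical
  intro l H hH
  have key : ∀ i < l, H i ≠ H (i + 1) → H (i + 1) = ⊤ → H i = ⊥ := by
    intro i hi hne htop
    have : (H i).Normal := ⟨fun a ha b => hH.norm i hi a ha b (by simp [htop])⟩
    exact (this.eq_bot_or_eq_top).resolve_right (fun h => hne (h.trans htop.symm))
  -- the terms are ⊥ or ⊤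
  have all : ∀ j ≤ l, H (l - j) = ⊤ ∨ H (l - j) = ⊥ := by
    intro j hj
    induction j with
    | zero => exact Or.inl hH.last
    | succ j ih =>
      have h1 : l - (j + 1) + 1 = l - j := by omega
      rcases ih (by omega) with h | h
      · by_cases he : H (l - (j + 1)) = H (l - (j + 1) + 1)
        · exact Or.inl (by rw [he, h1, h])
        · exact Or.inr (key _ (by omega) he (by rw [h1, h]))
      · exact Or.inr (le_bot_iff.1 (by rw [← h, ← h1]; exact hH.le _ (by omega)))
  have hmono : ∀ a b, a ≤ b → b ≤ l → H a ≤ H b := by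
    intro a b hab hb
    induction b with
    | zero => rw [Nat.le_zero.1 hab]
    | succ b ih =>
      rcases eq_or_lt_of_le hab with h | h
      · rw [h]
      · exact (ih (by omega) (by omega)).trans (hH.le b (by omega))
  have hone : jumps l H ≤ 1 := by
    unfold jumps
    rw [Finset.card_le_one]
    intro a ha b hb
    simp only [Finset.mem_filter, Finset.mem_range] at ha hb
    by_contra hne
    suffices h2 : ∀ a b, a < b → (a < l ∧ H a ≠ H (a + 1)) → (b < l ∧ H b ≠ H (b + 1)) → False by
      rcases lt_or_gt_of_ne hne with h | h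
      · exact h2 a b h ha hb
      · exact h2 b a h hb ha
    clear ha hb hne a b
    intro a b hab ha hb
    have hb' : H b = ⊥ := by
      have h0 := all (l - b) (by omega)
      rw [show l - (l - b) = b by omega] at h0
      rcases h0 with h | h
      · exact absurd (le_antisymm (hH.le b hb.1) (h ▸ le_top)) hb.2
      · exact h
    refine ha.2 (le_antisymm (hH.le a ha.1) ?_)
    exact ((hmono (a + 1) b hab (by omega)).trans hb'.le).trans bot_le
  omega

open ArithmeticFunction in
lemma cle_cardFactors [Finite G] : CLe G (3 * cardFactors (Nat.card G)) := by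
  classical
  intro l H hH
  refine Nat.mul_le_mul_left 3 ?_
  have key : ∀ i ≤ l, jumps i H ≤ cardFactors (Nat.card (H i)) := by
    intro i hi
    induction i with
    | zero => simp [jumps]
    | succ i ih =>
      have hle := hH.le i hi
      have hsplit : jumps (i + 1) H = jumps i H + if H i ≠ H (i + 1) then 1 else 0 := by
        unfold jumps
        rw [Finset.range_add_one, Finset.filter_insert]
        split_ifs with h
        · rw [Finset.card_insert_of_notMem (by simp)]
        · simp
      have hmul : Nat.card (H i) * ((H i).subgroupOf (H (i + 1))).index = Nat.card (H (i + 1)) := by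
        rw [← Nat.card_congr (subgroupOfEquivOfLe hle).toEquiv, card_mul_index]
      have hi0 : Nat.card (H i) ≠ 0 := Nat.card_pos.ne'
      have hidx0 : ((H i).subgroupOf (H (i + 1))).index ≠ 0 := index_ne_zero_of_finite
      rw [hsplit, ← hmul, cardFactors_mul hi0 hidx0]
      have := ih (by omega)
      split_ifs with h
      · suffices 0 < cardFactors ((H i).subgroupOf (H (i + 1))).index by omega
        rw [Nat.pos_iff_ne_zero, Ne, cardFactors_eq_zero_iff_eq_zero_or_one, not_or]
        exact ⟨hidx0, fun h1 => h (le_antisymm hle (subgroupOf_eq_top.1 (index_eq_one.1 h1)))⟩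
      · omega
  have := key l le_rfl
  rwa [hH.last, card_top] at this

/-- Subdirect bound. -/
lemma CLe.of_family {ι : Type*} (s : Finset ι) {A : ι → Type*} [∀ i, Group (A i)]
    (φ : ∀ i, G →* A i) (b : ι → ℕ) (hb : ∀ i ∈ s, CLe (φ i).range (b i))
    (L : Subgroup G) [hL : L.Normal]
    (hinj : ∀ x ∈ L, (∀ i ∈ s, φ i x = 1) → x = 1) : CLe L (∑ i ∈ s, b i) := by
  classical
  induction s using Finset.induction_on generalizing L with
  | empty =>
    have : Subsingleton L := ⟨fun a b => Subtype.ext (by
      rw [hinj _ a.2 (by simp), hinj _ b.2 (by simp)])⟩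
    exact cle_subsingleton _
  | insert i s his ih =>
    rw [Finset.sum_insert his, add_comm]
    let L' := L ⊓ (φ i).ker
    have hL' : L'.Normal := Subgroup.normal_inf_normal L (φ i).ker
    have h1 : CLe L' (∑ j ∈ s, b j) := by
      refine ih (fun j hj => hb j (Finset.mem_insert_of_mem hj)) L' (fun x hx hxs => ?_)
      refine hinj x hx.1 fun j hj => ?_
      rcases Finset.mem_insert.1 hj with rfl | hj
      · exact hx.2
      · exact hxs j hj
    refine CLe.of_ker_range ((φ i).comp L.subtype) ?_ ?_
    · refine h1.equiv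
        { toFun := fun x => ⟨⟨x.1, x.2.1⟩, x.2.2⟩
          invFun := fun x => ⟨x.1.1, x.1.2, x.2⟩
          left_inv := fun _ => rfl
          right_inv := fun _ => rfl
          map_mul' := fun _ _ => rfl }
    · have hle : ((φ i).comp L.subtype).range ≤ (φ i).range := by
        rintro _ ⟨w, rfl⟩
        exact ⟨(w : G), rfl⟩
      refine CLe.of_injective_normal_range (f := Subgroup.inclusion hle)
        (Subgroup.inclusion_injective _) ?_ (hb i (Finset.mem_insert_self _ _))
      refine ⟨fun y hy z => ?_⟩
      obtain ⟨⟨y0, w, rfl⟩, rfl⟩ := hy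
      obtain ⟨_, g, rfl⟩ := z
      exact ⟨⟨_, ⟨g * w * g⁻¹, hL.conj_mem _ w.2 g⟩, rfl⟩, Subtype.ext (by simp)⟩

end Calculus

section Chain

variable {G : Type*} [Group G]

/-- A strictly increasing subnormal chain is no longer than the bound. -/
lemma CLe.chain {x : ℕ} (h : CLe G x) (l : ℕ) (H : Fin (l + 1) → Subgroup G) (h0 : H 0 = ⊥)
    (hl : H (Fin.last l) = ⊤)
    (hchain : ∀ i : Fin l, H i.castSucc < H i.succ ∧ ((H i.castSucc).subgroupOf (H i.succ)).Normal) :
    3 * l ≤ x := by
  classical
  let H' : ℕ → Subgroup G := fun i => if hi : i < l + 1 then H ⟨i, hi⟩ else ⊤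
  have hs : IsSeries l H' := by
    refine ⟨by simpa [H'] using h0, by simpa [H', Fin.last] using hl, fun i hi => ?_,
      fun i hi a ha b hb => ?_⟩
    · simp only [H', dif_pos (show i < l + 1 by omega), dif_pos (show i + 1 < l + 1 by omega)]
      exact (hchain ⟨i, hi⟩).1.le
    · simp only [H', dif_pos (show i < l + 1 by omega), dif_pos (show i + 1 < l + 1 by omega)] at ha hb ⊢
      have hn := (hchain ⟨i, hi⟩).2
      exact hn.conj_mem ⟨a, (hchain ⟨i, hi⟩).1.le ha⟩ ha ⟨b, hb⟩
  have hj : jumps l H' = l := by
    unfold jumps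
    rw [Finset.filter_true_of_mem, Finset.card_range]
    intro i hi
    rw [Finset.mem_range] at hi
    simp only [H', dif_pos (show i < l + 1 by omega), dif_pos (show i + 1 < l + 1 by omega)]
    exact (hchain ⟨i, hi⟩).1.ne
  simpa [hj] using h l H' hs

end Chain

end Cfsg.Agent.Classical.CompLength
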