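import Cfsg.Agent.Lib.Classical.CompLengthSocle

/-!
Composition length of a permutation group: at most 4/3 of (degree − number of orbits).
-/

set_option autoImplicit false

namespace Cfsg.Agent.Classical.CompLength

open Subgroup

/-- The transitive case in every degree. -/
theorem good_all (n : ℕ) : Good n := by
  classical
  induction n using Nat.strong_induction_on with
  | _ n ih =>
    intro G hG
    have hcard : Nat.card (Fin n) = n := by simp
    have IH : ∀ m < Nat.card (Fin n), Good m := fun m hm => ih m (hcard ▸ hm)
    rcases subsingleton_or_nontrivial G with h | h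
    · exact cle_subsingleton _
    have : Nonempty (Fin n) := by
      by_contra hc
      have := not_nonempty_iff.1 hc
      exact false_of_nontrivial_of_subsingleton G
    obtain ⟨a⟩ := this
    obtain ⟨N, ⟨hN, hne⟩, hmin⟩ :=
      (Set.toFinite {L : Subgroup G | L.Normal ∧ L ≠ ⊥}).exists_minimal
        ⟨⊤, inferInstance, top_ne_bot⟩
    have hmin' : ∀ L : Subgroup G, L.Normal → L ≤ N → L ≠ ⊥ → L = N := fun L h1 h2 h3 =>
      le_antisymm h2 (hmin ⟨h1, h3⟩ h2)
    have goal : CLe G (4 * (Nat.card (Fin n) - 1)) := by
      by_cases hq : ∀ L : Subgroup G, L.Normal → L ≠ ⊥ → MulAction.IsPretransitive L (Fin n)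
      · by_cases hab : ∀ x ∈ N, ∀ y ∈ N, Commute x y
        · have := hq N hN hne
          exact cle_abelian N hne hmin' hab a
        · exact cle_nonabelian IH hq N hne hmin' hab a
      · push_neg at hq
        obtain ⟨L, hL, hLne, hLt⟩ := hq
        exact cle_imprimitive IH L hLne hLt
    rwa [hcard] at goal

/-- Composition length of a faithful group on `n` points with `r` orbits is at most `4/3 (n - r)`. -/
theorem cle_four_thirds {G Ω : Type*} [Group G] [Finite G] [MulAction G Ω] [FaithfulSMul G Ω]
    [Finite Ω] : CLe G (4 * (Nat.card Ω - Nat.card (MulAction.orbitRel.Quotient G Ω))) := by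
  have : Fintype (MulAction.orbitRel.Quotient G Ω) := Fintype.ofFinite _
  rw [← sum_orbit_eq]
  exact cle_orbits fun q => good_all _

end Cfsg.Agent.Classical.CompLength
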