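import Cfsg.Agent.Lib.Classical.CompLengthPerm

/-!
The inductive step for the 4/3 bound.
-/

set_option autoImplicit false

namespace Cfsg.Agent.Classical.CompLength

open Subgroup

section Lemmas

variable {G Ω : Type*} [Group G] [MulAction G Ω] [Finite Ω] [Finite G]

/-- A faithful group all of whose orbits are proper. -/
lemma cle_intransitive [FaithfulSMul G Ω] (IH : ∀ m < Nat.card Ω, Good m)
    (h2 : 2 ≤ Nat.card (MulAction.orbitRel.Quotient G Ω)) :
    CLe G (4 * (Nat.card Ω - Nat.card (MulAction.orbitRel.Quotient G Ω))) := by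
  have : Fintype (MulAction.orbitRel.Quotient G Ω) := Fintype.ofFinite _
  rw [← sum_orbit_eq]
  exact cle_orbits fun q => IH _ (orbit_card_lt h2 q)

/-- The point stabiliser. -/
lemma cle_stabilizer [FaithfulSMul G Ω] (IH : ∀ m < Nat.card Ω, Good m) (a : Ω)
    (hn : 2 ≤ Nat.card Ω) : CLe (MulAction.stabilizer G a) (4 * (Nat.card Ω - 2)) := by
  have h2 : 2 ≤ Nat.card (MulAction.orbitRel.Quotient (MulAction.stabilizer G a) Ω) := by
    have : Nontrivial Ω := Finite.one_lt_card_iff_nontrivial.1 (by omega)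
    obtain ⟨b, hb⟩ := exists_ne a
    refine Finite.one_lt_card_iff_nontrivial.2 ⟨Quotient.mk'' a, Quotient.mk'' b, fun h => hb ?_⟩
    obtain ⟨g, hg⟩ : a ∈ MulAction.orbit (MulAction.stabilizer G a) b := Quotient.eq''.1 h
    have h' : (g : G) • b = a := hg
    rw [← inv_smul_eq_iff.2 h'.symm] at *
    exact (inv_smul_eq_iff.2 (MulAction.mem_stabilizer_iff.1 g.2).symm)
  refine (cle_intransitive IH h2).mono ?_
  omega

/-- An intransitive non-trivial normal subgroup gives blocks. -/
lemma cle_imprimitive [FaithfulSMul G Ω] [MulAction.IsPretransitive G Ω]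
    (IH : ∀ m < Nat.card Ω, Good m) (N : Subgroup G) [hN : N.Normal] (hne : N ≠ ⊥)
    (hint : ¬ MulAction.IsPretransitive N Ω) : CLe G (4 * (Nat.card Ω - 1)) := by
  classical
  let B := MulAction.orbitRel.Quotient N Ω
  have hmove : ∀ (g : G) (x y : Ω), (MulAction.orbitRel N Ω) x y →
      (MulAction.orbitRel N Ω) (g • x) (g • y) := by
    rintro g x y ⟨⟨u, hu⟩, rfl⟩
    refine ⟨⟨g * u * g⁻¹, hN.conj_mem u hu g⟩, ?_⟩
    show (g * u * g⁻¹) • g • y = g • u • y
    rw [smul_smul, smul_smul, inv_mul_cancel_right]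
  letI act : MulAction G B :=
    { smul := fun g => Quotient.map' (g • ·) (hmove g)
      one_smul := fun q => by
        refine Quotient.inductionOn' q fun x => ?_
        show Quotient.mk'' ((1 : G) • x) = _
        rw [one_smul]
      mul_smul := fun g h q => by
        refine Quotient.inductionOn' q fun x => ?_
        show Quotient.mk'' ((g * h) • x) = Quotient.mk'' (g • h • x)
        rw [mul_smul] }
  have hsmul : ∀ (g : G) (x : Ω), g • (Quotient.mk'' x : B) = Quotient.mk'' (g • x) := fun _ _ => rfl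
  have : MulAction.IsPretransitive G B := ⟨fun p q => by
    induction p using Quotient.inductionOn' with
    | h x =>
      induction q using Quotient.inductionOn' with
      | h y =>
        obtain ⟨g, rfl⟩ := MulAction.exists_smul_eq G x y
        exact ⟨g, rfl⟩⟩
  have : Fintype B := Fintype.ofFinite _
  have hsum : ∑ q : B, Nat.card q.orbit = Nat.card Ω := sum_orbit_card
  have hb2 : 2 ≤ Nat.card B := by
    by_contra h
    refine hint ⟨fun x y => ?_⟩
    have hsub : Subsingleton B := Finite.card_le_one_iff_subsingleton.1 (by omega)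
    exact Quotient.eq''.1 (Subsingleton.elim (Quotient.mk'' y : B) (Quotient.mk'' x))
  have hpos : ∀ q : B, 1 ≤ Nat.card q.orbit := fun q =>
    have : Nonempty q.orbit :=
      ⟨⟨Quotient.out q, MulAction.orbitRel.Quotient.mem_orbit.2 (Quotient.out_eq' _)⟩⟩
    Nat.card_pos
  have hbn : Nat.card B < Nat.card Ω := by
    obtain ⟨u, hu, hu1⟩ : ∃ u ∈ N, u ≠ 1 := by
      by_contra h
      push_neg at h
      exact hne ((eq_bot_iff_forall N).2 h)
    obtain ⟨x, hx⟩ : ∃ x : Ω, u • x ≠ x := by
      by_contra h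
      push_neg at h
      exact hu1 (FaithfulSMul.eq_of_smul_eq_smul fun z : Ω => by rw [h, one_smul])
    have hlt : 1 < Nat.card (MulAction.orbitRel.Quotient.orbit (Quotient.mk'' x : B)) := by
      refine Finite.one_lt_card_iff_nontrivial.2
        ⟨⟨u • x, MulAction.orbitRel.Quotient.mem_orbit.2 ?_⟩, ⟨x, MulAction.orbitRel.Quotient.mem_orbit.2 rfl⟩,
          fun h => hx (congrArg Subtype.val h)⟩
      exact Quotient.sound' ⟨⟨u, hu⟩, rfl⟩
    rw [← hsum, Nat.card_eq_fintype_card, Fintype.card_eq_sum_ones]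
    exact Finset.sum_lt_sum (fun q _ => hpos q) ⟨_, Finset.mem_univ _, hlt⟩
  set K := (MulAction.toPermHom G B).ker with hK
  have hKq : ∀ k ∈ K, ∀ q : B, k • q = q := fun k hk q =>
    congrArg (fun f : Equiv.Perm B => f q) (MonoidHom.mem_ker.1 hk)
  -- the stabiliser of a block acts transitively on it
  have hblock : ∀ q : B, ∃ φ : K →* Equiv.Perm q.orbit, (∀ (k : K) (x : q.orbit), (φ k x : Ω) = (k : G) • (x : Ω)) ∧
      CLe φ.range (4 * (Nat.card q.orbit - 1)) := by
    intro q
    let S := MulAction.stabilizer G q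
    have hmem : ∀ (s : S) (x : q.orbit), (s : G) • (x : Ω) ∈ q.orbit := fun s x => by
      rw [MulAction.orbitRel.Quotient.mem_orbit]
      have hx := MulAction.orbitRel.Quotient.mem_orbit.1 x.2
      show ((s : G) • (Quotient.mk'' (x : Ω) : B)) = q
      rw [show (Quotient.mk'' (x : Ω) : B) = q from hx]
      exact s.2
    letI : MulAction S q.orbit :=
      { smul := fun s x => ⟨(s : G) • (x : Ω), hmem s x⟩
        one_smul := fun x => Subtype.ext (one_smul G (x : Ω))
        mul_smul := fun s t x => Subtype.ext (mul_smul (s : G) (t : G) (x : Ω)) }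
    have : MulAction.IsPretransitive S q.orbit := ⟨fun x y => by
      obtain ⟨g, hg⟩ := MulAction.exists_smul_eq G (x : Ω) (y : Ω)
      refine ⟨⟨g, ?_⟩, Subtype.ext hg⟩
      show g • q = q
      conv_lhs => rw [← show (Quotient.mk'' (x : Ω) : B) = q from MulAction.orbitRel.Quotient.mem_orbit.1 x.2]
      rw [hsmul, hg]
      exact MulAction.orbitRel.Quotient.mem_orbit.1 y.2⟩
    have hlt : Nat.card q.orbit < Nat.card Ω := orbit_card_lt hb2 q
    have hKS : K ≤ S := fun k hk => hKq k hk q
    refine ⟨(MulAction.toPermHom S q.orbit).comp (inclusion hKS), fun k x => rfl, ?_⟩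
    refine cle_range_comp _ _ ?_ (cle_range_of_good (IH _ hlt))
    rw [inclusion_range]
    exact (MonoidHom.normal_ker (MulAction.toPermHom G B)).subgroupOf S
  choose φ hφ hφb using hblock
  have hKc : CLe K (0 + ∑ q : B, 4 * (Nat.card q.orbit - 1)) := by
    refine cle_jointly φ _ hφb ?_
    suffices (MonoidHom.pi φ).ker = ⊥ by rw [this]; exact cle_subsingleton _
    rw [eq_bot_iff]
    intro k hk
    refine mem_bot.2 (Subtype.ext (FaithfulSMul.eq_of_smul_eq_smul fun x : Ω => ?_))
    have h1 : φ (Quotient.mk'' x) k = 1 := congrFun (MonoidHom.mem_ker.1 hk) _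
    have h2 := hφ (Quotient.mk'' x) k ⟨x, MulAction.orbitRel.Quotient.mem_orbit.2 rfl⟩
    rw [h1] at h2
    show (k : G) • x = (1 : G) • x
    rw [one_smul]; exact h2.symm
  have hG := CLe.of_ker_range (MulAction.toPermHom G B) hKc (cle_range_of_good (IH _ hbn))
  refine hG.mono ?_
  rw [sum_orbit_eq]
  have : Nat.card (MulAction.orbitRel.Quotient N Ω) = Nat.card B := rfl
  omega

open ArithmeticFunction in
/-- A transitive abelian minimal normal subgroup. -/
lemma cle_abelian [FaithfulSMul G Ω] [MulAction.IsPretransitive G Ω] (N : Subgroup G) [hN : N.Normal]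
    (hne : N ≠ ⊥) (hmin : ∀ L : Subgroup G, L.Normal → L ≤ N → L ≠ ⊥ → L = N)
    (hc : ∀ x ∈ N, ∀ y ∈ N, Commute x y) [MulAction.IsPretransitive N Ω] (a : Ω) :
    CLe G (4 * (Nat.card Ω - 1)) := by
  classical
  have : Nontrivial N := (nontrivial_iff_ne_bot N).2 hne
  have hcard1 : Nat.card N ≠ 1 := (Finite.one_lt_card_iff_nontrivial.2 this).ne'
  obtain ⟨p, hp, hdvd⟩ := Nat.exists_prime_and_dvd hcard1
  have := Fact.mk hp
  let L : Subgroup G :=
    { carrier := {x | x ∈ N ∧ x ^ p = 1}
      one_mem' := ⟨N.one_mem, one_pow _⟩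
      mul_mem' := fun {x y} hx hy => ⟨N.mul_mem hx.1 hy.1, by
        rw [(hc x hx.1 y hy.1).mul_pow, hx.2, hy.2, one_mul]⟩
      inv_mem' := fun {x} hx => ⟨N.inv_mem hx.1, by rw [inv_pow, hx.2, inv_one]⟩ }
  have hLn : L.Normal := ⟨fun x hx g => ⟨hN.conj_mem x hx.1 g, by rw [conj_pow, hx.2]; simp⟩⟩
  obtain ⟨x, hx⟩ := exists_prime_orderOf_dvd_card' p hdvd
  have hLN : L = N := hmin L hLn (fun y hy => hy.1) fun h => by
    have hxL : (x : G) ∈ L := ⟨x.2, by rw [← hx, ← Subgroup.coe_pow, pow_orderOf_eq_one]; rfl⟩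
    rw [h, mem_bot] at hxL
    rw [show x = 1 from Subtype.ext hxL, orderOf_one] at hx
    exact hp.ne_one hx.symm
  have hP : IsPGroup p N := fun y => ⟨1, Subtype.ext (by
    rw [Subgroup.coe_pow, pow_one, Subgroup.coe_one]
    exact ((hLN.symm ▸ y.2 : (y : G) ∈ L)).2)⟩
  obtain ⟨d, hd⟩ := IsPGroup.iff_card.1 hP
  have hd0 : 0 < d := by
    rcases Nat.eq_zero_or_pos d with rfl | h
    · exact absurd (by simpa using hd) hcard1
    · exact h
  -- `N` is regular
  have hreg : ∀ y : N, (y : G) • a = a → y = 1 := by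
    intro y hy
    refine Subtype.ext (FaithfulSMul.eq_of_smul_eq_smul fun w : Ω => ?_)
    obtain ⟨z, rfl⟩ := MulAction.exists_smul_eq N a w
    show (y : G) • (z : G) • a = (1 : G) • ((z : G) • a)
    rw [smul_smul, (hc y y.2 z z.2).eq, ← smul_smul, hy, one_smul]
  have hbij : Function.Bijective (fun y : N => (y : G) • a) := by
    refine ⟨fun y z h => ?_, fun w => MulAction.exists_smul_eq N a w⟩
    refine (inv_mul_eq_one.1 (hreg (z⁻¹ * y) ?_)).symm
    simp only at h
    simp [mul_smul, h]
  have hn : Nat.card Ω = p ^ d := by rw [← Nat.card_eq_of_bijective _ hbij, hd]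
  -- generators
  have hgen : ∀ H : Subgroup N, ∃ s : Finset N, closure (s : Set N) = H ∧
      s.card ≤ cardFactors (Nat.card H) := by
    intro H
    induction H using WellFoundedLT.induction with
    | ind H ih =>
      rcases eq_or_ne H ⊥ with rfl | hH
      · exact ⟨∅, by simp⟩
      · obtain ⟨M, hM, hMH⟩ : ∃ M < H, ∀ M' < H, M ≤ M' → M' = M := by
          obtain ⟨M, hM, hmax⟩ := (Set.toFinite {M : Subgroup N | M < H}).exists_maximal
            ⟨⊥, bot_lt_iff_ne_bot.2 hH⟩
          exact ⟨M, hM, fun M' h1 h2 => le_antisymm (hmax h1 h2) h2⟩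
        obtain ⟨s, hs, hsc⟩ := ih M hM
        obtain ⟨y, hyH, hyM⟩ := SetLike.exists_of_lt hM
        refine ⟨insert y s, ?_, ?_⟩
        · have h1 : closure ((insert y s : Finset N) : Set N) ≤ H := by
            rw [closure_le, Finset.coe_insert, Set.insert_subset_iff]
            exact ⟨hyH, fun z hz => hM.le (hs ▸ subset_closure hz)⟩
          by_contra hne'
          have h2 := hMH _ (lt_of_le_of_ne h1 hne') (by
            rw [← hs]; exact closure_mono (by simp))
          exact hyM (h2 ▸ subset_closure (by simp))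
        · have hdiv : Nat.card M ∣ Nat.card H := card_dvd_of_le hM.le
          obtain ⟨c, hcc⟩ := hdiv
          have hM0 : Nat.card M ≠ 0 := Nat.card_pos.ne'
          have hc0 : c ≠ 0 := by rintro rfl; exact (Nat.card_pos (α := H)).ne' (by simpa using hcc)
          have hc1 : c ≠ 1 := by
            rintro rfl
            exact hM.ne (eq_of_le_of_card_ge hM.le (by omega))
          rw [hcc, cardFactors_mul hM0 hc0]
          have : cardFactors c ≠ 0 := by
            rw [Ne, cardFactors_eq_zero_iff_eq_zero_or_one]; tauto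
          have := Finset.card_insert_le y s
          omega
  obtain ⟨s, hs, hsc⟩ := hgen ⊤
  rw [card_top, hd, cardFactors_apply_prime_pow hp] at hsc
  -- the stabiliser embeds in the maps on generators
  set A := MulAction.stabilizer G a with hA
  let f : A → (s → N) := fun g i => ⟨(g : G) * (i : N) * (g : G)⁻¹, hN.conj_mem _ (i : N).2 g⟩
  have hf : Function.Injective f := by
    intro g h hgh
    have hall : ∀ y : N, (g : G) * y * (g : G)⁻¹ = (h : G) * y * (h : G)⁻¹ := by
      intro y
      have hy : y ∈ closure (s : Set N) := hs ▸ mem_top y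
      induction hy using closure_induction with
      | mem z hz => exact congrArg Subtype.val (congrFun hgh ⟨z, hz⟩)
      | one => simp
      | mul u v _ _ h1 h2 =>
        calc (g : G) * ((u * v : N) : G) * (g : G)⁻¹
            = ((g : G) * u * (g : G)⁻¹) * ((g : G) * v * (g : G)⁻¹) := by simp [mul_assoc]
          _ = _ := by rw [h1, h2]; simp [mul_assoc]
      | inv u _ h1 =>
        calc (g : G) * ((u⁻¹ : N) : G) * (g : G)⁻¹ = ((g : G) * u * (g : G)⁻¹)⁻¹ := by simp [mul_assoc]
          _ = _ := by rw [h1]; simp [mul_assoc]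
    refine Subtype.ext (FaithfulSMul.eq_of_smul_eq_smul fun w : Ω => ?_)
    obtain ⟨y, rfl⟩ := MulAction.exists_smul_eq N a w
    have e : ∀ k : A, (k : G) • (y : G) • a = ((k : G) * y * (k : G)⁻¹) • a := fun k => by
      conv_rhs => rw [mul_smul, mul_smul, inv_smul_eq_iff.2 (MulAction.mem_stabilizer_iff.1 k.2).symm]
    show (g : G) • (y : G) • a = (h : G) • (y : G) • a
    rw [e g, e h, hall]
  have hAle : Nat.card A ≤ (p ^ d) ^ d := by
    refine (Nat.card_le_card_of_injective f hf).trans ?_
    rw [Nat.card_fun, hd, Nat.card_eq_fintype_card, Fintype.card_coe]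
    exact Nat.pow_le_pow_right (pow_pos hp.pos d) hsc
  have hGc : Nat.card G = p ^ d * Nat.card A := by
    rw [← hn, ← MulAction.index_stabilizer_of_transitive G a, mul_comm, card_mul_index]
  have hdvd' : p ^ d * Nat.card A ∣ (p ^ d).factorial := by
    rw [← hGc, ← hn, ← Nat.card_perm]
    exact card_dvd_of_injective (MulAction.toPermHom G Ω)
      (fun g h e => FaithfulSMul.eq_of_smul_eq_smul fun w : Ω => congrArg (fun q : Equiv.Perm Ω => q w) e)
  refine (cle_cardFactors (G := G)).mono ?_
  rw [hGc, cardFactors_mul (pow_ne_zero _ hp.pos.ne') Nat.card_pos.ne', cardFactors_apply_prime_pow hp, hn]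
  exact abelian_arith hp hd0 Nat.card_pos hAle hdvd'

end Lemmas

end Cfsg.Agent.Classical.CompLength
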