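import Cfsg.Agent.Lib.Classical.CompLength

/-!
Composition length of permutation groups: at most 4/3 of degree minus the number of orbits.
-/

set_option autoImplicit false

namespace Cfsg.Agent.Classical.CompLength

open Subgroup

section Generic

variable {G Q S K : Type*} [Group G] [Group Q] [Group S] [Group K]

lemma cle_top {x : ℕ} (h : CLe G x) : CLe (⊤ : Subgroup G) x := h.equiv Subgroup.topEquiv.symm

lemma cle_range_comp (f : S →* Q) (g : K →* S) (hn : g.range.Normal) {x : ℕ}
    (h : CLe f.range x) : CLe (f.comp g).range x := by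
  have hle : (f.comp g).range ≤ f.range := by rintro _ ⟨w, rfl⟩; exact ⟨g w, rfl⟩
  refine CLe.of_injective_normal_range (f := Subgroup.inclusion hle)
    (Subgroup.inclusion_injective _) ?_ h
  refine ⟨fun y hy z => ?_⟩
  obtain ⟨⟨y0, w, rfl⟩, rfl⟩ := hy
  obtain ⟨_, s, rfl⟩ := z
  obtain ⟨w', hw'⟩ := hn.conj_mem (g w) ⟨w, rfl⟩ s
  exact ⟨⟨_, w', rfl⟩, Subtype.ext (by simp [hw'])⟩

lemma cle_jointly {ι : Type*} [Fintype ι] {A : ι → Type*} [∀ i, Group (A i)]
    (φ : ∀ i, G →* A i) (b : ι → ℕ) (hb : ∀ i, CLe (φ i).range (b i))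
    {c : ℕ} (hc : CLe (MonoidHom.pi φ).ker c) : CLe G (c + ∑ i, b i) := by
  classical
  refine CLe.of_ker_range (MonoidHom.pi φ) hc ?_
  let π : ∀ i, (MonoidHom.pi φ).range →* A i :=
    fun i => (Pi.evalMonoidHom A i).comp (MonoidHom.pi φ).range.subtype
  have hπ : ∀ i, (π i).range = (φ i).range := by
    intro i
    ext y
    constructor
    · rintro ⟨⟨_, w, rfl⟩, rfl⟩; exact ⟨w, rfl⟩
    · rintro ⟨w, rfl⟩; exact ⟨⟨_, w, rfl⟩, rfl⟩
  have h := CLe.of_family Finset.univ π b (fun i _ => (hπ i).symm ▸ hb i) ⊤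
    (fun x _ hx => Subtype.ext (funext fun i => hx i (Finset.mem_univ _)))
  exact h.equiv Subgroup.topEquiv

end Generic

/-- The inductive statement in degree `n`. -/
def Good (n : ℕ) : Prop :=
  ∀ G : Subgroup (Equiv.Perm (Fin n)), MulAction.IsPretransitive G (Fin n) → CLe G (4 * (n - 1))

lemma cle_range_of_good {G Ω : Type*} [Group G] [MulAction G Ω] [Finite Ω]
    [MulAction.IsPretransitive G Ω] (h : Good (Nat.card Ω)) :
    CLe (MulAction.toPermHom G Ω).range (4 * (Nat.card Ω - 1)) := by
  let e : Equiv.Perm Ω ≃* Equiv.Perm (Fin (Nat.card Ω)) := (Finite.equivFin Ω).permCongrHom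
  have ht : MulAction.IsPretransitive
      ((MulAction.toPermHom G Ω).range.map e.toMonoidHom) (Fin (Nat.card Ω)) := by
    refine ⟨fun x y => ?_⟩
    obtain ⟨g, hg⟩ := MulAction.exists_smul_eq G ((Finite.equivFin Ω).symm x) ((Finite.equivFin Ω).symm y)
    refine ⟨⟨e (MulAction.toPermHom G Ω g), _, ⟨g, rfl⟩, rfl⟩, ?_⟩
    show e (MulAction.toPermHom G Ω g) x = y
    simp [e, Equiv.permCongrHom, Equiv.permCongr_apply, hg]
  exact (h _ ht).equiv
    ((MulAction.toPermHom G Ω).range.equivMapOfInjective e.toMonoidHom e.injective).symm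

section Orbits

variable {G Ω : Type*} [Group G] [MulAction G Ω] [Finite Ω]

/-- A faithful group in terms of its transitive constituents. -/
lemma cle_orbits [FaithfulSMul G Ω] [Fintype (MulAction.orbitRel.Quotient G Ω)]
    (h : ∀ q : MulAction.orbitRel.Quotient G Ω, Good (Nat.card q.orbit)) :
    CLe G (∑ q : MulAction.orbitRel.Quotient G Ω, 4 * (Nat.card q.orbit - 1)) := by
  have hb : ∀ q : MulAction.orbitRel.Quotient G Ω,
      CLe (MulAction.toPermHom G q.orbit).range (4 * (Nat.card q.orbit - 1)) :=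
    fun q => cle_range_of_good (h q)
  have hk : (MonoidHom.pi fun q : MulAction.orbitRel.Quotient G Ω =>
      MulAction.toPermHom G q.orbit).ker = ⊥ := by
    rw [eq_bot_iff]
    intro x hx
    refine mem_bot.2 (FaithfulSMul.eq_of_smul_eq_smul fun w : Ω => ?_)
    let q : MulAction.orbitRel.Quotient G Ω := Quotient.mk'' w
    have h1 : MulAction.toPermHom G q.orbit x = 1 := congrFun (MonoidHom.mem_ker.1 hx) q
    have h2 := congrArg (fun f : Equiv.Perm q.orbit =>
      ((f ⟨w, MulAction.orbitRel.Quotient.mem_orbit.2 rfl⟩ : q.orbit) : Ω)) h1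
    simpa using h2
  have hc : CLe (MonoidHom.pi fun q : MulAction.orbitRel.Quotient G Ω =>
      MulAction.toPermHom G q.orbit).ker 0 := by
    rw [hk]; exact cle_subsingleton _
  simpa using cle_jointly _ _ hb hc

lemma sum_orbit_card [Fintype (MulAction.orbitRel.Quotient G Ω)] :
    ∑ q : MulAction.orbitRel.Quotient G Ω, Nat.card q.orbit = Nat.card Ω := by
  rw [← Nat.card_sigma]
  exact (Nat.card_congr (MulAction.selfEquivSigmaOrbits' G Ω)).symm

lemma sum_orbit_eq [Fintype (MulAction.orbitRel.Quotient G Ω)] :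
    ∑ q : MulAction.orbitRel.Quotient G Ω, 4 * (Nat.card q.orbit - 1) =
      4 * (Nat.card Ω - Nat.card (MulAction.orbitRel.Quotient G Ω)) := by
  rw [← Finset.mul_sum, Nat.card_eq_fintype_card (α := MulAction.orbitRel.Quotient G Ω),
    ← sum_orbit_card (G := G), Fintype.card_eq_sum_ones, ← Finset.sum_tsub_distrib]
  intro q _
  have : Nonempty (MulAction.orbitRel.Quotient.orbit (q : MulAction.orbitRel.Quotient G Ω)) :=
    ⟨⟨Quotient.out (q : MulAction.orbitRel.Quotient G Ω), MulAction.orbitRel.Quotient.mem_orbit.2 (Quotient.out_eq' _)⟩⟩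
  exact Nat.card_pos

lemma orbit_card_lt [Fintype (MulAction.orbitRel.Quotient G Ω)]
    (h2 : 2 ≤ Nat.card (MulAction.orbitRel.Quotient G Ω)) (q : MulAction.orbitRel.Quotient G Ω) :
    Nat.card q.orbit < Nat.card Ω := by
  classical
  rw [← sum_orbit_card (G := G) (Ω := Ω)]
  have : Nontrivial (MulAction.orbitRel.Quotient G Ω) := by
    rw [← Finite.one_lt_card_iff_nontrivial]; omega
  obtain ⟨q', hq'⟩ := exists_ne q
  refine Finset.single_lt_sum (f := fun r : MulAction.orbitRel.Quotient G Ω => Nat.card r.orbit)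
    hq' (Finset.mem_univ q) (Finset.mem_univ q') ?_ (fun _ _ _ => Nat.zero_le _)
  have : Nonempty q'.orbit :=
    ⟨⟨Quotient.out q', MulAction.orbitRel.Quotient.mem_orbit.2 (Quotient.out_eq' _)⟩⟩
  exact Nat.card_pos

end Orbits

section Arith

open ArithmeticFunction

lemma cardFactors_le_log {m : ℕ} (hm : m ≠ 0) : cardFactors m ≤ Nat.log 2 m := by
  refine Nat.le_log_of_pow_le (by norm_num) ?_
  rw [cardFactors_apply]
  calc 2 ^ m.primeFactorsList.length ≤ m.primeFactorsList.prod :=
        List.pow_card_le_prod _ _ fun x hx => (Nat.prime_of_mem_primeFactorsList hx).two_le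
    _ = m := Nat.prod_primeFactorsList hm

lemma cardFactors_mono_of_dvd {a b : ℕ} (hb : b ≠ 0) (h : a ∣ b) : cardFactors a ≤ cardFactors b := by
  obtain ⟨c, rfl⟩ := h
  obtain ⟨ha, hc⟩ := mul_ne_zero_iff.1 hb
  rw [cardFactors_mul ha hc]
  omega

lemma abelian_arith {p d A : ℕ} (hp : p.Prime) (hd : 0 < d) (hA : 0 < A)
    (hAle : A ≤ (p ^ d) ^ d) (hdvd : p ^ d * A ∣ (p ^ d).factorial) :
    3 * (d + cardFactors A) ≤ 4 * (p ^ d - 1) := by
  have hn0 : p ^ d ≠ 0 := pow_ne_zero _ hp.pos.ne'
  have hΩ : cardFactors (p ^ d * A) = d + cardFactors A := by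
    rw [cardFactors_mul hn0 hA.ne', cardFactors_apply_prime_pow hp]
  have hfac := cardFactors_mono_of_dvd (Nat.factorial_ne_zero _) hdvd
  rw [hΩ] at hfac
  have hlog : cardFactors A ≤ Nat.log 2 ((p ^ d) ^ d) :=
    (cardFactors_le_log hA.ne').trans (Nat.log_mono_right hAle)
  have hΩsucc : ∀ k, cardFactors (k + 1).factorial = cardFactors (k + 1) + cardFactors k.factorial :=
    fun k => by rw [Nat.factorial_succ, cardFactors_mul (by omega) (Nat.factorial_ne_zero _)]
  have v1 : cardFactors (1 : ℕ).factorial = 0 := by simp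
  have v2 : cardFactors (2 : ℕ).factorial = 1 := by
    rw [hΩsucc 1, v1, cardFactors_apply_prime (by norm_num)]
  have v3 : cardFactors (3 : ℕ).factorial = 2 := by
    rw [hΩsucc 2, v2, cardFactors_apply_prime (by norm_num)]
  have v4 : cardFactors (4 : ℕ).factorial = 4 := by
    rw [hΩsucc 3, v3, show 3 + 1 = 2 ^ 2 by norm_num, cardFactors_apply_prime_pow (by norm_num)]
  have v5 : cardFactors (5 : ℕ).factorial = 5 := by
    rw [hΩsucc 4, v4, cardFactors_apply_prime (by norm_num)]
  have v6 : cardFactors (6 : ℕ).factorial = 7 := by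
    rw [hΩsucc 5, v5, show 5 + 1 = 2 * 3 by norm_num, cardFactors_mul (by norm_num) (by norm_num),
      cardFactors_apply_prime (by norm_num), cardFactors_apply_prime (by norm_num)]
  have v7 : cardFactors (7 : ℕ).factorial = 8 := by
    rw [hΩsucc 6, v6, cardFactors_apply_prime (by norm_num)]
  have hdn : 2 ^ d ≤ p ^ d := Nat.pow_le_pow_left hp.two_le d
  rcases Nat.lt_or_ge (p ^ d) 32 with hsmall | hbig
  · by_cases hd1 : d = 1
    · subst hd1
      rw [pow_one] at *
      rw [pow_one] at hlog
      by_cases h4 : p < 4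
      · have := hp.two_le
        interval_cases p
        · rw [v2] at hfac; omega
        · rw [v3] at hfac; omega
      · have hL : 2 ≤ Nat.log 2 p := Nat.le_log_of_pow_le (by norm_num) (by omega)
        have hge : 2 ^ Nat.log 2 p ≤ p := Nat.pow_log_le_self 2 (by omega)
        have key : ∀ k, 2 ≤ k → 3 * (1 + k) + 4 ≤ 4 * 2 ^ k := by
          intro k hk
          induction k, hk using Nat.le_induction with
          | base => norm_num
          | succ k hk ih => rw [pow_succ]; omega
        have := key _ hL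
        omega
    · have hd2 : 2 ≤ d := by omega
      have hd5 : d < 5 := by
        by_contra h
        have := Nat.pow_le_pow_right (show 0 < 2 by norm_num) (Nat.le_of_not_lt h)
        omega
      have hp6 : p < 6 := by
        by_contra h
        have h1 : 6 ^ 2 ≤ p ^ d :=
          (Nat.pow_le_pow_left (Nat.le_of_not_lt h) 2).trans (Nat.pow_le_pow_right hp.pos (by omega))
        omega
      have hb : ∀ X B, (p ^ d) ^ d = X → X < 2 ^ B → cardFactors A < B := fun X B hX hB =>
        lt_of_le_of_lt hlog (Nat.log_lt_of_lt_pow (by rw [hX]; rintro rfl; exact absurd hX (by positivity)) (hX ▸ hB))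
      have := hp.two_le
      interval_cases p
      · interval_cases d
        · rw [show (2 : ℕ) ^ 2 = 4 by norm_num, v4] at hfac; omega
        · -- `A` divides 7! and is at most 512
          have hA7 : A ∣ (7 : ℕ).factorial := by
            rw [show (2 : ℕ) ^ 3 = 7 + 1 by norm_num, Nat.factorial_succ 7] at hdvd
            exact Nat.dvd_of_mul_dvd_mul_left (by norm_num) hdvd
          obtain ⟨f, hf⟩ := hA7
          have hf0 : f ≠ 0 := by rintro rfl; exact Nat.factorial_ne_zero 7 (by simpa using hf)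
          have hsum : cardFactors A + cardFactors f = 8 := by
            rw [← cardFactors_mul hA.ne' hf0, ← hf, v7]
          by_contra hc
          have hf1 : cardFactors f ≤ 1 := by omega
          have hf7 : f ≤ 7 := by
            rcases Nat.le_one_iff_eq_zero_or_eq_one.1 hf1 with h | h
            · rcases cardFactors_eq_zero_iff_eq_zero_or_one.1 h with h | h <;> omega
            · exact (cardFactors_eq_one_iff_prime.1 h).dvd_factorial.1 ⟨A, by rw [hf, mul_comm]⟩
          have : A * f ≤ 512 * 7 := Nat.mul_le_mul (by simpa using hAle) hf7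
          norm_num [Nat.factorial] at hf
          omega
        · have := hb _ 17 (by norm_num : ((2 : ℕ) ^ 4) ^ 4 = 65536) (by norm_num); omega
      · interval_cases d
        · have := hb _ 7 (by norm_num : ((3 : ℕ) ^ 2) ^ 2 = 81) (by norm_num); omega
        · have := hb _ 15 (by norm_num : ((3 : ℕ) ^ 3) ^ 3 = 19683) (by norm_num); omega
        · omega
      · exact absurd hp (by norm_num)
      · interval_cases d
        · have := hb _ 10 (by norm_num : ((5 : ℕ) ^ 2) ^ 2 = 625) (by norm_num); omega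
        · omega
        · omega
  · set L := Nat.log 2 (p ^ d) with hL
    have hL5 : 5 ≤ L := Nat.le_log_of_pow_le (by norm_num) (by simpa using hbig)
    have hdL : d ≤ L := Nat.le_log_of_pow_le (by norm_num) hdn
    have hlt : p ^ d < 2 ^ (L + 1) := Nat.lt_pow_succ_log_self (by norm_num) (p ^ d)
    have hB : Nat.log 2 ((p ^ d) ^ d) < (L + 1) * d := by
      refine Nat.log_lt_of_lt_pow (pow_ne_zero _ hn0) ?_
      rw [pow_mul 2 (L + 1) d]
      exact Nat.pow_lt_pow_left hlt hd.ne'
    have hge : 2 ^ L ≤ p ^ d := Nat.pow_log_le_self 2 hn0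
    have key : ∀ k, 5 ≤ k → 3 * (k + (k + 1) * k) + 4 ≤ 4 * 2 ^ k := by
      intro k hk
      induction k, hk using Nat.le_induction with
      | base => norm_num
      | succ k hk ih => rw [pow_succ]; nlinarith
    have := key L hL5
    have : (L + 1) * d ≤ (L + 1) * L := Nat.mul_le_mul_left _ hdL
    omega

lemma sum_le_prod {ι : Type*} (s : Finset ι) (f : ι → ℕ) (h : ∀ i ∈ s, 2 ≤ f i) :
    ∑ i ∈ s, f i ≤ ∏ i ∈ s, f i := by
  classical
  induction s using Finset.induction_on with
  | empty => simp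
  | insert i s his ih =>
    rw [Finset.sum_insert his, Finset.prod_insert his]
    have := ih fun j hj => h j (Finset.mem_insert_of_mem hj)
    have hi := h i (Finset.mem_insert_self _ _)
    rcases s.eq_empty_or_nonempty with rfl | ⟨j, hj⟩
    · simp
    · have : 2 ≤ ∏ i ∈ s, f i := by
        refine le_trans ?_ this
        exact le_trans (h j (Finset.mem_insert_of_mem hj)) (Finset.single_le_sum (fun _ _ => Nat.zero_le _) hj)
      nlinarith

lemma sq_half_le {t k : ℕ} (ht : 4 ≤ t) (hk : 2 ≤ k) : (k * (t / 2)) ^ 2 ≤ t ^ k := by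
  obtain ⟨j, rfl⟩ : ∃ j, k = j + 2 := ⟨k - 2, by omega⟩
  have hj : ((j + 2) : ℕ) ^ 2 ≤ 4 * 4 ^ j := by
    induction j with
    | zero => norm_num
    | succ j ih => rw [pow_succ 4]; nlinarith [ih (by omega)]
  have h2 : 2 * (t / 2) ≤ t := Nat.mul_div_le t 2
  calc ((j + 2) * (t / 2)) ^ 2 = (j + 2) ^ 2 * (t / 2) ^ 2 := by ring
    _ ≤ 4 * 4 ^ j * (t / 2) ^ 2 := Nat.mul_le_mul_right _ hj
    _ = 4 ^ j * (2 * (t / 2)) ^ 2 := by ring
    _ ≤ t ^ j * t ^ 2 := Nat.mul_le_mul (Nat.pow_le_pow_left ht j) (Nat.pow_le_pow_left h2 2)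
    _ = t ^ (j + 2) := by ring

end Arith

section CosetReps

variable {S : Type*} [Group S] [Finite S] (T : Subgroup S) [T.Normal]

omit [Finite S] in
lemma core_le_centralizer [IsSimpleGroup T] {M : Subgroup S} (hM : ¬ T ≤ M) :
    M.normalCore ≤ centralizer (T : Set S) := by
  intro x hx
  refine mem_centralizer_iff.2 fun t ht => ?_
  have hn : ((M.normalCore ⊓ T).subgroupOf T).Normal :=
    (Subgroup.normal_inf_normal M.normalCore T).subgroupOf T
  have hbot : M.normalCore ⊓ T = ⊥ := by
    rcases hn.eq_bot_or_eq_top with h | h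
    · rw [subgroupOf_eq_bot, disjoint_iff] at h
      simpa [inf_assoc] using h
    · rw [subgroupOf_eq_top] at h
      exact absurd ((h.trans inf_le_left).trans (normalCore_le M)) hM
  have h1 : t * x * t⁻¹ * x⁻¹ ∈ M.normalCore ⊓ T := by
    refine ⟨Subgroup.mul_mem _ ((normalCore_normal M).conj_mem x hx t) (Subgroup.inv_mem _ hx), ?_⟩
    have := Subgroup.mul_mem _ ht (Normal.conj_mem (H := T) inferInstance t⁻¹ (Subgroup.inv_mem _ ht) x)
    simpa [mul_assoc] using this
  rw [hbot, mem_bot] at h1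
  exact mul_inv_eq_iff_eq_mul.1 (mul_inv_eq_one.1 h1)

lemma index_mul_card_le {M R : Subgroup S} (hsup : M ⊔ T = ⊤) (hRT : R ≤ T) (hRM : R ≤ M) :
    M.index * Nat.card R ≤ Nat.card T := by
  classical
  let f : T → S ⧸ M := fun t => QuotientGroup.mk (t : S)
  have hf : Function.Surjective f := by
    rintro q
    obtain ⟨s, rfl⟩ := QuotientGroup.mk_surjective q
    obtain ⟨t, ht, m, hm, rfl⟩ := mem_sup_of_normal_left.mp
      (show s ∈ T ⊔ M by rw [sup_comm, hsup]; trivial)
    exact ⟨⟨t, ht⟩, QuotientGroup.eq.2 (by simpa using hm)⟩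
  let g : (S ⧸ M) × R → T := fun p =>
    ⟨((Function.surjInv hf p.1 : T) : S) * p.2, mul_mem (Function.surjInv hf p.1).2 (hRT p.2.2)⟩
  have hg : Function.Injective g := by
    rintro ⟨q, r⟩ ⟨q', r'⟩ h
    have h' := congrArg Subtype.val h
    simp only [g] at h'
    have hq : q = q' := by
      rw [← Function.surjInv_eq hf q, ← Function.surjInv_eq hf q']
      refine QuotientGroup.eq.2 ?_
      have he : ((Function.surjInv hf q : T) : S)⁻¹ * (Function.surjInv hf q' : T) =
          (r : S) * (r' : S)⁻¹ := by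
        rw [inv_mul_eq_iff_eq_mul, ← mul_assoc, h', mul_inv_cancel_right]
      rw [he]
      exact mul_mem (hRM r.2) (inv_mem (hRM r'.2))
    subst hq
    exact Prod.ext rfl (Subtype.ext (mul_left_cancel h'))
  have := Nat.card_le_card_of_injective g hg
  rwa [Nat.card_prod, ← index_eq_card] at this

lemma four_le_card [IsSimpleGroup T] (hna : ¬ IsMulCommutative T) : 4 ≤ Nat.card T := by
  by_contra h
  push_neg at h
  have h1 : 1 < Nat.card T := Finite.one_lt_card_iff_nontrivial.2 inferInstance
  have hp : (Nat.card T).Prime := by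
    interval_cases (Nat.card T) <;> norm_num
  have : Fact (Nat.card T).Prime := ⟨hp⟩
  have : IsCyclic T := isCyclic_of_prime_card rfl
  exact hna inferInstance

lemma exists_half_index [IsSimpleGroup T] (hna : ¬ IsMulCommutative T) :
    ∃ M : Subgroup S, ¬ T ≤ M ∧ 2 * M.index ≤ Nat.card T := by
  obtain ⟨p, hp, hdvd⟩ := Nat.exists_prime_and_dvd (show Nat.card T ≠ 1 by
    have := four_le_card T hna; omega)
  have := Fact.mk hp
  let P : Sylow p T := default
  set R := (P : Subgroup T).map T.subtype with hR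
  have hPne : (P : Subgroup T) ≠ ⊥ := P.ne_bot_of_dvd_card hdvd
  have hR2 : 2 ≤ Nat.card R := by
    rw [hR, card_map_of_injective (subtype_injective T)]
    exact (one_lt_card_iff_ne_bot _).2 hPne
  refine ⟨normalizer (R : Set S), fun h => ?_, ?_⟩
  · have hn : (P : Subgroup T).Normal := by
      refine ⟨fun x hx t => ?_⟩
      have h1 : (t : S) * x * (t : S)⁻¹ ∈ R :=
        (mem_normalizer_iff.1 (h t.2) (x : S)).1 ⟨x, hx, rfl⟩
      obtain ⟨y, hy, hyx⟩ := h1
      have : y = t * x * t⁻¹ := Subtype.ext hyx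
      exact this ▸ hy
    rcases hn.eq_bot_or_eq_top with h1 | h1
    · exact hPne h1
    · apply hna
      have hT : IsPGroup p T := fun x => by
        obtain ⟨k, hk⟩ := P.2 ⟨x, h1 ▸ mem_top x⟩
        exact ⟨k, by simpa using congrArg Subtype.val hk⟩
      have hc : Nontrivial (center T) := hT.center_nontrivial
      rcases (inferInstance : (center T).Normal).eq_bot_or_eq_top with h2 | h2
      · exact absurd h2 ((nontrivial_iff_ne_bot _).1 hc)
      · exact ⟨⟨fun a b => ((mem_center_iff.1 (h2 ▸ mem_top a : a ∈ center T)) b).symm⟩⟩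
  · have hle := index_mul_card_le (R := R) T (Sylow.normalizer_sup_eq_top P) (map_subtype_le _)
      le_normalizer
    have := Nat.mul_le_mul_left (normalizer (R : Set S)).index hR2
    rw [mul_comm]
    exact this.trans hle

lemma exists_index_of_subgroup [IsSimpleGroup T] {R : Subgroup S} (hRT : R ≤ T) (hbot : R ≠ ⊥)
    (htop : R ≠ T) (hsup : normalizer (R : Set S) ⊔ T = ⊤) :
    ∃ M : Subgroup S, ¬ T ≤ M ∧ M.index * Nat.card R ≤ Nat.card T := by
  refine ⟨normalizer (R : Set S), fun h => ?_, index_mul_card_le T hsup hRT le_normalizer⟩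
  have hn : (R.subgroupOf T).Normal := ⟨fun x hx t => by
    rw [mem_subgroupOf] at hx ⊢
    simpa using (mem_normalizer_iff.1 (h t.2) (x : S)).1 hx⟩
  rcases hn.eq_bot_or_eq_top with h1 | h1
  · rw [subgroupOf_eq_bot, disjoint_iff, inf_of_le_left hRT] at h1
    exact hbot h1
  · exact htop (le_antisymm hRT (subgroupOf_eq_top.1 h1))

end CosetReps

end Cfsg.Agent.Classical.CompLength
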