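import Cfsg.Agent.Lib.Classical.CompLengthMain

/-!
The case of a nonabelian minimal normal subgroup in the 4/3 composition length bound.
-/

set_option autoImplicit false

namespace Cfsg.Agent.Classical.CompLength

open Subgroup

variable {G : Type*} [Group G]

/-- Conjugate subgroup. -/
def cj (g : G) (T : Subgroup G) : Subgroup G := T.map (MulAut.conj g).toMonoidHom

lemma mem_cj {g x : G} {T : Subgroup G} : x ∈ cj g T ↔ g⁻¹ * x * g ∈ T := by
  constructor
  · rintro ⟨t, ht, rfl⟩
    simpa [mul_assoc] using ht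
  · intro h
    exact ⟨g⁻¹ * x * g, h, by simp [mul_assoc]⟩

lemma cj_one (T : Subgroup G) : cj 1 T = T := by ext x; simp [mem_cj]

lemma cj_cj' (g h : G) (T : Subgroup G) : cj g (cj h T) = cj (g * h) T := by
  ext x; simp [mem_cj, mul_assoc]

/-- The conjugates of `T₀`. -/
def Conjs (T₀ : Subgroup G) : Type _ := {T : Subgroup G // ∃ g, cj g T₀ = T}

instance (T₀ : Subgroup G) : MulAction G (Conjs T₀) where
  smul g i := ⟨cj g i.1, by obtain ⟨h, hh⟩ := i.2; exact ⟨g * h, by rw [← cj_cj', hh]⟩⟩
  one_smul i := Subtype.ext (cj_one i.1)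
  mul_smul g h i := Subtype.ext (cj_cj' g h i.1).symm

lemma smul_conjs_val {T₀ : Subgroup G} (g : G) (i : Conjs T₀) : (g • i).1 = cj g i.1 := rfl

instance (T₀ : Subgroup G) [Finite G] : Finite (Conjs T₀) := inferInstanceAs (Finite {T : Subgroup G // _})

instance (T₀ : Subgroup G) : MulAction.IsPretransitive G (Conjs T₀) where
  exists_smul_eq i j := by
    obtain ⟨g, hg⟩ := i.2
    obtain ⟨h, hh⟩ := j.2
    exact ⟨h * g⁻¹, Subtype.ext (by
      rw [smul_conjs_val, ← hg, cj_cj', inv_mul_cancel_right, hh])⟩

variable [Finite G] {Ω : Type*} [MulAction G Ω] [Finite Ω]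

set_option maxHeartbeats 1600000 in
/-- A transitive group all of whose non-trivial normal subgroups are transitive, with a nonabelian
minimal normal subgroup. -/
lemma cle_nonabelian [FaithfulSMul G Ω] [MulAction.IsPretransitive G Ω]
    (IH : ∀ m < Nat.card Ω, Good m)
    (hq : ∀ L : Subgroup G, L.Normal → L ≠ ⊥ → MulAction.IsPretransitive L Ω)
    (N : Subgroup G) [hN : N.Normal] (hne : N ≠ ⊥)
    (hmin : ∀ L : Subgroup G, L.Normal → L ≤ N → L ≠ ⊥ → L = N)
    (hna : ¬ ∀ x ∈ N, ∀ y ∈ N, Commute x y) (a : Ω) :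
    CLe G (4 * (Nat.card Ω - 1)) := by
  classical
  have htrans := hq N hN hne
  -- minimal normal subgroups of `N`
  let P : Subgroup G → Prop := fun T => T ≤ N ∧ T ≠ ⊥ ∧ ∀ x ∈ N, ∀ t ∈ T, x * t * x⁻¹ ∈ T
  obtain ⟨T₀, hT₀, hT₀min⟩ := (Set.toFinite {T : Subgroup G | P T}).exists_minimal
    ⟨N, le_rfl, hne, fun x hx t ht => N.mul_mem (N.mul_mem hx ht) (N.inv_mem hx)⟩
  set X := Conjs T₀ with hX
  have : Fintype X := Fintype.ofFinite _
  have hP0 : ∀ g : G, P (cj g T₀) := by
    intro g
    refine ⟨?_, ?_, ?_⟩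
    · intro x hx
      have := hN.conj_mem _ (hT₀.1 (mem_cj.1 hx)) g
      simpa [mul_assoc] using this
    · intro h
      refine hT₀.2.1 ?_
      rw [← cj_one T₀, ← inv_mul_cancel g, ← cj_cj', h]
      simp [cj]
    · intro x hx t ht
      rw [mem_cj] at ht ⊢
      have := hT₀.2.2 (g⁻¹ * x * g) (by simpa using hN.conj_mem x hx g⁻¹) _ ht
      simpa [mul_assoc] using this
  have hP : ∀ i : X, P i.1 := fun i => by
    obtain ⟨g, hg⟩ := i.2; exact hg ▸ hP0 g
  have hPmin : ∀ (i : X) (T : Subgroup G), P T → T ≤ i.1 → T = i.1 := by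
    intro i T hT hle
    obtain ⟨g, hg⟩ := i.2
    rw [← hg] at hle ⊢
    have h1 : cj g⁻¹ T ≤ T₀ := fun x hx => by
      have := mem_cj.1 (hle (mem_cj.1 hx))
      simpa [mul_assoc] using this
    have hP1 : P (cj g⁻¹ T) := by
      refine ⟨fun x hx => hT₀.1 (h1 hx), fun h => hT.2.1 ?_, fun x hx t ht => ?_⟩
      · rw [← cj_one T, ← mul_inv_cancel g, ← cj_cj', h]
        simp [cj]
      · rw [mem_cj, inv_inv] at ht ⊢
        have := hT.2.2 (g * x * g⁻¹) (hN.conj_mem x hx g) _ ht
        simpa [mul_assoc] using this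
    have h2 := le_antisymm (hT₀min hP1 h1) h1
    rw [h2, cj_cj', mul_inv_cancel, cj_one]
  have hdisj : ∀ i j : X, i ≠ j → i.1 ⊓ j.1 = ⊥ := by
    intro i j hij
    by_contra h
    have hPi : P (i.1 ⊓ j.1) := ⟨inf_le_left.trans (hP i).1, h, fun x hx t ht =>
      ⟨(hP i).2.2 x hx t ht.1, (hP j).2.2 x hx t ht.2⟩⟩
    exact hij (Subtype.ext ((hPmin i _ hPi inf_le_left).symm.trans (hPmin j _ hPi inf_le_right)))
  have hcomm : ∀ i j : X, i ≠ j → ∀ x ∈ i.1, ∀ y ∈ j.1, Commute x y := by
    intro i j hij x hx y hy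
    have h : x * y * x⁻¹ * y⁻¹ ∈ i.1 ⊓ j.1 := by
      refine ⟨?_, j.1.mul_mem ((hP j).2.2 x ((hP i).1 hx) y hy) (j.1.inv_mem hy)⟩
      have := i.1.mul_mem hx ((hP i).2.2 y ((hP j).1 hy) x⁻¹ (i.1.inv_mem hx))
      simpa [mul_assoc] using this
    rw [hdisj i j hij, mem_bot] at h
    exact mul_inv_eq_iff_eq_mul.1 (mul_inv_eq_one.1 h)
  have hsup : (⨆ i : X, i.1) = N := by
    refine hmin _ ⟨fun x hx g => ?_⟩ (iSup_le fun i => (hP i).1) ?_
    · induction hx using Subgroup.iSup_induction' with
      | hp i x hx => exact mem_iSup_of_mem (g • i) (by rw [smul_conjs_val, mem_cj]; simpa [mul_assoc] using hx)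
      | h1 => simp
      | hmul x y _ _ h1 h2 =>
        have := mul_mem h1 h2
        simpa [mul_assoc] using this
    · intro h
      have h' : (⟨T₀, 1, cj_one T₀⟩ : X).1 ≤ ⊥ := h ▸ le_iSup (fun i : X => i.1) _
      exact hT₀.2.1 (le_bot_iff.1 h')
  have hTnc : ∀ i : X, ¬ ∀ x ∈ i.1, ∀ y ∈ i.1, Commute x y := by
    intro i hi
    have hall : ∀ j : X, ∀ x ∈ j.1, ∀ y ∈ j.1, Commute x y := by
      intro j x hx y hy
      obtain ⟨g, rfl⟩ := MulAction.exists_smul_eq G i j
      rw [smul_conjs_val, mem_cj] at hx hy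
      have := congrArg (fun w => g * w * g⁻¹) (hi _ hx _ hy).eq
      simpa [mul_assoc, Commute, SemiconjBy] using this
    have h1 : ∀ x ∈ N, ∀ (j : X), ∀ y ∈ j.1, Commute x y := by
      intro x hx j y hy
      rw [← hsup] at hx
      induction hx using Subgroup.iSup_induction' with
      | hp l x hx =>
        rcases eq_or_ne l j with rfl | hne'
        · exact hall l x hx y hy
        · exact hcomm l j hne' x hx y hy
      | h1 => exact Commute.one_left _
      | hmul x z _ _ e1 e2 => exact e1.mul_left e2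
    refine hna fun x hx y hy => ?_
    rw [← hsup] at hy
    induction hy using Subgroup.iSup_induction' with
    | hp l y hy => exact h1 x hx l y hy
    | h1 => exact Commute.one_right _
    | hmul y z _ _ e1 e2 => exact e1.mul_right e2
  have hsimple : ∀ i : X, IsSimpleGroup i.1 := by
    intro i
    have : Nontrivial i.1 := (nontrivial_iff_ne_bot _).2 (hP i).2.1
    refine ⟨fun S hS => ?_⟩
    rcases eq_or_ne S ⊥ with h | h
    · exact Or.inl h
    right
    have hnorm : ∀ x ∈ N, ∀ t ∈ S.map i.1.subtype, x * t * x⁻¹ ∈ S.map i.1.subtype := by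
      intro x hx
      rw [← hsup] at hx
      induction hx using Subgroup.iSup_induction' with
      | hp j x hx =>
        rintro _ ⟨s, hs, rfl⟩
        rcases eq_or_ne j i with rfl | hji
        · exact ⟨⟨x, hx⟩ * s * ⟨x, hx⟩⁻¹, hS.conj_mem s hs _, by simp⟩
        · refine ⟨s, hs, ?_⟩
          show (s : G) = x * s * x⁻¹
          rw [(hcomm j i hji x hx s s.2).eq, mul_inv_cancel_right]
      | h1 => simp
      | hmul x z _ _ e1 e2 =>
        intro t ht
        have := e1 _ (e2 t ht)
        simpa [mul_assoc] using this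
    have hle : S.map i.1.subtype ≤ i.1 := map_subtype_le S
    have hS' : S.map i.1.subtype ≠ ⊥ := by
      rwa [Ne, map_eq_bot_iff_of_injective _ (subtype_injective _)]
    have h2 := hPmin i _ ⟨hle.trans (hP i).1, hS', hnorm⟩ hle
    apply map_injective (subtype_injective i.1)
    rw [h2, ← MonoidHom.range_eq_map, range_subtype]
  have hTC : ∀ (i : X) (t : G), t ∈ i.1 → t ∈ centralizer (i.1 : Set G) → t = 1 := by
    intro i t ht htc
    have := hsimple i
    have htz : (⟨t, ht⟩ : i.1) ∈ center i.1 :=
      mem_center_iff.2 fun y => Subtype.ext (mem_centralizer_iff.1 htc y y.2)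
    rcases (inferInstance : (center i.1).Normal).eq_bot_or_eq_top with h | h
    · rw [h, mem_bot] at htz; exact congrArg Subtype.val htz
    · refine absurd (fun x hx y hy => ?_) (hTnc i)
      exact (congrArg Subtype.val ((mem_center_iff.1 (h ▸ mem_top (⟨x, hx⟩ : i.1))) ⟨y, hy⟩)).symm
  have hNfix : ∀ (i : X), ∀ x ∈ N, x • i = i := by
    intro i x hx
    refine Subtype.ext (le_antisymm (fun y hy => ?_) fun y hy => ?_)
    · rw [smul_conjs_val, mem_cj] at hy
      have := (hP i).2.2 x hx _ hy
      simpa [mul_assoc] using this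
    · rw [smul_conjs_val, mem_cj]
      have := (hP i).2.2 x⁻¹ (inv_mem hx) _ hy
      simpa [mul_assoc] using this
  -- projections
  have hproj : ∀ (i : X) (x : N), ∃ t : i.1, (t : G)⁻¹ * x ∈ centralizer (i.1 : Set G) := by
    intro i x
    have hx : (x : G) ∈ ⨆ j : X, j.1 := hsup.symm ▸ x.2
    generalize (x : G) = y at hx
    induction hx using Subgroup.iSup_induction' with
    | hp j y hy =>
      rcases eq_or_ne j i with rfl | hji
      · exact ⟨⟨y, hy⟩, by simp⟩
      · exact ⟨1, mem_centralizer_iff.2 fun z hz => by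
          simpa using ((hcomm j i hji y hy z hz).symm).eq⟩
    | h1 => exact ⟨1, by simp⟩
    | hmul y z _ _ e1 e2 =>
      obtain ⟨t, ht⟩ := e1
      obtain ⟨s, hs⟩ := e2
      refine ⟨t * s, ?_⟩
      have key : ((t * s : i.1) : G)⁻¹ * (y * z) = ((t : G)⁻¹ * y) * ((s : G)⁻¹ * z) := by
        have h : ((t : G)⁻¹ * y) * (s : G)⁻¹ = (s : G)⁻¹ * ((t : G)⁻¹ * y) :=
          (mem_centralizer_iff.1 ht _ (inv_mem s.2)).symm
        calc ((t * s : i.1) : G)⁻¹ * (y * z) = ((s : G)⁻¹ * ((t : G)⁻¹ * y)) * z := by
              simp [mul_assoc]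
          _ = _ := by rw [← h]; simp [mul_assoc]
      rw [key]
      exact mul_mem ht hs
  choose pr hpr using hproj
  have huniq : ∀ (i : X) (x : N) (t : i.1), (t : G)⁻¹ * x ∈ centralizer (i.1 : Set G) → pr i x = t := by
    intro i x t ht
    have h1 : (pr i x : G)⁻¹ * t ∈ centralizer (i.1 : Set G) := by
      have := mul_mem (hpr i x) (inv_mem ht)
      simpa [mul_assoc] using this
    exact Subtype.ext (inv_mul_eq_one.1 (hTC i _ (mul_mem (inv_mem (pr i x).2) t.2) h1))
  have hprmul : ∀ (i : X) (x y : N), pr i (x * y) = pr i x * pr i y := by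
    intro i x y
    refine huniq i _ _ ?_
    have h : ((pr i x : G)⁻¹ * x) * (pr i y : G)⁻¹ = (pr i y : G)⁻¹ * ((pr i x : G)⁻¹ * x) :=
      (mem_centralizer_iff.1 (hpr i x) _ (inv_mem (pr i y).2)).symm
    have key : ((pr i x * pr i y : i.1) : G)⁻¹ * ((x * y : N) : G) =
        ((pr i x : G)⁻¹ * x) * ((pr i y : G)⁻¹ * y) := by
      calc ((pr i x * pr i y : i.1) : G)⁻¹ * ((x * y : N) : G)
          = ((pr i y : G)⁻¹ * ((pr i x : G)⁻¹ * x)) * y := by simp [mul_assoc]
        _ = _ := by rw [← h]; simp [mul_assoc]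
    rw [key]
    exact mul_mem (hpr i x) (hpr i y)
  let π : ∀ i : X, N →* i.1 := fun i => MonoidHom.mk' (pr i) (hprmul i)
  have hπT : ∀ (i : X) (t : G) (ht : t ∈ i.1), π i ⟨t, (hP i).1 ht⟩ = ⟨t, ht⟩ :=
    fun i t ht => huniq i _ _ (by simp)
  have hπ0 : ∀ (i j : X), j ≠ i → ∀ (t : G) (ht : t ∈ j.1), π i ⟨t, (hP j).1 ht⟩ = 1 :=
    fun i j hji t ht => huniq i _ _ (mem_centralizer_iff.2 fun z hz => by
      simpa using ((hcomm j i hji t ht z hz).symm).eq)
  have hequiv : ∀ (g : G) (i : X) (x : N),
      ((π (g • i) ⟨g * x * g⁻¹, hN.conj_mem x x.2 g⟩ : (g • i).1) : G) = g * (π i x : G) * g⁻¹ := by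
    intro g i x
    have hmem : g * (π i x : G) * g⁻¹ ∈ (g • i).1 := by
      rw [smul_conjs_val, mem_cj]
      have : g⁻¹ * (g * (π i x : G) * g⁻¹) * g = (π i x : G) := by simp [mul_assoc]
      rw [this]; exact (π i x).2
    refine congrArg Subtype.val (huniq (g • i) _ ⟨_, hmem⟩ (mem_centralizer_iff.2 fun z hz => ?_))
    rw [smul_conjs_val, SetLike.mem_coe, mem_cj] at hz
    have := mem_centralizer_iff.1 (hpr i x) _ hz
    have h2 := congrArg (fun w => g * w * g⁻¹) this
    simpa [mul_assoc, π] using h2
  have hπinj : Function.Injective (MonoidHom.pi π) := by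
    rw [injective_iff_map_eq_one]
    intro x hx
    have hc : (x : G) ∈ centralizer (N : Set G) := by
      refine mem_centralizer_iff.2 fun y hy => ?_
      rw [SetLike.mem_coe, ← hsup] at hy
      induction hy using Subgroup.iSup_induction' with
      | hp j y hy =>
        have h1 := hpr j x
        have h2 : π j x = 1 := congrFun hx j
        rw [show pr j x = π j x from rfl, h2] at h1
        exact mem_centralizer_iff.1 (by simpa using h1) y hy
      | h1 => simp
      | hmul y z _ _ e1 e2 => exact (Commute.mul_left e1 e2).eq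
    by_contra hx1
    have hbot : N ⊓ centralizer (N : Set G) = N :=
      hmin _ (Subgroup.normal_inf_normal _ _) inf_le_left fun h =>
        hx1 (Subtype.ext (mem_bot.1 (h ▸ (⟨x.2, hc⟩ : (x : G) ∈ N ⊓ centralizer (N : Set G)))))
    exact hna fun u hu v hv => ((mem_centralizer_iff.1 (inf_eq_left.1 hbot hu)) v hv).symm
  have hπsurj : Function.Surjective (MonoidHom.pi π) := by
    rw [← MonoidHom.range_eq_top, eq_top_iff, ← Subgroup.pi_top (Set.univ : Set X)]
    refine Subgroup.pi_le_iff.2 fun i => ?_
    rintro _ ⟨t, -, rfl⟩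
    refine ⟨⟨(t : G), (hP i).1 t.2⟩, funext fun j => ?_⟩
    rcases eq_or_ne j i with rfl | hji
    · simpa using hπT j t t.2
    · simpa [Pi.mulSingle_eq_of_ne hji] using hπ0 j i (Ne.symm hji) t t.2
  have hπs : ∀ i, Function.Surjective (π i) := fun i t => ⟨_, hπT i t t.2⟩
  have hCN : CLe N (3 * Nat.card X) := by
    have hr : ∀ i : X, CLe (π i).range 3 := fun i => by
      have := hsimple i
      exact (cle_simple (G := i.1)).equiv ((MulEquiv.subgroupCongr
        (MonoidHom.range_eq_top.2 (hπs i))).trans Subgroup.topEquiv).symm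
    have h0 : CLe (MonoidHom.pi π).ker 0 := by
      rw [(MonoidHom.ker_eq_bot_iff _).2 hπinj]; exact cle_subsingleton _
    have h := cle_jointly π (fun _ => 3) hr h0
    rw [Finset.sum_const, Finset.card_univ, ← Nat.card_eq_fintype_card] at h
    simpa [mul_comm] using h
  have hNc : Nat.card N = ∏ i : X, Nat.card i.1 := by
    rw [Nat.card_eq_of_bijective _ ⟨hπinj, hπsurj⟩, Nat.card_pi]
  -- the stabiliser
  set A := MulAction.stabilizer G a with hA
  have hNA : ∀ g : G, ∃ x ∈ N, x⁻¹ * g ∈ A := by
    intro g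
    obtain ⟨x, hx⟩ := MulAction.exists_smul_eq N a (g • a)
    refine ⟨x, x.2, ?_⟩
    rw [MulAction.mem_stabilizer_iff, mul_smul, inv_smul_eq_iff]
    exact hx.symm
  have hAtrans : ∀ i j : X, ∃ h ∈ A, h • i = j := by
    intro i j
    obtain ⟨g, rfl⟩ := MulAction.exists_smul_eq G i j
    obtain ⟨x, hx, hxA⟩ := hNA g
    exact ⟨_, hxA, by rw [mul_smul, hNfix _ _ (inv_mem hx)]⟩
  set Na := A.subgroupOf N with hNa
  have horb : Nat.card Ω * Nat.card Na = Nat.card N := by
    rw [← card_mul_index Na, mul_comm]
    congr 1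
    rw [← MulAction.index_stabilizer_of_transitive N a]
    rfl
  let R : ∀ i : X, Subgroup i.1 := fun i => Na.map (π i)
  have hRmove : ∀ h ∈ A, ∀ (i : X) (t : i.1), t ∈ R i →
      ∃ t' : (h • i).1, t' ∈ R (h • i) ∧ (t' : G) = h * (t : G) * h⁻¹ := by
    rintro h hh i _ ⟨u, hu, rfl⟩
    refine ⟨π (h • i) ⟨h * (u : G) * h⁻¹, hN.conj_mem u u.2 h⟩, ⟨_, ?_, rfl⟩, hequiv h i u⟩
    exact A.mul_mem (A.mul_mem hh hu) (A.inv_mem hh)
  have hRbot : ∀ i j : X, R i = ⊥ → R j = ⊥ := by
    intro i j hi
    obtain ⟨h, hh, rfl⟩ := hAtrans j i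
    rw [eq_bot_iff_forall]
    intro t ht
    obtain ⟨t', ht', he⟩ := hRmove h hh j t ht
    rw [hi, mem_bot] at ht'
    rw [ht'] at he
    refine Subtype.ext ?_
    have h1 : (t : G) = h⁻¹ * (h * (t : G) * h⁻¹) * h := by simp [mul_assoc]
    rw [h1, ← he]
    simp
  have hRtop : ∀ i j : X, R i = ⊤ → R j = ⊤ := by
    intro i j hi
    obtain ⟨h, hh, rfl⟩ := hAtrans i j
    rw [eq_top_iff]
    intro t _
    have hmem : h⁻¹ * (t : G) * h ∈ i.1 := mem_cj.1 t.2
    obtain ⟨t', ht', he⟩ := hRmove h hh i ⟨_, hmem⟩ (hi ▸ mem_top _)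
    have : t' = t := Subtype.ext (by rw [he]; simp [mul_assoc])
    exact this ▸ ht'
  have hNa_of : (∀ i, R i = ⊥) → Na = ⊥ := by
    intro h
    rw [eq_bot_iff_forall]
    intro u hu
    exact hπinj ((funext fun i => mem_bot.1 (h i ▸ mem_map_of_mem (π i) hu)).trans (map_one (MonoidHom.pi π)).symm)
  set C := centralizer (N : Set G) with hC
  have hCcomm : ∀ c ∈ C, ∀ x ∈ N, Commute c x := fun c hc x hx =>
    ((mem_centralizer_iff.1 hc) x hx).symm
  -- a point is moved
  have hn2 : 2 ≤ Nat.card Ω := by
    by_contra h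
    have hs : Subsingleton Ω := Finite.card_le_one_iff_subsingleton.1 (by omega)
    exact hne ((eq_bot_iff_forall N).2 fun x _ =>
      FaithfulSMul.eq_of_smul_eq_smul fun w : Ω => Subsingleton.elim _ _)
  have hk0 : 0 < Nat.card X := Nat.card_pos_iff.2 ⟨⟨⟨T₀, 1, cj_one T₀⟩⟩, inferInstance⟩
  by_cases hspec : Nat.card X = 1 ∧ C = ⊥
  · -- simple socle with trivial centraliser
    have hq2 : CLe (G ⧸ N) (4 * (Nat.card Ω - 2)) := by
      refine (cle_stabilizer IH a hn2).of_surjective
        (f := (QuotientGroup.mk' N).comp A.subtype) ?_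
      intro q
      obtain ⟨g, rfl⟩ := QuotientGroup.mk'_surjective N q
      obtain ⟨x, hx, hxA⟩ := hNA g
      refine ⟨⟨_, hxA⟩, ?_⟩
      show QuotientGroup.mk' N (x⁻¹ * g) = QuotientGroup.mk' N g
      rw [map_mul, (QuotientGroup.eq_one_iff (N := N) _).2 (inv_mem hx) |> (fun h => show QuotientGroup.mk' N x⁻¹ = 1 from h), one_mul]
    have h3 : CLe (QuotientGroup.mk' N).ker 3 := by
      rw [hspec.1, mul_one] at hCN
      exact hCN.equiv (MulEquiv.subgroupCongr (QuotientGroup.ker_mk' N).symm)
    have hr : CLe (QuotientGroup.mk' N).range (4 * (Nat.card Ω - 2)) :=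
      hq2.equiv ((MulEquiv.subgroupCongr
        (MonoidHom.range_eq_top.2 (QuotientGroup.mk'_surjective N))).trans Subgroup.topEquiv).symm
    exact (CLe.of_ker_range _ h3 hr).mono (by omega)
  -- choice of point stabilisers in the normalisers
  have hSN : ∀ i : X, N ≤ normalizer (i.1 : Set G) := fun i x hx => by
    refine mem_normalizer_iff.2 fun t => ⟨fun ht => (hP i).2.2 x hx t ht, fun ht => ?_⟩
    have := (hP i).2.2 x⁻¹ (inv_mem hx) _ ht
    simpa [mul_assoc] using this
  have main : ∀ (m : X → ℕ) (c : ℕ),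
      (∀ i, ∃ M : Subgroup (normalizer (i.1 : Set G)),
        ¬ i.1.subgroupOf (normalizer (i.1 : Set G)) ≤ M ∧ M.index ≤ m i) →
      (∀ i, m i < Nat.card Ω) → Nat.card X < Nat.card Ω → CLe C c →
      CLe G (4 * (Nat.card X - 1) + ((∑ i, 4 * (m i - 1)) + c)) := by
    intro m c hM hm hk hc
    choose M hMT hMidx using hM
    set K := (MulAction.toPermHom G X).ker with hK
    have hKS : ∀ i : X, K ≤ normalizer (i.1 : Set G) := by
      intro i x hx
      have h1 : ∀ y ∈ K, cj y i.1 = i.1 := fun y hy =>
        congrArg Subtype.val (congrArg (fun f : Equiv.Perm X => f i) (MonoidHom.mem_ker.1 hy) : y • i = i)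
      refine mem_normalizer_iff.2 fun t => ⟨fun ht => ?_, fun ht => ?_⟩
      · rw [← h1 x hx, mem_cj]
        simpa [mul_assoc] using ht
      · rw [← h1 x hx, mem_cj] at ht
        simpa [mul_assoc] using ht
    let φ : ∀ i : X, K →* Equiv.Perm (normalizer (i.1 : Set G) ⧸ M i) := fun i =>
      (MulAction.toPermHom _ _).comp (inclusion (hKS i))
    have hr : ∀ i, CLe (φ i).range (4 * (m i - 1)) := by
      intro i
      refine cle_range_comp _ _ ?_ ((cle_range_of_good (IH _ ?_)).mono ?_)
      · rw [inclusion_range]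
        exact (MonoidHom.normal_ker (MulAction.toPermHom G X)).subgroupOf _
      · rw [← index_eq_card]; exact lt_of_le_of_lt (hMidx i) (hm i)
      · rw [← index_eq_card]; have := hMidx i; omega
    have hkerC : ∀ x : K, x ∈ (MonoidHom.pi φ).ker → (x : G) ∈ C := by
      intro x hx
      refine mem_centralizer_iff.2 fun y hy => ?_
      rw [SetLike.mem_coe, ← hsup] at hy
      induction hy using Subgroup.iSup_induction' with
      | hp j y hy =>
        have := hsimple j
        have hTsimple : IsSimpleGroup (j.1.subgroupOf (normalizer (j.1 : Set G))) :=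
          (subgroupOfEquivOfLe le_normalizer).isSimpleGroup
        have h1 : inclusion (hKS j) x ∈ (M j).normalCore := by
          rw [normalCore_eq_ker]
          exact congrFun (MonoidHom.mem_ker.1 hx) j
        have h2 := mem_centralizer_iff.1
          (core_le_centralizer (j.1.subgroupOf (normalizer (j.1 : Set G))) (hMT j) h1)
          ⟨y, le_normalizer hy⟩ hy
        exact congrArg Subtype.val h2
      | h1 => simp
      | hmul y z _ _ e1 e2 => exact (Commute.mul_left e1 e2).eq
    have hCK : C ≤ K := by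
      intro x hx
      refine MonoidHom.mem_ker.2 (Equiv.ext fun i => Subtype.ext ?_)
      show cj x i.1 = i.1
      ext y
      rw [mem_cj]
      constructor
      · intro hy
        have h := hCcomm x hx _ ((hP i).1 hy)
        have : y = x⁻¹ * y * x := by
          calc y = x * (x⁻¹ * y * x) * x⁻¹ := by simp [mul_assoc]
            _ = _ := by rw [h.eq, mul_inv_cancel_right]
        rwa [this]
      · intro hy
        rw [mul_assoc, ← (hCcomm x hx _ ((hP i).1 hy)).eq, inv_mul_cancel_left]
        exact hy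
    have hker : CLe (MonoidHom.pi φ).ker c := by
      refine CLe.of_injective_normal_range
        (f := MonoidHom.mk' (fun x : (MonoidHom.pi φ).ker => (⟨((x : K) : G), hkerC x x.2⟩ : C)) fun _ _ => rfl)
        (fun x y h => Subtype.ext (Subtype.ext (congrArg (fun z : C => (z : G)) h))) ?_ hc
      refine ⟨fun z hz w => ?_⟩
      obtain ⟨x, rfl⟩ := hz
      exact ⟨⟨⟨(w : G), hCK w.2⟩ * (x : K) * ⟨(w : G), hCK w.2⟩⁻¹,
        (MonoidHom.normal_ker _).conj_mem _ x.2 _⟩, rfl⟩
    have hKc : CLe K (c + ∑ i, 4 * (m i - 1)) := cle_jointly φ _ hr hker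
    refine (CLe.of_ker_range (MulAction.toPermHom G X) hKc (cle_range_of_good (IH _ hk))).mono ?_
    omega
  have hfour : ∀ i : X, 4 ≤ Nat.card i.1 := by
    intro i
    have := hsimple i
    have hs : IsSimpleGroup (⊤ : Subgroup i.1) :=
      Subgroup.topEquiv.isSimpleGroup
    rw [← card_top (G := i.1)]
    refine four_le_card (⊤ : Subgroup i.1) fun h => hTnc i fun x hx y hy => ?_
    exact congrArg (fun z : (⊤ : Subgroup i.1) => ((z : i.1) : G))
      (h.is_comm.comm ⟨⟨x, hx⟩, mem_top _⟩ ⟨⟨y, hy⟩, mem_top _⟩)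
  have hhalf : ∀ i : X, ∃ M : Subgroup (normalizer (i.1 : Set G)),
      ¬ i.1.subgroupOf (normalizer (i.1 : Set G)) ≤ M ∧ M.index ≤ Nat.card i.1 / 2 := by
    intro i
    have := hsimple i
    have hTsimple : IsSimpleGroup (i.1.subgroupOf (normalizer (i.1 : Set G))) :=
      (subgroupOfEquivOfLe le_normalizer).isSimpleGroup
    have hnT : ¬ IsMulCommutative (i.1.subgroupOf (normalizer (i.1 : Set G))) := fun h =>
      hTnc i fun x hx y hy =>
        congrArg (fun z : i.1.subgroupOf (normalizer (i.1 : Set G)) => ((z : normalizer (i.1 : Set G)) : G))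
          (h.is_comm.comm ⟨⟨x, le_normalizer hx⟩, hx⟩ ⟨⟨y, le_normalizer hy⟩, hy⟩)
    obtain ⟨M, hM, hidx⟩ := exists_half_index _ hnT
    refine ⟨M, hM, ?_⟩
    rw [Nat.card_congr (subgroupOfEquivOfLe le_normalizer).toEquiv] at hidx
    omega
  rcases eq_or_ne Na ⊥ with hNab | hNab
  · -- regular
    have hnN : Nat.card Ω = Nat.card N := by rw [← horb, hNab, card_bot, mul_one]
    have hsum : ∑ i : X, (Nat.card i.1 / 2 + 1) ≤ Nat.card Ω := by
      rw [hnN, hNc]
      refine le_trans ?_ (sum_le_prod _ _ fun i _ => le_trans (by norm_num) (hfour i))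
      exact Finset.sum_le_sum fun i _ => by have := hfour i; omega
    have hkn : Nat.card X < Nat.card Ω := by
      refine lt_of_lt_of_le ?_ hsum
      rw [Nat.card_eq_fintype_card, Fintype.card_eq_sum_ones]
      have hne' : (Finset.univ : Finset X).Nonempty := ⟨⟨T₀, 1, cj_one T₀⟩, Finset.mem_univ _⟩
      exact Finset.sum_lt_sum_of_nonempty hne' fun i _ => by have := hfour i; omega
    have hm : ∀ i : X, Nat.card i.1 / 2 < Nat.card Ω := fun i => by
      have := Finset.single_le_sum (f := fun i : X => Nat.card i.1 / 2 + 1) (fun _ _ => Nat.zero_le _)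
        (Finset.mem_univ i)
      omega
    have hcC : CLe C (3 * Nat.card X) := by
      rcases eq_or_ne C ⊥ with h | h
      · rw [h]; exact cle_subsingleton _
      · have hCt := hq C inferInstance h
        have hreg : ∀ x : N, (x : G) • a = a → x = 1 := fun x hx => by
          have : x ∈ Na := hx
          rwa [hNab, mem_bot] at this
        have hex : ∀ c : C, ∃ x : N, (x : G) • a = ((c : G))⁻¹ • a := fun c =>
          MulAction.exists_smul_eq N a _
        choose f hf using hex
        have hfu : ∀ (c : C) (x : N), (x : G) • a = ((c : G))⁻¹ • a → f c = x := fun c x hx => by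
          have h1 : ((x⁻¹ * f c : N) : G) • a = a := by
            simp only [Subgroup.coe_mul, Subgroup.coe_inv, mul_smul, hf, ← hx, inv_smul_smul]
          exact (inv_mul_eq_one.1 (hreg _ h1)).symm
        let F : C →* N := MonoidHom.mk' f fun c d => hfu _ _ (by
          simp only [Subgroup.coe_mul, mul_inv_rev, mul_smul, hf]
          rw [smul_smul, smul_smul, (hCcomm _ (inv_mem d.2) _ (f c).2).symm.eq, ← smul_smul, hf,
            smul_smul])
        have hFb : Function.Bijective F := by
          refine ⟨(injective_iff_map_eq_one F).2 fun c hc => ?_, fun x => ?_⟩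
          · have h1 : ((c : G))⁻¹ • a = a := by rw [← hf c, show f c = 1 from hc]; simp
            have h2 : (c : G) • a = a := by rw [← inv_smul_eq_iff.1 h1]
            refine Subtype.ext (FaithfulSMul.eq_of_smul_eq_smul fun w : Ω => ?_)
            obtain ⟨x, rfl⟩ := MulAction.exists_smul_eq N a w
            show (c : G) • (x : G) • a = (1 : G) • ((x : G) • a)
            rw [smul_smul, (hCcomm c c.2 x x.2).eq, ← smul_smul, h2, one_smul]
          · obtain ⟨c, hc⟩ := MulAction.exists_smul_eq C a ((x : G) • a)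
            exact ⟨c⁻¹, hfu _ _ (by rw [Subgroup.coe_inv, inv_inv]; exact hc.symm)⟩
        exact hCN.equiv (MulEquiv.ofBijective F hFb).symm
    refine (main (fun i => Nat.card i.1 / 2) (3 * Nat.card X) hhalf hm hkn hcC).mono ?_
    have h1 : ∑ i : X, 4 * (Nat.card i.1 / 2 - 1) + 4 * Nat.card X + 4 * Nat.card X
        = 4 * ∑ i : X, (Nat.card i.1 / 2 + 1) := by
      rw [Nat.card_eq_fintype_card, Fintype.card_eq_sum_ones, Finset.mul_sum, ← Finset.sum_add_distrib,
        ← Finset.sum_add_distrib, Finset.mul_sum]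
      exact Finset.sum_congr rfl fun i _ => by have := hfour i; omega
    omega
  · -- trivial centraliser and at least two factors
    have hCbot : C = ⊥ := by
      by_contra h
      have hCt := hq C inferInstance h
      refine hNab ((eq_bot_iff_forall _).2 fun x hx => Subtype.ext
        (FaithfulSMul.eq_of_smul_eq_smul fun w : Ω => ?_))
      obtain ⟨c, rfl⟩ := MulAction.exists_smul_eq C a w
      show (x : G) • (c : G) • a = (1 : G) • ((c : G) • a)
      rw [smul_smul, ← (hCcomm c c.2 x x.2).eq, ← smul_smul,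
        MulAction.mem_stabilizer_iff.1 (show (x : G) ∈ A from hx), one_smul]
    have hk2 : 2 ≤ Nat.card X := by
      rcases Nat.lt_or_ge (Nat.card X) 2 with h | h
      · exact absurd ⟨by omega, hCbot⟩ hspec
      · exact h
    have hc0 : CLe C 0 := by rw [hCbot]; exact cle_subsingleton _
    have i₀ : X := ⟨T₀, 1, cj_one T₀⟩
    have hRne : ∀ i, R i ≠ ⊥ := fun i h => hNab (hNa_of fun j => hRbot i j h)
    have finish : ∀ m : X → ℕ, (∀ i, ∃ M : Subgroup (normalizer (i.1 : Set G)),
        ¬ i.1.subgroupOf (normalizer (i.1 : Set G)) ≤ M ∧ M.index ≤ m i) →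
        (∀ i, 2 ≤ m i) → ∑ i, m i ≤ Nat.card Ω → CLe G (4 * (Nat.card Ω - 1)) := by
      intro m hM hm2 hsum
      have hone : ∀ i, m i < Nat.card Ω := by
        intro i
        have : Nontrivial X := Finite.one_lt_card_iff_nontrivial.1 (by omega)
        obtain ⟨j, hj⟩ := exists_ne i
        refine lt_of_lt_of_le ?_ hsum
        exact Finset.single_lt_sum hj (Finset.mem_univ i) (Finset.mem_univ j)
          (by have := hm2 j; omega) (fun _ _ _ => Nat.zero_le _)
      have h2k : 2 * Nat.card X ≤ ∑ i, m i := by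
        rw [Nat.card_eq_fintype_card, Fintype.card_eq_sum_ones, Finset.mul_sum]
        exact Finset.sum_le_sum fun i _ => by have := hm2 i; omega
      refine (main m 0 hM hone (by omega) hc0).mono ?_
      have h1 : ∑ i, 4 * (m i - 1) + 4 * Nat.card X = 4 * ∑ i, m i := by
        rw [Nat.card_eq_fintype_card, Fintype.card_eq_sum_ones, Finset.mul_sum, ← Finset.sum_add_distrib,
          Finset.mul_sum]
        exact Finset.sum_congr rfl fun i _ => by have := hm2 i; omega
      omega
    by_cases hfull : ∀ i, R i = ⊤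
    · -- subdirect case
      let κ : X → Subgroup Na := fun i => ((π i).comp Na.subtype).ker
      have hsurj : ∀ i, Function.Surjective ((π i).comp Na.subtype) := fun i t => by
        obtain ⟨u, hu, rfl⟩ : t ∈ R i := (hfull i) ▸ mem_top t
        exact ⟨⟨u, hu⟩, rfl⟩
      have hκn : ∀ i, (κ i).Normal := fun i => MonoidHom.normal_ker _
      have himg : ∀ (i : X) (L : Subgroup Na), L.Normal →
          L.map ((π i).comp Na.subtype) = ⊥ ∨ L.map ((π i).comp Na.subtype) = ⊤ := fun i L hL =>
        have := hsimple i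
        (hL.map _ (hsurj i)).eq_bot_or_eq_top
      have hle_of : ∀ (i : X) (L : Subgroup Na), L.map ((π i).comp Na.subtype) = ⊥ → L ≤ κ i :=
        fun i L h x hx => mem_bot.1 (h ▸ mem_map_of_mem _ hx)
      have hpair : ∀ i, ∃ j, j ≠ i ∧ κ j = κ i := by
        intro i
        by_contra hcon
        push_neg at hcon
        have htop : ∀ j, j ≠ i → (κ j).map ((π i).comp Na.subtype) = ⊤ := by
          intro j hj
          refine (himg i _ (hκn j)).resolve_left fun h => ?_
          have hji := hle_of i _ h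
          rcases himg j _ (hκn i) with h2 | h2
          · exact hcon j hj (le_antisymm hji (hle_of j _ h2))
          · have hk : ∀ x : Na, x ∈ κ i := fun x => by
              obtain ⟨y, hy, hyx⟩ : ((π j).comp Na.subtype) x ∈ (κ i).map ((π j).comp Na.subtype) :=
                h2 ▸ mem_top _
              have h3 : y⁻¹ * x ∈ κ j := by
                rw [MonoidHom.mem_ker, map_mul, map_inv, hyx, inv_mul_cancel]
              simpa using mul_mem hy (hji h3)
            have := hsimple i
            obtain ⟨t, ht⟩ := exists_ne (1 : i.1)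
            obtain ⟨x, hx⟩ := hsurj i t
            exact ht (hx.symm.trans (hk x))
        have hall : ∀ s : Finset X, i ∉ s →
            (⨅ j ∈ s, κ j).map ((π i).comp Na.subtype) = ⊤ := by
          intro s
          induction s using Finset.induction_on with
          | empty =>
            intro _
            simpa using map_top_of_surjective _ (hsurj i)
          | insert j s _ ih =>
            intro hi
            rw [Finset.mem_insert, not_or] at hi
            have h1 := ih hi.2
            rw [Finset.iInf_insert]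
            have hn : (κ j ⊓ ⨅ l ∈ s, κ l).Normal :=
              have : (⨅ l ∈ s, κ l).Normal := normal_iInf_normal fun l => normal_iInf_normal fun _ => hκn l
              have := hκn j
              Subgroup.normal_inf_normal _ _
            refine (himg i _ hn).resolve_left fun h => hTnc i fun x hx y hy => ?_
            obtain ⟨u, hu, hux⟩ : (⟨x, hx⟩ : i.1) ∈ (⨅ l ∈ s, κ l).map ((π i).comp Na.subtype) :=
              h1 ▸ mem_top _
            obtain ⟨v, hv, hvy⟩ : (⟨y, hy⟩ : i.1) ∈ (κ j).map ((π i).comp Na.subtype) :=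
              htop j (Ne.symm hi.1) ▸ mem_top _
            have hmem : u * v * u⁻¹ * v⁻¹ ∈ κ j ⊓ ⨅ l ∈ s, κ l := by
              refine ⟨(κ j).mul_mem ((hκn j).conj_mem v hv u) ((κ j).inv_mem hv), ?_⟩
              have hn' : (⨅ l ∈ s, κ l).Normal := normal_iInf_normal fun l => normal_iInf_normal fun _ => hκn l
              have := Subgroup.mul_mem _ hu (hn'.conj_mem u⁻¹ (Subgroup.inv_mem _ hu) v)
              simpa [mul_assoc] using this
            have h3 : ((π i).comp Na.subtype) (u * v * u⁻¹ * v⁻¹) = 1 :=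
              mem_bot.1 (h ▸ mem_map_of_mem _ hmem)
            rw [map_mul, map_mul, map_mul, map_inv, map_inv, hux, hvy,
              mul_inv_eq_one, mul_inv_eq_iff_eq_mul] at h3
            exact congrArg Subtype.val h3
        have hTA : i.1 ≤ A := by
          intro t ht
          obtain ⟨u, hu, hut⟩ : (⟨t, ht⟩ : i.1) ∈
              (⨅ j ∈ Finset.univ.erase i, κ j).map ((π i).comp Na.subtype) :=
            hall _ (Finset.notMem_erase i _) ▸ mem_top _
          simp only [SetLike.mem_coe, mem_iInf] at hu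
          have hu2 : (u : N) = ⟨t, (hP i).1 ht⟩ := hπinj (funext fun j => by
            rcases eq_or_ne j i with rfl | hj
            · exact hut.trans (hπT j t ht).symm
            · exact (hu j (Finset.mem_erase.2 ⟨hj, Finset.mem_univ _⟩)).trans
                (hπ0 j i (Ne.symm hj) t ht).symm)
          have := u.2
          rw [hu2] at this
          exact this
        have hNle : N ≤ A := by
          rw [← hsup]
          refine iSup_le fun j => ?_
          obtain ⟨h, hh, rfl⟩ := hAtrans i j
          intro x hx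
          have := A.mul_mem (A.mul_mem hh (hTA (mem_cj.1 hx))) (A.inv_mem hh)
          simpa [mul_assoc] using this
        have : Nat.card Ω ≤ 1 := Finite.card_le_one_iff_subsingleton.2 ⟨fun x y => by
          obtain ⟨u, rfl⟩ := MulAction.exists_smul_eq N a x
          obtain ⟨v, rfl⟩ := MulAction.exists_smul_eq N a y
          show (u : G) • a = (v : G) • a
          rw [MulAction.mem_stabilizer_iff.1 (hNle u.2), MulAction.mem_stabilizer_iff.1 (hNle v.2)]⟩
        omega
      -- representatives
      have : Nonempty X := ⟨i₀⟩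
      let rep : X → X := fun i => Function.invFun κ (κ i)
      have hrep : ∀ i, κ (rep i) = κ i := fun i => Function.invFun_eq ⟨i, rfl⟩
      let s : Finset X := Finset.univ.image rep
      have hcover1 : ∀ i, ∃ j ∈ s, κ j = κ i := fun i =>
        ⟨rep i, Finset.mem_image_of_mem _ (Finset.mem_univ _), hrep i⟩
      have hcover2 : ∀ i, ∃ j ∈ sᶜ, κ j = κ i := by
        intro i
        obtain ⟨j, hj, hje⟩ := hpair (rep i)
        refine ⟨j, ?_, hje.trans (hrep i)⟩
        rw [Finset.mem_compl]
        intro hjs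
        obtain ⟨l, -, rfl⟩ := Finset.mem_image.1 hjs
        refine hj ?_
        show Function.invFun κ (κ l) = Function.invFun κ (κ i)
        rw [← hrep l, hje, hrep i]
      set t₀ := Nat.card i₀.1 with ht₀
      have htc : ∀ i : X, Nat.card i.1 = t₀ := fun i => by
        obtain ⟨g, rfl⟩ := MulAction.exists_smul_eq G i₀ i
        exact card_map_of_injective (MulAut.conj g).injective
      have hbound : ∀ r : Finset X, (∀ i, ∃ j ∈ r, κ j = κ i) → Nat.card Na ≤ t₀ ^ r.card := by
        intro r hr
        have hinj : Function.Injective (fun (u : Na) (j : r) => π j.1 (u : N)) := by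
          intro u v huv
          refine Subtype.ext (hπinj (funext fun i => ?_))
          obtain ⟨j, hj, hje⟩ := hr i
          have h1 : v⁻¹ * u ∈ κ j := by
            rw [MonoidHom.mem_ker]
            simp only [MonoidHom.comp_apply, coe_subtype, Subgroup.coe_mul, Subgroup.coe_inv, map_mul, map_inv]
            rw [show π j (u : N) = π j (v : N) from congrFun huv ⟨j, hj⟩, inv_mul_cancel]
          rw [hje, MonoidHom.mem_ker] at h1
          simp only [MonoidHom.comp_apply, coe_subtype, Subgroup.coe_mul, Subgroup.coe_inv, map_mul, map_inv] at h1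
          exact (inv_mul_eq_one.1 h1).symm
        refine (Nat.card_le_card_of_injective _ hinj).trans ?_
        rw [Nat.card_pi, Finset.prod_congr rfl (fun j _ => htc j.1), Finset.prod_const,
          Finset.card_univ, Fintype.card_coe]
      have h1 := hbound s hcover1
      have h2 := hbound sᶜ hcover2
      have hN' : Nat.card N = t₀ ^ Nat.card X := by
        rw [hNc, Finset.prod_congr rfl (fun i _ => htc i), Finset.prod_const, Finset.card_univ,
          Nat.card_eq_fintype_card]
      have hsq : Nat.card Na * Nat.card Na ≤ Nat.card N := by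
        refine (Nat.mul_le_mul h1 h2).trans ?_
        rw [← pow_add, Finset.card_add_card_compl, hN', Nat.card_eq_fintype_card]
      have hna0 : 0 < Nat.card Na := Nat.card_pos
      have hNan : Nat.card Na ≤ Nat.card Ω := by
        rw [← horb] at hsq
        exact Nat.le_of_mul_le_mul_right hsq hna0
      have hsqn : (Nat.card X * (t₀ / 2)) ^ 2 ≤ Nat.card Ω ^ 2 := by
        refine (sq_half_le (hfour i₀) hk2).trans ?_
        rw [← hN', ← horb, pow_two]
        exact Nat.mul_le_mul_left _ hNan
      refine finish (fun i => Nat.card i.1 / 2) hhalf (fun i => by have := hfour i; omega) ?_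
      rw [Finset.sum_congr rfl (fun i _ => by rw [htc i]), Finset.sum_const, Finset.card_univ,
        ← Nat.card_eq_fintype_card, smul_eq_mul]
      exact (Nat.pow_le_pow_iff_left two_ne_zero).1 hsqn
    · -- all projections proper
      have hRproper : ∀ i, R i ≠ ⊤ := fun i h => hfull fun j => hRtop i j h
      refine finish (fun i => (R i).index) (fun i => ?_) (fun i => ?_) ?_
      · have := hsimple i
        set S := normalizer (i.1 : Set G)
        have hTsimple : IsSimpleGroup (i.1.subgroupOf S) :=
          (subgroupOfEquivOfLe le_normalizer).isSimpleGroup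
        set R' : Subgroup S := ((R i).map i.1.subtype).subgroupOf S with hR'
        have hRS : (R i).map i.1.subtype ≤ S := (map_subtype_le _).trans le_normalizer
        have hR'T : R' ≤ i.1.subgroupOf S := fun x hx => map_subtype_le (R i) hx
        have hcardR : Nat.card R' = Nat.card (R i) := by
          rw [Nat.card_congr (subgroupOfEquivOfLe hRS).toEquiv, card_map_of_injective (subtype_injective _)]
        have hcardT : Nat.card (i.1.subgroupOf S) = Nat.card i.1 :=
          Nat.card_congr (subgroupOfEquivOfLe le_normalizer).toEquiv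
        have hbot : R' ≠ ⊥ := fun h => by
          rw [h, card_bot] at hcardR
          exact hRne i (eq_bot_of_card_eq _ hcardR.symm)
        have htop : R' ≠ i.1.subgroupOf S := fun h => by
          rw [h, hcardT] at hcardR
          exact hRproper i (eq_top_of_card_eq _ hcardR.symm)
        have hnorm : normalizer (R' : Set S) ⊔ i.1.subgroupOf S = ⊤ := by
          rw [eq_top_iff]
          rintro ⟨g, hg⟩ -
          obtain ⟨x, hx, hxA⟩ := hNA g
          set b := x⁻¹ * g with hb
          obtain ⟨t, htC⟩ : ∃ t : i.1, (t : G)⁻¹ * x ∈ centralizer (i.1 : Set G) :=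
            ⟨pr i ⟨x, hx⟩, hpr i ⟨x, hx⟩⟩
          have hbS : b ∈ S := mul_mem (inv_mem (hSN i hx)) hg
          have hbfix : b • i = i := Subtype.ext (by
            ext y
            rw [smul_conjs_val, mem_cj]
            exact ((mem_normalizer_iff''.1 hbS) y).symm)
          have hmoveR : ∀ h ∈ A, h • i = i → ∀ r ∈ (R i).map i.1.subtype,
              h * r * h⁻¹ ∈ (R i).map i.1.subtype := by
            rintro h hh hfix _ ⟨r, hr, rfl⟩
            obtain ⟨t', ht', he⟩ := hRmove h hh i r hr
            revert t'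
            generalize hj : h • i = j
            rw [hfix] at hj
            subst hj
            intro t' ht' he
            exact ⟨t', ht', he⟩
          let s : S := ⟨(t : G)⁻¹ * g, mul_mem (inv_mem (le_normalizer t.2)) hg⟩
          have hs : (⟨g, hg⟩ : S) = ⟨(t : G), le_normalizer t.2⟩ * s := Subtype.ext (by simp [s])
          rw [hs]
          refine mul_mem (mem_sup_right t.2) (mem_sup_left ?_)
          have hfac : (s : G) = ((t : G)⁻¹ * x) * b := by simp [s, hb, mul_assoc]
          have hcfix : ∀ r ∈ (R i).map i.1.subtype, ((t : G)⁻¹ * x) * r = r * ((t : G)⁻¹ * x) :=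
            fun r hr => (mem_centralizer_iff.1 htC r (map_subtype_le _ hr)).symm
          refine mem_normalizer_iff.2 fun r => ?_
          simp only [hR', mem_subgroupOf, Subgroup.coe_mul, Subgroup.coe_inv, hfac]
          constructor
          · intro hr
            have h1 := hmoveR b hxA hbfix _ hr
            have h2 : ((t : G)⁻¹ * x) * b * (r : G) * (((t : G)⁻¹ * x) * b)⁻¹ = b * r * b⁻¹ := by
              calc ((t : G)⁻¹ * x) * b * (r : G) * (((t : G)⁻¹ * x) * b)⁻¹
                  = (((t : G)⁻¹ * x) * (b * r * b⁻¹)) * ((t : G)⁻¹ * x)⁻¹ := by simp [mul_assoc]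
                _ = _ := by rw [hcfix _ h1, mul_inv_cancel_right]
            exact h2.symm ▸ h1
          · intro hr
            set w := ((t : G)⁻¹ * x) * b * (r : G) * (((t : G)⁻¹ * x) * b)⁻¹ with hw
            have h1 := hmoveR b⁻¹ (inv_mem hxA) (by rw [inv_smul_eq_iff, hbfix]) w hr
            have h2 : b⁻¹ * w * b⁻¹⁻¹ = r := by
              have h3 : w = b * r * b⁻¹ := by
                have h4 : ((t : G)⁻¹ * x) * (b * r * b⁻¹) = w * ((t : G)⁻¹ * x) := by
                  simp [hw, mul_assoc]
                rw [← hcfix w hr] at h4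
                exact (mul_left_cancel h4).symm
              rw [h3]; simp [mul_assoc]
            exact h2 ▸ h1
        obtain ⟨M, hM, hidx⟩ := exists_index_of_subgroup (i.1.subgroupOf S) hR'T hbot htop hnorm
        refine ⟨M, hM, ?_⟩
        rw [hcardR, hcardT, ← card_mul_index (R i), mul_comm (Nat.card (R i))] at hidx
        exact Nat.le_of_mul_le_mul_right hidx Nat.card_pos
      · have h1 : (R i).index ≠ 0 := index_ne_zero_of_finite
        have h2 : (R i).index ≠ 1 := fun h => hRproper i (index_eq_one.1 h)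
        omega
      · refine (sum_le_prod _ _ fun i _ => ?_).trans ?_
        · have h1 : (R i).index ≠ 0 := index_ne_zero_of_finite
          have h2 : (R i).index ≠ 1 := fun h => hRproper i (index_eq_one.1 h)
          omega
        · simp only [index_eq_card]
          rw [← Nat.card_pi]
          have hex : ∀ w : Ω, ∃ y : N, y • a = w := fun w => MulAction.exists_smul_eq N a w
          choose y hy using hex
          refine Nat.card_le_card_of_surjective (fun w i => QuotientGroup.mk (π i (y w))) fun q => ?_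
          obtain ⟨x, hx⟩ := hπsurj fun i => (q i).out
          refine ⟨x • a, funext fun i => ?_⟩
          have hxq : π i x = (q i).out := congrFun hx i
          rw [← QuotientGroup.out_eq' (q i), ← hxq]
          refine QuotientGroup.eq.2 ⟨(y (x • a))⁻¹ * x, ?_, by simp⟩
          show (((y (x • a))⁻¹ * x : N) : G) • a = a
          have := hy (x • a)
          rw [Subgroup.coe_mul, Subgroup.coe_inv, mul_smul, inv_smul_eq_iff]
          exact this.symm

end Cfsg.Agent.Classical.CompLength
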