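import Cfsg.Agent.Lib.Classical.RegUnipProductMatrix

/-!
Regular unipotent matrices: recognition from unitriangular ones, and products of two of them.
-/

set_option autoImplicit false

namespace Cfsg.Agent.Classical.RegularBlocks

open Matrix

variable {F : Type*} [Field F] {m : ℕ}

theorem val_mul' (a b : SpecialLinearGroup (Fin m) F) : (a * b).val = a.val * b.val := rfl

theorem val_one' : (1 : SpecialLinearGroup (Fin m) F).val = 1 := rfl

theorem val_toGL' (a : SpecialLinearGroup (Fin m) F) :
    ((SpecialLinearGroup.toGL a : GL (Fin m) F) : Matrix (Fin m) (Fin m) F) = a.val := rfl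

/-- A single unipotent Jordan block, up to similarity. -/
def Reg (A : Matrix (Fin m) (Fin m) F) : Prop := (A - 1) ^ m = 0 ∧ (A - 1) ^ (m - 1) ≠ 0

theorem exists_conj {A B : Matrix (Fin m) (Fin m) F} (hA : Reg A) (hB : Reg B) :
    ∃ P : GL (Fin m) F, P.val * A * (P⁻¹).val = B := by
  obtain ⟨P, hP⟩ := SympRegularUnipotent.exists_similar (Fintype.card_fin m) hA.1 hA.2 hB.1 hB.2
  refine ⟨P, ?_⟩
  rw [mul_sub, sub_mul, mul_one, one_mul] at hP
  rw [sub_left_inj.1 hP, mul_assoc, Units.mul_inv, mul_one]

theorem conj_sub_one_pow (P : GL (Fin m) F) (A : Matrix (Fin m) (Fin m) F) (k : ℕ) :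
    (P.val * A * (P⁻¹).val - 1) ^ k = P.val * (A - 1) ^ k * (P⁻¹).val := by
  rw [← Units.conj_pow P (A - 1) k, mul_sub, sub_mul, mul_one, Units.mul_inv]

theorem Reg.conj {A : Matrix (Fin m) (Fin m) F} (hA : Reg A) (P : GL (Fin m) F) :
    Reg (P.val * A * (P⁻¹).val) := by
  refine ⟨by rw [conj_sub_one_pow, hA.1, mul_zero, zero_mul], fun h => hA.2 ?_⟩
  rw [conj_sub_one_pow] at h
  have := congrArg (fun X => (P⁻¹).val * X * P.val) h
  simpa [mul_assoc] using this

theorem Reg.inv {A B : Matrix (Fin m) (Fin m) F} (hA : Reg A) (h : A * B = 1) : Reg B := by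
  have h' : B * A = 1 := mul_eq_one_comm.1 h
  have e : B - 1 = -B * (A - 1) := by rw [mul_sub, mul_one, neg_mul, h']; abel
  have hc : Commute (-B) (A - 1) := by
    refine Commute.neg_left (Commute.sub_right ?_ (Commute.one_right B))
    exact h'.trans h.symm
  refine ⟨by rw [e, hc.mul_pow, hA.1, mul_zero], fun h0 => hA.2 ?_⟩
  rw [e, hc.mul_pow] at h0
  have hu : IsUnit ((-B) ^ (m - 1)) := (IsUnit.of_mul_eq_one A h').neg.pow _
  exact hu.mul_right_eq_zero.1 h0

theorem Reg.transpose {A : Matrix (Fin m) (Fin m) F} (hA : Reg A) : Reg Aᵀ := by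
  have e : ∀ k, (Aᵀ - 1) ^ k = ((A - 1) ^ k)ᵀ := fun k => by
    rw [Matrix.transpose_pow, Matrix.transpose_sub, Matrix.transpose_one]
  refine ⟨by rw [e, hA.1, Matrix.transpose_zero], fun h => hA.2 ?_⟩
  rw [e] at h
  simpa using congrArg Matrix.transpose h

theorem Reg.pow_eq_one {p k : ℕ} [Fact p.Prime] [CharP F p] {A : Matrix (Fin m) (Fin m) F}
    (hA : Reg A) (hk : m ≤ p ^ k) : A ^ (p ^ k) = 1 := by
  rcases Nat.eq_zero_or_pos m with rfl | hm
  · exact Matrix.ext fun i => i.elim0
  haveI : Nonempty (Fin m) := ⟨⟨0, hm⟩⟩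
  have h : (A - 1 + 1) ^ (p ^ k) = (A - 1) ^ (p ^ k) + 1 ^ (p ^ k) :=
    add_pow_char_pow_of_commute (p := p) (n := k) (x := A - 1) (y := 1) (Commute.one_right _)
  rw [sub_add_cancel] at h
  rw [h, one_pow, pow_eq_zero_of_le hk hA.1, zero_add]

variable (F m) in
/-- Lower unitriangular matrices of determinant one. -/
def lowU [Finite F] : Subgroup (SpecialLinearGroup (Fin m) F) where
  carrier := {g | ∀ i j : Fin m, i ≤ j → g.val i j = if i = j then 1 else 0}
  one_mem' := fun i j _ => by rw [val_one', Matrix.one_apply]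
  mul_mem' := fun {a b} ha hb i j hij => by
    rw [val_mul', Matrix.mul_apply]
    by_cases h : i = j
    · subst h
      rw [Finset.sum_eq_single i, ha i i le_rfl, hb i i le_rfl]
      · simp
      · intro k _ hk
        rcases lt_or_gt_of_ne hk with h | h
        · rw [hb k i h.le, if_neg hk, mul_zero]
        · rw [ha i k h.le, if_neg (Ne.symm hk), zero_mul]
      · simp
    · rw [if_neg h]
      refine Finset.sum_eq_zero fun k _ => ?_
      rcases le_or_gt i k with hk | hk
      · by_cases h' : i = k
        · subst h'; rw [hb i j hij, if_neg h, mul_zero]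
        · rw [ha i k hk, if_neg h', zero_mul]
      · rw [hb k j (hk.le.trans hij), if_neg (ne_of_lt (hk.trans_le hij)), mul_zero]
  inv_mem' := fun {a} ha => by
    haveI : Finite (SpecialLinearGroup (Fin m) F) := Subtype.finite
    have h : ∀ n : ℕ, ∀ i j : Fin m, i ≤ j → (a ^ n).val i j = if i = j then 1 else 0 := by
      intro n
      induction n with
      | zero => intro i j _; rw [pow_zero, val_one', Matrix.one_apply]
      | succ n ih =>
        intro i j hij
        rw [pow_succ, val_mul', Matrix.mul_apply]
        by_cases he : i = j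
        · subst he
          rw [Finset.sum_eq_single i, ih i i le_rfl, ha i i le_rfl]
          · simp
          · intro k _ hk
            rcases lt_or_gt_of_ne hk with h | h
            · rw [ha k i h.le, if_neg hk, mul_zero]
            · rw [ih i k h.le, if_neg (Ne.symm hk), zero_mul]
          · simp
        · rw [if_neg he]
          refine Finset.sum_eq_zero fun k _ => ?_
          rcases le_or_gt i k with hk | hk
          · by_cases h' : i = k
            · subst h'; rw [ha i j hij, if_neg he, mul_zero]
            · rw [ih i k hk, if_neg h', zero_mul]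
          · rw [ha k j (hk.le.trans hij), if_neg (ne_of_lt (hk.trans_le hij)), mul_zero]
    have hinv : a⁻¹ = a ^ (orderOf a - 1) := by
      refine inv_eq_of_mul_eq_one_right ?_
      rw [← pow_succ', Nat.sub_add_cancel (orderOf_pos a), pow_orderOf_eq_one]
    intro i j hij
    rw [hinv]
    exact h _ i j hij

variable (F m) in
/-- Upper unitriangular matrices of determinant one. -/
def upU [Finite F] : Subgroup (SpecialLinearGroup (Fin m) F) where
  carrier := {g | g.transpose ∈ lowU F m}
  one_mem' := by
    intro i j _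
    show (1 : Matrix (Fin m) (Fin m) F)ᵀ i j = _
    rw [Matrix.transpose_one, Matrix.one_apply]
  mul_mem' := fun {a b} ha hb => by
    have h := mul_mem (show b.transpose ∈ lowU F m from hb) (show a.transpose ∈ lowU F m from ha)
    show (a * b).transpose ∈ lowU F m
    convert h using 1
    exact Subtype.ext (Matrix.transpose_mul _ _)
  inv_mem' := fun {a} ha => by
    have h := inv_mem (show a.transpose ∈ lowU F m from ha)
    show a⁻¹.transpose ∈ lowU F m
    convert h using 1
    refine eq_inv_of_mul_eq_one_left (Subtype.ext ?_)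
    show (a⁻¹).valᵀ * a.valᵀ = 1
    rw [← Matrix.transpose_mul, ← val_mul', mul_inv_cancel,
      val_one', Matrix.transpose_one]

theorem subdiag_mul [Finite F] {a b : SpecialLinearGroup (Fin m) F} (ha : a ∈ lowU F m) (hb : b ∈ lowU F m)
    {i j : Fin m} (h : j.val + 1 = i.val) : (a * b).val i j = a.val i j + b.val i j := by
  have hne : i ≠ j := fun e => by rw [e] at h; omega
  rw [val_mul', Matrix.mul_apply,
    ← Finset.sum_subset (Finset.subset_univ {i, j}), Finset.sum_pair hne, ha i i le_rfl, hb j j le_rfl]
  · simp [add_comm]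
  · intro k _ hk
    simp only [Finset.mem_insert, Finset.mem_singleton, not_or] at hk
    have h1 := Fin.val_ne_of_ne hk.1
    have h2 := Fin.val_ne_of_ne hk.2
    rcases (show k.val > i.val ∨ k.val < j.val by omega) with h' | h'
    · rw [ha i k h'.le, if_neg (Ne.symm hk.1), zero_mul]
    · rw [hb k j h'.le, if_neg hk.2, mul_zero]

theorem reg_of_lower [Finite F] (hm : 0 < m) {a : SpecialLinearGroup (Fin m) F} (ha : a ∈ lowU F m)
    (hne : ∀ i j : Fin m, j.val + 1 = i.val → a.val i j ≠ 0) : Reg a.val := by
  set N := a.val - 1 with hN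
  have hNz : ∀ i j : Fin m, i.val ≤ j.val → N i j = 0 := fun i j h => by
    rw [hN, Matrix.sub_apply, ha i j h, Matrix.one_apply, sub_self]
  have key : ∀ k : ℕ, (∀ i j : Fin m, i.val < j.val + k → (N ^ k) i j = 0) ∧
      ∀ i j : Fin m, i.val = j.val + k → (N ^ k) i j ≠ 0 := by
    intro k
    induction k with
    | zero =>
      refine ⟨fun i j h => ?_, fun i j h => ?_⟩
      · rw [pow_zero, Matrix.one_apply_ne (Fin.ne_of_val_ne (by omega))]
      · rw [pow_zero, show i = j from Fin.ext (by omega), Matrix.one_apply_eq]; exact one_ne_zero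
    | succ k ih =>
      refine ⟨fun i j h => ?_, fun i j h => ?_⟩
      · rw [pow_succ', Matrix.mul_apply]
        refine Finset.sum_eq_zero fun l _ => ?_
        rcases le_or_gt i.val l.val with hl | hl
        · rw [hNz i l hl, zero_mul]
        · rw [ih.1 l j (by omega), mul_zero]
      · rw [pow_succ', Matrix.mul_apply, Finset.sum_eq_single (⟨i.val - 1, by omega⟩ : Fin m)]
        · refine mul_ne_zero ?_ (ih.2 _ j (by simp only; omega))
          rw [hN, Matrix.sub_apply, Matrix.one_apply_ne (Fin.ne_of_val_ne (by simp only; omega)), sub_zero]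
          exact hne _ _ (by simp only; omega)
        · intro l _ hl
          have := Fin.val_ne_of_ne hl
          simp only at this
          rcases le_or_gt i.val l.val with h' | h'
          · rw [hNz i l h', zero_mul]
          · rw [ih.1 l j (by omega), mul_zero]
        · simp
  refine ⟨Matrix.ext fun i j => (key m).1 i j (by omega), ?_⟩
  intro h0
  exact (key (m - 1)).2 ⟨m - 1, by omega⟩ ⟨0, hm⟩ (by simp) (congrFun (congrFun h0 _) _)

/-- An element `v * u` of two opposite unitriangular factors is a product of two regular unipotents. -/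
theorem exists_product [Fintype F] (hF : 4 ≤ Fintype.card F) (hm : 2 ≤ m)
    {v u : SpecialLinearGroup (Fin m) F} (hv : v ∈ lowU F m) (hu : u ∈ upU F m) :
    ∃ A B : SpecialLinearGroup (Fin m) F, Reg A.val ∧ Reg B.val ∧ v * u = A * B := by
  classical
  let S : Matrix (Fin m) (Fin m) F := 1 + Matrix.of fun i j => if j.val + 1 = i.val then 1 else 0
  have hSd : S.det = 1 := by
    rw [Matrix.det_of_lowerTriangular S (fun i j h => by
      have h' : i.val < j.val := h
      simp [S, Matrix.one_apply_ne (Fin.ne_of_val_ne h'.ne), show j.val + 1 ≠ i.val by omega])]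
    simp [S]
  let R : SpecialLinearGroup (Fin m) F := ⟨S, hSd⟩
  have hR : Reg R.val := reg_of_lower (by omega) (a := R) (fun i j h => by
      have h' : i.val ≤ j.val := h
      simp [R, S, Matrix.one_apply, show j.val + 1 ≠ i.val by omega]) fun i j h => by
      have hne : i ≠ j := Fin.ne_of_val_ne (by omega)
      simp [R, S, hne, h]
  by_cases h1 : v * u = 1
  · refine ⟨R, R⁻¹, hR, hR.inv ?_, by rw [h1, mul_inv_cancel]⟩
    rw [← val_mul', mul_inv_cancel, val_one']
  rcases (show m = 2 ∨ 3 ≤ m by omega) with rfl | h3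
  · have regv : ∀ x ∈ lowU F 2, x.val 1 0 ≠ 0 → Reg x.val := fun x hx h => reg_of_lower (by omega) hx fun i j hij => by
      rw [show i = 1 from Fin.ext (show i.val = 1 by omega), show j = 0 from Fin.ext (show j.val = 0 by omega)]
      exact h
    have regu : ∀ x ∈ upU F 2, x.val 0 1 ≠ 0 → Reg x.val := fun x hx h => by
      have h2 := (regv x.transpose hx h).transpose
      simpa [SpecialLinearGroup.transpose, Matrix.transpose_transpose] using h2
    have eq_of_low : ∀ x ∈ lowU F 2, x.val 1 0 = 0 → x = 1 := fun x hx h => Subtype.ext (by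
      ext i j
      fin_cases i <;> fin_cases j
      · simpa using hx 0 0 le_rfl
      · simpa using hx 0 1 (by simp)
      · simpa using h
      · simpa using hx 1 1 le_rfl)
    have eq_of_up : ∀ x ∈ upU F 2, x.val 0 1 = 0 → x = 1 := fun x hx h => by
      have h2 := eq_of_low x.transpose hx h
      exact Subtype.ext (by simpa [SpecialLinearGroup.transpose] using congrArg (fun y => y.valᵀ) h2)
    have hs : ∀ b : F, ∃ s : F, s ≠ 0 ∧ s ≠ b := fun b => by
      obtain ⟨s, -, hs⟩ := Finset.exists_mem_notMem_of_card_lt_card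
        (s := ({0, b} : Finset F)) (t := Finset.univ)
        (by have := Finset.card_le_two (a := (0 : F)) (b := b); rw [Finset.card_univ]; omega)
      simp only [Finset.mem_insert, Finset.mem_singleton, not_or] at hs
      exact ⟨s, hs.1, hs.2⟩
    have split_low : ∀ x ∈ lowU F 2, x.val 1 0 ≠ 0 →
        ∃ A B : SpecialLinearGroup (Fin 2) F, Reg A.val ∧ Reg B.val ∧ x = A * B := by
      intro x hx hne
      obtain ⟨s, hs0, hsb⟩ := hs (x.val 1 0)
      let A : SpecialLinearGroup (Fin 2) F := ⟨!![1, 0; s, 1], by simp [Matrix.det_fin_two]⟩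
      have hA : A ∈ lowU F 2 := fun i j hij => by
        fin_cases i <;> fin_cases j <;> simp [A] at hij ⊢
      refine ⟨A, A⁻¹ * x, regv A hA (by simpa [A] using hs0),
        regv _ (mul_mem (inv_mem hA) hx) ?_, by rw [mul_inv_cancel_left]⟩
      have e := subdiag_mul hA (mul_mem (inv_mem hA) hx) (i := 1) (j := 0) rfl
      rw [mul_inv_cancel_left] at e
      intro h0
      rw [h0, add_zero] at e
      exact hsb (e.trans (by simp [A])).symm
    by_cases hb : v.val 1 0 = 0
    · rw [eq_of_low v hv hb, one_mul] at h1 ⊢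
      have ha : u.val 0 1 ≠ 0 := fun e => h1 (eq_of_up u hu e)
      obtain ⟨A, B, hA, hB, e⟩ := split_low u.transpose hu ha
      refine ⟨B.transpose, A.transpose, hB.transpose, hA.transpose, Subtype.ext ?_⟩
      have e' := congrArg (fun y => y.valᵀ) e
      show u.val = B.valᵀ * A.valᵀ
      simpa [SpecialLinearGroup.transpose, Matrix.transpose_mul, val_mul'] using e'
    by_cases ha : u.val 0 1 = 0
    · rw [eq_of_up u hu ha, mul_one]
      exact split_low v hv hb
    exact ⟨v, u, regv v hv hb, regu u hu ha, rfl⟩
  · let J : GL (Fin m) F := SpecialLinearGroup.toGL ⟨Sᵀ, by rw [Matrix.det_transpose, hSd]⟩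
    have hJr : Reg (J : Matrix (Fin m) (Fin m) F) := hR.transpose
    obtain ⟨x, y, e⟩ := RegUnipProduct.exists_conjugates (K := F)
      (by rw [Cardinal.mk_fintype]; exact_mod_cast hF) h3 J (SpecialLinearGroup.toGL (v * u))
      (fun i j => by
        show Sᵀ i j = _
        by_cases hij : i = j
        · subst hij; simp [S]
        · simp only [S, Matrix.transpose_apply, Matrix.add_apply, Matrix.of_apply,
            Matrix.one_apply_ne (Ne.symm hij), zero_add, if_neg hij]
          congr 1
          exact propext eq_comm)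
      (by
        rintro ⟨ζ, hζ⟩
        have hmul : v.val = ζ • (u⁻¹).val := by
          have h := congrArg (· * (u⁻¹).val) hζ
          simp only [val_toGL', Matrix.smul_mul, one_mul] at h
          rw [← h, ← val_mul', mul_inv_cancel_right]
        have hu' : u⁻¹ ∈ upU F m := inv_mem hu
        have hlow : ∀ i j : Fin m, j ≤ i → (u⁻¹).val i j = if i = j then 1 else 0 := fun i j h => by
          have := hu' j i h
          simpa [SpecialLinearGroup.transpose, eq_comm] using this
        let i0 : Fin m := ⟨0, by omega⟩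
        have hζ1 : ζ = 1 := by
          have := congrFun (congrFun hmul i0) i0
          rw [hv i0 i0 le_rfl, Matrix.smul_apply, hlow i0 i0 le_rfl] at this
          simpa using this.symm
        subst hζ1
        rw [one_smul] at hζ
        exact h1 (Subtype.ext hζ))
      (by rw [val_toGL']; exact (v * u).2)
    have hd : ∀ z : GL (Fin m) F, ((z * J * z⁻¹ : GL (Fin m) F) : Matrix (Fin m) (Fin m) F).det = 1 := fun z => by
      rw [Units.val_mul, Units.val_mul, Matrix.det_mul, Matrix.det_mul, mul_right_comm, ← Matrix.det_mul,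
        Units.mul_inv, Matrix.det_one, one_mul]
      show Sᵀ.det = 1
      rw [Matrix.det_transpose, hSd]
    refine ⟨⟨_, hd x⟩, ⟨_, hd y⟩, hJr.conj x, hJr.conj y, Subtype.ext ?_⟩
    have e' := congrArg Units.val e
    rw [Units.val_mul, val_toGL'] at e'
    exact e'

end Cfsg.Agent.Classical.RegularBlocks
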