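import Cfsg.Agent.Lib.Lie.SemisimpleSimilar
import Mathlib

/-!
Dimensions of invariant subspaces and invariant flags are the degrees of divisors of the characteristic
polynomial.
-/

set_option autoImplicit false

namespace Cfsg.Agent.InvCharpoly

open Polynomial Module

universe u v

variable {F : Type u} [Field F] {V : Type v} [AddCommGroup V] [Module F V] [FiniteDimensional F V]

theorem charpoly_mul (W : Submodule F V) (e : V →ₗ[F] V) (he : W ≤ W.comap e) :
    e.charpoly = (e.restrict he).charpoly * (W.mapQ W e he).charpoly := by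
  classical
  let m := Module.Free.ChooseBasisIndex F W
  let bW : Basis m F W := Module.Free.chooseBasis F W
  let n := Module.Free.ChooseBasisIndex F (V ⧸ W)
  let bQ : Basis n F (V ⧸ W) := Module.Free.chooseBasis F (V ⧸ W)
  let b := Module.Basis.sumQuot bW bQ
  let A : Matrix m m F := LinearMap.toMatrix bW bW (e.restrict he)
  let B : Matrix m n F := Matrix.of fun i l ↦
    ((Module.Basis.sumQuot bW bQ).repr (e ((Module.Basis.sumQuot bW bQ) (Sum.inr l)))) (Sum.inl i)
  let D : Matrix n n F := LinearMap.toMatrix bQ bQ (W.mapQ W e he)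
  suffices h : LinearMap.toMatrix b b e = Matrix.fromBlocks A B 0 D by
    rw [← LinearMap.charpoly_toMatrix e b, h, ← LinearMap.charpoly_toMatrix (e.restrict he) bW,
      ← LinearMap.charpoly_toMatrix (W.mapQ W e he) bQ, Matrix.charpoly_fromBlocks_zero₂₁]
  ext u v
  cases u with
  | inl i =>
    cases v with
    | inl k =>
      simp only [b, Module.Basis.sumQuot_inl, Matrix.fromBlocks_apply₁₁, A, LinearMap.toMatrix_apply]
      apply Module.Basis.sumQuot_repr_inl_of_mem
    | inr l => simp [b, LinearMap.toMatrix_apply, Matrix.fromBlocks_apply₁₂, B]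
  | inr j =>
    cases v with
    | inl k =>
      suffices h : W.mkQ (e (bW k)) = 0 by simp [LinearMap.toMatrix_apply, b, h]
      rw [← LinearMap.mem_ker, Submodule.ker_mkQ]
      exact he (Submodule.coe_mem (bW k))
    | inr l =>
      simp only [LinearMap.toMatrix_apply, Module.Basis.sumQuot_repr_inr, Matrix.fromBlocks_apply₂₂, b, D]
      rw [← Module.Basis.sumQuot_inr bW bQ l, W.mapQ_apply]
      simp

theorem charpoly_restrict_dvd {U W : Submodule F V} (hUW : U ≤ W) {e : V →ₗ[F] V} (hU : U ≤ U.comap e)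
    (hW : W ≤ W.comap e) : (e.restrict hU).charpoly ∣ (e.restrict hW).charpoly := by
  set U' : Submodule F W := U.comap W.subtype with hU'
  have he : U' ≤ U'.comap (e.restrict hW) := fun x hx => hU hx
  rw [charpoly_mul U' (e.restrict hW) he]
  refine Dvd.intro _ (congrArg (· * _) ?_)
  rw [← LinearEquiv.charpoly_conj (Submodule.comapSubtypeEquivOfLe hUW) ((e.restrict hW).restrict he)]
  congr 1

theorem charpoly_restrict_dvd_self {W : Submodule F V} {e : V →ₗ[F] V} (hW : W ≤ W.comap e) :
    (e.restrict hW).charpoly ∣ e.charpoly := by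
  rw [charpoly_mul W e hW]; exact Dvd.intro _ rfl

theorem exists_cyclic (e : V →ₗ[F] V) {g : F[X]} (hm : g.Monic) (hirr : Irreducible g) (hdvd : g ∣ e.charpoly) :
    ∃ (W : Submodule F V) (hW : W ≤ W.comap e), (e.restrict hW).charpoly = g := by
  classical
  obtain ⟨v, hv0, hv⟩ : ∃ v, v ≠ 0 ∧ aeval e g v = 0 := by
    let φ : V ≃ₗ[F] (Fin (finrank F V) → F) := (Module.finBasis F V).equivFun
    obtain ⟨w, hw0, hw⟩ := Cfsg.Agent.Lie.Semisimple.exists_killed (φ.conj e) hm hirr
      (by rwa [LinearEquiv.charpoly_conj])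
    refine ⟨φ.symm w, by simpa using hw0, ?_⟩
    have h := Polynomial.aeval_algHom_apply (φ.conjAlgEquiv F).toAlgHom e g
    have h' := LinearMap.congr_fun h w
    change aeval (φ.conj e) g w = φ (aeval e g (φ.symm w)) at h'
    rw [hw] at h'
    exact φ.injective (by rw [← h', map_zero])
  let ψ : F[X] →ₗ[F] V := (LinearMap.applyₗ v).comp (aeval e).toLinearMap
  have hψ : ∀ P, ψ P = aeval e P v := fun P => rfl
  set W := LinearMap.range ψ with hWdef
  have hW : W ≤ W.comap e := by
    rintro _ ⟨P, rfl⟩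
    exact ⟨X * P, by rw [hψ, hψ, map_mul, aeval_X]; rfl⟩
  refine ⟨W, hW, ?_⟩
  have hvW : v ∈ W := ⟨1, by rw [hψ, map_one]; rfl⟩
  haveI : Nontrivial W := ⟨⟨v, hvW⟩, 0, fun h => hv0 (congrArg Subtype.val h)⟩
  let r : Module.End F W := e.restrict hW
  have hcoe : ∀ (P : F[X]) (w : W), ((aeval r P) w : V) = aeval e P (w : V) := by
    intro P w
    induction P using Polynomial.induction_on' with
    | add a b ha hb => simp only [map_add, LinearMap.add_apply, Submodule.coe_add, ha, hb]
    | monomial k c =>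
      have hpow : ((r ^ k) w : V) = (e ^ k) (w : V) := by
        induction k with
        | zero => rfl
        | succ k ih => rw [pow_succ', pow_succ', Module.End.mul_apply, Module.End.mul_apply, ← ih]; rfl
      simp only [aeval_monomial, Module.End.mul_apply, Module.algebraMap_end_apply, Submodule.coe_smul, hpow]
  have hg0 : aeval r g = 0 := by
    refine LinearMap.ext fun w => Subtype.ext ?_
    obtain ⟨w, P, rfl⟩ := w
    rw [hcoe, LinearMap.zero_apply, Submodule.coe_zero]
    change aeval e g (aeval e P v) = 0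
    rw [← Module.End.mul_apply, ← map_mul, mul_comm, map_mul, Module.End.mul_apply, hv, map_zero]
  have hmin : minpoly F r = g :=
    (minpoly.eq_of_irreducible_of_monic hirr hg0 hm).symm
  have hdvd' : g ∣ r.charpoly := hmin ▸ LinearMap.minpoly_dvd_charpoly _
  have hle : finrank F W ≤ g.natDegree := by
    have hsub : W ≤ LinearMap.range (ψ.comp (degreeLT F g.natDegree).subtype) := by
      rintro _ ⟨P, rfl⟩
      refine ⟨⟨P %ₘ g, mem_degreeLT.2 ?_⟩, ?_⟩
      · exact (degree_modByMonic_lt P hm).trans_le degree_le_natDegree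
      · change ψ (P %ₘ g) = ψ P
        conv_rhs => rw [← modByMonic_add_div P g]
        rw [map_add, hψ (g * _), mul_comm, map_mul, Module.End.mul_apply, hv, map_zero, add_zero]
    haveI : FiniteDimensional F (degreeLT F g.natDegree) :=
      LinearEquiv.finiteDimensional (degreeLTEquiv F g.natDegree).symm
    refine (Submodule.finrank_mono hsub).trans ((LinearMap.finrank_range_le _).trans ?_)
    rw [LinearEquiv.finrank_eq (degreeLTEquiv F g.natDegree), finrank_fin_fun]
  have hdeg : (e.restrict hW).charpoly.natDegree ≤ g.natDegree := by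
    rw [LinearMap.charpoly_natDegree]; exact hle
  exact Polynomial.eq_of_monic_of_dvd_of_natDegree_le hm (LinearMap.charpoly_monic _) hdvd' hdeg

/-- an invariant subspace for every divisor -/
theorem exists_subspace (d : ℕ) : ∀ (V : Type v) [AddCommGroup V] [Module F V] [FiniteDimensional F V]
    (e : V →ₗ[F] V) (D : F[X]), D.Monic → D.natDegree = d → D ∣ e.charpoly →
    ∃ W : Submodule F V, finrank F W = d ∧ W ≤ W.comap e := by
  induction d using Nat.strong_induction_on with
  | _ d ih =>
  intro V _ _ _ e D hD hd hdvd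
  rcases Nat.eq_zero_or_pos d with rfl | hpos
  · exact ⟨⊥, finrank_bot F V, bot_le⟩
  obtain ⟨g, hgm, hgi, D', rfl⟩ := Polynomial.exists_monic_irreducible_factor D
    (fun h => by rw [natDegree_eq_zero_of_isUnit h] at hd; omega)
  have hD' : D'.Monic := hgm.of_mul_monic_left hD
  have hgd := hgi.natDegree_pos
  rw [hgm.natDegree_mul hD'] at hd
  obtain ⟨W1, hW1, hc⟩ := exists_cyclic e hgm hgi ((Dvd.intro _ rfl).trans hdvd)
  rw [charpoly_mul W1 e hW1, hc] at hdvd
  obtain ⟨W, hWd, hW⟩ := ih D'.natDegree (by omega) (V ⧸ W1) _ D' hD' rfl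
    ((mul_dvd_mul_iff_left hgi.ne_zero).1 hdvd)
  have h1 : finrank F W1 = g.natDegree := by rw [← hc, LinearMap.charpoly_natDegree]
  refine ⟨W.comap W1.mkQ, ?_, fun x hx => hW hx⟩
  rw [finrank_comap_mkQ W1 W, hWd, h1]; omega
where
  finrank_comap_mkQ {V : Type v} [AddCommGroup V] [Module F V] [FiniteDimensional F V] (W1 : Submodule F V)
      (W : Submodule F (V ⧸ W1)) : finrank F (W.comap W1.mkQ) = finrank F W1 + finrank F W := by
    let f : (W.comap W1.mkQ) →ₗ[F] W := W1.mkQ.restrict (fun x hx => hx)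
    have hsurj : Function.Surjective f := by
      rintro ⟨y, hy⟩
      obtain ⟨x, rfl⟩ := W1.mkQ_surjective y
      exact ⟨⟨x, hy⟩, rfl⟩
    rw [← f.finrank_range_add_finrank_ker, LinearMap.range_eq_top.2 hsurj, finrank_top, add_comm]
    congr 1
    have hle : W1 ≤ W.comap W1.mkQ := fun x hx => by
      rw [Submodule.mem_comap, show W1.mkQ x = 0 from (Submodule.Quotient.mk_eq_zero _).2 hx]
      exact W.zero_mem
    have hker : LinearMap.ker f = W1.comap (W.comap W1.mkQ).subtype := by
      ext x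
      rw [LinearMap.mem_ker, Submodule.mem_comap, ← (Submodule.Quotient.mk_eq_zero W1), Subtype.ext_iff]
      rfl
    rw [hker, LinearEquiv.finrank_eq (Submodule.comapSubtypeEquivOfLe hle)]

/-- an invariant flag for every pair of divisors -/
theorem exists_flag (d : ℕ) : ∀ (V : Type v) [AddCommGroup V] [Module F V] [FiniteDimensional F V]
    (e : V →ₗ[F] V) (D E : F[X]), D.Monic → E.Monic → D.natDegree = d → D * E ∣ e.charpoly →
    ∃ U W : Submodule F V, U ≤ W ∧ finrank F U = d ∧ finrank F W = d + E.natDegree ∧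
      U ≤ U.comap e ∧ W ≤ W.comap e := by
  induction d using Nat.strong_induction_on with
  | _ d ih =>
  intro V _ _ _ e D E hD hE hd hdvd
  rcases Nat.eq_zero_or_pos d with rfl | hpos
  · obtain ⟨W, hWd, hW⟩ := exists_subspace _ V e E hE rfl ((Dvd.intro_left _ rfl).trans hdvd)
    exact ⟨⊥, W, bot_le, finrank_bot F V, by rw [hWd, zero_add], bot_le, hW⟩
  obtain ⟨g, hgm, hgi, D', rfl⟩ := Polynomial.exists_monic_irreducible_factor D
    (fun h => by rw [natDegree_eq_zero_of_isUnit h] at hd; omega)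
  have hD' : D'.Monic := hgm.of_mul_monic_left hD
  have hgd := hgi.natDegree_pos
  rw [hgm.natDegree_mul hD'] at hd
  rw [mul_assoc] at hdvd
  obtain ⟨W1, hW1, hc⟩ := exists_cyclic e hgm hgi ((Dvd.intro _ rfl).trans hdvd)
  rw [charpoly_mul W1 e hW1, hc] at hdvd
  obtain ⟨U, W, hUW, hUd, hWd, hU, hW⟩ := ih D'.natDegree (by omega) (V ⧸ W1) _ D' E hD' hE rfl
    ((mul_dvd_mul_iff_left hgi.ne_zero).1 hdvd)
  have h1 : finrank F W1 = g.natDegree := by rw [← hc, LinearMap.charpoly_natDegree]
  refine ⟨U.comap W1.mkQ, W.comap W1.mkQ, Submodule.comap_mono hUW, ?_, ?_, fun x hx => hU hx, fun x hx => hW hx⟩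
  · rw [exists_subspace.finrank_comap_mkQ W1 U, hUd, h1]; omega
  · rw [exists_subspace.finrank_comap_mkQ W1 W, hWd, h1]; omega

theorem exists_subspace_iff (e : V →ₗ[F] V) (m : ℕ) :
    (∃ W : Submodule F V, finrank F W = m ∧ W.map e ≤ W) ↔
      ∃ D : F[X], D.Monic ∧ D.natDegree = m ∧ D ∣ e.charpoly := by
  constructor
  · rintro ⟨W, hd, hW⟩
    have hW' := Submodule.map_le_iff_le_comap.1 hW
    exact ⟨_, LinearMap.charpoly_monic _, by rw [LinearMap.charpoly_natDegree, hd],
      charpoly_restrict_dvd_self hW'⟩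
  · rintro ⟨D, hD, hd, hdvd⟩
    obtain ⟨W, hWd, hW⟩ := exists_subspace m V e D hD hd hdvd
    exact ⟨W, hWd, Submodule.map_le_iff_le_comap.2 hW⟩

theorem exists_flag_iff (e : V →ₗ[F] V) {m k : ℕ} (hmk : m ≤ k) :
    (∃ U W : Submodule F V, U ≤ W ∧ finrank F U = m ∧ finrank F W = k ∧ U.map e ≤ U ∧ W.map e ≤ W) ↔
      ∃ D E : F[X], D.Monic ∧ E.Monic ∧ D.natDegree = m ∧ D.natDegree + E.natDegree = k ∧
        D * E ∣ e.charpoly := by
  constructor
  · rintro ⟨U, W, hUW, hUd, hWd, hU, hW⟩
    have hU' := Submodule.map_le_iff_le_comap.1 hU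
    have hW' := Submodule.map_le_iff_le_comap.1 hW
    obtain ⟨E, hE⟩ := charpoly_restrict_dvd hUW hU' hW'
    have hEm : E.Monic := (LinearMap.charpoly_monic _).of_mul_monic_left (hE ▸ LinearMap.charpoly_monic _)
    refine ⟨_, E, LinearMap.charpoly_monic _, hEm, by rw [LinearMap.charpoly_natDegree, hUd], ?_,
      hE ▸ charpoly_restrict_dvd_self hW'⟩
    rw [← (LinearMap.charpoly_monic _).natDegree_mul hEm, ← hE, LinearMap.charpoly_natDegree, hWd]
  · rintro ⟨D, E, hD, hE, hd, hk, hdvd⟩
    obtain ⟨U, W, hUW, hUd, hWd, hU, hW⟩ := exists_flag m V e D E hD hE hd hdvd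
    exact ⟨U, W, hUW, hUd, by omega, Submodule.map_le_iff_le_comap.2 hU,
      Submodule.map_le_iff_le_comap.2 hW⟩

end Cfsg.Agent.InvCharpoly
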