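import Mathlib

/-!
Representations in cross characteristic of an elementary abelian group normalised by a larger group: the dimension is
at least the length of an orbit of non-trivial characters.
-/

set_option autoImplicit false
set_option linter.unusedSectionVars false

namespace Cfsg.Agent.CrossCharOrbit

open Matrix

variable {F : Type*} [Field F] [Fintype F] {L : Type*} [Field L] [IsAlgClosed L]

/-- A non-trivial additive character in cross characteristic. -/
theorem exists_addChar (h : ringChar L ≠ ringChar F) : ∃ ψ : AddChar F L, ∃ t, ψ t ≠ 1 := by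
  obtain ⟨p, hp⟩ := CharP.exists F
  haveI : Fact p.Prime := ⟨CharP.char_is_prime F p⟩
  rw [ringChar.eq F p] at h
  have hpL : (p : L) ≠ 0 := fun e => by
    have hd := (CharP.cast_eq_zero_iff L (ringChar L) p).1 e
    rcases (Fact.out : p.Prime).eq_one_or_self_of_dvd _ hd with h1 | h1
    · exact CharP.ringChar_ne_one h1
    · exact h h1
  haveI : NeZero (p : L) := ⟨hpL⟩
  obtain ⟨ζ, hζ⟩ := HasEnoughRootsOfUnity.exists_primitiveRoot L p
  letI := ZMod.algebra F p
  refine ⟨(AddChar.zmodChar p hζ.pow_eq_one).compAddMonoidHom (Algebra.trace (ZMod p) F).toAddMonoidHom, ?_⟩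
  obtain ⟨t, ht⟩ := Algebra.trace_surjective (ZMod p) F 1
  refine ⟨t, ?_⟩
  show AddChar.zmodChar p hζ.pow_eq_one (Algebra.trace (ZMod p) F t) ≠ 1
  rw [ht, AddChar.zmodChar_apply, ZMod.val_one, pow_one]
  exact hζ.ne_one (Fact.out : p.Prime).one_lt

theorem sum_char {V : Type*} [AddCommGroup V] [Module F V] [Fintype V] (ψ : AddChar F L) {t : F} (ht : ψ t ≠ 1)
    (φ : V →ₗ[F] F) (hφ : φ ≠ 0) : ∑ x, ψ (φ x) = 0 := by
  obtain ⟨x, hx⟩ : ∃ x, φ x ≠ 0 := by
    by_contra hcon
    push Not at hcon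
    exact hφ (LinearMap.ext hcon)
  have h1 : ∑ y, ψ (φ ((t / φ x) • x + y)) = ∑ y, ψ (φ y) := Equiv.sum_comp (Equiv.addLeft ((t / φ x) • x)) fun y => ψ (φ y)
  simp only [map_add, map_smul, smul_eq_mul, AddChar.map_add_eq_mul, ← Finset.mul_sum, div_mul_cancel₀ _ hx] at h1
  by_contra h0
  exact ht (mul_right_cancel₀ h0 (h1.trans (one_mul _).symm))

variable {E B : Type*} [AddCommGroup E] [Module F E] [Fintype E] [AddCommGroup B] [Module F B] [Fintype B]
variable {ι : Type*} [Fintype ι] [DecidableEq ι]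

theorem natCast_card_ne_zero (h : ringChar L ≠ ringChar F) (V : Type*) [AddCommGroup V] [Module F V] [Fintype V] :
    (Fintype.card V : L) ≠ 0 := by
  rw [Module.card_eq_pow_finrank (K := F) (V := V), Nat.cast_pow]
  refine pow_ne_zero _ fun e => h ?_
  obtain ⟨p, hp⟩ := CharP.exists F
  haveI : Fact p.Prime := ⟨CharP.char_is_prime F p⟩
  obtain ⟨k, -, hk⟩ := FiniteField.card F p
  rw [hk, Nat.cast_pow] at e
  have e1 := (CharP.cast_eq_zero_iff L (ringChar L) p).1 (eq_zero_of_pow_eq_zero e)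
  rw [ringChar.eq F p]
  rcases (Fact.out : p.Prime).eq_one_or_self_of_dvd _ e1 with h1 | h1
  · exact absurd h1 CharP.ringChar_ne_one
  · exact h1

/-- The number of conjugate non-trivial weights bounds the dimension. -/
theorem le_card (hL : ringChar L ≠ ringChar F) (β : B →ₗ[F] E →ₗ[F] F) (hl : ∀ x, x ≠ 0 → ∃ b, β b x ≠ 0)
    (hr : ∀ b, b ≠ 0 → ∃ x, β b x ≠ 0) (W : Multiplicative E →* Matrix ι ι L)
    (hne : ∃ x, W (Multiplicative.ofAdd x) ≠ 1) (N : ℕ)
    (horb : ∀ a : B, a ≠ 0 → ∃ S : Finset B, N ≤ S.card ∧ ∀ b ∈ S, ∃ (T T' : Matrix ι ι L) (A : E → E),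
      T * T' = 1 ∧ Function.Bijective A ∧ (∀ x, T' * W (Multiplicative.ofAdd x) * T = W (Multiplicative.ofAdd (A x))) ∧
      ∀ x, β b x = β a (A x)) :
    N ≤ Fintype.card ι := by
  classical
  obtain ⟨ψ, t, ht⟩ := exists_addChar (F := F) hL
  let w : E → Matrix ι ι L := fun x => W (Multiplicative.ofAdd x)
  have hw : ∀ x y, w (x + y) = w x * w y := fun x y => by simp only [w, ofAdd_add, map_mul]
  have hw0 : w 0 = 1 := by simp only [w, ofAdd_zero, map_one]
  let P : B → Matrix ι ι L := fun b => ∑ x, ψ (-(β b x)) • w x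
  have hshift : ∀ y b, w y * P b = ψ (β b y) • P b := fun y b => by
    simp only [P, Finset.mul_sum, Finset.smul_sum, Matrix.mul_smul, smul_smul, ← hw]
    refine (Equiv.sum_comp (Equiv.addLeft y) (fun x => (ψ (β b y) * ψ (-(β b x))) • w x)).symm.trans ?_ |>.symm
    refine Finset.sum_congr rfl fun x _ => ?_
    rw [Equiv.coe_addLeft, map_add, ← AddChar.map_add_eq_mul, neg_add, ← add_assoc, add_neg_cancel, zero_add]
  have hBsum : ∀ x : E, x ≠ 0 → ∑ b, ψ (-(β b x)) = 0 := fun x hx =>
    sum_char ψ ht (-(β.flip x)) fun e => by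
      obtain ⟨b, hb⟩ := hl x hx
      exact hb (by simpa using LinearMap.congr_fun e b)
  have hsum : ∑ b, P b = (Fintype.card B : L) • (1 : Matrix ι ι L) := by
    simp only [P]
    rw [Finset.sum_comm, Finset.sum_eq_single (0 : E)]
    · simp only [map_zero, neg_zero, AddChar.map_zero_eq_one, one_smul, hw0, Finset.sum_const, Finset.card_univ]
      rw [← Nat.cast_smul_eq_nsmul L]
    · intro x _ hx
      rw [← Finset.sum_smul, hBsum x hx, zero_smul]
    · simp
  obtain ⟨a, ha, hPa⟩ : ∃ a, a ≠ 0 ∧ P a ≠ 0 := by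
    by_contra hcon
    push Not at hcon
    rw [Finset.sum_eq_single (0 : B) (fun b _ hb => hcon b hb) (by simp)] at hsum
    obtain ⟨x, hx⟩ := hne
    have h1 := hshift x 0
    rw [hsum, map_zero, LinearMap.zero_apply, AddChar.map_zero_eq_one, one_smul, Matrix.mul_smul, mul_one] at h1
    exact hx (smul_right_injective _ (natCast_card_ne_zero hL B) h1)
  obtain ⟨S, hS, hSmem⟩ := horb a ha
  have hPb : ∀ b ∈ S, P b ≠ 0 := by
    intro b hb e
    obtain ⟨T, T', A, hT, hA, hconj, hβ⟩ := hSmem b hb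
    refine hPa ?_
    calc P a = ∑ x, ψ (-(β a (A x))) • w (A x) := (hA.sum_comp fun y => ψ (-(β a y)) • w y).symm
      _ = T' * P b * T := by
        simp only [P, Finset.mul_sum, Finset.sum_mul, Matrix.mul_smul, Matrix.smul_mul]
        exact Finset.sum_congr rfl fun x _ => by rw [hconj x, hβ x]
      _ = 0 := by rw [e, mul_zero, zero_mul]
  have hvec : ∀ b : S, ∃ v : ι → L, v ≠ 0 ∧ ∀ y, w y *ᵥ v = ψ (β b y) • v := by
    intro b
    obtain ⟨u, hu⟩ : ∃ u, P b *ᵥ u ≠ 0 := by
      by_contra hcon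
      push Not at hcon
      exact hPb b b.2 (Matrix.ext_iff_mulVec.2 fun u => by rw [hcon u, Matrix.zero_mulVec])
    exact ⟨_, hu, fun y => by rw [Matrix.mulVec_mulVec, hshift, Matrix.smul_mulVec]⟩
  choose v hv0 hv using hvec
  have hproj : ∀ b c : S, P c *ᵥ v b = if b = c then (Fintype.card E : L) • v b else 0 := by
    intro b c
    have e1 : P c *ᵥ v b = (∑ x, ψ ((β b.1 - β c.1) x)) • v b := by
      simp only [P, Matrix.sum_mulVec, Matrix.smul_mulVec, hv, smul_smul, ← AddChar.map_add_eq_mul,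
        ← Finset.sum_smul]
      congr 1
      refine Finset.sum_congr rfl fun x _ => ?_
      rw [LinearMap.sub_apply, sub_eq_neg_add]
    rw [e1]
    split_ifs with hbc
    · subst hbc
      simp
    · rw [sum_char ψ ht _ (fun e => hbc (Subtype.ext (sub_eq_zero.1 (by
        by_contra hne'
        obtain ⟨x, hx⟩ := hr _ hne'
        exact hx (by rw [map_sub, e, LinearMap.zero_apply]))))), zero_smul]
  have hli : LinearIndependent L v := by
    rw [Fintype.linearIndependent_iff]
    intro g hg c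
    have h1 := congrArg (fun u => P c.1 *ᵥ u) hg
    simp only [Matrix.mulVec_sum, Matrix.mulVec_smul, hproj, Matrix.mulVec_zero, smul_ite, smul_zero,
      Finset.sum_ite_eq', Finset.mem_univ, if_true, smul_smul] at h1
    exact (mul_eq_zero.1 ((smul_eq_zero.1 h1).resolve_right (hv0 c))).resolve_right (natCast_card_ne_zero hL E)
  refine hS.trans ?_
  have := hli.fintype_card_le_finrank
  rwa [Fintype.card_coe, Module.finrank_fintype_fun_eq_card] at this

end Cfsg.Agent.CrossCharOrbit
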