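import Cfsg.Agent.Lib.Classical.JordanChains

/-! Jordan types of matrices and classes of elements of order `p`. -/

set_option autoImplicit false

namespace Cfsg.Agent.GLUnipotentTypes

open Matrix

variable {F : Type*} [Field F] {ι : Type*} [Fintype ι] [DecidableEq ι]

/-- The Jordan type of a nilpotent matrix. -/
noncomputable def mparts (M : Matrix ι ι F) : Multiset ℕ := JordanChains.parts (Matrix.toLinAlgEquiv' M)

theorem nil_end {M : Matrix ι ι F} (hM : IsNilpotent M) : IsNilpotent (Matrix.toLinAlgEquiv' M) := hM.map _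

theorem rank_pow {M : Matrix ι ι F} (hM : IsNilpotent M) (l : ℕ) :
    (M ^ l).rank = ((mparts M).map fun a => a - l).sum := by
  rw [mparts, ← JordanChains.finrank_range_eq (nil_end hM), ← map_pow]
  rfl

theorem mparts_eq_of_rank {M : Matrix ι ι F} {κ : Type*} [Fintype κ] [DecidableEq κ] {M' : Matrix κ κ F}
    (hM : IsNilpotent M) (hM' : IsNilpotent M') (h : ∀ l, (M ^ l).rank = (M' ^ l).rank) : mparts M = mparts M' := by
  obtain ⟨s, k, v, hc⟩ := JordanChains.exists_chains (nil_end hM)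
  obtain ⟨s', k', v', hc'⟩ := JordanChains.exists_chains (nil_end hM')
  rw [mparts, mparts, hc.parts_eq, hc'.parts_eq]
  refine JordanChains.multiset_eq_of_sums hc.1 hc'.1 fun l => ?_
  rw [← hc.finrank_range, ← hc'.finrank_range, ← map_pow, ← map_pow]
  exact h l

theorem exists_similar {M M' : Matrix ι ι F} (hM : IsNilpotent M) (hM' : IsNilpotent M')
    (h : mparts M = mparts M') : ∃ P : GL ι F, P.val * M = M' * P.val := by
  obtain ⟨e, he⟩ := JordanChains.exists_equiv (nil_end hM) (nil_end hM') h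
  obtain ⟨P, hP⟩ : IsUnit (LinearMap.toMatrixAlgEquiv' (e : (ι → F) →ₗ[F] (ι → F))) :=
    IsUnit.map LinearMap.toMatrixAlgEquiv' (LinearMap.GeneralLinearGroup.ofLinearEquiv e).isUnit
  have hPe : ∀ x, P.val *ᵥ x = e x := fun x => by
    show Matrix.toLinAlgEquiv' P.val x = _
    rw [hP, Matrix.toLinAlgEquiv'_toMatrixAlgEquiv']; rfl
  refine ⟨P, Matrix.ext_iff_mulVec.2 fun x => ?_⟩
  rw [← Matrix.mulVec_mulVec, ← Matrix.mulVec_mulVec, hPe, hPe]
  exact he x

theorem mparts_eq_of_similar {M M' : Matrix ι ι F} (hM : IsNilpotent M) (P : GL ι F)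
    (h : P.val * M = M' * P.val) : mparts M' = mparts M :=
  JordanChains.parts_congr (nil_end hM) (LinearMap.GeneralLinearGroup.generalLinearEquiv F _
    (Matrix.GeneralLinearGroup.toLin P)) fun x => by
    show P.val *ᵥ (M *ᵥ x) = M' *ᵥ (P.val *ᵥ x)
    rw [Matrix.mulVec_mulVec, Matrix.mulVec_mulVec, h]

theorem exists_mparts (μ : Multiset ℕ) (hμ : ∀ a ∈ μ, 0 < a) (hsum : μ.sum = Fintype.card ι) :
    ∃ M : Matrix ι ι F, IsNilpotent M ∧ mparts M = μ := by
  obtain ⟨N, hN, hp⟩ := JordanChains.exists_parts_eq (F := F) (V := ι → F) μ hμ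
    (by rw [hsum, Module.finrank_fintype_fun_eq_card])
  exact ⟨LinearMap.toMatrixAlgEquiv' N, hN.map _, by rw [mparts, Matrix.toLinAlgEquiv'_toMatrixAlgEquiv', hp]⟩

theorem sum_mparts {M : Matrix ι ι F} (hM : IsNilpotent M) : (mparts M).sum = Fintype.card ι := by
  rw [mparts, JordanChains.sum_parts (nil_end hM), Module.finrank_fintype_fun_eq_card]

theorem pos_of_mem {M : Matrix ι ι F} (hM : IsNilpotent M) {a : ℕ} (ha : a ∈ mparts M) : 0 < a :=
  JordanChains.pos_of_mem_parts (nil_end hM) ha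

theorem pow_eq_zero_iff {M : Matrix ι ι F} (hM : IsNilpotent M) (l : ℕ) :
    M ^ l = 0 ↔ ∀ a ∈ mparts M, a ≤ l := by
  rw [mparts, ← JordanChains.pow_eq_zero_iff (nil_end hM), ← map_pow, map_eq_zero_iff _ Matrix.toLinAlgEquiv'.injective]

theorem eq_zero_iff {M : Matrix ι ι F} (hM : IsNilpotent M) : M = 0 ↔ ∀ a ∈ mparts M, a = 1 := by
  rw [mparts, ← JordanChains.eq_zero_iff (nil_end hM), map_eq_zero_iff _ Matrix.toLinAlgEquiv'.injective]

variable {p : ℕ} [Fact p.Prime] [CharP F p] {n : ℕ}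

theorem orderOf_eq_iff (g : GL (Fin n) F) :
    orderOf g = p ↔ ((g : Matrix (Fin n) (Fin n) F) - 1) ^ p = 0 ∧ (g : Matrix (Fin n) (Fin n) F) - 1 ≠ 0 := by
  rw [orderOf_eq_prime_iff, sub_ne_zero, @Units.ext_iff _ _ (g ^ p), Units.val_pow_eq_pow_val, Units.val_one,
    Ne.eq_def, @Units.ext_iff _ _ g, Units.val_one]
  refine and_congr_left fun hg => ?_
  rcases n.eq_zero_or_pos with rfl | hn
  · exact absurd (Subsingleton.elim _ _) hg
  haveI : Nonempty (Fin n) := ⟨⟨0, hn⟩⟩
  rw [sub_pow_char_of_commute p (Commute.one_right _), one_pow, sub_eq_zero]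

/-- Partitions with parts at most `p` other than `1 + ⋯ + 1`. -/
theorem card_good_partitions (p : ℕ) (hp : 1 ≤ p) (n : ℕ) :
    Nat.card {μ : Nat.Partition n // (∀ a ∈ μ.parts, a ≤ p) ∧ ¬ ∀ a ∈ μ.parts, a = 1} =
      (Finset.univ.filter (fun μ : Nat.Partition n => ∀ a ∈ μ.parts, a ≤ p)).card - 1 := by
  classical
  let o : Nat.Partition n := ⟨Multiset.replicate n 1, fun h => by rw [Multiset.eq_of_mem_replicate h]; omega, by simp⟩
  have ho : ∀ μ : Nat.Partition n, (∀ a ∈ μ.parts, a = 1) ↔ μ = o := fun μ => by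
    constructor
    · intro h
      refine Nat.Partition.ext ?_
      have := Multiset.eq_replicate_card.2 h
      rw [this]
      congr 1
      have h2 := μ.parts_sum
      rw [this, Multiset.sum_replicate, smul_eq_mul, mul_one] at h2
      exact h2
    · rintro rfl a ha; exact Multiset.eq_of_mem_replicate ha
  rw [Nat.card_eq_fintype_card, Fintype.card_subtype,
    show Finset.univ.filter (fun μ : Nat.Partition n => (∀ a ∈ μ.parts, a ≤ p) ∧ ¬ ∀ a ∈ μ.parts, a = 1) =
      (Finset.univ.filter (fun μ : Nat.Partition n => ∀ a ∈ μ.parts, a ≤ p)).erase o from by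
    ext μ; simp [ho, and_comm],
    Finset.card_erase_of_mem (Finset.mem_filter.2 ⟨Finset.mem_univ _, fun a ha => by
      rw [Multiset.eq_of_mem_replicate ha]; exact hp⟩)]

/-- Classes of elements of order `p` of a subgroup to which fusion is controlled and which contains all types. -/
theorem card_classes {G : Type*} [Group G] (φ : G →* GL (Fin n) F) (hφ : Function.Injective φ)
    (hfus : ∀ a b : G, IsConj (φ a) (φ b) → IsConj a b)
    (hex : ∀ g : GL (Fin n) F, orderOf g = p → ∃ a : G, IsConj g (φ a)) :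
    Nat.card {C : ConjClasses G // ∃ g : G, ConjClasses.mk g = C ∧ orderOf g = p} =
      (Finset.univ.filter (fun μ : Nat.Partition n => ∀ a ∈ μ.parts, a ≤ p)).card - 1 := by
  classical
  rw [← card_good_partitions p (Fact.out : p.Prime).one_le n]
  have hord : ∀ g : G, orderOf g = p → orderOf (φ g) = p := fun g h => by rw [orderOf_injective φ hφ, h]
  have hnil : ∀ g : G, orderOf g = p → IsNilpotent ((φ g : Matrix (Fin n) (Fin n) F) - 1) :=
    fun g h => ⟨p, ((orderOf_eq_iff _).1 (hord g h)).1⟩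
  let T : {C : ConjClasses G // ∃ g : G, ConjClasses.mk g = C ∧ orderOf g = p} →
      {μ : Nat.Partition n // (∀ a ∈ μ.parts, a ≤ p) ∧ ¬ ∀ a ∈ μ.parts, a = 1} := fun C =>
    ⟨⟨mparts ((φ C.2.choose : Matrix (Fin n) (Fin n) F) - 1),
      fun h => pos_of_mem (hnil _ C.2.choose_spec.2) h,
      by rw [sum_mparts (hnil _ C.2.choose_spec.2), Fintype.card_fin]⟩,
      (pow_eq_zero_iff (hnil _ C.2.choose_spec.2) p).1 ((orderOf_eq_iff _).1 (hord _ C.2.choose_spec.2)).1,
      fun h => ((orderOf_eq_iff _).1 (hord _ C.2.choose_spec.2)).2 ((eq_zero_iff (hnil _ C.2.choose_spec.2)).2 h)⟩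
  refine Nat.card_eq_of_bijective T ⟨?_, ?_⟩
  · intro C C' h
    have h' : mparts _ = mparts _ := congrArg (fun x => x.1.parts) h
    obtain ⟨P, hP⟩ := exists_similar (hnil _ C.2.choose_spec.2) (hnil _ C'.2.choose_spec.2) h'
    rw [mul_sub, sub_mul, mul_one, one_mul, sub_left_inj, ← Units.val_mul, ← Units.val_mul, ← Units.ext_iff] at hP
    refine Subtype.ext (C.2.choose_spec.1.symm.trans (Eq.trans ?_ C'.2.choose_spec.1))
    exact ConjClasses.mk_eq_mk_iff_isConj.2 (hfus _ _ (isConj_iff.2 ⟨P, mul_inv_eq_iff_eq_mul.2 hP⟩))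
  · rintro ⟨μ, hμ1, hμ2⟩
    obtain ⟨M, hM, hp⟩ := exists_mparts (F := F) (ι := Fin n) μ.parts (fun a h => μ.parts_pos h)
      (by rw [μ.parts_sum, Fintype.card_fin])
    obtain ⟨g, hg⟩ : IsUnit (1 + M) := hM.isUnit_one_add
    have hgM : (g : Matrix (Fin n) (Fin n) F) - 1 = M := by rw [hg, add_sub_cancel_left]
    have hgo : orderOf g = p := (orderOf_eq_iff g).2 ⟨by rw [hgM, pow_eq_zero_iff hM, hp]; exact hμ1,
      by rw [hgM, Ne, eq_zero_iff hM, hp]; exact hμ2⟩
    obtain ⟨a, ha⟩ := hex g hgo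
    have hao : orderOf a = p := by
      obtain ⟨c, hc⟩ := isConj_iff.1 ha
      rw [← orderOf_injective φ hφ a, ← hc, ← hgo]
      exact orderOf_injective (MulAut.conj c).toMonoidHom (MulAut.conj c).injective g
    let C : {C : ConjClasses G // ∃ g : G, ConjClasses.mk g = C ∧ orderOf g = p} := ⟨ConjClasses.mk a, a, rfl, hao⟩
    refine ⟨C, Subtype.ext (Nat.Partition.ext ?_)⟩
    show mparts _ = μ.parts
    have hcC : IsConj a C.2.choose := (ConjClasses.mk_eq_mk_iff_isConj.1 C.2.choose_spec.1).symm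
    obtain ⟨c, hc⟩ := isConj_iff.1 (ha.trans (φ.map_isConj hcC))
    rw [← hp, ← hgM]
    refine mparts_eq_of_similar (hgM.symm ▸ hM) c ?_
    rw [mul_sub, sub_mul, mul_one, one_mul, sub_left_inj, ← Units.val_mul, ← Units.val_mul, ← Units.ext_iff]
    exact mul_inv_eq_iff_eq_mul.1 hc

end Cfsg.Agent.GLUnipotentTypes
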