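import Cfsg.Agent.Lib.Classical.TransvectionCentralizer

/-! Classes of regular unipotent elements of `SL_n(q)`. -/

set_option autoImplicit false

namespace Cfsg.Agent.RegUnipClasses

open Matrix Cfsg.Agent.Classical

variable {F : Type*} [Field F] {n : ℕ}

/-- The shift `e_i ↦ e_(i+1)`. -/
def shift (F : Type*) [Field F] (n : ℕ) : Matrix (Fin n) (Fin n) F :=
  Matrix.of fun i j => if (i : ℕ) = (j : ℕ) + 1 then 1 else 0

theorem shift_mulVec (w : Fin n → F) (j : Fin n) :
    (shift F n *ᵥ w) j = if h : 1 ≤ (j : ℕ) then w ⟨(j : ℕ) - 1, by omega⟩ else 0 := by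
  simp only [Matrix.mulVec, dotProduct, shift, Matrix.of_apply, ite_mul, one_mul, zero_mul]
  split_ifs with h
  · rw [Finset.sum_eq_single ⟨(j : ℕ) - 1, by omega⟩]
    · rw [if_pos (show (j : ℕ) = (j : ℕ) - 1 + 1 by omega)]
    · intro b _ hb
      rw [if_neg fun e => hb (Fin.ext (by simp; omega))]
    · simp
  · exact Finset.sum_eq_zero fun b _ => if_neg (by omega)

theorem shift_pow_mulVec (k : ℕ) (w : Fin n → F) (j : Fin n) :
    ((shift F n) ^ k *ᵥ w) j = if h : k ≤ (j : ℕ) then w ⟨(j : ℕ) - k, by omega⟩ else 0 := by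
  induction k generalizing j with
  | zero => simp
  | succ k ih =>
    rw [pow_succ', ← Matrix.mulVec_mulVec, shift_mulVec]
    by_cases h : 1 ≤ (j : ℕ)
    · rw [dif_pos h, ih]
      by_cases h2 : k + 1 ≤ (j : ℕ)
      · rw [dif_pos (show k ≤ (j : ℕ) - 1 by omega), dif_pos h2]
        congr 1
        ext
        simp
        omega
      · rw [dif_neg (show ¬ k ≤ (j : ℕ) - 1 by omega), dif_neg h2]
    · rw [dif_neg h, dif_neg (show ¬ k + 1 ≤ (j : ℕ) by omega)]

theorem shift_pow_self : (shift F n) ^ n = 0 := by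
  refine Matrix.ext_of_mulVec_single fun i => funext fun j => ?_
  rw [shift_pow_mulVec, dif_neg (show ¬ n ≤ (j : ℕ) by omega), Matrix.zero_mulVec]
  rfl

theorem shift_pow_single (hn : 0 < n) (i : Fin n) :
    (shift F n) ^ (i : ℕ) *ᵥ Pi.single (⟨0, hn⟩ : Fin n) 1 = Pi.single i 1 := by
  funext j
  rw [shift_pow_mulVec]
  simp only [Pi.single_apply, Fin.ext_iff]
  split_ifs with h h1 h2 h2 <;> first | rfl | omega

theorem commute_det (hn : 0 < n) {C : Matrix (Fin n) (Fin n) F} (hC : C * shift F n = shift F n * C) :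
    C.det = C ⟨0, hn⟩ ⟨0, hn⟩ ^ n := by
  have hent : ∀ i j : Fin n, C j i =
      if h : (i : ℕ) ≤ (j : ℕ) then C ⟨(j : ℕ) - i, by omega⟩ ⟨0, hn⟩ else 0 := by
    intro i j
    have h1 : C * shift F n ^ (i : ℕ) = shift F n ^ (i : ℕ) * C :=
      (Commute.pow_right hC (i : ℕ)).eq
    have h2 := congrFun (congrArg (· *ᵥ Pi.single (⟨0, hn⟩ : Fin n) (1 : F)) h1) j
    rw [← Matrix.mulVec_mulVec, ← Matrix.mulVec_mulVec, shift_pow_single hn, Matrix.mulVec_single_one,
      Matrix.mulVec_single_one, shift_pow_mulVec] at h2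
    exact h2
  rw [Matrix.det_of_lowerTriangular C fun i j hij => ?_, Finset.prod_eq_pow_card (b := C ⟨0, hn⟩ ⟨0, hn⟩),
    Finset.card_univ, Fintype.card_fin]
  · intro i _
    rw [hent i i, dif_pos le_rfl]
    simp
  · rw [hent j i, dif_neg]
    exact not_le.2 (Fin.lt_def.1 hij)

theorem shift_rank (hn : 0 < n) : (shift F n).rank = n - 1 := by
  set f := (shift F n).mulVecLin
  have hker : Module.finrank F (LinearMap.ker f) ≤ 1 := by
    let ev : LinearMap.ker f →ₗ[F] F :=
      (LinearMap.proj (⟨n - 1, by omega⟩ : Fin n)).comp (LinearMap.ker f).subtype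
    have := LinearMap.finrank_le_finrank_of_injective (f := ev) ((injective_iff_map_eq_zero ev).2
      fun x hx => Subtype.ext (funext fun j => by
        by_cases hj : (j : ℕ) = n - 1
        · rw [show j = (⟨n - 1, by omega⟩ : Fin n) from Fin.ext hj]; exact hx
        · have h1 := congrFun (LinearMap.mem_ker.1 x.2) ⟨(j : ℕ) + 1, by omega⟩
          rw [Matrix.mulVecLin_apply, shift_mulVec, dif_pos (show 1 ≤ (j : ℕ) + 1 by omega)] at h1
          exact h1))
    simpa using this
  have h1 := f.finrank_range_add_finrank_ker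
  rw [Module.finrank_fin_fun] at h1
  have h2 : 1 ≤ Module.finrank F (LinearMap.ker f) := by
    by_contra h0
    have hb : LinearMap.ker f = ⊥ := Submodule.finrank_eq_zero.1 (by omega)
    have hz : Pi.single (⟨n - 1, by omega⟩ : Fin n) (1 : F) ∈ LinearMap.ker f := by
      refine LinearMap.mem_ker.2 (funext fun j => ?_)
      rw [Matrix.mulVecLin_apply, shift_mulVec]
      split_ifs with h
      · rw [Pi.single_apply, if_neg fun e => by rw [Fin.ext_iff] at e; simp at e; omega]
        rfl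
      · rfl
    rw [hb, Submodule.mem_bot] at hz
    simpa using congrFun hz ⟨n - 1, by omega⟩
  show Module.finrank F (LinearMap.range f) = n - 1
  omega

theorem exists_conj (hn : 0 < n) {M : Matrix (Fin n) (Fin n) F} (hnil : M ^ n = 0)
    (hrank : M.rank = n - 1) :
    ∃ P : GL (Fin n) F, M * P.val = P.val * shift F n := by
  let f : Module.End F (Fin n → F) := Matrix.toLinAlgEquiv' M
  have hfn : f ^ n = 0 := by rw [← map_pow, hnil, map_zero]
  have hfk : ∀ k x, (f ^ k) x = (M ^ k) *ᵥ x := fun k x => by rw [← map_pow]; rfl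
  have hker : Module.finrank F (LinearMap.ker f) ≤ 1 := by
    have h1 := f.finrank_range_add_finrank_ker
    have h2 : Module.finrank F (LinearMap.range f) = n - 1 := hrank
    rw [Module.finrank_fin_fun] at h1
    omega
  obtain ⟨v, hv⟩ : ∃ v, (f ^ (n - 1)) v ≠ 0 := by
    by_contra! hc
    have := GLCentralizer.finrank_ker_pow_le f hker (n - 1)
    rw [show LinearMap.ker (f ^ (n - 1)) = ⊤ from eq_top_iff.2 fun x _ => LinearMap.mem_ker.2 (hc x),
      finrank_top, Module.finrank_fin_fun] at this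
    omega
  let P : Matrix (Fin n) (Fin n) F := Matrix.of fun j i => (f ^ (i : ℕ)) v j
  have hP : IsUnit P :=
    Matrix.linearIndependent_cols_iff_isUnit.1 (by exact GLCentralizer.li_pow f hfn hv)
  refine ⟨hP.unit, ?_⟩
  rw [IsUnit.unit_spec]
  refine Matrix.ext_of_mulVec_single fun i => ?_
  have hcol : ∀ i : Fin n, P *ᵥ Pi.single i 1 = (f ^ (i : ℕ)) v := fun i => by
    rw [Matrix.mulVec_single_one]; rfl
  rw [← Matrix.mulVec_mulVec, hcol, ← Matrix.mulVec_mulVec, ← shift_pow_single hn i,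
    Matrix.mulVec_mulVec (Pi.single _ _) (shift F n), ← pow_succ']
  rcases Nat.lt_or_ge ((i : ℕ) + 1) n with h | h
  · rw [show (shift F n) ^ ((i : ℕ) + 1) *ᵥ Pi.single (⟨0, hn⟩ : Fin n) 1 =
      Pi.single (⟨(i : ℕ) + 1, h⟩ : Fin n) 1 from shift_pow_single hn ⟨(i : ℕ) + 1, h⟩, hcol,
      hfk, hfk, Matrix.mulVec_mulVec, ← pow_succ']
  · obtain e : (i : ℕ) + 1 = n := by omega
    rw [e, shift_pow_self, Matrix.zero_mulVec, Matrix.mulVec_zero, hfk, Matrix.mulVec_mulVec,
      ← pow_succ', e, hnil, Matrix.zero_mulVec]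

/-- `diag(t, 1, …, 1)`. -/
def scaleFirst (n : ℕ) (t : Fˣ) : GL (Fin n) F :=
  ⟨Matrix.diagonal fun i => if (i : ℕ) = 0 then (t : F) else 1,
    Matrix.diagonal fun i => if (i : ℕ) = 0 then ((t⁻¹ : Fˣ) : F) else 1,
    by rw [Matrix.diagonal_mul_diagonal, ← Matrix.diagonal_one]; congr 1; funext i; split_ifs <;> simp,
    by rw [Matrix.diagonal_mul_diagonal, ← Matrix.diagonal_one]; congr 1; funext i; split_ifs <;> simp⟩

theorem det_scaleFirst (hn : 0 < n) (t : Fˣ) : (scaleFirst n t).val.det = (t : F) := by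
  show (Matrix.diagonal _).det = _
  rw [Matrix.det_diagonal, Finset.prod_eq_single (⟨0, hn⟩ : Fin n)
    (fun b _ hb => if_neg fun e => hb (Fin.ext e)) (by simp)]
  simp

/-- The representative attached to `t`. -/
def rep (n : ℕ) (t : Fˣ) : SpecialLinearGroup (Fin n) F :=
  ⟨(scaleFirst n t).val * (1 + shift F n) * (scaleFirst n t).inv, by
    rw [Matrix.det_mul, Matrix.det_mul, mul_right_comm, ← Matrix.det_mul, Units.val_inv, Matrix.det_one,
      one_mul, Matrix.det_of_lowerTriangular _ fun i j hij => ?_]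
    · refine Finset.prod_eq_one fun i _ => ?_
      simp [shift]
    · have h : (i : ℕ) < (j : ℕ) := hij
      simp [shift, Fin.ext_iff, Nat.ne_of_lt h, show (i : ℕ) ≠ (j : ℕ) + 1 by omega]⟩

theorem conj_pow (P : GL (Fin n) F) (A : Matrix (Fin n) (Fin n) F) (k : ℕ) :
    (P.val * A * P.inv) ^ k = P.val * A ^ k * P.inv := by
  induction k with
  | zero => simp [Units.val_inv]
  | succ k ih =>
    rw [pow_succ, ih, pow_succ]
    simp only [mul_assoc]
    rw [← mul_assoc P.inv P.val, Units.inv_val, one_mul]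

theorem rep_regular (hn : 0 < n) (t : Fˣ) :
    ((rep n t : Matrix (Fin n) (Fin n) F) - 1) ^ n = 0 ∧
      ((rep n t : Matrix (Fin n) (Fin n) F) - 1).rank = n - 1 := by
  have h : (rep n t : Matrix (Fin n) (Fin n) F) - 1 =
      (scaleFirst n t).val * shift F n * (scaleFirst n t).inv := by
    show (scaleFirst n t).val * (1 + shift F n) * (scaleFirst n t).inv - 1 = _
    rw [mul_add, mul_one, add_mul, Units.val_inv, add_sub_cancel_left]
  refine ⟨by rw [h, conj_pow, shift_pow_self, mul_zero, zero_mul], ?_⟩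
  rw [h, Matrix.rank_mul_eq_left_of_isUnit_det _ _ ?_, Matrix.rank_mul_eq_right_of_isUnit_det _ _ ?_,
    shift_rank hn]
  · exact (scaleFirst n t).isUnit.map Matrix.detMonoidHom
  · exact (scaleFirst n t)⁻¹.isUnit.map Matrix.detMonoidHom

theorem rep_conj_iff (hn : 0 < n) (t t' : Fˣ) :
    IsConj (rep n t) (rep n t') ↔ t / t' ∈ (powMonoidHom n : Fˣ →* Fˣ).range := by
  set D := scaleFirst (F := F) n t with hD
  set D' := scaleFirst (F := F) n t' with hD'
  rw [isConj_iff]
  constructor
  · rintro ⟨s, hs⟩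
    have h0 := mul_inv_eq_iff_eq_mul.1 hs
    have h1 : s.1 * (D.val * (1 + shift F n) * D.inv) = D'.val * (1 + shift F n) * D'.inv * s.1 :=
      congrArg Subtype.val h0
    set C := D'.inv * s.1 * D.val with hC
    have hcomm : C * shift F n = shift F n * C := by
      have h2 : C * (1 + shift F n) = (1 + shift F n) * C := by
        calc C * (1 + shift F n) = D'.inv * (s.1 * (D.val * (1 + shift F n) * D.inv)) * D.val := by
              simp only [hC, mul_assoc, Units.inv_val, mul_one]
          _ = _ := by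
              rw [h1]
              simp only [hC, ← mul_assoc, Units.inv_val, one_mul]
      rwa [mul_add, add_mul, mul_one, one_mul, add_right_inj] at h2
    have hdet := commute_det hn hcomm
    have h3 : C.det = (t : F) / (t' : F) := by
      have h4 : D'.inv.det = ((t' : F))⁻¹ := by
        refine eq_inv_of_mul_eq_one_left ?_
        rw [← det_scaleFirst hn t', ← Matrix.det_mul, Units.inv_val, Matrix.det_one]
      rw [hC, Matrix.det_mul, Matrix.det_mul, s.2, h4, det_scaleFirst hn, mul_one, div_eq_inv_mul]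
    rw [h3] at hdet
    have hc0 : C ⟨0, hn⟩ ⟨0, hn⟩ ≠ 0 := fun h => by
      rw [h, zero_pow hn.ne'] at hdet
      exact div_ne_zero t.ne_zero t'.ne_zero hdet
    exact ⟨Units.mk0 _ hc0, Units.ext (by simp [hdet])⟩
  · rintro ⟨c, hc⟩
    have hcv : (c : F) ^ n = (t : F) / (t' : F) := by
      rw [← Units.val_pow_eq_pow_val, show c ^ n = t / t' from hc]
      simp
    let s : SpecialLinearGroup (Fin n) F := ⟨(c : F) • (D'.val * D.inv), by
      have h4 : D.inv.det = ((t : F))⁻¹ := by
        refine eq_inv_of_mul_eq_one_left ?_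
        rw [← det_scaleFirst hn t, ← Matrix.det_mul, Units.inv_val, Matrix.det_one]
      rw [Matrix.det_smul, Fintype.card_fin, hcv, Matrix.det_mul, det_scaleFirst hn, h4]
      field_simp⟩
    refine ⟨s, mul_inv_eq_iff_eq_mul.2 (Subtype.ext ?_)⟩
    show (c : F) • (D'.val * D.inv) * (D.val * (1 + shift F n) * D.inv) =
      D'.val * (1 + shift F n) * D'.inv * ((c : F) • (D'.val * D.inv))
    simp only [smul_mul_assoc, mul_smul_comm, mul_assoc]
    rw [← mul_assoc D.inv D.val, Units.inv_val, one_mul, ← mul_assoc D'.inv D'.val, Units.inv_val,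
      one_mul]

variable [Fintype F]

theorem card_classes (hn : 0 < n) :
    Nat.card {C : ConjClasses (SpecialLinearGroup (Fin n) F) // ∃ u : SpecialLinearGroup (Fin n) F,
      ConjClasses.mk u = C ∧ ((u : Matrix (Fin n) (Fin n) F) - 1) ^ n = 0 ∧
      ((u : Matrix (Fin n) (Fin n) F) - 1).rank = n - 1} = Nat.gcd n (Fintype.card F - 1) := by
  classical
  let R : Subgroup Fˣ := (powMonoidHom n).range
  have key : ∀ a b : Fˣ, (QuotientGroup.leftRel R) a b →
      ConjClasses.mk (rep n a) = ConjClasses.mk (rep n b) := fun a b h => by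
    rw [ConjClasses.mk_eq_mk_iff_isConj, rep_conj_iff hn]
    have := R.inv_mem (QuotientGroup.leftRel_apply.1 h)
    show a / b ∈ R
    simpa [-MonoidHom.mem_range, div_eq_mul_inv, mul_comm, R] using this
  let g : Fˣ ⧸ R → {C : ConjClasses (SpecialLinearGroup (Fin n) F) // ∃ u : SpecialLinearGroup (Fin n) F,
      ConjClasses.mk u = C ∧ ((u : Matrix (Fin n) (Fin n) F) - 1) ^ n = 0 ∧
      ((u : Matrix (Fin n) (Fin n) F) - 1).rank = n - 1} :=
    Quotient.lift (fun t => ⟨ConjClasses.mk (rep n t), rep n t, rfl, rep_regular hn t⟩)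
      fun a b h => Subtype.ext (key a b h)
  rw [← Nat.card_congr (Equiv.ofBijective g ⟨?_, ?_⟩), ← Subgroup.index_eq_card,
    IsCyclic.index_powMonoidHom_range, Nat.card_units, Nat.card_eq_fintype_card, Nat.gcd_comm]
  · rintro ⟨a⟩ ⟨b⟩ h
    have h1 := (rep_conj_iff hn a b).1 (ConjClasses.mk_eq_mk_iff_isConj.1 (congrArg Subtype.val h))
    refine Quotient.sound (QuotientGroup.leftRel_apply.2 ?_)
    have := R.inv_mem h1
    simpa [div_eq_mul_inv, mul_comm] using this
  · rintro ⟨_, u, rfl, hnil, hrank⟩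
    obtain ⟨P, hP⟩ := exists_conj hn hnil hrank
    let t : Fˣ := GeneralLinearGroup.det P
    refine ⟨QuotientGroup.mk t, Subtype.ext (ConjClasses.mk_eq_mk_iff_isConj.2 (isConj_iff.2 ?_))⟩
    refine ⟨⟨P.val * (scaleFirst n t).inv, ?_⟩, mul_inv_eq_iff_eq_mul.2 (Subtype.ext ?_)⟩
    · have h4 : (scaleFirst n t).inv.det = ((t : F))⁻¹ := by
        refine eq_inv_of_mul_eq_one_left ?_
        rw [← det_scaleFirst hn t, ← Matrix.det_mul, Units.inv_val, Matrix.det_one]
      rw [Matrix.det_mul, h4]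
      exact mul_inv_cancel₀ t.ne_zero
    · show P.val * (scaleFirst n t).inv * ((scaleFirst n t).val * (1 + shift F n) * (scaleFirst n t).inv) =
        u.1 * (P.val * (scaleFirst n t).inv)
      simp only [mul_assoc]
      rw [← mul_assoc (scaleFirst n t).inv, Units.inv_val, one_mul, ← mul_assoc u.1, ← mul_assoc P.val,
        mul_add, mul_one, ← hP, sub_mul, one_mul, add_sub_cancel]

end Cfsg.Agent.RegUnipClasses
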