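import Mathlib
import Cfsg.Prelude.Def_ClassicalGeometry

/-! Rank-one matrices, transitivity lemmas for `SL`, normal form of a transvection. -/

set_option autoImplicit false

namespace Cfsg.Agent.Classical

open Matrix

variable {F : Type*} [Field F]

theorem exists_vecMulVec_of_rank_eq_one {n : Type*} [Fintype n] [DecidableEq n] {M : Matrix n n F}
    (h : M.rank = 1) : ∃ v φ : n → F, v ≠ 0 ∧ φ ≠ 0 ∧ M = Matrix.vecMulVec v φ := by
  rw [Matrix.rank] at h
  obtain ⟨⟨v, hv⟩, hv0, hall⟩ := finrank_eq_one_iff'.1 h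
  have hc : ∀ j, ∃ c : F, c • v = M *ᵥ Pi.single j 1 := fun j => by
    obtain ⟨c, hc⟩ := hall ⟨M *ᵥ Pi.single j 1, LinearMap.mem_range_self M.mulVecLin (Pi.single j 1)⟩
    exact ⟨c, congrArg Subtype.val hc⟩
  choose φ hφ using hc
  have hM : M = Matrix.vecMulVec v φ := by
    ext i j
    have := congrFun (hφ j) i
    rw [Matrix.mulVec_single_one] at this
    rw [Matrix.vecMulVec_apply]
    simpa [mul_comm] using this.symm
  refine ⟨v, φ, fun h0 => hv0 (Subtype.ext h0), ?_, hM⟩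
  rintro rfl
  obtain ⟨x, hx⟩ := hv
  apply hv0
  refine Subtype.ext ?_
  show v = 0
  rw [← hx, hM]; simp

theorem dotProduct_eq_zero_of_vecMulVec_sq {n : Type*} [Fintype n] {v φ : n → F} (hv : v ≠ 0)
    (hφ : φ ≠ 0) (h : Matrix.vecMulVec v φ * Matrix.vecMulVec v φ = 0) : φ ⬝ᵥ v = 0 := by
  by_contra hd
  obtain ⟨i, hi⟩ := Function.ne_iff.1 hv
  obtain ⟨j, hj⟩ := Function.ne_iff.1 hφ
  have := congrFun (congrFun h i) j
  rw [Matrix.vecMulVec_mul_vecMulVec] at this
  simp [Matrix.vecMulVec_apply] at this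
  simp [hd, hi, hj] at this
  tauto

theorem vecMulVec_conj {n : Type*} [Fintype n] (A B : Matrix n n F) (v φ : n → F) :
    A * Matrix.vecMulVec v φ * B = Matrix.vecMulVec (A *ᵥ v) (φ ᵥ* B) := by
  rw [Matrix.mul_vecMulVec, Matrix.vecMulVec_mul]

/-- An invertible matrix whose `i`-th column is a given vector, built from a substitution and a swap. -/
theorem exists_isUnit_det_col {n : Type*} [Fintype n] [DecidableEq n] (v : n → F) (i j : n)
    (hj : v j ≠ 0) :
    ∃ M : Matrix n n F, M.det ≠ 0 ∧ M *ᵥ Pi.single i 1 = v ∧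
      ∀ k, k ≠ i → k ≠ j → v k = 0 → (Pi.single k 1 : n → F) ᵥ* M = Pi.single k 1 := by
  refine ⟨((1 : Matrix n n F).updateCol j v).submatrix id (Equiv.swap i j), ?_, ?_, ?_⟩
  · rw [Matrix.det_permute']
    have : ((1 : Matrix n n F).updateCol j v).det = v j := by
      rw [← Matrix.cramer_apply, Matrix.cramer_one]; rfl
    rw [this]
    exact mul_ne_zero (by rcases Int.units_eq_one_or (Equiv.Perm.sign (Equiv.swap i j)) with h | h <;>
      simp [h]) hj
  · ext a
    rw [Matrix.mulVec_single_one]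
    simp [Matrix.updateCol_self]
  · intro k hki hkj hk
    ext b
    rw [Matrix.single_one_vecMul]
    simp only [Matrix.submatrix_apply, id, Matrix.row_apply]
    rcases eq_or_ne b i with rfl | hbi
    · rw [Equiv.swap_apply_left, Matrix.updateCol_self, hk, Pi.single_eq_of_ne hki.symm]
    rcases eq_or_ne b j with rfl | hbj
    · rw [Equiv.swap_apply_right, Matrix.updateCol_ne (fun h => hbi h.symm),
        Matrix.one_apply_ne hki, Pi.single_eq_of_ne hkj.symm]
    · rw [Equiv.swap_apply_of_ne_of_ne hbi hbj, Matrix.updateCol_ne hbj, Matrix.one_apply,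
        Pi.single_apply]
      simp [eq_comm]

/-- Scale one basis direction to make the determinant one. -/
theorem exists_sl_of_det_ne_zero {n : Type*} [Fintype n] [DecidableEq n] (M : Matrix n n F)
    (hM : M.det ≠ 0) (i : n) :
    ∃ g : Matrix.SpecialLinearGroup n F,
      (g : Matrix n n F) = M * Matrix.diagonal (Function.update (fun _ => (1 : F)) i M.det⁻¹) :=
  ⟨⟨_, by
    rw [Matrix.det_mul, Matrix.det_diagonal, Finset.prod_update_of_mem (Finset.mem_univ i)]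
    simp [hM]⟩, rfl⟩

/-- A non-zero square-zero rank one matrix is `SL`-conjugate to one in the first column. -/
theorem exists_sl_conj_col {k : ℕ} {v φ : Fin (k + 2) → F} (hφ : φ ≠ 0) (h : φ ⬝ᵥ v = 0) :
    ∃ (g : Matrix.SpecialLinearGroup (Fin (k + 2)) F) (w : Fin (k + 2) → F), w 0 = 0 ∧
      ((g⁻¹ : Matrix.SpecialLinearGroup (Fin (k + 2)) F) : Matrix (Fin (k + 2)) (Fin (k + 2)) F) *
        Matrix.vecMulVec v φ * (g : Matrix (Fin (k + 2)) (Fin (k + 2)) F) =
        Matrix.vecMulVec w (Pi.single 0 1) := by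
  obtain ⟨j, hj⟩ := Function.ne_iff.1 hφ
  obtain ⟨M, hM, hM0, -⟩ := exists_isUnit_det_col φ 0 j hj
  -- `A = Mᵀ` has first row `φ`
  obtain ⟨g0, hg0⟩ := exists_sl_of_det_ne_zero M hM 1
  have hrow : (Pi.single 0 1 : Fin (k + 2) → F) ᵥ* (g0 : Matrix (Fin (k + 2)) (Fin (k + 2)) F)ᵀ = φ := by
    rw [Matrix.vecMul_transpose, hg0, ← Matrix.mulVec_mulVec, Matrix.mulVec_single]
    simp [Function.update_of_ne (show (0 : Fin (k + 2)) ≠ 1 by simp)]
    rw [← hM0]; simp
  let A : Matrix.SpecialLinearGroup (Fin (k + 2)) F := ⟨(g0 : Matrix (Fin (k + 2)) (Fin (k + 2)) F)ᵀ, by simp⟩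
  refine ⟨A⁻¹, (A : Matrix (Fin (k + 2)) (Fin (k + 2)) F) *ᵥ v, ?_, ?_⟩
  · rw [← single_one_dotProduct (α := F) 0 ((A : Matrix (Fin (k + 2)) (Fin (k + 2)) F) *ᵥ v), Matrix.dotProduct_mulVec, hrow, h]
  · rw [inv_inv, vecMulVec_conj]
    congr 1
    rw [← hrow, Matrix.vecMul_vecMul]
    rw [show (g0 : Matrix (Fin (k + 2)) (Fin (k + 2)) F)ᵀ = (A : Matrix (Fin (k + 2)) (Fin (k + 2)) F) from rfl, ← Matrix.SpecialLinearGroup.coe_mul,
      mul_inv_cancel, Matrix.SpecialLinearGroup.coe_one, Matrix.vecMul_one]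

/-- For `n ≥ 3` every transvection is conjugate to `1 + E₁₀`. -/
theorem exists_sl_conj_std {k : ℕ} (t : Matrix.SpecialLinearGroup (Fin (k + 3)) F)
    (ht : IsTransvection (t : Matrix (Fin (k + 3)) (Fin (k + 3)) F)) :
    ∃ g : Matrix.SpecialLinearGroup (Fin (k + 3)) F,
      ((g⁻¹ * t * g : Matrix.SpecialLinearGroup (Fin (k + 3)) F) : Matrix (Fin (k + 3)) (Fin (k + 3)) F) =
        1 + Matrix.vecMulVec (Pi.single 1 1) (Pi.single 0 1) := by
  obtain ⟨v, φ, hv, hφ, hM⟩ := exists_vecMulVec_of_rank_eq_one ht.1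
  have h0 := dotProduct_eq_zero_of_vecMulVec_sq hv hφ (hM ▸ ht.2)
  obtain ⟨g, w, hw0, hg⟩ := exists_sl_conj_col hφ h0
  have hw : w ≠ 0 := by
    rintro rfl
    rw [Matrix.zero_vecMulVec] at hg
    have h' := congrArg (fun X => (g : Matrix (Fin (k + 3)) (Fin (k + 3)) F) * X *
      ((g⁻¹ : Matrix.SpecialLinearGroup (Fin (k + 3)) F) : Matrix (Fin (k + 3)) (Fin (k + 3)) F)) hg
    simp only [← Matrix.mul_assoc, ← Matrix.SpecialLinearGroup.coe_mul, mul_inv_cancel,
      Matrix.SpecialLinearGroup.coe_one, one_mul, mul_zero, zero_mul] at h'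
    rw [Matrix.mul_assoc, ← Matrix.SpecialLinearGroup.coe_mul, mul_inv_cancel,
      Matrix.SpecialLinearGroup.coe_one, mul_one, ← hM, sub_eq_zero] at h'
    have := ht.1
    rw [h', sub_self] at this
    simp at this
  obtain ⟨j, hj⟩ := Function.ne_iff.1 hw
  have hj0 : j ≠ 0 := fun h => hj (h ▸ hw0)
  obtain ⟨K, hK, hK1, hKrow⟩ := exists_isUnit_det_col w 1 j hj
  have hK0 := hKrow 0 (by simp) hj0.symm hw0
  obtain ⟨c, hc⟩ := exists_sl_of_det_ne_zero K hK 2
  have hne1 : (1 : Fin (k + 3)) ≠ 2 := by simp [Fin.ext_iff, Nat.mod_eq_of_lt (show 2 < k + 3 by omega)]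
  have hne0 : (0 : Fin (k + 3)) ≠ 2 := by simp [Fin.ext_iff, Nat.mod_eq_of_lt (show 2 < k + 3 by omega)]
  have hcol : (c : Matrix (Fin (k + 3)) (Fin (k + 3)) F) *ᵥ Pi.single 1 1 = w := by
    rw [hc, ← Matrix.mulVec_mulVec, Matrix.diagonal_mulVec_single, Function.update_of_ne hne1,
      one_mul, hK1]
  have hrow : (Pi.single 0 1 : Fin (k + 3) → F) ᵥ* (c : Matrix (Fin (k + 3)) (Fin (k + 3)) F) = Pi.single 0 1 := by
    rw [hc, ← Matrix.vecMul_vecMul, hK0]
    ext b
    rw [Matrix.vecMul_diagonal]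
    rcases eq_or_ne b 0 with rfl | hb
    · rw [Function.update_of_ne hne0, mul_one]
    · simp [hb]
  refine ⟨g * c, ?_⟩
  have ht' : (t : Matrix (Fin (k + 3)) (Fin (k + 3)) F) = 1 + Matrix.vecMulVec v φ := by rw [← hM]; abel
  rw [Matrix.SpecialLinearGroup.coe_mul, Matrix.SpecialLinearGroup.coe_mul, ht', Matrix.mul_add,
    mul_one, Matrix.add_mul, ← Matrix.SpecialLinearGroup.coe_mul, inv_mul_cancel,
    Matrix.SpecialLinearGroup.coe_one, _root_.mul_inv_rev, Matrix.SpecialLinearGroup.coe_mul,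
    Matrix.SpecialLinearGroup.coe_mul]
  congr 1
  calc ((c⁻¹ : Matrix.SpecialLinearGroup (Fin (k + 3)) F) : Matrix (Fin (k + 3)) (Fin (k + 3)) F) *
        ((g⁻¹ : Matrix.SpecialLinearGroup (Fin (k + 3)) F) : Matrix (Fin (k + 3)) (Fin (k + 3)) F) *
        Matrix.vecMulVec v φ * ((g : Matrix (Fin (k + 3)) (Fin (k + 3)) F) * (c : Matrix (Fin (k + 3)) (Fin (k + 3)) F))
      = ((c⁻¹ : Matrix.SpecialLinearGroup (Fin (k + 3)) F) : Matrix (Fin (k + 3)) (Fin (k + 3)) F) *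
        (((g⁻¹ : Matrix.SpecialLinearGroup (Fin (k + 3)) F) : Matrix (Fin (k + 3)) (Fin (k + 3)) F) *
          Matrix.vecMulVec v φ * (g : Matrix (Fin (k + 3)) (Fin (k + 3)) F)) * (c : Matrix (Fin (k + 3)) (Fin (k + 3)) F) := by
        simp only [Matrix.mul_assoc]
    _ = _ := by
        rw [hg, vecMulVec_conj, hrow, ← hcol, Matrix.mulVec_mulVec,
          ← Matrix.SpecialLinearGroup.coe_mul, inv_mul_cancel, Matrix.SpecialLinearGroup.coe_one,
          Matrix.one_mulVec]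

end Cfsg.Agent.Classical
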