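import Mathlib
import Cfsg.Agent.Lib.Classical.Transvection
import Cfsg.Agent.Lib.Classical.SLGroup

/-!
Orders of the centralizers of a transvection and of a regular unipotent element in `GL(n, q)`.
-/

set_option autoImplicit false

namespace Cfsg.Agent.Classical.GLCentralizer

open Matrix

variable {F : Type*} [Field F]

theorem finrank_ker_pow_le {V : Type*} [AddCommGroup V] [Module F V] [FiniteDimensional F V]
    (f : Module.End F V) (h : Module.finrank F (LinearMap.ker f) ≤ 1) :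
    ∀ k, Module.finrank F (LinearMap.ker (f ^ k)) ≤ k
  | 0 => by rw [pow_zero, Module.End.one_eq_id, LinearMap.ker_id, finrank_bot]
  | k + 1 => by
    have ih := finrank_ker_pow_le f h k
    set R := (f.domRestrict (LinearMap.ker (f ^ (k + 1)))) with hR
    have h1 := R.finrank_range_add_finrank_ker
    have h2 : LinearMap.range R ≤ LinearMap.ker (f ^ k) := by
      rintro _ ⟨⟨x, hx⟩, rfl⟩
      rw [LinearMap.mem_ker, pow_succ] at hx
      exact hx
    have h3 : Module.finrank F (LinearMap.ker R) ≤ Module.finrank F (LinearMap.ker f) := by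
      let g : LinearMap.ker R →ₗ[F] LinearMap.ker f :=
        { toFun := fun x => ⟨(x.1 : V), x.2⟩
          map_add' := fun _ _ => rfl
          map_smul' := fun _ _ => rfl }
      exact LinearMap.finrank_le_finrank_of_injective (f := g) fun x y hxy =>
        Subtype.ext (Subtype.ext (congrArg (fun z : LinearMap.ker f => (z : V)) hxy :))
    have := Submodule.finrank_mono h2
    omega

theorem li_pow {V : Type*} [AddCommGroup V] [Module F V] (f : Module.End F V) {n : ℕ} {v : V}
    (hf : f ^ n = 0) (hv : (f ^ (n - 1)) v ≠ 0) :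
    LinearIndependent F fun i : Fin n => (f ^ (i : ℕ)) v := by
  classical
  rw [Fintype.linearIndependent_iff]
  intro a ha
  have key : ∀ j : ℕ, ∀ i : Fin n, (i : ℕ) = j → a i = 0 := by
    intro j
    induction j using Nat.strong_induction_on with
    | _ j ih =>
      intro i hi
      have h1 := congrArg (f ^ (n - 1 - j)) ha
      rw [map_sum, map_zero, Finset.sum_eq_single i] at h1
      · rw [map_smul, ← Module.End.mul_apply, ← pow_add, hi,
          show n - 1 - j + j = n - 1 by omega] at h1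
        exact (smul_eq_zero.1 h1).resolve_right hv
      · intro b _ hb
        rcases Nat.lt_or_ge (b : ℕ) j with hlt | hge
        · rw [ih b hlt b rfl, zero_smul, map_zero]
        · have hne : (b : ℕ) ≠ j := fun e => hb (Fin.ext (e.trans hi.symm))
          rw [map_smul, ← Module.End.mul_apply, ← pow_add,
            pow_eq_zero_of_le (by omega : n ≤ n - 1 - j + (b : ℕ)) hf]
          simp
      · simp
  exact fun i => key i i rfl

variable [Fintype F]

theorem card_regular_centralizer {n : ℕ} (hn : 1 ≤ n) (u : GL (Fin n) F)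
    (hnil : ((u : Matrix (Fin n) (Fin n) F) - 1) ^ n = 0)
    (hreg : ((u : Matrix (Fin n) (Fin n) F) - 1).rank = n - 1) :
    Nat.card (Subgroup.centralizer ({u} : Set (GL (Fin n) F))) =
      (Fintype.card F - 1) * Fintype.card F ^ (n - 1) := by
  classical
  let f : Module.End F (Fin n → F) := Matrix.toLinAlgEquiv' ((u : Matrix (Fin n) (Fin n) F) - 1)
  have happ : ∀ v, f v = ((u : Matrix (Fin n) (Fin n) F) - 1).mulVec v := fun v => rfl
  have hfn : f ^ n = 0 := by rw [← map_pow, hnil, map_zero]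
  have hker : Module.finrank F (LinearMap.ker f) ≤ 1 := by
    have h1 := f.finrank_range_add_finrank_ker
    have h2 : Module.finrank F (LinearMap.range f) = n - 1 := hreg
    rw [Module.finrank_fin_fun] at h1
    omega
  have hle := finrank_ker_pow_le f hker (n - 1)
  have hrange : LinearMap.range (f ^ (n - 1)) ≤ LinearMap.ker f := by
    rintro _ ⟨x, rfl⟩
    rw [LinearMap.mem_ker, ← Module.End.mul_apply, ← pow_succ', show n - 1 + 1 = n by omega, hfn]
    rfl
  have hK : Module.finrank F (LinearMap.ker (f ^ (n - 1))) = n - 1 := by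
    have h1 := (f ^ (n - 1)).finrank_range_add_finrank_ker
    have h2 := Submodule.finrank_mono hrange
    rw [Module.finrank_fin_fun] at h1
    omega
  obtain ⟨v, hv⟩ : ∃ v, (f ^ (n - 1)) v ≠ 0 := by
    by_contra! hc
    rw [show LinearMap.ker (f ^ (n - 1)) = ⊤ from eq_top_iff.2 fun x _ => LinearMap.mem_ker.2 (hc x),
      finrank_top, Module.finrank_fin_fun] at hK
    omega
  haveI : Nonempty (Fin n) := ⟨⟨0, by omega⟩⟩
  let b : ∀ w, (f ^ (n - 1)) w ≠ 0 → Module.Basis (Fin n) F (Fin n → F) := fun w hw =>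
    basisOfLinearIndependentOfCardEqFinrank (li_pow f hfn hw) (by simp)
  have hb : ∀ w hw i, b w hw i = (f ^ (i : ℕ)) w := fun w hw i =>
    congrFun (coe_basisOfLinearIndependentOfCardEqFinrank _ _) i
  have hcomm : ∀ g : GL (Fin n) F, g ∈ Subgroup.centralizer ({u} : Set (GL (Fin n) F)) →
      ∀ k : ℕ, ∀ x, (f ^ k) ((g : Matrix (Fin n) (Fin n) F).mulVec x) =
        (g : Matrix (Fin n) (Fin n) F).mulVec ((f ^ k) x) := by
    intro g hg k
    have h1 : (g : Matrix (Fin n) (Fin n) F) * (u : Matrix (Fin n) (Fin n) F) =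
        (u : Matrix (Fin n) (Fin n) F) * (g : Matrix (Fin n) (Fin n) F) := by
      rw [← Matrix.GeneralLinearGroup.coe_mul, Subgroup.mem_centralizer_singleton_iff.1 hg,
        Matrix.GeneralLinearGroup.coe_mul]
    induction k with
    | zero => intro x; simp
    | succ k ih =>
      intro x
      rw [pow_succ', Module.End.mul_apply, ih, happ, Module.End.mul_apply, happ, Matrix.mulVec_mulVec,
        Matrix.mulVec_mulVec, sub_mul, one_mul, mul_sub, mul_one, h1]
  have hne : ∀ g : Subgroup.centralizer ({u} : Set (GL (Fin n) F)),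
      (f ^ (n - 1)) (((g : GL (Fin n) F) : Matrix (Fin n) (Fin n) F).mulVec v) ≠ 0 := by
    intro g h0
    rw [hcomm _ g.2] at h0
    apply hv
    have := congrArg (((g : GL (Fin n) F)⁻¹ : GL (Fin n) F) : Matrix (Fin n) (Fin n) F).mulVec h0
    rwa [Matrix.mulVec_mulVec, ← Matrix.GeneralLinearGroup.coe_mul, inv_mul_cancel,
      Matrix.GeneralLinearGroup.coe_one, Matrix.one_mulVec, Matrix.mulVec_zero] at this
  have hcard : Nat.card (Subgroup.centralizer ({u} : Set (GL (Fin n) F))) =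
      Nat.card {w : Fin n → F // w ∉ LinearMap.ker (f ^ (n - 1))} := by
    refine Nat.card_congr (Equiv.ofBijective (fun g =>
      ⟨((g : GL (Fin n) F) : Matrix (Fin n) (Fin n) F).mulVec v, hne g⟩) ⟨?_, ?_⟩)
    · intro g g' hgg
      have hgv : ((g : GL (Fin n) F) : Matrix (Fin n) (Fin n) F).mulVec v =
          ((g' : GL (Fin n) F) : Matrix (Fin n) (Fin n) F).mulVec v := congrArg Subtype.val hgg
      refine Subtype.ext (Units.ext (Matrix.mulVec_injective ?_))
      have hlin : Matrix.mulVecLin ((g : GL (Fin n) F) : Matrix (Fin n) (Fin n) F) =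
          Matrix.mulVecLin ((g' : GL (Fin n) F) : Matrix (Fin n) (Fin n) F) := by
        refine (b v hv).ext fun i => ?_
        rw [Matrix.mulVecLin_apply, Matrix.mulVecLin_apply, hb v hv, ← hcomm _ g.2, ← hcomm _ g'.2, hgv]
      exact funext fun x => LinearMap.congr_fun hlin x
    · rintro ⟨w, hw⟩
      have hw' : (f ^ (n - 1)) w ≠ 0 := hw
      let e := (b v hv).equiv (b w hw') (Equiv.refl _)
      have hek : ∀ k, e ((f ^ k) v) = (f ^ k) w := by
        intro k
        rcases Nat.lt_or_ge k n with hk | hk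
        · have := (b v hv).equiv_apply ⟨k, hk⟩ (b w hw') (Equiv.refl _)
          rwa [hb v hv, Equiv.refl_apply, hb w hw'] at this
        · rw [pow_eq_zero_of_le hk hfn]; simp
      have hef : ∀ x, e (f x) = f (e x) := by
        intro x
        have : (e : (Fin n → F) →ₗ[F] (Fin n → F)).comp f = f.comp (e : (Fin n → F) →ₗ[F] (Fin n → F)) := by
          refine (b v hv).ext fun i => ?_
          rw [LinearMap.comp_apply, LinearMap.comp_apply, LinearEquiv.coe_coe, hb v hv, hek,
            ← Module.End.mul_apply, ← pow_succ', hek, ← Module.End.mul_apply, ← pow_succ']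
        exact LinearMap.congr_fun this x
      let g : GL (Fin n) F := Matrix.GeneralLinearGroup.toLin.symm
        (LinearMap.GeneralLinearGroup.ofLinearEquiv e)
      have hg : ∀ x, (g : Matrix (Fin n) (Fin n) F).mulVec x = e x := by
        intro x
        have := congrArg (fun z : LinearMap.GeneralLinearGroup F (Fin n → F) => (z : Module.End F _) x)
          (Matrix.GeneralLinearGroup.toLin.apply_symm_apply (LinearMap.GeneralLinearGroup.ofLinearEquiv e))
        exact this
      refine ⟨⟨g, Subgroup.mem_centralizer_singleton_iff.2 ?_⟩, Subtype.ext ?_⟩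
      · refine Units.ext (Matrix.mulVec_injective (funext fun x => ?_))
        simp only [Matrix.GeneralLinearGroup.coe_mul, ← Matrix.mulVec_mulVec, hg]
        have hu : ∀ y, (u : Matrix (Fin n) (Fin n) F).mulVec y = f y + y := fun y => by
          rw [happ, Matrix.sub_mulVec, Matrix.one_mulVec, sub_add_cancel]
        rw [hu, hu, map_add, hef]
      · show (g : Matrix (Fin n) (Fin n) F).mulVec v = w
        rw [hg]
        simpa using hek 0
  rw [hcard, Nat.card_eq_fintype_card, Fintype.card_subtype_compl, ← Nat.card_eq_fintype_card,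
    ← Nat.card_eq_fintype_card (α := {x // x ∈ LinearMap.ker (f ^ (n - 1))}),
    Module.natCard_eq_pow_finrank (K := F) (V := Fin n → F),
    Module.natCard_eq_pow_finrank (K := F) (V := LinearMap.ker (f ^ (n - 1))),
    Module.finrank_fin_fun, hK, Nat.card_eq_fintype_card, Nat.sub_mul, one_mul, ← pow_succ',
    show n - 1 + 1 = n by omega]

omit [Fintype F] in
theorem exists_std_pair {m : ℕ} {v φ : Fin (m + 2) → F} (hv : v ≠ 0) (hφ : φ ≠ 0) (h : φ ⬝ᵥ v = 0) :
    ∃ g : GL (Fin (m + 2)) F, (g : Matrix (Fin (m + 2)) (Fin (m + 2)) F) *ᵥ Pi.single 0 1 = v ∧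
      φ ᵥ* (g : Matrix (Fin (m + 2)) (Fin (m + 2)) F) = Pi.single (Fin.last (m + 1)) 1 := by
  obtain ⟨i, hi⟩ := Function.ne_iff.1 hv
  obtain ⟨M, hM, hM0, -⟩ := exists_isUnit_det_col v 0 i hi
  set ψ := φ ᵥ* M with hψ
  have hψ0 : ψ 0 = 0 := by
    have : ψ ⬝ᵥ Pi.single 0 1 = 0 := by rw [hψ, ← Matrix.dotProduct_mulVec, hM0, h]
    simpa using this
  have hψne : ψ ≠ 0 := by
    intro h0
    exact hφ (Matrix.eq_zero_of_vecMul_eq_zero hM h0)
  obtain ⟨j, hj⟩ := Function.ne_iff.1 hψne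
  have hj0 : j ≠ 0 := fun e => hj (e ▸ hψ0)
  obtain ⟨M', hM', hM'1, hM'2⟩ := exists_isUnit_det_col ψ (Fin.last (m + 1)) j hj
  have hne : (0 : Fin (m + 2)) ≠ Fin.last (m + 1) := by simp [Fin.ext_iff]
  have hrow := hM'2 0 hne hj0.symm hψ0
  let N : GL (Fin (m + 2)) F :=
    Matrix.GeneralLinearGroup.mkOfDetNeZero M'ᵀ (by rwa [Matrix.det_transpose])
  let G : GL (Fin (m + 2)) F := Matrix.GeneralLinearGroup.mkOfDetNeZero M hM
  have hNv : (N : Matrix (Fin (m + 2)) (Fin (m + 2)) F) = M'ᵀ := rfl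
  have hGv : (G : Matrix (Fin (m + 2)) (Fin (m + 2)) F) = M := rfl
  have hN0 : ((N⁻¹ : GL (Fin (m + 2)) F) : Matrix (Fin (m + 2)) (Fin (m + 2)) F) *ᵥ Pi.single 0 1 =
      Pi.single 0 1 := by
    have h1 : (N : Matrix (Fin (m + 2)) (Fin (m + 2)) F) *ᵥ Pi.single 0 1 = Pi.single 0 1 := by
      rw [hNv, Matrix.mulVec_transpose, hrow]
    conv_lhs => rw [← h1]
    rw [Matrix.mulVec_mulVec, ← Matrix.GeneralLinearGroup.coe_mul, inv_mul_cancel,
      Matrix.GeneralLinearGroup.coe_one, Matrix.one_mulVec]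
  refine ⟨G * N⁻¹, ?_, ?_⟩
  · rw [Matrix.GeneralLinearGroup.coe_mul, ← Matrix.mulVec_mulVec, hN0, hGv, hM0]
  · have h1 : ψ = Pi.single (Fin.last (m + 1)) 1 ᵥ* (N : Matrix (Fin (m + 2)) (Fin (m + 2)) F) := by
      rw [hNv, Matrix.vecMul_transpose, hM'1]
    rw [Matrix.GeneralLinearGroup.coe_mul, ← Matrix.vecMul_vecMul, hGv, ← hψ, h1, Matrix.vecMul_vecMul,
      ← Matrix.GeneralLinearGroup.coe_mul, mul_inv_cancel, Matrix.GeneralLinearGroup.coe_one,
      Matrix.vecMul_one]

theorem card_transvection_centralizer {m : ℕ} (t : GL (Fin (m + 2)) F)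
    (ht : IsTransvection (t : Matrix (Fin (m + 2)) (Fin (m + 2)) F)) :
    Nat.card (Subgroup.centralizer ({t} : Set (GL (Fin (m + 2)) F))) =
      (Fintype.card F - 1) * (Fintype.card F ^ (2 * m + 1) * Nat.card (GL (Fin m) F)) := by
  classical
  let M2 := Matrix (Fin (m + 2)) (Fin (m + 2)) F
  obtain ⟨v, φ, hv, hφ, hM⟩ := exists_vecMulVec_of_rank_eq_one ht.1
  have h0 := dotProduct_eq_zero_of_vecMulVec_sq hv hφ (hM ▸ ht.2)
  have hvm : ∀ (g h : GL (Fin (m + 2)) F) (x : Fin (m + 2) → F),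
      ((g * h : GL (Fin (m + 2)) F) : M2) *ᵥ x = (g : M2) *ᵥ ((h : M2) *ᵥ x) := fun g h x => by
    rw [Matrix.GeneralLinearGroup.coe_mul, Matrix.mulVec_mulVec]
  have hvv : ∀ (g h : GL (Fin (m + 2)) F) (x : Fin (m + 2) → F),
      x ᵥ* ((g * h : GL (Fin (m + 2)) F) : M2) = (x ᵥ* (g : M2)) ᵥ* (h : M2) := fun g h x => by
    rw [Matrix.GeneralLinearGroup.coe_mul, Matrix.vecMul_vecMul]
  let K : Subgroup (GL (Fin (m + 2)) F) :=
    { carrier := {g | (g : M2) *ᵥ v = v ∧ φ ᵥ* (g : M2) = φ}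
      one_mem' := ⟨by simp, by simp⟩
      mul_mem' := fun {a b} ha hb => ⟨by rw [hvm, hb.1, ha.1], by rw [hvv, ha.2, hb.2]⟩
      inv_mem' := fun {a} ha => ⟨by
          nth_rewrite 1 [← ha.1]
          rw [← hvm, inv_mul_cancel]; simp, by
          nth_rewrite 1 [← ha.2]
          rw [← hvv, mul_inv_cancel]; simp⟩ }
  -- the scalar part
  have hC : Nat.card (Subgroup.centralizer ({t} : Set (GL (Fin (m + 2)) F))) =
      (Fintype.card F - 1) * Nat.card K := by
    have ht' : (t : M2) = 1 + Matrix.vecMulVec v φ := by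
      show (t : Matrix (Fin (m + 2)) (Fin (m + 2)) F) = _
      rw [← hM]; abel
    have hiff : ∀ g : GL (Fin (m + 2)) F, g ∈ Subgroup.centralizer ({t} : Set (GL (Fin (m + 2)) F)) ↔
        Matrix.vecMulVec ((g : M2) *ᵥ v) φ = Matrix.vecMulVec v (φ ᵥ* (g : M2)) := by
      intro g
      rw [Subgroup.mem_centralizer_singleton_iff, Units.ext_iff, Units.val_mul, Units.val_mul]
      show (g : M2) * (t : M2) = (t : M2) * (g : M2) ↔ _
      rw [ht', mul_add, add_mul, mul_one, one_mul, Matrix.mul_vecMulVec, Matrix.vecMulVec_mul,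
        add_right_inj]
    obtain ⟨i, hi⟩ := Function.ne_iff.1 hv
    obtain ⟨j, hj⟩ := Function.ne_iff.1 hφ
    let sc : Fˣ → GL (Fin (m + 2)) F := fun c => Units.map (Matrix.scalar (Fin (m + 2))).toMonoidHom c
    have hsc : ∀ (c : Fˣ) (g : GL (Fin (m + 2)) F), ((sc c * g : GL (Fin (m + 2)) F) : M2) =
        (c : F) • (g : M2) := fun c g => by
      show Matrix.scalar (Fin (m + 2)) (c : F) * (g : M2) = _
      rw [Matrix.scalar_apply, ← Matrix.smul_eq_diagonal_mul]
    have hmem : ∀ (c : Fˣ) (g : K), sc c * (g : GL (Fin (m + 2)) F) ∈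
        Subgroup.centralizer ({t} : Set (GL (Fin (m + 2)) F)) := fun c g => by
      rw [hiff, hsc, Matrix.smul_mulVec, g.2.1, Matrix.vecMul_smul, g.2.2, Matrix.vecMulVec_smul,
        Matrix.smul_vecMulVec]
    rw [← Nat.card_eq_fintype_card, ← Nat.card_units, ← Nat.card_prod]
    refine (Nat.card_congr (Equiv.ofBijective (fun p : Fˣ × K =>
      (⟨sc p.1 * (p.2 : GL (Fin (m + 2)) F), hmem p.1 p.2⟩ :
        Subgroup.centralizer ({t} : Set (GL (Fin (m + 2)) F)))) ⟨?_, ?_⟩)).symm
    · rintro ⟨c, g⟩ ⟨c', g'⟩ e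
      have e' : sc c * (g : GL (Fin (m + 2)) F) = sc c' * (g' : GL (Fin (m + 2)) F) :=
        congrArg Subtype.val e
      have h1 := congrArg (fun z : GL (Fin (m + 2)) F => ((z : M2) *ᵥ v) i) e'
      simp only [hsc, Matrix.smul_mulVec, g.2.1, g'.2.1, Pi.smul_apply, smul_eq_mul] at h1
      obtain rfl : c = c' := Units.ext (mul_right_cancel₀ hi h1)
      exact Prod.ext rfl (Subtype.ext (mul_left_cancel e'))
    · rintro ⟨g, hg⟩
      rw [hiff] at hg
      set a := (φ ᵥ* (g : M2)) j / φ j with ha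
      have hgv : (g : M2) *ᵥ v = a • v := funext fun k => by
        have := congrFun (congrFun hg k) j
        rw [Matrix.vecMulVec_apply, Matrix.vecMulVec_apply] at this
        rw [Pi.smul_apply, smul_eq_mul, ha, div_mul_eq_mul_div, eq_div_iff hj, this, mul_comm]
      have hgφ : φ ᵥ* (g : M2) = a • φ := funext fun k => by
        have := congrFun (congrFun hg i) k
        rw [Matrix.vecMulVec_apply, Matrix.vecMulVec_apply, hgv, Pi.smul_apply, smul_eq_mul] at this
        refine mul_left_cancel₀ hi ?_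
        rw [← this, Pi.smul_apply, smul_eq_mul]; ring
      have ha0 : a ≠ 0 := fun e => hv (by
        have := congrArg (((g⁻¹ : GL (Fin (m + 2)) F) : M2) *ᵥ ·) hgv
        simpa [← hvm, e] using this)
      have hs : (sc (Units.mk0 a ha0))⁻¹ = sc (Units.mk0 a ha0)⁻¹ :=
        (map_inv (Units.map (Matrix.scalar (α := F) (Fin (m + 2))).toMonoidHom) (Units.mk0 a ha0)).symm
      refine ⟨⟨Units.mk0 a ha0, ⟨(sc (Units.mk0 a ha0))⁻¹ * g, ?_, ?_⟩⟩,
        Subtype.ext (mul_inv_cancel_left _ _)⟩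
      · rw [hs, hsc, Matrix.smul_mulVec, hgv, smul_smul, Units.val_inv_eq_inv_val, Units.val_mk0,
          inv_mul_cancel₀ ha0, one_smul]
      · rw [hs, hsc, Matrix.vecMul_smul, hgφ, smul_smul, Units.val_inv_eq_inv_val, Units.val_mk0,
          inv_mul_cancel₀ ha0, one_smul]
  -- the orbit
  let O := (x : {x : Fin (m + 2) → F // x ≠ 0}) × {ψ : Fin (m + 2) → F // ψ ≠ 0 ∧ ψ ⬝ᵥ x.1 = 0}
  have hO : Nat.card O = (Fintype.card F ^ (m + 2) - 1) * (Fintype.card F ^ (m + 1) - 1) := by
    have hfib : ∀ x : {x : Fin (m + 2) → F // x ≠ 0},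
        Nat.card {ψ : Fin (m + 2) → F // ψ ≠ 0 ∧ ψ ⬝ᵥ x.1 = 0} = Fintype.card F ^ (m + 1) - 1 := by
      rintro ⟨x, hx⟩
      let l : (Fin (m + 2) → F) →ₗ[F] F :=
        { toFun := fun ψ => ψ ⬝ᵥ x
          map_add' := fun a b => add_dotProduct a b x
          map_smul' := fun c a => smul_dotProduct c a x }
      have hsurj : Function.Surjective l := by
        obtain ⟨k, hk⟩ := Function.ne_iff.1 hx
        intro c
        refine ⟨Pi.single k (c / x k), ?_⟩
        show Pi.single k (c / x k) ⬝ᵥ x = c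
        rw [single_dotProduct, div_mul_cancel₀ _ hk]
      have h1 := l.finrank_range_add_finrank_ker
      rw [LinearMap.range_eq_top.2 hsurj, finrank_top, Module.finrank_self, Module.finrank_fin_fun]
        at h1
      have h2 : Nat.card (LinearMap.ker l) = Fintype.card F ^ (m + 1) := by
        rw [Module.natCard_eq_pow_finrank (K := F), Nat.card_eq_fintype_card]; congr 1; omega
      rw [Nat.card_congr (show {ψ : Fin (m + 2) → F // ψ ≠ 0 ∧ ψ ⬝ᵥ x = 0} ≃
          {z : LinearMap.ker l // z ≠ 0} from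
        { toFun := fun z => ⟨⟨z.1, z.2.2⟩, fun e => z.2.1 (congrArg Subtype.val e)⟩
          invFun := fun z => ⟨z.1.1, fun e => z.2 (Subtype.ext e), z.1.2⟩
          left_inv := fun z => rfl
          right_inv := fun z => rfl }), ← h2, Nat.card_eq_fintype_card, Nat.card_eq_fintype_card,
        Fintype.card_subtype_compl, Fintype.card_subtype_eq]
    rw [Nat.card_sigma, Finset.sum_congr rfl (fun x _ => hfib x), Finset.sum_const, Finset.card_univ,
      smul_eq_mul, Fintype.card_subtype_compl, Fintype.card_subtype_eq, Fintype.card_fun,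
      Fintype.card_fin]
  have horb : Nat.card (GL (Fin (m + 2)) F) = Nat.card O * Nat.card K := by
    rw [← Subgroup.index_mul_card K, Subgroup.index_eq_card]
    congr 1
    have hpair : ∀ g : GL (Fin (m + 2)) F,
        (φ ᵥ* ((g⁻¹ : GL (Fin (m + 2)) F) : M2)) ⬝ᵥ ((g : M2) *ᵥ v) = 0 := fun g => by
      rw [Matrix.dotProduct_mulVec, ← hvv, inv_mul_cancel]; simp [h0]
    let fO : GL (Fin (m + 2)) F → O := fun g =>
      ⟨⟨(g : M2) *ᵥ v, fun e => hv (by
          have := congrArg (((g⁻¹ : GL (Fin (m + 2)) F) : M2) *ᵥ ·) e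
          simpa [← hvm] using this)⟩,
        ⟨φ ᵥ* ((g⁻¹ : GL (Fin (m + 2)) F) : M2), fun e => hφ (by
          have := congrArg (· ᵥ* (g : M2)) e
          simpa [← hvv] using this), hpair g⟩⟩
    have hext : ∀ z z' : O, z.1.1 = z'.1.1 → z.2.1 = z'.2.1 → z = z' := by
      rintro ⟨⟨x, hx⟩, ⟨y, hy⟩⟩ ⟨⟨x', hx'⟩, ⟨y', hy'⟩⟩ (rfl : x = x') (rfl : y = y')
      rfl
    have hfib : ∀ g g', fO g = fO g' ↔ g⁻¹ * g' ∈ K := by
      intro g g'
      constructor
      · intro e
        have e1 : (g : M2) *ᵥ v = (g' : M2) *ᵥ v := congrArg (fun z : O => z.1.1) e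
        have e2 : φ ᵥ* ((g⁻¹ : GL (Fin (m + 2)) F) : M2) = φ ᵥ* ((g'⁻¹ : GL (Fin (m + 2)) F) : M2) :=
          congrArg (fun z : O => z.2.1) e
        refine ⟨?_, ?_⟩
        · rw [hvm, ← e1, ← hvm, inv_mul_cancel]; simp
        · rw [hvv, e2, ← hvv, inv_mul_cancel]; simp
      · intro hk
        refine hext _ _ ?_ ?_
        · show (g : M2) *ᵥ v = (g' : M2) *ᵥ v
          nth_rewrite 1 [← hk.1]
          rw [← hvm, mul_inv_cancel_left]
        · show φ ᵥ* ((g⁻¹ : GL (Fin (m + 2)) F) : M2) = φ ᵥ* ((g'⁻¹ : GL (Fin (m + 2)) F) : M2)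
          nth_rewrite 2 [← hk.2]
          rw [← hvv, mul_assoc, mul_inv_cancel, mul_one]
    refine Nat.card_congr (Equiv.ofBijective (Quotient.lift fO fun g g' e => (hfib g g').2
      (QuotientGroup.leftRel_apply.1 e)) ⟨?_, ?_⟩)
    · rintro ⟨g⟩ ⟨g'⟩ e
      exact Quotient.sound (QuotientGroup.leftRel_apply.2 ((hfib g g').1 e))
    · rintro ⟨⟨x, hx⟩, ⟨ψ, hψ, hψx⟩⟩
      obtain ⟨a, ha1, ha2⟩ := exists_std_pair hv hφ h0
      obtain ⟨b, hb1, hb2⟩ := exists_std_pair hx hψ hψx
      refine ⟨Quotient.mk'' (b * a⁻¹), hext _ _ ?_ ?_⟩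
      · show ((b * a⁻¹ : GL (Fin (m + 2)) F) : M2) *ᵥ v = x
        rw [hvm, ← ha1, ← hvm a⁻¹ a, inv_mul_cancel, Units.val_one, Matrix.one_mulVec, hb1]
      · show φ ᵥ* (((b * a⁻¹)⁻¹ : GL (Fin (m + 2)) F) : M2) = ψ
        rw [_root_.mul_inv_rev, inv_inv, hvv, ha2, ← hb2, ← hvv, mul_inv_cancel, Units.val_one,
          Matrix.vecMul_one]
  rw [hC, hO, Matrix.card_GL_field] at *
  congr 1
  set q := Fintype.card F with hq
  have h1q : 1 < q := Fintype.one_lt_card
  have hsplit : ∏ i : Fin (m + 2), (q ^ (m + 2) - q ^ (i : ℕ)) =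
      (q ^ (m + 2) - 1) * (q ^ (m + 1) - 1) * (q ^ (2 * m + 1) * ∏ i : Fin m, (q ^ m - q ^ (i : ℕ))) := by
    rw [Fin.prod_univ_succ, Fin.prod_univ_succ]
    simp only [Fin.val_zero, Fin.val_succ, pow_zero, zero_add, pow_one]
    have e1 : q ^ (m + 2) - q = q * (q ^ (m + 1) - 1) := by
      rw [Nat.mul_sub, mul_one, ← pow_succ']
    have e2 : ∀ i : ℕ, q ^ (m + 2) - q ^ (i + 1 + 1) = q ^ 2 * (q ^ m - q ^ i) := fun i => by
      rw [Nat.mul_sub, ← pow_add, ← pow_add]; congr 2 <;> omega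
    simp only [e1, e2, Finset.prod_mul_distrib, Finset.prod_const, Finset.card_univ, Fintype.card_fin]
    rw [← pow_mul]
    ring
  rw [hsplit] at horb
  have hpos : 0 < (q ^ (m + 2) - 1) * (q ^ (m + 1) - 1) := Nat.mul_pos
    (Nat.sub_pos_of_lt (Nat.one_lt_pow (by omega) h1q))
    (Nat.sub_pos_of_lt (Nat.one_lt_pow (by omega) h1q))
  exact (Nat.eq_of_mul_eq_mul_left hpos horb).symm

end Cfsg.Agent.Classical.GLCentralizer
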