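import Cfsg.Agent.Lib.Classical.SympRegularExists
import Cfsg.Agent.Lib.Classical.TransvectionCentralizer
import Cfsg.Agent.Lib.Classical.Symp

/-! Regular unipotent elements of `Sp_2m(q)`, `q` odd: centraliser and classes. -/

set_option autoImplicit false

namespace Cfsg.Agent.SympRegularUnipotent

open Matrix Cfsg.Agent.Classical

variable {F : Type*} [Field F]

section Regular

variable {ι : Type*} [Fintype ι] [DecidableEq ι] {n : ℕ}

/-- A cyclic basis of a regular nilpotent matrix. -/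
theorem exists_basis (hι : Fintype.card ι = n) {N : Matrix ι ι F} (h0 : N ^ n = 0) (h1 : N ^ (n - 1) ≠ 0) :
    ∃ (v : ι → F) (b : Module.Basis (Fin n) F (ι → F)), ∀ i, b i = N ^ (i : ℕ) *ᵥ v := by
  obtain ⟨v, hv⟩ : ∃ v, N ^ (n - 1) *ᵥ v ≠ 0 := by
    by_contra! hc
    exact h1 (Matrix.ext_iff_mulVec.2 fun x => by rw [hc, Matrix.zero_mulVec])
  let f : Module.End F (ι → F) := Matrix.toLinAlgEquiv' N
  have hf : ∀ k x, (f ^ k) x = N ^ k *ᵥ x := fun k x => by rw [← map_pow]; rfl
  have hli : LinearIndependent F fun i : Fin n => (f ^ (i : ℕ)) v :=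
    GLCentralizer.li_pow f (by rw [← map_pow, h0, map_zero]) (by rw [hf]; exact hv)
  refine ⟨v, Module.Basis.mk hli (top_le_iff.2 (hli.span_eq_top_of_card_eq_finrank'
    (by simp [hι]))), fun i => ?_⟩
  rw [Module.Basis.mk_apply, hf]

/-- Regular nilpotent matrices are similar. -/
theorem exists_similar (hι : Fintype.card ι = n) {N N' : Matrix ι ι F} (h0 : N ^ n = 0) (h1 : N ^ (n - 1) ≠ 0)
    (h0' : N' ^ n = 0) (h1' : N' ^ (n - 1) ≠ 0) : ∃ P : GL ι F, P.val * N = N' * P.val := by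
  obtain ⟨v, b, hb⟩ := exists_basis hι h0 h1
  obtain ⟨v', b', hb'⟩ := exists_basis hι h0' h1'
  let e : (ι → F) ≃ₗ[F] (ι → F) := b.equiv b' (Equiv.refl _)
  obtain ⟨P, hP⟩ : IsUnit (LinearMap.toMatrixAlgEquiv' (e : (ι → F) →ₗ[F] (ι → F))) :=
    IsUnit.map LinearMap.toMatrixAlgEquiv' (LinearMap.GeneralLinearGroup.ofLinearEquiv e).isUnit
  have hPe : ∀ x, P.val *ᵥ x = e x := fun x => by
    show Matrix.toLinAlgEquiv' P.val x = _
    rw [hP, Matrix.toLinAlgEquiv'_toMatrixAlgEquiv']; rfl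
  refine ⟨P, Matrix.toLinAlgEquiv'.injective (b.ext fun i => ?_)⟩
  show (P.val * N) *ᵥ b i = (N' * P.val) *ᵥ b i
  rw [← Matrix.mulVec_mulVec, ← Matrix.mulVec_mulVec, hPe, hPe, Module.Basis.equiv_apply, Equiv.refl_apply, hb', hb,
    Matrix.mulVec_mulVec, ← pow_succ', Matrix.mulVec_mulVec, ← pow_succ']
  by_cases h : (i : ℕ) + 1 < n
  · rw [← hb ⟨_, h⟩, Module.Basis.equiv_apply, Equiv.refl_apply, hb']
  · rw [pow_eq_zero_of_le (by omega) h0, pow_eq_zero_of_le (by omega) h0', Matrix.zero_mulVec, Matrix.zero_mulVec,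
      map_zero]

/-- Polynomials in a nilpotent matrix. -/
def poly (w : Matrix ι ι F) (c : Fin n → F) : Matrix ι ι F := ∑ i : Fin n, c i • w ^ (i : ℕ)

theorem poly_commute (w : Matrix ι ι F) (c : Fin n → F) : Commute w (poly w c) :=
  Commute.sum_right _ _ _ fun i _ => ((Commute.refl w).pow_right _).smul_right _

theorem poly_injective (hι : Fintype.card ι = n) {w : Matrix ι ι F} (h0 : w ^ n = 0) (h1 : w ^ (n - 1) ≠ 0) :
    Function.Injective (poly (n := n) w) := by
  obtain ⟨v, b, hb⟩ := exists_basis hι h0 h1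
  intro c c' e
  have h := congrArg (fun M => b.repr (M *ᵥ v)) e
  simp only [poly, Matrix.sum_mulVec, Matrix.smul_mulVec, ← hb, map_sum, map_smul, b.repr_self] at h
  funext i
  have := DFunLike.congr_fun h i
  simpa [Finsupp.single_apply] using this

theorem exists_poly (hι : Fintype.card ι = n) {w : Matrix ι ι F} (h0 : w ^ n = 0) (h1 : w ^ (n - 1) ≠ 0)
    {C : Matrix ι ι F} (hC : Commute w C) : ∃ c : Fin n → F, C = poly w c := by
  obtain ⟨v, b, hb⟩ := exists_basis hι h0 h1
  refine ⟨b.repr (C *ᵥ v), Matrix.toLinAlgEquiv'.injective (b.ext fun j => ?_)⟩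
  show C *ᵥ b j = poly w _ *ᵥ b j
  rw [hb, Matrix.mulVec_mulVec, ← (hC.pow_left _).eq, Matrix.mulVec_mulVec, ← ((poly_commute w _).pow_left _).eq,
    ← Matrix.mulVec_mulVec, ← Matrix.mulVec_mulVec]
  congr 1
  conv_lhs => rw [← b.sum_repr (C *ᵥ v)]
  simp [poly, Matrix.sum_mulVec, Matrix.smul_mulVec, hb]

theorem poly_mul_top {w : Matrix ι ι F} (h0 : w ^ n = 0) (hn : 0 < n) (c : Fin n → F) :
    poly w c * w ^ (n - 1) = c ⟨0, hn⟩ • w ^ (n - 1) := by
  rw [poly, Finset.sum_mul, Finset.sum_eq_single ⟨0, hn⟩]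
  · simp
  · intro i _ hi
    have : (i : ℕ) ≠ 0 := fun h => hi (Fin.ext h)
    rw [smul_mul_assoc, ← pow_add, pow_eq_zero_of_le (by omega) h0, smul_zero]
  · simp

theorem poly_nilpotent {w : Matrix ι ι F} (h0 : w ^ n = 0) (hn : 0 < n) (c : Fin n → F) :
    IsNilpotent (poly w c - c ⟨0, hn⟩ • (1 : Matrix ι ι F)) := by
  have h : poly w c - c ⟨0, hn⟩ • (1 : Matrix ι ι F) =
      ∑ i ∈ Finset.univ.erase (⟨0, hn⟩ : Fin n), c i • w ^ (i : ℕ) := by
    rw [poly, ← Finset.sum_erase_add _ _ (Finset.mem_univ (⟨0, hn⟩ : Fin n))]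
    simp
  rw [h]
  have h2 : ∑ i ∈ Finset.univ.erase (⟨0, hn⟩ : Fin n), c i • w ^ (i : ℕ) =
      w * ∑ i ∈ Finset.univ.erase (⟨0, hn⟩ : Fin n), c i • w ^ ((i : ℕ) - 1) := by
    rw [Finset.mul_sum]
    refine Finset.sum_congr rfl fun i hi => ?_
    have : (i : ℕ) ≠ 0 := fun h => (Finset.mem_erase.1 hi).1 (Fin.ext h)
    rw [mul_smul_comm, ← pow_succ', Nat.sub_add_cancel (by omega)]
  rw [h2]
  refine ⟨n, ?_⟩
  rw [Commute.mul_pow (Commute.sum_right _ _ _ fun i _ => ((Commute.refl w).pow_right _).smul_right _), h0, zero_mul]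

theorem rank_iff (hι : Fintype.card ι = n) (hn : 0 < n) {N : Matrix ι ι F} (h0 : N ^ n = 0) :
    N.rank = n - 1 ↔ N ^ (n - 1) ≠ 0 := by
  let f : Module.End F (ι → F) := Matrix.toLinAlgEquiv' N
  have hfk : ∀ k x, (f ^ k) x = N ^ k *ᵥ x := fun k x => by rw [← map_pow]; rfl
  have hsum := f.finrank_range_add_finrank_ker
  rw [Module.finrank_fintype_fun_eq_card, hι] at hsum
  constructor
  · intro h hz
    have h2 : Module.finrank F (LinearMap.range f) = n - 1 := h
    have := GLCentralizer.finrank_ker_pow_le f (by omega) (n - 1)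
    rw [show LinearMap.ker (f ^ (n - 1)) = ⊤ from eq_top_iff.2 fun x _ => LinearMap.mem_ker.2
      (by rw [hfk, hz, Matrix.zero_mulVec]), finrank_top, Module.finrank_fintype_fun_eq_card, hι] at this
    omega
  · intro h1
    obtain ⟨v, b, hb⟩ := exists_basis hι h0 h1
    show Module.finrank F (LinearMap.range f) = n - 1
    have hle : n - 1 ≤ Module.finrank F (LinearMap.range f) := by
      have hli : LinearIndependent F fun i : Fin (n - 1) => b ⟨(i : ℕ) + 1, by omega⟩ :=
        b.linearIndependent.comp (fun i : Fin (n - 1) => (⟨(i : ℕ) + 1, by omega⟩ : Fin n))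
          fun i j e => Fin.ext (by simpa using e)
      have hsub : Submodule.span F (Set.range fun i : Fin (n - 1) => b ⟨(i : ℕ) + 1, by omega⟩) ≤
          LinearMap.range f := by
        rw [Submodule.span_le]
        rintro _ ⟨i, rfl⟩
        refine ⟨N ^ (i : ℕ) *ᵥ v, ?_⟩
        show f _ = b _
        rw [hb, show f = f ^ 1 from (pow_one f).symm, hfk, Matrix.mulVec_mulVec, pow_one, ← pow_succ']
      have := Submodule.finrank_mono hsub
      rwa [finrank_span_eq_card hli, Fintype.card_fin] at this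
    have hker : 0 < Module.finrank F (LinearMap.ker f) := by
      rw [Module.finrank_pos_iff_exists_ne_zero]
      refine ⟨⟨N ^ (n - 1) *ᵥ v, ?_⟩, fun e => ?_⟩
      · rw [LinearMap.mem_ker, show f = f ^ 1 from (pow_one f).symm, hfk, Matrix.mulVec_mulVec, pow_one, ← pow_succ',
          Nat.sub_add_cancel hn, h0, Matrix.zero_mulVec]
      · have := b.ne_zero ⟨n - 1, by omega⟩
        rw [hb] at this
        exact this (congrArg Subtype.val e)
    omega

end Regular

variable [Fintype F] {m : ℕ}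

local notation "Mt" => Matrix (Fin m ⊕ Fin m) (Fin m ⊕ Fin m) F
local notation "Spm" => Matrix.symplecticGroup (Fin m) F

/-- The adjoint with respect to the symplectic form. -/
def ad (k : Mt) : Mt := -(Matrix.J (Fin m) F * kᵀ * Matrix.J (Fin m) F)

omit [Fintype F] in
theorem ad_mul (a b : Mt) : ad (a * b) = ad b * ad a := by
  have e : ∀ X : Mt, Matrix.J (Fin m) F * (Matrix.J (Fin m) F * X) = -X := fun X => by
    rw [← mul_assoc, Matrix.J_squared, neg_one_mul]
  simp only [ad, Matrix.transpose_mul, mul_assoc, neg_mul, mul_neg, neg_neg, e]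

omit [Fintype F] in
theorem ad_one : ad (1 : Mt) = 1 := by
  rw [ad, Matrix.transpose_one, mul_one, Matrix.J_squared, neg_neg]

omit [Fintype F] in
theorem ad_ad (k : Mt) : ad (ad k) = k := by
  have e : ∀ X : Mt, Matrix.J (Fin m) F * (Matrix.J (Fin m) F * X) = -X := fun X => by
    rw [← mul_assoc, Matrix.J_squared, neg_one_mul]
  simp only [ad, Matrix.transpose_neg, Matrix.transpose_mul, Matrix.J_transpose, neg_mul, mul_neg, neg_neg, mul_assoc, e]
  simp [Matrix.J_squared]

omit [Fintype F] in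
theorem ad_add (a b : Mt) : ad (a + b) = ad a + ad b := by
  simp only [ad, Matrix.transpose_add, mul_add, add_mul, neg_add]

omit [Fintype F] in
theorem ad_smul (c : F) (a : Mt) : ad (c • a) = c • ad a := by
  simp only [ad, Matrix.transpose_smul, mul_smul_comm, smul_mul_assoc, smul_neg]

omit [Fintype F] in
theorem ad_neg (a : Mt) : ad (-a) = -ad a := by
  simp [ad]

omit [Fintype F] in
theorem ad_sub (a b : Mt) : ad (a - b) = ad a - ad b := by
  rw [sub_eq_add_neg, ad_add, ad_neg, ← sub_eq_add_neg]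

omit [Fintype F] in
theorem ad_pow (a : Mt) (k : ℕ) : ad (a ^ k) = ad a ^ k := by
  induction k with
  | zero => rw [pow_zero, pow_zero, ad_one]
  | succ k ih => rw [pow_succ, ad_mul, ih, pow_succ']

omit [Fintype F] in
theorem mem_iff_ad (k : Mt) : k ∈ Spm ↔ ad k * k = 1 := by
  rw [mul_eq_one_comm, SymplecticGroup.mem_iff]
  have h : k * ad k = -(k * Matrix.J (Fin m) F * kᵀ * Matrix.J (Fin m) F) := by
    simp only [ad, mul_neg, mul_assoc]
  rw [h]
  constructor
  · intro e; rw [e, Matrix.J_squared, neg_neg]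
  · intro e
    have := congrArg (fun X => -(X * Matrix.J (Fin m) F)) e
    simp only [neg_mul, neg_neg, mul_assoc, Matrix.J_squared, mul_neg, mul_one, one_mul] at this
    simpa [mul_assoc] using this

/-- The anti-self-adjoint generator of the centraliser. -/
def gen (v : Mt) : Mt := v - ad v

omit [Fintype F] in
theorem ad_gen (v : Mt) : ad (gen v) = -gen v := by
  show ad (v - ad v) = -(v - ad v)
  rw [ad_sub, ad_ad, neg_sub]

variable (hq : Odd (Fintype.card F)) (hm : 1 ≤ m)

include hq in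
theorem two_ne : (2 : F) ≠ 0 := fun h => by
  have h2 : ringChar F = 2 := by
    obtain ⟨e, hp, he⟩ := FiniteField.card F (ringChar F)
    exact (Nat.prime_dvd_prime_iff_eq hp Nat.prime_two).1 ((ringChar.spec F 2).1 (by exact_mod_cast h))
  exact (Nat.not_even_iff_odd.2 hq) (Nat.even_iff.2 ((FiniteField.even_card_iff_char_two).1 h2))


theorem mul_ad_self {u : Mt} (hu : u ∈ Spm) : u * ad u = 1 := mul_eq_one_comm.1 ((mem_iff_ad u).1 hu)

theorem commute_ad {u : Mt} (hu : u ∈ Spm) : Commute u (ad u) := by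
  show u * ad u = ad u * u
  rw [mul_ad_self hu, (mem_iff_ad u).1 hu]

include hq hm in
theorem gen_spec {u : Mt} (hu : u ∈ Spm) (h0 : (u - 1) ^ (2 * m) = 0) : ∃ e : Mtˣ, Commute (u - 1) (e : Mt) ∧ gen u = (u - 1) * (e : Mt) := by
  have hnil : IsNilpotent (u - 1) := ⟨_, h0⟩
  obtain ⟨a, ha⟩ : IsUnit (u + 1) := by
    have h : u + 1 = algebraMap F Mt 2 + (u - 1) := by rw [map_ofNat, ← one_add_one_eq_two]; abel
    rw [h, add_comm]
    exact hnil.isUnit_add_right_of_commute ((isUnit_iff_ne_zero.2 (two_ne hq)).map (algebraMap F Mt))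
      (Algebra.commutes _ _).symm
  let b : Mtˣ := ⟨ad u, u, (mem_iff_ad u).1 hu, mul_ad_self hu⟩
  refine ⟨a * b, ?_, ?_⟩
  · rw [Units.val_mul, ha]
    exact (((Commute.refl u).sub_left (Commute.one_left _)).add_right (Commute.one_right _)).mul_right
      ((commute_ad hu).sub_left (Commute.one_left _))
  · show u - ad u = (u - 1) * ((a : Mt) * ad u)
    rw [ha, ← mul_assoc, sub_mul u 1 (u + 1), one_mul, mul_add, mul_one, sub_mul, add_mul, mul_assoc,
      mul_ad_self hu, mul_one, add_mul, mul_ad_self hu, one_mul]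
    abel

include hq hm in
theorem gen_pow_eq_zero_iff {u : Mt} (hu : u ∈ Spm) (h0 : (u - 1) ^ (2 * m) = 0) (k : ℕ) : gen u ^ k = 0 ↔ (u - 1) ^ k = 0 := by
  obtain ⟨e, hc, he⟩ := gen_spec hq hm hu h0
  rw [he, hc.mul_pow]
  exact ⟨fun h => (e.isUnit.pow k).mul_left_eq_zero.1 h, fun h => by rw [h, zero_mul]⟩

theorem commute_gen {u : Mt} (hu : u ∈ Spm) {C : Mt} (h : Commute u C) : Commute (gen u) C := by
  refine Commute.sub_left h ?_
  show ad u * C = C * ad u
  calc ad u * C = ad u * (C * u) * ad u := by rw [mul_assoc, mul_assoc, mul_ad_self hu, mul_one]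
    _ = _ := by rw [← h.eq, ← mul_assoc, (mem_iff_ad u).1 hu, one_mul]

include hq hm in
theorem commute_poly {u : Mt} (hu : u ∈ Spm) (h0 : (u - 1) ^ (2 * m) = 0) (h1 : (u - 1) ^ (2 * m - 1) ≠ 0) (c : Fin (2 * m) → F) : Commute u (poly (gen u) c) :=
  Commute.sum_right _ _ _ fun i _ =>
    ((Commute.refl u).sub_right (commute_ad hu)).pow_right _ |>.smul_right _

include hq hm in
theorem exists_coeff {u : Mt} (hu : u ∈ Spm) (h0 : (u - 1) ^ (2 * m) = 0) (h1 : (u - 1) ^ (2 * m - 1) ≠ 0) {C : Mt} (h : Commute u C) : ∃ c : Fin (2 * m) → F, C = poly (gen u) c :=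
  exists_poly (by simp [two_mul]) ((gen_pow_eq_zero_iff hq hm hu h0 _).2 h0)
    (fun e => h1 ((gen_pow_eq_zero_iff hq hm hu h0 _).1 e)) (commute_gen hu h)

include hq hm in
theorem coeff_inj {u : Mt} (hu : u ∈ Spm) (h0 : (u - 1) ^ (2 * m) = 0) (h1 : (u - 1) ^ (2 * m - 1) ≠ 0) : Function.Injective (poly (n := 2 * m) (gen u)) :=
  poly_injective (by simp [two_mul]) ((gen_pow_eq_zero_iff hq hm hu h0 _).2 h0)
    (fun e => h1 ((gen_pow_eq_zero_iff hq hm hu h0 _).1 e))

omit [Fintype F] in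
theorem ad_poly {u : Mt} (c : Fin (2 * m) → F) :
    ad (poly (gen u) c) = poly (gen u) fun i => c i * (-1) ^ (i : ℕ) := by
  rw [poly, poly]
  have : ∀ (s : Finset (Fin (2 * m))) (f : Fin (2 * m) → Mt), ad (∑ i ∈ s, f i) = ∑ i ∈ s, ad (f i) := fun s f => by
    induction s using Finset.induction with
    | empty => simp [ad]
    | insert a s ha ih => rw [Finset.sum_insert ha, Finset.sum_insert ha, ad_add, ih]
  rw [this]
  refine Finset.sum_congr rfl fun i _ => ?_
  rw [ad_smul, ad_pow, ad_gen, neg_eq_neg_one_mul, (Commute.one_left _).neg_left.mul_pow, mul_smul,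
    ← neg_one_smul F (1 : Mt), smul_pow, one_pow, smul_one_mul]

include hq hm in
/-- The residue of an element of the centraliser. -/
theorem exists_res {u : Mt} (hu : u ∈ Spm) (h0 : (u - 1) ^ (2 * m) = 0) (h1 : (u - 1) ^ (2 * m - 1) ≠ 0) {C : Mt} (h : Commute u C) :
    ∃ r : F, C * gen u ^ (2 * m - 1) = r • gen u ^ (2 * m - 1) ∧ IsNilpotent (C - r • (1 : Mt)) := by
  obtain ⟨c, rfl⟩ := exists_coeff hq hm hu h0 h1 h
  have hw := (gen_pow_eq_zero_iff hq hm hu h0 _).2 h0
  exact ⟨_, poly_mul_top hw (by omega) c, poly_nilpotent hw (by omega) c⟩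

include hq hm in
theorem res_unique {u : Mt} (hu : u ∈ Spm) (h0 : (u - 1) ^ (2 * m) = 0) (h1 : (u - 1) ^ (2 * m - 1) ≠ 0) {C : Mt} {r r' : F} (h : C * gen u ^ (2 * m - 1) = r • gen u ^ (2 * m - 1))
    (h' : C * gen u ^ (2 * m - 1) = r' • gen u ^ (2 * m - 1)) : r = r' :=
  smul_left_injective F (fun e => h1 ((gen_pow_eq_zero_iff hq hm hu h0 _).1 e)) (h.symm.trans h')

include hq in
/-- Square roots of unipotent elements. -/
theorem exists_sqrt {S : Mt} (hS : IsNilpotent (S - 1)) :
    ∃ e : ℕ, (S ^ e) * (S ^ e) = S := by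
  obtain ⟨k, hk⟩ := hS
  obtain ⟨p, hchar⟩ := CharP.exists F
  obtain ⟨f, hp, hF⟩ := FiniteField.card F p
  have hp2 : Odd p := hp.odd_of_ne_two fun h => two_ne hq (by
    have h' : ((p : ℕ) : F) = 0 := CharP.cast_eq_zero F p
    rwa [h, Nat.cast_ofNat] at h')
  have hpk : (S - 1) ^ p ^ k = 0 := pow_eq_zero_of_le (Nat.lt_pow_self hp.one_lt).le hk
  rcases isEmpty_or_nonempty (Fin m ⊕ Fin m) with hE | hE
  · exact ⟨0, Subsingleton.elim _ _⟩
  haveI : Fact p.Prime := ⟨hp⟩
  haveI : CharP Mt p := inferInstance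
  rw [sub_pow_char_pow_of_commute p k (Commute.one_right S), one_pow, sub_eq_zero] at hpk
  obtain ⟨l, hl⟩ : Odd (p ^ k) := hp2.pow
  refine ⟨l + 1, ?_⟩
  rw [← pow_add, show l + 1 + (l + 1) = p ^ k + 1 by omega, pow_succ, hpk, one_mul]

include hq hm in
/-- The centraliser has order `2 q ^ m`. -/
theorem card_centralizer (g : Spm) (h0 : ((g : Mt) - 1) ^ (2 * m) = 0) (h1 : ((g : Mt) - 1) ^ (2 * m - 1) ≠ 0) :
    Nat.card (Subgroup.centralizer ({g} : Set Spm)) = 2 * Fintype.card F ^ m := by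
  classical
  set u : Mt := (g : Mt)
  have hu : u ∈ Spm := g.2
  have h2 := two_ne hq
  -- anti-self-adjoint elements
  let A := {b : Mt // Commute u b ∧ ad b = -b}
  have hcoef : ∀ c : Fin (2 * m) → F, ad (poly (gen u) c) = -poly (gen u) c ↔ ∀ i : Fin (2 * m), Even (i : ℕ) → c i = 0 := by
    intro c
    have hneg : -poly (gen u) c = poly (gen u) (fun i => -c i) := by simp [poly, Finset.sum_neg_distrib]
    rw [ad_poly, hneg, (coeff_inj hq hm hu h0 h1).eq_iff, funext_iff]
    refine forall_congr' fun i => ?_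
    rcases Nat.even_or_odd (i : ℕ) with he | ho
    · simp only [he.neg_one_pow, mul_one, he, forall_const, eq_neg_iff_add_eq_zero, ← two_mul, mul_eq_zero, h2, false_or]
    · simp [ho.neg_one_pow, Nat.not_even_iff_odd.2 ho]
  have hA : Nat.card A = Fintype.card F ^ m := by
    let f : (Fin m → F) → A := fun d =>
      ⟨poly (gen u) (fun i => if Odd (i : ℕ) then d ⟨(i : ℕ) / 2, by omega⟩ else 0),
        commute_poly hq hm hu h0 h1 _, (hcoef _).2 fun i hi => if_neg (Nat.not_odd_iff_even.2 hi)⟩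
    have hf : Function.Bijective f := by
      constructor
      · intro d d' e
        have e' := coeff_inj hq hm hu h0 h1 (congrArg Subtype.val e)
        funext j
        have := congrFun e' ⟨2 * (j : ℕ) + 1, by omega⟩
        simpa [show (2 * (j : ℕ) + 1) / 2 = (j : ℕ) by omega] using this
      · rintro ⟨b, hb, hb'⟩
        obtain ⟨c, rfl⟩ := exists_coeff hq hm hu h0 h1 hb
        refine ⟨fun j => c ⟨2 * (j : ℕ) + 1, by omega⟩, Subtype.ext (congrArg (poly (gen u)) (funext fun i => ?_))⟩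
        split_ifs with ho
        · show c _ = c i
          congr 1
          apply Fin.ext
          obtain ⟨t, ht⟩ := ho
          show 2 * ((i : ℕ) / 2) + 1 = i
          omega
        · exact ((hcoef c).1 hb' i (Nat.not_odd_iff_even.1 ho)).symm
    rw [← Nat.card_eq_of_bijective f hf, Nat.card_fun, Nat.card_eq_fintype_card, Nat.card_eq_fintype_card, Fintype.card_fin]
  have hnil : ∀ b : A, IsNilpotent b.1 := by
    rintro ⟨b, hb, hb'⟩
    obtain ⟨c, rfl⟩ := exists_coeff hq hm hu h0 h1 hb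
    have h := poly_nilpotent ((gen_pow_eq_zero_iff hq hm hu h0 _).2 h0) (show 0 < 2 * m by omega) c
    rw [(hcoef c).1 hb' ⟨0, by omega⟩ Even.zero, zero_smul, sub_zero] at h
    exact h
  have hsqrt : ∀ b : A, ∃ a : Mt, a * a = 1 + b.1 * b.1 ∧ ad a = a ∧ Commute u a ∧ Commute a b.1 ∧
      IsNilpotent (a - 1) := by
    intro b
    obtain ⟨e, he⟩ := exists_sqrt hq (S := 1 + b.1 * b.1) (by
      rw [add_sub_cancel_left]
      exact (Commute.refl b.1).isNilpotent_mul_left (hnil b))
    refine ⟨_, he, ?_, (Commute.add_right (Commute.one_right _) (b.2.1.mul_right b.2.1)).pow_right e,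
      ((Commute.one_left _).add_left ((Commute.refl b.1).mul_left (Commute.refl b.1))).pow_left e, ?_⟩
    · rw [ad_pow, ad_add, ad_one, ad_mul, b.2.2, neg_mul_neg]
    · obtain ⟨j, hj⟩ := hnil b
      have hz : IsNilpotent (1 + b.1 * b.1 - 1) := ⟨j, by
        rw [add_sub_cancel_left, (Commute.refl b.1).mul_pow, hj, zero_mul]⟩
      rw [← geom_sum_mul (1 + b.1 * b.1) e]
      refine Commute.isNilpotent_mul_left ?_ hz
      exact Commute.sum_left _ _ _ fun i _ => ((Commute.refl _).sub_right (Commute.one_right _)).pow_left i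
  choose a ha had hau hab han using hsqrt
  have hkk : ∀ (x : Bool × A),
      ad ((cond x.1 (1 : F) (-1)) • a x.2 + x.2.1) * ((cond x.1 (1 : F) (-1)) • a x.2 + x.2.1) = 1 := by
    rintro ⟨e, b⟩
    have he : cond e (1 : F) (-1) * cond e (1 : F) (-1) = 1 := by cases e <;> simp
    simp only
    rw [ad_add, ad_smul, had, b.2.2, add_mul, mul_add, mul_add, smul_mul_smul_comm, he, one_smul, ha,
      smul_mul_assoc, mul_smul_comm, neg_mul, neg_mul, (hab b).eq, smul_neg]
    abel
  let Φ : Bool × A → Subgroup.centralizer ({g} : Set Spm) := fun x =>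
    ⟨⟨_, (mem_iff_ad _).2 (hkk x)⟩, Subgroup.mem_centralizer_singleton_iff.2 (Subtype.ext
      (show _ * u = u * _ from ((hau x.2).smul_right _ |>.add_right x.2.2.1).eq.symm))⟩
  have hΦ : ∀ x, ((Φ x).1 : Mt) = (cond x.1 (1 : F) (-1)) • a x.2 + x.2.1 := fun x => rfl
  have hbij : Function.Bijective Φ := by
    have hhalf : ∀ x, ((Φ x).1 : Mt) - ad ((Φ x).1 : Mt) = (2 : F) • x.2.1 := fun x => by
      rw [hΦ, ad_add, ad_smul, had, x.2.2.2, two_smul]; abel
    constructor
    · rintro ⟨e, b⟩ ⟨e', b'⟩ h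
      obtain rfl : b = b' := by
        have := hhalf (e, b)
        rw [h, hhalf (e', b')] at this
        exact Subtype.ext (smul_right_injective Mt h2 this.symm)
      have h3 := congrArg (fun k => ((k : Spm) : Mt)) (congrArg Subtype.val h)
      rw [hΦ, hΦ, add_left_inj] at h3
      have hu' : IsUnit (a b) := by
        simpa using (han b).isUnit_add_one
      haveI : Nonempty (Fin m ⊕ Fin m) := ⟨Sum.inl ⟨0, by omega⟩⟩
      have := smul_left_injective F hu'.ne_zero h3
      cases e <;> cases e' <;> first | rfl | exact absurd this (by simp; intro h4; exact h2 (by linear_combination h4)) | exact absurd this.symm (by simp; intro h4; exact h2 (by linear_combination h4))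
    · rintro ⟨k, hk⟩
      set K : Mt := (k : Mt)
      have hkc : Commute u K := (congrArg Subtype.val (Subgroup.mem_centralizer_singleton_iff.1 hk)).symm
      have hka : ad K * K = 1 := (mem_iff_ad K).1 k.2
      have hka' : K * ad K = 1 := mul_eq_one_comm.1 hka
      have hadc : Commute u (ad K) := by
        show u * ad K = ad K * u
        calc u * ad K = ad K * (K * u) * ad K := by rw [← mul_assoc, hka, one_mul]
          _ = _ := by rw [← hkc.eq, mul_assoc, mul_assoc, hka', mul_one]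
      set b : Mt := (2 : F)⁻¹ • (K - ad K)
      have hb : Commute u b ∧ ad b = -b :=
        ⟨(hkc.sub_right hadc).smul_right _, by rw [ad_smul, ad_sub, ad_ad, ← smul_neg, neg_sub]⟩
      set B : A := ⟨b, hb⟩
      set s : Mt := (2 : F)⁻¹ • (K + ad K)
      have hs : s * s - b * b = 1 := by
        simp only [s, b, smul_mul_smul_comm, ← smul_sub]
        rw [mul_add, add_mul, add_mul, mul_sub, sub_mul, sub_mul, hka, hka']
        rw [show K * K + 1 + (1 + ad K * ad K) - (K * K - 1 - (1 - ad K * ad K)) = (2 * 2 : F) • (1 : Mt) by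
          rw [mul_smul, two_smul, two_smul]; abel, smul_smul, show (2 : F)⁻¹ * 2⁻¹ * (2 * 2) = 1 by field_simp,
          one_smul]
      have hK : K = s + b := by
        simp only [s, b, ← smul_add]
        rw [show K + ad K + (K - ad K) = (2 : F) • K by rw [two_smul]; abel, smul_smul, inv_mul_cancel₀ h2, one_smul]
      have hsu : Commute u s := (hkc.add_right hadc).smul_right _
      have hcomm : Commute s (a B) := by
        obtain ⟨c, hc⟩ := exists_coeff hq hm hu h0 h1 hsu
        obtain ⟨d, hd⟩ := exists_coeff hq hm hu h0 h1 (hau B)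
        rw [hc, hd]
        exact Commute.sum_left _ _ _ fun i _ => ((poly_commute (gen u) d).pow_left _).smul_left _
      have hprod : (s - a B) * (s + a B) = 0 := by
        rw [sub_mul, mul_add, mul_add, ← hcomm.eq, ha B, show s * s = 1 + b * b from sub_eq_iff_eq_add.1 hs]
        abel
      obtain ⟨r, hr, hrn⟩ := exists_res hq hm hu h0 h1 hsu
      have hr1 : r * r = 1 := by
        obtain ⟨c, hc⟩ : ∃ c : F, (s * s) * gen u ^ (2 * m - 1) = c • gen u ^ (2 * m - 1) ∧ c = 1 := ⟨1, by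
          rw [sub_eq_iff_eq_add.1 hs, add_mul, one_mul, one_smul, add_eq_left]
          obtain ⟨c, hc⟩ := exists_coeff hq hm hu h0 h1 hb.1
          rw [mul_assoc, hc, poly_mul_top ((gen_pow_eq_zero_iff hq hm hu h0 _).2 h0) (by omega)]
          rw [(hcoef c).1 (hc ▸ hb.2) ⟨0, by omega⟩ Even.zero, zero_smul, mul_zero], rfl⟩
        refine (res_unique hq hm hu h0 h1 (C := s * s) ?_ hc.1).trans hc.2
        rw [mul_assoc, hr, mul_smul_comm, hr, smul_smul]
      have key : ∀ e : Bool, r = cond e (1 : F) (-1) → s = cond e (1 : F) (-1) • a B := by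
        intro e he
        set t := cond e (1 : F) (-1)
        have htt : t * t = 1 := by cases e <;> simp [t]
        have hunit : IsUnit (s + t • a B) := by
          have hnil' : IsNilpotent ((s - r • (1 : Mt)) + t • (a B - 1)) := by
            refine Commute.isNilpotent_add ?_ hrn ((han B).smul t)
            exact ((hcomm.sub_right (Commute.one_right _)).sub_left ((Commute.one_left _).smul_left r)).smul_right t
          have h4 : s + t • a B = algebraMap F Mt (2 * t) + ((s - r • (1 : Mt)) + t • (a B - 1)) := by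
            rw [Algebra.algebraMap_eq_smul_one, he, two_mul, add_smul, smul_sub]; abel
          rw [h4, add_comm]
          refine hnil'.isUnit_add_right_of_commute
            ((isUnit_iff_ne_zero.2 (mul_ne_zero h2 fun h => ?_)).map (algebraMap F Mt))
            (Algebra.commutes _ _).symm
          rw [h, zero_mul] at htt; exact zero_ne_one htt
        have h5 : (s - t • a B) * (s + t • a B) = 0 := by
          cases e
          · rw [show t = -1 from rfl, neg_one_smul, sub_neg_eq_add, ← sub_eq_add_neg,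
              ((Commute.refl s).add_left hcomm.symm).sub_right (((hcomm).add_left (Commute.refl _))) |>.eq]
            exact hprod
          · rw [show t = 1 from rfl, one_smul]; exact hprod
        exact sub_eq_zero.1 (hunit.mul_left_eq_zero.1 h5)
      rcases mul_self_eq_one_iff.1 hr1 with hr' | hr'
      · exact ⟨(true, B), Subtype.ext (Subtype.ext (by rw [hΦ, ← key true hr']; exact hK.symm))⟩
      · exact ⟨(false, B), Subtype.ext (Subtype.ext (by rw [hΦ, ← key false hr']; exact hK.symm))⟩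
  rw [← Nat.card_eq_of_bijective Φ hbij, Nat.card_prod, Nat.card_eq_fintype_card (α := Bool), Fintype.card_bool, hA]

include hq hm in
theorem norm_res {u : Mt} (hu : u ∈ Spm) (h0 : (u - 1) ^ (2 * m) = 0) (h1 : (u - 1) ^ (2 * m - 1) ≠ 0) {k : Mt} {r : F} (hk : Commute u k)
    (hr : k * gen u ^ (2 * m - 1) = r • gen u ^ (2 * m - 1)) :
    ad k * gen u ^ (2 * m - 1) = r • gen u ^ (2 * m - 1) := by
  obtain ⟨c, rfl⟩ := exists_coeff hq hm hu h0 h1 hk
  have hw := (gen_pow_eq_zero_iff hq hm hu h0 _).2 h0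
  rw [ad_poly, poly_mul_top hw (by omega)]
  rw [poly_mul_top hw (by omega)] at hr
  simpa using hr

include hq hm in
/-- There are exactly two classes. -/
theorem card_classes :
    Nat.card {C : ConjClasses Spm // ∃ u : Spm, ConjClasses.mk u = C ∧ ((u : Mt) - 1) ^ (2 * m) = 0 ∧
      ((u : Mt) - 1) ^ (2 * m - 1) ≠ 0} = 2 := by
  classical
  have h2 := two_ne hq
  obtain ⟨p, hchar⟩ := CharP.exists F
  haveI : Fact p.Prime := ⟨(FiniteField.card F p).choose_spec.1⟩
  obtain ⟨x, hx0, hx1⟩ := exists_symp_regular_nilpotent (F := F) p hm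
  obtain ⟨ν, hν⟩ := FiniteField.exists_nonsquare (F := F) fun h =>
    two_ne hq (by
      have h' : ((ringChar F : ℕ) : F) = 0 := ringChar.Nat.cast_ringChar
      rwa [h, Nat.cast_ofNat] at h')
  have hν0 : ν ≠ 0 := fun h => hν (h ▸ IsSquare.zero)
  let G : Mt := Matrix.fromBlocks 1 0 0 (ν • 1)
  have hGG : ad G * G = ν • (1 : Mt) := by
    simp only [G, ad, Matrix.J, Matrix.fromBlocks_transpose, Matrix.fromBlocks_multiply, Matrix.fromBlocks_neg,
      Matrix.fromBlocks_smul, ← Matrix.fromBlocks_one]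
    simp [Matrix.transpose_smul]
  obtain ⟨Gu, hGu⟩ : IsUnit G := by
    refine (Matrix.isUnit_iff_isUnit_det _).2 (isUnit_iff_ne_zero.2 ?_)
    simp only [G, Matrix.det_fromBlocks_zero₂₁, Matrix.det_one, one_mul, Matrix.det_smul, mul_one]
    exact pow_ne_zero _ hν0
  set x' : Mt := G * (x : Mt) * (Gu⁻¹ : Mtˣ) with hx'
  have hx'G : x' * G = G * (x : Mt) := by rw [hx', mul_assoc, ← hGu, Units.inv_mul, mul_one]
  have hGiG : ((Gu⁻¹ : Mtˣ) : Mt) = ν⁻¹ • ad G := by
    symm
    calc ν⁻¹ • ad G = ν⁻¹ • (ad G * G * (Gu⁻¹ : Mtˣ)) := by rw [mul_assoc, ← hGu, Units.mul_inv, mul_one]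
      _ = _ := by rw [hGG, smul_one_mul, smul_smul, inv_mul_cancel₀ hν0, one_smul]
  have hx'mem : x' ∈ Spm := by
    rw [mem_iff_ad, hx', hGiG, mul_smul_comm, ad_smul, ad_mul, ad_mul, ad_ad]
    calc ν⁻¹ • (G * (ad (x : Mt) * ad G)) * (ν⁻¹ • (G * (x : Mt) * ad G))
        = (ν⁻¹ * ν⁻¹) • (G * ad (x : Mt) * (ad G * G) * (x : Mt) * ad G) := by
          simp only [smul_mul_smul_comm, mul_assoc]
      _ = 1 := by
          rw [hGG, mul_smul_comm, smul_mul_assoc, smul_mul_assoc, smul_smul, mul_one,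
            mul_assoc G, (mem_iff_ad _).1 x.2, mul_one, mul_assoc ν⁻¹ ν⁻¹, inv_mul_cancel₀ hν0, mul_one]
          rw [← mul_smul_comm, ← hGiG, ← hGu, Units.mul_inv]
  have hx'N : ∀ k : ℕ, (x' - 1) ^ k = G * ((x : Mt) - 1) ^ k * (Gu⁻¹ : Mtˣ) := fun k => by
    induction k with
    | zero => rw [pow_zero, pow_zero, mul_one, ← hGu, Units.mul_inv]
    | succ k ih =>
      have e : x' - 1 = G * ((x : Mt) - 1) * (Gu⁻¹ : Mtˣ) := by
        rw [mul_sub, mul_one, sub_mul, ← hx', ← hGu, Units.mul_inv]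
      have e2 : ((Gu⁻¹ : Mtˣ) : Mt) * G = 1 := by rw [← hGu, Units.inv_mul]
      calc (x' - 1) ^ (k + 1) = G * ((x : Mt) - 1) ^ k * (((Gu⁻¹ : Mtˣ) : Mt) * G) * ((x : Mt) - 1) * (Gu⁻¹ : Mtˣ) := by
            rw [pow_succ, ih, e]; simp only [mul_assoc]
        _ = _ := by rw [e2, mul_one, pow_succ]; simp only [mul_assoc]
  set X' : Spm := ⟨x', hx'mem⟩
  have hX'0 : ((X' : Mt) - 1) ^ (2 * m) = 0 := by
    show (x' - 1) ^ (2 * m) = 0
    rw [hx'N, hx0, mul_zero, zero_mul]
  have hX'1 : ((X' : Mt) - 1) ^ (2 * m - 1) ≠ 0 := by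
    show (x' - 1) ^ (2 * m - 1) ≠ 0
    rw [hx'N]
    intro h
    exact hx1 ((hGu ▸ Gu.isUnit).mul_right_eq_zero.1 ((Gu⁻¹).isUnit.mul_left_eq_zero.1 h))
  -- a regular element is conjugate to one of the two
  have hsplit : ∀ g : Spm, ((g : Mt) - 1) ^ (2 * m) = 0 → ((g : Mt) - 1) ^ (2 * m - 1) ≠ 0 →
      IsConj x g ∨ IsConj X' g := by
    intro g g0 g1
    obtain ⟨P, hP⟩ := exists_similar (n := 2 * m) (by simp [two_mul]) hx0 hx1 g0 g1
    have hPx : P.val * (x : Mt) = (g : Mt) * P.val := by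
      rw [mul_sub, sub_mul, mul_one, one_mul, sub_left_inj] at hP; exact hP
    set S : Mt := ad P.val * P.val
    have hSx : Commute (x : Mt) S := by
      have e1 := congrArg ad hPx
      rw [ad_mul, ad_mul] at e1
      have e2 : ad P.val * (g : Mt) = (x : Mt) * ad P.val := by
        calc ad P.val * (g : Mt) = (x : Mt) * (ad (x : Mt) * ad P.val) * (g : Mt) := by
              rw [← mul_assoc, mul_ad_self x.2, one_mul]
          _ = _ := by rw [e1, mul_assoc, mul_assoc, (mem_iff_ad _).1 g.2, mul_one]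
      show (x : Mt) * (ad P.val * P.val) = ad P.val * P.val * (x : Mt)
      rw [mul_assoc, hPx, ← mul_assoc, ← mul_assoc, e2]
    obtain ⟨r, hr, hrn⟩ := exists_res hq hm x.2 hx0 hx1 hSx
    have hS0 : r ≠ 0 := by
      intro h
      rw [h, zero_smul, sub_zero] at hrn
      haveI : Nonempty (Fin m ⊕ Fin m) := ⟨Sum.inl ⟨0, by omega⟩⟩
      have hadP : IsUnit (ad P.val) := ⟨⟨ad P.val, ad P.inv, by rw [← ad_mul, P.inv_val, ad_one],
        by rw [← ad_mul, P.val_inv, ad_one]⟩, rfl⟩
      exact IsUnit.ne_zero (M₀ := ℕ) isUnit_one (by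
        obtain ⟨k, hk⟩ := hrn
        exact absurd hk ((hadP.mul P.isUnit).pow k).ne_zero)
    -- a suitable similitude
    have step : ∀ (H : Mt) (c d : F) (y : Spm), ad H * H = c • (1 : Mt) → H * (x : Mt) = (y : Mt) * H → c ≠ 0 →
        c * (d * d) = r → IsConj y g := by
      intro H c d y hH hHy hc hcd
      have hd : d ≠ 0 := fun h => hS0 (by rw [← hcd, h, mul_zero, mul_zero])
      have hsad : ad S = S := by rw [ad_mul, ad_ad]
      obtain ⟨e, he⟩ := exists_sqrt hq (S := r⁻¹ • S) (by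
        rw [show r⁻¹ • S - (1 : Mt) = r⁻¹ • (S - r • (1 : Mt)) by rw [smul_sub, smul_smul, inv_mul_cancel₀ hS0, one_smul]]
        exact hrn.smul _)
      obtain ⟨k, hk⟩ : ∃ k : Mt, k = d • (r⁻¹ • S) ^ e := ⟨_, rfl⟩
      have hkk : ad k * (c • k) = S := by
        rw [show ad k = k by simp only [hk, ad_smul, ad_pow, hsad], mul_smul_comm]
        simp only [hk, smul_mul_smul_comm, he, smul_smul]
        rw [← mul_assoc, hcd, mul_inv_cancel₀ hS0, one_smul]
      have hkc : Commute (x : Mt) k := hk ▸ ((hSx.smul_right _).pow_right _).smul_right _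
      set Q : Mt := H * k * P.inv
      have hQmem : Q ∈ Spm := by
        rw [mem_iff_ad]
        calc ad Q * Q = ad P.inv * (ad k * (ad H * H) * k) * P.inv := by
              simp only [Q, ad_mul, mul_assoc]
          _ = ad P.inv * S * P.inv := by rw [hH, mul_smul_comm, mul_one, smul_mul_assoc, ← mul_smul_comm, hkk]
          _ = ad P.inv * ad P.val * (P.val * P.inv) := by simp only [S, mul_assoc]
          _ = 1 := by rw [P.val_inv, mul_one, ← ad_mul, P.val_inv, ad_one]
      refine IsConj.symm (isConj_iff.2 ⟨⟨Q, hQmem⟩, mul_inv_eq_iff_eq_mul.2 (Subtype.ext ?_)⟩)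
      show Q * (g : Mt) = (y : Mt) * Q
      have e3 : P.inv * (g : Mt) = (x : Mt) * P.inv := by
        calc P.inv * (g : Mt) = P.inv * ((g : Mt) * P.val) * P.inv := by simp only [mul_assoc, P.val_inv, mul_one]
          _ = _ := by rw [← hPx, ← mul_assoc, P.inv_val, one_mul]
      calc Q * (g : Mt) = H * k * (x : Mt) * P.inv := by simp only [Q, mul_assoc, e3]
        _ = H * (x : Mt) * k * P.inv := by rw [mul_assoc H k, ← hkc.eq, ← mul_assoc]
        _ = _ := by rw [hHy]; simp only [Q, mul_assoc]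
    by_cases hsq : IsSquare r
    · obtain ⟨d, hd⟩ := hsq
      exact Or.inl (step 1 1 d x (by rw [ad_one, one_mul, one_smul]) (by rw [one_mul, mul_one]) one_ne_zero
        (by rw [one_mul, hd]))
    · obtain ⟨d, hd⟩ : IsSquare (ν⁻¹ * r) := by
        rw [← quadraticChar_one_iff_isSquare (mul_ne_zero (inv_ne_zero hν0) hS0), map_mul]
        have hνi : ¬ IsSquare ν⁻¹ := fun h => hν (by simpa using h.inv)
        rw [quadraticChar_neg_one_iff_not_isSquare.2 hsq, quadraticChar_neg_one_iff_not_isSquare.2 hνi]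
        rfl
      exact Or.inr (step G ν d X' hGG hx'G.symm hν0 (by rw [← hd, mul_inv_cancel_left₀ hν0]))
  have hne : ¬ IsConj x X' := by
    rw [isConj_iff]
    rintro ⟨Q, hQ⟩
    have hQx : (Q : Mt) * (x : Mt) = x' * (Q : Mt) := congrArg Subtype.val (mul_inv_eq_iff_eq_mul.1 hQ)
    set k : Mt := ad (Q : Mt) * G
    have hkc : Commute (x : Mt) k := by
      show (x : Mt) * (ad (Q : Mt) * G) = ad (Q : Mt) * G * (x : Mt)
      calc (x : Mt) * (ad (Q : Mt) * G) = ad (Q : Mt) * ((Q : Mt) * (x : Mt)) * (ad (Q : Mt) * G) := by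
            rw [← mul_assoc (ad (Q : Mt)), (mem_iff_ad _).1 Q.2, one_mul]
        _ = ad (Q : Mt) * x' * ((Q : Mt) * ad (Q : Mt)) * G := by rw [hQx]; simp only [mul_assoc]
        _ = _ := by rw [mul_ad_self Q.2, mul_one, mul_assoc, hx'G, mul_assoc]
    have hkk : ad k * k = ν • (1 : Mt) := by
      calc ad k * k = ad G * ((Q : Mt) * ad (Q : Mt)) * G := by simp only [k, ad_mul, ad_ad, mul_assoc]
        _ = _ := by rw [mul_ad_self Q.2, mul_one, hGG]
    obtain ⟨r, hr, -⟩ := exists_res hq hm x.2 hx0 hx1 hkc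
    have := norm_res hq hm x.2 hx0 hx1 hkc hr
    refine hν ⟨r, (res_unique hq hm x.2 hx0 hx1 (C := ν • (1 : Mt)) (r := ν) (r' := r * r) ?_ ?_)⟩
    · rw [smul_one_mul]
    · rw [← hkk, mul_assoc, hr, mul_smul_comm, this, smul_smul]
  rw [Nat.card_eq_two_iff]
  refine ⟨⟨ConjClasses.mk x, x, rfl, hx0, hx1⟩, ⟨ConjClasses.mk X', X', rfl, hX'0, hX'1⟩,
    fun e => hne (ConjClasses.mk_eq_mk_iff_isConj.1 (congrArg Subtype.val e)), Set.eq_univ_of_forall ?_⟩
  rintro ⟨_, g, rfl, g0, g1⟩
  rcases hsplit g g0 g1 with h | h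
  · exact Or.inl (Subtype.ext (ConjClasses.mk_eq_mk_iff_isConj.2 h.symm))
  · exact Or.inr (Set.mem_singleton_iff.2 (Subtype.ext (ConjClasses.mk_eq_mk_iff_isConj.2 h.symm)))

end Cfsg.Agent.SympRegularUnipotent
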