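import Cfsg.Agent.Lib.Classical.UnipotentParity
import Cfsg.Agent.Lib.Classical.GLUnipotentTypes
import Cfsg.Agent.Lib.Classical.SympRegularUnipotent
import Cfsg.Agent.Lib.Classical.RegUnipClasses
import Cfsg.Agent.Lib.Classical.SympBlocks
import Cfsg.Agent.Lib.Classical.QuadBasic
import Cfsg.Prelude.Def_JordanBlocks

/-! Which unipotent Jordan types occur in symplectic and orthogonal groups. -/

set_option autoImplicit false

namespace Cfsg.Agent.UnipotentRealisation

open Matrix GLUnipotentTypes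

variable {F : Type*} [Field F] {ι : Type*} [Fintype ι] [DecidableEq ι] {κ : Type*} [Fintype κ] [DecidableEq κ]

theorem parts_prod {V W : Type*} [AddCommGroup V] [Module F V] [FiniteDimensional F V] [AddCommGroup W] [Module F W]
    [FiniteDimensional F W] {N : Module.End F V} {M : Module.End F W} (hN : IsNilpotent N) (hM : IsNilpotent M) :
    JordanChains.parts (N.prodMap M : Module.End F (V × W)) = JordanChains.parts N + JordanChains.parts M := by
  obtain ⟨s, k, v, h⟩ := JordanChains.exists_chains hN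
  obtain ⟨s', k', v', h'⟩ := JordanChains.exists_chains hM
  have hpow : ∀ (j : ℕ) (x : V × W), ((N.prodMap M : Module.End F (V × W)) ^ j) x = ((N ^ j) x.1, (M ^ j) x.2) := fun j => by
    induction j with
    | zero => intro x; rfl
    | succ j ih =>
      intro x
      rw [JordanChains.pow_succ_apply, ih, JordanChains.pow_succ_apply, JordanChains.pow_succ_apply]
      rfl
  let K : Fin (s + s') → ℕ := Fin.append k k'
  let X : Fin (s + s') → V × W := Fin.append (fun i => (v i, 0)) (fun i => (0, v' i))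
  have hspan : ⊤ ≤ Submodule.span F (Set.range (JordanChains.chainVec (N.prodMap M : Module.End F (V × W)) K X)) := by
    rw [← LinearMap.sup_range_inl_inr, LinearMap.range_eq_map, LinearMap.range_eq_map, ← top_le_iff.1 h.2.2.2,
      ← top_le_iff.1 h'.2.2.2, Submodule.map_span, Submodule.map_span, sup_le_iff]
    constructor
    · refine Submodule.span_mono ?_
      rintro _ ⟨_, ⟨⟨i, j⟩, rfl⟩, rfl⟩
      refine ⟨⟨Fin.castAdd s' i, ⟨j, by simp [K]⟩⟩, ?_⟩
      simp [JordanChains.chainVec, X, hpow]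
    · refine Submodule.span_mono ?_
      rintro _ ⟨_, ⟨⟨i, j⟩, rfl⟩, rfl⟩
      refine ⟨⟨Fin.natAdd s i, ⟨j, by simp [K]⟩⟩, ?_⟩
      simp [JordanChains.chainVec, X, hpow]
  have hch : JordanChains.IsChains (N.prodMap M : Module.End F (V × W)) K X := by
    refine ⟨fun i => ?_, fun i => ?_, linearIndependent_of_top_le_span_of_card_eq_finrank hspan ?_, hspan⟩
    · refine Fin.addCases (fun i => ?_) (fun i => ?_) i
      · simpa [K] using h.1 i
      · simpa [K] using h'.1 i
    · refine Fin.addCases (fun i => ?_) (fun i => ?_) i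
      · simp [K, X, hpow, h.2.1]
      · simp [K, X, hpow, h'.2.1]
    · rw [Module.finrank_prod, h.finrank_eq, h'.finrank_eq, Fintype.card_sigma]
      simp [K, Fin.sum_univ_add]
  rw [hch.parts_eq, h.parts_eq, h'.parts_eq, Fin.univ_val_map, Fin.univ_val_map, Fin.univ_val_map, List.ofFn_fin_append,
    Multiset.coe_add]

theorem nil_fromBlocks {A : Matrix ι ι F} {D : Matrix κ κ F} (hA : IsNilpotent A) (hD : IsNilpotent D) :
    IsNilpotent (Matrix.fromBlocks A 0 0 D) := by
  obtain ⟨a, ha⟩ := hA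
  obtain ⟨b, hb⟩ := hD
  refine ⟨a + b, ?_⟩
  rw [Matrix.fromBlocks_diagonal_pow, pow_eq_zero_of_le (Nat.le_add_right a b) ha,
    pow_eq_zero_of_le (Nat.le_add_left b a) hb, Matrix.fromBlocks_zero]

theorem mparts_fromBlocks {A : Matrix ι ι F} {D : Matrix κ κ F} (hA : IsNilpotent A) (hD : IsNilpotent D) :
    mparts (Matrix.fromBlocks A 0 0 D) = mparts A + mparts D := by
  let e := LinearEquiv.sumArrowLequivProdArrow ι κ F F
  have hn : IsNilpotent (Matrix.toLinAlgEquiv' (Matrix.fromBlocks A 0 0 D)) := nil_end (nil_fromBlocks hA hD)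
  rw [mparts, mparts, mparts, ← parts_prod (nil_end hA) (nil_end hD)]
  refine (JordanChains.parts_congr hn e fun x => ?_).symm
  show e (Matrix.fromBlocks A 0 0 D *ᵥ x) = (A *ᵥ (e x).1, D *ᵥ (e x).2)
  refine Prod.ext ?_ ?_ <;> funext i <;> simp [e, Matrix.fromBlocks_mulVec, Function.comp_def] <;> rfl

theorem mparts_reindex (e : ι ≃ κ) {M : Matrix ι ι F} (hM : IsNilpotent M) :
    IsNilpotent (Matrix.reindex e e M) ∧ mparts (Matrix.reindex e e M) = mparts M := by
  have hp : ∀ l, Matrix.reindex e e M ^ l = Matrix.reindex e e (M ^ l) := fun l => by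
    have := map_pow (Matrix.reindexAlgEquiv F F e) M l
    simpa [Matrix.reindexAlgEquiv_apply] using this.symm
  have hn : IsNilpotent (Matrix.reindex e e M) := by
    obtain ⟨l, hl⟩ := hM
    exact ⟨l, by rw [hp, hl]; simp⟩
  exact ⟨hn, mparts_eq_of_rank hn hM fun l => by rw [hp, Matrix.rank_reindex]⟩

theorem mparts_submatrix (e : ι ≃ κ) {M : Matrix ι ι F} (hM : IsNilpotent M) :
    IsNilpotent (M.submatrix e.symm e.symm) ∧ mparts (M.submatrix e.symm e.symm) = mparts M :=
  mparts_reindex e hM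

theorem mparts_of_regular {n : ℕ} (hι : Fintype.card ι = n) (hn : 0 < n) {M : Matrix ι ι F} (h0 : M ^ n = 0)
    (h1 : M ^ (n - 1) ≠ 0) : mparts M = {n} := by
  have hM : IsNilpotent M := ⟨n, h0⟩
  rw [Ne, pow_eq_zero_iff hM] at h1
  push Not at h1
  obtain ⟨a, ha, hlt⟩ := h1
  have hle := (pow_eq_zero_iff hM n).1 h0 a ha
  obtain ⟨μ, hμ⟩ := Multiset.exists_cons_of_mem ha
  have hsum := sum_mparts hM
  rw [hμ, Multiset.sum_cons, hι] at hsum
  have hμ0 : μ = 0 := Multiset.eq_zero_of_forall_notMem fun b hb => by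
    have h2 := pos_of_mem hM (show b ∈ mparts M from hμ.symm ▸ Multiset.mem_cons_of_mem hb)
    have h3 := Multiset.single_le_sum (fun x _ => Nat.zero_le x) b hb
    omega
  rw [hμ, hμ0, show a = n by omega]
  rfl

theorem mparts_shift {n : ℕ} (hn : 0 < n) :
    (RegUnipClasses.shift F n) ^ n = 0 ∧ (RegUnipClasses.shift F n) ^ (n - 1) ≠ 0 ∧
      mparts (RegUnipClasses.shift F n) = {n} := by
  have h1 : (RegUnipClasses.shift F n) ^ (n - 1) ≠ 0 := fun h => by
    have := RegUnipClasses.shift_pow_single (F := F) hn ⟨n - 1, by omega⟩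
    rw [h, Matrix.zero_mulVec] at this
    exact one_ne_zero (α := F) (by simpa using (congrFun this ⟨n - 1, by omega⟩).symm)
  exact ⟨RegUnipClasses.shift_pow_self, h1, mparts_of_regular (Fintype.card_fin n) hn RegUnipClasses.shift_pow_self h1⟩

/-- The inverse transpose of a unipotent matrix has the same type. -/
theorem mparts_invTranspose (g : GL ι F) (hg : IsNilpotent ((g : Matrix ι ι F) - 1)) :
    IsNilpotent (((g⁻¹ : GL ι F) : Matrix ι ι F)ᵀ - 1) ∧
      mparts (((g⁻¹ : GL ι F) : Matrix ι ι F)ᵀ - 1) = mparts ((g : Matrix ι ι F) - 1) := by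
  set W := ((g⁻¹ : GL ι F) : Matrix ι ι F)ᵀ
  set T := ((g : Matrix ι ι F) - 1)ᵀ
  have hWg : W * (g : Matrix ι ι F)ᵀ = 1 := by
    rw [← Matrix.transpose_mul, ← Units.val_mul, mul_inv_cancel, Units.val_one, Matrix.transpose_one]
  have hgW : (g : Matrix ι ι F)ᵀ * W = 1 := mul_eq_one_comm.1 hWg
  have hT : T = (g : Matrix ι ι F)ᵀ - 1 := by simp [T, Matrix.transpose_sub]
  have hW : W - 1 = -(W * T) := by rw [hT, mul_sub, hWg, mul_one, neg_sub]
  have hc : Commute W T := by rw [hT]; exact Commute.sub_right (hWg.trans hgW.symm) (Commute.one_right _)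
  have hu : IsUnit W.det := IsUnit.of_mul_eq_one _ (by rw [← Matrix.det_mul, hWg, Matrix.det_one])
  obtain ⟨l, hl⟩ := hg
  have hTl : T ^ l = 0 := by
    show ((g : Matrix ι ι F) - 1)ᵀ ^ l = 0
    rw [← Matrix.transpose_pow, hl, Matrix.transpose_zero]
  have hn : IsNilpotent (W - 1) := ⟨l, by rw [hW, neg_pow, hc.mul_pow, hTl, mul_zero, mul_zero]⟩
  refine ⟨hn, mparts_eq_of_rank hn ⟨l, hl⟩ fun k => ?_⟩
  rw [hW, neg_pow, hc.mul_pow, Matrix.rank_mul_eq_right_of_isUnit_det _ _ ?_,
    Matrix.rank_mul_eq_right_of_isUnit_det _ _ ?_, ← Matrix.transpose_pow, Matrix.rank_transpose]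
  · rw [Matrix.det_pow]; exact hu.pow k
  · rw [Matrix.det_pow, Matrix.det_neg, Matrix.det_one, mul_one]; exact ((isUnit_one.neg).pow _).pow _

theorem exists_gl_block (F : Type*) [Field F] {j : ℕ} (hj : 0 < j) :
    ∃ g : GL (Fin j) F, IsNilpotent ((g : Matrix (Fin j) (Fin j) F) - 1) ∧
      ((g : Matrix (Fin j) (Fin j) F) - 1) ^ j = 0 ∧ ((g : Matrix (Fin j) (Fin j) F) - 1) ^ (j - 1) ≠ 0 ∧
      mparts ((g : Matrix (Fin j) (Fin j) F) - 1) = {j} := by
  obtain ⟨h0, h1, h2⟩ := mparts_shift (F := F) hj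
  obtain ⟨g, hg⟩ : IsUnit (1 + RegUnipClasses.shift F j) := IsNilpotent.isUnit_one_add ⟨j, h0⟩
  have e : (g : Matrix (Fin j) (Fin j) F) - 1 = RegUnipClasses.shift F j := by rw [hg, add_sub_cancel_left]
  exact ⟨g, by rw [e]; exact ⟨⟨j, h0⟩, h0, h1, h2⟩⟩

/-- Induction along blocks: good parts alone, the others in pairs. -/
theorem block_induction {P : Multiset ℕ → Prop} {good : ℕ → Prop} (h0 : P 0)
    (h1 : ∀ a μ, 0 < a → good a → P μ → P (a ::ₘ μ)) (h2 : ∀ a μ, 0 < a → P μ → P (a ::ₘ a ::ₘ μ)) :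
    ∀ μ : Multiset ℕ, (∀ a ∈ μ, 0 < a) → (∀ a, 0 < a → ¬ good a → Even (μ.count a)) → P μ := by
  intro μ
  induction μ using Multiset.strongInductionOn with
  | _ μ ih =>
    intro hpos hev
    by_cases hz : μ = 0
    · exact hz ▸ h0
    obtain ⟨a, ha⟩ := Multiset.exists_mem_of_ne_zero hz
    obtain ⟨ν, rfl⟩ := Multiset.exists_cons_of_mem ha
    by_cases hg : good a
    · refine h1 a ν (hpos a ha) hg (ih ν (Multiset.lt_cons_self ν a) (fun b hb => hpos b (Multiset.mem_cons_of_mem hb))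
        fun b hb0 hb => ?_)
      have hne : b ≠ a := fun e => hb (e ▸ hg)
      simpa [Multiset.count_cons_of_ne hne] using hev b hb0 hb
    · have hc := hev a (hpos a ha) hg
      rw [Multiset.count_cons_self] at hc
      have ha2 : a ∈ ν := Multiset.count_pos.1 (by rcases hc with ⟨r, hr⟩; omega)
      obtain ⟨ρ, rfl⟩ := Multiset.exists_cons_of_mem ha2
      refine h2 a ρ (hpos a ha) (ih ρ ((Multiset.lt_cons_self ρ a).trans (Multiset.lt_cons_self _ a))
        (fun b hb => hpos b (Multiset.mem_cons_of_mem (Multiset.mem_cons_of_mem hb))) fun b hb0 hb => ?_)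
      have := hev b hb0 hb
      rw [Multiset.count_cons, Multiset.count_cons] at this
      split_ifs at this with e
      · obtain ⟨r, hr⟩ := this; exact ⟨r - 1, by omega⟩
      · simpa using this

/-! ### Symplectic groups -/

theorem blockMat_sub_one {a b : ℕ} (A : Matrix (Fin a ⊕ Fin a) (Fin a ⊕ Fin a) F) (B : Matrix (Fin b ⊕ Fin b) (Fin b ⊕ Fin b) F) :
    Classical.blockMat A B - 1 =
      (Matrix.fromBlocks (A - 1) 0 0 (B - 1)).submatrix (Classical.sympBlockEquiv a b).symm (Classical.sympBlockEquiv a b).symm := by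
  rw [← Classical.blockMat_one]
  ext i j
  simp only [Classical.blockMat, Matrix.submatrix_apply, Matrix.sub_apply]
  rcases (Classical.sympBlockEquiv a b).symm i with k | k <;> rcases (Classical.sympBlockEquiv a b).symm j with l | l <;>
    simp

/-- A symplectic unipotent element of type `μ`. -/
def SForm (F : Type*) [Field F] (μ : Multiset ℕ) : Prop :=
  ∀ m : ℕ, μ.sum = 2 * m → ∃ A : Matrix (Fin m ⊕ Fin m) (Fin m ⊕ Fin m) F, A ∈ Matrix.symplecticGroup (Fin m) F ∧
    IsNilpotent (A - 1) ∧ mparts (A - 1) = μ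

theorem sp_join {a c : ℕ} {X : Matrix (Fin a ⊕ Fin a) (Fin a ⊕ Fin a) F} {Y : Matrix (Fin c ⊕ Fin c) (Fin c ⊕ Fin c) F}
    (hX : X ∈ Matrix.symplecticGroup (Fin a) F) (hY : Y ∈ Matrix.symplecticGroup (Fin c) F)
    (hXn : IsNilpotent (X - 1)) (hYn : IsNilpotent (Y - 1)) :
    ∃ A : Matrix (Fin (a + c) ⊕ Fin (a + c)) (Fin (a + c) ⊕ Fin (a + c)) F,
      A ∈ Matrix.symplecticGroup (Fin (a + c)) F ∧ IsNilpotent (A - 1) ∧ mparts (A - 1) = mparts (X - 1) + mparts (Y - 1) := by
  refine ⟨Classical.blockMat X Y, Classical.blockMat_mem ⟨X, hX⟩ ⟨Y, hY⟩, ?_⟩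
  rw [blockMat_sub_one]
  obtain ⟨h1, h2⟩ := mparts_submatrix (Classical.sympBlockEquiv a c) (nil_fromBlocks hXn hYn)
  exact ⟨h1, h2.trans (mparts_fromBlocks hXn hYn)⟩

theorem sp_pair (F : Type*) [Field F] {a : ℕ} (ha : 0 < a) :
    ∃ X : Matrix (Fin a ⊕ Fin a) (Fin a ⊕ Fin a) F, X ∈ Matrix.symplecticGroup (Fin a) F ∧ IsNilpotent (X - 1) ∧
      mparts (X - 1) = {a} + {a} := by
  obtain ⟨g, hgn, -, -, hgp⟩ := exists_gl_block F ha
  obtain ⟨hWn, hWp⟩ := mparts_invTranspose g hgn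
  refine ⟨Matrix.fromBlocks (g : Matrix (Fin a) (Fin a) F) 0 0 ((g⁻¹ : GL (Fin a) F) : Matrix (Fin a) (Fin a) F)ᵀ,
    (Classical.sympLevi a g).2, ?_⟩
  have e : Matrix.fromBlocks (g : Matrix (Fin a) (Fin a) F) 0 0 ((g⁻¹ : GL (Fin a) F) : Matrix (Fin a) (Fin a) F)ᵀ - 1 =
      Matrix.fromBlocks ((g : Matrix (Fin a) (Fin a) F) - 1) 0 0 (((g⁻¹ : GL (Fin a) F) : Matrix (Fin a) (Fin a) F)ᵀ - 1) := by
    ext (i | i) (j | j) <;> simp [Matrix.one_apply]
  rw [e]
  exact ⟨nil_fromBlocks hgn hWn, by rw [mparts_fromBlocks hgn hWn, hWp, hgp]⟩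

theorem exists_sform (p : ℕ) [Fact p.Prime] [CharP F p] (μ : Multiset ℕ) (hpos : ∀ a ∈ μ, 0 < a)
    (hev : ∀ a, 0 < a → ¬ Even a → Even (μ.count a)) : SForm F μ := by
  refine block_induction (P := SForm F) (good := fun a => Even a) ?_ ?_ ?_ μ hpos hev
  · intro m hm
    obtain rfl : m = 0 := by simp only [Multiset.sum_zero] at hm; omega
    refine ⟨1, one_mem _, by rw [sub_self]; exact IsNilpotent.zero, Multiset.eq_zero_of_forall_notMem fun a ha => ?_⟩
    rw [sub_self] at ha
    have h1 := pos_of_mem IsNilpotent.zero ha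
    have h2 := Multiset.single_le_sum (fun x _ => Nat.zero_le x) a ha
    rw [sum_mparts IsNilpotent.zero] at h2
    simp at h2
    omega
  · rintro a ν ha ⟨i, rfl⟩ ih m hm
    rw [Multiset.sum_cons] at hm
    obtain ⟨c, rfl⟩ := Nat.exists_eq_add_of_le (show i ≤ m by omega)
    obtain ⟨B, hBm, hB, hBp⟩ := ih c (by omega)
    obtain ⟨x, hx0, hx1⟩ := Classical.exists_symp_regular_nilpotent (F := F) p (show 1 ≤ i by omega)
    have hx := mparts_of_regular (n := 2 * i) (by simp [two_mul]) (by omega) hx0 hx1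
    obtain ⟨A, hA, hAn, hAp⟩ := sp_join x.2 hBm ⟨_, hx0⟩ hB
    exact ⟨A, hA, hAn, by rw [hAp, hx, hBp, Multiset.singleton_add, two_mul]⟩
  · intro a ν ha ih m hm
    rw [Multiset.sum_cons, Multiset.sum_cons] at hm
    obtain ⟨c, rfl⟩ := Nat.exists_eq_add_of_le (show a ≤ m by omega)
    obtain ⟨B, hBm, hB, hBp⟩ := ih c (by omega)
    obtain ⟨X, hX, hXn, hXp⟩ := sp_pair F ha
    obtain ⟨A, hA, hAn, hAp⟩ := sp_join hX hBm hXn hB
    exact ⟨A, hA, hAn, by rw [hAp, hXp, hBp, add_assoc, Multiset.singleton_add, Multiset.singleton_add]⟩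

/-! ### Symmetric forms in odd characteristic -/

/-- A unipotent isometry of type `μ` of some invertible symmetric matrix. -/
def OForm (F : Type*) [Field F] (μ : Multiset ℕ) : Prop :=
  ∃ (ι : Type) (_ : Fintype ι) (_ : DecidableEq ι) (g S : Matrix ι ι F), Sᵀ = S ∧ IsUnit S.det ∧ gᵀ * S * g = S ∧
    IsNilpotent (g - 1) ∧ mparts (g - 1) = μ

theorem oform_add {μ ν : Multiset ℕ} (h : OForm F μ) (h' : OForm F ν) : OForm F (μ + ν) := by
  obtain ⟨ι, _, _, g, S, hS, hSu, hg, hn, hp⟩ := h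
  obtain ⟨κ, _, _, g', S', hS', hSu', hg', hn', hp'⟩ := h'
  have e : Matrix.fromBlocks g 0 0 g' - 1 = Matrix.fromBlocks (g - 1) 0 0 (g' - 1) := by
    rw [← Matrix.fromBlocks_one]; ext (i | i) (j | j) <;> simp [Matrix.one_apply]
  refine ⟨ι ⊕ κ, inferInstance, inferInstance, Matrix.fromBlocks g 0 0 g', Matrix.fromBlocks S 0 0 S', ?_, ?_, ?_, ?_, ?_⟩
  · rw [Matrix.fromBlocks_transpose, hS, hS', Matrix.transpose_zero, Matrix.transpose_zero]
  · rw [Matrix.det_fromBlocks_zero₂₁]; exact hSu.mul hSu'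
  · rw [Matrix.fromBlocks_transpose, Matrix.transpose_zero, Matrix.transpose_zero, Matrix.fromBlocks_multiply,
      Matrix.fromBlocks_multiply]
    simp only [Matrix.mul_zero, Matrix.zero_mul, add_zero, zero_add, hg, hg']
  · rw [e]; exact nil_fromBlocks hn hn'
  · rw [e, mparts_fromBlocks hn hn', hp, hp']

theorem oform_pair {a : ℕ} (ha : 0 < a) : OForm F {a, a} := by
  obtain ⟨g, hgn, -, -, hgp⟩ := exists_gl_block F ha
  obtain ⟨hWn, hWp⟩ := mparts_invTranspose g hgn
  set W := ((g⁻¹ : GL (Fin a) F) : Matrix (Fin a) (Fin a) F)ᵀ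
  have hgW : (g : Matrix (Fin a) (Fin a) F)ᵀ * W = 1 := by
    rw [← Matrix.transpose_mul, ← Units.val_mul, inv_mul_cancel, Units.val_one, Matrix.transpose_one]
  have hWg : Wᵀ * (g : Matrix (Fin a) (Fin a) F) = 1 := by
    rw [Matrix.transpose_transpose, ← Units.val_mul, inv_mul_cancel, Units.val_one]
  have e : Matrix.fromBlocks (g : Matrix (Fin a) (Fin a) F) 0 0 W - 1 =
      Matrix.fromBlocks ((g : Matrix (Fin a) (Fin a) F) - 1) 0 0 (W - 1) := by
    rw [← Matrix.fromBlocks_one]; ext (i | i) (j | j) <;> simp [Matrix.one_apply]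
  refine ⟨Fin a ⊕ Fin a, inferInstance, inferInstance, Matrix.fromBlocks (g : Matrix (Fin a) (Fin a) F) 0 0 W,
    Matrix.fromBlocks 0 1 1 0, ?_, ?_, ?_, ?_, ?_⟩
  · simp [Matrix.fromBlocks_transpose]
  · refine IsUnit.of_mul_eq_one (Matrix.det (Matrix.fromBlocks 0 1 1 0 : Matrix (Fin a ⊕ Fin a) (Fin a ⊕ Fin a) F)) ?_
    rw [← Matrix.det_mul, Matrix.fromBlocks_multiply]
    simp [Matrix.fromBlocks_one]
  · rw [Matrix.fromBlocks_transpose, Matrix.transpose_zero, Matrix.fromBlocks_multiply, Matrix.fromBlocks_multiply]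
    simp [hgW, hWg]
  · rw [e]; exact nil_fromBlocks hgn hWn
  · rw [e, mparts_fromBlocks hgn hWn, hWp, hgp, Multiset.singleton_add]; rfl

theorem oform_single [Fintype F] (p : ℕ) [Fact p.Prime] [CharP F p] (h2 : (2 : F) ≠ 0) {a : ℕ} (ha : Odd a) :
    OForm F {a} := by
  obtain ⟨g, hgn, hg0, hg1, hgp⟩ := exists_gl_block F ha.pos
  obtain ⟨hWn, hWp⟩ := mparts_invTranspose g hgn
  obtain ⟨X, hX⟩ := exists_similar hgn hWn hWp.symm
  set G := (g : Matrix (Fin a) (Fin a) F)
  set W := ((g⁻¹ : GL (Fin a) F) : Matrix (Fin a) (Fin a) F)ᵀ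
  have hXg : X.val * G = W * X.val := by
    rwa [mul_sub, sub_mul, mul_one, one_mul, sub_left_inj] at hX
  have hgW : Gᵀ * W = 1 := by
    rw [← Matrix.transpose_mul, ← Units.val_mul, inv_mul_cancel, Units.val_one, Matrix.transpose_one]
  have hinv : Gᵀ * X.val * G = X.val := by rw [mul_assoc, hXg, ← mul_assoc, hgW, one_mul]
  have hinvT : Gᵀ * X.valᵀ * G = X.valᵀ := by
    have := congrArg Matrix.transpose hinv
    rw [Matrix.transpose_mul, Matrix.transpose_mul, Matrix.transpose_transpose, ← mul_assoc] at this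
    exact this
  have hXgT : X.valᵀ * G = W * X.valᵀ := by
    conv_rhs => rw [← hinvT, ← mul_assoc, ← mul_assoc, mul_eq_one_comm.1 hgW, one_mul]
  set c := X.inv * X.valᵀ
  have hXc : X.val * c = X.valᵀ := by rw [← mul_assoc, X.val_inv, one_mul]
  have hcomm : Commute (G - 1) c := by
    refine Commute.sub_left ?_ (Commute.one_left _)
    show G * c = c * G
    calc G * c = X.inv * (X.val * G) * X.inv * X.valᵀ := by
          simp only [← mul_assoc, X.inv_val, one_mul, c]
      _ = X.inv * W * (X.val * X.inv) * X.valᵀ := by rw [hXg]; simp only [mul_assoc]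
      _ = c * G := by rw [X.val_inv, mul_one, mul_assoc, ← hXgT, ← mul_assoc]
  obtain ⟨cf, hcf⟩ := SympRegularUnipotent.exists_poly (Fintype.card_fin a) hg0 hg1 hcomm
  have hnil := SympRegularUnipotent.poly_nilpotent hg0 ha.pos cf
  rw [← hcf] at hnil
  set r := cf ⟨0, ha.pos⟩
  have hr : r + 1 ≠ 0 := by
    intro hr
    have hr' : r = -1 := eq_neg_of_add_eq_zero_left hr
    rw [hr', neg_one_smul, sub_neg_eq_add] at hnil
    have hdet : c.det = 1 := by
      rw [Matrix.det_mul, Matrix.det_transpose, ← Matrix.det_mul, X.inv_val, Matrix.det_one]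
    have hone : (1 + -(c + 1)).det = 1 := by
      obtain ⟨k, hk⟩ := hnil.neg
      haveI : Nonempty (Fin a) := ⟨⟨0, ha.pos⟩⟩
      have hpow : (1 + -(c + 1)) ^ p ^ k = 1 := by
        rw [add_pow_char_pow_of_commute _ _ (Commute.one_left _), one_pow,
          pow_eq_zero_of_le (Nat.lt_pow_self (Fact.out : p.Prime).one_lt).le hk, add_zero]
      have h' := congrArg Matrix.det hpow
      rw [Matrix.det_pow, Matrix.det_one] at h'
      exact iterateFrobenius_inj F p k (by rw [iterateFrobenius_def, iterateFrobenius_def, h', one_pow])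
    rw [show 1 + -(c + 1) = -c by abel, Matrix.det_neg, Fintype.card_fin, ha.neg_one_pow, hdet] at hone
    exact h2 (by linear_combination -hone)
  have hc1 : IsUnit (c + 1) := by
    rw [show c + 1 = algebraMap F _ (r + 1) + (c - r • (1 : Matrix (Fin a) (Fin a) F)) by
      rw [Algebra.algebraMap_eq_smul_one, add_smul, one_smul]; abel, add_comm]
    exact hnil.isUnit_add_right_of_commute ((isUnit_iff_ne_zero.2 hr).map (algebraMap F _)) (Algebra.commutes _ _).symm
  have hS : X.valᵀ + X.val = X.val * (c + 1) := by rw [mul_add, hXc, mul_one]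
  refine ⟨Fin a, inferInstance, inferInstance, G, X.valᵀ + X.val, ?_, ?_, ?_, hgn, hgp⟩
  · rw [Matrix.transpose_add, Matrix.transpose_transpose, add_comm]
  · rw [hS]; exact (Matrix.isUnit_iff_isUnit_det _).1 (X.isUnit.mul hc1)
  · rw [mul_add, add_mul, hinvT, hinv]

theorem exists_oform [Fintype F] (p : ℕ) [Fact p.Prime] [CharP F p] (h2 : (2 : F) ≠ 0) (μ : Multiset ℕ)
    (hpos : ∀ a ∈ μ, 0 < a) (hev : ∀ a, 0 < a → ¬ Odd a → Even (μ.count a)) : OForm F μ := by
  refine block_induction (P := OForm F) (good := fun a => Odd a) ?_ (fun a ν _ ho ih => ?_) (fun a ν ha ih => ?_) μ hpos hev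
  · have hz : (1 : Matrix (Fin 0) (Fin 0) F) - 1 = 0 := sub_self _
    refine ⟨Fin 0, inferInstance, inferInstance, 1, 1, Matrix.transpose_one, by simp,
      by rw [Matrix.transpose_one, one_mul, one_mul], by rw [hz]; exact IsNilpotent.zero,
      Multiset.eq_zero_of_forall_notMem fun a ha => ?_⟩
    rw [hz] at ha
    have h1 := pos_of_mem IsNilpotent.zero ha
    have h3 := Multiset.single_le_sum (fun x _ => Nat.zero_le x) a ha
    rw [sum_mparts IsNilpotent.zero] at h3
    simp at h3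
    omega
  · rw [← Multiset.singleton_add]; exact oform_add (oform_single p h2 ho) ih
  · have h := oform_add (oform_pair (F := F) ha) ih
    rwa [Multiset.insert_eq_cons, Multiset.cons_add, Multiset.singleton_add] at h

/-! ### Jordan matrices -/

theorem mparts_jordanType {t : ℕ} (d : Fin t → ℕ) (hd : ∀ k, 1 ≤ d k) :
    IsNilpotent (jordanTypeMatrix d F - 1) ∧ mparts (jordanTypeMatrix d F - 1) = Finset.univ.val.map d := by
  obtain ⟨hc, hn⟩ := JordanChains.blocksShift_chains (F := F) (k := d) hd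
  have e : Matrix.toLinAlgEquiv' (jordanTypeMatrix d F - 1) = JordanChains.blocksShift F d := by
    refine (Pi.basisFun F _).ext fun x => ?_
    rw [Pi.basisFun_apply, JordanChains.blocksShift, ← Pi.basisFun_apply F _ x, Module.Basis.constr_basis, Pi.basisFun_apply]
    funext y
    rw [Matrix.toLinAlgEquiv'_apply, Matrix.mulVec_single_one]
    obtain ⟨k, i⟩ := x
    obtain ⟨l, i'⟩ := y
    show (jordanTypeMatrix d F - 1) ⟨l, i'⟩ ⟨k, i⟩ = _
    rw [Matrix.sub_apply, jordanTypeMatrix, Matrix.blockDiagonal'_apply]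
    by_cases hlk : l = k
    · subst hlk
      rw [dif_pos rfl]
      simp only [cast_eq, jordanBlock, Matrix.of_apply, Matrix.one_apply, Sigma.mk.injEq, heq_eq_eq, true_and, Fin.ext_iff]
      by_cases h : (i : ℕ) + 1 < d l
      · rw [dif_pos h, Pi.single_apply]
        simp only [Sigma.mk.injEq, heq_eq_eq, true_and, Fin.ext_iff]
        split_ifs <;> first | (exfalso; omega) | simp
      · rw [dif_neg h, Pi.zero_apply]
        split_ifs <;> first | (exfalso; omega) | simp
    · rw [dif_neg hlk, Matrix.one_apply_ne (fun e => hlk (congrArg Sigma.fst e)), sub_zero]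
      split_ifs with h
      · rw [Pi.single_apply, if_neg (fun e => hlk (congrArg Sigma.fst e))]
      · rfl
  have hnM : IsNilpotent (jordanTypeMatrix d F - 1) := by
    obtain ⟨l, hl⟩ := hn
    exact ⟨l, Matrix.toLinAlgEquiv'.injective (by rw [map_pow, e, hl, map_zero])⟩
  exact ⟨hnM, by rw [mparts, e, hc.parts_eq]⟩

/-- Being conjugate to the Jordan matrix of type `d`. -/
theorem realised_iff {n : Type*} [Fintype n] [DecidableEq n] {t : ℕ} (d : Fin t → ℕ) (hd : ∀ k, 1 ≤ d k)
    (M : Matrix n n F) :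
    (∃ e : ((k : Fin t) × Fin (d k)) ≃ n, IsConj (Matrix.reindex e e (jordanTypeMatrix d F)) M) ↔
      IsNilpotent (M - 1) ∧ mparts (M - 1) = Finset.univ.val.map d := by
  obtain ⟨hJn, hJp⟩ := mparts_jordanType (F := F) d hd
  have hre : ∀ e : ((k : Fin t) × Fin (d k)) ≃ n,
      Matrix.reindex e e (jordanTypeMatrix d F) - 1 = Matrix.reindex e e (jordanTypeMatrix d F - 1) := fun e => by
    ext i j
    simp [Matrix.one_apply, e.symm.injective.eq_iff]
  constructor
  · rintro ⟨e, c, hc⟩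
    obtain ⟨h1, h2⟩ := mparts_reindex e hJn
    rw [← hre] at h1 h2
    have hP : (c : Matrix n n F) * (Matrix.reindex e e (jordanTypeMatrix d F) - 1) = (M - 1) * (c : Matrix n n F) := by
      rw [mul_sub, sub_mul, mul_one, one_mul, hc.eq]
    refine ⟨?_, by rw [mparts_eq_of_similar h1 c hP, h2, hJp]⟩
    obtain ⟨l, hl⟩ := h1
    refine ⟨l, ?_⟩
    have hs : SemiconjBy (c : Matrix n n F) (Matrix.reindex e e (jordanTypeMatrix d F) - 1) (M - 1) := hP
    have := (hs.pow_right l).eq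
    rw [hl, mul_zero] at this
    exact c.isUnit.mul_left_eq_zero.1 this.symm
  · rintro ⟨hn, hp⟩
    have hcard : Fintype.card ((k : Fin t) × Fin (d k)) = Fintype.card n := by
      rw [← sum_mparts hn, hp, ← sum_mparts hJn, hJp]
    let e := Fintype.equivOfCardEq hcard
    obtain ⟨h1, h2⟩ := mparts_reindex e hJn
    rw [← hre] at h1 h2
    obtain ⟨P, hP⟩ := exists_similar h1 hn (by rw [h2, hJp, hp])
    exact ⟨e, P, by
      show P.val * _ = M * P.val
      rwa [mul_sub, sub_mul, mul_one, one_mul, sub_left_inj] at hP⟩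

theorem count_map {t : ℕ} (d : Fin t → ℕ) (j : ℕ) :
    (Finset.univ.val.map d).count j = (Finset.univ.filter fun k : Fin t => d k = j).card := by
  rw [Multiset.count_map, Finset.card_def, Finset.filter_val]
  simp only [eq_comm]

/-- Necessity for isometries given by matrices. -/
theorem even_count_matrix {S g g' : Matrix ι ι F} (hS : IsUnit S.det) (hg : gᵀ * S * g = S) (hg' : g' * g = 1)
    (hn : IsNilpotent (g - 1)) {j : ℕ} (hj : 0 < j)
    (hcase : ((Matrix.toBilin' S).IsAlt ∧ Odd j) ∨ (Sᵀ = S ∧ Even j ∧ (2 : F) ≠ 0)) :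
    Even ((mparts (g - 1)).count j) := by
  rw [mparts, map_sub, map_one]
  refine UnipotentParity.even_count (Matrix.toBilin' S)
    (LinearMap.BilinForm.nondegenerate_toBilin'_iff_det_ne_zero.2 hS.ne_zero) _ (Matrix.toLinAlgEquiv' g')
    (by rw [← map_mul, hg', map_one]) (by rw [← map_mul, mul_eq_one_comm.1 hg', map_one]) (fun u v => ?_) ?_ hj ?_
  · rw [Matrix.toBilin'_apply', Matrix.toBilin'_apply', Matrix.toLinAlgEquiv'_apply, Matrix.toLinAlgEquiv'_apply,
      Matrix.mulVec_mulVec, Matrix.dotProduct_mulVec, ← Matrix.vecMul_transpose, Matrix.vecMul_vecMul,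
      ← mul_assoc, hg, ← Matrix.dotProduct_mulVec]
  · rw [← map_one (Matrix.toLinAlgEquiv' : Matrix ι ι F ≃ₐ[F] _), ← map_sub]; exact nil_end hn
  · rcases hcase with h | ⟨h1, h2, h3⟩
    · exact Or.inl h
    · exact Or.inr ⟨fun u v => by
        rw [Matrix.toBilin'_apply', Matrix.toBilin'_apply', Matrix.dotProduct_mulVec, ← Matrix.mulVec_transpose, h1,
          dotProduct_comm], h2, h3⟩

/-- In characteristic two a symplectic transformation preserves a quadratic form with the same polar form. -/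
theorem exists_quad [Fintype F] [CharP F 2] (U A : Matrix ι ι F) (hA : Aᵀ * (U + Uᵀ) * A = U + Uᵀ) :
    ∃ U' : Matrix ι ι F, U' + U'ᵀ = U + Uᵀ ∧ ∀ v, (A *ᵥ v) ⬝ᵥ (U' *ᵥ (A *ᵥ v)) = v ⬝ᵥ (U' *ᵥ v) := by
  have hadd : ∀ a : F, a + a = 0 := fun a => CharTwo.add_self_eq_zero a
  set M := Aᵀ * U * A + U with hM
  have hsym : Mᵀ = M := by
    have h : Aᵀ * U * A + Aᵀ * Uᵀ * A = U + Uᵀ := by rw [← hA, mul_add, add_mul]
    rw [hM, Matrix.transpose_add, Matrix.transpose_mul, Matrix.transpose_mul, Matrix.transpose_transpose, ← mul_assoc]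
    ext i j
    have hh := congrFun (congrFun h i) j
    simp only [Matrix.add_apply] at hh ⊢
    simp only [Matrix.transpose_apply] at hh ⊢
    linear_combination hh - hadd ((Aᵀ * U * A) i j) + hadd (U j i)
  have hsq : ∀ x : F, ∃ r, r * r = x := fun x => by
    obtain ⟨r, hr⟩ := FiniteField.isSquare_of_char_two (ringChar.eq F 2) x
    exact ⟨r, hr.symm⟩
  choose sq hsqe using hsq
  let φ : (ι → F) →ₗ[F] F := ∑ i, sq (M i i) • LinearMap.proj i
  have hφ : ∀ v, φ v * φ v = (A *ᵥ v) ⬝ᵥ (U *ᵥ (A *ᵥ v)) + v ⬝ᵥ (U *ᵥ v) := fun v => by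
    have e1 : (A *ᵥ v) ⬝ᵥ (U *ᵥ (A *ᵥ v)) + v ⬝ᵥ (U *ᵥ v) = v ⬝ᵥ (M *ᵥ v) := by
      rw [hM, Matrix.add_mulVec, dotProduct_add, mul_assoc, ← Matrix.mulVec_mulVec, ← Matrix.mulVec_mulVec,
        Matrix.dotProduct_mulVec v Aᵀ, Matrix.vecMul_transpose]
    have hdiag : ∀ s : Finset ι, ∑ i ∈ s, ∑ j ∈ s, v i * M i j * v j = ∑ i ∈ s, M i i * (v i * v i) := fun s => by
      induction s using Finset.induction with
      | empty => simp
      | insert a s ha ih =>
        simp only [Finset.sum_insert ha, Finset.sum_add_distrib, ih]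
        have hs : ∑ i ∈ s, v i * M i a * v a = ∑ j ∈ s, v a * M a j * v j := Finset.sum_congr rfl fun i _ => by
          rw [show M i a = M a i from congrFun (congrFun hsym a) i]; ring
        rw [hs]
        linear_combination hadd (∑ j ∈ s, v a * M a j * v j)
    have hsum : ∀ s : Finset ι, (∑ i ∈ s, sq (M i i) * v i) * (∑ i ∈ s, sq (M i i) * v i) =
        ∑ i ∈ s, M i i * (v i * v i) := fun s => by
      induction s using Finset.induction with
      | empty => simp
      | insert a s ha ih =>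
        rw [Finset.sum_insert ha, Finset.sum_insert ha, ← ih]
        linear_combination (v a * v a) * hsqe (M a a) + hadd (sq (M a a) * v a * ∑ i ∈ s, sq (M i i) * v i)
    rw [e1, show φ v = ∑ i, sq (M i i) * v i by simp [φ], hsum, ← hdiag]
    simp [dotProduct, Matrix.mulVec, Finset.mul_sum, mul_assoc]
  let N : (ι → F) →ₗ[F] (ι → F) := Matrix.toLin' (A - 1)
  obtain ⟨ψ, hψ⟩ : φ ∈ LinearMap.range N.dualMap := by
    rw [LinearMap.range_dualMap_eq_dualAnnihilator_ker, Submodule.mem_dualAnnihilator]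
    intro v hv
    have hAv : A *ᵥ v = v := by
      rw [LinearMap.mem_ker, Matrix.toLin'_apply, Matrix.sub_mulVec, Matrix.one_mulVec, sub_eq_zero] at hv
      exact hv
    have h := hφ v
    rw [hAv, hadd] at h
    exact mul_self_eq_zero.1 h
  let l : ι → F := fun i => ψ (Pi.single i 1)
  have hl : ∀ v, ψ v = l ⬝ᵥ v := fun v => by
    conv_lhs => rw [← Finset.univ_sum_single v]
    rw [map_sum, dotProduct]
    refine Finset.sum_congr rfl fun i _ => ?_
    rw [show (Pi.single i (v i) : ι → F) = v i • Pi.single i 1 by rw [← Pi.single_smul, smul_eq_mul, mul_one], map_smul,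
      smul_eq_mul, mul_comm]
  refine ⟨U + Matrix.vecMulVec l l, ?_, fun v => ?_⟩
  · rw [Matrix.transpose_add, Matrix.transpose_vecMulVec]
    ext i j
    simp only [Matrix.add_apply, Matrix.vecMulVec_apply, Matrix.transpose_apply]
    linear_combination hadd (l i * l j)
  · have hq : ∀ w, w ⬝ᵥ (Matrix.vecMulVec l l *ᵥ w) = ψ w * ψ w := fun w => by
      rw [Matrix.vecMulVec_mulVec, op_smul_eq_smul, dotProduct_smul, smul_eq_mul, hl, dotProduct_comm w l]
    rw [Matrix.add_mulVec, Matrix.add_mulVec, dotProduct_add, dotProduct_add, hq, hq]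
    have hd : ψ (A *ᵥ v) = ψ v + φ v := by
      rw [← hψ]
      show _ = ψ v + ψ (N v)
      rw [← map_add, Matrix.toLin'_apply, Matrix.sub_mulVec, Matrix.one_mulVec, add_sub_cancel]
    rw [hd]
    linear_combination hφ v + hadd ((A *ᵥ v) ⬝ᵥ (U *ᵥ (A *ᵥ v))) + hadd (ψ v * φ v)

end Cfsg.Agent.UnipotentRealisation
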