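import Cfsg.Agent.Lib.Classical.SubspaceDerange
import Cfsg.Agent.Lib.Classical.UnipotentRealisation
import Mathlib

/-!
Elements of prime order modulo scalars of `SL n` fixing no decomposition `U ⊕ W`.
-/

set_option autoImplicit false

namespace Cfsg.Agent.DecompDerange

open Polynomial Module

universe u

variable {F : Type u} [Field F] {n : ℕ}

local notation "Vn" => (Fin n → F)

/-- the property -/
def Fixes (m : ℕ) (e : Vn →ₗ[F] Vn) : Prop :=
  ∃ U W : Submodule F Vn, IsCompl U W ∧ finrank F U = m ∧ U.map e ≤ U ∧ W.map e ≤ W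

theorem fixes_smul {m : ℕ} {e : Vn →ₗ[F] Vn} (h : Fixes m e) (d : F) (x : F) :
    Fixes m (d • e + x • LinearMap.id) := by
  obtain ⟨U, W, hc, hd, hU, hW⟩ := h
  refine ⟨U, W, hc, hd, ?_, ?_⟩
  · rintro _ ⟨v, hv, rfl⟩
    simpa using U.add_mem (U.smul_mem d (hU ⟨v, hv, rfl⟩)) (U.smul_mem x hv)
  · rintro _ ⟨v, hv, rfl⟩
    simpa using W.add_mem (W.smul_mem d (hW ⟨v, hv, rfl⟩)) (W.smul_mem x hv)

/-- decompositions invariant under a nilpotent map -/
theorem fixes_nilpotent_iff {N : Module.End F Vn} (hN : IsNilpotent N) (m : ℕ) :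
    Fixes m N ↔ ∃ ν : Multiset ℕ, ν ≤ JordanChains.parts N ∧ ν.sum = m := by
  classical
  constructor
  · rintro ⟨U, W, hc, hd, hU, hW⟩
    have hU' : ∀ v ∈ U, N v ∈ U := fun v hv => hU ⟨v, hv, rfl⟩
    have hW' : ∀ v ∈ W, N v ∈ W := fun v hv => hW ⟨v, hv, rfl⟩
    have nil : ∀ (S : Submodule F Vn) (hS : ∀ v ∈ S, N v ∈ S), IsNilpotent (N.restrict hS : Module.End F S) := by
      intro S hS
      obtain ⟨k, hk⟩ := hN
      refine ⟨k, LinearMap.ext fun v => Subtype.ext ?_⟩
      rw [Module.End.pow_restrict k hS]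
      show (N ^ k) (v : Vn) = 0
      rw [hk]; rfl
    have h1 := UnipotentRealisation.parts_prod (nil U hU') (nil W hW')
    have h2 := JordanChains.parts_congr (N' := N) (N := (LinearMap.prodMap (N.restrict hU') (N.restrict hW') : Module.End F (U × W)))
      (by
        obtain ⟨a, ha⟩ := nil U hU'
        obtain ⟨b, hb⟩ := nil W hW'
        refine ⟨a + b, LinearMap.ext fun x => ?_⟩
        have hpow : ∀ (j : ℕ) (x : U × W),
            ((LinearMap.prodMap (N.restrict hU') (N.restrict hW') : Module.End F (U × W)) ^ j) x =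
              (((N.restrict hU' : Module.End F U) ^ j) x.1, ((N.restrict hW' : Module.End F W) ^ j) x.2) := fun j => by
          induction j with
          | zero => intro x; rfl
          | succ j ih =>
            intro x
            rw [JordanChains.pow_succ_apply, ih, JordanChains.pow_succ_apply, JordanChains.pow_succ_apply]
            rfl
        rw [hpow, pow_eq_zero_of_le (Nat.le_add_right a b) ha, pow_eq_zero_of_le (Nat.le_add_left b a) hb]
        rfl)
      (Submodule.prodEquivOfIsCompl U W hc) (fun x => by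
        simp [Submodule.coe_prodEquivOfIsCompl'])
    refine ⟨JordanChains.parts (N.restrict hU' : Module.End F U), ?_, ?_⟩
    · rw [h2, h1]; exact Multiset.le_add_right _ _
    · rw [JordanChains.sum_parts (nil U hU'), hd]
  · rintro ⟨ν, hle, hsum⟩
    obtain ⟨ξ, hξ⟩ := Multiset.le_iff_exists_add.1 hle
    have hpos : ∀ a ∈ ν + ξ, 0 < a := fun a ha => JordanChains.pos_of_mem_parts hN (hξ ▸ ha)
    have hn : m + ξ.sum = n := by
      have := JordanChains.sum_parts hN
      rw [hξ, Multiset.sum_add, hsum, finrank_fin_fun] at this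
      exact this
    obtain ⟨N₁, hn₁, hp₁⟩ := JordanChains.exists_parts_eq (F := F) (V := Fin m → F) ν
      (fun a ha => hpos a (Multiset.mem_add.2 (Or.inl ha))) (by rw [hsum, finrank_fin_fun])
    obtain ⟨N₂, hn₂, hp₂⟩ := JordanChains.exists_parts_eq (F := F) (V := Fin ξ.sum → F) ξ
      (fun a ha => hpos a (Multiset.mem_add.2 (Or.inr ha))) (by rw [finrank_fin_fun])
    have hp : JordanChains.parts (N₁.prodMap N₂ : Module.End F ((Fin m → F) × (Fin ξ.sum → F))) =
        JordanChains.parts N := by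
      rw [UnipotentRealisation.parts_prod hn₁ hn₂, hp₁, hp₂, hξ]
    have hnil : IsNilpotent (N₁.prodMap N₂ : Module.End F ((Fin m → F) × (Fin ξ.sum → F))) := by
      obtain ⟨a, ha⟩ := hn₁
      obtain ⟨b, hb⟩ := hn₂
      refine ⟨a + b, LinearMap.ext fun x => ?_⟩
      have hpow : ∀ (j : ℕ) (x : (Fin m → F) × (Fin ξ.sum → F)),
          ((N₁.prodMap N₂ : Module.End F ((Fin m → F) × (Fin ξ.sum → F))) ^ j) x = ((N₁ ^ j) x.1, (N₂ ^ j) x.2) :=
        fun j => by
          induction j with
          | zero => intro x; rfl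
          | succ j ih =>
            intro x
            rw [JordanChains.pow_succ_apply, ih, JordanChains.pow_succ_apply, JordanChains.pow_succ_apply]
            rfl
      rw [hpow, pow_eq_zero_of_le (Nat.le_add_right a b) ha, pow_eq_zero_of_le (Nat.le_add_left b a) hb]
      rfl
    obtain ⟨e, he⟩ := JordanChains.exists_equiv hnil hN hp
    refine ⟨(LinearMap.range (LinearMap.inl F (Fin m → F) (Fin ξ.sum → F))).map (e : _ →ₗ[F] Vn),
      (LinearMap.range (LinearMap.inr F (Fin m → F) (Fin ξ.sum → F))).map (e : _ →ₗ[F] Vn), ?_, ?_, ?_, ?_⟩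
    · exact (OrderIso.isCompl_iff (Submodule.orderIsoMapComap e)).1 LinearMap.isCompl_range_inl_inr
    · rw [LinearEquiv.finrank_map_eq, LinearMap.finrank_range_of_inj LinearMap.inl_injective, finrank_fin_fun]
    · rintro _ ⟨_, ⟨_, ⟨y, rfl⟩, rfl⟩, rfl⟩
      refine ⟨LinearMap.inl F _ _ (N₁ y), ⟨_, rfl⟩, ?_⟩
      show e (N₁ y, 0) = N (e (y, 0))
      rw [← he]
      simp
    · rintro _ ⟨_, ⟨_, ⟨y, rfl⟩, rfl⟩, rfl⟩
      refine ⟨LinearMap.inr F _ _ (N₂ y), ⟨_, rfl⟩, ?_⟩
      show e (0, N₂ y) = N (e (0, y))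
      rw [← he]
      simp

variable [Fintype F] {p : ℕ} [Fact p.Prime] [CharP F p]

theorem char_criterion (hn : 1 ≤ n) (m : ℕ) (hm : m ≤ n) :
    (∀ x : Matrix.SpecialLinearGroup (Fin n) F,
        (∃ c : F, (x : Matrix (Fin n) (Fin n) F) ^ p = c • (1 : Matrix (Fin n) (Fin n) F)) →
        (∀ c : F, (x : Matrix (Fin n) (Fin n) F) ≠ c • 1) →
        Fixes m (Matrix.toLin' (x : Matrix (Fin n) (Fin n) F))) ↔
      ∀ μ : Multiset ℕ, (∀ a ∈ μ, 0 < a ∧ a ≤ p) → μ.sum = n → ∃ ν : Multiset ℕ, ν ≤ μ ∧ ν.sum = m := by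
  classical
  haveI : Nonempty (Fin n) := ⟨⟨0, hn⟩⟩
  constructor
  · intro H μ hμ hsum
    by_cases hall : ∀ a ∈ μ, a = 1
    · have hrep : μ = Multiset.replicate n 1 := by
        have h := Multiset.eq_replicate_card.2 hall
        rw [h, Multiset.sum_replicate, smul_eq_mul, mul_one] at hsum
        rw [h, hsum]
      exact ⟨Multiset.replicate m 1, by rw [hrep]; exact Multiset.replicate_le_replicate 1 |>.2 hm, by simp⟩
    obtain ⟨M, hM, hp⟩ := GLUnipotentTypes.exists_mparts (F := F) (ι := Fin n) μ (fun a ha => (hμ a ha).1)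
      (by rw [hsum, Fintype.card_fin])
    have hMp : M ^ p = 0 := (GLUnipotentTypes.pow_eq_zero_iff hM p).2 (fun a ha => (hμ a (hp ▸ ha)).2)
    have hM0 : M ≠ 0 := fun h => hall (hp ▸ (GLUnipotentTypes.eq_zero_iff hM).1 h)
    have hpow : ((1 : Matrix (Fin n) (Fin n) F) + M) ^ p = 1 := by
      rw [add_pow_char_of_commute p (Commute.one_left M), hMp, one_pow, add_zero]
    have hdet : ((1 : Matrix (Fin n) (Fin n) F) + M).det = 1 := by
      refine frobenius_inj F p ?_
      rw [frobenius_def, map_one, ← Matrix.det_pow, hpow, Matrix.det_one]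
    have hfix := H ⟨1 + M, hdet⟩ ⟨1, by show (1 + M) ^ p = _; rw [hpow, one_smul]⟩ (fun c hc => hM0 (by
      have hc' : (1 : Matrix (Fin n) (Fin n) F) + M = c • 1 := hc
      have hMc : M = (c - 1) • 1 := by rw [sub_smul, one_smul, ← hc', add_sub_cancel_left]
      have h := hMp
      rw [hMc, _root_.smul_pow, one_pow] at h
      rcases smul_eq_zero.1 h with h | h
      · rw [hMc, eq_zero_of_pow_eq_zero h, zero_smul]
      · exact absurd h one_ne_zero))
    have h' := fixes_smul hfix 1 (-1)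
    have heq : (1 : F) • Matrix.toLin' ((1 : Matrix (Fin n) (Fin n) F) + M) + (-1 : F) • LinearMap.id
        = Matrix.toLinAlgEquiv' M := by
      refine LinearMap.ext fun v => ?_
      simp [Matrix.add_mulVec]
    change Fixes m ((1 : F) • Matrix.toLin' ((1 : Matrix (Fin n) (Fin n) F) + M) + (-1 : F) • LinearMap.id) at h'
    rw [heq, fixes_nilpotent_iff (GLUnipotentTypes.nil_end hM)] at h'
    rw [← hp]; exact h'
  · rintro H x ⟨c, hc⟩ -
    obtain ⟨d, hd⟩ := (Finite.injective_iff_surjective.1 (frobenius_inj F p)) c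
    rw [frobenius_def] at hd
    set M := (x : Matrix (Fin n) (Fin n) F) - d • 1 with hM
    have hMp : M ^ p = 0 := by
      rw [hM, sub_pow_char_of_commute p ((Commute.one_right _).smul_right d), hc, _root_.smul_pow, one_pow, hd,
        sub_self]
    have hnil : IsNilpotent M := ⟨p, hMp⟩
    obtain ⟨ν, hν⟩ := H (GLUnipotentTypes.mparts M)
      (fun a ha => ⟨GLUnipotentTypes.pos_of_mem hnil ha, (GLUnipotentTypes.pow_eq_zero_iff hnil p).1 hMp a ha⟩)
      (by rw [GLUnipotentTypes.sum_mparts hnil, Fintype.card_fin])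
    have h := fixes_smul ((fixes_nilpotent_iff (GLUnipotentTypes.nil_end hnil) m).2 ⟨ν, hν⟩) 1 d
    have heq : (1 : F) • Matrix.toLinAlgEquiv' M + d • LinearMap.id = Matrix.toLin' (x : Matrix (Fin n) (Fin n) F) := by
      show (1 : F) • Matrix.toLin' M + d • LinearMap.id = _
      rw [hM, map_sub, map_smul, Matrix.toLin'_one, one_smul]
      abel
    rwa [heq] at h

/-- partitions with parts at most 2 -/
theorem two_criterion {m : ℕ} (hm : m ≤ n) :
    (∀ μ : Multiset ℕ, (∀ a ∈ μ, 0 < a ∧ a ≤ 2) → μ.sum = n → ∃ ν : Multiset ℕ, ν ≤ μ ∧ ν.sum = m) ↔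
      (Odd n ∨ Even m) := by
  constructor
  · intro H
    by_contra hcon
    rw [not_or, Nat.not_odd_iff_even, Nat.not_even_iff_odd] at hcon
    obtain ⟨⟨t, rfl⟩, hmodd⟩ := hcon
    obtain ⟨ν, hle, hsum⟩ := H (Multiset.replicate t 2)
      (fun a ha => by rw [Multiset.eq_of_mem_replicate ha]; omega)
      (by rw [Multiset.sum_replicate, smul_eq_mul]; omega)
    obtain ⟨k, -, hν⟩ := Multiset.le_replicate_iff.1 hle
    rw [hν, Multiset.sum_replicate, smul_eq_mul] at hsum
    obtain ⟨j, hj⟩ := hmodd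
    omega
  · intro h μ hμ hsum
    have hμ' : μ = Multiset.replicate (μ.count 1) 1 + Multiset.replicate (μ.count 2) 2 := by
      refine Multiset.ext.2 fun a => ?_
      rw [Multiset.count_add, Multiset.count_replicate, Multiset.count_replicate]
      by_cases ha : a ∈ μ
      · obtain ⟨h0, h2⟩ := hμ a ha
        interval_cases a <;> simp
      · rw [Multiset.count_eq_zero.2 ha]
        split_ifs with h1 h2 h2 <;> first | omega | (subst h1; simp [Multiset.count_eq_zero.2 ha]) |
          (subst h2; simp [Multiset.count_eq_zero.2 ha])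
    have hs : μ.count 1 + 2 * μ.count 2 = n := by
      rw [← hsum]
      conv_rhs => rw [hμ']
      simp [mul_comm]
    obtain ⟨b, j, hb, hj, hbj⟩ : ∃ b j, b ≤ μ.count 1 ∧ j ≤ μ.count 2 ∧ b + 2 * j = m := by
      rcases le_or_gt (m / 2) (μ.count 2) with hle | hlt
      · refine ⟨m % 2, m / 2, ?_, hle, Nat.mod_add_div m 2⟩
        rcases h with h | h
        · have := Nat.odd_iff.1 h; omega
        · have := Nat.even_iff.1 h; omega
      · exact ⟨m - 2 * μ.count 2, μ.count 2, by omega, le_rfl, by omega⟩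
    refine ⟨Multiset.replicate b 1 + Multiset.replicate j 2, ?_, by simp; omega⟩
    conv_rhs => rw [hμ']
    exact add_le_add ((Multiset.replicate_le_replicate 1).2 hb) ((Multiset.replicate_le_replicate 2).2 hj)

omit [Fact p.Prime] [CharP F p] in
theorem dvd_card_subspaces {q m r : ℕ} (hF : Fintype.card F = q) (hr : r.Prime) (hrq : ¬ r ∣ q)
    (h : r ∣ Nat.card {P : Submodule F Vn × Submodule F Vn // IsCompl P.1 P.2 ∧ finrank F P.1 = m}) :
    r ∣ Nat.card {W : Submodule F Vn // finrank F W = m} := by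
  classical
  haveI : Finite (Submodule F Vn) := Finite.of_injective SetLike.coe SetLike.coe_injective
  haveI := Fintype.ofFinite {W : Submodule F Vn // finrank F W = m}
  let E : {P : Submodule F Vn × Submodule F Vn // IsCompl P.1 P.2 ∧ finrank F P.1 = m} ≃
      Σ U : {W : Submodule F Vn // finrank F W = m}, {W : Submodule F Vn // IsCompl U.1 W} :=
    { toFun := fun P => ⟨⟨P.1.1, P.2.2⟩, ⟨P.1.2, P.2.1⟩⟩
      invFun := fun x => ⟨(x.1.1, x.2.1), x.2.2, x.1.2⟩
      left_inv := fun _ => rfl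
      right_inv := fun _ => rfl }
  rw [Nat.card_congr E, Nat.card_sigma] at h
  have hterm : ∀ U : {W : Submodule F Vn // finrank F W = m},
      Nat.card {W : Submodule F Vn // IsCompl U.1 W} = q ^ (m * (n - m)) := by
    intro U
    obtain ⟨q₀, hq₀⟩ := U.1.exists_isCompl
    let res : (Vn →ₗ[F] U.1) →ₗ[F] (U.1 →ₗ[F] U.1) := LinearMap.lcomp F U.1 U.1.subtype
    let K₀ : Submodule F (Vn →ₗ[F] U.1) := LinearMap.ker res
    let f₀ := U.1.projectionOnto q₀ hq₀
    have hres : ∀ x : U.1, f₀ (x : Vn) = x := fun x => Submodule.projectionOnto_apply_left _ x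
    letI : AddCommGroup K₀ := Module.addCommMonoidToAddCommGroup F
    let E' : {f : Vn →ₗ[F] U.1 // ∀ x : U.1, f (x : Vn) = x} ≃ K₀ :=
      { toFun := fun f => ⟨f.1 - f₀, by
          show f.1 - f₀ ∈ LinearMap.ker res; rw [LinearMap.mem_ker]; ext x; simp [res, f.2 x, hres x]⟩
        invFun := fun g => ⟨g.1 + f₀, fun x => by
          have h' : g.1 (x : Vn) = 0 := LinearMap.congr_fun (LinearMap.mem_ker.1 g.2) x
          simp [h', hres x]⟩
        left_inv := fun f => Subtype.ext (sub_add_cancel f.1 f₀)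
        right_inv := fun g => Subtype.ext (add_sub_cancel_right g.1 f₀) }
    rw [Nat.card_congr ((Submodule.isComplEquivProj U.1).trans E'), Module.natCard_eq_pow_finrank (K := F),
      Nat.card_eq_fintype_card, hF]
    have hsurj : Function.Surjective res := fun g =>
      ⟨g.comp f₀, LinearMap.ext fun x => by simp [res, hres x]⟩
    have hrk := LinearMap.finrank_range_add_finrank_ker (V := Vn →ₗ[F] U.1) (V₂ := U.1 →ₗ[F] U.1) res
    rw [LinearMap.range_eq_top.2 hsurj, finrank_top, Module.finrank_linearMap, Module.finrank_linearMap,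
      finrank_fin_fun, U.2] at hrk
    replace hrk : m * m + finrank F K₀ = n * m := hrk
    congr 1
    rw [Nat.mul_sub, mul_comm m n]
    omega
  rw [Finset.sum_congr rfl fun U _ => hterm U, Finset.sum_const, Finset.card_univ, smul_eq_mul,
    ← Nat.card_eq_fintype_card] at h
  exact (hr.dvd_mul.1 h).resolve_right fun h' => hrq (hr.dvd_of_dvd_pow h')

/-- the criterion for decompositions -/
theorem decomposition_criterion {q : ℕ} (hq : Fintype.card F = q) {m r : ℕ} [hr : Fact r.Prime] (hm : 1 ≤ m)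
    (hmn : 2 * m < n)
    (hrΩ : r ∣ Nat.card {P : Submodule F Vn × Submodule F Vn // IsCompl P.1 P.2 ∧ finrank F P.1 = m}) :
    (∀ x : Matrix.SpecialLinearGroup (Fin n) F,
        (∃ c : F, (x : Matrix (Fin n) (Fin n) F) ^ r = c • (1 : Matrix (Fin n) (Fin n) F)) →
        (∀ c : F, (x : Matrix (Fin n) (Fin n) F) ≠ c • 1) →
        Fixes m (Matrix.toLin' (x : Matrix (Fin n) (Fin n) F))) ↔
      ((r = p ∧ 2 < p ∧ (∀ μ : Multiset ℕ, (∀ a ∈ μ, 0 < a ∧ a ≤ p) → μ.sum = n → ∃ ν : Multiset ℕ, ν ≤ μ ∧ ν.sum = m)) ∨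
        (r = p ∧ p = 2 ∧ (Odd n ∨ Even m)) ∨
        (r ≠ p ∧ ((orderOf (q : ZMod r) = 1 ∧ (r ∣ m ∨ (padicValNat r n ≤ padicValNat r (q - 1) ∧
            (r = 2 → Even n → q % 4 = 1)))) ∨
          (2 ≤ orderOf (q : ZMod r) ∧ orderOf (q : ZMod r) ≤ m ∧
            m % orderOf (q : ZMod r) ≤ n % orderOf (q : ZMod r))))) := by
  by_cases hrp : r = p
  · subst hrp
    rw [char_criterion (by omega) m (by omega)]
    simp only [ne_eq, not_true_eq_false, false_and, or_false, true_and]
    rcases hr.out.eq_two_or_odd' with rfl | hodd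
    · rw [two_criterion (by omega)]
      simp
    · have h3 : 2 < r := by have := hr.out.two_le; obtain ⟨j, hj⟩ := hodd; omega
      have h2 : r ≠ 2 := by omega
      simp [h3, h2]
  · have hrq : ¬ r ∣ q := by
      intro h
      obtain ⟨e, -, he⟩ := FiniteField.card F p
      rw [← hq, he] at h
      exact hrp ((Nat.prime_dvd_prime_iff_eq hr.out Fact.out).1 (hr.out.dvd_of_dvd_pow h))
    have hcrit := SubspaceDerange.space_criterion (p := p) hq hm (by omega)
      (dvd_card_subspaces hq hr.out hrq hrΩ)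
    rw [and_iff_right hrp] at hcrit
    simp only [hrp, ne_eq, not_false_eq_true, false_and, true_and, false_or]
    rw [← hcrit]
    constructor
    · intro H x hx hxs
      obtain ⟨U, W, -, hd, hU, -⟩ := H x hx hxs
      exact ⟨U, hd, hU⟩
    · intro H x hx hxs
      obtain ⟨U, hd, hU⟩ := H x hx hxs
      obtain ⟨c, hc⟩ := hx
      haveI : Nonempty (Fin n) := ⟨⟨0, by omega⟩⟩
      have hc0 : c ≠ 0 := by
        intro h
        have h1 := congrArg Matrix.det hc
        rw [Matrix.det_pow, x.2, one_pow, h, zero_smul, Matrix.det_zero] at h1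
        exact one_ne_zero h1
      set T : Module.End F Vn := Matrix.toLin' (x : Matrix (Fin n) (Fin n) F)
      have hr0 : (r : F) ≠ 0 := fun e =>
        hrp ((Nat.prime_dvd_prime_iff_eq (Fact.out : p.Prime) hr.out).1 ((CharP.cast_eq_zero_iff F p r).1 e)).symm
      have hss : Module.End.IsSemisimple T := by
        refine Module.End.isSemisimple_of_squarefree_aeval_eq_zero
          (Polynomial.separable_X_pow_sub_C c hr0 hc0).squarefree ?_
        rw [map_sub, map_pow, aeval_X, aeval_C, ← Matrix.toLin'_pow, hc, map_smul, Matrix.toLin'_one,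
          Algebra.algebraMap_eq_smul_one]
        exact sub_self _
      obtain ⟨W, hW, hW'⟩ := Module.End.isSemisimple_iff.1 hss U
        (Submodule.map_le_iff_le_comap.1 hU)
      exact ⟨U, W, hW', hd, hU, Submodule.map_le_iff_le_comap.2 hW⟩

end Cfsg.Agent.DecompDerange
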