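import Mathlib
import Cfsg.Agent.Lib.Classical.DicksonTorusMax
import Cfsg.Agent.Lib.Classical.DicksonSmallQ
import Cfsg.Agent.Lib.Classical.DicksonKleinCount

/-!
The icosahedral subgroups of `PSL(2, 11)`.
-/

set_option autoImplicit false

namespace Cfsg.Agent.Dickson

open Matrix Cfsg.Agent.Grp.SL2 Cfsg.Agent.PSL2Spec
open scoped Pointwise

namespace Eleven

/-- The squared trace class of a product of order five is not fused by `(2, 3, 5)`-generation. -/
theorem pairs_alt_five : ∀ a b : alternatingGroup (Fin 5), a * a = 1 → a ≠ 1 → b * b * b = 1 → b ≠ 1 →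
    (a * b) ^ 5 = 1 → a * b ≠ 1 →
    (∃ s : alternatingGroup (Fin 5), s * Ico.sA * s⁻¹ = a ∧ s * Ico.sB * s⁻¹ = b) ∨
    (∃ t : alternatingGroup (Fin 5), t * (a * b) * t⁻¹ = (Ico.sA * Ico.sB) ^ 2) := by
  decide +kernel

/-- An outer automorphism of `A₅`. -/
def twist : alternatingGroup (Fin 5) →* alternatingGroup (Fin 5) :=
  (((MulAut.conj (Equiv.swap (0 : Fin 5) 1)).toMonoidHom).comp (alternatingGroup (Fin 5)).subtype).codRestrict _
    fun s => by
      rw [Equiv.Perm.mem_alternatingGroup]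
      simp only [MulEquiv.toMonoidHom_eq_coe, MonoidHom.coe_comp, MonoidHom.coe_coe, Function.comp_apply,
        Subgroup.coe_subtype, MulAut.conj_apply, map_mul, map_inv]
      rw [show Equiv.Perm.sign (s : Equiv.Perm (Fin 5)) = 1 from s.2]
      simp

theorem twist_class : ∃ t : alternatingGroup (Fin 5),
    t * (twist Ico.sA * twist Ico.sB) * t⁻¹ = (Ico.sA * Ico.sB) ^ 2 := by decide +kernel

theorem twist_injective : Function.Injective twist := fun s t h =>
  Subtype.ext ((MulAut.conj (Equiv.swap (0 : Fin 5) 1)).injective (congrArg Subtype.val h))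

end Eleven

variable {F : Type*} [Field F] [Fintype F]

local notation "PSL₂" => Matrix.ProjectiveSpecialLinearGroup (Fin 2) F
local notation "SL₂" => Matrix.SpecialLinearGroup (Fin 2) F
local notation "A5" => alternatingGroup (Fin 5)

theorem five_orders (f : A5 →* PSL₂) (hf : Function.Injective f) :
    orderOf (f Ico.sA) = 2 ∧ orderOf (f Ico.sB) = 3 ∧ orderOf (f Ico.sA * f Ico.sB) = 5 := by
  obtain ⟨-, ha, hb, hab⟩ := Exc.alt5_data
  exact ⟨(orderOf_injective f hf _).trans ha, (orderOf_injective f hf _).trans hb,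
    by rw [← map_mul, orderOf_injective f hf, hab]⟩

theorem lift_five (hodd : Odd (Fintype.card F)) (f : A5 →* PSL₂) (hf : Function.Injective f) :
    ∃ A B : SL₂, LiftPair (f Ico.sA) (f Ico.sB) 5 A B := by
  obtain ⟨h1, h2, h3⟩ := five_orders f hf
  exact exists_liftPair hodd h1 h2 h3 (Or.inr (Or.inr rfl))

theorem tr_sq (y : SL₂) : tr (y * y) = tr y ^ 2 - 2 := by
  have d := det_eq y
  simp [tr, Matrix.mul_apply, Fin.sum_univ_two]
  linear_combination -2 * d

theorem tr_conj (x y : SL₂) : tr (x * y * x⁻¹) = tr y := by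
  rw [← tr_eq_trace, ← tr_eq_trace, Matrix.SpecialLinearGroup.coe_mul, Matrix.SpecialLinearGroup.coe_mul,
    Matrix.trace_mul_cycle, ← Matrix.SpecialLinearGroup.coe_mul, inv_mul_cancel, Matrix.SpecialLinearGroup.coe_one,
    one_mul]

theorem tr_neg (y : SL₂) : tr (-y) = -tr y := by
  simp [tr]; ring

theorem tr_sq_of_proj {x y : SL₂} (h : proj x = proj y) : tr y ^ 2 = tr x ^ 2 := by
  rcases proj_eq_iff.mp h with rfl | rfl
  · rfl
  · rw [tr_neg]; ring

/-- When `g x` is conjugate to the square of `x`, the trace changes to the other root. -/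
theorem trace_of_square {f : A5 →* PSL₂} {A B A' B' : SL₂} {g : A5 →* PSL₂}
    (hl : LiftPair (f Ico.sA) (f Ico.sB) 5 A B) (hl' : LiftPair (g Ico.sA) (g Ico.sB) 5 A' B') {T : PSL₂}
    (h : T * (g Ico.sA * g Ico.sB) * T⁻¹ = f Ico.sA * f Ico.sB * (f Ico.sA * f Ico.sB)) :
    tr (A' * B') = 1 - tr (A * B) := by
  obtain ⟨X, rfl⟩ := proj_surjective T
  have h' : proj (X * (A' * B') * X⁻¹) = proj (A * B * (A * B)) := by
    simp only [map_mul, map_inv, hl.pa, hl.pb, hl'.pa, hl'.pb]
    exact h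
  have e := tr_sq_of_proj h'
  rw [tr_conj, tr_sq] at e
  have h1 := hl.tab.2.2 rfl
  have h2 := hl'.tab.2.2 rfl
  linear_combination -e - h2 + h1 * (tr (A * B) ^ 2 + tr (A * B) - 2)

/-- All icosahedral subgroups are conjugate in `PGL(2, F)`. -/
theorem alt5_conj_pgl (hodd : Odd (Fintype.card F)) (f g : A5 →* PSL₂) (hf : Function.Injective f)
    (hg : Function.Injective g) :
    ∃ x : Matrix.ProjGenLinGroup (Fin 2) F, g.range.map Matrix.ProjectiveSpecialLinearGroup.toPGL =
      (f.range.map Matrix.ProjectiveSpecialLinearGroup.toPGL).map (MulAut.conj x).toMonoidHom := by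
  obtain ⟨A, B, hl⟩ := lift_five hodd f hf
  obtain ⟨A', B', hl'⟩ := lift_five hodd g hg
  have fin : ∀ h : A5 →* PSL₂, h.range = g.range → ∀ A'' B'' : SL₂, LiftPair (h Ico.sA) (h Ico.sB) 5 A'' B'' →
      tr (A * B) = tr (A'' * B'') → ∃ x : Matrix.ProjGenLinGroup (Fin 2) F,
        g.range.map Matrix.ProjectiveSpecialLinearGroup.toPGL =
        (f.range.map Matrix.ProjectiveSpecialLinearGroup.toPGL).map (MulAut.conj x).toMonoidHom := by
    intro h hr A'' B'' hl'' hu
    obtain ⟨x, hx⟩ := exists_conj_of_traces Exc.alt5_data.1 f h hl hl'' hu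
    refine ⟨x, ?_⟩
    rw [← hr, MonoidHom.map_range, MonoidHom.map_range, MonoidHom.map_range]
    exact congrArg MonoidHom.range (MonoidHom.ext hx)
  have h1 := hl.tab.2.2 rfl
  have h2 := hl'.tab.2.2 rfl
  have hcases : (tr (A * B) - tr (A' * B')) * (tr (A * B) - (1 - tr (A' * B'))) = 0 := by
    linear_combination h1 - h2
  rcases mul_eq_zero.mp hcases with e | e
  · exact fin g rfl A' B' hl' (sub_eq_zero.mp e)
  · obtain ⟨A'', B'', hl''⟩ := lift_five hodd (g.comp Eleven.twist) (hg.comp Eleven.twist_injective)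
    refine fin _ ?_ A'' B'' hl'' ((sub_eq_zero.mp e).trans ?_)
    · rw [MonoidHom.range_comp, MonoidHom.range_eq_top.mpr (Finite.surjective_of_injective Eleven.twist_injective),
        ← MonoidHom.range_eq_map]
    · obtain ⟨t, ht⟩ := Eleven.twist_class
      refine (trace_of_square hl' hl'' (T := g t) ?_).symm
      simp only [MonoidHom.comp_apply, ← map_mul, ← map_inv]
      rw [map_mul Eleven.twist, ht, pow_two]

/-- Only elements of `PSL(2, F)` normalise an icosahedral subgroup (`p ≠ 5`). -/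
theorem alt5_normalizer_pgl (hodd : Odd (Fintype.card F)) (h5 : (5 : F) ≠ 0) (f : A5 →* PSL₂)
    (hf : Function.Injective f) (y : Matrix.ProjGenLinGroup (Fin 2) F)
    (hy : (f.range.map Matrix.ProjectiveSpecialLinearGroup.toPGL).map (MulAut.conj y).toMonoidHom =
      f.range.map Matrix.ProjectiveSpecialLinearGroup.toPGL) :
    y ∈ (Matrix.ProjectiveSpecialLinearGroup.toPGL (n := Fin 2) (R := F)).range := by
  obtain ⟨A, B, hl⟩ := lift_five hodd f hf
  set ι := Matrix.ProjectiveSpecialLinearGroup.toPGL (n := Fin 2) (R := F)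
  have hmem : ∀ s, ∃ a : A5, ι (f a) = y * ι (f s) * y⁻¹ := by
    intro s
    have : y * ι (f s) * y⁻¹ ∈ f.range.map ι := hy ▸ ⟨ι (f s), ⟨f s, ⟨s, rfl⟩, rfl⟩, rfl⟩
    obtain ⟨_, ⟨a, rfl⟩, ha⟩ := this
    exact ⟨a, ha⟩
  obtain ⟨a, ha⟩ := hmem Ico.sA
  obtain ⟨b, hb⟩ := hmem Ico.sB
  have hinj : Function.Injective (ι.comp f) :=
    Matrix.ProjectiveSpecialLinearGroup.toPGL_injective.comp hf
  have hab : ι (f (a * b)) = y * ι (f (Ico.sA * Ico.sB)) * y⁻¹ := by
    rw [map_mul, map_mul, ha, hb, map_mul, map_mul]; group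
  obtain ⟨-, oa, ob, oab⟩ := Exc.alt5_data
  have pw : ∀ (n : ℕ) (s c : A5), ι (f c) = y * ι (f s) * y⁻¹ → (c ^ n = 1 ↔ s ^ n = 1) := by
    intro n s c h
    rw [← hinj.eq_iff, ← hinj.eq_iff (a := s ^ n), map_one]
    simp only [MonoidHom.comp_apply, map_pow, h, conj_pow, conj_eq_one_iff]
  obtain ⟨P, rfl⟩ := Matrix.ProjGenLinGroup.mk_surjective y
  rcases Eleven.pairs_alt_five a b
      (by rw [← pow_two]; exact (pw 2 _ _ ha).mpr (orderOf_dvd_iff_pow_eq_one.mp oa.dvd))
      (fun e => by have := (pw 1 _ _ ha).mp (by rw [e, one_pow]); rw [pow_one] at this; rw [this, orderOf_one] at oa; omega)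
      (by rw [← pow_two, ← pow_succ]; exact (pw 3 _ _ hb).mpr (orderOf_dvd_iff_pow_eq_one.mp ob.dvd))
      (fun e => by have := (pw 1 _ _ hb).mp (by rw [e, one_pow]); rw [pow_one] at this; rw [this, orderOf_one] at ob; omega)
      ((pw 5 _ _ hab).mpr (orderOf_dvd_iff_pow_eq_one.mp oab.dvd))
      (fun e => by have := (pw 1 _ _ hab).mp (by rw [e, one_pow]); rw [pow_one] at this; rw [this, orderOf_one] at oab; omega)
    with ⟨s, hs1, hs2⟩ | ⟨t, ht⟩
  · -- `y` differs from an element of the subgroup by a scalar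
    obtain ⟨X, hX⟩ := proj_surjective (f s)
    set Q : GL (Fin 2) F := (Matrix.SpecialLinearGroup.toGL X)⁻¹ * P with hQ
    have hQc : ∀ (S : A5) (Z : SL₂), proj Z = f S → ι (f (s * S * s⁻¹)) =
        Matrix.ProjGenLinGroup.mk P * ι (f S) * (Matrix.ProjGenLinGroup.mk P)⁻¹ →
        ∃ l : F, (Q : Matrix (Fin 2) (Fin 2) F) * Z = l • ((Z : Matrix (Fin 2) (Fin 2) F) * Q) := by
      intro S Z hZ h
      have e : Matrix.ProjGenLinGroup.mk Q * toP Z = toP Z * Matrix.ProjGenLinGroup.mk Q := by
        rw [map_mul, map_mul, map_mul, map_mul, map_inv, map_inv, ← hZ, ← hX, toPGL_proj, toPGL_proj] at h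
        simp only [hQ, map_mul, map_inv]
        change toP X * toP Z * (toP X)⁻¹ = _ at h
        calc (toP X)⁻¹ * Matrix.ProjGenLinGroup.mk P * toP Z
            = (toP X)⁻¹ * (Matrix.ProjGenLinGroup.mk P * toP Z * (Matrix.ProjGenLinGroup.mk P)⁻¹) *
                Matrix.ProjGenLinGroup.mk P := by group
          _ = toP Z * ((toP X)⁻¹ * Matrix.ProjGenLinGroup.mk P) := by rw [← h]; group
      rw [show toP Z = Matrix.ProjGenLinGroup.mk (Matrix.SpecialLinearGroup.toGL Z) from rfl,
        ← map_mul, ← map_mul, eq_comm, Matrix.ProjGenLinGroup.mk_eq_mk_iff] at e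
      obtain ⟨u, hu⟩ := e
      refine ⟨(u : F), ?_⟩
      have hu' := congrArg (fun W : GL (Fin 2) F => (W : Matrix (Fin 2) (Fin 2) F)) hu
      simp only [Units.val_mul, Matrix.GeneralLinearGroup.coe_scalar, Matrix.scalar_apply,
        ← Matrix.smul_one_eq_diagonal, mul_smul_comm, mul_one] at hu'
      exact hu'.symm
    obtain ⟨l, hlA⟩ := hQc Ico.sA A hl.pa (by rw [hs1]; exact ha)
    obtain ⟨m, hmB⟩ := hQc Ico.sB B hl.pb (by rw [hs2]; exact hb)
    have htr : ∀ (k : F) (Z : Matrix (Fin 2) (Fin 2) F),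
        (Q : Matrix (Fin 2) (Fin 2) F) * Z = k • (Z * Q) → Z.trace = k * Z.trace := by
      intro k Z h
      have e := congrArg (fun W => ((Q⁻¹ : GL (Fin 2) F) : Matrix (Fin 2) (Fin 2) F) * W) h
      simp only [← mul_assoc, ← Units.val_mul, inv_mul_cancel, Units.val_one, one_mul, mul_smul_comm] at e
      have := congrArg Matrix.trace e
      rwa [Matrix.trace_smul, Matrix.trace_mul_cycle, ← Units.val_mul, mul_inv_cancel, Units.val_one, one_mul,
        smul_eq_mul] at this
    have hm : m = 1 := by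
      have := htr m _ hmB
      rw [tr_eq_trace, hl.tb, mul_one] at this
      exact this.symm
    have hl1 : l = 1 := by
      have hAB : (Q : Matrix (Fin 2) (Fin 2) F) * ((A * B : SL₂) : Matrix (Fin 2) (Fin 2) F) =
          l • (((A * B : SL₂) : Matrix (Fin 2) (Fin 2) F) * Q) := by
        rw [Matrix.SpecialLinearGroup.coe_mul, ← mul_assoc, hlA, smul_mul_assoc, mul_assoc, hmB, hm, one_smul,
          ← mul_assoc]
      have := htr l _ hAB
      rw [tr_eq_trace] at this
      have hu := hl.tab.2.2 rfl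
      have hu0 : tr (A * B) ≠ 0 := fun e => by rw [e] at hu; simp at hu
      exact (mul_eq_right₀ hu0).mp this.symm
    rw [hl1, one_smul] at hlA
    rw [hm, one_smul] at hmB
    -- commuting with an irreducible pair
    obtain ⟨v, hv⟩ := Traces.exists_frame hl.ne
    set M : Matrix (Fin 2) (Fin 2) F := (Q : Matrix (Fin 2) (Fin 2) F)
    have hcomp : ∃ c d : F, M = c • 1 + d • (A : Matrix (Fin 2) (Fin 2) F) := by
      have hu : IsUnit (Traces.frame (A : Matrix (Fin 2) (Fin 2) F) v).det := hv.isUnit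
      set V := Traces.frame (A : Matrix (Fin 2) (Fin 2) F) v
      set C := Traces.comp (A : Matrix (Fin 2) (Fin 2) F)
      have hAV : (A : Matrix (Fin 2) (Fin 2) F) * V = V * C := Traces.mul_frame _ v
      set M' := V⁻¹ * M * V with hM'
      have hc : M' * C = C * M' := by
        have e : ∀ W : Matrix (Fin 2) (Fin 2) F, V⁻¹ * W * V * (V⁻¹ * (A : Matrix (Fin 2) (Fin 2) F) * V) =
            V⁻¹ * (W * A) * V := fun W => by
          simp only [mul_assoc, Matrix.mul_nonsing_inv_cancel_left _ _ hu]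
        have e' : ∀ W : Matrix (Fin 2) (Fin 2) F, (V⁻¹ * (A : Matrix (Fin 2) (Fin 2) F) * V) * (V⁻¹ * W * V) =
            V⁻¹ * (A * W) * V := fun W => by
          simp only [mul_assoc, Matrix.mul_nonsing_inv_cancel_left _ _ hu]
        have hC : V⁻¹ * (A : Matrix (Fin 2) (Fin 2) F) * V = C := by
          rw [mul_assoc, hAV, ← mul_assoc, Matrix.nonsing_inv_mul _ hu, one_mul]
        rw [hM', ← hC, e, e', hlA]
      have h00 := congrFun (congrFun hc 0) 0
      have h10 := congrFun (congrFun hc 1) 0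
      have h01 := congrFun (congrFun hc 0) 1
      simp [C, Traces.comp, Matrix.mul_apply, Fin.sum_univ_two] at h00 h10 h01
      refine ⟨M' 0 0, M' 1 0, ?_⟩
      have hM'eq : M' = M' 0 0 • 1 + M' 1 0 • C := by
        ext i j
        fin_cases i <;> fin_cases j <;> simp [C, Traces.comp] <;>
          first
            | linear_combination h10
            | linear_combination h00
            | linear_combination h01
      have hM : M = V * M' * V⁻¹ := by
        rw [hM']
        simp only [mul_assoc, Matrix.mul_nonsing_inv_cancel_left _ _ hu, Matrix.mul_nonsing_inv _ hu, mul_one]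
      rw [hM]
      conv_lhs => rw [hM'eq]
      rw [mul_add, add_mul, mul_smul_comm, mul_one, smul_mul_assoc, Matrix.mul_nonsing_inv _ hu, mul_smul_comm,
        smul_mul_assoc, ← hAV, mul_assoc, Matrix.mul_nonsing_inv _ hu, mul_one]
    obtain ⟨c, d, hcd⟩ := hcomp
    have hd : d = 0 := by
      rw [hcd, add_mul, mul_add, smul_mul_assoc, smul_mul_assoc, mul_smul_comm, mul_smul_comm, one_mul, mul_one,
        add_right_inj] at hmB
      by_contra hd
      have e := smul_right_injective (Matrix (Fin 2) (Fin 2) F) hd hmB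
      exact hl.ne (by rw [e, sub_self, Matrix.det_zero])
    rw [hd, zero_smul, add_zero] at hcd
    have hc0 : c ≠ 0 := fun e => by
      rw [e, zero_smul] at hcd
      exact Q.ne_zero hcd
    have hQ1 : Matrix.ProjGenLinGroup.mk Q = 1 := by
      rw [show Q = Matrix.GeneralLinearGroup.scalar (Fin 2) (Units.mk0 c hc0) from Units.ext (by
        rw [Matrix.GeneralLinearGroup.coe_scalar, Matrix.scalar_apply, ← Matrix.smul_one_eq_diagonal]; exact hcd),
        Matrix.ProjGenLinGroup.mk_scalar]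
    rw [hQ, map_mul, map_inv, inv_mul_eq_one] at hQ1
    exact ⟨proj X, by rw [toPGL_proj, ← hQ1]; rfl⟩
  · -- the trace would change to the other root
    exfalso
    obtain ⟨T, hT⟩ := proj_surjective (f t)
    obtain ⟨W, hW⟩ := proj_surjective (f (a * b))
    have e1 : proj (T * W * T⁻¹) = proj (A * B * (A * B)) := by
      rw [map_mul, map_mul, map_inv, hT, hW, ← map_inv, ← map_mul, ← map_mul, ht, pow_two, map_mul, map_mul,
        map_mul, map_mul, hl.pa, hl.pb]
    have e2 : tr W ^ 2 = tr (A * B) ^ 2 := by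
      have h : toP W = Matrix.ProjGenLinGroup.mk P * toP (A * B) * (Matrix.ProjGenLinGroup.mk P)⁻¹ := by
        rw [← toPGL_proj, hW, hab]
        change _ = Matrix.ProjGenLinGroup.mk P * Matrix.ProjectiveSpecialLinearGroup.toPGL (proj (A * B)) * _
        rw [map_mul f, map_mul proj, hl.pa, hl.pb]
      obtain ⟨W', hW'⟩ : ∃ W' : GL (Fin 2) F, W' = P * Matrix.SpecialLinearGroup.toGL (A * B) * P⁻¹ := ⟨_, rfl⟩
      have hh : Matrix.ProjGenLinGroup.mk W' = toP W := by
        rw [h, hW', map_mul, map_mul, map_inv]; rfl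
      obtain ⟨u, hu⟩ := Matrix.ProjGenLinGroup.mk_eq_mk_iff.mp hh
      have hu' := congrArg (fun Z : GL (Fin 2) F => (Z : Matrix (Fin 2) (Fin 2) F)) hu
      simp only [Units.val_mul, Matrix.GeneralLinearGroup.coe_scalar, Matrix.scalar_apply,
        ← Matrix.smul_one_eq_diagonal, mul_smul_comm, mul_one] at hu'
      have hdetW : (W' : Matrix (Fin 2) (Fin 2) F).det = 1 := by
        rw [hW', Units.val_mul, Units.val_mul, Matrix.det_mul_right_comm, ← Units.val_mul, mul_inv_cancel,
          Units.val_one, one_mul]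
        exact (A * B).2
      have hd := congrArg Matrix.det hu'
      rw [Matrix.det_smul, hdetW, mul_one, Fintype.card_fin] at hd
      have htW : (W' : Matrix (Fin 2) (Fin 2) F).trace = tr (A * B) := by
        rw [hW', Units.val_mul, Units.val_mul, Matrix.trace_mul_cycle, ← Units.val_mul, inv_mul_cancel,
          Units.val_one, one_mul]
        exact tr_eq_trace (A * B)
      have ht' := congrArg Matrix.trace hu'
      rw [Matrix.trace_smul, htW, smul_eq_mul] at ht'
      change (u : F) * tr (A * B) = (W : Matrix (Fin 2) (Fin 2) F).trace at ht'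
      rw [tr_eq_trace] at ht'
      have hd2 : (u : F) ^ 2 = 1 := by
        refine hd.trans ?_
        exact W.2
      rw [← ht', mul_pow, hd2, one_mul]
    have e := tr_sq_of_proj e1
    rw [tr_conj, tr_sq, e2] at e
    have h1 := hl.tab.2.2 rfl
    have hu2 : 2 * tr (A * B) = 1 := by
      linear_combination -e + h1 * (tr (A * B) ^ 2 + tr (A * B) - 3)
    apply h5
    linear_combination (-4 : F) * h1 + (2 * tr (A * B) - 1) * hu2

end Cfsg.Agent.Dickson

namespace Cfsg.Agent.Dickson

open Matrix Cfsg.Agent.PSL2Spec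
open scoped Pointwise

section Fix

variable {G : Type*} [Group G] [Finite G]

/-- If a Sylow subgroup and its normaliser lie in `H`, it fixes only the trivial coset. -/
theorem mem_of_sylow_le {H S T : Subgroup G} {ℓ a : ℕ} [hℓ : Fact ℓ.Prime] (hSH : S ≤ H)
    (hNS : Subgroup.normalizer (S : Set G) ≤ H) (hS : Nat.card S = ℓ ^ a) (hT : Nat.card T = ℓ ^ a)
    (hG : ¬ ℓ ^ (a + 1) ∣ Nat.card G) {g : G} (h1 : T ≤ H) (h2 : ∀ t ∈ T, g⁻¹ * t * g ∈ H) : g ∈ H := by
  have hfac : (Nat.card H).factorization ℓ = a := by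
    have e1 := (hℓ.out.pow_dvd_iff_le_factorization Nat.card_pos.ne').mp (hS ▸ Subgroup.card_dvd_of_le hSH)
    have e2 := mt (hℓ.out.pow_dvd_iff_le_factorization (k := a + 1) Nat.card_pos.ne').mpr
      (fun h => hG (h.trans (Subgroup.card_subgroup_dvd_card H)))
    omega
  have conj : ∀ R : Subgroup G, R ≤ H → Nat.card R = ℓ ^ a →
      ∃ h : H, MulAut.conj (h : G) • S = R := by
    intro R hR hRc
    let P₁ : Sylow ℓ H := Sylow.ofCard (S.subgroupOf H)
      (by rw [Nat.card_congr (Subgroup.subgroupOfEquivOfLe hSH).toEquiv, hS, hfac])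
    let P₂ : Sylow ℓ H := Sylow.ofCard (R.subgroupOf H)
      (by rw [Nat.card_congr (Subgroup.subgroupOfEquivOfLe hR).toEquiv, hRc, hfac])
    obtain ⟨h, hh⟩ := MulAction.exists_smul_eq H P₁ P₂
    refine ⟨h, ?_⟩
    have e := congrArg (fun P : Sylow ℓ H => (P : Subgroup H)) hh
    change MulAut.conj h • S.subgroupOf H = R.subgroupOf H at e
    ext z
    rw [Subgroup.mem_smul_pointwise_iff_exists]
    constructor
    · rintro ⟨s, hs, rfl⟩
      have hz : h * ⟨s, hSH hs⟩ * h⁻¹ ∈ R.subgroupOf H := e ▸ Subgroup.smul_mem_pointwise_smul _ (MulAut.conj h) _ hs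
      exact hz
    · intro hz
      have hz' : (⟨z, hR hz⟩ : H) ∈ MulAut.conj h • S.subgroupOf H := e.symm ▸ (hz : (⟨z, hR hz⟩ : H) ∈ R.subgroupOf H)
      obtain ⟨s, hs, hse⟩ := (Subgroup.mem_smul_pointwise_iff_exists _ _ _).mp hz'
      exact ⟨(s : G), hs, congrArg Subtype.val hse⟩
  set T' : Subgroup G := MulAut.conj g⁻¹ • T with hT'
  have hT'H : T' ≤ H := by
    intro z hz
    obtain ⟨t, ht, rfl⟩ := (Subgroup.mem_smul_pointwise_iff_exists _ _ _).mp (hT' ▸ hz)
    simpa using h2 t ht
  obtain ⟨h, hh⟩ := conj T h1 hT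
  obtain ⟨h', hh'⟩ := conj T' hT'H (by rw [← hT]; exact (Nat.card_congr (Subgroup.equivSMul (MulAut.conj g⁻¹) T).toEquiv).symm)
  have hfix : MulAut.conj ((h : G)⁻¹ * g * (h' : G)) • S = S := by
    rw [map_mul, mul_smul, hh', hT', ← mul_smul, ← map_mul, mul_assoc, mul_inv_cancel, mul_one, map_inv,
      inv_smul_eq_iff, hh]
  have hmem : (h : G)⁻¹ * g * (h' : G) ∈ Subgroup.normalizer (S : Set G) := by
    refine mem_normalizer_of_forall fun u hu => ?_
    have hu' := Subgroup.smul_mem_pointwise_smul u (MulAut.conj ((h : G)⁻¹ * g * (h' : G))) S hu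
    rw [hfix] at hu'
    exact hu'
  have := H.mul_mem (H.mul_mem h.2 (hNS hmem)) (H.inv_mem h'.2)
  simpa [mul_assoc] using this

end Fix

variable {F : Type*} [Field F] [Fintype F]

local notation "PSL₂" => Matrix.ProjectiveSpecialLinearGroup (Fin 2) F

namespace Eleven

theorem basic (hF : Fintype.card F = 11) : Odd (Fintype.card F) ∧ Nat.card PSL₂ = 660 ∧ (5 : F) ≠ 0 := by
  haveI : Fact (Nat.Prime 11) := ⟨by norm_num⟩
  haveI : CharP F 11 := charP_of_prime_card hF
  have hodd : Odd (Fintype.card F) := by rw [hF]; decide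
  refine ⟨hodd, ?_, fun h => ?_⟩
  · have hG := card_psl (F := F)
    rcases del_cases F with ⟨-, he⟩ | ⟨hd, -⟩
    · exact absurd he (Nat.not_even_iff_odd.mpr hodd)
    · rw [hd, hF] at hG; omega
  · have : ((5 : ℕ) : F) = 0 := by exact_mod_cast h
    have := (CharP.cast_eq_zero_iff F 11 5).mp this
    norm_num at this

theorem range_data (hF : Fintype.card F = 11) (f : alternatingGroup (Fin 5) →* PSL₂) (hf : Function.Injective f) :
    Nat.card f.range = 60 ∧ f.range.index = 11 ∧ f.range ≠ ⊤ := by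
  obtain ⟨-, hG, -⟩ := basic hF
  have hc : Nat.card f.range = 60 := by
    rw [← Nat.card_congr (MonoidHom.ofInjective hf).toEquiv, nat_card_alternatingGroup, Nat.card_fin]; rfl
  have h1 := Subgroup.card_mul_index f.range
  rw [hG, hc] at h1
  exact ⟨hc, by omega, fun e => by rw [e, Subgroup.card_top, hG] at hc; omega⟩

/-- A Sylow `5`- and a Sylow `2`-subgroup with normalisers inside. -/
theorem sylow_data (hF : Fintype.card F = 11) (f : alternatingGroup (Fin 5) →* PSL₂) (hf : Function.Injective f) :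
    (∃ S : Subgroup PSL₂, S ≤ f.range ∧ Subgroup.normalizer (S : Set PSL₂) ≤ f.range ∧ Nat.card S = 5) ∧
    (∃ S : Subgroup PSL₂, S ≤ f.range ∧ Subgroup.normalizer (S : Set PSL₂) ≤ f.range ∧ Nat.card S = 4) := by
  classical
  haveI : Fact (Nat.Prime 11) := ⟨by norm_num⟩
  haveI : CharP F 11 := charP_of_prime_card hF
  obtain ⟨hodd, hG, -⟩ := basic hF
  have hd : del F = 2 := by
    rcases del_cases F with ⟨-, he⟩ | ⟨hd, -⟩
    · exact absurd he (Nat.not_even_iff_odd.mpr hodd)
    · exact hd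
  constructor
  · obtain ⟨-, -, -, oab⟩ := Exc.alt5_data
    set x := f (Ico.sA * Ico.sB)
    have hx : orderOf x = 5 := (orderOf_injective f hf _).trans oab
    have hx1 : x ≠ 1 := fun e => by rw [e, orderOf_one] at hx; omega
    have hxp : x ^ 11 ≠ 1 := fun e => by
      have := orderOf_dvd_of_pow_eq_one e
      rw [hx] at this; norm_num at this
    have hxm : x ∈ tor x := (pslData (F := F) 11).self x
    have hT : Nat.card (tor x) = 5 := by
      have h5 : 5 ∣ Nat.card (tor x) := hx ▸ Subgroup.orderOf_dvd_natCard _ hxm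
      rcases card_tor_semi 11 hx1 hxp with e | e <;> rw [hF, hd] at e <;> norm_num [-Nat.card_eq_fintype_card] at e
      · exact e
      · rw [e] at h5; norm_num at h5
    have hz : Subgroup.zpowers x = tor x :=
      Subgroup.eq_of_le_of_card_ge (Subgroup.zpowers_le.mpr hxm) (by rw [hT, Nat.card_zpowers, hx])
    have htor : tor x ≤ f.range := hz ▸ Subgroup.zpowers_le.mpr ⟨_, rfl⟩
    refine ⟨tor x, htor, ?_, hT⟩
    -- the ten elements of the normaliser are in the image
    obtain ⟨t, ht⟩ : ∃ t : alternatingGroup (Fin 5), t * (Ico.sA * Ico.sB) * t⁻¹ = (Ico.sA * Ico.sB)⁻¹ := by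
      decide +kernel
    have hN := (normalizer_tor 11 hx1 hxp).1
    set D := Subgroup.normalizer (tor x : Set PSL₂) ⊓ f.range with hD
    have hlt : tor x < D := by
      refine lt_of_le_of_ne (le_inf Subgroup.le_normalizer htor) fun e => ?_
      have hmem : f t ∈ D := by
        refine ⟨((pslData (F := F) 11).mem_normalizer_iff hx1).mpr ?_, ⟨t, rfl⟩⟩
        show f t * f (Ico.sA * Ico.sB) * (f t)⁻¹ ∈ tor x
        rw [← map_inv, ← map_mul, ← map_mul, ht, map_inv]
        exact inv_mem hxm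
      rw [← e] at hmem
      have hc := ((pslData (F := F) 11).comm hx1 hmem hxm).eq
      rw [← map_mul, ← map_mul] at hc
      have hc' := hf hc
      rw [hc', mul_inv_cancel_right] at ht
      exact absurd ht (by decide)
    have hDle : D ≤ Subgroup.normalizer (tor x : Set PSL₂) := inf_le_left
    have hcard : Nat.card (Subgroup.normalizer (tor x : Set PSL₂)) ≤ Nat.card D := by
      have h1 := Subgroup.card_dvd_of_le hDle
      have h2 : 5 < Nat.card D := by
        by_contra h
        exact hlt.ne (Subgroup.eq_of_le_of_card_ge hlt.le (by rw [hT]; omega))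
      rw [hN, hT] at h1 ⊢
      have h3 := Nat.le_of_dvd (by norm_num) h1
      interval_cases Nat.card D <;> omega
    exact (Subgroup.eq_of_le_of_card_ge hDle hcard) ▸ (inf_le_right : D ≤ f.range)
  · set g := f.comp altIncl with hg
    have hginj : Function.Injective g := hf.comp altIncl_injective
    set c : alternatingGroup (Fin 4) := Exc.b4 * Exc.a4 * Exc.b4⁻¹
    set a := g Exc.a4 with ha
    set b := g c with hb
    have haa : a * a = 1 := by rw [ha, ← map_mul, show Exc.a4 * Exc.a4 = 1 by decide, map_one]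
    have hbb : b * b = 1 := by rw [hb, ← map_mul, show c * c = 1 by decide, map_one]
    have hab : a * b = b * a := by rw [ha, hb, ← map_mul, ← map_mul, show Exc.a4 * c = c * Exc.a4 by decide]
    have ha1 : a ≠ 1 := fun e => absurd (hginj (e.trans (map_one g).symm)) (by decide)
    have hb1 : b ≠ 1 := fun e => absurd (hginj (e.trans (map_one g).symm)) (by decide)
    have hne : a ≠ b := fun e => absurd (hginj e) (by decide)
    have hV := isKleinFour_fourGroup haa hbb hab ha1 hb1 hne
    obtain ⟨x, y, hxy, hVx⟩ := exists_quat_of_isKleinFour hodd hV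
    refine ⟨fourGroup haa hbb hab, ?_, ?_, hV.card_four⟩
    · rintro z (rfl | rfl | rfl | rfl)
      · exact one_mem _
      · exact ⟨_, rfl⟩
      · exact ⟨_, rfl⟩
      · exact mul_mem ⟨_, rfl⟩ ⟨_, rfl⟩
    · have h12 := (card_normalizer_klein 11 hodd hxy).2 (by rw [hF]; norm_num)
      have hgr : Nat.card g.range = 12 := by
        rw [← Nat.card_congr (MonoidHom.ofInjective hginj).toEquiv, nat_card_alternatingGroup, Nat.card_fin]; rfl
      have hle : g.range ≤ Subgroup.normalizer ((fourGroup haa hbb hab : Subgroup PSL₂) : Set PSL₂) := by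
        rintro _ ⟨s, rfl⟩
        refine mem_normalizer_of_forall fun u hu => ?_
        have hdec : ∀ s : alternatingGroup (Fin 4),
            (s * Exc.a4 * s⁻¹ = Exc.a4 ∨ s * Exc.a4 * s⁻¹ = c ∨ s * Exc.a4 * s⁻¹ = Exc.a4 * c) ∧
            (s * c * s⁻¹ = Exc.a4 ∨ s * c * s⁻¹ = c ∨ s * c * s⁻¹ = Exc.a4 * c) := by decide +kernel
        have hin : ∀ d : alternatingGroup (Fin 4), (d = Exc.a4 ∨ d = c ∨ d = Exc.a4 * c) →
            g d ∈ fourGroup haa hbb hab := by
          rintro d (rfl | rfl | rfl)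
          · exact Or.inr (Or.inl rfl)
          · exact Or.inr (Or.inr (Or.inl rfl))
          · rw [map_mul]; exact Or.inr (Or.inr (Or.inr rfl))
        have h1 : g s * a * (g s)⁻¹ ∈ fourGroup haa hbb hab := by
          show g s * g Exc.a4 * (g s)⁻¹ ∈ _
          rw [← map_inv, ← map_mul, ← map_mul]; exact hin _ (hdec s).1
        have h2 : g s * b * (g s)⁻¹ ∈ fourGroup haa hbb hab := by
          show g s * g c * (g s)⁻¹ ∈ _
          rw [← map_inv, ← map_mul, ← map_mul]; exact hin _ (hdec s).2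
        rcases hu with rfl | rfl | rfl | rfl
        · simp
        · exact h1
        · exact h2
        · rw [← conj_mul]; exact mul_mem h1 h2
      have hN12 : Nat.card (Subgroup.normalizer ((fourGroup haa hbb hab : Subgroup PSL₂) : Set PSL₂)) = 12 := by
        rw [← hVx]; exact h12
      rw [← Subgroup.eq_of_le_of_card_ge hle (by rw [hN12, hgr])]
      rintro _ ⟨s, rfl⟩
      exact ⟨_, rfl⟩

theorem normalizer_range (hF : Fintype.card F = 11) (f : alternatingGroup (Fin 5) →* PSL₂)
    (hf : Function.Injective f) : Subgroup.normalizer (f.range : Set PSL₂) = f.range := by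
  obtain ⟨⟨S, hS1, hS2, hS3⟩, -⟩ := sylow_data hF f hf
  haveI : Fact (Nat.Prime 5) := ⟨by norm_num⟩
  refine le_antisymm (fun g hg => ?_) Subgroup.le_normalizer
  refine mem_of_sylow_le (S := S) (T := S) (ℓ := 5) (a := 1) hS1 hS2 (by rw [hS3]; rfl) (by rw [hS3]; rfl)
    (by rw [(basic hF).2.1]; norm_num) hS1 fun t ht => ?_
  exact (Subgroup.mem_normalizer_iff''.mp hg t).mp (hS1 ht)

/-- The action on the eleven cosets is doubly transitive. -/
theorem two_transitive (hF : Fintype.card F = 11) (f : alternatingGroup (Fin 5) →* PSL₂)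
    (hf : Function.Injective f) : MulAction.IsMultiplyPretransitive PSL₂ (PSL₂ ⧸ f.range) 2 := by
  classical
  obtain ⟨hc, hidx, -⟩ := range_data hF f hf
  obtain ⟨⟨S5, hS5, hN5, c5⟩, ⟨S2, hS2, hN2, c2⟩⟩ := sylow_data hF f hf
  haveI : Fact (Nat.Prime 5) := ⟨by norm_num⟩
  haveI : Fact (Nat.Prime 2) := ⟨Nat.prime_two⟩
  set H := f.range
  set o : PSL₂ ⧸ H := ((1 : PSL₂) : PSL₂ ⧸ H) with ho
  -- the point stabiliser is transitive on the other points
  have horb : ∀ z : PSL₂ ⧸ H, z ≠ o → ∀ w : PSL₂ ⧸ H, w ≠ o → ∃ h : H, (h : PSL₂) • z = w := by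
    intro z hz
    obtain ⟨g, rfl⟩ := QuotientGroup.mk_surjective z
    have hg : g ∉ H := fun h => hz ((QuotientGroup.eq (s := H) (a := g) (b := 1)).mpr (by simpa using h))
    set St := MulAction.stabilizer H (g : PSL₂ ⧸ H) with hSt
    have hmem : ∀ t : H, t ∈ St → g⁻¹ * (t : PSL₂) * g ∈ H := by
      intro t ht
      have e : (((t : PSL₂) * g : PSL₂) : PSL₂ ⧸ H) = (g : PSL₂ ⧸ H) := ht
      have := QuotientGroup.eq.mp e.symm
      simpa [mul_assoc] using this
    have hno : ∀ (ℓ a : ℕ) [Fact ℓ.Prime], (∃ S : Subgroup PSL₂, S ≤ H ∧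
        Subgroup.normalizer (S : Set PSL₂) ≤ H ∧ Nat.card S = ℓ ^ a) →
        ¬ ℓ ^ (a + 1) ∣ 660 → ¬ ℓ ^ a ∣ Nat.card St := by
      rintro ℓ a _ ⟨S, hS, hNS, cS⟩ hndiv hdiv
      obtain ⟨Q, hQ⟩ := Sylow.exists_subgroup_card_pow_prime ℓ hdiv
      refine hg (mem_of_sylow_le (T := (Q.map St.subtype).map H.subtype) hS hNS cS ?_
        (by rw [(basic hF).2.1]; exact hndiv) (Subgroup.map_subtype_le _) ?_)
      · rw [Subgroup.card_map_of_injective H.subtype_injective, Subgroup.card_map_of_injective St.subtype_injective, hQ]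
      · rintro _ ⟨_, ⟨t, -, rfl⟩, rfl⟩
        exact hmem _ t.2
    have h5 := hno 5 1 ⟨S5, hS5, hN5, by rw [c5]; rfl⟩ (by norm_num)
    have h4 := hno 2 2 ⟨S2, hS2, hN2, by rw [c2]; rfl⟩ (by norm_num)
    have hst := Subgroup.card_mul_index St
    rw [MulAction.index_stabilizer, hc] at hst
    set O := MulAction.orbit H (g : PSL₂ ⧸ H) with hO
    have hsub : O ⊆ {o}ᶜ := by
      rintro _ ⟨t, rfl⟩ e
      have e' : (((t : PSL₂) * g : PSL₂) : PSL₂ ⧸ H) = ((1 : PSL₂) : PSL₂ ⧸ H) := e
      have := QuotientGroup.eq.mp e'.symm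
      rw [inv_one, one_mul] at this
      exact hg ((H.mul_mem_cancel_left t.2).mp this)
    haveI : Fintype (PSL₂ ⧸ H) := Fintype.ofFinite _
    have hcompl : ({o}ᶜ : Set (PSL₂ ⧸ H)).ncard = 10 := by
      rw [Set.ncard_compl, Set.ncard_singleton, ← Subgroup.index_eq_card, hidx]
    have hge : 10 ≤ O.ncard := by
      have hd : Nat.card St ∣ 60 := Dvd.intro _ hst
      norm_num [-Nat.card_eq_fintype_card] at h5 h4
      have hle := Nat.le_of_dvd (by norm_num) hd
      have : Nat.card St ≤ 6 := by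
        interval_cases hc' : Nat.card St <;> omega
      by_contra hlt
      have h' : Nat.card St * O.ncard ≤ 6 * 9 := Nat.mul_le_mul this (by omega)
      omega
    intro w hw
    have hOeq : O = {o}ᶜ := Set.eq_of_subset_of_ncard_le hsub (by omega) (Set.toFinite _)
    obtain ⟨t, ht⟩ : w ∈ O := hOeq ▸ hw
    exact ⟨t, ht⟩
  refine MulAction.is_two_pretransitive_iff.mpr fun {a b c d} hab hcd => ?_
  obtain ⟨g₁, hg₁⟩ := MulAction.exists_smul_eq PSL₂ a o
  obtain ⟨g₂, hg₂⟩ := MulAction.exists_smul_eq PSL₂ c o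
  obtain ⟨h, hh⟩ := horb (g₁ • b) (fun e => hab (smul_left_cancel g₁ (hg₁.trans e.symm))) (g₂ • d)
    (fun e => hcd (smul_left_cancel g₂ (hg₂.trans e.symm)))
  have hfixo : (h : PSL₂) • o = o := by
    show (((h : PSL₂) * 1 : PSL₂) : PSL₂ ⧸ H) = ((1 : PSL₂) : PSL₂ ⧸ H)
    rw [QuotientGroup.eq]
    simp
  refine ⟨g₂⁻¹ * h * g₁, ?_, ?_⟩
  · rw [mul_smul, mul_smul, hg₁, hfixo, ← hg₂, inv_smul_smul]
  · rw [mul_smul, mul_smul, hh, inv_smul_smul]

/-- Two classes of eleven icosahedral subgroups. -/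
theorem classes (hF : Fintype.card F = 11) :
    Nat.card {H : Subgroup PSL₂ // Nonempty (H ≃* alternatingGroup (Fin 5))} = 22 ∧
      ∃ H K : Subgroup PSL₂, Nonempty (H ≃* alternatingGroup (Fin 5)) ∧ Nonempty (K ≃* alternatingGroup (Fin 5)) ∧
        (∀ g : PSL₂, MulAut.conj g • H ≠ K) ∧ ∀ L : Subgroup PSL₂, Nonempty (L ≃* alternatingGroup (Fin 5)) →
          ∃ g : PSL₂, MulAut.conj g • L = H ∨ MulAut.conj g • L = K := by
  classical
  haveI : Fact (Nat.Prime 11) := ⟨by norm_num⟩
  haveI : CharP F 11 := charP_of_prime_card hF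
  haveI := finite_pgl (F := F)
  obtain ⟨hodd, hG, h5⟩ := basic hF
  obtain ⟨H, ⟨i⟩⟩ := Ico.exists_alt5_iff.mpr (show 5 ∣ Nat.card PSL₂ by rw [hG]; norm_num)
  set f := H.subtype.comp i.symm.toMonoidHom
  have hf : Function.Injective f := H.subtype_injective.comp i.symm.injective
  have hfH : f.range = H := by
    rw [MonoidHom.range_comp, MonoidHom.range_eq_top.mpr i.symm.surjective, ← MonoidHom.range_eq_map,
      Subgroup.range_subtype]
  set ι := Matrix.ProjectiveSpecialLinearGroup.toPGL (n := Fin 2) (R := F)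
  have hι : Function.Injective ι := Matrix.ProjectiveSpecialLinearGroup.toPGL_injective
  obtain ⟨u, hu⟩ : ∃ u : F, ¬ IsSquare u :=
    FiniteField.exists_nonsquare (fun e => by
      have := FiniteField.even_card_iff_char_two.mp e
      rw [hF] at this; norm_num at this)
  have hu0 : u ≠ 0 := fun e => hu (e ▸ IsSquare.zero)
  let d : GL (Fin 2) F := Matrix.GeneralLinearGroup.mkOfDetNeZero !![u, 0; 0, 1] (by simpa [Matrix.det_fin_two_of] using hu0)
  set x₀ := Matrix.ProjGenLinGroup.mk d
  have hx₀ : x₀ ∉ ι.range := fun h => hu (by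
    simpa [d, Matrix.GeneralLinearGroup.mkOfDetNeZero, Matrix.det_fin_two_of] using (mem_range_toPGL_iff d).mp h)
  haveI := normal_range_toPGL (F := F)
  have hidx : ∀ z, z ∉ ι.range → x₀⁻¹ * z ∈ ι.range := by
    intro z hz
    induction z using Matrix.ProjGenLinGroup.induction_on with | mk g => ?_
    rw [← map_inv, ← map_mul, mem_range_toPGL_iff, Units.val_mul, Matrix.det_mul]
    have h1 : ¬ IsSquare (g : Matrix (Fin 2) (Fin 2) F).det := fun h => hz ((mem_range_toPGL_iff g).mpr h)
    have h2 : ¬ IsSquare ((d⁻¹ : GL (Fin 2) F) : Matrix (Fin 2) (Fin 2) F).det := by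
      intro h
      have e : (d : Matrix (Fin 2) (Fin 2) F).det * ((d⁻¹ : GL (Fin 2) F) : Matrix (Fin 2) (Fin 2) F).det = 1 := by
        rw [← Matrix.det_mul, ← Units.val_mul, mul_inv_cancel, Units.val_one, Matrix.det_one]
      have : IsSquare (d : Matrix (Fin 2) (Fin 2) F).det := by
        rw [eq_one_div_of_mul_eq_one_left e]; exact IsSquare.one.div h
      simp [d, Matrix.GeneralLinearGroup.mkOfDetNeZero, Matrix.det_fin_two_of] at this
      exact hu this
    have h2F : ringChar F ≠ 2 := fun e => by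
      have := FiniteField.even_card_iff_char_two.mp e
      rw [hF] at this; norm_num at this
    rcases FiniteField.isSquare_iff h2F (Units.ne_zero (Matrix.GeneralLinearGroup.det d⁻¹)) with hh
    have e1 := (FiniteField.pow_dichotomy h2F (Units.ne_zero (Matrix.GeneralLinearGroup.det d⁻¹))).resolve_left
      (fun e => h2 (hh.mpr e))
    have e2 := (FiniteField.pow_dichotomy h2F (Units.ne_zero (Matrix.GeneralLinearGroup.det g))).resolve_left
      (fun e => h1 ((FiniteField.isSquare_iff h2F (Units.ne_zero (Matrix.GeneralLinearGroup.det g))).mpr e))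
    refine (FiniteField.isSquare_iff h2F (mul_ne_zero (Matrix.GeneralLinearGroup.det_ne_zero _)
      (Matrix.GeneralLinearGroup.det_ne_zero _))).mpr ?_
    rw [mul_pow]
    simp only [Matrix.GeneralLinearGroup.val_det_apply] at e1 e2
    rw [e1, e2]
    norm_num
  -- the second class
  set f₂ : alternatingGroup (Fin 5) →* PSL₂ :=
    (MonoidHom.ofInjective hι).symm.toMonoidHom.comp
      ((((MulAut.conj x₀).toMonoidHom).comp (ι.comp f)).codRestrict ι.range
        (fun s => normal_range_toPGL.conj_mem _ ⟨f s, rfl⟩ x₀))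
  have hf₂' : ∀ s, ι (f₂ s) = x₀ * ι (f s) * x₀⁻¹ := fun s => MonoidHom.apply_ofInjective_symm hι _
  have hf₂ : Function.Injective f₂ := fun s t h => hf (hι (by
    have := congrArg ι h
    rw [hf₂', hf₂'] at this
    simpa using this))
  set K := f₂.range
  have hKmap : K.map ι = (f.range.map ι).map (MulAut.conj x₀).toMonoidHom := by
    rw [MonoidHom.map_range, MonoidHom.map_range, MonoidHom.map_range]
    exact congrArg MonoidHom.range (MonoidHom.ext hf₂')
  have hsm : ∀ (w : PSL₂) (L : Subgroup PSL₂),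
      (MulAut.conj w • L).map ι = (L.map ι).map (MulAut.conj (ι w)).toMonoidHom := by
    intro w L
    ext z
    constructor
    · rintro ⟨_, hu, rfl⟩
      obtain ⟨v, hv, rfl⟩ := (Subgroup.mem_smul_pointwise_iff_exists _ _ _).mp hu
      exact ⟨ι v, ⟨v, hv, rfl⟩, by simp⟩
    · rintro ⟨_, ⟨v, hv, rfl⟩, rfl⟩
      exact ⟨_, (Subgroup.mem_smul_pointwise_iff_exists _ _ _).mpr ⟨v, hv, rfl⟩, by simp⟩
  have hcc : ∀ (u v : Matrix.ProjGenLinGroup (Fin 2) F) (X : Subgroup (Matrix.ProjGenLinGroup (Fin 2) F)),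
      (X.map (MulAut.conj v).toMonoidHom).map (MulAut.conj u).toMonoidHom = X.map (MulAut.conj (u * v)).toMonoidHom := by
    intro u v X
    ext z
    constructor
    · rintro ⟨_, ⟨w, hw, rfl⟩, rfl⟩
      exact ⟨w, hw, by simp [mul_assoc]⟩
    · rintro ⟨w, hw, rfl⟩
      exact ⟨_, ⟨w, hw, rfl⟩, by simp [mul_assoc]⟩
  have hc1 : ∀ X : Subgroup (Matrix.ProjGenLinGroup (Fin 2) F), X.map (MulAut.conj 1).toMonoidHom = X := by
    intro X
    ext z
    simp
  have hne : ∀ g : PSL₂, MulAut.conj g • f.range ≠ K := by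
    intro g h
    have h' := congrArg (Subgroup.map ι) h
    rw [hsm, hKmap] at h'
    have hy : (f.range.map ι).map (MulAut.conj ((ι g)⁻¹ * x₀)).toMonoidHom = f.range.map ι := by
      have := congrArg (Subgroup.map (MulAut.conj (ι g)⁻¹).toMonoidHom) h'
      rw [hcc, hcc, inv_mul_cancel, hc1] at this
      exact this.symm
    have hm := alt5_normalizer_pgl hodd h5 f hf _ hy
    exact hx₀ ((Subgroup.mul_mem_cancel_left _ (inv_mem (MonoidHom.mem_range.mpr ⟨g, rfl⟩))).mp hm)
  have hall : ∀ L : Subgroup PSL₂, Nonempty (L ≃* alternatingGroup (Fin 5)) →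
      ∃ g : PSL₂, MulAut.conj g • L = f.range ∨ MulAut.conj g • L = K := by
    rintro L ⟨j⟩
    set fL := L.subtype.comp j.symm.toMonoidHom
    have hfL : Function.Injective fL := L.subtype_injective.comp j.symm.injective
    have hL : fL.range = L := by
      rw [MonoidHom.range_comp, MonoidHom.range_eq_top.mpr j.symm.surjective, ← MonoidHom.range_eq_map,
        Subgroup.range_subtype]
    obtain ⟨z, hz⟩ := alt5_conj_pgl hodd fL f hfL hf
    rw [hL] at hz
    by_cases hzr : z ∈ ι.range
    · obtain ⟨w, rfl⟩ := hzr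
      refine ⟨w, Or.inl (Subgroup.map_injective hι ?_)⟩
      rw [hsm, ← hz]
    · have hmem : x₀ * z ∈ ι.range := by
        have hx2 : x₀ * x₀ ∈ ι.range := by
          rw [← map_mul, mem_range_toPGL_iff, Units.val_mul, Matrix.det_mul]; exact ⟨_, rfl⟩
        have := mul_mem hx2 (hidx z hzr)
        rwa [mul_assoc, mul_inv_cancel_left] at this
      obtain ⟨w, hw⟩ := hmem
      refine ⟨w, Or.inr (Subgroup.map_injective hι ?_)⟩
      rw [hsm, hKmap, hz, hw, hcc]
  have hor : ∀ (h : alternatingGroup (Fin 5) →* PSL₂), Function.Injective h →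
      (MulAction.orbit (ConjAct PSL₂) h.range).ncard = 11 := by
    intro h hh
    rw [← MulAction.index_stabilizer, Subgroup.index_eq_card]
    have hst : MulAction.stabilizer (ConjAct PSL₂) h.range =
        (Subgroup.normalizer (h.range : Set PSL₂)).map (ConjAct.toConjAct (G := PSL₂)).toMonoidHom := by
      ext z
      constructor
      · intro hz
        refine ⟨ConjAct.ofConjAct z, mem_normalizer_of_forall fun v hv => ?_, rfl⟩
        have := Subgroup.smul_mem_pointwise_smul v z h.range hv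
        rw [MulAction.mem_stabilizer_iff.mp hz] at this
        simpa [ConjAct.smul_def] using this
      · rintro ⟨v, hv, rfl⟩
        refine MulAction.mem_stabilizer_iff.mpr (Subgroup.ext fun w => ?_)
        rw [Subgroup.mem_smul_pointwise_iff_exists]
        constructor
        · rintro ⟨u, hu, rfl⟩
          exact (Subgroup.mem_normalizer_iff.mp hv u).mp hu
        · intro hw
          exact ⟨v⁻¹ * w * v, (Subgroup.mem_normalizer_iff.mp hv _).mpr (by simpa [mul_assoc] using hw),
            by simp [ConjAct.smul_def, mul_assoc]⟩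
    rw [hst, normalizer_range hF h hh, ← Subgroup.index_eq_card]
    exact (Subgroup.index_map_equiv h.range (ConjAct.toConjAct (G := PSL₂))).trans (range_data hF h hh).2.1
  refine ⟨?_, f.range, K, ⟨(MonoidHom.ofInjective hf).symm⟩, ⟨(MonoidHom.ofInjective hf₂).symm⟩, hne, hall⟩
  have hset : {L : Subgroup PSL₂ | Nonempty (L ≃* alternatingGroup (Fin 5))} =
      MulAction.orbit (ConjAct PSL₂) f.range ∪ MulAction.orbit (ConjAct PSL₂) K := by
    ext L
    constructor
    · intro hL
      obtain ⟨g, hg | hg⟩ := hall L hL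
      · exact Or.inl ⟨(ConjAct.toConjAct g)⁻¹, by rw [← hg]; exact inv_smul_smul _ L⟩
      · exact Or.inr ⟨(ConjAct.toConjAct g)⁻¹, by rw [← hg]; exact inv_smul_smul _ L⟩
    · rintro (⟨g, rfl⟩ | ⟨g, rfl⟩)
      · exact ⟨(Subgroup.equivSMul g f.range).symm.trans (MonoidHom.ofInjective hf).symm⟩
      · exact ⟨(Subgroup.equivSMul g K).symm.trans (MonoidHom.ofInjective hf₂).symm⟩
  have hdisj : Disjoint (MulAction.orbit (ConjAct PSL₂) f.range) (MulAction.orbit (ConjAct PSL₂) K) := by
    rw [Set.disjoint_left]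
    rintro L ⟨g, rfl⟩ ⟨g', hg'⟩
    refine hne (ConjAct.ofConjAct (g'⁻¹ * g)) ?_
    show (g'⁻¹ * g) • f.range = K
    rw [mul_smul]
    simp only at hg'
    rw [← hg', inv_smul_smul]
  change Nat.card {L : Subgroup PSL₂ | Nonempty (L ≃* alternatingGroup (Fin 5))} = 22
  rw [Nat.card_coe_set_eq, hset, Set.ncard_union_eq hdisj (Set.toFinite _) (Set.toFinite _), hor f hf,
    hor f₂ hf₂]

end Eleven

end Cfsg.Agent.Dickson
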