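import Mathlib
import Cfsg.Agent.Lib.Classical.DicksonOvergroups
import Cfsg.Agent.Lib.Grp.Hall
import Cfsg.Prelude.Def_OddOrderLocal

/-!
Hall `{2, 3}`-subgroups of `PSL(2, F)`.
-/

set_option autoImplicit false

namespace Cfsg.Agent.Dickson

open Matrix Cfsg.Agent.PSL2Spec

/-- A soluble subgroup of index prime to six contains a Hall `{2, 3}`-subgroup. -/
theorem exists_hall_six {G : Type*} [Group G] [Finite G] (N : Subgroup G) [Group.IsSolvable N]
    (h2 : ¬ 2 ∣ N.index) (h3 : ¬ 3 ∣ N.index) : ∃ H : Subgroup G, Cfsg.IsPiHall ({2, 3} : Set ℕ) H := by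
  set c := Nat.card N
  have hc0 : c ≠ 0 := Nat.card_pos.ne'
  obtain ⟨x, u, hu, hxu⟩ := Nat.exists_eq_pow_mul_and_not_dvd hc0 2 (by norm_num)
  have hu0 : u ≠ 0 := fun e => hu (e ▸ dvd_zero 2)
  obtain ⟨y, v, hv, hyv⟩ := Nat.exists_eq_pow_mul_and_not_dvd hu0 3 (by norm_num)
  have hv2 : ¬ 2 ∣ v := fun h => hu (hyv ▸ h.mul_left _)
  have hco : (2 ^ x * 3 ^ y).Coprime v :=
    Nat.Coprime.mul_left ((Nat.prime_two.coprime_iff_not_dvd.mpr hv2).pow_left x)
      ((Nat.prime_three.coprime_iff_not_dvd.mpr hv).pow_left y)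
  have hcv : c = 2 ^ x * 3 ^ y * v := by rw [hxu, hyv, mul_assoc]
  obtain ⟨H, hH⟩ := Grp.exists_hall (G := N) hcv hco
  have hHc : Nat.card (H.map N.subtype) = 2 ^ x * 3 ^ y := by
    rw [Subgroup.card_map_of_injective N.subtype_injective, hH]
  refine ⟨H.map N.subtype, fun r hr hd => ?_, fun r hr hr23 hd => ?_⟩
  · rw [hHc] at hd
    rcases hr.dvd_mul.mp hd with e | e
    · exact Or.inl ((Nat.prime_dvd_prime_iff_eq hr Nat.prime_two).mp (hr.dvd_of_dvd_pow e))
    · exact Or.inr ((Nat.prime_dvd_prime_iff_eq hr Nat.prime_three).mp (hr.dvd_of_dvd_pow e))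
  · have hidx : (H.map N.subtype).index = v * N.index := by
      have h1 := Subgroup.card_mul_index (H.map N.subtype)
      rw [hHc, ← Subgroup.card_mul_index N, show Nat.card N = 2 ^ x * 3 ^ y * v from hcv, mul_assoc _ v] at h1
      exact Nat.eq_of_mul_eq_mul_left (by positivity) h1
    rw [hidx] at hd
    rcases hr23 with rfl | rfl
    · exact (Nat.prime_two.dvd_mul.mp hd).elim hv2 h2
    · exact (Nat.prime_three.dvd_mul.mp hd).elim hv h3

variable {F : Type*} [Field F] [Fintype F] (p : ℕ) [hp : Fact p.Prime] [CharP F p]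

local notation "PSL₂" => Matrix.ProjectiveSpecialLinearGroup (Fin 2) F

/-- The `{2, 3}`-part of the order of `PSL(2, q)`, `p ≥ 5`. -/
theorem factorization_psl (hp5 : 5 ≤ p) :
    (Nat.card PSL₂).factorization 2 + 1 = (Fintype.card F ^ 2 - 1).factorization 2 ∧
    (Nat.card PSL₂).factorization 3 = (Fintype.card F ^ 2 - 1).factorization 3 := by
  obtain ⟨n, -, hn⟩ := FiniteField.card F p
  have hodd : Odd (Fintype.card F) := odd_of_p p (by omega)
  have hd : del F = 2 := by
    rcases del_cases F with ⟨-, he⟩ | ⟨hd, -⟩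
    · exact absurd he (Nat.not_even_iff_odd.mpr hodd)
    · exact hd
  have h1 := card_psl (F := F)
  rw [hd, show (Fintype.card F - 1) * (Fintype.card F + 1) = Fintype.card F ^ 2 - 1 by
    rw [mul_comm, ← Nat.sq_sub_sq, one_pow]] at h1
  have hq : 1 < Fintype.card F := Fintype.one_lt_card
  have hs : Fintype.card F ^ 2 - 1 ≠ 0 := by
    have : Fintype.card F < Fintype.card F ^ 2 := lt_self_pow₀ hq (by norm_num)
    omega
  have e : ∀ r, r.Prime → r < 5 → (Fintype.card F).factorization r = 0 := fun r hr hlt =>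
    Nat.factorization_eq_zero_of_not_dvd fun h => by
      rw [hn] at h
      have := (Nat.prime_dvd_prime_iff_eq hr hp.out).mp (hr.dvd_of_dvd_pow h)
      omega
  have e2 := congrArg (fun z => z.factorization 2) h1
  have e3 := congrArg (fun z => z.factorization 3) h1
  simp only [Nat.factorization_mul Nat.card_pos.ne' two_ne_zero,
    Nat.factorization_mul (show Fintype.card F ≠ 0 by omega) hs, Finsupp.add_apply, e 2 Nat.prime_two (by norm_num),
    e 3 Nat.prime_three (by norm_num), Nat.prime_two.factorization_self, zero_add] at e2 e3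
  rw [Nat.factorization_eq_zero_of_not_dvd (by norm_num : ¬ 3 ∣ 2), add_zero] at e3
  exact ⟨e2, e3⟩

/-- The orders `12` and `24`. -/
theorem part_iff {a b : ℕ} : (2 ^ a * 3 ^ b = 24 ↔ a = 3 ∧ b = 1) ∧ (2 ^ a * 3 ^ b = 48 ↔ a = 4 ∧ b = 1) := by
  have key : ∀ n, n = 24 ∨ n = 48 → 2 ^ a * 3 ^ b = n →
      a = n.factorization 2 ∧ b = n.factorization 3 := by
    intro n _ h
    rw [← h]
    constructor
    · rw [Nat.factorization_mul (by positivity) (by positivity), Finsupp.add_apply, Nat.prime_two.factorization_pow,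
        Finsupp.single_eq_same, Nat.factorization_eq_zero_of_not_dvd, add_zero]
      exact fun h => absurd (Nat.prime_two.dvd_of_dvd_pow h) (by norm_num)
    · rw [Nat.factorization_mul (by positivity) (by positivity), Finsupp.add_apply, Nat.prime_three.factorization_pow,
        Finsupp.single_eq_same, Nat.factorization_eq_zero_of_not_dvd, zero_add]
      exact fun h => absurd (Nat.prime_three.dvd_of_dvd_pow h) (by norm_num)
  have e24 : (24 : ℕ).factorization 2 = 3 ∧ (24 : ℕ).factorization 3 = 1 := by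
    rw [show (24 : ℕ) = 2 ^ 3 * 3 by norm_num, Nat.factorization_mul (by norm_num) (by norm_num), Finsupp.add_apply,
      Finsupp.add_apply, Nat.prime_two.factorization_pow, Nat.prime_three.factorization]
    simp
  have e48 : (48 : ℕ).factorization 2 = 4 ∧ (48 : ℕ).factorization 3 = 1 := by
    rw [show (48 : ℕ) = 2 ^ 4 * 3 by norm_num, Nat.factorization_mul (by norm_num) (by norm_num), Finsupp.add_apply,
      Finsupp.add_apply, Nat.prime_two.factorization_pow, Nat.prime_three.factorization]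
    simp
  refine ⟨⟨fun h => ?_, fun h => by rw [h.1, h.2]; norm_num⟩, ⟨fun h => ?_, fun h => by rw [h.1, h.2]; norm_num⟩⟩
  · have := key 24 (Or.inl rfl) h; omega
  · have := key 48 (Or.inr rfl) h; omega

end Cfsg.Agent.Dickson
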