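import Mathlib
import Cfsg.Agent.Lib.Classical.DicksonTorus

/-!
`PSL(2, 2ⁿ) = A U A` for a nonsplit torus `A` and a Sylow `2`-subgroup `U`.
-/

set_option autoImplicit false

namespace Cfsg.Agent.Dickson

open Matrix Cfsg.Agent.Grp.SL2 Cfsg.Agent.PSL2Spec

variable {F : Type*} [Field F] [Fintype F]

local notation "SL₂" => Matrix.SpecialLinearGroup (Fin 2) F
local notation "PSL₂" => Matrix.ProjectiveSpecialLinearGroup (Fin 2) F

theorem cramer {R : Type*} [CommRing R] {δ X Y h k : R} (e0 : X * h + δ * Y * k = X)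
    (e1 : Y * h + (X + Y) * k = Y) (d : X * (X + Y) - δ * Y * Y = 1) : h = 1 ∧ k = 0 :=
  ⟨by linear_combination (X + Y) * e0 - δ * Y * e1 - (h - 1) * d, by linear_combination X * e1 - Y * e0 - k * d⟩

theorem aba_decomposition [CharP F 2] :
    ∃ A B : Subgroup PSL₂, IsCyclic A ∧ Nat.card A = Fintype.card F + 1 ∧
      IsMulCommutative B ∧ (∀ b ∈ B, b * b = 1) ∧ Nat.card B = Fintype.card F ∧
      ∀ g : PSL₂, ∃ a ∈ A, ∃ b ∈ B, ∃ c ∈ A, g = a * b * c := by
  classical
  haveI : Fact (Nat.Prime 2) := ⟨Nat.prime_two⟩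
  have two : (2 : F) = 0 := CharTwo.two_eq_zero
  have h2F : ringChar F = 2 := ringChar.eq F 2
  have hd : del F = 1 := by
    rcases del_cases F with ⟨h, -⟩ | ⟨-, ho⟩
    · exact h
    · have := FiniteField.even_card_iff_char_two.mp h2F
      rw [Nat.odd_iff] at ho
      omega
  -- an anisotropic form
  obtain ⟨δ, hδ⟩ : ∃ δ : F, ∀ x : F, x * x + x + δ ≠ 0 := by
    have hns : ¬ Function.Surjective (fun x : F => x * x + x) := by
      intro hs
      have := (Finite.injective_iff_surjective.mpr hs) (a₁ := 0) (a₂ := 1) (by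
        simp only [mul_zero, zero_add, mul_one]
        linear_combination -two)
      exact zero_ne_one this
    obtain ⟨δ, h⟩ := not_forall.mp hns
    exact ⟨δ, fun x e => h ⟨x, by linear_combination e - δ * two⟩⟩
  have hδ0 : δ ≠ 0 := fun e => hδ 0 (by rw [e]; ring)
  let Q : F → F → F := fun x y => x * x + x * y + δ * (y * y)
  have hQ : ∀ x y, Q x y = 0 → x = 0 ∧ y = 0 := by
    intro x y h
    by_cases hy : y = 0
    · subst hy
      exact ⟨mul_self_eq_zero.mp (by simpa [Q] using h), rfl⟩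
    · refine absurd ?_ (hδ (x / y))
      field_simp
      simp only [Q] at h
      linear_combination h
  let M : ∀ x y : F, Q x y = 1 → SL₂ := fun x y h => ⟨!![x, δ * y; y, x + y], by
    rw [Matrix.det_fin_two_of]
    simp only [Q] at h
    linear_combination h - δ * y * y * two⟩
  have hMM : ∀ x y h x' y' h', Commute (M x y h) (M x' y' h') := by
    intro x y h x' y' h'
    refine Subtype.ext ?_
    rw [Matrix.SpecialLinearGroup.coe_mul, Matrix.SpecialLinearGroup.coe_mul]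
    ext i j
    fin_cases i <;> fin_cases j <;> simp [M, Matrix.mul_apply, Fin.sum_univ_two] <;> ring
  obtain ⟨w, hw⟩ := FiniteField.isSquare_of_char_two h2F δ
  have hw0 : w ≠ 0 := fun e => hδ0 (by rw [hw, e, mul_zero])
  have hQ₀ : Q 0 w⁻¹ = 1 := by
    show 0 * 0 + 0 * w⁻¹ + δ * (w⁻¹ * w⁻¹) = 1
    rw [hw]; field_simp; ring
  set m : SL₂ := M 0 w⁻¹ hQ₀ with hm
  have hmns : ¬ IsScalar m := fun h => by
    rcases h with h | h <;>
      have e := congrFun (congrFun (congrArg Subtype.val h) 1) 0 <;> simp [m, M] at e <;> exact hw0 e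
  set a₀ : PSL₂ := proj m with ha₀
  have ha1 : a₀ ≠ 1 := fun e => hmns (proj_one_iff.mp e)
  have hap : a₀ ^ 2 ≠ 1 := fun e => by
    have h4 := (pow_eq_one_iff (p := 2) hmns).mp e
    rw [show tr m = w⁻¹ by simp [m, M, tr], show (4 : F) = 2 * 2 by norm_num, two, zero_mul] at h4
    exact inv_ne_zero hw0 (pow_eq_zero_iff two_ne_zero |>.mp h4)
  have hmem : ∀ x y h, (proj (M x y h) : PSL₂) ∈ tor a₀ := fun x y h => by
    rw [ha₀, mem_tor_iff]; exact hMM x y h 0 w⁻¹ hQ₀
  -- one element for each line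
  have hnorm : ∀ x y : F, Q x y ≠ 0 → ∃ l : F, l ≠ 0 ∧ Q (l * x) (l * y) = 1 := by
    intro x y h
    obtain ⟨s, hs⟩ := FiniteField.isSquare_of_char_two h2F (Q x y)
    have hs0 : s ≠ 0 := fun e => h (by rw [hs, e, mul_zero])
    refine ⟨s⁻¹, inv_ne_zero hs0, ?_⟩
    have : Q (s⁻¹ * x) (s⁻¹ * y) = s⁻¹ * s⁻¹ * Q x y := by simp only [Q]; ring
    rw [this, hs]; field_simp
  have hinj : ∀ x y h x' y' h', (proj (M x y h) : PSL₂) = proj (M x' y' h') → x = x' ∧ y = y' := by
    intro x y h x' y' h' e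
    have neg1 : ∀ z : F, -z = z := fun z => by linear_combination -z * two
    rcases proj_eq_iff.mp e with e | e <;>
      [skip; rw [show -(M x y h) = M x y h from Subtype.ext (by
        rw [Matrix.SpecialLinearGroup.coe_neg]; ext i j; simp [Matrix.neg_apply, neg1])] at e] <;>
      exact ⟨(congrFun (congrFun (congrArg Subtype.val e) 0) 0).symm,
        (congrFun (congrFun (congrArg Subtype.val e) 1) 0).symm⟩
  choose l hl0 hl using hnorm
  have hQ1 : ∀ t : F, Q t 1 ≠ 0 := fun t e => one_ne_zero (hQ t 1 e).2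
  have hQinf : Q 1 0 = 1 := by simp [Q]
  let Ψ : Option F → tor a₀ := fun o => match o with
    | none => ⟨proj (M 1 0 hQinf), hmem 1 0 hQinf⟩
    | some t => ⟨proj (M _ _ (hl t 1 (hQ1 t))), hmem _ _ (hl t 1 (hQ1 t))⟩
  have hΨ : Function.Injective Ψ := by
    rintro (_ | t) (_ | t') h
    · rfl
    · obtain ⟨-, e⟩ := hinj 1 0 hQinf _ _ (hl t' 1 (hQ1 t')) (congrArg Subtype.val h)
      exact absurd e.symm (by simpa using hl0 t' 1 (hQ1 t'))
    · obtain ⟨-, e⟩ := hinj _ _ (hl t 1 (hQ1 t)) 1 0 hQinf (congrArg Subtype.val h)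
      exact absurd e (by simpa using hl0 t 1 (hQ1 t))
    · obtain ⟨e1, e2⟩ := hinj _ _ (hl t 1 (hQ1 t)) _ _ (hl t' 1 (hQ1 t')) (congrArg Subtype.val h)
      rw [mul_one, mul_one] at e2
      rw [e2] at e1
      exact congrArg some (mul_left_cancel₀ (hl0 t' 1 (hQ1 t')) e1)
  have hge : Fintype.card F + 1 ≤ Nat.card (tor a₀) := by
    have := Nat.card_le_card_of_injective Ψ hΨ
    rwa [Nat.card_eq_fintype_card (α := Option F), Fintype.card_option] at this
  have hT : Nat.card (tor a₀) = Fintype.card F + 1 := by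
    rcases card_tor_semi 2 ha1 hap with e | e <;> rw [hd, Nat.div_one] at e <;> omega
  -- the unipotent group
  set u₀ : PSL₂ := proj (up (1 : F)) with hu₀
  have hu1 : u₀ ≠ 1 := fun e => up_one_not_scalar (proj_one_iff.mp e)
  have hup : u₀ ^ 2 = 1 := pow_eq_one_of_tr (p := 2) (by
    simp [tr, up]
    linear_combination)
  set D := pslData (F := F) 2
  refine ⟨tor a₀, tor u₀, D.semi_cyclic ha1 hap, hT, ⟨⟨fun x y => Subtype.ext (D.comm hu1 x.2 y.2).eq⟩⟩,
    fun b hb => (pow_two b).symm.trans (D.uni_exp hu1 hup hb), card_tor_uni 2 hu1 hup, fun g => ?_⟩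
  obtain ⟨s, rfl⟩ := proj_surjective g
  -- a vector on which the form and its translate agree
  set g00 := (s : Matrix (Fin 2) (Fin 2) F) 0 0
  set g01 := (s : Matrix (Fin 2) (Fin 2) F) 0 1
  set g10 := (s : Matrix (Fin 2) (Fin 2) F) 1 0
  set g11 := (s : Matrix (Fin 2) (Fin 2) F) 1 1
  set α := g00 * g00 + g00 * g10 + δ * (g10 * g10) + 1
  set γ := g01 * g01 + g01 * g11 + δ * (g11 * g11) + δ
  obtain ⟨α', hα⟩ := FiniteField.isSquare_of_char_two h2F α
  obtain ⟨γ', hγ⟩ := FiniteField.isSquare_of_char_two h2F γ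
  have hdet : g00 * g11 - g01 * g10 = 1 := det_eq s
  have hdiff : ∀ x y : F, Q (g00 * x + g01 * y) (g10 * x + g11 * y) = Q x y + (α' * x + γ' * y) * (α' * x + γ' * y) := by
    intro x y
    simp only [Q]
    linear_combination (x * x) * hα + (y * y) * hγ + (x * y) * hdet +
      (x * y * (g00 * g01 + δ * (g10 * g11) + g01 * g10 - α' * γ') - x * x - δ * (y * y)) * two
  obtain ⟨x, y, hxy, hQxy⟩ : ∃ x y : F, Q x y ≠ 0 ∧ α' * x + γ' * y = 0 := by
    by_cases hz : α' = 0 ∧ γ' = 0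
    · exact ⟨1, 0, by rw [hQinf]; exact one_ne_zero, by rw [hz.1, hz.2]; ring⟩
    · refine ⟨γ', α', fun e => hz ⟨(hQ _ _ e).2, (hQ _ _ e).1⟩, by linear_combination α' * γ' * two⟩
  set L := l x y hxy
  have h1 : Q (L * x) (L * y) = 1 := hl x y hxy
  have h2' : Q (g00 * (L * x) + g01 * (L * y)) (g10 * (L * x) + g11 * (L * y)) = 1 := by
    rw [hdiff, h1, show α' * (L * x) + γ' * (L * y) = L * (α' * x + γ' * y) by ring, hQxy]
    ring
  set a1 := M _ _ h1
  set a2 := M _ _ h2'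
  obtain ⟨h, hh⟩ : ∃ h : SL₂, h = a2⁻¹ * s * a1 := ⟨_, rfl⟩
  have e00 : (h : Matrix (Fin 2) (Fin 2) F) 0 0 = 1 ∧ (h : Matrix (Fin 2) (Fin 2) F) 1 0 = 0 := by
    have e : a2 * h = s * a1 := by rw [hh, ← mul_assoc, ← mul_assoc, mul_inv_cancel, one_mul]
    have e' := congrArg Subtype.val e
    rw [Matrix.SpecialLinearGroup.coe_mul, Matrix.SpecialLinearGroup.coe_mul] at e'
    have e0 := congrFun (congrFun e' 0) 0
    have e1 := congrFun (congrFun e' 1) 0
    have d := det_eq a2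
    rw [Matrix.mul_apply, Matrix.mul_apply, Fin.sum_univ_two, Fin.sum_univ_two] at e0 e1
    simp [a1, a2, M] at e0 e1 d
    exact cramer e0 e1 d
  have hup' : h = up ((h : Matrix (Fin 2) (Fin 2) F) 0 1) := by
    have d := det_eq h
    rw [e00.1, e00.2, one_mul, mul_zero, sub_zero] at d
    refine Subtype.ext ?_
    ext i j
    fin_cases i <;> fin_cases j <;> simp [up, e00.1, e00.2, d]
  refine ⟨proj a2, hmem _ _ h2', proj h, ?_, (proj a1)⁻¹, inv_mem (hmem _ _ h1), ?_⟩
  · rw [hu₀, mem_tor_iff, hup']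
    exact commute_up _ _
  · rw [← map_inv, ← map_mul, ← map_mul, hh]
    congr 1
    group

end Cfsg.Agent.Dickson
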