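import Mathlib
import Cfsg.Agent.Lib.Classical.DicksonPGLBasic

/-!
Recognition of a maximal subgroup of `PGL(2, F)` from its part in `PSL(2, F)`, through the embedding into
`PSL(2, E)`.
-/

set_option autoImplicit false

namespace Cfsg.Agent.Dickson.PGLMax

open Matrix Cfsg.Agent.Grp.SL2 Cfsg.Agent.PSL2Spec

variable {F : Type*} [Field F] [Fintype F] (p : ℕ) [hp : Fact p.Prime] [CharP F p]

local notation "PSL₂" => Matrix.ProjectiveSpecialLinearGroup (Fin 2) F
local notation "PGL₂" => Matrix.ProjGenLinGroup (Fin 2) F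
local notation "ι" => Matrix.ProjectiveSpecialLinearGroup.toPGL (n := Fin 2) (R := F)

/-- The order of a subgroup of subfield type. -/
theorem card_of_subfieldType {H : Subgroup PSL₂} (h : SubfieldType H) :
    ∃ k : ℕ, 3 ≤ k ∧ p ∣ k ∧ (∃ j, k = p ^ j) ∧ (Nat.card H = k * ((k - 1) * (k + 1)) ∨
      2 * Nat.card H = k * ((k - 1) * (k + 1)) ∨ (p = 2 ∧ Nat.card H = k * ((k - 1) * (k + 1)))) := by
  obtain ⟨K, iF, iK, m, h3, hm, h⟩ := h.nonempty
  have hk := Fintype.one_lt_card (α := F)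
  have hm0 : m ≠ 0 := fun e => by rw [e, pow_zero] at hm; omega
  obtain ⟨n, -, hn⟩ := FiniteField.card F p
  obtain ⟨j, -, hj⟩ := (Nat.dvd_prime_pow hp.out).mp
    (show Fintype.card K ∣ p ^ (n : ℕ) by rw [← hn, ← hm]; exact dvd_pow_self _ hm0)
  refine ⟨Fintype.card K, h3, hp.out.dvd_of_dvd_pow (hm ▸ dvd_card_field (F := F) p), ⟨j, hj⟩, ?_⟩
  rcases h with ⟨i⟩ | ⟨i⟩
  · rw [Nat.card_congr i.some.toEquiv, ← card_psl]
    rcases del_cases K with ⟨e, -⟩ | ⟨e, -⟩
    · rw [e, mul_one]; exact Or.inl rfl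
    · rw [e, mul_comm]; exact Or.inr (Or.inl rfl)
  · rw [Nat.card_congr i.some.toEquiv, card_pgl]; exact Or.inl rfl

/-- Only the subgroups of exceptional and subfield type contain a copy of `A₄`. -/
theorem shapes_of_alt4 (hp2 : p ≠ 2) {H : Subgroup PSL₂} (g : alternatingGroup (Fin 4) →* PSL₂)
    (hg : Function.Injective g) (hle : g.range ≤ H) :
    (Nat.card H = 12) ∨ (Nat.card H = 24 ∧ Nonempty (H ≃* Equiv.Perm (Fin 4))) ∨ (Nat.card H = 60) ∨
      ∃ k : ℕ, 3 ≤ k ∧ p ∣ k ∧ (∃ j, k = p ^ j) ∧ (Nat.card H = k * ((k - 1) * (k + 1)) ∨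
        2 * Nat.card H = k * ((k - 1) * (k + 1))) := by
  cases dickson p H with
  | trivial h =>
    exfalso
    subst h
    have h1 : g Exc.a4 = g 1 := by rw [map_one]; exact Subgroup.mem_bot.mp (hle ⟨_, rfl⟩)
    exact absurd (hg h1) (by decide)
  | cyclic a ha ha1 hap h =>
    exact (alt4_not_le_normalizer p hp2 g hg ha1 (hle.trans (h.trans Subgroup.le_normalizer))).elim
  | dihedral a ha ha1 hap hidx h iso => exact (alt4_not_le_normalizer p hp2 g hg ha1 (hle.trans h)).elim
  | borel a ha ha1 hap h => exact (alt4_not_le_normalizer p hp2 g hg ha1 (hle.trans h)).elim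
  | alt4 hc iso h => exact Or.inl hc
  | perm4 hc iso h => exact Or.inr (Or.inl ⟨hc, iso⟩)
  | alt5 hc iso h => exact Or.inr (Or.inr (Or.inl hc))
  | subfield h =>
    obtain ⟨k, h3, hk, hj, hc⟩ := card_of_subfieldType p h
    refine Or.inr (Or.inr (Or.inr ⟨k, h3, hk, hj, ?_⟩))
    rcases hc with e | e | ⟨e, -⟩
    exacts [Or.inl e, Or.inr e, absurd e hp2]

/-- The overgroup of index two of a dihedral torus normaliser is dihedral. -/
theorem dihedral_overgroup (hp2 : p ≠ 2) {M : Subgroup PGL₂} (hMc : Nat.card M = 2 * Nat.card (M.comap ι))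
    {a : PSL₂} (ha : a ≠ 1) (hap : a ^ p ≠ 1) (hH : M.comap ι = Subgroup.normalizer (tor a : Set PSL₂))
    (h3 : 3 ≤ Nat.card (tor a)) : Nonempty (M ≃* DihedralGroup (2 * Nat.card (tor a))) := by
  haveI := finite_pgl (F := F)
  set D := pslData (F := F) p
  set m := Nat.card (tor a) with hm
  have hM4 : Nat.card M = 4 * m := by rw [hMc, hH, (normalizer_tor p ha hap).1]; ring
  haveI : IsCyclic (tor a) := D.semi_cyclic ha hap
  obtain ⟨⟨b, hb⟩, hgen⟩ := IsCyclic.exists_generator (α := tor a)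
  have hob : orderOf b = m := by
    rw [hm, ← orderOf_eq_card_of_forall_mem_zpowers hgen, ← Subgroup.orderOf_coe]
  obtain ⟨w, hw, hwn⟩ := exists_flip p ha hap
  have hwb := (D.semi_flip ha hap ((D.mem_normalizer_iff ha).mp hw) hwn).2 b hb
  have hbN : b ∈ Subgroup.normalizer (tor a : Set PSL₂) := Subgroup.le_normalizer hb
  obtain ⟨E, _, _, _, ψ, hψ⟩ := exists_emb (F := F) p
  set f := ψ.comp ι with hf
  have hfi : Function.Injective f := hψ.comp Matrix.ProjectiveSpecialLinearGroup.toPGL_injective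
  set M' := M.map ψ
  have hM' : Nat.card M' = 4 * m := by rw [Subgroup.card_map_of_injective hψ, hM4]
  have hfM : ∀ x ∈ Subgroup.normalizer (tor a : Set PSL₂), f x ∈ M' := fun x hx =>
    ⟨ι x, by rw [← hH] at hx; exact hx, rfl⟩
  have hnc : f w * f b * (f w)⁻¹ = (f b)⁻¹ := by rw [← map_inv, ← map_mul, ← map_mul, hwb, map_inv]
  have hbo : orderOf (f b) = m := by rw [orderOf_injective f hfi, hob]
  have hpm : ¬ p ∣ 4 * m := fun h => by
    rcases (Nat.Prime.dvd_mul hp.out).mp h with h | h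
    · exact hp2 ((Nat.prime_dvd_prime_iff_eq hp.out Nat.prime_two).mp
        (hp.out.dvd_of_dvd_pow (show p ∣ 2 ^ 2 from h)))
    · exact D.not_dvd_card hp.out ha hap h
  have iso₀ : Nonempty (M' ≃* DihedralGroup (2 * m)) := by
    cases dickson p M' with
    | trivial h => rw [h, Subgroup.card_bot] at hM'; omega
    | cyclic c hc hc1 hcp h =>
      exfalso
      have hcm := (pslData (F := E) p).comm hc1 (h (hfM w hw)) (h (hfM b hbN))
      rw [hcm.eq, mul_inv_cancel_right, ← mul_eq_one_iff_eq_inv, ← pow_two] at hnc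
      have := Nat.le_of_dvd two_pos (hbo ▸ orderOf_dvd_of_pow_eq_one hnc)
      omega
    | dihedral c hc hc1 hcp hidx h iso =>
      obtain ⟨i⟩ := iso
      have := Nat.card_congr i.toEquiv
      rw [DihedralGroup.nat_card, hM'] at this
      rw [show Nat.card ((tor c).subgroupOf M') = 2 * m by omega] at i
      exact ⟨i⟩
    | borel c hc hc1 hcp h =>
      exfalso
      have := Subgroup.orderOf_dvd_natCard M' hc
      rw [orderOf_eq_prime hcp hc1, hM'] at this
      exact hpm this
    | alt4 hc iso h =>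
      exfalso
      obtain ⟨i⟩ := iso
      let s : M' := ⟨f b, hfM b hbN⟩
      have hs : s ^ 3 = 1 := Subtype.ext (by
        show f b ^ 3 = 1
        rw [show 3 = m by omega, ← hbo, pow_orderOf_eq_one])
      refine no_inverter_alt_four (i s) (i ⟨f w, hfM w hw⟩) (by rw [← map_pow, hs, map_one]) (fun e => ?_) ?_
      · have e1 : f b = 1 := congrArg Subtype.val (i.map_eq_one_iff.mp e)
        rw [e1, orderOf_one] at hbo; omega
      · rw [← map_inv, ← map_inv, ← map_mul, ← map_mul]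
        exact congrArg i (Subtype.ext hnc)
    | perm4 hc iso h =>
      exfalso
      obtain ⟨i⟩ := iso
      have ho : orderOf (i ⟨f b, hfM b hbN⟩) = m := by rw [MulEquiv.orderOf_eq, Subgroup.orderOf_mk, hbo]
      rcases orders_perm_four (i ⟨f b, hfM b hbN⟩) with e | e <;>
        · have := Nat.le_of_dvd (by norm_num) (ho ▸ orderOf_dvd_of_pow_eq_one e)
          omega
    | alt5 hc iso h =>
      exfalso
      obtain ⟨i⟩ := iso
      have ho : orderOf (i ⟨f b, hfM b hbN⟩) = m := by rw [MulEquiv.orderOf_eq, Subgroup.orderOf_mk, hbo]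
      rcases orders_alt_five (i ⟨f b, hfM b hbN⟩) with e | e | e <;>
        · have := Nat.le_of_dvd (by norm_num) (ho ▸ orderOf_dvd_of_pow_eq_one e)
          omega
    | subfield h =>
      exfalso
      obtain ⟨k, -, hk, -, hc⟩ := card_of_subfieldType p h
      rw [hM'] at hc
      rcases hc with e | e | ⟨e, -⟩
      · exact hpm (e ▸ hk.mul_right _)
      · exact ((Nat.Prime.dvd_mul hp.out).mp (e ▸ hk.mul_right _)).elim
          (fun h2 => hp2 ((Nat.prime_dvd_prime_iff_eq hp.out Nat.prime_two).mp h2)) hpm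
      · exact hp2 e
  exact ⟨(Subgroup.equivMapOfInjective M ψ hψ).trans iso₀.some⟩

end Cfsg.Agent.Dickson.PGLMax
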