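import Mathlib
import Cfsg.Agent.Lib.Classical.DicksonPGLCases

/-!
The maximal subgroups of `PGL(2, F)`, `|F|` odd, not containing `PSL(2, F)`.
-/

set_option autoImplicit false

namespace Cfsg.Agent.Dickson.PGLMax

open Matrix Cfsg.Agent.Grp.SL2 Cfsg.Agent.PSL2Spec

variable {F : Type*} [Field F] [Fintype F] (p : ℕ) [hp : Fact p.Prime] [CharP F p]

local notation "PSL₂" => Matrix.ProjectiveSpecialLinearGroup (Fin 2) F
local notation "PGL₂" => Matrix.ProjGenLinGroup (Fin 2) F
local notation "ι" => Matrix.ProjectiveSpecialLinearGroup.toPGL (n := Fin 2) (R := F)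

/-- A conjugate of `PGL(2, K)`. -/
abbrev sfPGL (K : Subfield F) (z : PGL₂) : Subgroup PGL₂ :=
  (pglMap K.subtype).range.map (MulAut.conj z).toMonoidHom

/-- The possible maximal subgroups. -/
inductive Kind (M : Subgroup (Matrix.ProjGenLinGroup (Fin 2) F)) : Prop
  | borel (a : Matrix.ProjectiveSpecialLinearGroup (Fin 2) F) (ha : a ≠ 1) (hap : a ^ p = 1)
      (hH : M.comap Matrix.ProjectiveSpecialLinearGroup.toPGL =
        Subgroup.normalizer (tor a : Set (Matrix.ProjectiveSpecialLinearGroup (Fin 2) F)))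
      (hc : Nat.card M = Fintype.card F * (Fintype.card F - 1))
  | torus (a : Matrix.ProjectiveSpecialLinearGroup (Fin 2) F) (ha : a ≠ 1) (hap : a ^ p ≠ 1)
      (h3 : 3 ≤ Nat.card (tor a))
      (hH : M.comap Matrix.ProjectiveSpecialLinearGroup.toPGL =
        Subgroup.normalizer (tor a : Set (Matrix.ProjectiveSpecialLinearGroup (Fin 2) F)))
      (iso : Nonempty (M ≃* DihedralGroup (2 * Nat.card (tor a))))
  | alt4 (hq : Fintype.card F = p) (h8 : p % 8 = 3 ∨ p % 8 = 5)
      (hH : Nonempty (M.comap Matrix.ProjectiveSpecialLinearGroup.toPGL ≃* alternatingGroup (Fin 4)))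
      (iso : Nonempty (M ≃* Equiv.Perm (Fin 4)))
  | subfield (K : Subfield F) (r : ℕ) (z : Matrix.ProjGenLinGroup (Fin 2) F) (hr : r.Prime) (ho : Odd r)
      (hc : Nat.card K ^ r = Fintype.card F) (h3 : 3 ≤ Nat.card K) (hM : M = sfPGL K z)

theorem card_sfPGL (K : Subfield F) (z : PGL₂) :
    Nat.card (sfPGL K z) = Nat.card K * ((Nat.card K - 1) * (Nat.card K + 1)) := by
  haveI : Fintype K := Fintype.ofFinite K
  rw [Subgroup.card_map_of_injective (MulEquiv.injective _), Nat.card_congr (nonempty_pglImg K.subtype).some.toEquiv,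
    card_pgl, Nat.card_eq_fintype_card]

theorem sfPGL_ne_top {K : Subfield F} (hlt : Nat.card K < Fintype.card F) (z : PGL₂) : sfPGL K z ≠ ⊤ := by
  intro h
  have h1 := card_sfPGL K z
  rw [h, Subgroup.card_top, card_pgl] at h1
  have hk : 1 < Nat.card K := Finite.one_lt_card
  have : Nat.card K * ((Nat.card K - 1) * (Nat.card K + 1)) <
      Fintype.card F * ((Fintype.card F - 1) * (Fintype.card F + 1)) :=
    Nat.mul_lt_mul_of_lt_of_lt hlt (Nat.mul_lt_mul_of_lt_of_lt (by omega) (by omega))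
  omega

theorem isSquare_of_even_degree (K : Subfield F) {m : ℕ} (hm : Even m)
    (h : Nat.card K ^ m = Fintype.card F) (hodd : Odd (Fintype.card F)) (k : K) : IsSquare (k : F) := by
  haveI : Fintype K := Fintype.ofFinite K
  rcases eq_or_ne (k : F) 0 with h0 | h0
  · rw [h0]; exact IsSquare.zero
  have h2 : ringChar F ≠ 2 := fun e => by
    have := FiniteField.even_card_iff_char_two.mp e
    rw [Nat.odd_iff] at hodd; omega
  rw [FiniteField.isSquare_iff h2 h0]
  obtain ⟨j, hj⟩ := hm
  rw [Nat.card_eq_fintype_card] at h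
  have hk : (k : K) ^ (Fintype.card K - 1) = 1 :=
    FiniteField.pow_card_sub_one_eq_one k (fun e => h0 (by rw [e]; rfl))
  have hK : Odd (Fintype.card K) := by
    have hm0 : m ≠ 0 := fun e => by rw [e, pow_zero] at h; exact (Fintype.one_lt_card (α := F)).ne h
    exact (Nat.odd_pow_iff hm0).mp (h ▸ hodd)
  obtain ⟨c, hc⟩ := hK
  obtain ⟨u, hu⟩ : Fintype.card K ^ 2 - 1 ∣ Fintype.card F - 1 := by
    rw [← h, hj, ← two_mul, pow_mul]
    simpa using Nat.sub_dvd_pow_sub_pow (Fintype.card K ^ 2) 1 j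
  have hd : Fintype.card F / 2 = (Fintype.card K - 1) * ((c + 1) * u) := by
    have hsq : Fintype.card K ^ 2 - 1 = 2 * (2 * c * (c + 1)) := by
      rw [hc, show (2 * c + 1) ^ 2 = 2 * (2 * c * (c + 1)) + 1 by ring, Nat.add_sub_cancel]
    rw [hsq] at hu
    obtain ⟨d, hd'⟩ := hodd
    rw [hd', Nat.add_sub_cancel, show 2 * (2 * c * (c + 1)) * u = 2 * (2 * c * ((c + 1) * u)) by ring] at hu
    rw [hd', hc, Nat.add_sub_cancel]
    omega
  have := congrArg (fun y : K => (y : F)) hk
  simp only [SubmonoidClass.coe_pow, OneMemClass.coe_one] at this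
  rw [hd, pow_mul, this, one_pow]


/-- A maximal subgroup whose part in `PSL(2, F)` is `PSL(2, K)`. -/
theorem of_psl_subfield {M : Subgroup PGL₂} (hodd : Odd (Fintype.card F))
    (h5 : 5 ≤ Fintype.card F) (hM : IsCoatom M) (hcard : Nat.card M = 2 * Nat.card (M.comap ι))
    (hL : ¬ (ι).range ≤ M) (hML : ¬ M ≤ (ι).range) (K : Subfield F) (z : PGL₂) (h3 : 3 ≤ Nat.card K)
    (hH : (M.comap ι).map ι = (pslImg K.subtype).map (MulAut.conj z).toMonoidHom) : Kind (F := F) p M := by
  classical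
  haveI := finite_pgl (F := F)
  haveI : Fintype K := Fintype.ofFinite K
  haveI : IsSimpleGroup PSL₂ := Classical.PSL_isSimple le_rfl fun _ => by omega
  set H := M.comap ι with hHdef
  have hHt : H ≠ ⊤ := fun e => hL (fun x ⟨y, hy⟩ => hy ▸ (e ▸ Subgroup.mem_top y : y ∈ H))
  have hKo : Odd (Fintype.card K) := by
    rw [Module.card_eq_pow_finrank (K := K) (V := F)] at hodd
    exact (Nat.odd_pow_iff (Module.finrank_pos (R := K) (M := F)).ne').mp hodd
  have hH2 : 2 * Nat.card H = Fintype.card K * ((Fintype.card K - 1) * (Fintype.card K + 1)) := by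
    rw [← Subgroup.card_map_of_injective (Matrix.ProjectiveSpecialLinearGroup.toPGL_injective (n := Fin 2) (R := F))
      (K := H), hH, Subgroup.card_map_of_injective (MulEquiv.injective _),
      Nat.card_congr (nonempty_pslImg K.subtype).some.toEquiv, mul_comm, card_psl_two hKo]
  have hNH : Subgroup.normalizer (H : Set PSL₂) ≠ ⊤ := fun e => by
    rcases (Subgroup.normalizer_eq_top_iff.mp e).eq_bot_or_eq_top with h | h
    · rw [h, Subgroup.card_bot, ← Nat.card_eq_fintype_card] at hH2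
      have : 3 * (2 * 4) ≤ Nat.card K * ((Nat.card K - 1) * (Nat.card K + 1)) :=
        Nat.mul_le_mul h3 (Nat.mul_le_mul (by omega) (by omega))
      omega
    · exact hHt h
  obtain ⟨hN, -⟩ := stab hM H hNH fun g hg b hb b' hb' => by
    show ι b' ∈ M
    rw [hb']
    exact M.mul_mem (M.mul_mem hg hb) (M.inv_mem hg)
  have hle : sfPGL K z ≤ M := by
    rintro _ ⟨u, hu, rfl⟩
    obtain ⟨u₀, rfl⟩ := hu
    rw [hN]
    refine mem_normalizer_of_forall fun x hx => ?_
    rw [hH] at hx ⊢
    obtain ⟨_, ⟨s, rfl⟩, rfl⟩ := hx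
    refine ⟨pglMap K.subtype (u₀ * Matrix.ProjectiveSpecialLinearGroup.toPGL s * u₀⁻¹), ?_, by simp [mul_assoc]⟩
    obtain ⟨s', hs'⟩ := exists_conj u₀ s
    exact ⟨s', by rw [MonoidHom.comp_apply, hs']⟩
  have hPM : sfPGL K z = M := Subgroup.eq_of_le_of_card_ge hle (by
    rw [hcard, hH2, card_sfPGL, ← Nat.card_eq_fintype_card])
  have hlt : Nat.card K < Fintype.card F := by
    refine lt_of_le_of_ne (by rw [← Nat.card_eq_fintype_card]; exact Nat.card_le_card_of_injective _ Subtype.val_injective) fun e => hM.1 ?_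
    exact Subgroup.eq_top_of_card_eq M (by rw [← hPM, card_sfPGL, e, card_pgl])
  set m := Module.finrank K F with hm
  have hcm : Nat.card K ^ m = Fintype.card F := by
    rw [Nat.card_eq_fintype_card, hm, ← Module.card_eq_pow_finrank]
  have hmo : Odd m := by
    by_contra he
    rw [Nat.not_odd_iff_even] at he
    refine hML ?_
    rw [← hPM]
    rintro _ ⟨u, hu, rfl⟩
    exact normal_range_toPGL.conj_mem _
      ((pglImg_le_range_iff K.subtype).mpr (isSquare_of_even_degree K he hcm hodd) hu) z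
  have hKt : K ≠ ⊤ := fun e => by
    rw [e, Nat.card_congr Subfield.topEquiv.toEquiv, Nat.card_eq_fintype_card] at hlt
    exact lt_irrefl _ hlt
  obtain ⟨L, r, hKL, hr, hcr, hLt⟩ := exists_prime_index hKt
  have hLlt : Nat.card L < Fintype.card F := by
    rw [← hcr]; exact lt_self_pow₀ Finite.one_lt_card hr.one_lt
  have hmono : M ≤ sfPGL L z := by
    rw [← hPM]
    refine Subgroup.map_mono ?_
    rintro _ ⟨u, rfl⟩
    induction u using Matrix.ProjGenLinGroup.induction_on with | mk g => ?_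
    exact ⟨Matrix.ProjGenLinGroup.mk (Matrix.GeneralLinearGroup.map (Subfield.inclusion hKL) g), rfl⟩
  have heq : M = sfPGL L z := by_contra fun e => sfPGL_ne_top hLlt z (hM.2 _ (lt_of_le_of_ne hmono e))
  have hc2 : Nat.card K = Nat.card L := by
    have h1 : Nat.card (sfPGL L z) = Nat.card (sfPGL K z) := by rw [← heq, hPM]
    rw [card_sfPGL, card_sfPGL] at h1
    have hle' : Nat.card K ≤ Nat.card L := Nat.card_le_card_of_injective _ (Subfield.inclusion hKL).injective
    by_contra hne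
    have hk : 1 < Nat.card K := Finite.one_lt_card
    have : Nat.card K * ((Nat.card K - 1) * (Nat.card K + 1)) <
        Nat.card L * ((Nat.card L - 1) * (Nat.card L + 1)) :=
      Nat.mul_lt_mul_of_lt_of_lt (by omega) (Nat.mul_lt_mul_of_lt_of_lt (by omega) (by omega))
    omega
  have hrm : r = m := Nat.pow_right_injective (Finite.one_lt_card : 1 < Nat.card K)
    (show Nat.card K ^ r = Nat.card K ^ m by rw [hcm]; exact (hc2 ▸ hcr :))
  exact .subfield K r z hr (hrm ▸ hmo) (hrm ▸ hcm) h3 hPM.symm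

/-- A four-group of `PSL(2, F)` is normalised by the class of `X + 1`. -/
theorem exists_outer_normalizer (hodd : Odd (Fintype.card F)) {x y : Matrix.SpecialLinearGroup (Fin 2) F}
    (h : Quat x y) (g : GL (Fin 2) F) (hg : (g : Matrix (Fin 2) (Fin 2) F) = (x : Matrix (Fin 2) (Fin 2) F) + 1) :
    Matrix.ProjGenLinGroup.mk g ∈ Subgroup.normalizer ((h.klein.map ι : Subgroup PGL₂) : Set PGL₂) ∧
      ((g : Matrix (Fin 2) (Fin 2) F).det = 2) := by
  haveI := finite_pgl (F := F)
  set X := (x : Matrix (Fin 2) (Fin 2) F) with hX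
  set Y := (y : Matrix (Fin 2) (Fin 2) F) with hY
  have hXX : X * X = -1 := by
    have := congrArg Subtype.val h.xx
    simpa using this
  have hYX : Y * X = -(X * Y) := by
    have := congrArg Subtype.val h.yx
    simpa using this
  have hc : ∀ u v : Matrix.SpecialLinearGroup (Fin 2) F, (g : Matrix (Fin 2) (Fin 2) F) * u = (v : Matrix (Fin 2) (Fin 2) F) * g →
      Matrix.ProjGenLinGroup.mk g * ι (proj u) * (Matrix.ProjGenLinGroup.mk g)⁻¹ = ι (proj v) := by
    intro u v e
    rw [toPGL_proj, toPGL_proj, mul_inv_eq_iff_eq_mul]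
    have e' : g * Matrix.SpecialLinearGroup.toGL u = Matrix.SpecialLinearGroup.toGL v * g := Units.ext e
    simp only [toP, MonoidHom.comp_apply, ← map_mul, e']
  have e1 : (g : Matrix (Fin 2) (Fin 2) F) * X = X * g := by rw [hg, add_mul, mul_add, one_mul, mul_one]
  have e2 : (g : Matrix (Fin 2) (Fin 2) F) * Y = ((x * y : Matrix.SpecialLinearGroup (Fin 2) F) : Matrix (Fin 2) (Fin 2) F) * g := by
    rw [Matrix.SpecialLinearGroup.coe_mul, ← hX, ← hY, hg, add_mul, mul_add, one_mul, mul_one, mul_assoc X Y X, hYX,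
      mul_neg, ← mul_assoc, hXX, neg_one_mul, neg_neg, add_comm]
  refine ⟨mem_normalizer_of_forall fun u hu => ?_, ?_⟩
  · obtain ⟨v, hv, rfl⟩ := hu
    have s1 := hc x x e1
    have s2 := hc y (x * y) e2
    rw [map_mul proj] at s2
    rcases hv with rfl | rfl | rfl | rfl
    · exact ⟨1, h.klein.one_mem, by simp⟩
    · exact ⟨_, Or.inr (Or.inl rfl), s1.symm⟩
    · exact ⟨_, Or.inr (Or.inr (Or.inr rfl)), s2.symm⟩
    · refine ⟨proj y, Or.inr (Or.inr (Or.inl rfl)), ?_⟩
      rw [map_mul ι, ← conj_mul, s1, s2, map_mul ι, ← mul_assoc, ← map_mul ι (proj x) (proj x),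
        Quat.sq_proj h.xx, map_one, one_mul]
  · have h2 := two_ne_zero_of_odd_card hodd
    have hns : ¬ IsScalar x := fun hs => Quat.proj_ne_one h2 h.xx (proj_one_iff.mpr hs)
    have ht := (mul_self_eq_neg_one hns).mp h.xx
    have := det_linear x 1 1
    rw [one_smul, one_smul, ht] at this
    rw [hg, this]; norm_num

end Cfsg.Agent.Dickson.PGLMax
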