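import Mathlib
import Cfsg.Agent.Lib.Classical.DicksonPGLMaximal
import Cfsg.Agent.Lib.Classical.DicksonKleinCount

/-!
The classification of the maximal subgroups of `PGL(2, F)`, `|F|` odd, not containing `PSL(2, F)`.
-/

set_option autoImplicit false

namespace Cfsg.Agent.Dickson.PGLMax

open Matrix Cfsg.Agent.Grp.SL2 Cfsg.Agent.PSL2Spec

variable {F : Type*} [Field F] [Fintype F] (p : ℕ) [hp : Fact p.Prime] [CharP F p]

local notation "PSL₂" => Matrix.ProjectiveSpecialLinearGroup (Fin 2) F
local notation "PGL₂" => Matrix.ProjGenLinGroup (Fin 2) F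
local notation "ι" => Matrix.ProjectiveSpecialLinearGroup.toPGL (n := Fin 2) (R := F)

/-- No four-group is the part in `PSL(2, F)` of a maximal subgroup. -/
theorem no_klein (hodd : Odd (Fintype.card F)) (h5 : 5 ≤ Fintype.card F) {M : Subgroup PGL₂} (hM : IsCoatom M)
    (hV : IsKleinFour (M.comap ι)) : False := by
  haveI := finite_pgl (F := F)
  obtain ⟨x, y, h, hk⟩ := exists_quat_of_isKleinFour hodd hV
  obtain ⟨-, hH⟩ := stab hM h.klein (klein_le_proper hodd h5 h) fun g hg b hb b' hb' => by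
    rw [hk] at hb ⊢
    show ι b' ∈ M
    rw [hb']
    exact M.mul_mem (M.mul_mem hg hb) (M.inv_mem hg)
  rw [← hk] at hH
  have h4 : Nat.card h.klein = 4 := h.card_klein (two_ne_zero_of_odd_card hodd)
  rcases card_normalizer_dvd hodd h with e | e <;> rw [← hH, h4] at e <;> omega

theorem torus_stab (h3 : 3 ≤ Fintype.card F) {M : Subgroup PGL₂} (hM : IsCoatom M) {a b : PSL₂} (ha : a ≠ 1)
    (hap : a ^ p ≠ 1) (hb : b ∈ tor a) (hb1 : b ≠ 1)
    (hinv : ∀ g ∈ M, ∀ b', ι b' = g * ι b * g⁻¹ → b' ∈ tor a) :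
    M.comap ι = Subgroup.normalizer (tor a : Set PSL₂) := by
  refine (stab hM (tor a) (normalizer_semi_ne_top p h3 ha hap) fun g hg x hx x' hx' => ?_).2
  obtain ⟨b', hb'⟩ := exists_conj g b
  have e1 : tor b = tor a := (pslData (F := F) p).same ha hb hb1
  have hb'1 : b' ≠ 1 := fun e => hb1 ((conj_eq_one_iff' hb').mp e)
  have e2 : tor b' = tor a := (pslData (F := F) p).same ha (hinv g hg b' hb') hb'1
  rw [← e2]
  exact conj_tor hb' hx' (e1 ▸ hx)

theorem prime_coatom_card_ne_two (hodd : Odd (Fintype.card F)) (h5 : 5 ≤ Fintype.card F) {M : Subgroup PGL₂}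
    (hM : IsCoatom M) : Nat.card M ≠ 2 := by
  haveI := finite_pgl (F := F)
  haveI : Fact (Nat.Prime 2) := ⟨Nat.prime_two⟩
  intro h
  obtain ⟨m, hm⟩ := hodd
  have hG : Nat.card PGL₂ = Fintype.card F * ((Fintype.card F - 1) * (Fintype.card F + 1)) := card_pgl F
  have h4 : 2 ^ 2 ∣ Nat.card PGL₂ := by
    rw [hG, hm, Nat.add_sub_cancel, show 2 * m * (2 * m + 1 + 1) = 2 ^ 2 * (m * (m + 1)) by ring]
    exact (dvd_mul_right _ _).mul_left _
  obtain ⟨K, hK, hle⟩ := Sylow.exists_subgroup_card_pow_succ (p := 2) (n := 1) h4 (H := M) (by rw [h, pow_one])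
  have hlt : M < K := lt_of_le_of_ne hle fun e => by rw [← e, h] at hK; norm_num at hK
  have := hM.2 K hlt
  rw [this, Subgroup.card_top, hG] at hK
  have : 5 * (4 * 6) ≤ Fintype.card F * ((Fintype.card F - 1) * (Fintype.card F + 1)) :=
    Nat.mul_le_mul h5 (Nat.mul_le_mul (by omega) (by omega))
  omega

theorem card_alt_four : Nat.card (alternatingGroup (Fin 4)) = 12 := by
  rw [nat_card_alternatingGroup, Nat.card_fin]; rfl

/-- The case of an alternating group of degree four. -/
theorem of_alt4 (hodd : Odd (Fintype.card F)) (h5 : 5 ≤ Fintype.card F) {M : Subgroup PGL₂} (hM : IsCoatom M)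
    (hcard : Nat.card M = 2 * Nat.card (M.comap ι)) (hL : ¬ (ι).range ≤ M) (hML : ¬ M ≤ (ι).range)
    (iso : Nonempty (M.comap ι ≃* alternatingGroup (Fin 4))) : Kind (F := F) p M := by
  classical
  haveI := finite_pgl (F := F)
  haveI := normal_range_toPGL (F := F)
  obtain ⟨e⟩ := iso
  have hp2 : p ≠ 2 := char_ne_two_of_odd_card hodd p
  set H := M.comap ι with hHdef
  have hH12 : Nat.card H = 12 := by rw [Nat.card_congr e.toEquiv, card_alt_four]
  set f : alternatingGroup (Fin 4) →* PSL₂ := H.subtype.comp e.symm.toMonoidHom with hf'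
  have hf : Function.Injective f := H.subtype_injective.comp e.symm.injective
  have hfH : f.range = H := by
    rw [hf', MonoidHom.range_comp, MonoidHom.range_eq_top.mpr e.symm.surjective, ← MonoidHom.range_eq_map,
      Subgroup.range_subtype]
  -- the four-group
  set v : alternatingGroup (Fin 4) := Exc.b4 * Exc.a4 * Exc.b4⁻¹
  have hva : f Exc.a4 * f Exc.a4 = 1 := by rw [← map_mul, show Exc.a4 * Exc.a4 = 1 by decide, map_one]
  have hvb : f v * f v = 1 := by rw [← map_mul, show v * v = 1 by decide, map_one]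
  have hvab : f Exc.a4 * f v = f v * f Exc.a4 := by
    rw [← map_mul, ← map_mul]; exact congrArg f (by decide)
  have hV := isKleinFour_fourGroup hva hvb hvab
    (fun h => absurd (hf (h.trans (map_one f).symm)) (by decide))
    (fun h => absurd (hf (h.trans (map_one f).symm)) (by decide)) (fun h => absurd (hf h) (by decide))
  obtain ⟨x, y, hxy, hk⟩ := exists_quat_of_isKleinFour hodd hV
  have hinvol : ∀ s : alternatingGroup (Fin 4), s * s = 1 → s = 1 ∨ s = Exc.a4 ∨ s = v ∨ s = Exc.a4 * v := by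
    decide
  have hKH : hxy.klein ≤ H := by
    rw [hk, ← hfH]
    rintro z (rfl | rfl | rfl | rfl)
    exacts [one_mem _, ⟨_, rfl⟩, ⟨_, rfl⟩, ⟨_, map_mul f _ _⟩]
  obtain ⟨hN, hH⟩ := stab hM hxy.klein (klein_le_proper hodd h5 hxy) fun g hg b hb b' hb' => by
    have hb'H : b' ∈ H := by
      show ι b' ∈ M
      rw [hb']
      exact M.mul_mem (M.mul_mem hg (hKH hb)) (M.inv_mem hg)
    have h2 : b * b = 1 := by
      rw [hk] at hb
      rcases hb with rfl | rfl | rfl | rfl
      · rw [one_mul]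
      · exact hva
      · exact hvb
      · rw [← map_mul, ← map_mul, ← map_one f]; exact congrArg f (by decide)
    have h2' : b' * b' = 1 := by
      refine Matrix.ProjectiveSpecialLinearGroup.toPGL_injective ?_
      rw [map_mul, hb', conj_mul, ← map_mul, h2, map_one, mul_one, mul_inv_cancel]
    obtain ⟨s, rfl⟩ := hfH.ge hb'H
    rw [hk]
    rcases hinvol s (hf (by rw [map_mul, h2', map_one])) with rfl | rfl | rfl | rfl
    · exact Or.inl (map_one f)
    · exact Or.inr (Or.inl rfl)
    · exact Or.inr (Or.inr (Or.inl rfl))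
    · exact Or.inr (Or.inr (Or.inr (map_mul f _ _)))
  rw [← hHdef] at hH
  have h8 : ¬ (Fintype.card F % 8 = 1 ∨ Fintype.card F % 8 = 7) := fun h => by
    have := (card_normalizer_klein p hodd hxy).1 h
    rw [← hH, hH12] at this
    omega
  obtain ⟨n, hn, hn0⟩ : ∃ n : ℕ, Fintype.card F = p ^ n ∧ 0 < n := by
    obtain ⟨k, -, hk⟩ := FiniteField.card F p
    exact ⟨k, hk, k.pos⟩
  rcases (show n = 1 ∨ 1 < n by omega) with h1 | h1
  · -- the prime field: `S₄`
    have hq : Fintype.card F = p := by rw [hn, h1, pow_one]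
    refine .alt4 hq (by obtain ⟨m, hm⟩ := hodd; omega) ⟨e⟩ ?_
    obtain ⟨E, _, _, _, ψ, hψ⟩ := exists_emb (F := F) p
    have hg : Function.Injective (ψ.comp ((ι).comp f)) :=
      hψ.comp (Matrix.ProjectiveSpecialLinearGroup.toPGL_injective.comp hf)
    have hM24 : Nat.card (M.map ψ) = 24 := by rw [Subgroup.card_map_of_injective hψ, hcard, hH12]
    rcases shapes_of_alt4 p hp2 (H := M.map ψ) _ hg (by
        rintro _ ⟨s, rfl⟩
        exact ⟨ι (f s), (hfH.le ⟨s, rfl⟩ : f s ∈ H), rfl⟩) with h | ⟨-, ⟨i⟩⟩ | h | ⟨k, hk3, hpk, -, hc⟩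
    · omega
    · exact ⟨(Subgroup.equivMapOfInjective M ψ hψ).trans i⟩
    · omega
    · exfalso
      rw [hM24] at hc
      have hp5 : 5 ≤ p := by omega
      have hd : p ∣ 48 := by
        rcases hc with h | h
        · exact (hpk.mul_right ((k - 1) * (k + 1))).trans ⟨2, by omega⟩
        · exact (hpk.mul_right ((k - 1) * (k + 1))).trans (dvd_of_eq h.symm)
      have : p ∣ 2 ∨ p ∣ 3 := by
        rcases (Nat.Prime.dvd_mul hp.out).mp (show p ∣ 2 ^ 4 * 3 from hd) with h | h
        · exact Or.inl (hp.out.dvd_of_dvd_pow h)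
        · exact Or.inr h
      rcases this with h | h <;> have := Nat.le_of_dvd (by norm_num) h <;> omega
  -- a proper extension of the prime field
  have hno : Odd n := by
    by_contra he
    obtain ⟨j, hj⟩ := Nat.not_odd_iff_even.mp he
    refine h8 (Or.inl ?_)
    rw [hn, hj, pow_add, Nat.mul_mod]
    obtain ⟨m, hm⟩ : Odd (p ^ j) := (hp.out.odd_of_ne_two hp2).pow
    have hi : p ^ j % 8 = 1 ∨ p ^ j % 8 = 3 ∨ p ^ j % 8 = 5 ∨ p ^ j % 8 = 7 := by omega
    rcases hi with h | h | h | h <;> rw [h]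
  obtain ⟨hgen, ha, hb, hab⟩ := Exc.alt4_data
  obtain ⟨A, B, hl⟩ := exists_liftPair hodd (α := f Exc.a4) (β := f Exc.b4) (n := 3)
    ((orderOf_injective f hf _).trans ha) ((orderOf_injective f hf _).trans hb)
    (by rw [← map_mul, orderOf_injective f hf, hab]) (Or.inl rfl)
  obtain ⟨K, hKc, -⟩ := exists_subfield_card (F := F) p hn (one_mul n) one_ne_zero
  rw [pow_one] at hKc
  obtain ⟨z, hz⟩ := range_le_sfOver hgen f hl hodd K (Or.inl (by rw [hl.tab.1 rfl]; exact K.one_mem))
  rw [hfH] at hz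
  haveI : Fintype K := Fintype.ofFinite K
  have hKodd : Odd (Fintype.card K) := by
    rw [← Nat.card_eq_fintype_card, hKc]; exact hp.out.odd_of_ne_two hp2
  have hdesc : ∀ u : PGL₂, u ∈ (pglMap K.subtype).range → u ∈ (ι).range → u ∈ pslImg K.subtype := by
    rintro _ ⟨w, rfl⟩ hu
    induction w using Matrix.ProjGenLinGroup.induction_on with | mk g => ?_
    rw [pglMap_mk] at hu
    replace hu := (mem_range_toPGL_iff _).mp hu
    have hu' : IsSquare (g : Matrix (Fin 2) (Fin 2) K).det :=
      isSquare_descend hno (by rw [hKc, hn]) _ (by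
        rwa [show ((Matrix.GeneralLinearGroup.map K.subtype g : GL (Fin 2) F) : Matrix (Fin 2) (Fin 2) F).det =
          (((g : Matrix (Fin 2) (Fin 2) K).det : K) : F) from (RingHom.map_det K.subtype _).symm] at hu)
    obtain ⟨s, hs⟩ := (mem_range_toPGL_iff g).mpr hu'
    exact ⟨s, congrArg (pglMap K.subtype) hs⟩
  have hdown : ∀ u ∈ H, ι u ∈ (pslImg K.subtype).map (MulAut.conj z).toMonoidHom := by
    intro u hu
    obtain ⟨w, hw, hwu⟩ := (hz hu : ι u ∈ sfPGL K z)
    refine ⟨w, hdesc w hw ?_, hwu⟩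
    have h' := normal_range_toPGL.conj_mem (ι u) ⟨u, rfl⟩ z⁻¹
    rw [← hwu] at h'
    simpa [mul_assoc] using h'
  by_cases hp3 : p = 3
  · refine of_psl_subfield p hodd h5 hM hcard hL hML K z (by omega) ?_
    refine Subgroup.eq_of_le_of_card_ge (by rintro _ ⟨u, hu, rfl⟩; exact hdown u hu) (le_of_eq ?_)
    rw [Subgroup.card_map_of_injective Matrix.ProjectiveSpecialLinearGroup.toPGL_injective, hH12,
      Subgroup.card_map_of_injective (MulEquiv.injective _), Nat.card_congr (nonempty_pslImg K.subtype).some.toEquiv]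
    have h := card_psl_two hKodd
    rw [← Nat.card_eq_fintype_card (α := K), hKc, hp3] at h
    omega
  -- otherwise `M` would lie in a conjugate of `PGL(2, p)`
  exfalso
  set P := sfPGL K z with hP
  obtain ⟨w, hw, hwx⟩ := hdown (proj x) (hKH (Or.inr (Or.inl rfl)))
  obtain ⟨s, rfl⟩ := hw
  obtain ⟨x₀, rfl⟩ := proj_surjective s
  induction z using Matrix.ProjGenLinGroup.induction_on with | mk Q => ?_
  have hQ : IsUnit (Q : Matrix (Fin 2) (Fin 2) F).det := isUnit_iff_ne_zero.mpr Q.det_ne_zero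
  obtain ⟨x₁, hx₁, hxc⟩ : ∃ x₁ : Matrix.SpecialLinearGroup (Fin 2) K,
      (x₁ = x₀ ∨ x₁ = -x₀) ∧
        Grp.SL2.conjHom (Q : Matrix (Fin 2) (Fin 2) F) hQ (Matrix.SpecialLinearGroup.map K.subtype x₁) = x := by
    have hmap : ι (proj (Grp.SL2.conjHom (Q : Matrix (Fin 2) (Fin 2) F) hQ
        (Matrix.SpecialLinearGroup.map K.subtype x₀))) = ι (proj x) := by
      rw [toPGL_proj, toP_conjHom, ← hwx]
      simp only [MonoidHom.comp_apply, MulEquiv.toMonoidHom_eq_coe, MonoidHom.coe_coe, MulAut.conj_apply, toPGL_proj]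
      congr 1
      congr 1
      show Matrix.ProjGenLinGroup.mk _ = pglMap K.subtype (Matrix.ProjGenLinGroup.mk _)
      rw [pglMap_mk]
      exact congrArg _ (Units.ext rfl)
    rcases proj_eq_iff.mp (Matrix.ProjectiveSpecialLinearGroup.toPGL_injective hmap) with h | h
    · exact ⟨x₀, Or.inl rfl, h.symm⟩
    · refine ⟨-x₀, Or.inr rfl, ?_⟩
      rw [h, ← conjHom_neg]
      exact congrArg _ (Subtype.ext (by ext i j; simp))
  have h2 : ¬ IsSquare (2 : F) := mt (isSquare_two_iff_mod hodd).mp h8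
  have hdet : ((x : Matrix (Fin 2) (Fin 2) F) + 1).det = 2 := by
    have hns : ¬ IsScalar x := fun hs => Quat.proj_ne_one (two_ne_zero_of_odd_card hodd) hxy.xx (proj_one_iff.mpr hs)
    have ht := (mul_self_eq_neg_one hns).mp hxy.xx
    have := det_linear x 1 1
    rw [one_smul, one_smul, ht] at this
    rw [this]; norm_num
  let g : GL (Fin 2) F := Matrix.GeneralLinearGroup.mkOfDetNeZero ((x : Matrix (Fin 2) (Fin 2) F) + 1)
    (by rw [hdet]; exact two_ne_zero_of_odd_card hodd)
  obtain ⟨hgN, hgd⟩ := exists_outer_normalizer hodd hxy g rfl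
  rw [← hN] at hgN
  have hgR : Matrix.ProjGenLinGroup.mk g ∉ (ι).range := fun h => h2 (hgd ▸ (mem_range_toPGL_iff g).mp h)
  have hgP : Matrix.ProjGenLinGroup.mk g ∈ P := by
    let g₀m : Matrix (Fin 2) (Fin 2) K := (x₁ : Matrix (Fin 2) (Fin 2) K) + 1
    have hmap : g₀m.map K.subtype = ((Matrix.SpecialLinearGroup.map K.subtype x₁ :
        Matrix.SpecialLinearGroup (Fin 2) F) : Matrix (Fin 2) (Fin 2) F) + 1 := by
      rw [← RingHom.mapMatrix_apply, map_add, map_one]; rfl
    have hgm : (g : Matrix (Fin 2) (Fin 2) F) * Q = Q * g₀m.map K.subtype := by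
      show ((x : Matrix (Fin 2) (Fin 2) F) + 1) * _ = _
      have := (conjHom_eq_iff (Q : Matrix (Fin 2) (Fin 2) F) hQ _ _).mp hxc
      rw [hmap, add_mul, mul_add, one_mul, mul_one, this]
    have hd0 : g₀m.det ≠ 0 := fun h => by
      have h' := congrArg Matrix.det hgm
      rw [Matrix.det_mul, Matrix.det_mul, ← RingHom.mapMatrix_apply, ← RingHom.map_det, h, map_zero, mul_zero] at h'
      exact (mul_ne_zero g.det_ne_zero Q.det_ne_zero) h'
    refine ⟨_, ⟨Matrix.ProjGenLinGroup.mk (Matrix.GeneralLinearGroup.mkOfDetNeZero g₀m hd0), rfl⟩, ?_⟩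
    have h' : g * Q = Q * Matrix.GeneralLinearGroup.map K.subtype (Matrix.GeneralLinearGroup.mkOfDetNeZero g₀m hd0) :=
      Units.ext hgm
    simp only [MulEquiv.toMonoidHom_eq_coe, MonoidHom.coe_coe, MulAut.conj_apply, pglMap_mk, ← map_inv, ← map_mul]
    rw [← h', mul_inv_cancel_right]
  have hHP : ∀ u ∈ M, u ∈ (ι).range → u ∈ P := by
    rintro _ hu ⟨u, rfl⟩
    exact hz (show u ∈ H from hu)
  have hMP : M ≤ P := by
    intro u hu
    by_cases hr : u ∈ (ι).range
    · exact hHP u hu hr
    have hm : (Matrix.ProjGenLinGroup.mk g)⁻¹ * u ∈ (ι).range :=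
      (Subgroup.mul_mem_iff_of_index_two (index_range hodd)).mpr
        (iff_of_false (fun h => hgR (inv_inv (Matrix.ProjGenLinGroup.mk g) ▸ (ι).range.inv_mem h)) hr)
    have := P.mul_mem hgP (hHP _ (M.mul_mem (M.inv_mem hgN) hu) hm)
    rwa [mul_inv_cancel_left] at this
  have hp5 : 5 ≤ p := by
    have := hp.out.two_le
    by_contra hc
    rcases (show p = 4 by omega)
    exact absurd hp.out (by norm_num)
  have hPc : 5 * (4 * 6) ≤ Nat.card P := by
    rw [card_sfPGL, hKc]
    exact Nat.mul_le_mul hp5 (Nat.mul_le_mul (by omega) (by omega))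
  have hlt : Nat.card K < Fintype.card F := by
    rw [hKc, hn]; exact lt_self_pow₀ hp.out.one_lt h1
  refine sfPGL_ne_top hlt _ (hM.2 P (lt_of_le_of_ne hMP fun e => ?_))
  rw [← e, hcard, hH12] at hPc
  omega

/-- The maximal subgroups of `PGL(2, F)` not containing `PSL(2, F)`, for odd `|F| ≥ 5`. -/
theorem kind_of_coatom (hodd : Odd (Fintype.card F)) (h5 : 5 ≤ Fintype.card F) {M : Subgroup PGL₂}
    (hM : IsCoatom M) (hL : ¬ (ι).range ≤ M) : Kind (F := F) p M := by
  classical
  haveI := finite_pgl (F := F)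
  have hp2 : p ≠ 2 := char_ne_two_of_odd_card hodd p
  have hML : ¬ M ≤ (ι).range := fun h => by
    have hne : (ι).range ≠ ⊤ := fun e => by
      have := index_range (F := F) hodd
      rw [e, Subgroup.index_top] at this; omega
    rcases eq_or_lt_of_le h with e | e
    · exact hL e.ge
    · exact hne (hM.2 _ e)
  have hcard := card_eq_two_mul hodd hML
  set D := pslData (F := F) p
  set H := M.comap ι with hHdef
  have hconj : ∀ g ∈ M, ∀ b ∈ H, ∀ b', ι b' = g * ι b * g⁻¹ → b' ∈ H := fun g hg b hb b' hb' => by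
    show ι b' ∈ M
    rw [hb']
    exact M.mul_mem (M.mul_mem hg hb) (M.inv_mem hg)
  have card_alt5 : ∀ {S : Subgroup PSL₂}, Nonempty (S ≃* alternatingGroup (Fin 5)) →
      ∃ g : alternatingGroup (Fin 4) →* PSL₂, Function.Injective g ∧ g.range ≤ S := fun {S} ⟨e⟩ =>
    ⟨(S.subtype.comp e.symm.toMonoidHom).comp altIncl,
      (S.subtype_injective.comp e.symm.injective).comp altIncl_injective,
      by rintro _ ⟨s, rfl⟩; exact (e.symm (altIncl s)).2⟩
  obtain ⟨E, _, _, _, ψ, hψ⟩ := exists_emb (F := F) p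
  have hMψ : Nat.card (M.map ψ) = 2 * Nat.card H := by rw [Subgroup.card_map_of_injective hψ, hcard]
  have hup : ∀ g : alternatingGroup (Fin 4) →* PSL₂, Function.Injective g → g.range ≤ H →
      Function.Injective (ψ.comp ((ι).comp g)) ∧ (ψ.comp ((ι).comp g)).range ≤ M.map ψ := fun g hg hle =>
    ⟨hψ.comp (Matrix.ProjectiveSpecialLinearGroup.toPGL_injective.comp hg), by
      rintro _ ⟨s, rfl⟩
      exact ⟨ι (g s), (hle ⟨s, rfl⟩ : g s ∈ H), rfl⟩⟩
  cases dickson p H with
  | trivial h =>
    exfalso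
    rw [h, Subgroup.card_bot] at hcard
    exact prime_coatom_card_ne_two hodd h5 hM hcard
  | cyclic a ha ha1 hap h =>
    exfalso
    have hH := torus_stab p (by omega) hM ha1 hap (D.self a) ha1 fun g hg b' hb' => h (hconj g hg a ha b' hb')
    have hle := Subgroup.card_le_of_le (hH.ge.trans h)
    rw [(normalizer_tor p ha1 hap).1] at hle
    have : 0 < Nat.card (tor a) := Nat.card_pos
    omega
  | dihedral a ha ha1 hap hidx h iso =>
    set A := (tor a).subgroupOf H with hA
    obtain ⟨i⟩ := iso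
    have hA2 : 2 ≤ Nat.card A := by
      show 1 < _
      rw [Subgroup.one_lt_card_iff_ne_bot]
      intro e
      have hm : (⟨a, ha⟩ : H) ∈ A := D.self a
      rw [e, Subgroup.mem_bot] at hm
      exact ha1 (congrArg Subtype.val hm)
    rcases (show Nat.card A = 2 ∨ 3 ≤ Nat.card A by omega) with h2 | h3
    · exfalso
      rw [h2] at i
      refine no_klein hodd h5 hM ⟨?_, ?_⟩
      · rw [Nat.card_congr i.toEquiv, DihedralGroup.nat_card]
      · rw [Monoid.exponent_eq_of_mulEquiv i, DihedralGroup.exponent]; rfl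
    haveI : IsCyclic (tor a) := D.semi_cyclic ha1 hap
    haveI : IsCyclic A := isCyclic_of_injective
      (H.subtype.subgroupComap (tor a)) fun u v e => Subtype.ext (Subtype.ext (congrArg (fun z : tor a => (z : PSL₂)) e))
    obtain ⟨⟨b, hb⟩, hgen⟩ := IsCyclic.exists_generator (α := A)
    have hbo : orderOf (b : PSL₂) = Nat.card A := by
      rw [← orderOf_eq_card_of_forall_mem_zpowers hgen, Subgroup.orderOf_mk, Subgroup.orderOf_coe]
    have hb1 : (b : PSL₂) ≠ 1 := fun e => by rw [e, orderOf_one] at hbo; omega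
    have hH := torus_stab p (by omega) hM ha1 hap (b := b) hb hb1 fun g hg b' hb' => by
      by_contra hn
      have h22 := (D.semi_flip ha1 hap ((D.mem_normalizer_iff ha1).mp (h (hconj g hg b b.2 b' hb'))) hn).1
      have ho : orderOf b' = orderOf (b : PSL₂) := by
        rw [← orderOf_injective ι Matrix.ProjectiveSpecialLinearGroup.toPGL_injective, hb',
          ← MulAut.conj_apply, MulEquiv.orderOf_eq,
          orderOf_injective ι Matrix.ProjectiveSpecialLinearGroup.toPGL_injective]
      have := Nat.le_of_dvd two_pos (orderOf_dvd_of_pow_eq_one ((pow_two b').trans h22))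
      omega
    have hT : 3 ≤ Nat.card (tor a) := le_trans h3 (by
      rw [← Subgroup.card_map_of_injective H.subtype_injective (K := A)]
      exact Subgroup.card_le_of_le (by rw [hA, Subgroup.subgroupOf_map_subtype]; exact inf_le_left))
    exact .torus a ha1 hap hT hH (dihedral_overgroup p hp2 hcard ha1 hap hH hT)
  | borel a ha ha1 hap h =>
    have hH : H = Subgroup.normalizer (tor a : Set PSL₂) :=
      (stab hM (tor a) (normalizer_uni_ne_top p ha1 hap) fun g hg x hx x' hx' => by
        obtain ⟨a', ha'⟩ := exists_conj g a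
        have h1 : a' ≠ 1 := fun e => ha1 ((conj_eq_one_iff' ha').mp e)
        have hp' : a' ^ p = 1 := by
          refine (conj_eq_one_iff' (g := g) (a := a ^ p) ?_).mpr hap
          exact conj_pow' ha' p
        have hmem : a' ∈ tor a := mem_tor_of_uni p ha1 hap (h (hconj g hg a ha a' ha')) hp'
        rw [← show tor a' = tor a from D.same ha1 hmem h1]
        exact conj_tor ha' hx' hx).2
    refine .borel a ha1 hap hH ?_
    have hb := card_borel p ha1 hap
    rw [← hH] at hb
    rcases del_cases F with ⟨-, he⟩ | ⟨hd, -⟩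
    · exact absurd he (Nat.not_even_iff_odd.mpr hodd)
    · rw [hd] at hb; rw [hcard, ← hb, mul_comm]
  | alt4 hc iso h => exact of_alt4 p hodd h5 hM hcard hL hML iso
  | perm4 hc iso h =>
    exfalso
    obtain ⟨e⟩ := iso
    obtain ⟨hg, hle⟩ := hup ((H.subtype.comp e.symm.toMonoidHom).comp (alternatingGroup (Fin 4)).subtype)
      ((H.subtype_injective.comp e.symm.injective).comp (alternatingGroup (Fin 4)).subtype_injective)
      (by rintro _ ⟨s, rfl⟩; exact (e.symm (s : Equiv.Perm (Fin 4))).2)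
    rw [hc] at hMψ
    rcases shapes_of_alt4 p hp2 _ hg hle with h' | ⟨h', -⟩ | h' | ⟨k, -, hpk, -, h'⟩
    · omega
    · omega
    · omega
    have hd : p ∣ 96 := by
      rcases h' with e' | e' <;> refine (hpk.mul_right ((k - 1) * (k + 1))).trans ?_
      · exact ⟨2, by omega⟩
      · exact ⟨1, by omega⟩
    have h24 : ¬ p ∣ 24 := hc ▸ h
    rcases (Nat.Prime.dvd_mul hp.out).mp (show p ∣ 2 ^ 2 * 24 from hd) with h' | h'
    · exact hp2 ((Nat.prime_dvd_prime_iff_eq hp.out Nat.prime_two).mp (hp.out.dvd_of_dvd_pow h'))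
    · exact h24 h'
  | alt5 hc iso h =>
    exfalso
    obtain ⟨g, hg₀, hle₀⟩ := card_alt5 iso
    obtain ⟨hg, hle⟩ := hup g hg₀ hle₀
    rw [hc] at hMψ
    rcases shapes_of_alt4 p hp2 _ hg hle with h' | ⟨h', -⟩ | h' | ⟨k, hk3, hpk, -, h'⟩
    · omega
    · omega
    · omega
    have hk : k ≤ 6 := by
      by_contra hc'
      have : 7 * (6 * 8) ≤ k * ((k - 1) * (k + 1)) := Nat.mul_le_mul (by omega) (Nat.mul_le_mul (by omega) (by omega))
      omega
    interval_cases k
    · omega
    · omega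
    · rcases h with h | h
      · refine h ?_
        rw [hc, (Nat.prime_dvd_prime_iff_eq hp.out (by norm_num)).mp hpk]
        norm_num
      · rw [h] at hpk; norm_num at hpk
    · omega
  | subfield h =>
    obtain ⟨K, P, h3, hK⟩ := h
    rcases hK with hK | hK
    · exfalso
      haveI : Fintype K := Fintype.ofFinite K
      have hHc : Nat.card H = Nat.card K * ((Nat.card K - 1) * (Nat.card K + 1)) := by
        rw [← Subgroup.card_map_of_injective (Matrix.ProjectiveSpecialLinearGroup.toPGL_injective (n := Fin 2) (R := F))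
          (K := H), hK]
        exact card_sfPGL K _
      have hKodd : Odd (Fintype.card K) := by
        rw [Module.card_eq_pow_finrank (K := K) (V := F)] at hodd
        exact (Nat.odd_pow_iff (Module.finrank_pos (R := K) (M := F)).ne').mp hodd
      -- the copy of `A₄` inside
      obtain ⟨x, y, hxy⟩ := exists_quat (F := K) hKodd
      obtain ⟨t, A, -, -, -, -, -, ⟨j⟩, -⟩ := exists_alt4 hKodd hxy
      let c := (MulAut.conj (Matrix.ProjGenLinGroup.mk P)).toMonoidHom
      let f := (c.comp ((pglMap K.subtype).comp Matrix.ProjectiveSpecialLinearGroup.toPGL)).comp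
        (A.subtype.comp j.symm.toMonoidHom)
      have hf : Function.Injective f := ((MulAut.conj (Matrix.ProjGenLinGroup.mk P)).injective.comp
        ((pglMap_injective K.subtype).comp Matrix.ProjectiveSpecialLinearGroup.toPGL_injective)).comp
        (A.subtype_injective.comp j.symm.injective)
      have hfM : f.range ≤ M := by
        rintro _ ⟨s, rfl⟩
        have : f s ∈ H.map ι := hK.ge ⟨_, ⟨_, rfl⟩, rfl⟩
        obtain ⟨u, hu, e⟩ := this
        exact e ▸ hu
      rcases shapes_of_alt4 p hp2 (H := M.map ψ) (ψ.comp f) (hψ.comp hf) (by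
          rw [MonoidHom.range_comp]; exact Subgroup.map_mono hfM) with h' | ⟨h', -⟩ | h' | ⟨k, hk3, hpk, ⟨j', hj'⟩, h'⟩
      iterate 3
        · rw [hMψ, hHc] at h'
          rcases eq_or_lt_of_le h3 with e | e
          · rw [← e] at h'; omega
          · have hge : 4 * (3 * 5) ≤ Nat.card K * ((Nat.card K - 1) * (Nat.card K + 1)) :=
              Nat.mul_le_mul e (Nat.mul_le_mul (by omega) (by omega))
            omega
      rw [hMψ, hHc] at h'
      haveI : CharP K p := (RingHom.charP_iff K.subtype K.subtype.injective p).mpr inferInstance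
      obtain ⟨i, -, hi'⟩ := FiniteField.card K p
      have hi : Nat.card K = p ^ (i : ℕ) := Nat.card_eq_fintype_card.trans hi'
      -- compare the `p`-parts
      have hcop : ∀ u : ℕ, 2 ≤ u → p ∣ u → ∀ v, Nat.Coprime (p ^ v) (4 * ((u - 1) * (u + 1))) := by
        intro u hu hpu v
        refine Nat.Coprime.pow_left _ ((Nat.Prime.coprime_iff_not_dvd hp.out).mpr fun hd => ?_)
        rcases (Nat.Prime.dvd_mul hp.out).mp hd with h4 | hd
        · exact hp2 ((Nat.prime_dvd_prime_iff_eq hp.out Nat.prime_two).mp (hp.out.dvd_of_dvd_pow (show p ∣ 2 ^ 2 from h4)))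
        rcases (Nat.Prime.dvd_mul hp.out).mp hd with hd | hd
        · have := Nat.dvd_sub hpu hd
          rw [show u - (u - 1) = 1 by omega] at this
          exact hp.out.not_dvd_one this
        · have := Nat.dvd_sub hd hpu
          rw [show u + 1 - u = 1 by omega] at this
          exact hp.out.not_dvd_one this
      have hpK : p ∣ Nat.card K := by
        rw [hi]
        refine dvd_pow_self p fun e => ?_
        rw [hi, e, pow_zero] at h3
        omega
      set q₀ := Nat.card K
      have d1 : q₀ ∣ k * (4 * ((k - 1) * (k + 1))) := by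
        refine (dvd_mul_right q₀ (4 * ((q₀ - 1) * (q₀ + 1)))).trans ?_
        rcases h' with e | e
        · refine ⟨2, ?_⟩
          rw [show k * (4 * ((k - 1) * (k + 1))) = 4 * (k * ((k - 1) * (k + 1))) by ring, ← e]; ring
        · refine ⟨4, ?_⟩
          rw [show k * (4 * ((k - 1) * (k + 1))) = 4 * (k * ((k - 1) * (k + 1))) by ring, ← e]; ring
      have d2 : k ∣ q₀ * (4 * ((q₀ - 1) * (q₀ + 1))) := by
        refine (dvd_mul_right k ((k - 1) * (k + 1))).trans ?_
        rcases h' with e | e <;> rw [← e]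
        · exact ⟨2, by ring⟩
        · exact ⟨1, by ring⟩
      have e1 : q₀ ∣ k := by
        rw [hi] at d1 ⊢
        exact (hcop k (by omega) hpk i).dvd_of_dvd_mul_right d1
      have e2 : k ∣ q₀ := by
        rw [hj'] at d2 ⊢
        exact (hcop q₀ (by omega) hpK j').dvd_of_dvd_mul_right d2
      rw [Nat.dvd_antisymm e2 e1] at h'
      have : 0 < q₀ * ((q₀ - 1) * (q₀ + 1)) := Nat.mul_pos (by omega) (Nat.mul_pos (by omega) (by omega))
      omega
    · exact of_psl_subfield p hodd h5 hM hcard hL hML K (Matrix.ProjGenLinGroup.mk P) h3 hK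

end Cfsg.Agent.Dickson.PGLMax
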