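import Mathlib
import Cfsg.Agent.Lib.Classical.DicksonPGLKind

/-!
The parts in `PSL(2, F)` of the maximal subgroups of `PGL(2, F)` are maximal, up to small exceptions.
-/

set_option autoImplicit false

namespace Cfsg.Agent.Dickson.PGLMax

open Matrix Cfsg.Agent.Grp.SL2 Cfsg.Agent.PSL2Spec

variable {F : Type*} [Field F] [Fintype F] (p : ℕ) [hp : Fact p.Prime] [CharP F p]

local notation "PSL₂" => Matrix.ProjectiveSpecialLinearGroup (Fin 2) F
local notation "PGL₂" => Matrix.ProjGenLinGroup (Fin 2) F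

/-- The Borel subgroups are maximal. -/
theorem borel_coatom (hodd : Odd (Fintype.card F)) (h5 : 5 ≤ Fintype.card F) {a : PSL₂} (ha : a ≠ 1)
    (hap : a ^ p = 1) : IsCoatom (Subgroup.normalizer (tor a : Set PSL₂)) := by
  classical
  refine isCoatom_of_forall (normalizer_uni_ne_top p ha hap) fun M hM hle => ?_
  set q := Fintype.card F with hq
  obtain ⟨m, hm⟩ := id hodd
  have hdel : del F = 2 := by
    rcases del_cases F with ⟨-, he⟩ | ⟨hd, -⟩
    · exact absurd he (Nat.not_even_iff_odd.mpr hodd)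
    · exact hd
  have hBc : Nat.card (Subgroup.normalizer (tor a : Set PSL₂)) = q * m := by
    have hb := card_borel p ha hap
    rw [hdel, ← hq, hm, Nat.add_sub_cancel] at hb
    refine Nat.eq_of_mul_eq_mul_right two_pos ?_
    rw [hb, hm]; ring
  have hd := Subgroup.card_dvd_of_le hle
  rw [hBc] at hd
  have hqM : q ∣ Nat.card M := (dvd_mul_right q m).trans hd
  have hMt : Nat.card M < Nat.card PSL₂ := lt_of_le_of_ne (Subgroup.card_le_card_group M) fun e =>
    hM.1 (Subgroup.eq_top_of_card_eq M e)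
  have hG := card_psl_two (F := F) hodd
  cases coatom_cases p (by omega) hM with
  | torus b hb hbp h =>
    exfalso
    rw [h, (normalizer_tor p hb hbp).1] at hd
    have hT : 2 * Nat.card (tor b) ≤ q + 1 := by
      rcases card_tor_semi p hb hbp with e | e <;> rw [e, hdel, ← hq] <;> omega
    have h1 := Nat.le_of_dvd (Nat.mul_pos two_pos Nat.card_pos) hd
    have : q * 2 ≤ q * m := Nat.mul_le_mul_left _ (by omega)
    omega
  | borel b hb hbp h =>
    refine (Subgroup.eq_of_le_of_card_ge hle (le_of_eq ?_)).symm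
    refine Nat.eq_of_mul_eq_mul_right (show 0 < del F by omega) ?_
    rw [h, card_borel p hb hbp, card_borel p ha hap]
  | alt4 hqp h8 h10 iso =>
    exfalso
    rw [Nat.card_congr iso.some.toEquiv, card_alt_four] at hd
    obtain ⟨c, hc⟩ := hd
    have hq12 : q ≤ 12 := Nat.le_of_dvd (by norm_num) ((dvd_mul_right q m).trans ⟨c, hc⟩)
    have hqm : q * m ∣ 12 := ⟨c, hc⟩
    interval_cases q <;> (obtain rfl : m = _ := (by omega : m = (Fintype.card F - 1) / 2)) <;>
      rw [← hq] at hqm <;> revert hqm <;> norm_num <;> omega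
  | perm4 hqp h8 iso =>
    exfalso
    rw [Nat.card_congr iso.some.toEquiv, Nat.card_perm, Nat.card_fin] at hd
    have hqm : q ∣ 24 := (dvd_mul_right q m).trans hd
    rw [show q = p from hqp] at hqm
    rcases (Nat.Prime.dvd_mul hp.out).mp (show p ∣ 2 ^ 3 * 3 from hqm) with h' | h'
    · exact char_ne_two_of_odd_card hodd p ((Nat.prime_dvd_prime_iff_eq hp.out Nat.prime_two).mp (hp.out.dvd_of_dvd_pow h'))
    · have := Nat.le_of_dvd (by norm_num) h'; omega
  | alt5 hqp h10 iso =>
    exfalso
    rw [Nat.card_congr iso.some.toEquiv, nat_card_alternatingGroup, Nat.card_fin] at hd hMt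
    have hqm : q ∣ 60 := (dvd_mul_right q m).trans hd
    obtain ⟨c, hc⟩ := hqm
    rcases h10 with h' | h'
    all_goals
      have : q * c % 10 = (q % 10) * (c % 10) % 10 := Nat.mul_mod _ _ _
      rw [h', ← hc] at this
      have hc60 : c ≤ 60 := Nat.le_of_dvd (by norm_num) ⟨q, by rw [hc]; ring⟩
      have hc10 : c % 10 = 0 := by omega
      rcases (show c = 10 ∨ 20 ≤ c by
        have : c ≠ 0 := fun e => by rw [e, mul_zero] at hc; norm_num at hc
        omega) with e | e
      · subst e; omega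
      · have : q * 20 ≤ q * c := Nat.mul_le_mul_left _ e
        omega
  | subfield L r x hr hc h3 h =>
    exfalso
    set k := Nat.card L with hk
    have hkq : k < q := by rw [hq, ← hc]; exact lt_self_pow₀ (by omega) hr.one_lt
    have hdvd : q ∣ k * ((k - 1) * (k + 1)) * 2 := by
      refine hqM.trans ?_
      rw [h]
      rcases hr.eq_two_or_odd' with e | e
      · rw [(card_sfOver hr hc x).1 (Or.inl e)]; exact dvd_mul_right _ _
      · rw [← (card_sfOver hr hc x).2 e hodd]; exact ⟨4, by ring⟩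
    obtain ⟨n, -, hn⟩ := FiniteField.card F p
    obtain ⟨j, -, hj⟩ := (Nat.dvd_prime_pow hp.out).mp
      (show k ∣ p ^ (n : ℕ) by rw [← hn, ← hc]; exact dvd_pow_self _ hr.ne_zero)
    have hpk : p ∣ k := by
      rw [hj]
      exact dvd_pow_self p fun e => by rw [e, pow_zero] at hj; omega
    have hcop : Nat.Coprime q (((k - 1) * (k + 1)) * 2) := by
      rw [hq, hn]
      refine Nat.Coprime.pow_left _ ((Nat.Prime.coprime_iff_not_dvd hp.out).mpr fun hd' => ?_)
      rcases (Nat.Prime.dvd_mul hp.out).mp hd' with hd' | h2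
      · rcases (Nat.Prime.dvd_mul hp.out).mp hd' with hd' | hd'
        · have := Nat.dvd_sub hpk hd'
          rw [show k - (k - 1) = 1 by omega] at this
          exact hp.out.not_dvd_one this
        · have := Nat.dvd_sub hd' hpk
          rw [show k + 1 - k = 1 by omega] at this
          exact hp.out.not_dvd_one this
      · exact char_ne_two_of_odd_card hodd p ((Nat.prime_dvd_prime_iff_eq hp.out Nat.prime_two).mp h2)
    have := Nat.le_of_dvd (show 0 < k by omega) (hcop.dvd_of_dvd_mul_right (show q ∣ k * (((k - 1) * (k + 1)) * 2) by rwa [← mul_assoc]))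
    omega

include p hp in
/-- Subfield subgroups of odd prime degree are maximal. -/
theorem sfOver_coatom (hodd : Odd (Fintype.card F)) {L : Subfield F} {r : ℕ} (hr : r.Prime) (ho : Odd r)
    (hcr : Nat.card L ^ r = Fintype.card F) (h3L : 3 ≤ Nat.card L) (x : PGL₂) : IsCoatom (sfOver L x) := by
  classical
  haveI : Fintype L := Fintype.ofFinite L
  have hLc : Nat.card L = Fintype.card L := Nat.card_eq_fintype_card
  obtain ⟨i⟩ := (nonempty_sfOver hr hcr x).2 (Or.inl ho)
  have hkq : Fintype.card L < Fintype.card F := by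
    rw [← hcr, hLc]; exact lt_self_pow₀ (by omega) hr.one_lt
  have hLne : L ≠ ⊤ := fun e => by
    subst e
    rw [Nat.card_congr Subfield.topEquiv.toEquiv, Nat.card_eq_fintype_card] at hLc
    omega
  have hLo : Odd (Fintype.card L) := by
    rw [← hcr, hLc] at hodd
    exact (Nat.odd_pow_iff hr.ne_zero).mp hodd
  refine isCoatom_of_forall (sfOver_ne_top hLne x) fun M hM hle => ?_
  obtain ⟨a, b, hab⟩ := exists_quat (F := L) hLo
  obtain ⟨t, A, -, -, -, -, -, ⟨j⟩, -⟩ := exists_alt4 hLo hab
  let g : alternatingGroup (Fin 4) →* PSL₂ :=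
    ((sfOver L x).subtype.comp i.symm.toMonoidHom).comp (A.subtype.comp j.symm.toMonoidHom)
  have hg : Function.Injective g :=
    ((sfOver L x).subtype_injective.comp i.symm.injective).comp (A.subtype_injective.comp j.symm.injective)
  have hgM : g.range ≤ M := by
    rintro _ ⟨s, rfl⟩
    refine hle ?_
    exact SetLike.coe_mem _
  have h3r : 3 ≤ r := by obtain ⟨z, hz⟩ := ho; have := hr.two_le; omega
  have hnp : Fintype.card F ≠ p ∧ Fintype.card F ≠ p ^ 2 := by
    obtain ⟨n, -, hn⟩ := FiniteField.card F p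
    obtain ⟨s, hs1, hs⟩ := (Nat.dvd_prime_pow hp.out).mp
      (show Nat.card L ∣ p ^ (n : ℕ) by rw [← hn, ← hcr]; exact dvd_pow_self _ hr.ne_zero)
    have hs0 : s ≠ 0 := fun e => by rw [e, pow_zero] at hs; omega
    have hsr : 3 ≤ s * r := le_trans h3r (Nat.le_mul_of_pos_left r (Nat.pos_of_ne_zero hs0))
    refine ⟨fun e => ?_, fun e => ?_⟩ <;> rw [← hcr, hs, ← pow_mul] at e
    · have := Nat.pow_right_injective hp.out.two_le (e.trans (pow_one p).symm); omega
    · have := Nat.pow_right_injective hp.out.two_le e; omega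
  have h27 : 27 ≤ Fintype.card F := by
    rw [← hcr]
    exact (Nat.pow_le_pow_left h3L 3).trans (Nat.pow_le_pow_right (by omega) h3r)
  rcases alt4_cases p hodd (by omega) hM g hg hgM with ⟨e, -⟩ | ⟨e, -⟩ | ⟨e, -⟩ | ⟨L', s, z, hs, hc, h3', hM'⟩
  · exact absurd e hnp.1
  · exact absurd e hnp.1
  · rcases e with e | ⟨e, -⟩
    · exact absurd e hnp.1
    · exact absurd e hnp.2
  have hH := (card_sfOver hr hcr x).2 ho hodd
  have hdvd := Subgroup.card_dvd_of_le hle
  have e1 : Nat.card L ^ 2 - 1 = (Nat.card L - 1) * (Nat.card L + 1) := by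
    rw [mul_comm, ← Nat.sq_sub_sq, one_pow]
  have e2 : Nat.card L' ^ 2 - 1 = (Nat.card L' - 1) * (Nat.card L' + 1) := by
    rw [mul_comm, ← Nat.sq_sub_sq, one_pow]
  have hd1 : Nat.card L ^ 2 - 1 ∣ 2 * Nat.card (sfOver L x) := by
    rw [hH, ← e1]; exact dvd_mul_left _ _
  have hM2 : 2 * Nat.card M ∣ 2 * (Nat.card L' * (Nat.card L' ^ 2 - 1)) := by
    rw [hM', e2]
    rcases hs.eq_two_or_odd' with e | e
    · rw [(card_sfOver hs hc z).1 (Or.inl e)]
    · rw [(card_sfOver hs hc z).2 e hodd]; exact dvd_mul_left _ 2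
  have hkl := base_eq hp.out hcr hc (dvd_card_field p) hr hs
    ((hd1.trans (Nat.mul_dvd_mul_left 2 hdvd)).trans hM2) (by omega)
  have hsr : s = r := Nat.pow_right_injective (Finite.one_lt_card : 1 < Nat.card L)
    (show Nat.card L ^ s = Nat.card L ^ r by rw [hcr]; exact (hkl ▸ hc :))
  refine (Subgroup.eq_of_le_of_card_ge hle ?_).symm
  have hc2 := (card_sfOver hs hc z).2 (hsr ▸ ho) hodd
  rw [← hM', ← hkl] at hc2
  omega

include p hp in
/-- The part in `PSL(2, F)` of a maximal subgroup is maximal. -/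
theorem comap_coatom (hodd : Odd (Fintype.card F)) (h5 : 5 ≤ Fintype.card F) (h7 : Fintype.card F ≠ 7)
    (h9 : Fintype.card F ≠ 9) (h11 : Fintype.card F ≠ 11)
    (h40 : (Fintype.card F).Prime → Fintype.card F % 40 ∉ ({11, 19, 21, 29} : Finset ℕ))
    {M : Subgroup PGL₂} (hM : IsCoatom M)
    (hL : ¬ (Matrix.ProjectiveSpecialLinearGroup.toPGL (n := Fin 2) (R := F)).range ≤ M) :
    IsCoatom (M.comap Matrix.ProjectiveSpecialLinearGroup.toPGL) := by
  classical
  cases kind_of_coatom p hodd h5 hM hL with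
  | borel a ha hap hH hc => exact hH ▸ borel_coatom p hodd h5 ha hap
  | torus a ha hap h3 hH iso =>
    rw [hH]
    have hdel : del F = 2 := by
      rcases del_cases F with ⟨-, he⟩ | ⟨hd, -⟩
      · exact absurd he (Nat.not_even_iff_odd.mpr hodd)
      · exact hd
    have hT := card_tor_semi p ha hap
    rw [hdel] at hT
    obtain ⟨m, hm⟩ := id hodd
    refine torus_coatom p (by omega) ha hap h3 (fun hq h8 => ?_) (fun h10 => ?_) fun k r hr hk hkr => ?_
    · omega
    · omega
    · by_contra hcon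
      have hk2 : k * k ≤ Fintype.card F := by
        rw [← hkr, ← sq]; exact Nat.pow_le_pow_right (by omega) hr.two_le
      rcases (show k = 3 ∨ 4 ≤ k by omega) with e | e
      · subst e
        rcases (show r = 2 ∨ 3 ≤ r by have := hr.two_le; omega) with e | e
        · subst e; norm_num at hkr; omega
        · have : 3 ^ 3 ≤ 3 ^ r := Nat.pow_le_pow_right (by norm_num) e
          omega
      · have : 4 * k ≤ k * k := Nat.mul_le_mul_right _ e
        omega
  | alt4 hq h8 hH iso =>
    obtain ⟨e⟩ := hH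
    set H := M.comap (Matrix.ProjectiveSpecialLinearGroup.toPGL (n := Fin 2) (R := F))
    have hp' : (Fintype.card F).Prime := hq ▸ hp.out
    have h40' := h40 hp'
    simp only [Finset.mem_insert, Finset.mem_singleton] at h40'
    have hHt : H ≠ ⊤ := fun ht => hL fun x ⟨y, hy⟩ => hy ▸ (ht ▸ Subgroup.mem_top y : y ∈ H)
    refine isCoatom_of_forall hHt fun N hN hle => ?_
    have hg : Function.Injective (H.subtype.comp e.symm.toMonoidHom) := H.subtype_injective.comp e.symm.injective
    have hgN : (H.subtype.comp e.symm.toMonoidHom).range ≤ N := by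
      rintro _ ⟨s, rfl⟩
      exact hle (e.symm s).2
    rcases alt4_cases p hodd h5 hN _ hg hgN with ⟨-, -, -, hc⟩ | ⟨-, h, hc⟩ | ⟨-, h, hc⟩ |
      ⟨L, r, z, hr, hc, h3, -⟩
    · exact (Subgroup.eq_of_le_of_card_ge hle (by rw [hc, Nat.card_congr e.toEquiv, card_alt_four])).symm
    · omega
    · exfalso; omega
    · exfalso
      exact absurd (hc ▸ hp') (Nat.Prime.not_prime_pow hr.two_le)
  | subfield K r z hr ho hc h3 hMz =>
    subst hMz
    exact sfOver_coatom p hodd hr ho hc h3 z

end Cfsg.Agent.Dickson.PGLMax
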