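import Mathlib
import Cfsg.Agent.Lib.Classical.DicksonTorusMax
import Cfsg.Agent.Lib.Classical.SLNormal

/-!
Quaternion subgroups of `GL(2, F)` and their normalisers.
-/

set_option autoImplicit false

namespace Cfsg.Agent.Dickson

open Matrix Cfsg.Agent.Grp.SL2 Cfsg.Agent.PSL2Spec

/-- The commutant of a non-scalar two-by-two matrix. -/
theorem commutant {K : Type*} [Field K] {A M : Matrix (Fin 2) (Fin 2) K}
    (hA : ∀ c : K, A ≠ c • 1) (h : M * A = A * M) : ∃ a b : K, M = a • 1 + b • A := by
  have h00 := congrFun (congrFun h 0) 0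
  have h01 := congrFun (congrFun h 0) 1
  have h10 := congrFun (congrFun h 1) 0
  simp [Matrix.mul_apply, Fin.sum_univ_two] at h00 h01 h10
  by_cases hb : A 0 1 = 0
  · by_cases hc : A 1 0 = 0
    · have hd : A 0 0 - A 1 1 ≠ 0 := fun e => hA (A 0 0) (by
        ext i j; fin_cases i <;> fin_cases j <;> simp [hb, hc]
        linear_combination -e)
      have m01 : M 0 1 = 0 := by
        have : (A 0 0 - A 1 1) * M 0 1 = 0 := by rw [hb] at h01; linear_combination -h01
        exact (mul_eq_zero.mp this).resolve_left hd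
      have m10 : M 1 0 = 0 := by
        have : (A 0 0 - A 1 1) * M 1 0 = 0 := by rw [hc] at h10; linear_combination h10
        exact (mul_eq_zero.mp this).resolve_left hd
      refine ⟨M 1 1 - (M 0 0 - M 1 1) / (A 0 0 - A 1 1) * A 1 1, (M 0 0 - M 1 1) / (A 0 0 - A 1 1), ?_⟩
      ext i j
      fin_cases i <;> fin_cases j <;> simp [hb, hc, m01, m10]
      field_simp
      ring
    · refine ⟨M 0 0 - M 1 0 / A 1 0 * A 0 0, M 1 0 / A 1 0, ?_⟩
      ext i j
      fin_cases i <;> fin_cases j <;> simp <;> field_simp <;>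
        first | ring1 | linear_combination h10 | linear_combination -h10 | linear_combination h00 | linear_combination -h00
  · refine ⟨M 0 0 - M 0 1 / A 0 1 * A 0 0, M 0 1 / A 0 1, ?_⟩
    ext i j
    fin_cases i <;> fin_cases j <;> simp <;> field_simp <;>
      first | ring1 | linear_combination h01 | linear_combination -h01 | linear_combination h00 | linear_combination -h00

variable {F : Type*} [Field F] [Fintype F]

local notation "SL₂" => Matrix.SpecialLinearGroup (Fin 2) F
local notation "PSL₂" => Matrix.ProjectiveSpecialLinearGroup (Fin 2) F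

/-- A quaternion subgroup of `GL(2, F)` consists of the lifts of a four-group. -/
theorem quaternion_eq (h2 : (2 : F) ≠ 0) (R : Subgroup (GL (Fin 2) F)) (e : R ≃* QuaternionGroup 2) :
    ∃ (x y : SL₂) (h : Quat x y),
      R = ((h.klein).comap (proj : SL₂ →* PSL₂)).map Matrix.SpecialLinearGroup.toGL := by
  set i : GL (Fin 2) F := ((e.symm (QuaternionGroup.a 1) : R) : GL (Fin 2) F) with hi
  set j : GL (Fin 2) F := ((e.symm (QuaternionGroup.xa 0) : R) : GL (Fin 2) F) with hj
  have key : ∀ w : QuaternionGroup 2, w ≠ 1 → ((e.symm w : R) : GL (Fin 2) F) ≠ 1 := fun w hw h =>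
    hw (e.symm.injective (Subtype.ext (by rw [h, map_one]; rfl)))
  have emul : ∀ v w : QuaternionGroup 2,
      ((e.symm (v * w) : R) : GL (Fin 2) F) = (e.symm v : R) * (e.symm w : R) := fun v w => by
    rw [map_mul]; rfl
  have hjj : j * j = i * i := by
    rw [hi, hj, ← emul, ← emul]
    rfl
  have hji : j * i = i * i * (i * j) := by
    rw [hi, hj, ← emul, ← emul, ← emul, ← emul]
    rfl
  have hzz : i * i * (i * i) = 1 := by
    rw [hi, ← emul, ← emul]
    show ((e.symm (1 : QuaternionGroup 2) : R) : GL (Fin 2) F) = 1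
    rw [map_one]; rfl
  have hz1 : i * i ≠ 1 := by
    rw [hi, ← emul]
    exact key _ (by decide)
  set I : Matrix (Fin 2) (Fin 2) F := (i : Matrix (Fin 2) (Fin 2) F) with hI
  set J : Matrix (Fin 2) (Fin 2) F := (j : Matrix (Fin 2) (Fin 2) F) with hJ
  have hJI : J * I = I * I * (I * J) := by
    simpa [hI, hJ] using congrArg (fun g : GL (Fin 2) F => (g : Matrix (Fin 2) (Fin 2) F)) hji
  have hns : ∀ c : F, I ≠ c • 1 := by
    intro c hc
    have hcomm : i * j = j * i := Units.ext (by
      rw [Units.val_mul, Units.val_mul, ← hI, hc, smul_mul_assoc, one_mul, mul_smul_comm, mul_one])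
    rw [hcomm] at hji
    exact hz1 (mul_eq_right.mp hji.symm)
  obtain ⟨α, β, hab⟩ := commutant hns (show (I * I) * I = I * (I * I) from mul_assoc _ _ _)
  have hzj : J * (I * I) = I * I * J := by
    have : j * (i * i) = i * i * j := by rw [← hjj, mul_assoc]
    simpa [hI, hJ] using congrArg (fun g : GL (Fin 2) F => (g : Matrix (Fin 2) (Fin 2) F)) this
  have hβ : β = 0 := by
    by_contra hb
    rw [hab, mul_add, add_mul, mul_smul_comm, smul_mul_assoc, mul_one, one_mul, add_right_inj, mul_smul_comm,
      smul_mul_assoc] at hzj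
    have hJI' := smul_right_injective (Matrix (Fin 2) (Fin 2) F) hb hzj
    have hcomm : j * i = i * j := Units.ext hJI'
    rw [hcomm] at hji
    exact hz1 (mul_eq_right.mp hji.symm)
  rw [hβ, zero_smul, add_zero] at hab
  have hα : α = -1 := by
    have h4 : I * I * (I * I) = 1 := by
      simpa [hI] using congrArg (fun g : GL (Fin 2) F => (g : Matrix (Fin 2) (Fin 2) F)) hzz
    rw [hab, smul_mul_smul_comm, one_mul] at h4
    have h00 := congrFun (congrFun h4 0) 0
    simp at h00
    rcases mul_self_eq_one_iff.mp h00 with e' | e'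
    · exact absurd (Units.ext (by rw [Units.val_mul, ← hI, hab, e', one_smul]; rfl)) hz1
    · exact e'
  have hII : I * I = -1 := by rw [hab, hα, neg_smul, one_smul]
  have hJJ : J * J = -1 := by
    rw [← hII]
    simpa [hI, hJ] using congrArg (fun g : GL (Fin 2) F => (g : Matrix (Fin 2) (Fin 2) F)) hjj
  have hJI2 : J * I = -(I * J) := by rw [hJI, hII, neg_one_mul]
  have hdet : ∀ M : Matrix (Fin 2) (Fin 2) F, M * M = -1 → (∀ c : F, M ≠ c • 1) → M.det = 1 := by
    intro M hM hMns
    have hCH : M * M = M.trace • M - M.det • 1 := by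
      ext a b
      fin_cases a <;> fin_cases b <;>
        simp [Matrix.mul_apply, Fin.sum_univ_two, Matrix.det_fin_two, Matrix.trace_fin_two] <;> ring
    rw [hM] at hCH
    by_cases ht : M.trace = 0
    · rw [ht, zero_smul, zero_sub] at hCH
      have := congrFun (congrFun hCH 0) 0
      simp at this
      exact this.symm
    · exfalso
      refine hMns ((M.det - 1) / M.trace) ?_
      have h1 : M.trace • M = (M.det - 1) • (1 : Matrix (Fin 2) (Fin 2) F) := by
        rw [sub_smul, one_smul, eq_comm, sub_eq_iff_eq_add]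
        rw [eq_sub_iff_add_eq, neg_add_eq_iff_eq_add] at hCH
        rw [add_comm]; exact hCH
      rw [div_eq_inv_mul, ← smul_smul, ← h1, smul_smul, inv_mul_cancel₀ ht, one_smul]
  have hJns : ∀ c : F, J ≠ c • 1 := by
    intro c hc
    have hcomm : i * j = j * i := Units.ext (by
      rw [Units.val_mul, Units.val_mul, ← hJ, hc, smul_mul_assoc, one_mul, mul_smul_comm, mul_one])
    rw [hcomm] at hji
    exact hz1 (mul_eq_right.mp hji.symm)
  let x : SL₂ := ⟨I, hdet I hII hns⟩
  let y : SL₂ := ⟨J, hdet J hJJ hJns⟩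
  have hq : Quat x y := ⟨Subtype.ext hII, Subtype.ext hJJ, Subtype.ext hJI2⟩
  refine ⟨x, y, hq, ?_⟩
  have hR : Nat.card R = 8 := by
    rw [Nat.card_congr e.toEquiv, Nat.card_eq_fintype_card, QuaternionGroup.card]
  have hK : Nat.card ((hq.klein).comap (proj : SL₂ →* PSL₂)) = 8 := by
    have h1 := card_map_proj ((hq.klein).comap (proj : SL₂ →* PSL₂))
      (fun z hz => by rw [Subgroup.mem_comap, proj_one_iff.mpr hz]; exact one_mem _)
    rw [Subgroup.map_comap_eq_self_of_surjective proj_surjective, Quat.card_klein h2] at h1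
    rcases del_cases F with ⟨-, he⟩ | ⟨hd, -⟩
    · exfalso
      obtain ⟨p, hc⟩ := CharP.exists F
      haveI : Fact p.Prime := ⟨CharP.char_is_prime F p⟩
      have hp := p_eq_two p he
      subst hp
      exact h2 CharTwo.two_eq_zero
    · rw [hd] at h1; omega
  haveI : Finite ((hq.klein).comap (proj : SL₂ →* PSL₂)) := inferInstance
  symm
  refine Subgroup.eq_of_le_of_card_ge ?_ (by
    rw [hR, Subgroup.card_map_of_injective Matrix.SpecialLinearGroup.toGL_injective, hK])
  rintro _ ⟨s, hs, rfl⟩
  have hxR : Matrix.SpecialLinearGroup.toGL x ∈ R := by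
    rw [show Matrix.SpecialLinearGroup.toGL x = i from Units.ext rfl]; exact SetLike.coe_mem _
  have hyR : Matrix.SpecialLinearGroup.toGL y ∈ R := by
    rw [show Matrix.SpecialLinearGroup.toGL y = j from Units.ext rfl]; exact SetLike.coe_mem _
  have hneg : Matrix.SpecialLinearGroup.toGL (-1 : SL₂) ∈ R := by
    rw [← hq.xx, map_mul]; exact mul_mem hxR hxR
  have key2 : ∀ w : SL₂, Matrix.SpecialLinearGroup.toGL w ∈ R → proj s = proj w →
      Matrix.SpecialLinearGroup.toGL s ∈ R := by
    intro w hw h
    rcases proj_eq_iff.mp h.symm with rfl | rfl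
    · exact hw
    · rw [← neg_one_mul, map_mul]; exact mul_mem hneg hw
  rcases ((Quat.mem_klein (h := hq)).mp hs) with h | h | h | h
  · exact key2 1 (by rw [map_one]; exact one_mem _) (by rw [h, map_one])
  · exact key2 x hxR h
  · exact key2 y hyR h
  · exact key2 (x * y) (by rw [map_mul]; exact mul_mem hxR hyR) (by rw [h, map_mul])

end Cfsg.Agent.Dickson
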