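import Cfsg.Agent.Lib.Classical.UnitMultPLift
import Cfsg.Agent.Lib.Grp.SchurM.Basic
import Cfsg.Agent.S3963

/-!
A central extension with kernel of order prime to `p`: the lift of a subgroup generated by
`p`-elements whose other Sylow subgroups are cyclic or quaternion is faithful; the words in two
involutions with product of order dividing six.
-/

set_option autoImplicit false
set_option linter.unusedSectionVars false

namespace Cfsg.Agent.Classical.Triality

open Cfsg.Agent.Classical.UnitMult (Coprime IsPElem commute_of_zpowers ker_eq_bot_of_prime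
  ker_eq_bot_of_primes ker_comm)
open scoped commutatorElement

variable {E H : Type*} [Group E] [Group H] {π : E →* H} {p : ℕ}

/-- A group that is cyclic or generalised quaternion. -/
def CycQuat (P : Type*) [Group P] : Prop :=
  IsCyclic P ∨ ∃ n : ℕ, NeZero n ∧ Nonempty (P ≃* QuaternionGroup n)

/-- The subgroup generated by the lifts of the `p`-elements of `L`. -/
noncomputable def liftP (C : Coprime p π) (L : Subgroup H) : Subgroup E :=
  Subgroup.closure (C.sp '' {x | x ∈ L ∧ IsPElem p x})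

variable (C : Coprime p π) {L : Subgroup H}

theorem sp_mem_liftP {x : H} (hx : x ∈ L) (h2 : IsPElem p x) : C.sp x ∈ liftP C L :=
  Subgroup.subset_closure ⟨x, ⟨hx, h2⟩, rfl⟩

theorem π_liftP {z : E} (hz : z ∈ liftP C L) : π z ∈ L := by
  induction hz using Subgroup.closure_induction with
  | mem y hy => obtain ⟨x, hx, rfl⟩ := hy; rw [C.π_sp]; exact hx.1
  | one => rw [map_one]; exact one_mem _
  | mul a b _ _ ha hb => rw [map_mul]; exact mul_mem ha hb
  | inv a _ ha => rw [map_inv]; exact inv_mem ha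

theorem exists_liftP (hL : L ≤ Subgroup.closure {x | x ∈ L ∧ IsPElem p x}) {x : H} (hx : x ∈ L) :
    ∃ z ∈ liftP C L, π z = x := by
  have hle : L ≤ (liftP C L).map π := hL.trans ((Subgroup.closure_le _).2 fun y hy =>
    ⟨C.sp y, sp_mem_liftP C hy.1 hy.2, C.π_sp y⟩)
  exact hle hx

theorem conj_liftP {e z : E} (he : ∀ x ∈ L, π e * x * (π e)⁻¹ ∈ L) (hz : z ∈ liftP C L) :
    e * z * e⁻¹ ∈ liftP C L := by
  induction hz using Subgroup.closure_induction with
  | mem y hy =>
    obtain ⟨x, ⟨hx, h2⟩, rfl⟩ := hy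
    rw [C.sp_conj e h2]
    exact sp_mem_liftP C (he x hx) (h2.conj _)
  | one => simp [one_mem]
  | mul a b _ _ ha hb =>
    rw [show e * (a * b) * e⁻¹ = e * a * e⁻¹ * (e * b * e⁻¹) by group]
    exact mul_mem ha hb
  | inv a _ ha =>
    rw [show e * a⁻¹ * e⁻¹ = (e * a * e⁻¹)⁻¹ by group]
    exact inv_mem ha

/-- The lift is faithful. -/
theorem liftP_eq_one [Finite E] [Fact p.Prime]
    (hL : L ≤ Subgroup.closure {x | x ∈ L ∧ IsPElem p x})
    (hsyl : ∀ (l : ℕ) [Fact l.Prime], l ≠ p → ∀ P : Sylow l ↥L, CycQuat ↥(P : Subgroup ↥L))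
    {z : E} (hz : z ∈ liftP C L) (h1 : π z = 1) : z = 1 := by
  haveI : Finite H := Finite.of_surjective π C.surj
  let π' : ↥(liftP C L) →* ↥L :=
    (π.comp (liftP C L).subtype).codRestrict L fun w => π_liftP C w.2
  have hval : ∀ w : ↥(liftP C L), π' w = 1 → π (w : E) = 1 := fun w hw => congrArg Subtype.val hw
  have hsurj : Function.Surjective π' := fun x => by
    obtain ⟨w, hw, e⟩ := exists_liftP C hL x.2
    exact ⟨⟨w, hw⟩, Subtype.ext e⟩
  have C' : Coprime p π' := by
    refine ⟨hsurj, fun w hw => Subgroup.mem_center_iff.2 fun v => Subtype.ext ?_,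
      C.cop.coprime_dvd_left (Subgroup.card_dvd_of_injective
        (f := ((liftP C L).subtype.comp π'.ker.subtype).codRestrict π.ker fun w => hval w.1 w.2) ?_)⟩
    · exact (ker_comm π C.cen (hval w hw) (v : E)).eq
    · exact fun a b e => Subtype.ext (Subtype.ext (congrArg Subtype.val e :))
  have hgen : Subgroup.closure {g : ↥(liftP C L) | IsPElem p g} = ⊤ := by
    rw [eq_top_iff]
    rintro ⟨w, hw⟩ -
    induction hw using Subgroup.closure_induction with
    | mem y hy =>
      obtain ⟨x, ⟨hx, h2⟩, rfl⟩ := hy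
      refine Subgroup.subset_closure ?_
      obtain ⟨k, hk⟩ := C.sp_pElem h2
      exact ⟨k, Subtype.ext hk⟩
    | one => exact one_mem _
    | mul a b _ _ ha hb => exact mul_mem ha hb
    | inv a _ ha => exact inv_mem ha
  have hker : π'.ker = ⊥ := by
    refine ker_eq_bot_of_primes hgen π' C' fun l hl hlp E' _ _ σ hσ hc hgen' hpg => ?_
    haveI := Fact.mk hl
    set P : Sylow l ↥L := default
    refine ker_eq_bot_of_prime hgen' σ hσ hc hlp hpg (P : Subgroup ↥L) P.not_dvd_index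
      fun w hw1 hw => ?_
    rcases hsyl l hlp P with hcyc | ⟨n, hn, ⟨e⟩⟩
    · obtain ⟨g, hg⟩ := hcyc.exists_generator
      have hmem : ∀ a : E', σ a ∈ (P : Subgroup ↥L) → σ a ∈ Subgroup.zpowers (g : ↥L) := fun a ha => by
        obtain ⟨i, hi⟩ := Subgroup.mem_zpowers_iff.1 (hg ⟨σ a, ha⟩)
        exact Subgroup.mem_zpowers_iff.2 ⟨i, congrArg Subtype.val hi⟩
      have hbot : ⁅(P : Subgroup ↥L).comap σ, (P : Subgroup ↥L).comap σ⁆ ≤ ⊥ := by
        refine Subgroup.commutator_le.2 fun a ha b hb => Subgroup.mem_bot.2 ?_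
        exact commutatorElement_eq_one_iff_commute.2
          (commute_of_zpowers σ hσ hc (hmem a ha) (hmem b hb))
      exact Subgroup.mem_bot.1 (hbot hw)
    · haveI := hn
      let Δ := (P : Subgroup ↥L).comap σ
      let τ : ↥Δ →* QuaternionGroup n :=
        e.toMonoidHom.comp ((σ.comp Δ.subtype).codRestrict (P : Subgroup ↥L) fun d => d.2)
      have hτ : Function.Surjective τ := fun y => by
        obtain ⟨a, ha⟩ := hσ ((e.symm y : ↥(P : Subgroup ↥L)) : ↥L)
        refine ⟨⟨a, by show σ a ∈ (P : Subgroup ↥L); rw [ha]; exact (e.symm y).2⟩, ?_⟩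
        show e _ = y
        conv_rhs => rw [← e.apply_symm_apply y]
        exact congrArg e (Subtype.ext ha)
      have hτc : τ.ker ≤ Subgroup.center ↥Δ := fun d hd => by
        refine Subgroup.mem_center_iff.2 fun v => Subtype.ext ?_
        have h : (σ (d : E')) = 1 := congrArg Subtype.val
          (e.injective ((MonoidHom.mem_ker.1 hd).trans (map_one e).symm) :)
        exact (ker_comm σ hc h (v : E')).eq
      have hbot := Cfsg.Agent.Grp.SchurM.inf_commutator_eq_bot
        (Cfsg.Agent.S3963.result n) τ hτ hτc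
      obtain ⟨v, hv, rfl⟩ : w ∈ (commutator ↥Δ).map Δ.subtype := by
        rwa [commutator_def, Subgroup.map_commutator, ← MonoidHom.range_eq_map,
          Subgroup.range_subtype]
      have hvker : v ∈ τ.ker := by
        show e _ = 1
        rw [← map_one e]
        exact congrArg e (Subtype.ext hw1)
      have : v = 1 := Subgroup.mem_bot.1 (hbot.le (Subgroup.mem_inf.2 ⟨hvker, hv⟩))
      rw [this, map_one]
  have : (⟨z, hz⟩ : ↥(liftP C L)) = 1 := Subgroup.mem_bot.1 (hker.le (show π' ⟨z, hz⟩ = 1 from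
    Subtype.ext h1))
  exact congrArg Subtype.val this

theorem liftP_inj [Finite E] [Fact p.Prime] (hL : L ≤ Subgroup.closure {x | x ∈ L ∧ IsPElem p x})
    (hsyl : ∀ (l : ℕ) [Fact l.Prime], l ≠ p → ∀ P : Sylow l ↥L, CycQuat ↥(P : Subgroup ↥L))
    {a b : E} (ha : a ∈ liftP C L) (hb : b ∈ liftP C L) (h : π a = π b) : a = b :=
  mul_inv_eq_one.1 (liftP_eq_one C hL hsyl (mul_mem ha (inv_mem hb))
    (by rw [map_mul, map_inv, h, mul_inv_cancel]))

omit C

/-- The elements generated by two elements that are involutions with product of order dividing six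
modulo a normalised subgroup. -/
theorem exists_word {G : Type*} [Group G] (T : Subgroup G) {a b : G}
    (ha : ∀ t ∈ T, a * t * a⁻¹ ∈ T) (hb : ∀ t ∈ T, b * t * b⁻¹ ∈ T) (haa : a * a ∈ T)
    (hbb : b * b ∈ T) (hw : (b * a) ^ 2 * b * a * ((b * a) ^ 2 * b)⁻¹ * a⁻¹ ∈ T) {y : G}
    (hy : y ∈ Subgroup.closure ((T : Set G) ∪ {a, b})) :
    ∃ k < 6, ∃ e : Bool, ∃ t ∈ T, y = t * ((b * a) ^ k * cond e a 1) := by
  have hnorm : ∀ c, (∀ t ∈ T, c * t * c⁻¹ ∈ T) → c * c ∈ T →
      c ∈ Subgroup.normalizer (T : Set G) := fun c hc hcc => by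
    refine Subgroup.mem_normalizer_iff.2 fun t => ⟨hc t, fun ht => ?_⟩
    have h1 := hc _ ht
    rw [show c * (c * t * c⁻¹) * c⁻¹ = (c * c) * t * (c * c)⁻¹ by group] at h1
    have h2 := mul_mem (mul_mem (inv_mem hcc) h1) hcc
    rwa [show (c * c)⁻¹ * ((c * c) * t * (c * c)⁻¹) * (c * c) = t by group] at h2
  set N := Subgroup.closure ((T : Set G) ∪ {a, b}) with hN
  have hNle : N ≤ Subgroup.normalizer (T : Set G) := by
    rw [hN, Subgroup.closure_le]
    rintro x (hx | rfl | rfl)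
    exacts [Subgroup.le_normalizer hx, hnorm _ ha haa, hnorm _ hb hbb]
  have hTN : T ≤ N := fun t ht => Subgroup.subset_closure (Or.inl ht)
  haveI : (T.subgroupOf N).Normal := (Subgroup.normal_subgroupOf_iff_le_normalizer hTN).2 hNle
  have hgen : ∀ c ∈ ({a, b} : Set G), c ∈ N := fun c hc => Subgroup.subset_closure (Or.inr hc)
  let A : ↥N ⧸ T.subgroupOf N := QuotientGroup.mk ⟨a, hgen a (Or.inl rfl)⟩
  let B : ↥N ⧸ T.subgroupOf N := QuotientGroup.mk ⟨b, hgen b (Or.inr rfl)⟩
  have hA : A * A = 1 := by rw [← QuotientGroup.mk_mul, QuotientGroup.eq_one_iff]; exact haa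
  have hB : B * B = 1 := by rw [← QuotientGroup.mk_mul, QuotientGroup.eq_one_iff]; exact hbb
  have iA : A⁻¹ = A := inv_eq_of_mul_eq_one_right hA
  have iB : B⁻¹ = B := inv_eq_of_mul_eq_one_right hB
  have h6 : (B * A) ^ 6 = 1 := by
    have h1 : (B * A) ^ 2 * B * A * ((B * A) ^ 2 * B)⁻¹ * A⁻¹ = 1 := by
      simp only [A, B, ← QuotientGroup.mk_mul, ← QuotientGroup.mk_pow, ← QuotientGroup.mk_inv]
      rw [QuotientGroup.eq_one_iff]
      exact hw
    simpa [pow_succ, _root_.mul_inv_rev, iA, iB, mul_assoc] using h1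
  have hAx : ∀ k : ℕ, A * (B * A) ^ k = (B * A) ^ (5 * k) * A := fun k => by
    have e : A * (B * A) * A⁻¹ = (B * A) ^ 5 := by
      rw [show (B * A) ^ 5 = (B * A)⁻¹ from eq_inv_of_mul_eq_one_left (by rw [← pow_succ, h6])]
      simp [iA, iB, mul_assoc, hA]
    rw [pow_mul, ← e, conj_pow, inv_mul_cancel_right]
  have step : ∀ q : ↥N ⧸ T.subgroupOf N, (∃ k e, q = (B * A) ^ (k : ℕ) * cond e A 1) →
      (∃ k e, A * q = (B * A) ^ (k : ℕ) * cond e A 1) ∧
      ∃ k e, B * q = (B * A) ^ (k : ℕ) * cond e A 1 := by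
    rintro _ ⟨k, e, rfl⟩
    have hAq : ∃ k' e', A * ((B * A) ^ k * cond e A 1) = (B * A) ^ (k' : ℕ) * cond e' A 1 := by
      refine ⟨5 * k, !e, ?_⟩
      rw [← mul_assoc, hAx, mul_assoc]
      cases e <;> simp [hA]
    refine ⟨hAq, ?_⟩
    obtain ⟨k', e', h⟩ := hAq
    refine ⟨k' + 1, e', ?_⟩
    rw [pow_succ', mul_assoc (B * A), ← h, mul_assoc B A, ← mul_assoc A A, hA, one_mul]
  have main : ∀ (x : G) (hx : x ∈ N),
      ∃ k e, (QuotientGroup.mk (⟨x, hx⟩ : ↥N) : ↥N ⧸ T.subgroupOf N) =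
        (B * A) ^ (k : ℕ) * cond e A 1 := by
    intro x hx
    induction hx using Subgroup.closure_induction_left with
    | one =>
      refine ⟨0, false, ?_⟩
      rw [pow_zero, cond_false, mul_one]
      exact QuotientGroup.mk_one _
    | mul_left c hc z hz ih =>
      rcases hc with hc | rfl | rfl
      · obtain ⟨k, e, h⟩ := ih
        refine ⟨k, e, h ▸ ?_⟩
        rw [QuotientGroup.eq]
        show (c * z)⁻¹ * z ∈ T
        rw [_root_.mul_inv_rev]
        exact ((Subgroup.mem_normalizer_iff.1 (inv_mem (hNle hz)) c⁻¹).1 (inv_mem hc)) |>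
          (by simpa [mul_assoc] using ·)
      · exact (step _ ih).1
      · exact (step _ ih).2
    | inv_mul_cancel c hc z hz ih =>
      rcases hc with hc | rfl | rfl
      · obtain ⟨k, e, h⟩ := ih
        refine ⟨k, e, h ▸ ?_⟩
        rw [QuotientGroup.eq]
        show (c⁻¹ * z)⁻¹ * z ∈ T
        rw [_root_.mul_inv_rev, inv_inv]
        exact ((Subgroup.mem_normalizer_iff.1 (inv_mem (hNle hz)) c).1 hc) |>
          (by simpa [mul_assoc] using ·)
      · obtain ⟨k, e, h⟩ := (step _ ih).1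
        exact ⟨k, e, (congrArg (· * QuotientGroup.mk (⟨z, hz⟩ : ↥N)) iA).trans h⟩
      · obtain ⟨k, e, h⟩ := (step _ ih).2
        exact ⟨k, e, (congrArg (· * QuotientGroup.mk (⟨z, hz⟩ : ↥N)) iB).trans h⟩
  obtain ⟨k, e, h⟩ := main y hy
  refine ⟨k % 6, Nat.mod_lt _ (by omega), e, y * ((b * a) ^ (k % 6) * cond e a 1)⁻¹, ?_,
    (inv_mul_cancel_right y _).symm⟩
  have hmem : (b * a) ^ (k % 6) * cond e a 1 ∈ N := by
    refine mul_mem (pow_mem (mul_mem (hgen b (Or.inr rfl)) (hgen a (Or.inl rfl))) _) ?_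
    cases e
    exacts [one_mem _, hgen a (Or.inl rfl)]
  have h' : (QuotientGroup.mk (⟨y, hy⟩ * (⟨_, hmem⟩ : ↥N)⁻¹) : ↥N ⧸ T.subgroupOf N) = 1 := by
    rw [QuotientGroup.mk_mul, QuotientGroup.mk_inv, h, pow_eq_pow_mod k h6]
    refine mul_inv_eq_one.2 ?_
    simp only [A, B, ← QuotientGroup.mk_mul, ← QuotientGroup.mk_pow]
    cases e
    · simp only [cond_false, mul_one]; rfl
    · simp only [cond_true, ← QuotientGroup.mk_mul]; rfl
  exact Subgroup.mem_subgroupOf.1 ((QuotientGroup.eq_one_iff (N := T.subgroupOf N) _).1 h')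

end Cfsg.Agent.Classical.Triality
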