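import Cfsg.Agent.Lib.Classical.UnitMultPLift
import Cfsg.Agent.Lib.Lie.SLMult
import Cfsg.Agent.Lib.Lie.UnPresTop

/-!
A central extension of the frame group of `SU_n(q)` with kernel of order prime to the characteristic: the lift of
the Levi factor and of the unipotent radical.
-/

set_option autoImplicit false
set_option linter.unusedSectionVars false

namespace Cfsg.Agent.Classical.UnitMult

open Matrix Cfsg.Agent.Classical Cfsg.Agent.Classical.PSUAut Cfsg.Agent.Lie.UnPres
open Cfsg.Agent.Lie.SLMult (tv tv_coe tv_add tv_zero tv_comm tv_mul)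
open scoped commutatorElement

section General

variable {p : ℕ} {E H : Type*} [Group E] [Group H] {π : E →* H}

/-- Two lifts of a group generated by elements of `p`-power order agree. -/
theorem Coprime.hom_ext (C : Coprime p π) {M : Type*} [Group M]
    (hM : Subgroup.closure {g : M | IsPElem p g} = ⊤) (f g : M →* E) (h : ∀ x, π (f x) = π (g x)) : f = g :=
  MonoidHom.eq_of_eqOn_dense hM fun x hx => C.lift_unique (h x) (hx.map f) (hx.map g)

theorem Coprime.commute_of_pElem (C : Coprime p π) {x : E} (hx : IsPElem p x) {e : E}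
    (h : Commute (π e) (π x)) : Commute e x := by
  refine mul_inv_eq_iff_eq_mul.1 (C.lift_unique ?_ (hx.conj e) hx)
  rw [map_mul, map_mul, map_inv, h.eq, mul_inv_cancel_right]

/-- Conjugation of a lifted group, from its values on two generators. -/
theorem Coprime.conj_hom (C : Coprime p π) {M : Type*} [Group M]
    (hM : Subgroup.closure {g : M | IsPElem p g} = ⊤) {a b : M} (hab : Subgroup.closure ({a, b} : Set M) = ⊤)
    (f g : M →* E) {e : E} (ha : π (e * f a * e⁻¹) = π (g a)) (hb : π (e * f b * e⁻¹) = π (g b)) (x : M) :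
    e * f x * e⁻¹ = g x := by
  refine DFunLike.congr_fun (C.hom_ext hM ((MulAut.conj e).toMonoidHom.comp f) g fun y => ?_) x
  refine DFunLike.congr_fun (MonoidHom.eq_of_eqOn_dense hab (f := π.comp ((MulAut.conj e).toMonoidHom.comp f))
    (g := π.comp g) ?_) y
  rintro _ (rfl | rfl)
  exacts [ha, hb]

/-- The hypothesis on generation gives a kernel inside the derived group. -/
theorem Coprime.ker_le_commutator [Finite E] [Fact p.Prime] (C : Coprime p π)
    (hgen : Subgroup.closure {g : E | IsPElem p g} = ⊤) : π.ker ≤ commutator E := fun z hz =>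
  mem_commutator_of_gen hgen fun hd =>
    (Fact.out : p.Prime).one_lt.ne' (Nat.eq_one_of_dvd_coprimes C.cop
      (hd.trans (π.ker.orderOf_dvd_natCard hz)) dvd_rfl)

/-- An injective part mapping onto the group kills the kernel. -/
theorem ker_eq_bot_of_section [Finite E] [Fact p.Prime] (C : Coprime p π)
    (hgen : Subgroup.closure {g : E | IsPElem p g} = ⊤) (G : Subgroup E) (hmap : G.map π = ⊤)
    (hinj : Function.Injective (π.comp G.subtype)) : π.ker = ⊥ := by
  have hle : commutator E ≤ G := by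
    rw [commutator_def, Subgroup.commutator_le]
    intro a _ b _
    obtain ⟨s, hs, hπs⟩ := (hmap.ge (Subgroup.mem_top (π a)) : π a ∈ G.map π)
    obtain ⟨t, ht, hπt⟩ := (hmap.ge (Subgroup.mem_top (π b)) : π b ∈ G.map π)
    rw [← comm_congr π C.cen hπs hπt, commutatorElement_def]
    exact mul_mem (mul_mem (mul_mem hs ht) (inv_mem hs)) (inv_mem ht)
  rw [eq_bot_iff]
  intro z hz
  exact congrArg Subtype.val (hinj (a₁ := ⟨z, hle (C.ker_le_commutator hgen hz)⟩) (a₂ := 1) (by
    show π z = π 1; rw [map_one]; exact hz))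

end General

section Transvections

variable {F : Type*} [Field F] {N : ℕ} {p : ℕ} [CharP F p]

theorem tv_mulVec {i j : Fin N} (h : i ≠ j) (t : F) (v : Fin N → F) :
    (tv i j t : Matrix (Fin N) (Fin N) F) *ᵥ v = Function.update v i (v i + t * v j) := by
  funext k
  rw [tv_coe h, Matrix.transvection, Matrix.add_mulVec, Matrix.one_mulVec, Matrix.single_mulVec_eq]
  by_cases hk : k = i
  · subst hk; simp
  · simp [hk]

theorem isPElem_tv {i j : Fin N} (h : i ≠ j) (t : F) :
    IsPElem p (tv i j t : SpecialLinearGroup (Fin N) F) := by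
  have key : ∀ m : ℕ, (tv i j t : SpecialLinearGroup (Fin N) F) ^ m = tv i j ((m : F) * t) := fun m => by
    induction m with
    | zero => rw [pow_zero, Nat.cast_zero, zero_mul, tv_zero h]
    | succ m ih => rw [pow_succ, ih, tv_add h, Nat.cast_succ, add_mul, one_mul]
  exact ⟨1, by rw [pow_one, key, CharP.cast_eq_zero, zero_mul, tv_zero h]⟩

theorem sl_closure_pElem : Subgroup.closure {g : SpecialLinearGroup (Fin N) F | IsPElem p g} = ⊤ := by
  rw [eq_top_iff, ← Classical.SL_closure_transvections]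
  refine Subgroup.closure_mono ?_
  rintro _ ⟨⟨i, j, hij, c⟩, rfl⟩
  show IsPElem p _
  convert isPElem_tv (p := p) hij c
  refine Subtype.ext ?_
  rw [tv_coe hij]
  rfl

/-- The Weyl element of two opposite transvection groups. -/
theorem tv_rel {i j : Fin N} (h : i ≠ j) {t : F} (ht : t ≠ 0) (u : F) :
    (tv i j t * tv j i (-t⁻¹) * tv i j t * tv i j u * (tv i j t * tv j i (-t⁻¹) * tv i j t)⁻¹ :
      SpecialLinearGroup (Fin N) F) = tv j i (-(t⁻¹ ^ 2 * u)) := by
  rw [mul_inv_eq_iff_eq_mul]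
  refine Subtype.ext (Matrix.ext_iff_mulVec.2 fun v => ?_)
  simp only [Matrix.SpecialLinearGroup.coe_mul, ← Matrix.mulVec_mulVec, tv_mulVec h, tv_mulVec h.symm]
  funext k
  simp only [Function.update_apply]
  split_ifs <;> subst_vars <;> (try contradiction) <;> field_simp <;> ring

end Transvections

variable {F : Type*} [Field F] [Fintype F] {q : ℕ} {hF : Fintype.card F = q ^ 2} {k ε : ℕ}
  {p : ℕ} [Fact p.Prime] [CharP F p] {E : Type*} [Group E] [Finite E] {π : E →* Hgrp hF (k + 2) ε}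

/-- The lift of the Levi factor. -/
theorem exists_lev_lift (C : Coprime p π) :
    ∃ j : SpecialLinearGroup (Fin (k + 2)) F →* E, ∀ A, π (j A) = lev hF ε A := by
  let x : Fin (k + 2) → Fin (k + 2) → F → Hgrp hF (k + 2) ε := fun i j t => lev hF ε (tv i j t)
  have hx : ∀ {i j : Fin (k + 2)}, i ≠ j → ∀ t, IsPElem p (x i j t) := fun {i j} h t =>
    (isPElem_tv h t).map _
  set Γ : Subgroup E := Subgroup.closure {g | ∃ i j, i ≠ j ∧ ∃ t, g = C.sp (x i j t)} with hΓ
  have hmem : ∀ {i j : Fin (k + 2)}, i ≠ j → ∀ t, C.sp (x i j t) ∈ Γ := fun {i j} h t =>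
    Subgroup.subset_closure ⟨i, j, h, t, rfl⟩
  have hrange : ∀ g ∈ Γ, π g ∈ (lev hF ε : SpecialLinearGroup (Fin (k + 2)) F →* Hgrp hF (k + 2) ε).range := by
    intro g hg
    induction hg using Subgroup.closure_induction with
    | mem g hg => obtain ⟨i, j, -, t, rfl⟩ := hg; exact ⟨_, (C.π_sp _).symm⟩
    | one => rw [map_one]; exact one_mem _
    | mul a b _ _ iha ihb => rw [map_mul]; exact mul_mem iha ihb
    | inv a _ iha => rw [map_inv]; exact inv_mem iha
  let eL := MonoidHom.ofInjective (lev_injective (m := k + 2) (ε := ε) hF)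
  let θ : Γ →* SpecialLinearGroup (Fin (k + 2)) F :=
    eL.symm.toMonoidHom.comp ((π.comp Γ.subtype).codRestrict _ fun g => hrange g g.2)
  have hθ : ∀ g : Γ, lev hF ε (θ g) = π g := fun g => congrArg Subtype.val (eL.apply_symm_apply _)
  let X : Fin (k + 2) → Fin (k + 2) → F → Γ := fun i j t =>
    if h : i ≠ j then ⟨C.sp (x i j t), hmem h t⟩ else 1
  have hX : ∀ {i j : Fin (k + 2)}, i ≠ j → ∀ t, (X i j t : E) = C.sp (x i j t) := fun {i j} h t => by
    simp only [X, dif_pos h]
  have hXp : ∀ {i j : Fin (k + 2)}, i ≠ j → ∀ t, IsPElem p (X i j t : E) := fun {i j} h t => by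
    rw [hX h]; exact C.sp_pElem (hx h t)
  have hπX : ∀ {i j : Fin (k + 2)}, i ≠ j → ∀ t, π (X i j t : E) = lev hF ε (tv i j t) := fun {i j} h t => by
    rw [hX h, C.π_sp]
  have hcom : ∀ {i j k' l : Fin (k + 2)}, i ≠ j → k' ≠ l → j ≠ k' → i ≠ l → ∀ t u,
      Commute (X i j t : E) (X k' l u) := fun {i j k' l} h1 h2 h3 h4 t u => by
    refine C.commute_of_pElem (hXp h2 u) ?_
    rw [hπX h1, hπX h2]
    exact (tv_comm h1 h2 h3 h4 t u).map _
  let A : Lie.SLSteinberg.SLSt F (k + 2) Γ :=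
    { X := X
      add := fun i j h t u => Subtype.ext (C.lift_unique (by
          rw [Subgroup.coe_mul, map_mul, hπX h, hπX h, hπX h, ← map_mul, tv_add h])
        (by
          obtain ⟨a, ha⟩ := hXp h t; obtain ⟨b, hb⟩ := hXp h u
          exact ⟨a + b, by rw [Subgroup.coe_mul, (hcom h h h.symm h t u).mul_pow,
            IsPElem.mono (Nat.le_add_right a b) ha, IsPElem.mono (Nat.le_add_left b a) hb, one_mul]⟩) (hXp h _))
      comm₀ := fun i j k' l h1 h2 h3 h4 t u => Subtype.ext (hcom h1 h2 h3 h4 t u).eq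
      comm₁ := fun i j k' h1 h2 h3 t u => Subtype.ext (by
        simp only [Subgroup.coe_mul]
        have hc : Commute (X i k' (t * u) : E) (X j k' u) := hcom h3 h2 (Ne.symm h2) h3 _ _
        have hp : IsPElem p ((X i k' (t * u) : E) * X j k' u) := by
          obtain ⟨a, ha⟩ := hXp h3 (t * u); obtain ⟨b, hb⟩ := hXp h2 u
          exact ⟨a + b, by rw [hc.mul_pow, IsPElem.mono (Nat.le_add_right a b) ha,
            IsPElem.mono (Nat.le_add_left b a) hb, one_mul]⟩
        refine mul_inv_eq_iff_eq_mul.1 (C.lift_unique ?_ ((hXp h2 u).conj _) hp)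
        rw [map_mul, map_mul, map_inv, map_mul, hπX h1, hπX h2, hπX h3, ← map_mul, ← map_inv, ← map_mul,
          ← map_mul, tv_mul h1 h2 h3, mul_inv_cancel_right])
      θ := θ
      θX := fun i j h t => by
        rw [← tv_coe h]
        exact congrArg Subtype.val (lev_injective hF ((hθ _).trans (hπX h t)))
      rel := fun i j h t u ht => Subtype.ext (by
        simp only [Subgroup.coe_mul, Subgroup.coe_inv]
        refine C.lift_unique ?_ ((hXp h u).conj _) (hXp h.symm _)
        simp only [map_mul, map_inv, hπX h, hπX h.symm]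
        simp only [← map_mul, ← map_inv]
        rw [tv_rel h ht]) }
  have hgen : Subgroup.closure {g | ∃ i j, i ≠ j ∧ ∃ u, g = A.X i j u} = ⊤ := by
    refine (Subgroup.map_injective Γ.subtype_injective) ?_
    rw [MonoidHom.map_closure, ← MonoidHom.range_eq_map, Subgroup.range_subtype]
    refine congrArg Subgroup.closure (Set.ext fun g => ?_)
    constructor
    · rintro ⟨_, ⟨i, j, h, u, rfl⟩, rfl⟩; exact ⟨i, j, h, u, hX h u⟩
    · rintro ⟨i, j, h, u, rfl⟩; exact ⟨_, ⟨i, j, h, u, rfl⟩, hX h u⟩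
  let e := MulEquiv.ofBijective A.θ (Lie.SLSteinberg.bijective (by omega) A hgen)
  refine ⟨Γ.subtype.comp e.symm.toMonoidHom, fun M => ?_⟩
  show π (e.symm M : E) = _
  rw [← hθ]
  exact congrArg (lev hF ε) (e.apply_symm_apply M)

variable (hF) in
/-- The unipotent radical. -/
def Urad (k ε : ℕ) : Subgroup (Hgrp hF (k + 2) ε) where
  carrier := {g | ∃ v Z, UOK hF v Z ∧ g = uH hF v Z}
  one_mem' := ⟨0, 0, UOK.zero hF, (uH_zero hF).symm⟩
  mul_mem' := by
    rintro _ _ ⟨v, Z, h1, rfl⟩ ⟨v', Z', h2, rfl⟩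
    exact ⟨_, _, h1.mul hF h2, uH_mul hF h1 h2⟩
  inv_mem' := by
    rintro _ ⟨v, Z, h1, rfl⟩
    exact ⟨_, _, h1.inv hF, uH_inv hF h1⟩

theorem Urad_isPGroup : IsPGroup p (Urad hF k ε) := by
  rintro ⟨g, v, Z, h1, rfl⟩
  have hpow : ∀ (v : Matrix (Fin (k + 2)) (Fin ε) F) (Z : Matrix (Fin (k + 2)) (Fin (k + 2)) F) (m : ℕ),
      UOK hF v Z → ∃ Z', UOK hF (m • v) Z' ∧ uH hF v Z ^ m = uH hF (m • v) Z' ∧ (v = 0 → Z' = m • Z) := by
    intro v Z m h1
    induction m with
    | zero => exact ⟨0, by rw [zero_smul]; exact UOK.zero hF, by rw [pow_zero, zero_smul, uH_zero], fun _ => by rw [zero_smul]⟩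
    | succ m ih =>
      obtain ⟨Z', h2, e, e0⟩ := ih
      refine ⟨Z' + Z - m • v * ct hF v, by rw [succ_nsmul]; exact h2.mul hF h1,
        by rw [pow_succ, e, uH_mul hF h2 h1, succ_nsmul], fun hv => ?_⟩
      rw [e0 hv, hv, smul_zero, Matrix.zero_mul, sub_zero, succ_nsmul]
  have hz : ∀ {a b : ℕ} (M : Matrix (Fin a) (Fin b) F), p • M = 0 := fun M => by
    ext x y
    simp [CharP.cast_eq_zero]
  obtain ⟨Z', h2, e, -⟩ := hpow v Z p h1
  rw [hz] at h2 e
  obtain ⟨Z'', -, e', e0⟩ := hpow 0 Z' p h2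
  refine ⟨2, Subtype.ext ?_⟩
  show uH hF v Z ^ p ^ 2 = 1
  rw [pow_two, pow_mul, e, e', e0 rfl, hz, hz, uH_zero]

/-- The lift of the radical. -/
noncomputable def Usp (C : Coprime p π) : Subgroup E :=
  (MonoidHom.mk' (fun g : Urad hF k ε => C.sp (g : Hgrp hF (k + 2) ε))
    fun a b => C.sp_mul Urad_isPGroup a.2 b.2).range

theorem Usp_sp (C : Coprime p π) {g : Hgrp hF (k + 2) ε} (hg : g ∈ Urad hF k ε) : C.sp g ∈ Usp C :=
  ⟨⟨g, hg⟩, rfl⟩

theorem Usp_pElem (C : Coprime p π) {x : E} (hx : x ∈ Usp C) : IsPElem p x := by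
  obtain ⟨g, rfl⟩ := hx
  obtain ⟨m, hm⟩ := Urad_isPGroup (p := p) g
  exact C.sp_pElem ⟨m, congrArg Subtype.val hm⟩

theorem Usp_ext (C : Coprime p π) {x y : E} (hx : x ∈ Usp C) (hy : y ∈ Usp C) (h : π x = π y) : x = y :=
  C.lift_unique h (Usp_pElem C hx) (Usp_pElem C hy)

theorem Usp_conj (C : Coprime p π) {j : SpecialLinearGroup (Fin (k + 2)) F →* E}
    (hj : ∀ A, π (j A) = lev hF ε A) (A : SpecialLinearGroup (Fin (k + 2)) F) {x : E} (hx : x ∈ Usp C) :
    j A * x * (j A)⁻¹ ∈ Usp C := by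
  obtain ⟨⟨g, v, Z, h1, rfl⟩, rfl⟩ := hx
  obtain ⟨m, hm⟩ := Urad_isPGroup (p := p) (⟨uH hF v Z, v, Z, h1, rfl⟩ : Urad hF k ε)
  show j A * C.sp (uH hF v Z) * (j A)⁻¹ ∈ _
  rw [C.sp_conj _ ⟨m, congrArg Subtype.val hm⟩, hj, lev_uH hF A h1]
  exact Usp_sp C ⟨_, _, h1.act hF A.1, rfl⟩

theorem Tw_mem (C : Coprime p π) {j : SpecialLinearGroup (Fin (k + 2)) F →* E}
    (hj : ∀ A, π (j A) = lev hF ε A) {u : E} (hu : u ∈ Usp C) (v : Fin (k + 2) → F) : Tw j u v ∈ Usp C := by
  unfold Tw
  split_ifs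
  · exact one_mem _
  · exact Usp_conj C hj _ hu

theorem Bw_mem {V G : Type*} [AddCommGroup V] [Group G] {S : Subgroup G} {T : V → G} (hT : ∀ v, T v ∈ S) (a b : V) :
    Bw T a b ∈ S := mul_mem (mul_mem (hT _) (inv_mem (hT _))) (inv_mem (hT _))

theorem comm_mem {G : Type*} [Group G] {S : Subgroup G} {x y : G} (hx : x ∈ S) (hy : y ∈ S) : ⁅x, y⁆ ∈ S := by
  rw [commutatorElement_def]
  exact mul_mem (mul_mem (mul_mem hx hy) (inv_mem hx)) (inv_mem hy)

/-- Relations hold below once their images are the model relations. -/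
theorem map_rel {P Q : Type*} [Group P] [Group Q] (f : P →* Q) {L : List (P × P)} {L' : List (Q × Q)}
    (hL : L.map (Prod.map f f) = L') (h : ∀ r ∈ L', r.1 = r.2) : ∀ r ∈ L, f r.1 = f r.2 := fun r hr =>
  h (Prod.map f f r) (hL ▸ List.mem_map.2 ⟨r, hr, rfl⟩)

/-- Relations hold in a subgroup once they hold in the group. -/
theorem sub_rel {P : Type*} [Group P] {S : Subgroup P} {L : List (S × S)} {L' : List (P × P)}
    (hL : L.map (Prod.map S.subtype S.subtype) = L') (h : ∀ r ∈ L', r.1 = r.2) : ∀ r ∈ L, r.1 = r.2 :=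
  fun r hr => Subtype.ext (map_rel S.subtype hL h r hr)

/-- The generated subgroup maps onto the frame group. -/
theorem ker_eq_bot_of_engine (C : Coprime p π) (hgen : Subgroup.closure {g : E | IsPElem p g} = ⊤)
    (j : SpecialLinearGroup (Fin (k + 2)) F →* E) (hj : ∀ A, π (j A) = lev hF ε A) {u w : E}
    {u₀ w₀ : Hgrp hF (k + 2) ε} (hu : π u = u₀) (hw : π w = w₀)
    (htop : (lev hF ε : SpecialLinearGroup (Fin (k + 2)) F →* Hgrp hF (k + 2) ε).range ⊔
      Subgroup.closure {u₀, w₀} = ⊤)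
    (hinj : ∀ (G : Subgroup E) (j' : SpecialLinearGroup (Fin (k + 2)) F →* G) (u' w' : G),
      (∀ A, (j' A : E) = j A) → (u' : E) = u → (w' : E) = w →
      j'.range ⊔ Subgroup.closure {u', w'} = ⊤ → Function.Injective (π.comp G.subtype)) : π.ker = ⊥ := by
  set G := j.range ⊔ Subgroup.closure {u, w} with hG
  refine ker_eq_bot_of_section C hgen G ?_ (hinj G
    (j.codRestrict G fun A => Subgroup.mem_sup_left ⟨A, rfl⟩)
    ⟨u, Subgroup.mem_sup_right (Subgroup.subset_closure (Or.inl rfl))⟩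
    ⟨w, Subgroup.mem_sup_right (Subgroup.subset_closure (Or.inr rfl))⟩ (fun _ => rfl) rfl rfl ?_)
  · rw [hG, Subgroup.map_sup, MonoidHom.map_closure, Set.image_pair, hu, hw, ← htop, MonoidHom.map_range]
    congr 2
    exact MonoidHom.ext hj
  · refine Subgroup.map_injective G.subtype_injective ?_
    rw [Subgroup.map_sup, MonoidHom.map_closure, Set.image_pair, ← MonoidHom.range_eq_map, Subgroup.range_subtype,
      MonoidHom.map_range]
    rfl

end Cfsg.Agent.Classical.UnitMult
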