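import Cfsg.Agent.Lib.Classical.E6MultLevi
import Cfsg.Agent.Lib.Classical.TrialityLiftP
import Cfsg.Agent.Lib.Classical.UnitMultEngineBase
import Cfsg.Agent.Lib.Classical.SLTwoSylow
import Mathlib.GroupTheory.Coxeter.Basic

/-!
A stem extension of ²E₆(q) with kernel of order prime to the characteristic has a cyclic kernel of
order dividing `gcd(3, q + 1)`: the lifts of the four rank one groups carry a lift of the monomial
group, and with the lift of the unipotent group a subgroup meeting the kernel only in that of the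
parametrisation of the torus.
-/

set_option autoImplicit false
set_option linter.unusedSectionVars false
set_option linter.unusedSimpArgs false
set_option maxRecDepth 20000

namespace Cfsg.Agent.Classical.E6Mult

open Cfsg.Lie Cfsg.Agent.Lie.Chev
open Cfsg.Agent.Classical.UnitMult (Coprime IsPElem comm_congr)
open Cfsg.Agent.Classical.Triality (CycQuat liftP sp_mem_liftP π_liftP exists_liftP conj_liftP
  liftP_inj mem_of_gens)
open scoped MatrixGroups commutatorElement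

/-- The join of two commuting subgroups is the set of products. -/
theorem exists_mul_of_sup {G : Type*} [Group G] {A B : Subgroup G}
    (h : ∀ a ∈ A, ∀ b ∈ B, Commute a b) {z : G} (hz : z ∈ A ⊔ B) :
    ∃ a ∈ A, ∃ b ∈ B, z = a * b := by
  let P : Subgroup G :=
    { carrier := {z | ∃ a ∈ A, ∃ b ∈ B, z = a * b}
      one_mem' := ⟨1, one_mem _, 1, one_mem _, (mul_one 1).symm⟩
      mul_mem' := by
        rintro _ _ ⟨a, ha, b, hb, rfl⟩ ⟨a', ha', b', hb', rfl⟩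
        refine ⟨a * a', mul_mem ha ha', b * b', mul_mem hb hb', ?_⟩
        calc a * b * (a' * b') = a * (b * a') * b' := by group
          _ = _ := by rw [← (h a' ha' b hb).eq]; group
      inv_mem' := by
        rintro _ ⟨a, ha, b, hb, rfl⟩
        refine ⟨a⁻¹, inv_mem ha, b⁻¹, inv_mem hb, ?_⟩
        rw [_root_.mul_inv_rev]
        exact (h a⁻¹ (inv_mem ha) b⁻¹ (inv_mem hb)).eq.symm }
  exact (sup_le (fun a ha => ⟨a, ha, 1, one_mem _, (mul_one a).symm⟩)
    (fun b hb => ⟨1, one_mem _, b, hb, (one_mul b).symm⟩) : A ⊔ B ≤ P) hz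

/-- Conjugation carries the lift of a group into the lift of its image. -/
theorem conj_liftP_to {E H : Type*} [Group E] [Group H] {π : E →* H} {p : ℕ} (C : Coprime p π)
    {L L' : Subgroup H} {e z : E} (he : ∀ x ∈ L, π e * x * (π e)⁻¹ ∈ L') (hz : z ∈ liftP C L) :
    e * z * e⁻¹ ∈ liftP C L' := by
  induction hz using Subgroup.closure_induction with
  | mem y hy =>
    obtain ⟨x, ⟨hx, h2⟩, rfl⟩ := hy
    rw [C.sp_conj e h2]
    exact sp_mem_liftP C (he x hx) (h2.conj _)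
  | one => simp [one_mem]
  | mul a b _ _ ha hb =>
    rw [show e * (a * b) * e⁻¹ = e * a * e⁻¹ * (e * b * e⁻¹) by group]
    exact mul_mem ha hb
  | inv a _ ha =>
    rw [show e * a⁻¹ * e⁻¹ = (e * a * e⁻¹)⁻¹ by group]
    exact inv_mem ha

/-- Two involutions: the order of the product is at most two, three, or four. -/
theorem invol_rels {G : Type*} [Group G] {a b : G} (ha : a * a = 1) (hb : b * b = 1) :
    (a * b * a⁻¹ = b → (a * b) ^ 2 = 1) ∧
    (a * b * a * (a * b)⁻¹ = b → (a * b) ^ 3 = 1) ∧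
    (b * a * b * a * (b * a * b)⁻¹ = a → (a * b) ^ 4 = 1) := by
  have ha' : a⁻¹ = a := inv_eq_of_mul_eq_one_right ha
  have hb' : b⁻¹ = b := inv_eq_of_mul_eq_one_right hb
  refine ⟨fun h => ?_, fun h => ?_, fun h => ?_⟩
  · rw [ha'] at h
    calc (a * b) ^ 2 = (a * b * a) * b := by rw [pow_two]; group
      _ = 1 := by rw [h, hb]
  · rw [_root_.mul_inv_rev, ha', hb'] at h
    calc (a * b) ^ 3 = (a * b * a * (b * a)) * b := by rw [pow_three]; group
      _ = 1 := by rw [h, hb]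
  · rw [_root_.mul_inv_rev, _root_.mul_inv_rev, ha', hb'] at h
    have e : (b * a) ^ 4 = 1 := by
      calc (b * a) ^ 4 = (b * a * b * a * (b * (a * b))) * a := by
            rw [pow_succ, pow_three]; group
        _ = 1 := by rw [h, ha]
    rw [show a * b = (b * a)⁻¹ by rw [_root_.mul_inv_rev, ha', hb'], inv_pow, e, inv_one]

variable {K : Type*} [Field K] [Fintype K] (f : K →+* K) {q : ℕ} (hf : ∀ t, f t = t ^ q)
  (hK : Fintype.card K = q ^ 2) {p : ℕ} [Fact p.Prime] [CharP K p]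

include hf hK

local notation "Z" => E6.datum f hf hK
local notation "NN" => E6.nodes f hf hK

theorem q_eq : ∃ j, q = p ^ j := by
  obtain ⟨n, hp, hn⟩ := FiniteField.card K p
  have h : q ∣ p ^ (n : ℕ) := ⟨q, by rw [← hn, hK, pow_two]⟩
  obtain ⟨j, -, hj⟩ := (Nat.dvd_prime_pow hp).1 h
  exact ⟨j, hj⟩

theorem card_subU : Nat.card ↥(subU f hf hK) = q ^ 36 := by
  have h : (chevE6.posUnipotent K ⊓ twistedE6 K q).subgroupOf (Z).G₁ = subU f hf hK :=
    Subgroup.inf_subgroupOf_right _ _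
  rw [← h]
  refine (Nat.card_congr (Subgroup.subgroupOfEquivOfLe
    (inf_le_right : chevE6.posUnipotent K ⊓ twistedE6 K q ≤ (Z).G₁)).toEquiv).trans ?_
  exact E6.card_U f hf hK

theorem isPGroup_subU : IsPGroup p ↥(subU f hf hK) := by
  obtain ⟨j, rfl⟩ := q_eq f hf hK (p := p)
  exact IsPGroup.of_card (n := j * 36) (by rw [card_subU, pow_mul])

theorem isPElem_subU {u : ↥(Z).G₁} (hu : u ∈ subU f hf hK) : IsPElem p u := by
  obtain ⟨k, hk⟩ := isPGroup_subU f hf hK (p := p) ⟨u, hu⟩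
  exact ⟨k, congrArg Subtype.val hk⟩

theorem X_mem_subU {J : List ℕ} (hJ : J ∈ (Z).W.Jw) {x : ↥(Z).G₁}
    (hx : (x : GL chevE6.Idx K) ∈ (Z).X J) : x ∈ subU f hf hK :=
  (certFullE6.KS_invSet_le_U ((Z).W.J_spec hJ).2.1 hx.1)

theorem upG_pElem (i : Fin (NN).m) (t : (NN).L i) :
    IsPElem p ((NN).upG i t) ∧ IsPElem p ((NN).loG i t) := by
  have hup : ∀ t : (NN).L i, IsPElem p ((NN).upG i t) := fun t =>
    isPElem_subU f hf hK (X_mem_subU f hf hK ((NN).J_mem i) ((mem_X_iff f hf hK i).2 ⟨t, rfl⟩))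
  refine ⟨hup t, ?_⟩
  rw [loG_eq]
  exact (hup _).conj _

theorem rkG_le_closure (i : Fin (NN).m) :
    rkG f hf hK i ≤ Subgroup.closure {x | x ∈ rkG f hf hK i ∧ IsPElem p x} := by
  rintro _ ⟨g, rfl⟩
  exact mem_of_gens
    (H := (Subgroup.closure {x | x ∈ rkG f hf hK i ∧ IsPElem p x}).comap ((NN).PhiG i))
    (fun t => Subgroup.subset_closure ⟨⟨_, rfl⟩, (upG_pElem f hf hK i t).1⟩)
    (fun t => Subgroup.subset_closure ⟨⟨_, rfl⟩, (upG_pElem f hf hK i t).2⟩) g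

theorem rkG_sylow (i : Fin (NN).m) (l : ℕ) [Fact l.Prime] (hl : l ≠ p)
    (P : Sylow l ↥(rkG f hf hK i)) : CycQuat ↥(P : Subgroup ↥(rkG f hf hK i)) := by
  classical
  haveI : Fintype ↥((NN).L i) := Fintype.ofFinite _
  let e : SL(2, (NN).L i) ≃* ↥(rkG f hf hK i) :=
    MonoidHom.ofInjective (PhiG_injective f hf hK i)
  haveI : Finite SL(2, (NN).L i) := inferInstance
  let Q : Sylow l SL(2, (NN).L i) :=
    P.mapSurjective (f := e.symm.toMonoidHom) e.symm.surjective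
  let ε : ↥(P : Subgroup ↥(rkG f hf hK i)) ≃* ↥(Q : Subgroup SL(2, (NN).L i)) :=
    Subgroup.equivMapOfInjective _ e.symm.toMonoidHom e.symm.injective
  haveI : CharP ↥((NN).L i) p := ((NN).L i).subtype.charP Subtype.val_injective p
  obtain ⟨n, hp, hn⟩ := FiniteField.card ↥((NN).L i) p
  have hl' : ¬ l ∣ Fintype.card ↥((NN).L i) := fun h => hl
    ((Nat.prime_dvd_prime_iff_eq Fact.out hp).1 ((Fact.out : l.Prime).dvd_of_dvd_pow (hn ▸ h)))
  by_cases h2 : l = 2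
  · subst h2
    have hodd : Odd (Fintype.card ↥((NN).L i)) := Nat.odd_iff.2 (by omega)
    obtain ⟨⟨k, -, ⟨eQ⟩⟩, -⟩ := SLTwoSylow.two_sylow_SL hodd Q
    exact Or.inr ⟨2 ^ k, ⟨(Nat.two_pow_pos k).ne'⟩, ⟨ε.trans eQ⟩⟩
  · haveI := SLTwoSylow.isCyclic_sylow_SL (F := ↥((NN).L i)) h2 hl' Q
    exact Or.inl (isCyclic_of_surjective ε.symm.toMonoidHom ε.symm.surjective)

section Cover

variable {E : Type*} [Group E] [Finite E] {π : E →* ↥(E6.datum f hf hK).G₁} (C : Coprime p π)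

/-- The torus part of the lift of a rank one group. -/
noncomputable def tPart (i : Fin (NN).m) : Subgroup E :=
  liftP C (rkG f hf hK i) ⊓ (torH f hf hK).comap π

/-- The lift of the torus. -/
noncomputable def tTil : Subgroup E :=
  (tPart f hf hK C (nd f hf hK 3) ⊔ tPart f hf hK C (nd f hf hK 2)) ⊔
    (tPart f hf hK C (nd f hf hK 0) ⊔ tPart f hf hK C (nd f hf hK 1))

theorem tPart_le (i : Fin (NN).m) : tPart f hf hK C i ≤ tTil f hf hK C := by
  rcases nd_cases f hf hK i with rfl | rfl | rfl | rfl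
  exacts [le_sup_left.trans le_sup_right, le_sup_right.trans le_sup_right,
    le_sup_right.trans le_sup_left, le_sup_left.trans le_sup_left]

theorem π_tTil {z : E} (hz : z ∈ tTil f hf hK C) : π z ∈ torH f hf hK :=
  (sup_le (sup_le (fun _ h => h.2) (fun _ h => h.2)) (sup_le (fun _ h => h.2) (fun _ h => h.2)) :
    tTil f hf hK C ≤ (torH f hf hK).comap π) hz

theorem inj_rk {i : Fin (NN).m} {a b : E} (ha : a ∈ liftP C (rkG f hf hK i))
    (hb : b ∈ liftP C (rkG f hf hK i)) (h : π a = π b) : a = b :=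
  liftP_inj C (rkG_le_closure f hf hK i) (fun l _ hl P => rkG_sylow f hf hK i l hl P) ha hb h

/-- The preimage of the torus centralises the torus part. -/
theorem cen_tPart {i : Fin (NN).m} {e z : E} (he : π e ∈ torH f hf hK)
    (hz : z ∈ tPart f hf hK C i) : Commute e z := by
  refine mul_inv_eq_iff_eq_mul.1 (inj_rk f hf hK C
    (conj_liftP C (fun x hx => torH_conj_rkG f hf hK i he hx) hz.1) hz.1 ?_)
  rw [map_mul, map_mul, map_inv, (torH_comm f hf hK he hz.2).eq, mul_inv_cancel_right]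

theorem exists_tTil {z : E} (hz : z ∈ tTil f hf hK C) :
    ∃ a : Fin 4 → E, (∀ i, a i ∈ tPart f hf hK C (nd f hf hK i)) ∧
      z = a 3 * a 2 * (a 0 * a 1) := by
  have hc : ∀ {i j : Fin (NN).m}, ∀ a ∈ tPart f hf hK C i, ∀ b ∈ tPart f hf hK C j,
      Commute a b := fun {i j} a ha b hb => cen_tPart f hf hK C ha.2 hb
  have h2 : ∀ {i j : Fin (NN).m} {z}, z ∈ tPart f hf hK C i ⊔ tPart f hf hK C j →
      ∃ a ∈ tPart f hf hK C i, ∃ b ∈ tPart f hf hK C j, z = a * b :=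
    fun hz => exists_mul_of_sup hc hz
  obtain ⟨x, hx, y, hy, rfl⟩ := exists_mul_of_sup (fun x hx y hy => by
    obtain ⟨a, ha, b, hb, rfl⟩ := h2 hy
    have hxT : π x ∈ torH f hf hK :=
      (sup_le (fun _ h => h.2) (fun _ h => h.2) :
        tPart f hf hK C (nd f hf hK 3) ⊔ tPart f hf hK C (nd f hf hK 2) ≤
          (torH f hf hK).comap π) hx
    exact (cen_tPart f hf hK C hxT ha).mul_right (cen_tPart f hf hK C hxT hb)) hz
  obtain ⟨a3, h3, a2, h2', rfl⟩ := h2 hx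
  obtain ⟨a0, h0, a1, h1, rfl⟩ := h2 hy
  exact ⟨![a0, a1, a2, a3], fun i => by fin_cases i <;> assumption, rfl⟩

theorem tPart_param {i : Fin 4} {a : E} (ha : a ∈ tPart f hf hK C (nd f hf hK i)) :
    ∃ x, Coord f i x ∧ (π a : GL chevE6.Idx K) = E6.param f x := by
  obtain ⟨d, hd, e⟩ := rkG_torH f hf hK _ (π_liftP C ha.1) ha.2
  obtain ⟨x, hx, hxd⟩ := exists_coord f hf hK i hd
  exact ⟨x, hx, e ▸ Phi_dSL_param f hf hK i x hx hd hxd⟩

/-- The kernel meets the lifted torus in a cyclic group of order dividing `gcd(3, q + 1)`. -/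
theorem tTil_ker : ∃ z0 : E, z0 ^ Nat.gcd 3 (q + 1) = 1 ∧
    ∀ z ∈ tTil f hf hK C, π z = 1 → z ∈ Subgroup.zpowers z0 := by
  set d := Nat.gcd 3 (q + 1)
  obtain ⟨⟨w, hw⟩, hgen⟩ :=
    IsCyclic.exists_generator (α := ↥((powMonoidHom d : Kˣ →* Kˣ).ker))
  rw [MonoidHom.mem_ker, powMonoidHom_apply] at hw
  have key : ∀ (i : Fin 4) (x : Kˣ × Kˣ × ↥(E6.fixU f) × ↥(E6.fixU f)), Coord f i x →
      ∃ b ∈ tPart f hf hK C (nd f hf hK i), (π b : GL chevE6.Idx K) = E6.param f x := by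
    intro i x hx
    obtain ⟨e, he, hxe⟩ := exists_dSL f hf hK i x
    obtain ⟨b, hb, hπb⟩ := exists_liftP C (rkG_le_closure f hf hK (nd f hf hK i))
      (x := (NN).PhiG (nd f hf hK i) (dSL e he)) ⟨_, rfl⟩
    exact ⟨b, ⟨hb, show π b ∈ torH f hf hK from hπb ▸ PhiG_dSL_mem f hf hK _ he⟩,
      hπb ▸ Phi_dSL_param f hf hK i x hx he hxe⟩
  obtain ⟨b3, hb3, e3⟩ := key 3 (w, 1, 1, 1) ⟨Or.inl rfl, Or.inr rfl, Or.inr rfl, Or.inr rfl⟩
  obtain ⟨b2, hb2, e2⟩ := key 2 (1, w * w, 1, 1)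
    ⟨Or.inr rfl, Or.inl rfl, Or.inr rfl, Or.inr rfl⟩
  have hc : Commute b3 b2 := cen_tPart f hf hK C hb3.2 hb2
  have same : ∀ {i : Fin 4} {a b : E} {x y : Kˣ × Kˣ × ↥(E6.fixU f) × ↥(E6.fixU f)} (k : ℤ),
      a ∈ tPart f hf hK C (nd f hf hK i) → b ∈ tPart f hf hK C (nd f hf hK i) →
      (π a : GL chevE6.Idx K) = E6.param f x → (π b : GL chevE6.Idx K) = E6.param f y →
      x = y ^ k → a = b ^ k := by
    intro i a b x y k ha hb ea eb h
    refine inj_rk f hf hK C ha.1 (Subgroup.zpow_mem _ hb.1 k) (Subtype.ext ?_)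
    rw [map_zpow, Subgroup.coe_zpow, ea, eb, h, map_zpow]
  refine ⟨b3 * b2, ?_, fun z hz h1 => ?_⟩
  · have hone : (π (1 : E) : GL chevE6.Idx K) = E6.param f 1 := by rw [map_one, map_one]; rfl
    have h3 := same (d : ℤ) (one_mem _) hb3 hone e3 (by
      simp [Prod.ext_iff, hw])
    have h2 := same (d : ℤ) (one_mem _) hb2 hone e2 (by
      simp [Prod.ext_iff, mul_pow, hw])
    rw [zpow_natCast] at h3 h2
    rw [hc.mul_pow, ← h3, ← h2, mul_one]
  · obtain ⟨a, ha, rfl⟩ := exists_tTil f hf hK C hz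
    obtain ⟨x3, ⟨-, u3, t3, v3⟩, ea3⟩ := tPart_param f hf hK C (ha 3)
    obtain ⟨x2, ⟨s2, -, t2, v2⟩, ea2⟩ := tPart_param f hf hK C (ha 2)
    obtain ⟨x0, ⟨s0, u0, -, v0⟩, ea0⟩ := tPart_param f hf hK C (ha 0)
    obtain ⟨x1, ⟨s1, u1, t1, -⟩, ea1⟩ := tPart_param f hf hK C (ha 1)
    simp only [Fin.isValue, Fin.reduceEq, false_or] at u3 t3 v3 s2 t2 v2 s0 u0 v0 s1 u1 t1
    have hp : E6.param f (x3 * x2 * (x0 * x1)) = 1 := by
      have h' : ((π (a 3 * a 2 * (a 0 * a 1)) : ↥(Z).G₁) : GL chevE6.Idx K) = 1 := by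
        rw [h1]; rfl
      simp only [map_mul, Subgroup.coe_mul, ea0, ea1, ea2, ea3] at h'
      simpa only [map_mul] using h'
    obtain ⟨hd, hu, ht, hv⟩ := param_eq_one f hf hK hp
    simp only [Prod.fst_mul, Prod.snd_mul, s2, s0, s1, u3, u0, u1, t3, t2, t1, v3, v2, v0,
      one_mul, mul_one] at hd hu ht hv
    obtain ⟨k, hk⟩ := Subgroup.mem_zpowers_iff.1 (hgen ⟨x3.1, hd⟩)
    have hk' : w ^ k = x3.1 := congrArg Subtype.val hk
    have h3 := same k (ha 3) hb3 ea3 e3 (by simp [Prod.ext_iff, u3, t3, v3, hk'])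
    have h2 := same k (ha 2) hb2 ea2 e2 (by
      simp [Prod.ext_iff, s2, t2, v2, hu, mul_zpow, hk'])
    have h0 := same 0 (ha 0) (ha 0) ea0 ea0 (by simp [Prod.ext_iff, s0, u0, v0, ht])
    have h1' := same 0 (ha 1) (ha 1) ea1 ea1 (by simp [Prod.ext_iff, s1, u1, t1, hv])
    rw [zpow_zero] at h0 h1'
    rw [h3, h2, h0, h1', mul_one, mul_one, ← hc.mul_zpow]
    exact Subgroup.zpow_mem_zpowers _ _

theorem exists_tTil_lift {t : ↥(Z).G₁} (ht : t ∈ torH f hf hK) :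
    ∃ z ∈ tTil f hf hK C, π z = t := by
  obtain ⟨x, hx, rfl⟩ := torH_split f hf hK ht
  have key : ∀ i : Fin 4, ∃ a, a ∈ tTil f hf hK C ∧ π a = x i := fun i => by
    obtain ⟨a, ha, e⟩ := exists_liftP C (rkG_le_closure f hf hK _) (hx i).1
    exact ⟨a, tPart_le f hf hK C _ ⟨ha, show π a ∈ torH f hf hK from e ▸ (hx i).2⟩, e⟩
  choose a ha e using key
  exact ⟨a 3 * a 2 * (a 0 * a 1), mul_mem (mul_mem (ha 3) (ha 2)) (mul_mem (ha 0) (ha 1)), by
    simp only [map_mul, e]⟩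

theorem conj_tTil {i : Fin (NN).m} {n : E} (hn : n ∈ liftP C (rkG f hf hK i))
    (hπn : π n = (Z).gen ((NN).J_mem i)) {z : E} (hz : z ∈ tTil f hf hK C) :
    n * z * n⁻¹ ∈ tTil f hf hK C := by
  have hzT := π_tTil f hf hK C hz
  have h1 : n * (z * n⁻¹ * z⁻¹) ∈ tPart f hf hK C i := by
    refine ⟨mul_mem hn (conj_liftP C (fun x hx => torH_conj_rkG f hf hK i hzT hx) (inv_mem hn)), ?_⟩
    show π (n * (z * n⁻¹ * z⁻¹)) ∈ torH f hf hK
    rw [show n * (z * n⁻¹ * z⁻¹) = n * z * n⁻¹ * z⁻¹ by group]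
    simp only [map_mul, map_inv, hπn]
    exact mul_mem (mem_torH_conj f hf hK ((NN).J_mem i) hzT).1 (inv_mem hzT)
  have h2 := mul_mem (tPart_le f hf hK C i h1) hz
  rwa [show n * (z * n⁻¹ * z⁻¹) * z = n * z * n⁻¹ by group] at h2

theorem sq_tTil {i : Fin (NN).m} {n : E} (hn : n ∈ liftP C (rkG f hf hK i))
    (hπn : π n = (Z).gen ((NN).J_mem i)) : n * n ∈ tTil f hf hK C := by
  refine tPart_le f hf hK C i ⟨mul_mem hn hn, ?_⟩
  show π (n * n) ∈ torH f hf hK
  rw [map_mul, hπn]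
  exact ((Z).nJ_sq ((NN).J_mem i)).1

variable (n : Fin 4 → E) (hn : ∀ i, n i ∈ liftP C (rkG f hf hK (nd f hf hK i)))
  (hπn : ∀ i, π (n i) =
    (E6.datum f hf hK).gen ((E6.nodes f hf hK).J_mem (nd f hf hK i)))

/-- The lift of the monomial group. -/
noncomputable def monN : Subgroup E :=
  Subgroup.closure ((tTil f hf hK C : Set E) ∪ Set.range n)

theorem n_mem_monN (i : Fin 4) : n i ∈ monN f hf hK C n :=
  Subgroup.subset_closure (Or.inr ⟨i, rfl⟩)

theorem tTil_le_monN : tTil f hf hK C ≤ monN f hf hK C n :=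
  fun _ h => Subgroup.subset_closure (Or.inl h)

include hπn

theorem π_monN {y : E} (hy : y ∈ monN f hf hK C n) :
    ((π y : ↥(Z).G₁) : GL chevE6.Idx K) ∈ chevE6.monomialSubgroup K := by
  induction hy using Subgroup.closure_induction with
  | mem y hy =>
    rcases hy with hy | ⟨i, rfl⟩
    · exact Subgroup.mem_sup_left (π_tTil f hf hK C hy)
    · rw [hπn]; exact certFullE6.nw_mem_N ((Z).W.J_spec ((NN).J_mem _)).2.1
  | one => rw [map_one]; exact one_mem _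
  | mul a b _ _ ha hb => rw [map_mul, Subgroup.coe_mul]; exact Subgroup.mul_mem _ ha hb
  | inv a _ ha => rw [map_inv, Subgroup.coe_inv]; exact Subgroup.inv_mem _ ha

theorem monN_surj {x : ↥(Z).G₁} (hx : (x : GL chevE6.Idx K) ∈ chevE6.monomialSubgroup K) :
    ∃ y ∈ monN f hf hK C n, π y = x := by
  have hmem : x ∈ (Z).bnPair.N := ⟨hx, x.2⟩
  refine (sup_le ((Subgroup.closure_le _).2 ?_) ?_ :
    _ ⊔ ((Z).bnPair.B ⊓ (Z).bnPair.N) ≤ (monN f hf hK C n).map π)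
      ((Z).bnPair.closure_sup.ge hmem)
  · rintro y ⟨J, hJ, ey⟩
    obtain rfl : y = (Z).gen hJ := Subtype.ext ey
    obtain ⟨i, rfl⟩ := (NN).J_surj J hJ
    exact ⟨n i, n_mem_monN f hf hK C n i, hπn i⟩
  · intro y hy
    obtain ⟨z, hz, e⟩ := exists_tTil_lift f hf hK C (t := y)
      (certFullE6.B_inf_N.le ⟨hy.1.1, hy.2.1⟩)
    exact ⟨z, tTil_le_monN f hf hK C n hz, e⟩

include hn

/-- A listed word gives a relation of the lifts up to the lifted torus. -/
theorem rel_mem {W : List ℕ} {i j : Fin 4} (hrel : (W, i.val, j.val) ∈ relData) {w : E}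
    (hw : ((π w : ↥(Z).G₁) : GL chevE6.Idx K) = certFullE6.nw K W) :
    w * n i * w⁻¹ * (n j)⁻¹ ∈ tTil f hf hK C := by
  obtain ⟨h1, h2⟩ := word_conj f hf hK (nd f hf hK i) (nd f hf hK j) hrel hw
  refine tPart_le f hf hK C (nd f hf hK j) ⟨Subgroup.mul_mem _ ?_ (Subgroup.inv_mem _ (hn j)), ?_⟩
  · exact conj_liftP_to C h1 (hn i)
  · show π (w * n i * w⁻¹ * (n j)⁻¹) ∈ torH f hf hK
    simp only [map_mul, map_inv, hπn]
    exact h2

/-- The lift of the monomial group is faithful outside the lifted torus. -/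
theorem monN_ker {z : E} (hz : z ∈ monN f hf hK C n) (h1 : π z = 1) :
    z ∈ tTil f hf hK C := by
  classical
  set N := monN f hf hK C n with hN
  set T := (tTil f hf hK C).subgroupOf N with hT
  have hnorm : ∀ y ∈ N, ∀ t ∈ tTil f hf hK C,
      y * t * y⁻¹ ∈ tTil f hf hK C ∧ y⁻¹ * t * y ∈ tTil f hf hK C := by
    intro y hy
    induction hy using Subgroup.closure_induction with
    | mem y hy =>
      intro t ht
      rcases hy with hy | ⟨i, rfl⟩
      · exact ⟨mul_mem (mul_mem hy ht) (inv_mem hy), mul_mem (mul_mem (inv_mem hy) ht) hy⟩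
      · have hsq := sq_tTil f hf hK C (hn i) (hπn i)
        have h := conj_tTil f hf hK C (hn i) (hπn i) ht
        refine ⟨h, ?_⟩
        rw [show (n i)⁻¹ * t * n i = (n i * n i)⁻¹ * (n i * t * (n i)⁻¹) * (n i * n i) by group]
        exact mul_mem (mul_mem (inv_mem hsq) h) hsq
    | one => intro t ht; simpa using ht
    | mul a b _ _ ha hb =>
      intro t ht
      refine ⟨?_, ?_⟩
      · rw [show a * b * t * (a * b)⁻¹ = a * (b * t * b⁻¹) * a⁻¹ by group]
        exact (ha _ (hb t ht).1).1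
      · rw [show (a * b)⁻¹ * t * (a * b) = b⁻¹ * (a⁻¹ * t * a) * b by group]
        exact (hb _ (ha t ht).2).2
    | inv a _ ha => intro t ht; simpa [inv_inv] using (ha t ht).symm
  haveI : T.Normal := ⟨fun t ht y => (hnorm y y.2 t ht).1⟩
  let g : Fin 4 → ↥N ⧸ T := fun i => QuotientGroup.mk ⟨n i, n_mem_monN f hf hK C n i⟩
  have hg2 : ∀ i, g i * g i = 1 := fun i =>
    (QuotientGroup.eq_one_iff _).2 (sq_tTil f hf hK C (hn i) (hπn i))
  have hrel : ∀ {W : List ℕ} {i j : Fin 4}, (W, i.val, j.val) ∈ relData → ∀ w : ↥N,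
      ((π w : ↥(Z).G₁) : GL chevE6.Idx K) = certFullE6.nw K W →
      QuotientGroup.mk w * g i * (QuotientGroup.mk w)⁻¹ = g j := fun h w hw =>
    mul_inv_eq_one.1 ((QuotientGroup.eq_one_iff _).2 (rel_mem f hf hK C n hn hπn h hw))
  have ev : ∀ i : Fin 4, ((π (n i) : ↥(Z).G₁) : GL chevE6.Idx K) =
      certFullE6.nw K (orbitsE6.getD i.val []) := fun i => by
    rw [hπn, show orbitsE6.getD i.val [] = (NN).J (nd f hf hK i) from
      (J_getD f hf hK (nd f hf hK i)).symm]; rfl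
  let nN : Fin 4 → ↥N := fun i => ⟨n i, n_mem_monN f hf hK C n i⟩
  have r2 : ∀ i j : Fin 4, (orbitsE6.getD i.val [], j.val, j.val) ∈ relData →
      (g i * g j) ^ 2 = 1 := fun i j h =>
    (invol_rels (hg2 i) (hg2 j)).1 (hrel h (nN i) (ev i))
  have r3 : ∀ i j : Fin 4, (orbitsE6.getD i.val [] ++ orbitsE6.getD j.val [], i.val, j.val) ∈
      relData → (g i * g j) ^ 3 = 1 := fun i j h =>
    (invol_rels (hg2 i) (hg2 j)).2.1 (hrel h (nN i * nN j) (by
      rw [certFullE6.nw_append, ← ev, ← ev, Subgroup.coe_mul, map_mul, Subgroup.coe_mul]))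
  have r4 : ∀ i j : Fin 4, (orbitsE6.getD j.val [] ++ orbitsE6.getD i.val [] ++
      orbitsE6.getD j.val [], i.val, i.val) ∈ relData → (g i * g j) ^ 4 = 1 := fun i j h =>
    (invol_rels (hg2 i) (hg2 j)).2.2 (hrel h (nN j * nN i * nN j) (by
      rw [certFullE6.nw_append, certFullE6.nw_append, ← ev, ← ev, Subgroup.coe_mul,
        Subgroup.coe_mul, map_mul, map_mul, Subgroup.coe_mul, Subgroup.coe_mul]))
  have hlift : CoxeterMatrix.IsLiftable CoxeterMatrix.F₄ g := by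
    have sw : ∀ {a b : ↥N ⧸ T} {m : ℕ}, a * a = 1 → b * b = 1 → (a * b) ^ m = 1 →
        (b * a) ^ m = 1 := fun {a b m} ha hb h => by
      rw [show b * a = (a * b)⁻¹ by
        rw [_root_.mul_inv_rev, inv_eq_of_mul_eq_one_right ha, inv_eq_of_mul_eq_one_right hb],
        inv_pow, h, inv_one]
    have p02 : (g 0 * g 2) ^ 2 = 1 := r2 0 2 (by decide)
    have p03 : (g 0 * g 3) ^ 2 = 1 := r2 0 3 (by decide)
    have p13 : (g 1 * g 3) ^ 2 = 1 := r2 1 3 (by decide)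
    have p01 : (g 0 * g 1) ^ 3 = 1 := r3 0 1 (by decide)
    have p23 : (g 2 * g 3) ^ 3 = 1 := r3 2 3 (by decide)
    have p12 : (g 1 * g 2) ^ 4 = 1 := r4 1 2 (by decide)
    intro i j
    fin_cases i <;> fin_cases j <;> simp [CoxeterMatrix.F₄] <;>
      first
        | exact hg2 _
        | assumption
        | exact sw (hg2 _) (hg2 _) ‹_›
  let cs := (CoxeterMatrix.F₄).toCoxeterSystem
  let Λ := cs.lift ⟨g, hlift⟩
  have hΛ : Function.Surjective Λ := by
    intro x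
    obtain ⟨⟨y, hy⟩, rfl⟩ := QuotientGroup.mk_surjective x
    induction hy using Subgroup.closure_induction with
    | mem y hy =>
      rcases hy with hy | ⟨i, rfl⟩
      · exact ⟨1, by rw [map_one, eq_comm]; exact (QuotientGroup.eq_one_iff _).2 hy⟩
      · exact ⟨_, cs.lift_apply_simple hlift i⟩
    | one => exact ⟨1, map_one Λ⟩
    | mul a b _ _ ha hb =>
      obtain ⟨u, hu⟩ := ha
      obtain ⟨v, hv⟩ := hb
      exact ⟨u * v, by rw [map_mul, hu, hv]; rfl⟩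
    | inv a _ ha =>
      obtain ⟨u, hu⟩ := ha
      exact ⟨u⁻¹, by rw [map_inv, hu]; rfl⟩
  obtain ⟨φ, hφ, hker⟩ := (Z).exists_coxeterHom_of_check CoxeterMatrix.F₄
    (show (Z).W.Jw.length = 4 from rfl) (show orbitsE6.Nodup by decide)
    (fun a b => [[1, 3, 2, 2], [3, 1, 4, 2], [2, 4, 1, 3], [2, 2, 3, 1]].getD a [] |>.getD b 0)
    (fun a b => by fin_cases a <;> fin_cases b <;> rfl) (show certFullE6.T.checkCox orbitsE6 _ = true by decide +kernel)
  let ψ : ↥N →* CoxeterMatrix.F₄.Group := φ.comp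
    { toFun := fun y => ⟨((π y : ↥(Z).G₁) : GL chevE6.Idx K),
        π_monN f hf hK C n hπn y.2, (π (y : E)).2⟩
      map_one' := Subtype.ext (by simp)
      map_mul' := fun a b => Subtype.ext (by simp) }
  have hψT : T ≤ ψ.ker := fun t ht => by
    rw [MonoidHom.mem_ker]
    refine MonoidHom.mem_ker.1 (hker.ge ?_)
    exact ⟨π_tTil f hf hK C ht, (π (t : E)).2⟩
  let Ψ := QuotientGroup.lift T ψ hψT
  have hΨ : Function.Surjective Ψ := by
    intro m
    obtain ⟨⟨x, hx⟩, rfl⟩ := hφ m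
    obtain ⟨y, hy, e⟩ := monN_surj f hf hK C n hπn (x := ⟨x, hx.2⟩) hx.1
    have ev : ((π y : ↥(Z).G₁) : GL chevE6.Idx K) = x := congrArg Subtype.val e
    exact ⟨QuotientGroup.mk ⟨y, hy⟩, congrArg φ (Subtype.ext ev)⟩
  haveI : Finite CoxeterMatrix.F₄.Group := Finite.of_surjective Ψ hΨ
  have hinj : Function.Injective Ψ :=
    ((Nat.bijective_iff_surjective_and_card Ψ).2
      ⟨hΨ, le_antisymm (Nat.card_le_card_of_surjective Λ hΛ)
        (Nat.card_le_card_of_surjective Ψ hΨ)⟩).1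
  have hz1 : Ψ (QuotientGroup.mk ⟨z, hz⟩) = Ψ 1 := by
    rw [map_one]
    show φ _ = 1
    refine (congrArg φ (Subtype.ext ?_)).trans (map_one φ)
    show ((π z : ↥(Z).G₁) : GL chevE6.Idx K) = 1
    rw [h1]; rfl
  exact (QuotientGroup.eq_one_iff (N := T) ⟨z, hz⟩).1 (hinj hz1)

/-- The products of two lifted unipotent elements around a lifted monomial one. -/
def big : Set E :=
  {z | ∃ u ∈ subU f hf hK, ∃ m ∈ monN f hf hK C n,
    ∃ u' ∈ subU f hf hK, z = C.sp u * m * C.sp u'}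

theorem spU_mul_big {u : ↥(Z).G₁} (hu : u ∈ subU f hf hK) {z : E}
    (hz : z ∈ big f hf hK C n) : C.sp u * z ∈ big f hf hK C n := by
  obtain ⟨v, hv, m, hm, v', hv', rfl⟩ := hz
  refine ⟨u * v, mul_mem hu hv, m, hm, v', hv', ?_⟩
  rw [C.sp_mul (isPGroup_subU f hf hK) hu hv]
  group

theorem tTil_mul_big {e : E} (he : e ∈ tTil f hf hK C) {z : E}
    (hz : z ∈ big f hf hK C n) : e * z ∈ big f hf hK C n := by
  obtain ⟨v, hv, m, hm, v', hv', rfl⟩ := hz
  have hT := π_tTil f hf hK C he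
  refine ⟨π e * v * (π e)⁻¹, ?_, e * m,
    mul_mem (tTil_le_monN f hf hK C n he) hm, v', hv', ?_⟩
  · show ((π e * v * (π e)⁻¹ : ↥(Z).G₁) : GL chevE6.Idx K) ∈ chevE6.posUnipotent K
    rw [Subgroup.coe_mul, Subgroup.coe_mul, Subgroup.coe_inv]
    exact ((Z).conj_B_U₁ ⟨certFullE6.H_le_B hT, (Z).le_fix (π e).2⟩ ⟨hv, (Z).le_fix v.2⟩).1
  · rw [← C.sp_conj e (isPElem_subU f hf hK hv)]
    group

theorem gen_mul_big (i : Fin 4) {z : E} (hz : z ∈ big f hf hK C n) :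
    n i * z ∈ big f hf hK C n := by
  obtain ⟨u, hu, m, hm, u', hu', rfl⟩ := hz
  have hc := hn i
  have hπc := hπn i
  set c := n i with hcdef
  have hcN := n_mem_monN f hf hK C n i
  set J := (NN).J (nd f hf hK i) with hJdef
  have hJ : J ∈ (Z).W.Jw := (NN).J_mem _
  obtain ⟨-, hlt, -⟩ := (Z).W.J_spec hJ
  have hsp : ∀ {a b}, a ∈ subU f hf hK → b ∈ subU f hf hK →
      C.sp (a * b) = C.sp a * C.sp b :=
    fun ha hb => C.sp_mul (isPGroup_subU f hf hK) ha hb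
  have hmul : ∀ {a r : ↥(Z).G₁} {y : E}, a ∈ subU f hf hK → r ∈ subU f hf hK →
      y ∈ monN f hf hK C n →
      C.sp a * y * C.sp r * C.sp u' ∈ big f hf hK C n := fun {a r y} ha hr hy =>
    ⟨a, ha, y, hy, r * u', mul_mem hr hu', by rw [hsp hr hu', ← mul_assoc]⟩
  obtain ⟨v₀, hv₀, x₀, hx₀, e0⟩ := (Z).keep_split hJ
    (Subgroup.mem_inf.2 ⟨hu, (Z).le_fix u.2⟩)
  have hvU : (⟨v₀, (Z).mem_G₁ hv₀.2⟩ : ↥(Z).G₁) ∈ subU f hf hK :=
    certFullE6.KS_le_U (certFullE6.keepSet_closed hlt) _ hv₀.1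
  set v : ↥(Z).G₁ := ⟨v₀, (Z).mem_G₁ hv₀.2⟩
  set x : ↥(Z).G₁ := ⟨x₀, (Z).mem_G₁ hx₀.2⟩
  have hxU : x ∈ subU f hf hK := X_mem_subU f hf hK hJ hx₀
  obtain rfl : u = v * x := Subtype.ext e0
  set v1 := π c * v * (π c)⁻¹ with hv1
  have hv1U : v1 ∈ subU f hf hK := by
    rw [hv1, hπc]
    show certFullE6.nw K J * v₀ * (certFullE6.nw K J)⁻¹ ∈ chevE6.posUnipotent K
    simpa using certFullE6.conj_keep_mem_U (one_mem _) hlt hv₀.1
  have e1 : c * (C.sp (v * x) * m * C.sp u') = C.sp v1 * (c * C.sp x * m * C.sp u') := by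
    rw [hsp hvU hxU, hv1, ← C.sp_conj c (isPElem_subU f hf hK hvU)]
    group
  rw [e1]
  refine spU_mul_big f hf hK C n hn hπn hv1U ?_
  -- a lifted element of the root group moved to the right
  have hmove : ∀ {y : E} {L : List ℕ} {d : GL chevE6.Idx K}, (∀ r ∈ L, r < chevE6.rank) →
      d ∈ chevE6.diagonalSubgroup K ⊓ (E6.tw f).fix →
      ((π y : ↥(Z).G₁) : GL chevE6.Idx K) = d * certFullE6.nw K L →
      (∀ r ∈ certFullE6.invSet J, certFullE6.Pos (certFullE6.wl L.reverse r)) →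
      ∀ {r : ↥(Z).G₁}, (r : GL chevE6.Idx K) ∈ (Z).X J →
      ∃ r' ∈ subU f hf hK, C.sp r * y = y * C.sp r' := by
    intro y L d hL hd e hpos r hr
    refine ⟨π y⁻¹ * r * (π y⁻¹)⁻¹, ?_, ?_⟩
    · show ((π y⁻¹ * r * (π y⁻¹)⁻¹ : ↥(Z).G₁) : GL chevE6.Idx K) ∈ chevE6.posUnipotent K
      simp only [map_inv, inv_inv, Subgroup.coe_mul, Subgroup.coe_inv, e]
      rw [show (d * certFullE6.nw K L)⁻¹ * (r : GL chevE6.Idx K) * (d * certFullE6.nw K L) =
        (certFullE6.nw K L)⁻¹ * (d⁻¹ * r * d⁻¹⁻¹) * certFullE6.nw K L by group]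
      exact Twist.Datum.conj_inv_mem_U (c := certFullE6) (fun r hr => hr.1) hL hpos
        (torH_conj_X f hf hK (Subgroup.inv_mem _ hd) hr).1
    · rw [← C.sp_conj y⁻¹ (isPElem_subU f hf hK (X_mem_subU f hf hK hJ hr))]
      group
  by_cases hx1 : x = 1
  · rw [hx1]
    have := hmul (one_mem _) (one_mem _) (mul_mem hcN hm)
    rw [C.sp_one, one_mul, mul_one] at this
    rwa [C.sp_one, mul_one]
  obtain ⟨d, hd, j, hj, en⟩ := (Z).exists_N_fix ⟨π_monN f hf hK C n hπn hm, (Z).le_fix (π m).2⟩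
  obtain ⟨hwlt, -, -⟩ := (Z).wd_spec hj
  rcases dichotomy f hf hK (nd f hf hK i) (i := j) hj with h | h
  · obtain ⟨r, hr, er⟩ := hmove hwlt hd en h (r := x) hx₀
    have := hmul (one_mem _) hr (mul_mem hcN hm)
    rw [C.sp_one, one_mul] at this
    rwa [show c * C.sp x * m = c * m * C.sp r by rw [mul_assoc, er]; group]
  obtain ⟨q1, q2, kk, hy1, hy2, hk, hkL, es⟩ := split_lo f hf hK _ (x := x) hx₀ hx1
  obtain ⟨k', hk', ek'⟩ := exists_liftP C (rkG_le_closure f hf hK _) hkL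
  have hk'T : k' ∈ tTil f hf hK C := tPart_le f hf hK C (nd f hf hK i) ⟨hk', by
    show π k' ∈ torH f hf hK
    rw [ek']; exact hk⟩
  have hX2 : ∀ {r : ↥(Z).G₁}, (r : GL chevE6.Idx K) ∈ (Z).X J →
      C.sp r ∈ liftP C (rkG f hf hK (nd f hf hK i)) := fun {r} hr =>
    sp_mem_liftP C
      (by obtain ⟨t, rfl⟩ := (mem_X_iff f hf hK (nd f hf hK i)).1 hr; exact ⟨_, rfl⟩)
      (isPElem_subU f hf hK (X_mem_subU f hf hK hJ hr))
  have e2 : c * C.sp x * c⁻¹ = C.sp q1 * k' * c * C.sp q2 := by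
    refine inj_rk f hf hK C (mul_mem (mul_mem hc (hX2 hx₀)) (inv_mem hc))
      (mul_mem (mul_mem (mul_mem (hX2 hy1) hk') hc) (hX2 hy2)) ?_
    simp only [map_mul, map_inv, C.π_sp, ek', hπc]
    exact es
  have hcn : ((π (c * m) : ↥(Z).G₁) : GL chevE6.Idx K) =
      (certFullE6.nw K J * d * (certFullE6.nw K J)⁻¹) *
        certFullE6.nw K (J ++ (Z).W.wd j) := by
    rw [map_mul, Subgroup.coe_mul, en, hπc, certFullE6.nw_append]
    show certFullE6.nw K J * _ = _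
    group
  have hlt' : ∀ r ∈ J ++ (Z).W.wd j, r < chevE6.rank := fun r hr =>
    (List.mem_append.1 hr).elim (hlt r) (hwlt r)
  obtain ⟨r, hr, er⟩ := hmove (y := c * m) hlt'
    (⟨certFullE6.N_conj_H (certFullE6.nw_mem_N hlt) hd.1, Subgroup.mul_mem _
      (Subgroup.mul_mem _ ((Z).nw_J_fix hJ) hd.2) (Subgroup.inv_mem _ ((Z).nw_J_fix hJ))⟩)
    hcn h (r := q2) hy2
  have := hmul (X_mem_subU f hf hK hJ (x := q1) hy1) hr
    (mul_mem (mul_mem (tTil_le_monN f hf hK C n hk'T) hcN) (mul_mem hcN hm))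
  convert this using 1
  rw [show c * C.sp x = c * C.sp x * c⁻¹ * c by group, e2]
  calc C.sp q1 * k' * c * C.sp q2 * c * m * C.sp u'
      = C.sp q1 * k' * c * (C.sp q2 * (c * m)) * C.sp u' := by group
    _ = _ := by rw [er]; group; rfl

omit hn hπn

include C in
/-- The kernel of a stem extension is cyclic of order dividing `gcd(3, q + 1)`. -/
theorem coprime_ker (hstem : π.ker ≤ commutator E) :
    ∃ z0 : E, z0 ^ Nat.gcd 3 (q + 1) = 1 ∧ π.ker ≤ Subgroup.zpowers z0 := by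
  obtain ⟨z0, hz0, hker⟩ := tTil_ker f hf hK C
  have hex : ∀ i : Fin 4, ∃ m, m ∈ liftP C (rkG f hf hK (nd f hf hK i)) ∧
      π m = (Z).gen ((NN).J_mem (nd f hf hK i)) := fun i =>
    exists_liftP C (rkG_le_closure f hf hK _) ⟨nSL 1, (gen_eq f hf hK _).symm⟩
  choose n hn hπn using hex
  set G := Subgroup.closure
    (C.sp '' (subU f hf hK : Set ↥(Z).G₁) ∪ (tTil f hf hK C : Set E) ∪ Set.range n)
  have hNG : monN f hf hK C n ≤ G := (Subgroup.closure_le _).2 fun y hy => by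
    rcases hy with hy | hy
    exacts [Subgroup.subset_closure (Or.inl (Or.inr hy)), Subgroup.subset_closure (Or.inr hy)]
  have hGbig : ∀ z ∈ G, z ∈ big f hf hK C n := by
    intro z hz
    induction hz using Subgroup.closure_induction_left with
    | one => exact ⟨1, one_mem _, 1, one_mem _, 1, one_mem _, by rw [C.sp_one, one_mul, one_mul]⟩
    | mul_left x hx y _ ih =>
      rcases hx with (⟨u, hu, rfl⟩ | hx) | ⟨i, rfl⟩
      exacts [spU_mul_big f hf hK C n hn hπn hu ih, tTil_mul_big f hf hK C n hn hπn hx ih,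
        gen_mul_big f hf hK C n hn hπn i ih]
    | inv_mul_cancel x hx y _ ih =>
      rcases hx with (⟨u, hu, rfl⟩ | hx) | ⟨i, rfl⟩
      · rw [← C.sp_inv (isPElem_subU f hf hK hu)]
        exact spU_mul_big f hf hK C n hn hπn (inv_mem hu) ih
      · exact tTil_mul_big f hf hK C n hn hπn (inv_mem hx) ih
      · rw [show (n i)⁻¹ * y = (n i * n i)⁻¹ * (n i * y) by group]
        exact tTil_mul_big f hf hK C n hn hπn (inv_mem (sq_tTil f hf hK C (hn i) (hπn i)))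
          (gen_mul_big f hf hK C n hn hπn i ih)
  have hmap : G.map π = ⊤ := eq_top_iff.2 fun g _ => by
    obtain ⟨b, hb, i, hi, u, hu, e⟩ := (Z).exists_bruhat_fix ((Z).le_fix g.2)
    obtain ⟨w, hw, t, ht, rfl⟩ := (E6.tw f).borel_fix hb
    have hUG : ∀ v ∈ subU f hf hK, v ∈ G.map π := fun v hv =>
      ⟨C.sp v, Subgroup.subset_closure (Or.inl (Or.inl ⟨v, hv, rfl⟩)), C.π_sp v⟩
    have hTG : torH f hf hK ≤ G.map π := fun v hv => by
      obtain ⟨y, hy, ey⟩ := exists_tTil_lift f hf hK C hv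
      exact ⟨y, Subgroup.subset_closure (Or.inl (Or.inr hy)), ey⟩
    have hN : (⟨_, (Z).nw_wd_mem hi⟩ : ↥(Z).G₁) ∈ G.map π := by
      obtain ⟨y, hy, ey⟩ := monN_surj f hf hK C n hπn (x := ⟨_, (Z).nw_wd_mem hi⟩)
        (certFullE6.nw_mem_N ((Z).wd_spec hi).1)
      exact ⟨y, hNG hy, ey⟩
    obtain rfl : g = ⟨w, (Z).mem_G₁ hw.2⟩ * ⟨t, (Z).mem_G₁ ht.2⟩ *
        ⟨_, (Z).nw_wd_mem hi⟩ * ⟨u, (Z).mem_G₁ hu.2⟩ := Subtype.ext e
    exact mul_mem (mul_mem (mul_mem (hUG _ hw.1) (hTG ht.1)) hN)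
      (hUG _ (certFullE6.KS_invSet_le_U ((Z).wd_spec hi).1 hu.1))
  refine ⟨z0, hz0, fun z hz => ?_⟩
  have hzG : z ∈ G := by
    have hle : commutator E ≤ G := by
      rw [commutator_def, Subgroup.commutator_le]
      intro a _ b _
      obtain ⟨s, hs, hπs⟩ := (hmap.ge (Subgroup.mem_top (π a)) : π a ∈ G.map π)
      obtain ⟨t, ht, hπt⟩ := (hmap.ge (Subgroup.mem_top (π b)) : π b ∈ G.map π)
      rw [← comm_congr π C.cen hπs hπt, commutatorElement_def]
      exact mul_mem (mul_mem (mul_mem hs ht) (inv_mem hs)) (inv_mem ht)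
    exact hle (hstem hz)
  obtain ⟨u, hu, m, hm, u', hu', e⟩ := hGbig z hzG
  have hz' : π z = 1 := hz
  rw [e, map_mul, map_mul, C.π_sp, C.π_sp] at hz'
  have hπm : π m = u⁻¹ * u'⁻¹ := by
    rw [mul_eq_one_iff_eq_inv] at hz'
    rw [← hz']; group
  have hmU : π m ∈ subU f hf hK := hπm ▸ mul_mem (inv_mem hu) (inv_mem hu')
  have hm1 : π m = 1 := Subtype.ext (Subgroup.mem_bot.1 (certFullE6.U_inf_H.le
    ⟨hmU, certFullE6.B_inf_N.le ⟨Subgroup.mem_sup_left hmU, π_monN f hf hK C n hπn hm⟩⟩))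
  have hmk : m ∈ π.ker := hm1
  rw [hm1, mul_one] at hz'
  have : z = m := by
    rw [e, Subgroup.mem_center_iff.1 (C.cen hmk) (C.sp u), mul_assoc,
      ← C.sp_mul (isPGroup_subU f hf hK) hu hu', hz', C.sp_one, mul_one]
  exact this ▸ hker m (monN_ker f hf hK C n hn hπn hm hm1) hm1

end Cover

end Cfsg.Agent.Classical.E6Mult
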