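import Cfsg.Agent.Lib.Lie.Chev.TwistE6
import Cfsg.Agent.Lib.Lie.Chev.SteinbergCentre
import Cfsg.Agent.Lib.Lie.Chev.SteinbergMult

/-!
A stem extension of ²E₆(q) with kernel of order three when `3 ∣ q + 1`: the derived group of the
preimage of the twisted group in the Steinberg group of type E₆ over the field of `q²` elements.
-/

set_option autoImplicit false
set_option linter.unusedSectionVars false
set_option linter.unusedSimpArgs false
set_option maxRecDepth 20000

universe u

namespace Cfsg.Agent.Classical.E6Mult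

open Cfsg.Lie Cfsg.Agent.Lie.Chev
open scoped commutatorElement

variable {K : Type u} [Field K] [Fintype K] (f : K →+* K) {q : ℕ} (hf : ∀ t, f t = t ^ q)
  (hK : Fintype.card K = q ^ 2)

local notation "A" => certFullE6.stGroupData K

/-- The generators of the preimage. -/
def liftGens : Set (chevE6.SteinbergGroup K) :=
  {g | ∃ r ∈ [46, 25, 39, 32], ∃ t : K, f t = t ∧ g = (A).X r t} ∪
  {g | ∃ rr : ℕ × ℕ, rr ∈ [(56, 36), (15, 35), (42, 37), (29, 34)] ∧ ∃ t : K,
    g = (A).X rr.1 t * (A).X rr.2 (f t)}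

/-- The subgroup over the twisted group. -/
def preG : Subgroup (chevE6.SteinbergGroup K) := Subgroup.closure (liftGens f)

theorem liftX_commute {r r' a b : ℕ} (h : E6.IsPair r r') (ha : a ∈ [r, 71 - r])
    (hb : b ∈ [r', 71 - r']) (t u : K) : Commute ((A).X a t) ((A).X b u) := by
  have hc := E6.commTerms_nil
  simp only [List.all_eq_true, Bool.and_eq_true, Bool.not_eq_true', List.isEmpty_iff] at hc
  obtain ⟨⟨h1, h2⟩, h3⟩ := hc (r, r') (by rcases h with ⟨rfl, rfl⟩ | ⟨rfl, rfl⟩ <;> simp) a ha b hb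
  have hlt : a < 72 ∧ b < 72 := by
    simp only [List.mem_cons, List.not_mem_nil, or_false] at ha hb
    rcases h with ⟨rfl, rfl⟩ | ⟨rfl, rfl⟩ <;> omega
  have e : chevE6.neg a = 71 - a := certFullE6.neg_eq hlt.1
  have hab : b ≠ a := fun e' => by
    rw [e', Cfsg.Agent.Lie.Chev.beq_of_eq rfl] at h1; exact Bool.noConfusion h1
  have hab' : b ≠ chevE6.neg a := fun e' => by
    rw [Cfsg.Agent.Lie.Chev.beq_of_eq (e'.trans e)] at h2; exact Bool.noConfusion h2
  have := (A).comm a hlt.1 b hlt.2 hab hab' t u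
  rw [h3, List.map_nil, List.prod_nil, mul_one] at this
  exact this.symm

theorem liftN_commute {r r' : ℕ} (h : E6.IsPair r r') (t u : K) :
    Commute ((A).n r t) ((A).n r' u) := by
  have hn : chevE6.neg r = 71 - r ∧ chevE6.neg r' = 71 - r' := by
    rcases h with ⟨rfl, rfl⟩ | ⟨rfl, rfl⟩ <;>
      exact ⟨certFullE6.neg_eq (by show _ < 72; omega), certFullE6.neg_eq (by show _ < 72; omega)⟩
  have key : ∀ a ∈ [r, 71 - r], ∀ t : K, Commute ((A).X a t) ((A).n r' u) := by
    intro a ha t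
    rw [StData.n, hn.2]
    exact ((liftX_commute h ha (by simp) t _).mul_right (liftX_commute h ha (by simp) t _)).mul_right
      (liftX_commute h ha (by simp) t _)
  rw [StData.n, hn.1]
  exact ((key r (by simp) _).mul_left (key _ (by simp) _)).mul_left (key r (by simp) _)

theorem liftN_mem {r r' : ℕ} (h : E6.IsPair r r') (s : K) :
    (A).n r s * (A).n r' (f s) ∈ preG f := by
  have e1 : f (-s⁻¹) = -(f s)⁻¹ := by rw [map_neg, map_inv₀]
  have hn : chevE6.neg r = 71 - r ∧ chevE6.neg r' = 71 - r' := by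
    rcases h with ⟨rfl, rfl⟩ | ⟨rfl, rfl⟩ <;>
      exact ⟨certFullE6.neg_eq (by show _ < 72; omega), certFullE6.neg_eq (by show _ < 72; omega)⟩
  have hmem : ∀ a b : ℕ, (a, b) ∈ [(56, 36), (15, 35), (42, 37), (29, 34)] → ∀ t : K,
      (A).X a t * (A).X b (f t) ∈ preG f := fun a b hab t =>
    Subgroup.subset_closure (Or.inr ⟨(a, b), hab, t, rfl⟩)
  have key : ((A).X r s * (A).X r' (f s)) *
      ((A).X (71 - r) (-s⁻¹) * (A).X (71 - r') (f (-s⁻¹))) *
      ((A).X r s * (A).X r' (f s)) = (A).n r s * (A).n r' (f s) := by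
    rw [e1, StData.n, StData.n, hn.1, hn.2,
      mul2_comm (liftX_commute h (by simp) (by simp) _ _).symm,
      mul2_comm ((liftX_commute h (by simp) (by simp) _ _).symm.mul_left
        (liftX_commute h (by simp) (by simp) _ _).symm)]
  have h1 : (r, r') ∈ [(56, 36), (15, 35), (42, 37), (29, 34)] ∧
      (71 - r, 71 - r') ∈ [(56, 36), (15, 35), (42, 37), (29, 34)] := by
    rcases h with ⟨rfl, rfl⟩ | ⟨rfl, rfl⟩ <;> simp
  rw [← key]
  exact mul_mem (mul_mem (hmem _ _ h1.1 _) (hmem _ _ h1.2 _)) (hmem _ _ h1.1 _)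

theorem liftH_mem {r r' : ℕ} (h : E6.IsPair r r') (s : K) :
    (A).h r s * (A).h r' (f s) ∈ preG f := by
  rw [StData.h, StData.h, ← mul2_comm (liftN_commute h _ _).symm]
  have h' := liftN_mem f h (-1 : K)
  simp only [map_neg, map_one] at h'
  exact mul_mem (liftN_mem f h s) h'

include hf in
theorem map_preG : (preG f).map (A).θ = twistedE6 K q := by
  have hn : ∀ r, r < 72 → r < chevE6.nroots := fun r h => h
  refine le_antisymm ?_ ?_
  · rw [preG, MonoidHom.map_closure, Subgroup.closure_le]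
    rintro _ ⟨g, (⟨r, hr, t, ht, rfl⟩ | ⟨⟨a, b⟩, hab, t, rfl⟩), rfl⟩
    · have hlt : r < 72 := by
        simp only [List.mem_cons, List.not_mem_nil, or_false] at hr; omega
      rw [(A).θX r (hn r hlt)]
      exact E6.gen1 f hf hr ht
    · have hlt : a < 72 ∧ b < 72 := by
        simp only [List.mem_cons, List.not_mem_nil, or_false, Prod.mk.injEq] at hab; omega
      rw [map_mul, (A).θX a (hn a hlt.1), (A).θX b (hn b hlt.2)]
      exact E6.gen2 f hf hab t
  · refine (Subgroup.closure_le _).2 ?_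
    rintro g ⟨w, hw, hg⟩
    obtain rfl := eq_wordProd certFullE6 hg
    rcases hw with ⟨t, ht, r, hr, rfl⟩ | ⟨t, ⟨a, b⟩, hab, rfl⟩
    · simp only [e6p2, e6m2, e6p4, e6m4] at hr
      have hlt : r < 72 := by
        simp only [List.mem_cons, List.not_mem_nil, or_false] at hr; omega
      exact ⟨_, Subgroup.subset_closure (Or.inl ⟨r, hr, t, by rw [hf, ht], rfl⟩), by
        rw [(A).θX r (hn r hlt)]; simp⟩
    · simp only [e6p1, e6p6, e6m1, e6m6, e6p3, e6p5, e6m3, e6m5] at hab
      have hlt : a < 72 ∧ b < 72 := by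
        simp only [List.mem_cons, List.not_mem_nil, or_false, Prod.mk.injEq] at hab; omega
      exact ⟨_, Subgroup.subset_closure (Or.inr ⟨(a, b), hab, t, rfl⟩), by
        rw [map_mul, (A).θX a (hn a hlt.1), (A).θX b (hn b hlt.2)]; simp [hf t]⟩

theorem sq_eq_of_dvd (h3 : 3 ∣ q + 1) {s : Kˣ} (hs : s ^ 3 = 1) : s ^ q = s * s := by
  obtain ⟨k, hk⟩ := h3
  have h1 : s ^ q * s = 1 := by rw [← pow_succ, hk, pow_mul, hs, one_pow]
  have h2 : s * s * s = 1 := by rw [← hs, pow_three, mul_assoc]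
  exact mul_right_cancel (h1.trans h2.symm)

include hf hK

/-- The kernel of the Steinberg group lies over the twisted group. -/
theorem ker_le_preG (h3 : 3 ∣ q + 1) : (A).θ.ker ≤ preG f := by
  have hN : checkNbr certFullE6.T = true := by decide +kernel
  have hl : chevE6.rank = 6 := E6.simple_values.2.2.2.2.2.2.1
  obtain ⟨s0, s1, s2, s3, s4, s5, -⟩ := E6.simple_values
  obtain ⟨Φ, hsingle, hΦ, hrange⟩ := (A).exists_torusHom hN (certFullE6.stGroup_R3 K) hl
  intro g hg
  obtain ⟨y, rfl⟩ := hrange ((A).ker_le hN hg).1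
  rw [MonoidHom.mem_ker, hΦ, E6.torus_eq_one_iff] at hg
  obtain ⟨h0, h1, h2, h3', h4, h5⟩ := hg
  simp only [show (0 : ℕ) < 6 by omega, show (1 : ℕ) < 6 by omega, show (2 : ℕ) < 6 by omega,
    show (3 : ℕ) < 6 by omega, show (4 : ℕ) < 6 by omega, show (5 : ℕ) < 6 by omega,
    dite_true] at h0 h1 h2 h3' h4 h5
  set s : Kˣ := y ⟨0, by omega⟩ with hs
  have hfs : Units.map (f : K →* K) s = s * s := by
    rw [show Units.map (f : K →* K) s = s ^ q from Units.ext (by simp [hf])]
    exact sq_eq_of_dvd h3 h0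
  have hfu : Units.map (f : K →* K) (s * s) = s := by
    rw [map_mul, hfs, show s * s * (s * s) = s ^ 3 * s by
      rw [pow_three]; simp only [mul_assoc], h0, one_mul]
  have hy : y = (Pi.mulSingle (0 : Fin 6) s * Pi.mulSingle (5 : Fin 6) (s * s)) *
      (Pi.mulSingle (2 : Fin 6) (s * s) * Pi.mulSingle (4 : Fin 6) s) := by
    funext i
    fin_cases i <;> simp [Pi.mulSingle_apply, hs] <;> assumption
  rw [hy, map_mul, map_mul, map_mul, hsingle, hsingle, hsingle, hsingle]
  have a := liftH_mem f (r := 56) (r' := 36) (Or.inl ⟨rfl, rfl⟩) (s : K)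
  have b := liftH_mem f (r := 42) (r' := 37) (Or.inr ⟨rfl, rfl⟩) ((s * s : Kˣ) : K)
  rw [show f (s : K) = ((s * s : Kˣ) : K) from congrArg Units.val hfs] at a
  rw [show f ((s * s : Kˣ) : K) = (s : K) from congrArg Units.val hfu] at b
  show (A).h (chevE6.simple 0) (s : K) * (A).h (chevE6.simple 5) ((s * s : Kˣ) : K) *
    ((A).h (chevE6.simple 2) ((s * s : Kˣ) : K) * (A).h (chevE6.simple 4) (s : K)) ∈ _
  rw [s0, s2, s4, s5]
  exact mul_mem a b

/-- The generators of the preimage have order dividing the characteristic. -/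
theorem liftGens_pow {p : ℕ} [CharP K p] {g : chevE6.SteinbergGroup K} (hg : g ∈ liftGens f) :
    g ^ p = 1 := by
  have hX : ∀ r < 72, ∀ t : K, ((A).X r t) ^ p = 1 := by
    intro r hr t
    have key : ∀ k : ℕ, ((A).X r t) ^ k = (A).X r (k * t) := by
      intro k
      induction k with
      | zero => rw [pow_zero, Nat.cast_zero, zero_mul, (A).X_zero hr]
      | succ k ih => rw [pow_succ, ih, (A).add r hr]; congr 1; push_cast; ring
    rw [key, CharP.cast_eq_zero, zero_mul, (A).X_zero hr]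
  rcases hg with ⟨r, hr, t, -, rfl⟩ | ⟨⟨a, b⟩, hab, t, rfl⟩
  · exact hX r (by simp only [List.mem_cons, List.not_mem_nil, or_false] at hr; omega) t
  · simp only [List.mem_cons, List.not_mem_nil, or_false, Prod.mk.injEq] at hab
    have hc : Commute ((A).X a t) ((A).X b (f t)) := by
      rcases hab with ⟨rfl, rfl⟩ | ⟨rfl, rfl⟩ | ⟨rfl, rfl⟩ | ⟨rfl, rfl⟩
      · exact liftX_commute (r := 56) (r' := 36) (Or.inl ⟨rfl, rfl⟩) (by simp) (by simp) _ _
      · exact liftX_commute (r := 56) (r' := 36) (Or.inl ⟨rfl, rfl⟩) (by simp) (by simp) _ _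
      · exact liftX_commute (r := 42) (r' := 37) (Or.inr ⟨rfl, rfl⟩) (by simp) (by simp) _ _
      · exact liftX_commute (r := 42) (r' := 37) (Or.inr ⟨rfl, rfl⟩) (by simp) (by simp) _ _
    rw [hc.mul_pow, hX a (by omega), hX b (by omega), one_mul]

/-- A finite stem extension with a kernel element of order three. -/
theorem exists_cover (h3 : 3 ∣ q + 1) (hperf : commutator ↥(twistedE6 K q) = ⊤) :
    ∃ (Γ : Type u) (_ : Group Γ) (_ : Finite Γ) (σ : Γ →* ↥(twistedE6 K q)),
      Cfsg.IsStemExtension σ ∧ ∃ z ∈ σ.ker, orderOf z = 3 := by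
  obtain ⟨p, hchar⟩ := CharP.exists K
  haveI := hchar
  haveI : Fact p.Prime := ⟨CharP.char_is_prime K p⟩
  have hN : checkNbr certFullE6.T = true := by decide +kernel
  haveI : Finite (chevE6.SteinbergGroup K) := (A).finite_of_finite hN
  set G0 := preG (K := K) f
  set G1 := ⁅G0, G0⁆
  have hmap0 : G0.map (A).θ = twistedE6 K q := map_preG f hf
  have hmap1 : G1.map (A).θ = twistedE6 K q := by
    rw [Subgroup.map_commutator, hmap0, ← Subgroup.map_subtype_commutator, hperf,
      ← MonoidHom.range_eq_map, Subgroup.range_subtype]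
  let σ : ↥G1 →* ↥(twistedE6 K q) := ((A).θ.comp G1.subtype).codRestrict _
    fun x => hmap1.le ⟨x, x.2, rfl⟩
  have hcen : ∀ z : chevE6.SteinbergGroup K, (A).θ z = 1 → ∀ x, x * z = z * x := fun z hz x =>
    Subgroup.mem_center_iff.1 ((A).ker_eq_center hN ▸ (MonoidHom.mem_ker.2 hz)) x
  have hsurj : Function.Surjective σ := fun y => by
    obtain ⟨x, hx, e⟩ := hmap1.ge y.2
    exact ⟨⟨x, hx⟩, Subtype.ext e⟩
  -- the derived group is perfect
  have hperf1 : commutator ↥G1 = ⊤ := by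
    apply Subgroup.map_injective G1.subtype_injective
    rw [Subgroup.map_subtype_commutator, ← MonoidHom.range_eq_map, Subgroup.range_subtype]
    refine le_antisymm (Subgroup.commutator_le_self _) ?_
    refine Subgroup.commutator_le.2 fun a ha b hb => ?_
    obtain ⟨a', ha', ea⟩ := hmap1.ge (hmap0.le ⟨a, ha, rfl⟩)
    obtain ⟨b', hb', eb⟩ := hmap1.ge (hmap0.le ⟨b, hb, rfl⟩)
    have hz : ∀ {x x' : chevE6.SteinbergGroup K}, (A).θ x' = (A).θ x →
        x'⁻¹ * x ∈ Subgroup.center (chevE6.SteinbergGroup K) := fun {x x'} e => by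
      rw [← (A).ker_eq_center hN, MonoidHom.mem_ker, map_mul, map_inv, e, inv_mul_cancel]
    have ca := hz ea
    have cb := hz eb
    have e : ⁅a, b⁆ = ⁅a', b'⁆ := by
      rw [show a = a' * (a'⁻¹ * a) by group, show b = b' * (b'⁻¹ * b) by group]
      generalize a'⁻¹ * a = za at ca
      generalize b'⁻¹ * b = zb at cb
      rw [Subgroup.mem_center_iff] at ca cb
      simp only [commutatorElement_def, _root_.mul_inv_rev]
      calc a' * za * (b' * zb) * (za⁻¹ * a'⁻¹) * (zb⁻¹ * b'⁻¹)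
          = a' * (za * (b' * zb)) * za⁻¹ * a'⁻¹ * zb⁻¹ * b'⁻¹ := by group
        _ = a' * b' * (zb * a'⁻¹) * zb⁻¹ * b'⁻¹ := by rw [← ca]; group
        _ = _ := by rw [← cb]; group
    rw [e]
    exact Subgroup.commutator_mem_commutator ha' hb'
  refine ⟨↥G1, inferInstance, inferInstance, σ, ⟨hsurj, ?_, ?_⟩, ?_⟩
  · intro z hz
    rw [Subgroup.mem_center_iff]
    exact fun x => Subtype.ext (hcen z (congrArg Subtype.val (MonoidHom.mem_ker.1 hz)) x)
  · rw [hperf1]; exact le_top
  -- the element of order three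
  have hker : Nat.card (A).θ.ker = 3 := by
    rw [(A).ker_eq_center hN, card_center_E6, hK]
    refine Nat.gcd_eq_left (h3.trans ⟨q - 1, ?_⟩)
    simpa using Nat.sq_sub_sq q 1
  haveI : Fact (Nat.Prime 3) := ⟨Nat.prime_three⟩
  obtain ⟨⟨z, hz⟩, hzo⟩ := exists_prime_orderOf_dvd_card' (G := (A).θ.ker) 3 (by rw [hker])
  have ho : orderOf z = 3 := by rw [← hzo]; exact Subgroup.orderOf_coe (⟨z, hz⟩ : (A).θ.ker)
  have hz0 : z ∈ G0 := ker_le_preG f hf hK h3 hz
  have hp3 : p ≠ 3 := by
    rintro rfl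
    obtain ⟨n, -, hn⟩ := FiniteField.card K 3
    have h : 3 ∣ q := Nat.prime_three.dvd_of_dvd_pow (n := 2) (by
      rw [← hK, hn]; exact dvd_pow_self 3 n.ne_zero)
    have := Nat.dvd_sub h3 h
    rw [Nat.add_sub_cancel_left] at this
    omega
  have hz1 : z ∈ G1 := by
    let ab : ↥G0 →* Abelianization ↥G0 := Abelianization.of
    have hpow : ∀ x : ↥G0, ab x ^ p = 1 := by
      rintro ⟨x, hx⟩
      induction hx using Subgroup.closure_induction with
      | mem x hx =>
        rw [← map_pow]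
        refine (congrArg ab (Subtype.ext ?_)).trans (map_one ab)
        exact liftGens_pow f hf hK hx
      | one => exact (congrArg (· ^ p) (map_one ab)).trans (one_pow p)
      | mul a b ha hb iha ihb =>
        show ab (⟨a, ha⟩ * ⟨b, hb⟩) ^ p = 1
        rw [map_mul, mul_pow, iha, ihb, one_mul]
      | inv a ha iha =>
        show ab (⟨a, ha⟩⁻¹) ^ p = 1
        rw [map_inv, inv_pow, iha, inv_one]
    have hz3 : ab ⟨z, hz0⟩ ^ 3 = 1 := by
      rw [← map_pow]
      refine (congrArg ab (Subtype.ext ?_)).trans (map_one ab)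
      show z ^ 3 = 1
      rw [← ho, pow_orderOf_eq_one]
    have h1 : ab ⟨z, hz0⟩ = 1 := by
      have hg : Nat.gcd p 3 = 1 :=
        (Nat.coprime_primes Fact.out Nat.prime_three).2 hp3
      have := pow_gcd_eq_one.2 ⟨hpow ⟨z, hz0⟩, hz3⟩
      rwa [hg, pow_one] at this
    have h2 := Subgroup.mem_map_of_mem G0.subtype
      ((QuotientGroup.eq_one_iff (N := commutator ↥G0) _).1 h1)
    rwa [Subgroup.map_subtype_commutator] at h2
  refine ⟨⟨z, hz1⟩, Subtype.ext (MonoidHom.mem_ker.1 hz), ?_⟩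
  rw [← Subgroup.orderOf_coe]
  exact ho

end Cfsg.Agent.Classical.E6Mult
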