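import Cfsg.Agent.Lib.Classical.TrialityComm
import Cfsg.Agent.Lib.Lie.Chev.TwistNodes
import Cfsg.Agent.Lib.Lie.Chev.TwistAut

/-!
The two rank one groups of ³D₄(q): faithful images of `SL₂` over `GF(q)` and `GF(q³)`, their tori,
and the split of the opposite root elements.
-/

set_option autoImplicit false
set_option linter.unusedSectionVars false
set_option linter.unusedSimpArgs false
set_option maxRecDepth 8000

namespace Cfsg.Agent.Classical.Triality

open Cfsg.Lie Cfsg.Agent.Lie.Chev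
open scoped MatrixGroups

section SLTwo

variable {L : Type*} [Field L]

theorem dSL_eq {d : L} (hd : d ≠ 0) : dSL d hd = nSL d * nSL (-1) := by
  refine ext_two ?_ ?_ ?_ ?_ <;>
    simp [dSL_val, nSL, upSL_val, loSL_val, Matrix.mul_apply, Fin.sum_univ_two, hd]

theorem loSL_eq {t : L} (ht : t ≠ 0) :
    loSL (-t) = upSL (-t⁻¹) * dSL t⁻¹ (inv_ne_zero ht) * nSL 1 * upSL (-t⁻¹) := by
  refine ext_two ?_ ?_ ?_ ?_ <;>
    simp [dSL_val, nSL, upSL_val, loSL_val, Matrix.mul_apply, Fin.sum_univ_two, ht]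

theorem eq_dSL {g : SL(2, L)} (h1 : g.1 1 0 = 0) (h2 : g.1 0 1 = 0) :
    ∃ (d : L) (hd : d ≠ 0), g = dSL d hd := by
  have hdet := det_two g
  rw [h1, h2, mul_zero, sub_zero] at hdet
  refine ⟨g.1 0 0, left_ne_zero_of_mul_eq_one hdet, ext_two ?_ ?_ ?_ ?_⟩ <;> simp [dSL_val, h1, h2]
  exact eq_inv_of_mul_eq_one_right hdet

theorem eq_prod {g : SL(2, L)} (hc : g.1 1 0 ≠ 0) :
    g = upSL ((g.1 0 0 - 1) / g.1 1 0) * loSL (g.1 1 0) * upSL ((g.1 1 1 - 1) / g.1 1 0) := by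
  refine ext_two ?_ ?_ ?_ ?_ <;>
    simp [upSL_val, loSL_val, Matrix.mul_apply, Fin.sum_univ_two]
  all_goals field_simp
  all_goals first
    | linear_combination (-1 : L) * det_two g
    | linear_combination (0 : L) * det_two g

theorem conj_nSL_entry (g : SL(2, L)) : (nSL 1 * g * (nSL 1)⁻¹).1 1 0 = -g.1 0 1 := by
  simp [nSL, upSL_val, loSL_val, Matrix.mul_apply, Matrix.vecMul, dotProduct, Fin.sum_univ_two,
    inv_val, Matrix.adjugate_fin_two]

theorem conj_upSL_entry (g : SL(2, L)) : (g * upSL 1 * g⁻¹).1 1 0 = -(g.1 1 0 * g.1 1 0) := by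
  simp [upSL_val, Matrix.mul_apply, Matrix.vecMul, dotProduct, Fin.sum_univ_two, inv_val,
    Matrix.adjugate_fin_two]
  ring

theorem mem_of_gens {H : Subgroup SL(2, L)} (hu : ∀ t, upSL t ∈ H) (hl : ∀ t, loSL t ∈ H)
    (g : SL(2, L)) : g ∈ H := by
  by_cases hc : g.1 1 0 = 0
  · have hc' : (g * loSL 1).1 1 0 ≠ 0 := by
      simp [loSL_val, Matrix.mul_apply, Fin.sum_univ_two, hc]
      intro e; simpa [hc, e] using det_two g
    have h := eq_prod hc'
    have h1 : g * loSL 1 ∈ H := h ▸ mul_mem (mul_mem (hu _) (hl _)) (hu _)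
    have := mul_mem h1 (inv_mem (hl 1))
    rwa [mul_inv_cancel_right] at this
  · rw [eq_prod hc]; exact mul_mem (mul_mem (hu _) (hl _)) (hu _)

end SLTwo

/-- The word conjugating the short rank one group to itself. -/
def wordW : List ℕ := [1, 0, 2, 3, 1, 0, 2, 3, 1]

/-- The alternating words. -/
def altWord (k : ℕ) (e : Bool) : List ℕ :=
  (List.replicate k [1, 0, 2, 3]).flatten ++ cond e [0, 2, 3] []

/-- The inversion sets, the stabilising word, the twelve words, the dichotomy. -/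
def checkLevi : Bool :=
  let T := certFullD4.T
  ((List.range' 12 12).all fun r =>
    (Nat.ble 12 (T.wlT [1] r) == !(Nat.beq r 14)) &&
      (Nat.ble 12 (T.wlT [0, 2, 3] r) == !(Nat.beq r 18 || Nat.beq r 13 || Nat.beq r 12))) &&
  ([18, 13, 12].all fun r => let w := T.wlT wordW r; Nat.beq w 18 || Nat.beq w 13 || Nat.beq w 12) &&
  ((List.range 4).all fun q =>
    Nat.beq (T.wlT (wordW ++ [0, 2, 3]) (T.simple q)) (T.wlT ([0, 2, 3] ++ wordW) (T.simple q))) &&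
  ((List.range 6).all fun k => [false, true].all fun e => (Nat.beq k 0 && !e) ||
    (List.range 4).any fun q => Nat.blt (T.wlT (altWord k e) (T.simple q)) 12) &&
  (List.range 12).all fun i =>
    let L := flatW orbitsD4 (twistD4Reps.get i).word
    [([1], [14]), ([0, 2, 3], [18, 13, 12])].all fun J =>
      (J.2.all fun r => Nat.ble 12 (T.wlT L.reverse r)) ||
        J.2.all fun r => Nat.ble 12 (T.wlT (J.1 ++ L).reverse r)

theorem checkLevi_ok : checkLevi = true := by decide +kernel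

variable {K : Type*} [Field K] [Fintype K] (f : K →+* K) {q : ℕ} (hf : ∀ t, f t = t ^ q)
  (hK : Fintype.card K = q ^ 3)

include hf hK

local notation "Z" => D4.datum f hf hK
local notation "NN" => D4.nodes f hf hK

/-- The torus. -/
noncomputable def torH : Subgroup ↥(Z).G₁ :=
  (chevD4.diagonalSubgroup K ⊓ (D4.tw f).fix).subgroupOf (Z).G₁

theorem torH_conj_X {J : List ℕ} {k x : GL chevD4.Idx K}
    (hk : k ∈ chevD4.diagonalSubgroup K ⊓ (D4.tw f).fix) (hx : x ∈ (Z).X J) :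
    k * x * k⁻¹ ∈ (Z).X J :=
  ⟨certFullD4.H_conj_KS (fun r hr => hr.1) hk.1 hx.1,
    Subgroup.mul_mem _ (Subgroup.mul_mem _ hk.2 hx.2) (Subgroup.inv_mem _ hk.2)⟩

/-- A rank one group. -/
noncomputable def rkG (i : Fin (NN).m) : Subgroup ↥(Z).G₁ := ((NN).PhiG i).range

theorem gen_eq (i : Fin (NN).m) : (Z).gen ((NN).J_mem i) = (NN).PhiG i (nSL 1) :=
  Subtype.ext ((NN).Phi_n i).symm

theorem mem_X_iff (i : Fin (NN).m) {x : ↥(Z).G₁} :
    (x : GL chevD4.Idx K) ∈ (Z).X ((NN).J i) ↔ ∃ t, (NN).upG i t = x := by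
  rw [(NN).X_eq i]
  exact exists_congr fun t => ⟨fun h => Subtype.ext (((NN).upG_coe i t).trans h),
    fun h => by rw [← h, (NN).upG_coe]⟩

theorem mem_torH_conj {J : List ℕ} (hJ : J ∈ (Z).W.Jw) {a : ↥(Z).G₁} (ha : a ∈ torH f hf hK) :
    (Z).gen hJ * a * ((Z).gen hJ)⁻¹ ∈ torH f hf hK ∧
      ((Z).gen hJ)⁻¹ * a * (Z).gen hJ ∈ torH f hf hK := by
  obtain ⟨-, hlt, -⟩ := (Z).W.J_spec hJ
  have hn := certFullD4.nw_mem_N (F := K) hlt
  refine ⟨⟨certFullD4.N_conj_H hn ha.1, Subgroup.mul_mem _ (Subgroup.mul_mem _ ((Z).nw_J_fix hJ)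
    ha.2) (Subgroup.inv_mem _ ((Z).nw_J_fix hJ))⟩, ?_, Subgroup.mul_mem _ (Subgroup.mul_mem _
    (Subgroup.inv_mem _ ((Z).nw_J_fix hJ)) ha.2) ((Z).nw_J_fix hJ)⟩
  have h := certFullD4.N_conj_H (inv_mem hn) ha.1
  rwa [inv_inv] at h

/-- An element whose conjugation keeps both root groups keeps the rank one group. -/
theorem conj_rkG (i : Fin (NN).m) {e : ↥(Z).G₁}
    (hu : ∀ t, e * (NN).upG i t * e⁻¹ ∈ rkG f hf hK i)
    (hl : ∀ t, e * (NN).loG i t * e⁻¹ ∈ rkG f hf hK i) {g : ↥(Z).G₁} (hg : g ∈ rkG f hf hK i) :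
    e * g * e⁻¹ ∈ rkG f hf hK i := by
  obtain ⟨y, rfl⟩ := hg
  exact mem_of_gens (H := ((rkG f hf hK i).comap (MulAut.conj e).toMonoidHom).comap ((NN).PhiG i))
    hu hl y

theorem loG_eq (i : Fin (NN).m) (t : (NN).L i) : (NN).loG i t =
    (Z).gen ((NN).J_mem i) * (NN).upG i (-t) * ((Z).gen ((NN).J_mem i))⁻¹ := by
  rw [gen_eq, Twist.Nodes.loG, Twist.Nodes.upG, ← map_inv, ← map_mul, ← map_mul,
    nSL_conj_up one_ne_zero, mul_inv_cancel_right, mul_one, div_one, neg_neg]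

theorem torH_conj_rkG (i : Fin (NN).m) {a g : ↥(Z).G₁} (ha : a ∈ torH f hf hK)
    (hg : g ∈ rkG f hf hK i) : a * g * a⁻¹ ∈ rkG f hf hK i := by
  have hup : ∀ {a : ↥(Z).G₁}, a ∈ torH f hf hK → ∀ t, ∃ t', a * (NN).upG i t * a⁻¹ = (NN).upG i t' := by
    intro a ha t
    obtain ⟨t', ht'⟩ := (mem_X_iff f hf hK i (x := a * (NN).upG i t * a⁻¹)).1 (by
      rw [Subgroup.coe_mul, Subgroup.coe_mul, Subgroup.coe_inv]
      exact torH_conj_X f hf hK ha ((mem_X_iff f hf hK i).2 ⟨t, rfl⟩))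
    exact ⟨t', ht'.symm⟩
  refine conj_rkG f hf hK i (fun t => ?_) (fun t => ?_) hg
  · obtain ⟨t', e⟩ := hup ha t
    exact e ▸ ⟨_, rfl⟩
  · obtain ⟨t', e⟩ := hup (mem_torH_conj f hf hK ((NN).J_mem i) ha).2 (-t)
    refine ⟨loSL (-t'), ?_⟩
    show (NN).loG i (-t') = _
    rw [loG_eq f hf hK i t, loG_eq f hf hK i (-t'), neg_neg, ← e]
    group

/-- The torus element of a rank one group. -/
theorem torus_mul (s s' t t' : Kˣ) :
    D4.zOf f (s * s') (t * t') = D4.zOf f s t * D4.zOf f s' t' := by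
  funext j
  simp only [Pi.mul_apply, D4.zOf]
  split_ifs <;> simp

theorem tH_inj {s s' t t' : Kˣ} {ht : f (t : K) = t} {ht' : f (t' : K) = t'}
    (e : tH f hf hK s t ht = tH f hf hK s' t' ht') : s = s' ∧ t = t' := by
  have e' : certFullD4.torus (D4.zOf f s t) = certFullD4.torus (D4.zOf f s' t') :=
    congrArg Subtype.val e
  have h : certFullD4.torus (D4.zOf f (s * s'⁻¹) (t * t'⁻¹)) = 1 := by
    rw [torus_mul f hf hK, map_mul, show D4.zOf f s'⁻¹ t'⁻¹ = (D4.zOf f s' t')⁻¹ from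
      eq_inv_of_mul_eq_one_left (by
        rw [← torus_mul f hf hK, inv_mul_cancel, inv_mul_cancel]
        funext j; simp [D4.zOf]), map_inv, e', mul_inv_cancel]
  obtain ⟨h0, h1, -, -, h5⟩ := D4.eq_one_of_torus h
  set a : Kˣ := s * s'⁻¹
  simp only [D4.zOf, ↓reduceIte, show ¬ (1 : ℕ) = 0 by omega, show ¬ (2 : ℕ) = 0 by omega,
    show ¬ (2 : ℕ) = 1 by omega, show ¬ (3 : ℕ) = 0 by omega, show ¬ (3 : ℕ) = 1 by omega,
    show ¬ (3 : ℕ) = 2 by omega] at h0 h1 h5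
  have hfa : Units.map (f : K →* K) a = a := by
    have : (a : K) * a = 1 := by rw [← Units.val_mul, h0, Units.val_one]
    refine Units.ext ?_
    rcases mul_self_eq_one_iff.1 this with e | e <;> simp [e]
  rw [hfa, hfa, h0, one_mul] at h5
  exact ⟨mul_inv_eq_one.1 h5, mul_inv_eq_one.1 h1⟩

theorem hg_one (r : ℕ) : certFullD4.hg r (1 : K) = 1 := by
  rw [Cert.hg, ← certFullD4.ng_inv, mul_inv_cancel]

theorem torus_tH (s t : Kˣ) : certFullD4.torus (D4.zOf f s t) =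
    certFullD4.hg 18 (s : K) * certFullD4.hg 14 (t : K) * certFullD4.hg 13 (f s) *
      certFullD4.hg 12 (f (f s)) := by
  obtain ⟨s0, s1, s2, s3, hrk, -⟩ := D4.simple_values
  rw [certFullD4.torus_eq_prod]
  show (List.map _ (List.range 4)).prod = _
  simp [List.range_succ, s0, s1, s2, s3, D4.zOf, mul_assoc]

theorem Phi_dSL (i : Fin (NN).m) {d : (NN).L i} (hd : d ≠ 0) :
    (NN).Phi i (dSL d hd) = (((NN).J i).map fun p =>
      certFullD4.hg (chevD4.simple p) ((NN).E p (d : K))).prod := by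
  rw [(NN).Phi_apply]
  refine congrArg List.prod (List.map_congr_left fun p hp => ?_)
  rw [dSL_eq, map_mul, map_mul, Twist.Nodes.map_nSL, Twist.Nodes.map_nSL, map_neg, map_one,
    certFullD4.slNode_nSL ((NN).lt hp), certFullD4.slNode_nSL ((NN).lt hp)]
  rfl

/-- The node of the long root. -/
noncomputable def nodeB : Fin (NN).m := (0 : Fin 2)

/-- The node of the short root. -/
noncomputable def nodeA : Fin (NN).m := (1 : Fin 2)

theorem node_cases (i : Fin (NN).m) : i = nodeB f hf hK ∨ i = nodeA f hf hK := by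
  change Fin 2 at i
  exact (show i = 0 ∨ i = 1 by omega)

theorem PhiB_dSL {d : (NN).L (nodeB f hf hK)} (hd : d ≠ 0) :
    ∃ (t : Kˣ) (ht : f (t : K) = t), (t : K) = (d : K) ∧
      (NN).PhiG (nodeB f hf hK) (dSL d hd) = tH f hf hK 1 t ht := by
  have hd' : (d : K) ≠ 0 := fun e => hd (Subtype.ext e)
  refine ⟨Units.mk0 _ hd', d.2, rfl, Subtype.ext ?_⟩
  show (NN).Phi (nodeB f hf hK) (dSL d hd) = certFullD4.torus (D4.zOf f 1 (Units.mk0 _ hd'))
  rw [Phi_dSL, torus_tH f hf hK]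
  simp only [Units.val_one, map_one, hg_one f hf hK, one_mul, mul_one, Units.val_mk0]
  show (List.map _ [1]).prod = _
  simp [D4.simple_values.2.1, D4.nodes, D4.nodeEnd]

theorem PhiA_dSL {d : (NN).L (nodeA f hf hK)} (hd : d ≠ 0) :
    ∃ s : Kˣ, (s : K) = (d : K) ∧
      (NN).PhiG (nodeA f hf hK) (dSL d hd) = tH f hf hK s 1 (map_one f) := by
  obtain ⟨s0, s1, s2, s3, -⟩ := D4.simple_values
  have hd' : (d : K) ≠ 0 := fun e => hd (Subtype.ext e)
  refine ⟨Units.mk0 _ hd', rfl, Subtype.ext ?_⟩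
  show (NN).Phi (nodeA f hf hK) (dSL d hd) = certFullD4.torus (D4.zOf f (Units.mk0 _ hd') 1)
  rw [Phi_dSL, torus_tH f hf hK]
  simp only [Units.val_one, hg_one f hf hK, one_mul, mul_one, Units.val_mk0]
  show (List.map _ [0, 2, 3]).prod = _
  simp [s0, s2, s3, D4.nodes, D4.nodeEnd, mul_assoc]

theorem PhiG_dSL_mem (i : Fin (NN).m) {d : (NN).L i} (hd : d ≠ 0) :
    (NN).PhiG i (dSL d hd) ∈ torH f hf hK := by
  rcases node_cases f hf hK i with rfl | rfl
  · obtain ⟨t, ht, -, e⟩ := PhiB_dSL f hf hK hd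
    exact e ▸ ⟨certFullD4.torus_mem _, D4.torus_zOf_fix f hf hK _ _ ht⟩
  · obtain ⟨s, -, e⟩ := PhiA_dSL f hf hK hd
    exact e ▸ ⟨certFullD4.torus_mem _, D4.torus_zOf_fix f hf hK _ _ (map_one f)⟩

theorem PhiG_dSL_one (i : Fin (NN).m) {d : (NN).L i} (hd : d ≠ 0)
    (h : (NN).PhiG i (dSL d hd) = 1) : d = 1 := by
  have h11 : tH f hf hK 1 1 (map_one f) = 1 := Subtype.ext (by
    show certFullD4.torus (D4.zOf f (1 : Kˣ) 1) = 1
    rw [show D4.zOf f (1 : Kˣ) 1 = 1 from funext fun j => by simp [D4.zOf], map_one])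
  rcases node_cases f hf hK i with rfl | rfl
  · obtain ⟨t, ht, et, e⟩ := PhiB_dSL f hf hK hd
    rw [h, ← h11] at e
    exact Subtype.ext (by rw [← et, ← (tH_inj f hf hK e).2]; rfl)
  · obtain ⟨s, es, e⟩ := PhiA_dSL f hf hK hd
    rw [h, ← h11] at e
    exact Subtype.ext (by rw [← es, ← (tH_inj f hf hK e).1]; rfl)

theorem PhiG_injective (i : Fin (NN).m) : Function.Injective ((NN).PhiG i) := by
  refine (injective_iff_map_eq_one _).2 fun g hg => ?_
  have h10 : ∀ g, (NN).PhiG i g = 1 → g.1 1 0 = 0 := by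
    intro g hg
    by_contra hc
    rw [eq_prod hc, map_mul, map_mul] at hg
    refine hc ((NN).PhiG_disj i
      (-((g.1 0 0 - 1) / g.1 1 0) + -((g.1 1 1 - 1) / g.1 1 0)) _ ?_)
    rw [upSL_add, map_mul, show ∀ a : (NN).L i, (NN).PhiG i (upSL (-a)) = ((NN).PhiG i (upSL a))⁻¹
      from fun a => eq_inv_of_mul_eq_one_left (by
        rw [← map_mul, ← upSL_add, neg_add_cancel, upSL_zero, map_one]),
      show ∀ a : (NN).L i, (NN).PhiG i (upSL (-a)) = ((NN).PhiG i (upSL a))⁻¹ from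
        fun a => eq_inv_of_mul_eq_one_left (by
          rw [← map_mul, ← upSL_add, neg_add_cancel, upSL_zero, map_one])]
    rw [eq_inv_mul_iff_mul_eq, eq_comm, inv_eq_iff_mul_eq_one]
    exact mul_eq_one_comm.1 hg
  have h01 : g.1 0 1 = 0 := by
    have h := h10 (nSL 1 * g * (nSL 1)⁻¹) (by
      rw [map_mul, map_mul, hg, mul_one, ← map_mul, mul_inv_cancel, map_one])
    rw [conj_nSL_entry, neg_eq_zero] at h
    exact h
  obtain ⟨d, hd, rfl⟩ := eq_dSL (h10 g hg) h01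
  obtain rfl := PhiG_dSL_one f hf hK i hd hg
  refine ext_two ?_ ?_ ?_ ?_ <;> simp [dSL_val]

/-- The elements of a rank one group in the torus. -/
theorem rkG_torH (i : Fin (NN).m) {a : ↥(Z).G₁} (ha : a ∈ rkG f hf hK i)
    (haT : a ∈ torH f hf hK) : ∃ (d : (NN).L i) (hd : d ≠ 0), (NN).PhiG i (dSL d hd) = a := by
  obtain ⟨g, rfl⟩ := ha
  have h10 : ∀ g, (NN).PhiG i g ∈ torH f hf hK → g.1 1 0 = 0 := by
    intro g hg
    obtain ⟨t', e⟩ := (mem_X_iff f hf hK i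
      (x := (NN).PhiG i g * (NN).upG i 1 * ((NN).PhiG i g)⁻¹)).1 (by
      rw [Subgroup.coe_mul, Subgroup.coe_mul, Subgroup.coe_inv]
      exact torH_conj_X f hf hK hg ((mem_X_iff f hf hK i).2 ⟨1, rfl⟩))
    rw [Twist.Nodes.upG, Twist.Nodes.upG, ← map_inv, ← map_mul, ← map_mul] at e
    have h : (upSL t').1 1 0 = (g * upSL 1 * g⁻¹).1 1 0 :=
      congrArg (fun m => m.1 1 0) (PhiG_injective f hf hK i e)
    rw [conj_upSL_entry, eq_comm, neg_eq_iff_eq_neg] at h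
    refine mul_self_eq_zero.1 ?_
    rw [h]
    simp [upSL_val]
  have h01 : g.1 0 1 = 0 := by
    have h := h10 (nSL 1 * g * (nSL 1)⁻¹) (by
      rw [map_mul, map_mul, map_inv, ← gen_eq]
      exact (mem_torH_conj f hf hK ((NN).J_mem i) haT).1)
    rw [conj_nSL_entry, neg_eq_zero] at h
    exact h
  obtain ⟨d, hd, rfl⟩ := eq_dSL (h10 g haT) h01
  exact ⟨d, hd, rfl⟩

/-- The tori of the two rank one groups meet trivially. -/
theorem torH_disjoint {a : ↥(Z).G₁} (hA : a ∈ rkG f hf hK (nodeA f hf hK))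
    (hB : a ∈ rkG f hf hK (nodeB f hf hK)) (haT : a ∈ torH f hf hK) : a = 1 := by
  obtain ⟨d, hd, rfl⟩ := rkG_torH f hf hK _ hA haT
  obtain ⟨d', hd', e⟩ := rkG_torH f hf hK _ hB haT
  obtain ⟨s, -, es⟩ := PhiA_dSL f hf hK hd
  obtain ⟨t, ht, -, et⟩ := PhiB_dSL f hf hK hd'
  rw [et, es] at e
  obtain ⟨rfl, rfl⟩ := tH_inj f hf hK e
  rw [es]
  exact Subtype.ext (by
    show certFullD4.torus (D4.zOf f (1 : Kˣ) 1) = 1
    rw [show D4.zOf f (1 : Kˣ) 1 = 1 from funext fun j => by simp [D4.zOf], map_one])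

/-- The torus is generated by the two tori. -/
theorem torH_split {a : ↥(Z).G₁} (ha : a ∈ torH f hf hK) :
    ∃ x ∈ rkG f hf hK (nodeA f hf hK), ∃ y ∈ rkG f hf hK (nodeB f hf hK),
      x ∈ torH f hf hK ∧ y ∈ torH f hf hK ∧ a = x * y := by
  obtain ⟨s, t, ht, e⟩ := D4.exists_zOf f hf hK ha
  set sA : (NN).L (nodeA f hf hK) := ⟨(s : K), trivial⟩
  set tB : (NN).L (nodeB f hf hK) := ⟨(t : K), ht⟩
  have hsA : sA ≠ 0 := fun h => s.ne_zero (congrArg Subtype.val h)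
  have htB : tB ≠ 0 := fun h => t.ne_zero (congrArg Subtype.val h)
  obtain ⟨s', es', eA⟩ := PhiA_dSL f hf hK hsA
  obtain ⟨t', ht', et', eB⟩ := PhiB_dSL f hf hK htB
  obtain rfl : s' = s := Units.ext es'
  obtain rfl : t' = t := Units.ext et'
  refine ⟨_, ⟨_, rfl⟩, _, ⟨_, rfl⟩, PhiG_dSL_mem f hf hK _ hsA, PhiG_dSL_mem f hf hK _ htB,
    Subtype.ext ?_⟩
  rw [eA, eB]
  show (a : GL chevD4.Idx K) =
    certFullD4.torus (D4.zOf f s' 1) * certFullD4.torus (D4.zOf f 1 t')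
  rw [← map_mul, ← torus_mul f hf hK, mul_one, one_mul]
  exact e

theorem torH_comm {a b : ↥(Z).G₁} (ha : a ∈ torH f hf hK) (hb : b ∈ torH f hf hK) :
    Commute a b := by
  obtain ⟨s, t, -, e⟩ := D4.exists_zOf f hf hK ha
  obtain ⟨s', t', -, e'⟩ := D4.exists_zOf f hf hK hb
  have e1 : (a : GL chevD4.Idx K) = _ := e
  have e2 : (b : GL chevD4.Idx K) = _ := e'
  refine Subtype.ext ?_
  show (a : GL chevD4.Idx K) * b = b * a
  rw [e1, e2, ← map_mul, ← map_mul, mul_comm]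

/-- Splitting an opposite root element. -/
theorem split_lo (i : Fin (NN).m) {x : ↥(Z).G₁} (hx : (x : GL chevD4.Idx K) ∈ (Z).X ((NN).J i))
    (hx1 : x ≠ 1) :
    ∃ x1 w a : ↥(Z).G₁, (x1 : GL chevD4.Idx K) ∈ (Z).X ((NN).J i) ∧
      (w : GL chevD4.Idx K) ∈ (Z).X ((NN).J i) ∧ a ∈ torH f hf hK ∧ a ∈ rkG f hf hK i ∧
      (Z).gen ((NN).J_mem i) * x * ((Z).gen ((NN).J_mem i))⁻¹ =
        x1 * a * (Z).gen ((NN).J_mem i) * w := by
  obtain ⟨t, rfl⟩ := (mem_X_iff f hf hK i).1 hx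
  have ht : t ≠ 0 := fun e => hx1 (by rw [e, Twist.Nodes.upG, upSL_zero, map_one])
  refine ⟨(NN).upG i (-t⁻¹), (NN).upG i (-t⁻¹), (NN).PhiG i (dSL t⁻¹ (inv_ne_zero ht)),
    (mem_X_iff f hf hK i).2 ⟨_, rfl⟩, (mem_X_iff f hf hK i).2 ⟨_, rfl⟩,
    PhiG_dSL_mem f hf hK i _, ⟨_, rfl⟩, ?_⟩
  rw [gen_eq, Twist.Nodes.upG, Twist.Nodes.upG, ← map_inv, ← map_mul, ← map_mul, ← map_mul,
    ← map_mul, ← map_mul, nSL_conj_up one_ne_zero, mul_inv_cancel_right, mul_one, div_one,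
    ← loSL_eq ht]

/-- The word normalises the short rank one group, and commutes with its Weyl element up to the
torus. -/
theorem wordW_conj {w : ↥(Z).G₁} (hw : (w : GL chevD4.Idx K) = certFullD4.nw K wordW) :
    (∀ g ∈ rkG f hf hK (nodeA f hf hK), w * g * w⁻¹ ∈ rkG f hf hK (nodeA f hf hK)) ∧
      w * (Z).gen ((NN).J_mem (nodeA f hf hK)) * w⁻¹ *
        ((Z).gen ((NN).J_mem (nodeA f hf hK)))⁻¹ ∈ torH f hf hK := by
  have h := checkLevi_ok
  simp only [checkLevi, Bool.and_eq_true, List.all_eq_true, List.mem_range'_1, Bool.or_eq_true,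
    Nat.ble_eq, List.mem_range, Nat.beq_eq, beq_iff_eq, certFullD4.wlT_eq] at h
  obtain ⟨⟨⟨⟨hinv, hS⟩, hsame⟩, -⟩, -⟩ := h
  have hL : ∀ p ∈ wordW, p < chevD4.rank := by rw [D4.simple_values.2.2.2.2.1]; decide
  have hA : ∀ p ∈ [0, 2, 3], p < chevD4.rank := lt_rank.2
  have hJ : (NN).J (nodeA f hf hK) = [0, 2, 3] := rfl
  set n := (Z).gen ((NN).J_mem (nodeA f hf hK))
  have hwl : ∀ r ∈ certFullD4.invSet [0, 2, 3],
      certFullD4.wl wordW r ∈ certFullD4.invSet [0, 2, 3] := by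
    intro r hr
    have hiff : ∀ s, certFullD4.Pos s → (s ∈ certFullD4.invSet [0, 2, 3] ↔
        s = 18 ∨ s = 13 ∨ s = 12) := fun s hs => by
      obtain ⟨a, b⟩ := pos_iff.1 hs
      have e := (hinv s ⟨a, by omega⟩).2
      rw [Bool.eq_iff_iff, Nat.ble_eq, Bool.not_eq_true', ← Bool.not_eq_true, Bool.or_eq_true,
        Bool.or_eq_true, Nat.beq_eq, Nat.beq_eq, Nat.beq_eq, or_assoc] at e
      have hlt : certFullD4.wl [0, 2, 3] s < 24 := certFullD4.wl_lt hA hs.2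
      show (_ ∧ ¬ _) ↔ _
      rw [pos_iff (r := certFullD4.wl [0, 2, 3] s)]
      constructor
      · rintro ⟨-, h'⟩
        by_contra hno
        exact h' ⟨e.2 hno, hlt⟩
      · exact fun h' => ⟨hs, fun h'' => e.1 h''.1 h'⟩
    have h18 : r ∈ [18, 13, 12] := by simpa using (hiff r hr.1).1 hr
    have h' := hS r h18
    have hpos : certFullD4.Pos (certFullD4.wl wordW r) := pos_iff.2 (by omega)
    exact (hiff _ hpos).2 (or_assoc.1 h')
  have hwX : ∀ {x : ↥(Z).G₁}, (x : GL chevD4.Idx K) ∈ (Z).X [0, 2, 3] →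
      ((w * x * w⁻¹ : ↥(Z).G₁) : GL chevD4.Idx K) ∈ (Z).X [0, 2, 3] := fun {x} hx =>
    ⟨by
      rw [Subgroup.coe_mul, Subgroup.coe_mul, Subgroup.coe_inv, hw]
      exact certFullD4.nw_conj_KS hL (fun r hr => hr.1) (fun r hr => hr.1) hwl hx.1,
      (Z).le_fix (w * x * w⁻¹).2⟩
  obtain ⟨k, hk, e⟩ := certFullD4.exists_H_mul_of_same (F := K) (L := wordW ++ [0, 2, 3])
    (M := [0, 2, 3] ++ wordW) (fun p hp => (List.mem_append.1 hp).elim (hL p) (hA p))
    (fun p hp => (List.mem_append.1 hp).elim (hA p) (hL p)) (fun q hq => by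
      rw [certFullD4.simple_eq hq]
      exact hsame q (by rw [D4.simple_values.2.2.2.2.1] at hq; exact hq))
  have hk' : w * n * w⁻¹ * n⁻¹ ∈ torH f hf hK := by
    refine ⟨?_, (Z).le_fix (w * n * w⁻¹ * n⁻¹).2⟩
    show ((w * n * w⁻¹ * n⁻¹ : ↥(Z).G₁) : GL chevD4.Idx K) ∈ chevD4.diagonalSubgroup K
    simp only [Subgroup.coe_mul, Subgroup.coe_inv, hw]
    show certFullD4.nw K wordW * certFullD4.nw K [0, 2, 3] * (certFullD4.nw K wordW)⁻¹ *
      (certFullD4.nw K [0, 2, 3])⁻¹ ∈ _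
    rw [← certFullD4.nw_append, e, certFullD4.nw_append]
    simpa [mul_assoc] using hk
  refine ⟨fun g hg => conj_rkG f hf hK _ (fun t => ?_) (fun t => ?_) hg, hk'⟩
  · obtain ⟨t', e'⟩ := (mem_X_iff f hf hK (nodeA f hf hK)).1
      (hwX ((mem_X_iff f hf hK (nodeA f hf hK)).2 ⟨t, rfl⟩))
    exact e' ▸ ⟨_, rfl⟩
  · obtain ⟨t', e'⟩ := (mem_X_iff f hf hK (nodeA f hf hK)).1
      (hwX ((mem_X_iff f hf hK (nodeA f hf hK)).2 ⟨-t, rfl⟩))
    rw [loG_eq]
    show w * (n * (NN).upG (nodeA f hf hK) (-t) * n⁻¹) * w⁻¹ ∈ _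
    rw [show w * (n * (NN).upG (nodeA f hf hK) (-t) * n⁻¹) * w⁻¹ =
      (w * n * w⁻¹ * n⁻¹) * (n * (w * (NN).upG (nodeA f hf hK) (-t) * w⁻¹) * n⁻¹) *
        (w * n * w⁻¹ * n⁻¹)⁻¹ by group]
    refine torH_conj_rkG f hf hK _ hk' ⟨loSL (-t'), ?_⟩
    show (NN).loG _ (-t') = _
    rw [loG_eq, neg_neg, e']

/-- A non-trivial alternating word is not in the torus. -/
theorem altWord_ne {k : ℕ} {e : Bool} (hk : k < 6) {a : GL chevD4.Idx K}
    (ha : a ∈ chevD4.diagonalSubgroup K) (h : certFullD4.nw K (altWord k e) = a) :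
    k = 0 ∧ e = false := by
  have hc := checkLevi_ok
  simp only [checkLevi, Bool.and_eq_true, List.all_eq_true, Bool.or_eq_true, List.any_eq_true,
    List.mem_range, Nat.beq_eq, Nat.blt_eq, Bool.not_eq_true', certFullD4.wlT_eq] at hc
  have hcase := hc.1.2 k hk e (by cases e <;> simp)
  rcases hcase with ⟨h0, he⟩ | ⟨r, hr, hneg⟩
  · exact ⟨h0, he⟩
  exfalso
  have hlt : ∀ p ∈ altWord k e, p < chevD4.rank := by
    rw [D4.simple_values.2.2.2.2.1]
    intro p hp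
    simp only [altWord, List.mem_append, List.mem_flatten, List.mem_replicate] at hp
    rcases hp with ⟨l, ⟨-, rfl⟩, hp⟩ | hp
    · fin_cases hp <;> omega
    · cases e
      · simp at hp
      · fin_cases hp <;> omega
  have hr' : r < chevD4.rank := by rw [D4.simple_values.2.2.2.2.1]; exact hr
  have hw := certFullD4.wl_eq_of_eq (L := altWord k e) (M := []) (one_mem _) ha hlt (by simp)
    (by rw [one_mul, h, certFullD4.nw_nil, mul_one]) (certFullD4.simple_lt hr')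
  rw [certFullD4.simple_eq hr'] at hw
  rw [hw, Cert.wl_nil] at hneg
  have := (certFullD4.pos_simple hr').1
  rw [certFullD4.simple_eq hr'] at this
  exact absurd this (by show ¬ 12 ≤ _; omega)

/-- One of a representative and its product with an orbit stays positive on the orbit. -/
theorem dichotomy (j : Fin (NN).m) {i : ℕ} (hi : i < 12) :
    (∀ r ∈ certFullD4.invSet ((NN).J j),
      certFullD4.Pos (certFullD4.wl ((Z).W.wd i).reverse r)) ∨
    ∀ r ∈ certFullD4.invSet ((NN).J j),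
      certFullD4.Pos (certFullD4.wl ((NN).J j ++ (Z).W.wd i).reverse r) := by
  have hc := checkLevi_ok
  simp only [checkLevi, Bool.and_eq_true, List.all_eq_true, Bool.or_eq_true, List.mem_range,
    List.mem_range'_1, Nat.ble_eq, beq_iff_eq, certFullD4.wlT_eq] at hc
  obtain ⟨⟨⟨⟨hinv, -⟩, -⟩, -⟩, hd⟩ := hc
  have hwd : (Z).W.wd i = flatW orbitsD4 (twistD4Reps.get i).word := rfl
  have hwdlt : ∀ p ∈ (Z).W.wd i, p < chevD4.rank :=
    ((Z).wd_spec (show i < (Z).W.N from hi)).1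
  have main : ∀ {J : List ℕ} {S : List ℕ}, (J, S) ∈ [([1], [14]), ([0, 2, 3], [18, 13, 12])] →
      (∀ r, r ∈ certFullD4.invSet J → r ∈ S) →
      (∀ r ∈ certFullD4.invSet J, certFullD4.Pos (certFullD4.wl ((Z).W.wd i).reverse r)) ∨
      ∀ r ∈ certFullD4.invSet J,
        certFullD4.Pos (certFullD4.wl (J ++ (Z).W.wd i).reverse r) := by
    intro J S hmem hS
    have hJlt : ∀ p ∈ J, p < chevD4.rank := by
      simp only [List.mem_cons, List.not_mem_nil, or_false, Prod.mk.injEq] at hmem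
      rcases hmem with ⟨rfl, -⟩ | ⟨rfl, -⟩
      exacts [lt_rank.1, lt_rank.2]
    rcases hd i hi (J, S) hmem with h | h
    · refine Or.inl fun r hr => pos_iff.2 ⟨hwd ▸ h r (hS r hr), ?_⟩
      exact certFullD4.wl_lt (fun p hp => hwdlt p (List.mem_reverse.1 hp)) hr.1.2
    · refine Or.inr fun r hr => pos_iff.2 ⟨hwd ▸ h r (hS r hr), ?_⟩
      exact certFullD4.wl_lt (fun p hp => (List.mem_append.1 (List.mem_reverse.1 hp)).elim
        (hJlt p) (hwdlt p)) hr.1.2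
  have hset : ∀ {J : List ℕ}, (∀ p ∈ J, p < chevD4.rank) → ∀ {r : ℕ},
      r ∈ certFullD4.invSet J → ¬ 12 ≤ certFullD4.wl J r := fun hJ r hr h' =>
    hr.2 (pos_iff.2 ⟨h', certFullD4.wl_lt hJ hr.1.2⟩)
  rcases node_cases f hf hK j with rfl | rfl
  · refine main (J := [1]) (S := [14]) (by simp) fun r hr => ?_
    obtain ⟨a, b⟩ := pos_iff.1 hr.1
    have e := (hinv r ⟨a, by omega⟩).1
    rw [Bool.eq_iff_iff, Nat.ble_eq, Bool.not_eq_true', ← Bool.not_eq_true, Nat.beq_eq] at e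
    simpa using not_not.1 fun hne => hset lt_rank.1 hr (e.2 hne)
  · refine main (J := [0, 2, 3]) (S := [18, 13, 12]) (by simp) fun r hr => ?_
    obtain ⟨a, b⟩ := pos_iff.1 hr.1
    have e := (hinv r ⟨a, by omega⟩).2
    rw [Bool.eq_iff_iff, Nat.ble_eq, Bool.not_eq_true', ← Bool.not_eq_true, Bool.or_eq_true,
      Bool.or_eq_true, Nat.beq_eq, Nat.beq_eq, Nat.beq_eq, or_assoc] at e
    simpa using not_not.1 fun hne => hset lt_rank.2 hr (e.2 hne)

end Cfsg.Agent.Classical.Triality
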