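import Cfsg.Agent.Lib.Classical.E6MultUnip
import Cfsg.Agent.Lib.Classical.TrialityLevi
import Cfsg.Agent.Lib.Lie.Chev.TwistOutE6
import Cfsg.Agent.Lib.Lie.Chev.TwistAut

/-!
The four rank one groups of ²E₆(q): faithful images of `SL₂`, their tori, and the words carrying one
onto another.
-/

set_option autoImplicit false
set_option linter.unusedSectionVars false
set_option linter.unusedSimpArgs false
set_option maxRecDepth 20000

namespace Cfsg.Agent.Classical.E6Mult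

open Cfsg.Lie Cfsg.Agent.Lie.Chev
open Cfsg.Agent.Classical.Triality (dSL_eq loSL_eq eq_dSL eq_prod conj_nSL_entry conj_upSL_entry
  mem_of_gens)
open scoped MatrixGroups

/-- The positive roots of the orbits. -/
def orbRoots : List (List ℕ) := [[46], [39], [42, 37], [56, 36]]

/-- The words carrying the rank one group of one orbit onto that of another. -/
def relData : List (List ℕ × ℕ × ℕ) :=
  [([1], 2, 2), ([1], 3, 3), ([3], 3, 3), ([1, 3], 0, 1), ([2, 4, 0, 5], 2, 3),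
    ([2, 4, 3, 2, 4], 1, 1)]

/-- The inversion sets of the orbits. -/
def checkInv : Bool :=
  (List.range 4).all fun i => (List.range' 36 36).all fun r =>
    Nat.blt (certFullE6.T.wlT (orbitsE6.getD i []) r) 36 == (orbRoots.getD i []).contains r

/-- The words carry the orbits. -/
def checkRel : Bool :=
  relData.all fun w =>
    (w.1.all fun p => Nat.blt p 6) &&
    ((orbRoots.getD w.2.1 []).all fun r =>
      (orbRoots.getD w.2.2 []).contains (certFullE6.T.wlT w.1 r)) &&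
    (List.range 6).all fun k =>
      Nat.beq (certFullE6.T.wlT (w.1 ++ orbitsE6.getD w.2.1 []) (certFullE6.T.simple k))
        (certFullE6.T.wlT (orbitsE6.getD w.2.2 [] ++ w.1) (certFullE6.T.simple k))

/-- One of a representative and its product with an orbit stays positive on the orbit. -/
def checkDicho : Bool :=
  (List.range 1152).all fun i =>
    let L := flatW orbitsE6 (twistE6Reps.get i).word
    (List.range 4).all fun j =>
      ((orbRoots.getD j []).all fun r => Nat.ble 36 (certFullE6.T.wlT L.reverse r)) ||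
        (orbRoots.getD j []).all fun r =>
          Nat.ble 36 (certFullE6.T.wlT (orbitsE6.getD j [] ++ L).reverse r)

theorem checkInv_ok : checkInv = true := by decide +kernel
theorem checkRel_ok : checkRel = true := by decide +kernel
theorem checkDicho_ok : checkDicho = true := by decide +kernel

variable {K : Type*} [Field K] [Fintype K] (f : K →+* K) {q : ℕ} (hf : ∀ t, f t = t ^ q)
  (hK : Fintype.card K = q ^ 2)

include hf hK

local notation "Z" => E6.datum f hf hK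
local notation "NN" => E6.nodes f hf hK

/-- A rank one group. -/
noncomputable def rkG (i : Fin (NN).m) : Subgroup ↥(Z).G₁ := ((NN).PhiG i).range

/-- The node at an index. -/
def nd (i : Fin 4) : Fin (NN).m := i

theorem nd_cases (i : Fin (NN).m) :
    i = nd f hf hK 0 ∨ i = nd f hf hK 1 ∨ i = nd f hf hK 2 ∨ i = nd f hf hK 3 := by
  change Fin 4 at i
  exact (show i = 0 ∨ i = 1 ∨ i = 2 ∨ i = 3 by omega)

theorem J_getD (i : Fin (NN).m) : (NN).J i = orbitsE6.getD i.val [] := by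
  rcases nd_cases f hf hK i with rfl | rfl | rfl | rfl <;> rfl

theorem invSet_mem (i : Fin (NN).m) (r : ℕ) :
    r ∈ certFullE6.invSet ((NN).J i) ↔ r ∈ orbRoots.getD i.val [] := by
  have h := checkInv_ok
  simp only [checkInv, List.all_eq_true, List.mem_range, beq_iff_eq] at h
  have hlt := ((Z).W.J_spec ((NN).J_mem i)).2.1
  have hi : i.val < 4 := i.2
  rw [E6.invSet_pair hlt, List.mem_filter, J_getD]
  constructor
  · rintro ⟨hr, hlt'⟩
    rw [h _ hi r hr] at hlt'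
    exact List.contains_iff_mem.1 hlt'
  · intro hr
    have hr' : r ∈ List.range' 36 36 := by
      rw [List.mem_range'_1]
      rcases nd_cases f hf hK i with rfl | rfl | rfl | rfl <;>
        simp [nd, orbRoots] at hr <;> omega
    exact ⟨hr', (h _ hi r hr').trans (List.contains_iff_mem.2 hr)⟩

theorem torH_conj_X {J : List ℕ} {k x : GL chevE6.Idx K}
    (hk : k ∈ chevE6.diagonalSubgroup K ⊓ (E6.tw f).fix) (hx : x ∈ (Z).X J) :
    k * x * k⁻¹ ∈ (Z).X J :=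
  ⟨certFullE6.H_conj_KS (fun r hr => hr.1) hk.1 hx.1,
    Subgroup.mul_mem _ (Subgroup.mul_mem _ hk.2 hx.2) (Subgroup.inv_mem _ hk.2)⟩

theorem torH_fix {a : ↥(Z).G₁} (ha : a ∈ torH f hf hK) :
    (a : GL chevE6.Idx K) ∈ chevE6.diagonalSubgroup K ⊓ (E6.tw f).fix :=
  ⟨ha, (Z).le_fix a.2⟩

theorem gen_eq (i : Fin (NN).m) : (Z).gen ((NN).J_mem i) = (NN).PhiG i (nSL 1) :=
  Subtype.ext ((NN).Phi_n i).symm

theorem mem_X_iff (i : Fin (NN).m) {x : ↥(Z).G₁} :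
    (x : GL chevE6.Idx K) ∈ (Z).X ((NN).J i) ↔ ∃ t, (NN).upG i t = x := by
  rw [(NN).X_eq i]
  exact exists_congr fun t => ⟨fun h => Subtype.ext (((NN).upG_coe i t).trans h),
    fun h => by rw [← h, (NN).upG_coe]⟩

theorem mem_torH_conj {J : List ℕ} (hJ : J ∈ (Z).W.Jw) {a : ↥(Z).G₁} (ha : a ∈ torH f hf hK) :
    (Z).gen hJ * a * ((Z).gen hJ)⁻¹ ∈ torH f hf hK ∧
      ((Z).gen hJ)⁻¹ * a * (Z).gen hJ ∈ torH f hf hK := by
  obtain ⟨-, hlt, -⟩ := (Z).W.J_spec hJ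
  have hn := certFullE6.nw_mem_N (F := K) hlt
  refine ⟨certFullE6.N_conj_H hn ha, ?_⟩
  have h := certFullE6.N_conj_H (inv_mem hn) ha
  rwa [inv_inv] at h

/-- An element moving both root groups of an orbit into a rank one group moves the whole group. -/
theorem conj_rkG (i j : Fin (NN).m) {e : ↥(Z).G₁}
    (hu : ∀ t, e * (NN).upG i t * e⁻¹ ∈ rkG f hf hK j)
    (hl : ∀ t, e * (NN).loG i t * e⁻¹ ∈ rkG f hf hK j) {g : ↥(Z).G₁} (hg : g ∈ rkG f hf hK i) :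
    e * g * e⁻¹ ∈ rkG f hf hK j := by
  obtain ⟨y, rfl⟩ := hg
  exact mem_of_gens (H := ((rkG f hf hK j).comap (MulAut.conj e).toMonoidHom).comap ((NN).PhiG i))
    hu hl y

theorem loG_eq (i : Fin (NN).m) (t : (NN).L i) : (NN).loG i t =
    (Z).gen ((NN).J_mem i) * (NN).upG i (-t) * ((Z).gen ((NN).J_mem i))⁻¹ := by
  rw [gen_eq, Twist.Nodes.loG, Twist.Nodes.upG, ← map_inv, ← map_mul, ← map_mul,
    nSL_conj_up one_ne_zero, mul_inv_cancel_right, mul_one, div_one, neg_neg]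

theorem torH_conj_rkG (i : Fin (NN).m) {a g : ↥(Z).G₁} (ha : a ∈ torH f hf hK)
    (hg : g ∈ rkG f hf hK i) : a * g * a⁻¹ ∈ rkG f hf hK i := by
  have hup : ∀ {a : ↥(Z).G₁}, a ∈ torH f hf hK → ∀ t, ∃ t',
      a * (NN).upG i t * a⁻¹ = (NN).upG i t' := by
    intro a ha t
    obtain ⟨t', ht'⟩ := (mem_X_iff f hf hK i (x := a * (NN).upG i t * a⁻¹)).1 (by
      rw [Subgroup.coe_mul, Subgroup.coe_mul, Subgroup.coe_inv]
      exact torH_conj_X f hf hK (torH_fix f hf hK ha) ((mem_X_iff f hf hK i).2 ⟨t, rfl⟩))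
    exact ⟨t', ht'.symm⟩
  refine conj_rkG f hf hK i i (fun t => ?_) (fun t => ?_) hg
  · obtain ⟨t', e⟩ := hup ha t
    exact e ▸ ⟨_, rfl⟩
  · obtain ⟨t', e⟩ := hup (mem_torH_conj f hf hK ((NN).J_mem i) ha).2 (-t)
    refine ⟨loSL (-t'), ?_⟩
    show (NN).loG i (-t') = _
    rw [loG_eq f hf hK i t, loG_eq f hf hK i (-t'), neg_neg, ← e]
    group

/-! ### The tori of the rank one groups -/

theorem hg_one (r : ℕ) : certFullE6.hg r (1 : K) = 1 := by
  rw [Cert.hg, ← certFullE6.ng_inv, mul_inv_cancel]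

theorem torus_eq (z : ℕ → Kˣ) : certFullE6.torus z =
    certFullE6.hg 56 (z 0 : K) * certFullE6.hg 46 (z 1 : K) *
      certFullE6.hg 42 (z 2 : K) * certFullE6.hg 39 (z 3 : K) *
      certFullE6.hg 37 (z 4 : K) * certFullE6.hg 36 (z 5 : K) := by
  obtain ⟨s0, s1, s2, s3, s4, s5, -⟩ := E6.simple_values
  rw [certFullE6.torus_eq_prod]
  show (List.map _ (List.range 6)).prod = _
  simp only [List.range_succ, List.range_zero, List.nil_append, List.cons_append,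
    List.map_cons, List.map_nil, List.prod_cons, List.prod_nil, mul_one, s0, s1, s2, s3, s4, s5,
    ← mul_assoc]

theorem Phi_dSL (i : Fin (NN).m) {d : (NN).L i} (hd : d ≠ 0) :
    (NN).Phi i (dSL d hd) = (((NN).J i).map fun p =>
      certFullE6.hg (chevE6.simple p) ((NN).E p (d : K))).prod := by
  rw [(NN).Phi_apply]
  refine congrArg List.prod (List.map_congr_left fun p hp => ?_)
  rw [dSL_eq, map_mul, map_mul, Twist.Nodes.map_nSL, Twist.Nodes.map_nSL, map_neg, map_one,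
    certFullE6.slNode_nSL ((NN).lt hp), certFullE6.slNode_nSL ((NN).lt hp)]
  rfl

/-- The parameters of a coordinate of the torus. -/
def Coord (i : Fin 4) (x : Kˣ × Kˣ × ↥(E6.fixU f) × ↥(E6.fixU f)) : Prop :=
  (i = 3 ∨ x.1 = 1) ∧ (i = 2 ∨ x.2.1 = 1) ∧ (i = 0 ∨ x.2.2.1 = 1) ∧ (i = 1 ∨ x.2.2.2 = 1)

/-- The coordinate of a node. -/
def coordVal : Fin 4 → Kˣ × Kˣ × ↥(E6.fixU f) × ↥(E6.fixU f) → Kˣ
  | 0, x => x.2.2.1
  | 1, x => x.2.2.2
  | 2, x => x.2.1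
  | 3, x => x.1

/-- The torus element of a coordinate is the image of a diagonal matrix. -/
theorem Phi_dSL_param (i : Fin 4) (x : Kˣ × Kˣ × ↥(E6.fixU f) × ↥(E6.fixU f))
    (hx : Coord f i x) {d : (NN).L (nd f hf hK i)} (hd : d ≠ 0)
    (e : (coordVal f i x : K) = (d : K)) :
    (NN).Phi (nd f hf hK i) (dSL d hd) = E6.param f x := by
  obtain ⟨s0, s1, s2, s3, s4, s5, -⟩ := E6.simple_values
  obtain ⟨s, u, t, v⟩ := x
  obtain ⟨hs, hu, ht, hv⟩ := hx
  obtain ⟨z0, z1, z2, z3, z4, z5⟩ := E6.zOf_apply f (s, u, (t : Kˣ), (v : Kˣ))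
  rw [Phi_dSL, E6.param_apply, torus_eq f hf hK, z0, z1, z2, z3, z4, z5]
  fin_cases i
  all_goals simp only [Fin.reduceEq, false_or, Fin.zero_eta, Fin.isValue, Fin.mk_one,
    Fin.reduceFinMk, true_or] at hs hu ht hv
  · subst hs hu hv
    change ((t : Kˣ) : K) = (d : K) at e
    show (List.map _ [1]).prod = _
    simp [hg_one f hf hK, s1, E6.nodes, E6.nodeEnd, e]
  · subst hs hu ht
    change ((v : Kˣ) : K) = (d : K) at e
    show (List.map _ [3]).prod = _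
    simp [hg_one f hf hK, s3, E6.nodes, E6.nodeEnd, e]
  · subst hs ht hv
    change ((u : Kˣ) : K) = (d : K) at e
    show (List.map _ [2, 4]).prod = _
    simp [hg_one f hf hK, s2, s4, E6.nodes, E6.nodeEnd, e]
  · subst hu ht hv
    change ((s : Kˣ) : K) = (d : K) at e
    show (List.map _ [0, 5]).prod = _
    simp [hg_one f hf hK, s0, s5, E6.nodes, E6.nodeEnd, e]

/-- A diagonal matrix gives a torus element of the coordinate. -/
theorem exists_coord (i : Fin 4) {d : (NN).L (nd f hf hK i)} (hd : d ≠ 0) :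
    ∃ x, Coord f i x ∧ (coordVal f i x : K) = (d : K) := by
  have hd' : (d : K) ≠ 0 := fun e => hd (Subtype.ext e)
  fin_cases i
  · exact ⟨(1, 1, ⟨Units.mk0 _ hd', (E6.mem_fixU f).2 d.2⟩, 1),
      ⟨Or.inr rfl, Or.inr rfl, Or.inl rfl, Or.inr rfl⟩, rfl⟩
  · exact ⟨(1, 1, 1, ⟨Units.mk0 _ hd', (E6.mem_fixU f).2 d.2⟩),
      ⟨Or.inr rfl, Or.inr rfl, Or.inr rfl, Or.inl rfl⟩, rfl⟩
  · exact ⟨(1, Units.mk0 _ hd', 1, 1),
      ⟨Or.inr rfl, Or.inl rfl, Or.inr rfl, Or.inr rfl⟩, rfl⟩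
  · exact ⟨(Units.mk0 _ hd', 1, 1, 1),
      ⟨Or.inl rfl, Or.inr rfl, Or.inr rfl, Or.inr rfl⟩, rfl⟩

/-- A coordinate gives a diagonal matrix. -/
theorem exists_dSL (i : Fin 4) (x : Kˣ × Kˣ × ↥(E6.fixU f) × ↥(E6.fixU f)) :
    ∃ (d : (NN).L (nd f hf hK i)) (_ : d ≠ 0), (coordVal f i x : K) = (d : K) := by
  fin_cases i
  · exact ⟨⟨((x.2.2.1 : Kˣ) : K), (E6.mem_fixU f).1 x.2.2.1.2⟩,
      fun h => (x.2.2.1 : Kˣ).ne_zero (congrArg Subtype.val h), rfl⟩
  · exact ⟨⟨((x.2.2.2 : Kˣ) : K), (E6.mem_fixU f).1 x.2.2.2.2⟩,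
      fun h => (x.2.2.2 : Kˣ).ne_zero (congrArg Subtype.val h), rfl⟩
  · exact ⟨⟨(x.2.1 : K), trivial⟩, fun h => x.2.1.ne_zero (congrArg Subtype.val h), rfl⟩
  · exact ⟨⟨(x.1 : K), trivial⟩, fun h => x.1.ne_zero (congrArg Subtype.val h), rfl⟩

/-- The kernel of the parametrisation. -/
theorem param_eq_one {x : Kˣ × Kˣ × ↥(E6.fixU f) × ↥(E6.fixU f)} (h : E6.param f x = 1) :
    x.1 ^ Nat.gcd 3 (q + 1) = 1 ∧ x.2.1 = x.1 * x.1 ∧ x.2.2.1 = 1 ∧ x.2.2.2 = 1 := by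
  obtain ⟨s, u, t, v⟩ := x
  obtain ⟨h0, h1, h2, h3, -, h5⟩ := E6.torus_eq_one_iff.1 ((E6.param_apply f s u t v).symm.trans h)
  obtain ⟨z0, z1, z2, z3, z4, z5⟩ := E6.zOf_apply f (s, u, (t : Kˣ), (v : Kˣ))
  rw [z0] at h0
  rw [z1] at h1
  rw [z2, z0] at h2
  rw [z3] at h3
  rw [z5, z0] at h5
  refine ⟨?_, h2, Subtype.ext h1, Subtype.ext h3⟩
  rw [pow_gcd_eq_one]
  refine ⟨h0, ?_⟩
  have hfs : Units.map (f : K →* K) s = s ^ q := Units.ext (by simp [hf])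
  rw [hfs] at h5
  rw [pow_succ, h5, ← h0, pow_three, mul_assoc]

theorem coord_eq_one {i : Fin 4} {x : Kˣ × Kˣ × ↥(E6.fixU f) × ↥(E6.fixU f)}
    (hx : Coord f i x) (h : E6.param f x = 1) : x = 1 := by
  obtain ⟨hd, hu, ht, hv⟩ := param_eq_one f hf hK h
  have h3 : x.1 ^ 3 = 1 := (pow_gcd_eq_one.1 hd).1
  obtain ⟨hs, hu', -, -⟩ := hx
  have hs1 : x.1 = 1 := hs.elim (fun e => by
    subst e
    have h2 : x.1 * x.1 = 1 := hu.symm.trans (hu'.resolve_left (by decide))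
    rwa [pow_succ, pow_two, h2, one_mul] at h3) id
  exact Prod.ext hs1 (Prod.ext (by rw [hu, hs1, one_mul]; rfl) (Prod.ext ht hv))

theorem PhiG_dSL_mem (i : Fin (NN).m) {d : (NN).L i} (hd : d ≠ 0) :
    (NN).PhiG i (dSL d hd) ∈ torH f hf hK := by
  show (NN).Phi i (dSL d hd) ∈ chevE6.diagonalSubgroup K
  have key : ∀ (k : Fin 4) (d : (NN).L (nd f hf hK k)) (hd : d ≠ 0),
      (NN).Phi (nd f hf hK k) (dSL d hd) ∈ chevE6.diagonalSubgroup K := by
    intro k d hd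
    obtain ⟨x, hx, e⟩ := exists_coord f hf hK k hd
    rw [Phi_dSL_param f hf hK k x hx hd e]
    exact certFullE6.torus_mem _
  exact key i d hd

theorem PhiG_dSL_one (i : Fin 4) {d : (NN).L (nd f hf hK i)} (hd : d ≠ 0)
    (h : (NN).PhiG (nd f hf hK i) (dSL d hd) = 1) : d = 1 := by
  obtain ⟨x, hx, e⟩ := exists_coord f hf hK i hd
  have h1 : (NN).Phi (nd f hf hK i) (dSL d hd) = 1 := congrArg Subtype.val h
  rw [Phi_dSL_param f hf hK i x hx hd e] at h1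
  obtain rfl := coord_eq_one f hf hK hx h1
  refine Subtype.ext (e.symm.trans ?_)
  fin_cases i <;> rfl

theorem PhiG_injective (i : Fin (NN).m) : Function.Injective ((NN).PhiG i) := by
  refine (injective_iff_map_eq_one _).2 fun g hg => ?_
  have h10 : ∀ g, (NN).PhiG i g = 1 → g.1 1 0 = 0 := by
    intro g hg
    by_contra hc
    rw [eq_prod hc, map_mul, map_mul] at hg
    refine hc ((NN).PhiG_disj i
      (-((g.1 0 0 - 1) / g.1 1 0) + -((g.1 1 1 - 1) / g.1 1 0)) _ ?_)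
    rw [upSL_add, map_mul, show ∀ a : (NN).L i, (NN).PhiG i (upSL (-a)) = ((NN).PhiG i (upSL a))⁻¹
      from fun a => eq_inv_of_mul_eq_one_left (by
        rw [← map_mul, ← upSL_add, neg_add_cancel, upSL_zero, map_one]),
      show ∀ a : (NN).L i, (NN).PhiG i (upSL (-a)) = ((NN).PhiG i (upSL a))⁻¹ from
        fun a => eq_inv_of_mul_eq_one_left (by
          rw [← map_mul, ← upSL_add, neg_add_cancel, upSL_zero, map_one])]
    rw [eq_inv_mul_iff_mul_eq, eq_comm, inv_eq_iff_mul_eq_one]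
    exact mul_eq_one_comm.1 hg
  have h01 : g.1 0 1 = 0 := by
    have h := h10 (nSL 1 * g * (nSL 1)⁻¹) (by
      rw [map_mul, map_mul, hg, mul_one, ← map_mul, mul_inv_cancel, map_one])
    rw [conj_nSL_entry, neg_eq_zero] at h
    exact h
  obtain ⟨d, hd, rfl⟩ := eq_dSL (h10 g hg) h01
  obtain rfl : d = 1 := PhiG_dSL_one f hf hK i hd hg
  refine ext_two ?_ ?_ ?_ ?_ <;> simp [dSL_val]

/-- The elements of a rank one group in the torus. -/
theorem rkG_torH (i : Fin (NN).m) {a : ↥(Z).G₁} (ha : a ∈ rkG f hf hK i)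
    (haT : a ∈ torH f hf hK) : ∃ (d : (NN).L i) (hd : d ≠ 0), (NN).PhiG i (dSL d hd) = a := by
  obtain ⟨g, rfl⟩ := ha
  have h10 : ∀ g, (NN).PhiG i g ∈ torH f hf hK → g.1 1 0 = 0 := by
    intro g hg
    obtain ⟨t', e⟩ := (mem_X_iff f hf hK i
      (x := (NN).PhiG i g * (NN).upG i 1 * ((NN).PhiG i g)⁻¹)).1 (by
      rw [Subgroup.coe_mul, Subgroup.coe_mul, Subgroup.coe_inv]
      exact torH_conj_X f hf hK (torH_fix f hf hK hg) ((mem_X_iff f hf hK i).2 ⟨1, rfl⟩))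
    rw [Twist.Nodes.upG, Twist.Nodes.upG, ← map_inv, ← map_mul, ← map_mul] at e
    have h : (upSL t').1 1 0 = (g * upSL 1 * g⁻¹).1 1 0 :=
      congrArg (fun m => m.1 1 0) (PhiG_injective f hf hK i e)
    rw [conj_upSL_entry, eq_comm, neg_eq_iff_eq_neg] at h
    refine mul_self_eq_zero.1 ?_
    rw [h]
    simp [upSL_val]
  have h01 : g.1 0 1 = 0 := by
    have h := h10 (nSL 1 * g * (nSL 1)⁻¹) (by
      rw [map_mul, map_mul, map_inv, ← gen_eq]
      exact (mem_torH_conj f hf hK ((NN).J_mem i) haT).1)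
    rw [conj_nSL_entry, neg_eq_zero] at h
    exact h
  obtain ⟨d, hd, rfl⟩ := eq_dSL (h10 g haT) h01
  exact ⟨d, hd, rfl⟩

theorem torH_comm {a b : ↥(Z).G₁} (ha : a ∈ torH f hf hK) (hb : b ∈ torH f hf hK) :
    Commute a b := by
  obtain ⟨x, hx⟩ := E6.exists_param f hf hK (torH_fix f hf hK ha)
  obtain ⟨y, hy⟩ := E6.exists_param f hf hK (torH_fix f hf hK hb)
  refine Subtype.ext ?_
  show (a : GL chevE6.Idx K) * b = b * a
  rw [← hx, ← hy, ← map_mul, ← map_mul, mul_comm]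

/-- The torus is generated by the four tori. -/
theorem torH_split {a : ↥(Z).G₁} (ha : a ∈ torH f hf hK) :
    ∃ x : Fin 4 → ↥(Z).G₁, (∀ i, x i ∈ rkG f hf hK (nd f hf hK i) ∧ x i ∈ torH f hf hK) ∧
      a = x 3 * x 2 * (x 0 * x 1) := by
  obtain ⟨⟨s, u, t, v⟩, e⟩ := E6.exists_param f hf hK (torH_fix f hf hK ha)
  have key : ∀ (i : Fin 4) (y : Kˣ × Kˣ × ↥(E6.fixU f) × ↥(E6.fixU f)), Coord f i y →
      ∃ z : ↥(Z).G₁, (z : GL chevE6.Idx K) = E6.param f y ∧ z ∈ rkG f hf hK (nd f hf hK i) ∧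
        z ∈ torH f hf hK := by
    intro i y hy
    obtain ⟨d, hd, ed⟩ := exists_dSL f hf hK i y
    exact ⟨(NN).PhiG (nd f hf hK i) (dSL d hd), Phi_dSL_param f hf hK i y hy hd ed, ⟨_, rfl⟩,
      PhiG_dSL_mem f hf hK _ hd⟩
  obtain ⟨a0, e0, h0⟩ := key 0 (1, 1, t, 1) ⟨Or.inr rfl, Or.inr rfl, Or.inl rfl, Or.inr rfl⟩
  obtain ⟨a1, e1, h1⟩ := key 1 (1, 1, 1, v) ⟨Or.inr rfl, Or.inr rfl, Or.inr rfl, Or.inl rfl⟩
  obtain ⟨a2, e2, h2⟩ := key 2 (1, u, 1, 1) ⟨Or.inr rfl, Or.inl rfl, Or.inr rfl, Or.inr rfl⟩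
  obtain ⟨a3, e3, h3⟩ := key 3 (s, 1, 1, 1) ⟨Or.inl rfl, Or.inr rfl, Or.inr rfl, Or.inr rfl⟩
  refine ⟨![a0, a1, a2, a3], fun i => ?_, Subtype.ext ?_⟩
  · fin_cases i <;> assumption
  · show (a : GL chevE6.Idx K) = (a3 : GL chevE6.Idx K) * a2 * ((a0 : GL chevE6.Idx K) * a1)
    rw [e0, e1, e2, e3, ← map_mul, ← map_mul, ← map_mul, ← e]
    simp

/-- Splitting an opposite root element. -/
theorem split_lo (i : Fin (NN).m) {x : ↥(Z).G₁} (hx : (x : GL chevE6.Idx K) ∈ (Z).X ((NN).J i))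
    (hx1 : x ≠ 1) :
    ∃ x1 w a : ↥(Z).G₁, (x1 : GL chevE6.Idx K) ∈ (Z).X ((NN).J i) ∧
      (w : GL chevE6.Idx K) ∈ (Z).X ((NN).J i) ∧ a ∈ torH f hf hK ∧ a ∈ rkG f hf hK i ∧
      (Z).gen ((NN).J_mem i) * x * ((Z).gen ((NN).J_mem i))⁻¹ =
        x1 * a * (Z).gen ((NN).J_mem i) * w := by
  obtain ⟨t, rfl⟩ := (mem_X_iff f hf hK i).1 hx
  have ht : t ≠ 0 := fun e => hx1 (by rw [e, Twist.Nodes.upG, upSL_zero, map_one])
  refine ⟨(NN).upG i (-t⁻¹), (NN).upG i (-t⁻¹), (NN).PhiG i (dSL t⁻¹ (inv_ne_zero ht)),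
    (mem_X_iff f hf hK i).2 ⟨_, rfl⟩, (mem_X_iff f hf hK i).2 ⟨_, rfl⟩,
    PhiG_dSL_mem f hf hK i _, ⟨_, rfl⟩, ?_⟩
  rw [gen_eq, Twist.Nodes.upG, Twist.Nodes.upG, ← map_inv, ← map_mul, ← map_mul, ← map_mul,
    ← map_mul, ← map_mul, nSL_conj_up one_ne_zero, mul_inv_cancel_right, mul_one, div_one,
    ← loSL_eq ht]

/-- A listed word moves one rank one group into the other, and its Weyl element to that of the
other up to the torus. -/
theorem word_conj {W : List ℕ} (i j : Fin (NN).m) (hrel : (W, i.val, j.val) ∈ relData)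
    {w : ↥(Z).G₁} (hw : (w : GL chevE6.Idx K) = certFullE6.nw K W) :
    (∀ g ∈ rkG f hf hK i, w * g * w⁻¹ ∈ rkG f hf hK j) ∧
      w * (Z).gen ((NN).J_mem i) * w⁻¹ * ((Z).gen ((NN).J_mem j))⁻¹ ∈ torH f hf hK := by
  have h := checkRel_ok
  simp only [checkRel, List.all_eq_true, Bool.and_eq_true, Nat.blt_eq, List.contains_iff_mem,
    List.mem_range, Nat.beq_eq, certFullE6.wlT_eq] at h
  obtain ⟨⟨hlt, hS⟩, hsame⟩ := h _ hrel
  simp only [← J_getD f hf hK] at hsame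
  have hr6 : chevE6.rank = 6 := E6.simple_values.2.2.2.2.2.2.1
  have hW : ∀ p ∈ W, p < chevE6.rank := fun p hp => hr6 ▸ hlt p hp
  have hJi := ((Z).W.J_spec ((NN).J_mem i)).2.1
  have hJj := ((Z).W.J_spec ((NN).J_mem j)).2.1
  set n := (Z).gen ((NN).J_mem i)
  set n' := (Z).gen ((NN).J_mem j)
  have hwl : ∀ r ∈ certFullE6.invSet ((NN).J i),
      certFullE6.wl W r ∈ certFullE6.invSet ((NN).J j) := fun r hr =>
    (invSet_mem f hf hK j _).2 (hS r ((invSet_mem f hf hK i r).1 hr))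
  have hwX : ∀ {x : ↥(Z).G₁}, (x : GL chevE6.Idx K) ∈ (Z).X ((NN).J i) →
      ((w * x * w⁻¹ : ↥(Z).G₁) : GL chevE6.Idx K) ∈ (Z).X ((NN).J j) := fun {x} hx =>
    ⟨by
      rw [Subgroup.coe_mul, Subgroup.coe_mul, Subgroup.coe_inv, hw]
      exact certFullE6.nw_conj_KS hW (fun r hr => hr.1) (fun r hr => hr.1) hwl hx.1,
      (Z).le_fix (w * x * w⁻¹).2⟩
  obtain ⟨k, hk, e⟩ := certFullE6.exists_H_mul_of_same (F := K) (L := W ++ (NN).J i)
    (M := (NN).J j ++ W) (fun p hp => (List.mem_append.1 hp).elim (hW p) (hJi p))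
    (fun p hp => (List.mem_append.1 hp).elim (hJj p) (hW p)) (fun a ha => by
      rw [certFullE6.simple_eq ha]
      exact hsame a (hr6 ▸ ha))
  have hk' : w * n * w⁻¹ * n'⁻¹ ∈ torH f hf hK := by
    show ((w * n * w⁻¹ * n'⁻¹ : ↥(Z).G₁) : GL chevE6.Idx K) ∈ chevE6.diagonalSubgroup K
    simp only [Subgroup.coe_mul, Subgroup.coe_inv, hw]
    show certFullE6.nw K W * certFullE6.nw K ((NN).J i) * (certFullE6.nw K W)⁻¹ *
      (certFullE6.nw K ((NN).J j))⁻¹ ∈ _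
    rw [← certFullE6.nw_append, e, certFullE6.nw_append]
    simpa [mul_assoc] using hk
  refine ⟨fun g hg => conj_rkG f hf hK i j (fun t => ?_) (fun t => ?_) hg, hk'⟩
  · obtain ⟨t', e'⟩ := (mem_X_iff f hf hK j).1 (hwX ((mem_X_iff f hf hK i).2 ⟨t, rfl⟩))
    exact e' ▸ ⟨_, rfl⟩
  · obtain ⟨t', e'⟩ := (mem_X_iff f hf hK j).1 (hwX ((mem_X_iff f hf hK i).2 ⟨-t, rfl⟩))
    rw [loG_eq]
    show w * (n * (NN).upG i (-t) * n⁻¹) * w⁻¹ ∈ _
    rw [show w * (n * (NN).upG i (-t) * n⁻¹) * w⁻¹ =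
      (w * n * w⁻¹ * n'⁻¹) * (n' * (w * (NN).upG i (-t) * w⁻¹) * n'⁻¹) *
        (w * n * w⁻¹ * n'⁻¹)⁻¹ by group]
    refine torH_conj_rkG f hf hK _ hk' ⟨loSL (-t'), ?_⟩
    show (NN).loG _ (-t') = _
    rw [loG_eq, neg_neg, e']

/-- One of a representative and its product with an orbit stays positive on the orbit. -/
theorem dichotomy (j : Fin (NN).m) {i : ℕ} (hi : i < 1152) :
    (∀ r ∈ certFullE6.invSet ((NN).J j),
      certFullE6.Pos (certFullE6.wl ((Z).W.wd i).reverse r)) ∨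
    ∀ r ∈ certFullE6.invSet ((NN).J j),
      certFullE6.Pos (certFullE6.wl ((NN).J j ++ (Z).W.wd i).reverse r) := by
  have hd := checkDicho_ok
  simp only [checkDicho, List.all_eq_true, List.mem_range, Bool.or_eq_true, Nat.ble_eq,
    certFullE6.wlT_eq] at hd
  have hwd : (Z).W.wd i = flatW orbitsE6 (twistE6Reps.get i).word := rfl
  have hwdlt : ∀ p ∈ (Z).W.wd i, p < chevE6.rank :=
    ((Z).wd_spec (show i < (Z).W.N from hi)).1
  have hJlt := ((Z).W.J_spec ((NN).J_mem j)).2.1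
  rcases hd i hi j.val j.2 with h | h
  · refine Or.inl fun r hr => ⟨?_, ?_⟩
    · exact hwd ▸ h r ((invSet_mem f hf hK j r).1 hr)
    · exact certFullE6.wl_lt (fun p hp => hwdlt p (List.mem_reverse.1 hp)) hr.1.2
  · refine Or.inr fun r hr => ⟨?_, ?_⟩
    · rw [J_getD f hf hK j]
      exact hwd ▸ h r ((invSet_mem f hf hK j r).1 hr)
    · exact certFullE6.wl_lt (fun p hp => (List.mem_append.1 (List.mem_reverse.1 hp)).elim
        (hJlt p) (hwdlt p)) hr.1.2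

end Cfsg.Agent.Classical.E6Mult
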