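import Cfsg.Agent.Lib.Classical.E6MultCoprime
import Cfsg.Agent.Lib.Classical.UnitMultEngineBase

/-!
The kernel of a stem extension of ²E₆(q), `q ≥ 3`, is cyclic of order dividing `gcd(3, q + 1)`.
-/

set_option autoImplicit false
set_option linter.unusedSectionVars false
set_option linter.unusedSimpArgs false

namespace Cfsg.Agent.Classical.E6Mult

open Cfsg.Lie Cfsg.Agent.Lie.Chev
open Cfsg.Agent.Classical.UnitMult (Coprime IsPElem mem_derived_of_transfer)

variable {K : Type*} [Field K] [Fintype K] (f : K →+* K) {q : ℕ} (hf : ∀ t, f t = t ^ q)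
  (hK : Fintype.card K = q ^ 2)

include hf hK

local notation "Z" => E6.datum f hf hK

theorem not_dvd_index {p : ℕ} [Fact p.Prime] [CharP K p] : ¬ p ∣ (subU f hf hK).index := by
  have hp : p.Prime := Fact.out
  have hq := E6.one_lt_q f hf hK
  have hg : Nat.gcd 3 (q + 1) * Nat.card ↥(Z).G₁ = _ := E6.card_group f hf hK
  rw [← (subU f hf hK).card_mul_index, card_subU,
    show Nat.gcd 3 (q + 1) * (q ^ 36 * (subU f hf hK).index) =
      q ^ 36 * (Nat.gcd 3 (q + 1) * (subU f hf hK).index) by ring] at hg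
  simp only [mul_assoc] at hg
  have h := Nat.eq_of_mul_eq_mul_left (pow_pos (by omega) 36) hg
  obtain ⟨j, hj⟩ := q_eq f hf hK (p := p)
  have hpq : p ∣ q := by
    rw [hj]
    refine dvd_pow_self p fun e => ?_
    rw [e, pow_zero] at hj
    omega
  have hk : ∀ k, 1 ≤ k → p ∣ q ^ k := fun k hk => dvd_pow hpq (by omega)
  have hsub : ∀ k, 1 ≤ k → ¬ p ∣ q ^ k - 1 := fun k hk1 h1 => by
    have := Nat.dvd_sub (hk k hk1) h1
    have h0 : 1 ≤ q ^ k := Nat.one_le_pow _ _ (by omega)
    rw [show q ^ k - (q ^ k - 1) = 1 by omega] at this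
    exact hp.not_dvd_one this
  have hadd : ∀ k, 1 ≤ k → ¬ p ∣ q ^ k + 1 := fun k hk1 h1 =>
    hp.not_dvd_one ((Nat.dvd_add_right (hk k hk1)).1 h1)
  intro hd
  have hd' := dvd_mul_of_dvd_right hd (Nat.gcd 3 (q + 1))
  rw [h] at hd'
  rcases hp.dvd_mul.1 hd' with h1 | h1
  · exact hsub 2 (by omega) h1
  rcases hp.dvd_mul.1 h1 with h1 | h1
  · exact hadd 5 (by omega) h1
  rcases hp.dvd_mul.1 h1 with h1 | h1
  · exact hsub 6 (by omega) h1
  rcases hp.dvd_mul.1 h1 with h1 | h1
  · exact hsub 8 (by omega) h1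
  rcases hp.dvd_mul.1 h1 with h1 | h1
  exacts [hadd 9 (by omega) h1, hsub 12 (by omega) h1]

variable {E : Type*} [Group E] [Finite E] {π : E →* ↥(E6.datum f hf hK).G₁}

/-- The kernel of a stem extension is cyclic of order dividing `gcd(3, q + 1)`. -/
theorem stem_ker (hq : 3 ≤ q) (hπ : Function.Surjective π) (hc : π.ker ≤ Subgroup.center E)
    (hstem : π.ker ≤ commutator E) :
    ∃ z0 : E, z0 ^ Nat.gcd 3 (q + 1) = 1 ∧ π.ker ≤ Subgroup.zpowers z0 := by
  obtain ⟨p, hchar⟩ := CharP.exists K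
  haveI := hchar
  haveI : Fact p.Prime := ⟨CharP.char_is_prime K p⟩
  have hp : p.Prime := Fact.out
  have hcop : (Nat.card π.ker).Coprime p := by
    refine Nat.Coprime.symm (hp.coprime_iff_not_dvd.2 fun hdvd => ?_)
    obtain ⟨⟨z, hz⟩, hzo⟩ := exists_prime_orderOf_dvd_card' p hdvd
    have ho : orderOf z = p := by rw [← hzo]; exact Subgroup.orderOf_coe (⟨z, hz⟩ : π.ker)
    have hzY : z ∈ (subU f hf hK).comap π := by
      show π z ∈ subU f hf hK
      rw [show π z = 1 from hz]; exact one_mem _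
    have h1 := mem_derived_of_transfer ((subU f hf hK).comap π) (hc hz) hzY (hstem hz) (by
      rw [ho, Subgroup.index_comap_of_surjective _ hπ]
      exact hp.coprime_iff_not_dvd.2 (not_dvd_index f hf hK))
    rw [ker_derived f hf hK hπ hc hq hz h1, orderOf_one] at ho
    exact hp.one_lt.ne ho
  have C : Coprime p π := ⟨hπ, hc, hcop⟩
  exact coprime_ker f hf hK C hstem

end Cfsg.Agent.Classical.E6Mult
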