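import Cfsg.Agent.Lib.Classical.TorusSplit
import Cfsg.Agent.Lib.Lie.Chev.E6SubfieldU

/-!
The maximal unipotent subgroup of ²E₆(q), `q ≥ 3`, satisfies the torus criterion: the layers are the
fixed groups of the orbits of positive roots.
-/

set_option autoImplicit false
set_option linter.unusedSectionVars false
set_option linter.unusedSimpArgs false
set_option maxRecDepth 20000

namespace Cfsg.Agent.Classical.E6Mult

open Cfsg.Lie Cfsg.Agent.Lie.Chev
open Cfsg.Agent.Lie.Chev.E6Sub (orbS from_ entryAt orbitAt rootsFrom)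
open scoped commutatorElement

/-- Exponent vectors of torus elements separating the orbits. -/
def cands : List (List ℤ) :=
  [[-1, 0, 0, -1, 0, 0], [0, 0, 0, 0, -1, 0], [-1, 0, -1, 1, 0, 0], [-1, 1, -1, 0, 0, 0],
    [0, 0, 0, 0, 0, -1], [-1, 0, 0, -1, -1, -1], [0, 0, -1, -1, -1, -1], [-1, 0, -2, 0, 0, -1],
    [-2, 0, -1, 0, -1, 0], [0, 0, -1, -1, 1, 0], [-2, 0, -1, 0, 1, 0], [-1, 1, -1, 0, 0, -1],
    [0, 0, 0, 0, -1, -2]]

/-- The constant coefficient of the exponent of the character of a root. -/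
def expA (w : List ℤ) (r : ℕ) : ℤ :=
  let k := fun i => certFullE6.T.cartan i r
  w.getD 0 0 * k 0 + w.getD 1 0 * k 5 + w.getD 2 0 * k 2 + w.getD 3 0 * k 4 +
    w.getD 4 0 * k 1 + w.getD 5 0 * k 3

/-- The coefficient of `q` in the exponent of the character of a root. -/
def expB (w : List ℤ) (r : ℕ) : ℤ :=
  let k := fun i => certFullE6.T.cartan i r
  w.getD 1 0 * k 0 + w.getD 0 0 * k 5 + w.getD 3 0 * k 2 + w.getD 2 0 * k 4 +
    w.getD 4 0 * k 1 + w.getD 5 0 * k 3

/-- The exponent vanishes. -/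
def expZero (w : List ℤ) (r : ℕ) : Bool := decide (expA w r = 0 ∧ expB w r = 0)

/-- The exponent is small and not zero. -/
def expNe (w : List ℤ) (r : ℕ) : Bool :=
  let A := expA w r
  let B := expB w r
  decide (A.natAbs + 3 * B.natAbs < 8) &&
    (decide (B = 0 ∧ A ≠ 0) || decide (A.natAbs < 3 * B.natAbs) || decide (0 < A * B))

/-- Every ordered pair of orbits has a separating torus element. -/
def checkPairs : Bool :=
  (List.range 24).all fun k => (List.range 24).all fun j => Nat.beq k j ||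
    cands.any fun w => ((orbitAt k).all fun r => expZero w r) && (orbitAt j).all fun r => expNe w r

/-- Words moving the orbits onto two of them, as lists of orbits. -/
def moveWords : List (List ℕ) :=
  [[2], [3], [0], [1], [], [3, 1], [], [1], [3, 1, 0], [2, 0], [1, 2], [1, 0], [2], [1, 2, 0],
    [2, 1], [2, 3, 0], [1, 2, 0, 1], [2, 3], [1, 2, 0, 1, 2], [2, 3, 1], [1, 2, 0, 1, 2, 3],
    [2, 3, 1, 2], [2, 3, 1, 2, 1], [2, 3, 1, 2, 1, 0]]

/-- The word at an index. -/
def moveWord (i : ℕ) : List ℕ := flatW orbitsE6 (moveWords.getD i [])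

/-- The orbit moved to. -/
def moveTo (i : ℕ) : ℕ := bif Nat.beq ((moveWord i).foldr certFullE6.T.refl (entryAt i).1) 47
  then 6 else 4

/-- The words move the orbits. -/
def checkMove : Bool :=
  (List.range 24).all fun i => ((moveWords.getD i []).all fun n => Nat.blt n 4) &&
    (orbitAt i).all fun r => (orbitAt (moveTo i)).contains (certFullE6.T.wlT (moveWord i) r)

/-- The commutator terms used for the two orbits. -/
def checkBase : Bool :=
  decide ([(39, 46), (36, 37), (56, 42)].map (fun p : ℕ × ℕ =>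
      (certFullE6.T.commTerms p.1 p.2).map fun x => (x.1, x.2.1.natAbs, x.2.2.1, x.2.2.2)) =
    [[(47, 1, 1, 1)], [(38, 1, 1, 1)], [(57, 1, 1, 1)]]) &&
  (([(36, 42), (56, 37), (47, 39), (47, 46), (38, 36), (38, 56), (57, 36), (57, 56), (38, 37),
      (38, 42), (57, 37), (57, 42)] : List (ℕ × ℕ)).all fun p =>
    (certFullE6.T.commTerms p.1 p.2).isEmpty && (certFullE6.T.commTerms p.2 p.1).isEmpty) &&
  decide ([0, 1, 2, 3, 4, 6].map orbitAt =
    [[36, 56], [37, 42], [39, 39], [46, 46], [38, 57], [47, 47]])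

theorem checkPairs_ok : checkPairs = true := by decide +kernel
theorem checkMove_ok : checkMove = true := by decide +kernel
theorem checkBase_ok : checkBase = true := by decide +kernel

theorem not_dvd_of_expNe {A B : ℤ} {q : ℕ} (hq : 3 ≤ q)
    (hs : A.natAbs + 3 * B.natAbs < 8)
    (h : (B = 0 ∧ A ≠ 0) ∨ A.natAbs < 3 * B.natAbs ∨ 0 < A * B) :
    ¬ ((q : ℤ) ^ 2 - 1) ∣ A + B * q := by
  have hq' : (3 : ℤ) ≤ q := by exact_mod_cast hq
  have hA : (A.natAbs : ℤ) = |A| := Int.natCast_natAbs A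
  have hB : (B.natAbs : ℤ) = |B| := Int.natCast_natAbs B
  have hs' : |A| + 3 * |B| ≤ 7 := by rw [← hA, ← hB]; omega
  have hne : A + B * q ≠ 0 := by
    intro e
    have e' : A = -(B * q) := by linear_combination e
    rcases h with ⟨h1, h2⟩ | h | h
    · exact h2 (by rw [e', h1, zero_mul, neg_zero])
    · have h' : |A| < 3 * |B| := by rw [← hA, ← hB]; omega
      rw [e', abs_neg, abs_mul, Nat.abs_cast] at h'
      nlinarith [abs_nonneg B]
    · rw [e'] at h
      nlinarith [mul_self_nonneg B]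
  intro hd
  have h1 := Int.le_of_dvd (abs_pos.2 hne) ((dvd_abs _ _).2 hd)
  have h2 : |A + B * q| ≤ |A| + |B| * q :=
    (abs_add_le _ _).trans_eq (by rw [abs_mul, Nat.abs_cast])
  nlinarith [abs_nonneg A, abs_nonneg B]

variable {K : Type*} [Field K] (f : K →+* K) [Fintype K] {q : ℕ} (hf : ∀ t, f t = t ^ q)
  (hK : Fintype.card K = q ^ 2)

include hf hK

local notation "Z" => E6.datum f hf hK

omit hf hK in
/-- The parameters of a torus element from an exponent vector. -/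
noncomputable def torZ (q : ℕ) (w : List ℤ) (g : Kˣ) : ℕ → Kˣ :=
  E6.zOf f (g ^ (w.getD 0 0 + w.getD 1 0 * (q : ℤ)), g ^ (w.getD 2 0 + w.getD 3 0 * (q : ℤ)),
    g ^ (w.getD 4 0 * ((q : ℤ) + 1)), g ^ (w.getD 5 0 * ((q : ℤ) + 1)))

theorem map_f_zpow (g : Kˣ) (n : ℤ) :
    Units.map (f : K →* K) (g ^ n) = g ^ ((q : ℤ) * n) := by
  have : Units.map (f : K →* K) g = g ^ q := Units.ext (by simp [hf])
  rw [map_zpow, this, ← zpow_natCast, ← zpow_mul]

theorem zpow_sq (g : Kˣ) (n : ℤ) : g ^ ((q : ℤ) ^ 2 * n) = g ^ n := by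
  have h : g ^ ((q : ℤ) ^ 2) = g := by
    rw [← Nat.cast_pow, zpow_natCast]
    refine Units.ext ?_
    rw [Units.val_pow_eq_pow_val, ← hK, FiniteField.pow_card]
  rw [zpow_mul, h]

theorem torZ_fixed (g : Kˣ) (n : ℤ) : g ^ (n * ((q : ℤ) + 1)) ∈ E6.fixU f := by
  show Units.map (f : K →* K) _ = _
  rw [map_f_zpow f hf hK, show (q : ℤ) * (n * ((q : ℤ) + 1)) = (q : ℤ) ^ 2 * n + n * q by ring,
    zpow_add, zpow_sq f hf hK, ← zpow_add]
  congr 1; ring

/-- The torus element of an exponent vector. -/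
noncomputable def tor (w : List ℤ) (g : Kˣ) : ↥(Z).G₁ :=
  ⟨E6.param f (g ^ (w.getD 0 0 + w.getD 1 0 * (q : ℤ)), g ^ (w.getD 2 0 + w.getD 3 0 * (q : ℤ)),
    ⟨_, torZ_fixed f hf hK g (w.getD 4 0)⟩, ⟨_, torZ_fixed f hf hK g (w.getD 5 0)⟩),
    E6.param_mem f hf _⟩

theorem tor_val (w : List ℤ) (g : Kˣ) :
    (tor f hf hK w g : GL chevE6.Idx K) = certFullE6.torus (torZ f q w g) := rfl

theorem tchar_torZ (w : List ℤ) (g : Kˣ) (r : ℕ) :
    certFullE6.tchar (torZ f q w g) r = g ^ (expA w r + expB w r * (q : ℤ)) := by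
  have hr : chevE6.rank = 6 := E6.simple_values.2.2.2.2.2.2.1
  obtain ⟨z0, z1, z2, z3, z4, z5⟩ := E6.zOf_apply f (g ^ (w.getD 0 0 + w.getD 1 0 * (q : ℤ)),
    g ^ (w.getD 2 0 + w.getD 3 0 * (q : ℤ)), g ^ (w.getD 4 0 * ((q : ℤ) + 1)),
    g ^ (w.getD 5 0 * ((q : ℤ) + 1)))
  simp only [Cert.tchar, hr, Finset.prod_range_succ, Finset.prod_range_zero, one_mul, torZ, z0, z1,
    z2, z3, z4, z5, map_f_zpow f hf hK, ← zpow_mul, ← zpow_add]
  set k0 := certFullE6.T.cartan 0 r
  set k1 := certFullE6.T.cartan 1 r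
  set k2 := certFullE6.T.cartan 2 r
  set k3 := certFullE6.T.cartan 3 r
  set k4 := certFullE6.T.cartan 4 r
  set k5 := certFullE6.T.cartan 5 r
  rw [show (w.getD 0 0 + w.getD 1 0 * (q : ℤ)) * k0 + w.getD 4 0 * ((q : ℤ) + 1) * k1 +
      (w.getD 2 0 + w.getD 3 0 * (q : ℤ)) * k2 + w.getD 5 0 * ((q : ℤ) + 1) * k3 +
      (q : ℤ) * (w.getD 2 0 + w.getD 3 0 * (q : ℤ)) * k4 +
      (q : ℤ) * (w.getD 0 0 + w.getD 1 0 * (q : ℤ)) * k5 =
    (expA w r - (w.getD 1 0 * k5 + w.getD 3 0 * k4) + expB w r * (q : ℤ)) +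
      (q : ℤ) ^ 2 * (w.getD 1 0 * k5 + w.getD 3 0 * k4) by
        simp only [expA, expB]; ring,
    zpow_add, zpow_sq f hf hK, ← zpow_add]
  congr 1; ring

theorem tchar_eq_one {w : List ℤ} {r : ℕ} (h : expZero w r = true) (g : Kˣ) :
    certFullE6.tchar (torZ f q w g) r = 1 := by
  simp only [expZero, decide_eq_true_eq] at h
  rw [tchar_torZ f hf hK, h.1, h.2, zero_mul, add_zero, zpow_zero]

theorem tchar_ne_one (hq : 3 ≤ q) {w : List ℤ} {r : ℕ} (h : expNe w r = true) {g : Kˣ}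
    (hg : ∀ x, x ∈ Subgroup.zpowers g) : certFullE6.tchar (torZ f q w g) r ≠ 1 := by
  classical
  simp only [expNe, Bool.and_eq_true, Bool.or_eq_true, decide_eq_true_eq] at h
  rw [tchar_torZ f hf hK, Ne, ← orderOf_dvd_iff_zpow_eq_one, orderOf_eq_card_of_forall_mem_zpowers hg,
    Nat.card_units, Nat.card_eq_fintype_card, hK, Nat.cast_sub (Nat.one_le_pow _ _ (by omega))]
  push_cast
  exact not_dvd_of_expNe hq h.1 (or_assoc.1 h.2)

/-! ### The layers -/

omit hf hK in
theorem entry_mem (i : ℕ) : (entryAt i).1 ∈ orbS i := by simp [orbS, orbitAt]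

omit hf hK in
theorem orb_cases {i r : ℕ} (h : r ∈ orbS i) :
    r = (entryAt i).1 ∨ r = graphE6.ρ (entryAt i).1 := by
  simpa [orbS, orbitAt] using h

/-- The fixed part of a set of roots. -/
noncomputable def part (S : Set ℕ) : Subgroup ↥(Z).G₁ :=
  (certFullE6.KS K S certFullE6.T.h).subgroupOf (Z).G₁

/-- The layer of an orbit. -/
noncomputable def layer (i : ℕ) : Subgroup ↥(Z).G₁ := part f hf hK (orbS i)

/-- The segments. -/
noncomputable def seg (i : ℕ) : Subgroup ↥(Z).G₁ := part f hf hK (from_ i)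

/-- The maximal unipotent subgroup. -/
noncomputable def subU : Subgroup ↥(Z).G₁ := (chevE6.posUnipotent K).subgroupOf (Z).G₁

/-- The torus. -/
noncomputable def torH : Subgroup ↥(Z).G₁ := (chevE6.diagonalSubgroup K).subgroupOf (Z).G₁

theorem fix_of (g : ↥(Z).G₁) : (g : GL chevE6.Idx K) ∈ (E6.tw f).fix := (Z).le_fix g.2

theorem seg_zero : seg f hf hK 0 = subU f hf hK := by
  refine le_antisymm ?_ ?_ <;> intro g hg
  · exact certFullE6.KS_le_U' (fun r hr => E6Sub.from_pos hr) hg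
  · exact E6Sub.U_eq_from hg

theorem seg_top : seg f hf hK 24 = ⊥ := by
  rw [eq_bot_iff]
  intro g hg
  have h : (g : GL chevE6.Idx K) ∈ (⊥ : Subgroup (GL chevE6.Idx K)) := by
    refine (Subgroup.closure_le _).2 ?_ hg
    rintro _ ⟨r, t, hr, -, rfl⟩
    obtain ⟨j, hj, hj', -⟩ := E6Sub.mem_from.1 hr
    omega
  exact Subgroup.mem_bot.2 (Subtype.ext (Subgroup.mem_bot.1 h))

omit hf hK in
theorem torus_stab {S : Set ℕ} (hS : ∀ r ∈ S, certFullE6.Pos r) {t : GL chevE6.Idx K}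
    (ht : t ∈ chevE6.diagonalSubgroup K) {g : GL chevE6.Idx K}
    (hg : g ∈ certFullE6.KS K S certFullE6.T.h) :
    t * g * t⁻¹ ∈ certFullE6.KS K S certFullE6.T.h := by
  rw [certFullE6.diagonalSubgroup_eq] at ht
  obtain ⟨z, rfl⟩ := ht
  refine conj_closure_mem ?_ hg
  rintro _ ⟨r, u, hr, hm, rfl⟩
  rw [certFullE6.torus_conj_xg z (hS r hr).2]
  exact certFullE6.xg_mem_KS hr hm _

omit hf hK in
/-- The two roots of an orbit commute. -/
theorem orb_commute {i : ℕ} (hi : i < 24) (a b : K) :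
    Commute (certFullE6.xg (entryAt i).1 a) (certFullE6.xg (graphE6.ρ (entryAt i).1) b) := by
  have hm := E6Sub.orbS_spec hi (entry_mem i)
  by_cases h : graphE6.ρ (entryAt i).1 = (entryAt i).1
  · rw [h]
    show _ = _
    rw [← certFullE6.xg_add, ← certFullE6.xg_add, add_comm]
  · exact E6Sub.pair_comm hm.1 h a b

omit hf hK in
theorem fix_eq_one {i : ℕ} (hi : i < 24) {z : ℕ → Kˣ}
    (hz : ∀ r ∈ orbS i, certFullE6.tchar z r ≠ 1) {w : GL chevE6.Idx K}
    (hw : w ∈ certFullE6.KS K (orbS i) certFullE6.T.h)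
    (h : certFullE6.torus z * w * (certFullE6.torus z)⁻¹ = w) : w = 1 := by
  obtain ⟨a, b, rfl⟩ := E6Sub.KS_two (p := (entryAt i).1) (p' := graphE6.ρ (entryAt i).1)
    (fun r hr => orb_cases hr) (orb_commute hi) hw
  have hm := entry_mem i
  have hm' : graphE6.ρ (entryAt i).1 ∈ orbS i := E6Sub.orbS_ρ hi hm
  have hp := (E6Sub.orbS_spec hi hm).1
  have hp' := (E6Sub.orbS_spec hi hm').1
  set m := (entryAt i).1
  set m' := graphE6.ρ m with hm'def
  rw [show ∀ t x y : GL chevE6.Idx K, t * (x * y) * t⁻¹ = (t * x * t⁻¹) * (t * y * t⁻¹) from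
    fun t x y => by group, certFullE6.torus_conj_xg z hp.2, certFullE6.torus_conj_xg z hp'.2] at h
  have hne : ∀ {r : ℕ}, r ∈ orbS i → ∀ {c : K}, (certFullE6.tchar z r : K) * c = c → c = 0 :=
    fun {r} hr {c} e => by
      by_contra hc
      exact hz r hr (Units.ext (by rw [Units.val_one]; exact (mul_eq_right₀ hc).1 e))
  by_cases hfx : m' = m
  · rw [hfx] at h ⊢
    rw [← certFullE6.xg_add, ← certFullE6.xg_add, ← mul_add] at h
    rw [← certFullE6.xg_add, hne hm (certFullE6.xg_inj hp.2 h), certFullE6.xg_zero]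
  have hcl : certFullE6.IsClosed {m} := ⟨fun r hr => by rw [Set.mem_singleton_iff.1 hr]; exact hp,
    fun r hr s hs x hx => by
      rw [Set.mem_singleton_iff.1 hr, Set.mem_singleton_iff.1 hs,
        (E6Sub.root_spec (K := K) hp).2.2.2.1] at hx
      simp at hx⟩
  have e : certFullE6.xg m ((certFullE6.tchar z m : K) * a - a) =
      certFullE6.xg m' (b - (certFullE6.tchar z m' : K) * b) := by
    rw [sub_eq_neg_add, sub_eq_add_neg, certFullE6.xg_add, certFullE6.xg_add, ← certFullE6.xg_inv,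
      ← certFullE6.xg_inv, inv_mul_eq_iff_eq_mul, ← mul_assoc, eq_mul_inv_iff_mul_eq]
    exact h
  have h0 := certFullE6.eq_zero_of_mem_absorbs hcl hp' (E6Sub.root_spec (K := K) hp').2.2.2.1
    (fun hs => hfx (Set.mem_singleton_iff.1 hs))
    (e ▸ certFullE6.xg_mem_KS (Set.mem_singleton m) hp.1 _)
  rw [h0, certFullE6.xg_zero] at e
  rw [hne hm (sub_eq_zero.1 ((certFullE6.xg_eq_one_iff hp.2 _).1 e)), certFullE6.xg_zero, one_mul,
    hne hm' (sub_eq_zero.1 h0).symm, certFullE6.xg_zero]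

theorem pair_sep (hq : 3 ≤ q) {g : Kˣ} (hg : ∀ x, x ∈ Subgroup.zpowers g) {k j : ℕ} (hk : k < 24)
    (hj : j < 24) (hkj : k ≠ j) : ∃ t ∈ torH f hf hK,
      (∀ a ∈ layer f hf hK k, Commute t a) ∧
      ∀ x ∈ layer f hf hK j, t * x * t⁻¹ = x → x = 1 := by
  have h := checkPairs_ok
  simp only [checkPairs, List.all_eq_true, List.mem_range, Bool.or_eq_true, List.any_eq_true,
    Bool.and_eq_true] at h
  obtain ⟨w, -, hw0, hw1⟩ := (h k hk j hj).resolve_left fun e => hkj (Nat.eq_of_beq_eq_true e)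
  refine ⟨tor f hf hK w g, ?_, fun a ha => ?_, fun x hx e => ?_⟩
  · show certFullE6.torus _ ∈ chevE6.diagonalSubgroup K
    exact certFullE6.torus_mem _
  · refine Subtype.ext ?_
    show certFullE6.torus (torZ f q w g) * (a : GL chevE6.Idx K) =
      (a : GL chevE6.Idx K) * certFullE6.torus (torZ f q w g)
    have key : (a : GL chevE6.Idx K) ∈ Subgroup.centralizer {certFullE6.torus (torZ f q w g)} := by
      refine (Subgroup.closure_le _).2 ?_ ha
      rintro _ ⟨r, u, hr, -, rfl⟩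
      rw [SetLike.mem_coe, Subgroup.mem_centralizer_singleton_iff]
      have := certFullE6.torus_conj_xg (torZ f q w g) (E6Sub.orbS_spec hk hr).1.2 u
      rw [tchar_eq_one f hf hK (hw0 r hr) g, Units.val_one, one_mul, mul_inv_eq_iff_eq_mul] at this
      exact this.symm
    rw [Subgroup.mem_centralizer_singleton_iff] at key
    exact key.symm
  · refine Subtype.ext (fix_eq_one hj (fun r hr => tchar_ne_one f hf hK hq (hw1 r hr) hg) hx ?_)
    exact congrArg Subtype.val e

theorem data (hq : 3 ≤ q) : TorusSplit.Data (subU f hf hK) (layer f hf hK) (seg f hf hK) 24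
    (torH f hf hK) := by
  obtain ⟨g, hg⟩ := IsCyclic.exists_generator (α := Kˣ)
  refine ⟨seg_zero f hf hK, seg_top f hf hK, fun j _ => ?_, fun j hj => ?_, fun j hj w hw => ?_,
    fun j hj x hx hx' => ?_, fun j hj u hu w hw => ?_, fun t ht j hj x hx => ?_,
    fun t ht t' ht' => ?_, fun j hj => ?_, fun k hk j hj hkj => pair_sep f hf hK hq hg hk hj hkj⟩
  · intro w hw
    refine ((Subgroup.closure_le _).2 ?_ : certFullE6.KS K (from_ (j + 1)) certFullE6.T.h ≤
      certFullE6.KS K (from_ j) certFullE6.T.h) hw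
    rintro _ ⟨r, t, hr, hm, rfl⟩
    obtain ⟨i, h1, h2, h3⟩ := E6Sub.mem_from.1 hr
    exact certFullE6.xg_mem_KS (E6Sub.mem_from.2 ⟨i, by omega, h2, h3⟩) hm t
  · intro w hw
    refine ((Subgroup.closure_le _).2 ?_ : certFullE6.KS K (orbS j) certFullE6.T.h ≤
      certFullE6.KS K (from_ j) certFullE6.T.h) hw
    rintro _ ⟨r, t, hr, hm, rfl⟩
    exact certFullE6.xg_mem_KS (E6Sub.mem_from.2 ⟨j, le_rfl, hj, hr⟩) hm t
  · obtain ⟨v, hv, hvf, x, hx, hxf, e⟩ := E6Sub.peel_split f hj hw (fix_of f hf hK w)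
    have hvG := (fun {g} (h : g ∈ (E6.tw f).fix) => ((Z).eq_fix.ge h : g ∈ (Z).G₁)) hvf
    have hxG := (fun {g} (h : g ∈ (E6.tw f).fix) => ((Z).eq_fix.ge h : g ∈ (Z).G₁)) hxf
    refine ⟨⟨x, hxG⟩, hx, ⟨x, hxG⟩⁻¹ * ⟨v, hvG⟩ * ⟨x, hxG⟩, ?_, Subtype.ext ?_⟩
    · show x⁻¹ * v * x ∈ certFullE6.KS K (from_ (j + 1)) certFullE6.T.h
      have := certFullE6.absorbs_conj (E6Sub.from_absorbs (j + 1)) (inv_mem
        (certFullE6.KS_le_U' (fun r hr => (E6Sub.orbS_spec hj hr).1) hx)) hv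
      rwa [inv_inv] at this
    · show (w : GL chevE6.Idx K) = x * (x⁻¹ * v * x)
      rw [show (w : GL chevE6.Idx K) = v * x from e]; group
  · exact Subtype.ext (Subgroup.mem_bot.1 ((certFullE6.KS_inf_eq_bot (E6Sub.orbS_closed hj)
      (E6Sub.from_closed (j + 1)) fun r hr => (E6Sub.orbS_spec hj hr).2.1).le
        (Subgroup.mem_inf.2 ⟨hx, hx'⟩)))
  · have hA := E6Sub.from_absorbs (j + 1)
    show ⁅(u : GL chevE6.Idx K), (w : GL chevE6.Idx K)⁆ ∈
      certFullE6.KS K (from_ (j + 1)) certFullE6.T.h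
    have hu' : (u : GL chevE6.Idx K) ∈ certFullE6.KS K (from_ 0) certFullE6.T.h :=
      E6Sub.U_eq_from hu
    have hUpos : certFullE6.KS K (from_ 0) certFullE6.T.h ≤ chevE6.posUnipotent K :=
      certFullE6.KS_le_U' fun r hr => E6Sub.from_pos hr
    clear hu
    generalize (u : GL chevE6.Idx K) = a at hu'
    have hwj : (w : GL chevE6.Idx K) ∈ certFullE6.KS K (from_ j) certFullE6.T.h := hw
    generalize (w : GL chevE6.Idx K) = b at hwj
    induction hu' using Subgroup.closure_induction with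
    | mem a ha =>
      obtain ⟨p, t, hp, -, rfl⟩ := ha
      rw [commutatorElement_def]
      exact certFullE6.comm_mod hA (E6Sub.from_pos hp) (fun r hr => E6Sub.from_pos hr)
        (fun r hr _ x hx => E6Sub.from_terms (E6Sub.from_pos hp) hr x hx) t hwj
    | one => rw [commutatorElement_one_left]; exact one_mem _
    | mul x y hx _ ihx ihy =>
      rw [TwistMult.comm_mul_left]
      exact mul_mem (certFullE6.absorbs_conj hA (hUpos hx) ihy) ihx
    | inv x hx ihx =>
      rw [TwistMult.comm_inv_left]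
      have := certFullE6.absorbs_conj hA (inv_mem (hUpos hx)) (inv_mem ihx)
      rwa [inv_inv] at this
  · exact torus_stab (fun r hr => (E6Sub.orbS_spec hj hr).1) ht hx
  · exact Subtype.ext (certFullE6.H_commutative ht ht')
  · obtain ⟨t, ht, -, h⟩ := pair_sep f hf hK hq hg (k := if j = 0 then 1 else 0)
      (by split_ifs <;> omega) hj (by split_ifs <;> omega)
    exact ⟨t, ht, h⟩

/-! ### The layers have commutative preimages -/

omit hf hK in
theorem base_values :
    (∃ C1 C2 C3 : ℤ, C1.natAbs = 1 ∧ C2.natAbs = 1 ∧ C3.natAbs = 1 ∧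
      certFullE6.T.commTerms 39 46 = [(47, C1, 1, 1)] ∧
      certFullE6.T.commTerms 36 37 = [(38, C2, 1, 1)] ∧
      certFullE6.T.commTerms 56 42 = [(57, C3, 1, 1)]) ∧
    (∀ p ∈ ([(36, 42), (56, 37), (47, 39), (47, 46), (38, 36), (38, 56), (57, 36), (57, 56),
        (38, 37), (38, 42), (57, 37), (57, 42)] : List (ℕ × ℕ)),
      certFullE6.T.commTerms p.1 p.2 = [] ∧ certFullE6.T.commTerms p.2 p.1 = []) ∧
    orbitAt 0 = [36, 56] ∧ orbitAt 1 = [37, 42] ∧ orbitAt 2 = [39, 39] ∧ orbitAt 3 = [46, 46] ∧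
      orbitAt 4 = [38, 57] ∧ orbitAt 6 = [47, 47] := by
  have h := checkBase_ok
  simp only [checkBase, Bool.and_eq_true, decide_eq_true_eq, List.all_eq_true,
    List.isEmpty_iff, List.map_cons, List.map_nil, List.cons.injEq, and_true] at h
  obtain ⟨⟨⟨h1, h2, h3⟩, h4⟩, h5⟩ := h
  refine ⟨?_, h4, h5⟩
  have key : ∀ {L : List (ℕ × ℤ × ℕ × ℕ)} {v : ℕ},
      (L.map fun x => (x.1, x.2.1.natAbs, x.2.2.1, x.2.2.2)) = [(v, 1, 1, 1)] →
      ∃ C : ℤ, C.natAbs = 1 ∧ L = [(v, C, 1, 1)] := by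
    intro L v e
    match L, e with
    | [(a, C, i, j)], e =>
      simp only [List.map_cons, List.map_nil, List.cons.injEq, and_true, Prod.mk.injEq] at e
      obtain ⟨rfl, e2, rfl, rfl⟩ := e
      exact ⟨C, e2, rfl⟩
    | [], e => simp at e
    | _ :: _ :: _, e => simp at e
  obtain ⟨C1, a1, b1⟩ := key h1
  obtain ⟨C2, a2, b2⟩ := key h2
  obtain ⟨C3, a3, b3⟩ := key h3
  exact ⟨C1, C2, C3, a1, a2, a3, b1, b2, b3⟩

omit [Fintype K] hf hK in
/-- A commutator of two root elements with a single term commuting with both. -/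
theorem comm_one_term {r s v : ℕ} {C : ℤ} (hr : certFullE6.Pos r) (hs : certFullE6.Pos s)
    (hne : s ≠ r) (hv : certFullE6.T.commTerms r s = [(v, C, 1, 1)]) (hvp : certFullE6.Pos v)
    (hvr : certFullE6.T.commTerms v r = []) (hvs : certFullE6.T.commTerms v s = [])
    (hvne : r ≠ v ∧ s ≠ v) (t u : K) :
    ⁅certFullE6.xg s u, certFullE6.xg r t⁆ = certFullE6.xg v (-((C : K) * t * u)) := by
  have hn : ∀ {a b : ℕ}, certFullE6.Pos a → certFullE6.Pos b → b ≠ chevE6.neg a :=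
    fun {a b} ha hb e => ((certFullE6.not_pos_iff ha.2).2 (e ▸ hb)) ha
  have e := certFullE6.xg_comm hr.2 hs.2 hne (hn hr hs) t u
  rw [hv] at e
  simp only [List.map_cons, List.map_nil, List.prod_cons, List.prod_nil, mul_one, pow_one] at e
  have c1 := certFullE6.xg_commute hvp.2 hr.2 hvne.1 (hn hvp hr) hvr ((C : K) * -t * u) t
  have c2 := certFullE6.xg_commute hvp.2 hs.2 hvne.2 (hn hvp hs) hvs ((C : K) * -t * u) u
  rw [commutatorElement_def, e, show -((C : K) * t * u) = (C : K) * -t * u by ring]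
  set P := certFullE6.xg v ((C : K) * -t * u)
  set a := certFullE6.xg r t
  set b := certFullE6.xg s u
  rw [mul_assoc (a * b) P, show P * b⁻¹ = b⁻¹ * P from c2.inv_right.eq,
    show a * b * (b⁻¹ * P) * a⁻¹ = a * P * a⁻¹ by group, ← c1.eq, mul_inv_cancel_right]

omit [Fintype K] hf hK in
theorem sign_sq {C : ℤ} (h : C.natAbs = 1) : (C : K) * C = 1 := by
  rcases Int.natAbs_eq C with e | e <;> rw [h] at e <;> subst e <;> simp

theorem layer_six {x : ↥(Z).G₁} (hx : x ∈ layer f hf hK 6) :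
    ∃ a ∈ layer f hf hK 3, ∃ b ∈ layer f hf hK 2, ⁅a, b⁆ = x := by
  obtain ⟨⟨C, -, -, hC, -, -, hv, -, -⟩, hnil, -, -, h2, h3, -, h6⟩ := base_values
  obtain ⟨s0, s1, s2, s3, s4, s5, hrk, -, -, -, -, -, n46, n39⟩ := E6.simple_values
  have hp : ∀ {r : ℕ}, 36 ≤ r → r < 72 → certFullE6.Pos r := fun a b => ⟨a, b⟩
  obtain ⟨a, b, e⟩ := E6Sub.KS_two (p := 47) (p' := 47) (fun r hr => by
      simpa [orbS, h6] using hr)
    (fun a b => by show _ = _; rw [← certFullE6.xg_add, ← certFullE6.xg_add, add_comm]) hx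
  rw [← certFullE6.xg_add] at e
  set c := a + b
  have hfix : f c = c := by
    refine E6Sub.long_fix f (by omega : 47 < 72) (by decide) ?_
    rw [← e]
    exact fix_of f hf hK x
  have hfd : f (-((C : K) * c)) = -((C : K) * c) := by rw [map_neg, map_mul, map_intCast, hfix]
  refine ⟨⟨certFullE6.xg 46 1, E6.gen1 f hf (by simp) (map_one f)⟩,
    certFullE6.xg_mem_KS (show (46 : ℕ) ∈ orbS 3 by simp [orbS, h3]) (by show 36 ≤ 46; omega) _,
    ⟨certFullE6.xg 39 (-((C : K) * c)), E6.gen1 f hf (by simp) hfd⟩,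
    certFullE6.xg_mem_KS (show (39 : ℕ) ∈ orbS 2 by simp [orbS, h2]) (by show 36 ≤ 39; omega) _,
    Subtype.ext ?_⟩
  show ⁅certFullE6.xg 46 (1 : K), certFullE6.xg 39 (-((C : K) * c))⁆ = _
  rw [show ((x : ↥(Z).G₁) : GL chevE6.Idx K) = certFullE6.xg 47 c from e, comm_one_term (hp (by omega) (by omega)) (hp (by omega) (by omega)) (by omega) hv
    (hp (by omega) (by omega)) (hnil (47, 39) (by simp)).1 (hnil (47, 46) (by simp)).1
    ⟨by omega, by omega⟩]
  congr 1
  linear_combination c * sign_sq (K := K) hC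

theorem layer_four {x : ↥(Z).G₁} (hx : x ∈ layer f hf hK 4) :
    ∃ a ∈ layer f hf hK 1, ∃ b ∈ layer f hf hK 0, ⁅a, b⁆ = x := by
  obtain ⟨⟨-, C, C', -, hC, -, -, hv, hv'⟩, hnil, h0, h1, -, -, h4, -⟩ := base_values
  have hp : ∀ {r : ℕ}, 36 ≤ r → r < 72 → certFullE6.Pos r := fun a b => ⟨a, b⟩
  have hρ : graphE6.ρ 36 = 56 ∧ graphE6.ρ 37 = 42 ∧ graphE6.ρ 38 = 57 := by decide
  have hff := E6.pow_sq f hf hK
  obtain ⟨a, b, e⟩ := E6Sub.KS_two (p := 38) (p' := graphE6.ρ 38) (fun r hr => by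
      rw [hρ.2.2]; simpa [orbS, h4] using hr)
    (E6Sub.pair_comm (hp (by omega) (by omega)) (by rw [hρ.2.2]; omega)) hx
  have hb := E6Sub.pair_fix f hff (hp (by omega) (by omega) : certFullE6.Pos 38)
    (by rw [hρ.2.2]; omega) (by rw [← show ((x : ↥(Z).G₁) : GL chevE6.Idx K) = _ from e]; exact fix_of f hf hK x)
  set d : K := -((C : K) * a) with hd
  have hy := E6Sub.pair_mem f hff (p := 37) (hp (by omega) (by omega)) (by rw [hρ.2.1]; omega) 1
  have hz := E6Sub.pair_mem f hff (p := 36) (hp (by omega) (by omega)) (by rw [hρ.1]; omega) d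
  have hy' : E6Sub.pair f 37 (1 : K) ∈ certFullE6.KS K (orbS 1) certFullE6.T.h := by
    refine mul_mem (certFullE6.xg_mem_KS (show (37 : ℕ) ∈ orbS 1 by simp [orbS, h1])
      (by show 36 ≤ 37; omega) _) (certFullE6.xg_mem_KS ?_ (by rw [hρ.2.1]; show 36 ≤ 42; omega) _)
    simp [orbS, h1, hρ.2.1]
  have hz' : E6Sub.pair f 36 d ∈ certFullE6.KS K (orbS 0) certFullE6.T.h := by
    refine mul_mem (certFullE6.xg_mem_KS (show (36 : ℕ) ∈ orbS 0 by simp [orbS, h0])
      (by show 36 ≤ 36; omega) _) (certFullE6.xg_mem_KS ?_ (by rw [hρ.1]; show 36 ≤ 56; omega) _)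
    simp [orbS, h0, hρ.1]
  refine ⟨⟨_, (fun {g} (h : g ∈ (E6.tw f).fix) => ((Z).eq_fix.ge h : g ∈ (Z).G₁)) hy⟩, hy', ⟨_, (fun {g} (h : g ∈ (E6.tw f).fix) => ((Z).eq_fix.ge h : g ∈ (Z).G₁)) hz⟩, hz', Subtype.ext ?_⟩
  show ⁅E6Sub.pair f 37 (1 : K), E6Sub.pair f 36 d⁆ = _
  set u : K := (graphE6.ε 37 : K) * f 1
  set v : K := (graphE6.ε 36 : K) * f d
  have hn : ∀ {a b : ℕ}, certFullE6.Pos a → certFullE6.Pos b → b ≠ chevE6.neg a :=
    fun {a b} ha hb e => ((certFullE6.not_pos_iff ha.2).2 (e ▸ hb)) ha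
  have cm : ∀ {r s : ℕ}, 36 ≤ r → r < 72 → 36 ≤ s → s < 72 → s ≠ r →
      certFullE6.T.commTerms r s = [] → ∀ t t' : K,
      Commute (certFullE6.xg r t) (certFullE6.xg s t') :=
    fun h1 h2 h3 h4 h5 h6 => certFullE6.xg_commute h2 h4 h5 (hn (hp h1 h2) (hp h3 h4)) h6
  have key : ⁅E6Sub.pair f 37 (1 : K), E6Sub.pair f 36 d⁆ =
      certFullE6.xg 38 a * certFullE6.xg 57 (-((C' : K) * v * u)) := by
    rw [E6Sub.pair, E6Sub.pair, hρ.1, hρ.2.1]
    set A := certFullE6.xg 37 (1 : K)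
    set B := certFullE6.xg 42 u
    set A' := certFullE6.xg 36 d
    set B' := certFullE6.xg 56 v
    have eA : ⁅A, A'⁆ = certFullE6.xg 38 a := by
      rw [comm_one_term (hp (by omega) (by omega)) (hp (by omega) (by omega)) (by omega) hv
        (hp (by omega) (by omega)) (hnil (38, 36) (by simp)).1 (hnil (38, 37) (by simp)).1
        ⟨by omega, by omega⟩]
      congr 1
      rw [hd]
      linear_combination a * sign_sq (K := K) hC
    have eB : ⁅B, B'⁆ = certFullE6.xg 57 (-((C' : K) * v * u)) :=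
      comm_one_term (hp (by omega) (by omega)) (hp (by omega) (by omega)) (by omega) hv'
        (hp (by omega) (by omega)) (hnil (57, 56) (by simp)).1 (hnil (57, 42) (by simp)).1
        ⟨by omega, by omega⟩ _ _
    have k1 : ⁅B, A'⁆ = 1 := commutatorElement_eq_one_iff_commute.2
      (cm (by omega) (by omega) (by omega) (by omega) (by omega)
        (hnil (36, 42) (by simp)).2 _ _)
    have k2 : ⁅A, B'⁆ = 1 := commutatorElement_eq_one_iff_commute.2
      (cm (by omega) (by omega) (by omega) (by omega) (by omega)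
        (hnil (56, 37) (by simp)).2 _ _)
    have m1 : Commute A' ⁅B, B'⁆ := by
      rw [eB]
      exact cm (by omega) (by omega) (by omega) (by omega) (by omega)
        (hnil (57, 36) (by simp)).2 _ _
    have m2 : Commute A ⁅B, B'⁆ := by
      rw [eB]
      exact cm (by omega) (by omega) (by omega) (by omega) (by omega)
        (hnil (57, 37) (by simp)).2 _ _
    have m3 : Commute ⁅B, B'⁆ ⁅A, A'⁆ := by
      conv => rhs; rw [commutatorElement_def]
      exact ((m2.symm.mul_right m1.symm).mul_right m2.symm.inv_right).mul_right m1.symm.inv_right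
    calc ⁅A * B, A' * B'⁆ = A * (⁅B, A'⁆ * (A' * ⁅B, B'⁆ * A'⁻¹)) * A⁻¹ *
          (⁅A, A'⁆ * (A' * ⁅A, B'⁆ * A'⁻¹)) := by
            simp only [commutatorElement_def]; group
      _ = ⁅B, B'⁆ * ⁅A, A'⁆ := by
            rw [k1, k2, one_mul, mul_one, mul_inv_cancel, mul_one, m1.eq, mul_inv_cancel_right,
              m2.eq, mul_inv_cancel_right]
      _ = _ := by rw [m3.eq, eA, eB]
  rw [key, show ((x : ↥(Z).G₁) : GL chevE6.Idx K) = _ from e, hρ.2.2]
  have hfix : ⁅E6Sub.pair f 37 (1 : K), E6Sub.pair f 36 d⁆ ∈ (E6.tw f).fix := by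
    rw [commutatorElement_def]
    exact mul_mem (mul_mem (mul_mem hy hz) (Subgroup.inv_mem _ hy)) (Subgroup.inv_mem _ hz)
  rw [key, ← hρ.2.2] at hfix
  rw [E6Sub.pair_fix f hff (hp (by omega) (by omega) : certFullE6.Pos 38)
    (by rw [hρ.2.2]; omega) hfix, hb]

theorem base_commute {i : ℕ} (hi : i = 4 ∨ i = 6) :
    ∃ k l, k < 24 ∧ l < 24 ∧ k ≠ i ∧ l ≠ i ∧
      (∀ x ∈ layer f hf hK i, ∃ a ∈ layer f hf hK k, ∃ b ∈ layer f hf hK l, ⁅a, b⁆ = x) ∧
      (∀ x ∈ layer f hf hK i, ∀ a ∈ layer f hf hK k, Commute a x) ∧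
      ∀ x ∈ layer f hf hK i, ∀ a ∈ layer f hf hK l, Commute a x := by
  obtain ⟨-, hnil, h0, h1, h2, h3, h4, h6⟩ := base_values
  have cm : ∀ {i k : ℕ}, i < 24 → k < 24 → (∀ r ∈ orbS k, ∀ s ∈ orbS i, s ≠ r ∧
      certFullE6.T.commTerms r s = []) → ∀ x ∈ layer f hf hK i, ∀ a ∈ layer f hf hK k,
      Commute a x := by
    intro i k hi hk h x hx a ha
    refine Subtype.ext ?_
    have key : certFullE6.KS K (orbS k) certFullE6.T.h ≤ Subgroup.centralizer
        (certFullE6.KS K (orbS i) certFullE6.T.h : Set (GL chevE6.Idx K)) := by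
      rw [CertFull.KS, CertFull.KS, Subgroup.centralizer_closure, Subgroup.closure_le]
      rintro _ ⟨r, t, hr, -, rfl⟩
      rintro _ ⟨s, u, hs, -, rfl⟩
      obtain ⟨hsr, hn⟩ := h r hr s hs
      have hr' := (E6Sub.orbS_spec hk hr).1
      have hs' := (E6Sub.orbS_spec hi hs).1
      exact (certFullE6.xg_commute hr'.2 hs'.2 hsr
        (fun e => ((certFullE6.not_pos_iff hr'.2).2 (e ▸ hs')) hr') hn t u).symm.eq
    exact (Subgroup.mem_centralizer_iff.1 (key ha) _ hx).symm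
  rcases hi with rfl | rfl
  · refine ⟨1, 0, by omega, by omega, by omega, by omega, fun x hx => layer_four f hf hK hx,
      cm (by omega) (by omega) ?_, cm (by omega) (by omega) ?_⟩ <;>
    · intro r hr s hs
      simp only [orbS, h0, h1, h4, Set.mem_ofPred_eq, List.mem_cons, List.not_mem_nil, or_false]
        at hr hs
      rcases hr with rfl | rfl <;> rcases hs with rfl | rfl <;>
        exact ⟨by omega, (hnil (_, _) (by simp)).2⟩
  · refine ⟨3, 2, by omega, by omega, by omega, by omega, fun x hx => layer_six f hf hK hx,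
      cm (by omega) (by omega) ?_, cm (by omega) (by omega) ?_⟩ <;>
    · intro r hr s hs
      simp only [orbS, h2, h3, h6, Set.mem_ofPred_eq, List.mem_cons, List.not_mem_nil, or_false,
        or_self] at hr hs
      subst hr hs
      exact ⟨by omega, (hnil (_, _) (by simp)).2⟩

variable {E : Type*} [Group E] {π : E →* ↥(E6.datum f hf hK).G₁} (hπ : Function.Surjective π)
  (hc : π.ker ≤ Subgroup.center E)

include hπ hc

/-- The preimages of the layers are commutative. -/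
theorem layer_comm (hq : 3 ≤ q) {j : ℕ} (hj : j < 24) {a b : E} (ha : π a ∈ layer f hf hK j)
    (hb : π b ∈ layer f hf hK j) : Commute a b := by
  obtain ⟨g, hg⟩ := IsCyclic.exists_generator (α := Kˣ)
  have base : ∀ i, i = 4 ∨ i = 6 → ∀ a b : E, π a ∈ layer f hf hK i → π b ∈ layer f hf hK i →
      Commute a b := by
    intro i hi a b ha hb
    have hi' : i < 24 := by omega
    obtain ⟨k, l, hk, hl, hki, hli, hcomm, hck, hcl⟩ := base_commute f hf hK hi
    obtain ⟨x, hx, y, hy, exy⟩ := hcomm _ ha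
    obtain ⟨x, rfl⟩ := hπ x
    obtain ⟨y, rfl⟩ := hπ y
    have hxb : ∀ {m : ℕ}, m < 24 → m ≠ i →
        (∀ x ∈ layer f hf hK i, ∀ c ∈ layer f hf hK m, Commute c x) →
        ∀ {c : E}, π c ∈ layer f hf hK m → Commute c b := by
      intro m hm hmi hcm c hc'
      obtain ⟨t, ht, hfix, hfp⟩ := pair_sep f hf hK hq hg hm hi' hmi
      obtain ⟨t', rfl⟩ := hπ t
      exact TorusSplit.commute_of_moved hπ hc (t := t') (hfix _ hc')
        (fun v hv => hcm v hv _ hc')
        (fun v hv => torus_stab (fun r hr => (E6Sub.orbS_spec hi' hr).1) ht hv) hfp hb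
    have h1 := hxb hk hki hck hx
    have h2 := hxb hl hli hcl hy
    have h3 : Commute ⁅x, y⁆ b := by
      rw [commutatorElement_def]
      exact ((h1.mul_left h2).mul_left h1.inv_left).mul_left h2.inv_left
    have hz : π (⁅x, y⁆⁻¹ * a) = 1 := by
      rw [map_mul, map_inv, map_commutatorElement, exy, inv_mul_cancel]
    rw [show a = ⁅x, y⁆ * (⁅x, y⁆⁻¹ * a) by group]
    exact h3.mul_left (UnitMult.ker_comm π hc hz b).symm
  have h := checkMove_ok
  simp only [checkMove, List.all_eq_true, List.mem_range, Bool.and_eq_true, Nat.blt_eq,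
    List.contains_iff_mem] at h
  obtain ⟨hlt, hmv⟩ := h j hj
  set L := moveWord j with hL
  have hLlt : ∀ p ∈ L, p < chevE6.rank := by
    rw [hL, moveWord, show chevE6.rank = 6 from E6.simple_values.2.2.2.2.2.2.1]
    intro p hp
    rw [flatW, List.mem_flatMap] at hp
    obtain ⟨n, hn, hpJ⟩ := hp
    rcases (show n = 0 ∨ n = 1 ∨ n = 2 ∨ n = 3 by have := hlt n hn; omega) with
      rfl | rfl | rfl | rfl <;> simp [orbitsE6] at hpJ <;> omega
  have hLG : certFullE6.nw K L ∈ twistedE6 K q := by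
    rw [hL, moveWord]
    clear hL hLlt hmv
    revert hlt
    induction moveWords.getD j [] with
    | nil => intro _; exact one_mem _
    | cons n w ih =>
      intro h
      rw [show flatW orbitsE6 (n :: w) = orbitsE6.getD n [] ++ flatW orbitsE6 w by simp [flatW],
        certFullE6.nw_append]
      refine mul_mem (E6.n_mem f hf hK _ ?_) (ih fun k hk => h k (by simp [hk]))
      have hn : n < orbitsE6.length := h n (by simp)
      rw [List.getD_eq_getElem _ _ hn]
      exact List.getElem_mem hn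
  obtain ⟨e, he⟩ := hπ ⟨certFullE6.nw K L, hLG⟩
  have hmem : ∀ c : E, π c ∈ layer f hf hK j →
      π (e * c * e⁻¹) ∈ layer f hf hK (moveTo j) := by
    intro c hc'
    show ((π (e * c * e⁻¹) : ↥(Z).G₁) : GL chevE6.Idx K) ∈
      certFullE6.KS K (orbS (moveTo j)) certFullE6.T.h
    rw [map_mul, map_mul, map_inv, he]
    show certFullE6.nw K L * (π c : GL chevE6.Idx K) * (certFullE6.nw K L)⁻¹ ∈ _
    suffices H : certFullE6.KS K (orbS j) certFullE6.T.h ≤
        (certFullE6.KS K (orbS (moveTo j)) certFullE6.T.h).comap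
          (MulAut.conj (certFullE6.nw K L)).toMonoidHom from H hc'
    refine (Subgroup.closure_le _).2 ?_
    rintro _ ⟨r, t, hr, -, rfl⟩
    rw [SetLike.mem_coe, Subgroup.mem_comap, MulEquiv.coe_toMonoidHom, MulAut.conj_apply,
      certFullE6.nw_mul_xg hLlt (E6Sub.orbS_spec hj hr).1.2, mul_inv_cancel_right]
    have hm : certFullE6.wl L r ∈ orbS (moveTo j) := by
      rw [← certFullE6.wlT_eq]; exact hmv r hr
    have hto : moveTo j < 24 := by
      unfold moveTo
      cases Nat.beq ((moveWord j).foldr certFullE6.T.refl (entryAt j).1) 47 <;> simp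
    exact certFullE6.xg_mem_KS hm (E6Sub.orbS_spec hto hm).1.1 _
  have hto : moveTo j = 4 ∨ moveTo j = 6 := by
    unfold moveTo
    cases Nat.beq ((moveWord j).foldr certFullE6.T.refl (entryAt j).1) 47 <;> simp
  have := base _ hto _ _ (hmem a ha) (hmem b hb)
  exact (Commute.conj_iff e).1 this

/-- The kernel meets the derived group of the preimage of the maximal unipotent subgroup trivially. -/
theorem ker_derived (hq : 3 ≤ q) {z : E} (hz : π z = 1)
    (hzd : z ∈ ⁅(subU f hf hK).comap π, (subU f hf hK).comap π⁆) : z = 1 :=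
  (data f hf hK hq).ker_derived hπ hc (fun _ hj _ _ ha hb => layer_comm f hf hK hπ hc hq hj ha hb)
    hz hzd

end Cfsg.Agent.Classical.E6Mult
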