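import Cfsg.Prelude.Def_GeometricClasses
import Mathlib

set_option autoImplicit false

/-! Eigenspace bounds for elements normalising an absolutely irreducible group of symplectic type. -/

namespace Cfsg.Agent.Classical.ExtraspecialEigen

open Module Matrix
open scoped commutatorElement

section Generic

variable {K V : Type*} [Field K] [AddCommGroup V] [Module K V] [FiniteDimensional K V]

theorem sum_finrank_le {ι : Type*} [DecidableEq ι] (A : Module.End K V) (S : Finset ι) (μ : ι → K)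
    (hμ : Set.InjOn μ S) (G : Submodule K V) (p : ι → Submodule K V)
    (hp : ∀ i ∈ S, p i ≤ Module.End.eigenspace A (μ i) ⊓ G) :
    ∑ i ∈ S, finrank K (p i) ≤ finrank K G := by
  have key : ∀ T : Finset ι, T ⊆ S → ∑ i ∈ T, finrank K (p i) ≤ finrank K (T.sup p : Submodule K V) := by
    intro T
    induction T using Finset.induction_on with
    | empty => intro _; simp
    | insert a T ha ih =>
      intro hT
      have haS : a ∈ S := hT (Finset.mem_insert_self a T)
      have hTS : T ⊆ S := fun i hi => hT (Finset.mem_insert_of_mem hi)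
      have hna : μ a ∉ μ '' (T : Set ι) := by
        rintro ⟨i, hi, he⟩
        exact ha (hμ (hTS hi) haS he ▸ hi)
      have hd : Disjoint (p a) (T.sup p) := by
        refine ((Module.End.eigenspaces_iSupIndep A).disjoint_biSup hna).mono
          ((hp a haS).trans inf_le_left) (Finset.sup_le fun i hi => ?_)
        exact ((hp i (hTS hi)).trans inf_le_left).trans
          (le_biSup (fun z => Module.End.eigenspace A z) (Set.mem_image_of_mem μ hi))
      have h := Submodule.finrank_sup_add_finrank_inf_eq (p a) (T.sup p)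
      rw [hd.eq_bot, finrank_bot, add_zero] at h
      rw [Finset.sum_insert ha, Finset.sup_insert, h]
      have := ih hTS
      omega
  exact (key S subset_rfl).trans
    (Submodule.finrank_mono (Finset.sup_le fun i hi => (hp i hi).trans inf_le_right))

/-- Decomposition of an invariant subspace under an operator of order dividing `r`. -/
theorem finrank_le_sum_eigen (U : Module.End K V) {r : ℕ} (hU : U ^ r = 1) {ζ : K}
    (hζ : IsPrimitiveRoot ζ r) (hr : 0 < r) (E : Submodule K V) (hE : ∀ v ∈ E, U v ∈ E) :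
    finrank K E ≤ ∑ m ∈ Finset.range r, finrank K (E ⊓ Module.End.eigenspace U (ζ ^ m) : Submodule K V) := by
  have : NeZero r := ⟨hr.ne'⟩
  have hr0 : (r : K) ≠ 0 := hζ.neZero'.out
  let P : ℕ → Module.End K V := fun m => ∑ i ∈ Finset.range r, ((ζ⁻¹) ^ m • U) ^ i
  have hUpow : ∀ i : ℕ, ∀ v ∈ E, (U ^ i) v ∈ E := by
    intro i
    induction i with
    | zero => intro v hv; simpa using hv
    | succ i ih => intro v hv; rw [pow_succ', Module.End.mul_apply]; exact hE _ (ih v hv)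
  have hmem : ∀ m, ∀ v ∈ E, P m v ∈ E ⊓ Module.End.eigenspace U (ζ ^ m) := by
    intro m v hv
    refine ⟨?_, ?_⟩
    · simp only [P, LinearMap.sum_apply]
      exact Submodule.sum_mem _ fun i _ => by
        rw [_root_.smul_pow, LinearMap.smul_apply]
        exact E.smul_mem _ (hUpow i v hv)
    · rw [SetLike.mem_coe, Module.End.mem_eigenspace_iff]
      have hw : ((ζ⁻¹) ^ m • U) ^ r = 1 := by
        rw [_root_.smul_pow, hU, ← pow_mul, mul_comm m r, pow_mul, inv_pow, hζ.pow_eq_one, inv_one,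
          one_pow, one_smul]
      have h2 : ((ζ⁻¹) ^ m • U - 1) * P m = 0 := by
        simp only [P]
        rw [mul_geom_sum, hw, sub_self]
      have h3 : ((ζ⁻¹) ^ m • U - 1) (P m v) = 0 := by
        rw [← Module.End.mul_apply, h2, LinearMap.zero_apply]
      simp only [LinearMap.sub_apply, LinearMap.smul_apply, Module.End.one_apply, sub_eq_zero] at h3
      have hz : ζ ^ m ≠ 0 := pow_ne_zero _ (hζ.ne_zero hr.ne')
      calc U (P m v) = (ζ ^ m * (ζ⁻¹) ^ m) • U (P m v) := by rw [inv_pow, mul_inv_cancel₀ hz, one_smul]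
        _ = ζ ^ m • P m v := by rw [mul_smul, h3]
  have hsum : ∀ v : V, ∑ m ∈ Finset.range r, P m v = (r : K) • v := by
    intro v
    simp only [P, LinearMap.sum_apply, _root_.smul_pow, LinearMap.smul_apply]
    rw [Finset.sum_comm]
    simp only [← Finset.sum_smul]
    rw [Finset.sum_eq_single 0]
    · simp
    · intro i hi hi0
      have hlt := Finset.mem_range.1 hi
      have hne : ζ⁻¹ ^ i ≠ 1 := hζ.inv.pow_ne_one_of_pos_of_lt hi0 hlt
      have hpow : (ζ⁻¹ ^ i) ^ r = 1 := by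
        rw [← pow_mul, mul_comm, pow_mul, hζ.inv.pow_eq_one, one_pow]
      have hs : ∑ m ∈ Finset.range r, (ζ⁻¹ ^ m) ^ i = 0 := by
        have h := geom_sum_mul (ζ⁻¹ ^ i) r
        rw [hpow, sub_self] at h
        rcases mul_eq_zero.1 h with h' | h'
        · rw [← h']
          exact Finset.sum_congr rfl fun m _ => by rw [← pow_mul, ← pow_mul, mul_comm]
        · exact absurd (sub_eq_zero.1 h') hne
      rw [hs, zero_smul]
    · intro h
      exact absurd (Finset.mem_range.2 hr) h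
  have hle : E ≤ (Finset.range r).sup fun m => E ⊓ Module.End.eigenspace U (ζ ^ m) := by
    intro v hv
    have hv' : v = (r : K)⁻¹ • ∑ m ∈ Finset.range r, P m v := by
      rw [hsum, smul_smul, inv_mul_cancel₀ hr0, one_smul]
    rw [hv']
    refine Submodule.smul_mem _ _ (Submodule.sum_mem _ fun m hm => ?_)
    exact Finset.le_sup (f := fun m => E ⊓ Module.End.eigenspace U (ζ ^ m)) hm (hmem m v hv)
  refine (Submodule.finrank_mono hle).trans ?_
  generalize Finset.range r = S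
  induction S using Finset.induction_on with
  | empty => simp
  | insert a T ha ih =>
    rw [Finset.sum_insert ha, Finset.sup_insert]
    exact (Submodule.finrank_add_le_finrank_add_finrank _ _).trans (Nat.add_le_add_left ih _)

end Generic

section Matrices

variable {F : Type*} [Field F] {n : ℕ}

/-- The linear map of an invertible matrix. -/
noncomputable def lin (a : GL (Fin n) F) : Module.End F (Fin n → F) :=
  Matrix.toLin' (a : Matrix (Fin n) (Fin n) F)

theorem lin_mul (a b : GL (Fin n) F) (v : Fin n → F) : lin (a * b) v = lin a (lin b v) := by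
  rw [lin, Units.val_mul, Matrix.toLin'_mul]; rfl

theorem lin_one (v : Fin n → F) : lin (1 : GL (Fin n) F) v = v := by
  rw [lin, Units.val_one, Matrix.toLin'_one]; rfl

theorem lin_injective (a : GL (Fin n) F) : Function.Injective (lin a) := by
  intro v w h
  have := congrArg (lin a⁻¹) h
  rwa [← lin_mul, ← lin_mul, inv_mul_cancel, lin_one, lin_one] at this

theorem lin_pow_eq_one {a : GL (Fin n) F} {r : ℕ} (h : a ^ r = 1) : lin a ^ r = 1 := by
  have h1 : ∀ k : ℕ, ∀ v, (lin a ^ k) v = lin (a ^ k) v := by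
    intro k
    induction k with
    | zero => intro v; rw [pow_zero, pow_zero, lin_one]; rfl
    | succ k ih => intro v; rw [pow_succ', pow_succ', Module.End.mul_apply, lin_mul, ih]
  refine LinearMap.ext fun v => ?_
  rw [h1, h, lin_one]; rfl

/-- `a` and `b` commute up to the scalar `ε`. -/
def Rel (ε : F) (a b : GL (Fin n) F) : Prop :=
  (a : Matrix (Fin n) (Fin n) F) * b = ε • ((b : Matrix (Fin n) (Fin n) F) * a)

theorem Rel.apply {ε : F} {a b : GL (Fin n) F} (h : Rel ε a b) (v : Fin n → F) :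
    lin a (lin b v) = ε • lin b (lin a v) := by
  have : Matrix.toLin' ((a : Matrix (Fin n) (Fin n) F) * (b : Matrix (Fin n) (Fin n) F)) v =
      Matrix.toLin' (ε • ((b : Matrix (Fin n) (Fin n) F) * (a : Matrix (Fin n) (Fin n) F))) v := by
    rw [show (a : Matrix (Fin n) (Fin n) F) * (b : Matrix (Fin n) (Fin n) F) =
      ε • ((b : Matrix (Fin n) (Fin n) F) * (a : Matrix (Fin n) (Fin n) F)) from h]
  rw [map_smul, Matrix.toLin'_mul, Matrix.toLin'_mul] at this
  exact this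

theorem Rel.comm {a b : GL (Fin n) F} (h : Rel 1 a b) : a * b = b * a := by
  apply Units.ext
  rw [Units.val_mul, Units.val_mul, show (a : Matrix (Fin n) (Fin n) F) * b = _ from h, one_smul]

theorem Rel.pow_left {ε : F} {a b : GL (Fin n) F} (h : Rel ε a b) (k : ℕ) : Rel (ε ^ k) (a ^ k) b := by
  induction k with
  | zero => simp [Rel]
  | succ k ih =>
    unfold Rel at *
    rw [pow_succ, Units.val_mul, mul_assoc, h, mul_smul_comm, ← mul_assoc, ih, smul_mul_assoc,
      smul_smul, mul_assoc, mul_comm ε (ε ^ k), ← pow_succ]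

theorem Rel.pow_eq_one {ε : F} {a b : GL (Fin n) F} (hn : 0 < n) {r : ℕ} (h : Rel ε a b)
    (hc : a ^ r * b = b * a ^ r) : ε ^ r = 1 := by
  have h1 := h.pow_left r
  have h2 : Rel 1 (a ^ r) b := by rw [Rel, one_smul, ← Units.val_mul, hc, Units.val_mul]
  have h3 : ε ^ r • (1 : Matrix (Fin n) (Fin n) F) = (1 : F) • 1 := by
    have h4 : ε ^ r • ((b * a ^ r : GL (Fin n) F) : Matrix (Fin n) (Fin n) F) =
        (1 : F) • ((b * a ^ r : GL (Fin n) F) : Matrix (Fin n) (Fin n) F) := by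
      rw [Units.val_mul, ← h1, ← h2]
    have h5 := congrArg (fun M => M * (((b * a ^ r)⁻¹ : GL (Fin n) F) : Matrix (Fin n) (Fin n) F)) h4
    simp only [smul_mul_assoc] at h5
    rwa [← Units.val_mul, mul_inv_cancel, Units.val_one] at h5
  have := congrFun (congrFun h3 ⟨0, hn⟩) ⟨0, hn⟩
  simpa using this

theorem Rel.pow_card_eq_one {ε : F} {a b : GL (Fin n) F} (h : Rel ε a b) : ε ^ n = 1 := by
  have h1 := congrArg Matrix.det (show (a : Matrix (Fin n) (Fin n) F) * b = _ from h)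
  rw [Matrix.det_smul, Matrix.det_mul, Matrix.det_mul, Fintype.card_fin] at h1
  have ha : (a : Matrix (Fin n) (Fin n) F).det ≠ 0 := a.det_ne_zero
  have hb : (b : Matrix (Fin n) (Fin n) F).det ≠ 0 := b.det_ne_zero
  have := mul_ne_zero ha hb
  field_simp at h1 ⊢
  exact h1.symm

theorem Rel.mapsTo {ε : F} {u y : GL (Fin n) F} (h : Rel ε u y) (a : F) {v : Fin n → F}
    (hv : lin u v = a • v) : lin u (lin y v) = (ε * a) • lin y v := by
  rw [h.apply, hv, map_smul, smul_smul]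

/-- An element which scales `u` bounds every eigenspace of `u`. -/
theorem mul_finrank_eigen_le {r : ℕ} {ε : F} (hε : IsPrimitiveRoot ε r) {u y : GL (Fin n) F}
    (h : Rel ε u y) {a : F} (ha : a ≠ 0) :
    r * finrank F (Module.End.eigenspace (lin u) a) ≤ n := by
  classical
  have hk : ∀ k : ℕ, ∀ v, lin u v = a • v → lin u (lin (y ^ k) v) = (ε ^ k * a) • lin (y ^ k) v := by
    intro k
    induction k with
    | zero => intro v hv; simpa [lin_one] using hv
    | succ k ih =>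
      intro v hv
      rw [pow_succ' y, lin_mul, h.mapsTo _ (ih v hv), pow_succ', mul_assoc]
  have hs := sum_finrank_le (lin u) (Finset.range r) (fun k => ε ^ k * a)
    (fun i hi j hj he => hε.pow_inj (Finset.mem_range.1 hi) (Finset.mem_range.1 hj)
      (mul_right_cancel₀ ha he)) ⊤
    (fun k => (Module.End.eigenspace (lin u) a).map (lin (y ^ k))) ?_
  · have he : ∀ k : ℕ, finrank F ((Module.End.eigenspace (lin u) a).map (lin (y ^ k))) =
        finrank F (Module.End.eigenspace (lin u) a) := fun k =>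
      ((Module.End.eigenspace (lin u) a).equivMapOfInjective _ (lin_injective (y ^ k))).finrank_eq.symm
    simp only [he, Finset.sum_const, Finset.card_range, smul_eq_mul, finrank_top,
      finrank_fin_fun] at hs
    exact hs
  · rintro k - w ⟨v, hv, rfl⟩
    refine ⟨?_, trivial⟩
    rw [SetLike.mem_coe, Module.End.mem_eigenspace_iff]
    exact hk k v (Module.End.mem_eigenspace_iff.1 hv)

end Matrices

section Group

variable {F : Type*} [Field F] {n r ϖ : ℕ}

instance scalars_normal : (Geo.scalars (Fin n) F).Normal := by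
  refine ⟨fun z hz u => ?_⟩
  obtain ⟨c, hc⟩ := (Geo.mem_scalars_iff z).1 hz
  have : u * z = z * u := by
    apply Units.ext
    rw [Units.val_mul, Units.val_mul, hc]
    simp
  rw [this, mul_inv_cancel_right]
  exact hz

theorem scalar_comm {z : GL (Fin n) F} (hz : z ∈ Geo.scalars (Fin n) F) (u : GL (Fin n) F) :
    z * u = u * z := by
  obtain ⟨c, hc⟩ := (Geo.mem_scalars_iff z).1 hz
  apply Units.ext
  rw [Units.val_mul, Units.val_mul, hc]
  simp

theorem exists_rel {a b : GL (Fin n) F} (h : ⁅a, b⁆ ∈ Geo.scalars (Fin n) F) :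
    ∃ ε : F, Rel ε a b := by
  obtain ⟨c, hc⟩ := (Geo.mem_scalars_iff _).1 h
  refine ⟨c, ?_⟩
  have h1 : a * b = ⁅a, b⁆ * (b * a) := by rw [commutatorElement_def]; group
  have h2 := congrArg (fun z : GL (Fin n) F => (z : Matrix (Fin n) (Fin n) F)) h1
  simp only [Units.val_mul, hc] at h2
  rw [Rel, h2, smul_mul_assoc, one_mul]

/-- Abstract shape of the product of an absolutely irreducible group of symplectic type with the
scalar matrices. -/
structure Sympl (r : ℕ) (H : Subgroup (GL (Fin n) F)) : Prop where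
  prime : r.Prime
  comm : ∀ a ∈ H, ∀ b ∈ H, ⁅a, b⁆ ∈ Geo.scalars (Fin n) F
  pow : ∀ a ∈ H, a ^ r ∈ Geo.scalars (Fin n) F
  cent : ∀ a, (∀ b ∈ H, a * b = b * a) → a ∈ Geo.scalars (Fin n) F
  nontriv : ∃ a ∈ H, a ∉ Geo.scalars (Fin n) F

theorem primRoot_of_pow (hr : r.Prime) {ε : F} (h : ε ^ r = 1) (h1 : ε ≠ 1) : IsPrimitiveRoot ε r := by
  have : Fact r.Prime := ⟨hr⟩
  rw [← orderOf_eq_prime h h1]
  exact IsPrimitiveRoot.orderOf ε

variable {H : Subgroup (GL (Fin n) F)}

theorem Sympl.pos (hH : Sympl r H) : 0 < n := by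
  rcases Nat.eq_zero_or_pos n with h | h
  · subst h
    obtain ⟨a, -, ha⟩ := hH.nontriv
    exact absurd (Subsingleton.elim 1 a ▸ one_mem _) ha
  · exact h

theorem Sympl.exists_root (hH : Sympl r H) {u : GL (Fin n) F} (hu : u ∈ H)
    (huz : u ∉ Geo.scalars (Fin n) F) : ∃ y ∈ H, ∃ ε : F, Rel ε u y ∧ IsPrimitiveRoot ε r := by
  obtain ⟨y, hy, hne⟩ : ∃ y ∈ H, u * y ≠ y * u := by
    by_contra! hno
    exact huz (hH.cent u hno)
  obtain ⟨ε, hε⟩ := exists_rel (hH.comm u hu y hy)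
  refine ⟨y, hy, ε, hε, primRoot_of_pow hH.prime (hε.pow_eq_one hH.pos ?_) ?_⟩
  · exact scalar_comm (hH.pow u hu) y
  · rintro rfl
    exact hne hε.comm

theorem Sympl.dvd (hH : Sympl r H) : r ∣ n := by
  obtain ⟨a, ha, haz⟩ := hH.nontriv
  obtain ⟨y, -, ε, hε, hp⟩ := hH.exists_root ha haz
  exact hp.dvd_of_pow_eq_one n hε.pow_card_eq_one

theorem Sympl.eigen_le (hH : Sympl r H) {u : GL (Fin n) F} (hu : u ∈ H)
    (huz : u ∉ Geo.scalars (Fin n) F) {a : F} (ha : a ≠ 0) :
    r * finrank F (Module.End.eigenspace (lin u) a) ≤ n := by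
  obtain ⟨y, -, ε, hε, hp⟩ := hH.exists_root hu huz
  exact mul_finrank_eigen_le hp hε ha

theorem Sympl.cl (hH : Sympl r H) {a b c : GL (Fin n) F} (hb : b ∈ H) (hc : c ∈ H) :
    ⁅a * b, c⁆ = ⁅a, c⁆ * ⁅b, c⁆ := by
  have h : ⁅a * b, c⁆ = a * ⁅b, c⁆ * a⁻¹ * ⁅a, c⁆ := by simp only [commutatorElement_def]; group
  rw [h, ← scalar_comm (hH.comm b hb c hc) a, mul_inv_cancel_right,
    scalar_comm (hH.comm b hb c hc)]

theorem Sympl.cr (hH : Sympl r H) {a b c : GL (Fin n) F} (ha : a ∈ H) (hc : c ∈ H) :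
    ⁅a, b * c⁆ = ⁅a, b⁆ * ⁅a, c⁆ := by
  have h : ⁅a, b * c⁆ = ⁅a, b⁆ * (b * ⁅a, c⁆ * b⁻¹) := by simp only [commutatorElement_def]; group
  rw [h, ← scalar_comm (hH.comm a ha c hc) b, mul_inv_cancel_right]

theorem scalar_comm_left {z : GL (Fin n) F} (hz : z ∈ Geo.scalars (Fin n) F) (a b : GL (Fin n) F) :
    ⁅z * a, b⁆ = ⁅a, b⁆ ∧ ⁅a, z * b⁆ = ⁅a, b⁆ := by
  constructor
  · have h : ⁅z * a, b⁆ = z * ⁅a, b⁆ * z⁻¹ * (z * b * z⁻¹ * b⁻¹) := by
      simp only [commutatorElement_def]; group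
    rw [h, scalar_comm hz ⁅a, b⁆, mul_inv_cancel_right, scalar_comm hz b, mul_inv_cancel_right,
      mul_inv_cancel, mul_one]
  · have h : ⁅a, z * b⁆ = a * z * a⁻¹ * z⁻¹ * (z * ⁅a, b⁆ * z⁻¹) := by
      simp only [commutatorElement_def]; group
    rw [h, ← scalar_comm hz a, mul_inv_cancel_right, mul_inv_cancel, one_mul,
      scalar_comm hz ⁅a, b⁆, mul_inv_cancel_right]

variable {g : GL (Fin n) F}

theorem eigen_inv {c : F} (hc : c ≠ 0) {w : Fin n → F} (hw : lin g w = c • w) :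
    lin g⁻¹ w = c⁻¹ • w := by
  apply lin_injective g
  rw [← lin_mul, mul_inv_cancel, lin_one, map_smul, hw, smul_smul, inv_mul_cancel₀ hc, one_smul]

theorem two_mul_finrank_le {c : F} (x : GL (Fin n) F) {S : ℕ}
    (hS : finrank F (Module.End.eigenspace (lin g) c ⊓
      (Module.End.eigenspace (lin g) c).map (lin x) : Submodule F (Fin n → F)) ≤ S) :
    2 * finrank F (Module.End.eigenspace (lin g) c) ≤ n + S := by
  have h := Submodule.finrank_sup_add_finrank_inf_eq (Module.End.eigenspace (lin g) c)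
    ((Module.End.eigenspace (lin g) c).map (lin x))
  have he := ((Module.End.eigenspace (lin g) c).equivMapOfInjective _ (lin_injective x)).finrank_eq
  have hn : finrank F (Module.End.eigenspace (lin g) c ⊔
      (Module.End.eigenspace (lin g) c).map (lin x) : Submodule F (Fin n → F)) ≤ n :=
    (Submodule.finrank_le _).trans (finrank_fin_fun (R := F)).le
  omega

theorem inter_le_fixed {c : F} (hc : c ≠ 0) (x : GL (Fin n) F) {v : Fin n → F}
    (hv : v ∈ Module.End.eigenspace (lin g) c ⊓ (Module.End.eigenspace (lin g) c).map (lin x)) :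
    lin g v = c • v ∧ lin ⁅g, x⁆ v = v ∧ lin (g * ⁅g, x⁆ * g⁻¹) v = v := by
  obtain ⟨hv1, w, hw, rfl⟩ := hv
  rw [SetLike.mem_coe, Module.End.mem_eigenspace_iff] at hv1 hw
  have h1 : lin ⁅g, x⁆ (lin x w) = lin x w := by
    rw [← lin_mul, commutatorElement_def, inv_mul_cancel_right, lin_mul, lin_mul,
      eigen_inv hc hw, map_smul, map_smul, hv1, smul_smul, inv_mul_cancel₀ hc, one_smul]
  refine ⟨hv1, h1, ?_⟩
  rw [lin_mul, lin_mul, eigen_inv hc hv1, map_smul, map_smul, h1, hv1, smul_smul,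
    inv_mul_cancel₀ hc, one_smul]

theorem inter_eq_bot {c : F} (hc : c ≠ 0) (x : GL (Fin n) F) {ε : F}
    (hε : Rel ε ⁅g, x⁆ (g * ⁅g, x⁆ * g⁻¹)) (h1 : ε ≠ 1) :
    Module.End.eigenspace (lin g) c ⊓ (Module.End.eigenspace (lin g) c).map (lin x) = ⊥ := by
  refine (Submodule.eq_bot_iff _).2 fun v hv => ?_
  obtain ⟨-, hu, hu'⟩ := inter_le_fixed hc x hv
  have h := hε.apply v
  rw [hu', hu, hu'] at h
  by_contra hv0
  exact h1 (smul_left_injective F hv0 (by simp only [one_smul]; exact h.symm))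

theorem shift_pow {Q : Type*} [Group Q] {γ w a : Q} (ha : γ * w = a * w * γ) (hγa : Commute γ a)
    (k : ℕ) : γ ^ k * w = a ^ k * w * γ ^ k := by
  induction k with
  | zero => simp
  | succ k ih =>
    rw [pow_succ' γ k, mul_assoc, ih, ← mul_assoc, ← mul_assoc, (hγa.pow_right k).eq,
      mul_assoc (a ^ k) γ w, ha, pow_succ a k]
    simp only [mul_assoc]

theorem eq_one_of_shift {Q : Type*} [Group Q] {γ w a : Q} (ha : γ * w = a * w * γ)
    (hγa : Commute γ a) (hγ : γ ^ ϖ = 1) (hpow : a ^ r = 1) (hco : Nat.Coprime ϖ r) : a = 1 := by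
  have h := shift_pow ha hγa ϖ
  rw [hγ, one_mul, mul_one, eq_comm, mul_eq_right] at h
  have := pow_gcd_eq_one.2 ⟨h, hpow⟩
  rwa [hco.gcd_eq_one, pow_one] at this

theorem polar (hH : Sympl r H) (hg : ∀ a ∈ H, g * a * g⁻¹ ∈ H) (hg' : ∀ a ∈ H, g⁻¹ * a * g ∈ H)
    (hall : ∀ x ∈ H, ⁅⁅g, x⁆, g * ⁅g, x⁆ * g⁻¹⁆ = 1) {y : GL (Fin n) F} (hy : y ∈ H) :
    let z := g * ⁅g, y⁆ * g⁻¹ * (g⁻¹ * ⁅g, y⁆ * g)⁻¹
    g⁻¹ * z * g * z⁻¹ ∈ Geo.scalars (Fin n) F := by
  intro z
  have hT : ∀ x ∈ H, ⁅g, x⁆ ∈ H := fun x hx => by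
    rw [commutatorElement_def]; exact H.mul_mem (hg x hx) (H.inv_mem hx)
  have hconj : ∀ a ∈ H, ∀ b ∈ H, ⁅g * a * g⁻¹, g * b * g⁻¹⁆ = ⁅a, b⁆ := fun a ha b hb => by
    rw [← conjugate_commutatorElement, ← scalar_comm (hH.comm a ha b hb) g, mul_inv_cancel_right]
  have hk : g * ⁅g, y⁆ * g⁻¹ ∈ H := hg _ (hT y hy)
  have hl : g⁻¹ * ⁅g, y⁆ * g ∈ H := hg' _ (hT y hy)
  have hz : z ∈ H := H.mul_mem hk (H.inv_mem hl)
  have hTz : ∀ x ∈ H, ⁅⁅g, x⁆, z⁆ = 1 := by
    intro x hx
    have hxy := hall (x * y) (H.mul_mem hx hy)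
    have hsplit : ⁅g, x * y⁆ = ⁅x, ⁅g, y⁆⁆ * (⁅g, x⁆ * ⁅g, y⁆) := by
      have h0 : ⁅g, x * y⁆ = ⁅g, x⁆ * (⁅x, ⁅g, y⁆⁆ * ⁅g, y⁆) := by
        simp only [commutatorElement_def]; group
      rw [h0, ← mul_assoc, ← scalar_comm (hH.comm x hx _ (hT y hy)), mul_assoc]
    have hsc := hH.comm x hx _ (hT y hy)
    have hgs : g * (⁅x, ⁅g, y⁆⁆ * (⁅g, x⁆ * ⁅g, y⁆)) * g⁻¹ =
        ⁅x, ⁅g, y⁆⁆ * ((g * ⁅g, x⁆ * g⁻¹) * (g * ⁅g, y⁆ * g⁻¹)) := by
      rw [← mul_assoc g, ← scalar_comm hsc g]; group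
    rw [hsplit, hgs, (scalar_comm_left hsc _ _).1, (scalar_comm_left hsc _ _).2,
      hH.cl (hT y hy) (H.mul_mem (hg _ (hT x hx)) hk), hH.cr (hT x hx) hk, hH.cr (hT y hy) hk,
      hall x hx, hall y hy, one_mul, mul_one] at hxy
    have hxl : ⁅⁅g, x⁆, g * ⁅g, y⁆ * g⁻¹⁆ = ⁅⁅g, x⁆, g⁻¹ * ⁅g, y⁆ * g⁆ := by
      rw [← hconj _ (hT x hx) _ hl, eq_inv_of_mul_eq_one_left hxy, commutatorElement_inv]
      congr 1
      group
    change ⁅⁅g, x⁆, g * ⁅g, y⁆ * g⁻¹ * (g⁻¹ * ⁅g, y⁆ * g)⁻¹⁆ = 1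
    rw [hH.cr (hT x hx) (H.inv_mem hl), hxl, ← hH.cr (hT x hx) (H.inv_mem hl), mul_inv_cancel,
      commutatorElement_one_right]
  refine hH.cent _ fun x hx => ?_
  have h2 : ⁅g * x * g⁻¹, z⁆ = ⁅x, z⁆ := by
    have h := hTz x hx
    rw [commutatorElement_def g x, hH.cl (H.inv_mem hx) hz] at h
    have h' : ⁅x, z⁆ * ⁅x⁻¹, z⁆ = 1 := by
      rw [← hH.cl (H.inv_mem hx) hz, mul_inv_cancel, commutatorElement_one_left]
    exact mul_right_cancel (h.trans h'.symm)
  have h3 : ⁅x, g⁻¹ * z * g⁆ = ⁅x, z⁆ := by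
    rw [← hconj x hx _ (hg' z hz), ← h2]
    congr 1
    group
  have h4 : ⁅x, g⁻¹ * z * g * z⁻¹⁆ = 1 := by
    rw [hH.cr hx (H.inv_mem hz), h3, ← hH.cr hx (H.inv_mem hz), mul_inv_cancel,
      commutatorElement_one_right]
  exact (commutatorElement_eq_one_iff_mul_comm.1 h4).symm

theorem comm_mem_of_coprime (hH : Sympl r H) (hg : ∀ a ∈ H, g * a * g⁻¹ ∈ H)
    (hg' : ∀ a ∈ H, g⁻¹ * a * g ∈ H) (hall : ∀ x ∈ H, ⁅⁅g, x⁆, g * ⁅g, x⁆ * g⁻¹⁆ = 1)
    (hgϖ : g ^ ϖ = 1) (hco : Nat.Coprime ϖ r) (hodd : Odd ϖ) {y : GL (Fin n) F} (hy : y ∈ H) :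
    ⁅g, y⁆ ∈ Geo.scalars (Fin n) F := by
  have hz := polar hH hg hg' hall hy
  simp only at hz
  have hT : ⁅g, y⁆ ∈ H := by
    rw [commutatorElement_def]; exact H.mul_mem (hg y hy) (H.inv_mem hy)
  have hzH : g * ⁅g, y⁆ * g⁻¹ * (g⁻¹ * ⁅g, y⁆ * g)⁻¹ ∈ H :=
    H.mul_mem (hg _ hT) (H.inv_mem (hg' _ hT))
  set π := QuotientGroup.mk' (Geo.scalars (Fin n) F)
  have hker : ∀ a, π a = 1 ↔ a ∈ Geo.scalars (Fin n) F := fun a => QuotientGroup.eq_one_iff a
  rw [← hker]
  have hz' := (hker _).2 hz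
  have hpz := (hker _).2 (hH.pow _ hzH)
  have hpt := (hker _).2 (hH.pow _ hT)
  simp only [map_mul, map_inv, map_pow] at hz' hpz hpt
  have hγ : π g ^ ϖ = 1 := by rw [← map_pow, hgϖ, map_one]
  have hty : π ⁅g, y⁆ * π y * π g = π g * π y := by
    rw [← map_mul, ← map_mul, ← map_mul, commutatorElement_def]; congr 1; group
  generalize π g = γ at *
  generalize π ⁅g, y⁆ = t at *
  generalize π y = py at *
  obtain ⟨a, ha_def⟩ : ∃ a, a = γ * t * γ⁻¹ * (γ⁻¹ * t * γ)⁻¹ := ⟨_, rfl⟩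
  rw [← ha_def] at hz' hpz
  have hca : Commute γ a := by
    have hh := mul_inv_eq_one.1 hz'
    exact (eq_inv_mul_iff_mul_eq.1 (by rw [← mul_assoc]; exact hh.symm))
  have hsq : γ ^ 2 * (γ⁻¹ * t * γ) = a * (γ⁻¹ * t * γ) * γ ^ 2 := by rw [ha_def]; group
  have ha1 : a = 1 := eq_one_of_shift hsq (hca.pow_left 2)
    (by rw [← pow_mul, mul_comm, pow_mul, hγ, one_pow]) hpz hco
  have hc2 : Commute (γ ^ 2) (γ⁻¹ * t * γ) := by
    rw [commute_iff_eq, hsq, ha1, one_mul]
  obtain ⟨j, hj⟩ := hodd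
  have hγ2 : (γ ^ 2) ^ (j + 1) = γ := by
    rw [← pow_mul, show 2 * (j + 1) = ϖ + 1 by omega, pow_succ, hγ, one_mul]
  have hcw : Commute γ (γ⁻¹ * t * γ) := by
    have h := hc2.pow_left (j + 1)
    rwa [hγ2] at h
  have hct : Commute γ t := by
    have h : t * γ = γ⁻¹ * t * γ * γ := by simpa [mul_assoc] using hcw.eq
    calc γ * t = γ * (t * γ) * γ⁻¹ := by group
      _ = γ * (γ⁻¹ * t * γ * γ) * γ⁻¹ := by rw [← h]
      _ = t * γ := by group
  exact eq_one_of_shift hty.symm hct hγ hpt hco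

end Group

section Main

variable {F : Type*} [Field F] [Fintype F] {n r ϖ : ℕ} {H : Subgroup (GL (Fin n) F)}
  {g : GL (Fin n) F}

theorem exists_iterate (hH : Sympl r H) (hg : ∀ a ∈ H, g * a * g⁻¹ ∈ H)
    (hg' : ∀ a ∈ H, g⁻¹ * a * g ∈ H) (hgr : g ^ r = 1) {x : GL (Fin n) F} (hx : x ∈ H) :
    ∃ k, (fun z => ⁅g, z⁆)^[k] x ∈ Geo.scalars (Fin n) F := by
  classical
  have : Fact r.Prime := ⟨hH.prime⟩
  have hfin : Finite (GL (Fin n) F) := inferInstance
  let π := QuotientGroup.mk' (Geo.scalars (Fin n) F)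
  have hA : IsPGroup r (H.map π) := by
    rintro ⟨_, a, ha, rfl⟩
    refine ⟨1, Subtype.ext ?_⟩
    rw [SubmonoidClass.coe_pow, pow_one]
    change π a ^ r = 1
    rw [← map_pow]
    exact (QuotientGroup.eq_one_iff _).2 (hH.pow a ha)
  have hK : IsPGroup r (Subgroup.zpowers (π g)) := by
    rintro ⟨_, k, rfl⟩
    refine ⟨1, Subtype.ext ?_⟩
    rw [SubmonoidClass.coe_pow, pow_one]
    change (π g ^ k) ^ r = 1
    rw [← zpow_natCast (π g ^ k), ← _root_.zpow_mul, mul_comm, _root_.zpow_mul, zpow_natCast,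
      ← map_pow, hgr, map_one, _root_.one_zpow]
  have hnorm : Subgroup.zpowers (π g) ≤ Subgroup.normalizer (H.map π) := by
    rw [Subgroup.zpowers_le, Subgroup.mem_normalizer_iff]
    intro q
    constructor
    · rintro ⟨a, ha, rfl⟩
      exact ⟨g * a * g⁻¹, hg a ha, by simp⟩
    · rintro ⟨a, ha, he⟩
      refine ⟨g⁻¹ * a * g, hg' a ha, ?_⟩
      rw [map_mul, map_mul, map_inv, he]
      group
  have hP := IsPGroup.to_sup_of_normal_left' hA hK hnorm
  have : Group.IsNilpotent (H.map π ⊔ Subgroup.zpowers (π g) : Subgroup _) := hP.isNilpotent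
  obtain ⟨k, hk⟩ := Subgroup.nilpotent_iff_lowerCentralSeries.1 this
  refine ⟨k, ?_⟩
  have hstep : ∀ j, ∃ q ∈ (⊤ : Subgroup (H.map π ⊔ Subgroup.zpowers (π g) :
      Subgroup (GL (Fin n) F ⧸ Geo.scalars (Fin n) F))).lowerCentralSeries j,
      (q : GL (Fin n) F ⧸ Geo.scalars (Fin n) F) = π ((fun z => ⁅g, z⁆)^[j] x) := by
    intro j
    induction j with
    | zero => exact ⟨⟨π x, Subgroup.mem_sup_left ⟨x, hx, rfl⟩⟩, trivial, rfl⟩
    | succ j ih =>
      obtain ⟨q, hq, hqe⟩ := ih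
      let γ : (H.map π ⊔ Subgroup.zpowers (π g) : Subgroup (GL (Fin n) F ⧸ Geo.scalars (Fin n) F)) :=
        ⟨π g, Subgroup.mem_sup_right (Subgroup.mem_zpowers _)⟩
      refine ⟨⁅γ, q⁆, ?_, ?_⟩
      · rw [Subgroup.lowerCentralSeries_succ, Subgroup.commutator_comm]
        exact Subgroup.commutator_mem_commutator trivial hq
      · rw [Function.iterate_succ', Function.comp_apply, map_commutatorElement, ← hqe]
        rfl
  obtain ⟨q, hq, hqe⟩ := hstep k
  rw [hk, Subgroup.mem_bot] at hq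
  exact (QuotientGroup.eq_one_iff _).1 (by rw [hq] at hqe; exact hqe.symm)

theorem scaled_bound (hH : Sympl r H) (hgr : g ^ r = 1) {x : GL (Fin n) F} (hx : x ∈ H)
    (hu : ⁅g, x⁆ ∈ H) (huz : ⁅g, x⁆ ∉ Geo.scalars (Fin n) F)
    (hgu : g * ⁅g, x⁆ = ⁅g, x⁆ * g) (hodd : Odd r) {c : F} (hc : c ≠ 0) :
    r * finrank F (Module.End.eigenspace (lin g) c) ≤ 2 * n := by
  classical
  have hr := hH.prime
  have hxu : x * g * x⁻¹ = ⁅g, x⁆⁻¹ * g := by rw [commutatorElement_def]; group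
  have hur : ⁅g, x⁆ ^ r = 1 := by
    have h1 : (x * g * x⁻¹) ^ r = 1 := by rw [conj_pow, hgr, mul_one, mul_inv_cancel]
    rw [hxu, ((show Commute g ⁅g, x⁆ from hgu).symm.inv_left).mul_pow, hgr, mul_one, inv_pow,
      inv_eq_one] at h1
    exact h1
  obtain ⟨δ, hδ⟩ := exists_rel (hH.comm _ hu x hx)
  have hδr : δ ^ r = 1 := hδ.pow_eq_one hH.pos (scalar_comm (hH.pow _ hu) x)
  have hUr := lin_pow_eq_one hur
  have hgx : g * x = ⁅g, x⁆ * (x * g) := by rw [commutatorElement_def]; group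
  have hiter : ∀ i : ℕ, ∀ θ a : F, ∀ v, lin ⁅g, x⁆ v = θ • v → lin g v = a • v →
      ∃ q, 2 * q = i * (i + 1) ∧ lin ⁅g, x⁆ (lin (x ^ i) v) = (θ * δ ^ i) • lin (x ^ i) v ∧
        lin g (lin (x ^ i) v) = (a * θ ^ i * δ ^ q) • lin (x ^ i) v := by
    intro i
    induction i with
    | zero => intro θ a v h1 h2; exact ⟨0, by simp, by simpa [lin_one] using h1,
        by simpa [lin_one] using h2⟩
    | succ i ih =>
      intro θ a v h1 h2
      obtain ⟨q, hq, hu', hg'⟩ := ih θ a v h1 h2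
      refine ⟨q + i + 1, by rw [add_mul, mul_add, mul_add, one_mul]; linarith, ?_, ?_⟩
      · rw [pow_succ' x i, lin_mul, hδ.mapsTo _ hu']
        congr 1
        ring
      · rw [pow_succ' x i, lin_mul, ← lin_mul, hgx, lin_mul, lin_mul, hg', map_smul, map_smul,
          hδ.mapsTo _ hu', smul_smul]
        congr 1
        ring
  obtain ⟨y, -, ζ, -, hζ⟩ := hH.exists_root hu huz
  have hE : ∀ v ∈ Module.End.eigenspace (lin g) c, lin ⁅g, x⁆ v ∈ Module.End.eigenspace (lin g) c := by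
    intro v hv
    rw [Module.End.mem_eigenspace_iff] at hv ⊢
    rw [← lin_mul, hgu, lin_mul, hv, map_smul]
  have hF : ∀ a : F, a ≠ 0 → r * finrank F (Module.End.eigenspace (lin ⁅g, x⁆) a) ≤ n :=
    fun a ha => hH.eigen_le hu huz ha
  by_cases hδ1 : δ = 1
  · subst hδ1
    have hsum := finrank_le_sum_eigen (lin ⁅g, x⁆) hUr hζ hr.pos _ hE
    have hm : ∀ m ∈ Finset.range r, r * (r * finrank F (Module.End.eigenspace (lin g) c ⊓
        Module.End.eigenspace (lin ⁅g, x⁆) (ζ ^ m) : Submodule F (Fin n → F))) ≤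
        (if m = 0 then r * n else n) := by
      intro m hm
      have hθ : ζ ^ m ≠ 0 := pow_ne_zero _ (hζ.ne_zero hr.ne_zero)
      split_ifs with h0
      · exact Nat.mul_le_mul_left _ ((Nat.mul_le_mul_left _ (Submodule.finrank_mono inf_le_right)).trans
          (hF _ hθ))
      · have hθ' : IsPrimitiveRoot (ζ ^ m) r := primRoot_of_pow hr
          (by rw [← pow_mul, mul_comm, pow_mul, hζ.pow_eq_one, one_pow])
          (hζ.pow_ne_one_of_pos_of_lt h0 (Finset.mem_range.1 hm))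
        have hs := sum_finrank_le (lin g) (Finset.range r) (fun i => c * (ζ ^ m) ^ i)
          (fun i hi j hj he => hθ'.pow_inj (Finset.mem_range.1 hi) (Finset.mem_range.1 hj)
            (mul_left_cancel₀ hc he))
          (Module.End.eigenspace (lin ⁅g, x⁆) (ζ ^ m))
          (fun i => (Module.End.eigenspace (lin g) c ⊓
            Module.End.eigenspace (lin ⁅g, x⁆) (ζ ^ m)).map (lin (x ^ i))) ?_
        · have he : ∀ i : ℕ, finrank F ((Module.End.eigenspace (lin g) c ⊓
              Module.End.eigenspace (lin ⁅g, x⁆) (ζ ^ m)).map (lin (x ^ i))) =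
              finrank F (Module.End.eigenspace (lin g) c ⊓
                Module.End.eigenspace (lin ⁅g, x⁆) (ζ ^ m) : Submodule F (Fin n → F)) := fun i =>
            (Submodule.equivMapOfInjective _ (lin_injective (x ^ i)) _).finrank_eq.symm
          simp only [he, Finset.sum_const, Finset.card_range, smul_eq_mul] at hs
          exact (Nat.mul_le_mul_left _ hs).trans (hF _ hθ)
        · rintro i - w ⟨v, ⟨hv1, hv2⟩, rfl⟩
          rw [SetLike.mem_coe, Module.End.mem_eigenspace_iff] at hv1 hv2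
          obtain ⟨q, -, hu', hg'⟩ := hiter i _ _ v hv2 hv1
          rw [one_pow, mul_one] at hu' hg'
          exact ⟨Module.End.mem_eigenspace_iff.2 hg', Module.End.mem_eigenspace_iff.2 hu'⟩
    have hrr : r * (r * finrank F (Module.End.eigenspace (lin g) c)) ≤ r * n + r * n := by
      refine (Nat.mul_le_mul_left r (Nat.mul_le_mul_left r hsum)).trans ?_
      rw [Finset.mul_sum, Finset.mul_sum]
      refine (Finset.sum_le_sum hm).trans ?_
      refine (Finset.sum_le_sum (g := fun m => (if m = 0 then r * n else 0) + n) fun m _ => ?_).trans ?_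
      · by_cases h : m = 0 <;> simp [h]
      · rw [Finset.sum_add_distrib, Finset.sum_ite_eq', if_pos (Finset.mem_range.2 hr.pos),
          Finset.sum_const, Finset.card_range, smul_eq_mul]
    rw [← mul_add, ← two_mul] at hrr
    exact Nat.le_of_mul_le_mul_left hrr hr.pos
  · have hδp : IsPrimitiveRoot δ r := primRoot_of_pow hr hδr hδ1
    have hδ0 : δ ≠ 0 := hδp.ne_zero hr.ne_zero
    obtain ⟨s, hs⟩ := hodd
    have hs' : (δ ^ s)⁻¹ ^ r = 1 := by
      rw [inv_pow, ← pow_mul, mul_comm, pow_mul, hδr, one_pow, inv_one]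
    have hUr' : ((δ ^ s)⁻¹ • lin ⁅g, x⁆) ^ r = 1 := by
      rw [_root_.smul_pow, hUr, hs', one_smul]
    have hE' : ∀ v ∈ Module.End.eigenspace (lin g) c,
        ((δ ^ s)⁻¹ • lin ⁅g, x⁆) v ∈ Module.End.eigenspace (lin g) c :=
      fun v hv => Submodule.smul_mem _ _ (hE v hv)
    have hsum := finrank_le_sum_eigen _ hUr' hδp.inv hr.pos _ hE'
    let p : ℕ → Submodule F (Fin n → F) := fun i => (Module.End.eigenspace (lin g) c ⊓
      Module.End.eigenspace ((δ ^ s)⁻¹ • lin ⁅g, x⁆) (δ⁻¹ ^ i)).map (lin (x ^ i))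
    let μ : ℕ → F := fun i => c * (δ ^ s * δ⁻¹ ^ i) ^ i * δ ^ (i * (i + 1) / 2)
    have hp : ∀ i, p i ≤ Module.End.eigenspace (lin g) (μ i) ⊓
        Module.End.eigenspace (lin ⁅g, x⁆) (δ ^ s) := by
      rintro i _ ⟨v, ⟨hv1, hv2⟩, rfl⟩
      rw [SetLike.mem_coe, Module.End.mem_eigenspace_iff] at hv1 hv2
      have hv2' : lin ⁅g, x⁆ v = (δ ^ s * δ⁻¹ ^ i) • v := by
        rw [mul_smul, ← hv2, LinearMap.smul_apply, smul_smul, mul_inv_cancel₀ (pow_ne_zero _ hδ0),
          one_smul]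
      obtain ⟨q, hq, hu', hg'⟩ := hiter i _ _ v hv2' hv1
      refine ⟨Module.End.mem_eigenspace_iff.2 ?_, Module.End.mem_eigenspace_iff.2 ?_⟩
      · simp only [μ]
        rw [hg', show i * (i + 1) / 2 = q by omega]
      · rw [hu', mul_assoc, ← mul_pow, inv_mul_cancel₀ hδ0, one_pow, mul_one]
    have hsq : ∀ i, μ i ^ 2 * δ ^ (i * i) = c ^ 2 := by
      intro i
      obtain ⟨q, hq⟩ : ∃ q, i * (i + 1) = 2 * q := (Nat.even_mul_succ_self i).two_dvd
      have h1 : δ ^ (2 * s * i + 2 * q + i * i) = δ ^ (2 * (i * i)) := by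
        rw [← hq, show 2 * s * i + i * (i + 1) + i * i = r * i + 2 * (i * i) by rw [hs]; ring,
          pow_add, pow_mul, hδr, one_pow, one_mul]
      simp only [μ]
      rw [show i * (i + 1) / 2 = q by omega]
      calc (c * (δ ^ s * δ⁻¹ ^ i) ^ i * δ ^ q) ^ 2 * δ ^ (i * i)
          = c ^ 2 * (δ⁻¹ ^ (2 * (i * i)) * δ ^ (2 * s * i + 2 * q + i * i)) := by ring
        _ = c ^ 2 := by rw [h1, ← mul_pow, inv_mul_cancel₀ hδ0, one_pow, mul_one]
    have hinj : ∀ S : Finset ℕ, S ⊆ Finset.range r →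
        (∀ i ∈ S, ∀ j ∈ S, i < j → ¬ r ∣ i + j) → Set.InjOn μ S := by
      intro S hS hno
      have key : ∀ i ∈ S, ∀ j ∈ S, i < j → μ i ≠ μ j := by
        intro i hi j hj hij he
        have h := hsq i
        rw [he, ← hsq j] at h
        have hμ0 : μ j ^ 2 ≠ 0 := by
          intro h0
          have := hsq j
          rw [h0, zero_mul] at this
          exact pow_ne_zero 2 hc this.symm
        have h' : δ ^ (j * j - i * i) = 1 := by
          have h'' := mul_left_cancel₀ hμ0 h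
          have hle : i * i ≤ j * j := Nat.mul_le_mul hij.le hij.le
          rw [← Nat.add_sub_cancel' hle, pow_add] at h''
          exact (mul_right_eq_self₀.1 h''.symm).resolve_right (pow_ne_zero _ hδ0)
        have hd := hδp.dvd_of_pow_eq_one _ h'
        rw [show j * j - i * i = (j + i) * (j - i) by rw [Nat.mul_self_sub_mul_self_eq]] at hd
        rcases hr.dvd_mul.1 hd with hd | hd
        · exact hno i hi j hj hij (by rwa [add_comm])
        · have := Nat.le_of_dvd (by omega) hd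
          have := Finset.mem_range.1 (hS hj)
          omega
      intro i hi j hj he
      rcases lt_trichotomy i j with h | h | h
      · exact absurd he (key i hi j hj h)
      · exact h
      · exact absurd he.symm (key j hj i hi h)
    have hb1 := sum_finrank_le (lin g) (Finset.range (s + 1)) μ
      (hinj _ (Finset.range_subset_range.2 (by omega)) (fun i hi j hj hij hd => by
        have := Nat.le_of_dvd (by omega) hd
        simp only [Finset.mem_range] at hi hj
        omega)) _ p (fun i _ => hp i)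
    have hb2 := sum_finrank_le (lin g) (Finset.Ico (s + 1) r) μ
      (hinj _ (fun i hi => Finset.mem_range.2 (Finset.mem_Ico.1 hi).2) (fun i hi j hj hij hd => by
        simp only [Finset.mem_Ico] at hi hj
        obtain ⟨k, hk⟩ := hd
        rcases k with _ | _ | k
        · omega
        · omega
        · have : r * 2 ≤ r * (k + 1 + 1) := Nat.mul_le_mul_left _ (by omega)
          omega)) _ p (fun i _ => hp i)
    have hd : finrank F (Module.End.eigenspace (lin g) c) ≤ ∑ i ∈ Finset.range r, finrank F (p i) := by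
      refine hsum.trans (Finset.sum_le_sum fun i _ => ?_)
      exact (Submodule.equivMapOfInjective _ (lin_injective (x ^ i)) _).finrank_eq.le
    rw [← Finset.sum_range_add_sum_Ico _ (show s + 1 ≤ r by omega)] at hd
    have hf := hF _ (pow_ne_zero s hδ0)
    have := Nat.mul_le_mul_left r (hd.trans (Nat.add_le_add hb1 hb2))
    rw [mul_add] at this
    omega

theorem eigen_bounds (hH : Sympl r H) (hg : ∀ a ∈ H, g * a * g⁻¹ ∈ H)
    (hg' : ∀ a ∈ H, g⁻¹ * a * g ∈ H) (hϖ : ϖ.Prime) (hgϖ : g ^ ϖ = 1)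
    (hns : g ∉ Geo.scalars (Fin n) F) (c : F) :
    4 * finrank F (Module.End.eigenspace (lin g) c) ≤ 3 * n ∧
    (ϖ ≠ 2 → 2 * finrank F (Module.End.eigenspace (lin g) c) ≤ n ∨
      (r = 3 ∧ ϖ = 3 ∧ 3 * finrank F (Module.End.eigenspace (lin g) c) ≤ 2 * n)) := by
  classical
  have hr := hH.prime
  have hr2 := hr.two_le
  rcases eq_or_ne c 0 with rfl | hc
  · have h0 : Module.End.eigenspace (lin g) (0 : F) = ⊥ := by
      rw [Submodule.eq_bot_iff]
      intro v hv
      rw [Module.End.mem_eigenspace_iff, zero_smul] at hv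
      exact lin_injective g (by rw [hv, map_zero])
    rw [h0, finrank_bot]
    omega
  generalize hd : finrank F (Module.End.eigenspace (lin g) c) = d
  have hfin : r * d ≤ 2 * n → 5 ≤ r → 2 * d ≤ n := fun h h5 => by
    have := Nat.mul_le_mul_right d h5
    omega
  by_cases hB : ∀ x ∈ H, ⁅g, x⁆ ∈ Geo.scalars (Fin n) F
  · obtain ⟨x, hx, hne⟩ : ∃ x ∈ H, g * x ≠ x * g := by
      by_contra! hno
      exact hns (hH.cent g hno)
    obtain ⟨ε, hε⟩ := exists_rel (hB x hx)
    have hεϖ : ε ^ ϖ = 1 := hε.pow_eq_one hH.pos (by rw [hgϖ, one_mul, mul_one])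
    have hε1 : ε ≠ 1 := fun h => hne (h ▸ hε).comm
    have hp := primRoot_of_pow hϖ hεϖ hε1
    have h := mul_finrank_eigen_le hp hε hc
    rw [hd] at h
    have := Nat.mul_le_mul_right d hϖ.two_le
    exact ⟨by omega, fun _ => Or.inl (by omega)⟩
  push_neg at hB
  obtain ⟨x, hx, huz⟩ := hB
  have hT : ∀ a ∈ H, ⁅g, a⁆ ∈ H := fun a ha => by
    rw [commutatorElement_def]; exact H.mul_mem (hg a ha) (H.inv_mem ha)
  have hle : finrank F (Module.End.eigenspace (lin g) c ⊓
      (Module.End.eigenspace (lin g) c).map (lin x) : Submodule F (Fin n → F)) ≤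
      finrank F (Module.End.eigenspace (lin ⁅g, x⁆) 1) :=
    Submodule.finrank_mono fun v hv => Module.End.mem_eigenspace_iff.2
      (by rw [one_smul]; exact (inter_le_fixed hc x hv).2.1)
  have h1 := hH.eigen_le (hT x hx) huz (one_ne_zero (α := F))
  have hA := two_mul_finrank_le x hle
  rw [hd] at hA
  have h4 : 4 * d ≤ 3 * n := by
    have := Nat.mul_le_mul_right (finrank F (Module.End.eigenspace (lin ⁅g, x⁆) 1)) hr2
    omega
  refine ⟨h4, fun hne2 => ?_⟩
  have hodd : Odd ϖ := hϖ.odd_of_ne_two hne2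
  by_cases h33 : r = 3 ∧ ϖ = 3
  · obtain ⟨rfl, rfl⟩ := h33
    exact Or.inr ⟨rfl, rfl, by omega⟩
  refine Or.inl ?_
  by_cases hall : ∀ a ∈ H, ⁅⁅g, a⁆, g * ⁅g, a⁆ * g⁻¹⁆ = 1
  swap
  · push_neg at hall
    obtain ⟨a, ha, hne⟩ := hall
    obtain ⟨ε, hε⟩ := exists_rel (hH.comm _ (hT a ha) _ (hg _ (hT a ha)))
    have hε1 : ε ≠ 1 := fun h => hne (commutatorElement_eq_one_iff_mul_comm.2 (h ▸ hε).comm)
    have h := two_mul_finrank_le (g := g) (c := c) a (S := 0)
      (by rw [inter_eq_bot hc a hε hε1, finrank_bot])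
    omega
  by_cases hrϖ : r = ϖ
  swap
  · exact absurd (comm_mem_of_coprime hH hg hg' hall hgϖ
      ((Nat.coprime_primes hϖ hr).2 (Ne.symm hrϖ)) hodd hx) huz
  subst hrϖ
  have h5 : 5 ≤ r := by
    by_contra hlt
    interval_cases r
    all_goals first | omega | exact h33 ⟨rfl, rfl⟩ | exact absurd hr (by norm_num)
  have hex := exists_iterate hH hg hg' hgϖ hx
  obtain ⟨m, hm, hmin⟩ : ∃ m, (fun z => ⁅g, z⁆)^[m] x ∈ Geo.scalars (Fin n) F ∧
      ∀ j < m, (fun z => ⁅g, z⁆)^[j] x ∉ Geo.scalars (Fin n) F :=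
    ⟨Nat.find hex, Nat.find_spec hex, fun j hj => Nat.find_min hex hj⟩
  have hitH : ∀ j, (fun z => ⁅g, z⁆)^[j] x ∈ H := by
    intro j
    induction j with
    | zero => exact hx
    | succ j ih => rw [Function.iterate_succ', Function.comp_apply]; exact hT _ ih
  obtain ⟨k, rfl⟩ : ∃ k, m = k + 2 := by
    refine ⟨m - 2, ?_⟩
    rcases m with _ | _ | m
    · exfalso
      refine huz ?_
      rw [(commutatorElement_eq_one_iff_mul_comm).2 (scalar_comm (show x ∈ _ from hm) g).symm]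
      exact one_mem _
    · exact absurd hm huz
    · omega
  have hwz := hmin (k + 1) (by omega)
  rw [Function.iterate_succ', Function.comp_apply] at hwz
  rw [Function.iterate_succ', Function.comp_apply, Function.iterate_succ', Function.comp_apply] at hm
  generalize hw : (fun z => ⁅g, z⁆)^[k] x = w at hwz hm
  have hwH : w ∈ H := hw ▸ hitH k
  clear hw hmin
  obtain ⟨ε, hε⟩ := exists_rel hm
  have hεr : ε ^ r = 1 := hε.pow_eq_one hH.pos (by rw [hgϖ, one_mul, mul_one])
  rcases ne_or_eq ε 1 with hε1 | rfl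
  · have h := mul_finrank_eigen_le (primRoot_of_pow hr hεr hε1) hε hc
    rw [hd] at h
    exact hfin (by omega) h5
  · have h := scaled_bound hH hgϖ hwH (hT w hwH) hwz hε.comm hodd hc
    rw [hd] at h
    exact hfin h h5

end Main

end Cfsg.Agent.Classical.ExtraspecialEigen
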