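import Mathlib
import Cfsg.Prelude.Def_GeometricClasses

/-! Elements of the normaliser of an embedded extension field of prime degree. -/

set_option autoImplicit false
set_option linter.unusedSectionVars false

namespace Cfsg.Agent.FieldExtNormalizer

open Matrix Module

variable {F : Type*} [Field F] {ι : Type} [Fintype ι] [DecidableEq ι] {k : ℕ}
  {K : Subalgebra F (Matrix ι ι F)}

local notation "V" => (ι → F)
local notation "Mn" => Matrix ι ι F

/-- The field structure. -/
@[reducible]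
noncomputable def fieldOf (hK : Geo.IsFieldSubalgebra k K) (hk : 0 < k) : Field ↥K :=
  @IsField.toField K (inferInstance : Ring K)
    { exists_pair_ne := by
        haveI : Module.Finite F ↥K := Module.finite_of_finrank_pos (by rw [hK.finrank_eq]; exact hk)
        haveI : Nontrivial ↥K := Module.nontrivial_of_finrank_pos (R := F) (by rw [hK.finrank_eq]; exact hk)
        exact exists_pair_ne _
      mul_comm := fun a b => Subtype.ext (hK.comm a a.2 b b.2)
      mul_inv_cancel := fun {a} ha => by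
        obtain ⟨y, hy, hay⟩ := hK.inv a a.2 (fun h => ha (Subtype.ext h))
        exact ⟨⟨y, hy⟩, Subtype.ext hay⟩ }

theorem eq_zero_of_mem (hK : Geo.IsFieldSubalgebra k K) {a : Mn} (ha : a ∈ K) (ha0 : a ≠ 0) {v : V}
    (hv : a *ᵥ v = 0) : v = 0 := by
  obtain ⟨b, hb, hab⟩ := hK.inv a ha ha0
  rw [← Matrix.one_mulVec v, ← hab, hK.comm a ha b hb, ← Matrix.mulVec_mulVec, hv, Matrix.mulVec_zero]

set_option synthInstance.maxHeartbeats 200000 in
/-- The degree divides the dimension of an invariant subspace. -/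
theorem dvd_finrank (hK : Geo.IsFieldSubalgebra k K) (hk : 0 < k) (W : Submodule F V)
    (hW : ∀ a ∈ K, ∀ w ∈ W, a *ᵥ w ∈ W) : k ∣ finrank F W := by
  letI : Field ↥K := fieldOf hK hk
  letI : Module ↥K V :=
    { smul := fun a v => (a : Mn) *ᵥ v
      one_smul := fun v => Matrix.one_mulVec v
      mul_smul := fun a b v => (Matrix.mulVec_mulVec v (a : Mn) (b : Mn)).symm
      smul_zero := fun a => Matrix.mulVec_zero _
      smul_add := fun a u v => Matrix.mulVec_add _ u v
      add_smul := fun a b v => Matrix.add_mulVec _ _ v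
      zero_smul := fun v => Matrix.zero_mulVec v }
  let W' : Submodule ↥K V :=
    { carrier := W
      add_mem' := W.add_mem
      zero_mem' := W.zero_mem
      smul_mem' := fun a v hv => hW a a.2 v hv }
  haveI : IsScalarTower F ↥K W' := ⟨fun c a x => Subtype.ext (Matrix.smul_mulVec c (a : Mn) x.1)⟩
  have h := Module.finrank_mul_finrank F ↥K W'
  rw [hK.finrank_eq] at h
  have e : finrank F W' = finrank F W :=
    LinearEquiv.finrank_eq
      ({ toFun := fun x => ⟨x.1, x.2⟩
         invFun := fun x => ⟨x.1, x.2⟩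
         map_add' := fun _ _ => rfl
         map_smul' := fun _ _ => rfl
         left_inv := fun _ => rfl
         right_inv := fun _ => rfl } : W' ≃ₗ[F] W)
  exact ⟨_, e ▸ h.symm⟩

/-- The kernel of `g - c` as a subspace. -/
def eig (g : Mn) (c : F) : Submodule F V := LinearMap.ker (Matrix.toLin' (g - c • 1))

theorem mem_eig {g : Mn} {c : F} {v : V} : v ∈ eig g c ↔ g *ᵥ v = c • v := by
  rw [eig, LinearMap.mem_ker, Matrix.toLin'_apply, Matrix.sub_mulVec, Matrix.smul_mulVec, Matrix.one_mulVec, sub_eq_zero]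

theorem eig_inv {g : Mn} (hg : ∀ a ∈ K, g * a = a * g) {c : F} :
    ∀ a ∈ K, ∀ w ∈ eig g c, a *ᵥ w ∈ eig g c := fun a ha w hw => by
  rw [mem_eig] at hw ⊢
  rw [Matrix.mulVec_mulVec, hg a ha, ← Matrix.mulVec_mulVec, hw, Matrix.mulVec_smul]

/-- An element moving the field has small eigenspaces. -/
theorem eig_small (hK : Geo.IsFieldSubalgebra k K) {g : GL ι F} (hg : g ∈ Geo.subalgebraNormalizer K)
    (hne : ¬ ∀ a ∈ K, (g : Mn) * a = a * (g : Mn)) (c : F) : 2 * finrank F (eig (g : Mn) c) ≤ Fintype.card ι := by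
  push Not at hne
  obtain ⟨a, ha, hne⟩ := hne
  set b := (g : Mn) * a * (g⁻¹).1 with hb
  have hbK : b ∈ K := (hg a).1 ha
  have hgb : (g : Mn) * a = b * (g : Mn) := by rw [hb, Matrix.mul_assoc _ (g⁻¹).1, Units.inv_mul, Matrix.mul_one]
  have hd0 : b - a ≠ 0 := fun h => hne (by rw [hgb, sub_eq_zero.1 h])
  have ha0 : a ≠ 0 := fun h => hne (by rw [h, Matrix.mul_zero, Matrix.zero_mul])
  set W := eig (g : Mn) c
  have hd : Disjoint W (W.map (Matrix.toLin' a)) := by
    rw [Submodule.disjoint_def]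
    rintro _ hw ⟨v, hv, rfl⟩
    rw [Matrix.toLin'_apply] at hw ⊢
    rw [mem_eig] at hw
    rw [SetLike.mem_coe, mem_eig] at hv
    rw [Matrix.mulVec_mulVec, hgb, ← Matrix.mulVec_mulVec, hv] at hw
    have h1 : (b - a) *ᵥ (c • v) = 0 := by rw [Matrix.sub_mulVec, hw, Matrix.mulVec_smul, sub_self]
    have h2 := eq_zero_of_mem hK (sub_mem hbK ha) hd0 h1
    rcases smul_eq_zero.1 h2 with h | h
    · rw [h, zero_smul] at hv
      rw [show v = 0 from by
        rw [← Matrix.one_mulVec v, ← Units.inv_mul g, ← Matrix.mulVec_mulVec, hv, Matrix.mulVec_zero],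
        Matrix.mulVec_zero]
    · rw [h, Matrix.mulVec_zero]
  have hinj : Function.Injective (Matrix.toLin' a) := (injective_iff_map_eq_zero _).2 fun v hv =>
    eq_zero_of_mem hK ha ha0 (by rwa [Matrix.toLin'_apply] at hv)
  have h := Submodule.finrank_add_finrank_le_of_disjoint hd
  rw [← (Submodule.equivMapOfInjective _ hinj W).finrank_eq, Module.finrank_fintype_fun_eq_card] at h
  omega

theorem eig_conj {x g : GL ι F} (c : F) :
    finrank F (eig ((g⁻¹ * x * g : GL ι F) : Mn) c) = finrank F (eig (x : Mn) c) := by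
  have hinj : Function.Injective (Matrix.toLin' (g : Mn)) := (injective_iff_map_eq_zero _).2 fun v hv => by
    rw [← Matrix.one_mulVec v, ← Units.inv_mul g, ← Matrix.mulVec_mulVec]
    rw [Matrix.toLin'_apply] at hv
    rw [hv, Matrix.mulVec_zero]
  rw [(Submodule.equivMapOfInjective _ hinj (eig ((g⁻¹ * x * g : GL ι F) : Mn) c)).finrank_eq]
  refine congrArg (fun S : Submodule F V => finrank F S) ?_
  ext w
  constructor
  · rintro ⟨v, hv, rfl⟩
    rw [SetLike.mem_coe, mem_eig] at hv
    rw [mem_eig, Matrix.toLin'_apply, ← Matrix.mulVec_smul, ← hv, Matrix.mulVec_mulVec, Matrix.mulVec_mulVec,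
      ← Units.val_mul, ← Units.val_mul]
    congr 2
    group
  · intro hw
    rw [mem_eig] at hw
    refine ⟨(g⁻¹).1 *ᵥ w, ?_, by rw [Matrix.toLin'_apply, Matrix.mulVec_mulVec, Units.mul_inv, Matrix.one_mulVec]⟩
    rw [SetLike.mem_coe, mem_eig, Matrix.mulVec_mulVec, ← Units.val_mul, mul_inv_cancel_right, Units.val_mul,
      ← Matrix.mulVec_mulVec, hw, Matrix.mulVec_smul]

/-- The commuting case is excluded by a large eigenspace of dimension prime to the degree. -/
theorem comm_of_large (hK : Geo.IsFieldSubalgebra k K) {g : GL ι F} (hg : g ∈ Geo.subalgebraNormalizer K) {c : F}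
    (h : Fintype.card ι < 2 * finrank F (eig (g : Mn) c)) : ∀ a ∈ K, (g : Mn) * a = a * (g : Mn) :=
  by_contra fun hne => absurd (eig_small hK hg hne c) (Nat.not_le_of_lt h)

/-- An element with a large eigenspace of dimension prime to the degree has no conjugate in the normaliser. -/
theorem not_conj_eig (hK : Geo.IsFieldSubalgebra k K) (hk : 0 < k) {x g : GL ι F} {c : F} {d : ℕ}
    (hd : finrank F (eig (x : Mn) c) = d) (hbig : Fintype.card ι < 2 * d) (hnd : ¬ k ∣ d) :
    g⁻¹ * x * g ∉ Geo.subalgebraNormalizer K := fun hy => by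
  have he : finrank F (eig ((g⁻¹ * x * g : GL ι F) : Mn) c) = d := by rw [eig_conj, hd]
  exact hnd (he ▸ dvd_finrank hK hk _ (eig_inv (comm_of_large hK hy (by rw [he]; exact hbig))))

theorem mem_normalizer (hK : Geo.IsFieldSubalgebra k K) (hk : 0 < k) {g : GL ι F}
    (h : ∀ a ∈ K, ∃ b ∈ K, (g : Mn) * a = b * (g : Mn)) : g ∈ Geo.subalgebraNormalizer K := by
  haveI : Module.Finite F ↥K := Module.finite_of_finrank_pos (by rw [hK.finrank_eq]; exact hk)
  have hm : ∀ a : K, (g : Mn) * (a : Mn) * (g⁻¹).1 ∈ K := fun a => by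
    obtain ⟨b, hb, hab⟩ := h a a.2
    rw [hab, Matrix.mul_assoc, Units.mul_inv, Matrix.mul_one]; exact hb
  let φ : K →ₗ[F] K :=
    { toFun := fun a => ⟨(g : Mn) * (a : Mn) * (g⁻¹).1, hm a⟩
      map_add' := fun a b => Subtype.ext (by simp [Matrix.mul_add, Matrix.add_mul])
      map_smul' := fun t a => Subtype.ext (by simp [Matrix.mul_smul, Matrix.smul_mul]) }
  have hcancel : ∀ A : Mn, (g⁻¹).1 * ((g : Mn) * A * (g⁻¹).1) * (g : Mn) = A := fun A => by
    simp only [Matrix.mul_assoc, Units.inv_mul, Matrix.mul_one]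
    rw [← Matrix.mul_assoc, Units.inv_mul, Matrix.one_mul]
  have hinj : Function.Injective φ := fun a b hab => Subtype.ext (by
    rw [← hcancel (a : Mn), ← hcancel (b : Mn)]
    exact congrArg (fun A => (g⁻¹).1 * A * (g : Mn)) (congrArg Subtype.val hab))
  intro A
  refine ⟨fun hA => hm ⟨A, hA⟩, fun hA => ?_⟩
  obtain ⟨a, ha⟩ := LinearMap.surjective_of_injective hinj ⟨_, hA⟩
  have := congrArg (fun A => (g⁻¹).1 * A * (g : Mn)) (congrArg Subtype.val ha)
  simp only [φ, LinearMap.coe_mk, AddHom.coe_mk, hcancel] at this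
  exact this ▸ a.2

/-- An element whose `r`-th power is scalar, `r` another prime, commutes with the field. -/
theorem comm_of_pow [Finite F] (hK : Geo.IsFieldSubalgebra k K) (hk : k.Prime) {r : ℕ} (hr : r.Prime) (hrk : r ≠ k)
    {g : GL ι F} (hg : g ∈ Geo.subalgebraNormalizer K) {z : F} (hz : ((g ^ r : GL ι F) : Mn) = z • 1) :
    ∀ a ∈ K, (g : Mn) * a = a * (g : Mn) := by
  letI : Field ↥K := fieldOf hK hk.pos
  haveI : Module.Finite F ↥K := Module.finite_of_finrank_pos (by rw [hK.finrank_eq]; exact hk.pos)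
  haveI : Finite ↥K := Module.finite_of_finite F
  have hcancel : ∀ A : Mn, (g⁻¹).1 * ((g : Mn) * A * (g⁻¹).1) * (g : Mn) = A := fun A => by
    simp only [Matrix.mul_assoc, Units.inv_mul, Matrix.mul_one]
    rw [← Matrix.mul_assoc, Units.inv_mul, Matrix.one_mul]
  have hmul : ∀ a b : K, (g : Mn) * ((a : Mn) * (b : Mn)) * (g⁻¹).1 =
      ((g : Mn) * (a : Mn) * (g⁻¹).1) * ((g : Mn) * (b : Mn) * (g⁻¹).1) := fun a b => by
    simp only [Matrix.mul_assoc]
    rw [← Matrix.mul_assoc (g⁻¹).1 (g : Mn), Units.inv_mul, Matrix.one_mul]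
  let f : K →ₐ[F] K :=
    { toFun := fun a => ⟨(g : Mn) * (a : Mn) * (g⁻¹).1, (hg a).1 a.2⟩
      map_one' := Subtype.ext (by simp)
      map_mul' := fun a b => Subtype.ext (hmul a b)
      map_zero' := Subtype.ext (by simp)
      map_add' := fun a b => Subtype.ext (by simp [Matrix.mul_add, Matrix.add_mul])
      commutes' := fun t => Subtype.ext (by
        show (g : Mn) * algebraMap F Mn t * (g⁻¹).1 = algebraMap F Mn t
        rw [← Algebra.commutes, Matrix.mul_assoc, Units.mul_inv, Matrix.mul_one]) }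
  let φ : K ≃ₐ[F] K := AlgEquiv.ofBijective f (Finite.injective_iff_bijective.1 f.toRingHom.injective)
  have hφ : ∀ (i : ℕ) (a : K), (((φ ^ i) a : K) : Mn) = ((g ^ i : GL ι F) : Mn) * (a : Mn) * ((g ^ i)⁻¹).1 := by
    intro i
    induction i with
    | zero => intro a; simp
    | succ i ih =>
      intro a
      rw [pow_succ', AlgEquiv.mul_apply, pow_succ' g, _root_.mul_inv_rev, Units.val_mul, Units.val_mul]
      show (g : Mn) * (((φ ^ i) a : K) : Mn) * (g⁻¹).1 = _
      rw [ih]
      simp only [Matrix.mul_assoc]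
  have h1 : φ ^ r = 1 := AlgEquiv.ext fun a => Subtype.ext (by
    rw [hφ, AlgEquiv.one_apply, hz, Matrix.smul_mul, Matrix.one_mul, ← Matrix.mul_one (z • (a : Mn)),
      Matrix.mul_one (z • (a : Mn)), show z • (a : Mn) = (a : Mn) * (z • (1 : Mn)) by
        rw [Matrix.mul_smul, Matrix.mul_one], ← hz, Matrix.mul_assoc, Units.mul_inv, Matrix.mul_one])
  have h2 : φ ^ k = 1 := by
    haveI := Fintype.ofFinite (K ≃ₐ[F] K)
    have hcard : Nat.card (K ≃ₐ[F] K) = k := by
      rw [IsGalois.card_aut_eq_finrank, hK.finrank_eq]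
    have := pow_card_eq_one' (x := φ)
    rwa [hcard] at this
  have h3 : φ = 1 := by
    have := pow_gcd_eq_one.2 ⟨h1, h2⟩
    rwa [Nat.coprime_primes hr hk |>.2 hrk, pow_one] at this
  intro a ha
  have h4 := hφ 1 ⟨a, ha⟩
  rw [h3, one_pow, AlgEquiv.one_apply, pow_one] at h4
  calc (g : Mn) * a = (g : Mn) * a * (g⁻¹).1 * (g : Mn) := by rw [Matrix.mul_assoc _ (g⁻¹).1, Units.inv_mul, Matrix.mul_one]
    _ = a * (g : Mn) := by rw [← h4]

end Cfsg.Agent.FieldExtNormalizer
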