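import Cfsg.Agent.Lib.Classical.SympPrimeOrderClasses
import Cfsg.Agent.Lib.Classical.InvariantCharpoly
import Cfsg.Agent.Lib.Classical.SympSemisimpleClasses
import Cfsg.Agent.Lib.Classical.MaxSympWreath
import Cfsg.Agent.Lib.Classical.FieldExtNormalizer

/-! Tools for conjugating elements of prime order into field-extension subgroups of symplectic groups. -/

set_option autoImplicit false
set_option linter.unusedSectionVars false

namespace Cfsg.Agent.FieldExtSympBasic

open Matrix Module Polynomial Cfsg.Agent.SelfReciprocalFactors Cfsg.Agent.FieldExtNormalizer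

variable {F : Type*} [Field F]

section Eigen

variable {ι : Type} [Fintype ι] [DecidableEq ι]

theorem not_dvd_of_injective {U : Type*} [AddCommGroup U] [Module F U] [FiniteDimensional F U] (e : Module.End F U)
    {h g : F[X]} (hinj : Function.Injective (aeval e h)) (hgi : Irreducible g) (hg1 : g ∣ e.charpoly) (hg2 : g ∣ h) :
    False := by
  classical
  have hgm : (normalize g).Monic := Polynomial.monic_normalize hgi.ne_zero
  obtain ⟨W, hW, hWc⟩ := InvCharpoly.exists_cyclic e hgm
    ((normalize_associated g).irreducible_iff.2 hgi) ((normalize_associated g).dvd.trans hg1)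
  have hne : W ≠ ⊥ := fun h0 => by
    have h1 := congrArg natDegree hWc
    rw [LinearMap.charpoly_natDegree, h0, finrank_bot] at h1
    exact hgi.natDegree_pos.ne' ((Polynomial.natDegree_eq_of_degree_eq Polynomial.degree_normalize).symm.trans h1.symm)
  obtain ⟨u, hu, hu0⟩ := W.exists_mem_ne_zero_of_ne_bot hne
  have hkill := LinearMap.aeval_self_charpoly (e.restrict hW)
  rw [hWc] at hkill
  have hcoe : ∀ (P : F[X]) (x : W), ((aeval (e.restrict hW) P x : W) : U) = aeval e P x.1 := by
    intro P x
    induction P using Polynomial.induction_on' with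
    | add a b ha hb => simp only [map_add, LinearMap.add_apply, Submodule.coe_add, ha, hb]
    | monomial l c =>
      have hpow : (((e.restrict hW) ^ l) x : U) = (e ^ l) x.1 := by
        induction l with
        | zero => rfl
        | succ l ih => rw [pow_succ', pow_succ', Module.End.mul_apply, Module.End.mul_apply, ← ih]; rfl
      simp only [aeval_monomial, Module.End.mul_apply, Module.algebraMap_end_apply, Submodule.coe_smul, hpow]
  have h0 : aeval e (normalize g) u = 0 := by rw [← hcoe _ ⟨u, hu⟩, hkill]; rfl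
  obtain ⟨w, hw⟩ := (normalize_associated g).dvd.trans hg2
  exact hu0 (hinj (by rw [hw, mul_comm, map_mul, Module.End.mul_apply, h0, map_zero, map_zero]))

/-- The kernel of a factor of the characteristic polynomial prime to the cofactor. -/
theorem finrank_ker_aeval (M : Matrix ι ι F) {f h : F[X]} (hf : f.Monic) (hh : h.Monic) (hco : IsCoprime f h)
    (he : M.charpoly = f * h) : finrank F (LinearMap.ker (Matrix.toLin' (aeval M f))) = f.natDegree := by
  classical
  set e : Module.End F (ι → F) := Matrix.toLinAlgEquiv' M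
  have hc : e.charpoly = f * h := by rw [← he]; exact Matrix.charpoly_toLin' M
  have hk : ∀ P : F[X], LinearMap.ker (Matrix.toLin' (aeval M P)) = LinearMap.ker (aeval e P) := fun P => by
    congr 1
    exact (Polynomial.aeval_algHom_apply (Matrix.toLinAlgEquiv'.toAlgHom : Matrix ι ι F →ₐ[F] _) M P).symm
  rw [hk]
  have key : ∀ {f h : F[X]}, f.Monic → IsCoprime f h → e.charpoly = f * h →
      finrank F (LinearMap.ker (aeval e f)) ≤ f.natDegree := by
    intro f h hf hco hc
    set W := LinearMap.ker (aeval e f)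
    have hW : W ≤ W.comap e := fun v hv => by
      rw [Submodule.mem_comap, LinearMap.mem_ker, ← Module.End.mul_apply,
        show aeval e f * e = e * aeval e f by
          have := ((Polynomial.commute_X f).map (aeval e)).symm.eq
          rwa [aeval_X] at this,
        Module.End.mul_apply, LinearMap.mem_ker.1 hv, map_zero]
    have hdvd : (e.restrict hW).charpoly ∣ f * h := hc ▸ InvCharpoly.charpoly_restrict_dvd_self hW
    have hcop : IsCoprime (e.restrict hW).charpoly h := by
      by_contra hn
      obtain ⟨g, hgi, hg1, hg2⟩ : ∃ g : F[X], Irreducible g ∧ g ∣ (e.restrict hW).charpoly ∧ g ∣ h := by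
        by_contra hno
        push Not at hno
        refine hn (isCoprime_of_dvd _ _ (fun h0 => (LinearMap.charpoly_monic _).ne_zero h0.1) fun z hz hz0 hz1 hz2 => ?_)
        obtain ⟨g, hgi, hgz⟩ := WfDvdMonoid.exists_irreducible_factor hz hz0
        exact hno g hgi (hgz.trans hz1) (hgz.trans hz2)
      refine not_dvd_of_injective (e.restrict hW) (h := h) ?_ hgi hg1 hg2
      rw [injective_iff_map_eq_zero]
      intro w hw
      have hcoe : ∀ (P : F[X]) (x : W), ((aeval (e.restrict hW) P x : W) : ι → F) = aeval e P x.1 := by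
        intro P x
        induction P using Polynomial.induction_on' with
        | add a b ha hb => simp only [map_add, LinearMap.add_apply, Submodule.coe_add, ha, hb]
        | monomial l c =>
          have hpow : (((e.restrict (p := W) (q := W) (fun w hw => hW hw)) ^ l) x : ι → F) = (e ^ l) x.1 := by
            induction l with
            | zero => rfl
            | succ l ih => rw [pow_succ', pow_succ', Module.End.mul_apply, Module.End.mul_apply, ← ih]; rfl
          simp only [aeval_monomial, Module.End.mul_apply, Module.algebraMap_end_apply, Submodule.coe_smul, hpow]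
      have h2 : aeval e h w.1 = 0 := by rw [← hcoe, hw]; rfl
      exact Subtype.ext ((Submodule.mem_bot F).1
        ((Polynomial.disjoint_ker_aeval_of_isCoprime e hco).le_bot ⟨w.2, h2⟩))
    have := Polynomial.natDegree_le_of_dvd (hcop.dvd_of_dvd_mul_right hdvd) hf.ne_zero
    rwa [LinearMap.charpoly_natDegree] at this
  have h1 := key hf hco hc
  have h2 := key hh hco.symm (hc.trans (mul_comm f h))
  have h3 := Submodule.finrank_sup_add_finrank_inf_eq (LinearMap.ker (aeval e f)) (LinearMap.ker (aeval e h))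
  rw [sup_ker_aeval_eq_ker_aeval_mul_of_coprime _ hco, ← hc, LinearMap.aeval_self_charpoly, LinearMap.ker_zero,
    finrank_top, (Polynomial.disjoint_ker_aeval_of_isCoprime e hco).eq_bot, finrank_bot, add_zero,
    ← LinearMap.charpoly_natDegree e, hc, hf.natDegree_mul hh] at h3
  omega

theorem charpoly_smul_id {U : Type*} [AddCommGroup U] [Module F U] [FiniteDimensional F U] (b : F) :
    (b • LinearMap.id : U →ₗ[F] U).charpoly = (X - Polynomial.C b) ^ finrank F U := by
  classical
  rw [← LinearMap.charpoly_toMatrix _ (Module.finBasis F U), map_smul, LinearMap.toMatrix_id,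
    Matrix.smul_one_eq_diagonal, Matrix.charpoly_diagonal, Finset.prod_const, Finset.card_univ, Fintype.card_fin]

/-- A map killed by `(X - a)(X - b)`. -/
theorem charpoly_two_eig (M : Matrix ι ι F) {a b : F} (h : (M - a • 1) * (M - b • 1) = 0) :
    M.charpoly = (X - Polynomial.C a) ^ finrank F (eig M a) *
      (X - Polynomial.C b) ^ (Fintype.card ι - finrank F (eig M a)) := by
  classical
  set e := Matrix.toLin' M
  set W := eig M a
  have hev : ∀ w ∈ W, e w = a • w := fun w hw => by rw [Matrix.toLin'_apply]; exact mem_eig.1 hw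
  have hW : W ≤ W.comap e := fun w hw => by rw [Submodule.mem_comap, hev w hw]; exact W.smul_mem a hw
  have h1 : e.restrict (p := W) (q := W) (fun w hw => hW hw) = a • LinearMap.id :=
    LinearMap.ext fun w => Subtype.ext (hev w.1 w.2)
  have h2 : W.mapQ W e hW = b • LinearMap.id := by
    refine LinearMap.ext fun x => ?_
    obtain ⟨v, rfl⟩ := Submodule.Quotient.mk_surjective W x
    rw [Submodule.mapQ_apply, LinearMap.smul_apply, LinearMap.id_apply, ← Submodule.Quotient.mk_smul,
      Submodule.Quotient.eq]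
    refine LinearMap.mem_ker.2 ?_
    rw [Matrix.toLin'_apply, Matrix.toLin'_apply,
      show M *ᵥ v - b • v = (M - b • 1) *ᵥ v by rw [Matrix.sub_mulVec, Matrix.smul_mulVec, Matrix.one_mulVec],
      Matrix.mulVec_mulVec, h, Matrix.zero_mulVec]
  rw [← Matrix.charpoly_toLin', InvCharpoly.charpoly_mul W e hW, h1, h2, charpoly_smul_id, charpoly_smul_id,
    Submodule.finrank_quotient, Module.finrank_fintype_fun_eq_card]

theorem exponent_eq {a b : F} (hab : a ≠ b) {i j i' j' : ℕ}
    (h : (X - Polynomial.C a) ^ i * (X - Polynomial.C b) ^ j = (X - Polynomial.C a) ^ i' * (X - Polynomial.C b) ^ j') :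
    i = i' := by
  classical
  have := congrArg (rootMultiplicity a) h
  rwa [rootMultiplicity_mul (mul_ne_zero (pow_ne_zero _ (X_sub_C_ne_zero a)) (pow_ne_zero _ (X_sub_C_ne_zero b))),
    rootMultiplicity_mul (mul_ne_zero (pow_ne_zero _ (X_sub_C_ne_zero a)) (pow_ne_zero _ (X_sub_C_ne_zero b))),
    rootMultiplicity_X_sub_C_pow, rootMultiplicity_X_sub_C_pow,
    rootMultiplicity_eq_zero (fun h0 => hab (sub_eq_zero.1 (eq_zero_of_pow_eq_zero (by simpa [IsRoot] using h0)))),
    rootMultiplicity_eq_zero (fun h0 => hab (sub_eq_zero.1 (eq_zero_of_pow_eq_zero (by simpa [IsRoot] using h0))))] at this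

/-- The index is prime to `r`. -/
theorem not_dvd_relIndex {G : Type*} [Group G] [Finite G] {H S : Subgroup G} {A M r : ℕ} (hA : 0 < A)
    (hcard : Nat.card S = A * M) (hdvd : A ∣ Nat.card (H ⊓ S : Subgroup G)) (hM : ¬ r ∣ M) :
    ¬ r ∣ H.relIndex S := by
  intro hr
  refine hM (hr.trans ?_)
  obtain ⟨w, hw⟩ := hdvd
  have h1 := Subgroup.card_mul_index ((H ⊓ S).subgroupOf S)
  rw [Nat.card_congr (Subgroup.subgroupOfEquivOfLe inf_le_right).toEquiv, hcard, hw, mul_assoc] at h1
  have h2 := Nat.eq_of_mul_eq_mul_left hA h1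
  rw [show H.relIndex S = ((H ⊓ S).subgroupOf S).index by rw [Subgroup.inf_subgroupOf_right]; rfl]
  exact Dvd.intro_left w h2

end Eigen

section Symp

variable {d : ℕ}

local notation "V" => (Fin d ⊕ Fin d → F)
local notation "Mn" => Matrix (Fin d ⊕ Fin d) (Fin d ⊕ Fin d) F
local notation "B" => sympForm d F
local notation "GLd" => GL (Fin d ⊕ Fin d) F

/-- A totally isotropic subspace has dimension at most `d`. -/
theorem finrank_le_half {S : Submodule F (Fin d ⊕ Fin d → F)} (hS : ∀ u ∈ S, ∀ v ∈ S, sympForm d F u v = 0) :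
    finrank F S ≤ d := by
  have hA : (Classical.sympB d F).IsAlt := fun v => by rw [Classical.sympB_apply, Classical.sympForm_self]
  have h1 := LinearMap.BilinForm.finrank_orthogonal (Classical.sympB_nondegenerate (F := F) (m := d)) S
  have h2 : S ≤ (Classical.sympB d F).orthogonal S := fun v hv => LinearMap.BilinForm.mem_orthogonal_iff.2
    fun u hu => by show Classical.sympB d F u v = 0; rw [Classical.sympB_apply]; exact hS u hu v hv
  have h3 := Submodule.finrank_mono h2
  rw [Module.finrank_fintype_fun_eq_card, Fintype.card_sum, Fintype.card_fin] at h1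
  omega

theorem charpoly_of_sq_neg_one {M : Mn} (hM : ∀ u v, B (M *ᵥ u) (M *ᵥ v) = B u v) (h2 : (2 : F) ≠ 0)
    (hsq : M * M = (-1 : F) • 1) : M.charpoly = (X ^ 2 + 1) ^ d := by
  classical
  obtain ⟨i, hi⟩ := IsAlgClosed.exists_eq_mul_self (-1 : AlgebraicClosure F)
  set φ := algebraMap F (AlgebraicClosure F)
  refine Polynomial.map_injective φ φ.injective ?_
  rw [← Matrix.charpoly_map]
  have hmap : ∀ u v, sympForm d (AlgebraicClosure F) (M.map φ *ᵥ u) (M.map φ *ᵥ v) =
      sympForm d (AlgebraicClosure F) u v := by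
    have h1 := (SymplecticGroup.mem_iff).1 (Classical.mem_symplecticGroup_iff_form.2 hM)
    refine Classical.mem_symplecticGroup_iff_form.1 (SymplecticGroup.mem_iff.2 ?_)
    have h3 := congrArg (fun A : Mn => A.map φ) h1
    simp only [Matrix.map_mul, ← Matrix.transpose_map] at h3
    have hJ : (Matrix.J (Fin d) F).map φ = Matrix.J (Fin d) (AlgebraicClosure F) := by
      ext (a | a) (b | b) <;> simp [Matrix.J, Matrix.one_apply, apply_ite φ]
    rwa [hJ] at h3
  set N := M.map φ
  have h20 : (2 : AlgebraicClosure F) ≠ 0 := by rw [← map_ofNat φ 2]; exact (map_ne_zero φ).2 h2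
  have hi0 : i ≠ -i := fun h => by
    have : (2 : AlgebraicClosure F) * i = 0 := by linear_combination h
    rcases mul_eq_zero.1 this with h | h
    · exact h20 h
    · rw [h, mul_zero] at hi; exact one_ne_zero (neg_eq_zero.1 hi)
  have hNN : N * N = (-1 : AlgebraicClosure F) • 1 := by
    have h3 := congrArg (fun A : Mn => A.map φ) hsq
    simp only [Matrix.map_mul] at h3
    rw [h3]
    ext a b
    simp [Matrix.one_apply, apply_ite φ]
    split_ifs <;> simp
  have hfac : ∀ a : AlgebraicClosure F, a * a = -1 → (N - a • 1) * (N - (-a) • 1) = 0 := fun a ha => by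
    simp only [Matrix.mul_sub, Matrix.sub_mul, Matrix.smul_mul, Matrix.mul_smul, Matrix.one_mul, Matrix.mul_one, hNN,
      smul_sub, smul_smul]
    rw [show -a * a = 1 by linear_combination -ha]
    module
  have hiso : ∀ a : AlgebraicClosure F, a * a = -1 → finrank _ (eig N a) ≤ d := fun a ha =>
    finrank_le_half fun u hu v hv => by
      have h := hmap u v
      rw [mem_eig.1 hu, mem_eig.1 hv, Classical.sympForm_smul_left, Classical.sympForm_smul_right, ← mul_assoc, ha] at h
      have : (2 : AlgebraicClosure F) * sympForm d (AlgebraicClosure F) u v = 0 := by linear_combination -h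
      exact (mul_eq_zero.1 this).resolve_left h20
  have e1 := charpoly_two_eig N (hfac i hi.symm)
  have e2 := charpoly_two_eig N (hfac (-i) (by linear_combination -hi))
  rw [neg_neg, mul_comm] at e2
  have e3 := exponent_eq hi0 (e1.symm.trans e2)
  have l1 := hiso i hi.symm
  have l2 := hiso (-i) (by linear_combination -hi)
  rw [Fintype.card_sum, Fintype.card_fin] at e1 e3
  rw [e1, show finrank _ (eig N i) = d by omega, show d + d - d = d by omega, ← mul_pow, Polynomial.map_pow,
    Polynomial.map_add, Polynomial.map_pow, map_X, Polynomial.map_one, map_neg]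
  congr 1
  rw [show (X : (AlgebraicClosure F)[X]) ^ 2 + 1 = X ^ 2 - Polynomial.C (i * i) by rw [← hi, map_neg, map_one]; ring,
    map_mul]
  ring

theorem charpoly_of_sq_one {M : Mn} (hsq : M * M = 1) : M.charpoly =
    (X - Polynomial.C (-1)) ^ finrank F (eig M (-1)) * (X - Polynomial.C 1) ^ (d + d - finrank F (eig M (-1))) := by
  have := charpoly_two_eig M (a := -1) (b := 1) (by
    rw [neg_one_smul, one_smul, sub_neg_eq_add, Matrix.add_mul, Matrix.mul_sub, Matrix.mul_sub, hsq,
      Matrix.mul_one, Matrix.one_mul, Matrix.one_mul]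
    abel)
  rwa [Fintype.card_sum, Fintype.card_fin] at this

/-- The element as a member of the symplectic group. -/
def toSymp (g : GL (Fin d ⊕ Fin d) F) (hg : g ∈ spGL d F) : Matrix.symplecticGroup (Fin d) F :=
  ⟨(g : Matrix (Fin d ⊕ Fin d) (Fin d ⊕ Fin d) F), Classical.mem_symplecticGroup_iff_form.2 hg⟩

theorem toSymp_pow (g : GLd) (hg : g ∈ spGL d F) (n : ℕ) :
    ((toSymp g hg ^ n : Matrix.symplecticGroup (Fin d) F) : Mn) = (g : Mn) ^ n := by
  rw [SubmonoidClass.coe_pow]; rfl

/-- Elements with square `±1` are conjugate as soon as their characteristic polynomials agree. -/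
theorem exists_conj {p : ℕ} [Fact p.Prime] [CharP F p] [Fintype F] (h2 : (2 : F) ≠ 0) {x y : GLd} (hx : x ∈ spGL d F)
    (hy : y ∈ spGL d F) {z : F} (hz : z = 1 ∨ z = -1) (hx2 : (x : Mn) * x = z • 1) (hy2 : (y : Mn) * y = z • 1)
    (hc : (x : Mn).charpoly = (y : Mn).charpoly) : ∃ g ∈ spGL d F, g⁻¹ * x * g = y := by
  have hp : p ≠ 2 := fun e => h2 (by
    have := CharP.cast_eq_zero F p
    rwa [e, Nat.cast_ofNat] at this)
  have hord : ∀ (g : GLd) (hg : g ∈ spGL d F), (g : Mn) * g = z • 1 → (orderOf (toSymp g hg)).Coprime p := by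
    intro g hg hg2
    have h4 : toSymp g hg ^ 4 = 1 := Subtype.ext (by
      rw [toSymp_pow, show (g : Mn) ^ 4 = (g : Mn) * g * ((g : Mn) * g) by rw [pow_succ, pow_succ, pow_succ, pow_one, Matrix.mul_assoc],
        hg2, Matrix.smul_mul, Matrix.one_mul, smul_smul]
      rcases hz with rfl | rfl <;> simp)
    refine Nat.Coprime.coprime_dvd_left (orderOf_dvd_of_pow_eq_one h4) ?_
    rw [show 4 = 2 ^ 2 by rfl]
    exact ((Nat.coprime_primes Nat.prime_two Fact.out).2 hp.symm).pow_left 2
  obtain ⟨c, hc'⟩ := isConj_iff.1 (SympSemisimpleClasses.symp_isConj_of_charpoly (toSymp y hy) (toSymp x hx)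
    (hord y hy hy2) (hord x hx hx2) hc.symm)
  obtain ⟨g, hg⟩ : ∃ g : GLd, (g : Mn) = c.1 :=
    (Matrix.isUnit_iff_isUnit_det _).2 (SymplecticGroup.symplectic_det c.2)
  have hgs : g ∈ spGL d F := fun u v => by show B (g.1 *ᵥ u) (g.1 *ᵥ v) = B u v; rw [hg]; exact Classical.mem_symplecticGroup_iff_form.1 c.2 u v
  refine ⟨g, hgs, ?_⟩
  rw [mul_assoc, inv_mul_eq_iff_eq_mul]
  refine Units.ext ?_
  rw [Units.val_mul, Units.val_mul, hg]
  have h1 : c * toSymp y hy = toSymp x hx * c := by rw [← hc', inv_mul_cancel_right]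
  exact (congrArg Subtype.val h1).symm

theorem symp_one_eig (x : GLd) (hx : x ∈ spGL d F) (hsq : (x : Mn) * x = 1) (h2 : (2 : F) ≠ 0) :
    Even (finrank F (eig (x : Mn) (-1))) := by
  have h := congrArg (eval (0 : F)) (charpoly_of_sq_one hsq)
  have hdet : (x : Mn).det = 1 := SymplecticGroup.det_eq_one (Classical.mem_symplecticGroup_iff_form.2 hx)
  rw [Matrix.det_eq_sign_charpoly_coeff, Fintype.card_sum, Fintype.card_fin, coeff_zero_eq_eval_zero, h] at hdet
  simp only [eval_mul, eval_pow, eval_sub, eval_X, eval_C, zero_sub, neg_neg, one_pow, one_mul] at hdet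
  rw [← pow_add] at hdet
  rcases Nat.even_or_odd (finrank F (eig (x : Mn) (-1))) with he | ho
  · exact he
  · exfalso
    have hle := Submodule.finrank_le (eig (x : Mn) (-1))
    rw [Module.finrank_fintype_fun_eq_card, Fintype.card_sum, Fintype.card_fin] at hle
    have hodd : Odd (d + d + (d + d - finrank F (eig (x : Mn) (-1)))) := by
      obtain ⟨w, hw⟩ := ho
      exact ⟨2 * d - w - 1, by omega⟩
    rw [hodd.neg_one_pow] at hdet
    exact h2 (by linear_combination -hdet)

/-- The standard transvection. -/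
theorem exists_transvection {p : ℕ} [Fact p.Prime] [CharP F p] (hd : 1 ≤ d) :
    ∃ x ∈ spGL d F, ((x ^ p : GLd) : Mn) = (1 : F) • 1 ∧ (∀ z : F, (x : Mn) ≠ z • 1) ∧
      finrank F (eig (x : Mn) 1) + 1 = d + d := by
  classical
  let i₀ : Fin d := ⟨0, hd⟩
  set v : V := Pi.single (Sum.inl i₀) 1 with hv
  have hv0 : v ≠ 0 := fun h => by simpa [hv] using congrFun h (Sum.inl i₀)
  obtain ⟨x, hx, hxv⟩ := Classical.MaxTv.exists_sp_tv v (1 : F)
  simp only [one_mul] at hxv
  let φ : V →ₗ[F] F := (Classical.sympB d F).flip v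
  have hφ : ∀ u, φ u = B u v := fun u => Classical.sympB_apply u v
  have heig : eig (x : Mn) 1 = LinearMap.ker φ := by
    ext u
    rw [mem_eig, LinearMap.mem_ker, hφ, hxv, one_smul, add_eq_left, smul_eq_zero]
    exact or_iff_left hv0
  obtain ⟨w, hw⟩ := Classical.exists_sympForm_eq_one hv0
  have hφs : LinearMap.range φ = ⊤ := LinearMap.range_eq_top.2 fun a => ⟨-a • w, by
    rw [map_smul, hφ, Classical.sympForm_swap, hw]; simp⟩
  have hdim := LinearMap.finrank_range_add_finrank_ker φ
  rw [hφs, finrank_top, Module.finrank_self, Module.finrank_fintype_fun_eq_card, Fintype.card_sum, Fintype.card_fin,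
    ← heig] at hdim
  have hpow : ∀ (l : ℕ) (u : V), ((x ^ l : GLd) : Mn) *ᵥ u = u + ((l : F) * B u v) • v := by
    intro l
    induction l with
    | zero => intro u; simp
    | succ l ih =>
      intro u
      rw [pow_succ', Units.val_mul, ← Matrix.mulVec_mulVec, ih, Matrix.mulVec_add, Matrix.mulVec_smul, hxv, hxv,
        Classical.sympForm_self, zero_smul, add_zero, Nat.cast_succ, add_mul, one_mul, add_smul]
      abel
  refine ⟨x, hx, Matrix.ext_iff_mulVec.2 fun u => ?_, fun z hz => ?_, by omega⟩
  · rw [hpow, CharP.cast_eq_zero, zero_mul, zero_smul, add_zero, one_smul, Matrix.one_mulVec]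
  · have h1 := hxv v
    rw [hz, Matrix.smul_mulVec, Matrix.one_mulVec, Classical.sympForm_self, zero_smul, add_zero] at h1
    have hz1 : z = 1 := smul_left_injective F hv0 (h1.trans (one_smul F v).symm)
    have h2 := hxv w
    rw [hz, hz1, one_smul, Matrix.one_mulVec, left_eq_add, smul_eq_zero, Classical.sympForm_swap, hw] at h2
    simp [hv0] at h2

variable [Fintype F] {r i t : ℕ}

/-- The witness of order `r`: a basic factor and fixed points. -/
theorem exists_witness (h : Ctx F r i t) {f : F[X]} (hf : f ∈ factorSet F r) (hc : basicDeg i ≤ d + d) :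
    ∃ x ∈ spGL d F, ((x ^ r : GLd) : Mn) = (1 : F) • 1 ∧ (∀ z : F, (x : Mn) ≠ z • 1) ∧
      (x : Mn).charpoly = basic i f * (X - Polynomial.C 1) ^ (d + d - basicDeg i) := by
  classical
  obtain ⟨hm, hdeg, -⟩ := basic_data h hf
  have hu : SympPrimeOrderClasses.Real F r (basic i f) := by
    unfold basic
    split_ifs with he
    · exact SympPrimeOrderClasses.real_self h hf he
    · exact SympPrimeOrderClasses.real_pair (mem_data h hf).1 (dvd_pow_sub_one h hf)
        (coeff_zero_ne h (dvd_pow_sub_one h hf))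
  obtain ⟨w, hw⟩ : Even (d + d - basicDeg i) := by
    obtain ⟨a, ha⟩ := even_basicDeg i; exact ⟨d - a, by omega⟩
  obtain ⟨a, x, hx, hxd, hxP⟩ := SympPrimeOrderClasses.real_mul hu
    (SympPrimeOrderClasses.real_one_pow (F := F) r w)
  rw [hm.natDegree_mul ((monic_X_sub_C 1).pow _), hdeg, natDegree_pow, natDegree_X_sub_C, mul_one] at hxd
  obtain rfl : a = d := by omega
  obtain ⟨g, hg⟩ : ∃ g : GL (Fin a ⊕ Fin a) F, (g : Matrix (Fin a ⊕ Fin a) (Fin a ⊕ Fin a) F) = x.1 :=
    (Matrix.isUnit_iff_isUnit_det _).2 (SymplecticGroup.symplectic_det x.2)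
  have hgr : (g : Matrix (Fin a ⊕ Fin a) (Fin a ⊕ Fin a) F) ^ r = 1 := by
    rw [hg, ← SubmonoidClass.coe_pow, hx]; rfl
  have hexp : a + a - basicDeg i = 2 * w := by omega
  refine ⟨g, fun u v => ?_, by rw [Units.val_pow_eq_pow_val, hgr, one_smul], fun z hz => ?_,
    by rw [hg, hxP, hexp]⟩
  · show sympForm a F (g.1 *ᵥ u) (g.1 *ᵥ v) = sympForm a F u v
    rw [hg]; exact Classical.mem_symplecticGroup_iff_form.1 x.2 u v
  obtain ⟨hfm, hfi, -, -⟩ := mem_data h hf
  have ha : 1 ≤ a := by have := basicDeg_pos h; omega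
  let v : Fin a ⊕ Fin a → F := Pi.single (Sum.inl ⟨0, ha⟩) 1
  have hv : v ≠ 0 := fun h0 => by simpa [v] using congrFun h0 (Sum.inl ⟨0, ha⟩)
  obtain ⟨u, hu'⟩ := Classical.exists_sympForm_eq_one hv
  have hz2 : z * z = 1 := by
    have h5 := Classical.mem_symplecticGroup_iff_form.1 x.2 v u
    rw [← hg, hz] at h5
    simpa [Matrix.smul_mulVec, Classical.sympForm_smul_left, Classical.sympForm_smul_right, hu'] using h5
  have hzr : z ^ r = 1 := by
    rw [hz, _root_.smul_pow, one_pow] at hgr
    have := congrFun (congrFun hgr (Sum.inl ⟨0, ha⟩)) (Sum.inl ⟨0, ha⟩)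
    simpa using this
  have hz1 : z = 1 := by
    obtain ⟨j, hj⟩ := h.prime.odd_of_ne_two h.odd
    rw [hj, pow_succ, pow_mul, sq, hz2, one_pow, one_mul] at hzr
    exact hzr
  have hfb : f ∣ (X - Polynomial.C 1) ^ (a + a) := by
    have hch : (g : Matrix (Fin a ⊕ Fin a) (Fin a ⊕ Fin a) F).charpoly = (X - Polynomial.C 1) ^ (a + a) := by
      rw [hz, hz1, Matrix.smul_one_eq_diagonal, Matrix.charpoly_diagonal, Finset.prod_const, Finset.card_univ,
        Fintype.card_sum, Fintype.card_fin]
    rw [hg, hxP] at hch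
    refine hch ▸ Dvd.dvd.mul_right ?_ _
    unfold basic; split_ifs
    · exact dvd_rfl
    · exact dvd_mul_right _ _
  exact X_sub_one_notMem h (Polynomial.eq_of_monic_of_associated hfm (monic_X_sub_C 1)
    (hfi.associated_of_dvd (irreducible_X_sub_C 1) (hfi.prime.dvd_of_dvd_pow hfb)) ▸ hf)

end Symp

end Cfsg.Agent.FieldExtSympBasic
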