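import Cfsg.Agent.Lib.Classical.Symp
import Cfsg.Agent.Lib.Classical.NormalForms
import Cfsg.Prelude.Def_Classical

/-! Ranks of standard involutions in characteristic two. -/

set_option autoImplicit false

namespace Cfsg.Agent.Lie

open Matrix

section Alt

variable {F V : Type*} [Field F] [AddCommGroup V] [Module F V] [FiniteDimensional F V]

theorem alt_rank_even (B : LinearMap.BilinForm F V) (hA : B.IsAlt) (n : ℕ) :
    ∀ W : Submodule F V, Module.finrank F W = n →
      ∃ m, n = Module.finrank F (W ⊓ B.orthogonal W : Submodule F V) + 2 * m := by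
  induction n using Nat.strong_induction_on with
  | _ n ih =>
    intro W hW
    have hsw : ∀ u v, B u v = -B v u := fun u v => by rw [LinearMap.IsAlt.neg hA v u]
    by_cases hz : ∀ u ∈ W, ∀ v ∈ W, B u v = 0
    · refine ⟨0, ?_⟩
      rw [inf_eq_left.2 fun w hw => LinearMap.BilinForm.mem_orthogonal_iff.2 fun u hu => hz u hu w hw]
      omega
    · push Not at hz
      obtain ⟨e, he, f₁, hf₁, hef⟩ := hz
      set f := (B e f₁)⁻¹ • f₁
      have hf : f ∈ W := W.smul_mem _ hf₁
      have h1 : B e f = 1 := by simp [f, inv_mul_cancel₀ hef]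
      have hr := Classical.finrank_inf_two_kers W (-(B f)) (B e) he hf
        (by rw [LinearMap.neg_apply, hsw f e, neg_neg, h1]) (by rw [LinearMap.neg_apply, hA, neg_zero]) h1
      set W' := W ⊓ LinearMap.ker (-(B f)) ⊓ LinearMap.ker (B e)
      obtain ⟨m, hm⟩ := ih _ (by omega) W' rfl
      refine ⟨m + 1, ?_⟩
      have hrad : (W ⊓ B.orthogonal W : Submodule F V) = W' ⊓ B.orthogonal W' := by
        refine le_antisymm (fun w hw0 => ?_) (fun w hw0 => ?_) <;> obtain ⟨hw, ho⟩ := hw0
        · rw [SetLike.mem_coe, LinearMap.BilinForm.mem_orthogonal_iff] at ho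
          exact ⟨⟨⟨hw, neg_eq_zero.2 (ho f hf)⟩, ho e he⟩,
            LinearMap.BilinForm.mem_orthogonal_iff.2 fun u hu => ho u hu.1.1⟩
        · rw [SetLike.mem_coe, LinearMap.BilinForm.mem_orthogonal_iff] at ho
          refine ⟨hw.1.1, LinearMap.BilinForm.mem_orthogonal_iff.2 fun u hu => ?_⟩
          have h2 : u - (-(B f u)) • e - (B e u) • f ∈ W' :=
            ⟨⟨W.sub_mem (W.sub_mem hu (W.smul_mem _ he)) (W.smul_mem _ hf), by
              simp [LinearMap.mem_ker, hA f, hsw f e, h1]⟩, by simp [LinearMap.mem_ker, hA e, h1]⟩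
          have h3 : B e w = 0 := hw.2
          have h4 : B f w = 0 := neg_eq_zero.1 hw.1.2
          simpa [LinearMap.BilinForm.IsOrtho, h3, h4] using ho _ h2
      rw [hrad]
      omega

end Alt

section CharTwo

variable {F : Type*} [Field F] [CharP F 2] {n : ℕ}

theorem det_eq_one_of_sq {A : Matrix (Fin n) (Fin n) F} (h : A * A = 1) : A.det = 1 := by
  have h1 : A.det * A.det = 1 := by rw [← Matrix.det_mul, h, Matrix.det_one]
  have h2 : (A.det - 1) ^ 2 = 0 := by rw [sub_pow_char (p := 2), sq, h1, one_pow, sub_self]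
  exact sub_eq_zero.1 (pow_eq_zero_iff (by norm_num) |>.1 h2)

theorem mul_self_eq_one_of_sq_sub {A : Matrix (Fin n) (Fin n) F} (h : (A - 1) * (A - 1) = 0) :
    A * A = 1 := by
  have h2 : (2 : F) = 0 := CharP.cast_eq_zero F 2
  have e : A * A = (A - 1) * (A - 1) + (2 : F) • (A - 1) + 1 := by
    rw [two_smul]; noncomm_ring
  rw [e, h, h2, zero_smul, add_zero, zero_add]

omit [CharP F 2] in
theorem rank_eq_of_submatrix {ℓ : ℕ} {M : Matrix (Fin n) (Fin n) F}
    (r c : Fin ℓ → Fin n) (hc : M.submatrix r c = 1)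
    (A : Matrix (Fin n) (Fin ℓ) F) (B : Matrix (Fin ℓ) (Fin n) F) (h : M = A * B) :
    M.rank = ℓ := by
  refine le_antisymm ?_ ?_
  · rw [h]
    exact (Matrix.rank_mul_le_left A B).trans (Matrix.rank_le_width A)
  · have h1 := Matrix.rank_submatrix_le M r c
    rwa [hc, Matrix.rank_one, Fintype.card_fin] at h1

end CharTwo

end Cfsg.Agent.Lie
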