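import Cfsg.Agent.Lib.Classical.OrthEvenNondegTwo
import Cfsg.Agent.Lib.Classical.OrthEvenOmega
import Cfsg.Agent.Lib.Classical.InvolutionRanks

/-! Square-zero unipotent elements of `Ω^±_{2d}(q)` and non-degenerate subspaces of even dimension: ranks. -/

set_option autoImplicit false
set_option linter.unusedSectionVars false
set_option quotPrecheck false

namespace Cfsg.Agent.OrthEvenNondegUnipotent

open Module Matrix Cfsg.Agent.Classical Cfsg.Agent.Classical.OrthAut Cfsg.Agent.OrthNondegInvolution
  Cfsg.Agent.OrthNondegDerange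

variable {F : Type*} [Field F] [Fintype F] {ι : Type} [Fintype ι] [DecidableEq ι] {Q : QuadraticForm F (ι → F)}

local notation "B" => QuadraticMap.polar ⇑Q

/-- An isometry `1 + N` with `N ^ 2 = 0` and totally singular image. -/
structure Sq (Q : QuadraticForm F (ι → F)) (N : Module.End F (ι → F)) : Prop where
  sq : ∀ v, N (N v) = 0
  ts : ∀ v, Q (N v) = 0
  iso : ∀ v, Q (v + N v) = Q v

variable {N : Module.End F (ι → F)}

theorem Sq.polar_range (h : Sq Q N) (u v : ι → F) : B (N u) (N v) = 0 := by
  simp only [QuadraticMap.polar, ← map_add, h.ts, sub_zero]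

theorem Sq.alt (h : Sq Q N) (v : ι → F) : B v (N v) = 0 := by
  have e := h.iso v
  rw [QuadraticMap.map_add ⇑Q, h.ts, add_zero] at e
  exact add_eq_left.1 e

theorem Sq.skew (h : Sq Q N) (u v : ι → F) : B (N u) v = -B u (N v) := by
  have e := h.alt (u + v)
  rw [map_add, QuadraticMap.polar_add_left, QuadraticMap.polar_add_right, QuadraticMap.polar_add_right, h.alt, h.alt,
    QuadraticMap.polar_comm _ v (N u)] at e
  linear_combination e

theorem Sq.rank_even (h : Sq Q N) {W : Submodule F (ι → F)} (hW : NonSing Q W) (hinv : ∀ w ∈ W, N w ∈ W) :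
    Even (finrank F (W.map N)) := by
  set φ : LinearMap.BilinForm F (ι → F) := QuadraticMap.polarBilin Q ∘ₗ N
  have hφ : ∀ u v, φ u v = B (N u) v := fun u v => rfl
  have hA : φ.IsAlt := fun v => by rw [hφ, QuadraticMap.polar_comm, h.alt]
  obtain ⟨m, hm⟩ := Cfsg.Agent.Lie.alt_rank_even φ hA _ W rfl
  have hker : (W ⊓ φ.orthogonal W : Submodule F (ι → F)) = W ⊓ LinearMap.ker N := by
    refine le_antisymm (fun v hv => ⟨hv.1, ?ker⟩) fun v hv => ⟨hv.1, LinearMap.BilinForm.mem_orthogonal_iff.2 fun u hu => ?orth⟩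
    case ker =>
      refine LinearMap.mem_ker.2 (by_contra fun h0 => ?_)
      obtain ⟨u, hu, hne⟩ := hW (N v) (hinv v hv.1) h0
      refine hne ?_
      have h1 : φ u v = 0 := LinearMap.BilinForm.mem_orthogonal_iff.1 hv.2 u hu
      rw [hφ, h.skew, QuadraticMap.polar_comm, neg_eq_zero] at h1
      exact h1
    case orth =>
      show φ u v = 0
      rw [hφ, h.skew, LinearMap.mem_ker.1 hv.2, QuadraticMap.polar_zero_right, neg_zero]
  rw [hker] at hm
  have h2 := LinearMap.finrank_range_add_finrank_ker (N ∘ₗ W.subtype)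
  rw [LinearMap.range_comp, Submodule.range_subtype, LinearMap.ker_comp,
    show (LinearMap.ker N).comap W.subtype = (W ⊓ LinearMap.ker N).comap W.subtype from by ext; simp,
    (Submodule.comapSubtypeEquivOfLe (inf_le_left : W ⊓ LinearMap.ker N ≤ W)).finrank_eq] at h2
  exact ⟨m, by omega⟩

variable (hQ : (QuadraticMap.polarBilin Q).Nondegenerate) {d M : ℕ} (hι : Fintype.card ι = 2 * d) (hM : 1 ≤ M)
  (hMd : M < d) (b b' : Prop) (hb : EvenType.Plus Q ↔ (b ↔ b'))

include hQ hι hM hMd hb in
/-- The ranks on an invariant subspace and on its complement. -/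
theorem split_rank (h : Sq Q N) {W : Submodule F (ι → F)} (hW : Good Q M b W) (hinv : ∀ w ∈ W, N w ∈ W) :
    ∃ s₁ s₂ : ℕ, s₁ + s₂ = finrank F (LinearMap.range N) ∧ Even s₁ ∧ Even s₂ ∧ s₁ ≤ M ∧ s₂ + M ≤ d ∧
      (s₁ = M → b) ∧ (s₂ + M = d → b') := by
  obtain ⟨hWd, hWn, hWb⟩ := (good_iff Q W).1 hW
  obtain ⟨hTd, hTn, hTb⟩ := OrthEvenNondegCount.perp_data hQ hι hM hMd b b' hb hW
  have hs := OrthNondegCount.split_perp hWn
  set T := OrthNondegCount.perp Q W
  have hinvT : ∀ v ∈ T, N v ∈ T := fun v hv => by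
    rw [OrthNondegCount.mem_perp] at hv ⊢
    intro w hw
    have := h.skew w v
    rw [hv (N w) (hinv w hw), eq_comm, neg_eq_zero] at this
    exact this
  have hNW : NonSing Q W := fun w hw hw0 => (((OrthNondegRealize.nondeg_on_iff W).2 hWn) w hw hw0).2
  have hNT : NonSing Q T := fun w hw hw0 => (((OrthNondegRealize.nondeg_on_iff T).2 hTn) w hw hw0).2
  have half : ∀ {S : Submodule F (ι → F)}, (QuadraticMap.polarBilin (EvenType.res Q S)).Nondegenerate →
      (∀ v ∈ S, N v ∈ S) → 2 * finrank F (S.map N) ≤ finrank F S ∧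
        (2 * finrank F (S.map N) = finrank F S → EvenType.Plus (EvenType.res Q S)) := fun {S} hn hinvS => by
    have hle : S.map N ≤ S := by rintro _ ⟨v, hv, rfl⟩; exact hinvS v hv
    have hiso : ∀ u ∈ S.map N, ∀ v ∈ S.map N, B u v = 0 := by
      rintro _ ⟨u, -, rfl⟩ _ ⟨v, -, rfl⟩; exact h.polar_range u v
    refine ⟨?_, fun e => (EvenType.plus_res_iff S).2 ⟨S.map N, hle, ?_, e⟩⟩
    · set U := (S.map N).comap S.subtype
      have hU : U ≤ LinearMap.BilinForm.orthogonal (QuadraticMap.polarBilin (EvenType.res Q S)) U := fun x hx =>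
        LinearMap.BilinForm.mem_orthogonal_iff.2 fun y hy => hiso _ hy _ hx
      have h1 := Submodule.finrank_mono hU
      rw [LinearMap.BilinForm.finrank_orthogonal hn,
        (Submodule.comapSubtypeEquivOfLe hle).finrank_eq] at h1
      omega
    · rintro _ ⟨u, -, rfl⟩; exact h.ts u
  have hsum : finrank F (W.map N) + finrank F (T.map N) = finrank F (LinearMap.range N) := by
    have hd' : W.map N ⊓ T.map N = ⊥ := by
      refine eq_bot_iff.2 (le_trans (inf_le_inf ?_ ?_) hs.inf.le)
      · rintro _ ⟨v, hv, rfl⟩; exact hinv v hv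
      · rintro _ ⟨v, hv, rfl⟩; exact hinvT v hv
    have h1 := Submodule.finrank_sup_add_finrank_inf_eq (W.map N) (T.map N)
    rw [hd', finrank_bot, add_zero, ← Submodule.map_sup, hs.sup, Submodule.map_top] at h1
    exact h1.symm
  refine ⟨_, _, hsum, h.rank_even hNW hinv, h.rank_even hNT hinvT, ?_, ?_, fun e => hWb.1 ((half hWn hinv).2 (by omega)),
    fun e => hTb.1 ((half hTn hinvT).2 (by omega))⟩
  · have := (half hWn hinv).1; omega
  · have := (half hTn hinvT).1; omega

variable {d : ℕ}

/-- A square-zero map of rank at least `d - 1` with totally singular image, on the plus space. -/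
theorem exists_sq (d : ℕ) : ∃ N : Module.End F (Fin d ⊕ Fin d → F),
    Sq (qfPlus d F) N ∧ d ≤ finrank F (LinearMap.range N) + 1 := by
  classical
  obtain ⟨e, f, hf, hd⟩ : ∃ e f, f ≤ 1 ∧ (e + e) + f = d := ⟨d / 2, d % 2, by omega, by omega⟩
  let π : Fin d ≃ (Fin e ⊕ Fin e) ⊕ Fin f :=
    (finCongr hd.symm).trans (finSumFinEquiv.symm.trans (Equiv.sumCongr finSumFinEquiv.symm (Equiv.refl _)))
  let A : (Fin d → F) →ₗ[F] (Fin d → F) :=
    { toFun := fun y i => Sum.elim (Sum.elim (fun k => y (π.symm (Sum.inl (Sum.inr k))))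
        fun k => -y (π.symm (Sum.inl (Sum.inl k)))) (fun _ => 0) (π i)
      map_add' := fun x y => funext fun i => by
        rcases hπ : π i with (k | k) | k <;> simp [hπ] <;> ring
      map_smul' := fun c y => funext fun i => by
        rcases hπ : π i with (k | k) | k <;> simp [hπ] }
  have hAy : ∀ y i, A y i = Sum.elim (Sum.elim (fun k => y (π.symm (Sum.inl (Sum.inr k))))
      fun k => -y (π.symm (Sum.inl (Sum.inl k)))) (fun _ => 0) (π i) := fun y i => rfl
  let N : Module.End F (Fin d ⊕ Fin d → F) :=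
    { toFun := fun v => Sum.elim (A fun i => v (Sum.inr i)) fun _ => 0
      map_add' := fun x y => funext fun i => by
        rcases i with i | i
        · exact congrFun (A.map_add (fun i => x (Sum.inr i)) fun i => y (Sum.inr i)) i
        · simp
      map_smul' := fun c y => funext fun i => by
        rcases i with i | i
        · exact congrFun (A.map_smul c fun i => y (Sum.inr i)) i
        · simp }
  have hN : ∀ v i, N v (Sum.inl i) = A (fun j => v (Sum.inr j)) i ∧ N v (Sum.inr i) = 0 := fun v i => ⟨rfl, rfl⟩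
  have hval : ∀ v, qfPlus d F v = ∑ i, v (Sum.inl i) * v (Sum.inr i) := fun v => by
    rw [qfPlus_apply, quadFormPlus]
  refine ⟨N, ⟨fun v => funext fun i => ?_, fun v => ?_, fun v => ?_⟩, ?_⟩
  · rcases i with i | i
    · rw [(hN _ i).1, show (fun j => N v (Sum.inr j)) = 0 from funext fun j => (hN v j).2, map_zero]
      rfl
    · exact (hN _ i).2
  · rw [hval]
    exact Finset.sum_eq_zero fun i _ => by rw [(hN v i).2, mul_zero]
  · rw [hval, hval, ← sub_eq_zero, ← Finset.sum_sub_distrib]
    have h1 : ∀ i, (v + N v) (Sum.inl i) * (v + N v) (Sum.inr i) - v (Sum.inl i) * v (Sum.inr i) =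
        A (fun j => v (Sum.inr j)) i * v (Sum.inr i) := fun i => by
      rw [Pi.add_apply, Pi.add_apply, (hN v i).1, (hN v i).2]; ring
    rw [Finset.sum_congr rfl fun i _ => h1 i, ← π.symm.sum_comp, Fintype.sum_sum_type, Fintype.sum_sum_type]
    simp only [hAy, π.apply_symm_apply, Sum.elim_inl, Sum.elim_inr, zero_mul, Finset.sum_const_zero, add_zero]
    rw [← Finset.sum_add_distrib]
    exact Finset.sum_eq_zero fun k _ => by ring
  · let L : (Fin e ⊕ Fin e → F) →ₗ[F] (Fin d ⊕ Fin d → F) :=
      { toFun := fun z => Sum.elim (fun _ => 0) fun i => Sum.elim z (fun _ => 0) (π i)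
        map_add' := fun x y => funext fun i => by
          rcases i with i | i
          · simp
          · rcases hπ : π i with k | k <;> simp [hπ]
        map_smul' := fun c y => funext fun i => by
          rcases i with i | i
          · simp
          · rcases hπ : π i with k | k <;> simp [hπ] }
    have hinj : Function.Injective (N ∘ₗ L) := (injective_iff_map_eq_zero _).2 fun z hz => funext fun k => by
      rcases k with k | k
      · have h := congrFun hz (Sum.inl (π.symm (Sum.inl (Sum.inr k))))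
        rw [LinearMap.comp_apply, (hN _ _).1, hAy, π.apply_symm_apply] at h
        simpa [L] using h
      · have h := congrFun hz (Sum.inl (π.symm (Sum.inl (Sum.inl k))))
        rw [LinearMap.comp_apply, (hN _ _).1, hAy, π.apply_symm_apply] at h
        simpa [L] using h
    have h1 := Submodule.finrank_mono (LinearMap.range_comp_le_range L N)
    rw [LinearMap.finrank_range_of_inj hinj, Module.finrank_pi, Fintype.card_sum, Fintype.card_fin] at h1
    omega

/-- The isometry `1 + N` lies in `Ω` and has order `p` modulo scalars. -/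
theorem exists_element {p : ℕ} [Fact p.Prime] [CharP F p] (hQ : (QuadraticMap.polarBilin Q).Nondegenerate)
    (hι : Fintype.card ι = 2 * d) (hd : 3 ≤ d) (h : Sq Q N) (h0 : N ≠ 0) :
    ∃ x : GL ι F, x ∈ Geo.omegaGL ⇑Q ∧ (∃ z : F, ((x ^ p : GL ι F) : Matrix ι ι F) = z • (1 : Matrix ι ι F)) ∧
      (∀ z : F, (x : Matrix ι ι F) ≠ z • (1 : Matrix ι ι F)) ∧
      ∀ v, (x : Matrix ι ι F) *ᵥ v = v + N v := by
  classical
  set T : Matrix ι ι F := 1 + LinearMap.toMatrix' N
  have hT : ∀ v, T *ᵥ v = v + N v := fun v => by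
    rw [Matrix.add_mulVec, Matrix.one_mulVec, LinearMap.toMatrix'_mulVec]
  have hpow : ∀ (n : ℕ) v, (T ^ n) *ᵥ v = v + (n : F) • N v := fun n => by
    induction n with
    | zero => intro v; simp
    | succ n ih =>
      intro v
      rw [pow_succ', ← Matrix.mulVec_mulVec, ih, hT, map_add, map_smul, h.sq, smul_zero, add_zero, Nat.cast_succ,
        add_smul, one_smul]
      abel
  have hp : T ^ p = 1 := Matrix.ext_iff_mulVec.2 fun v => by
    rw [hpow, CharP.cast_eq_zero, zero_smul, add_zero, Matrix.one_mulVec]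
  let x : GL ι F := Units.ofPowEqOne T p hp (Fact.out : p.Prime).ne_zero
  have hmem : x ∈ isometryGroup F ⇑Q := mem_isometryGroup.2 fun v => by
    show Q (T *ᵥ v) = Q v
    rw [hT, h.iso]
  have hxp : x ^ p = 1 := Units.pow_ofPowEqOne _ _
  refine ⟨x, ?_, ⟨1, by rw [hxp, Units.val_one, one_smul]⟩, fun z hz => h0 ?_, hT⟩
  · rcases (Fact.out : p.Prime).eq_two_or_odd' with rfl | hodd
    · let g : isometryGroup F ⇑Q := ⟨x, hmem⟩
      have hG : GenQ F ι := Or.inr (by omega)
      have hq : ∀ v, SympEven.qmove g v = N v := fun v => by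
        rw [SympEven.qmove_apply, show ogVal g = T from rfl, hT, add_right_comm, show v + v = (0 : ι → F) from
          funext fun i => CharTwo.add_self_eq_zero (v i)]
        exact zero_add _
      refine ⟨g, ((SympEven.omegaDick_of_genQ hQ hG).1 g).2 ((SympEven.dick_involution hQ hι g).2 ?_), rfl⟩
      rw [LinearMap.ext hq]
      have := h.rank_even (W := ⊤) (OrthAut.nondeg_top hQ) fun w _ => Submodule.mem_top
      rwa [Submodule.map_top] at this
    · exact NonsingularPointDerange.mem_omegaGL_gen Q hQ (Or.inr (by omega)) x hmem hodd hxp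
  · obtain ⟨a⟩ : Nonempty ι := Fintype.card_pos_iff.1 (by omega)
    have hz' : T = z • (1 : Matrix ι ι F) := hz
    have h1 : ∀ v, N v = (z - 1) • v := fun v => by
      have h2 := hT v
      rw [hz', Matrix.smul_mulVec, Matrix.one_mulVec] at h2
      rw [sub_smul, one_smul, h2, add_sub_cancel_left]
    have hz1 : z - 1 = 0 := by
      have h2 := congrFun (h.sq (Pi.single a 1)) a
      rw [h1, h1] at h2
      simpa using h2
    exact LinearMap.ext fun v => by rw [h1, hz1, zero_smul]; rfl

end Cfsg.Agent.OrthEvenNondegUnipotent
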