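import Cfsg.Agent.Lib.Classical.OrthNondegCount

/-! Primes dividing the number of odd dimensional non-degenerate subspaces of one class in even dimension. -/

set_option autoImplicit false

namespace Cfsg.Agent.OrthEvenOddCount

open Module Cfsg.Agent.Classical Cfsg.Agent.OrthSingularCount Cfsg.Agent.OrthNondegCount

variable {F : Type*} [Field F] [Fintype F] {V : Type*} [AddCommGroup V] [Module F V] [FiniteDimensional F V]
  {Q : QuadraticForm F V}

theorem isoCard_even (hQ : (QuadraticMap.polarBilin Q).Nondegenerate) {m : ℕ} (hV : finrank F V = 2 * (m + 1)) :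
    ∃ s : ℤ, (EvenType.Plus Q → s = 1) ∧ (¬ EvenType.Plus Q → s = -1) ∧
      (isoCard Q : ℤ) = 2 * (Fintype.card F : ℤ) ^ (m * (m + 1)) * ((Fintype.card F : ℤ) ^ (m + 1) - s) *
        ∏ i ∈ Finset.range m, ((Fintype.card F : ℤ) ^ (2 * (i + 1)) - 1) := by
  rcases EvenType.exists_std hQ hV with ⟨hp, e, he⟩ | ⟨hp, ζ, e, hζ, he⟩
  · exact ⟨1, fun _ => rfl, fun h => absurd hp h, by rw [← isoCard_congr e he, order_qfPlus]⟩
  · refine ⟨-1, fun h => absurd h hp, fun _ => rfl, ?_⟩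
    rw [← isoCard_congr e he, order_qfMinus m (EvenType.aniso_one hζ), sub_neg_eq_add]

/-- A prime dividing the size of a class of odd dimensional non-degenerate subspaces. -/
theorem exists_exponent (hQ : (QuadraticMap.polarBilin Q).Nondegenerate) (h2 : (2 : F) ≠ 0) {d a r : ℕ}
    (hV : finrank F V = 2 * d) (ha : a < d) (hr : r.Prime) (hr2 : r ≠ 2) (hrq : ¬ r ∣ Fintype.card F)
    (P : Submodule F V → Prop) {W : Submodule F V} (hWd : finrank F W = 2 * a + 1)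
    (hWn : (QuadraticMap.polarBilin (EvenType.res Q W)).Nondegenerate)
    (horb : ∀ W', P W' ↔ ∃ φ : W ≃ₗ[F] W', ∀ w, EvenType.res Q W' (φ w) = EvenType.res Q W w)
    (h : r ∣ Nat.card {W' // P W'}) :
    (EvenType.Plus Q ∧ r ∣ Fintype.card F ^ d - 1) ∨ (¬ EvenType.Plus Q ∧ r ∣ Fintype.card F ^ d + 1) ∨
      ∃ j, d ≤ j + a ∧ j < d ∧ r ∣ Fintype.card F ^ (2 * j) - 1 := by
  obtain ⟨m, rfl⟩ : ∃ m, d = m + 1 := ⟨d - 1, by omega⟩
  have hs := split_perp hWn
  have hperp : finrank F (perp Q W) = 2 * (m - a) + 1 := by have := hs.dim; omega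
  have hcz := congrArg (Nat.cast : ℕ → ℤ) (card_orbit hQ P hWn horb)
  obtain ⟨s, hs1, hs2, hiso⟩ := isoCard_even hQ hV
  rw [Nat.cast_mul, Nat.cast_mul, hiso, isoCard_odd h2 hperp (hs.symm.nondeg_left hQ),
    show (∏ i ∈ Finset.range m, ((Fintype.card F : ℤ) ^ (2 * (i + 1)) - 1)) =
      (∏ i ∈ Finset.range (m - a), ((Fintype.card F : ℤ) ^ (2 * (i + 1)) - 1)) *
        ∏ i ∈ Finset.range a, ((Fintype.card F : ℤ) ^ (2 * (m - a + i + 1)) - 1) by
      rw [← Finset.prod_range_add, Nat.sub_add_cancel (by omega : a ≤ m)]] at hcz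
  set A := ∏ i ∈ Finset.range (m - a), ((Fintype.card F : ℤ) ^ (2 * (i + 1)) - 1)
  set q : ℤ := (Fintype.card F : ℤ)
  have hq : 1 < q := Nat.one_lt_cast.2 (Fintype.one_lt_card (α := F))
  have hA : A ≠ 0 := Finset.prod_ne_zero_iff.2 fun i _ =>
    sub_ne_zero.2 (one_lt_pow₀ hq (show 2 * (i + 1) ≠ 0 by omega)).ne'
  set S := ∏ i ∈ Finset.range a, (q ^ (2 * (m - a + i + 1)) - 1)
  have hrP : Prime (r : ℤ) := Nat.prime_iff_prime_int.1 hr
  have hkey : (r : ℤ) ∣ q ^ (m * (m + 1)) * ((q ^ (m + 1) - s) * S) := by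
    obtain ⟨k, hk⟩ := h
    rw [hk, Nat.cast_mul] at hcz
    refine ⟨(k : ℤ) * (isoCard (EvenType.res Q W) : ℤ) * q ^ ((m - a) ^ 2),
      mul_left_cancel₀ (mul_ne_zero (two_ne_zero (α := ℤ)) hA) ?_⟩
    linear_combination hcz
  rcases hrP.dvd_or_dvd hkey with h' | h'
  · exact absurd (Int.natCast_dvd_natCast.1 (hrP.dvd_of_dvd_pow h')) hrq
  rcases hrP.dvd_or_dvd h' with h' | h'
  · by_cases hp : EvenType.Plus Q
    · refine Or.inl ⟨hp, Int.natCast_dvd_natCast.1 ?_⟩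
      rw [Nat.cast_sub (Nat.one_le_pow _ _ Fintype.card_pos)]
      push_cast
      rwa [hs1 hp] at h'
    · refine Or.inr (Or.inl ⟨hp, Int.natCast_dvd_natCast.1 ?_⟩)
      rw [hs2 hp, sub_neg_eq_add] at h'
      push_cast
      exact h'
  · obtain ⟨i, hi, hd⟩ := hrP.exists_mem_finset_dvd h'
    have := Finset.mem_range.1 hi
    refine Or.inr (Or.inr ⟨m - a + i + 1, by omega, by omega, Int.natCast_dvd_natCast.1 ?_⟩)
    rw [Nat.cast_sub (Nat.one_le_pow _ _ Fintype.card_pos)]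
    push_cast
    exact hd

end Cfsg.Agent.OrthEvenOddCount
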