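import Cfsg.Agent.Lib.Classical.OrthEvenTS

/-! The criterion for totally singular subspaces in even dimension, odd primes. -/

set_option autoImplicit false
set_option linter.unusedSectionVars false

namespace Cfsg.Agent.OrthEvenTSCriterion

open Polynomial Matrix Module Cfsg.Agent.SelfReciprocalFactors Cfsg.Agent.SelfRecipDivisors
  Cfsg.Agent.UnitaryDetCentralizer Cfsg.Agent.Classical Cfsg.Agent.OrthNondegDerange Cfsg.Agent.OrthEvenTS

variable {F : Type*} [Field F] [Fintype F] {r i t : ℕ} {ι : Type} [Fintype ι] [DecidableEq ι]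
  (Q : QuadraticForm F (ι → F))

/-- The number theoretic criterion. -/
def Crit (i t d m : ℕ) (ε : Prop) : Prop :=
  (Even i ∧ SplitArith.Crit (i / 2) t d m ε) ∨ (Odd i ∧ SplitArith.CritOdd i d m ε)

/-- A multiple of `half i` read off a congruence for a power of `q`. -/
theorem mult_of_pow (h : Ctx F r i t) {j : ℕ} {z : ZMod r} (hz : z * z = 1)
    (hj : (Fintype.card F : ZMod r) ^ j = z) : ∃ w, j = half i * w := by
  have hij : i ∣ 2 * j := by
    rw [h.hi]
    apply orderOf_dvd_of_pow_eq_one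
    rw [two_mul, pow_add, show (Fintype.card F : ZMod r) ^ j = z from hj]
    exact hz
  unfold half
  split_ifs with he
  · obtain ⟨k, rfl⟩ := he
    rw [show (k + k) / 2 = k by omega]
    exact Nat.dvd_of_mul_dvd_mul_left two_pos (by rwa [two_mul])
  · exact (Nat.coprime_two_right.2 (Nat.not_even_iff_odd.1 he)).dvd_of_dvd_mul_left hij

theorem charpoly_mem (h : Ctx F r i t) (hQ : (QuadraticMap.polarBilin Q).Nondegenerate) {d : ℕ}
    (hι : Fintype.card ι = 2 * d) (g : isometryGroup F ⇑Q) (hgr : g ^ r = 1) :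
    ((g : GL ι F) : Matrix ι ι F).charpoly ∈ selfRecip F r (2 * d) ∧
      (((g : GL ι F) : Matrix ι ι F).charpoly.eval 1 = 0 ∨
        (Fintype.card F : ZMod r) ^ d = OrthPrimeOrderClasses.sgn r Q) := by
  have hV : finrank F (ι → F) = 2 * d := by rw [Module.finrank_pi, hι]
  have hmem : ((g : GL ι F) : Matrix ι ι F).charpoly ∈ OrthPrimeOrderClasses.spec r Q := by
    refine ⟨Matrix.toLinAlgEquiv' ((g : GL ι F) : Matrix ι ι F),
      fun v => by rw [Matrix.toLinAlgEquiv'_apply]; exact mem_isometryGroup.1 g.2 v, ?_,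
      OrthIsoDerange.charpoly_eq _⟩
    rw [← map_pow, ← Units.val_pow_eq_pow_val, ← SubgroupClass.coe_pow, hgr, OneMemClass.coe_one, Units.val_one,
      map_one]
  rwa [OrthPrimeOrderClasses.spec_even h hV Q hQ] at hmem

/-- An element of `Ω` with given characteristic polynomial. -/
theorem exists_element (h : Ctx F r i t) (hQ : (QuadraticMap.polarBilin Q).Nondegenerate) (hG : OrthAut.GenQ F ι)
    {d : ℕ} (hι : Fintype.card ι = 2 * d) {N : Multiset F[X]} (hN : ∀ u ∈ N, u ∈ basics F r i) (hpos : 0 < N.card)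
    {j : ℕ} (hA : half i * N.card + j = d)
    (hj : 0 < j ∨ (Fintype.card F : ZMod r) ^ d = OrthPrimeOrderClasses.sgn r Q) :
    ∃ x : GL ι F, x ∈ Geo.omegaGL ⇑Q ∧ x ^ r = 1 ∧ (∀ z : F, (x : Matrix ι ι F) ≠ z • (1 : Matrix ι ι F)) ∧
      (x : Matrix ι ι F).charpoly = N.prod * (X - Polynomial.C 1) ^ (2 * j) := by
  classical
  have hV : finrank F (ι → F) = 2 * d := by rw [Module.finrank_pi, hι]
  have hP := mem_selfRecip h hN (2 * j)
  rw [← two_half, mul_assoc, ← Nat.mul_add, hA] at hP
  have hspec : N.prod * (X - Polynomial.C 1) ^ (2 * j) ∈ OrthPrimeOrderClasses.spec r Q := by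
    rw [OrthPrimeOrderClasses.spec_even h hV Q hQ]
    exact ⟨hP, hj.imp_left fun h' => OrthPrimeOrderClasses.eval_one_pow (by omega)⟩
  obtain ⟨g, hg, hgr, hgP⟩ := hspec
  set M := LinearMap.toMatrixAlgEquiv' g
  have hMr : M ^ r = 1 := by rw [← map_pow, hgr, map_one]
  let A : GL ι F := Units.ofPowEqOne M r hMr h.prime.ne_zero
  have hA' : (A : Matrix ι ι F) = M := rfl
  have hAiso : A ∈ isometryGroup F ⇑Q := mem_isometryGroup.2 fun v => by
    show Q (Matrix.toLinAlgEquiv' M v) = _
    rw [Matrix.toLinAlgEquiv'_toMatrixAlgEquiv', hg]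
  have hAr : A ^ r = 1 := Units.ext (by rw [Units.val_pow_eq_pow_val, hA', hMr, Units.val_one])
  refine ⟨A, NonsingularPointDerange.mem_omegaGL_gen Q hQ hG A hAiso (h.prime.odd_of_ne_two h.odd) hAr, hAr,
    fun z hz => ?_, ?_⟩
  · have hdpos : 1 ≤ d := by have := half_pos h; have := Nat.le_mul_of_pos_right (half i) hpos; omega
    haveI : Nonempty ι := Fintype.card_pos_iff.1 (by omega)
    have hzr : z ^ r = 1 := by
      have h1 : (z • (1 : Matrix ι ι F)) ^ r = 1 := by rw [← hz, ← Units.val_pow_eq_pow_val, hAr, Units.val_one]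
      rw [_root_.smul_pow, one_pow] at h1
      have h2 := congrFun (congrFun h1 (Classical.arbitrary ι)) (Classical.arbitrary ι)
      simpa using h2
    obtain ⟨v, w, hvw⟩ : ∃ v w : ι → F, QuadraticMap.polar (⇑Q) v w ≠ 0 := by
      by_contra hno
      push Not at hno
      have : (Pi.single (Classical.arbitrary ι) (1 : F) : ι → F) = 0 := hQ.1 _ fun w => hno _ w
      simpa using congrFun this (Classical.arbitrary ι)
    have h1 : ∀ u, Q (z • u) = Q u := fun u => by
      have := mem_isometryGroup.1 hAiso u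
      rwa [hz, Matrix.smul_mulVec, Matrix.one_mulVec] at this
    have h2 : QuadraticMap.polar (⇑Q) (z • v) (z • w) = QuadraticMap.polar (⇑Q) v w := by
      simp only [QuadraticMap.polar, ← smul_add, h1]
    rw [QuadraticMap.polar_smul_left, QuadraticMap.polar_smul_right, smul_eq_mul, smul_eq_mul, ← mul_assoc] at h2
    have hzz : z * z = 1 := mul_right_cancel₀ hvw (h2.trans (one_mul _).symm)
    have hz1 : z = 1 := by
      obtain ⟨k, hk⟩ := h.prime.odd_of_ne_two h.odd
      rw [hk, pow_succ, pow_mul, pow_two, hzz, one_pow, one_mul] at hzr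
      exact hzr
    have hg1 : g = 1 := by
      rw [← Matrix.toLinAlgEquiv'_toMatrixAlgEquiv' g]
      show Matrix.toLinAlgEquiv' M = 1
      rw [← hA', hz, hz1, one_smul, map_one]
    obtain ⟨u, hu⟩ := Multiset.card_pos_iff_exists_mem.1 hpos
    have hb : u ∣ (X - Polynomial.C (1 : F)) ^ finrank F (ι → F) := by
      rw [show (X - Polynomial.C (1 : F)) ^ finrank F (ι → F) = g.charpoly by
        rw [hg1, LinearMap.charpoly_one, map_one], hgP]
      exact (Multiset.dvd_prod hu).mul_right _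
    obtain ⟨f, hf, rfl⟩ := mem_basics.1 (hN u hu)
    obtain ⟨hfm, hfi, -, -⟩ := mem_data h hf
    have hfb : f ∣ basic i f := by
      rw [basic]; split_ifs
      exacts [dvd_rfl, dvd_mul_right _ _]
    exact X_sub_one_notMem h (Polynomial.eq_of_monic_of_associated hfm (monic_X_sub_C 1)
      (hfi.associated_of_dvd (irreducible_X_sub_C 1) (hfi.prime.dvd_of_dvd_pow (hfb.trans hb))) ▸ hf)
  · rw [hA', ← hgP, ← OrthIsoDerange.charpoly_eq, Matrix.toLinAlgEquiv'_toMatrixAlgEquiv']

variable (hQ : (QuadraticMap.polarBilin Q).Nondegenerate) (hG : OrthAut.GenQ F ι) {d m : ℕ}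
  (hι : Fintype.card ι = 2 * d) (hmd : m < d) (ε : Prop) [Decidable ε] (hε : EvenType.Plus Q ↔ ε)

include hQ hG hι hmd hε in
theorem criterion (h : Ctx F r i t)
    (hrΩ : r ∣ Nat.card {W : Submodule F (ι → F) // finrank F W = m ∧ ∀ w ∈ W, Q w = 0}) :
    (∀ x : GL ι F, x ∈ Geo.omegaGL ⇑Q → (∃ z : F, ((x ^ r : GL ι F) : Matrix ι ι F) = z • (1 : Matrix ι ι F)) →
      (∀ z : F, (x : Matrix ι ι F) ≠ z • (1 : Matrix ι ι F)) →
      ∃ W : Submodule F (ι → F), finrank F W = m ∧ (∀ w ∈ W, Q w = 0) ∧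
        W.map (Matrix.toLin' (x : Matrix ι ι F)) ≤ W) ↔ Crit i t d m ε := by
  classical
  have hh := half_pos h
  have hi0 := i_pos h
  have hd : 1 ≤ d := by omega
  have hV : finrank F (ι → F) = 2 * d := by rw [Module.finrank_pi, hι]
  have hsgn : (Fintype.card F : ZMod r) ^ d = OrthPrimeOrderClasses.sgn r Q ↔ PowTy F r d ε := by
    unfold PowTy
    rw [OrthPrimeOrderClasses.sgn]
    simp only [hε]
  have hqd : ∀ A j, half i * A + j = d → (0 < j ∨ PowTy F r d ε ↔ 0 < j ∨ PowTy F r (half i * A) ε) :=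
    fun A j hA => by
      rcases Nat.eq_zero_or_pos j with h0 | h0
      · subst h0; rw [← hA, Nat.add_zero]
      · simp [h0]
  have hinv : ∀ (x : GL ι F) (W : Submodule F (ι → F)), W.map (Matrix.toLin' (x : Matrix ι ι F)) ≤ W ↔
      ∀ w ∈ W, (x : Matrix ι ι F) *ᵥ w ∈ W := fun x W => by
    rw [Submodule.map_le_iff_le_comap]; exact Iff.rfl
  constructor
  · intro H
    by_contra hC
    obtain ⟨j₀, hj1, hj2, hjr⟩ := OrthSingularCount.exists_exponent_even Q hQ hV (Or.inl hmd) h.prime hrΩ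
    have hmult : ∃ w, (d < half i * w + m ∧ half i * w ≤ d ∧ PowTy F r (half i * w) ε) ∨
        (d ≤ half i * w + m ∧ half i * w < d ∧ ¬ PowTy F r (half i * w) ε) := by
      haveI := Fact.mk h.prime
      haveI : Fact (2 < r) := ⟨lt_of_le_of_ne h.prime.two_le (Ne.symm h.odd)⟩
      have hne : (-1 : ZMod r) ≠ 1 := ZMod.neg_one_ne_one
      have e1 : ∀ n, r ∣ Fintype.card F ^ n - 1 → (Fintype.card F : ZMod r) ^ n = 1 := fun n hn => by
        rwa [← ZMod.natCast_eq_zero_iff, Nat.cast_sub (Nat.one_le_pow _ _ Fintype.card_pos), Nat.cast_pow,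
          Nat.cast_one, sub_eq_zero] at hn
      have e2 : ∀ n, r ∣ Fintype.card F ^ n + 1 → (Fintype.card F : ZMod r) ^ n = -1 := fun n hn => by
        rwa [← ZMod.natCast_eq_zero_iff, Nat.cast_add, Nat.cast_pow, Nat.cast_one, add_eq_zero_iff_eq_neg] at hn
      rcases hjr with ⟨hp, hr' | hr'⟩ | ⟨hp, hr' | hr'⟩
      · obtain ⟨w, rfl⟩ := mult_of_pow h (one_mul 1) (e1 _ hr')
        exact ⟨w, Or.inl ⟨by omega, hj2, by rw [PowTy, e1 _ hr', if_pos (hε.1 hp)]⟩⟩
      · obtain ⟨w, hw⟩ := mult_of_pow h (by rw [neg_mul_neg, one_mul]) (e2 _ hr')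
        refine ⟨w, Or.inr ⟨by omega, by omega, ?_⟩⟩
        rw [PowTy, ← hw, e2 _ hr', if_pos (hε.1 hp)]
        exact hne
      · obtain ⟨w, rfl⟩ := mult_of_pow h (by rw [neg_mul_neg, one_mul]) (e2 _ hr')
        exact ⟨w, Or.inl ⟨by omega, hj2, by rw [PowTy, e2 _ hr', if_neg fun e => hp (hε.2 e)]⟩⟩
      · obtain ⟨w, hw⟩ := mult_of_pow h (one_mul 1) (e1 _ hr')
        refine ⟨w, Or.inr ⟨by omega, by omega, ?_⟩⟩
        rw [PowTy, ← hw, e1 _ hr', if_neg fun e => hp (hε.2 e)]
        exact hne.symm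
    simp only [powTy_iff h] at hmult
    have ht : 0 < t := by
      rcases Nat.eq_zero_or_pos t with rfl | ht
      · have := h.ht; have := h.prime.two_le; have := h.odd; omega
      · exact ht
    obtain ⟨f, hf⟩ : (factorSet F r).Nonempty := by rw [← Finset.card_pos, card_factorSet h]; exact ht
    have hbf : basic i f ∈ basics F r i := mem_basics.2 ⟨f, hf, rfl⟩
    obtain ⟨M, S, j, hM, hS, hnd, hpos, hA, hjd, hno⟩ : ∃ (M S : Multiset F[X]) (j : ℕ),
        (∀ u ∈ M, u ∈ basics F r i) ∧ (∀ u ∈ S, u ∈ basics F r i) ∧ S.Nodup ∧ 0 < (M + M + S).card ∧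
        half i * (M + M + S).card + j = d ∧ (0 < j ∨ PowTy F r d ε) ∧
        ¬ SplitArith.Fix i j m (if Even i then M.card else (M + M + S).card)
          (PowTy F r (half i * (M + M + S).card) ε) := by
      simp only [powTy_iff h]
      rcases Nat.even_or_odd i with he | ho
      · simp only [if_pos he] at hmult ⊢
        have hhalf : i / 2 = half i := by rw [half, if_pos he]
        have h2 : 2 * half i = i := by rw [two_half, basicDeg, if_pos he]
        obtain ⟨A, K, s, j, hApos, hAj, hAK, hst, hGj, hfix⟩ := SplitArith.exists_bad (ε := ε) hh ht hmd hmult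
          fun hc => hC (Or.inl ⟨he, by rw [hhalf]; exact hc⟩)
        obtain ⟨S, hS, hSc⟩ := Finset.exists_subset_card_eq (s := basics F r i) (n := s)
          (by rw [card_basics h, if_pos he]; exact hst)
        have hc : (Multiset.replicate K (basic i f) + Multiset.replicate K (basic i f) + S.val).card = A := by
          simp [hSc]; omega
        refine ⟨Multiset.replicate K (basic i f), S.val, j, fun u hu => by rwa [Multiset.eq_of_mem_replicate hu],
          fun u hu => hS hu, S.nodup, by rw [hc]; exact hApos, by rw [hc]; exact hAj, ?_, ?_⟩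
        · rw [hqd A j hAj, powTy_iff h, if_pos he]; exact hGj
        · rw [hc, Multiset.card_replicate, ← h2]; exact hfix
      · simp only [if_neg (Nat.not_even_iff_odd.2 ho)] at hmult ⊢
        have hhalf : half i = i := if_neg (Nat.not_even_iff_odd.2 ho)
        rw [hhalf] at hmult ⊢
        obtain ⟨A, j, hApos, hAj, hGj, hfix⟩ := SplitArith.exists_bad_odd (ε := ε) hi0 hmd hmult
          fun hc => hC (Or.inr ⟨ho, hc⟩)
        obtain ⟨M, S, hMS, hnd, -, hM, hS⟩ := exists_pairs (basics F r i) (Multiset.replicate A (basic i f))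
          fun u hu => by rwa [Multiset.eq_of_mem_replicate hu]
        have hc : (M + M + S).card = A := by rw [← hMS, Multiset.card_replicate]
        refine ⟨M, S, j, hM, hS, hnd, by rw [hc]; exact hApos, by rw [hc]; exact hAj, ?_, by rw [hc]; exact hfix⟩
        rw [hqd A j (by rw [hhalf]; exact hAj), powTy_iff h, if_neg (Nat.not_even_iff_odd.2 ho)]
        exact hGj
    have hN : ∀ u ∈ M + M + S, u ∈ basics F r i := fun u hu => by
      rcases Multiset.mem_add.1 hu with hu | hu
      · rcases Multiset.mem_add.1 hu with hu | hu <;> exact hM u hu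
      · exact hS u hu
    obtain ⟨x, hx, hxr, hxs, hxP⟩ := exists_element Q h hQ hG hι hN hpos hA (hjd.imp_right hsgn.2)
    obtain ⟨W, hW, hW0, hWx⟩ := H x hx ⟨1, by rw [hxr, Units.val_one, one_smul]⟩ hxs
    obtain ⟨g, -, rfl⟩ := hx
    refine hno (necessary h hQ hV ε hε (g := Matrix.toLinAlgEquiv' ((g : GL ι F) : Matrix ι ι F))
      (fun v => by rw [Matrix.toLinAlgEquiv'_apply]; exact mem_isometryGroup.1 g.2 v) ?_ hM hS hnd
      ((OrthIsoDerange.charpoly_eq _).trans hxP) hW hW0 ((hinv _ _).1 hWx))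
    rw [← map_pow, ← Units.val_pow_eq_pow_val, show ((g : GL ι F)) ^ r = 1 from hxr, Units.val_one, map_one]
  · intro hC x hxΩ hz hxs
    obtain ⟨y, hyr, hyW⟩ := OrthEvenProd.lift_of_scalar (by omega) hQ (h.prime.odd_of_ne_two h.odd) x
      (by obtain ⟨a, -, rfl⟩ := hxΩ; exact a.2) hz
    obtain ⟨hmem, hor⟩ := charpoly_mem Q h hQ hι y hyr
    obtain ⟨N, j, hN, hPN, hA⟩ := shape h hmem
    rw [← two_half, mul_assoc] at hA
    have hA' : half i * N.card + j = d := by omega
    have hj : 0 < j ∨ PowTy F r d ε := by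
      rcases Nat.eq_zero_or_pos j with rfl | h0
      · refine Or.inr (hsgn.1 (hor.resolve_left ?_))
        rw [hPN, mul_zero, pow_zero, mul_one]
        exact (basic_monic h hN).2.2
      · exact Or.inl h0
    obtain ⟨K, hK1, hK2, hK⟩ := (OrthIsoRealize.closed h).split h N hN
    have hF : SplitArith.Fix i j m K (PowTy F r (half i * N.card) ε) := by
      have hj' := (hqd _ _ hA').1 hj
      simp only [powTy_iff h] at hj' ⊢
      rcases hC with ⟨he, hc⟩ | ⟨ho, hc⟩
      · simp only [if_pos he] at hj' ⊢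
        have hhalf : i / 2 = half i := by rw [half, if_pos he]
        have h2 : 2 * half i = i := by rw [two_half, basicDeg, if_pos he]
        rw [hhalf] at hc
        obtain ⟨hK3, hK4⟩ := hK2 he
        have := SplitArith.fix_of_crit hh hc (A := N.card) (K := K) (S := N.card - 2 * K) hA' hK3 (by omega) hj'
        rwa [h2] at this
      · simp only [if_neg (Nat.not_even_iff_odd.2 ho)] at hj' ⊢
        rw [hK1 ho]
        have hhalf : half i = i := if_neg (Nat.not_even_iff_odd.2 ho)
        exact SplitArith.fix_of_odd hi0 hmd hc (by rw [← hhalf]; exact hA') hj'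
    have hw := wit_split hQ hι ε hε h hd hN hK hA' hj hF
    rw [← hPN] at hw
    obtain ⟨W, hW, hW0, hWy⟩ := OrthIsoRealize.exists_invariant h Q hQ y hyr hw
    exact ⟨W, hW, hW0, hyW W hWy⟩

end Cfsg.Agent.OrthEvenTSCriterion
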