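import Cfsg.Agent.Lib.Classical.FieldExtOrthTwo
import Cfsg.Agent.Lib.Classical.FieldExtSympBasic
import Cfsg.Agent.Lib.Classical.OrthEvenOddCount
import Cfsg.Agent.Lib.Classical.OrthEvenTSCriterion
import Cfsg.Agent.Lib.Classical.OrthEvenNondegUnipotent

/-! Elements of prime order of `Ω^±_{2d}(q)`, `q` odd, and orthogonal groups over the quadratic extension. -/

set_option autoImplicit false
set_option linter.unusedSectionVars false
set_option quotPrecheck false

namespace Cfsg.Agent.FieldExtOrth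

open Module Matrix Polynomial Cfsg.Agent.SelfReciprocalFactors Cfsg.Agent.Classical Cfsg.Agent.Classical.OrthAut

section Index

variable {F : Type*} [Field F] [Fintype F] {E : Type*} [Field E] [Algebra F E] [Fintype E]
  {j : E} {δ : F} {re : E →ₗ[F] F} (hR : Quad j δ re)

include hR

/-- In even dimension the type over the extension is the type over the ground field. -/
theorem plus_canon_iff {m : ℕ} {D : E} (hD : D ≠ 0) :
    (QuadraticMap.polarBilin (QuadraticMap.weightedSumSquares E (canon (n := 2 * m + 1) D))).Nondegenerate ∧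
      (EvenType.Plus (QuadraticMap.weightedSumSquares E (canon (n := 2 * m + 1) D)) ↔
        EvenType.Plus (qd re (canon (n := 2 * m + 1) D))) := by
  classical
  haveI : Module.Finite F E := Module.finite_of_finrank_pos (by rw [hR.dim]; exact two_pos)
  let n := 2 * m + 1
  let qE : E → QuadraticForm E (Fin (n + 1) → E) := fun D => QuadraticMap.weightedSumSquares E (canon D)
  have happ : ∀ D u, qE D u = ∑ l, canon D l * u l * u l := fun D u => by
    rw [QuadraticMap.weightedSumSquares_apply]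
    exact Finset.sum_congr rfl fun l _ => by rw [smul_eq_mul, mul_assoc]
  have hgram : ∀ D, gramDet (QuadraticMap.polarBilin (qE D)) (Pi.basisFun E (Fin (n + 1))) = 2 ^ (n + 1) * D := by
    intro D
    rw [gramDet_eq_of, show (Matrix.of fun i l : Fin (n + 1) => QuadraticMap.polar (⇑(qE D))
        (Pi.basisFun E _ i) (Pi.basisFun E _ l)) = Matrix.diagonal (fun i => 2 * canon D i) from ?_,
      Matrix.det_diagonal, Finset.prod_mul_distrib, Finset.prod_const, Finset.card_univ, Fintype.card_fin]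
    · congr 1
      unfold canon
      simp [Finset.prod_ite_eq']
    · ext i l
      simp only [Matrix.of_apply, Pi.basisFun_apply, QuadraticMap.polar, happ, ← Finset.sum_sub_distrib, Pi.add_apply]
      by_cases hil : i = l
      · subst hil
        rw [Matrix.diagonal_apply_eq, Finset.sum_eq_single i (fun x _ hx => by simp [hx])
          (fun h => absurd (Finset.mem_univ i) h), Pi.single_eq_same]
        ring
      · rw [Matrix.diagonal_apply_ne _ hil]
        refine Finset.sum_eq_zero fun x _ => ?_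
        by_cases hxi : x = i
        · subst hxi; simp [hil]
        · simp [hxi]
  have hnd : ∀ D, D ≠ 0 → (QuadraticMap.polarBilin (qE D)).Nondegenerate := fun D hD =>
    (LinearMap.BilinForm.nondegenerate_iff_det_ne_zero (Pi.basisFun E _)).2 (by
      show gramDet (QuadraticMap.polarBilin (qE D)) _ ≠ 0
      rw [hgram]; exact mul_ne_zero (pow_ne_zero _ (two_E hR)) hD)
  have hsq : ∀ D, D ≠ 0 → (EvenType.Plus (qE D) ↔ IsSquare D) := fun D hD => by
    rw [EvenType.plus_iff_disc (two_E hR) (hnd D hD) (m := m) (by rw [Module.finrank_fin_fun]; omega) (Pi.basisFun E _),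
      hgram]
    have h1 : IsSquare ((-1 : E) ^ (m + 1)) := by
      have h := (isSquare_base hR (-1)).pow (m + 1)
      rwa [map_neg, map_one] at h
    have h3 : IsSquare ((-1 : E) ^ (m + 1) * 2 ^ (n + 1)) :=
      h1.mul ⟨2 ^ (m + 1), by rw [← pow_add]; congr 1; omega⟩
    rw [← mul_assoc]
    refine ⟨fun h => ?_, fun h => h3.mul h⟩
    have h4 := h.div h3
    rwa [mul_div_cancel_left₀ _ (mul_ne_zero (pow_ne_zero _ (neg_ne_zero.2 one_ne_zero)) (pow_ne_zero _ (two_E hR)))]
      at h4
  have hlift : ∀ D, EvenType.Plus (qE D) → EvenType.Plus (qd re (canon (n := n) D)) := by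
    rintro D ⟨U, hU, hd⟩
    refine ⟨U.restrictScalars F, fun u hu => ?_, ?_⟩
    · have h := hU u hu
      rw [happ] at h
      rw [qd_apply, h, map_zero]
    · rw [show finrank F (U.restrictScalars F) = finrank F U from rfl, ← Module.finrank_mul_finrank F E U, hR.dim,
        finrank_pi_eq hR, Fintype.card_fin]
      rw [Module.finrank_fin_fun] at hd
      omega
  refine ⟨hnd D hD, hlift D, fun hp => (hsq D hD).2 ?_⟩
  have h1 : EvenType.Plus (qd re (canon (n := n) (1 : E))) :=
    hlift 1 ((hsq 1 one_ne_zero).2 IsSquare.one)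
  have h := canon_class hR one_ne_zero hD (iff_of_true h1 hp)
  rwa [div_one] at h

omit hR in
theorem prod_even_odd (f : ℕ → ℤ) : ∀ m,
    (∏ l ∈ Finset.range (2 * m), f l = (∏ l ∈ Finset.range m, f (2 * l + 1)) * ∏ l ∈ Finset.range m, f (2 * l)) ∧
    (∏ l ∈ Finset.range (2 * m + 1), f l =
      (∏ l ∈ Finset.range m, f (2 * l + 1)) * ∏ l ∈ Finset.range (m + 1), f (2 * l)) := by
  intro m
  have key : ∀ m, ∏ l ∈ Finset.range (2 * m), f l =
      (∏ l ∈ Finset.range m, f (2 * l + 1)) * ∏ l ∈ Finset.range m, f (2 * l) := by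
    intro m
    induction m with
    | zero => simp
    | succ m ih =>
      rw [show 2 * (m + 1) = 2 * m + 1 + 1 by ring, Finset.prod_range_succ, Finset.prod_range_succ, ih,
        Finset.prod_range_succ, Finset.prod_range_succ]
      ring
  refine ⟨key m, ?_⟩
  rw [Finset.prod_range_succ, key m, Finset.prod_range_succ _ m]
  ring

variable {ι : Type} [Fintype ι] [DecidableEq ι] {Q : QuadraticForm F (ι → F)} [Module E (ι → F)]
  [IsScalarTower F E (ι → F)] {K : Subalgebra F (Matrix ι ι F)} (hK : Geo.IsFieldSubalgebra 2 K)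
  (hdesc : ∀ A, A ∈ K ↔ ∃ a : E, ∀ x : ι → F, A *ᵥ x = a • x)
  (hsa : ∀ (e : E) (x y : ι → F), QuadraticMap.polar (⇑Q) (e • x) y = QuadraticMap.polar (⇑Q) x (e • y))
  (hQ : (QuadraticMap.polarBilin Q).Nondegenerate) {d : ℕ} (hι : Fintype.card ι = 2 * d) (hd : 2 ≤ d)

include hK hdesc hsa hQ hι hd in
/-- What a prime divisor of the index looks like. -/
theorem index_or {r : ℕ} [hr : Fact r.Prime] (hr2 : r ≠ 2) (hrq : (Fintype.card F : ZMod r) ≠ 0)
    (hΩ : r ∣ (Geo.subalgebraNormalizer K).relIndex (Geo.omegaGL ⇑Q)) :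
    (∃ l, l < d ∧ Odd l ∧ (Fintype.card F : ZMod r) ^ (2 * l) = 1) ∨
      (Odd d ∧ (Fintype.card F : ZMod r) ^ d = OrthPrimeOrderClasses.sgn r Q) := by
  classical
  have h2 := hR.two
  have hG := genQ_odd (ι := ι) hQ h2
  haveI : Module.Finite E (ι → F) := Module.Finite.of_restrictScalars_finite F E _
  haveI : Module.Finite F E := Module.finite_of_finrank_pos (by rw [hR.dim]; exact two_pos)
  obtain ⟨n, rfl⟩ : ∃ n, d = n + 1 := ⟨d - 1, by omega⟩
  set H := (Geo.subalgebraNormalizer K).comap (isometryGroup F ⇑Q).subtype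
  set O := Omega F ⇑Q
  have hind : r ∣ H.index := by
    have e1 : H.relIndex O * 4 = O.relIndex H * H.index := by
      rw [← index_omega_odd hQ hG h2 (by omega), ← Subgroup.inf_relIndex_right H O,
        Subgroup.relIndex_mul_index inf_le_right, ← Subgroup.inf_relIndex_left H O,
        Subgroup.relIndex_mul_index inf_le_left]
    have hdvd : r ∣ O.relIndex H * H.index := e1 ▸ (by
      rw [Subgroup.relIndex_comap]; exact hΩ : r ∣ H.relIndex O).mul_right 4
    refine (hr.out.dvd_mul.1 hdvd).resolve_left fun h4 => ?_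
    have h5 : r ∣ 2 ^ 2 := h4.trans ((Subgroup.relIndex_dvd_index_of_normal O H).trans
      (dvd_of_eq ((index_omega_odd hQ hG h2 (by omega)).trans (by norm_num))))
    exact hr2 ((Nat.prime_dvd_prime_iff_eq hr.out Nat.prime_two).1 (hr.out.dvd_of_dvd_pow h5))
  obtain ⟨ψ, hψS, hψn, hψ⟩ := exists_form hR hQ hsa
  obtain ⟨D, hD, Φ, hΦψ⟩ := exists_canon (two_E hR) ψ hψS hψn (finrank_space hR hι)
  obtain ⟨hΦ, htype⟩ := re_symm_type hR hψ Φ hΦψ
  set Φ' := Φ.restrictScalars F
  let qE : QuadraticForm E (Fin (n + 1) → E) := QuadraticMap.weightedSumSquares E (canon D)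
  have hqE : ∀ u, re (qE u) = qd re (canon D) u := fun u => by
    rw [QuadraticMap.weightedSumSquares_apply, qd_apply]
    exact congrArg re (Finset.sum_congr rfl fun l _ => by rw [smul_eq_mul, mul_assoc])
  let lin : isometryGroup E ⇑qE →* ((Fin (n + 1) → E) ≃ₗ[F] (Fin (n + 1) → E)) :=
    { toFun := fun A => LinearEquiv.ofBijective ((Matrix.toLin' (ogVal A)).restrictScalars F)
        ⟨fun a b hab => by
          have h : ogVal A⁻¹ *ᵥ (ogVal A *ᵥ a) = ogVal A⁻¹ *ᵥ (ogVal A *ᵥ b) := congrArg (ogVal A⁻¹ *ᵥ ·) hab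
          rwa [ogVal_inv_cancel, ogVal_inv_cancel] at h,
        fun b => ⟨ogVal A⁻¹ *ᵥ b, ogVal_cancel_inv A b⟩⟩
      map_one' := LinearEquiv.ext fun u => by
        show ogVal (1 : isometryGroup E ⇑qE) *ᵥ u = u
        rw [ogVal_one, Matrix.one_mulVec]
      map_mul' := fun A A' => LinearEquiv.ext fun u => by
        show ogVal (A * A') *ᵥ u = ogVal A *ᵥ (ogVal A' *ᵥ u)
        rw [ogVal_mul, Matrix.mulVec_mulVec] }
  have hlin : ∀ A u, lin A u = ogVal A *ᵥ u := fun A u => rfl
  have hlq : ∀ A u, qd re (canon D) (lin A u) = qd re (canon D) u := fun A u => by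
    rw [hlin, ← hqE, ogVal_quad, hqE]
  let emb : isometryGroup E ⇑qE →* isometryGroup F ⇑Q :=
    ((ofEquiv Φ').comp lin).codRestrict _ fun A => ofEquiv_mem Φ' hΦ (hlq A)
  let emb' : isometryGroup E ⇑qE →* H := emb.codRestrict H fun A => by
    show ((ofEquiv Φ') (lin A)) ∈ Geo.subalgebraNormalizer K
    exact ofEquiv_normalizer hK two_pos hdesc Φ (lin A) id fun a u => by rw [hlin, hlin, Matrix.mulVec_smul]; rfl
  have hemb : Function.Injective emb' := fun A A' hA => ogVal_ext (Matrix.ext_iff_mulVec.2 fun u => by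
    have h0 : ofEquiv Φ' (lin A) = ofEquiv Φ' (lin A') :=
      congrArg (fun g : H => ((g : isometryGroup F ⇑Q) : GL ι F)) hA
    have h := ofEquiv_injective Φ' h0
    rw [← hlin, ← hlin, h])
  obtain ⟨w, hw⟩ := Subgroup.card_dvd_of_injective emb' hemb
  have hcard := H.card_mul_index
  rw [hw, natCard_isometryGroup, natCard_isometryGroup] at hcard
  have hA0 : (isoCard qE : ℤ) ≠ 0 := by
    rw [← natCard_isometryGroup]
    exact_mod_cast (Nat.card_pos (α := isometryGroup E ⇑qE)).ne'
  have key : ∀ M : ℤ, (isoCard Q : ℤ) = isoCard qE * M → (M : ZMod r) = 0 := fun M hM => by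
    rw [ZMod.intCast_zmod_eq_zero_iff_dvd]
    obtain ⟨c, hc⟩ := hind
    refine ⟨(w : ℤ) * c, mul_left_cancel₀ hA0 ?_⟩
    rw [← hM, ← hcard, hc]
    push_cast
    ring
  set q : ℤ := (Fintype.card F : ℤ) with hq
  have hcardE : (Fintype.card E : ℤ) = q ^ 2 := by rw [card_E hR]; push_cast; rfl
  have hpow : ∀ k, (Fintype.card F : ZMod r) ^ k ≠ 0 := fun k => pow_ne_zero k hrq
  have hfdV : finrank F (ι → F) = 2 * (n + 1) := by rw [Module.finrank_pi, hι]
  obtain ⟨s, hs1, hs2, hcQ⟩ := OrthEvenOddCount.isoCard_even hQ hfdV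
  have hodd : ∀ k, (∏ l ∈ Finset.range k, (q ^ (2 * (2 * l + 1)) - 1) : ℤ) = ∏ l ∈ Finset.range k,
      (q ^ (2 * (2 * l + 1)) - 1) := fun k => rfl
  rcases Nat.even_or_odd' n with ⟨m, rfl | rfl⟩
  · -- odd dimension over the extension
    have hEn : (QuadraticMap.polarBilin qE).Nondegenerate :=
      nondegenerate_of_separatingLeft _ fun u hu => funext fun l => by
        have h := hu (Pi.single l 1)
        simp only [QuadraticMap.polarBilin_apply_apply, QuadraticMap.polar, qE, QuadraticMap.weightedSumSquares_apply,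
          smul_eq_mul, ← Finset.sum_sub_distrib, Pi.add_apply] at h
        rw [Finset.sum_eq_single l (fun x _ hx => by simp [hx]) (fun h => absurd (Finset.mem_univ l) h),
          Pi.single_eq_same] at h
        have h' : canon D l * (2 * u l) = 0 := by linear_combination h
        rcases mul_eq_zero.1 h' with h' | h'
        · exact absurd h' (canon_ne hD l)
        · exact (mul_eq_zero.1 h').resolve_left (two_E hR)
    have hcE := OrthNondegCount.isoCard_odd (two_E hR) (m := m) (Module.finrank_fin_fun E) hEn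
    rw [hcardE] at hcE
    have hM := key (q ^ (2 * m * m + 2 * m) * (q ^ (2 * m + 1) - s) *
        ∏ l ∈ Finset.range m, (q ^ (2 * (2 * l + 1)) - 1)) (by
      rw [hcQ, hcE, (prod_even_odd (fun l => q ^ (2 * (l + 1)) - 1) m).1]
      have e : ∀ l, q ^ (2 * (2 * l + 1 + 1)) = (q ^ 2) ^ (2 * (l + 1)) := fun l => by rw [← pow_mul]; congr 1
      simp only [e]
      rw [show 2 * m * (2 * m + 1) = 2 * m * m + 2 * m + 2 * m ^ 2 by ring, pow_add _ (2 * m * m + 2 * m) (2 * m ^ 2),
        pow_mul q 2 (m ^ 2)]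
      ring)
    push_cast at hM
    rcases mul_eq_zero.1 hM with h' | h'
    · rcases mul_eq_zero.1 h' with h' | h'
      · rw [hq] at h'; push_cast at h'; exact absurd h' (hpow _)
      · refine Or.inr ⟨odd_two_mul_add_one m, ?_⟩
        rw [hq] at h'
        push_cast at h'
        rw [sub_eq_zero.1 h', OrthPrimeOrderClasses.sgn]
        split_ifs with hp
        · rw [hs1 hp]; simp
        · rw [hs2 hp]; simp
    · obtain ⟨l, hl, h'⟩ := Finset.prod_eq_zero_iff.1 h'
      rw [Finset.mem_range] at hl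
      rw [hq] at h'
      push_cast at h'
      exact Or.inl ⟨2 * l + 1, by omega, odd_two_mul_add_one l, sub_eq_zero.1 h'⟩
  · obtain ⟨hEn, hEtype⟩ := plus_canon_iff hR (m := m) hD
    obtain ⟨s', hs1', hs2', hcE⟩ := OrthEvenOddCount.isoCard_even hEn (m := m)
      (by rw [Module.finrank_fin_fun]; omega)
    have hss : s = s' := by
      by_cases hp : EvenType.Plus Q
      · rw [hs1 hp, hs1' (hEtype.2 (htype.2 hp))]
      · rw [hs2 hp, hs2' fun h => hp (htype.1 (hEtype.1 h))]
    rw [hcardE] at hcE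
    have hM := key (q ^ (2 * m * m + 4 * m + 2) * ∏ l ∈ Finset.range (m + 1), (q ^ (2 * (2 * l + 1)) - 1)) (by
      rw [hcQ, show (isoCard qE : ℤ) = _ from hcE, (prod_even_odd (fun l => q ^ (2 * (l + 1)) - 1) m).2, hss]
      have e : ∀ l, q ^ (2 * (2 * l + 1 + 1)) = (q ^ 2) ^ (2 * (l + 1)) := fun l => by rw [← pow_mul]; congr 1
      simp only [e]
      rw [show (2 * m + 1) * (2 * m + 1 + 1) = 2 * m * m + 4 * m + 2 + 2 * (m * (m + 1)) by ring,
        pow_add _ (2 * m * m + 4 * m + 2) (2 * (m * (m + 1))), pow_mul q 2 (m * (m + 1)),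
        show 2 * m + 1 + 1 = 2 * (m + 1) by ring, pow_mul q 2 (m + 1)]
      ring)
    push_cast at hM
    rcases mul_eq_zero.1 hM with h' | h'
    · rw [hq] at h'; push_cast at h'; exact absurd h' (hpow _)
    · obtain ⟨l, hl, h'⟩ := Finset.prod_eq_zero_iff.1 h'
      rw [Finset.mem_range] at hl
      rw [hq] at h'
      push_cast at h'
      exact Or.inl ⟨2 * l + 1, by omega, odd_two_mul_add_one l, sub_eq_zero.1 h'⟩

end Index

variable {F : Type*} [Field F] [Fintype F] {ι : Type} [Fintype ι] [DecidableEq ι] {Q : QuadraticForm F (ι → F)}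

local notation "V" => (ι → F)
local notation "Mn" => Matrix ι ι F
local notation "B" => QuadraticMap.polar ⇑Q

theorem aeval_pow_card' (y : Matrix ι ι F) (P : F[X]) :
    ∀ h : ℕ, aeval y P ^ (Fintype.card F ^ h) = aeval (y ^ (Fintype.card F ^ h)) P := by
  intro h
  induction h with
  | zero => simp
  | succ h ih =>
    rw [pow_succ, pow_mul, ih, ← map_pow, ← FiniteField.expand_card, expand_aeval, ← pow_mul]

/-- A long root element. -/
theorem exists_root {p : ℕ} [Fact p.Prime] [CharP F p] (hQ : (QuadraticMap.polarBilin Q).Nondegenerate) {d : ℕ}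
    (hι : Fintype.card ι = 2 * d) (hd : 3 ≤ d) :
    ∃ (x : GL ι F) (N : Module.End F (ι → F)), x ∈ Geo.omegaGL ⇑Q ∧
      (∃ z : F, ((x ^ p : GL ι F) : Matrix ι ι F) = z • (1 : Matrix ι ι F)) ∧
      (∀ z : F, (x : Matrix ι ι F) ≠ z • (1 : Matrix ι ι F)) ∧ (∀ v, (x : Matrix ι ι F) *ᵥ v = v + N v) ∧
      OrthEvenNondegUnipotent.Sq Q N ∧ finrank F (LinearMap.range N) ≤ 2 ∧ N ≠ 0 := by
  obtain ⟨W, hWd, hW⟩ := InvolutionSingular.exists_ts_even Q hQ (k := 2) (a := d)
    (by rw [Module.finrank_pi, hι]) (Or.inl (by omega))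
  let b := Module.finBasisOfFinrankEq F W hWd
  set e : ι → F := (b 0 : ι → F)
  set f : ι → F := (b 1 : ι → F)
  have hts : ∀ a c : F, Q (a • e + c • f) = 0 := fun a c =>
    hW _ (W.add_mem (W.smul_mem _ (b 0).2) (W.smul_mem _ (b 1).2))
  have hee : ∀ u ∈ W, ∀ v ∈ W, B u v = 0 := fun u hu v hv => polar_zero_of_ts hQ hW hu hv
  let N : Module.End F (ι → F) :=
    (QuadraticMap.polarBilin Q f).smulRight e - (QuadraticMap.polarBilin Q e).smulRight f
  have hN : ∀ z, N z = B f z • e - B e z • f := fun z => rfl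
  have hNW : ∀ z, N z ∈ W := fun z => by
    rw [hN]; exact W.sub_mem (W.smul_mem _ (b 0).2) (W.smul_mem _ (b 1).2)
  have hSq : OrthEvenNondegUnipotent.Sq Q N := by
    refine ⟨fun v => ?_, fun v => hW _ (hNW v), fun v => ?_⟩
    · rw [hN, hee f (b 1).2 _ (hNW v), hee e (b 0).2 _ (hNW v), zero_smul, zero_smul, sub_zero]
    · rw [QuadraticMap.map_add (⇑Q), hW _ (hNW v), hN, QuadraticMap.polar_sub_right, QuadraticMap.polar_smul_right,
        QuadraticMap.polar_smul_right, QuadraticMap.polar_comm _ v e, QuadraticMap.polar_comm _ v f]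
      simp only [smul_eq_mul]
      ring
  have hN0 : N ≠ 0 := fun h0 => by
    have hf : ∀ z, B f z = 0 := fun z => by
      have h : B f z • e - B e z • f = 0 := (hN z).symm.trans (by rw [h0]; rfl)
      have h' : B f z • b 0 + (-B e z) • b 1 = 0 := Subtype.ext (by
        push_cast; rw [neg_smul, ← sub_eq_add_neg]; exact h)
      have := Fintype.linearIndependent_iff.1 b.linearIndependent ![B f z, -B e z] (by
        rw [Fin.sum_univ_two]; exact h') 0
      simpa using this
    exact b.ne_zero 1 (Subtype.ext (hQ.1 f hf))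
  have hrange : finrank F (LinearMap.range N) ≤ 2 := by
    rw [← hWd]
    exact Submodule.finrank_mono (by rintro _ ⟨z, rfl⟩; exact hNW z)
  obtain ⟨x, hx, hxp, hns, hxv⟩ := OrthEvenNondegUnipotent.exists_element (p := p) hQ hι hd hSq hN0
  exact ⟨x, N, hx, hxp, hns, hxv, hSq, hrange, hN0⟩

set_option maxHeartbeats 1000000 in
/-- Conjugacy into orthogonal groups over the quadratic extension, elements of prime order. -/
theorem criterion (p : ℕ) [Fact p.Prime] [CharP F p] (h2 : (2 : F) ≠ 0)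
    (hQ : (QuadraticMap.polarBilin Q).Nondegenerate) {d : ℕ} (hι : Fintype.card ι = 2 * d) (hd : 4 ≤ d)
    (K : Subalgebra F (Matrix ι ι F)) (hK : Geo.IsFieldSubalgebra 2 K)
    (hKf : Geo.IsSelfAdjointFor (QuadraticMap.polar ⇑Q) K)
    (r : ℕ) [hr : Fact r.Prime] (hΩ : r ∣ (Geo.subalgebraNormalizer K).relIndex (Geo.omegaGL ⇑Q)) :
    (∀ x ∈ Geo.omegaGL ⇑Q, (∃ z : F, ((x ^ r : GL ι F) : Matrix ι ι F) = z • (1 : Matrix ι ι F)) →
      (∀ z : F, (x : Matrix ι ι F) ≠ z • (1 : Matrix ι ι F)) →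
      ∃ g ∈ Geo.omegaGL ⇑Q, g⁻¹ * x * g ∈ Geo.subalgebraNormalizer K) ↔ r = 2 := by
  classical
  letI : Field ↥K := FieldExtNormalizer.fieldOf hK two_pos
  have hsm : ∀ (a : ↥K) (x : V), a • x = (a : Mn) *ᵥ x := fun _ _ => rfl
  haveI : IsScalarTower F ↥K V := ⟨fun c a x => by
    rw [hsm, hsm, show ((c • a : ↥K) : Mn) = c • (a : Mn) from rfl, Matrix.smul_mulVec]⟩
  haveI : Fintype ↥K := Fintype.ofFinite _
  have hdesc : ∀ A, A ∈ K ↔ ∃ a : ↥K, ∀ x : V, A *ᵥ x = a • x := fun A =>
    ⟨fun hA => ⟨⟨A, hA⟩, fun x => (hsm ⟨A, hA⟩ x).symm⟩, fun ⟨a, ha⟩ => by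
      have : A = (a : Mn) := Matrix.ext_iff_mulVec.2 fun x => (ha x).trans (hsm a x)
      rw [this]; exact a.2⟩
  have hsa : ∀ (a : ↥K) (x y : V), B (a • x) y = B x (a • y) := fun a x y => hKf _ a.2 x y
  obtain ⟨j, δ, re, hR⟩ := exists_quad (E := ↥K) h2 hK.finrank_eq
  constructor
  · intro H
    by_contra hr2
    have hiso : ∀ x ∈ Geo.omegaGL ⇑Q, ∀ u v, B ((x : Mn) *ᵥ u) ((x : Mn) *ᵥ v) = B u v := by
      rintro _ ⟨g, -, rfl⟩ u v
      exact InvolutionSingular.polar_isometry g u v
    by_cases hrp : r = p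
    · obtain ⟨x, N, hx, hxp, hns, hxv, hSq, hrank, hN0⟩ := exists_root (p := p) hQ hι (by omega)
      obtain ⟨g, hg, hgN⟩ := H x hx (hrp.symm ▸ hxp) hns
      set y := g⁻¹ * x * g with hy
      have hcomm : ∀ a ∈ K, (y : Mn) * a = a * (y : Mn) := by
        obtain ⟨z, hz⟩ := hxp
        refine FieldExtNormalizer.comm_of_pow hK Nat.prime_two hr.out hr2 hgN (z := z) ?_
        rw [hy, show g⁻¹ * x * g = g⁻¹ * x * g⁻¹⁻¹ by rw [inv_inv], conj_pow, inv_inv, hrp, Units.val_mul,
          Units.val_mul, hz, Matrix.mul_smul, Matrix.mul_one, Matrix.smul_mul, ← Units.val_mul, inv_mul_cancel,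
          Units.val_one]
      let N' : Module.End F V := Matrix.toLin' (g⁻¹).1 ∘ₗ N ∘ₗ Matrix.toLin' (g : Mn)
      have hgg : ∀ v, (g⁻¹).1 *ᵥ ((g : Mn) *ᵥ v) = v := fun v => by
        rw [Matrix.mulVec_mulVec, Units.inv_mul, Matrix.one_mulVec]
      have hgg' : ∀ v, (g : Mn) *ᵥ ((g⁻¹).1 *ᵥ v) = v := fun v => by
        rw [Matrix.mulVec_mulVec, Units.mul_inv, Matrix.one_mulVec]
      have hN' : ∀ v, N' v = (g⁻¹).1 *ᵥ N ((g : Mn) *ᵥ v) := fun v => by
        simp [N']
      have hyv : ∀ v, (y : Mn) *ᵥ v = v + N' v := fun v => by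
        rw [hy, Units.val_mul, Units.val_mul, ← Matrix.mulVec_mulVec, ← Matrix.mulVec_mulVec, hxv, Matrix.mulVec_add,
          hgg, hN']
      have hskew : ∀ u v, B (N' u) v = -B u (N' v) := fun u v => by
        rw [hN', hN']
        have e : ∀ a b, B ((g⁻¹).1 *ᵥ a) b = B a ((g : Mn) *ᵥ b) := fun a b => by
          rw [← hiso g hg, hgg']
        rw [e, OrthEvenNondegUnipotent.Sq.skew hSq, QuadraticMap.polar_comm _ u, e, QuadraticMap.polar_comm]
      have hlin : ∀ a ∈ K, ∀ v, N' (a *ᵥ v) = a *ᵥ N' v := fun a ha v => by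
        have h1 := congrArg (fun M => M *ᵥ v) (hcomm a ha)
        simp only [← Matrix.mulVec_mulVec, hyv, Matrix.mulVec_add] at h1
        exact add_left_cancel h1
      have hrank' : finrank F (LinearMap.range N') ≤ 2 := by
        refine le_trans ?_ hrank
        have e : LinearMap.range N' ≤ (LinearMap.range N).map (Matrix.toLin' (g⁻¹).1) := by
          rintro _ ⟨v, rfl⟩
          exact ⟨N ((g : Mn) *ᵥ v), ⟨_, rfl⟩, by rw [hN', Matrix.toLin'_apply]⟩
        exact (Submodule.finrank_mono e).trans (Submodule.finrank_map_le _ _)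
      have hzero : ∀ u, N' u = 0 := by
        intro u
        by_contra h0
        have hinv : ∀ a ∈ K, ∀ w ∈ LinearMap.range N', a *ᵥ w ∈ LinearMap.range N' := by
          rintro a ha _ ⟨v, rfl⟩
          exact ⟨a *ᵥ v, hlin a ha v⟩
        let L : ↥K →ₗ[F] LinearMap.range N' :=
          { toFun := fun a => ⟨(a : Mn) *ᵥ N' u, hinv a a.2 _ ⟨u, rfl⟩⟩
            map_add' := fun a c => Subtype.ext (by
              show ((a : Mn) + (c : Mn)) *ᵥ N' u = _
              rw [Matrix.add_mulVec]; rfl)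
            map_smul' := fun c a => Subtype.ext (by
              show (c • (a : Mn)) *ᵥ N' u = _
              rw [Matrix.smul_mulVec]; rfl) }
        have hLi : Function.Injective L := (injective_iff_map_eq_zero L).2 fun a ha => by
          by_contra hne
          exact h0 (FieldExtNormalizer.eq_zero_of_mem hK a.2 (fun e => hne (Subtype.ext e)) (congrArg Subtype.val ha))
        have h1 := LinearMap.finrank_le_finrank_of_injective hLi
        rw [hK.finrank_eq] at h1
        have hLs : Function.Surjective L := (LinearMap.injective_iff_surjective_of_finrank_eq_finrank (by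
          rw [hK.finrank_eq]; omega)).1 hLi
        have hperp : ∀ a : ↥K, B u ((a : Mn) *ᵥ N' u) = 0 := fun a => by
          have h3 := hskew u ((a : Mn) *ᵥ u)
          rw [hlin _ a.2, ← hKf _ a.2, QuadraticMap.polar_comm _ ((a : Mn) *ᵥ N' u) u] at h3
          exact (mul_eq_zero.1 (show (2 : F) * B u ((a : Mn) *ᵥ N' u) = 0 by linear_combination h3)).resolve_left h2
        refine h0 (hQ.1 _ fun v => ?_)
        obtain ⟨a, ha⟩ := hLs ⟨N' v, v, rfl⟩
        have ha' : (a : Mn) *ᵥ N' u = N' v := congrArg Subtype.val ha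
        show B (N' u) v = 0
        rw [hskew, ← ha', hperp, neg_zero]
      refine hN0 (LinearMap.ext fun v => ?_)
      have h1 := hzero ((g⁻¹).1 *ᵥ v)
      rw [hN', hgg'] at h1
      have h3 := congrArg (fun w => (g : Mn) *ᵥ w) h1
      rwa [hgg', Matrix.mulVec_zero] at h3
    have hrne : (r : F) ≠ 0 := fun h0 =>
      hrp ((Nat.prime_dvd_prime_iff_eq (Fact.out : p.Prime) hr.out).1 ((CharP.cast_eq_zero_iff F p r).1 h0)).symm
    have hq0 : (Fintype.card F : ZMod r) ≠ 0 := fun h0 => by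
      rw [ZMod.natCast_eq_zero_iff] at h0
      obtain ⟨l, -, hl⟩ := FiniteField.card F p
      rw [hl] at h0
      exact hrp ((Nat.prime_dvd_prime_iff_eq hr.out Fact.out).1 (hr.out.dvd_of_dvd_pow h0))
    set i := orderOf (Fintype.card F : ZMod r) with hi
    obtain ⟨t, ht⟩ : ∃ t, t * i = r - 1 := by
      obtain ⟨t, ht⟩ := ZMod.orderOf_dvd_card_sub_one hq0
      exact ⟨t, by rw [ht, mul_comm]⟩
    have h : Ctx F r i t := ⟨hr.out, hr2, hrne, hi, ht⟩
    -- the shape of `i`
    obtain ⟨l, hlodd, hil, hcond⟩ : ∃ l, Odd l ∧ i ∣ 2 * l ∧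
        (OrthNondegDerange.half i < d ∨ OrthNondegDerange.half i ≤ d ∧
          (Fintype.card F : ZMod r) ^ d = OrthPrimeOrderClasses.sgn r Q) := by
      have hhalf : ∀ l, 0 < l → i ∣ 2 * l → OrthNondegDerange.half i ≤ l := fun l hl hil => by
        refine Nat.le_of_dvd hl ?_
        unfold OrthNondegDerange.half
        split_ifs with he
        · obtain ⟨k, hk⟩ := he
          rw [hk] at hil ⊢
          rw [show (k + k) / 2 = k by omega]
          exact Nat.dvd_of_mul_dvd_mul_left two_pos (by rwa [two_mul k])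
        · exact (Nat.coprime_two_right.2 (Nat.not_even_iff_odd.1 he)).dvd_of_dvd_mul_left hil
      rcases index_or hR hK hdesc hsa hQ hι (by omega) hr2 hq0 hΩ with ⟨l, hld, hlo, hl⟩ | ⟨hdo, hsg⟩
      · exact ⟨l, hlo, orderOf_dvd_of_pow_eq_one hl,
          Or.inl ((hhalf l hlo.pos (orderOf_dvd_of_pow_eq_one hl)).trans_lt hld)⟩
      · have h2d : (Fintype.card F : ZMod r) ^ (2 * d) = 1 := by
          rw [two_mul, pow_add, hsg, OrthPrimeOrderClasses.sgn]
          split_ifs <;> simp
        exact ⟨d, hdo, orderOf_dvd_of_pow_eq_one h2d,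
          Or.inr ⟨hhalf d (by omega) (orderOf_dvd_of_pow_eq_one h2d), hsg⟩⟩
    obtain ⟨f, hf⟩ : (factorSet F r).Nonempty := Finset.card_pos.1 (by
      rw [card_factorSet h]
      rcases Nat.eq_zero_or_pos t with rfl | h'
      · have := hr.out.two_le; omega
      · exact h')
    have hbm : ∀ u ∈ ({basic i f} : Multiset F[X]), u ∈ basics F r i := fun u hu => by
      rw [Multiset.mem_singleton] at hu
      rw [hu]; exact mem_basics.2 ⟨f, hf, rfl⟩
    obtain ⟨x, hx, hxr, hns, hxP⟩ := OrthEvenTSCriterion.exists_element Q h hQ (genQ_odd hQ h2) hι hbm (by simp)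
      (j := d - OrthNondegDerange.half i)
      (by rw [Multiset.card_singleton, mul_one]; rcases hcond with h' | ⟨h', -⟩ <;> omega)
      (by rcases hcond with h' | ⟨-, h'⟩
          · exact Or.inl (by omega)
          · exact Or.inr h')
    rw [Multiset.prod_singleton] at hxP
    obtain ⟨g, hg, hgN⟩ := H x hx ⟨1, by rw [hxr, Units.val_one, one_smul]⟩ hns
    set y := g⁻¹ * x * g
    have hy : y ∈ Geo.omegaGL ⇑Q := mul_mem (mul_mem (inv_mem hg) hx) hg
    set c := 2 * (d - OrthNondegDerange.half i)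
    have hyP : (y : Mn).charpoly = basic i f * (X - Polynomial.C 1) ^ c := by
      rw [← hxP, Units.val_mul, Units.val_mul, Matrix.coe_units_inv]
      exact Matrix.charpoly_units_conj' g _
    have hr1 : (y : Mn) ^ r = 1 := by
      rw [← Units.val_pow_eq_pow_val, show y = g⁻¹ * x * g⁻¹⁻¹ by rw [inv_inv], conj_pow, inv_inv, hxr, mul_one,
        inv_mul_cancel, Units.val_one]
    have hcomm := FieldExtNormalizer.comm_of_pow hK Nat.prime_two hr.out hr2 hgN (z := 1)
      (by rw [Units.val_pow_eq_pow_val, hr1, one_smul])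
    obtain ⟨hfm, hfi, hfd, -⟩ := mem_data h hf
    obtain ⟨hτ, hiff⟩ := rdual_mem h hf
    have hne1 : ¬ f ∣ X - Polynomial.C 1 := fun hdv => X_sub_one_notMem h
      (Polynomial.eq_of_monic_of_associated hfm (monic_X_sub_C 1) (hfi.associated_of_dvd (irreducible_X_sub_C 1) hdv) ▸ hf)
    set W₀ := LinearMap.ker (Matrix.toLin' (aeval (y : Mn) f)) with hW₀def
    have hmem : ∀ v, v ∈ W₀ ↔ aeval (y : Mn) f *ᵥ v = 0 := fun v => by
      rw [hW₀def, LinearMap.mem_ker, Matrix.toLin'_apply]
    have hW₀ : finrank F W₀ = i := by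
      rw [← hfd]
      have hpow : ∀ m, IsCoprime f ((X - Polynomial.C 1) ^ m) := fun m =>
        (hfi.coprime_iff_not_dvd.2 hne1).pow_right
      by_cases he : Even i
      · rw [basic, if_pos he] at hyP
        exact FieldExtSympBasic.finrank_ker_aeval (y : Mn) hfm ((monic_X_sub_C 1).pow _) (hpow _) hyP
      · rw [basic, if_neg he, mul_assoc] at hyP
        refine FieldExtSympBasic.finrank_ker_aeval (y : Mn) hfm ((mem_data h hτ).1.mul ((monic_X_sub_C 1).pow _))
          ((hfi.coprime_iff_not_dvd.2 fun hdv => he (hiff.1 ?_)).mul_right (hpow _)) hyP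
        exact (Polynomial.eq_of_monic_of_associated hfm (mem_data h hτ).1
          (hfi.associated_of_dvd (mem_data h hτ).2.1 hdv)).symm
    have hcommP : ∀ (P : F[X]) (A : Mn), (y : Mn) * A = A * (y : Mn) → aeval (y : Mn) P * A = A * aeval (y : Mn) P := by
      intro P A hA
      induction P using Polynomial.induction_on' with
      | add P Q hP hQ => rw [map_add, Matrix.add_mul, Matrix.mul_add, hP, hQ]
      | monomial l c =>
        have : Commute ((y : Mn) ^ l) A := Commute.pow_left hA l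
        rw [aeval_monomial, ← Algebra.smul_def, Matrix.smul_mul, Matrix.mul_smul, this.eq]
    have hWK : ∀ a ∈ K, ∀ w ∈ W₀, a *ᵥ w ∈ W₀ := fun a ha w hw => by
      have hc' := hcommP f a (hcomm a ha)
      rw [hmem] at hw ⊢
      rw [Matrix.mulVec_mulVec, hc', ← Matrix.mulVec_mulVec, hw, Matrix.mulVec_zero]
    have hdvd2 := FieldExtNormalizer.dvd_finrank hK two_pos W₀ hWK
    rw [hW₀] at hdvd2
    have hev : Even i := even_iff_two_dvd.2 hdvd2
    have hi0 := i_pos h
    obtain ⟨k, hk⟩ : ∃ k, i = 2 * (2 * k + 1) := by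
      obtain ⟨a, ha⟩ := hdvd2
      refine ⟨a / 2, ?_⟩
      obtain ⟨b, hb⟩ := hil
      have hal : l = a * b := Nat.eq_of_mul_eq_mul_left two_pos (by rw [hb, ha]; ring)
      have haodd : Odd a := (Nat.odd_mul.1 (hal ▸ hlodd)).1
      rw [Nat.odd_iff] at haodd
      omega
    -- `j` is a polynomial in `y` on `W₀`
    obtain ⟨v, hv, hv0⟩ : ∃ v ∈ W₀, v ≠ 0 :=
      Submodule.exists_mem_ne_zero_of_ne_bot fun e => by rw [e, finrank_bot] at hW₀; omega
    have hPW : ∀ P : F[X], aeval (y : Mn) P *ᵥ v ∈ W₀ := fun P => by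
      rw [hmem, Matrix.mulVec_mulVec, ← map_mul, mul_comm, map_mul, ← Matrix.mulVec_mulVec, (hmem v).1 hv,
        Matrix.mulVec_zero]
    haveI : FiniteDimensional F (degreeLT F i) := LinearEquiv.finiteDimensional (degreeLTEquiv F i).symm
    let ev : degreeLT F i →ₗ[F] W₀ :=
      { toFun := fun P => ⟨aeval (y : Mn) P.1 *ᵥ v, hPW P.1⟩
        map_add' := fun P P' => Subtype.ext (by simp [Matrix.add_mulVec])
        map_smul' := fun c P => Subtype.ext (by simp [Matrix.smul_mulVec]) }
    have hevi : Function.Injective ev := (injective_iff_map_eq_zero ev).2 fun P hP => by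
      by_contra hP0
      have hP0' : P.1 ≠ 0 := fun e => hP0 (Subtype.ext e)
      have hco : IsCoprime f P.1 := hfi.coprime_iff_not_dvd.2 fun hdv => by
        have h1 := Polynomial.natDegree_le_of_dvd hdv hP0'
        have h3 : P.1.natDegree < i := (natDegree_lt_iff_degree_lt hP0').2 (mem_degreeLT.1 P.2)
        omega
      obtain ⟨a, b, hab⟩ := hco
      have h1 := congrArg (fun R => aeval (y : Mn) R *ᵥ v) hab
      have hP' : aeval (y : Mn) P.1 *ᵥ v = 0 := congrArg Subtype.val hP
      simp only [map_add, map_mul, map_one, Matrix.add_mulVec, ← Matrix.mulVec_mulVec, (hmem v).1 hv, hP',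
        Matrix.mulVec_zero, add_zero, Matrix.one_mulVec] at h1
      exact hv0 h1.symm
    have hevs : Function.Surjective ev := (LinearMap.injective_iff_surjective_of_finrank_eq_finrank (by
      rw [hW₀, LinearEquiv.finrank_eq (degreeLTEquiv F i), Module.finrank_fin_fun])).1 hevi
    obtain ⟨P, hP⟩ := hevs ⟨(j : Mn) *ᵥ v, hWK _ j.2 v hv⟩
    have hPv : aeval (y : Mn) P.1 *ᵥ v = (j : Mn) *ᵥ v := congrArg Subtype.val hP
    have hPj : ∀ w ∈ W₀, aeval (y : Mn) P.1 *ᵥ w = (j : Mn) *ᵥ w := fun w hw => by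
      obtain ⟨R, hR'⟩ := hevs ⟨w, hw⟩
      have hRv : aeval (y : Mn) R.1 *ᵥ v = w := congrArg Subtype.val hR'
      rw [← hRv, Matrix.mulVec_mulVec, ← map_mul, mul_comm, map_mul, ← Matrix.mulVec_mulVec, hPv,
        Matrix.mulVec_mulVec, hcommP _ _ (hcomm _ j.2), ← Matrix.mulVec_mulVec]
    have hPl : ∀ n : ℕ, ∀ w ∈ W₀, aeval (y : Mn) P.1 ^ n *ᵥ w = (j : Mn) ^ n *ᵥ w := by
      intro n
      induction n with
      | zero => intro w _; simp
      | succ n ih =>
        intro w hw
        rw [pow_succ, ← Matrix.mulVec_mulVec, hPj w hw, ih _ (hWK _ j.2 w hw), Matrix.mulVec_mulVec, ← pow_succ]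
    set q := Fintype.card F with hqdef
    have hr3 : 2 < r := lt_of_le_of_ne hr.out.two_le (Ne.symm hr2)
    have hqm : q ^ (2 * k + 1) % r = r - 1 := by
      have h1 : ((q : ZMod r) ^ (2 * k + 1)) * ((q : ZMod r) ^ (2 * k + 1)) = 1 := by
        rw [← pow_add, ← two_mul, ← hk, hi, pow_orderOf_eq_one]
      rcases mul_self_eq_one_iff.1 h1 with h3 | h3
      · have := Nat.le_of_dvd (by omega) (orderOf_dvd_of_pow_eq_one h3)
        omega
      · have h4 : ((q ^ (2 * k + 1) : ℕ) : ZMod r) = ((r - 1 : ℕ) : ZMod r) := by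
          rw [Nat.cast_pow, h3, Nat.cast_sub hr.out.one_lt.le, ZMod.natCast_self, Nat.cast_one, zero_sub]
        rw [ZMod.natCast_eq_natCast_iff', Nat.mod_eq_of_lt (by omega : r - 1 < r)] at h4
        exact h4
    have hyQ : (y : Mn) ^ (q ^ (2 * k + 1)) = (y : Mn) ^ (r - 1) := by
      conv_lhs => rw [← Nat.div_add_mod (q ^ (2 * k + 1)) r, pow_add, pow_mul, hr1, one_pow, one_mul, hqm]
    have hadj : ∀ (R : F[X]) (a b : V), B (aeval (y : Mn) R *ᵥ a) b = B a (aeval ((y : Mn) ^ (r - 1)) R *ᵥ b) := by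
      intro R
      induction R using Polynomial.induction_on' with
      | add R R' hR₁ hR₂ =>
        intro a b
        rw [map_add, map_add, Matrix.add_mulVec, Matrix.add_mulVec, QuadraticMap.polar_add_left,
          QuadraticMap.polar_add_right, hR₁, hR₂]
      | monomial n c =>
        intro a b
        have hpow : ∀ (n : ℕ) (a b : V), B ((y : Mn) ^ n *ᵥ a) b = B a (((y : Mn) ^ (r - 1)) ^ n *ᵥ b) := by
          intro n
          induction n with
          | zero => intro a b; simp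
          | succ n ih =>
            intro a b
            rw [pow_succ, pow_succ', ← Matrix.mulVec_mulVec, ih, ← Matrix.mulVec_mulVec]
            conv_lhs => rw [show ((y : Mn) ^ (r - 1)) ^ n *ᵥ b = (y : Mn) *ᵥ ((y : Mn) ^ (r - 1) *ᵥ
              (((y : Mn) ^ (r - 1)) ^ n *ᵥ b)) by
              rw [Matrix.mulVec_mulVec _ (y : Mn), ← pow_succ', Nat.sub_add_cancel hr.out.one_lt.le, hr1,
                Matrix.one_mulVec]]
            exact hiso y hy _ _
        rw [aeval_monomial, aeval_monomial, ← Algebra.smul_def, ← Algebra.smul_def, Matrix.smul_mulVec,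
          Matrix.smul_mulVec, QuadraticMap.polar_smul_left, QuadraticMap.polar_smul_right, hpow]
    have hjQ : (j : Mn) ^ (q ^ (2 * k + 1)) = -(j : Mn) := by
      have h1 : j ^ (q ^ (2 * k + 1)) = -j := by
        rw [pow_succ' q, pow_mul, frob_j hR, pow_mul q 2 k, hqdef, ← card_E hR, FiniteField.pow_card_pow]
      exact (SubmonoidClass.coe_pow j _).symm.trans (congrArg Subtype.val h1)
    -- the block is totally isotropic, so `v` is orthogonal to everything
    have hiso₀ : ∀ a ∈ W₀, ∀ b ∈ W₀, B ((j : Mn) *ᵥ a) b = 0 := fun a ha b hb => by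
      have e1 := hadj P.1 a b
      rw [hPj a ha, ← hyQ, hqdef, ← aeval_pow_card', ← hqdef, hPl _ b hb, hjQ, Matrix.neg_mulVec,
        QuadraticMap.polar_neg_right] at e1
      have e2 : B ((j : Mn) *ᵥ a) b = B a ((j : Mn) *ᵥ b) := hKf _ j.2 a b
      exact (mul_eq_zero.1 (show (2 : F) * B ((j : Mn) *ᵥ a) b = 0 by linear_combination e1 + e2)).resolve_left h2
    have hperp : ∀ w ∈ W₀, B v w = 0 := fun w hw => by
      have hjj : (j : Mn) *ᵥ ((j : Mn) *ᵥ v) = δ • v := by
        rw [← hsm, ← hsm, smul_smul, hR.sq, algebraMap_smul]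
      have h1 := hiso₀ _ (hWK _ j.2 v hv) w hw
      rw [hjj, QuadraticMap.polar_smul_left, smul_eq_mul] at h1
      exact (mul_eq_zero.1 h1).resolve_left (δ_ne hR)
    rw [basic, if_pos hev] at hyP
    obtain ⟨L₁, hL₁⟩ : ∃ L₁ : F[X], L₁ = (X - Polynomial.C 1) ^ c := ⟨_, rfl⟩
    rw [← hL₁] at hyP
    have hL₁m : L₁.Monic := hL₁ ▸ (monic_X_sub_C 1).pow _
    have hco₁ : IsCoprime f L₁ := hL₁ ▸ (hfi.coprime_iff_not_dvd.2 hne1).pow_right
    have hdj : Disjoint W₀ (LinearMap.ker (Matrix.toLin' (aeval (y : Mn) L₁))) := by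
      rw [Submodule.disjoint_def]
      intro w hw hw'
      rw [LinearMap.mem_ker, Matrix.toLin'_apply] at hw'
      obtain ⟨a, b, hab⟩ := hco₁
      have h1 := congrArg (fun R => aeval (y : Mn) R *ᵥ w) hab
      simp only [map_add, map_mul, map_one, Matrix.add_mulVec, ← Matrix.mulVec_mulVec, (hmem w).1 hw, hw',
        Matrix.mulVec_zero, add_zero, Matrix.one_mulVec] at h1
      exact h1.symm
    set W₁ := LinearMap.ker (Matrix.toLin' (aeval (y : Mn) L₁))
    have hW₁ : finrank F W₁ = c := by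
      rw [FieldExtSympBasic.finrank_ker_aeval (y : Mn) hL₁m hfm hco₁.symm (by rw [hyP, mul_comm]), hL₁, natDegree_pow,
        natDegree_X_sub_C, mul_one]
    have htop : W₀ ⊔ W₁ = ⊤ := Submodule.eq_top_of_disjoint _ _ (by
      rw [hW₀, hW₁, Module.finrank_fintype_fun_eq_card, hι]
      have hh : OrthNondegDerange.half i = i / 2 := if_pos hev
      simp only [c, hh]
      omega) hdj
    refine hv0 (hQ.1 v fun z => ?_)
    obtain ⟨a, ha, b, hb, rfl⟩ := Submodule.mem_sup.1 (show z ∈ W₀ ⊔ W₁ by rw [htop]; trivial)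
    have hb' : aeval (y : Mn) L₁ *ᵥ b = 0 := by simpa [W₁] using hb
    obtain ⟨w', hw'⟩ : ∃ w', aeval ((y : Mn) ^ (r - 1)) L₁ *ᵥ b = 0 ∧ aeval (y : Mn) L₁ *ᵥ w' = v := by
      obtain ⟨a', b', hab⟩ := hco₁
      refine ⟨aeval (y : Mn) b' *ᵥ v, ?_, ?_⟩
      · rw [hL₁] at hb' ⊢
        rw [map_pow, map_sub, aeval_X, aeval_C, map_one]
        have hfacP : ((X - Polynomial.C 1 : F[X]) ^ c) ∣ (X ^ (r - 1) - Polynomial.C 1) ^ c :=
          pow_dvd_pow_of_dvd (by rw [map_one]; exact sub_one_dvd_pow_sub_one X (r - 1)) _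
        obtain ⟨R, hR'⟩ := hfacP
        have h6 := congrArg (fun R => aeval (y : Mn) R *ᵥ b) hR'
        simp only [map_mul, map_pow, map_sub, aeval_X, aeval_C, map_one] at h6
        simp only [map_pow, map_sub, aeval_X, aeval_C, map_one] at hb'
        rw [h6, ← hcommP R _ (((Commute.refl (y : Mn)).sub_right (Commute.one_right _)).pow_right _).eq,
          ← Matrix.mulVec_mulVec, hb', Matrix.mulVec_zero]
      · have h1 := congrArg (fun R => aeval (y : Mn) R *ᵥ v) hab
        simp only [map_add, map_mul, map_one, Matrix.add_mulVec, ← Matrix.mulVec_mulVec, (hmem v).1 hv,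
          Matrix.mulVec_zero, zero_add, Matrix.one_mulVec] at h1
        rw [Matrix.mulVec_mulVec, ← map_mul, mul_comm, map_mul, ← Matrix.mulVec_mulVec]
        exact h1
    show B v (a + b) = 0
    rw [QuadraticMap.polar_add_right, hperp a ha, zero_add, ← hw'.2, hadj, hw'.1, QuadraticMap.polar_zero_right]
  · rintro rfl x hx ⟨z, hz⟩ hns
    exact two_conj hQ hR hK hdesc hsa hι (by omega) hx hz hns

end Cfsg.Agent.FieldExtOrth
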