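import Cfsg.Agent.Lib.Classical.OrthPrimeOrderClasses
import Cfsg.Agent.Lib.Classical.OrthSpinor
import Cfsg.Agent.Lib.Classical.Unit

/-! Diagonal models of orthogonal spaces carrying a self-adjoint quadratic extension field, odd characteristic. -/

set_option autoImplicit false
set_option linter.unusedSectionVars false

namespace Cfsg.Agent.FieldExtOrth

open Module Matrix Cfsg.Agent.Classical

variable {F : Type*} [Field F] {E : Type*} [Field E] [Algebra F E]

/-- A quadratic extension with a trace-free square root `j` and the coordinate along `1`. -/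
structure Quad (j : E) (δ : F) (re : E →ₗ[F] F) : Prop where
  two : (2 : F) ≠ 0
  sq : j * j = algebraMap F E δ
  nsq : ¬ IsSquare δ
  re_apply : ∀ s t : F, re (algebraMap F E s + algebraMap F E t * j) = s
  span : ∀ a : E, ∃ s t : F, a = algebraMap F E s + algebraMap F E t * j
  dim : finrank F E = 2

theorem exists_quad (h2 : (2 : F) ≠ 0) (hE : finrank F E = 2) :
    ∃ (j : E) (δ : F) (re : E →ₗ[F] F), Quad j δ re := by
  classical
  haveI : Module.Finite F E := Module.finite_of_finrank_pos (by omega)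
  obtain ⟨a, ha⟩ : ∃ a : E, ∀ s : F, a ≠ algebraMap F E s := by
    by_contra h
    push Not at h
    have h1 : Function.Surjective (Algebra.linearMap F E) := fun a => by
      obtain ⟨s, hs⟩ := h a
      exact ⟨s, hs.symm⟩
    have h3 := LinearMap.finrank_range_le (Algebra.linearMap F E)
    rw [LinearMap.range_eq_top.2 h1, finrank_top, hE, Module.finrank_self] at h3
    omega
  have key : ∀ x : E, (∀ s : F, x ≠ algebraMap F E s) → LinearIndependent F ![(1 : E), x] := fun x hx => by
    refine LinearIndependent.pair_iff.2 fun s t hst => ?_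
    by_cases ht : t = 0
    · subst ht
      rw [zero_smul, add_zero, smul_eq_zero] at hst
      exact ⟨hst.resolve_right one_ne_zero, rfl⟩
    · exfalso
      refine hx (-s / t) ?_
      rw [Algebra.algebraMap_eq_smul_one, div_eq_inv_mul, mul_smul, neg_smul,
        show -(s • (1 : E)) = t • x from (eq_neg_of_add_eq_zero_right hst).symm, smul_smul, inv_mul_cancel₀ ht,
        one_smul]
  let ba := basisOfLinearIndependentOfCardEqFinrank (key a ha) (by rw [Fintype.card_fin, hE])
  obtain ⟨u, v, huv⟩ : ∃ u v : F, a * a = algebraMap F E u + algebraMap F E v * a := by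
    refine ⟨ba.repr (a * a) 0, ba.repr (a * a) 1, ?_⟩
    conv_lhs => rw [← ba.sum_repr (a * a), Fin.sum_univ_two]
    simp [ba, Algebra.smul_def]
  have h2E : (algebraMap F E 2) ≠ 0 := (_root_.map_ne_zero _).2 h2
  set j : E := a - algebraMap F E (v / 2) with hj
  set δ : F := u + (v / 2) * (v / 2) with hδ
  have hjj : j * j = algebraMap F E δ := by
    rw [hj, hδ, map_add, map_mul]
    have e : algebraMap F E v = algebraMap F E 2 * algebraMap F E (v / 2) := by
      rw [← map_mul, mul_div_cancel₀ v h2]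
    rw [map_ofNat] at e
    linear_combination huv + a * e
  have hjn : ∀ s : F, j ≠ algebraMap F E s := fun s hs => ha (s + v / 2) (by
    rw [map_add, ← hs, hj, sub_add_cancel])
  let bj := basisOfLinearIndependentOfCardEqFinrank (key j hjn) (by rw [Fintype.card_fin, hE])
  refine ⟨j, δ, bj.coord 0, h2, hjj, ?_, fun s t => ?_, fun x => ⟨bj.repr x 0, bj.repr x 1, ?_⟩, hE⟩
  · rintro ⟨c, hc⟩
    rw [hc, map_mul] at hjj
    rcases mul_self_eq_mul_self_iff.1 hjj with h | h
    · exact hjn c h
    · exact hjn (-c) (by rw [map_neg, h])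
  · have e : algebraMap F E s + algebraMap F E t * j = s • bj 0 + t • bj 1 := by
      simp [bj, Algebra.smul_def]
    rw [e]
    simp
  · conv_lhs => rw [← bj.sum_repr x, Fin.sum_univ_two]
    simp [bj, Algebra.smul_def]

/-- A diagonal bilinear form. -/
def dgBil (re : E →ₗ[F] F) {κ : Type} [Fintype κ] (a : κ → E) : LinearMap.BilinForm F (κ → E) :=
  LinearMap.mk₂ F (fun u v => re (∑ l, a l * u l * v l))
    (fun u u' v => by simp only [Pi.add_apply, mul_add, add_mul, Finset.sum_add_distrib, map_add])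
    (fun c u v => by simp only [Pi.smul_apply, mul_smul_comm, smul_mul_assoc, ← Finset.smul_sum, map_smul])
    (fun u v v' => by simp only [Pi.add_apply, mul_add, Finset.sum_add_distrib, map_add])
    (fun c u v => by simp only [Pi.smul_apply, mul_smul_comm, ← Finset.smul_sum, map_smul])

/-- A diagonal quadratic space over the extension, read over the ground field. -/
def qd (re : E →ₗ[F] F) {κ : Type} [Fintype κ] (a : κ → E) : QuadraticForm F (κ → E) :=
  LinearMap.BilinMap.toQuadraticMap (dgBil re a)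

theorem qd_apply (re : E →ₗ[F] F) {κ : Type} [Fintype κ] (a : κ → E) (u : κ → E) :
    qd re a u = re (∑ l, a l * u l * u l) := rfl

theorem polar_qd (re : E →ₗ[F] F) {κ : Type} [Fintype κ] (a : κ → E) (u v : κ → E) :
    QuadraticMap.polar (⇑(qd re a)) u v = 2 * re (∑ l, a l * u l * v l) := by
  show QuadraticMap.polar (⇑(LinearMap.BilinMap.toQuadraticMap (dgBil re a))) u v = _
  rw [LinearMap.BilinMap.polar_toQuadraticMap]
  show re _ + re _ = _
  rw [two_mul, add_right_inj]
  exact congrArg re (Finset.sum_congr rfl fun l _ => by ring)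

theorem qd_congr (re : E →ₗ[F] F) {κ μ : Type} [Fintype κ] [Fintype μ] (e : κ ≃ μ) (a : μ → E) (u : μ → E) :
    qd re (a ∘ e) (u ∘ e) = qd re a u := by
  rw [qd_apply, qd_apply]
  exact congrArg re (e.sum_comp fun l => a l * u l * u l)

/-- The constants `1, …, 1, D`. -/
def canon {n : ℕ} (D : E) : Fin (n + 1) → E := fun i => if i = Fin.last n then D else 1

theorem canon_ne {n : ℕ} {D : E} (hD : D ≠ 0) (i : Fin (n + 1)) : canon D i ≠ 0 := by
  unfold canon
  split_ifs
  exacts [hD, one_ne_zero]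

variable {j : E} {δ : F} {re : E →ₗ[F] F} (hR : Quad j δ re)

include hR

theorem two_E : (2 : E) ≠ 0 := by
  rw [← map_ofNat (algebraMap F E) 2]; exact (_root_.map_ne_zero _).2 hR.two

theorem δ_ne : δ ≠ 0 := fun h => hR.nsq (h ▸ IsSquare.zero)

theorem j_ne : j ≠ 0 := fun h => δ_ne hR (by
  have h1 := hR.sq
  rw [h, mul_zero] at h1
  exact (map_eq_zero (algebraMap F E)).1 h1.symm)

theorem re_base (s : F) : re (algebraMap F E s) = s := by
  simpa using hR.re_apply s 0

theorem re_base_mul (s : F) (x : E) : re (algebraMap F E s * x) = s * re x := by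
  rw [← Algebra.smul_def, map_smul, smul_eq_mul]

theorem eq_zero_of_re {z : E} (h : ∀ c, re (z * c) = 0) : z = 0 := by
  obtain ⟨s, t, rfl⟩ := hR.span z
  have h1 := h 1
  rw [mul_one, hR.re_apply] at h1
  have h3 := h j
  rw [h1, map_zero, zero_add, mul_assoc, hR.sq, ← map_mul, re_base hR, mul_eq_zero, or_iff_left (δ_ne hR)] at h3
  rw [h1, h3]
  simp

theorem finrank_pi_eq {κ : Type} [Fintype κ] : finrank F (κ → E) = 2 * Fintype.card κ := by
  haveI : Module.Finite F E := Module.finite_of_finrank_pos (by rw [hR.dim]; exact two_pos)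
  rw [Module.finrank_pi_fintype, Finset.sum_const, Finset.card_univ, hR.dim, smul_eq_mul, mul_comm]

theorem nondeg_qd {κ : Type} [Fintype κ] {a : κ → E} (ha : ∀ l, a l ≠ 0) :
    (QuadraticMap.polarBilin (qd re a)).Nondegenerate := by
  classical
  refine nondegenerate_of_separatingLeft _ fun u hu => funext fun l => ?_
  refine (mul_eq_zero.1 (eq_zero_of_re hR fun c => ?_)).resolve_left (ha l)
  have h1 := hu (Pi.single l c)
  rw [QuadraticMap.polarBilin_apply_apply, polar_qd, mul_eq_zero, or_iff_right hR.two,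
    Finset.sum_eq_single l (fun m _ hm => by rw [Pi.single_eq_of_ne hm, mul_zero])
      (fun h => absurd (Finset.mem_univ l) h), Pi.single_eq_same] at h1
  exact h1

variable [Fintype F] [Fintype E]

theorem card_E : Fintype.card E = Fintype.card F ^ 2 := by
  rw [Module.card_eq_pow_finrank (K := F) (V := E), hR.dim]

theorem isSquare_base (s : F) : IsSquare (algebraMap F E s) := by
  by_cases hs : IsSquare s
  · exact hs.map _
  · obtain ⟨c, hc⟩ := isSquare_of_two_nonsquares hR.two hs hR.nsq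
    refine ⟨algebraMap F E c / j, ?_⟩
    rw [div_mul_div_comm, ← map_mul, ← hc, map_mul, hR.sq, mul_div_cancel_right₀ _
      ((_root_.map_ne_zero _).2 (δ_ne hR))]

theorem frob_base (s : F) : algebraMap F E s ^ Fintype.card F = algebraMap F E s := by
  rw [← map_pow, FiniteField.pow_card]

theorem odd_card : Fintype.card F % 2 = 1 :=
  FiniteField.odd_card_of_char_ne_two fun hc => hR.two (by
    haveI := ringChar.of_eq hc; exact CharTwo.two_eq_zero)

theorem frob_j : j ^ Fintype.card F = -j := by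
  have hc : ringChar F ≠ 2 := fun hc => hR.two (by
    haveI := ringChar.of_eq hc; exact CharTwo.two_eq_zero)
  have h1 : δ ^ (Fintype.card F / 2) = -1 :=
    (FiniteField.pow_dichotomy hc (δ_ne hR)).resolve_left fun h => hR.nsq ((FiniteField.isSquare_iff hc (δ_ne hR)).2 h)
  have h3 := odd_card hR
  rw [show Fintype.card F = 2 * (Fintype.card F / 2) + 1 by omega, pow_succ, pow_mul, pow_two, hR.sq, ← map_pow,
    h1, map_neg, map_one, neg_one_mul]

theorem re_frob (x : E) : re (x ^ Fintype.card F) = re x := by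
  obtain ⟨s, t, rfl⟩ := hR.span x
  rw [add_pow_q (card_E hR), mul_pow, frob_base hR, frob_base hR, frob_j hR, mul_neg, ← neg_mul, ← map_neg,
    hR.re_apply, hR.re_apply]

/-- A line over the extension is a hyperbolic plane exactly when its coefficient times `j` is a square. -/
theorem plus_line {κ : Type} [Fintype κ] (hκ : Fintype.card κ = 1) (a : κ → E) (k : κ) (ha : a k ≠ 0) :
    EvenType.Plus (qd re a) ↔ IsSquare (a k * j) := by
  classical
  haveI : Subsingleton κ := Fintype.card_le_one_iff_subsingleton.1 hκ.le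
  haveI : Module.Finite F E := Module.finite_of_finrank_pos (by rw [hR.dim]; exact two_pos)
  have hsum : ∀ u : κ → E, qd re a u = re (a k * u k * u k) := fun u => by
    rw [qd_apply, Finset.sum_eq_single k (fun m _ hm => absurd (Subsingleton.elim m k) hm)
      (fun h => absurd (Finset.mem_univ k) h)]
  constructor
  · rintro ⟨U, hU, hd⟩
    rw [finrank_pi_eq hR, hκ] at hd
    obtain ⟨u, hu, hu0⟩ := Submodule.exists_mem_ne_zero_of_ne_bot (p := U) fun e => by
      rw [e, finrank_bot] at hd; omega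
    have hk0 : u k ≠ 0 := fun e => hu0 (funext fun l => by rw [Subsingleton.elim l k, e]; rfl)
    have h1 := hU u hu
    rw [hsum] at h1
    obtain ⟨s, t, hst⟩ := hR.span (a k * u k * u k)
    rw [hst, hR.re_apply] at h1
    rw [h1, map_zero, zero_add] at hst
    obtain ⟨c, hc⟩ := isSquare_base hR (t * δ)
    refine ⟨c / u k, ?_⟩
    rw [div_mul_div_comm, ← hc, eq_div_iff (mul_ne_zero hk0 hk0), map_mul, ← hR.sq]
    linear_combination j * hst
  · rintro ⟨c, hc⟩
    have hc0 : c ≠ 0 := fun e => mul_ne_zero ha (j_ne hR) (by rw [hc, e, mul_zero])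
    set w : κ → E := fun _ => j / c
    have hw : w ≠ 0 := fun e => div_ne_zero (j_ne hR) hc0 (congrFun e k)
    refine ⟨Submodule.span F {w}, fun x hx => ?_, by rw [finrank_span_singleton hw, finrank_pi_eq hR, hκ]⟩
    obtain ⟨s, rfl⟩ := Submodule.mem_span_singleton.1 hx
    rw [QuadraticMap.map_smul, hsum]
    have e : a k * w k * w k = algebraMap F E 0 + algebraMap F E 1 * j := by
      rw [map_zero, map_one, zero_add, one_mul]
      simp only [w]
      field_simp
      linear_combination j * hc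
    rw [e, hR.re_apply, smul_zero]

omit hR in
/-- The type of an orthogonal product. -/
theorem plus_prod {V W : Type*} [AddCommGroup V] [Module F V] [FiniteDimensional F V] [AddCommGroup W]
    [Module F W] [FiniteDimensional F W] {Q : QuadraticForm F V} {R : QuadraticForm F W}
    (hQ : (QuadraticMap.polarBilin Q).Nondegenerate) (hR' : (QuadraticMap.polarBilin R).Nondegenerate) {a c : ℕ}
    (hV : finrank F V = 2 * (a + 1)) (hW : finrank F W = 2 * (c + 1)) :
    EvenType.Plus (Q.prod R) ↔ (EvenType.Plus Q ↔ EvenType.Plus R) := by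
  let A := LinearMap.range (LinearMap.inl F V W)
  let B := LinearMap.range (LinearMap.inr F V W)
  let eA : V ≃ₗ[F] A := LinearEquiv.ofInjective _ LinearMap.inl_injective
  let eB : W ≃ₗ[F] B := LinearEquiv.ofInjective _ LinearMap.inr_injective
  have hsplit : EvenType.Split (Q.prod R) A B :=
    ⟨LinearMap.sup_range_inl_inr, disjoint_iff.1 LinearMap.disjoint_inl_inr, by
      rintro _ ⟨x, rfl⟩ _ ⟨y, rfl⟩
      simp [QuadraticMap.polar, QuadraticMap.prod_apply]⟩
  have heA : ∀ v, EvenType.res (Q.prod R) A (eA v) = Q v := fun v => by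
    rw [EvenType.res_apply, show ((eA v : A) : V × W) = (v, 0) from rfl]; simp [QuadraticMap.prod_apply]
  have heB : ∀ v, EvenType.res (Q.prod R) B (eB v) = R v := fun v => by
    rw [EvenType.res_apply, show ((eB v : B) : V × W) = (0, v) from rfl]; simp [QuadraticMap.prod_apply]
  rw [hsplit.plus_iff (OrthPrimeOrderClasses.nondegenerate_prod hQ hR') (a := a) (b := c)
    (by rw [← eA.finrank_eq, hV]) (by rw [← eB.finrank_eq, hW])]
  refine iff_congr ⟨fun hp => hp.map eA.symm fun v => by rw [← heA, eA.apply_symm_apply], fun hp => hp.map eA heA⟩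
    ⟨fun hp => hp.map eB.symm fun v => by rw [← heB, eB.apply_symm_apply], fun hp => hp.map eB heB⟩

theorem plus_reindex {κ μ : Type} [Fintype κ] [Fintype μ] (e : κ ≃ μ) (a : μ → E) :
    EvenType.Plus (qd re (a ∘ e)) ↔ EvenType.Plus (qd re a) := by
  haveI : Module.Finite F E := Module.finite_of_finrank_pos (by rw [hR.dim]; exact two_pos)
  exact ⟨fun hp => hp.map (LinearEquiv.funCongrLeft F E e.symm) fun v => by
      rw [show LinearEquiv.funCongrLeft F E e.symm v = v ∘ e.symm from rfl, ← qd_congr re e]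
      congr 1
      funext l
      simp,
    fun hp => hp.map (LinearEquiv.funCongrLeft F E e) fun v => qd_congr re e a v⟩

theorem plus_sum {κ μ : Type} [Fintype κ] [Fintype μ] (hκ : 1 ≤ Fintype.card κ) (hμ : 1 ≤ Fintype.card μ)
    {a : κ → E} {b : μ → E} (ha : ∀ l, a l ≠ 0) (hb : ∀ l, b l ≠ 0) :
    EvenType.Plus (qd re (Sum.elim a b)) ↔ (EvenType.Plus (qd re a) ↔ EvenType.Plus (qd re b)) := by
  haveI : Module.Finite F E := Module.finite_of_finrank_pos (by rw [hR.dim]; exact two_pos)
  obtain ⟨x, hx⟩ : ∃ x, Fintype.card κ = x + 1 := ⟨_, (Nat.sub_add_cancel hκ).symm⟩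
  obtain ⟨y, hy⟩ : ∃ y, Fintype.card μ = y + 1 := ⟨_, (Nat.sub_add_cancel hμ).symm⟩
  rw [← plus_prod (nondeg_qd hR ha) (nondeg_qd hR hb) (a := x) (c := y)
    (by rw [finrank_pi_eq hR, hx]) (by rw [finrank_pi_eq hR, hy])]
  let φ := LinearEquiv.sumArrowLequivProdArrow κ μ F E
  have hφ : ∀ v, ((qd re a).prod (qd re b)) (φ v) = qd re (Sum.elim a b) v := fun v => by
    rw [QuadraticMap.prod_apply, qd_apply, qd_apply, qd_apply, Fintype.sum_sum_type, map_add]
    rfl
  exact ⟨fun hp => hp.map φ hφ, fun hp => hp.map φ.symm fun v => by rw [← hφ, φ.apply_symm_apply]⟩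

theorem exists_nonsquare_E : ∃ ν : E, ν ≠ 0 ∧ ¬ IsSquare ν := by
  obtain ⟨ν, hν⟩ := FiniteField.exists_nonsquare (F := E) fun hc => two_E hR (by
    haveI := ringChar.of_eq hc; exact CharTwo.two_eq_zero)
  exact ⟨ν, fun e => hν (e ▸ IsSquare.zero), hν⟩

/-- Coefficients of either type. -/
theorem exists_choice {κ : Type} [Fintype κ] (hκ : 1 ≤ Fintype.card κ) (b : Prop) :
    ∃ a : κ → E, (∀ l, a l ≠ 0) ∧ (EvenType.Plus (qd re a) ↔ b) := by
  classical
  obtain ⟨ν, hν0, hν⟩ := exists_nonsquare_E hR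
  have line : ∀ b : Prop, ∃ a : E, a ≠ 0 ∧ (IsSquare (a * j) ↔ b) := fun b => by
    by_cases hb : b
    · exact ⟨j, j_ne hR, iff_of_true ⟨j, rfl⟩ hb⟩
    · refine ⟨ν * j, mul_ne_zero hν0 (j_ne hR), iff_of_false (fun h => hν ?_) hb⟩
      obtain ⟨c, hc⟩ := h
      refine ⟨c / j, ?_⟩
      have := j_ne hR
      field_simp
      linear_combination hc
  obtain ⟨n, hn⟩ : ∃ n, Fintype.card κ = n + 1 := ⟨_, (Nat.sub_add_cancel hκ).symm⟩
  rcases Nat.eq_zero_or_pos n with rfl | hpos
  · obtain ⟨a, ha, hab⟩ := line b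
    obtain ⟨k⟩ := Fintype.card_pos_iff.1 hκ
    exact ⟨fun _ => a, fun _ => ha, (plus_line hR hn (fun _ => a) k ha).trans hab⟩
  let e : κ ≃ Fin 1 ⊕ Fin n := Fintype.equivOfCardEq (by simp [hn, add_comm])
  obtain ⟨a, ha, hab⟩ := line (b ↔ EvenType.Plus (qd re fun _ : Fin n => (1 : E)))
  refine ⟨Sum.elim (fun _ : Fin 1 => a) (fun _ : Fin n => (1 : E)) ∘ e, fun l => ?_, ?_⟩
  · show Sum.elim _ _ (e l) ≠ 0
    rcases e l with x | x
    exacts [ha, one_ne_zero]
  · rw [plus_reindex hR e, plus_sum hR (by simp) (by simp; omega) (fun _ => ha) (fun _ => one_ne_zero),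
      plus_line hR (Fintype.card_fin 1) (fun _ => a) 0 ha, hab]
    tauto

theorem plus_canon {n : ℕ} (hn : 1 ≤ n) {D : E} (hD : D ≠ 0) :
    EvenType.Plus (qd re (canon (n := n) D)) ↔
      (EvenType.Plus (qd re fun _ : Fin n => (1 : E)) ↔ IsSquare (D * j)) := by
  rw [← plus_reindex hR (finSumFinEquiv : Fin n ⊕ Fin 1 ≃ Fin (n + 1))]
  have e : canon (n := n) D ∘ finSumFinEquiv = Sum.elim (fun _ : Fin n => (1 : E)) (fun _ : Fin 1 => D) := by
    funext l
    rcases l with l | l
    · simp [canon, Fin.ext_iff, l.isLt.ne]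
    · simp [canon, Fin.ext_iff]
  rw [e, plus_sum hR (by simp; omega) (by simp) (fun _ => one_ne_zero) (fun _ => hD),
    plus_line hR (Fintype.card_fin 1) (fun _ => D) 0 hD]

theorem canon_class {n : ℕ} {D D' : E} (hD : D ≠ 0) (hD' : D' ≠ 0)
    (h : EvenType.Plus (qd re (canon (n := n) D)) ↔ EvenType.Plus (qd re (canon (n := n) D'))) :
    IsSquare (D' / D) := by
  have h' : IsSquare (D * j) ↔ IsSquare (D' * j) := by
    rcases Nat.eq_zero_or_pos n with rfl | hn
    · rwa [plus_line hR (Fintype.card_fin 1) _ (Fin.last 0) (canon_ne hD _),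
        plus_line hR (Fintype.card_fin 1) _ (Fin.last 0) (canon_ne hD' _), canon, canon, if_pos rfl, if_pos rfl] at h
    · rw [plus_canon hR hn hD, plus_canon hR hn hD'] at h
      tauto
  have e : D' / D = (D' * j) * (D * j) / ((D * j) * (D * j)) := by
    have := j_ne hR
    field_simp
  rw [e]
  refine IsSquare.div ?_ ⟨_, rfl⟩
  by_cases hs : IsSquare (D * j)
  · exact (h'.1 hs).mul hs
  · exact isSquare_of_two_nonsquares (two_E hR) (fun e => hs (h'.2 e)) hs

omit hR in
/-- Diagonal coordinates of a symmetric bilinear form over the extension. -/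
theorem exists_canon (h2 : (2 : E) ≠ 0) {W : Type*} [AddCommGroup W] [Module E W] [FiniteDimensional E W]
    (ψ : LinearMap.BilinForm E W) (hS : ψ.IsSymm) (hn : ψ.Nondegenerate) {n : ℕ} (hW : finrank E W = n + 1) :
    ∃ D : E, D ≠ 0 ∧ ∃ Φ : (Fin (n + 1) → E) ≃ₗ[E] W, ∀ u v, ψ (Φ u) (Φ v) = ∑ l, canon D l * u l * v l := by
  classical
  obtain ⟨b, D, hD, horth, hone, hlast⟩ := Classical.exists_diag_basis ψ h2 hS hn hW
  refine ⟨D, hD, b.equivFun.symm, fun u v => ?_⟩
  rw [Basis.equivFun_symm_apply, Basis.equivFun_symm_apply, map_sum]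
  refine Finset.sum_congr rfl fun i _ => ?_
  rw [map_smul, smul_eq_mul, map_sum, LinearMap.sum_apply, Finset.sum_eq_single i
    (fun l _ hl => by rw [map_smul, LinearMap.smul_apply, horth l i hl, smul_zero])
    (fun h => absurd (Finset.mem_univ i) h), map_smul, LinearMap.smul_apply, smul_eq_mul]
  unfold canon
  split_ifs with hi
  · subst hi; rw [hlast]; ring
  · rw [hone i hi]; ring

theorem re_symm_type {W : Type*} [AddCommGroup W] [Module F W] [Module E W] [IsScalarTower F E W]
    [FiniteDimensional E W] {Q : QuadraticForm F W} {ψ : LinearMap.BilinForm E W} (hQ : ∀ x, Q x = re (ψ x x))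
    {κ : Type} [Fintype κ] {a : κ → E} (Φ : (κ → E) ≃ₗ[E] W) (hΦ : ∀ u v, ψ (Φ u) (Φ v) = ∑ l, a l * u l * v l) :
    (∀ u, Q (Φ u) = qd re a u) ∧ (EvenType.Plus (qd re a) ↔ EvenType.Plus Q) := by
  haveI : Module.Finite F E := Module.finite_of_finrank_pos (by rw [hR.dim]; exact two_pos)
  haveI : Module.Finite F W := Module.Finite.trans E W
  have h : ∀ u, Q (Φ u) = qd re a u := fun u => by rw [hQ, hΦ, qd_apply]
  refine ⟨h, fun hp => hp.map (Φ.restrictScalars F) h, fun hp => hp.map (Φ.restrictScalars F).symm fun v => ?_⟩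
  rw [← h]
  exact congrArg Q (Φ.apply_symm_apply v)

/-- Coordinates adapted to any diagonal form of the right type. -/
theorem exists_coords {W : Type*} [AddCommGroup W] [Module F W] [Module E W] [IsScalarTower F E W]
    [FiniteDimensional E W] (Q : QuadraticForm F W) (ψ : LinearMap.BilinForm E W) (hS : ψ.IsSymm)
    (hn : ψ.Nondegenerate) (hQ : ∀ x, Q x = re (ψ x x)) {κ : Type} [Fintype κ] {n : ℕ}
    (hκ : Fintype.card κ = n + 1) (hW : finrank E W = n + 1) {a : κ → E} (ha : ∀ l, a l ≠ 0)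
    (htype : EvenType.Plus (qd re a) ↔ EvenType.Plus Q) :
    ∃ Φ : (κ → E) ≃ₗ[E] W, (∀ u v, ψ (Φ u) (Φ v) = ∑ l, a l * u l * v l) ∧ ∀ u, Q (Φ u) = qd re a u := by
  classical
  obtain ⟨D, hD, Φ₁, hΦ₁⟩ := exists_canon (two_E hR) ψ hS hn hW
  let χ : LinearMap.BilinForm E (κ → E) := LinearMap.mk₂ E (fun u v => ∑ l, a l * u l * v l)
    (fun u u' v => by simp only [Pi.add_apply, mul_add, add_mul, Finset.sum_add_distrib])
    (fun c u v => by
      simp only [Pi.smul_apply, smul_eq_mul, Finset.mul_sum]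
      exact Finset.sum_congr rfl fun l _ => by ring)
    (fun u v v' => by simp only [Pi.add_apply, mul_add, Finset.sum_add_distrib])
    (fun c u v => by
      simp only [Pi.smul_apply, smul_eq_mul, Finset.mul_sum]
      exact Finset.sum_congr rfl fun l _ => by ring)
  have hχS : ∀ u v, χ u v = χ v u := fun u v => Finset.sum_congr rfl fun l _ => by ring
  have hχn : ∀ u, (∀ v, χ u v = 0) → u = 0 := fun u hu => funext fun l => by
    have h1 : ∑ m, a m * u m * (Pi.single l (1 : E) : κ → E) m = 0 := hu (Pi.single l 1)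
    rw [Finset.sum_eq_single l (fun m _ hm => by rw [Pi.single_eq_of_ne hm, mul_zero])
      (fun h => absurd (Finset.mem_univ l) h), Pi.single_eq_same, mul_one] at h1
    exact (mul_eq_zero.1 h1).resolve_left (ha l)
  obtain ⟨D', hD', Φ₂, hΦ₂⟩ := exists_canon (two_E hR) χ ⟨hχS⟩
    ⟨hχn, fun v hv => hχn v fun u => (hχS v u).trans (hv u)⟩
    (n := n) (by rw [Module.finrank_pi, hκ])
  have t1 := (re_symm_type hR hQ Φ₁ hΦ₁).2
  have t2 := (re_symm_type hR (Q := qd re a) (ψ := χ) (fun x => qd_apply re a x) Φ₂ hΦ₂).2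
  obtain ⟨c, hc⟩ := canon_class hR hD hD' (t1.trans (htype.symm.trans t2.symm))
  have hc0 : c ≠ 0 := fun e => div_ne_zero hD' hD (by rw [hc, e, mul_zero])
  let s : Fin (n + 1) → Eˣ := fun i => if i = Fin.last n then Units.mk0 c hc0 else 1
  let S : (Fin (n + 1) → E) ≃ₗ[E] (Fin (n + 1) → E) :=
    LinearEquiv.piCongrRight fun i => LinearEquiv.smulOfUnit (s i)
  have hS' : ∀ i x y, canon (n := n) D i * S x i * S y i = canon (n := n) D' i * x i * y i := fun i x y => by
    show canon D i * ((s i : E) * x i) * ((s i : E) * y i) = _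
    simp only [s, canon]
    split_ifs with hi
    · rw [Units.val_mk0]
      have e : D' = D * (c * c) := by rw [← hc, mul_div_cancel₀ _ hD]
      rw [e]; ring
    · simp
  let Φ := (Φ₂.symm.trans S).trans Φ₁
  have hΦ : ∀ u v, ψ (Φ u) (Φ v) = ∑ l, a l * u l * v l := fun u v => by
    obtain ⟨x, rfl⟩ := Φ₂.surjective u
    obtain ⟨y, rfl⟩ := Φ₂.surjective v
    show ψ (Φ₁ (S (Φ₂.symm (Φ₂ x)))) (Φ₁ (S (Φ₂.symm (Φ₂ y)))) = χ (Φ₂ x) (Φ₂ y)
    rw [Φ₂.symm_apply_apply, Φ₂.symm_apply_apply, hΦ₁, hΦ₂]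
    exact Finset.sum_congr rfl fun i _ => hS' i x y
  exact ⟨Φ, hΦ, (re_symm_type hR hQ Φ hΦ).1⟩

section Space

variable {ι : Type} [Fintype ι] [DecidableEq ι] {Q : QuadraticForm F (ι → F)} [Module E (ι → F)]
  [IsScalarTower F E (ι → F)]

/-- The symmetric form over the extension. -/
theorem exists_form (hQ : (QuadraticMap.polarBilin Q).Nondegenerate)
    (hsa : ∀ (e : E) x y, QuadraticMap.polar (⇑Q) (e • x) y = QuadraticMap.polar (⇑Q) x (e • y)) :
    ∃ ψ : LinearMap.BilinForm E (ι → F), ψ.IsSymm ∧ ψ.Nondegenerate ∧ ∀ x, Q x = re (ψ x x) := by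
  let A := algebraMap F E
  let B := QuadraticMap.polar ⇑Q
  let h : (ι → F) → (ι → F) → E := fun x y => A (2⁻¹ * B x y) + A ((2 * δ)⁻¹ * B (j • x) y) * j
  have hjj : ∀ x : ι → F, j • j • x = δ • x := fun x => by rw [smul_smul, hR.sq, algebraMap_smul]
  have hadd : ∀ x x' y, h (x + x') y = h x y + h x' y := fun x x' y => by
    simp only [h, B, smul_add, QuadraticMap.polar_add_left, mul_add, map_add]; ring
  have hsymm : ∀ x y, h x y = h y x := fun x y => by
    simp only [h, B]
    rw [QuadraticMap.polar_comm _ x y, hsa, QuadraticMap.polar_comm _ x (j • y)]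
  have hsmul : ∀ e x y, h (e • x) y = e * h x y := fun e x y => by
    obtain ⟨s, t, rfl⟩ := hR.span e
    have e1 : (A s + A t * j) • x = s • x + t • (j • x) := by
      rw [add_smul, mul_smul, algebraMap_smul, algebraMap_smul]
    have e2 : j • (s • x + t • (j • x)) = s • (j • x) + (t * δ) • x := by
      rw [smul_add, smul_comm j s x, smul_comm j t, hjj, smul_smul]
    simp only [h, B]
    rw [e1, e2]
    simp only [QuadraticMap.polar_add_left, QuadraticMap.polar_smul_left, smul_eq_mul]
    have hδ := δ_ne hR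
    have h2 := hR.two
    have f1 : (2 * δ)⁻¹ * (s * QuadraticMap.polar (⇑Q) (j • x) y + t * δ * QuadraticMap.polar (⇑Q) x y) =
        s * ((2 * δ)⁻¹ * QuadraticMap.polar (⇑Q) (j • x) y) + t * (2⁻¹ * QuadraticMap.polar (⇑Q) x y) := by
      field_simp
    have f2 : (2 : F)⁻¹ * (s * QuadraticMap.polar (⇑Q) x y + t * QuadraticMap.polar (⇑Q) (j • x) y) =
        s * (2⁻¹ * QuadraticMap.polar (⇑Q) x y) + t * δ * ((2 * δ)⁻¹ * QuadraticMap.polar (⇑Q) (j • x) y) := by
      field_simp
    rw [f1, f2]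
    simp only [A, map_add, map_mul]
    rw [← hR.sq]
    ring
  let ψ : LinearMap.BilinForm E (ι → F) := LinearMap.mk₂ E h hadd hsmul
    (fun x y y' => by rw [hsymm, hadd, hsymm y, hsymm y'])
    (fun e x y => by rw [hsymm, hsmul, hsymm y, smul_eq_mul])
  have hre : ∀ x y, re (h x y) = 2⁻¹ * B x y := fun x y => hR.re_apply _ _
  have hleft : ∀ x, (∀ y, ψ x y = 0) → x = 0 := fun x hx => hQ.1 x fun y => by
    have h1 : h x y = 0 := hx y
    have h3 := hre x y
    rw [h1, map_zero] at h3
    exact (mul_eq_zero.1 h3.symm).resolve_left (inv_ne_zero hR.two)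
  refine ⟨ψ, ⟨fun x y => hsymm x y⟩,
    ⟨hleft, fun x hx => hleft x fun y => (hsymm x y).trans (hx y)⟩, fun x => ?_⟩
  show Q x = re (h x x)
  rw [hre]
  show Q x = 2⁻¹ * QuadraticMap.polar (⇑Q) x x
  rw [OrthAut.polar_self2]
  have := hR.two
  field_simp

theorem finrank_space {d : ℕ} (hι : Fintype.card ι = 2 * d) : finrank E (ι → F) = d := by
  have h1 := Module.finrank_mul_finrank F E (ι → F)
  rw [hR.dim, Module.finrank_pi, hι] at h1
  omega

end Space

end Cfsg.Agent.FieldExtOrth
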