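import Cfsg.Agent.Lib.Classical.OrthEvenTSInvolution
import Cfsg.Agent.Lib.Classical.OrthEvenTSCriterion

/-! Totally singular subspaces of `Ω^±_{2d}(q)`: the criteria in the shape of the statements. -/

set_option autoImplicit false
set_option linter.unusedSectionVars false
set_option quotPrecheck false

namespace Cfsg.Agent.OrthEvenTSMain

open Module Matrix Cfsg.Agent.Classical Cfsg.Agent.Classical.OrthAut

variable {F : Type*} [Field F] [Fintype F] {ι : Type} [Fintype ι] [DecidableEq ι] {Q : QuadraticForm F (ι → F)}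

/-- Every element of order `r` modulo scalars fixes a totally singular `m`-space. -/
def Fixes (Q : QuadraticForm F (ι → F)) (r m : ℕ) : Prop :=
  ∀ x : GL ι F, x ∈ Geo.omegaGL ⇑Q → (∃ z : F, ((x ^ r : GL ι F) : Matrix ι ι F) = z • (1 : Matrix ι ι F)) →
    (∀ z : F, (x : Matrix ι ι F) ≠ z • (1 : Matrix ι ι F)) →
    ∃ W : Submodule F (ι → F), finrank F W = m ∧ (∀ w ∈ W, Q w = 0) ∧
      W.map (Matrix.toLin' (x : Matrix ι ι F)) ≤ W

variable (hQ : (QuadraticMap.polarBilin Q).Nondegenerate) {d m : ℕ} (hι : Fintype.card ι = 2 * d) (ε : Prop)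
  (hε : EvenType.Plus Q ↔ ε)

include hQ in
/-- The square of an element of order two modulo scalars is `±1`. -/
theorem sq_cases (hpos : 0 < Fintype.card ι) (g : isometryGroup F ⇑Q) {z : F}
    (hz : (((g : GL ι F) ^ 2 : GL ι F) : Matrix ι ι F) = z • (1 : Matrix ι ι F)) :
    g * g = 1 ∨ ∀ x, ogVal g *ᵥ (ogVal g *ᵥ x) = -x := by
  have happ : ∀ x, ogVal g *ᵥ (ogVal g *ᵥ x) = z • x := fun x => by
    rw [Matrix.mulVec_mulVec, show ogVal g * ogVal g = z • (1 : Matrix ι ι F) by rw [← hz, pow_two]; rfl,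
      Matrix.smul_mulVec, Matrix.one_mulVec]
  obtain ⟨v, w, hvw⟩ : ∃ v w : ι → F, QuadraticMap.polar (⇑Q) v w ≠ 0 := by
    by_contra hno
    push Not at hno
    obtain ⟨a⟩ := Fintype.card_pos_iff.1 hpos
    have : (Pi.single a (1 : F) : ι → F) = 0 := hQ.1 _ fun w => hno _ w
    simpa using congrFun this a
  have h := InvolutionSingular.polar_isometry g (ogVal g *ᵥ v) (ogVal g *ᵥ w)
  rw [happ, happ, InvolutionSingular.polar_isometry, QuadraticMap.polar_smul_left, QuadraticMap.polar_smul_right,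
    smul_eq_mul, smul_eq_mul, ← mul_assoc] at h
  have hzz : z * z = 1 := mul_right_cancel₀ hvw (h.trans (one_mul _).symm)
  rcases mul_self_eq_one_iff.1 hzz with rfl | rfl
  · refine Or.inl (ogVal_ext (Matrix.ext_iff_mulVec.2 fun x => ?_))
    rw [ogVal_mul, ← Matrix.mulVec_mulVec, happ, one_smul, ogVal_one, Matrix.one_mulVec]
  · exact Or.inr fun x => by rw [happ, neg_one_smul]

include hQ hι hε in
theorem two_iff (h2 : (2 : F) ≠ 0) (hmd : m < d) (hm : 1 ≤ m) :
    Fixes Q 2 m ↔ (IsSquare (-1 : F) ∨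
      ((¬ ε ∨ m + 2 ≤ d) ∧ (Even m ∨ ¬ ((Even d ∨ IsSquare (2 : F)) ∧ (ε ↔ Even d))))) := by
  classical
  have hinv : ∀ (g : isometryGroup F ⇑Q) (W : Submodule F (ι → F)),
      W.map (Matrix.toLin' ((g : GL ι F) : Matrix ι ι F)) ≤ W ↔ ∀ w ∈ W, ogVal g *ᵥ w ∈ W := fun g W => by
    rw [Submodule.map_le_iff_le_comap]; exact Iff.rfl
  have hsq : ¬ IsSquare (-1 : F) → (IsSquare ((-1 : F) ^ d) ↔ Even d) := fun hns => by
    rcases Nat.even_or_odd d with e | e
    · simp [e.neg_one_pow, e]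
    · simp [e.neg_one_pow, hns, Nat.not_even_iff_odd.2 e]
  constructor
  · intro H
    by_contra hC
    obtain ⟨hns, hC⟩ := not_or.1 hC
    rcases not_and_or.1 hC with hC | hC
    · obtain ⟨hp, hm2⟩ := not_or.1 hC
      obtain ⟨g, hgΩ, hgg, hgs, hbad⟩ := OrthEvenTSInvolution.exists_bad_involution h2 hQ hι (by omega)
        (hε.2 (not_not.1 hp)) hns
      obtain ⟨W, hW, hW0, hWx⟩ := H g ⟨g, hgΩ, rfl⟩ ⟨1, by rw [pow_two, ← Subgroup.coe_mul, hgg, one_smul]; rfl⟩ hgs
      exact hbad W (by omega) hW0 ((hinv g W).1 hWx)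
    · obtain ⟨hmo, hex⟩ := not_or.1 hC
      obtain ⟨hΩ, htype⟩ := not_not.1 hex
      obtain ⟨g, hg⟩ := OrthComplexStructure.exists_sq_neg_one h2 hQ hι (by omega)
        (hε.trans (htype.trans (hsq hns).symm))
      have hgs : ∀ z : F, ogVal g ≠ z • (1 : Matrix ι ι F) := fun z hz => by
        obtain ⟨a⟩ := Fintype.card_pos_iff.1 (show 0 < Fintype.card ι by omega)
        have h1 := congrFun (hg (Pi.single a 1)) a
        simp only [hz, Matrix.smul_mulVec, Matrix.one_mulVec, Pi.smul_apply, Pi.neg_apply, Pi.single_eq_same,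
          smul_eq_mul, mul_one] at h1
        exact hns ⟨z, h1.symm⟩
      obtain ⟨W, hW, -, hWx⟩ := H g ⟨g, ((OrthComplexStructure.of_sq_neg_one h2 hQ hg hι).1).2 hΩ, rfl⟩
        ⟨-1, by
          rw [pow_two, Units.val_mul]
          exact Matrix.ext_iff_mulVec.2 fun x => by
            rw [← Matrix.mulVec_mulVec, Matrix.smul_mulVec, Matrix.one_mulVec, neg_one_smul]
            exact hg x⟩ hgs
      exact hmo (
        OrthEvenTSInvolution.even_of_nonsquare hg hns hW ((hinv g W).1 hWx))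
  · rintro hC x hx ⟨z, hz⟩ hxs
    obtain ⟨g, hgΩ, rfl⟩ := hx
    have hW : ∃ W : Submodule F (ι → F), finrank F W = m ∧ (∀ w ∈ W, Q w = 0) ∧ ∀ w ∈ W, ogVal g *ᵥ w ∈ W := by
      rcases sq_cases hQ (by omega) g hz with hgg | hg
      · refine OrthEvenTSInvolution.of_involution h2 hQ hι ε hε hgg hgΩ hmd ?_
        rcases hC with h | ⟨h | h, -⟩
        exacts [Or.inr (Or.inl h), Or.inr (Or.inr h), Or.inl h]
      · by_cases hs : IsSquare (-1 : F)
        · obtain ⟨c, hc⟩ := hs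
          exact OrthEvenTSInvolution.of_square h2 hQ hg hc.symm (by omega)
        obtain ⟨hΩ', htype⟩ := OrthComplexStructure.of_sq_neg_one h2 hQ hg hι
        have hed : ε ↔ Even d := hε.symm.trans (htype.trans (hsq hs))
        obtain ⟨-, hm'⟩ := hC.resolve_left hs
        obtain ⟨k, hk⟩ := hm'.resolve_right fun hn => hn ⟨hΩ'.1 hgΩ, hed⟩
        by_cases hmd2 : 2 * m ≤ Fintype.card ι
        · obtain ⟨W, -, h1, h3, h4⟩ := OrthEvenTSInvolution.of_nonsquare h2 hQ hg k ⊤ (OrthAut.nondeg_top hQ)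
            (fun x _ => Submodule.mem_top) (by rw [finrank_top, Module.finrank_pi]; omega)
          exact ⟨W, by omega, h3, h4⟩
        · omega
    obtain ⟨W, h1, h3, h4⟩ := hW
    exact ⟨W, h1, h3, (hinv g W).2 h4⟩

theorem isSquare_facts (h2 : (2 : F) ≠ 0) {q : ℕ} (hq : Fintype.card F = q) :
    q % 2 = 1 ∧ (IsSquare (-1 : F) ↔ q % 4 = 1) ∧ (IsSquare (2 : F) ↔ (q % 8 = 1 ∨ q % 8 = 7)) := by
  have hodd : q % 2 = 1 := by
    rw [← hq]
    refine FiniteField.odd_card_of_char_ne_two fun hch => h2 ?_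
    haveI := ringChar.of_eq hch
    exact CharTwo.two_eq_zero
  refine ⟨hodd, ?_, ?_⟩
  · rw [FiniteField.isSquare_neg_one_iff, hq]; omega
  · rw [FiniteField.isSquare_two_iff, hq]; omega

include hQ hι hε in
/-- `r` differs from the characteristic. -/
theorem ne_char {p q r : ℕ} [Fact p.Prime] [CharP F p] (hq : Fintype.card F = q) (hmd : m < d) (hr : r.Prime)
    (hrΩ : r ∣ Nat.card {W : Submodule F (ι → F) // finrank F W = m ∧ ∀ w ∈ W, Q w = 0}) : r ≠ p := by
  obtain ⟨j, hj1, -, hj⟩ := OrthSingularCount.exists_exponent_even Q hQ (by rw [Module.finrank_pi, hι]) (Or.inl hmd) hr hrΩ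
  rintro rfl
  obtain ⟨e, -, he⟩ := FiniteField.card F r
  have hdvd : ∀ n, 0 < n → r ∣ Fintype.card F ^ n := fun n hn =>
    dvd_pow (by rw [he]; exact dvd_pow_self r e.pos.ne') hn.ne'
  have hminus : ∀ n, 0 < n → ¬ r ∣ Fintype.card F ^ n - 1 := fun n hn h => by
    have h2 := Nat.dvd_sub (hdvd n hn) h
    rw [Nat.sub_sub_self (Nat.one_le_pow _ _ Fintype.card_pos)] at h2
    exact hr.ne_one (Nat.dvd_one.1 h2)
  have hplus : ∀ n, 0 < n → ¬ r ∣ Fintype.card F ^ n + 1 := fun n hn h =>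
    hr.ne_one (Nat.dvd_one.1 ((Nat.dvd_add_right (hdvd n hn)).1 h))
  rcases hj with ⟨-, h | h⟩ | ⟨-, h | h⟩
  exacts [hminus _ (by omega) h, hplus _ (by omega) h, hplus _ (by omega) h, hminus _ (by omega) h]

/-- The criterion in terms of `i` and `c`. -/
theorem crit_iff [Decidable ε] {i c t : ℕ} (hi : 0 < i) (hc : c = if Even i then i else 2 * i) :
    OrthEvenTSCriterion.Crit i t d m ε ↔
      ((Odd i ∧ i ≤ m ∧ ((ε ∧ 2 * (m % i) ≤ (2 * d) % c) ∨ (¬ ε ∧ ((2 * d) % c = 0 ∨ 2 * (m % i) < (2 * d) % c)))) ∨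
        (Even i ∧ i ≤ m ∧ t + 2 * (m / i) ≤ (2 * d) / i ∧
          ((2 * (m % i) ≤ i ∧ (2 * d) % c = 0 ∧ ¬ SplitArith.G ε ((2 * d) / i) ∧ t + 2 * (m / i) < (2 * d) / i) ∨
            (2 * (m % i) ≤ (2 * d) % c ∧ SplitArith.G ε ((2 * d) / i)) ∨
            (2 * (m % i) < (2 * d) % c ∧ ¬ SplitArith.G ε ((2 * d) / i))))) := by
  unfold OrthEvenTSCriterion.Crit
  rcases Nat.even_or_odd i with he | ho
  · obtain ⟨h, rfl⟩ := he.two_dvd
    rw [if_pos he] at hc
    subst hc
    simp only [he, Nat.not_odd_iff_even.2 he, true_and, false_and, or_false, false_or, Nat.mul_div_cancel_left h two_pos,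
      Nat.mul_div_mul_left _ _ two_pos, Nat.mul_mod_mul_left, SplitArith.Crit]
    refine and_congr_right fun _ => and_congr_right fun _ => ?_
    have a1 : m % (2 * h) ≤ h ↔ 2 * (m % (2 * h)) ≤ 2 * h := by omega
    have a2 : d % h = 0 ↔ 2 * (d % h) = 0 := by omega
    have a3 : m % (2 * h) ≤ d % h ↔ 2 * (m % (2 * h)) ≤ 2 * (d % h) := by omega
    have a4 : m % (2 * h) < d % h ↔ 2 * (m % (2 * h)) < 2 * (d % h) := by omega
    rw [← a1, ← a2, ← a3, ← a4]
  · have he' : ¬ Even i := Nat.not_even_iff_odd.2 ho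
    rw [if_neg he'] at hc
    subst hc
    simp only [he', ho, true_and, false_and, or_false, false_or, Nat.mul_mod_mul_left, SplitArith.CritOdd]
    refine and_congr_right fun _ => or_congr (and_congr_right fun _ => by omega) (and_congr_right fun _ => by omega)

end Cfsg.Agent.OrthEvenTSMain
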