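import Cfsg.Agent.Lib.Classical.OddCoreForms

/-!
Groups of odd order normalised by the reflections of one square class are scalar; additive maps
keeping every anisotropic line are scalar.
-/

set_option autoImplicit false
set_option linter.unusedSectionVars false

namespace Cfsg.Agent.Classical.OneClass

open Module

variable {E V : Type*} [Field E] [AddCommGroup V] [Module E V] (B : LinearMap.BilinForm E V)

/-- A non-degenerate symmetric form in odd characteristic. -/
structure Sp : Prop where
  symm : ∀ x y, B x y = B y x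
  nd : ∀ x, (∀ y, B x y = 0) → x = 0
  two : (2 : E) ≠ 0

/-- The reflection in `a`. -/
noncomputable def refl (a : V) : Module.End E V := LinearMap.id - (2 / B a a) • (B a).smulRight a

theorem refl_apply (a x : V) : refl B a x = x - (2 * B a x / B a a) • a := by
  simp only [refl, LinearMap.sub_apply, LinearMap.id_apply, LinearMap.smul_apply, LinearMap.smulRight_apply,
    smul_smul, mul_comm_div]
  congr 2
  ring

theorem refl_self {a : V} (ha : B a a ≠ 0) : refl B a a = -a := by
  rw [refl_apply, mul_div_assoc, div_self ha, mul_one]; module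

theorem refl_perp {a x : V} (h : B a x = 0) : refl B a x = x := by
  rw [refl_apply, h]; simp

theorem refl_sq {a : V} (ha : B a a ≠ 0) : refl B a * refl B a = 1 := LinearMap.ext fun x => by
  show refl B a (refl B a x) = x
  rw [refl_apply B a x, refl_apply, map_sub, map_smul, smul_eq_mul, div_mul_cancel₀ _ ha,
    show 2 * (B a x - 2 * B a x) / B a a = -(2 * B a x / B a a) by ring]
  module

variable {B}
variable (hB : Sp B)
include hB

theorem refl_conj {f : Module.End E V} (hf : ∀ x y, B (f x) (f y) = B x y) (a : V) :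
    f * refl B a = refl B (f a) * f := LinearMap.ext fun x => by
  show f (refl B a x) = refl B (f a) (f x)
  rw [refl_apply, refl_apply, map_sub, map_smul, hf, hf]

theorem refl_iso {a : V} (ha : B a a ≠ 0) (x y : V) : B (refl B a x) (refl B a y) = B x y := by
  simp only [refl_apply, map_sub, map_smul, LinearMap.sub_apply, LinearMap.smul_apply, smul_eq_mul]
  rw [hB.symm x a]
  field_simp
  ring

variable [FiniteDimensional E V]

theorem exists_aniso_perp {S : Finset V} (hS : ∀ s ∈ S, B s s ≠ 0)
    (ho : ∀ s ∈ S, ∀ t ∈ S, s ≠ t → B s t = 0) (h : S.card < finrank E V) :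
    ∃ z, B z z ≠ 0 ∧ ∀ s ∈ S, B s z = 0 := by
  classical
  let f : V →ₗ[E] (S → E) := LinearMap.pi fun s => B (s : V)
  obtain ⟨z, hz, hz0⟩ := Submodule.exists_mem_ne_zero_of_ne_bot (p := LinearMap.ker f) fun e => by
    have h1 := f.finrank_range_add_finrank_ker
    have h2 := (LinearMap.range f).finrank_le
    rw [Module.finrank_fintype_fun_eq_card, Fintype.card_coe] at h2
    rw [e, finrank_bot] at h1
    omega
  have hzS : ∀ s ∈ S, B s z = 0 := fun s hs => congrFun (LinearMap.mem_ker.1 hz) ⟨s, hs⟩
  by_contra hc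
  push Not at hc
  have hiso : ∀ x, (∀ s ∈ S, B s x = 0) → B x x = 0 := fun x hx => by
    by_contra h'
    obtain ⟨s, hs, h''⟩ := hc x h'
    exact h'' (hx s hs)
  refine hz0 (hB.nd z fun y => ?_)
  set p := y - ∑ s ∈ S, (B s y / B s s) • s with hp
  have hpS : ∀ t ∈ S, B t p = 0 := fun t ht => by
    rw [hp, map_sub, map_sum, Finset.sum_eq_single t]
    · rw [map_smul, smul_eq_mul, div_mul_cancel₀ _ (hS t ht), sub_self]
    · intro s hs hst
      rw [map_smul, ho t ht s hs (Ne.symm hst), smul_zero]
    · exact fun h' => absurd ht h'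
  have h3 := hiso (p + z) fun s hs => by rw [map_add, hpS s hs, hzS s hs, add_zero]
  simp only [map_add, LinearMap.add_apply, hiso p hpS, hiso z hzS, hB.symm p z] at h3
  have h4 : B z p = 0 := (mul_eq_zero.1 (show (2 : E) * B z p = 0 by linear_combination h3)).resolve_left hB.two
  rw [hp, map_sub, map_sum] at h4
  rw [Finset.sum_eq_zero fun s hs => by rw [map_smul, hB.symm z s, hzS s hs, smul_zero], sub_zero] at h4
  exact h4

theorem exists_perp_two {a b : V} (ha : B a a ≠ 0) (hb : B b b ≠ 0) (hab : B a b = 0)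
    (hn : 3 ≤ finrank E V) : ∃ z, B z z ≠ 0 ∧ B a z = 0 ∧ B b z = 0 := by
  classical
  obtain ⟨z, hz, h⟩ := exists_aniso_perp hB (S := {a, b}) (by simp [ha, hb])
    (by simp [hab, hB.symm b a]) (by
      have := Finset.card_le_two (a := a) (b := b); omega)
  exact ⟨z, hz, h a (by simp), h b (by simp)⟩

variable [Finite E]

theorem exists_value_perp {S : Finset V} (hS : ∀ s ∈ S, B s s ≠ 0)
    (ho : ∀ s ∈ S, ∀ t ∈ S, s ≠ t → B s t = 0) (h : S.card + 2 ≤ finrank E V) (c : E) :
    ∃ z, B z z = c ∧ ∀ s ∈ S, B s z = 0 := by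
  classical
  obtain ⟨z₁, h1, h1'⟩ := exists_aniso_perp hB hS ho (by omega)
  obtain ⟨z₂, h2, h2'⟩ := exists_aniso_perp hB (S := insert z₁ S) (by simp [h1]; exact hS) (by
    simp only [Finset.mem_insert]
    rintro s (rfl | hs) t (rfl | ht) hst
    · exact absurd rfl hst
    · rw [hB.symm]; exact h1' t ht
    · exact h1' s hs
    · exact ho s hs t ht hst) (by
      have := Finset.card_insert_le z₁ S; omega)
  obtain ⟨s, t, hst⟩ := OddCore.exists_quad hB.two h1 h2 c
  refine ⟨s • z₁ + t • z₂, ?_, fun u hu => ?_⟩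
  · have e := h2' z₁ (Finset.mem_insert_self _ _)
    simp only [map_add, map_smul, LinearMap.add_apply, LinearMap.smul_apply, smul_eq_mul, e, hB.symm z₂ z₁]
    linear_combination hst
  · rw [map_add, map_smul, map_smul, h1' u hu, h2' u (Finset.mem_insert_of_mem hu)]
    simp

theorem exists_value_perp₂ {a b : V} (ha : B a a ≠ 0) (hb : B b b ≠ 0) (hab : B a b = 0)
    (hn : 4 ≤ finrank E V) (c : E) : ∃ z, B z z = c ∧ B a z = 0 ∧ B b z = 0 := by
  classical
  obtain ⟨z, hz, h⟩ := exists_value_perp hB (S := {a, b}) (by simp [ha, hb])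
    (by simp [hab, hB.symm b a]) (by
      have := Finset.card_le_two (a := a) (b := b); omega) c
  exact ⟨z, hz, h a (by simp), h b (by simp)⟩

theorem exists_value_perp₁ {a : V} (ha : B a a ≠ 0) (hn : 3 ≤ finrank E V) (c : E) :
    ∃ z, B z z = c ∧ B a z = 0 := by
  classical
  obtain ⟨z, hz, h⟩ := exists_value_perp hB (S := {a}) (by simp [ha]) (by simp) (by simpa using hn) c
  exact ⟨z, hz, h a (by simp)⟩

section Lines

variable {W : Type*} [AddCommGroup W] [Module E W]

omit [Finite E] in
/-- An additive map keeping every anisotropic line is scalar. -/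
theorem scalar_of_lines (hn : 3 ≤ finrank E V) (i : V →ₗ[E] W) (hi : Function.Injective i) (T : V →+ W)
    (hT : ∀ x, B x x ≠ 0 → ∃ a : E, T x = a • i x) : ∃ α : E, ∀ x, T x = α • i x := by
  choose! co hco using hT
  have hne : ∀ x, B x x ≠ 0 → x ≠ 0 := fun x hx h => hx (by simp [h])
  -- independent vectors with an anisotropic combination
  have hsep : ∀ {v w : V} (s t : E), B v v ≠ 0 → B w w ≠ 0 → B v w = 0 → s • v + t • w = 0 →
      s = 0 ∧ t = 0 := by
    intro v w s t hv hw hvw h
    have h1 := congrArg (B v) h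
    have h2 := congrArg (B w) h
    simp [map_add, map_smul, hvw, hB.symm w v, hv, hw] at h1 h2
    exact ⟨h1, h2⟩
  have horth : ∀ {v w : V}, B v v ≠ 0 → B w w ≠ 0 → B v w = 0 → co v = co w := by
    intro v w hv hw hvw
    by_cases hs : B (v + w) (v + w) = 0
    · obtain ⟨u, hu, hvu, hwu⟩ := exists_perp_two hB hv hw hvw hn
      have hx : B (v + w + u) (v + w + u) ≠ 0 := by
        have e : B (v + w + u) (v + w + u) = B u u := by
          simp only [map_add, LinearMap.add_apply, hvu, hwu, hB.symm u v, hB.symm u w] at hs ⊢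
          linear_combination hs
        rwa [e]
      have h1 := hco _ hx
      rw [map_add, map_add, hco v hv, hco w hw, hco u hu] at h1
      simp only [← map_smul i, ← map_add i] at h1
      have h2 := congrArg (B v) (hi h1)
      have h3 := congrArg (B w) (hi h1)
      simp [map_add, map_smul, hvu, hwu, hvw, hB.symm w v] at h2 h3
      rw [h2.resolve_right hv, h3.resolve_right hw]
    · have h1 := hco _ hs
      rw [map_add, hco v hv, hco w hw] at h1
      simp only [← map_smul i, ← map_add i] at h1
      obtain ⟨e1, e2⟩ := hsep (co v - co (v + w)) (co w - co (v + w)) hv hw hvw (by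
        linear_combination (norm := module) hi h1)
      rw [sub_eq_zero.1 e1, sub_eq_zero.1 e2]
  have hhom : ∀ v, B v v ≠ 0 → ∀ t : E, T (t • v) = co v • i (t • v) := by
    intro v hv t
    by_cases ht : t = 0
    · simp [ht]
    obtain ⟨y, hy, hvy⟩ := exists_aniso_perp hB (S := {v}) (by simp [hv]) (by simp) (by simp; omega)
    have hvy' : B v y = 0 := hvy v (by simp)
    have htv : B (t • v) (t • v) ≠ 0 := by simp [ht, hv]
    rw [hco _ htv, horth htv hy (by simp [hvy']), ← horth hv hy hvy']
  have hconst : ∀ {v w : V}, B v v ≠ 0 → B w w ≠ 0 → co v = co w := by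
    intro v w hv hw
    by_cases hvw : B v w = 0
    · exact horth hv hw hvw
    set p := w - (B v w / B v v) • v with hp
    have hvp : B v p = 0 := by rw [hp, map_sub, map_smul, smul_eq_mul, div_mul_cancel₀ _ hv, sub_self]
    by_cases hp0 : B p p = 0
    · by_cases hpz : p = 0
      · have hwv : w = (B v w / B v v) • v := sub_eq_zero.1 (hp ▸ hpz)
        have h1 := hhom v hv (B v w / B v v)
        rw [← hwv, hco w hw] at h1
        exact (smul_left_injective E (fun h => hne w hw (hi (by rw [h, map_zero]))) h1).symm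
      · -- route through a third vector
        obtain ⟨y, hy, hy'⟩ := exists_aniso_perp hB (S := {v}) (by simp [hv]) (by simp) (by simp; omega)
        have hvy : B v y = 0 := hy' v (by simp)
        set s := B v w / B v v
        have hws : w = s • v + p := by rw [hp]; abel
        have hex : ∃ u, B u u ≠ 0 ∧ B v u = 0 ∧ B (u + p) (u + p) ≠ 0 := by
          by_contra hcon
          push Not at hcon
          have h1 := hcon y hy hvy
          have h2 := hcon (-y) (by simpa using hy) (by simp [hvy])
          simp only [map_add, map_neg, LinearMap.add_apply, LinearMap.neg_apply, hB.symm p y] at h1 h2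
          exact hy ((mul_eq_zero.1 (show (2 : E) * B y y = 0 by linear_combination h1 + h2 - 2 * hp0)).resolve_left
            hB.two)
        obtain ⟨u, hu, hvu, hup⟩ := hex
        have hvup : B v (u + p) = 0 := by simp [hvu, hvp]
        have e1 : T p = co v • i p := by
          have h1 := hco _ hup
          rw [← horth hv hup hvup, map_add, map_add, smul_add, hco u hu, ← horth hv hu hvu] at h1
          exact add_left_cancel h1
        have e2 : T w = co v • i w := by
          rw [hws, map_add, hhom v hv s, e1, map_add, smul_add]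
        rw [hco w hw] at e2
        exact (smul_left_injective E (fun h => hne w hw (hi (by rw [h, map_zero]))) e2).symm
    · have hwp : w = (B v w / B v v) • v + p := by rw [hp]; abel
      have e2 : T w = co v • i w := by
        rw [hwp, map_add, hhom v hv, hco p hp0, ← horth hv hp0 hvp, map_add, smul_add]
      rw [hco w hw] at e2
      exact (smul_left_injective E (fun h => hne w hw (hi (by rw [h, map_zero]))) e2).symm
  obtain ⟨v, hv, -⟩ := exists_aniso_perp hB (S := ∅) (by simp) (by simp) (by simp; omega)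
  refine ⟨co v, fun x => ?_⟩
  have hk : ∀ y, B y y ≠ 0 → T y = co v • i y := fun y hy => by rw [hco y hy, hconst hy hv]
  by_cases hx : B x x = 0
  · obtain ⟨s, hs⟩ : ∃ s : V, B s s ≠ 0 ∧ B (x + s) (x + s) ≠ 0 := by
      by_contra hcon
      push Not at hcon
      have h1 := hcon v hv
      have h2 := hcon (-v) (by simpa using hv)
      simp only [map_add, map_neg, LinearMap.add_apply, LinearMap.neg_apply] at h1 h2
      exact hv ((mul_eq_zero.1 (show (2 : E) * B v v = 0 by linear_combination h1 + h2 - 2 * hx)).resolve_left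
        hB.two)
    have h := hk _ hs.2
    rw [map_add, map_add, smul_add, hk s hs.1] at h
    exact add_right_cancel h
  · exact hk x hx

omit [Finite E] in
/-- An additive map commuting up to sign with a product of two orthogonal reflections keeps their plane. -/
theorem plane [Fintype E] (hn : 5 ≤ finrank E V) {a b : V} (ha : B a a ≠ 0) (hb : B b b ≠ 0)
    (hab : B a b = 0) (T : V →+ V) (hinj : Function.Injective T) {ε : ℤˣ}
    (hT : ∀ x, T ((refl B a * refl B b) x) = (ε : ℤ) • (refl B a * refl B b) (T x)) :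
    ∃ s t : E, T a = s • a + t • b := by
  classical
  have hba : B b a = 0 := by rw [hB.symm, hab]
  set R := refl B a * refl B b with hR
  have hRa : R a = -a := by
    rw [hR, Module.End.mul_apply, refl_perp B hba, refl_self B ha]
  have hneg : ∀ y, R y = -y → ∃ s t : E, y = s • a + t • b := fun y hy => by
    rw [hR, Module.End.mul_apply, refl_apply B b, refl_apply, map_sub, map_smul, hab, smul_zero, sub_zero] at hy
    refine ⟨B a y / B a a, B b y / B b b, ?_⟩
    have h2 : (2 : E) • y = (2 : E) • ((B a y / B a a) • a + (B b y / B b b) • b) := by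
      linear_combination (norm := module) hy
    exact smul_right_injective V hB.two h2
  rcases Int.units_eq_one_or ε with rfl | rfl
  · refine hneg _ ?_
    have h := hT a
    rw [hRa, map_neg, Units.val_one, one_smul] at h
    exact h.symm
  exfalso
  obtain ⟨z₁, h1, h1'⟩ := exists_aniso_perp hB (S := {a, b}) (by simp [ha, hb]) (by simp [hab, hba])
    (by have := Finset.card_le_two (a := a) (b := b); omega)
  obtain ⟨z₂, h2, h2'⟩ := exists_aniso_perp hB (S := {a, b, z₁}) (by simp [ha, hb, h1]) (by
      simp [hab, hba, h1' a (by simp), h1' b (by simp), hB.symm z₁ a, hB.symm z₁ b])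
    (by have := Finset.card_le_three (a := a) (b := b) (c := z₁); omega)
  obtain ⟨z₃, h3, h3'⟩ := exists_aniso_perp hB (S := {a, b, z₁, z₂}) (by simp [ha, hb, h1, h2]) (by
      simp [hab, hba, h1' a (by simp), h1' b (by simp), hB.symm z₁ a, hB.symm z₁ b, h2' a (by simp),
        h2' b (by simp), h2' z₁ (by simp), hB.symm z₂ a, hB.symm z₂ b, hB.symm z₂ z₁])
    (by have := Finset.card_le_four (a := a) (b := b) (c := z₁) (d := z₂); omega)
  have hfix : ∀ c : E × E × E, R (c.1 • z₁ + c.2.1 • z₂ + c.2.2 • z₃) = c.1 • z₁ + c.2.1 • z₂ + c.2.2 • z₃ := by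
    intro c
    have e : ∀ z, B a z = 0 → B b z = 0 → R z = z := fun z u v => by
      rw [hR, Module.End.mul_apply, refl_perp B v, refl_perp B u]
    rw [map_add, map_add, map_smul, map_smul, map_smul, e z₁ (h1' a (by simp)) (h1' b (by simp)),
      e z₂ (h2' a (by simp)) (h2' b (by simp)), e z₃ (h3' a (by simp)) (h3' b (by simp))]
  have hF : ∀ c : E × E × E, ∃ p : E × E, T (c.1 • z₁ + c.2.1 • z₂ + c.2.2 • z₃) = p.1 • a + p.2 • b := by
    intro c
    obtain ⟨s, t, h⟩ := hneg (T (c.1 • z₁ + c.2.1 • z₂ + c.2.2 • z₃)) (by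
      have h := hT (c.1 • z₁ + c.2.1 • z₂ + c.2.2 • z₃)
      rw [hfix, Units.val_neg, Units.val_one, neg_smul, one_smul] at h
      exact (neg_eq_iff_eq_neg.1 h.symm))
    exact ⟨(s, t), h⟩
  choose F hF using hF
  have hFi : Function.Injective F := fun c d e => by
    have h := hinj ((hF c).trans (by rw [e]; exact (hF d).symm))
    have e1 := congrArg (B z₁) h
    have e2 := congrArg (B z₂) h
    have e3 := congrArg (B z₃) h
    simp only [map_add, map_smul, smul_eq_mul, h2' z₁ (by simp), h3' z₁ (by simp), h3' z₂ (by simp),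
      hB.symm z₂ z₁, hB.symm z₃ z₁, hB.symm z₃ z₂, mul_zero, add_zero, zero_add] at e1 e2 e3
    exact Prod.ext (mul_right_cancel₀ h1 e1) (Prod.ext (mul_right_cancel₀ h2 e2) (mul_right_cancel₀ h3 e3))
  have := Fintype.card_le_of_injective F hFi
  simp only [Fintype.card_prod] at this
  nlinarith [Fintype.one_lt_card (α := E), mul_pos (Fintype.card_pos (α := E)) (Fintype.card_pos (α := E))]

omit [Finite E] hB [FiniteDimensional E V] in
/-- The intersection of two orthogonal planes through a vector. -/
theorem line_of_planes {a b c : V} (hb : B b b ≠ 0) (hab : B b a = 0) (hcb : B b c = 0) {y : V}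
    {s t s' t' : E} (h1 : y = s • a + t • b) (h2 : y = s' • a + t' • c) : y = s • a := by
  have h := congrArg (B b) (h1.symm.trans h2)
  simp only [map_add, map_smul, smul_eq_mul, hab, hcb, mul_zero, zero_add] at h
  rw [h1, (mul_eq_zero.1 h).resolve_right hb, zero_smul, add_zero]

end Lines

set_option maxHeartbeats 1000000 in
/-- A group of isometries of odd order modulo scalars normalised by the reflections of a class is scalar. -/
theorem core (hn : 3 ≤ finrank E V) {D : E → Prop} (hD0 : ∃ c, D c) (hDne : ∀ c, D c → c ≠ 0)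
    (hDsq : ∀ c s, D c → s ≠ 0 → D (c * s ^ 2)) (hfull : 4 ≤ finrank E V ∨ ∀ c, c ≠ 0 → D c)
    {G : Type*} [Group G] (ρ : G →* Module.End E V) {M : Subgroup G}
    (hiso : ∀ m ∈ M, ∀ x y, B (ρ m x) (ρ m y) = B x y)
    (hnorm : ∀ a, D (B a a) → ∃ r : G, ρ r = refl B a ∧ ∀ m ∈ M, r * m * r⁻¹ ∈ M)
    (hodd : ∀ m ∈ M, ∃ j : ℕ, Odd j ∧ ∃ c : E, ρ (m ^ j) = c • 1) :
    ∀ m ∈ M, ∃ c : E, ρ m = c • 1 := by
  classical
  have hinv : ∀ {r : G} {a : V}, B a a ≠ 0 → ρ r = refl B a → ρ r⁻¹ = refl B a := fun {r a} ha hr => by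
    have h1 : ρ r⁻¹ * ρ r = 1 := by rw [← map_mul, inv_mul_cancel, map_one]
    calc ρ r⁻¹ = ρ r⁻¹ * (refl B a * refl B a) := by rw [refl_sq B ha, mul_one]
      _ = ρ r⁻¹ * ρ r * refl B a := by rw [hr, mul_assoc]
      _ = refl B a := by rw [h1, one_mul]
  have hcomm : ∀ m ∈ M, ∀ a, D (B a a) → ∃ u ∈ M, ρ u = refl B a * refl B (ρ m a) := by
    intro m hm a ha
    obtain ⟨r, hr, hrm⟩ := hnorm a ha
    refine ⟨r * m * r⁻¹ * m⁻¹, mul_mem (hrm m hm) (inv_mem hm), ?_⟩
    rw [map_mul, map_mul, map_mul, hinv (hDne _ ha) hr, hr, mul_assoc (refl B a) (ρ m), refl_conj hB (hiso m hm),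
      mul_assoc, mul_assoc, ← map_mul, mul_inv_cancel, map_one, mul_one]
  -- no product of two orthogonal reflections
  have hno : ∀ u ∈ M, ∀ a b, B a a ≠ 0 → B b b ≠ 0 → B a b = 0 → ρ u ≠ refl B a * refl B b := by
    intro u hu a b ha hb hab he
    have hba : B b a = 0 := by rw [hB.symm, hab]
    have hc : refl B a * refl B b = refl B b * refl B a := by
      conv_lhs => rw [refl_conj hB (refl_iso hB ha) b, refl_perp B hab]
    have huu : ρ u * ρ u = 1 := by
      rw [he, mul_assoc, ← mul_assoc (refl B b), ← hc, mul_assoc (refl B a), refl_sq B hb, mul_one, refl_sq B ha]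
    obtain ⟨j, ⟨i, rfl⟩, c, hcj⟩ := hodd u hu
    rw [map_pow, pow_succ, pow_mul, sq, huu, one_pow, one_mul] at hcj
    obtain ⟨z, hz, haz, hbz⟩ := exists_perp_two hB ha hb hab hn
    have h1 : ρ u z = z := by rw [he, Module.End.mul_apply, refl_perp B hbz, refl_perp B haz]
    have h3 : ρ u a = -a := by rw [he, Module.End.mul_apply, refl_perp B hba, refl_self B ha]
    rw [hcj, LinearMap.smul_apply, Module.End.one_apply] at h1 h3
    have hc1 : c = 1 := by
      have h5 := congrArg (B z) h1
      rw [map_smul, smul_eq_mul] at h5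
      exact mul_right_cancel₀ hz (h5.trans (one_mul _).symm)
    rw [hc1, one_smul] at h3
    have h5 := congrArg (B a) h3
    rw [map_neg] at h5
    exact ha ((mul_eq_zero.1 (show (2 : E) * B a a = 0 by linear_combination h5)).resolve_left hB.two)
  have hperp : ∀ m ∈ M, ∀ a, D (B a a) → B a (ρ m a) ≠ 0 := fun m hm a ha h0 => by
    obtain ⟨u, hu, he⟩ := hcomm m hm a ha
    exact hno u hu a _ (hDne _ ha) (by rw [hiso m hm]; exact hDne _ ha) h0 he
  -- the plane of a vector and its image is degenerate
  have hdeg : ∀ m ∈ M, ∀ v, D (B v v) → B v (ρ m v) ^ 2 = B v v ^ 2 := by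
    intro m hm v hv
    by_contra hne
    obtain ⟨u, hu, hux⟩ := hcomm m hm v hv
    set w := ρ m v
    have hww : B w w = B v v := hiso m hm v v
    set ν := B v v
    have hν : ν ≠ 0 := hDne _ hv
    set γ := B v w with hγ
    have hwv : B w v = γ := hB.symm w v
    set l := 2 * γ ^ 2 / ν ^ 2 - 1 with hl
    have hS : ∀ a, B a (ρ u a) = B a a - 2 / ν * (B v a ^ 2 + B w a ^ 2) + 4 * γ / ν ^ 2 * (B v a * B w a) :=
      fun a => by
        rw [hux, Module.End.mul_apply, refl_apply B w, refl_apply]
        simp only [map_sub, map_smul, smul_eq_mul, hww, ← hγ, show (B v) v = ν from rfl]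
        rw [hB.symm a v, hB.symm a w]
        field_simp
        ring
    by_cases hl0 : l = 0
    · refine hperp u hu v hv ?_
      rw [hS, hwv, show ν - 2 / ν * (ν ^ 2 + γ ^ 2) + 4 * γ / ν ^ 2 * (ν * γ) = ν * l by
        rw [hl]; field_simp; ring, hl0, mul_zero]
    have hdet : ν ^ 2 - γ ^ 2 ≠ 0 := fun e => hne (by linear_combination -e)
    set w' := w - (γ / ν) • v with hw'
    have hvw' : B v w' = 0 := by rw [hw', map_sub, map_smul, smul_eq_mul, div_mul_cancel₀ _ hν, sub_self]
    have hw'w' : B w' w' ≠ 0 := by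
      have e : B w' w' = (ν ^ 2 - γ ^ 2) / ν := by
        rw [hw']; simp only [map_sub, map_smul, LinearMap.sub_apply, LinearMap.smul_apply, smul_eq_mul, hwv,
          ← hγ, hww]
        field_simp; ring
      rw [e]; exact div_ne_zero hdet hν
    have hl1 : 1 - 1 / l ≠ 0 := fun e => by
      have h1 : l = 1 := by field_simp at e; linear_combination e
      rw [hl] at h1
      field_simp at h1
      exact hne (mul_left_cancel₀ hB.two (by linear_combination h1))
    obtain ⟨z, hvz, hw'z, hzz⟩ : ∃ z, B v z = 0 ∧ B w' z = 0 ∧ D (B z z * (1 - 1 / l)) := by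
      rcases hfull with h4 | hall
      · obtain ⟨z, hz, h1, h2⟩ := exists_value_perp₂ hB hν hw'w' hvw' h4 (ν / (1 - 1 / l))
        exact ⟨z, h1, h2, by rw [hz, div_mul_cancel₀ _ hl1]; exact hv⟩
      · obtain ⟨z, hz, h1, h2⟩ := exists_perp_two hB hν hw'w' hvw' hn
        exact ⟨z, h1, h2, hall _ (mul_ne_zero hz hl1)⟩
    have hwz : B w z = 0 := by
      rw [show w = w' + (γ / ν) • v by rw [hw']; abel, map_add, LinearMap.add_apply, map_smul,
        LinearMap.smul_apply, hw'z, hvz, smul_zero, add_zero]
    set c := B z z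
    obtain ⟨s, t, hst⟩ := OddCore.exists_quad hB.two (a := ν) (b := (ν ^ 2 - γ ^ 2) / ν) hν
      (div_ne_zero hdet hν) (-c / l)
    set α := s - γ * t / ν with hα
    have hQp : ν * α ^ 2 + 2 * γ * α * t + ν * t ^ 2 = -c / l := by
      rw [← hst, hα]; field_simp; ring
    set a := α • v + t • w + z with hadef
    have hva : B v a = α * ν + t * γ := by
      simp only [hadef, map_add, map_smul, smul_eq_mul, hvz, ← hγ, add_zero]; rfl
    have hwa : B w a = α * γ + t * ν := by
      simp only [hadef, map_add, map_smul, smul_eq_mul, hwz, hwv, hww, add_zero]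
    have haa : B a a = ν * α ^ 2 + 2 * γ * α * t + ν * t ^ 2 + c := by
      rw [hadef]
      simp only [map_add, map_smul, LinearMap.add_apply, LinearMap.smul_apply, smul_eq_mul, hvz, hwz, hwv,
        hww, hB.symm z v, hB.symm z w, ← hγ]
      ring
    refine hperp u hu a ?_ ?_
    · rw [haa, hQp, show -c / l + c = c * (1 - 1 / l) by ring]
      exact hzz
    · rw [hS, hva, hwa, haa]
      have hl' : l * ν ^ 2 = 2 * γ ^ 2 - ν ^ 2 := by rw [hl]; field_simp
      have hQ' : (ν * α ^ 2 + 2 * γ * α * t + ν * t ^ 2) * l = -c := by rw [hQp, div_mul_cancel₀ _ hl0]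
      field_simp
      linear_combination (ν ^ 2) * hQ' - (ν * α ^ 2 + 2 * γ * α * t + ν * t ^ 2) * hl'
  -- every line of the class is kept
  have hline : ∀ m ∈ M, ∀ v, D (B v v) → ρ m v = v ∨ ρ m v = -v := by
    intro m hm v hv
    by_contra hcon
    push Not at hcon
    obtain ⟨u, hu, hux⟩ := hcomm m hm v hv
    set w := ρ m v
    have hww : B w w = B v v := hiso m hm v v
    set ν := B v v
    have hν : ν ≠ 0 := hDne _ hv
    have hd := hdeg m hm v hv
    obtain ⟨ε, hε, hγ⟩ : ∃ ε : E, ε * ε = 1 ∧ B v w = ε * ν := by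
      refine ⟨B v w / ν, ?_, (div_mul_cancel₀ _ hν).symm⟩
      field_simp
      linear_combination hd
    set z := w - ε • v with hzdef
    have hz : z ≠ 0 := fun e => by
      rcases mul_self_eq_one_iff.1 hε with rfl | rfl
      · exact hcon.1 (by rw [sub_eq_zero.1 e, one_smul])
      · exact hcon.2 (by rw [sub_eq_zero.1 e, neg_one_smul])
    have hvz : B v z = 0 := by rw [hzdef, map_sub, map_smul, smul_eq_mul, hγ, sub_self]
    have hzz : B z z = 0 := by
      rw [hzdef]
      simp only [map_sub, map_smul, LinearMap.sub_apply, LinearMap.smul_apply, smul_eq_mul, hB.symm w v, hγ, hww]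
      linear_combination (-ν) * hε
    have hwe : w = z + ε • v := by rw [hzdef]; abel
    obtain ⟨y, hy⟩ : ∃ y, B z y ≠ 0 := by
      by_contra h0
      push Not at h0
      exact hz (hB.nd z h0)
    set y' := y - (B v y / ν) • v with hy'
    have hvy' : B v y' = 0 := by rw [hy', map_sub, map_smul, smul_eq_mul, div_mul_cancel₀ _ hν, sub_self]
    have hzy' : B z y' = B z y := by
      rw [hy', map_sub, map_smul, hB.symm z v, hvz, smul_zero, sub_zero]
    -- orthogonal to `v`, pairing to one with `z`, of any norm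
    have hmk : ∀ d : E, ∃ a, B v a = 0 ∧ B z a = 1 ∧ B a a = d := by
      intro d
      obtain ⟨a₀, h1, h2⟩ : ∃ a₀, B v a₀ = 0 ∧ B z a₀ = 1 :=
        ⟨(B z y)⁻¹ • y', by rw [map_smul, hvy', smul_zero],
          by rw [map_smul, hzy', smul_eq_mul, inv_mul_cancel₀ hy]⟩
      refine ⟨a₀ + ((d - B a₀ a₀) / 2) • z, ?_, ?_, ?_⟩
      · rw [map_add, map_smul, h1, hvz, smul_zero, add_zero]
      · rw [map_add, map_smul, h2, hzz, smul_zero, add_zero]
      · have two := hB.two
        simp only [map_add, map_smul, LinearMap.add_apply, LinearMap.smul_apply, smul_eq_mul, hzz,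
          hB.symm a₀ z, h2]
        field_simp
        ring
    by_cases hd' : ∃ d, D d ∧ d ≠ 1 / ν
    · obtain ⟨d, hDd, hd'⟩ := hd'
      obtain ⟨a, hva, hza, haa⟩ := hmk d
      have hwa : B w a = 1 := by
        rw [hwe, map_add, LinearMap.add_apply, map_smul, LinearMap.smul_apply, hza, hva, smul_zero, add_zero]
      have h1 := hdeg u hu a (haa.symm ▸ hDd)
      rw [hux, Module.End.mul_apply, refl_apply B w, refl_apply] at h1
      simp only [map_sub, map_smul, smul_eq_mul, hww, hwa, hB.symm a v, hB.symm a w, hva, haa] at h1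
      refine hd' ?_
      field_simp at h1
      have h4 : (4 : E) * (d * ν - 1) = 0 := by
        have h5 : ν ≠ 0 := hν
        linear_combination -h1
      rcases mul_eq_zero.1 h4 with h | h
      · exact absurd h (by rw [show (4 : E) = 2 * 2 by norm_num]; exact mul_ne_zero hB.two hB.two)
      · field_simp
        linear_combination h
    · push Not at hd'
      have hν1 : ν = 1 / ν := hd' ν hv
      have hν2 : ν * ν = 1 := by field_simp at hν1; linear_combination hν1
      have h3 : (3 : E) = 0 := by
        have h := hd' (ν * 2 ^ 2) (hDsq ν 2 hv hB.two)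
        rw [← hν1] at h
        exact (mul_eq_zero.1 (show (3 : E) * ν = 0 by linear_combination h)).resolve_right hν
      obtain ⟨b, hvb, hzb, hbb⟩ := hmk ν
      have hwb : B w b = 1 := by
        rw [hwe, map_add, LinearMap.add_apply, map_smul, LinearMap.smul_apply, hzb, hvb, smul_zero, add_zero]
      obtain ⟨r, hr, hrM⟩ := hnorm b (by rw [hbb]; exact hv)
      have hbne : B b b ≠ 0 := by rw [hbb]; exact hν
      have hu' : ρ (r * u * r⁻¹) = refl B v * refl B (refl B b w) := by
        rw [map_mul, map_mul, hinv hbne hr, hr, hux]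
        calc refl B b * (refl B v * refl B w) * refl B b
            = refl B b * refl B v * (refl B w * refl B b) := by simp only [mul_assoc]
          _ = refl B v * refl B b * (refl B w * refl B b) := by
              rw [refl_conj hB (refl_iso hB hbne) v, refl_perp B (show B b v = 0 by rw [hB.symm, hvb])]
          _ = refl B v * (refl B b * refl B w) * refl B b := by simp only [mul_assoc]
          _ = refl B v * refl B (refl B b w) * (refl B b * refl B b) := by
              rw [refl_conj hB (refl_iso hB hbne) w]; simp only [mul_assoc]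
          _ = _ := by rw [refl_sq B hbne, mul_one]
      refine hno (u * (r * u * r⁻¹)) (mul_mem hu (hrM u hu)) (refl B v w) (refl B b w)
        (by rw [refl_iso hB hν, hww]; exact hν) (by rw [refl_iso hB hbne, hww]; exact hν) ?_ ?_
      · simp only [refl_apply, map_sub, map_smul, LinearMap.sub_apply, LinearMap.smul_apply, smul_eq_mul,
          hww, hγ, hbb, hwb, hB.symm b w, hvb, show (B v) v = ν from rfl]
        field_simp
        linear_combination (1 - 2 * ε ^ 2) * hν2 - 2 * hε - h3
      · rw [map_mul, hux, hu', ← mul_assoc, refl_conj hB (refl_iso hB hν) w, mul_assoc (refl B (refl B v w)),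
          refl_sq B hν, mul_one]
  intro m hm
  obtain ⟨ν₀, hν₀⟩ := hD0
  obtain ⟨v₀, hv₀, -⟩ := exists_value_perp hB (S := ∅) (by simp) (by simp) (by simp; omega) ν₀
  have hv₀D : D (B v₀ v₀) := hv₀.symm ▸ hν₀
  have hne : ∀ v, D (B v v) → v ≠ 0 := fun v hv h => hDne _ hv (by simp [h])
  obtain ⟨ε, hε⟩ : ∃ ε : E, ρ m v₀ = ε • v₀ := by
    rcases hline m hm v₀ hv₀D with h | h
    · exact ⟨1, by rw [h, one_smul]⟩
    · exact ⟨-1, by rw [h, neg_one_smul]⟩
  have hsame : ∀ v w, D (B v v) → D (B w w) → B v w ≠ 0 → ∀ c : E, ρ m v = c • v → ρ m w = c • w := by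
    intro v w hv hw hvw c hc
    have h := hiso m hm v w
    rw [hc] at h
    rcases hline m hm w hw with e | e <;> rw [e] at h ⊢
    · rw [map_smul, LinearMap.smul_apply, smul_eq_mul] at h
      rw [mul_right_cancel₀ hvw (h.trans (one_mul _).symm), one_smul]
    · rw [map_smul, LinearMap.smul_apply, smul_eq_mul, map_neg, mul_neg, ← neg_mul] at h
      rw [neg_eq_iff_eq_neg.1 (mul_right_cancel₀ hvw (h.trans (one_mul _).symm)), neg_one_smul]
  have hall : ∀ v, D (B v v) → ρ m v = ε • v := by
    intro v hv
    by_cases h0 : B v₀ v = 0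
    · obtain ⟨v', hv', h1, h2⟩ : ∃ v', D (B v' v') ∧ B v₀ v' ≠ 0 ∧ B v' v ≠ 0 := by
        have mk : ∀ y, B v₀ y = 0 → B v y = 0 → D (B v₀ v₀ + B v v + B y y) →
            ∃ v', D (B v' v') ∧ B v₀ v' ≠ 0 ∧ B v' v ≠ 0 := fun y h1 h2 h3 => by
          refine ⟨v₀ + v + y, ?_, ?_, ?_⟩
          · simpa [map_add, LinearMap.add_apply, h0, h1, h2, hB.symm v v₀, hB.symm y v₀, hB.symm y v] using h3
          · simpa [map_add, h0, h1] using hDne _ hv₀D
          · simpa [map_add, LinearMap.add_apply, h0, hB.symm y v, h2] using hDne _ hv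
        rcases hfull with h4 | hfa
        · obtain ⟨y, hy, h1, h2⟩ := exists_value_perp₂ hB (hDne _ hv₀D) (hDne _ hv) h0 h4 (-(B v v))
          exact mk y h1 h2 (by rw [hy, add_neg_cancel_right]; exact hv₀D)
        · obtain ⟨y, hy, h1, h2⟩ := exists_perp_two hB (hDne _ hv₀D) (hDne _ hv) h0 hn
          by_cases hs : B v₀ v₀ + B v v = 0
          · exact mk y h1 h2 (by rw [hs, zero_add]; exact hfa _ hy)
          · exact mk 0 (map_zero _) (map_zero _) (by simpa using hfa _ hs)
      exact hsame v' v hv' hv h2 ε (hsame v₀ v' hv₀D hv' h1 ε hε)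
    · exact hsame v₀ v hv₀D hv h0 ε hε
  have haniso : ∀ x, B x x ≠ 0 → ρ m x = ε • x := by
    intro x hx
    obtain ⟨y, hy, hxy⟩ := exists_value_perp₁ hB hx hn (ν₀ - B x x)
    have hyx : B y x = 0 := by rw [hB.symm, hxy]
    have e1 := hall (x + y) (by simpa [hxy, hyx, hy] using hν₀)
    have e2 := hall (x - y) (by simpa [hxy, hyx, hy] using hν₀)
    have h2 : (2 : E) • ρ m x = (2 : E) • (ε • x) := by
      rw [map_add] at e1
      rw [map_sub] at e2
      linear_combination (norm := module) e1 + e2
    exact smul_right_injective V hB.two h2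
  refine ⟨ε, LinearMap.ext fun x => ?_⟩
  show ρ m x = ε • x
  by_cases hx : B x x = 0
  · obtain ⟨s, hs⟩ : ∃ s : V, B s s ≠ 0 ∧ B (x + s) (x + s) ≠ 0 := by
      by_contra hcon
      push Not at hcon
      have hv : B v₀ v₀ ≠ 0 := hDne _ hv₀D
      have h1 := hcon v₀ hv
      have h2 := hcon (-v₀) (by simpa using hv)
      simp only [map_add, map_neg, LinearMap.add_apply, LinearMap.neg_apply] at h1 h2
      exact hv ((mul_eq_zero.1 (show (2 : E) * B v₀ v₀ = 0 by linear_combination h1 + h2 - 2 * hx)).resolve_left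
        hB.two)
    have h := haniso _ hs.2
    rw [map_add, smul_add, haniso s hs.1] at h
    exact add_right_cancel h
  · exact haniso x hx

end Cfsg.Agent.Classical.OneClass
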