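import Cfsg.Agent.Lib.Classical.OrthMinusField
import Cfsg.Agent.Lib.Classical.OrthOneClassCore
import Cfsg.Agent.Lib.Classical.LocalBalance

/-!
Involutory similitude automorphisms of an even-dimensional `PΩ(Q)` in odd characteristic: the fixed
group, its odd core and its centraliser; the case of an isometric involution.
-/

set_option autoImplicit false
set_option linter.unusedSectionVars false
set_option quotPrecheck false

namespace Cfsg.Agent.Classical.OrthAut

open Matrix Module Cfsg.Agent.Classical.Descent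

variable {F : Type*} [Field F] [Fintype F] {ι : Type} [Fintype ι] [DecidableEq ι]
  {Q : QuadraticForm F (ι → F)} {n : ℕ}

local notation "V" => (ι → F)
local notation "Mn" => Matrix ι ι F
local notation "OG" => isometryGroup F ⇑Q
local notation "Om" => Omega F ⇑Q
local notation "GO" => Geo.quadSimilarityGroup (F := F) ⇑Q
local notation "PQ" => POmega F ⇑Q

/-- The fixed points. -/
abbrev fixLocus {K : Type*} [Group K] (x : MulAut K) : Subgroup K :=
  MonoidHom.eqLocus x.toMonoidHom (MonoidHom.id K)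

theorem mem_fixLocus {K : Type*} [Group K] {x : MulAut K} {k : K} : k ∈ fixLocus x ↔ x k = k := Iff.rfl

/-- The underlying matrix group element of an element of `Ω`. -/
noncomputable def omGL (Q : QuadraticForm F (ι → F)) : Omega F ⇑Q →* GL ι F :=
  (isometryGroup F ⇑Q).subtype.comp (Omega F ⇑Q).subtype

theorem omGL_quad (s : Om) (v : V) : Q ((omGL Q s : Mn) *ᵥ v) = Q v := omVal_quad s v

/-- A semilinear map. -/
noncomputable def semiAdd (u : GL ι F) (τ : F ≃+* F) : (ι → F) →+ (ι → F) :=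
  AddMonoidHom.mk' (fun x => (u : Mn) *ᵥ (τ ∘ x)) fun x y => by
    rw [← Matrix.mulVec_add]
    congr 1
    funext i
    exact map_add τ _ _

theorem semiAdd_apply (u : GL ι F) (τ : F ≃+* F) (x : V) : semiAdd u τ x = (u : Mn) *ᵥ (τ ∘ x) := rfl

theorem semiAdd_smul (u : GL ι F) (τ : F ≃+* F) (t : F) (x : V) :
    semiAdd u τ (t • x) = τ t • semiAdd u τ x := by
  rw [semiAdd_apply, semiAdd_apply, ← Matrix.mulVec_smul]
  congr 1
  funext i
  exact map_mul τ _ _

theorem semiAdd_injective (u : GL ι F) (τ : F ≃+* F) : Function.Injective (semiAdd u τ) := fun x y h => by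
  have h1 := congrArg (((u⁻¹ : GL ι F) : Mn) *ᵥ ·) h
  simp only [semiAdd_apply, Matrix.mulVec_mulVec, Units.inv_mul, Matrix.one_mulVec] at h1
  funext i
  exact τ.injective (congrFun h1 i)

/-- The polar form as a symmetric bilinear form. -/
theorem sp_polar (hnd : (QuadraticMap.polarBilin Q).Nondegenerate) (h2 : (2 : F) ≠ 0) :
    OneClass.Sp (QuadraticMap.polarBilin Q) :=
  ⟨fun x y => QuadraticMap.polar_comm _ x y, fun x hx => hnd.1 x hx, h2⟩

theorem refl_eq (h2 : (2 : F) ≠ 0) {v : V} (hv : Q v ≠ 0) (x : V) :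
    ogVal (refl hv) *ᵥ x = OneClass.refl (QuadraticMap.polarBilin Q) v x := by
  rw [refl_apply, OneClass.refl_apply, QuadraticMap.polarBilin_apply_apply,
    QuadraticMap.polarBilin_apply_apply, polar_self2]
  congr 2
  field_simp

theorem polar_ne_zero (h2 : (2 : F) ≠ 0) {v : V} :
    QuadraticMap.polarBilin Q v v ≠ 0 ↔ Q v ≠ 0 := by
  rw [QuadraticMap.polarBilin_apply_apply, polar_self2]
  simp [h2]

theorem card_pos_of_exists {Q : QuadraticForm F (ι → F)} {v : V} (hv : Q v = 1) : Nonempty ι := by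
  by_contra h
  rw [not_nonempty_iff] at h
  rw [Subsingleton.elim v 0, QuadraticMap.map_zero] at hv
  exact zero_ne_one hv

theorem conj_mem_map {K : Type*} [Group K] {L : Subgroup K} {M : Subgroup L} (hM : M.Normal) {a b : K}
    (ha : a ∈ L) (hb : b ∈ M.map L.subtype) : a * b * a⁻¹ ∈ M.map L.subtype := by
  obtain ⟨k, hk, rfl⟩ := hb
  exact ⟨⟨a, ha⟩ * k * ⟨a, ha⟩⁻¹, hM.conj_mem k hk _, rfl⟩

namespace EvenSpace

variable (H : EvenSpace Q n)
include H

theorem goHom_fix_iff (g : GO) (s : Om) :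
    goHom Q g (omPi (Q := Q) s) = omPi (Q := Q) s ↔
      ∃ c : F, ((g : GL ι F) : Mn) * (omGL Q s : Mn) = c • ((omGL Q s : Mn) * ((g : GL ι F) : Mn)) := by
  set s' : GO := ⟨omGL Q s, isometry_mem_go (s : OG)⟩
  have hs : MulAut.conj (omPi (Q := Q) s) = goHom Q s' := conj_eq_goHom s
  have h1 : goHom Q g (omPi (Q := Q) s) = omPi (Q := Q) s ↔ goHom Q (g * s') = goHom Q (s' * g) := by
    rw [map_mul, map_mul, ← hs]
    constructor
    · intro h
      refine MulEquiv.ext fun z => ?_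
      simp only [MulAut.mul_apply, MulAut.conj_apply, map_mul, map_inv, h]
    · intro h
      refine conj_injective H.nd H.tri H.good ?_
      refine mul_right_cancel (b := goHom Q g) ?_
      rw [← h]
      exact MulEquiv.ext fun z => by simp only [MulAut.mul_apply, MulAut.conj_apply, map_mul, map_inv]
  rw [h1]
  constructor
  · exact fun h => H.goHom_inj h
  · rintro ⟨c, hc⟩
    rw [← mul_inv_eq_one, ← map_inv, ← map_mul]
    refine goHom_scalar (c := c) ?_
    have e : ((g * s' : GO) : GL ι F).val = c • ((s' * g : GO) : GL ι F).val := hc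
    rw [Subgroup.coe_mul, Units.val_mul, e, Subgroup.coe_inv, Matrix.smul_mul, Units.mul_inv]

theorem fix_sign {u : GL ι F} {τ : RingAut F} (h : IsSemisimilarityPair (⇑Q) u τ) (s : Om)
    (e : (poSemi h : MulAut PQ) (omPi (Q := Q) s) = omPi (Q := Q) s) :
    ∃ ε : ℤˣ, ∀ x : V, semiAdd u τ ((omGL Q s : Mn) *ᵥ x) = (ε : ℤ) • ((omGL Q s : Mn) *ᵥ semiAdd u τ x) := by
  have hc : (poSemi h : MulAut PQ) * MulAut.conj (omPi (Q := Q) s) =
      MulAut.conj (omPi (Q := Q) s) * poSemi h :=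
    MulEquiv.ext fun z => by simp only [MulAut.mul_apply, MulAut.conj_apply, map_mul, map_inv, e]
  rw [conj_eq_goHom, goHom_apply,
    poSemi_mul (σ := τ) (τ := (1 : RingAut F)) h (isPair_refl (isometry_mem_go (s : OG))),
    poSemi_mul (σ := (1 : RingAut F)) (τ := τ) (isPair_refl (isometry_mem_go (s : OG))) h] at hc
  obtain ⟨-, c, hc⟩ := H.poSemi_inj _ _ hc
  have key : ∀ x : V, semiAdd u τ ((omGL Q s : Mn) *ᵥ x) = c • ((omGL Q s : Mn) *ᵥ semiAdd u τ x) := fun x => by
    rw [gmap_one, Units.val_mul, Units.val_mul] at hc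
    rw [semiAdd_apply, semiAdd_apply]
    rw [show (τ : F → F) ∘ ((omGL Q s : Mn) *ᵥ x) = (omGL Q s : Mn).map τ *ᵥ (τ ∘ x) from
      (map_comp_mulVec τ _ x).symm, Matrix.mulVec_mulVec, Matrix.mulVec_mulVec, ← Matrix.smul_mulVec]
    exact congrArg (· *ᵥ (τ ∘ x)) hc
  obtain ⟨v, hv⟩ := H.exists_one
  have h1 := congrArg (⇑Q) (key v)
  rw [QuadraticMap.map_smul, omGL_quad, semiAdd_apply, semiAdd_apply, pmul_spec h, pmul_spec h, omGL_quad, hv,
    map_one, mul_one, smul_eq_mul] at h1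
  have hcc : c * c = 1 := mul_right_cancel₀ (pmul h).ne_zero (h1.symm.trans (one_mul _).symm)
  rcases mul_self_eq_one_iff.1 hcc with rfl | rfl
  · exact ⟨1, fun x => by rw [key, one_smul, Units.val_one, one_smul]⟩
  · exact ⟨-1, fun x => by rw [key, neg_one_smul, Units.val_neg, Units.val_one, neg_one_smul]⟩

set_option maxHeartbeats 1000000 in
/-- Trivial odd core of the fixed group from the matrix statement. -/
theorem fix_odd_bot (g : GO)
    (key : ∀ S : Subgroup (GL ι F),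
      (∀ t ∈ S, ∀ v, Q ((t : Mn) *ᵥ v) = Q v) →
      (∀ t ∈ S, (g : GL ι F) * t = t * g) →
      (∀ t ∈ S, ∃ j : ℕ, Odd j ∧ ∃ c : F, ((t ^ j : GL ι F) : Mn) = c • 1) →
      (∀ s : Om, (g : GL ι F) * omGL Q s = omGL Q s * g → ∀ t ∈ S, omGL Q s * t * (omGL Q s)⁻¹ ∈ S) →
      ∀ t ∈ S, ∃ c : F, (t : Mn) = c • 1)
    (M : Subgroup (fixLocus (goHom Q g))) (hM : M.Normal) (hc : (Nat.card M).Coprime 2) : M = ⊥ := by
  set S₀ : Subgroup Om := (M.map (fixLocus (goHom Q g)).subtype).comap (omPi (Q := Q))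
  obtain ⟨v₁, hv₁⟩ := H.exists_one
  haveI : Nonempty ι := card_pos_of_exists hv₁
  have hscal : ∀ s : Om, omPi (Q := Q) s = 1 → ∃ c : F, (omGL Q s : Mn) = c • 1 := fun s hs => by
    have h1 := conj_eq_goHom (Q := Q) s
    rw [hs, map_one] at h1
    obtain ⟨c, hc⟩ := H.goHom_inj (k := 1) (h1.symm.trans (map_one _).symm)
    exact ⟨c, hc⟩
  have hodd : Odd (Nat.card M) := Nat.coprime_two_right.1 hc
  have hpow : ∀ t ∈ S₀.map (omGL Q), ∃ j : ℕ, Odd j ∧ ∃ c : F, ((t ^ j : GL ι F) : Mn) = c • 1 := by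
    rintro _ ⟨s, ⟨k, hk, hks⟩, rfl⟩
    refine ⟨_, hodd, ?_⟩
    rw [← map_pow]
    refine hscal _ ?_
    rw [map_pow, ← hks, ← map_pow]
    have h1 : k ^ Nat.card M = 1 := congrArg Subtype.val (pow_card_eq_one' (x := (⟨k, hk⟩ : M)))
    rw [h1, map_one]
  have hcomm : ∀ t ∈ S₀.map (omGL Q), (g : GL ι F) * t = t * g := by
    rintro t ⟨s, ⟨k, hk, hks⟩, rfl⟩
    obtain ⟨c, hc'⟩ := (H.goHom_fix_iff g s).1 (by rw [← hks]; exact k.2)
    set G : Mn := ((g : GL ι F) : Mn)
    set S : Mn := (omGL Q s : Mn)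
    have hQ := congrArg (fun A : Mn => Q (A *ᵥ v₁)) hc'
    simp only [← Matrix.mulVec_mulVec, Matrix.smul_mulVec, QuadraticMap.map_smul, smul_eq_mul] at hQ
    rw [mu_spec, omGL_quad, omGL_quad, mu_spec, hv₁, mul_one] at hQ
    have hcc : c * c = 1 := mul_right_cancel₀ (mu g).ne_zero (hQ.symm.trans (one_mul _).symm)
    have hp : ∀ i : ℕ, G * S ^ i = c ^ i • (S ^ i * G) := by
      intro i
      induction i with
      | zero => simp
      | succ i ih =>
        rw [pow_succ S, ← mul_assoc, ih, Matrix.smul_mul, mul_assoc, hc', Matrix.mul_smul, smul_smul, ← mul_assoc,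
          pow_succ c, mul_assoc]
    obtain ⟨j, hj, d, hd⟩ := hpow _ ⟨s, ⟨k, hk, hks⟩, rfl⟩
    rw [Units.val_pow_eq_pow_val] at hd
    have hd0 : d ≠ 0 := fun h0 => by
      have h1 := (omGL Q s ^ j).det_ne_zero
      rw [Units.val_pow_eq_pow_val, hd, h0, zero_smul, Matrix.det_zero] at h1
      exact h1 rfl
    have h2 := hp j
    rw [hd, Matrix.mul_smul, mul_one, Matrix.smul_mul, one_mul, smul_smul] at h2
    obtain ⟨i, hi⟩ := hj
    rw [hi, pow_succ, pow_mul, sq, hcc, one_pow, one_mul] at h2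
    have hc1 : c = 1 := by
      have h3 : (d - c * d) • G = 0 := by rw [sub_smul, ← h2, sub_self]
      rcases smul_eq_zero.1 h3 with h | h
      · exact mul_right_cancel₀ hd0 ((sub_eq_zero.1 h).symm.trans (one_mul _).symm)
      · exact absurd (show G.det = 0 by rw [h, Matrix.det_zero]) (g : GL ι F).det_ne_zero
    rw [hc1, one_smul] at hc'
    exact Units.ext hc'
  have hS : ∀ t ∈ S₀.map (omGL Q), ∃ c : F, (t : Mn) = c • 1 := by
    refine key _ ?_ hcomm hpow ?_
    · rintro _ ⟨s, -, rfl⟩ v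
      exact omGL_quad s v
    · rintro r hr _ ⟨s, hs', rfl⟩
      have hrL : omPi (Q := Q) r ∈ fixLocus (goHom Q g) :=
        (H.goHom_fix_iff g r).2 ⟨1, by rw [one_smul]; exact congrArg Units.val hr⟩
      refine ⟨r * s * r⁻¹, Subgroup.mem_comap.2 ?_, by rw [map_mul, map_mul, map_inv]⟩
      rw [map_mul, map_mul, map_inv]
      exact conj_mem_map hM hrL (Subgroup.mem_comap.1 hs')
  refine (Subgroup.eq_bot_iff_forall _).2 fun k hk => ?_
  obtain ⟨s, hs⟩ := omPi_surjective (Q := Q) (k : PQ)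
  obtain ⟨c, hc'⟩ := hS _ ⟨s, ⟨k, hk, hs.symm⟩, rfl⟩
  refine Subtype.ext (conj_injective H.nd H.tri H.good ?_)
  rw [← hs, conj_eq_goHom, OneMemClass.coe_one, map_one]
  exact goHom_scalar (c := c) hc'

/-- The odd core of the centraliser of an improper involutory similitude automorphism is trivial. -/
theorem invol_core {g : GO} (hord : orderOf (goHom Q g) = 2) (hps : psgn n g = -1)
    (hs : ∃ s : Om, goHom Q g (omPi (Q := Q) s) = omPi (Q := Q) s ∧ s * s = 1 ∧
      ∀ c : F, (omGL Q s : Mn) ≠ c • 1)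
    (hcent : ∀ β : MulAut PQ, (∀ s : Om, (g : GL ι F) * omGL Q s = omGL Q s * g →
      β (omPi (Q := Q) s) = omPi (Q := Q) s) → β ∈ Subgroup.zpowers (goHom Q g))
    (key : ∀ S : Subgroup (GL ι F),
      (∀ t ∈ S, ∀ v, Q ((t : Mn) *ᵥ v) = Q v) →
      (∀ t ∈ S, (g : GL ι F) * t = t * g) →
      (∀ t ∈ S, ∃ j : ℕ, Odd j ∧ ∃ c : F, ((t ^ j : GL ι F) : Mn) = c • 1) →
      (∀ s : Om, (g : GL ι F) * omGL Q s = omGL Q s * g → ∀ t ∈ S, omGL Q s * t * (omGL Q s)⁻¹ ∈ S) →
      ∀ t ∈ S, ∃ c : F, (t : Mn) = c • 1)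
    {A : Subgroup (MulAut PQ)} (hinn : ∀ k : PQ, MulAut.conj k ∈ A) :
    pPrimeCore 2 ↥(A ⊓ Subgroup.centralizer {goHom Q g}) = ⊥ := by
  haveI : Fact (Nat.Prime 2) := ⟨Nat.prime_two⟩
  obtain ⟨s, hsfix, hss, hsne⟩ := hs
  set L := fixLocus (goHom Q g)
  have hne : (⟨omPi (Q := Q) s, hsfix⟩ : L) ≠ 1 := fun h => by
    have h1 := conj_eq_goHom (Q := Q) s
    rw [show omPi (Q := Q) s = 1 from congrArg Subtype.val h, map_one] at h1
    obtain ⟨c, hc⟩ := H.goHom_inj (k := 1) (h1.symm.trans (map_one _).symm)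
    exact hsne c hc
  have hsq : (⟨omPi (Q := Q) s, hsfix⟩ : L) ^ 2 = 1 := Subtype.ext (by
    rw [SubmonoidClass.coe_pow, sq, ← map_mul, hss, map_one]; rfl)
  have h2L : 2 ∣ Nat.card L := by
    rw [← orderOf_eq_prime hsq hne]; exact orderOf_dvd_natCard _
  have hxinn : ∀ k, MulAut.conj k ≠ goHom Q g := fun k hk => by
    obtain ⟨t, rfl⟩ := omPi_surjective (Q := Q) k
    have h1 : goHom Q g ∈ H.diagAut := by
      rw [← hk, conj_eq_goHom]
      refine (H.goHom_mem_diagAut_iff _).2 ?_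
      show psgn n (ogToGO Q (t : OG)) = 1
      rw [H.psgn_og]
      by_cases h20 : (2 : F) = 0
      · exact (mem_omega_iff_dick H.nd H.tri h20 _).1 t.2
      · have hd := det_omega t.2
        rw [det_eq_dick H.nd H.tri] at hd
        rcases Int.units_eq_one_or (dick (t : OG)) with e | e
        · exact e
        · rw [e] at hd; simp at hd; exact absurd (by linear_combination -hd) h20
    rw [H.goHom_mem_diagAut_iff, hps] at h1
    exact absurd h1 (by decide)
  have hiff := balance_iff (conj_injective H.nd H.tri H.good) hinn hord hxinn (P₀ := L)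
    (fun h => hne (Subtype.ext (by
      have : omPi (Q := Q) s ∈ (⊥ : Subgroup PQ) := h ▸ hsfix
      exact this)))
    (fun u hu => hu) (fun k hk u hu => mul_mem (mul_mem hk hu) (inv_mem hk))
    (fun β _ hβ => hcent β fun t ht => hβ _ ((H.goHom_fix_iff g t).2 ⟨1, by
      rw [one_smul]; exact congrArg Units.val ht⟩))
    (fun _ => h2L) (fun _ M hM hc => H.fix_odd_bot g key M hM hc)
  by_contra hne'
  exact absurd (Nat.dvd_gcd dvd_rfl h2L) (by rw [hiff.1 hne']; decide)

end EvenSpace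

/-! ### An isometric involution -/

section Eigen

variable (g : GL ι F)

/-- An eigenspace. -/
noncomputable def eig (ε : F) : Submodule F (ι → F) :=
  LinearMap.ker (Matrix.mulVecLin (g : Mn) - ε • LinearMap.id)

theorem mem_eig {ε : F} {x : V} : x ∈ eig g ε ↔ (g : Mn) *ᵥ x = ε • x := by
  simp [eig, sub_eq_zero]

variable {g} (hQ : ∀ v : ι → F, Q ((g : Matrix ι ι F) *ᵥ v) = Q v)
  (hgg : (g : Matrix ι ι F) * (g : Matrix ι ι F) = 1) (h2 : (2 : F) ≠ 0)

include hgg h2 in
theorem isCompl_eig {ε : F} (hε : ε * ε = 1) : IsCompl (eig g ε) (eig g (-ε)) := by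
  have hε0 : ε ≠ 0 := fun h => by rw [h, mul_zero] at hε; exact zero_ne_one hε
  refine ⟨Submodule.disjoint_def.2 fun x h1 h1' => ?_, codisjoint_iff.2 (eq_top_iff.2 fun x _ => ?_)⟩
  · rw [mem_eig] at h1 h1'
    have h3 : (2 * ε) • x = 0 := by linear_combination (norm := module) h1' - h1
    exact (smul_eq_zero.1 h3).resolve_left (mul_ne_zero h2 hε0)
  · have hx : x = (2 : F)⁻¹ • (x + ε • ((g : Mn) *ᵥ x)) + (2 : F)⁻¹ • (x - ε • ((g : Mn) *ᵥ x)) := by
      match_scalars <;> field_simp <;> ring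
    rw [hx]
    have hg2 : (g : Mn) *ᵥ ((g : Mn) *ᵥ x) = x := by rw [Matrix.mulVec_mulVec, hgg, Matrix.one_mulVec]
    refine Submodule.add_mem_sup (Submodule.smul_mem _ _ ((mem_eig g).2 ?_))
      (Submodule.smul_mem _ _ ((mem_eig g).2 ?_))
    · rw [Matrix.mulVec_add, Matrix.mulVec_smul, hg2, smul_add, smul_smul, hε, one_smul, add_comm]
    · rw [Matrix.mulVec_sub, Matrix.mulVec_smul, hg2, smul_sub, smul_smul, neg_mul, hε, neg_smul, neg_smul,
        one_smul, sub_neg_eq_add, neg_add_eq_sub]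

include hQ in
theorem polar_map (x y : V) :
    QuadraticMap.polar ⇑Q ((g : Mn) *ᵥ x) ((g : Mn) *ᵥ y) = QuadraticMap.polar ⇑Q x y := by
  simp only [QuadraticMap.polar, ← Matrix.mulVec_add, hQ]

include hQ h2 in
theorem polar_eig {ε : F} (hε : ε * ε = 1) {x y : V} (hx : x ∈ eig g ε) (hy : y ∈ eig g (-ε)) :
    QuadraticMap.polarBilin Q x y = 0 := by
  have h := polar_map hQ x y
  rw [(mem_eig g).1 hx, (mem_eig g).1 hy, QuadraticMap.polar_smul_left, QuadraticMap.polar_smul_right,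
    smul_eq_mul, smul_eq_mul] at h
  rw [QuadraticMap.polarBilin_apply_apply]
  exact (mul_eq_zero.1 (show (2 : F) * QuadraticMap.polar ⇑Q x y = 0 by
    linear_combination -h - QuadraticMap.polar ⇑Q x y * hε)).resolve_left h2

/-- The form on an eigenspace. -/
noncomputable abbrev eigForm (Q : QuadraticForm F (ι → F)) (g : GL ι F) (ε : F) :
    LinearMap.BilinForm F (eig g ε) :=
  (QuadraticMap.polarBilin Q).compl₁₂ (eig g ε).subtype (eig g ε).subtype

include hQ hgg h2 in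
theorem sp_eig (hnd : (QuadraticMap.polarBilin Q).Nondegenerate) {ε : F} (hε : ε * ε = 1) :
    OneClass.Sp (eigForm Q g ε) := by
  refine ⟨fun x y => QuadraticMap.polar_comm _ (x : V) (y : V), fun x hx => Subtype.ext (hnd.1 _ fun y => ?_), h2⟩
  obtain ⟨y₁, h1, y₂, h1', rfl⟩ := Submodule.mem_sup.1
    (show y ∈ eig g ε ⊔ eig g (-ε) by rw [(isCompl_eig hgg h2 hε).sup_eq_top]; trivial)
  rw [map_add, polar_eig hQ h2 hε x.2 h1', add_zero]
  exact hx ⟨y₁, h1⟩

include hgg h2 in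
theorem finrank_eig_add {ε : F} (hε : ε * ε = 1) :
    finrank F (eig g ε) + finrank F (eig g (-ε)) = Fintype.card ι := by
  rw [Submodule.finrank_add_eq_of_isCompl (isCompl_eig hgg h2 hε), Module.finrank_pi]

include hgg h2 in
theorem det_eq_eig : (g : Mn).det = (-1) ^ finrank F (eig g (-1)) := by
  have hc := isCompl_eig (g := g) hgg h2 (one_mul (1 : F))
  set e := Submodule.prodEquivOfIsCompl _ _ hc
  set f : (eig g 1 × eig g (-1)) →ₗ[F] (eig g 1 × eig g (-1)) :=
    LinearMap.prodMap LinearMap.id ((-1 : F) • LinearMap.id)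
  have hf : (e : _ →ₗ[F] V) ∘ₗ f ∘ₗ (e.symm : V →ₗ[F] _) = Matrix.mulVecLin (g : Mn) := by
    refine LinearMap.ext fun x => ?_
    obtain ⟨⟨a, b⟩, rfl⟩ := e.surjective x
    rw [LinearMap.comp_apply, LinearMap.comp_apply, LinearEquiv.coe_coe, LinearEquiv.coe_coe,
      LinearEquiv.symm_apply_apply]
    simp only [f, LinearMap.prodMap_apply,
      LinearMap.id_apply, LinearMap.smul_apply, e, Submodule.coe_prodEquivOfIsCompl', Submodule.coe_smul,
      Matrix.mulVecLin_apply, Matrix.mulVec_add, (mem_eig g).1 a.2, (mem_eig g).1 b.2, one_smul]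
  rw [show (g : Mn).det = LinearMap.det (Matrix.mulVecLin (g : Mn)) from (LinearMap.det_toLin' _).symm, ← hf,
    LinearMap.det_conj, LinearMap.det_prodMap, LinearMap.det_id, LinearMap.det_smul, LinearMap.det_id]
  simp

include hQ in
theorem refl_comm_eig {ε : F} (hε : ε * ε = 1) {v : V} (hv : v ∈ eig g ε) (hv0 : Q v ≠ 0) :
    (g : Mn) * ogVal (refl hv0) = ogVal (refl hv0) * (g : Mn) := by
  refine Matrix.ext_iff_mulVec.2 fun x => ?_
  rw [← Matrix.mulVec_mulVec, ← Matrix.mulVec_mulVec, refl_apply, refl_apply, Matrix.mulVec_sub,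
    Matrix.mulVec_smul, (mem_eig g).1 hv, smul_smul]
  congr 2
  have h := polar_map hQ v x
  rw [(mem_eig g).1 hv, QuadraticMap.polar_smul_left, smul_eq_mul] at h
  rw [← h]
  linear_combination (Q v)⁻¹ * QuadraticMap.polar ⇑Q v ((g : Mn) *ᵥ x) * hε

namespace EvenSpace

variable (H : EvenSpace Q n)
include H hQ h2

/-- A pair of eigenvectors of one square class gives an element of `Ω` centralising `g`. -/
theorem exists_pair {ε δ : F} (hε : ε * ε = 1) (hδ : δ * δ = 1) {v w : V} (hv : v ∈ eig g ε)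
    (hw : w ∈ eig g δ) (hv0 : Q v ≠ 0) (hw0 : Q w ≠ 0) (hsq : IsSquare (Q v / Q w)) :
    ∃ s : Om, g * omGL Q s = omGL Q s * g ∧ ∀ x, (omGL Q s : Mn) *ᵥ x =
      (OneClass.refl (QuadraticMap.polarBilin Q) v * OneClass.refl (QuadraticMap.polarBilin Q) w) x := by
  refine ⟨⟨refl hv0 * refl hw0, refl_mod h2 H.nd hv0 hw0 hsq⟩, Units.ext ?_, fun x => ?_⟩
  · show (g : Mn) * ogVal (refl hv0 * refl hw0) = ogVal (refl hv0 * refl hw0) * (g : Mn)
    rw [ogVal_mul, ← mul_assoc, refl_comm_eig hQ hε hv hv0, mul_assoc, refl_comm_eig hQ hδ hw hw0, mul_assoc]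
  · show ogVal (refl hv0 * refl hw0) *ᵥ x = _
    rw [ogVal_mul, ← Matrix.mulVec_mulVec, refl_eq h2, refl_eq h2]
    rfl

variable {hn : 4 ≤ n} {hgO : g ∈ Geo.quadSimilarityGroup (F := F) ⇑Q}

include hgg in
theorem eig_line (hn : 4 ≤ n) {ε : F} (hε : ε * ε = 1) (hbig : 4 ≤ finrank F (eig g ε)) (T : V →+ V)
    (hT : Function.Injective T)
    (hTs : ∀ s : Om, g * omGL Q s = omGL Q s * g →
      ∃ e : ℤˣ, ∀ x, T ((omGL Q s : Mn) *ᵥ x) = (e : ℤ) • ((omGL Q s : Mn) *ᵥ T x))
    {δ : F} (hδ : δ = ε ∨ δ = -ε) {v : V} (hv : v ∈ eig g δ) (hv0 : Q v ≠ 0) : ∃ a : F, T v = a • v := by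
  classical
  have hB := sp_polar H.nd h2
  have hBe := sp_eig hQ hgg h2 H.nd hε
  have hvv : QuadraticMap.polarBilin Q v v ≠ 0 := (polar_ne_zero h2).2 hv0
  obtain ⟨b, c, hb, hc, hvb, hvc, hbc⟩ : ∃ b c : eig g ε,
      eigForm Q g ε b b = QuadraticMap.polarBilin Q v v ∧ eigForm Q g ε c c = QuadraticMap.polarBilin Q v v ∧
      QuadraticMap.polarBilin Q v (b : V) = 0 ∧ QuadraticMap.polarBilin Q v (c : V) = 0 ∧
      QuadraticMap.polarBilin Q (b : V) (c : V) = 0 := by
    rcases hδ with rfl | rfl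
    · obtain ⟨b, hb, h1⟩ := OneClass.exists_value_perp₁ hBe (a := ⟨v, hv⟩) hvv (by omega)
        (QuadraticMap.polarBilin Q v v)
      obtain ⟨c, hc, h2', h3⟩ := OneClass.exists_value_perp₂ hBe (a := ⟨v, hv⟩) (b := b) hvv
        (by rw [hb]; exact hvv) h1 hbig (QuadraticMap.polarBilin Q v v)
      exact ⟨b, c, hb, hc, h1, h2', h3⟩
    · obtain ⟨b, hb, -⟩ := OneClass.exists_value_perp hBe (S := ∅) (by simp) (by simp) (by simp; omega)
        (QuadraticMap.polarBilin Q v v)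
      obtain ⟨c, hc, h1⟩ := OneClass.exists_value_perp₁ hBe (a := b) (by rw [hb]; exact hvv) (by omega)
        (QuadraticMap.polarBilin Q v v)
      refine ⟨b, c, hb, hc, ?_, ?_, h1⟩
      · rw [QuadraticMap.polarBilin_apply_apply, QuadraticMap.polar_comm]; exact polar_eig hQ h2 hε b.2 hv
      · rw [QuadraticMap.polarBilin_apply_apply, QuadraticMap.polar_comm]; exact polar_eig hQ h2 hε c.2 hv
  have hδ2 : δ * δ = 1 := by rcases hδ with rfl | rfl <;> simp [hε]
  have hQb : ∀ w : eig g ε, eigForm Q g ε w w = QuadraticMap.polarBilin Q v v → Q (w : V) = Q v := fun w hw => by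
    have e : QuadraticMap.polar ⇑Q (w : V) (w : V) = QuadraticMap.polar ⇑Q v v := hw
    rw [polar_self2, polar_self2] at e
    exact mul_left_cancel₀ h2 e
  have hplane : ∀ w : eig g ε, eigForm Q g ε w w = QuadraticMap.polarBilin Q v v →
      QuadraticMap.polarBilin Q v (w : V) = 0 → ∃ s t : F, T v = s • v + t • (w : V) := by
    intro w hw hvw
    have hw0 : Q (w : V) ≠ 0 := by rw [hQb w hw]; exact hv0
    obtain ⟨s, hs, hsv⟩ := H.exists_pair hQ h2 hδ2 hε hv w.2 hv0 hw0 (by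
      rw [hQb w hw, div_self hv0]; exact IsSquare.one)
    obtain ⟨e, he⟩ := hTs s hs
    exact OneClass.plane hB (by rw [Module.finrank_pi, H.card]; omega) hvv ((polar_ne_zero h2).2 hw0) hvw T hT
      (ε := e) fun x => by rw [← hsv, ← hsv]; exact he x
  obtain ⟨s, t, h1⟩ := hplane b hb hvb
  obtain ⟨s', t', h1'⟩ := hplane c hc hvc
  exact ⟨s, OneClass.line_of_planes (B := QuadraticMap.polarBilin Q)
    (b := (b : V)) (hb.trans_ne hvv : _)
    (by rw [hB.symm]; exact hvb) hbc h1 h1'⟩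

set_option maxHeartbeats 1000000 in
include hgg in
/-- The odd core for an isometric involution with odd-dimensional eigenspaces. -/
theorem eigen_core (hn : 4 ≤ n) {ε : F} (hε : ε * ε = 1) (hodd : Odd (finrank F (eig g ε)))
    (hbig : 4 ≤ finrank F (eig g ε)) (hgO : g ∈ Geo.quadSimilarityGroup (F := F) ⇑Q)
    (hord : orderOf (goHom Q ⟨g, hgO⟩) = 2) (hps : psgn n (⟨g, hgO⟩ : GO) = -1)
    {A : Subgroup (MulAut PQ)} (hinn : ∀ k : PQ, MulAut.conj k ∈ A) :
    pPrimeCore 2 ↥(A ⊓ Subgroup.centralizer {goHom Q ⟨g, hgO⟩}) = ⊥ := by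
  classical
  have hε' : (-ε) * (-ε) = 1 := by rw [neg_mul_neg, hε]
  have hBe := sp_eig hQ hgg h2 H.nd hε
  have hBe' := sp_eig hQ hgg h2 H.nd hε'
  have hsum := finrank_eig_add hgg h2 (g := g) hε
  rw [H.card] at hsum
  have hodd' : Odd (finrank F (eig g (-ε))) := by
    obtain ⟨i, hi⟩ := hodd
    exact ⟨n - i - 1, by omega⟩
  have htop : ∀ x : V, ∃ a ∈ eig g ε, ∃ b ∈ eig g (-ε), a + b = x := fun x =>
    Submodule.mem_sup.1 (show x ∈ eig g ε ⊔ eig g (-ε) by rw [(isCompl_eig hgg h2 hε).sup_eq_top]; trivial)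
  obtain ⟨v₀, hv₀, -⟩ := OneClass.exists_value_perp hBe (S := ∅) (by simp) (by simp) (by simp; omega) (1 : F)
  obtain ⟨w₀, hw₀, hvw₀⟩ := OneClass.exists_value_perp₁ hBe (a := v₀) (by rw [hv₀]; exact one_ne_zero)
    (by omega) (1 : F)
  have hQv₀ : Q (v₀ : V) ≠ 0 := (polar_ne_zero h2).1 (hv₀.trans_ne one_ne_zero : _)
  have hQw₀ : Q (w₀ : V) ≠ 0 := (polar_ne_zero h2).1 (hw₀.trans_ne one_ne_zero : _)
  have hsq₀ : IsSquare (Q (v₀ : V) / Q (w₀ : V)) := by
    have e : QuadraticMap.polar ⇑Q (v₀ : V) (v₀ : V) = QuadraticMap.polar ⇑Q (w₀ : V) (w₀ : V) := hv₀.trans hw₀.symm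
    rw [polar_self2, polar_self2] at e
    rw [mul_left_cancel₀ h2 e, div_self hQw₀]
    exact IsSquare.one
  refine H.invol_core hord hps ?_ ?_ ?_ hinn
  · obtain ⟨s, hs, hsv⟩ := H.exists_pair hQ h2 hε hε v₀.2 w₀.2 hQv₀ hQw₀ hsq₀
    refine ⟨s, (H.goHom_fix_iff _ s).2 ⟨1, by rw [one_smul]; exact congrArg Units.val hs⟩, ?_, fun c hc => ?_⟩
    · have hB := sp_polar H.nd h2
      set R := OneClass.refl (QuadraticMap.polarBilin Q) (v₀ : V)
      set R' := OneClass.refl (QuadraticMap.polarBilin Q) (w₀ : V)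
      have hcom : R' * R = R * R' := by
        rw [OneClass.refl_conj hB (OneClass.refl_iso hB ((polar_ne_zero h2).2 hQw₀)) (v₀ : V),
          OneClass.refl_perp _ (show QuadraticMap.polarBilin Q (w₀ : V) (v₀ : V) = 0 by rw [hB.symm]; exact hvw₀)]
      have hRR : R * R' * (R * R') = 1 := by
        rw [mul_assoc, ← mul_assoc R', hcom, mul_assoc R, OneClass.refl_sq _ ((polar_ne_zero h2).2 hQw₀), mul_one,
          OneClass.refl_sq _ ((polar_ne_zero h2).2 hQv₀)]
      refine omVal_ext (Matrix.ext_iff_mulVec.2 fun x => ?_)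
      show ((omGL Q (s * s) : GL ι F) : Mn) *ᵥ x = ((omGL Q (1 : Om) : GL ι F) : Mn) *ᵥ x
      rw [map_mul, Units.val_mul, ← Matrix.mulVec_mulVec, hsv, hsv, ← Module.End.mul_apply, hRR, map_one,
        Units.val_one, Matrix.one_mulVec]
      rfl
    · obtain ⟨z, hz, hz1, hz2⟩ := OneClass.exists_value_perp₂ hBe (a := v₀) (b := w₀)
        (by rw [hv₀]; exact one_ne_zero) (by rw [hw₀]; exact one_ne_zero) hvw₀ hbig (1 : F)
      have h1 := hsv (z : V)
      rw [hc, Matrix.smul_mulVec, Matrix.one_mulVec, Module.End.mul_apply,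
        OneClass.refl_perp _ (show QuadraticMap.polarBilin Q (w₀ : V) (z : V) = 0 from hz2),
        OneClass.refl_perp _ (show QuadraticMap.polarBilin Q (v₀ : V) (z : V) = 0 from hz1)] at h1
      have hc1 : c = 1 := by
        have h3 : c • (z : V) = (1 : F) • (z : V) := by rw [one_smul]; exact h1
        refine smul_left_injective F (fun h => ?_) h3
        have : eigForm Q g ε z z = 0 := by
          show QuadraticMap.polarBilin Q (z : V) (z : V) = 0
          rw [h, map_zero]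
        rw [hz] at this
        exact one_ne_zero this
      have h3 := hsv (v₀ : V)
      rw [hc, hc1, one_smul, Matrix.one_mulVec, Module.End.mul_apply,
        OneClass.refl_perp _ (show QuadraticMap.polarBilin Q (w₀ : V) (v₀ : V) = 0 by
          rw [(sp_polar H.nd h2).symm]; exact hvw₀), OneClass.refl_self _ ((polar_ne_zero h2).2 hQv₀)] at h3
      have h4 : (2 : F) • (v₀ : V) = 0 := by linear_combination (norm := module) h3
      exact hQv₀ (by rw [(smul_eq_zero.1 h4).resolve_left h2, QuadraticMap.map_zero])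
  · intro β hβ
    obtain ⟨u, τ, h, rfl⟩ := H.exists_poSemi β
    set T := semiAdd u τ with hT
    have hTs : ∀ s : Om, g * omGL Q s = omGL Q s * g →
        ∃ e : ℤˣ, ∀ x, T ((omGL Q s : Mn) *ᵥ x) = (e : ℤ) • ((omGL Q s : Mn) *ᵥ T x) :=
      fun s hs => H.fix_sign h s (hβ s hs)
    obtain ⟨α, hα⟩ := OneClass.scalar_of_lines hBe (by omega) (eig g ε).subtype Subtype.val_injective
      (T.comp (eig g ε).subtype.toAddMonoidHom) fun x hx =>
        H.eig_line hQ hgg h2 hn hε hbig T (semiAdd_injective u τ) hTs (Or.inl rfl) x.2 ((polar_ne_zero h2).1 hx)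
    have hα' : ∀ x ∈ eig g ε, T x = α • x := fun x hx => hα ⟨x, hx⟩
    have hv00 : (v₀ : V) ≠ 0 := fun h => hQv₀ (by rw [h, QuadraticMap.map_zero])
    have hα0 : α ≠ 0 := fun h0 => hv00 (semiAdd_injective u τ (by
      rw [← hT, hα' _ v₀.2, h0, zero_smul, map_zero]))
    obtain rfl : τ = 1 := RingEquiv.ext fun t => by
      have h1 := hα' (t • (v₀ : V)) ((eig g ε).smul_mem t v₀.2)
      rw [hT, semiAdd_smul, ← hT, hα' _ v₀.2, smul_smul, smul_smul] at h1
      exact mul_right_cancel₀ hα0 ((smul_left_injective F hv00 h1).trans (mul_comm _ _))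
    have hTu : ∀ x, T x = (u : Mn) *ᵥ x := fun x => rfl
    obtain ⟨γ, hγ⟩ : ∃ γ : F, ∀ x ∈ eig g (-ε), T x = γ • x := by
      rcases Nat.lt_or_ge (finrank F (eig g (-ε))) 3 with hlt | hge
      · have h1 : finrank F (eig g (-ε)) = 1 := by obtain ⟨i, hi⟩ := hodd'; omega
        obtain ⟨w, hw, -⟩ := OneClass.exists_aniso_perp hBe' (S := ∅) (by simp) (by simp) (by simp; omega)
        have hw0 : w ≠ 0 := fun h => hw (by simp [h])
        obtain ⟨a, ha⟩ := H.eig_line hQ hgg h2 hn hε hbig T (semiAdd_injective u _) hTs (Or.inr rfl) w.2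
          ((polar_ne_zero h2).1 hw)
        refine ⟨a, fun x hx => ?_⟩
        obtain ⟨t, ht⟩ := exists_smul_eq_of_finrank_eq_one h1 hw0 ⟨x, hx⟩
        have ht' : t • (w : V) = x := congrArg Subtype.val ht
        rw [← ht', hTu, Matrix.mulVec_smul, ← hTu, ha, smul_comm]
      · obtain ⟨γ, hγ⟩ := OneClass.scalar_of_lines hBe' hge (eig g (-ε)).subtype Subtype.val_injective
          (T.comp (eig g (-ε)).subtype.toAddMonoidHom) fun x hx =>
            H.eig_line hQ hgg h2 hn hε hbig T (semiAdd_injective u _) hTs (Or.inr rfl) x.2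
              ((polar_ne_zero h2).1 hx)
        exact ⟨γ, fun x hx => hγ ⟨x, hx⟩⟩
    obtain ⟨w₁, hw₁, -⟩ := OneClass.exists_aniso_perp hBe' (S := ∅) (by simp) (by simp) (by
      simp only [Finset.card_empty]; obtain ⟨i, hi⟩ := hodd'; omega)
    have hγα : γ * γ = α * α := by
      have e1 := pmul_spec h (v₀ : V)
      rw [show (u : Mn) *ᵥ ((1 : RingAut F) ∘ (v₀ : V)) = T (v₀ : V) from rfl, hα' _ v₀.2, QuadraticMap.map_smul,
        smul_eq_mul] at e1
      have e2 := pmul_spec h (w₁ : V)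
      rw [show (u : Mn) *ᵥ ((1 : RingAut F) ∘ (w₁ : V)) = T (w₁ : V) from rfl, hγ _ w₁.2, QuadraticMap.map_smul,
        smul_eq_mul] at e2
      rw [mul_right_cancel₀ hQv₀ e1, mul_right_cancel₀ ((polar_ne_zero h2).1 hw₁) e2]
    have hgx : ∀ a ∈ eig g ε, ∀ b ∈ eig g (-ε), (g : Mn) *ᵥ (a + b) = ε • (a - b) := fun a ha b hb => by
      rw [Matrix.mulVec_add, (mem_eig g).1 ha, (mem_eig g).1 hb]; module
    rcases mul_self_eq_mul_self_iff.1 hγα with rfl | hneg
    · have hu : (u : Mn) = γ • 1 := Matrix.ext_iff_mulVec.2 fun x => by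
        obtain ⟨a, ha, b, hb, rfl⟩ := htop x
        rw [← hTu, map_add, hα' a ha, hγ b hb, Matrix.smul_mulVec, Matrix.one_mulVec, smul_add]
      rw [poSemi_scalar h hu]
      exact one_mem _
    · have hu : (u : Mn) = (α * ε) • (g : Mn) := Matrix.ext_iff_mulVec.2 fun x => by
        obtain ⟨a, ha, b, hb, rfl⟩ := htop x
        rw [← hTu, map_add, hα' a ha, hγ b hb, Matrix.smul_mulVec, hgx a ha b hb, hneg, smul_smul, mul_assoc, hε]
        module
      have hu' : u ∈ Geo.quadSimilarityGroup (F := F) ⇑Q := ⟨pmul h, fun v => pmul_spec h v⟩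
      have e : (poSemi h : MulAut PQ) = goHom Q ⟨u, hu'⟩ := poSemi_congr _ _ rfl rfl
      refine Subgroup.mem_zpowers_iff.2 ⟨1, ?_⟩
      rw [zpow_one, e, eq_comm, ← mul_inv_eq_one, ← map_inv, ← map_mul]
      refine goHom_scalar (c := α * ε) ?_
      show (u : Mn) * ((g⁻¹ : GL ι F) : Mn) = _
      rw [hu, Matrix.smul_mul, Units.mul_inv]
  · intro S hSQ hSc hSo hSn
    set Z := Subgroup.centralizer ({g} : Set (GL ι F))
    have hmap : ∀ (δ : F) (t : Z) (x : eig g δ), ((t : GL ι F) : Mn) *ᵥ (x : V) ∈ eig g δ := fun δ t x => by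
      have hc : (g : Mn) * ((t : GL ι F) : Mn) = ((t : GL ι F) : Mn) * (g : Mn) :=
        congrArg Units.val (Subgroup.mem_centralizer_singleton_iff.1 t.2).symm
      rw [mem_eig, Matrix.mulVec_mulVec, hc, ← Matrix.mulVec_mulVec, (mem_eig g).1 x.2, Matrix.mulVec_smul]
    let ρ : (δ : F) → Z →* Module.End F (eig g δ) := fun δ =>
      { toFun := fun t => ((Matrix.mulVecLin ((t : GL ι F) : Mn)).comp (eig g δ).subtype).codRestrict _
          fun x => hmap δ t x
        map_one' := LinearMap.ext fun x => Subtype.ext (Matrix.one_mulVec (x : V))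
        map_mul' := fun a b => LinearMap.ext fun x => Subtype.ext
          (Matrix.mulVec_mulVec (x : V) ((a : GL ι F) : Mn) ((b : GL ι F) : Mn)).symm }
    have hpart : ∀ δ : F, δ * δ = 1 → 3 ≤ finrank F (eig g δ) → 0 < finrank F (eig g (-δ)) →
        (4 ≤ finrank F (eig g δ) ∨ 2 ≤ finrank F (eig g (-δ))) →
        ∀ t ∈ S, ∃ c : F, ∀ x ∈ eig g δ, (t : Mn) *ᵥ x = c • x := by
      intro δ hδ h3 hpos hor t ht
      have hδ' : (-δ) * (-δ) = 1 := by rw [neg_mul_neg, hδ]
      have hBd := sp_eig hQ hgg h2 H.nd hδ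
      have hBd' := sp_eig hQ hgg h2 H.nd hδ'
      obtain ⟨c, hc⟩ := OneClass.core hBd h3
        (D := fun z => z ≠ 0 ∧ ∃ w : eig g (-δ), eigForm Q g (-δ) w w = z)
        (by
          obtain ⟨w, hw, -⟩ := OneClass.exists_aniso_perp hBd' (S := ∅) (by simp) (by simp) (by simpa using hpos)
          exact ⟨_, hw, w, rfl⟩)
        (fun _ h => h.1)
        (by
          rintro z s ⟨hz, w, hw⟩ hs
          refine ⟨mul_ne_zero hz (pow_ne_zero 2 hs), s • w, ?_⟩
          simp only [map_smul, LinearMap.smul_apply, hw]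
          simp only [smul_eq_mul]; ring)
        (hor.imp id fun h2' z hz => by
          obtain ⟨w, hw, -⟩ := OneClass.exists_value_perp hBd' (S := ∅) (by simp) (by simp) (by simpa using h2') z
          exact ⟨hz, w, hw⟩)
        (ρ δ) (M := S.subgroupOf Z)
        (fun m hm x y => polar_map (Q := Q) (g := ((m : Z) : GL ι F)) (fun v => hSQ _ hm v) (x : V) (y : V))
        (by
          rintro a ⟨ha0, w, hw⟩
          have hw' : QuadraticMap.polar ⇑Q (w : V) (w : V) = QuadraticMap.polar ⇑Q (a : V) (a : V) := hw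
          rw [polar_self2, polar_self2] at hw'
          have hQa : Q (a : V) ≠ 0 := (polar_ne_zero h2).1 ha0
          have hQw : Q (w : V) ≠ 0 := by rw [mul_left_cancel₀ h2 hw']; exact hQa
          obtain ⟨s, hs, hsv⟩ := H.exists_pair hQ h2 hδ hδ' a.2 w.2 hQa hQw (by
            rw [mul_left_cancel₀ h2 hw', div_self hQa]; exact IsSquare.one)
          refine ⟨⟨omGL Q s, Subgroup.mem_centralizer_singleton_iff.2 hs.symm⟩, ?_, fun m hm => hSn s hs _ hm⟩
          refine LinearMap.ext fun x => Subtype.ext ?_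
          show (omGL Q s : Mn) *ᵥ (x : V) = _
          rw [hsv, Module.End.mul_apply, OneClass.refl_perp _ (show QuadraticMap.polarBilin Q (w : V) (x : V) = 0 by
            rw [QuadraticMap.polarBilin_apply_apply, QuadraticMap.polar_comm]; exact polar_eig hQ h2 hδ x.2 w.2),
            OneClass.refl_apply, OneClass.refl_apply]
          rfl)
        (fun m hm => by
          obtain ⟨j, hj, c, hc⟩ := hSo _ hm
          refine ⟨j, hj, c, LinearMap.ext fun x => Subtype.ext ?_⟩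
          show (((m : Z) : GL ι F) ^ j : GL ι F).val *ᵥ (x : V) = c • (x : V)
          rw [show (((m : Z) : GL ι F) ^ j : GL ι F).val = c • 1 from hc, Matrix.smul_mulVec, Matrix.one_mulVec])
        ⟨t, Subgroup.mem_centralizer_singleton_iff.2 (hSc t ht).symm⟩ ht
      exact ⟨c, fun x hx => congrArg Subtype.val (LinearMap.congr_fun hc ⟨x, hx⟩)⟩
    intro t ht
    obtain ⟨c, hc⟩ := hpart ε hε (by omega) hodd'.pos (Or.inl hbig) t ht
    obtain ⟨d, hd⟩ : ∃ d : F, ∀ x ∈ eig g (-ε), (t : Mn) *ᵥ x = d • x := by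
      rcases Nat.lt_or_ge (finrank F (eig g (-ε))) 3 with hlt | hge
      · have h1 : finrank F (eig g (-ε)) = 1 := by obtain ⟨i, hi⟩ := hodd'; omega
        obtain ⟨w, hw, -⟩ := OneClass.exists_aniso_perp hBe' (S := ∅) (by simp) (by simp) (by simp; omega)
        have hw0 : w ≠ 0 := fun h => hw (by simp [h])
        obtain ⟨d, hd⟩ := exists_smul_eq_of_finrank_eq_one h1 hw0
          (ρ (-ε) ⟨t, Subgroup.mem_centralizer_singleton_iff.2 (hSc t ht).symm⟩ w)
        refine ⟨d, fun x hx => ?_⟩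
        obtain ⟨e, he⟩ := exists_smul_eq_of_finrank_eq_one h1 hw0 ⟨x, hx⟩
        have he' : e • (w : V) = x := congrArg Subtype.val he
        have hd' : d • (w : V) = (t : Mn) *ᵥ (w : V) := congrArg Subtype.val hd
        rw [← he', Matrix.mulVec_smul, ← hd', smul_comm]
      · exact hpart (-ε) hε' hge (by rw [neg_neg]; omega) (Or.inr (by rw [neg_neg]; omega)) t ht
    obtain ⟨w₁, hw₁, -⟩ := OneClass.exists_aniso_perp hBe' (S := ∅) (by simp) (by simp) (by
      simp only [Finset.card_empty]; exact hodd'.pos)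
    have hQw₁ := (polar_ne_zero h2).1 hw₁
    have e1 := hSQ t ht (v₀ : V)
    have e2 := hSQ t ht (w₁ : V)
    rw [hc _ v₀.2, QuadraticMap.map_smul, smul_eq_mul] at e1
    rw [hd _ w₁.2, QuadraticMap.map_smul, smul_eq_mul] at e2
    have hcc : c * c = 1 := mul_right_cancel₀ hQv₀ (e1.trans (one_mul _).symm)
    have hdd : d * d = 1 := mul_right_cancel₀ hQw₁ (e2.trans (one_mul _).symm)
    have htt : t * t = 1 := Units.ext (Matrix.ext_iff_mulVec.2 fun x => by
      obtain ⟨a, ha, b, hb, rfl⟩ := htop x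
      rw [Units.val_mul, ← Matrix.mulVec_mulVec, Matrix.mulVec_add, hc a ha, hd b hb, Matrix.mulVec_add,
        Matrix.mulVec_smul, Matrix.mulVec_smul, hc a ha, hd b hb, smul_smul, smul_smul, hcc, hdd, one_smul,
        one_smul, Units.val_one, Matrix.one_mulVec])
    obtain ⟨j, ⟨i, rfl⟩, e, he⟩ := hSo t ht
    rw [pow_succ, pow_mul, sq, htt, one_pow, one_mul] at he
    exact ⟨e, he⟩

end EvenSpace

end Eigen

end Cfsg.Agent.Classical.OrthAut
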