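import Cfsg.Agent.Lib.Classical.FieldExtOrthModel
import Cfsg.Agent.Lib.Classical.FieldExtNormalizer
import Cfsg.Agent.Lib.Classical.OrthEvenTSMain
import Cfsg.Agent.Lib.Classical.OrthGenTrans
import Cfsg.Agent.Lib.Classical.OrthInvolBalance

/-! Elements of order two modulo scalars of orthogonal groups and self-adjoint quadratic extension fields. -/

set_option autoImplicit false
set_option linter.unusedSectionVars false
set_option quotPrecheck false

namespace Cfsg.Agent.FieldExtOrth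

open Module Matrix Cfsg.Agent.Classical Cfsg.Agent.Classical.OrthAut Cfsg.Agent.OrthNondegInvolution

variable {F : Type*} [Field F] {ι : Type} [Fintype ι] [DecidableEq ι] {Q : QuadraticForm F (ι → F)}

local notation "OG" => isometryGroup F ⇑Q
local notation "B" => QuadraticMap.polar ⇑Q

/-- A linear map of coordinates, as a matrix. -/
noncomputable def ofEquiv {W : Type*} [AddCommGroup W] [Module F W] (Φ : W ≃ₗ[F] (ι → F)) :
    (W ≃ₗ[F] W) →* GL ι F where
  toFun T := (LinearMap.GeneralLinearGroup.generalLinearEquiv F (ι → F)).symm ((Φ.symm.trans T).trans Φ) |>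
    Matrix.GeneralLinearGroup.toLin.symm
  map_one' := by
    rw [show (Φ.symm.trans 1).trans Φ = 1 from LinearEquiv.ext fun x => by simp]
    simp
  map_mul' S T := by
    rw [← map_mul, ← map_mul]
    congr 2
    exact LinearEquiv.ext fun x => by simp

theorem ofEquiv_apply {W : Type*} [AddCommGroup W] [Module F W] (Φ : W ≃ₗ[F] (ι → F)) (T : W ≃ₗ[F] W) (u : W) :
    (ofEquiv Φ T : Matrix ι ι F) *ᵥ Φ u = Φ (T u) := by
  show LinearMap.toMatrix' _ *ᵥ _ = _
  rw [LinearMap.toMatrix'_mulVec]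
  simp [LinearMap.GeneralLinearGroup.generalLinearEquiv]

theorem ofEquiv_injective {W : Type*} [AddCommGroup W] [Module F W] (Φ : W ≃ₗ[F] (ι → F)) :
    Function.Injective (ofEquiv Φ) := fun S T h => LinearEquiv.ext fun u =>
  Φ.injective (by rw [← ofEquiv_apply, ← ofEquiv_apply, h])

theorem ofEquiv_mem {W : Type*} [AddCommGroup W] [Module F W] (Φ : W ≃ₗ[F] (ι → F)) {S : W → F}
    (hΦ : ∀ u, Q (Φ u) = S u) {T : W ≃ₗ[F] W} (hT : ∀ u, S (T u) = S u) : ofEquiv Φ T ∈ OG :=
  mem_isometryGroup.2 fun x => by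
    obtain ⟨u, rfl⟩ := Φ.surjective x
    rw [ofEquiv_apply, hΦ, hΦ, hT]

variable {E : Type*} [Field E] [Algebra F E] [Module E (ι → F)] [IsScalarTower F E (ι → F)]

theorem ofEquiv_normalizer {K : Subalgebra F (Matrix ι ι F)} {k : ℕ} (hK : Geo.IsFieldSubalgebra k K) (hk : 0 < k)
    (hdesc : ∀ A, A ∈ K ↔ ∃ a : E, ∀ x : ι → F, A *ᵥ x = a • x) {κ : Type} (Φ : (κ → E) ≃ₗ[E] (ι → F))
    (T : (κ → E) ≃ₗ[F] (κ → E)) (σ : E → E) (hσ : ∀ (a : E) u, T (a • u) = σ a • T u) :
    ofEquiv (Φ.restrictScalars F) T ∈ Geo.subalgebraNormalizer K := by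
  refine FieldExtNormalizer.mem_normalizer hK hk fun A hA => ?_
  obtain ⟨a, ha⟩ := (hdesc A).1 hA
  let L : (ι → F) →ₗ[F] (ι → F) := (LinearMap.lsmul E (ι → F) (σ a)).restrictScalars F
  refine ⟨LinearMap.toMatrix' L, (hdesc _).2 ⟨σ a, fun x => LinearMap.toMatrix'_mulVec L x⟩, ?_⟩
  refine Matrix.ext_iff_mulVec.2 fun x => ?_
  obtain ⟨u, rfl⟩ := (Φ.restrictScalars F).surjective x
  rw [← Matrix.mulVec_mulVec, ← Matrix.mulVec_mulVec, ha, ofEquiv_apply,
    show a • (Φ.restrictScalars F) u = (Φ.restrictScalars F) (a • u) from (Φ.map_smul a u).symm, ofEquiv_apply, hσ,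
    LinearMap.toMatrix'_mulVec]
  exact Φ.map_smul _ _

variable [Fintype F] (h2 : (2 : F) ≠ 0) (hQ : (QuadraticMap.polarBilin Q).Nondegenerate)

theorem skew_of_sq {g : OG} (hg : ∀ x, ogVal g *ᵥ (ogVal g *ᵥ x) = -x) (u v : ι → F) :
    B (ogVal g *ᵥ u) v = -B u (ogVal g *ᵥ v) := by
  have h := OrthComplexStructure.polar_apply g u (ogVal g *ᵥ v)
  rw [hg, QuadraticMap.polar_neg_right] at h
  linear_combination -h

include h2 in
theorem polar_self_sq {g : OG} (hg : ∀ x, ogVal g *ᵥ (ogVal g *ᵥ x) = -x) (u : ι → F) :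
    B u (ogVal g *ᵥ u) = 0 := by
  have h := skew_of_sq hg u u
  rw [QuadraticMap.polar_comm] at h
  exact (mul_eq_zero.1 (show (2 : F) * B u (ogVal g *ᵥ u) = 0 by linear_combination h)).resolve_left h2

include h2 hQ in
theorem frame_aux {g : OG} (hg : ∀ x, ogVal g *ᵥ (ogVal g *ᵥ x) = -x) :
    ∀ (k : ℕ) (N : Submodule F (ι → F)), NonSing Q N → (∀ x ∈ N, ogVal g *ᵥ x ∈ N) → finrank F N = 2 * k →
      ∃ v : Fin k → (ι → F), (∀ i, v i ∈ N ∧ Q (v i) = 1) ∧
        ∀ i l, B (v i) (ogVal g *ᵥ v l) = 0 ∧ (i ≠ l → B (v i) (v l) = 0) := by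
  intro k
  induction k with
  | zero => exact fun N _ _ _ => ⟨fun i => i.elim0, fun i => i.elim0, fun i => i.elim0⟩
  | succ k ih =>
    intro N hN hinv hd
    obtain ⟨v, N', hv, hv0, hvw, hle, hN', hprop, hd'⟩ := OrthEvenTSInvolution.peel h2 hQ hg hN hinv (by omega)
    obtain ⟨a, c, hac⟩ := OrthEvenTSInvolution.exists_two_squares h2 (Q v)⁻¹
    set u := a • v + c • (ogVal g *ᵥ v) with hu
    have hu1 : Q u = 1 := by
      rw [hu, QuadraticMap.map_add (⇑Q), QuadraticMap.map_smul, QuadraticMap.map_smul, ogVal_quad,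
        QuadraticMap.polar_smul_left, QuadraticMap.polar_smul_right, hvw]
      simp only [smul_eq_mul]
      have := mul_inv_cancel₀ hv0
      linear_combination (Q v) * hac + this
    obtain ⟨w, hw, hww⟩ := ih N' hN' (fun x hx => (hprop x hx).1) (by omega)
    have hperp : ∀ x ∈ N', B u x = 0 ∧ B u (ogVal g *ᵥ x) = 0 := fun x hx => by
      have key : ∀ z ∈ N', B u z = 0 := fun z hz => by
        obtain ⟨-, h1, h3⟩ := hprop z hz
        rw [hu, QuadraticMap.polar_add_left, QuadraticMap.polar_smul_left, QuadraticMap.polar_smul_left, h1, h3,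
          smul_zero, smul_zero, add_zero]
      exact ⟨key x hx, key _ (hprop x hx).1⟩
    have hmem : ∀ i, (Fin.cons u w : Fin (k + 1) → ι → F) i ∈ N ∧ Q ((Fin.cons u w : Fin (k + 1) → ι → F) i) = 1 :=
      fun i => by
        cases i using Fin.cases with
        | zero =>
          rw [Fin.cons_zero]
          exact ⟨hu ▸ N.add_mem (N.smul_mem a hv) (N.smul_mem c (hinv v hv)), hu1⟩
        | succ i => rw [Fin.cons_succ]; exact ⟨hle (hw i).1, (hw i).2⟩
    refine ⟨Fin.cons u w, hmem, fun i l => ?_⟩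
    cases i using Fin.cases with
    | zero =>
      cases l using Fin.cases with
      | zero =>
        rw [Fin.cons_zero]
        exact ⟨polar_self_sq h2 hg u, fun h => absurd rfl h⟩
      | succ l =>
        simp only [Fin.cons_zero, Fin.cons_succ]
        exact ⟨(hperp _ (hw l).1).2, fun _ => (hperp _ (hw l).1).1⟩
    | succ i =>
      cases l using Fin.cases with
      | zero =>
        simp only [Fin.cons_zero, Fin.cons_succ]
        refine ⟨?_, fun _ => ?_⟩
        · rw [QuadraticMap.polar_comm, skew_of_sq hg, (hperp _ (hw i).1).2, neg_zero]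
        · rw [QuadraticMap.polar_comm]; exact (hperp _ (hw i).1).1
      | succ l =>
        simp only [Fin.cons_succ, ne_eq, Fin.succ_inj]
        exact hww i l

include h2 hQ in
/-- An orthonormal frame adapted to an isometry squaring to `-1`. -/
theorem exists_frame {g : OG} (hg : ∀ x, ogVal g *ᵥ (ogVal g *ᵥ x) = -x) {d : ℕ} (hι : Fintype.card ι = 2 * d) :
    ∃ b : Basis (Fin d ⊕ Fin d) F (ι → F), (∀ x, Q (b x) = 1) ∧ (∀ x y, x ≠ y → B (b x) (b y) = 0) ∧
      ∀ i, ogVal g *ᵥ b (Sum.inl i) = b (Sum.inr i) := by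
  obtain ⟨v, hv, horth⟩ := frame_aux h2 hQ hg d ⊤ (OrthAut.nondeg_top hQ) (fun x _ => Submodule.mem_top)
    (by rw [finrank_top, Module.finrank_pi, hι])
  let w : Fin d ⊕ Fin d → (ι → F) := Sum.elim v fun i => ogVal g *ᵥ v i
  have hQw : ∀ x, Q (w x) = 1 := fun x => by
    rcases x with i | i
    · exact (hv i).2
    · exact (ogVal_quad g _).trans (hv i).2
  have hw : ∀ x y, x ≠ y → B (w x) (w y) = 0 := fun x y hxy => by
    rcases x with i | i <;> rcases y with l | l
    · exact (horth i l).2 fun e => hxy (by rw [e])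
    · exact (horth i l).1
    · show B (ogVal g *ᵥ v i) (v l) = 0
      rw [QuadraticMap.polar_comm]; exact (horth l i).1
    · show B (ogVal g *ᵥ v i) (ogVal g *ᵥ v l) = 0
      rw [OrthComplexStructure.polar_apply]; exact (horth i l).2 fun e => hxy (by rw [e])
  have hli : LinearIndependent F w := linearIndependent_of_orth w (fun x => QuadraticMap.polarBilin Q (w x))
    (fun x y hxy => hw x y hxy) fun x => by
    show B (w x) (w x) ≠ 0
    rw [polar_self2, hQw, mul_one]; exact h2
  have hc : Fintype.card (Fin d ⊕ Fin d) = finrank F (ι → F) := by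
    rw [Module.finrank_pi, hι, Fintype.card_sum, Fintype.card_fin, two_mul]
  refine ⟨basisOfLinearIndependentOfCardEqFinrank' w hli hc, ?_⟩
  simp only [coe_basisOfLinearIndependentOfCardEqFinrank']
  exact ⟨hQw, hw, fun i => rfl⟩

include h2 hQ in
theorem conj_sq {x y : OG} (hx : ∀ v, ogVal x *ᵥ (ogVal x *ᵥ v) = -v)
    (hy : ∀ v, ogVal y *ᵥ (ogVal y *ᵥ v) = -v) {d : ℕ} (hι : Fintype.card ι = 2 * d) :
    ∃ h : OG, h * x * h⁻¹ = y := by
  obtain ⟨b, hb1, hb2, hb3⟩ := exists_frame h2 hQ hx hι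
  obtain ⟨c, hc1, hc2, hc3⟩ := exists_frame h2 hQ hy hι
  let L := b.equiv c (Equiv.refl _)
  have hLb : ∀ z, L (b z) = c z := fun z => by simp [L]
  have hL : ∀ v, Q (L v) = Q v := by
    have e : Q.comp (L : (ι → F) →ₗ[F] (ι → F)) = Q := by
      refine quad_ext_basis b (fun z => ?_) fun z z' => ?_
      · simp [hLb, hb1, hc1]
      · simp only [QuadraticMap.polar, QuadraticMap.comp_apply, LinearEquiv.coe_coe, map_add, hLb]
        by_cases hzz : z = z'
        · subst hzz
          have e1 := polar_self2 (Q := Q) (c z)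
          have e2 := polar_self2 (Q := Q) (b z)
          simp only [QuadraticMap.polar, hb1, hc1] at e1 e2 ⊢
          rw [e1, e2]
        · have e1 := hc2 z z' hzz
          have e2 := hb2 z z' hzz
          simp only [QuadraticMap.polar] at e1 e2
          rw [e1, e2]
    exact fun v => congrArg (fun q : QuadraticForm F (ι → F) => q v) e
  let h : OG := ⟨ofEquiv (LinearEquiv.refl F (ι → F)) L, ofEquiv_mem (S := Q) _ (fun u => rfl) hL⟩
  have happ : ∀ v, ogVal h *ᵥ v = L v := fun v => ofEquiv_apply (LinearEquiv.refl F (ι → F)) L v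
  refine ⟨h, mul_inv_eq_iff_eq_mul.2 (ogVal_ext (Matrix.ext_iff_mulVec.2 fun v => ?_))⟩
  rw [ogVal_mul, ogVal_mul, ← Matrix.mulVec_mulVec, ← Matrix.mulVec_mulVec, happ, happ]
  have e : (L : (ι → F) →ₗ[F] (ι → F)) ∘ₗ Matrix.toLin' (ogVal x) =
      Matrix.toLin' (ogVal y) ∘ₗ (L : (ι → F) →ₗ[F] (ι → F)) := b.ext fun z => by
    simp only [LinearMap.comp_apply, Matrix.toLin'_apply, LinearEquiv.coe_coe, hLb]
    rcases z with i | i
    · rw [hb3, hLb, hc3]
    · rw [← hb3 i, hx, map_neg, hLb, ← hc3 i, hy]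
  simpa using LinearMap.congr_fun e v

include h2 hQ in
/-- Commuting elements of determinant one with non-square spinor norm. -/
theorem exists_comm_spin {x : OG} (hx : ∀ v, ogVal x *ᵥ (ogVal x *ᵥ v) = -v) {d : ℕ}
    (hι : Fintype.card ι = 2 * d) (hd : 1 ≤ d) :
    ∃ c : OG, c * x = x * c ∧ dick c = 1 ∧ spin c = -1 := by
  obtain ⟨b, hb1, hb2, hb3⟩ := exists_frame h2 hQ hx hι
  set v := b (Sum.inl ⟨0, hd⟩)
  obtain ⟨ε, hε⟩ := FiniteField.exists_nonsquare (F := F) fun hc => h2 (by
    haveI := ringChar.of_eq hc; exact CharTwo.two_eq_zero)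
  obtain ⟨a, c, hac⟩ := OrthEvenTSInvolution.exists_two_squares h2 ε
  set u := a • v + c • (ogVal x *ᵥ v) with hu
  have hv : Q v = 1 := hb1 _
  have hvw : B v (ogVal x *ᵥ v) = 0 := polar_self_sq h2 hx v
  have hQu : Q u = ε := by
    rw [hu, QuadraticMap.map_add (⇑Q), QuadraticMap.map_smul, QuadraticMap.map_smul, ogVal_quad,
      QuadraticMap.polar_smul_left, QuadraticMap.polar_smul_right, hvw, hv]
    simp only [smul_eq_mul]
    linear_combination hac
  have hv0 : Q v ≠ 0 := by rw [hv]; exact one_ne_zero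
  have hu0 : Q u ≠ 0 := hQu ▸ fun e => hε (e ▸ IsSquare.zero)
  have hxv0 : Q (ogVal x *ᵥ v) ≠ 0 := by rwa [ogVal_quad]
  have hxu0 : Q (ogVal x *ᵥ u) ≠ 0 := by rwa [ogVal_quad]
  have hpair : ∀ (w : ι → F) (hw : Q w ≠ 0) (hxw : Q (ogVal x *ᵥ w) ≠ 0) (z : ι → F),
      ogVal (OrthAut.refl hxw * OrthAut.refl hw) *ᵥ z =
        z - ((Q w)⁻¹ * B w z) • w - ((Q w)⁻¹ * B (ogVal x *ᵥ w) z) • (ogVal x *ᵥ w) := fun w hw hxw z => by
    rw [ogVal_mul, ← Matrix.mulVec_mulVec, refl_apply, refl_apply, ogVal_quad, QuadraticMap.polar_sub_right,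
      QuadraticMap.polar_smul_right, QuadraticMap.polar_comm _ (ogVal x *ᵥ w) w, polar_self_sq h2 hx w, smul_zero,
      sub_zero]
  have hxu : ogVal x *ᵥ u = a • (ogVal x *ᵥ v) + (-c) • v := by
    rw [hu, Matrix.mulVec_add, Matrix.mulVec_smul, Matrix.mulVec_smul, hx]
    module
  have heq : OrthAut.refl hxu0 * OrthAut.refl hu0 = OrthAut.refl hxv0 * OrthAut.refl hv0 :=
    ogVal_ext (Matrix.ext_iff_mulVec.2 fun z => by
      rw [hpair, hpair, hQu, hv, hxu, hu]
      simp only [QuadraticMap.polar_add_left, QuadraticMap.polar_smul_left, smul_eq_mul, inv_one, one_mul]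
      have hε0 : ε ≠ 0 := fun e => hε (e ▸ IsSquare.zero)
      match_scalars
      · ring
      · field_simp
        linear_combination (-(B v z)) * hac
      · field_simp
        linear_combination (-(B (ogVal x *ᵥ v) z)) * hac)
  have hcomm : OrthAut.refl hxv0 * OrthAut.refl hxu0 = OrthAut.refl hv0 * OrthAut.refl hu0 := by
    have h := congrArg (fun g => OrthAut.refl hxv0 * g * OrthAut.refl hu0) heq
    simp only [mul_assoc, refl_mul_self, mul_one] at h
    rw [← mul_assoc (OrthAut.refl hxv0) (OrthAut.refl hxv0), refl_mul_self, one_mul] at h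
    exact h
  refine ⟨OrthAut.refl hv0 * OrthAut.refl hu0, ?_, ?_, ?_⟩
  · conv_rhs => rw [show x * (OrthAut.refl hv0 * OrthAut.refl hu0) =
      (x * OrthAut.refl hv0 * x⁻¹) * (x * OrthAut.refl hu0 * x⁻¹) * x by group]
    rw [refl_conj x hv0 hxv0, refl_conj x hu0 hxu0, hcomm]
  · rw [dick_refl_mul hQ, dick_refl hQ, neg_neg]
  · rw [spin_mul hQ, spin_refl hQ, spin_refl hQ, hv, hQu, sqSign_of_isSquare IsSquare.one, sqSign_of_not hε,
      one_mul]

variable [Fintype E] {j : E} {δ : F} {re : E →ₗ[F] F} (hR : Quad j δ re)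

/-- The semilinear map `u ↦ (λ_l u_l^q)`. -/
noncomputable def semi {κ : Type} (lam : κ → E) (hl : ∀ l, lam l * lam l ^ Fintype.card F = -1) :
    (κ → E) ≃ₗ[F] (κ → E) :=
  let T0 : (κ → E) →ₗ[F] (κ → E) :=
    { toFun := fun u l => lam l * u l ^ Fintype.card F
      map_add' := fun u v => funext fun l => by
        show lam l * (u l + v l) ^ Fintype.card F = lam l * u l ^ Fintype.card F + lam l * v l ^ Fintype.card F
        rw [add_pow_q (card_E hR), mul_add]
      map_smul' := fun s u => funext fun l => by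
        show lam l * (s • u l) ^ Fintype.card F = s • (lam l * u l ^ Fintype.card F)
        rw [Algebra.smul_def, Algebra.smul_def, mul_pow, frob_base hR, mul_left_comm] }
  have hT : ∀ u, T0 (T0 u) = -u := fun u => funext fun l => by
    show lam l * (lam l * u l ^ Fintype.card F) ^ Fintype.card F = -u l
    rw [mul_pow, ← pow_mul (u l), ← sq, ← card_E hR, FiniteField.pow_card, ← mul_assoc, hl, neg_one_mul]
  LinearEquiv.ofBijective T0 ⟨fun u v h => by simpa [hT] using congrArg T0 h,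
    fun u => ⟨-T0 u, by rw [map_neg, hT, neg_neg]⟩⟩

theorem semi_apply {κ : Type} (lam : κ → E) (hl : ∀ l, lam l * lam l ^ Fintype.card F = -1) (u : κ → E) (l : κ) :
    semi hR lam hl u l = lam l * u l ^ Fintype.card F := rfl

theorem qd_semi {κ : Type} [Fintype κ] (lam : κ → E) (hl : ∀ l, lam l * lam l ^ Fintype.card F = -1) {a : κ → E}
    (ha : ∀ l, a l * (lam l * lam l) = a l ^ Fintype.card F) (u : κ → E) :
    qd re a (semi hR lam hl u) = qd re a u := by
  rw [qd_apply, qd_apply, map_sum, map_sum]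
  refine Finset.sum_congr rfl fun l _ => ?_
  rw [semi_apply, ← re_frob hR (a l * u l * u l)]
  congr 1
  rw [mul_pow, mul_pow, ← ha]
  ring

theorem semi_sq {κ : Type} (lam : κ → E) (hl : ∀ l, lam l * lam l ^ Fintype.card F = -1) (u : κ → E) :
    semi hR lam hl (semi hR lam hl u) = -u := funext fun l => by
  rw [semi_apply, semi_apply, mul_pow, ← pow_mul (u l), ← sq, ← card_E hR, FiniteField.pow_card, ← mul_assoc, hl,
    neg_one_mul]
  rfl

theorem semi_smul {κ : Type} (lam : κ → E) (hl : ∀ l, lam l * lam l ^ Fintype.card F = -1) (c : E) (u : κ → E) :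
    semi hR lam hl (c • u) = (c ^ Fintype.card F) • semi hR lam hl u := funext fun l => by
  rw [semi_apply, Pi.smul_apply, Pi.smul_apply, semi_apply, smul_eq_mul, smul_eq_mul, mul_pow]
  ring

variable {K : Subalgebra F (Matrix ι ι F)} (hK : Geo.IsFieldSubalgebra 2 K)
  (hdesc : ∀ A, A ∈ K ↔ ∃ a : E, ∀ x : ι → F, A *ᵥ x = a • x)
  (hsa : ∀ (e : E) (x y : ι → F), QuadraticMap.polar (⇑Q) (e • x) y = QuadraticMap.polar (⇑Q) x (e • y)) {d : ℕ} (hι : Fintype.card ι = 2 * d) (hd : 2 ≤ d)

include hR hQ hK hdesc hsa hι hd in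
set_option maxHeartbeats 1000000 in
/-- The complex structure case. -/
theorem sq_neg_conj {x : OG} (hΩ : x ∈ Omega F ⇑Q) (hx : ∀ v, ogVal x *ᵥ (ogVal x *ᵥ v) = -v) :
    ∃ g ∈ Omega F ⇑Q, ((g⁻¹ * x * g : OG) : GL ι F) ∈ Geo.subalgebraNormalizer K := by
  classical
  have h2 := hR.two
  have hG := genQ_odd (ι := ι) hQ h2
  obtain ⟨n, rfl⟩ : ∃ n, d = n + 1 := ⟨d - 1, by omega⟩
  haveI : Module.Finite E (ι → F) := Module.Finite.of_restrictScalars_finite F E _
  haveI : Module.Finite F E := Module.finite_of_finrank_pos (by rw [hR.dim]; exact two_pos)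
  obtain ⟨ν, hν0, hν⟩ := exists_nonsquare_E hR
  set q := Fintype.card F with hqdef
  set lam := ν ^ (q / 2) with hlam
  have hq1 := odd_card hR
  have hl : lam * lam ^ q = -1 := by
    rw [hlam, ← pow_mul, ← pow_add]
    have hc : ringChar E ≠ 2 := fun hc => two_E hR (by
      haveI := ringChar.of_eq hc; exact CharTwo.two_eq_zero)
    have h1 : ν ^ (Fintype.card E / 2) = -1 :=
      (FiniteField.pow_dichotomy hc hν0).resolve_left fun h => hν ((FiniteField.isSquare_iff hc hν0).2 h)
    rw [← h1, card_E hR]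
    congr 1
    obtain ⟨k, hk⟩ : ∃ k, q = 2 * k + 1 := ⟨q / 2, by omega⟩
    rw [← hqdef, hk, show (2 * k + 1) / 2 = k by omega,
      show (2 * k + 1) ^ 2 = 2 * (2 * k * k + 2 * k) + 1 by ring]
    rw [show (2 * (2 * k * k + 2 * k) + 1) / 2 = 2 * k * k + 2 * k by omega]
    ring
  have ha : ν * (lam * lam) = ν ^ q := by
    rw [hlam, ← pow_add, ← pow_succ']
    congr 1
    omega
  have hl' : ∀ l : Fin (n + 1), (fun _ => lam) l * (fun _ : Fin (n + 1) => lam) l ^ q = -1 := fun _ => hl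
  set a : Fin (n + 1) → E := fun _ => ν
  set T := semi hR (fun _ : Fin (n + 1) => lam) hl'
  have hTq : ∀ u, qd re a (T u) = qd re a u := qd_semi hR _ hl' fun _ => ha
  -- the type of the model
  have hdimm : finrank F (Fin (n + 1) → E) = finrank F (ι → F) := by
    rw [finrank_pi_eq hR, Module.finrank_pi, hι, Fintype.card_fin]
  let e := LinearEquiv.ofFinrankEq _ _ hdimm
  set Q' := (qd re a).comp e.symm.toLinearMap
  have hQ' : (QuadraticMap.polarBilin Q').Nondegenerate :=
    nondegenerate_of_separatingLeft _ fun u hu => e.symm.map_eq_zero_iff.1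
      ((nondeg_qd hR (a := a) fun _ => hν0).1 _ fun z => by
        have h := hu (e z)
        simp only [Q', QuadraticMap.polarBilin_apply_apply, QuadraticMap.polar, QuadraticMap.comp_apply,
          LinearEquiv.coe_coe, map_add, e.symm_apply_apply] at h ⊢
        exact h)
  have hQe : ∀ u, Q' (e u) = qd re a u := fun u => by
    show qd re a (e.symm (e u)) = _
    rw [e.symm_apply_apply]
  let g' : isometryGroup F ⇑Q' := ⟨ofEquiv e T, ofEquiv_mem e hQe hTq⟩
  have hg' : ∀ v, ogVal g' *ᵥ (ogVal g' *ᵥ v) = -v := fun v => by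
    obtain ⟨u, rfl⟩ := e.surjective v
    show (ofEquiv e T : Matrix ι ι F) *ᵥ ((ofEquiv e T : Matrix ι ι F) *ᵥ e u) = -e u
    rw [ofEquiv_apply, ofEquiv_apply, semi_sq, map_neg]
  have htype : EvenType.Plus (qd re a) ↔ EvenType.Plus Q := by
    rw [(OrthComplexStructure.of_sq_neg_one h2 hQ hx hι).2, ← (OrthComplexStructure.of_sq_neg_one h2 hQ' hg' hι).2]
    exact ⟨fun hp => hp.map e hQe, fun hp => hp.map e.symm fun v => rfl⟩
  obtain ⟨ψ, hψS, hψn, hψ⟩ := exists_form hR hQ hsa
  obtain ⟨Φ, -, hΦ⟩ := exists_coords hR Q ψ hψS hψn hψ (Fintype.card_fin (n + 1)) (finrank_space hR hι)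
    (fun _ => hν0) htype
  set Φ' := Φ.restrictScalars F
  have hΦ' : ∀ u, Q (Φ' u) = qd re a u := hΦ
  let y : OG := ⟨ofEquiv Φ' T, ofEquiv_mem Φ' hΦ' hTq⟩
  have hy : ∀ v, ogVal y *ᵥ (ogVal y *ᵥ v) = -v := fun v => by
    obtain ⟨u, rfl⟩ := Φ'.surjective v
    show (ofEquiv Φ' T : Matrix ι ι F) *ᵥ ((ofEquiv Φ' T : Matrix ι ι F) *ᵥ Φ' u) = -Φ' u
    rw [ofEquiv_apply, ofEquiv_apply, semi_sq, map_neg]
  -- a reflection turning `y` into its partner
  obtain ⟨w, hw⟩ : ∃ w : E, re (ν * w * w) ≠ 0 := by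
    by_cases h0 : re ν = 0
    · obtain ⟨s, t, hst⟩ := hR.span ν
      rw [hst, hR.re_apply] at h0
      rw [h0, map_zero, zero_add] at hst
      refine ⟨1 + j, ?_⟩
      have e1 : ν * (1 + j) * (1 + j) = algebraMap F E (2 * t * δ) + algebraMap F E (t * (1 + δ)) * j := by
        rw [hst]
        simp only [map_mul, map_add, map_one, map_ofNat]
        linear_combination (algebraMap F E t * (2 + j)) * hR.sq
      rw [e1, hR.re_apply]
      refine mul_ne_zero (mul_ne_zero h2 fun ht => hν0 ?_) (δ_ne hR)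
      rw [hst, ht, map_zero, zero_mul]
    · exact ⟨1, by simpa using h0⟩
  let k₀ : Fin (n + 1) := 0
  let v₀ := Φ' (Pi.single k₀ w)
  have hqv : Q v₀ = re (ν * w * w) := by
    rw [hΦ', qd_apply, Finset.sum_eq_single k₀ (fun l _ hl => by rw [Pi.single_eq_of_ne hl, mul_zero])
      (fun h => absurd (Finset.mem_univ _) h), Pi.single_eq_same]
  have hv₀ : Q v₀ ≠ 0 := hqv ▸ hw
  set r := OrthAut.refl hv₀
  set C : E → F := fun z => (re (ν * w * w))⁻¹ * (2 * re (ν * w * z))
  set rr : E → E := fun z => z - C z • w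
  have hr : ∀ u, ogVal r *ᵥ Φ' u = Φ' (Function.update u k₀ (rr (u k₀))) := fun u => by
    have hpol : B v₀ (Φ' u) = 2 * re (ν * w * u k₀) := by
      show QuadraticMap.polar (⇑Q) (Φ' (Pi.single k₀ w)) (Φ' u) = _
      rw [show QuadraticMap.polar (⇑Q) (Φ' (Pi.single k₀ w)) (Φ' u) =
        QuadraticMap.polar (⇑(qd re a)) (Pi.single k₀ w) u by simp only [QuadraticMap.polar, ← map_add, hΦ'],
        polar_qd, Finset.sum_eq_single k₀ (fun l _ hl => by rw [Pi.single_eq_of_ne hl, mul_zero, zero_mul])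
          (fun h => absurd (Finset.mem_univ _) h), Pi.single_eq_same]
    rw [refl_apply, hpol, hqv, ← map_smul, ← map_sub]
    congr 1
    funext l
    by_cases hlk : l = k₀
    · subst hlk; simp [rr, C]
    · simp [hlk, Pi.single_eq_of_ne hlk]
  set τ : E → E := fun z => lam * z ^ q
  have hττ : ∀ z, τ (τ z) = -z := fun z => by
    show lam * (lam * z ^ q) ^ q = -z
    rw [mul_pow, ← pow_mul z, ← sq, hqdef, ← card_E hR, FiniteField.pow_card, ← hqdef, ← mul_assoc, hl, neg_one_mul]
  have hτs : ∀ (s : F) z, τ (s • z) = s • τ z := fun s z => by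
    show lam * (s • z) ^ q = s • (lam * z ^ q)
    rw [Algebra.smul_def, Algebra.smul_def, mul_pow, hqdef, frob_base hR, mul_left_comm]
  have hτa : ∀ z z', τ (z + z') = τ z + τ z' := fun z z' => by
    show lam * (z + z') ^ q = _
    rw [hqdef, add_pow_q (card_E hR), mul_add]
  have hτre : ∀ z z', re (ν * τ z * τ z') = re (ν * z * z') := fun z z' => by
    rw [← re_frob hR (ν * z * z')]
    congr 1
    show ν * (lam * z ^ q) * (lam * z' ^ q) = _
    rw [← hqdef, mul_pow, mul_pow, ← ha]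
    ring
  have horth : re (ν * w * τ w) = 0 := by
    have h1 := hτre w (τ w)
    rw [hττ, mul_neg, map_neg, mul_right_comm ν (τ w) w] at h1
    exact (mul_eq_zero.1 (show (2 : F) * re (ν * w * τ w) = 0 by linear_combination -h1)).resolve_left h2
  have hwne : w ≠ 0 := fun e => hw (by simp [e])
  have hli : LinearIndependent F ![w, τ w] := by
    refine LinearIndependent.pair_iff.2 fun s t hst => ?_
    have h1 := congrArg (fun z => re (ν * w * z)) hst
    simp only [mul_add, mul_smul_comm, map_add, map_smul, smul_eq_mul, horth, mul_zero, add_zero, map_zero] at h1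
    obtain rfl := (mul_eq_zero.1 h1).resolve_right hw
    rw [zero_smul, zero_add, smul_eq_zero] at hst
    refine ⟨rfl, hst.resolve_right fun e => hwne ?_⟩
    have := hττ w
    rw [e] at this
    simpa [τ, zero_pow (show q ≠ 0 by omega)] using this.symm
  have hrr : ∀ z, rr (τ (rr z)) = -τ z := fun z => by
    let bw := basisOfLinearIndependentOfCardEqFinrank hli (by rw [Fintype.card_fin, hR.dim])
    have hz : z = bw.repr z 0 • w + bw.repr z 1 • τ w := by
      conv_lhs => rw [← bw.sum_repr z, Fin.sum_univ_two]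
      simp [bw]
    have hC : ∀ s t : F, C (s • w + t • τ w) = 2 * s := fun s t => by
      show (re (ν * w * w))⁻¹ * (2 * re (ν * w * (s • w + t • τ w))) = _
      simp only [mul_add, mul_smul_comm, map_add, map_smul, smul_eq_mul, horth, mul_zero, add_zero]
      generalize re (ν * w * w) = m at hw ⊢
      field_simp
    rw [hz]
    generalize bw.repr z 0 = s, bw.repr z 1 = t
    have e1 : rr (s • w + t • τ w) = (-s) • w + t • τ w := by
      show _ - C _ • w = _
      rw [hC]; module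
    rw [e1, hτa, hτs, hτs, hττ, hτa, hτs, hτs, hττ]
    show (-s) • τ w + t • -w - C ((-s) • τ w + t • -w) • w = -(s • τ w + t • -w)
    rw [show (-s) • τ w + t • -w = (-t) • w + (-s) • τ w by module, hC]
    module
  let lam' : Fin (n + 1) → E := fun l => if l = k₀ then -lam else lam
  have hl'' : ∀ l, lam' l * lam' l ^ q = -1 := fun l => by
    simp only [lam']
    split_ifs
    · rw [(Nat.odd_iff.2 hq1).neg_pow, neg_mul_neg, hl]
    · exact hl
  have hy' : ((r * y * r : OG) : GL ι F) = ofEquiv Φ' (semi hR lam' hl'') := by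
    refine Units.ext (Matrix.ext_iff_mulVec.2 fun v => ?_)
    obtain ⟨u, rfl⟩ := Φ'.surjective v
    show ogVal (r * y * r) *ᵥ Φ' u = _
    rw [ofEquiv_apply, ogVal_mul, ogVal_mul, ← Matrix.mulVec_mulVec, ← Matrix.mulVec_mulVec, hr,
      show ∀ z, ogVal y *ᵥ Φ' z = Φ' (T z) from fun z => ofEquiv_apply Φ' T z, hr]
    congr 1
    funext l
    rw [semi_apply]
    by_cases hlk : l = k₀
    · subst hlk
      rw [Function.update_self, semi_apply, Function.update_self]
      show rr (τ (rr (u k₀))) = _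
      rw [hrr]
      simp [lam', τ, q]
    · rw [Function.update_of_ne hlk, semi_apply, Function.update_of_ne hlk]
      simp [lam', hlk, semi_apply, q]
  have hyN : (y : GL ι F) ∈ Geo.subalgebraNormalizer K :=
    ofEquiv_normalizer hK two_pos hdesc Φ T _ (semi_smul hR _ hl')
  have hy'N : ((r * y * r : OG) : GL ι F) ∈ Geo.subalgebraNormalizer K :=
    hy' ▸ ofEquiv_normalizer hK two_pos hdesc Φ _ _ (semi_smul hR _ hl'')
  obtain ⟨h, hh⟩ := conj_sq h2 hQ hx hy hι
  obtain ⟨h', z, hh', hdick, hzN⟩ : ∃ (h' z : OG), h' * x * h'⁻¹ = z ∧ dick h' = 1 ∧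
      (z : GL ι F) ∈ Geo.subalgebraNormalizer K := by
    rcases Int.units_eq_one_or (dick h) with hdk | hdk
    · exact ⟨h, y, hh, hdk, hyN⟩
    · refine ⟨r * h, r * y * r, ?_, by rw [dick_refl_mul hQ, hdk, neg_neg], hy'N⟩
      rw [_root_.mul_inv_rev, show r⁻¹ = r from inv_eq_of_mul_eq_one_right (refl_mul_self hv₀), ← hh]
      group
  obtain ⟨c, hc, hcd, hcs⟩ := exists_comm_spin h2 hQ hx hι (by omega)
  obtain ⟨g, hg, hgx⟩ : ∃ g ∈ Omega F ⇑Q, g * x * g⁻¹ = z := by
    rcases Int.units_eq_one_or (spin h') with hs | hs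
    · exact ⟨h', (mem_omega_gen hQ hG _).2 ⟨hdick, hs⟩, hh'⟩
    · refine ⟨h' * c, (mem_omega_gen hQ hG _).2 ⟨by rw [dick_mul_gen hQ hG, hdick, hcd, one_mul],
        by rw [spin_mul hQ, hs, hcs]; rfl⟩, ?_⟩
      rw [← hh', _root_.mul_inv_rev, show h' * c * x * (c⁻¹ * h'⁻¹) = h' * (c * x * c⁻¹) * h'⁻¹ by group, hc,
        mul_inv_cancel_right]
  exact ⟨g⁻¹, inv_mem hg, by rw [inv_inv, hgx]; exact hzN⟩

include hR hQ hK hdesc hsa hι hd in
set_option maxHeartbeats 1000000 in
/-- The involution case. -/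
theorem invol_conj {x : OG} (hΩ : x ∈ Omega F ⇑Q) (hx : x * x = 1) (h1 : x ≠ 1)
    (hm : ¬ ∀ v, ogVal x *ᵥ v = -v) :
    ∃ g ∈ Omega F ⇑Q, ((g⁻¹ * x * g : OG) : GL ι F) ∈ Geo.subalgebraNormalizer K := by
  classical
  have h2 := hR.two
  have hG := genQ_odd (ι := ι) hQ h2
  haveI : Module.Finite E (ι → F) := Module.Finite.of_restrictScalars_finite F E _
  haveI : Module.Finite F E := Module.finite_of_finrank_pos (by rw [hR.dim]; exact Nat.two_pos)
  set U := InvolutionSingular.negSub x with hUdef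
  have heig : U = OrthAut.eig (x : GL ι F) (-1) := by
    ext v
    rw [hUdef, InvolutionSingular.mem_negSub, OrthAut.mem_eig, neg_one_smul]
    rfl
  have heven : Even (finrank F U) := by
    have h3 := det_omega hΩ
    rw [show ogVal x = ((x : GL ι F) : Matrix ι ι F) from rfl,
      OrthAut.det_eq_eig (g := (x : GL ι F)) (show ogVal x * ogVal x = 1 by rw [← ogVal_mul, hx, ogVal_one]) h2,
      ← heig] at h3
    exact neg_one_pow_eq_one_iff_even (fun e => h2 (by linear_combination -e)) |>.1 h3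
  obtain ⟨s, hs⟩ := heven
  have hs1 : 1 ≤ s := by
    by_contra h
    exact h1 (InvolutionSingular.eq_one_of_negSub h2 hx (by rw [← hUdef]; omega))
  have hs2 : s < d := by
    have hle := Submodule.finrank_le U
    rw [Module.finrank_pi, hι, hs] at hle
    by_contra h
    have htop : U = ⊤ := Submodule.eq_top_of_finrank_eq (by rw [Module.finrank_pi, hι]; omega)
    exact hm fun v => InvolutionSingular.mem_negSub.1 (htop ▸ Submodule.mem_top : v ∈ U)
  have hUn : NonSing Q U := InvolutionSingular.nondeg_negSub h2 hQ hx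
  obtain ⟨al, hal, hbl⟩ := exists_choice hR (κ := Fin s) (by simpa using hs1)
    (EvenType.Plus (EvenType.res Q U))
  obtain ⟨ar, har, hbr⟩ := exists_choice hR (κ := Fin (d - s)) (by simp; omega)
    (EvenType.Plus (EvenType.res Q U) ↔ EvenType.Plus Q)
  have ha : ∀ l, Sum.elim al ar l ≠ 0 := fun l => by rcases l with l | l; exacts [hal l, har l]
  obtain ⟨ψ, hψS, hψn, hψ⟩ := exists_form hR hQ hsa
  obtain ⟨Φ, -, hΦ⟩ := exists_coords hR Q ψ hψS hψn hψ (κ := Fin s ⊕ Fin (d - s)) (n := d - 1)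
    (by simp; omega) (by rw [finrank_space hR hι]; omega) ha
    (by rw [plus_sum hR (by simpa using hs1) (by simp; omega) hal har, hbl, hbr]; tauto)
  set Φ' := Φ.restrictScalars F
  have hΦ' : ∀ u, Q (Φ' u) = qd re (Sum.elim al ar) u := hΦ
  let c : Fin s ⊕ Fin (d - s) → E := Sum.elim (fun _ => -1) fun _ => 1
  have hcc : ∀ l, c l * c l = 1 := fun l => by rcases l with l | l <;> simp [c]
  let T : (Fin s ⊕ Fin (d - s) → E) ≃ₗ[F] (Fin s ⊕ Fin (d - s) → E) := LinearEquiv.ofInvolutive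
    { toFun := fun u l => c l * u l
      map_add' := fun u v => funext fun l => mul_add _ _ _
      map_smul' := fun t u => funext fun l => by simp [mul_smul_comm] }
    (fun u => funext fun l => by
      show c l * (c l * u l) = u l
      rw [← mul_assoc, hcc, one_mul])
  have hTu : ∀ u l, T u l = c l * u l := fun u l => rfl
  have hTq : ∀ u, qd re (Sum.elim al ar) (T u) = qd re (Sum.elim al ar) u := fun u => by
    rw [qd_apply, qd_apply]
    refine congrArg re (Finset.sum_congr rfl fun l _ => ?_)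
    rw [hTu]
    linear_combination (Sum.elim al ar l * u l * u l) * hcc l
  let y : OG := ⟨ofEquiv Φ' T, ofEquiv_mem Φ' hΦ' hTq⟩
  have hya : ∀ u, ogVal y *ᵥ Φ' u = Φ' (T u) := fun u => ofEquiv_apply Φ' T u
  have hyy : y * y = 1 := ogVal_ext (Matrix.ext_iff_mulVec.2 fun v => by
    obtain ⟨u, rfl⟩ := Φ'.surjective v
    rw [ogVal_mul, ← Matrix.mulVec_mulVec, hya, hya, ogVal_one, Matrix.one_mulVec]
    congr 1
    funext l
    rw [hTu, hTu, ← mul_assoc, hcc, one_mul])
  let L : (Fin s → E) →ₗ[F] (ι → F) := Φ'.toLinearMap ∘ₗ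
    { toFun := fun w => Sum.elim w 0
      map_add' := fun w w' => funext fun l => by rcases l with l | l <;> simp
      map_smul' := fun t w => funext fun l => by rcases l with l | l <;> simp }
  have hLi : Function.Injective L := fun w w' hw => funext fun l => congrFun (Φ'.injective hw) (Sum.inl l)
  have hLy : LinearMap.range L = InvolutionSingular.negSub y := by
    ext v
    obtain ⟨u, rfl⟩ := Φ'.surjective v
    rw [InvolutionSingular.mem_negSub, hya, ← map_neg, Φ'.injective.eq_iff]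
    constructor
    · rintro ⟨w, hw⟩
      obtain rfl : Sum.elim w 0 = u := Φ'.injective hw
      funext l
      rcases l with l | l <;> simp [hTu, c]
    · intro h
      refine ⟨fun l => u (Sum.inl l), congrArg Φ' (funext fun l => ?_)⟩
      rcases l with l | l
      · rfl
      · have h3 := congrFun h (Sum.inr l)
        rw [hTu, Pi.neg_apply] at h3
        simp only [c, Sum.elim_inr, one_mul] at h3
        show (0 : E) = u (Sum.inr l)
        exact ((mul_eq_zero.1 (show (2 : E) * u (Sum.inr l) = 0 by linear_combination h3)).resolve_left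
          (two_E hR)).symm
  obtain ⟨φ, hφ⟩ := EvenType.iso_of_type (nondeg_qd hR hal) (EvenType.nondeg_res hUn) (m := s - 1)
    (by rw [finrank_pi_eq hR, Fintype.card_fin]; omega) (by omega) hbl
  let e : U ≃ₗ[F] InvolutionSingular.negSub y :=
    φ.symm.trans ((LinearEquiv.ofInjective L hLi).trans (LinearEquiv.ofEq _ _ hLy))
  have he : ∀ u : U, Q (e u : ι → F) = Q (u : ι → F) := fun u => by
    obtain ⟨w, rfl⟩ := φ.surjective u
    rw [show (e (φ w) : ι → F) = L w by simp [e], show Q ((φ w : U) : ι → F) = qd re al w from hφ w]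
    show Q (Φ' (Sum.elim w 0)) = _
    rw [hΦ', qd_apply, qd_apply, Fintype.sum_sum_type]
    simp
  obtain ⟨g, hg, hmap⟩ := omega_trans_nondeg hQ hG (by omega) (W := InvolutionSingular.negSub y) (by
    rw [Submodule.eq_bot_iff]
    rintro v ⟨hv, hv'⟩
    by_contra hv0
    obtain ⟨w, hw, hvw⟩ := InvolutionSingular.nondeg_negSub h2 hQ hyy v hv hv0
    exact hvw (by rw [QuadraticMap.polar_comm]; exact hv' w hw)) e he
  refine ⟨g⁻¹, inv_mem hg, ?_⟩
  have hyN : (y : GL ι F) ∈ Geo.subalgebraNormalizer K :=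
    ofEquiv_normalizer hK Nat.two_pos hdesc Φ T id fun a u => funext fun l => by
      rw [hTu, Pi.smul_apply, Pi.smul_apply, hTu, smul_eq_mul, smul_eq_mul, id]; ring
  suffices hgx : g * x * g⁻¹ = y by rw [inv_inv, hgx]; exact hyN
  refine mul_inv_eq_iff_eq_mul.2 (ogVal_ext (Matrix.ext_iff_mulVec.2 fun z => ?_))
  rw [ogVal_mul, ogVal_mul, ← Matrix.mulVec_mulVec, ← Matrix.mulVec_mulVec]
  set zm := (2 : F)⁻¹ • (z - ogVal x *ᵥ z) with hzm
  set zp := z - zm with hzp
  have hzmU : zm ∈ U := InvolutionSingular.mem_negSub.2 (by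
    rw [hzm, Matrix.mulVec_smul, Matrix.mulVec_sub, InvolutionSingular.sq_apply hx, ← smul_neg, neg_sub])
  have hxzp : ogVal x *ᵥ zp = zp := by
    rw [hzp, Matrix.mulVec_sub, InvolutionSingular.mem_negSub.1 hzmU, hzm]
    match_scalars <;> field_simp <;> ring
  have hgm : ogVal g *ᵥ zm ∈ InvolutionSingular.negSub y := hmap ▸ ⟨zm, hzmU, rfl⟩
  have hgp : ogVal y *ᵥ (ogVal g *ᵥ zp) = ogVal g *ᵥ zp := by
    set a := ogVal g *ᵥ zp
    have hperp : ∀ v ∈ InvolutionSingular.negSub y, B v a = 0 := fun v hv => by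
      rw [← hmap] at hv
      obtain ⟨v', hv', rfl⟩ := hv
      show B (ogVal g *ᵥ v') a = 0
      rw [OrthComplexStructure.polar_apply]
      have h3 := OrthComplexStructure.polar_apply x v' zp
      rw [hxzp, InvolutionSingular.mem_negSub.1 hv', QuadraticMap.polar_neg_left] at h3
      exact (mul_eq_zero.1 (show (2 : F) * B v' zp = 0 by linear_combination -h3)).resolve_left h2
    by_contra hne
    have hd' : a - ogVal y *ᵥ a ∈ InvolutionSingular.negSub y := InvolutionSingular.mem_negSub.2 (by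
      rw [Matrix.mulVec_sub, InvolutionSingular.sq_apply hyy, neg_sub])
    obtain ⟨w, hw, hne'⟩ := InvolutionSingular.nondeg_negSub h2 hQ hyy _ hd' (fun e => hne (sub_eq_zero.1 e).symm)
    apply hne'
    have h3 : B (ogVal y *ᵥ a) w = 0 := by
      have h4 := OrthComplexStructure.polar_apply y (ogVal y *ᵥ a) w
      rw [InvolutionSingular.sq_apply hyy, InvolutionSingular.mem_negSub.1 hw, QuadraticMap.polar_neg_right,
        QuadraticMap.polar_comm _ a w, hperp w hw, neg_zero] at h4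
      exact h4.symm
    rw [QuadraticMap.polar_sub_left, QuadraticMap.polar_comm _ a w, hperp w hw, h3, sub_zero]
  conv_lhs => rw [show z = zp + zm by rw [hzp]; abel]
  conv_rhs => rw [show z = zp + zm by rw [hzp]; abel]
  rw [Matrix.mulVec_add, Matrix.mulVec_add, hxzp, InvolutionSingular.mem_negSub.1 hzmU, Matrix.mulVec_add,
    Matrix.mulVec_add, hgp, InvolutionSingular.mem_negSub.1 hgm, Matrix.mulVec_neg]

include hR hQ hK hdesc hsa hι hd in
/-- Elements of order two modulo scalars have conjugates in the normaliser. -/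
theorem two_conj {x : GL ι F} (hx : x ∈ Geo.omegaGL ⇑Q) {z : F}
    (hz : ((x ^ 2 : GL ι F) : Matrix ι ι F) = z • (1 : Matrix ι ι F))
    (hns : ∀ z : F, (x : Matrix ι ι F) ≠ z • (1 : Matrix ι ι F)) :
    ∃ g ∈ Geo.omegaGL ⇑Q, g⁻¹ * x * g ∈ Geo.subalgebraNormalizer K := by
  obtain ⟨g, hg, rfl⟩ := hx
  have key : ∃ k ∈ Omega F ⇑Q, ((k⁻¹ * g * k : OG) : GL ι F) ∈ Geo.subalgebraNormalizer K := by
    rcases OrthEvenTSMain.sq_cases hQ (by omega) g hz with hgg | hgg
    · refine invol_conj hQ hR hK hdesc hsa hι hd hg hgg (fun e => hns 1 ?_) fun h => hns (-1) ?_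
      · rw [e, one_smul]; rfl
      · exact Matrix.ext_iff_mulVec.2 fun v => by
          rw [Matrix.smul_mulVec, Matrix.one_mulVec, neg_one_smul]; exact h v
    · exact sq_neg_conj hQ hR hK hdesc hsa hι hd hg hgg
  obtain ⟨k, hk, hkN⟩ := key
  exact ⟨k, ⟨k, hk, rfl⟩, hkN⟩

end Cfsg.Agent.FieldExtOrth
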