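import Cfsg.Agent.Lib.Classical.MaxSympOverfield

/-!
Symplectic extension-field subgroups are maximal.
-/

set_option autoImplicit false
set_option linter.unusedSectionVars false
set_option maxHeartbeats 1000000

namespace Cfsg.Agent.Classical.SpOver

open Matrix Module MaxTv Overfield

variable {F : Type*} [Field F] {m : ℕ}
variable {E : Type*} [Field E] [Algebra F E] [Module E (Fin m ⊕ Fin m → F)]
variable [IsScalarTower F E (Fin m ⊕ Fin m → F)]
variable {τ : E →ₗ[F] F} {h : (Fin m ⊕ Fin m → F) → (Fin m ⊕ Fin m → F) → E}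
variable {M : Subgroup (GL (Fin m ⊕ Fin m) F)}

local notation "V" => (Fin m ⊕ Fin m → F)
local notation "Mn" => Matrix (Fin m ⊕ Fin m) (Fin m ⊕ Fin m) F
local notation "B" => sympForm m F

/-- A transvection lies in the group. -/
def HasTv (M : Subgroup (GL (Fin m ⊕ Fin m) F)) : Prop :=
  ∃ (v : Fin m ⊕ Fin m → F) (a : F), v ≠ 0 ∧ a ≠ 0 ∧ InT M v (fn (sympForm m F) (a • v))

theorem hasTv_of_in {L : V →ₗ[F] V} (hL : In M L) {v : V} {a : F} (hv : v ≠ 0) (ha : a ≠ 0)
    (h : ∀ x, L x = (a * B x v) • v) : HasTv M := by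
  obtain ⟨g, hg, hgx⟩ := hL
  exact ⟨v, a, hv, ha, g, hg, fun x => by rw [hgx, h, fn_dot sesq_sympForm, sympForm_smul_right]⟩

/-- The shape `x ↦ a (B(x,w) v + B(x,v) w) + b B(x,v) v`. -/
def shape (a b : F) (v w x : Fin m ⊕ Fin m → F) : Fin m ⊕ Fin m → F :=
  a • (sympForm m F x w • v + sympForm m F x v • w) + (b * sympForm m F x v) • v

/-- Maps into a line which kill it, lying in the group. -/
def Line (M : Subgroup (GL (Fin m ⊕ Fin m) F)) (E : Type*) [Field E] [Module E (Fin m ⊕ Fin m → F)]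
    (c : Fin m ⊕ Fin m → F) (L : (Fin m ⊕ Fin m → F) →ₗ[F] (Fin m ⊕ Fin m → F)) : Prop :=
  In M L ∧ (∀ x, L x ∈ (E ∙ c)) ∧ ∀ x ∈ (E ∙ c), L x = 0

theorem Line.sub {c : V} {L L' : V →ₗ[F] V} (h1 : Line M E c L) (h2 : Line M E c L') :
    Line M E c (L - L') :=
  ⟨h1.1.sub h2.1 (fun x => h1.2.2 _ (h2.2.1 x)) (fun x => h2.2.2 _ (h2.2.1 x)),
    fun x => sub_mem (h1.2.1 x) (h2.2.1 x),
    fun x hx => by rw [LinearMap.sub_apply, h1.2.2 x hx, h2.2.2 x hx, sub_zero]⟩

theorem Line.conj_scale (hM : Over M E) {c : V} {L : V →ₗ[F] V} (hL : Line M E c L) {R : GL (Fin m ⊕ Fin m) F}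
    (hR : R ∈ M) {lam : E} (hlam : lam ≠ 0) (hRc : ∀ μ : E, (R : Mn) *ᵥ (μ • c) = (lam * μ) • c) :
    Line M E c (conjL R L) := by
  have hcm : ∀ k : E, k • c ∈ (E ∙ c) :=
    fun k => Submodule.smul_mem _ _ (Submodule.mem_span_singleton_self _)
  refine ⟨hL.1.conj hR, fun x => ?_, fun x hx => ?_⟩
  · obtain ⟨μ, hμ⟩ := Submodule.mem_span_singleton.1 (hL.2.1 (((R⁻¹ : GL _ F) : Mn) *ᵥ x))
    rw [conjL_apply, ← hμ, hRc]
    exact hcm _
  · obtain ⟨μ, rfl⟩ := Submodule.mem_span_singleton.1 hx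
    have h1 : ((R⁻¹ : GL _ F) : Mn) *ᵥ (μ • c) = (lam⁻¹ * μ) • c := gl_mulVec_injective R (by
      show (R : Mn) *ᵥ _ = (R : Mn) *ᵥ _
      rw [mulVec_inv_cancel, hRc, mul_inv_cancel_left₀ hlam])
    rw [conjL_apply, h1, hL.2.2 _ (hcm _), Matrix.mulVec_zero]

theorem shape_map (hM : Over M E) {R : GL (Fin m ⊕ Fin m) F} (hR : R ∈ M) (a b : F) (v w x : V) :
    (R : Mn) *ᵥ shape a b v w (((R⁻¹ : GL (Fin m ⊕ Fin m) F) : Mn) *ᵥ x) =
      shape a b ((R : Mn) *ᵥ v) ((R : Mn) *ᵥ w) x := by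
  simp only [shape, Matrix.mulVec_add, Matrix.mulVec_smul, hM.isom_inv hR]

theorem exists_line [Finite F] (hM : Over M E) (D : Frm τ h) (P : SPair M E h) :
    ∃ ε : E, ε ≠ 0 ∧ ε • P.c = (P.g : Mn) *ᵥ (P.i₀ • P.b) ∧
      τ (ε * h ((P.g : Mn) *ᵥ (P.k₁ • P.b)) P.c) = 0 ∧
      ∀ (a : F) (ω lam : E), lam ≠ 0 → ∃ L, Line M E P.c L ∧ ∀ x, L x = shape a
        (a * a * τ (ω * h ((P.g : Mn) *ᵥ (P.k₁ • P.b)) P.c)) ((lam * ε) • P.c) ((lam * ω) • P.c) x := by
  set g := P.g
  set gi := ((g⁻¹ : GL (Fin m ⊕ Fin m) F) : Mn) with hgi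
  set c := P.c
  set b := P.b
  set e₀ := (g : Mn) *ᵥ (P.i₀ • b) with he₀
  set ψ := h ((g : Mn) *ᵥ (P.k₁ • b)) c with hψ
  have hcm : ∀ k : E, k • c ∈ (E ∙ c) :=
    fun k => Submodule.smul_mem _ _ (Submodule.mem_span_singleton_self _)
  obtain ⟨ε, hε⟩ := Submodule.mem_span_singleton.1 P.hi₀
  have he₀0 : e₀ ≠ 0 := fun e => P.hi₀0 (by
    have := gl_mulVec_injective g (e.trans (Matrix.mulVec_zero _).symm)
    exact (smul_eq_zero.1 this).resolve_right P.hb)
  have hε0 : ε ≠ 0 := fun e => he₀0 (by rw [← he₀] at hε; rw [← hε, e, zero_smul])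
  choose α hα using P.split
  obtain ⟨μ₀, hμ₀⟩ : ∃ μ : E, τ (μ * ψ) = 1 := by
    obtain ⟨s, hs⟩ := D.ne
    refine ⟨(τ s)⁻¹ • (s * ψ⁻¹), ?_⟩
    rw [smul_mul_assoc, mul_assoc, inv_mul_cancel₀ P.hψ, mul_one, map_smul, smul_eq_mul, inv_mul_cancel₀ hs]
  let η : E → E := fun μ => h (gi *ᵥ (μ • c)) b
  have hη : ∀ μ s : E, τ (s * η μ) = -(α s * τ (μ * ψ)) := fun μ s => by
    rw [← D.spec, D.sa, hM.isom_inv P.hg, D.spec, D.swap ((g : Mn) *ᵥ (s • b)) c, hα, mul_neg, map_neg,
      mul_smul_comm, map_smul, smul_eq_mul]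
  have hη' : ∀ μ, η μ = τ (μ * ψ) • η μ₀ := fun μ => eq_of_tau D.ne fun k => by
    rw [hη, mul_smul_comm, map_smul, smul_eq_mul, hη, hμ₀]; ring
  have hη0 : η μ₀ ≠ 0 := fun e => by
    have h1 := hη μ₀ P.k₁
    have h2 : α P.k₁ = 1 := by
      have h3 := hα P.k₁
      exact (smul_left_injective F P.hψ (h3.symm.trans (one_smul F _).symm))
    rw [e, mul_zero, map_zero, hμ₀, h2, mul_one, eq_comm, neg_eq_zero] at h1
    exact one_ne_zero h1
  set N := conjL g (D.root (P.i₀ * (η μ₀)⁻¹) b) with hN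
  have hNx : ∀ x, N x = (g : Mn) *ᵥ ((P.i₀ * (η μ₀)⁻¹ * h (gi *ᵥ x) b) • b) := fun x => by
    rw [hN, conjL_apply, D.root_apply]
  have hNin : ∀ a : F, In M (a • N) := fun a => by
    convert (hM.inRoot D (a • (P.i₀ * (η μ₀)⁻¹)) b).conj P.hg using 1
    refine LinearMap.ext fun x => ?_
    rw [LinearMap.smul_apply, hNx, conjL_apply, D.root_apply, ← hgi, smul_mul_assoc, smul_assoc,
      Matrix.mulVec_smul]
  have hN2 : ∀ x, N (N x) = 0 := fun x => by
    rw [hNx x, hNx, hgi, inv_mulVec_cancel, D.smul_left, D.self, mul_zero, mul_zero, zero_smul,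
      Matrix.mulVec_zero]
  have hskew : ∀ x y, B (N x) y = -B x (N y) := fun x y => by
    rw [hNx x, hNx y, ← hM.isom_inv P.hg x, ← mulVec_inv_cancel g y, hM.isom P.hg, hgi, mulVec_inv_cancel,
      D.spec, D.form_smul, D.swap ((((g⁻¹ : GL (Fin m ⊕ Fin m) F)) : Mn) *ᵥ y) b, ← map_neg]
    congr 1
    ring
  have hNc : ∀ μ : E, N (μ • c) = τ (μ * ψ) • e₀ := fun μ => by
    rw [hNx, show h (gi *ᵥ (μ • c)) b = η μ from rfl, hη' μ, mul_smul_comm, mul_assoc, inv_mul_cancel₀ hη0,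
      mul_one, smul_assoc, Matrix.mulVec_smul]
  have hεψ : τ (ε * ψ) = 0 := by
    have h1 := hNc ε
    rw [hε, hNx, hgi, he₀, inv_mulVec_cancel, D.smul_left, D.self, mul_zero, mul_zero, zero_smul,
      Matrix.mulVec_zero, eq_comm, smul_eq_zero] at h1
    exact h1.resolve_right he₀0
  refine ⟨ε, hε0, hε, hεψ, fun a ω lam hlam => ?_⟩
  set S := D.root (ω * ψ⁻¹) c with hS
  have hSc : ∀ x ∈ (E ∙ c), S x = 0 := fun x hx => by
    rw [hS, D.root_apply, D.line_perp hx, mul_zero, zero_smul]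
  have hSim : ∀ x, S x ∈ (E ∙ c) := fun x => hcm _
  have hNim : ∀ x ∈ (E ∙ c), N x ∈ (E ∙ c) := fun x hx => by
    obtain ⟨μ, rfl⟩ := Submodule.mem_span_singleton.1 hx
    rw [hNc, ← algebraMap_smul E (τ _)]
    exact Submodule.smul_mem _ _ P.hi₀
  have hNS : ∀ x, N (S x) = B x (ω • c) • e₀ := fun x => by
    rw [hS, D.root_apply, hNc, D.form_smul]
    congr 2
    rw [mul_right_comm, mul_assoc ω, inv_mul_cancel₀ P.hψ, mul_one]
  have hhN : ∀ x, h (N x) c = -(B x e₀ • ψ) := fun x => eq_of_tau D.ne fun k => by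
    rw [← D.spec, D.sa, hskew, hNc, sympForm_smul_right, mul_neg, map_neg, mul_smul_comm, map_smul,
      smul_eq_mul, mul_comm]
  have hSN : ∀ x, S (N x) = -(B x e₀ • ω • c) := fun x => by
    rw [hS, D.root_apply, hhN, mul_neg, neg_smul, mul_smul_comm, mul_assoc, inv_mul_cancel₀ P.hψ, mul_one,
      smul_assoc]
  have hNSN : ∀ x, N (S (N x)) = -((B x e₀ * τ (ω * ψ)) • e₀) := fun x => by
    rw [hSN, map_neg, map_smul, hNc, smul_smul]
  have hsand : In M ((LinearMap.id + a • N).comp (S.comp (LinearMap.id - a • N))) :=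
    (hM.inRoot D _ c).sandwich (hNin a) fun x => by simp [hN2]
  have hSL : Line M E c S := ⟨hM.inRoot D _ c, hSim, hSc⟩
  have hXL : Line M E c ((LinearMap.id + a • N).comp (S.comp (LinearMap.id - a • N)) - S) := by
    refine Line.sub ⟨hsand, fun x => ?_, fun x hx => ?_⟩ hSL
    · simp only [LinearMap.comp_apply, LinearMap.add_apply, LinearMap.id_apply, LinearMap.smul_apply]
      refine add_mem (hSim _) ?_
      rw [← algebraMap_smul E a]
      exact Submodule.smul_mem _ _ (hNim _ (hSim _))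
    · have hm : x - a • N x ∈ (E ∙ c) := by
        rw [← algebraMap_smul E a (N x)]
        exact sub_mem hx (Submodule.smul_mem _ _ (hNim _ hx))
      simp only [LinearMap.comp_apply, LinearMap.add_apply, LinearMap.id_apply, LinearMap.smul_apply,
        LinearMap.sub_apply, hSc _ hm, map_zero, smul_zero, add_zero]
  obtain ⟨L, hL, hLx⟩ : ∃ L, Line M E c L ∧ ∀ x, L x = shape a (a * a * τ (ω * ψ)) (ε • c) (ω • c) x := by
    refine ⟨_, hXL, fun x => ?_⟩
    rw [shape, hε]
    simp only [LinearMap.sub_apply, LinearMap.comp_apply, LinearMap.add_apply, LinearMap.id_apply,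
      LinearMap.smul_apply, map_sub, map_smul, map_neg, hNS, hSN, hNc]
    module
  obtain ⟨R, hR, hRc⟩ := hM.exists_scale D P.hc hlam
  refine ⟨conjL R L, Line.conj_scale hM hL hR hlam hRc, fun x => ?_⟩
  rw [conjL_apply, hLx, ← hRc ε, ← hRc ω]
  exact shape_map hM hR a _ _ _ x

theorem hasTv_of_three (hM : Over M E) (D : Frm τ h) [Finite F] {P : SPair M E h} (hq : ∃ ν : F, ν ≠ 0 ∧ ν ≠ 1) :
    HasTv M := by
  obtain ⟨ν, hν0, hν1⟩ := hq
  obtain ⟨ε, hε0, -, -, hline⟩ := exists_line hM D P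
  set ψ := h ((P.g : Mn) *ᵥ (P.k₁ • P.b)) P.c with hψ
  obtain ⟨s, hs⟩ := D.ne
  obtain ⟨L₁, hL₁, h1⟩ := hline ν (s * ψ⁻¹) 1 one_ne_zero
  obtain ⟨L₂, hL₂, h2⟩ := hline 1 (ν • (s * ψ⁻¹)) 1 one_ne_zero
  refine hasTv_of_in (hL₁.sub hL₂).1 (v := ε • P.c) (a := (ν * ν - ν) * τ s)
    (smul_ne_zero hε0 P.hc) (mul_ne_zero (fun e => hν1 ?_) hs) fun x => ?_
  · exact mul_left_cancel₀ hν0 (by rw [mul_one]; linear_combination e)
  · rw [LinearMap.sub_apply, h1, h2, shape, shape, smul_mul_assoc, map_smul, smul_eq_mul, mul_assoc s,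
      inv_mul_cancel₀ P.hψ, mul_one, one_mul, one_mul, one_mul, smul_assoc ν (s * ψ⁻¹), sympForm_smul_right]
    module

theorem hasTv_of_prime_three [Fintype F] [Fintype E] (hM : Over M E) (D : Frm τ h) {P : SPair M E h}
    (hr : (finrank F E).Prime) (h3 : 3 ≤ finrank F E) : HasTv M := by
  classical
  obtain ⟨ε, hε0, -, hεψ, hline⟩ := exists_line hM D P
  set ψ := h ((P.g : Mn) *ᵥ (P.k₁ • P.b)) P.c with hψ
  set ζ := ε * ψ
  obtain ⟨lam, hl0, hl1, hl2⟩ : ∃ lam : E, lam ≠ 0 ∧ τ (lam * ζ) ≠ 0 ∧ τ (lam⁻¹ * ζ) = 0 := by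
    by_contra hcon
    push Not at hcon
    let H : E → Prop := fun a => τ (a * ζ) = 0
    have h1 : H 1 := by show τ (1 * ζ) = 0; rw [one_mul]; exact hεψ
    have hinv : ∀ a, H a → H a⁻¹ := fun a ha => by
      rcases eq_or_ne a 0 with rfl | ha0
      · rwa [_root_.inv_zero]
      by_contra hne
      exact hcon a⁻¹ (inv_ne_zero ha0) hne (by rw [inv_inv]; exact ha)
    have hadd : ∀ a b, H a → H b → H (a + b) := fun a b ha hb => by
      show τ _ = 0; rw [add_mul, map_add, ha, hb, add_zero]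
    have hsub : ∀ a b, H a → H b → H (a - b) := fun a b ha hb => by
      show τ _ = 0; rw [sub_mul, map_sub, ha, hb, sub_zero]
    have hsq : ∀ a b, H a → H b → H (a * a * b) := fun a b ha hb => by
      rcases eq_or_ne a 0 with rfl | ha0
      · show τ _ = 0; simp
      rcases eq_or_ne b 0 with rfl | hb0
      · show τ _ = 0; simp
      rcases eq_or_ne (a * b) 1 with hab | hab
      · rwa [mul_assoc, hab, mul_one]
      have hne' : b⁻¹ - a ≠ 0 := fun e => hab (by rw [← sub_eq_zero.1 e, inv_mul_cancel₀ hb0])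
      have h2 : H (a⁻¹ + (b⁻¹ - a)⁻¹)⁻¹ :=
        hinv _ (hadd _ _ (hinv _ ha) (hinv _ (hsub _ _ (hinv _ hb) ha)))
      have h3 : (a⁻¹ + (b⁻¹ - a)⁻¹)⁻¹ = a - a * a * b := by
        refine inv_eq_of_mul_eq_one_right ?_
        have hden : 1 - a * b ≠ 0 := sub_ne_zero.2 (Ne.symm hab)
        rw [show b⁻¹ - a = (1 - a * b) / b by field_simp, inv_div]
        field_simp
        ring
      have h4 := hsub _ _ ha h2
      rwa [h3, sub_sub_cancel] at h4
    have hmul : ∀ a b, H a → H b → H (a * b) := fun a b ha hb => by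
      by_cases h2 : (2 : E) = 0
      · have hsa : ∀ x y : E, x * x = y * y → x = y := fun x y hxy => by
          have : (x - y) * (x - y) = 0 := by linear_combination hxy + (y * y - x * y) * h2
          exact sub_eq_zero.1 (mul_self_eq_zero.1 this)
        let f : {x : E // H x} → {x : E // H x} := fun x =>
          ⟨x.1 * x.1, by have := hsq x.1 1 x.2 h1; rwa [mul_one] at this⟩
        obtain ⟨⟨x, hx⟩, hxa⟩ := (Finite.injective_iff_surjective.1
          (fun x y e => Subtype.ext (hsa _ _ (congrArg Subtype.val e)) : Function.Injective f)) ⟨a, ha⟩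
        have hxa' : x * x = a := congrArg Subtype.val hxa
        rw [← hxa']
        exact hsq x b hx hb
      · have h5 : H (2 * (a * b)) := by
          have := hsub _ _ (hsub _ _ (hsq (a + 1) b (hadd a 1 ha h1) hb) (hsq a b ha hb)) hb
          convert this using 1
          ring
        have h6 : (2 : F) ≠ 0 := fun e => h2 (by rw [← map_ofNat (algebraMap F E) 2, e, map_zero])
        show τ _ = 0
        have h7 : τ (2 * (a * b) * ζ) = 0 := h5
        rw [show (2 : E) * (a * b) * ζ = (2 : F) • (a * b * ζ) by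
          rw [Algebra.smul_def, map_ofNat]; ring, map_smul, smul_eq_zero] at h7
        exact h7.resolve_left h6
    obtain ⟨s, hsH, hs⟩ : ∃ s, H s ∧ ∀ a : F, s ≠ algebraMap F E a := by
      by_contra hc
      push Not at hc
      have hle : LinearMap.ker (τ.comp (LinearMap.mulRight F ζ)) ≤ (F ∙ (1 : E)) := fun s hs => by
        obtain ⟨a, rfl⟩ := hc s (LinearMap.mem_ker.1 hs)
        exact Submodule.mem_span_singleton.2 ⟨a, (Algebra.algebraMap_eq_smul_one a).symm⟩
      have h5 := Submodule.finrank_mono hle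
      rw [finrank_span_singleton (one_ne_zero (α := E))] at h5
      have h6 := (τ.comp (LinearMap.mulRight F ζ)).finrank_range_add_finrank_ker
      have h7 := Submodule.finrank_le (LinearMap.range (τ.comp (LinearMap.mulRight F ζ)))
      rw [finrank_self] at h7
      omega
    have hall : ∀ k, H k := generate_of_not_base hr hs H hadd hmul
      (fun a => by show τ _ = 0; rw [← Algebra.smul_def, map_smul, hεψ, smul_zero]) hsH
    obtain ⟨t, ht⟩ := D.ne
    refine ht ?_
    have hζ : ζ ≠ 0 := mul_ne_zero hε0 P.hψ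
    have := hall (t * ζ⁻¹)
    change τ (t * ζ⁻¹ * ζ) = 0 at this
    rwa [mul_assoc, inv_mul_cancel₀ hζ, mul_one] at this
  obtain ⟨L₁, hL₁, h1⟩ := hline 1 (lam * ε) 1 one_ne_zero
  obtain ⟨L₂, hL₂, h2⟩ := hline 1 (lam⁻¹ * ε) lam hl0
  refine hasTv_of_in (hL₁.sub hL₂).1 (v := ε • P.c) (a := τ (lam * ζ)) (smul_ne_zero hε0 P.hc) hl1
    fun x => ?_
  rw [LinearMap.sub_apply, h1, h2, shape, shape, ← mul_assoc lam lam⁻¹, mul_inv_cancel₀ hl0, one_mul,
    one_mul, one_mul, mul_assoc lam ε, mul_assoc lam⁻¹ ε, hl2]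
  module

/-- The word giving a transvection in the smallest case. -/
theorem hasTv_word (hM : Over M E) (D : Frm τ h) (hEE : ∀ s : E, s + s = 0) (hτ1 : τ 1 = 0)
    (h3 : 3 ≤ finrank E V) {c x : V} (hcx : h c x = 1) {LI LQ : V →ₗ[F] V} (hI : In M LI) (hQ : In M LQ)
    (hIx : ∀ p, LI p = B p c • c + B p x • x)
    (hQx : ∀ p, LQ p = B p x • c + (B p c + B p x) • x) : HasTv M := by
  haveI : Module.Finite E V := Module.Finite.of_restrictScalars_finite F E _
  obtain ⟨u, hu0, huc, hux⟩ : ∃ u : V, u ≠ 0 ∧ h u c = 0 ∧ h u x = 0 := by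
    by_contra hcon
    push Not at hcon
    have hinj : Function.Injective ((D.func c).prod (D.func x)) := by
      refine (injective_iff_map_eq_zero _).2 fun u hu => ?_
      by_contra hne
      exact hcon u hne (congrArg Prod.fst hu) (congrArg Prod.snd hu)
    have := LinearMap.finrank_le_finrank_of_injective hinj
    rw [Module.finrank_prod, finrank_self] at this
    omega
  have hxc : h x c = 1 := by rw [D.swap c x, hcx]; linear_combination -(hEE 1)
  have hcu : h c u = 0 := by rw [D.swap u c, huc, neg_zero]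
  have hxu : h x u = 0 := by rw [D.swap u x, hux, neg_zero]
  have hτa : ∀ a : F, τ (algebraMap F E a) = 0 := fun a => by
    rw [Algebra.algebraMap_eq_smul_one, map_smul, hτ1, smul_zero]
  obtain ⟨g₁, hg₁, e₁⟩ := hI
  obtain ⟨g₂, hg₂, e₂⟩ := hQ
  obtain ⟨r₁, hr₁, f₁⟩ := hM.inRoot D 1 c
  obtain ⟨r₂, hr₂, f₂⟩ := hM.inRoot D 1 (x + u)
  obtain ⟨r₃, hr₃, f₃⟩ := hM.inRoot D 1 (c + x + u)
  let st : V → E → E → E → V := fun p A B' C => p + A • c + B' • x + C • u
  have hst : ∀ p A B' C, h (st p A B' C) c = h p c + B' ∧ h (st p A B' C) x = h p x + A ∧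
      h (st p A B' C) u = h p u := fun p A B' C => by
    simp only [st, D.add_left, D.smul_left, D.self, hcx, hxc, hcu, hxu, huc, hux]
    exact ⟨by ring, by ring, by ring⟩
  have s₁ : ∀ p A B' C, (g₁ : Mn) *ᵥ st p A B' C =
      st p (A + algebraMap F E (τ (h p c + B'))) (B' + algebraMap F E (τ (h p x + A))) C := fun p A B' C => by
    rw [e₁, hIx, D.form, D.form, (hst p A B' C).1, (hst p A B' C).2.1, ← algebraMap_smul E (τ _),
      ← algebraMap_smul E (τ _) x]
    simp only [st]; module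
  have s₂ : ∀ p A B' C, (g₂ : Mn) *ᵥ st p A B' C =
      st p (A + algebraMap F E (τ (h p x + A)))
        (B' + (algebraMap F E (τ (h p c + B')) + algebraMap F E (τ (h p x + A)))) C := fun p A B' C => by
    rw [e₂, hQx, D.form, D.form, (hst p A B' C).1, (hst p A B' C).2.1, ← algebraMap_smul E (τ _),
      ← algebraMap_smul E (τ _ + τ _) x, map_add]
    simp only [st]; module
  have t₁ : ∀ p A B' C, (r₁ : Mn) *ᵥ st p A B' C = st p (A + (h p c + B')) B' C := fun p A B' C => by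
    rw [f₁, D.root_apply, (hst p A B' C).1, one_mul]
    simp only [st]; module
  have t₂ : ∀ p A B' C, (r₂ : Mn) *ᵥ st p A B' C =
      st p A (B' + (h p x + A + h p u)) (C + (h p x + A + h p u)) := fun p A B' C => by
    rw [f₂, D.root_apply, D.add_right, (hst p A B' C).2.1, (hst p A B' C).2.2, one_mul]
    simp only [st]; module
  have t₃ : ∀ p A B' C, (r₃ : Mn) *ᵥ st p A B' C = st p (A + (h p c + B' + (h p x + A) + h p u))
      (B' + (h p c + B' + (h p x + A) + h p u)) (C + (h p c + B' + (h p x + A) + h p u)) := fun p A B' C => by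
    rw [f₃, D.root_apply, D.add_right, D.add_right, (hst p A B' C).1, (hst p A B' C).2.1, (hst p A B' C).2.2,
      one_mul]
    simp only [st]; module
  have hEE2 : ∀ s t : E, s + (s + t) = t := fun s t => by rw [← add_assoc, hEE, zero_add]
  refine hasTv_of_in (L := Matrix.toLin' ((r₂ * g₂ * r₃ * g₁ * r₂ * r₁ * g₁ : GL _ F) : Mn) - LinearMap.id)
    ⟨_, mul_mem (mul_mem (mul_mem (mul_mem (mul_mem (mul_mem hr₂ hg₂) hr₃) hg₁) hr₂) hr₁) hg₁,
      fun p => by rw [LinearMap.sub_apply, Matrix.toLin'_apply, LinearMap.id_apply, add_sub_cancel]⟩ hu0 (a := 1) one_ne_zero fun p => ?_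
  rw [one_mul, LinearMap.sub_apply, Matrix.toLin'_apply, LinearMap.id_apply, sub_eq_iff_eq_add, D.form]
  conv_lhs => rw [show p = st p 0 0 0 by simp [st]]
  simp only [Units.val_mul, ← Matrix.mulVec_mulVec, s₁, s₂, t₁, t₂, t₃]
  simp only [map_add, hτa, map_zero, zero_add, add_zero, st]
  rw [← algebraMap_smul E (τ (h p u)) u]
  simp [add_assoc, add_comm, add_left_comm, hEE, hEE2]

theorem hasTv_of_four [Fintype F] [Fintype E] (hM : Over M E) (D : Frm τ h) {P : SPair M E h}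
    (h3 : 3 ≤ finrank E V) (hr : finrank F E = 2) (hq : Fintype.card F = 2) : HasTv M := by
  classical
  obtain ⟨ε, hε0, hε, hεψ, -⟩ := exists_line hM D P
  set ψ := h ((P.g : Mn) *ᵥ (P.k₁ • P.b)) P.c with hψ
  set x₀ := (P.g : Mn) *ᵥ (P.k₁ • P.b) with hx₀
  set e₀ := (P.g : Mn) *ᵥ (P.i₀ • P.b) with he₀
  set ζ := h e₀ x₀ with hζ
  have hζe : ζ = -(ε * ψ) := by rw [hζ, ← hε, D.smul_left, D.swap x₀ P.c, mul_neg]
  have hζ0 : ζ ≠ 0 := by rw [hζe]; exact neg_ne_zero.2 (mul_ne_zero hε0 P.hψ)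
  have hF : ∀ a : F, a = 0 ∨ a = 1 := fun a => by
    by_contra hc
    push Not at hc
    have : ({a, 0, 1} : Finset F).card = 3 := Finset.card_eq_three.2 ⟨a, 0, 1, hc.1, hc.2, zero_ne_one, rfl⟩
    have := Finset.card_le_univ ({a, 0, 1} : Finset F)
    omega
  have h11 : (1 : F) + 1 = 0 := by
    rcases hF (1 + 1) with h | h
    · exact h
    · exact absurd (by linear_combination h : (1 : F) = 0) one_ne_zero
  have hEE : ∀ s : E, s + s = 0 := fun s => by
    have : (algebraMap F E) (1 + 1) = 0 := by rw [h11, map_zero]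
    rw [map_add, map_one] at this
    linear_combination s * this
  set ρ := P.k₁ * P.i₀⁻¹ with hρ
  have hρk : P.i₀ * ρ = P.k₁ := by rw [hρ]; field_simp [P.hi₀0]
  have hnb : ∀ a : F, ρ ≠ algebraMap F E a := fun a e => hζ0 (by
    rw [hζ, hx₀, ← hρk, e, mul_comm, ← Algebra.smul_def, smul_assoc, Matrix.mulVec_smul, ← he₀,
      ← algebraMap_smul E a, D.smul_right, D.self, mul_zero])
  have hρ0 : ρ ≠ 0 := fun e => hnb 0 (by rw [e, map_zero])
  have hρ1 : ρ ≠ 1 := fun e => hnb 1 (by rw [e, map_one])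
  have hρ2 : ρ * ρ = ρ + 1 := by
    have h4 : Fintype.card E = 4 := by rw [Module.card_eq_pow_finrank (K := F), hr, hq]; norm_num
    have h3 : ρ ^ 3 = 1 := by
      have := FiniteField.pow_card_sub_one_eq_one ρ hρ0
      rwa [h4] at this
    have h5 : ρ * ρ + ρ + 1 = 0 := (mul_eq_zero.1 (show (ρ - 1) * (ρ * ρ + ρ + 1) = 0 by
      linear_combination h3)).resolve_left (sub_ne_zero.2 hρ1)
    linear_combination h5 - hEE (ρ + 1)
  have hbas : ∀ s : E, ∃ a b : F, s = algebraMap F E a + algebraMap F E b * ρ := by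
    intro s
    let f : F × F → E := fun p => algebraMap F E p.1 + algebraMap F E p.2 * ρ
    have hf : Function.Injective f := fun p q e => by
      have e' : algebraMap F E (p.1 - q.1) + algebraMap F E (p.2 - q.2) * ρ = 0 := by
        simp only [f] at e; rw [map_sub, map_sub]; linear_combination e
      rcases eq_or_ne (p.2 - q.2) 0 with h0 | h0
      · rw [h0, map_zero, zero_mul, add_zero, map_eq_zero] at e'
        exact Prod.ext (sub_eq_zero.1 e') (sub_eq_zero.1 h0)
      · rw [(hF _).resolve_left h0, map_one, one_mul] at e'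
        exact absurd (show ρ = algebraMap F E (-(p.1 - q.1)) by rw [map_neg]; linear_combination e') (hnb _)
    obtain ⟨⟨a, b⟩, hab⟩ := ((Fintype.bijective_iff_injective_and_card f).2 ⟨hf, by
      rw [Fintype.card_prod, show Fintype.card E = _ from Module.card_eq_pow_finrank (K := F), hr, pow_two]⟩).2 s
    exact ⟨a, b, hab.symm⟩
  -- the two elements supported on the plane of the pair
  have hroot : ∀ (α β : F), ∀ e : E, (∀ η : E, e * η = algebraMap F E (α * τ η + β * τ (ρ * η)) +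
      algebraMap F E (β * τ η + (α + β) * τ (ρ * η)) * ρ) →
      ∃ L, In M L ∧ ∀ p, L p = (α * B p e₀ + β * B p x₀) • e₀ + (β * B p e₀ + (α + β) * B p x₀) • x₀ := by
    intro α β e he
    refine ⟨_, (hM.inRoot D (e * (P.i₀ * P.i₀)) P.b).conj P.hg, fun p => ?_⟩
    set gi := ((P.g⁻¹ : GL (Fin m ⊕ Fin m) F) : Mn) with hgi
    have hT : ∀ s : E, τ (s * h (gi *ᵥ p) P.b) = B p ((P.g : Mn) *ᵥ (s • P.b)) := fun s => by
      rw [← D.spec, D.sa, hgi, hM.isom_inv P.hg]
    have h2 := he (P.i₀ * h (gi *ᵥ p) P.b)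
    rw [← mul_assoc ρ, mul_comm ρ, hρk, hT, hT] at h2
    have h4 : e * (P.i₀ * P.i₀) * h (gi *ᵥ p) P.b =
        algebraMap F E (α * B p e₀ + β * B p x₀) * P.i₀ +
          algebraMap F E (β * B p e₀ + (α + β) * B p x₀) * P.k₁ := by
      rw [← hρk]; linear_combination P.i₀ * h2
    rw [conjL_apply, D.root_apply, h4, ← Algebra.smul_def, ← Algebra.smul_def, add_smul, smul_assoc,
      smul_assoc, Matrix.mulVec_add, Matrix.mulVec_smul, Matrix.mulVec_smul]
  have hlin : ∀ α β : F, ∃ e : E, ∀ η : E, e * η = algebraMap F E (α * τ η + β * τ (ρ * η)) +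
      algebraMap F E (β * τ η + (α + β) * τ (ρ * η)) * ρ := fun α β => by
    refine ⟨algebraMap F E (α * τ 1 + β * τ ρ) + algebraMap F E (β * τ 1 + (α + β) * τ ρ) * ρ, fun η => ?_⟩
    obtain ⟨a, b, rfl⟩ := hbas η
    have e1 : ∀ c : F, τ (algebraMap F E c) = c * τ 1 := fun c => by
      rw [Algebra.algebraMap_eq_smul_one, map_smul, smul_eq_mul]
    have e2 : ∀ (c : F) (s : E), τ (algebraMap F E c * s) = c * τ s := fun c s => by
      rw [← Algebra.smul_def, map_smul, smul_eq_mul]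
    have e3 : τ (algebraMap F E a + algebraMap F E b * ρ) = a * τ 1 + b * τ ρ := by rw [map_add, e1, e2]
    have e4 : τ (ρ * (algebraMap F E a + algebraMap F E b * ρ)) = a * τ ρ + b * (τ ρ + τ 1) := by
      rw [mul_add, mul_left_comm ρ (algebraMap F E b), mul_comm ρ (algebraMap F E a), map_add, e2, e2, hρ2,
        map_add]
    rw [e3, e4]
    simp only [map_add, map_mul]
    linear_combination (algebraMap F E b * (algebraMap F E β * algebraMap F E (τ 1) +
      (algebraMap F E α + algebraMap F E β) * algebraMap F E (τ ρ))) * hρ2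
  obtain ⟨eI, heI⟩ := hlin 1 0
  obtain ⟨eQ, heQ⟩ := hlin 0 1
  obtain ⟨LI, hI, hIx⟩ := hroot 1 0 eI heI
  obtain ⟨LQ, hQ, hQx⟩ := hroot 0 1 eQ heQ
  -- rescale the form
  let τ' : E →ₗ[F] F := τ.comp (LinearMap.mulLeft F ζ)
  have D' : Frm τ' fun a b => ζ⁻¹ * h a b :=
    ⟨fun k p q => by
      rw [D.spec]; show _ = τ (ζ * (k * (ζ⁻¹ * h p q)))
      congr 1; field_simp,
    D.sa, D.alt, by
      obtain ⟨s, hs⟩ := D.ne
      exact ⟨ζ⁻¹ * s, by show τ (ζ * (ζ⁻¹ * s)) ≠ 0; rwa [mul_inv_cancel_left₀ hζ0]⟩⟩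
  refine hasTv_word hM D' hEE (c := e₀) (x := x₀) ?_ h3 (inv_mul_cancel₀ hζ0) hI hQ (fun p => ?_) fun p => ?_
  · show τ (ζ * 1) = 0
    rw [mul_one, hζe, map_neg, hεψ, neg_zero]
  · rw [hIx]; simp
  · rw [hQx]; simp

theorem le_of_over [Fintype F] [Fintype E] (hM : Over M E) (hsa : ∀ (k : E) (x y : V), B (k • x) y = B x (k • y))
    (halt : ∀ (k : E) (x : V), B (k • x) x = 0) (hr : (finrank F E).Prime)
    (h3 : 3 ≤ finrank E V ∨ 3 ≤ finrank F E ∨ 3 ≤ Fintype.card F)
    {g : GL (Fin m ⊕ Fin m) F} (hg : g ∈ M) {a : V} {k₀ : E}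
    (hline : (g : Mn) *ᵥ (k₀ • a) ∉ (E ∙ ((g : Mn) *ᵥ a))) : spGL m F ≤ M := by
  classical
  haveI : Module.Finite E V := Module.Finite.of_restrictScalars_finite F E _
  obtain ⟨τ, hτ⟩ : ∃ τ : E →ₗ[F] F, τ 1 ≠ 0 := by
    obtain ⟨f, hf, -⟩ := Submodule.exists_le_ker_of_notMem (show (1 : E) ∉ (⊥ : Submodule F E) by simp)
    exact ⟨f, hf⟩
  obtain ⟨h, D⟩ := exists_frm hsa halt τ ⟨1, hτ⟩
  obtain ⟨P⟩ := exists_spair hM D hr hg hline
  have htv : HasTv M := by
    by_cases hq : ∃ ν : F, ν ≠ 0 ∧ ν ≠ 1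
    · exact hasTv_of_three hM D (P := P) hq
    by_cases h3r : 3 ≤ finrank F E
    · exact hasTv_of_prime_three hM D (P := P) hr h3r
    push Not at hq
    have hq2 : Fintype.card F = 2 := by
      have : (Finset.univ : Finset F) ⊆ {0, 1} := fun x _ => by
        by_cases hx : x = 0 <;> simp [hx, hq x]
      have := (Finset.card_le_card this).trans Finset.card_le_two
      rw [Finset.card_univ] at this
      have : 1 < Fintype.card F := Fintype.one_lt_card
      omega
    exact hasTv_of_four hM D (P := P) (h3.resolve_right (by omega)) (by have := hr.two_le; omega) hq2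
  obtain ⟨v, c, hv, hc, htv⟩ := htv
  have hall : ∀ w : V, InT M w (fn B (c • w)) := fun w => by
    rcases eq_or_ne w 0 with rfl | hw
    · exact InT.zero_left _
    obtain ⟨k, hk, hkv⟩ := hM.transitive D hv hw
    have := htv.fn_conj sesq_sympForm hk (hM.isom hk)
    rwa [Matrix.mulVec_smul, hkv] at this
  refine spGL_le fun w d => ?_
  rcases eq_or_ne w 0 with rfl | hw
  · exact InT.zero_left _
  let S : F → Prop := fun d => InT M w (fn B (d • w))
  have hadd : ∀ p q, S p → S q → S (p + q) := fun p q hp hq => by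
    show InT M w (fn B ((p + q) • w))
    rw [add_smul, fn_add sesq_sympForm]
    exact InT.add_right hp hq (by rw [fn_dot sesq_sympForm, sympForm_smul_right, sympForm_self, mul_zero])
  have hsq : ∀ t : F, S (c * (t * t)) := fun t => by
    rcases eq_or_ne t 0 with rfl | ht
    · show InT M w _; rw [mul_zero, mul_zero, zero_smul, fn_zero sesq_sympForm]; exact InT.zero_right _
    have h1 := (hall (t • w)).smul_left t⁻¹ (inv_ne_zero ht)
    rw [inv_smul_smul₀ ht, inv_inv, show t • fn B (c • t • w) = fn B ((c * (t * t)) • w) by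
      rw [show (c * (t * t)) • w = t • c • t • w by module, fn_smul sesq_sympForm _ (c • t • w),
        RingEquiv.refl_apply]] at h1
    exact h1
  -- every element is a sum of two squares
  obtain ⟨s, t, hst⟩ : ∃ s t : F, d / c = s ^ 2 + t ^ 2 := by
    by_cases h2 : ringChar F = 2
    · obtain ⟨s, hs⟩ := FiniteField.isSquare_of_char_two h2 (d / c)
      exact ⟨s, 0, by rw [hs]; ring⟩
    · obtain ⟨s, t, h⟩ := FiniteField.exists_root_sum_quadratic (R := F) (f := Polynomial.X ^ 2)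
        (g := Polynomial.X ^ 2 - Polynomial.C (d / c)) (Polynomial.degree_X_pow 2)
        (Polynomial.degree_X_pow_sub_C (by norm_num) _) (FiniteField.odd_card_of_char_ne_two h2)
      exact ⟨s, t, by simp at h; linear_combination -h⟩
  have := hadd _ _ (hsq s) (hsq t)
  rwa [show c * (s * s) + c * (t * t) = d by
    rw [← mul_add, ← pow_two, ← pow_two, ← hst, mul_div_cancel₀ _ hc]] at this

/-- The symplectic extension-field subgroups are maximal, in every dimension over at least three elements. -/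
theorem symplecticOverfield_maximal_of [Fintype F] (hm : 2 ≤ m) (hbig : 3 ≤ m ∨ 3 ≤ Fintype.card F) {r : ℕ}
    (hr : r.Prime) (K : Subalgebra F Mn) (hK : Geo.IsFieldSubalgebra r K)
    (hsa : Geo.IsSelfAdjointFor (sympForm m F) K) (halt : ∀ k ∈ K, ∀ v : V, B (k *ᵥ v) v = 0) :
    Geo.IsMaximalIn (spGL m F) (Geo.subalgebraNormalizer K ⊓ spGL m F) := by
  classical
  haveI : Nontrivial ↥K := by
    haveI : Module.Finite F ↥K := Module.finite_of_finrank_pos (by rw [hK.finrank_eq]; exact hr.pos)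
    exact Module.nontrivial_of_finrank_pos (R := F) (by rw [hK.finrank_eq]; exact hr.pos)
  letI : CommRing ↥K := { (inferInstance : Ring ↥K) with
    mul_comm := fun a b => Subtype.ext (hK.comm _ a.2 _ b.2) }
  have hfield : IsField ↥K :=
    { exists_pair_ne := exists_pair_ne _
      mul_comm := mul_comm
      mul_inv_cancel := fun {a} ha => by
        obtain ⟨y, hy, hay⟩ := hK.inv _ a.2 fun h => ha (Subtype.ext h)
        exact ⟨⟨y, hy⟩, Subtype.ext hay⟩ }
  letI : Field ↥K := hfield.toField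
  have hsm : ∀ (k : ↥K) (x : V), k • x = (k : Mn) *ᵥ x := fun _ _ => rfl
  haveI : IsScalarTower F ↥K V := ⟨fun a k x => by
    rw [hsm, hsm, show ((a • k : ↥K) : Mn) = a • (k : Mn) from rfl, Matrix.smul_mulVec]⟩
  haveI : Fintype ↥K := Fintype.ofFinite _
  have hdesc : Describes K ↥K := fun A => ⟨fun hA => ⟨⟨A, hA⟩, fun x => (hsm ⟨A, hA⟩ x).symm⟩, fun ⟨k, hk⟩ => by
    have : A = (k : Mn) := Matrix.ext_iff_mulVec.2 fun x => (hk x).trans (hsm k x)
    rw [this]; exact k.2⟩
  have hsa' : ∀ (k : ↥K) (x y : V), B (k • x) y = B x (k • y) := fun k x y => hsa _ k.2 x y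
  have halt' : ∀ (k : ↥K) (x : V), B (k • x) x = 0 := fun k x => halt _ k.2 x
  have hr' : (finrank F ↥K).Prime := hK.finrank_eq ▸ hr
  haveI : Module.Finite ↥K V := Module.Finite.of_restrictScalars_finite F ↥K _
  have hd : r * finrank ↥K V = 2 * m := by
    rw [← hK.finrank_eq, Module.finrank_mul_finrank, Module.finrank_fintype_fun_eq_card, Fintype.card_sum,
      Fintype.card_fin, two_mul]
  have h2 : 2 ≤ finrank ↥K V := by
    by_contra hc
    have hd1 : finrank ↥K V = 1 := by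
      rcases (show finrank ↥K V = 0 ∨ finrank ↥K V = 1 by omega) with h | h
      · rw [h] at hd; omega
      · exact h
    obtain ⟨v, hv, hspan⟩ := finrank_eq_one_iff'.1 hd1
    refine hv (sesq_sympForm.eq_zero v fun x => ?_)
    obtain ⟨a, rfl⟩ := hspan x
    exact halt' a v
  have h3 : 3 ≤ finrank ↥K V ∨ 3 ≤ finrank F ↥K ∨ 3 ≤ Fintype.card F := by
    rw [hK.finrank_eq]
    rcases Nat.lt_or_ge r 3 with h | h
    · rcases hbig with hb | hb
      · left
        obtain rfl : r = 2 := by have := hr.two_le; omega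
        omega
      · exact Or.inr (Or.inr hb)
    · exact Or.inr (Or.inl h)
  refine ⟨lt_of_le_of_ne inf_le_right fun h => ?_, fun M hle hMs => ?_⟩
  · -- a transvection outside the normalizer
    obtain ⟨v, hv⟩ : ∃ v : V, v ≠ 0 :=
      ⟨Pi.single (Sum.inl ⟨0, by omega⟩) 1, fun e => by simpa using congrFun e (Sum.inl ⟨0, by omega⟩)⟩
    obtain ⟨k, hk⟩ : ∃ k : ↥K, k ∉ (Submodule.span F ({1} : Set ↥K)) := by
      by_contra hc
      push Not at hc
      have h1 := finrank_span_singleton (K := F) (one_ne_zero (α := ↥K))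
      rw [Submodule.eq_top_iff'.2 hc, finrank_top, hK.finrank_eq] at h1
      have := hr.two_le
      omega
    have hkv : k • v ∉ (F ∙ v) := fun h1 => by
      obtain ⟨a, ha⟩ := Submodule.mem_span_singleton.1 h1
      rw [← algebraMap_smul ↥K a] at ha
      exact hk (Submodule.mem_span_singleton.2 ⟨a, by
        rw [← smul_left_injective ↥K hv ha, Algebra.algebraMap_eq_smul_one]⟩)
    obtain ⟨φ, hφ1, hφ0⟩ := exists_dot_one hkv
    obtain ⟨x, hx⟩ := fn_surjective (sesq_sympForm (F := F) (m := m)) φ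
    have hBx : ∀ y, φ ⬝ᵥ y = B y x := fun y => by rw [← hx, fn_dot sesq_sympForm]
    obtain ⟨t, hts, htx⟩ := exists_sp_tv v (1 : F)
    have h1 := normalizer_preserves_lines hdesc (h.ge hts).1 k x
    have hxv : B x v = 0 := by
      rw [sympForm_swap, ← hBx, hφ0 v (Submodule.mem_span_singleton_self _), neg_zero]
    have hkxv : B (k • x) v = -1 := by rw [hsa', sympForm_swap, ← hBx, hφ1]
    rw [htx, htx, hxv, hkxv, mul_zero, zero_smul, add_zero, one_mul, neg_smul, one_smul] at h1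
    have h4 := Submodule.sub_mem _ (Submodule.smul_mem _ k (Submodule.mem_span_singleton_self x)) h1
    rw [show k • x - (k • x + -v) = v by abel] at h4
    obtain ⟨s, hs⟩ := Submodule.mem_span_singleton.1 h4
    have h5 : B (k • x) v = 0 := by
      have hvx : v = s • x := hs.symm
      rw [hvx, sympForm_swap, hsa', smul_smul]
      rw [sympForm_swap, neg_neg]
      exact halt' _ _
    rw [hkxv, neg_eq_zero] at h5
    exact one_ne_zero h5
  · by_cases hsub : M ≤ Geo.subalgebraNormalizer K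
    · exact Or.inl (le_antisymm (le_inf hsub hMs) hle)
    obtain ⟨g, hg, hgn⟩ := SetLike.not_le_iff_exists.1 hsub
    obtain ⟨k₀, a, hline⟩ : ∃ (k : ↥K) (a : V), (g : Mn) *ᵥ (k • a) ∉ (↥K ∙ ((g : Mn) *ᵥ a)) := by
      by_contra hc
      push Not at hc
      exact hgn (mem_normalizer_of_lines hdesc h2 hc)
    have hOver : Over M ↥K := ⟨hMs, fun L hL => by
      have hinj : Function.Injective (L.restrictScalars F) := fun x y hxy => sub_eq_zero.1
        (sesq_sympForm.eq_zero _ fun z => by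
          rw [← hL, map_sub, show L x = L y from hxy, sub_self, sesq_sympForm.zero_right])
      obtain ⟨t, ht⟩ := exists_gl_of_injective _ hinj
      refine ⟨t, hle ⟨mem_normalizer_of_lines hdesc h2 fun k a => Submodule.mem_span_singleton.2 ⟨k, ?_⟩,
        mem_spGL.2 fun x y => by rw [ht, ht]; exact hL x y⟩, ht⟩
      rw [ht, ht]
      exact (map_smul L k a).symm⟩
    exact Or.inr (le_antisymm hMs (le_of_over hOver hsa' halt' hr' h3 hg hline))

/-- The symplectic extension-field subgroups are maximal. -/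
theorem symplecticOverfield_maximal [Fintype F] (hm : 3 ≤ m) {r : ℕ} (hr : r.Prime)
    (K : Subalgebra F Mn) (hK : Geo.IsFieldSubalgebra r K) (hsa : Geo.IsSelfAdjointFor (sympForm m F) K)
    (halt : ∀ k ∈ K, ∀ v : V, B (k *ᵥ v) v = 0) :
    Geo.IsMaximalIn (spGL m F) (Geo.subalgebraNormalizer K ⊓ spGL m F) :=
  symplecticOverfield_maximal_of (by omega) (Or.inl hm) hr K hK hsa halt

end Cfsg.Agent.Classical.SpOver
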