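import Cfsg.Agent.Lib.Classical.FieldExtSympBasic
import Cfsg.Agent.Lib.Classical.MaxSympOverfieldMain
import Cfsg.Agent.Lib.Classical.SympBlocks
import Cfsg.Agent.Lib.Classical.PermutedDecomposition

/-! Elements of prime order of symplectic groups and extension-field subgroups of symplectic type. -/

set_option autoImplicit false
set_option linter.unusedSectionVars false

namespace Cfsg.Agent.FieldExtSympDerange

open Matrix Module Polynomial Cfsg.Agent.SelfReciprocalFactors Cfsg.Agent.FieldExtNormalizer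
  Cfsg.Agent.FieldExtSympBasic Cfsg.Agent.Classical Cfsg.Agent.Classical.Overfield

variable {F : Type*} [Field F] {d : ℕ}

local notation "V" => (Fin d ⊕ Fin d → F)
local notation "Mn" => Matrix (Fin d ⊕ Fin d) (Fin d ⊕ Fin d) F
local notation "B" => sympForm d F
local notation "GLd" => GL (Fin d ⊕ Fin d) F

theorem even_finrank {E W : Type*} [Field E] [AddCommGroup W] [Module E W] [FiniteDimensional E W]
    (b : LinearMap.BilinForm E W) (hA : b.IsAlt) (hb : ∀ x, (∀ y, b x y = 0) → x = 0) :
    Even (finrank E W) := by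
  obtain ⟨m, k, x, y, r, -, -, -, hxy, hxx, hyy, hr, hspan⟩ :=
    exists_symplectic_family b hA (finrank E W) ⊤ (finrank_top E W)
  have hr0 : ∀ j, r j = 0 := fun j => hb _ fun w => hr j w trivial
  have hyx : ∀ i j, b (y i) (x j) = if i = j then -1 else 0 := fun i j => by
    rw [← LinearMap.IsAlt.neg hA (x j) (y i), hxy]
    simp only [eq_comm (a := i)]
    split_ifs <;> simp
  have hli : LinearIndependent E (Sum.elim x y) := by
    rw [Fintype.linearIndependent_iff]
    intro c hc
    rw [Fintype.sum_sum_type] at hc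
    simp only [Sum.elim_inl, Sum.elim_inr] at hc
    rintro (j | j)
    · have h0 := congrArg (fun w => b w (y j)) hc
      simpa [hxy, hyy] using h0
    · have h0 := congrArg (b (x j)) hc
      simpa [hxx, hxy] using h0
  have htop : (⊤ : Submodule E W) ≤ Submodule.span E (Set.range (Sum.elim x y)) := hspan.trans (Submodule.span_le.2 (by
    rintro z (hz | ⟨j, rfl⟩)
    · exact Submodule.subset_span (by rw [Set.Sum.elim_range]; exact hz)
    · rw [hr0]; exact Submodule.zero_mem _))
  rw [finrank_eq_card_basis (Basis.mk hli htop), Fintype.card_sum, Fintype.card_fin]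
  exact ⟨m, rfl⟩

section Over

variable {E : Type*} [Field E] [Algebra F E] [Module E (Fin d ⊕ Fin d → F)]
  [IsScalarTower F E (Fin d ⊕ Fin d → F)]

theorem nd_sub (hsa : ∀ (a : E) (x y : V), B (a • x) y = B x (a • y)) (halt : ∀ (a : E) (x : V), B (a • x) x = 0)
    [Fintype F] [Fintype E] (W : Submodule E V) (hW : ∀ u ∈ W, u ≠ 0 → ∃ v ∈ W, B u v ≠ 0) :
    Even (finrank E W) := by
  haveI : Module.Finite E V := Module.Finite.of_restrictScalars_finite F E _
  obtain ⟨h, D⟩ := SpOver.exists_frm (E := E) hsa halt (Algebra.trace F E) (by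
    by_contra hn
    push Not at hn
    exact Algebra.trace_ne_zero F E (LinearMap.ext hn))
  let b : LinearMap.BilinForm E W := LinearMap.mk₂ E (fun x y => h x.1 y.1)
    (fun x x' y => D.add_left x.1 x'.1 y.1) (fun c x y => D.smul_left c x.1 y.1)
    (fun x y y' => D.add_right x.1 y.1 y'.1) (fun c x y => D.smul_right c x.1 y.1)
  refine even_finrank b (fun x => D.self x.1) fun x hx => ?_
  by_contra hne
  obtain ⟨v, hv, h0⟩ := hW x.1 x.2 fun e => hne (Subtype.ext e)
  exact h0 (by rw [D.form, show h x.1 v = 0 from hx ⟨v, hv⟩, map_zero])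

/-- Coordinates turning the form into the trace of the standard form. -/
theorem exists_coords (hsa : ∀ (a : E) (x y : V), B (a • x) y = B x (a • y))
    (halt : ∀ (a : E) (x : V), B (a • x) x = 0) [Fintype F] [Fintype E] {e : ℕ} (he : finrank F E * e = d) :
    ∃ Φ : (Fin e ⊕ Fin e → E) ≃ₗ[E] V, ∀ u v, B (Φ u) (Φ v) = Algebra.trace F E (sympForm e E u v) := by
  haveI : Module.Finite E V := Module.Finite.of_restrictScalars_finite F E _
  obtain ⟨h, D⟩ := SpOver.exists_frm (E := E) hsa halt (Algebra.trace F E) (by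
    by_contra hn
    push Not at hn
    exact Algebra.trace_ne_zero F E (LinearMap.ext hn))
  let b : LinearMap.BilinForm E V := LinearMap.mk₂ E h D.add_left D.smul_left D.add_right D.smul_right
  have hfin : finrank E V = 2 * e := by
    have h1 := Module.finrank_mul_finrank F E V
    rw [Module.finrank_fintype_fun_eq_card, Fintype.card_sum, Fintype.card_fin] at h1
    refine Nat.eq_of_mul_eq_mul_left (Module.finrank_pos (R := F) (M := E)) ?_
    rw [h1, ← he]; ring
  obtain ⟨Φ, hΦ⟩ := exists_symp_coords b D.self (fun x hx => D.eq_zero x fun y => by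
    have h0 : h x y = 0 := hx y
    rw [D.swap, h0, neg_zero]) hfin
  exact ⟨Φ, fun u v => by rw [D.form, ← hΦ u v]; rfl⟩

variable {e : ℕ} (Φ : (Fin e ⊕ Fin e → E) ≃ₗ[E] (Fin d ⊕ Fin d → F))

/-- An `F`-linear map in coordinates, as a matrix. -/
noncomputable def ofCoord : ((Fin e ⊕ Fin e → E) ≃ₗ[F] (Fin e ⊕ Fin e → E)) →* GL (Fin d ⊕ Fin d) F where
  toFun T := (LinearMap.GeneralLinearGroup.generalLinearEquiv F V).symm
      (((Φ.restrictScalars F).symm.trans T).trans (Φ.restrictScalars F)) |>
    Matrix.GeneralLinearGroup.toLin.symm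
  map_one' := by
    rw [show ((Φ.restrictScalars F).symm.trans 1).trans (Φ.restrictScalars F) = 1 from
      LinearEquiv.ext fun x => by simp]
    simp
  map_mul' S T := by
    rw [← map_mul, ← map_mul]
    congr 2
    exact LinearEquiv.ext fun x => by simp

theorem ofCoord_apply (T : (Fin e ⊕ Fin e → E) ≃ₗ[F] (Fin e ⊕ Fin e → E)) (u : Fin e ⊕ Fin e → E) :
    (ofCoord Φ T : Mn) *ᵥ Φ u = Φ (T u) := by
  show LinearMap.toMatrix' _ *ᵥ _ = _
  rw [LinearMap.toMatrix'_mulVec]
  simp [LinearMap.GeneralLinearGroup.generalLinearEquiv]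

theorem ofCoord_injective : Function.Injective (ofCoord Φ : _ → GLd) := fun S T h => LinearEquiv.ext fun u =>
  Φ.injective (by rw [← ofCoord_apply, ← ofCoord_apply, h])

theorem ofCoord_mem {K : Subalgebra F (Matrix (Fin d ⊕ Fin d) (Fin d ⊕ Fin d) F)} {k : ℕ}
    (hK : Geo.IsFieldSubalgebra k K) (hk : 0 < k) (hdesc : Describes K E)
    (hΦ : ∀ u v, B (Φ u) (Φ v) = Algebra.trace F E (sympForm e E u v))
    (T : (Fin e ⊕ Fin e → E) ≃ₗ[F] (Fin e ⊕ Fin e → E))
    (hT : ∀ u v, Algebra.trace F E (sympForm e E (T u) (T v)) = Algebra.trace F E (sympForm e E u v))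
    (σ : E → E) (hσ : ∀ (a : E) u, T (a • u) = σ a • T u) :
    ofCoord Φ T ∈ Geo.subalgebraNormalizer K ⊓ spGL d F := by
  refine ⟨mem_normalizer hK hk fun A hA => ?_, fun x y => ?_⟩
  · obtain ⟨a, ha⟩ := (hdesc A).1 hA
    let L : V →ₗ[F] V := (LinearMap.lsmul E V (σ a)).restrictScalars F
    refine ⟨LinearMap.toMatrix' L, (hdesc _).2 ⟨σ a, fun x => LinearMap.toMatrix'_mulVec L x⟩, ?_⟩
    refine Matrix.ext_iff_mulVec.2 fun x => ?_
    obtain ⟨u, rfl⟩ := Φ.surjective x
    rw [← Matrix.mulVec_mulVec, ← Matrix.mulVec_mulVec, ha, ← map_smul, ofCoord_apply, ofCoord_apply,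
      LinearMap.toMatrix'_mulVec, hσ, map_smul]
    rfl
  · obtain ⟨u, rfl⟩ := Φ.surjective x
    obtain ⟨v, rfl⟩ := Φ.surjective y
    show B ((ofCoord Φ T : Mn) *ᵥ Φ u) ((ofCoord Φ T : Mn) *ᵥ Φ v) = _
    rw [ofCoord_apply, ofCoord_apply, hΦ, hΦ, hT]

end Over

/-- The factors of the order of the symplectic group split. -/
theorem prod_split {q k r : ℕ} (hr : r.Prime) (hk : 0 < k) (hkey : ∀ j, r ∣ q ^ (2 * j) - 1 → k ∣ j) :
    ∀ e : ℕ, ∃ M, ¬ r ∣ M ∧ ∏ j ∈ Finset.range (k * e), (q ^ (2 * (j + 1)) - 1) =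
      (∏ j ∈ Finset.range e, ((q ^ k) ^ (2 * (j + 1)) - 1)) * M := by
  intro e
  induction e with
  | zero => exact ⟨1, hr.not_dvd_one, by simp⟩
  | succ e ih =>
    obtain ⟨M, hM, h⟩ := ih
    refine ⟨M * ∏ l ∈ Finset.range (k - 1), (q ^ (2 * (k * e + l + 1)) - 1), fun hd => ?_, ?_⟩
    · rcases hr.dvd_mul.1 hd with h' | h'
      · exact hM h'
      · obtain ⟨l, hl, hl'⟩ := (Nat.prime_iff.1 hr).exists_mem_finset_dvd h'
        obtain ⟨w, hw⟩ := hkey _ hl'
        rw [Finset.mem_range] at hl
        have h1 : e < w := by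
          by_contra h2
          have := Nat.mul_le_mul_left k (Nat.le_of_not_lt h2)
          omega
        have := Nat.mul_le_mul_left k h1
        rw [Nat.mul_succ] at this
        omega
    · obtain ⟨k', rfl⟩ : ∃ k', k = k' + 1 := ⟨k - 1, by omega⟩
      rw [show (k' + 1) * (e + 1) = (k' + 1) * e + (k' + 1) by ring, Finset.prod_range_add, h,
        Finset.prod_range_succ _ k', Finset.prod_range_succ _ e, Nat.add_sub_cancel, ← pow_mul,
        show (k' + 1) * (2 * (e + 1)) = 2 * ((k' + 1) * e + k' + 1) by ring]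
      ring

theorem basicDeg_dvd {i j : ℕ} (h : i ∣ 2 * j) : basicDeg i ∣ 2 * j := by
  unfold basicDeg
  split_ifs with he
  · exact h
  · exact mul_dvd_mul_left 2 ((Nat.coprime_two_right.2 (Nat.not_even_iff_odd.1 he)).dvd_of_dvd_mul_left h)

theorem exists_reflection (hd : 1 ≤ d) (h2 : (2 : F) ≠ 0) :
    ∃ x ∈ spGL d F, (x : Mn) * x = 1 ∧ (∀ z : F, d ≠ 1 → (x : Mn) ≠ z • 1) ∧
      finrank F (eig (x : Mn) (-1)) = 2 ∧ finrank F (eig (x : Mn) 1) + 2 = d + d := by
  classical
  let i₀ : Fin d := ⟨0, hd⟩
  let c : Fin d ⊕ Fin d → F := Sum.elim (fun i => if i = i₀ then -1 else 1) (fun i => if i = i₀ then -1 else 1)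
  have hcc : ∀ j, c j * c j = 1 := fun j => by rcases j with j | j <;> simp only [c, Sum.elim_inl, Sum.elim_inr] <;>
    split_ifs <;> ring
  let x : GLd := ⟨Matrix.diagonal c, Matrix.diagonal c,
    by rw [Matrix.diagonal_mul_diagonal, funext hcc, Matrix.diagonal_one],
    by rw [Matrix.diagonal_mul_diagonal, funext hcc, Matrix.diagonal_one]⟩
  have hx : ∀ v j, ((x : Mn) *ᵥ v) j = c j * v j := fun v j => Matrix.mulVec_diagonal c v j
  have hsq : (x : Mn) * x = 1 := by
    show Matrix.diagonal c * Matrix.diagonal c = 1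
    rw [Matrix.diagonal_mul_diagonal, funext hcc, Matrix.diagonal_one]
  have heig : eig (x : Mn) 1 = LinearMap.ker ((LinearMap.proj (R := F) (φ := fun _ => F) (Sum.inl i₀ : Fin d ⊕ Fin d)).prod
      (LinearMap.proj (R := F) (φ := fun _ => F) (Sum.inr i₀ : Fin d ⊕ Fin d))) := by
    ext v
    rw [mem_eig, one_smul, LinearMap.mem_ker]
    rw [Prod.ext_iff]
    simp only [LinearMap.prod_apply, Function.prod_apply, LinearMap.proj_apply, Prod.fst_zero, Prod.snd_zero]
    constructor
    · intro h
      constructor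
      · have h1 := congrFun h (Sum.inl i₀)
        rw [hx] at h1
        simp [c] at h1
        exact (mul_eq_zero.1 (show (2 : F) * v (Sum.inl i₀) = 0 by linear_combination -h1)).resolve_left h2
      · have h1 := congrFun h (Sum.inr i₀)
        rw [hx] at h1
        simp [c] at h1
        exact (mul_eq_zero.1 (show (2 : F) * v (Sum.inr i₀) = 0 by linear_combination -h1)).resolve_left h2
    · rintro ⟨h1, h2⟩
      funext j
      rw [hx]
      rcases j with j | j <;> by_cases hj : j = i₀ <;> simp [c, hj, h1, h2]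
  have hdim := LinearMap.finrank_range_add_finrank_ker
    ((LinearMap.proj (R := F) (φ := fun _ => F) (Sum.inl i₀ : Fin d ⊕ Fin d)).prod
      (LinearMap.proj (R := F) (φ := fun _ => F) (Sum.inr i₀ : Fin d ⊕ Fin d)))
  rw [LinearMap.range_eq_top.2 (fun a => ⟨Pi.single (Sum.inl i₀) a.1 + Pi.single (Sum.inr i₀) a.2, by simp⟩),
    finrank_top, Module.finrank_prod, Module.finrank_self, ← heig, Module.finrank_fintype_fun_eq_card,
    Fintype.card_sum, Fintype.card_fin] at hdim
  refine ⟨x, fun u v => ?_, hsq, fun z hd1 hz => ?_, ?_, by omega⟩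
  · show B ((x : Mn) *ᵥ u) ((x : Mn) *ᵥ v) = _
    rw [sympForm_eq_sum, sympForm_eq_sum]
    simp only [hx, c, Sum.elim_inl, Sum.elim_inr]
    refine Finset.sum_congr rfl fun i _ => ?_
    split_ifs <;> ring
  · have h1 := congrFun (congrFun hz (Sum.inl i₀)) (Sum.inl i₀)
    have h3 := congrFun (congrFun hz (Sum.inl ⟨1, by omega⟩)) (Sum.inl ⟨1, by omega⟩)
    simp [x, c, i₀, Fin.ext_iff] at h1 h3
    exact h2 (by linear_combination -h1 + h3)
  · have h4 := charpoly_of_sq_one hsq
    have h5 := charpoly_two_eig (x : Mn) (a := 1) (b := -1) (by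
      rw [neg_one_smul, one_smul, sub_neg_eq_add, Matrix.sub_mul, Matrix.mul_add, Matrix.mul_add, hsq,
        Matrix.mul_one, Matrix.one_mul, Matrix.one_mul]
      abel)
    rw [h4, mul_comm (a := (X - Polynomial.C 1) ^ finrank F (eig (x : Mn) 1)), Fintype.card_sum, Fintype.card_fin] at h5
    have h6 := exponent_eq (fun h => h2 (by linear_combination -h)) h5
    omega

variable [Fintype F]

set_option maxHeartbeats 1000000 in
/-- Conjugacy into extension-field subgroups of symplectic type, elements of prime order. -/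
theorem criterion (p : ℕ) [Fact p.Prime] [CharP F p] {q : ℕ} (hq : Fintype.card F = q) (hd : 2 ≤ d) {k : ℕ} (hk : k.Prime)
    (K : Subalgebra F (Matrix (Fin d ⊕ Fin d) (Fin d ⊕ Fin d) F)) (hK : Geo.IsFieldSubalgebra k K)
    (hKf : Geo.IsSelfAdjointFor (sympForm d F) K) (hKalt : ∀ a ∈ K, ∀ v : V, B (a *ᵥ v) v = 0)
    (r : ℕ) [hr : Fact r.Prime] (hΩ : r ∣ (Geo.subalgebraNormalizer K).relIndex (spGL d F)) :
    (∀ x ∈ spGL d F, (∃ z : F, ((x ^ r : GLd) : Mn) = z • 1) → (∀ z : F, (x : Mn) ≠ z • 1) →
      ∃ g ∈ spGL d F, g⁻¹ * x * g ∈ Geo.subalgebraNormalizer K) ↔ (r = 2 ∧ d = 2 ∧ k = 2 ∧ Odd q) := by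
  classical
  subst hq
  letI : Field ↥K := fieldOf hK hk.pos
  have hsm : ∀ (a : ↥K) (x : V), a • x = (a : Mn) *ᵥ x := fun _ _ => rfl
  haveI : IsScalarTower F ↥K V := ⟨fun c a x => by
    rw [hsm, hsm, show ((c • a : ↥K) : Mn) = c • (a : Mn) from rfl, Matrix.smul_mulVec]⟩
  haveI : Fintype ↥K := Fintype.ofFinite _
  haveI : Module.Finite ↥K V := Module.Finite.of_restrictScalars_finite F ↥K _
  have hdesc : Describes K ↥K := fun A => ⟨fun hA => ⟨⟨A, hA⟩, fun x => (hsm ⟨A, hA⟩ x).symm⟩, fun ⟨a, ha⟩ => by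
    have : A = (a : Mn) := Matrix.ext_iff_mulVec.2 fun x => (ha x).trans (hsm a x)
    rw [this]; exact a.2⟩
  have hsa : ∀ (a : ↥K) (x y : V), B (a • x) y = B x (a • y) := fun a x y => hKf _ a.2 x y
  have halt : ∀ (a : ↥K) (x : V), B (a • x) x = 0 := fun a x => hKalt _ a.2 x
  obtain ⟨e, he⟩ : ∃ e, k * e = d := by
    obtain ⟨e, he⟩ := nd_sub hsa halt ⊤ fun u _ hu => by
      obtain ⟨v, hv⟩ := exists_sympForm_eq_one hu
      exact ⟨v, trivial, by rw [hv]; exact one_ne_zero⟩
    have h1 := Module.finrank_mul_finrank F ↥K V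
    rw [Module.finrank_fintype_fun_eq_card, Fintype.card_sum, Fintype.card_fin, hK.finrank_eq,
      ← finrank_top ↥K V, he] at h1
    exact ⟨e, by rw [mul_add] at h1; omega⟩
  have hkd : k ∣ d := ⟨e, he.symm⟩
  have hkn : ∀ {m : ℕ}, m + 1 = d + d → ¬ k ∣ m := fun {m} hm hdv => hk.not_dvd_one
    ((Nat.dvd_add_right hdv).1 (hm ▸ (hkd.add hkd)))
  constructor
  · intro H
    by_cases hrp : r = p
    · exfalso
      obtain ⟨x, hx, hxp, hns, hdim⟩ := exists_transvection (F := F) (p := p) (d := d) (by omega)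
      obtain ⟨g, hg, hgN⟩ := H x hx ⟨1, hrp.symm ▸ hxp⟩ hns
      refine not_conj_eig hK hk.pos (d := finrank F (eig (x : Mn) 1)) rfl ?_ (hkn hdim) hgN
      rw [Fintype.card_sum, Fintype.card_fin]; omega
    have hrne : (r : F) ≠ 0 := fun h0 =>
      hrp ((Nat.prime_dvd_prime_iff_eq (Fact.out : p.Prime) hr.out).1 ((CharP.cast_eq_zero_iff F p r).1 h0)).symm
    rcases eq_or_ne r 2 with h2 | h2
    · subst h2
      have h20 : (2 : F) ≠ 0 := by simpa using hrne
      have hqodd : Odd (Fintype.card F) := by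
        rw [Nat.odd_iff]
        exact FiniteField.odd_card_of_char_ne_two fun hc => h20 (by
          have := ringChar.Nat.cast_ringChar (R := F); rw [hc] at this; exact_mod_cast this)
      by_cases hcase : d = 2 ∧ k = 2
      · exact ⟨rfl, hcase.1, hcase.2, hqodd⟩
      exfalso
      obtain ⟨x, hx, hsq, hns, hm1, hp1⟩ := exists_reflection (F := F) (d := d) (by omega) h20
      obtain ⟨g, hg, hgN⟩ := H x hx ⟨1, by rw [Units.val_pow_eq_pow_val, pow_two, hsq, one_smul]⟩
        fun z => hns z (by omega)
      have hd3 : k ≠ 2 → 3 ≤ d := fun h => by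
        by_contra hlt
        have : d = 2 := by omega
        exact h ((Nat.prime_dvd_prime_iff_eq hk Nat.prime_two).1 (this ▸ hkd))
      by_cases hk2 : k = 2
      · have hd3' : 3 ≤ d := by
          by_contra hlt
          exact hcase ⟨by omega, hk2⟩
        set y := g⁻¹ * x * g
        have hy : y ∈ spGL d F := mul_mem (mul_mem (inv_mem hg) hx) hg
        have hcomm := comm_of_large hK hgN (c := 1) (by
          rw [eig_conj, Fintype.card_sum, Fintype.card_fin]; omega)
        let W : Submodule ↥K V :=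
          { carrier := eig (y : Mn) (-1)
            add_mem' := (eig (y : Mn) (-1)).add_mem
            zero_mem' := (eig (y : Mn) (-1)).zero_mem
            smul_mem' := fun a v hv => eig_inv hcomm a a.2 v hv }
        have hyy : (y : Mn) * y = 1 := by
          rw [← Units.val_mul, show y * y = g⁻¹ * (x * x) * g by simp only [y]; group,
            show x * x = 1 from Units.ext hsq, mul_one, inv_mul_cancel, Units.val_one]
        have hev := nd_sub hsa halt W fun u hu hu0 => by
          obtain ⟨v, hv⟩ := exists_sympForm_eq_one hu0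
          have hu1 : (y : Mn) *ᵥ u = -u := by rw [mem_eig.1 hu, neg_one_smul]
          refine ⟨v - (y : Mn) *ᵥ v, ?_, ?_⟩
          · show v - (y : Mn) *ᵥ v ∈ eig (y : Mn) (-1)
            rw [mem_eig, Matrix.mulVec_sub, Matrix.mulVec_mulVec, hyy, Matrix.one_mulVec, neg_one_smul, neg_sub]
          · have h1 : B u ((y : Mn) *ᵥ v) = -1 := by
              have h2 : B ((y : Mn) *ᵥ u) ((y : Mn) *ᵥ v) = B u v := hy u v
              rw [hu1, show -u = (-1 : F) • u by module, sympForm_smul_left, hv] at h2
              linear_combination -h2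
            rw [sympForm_sub_right, h1, hv]
            intro h3; exact h20 (by linear_combination h3)
        obtain ⟨w, hw⟩ := hev
        have h1 := Module.finrank_mul_finrank F ↥K W
        have h3 : finrank F W = finrank F (eig (y : Mn) (-1)) :=
          LinearEquiv.finrank_eq
            ({ toFun := fun z => ⟨z.1, z.2⟩
               invFun := fun z => ⟨z.1, z.2⟩
               map_add' := fun _ _ => rfl
               map_smul' := fun _ _ => rfl
               left_inv := fun _ => rfl
               right_inv := fun _ => rfl } : W ≃ₗ[F] eig (y : Mn) (-1))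
        rw [hK.finrank_eq, hw, h3, eig_conj, hm1, hk2] at h1
        omega
      · refine not_conj_eig hK hk.pos (d := finrank F (eig (x : Mn) 1)) rfl ?_ ?_ hgN
        · have := hd3 hk2
          rw [Fintype.card_sum, Fintype.card_fin]; omega
        · intro hdv
          exact hk2 ((Nat.prime_dvd_prime_iff_eq hk Nat.prime_two).1 ((Nat.dvd_add_right hdv).1 (hp1 ▸ hkd.add hkd)))
    · exfalso
      haveI : NeZero r := ⟨hr.out.ne_zero⟩
      set i := orderOf (Fintype.card F : ZMod r) with hi
      have hq0 : (Fintype.card F : ZMod r) ≠ 0 := fun h0 => by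
        rw [ZMod.natCast_eq_zero_iff] at h0
        obtain ⟨l, -, hl⟩ := FiniteField.card F p
        rw [hl] at h0
        exact hrp ((Nat.prime_dvd_prime_iff_eq hr.out Fact.out).1 (hr.out.dvd_of_dvd_pow h0))
      obtain ⟨t, ht⟩ : ∃ t, t * i = r - 1 := by
        obtain ⟨t, ht⟩ := ZMod.orderOf_dvd_card_sub_one hq0
        exact ⟨t, by rw [ht, mul_comm]⟩
      have h : Ctx F r i t := ⟨hr.out, h2, hrne, hi, ht⟩
      have hfac : ∀ j, r ∣ Fintype.card F ^ (2 * j) - 1 → basicDeg i ∣ 2 * j := fun j hj => by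
        refine basicDeg_dvd (orderOf_dvd_of_pow_eq_one ?_)
        have h1 : 1 ≤ Fintype.card F ^ (2 * j) := Nat.one_le_pow _ _ Fintype.card_pos
        have h4 := congrArg (fun a : ℕ => (a : ZMod r)) (Nat.sub_add_cancel h1)
        push_cast at h4
        rw [(ZMod.natCast_eq_zero_iff _ _).2 hj, zero_add] at h4
        exact h4.symm
      have hcardS : Nat.card (spGL d F) = Fintype.card F ^ (d ^ 2) *
          ∏ j ∈ Finset.range d, (Fintype.card F ^ (2 * (j + 1)) - 1) := by
        have e1 : spGL d F ≃ Matrix.symplecticGroup (Fin d) F :=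
          Equiv.ofBijective (fun g => toSymp g.1 g.2) ⟨fun a b hab => Subtype.ext (Units.ext (congrArg Subtype.val hab)),
            fun x => by
              obtain ⟨g, hg⟩ : ∃ g : GLd, (g : Mn) = x.1 :=
                (Matrix.isUnit_iff_isUnit_det _).2 (SymplecticGroup.symplectic_det x.2)
              exact ⟨⟨g, fun u v => by
                show B (g.1 *ᵥ u) (g.1 *ᵥ v) = B u v
                rw [hg]; exact mem_symplecticGroup_iff_form.1 x.2 u v⟩, Subtype.ext hg⟩⟩
        rw [Nat.card_congr e1, Classical.natCard_symplecticGroup, Nat.card_eq_fintype_card]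
      by_cases h2k : 2 * k ∣ basicDeg i
      · -- the index is prime to `r`
        obtain ⟨Φ, hΦ⟩ := exists_coords hsa halt (e := e) (by rw [hK.finrank_eq]; exact he)
        let ψ : Matrix.symplecticGroup (Fin e) ↥K →* GLd := (ofCoord (F := F) Φ).comp
          { toFun := fun A => LinearEquiv.ofBijective ((Matrix.toLin' A.1).restrictScalars F) (by
              obtain ⟨u, hu⟩ := (Matrix.isUnit_iff_isUnit_det _).2 (SymplecticGroup.symplectic_det A.2)
              have hi' : Function.Injective (Matrix.toLin' A.1) := fun a b hab => by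
                have := congrArg (fun w => (u⁻¹).1 *ᵥ w) hab
                simpa [← hu, Matrix.mulVec_mulVec] using this
              exact ⟨hi', LinearMap.surjective_of_injective hi'⟩)
            map_one' := LinearEquiv.ext fun u => by simp
            map_mul' := fun A A' => LinearEquiv.ext fun u => by simp [Matrix.toLin'_mul] }
        have hψ : ∀ A, ψ A ∈ Geo.subalgebraNormalizer K ⊓ spGL d F := fun A =>
          ofCoord_mem Φ hK hk.pos hdesc hΦ _ (fun u v => congrArg _ (mem_symplecticGroup_iff_form.1 A.2 u v))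
            id fun a u => map_smul (Matrix.toLin' A.1) a u
        let ψ' := ψ.codRestrict (Geo.subalgebraNormalizer K ⊓ spGL d F) hψ
        have hψi : Function.Injective ψ' := fun A A' hA => Subtype.ext (Matrix.toLin'.injective (LinearMap.ext fun u => by
          have := LinearEquiv.congr_fun (ofCoord_injective (F := F) Φ (congrArg Subtype.val hA)) u
          exact this))
        have hdvd := Subgroup.card_dvd_of_injective ψ' hψi
        obtain ⟨M, hM, hprod⟩ := prod_split (q := Fintype.card F) hr.out hk.pos (fun j hj => by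
          have h1 := h2k.trans (hfac j hj)
          exact (Nat.mul_dvd_mul_iff_left (by norm_num)).1 h1) e
        rw [Classical.natCard_symplecticGroup, Nat.card_eq_fintype_card (α := ↥K),
          show Fintype.card ↥K = Fintype.card F ^ k by
            rw [Module.card_eq_pow_finrank (K := F), hK.finrank_eq]] at hdvd
        obtain ⟨w, hw⟩ : ∃ w, d ^ 2 = k * e ^ 2 + w :=
          Nat.exists_eq_add_of_le (by rw [← he, mul_pow, sq k, mul_assoc]; exact Nat.le_mul_of_pos_left _ hk.pos)
        refine not_dvd_relIndex (M := Fintype.card F ^ w * M) ?_ ?_ hdvd ?_ hΩ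
        · have hK2 : 1 < Fintype.card F ^ k := Nat.one_lt_pow hk.ne_zero Fintype.one_lt_card
          exact Nat.mul_pos (pow_pos (by omega) _) (Finset.prod_pos fun j _ =>
            Nat.sub_pos_of_lt (Nat.one_lt_pow (by omega) hK2))
        · rw [hcardS, hw, pow_add, ← pow_mul, ← he, hprod]; ring
        · intro hd'
          rcases hr.out.dvd_mul.1 hd' with h' | h'
          · exact hq0 ((ZMod.natCast_eq_zero_iff _ _).2 (hr.out.dvd_of_dvd_pow h'))
          · exact hM h'
      · -- a witness
        have hc : basicDeg i ≤ d + d := by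
          have h1 := hΩ.trans (Subgroup.relIndex_dvd_card _ _)
          rw [hcardS] at h1
          rcases hr.out.dvd_mul.1 h1 with h' | h'
          · exact absurd ((ZMod.natCast_eq_zero_iff _ _).2 (hr.out.dvd_of_dvd_pow h')) hq0
          · obtain ⟨j, hj, hj'⟩ := (Nat.prime_iff.1 hr.out).exists_mem_finset_dvd h'
            have h5 := Nat.le_of_dvd (by omega) (hfac _ hj')
            rw [Finset.mem_range] at hj
            omega
        obtain ⟨f, hf⟩ : (factorSet F r).Nonempty := Finset.card_pos.1 (by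
          rw [card_factorSet h]
          rcases Nat.eq_zero_or_pos t with rfl | h'
          · have := hr.out.two_le; omega
          · exact h')
        obtain ⟨x, hx, hxr, hns, hxP⟩ := exists_witness h hf hc
        obtain ⟨g, hg, hgN⟩ := H x hx ⟨1, hxr⟩ hns
        set y := g⁻¹ * x * g
        have hy : y ∈ spGL d F := mul_mem (mul_mem (inv_mem hg) hx) hg
        obtain ⟨hum, hud, -⟩ := basic_data h hf
        have hyP : (y : Mn).charpoly = basic i f * (X - Polynomial.C 1) ^ (d + d - basicDeg i) := by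
          rw [← hxP, Units.val_mul, Units.val_mul, Matrix.coe_units_inv]
          exact Matrix.charpoly_units_conj' g _
        have hnd : ¬ (X - Polynomial.C (1 : F)) ∣ basic i f := fun hdv => by
          rcases eq_or_eq_of_dvd_basic h hf (monic_X_sub_C 1) (irreducible_X_sub_C 1) hdv with e' | e'
          · exact X_sub_one_notMem h (e' ▸ hf)
          · exact X_sub_one_notMem h (e' ▸ (rdual_mem h hf).1)
        have hr1 : (y : Mn) ^ r = 1 := by
          rw [← Units.val_pow_eq_pow_val, show y = g⁻¹ * x * g⁻¹⁻¹ by rw [inv_inv], conj_pow, inv_inv,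
            show x ^ r = 1 from Units.ext (by rw [hxr, one_smul, Units.val_one]), mul_one, inv_mul_cancel, Units.val_one]
        have he1 : finrank F (eig (y : Mn) 1) = d + d - basicDeg i := by
          have h1 := PermutedDecomposition.rootMultiplicity_eq (Matrix.toLinAlgEquiv' (y : Mn)) hrne
            (by rw [← map_pow, hr1, map_one])
          rw [show LinearMap.charpoly (Matrix.toLinAlgEquiv' (y : Mn)) = (y : Mn).charpoly from Matrix.charpoly_toLin' _,
            hyP, rootMultiplicity_mul (mul_ne_zero hum.ne_zero (pow_ne_zero _ (X_sub_C_ne_zero 1))),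
            rootMultiplicity_X_sub_C_pow, rootMultiplicity_eq_zero (fun h0 => hnd (dvd_iff_isRoot.2 h0)), zero_add] at h1
          rw [h1, eig, show (1 : F) • (1 : Mn) = 1 from one_smul _ _, map_sub, Matrix.toLin'_one]
          rfl
        have hcomm : ∀ a ∈ K, (y : Mn) * a = a * (y : Mn) := by
          rcases eq_or_ne r k with hrk | hrk
          · refine comm_of_large hK hgN (c := 1) ?_
            rw [he1, Fintype.card_sum, Fintype.card_fin]
            have hc1 : basicDeg i ≤ k - 1 := by
              have hir : i ∣ r - 1 := Dvd.intro_left t ht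
              refine Nat.le_of_dvd (by have := hk.two_le; omega) (hrk ▸ ?_)
              unfold basicDeg
              split_ifs with hev
              · exact hir
              · obtain ⟨w, hw⟩ := hr.out.odd_of_ne_two h2
                rw [hw, Nat.add_sub_cancel] at hir ⊢
                exact mul_dvd_mul_left 2 ((Nat.coprime_two_right.2 (Nat.not_even_iff_odd.1 hev)).dvd_of_dvd_mul_left hir)
            have := Nat.le_of_dvd (by omega) hkd
            omega
          · exact comm_of_pow hK hk hr.out hrk hgN (z := 1) (by rw [Units.val_pow_eq_pow_val, hr1, one_smul])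
        set u := basic i f
        have hcomm' : ∀ a ∈ K, aeval (y : Mn) u * a = a * aeval (y : Mn) u := fun a ha => by
          induction u using Polynomial.induction_on' with
          | add P Q hP hQ => rw [map_add, Matrix.add_mul, Matrix.mul_add, hP, hQ]
          | monomial l c =>
            have : Commute ((y : Mn) ^ l) a := Commute.pow_left (hcomm a ha) l
            rw [aeval_monomial, ← Algebra.smul_def, Matrix.smul_mul, Matrix.mul_smul, this.eq]
        let W₀ := LinearMap.ker (Matrix.toLin' (aeval (y : Mn) u))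
        let W : Submodule ↥K V :=
          { carrier := W₀
            add_mem' := W₀.add_mem
            zero_mem' := W₀.zero_mem
            smul_mem' := fun a v hv => by
              show (a : Mn) *ᵥ v ∈ LinearMap.ker _
              have hv' : aeval (y : Mn) u *ᵥ v = 0 := by simpa [W₀] using hv
              rw [LinearMap.mem_ker, Matrix.toLin'_apply, Matrix.mulVec_mulVec, hcomm' _ a.2, ← Matrix.mulVec_mulVec,
                hv', Matrix.mulVec_zero] }
        have hW₀ : finrank F W₀ = basicDeg i := by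
          rw [← hud]
          exact finrank_ker_aeval (y : Mn) hum ((monic_X_sub_C 1).pow _)
            (((irreducible_X_sub_C 1).coprime_iff_not_dvd.2 hnd).symm.pow_right) hyP
        obtain ⟨s, hs⟩ := X_sub_C_dvd_sub_C_eval (a := (1 : F)) (p := u)
        have hu1 : u.eval 1 ≠ 0 := fun h0 => hnd (dvd_iff_isRoot.2 h0)
        have hrange : ∀ v ∈ W₀, ∃ w, v = (y : Mn) *ᵥ w - w := fun v hv => by
          have hv' : aeval (y : Mn) u *ᵥ v = 0 := by simpa [W₀] using hv
          rw [show u = (X - Polynomial.C 1) * s + Polynomial.C (u.eval 1) by rw [← hs, sub_add_cancel], map_add,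
            map_mul, map_sub, aeval_X, aeval_C, aeval_C, map_one, Algebra.algebraMap_eq_smul_one, Matrix.add_mulVec,
            ← Matrix.mulVec_mulVec, Matrix.smul_mulVec, Matrix.one_mulVec, Matrix.sub_mulVec, Matrix.one_mulVec] at hv'
          refine ⟨(-(u.eval 1)⁻¹) • (aeval (y : Mn) s *ᵥ v), ?_⟩
          rw [Matrix.mulVec_smul, ← smul_sub, eq_neg_of_add_eq_zero_left hv', smul_neg, neg_smul, neg_neg, smul_smul,
            inv_mul_cancel₀ hu1, one_smul]
        have hev := nd_sub hsa halt W fun v hv hv0 => by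
          by_contra hcon
          push Not at hcon
          have hv' : aeval (y : Mn) u *ᵥ v = 0 := by
            have : v ∈ W₀ := hv
            simpa [W₀] using this
          have hdj : Disjoint W₀ (eig (y : Mn) 1) := by
            rw [Submodule.disjoint_def]
            intro w hw hw'
            have hw1 : aeval (y : Mn) u *ᵥ w = u.eval 1 • w := by
              rw [show u = (s * (X - Polynomial.C 1)) + Polynomial.C (u.eval 1) by rw [mul_comm, ← hs, sub_add_cancel],
                map_add, map_mul, map_sub, aeval_X, aeval_C, aeval_C, map_one, Algebra.algebraMap_eq_smul_one,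
                Matrix.add_mulVec, ← Matrix.mulVec_mulVec, Matrix.sub_mulVec, mem_eig.1 hw', one_smul, Matrix.one_mulVec,
                sub_self, Matrix.mulVec_zero, zero_add, Matrix.smul_mulVec, Matrix.one_mulVec]
              simp
            have hw2 : aeval (y : Mn) u *ᵥ w = 0 := by simpa [W₀] using hw
            exact (smul_eq_zero.1 (hw1.symm.trans hw2)).resolve_left hu1
          have htop : W₀ ⊔ eig (y : Mn) 1 = ⊤ := Submodule.eq_top_of_disjoint _ _ (by
            rw [hW₀, he1, Module.finrank_fintype_fun_eq_card, Fintype.card_sum, Fintype.card_fin]; omega) hdj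
          obtain ⟨x', hx'⟩ := exists_sympForm_eq_one hv0
          obtain ⟨a, ha, b', hb', rfl⟩ := Submodule.mem_sup.1 (show x' ∈ W₀ ⊔ eig (y : Mn) 1 by rw [htop]; trivial)
          obtain ⟨w, hw⟩ := hrange v hv
          have h6 : B v b' = 0 := by
            rw [hw, sympForm_sub_left]
            conv_lhs => arg 1; rw [← one_smul F b', ← mem_eig.1 hb']
            exact sub_eq_zero.2 (hy w b')
          rw [sympForm_add_right, hcon a ha, h6, add_zero] at hx'
          exact zero_ne_one hx'
        obtain ⟨w, hw⟩ := hev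
        have h1 := Module.finrank_mul_finrank F ↥K W
        have h3 : finrank F W = finrank F W₀ :=
          LinearEquiv.finrank_eq
            ({ toFun := fun z => ⟨z.1, z.2⟩
               invFun := fun z => ⟨z.1, z.2⟩
               map_add' := fun _ _ => rfl
               map_smul' := fun _ _ => rfl
               left_inv := fun _ => rfl
               right_inv := fun _ => rfl } : W ≃ₗ[F] W₀)
        rw [hK.finrank_eq, hw, h3, hW₀] at h1
        exact h2k ⟨w, by rw [← h1]; ring⟩
  · rintro ⟨rfl, rfl, rfl, hqo⟩ x hx ⟨z, hz⟩ hns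
    have h2 : (2 : F) ≠ 0 := fun h0 => by
      have hc : ringChar F = 2 := (CharTwo.of_one_ne_zero_of_two_eq_zero one_ne_zero h0) |> fun h => by
        haveI := h; exact ringChar.eq F 2
      have := FiniteField.even_card_of_char_two hc
      rw [Nat.odd_iff] at hqo; omega
    obtain rfl : e = 1 := by omega
    obtain ⟨Φ, hΦ⟩ := exists_coords hsa halt (e := 1) (by rw [hK.finrank_eq, mul_one])
    rw [Units.val_pow_eq_pow_val, pow_two] at hz
    have hz' : z = 1 ∨ z = -1 := by
      obtain ⟨v, hv⟩ : ∃ v : Fin 2 ⊕ Fin 2 → F, v ≠ 0 :=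
        ⟨Pi.single (Sum.inl 0) 1, fun e => by simpa using congrFun e (Sum.inl 0)⟩
      obtain ⟨u, hu⟩ := exists_sympForm_eq_one hv
      have h1 : sympForm 2 F (((x * x : GL _ F) : Matrix (Fin 2 ⊕ Fin 2) (Fin 2 ⊕ Fin 2) F) *ᵥ v)
          (((x * x : GL _ F) : Matrix (Fin 2 ⊕ Fin 2) (Fin 2 ⊕ Fin 2) F) *ᵥ u) = 1 :=
        ((mul_mem hx hx) v u).trans hu
      rw [Units.val_mul, hz] at h1
      simp only [Matrix.smul_mulVec, Matrix.one_mulVec, sympForm_smul_left, sympForm_smul_right, hu, mul_one] at h1
      exact mul_self_eq_one_iff.1 h1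
    obtain ⟨T, σ, hT, hTσ, hTT, hTne⟩ : ∃ (T : (Fin 1 ⊕ Fin 1 → ↥K) ≃ₗ[F] (Fin 1 ⊕ Fin 1 → ↥K)) (σ : ↥K → ↥K),
        (∀ u v, Algebra.trace F ↥K (sympForm 1 ↥K (T u) (T v)) = Algebra.trace F ↥K (sympForm 1 ↥K u v)) ∧
        (∀ (a : ↥K) u, T (a • u) = σ a • T u) ∧ (∀ u, T (T u) = z • u) ∧
        (z = 1 → ∀ c : F, ¬ ∀ u, T u = c • u) := by
      rcases hz' with rfl | rfl
      · have hcard : Nat.card (↥K ≃ₐ[F] ↥K) = 2 := by rw [IsGalois.card_aut_eq_finrank, hK.finrank_eq]
        obtain ⟨τ, hτ⟩ : ∃ τ : ↥K ≃ₐ[F] ↥K, τ ≠ 1 := by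
          by_contra hall
          push Not at hall
          haveI : Subsingleton (↥K ≃ₐ[F] ↥K) := ⟨fun a b => (hall a).trans (hall b).symm⟩
          rw [Nat.card_of_subsingleton (1 : ↥K ≃ₐ[F] ↥K)] at hcard
          omega
        have hττ : ∀ a, τ (τ a) = a := fun a => by
          have := pow_card_eq_one' (x := τ)
          rw [hcard, pow_two] at this
          exact AlgEquiv.congr_fun this a
        refine ⟨LinearEquiv.piCongrRight fun _ => τ.toLinearEquiv, τ, fun u v => ?_, fun a u => funext fun j => ?_,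
          fun u => funext fun j => ?_, fun _ c hc => ?_⟩
        · rw [sympForm_eq_sum, sympForm_eq_sum]
          simp only [LinearEquiv.piCongrRight_apply, AlgEquiv.toLinearEquiv_apply, ← map_mul, ← map_sub,
            Fintype.sum_unique]
          exact Algebra.trace_eq_of_algEquiv τ _
        · simp
        · simp [hττ]
        · refine hτ (AlgEquiv.ext fun a => ?_)
          have h1 := congrFun (hc (Pi.single (Sum.inl 0) a)) (Sum.inl 0)
          have h2 := congrFun (hc (Pi.single (Sum.inl 0) 1)) (Sum.inl 0)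
          simp at h1 h2
          rw [h1, AlgEquiv.one_apply, ← one_smul F a, smul_smul, mul_one]
          have hc1 : c = 1 := smul_left_injective F (one_ne_zero (α := ↥K)) (h2.symm.trans (one_smul F 1).symm)
          rw [hc1]
      · refine ⟨LinearEquiv.ofBijective ((Matrix.toLin' (Matrix.J (Fin 1) ↥K)).restrictScalars F) ?_, id,
          fun u v => congrArg _ (mem_symplecticGroup_iff_form.1 (SymplecticGroup.J_mem (Fin 1) ↥K) u v),
          fun a u => map_smul (Matrix.toLin' (Matrix.J (Fin 1) ↥K)) a u, fun u => ?_,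
          fun h1 => absurd (show (2 : F) = 0 by linear_combination -h1) h2⟩
        · have hi : Function.Injective (Matrix.toLin' (Matrix.J (Fin 1) ↥K)) := fun a b hab => by
            have := congrArg (fun w => Matrix.J (Fin 1) ↥K *ᵥ w) hab
            simpa [Matrix.mulVec_mulVec, Matrix.J_squared, Matrix.neg_mulVec] using this
          exact ⟨hi, LinearMap.surjective_of_injective hi⟩
        · show Matrix.J (Fin 1) ↥K *ᵥ (Matrix.J (Fin 1) ↥K *ᵥ u) = _
          rw [Matrix.mulVec_mulVec, Matrix.J_squared, Matrix.neg_mulVec, Matrix.one_mulVec, neg_one_smul]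
    set y := ofCoord (F := F) Φ T
    obtain ⟨hyN, hy⟩ := ofCoord_mem Φ hK hk.pos hdesc hΦ T hT σ hTσ
    have hy2 : (y : Matrix (Fin 2 ⊕ Fin 2) (Fin 2 ⊕ Fin 2) F) * y = z • 1 := Matrix.ext_iff_mulVec.2 fun v => by
      obtain ⟨u, rfl⟩ := Φ.surjective v
      rw [← Matrix.mulVec_mulVec, ofCoord_apply, ofCoord_apply, hTT, Matrix.smul_mulVec, Matrix.one_mulVec]
      exact (Φ.restrictScalars F).map_smul z u
    have hchar : (x : Matrix (Fin 2 ⊕ Fin 2) (Fin 2 ⊕ Fin 2) F).charpoly =
        (y : Matrix (Fin 2 ⊕ Fin 2) (Fin 2 ⊕ Fin 2) F).charpoly := by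
      rcases hz' with rfl | rfl
      · have key : ∀ w ∈ spGL 2 F, (w : Matrix (Fin 2 ⊕ Fin 2) (Fin 2 ⊕ Fin 2) F) * w = (1 : F) • 1 →
            (∀ c : F, (w : Matrix (Fin 2 ⊕ Fin 2) (Fin 2 ⊕ Fin 2) F) ≠ c • 1) →
            finrank F (eig (w : Matrix (Fin 2 ⊕ Fin 2) (Fin 2 ⊕ Fin 2) F) (-1)) = 2 := by
          intro w hw hww hwns
          rw [one_smul] at hww
          obtain ⟨m, hm⟩ := symp_one_eig w hw hww h2
          have hle := Submodule.finrank_le (eig (w : Matrix (Fin 2 ⊕ Fin 2) (Fin 2 ⊕ Fin 2) F) (-1))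
          rw [Module.finrank_fintype_fun_eq_card, Fintype.card_sum, Fintype.card_fin] at hle
          have hne : m ≠ 2 ∧ m ≠ 0 := by
            constructor
            · intro hm2
              refine hwns (-1) (Matrix.ext_iff_mulVec.2 fun v => ?_)
              have htop : eig (w : Matrix (Fin 2 ⊕ Fin 2) (Fin 2 ⊕ Fin 2) F) (-1) = ⊤ :=
                Submodule.eq_top_of_finrank_eq (by
                  rw [hm, hm2, Module.finrank_fintype_fun_eq_card, Fintype.card_sum, Fintype.card_fin])
              rw [mem_eig.1 (htop ▸ Submodule.mem_top : v ∈ eig _ _), Matrix.smul_mulVec, Matrix.one_mulVec]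
            · intro hm0
              refine hwns 1 (Matrix.ext_iff_mulVec.2 fun v => ?_)
              have hbot : eig (w : Matrix (Fin 2 ⊕ Fin 2) (Fin 2 ⊕ Fin 2) F) (-1) = ⊥ :=
                Submodule.finrank_eq_zero.1 (by omega)
              have hv : v - (w : Matrix (Fin 2 ⊕ Fin 2) (Fin 2 ⊕ Fin 2) F) *ᵥ v ∈
                  eig (w : Matrix (Fin 2 ⊕ Fin 2) (Fin 2 ⊕ Fin 2) F) (-1) := by
                rw [mem_eig, Matrix.mulVec_sub, Matrix.mulVec_mulVec, hww, Matrix.one_mulVec, neg_one_smul, neg_sub]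
              rw [hbot, Submodule.mem_bot, sub_eq_zero] at hv
              rw [one_smul, Matrix.one_mulVec]; exact hv.symm
          omega
        rw [charpoly_of_sq_one (by rw [hz, one_smul]), charpoly_of_sq_one (by rw [hy2, one_smul]),
          key x hx hz hns, key y hy hy2 fun c hc => hTne rfl c fun u => Φ.injective (by
            rw [← ofCoord_apply, show (y : Matrix (Fin 2 ⊕ Fin 2) (Fin 2 ⊕ Fin 2) F) = c • 1 from hc,
              Matrix.smul_mulVec, Matrix.one_mulVec]
            exact ((Φ.restrictScalars F).map_smul c u).symm)]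
      · exact (charpoly_of_sq_neg_one (M := x.1) hx h2 hz).trans (charpoly_of_sq_neg_one (M := y.1) hy h2 hy2).symm
    obtain ⟨g, hg, hgy⟩ := exists_conj (p := p) h2 hx hy hz' hz hy2 hchar
    exact ⟨g, hg, hgy ▸ hyN⟩

end Cfsg.Agent.FieldExtSympDerange
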