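import Cfsg.Agent.Lib.Classical.FieldExtSympDerange
import Cfsg.Agent.Lib.Classical.Unit
import Cfsg.Agent.Lib.Classical.NormalForms

/-! Elements of prime order of symplectic groups and quadratic extension-field subgroups of unitary type. -/

set_option autoImplicit false
set_option linter.unusedSectionVars false

namespace Cfsg.Agent.FieldExtUnitDerange

open Matrix Module Polynomial Cfsg.Agent.SelfReciprocalFactors Cfsg.Agent.FieldExtNormalizer
  Cfsg.Agent.FieldExtSympBasic Cfsg.Agent.Classical Cfsg.Agent.Classical.Overfield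

variable {F : Type*} [Field F] {d : ℕ}

local notation "V" => (Fin d ⊕ Fin d → F)
local notation "Mn" => Matrix (Fin d ⊕ Fin d) (Fin d ⊕ Fin d) F
local notation "B" => sympForm d F
local notation "GLd" => GL (Fin d ⊕ Fin d) F

section Over

variable {E : Type*} [Field E] [Algebra F E] [Module E (Fin d ⊕ Fin d → F)]
  [IsScalarTower F E (Fin d ⊕ Fin d → F)] {q : ℕ}

/-- The data of a skew square root. -/
structure Skew [Fintype E] [Fintype F] (q : ℕ) (j : E) (δ : F) : Prop where
  two : (2 : F) ≠ 0
  cardF : Fintype.card F = q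
  cardE : Fintype.card E = q ^ 2
  sq : j * j = algebraMap F E δ
  nsq : ¬ IsSquare δ
  span : ∀ a : E, ∃ s t : F, a = algebraMap F E s + algebraMap F E t * j
  skew : ∀ x y : Fin d ⊕ Fin d → F, sympForm d F (j • x) y = -sympForm d F x (j • y)

variable [Fintype E] [Fintype F] {j : E} {δ : F} (hS : Skew (d := d) q j δ)

include hS

theorem j_ne : j ≠ 0 := fun h => hS.nsq (by
  have h1 := hS.sq
  rw [h, mul_zero] at h1
  exact ⟨0, by rw [mul_zero]; exact (map_eq_zero (algebraMap F E)).1 h1.symm⟩)

theorem two_E : (2 : E) ≠ 0 := by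
  rw [← map_ofNat (algebraMap F E) 2]; exact (_root_.map_ne_zero _).2 hS.two

theorem frob_base (s : F) : qFrob hS.cardE (algebraMap F E s) = algebraMap F E s := by
  rw [qFrob_apply, ← map_pow, ← hS.cardF, FiniteField.pow_card]

theorem frob_j : qFrob hS.cardE j = -j := by
  have h1 : qFrob hS.cardE j * qFrob hS.cardE j = j * j := by rw [← map_mul, hS.sq, frob_base hS]
  refine (mul_self_eq_mul_self_iff.1 h1).resolve_left fun h2 => ?_
  refine qFrob_ne_id hS.cardE (RingHom.ext fun a => ?_)
  obtain ⟨s, t, rfl⟩ := hS.span a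
  rw [map_add, map_mul, frob_base hS, frob_base hS, h2, RingHom.id_apply]

/-- Coordinates turning the form into the skew part of the standard Hermitian form. -/
theorem exists_coords (hd : finrank E (Fin d ⊕ Fin d → F) = d) :
    ∃ Φ : (Fin d → E) ≃ₗ[E] V, ∀ u v, hermForm d E q u v - qFrob hS.cardE (hermForm d E q u v) =
      2 * j * algebraMap F E (B (Φ u) (Φ v)) := by
  classical
  haveI : Module.Finite E V := Module.Finite.of_restrictScalars_finite F E _
  let A := algebraMap F E
  let h : V → V → E := fun v w => A (B (j • v) w) + A (B v w) * j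
  have hsm : ∀ (s : F) (x : V), A s • x = s • x := fun s x => algebraMap_smul E s x
  have hjj : ∀ x : V, j • j • x = δ • x := fun x => by rw [smul_smul, hS.sq, algebraMap_smul]
  have hadd : ∀ v v' w, h (v + v') w = h v w + h v' w := fun v v' w => by
    simp only [h, smul_add, sympForm_add_left, map_add]; ring
  have hsmul : ∀ a v w, h (a • v) w = a * h v w := fun a v w => by
    obtain ⟨s, t, rfl⟩ := hS.span a
    have e1 : (A s + A t * j) • v = s • v + t • (j • v) := by rw [add_smul, mul_smul, hsm, hsm]
    have e2 : j • (s • v + t • (j • v)) = s • (j • v) + (t * δ) • v := by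
      rw [smul_add, smul_comm j s v, smul_comm j t, hjj, smul_smul]
    simp only [h]
    rw [e1, e2]
    simp only [sympForm_add_left, sympForm_smul_left, map_add, map_mul, A]
    linear_combination (-(algebraMap F E t * algebraMap F E (B v w))) * hS.sq
  have hsymm : ∀ v w, qFrob hS.cardE (h v w) = h w v := fun v w => by
    simp only [h]
    rw [map_add, map_mul, frob_base hS, frob_base hS, frob_j hS, hS.skew w v, sympForm_swap w (j • v),
      sympForm_swap w v, neg_neg, map_neg]
    ring
  have hdiff : ∀ v w, h v w - qFrob hS.cardE (h v w) = 2 * j * A (B v w) := fun v w => by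
    simp only [h]
    rw [map_add, map_mul, frob_base hS, frob_base hS, frob_j hS]
    ring
  let bH : V →ₛₗ[qFrob hS.cardE] V →ₗ[E] E := LinearMap.mk₂'ₛₗ (qFrob hS.cardE) (RingHom.id E) (fun w v => h v w)
    (fun w w' v => by rw [← hsymm, hadd, map_add, hsymm, hsymm])
    (fun c w v => by rw [← hsymm, hsmul, map_mul, hsymm, smul_eq_mul])
    (fun w v v' => hadd v v' w) (fun c w v => by rw [hsmul]; rfl)
  have hbH : ∀ w v, bH w v = h v w := fun w v => rfl
  obtain ⟨b, -, hb⟩ := exists_orthonormal_family_herm bH (qFrob_ne_id hS.cardE) (qFrob_qFrob hS.cardE)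
    ⟨fun w v => by rw [hbH, hbH]; exact hsymm v w⟩ d ⊤ (fun w _ hw => by
      obtain ⟨v, hv⟩ := exists_sympForm_eq_one hw
      refine ⟨v, trivial, fun h0 => ?_⟩
      rw [hbH] at h0
      have h1 := hdiff v w
      rw [h0, map_zero, sub_zero, sympForm_swap, hv, map_neg, map_one, mul_neg, mul_one, eq_comm, neg_eq_zero] at h1
      exact mul_ne_zero (two_E hS) (j_ne hS) h1) (by rw [finrank_top, hd])
  have hli : LinearIndependent E b := Fintype.linearIndependent_iff.2 fun g hg i => by
    have := congrArg (bH (b i)) hg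
    simpa [map_sum, hb] using this
  let Bb := basisOfLinearIndependentOfCardEqFinrank' b hli (by rw [Fintype.card_fin, hd])
  refine ⟨Bb.equivFun.symm, fun u v => ?_⟩
  rw [← hdiff]
  have e : h (Bb.equivFun.symm u) (Bb.equivFun.symm v) = hermForm d E q u v := by
    rw [← hbH, Basis.equivFun_symm_apply, Basis.equivFun_symm_apply, map_sum, hermForm]
    refine Finset.sum_congr rfl fun i _ => ?_
    rw [map_smul, map_sum, LinearMap.sum_apply, Finset.sum_eq_single i]
    · simp [Bb, hb, qFrob_apply, mul_comm]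
    · intro l _ hl
      simp [Bb, hb, hl, Ne.symm hl]
    · simp
  rw [e]

variable (Φ : (Fin d → E) ≃ₗ[E] (Fin d ⊕ Fin d → F))

omit hS in
/-- An `F`-linear map in coordinates, as a matrix. -/
noncomputable def ofCoord : ((Fin d → E) ≃ₗ[F] (Fin d → E)) →* GL (Fin d ⊕ Fin d) F where
  toFun T := (LinearMap.GeneralLinearGroup.generalLinearEquiv F V).symm
      (((Φ.restrictScalars F).symm.trans T).trans (Φ.restrictScalars F)) |>
    Matrix.GeneralLinearGroup.toLin.symm
  map_one' := by
    rw [show ((Φ.restrictScalars F).symm.trans 1).trans (Φ.restrictScalars F) = 1 from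
      LinearEquiv.ext fun x => by simp]
    simp
  map_mul' S T := by
    rw [← map_mul, ← map_mul]
    congr 2
    exact LinearEquiv.ext fun x => by simp

omit hS in
theorem ofCoord_apply (T : (Fin d → E) ≃ₗ[F] (Fin d → E)) (u : Fin d → E) :
    (ofCoord Φ T : Mn) *ᵥ Φ u = Φ (T u) := by
  show LinearMap.toMatrix' _ *ᵥ _ = _
  rw [LinearMap.toMatrix'_mulVec]
  simp [LinearMap.GeneralLinearGroup.generalLinearEquiv]

omit hS in
theorem ofCoord_injective : Function.Injective (ofCoord Φ : _ → GLd) := fun S T h => LinearEquiv.ext fun u =>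
  Φ.injective (by rw [← ofCoord_apply, ← ofCoord_apply, h])

theorem ofCoord_mem {K : Subalgebra F (Matrix (Fin d ⊕ Fin d) (Fin d ⊕ Fin d) F)} {k : ℕ}
    (hK : Geo.IsFieldSubalgebra k K) (hk : 0 < k) (hdesc : Describes K E)
    (hΦ : ∀ u v, hermForm d E q u v - qFrob hS.cardE (hermForm d E q u v) = 2 * j * algebraMap F E (B (Φ u) (Φ v)))
    (T : (Fin d → E) ≃ₗ[F] (Fin d → E))
    (hT : ∀ u v, hermForm d E q (T u) (T v) - qFrob hS.cardE (hermForm d E q (T u) (T v)) =
      hermForm d E q u v - qFrob hS.cardE (hermForm d E q u v))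
    (σ : E → E) (hσ : ∀ (a : E) u, T (a • u) = σ a • T u) :
    ofCoord Φ T ∈ Geo.subalgebraNormalizer K ⊓ spGL d F := by
  refine ⟨mem_normalizer hK hk fun A hA => ?_, fun x y => ?_⟩
  · obtain ⟨a, ha⟩ := (hdesc A).1 hA
    let L : V →ₗ[F] V := (LinearMap.lsmul E V (σ a)).restrictScalars F
    refine ⟨LinearMap.toMatrix' L, (hdesc _).2 ⟨σ a, fun x => LinearMap.toMatrix'_mulVec L x⟩, ?_⟩
    refine Matrix.ext_iff_mulVec.2 fun x => ?_
    obtain ⟨u, rfl⟩ := Φ.surjective x
    rw [← Matrix.mulVec_mulVec, ← Matrix.mulVec_mulVec, ha, ← map_smul, ofCoord_apply, ofCoord_apply,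
      LinearMap.toMatrix'_mulVec, hσ, map_smul]
    rfl
  · obtain ⟨u, rfl⟩ := Φ.surjective x
    obtain ⟨v, rfl⟩ := Φ.surjective y
    show B ((ofCoord Φ T : Mn) *ᵥ Φ u) ((ofCoord Φ T : Mn) *ᵥ Φ v) = _
    rw [ofCoord_apply, ofCoord_apply]
    exact (algebraMap F E).injective (mul_left_cancel₀ (mul_ne_zero (two_E hS) (j_ne hS))
      ((hΦ (T u) (T v)).symm.trans ((hT u v).trans (hΦ u v))))

end Over

theorem aeval_pow_card [Fintype F] (y : Mn) (P : F[X]) :
    ∀ h : ℕ, aeval y P ^ (Fintype.card F ^ h) = aeval (y ^ (Fintype.card F ^ h)) P := by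
  intro h
  induction h with
  | zero => simp
  | succ h ih =>
    rw [pow_succ, pow_mul, ih, ← map_pow, ← FiniteField.expand_card, expand_aeval, ← pow_mul]

variable [Fintype F]

set_option maxHeartbeats 1000000 in
/-- Conjugacy into extension-field subgroups of unitary type, elements of prime order. -/
theorem criterion (p : ℕ) [Fact p.Prime] [CharP F p] {q : ℕ} (hq : Fintype.card F = q) (hodd : Odd q) (hd : 2 ≤ d)
    (K : Subalgebra F (Matrix (Fin d ⊕ Fin d) (Fin d ⊕ Fin d) F)) (hK : Geo.IsFieldSubalgebra 2 K)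
    (hKf : Geo.IsAdjointClosedFor (sympForm d F) K) (hKns : ¬ Geo.IsSelfAdjointFor (sympForm d F) K)
    (r : ℕ) [hr : Fact r.Prime] (hΩ : r ∣ (Geo.subalgebraNormalizer K).relIndex (spGL d F)) :
    (∀ x ∈ spGL d F, (∃ z : F, ((x ^ r : GLd) : Mn) = z • 1) → (∀ z : F, (x : Mn) ≠ z • 1) →
      ∃ g ∈ spGL d F, g⁻¹ * x * g ∈ Geo.subalgebraNormalizer K) ↔ r = 2 := by
  classical
  subst hq
  have h20 : (2 : F) ≠ 0 := fun h0 => by
    have hc : ringChar F = 2 := (CharTwo.of_one_ne_zero_of_two_eq_zero one_ne_zero h0) |> fun h => by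
      haveI := h; exact ringChar.eq F 2
    have := FiniteField.even_card_of_char_two hc
    rw [Nat.odd_iff] at hodd; omega
  letI : Field ↥K := fieldOf hK two_pos
  have hsm : ∀ (a : ↥K) (x : V), a • x = (a : Mn) *ᵥ x := fun _ _ => rfl
  haveI : IsScalarTower F ↥K V := ⟨fun c a x => by
    rw [hsm, hsm, show ((c • a : ↥K) : Mn) = c • (a : Mn) from rfl, Matrix.smul_mulVec]⟩
  haveI : Fintype ↥K := Fintype.ofFinite _
  have hdesc : Describes K ↥K := fun A => ⟨fun hA => ⟨⟨A, hA⟩, fun x => (hsm ⟨A, hA⟩ x).symm⟩, fun ⟨a, ha⟩ => by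
    have : A = (a : Mn) := Matrix.ext_iff_mulVec.2 fun x => (ha x).trans (hsm a x)
    rw [this]; exact a.2⟩
  -- the skew square root
  obtain ⟨j, δ, hS⟩ : ∃ (j : ↥K) (δ : F), Skew (d := d) (Fintype.card F) j δ := by
    obtain ⟨a, ha, hnsa⟩ : ∃ a ∈ K, ¬ ∀ u v, B (a *ᵥ u) v = B u (a *ᵥ v) := by
      by_contra hall
      push Not at hall
      exact hKns hall
    obtain ⟨a', ha', hadj⟩ := hKf a ha
    have hadj' : ∀ u v, B (a' *ᵥ u) v = B u (a *ᵥ v) := fun u v => by
      rw [sympForm_swap (a' *ᵥ u) v, ← hadj v u, sympForm_swap u (a *ᵥ v)]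
    let j : ↥K := ⟨a, ha⟩ - ⟨a', ha'⟩
    have hj : ∀ x y, B (j • x) y = -B x (j • y) := fun x y => by
      simp only [hsm, j, AddSubgroupClass.coe_sub, Matrix.sub_mulVec]
      rw [sympForm_sub_left, sympForm_sub_right, hadj, hadj']; ring
    have hnot : ∀ s : F, j ≠ algebraMap F ↥K s := fun s hs => by
      have h2 : ∀ x y, s * B x y = -(s * B x y) := fun x y => by
        have := hj x y
        rwa [hs, algebraMap_smul, algebraMap_smul, sympForm_smul_left, sympForm_smul_right] at this
      refine hnsa fun u v => ?_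
      have e : a = a' := by
        refine Matrix.ext_iff_mulVec.2 fun w => sub_eq_zero.1 (eq_zero_of_sympForm_eq_zero fun z => ?_)
        rw [← Matrix.sub_mulVec, show (a - a') *ᵥ w = j • w from (hsm j w).symm, hs, algebraMap_smul,
          sympForm_smul_left]
        have h3 : (2 : F) * (s * B w z) = 0 := by linear_combination h2 w z
        exact (mul_eq_zero.1 h3).resolve_left h20
      rw [hadj, ← e]
    have hli : LinearIndependent F ![(1 : ↥K), j] := by
      refine LinearIndependent.pair_iff.2 fun s t hst => ?_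
      by_cases ht : t = 0
      · subst ht
        rw [zero_smul, add_zero, smul_eq_zero] at hst
        exact ⟨hst.resolve_right one_ne_zero, rfl⟩
      · exfalso
        refine hnot (-s / t) ?_
        rw [Algebra.algebraMap_eq_smul_one, div_eq_inv_mul, mul_smul, neg_smul,
          show -(s • (1 : ↥K)) = t • j from (eq_neg_of_add_eq_zero_right hst).symm, smul_smul, inv_mul_cancel₀ ht, one_smul]
    let bb := basisOfLinearIndependentOfCardEqFinrank hli (by rw [Fintype.card_fin, hK.finrank_eq])
    have hspan : ∀ a : ↥K, ∃ s t : F, a = algebraMap F ↥K s + algebraMap F ↥K t * j := fun a => by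
      refine ⟨bb.repr a 0, bb.repr a 1, ?_⟩
      conv_lhs => rw [← bb.sum_repr a, Fin.sum_univ_two]
      simp [bb, Algebra.algebraMap_eq_smul_one]
    obtain ⟨δ, β, hjj⟩ := hspan (j * j)
    have hβ : β = 0 := by
      by_contra hb
      obtain ⟨v, hv⟩ : ∃ v : V, v ≠ 0 :=
        ⟨Pi.single (Sum.inl ⟨0, by omega⟩) 1, fun e => by simpa using congrFun e (Sum.inl ⟨0, by omega⟩)⟩
      have h1 : ∀ x y, β * B (j • x) y = 0 := fun x y => by
        have e1 : B ((j * j) • x) y = B x ((j * j) • y) := by rw [mul_smul, mul_smul, hj, hj, neg_neg]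
        rw [hjj, add_smul, add_smul, mul_smul, mul_smul, algebraMap_smul, algebraMap_smul, algebraMap_smul,
          algebraMap_smul, sympForm_add_left, sympForm_add_right, sympForm_smul_left, sympForm_smul_left,
          sympForm_smul_right, sympForm_smul_right] at e1
        have h3 : (2 : F) * (β * B (j • x) y) = 0 := by linear_combination e1 + β * hj x y
        exact (mul_eq_zero.1 h3).resolve_left h20
      have h4 : j • v = 0 := eq_zero_of_sympForm_eq_zero fun y => (mul_eq_zero.1 (h1 v y)).resolve_left hb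
      have h5 : j = 0 := by
        by_contra hj0
        rw [hsm] at h4
        exact hv (eq_zero_of_mem hK j.2 (fun e => hj0 (Subtype.ext e)) h4)
      exact hnot 0 (by rw [h5, map_zero])
    rw [hβ, map_zero, zero_mul, add_zero] at hjj
    have hcardE : Fintype.card ↥K = Fintype.card F ^ 2 := by
      rw [Module.card_eq_pow_finrank (K := F), hK.finrank_eq]
    refine ⟨j, δ, h20, rfl, hcardE, hjj, fun ⟨s, hs⟩ => ?_, hspan, hj⟩
    rw [hs, map_mul] at hjj
    rcases mul_self_eq_mul_self_iff.1 hjj with h | h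
    · exact hnot s h
    · exact hnot (-s) (by rw [h, map_neg])
  have hfin : finrank ↥K V = d := by
    haveI : Module.Finite ↥K V := Module.Finite.of_restrictScalars_finite F ↥K _
    have h1 := Module.finrank_mul_finrank F ↥K V
    rw [Module.finrank_fintype_fun_eq_card, Fintype.card_sum, Fintype.card_fin, hK.finrank_eq] at h1
    omega
  obtain ⟨Φ, hΦ⟩ := exists_coords hS hfin
  have hjm : ∀ x, (j : Mn) *ᵥ ((j : Mn) *ᵥ x) = δ • x := fun x => by
    rw [← hsm, ← hsm, smul_smul, hS.sq, algebraMap_smul]
  constructor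
  · intro H
    by_contra hr2
    by_cases hrp : r = p
    · obtain ⟨x, hx, hxp, hns, hdim⟩ := exists_transvection (F := F) (p := p) (d := d) (by omega)
      obtain ⟨g, hg, hgN⟩ := H x hx ⟨1, hrp.symm ▸ hxp⟩ hns
      refine not_conj_eig hK two_pos (d := finrank F (eig (x : Mn) 1)) rfl ?_ ?_ hgN
      · rw [Fintype.card_sum, Fintype.card_fin]; omega
      · omega
    have hrne : (r : F) ≠ 0 := fun h0 =>
      hrp ((Nat.prime_dvd_prime_iff_eq (Fact.out : p.Prime) hr.out).1 ((CharP.cast_eq_zero_iff F p r).1 h0)).symm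
    set i := orderOf (Fintype.card F : ZMod r) with hi
    have hq0 : (Fintype.card F : ZMod r) ≠ 0 := fun h0 => by
      rw [ZMod.natCast_eq_zero_iff] at h0
      obtain ⟨l, -, hl⟩ := FiniteField.card F p
      rw [hl] at h0
      exact hrp ((Nat.prime_dvd_prime_iff_eq hr.out Fact.out).1 (hr.out.dvd_of_dvd_pow h0))
    obtain ⟨t, ht⟩ : ∃ t, t * i = r - 1 := by
      obtain ⟨t, ht⟩ := ZMod.orderOf_dvd_card_sub_one hq0
      exact ⟨t, by rw [ht, mul_comm]⟩
    have h : Ctx F r i t := ⟨hr.out, hr2, hrne, hi, ht⟩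
    have hfac : ∀ l, r ∣ Fintype.card F ^ (2 * l) - 1 → basicDeg i ∣ 2 * l := fun l hl => by
      refine FieldExtSympDerange.basicDeg_dvd (orderOf_dvd_of_pow_eq_one ?_)
      have h1 : 1 ≤ Fintype.card F ^ (2 * l) := Nat.one_le_pow _ _ Fintype.card_pos
      have h4 := congrArg (fun a : ℕ => (a : ZMod r)) (Nat.sub_add_cancel h1)
      push_cast at h4
      rw [(ZMod.natCast_eq_zero_iff _ _).2 hl, zero_add] at h4
      exact h4.symm
    have hcardS : Nat.card (spGL d F) = Fintype.card F ^ (d ^ 2) *
        ∏ l ∈ Finset.range d, (Fintype.card F ^ (2 * (l + 1)) - 1) := by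
      have e1 : spGL d F ≃ Matrix.symplecticGroup (Fin d) F :=
        Equiv.ofBijective (fun g => toSymp g.1 g.2) ⟨fun a b hab => Subtype.ext (Units.ext (congrArg Subtype.val hab)),
          fun x => by
            obtain ⟨g, hg⟩ : ∃ g : GLd, (g : Mn) = x.1 :=
              (Matrix.isUnit_iff_isUnit_det _).2 (SymplecticGroup.symplectic_det x.2)
            exact ⟨⟨g, fun u v => by
              show B (g.1 *ᵥ u) (g.1 *ᵥ v) = B u v
              rw [hg]; exact mem_symplecticGroup_iff_form.1 x.2 u v⟩, Subtype.ext hg⟩⟩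
      rw [Nat.card_congr e1, Classical.natCard_symplecticGroup, Nat.card_eq_fintype_card]
    by_cases hi4 : i % 4 = 2
    · -- the index is prime to `r`
      let ψ : GU d ↥K (Fintype.card F) →* GLd := (ofCoord (F := F) Φ).comp
        { toFun := fun A => LinearEquiv.ofBijective ((Matrix.toLin' A.1.1).restrictScalars F) (by
            have hi' : Function.Injective (Matrix.toLin' A.1.1) := fun a b hab => by
              have := congrArg (fun w => (A.1⁻¹).1 *ᵥ w) hab
              simpa [Matrix.mulVec_mulVec] using this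
            exact ⟨hi', LinearMap.surjective_of_injective hi'⟩)
          map_one' := LinearEquiv.ext fun u => by simp
          map_mul' := fun A A' => LinearEquiv.ext fun u => (Matrix.mulVec_mulVec u _ _).symm }
      have hψ : ∀ A, ψ A ∈ Geo.subalgebraNormalizer K ⊓ spGL d F := fun A =>
        ofCoord_mem hS Φ hK two_pos hdesc hΦ _ (fun u v =>
          congrArg (fun H => H - qFrob hS.cardE H) (A.2 u v)) id fun a u => map_smul (Matrix.toLin' A.1.1) a u
      let ψ' := ψ.codRestrict (Geo.subalgebraNormalizer K ⊓ spGL d F) hψ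
      have hψi : Function.Injective ψ' := fun A A' hA => Subtype.ext (Units.ext (Matrix.toLin'.injective
        (LinearMap.ext fun u => by
          have := LinearEquiv.congr_fun (ofCoord_injective (F := F) Φ (congrArg Subtype.val hA)) u
          exact this)))
      have hdvd := Subgroup.card_dvd_of_injective ψ' hψi
      have hGU := order_GU hS.cardE d
      set Q : ℕ := Fintype.card F with hQ
      set M : ℤ := (Q : ℤ) ^ (d ^ 2 - d * (d - 1) / 2) * ∏ l ∈ Finset.range d, ((Q : ℤ) ^ (l + 1) - (-1) ^ l) with hM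
      have hexp : d * (d - 1) / 2 ≤ d ^ 2 := by
        rw [sq]; exact (Nat.div_le_self _ _).trans (Nat.mul_le_mul_left _ (Nat.sub_le _ _))
      have hsplit : ((Nat.card (spGL d F) : ℕ) : ℤ) = (Nat.card (GU d ↥K Q) : ℤ) * M := by
        have e1 : ∀ l : ℕ, ((Q ^ (2 * (l + 1)) - 1 : ℕ) : ℤ) =
            ((Q : ℤ) ^ (l + 1) + (-1) ^ l) * ((Q : ℤ) ^ (l + 1) - (-1) ^ l) := fun l => by
          rw [Nat.cast_sub (Nat.one_le_pow _ _ Fintype.card_pos)]
          push_cast
          have : ((-1 : ℤ) ^ l) * (-1) ^ l = 1 := by rw [← mul_pow]; norm_num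
          linear_combination this
        rw [hcardS, Nat.cast_mul, Nat.cast_prod, Nat.cast_pow, Finset.prod_congr rfl fun l _ => e1 l,
          Finset.prod_mul_distrib, hGU, hM]
        conv_lhs => rw [show d ^ 2 = d * (d - 1) / 2 + (d ^ 2 - d * (d - 1) / 2) by omega, pow_add]
        ring
      obtain ⟨f, hf2, hqf⟩ : ∃ f : ℕ, Odd f ∧ (-(Q : ZMod r)) ^ f = 1 := by
        refine ⟨i / 2, Nat.odd_iff.2 (by omega), ?_⟩
        have hodd' : Odd (i / 2) := Nat.odd_iff.2 (by omega)
        have h1 : ((Q : ZMod r) ^ (i / 2)) * ((Q : ZMod r) ^ (i / 2)) = 1 := by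
          rw [← pow_add, show i / 2 + i / 2 = i by omega, hi, pow_orderOf_eq_one]
        rcases mul_self_eq_one_iff.1 h1 with h2 | h2
        · have := Nat.le_of_dvd (by omega) (orderOf_dvd_of_pow_eq_one h2)
          omega
        · rw [hodd'.neg_pow, h2, neg_neg]
      refine not_dvd_relIndex (M := M.natAbs) Nat.card_pos ?_ hdvd (fun hd' => ?_) hΩ
      · have h3 := congrArg Int.natAbs hsplit
        rwa [Int.natAbs_mul, Int.natAbs_natCast, Int.natAbs_natCast] at h3
      · have h1 : ((M : ℤ) : ZMod r) = 0 := (ZMod.intCast_zmod_eq_zero_iff_dvd _ _).2 (Int.natCast_dvd.2 hd')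
        rw [hM] at h1
        push_cast at h1
        rcases mul_eq_zero.1 h1 with h' | h'
        · exact hq0 (eq_zero_of_pow_eq_zero h')
        · obtain ⟨l, -, hl⟩ := Finset.prod_eq_zero_iff.1 h'
          have h3 : (-(Q : ZMod r)) ^ (l + 1) = -1 := by
            rw [neg_pow, sub_eq_zero.1 hl, pow_succ (-1 : ZMod r), show (-1 : ZMod r) ^ l * -1 * (-1) ^ l =
              -(((-1) * (-1)) ^ l) by rw [mul_pow]; ring]
            norm_num
          have h5 : ((-(Q : ZMod r)) ^ (l + 1)) ^ f = 1 := by rw [← pow_mul, mul_comm, pow_mul, hqf, one_pow]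
          rw [h3, hf2.neg_one_pow] at h5
          haveI : Fact (2 < r) := ⟨lt_of_le_of_ne hr.out.two_le (Ne.symm hr2)⟩
          exact ZMod.neg_one_ne_one h5
    · -- a witness
      have hc : basicDeg i ≤ d + d := by
        have h1 := hΩ.trans (Subgroup.relIndex_dvd_card _ _)
        rw [hcardS] at h1
        rcases hr.out.dvd_mul.1 h1 with h' | h'
        · exact absurd ((ZMod.natCast_eq_zero_iff _ _).2 (hr.out.dvd_of_dvd_pow h')) hq0
        · obtain ⟨l, hl, hl'⟩ := (Nat.prime_iff.1 hr.out).exists_mem_finset_dvd h'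
          have h5 := Nat.le_of_dvd (by omega) (hfac _ hl')
          rw [Finset.mem_range] at hl
          omega
      obtain ⟨f, hf⟩ : (factorSet F r).Nonempty := Finset.card_pos.1 (by
        rw [card_factorSet h]
        rcases Nat.eq_zero_or_pos t with rfl | h'
        · have := hr.out.two_le; omega
        · exact h')
      obtain ⟨x, hx, hxr, hns, hxP⟩ := exists_witness h hf hc
      obtain ⟨g, hg, hgN⟩ := H x hx ⟨1, hxr⟩ hns
      set y := g⁻¹ * x * g
      have hy : y ∈ spGL d F := mul_mem (mul_mem (inv_mem hg) hx) hg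
      have hyP : (y : Mn).charpoly = basic i f * (X - Polynomial.C 1) ^ (d + d - basicDeg i) := by
        rw [← hxP, Units.val_mul, Units.val_mul, Matrix.coe_units_inv]
        exact Matrix.charpoly_units_conj' g _
      have hr1 : (y : Mn) ^ r = 1 := by
        rw [← Units.val_pow_eq_pow_val, show y = g⁻¹ * x * g⁻¹⁻¹ by rw [inv_inv], conj_pow, inv_inv,
          show x ^ r = 1 from Units.ext (by rw [hxr, one_smul, Units.val_one]), mul_one, inv_mul_cancel, Units.val_one]
      have hcomm := comm_of_pow hK Nat.prime_two hr.out hr2 hgN (z := 1)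
        (by rw [Units.val_pow_eq_pow_val, hr1, one_smul])
      obtain ⟨hfm, hfi, hfd, -⟩ := mem_data h hf
      obtain ⟨hτ, hiff⟩ := rdual_mem h hf
      have hne1 : ¬ f ∣ X - Polynomial.C 1 := fun hdv => X_sub_one_notMem h
        (Polynomial.eq_of_monic_of_associated hfm (monic_X_sub_C 1) (hfi.associated_of_dvd (irreducible_X_sub_C 1) hdv) ▸ hf)
      set W₀ := LinearMap.ker (Matrix.toLin' (aeval (y : Mn) f)) with hW₀def
      have hmem : ∀ v, v ∈ W₀ ↔ aeval (y : Mn) f *ᵥ v = 0 := fun v => by
        rw [hW₀def, LinearMap.mem_ker, Matrix.toLin'_apply]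
      have hW₀ : finrank F W₀ = i := by
        rw [← hfd]
        have hpow : ∀ m, IsCoprime f ((X - Polynomial.C 1) ^ m) := fun m =>
          (hfi.coprime_iff_not_dvd.2 hne1).pow_right
        by_cases he : Even i
        · rw [basic, if_pos he] at hyP
          exact finrank_ker_aeval (y : Mn) hfm ((monic_X_sub_C 1).pow _) (hpow _) hyP
        · rw [basic, if_neg he, mul_assoc] at hyP
          refine finrank_ker_aeval (y : Mn) hfm ((mem_data h hτ).1.mul ((monic_X_sub_C 1).pow _))
            ((hfi.coprime_iff_not_dvd.2 fun hdv => he (hiff.1 ?_)).mul_right (hpow _)) hyP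
          exact (Polynomial.eq_of_monic_of_associated hfm (mem_data h hτ).1
            (hfi.associated_of_dvd (mem_data h hτ).2.1 hdv)).symm
      have hcommP : ∀ (P : F[X]) (A : Mn), (y : Mn) * A = A * (y : Mn) → aeval (y : Mn) P * A = A * aeval (y : Mn) P := by
        intro P A hA
        induction P using Polynomial.induction_on' with
        | add P Q hP hQ => rw [map_add, Matrix.add_mul, Matrix.mul_add, hP, hQ]
        | monomial l c =>
          have : Commute ((y : Mn) ^ l) A := Commute.pow_left hA l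
          rw [aeval_monomial, ← Algebra.smul_def, Matrix.smul_mul, Matrix.mul_smul, this.eq]
      have hWK : ∀ a ∈ K, ∀ w ∈ W₀, a *ᵥ w ∈ W₀ := fun a ha w hw => by
        have hc' := hcommP f a (hcomm a ha)
        rw [hmem] at hw ⊢
        rw [Matrix.mulVec_mulVec, hc', ← Matrix.mulVec_mulVec, hw, Matrix.mulVec_zero]
      have hdvd2 := dvd_finrank hK two_pos W₀ hWK
      rw [hW₀] at hdvd2
      have hi4' : i % 4 = 0 := by omega
      have hev : Even i := Nat.even_iff.2 (by omega)
      have hi0 := i_pos h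
      -- `j` is a polynomial in `y` on `W₀`
      obtain ⟨v, hv, hv0⟩ : ∃ v ∈ W₀, v ≠ 0 :=
        Submodule.exists_mem_ne_zero_of_ne_bot fun e => by rw [e, finrank_bot] at hW₀; omega
      have hPW : ∀ P : F[X], aeval (y : Mn) P *ᵥ v ∈ W₀ := fun P => by
        rw [hmem, Matrix.mulVec_mulVec, ← map_mul, mul_comm, map_mul, ← Matrix.mulVec_mulVec, (hmem v).1 hv,
          Matrix.mulVec_zero]
      haveI : FiniteDimensional F (degreeLT F i) := LinearEquiv.finiteDimensional (degreeLTEquiv F i).symm
      let ev : degreeLT F i →ₗ[F] W₀ :=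
        { toFun := fun P => ⟨aeval (y : Mn) P.1 *ᵥ v, hPW P.1⟩
          map_add' := fun P P' => Subtype.ext (by simp [Matrix.add_mulVec])
          map_smul' := fun c P => Subtype.ext (by simp [Matrix.smul_mulVec]) }
      have hevi : Function.Injective ev := (injective_iff_map_eq_zero ev).2 fun P hP => by
        by_contra hP0
        have hP0' : P.1 ≠ 0 := fun e => hP0 (Subtype.ext e)
        have hco : IsCoprime f P.1 := hfi.coprime_iff_not_dvd.2 fun hdv => by
          have h1 := Polynomial.natDegree_le_of_dvd hdv hP0'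
          have h2 : P.1.natDegree < i := (natDegree_lt_iff_degree_lt hP0').2 (mem_degreeLT.1 P.2)
          omega
        obtain ⟨a, b, hab⟩ := hco
        have h1 := congrArg (fun R => aeval (y : Mn) R *ᵥ v) hab
        have hP' : aeval (y : Mn) P.1 *ᵥ v = 0 := congrArg Subtype.val hP
        simp only [map_add, map_mul, map_one, Matrix.add_mulVec, ← Matrix.mulVec_mulVec, (hmem v).1 hv, hP',
          Matrix.mulVec_zero, add_zero, Matrix.one_mulVec] at h1
        exact hv0 h1.symm
      have hevs : Function.Surjective ev := (LinearMap.injective_iff_surjective_of_finrank_eq_finrank (by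
        rw [hW₀, LinearEquiv.finrank_eq (degreeLTEquiv F i), Module.finrank_fin_fun])).1 hevi
      obtain ⟨P, hP⟩ := hevs ⟨(j : Mn) *ᵥ v, hWK _ j.2 v hv⟩
      have hPv : aeval (y : Mn) P.1 *ᵥ v = (j : Mn) *ᵥ v := congrArg Subtype.val hP
      have hPj : ∀ w ∈ W₀, aeval (y : Mn) P.1 *ᵥ w = (j : Mn) *ᵥ w := fun w hw => by
        obtain ⟨Q, hQ⟩ := hevs ⟨w, hw⟩
        have hQv : aeval (y : Mn) Q.1 *ᵥ v = w := congrArg Subtype.val hQ
        rw [← hQv, Matrix.mulVec_mulVec, ← map_mul, mul_comm, map_mul, ← Matrix.mulVec_mulVec, hPv,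
          Matrix.mulVec_mulVec, hcommP _ _ (hcomm _ j.2), ← Matrix.mulVec_mulVec]
      have hPl : ∀ l : ℕ, ∀ w ∈ W₀, aeval (y : Mn) P.1 ^ l *ᵥ w = (j : Mn) ^ l *ᵥ w := by
        intro l
        induction l with
        | zero => intro w _; simp
        | succ l ih =>
          intro w hw
          rw [pow_succ, ← Matrix.mulVec_mulVec, hPj w hw, ih _ (hWK _ j.2 w hw), Matrix.mulVec_mulVec, ← pow_succ]
      -- adjoints
      set Q := Fintype.card F with hQ
      obtain ⟨m, hm⟩ : ∃ m, i = 2 * (2 * m) := ⟨i / 4, by omega⟩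
      have hqm : Q ^ (2 * m) % r = r - 1 := by
        have h1 : ((Q : ZMod r) ^ (2 * m)) * ((Q : ZMod r) ^ (2 * m)) = 1 := by
          rw [← pow_add, ← two_mul, ← hm, hi, pow_orderOf_eq_one]
        rcases mul_self_eq_one_iff.1 h1 with h2 | h2
        · have := Nat.le_of_dvd (by omega) (orderOf_dvd_of_pow_eq_one h2)
          omega
        · have hr1' : 1 ≤ r := hr.out.one_lt.le
          have h3 : ((Q ^ (2 * m) : ℕ) : ZMod r) = ((r - 1 : ℕ) : ZMod r) := by
            rw [Nat.cast_pow, h2, Nat.cast_sub hr1', ZMod.natCast_self, Nat.cast_one, zero_sub]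
          rw [ZMod.natCast_eq_natCast_iff', Nat.mod_eq_of_lt (by omega : r - 1 < r)] at h3
          exact h3
      have hyQ : (y : Mn) ^ (Q ^ (2 * m)) = (y : Mn) ^ (r - 1) := by
        conv_lhs => rw [← Nat.div_add_mod (Q ^ (2 * m)) r, pow_add, pow_mul, hr1, one_pow, one_mul, hqm]
      have hadj : ∀ (R : F[X]) (a b : V), B (aeval (y : Mn) R *ᵥ a) b = B a (aeval ((y : Mn) ^ (r - 1)) R *ᵥ b) := by
        intro R
        induction R using Polynomial.induction_on' with
        | add R R' hR hR' =>
          intro a b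
          rw [map_add, map_add, Matrix.add_mulVec, Matrix.add_mulVec, sympForm_add_left, sympForm_add_right, hR, hR']
        | monomial l c =>
          intro a b
          have hpow : ∀ (l : ℕ) (a b : V), B ((y : Mn) ^ l *ᵥ a) b = B a (((y : Mn) ^ (r - 1)) ^ l *ᵥ b) := by
            intro l
            induction l with
            | zero => intro a b; simp
            | succ l ih =>
              intro a b
              rw [pow_succ, pow_succ', ← Matrix.mulVec_mulVec, ih, ← Matrix.mulVec_mulVec]
              conv_lhs => rw [show ((y : Mn) ^ (r - 1)) ^ l *ᵥ b = (y : Mn) *ᵥ ((y : Mn) ^ (r - 1) *ᵥ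
                (((y : Mn) ^ (r - 1)) ^ l *ᵥ b)) by
                rw [Matrix.mulVec_mulVec _ (y : Mn), ← pow_succ', Nat.sub_add_cancel hr.out.one_lt.le, hr1,
                  Matrix.one_mulVec]]
              exact hy _ _
          rw [aeval_monomial, aeval_monomial, ← Algebra.smul_def, ← Algebra.smul_def, Matrix.smul_mulVec,
            Matrix.smul_mulVec, sympForm_smul_left, sympForm_smul_right, hpow]
      have hjQ : (j : Mn) ^ (Q ^ (2 * m)) = (j : Mn) := by
        have h1 : j ^ (Q ^ (2 * m)) = j := by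
          rw [pow_mul Q 2 m, ← hS.cardE, FiniteField.pow_card_pow]
        exact (SubmonoidClass.coe_pow j _).symm.trans (congrArg Subtype.val h1)
      -- the block is totally isotropic and non-degenerate
      have hiso : ∀ a ∈ W₀, ∀ b ∈ W₀, B ((j : Mn) *ᵥ a) b = 0 := fun a ha b hb => by
        have e1 := hadj P.1 a b
        rw [hPj a ha, ← hyQ, ← aeval_pow_card, hPl _ b hb, hjQ] at e1
        have e2 : B ((j : Mn) *ᵥ a) b = -B a ((j : Mn) *ᵥ b) := by rw [← hsm, ← hsm]; exact hS.skew a b
        have h3 : (2 : F) * B ((j : Mn) *ᵥ a) b = 0 := by linear_combination e1 + e2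
        exact (mul_eq_zero.1 h3).resolve_left h20
      have hjW : ∀ a ∈ W₀, ∃ a' ∈ W₀, (j : Mn) *ᵥ a' = a := fun a ha => by
        refine ⟨δ⁻¹ • ((j : Mn) *ᵥ a), W₀.smul_mem _ (hWK _ j.2 a ha), ?_⟩
        have hδ : δ ≠ 0 := fun e => hS.nsq ⟨0, by rw [e, mul_zero]⟩
        rw [Matrix.mulVec_smul, hjm, smul_smul, inv_mul_cancel₀ hδ, one_smul]
      have hperp : ∀ w ∈ W₀, B v w = 0 := fun w hw => by
        obtain ⟨a', ha', hae⟩ := hjW v hv
        rw [← hae]; exact hiso a' ha' w hw
      -- `v` is orthogonal to everything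
      rw [basic, if_pos hev, basicDeg, if_pos hev] at hyP
      obtain ⟨L₁, hL₁⟩ : ∃ L₁ : F[X], L₁ = (X - Polynomial.C 1) ^ (d + d - i) := ⟨_, rfl⟩
      rw [← hL₁] at hyP
      have hL₁m : L₁.Monic := hL₁ ▸ (monic_X_sub_C 1).pow _
      have hco₁ : IsCoprime f L₁ := hL₁ ▸ (hfi.coprime_iff_not_dvd.2 hne1).pow_right
      have hdj : Disjoint W₀ (LinearMap.ker (Matrix.toLin' (aeval (y : Mn) L₁))) := by
        rw [Submodule.disjoint_def]
        intro w hw hw'
        rw [LinearMap.mem_ker, Matrix.toLin'_apply] at hw'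
        obtain ⟨a, b, hab⟩ := hco₁
        have h1 := congrArg (fun R => aeval (y : Mn) R *ᵥ w) hab
        simp only [map_add, map_mul, map_one, Matrix.add_mulVec, ← Matrix.mulVec_mulVec, (hmem w).1 hw, hw',
          Matrix.mulVec_zero, add_zero, Matrix.one_mulVec] at h1
        exact h1.symm
      set W₁ := LinearMap.ker (Matrix.toLin' (aeval (y : Mn) L₁))
      have hW₁ : finrank F W₁ = d + d - i := by
        rw [finrank_ker_aeval (y : Mn) hL₁m hfm hco₁.symm (by rw [hyP, mul_comm]), hL₁, natDegree_pow, natDegree_X_sub_C,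
          mul_one]
      have htop : W₀ ⊔ W₁ = ⊤ := Submodule.eq_top_of_disjoint _ _ (by
        rw [hW₀, hW₁, Module.finrank_fintype_fun_eq_card, Fintype.card_sum, Fintype.card_fin]
        unfold basicDeg at hc; rw [if_pos hev] at hc; omega) hdj
      obtain ⟨z, hz⟩ := exists_sympForm_eq_one hv0
      obtain ⟨a, ha, b, hb, rfl⟩ := Submodule.mem_sup.1 (show z ∈ W₀ ⊔ W₁ by rw [htop]; trivial)
      have hb' : aeval (y : Mn) L₁ *ᵥ b = 0 := by simpa [W₁] using hb
      obtain ⟨w', hw'⟩ : ∃ w', aeval ((y : Mn) ^ (r - 1)) L₁ *ᵥ b = 0 ∧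
          aeval (y : Mn) L₁ *ᵥ w' = v := by
        obtain ⟨a', b', hab⟩ := hco₁
        refine ⟨aeval (y : Mn) b' *ᵥ v, ?_, ?_⟩
        · rw [hL₁] at hb' ⊢
          rw [map_pow, map_sub, aeval_X, aeval_C, map_one]
          have hfacP : ((X - Polynomial.C 1 : F[X]) ^ (d + d - i)) ∣ (X ^ (r - 1) - Polynomial.C 1) ^ (d + d - i) :=
            pow_dvd_pow_of_dvd (by rw [map_one]; exact sub_one_dvd_pow_sub_one X (r - 1)) _
          obtain ⟨R, hR⟩ := hfacP
          have h6 := congrArg (fun R => aeval (y : Mn) R *ᵥ b) hR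
          simp only [map_mul, map_pow, map_sub, aeval_X, aeval_C, map_one] at h6
          simp only [map_pow, map_sub, aeval_X, aeval_C, map_one] at hb'
          rw [h6, ← hcommP R _ (((Commute.refl (y : Mn)).sub_right (Commute.one_right _)).pow_right _).eq,
            ← Matrix.mulVec_mulVec, hb', Matrix.mulVec_zero]
        · have h1 := congrArg (fun R => aeval (y : Mn) R *ᵥ v) hab
          simp only [map_add, map_mul, map_one, Matrix.add_mulVec, ← Matrix.mulVec_mulVec, (hmem v).1 hv,
            Matrix.mulVec_zero, zero_add, Matrix.one_mulVec] at h1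
          rw [Matrix.mulVec_mulVec, ← map_mul, mul_comm, map_mul, ← Matrix.mulVec_mulVec]
          exact h1
      rw [sympForm_add_right, hperp a ha, zero_add, ← hw'.2, hadj, hw'.1, sympForm_zero_right] at hz
      exact zero_ne_one hz
  · rintro rfl x hx ⟨z, hz⟩ hns
    rw [Units.val_pow_eq_pow_val, pow_two] at hz
    have hz' : z = 1 ∨ z = -1 := by
      obtain ⟨v, hv⟩ : ∃ v : V, v ≠ 0 :=
        ⟨Pi.single (Sum.inl ⟨0, by omega⟩) 1, fun e => by simpa using congrFun e (Sum.inl ⟨0, by omega⟩)⟩
      obtain ⟨u, hu⟩ := exists_sympForm_eq_one hv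
      have h1 : B (((x * x : GLd) : Mn) *ᵥ v) (((x * x : GLd) : Mn) *ᵥ u) = 1 := ((mul_mem hx hx) v u).trans hu
      rw [Units.val_mul, hz] at h1
      simp only [Matrix.smul_mulVec, Matrix.one_mulVec, sympForm_smul_left, sympForm_smul_right, hu, mul_one] at h1
      exact mul_self_eq_one_iff.1 h1
    suffices hY : ∃ y ∈ Geo.subalgebraNormalizer K ⊓ spGL d F, (y : Mn) * y = z • 1 ∧
        (x : Mn).charpoly = (y : Mn).charpoly by
      obtain ⟨y, ⟨hyN, hy⟩, hy2, hch⟩ := hY
      obtain ⟨g, hg, hgy⟩ := exists_conj (p := p) h20 hx hy hz' hz hy2 hch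
      exact ⟨g, hg, hgy ▸ hyN⟩
    rcases hz' with rfl | rfl
    · rw [one_smul] at hz
      obtain ⟨b, hb⟩ := symp_one_eig x hx hz h20
      have hbd : b ≤ d := by
        have hle := Submodule.finrank_le (eig (x : Mn) (-1))
        rw [Module.finrank_fintype_fun_eq_card, Fintype.card_sum, Fintype.card_fin] at hle
        omega
      let c : Fin d → ↥K := fun l => if (l : ℕ) < b then -1 else 1
      have hcc : ∀ l, c l * c l = 1 := fun l => by simp only [c]; split_ifs <;> ring
      have hcσ : ∀ l, c l * c l ^ Fintype.card F = 1 := fun l => by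
        simp only [c]
        split_ifs
        · rw [hodd.neg_one_pow]; ring
        · simp
      let T : (Fin d → ↥K) ≃ₗ[F] (Fin d → ↥K) := LinearEquiv.ofInvolutive
        { toFun := fun u l => c l * u l
          map_add' := fun u v => funext fun l => mul_add _ _ _
          map_smul' := fun s u => funext fun l => by simp [mul_smul_comm] }
        (fun u => funext fun l => by
          show c l * (c l * u l) = u l
          rw [← mul_assoc, hcc, one_mul])
      have hTu : ∀ u l, T u l = c l * u l := fun u l => rfl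
      have hmemT := ofCoord_mem hS Φ hK two_pos hdesc hΦ T (fun u v => congrArg (fun H => H - qFrob hS.cardE H) (by
        show hermForm d ↥K _ (T u) (T v) = hermForm d ↥K _ u v
        simp only [hermForm, hTu, mul_pow]
        refine Finset.sum_congr rfl fun l _ => ?_
        linear_combination (u l * v l ^ Fintype.card F) * hcσ l)) id
        (fun a u => funext fun l => by
          rw [hTu, Pi.smul_apply, Pi.smul_apply, hTu, smul_eq_mul, smul_eq_mul, id]; ring)
      set y := ofCoord (F := F) Φ T
      have hy2 : (y : Mn) * y = 1 := Matrix.ext_iff_mulVec.2 fun v => by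
        obtain ⟨u, rfl⟩ := Φ.surjective v
        rw [← Matrix.mulVec_mulVec, ofCoord_apply, ofCoord_apply, Matrix.one_mulVec]
        congr 1
        funext l
        rw [hTu, hTu, ← mul_assoc, hcc, one_mul]
      refine ⟨y, hmemT, by rw [hy2, one_smul], ?_⟩
      have hrank : finrank F (eig (y : Mn) (-1)) = b + b := by
        let L : (Fin b → ↥K) →ₗ[F] V :=
          { toFun := fun w => Φ fun l => if hl : (l : ℕ) < b then w ⟨l, hl⟩ else 0
            map_add' := fun w w' => by
              rw [← map_add]; congr 1; funext l; simp only [Pi.add_apply]; split_ifs <;> simp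
            map_smul' := fun s w => by
              rw [RingHom.id_apply]
              show Φ.toLinearMap _ = s • Φ.toLinearMap _
              rw [← Φ.toLinearMap.map_smul_of_tower s]
              show Φ _ = Φ _
              congr 1; funext l; simp only [Pi.smul_apply]; split_ifs <;> simp }
        have hLi : Function.Injective L := fun w w' hw => funext fun l => by
          have := congrFun (Φ.injective hw) (Fin.castLE hbd l)
          simpa [l.2] using this
        have hrange : eig (y : Mn) (-1) = LinearMap.range L := by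
          ext v
          obtain ⟨u, rfl⟩ := Φ.surjective v
          rw [mem_eig, ofCoord_apply, neg_one_smul, ← map_neg]
          constructor
          · intro he
            refine ⟨fun l => u (Fin.castLE hbd l), ?_⟩
            show Φ _ = Φ u
            congr 1
            funext l
            split_ifs with hl
            · congr 1
            · have h1 := congrFun (Φ.injective he) l
              rw [hTu, Pi.neg_apply] at h1
              simp only [c, if_neg hl, one_mul] at h1
              have h2 : (2 : ↥K) * u l = 0 := by linear_combination h1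
              exact ((mul_eq_zero.1 h2).resolve_left (two_E hS)).symm
          · rintro ⟨w, hw⟩
            congr 1
            funext l
            have h1 := congrFun (Φ.injective hw) l
            rw [hTu, Pi.neg_apply, ← h1]
            simp only [c]
            split_ifs with hl <;> simp
        rw [hrange, LinearMap.finrank_range_of_inj hLi, Module.finrank_pi_fintype, Finset.sum_const, Finset.card_univ,
          Fintype.card_fin, hK.finrank_eq, smul_eq_mul, mul_two]
      rw [charpoly_of_sq_one hz, charpoly_of_sq_one hy2, hb, hrank]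
    · obtain ⟨s, t, hst⟩ := FiniteField.exists_root_sum_quadratic (R := F) (f := Polynomial.X ^ 2)
        (g := Polynomial.C (-δ) * Polynomial.X ^ 2 + Polynomial.C 1) (Polynomial.degree_X_pow 2)
        (by
          have hδ : -δ ≠ 0 := neg_ne_zero.2 fun e => hS.nsq ⟨0, by rw [e, mul_zero]⟩
          rw [degree_add_eq_left_of_degree_lt, degree_C_mul_X_pow 2 hδ]
          · rfl
          · rw [degree_C_mul_X_pow 2 hδ, degree_C one_ne_zero]; exact WithBot.coe_lt_coe.2 two_pos)
        (Nat.odd_iff.1 hodd)
      simp at hst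
      set lam : ↥K := algebraMap F ↥K s + algebraMap F ↥K t * j with hlam
      have hnorm : lam * lam ^ Fintype.card F = -1 := by
        rw [← qFrob_apply hS.cardE, hlam, map_add, map_mul, frob_base hS, frob_base hS, frob_j hS]
        have h2 := congrArg (algebraMap F ↥K) hst
        simp only [map_add, map_mul, map_pow, map_neg, map_one, map_zero] at h2
        linear_combination h2 - (algebraMap F ↥K t * algebraMap F ↥K t) * hS.sq
      let T0 : (Fin d → ↥K) →ₗ[F] (Fin d → ↥K) :=
        { toFun := fun u l => lam * qFrob hS.cardE (u l)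
          map_add' := fun u v => funext fun l => by simp [map_add, mul_add]
          map_smul' := fun s u => funext fun l => by
            simp [Algebra.smul_def, map_mul, frob_base hS, mul_left_comm] }
      have hT0 : ∀ u, T0 (T0 u) = -u := fun u => funext fun l => by
        show lam * qFrob hS.cardE (lam * qFrob hS.cardE (u l)) = -u l
        rw [map_mul, qFrob_qFrob, qFrob_apply, ← mul_assoc, hnorm, neg_one_mul]
      have hT0b : Function.Bijective T0 := Finite.injective_iff_bijective.1 fun u v huv => by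
        have := congrArg T0 huv
        rwa [hT0, hT0, neg_inj] at this
      let T := LinearEquiv.ofBijective T0 hT0b
      have hTu : ∀ u, T u = T0 u := fun u => rfl
      have hmemT := ofCoord_mem hS Φ hK two_pos hdesc hΦ T (fun u v => by
        have e : hermForm d ↥K (Fintype.card F) (T u) (T v) =
            -qFrob hS.cardE (hermForm d ↥K (Fintype.card F) u v) := by
          simp only [hermForm, map_sum, map_mul, ← Finset.sum_neg_distrib]
          refine Finset.sum_congr rfl fun l _ => ?_
          show lam * qFrob hS.cardE (u l) * (lam * qFrob hS.cardE (v l)) ^ Fintype.card F =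
            -(qFrob hS.cardE (u l) * qFrob hS.cardE (v l ^ Fintype.card F))
          rw [mul_pow, map_pow]
          linear_combination (qFrob hS.cardE (u l) * qFrob hS.cardE (v l) ^ Fintype.card F) * hnorm
        rw [e, map_neg, qFrob_qFrob]; ring) (qFrob hS.cardE)
        (fun a u => funext fun l => by
          show lam * qFrob hS.cardE (a * u l) = qFrob hS.cardE a * (lam * qFrob hS.cardE (u l))
          rw [map_mul]; ring)
      set y := ofCoord (F := F) Φ T
      have hy2 : (y : Mn) * y = (-1 : F) • 1 := Matrix.ext_iff_mulVec.2 fun v => by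
        obtain ⟨u, rfl⟩ := Φ.surjective v
        rw [← Matrix.mulVec_mulVec, ofCoord_apply, ofCoord_apply, hTu, hTu, hT0, Matrix.smul_mulVec,
          Matrix.one_mulVec, map_neg, neg_one_smul]
      exact ⟨y, hmemT, hy2,
        (charpoly_of_sq_neg_one (M := x.1) hx h20 hz).trans (charpoly_of_sq_neg_one (M := y.1) hmemT.2 h20 hy2).symm⟩

end Cfsg.Agent.FieldExtUnitDerange
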