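import Cfsg.Agent.Lib.Classical.FormSimilitudeGroups
import Cfsg.Agent.Lib.Classical.OrthCount

/-!
The similarity classes of invertible symmetric or alternating matrices on `Fin n`, and the counts attached to them.
-/

set_option autoImplicit false
set_option linter.unusedSectionVars false

namespace Cfsg.Agent.Classical.FormSim

open Matrix Module Cfsg.Agent.Classical

universe u

variable {K : Type u} [Field K] {ι κ : Type} [Fintype ι] [DecidableEq ι] [Fintype κ] [DecidableEq κ]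

/-- A model moved to `Fin n`. -/
theorem exists_model (S : Matrix κ κ K) {n : ℕ} (hc : Fintype.card κ = n) :
    ∃ M : Matrix (Fin n) (Fin n) K, Similar M S ∧ M.det = S.det ∧ (∀ ε : K, Sᵀ = ε • S → Mᵀ = ε • M) := by
  let e : Fin n ≃ κ := (Fintype.equivFinOfCardEq hc).symm
  refine ⟨S.submatrix e e, (similar_reindex S e).symm, Matrix.det_submatrix_equiv_self e S, fun ε h => ?_⟩
  rw [Matrix.transpose_submatrix, h]
  rfl

theorem eps_cases {M : Matrix ι ι K} (h : Mᵀ = M ∨ Mᵀ = -M) : ∃ ε : K, ε * ε = 1 ∧ Mᵀ = ε • M := by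
  rcases h with h | h
  · exact ⟨1, one_mul 1, by rw [one_smul, h]⟩
  · exact ⟨-1, by ring, by rw [neg_one_smul, h]⟩

theorem symm_of_similar {M : Matrix ι ι K} {S : Matrix κ κ K} (h : Similar M S) (hS : Sᵀ = S) : Mᵀ = M := by
  obtain ⟨L, c, -, hL⟩ := h
  refine eq_of_bf fun u v => ?_
  obtain ⟨x, rfl⟩ := L.surjective u
  obtain ⟨y, rfl⟩ := L.surjective v
  have e : ∀ {α : Type} [Fintype α] [DecidableEq α] (A : Matrix α α K) (a b : α → K), bf Aᵀ a b = bf A b a := by
    intro α _ _ A a b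
    rw [bf, bf, Matrix.dotProduct_mulVec, Matrix.vecMul_transpose, dotProduct_comm]
  rw [e, hL, hL, ← e S x y, hS]

variable [Fintype K]

theorem not_alt_of_odd {M : Matrix ι ι K} (hodd : Odd (Fintype.card ι)) (hdet : M.det ≠ 0) :
    ∃ v, bf M v v ≠ 0 := by
  classical
  by_contra! hall
  have hb : ∀ u v, Matrix.toBilin' M u v = bf M u v := fun u v => Matrix.toBilin'_apply' _ _ _
  obtain ⟨t, k, e, f, r, htk, -, -, -, -, -, hrad, hspan⟩ := exists_symplectic_family (Matrix.toBilin' M)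
    (fun v => by rw [hb]; exact hall v) (Fintype.card ι) ⊤
    (by rw [finrank_top, Module.finrank_fintype_fun_eq_card])
  have hr : ∀ j, r j = 0 := fun j => Matrix.eq_zero_of_vecMul_eq_zero hdet (funext fun i => by
    have h := hrad j (Pi.single i 1) trivial
    rw [hb, bf, Matrix.dotProduct_mulVec, dotProduct_single, mul_one] at h
    exact h)
  obtain ⟨a, ha⟩ := hodd
  have hle : (⊤ : Submodule K (ι → K)) ≤ Submodule.span K (Set.range (Sum.elim e f)) := by
    refine hspan.trans (Submodule.span_le.2 ?_)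
    rintro z ((⟨i, rfl⟩ | ⟨i, rfl⟩) | ⟨j, rfl⟩)
    · exact Submodule.subset_span ⟨Sum.inl i, rfl⟩
    · exact Submodule.subset_span ⟨Sum.inr i, rfl⟩
    · rw [hr]; exact zero_mem _
  have h1 := (Submodule.finrank_mono hle).trans (finrank_range_le_card _)
  rw [finrank_top, Module.finrank_fintype_fun_eq_card, Fintype.card_sum, Fintype.card_fin] at h1
  omega

/-- Odd dimension: one class, with group `PGO`. -/
theorem odd_forms {m : ℕ} (hι : Fintype.card ι = 2 * m + 1) {M : Matrix ι ι K} (hdet : M.det ≠ 0)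
    (hM : Mᵀ = M ∨ Mᵀ = -M) :
    Mᵀ = M ∧ Nonempty (projQuot (sim M) ≃* PGO K (quadFormOdd m K)) ∧
      ∀ M' : Matrix ι ι K, M'.det ≠ 0 → (M'ᵀ = M' ∨ M'ᵀ = -M') → Similar M M' := by
  classical
  by_cases h2 : (2 : K) = 0
  · haveI : CharP K 2 := CharTwo.of_one_ne_zero_of_two_eq_zero one_ne_zero h2
    have hsym : ∀ {A : Matrix ι ι K}, (Aᵀ = A ∨ Aᵀ = -A) → Aᵀ = A := fun {A} h => by
      rcases h with h | h
      · exact h
      · rw [h]; ext i j; simp [CharTwo.neg_eq]
    have h1 : ∀ {A : Matrix ι ι K}, A.det ≠ 0 → (Aᵀ = A ∨ Aᵀ = -A) → Similar A (1 : Matrix ι ι K) :=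
      fun {A} hA hA' => similar_one_char_two (hsym hA') hA (not_alt_of_odd ⟨m, hι⟩ hA)
    refine ⟨hsym hM, ?_, fun M' hd' hM' => (h1 hdet hM).trans (h1 hd' hM').symm⟩
    set S := Matrix.fromBlocks (1 : Matrix Unit Unit K) 0 0 (Matrix.J (Fin m) K)
    have hSd : S.det ≠ 0 := by
      rw [Matrix.det_fromBlocks_zero₂₁, Matrix.det_one, one_mul]
      exact (Matrix.isUnit_det_J (Fin m) K).ne_zero
    obtain ⟨S', hS', hd', hε⟩ := exists_model S (n := Fintype.card ι) (by simp [hι]; omega)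
    have hST : Sᵀ = (1 : K) • S := by
      simp [S, Matrix.fromBlocks_transpose, Matrix.J, CharTwo.neg_eq]
      constructor <;> ext i j <;> simp [Matrix.one_apply, eq_comm, CharTwo.neg_eq]
    obtain ⟨T, hT, hTd, hTε⟩ : ∃ T : Matrix ι ι K, Similar T S ∧ T.det = S.det ∧ Tᵀ = T := by
      refine ⟨S'.submatrix (Fintype.equivFin ι) (Fintype.equivFin ι), (similar_reindex S' _).symm.trans hS',
        by rw [Matrix.det_submatrix_equiv_self, hd'], ?_⟩
      rw [Matrix.transpose_submatrix, hε 1 hST, one_smul]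
    have hsim : Similar M S := ((h1 hdet hM).trans (h1 (hTd ▸ hSd) (Or.inl hTε)).symm).trans hT
    obtain ⟨e1⟩ := psim_congr hsim
    obtain ⟨e2⟩ := psim_iso_char_two (M := S) fun h0 => hSd (by rw [h0, Matrix.det_zero])
    obtain ⟨e3⟩ := iso_odd_char_two (K := K) m
    obtain ⟨e4⟩ := pgo_odd_char_two (K := K) m
    exact ⟨((e1.trans e2).trans e3).trans e4.symm⟩
  · have hsym : ∀ {A : Matrix ι ι K}, A.det ≠ 0 → (Aᵀ = A ∨ Aᵀ = -A) → Aᵀ = A := fun {A} hA h => by
      refine h.resolve_right fun h' => ?_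
      have h1 := congrArg Matrix.det h'
      rw [Matrix.det_transpose, Matrix.det_neg, hι, Odd.neg_one_pow ⟨m, rfl⟩] at h1
      exact hA ((mul_eq_zero.1 (show (2 : K) * A.det = 0 by linear_combination h1)).resolve_left h2)
    have key : ∀ {α : Type} [Fintype α] [DecidableEq α] {A : Matrix ι ι K} {S : Matrix α α K},
        A.det ≠ 0 → Aᵀ = A → S.det ≠ 0 → Sᵀ = S → Fintype.card α = 2 * m + 1 → Similar A S := by
      intro α _ _ A S hA hA' hS hS' hα
      set c := A.det * S.det with hc_def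
      have hc : c ≠ 0 := mul_ne_zero hA hS
      refine (similar_of_det h2 hA' (M' := c • S) (by rw [Matrix.transpose_smul, hS']) hA
        (by rw [Matrix.det_smul]; exact mul_ne_zero (pow_ne_zero _ hc) hS) (by rw [hα, hι]) ?_).trans (similar_smul S hc)
      exact ⟨c ^ (m + 1), by rw [Matrix.det_smul, hα, hc_def]; ring⟩
    have hn := nondegenerate_qfOdd (F := K) m h2
    refine ⟨hsym hdet hM, ?_, fun M' hd' hM' => key hdet (hsym hdet hM) hd' (hsym hd' hM') hι⟩
    obtain ⟨e1⟩ := psim_congr (key hdet (hsym hdet hM) (det_pMat_ne_zero hn) (pMat_transpose _) (by simp; omega))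
    obtain ⟨e2⟩ := pgo_iso h2 (qfOdd m K) (coe_qfOdd m)
    exact ⟨e1.trans e2⟩

theorem char_two_even [CharP K 2] {m : ℕ} (hm : 1 ≤ m) (hι : Fintype.card ι = 2 * m) :
    (∀ {M : Matrix ι ι K}, M.det ≠ 0 → (Mᵀ = M ∨ Mᵀ = -M) →
      Similar M (Matrix.J (Fin m) K) ∨ Similar M (1 : Matrix (Fin m ⊕ Fin m) (Fin m ⊕ Fin m) K)) ∧
    (∀ {M : Matrix ι ι K}, Similar M (Matrix.J (Fin m) K) →
      ¬ Similar M (1 : Matrix (Fin m ⊕ Fin m) (Fin m ⊕ Fin m) K)) ∧
    Nonempty (projQuot (sim (Matrix.J (Fin m) K)) ≃* ↥(Matrix.symplecticGroup (Fin m) K)) ∧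
    ∃ t : ↥(Matrix.symplecticGroup (Fin m) K), IsTransvection (t : Matrix (Fin m ⊕ Fin m) (Fin m ⊕ Fin m) K) ∧
      Nonempty (projQuot (sim (1 : Matrix (Fin m ⊕ Fin m) (Fin m ⊕ Fin m) K)) ≃*
        ↥(Subgroup.centralizer ({t} : Set ↥(Matrix.symplecticGroup (Fin m) K)))) := by
  classical
  have hcard : Fintype.card (Fin m ⊕ Fin m) = Fintype.card ι := by simp [hι, two_mul]
  refine ⟨fun {M} hdet hM => ?_, fun {M} hJ h1 => ?_, ?_, ?_⟩
  · have hs : Mᵀ = M := by
      rcases hM with h | h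
      · exact h
      · rw [h]; ext i j; simp [CharTwo.neg_eq]
    by_cases hA : ∀ v, bf M v v = 0
    · exact Or.inl (similar_J M hι hdet hA)
    · exact Or.inr ((similar_one_char_two hs hdet (not_forall.1 hA)).trans
        (by
          have h := similar_reindex (1 : Matrix ι ι K) (Fintype.equivOfCardEq hcard)
          rwa [Matrix.submatrix_one_equiv] at h))
  · obtain ⟨L, c, hc, hL⟩ := hJ.symm.trans h1
    have h := hL (Pi.single (Sum.inl ⟨0, hm⟩) 1) (Pi.single (Sum.inl ⟨0, hm⟩) 1)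
    rw [bf_single, show bf (Matrix.J (Fin m) K) (L _) (L _) = 0 from sympForm_self _, Matrix.one_apply_eq, mul_one] at h
    exact hc h.symm
  · obtain ⟨e⟩ := psim_iso_char_two (M := Matrix.J (Fin m) K) fun h => (Matrix.isUnit_det_J (Fin m) K).ne_zero (by
      haveI : Nonempty (Fin m ⊕ Fin m) := ⟨Sum.inl ⟨0, hm⟩⟩
      rw [h, Matrix.det_zero])
    refine ⟨e.trans ?_⟩
    exact
      { toFun := fun g => ⟨((g.1 : GL (Fin m ⊕ Fin m) K) : Matrix (Fin m ⊕ Fin m) (Fin m ⊕ Fin m) K),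
          mem_symplecticGroup_iff_form.2 fun u v => g.2 u v⟩
        invFun := fun s => ⟨⟨(s : Matrix (Fin m ⊕ Fin m) (Fin m ⊕ Fin m) K),
            ((s⁻¹ : Matrix.symplecticGroup (Fin m) K) : Matrix (Fin m ⊕ Fin m) (Fin m ⊕ Fin m) K),
            by rw [← Submonoid.coe_mul, mul_inv_cancel, OneMemClass.coe_one],
            by rw [← Submonoid.coe_mul, inv_mul_cancel, OneMemClass.coe_one]⟩, fun u v => sympForm_map s u v⟩
        left_inv := fun g => Subtype.ext (Units.ext rfl)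
        right_inv := fun s => Subtype.ext rfl
        map_mul' := fun g g' => Subtype.ext rfl }
  · obtain ⟨t, ht, ⟨e'⟩⟩ := iso_even_char_two (K := K) hm
    obtain ⟨e⟩ := psim_iso_char_two (M := (1 : Matrix (Fin m ⊕ Fin m) (Fin m ⊕ Fin m) K)) fun h =>
      one_ne_zero ((congrFun (congrFun h (Sum.inl ⟨0, hm⟩)) (Sum.inl ⟨0, hm⟩)) : ((1 : K) = 0))
    exact ⟨t, ht, ⟨e.trans e'⟩⟩

/-- Determinants of similitudes that are `n`-th powers. -/
theorem det_is_pow {M : Matrix ι ι K} (hdet : M.det ≠ 0) (h : Odd (Fintype.card ι) ∨ (2 : K) = 0) {g : GL ι K}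
    {c : Kˣ} (hg : (g : Matrix ι ι K)ᵀ * M * (g : Matrix ι ι K) = (c : K) • M) :
    ∃ s : Kˣ, s ^ 2 = c ∧ s ^ Fintype.card ι = Matrix.GeneralLinearGroup.det g := by
  have hd : Matrix.GeneralLinearGroup.det g ^ 2 = c ^ Fintype.card ι := Units.ext (by
    rw [Units.val_pow_eq_pow_val, Units.val_pow_eq_pow_val]
    exact sim_det hdet hg)
  by_cases h2 : (2 : K) = 0
  · haveI : CharP K 2 := CharTwo.of_one_ne_zero_of_two_eq_zero one_ne_zero h2
    obtain ⟨s, hs⟩ := exists_sqrt_unit c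
    have hs' : s ^ 2 = c := Units.ext (by rw [Units.val_pow_eq_pow_val, sq, hs])
    refine ⟨s, hs', Units.ext (sq_inj_char_two ?_)⟩
    rw [← Units.val_mul, ← Units.val_mul, ← sq, ← sq, ← pow_mul, mul_comm, pow_mul, hs', hd]
  · obtain ⟨m, hm⟩ := h.resolve_right h2
    refine ⟨Matrix.GeneralLinearGroup.det g / c ^ m, ?_, ?_⟩
    · rw [div_pow, hd, hm, pow_succ, ← pow_mul, mul_comm m 2, mul_div_assoc, mul_comm, div_mul_cancel]
    · have h1 : (Matrix.GeneralLinearGroup.det g / c ^ m) ^ 2 = c := by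
        rw [div_pow, hd, hm, pow_succ, ← pow_mul, mul_comm m 2, mul_div_assoc, mul_comm, div_mul_cancel]
      rw [hm, pow_succ, pow_mul, h1, mul_div_cancel]

/-! ### Index computations in cyclic groups -/

theorem gcd_index_half {G : Type*} [CommGroup G] [IsCyclic G] [Finite G] (m : ℕ) :
    Nat.gcd (2 * m) (powMonoidHom m : G →* G).range.index = Nat.gcd m (Nat.card G) := by
  rw [IsCyclic.index_powMonoidHom_range, Nat.gcd_comm (Nat.card G) m]
  exact Nat.gcd_eq_right (dvd_mul_of_dvd_right (Nat.gcd_dvd_left _ _) 2)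

theorem gcd_index_sqroot {G : Type*} [CommGroup G] [IsCyclic G] [Finite G] (m : ℕ) (hG : Even (Nat.card G)) :
    Nat.gcd (2 * m) ((powMonoidHom (2 * m) : G →* G).range.comap (powMonoidHom 2 : G →* G)).index =
      Nat.gcd (2 * m) (Nat.card G) / 2 := by
  rw [Subgroup.index_comap]
  have hle : (powMonoidHom (2 * m) : G →* G).range ≤ (powMonoidHom 2 : G →* G).range := by
    rintro _ ⟨x, rfl⟩
    exact ⟨x ^ m, by rw [powMonoidHom_apply, powMonoidHom_apply, ← pow_mul, mul_comm]⟩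
  have h := Subgroup.relIndex_mul_index hle
  rw [IsCyclic.index_powMonoidHom_range, IsCyclic.index_powMonoidHom_range,
    Nat.gcd_eq_right (even_iff_two_dvd.1 hG), Nat.gcd_comm (Nat.card G)] at h
  rw [← h, Nat.mul_div_cancel _ two_pos]
  refine Nat.gcd_eq_right ?_
  exact (Dvd.intro 2 h).trans (Nat.gcd_dvd_left _ _)

end Cfsg.Agent.Classical.FormSim
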