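import Cfsg.Prelude.Def_LieTypeDatum
import Cfsg.Agent.Lib.Classical.QuadModels
import Cfsg.Agent.Lib.Classical.SympBlocks
import Cfsg.Agent.S0304

/-!
Symmetric and alternating invertible matrices up to similarity over a finite field, the projective groups of their
similitudes and the determinants that occur there.
-/

set_option autoImplicit false
set_option linter.unusedSectionVars false

namespace Cfsg.Agent.Classical.FormSim

open Matrix Module Cfsg.Agent.Classical

universe u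

variable {K : Type u} [Field K] {ι κ lam : Type} [Fintype ι] [DecidableEq ι] [Fintype κ] [DecidableEq κ]
  [Fintype lam] [DecidableEq lam]

/-- The bilinear form of a matrix. -/
def bf (M : Matrix ι ι K) (u v : ι → K) : K := u ⬝ᵥ (M *ᵥ v)

theorem bf_single (M : Matrix ι ι K) (i j : ι) : bf M (Pi.single i 1) (Pi.single j 1) = M i j := by
  simp [bf, Matrix.mulVec_single_one, single_dotProduct]

theorem eq_of_bf {M M' : Matrix ι ι K} (h : ∀ u v, bf M u v = bf M' u v) : M = M' :=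
  Matrix.ext fun i j => by rw [← bf_single M, h, bf_single]

theorem bf_congr (M : Matrix ι ι K) (A : Matrix ι ι K) (u v : ι → K) :
    bf (Aᵀ * M * A) u v = bf M (A *ᵥ u) (A *ᵥ v) := by
  rw [bf, bf, ← Matrix.mulVec_mulVec, ← Matrix.mulVec_mulVec, Matrix.dotProduct_mulVec u Aᵀ,
    Matrix.vecMul_transpose]

theorem bf_smul (c : K) (M : Matrix ι ι K) (u v : ι → K) : bf (c • M) u v = c * bf M u v := by
  rw [bf, bf, Matrix.smul_mulVec, dotProduct_smul, smul_eq_mul]

/-- The similitudes of a matrix as a form. -/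
def sim (M : Matrix ι ι K) : Subgroup (GL ι K) := Geo.similarityGroup (bf M)

theorem mem_sim {M : Matrix ι ι K} {k : GL ι K} :
    k ∈ sim M ↔ ∃ c : Kˣ, (k : Matrix ι ι K)ᵀ * M * (k : Matrix ι ι K) = (c : K) • M := by
  constructor
  · rintro ⟨c, hc⟩
    exact ⟨c, eq_of_bf fun u v => by rw [bf_congr, bf_smul]; exact hc u v⟩
  · rintro ⟨c, hc⟩
    exact ⟨c, fun u v => by rw [← bf_congr, hc, bf_smul]⟩

/-- Similar forms. -/
def Similar (M : Matrix ι ι K) (M' : Matrix κ κ K) : Prop :=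
  ∃ (L : (κ → K) ≃ₗ[K] (ι → K)) (c : K), c ≠ 0 ∧ ∀ u v, bf M (L u) (L v) = c * bf M' u v

theorem Similar.refl (M : Matrix ι ι K) : Similar M M :=
  ⟨LinearEquiv.refl K _, 1, one_ne_zero, fun u v => (one_mul _).symm⟩

theorem Similar.symm {M : Matrix ι ι K} {M' : Matrix κ κ K} (h : Similar M M') : Similar M' M := by
  obtain ⟨L, c, hc, h⟩ := h
  refine ⟨L.symm, c⁻¹, inv_ne_zero hc, fun u v => ?_⟩
  have h1 := h (L.symm u) (L.symm v)
  rw [LinearEquiv.apply_symm_apply, LinearEquiv.apply_symm_apply] at h1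
  rw [h1, inv_mul_cancel_left₀ hc]

theorem Similar.trans {M : Matrix ι ι K} {M' : Matrix κ κ K} {M'' : Matrix lam lam K} (h : Similar M M')
    (h' : Similar M' M'') : Similar M M'' := by
  obtain ⟨L, c, hc, h⟩ := h
  obtain ⟨L', c', hc', h'⟩ := h'
  exact ⟨L'.trans L, c * c', mul_ne_zero hc hc', fun u v => by
    rw [LinearEquiv.trans_apply, LinearEquiv.trans_apply, h, h', mul_assoc]⟩

theorem similar_smul (M : Matrix ι ι K) {c : K} (hc : c ≠ 0) : Similar (c • M) M :=
  ⟨LinearEquiv.refl K _, c, hc, fun u v => bf_smul c M u v⟩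

theorem similar_of_congr (M : Matrix ι ι K) (P : GL ι K) {c : K} (hc : c ≠ 0) {M' : Matrix ι ι K}
    (h : (P : Matrix ι ι K)ᵀ * M * (P : Matrix ι ι K) = c • M') : Similar M M' := by
  refine ⟨(Matrix.GeneralLinearGroup.toLin P).toLinearEquiv, c, hc, fun u v => ?_⟩
  rw [← bf_smul, ← h, bf_congr]
  rfl

theorem Similar.exists_matrix {M M' : Matrix ι ι K} (h : Similar M M') :
    ∃ (P : GL ι K) (c : Kˣ), (P : Matrix ι ι K)ᵀ * M * (P : Matrix ι ι K) = (c : K) • M' := by
  obtain ⟨L, c, hc, h⟩ := h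
  obtain ⟨P, hP⟩ : ∃ P : GL ι K, ∀ v, (P : Matrix ι ι K) *ᵥ v = L v := by
    refine ⟨Matrix.GeneralLinearGroup.toLin.symm (LinearMap.GeneralLinearGroup.ofLinearEquiv L), fun v => ?_⟩
    have h1 := Matrix.GeneralLinearGroup.toLin_apply
      (A := Matrix.GeneralLinearGroup.toLin.symm (LinearMap.GeneralLinearGroup.ofLinearEquiv L)) v
    rw [MulEquiv.apply_symm_apply] at h1
    exact h1.symm
  exact ⟨P, Units.mk0 c hc, eq_of_bf fun u v => by rw [bf_congr, bf_smul, hP, hP, h, Units.val_mk0]⟩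

/-- Conjugation of general linear groups by a change of coordinates. -/
noncomputable def glCongr (L : (κ → K) ≃ₗ[K] (ι → K)) : GL ι K ≃* GL κ K :=
  (Matrix.GeneralLinearGroup.toLin.trans (LinearMap.GeneralLinearGroup.congrLinearEquiv L.symm)).trans
    Matrix.GeneralLinearGroup.toLin.symm

theorem glCongr_mulVec (L : (κ → K) ≃ₗ[K] (ι → K)) (g : GL ι K) (v : κ → K) :
    ((glCongr L g : GL κ K) : Matrix κ κ K) *ᵥ v = L.symm ((g : Matrix ι ι K) *ᵥ L v) := by
  have h1 := Matrix.GeneralLinearGroup.toLin_apply (A := glCongr L g) v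
  rw [glCongr, MulEquiv.trans_apply, MulEquiv.apply_symm_apply] at h1
  exact h1.symm

theorem glCongr_scalars (L : (κ → K) ≃ₗ[K] (ι → K)) (g : GL ι K) :
    glCongr L g ∈ Geo.scalars κ K ↔ g ∈ Geo.scalars ι K := by
  rw [Geo.mem_scalars_iff, Geo.mem_scalars_iff]
  constructor
  · rintro ⟨c, hc⟩
    refine ⟨c, Matrix.ext_iff_mulVec.2 fun v => ?_⟩
    have h := glCongr_mulVec L g (L.symm v)
    rw [hc, LinearEquiv.apply_symm_apply, Matrix.smul_mulVec, Matrix.one_mulVec, ← map_smul] at h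
    rw [← L.symm.injective h, Matrix.smul_mulVec, Matrix.one_mulVec]
  · rintro ⟨c, hc⟩
    refine ⟨c, Matrix.ext_iff_mulVec.2 fun v => ?_⟩
    rw [glCongr_mulVec, hc, Matrix.smul_mulVec, Matrix.one_mulVec, map_smul, LinearEquiv.symm_apply_apply,
      Matrix.smul_mulVec, Matrix.one_mulVec]

theorem projQuot_congr (e : GL ι K ≃* GL κ K) (he : ∀ g, e g ∈ Geo.scalars κ K ↔ g ∈ Geo.scalars ι K)
    {H : Subgroup (GL ι K)} {H' : Subgroup (GL κ K)} [((Geo.scalars ι K).subgroupOf H).Normal]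
    [((Geo.scalars κ K).subgroupOf H').Normal] (hH : ∀ g, e g ∈ H' ↔ g ∈ H) :
    Nonempty (projQuot H ≃* projQuot H') := by
  let f : H →* H' := (e.toMonoidHom.comp H.subtype).codRestrict H' fun g => (hH g).2 g.2
  have hf : Function.Bijective f := by
    refine ⟨fun a b h => Subtype.ext (e.injective (congrArg Subtype.val h)), fun b => ?_⟩
    obtain ⟨g, hg⟩ := e.surjective b.1
    exact ⟨⟨g, (hH g).1 (hg.symm ▸ b.2)⟩, Subtype.ext hg⟩
  refine ⟨QuotientGroup.congr _ _ (MulEquiv.ofBijective f hf) ?_⟩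
  ext b
  simp only [Subgroup.mem_map, Subgroup.mem_subgroupOf]
  constructor
  · rintro ⟨a, ha, rfl⟩
    exact (he a).2 ha
  · intro hb
    obtain ⟨a, rfl⟩ := hf.2 b
    exact ⟨a, (he a).1 hb, rfl⟩

instance scalars_normal (H : Subgroup (GL ι K)) : ((Geo.scalars ι K).subgroupOf H).Normal := by
  refine ⟨fun a ha g => ?_⟩
  rw [Subgroup.mem_subgroupOf, Geo.mem_scalars_iff] at ha ⊢
  obtain ⟨c, hc⟩ := ha
  refine ⟨c, ?_⟩
  simp only [Subgroup.coe_mul, Subgroup.coe_inv, Units.val_mul, hc, Matrix.mul_smul, Matrix.smul_mul, Matrix.mul_one,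
    Units.mul_inv]

/-- Similar forms have the same projective similitude groups. -/
theorem psim_congr {M : Matrix ι ι K} {M' : Matrix κ κ K} (h : Similar M M') :
    Nonempty (projQuot (sim M) ≃* projQuot (sim M')) := by
  obtain ⟨L, c, hc, h⟩ := h
  refine projQuot_congr (glCongr L) (glCongr_scalars L) fun g => ?_
  constructor
  · rintro ⟨d, hd⟩
    refine ⟨d, fun u v => ?_⟩
    have h1 := hd (L.symm u) (L.symm v)
    rw [glCongr_mulVec, glCongr_mulVec, LinearEquiv.apply_symm_apply, LinearEquiv.apply_symm_apply] at h1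
    have h2 := congrArg (c * ·) h1
    simp only [← h, LinearEquiv.apply_symm_apply, mul_left_comm c] at h2
    exact h2
  · rintro ⟨d, hd⟩
    refine ⟨d, fun u v => mul_left_cancel₀ hc ?_⟩
    rw [← h, glCongr_mulVec, glCongr_mulVec, LinearEquiv.apply_symm_apply, LinearEquiv.apply_symm_apply, hd, h,
      mul_left_comm]

theorem similar_reindex (M : Matrix ι ι K) (e : κ ≃ ι) : Similar M (M.submatrix e e) := by
  refine ⟨LinearEquiv.funCongrLeft K K e.symm, 1, one_ne_zero, fun u v => ?_⟩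
  simp only [bf, one_mul, dotProduct, Matrix.mulVec, LinearEquiv.funCongrLeft_apply, LinearMap.funLeft_apply,
    Matrix.submatrix_apply]
  rw [← Equiv.sum_comp e (fun i => u (e.symm i) * ∑ j, M i j * v (e.symm j))]
  refine Finset.sum_congr rfl fun i _ => ?_
  rw [Equiv.symm_apply_apply, ← Equiv.sum_comp e (fun j => M (e i) j * v (e.symm j))]
  simp only [Equiv.symm_apply_apply]

/-! ### The models -/

theorem bf_toMatrix' (B : LinearMap.BilinForm K (ι → K)) (u v : ι → K) :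
    bf (LinearMap.BilinForm.toMatrix' B) u v = B u v := by
  rw [bf, ← Matrix.toBilin'_apply', Matrix.toBilin'_toMatrix']

/-- The Gram matrix of a quadratic form. -/
noncomputable def pMat (Q : QuadraticForm K (ι → K)) : Matrix ι ι K :=
  LinearMap.BilinForm.toMatrix' (QuadraticMap.polarBilin Q)

theorem bf_pMat (Q : QuadraticForm K (ι → K)) (u v : ι → K) : bf (pMat Q) u v = QuadraticMap.polar ⇑Q u v := by
  rw [pMat, bf_toMatrix', QuadraticMap.polarBilin_apply_apply]

theorem pMat_transpose (Q : QuadraticForm K (ι → K)) : (pMat Q)ᵀ = pMat Q :=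
  Matrix.ext fun i j => by
    rw [Matrix.transpose_apply, ← bf_single (pMat Q), ← bf_single (pMat Q), bf_pMat, bf_pMat, QuadraticMap.polar_comm]

theorem det_pMat (Q : QuadraticForm K (ι → K)) :
    (pMat Q).det = gramDet (QuadraticMap.polarBilin Q) (Pi.basisFun K ι) := by
  rw [gramDet_eq_of]
  congr 1
  ext i j
  rw [Matrix.of_apply, ← bf_single (pMat Q) i j, bf_pMat, Pi.basisFun_apply, Pi.basisFun_apply]

theorem det_pMat_ne_zero {Q : QuadraticForm K (ι → K)} (hQ : (QuadraticMap.polarBilin Q).Nondegenerate) :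
    (pMat Q).det ≠ 0 := by
  rw [det_pMat]
  exact gramDet_ne_zero hQ _

theorem sim_pMat (h2 : (2 : K) ≠ 0) (Q : QuadraticForm K (ι → K)) :
    sim (pMat Q) = Geo.quadSimilarityGroup ⇑Q := by
  ext g
  constructor
  · rintro ⟨c, hc⟩
    refine ⟨c, fun v => ?_⟩
    have h := hc v v
    rw [bf_pMat, bf_pMat, ← QuadraticMap.polarBilin_apply_apply, ← QuadraticMap.polarBilin_apply_apply, polarBilin_self,
      polarBilin_self] at h
    refine mul_left_cancel₀ h2 ?_
    linear_combination h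
  · rintro ⟨c, hc⟩
    refine ⟨c, fun u v => ?_⟩
    rw [bf_pMat, bf_pMat, QuadraticMap.polar, QuadraticMap.polar, ← Matrix.mulVec_add, hc, hc, hc]
    ring

theorem pgo_iso (h2 : (2 : K) ≠ 0) (Q : QuadraticForm K (ι → K)) {Qf : (ι → K) → K} (hQf : ⇑Q = Qf) :
    Nonempty (projQuot (sim (pMat Q)) ≃* PGO K Qf) := by
  subst hQf
  rw [sim_pMat h2]
  exact ⟨MulEquiv.refl _⟩

/-- The standard alternating matrix. -/
theorem sim_J (m : ℕ) : sim (Matrix.J (Fin m) K) = GSp m K := rfl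

/-! ### Classification -/

theorem similar_J (M : Matrix ι ι K) {m : ℕ} (hι : Fintype.card ι = 2 * m) (hdet : M.det ≠ 0)
    (hA : ∀ v, bf M v v = 0) : Similar M (Matrix.J (Fin m) K) := by
  obtain ⟨L, hL⟩ := exists_symp_coords (Matrix.toBilin' M) (fun v => by rw [Matrix.toBilin'_apply']; exact hA v)
    (fun x hx => Matrix.eq_zero_of_vecMul_eq_zero hdet (funext fun j => by
      have h := hx (Pi.single j 1)
      rw [Matrix.toBilin'_apply', Matrix.dotProduct_mulVec, dotProduct_single, mul_one] at h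
      exact h))
    (by rw [Module.finrank_fintype_fun_eq_card, hι] : Module.finrank K (ι → K) = 2 * m)
  refine ⟨L, 1, one_ne_zero, fun u v => ?_⟩
  have h := hL u v
  rw [Matrix.toBilin'_apply'] at h
  rw [one_mul]
  exact h

theorem bf_self_zero_of_skew (h2 : (2 : K) ≠ 0) {M : Matrix ι ι K} (h : Mᵀ = -M) (v : ι → K) : bf M v v = 0 := by
  have h1 : bf M v v = -bf M v v := by
    conv_lhs => rw [bf, Matrix.dotProduct_mulVec, dotProduct_comm, ← Matrix.mulVec_transpose, h, Matrix.neg_mulVec,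
      dotProduct_neg]
    rfl
  exact (mul_eq_zero.1 (show (2 : K) * bf M v v = 0 by linear_combination h1)).resolve_left h2

variable [Fintype K]

theorem congr_of_det (h2 : (2 : K) ≠ 0) {M : Matrix ι ι K} {M' : Matrix κ κ K} (hM : Mᵀ = M) (hM' : M'ᵀ = M')
    (hdet : M.det ≠ 0) (hdet' : M'.det ≠ 0) (hc : Fintype.card κ = Fintype.card ι)
    (hsq : IsSquare (M'.det * M.det)) :
    ∃ L : (κ → K) ≃ₗ[K] (ι → K), ∀ u v, bf M (L u) (L v) = bf M' u v := by
  have key : ∀ {α : Type} [Fintype α] [DecidableEq α] (S : Matrix α α K), Sᵀ = S → S.det ≠ 0 →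
      ∃ R : QuadraticForm K (α → K), pMat R = S ∧ (QuadraticMap.polarBilin R).Nondegenerate := by
    intro α _ _ S hS hd
    let R : QuadraticForm K (α → K) := LinearMap.BilinMap.toQuadraticMap (Matrix.toBilin' ((2 : K)⁻¹ • S))
    have hR : ∀ v, R v = (2 : K)⁻¹ * bf S v v := fun v => by
      rw [LinearMap.BilinMap.toQuadraticMap_apply, Matrix.toBilin'_apply', Matrix.smul_mulVec, dotProduct_smul,
        smul_eq_mul]
      rfl
    have hsym : ∀ u v, bf S v u = bf S u v := fun u v => by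
      rw [bf, bf, Matrix.dotProduct_mulVec, ← Matrix.mulVec_transpose, hS, dotProduct_comm]
    have hp : pMat R = S := eq_of_bf fun u v => by
      have e : bf S (u + v) (u + v) = bf S u u + bf S u v + bf S v u + bf S v v := by
        simp only [bf, Matrix.mulVec_add, add_dotProduct, dotProduct_add]
        ring
      rw [bf_pMat, QuadraticMap.polar, hR, hR, hR, e, hsym u v]
      field_simp
      ring
    refine ⟨R, hp, (LinearMap.BilinForm.nondegenerate_iff_det_ne_zero (Pi.basisFun K α)).2 ?_⟩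
    show gramDet (QuadraticMap.polarBilin R) (Pi.basisFun K α) ≠ 0
    rw [← det_pMat, hp]
    exact hd
  obtain ⟨R, hR, hRn⟩ := key M hM hdet
  obtain ⟨R', hR', hR'n⟩ := key M' hM' hdet'
  obtain ⟨L, hL⟩ := (isometric_iff_disc h2 hR'n hRn (Pi.basisFun K κ) (Pi.basisFun K ι) hc).2
    (by rw [← det_pMat, ← det_pMat, hR, hR']; exact hsq)
  refine ⟨L, fun u v => ?_⟩
  rw [← hR, ← hR', bf_pMat, bf_pMat, QuadraticMap.polar, QuadraticMap.polar, ← map_add, hL, hL, hL]

theorem similar_of_det (h2 : (2 : K) ≠ 0) {M : Matrix ι ι K} {M' : Matrix κ κ K} (hM : Mᵀ = M) (hM' : M'ᵀ = M')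
    (hdet : M.det ≠ 0) (hdet' : M'.det ≠ 0) (hc : Fintype.card κ = Fintype.card ι)
    (hsq : IsSquare (M'.det * M.det)) : Similar M M' := by
  obtain ⟨L, hL⟩ := congr_of_det h2 hM hM' hdet hdet' hc hsq
  exact ⟨L, 1, one_ne_zero, fun u v => by rw [one_mul, hL]⟩

theorem similar_sq {M : Matrix ι ι K} {M' : Matrix κ κ K} (h : Similar M M') (e : κ ≃ ι) :
    ∃ c t : K, c ≠ 0 ∧ t ≠ 0 ∧ M.det * t ^ 2 = c ^ Fintype.card ι * M'.det := by
  obtain ⟨P, c, hP⟩ := (h.trans (similar_reindex M' e.symm)).exists_matrix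
  refine ⟨c, (P : Matrix ι ι K).det, c.ne_zero, P.det_ne_zero, ?_⟩
  have h1 := congrArg Matrix.det hP
  rw [Matrix.det_mul, Matrix.det_mul, Matrix.det_transpose, Matrix.det_smul, Matrix.det_submatrix_equiv_self] at h1
  rw [← h1]
  ring

theorem similar_one_char_two [CharP K 2] {M : Matrix ι ι K} (hM : Mᵀ = M) (hdet : M.det ≠ 0)
    (hna : ∃ v, bf M v v ≠ 0) : Similar M (1 : Matrix ι ι K) := by
  classical
  have hb : ∀ u v, Matrix.toBilin' M u v = bf M u v := fun u v => Matrix.toBilin'_apply' _ _ _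
  have hS : (Matrix.toBilin' M).IsSymm := ⟨fun u v => by
    rw [hb, hb, bf, bf, Matrix.dotProduct_mulVec, dotProduct_comm, ← Matrix.mulVec_transpose, hM]⟩
  obtain ⟨v, hv⟩ := hna
  obtain ⟨b, -, hbb⟩ := exists_orthonormal_family_char_two (Matrix.toBilin' M) hS (Fintype.card ι) ⊤
    (fun w _ hw => by
      by_contra! hall
      refine hw (Matrix.eq_zero_of_vecMul_eq_zero hdet (funext fun j => ?_))
      have h := hall (Pi.single j 1) trivial
      rw [hb, bf, Matrix.dotProduct_mulVec, dotProduct_single, mul_one] at h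
      exact h)
    (by rw [finrank_top, Module.finrank_fintype_fun_eq_card]) (fun _ => ⟨v, trivial, by rw [hb]; exact hv⟩)
  let e := Fintype.equivFin ι
  let P : Matrix ι ι K := Matrix.of fun i j => b (e j) i
  have hP : Pᵀ * M * P = 1 := Matrix.ext fun i j => by
    rw [← bf_single (Pᵀ * M * P), bf_congr, Matrix.mulVec_single_one, Matrix.mulVec_single_one, ← hb, Matrix.one_apply,
      show P.col i = b (e i) from rfl, show P.col j = b (e j) from rfl, hbb]
    simp
  have hd : IsUnit P.det := by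
    have h := congrArg Matrix.det hP
    rw [Matrix.det_mul, Matrix.det_one] at h
    exact isUnit_of_dvd_one ⟨_, by rw [mul_comm]; exact h.symm⟩
  exact similar_of_congr M (Matrix.GeneralLinearGroup.mk'' P hd) one_ne_zero (by rw [one_smul]; exact hP)

/-! ### Even dimension, odd characteristic -/

theorem minus_disc (h2 : (2 : K) ≠ 0) (k : ℕ) {a b : K}
    (hab : ∀ z₁ z₂ : K, z₁ ^ 2 + a * z₁ * z₂ + b * z₂ ^ 2 = 0 → z₁ = 0 ∧ z₂ = 0) :
    ¬ IsSquare ((pMat (qfPlus (k + 1) K)).det * (pMat (qfMinus k K a b)).det) := by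
  rw [det_pMat, det_pMat, gramDet_qfPlus, gramDet_qfMinus,
    show ((-1 : K) ^ (k + 1)) * ((-1) ^ k * (4 * b - a ^ 2)) = ((-1 : K) ^ k) ^ 2 * (a ^ 2 - 4 * b) by ring,
    isSquare_mul_sq (pow_ne_zero _ (neg_ne_zero.2 one_ne_zero))]
  rintro ⟨r, hr⟩
  have h := hab ((-a + r) / 2) 1 (by field_simp; linear_combination -hr)
  exact one_ne_zero h.2

theorem exists_minus (h2 : (2 : K) ≠ 0) :
    ∃ a b : K, ∀ z₁ z₂ : K, z₁ ^ 2 + a * z₁ * z₂ + b * z₂ ^ 2 = 0 → z₁ = 0 ∧ z₂ = 0 := by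
  have hc : ringChar K ≠ 2 := fun hc => h2 (by exact_mod_cast (ringChar.spec K 2).2 (by rw [hc]))
  obtain ⟨d, hd⟩ := FiniteField.exists_nonsquare hc
  refine ⟨0, -d, fun z₁ z₂ h => ?_⟩
  by_cases h0 : z₂ = 0
  · exact ⟨pow_eq_zero_iff two_ne_zero |>.1 (by rw [h0] at h; linear_combination h), h0⟩
  · exact absurd ⟨z₁ / z₂, by field_simp; linear_combination -h⟩ hd

/-- The three similarity classes. -/
theorem classify_odd (h2 : (2 : K) ≠ 0) (k : ℕ) {a b : K}
    (hab : ∀ z₁ z₂ : K, z₁ ^ 2 + a * z₁ * z₂ + b * z₂ ^ 2 = 0 → z₁ = 0 ∧ z₂ = 0) (M : Matrix ι ι K)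
    (hι : Fintype.card ι = 2 * (k + 1)) (hdet : M.det ≠ 0) (hM : Mᵀ = M ∨ Mᵀ = -M) :
    Similar M (Matrix.J (Fin (k + 1)) K) ∨ Similar M (pMat (qfPlus (k + 1) K)) ∨
      Similar M (pMat (qfMinus k K a b)) := by
  rcases hM with hM | hM
  · refine Or.inr ?_
    have hP := det_pMat_ne_zero (nondegenerate_qfPlus (F := K) (k + 1))
    have hN := det_pMat_ne_zero (nondegenerate_qfMinus (F := K) k hab)
    by_cases h : IsSquare ((pMat (qfPlus (k + 1) K)).det * M.det)
    · exact Or.inl (similar_of_det h2 hM (pMat_transpose _) hdet hP (by simp [hι, two_mul]) h)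
    · refine Or.inr (similar_of_det h2 hM (pMat_transpose _) hdet hN (by simp [hι]; omega) ?_)
      have h1 := isSquare_of_two_nonsquares h2 (minus_disc h2 k hab) h
      rw [show (pMat (qfPlus (k + 1) K)).det * (pMat (qfMinus k K a b)).det *
          ((pMat (qfPlus (k + 1) K)).det * M.det) =
          (pMat (qfPlus (k + 1) K)).det ^ 2 * ((pMat (qfMinus k K a b)).det * M.det) by ring,
        isSquare_mul_sq hP] at h1
      exact h1
  · exact Or.inl (similar_J M hι hdet (bf_self_zero_of_skew h2 hM))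

theorem plus_ne_minus (h2 : (2 : K) ≠ 0) (k : ℕ) {a b : K}
    (hab : ∀ z₁ z₂ : K, z₁ ^ 2 + a * z₁ * z₂ + b * z₂ ^ 2 = 0 → z₁ = 0 ∧ z₂ = 0) :
    ¬ Similar (pMat (qfPlus (k + 1) K)) (pMat (qfMinus k K a b)) := fun h => by
  obtain ⟨c, t, hc, ht, he⟩ := similar_sq h (Fintype.equivOfCardEq (by simp; omega))
  refine minus_disc h2 k hab ?_
  simp only [Fintype.card_sum, Fintype.card_fin] at he
  refine ⟨(pMat (qfPlus (k + 1) K)).det * t / c ^ (k + 1), ?_⟩
  field_simp
  rw [show k + 1 + (k + 1) = (k + 1) * 2 by ring, pow_mul] at he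
  linear_combination (-(pMat (qfPlus (k + 1) K)).det) * he

theorem skew_of_similar_J {m : ℕ} {M : Matrix ι ι K} (h : Similar M (Matrix.J (Fin m) K)) : Mᵀ = -M := by
  obtain ⟨L, c, hc, hL⟩ := h
  refine eq_of_bf fun u v => ?_
  obtain ⟨x, rfl⟩ := L.surjective u
  obtain ⟨y, rfl⟩ := L.surjective v
  have e : bf Mᵀ (L x) (L y) = bf M (L y) (L x) := by
    rw [bf, bf, Matrix.dotProduct_mulVec, Matrix.vecMul_transpose, dotProduct_comm]
  rw [e]
  show bf M (L y) (L x) = L x ⬝ᵥ ((-M) *ᵥ L y)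
  rw [Matrix.neg_mulVec, dotProduct_neg]
  show bf M (L y) (L x) = -bf M (L x) (L y)
  rw [hL, hL, show bf (Matrix.J (Fin m) K) y x = sympForm m K y x from rfl, sympForm_swap, mul_neg]
  rfl

theorem J_not_symm (h2 : (2 : K) ≠ 0) {m : ℕ} {M : Matrix ι ι K} (hι : 0 < Fintype.card ι)
    (hdet : M.det ≠ 0) (hM : Mᵀ = M) : ¬ Similar M (Matrix.J (Fin m) K) := fun h => by
  have h1 := skew_of_similar_J h
  rw [hM] at h1
  have h3 : (2 : K) • M = 0 := by rw [two_smul]; nth_rewrite 2 [h1]; exact add_neg_cancel M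
  haveI : Nonempty ι := Fintype.card_pos_iff.1 hι
  exact hdet (by rw [(smul_eq_zero.1 h3).resolve_left h2, Matrix.det_zero])

/-! ### Similitudes -/

theorem sim_det {M : Matrix ι ι K} (hdet : M.det ≠ 0) {g : GL ι K} {c : Kˣ}
    (h : (g : Matrix ι ι K)ᵀ * M * (g : Matrix ι ι K) = (c : K) • M) :
    (g : Matrix ι ι K).det ^ 2 = (c : K) ^ Fintype.card ι := by
  have h1 := congrArg Matrix.det h
  rw [Matrix.det_mul, Matrix.det_mul, Matrix.det_transpose, Matrix.det_smul] at h1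
  refine mul_right_cancel₀ hdet ?_
  linear_combination h1

theorem exists_multiplier (h2 : (2 : K) ≠ 0) {M : Matrix ι ι K} {m : ℕ} (hι : Fintype.card ι = 2 * m)
    (hdet : M.det ≠ 0) (hM : Mᵀ = M) (c : Kˣ) :
    ∃ g : GL ι K, (g : Matrix ι ι K)ᵀ * M * (g : Matrix ι ι K) = (c : K) • M := by
  have hd : ((c : K) • M).det = ((c : K) ^ m) ^ 2 * M.det := by
    rw [Matrix.det_smul, hι, ← pow_mul, mul_comm m]
  obtain ⟨L, hL⟩ := congr_of_det h2 hM (show ((c : K) • M)ᵀ = (c : K) • M by rw [Matrix.transpose_smul, hM]) hdet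
    (by rw [hd]; exact mul_ne_zero (pow_ne_zero _ (pow_ne_zero _ c.ne_zero)) hdet) rfl
    ⟨(c : K) ^ m * M.det, by rw [hd]; ring⟩
  obtain ⟨P, hP⟩ : ∃ P : GL ι K, ∀ v, (P : Matrix ι ι K) *ᵥ v = L v := by
    refine ⟨Matrix.GeneralLinearGroup.toLin.symm (LinearMap.GeneralLinearGroup.ofLinearEquiv L), fun v => ?_⟩
    have h1 := Matrix.GeneralLinearGroup.toLin_apply
      (A := Matrix.GeneralLinearGroup.toLin.symm (LinearMap.GeneralLinearGroup.ofLinearEquiv L)) v
    rw [MulEquiv.apply_symm_apply] at h1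
    exact h1.symm
  exact ⟨P, eq_of_bf fun u v => by rw [bf_congr, hP, hP, hL]⟩

end Cfsg.Agent.Classical.FormSim
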