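import Mathlib

/-!
The number of conjugacy classes of `GL_n(q)` is at most `q ^ n`: classes are covered by multisets of elementary
divisors, and the number `A 1 n` of these satisfies a telescoping identity.
-/

set_option autoImplicit false
set_option linter.unusedSectionVars false

namespace Cfsg.Agent.GLClassNumber

open Polynomial Finset

/-- Weighted sequences with all indices at least `k`. -/
def A (q k n : ℕ) : ℕ :=
  if n = 0 then 1 else if k = 0 ∨ n < k then 0
  else A q (k + 1) n + (q - 1) * ∑ d : Fin (n / k), q ^ (d : ℕ) * A q (k + 1) (n - k * ((d : ℕ) + 1))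
termination_by n + 1 - k
decreasing_by
  · omega
  · omega

theorem A_zero (q k : ℕ) : A q k 0 = 1 := by rw [A]; simp

theorem A_of_lt (q : ℕ) {k n : ℕ} (hn : 0 < n) (h : n < k) : A q k n = 0 := by
  rw [A]; simp [hn.ne', h]

theorem A_of_le (q : ℕ) {k n : ℕ} (hk : 0 < k) (h : k ≤ n) :
    A q k n = A q (k + 1) n + (q - 1) * ∑ d ∈ range (n / k), q ^ d * A q (k + 1) (n - k * (d + 1)) := by
  rw [A, if_neg (show n ≠ 0 by omega), if_neg (show ¬ (k = 0 ∨ n < k) by omega),
    Fin.sum_univ_eq_sum_range (fun d => q ^ d * A q (k + 1) (n - k * (d + 1)))]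

theorem A_step {q : ℕ} (hq : 1 ≤ q) {k n : ℕ} (hk : 0 < k) (h : k ≤ n) :
    A q k n + A q (k + 1) (n - k) = A q (k + 1) n + q * A q k (n - k) := by
  obtain ⟨m, rfl⟩ : ∃ m, n = m + k := ⟨n - k, by omega⟩
  rw [Nat.add_sub_cancel, A_of_le q hk (by omega), Nat.add_div_right _ hk, sum_range_succ']
  have e0 : m + k - k * (0 + 1) = m := by omega
  have e1 : ∀ d : ℕ, m + k - k * (d + 1 + 1) = m - k * (d + 1) := fun d => by
    rw [show k * (d + 1 + 1) = k * (d + 1) + k by ring, Nat.add_sub_add_right]
  simp only [e0, e1, pow_zero, one_mul, pow_succ]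
  obtain ⟨r, rfl⟩ : ∃ r, q = r + 1 := ⟨q - 1, by omega⟩
  rw [Nat.add_sub_cancel]
  by_cases hm : k ≤ m
  · rw [A_of_le _ hk hm, Nat.add_sub_cancel]
    rw [show ∑ d ∈ range (m / k), (r + 1) ^ d * (r + 1) * A (r + 1) (k + 1) (m - k * (d + 1)) =
      (r + 1) * ∑ d ∈ range (m / k), (r + 1) ^ d * A (r + 1) (k + 1) (m - k * (d + 1)) by
      rw [mul_sum]; exact sum_congr rfl fun d _ => by ring]
    ring
  · rw [Nat.div_eq_of_lt (not_le.1 hm), sum_range_zero, zero_add]
    rcases Nat.eq_zero_or_pos m with rfl | hm0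
    · rw [A_zero, A_zero]; ring
    · rw [A_of_lt _ hm0 (not_le.1 hm), A_of_lt _ hm0 (by omega)]; ring

/-- The telescoping total. -/
def H (q n : ℕ) : ℕ := A q 1 n + ∑ i ∈ range n, A q (i + 2) (n - (i + 1))

theorem H_succ {q : ℕ} (hq : 1 ≤ q) (n : ℕ) : H q (n + 1) = q * H q n := by
  have h1 : ∀ j, j ≤ n + 1 → A q 1 (n + 1) + ∑ i ∈ range j, A q (i + 2) (n + 1 - (i + 1)) =
      A q (j + 1) (n + 1) + q * ∑ i ∈ range j, A q (i + 1) (n + 1 - (i + 1)) := by
    intro j
    induction j with
    | zero => intro _; simp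
    | succ j ih =>
      intro hj
      have hs := A_step hq (show 0 < j + 1 by omega) (show j + 1 ≤ n + 1 by omega)
      rw [sum_range_succ, sum_range_succ, mul_add, ← add_assoc, ih (by omega)]
      linarith [hs]
  rw [H, h1 _ le_rfl, A_of_lt q (by omega) (by omega), zero_add, H, sum_range_succ', add_comm (A q 1 n)]
  congr 1
  rw [zero_add, show n + 1 - 1 = n by omega]
  congr 1
  exact sum_congr rfl fun i _ => by rw [show n + 1 - (i + 1 + 1) = n - (i + 1) by omega]

theorem A_le {q : ℕ} (hq : 1 ≤ q) (n : ℕ) : A q 1 n ≤ q ^ n := by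
  have h : ∀ n, H q n = q ^ n := fun n => by
    induction n with
    | zero => simp [H, A_zero]
    | succ n ih => rw [H_succ hq, ih, pow_succ']
  exact le_of_le_of_eq (Nat.le_add_right _ _) (h n)

variable {F : Type*} [Field F] [Fintype F]

/-- Monic polynomials with non-zero constant term. -/
abbrev P (F : Type*) [Field F] (d : ℕ) : Type _ := {h : F[X] // h.Monic ∧ h.natDegree = d ∧ h.coeff 0 ≠ 0}

theorem card_P (d : ℕ) : Finite (P F d) ∧
    Nat.card (P F d) ≤ if d = 0 then 1 else (Fintype.card F - 1) * Fintype.card F ^ (d - 1) := by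
  classical
  rcases d with _ | d
  · haveI : Subsingleton (P F 0) := ⟨fun a b => Subtype.ext (by
      rw [a.2.1.natDegree_eq_zero.1 a.2.2.1, b.2.1.natDegree_eq_zero.1 b.2.2.1])⟩
    exact ⟨inferInstance, by simpa using Finite.card_le_one_iff_subsingleton.2 inferInstance⟩
  let f : P F (d + 1) → {a : F // a ≠ 0} × (Fin d → F) := fun h => (⟨h.1.coeff 0, h.2.2.2⟩, fun i => h.1.coeff (i + 1))
  have hf : Function.Injective f := by
    intro a b hab
    refine Subtype.ext (Polynomial.ext fun i => ?_)
    simp only [f, Prod.mk.injEq, Subtype.mk.injEq] at hab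
    rcases lt_trichotomy i (d + 1) with hi | rfl | hi
    · rcases i with _ | i
      · exact hab.1
      · exact congrFun hab.2 ⟨i, by omega⟩
    · have ha := a.2.1.coeff_natDegree
      have hb := b.2.1.coeff_natDegree
      rw [a.2.2.1] at ha
      rw [b.2.2.1] at hb
      rw [ha, hb]
    · rw [coeff_eq_zero_of_natDegree_lt (by rw [a.2.2.1]; exact hi), coeff_eq_zero_of_natDegree_lt (by rw [b.2.2.1]; exact hi)]
  refine ⟨Finite.of_injective f hf, (Nat.card_le_card_of_injective f hf).trans (le_of_eq ?_)⟩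
  rw [if_neg d.succ_ne_zero, Nat.card_prod, Nat.card_eq_fintype_card, Fintype.card_subtype_compl, Fintype.card_subtype_eq,
    Nat.card_fun, Nat.card_eq_fintype_card, Nat.card_eq_fintype_card, Fintype.card_fin, Nat.add_sub_cancel]

/-- Multisets of elementary divisors `(f, e)`, `k ≤ e`, of total degree `n`. -/
abbrev T (F : Type*) [Field F] (k n : ℕ) : Type _ :=
  {S : Multiset (F[X] × ℕ) // (∀ x ∈ S, x.1.Monic ∧ Irreducible x.1 ∧ x.1.coeff 0 ≠ 0 ∧ k ≤ x.2) ∧
    (S.map fun x => x.2 * x.1.natDegree).sum = n}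

theorem T_zero_or {k n : ℕ} (hk : 1 ≤ k) (h : n < k) (S : T F k n) : S.1 = 0 := by
  by_contra h0
  obtain ⟨x, hx⟩ := Multiset.exists_mem_of_ne_zero h0
  obtain ⟨-, hirr, -, hxk⟩ := S.2.1 x hx
  have h1 : x.2 * x.1.natDegree ≤ n :=
    le_of_le_of_eq (Multiset.le_sum_of_mem (Multiset.mem_map_of_mem (fun x => x.2 * x.1.natDegree) hx)) S.2.2
  have := Nat.le_mul_of_pos_right x.2 hirr.natDegree_pos
  omega

theorem card_T : ∀ (j k n : ℕ), n + 1 - k ≤ j → 1 ≤ k →
    Finite (T F k n) ∧ Nat.card (T F k n) ≤ A (Fintype.card F) k n := by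
  classical
  intro j
  induction j with
  | zero =>
    intro k n hj hk
    haveI : Subsingleton (T F k n) := ⟨fun a b => Subtype.ext ((T_zero_or hk (by omega) a).trans (T_zero_or hk (by omega) b).symm)⟩
    refine ⟨inferInstance, ?_⟩
    rcases Nat.eq_zero_or_pos n with rfl | hn
    · rw [A_zero]; exact Finite.card_le_one_iff_subsingleton.2 inferInstance
    · haveI : IsEmpty (T F k n) := ⟨fun a => by
        have := a.2.2
        rw [T_zero_or hk (by omega) a, Multiset.map_zero, Multiset.sum_zero] at this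
        omega⟩
      simp
  | succ j ih =>
    intro k n hj hk
    by_cases hnk : n < k
    · haveI : Subsingleton (T F k n) := ⟨fun a b => Subtype.ext ((T_zero_or hk hnk a).trans (T_zero_or hk hnk b).symm)⟩
      refine ⟨inferInstance, ?_⟩
      rcases Nat.eq_zero_or_pos n with rfl | hn
      · rw [A_zero]; exact Finite.card_le_one_iff_subsingleton.2 inferInstance
      · haveI : IsEmpty (T F k n) := ⟨fun a => by
          have := a.2.2
          rw [T_zero_or hk hnk a, Multiset.map_zero, Multiset.sum_zero] at this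
          omega⟩
        simp
    · let R := Σ d : Fin (n / k + 1), P F (d : ℕ) × T F (k + 1) (n - k * (d : ℕ))
      haveI : ∀ d : Fin (n / k + 1), Finite (P F (d : ℕ)) := fun d => (card_P _).1
      haveI : ∀ d : Fin (n / k + 1), Finite (T F (k + 1) (n - k * (d : ℕ))) := fun d => (ih _ _ (by omega) (by omega)).1
      have key : ∀ S : T F k n, ∃ r : R,
          UniqueFactorizationMonoid.normalizedFactors r.2.1.1 = (S.1.filter fun x => x.2 = k).map Prod.fst ∧
          r.2.2.1 = S.1.filter fun x => ¬ x.2 = k := by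
        intro S
        set M := (S.1.filter fun x => x.2 = k).map Prod.fst with hM
        have hmon : ∀ f ∈ M, f.Monic ∧ Irreducible f ∧ f.coeff 0 ≠ 0 := fun f hf => by
          obtain ⟨x, hx, rfl⟩ := Multiset.mem_map.1 hf
          exact ⟨(S.2.1 x (Multiset.mem_filter.1 hx).1).1, (S.2.1 x (Multiset.mem_filter.1 hx).1).2.1,
            (S.2.1 x (Multiset.mem_filter.1 hx).1).2.2.1⟩
        have hpm : M.prod.Monic := by
          have := monic_multiset_prod_of_monic M (fun f => f) fun f hf => (hmon f hf).1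
          rwa [Multiset.map_id'] at this
        have hdeg : M.prod.natDegree = (M.map natDegree).sum :=
          natDegree_multiset_prod _ fun h0 => by
            have := (hmon 0 h0).1.ne_zero
            exact this rfl
        have hsum : k * M.prod.natDegree + ((S.1.filter fun x => ¬ x.2 = k).map fun x => x.2 * x.1.natDegree).sum = n := by
          conv_rhs => rw [← S.2.2, ← Multiset.filter_add_not (fun x => x.2 = k) S.1, Multiset.map_add, Multiset.sum_add]
          congr 1
          rw [hdeg, hM, Multiset.map_map, ← Multiset.sum_map_mul_left]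
          exact congrArg Multiset.sum (Multiset.map_congr rfl fun x hx => by
            rw [Function.comp_apply, (Multiset.mem_filter.1 hx).2])
        have hd : M.prod.natDegree < n / k + 1 := Nat.lt_succ_of_le ((Nat.le_div_iff_mul_le hk).2 (by rw [mul_comm]; omega))
        refine ⟨⟨⟨_, hd⟩, ⟨M.prod, hpm, rfl, ?_⟩, ⟨S.1.filter fun x => ¬ x.2 = k, fun x hx => ?_, ?_⟩⟩, ?_, rfl⟩
        · rw [coeff_zero_eq_eval_zero, eval_multiset_prod]
          refine Multiset.prod_ne_zero fun h0 => ?_
          obtain ⟨f, hf, hf0⟩ := Multiset.mem_map.1 h0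
          exact (hmon f hf).2.2 (by rw [coeff_zero_eq_eval_zero]; exact hf0)
        · obtain ⟨hx1, hx2⟩ := Multiset.mem_filter.1 hx
          obtain ⟨a, b, c, e⟩ := S.2.1 x hx1
          exact ⟨a, b, c, by omega⟩
        · show _ = n - k * M.prod.natDegree
          omega
        · show UniqueFactorizationMonoid.normalizedFactors M.prod = M
          rw [UniqueFactorizationMonoid.normalizedFactors_prod_eq M fun f hf => (hmon f hf).2.1]
          conv_rhs => rw [← Multiset.map_id' M]
          exact Multiset.map_congr rfl fun f hf => (hmon f hf).1.normalize_eq_self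
      choose ψ hψ1 hψ2 using key
      have hinj : Function.Injective ψ := by
        intro a b hab
        refine Subtype.ext ?_
        rw [← Multiset.filter_add_not (fun x => x.2 = k) a.1, ← Multiset.filter_add_not (fun x => x.2 = k) b.1,
          ← hψ2 a, ← hψ2 b]
        have h1 := hψ1 a
        rw [hab, hψ1 b] at h1
        rw [hab]
        congr 1
        have hrec : ∀ S : T F k n, (S.1.filter fun x => x.2 = k) =
            ((S.1.filter fun x => x.2 = k).map Prod.fst).map fun f => (f, k) := fun S => by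
          rw [Multiset.map_map]
          conv_lhs => rw [← Multiset.map_id (S.1.filter fun x => x.2 = k)]
          exact Multiset.map_congr rfl fun x hx => Prod.ext rfl (Multiset.mem_filter.1 hx).2
        rw [hrec a, hrec b, h1]
      refine ⟨Finite.of_injective ψ hinj, (Nat.card_le_card_of_injective ψ hinj).trans ?_⟩
      rw [Nat.card_sigma, A_of_le _ hk (by omega),
        Fin.sum_univ_eq_sum_range (fun d => Nat.card (P F d × T F (k + 1) (n - k * d))), sum_range_succ', mul_sum]
      rw [add_comm]
      refine Nat.add_le_add ?_ (sum_le_sum fun d _ => ?_)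
      · rw [Nat.card_prod, mul_zero, Nat.sub_zero]
        have := (card_P (F := F) 0).2
        rw [if_pos rfl] at this
        exact (Nat.mul_le_mul this (ih _ _ (by omega) (by omega)).2).trans (one_mul _).le
      · rw [Nat.card_prod]
        have := (card_P (F := F) (d + 1)).2
        rw [if_neg d.succ_ne_zero, Nat.add_sub_cancel] at this
        exact (Nat.mul_le_mul this (ih _ _ (by omega) (by omega)).2).trans (mul_assoc _ _ _).le

theorem exists_equiv_of_map_eq {α β γ : Type*} [Fintype α] [Fintype β] (f : α → γ) (g : β → γ)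
    (h : Finset.univ.val.map f = Finset.univ.val.map g) : ∃ e : α ≃ β, ∀ a, g (e a) = f a := by
  classical
  refine ⟨Equiv.ofFiberEquiv (f := f) (g := g) fun c => Fintype.equivOfCardEq ?_, fun a => Equiv.ofFiberEquiv_map _ a⟩
  have h1 := congrArg (Multiset.count c) h
  rw [Multiset.count_map, Multiset.count_map] at h1
  rw [Fintype.card_subtype, Fintype.card_subtype]
  simpa [Finset.card_def, eq_comm] using h1

/-- Every matrix class is determined by a multiset of elementary divisors. -/
theorem natCard_classes_le (n : ℕ) : Nat.card (ConjClasses (GL (Fin n) F)) ≤ Fintype.card F ^ n := by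
  classical
  let tl : GL (Fin n) F → ((Fin n → F) →ₗ[F] (Fin n → F)) := fun g => Matrix.toLin' (g : Matrix (Fin n) (Fin n) F)
  have data : ∀ g : GL (Fin n) F, ∃ (I : Type _) (_ : Fintype I) (p : I → F[X]) (e : I → ℕ)
      (_ : Module.AEval' (tl g) ≃ₗ[F[X]] DirectSum I fun i => F[X] ⧸ (Submodule.span F[X] ({p i ^ e i} : Set F[X]))),
      (∀ i, (p i).Monic ∧ Irreducible (p i)) ∧ (∀ i, 0 < e i → (p i).coeff 0 ≠ 0) ∧ ∑ i, e i * (p i).natDegree = n := by
    intro g
    haveI : Module.Finite F[X] (Module.AEval' (tl g)) := inferInstance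
    have htor : Module.IsTorsion F[X] (Module.AEval' (tl g)) := by
      intro x
      refine ⟨⟨(tl g).charpoly, mem_nonZeroDivisors_of_ne_zero (tl g).charpoly_monic.ne_zero⟩, ?_⟩
      obtain ⟨v, rfl⟩ := (Module.AEval'.of (tl g)).surjective x
      show (tl g).charpoly • Module.AEval'.of (tl g) v = 0
      rw [show (tl g).charpoly • Module.AEval'.of (tl g) v = Module.AEval'.of (tl g) (aeval (tl g) (tl g).charpoly • v) from rfl,
        LinearMap.aeval_self_charpoly, zero_smul, map_zero]
    obtain ⟨I, hI, p, hp, e, ⟨E⟩⟩ := Module.equiv_directSum_of_isTorsion htor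
    let p' : I → F[X] := fun i => normalize (p i)
    have hsp : ∀ i, Submodule.span F[X] ({p i ^ e i} : Set F[X]) = Submodule.span F[X] ({p' i ^ e i} : Set F[X]) := fun i =>
      Ideal.span_singleton_eq_span_singleton.2 ((normalize_associated (p i)).symm.pow_pow)
    let E' := E.trans (DirectSum.congrLinearEquiv fun i => Submodule.quotEquivOfEq _ _ (hsp i))
    refine ⟨I, hI, p', e, E', fun i => ⟨monic_normalize (hp i).ne_zero, (normalize_associated (p i)).symm.irreducible (hp i)⟩,
      fun i hi h0 => ?_, ?_⟩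
    · obtain ⟨c, hc⟩ := (X_dvd_iff.2 h0 : X ∣ p' i)
      let t : F[X] := c * p' i ^ (e i - 1)
      have hne : ¬ p' i ^ e i ∣ t := by
        intro hd
        have hp' : p' i ≠ 0 := (monic_normalize (hp i).ne_zero).ne_zero
        have h2 : X * p' i ^ (e i - 1) * c ∣ p' i ^ (e i - 1) * c := by
          rw [show X * p' i ^ (e i - 1) * c = p' i ^ e i by
            conv_rhs => rw [show e i = e i - 1 + 1 by omega, pow_succ, hc]
            rw [hc]; ring]
          rwa [mul_comm _ c]
        have h3 : (X * (p' i ^ (e i - 1) * c)) ∣ 1 * (p' i ^ (e i - 1) * c) := by rwa [one_mul, ← mul_assoc]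
        exact Polynomial.not_isUnit_X (isUnit_of_dvd_one ((mul_dvd_mul_iff_right (mul_ne_zero (pow_ne_zero _ hp')
          (fun e0 => hp' (by rw [hc, e0, mul_zero])))).1 h3))
      set x : DirectSum I fun i => F[X] ⧸ (Submodule.span F[X] ({p' i ^ e i} : Set F[X])) :=
        DirectSum.lof F[X] I _ i (Submodule.Quotient.mk t)
      have hX : (X : F[X]) • x = 0 := by
        rw [← map_smul, ← Submodule.Quotient.mk_smul, (Submodule.Quotient.mk_eq_zero _).2, map_zero]
        refine Ideal.mem_span_singleton.2 (dvd_of_eq ?_)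
        simp only [t]
        conv_lhs => rw [show e i = e i - 1 + 1 by omega, pow_succ]
        rw [smul_eq_mul, hc]
        ring
      obtain ⟨v, hv⟩ := (Module.AEval'.of (tl g)).surjective (E'.symm x)
      have h4 : Module.AEval'.of (tl g) (tl g v) = 0 := by
        rw [← Module.AEval'.X_smul_of, hv, ← map_smul, hX, map_zero]
      have hv0 : v = 0 := by
        have h5 : tl g v = 0 := (LinearEquiv.map_eq_zero_iff _).1 h4
        have h6 := congrArg ((g⁻¹ : GL (Fin n) F) : Matrix (Fin n) (Fin n) F).mulVec h5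
        rwa [show tl g v = (g : Matrix (Fin n) (Fin n) F).mulVec v from rfl, Matrix.mulVec_mulVec, Units.inv_mul,
          Matrix.one_mulVec, Matrix.mulVec_zero] at h6
      rw [hv0, map_zero] at hv
      have h7 := congrArg (DirectSum.component F[X] I (fun i => F[X] ⧸ (Submodule.span F[X] ({p' i ^ e i} : Set F[X]))) i)
        ((LinearEquiv.map_eq_zero_iff _).1 hv.symm)
      rw [DirectSum.component.lof_self, map_zero, Submodule.Quotient.mk_eq_zero] at h7
      exact hne (Ideal.mem_span_singleton.1 h7)
    · have hfin := ((Module.AEval'.of (tl g)).trans (E'.restrictScalars F)).finrank_eq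
      rw [Module.finrank_fin_fun] at hfin
      have e2 : ∀ i, Module.finrank F (F[X] ⧸ (Submodule.span F[X] ({p' i ^ e i} : Set F[X]))) = e i * (p' i).natDegree :=
        fun i => by
          rw [← natDegree_pow]
          exact finrank_quotient_span_eq_natDegree
      haveI : ∀ i, Module.Finite F (F[X] ⧸ (Submodule.span F[X] ({p' i ^ e i} : Set F[X]))) := fun i =>
        Module.Finite.of_basis (AdjoinRoot.powerBasis (pow_ne_zero _ (monic_normalize (hp i).ne_zero).ne_zero)).basis
      rw [hfin, ((DirectSum.linearEquivFunOnFintype F[X] I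
        (fun i => F[X] ⧸ (Submodule.span F[X] ({p' i ^ e i} : Set F[X])))).restrictScalars F).finrank_eq,
        Module.finrank_pi_fintype]
      exact Finset.sum_congr rfl fun i _ => (e2 i).symm
  choose I hI p e E hp hX hsum using data
  let lab : ∀ g, {i : I g // 0 < e g i} → F[X] × ℕ := fun g i => (p g i.1, e g i.1)
  have hS : ∀ g, (∀ x ∈ (Finset.univ : Finset {i : I g // 0 < e g i}).val.map (lab g),
      x.1.Monic ∧ Irreducible x.1 ∧ x.1.coeff 0 ≠ 0 ∧ 1 ≤ x.2) ∧
      (((Finset.univ : Finset {i : I g // 0 < e g i}).val.map (lab g)).map fun x => x.2 * x.1.natDegree).sum = n := by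
    intro g
    constructor
    · intro x hx
      obtain ⟨i, -, rfl⟩ := Multiset.mem_map.1 hx
      exact ⟨(hp g i.1).1, (hp g i.1).2, hX g i.1 i.2, i.2⟩
    · rw [Multiset.map_map, ← Finset.sum_eq_multiset_sum]
      show ∑ i : {i : I g // 0 < e g i}, e g i.1 * (p g i.1).natDegree = n
      rw [← Finset.sum_subtype (Finset.univ.filter fun i => 0 < e g i) (by simp) fun i => e g i * (p g i).natDegree,
        Finset.sum_filter_of_ne fun i _ hi => Nat.pos_of_ne_zero fun h0 => hi (by rw [h0, zero_mul])]
      exact hsum g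
  obtain ⟨hfinT, hle⟩ := card_T (F := F) (n + 1) 1 n (by omega) le_rfl
  refine le_trans ?_ (hle.trans (A_le Fintype.card_pos n))
  let Ψ : ConjClasses (GL (Fin n) F) → T F 1 n := fun c =>
    ⟨_, hS (Classical.choose (ConjClasses.exists_rep c))⟩
  refine Nat.card_le_card_of_injective Ψ fun c c' hcc => ?_
  have hc := Classical.choose_spec (ConjClasses.exists_rep c)
  have hc' := Classical.choose_spec (ConjClasses.exists_rep c')
  set g := Classical.choose (ConjClasses.exists_rep c)
  set g' := Classical.choose (ConjClasses.exists_rep c')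
  obtain ⟨σ, hσ⟩ := exists_equiv_of_map_eq (lab g) (lab g') (congrArg Subtype.val hcc)
  rw [← hc, ← hc', ConjClasses.mk_eq_mk_iff_isConj]
  let M : ∀ g, I g → Type _ := fun g i => F[X] ⧸ (Submodule.span F[X] ({p g i ^ e g i} : Set F[X]))
  have hres : ∀ g, Nonempty ((DirectSum (I g) fun i => F[X] ⧸ (Submodule.span F[X] ({p g i ^ e g i} : Set F[X]))) ≃ₗ[F[X]]
      ∀ i : {i : I g // 0 < e g i}, F[X] ⧸ (Submodule.span F[X] ({p g i.1 ^ e g i.1} : Set F[X]))) := by
    intro g
    let N : I g → Type _ := fun i => F[X] ⧸ (Submodule.span F[X] ({p g i ^ e g i} : Set F[X]))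
    have hsub : ∀ i, ¬ 0 < e g i → ∀ x : F[X] ⧸ (Submodule.span F[X] ({p g i ^ e g i} : Set F[X])), x = 0 := fun i hi x => by
      obtain ⟨y, rfl⟩ := Submodule.Quotient.mk_surjective _ x
      rw [Submodule.Quotient.mk_eq_zero, Nat.eq_zero_of_not_pos hi, pow_zero]
      exact Ideal.mem_span_singleton.2 (one_dvd y)
    refine ⟨(DirectSum.linearEquivFunOnFintype F[X] (I g)
      (fun i => F[X] ⧸ (Submodule.span F[X] ({p g i ^ e g i} : Set F[X])))).trans
      (LinearEquiv.ofBijective (LinearMap.pi fun i : {i : I g // 0 < e g i} => LinearMap.proj i.1) ⟨?_, ?_⟩)⟩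
    · intro x y hxy
      funext i
      by_cases hi : 0 < e g i
      · exact congrFun hxy ⟨i, hi⟩
      · rw [hsub i hi (x i), hsub i hi (y i)]
    · intro y
      exact ⟨fun i => if hi : 0 < e g i then y ⟨i, hi⟩ else 0, funext fun i => dif_pos i.2⟩
  obtain ⟨R⟩ := hres g
  obtain ⟨R'⟩ := hres g'
  let C := (LinearEquiv.piCongrRight fun i : {i : I g // 0 < e g i} =>
      Submodule.quotEquivOfEq (Submodule.span F[X] ({p g i.1 ^ e g i.1} : Set F[X]))
        (Submodule.span F[X] ({p g' (σ i).1 ^ e g' (σ i).1} : Set F[X]))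
        (by
          have := hσ i
          simp only [lab, Prod.mk.injEq] at this
          rw [this.1, this.2])).trans
    (LinearEquiv.piCongrLeft F[X] (fun i : {i : I g' // 0 < e g' i} =>
      F[X] ⧸ (Submodule.span F[X] ({p g' i.1 ^ e g' i.1} : Set F[X]))) σ)
  let Θ := (((E g).trans R).trans C).trans (R'.symm.trans (E g').symm)
  let L : (Fin n → F) ≃ₗ[F] (Fin n → F) :=
    ((Module.AEval'.of (tl g)).trans (Θ.restrictScalars F)).trans (Module.AEval'.of (tl g')).symm
  have hL : ∀ v, L (tl g v) = tl g' (L v) := fun v => by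
    refine (Module.AEval'.of (tl g')).injective ?_
    rw [← Module.AEval'.X_smul_of]
    simp only [L, LinearEquiv.trans_apply, LinearEquiv.apply_symm_apply, LinearEquiv.restrictScalars_apply]
    rw [← Module.AEval'.X_smul_of, map_smul]
  obtain ⟨P, hP⟩ : ∃ P : GL (Fin n) F, (P : Matrix (Fin n) (Fin n) F) = LinearMap.toMatrixAlgEquiv' (L : (Fin n → F) →ₗ[F] (Fin n → F)) :=
    (IsUnit.map LinearMap.toMatrixAlgEquiv'
      (show IsUnit (L : Module.End F (Fin n → F)) from (LinearMap.GeneralLinearGroup.ofLinearEquiv L).isUnit))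
  refine isConj_iff.2 ⟨P, ?_⟩
  rw [mul_inv_eq_iff_eq_mul]
  refine Units.ext ?_
  rw [Units.val_mul, Units.val_mul, hP]
  apply Matrix.toLinAlgEquiv'.injective
  rw [map_mul, map_mul, Matrix.toLinAlgEquiv'_toMatrixAlgEquiv']
  exact LinearMap.ext hL

end Cfsg.Agent.GLClassNumber
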