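import Cfsg.Agent.Lib.Classical.GLSemisimpleClasses

/-! Classes of elements of prime order different from the characteristic in `GL_n`. -/

set_option autoImplicit false

namespace Cfsg.Agent.GLPrimeOrderClasses

open Polynomial Matrix UniqueFactorizationMonoid

variable {F : Type*} [Field F] {n : ℕ}

open Classical in
/-- A semisimple matrix all of whose eigenvalues are `r`-th roots of one has order dividing `r`. -/
theorem pow_eq_one_of_factors {M : ℕ} (hM : (M : F) ≠ 0) (g : Module.End F (Fin n → F)) (hgM : g ^ M = 1)
    {r : ℕ} (hr : r ≠ 0) (h : ∀ f : F[X], f.Monic → Irreducible f → f ∣ g.charpoly → f ∣ X ^ r - 1) :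
    g ^ r = 1 := by
  have hint : IsIntegral F g := IsIntegral.of_finite F g
  have hm := minpoly.ne_zero hint
  have hM0 : M ≠ 0 := fun e => hM (by rw [e, Nat.cast_zero])
  have hd : minpoly F g ∣ X ^ M - 1 := minpoly.dvd F g (by simp [hgM])
  have hsq : Squarefree (minpoly F g) := by
    refine Squarefree.squarefree_of_dvd hd ?_
    rw [← map_one Polynomial.C]
    exact (Polynomial.separable_X_pow_sub_C 1 hM one_ne_zero).squarefree
  have hne : (X ^ r - 1 : F[X]) ≠ 0 := fun e => by
    have := congrArg natDegree e
    rw [← map_one Polynomial.C, natDegree_X_pow_sub_C, natDegree_zero] at this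
    exact hr this
  have hdiv : minpoly F g ∣ X ^ r - 1 := by
    rw [dvd_iff_normalizedFactors_le_normalizedFactors hm hne, Multiset.le_iff_subset
      ((squarefree_iff_nodup_normalizedFactors hm).1 hsq)]
    intro f hf
    obtain ⟨f', hf', hff'⟩ := exists_mem_normalizedFactors_of_dvd hne (irreducible_of_normalized_factor f hf)
      (h f (by rw [← normalize_normalized_factor f hf]; exact monic_normalize (irreducible_of_normalized_factor f hf).ne_zero)
        (irreducible_of_normalized_factor f hf) ((dvd_of_mem_normalizedFactors hf).trans (g.minpoly_dvd_charpoly)))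
    rw [Associated.eq_of_normalized hff' (normalize_normalized_factor f hf) (normalize_normalized_factor f' hf')]
    exact hf'
  obtain ⟨c, hc⟩ := hdiv
  have := congrArg (aeval g) hc
  rw [map_mul, minpoly.aeval, zero_mul] at this
  simpa [sub_eq_zero] using this

/-- Irreducible factors of the characteristic polynomial of an element with `g ^ r = 1` divide `X ^ r - 1`. -/
theorem factor_dvd {g : GL (Fin n) F} {r : ℕ} (hg : g ^ r = 1) {f : F[X]} (hf : f.Monic) (hirr : Irreducible f)
    (hdvd : f ∣ (g : Matrix (Fin n) (Fin n) F).charpoly) : f ∣ X ^ r - 1 := by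
  obtain ⟨v, hv0, hv⟩ := Cfsg.Agent.Lie.Semisimple.exists_killed
    (Matrix.toLinAlgEquiv' (g : Matrix (Fin n) (Fin n) F)) hf hirr
    (by rwa [GLSemisimpleClasses.charpoly_toLin'])
  set G := Matrix.toLinAlgEquiv' (g : Matrix (Fin n) (Fin n) F)
  by_contra hcon
  obtain ⟨a, b, hab⟩ := hirr.coprime_iff_not_dvd.2 hcon
  have h0 : aeval G (X ^ r - 1 : F[X]) = 0 := by
    simp [G, GLSemisimpleClasses.toLin'_pow_eq_one hg]
  refine hv0 ?_
  have h := congrArg (fun P => aeval G P v) hab
  simp only [map_add, map_mul, map_one, LinearMap.add_apply, Module.End.mul_apply, Module.End.one_apply, h0, hv,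
    map_zero, LinearMap.zero_apply, add_zero] at h
  exact h.symm

variable [Fintype F] {p : ℕ} [Fact p.Prime] [CharP F p]

/-- The classes of the elements with `g ^ r = 1`. -/
theorem ncard_classes_pow {r i t : ℕ} (hr : r.Prime) (hrp : r ≠ p) (hi : i = orderOf (Fintype.card F : ZMod r))
    (ht : t * i = r - 1) :
    {C : ConjClasses (GL (Fin n) F) | ∃ g : GL (Fin n) F, ConjClasses.mk g = C ∧ g ^ r = 1}.ncard =
      Nat.choose (n / i + t) t := by
  classical
  obtain ⟨e, -, he⟩ := FiniteField.card F p
  have hpr : p.Coprime r := (Nat.coprime_primes Fact.out hr).2 (Ne.symm hrp)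
  have hord : orderOf (ZMod.unitOfCoprime _ (hpr.pow_left (e : ℕ))) = i := by
    rw [hi, he, ← orderOf_units, ZMod.coe_unitOfCoprime]
  have hi0 : 0 < i := hord ▸ orderOf_pos _
  have hrF : (r : F) ≠ 0 := fun h => hrp
    ((Nat.prime_dvd_prime_iff_eq (Fact.out : p.Prime) hr).1 ((CharP.cast_eq_zero_iff F p r).1 h)).symm
  set T := (normalizedFactors (cyclotomic r F)).toFinset with hT
  have hcyc := cyclotomic_ne_zero r F
  have hTd : ∀ f ∈ T, f.Monic ∧ Irreducible f ∧ f.natDegree = i ∧ f ∣ cyclotomic r F := fun f hf => by
    rw [hT, Multiset.mem_toFinset] at hf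
    refine ⟨?_, irreducible_of_normalized_factor f hf, ?_, dvd_of_mem_normalizedFactors hf⟩
    · rw [← normalize_normalized_factor f hf]; exact monic_normalize (irreducible_of_normalized_factor f hf).ne_zero
    · rw [natDegree_of_mem_normalizedFactors_cyclotomic he hpr hf, hord]
  have hTcard : T.card = t := by
    rw [hT, normalizedFactors_cyclotomic_card he hpr, hord, Nat.totient_prime hr, ← ht, Nat.mul_div_cancel _ hi0]
  have hX : ∀ f : F[X], f.Monic → Irreducible f → (f ∣ X ^ r - 1 ↔ f = X - Polynomial.C 1 ∨ f ∈ T) := by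
    intro f hf hirr
    haveI : Fact r.Prime := ⟨hr⟩
    rw [← cyclotomic_prime_mul_X_sub_one F r, ← map_one Polynomial.C]
    constructor
    · intro h
      rcases (hirr.prime).dvd_or_dvd h with h | h
      · right
        obtain ⟨f', hf', hff'⟩ := exists_mem_normalizedFactors_of_dvd hcyc hirr h
        rw [hT, Multiset.mem_toFinset, Associated.eq_of_normalized hff' (hf.normalize_eq_self)
          (normalize_normalized_factor f' hf')]
        exact hf'
      · exact Or.inl (Polynomial.eq_of_monic_of_associated hf (monic_X_sub_C 1)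
          (hirr.associated_of_dvd (irreducible_X_sub_C 1) h))
    · rintro (rfl | h)
      · exact dvd_mul_left _ _
      · exact (hTd f h).2.2.2.mul_right _
  have h1T : (X - Polynomial.C 1 : F[X]) ∉ T := fun h => by
    obtain ⟨c, hc⟩ := (hTd _ h).2.2.2
    have he1 := congrArg (eval 1) hc
    haveI : Fact r.Prime := ⟨hr⟩
    rw [eval_one_cyclotomic_prime, eval_mul, eval_sub, eval_X, eval_C, sub_self, zero_mul] at he1
    exact hrF he1
  set m := n / i
  let w : Option T → F[X] := fun o => o.elim ((X - Polynomial.C 1) ^ i) fun f => f.1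
  let rest : F[X] := (X - Polynomial.C 1) ^ (n - i * m)
  let φ : Sym (Option T) m → F[X] := fun s => ((s : Multiset (Option T)).map w).prod * rest
  have hwm : ∀ o, (w o).Monic ∧ (w o).natDegree = i := by
    rintro (_ | ⟨f, hf⟩)
    · exact ⟨(monic_X_sub_C 1).pow i, by simp [w, -map_one]⟩
    · exact ⟨(hTd f hf).1, (hTd f hf).2.2.1⟩
  have hφ : ∀ s, (φ s).Monic ∧ (φ s).natDegree = n := by
    intro s
    have hm1 : ((s : Multiset (Option T)).map w).prod.Monic :=
      monic_multiset_prod_of_monic _ _ fun o _ => (hwm o).1
    refine ⟨hm1.mul ((monic_X_sub_C 1).pow _), ?_⟩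
    rw [hm1.natDegree_mul ((monic_X_sub_C 1).pow _), natDegree_multiset_prod_of_monic _
      (fun f hf => by obtain ⟨o, -, rfl⟩ := Multiset.mem_map.1 hf; exact (hwm o).1),
      Multiset.map_map, Multiset.map_congr rfl (fun o _ => show (natDegree ∘ w) o = i from (hwm o).2)]
    have hle : i * m ≤ n := Nat.mul_div_le n i
    simp only [Multiset.map_const', Multiset.sum_replicate, smul_eq_mul, Sym.card_coe, natDegree_pow,
      natDegree_X_sub_C, mul_one]
    rw [mul_comm m i]
    omega
  let wf : Option T → Multiset F[X] := fun o =>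
    o.elim (Multiset.replicate i (X - Polynomial.C 1)) fun f => {f.1}
  have hwf : ∀ o, (wf o).prod = w o := by
    rintro (_ | f) <;> simp [wf, w]
  have hnf : ∀ s, normalizedFactors (φ s) =
      (s : Multiset (Option T)).bind wf + Multiset.replicate (n - i * m) (X - Polynomial.C 1) := by
    intro s
    set B := (s : Multiset (Option T)).bind wf + Multiset.replicate (n - i * m) (X - Polynomial.C 1)
    have hB : ∀ f ∈ B, f.Monic ∧ Irreducible f := by
      intro f hf
      rcases Multiset.mem_add.1 hf with h | h
      · obtain ⟨_ | ⟨f', hf'⟩, -, h⟩ := Multiset.mem_bind.1 h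
        · rw [Multiset.eq_of_mem_replicate h]; exact ⟨monic_X_sub_C 1, irreducible_X_sub_C 1⟩
        · rw [show f = f' from Multiset.mem_singleton.1 h]; exact ⟨(hTd f' hf').1, (hTd f' hf').2.1⟩
      · rw [Multiset.eq_of_mem_replicate h]; exact ⟨monic_X_sub_C 1, irreducible_X_sub_C 1⟩
    rw [show φ s = B.prod from ?_, normalizedFactors_prod_eq B fun f hf => (hB f hf).2,
      Multiset.map_congr rfl (fun f hf => (hB f hf).1.normalize_eq_self), Multiset.map_id']
    rw [Multiset.prod_add, Multiset.prod_replicate, Multiset.prod_bind]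
    simp only [φ, rest, hwf]
  have hinj : Function.Injective φ := by
    intro s s' h
    have hc : ∀ (s : Sym (Option T) m) (f : T), (normalizedFactors (φ s)).count f.1 =
        (s : Multiset (Option T)).count (some f) := by
      intro s f
      have hne : (X - Polynomial.C 1 : F[X]) ≠ f.1 := fun e => h1T (e ▸ f.2)
      rw [hnf, Multiset.count_add, Multiset.count_replicate, if_neg hne, add_zero, Multiset.count_bind]
      generalize (s : Multiset (Option T)) = M
      induction M using Multiset.induction with
      | empty => simp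
      | cons o M ih =>
        rw [Multiset.map_cons, Multiset.sum_cons, ih, Multiset.count_cons]
        rcases o with _ | f'
        · simp [wf, Multiset.count_replicate, hne, -map_one]
        · simp only [wf, Option.elim, Multiset.count_singleton, Option.some_inj, ← Subtype.ext_iff]
          rw [add_comm]
    have hsome : ∀ f : T, (s : Multiset (Option T)).count (some f) = (s' : Multiset (Option T)).count (some f) :=
      fun f => by rw [← hc, ← hc, h]
    refine Sym.coe_injective (Multiset.ext.2 fun o => ?_)
    rcases o with _ | f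
    · have hs : ∀ u : Sym (Option T) m, (u : Multiset (Option T)).count none +
          ∑ f : T, (u : Multiset (Option T)).count (some f) = m := fun u => by
        have := Multiset.toFinset_sum_count_eq (u : Multiset (Option T))
        rw [Sym.card_coe, Finset.sum_subset (Finset.subset_univ _) (fun o _ ho =>
          Multiset.count_eq_zero.2 fun h => ho (Multiset.mem_toFinset.2 h)), Fintype.sum_option] at this
        exact this
      have h1 := hs s
      have h2 := hs s'
      rw [Finset.sum_congr rfl fun f _ => hsome f] at h1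
      omega
    · exact hsome f
  set A := {C : ConjClasses (GL (Fin n) F) | ∃ g : GL (Fin n) F, ConjClasses.mk g = C ∧ g ^ r = 1}
  have hord' : ∀ g : GL (Fin n) F, g ^ r = 1 → ((orderOf g : ℕ) : F) ≠ 0 := fun g hg h => by
    obtain ⟨c, hc⟩ := orderOf_dvd_of_pow_eq_one hg
    exact hrF (by rw [hc, Nat.cast_mul, h, zero_mul])
  let ψ : A → F[X] := fun C => (C.2.choose : Matrix (Fin n) (Fin n) F).charpoly
  have hψ : Function.Injective ψ := fun C C' h => Subtype.ext (by
    rw [← C.2.choose_spec.1, ← C'.2.choose_spec.1, ConjClasses.mk_eq_mk_iff_isConj]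
    exact GLSemisimpleClasses.isConj_of_charpoly_eq (hord' _ C.2.choose_spec.2) (hord' _ C'.2.choose_spec.2) h)
  have hrange : Set.range ψ = Set.range φ := by
    ext P
    constructor
    · rintro ⟨C, rfl⟩
      have hg := C.2.choose_spec.2
      set g := C.2.choose
      set P := (g : Matrix (Fin n) (Fin n) F).charpoly with hP
      have hPm : P.Monic := Matrix.charpoly_monic _
      have hPd : P.natDegree = n := by rw [hP, Matrix.charpoly_natDegree_eq_dim, Fintype.card_fin]
      have hNF : ∀ f ∈ normalizedFactors P, f = X - Polynomial.C 1 ∨ f ∈ T := fun f hf => by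
        have hfm : f.Monic := by
          rw [← normalize_normalized_factor f hf]; exact monic_normalize (irreducible_of_normalized_factor f hf).ne_zero
        exact (hX f hfm (irreducible_of_normalized_factor f hf)).1
          (factor_dvd hg hfm (irreducible_of_normalized_factor f hf) (dvd_of_mem_normalizedFactors hf))
      set N := normalizedFactors P
      set N₁ := N.filter (· ∈ T) with hN₁
      set N₀ := N.filter (fun f => f ∉ T) with hN₀
      have hN₀' : N₀ = Multiset.replicate (Multiset.card N₀) (X - Polynomial.C 1) :=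
        Multiset.eq_replicate_card.2 fun f hf => by
          rw [hN₀, Multiset.mem_filter] at hf
          exact (hNF f hf.1).resolve_right hf.2
      have hprod : N.prod = P := by
        rw [prod_normalizedFactors_eq hPm.ne_zero, hPm.normalize_eq_self]
      have hsum : Multiset.card N₀ + i * Multiset.card N₁ = n := by
        have h := natDegree_multiset_prod_of_monic N fun f hf => by
          rcases hNF f hf with rfl | h
          · exact monic_X_sub_C 1
          · exact (hTd f h).1
        rw [hprod, hPd, ← Multiset.filter_add_not (· ∈ T) N, ← hN₁, ← hN₀, Multiset.map_add, Multiset.sum_add,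
          Multiset.map_congr rfl (fun f hf => (hTd f (Multiset.mem_filter.1 hf).2).2.2.1)] at h
        rw [hN₀', Multiset.map_replicate, natDegree_X_sub_C] at h
        simp only [Multiset.map_const', Multiset.sum_replicate, smul_eq_mul, mul_one] at h
        have hN₁c : Multiset.card N₁ = Multiset.card (N.filter (Membership.mem T)) := by rw [hN₁]
        rw [mul_comm, hN₁c]
        omega
      have hk : Multiset.card N₁ ≤ m := by
        rw [show m = n / i from rfl, Nat.le_div_iff_mul_le hi0, mul_comm]
        omega
      set S : Multiset (Option T) := N₁.attach.map (fun f => some ⟨f.1, (Multiset.mem_filter.1 f.2).2⟩) +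
        Multiset.replicate (m - Multiset.card N₁) none
      have hS : Multiset.card S = m := by
        rw [Multiset.card_add, Multiset.card_map, Multiset.card_attach, Multiset.card_replicate]; omega
      refine ⟨Sym.mk S hS, ?_⟩
      show (S.map w).prod * rest = P
      rw [Multiset.map_add, Multiset.map_map, Multiset.map_replicate, Multiset.prod_add, Multiset.prod_replicate]
      rw [show N₁.attach.map (w ∘ fun f => some ⟨f.1, (Multiset.mem_filter.1 f.2).2⟩) = N₁ from
        Multiset.attach_map_val N₁]
      show N₁.prod * ((X - Polynomial.C 1) ^ i) ^ (m - Multiset.card N₁) * (X - Polynomial.C 1) ^ (n - i * m) = P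
      conv_rhs => rw [← hprod, ← Multiset.filter_add_not (· ∈ T) N, ← hN₁, ← hN₀, Multiset.prod_add, hN₀',
        Multiset.prod_replicate]
      rw [mul_assoc, ← pow_mul, ← pow_add]
      congr 2
      have h3 : i * Multiset.card N₁ ≤ i * m := Nat.mul_le_mul_left i hk
      have h4 : i * m ≤ n := Nat.mul_div_le n i
      rw [Nat.mul_sub]
      omega
    · rintro ⟨s, rfl⟩
      obtain ⟨hPm, hPd⟩ := hφ s
      have hfac : ∀ f : F[X], f.Monic → Irreducible f → f ∣ φ s → f ∣ X ^ r - 1 := fun f hf hirr hd => by
        refine (hX f hf hirr).2 ?_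
        obtain ⟨f', hf', hff'⟩ := exists_mem_normalizedFactors_of_dvd hPm.ne_zero hirr hd
        have he' : f = f' := Associated.eq_of_normalized hff' hf.normalize_eq_self (normalize_normalized_factor f' hf')
        rw [hnf, ← he'] at hf'
        rcases Multiset.mem_add.1 hf' with h | h
        · obtain ⟨_ | ⟨f'', hf''⟩, -, h⟩ := Multiset.mem_bind.1 h
          · exact Or.inl (Multiset.eq_of_mem_replicate h)
          · exact Or.inr (by rw [show f = f'' from Multiset.mem_singleton.1 h]; exact hf'')
        · exact Or.inl (Multiset.eq_of_mem_replicate h)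
      have h0 : (φ s).coeff 0 ≠ 0 := fun h0 => by
        obtain ⟨f, hf, hirr, hd⟩ : ∃ f : F[X], f.Monic ∧ Irreducible f ∧ f ∣ φ s ∧ f.coeff 0 = 0 := by
          refine ⟨X, monic_X, irreducible_X, X_dvd_iff.2 h0, coeff_X_zero⟩
        obtain ⟨c, hc⟩ := hfac f hf hirr hd.1
        have h2 := congrArg (fun P => Polynomial.coeff P 0) hc
        simp [mul_coeff_zero, hd.2, coeff_X_pow, hr.ne_zero.symm] at h2
      obtain ⟨g, M, hM, hgM, hgP⟩ := Cfsg.Agent.Lie.Semisimple.exists_semisimple n (φ s) hPm hPd h0
      have hgr : g ^ r = 1 := pow_eq_one_of_factors hM g hgM hr.ne_zero (hgP ▸ hfac)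
      set G := Units.ofPowEqOne (LinearMap.toMatrixAlgEquiv' g) r (by rw [← map_pow, hgr, map_one]) hr.ne_zero with hG
      have hGr : G ^ r = 1 := Units.ext (by
        rw [Units.val_pow_eq_pow_val, hG, Units.val_ofPowEqOne, ← map_pow, hgr, map_one, Units.val_one])
      have hmem : ConjClasses.mk G ∈ A := ⟨G, rfl, hGr⟩
      refine ⟨⟨_, hmem⟩, ?_⟩
      obtain ⟨Q, hQ⟩ := isConj_iff.1 (ConjClasses.mk_eq_mk_iff_isConj.1 hmem.choose_spec.1)
      show Matrix.charpoly _ = φ s
      rw [← hgP, ← Matrix.charpoly_units_conj Q, ← Matrix.coe_units_inv, ← Units.val_mul, ← Units.val_mul, hQ, hG,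
        Units.val_ofPowEqOne, ← GLSemisimpleClasses.charpoly_toLin', Matrix.toLinAlgEquiv'_toMatrixAlgEquiv']
  rw [← Nat.card_coe_set_eq, ← Nat.card_range_of_injective hψ, hrange, Nat.card_range_of_injective hinj,
    Nat.card_eq_fintype_card, Sym.card_sym_eq_choose, Fintype.card_option, Fintype.card_coe, hTcard,
    show t + 1 + m - 1 = m + t by rw [Nat.add_right_comm, Nat.add_sub_cancel, add_comm], Nat.choose_symm_add]

end Cfsg.Agent.GLPrimeOrderClasses
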