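import Cfsg.Agent.Lib.Lie.SemisimpleSimilar

/-! Classes of elements of order prime to the characteristic in `GL_n`. -/

set_option autoImplicit false

namespace Cfsg.Agent.GLSemisimpleClasses

open Polynomial Matrix

variable {F : Type*} [Field F] {n : ℕ}

theorem toLin'_pow_eq_one {g : GL (Fin n) F} {M : ℕ} (h : g ^ M = 1) :
    (Matrix.toLinAlgEquiv' (g : Matrix (Fin n) (Fin n) F)) ^ M = 1 := by
  rw [← map_pow, ← Units.val_pow_eq_pow_val, h, Units.val_one, map_one]

theorem charpoly_toLin' (A : Matrix (Fin n) (Fin n) F) :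
    LinearMap.charpoly (Matrix.toLinAlgEquiv' A) = A.charpoly := by
  rw [← LinearMap.charpoly_toMatrix _ (Pi.basisFun F (Fin n)), LinearMap.toMatrix_eq_toMatrix']
  exact congrArg _ (LinearMap.toMatrix'_toLin' A)

/-- Two elements of order prime to the characteristic with equal characteristic polynomial are conjugate. -/
theorem isConj_of_charpoly_eq {g h : GL (Fin n) F} (hg : ((orderOf g : ℕ) : F) ≠ 0)
    (hh : ((orderOf h : ℕ) : F) ≠ 0)
    (hc : (g : Matrix (Fin n) (Fin n) F).charpoly = (h : Matrix (Fin n) (Fin n) F).charpoly) :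
    IsConj g h := by
  classical
  obtain ⟨e, he⟩ := Cfsg.Agent.Lie.Semisimple.similar_of_charpoly_eq n
    (Matrix.toLinAlgEquiv' (g : Matrix (Fin n) (Fin n) F)) (Matrix.toLinAlgEquiv' (h : Matrix (Fin n) (Fin n) F))
    (orderOf g * orderOf h) (by rw [Nat.cast_mul]; exact mul_ne_zero hg hh)
    (toLin'_pow_eq_one (by rw [pow_mul, pow_orderOf_eq_one, one_pow]))
    (toLin'_pow_eq_one (by rw [pow_mul', pow_orderOf_eq_one, one_pow]))
    (by rw [charpoly_toLin', charpoly_toLin', hc])
  obtain ⟨P, hP⟩ : ∃ P : GL (Fin n) F, (P : Matrix (Fin n) (Fin n) F) = LinearMap.toMatrixAlgEquiv' (e : (Fin n → F) →ₗ[F] (Fin n → F)) :=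
    (IsUnit.map LinearMap.toMatrixAlgEquiv'
      (show IsUnit (e : Module.End F (Fin n → F)) from (LinearMap.GeneralLinearGroup.ofLinearEquiv e).isUnit))
  refine isConj_iff.2 ⟨P, ?_⟩
  rw [mul_inv_eq_iff_eq_mul]
  refine Units.ext ?_
  rw [Units.val_mul, Units.val_mul, hP]
  apply Matrix.toLinAlgEquiv'.injective
  rw [map_mul, map_mul, Matrix.toLinAlgEquiv'_toMatrixAlgEquiv']
  exact LinearMap.ext he

variable [Fintype F]

/-- The number of classes of elements of order prime to `p` is the number of monic polynomials with non-zero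
constant term. -/
theorem natCard_classes (p : ℕ) [Fact p.Prime] [CharP F p] (hn : 1 ≤ n) :
    Nat.card {c : ConjClasses (GL (Fin n) F) // ∃ g : GL (Fin n) F, ConjClasses.mk g = c ∧ (orderOf g).Coprime p} =
      (Fintype.card F - 1) * Fintype.card F ^ (n - 1) := by
  classical
  have hcast : ∀ k : ℕ, k.Coprime p ↔ (k : F) ≠ 0 := fun k => by
    rw [ne_eq, CharP.cast_eq_zero_iff F p, Nat.coprime_comm, (Fact.out : p.Prime).coprime_iff_not_dvd]
  obtain ⟨m, rfl⟩ : ∃ m, n = m + 1 := ⟨n - 1, by omega⟩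
  let T := {c : Fin (m + 1) → F // c 0 ≠ 0}
  have hT : Nat.card T = (Fintype.card F - 1) * Fintype.card F ^ m := by
    let e : T ≃ {a : F // a ≠ 0} × (Fin m → F) :=
      { toFun := fun c => (⟨c.1 0, c.2⟩, Fin.tail c.1)
        invFun := fun a => ⟨Fin.cons a.1.1 a.2, by simpa using a.1.2⟩
        left_inv := fun c => Subtype.ext (Fin.cons_self_tail c.1)
        right_inv := fun a => by simp }
    rw [Nat.card_congr e, Nat.card_prod, Nat.card_fun, Nat.card_eq_fintype_card, Nat.card_eq_fintype_card,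
      Nat.card_eq_fintype_card, Fintype.card_fin, Fintype.card_subtype_compl, Fintype.card_subtype_eq]
  rw [Nat.add_sub_cancel, ← hT]
  have hlow : ∀ A : GL (Fin (m + 1)) F, (A : Matrix (Fin (m + 1)) (Fin (m + 1)) F).charpoly.coeff 0 ≠ 0 := fun A h => by
    refine ((Matrix.isUnit_iff_isUnit_det _).1 A.isUnit).ne_zero ?_
    rw [Matrix.det_eq_sign_charpoly_coeff, h, mul_zero]
  refine Nat.card_eq_of_bijective (fun c => (⟨fun i => (c.2.choose : Matrix (Fin (m + 1)) (Fin (m + 1)) F).charpoly.coeff i,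
    hlow _⟩ : T)) ⟨?_, ?_⟩
  · intro c c' h
    have hg := c.2.choose_spec
    have hg' := c'.2.choose_spec
    apply Subtype.ext
    rw [← hg.1, ← hg'.1, ConjClasses.mk_eq_mk_iff_isConj]
    refine isConj_of_charpoly_eq ((hcast _).1 hg.2) ((hcast _).1 hg'.2) (Polynomial.ext fun i => ?_)
    rcases lt_trichotomy i (m + 1) with hi | hi | hi
    · exact congrFun (congrArg Subtype.val h) ⟨i, hi⟩
    · have e : ∀ A : Matrix (Fin (m + 1)) (Fin (m + 1)) F, A.charpoly.coeff i = 1 := fun A => by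
        have := A.charpoly_monic.coeff_natDegree
        rw [Matrix.charpoly_natDegree_eq_dim, Fintype.card_fin] at this
        rw [hi]; exact this
      rw [e, e]
    · rw [coeff_eq_zero_of_natDegree_lt, coeff_eq_zero_of_natDegree_lt] <;>
        rwa [Matrix.charpoly_natDegree_eq_dim, Fintype.card_fin]
  · rintro ⟨c, hc⟩
    set P : F[X] := X ^ (m + 1) + ∑ j : Fin (m + 1), Polynomial.C (c j) * X ^ (j : ℕ) with hP
    have hdeg : (∑ j : Fin (m + 1), Polynomial.C (c j) * X ^ (j : ℕ)).degree < ((m + 1 : ℕ) : WithBot ℕ) :=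
      (degree_sum_le _ _).trans_lt ((Finset.sup_lt_iff (WithBot.bot_lt_coe _)).2 fun j _ =>
        (degree_C_mul_X_pow_le _ _).trans_lt (WithBot.coe_lt_coe.2 j.2))
    have hm : P.Monic := monic_X_pow_add hdeg
    have hcoe : ∀ k : Fin (m + 1), P.coeff k = c k := fun k => by
      rw [hP, coeff_add, finsetSum_coeff, coeff_X_pow, if_neg (by omega), zero_add,
        Finset.sum_eq_single k]
      · simp
      · intro j _ hj; simp [Fin.val_ne_of_ne hj.symm]
      · simp
    have hnd : P.natDegree = m + 1 := natDegree_eq_of_degree_eq_some (by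
      rw [hP, degree_add_eq_left_of_degree_lt] <;> rw [degree_X_pow]
      exact hdeg)
    obtain ⟨g, M, hM, hgM, hgP⟩ := Cfsg.Agent.Lie.Semisimple.exists_semisimple (m + 1) P hm hnd
      (by have h0 := hcoe 0; rw [Fin.val_zero] at h0; rw [h0]; exact hc)
    have hMp : M ≠ 0 := fun h => hM (by rw [h, Nat.cast_zero])
    set u := Units.ofPowEqOne (LinearMap.toMatrixAlgEquiv' g) M (by rw [← map_pow, hgM, map_one]) hMp with hu
    have hord : (orderOf u).Coprime p := by
      refine Nat.Coprime.coprime_dvd_left (orderOf_dvd_of_pow_eq_one ?_) ((hcast M).2 hM)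
      exact Units.ext (by rw [Units.val_pow_eq_pow_val, hu, Units.val_ofPowEqOne, ← map_pow, hgM, map_one,
        Units.val_one])
    refine ⟨⟨ConjClasses.mk u, u, rfl, hord⟩, Subtype.ext (funext fun k => ?_)⟩
    show (Matrix.charpoly _).coeff k = c k
    have hex : ∃ g' : GL (Fin (m + 1)) F, ConjClasses.mk g' = ConjClasses.mk u ∧ (orderOf g').Coprime p :=
      ⟨u, rfl, hord⟩
    obtain ⟨Q, hQ⟩ := isConj_iff.1 (ConjClasses.mk_eq_mk_iff_isConj.1 hex.choose_spec.1)
    rw [← hcoe k, ← hgP, ← Matrix.charpoly_units_conj Q, ← Matrix.coe_units_inv, ← Units.val_mul, ← Units.val_mul, hQ, hu,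
      Units.val_ofPowEqOne, ← charpoly_toLin', Matrix.toLinAlgEquiv'_toMatrixAlgEquiv']

end Cfsg.Agent.GLSemisimpleClasses
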