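import Cfsg.Agent.Lib.Classical.OrthSingular
import Cfsg.Agent.Lib.Classical.AschSpShape

/-!
Maximal totally singular subspaces of a hyperbolic space over any field: the parity relation, and the two
extensions of a subspace of codimension one in a maximal one.
-/

set_option autoImplicit false
set_option linter.unusedSectionVars false
set_option quotPrecheck false

namespace Cfsg.Agent.Classical.HalfPar

open Matrix Module Cfsg.Agent.Classical.OrthAut

variable {F : Type*} [Field F] {ι : Type} [Fintype ι] [DecidableEq ι] {Q : QuadraticForm F (ι → F)}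
  {m : ℕ} (hQ : (QuadraticMap.polarBilin Q).Nondegenerate) (hc : Fintype.card ι = 2 * m)
include hQ hc

local notation "B" => QuadraticMap.polar ⇑Q

omit hQ hc in
theorem finrank_add_span {U : Submodule F (ι → F)} {x : ι → F} (hx : x ∉ U) :
    finrank F ↥(U ⊔ F ∙ x) = finrank F U + 1 := by
  have h := Submodule.finrank_sup_add_finrank_inf_eq U (F ∙ x)
  have hd : U ⊓ (F ∙ x) = ⊥ := by
    refine eq_bot_iff.2 fun y hy => ?_
    obtain ⟨c, rfl⟩ := Submodule.mem_span_singleton.1 hy.2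
    by_cases hc : c = 0
    · simp [hc]
    · exact absurd (by simpa [inv_smul_smul₀ hc] using U.smul_mem c⁻¹ hy.1) hx
  rw [hd, finrank_bot, add_zero, finrank_span_singleton (show x ≠ 0 from fun h => hx (by rw [h]; exact zero_mem U))] at h
  exact h

omit hQ hc in
theorem singular_sup {U : Submodule F (ι → F)} (hU : ∀ u ∈ U, Q u = 0) {x : ι → F} (hx : Q x = 0)
    (hp : ∀ u ∈ U, B u x = 0) : ∀ y ∈ U ⊔ F ∙ x, Q y = 0 := by
  intro y hy
  obtain ⟨u, hu, z, hz, rfl⟩ := Submodule.mem_sup.1 hy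
  obtain ⟨c, rfl⟩ := Submodule.mem_span_singleton.1 hz
  rw [quad_add_smul, hU u hu, hx, hp u hu]; ring

theorem finrank_perp (U : Submodule F (ι → F)) :
    finrank F ↥(LinearMap.BilinForm.orthogonal (QuadraticMap.polarBilin Q) U) = 2 * m - finrank F U := by
  rw [LinearMap.BilinForm.finrank_orthogonal hQ, Module.finrank_pi, hc]

omit hQ hc in
theorem mem_perp {U : Submodule F (ι → F)} {x : ι → F} :
    x ∈ LinearMap.BilinForm.orthogonal (QuadraticMap.polarBilin Q) U ↔ ∀ u ∈ U, B u x = 0 :=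
  LinearMap.BilinForm.mem_orthogonal_iff

theorem exists_extend {W₀ : Submodule F (ι → F)} (hW₀ : Half Q W₀) {U : Submodule F (ι → F)}
    (hU : finrank F U + 1 = m) (hUs : ∀ u ∈ U, Q u = 0) : ∃ W, Half Q W ∧ U ≤ W := by
  obtain ⟨x, hxW, hxU, hp⟩ : ∃ x ∈ W₀, x ∉ U ∧ ∀ u ∈ U, B u x = 0 := by
    by_contra h
    push Not at h
    have hle : LinearMap.BilinForm.orthogonal (QuadraticMap.polarBilin Q) (W₀ ⊔ U) ≤ W₀ ⊓ U := by
      intro x hx
      have h1 := mem_perp.1 hx
      have hxW : x ∈ W₀ := half_orth hQ hW₀ fun u hu => h1 u (Submodule.mem_sup_left hu)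
      refine ⟨hxW, ?_⟩
      by_contra hxU
      obtain ⟨u, hu, hne⟩ := h x hxW hxU
      exact hne (h1 u (Submodule.mem_sup_right hu))
    have h1 := (finrank_perp hQ hc (W₀ ⊔ U)).symm.trans_le (Submodule.finrank_mono hle)
    have h2 := Submodule.finrank_sup_add_finrank_inf_eq W₀ U
    have h3 := hW₀.2
    rw [hc] at h3
    have h4 := Submodule.finrank_le (W₀ ⊔ U)
    rw [Module.finrank_pi, hc] at h4
    omega
  exact ⟨U ⊔ F ∙ x, ⟨singular_sup hUs (hW₀.1 x hxW) hp, by rw [finrank_add_span hxU, hc]; omega⟩, le_sup_left⟩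

/-- The two extensions. -/
theorem exists_pair_extend {W₀ : Submodule F (ι → F)} (hW₀ : Half Q W₀) {U : Submodule F (ι → F)}
    (hU : finrank F U + 1 = m) (hle : U ≤ W₀) :
    ∃ W₁, Half Q W₁ ∧ U ≤ W₁ ∧ W₁ ≠ W₀ ∧ W₀ ⊓ W₁ = U ∧
      ∀ W, Half Q W → U ≤ W → W = W₀ ∨ W = W₁ := by
  have h3 := hW₀.2
  rw [hc] at h3
  have hUs : ∀ u ∈ U, Q u = 0 := fun u hu => hW₀.1 u (hle hu)
  obtain ⟨w₀, hw₀, hw₀W⟩ : ∃ w ∈ LinearMap.BilinForm.orthogonal (QuadraticMap.polarBilin Q) U, w ∉ W₀ := by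
    by_contra h
    push Not at h
    have := Submodule.finrank_mono (show _ ≤ W₀ from h)
    rw [finrank_perp hQ hc] at this
    omega
  obtain ⟨e, heW, heU⟩ : ∃ e ∈ W₀, e ∉ U := by
    by_contra h
    push Not at h
    have := Submodule.finrank_mono (show W₀ ≤ U from h)
    omega
  have hWe : U ⊔ F ∙ e = W₀ := Submodule.eq_of_le_of_finrank_le
    (sup_le hle ((Submodule.span_singleton_le_iff_mem _ _).2 heW)) (by rw [finrank_add_span heU]; omega)
  have hp := mem_perp.1 hw₀
  have hbe : B e w₀ ≠ 0 := fun h => hw₀W (half_orth hQ hW₀ fun y hy => by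
    rw [← hWe] at hy
    obtain ⟨u, hu, z, hz, rfl⟩ := Submodule.mem_sup.1 hy
    obtain ⟨c, rfl⟩ := Submodule.mem_span_singleton.1 hz
    rw [QuadraticMap.polar_add_left, QuadraticMap.polar_smul_left, hp u hu, h, smul_zero, add_zero])
  obtain ⟨w, hw, hwW, hwU, hew⟩ : ∃ w, Q w = 0 ∧ w ∉ W₀ ∧ (∀ u ∈ U, B u w = 0) ∧ B e w ≠ 0 := by
    refine ⟨w₀ + (-(Q w₀) / B e w₀) • e, ?_, fun h => hw₀W ?_, fun u hu => ?_, ?_⟩
    · rw [quad_add_smul, hW₀.1 e heW, QuadraticMap.polar_comm _ w₀ e]; field_simp; ring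
    · simpa using sub_mem h (W₀.smul_mem (-(Q w₀) / B e w₀) heW)
    · rw [QuadraticMap.polar_add_right, QuadraticMap.polar_smul_right, hp u hu,
        half_polar hW₀ (hle hu) heW, smul_zero, add_zero]
    · rwa [QuadraticMap.polar_add_right, QuadraticMap.polar_smul_right, half_polar hW₀ heW heW, smul_zero, add_zero]
  have hwU' : w ∉ U := fun h => hwW (hle h)
  refine ⟨U ⊔ F ∙ w, ⟨singular_sup hUs hw hwU, by rw [finrank_add_span hwU', hc]; omega⟩, le_sup_left,
    fun h => hwW (h ▸ Submodule.mem_sup_right (Submodule.mem_span_singleton_self w)), ?_, ?_⟩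
  · refine le_antisymm (fun y hy => ?_) (le_inf hle le_sup_left)
    obtain ⟨u, hu, z, hz, rfl⟩ := Submodule.mem_sup.1 hy.2
    obtain ⟨c, rfl⟩ := Submodule.mem_span_singleton.1 hz
    by_cases hc0 : c = 0
    · simpa [hc0] using hu
    · refine absurd ?_ hwW
      have := W₀.smul_mem c⁻¹ (sub_mem hy.1 (hle hu))
      simpa [inv_smul_smul₀ hc0] using this
  intro W hW hUW
  have hsup : LinearMap.BilinForm.orthogonal (QuadraticMap.polarBilin Q) U = W₀ ⊔ F ∙ w := by
    refine (Submodule.eq_of_le_of_finrank_le (sup_le (fun y hy => mem_perp.2 fun u hu => half_polar hW₀ (hle hu) hy)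
      ((Submodule.span_singleton_le_iff_mem _ _).2 (mem_perp.2 hwU))) ?_).symm
    rw [finrank_perp hQ hc, finrank_add_span hwW]; omega
  have hcoord : ∀ y ∈ W, y ∈ W₀ ∨ y ∈ U ⊔ F ∙ w := by
    intro y hy
    have h1 : y ∈ W₀ ⊔ F ∙ w := hsup ▸ mem_perp.2 fun u hu => half_polar hW (hUW hu) hy
    obtain ⟨z, hz, z', hz', rfl⟩ := Submodule.mem_sup.1 h1
    obtain ⟨b, rfl⟩ := Submodule.mem_span_singleton.1 hz'
    rw [← hWe] at hz
    obtain ⟨u, hu, z', hz', rfl⟩ := Submodule.mem_sup.1 hz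
    obtain ⟨a, rfl⟩ := Submodule.mem_span_singleton.1 hz'
    have h2 := hW.1 _ hy
    rw [quad_add_smul, quad_add_smul, hUs u hu, hW₀.1 e heW, hw, half_polar hW₀ (hle hu) heW,
      QuadraticMap.polar_add_left, QuadraticMap.polar_smul_left, hwU u hu] at h2
    have h5 : b * (a * B e w) = 0 := by simpa [smul_eq_mul] using h2
    rcases mul_eq_zero.1 h5 with hb | hab
    · left
      rw [hb, zero_smul, add_zero, ← hWe]
      exact Submodule.add_mem_sup hu hz'
    · right
      rw [(mul_eq_zero.1 hab).resolve_right hew, zero_smul, add_zero]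
      exact Submodule.add_mem_sup hu (Submodule.smul_mem _ b (Submodule.mem_span_singleton_self w))
  have h4 := hW.2
  rw [hc] at h4
  by_cases hWW : W ≤ W₀
  · exact Or.inl (Submodule.eq_of_le_of_finrank_le hWW (by omega))
  right
  obtain ⟨y, hy, hyW⟩ := SetLike.not_le_iff_exists.1 hWW
  have hy' := (hcoord y hy).resolve_left hyW
  refine (Submodule.eq_of_le_of_finrank_le (sup_le hUW ((Submodule.span_singleton_le_iff_mem _ _).2 ?_)) ?_).symm
  · obtain ⟨u, hu, z, hz, rfl⟩ := Submodule.mem_sup.1 hy'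
    obtain ⟨c, rfl⟩ := Submodule.mem_span_singleton.1 hz
    have hc0 : c ≠ 0 := fun h => hyW (by simpa [h] using hle hu)
    have := W.smul_mem c⁻¹ (sub_mem hy (hUW hu))
    simpa [inv_smul_smul₀ hc0] using this
  · rw [finrank_add_span hwU']; omega

omit hc in
/-- If all pairwise intersections agree, the codimension is even. -/
theorem even_of_common {U W X : Submodule F (ι → F)} (hU : Half Q U) (hW : Half Q W) (hX : Half Q X)
    (h1 : U ⊓ W ≤ X) (h2 : U ⊓ X ≤ W) (h3 : W ⊓ X ≤ U) :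
    Even (finrank F U - finrank F ↥(U ⊓ W)) := by
  have hle : X ≤ U ⊔ W := fun x hx => half_inf_orth hQ hU hW fun z hz => half_polar hX hx (h1 hz)
  let c : U × W →ₗ[F] (ι → F) := U.subtype.coprod W.subtype
  have hr : LinearMap.range c = U ⊔ W := by
    rw [LinearMap.range_coprod, Submodule.range_subtype, Submodule.range_subtype]
  obtain ⟨s, hs⟩ := c.rangeRestrict.exists_rightInverse_of_surjective c.range_rangeRestrict
  obtain ⟨K, hK⟩ := Submodule.exists_isCompl ((U ⊓ W).comap X.subtype)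
  let π : X →ₗ[F] (ι → F) := U.subtype ∘ₗ LinearMap.fst F U W ∘ₗ s ∘ₗ
    (Submodule.inclusion (hle.trans hr.ge))
  have hπ : ∀ x : X, π x ∈ U ∧ (x : ι → F) - π x ∈ W := fun x => by
    set p := s (Submodule.inclusion (hle.trans hr.ge) x)
    have hp : c p = x.1 := congrArg Subtype.val (LinearMap.congr_fun hs _)
    refine ⟨p.1.2, ?_⟩
    show x.1 - (p.1 : ι → F) ∈ W
    rw [← hp]
    show (p.1 : ι → F) + (p.2 : ι → F) - _ ∈ W
    rw [add_sub_cancel_left]
    exact p.2.2
  let β : LinearMap.BilinForm F K :=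
    (QuadraticMap.polarBilin Q).compl₁₂ (π ∘ₗ K.subtype) (X.subtype ∘ₗ K.subtype)
  have halt : β.IsAlt := fun k => by
    obtain ⟨a1, a2⟩ := hπ k.1
    have h := hX.1 _ k.1.2
    have e : ((k.1 : X) : ι → F) = π k.1 + ((k.1 : X).1 - π k.1) := by abel
    rw [e, quad_add, hU.1 _ a1, hW.1 _ a2, zero_add, zero_add] at h
    show B (π k.1) ((k.1 : X) : ι → F) = 0
    rw [e, QuadraticMap.polar_add_right, half_polar hU a1 a1, h, add_zero]
  have hdim : finrank F ↥((U ⊓ W).comap X.subtype) = finrank F ↥(U ⊓ W) :=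
    (Submodule.comapSubtypeEquivOfLe h1).finrank_eq
  have hKd : finrank F K = finrank F X - finrank F ↥(U ⊓ W) := by
    rw [← Submodule.finrank_add_eq_of_isCompl hK, hdim]; omega
  have hev := Asch.even_finrank_nondeg β halt (U := (⊤ : Submodule F K)) (fun (k : K) _ h => by
    obtain ⟨a1, a2⟩ := hπ k.1
    have hmem : π k.1 ∈ X := by
      refine half_orth hQ hX fun y hy => ?_
      obtain ⟨d, hd, k', hk', e⟩ := Submodule.mem_sup.1 (show (⟨y, hy⟩ : X) ∈ (U ⊓ W).comap X.subtype ⊔ K by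
        rw [hK.sup_eq_top]; trivial)
      have e' : y = d.1 + k'.1 := (congrArg Subtype.val e).symm
      rw [QuadraticMap.polar_comm, e', QuadraticMap.polar_add_right,
        half_polar hU a1 (show d.1 ∈ U ⊓ W from hd).1, zero_add]
      exact h ⟨k', hk'⟩ trivial
    have hπW : π k.1 ∈ W := h2 ⟨a1, hmem⟩
    have hkW : (k.1 : ι → F) ∈ W := by simpa using add_mem a2 hπW
    have hkD : k.1 ∈ (U ⊓ W).comap X.subtype := ⟨h3 ⟨hkW, k.1.2⟩, hkW⟩
    exact Subtype.ext ((Submodule.mem_bot F).1 (hK.inf_eq_bot ▸ Submodule.mem_inf.2 ⟨hkD, k.2⟩)))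
  rw [finrank_top, hKd] at hev
  have := hU.2; have := hX.2
  rwa [show finrank F U = finrank F X by omega]

theorem step {U W X : Submodule F (ι → F)} (hU : Half Q U) (hW : Half Q W) (hX : Half Q X) {e : ι → F}
    (heU : e ∈ U) (heW : e ∈ W) (heX : e ∉ X) :
    ∃ X', Half Q X' ∧ finrank F ↥(U ⊓ X') = finrank F ↥(U ⊓ X) + 1 ∧
      finrank F ↥(W ⊓ X') = finrank F ↥(W ⊓ X) + 1 := by
  set X₀ := X ⊓ LinearMap.ker (QuadraticMap.polarBilin Q e) with hX₀
  have hmem : ∀ x, x ∈ X₀ ↔ x ∈ X ∧ B e x = 0 := fun x => Iff.rfl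
  have h0 : finrank F X₀ + 1 = finrank F X := by
    obtain ⟨y, hy, hey⟩ : ∃ y ∈ X, B e y ≠ 0 := by
      by_contra h
      push Not at h
      exact heX (half_orth hQ hX fun u hu => by rw [QuadraticMap.polar_comm]; exact h u hu)
    have hy0 : y ∉ X₀ := fun h => hey h.2
    have : X₀ ⊔ F ∙ y = X := by
      refine le_antisymm (sup_le inf_le_left ((Submodule.span_singleton_le_iff_mem _ _).2 hy)) fun x hx => ?_
      have hh : x - (B e x / B e y) • y ∈ X₀ := ⟨sub_mem hx (X.smul_mem _ hy), by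
        show B e _ = 0
        rw [QuadraticMap.polar_sub_right, QuadraticMap.polar_smul_right, smul_eq_mul, div_mul_cancel₀ _ hey, sub_self]⟩
      have := Submodule.add_mem_sup hh (Submodule.smul_mem _ (B e x / B e y) (Submodule.mem_span_singleton_self y))
      rwa [sub_add_cancel] at this
    rw [← this, finrank_add_span hy0]
  have he0 : e ∉ X₀ := fun h => heX h.1
  refine ⟨X₀ ⊔ F ∙ e, ⟨singular_sup (U := X₀) (fun u hu => hX.1 u hu.1) (hU.1 e heU) fun u hu => by
      rw [QuadraticMap.polar_comm]; exact ((hmem u).1 hu).2, by rw [finrank_add_span he0, h0]; exact hX.2⟩, ?_⟩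
  have key : ∀ {Y : Submodule F (ι → F)}, Half Q Y → e ∈ Y →
      finrank F ↥(Y ⊓ (X₀ ⊔ F ∙ e)) = finrank F ↥(Y ⊓ X) + 1 := by
    intro Y hY heY
    have e1 : Y ⊓ (X₀ ⊔ F ∙ e) = (Y ⊓ X) ⊔ F ∙ e := by
      refine le_antisymm (fun y hy => ?_) (le_inf (sup_le inf_le_left ((Submodule.span_singleton_le_iff_mem _ _).2 heY))
        (sup_le_sup_right (fun y hy => ⟨hy.2, half_polar hY heY hy.1⟩) _))
      obtain ⟨x, hx, z, hz, rfl⟩ := Submodule.mem_sup.1 hy.2
      refine Submodule.add_mem_sup ⟨?_, hx.1⟩ hz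
      obtain ⟨c, rfl⟩ := Submodule.mem_span_singleton.1 hz
      simpa using sub_mem hy.1 (Y.smul_mem c heY)
    rw [e1, finrank_add_span (show e ∉ Y ⊓ X from fun h => heX h.2)]
  exact ⟨key hU heU, key hW heW⟩

/-- The parity relation is transitive. -/
theorem even_triangle {U W X : Submodule F (ι → F)} (hU : Half Q U) (hW : Half Q W) (hX : Half Q X) :
    Even ((m - finrank F ↥(U ⊓ W)) + (m - finrank F ↥(W ⊓ X)) + (m - finrank F ↥(U ⊓ X))) := by
  have hm : ∀ {Y : Submodule F (ι → F)}, Half Q Y → finrank F Y = m := fun hY => by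
    have := hY.2; rw [hc] at this; omega
  induction hk : (3 * m - (finrank F ↥(U ⊓ W) + finrank F ↥(W ⊓ X) + finrank F ↥(U ⊓ X))) using
    Nat.strong_induction_on generalizing U W X with
  | _ k ih =>
    have bnd : ∀ {A C : Submodule F (ι → F)}, Half Q A → finrank F ↥(A ⊓ C) ≤ m := fun hA =>
      (Submodule.finrank_mono inf_le_left).trans (hm hA).le
    have red : ∀ {U W X : Submodule F (ι → F)}, Half Q U → Half Q W → Half Q X →
        (3 * m - (finrank F ↥(U ⊓ W) + finrank F ↥(W ⊓ X) + finrank F ↥(U ⊓ X))) = k → ¬ U ⊓ W ≤ X →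
        Even ((m - finrank F ↥(U ⊓ W)) + (m - finrank F ↥(W ⊓ X)) + (m - finrank F ↥(U ⊓ X))) := by
      intro U W X hU hW hX hk hn
      obtain ⟨e, he, heX⟩ := SetLike.not_le_iff_exists.1 hn
      obtain ⟨X', hX', h1, h2⟩ := step hQ hc hU hW hX he.1 he.2 heX
      have b1 := bnd (C := W) hU
      have b2 := bnd (C := X') hU
      have b3 := bnd (C := X') hW
      have := ih _ (by omega) hU hW hX' rfl
      rw [Nat.even_iff] at this ⊢
      omega
    by_cases c1 : U ⊓ W ≤ X
    swap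
    · exact red hU hW hX hk c1
    by_cases c2 : U ⊓ X ≤ W
    swap
    · have := red hU hX hW (by rw [inf_comm X W]; omega) c2
      rw [inf_comm X W, Nat.even_iff] at this
      rw [Nat.even_iff]; omega
    by_cases c3 : W ⊓ X ≤ U
    swap
    · have := red hW hX hU (by rw [inf_comm X U, inf_comm W U]; omega) c3
      rw [inf_comm X U, inf_comm W U, Nat.even_iff] at this
      rw [Nat.even_iff]; omega
    have h := even_of_common hQ hU hW hX c1 c2 c3
    have e1 : U ⊓ X = U ⊓ W := le_antisymm (le_inf inf_le_left c2) (le_inf inf_le_left c1)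
    have e2 : W ⊓ X = U ⊓ W := le_antisymm (le_inf c3 inf_le_left) (le_inf inf_le_right c1)
    rw [hm hU] at h
    rw [e1, e2, Nat.even_iff]
    rw [Nat.even_iff] at h
    omega

theorem exists_adjacent (hm1 : 1 ≤ m) {W₀ : Submodule F (ι → F)} (hW₀ : Half Q W₀) :
    ∃ W₁, Half Q W₁ ∧ finrank F ↥(W₀ ⊓ W₁) + 1 = m := by
  have h3 := hW₀.2
  rw [hc] at h3
  obtain ⟨U, hle, hUd⟩ : ∃ U ≤ W₀, finrank F U + 1 = m := by
    let b := Module.finBasis F W₀
    refine ⟨(Submodule.span F (Set.range fun i : Fin (m - 1) => b ⟨i, by omega⟩)).map W₀.subtype,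
      Submodule.map_subtype_le _ _, ?_⟩
    rw [Submodule.finrank_map_subtype_eq, finrank_span_eq_card]
    · simp; omega
    · exact b.linearIndependent.comp _ fun i j h => Fin.ext (by simpa using congrArg Fin.val h)
  obtain ⟨W₁, h1, -, -, h2, -⟩ := exists_pair_extend hQ hc hW₀ hUd hle
  exact ⟨W₁, h1, by rw [h2]; exact hUd⟩

omit hQ hc in
/-- The first half of the coordinates, over any field. -/
theorem exists_half_plus (m : ℕ) (F : Type*) [Field F] :
    ∃ U : Submodule F (Fin m ⊕ Fin m → F), Half (qfPlus m F) U := by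
  refine ⟨LinearMap.ker (LinearMap.funLeft F F (Sum.inr : Fin m → Fin m ⊕ Fin m)), fun u hu => ?_, ?_⟩
  · rw [qfPlus_apply, quadFormPlus]
    exact Finset.sum_eq_zero fun i _ => by
      rw [show u (Sum.inr i) = 0 from congrFun (LinearMap.mem_ker.1 hu) i, mul_zero]
  · have h := LinearMap.finrank_range_add_finrank_ker
      (LinearMap.funLeft F F (Sum.inr : Fin m → Fin m ⊕ Fin m))
    rw [LinearMap.range_eq_top.2 (LinearMap.funLeft_surjective_of_injective F F _ Sum.inr_injective),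
      finrank_top, Module.finrank_pi, Module.finrank_pi] at h
    simp only [Fintype.card_sum, Fintype.card_fin] at h ⊢
    omega

end Cfsg.Agent.Classical.HalfPar
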