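import Mathlib
import Cfsg.Prelude.Def_Classical

/-! Transport of isometry groups along isomorphisms of fields. -/

set_option autoImplicit false

namespace Cfsg.Agent.Classical.IsometryTransport

open Matrix

variable {F L : Type*} [Field F] [Field L] {ι : Type} [Fintype ι] [DecidableEq ι]

theorem map_mem (e : F ≃+* L) {Q : (ι → F) → F} {Q' : (ι → L) → L} (h : ∀ v, e (Q v) = Q' fun i => e (v i))
    {g : Matrix.GeneralLinearGroup ι F} (hg : g ∈ Cfsg.isometryGroup F Q) :
    Matrix.GeneralLinearGroup.map e.toRingHom g ∈ Cfsg.isometryGroup L Q' := by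
  intro u v
  obtain ⟨w, rfl⟩ : ∃ w : ι → F, (fun i => e (w i)) = u := ⟨fun i => e.symm (u i), by simp⟩
  show Q' (((Matrix.GeneralLinearGroup.map e.toRingHom g : Matrix.GeneralLinearGroup ι L) : Matrix ι ι L) *ᵥ fun i => e (w i)) = _
  have hm : ((Matrix.GeneralLinearGroup.map e.toRingHom g : Matrix.GeneralLinearGroup ι L) : Matrix ι ι L) *ᵥ
      (fun i => e (w i)) = fun i => e (((g : Matrix ι ι F) *ᵥ w) i) := by
    funext i
    simp [Matrix.mulVec, dotProduct, map_sum]
  rw [hm, ← h]
  show _ = Q' fun i => e (w i)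
  rw [← h]
  exact congrArg e (hg w w)

/-- An isomorphism of fields carrying one form to the other gives an isomorphism of isometry groups. -/
theorem isometry_iso (e : F ≃+* L) (Q : (ι → F) → F) (Q' : (ι → L) → L) (h : ∀ v, e (Q v) = Q' fun i => e (v i)) :
    Nonempty (Cfsg.isometryGroup F Q ≃* Cfsg.isometryGroup L Q') := by
  have h' : ∀ v, e.symm (Q' v) = Q fun i => e.symm (v i) := fun v => e.injective (by simp [h])
  exact ⟨{
    toFun := fun g => ⟨_, map_mem e h g.2⟩
    invFun := fun g => ⟨_, map_mem e.symm h' g.2⟩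
    left_inv := fun g => Subtype.ext (Units.ext (by ext i j; simp))
    right_inv := fun g => Subtype.ext (Units.ext (by ext i j; simp))
    map_mul' := fun g g' => Subtype.ext (map_mul _ _ _) }⟩

end Cfsg.Agent.Classical.IsometryTransport
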