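import Mathlib
import Cfsg.Prelude.Def_Classical
import Cfsg.Agent.Lib.Classical.BinaryHeart
import Cfsg.Agent.Lib.Classical.IsometryTransport

/-! The symmetric group of degree eight inside the orthogonal group of plus type in dimension six over two elements. -/

set_option autoImplicit false

namespace Cfsg.Agent.Classical.HeartPlusSix

open Matrix

local notation "Z" => ZMod 2

/-- Half the weight. -/
def hw (w : Heart.Wd 3) : Z := (((Finset.univ.filter fun k => w k ≠ 0).card / 2 : ℕ) : Z)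

/-- A change of basis. -/
def tMat : Matrix (Fin 3 ⊕ Fin 3) (Fin 3 ⊕ Fin 3) Z :=
  Matrix.reindex finSumFinEquiv.symm finSumFinEquiv.symm
    (!![0, 0, 1, 0, 0, 1; 0, 0, 0, 1, 0, 0; 0, 0, 1, 0, 1, 1; 0, 1, 0, 0, 1, 1; 1, 0, 0, 1, 0, 0; 0, 1, 0, 0, 1, 0] :
      Matrix (Fin (3 + 3)) (Fin (3 + 3)) Z)

/-- Its inverse. -/
def tInv : Matrix (Fin 3 ⊕ Fin 3) (Fin 3 ⊕ Fin 3) Z :=
  Matrix.reindex finSumFinEquiv.symm finSumFinEquiv.symm
    (!![0, 1, 0, 0, 1, 0; 1, 0, 1, 0, 0, 1; 1, 0, 0, 1, 0, 1; 0, 1, 0, 0, 0, 0; 1, 0, 1, 0, 0, 0; 0, 0, 0, 1, 0, 1] :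
      Matrix (Fin (3 + 3)) (Fin (3 + 3)) Z)

theorem t_inv : tMat * tInv = 1 := by decide +kernel

/-- The change of basis as a unit. -/
def tU : Matrix.GeneralLinearGroup (Fin 3 ⊕ Fin 3) Z := ⟨tMat, tInv, t_inv, mul_eq_one_comm.1 t_inv⟩

theorem hw_t : ∀ v : Fin 3 ⊕ Fin 3 → Z, hw (Heart.lift (tMat *ᵥ v)) = Cfsg.quadFormPlus 3 Z v := by decide +kernel

theorem hw_ones : ∀ w : Heart.Wd 3, Heart.dot Heart.onesV w = 0 → hw (w + Heart.onesV) = hw w := by decide +kernel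

theorem hw_perm (σ : Equiv.Perm (Fin (2 * (3 + 1)))) (w : Heart.Wd 3) : hw (Heart.permW σ w) = hw w := by
  refine congrArg (fun n : ℕ => ((n / 2 : ℕ) : Z)) (Finset.card_equiv σ.symm fun k => ?_)
  constructor
  · intro hk
    exact Finset.mem_filter.2 ⟨Finset.mem_univ _, (Finset.mem_filter.1 hk).2⟩
  · intro hk
    exact Finset.mem_filter.2 ⟨Finset.mem_univ _, (Finset.mem_filter.1 hk).2⟩

theorem hw_act (σ : Equiv.Perm (Fin (2 * (3 + 1)))) (u : Heart.Vs 3) :
    hw (Heart.lift (Heart.act σ u)) = hw (Heart.lift u) := by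
  obtain ⟨c, hc⟩ := Heart.lift_proj (Heart.perm_even σ u)
  show hw (Heart.lift (Heart.proj (Heart.permW σ (Heart.lift u)))) = _
  rw [hc]
  have key : ∀ c : Z, c = 0 ∨ c = 1 := by decide
  rcases key c with rfl | rfl
  · rw [zero_smul, add_zero, hw_perm]
  · rw [one_smul, hw_ones _ (Heart.perm_even σ u), hw_perm]

/-- The representation in the new basis. -/
noncomputable def hom8 : Equiv.Perm (Fin (2 * (3 + 1))) →* Cfsg.isometryGroup Z (Cfsg.quadFormPlus 3 Z) :=
  (((MulAut.conj tU⁻¹).toMonoidHom).comp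
    ((Submonoid.subtype _).comp (Heart.hom 3)).toHomUnits).codRestrict _ fun σ u v => by
    simp only [MonoidHom.comp_apply, MulEquiv.coe_toMonoidHom, MulAut.conj_apply, Units.coeHom_apply, inv_inv,
      Units.val_mul, MonoidHom.coe_toHomUnits, ← Matrix.mulVec_mulVec]
    rw [← hw_t, ← hw_t u, Matrix.mulVec_mulVec]
    show hw (Heart.lift ((tMat * tInv) *ᵥ ((Heart.hom 3 σ : Matrix _ _ Z) *ᵥ (tMat *ᵥ u)))) = _
    rw [t_inv, Matrix.one_mulVec, Heart.hom_apply, hw_act]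

theorem hom8_injective : Function.Injective hom8 := by
  intro σ τ h
  have h' := congrArg Subtype.val h
  exact Heart.hom_injective (m := 3) (by norm_num)
    (Subtype.ext (congrArg Units.val ((MulAut.conj tU⁻¹).injective h')))

end Cfsg.Agent.Classical.HeartPlusSix
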