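import Cfsg.Agent.Lib.Classical.GLPrimeOrderClasses

/-!
Non-abelian subgroups of order 27 and exponent 3 in `GL_3`: standard form, the normaliser, and elements of prime
order in it.
-/

set_option autoImplicit false

namespace Cfsg.Agent.Classical.HeisenbergThree

open Matrix

variable {F : Type*} [Field F]

/-- A scalar matrix. -/
def Sc (x : GL (Fin 3) F) : Prop := ∃ z : F, (x : Matrix (Fin 3) (Fin 3) F) = z • 1

/-- Invertible diagonal matrices. -/
def dia : (Fin 3 → Fˣ) →* GL (Fin 3) F :=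
  (Units.map (Matrix.diagonalRingHom (Fin 3) F).toMonoidHom).comp (MulEquiv.piUnits.symm.toMonoidHom)

theorem coe_dia (e : Fin 3 → Fˣ) :
    ((dia e : GL (Fin 3) F) : Matrix (Fin 3) (Fin 3) F) = Matrix.diagonal fun i => (e i : F) := rfl

/-- The cyclic permutation of the basis. -/
def cyc : GL (Fin 3) F where
  val := !![0, 0, 1; 1, 0, 0; 0, 1, 0]
  inv := !![0, 1, 0; 0, 0, 1; 1, 0, 0]
  val_inv := by ext i j; fin_cases i <;> fin_cases j <;> simp [Matrix.mul_apply, Fin.sum_univ_three]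
  inv_val := by ext i j; fin_cases i <;> fin_cases j <;> simp [Matrix.mul_apply, Fin.sum_univ_three]

theorem coe_cyc : ((cyc : GL (Fin 3) F) : Matrix (Fin 3) (Fin 3) F) = !![0, 0, 1; 1, 0, 0; 0, 1, 0] := rfl

/-- The indices moved back by the cyclic permutation. -/
def prev (e : Fin 3 → Fˣ) : Fin 3 → Fˣ := ![e 2, e 0, e 1]

theorem cyc_mul_dia (e : Fin 3 → Fˣ) : cyc * dia e = dia (prev e) * cyc := by
  refine Units.ext ?_
  rw [Units.val_mul, Units.val_mul, coe_dia, coe_dia, coe_cyc]
  ext i j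
  fin_cases i <;> fin_cases j <;> simp [Matrix.mul_apply, Fin.sum_univ_three, prev]

/-- The diagonal generator. -/
def A (w : Fˣ) : Fin 3 → Fˣ := fun i => w ^ (i : ℕ)

/-- The standard extraspecial group. -/
def std (w : Fˣ) : Subgroup (GL (Fin 3) F) := Subgroup.closure {dia (A w), cyc}

theorem dia_A_mem (w : Fˣ) : dia (A w) ∈ std w := Subgroup.subset_closure (Or.inl rfl)

theorem cyc_mem (w : Fˣ) : (cyc : GL (Fin 3) F) ∈ std w := Subgroup.subset_closure (Or.inr rfl)

theorem const_mem {w : Fˣ} (hw : w ^ 3 = 1) : dia (fun _ => w) ∈ std w := by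
  have e : A w * (prev (A w))⁻¹ = fun _ => w := by
    funext i
    rw [Pi.mul_apply, Pi.inv_apply, mul_inv_eq_iff_eq_mul]
    fin_cases i <;> simp [A, prev]
    · rw [← pow_succ', hw]
    · rw [pow_two]
  have h1 : dia (prev (A w)) = cyc * dia (A w) * (cyc : GL (Fin 3) F)⁻¹ := by
    rw [cyc_mul_dia, mul_inv_cancel_right]
  rw [← e, map_mul, map_inv, h1]
  exact mul_mem (dia_A_mem w) (inv_mem (mul_mem (mul_mem (cyc_mem w) (dia_A_mem w)) (inv_mem (cyc_mem w))))

variable {w : Fˣ}

theorem cases_cube (hw : w ^ 3 = 1) (hw1 : w ≠ 1) {t : Fˣ} (ht : t ^ 3 = 1) : ∃ k : ℕ, k < 3 ∧ t = w ^ k := by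
  have h : ((t : F) - 1) * ((t : F) - w) * ((t : F) - (w : F) ^ 2) = 0 := by
    have h3 : (w : F) ^ 3 = 1 := by rw [← Units.val_pow_eq_pow_val, hw, Units.val_one]
    have ht3 : (t : F) ^ 3 = 1 := by rw [← Units.val_pow_eq_pow_val, ht, Units.val_one]
    have hne : (w : F) - 1 ≠ 0 := sub_ne_zero.2 fun e => hw1 (Units.ext e)
    have hs : 1 + (w : F) + (w : F) ^ 2 = 0 :=
      (mul_eq_zero.1 (show ((w : F) - 1) * (1 + (w : F) + (w : F) ^ 2) = 0 by linear_combination h3)).resolve_left hne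
    linear_combination ht3 - (t : F) ^ 2 * hs + (t : F) * (w : F) * hs - h3
  rcases mul_eq_zero.1 h with h | h
  · rcases mul_eq_zero.1 h with h | h
    · exact ⟨0, by omega, Units.ext (by simpa using sub_eq_zero.1 h)⟩
    · exact ⟨1, by omega, Units.ext (by simpa using sub_eq_zero.1 h)⟩
  · exact ⟨2, by omega, Units.ext (by simpa using sub_eq_zero.1 h)⟩

theorem pow_mod_three (hw : w ^ 3 = 1) (k : ℕ) : w ^ k = w ^ (k % 3) := by
  conv_lhs => rw [← Nat.div_add_mod k 3, pow_add, pow_mul, hw, one_pow, one_mul]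

theorem dia_cube_mem (hw : w ^ 3 = 1) (hw1 : w ≠ 1) {u : Fin 3 → Fˣ} (hu : ∀ i, u i ^ 3 = 1)
    (hp : u 0 * u 1 * u 2 = 1) : dia u ∈ std w := by
  obtain ⟨i, -, hi⟩ := cases_cube hw hw1 (hu 0)
  obtain ⟨j, -, hj⟩ := cases_cube hw hw1 (hu 1)
  have h2 : u 2 = w ^ (2 * i + 2 * j) := by
    refine mul_left_cancel (a := u 0 * u 1) ?_
    rw [hp, hi, hj, ← pow_add, ← pow_add, pow_mod_three hw, show (i + j + (2 * i + 2 * j)) % 3 = 0 by omega, pow_zero]
  have e : u = (fun _ => w) ^ i * A w ^ (j + 2 * i) := by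
    funext k
    simp only [Pi.mul_apply, Pi.pow_apply, A, ← pow_mul, ← pow_add]
    fin_cases k
    · simp only [hi, Fin.zero_eta, Fin.isValue, Fin.val_zero, zero_mul, add_zero]
    · simp only [hj, Fin.mk_one, Fin.isValue, Fin.val_one, one_mul]
      rw [pow_mod_three hw, pow_mod_three hw (_ + _)]
      congr 1
      omega
    · simp only [h2, Fin.reduceFinMk, Fin.isValue, Fin.val_two]
      rw [pow_mod_three hw, pow_mod_three hw (_ + _)]
      congr 1
      omega
  rw [e, map_mul, map_pow, map_pow]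
  exact mul_mem (pow_mem (const_mem hw) i) (pow_mem (dia_A_mem w) _)

theorem mem_normalizer_of_gen [Finite F] {G : Subgroup (GL (Fin 3) F)} {S : Set (GL (Fin 3) F)}
    (hG : G = Subgroup.closure S) {x : GL (Fin 3) F} (h : ∀ s ∈ S, x * s * x⁻¹ ∈ G) :
    x ∈ Subgroup.normalizer (G : Set (GL (Fin 3) F)) := by
  have hle : G.map (MulAut.conj x).toMonoidHom ≤ G := by
    conv_lhs => rw [hG, MonoidHom.map_closure]
    refine Subgroup.closure_le _ |>.2 ?_
    rintro _ ⟨s, hs, rfl⟩
    exact h s hs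
  have heq : G.map (MulAut.conj x).toMonoidHom = G := by
    refine Subgroup.eq_of_le_of_card_ge hle ?_
    rw [Subgroup.card_map_of_injective (MulAut.conj x).injective]
  rw [Subgroup.mem_normalizer_iff]
  intro g
  constructor
  · intro hg
    exact hle ⟨g, hg, rfl⟩
  · intro hg
    obtain ⟨g', hg', e⟩ : x * g * x⁻¹ ∈ G.map (MulAut.conj x).toMonoidHom := heq.symm ▸ hg
    have e' : g' = g := by
      have : x * g' * x⁻¹ = x * g * x⁻¹ := e
      simpa using this
    exact e' ▸ hg'

/-- A diagonal matrix whose entries have one cube normalises the standard group. -/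
theorem dia_mem_normalizer [Finite F] (hw : w ^ 3 = 1) (hw1 : w ≠ 1) {e : Fin 3 → Fˣ} {z : Fˣ}
    (he : ∀ i, e i ^ 3 = z) : dia e ∈ Subgroup.normalizer (std w : Set (GL (Fin 3) F)) := by
  refine mem_normalizer_of_gen (S := {dia (A w), cyc}) rfl ?_
  rintro s (rfl | rfl)
  · rw [← map_inv, ← map_mul, ← map_mul, mul_comm e, mul_inv_cancel_right]
    exact dia_A_mem w
  · rw [← map_inv, mul_assoc, cyc_mul_dia, ← mul_assoc, ← map_mul]
    refine mul_mem (dia_cube_mem hw hw1 (fun i => ?_) ?_) (cyc_mem w)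
    · fin_cases i <;> simp [prev, mul_pow, inv_pow, he]
    · simp only [Pi.mul_apply, prev, Pi.inv_apply, Matrix.cons_val_zero, Matrix.cons_val_one, Matrix.cons_val_two,
        Matrix.tail_cons, Matrix.head_cons]
      rw [show e 0 * (e 2)⁻¹ * (e 1 * (e 0)⁻¹) * (e 2 * (e 1)⁻¹) =
        (e 0 * (e 0)⁻¹) * (e 1 * (e 1)⁻¹) * (e 2 * (e 2)⁻¹) by ac_rfl]
      simp

/-- Minus the transposition of the last two basis vectors. -/
def negSwap : GL (Fin 3) F where
  val := !![-1, 0, 0; 0, 0, -1; 0, -1, 0]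
  inv := !![-1, 0, 0; 0, 0, -1; 0, -1, 0]
  val_inv := by ext i j; fin_cases i <;> fin_cases j <;> simp [Matrix.mul_apply, Fin.sum_univ_three]
  inv_val := by ext i j; fin_cases i <;> fin_cases j <;> simp [Matrix.mul_apply, Fin.sum_univ_three]

theorem negSwap_mem_normalizer [Finite F] (hw : w ^ 3 = 1) :
    negSwap ∈ Subgroup.normalizer (std w : Set (GL (Fin 3) F)) := by
  have h3 : (w : F) ^ 3 = 1 := by rw [← Units.val_pow_eq_pow_val, hw, Units.val_one]
  refine mem_normalizer_of_gen (S := {dia (A w), cyc}) rfl ?_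
  rintro s (rfl | rfl)
  · rw [show negSwap * dia (A w) * (negSwap : GL (Fin 3) F)⁻¹ = dia (A w) * dia (A w) from ?_]
    · exact mul_mem (dia_A_mem w) (dia_A_mem w)
    rw [mul_inv_eq_iff_eq_mul]
    refine Units.ext ?_
    simp only [Units.val_mul, coe_dia]
    ext i j
    fin_cases i <;> fin_cases j <;> simp [negSwap, Matrix.mul_apply, Fin.sum_univ_three, A]
    all_goals (first | linear_combination (w : F) * h3 | linear_combination (-(w : F)) * h3 | ring1)
  · rw [show negSwap * cyc * (negSwap : GL (Fin 3) F)⁻¹ = cyc * cyc from ?_]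
    · exact mul_mem (cyc_mem w) (cyc_mem w)
    rw [mul_inv_eq_iff_eq_mul]
    refine Units.ext ?_
    simp only [Units.val_mul, coe_cyc]
    ext i j
    fin_cases i <;> fin_cases j <;> simp [negSwap, Matrix.mul_apply, Fin.sum_univ_three]

/-- A matrix commuting with both generators is scalar. -/
theorem sc_of_commute (hw : w ^ 3 = 1) (hw1 : w ≠ 1) {x : GL (Fin 3) F}
    (h1 : x * dia (A w) = dia (A w) * x) (h2 : x * cyc = cyc * x) : Sc x := by
  set X := (x : Matrix (Fin 3) (Fin 3) F) with hX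
  have hd : ∀ i j : Fin 3, i ≠ j → X i j = 0 := fun i j hij => by
    have h := congrArg (fun g : GL (Fin 3) F => (g : Matrix (Fin 3) (Fin 3) F) i j) h1
    simp only [Units.val_mul, coe_dia, Matrix.mul_diagonal, Matrix.diagonal_mul] at h
    have hne : ((A w j : Fˣ) : F) - (A w i : F) ≠ 0 := sub_ne_zero.2 fun e => by
      have e' : w ^ (j : ℕ) = w ^ (i : ℕ) := Units.ext e
      have ho : orderOf w = 3 := orderOf_eq_prime hw hw1
      have h := pow_inj_mod.1 e'
      rw [ho, Nat.mod_eq_of_lt j.2, Nat.mod_eq_of_lt i.2] at h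
      exact hij (Fin.ext h.symm)
    exact (mul_eq_zero.1 (show X i j * (((A w j : Fˣ) : F) - (A w i : F)) = 0 by
      rw [hX]; linear_combination h)).resolve_right hne
  have h := fun i j => congrArg (fun g : GL (Fin 3) F => (g : Matrix (Fin 3) (Fin 3) F) i j) h2
  have e1 := h 1 0
  have e2 := h 2 1
  simp [coe_cyc, Matrix.mul_apply, Fin.sum_univ_three, hd] at e1 e2
  refine ⟨X 0 0, ?_⟩
  ext i j
  fin_cases i <;> fin_cases j <;> simp [← hX, hd, e1, e2]

/-- Eigenvectors of a cube root of one inside a subspace invariant under it. -/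
theorem exists_eigen (hw : w ^ 3 = 1) (hw1 : w ≠ 1) {V : Type*} [AddCommGroup V] [Module F V]
    (T : Module.End F V) (hT : T ^ 3 = 1) (W : Submodule F V) (hTW : ∀ v ∈ W, T v ∈ W) {v : V} (hv : v ∈ W)
    (hv0 : v ≠ 0) : ∃ k < 3, ∃ u ∈ W, u ≠ 0 ∧ T u = ((w ^ k : Fˣ) : F) • u := by
  have h3 : (w : F) ^ 3 = 1 := by rw [← Units.val_pow_eq_pow_val, hw, Units.val_one]
  have hs : 1 + (w : F) + (w : F) ^ 2 = 0 :=
    (mul_eq_zero.1 (show ((w : F) - 1) * (1 + (w : F) + (w : F) ^ 2) = 0 by linear_combination h3)).resolve_left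
      (sub_ne_zero.2 fun e => hw1 (Units.ext e))
  by_cases h0 : T v = v
  · exact ⟨0, by omega, v, hv, hv0, by simpa using h0⟩
  set a := T v - v
  have ha : a ∈ W := W.sub_mem (hTW v hv) hv
  have ha0 : a ≠ 0 := sub_ne_zero.2 h0
  by_cases h1 : T a = (w : F) • a
  · exact ⟨1, by omega, a, ha, ha0, by simpa using h1⟩
  set b := T a - (w : F) • a with hb
  refine ⟨2, by omega, b, W.sub_mem (hTW a ha) (W.smul_mem _ ha), sub_ne_zero.2 h1, ?_⟩
  have hT3 : T (T (T v)) = v := by
    have := congrArg (fun f : Module.End F V => f v) hT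
    simpa [pow_succ] using this
  rw [hb]
  simp only [a, map_sub, map_smul, hT3, Units.val_pow_eq_pow_val, smul_sub, smul_smul]
  have e1 : (w : F) ^ 2 = -1 - (w : F) := by linear_combination hs
  have e2 : (w : F) ^ 2 * (w : F) = 1 := by rw [← pow_succ]; exact h3
  rw [e2, e1]
  module

/-- The standard form of a non-abelian group of order 27 and exponent 3. -/
theorem exists_frame (h3 : (3 : F) ≠ 0) (hex : ∃ w : Fˣ, w ^ 3 = 1 ∧ w ≠ 1) (R : Subgroup (GL (Fin 3) F))
    (hR : Nat.card R = 27) (hRe : Monoid.exponent R = 3) (hRna : ¬ IsMulCommutative R) :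
    ∃ (P : GL (Fin 3) F) (w : Fˣ), w ^ 3 = 1 ∧ w ≠ 1 ∧ R = (std w).map (MulAut.conj P).toMonoidHom := by
  classical
  obtain ⟨w₀, hw₀, hw₀1⟩ := hex
  haveI : Fact (Nat.Prime 3) := ⟨Nat.prime_three⟩
  haveI : Finite R := Nat.finite_of_card_ne_zero (by omega)
  have hna : ¬ ∀ a b : R, a * b = b * a := fun h => hRna ⟨⟨h⟩⟩
  have hp : IsPGroup 3 R := IsPGroup.of_card (n := 3) (by rw [hR]; rfl)
  haveI : Nontrivial R := Finite.one_lt_card_iff_nontrivial.1 (by omega)
  haveI := hp.center_nontrivial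
  set Z := Subgroup.center R
  have hmul : Nat.card (R ⧸ Z) * Nat.card Z = 27 := by rw [← hR, ← Subgroup.card_eq_card_quotient_mul_card_subgroup]
  have hZ1 : 1 < Nat.card Z := Finite.one_lt_card_iff_nontrivial.2 inferInstance
  have hQ : Nat.card (R ⧸ Z) = 3 ^ 2 := by
    obtain ⟨k, hk, hk'⟩ := (Nat.dvd_prime_pow Nat.prime_three).1
      (show Nat.card (R ⧸ Z) ∣ 3 ^ 3 from ⟨_, by rw [hmul]; rfl⟩)
    interval_cases k <;> rw [hk'] at hmul ⊢
    · refine absurd (fun a b => ?_) hna
      haveI : Subsingleton (R ⧸ Z) := (Nat.card_eq_one_iff_unique.1 (by rw [hk']; rfl)).1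
      exact Subgroup.mem_center_iff.1 ((QuotientGroup.eq_one_iff b).1 (Subsingleton.elim _ _)) a
    · haveI : IsCyclic (R ⧸ Z) := isCyclic_of_prime_card (p := 3) (by rw [hk']; rfl)
      exact absurd (commutative_of_cyclic_center_quotient (QuotientGroup.mk' Z) (by rw [QuotientGroup.ker_mk'])) hna
    · omega
  have hQc := IsPGroup.commutative_of_card_eq_prime_sq hQ
  push Not at hna
  obtain ⟨a, b, hab⟩ := hna
  set c := b * a * b⁻¹ * a⁻¹ with hc
  have hcZ : c ∈ Z := by
    rw [← QuotientGroup.eq_one_iff, hc]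
    simp only [QuotientGroup.mk_mul, QuotientGroup.mk_inv]
    rw [hQc (b : R ⧸ Z) a]
    simp
  have hc1 : c ≠ 1 := fun h => hab (by
    rw [hc, mul_inv_eq_one, mul_inv_eq_iff_eq_mul] at h
    exact h.symm)
  have hcube : ∀ g : R, g ^ 3 = 1 := fun g => by
    have := Monoid.pow_exponent_eq_one g
    rwa [hRe] at this
  set T : R →* Module.End F (Fin 3 → F) :=
    (Matrix.toLinAlgEquiv' (R := F) (n := Fin 3)).toMonoidHom.comp ((Units.coeHom _).comp R.subtype) with hTdef
  have hT3 : ∀ g, T g ^ 3 = 1 := fun g => by rw [← map_pow, hcube, map_one]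
  have hTinj : Function.Injective T := fun g g' h => Subtype.ext (Units.ext
    ((Matrix.toLinAlgEquiv' (R := F) (n := Fin 3)).injective h))
  have hTinv : ∀ (g : R) (v : Fin 3 → F), T g⁻¹ (T g v) = v := fun g v => by
    rw [← Module.End.mul_apply, ← map_mul, inv_mul_cancel, map_one]; rfl
  have hcomm : ∀ g : R, T c * T g = T g * T c := fun g => by
    rw [← map_mul, ← map_mul, Subgroup.mem_center_iff.1 hcZ g]
  -- an eigenvector of the central element
  obtain ⟨v₀, hv₀⟩ : ∃ v, T c v ≠ v := by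
    by_contra h
    push Not at h
    exact hc1 (hTinj (by rw [map_one]; exact LinearMap.ext h))
  let W₀ : Submodule F (Fin 3 → F) := LinearMap.range (T c - 1)
  have hW₀ : ∀ v ∈ W₀, T c v ∈ W₀ := by
    rintro _ ⟨u, rfl⟩
    exact ⟨T c u, by simp⟩
  obtain ⟨k, hk, u, hu, hu0, huc⟩ := exists_eigen hw₀ hw₀1 (T c) (hT3 c) W₀ hW₀ (v := T c v₀ - v₀) ⟨v₀, by simp⟩
    (sub_ne_zero.2 hv₀)
  have hk0 : w₀ ^ k ≠ 1 := fun e => by
    rw [e, Units.val_one, one_smul] at huc
    obtain ⟨t, rfl⟩ := hu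
    apply hu0
    simp only [LinearMap.sub_apply, Module.End.one_apply, map_sub] at huc ⊢
    have h : T c (T c (T c t)) = t := by
      have := congrArg (fun f : Module.End F (Fin 3 → F) => f t) (hT3 c)
      simpa [pow_succ] using this
    have e1 : T c (T c t) = (T c t - t) + T c t := by rw [← huc]; abel
    rw [e1, map_add, map_sub, e1] at h
    have h' : (3 : F) • (T c t - t) = 0 := by
      rw [← sub_eq_zero] at h
      refine Eq.trans ?_ h
      module
    exact (smul_eq_zero.1 h').resolve_left h3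
  set μ := w₀ ^ k with hμ
  have hμ3 : μ ^ 3 = 1 := by rw [hμ, ← pow_mul, mul_comm, pow_mul, hw₀, one_pow]
  -- a common eigenvector
  let W : Submodule F (Fin 3 → F) := LinearMap.ker (T c - (μ : F) • (1 : Module.End F (Fin 3 → F)))
  have hmem : ∀ v, v ∈ W ↔ T c v = (μ : F) • v := fun v => by simp [W, sub_eq_zero]
  have hWg : ∀ g, ∀ v ∈ W, T g v ∈ W := fun g v hv => by
    rw [hmem] at hv ⊢
    rw [← Module.End.mul_apply, hcomm, Module.End.mul_apply, hv, map_smul]
  obtain ⟨l, hl, v, hv, hv0, hva⟩ := exists_eigen hw₀ hw₀1 (T a) (hT3 a) W (hWg a) ((hmem u).2 huc) hu0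
  set ν : Fˣ := μ⁻¹ with hν
  have hν3 : ν ^ 3 = 1 := by rw [hν, inv_pow, hμ3, inv_one]
  have hν1 : ν ≠ 1 := fun e => hk0 (inv_eq_one.1 e)
  -- `T b` lowers the eigenvalue of `T a`
  have hba : ∀ (x : Fin 3 → F) (t : F), x ∈ W → T a x = t • x → T a (T b x) = ((ν : F) * t) • T b x := by
    intro x t hx hat
    have hrel : b * a = c * (a * b) := by rw [hc]; group
    have h1 : T b (T a x) = T c (T a (T b x)) := by
      exact congrArg (fun f : Module.End F (Fin 3 → F) => f x)
        (show T b * T a = T c * (T a * T b) by rw [← map_mul, ← map_mul, ← map_mul, hrel])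
    rw [hat, map_smul, (hmem _).1 (hWg a _ (hWg b _ hx))] at h1
    rw [mul_smul, h1, smul_smul, hν, ← Units.val_mul, inv_mul_cancel, Units.val_one, one_smul]
  obtain ⟨l', hl', hl''⟩ := cases_cube hν3 hν1
    (show (w₀ ^ l) ^ 3 = 1 by rw [← pow_mul, mul_comm, pow_mul, hw₀, one_pow])
  rw [hl''] at hva
  have hseq : ∀ n : ℕ, (T b ^ n) v ∈ W ∧ T a ((T b ^ n) v) = ((ν ^ (n + l') : Fˣ) : F) • (T b ^ n) v := by
    intro n
    induction n with
    | zero => exact ⟨hv, by simpa using hva⟩
    | succ n ih =>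
      rw [pow_succ' (T b), Module.End.mul_apply]
      refine ⟨hWg b _ ih.1, ?_⟩
      rw [hba _ _ ih.1 ih.2, ← Units.val_mul, ← pow_succ', show n + 1 + l' = n + l' + 1 by omega]
  let U : Fin 3 → (Fin 3 → F) := fun j => (T b ^ ((j : ℕ) + (3 - l'))) v
  have hU : ∀ j, T a (U j) = ((A ν j : Fˣ) : F) • U j := fun j => by
    have h := (hseq ((j : ℕ) + (3 - l'))).2
    rw [show (j : ℕ) + (3 - l') + l' = j + 3 by omega, pow_add ν, hν3, mul_one] at h
    exact h
  have hU0 : ∀ j, U j ≠ 0 := fun j h => hv0 (by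
    have hinv : ∀ n : ℕ, (T b⁻¹ ^ n) ((T b ^ n) v) = v := fun n => by
      rw [← map_pow, ← map_pow, inv_pow]; exact hTinv _ _
    rw [← hinv ((j : ℕ) + (3 - l'))]
    show (T b⁻¹ ^ _) (U j) = 0
    rw [h, map_zero])
  have hinjA : Function.Injective fun j : Fin 3 => ((A ν j : Fˣ) : F) := fun i j hij => by
    have e' : ν ^ (i : ℕ) = ν ^ (j : ℕ) := Units.ext hij
    have ho : orderOf ν = 3 := orderOf_eq_prime hν3 hν1
    have h := pow_inj_mod.1 e'
    rw [ho, Nat.mod_eq_of_lt j.2, Nat.mod_eq_of_lt i.2] at h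
    exact Fin.ext h
  have hli : LinearIndependent F U := Module.End.eigenvectors_linearIndependent' (T a) _ hinjA U
    fun j => ⟨Module.End.mem_eigenspace_iff.2 (hU j), hU0 j⟩
  set M : Matrix (Fin 3) (Fin 3) F := Matrix.of fun i j => U j i
  have hM : IsUnit M := Matrix.linearIndependent_cols_iff_isUnit.1 hli
  obtain ⟨P, hP⟩ := hM
  have hcol : ∀ (g : R) (j : Fin 3) (i : Fin 3),
      (((g : GL (Fin 3) F) : Matrix (Fin 3) (Fin 3) F) * M) i j = T g (U j) i := fun g j i => rfl
  have ha' : (a : GL (Fin 3) F) = P * dia (A ν) * P⁻¹ := by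
    rw [eq_mul_inv_iff_mul_eq]
    refine Units.ext ?_
    rw [Units.val_mul, Units.val_mul, hP, coe_dia]
    ext i j
    rw [hcol, hU, Matrix.mul_diagonal]
    simp [M, mul_comm]
  have hb' : (b : GL (Fin 3) F) = P * cyc * P⁻¹ := by
    rw [eq_mul_inv_iff_mul_eq]
    refine Units.ext ?_
    rw [Units.val_mul, Units.val_mul, hP, coe_cyc]
    have hstep : ∀ j : Fin 3, T b (U j) = U (j + 1) := fun j => by
      have h : ∀ n, T b ((T b ^ n) v) = (T b ^ (n + 1)) v := fun n => by
        rw [pow_succ' (T b)]; rfl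
      simp only [U, h]
      fin_cases j
      · simp [add_comm]
      · show (T b ^ (1 + (3 - l') + 1)) v = (T b ^ (2 + (3 - l'))) v
        rw [show 1 + (3 - l') + 1 = 2 + (3 - l') by omega]
      · simp only [Fin.reduceFinMk, Fin.isValue, Fin.val_two]
        rw [show (2 : ℕ) + (3 - l') + 1 = 3 - l' + 3 by omega, pow_add, hT3, mul_one]
        simp
    ext i j
    rw [hcol, hstep]
    fin_cases j <;> simp [M, Matrix.mul_apply, Fin.sum_univ_three]
  refine ⟨P, ν, hν3, hν1, (Subgroup.eq_of_le_of_card_ge ?_ ?_).symm⟩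
  · rw [std, MonoidHom.map_closure, Subgroup.closure_le]
    rintro _ ⟨s, (rfl | rfl), rfl⟩
    · show P * dia (A ν) * P⁻¹ ∈ R
      rw [← ha']; exact a.2
    · show P * cyc * P⁻¹ ∈ R
      rw [← hb']; exact b.2
  · set S := (std ν).map (MulAut.conj P).toMonoidHom
    have haS : (a : GL (Fin 3) F) ∈ S := ⟨_, dia_A_mem ν, ha'.symm⟩
    have hbS : (b : GL (Fin 3) F) ∈ S := ⟨_, cyc_mem ν, hb'.symm⟩
    have hle : S ≤ R := by
      simp only [S, std, MonoidHom.map_closure, Subgroup.closure_le]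
      rintro _ ⟨s, (rfl | rfl), rfl⟩
      · show P * dia (A ν) * P⁻¹ ∈ R
        rw [← ha']; exact a.2
      · show P * cyc * P⁻¹ ∈ R
        rw [← hb']; exact b.2
    obtain ⟨e, he, he'⟩ := (Nat.dvd_prime_pow Nat.prime_three).1
      (show Nat.card S ∣ 3 ^ 3 by rw [show (3 : ℕ) ^ 3 = Nat.card R from hR.symm]; exact Subgroup.card_dvd_of_le hle)
    haveI : Finite S := Nat.finite_of_card_ne_zero (by rw [he']; exact pow_ne_zero _ (by norm_num))
    have hnot : ¬ ∀ x y : S, x * y = y * x := fun h =>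
      hab (Subtype.ext (congrArg (fun s : S => (s : GL (Fin 3) F)) (h ⟨_, haS⟩ ⟨_, hbS⟩)))
    interval_cases e
    · haveI : Subsingleton S := (Nat.card_eq_one_iff_unique.1 (by rw [he']; rfl)).1
      exact absurd (fun x y => Subsingleton.elim _ _) hnot
    · haveI : IsCyclic S := isCyclic_of_prime_card (p := 3) (by rw [he']; rfl)
      exact absurd (fun x y => (IsCyclic.commGroup (α := S)).mul_comm x y) hnot
    · exact absurd (IsPGroup.commutative_of_card_eq_prime_sq he') hnot
    · rw [he', hR]; norm_num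

/-- The normaliser contains no element of prime order at least five modulo scalars. -/
theorem sc_of_mem_normalizer (hw : w ^ 3 = 1) (hw1 : w ≠ 1) [Finite F] {P x : GL (Fin 3) F}
    {R : Subgroup (GL (Fin 3) F)} (hR : R = (std w).map (MulAut.conj P).toMonoidHom) (hRc : Nat.card R = 27)
    (hx : x ∈ Subgroup.normalizer (R : Set (GL (Fin 3) F))) {r : ℕ} [Fact r.Prime] (hr : 5 ≤ r) (hxr : Sc (x ^ r)) :
    Sc x := by
  classical
  haveI : Fintype R := Fintype.ofFinite _
  obtain ⟨z, hz⟩ := hxr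
  have hcent : ∀ g : GL (Fin 3) F, x ^ r * g = g * x ^ r := fun g => Units.ext (by
    simp only [Units.val_mul, hz, Matrix.smul_mul, Matrix.mul_smul, Matrix.one_mul, Matrix.mul_one])
  set σ : Equiv.Perm R := (R.normalizerMonoidHom ⟨x, hx⟩).toEquiv
  have hσ : σ ^ r = 1 := by
    have h : R.normalizerMonoidHom ⟨x, hx⟩ ^ r = 1 := by
      rw [← map_pow]
      refine MulEquiv.ext fun g => Subtype.ext ?_
      show x ^ r * g.1 * (x ^ r)⁻¹ = g.1
      rw [hcent, mul_inv_cancel_right]
    have := congrArg (MulAut.toPerm R) h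
    rwa [map_pow, map_one] at this
  let f : Function.End R := fun g => σ g
  have hf : f ^ r ^ 1 = 1 := by
    rw [pow_one]
    funext g
    have hpow : ∀ n : ℕ, (f ^ n) g = (σ ^ n) g := fun n => by
      induction n generalizing g with
      | zero => rfl
      | succ n ih =>
        rw [pow_succ, pow_succ, Equiv.Perm.mul_apply]
        exact ih (σ g)
    rw [hpow, hσ]
    rfl
  have hmod := Equiv.Perm.card_fixedPoints_modEq (f := f) (p := r) (n := 1) hf
  set C : Subgroup R := (Subgroup.centralizer {x}).subgroupOf R with hC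
  have hfix : Nat.card f.fixedPoints = Nat.card C := by
    refine Nat.card_congr (Equiv.subtypeEquivRight fun g => ?_)
    rw [hC, Subgroup.mem_subgroupOf, Subgroup.mem_centralizer_singleton_iff]
    show σ g = g ↔ _
    rw [Subtype.ext_iff]
    show x * g.1 * x⁻¹ = g.1 ↔ _
    rw [mul_inv_eq_iff_eq_mul]
    exact ⟨fun h => h.symm, fun h => h.symm⟩
  have hmod' : 27 ≡ Nat.card C [MOD r] := by
    rw [← hRc, Nat.card_eq_fintype_card, ← hfix, Nat.card_eq_fintype_card]
    convert hmod using 2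
  have hwm : P * dia (fun _ => w) * P⁻¹ ∈ R := hR ▸ ⟨_, const_mem hw, rfl⟩
  have hsc : (P * dia (fun _ => w) * P⁻¹ : GL (Fin 3) F) = dia (fun _ => w) := by
    rw [mul_inv_eq_iff_eq_mul]
    refine Units.ext ?_
    simp [Units.val_mul, coe_dia, ← Matrix.smul_one_eq_diagonal]
  have hwC : (⟨_, hwm⟩ : R) ∈ C := by
    rw [hC, Subgroup.mem_subgroupOf, Subgroup.mem_centralizer_singleton_iff]
    show P * dia (fun _ => w) * P⁻¹ * x = x * (P * dia (fun _ => w) * P⁻¹)
    rw [hsc]
    refine Units.ext ?_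
    simp [Units.val_mul, coe_dia, ← Matrix.smul_one_eq_diagonal]
  have hC1 : Nat.card C ≠ 1 := fun h => hw1 (by
    have hbot := Subgroup.eq_bot_of_card_eq C h
    rw [hbot, Subgroup.mem_bot] at hwC
    have h' := congrArg Subtype.val hwC
    simp only [hsc, OneMemClass.coe_one] at h'
    have h'' := congrArg (fun g : GL (Fin 3) F => (g : Matrix (Fin 3) (Fin 3) F) 0 0) h'
    simp [coe_dia] at h''
    exact h'')
  obtain ⟨e, he, he'⟩ := (Nat.dvd_prime_pow Nat.prime_three).1
    (show Nat.card C ∣ 3 ^ 3 by rw [show (3 : ℕ) ^ 3 = Nat.card R from hRc.symm]; exact Subgroup.card_subgroup_dvd_card C)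
  have htop : C = ⊤ := by
    refine Subgroup.eq_top_of_card_eq C ?_
    rw [hRc, he']
    rw [he'] at hmod' hC1
    interval_cases e
    · simp at hC1
    · have h24 : r ∣ 24 := (Nat.modEq_iff_dvd' (by norm_num)).1 hmod'.symm
      have := Nat.le_of_dvd (by norm_num) h24
      have hpr : r.Prime := Fact.out
      interval_cases r <;> first | omega | norm_num at hpr
    · have h18 : r ∣ 18 := (Nat.modEq_iff_dvd' (by norm_num)).1 hmod'.symm
      have := Nat.le_of_dvd (by norm_num) h18
      have hpr : r.Prime := Fact.out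
      interval_cases r <;> first | omega | norm_num at hpr
    · rfl
  have hall : ∀ g ∈ R, g * x = x * g := fun g hg => by
    have h : (⟨g, hg⟩ : R) ∈ C := htop ▸ Subgroup.mem_top _
    rw [hC, Subgroup.mem_subgroupOf, Subgroup.mem_centralizer_singleton_iff] at h
    exact h
  have key : ∀ g ∈ std w, (P⁻¹ * x * P) * g = g * (P⁻¹ * x * P) := fun g hg => by
    have h := hall (P * g * P⁻¹) (hR ▸ ⟨g, hg, rfl⟩)
    calc (P⁻¹ * x * P) * g = P⁻¹ * (x * (P * g * P⁻¹)) * P := by group
      _ = P⁻¹ * ((P * g * P⁻¹) * x) * P := by rw [h]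
      _ = _ := by group
  obtain ⟨t, ht⟩ := sc_of_commute hw hw1 (key _ (dia_A_mem w)) (key _ (cyc_mem w))
  refine ⟨t, ?_⟩
  have : x = P * (P⁻¹ * x * P) * P⁻¹ := by group
  rw [this, Units.val_mul, Units.val_mul, ht]
  simp

/-- A matrix whose cube is one has a diagonal model. -/
theorem exists_diag_conj [Finite F] (h3 : (3 : F) ≠ 0) (hw : w ^ 3 = 1) (hw1 : w ≠ 1) {x : GL (Fin 3) F}
    (hx : x ^ 3 = 1) : ∃ e : Fin 3 → Fˣ, (∀ i, e i ^ 3 = 1) ∧ IsConj (dia e) x := by
  classical
  open Polynomial in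
  set f := (x : Matrix (Fin 3) (Fin 3) F).charpoly with hf
  have h3' : (w : F) ^ 3 = 1 := by rw [← Units.val_pow_eq_pow_val, hw, Units.val_one]
  have hs : 1 + (w : F) + (w : F) ^ 2 = 0 :=
    (mul_eq_zero.1 (show ((w : F) - 1) * (1 + (w : F) + (w : F) ^ 2) = 0 by linear_combination h3')).resolve_left
      (sub_ne_zero.2 fun e => hw1 (Units.ext e))
  have hfac : (Polynomial.X ^ 3 - 1 : Polynomial F) = (Polynomial.X - Polynomial.C 1) * (Polynomial.X - Polynomial.C (w : F)) *
      (Polynomial.X - Polynomial.C ((w : F) ^ 2)) := by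
    have e1 : Polynomial.C (w : F) ^ 2 = -1 - Polynomial.C (w : F) := by
      rw [← Polynomial.C_pow, show (w : F) ^ 2 = -1 - (w : F) by linear_combination hs]; simp
    have e2 : Polynomial.C (w : F) ^ 3 = 1 := by rw [← Polynomial.C_pow, h3', map_one]
    rw [map_one, Polynomial.C_pow]
    linear_combination (Polynomial.X ^ 2 - Polynomial.X * Polynomial.C (w : F)) * e1 + e2
  have hXs : (Polynomial.X ^ 3 - 1 : Polynomial F).Splits := by
    rw [hfac]
    exact ((Polynomial.Splits.X_sub_C _).mul (Polynomial.Splits.X_sub_C _)).mul (Polynomial.Splits.X_sub_C _)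
  have hne : (Polynomial.X ^ 3 - 1 : Polynomial F) ≠ 0 := by
    rw [← map_one Polynomial.C]; exact Polynomial.X_pow_sub_C_ne_zero (by norm_num) 1
  have hsp : f.Splits := Polynomial.splits_iff_splits.2 (Or.inr fun {g} hg hgd => by
    have hm := Polynomial.monic_normalize hg.ne_zero
    have hd := GLPrimeOrderClasses.factor_dvd hx hm ((normalize_associated g).irreducible_iff.2 hg)
      ((normalize_associated g).dvd.trans hgd)
    have h1 := Polynomial.Splits.of_dvd hXs hne hd
    rcases Polynomial.splits_iff_splits.1 h1 with h | h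
    · exact absurd h hm.ne_zero
    · rw [← Polynomial.degree_normalize]
      exact h ((normalize_associated g).irreducible_iff.2 hg) dvd_rfl)
  have hroot : ∀ t ∈ f.roots, t ^ 3 = 1 := fun t ht => by
    have hd := GLPrimeOrderClasses.factor_dvd hx (Polynomial.monic_X_sub_C t) (Polynomial.irreducible_X_sub_C t)
      (Polynomial.dvd_iff_isRoot.2 (Polynomial.isRoot_of_mem_roots ht))
    simpa [sub_eq_zero] using Polynomial.dvd_iff_isRoot.1 hd
  have hlen : f.roots.toList.length = 3 := by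
    rw [Multiset.length_toList, ← hsp.natDegree_eq_card_roots, hf, Matrix.charpoly_natDegree_eq_dim, Fintype.card_fin]
  let d : Fin 3 → F := fun i => f.roots.toList[(i : ℕ)]'(by omega)
  have hd3 : ∀ i, d i ^ 3 = 1 := fun i => hroot _ (Multiset.mem_toList.1 (List.getElem_mem _))
  have hd0 : ∀ i, d i ≠ 0 := fun i h => by simpa [h] using hd3 i
  refine ⟨fun i => Units.mk0 (d i) (hd0 i), fun i => Units.ext (by simpa using hd3 i), ?_⟩
  have hde : dia (fun i => Units.mk0 (d i) (hd0 i)) ^ 3 = 1 := by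
    rw [← map_pow]
    convert map_one dia
    funext i
    exact Units.ext (by simpa using hd3 i)
  have hord : ∀ y : GL (Fin 3) F, y ^ 3 = 1 → ((orderOf y : ℕ) : F) ≠ 0 := fun y hy h => by
    rcases (Nat.dvd_prime Nat.prime_three).1 (orderOf_dvd_of_pow_eq_one hy) with e | e <;> rw [e] at h
    · exact (one_ne_zero (α := F)) (by simpa using h)
    · exact h3 (by simpa using h)
  refine GLSemisimpleClasses.isConj_of_charpoly_eq (hord _ hde) (hord _ hx) ?_
  rw [coe_dia, Matrix.charpoly_diagonal, ← hf]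
  conv_rhs => rw [hsp.eq_prod_roots_of_monic (Matrix.charpoly_monic _), ← Multiset.coe_toList f.roots]
  rw [Multiset.map_coe, Multiset.prod_coe, ← List.prod_ofFn]
  congr 1
  refine List.ext_getElem (by simp [hlen]) fun i h1 h2 => ?_
  simp only [d, List.getElem_ofFn, List.getElem_map, Units.val_mk0]

open Polynomial in
/-- The involutions of determinant one have one characteristic polynomial. -/
theorem charpoly_involution {x : Matrix (Fin 3) (Fin 3) F} (hx : x * x = 1) (hd : x.det = 1)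
    (hns : ∀ z : F, x ≠ z • 1) : x.charpoly = X ^ 3 + X ^ 2 - X - 1 := by
  have hm := x.charpoly_monic
  have hdeg : x.charpoly.natDegree = 3 := by rw [Matrix.charpoly_natDegree_eq_dim, Fintype.card_fin]
  set a := x.charpoly.coeff 2 with ha
  set b := x.charpoly.coeff 1 with hb
  have hc : x.charpoly.coeff 0 = -1 := by
    have := x.det_eq_sign_charpoly_coeff
    rw [hd, Fintype.card_fin] at this
    linear_combination this
  have hp : x.charpoly = X ^ 3 + C a * X ^ 2 + C b * X - 1 := by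
    refine (hm.as_sum).trans ?_
    rw [hdeg]
    simp [Finset.sum_range_succ, ← ha, ← hb, hc]
    ring
  have hch := x.aeval_self_charpoly
  rw [hp] at hch
  simp only [map_add, map_sub, map_mul, map_pow, aeval_X, aeval_C, map_one] at hch
  rw [show x ^ 3 = x by rw [pow_succ, pow_two, hx, Matrix.one_mul], show x ^ 2 = 1 by rw [pow_two, hx],
    Matrix.mul_one, Algebra.algebraMap_eq_smul_one, Algebra.algebraMap_eq_smul_one, Matrix.smul_mul, Matrix.one_mul] at hch
  have hrel : (1 + b) • x = (1 - a) • (1 : Matrix (Fin 3) (Fin 3) F) := by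
    rw [← sub_eq_zero]
    refine Eq.trans ?_ hch
    module
  have hb1 : 1 + b = 0 := by
    by_contra h
    refine hns ((1 + b)⁻¹ * (1 - a)) ?_
    rw [mul_smul, ← hrel, smul_smul, inv_mul_cancel₀ h, one_smul]
  have ha1 : 1 - a = 0 := by
    rw [hb1, zero_smul] at hrel
    exact (smul_eq_zero.1 hrel.symm).resolve_right one_ne_zero
  rw [hp, show a = 1 by linear_combination -ha1, show b = -1 by linear_combination hb1]
  simp
  ring

/-- A non-scalar involution of determinant one is conjugate to minus a transposition. -/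
theorem isConj_negSwap [Finite F] (h2 : (2 : F) ≠ 0) {x : GL (Fin 3) F} (hx : x * x = 1)
    (hd : (x : Matrix (Fin 3) (Fin 3) F).det = 1) (hns : ¬ Sc x) : IsConj negSwap x := by
  have hs : (negSwap : GL (Fin 3) F) * negSwap = 1 := Units.ext negSwap.val_inv
  have hord : ∀ y : GL (Fin 3) F, y * y = 1 → ((orderOf y : ℕ) : F) ≠ 0 := fun y hy h => by
    rcases (Nat.dvd_prime Nat.prime_two).1 (orderOf_dvd_of_pow_eq_one (pow_two y ▸ hy)) with e | e <;> rw [e] at h
    · exact (one_ne_zero (α := F)) (by simpa using h)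
    · exact h2 (by simpa using h)
  refine GLSemisimpleClasses.isConj_of_charpoly_eq (hord _ hs) (hord _ hx) ?_
  rw [charpoly_involution (congrArg Units.val hx) hd fun z hz => hns ⟨z, hz⟩,
    charpoly_involution (congrArg Units.val hs) ?_ fun z hz => ?_]
  · simp [negSwap, Matrix.det_fin_three]
  · have e := congrFun (congrFun hz 1) 2
    simp [negSwap] at e

end Cfsg.Agent.Classical.HeisenbergThree
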