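import Cfsg.Agent.Lib.Classical.InvariantCharpoly

/-!
The Möbius function of the lattice of invariant subspaces of a semisimple operator on a finite
vector space, computed by Weisner's identity.
-/

set_option autoImplicit false
set_option linter.unusedSectionVars false

namespace Cfsg.Agent.InvMobius

open Polynomial Module

universe u

variable {F : Type u} [Field F] [Fintype F] {V : Type u} [AddCommGroup V] [Module F V] [FiniteDimensional F V]
  (e : Module.End F V)

/-- Invariance under `e`. -/
def Inv (W : Submodule F V) : Prop := ∀ v ∈ W, e v ∈ W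

theorem inv_top : Inv e ⊤ := fun _ _ => trivial

theorem inv_bot : Inv e ⊥ := fun v hv => by simp [(Submodule.mem_bot F).1 hv]

theorem Inv.inf {e : Module.End F V} {U W : Submodule F V} (hU : Inv e U) (hW : Inv e W) : Inv e (U ⊓ W) :=
  fun v hv => ⟨hU v hv.1, hW v hv.2⟩

theorem Inv.sup {e : Module.End F V} {U W : Submodule F V} (hU : Inv e U) (hW : Inv e W) : Inv e (U ⊔ W) := by
  intro v hv
  obtain ⟨a, ha, b, hb, rfl⟩ := Submodule.mem_sup.1 hv
  rw [map_add]
  exact add_mem (Submodule.mem_sup_left (hU a ha)) (Submodule.mem_sup_right (hW b hb))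

theorem Inv.aeval_mem {e : Module.End F V} {W : Submodule F V} (hW : Inv e W) (P : F[X]) :
    ∀ v ∈ W, aeval e P v ∈ W := by
  induction P using Polynomial.induction_on' with
  | add p q hp hq => intro v hv; rw [map_add, LinearMap.add_apply]; exact add_mem (hp v hv) (hq v hv)
  | monomial k c =>
    intro v hv
    rw [aeval_monomial, Module.End.mul_apply, Module.algebraMap_end_apply]
    refine W.smul_mem _ ?_
    induction k generalizing v with
    | zero => simpa using hv
    | succ k ih => rw [pow_succ, Module.End.mul_apply]; exact ih _ (hW v hv)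

open Classical in
/-- The invariant subspaces. -/
noncomputable def invs : Finset (Submodule F V) :=
  haveI : Finite V := Module.finite_of_finite F
  haveI : Finite (Submodule F V) := Finite.of_injective (fun W => (W : Set V)) SetLike.coe_injective
  haveI := Fintype.ofFinite (Submodule F V)
  Finset.univ.filter (Inv e)

theorem mem_invs {W : Submodule F V} : W ∈ invs e ↔ Inv e W := by
  classical
  simp [invs]

open Classical in
/-- The Möbius function of the lattice, read downwards from the top. -/
noncomputable def mu (U : Submodule F V) : ℤ :=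
  if U = ⊤ then 1 else -∑ W ∈ ((invs e).filter fun W => U < W).attach, mu W.1
termination_by finrank F V - finrank F U
decreasing_by
  have h := (Finset.mem_filter.1 W.2).2
  have := Submodule.finrank_lt_finrank_of_lt h
  have := Submodule.finrank_le W.1
  omega

theorem mu_top : mu e ⊤ = 1 := by rw [mu, if_pos rfl]

open Classical in
theorem mu_eq {U : Submodule F V} (hU : U ≠ ⊤) : mu e U = -∑ W ∈ (invs e).filter (fun W => U < W), mu e W := by
  rw [mu, if_neg hU, Finset.sum_attach _ (fun W => mu e W)]

open Classical in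
theorem sum_mu {U : Submodule F V} (hUi : Inv e U) (hU : U ≠ ⊤) :
    ∑ W ∈ (invs e).filter (fun W => U ≤ W), mu e W = 0 := by
  have hs : (invs e).filter (fun W => U ≤ W) = insert U ((invs e).filter fun W => U < W) := by
    ext W
    simp only [Finset.mem_filter, Finset.mem_insert, mem_invs]
    constructor
    · rintro ⟨hW, h⟩
      rcases h.lt_or_eq with h | h
      · exact Or.inr ⟨hW, h⟩
      · exact Or.inl h.symm
    · rintro (rfl | ⟨hW, h⟩)
      · exact ⟨hUi, le_rfl⟩
      · exact ⟨hW, h.le⟩
  rw [hs, Finset.sum_insert (by simp), mu_eq e hU, neg_add_cancel]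

open Classical in
/-- Weisner's identity. -/
theorem weisner {A : Submodule F V} (hA : Inv e A) (hA1 : A ≠ ⊤) {T : Submodule F V} (hT : Inv e T)
    (hTA : T ≤ A) : ∑ W ∈ (invs e).filter (fun W => W ⊓ A = T), mu e W = 0 := by
  induction h : finrank F V - finrank F T using Nat.strong_induction_on generalizing T with
  | _ k ih =>
    have hT1 : T ≠ ⊤ := fun hh => hA1 (top_le_iff.1 (hh ▸ hTA))
    have hall := sum_mu e hT hT1
    rw [← Finset.sum_fiberwise_of_maps_to (t := (invs e).filter (fun T' => T ≤ T' ∧ T' ≤ A)) (g := fun W => W ⊓ A)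
      (fun W hW => by
        simp only [Finset.mem_filter, mem_invs] at hW ⊢
        exact ⟨hW.1.inf hA, le_inf hW.2 hTA, inf_le_right⟩)] at hall
    have hfib : ∀ T' ∈ (invs e).filter (fun T' => T ≤ T' ∧ T' ≤ A),
        ((invs e).filter (fun W => T ≤ W)).filter (fun W => W ⊓ A = T') = (invs e).filter (fun W => W ⊓ A = T') := by
      intro T' hT'
      simp only [Finset.mem_filter, mem_invs] at hT'
      ext W
      simp only [Finset.mem_filter, mem_invs]
      exact ⟨fun hh => ⟨hh.1.1, hh.2⟩, fun hh => ⟨⟨hh.1, hT'.2.1.trans (hh.2 ▸ inf_le_left)⟩, hh.2⟩⟩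
    rw [Finset.sum_congr rfl (fun T' hT' => by rw [hfib T' hT'])] at hall
    rw [Finset.sum_eq_single T] at hall
    · exact hall
    · intro T' hT' hne
      simp only [Finset.mem_filter, mem_invs] at hT'
      refine ih _ ?_ hT'.1 hT'.2.2 rfl
      have := Submodule.finrank_lt_finrank_of_lt (lt_of_le_of_ne hT'.2.1 (Ne.symm hne))
      have := Submodule.finrank_le T'
      omega
    · exact fun hn => absurd (by simp [mem_invs, hT, hTA]) hn

/-- The kernel of a polynomial in `e`. -/
noncomputable abbrev K (f : F[X]) : Submodule F V := LinearMap.ker (aeval e f)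

theorem inv_K (f : F[X]) : Inv e (K e f) := fun v hv => by
  rw [LinearMap.mem_ker] at hv ⊢
  have h : aeval e f (e v) = e (aeval e f v) := by
    rw [← Module.End.mul_apply, ← Module.End.mul_apply]
    congr 1
    have := congrArg (aeval e) (mul_comm f X)
    rwa [map_mul, map_mul, aeval_X] at this
  rw [h, hv, map_zero]

theorem finrank_inf_ker_mul {U : Submodule F V} (hU : Inv e U) {f g : F[X]} (hfg : IsCoprime f g) :
    finrank F ↥(U ⊓ K e (f * g)) = finrank F ↥(U ⊓ K e f) + finrank F ↥(U ⊓ K e g) := by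
  obtain ⟨a, b, hab⟩ := hfg
  have key : ∀ v : V, aeval e a (aeval e f v) + aeval e b (aeval e g v) = v := fun v => by
    have := congrArg (fun P => aeval e P v) hab
    simpa using this
  have hdisj : (U ⊓ K e f) ⊓ (U ⊓ K e g) = ⊥ := by
    refine (Submodule.eq_bot_iff _).2 fun v hv => ?_
    simp only [Submodule.mem_inf, LinearMap.mem_ker] at hv
    rw [← key v, hv.1.2, hv.2.2, map_zero, map_zero, add_zero]
  have hsup : (U ⊓ K e f) ⊔ (U ⊓ K e g) = U ⊓ K e (f * g) := by
    refine le_antisymm (sup_le (fun v hv => ⟨hv.1, ?_⟩) fun v hv => ⟨hv.1, ?_⟩) fun v hv => ?_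
    · show aeval e (f * g) v = 0
      rw [mul_comm f g, map_mul, Module.End.mul_apply, show aeval e f v = 0 from hv.2, map_zero]
    · show aeval e (f * g) v = 0
      rw [map_mul, Module.End.mul_apply, show aeval e g v = 0 from hv.2, map_zero]
    · have h0 : aeval e (f * g) v = 0 := hv.2
      refine Submodule.mem_sup.2 ⟨aeval e (b * g) v, ⟨hU.aeval_mem _ v hv.1, ?_⟩, aeval e (a * f) v,
        ⟨hU.aeval_mem _ v hv.1, ?_⟩, ?_⟩
      · show aeval e f (aeval e (b * g) v) = 0
        rw [← Module.End.mul_apply, ← map_mul, show f * (b * g) = b * (f * g) by ring, map_mul, Module.End.mul_apply,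
          h0, map_zero]
      · show aeval e g (aeval e (a * f) v) = 0
        rw [← Module.End.mul_apply, ← map_mul, show g * (a * f) = a * (f * g) by ring, map_mul, Module.End.mul_apply,
          h0, map_zero]
      · rw [add_comm, map_mul, map_mul, Module.End.mul_apply, Module.End.mul_apply, key]
  have h := Submodule.finrank_sup_add_finrank_inf_eq (U ⊓ K e f) (U ⊓ K e g)
  rw [hdisj, hsup, finrank_bot, add_zero] at h
  exact h

/-- The distinct irreducible factors of a separable annihilator. -/
structure Split (S : Finset F[X]) : Prop where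
  monic : ∀ f ∈ S, f.Monic
  irr : ∀ f ∈ S, Irreducible f
  kills : aeval e (∏ f ∈ S, f) = 0

variable {e} {S : Finset F[X]}

theorem Split.coprime (hS : Split e S) {f g : F[X]} (hf : f ∈ S) (hg : g ∈ S) (h : f ≠ g) : IsCoprime f g :=
  (hS.irr f hf).coprime_iff_not_dvd.2 fun hd => h (eq_of_monic_of_associated (hS.monic f hf) (hS.monic g hg)
    ((hS.irr f hf).associated_of_dvd (hS.irr g hg) hd))

theorem Split.sum_finrank (hS : Split e S) {U : Submodule F V} (hU : Inv e U) :
    ∑ f ∈ S, finrank F ↥(U ⊓ K e f) = finrank F U := by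
  classical
  suffices ∀ T ⊆ S, ∑ f ∈ T, finrank F ↥(U ⊓ K e f) = finrank F ↥(U ⊓ K e (∏ f ∈ T, f)) by
    rw [this S subset_rfl, show K e (∏ f ∈ S, f) = ⊤ by rw [K, hS.kills, LinearMap.ker_zero], inf_top_eq]
  intro T
  induction T using Finset.induction_on with
  | empty =>
    intro _
    rw [Finset.sum_empty, Finset.prod_empty, show U ⊓ K e 1 = ⊥ from
      (Submodule.eq_bot_iff _).2 fun v hv => by simpa [K, LinearMap.mem_ker] using hv.2, finrank_bot]
  | @insert f T hf ih =>
    intro hT
    rw [Finset.sum_insert hf, Finset.prod_insert hf, ih fun x hx => hT (Finset.mem_insert_of_mem hx),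
      finrank_inf_ker_mul e hU (IsCoprime.prod_right fun g hg => hS.coprime (hT (Finset.mem_insert_self _ _))
        (hT (Finset.mem_insert_of_mem hg)) fun h => hf (h ▸ hg))]

theorem dvd_finrank {f : F[X]} (hm : f.Monic) (hirr : Irreducible f) {U : Submodule F V} (hU : Inv e U)
    (hUf : U ≤ K e f) :
    ∃ m, finrank F U = m * f.natDegree ∧ f ^ m ∣ LinearMap.charpoly e := by
  classical
  have hU' : U ≤ U.comap e := fun v hv => hU v hv
  set P := (e.restrict hU').charpoly with hP
  have hPm : P.Monic := LinearMap.charpoly_monic _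
  have hdeg : P.natDegree = finrank F U := LinearMap.charpoly_natDegree _
  have hall : ∀ g ∈ UniqueFactorizationMonoid.normalizedFactors P, g = f := by
    intro g hg
    have hgirr := UniqueFactorizationMonoid.irreducible_of_normalized_factor g hg
    have hgm : g.Monic := by
      rw [← UniqueFactorizationMonoid.normalize_normalized_factor g hg]; exact monic_normalize hgirr.ne_zero
    obtain ⟨W, hW, hWc⟩ := Cfsg.Agent.InvCharpoly.exists_cyclic (e.restrict hU') hgm hgirr
      (UniqueFactorizationMonoid.dvd_of_mem_normalizedFactors hg)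
    have hpos : 0 < finrank F W := by
      rw [← LinearMap.charpoly_natDegree ((e.restrict hU').restrict hW), hWc]; exact hgirr.natDegree_pos
    obtain ⟨w, hw, hw0⟩ := (Submodule.ne_bot_iff W).1 fun h => by rw [h, finrank_bot] at hpos; omega
    have hgw : aeval e g (w : V) = 0 := by
      have h1 : aeval ((e.restrict hU').restrict hW) g = 0 := by rw [← hWc]; exact LinearMap.aeval_self_charpoly _
      have key : ∀ (q : F[X]) (x : W), (((aeval ((e.restrict hU').restrict hW) q x : W) : U) : V) = aeval e q ((x : U) : V) := by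
        intro q
        induction q using Polynomial.induction_on' with
        | add a b ha hb => intro x; simp [ha x, hb x]
        | monomial k c =>
          intro x
          simp only [aeval_monomial, Module.End.mul_apply, Module.algebraMap_end_apply, Submodule.coe_smul]
          congr 1
          induction k generalizing x with
          | zero => simp
          | succ k ih => rw [pow_succ, pow_succ, Module.End.mul_apply, Module.End.mul_apply, ih]; rfl
      have := key g ⟨w, hw⟩
      rw [h1] at this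
      simpa using this.symm
    by_contra hne
    obtain ⟨a, b, hab⟩ := (hgirr.coprime_iff_not_dvd (n := f)).2 fun hd => hne (eq_of_monic_of_associated hgm hm
      (hgirr.associated_of_dvd hirr hd))
    refine hw0 (Subtype.ext ?_)
    have := congrArg (fun Q => aeval e Q (w : V)) hab
    simp only [map_add, map_mul, map_one, LinearMap.add_apply, Module.End.mul_apply, Module.End.one_apply, hgw,
      show aeval e f (w : V) = 0 from hUf w.2, map_zero, add_zero] at this
    exact this.symm
  have hrep : UniqueFactorizationMonoid.normalizedFactors P =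
      Multiset.replicate (Multiset.card (UniqueFactorizationMonoid.normalizedFactors P)) f :=
    Multiset.eq_replicate_card.2 hall
  have hPf : P = f ^ Multiset.card (UniqueFactorizationMonoid.normalizedFactors P) := by
    conv_lhs => rw [← hPm.normalize_eq_self, ← UniqueFactorizationMonoid.prod_normalizedFactors_eq hPm.ne_zero,
      hrep, Multiset.prod_replicate]
  refine ⟨_, by rw [← hdeg]; conv_lhs => rw [hPf, natDegree_pow], ?_⟩
  rw [← hPf]
  exact Cfsg.Agent.InvCharpoly.charpoly_restrict_dvd_self hU'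

/-- The cyclic subspace of a vector killed by `f`. -/
theorem exists_cyc {f : F[X]} (hm : f.Monic) (hirr : Irreducible f) {A : Submodule F V} (hA : Inv e A) {v : V}
    (hv : aeval e f v = 0) (hvA : v ∉ A) :
    ∃ C : Submodule F V, Inv e C ∧ v ∈ C ∧ C ≤ K e f ∧ C ⊓ A = ⊥ ∧ finrank F C = f.natDegree ∧
      ∀ W, Inv e W → v ∈ W → C ≤ W := by
  let φ : degreeLT F f.natDegree →ₗ[F] V :=
    { toFun := fun P => aeval e (P : F[X]) v
      map_add' := fun P Q => by simp
      map_smul' := fun c P => by simp }
  have hmem : ∀ P : F[X], aeval e P v ∈ LinearMap.range φ := by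
    intro P
    refine ⟨⟨P %ₘ f, mem_degreeLT.2 ((degree_modByMonic_lt P hm).trans_le degree_le_natDegree)⟩, ?_⟩
    show aeval e (P %ₘ f) v = aeval e P v
    conv_rhs => rw [← modByMonic_add_div P f, mul_comm f, map_add, map_mul, LinearMap.add_apply,
      Module.End.mul_apply, hv, map_zero, add_zero]
  have hv0 : v ≠ 0 := fun h => hvA (h ▸ zero_mem A)
  have hcop : ∀ P : degreeLT F f.natDegree, (P : F[X]) ≠ 0 → ∃ a : F[X], aeval e a (aeval e (P : F[X]) v) = v := by
    intro P hP
    obtain ⟨a, b, hab⟩ := hirr.coprime_iff_not_dvd.2 fun hd => hP (Polynomial.eq_zero_of_dvd_of_degree_lt hd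
      ((mem_degreeLT.1 P.2).trans_le (by rw [degree_eq_natDegree hm.ne_zero])))
    refine ⟨b, ?_⟩
    have := congrArg (fun Q => aeval e Q v) hab
    simpa [hv] using this
  have hinj : Function.Injective φ := by
    rw [← LinearMap.ker_eq_bot, Submodule.eq_bot_iff]
    intro P hP
    by_contra hne
    obtain ⟨a, ha⟩ := hcop P fun h => hne (Subtype.ext h)
    rw [show aeval e (P : F[X]) v = 0 from hP, map_zero] at ha
    exact hv0 ha.symm
  refine ⟨LinearMap.range φ, ?_, by simpa using hmem 1, ?_, ?_, ?_, fun W hW hvW => ?_⟩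
  · rintro _ ⟨P, rfl⟩
    have := hmem (X * (P : F[X]))
    rwa [map_mul, aeval_X, Module.End.mul_apply] at this
  · rintro _ ⟨P, rfl⟩
    show aeval e f (aeval e (P : F[X]) v) = 0
    rw [← Module.End.mul_apply, ← map_mul, mul_comm, map_mul, Module.End.mul_apply, hv, map_zero]
  · refine (Submodule.eq_bot_iff _).2 ?_
    rintro w ⟨⟨P, rfl⟩, hwA⟩
    by_contra hne
    obtain ⟨a, ha⟩ := hcop P fun h => hne (by show aeval e (P : F[X]) v = 0; rw [h, map_zero, LinearMap.zero_apply])
    exact hvA (ha ▸ hA.aeval_mem a _ hwA)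
  · rw [LinearMap.finrank_range_of_inj hinj, finrank_eq_card_basis (degreeLT.basis F f.natDegree), Fintype.card_fin]
  · rintro _ ⟨P, rfl⟩
    exact hW.aeval_mem _ v hvW

/-- The multiplicity of `f` above `U`. -/
noncomputable def mult (e : Module.End F V) (U : Submodule F V) (f : F[X]) : ℕ :=
  (finrank F (K e f) - finrank F ↥(U ⊓ K e f)) / f.natDegree

/-- The value of the Möbius function. -/
noncomputable def val (e : Module.End F V) (S : Finset F[X]) (U : Submodule F V) : ℤ :=
  ∏ f ∈ S, (-1) ^ mult e U f * ((Fintype.card F : ℤ) ^ f.natDegree) ^ (mult e U f).choose 2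

open Classical in
theorem mu_eq_val (hS : Split e S) : ∀ U : Submodule F V, Inv e U → mu e U = val e S U := by
  intro U
  induction h : finrank F V - finrank F U using Nat.strong_induction_on generalizing U with
  | _ k ih =>
  intro hU
  have htop : ∀ X : Submodule F V, finrank F ↥((⊤ : Submodule F V) ⊓ X) = finrank F X := fun X => by rw [top_inf_eq]
  have hVsum : ∑ g ∈ S, finrank F (K e g) = finrank F V := by
    rw [← finrank_top F V, ← hS.sum_finrank (inv_top e)]
    exact Finset.sum_congr rfl fun g _ => (htop _).symm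
  by_cases hU1 : U = ⊤
  · subst hU1
    rw [mu_top, val]
    refine (Finset.prod_eq_one fun f _ => ?_).symm
    simp [mult, htop]
  obtain ⟨f, hf, hfU⟩ : ∃ f ∈ S, ¬ K e f ≤ U := by
    by_contra hcon
    push_neg at hcon
    refine hU1 (Submodule.eq_top_of_finrank_eq ?_)
    rw [← hS.sum_finrank hU, ← hVsum]
    exact Finset.sum_congr rfl fun f hf => by rw [inf_eq_right.2 (hcon f hf)]
  set d := f.natDegree
  have hd : 0 < d := (hS.irr f hf).natDegree_pos
  -- a maximal invariant subspace not containing `K f`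
  set B : Submodule F V := U ⊔ (S.erase f).sup (K e)
  have hBi : Inv e B := by
    refine hU.sup ?_
    induction (S.erase f) using Finset.induction_on with
    | empty => simpa using inv_bot e
    | @insert g T _ iT => rw [Finset.sup_insert]; exact (inv_K e g).sup iT
  have hBle : ∀ g ∈ S, g ≠ f → K e g ≤ B := fun g hg hgf =>
    le_sup_of_le_right (Finset.le_sup (Finset.mem_erase.2 ⟨hgf, hg⟩))
  have hBf : ¬ K e f ≤ B := by
    intro hle
    refine hfU fun v hv => ?_
    obtain ⟨a, ha, b, hb, hab⟩ := Submodule.mem_sup.1 (hle hv)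
    set g := ∏ g ∈ S.erase f, g
    have hg : aeval e g b = 0 := by
      have : (S.erase f).sup (K e) ≤ K e g := Finset.sup_le fun g' hg' w hw => by
        show aeval e g w = 0
        rw [show g = (∏ x ∈ (S.erase f).erase g', x) * g' from (Finset.prod_erase_mul _ _ hg').symm, map_mul,
          Module.End.mul_apply, show aeval e g' w = 0 from hw, map_zero]
      exact this hb
    obtain ⟨c, c', hcc⟩ := (IsCoprime.prod_right fun g' hg' => hS.coprime hf (Finset.mem_of_mem_erase hg')
      (Finset.ne_of_mem_erase hg').symm : IsCoprime f g)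
    have hv' := congrArg (fun Q => aeval e Q v) hcc
    simp only [map_add, map_mul, map_one, LinearMap.add_apply, Module.End.mul_apply, Module.End.one_apply,
      show aeval e f v = 0 from hv, map_zero, zero_add] at hv'
    rw [← hv', ← hab, map_add, hg, add_zero, ← Module.End.mul_apply, ← map_mul]
    exact hU.aeval_mem _ a ha
  obtain ⟨A, hAmem, hAmax⟩ : ∃ A ∈ (invs e).filter (fun A => B ≤ A ∧ ¬ K e f ≤ A),
      ∀ A' ∈ (invs e).filter (fun A => B ≤ A ∧ ¬ K e f ≤ A), finrank F A' ≤ finrank F A :=
    Finset.exists_max_image _ _ ⟨B, by simp [mem_invs, hBi, hBf]⟩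
  simp only [Finset.mem_filter, mem_invs] at hAmem hAmax
  obtain ⟨hA, hBA, hfA⟩ := hAmem
  have hUA : U ≤ A := le_sup_left.trans hBA
  have hA1 : A ≠ ⊤ := fun hh => hfA (hh ▸ le_top)
  have hsup : ∀ W, Inv e W → ¬ W ≤ A → A ⊔ W = ⊤ := by
    intro W hW hWA
    have hlt : A < A ⊔ W := lt_of_le_of_ne le_sup_left fun hh => hWA (hh ▸ le_sup_right)
    have hKle : K e f ≤ A ⊔ W := by
      by_contra hK
      have := hAmax (A ⊔ W) ⟨hA.sup hW, hBA.trans le_sup_left, hK⟩
      have := Submodule.finrank_lt_finrank_of_lt hlt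
      omega
    refine Submodule.eq_top_of_finrank_eq ?_
    rw [← hS.sum_finrank (hA.sup hW), ← hVsum]
    refine Finset.sum_congr rfl fun g hg => ?_
    rw [inf_eq_right.2]
    rcases eq_or_ne g f with rfl | hgf
    · exact hKle
    · exact (hBle g hg hgf).trans (hBA.trans le_sup_left)
  obtain ⟨v₀, hv₀, hv₀A⟩ := SetLike.not_le_iff_exists.1 hfA
  obtain ⟨C₀, hC₀, hC₀v, -, hC₀A, hC₀d, -⟩ := exists_cyc (hS.monic f hf) (hS.irr f hf) hA hv₀ hv₀A
  have hdimA : finrank F V = finrank F A + d := by
    have h1 := Submodule.finrank_sup_add_finrank_inf_eq A C₀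
    rw [hsup C₀ hC₀ fun hh => hv₀A (hh hC₀v), inf_comm, hC₀A, finrank_top, finrank_bot, add_zero, hC₀d] at h1
    exact h1
  -- the covers of `U` outside `A`
  set T := (invs e).filter (fun W => W ⊓ A = U ∧ W ≠ U) with hT
  have hstep : mu e U = -∑ W ∈ T, mu e W := by
    have h0 := weisner e hA hA1 hU hUA
    have hs : (invs e).filter (fun W => W ⊓ A = U) = insert U T := by
      ext W
      simp only [hT, Finset.mem_filter, Finset.mem_insert, mem_invs]
      constructor
      · rintro ⟨hW, hWU⟩
        by_cases hh : W = U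
        · exact Or.inl hh
        · exact Or.inr ⟨hW, hWU, hh⟩
      · rintro (rfl | ⟨hW, hWU, -⟩)
        · exact ⟨hU, inf_eq_left.2 hUA⟩
        · exact ⟨hW, hWU⟩
    rw [hs, Finset.sum_insert (by simp [hT])] at h0
    linarith
  have hTspec : ∀ W ∈ T, Inv e W ∧ W ⊓ A = U ∧ U ≤ W ∧ ¬ W ≤ A ∧ finrank F W = finrank F U + d := by
    intro W hW
    simp only [hT, Finset.mem_filter, mem_invs] at hW
    obtain ⟨hWi, hWA, hWU⟩ := hW
    have hnle : ¬ W ≤ A := fun hh => hWU (by rw [← hWA, inf_eq_left.2 hh])
    refine ⟨hWi, hWA, hWA ▸ inf_le_left, hnle, ?_⟩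
    have h1 := Submodule.finrank_sup_add_finrank_inf_eq A W
    rw [hsup W hWi hnle, inf_comm, hWA, finrank_top, hdimA] at h1
    omega
  have hWK : ∀ W ∈ T, (∀ g ∈ S, g ≠ f → W ⊓ K e g = U ⊓ K e g) ∧
      finrank F ↥(W ⊓ K e f) = finrank F ↥(U ⊓ K e f) + d := by
    intro W hW
    obtain ⟨hWi, hWA, hUW, -, hWd⟩ := hTspec W hW
    have h1 : ∀ g ∈ S, g ≠ f → W ⊓ K e g = U ⊓ K e g := fun g hg hgf => le_antisymm
      (le_inf (hWA ▸ le_inf inf_le_left (inf_le_right.trans ((hBle g hg hgf).trans hBA))) inf_le_right)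
      (inf_le_inf_right _ hUW)
    refine ⟨h1, ?_⟩
    have hsW := hS.sum_finrank hWi
    have hsU := hS.sum_finrank hU
    rw [← Finset.add_sum_erase _ _ hf] at hsW hsU
    rw [Finset.sum_congr rfl fun g hg => by rw [h1 g (Finset.mem_of_mem_erase hg) (Finset.ne_of_mem_erase hg)]] at hsW
    omega
  obtain ⟨mK, hmK, -⟩ := dvd_finrank (hS.monic f hf) (hS.irr f hf) (inv_K e f) le_rfl
  obtain ⟨mU, hmU, -⟩ := dvd_finrank (hS.monic f hf) (hS.irr f hf) (hU.inf (inv_K e f)) inf_le_right
  have hlt : mU < mK := by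
    have : finrank F ↥(U ⊓ K e f) < finrank F (K e f) :=
      Submodule.finrank_lt_finrank_of_lt (lt_of_le_of_ne inf_le_right fun hh => hfU (inf_eq_right.1 hh))
    rw [hmU, hmK] at this
    exact Nat.lt_of_mul_lt_mul_right this
  have hmult : mult e U f = mK - mU := by
    rw [mult, hmU, hmK, ← Nat.sub_mul, Nat.mul_div_cancel _ hd]
  have hval : ∀ W ∈ T, val e S W * ((-1) * ((Fintype.card F : ℤ) ^ d) ^ (mult e U f - 1)) = val e S U := by
    intro W hW
    obtain ⟨h1, h2⟩ := hWK W hW
    rw [val, val, ← Finset.mul_prod_erase _ _ hf, ← Finset.mul_prod_erase _ _ hf]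
    have hmW : mult e W f = mult e U f - 1 := by
      rw [hmult, mult, h2, hmU, hmK]
      have : mK * d - (mU * d + d) = (mK - mU - 1) * d := by
        rw [Nat.sub_mul, Nat.sub_mul, one_mul, Nat.sub_add_eq]
      rw [this, Nat.mul_div_cancel _ hd]
    rw [Finset.prod_congr rfl fun g hg => by
      rw [show mult e W g = mult e U g by rw [mult, mult, h1 g (Finset.mem_of_mem_erase hg) (Finset.ne_of_mem_erase hg)]]]
    obtain ⟨m, hm⟩ : ∃ m, mult e U f = m + 1 := ⟨mult e U f - 1, by omega⟩
    rw [hmW, hm, Nat.add_sub_cancel, Nat.choose_succ_succ' m 1, Nat.choose_one_right, pow_add, pow_succ]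
    ring
  -- counting the covers
  haveI : Finite V := Module.finite_of_finite F
  haveI := Fintype.ofFinite V
  have hcardS : ∀ W : Submodule F V, (Finset.univ.filter (· ∈ W)).card = Fintype.card F ^ finrank F W := fun W => by
    rw [← Fintype.card_subtype]
    exact Module.card_eq_pow_finrank
  set P := (Finset.univ : Finset V).filter (fun v => v ∈ K e f ∧ v ∉ A) with hP
  have hfibre : ∀ W ∈ T, (P.filter fun v => v ∈ W).card =
      Fintype.card F ^ finrank F ↥(U ⊓ K e f) * (Fintype.card F ^ d - 1) := by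
    intro W hW
    obtain ⟨hWi, hWA, hUW, -, -⟩ := hTspec W hW
    have : P.filter (fun v => v ∈ W) =
        (Finset.univ.filter (· ∈ W ⊓ K e f)) \ (Finset.univ.filter (· ∈ U ⊓ K e f)) := by
      ext v
      simp only [hP, Finset.mem_filter, Finset.mem_sdiff, Finset.mem_univ, true_and, Submodule.mem_inf]
      constructor
      · rintro ⟨⟨hvK, hvA⟩, hvW⟩
        exact ⟨⟨hvW, hvK⟩, fun hh => hvA (hUA hh.1)⟩
      · rintro ⟨⟨hvW, hvK⟩, hnU⟩
        exact ⟨⟨hvK, fun hvA => hnU ⟨hWA ▸ ⟨hvW, hvA⟩, hvK⟩⟩, hvW⟩
    rw [this, Finset.card_sdiff_of_subset (fun v hv => by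
        simp only [Finset.mem_filter, Finset.mem_univ, true_and, Submodule.mem_inf] at hv ⊢
        exact ⟨hUW hv.1, hv.2⟩),
      hcardS, hcardS, (hWK W hW).2, pow_add, Nat.mul_sub, mul_one]
  have hPU : ∀ v ∈ P, (T.filter fun W => v ∈ W).card = 1 := by
    intro v hv
    simp only [hP, Finset.mem_filter, Finset.mem_univ, true_and] at hv
    obtain ⟨C, hC, hCv, hCK, hCA, hCd, hCmin⟩ := exists_cyc (hS.monic f hf) (hS.irr f hf) hA hv.1 hv.2
    have hmem : U ⊔ C ∈ T := by
      simp only [hT, Finset.mem_filter, mem_invs]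
      refine ⟨hU.sup hC, ?_, fun hh => hv.2 (hUA (hh ▸ Submodule.mem_sup_right hCv))⟩
      rw [sup_inf_assoc_of_le C hUA, hCA, sup_bot_eq]
    refine Finset.card_eq_one.2 ⟨U ⊔ C, ?_⟩
    ext W
    simp only [Finset.mem_filter, Finset.mem_singleton]
    refine ⟨fun ⟨hW, hvW⟩ => ?_, fun hh => hh ▸ ⟨hmem, Submodule.mem_sup_right hCv⟩⟩
    obtain ⟨hWi, -, hUW, -, hWd⟩ := hTspec W hW
    refine (Submodule.eq_of_le_of_finrank_eq (sup_le hUW (hCmin W hWi hvW)) ?_).symm
    rw [(hTspec _ hmem).2.2.2.2, hWd]
  have hcount : T.card * (Fintype.card F ^ finrank F ↥(U ⊓ K e f) * (Fintype.card F ^ d - 1)) = P.card := by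
    have h1 := Finset.sum_card_bipartiteAbove_eq_sum_card_bipartiteBelow (r := fun (W : Submodule F V) (v : V) => v ∈ W)
      (s := T) (t := P)
    simp only [Finset.bipartiteAbove, Finset.bipartiteBelow] at h1
    rw [Finset.sum_congr rfl hfibre, Finset.sum_congr rfl hPU] at h1
    simpa using h1
  have hPcard : P.card = Fintype.card F ^ ((mult e U f - 1) * d) *
      (Fintype.card F ^ finrank F ↥(U ⊓ K e f) * (Fintype.card F ^ d - 1)) := by
    have hAK : finrank F ↥(A ⊓ K e f) + d = finrank F (K e f) := by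
      have hsA := hS.sum_finrank hA
      rw [← Finset.add_sum_erase _ _ hf] at hsA
      have hV := hVsum
      rw [← Finset.add_sum_erase _ _ hf] at hV
      rw [Finset.sum_congr rfl fun g hg => by
        rw [inf_eq_right.2 ((hBle g (Finset.mem_of_mem_erase hg) (Finset.ne_of_mem_erase hg)).trans hBA)]] at hsA
      omega
    have : P = (Finset.univ.filter (· ∈ K e f)) \ (Finset.univ.filter (· ∈ A ⊓ K e f)) := by
      ext v
      simp only [hP, Finset.mem_filter, Finset.mem_sdiff, Finset.mem_univ, true_and, Submodule.mem_inf]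
      tauto
    rw [this, Finset.card_sdiff_of_subset (fun v hv => by
        simp only [Finset.mem_filter, Finset.mem_univ, true_and, Submodule.mem_inf] at hv ⊢
        exact hv.2),
      hcardS, hcardS, ← mul_assoc, ← pow_add]
    rw [← hAK, pow_add, Nat.mul_sub, mul_one]
    have hA' : finrank F ↥(A ⊓ K e f) = (mult e U f - 1) * d + finrank F ↥(U ⊓ K e f) := by
      have hd' : f.natDegree = d := rfl
      rw [hmK] at hAK
      rw [hmult, hmU, hd', ← add_mul, show mK - mU - 1 + mU = mK - 1 by omega, Nat.sub_mul, one_mul]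
      rw [hd'] at hAK
      omega
    rw [hA']
  have hTcard : T.card = Fintype.card F ^ ((mult e U f - 1) * d) := by
    rw [hPcard] at hcount
    refine Nat.eq_of_mul_eq_mul_right (Nat.mul_pos (Nat.pow_pos Fintype.card_pos) ?_) hcount
    have := Nat.one_lt_pow hd.ne' (Fintype.one_lt_card (α := F))
    omega
  obtain ⟨W₀, hW₀⟩ : T.Nonempty := Finset.card_pos.1 (hTcard ▸ Nat.pow_pos Fintype.card_pos)
  rw [hstep, ← hval W₀ hW₀, Finset.sum_congr rfl (g := fun _ => val e S W₀) fun W hW => ?_, Finset.sum_const,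
    hTcard, nsmul_eq_mul]
  · push_cast
    rw [← pow_mul, mul_comm (mult e U f - 1) d]
    ring
  · have hne : (-1 : ℤ) * ((Fintype.card F : ℤ) ^ d) ^ (mult e U f - 1) ≠ 0 :=
      mul_ne_zero (by norm_num) (pow_ne_zero _ (pow_ne_zero _ (by exact_mod_cast Fintype.card_ne_zero)))
    rw [← mul_right_cancel₀ hne ((hval W hW).trans (hval W₀ hW₀).symm)]
    refine ih _ ?_ W rfl (hTspec W hW).1
    have := (hTspec W hW).2.2.2.2
    have := Submodule.finrank_le W
    omega

end Cfsg.Agent.InvMobius
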