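import Cfsg.Agent.Lib.Classical.InvolutionDecomp

/-! An element of `SL_{2d}` squaring to a scalar splits into invariant planes of equal determinant. -/

set_option autoImplicit false

namespace Cfsg.Agent.InvolutionPairs

open Matrix Module

variable {F : Type*} [Field F]

/-- Invariant pairs of points of an involution. -/
theorem exists_point_pairs {ι : Type*} [DecidableEq ι] {τ : ι → ι} (hτ : Function.Involutive τ) :
    ∀ (k : ℕ) (S : Finset ι), (∀ i ∈ S, τ i ∈ S) → S.card = 2 * k →
      ∃ e : Fin 2 × Fin k → ι, Function.Injective e ∧ (∀ x, e x ∈ S) ∧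
        ∀ i, (τ (e (0, i)) = e (1, i) ∧ τ (e (1, i)) = e (0, i)) ∨
          (τ (e (0, i)) = e (0, i) ∧ τ (e (1, i)) = e (1, i))
  | 0, S, _, _ => ⟨fun x => x.2.elim0, fun x => x.2.elim0, fun x => x.2.elim0, fun i => i.elim0⟩
  | k + 1, S, hS, hc => by
    obtain ⟨T, hT, hTi, hTc⟩ := InvolutionDecomp.exists_inv_subset hτ 2 S hS (by omega) (Or.inl even_two)
    obtain ⟨a, b, hab, rfl⟩ := Finset.card_eq_two.1 hTc
    have hTi' : ∀ i, i ∉ ({a, b} : Finset ι) → τ i ∉ ({a, b} : Finset ι) :=
      fun i hi h => hi (by simpa [hτ i] using hTi _ h)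
    obtain ⟨e, he, hm, hp⟩ := exists_point_pairs hτ k (S \ {a, b})
      (fun i hi => Finset.mem_sdiff.2 ⟨hS i (Finset.mem_sdiff.1 hi).1, hTi' i (Finset.mem_sdiff.1 hi).2⟩)
      (by rw [Finset.card_sdiff_of_subset hT, hTc, hc]; omega)
    let f : Fin 2 × Fin (k + 1) → ι := fun x => Fin.cases (motive := fun _ => ι) (![a, b] x.1) (fun j => e (x.1, j)) x.2
    have hf0 : ∀ l, f (l, 0) = ![a, b] l := fun l => rfl
    have hfs : ∀ l j, f (l, Fin.succ j) = e (l, j) := fun l j => rfl
    have hTm : ∀ l, ![a, b] l ∈ ({a, b} : Finset ι) := fun l => by fin_cases l <;> simp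
    refine ⟨f, ?_, fun x => ?_, fun i => ?_⟩
    · rintro ⟨l, i⟩ ⟨l', i'⟩ h
      induction i using Fin.cases with
      | zero =>
        induction i' using Fin.cases with
        | zero =>
          rw [hf0, hf0] at h
          fin_cases l <;> fin_cases l' <;> first | rfl | (exfalso; simp at h; first | exact hab h | exact hab h.symm)
        | succ j => rw [hf0, hfs] at h; exact absurd (h ▸ hTm l) (Finset.mem_sdiff.1 (hm _)).2
      | succ j =>
        induction i' using Fin.cases with
        | zero => rw [hf0, hfs] at h; exact absurd (h ▸ hTm l') (Finset.mem_sdiff.1 (hm _)).2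
        | succ j' =>
          rw [hfs, hfs] at h
          have := he h
          simp only [Prod.mk.injEq] at this
          rw [this.1, this.2]
    · obtain ⟨l, i⟩ := x
      induction i using Fin.cases with
      | zero => rw [hf0]; exact hT (hTm l)
      | succ j => rw [hfs]; exact (Finset.mem_sdiff.1 (hm _)).1
    · induction i using Fin.cases with
      | zero =>
        have ha := hTi a (by simp)
        have hb := hTi b (by simp)
        simp only [Finset.mem_insert, Finset.mem_singleton] at ha hb
        rw [hf0, hf0]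
        show (τ a = b ∧ τ b = a) ∨ (τ a = a ∧ τ b = b)
        rcases ha with ha | ha
        · refine Or.inr ⟨ha, hb.resolve_left fun h => hab (hτ.injective (ha.trans h.symm))⟩
        · exact Or.inl ⟨ha, by rw [← ha, hτ a]⟩
      | succ j => simp only [hfs]; exact hp j

/-- A unit of prescribed norm. -/
theorem exists_norm [Finite F] {z d : F} (hz : z ≠ 0) : ∃ u w : F, u * u - z * (w * w) = d := by
  haveI := Fintype.ofFinite F
  obtain ⟨p, hp⟩ := CharP.exists F
  by_cases h2 : ringChar F = 2
  · obtain ⟨u, hu⟩ := FiniteField.isSquare_of_char_two h2 d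
    exact ⟨u, 0, by rw [hu]; ring⟩
  · obtain ⟨u, w, h⟩ := FiniteField.exists_root_sum_quadratic (R := F)
      (f := Polynomial.X ^ 2 - Polynomial.C d) (g := Polynomial.C (-z) * Polynomial.X ^ 2)
      (Polynomial.degree_X_pow_sub_C (by norm_num) d)
      (Polynomial.degree_C_mul_X_pow 2 (neg_ne_zero.2 hz)) (FiniteField.odd_card_of_char_ne_two h2)
    simp only [Polynomial.eval_sub, Polynomial.eval_pow, Polynomial.eval_X, Polynomial.eval_C, Polynomial.eval_mul] at h
    exact ⟨u, w, by linear_combination h⟩

/-- The planes of equal determinant, and a centraliser of every determinant. -/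
theorem exists_planes [Fintype F] {d : ℕ} (hd : 1 ≤ d) (X : Matrix (Fin 2 × Fin d) (Fin 2 × Fin d) F) {z : F}
    (hX : X * X = z • 1) (hdet : X.det = 1) (hs : (2 : F) ≠ 0 → ∀ s : F, s * s = z → s ^ (2 * d) ≠ -1) :
    ∃ (μ : F) (B : GL (Fin 2 × Fin d) F) (M : Fin d → Matrix (Fin 2) (Fin 2) F),
      X * (B : Matrix (Fin 2 × Fin d) (Fin 2 × Fin d) F) = (B : Matrix (Fin 2 × Fin d) (Fin 2 × Fin d) F) * blockDiagonal M ∧
      (∀ i, (M i).det = μ) ∧ (∀ i, M i * M i = z • 1) ∧
      ∀ c : F, ∃ C : Matrix (Fin 2 × Fin d) (Fin 2 × Fin d) F, C.det = c ∧ C * blockDiagonal M = blockDiagonal M * C := by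
  classical
  set g := Matrix.toLin' X with hgdef
  have hg : ∀ v, g (g v) = z • v := fun v => by
    rw [hgdef, Matrix.toLin'_apply, Matrix.toLin'_apply, mulVec_mulVec, hX, smul_mulVec, one_mulVec]
  have hz0 : z ≠ 0 := fun h => by
    have hh := congrArg Matrix.det hX
    rw [det_mul, hdet, h, det_smul, zero_pow (by simp; omega)] at hh
    simp at hh
  -- it is enough to give a basis of invariant planes
  suffices key : ∃ (μ : F) (b : Module.Basis (Fin 2 × Fin d) F (Fin 2 × Fin d → F))
      (M : Fin d → Matrix (Fin 2) (Fin 2) F), (∀ k i, g (b (k, i)) = ∑ l, M i l k • b (l, i)) ∧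
      (∀ i, (M i).det = μ) ∧ (∀ c : F, ∃ N : Matrix (Fin 2) (Fin 2) F, N.det = c ∧ N * M ⟨0, hd⟩ = M ⟨0, hd⟩ * N) by
    obtain ⟨μ, b, M, hb, hμ, hN⟩ := key
    let T : Matrix (Fin 2 × Fin d) (Fin 2 × Fin d) F := (Pi.basisFun F (Fin 2 × Fin d)).toMatrix b
    have hT : IsUnit T := by
      refine IsUnit.of_mul_eq_one (b := b.toMatrix (Pi.basisFun F (Fin 2 × Fin d))) ?_
      exact Module.Basis.toMatrix_mul_toMatrix_flip _ _
    have hcol : ∀ x, T *ᵥ Pi.single x 1 = b x := fun x => by
      funext y; rw [mulVec_single_one]; simp [T, Module.Basis.toMatrix_apply]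
    have hXB : X * T = T * blockDiagonal M := by
      refine Matrix.ext_of_mulVec_single fun x => ?_
      obtain ⟨k, i⟩ := x
      rw [← mulVec_mulVec, ← mulVec_mulVec, hcol, ← Matrix.toLin'_apply, ← hgdef, hb]
      have e : blockDiagonal M *ᵥ Pi.single (k, i) 1 = ∑ l, M i l k • Pi.single (l, i) (1 : F) := by
        funext ⟨l, j⟩
        rw [mulVec_single_one]
        simp only [Finset.sum_apply, Pi.smul_apply, Pi.single_apply, Prod.mk.injEq, smul_eq_mul, mul_ite, mul_one, mul_zero,
          col_apply, blockDiagonal_apply]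
        by_cases h : j = i
        · subst h; simp
        · simp [h]
      rw [e, ← Matrix.toLin'_apply T, map_sum]
      exact Finset.sum_congr rfl fun l _ => by rw [map_smul, Matrix.toLin'_apply, hcol]
    refine ⟨μ, hT.unit, M, hXB, hμ, fun i => ?_, fun c => ?_⟩
    · have h2 : blockDiagonal (fun i => M i * M i) = blockDiagonal (fun _ => z • (1 : Matrix (Fin 2) (Fin 2) F)) := by
        rw [blockDiagonal_mul, show (fun _ : Fin d => z • (1 : Matrix (Fin 2) (Fin 2) F)) = z • 1 from rfl,
          blockDiagonal_smul, blockDiagonal_one]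
        refine hT.mul_left_cancel ?_
        rw [← mul_assoc, ← hXB, mul_assoc, ← hXB, ← mul_assoc, hX, Matrix.smul_mul, Matrix.one_mul, Matrix.mul_smul,
          Matrix.mul_one]
      exact congrFun (blockDiagonal_injective h2) i
    · obtain ⟨N, hNd, hNc⟩ := hN c
      refine ⟨blockDiagonal (Function.update (fun _ => 1) ⟨0, hd⟩ N), ?_, ?_⟩
      · rw [det_blockDiagonal, Finset.prod_eq_single ⟨0, hd⟩ (fun j _ hj => by
          rw [Function.update_of_ne hj, det_one]) (by simp), Function.update_self, hNd]
      · rw [← blockDiagonal_mul, ← blockDiagonal_mul]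
        congr 1
        funext j
        by_cases hj : j = ⟨0, hd⟩
        · rw [hj, Function.update_self, hNc]
        · rw [Function.update_of_ne hj, one_mul, mul_one]
  by_cases h2 : (2 : F) = 0
  · -- characteristic two
    obtain ⟨ι, _, _, b₀, τ, hτ, hb⟩ := InvolutionDecomp.exists_monomial_basis hg
    have hι : (Finset.univ : Finset ι).card = 2 * d := by
      rw [Finset.card_univ, ← Module.finrank_eq_card_basis b₀, Module.finrank_fintype_fun_eq_card]; simp
    obtain ⟨e, he, -, hp⟩ := exists_point_pairs hτ d Finset.univ (fun _ _ => Finset.mem_univ _) hι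
    choose co hco using fun i => Submodule.mem_span_singleton.1 (hb i)
    have hmul : ∀ i, co i * co (τ i) = z := fun i => by
      have h := hg (b₀ i)
      rw [← hco i, map_smul, ← hco (τ i), hτ i, smul_smul] at h
      exact smul_left_injective F (b₀.ne_zero i) h
    let eq₀ : Fin 2 × Fin d ≃ ι := Equiv.ofBijective e
      ((Fintype.bijective_iff_injective_and_card e).2 ⟨he, by rw [Finset.card_univ] at hι; simp [hι]⟩)
    let M : Fin d → Matrix (Fin 2) (Fin 2) F := fun i =>
      if τ (e (0, i)) = e (0, i) then !![co (e (0, i)), 0; 0, co (e (1, i))]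
      else !![0, co (e (1, i)); co (e (0, i)), 0]
    refine ⟨z, b₀.reindex eq₀.symm, M, fun k i => ?_, fun i => ?_, fun c => ?_⟩
    · simp only [Module.Basis.reindex_apply, Equiv.symm_symm, Fin.sum_univ_two]
      show g (b₀ (e (k, i))) = M i 0 k • b₀ (e (0, i)) + M i 1 k • b₀ (e (1, i))
      rw [← hco (e (k, i))]
      rcases hp i with ⟨h0, h1⟩ | ⟨h0, h1⟩
      · have hne : ¬ τ (e (0, i)) = e (0, i) := fun h => by
          have := he (h0.symm.trans h); simp at this
        simp only [M, if_neg hne]
        fin_cases k <;> simp [h0, h1]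
      · fin_cases k <;> simp [M, h0, h1]
    · have hsq : ∀ j, τ j = j → co j * co j = z := fun j hj => by have := hmul j; rwa [hj] at this
      rcases hp i with ⟨h0, h1⟩ | ⟨h0, h1⟩
      · have hne : ¬ τ (e (0, i)) = e (0, i) := fun h => by
          have := he (h0.symm.trans h); simp at this
        have := hmul (e (1, i))
        rw [h1] at this
        simp only [M, if_neg hne, det_fin_two_of]
        linear_combination -this - z * h2
      · simp only [M, if_pos h0, det_fin_two_of]
        have a0 := hsq _ h0
        have a1 := hsq _ h1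
        have hd2 : (co (e (0, i)) - co (e (1, i))) * (co (e (0, i)) - co (e (1, i))) = 0 := by
          linear_combination a0 + a1 + (z - co (e (0, i)) * co (e (1, i))) * h2
        rw [← sub_eq_zero.1 (mul_self_eq_zero.1 hd2), a0]; ring
    · set i : Fin d := ⟨0, hd⟩
      by_cases h0 : τ (e (0, i)) = e (0, i)
      · refine ⟨!![c, 0; 0, 1], by simp [det_fin_two_of], ?_⟩
        simp only [M, if_pos h0]
        ext a b'; fin_cases a <;> fin_cases b' <;> simp [mul_apply, mul_comm]
      · obtain ⟨u, w, huw⟩ := exists_norm (d := c) (show co (e (1, i)) * co (e (0, i)) ≠ 0 by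
          rcases hp i with ⟨h0', h1'⟩ | ⟨h0', -⟩
          · have := hmul (e (1, i)); rw [h1'] at this; rw [this]; exact hz0
          · exact absurd h0' h0)
        refine ⟨!![u, w * co (e (1, i)); w * co (e (0, i)), u], ?_, ?_⟩
        · rw [det_fin_two_of]; linear_combination huw
        · simp only [M, if_neg h0]
          ext a b'; fin_cases a <;> fin_cases b' <;> simp [mul_apply, Fin.sum_univ_two] <;> ring
  · by_cases hz : IsSquare z
    · obtain ⟨s, hss⟩ := hz
      have hs0 : s + s ≠ 0 := fun h => by
        rcases mul_eq_zero.1 (show (2 : F) * s = 0 by linear_combination h) with h' | h'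
        · exact h2 h'
        · exact hz0 (by rw [hss, h', mul_zero])
      set Kp := LinearMap.ker (g - s • LinearMap.id)
      set Km := LinearMap.ker (g + s • LinearMap.id)
      have hp : ∀ v ∈ Kp, g v = s • v := fun v hv => sub_eq_zero.1 (by simpa [Kp] using hv)
      have hm : ∀ v ∈ Km, g v = (-s) • v := fun v hv => by
        rw [neg_smul]; exact eq_neg_of_add_eq_zero_left (by simpa [Km] using hv)
      have hc : IsCompl Kp Km := by
        constructor
        · rw [Submodule.disjoint_def]
          intro x h1 h3
          have h4 : (s + s) • x = 0 := by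
            have h5 := (hp x h1).symm.trans (hm x h3)
            rw [neg_smul, eq_neg_iff_add_eq_zero, ← add_smul] at h5
            exact h5
          exact (smul_eq_zero.1 h4).resolve_left hs0
        · rw [codisjoint_iff, eq_top_iff]
          intro x _
          rw [show x = (s + s)⁻¹ • (g x + s • x) + (-(s + s)⁻¹) • (g x - s • x) by
            rw [neg_smul, ← sub_eq_add_neg, ← smul_sub, show g x + s • x - (g x - s • x) = (s + s) • x by
              rw [add_smul]; abel, smul_smul, inv_mul_cancel₀ hs0, one_smul]]
          refine Submodule.add_mem_sup (Submodule.smul_mem _ _ ?_) (Submodule.smul_mem _ _ ?_) <;>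
            simp only [Kp, Km, LinearMap.mem_ker, LinearMap.sub_apply, LinearMap.add_apply, LinearMap.smul_apply,
              LinearMap.id_coe, id_eq, map_add, map_sub, map_smul, hg, smul_add, smul_sub, smul_smul, hss] <;> abel
      set A := Module.finrank F Kp
      set B := Module.finrank F Km
      let bb := ((Module.finBasis F Kp).prod (Module.finBasis F Km)).map (Submodule.prodEquivOfIsCompl _ _ hc)
      have hbl : ∀ i, g (bb (Sum.inl i)) = s • bb (Sum.inl i) := fun i => hp _ (by simp [bb])
      have hbr : ∀ i, g (bb (Sum.inr i)) = (-s) • bb (Sum.inr i) := fun i => hm _ (by simp [bb])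
      have hAB : A + B = 2 * d := by
        have := (Module.finrank_eq_card_basis bb).symm
        simpa using this
      have hdg : LinearMap.toMatrix bb bb g = diagonal (Sum.elim (fun _ => s) fun _ => -s) := by
        ext i j
        rw [LinearMap.toMatrix_apply]
        have hbc' : g (bb j) = (Sum.elim (fun _ => s) fun _ => -s : Fin A ⊕ Fin B → F) j • bb j := by
          rcases j with j | j
          · exact hbl j
          · exact hbr j
        rw [hbc', map_smul, Module.Basis.repr_self, Finsupp.smul_apply, Finsupp.single_apply, diagonal_apply]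
        by_cases h : i = j
        · subst h; simp <;> rfl
        · simp [h, Ne.symm h]
      have hdet' : s ^ A * (-s) ^ B = 1 := by
        have h := LinearMap.det_toMatrix bb g
        rw [hdg, det_diagonal, Fintype.prod_sum_type, show LinearMap.det g = X.det from LinearMap.det_toLin' X, hdet] at h
        simpa using h
      have hBe : Even B := by
        by_contra hB
        refine hs h2 s hss.symm ?_
        rw [Nat.not_even_iff_odd] at hB
        rw [hB.neg_pow, mul_neg, ← pow_add, hAB, neg_eq_iff_eq_neg] at hdet'
        exact hdet'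
      obtain ⟨β, hβ⟩ := hBe
      obtain ⟨α, hα⟩ : Even A := ⟨d - β, by omega⟩
      have hd' : α + β = d := by omega
      let e : Fin 2 × Fin d ≃ Fin A ⊕ Fin B :=
        ((Equiv.prodCongr (Equiv.refl _) ((finCongr hd'.symm).trans finSumFinEquiv.symm)).trans
          (Equiv.prodSumDistrib (Fin 2) (Fin α) (Fin β))).trans
          (Equiv.sumCongr (finProdFinEquiv.trans (finCongr (by omega))) (finProdFinEquiv.trans (finCongr (by omega))))
      let c₀ : Fin A ⊕ Fin B → F := Sum.elim (fun _ => s) fun _ => -s
      have hbc : ∀ x, g (bb x) = c₀ x • bb x := fun x => by rcases x with x | x <;> simp [c₀, hbl, hbr]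
      have hsame : ∀ i, c₀ (e (0, i)) = c₀ (e (1, i)) := fun i => by
        simp only [e, Equiv.trans_apply, Equiv.prodCongr_apply, Prod.map]
        rcases (finSumFinEquiv.symm ((finCongr hd'.symm) i)) with j | j <;>
          simp [c₀, Equiv.prodSumDistrib]
      have hc2 : ∀ x, c₀ x * c₀ x = z := fun x => by rcases x with x | x <;> simp [c₀, hss]
      refine ⟨z, bb.reindex e.symm, fun i => diagonal fun k => c₀ (e (k, i)), fun k i => ?_, fun i => ?_, fun c => ?_⟩
      · simp only [Module.Basis.reindex_apply, Equiv.symm_symm]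
        rw [hbc, Fin.sum_univ_two]
        fin_cases k <;> simp [Matrix.diagonal]
      · rw [det_diagonal, Fin.prod_univ_two, ← hsame, hc2]
      · exact ⟨diagonal ![c, 1], by simp [det_diagonal], by rw [diagonal_mul_diagonal, diagonal_mul_diagonal]; congr 1; funext k; exact mul_comm _ _⟩
    · obtain ⟨j, v, hli, h⟩ := InvolutionDecomp.exists_pairs hz hg (2 * d + 1)
      have htop := h.resolve_left fun hj => by
        have := hli.fintype_card_le_finrank
        rw [Fintype.card_sum, Fintype.card_fin, Module.finrank_fintype_fun_eq_card] at this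
        simp at this
        omega
      let bb := Module.Basis.mk hli htop.ge
      have hj : j = d := by
        have := Module.finrank_eq_card_basis bb
        rw [Module.finrank_fintype_fun_eq_card] at this
        simp at this
        omega
      subst hj
      let e : Fin 2 × Fin j ≃ Fin j ⊕ Fin j :=
        ⟨fun x => ![Sum.inl x.2, Sum.inr x.2] x.1, Sum.elim (fun i => (0, i)) fun i => (1, i),
          fun x => by obtain ⟨k, i⟩ := x; fin_cases k <;> simp, fun x => by rcases x with i | i <;> simp⟩
      refine ⟨-z, bb.reindex e.symm, fun _ => !![0, z; 1, 0], fun k i => ?_, fun i => by simp [det_fin_two_of],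
        fun c => ?_⟩
      · simp only [Module.Basis.reindex_apply, Equiv.symm_symm, Fin.sum_univ_two]
        fin_cases k <;> simp [e, bb, hg]
      · obtain ⟨u, w, huw⟩ := exists_norm (d := c) hz0
        refine ⟨!![u, w * z; w, u], by rw [det_fin_two_of]; linear_combination huw, ?_⟩
        ext a b'; fin_cases a <;> fin_cases b' <;> simp [mul_apply, Fin.sum_univ_two] <;> ring

end Cfsg.Agent.InvolutionPairs
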