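import Cfsg.Agent.Lib.Classical.OrthSingularCount
import Cfsg.Agent.Lib.Classical.OrthSpinor

/-! Totally singular subspaces invariant under involutions of `Ω`, odd characteristic. -/

set_option autoImplicit false
set_option linter.unusedSectionVars false
set_option quotPrecheck false

namespace Cfsg.Agent.InvolutionSingular

open Module Matrix Cfsg.Agent.Classical Cfsg.Agent.Classical.OrthAut

variable {F : Type*} [Field F] [Fintype F]

theorem exists_sub_dim {V : Type*} [AddCommGroup V] [Module F V] [FiniteDimensional F V] (U : Submodule F V)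
    {k : ℕ} (hk : k ≤ finrank F U) : ∃ U', U' ≤ U ∧ finrank F U' = k := by
  let b := Module.finBasis F U
  let f : Fin k → V := fun j => (b (Fin.castLE hk j) : V)
  have hli : LinearIndependent F f :=
    (b.linearIndependent.comp _ (Fin.castLE_injective hk)).map' U.subtype U.ker_subtype
  exact ⟨Submodule.span F (Set.range f), Submodule.span_le.2 (Set.range_subset_iff.2 fun j => (b _).2),
    by rw [finrank_span_eq_card hli, Fintype.card_fin]⟩

section Sub

variable {V : Type*} [AddCommGroup V] [Module F V] [FiniteDimensional F V] (Q : QuadraticForm F V)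

/-- Totally singular subspaces of an odd dimensional non-degenerate space. -/
theorem exists_ts_odd (hn : (QuadraticMap.polarBilin Q).Nondegenerate) {a k : ℕ} (hV : finrank F V = 2 * a + 1)
    (hk : k ≤ a) : ∃ W : Submodule F V, finrank F W = k ∧ ∀ w ∈ W, Q w = 0 := by
  obtain ⟨c, e, -, he⟩ := OrthSingularCount.exists_odd_equiv hV Q hn
  obtain ⟨U, hU, hUr⟩ := exists_singular_plus (F := F) a
  let ι' : (Fin a ⊕ Fin a → F) →ₗ[F] (Unit ⊕ (Fin a ⊕ Fin a) → F) :=
    { toFun := fun v => Sum.elim 0 v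
      map_add' := fun x y => by funext z; rcases z with z | z <;> simp
      map_smul' := fun r x => by funext z; rcases z with z | z <;> simp }
  have hι : Function.Injective (e.toLinearMap ∘ₗ ι') :=
    e.injective.comp fun x y h => funext fun z => congrFun h (Sum.inr z)
  obtain ⟨U', hU'U, hU'⟩ := exists_sub_dim U (k := k) (by omega)
  refine ⟨U'.map (e.toLinearMap ∘ₗ ι'), ((Submodule.equivMapOfInjective _ hι U').finrank_eq).symm.trans hU', ?_⟩
  rintro _ ⟨u, hu, rfl⟩
  show Q (e (Sum.elim 0 u)) = 0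
  have h0 := hU u (hU'U hu)
  rw [qfPlus_apply, quadFormPlus] at h0
  rw [he, qfOdd_apply, quadFormOdd]
  simp only [Sum.elim_inl, Sum.elim_inr, Pi.zero_apply]
  rw [h0]; ring

/-- Totally singular subspaces of an even dimensional non-degenerate space. -/
theorem exists_ts_even (hn : (QuadraticMap.polarBilin Q).Nondegenerate) {a k : ℕ} (hV : finrank F V = 2 * a)
    (hk : k < a ∨ (k ≤ a ∧ EvenType.Plus Q)) : ∃ W : Submodule F V, finrank F W = k ∧ ∀ w ∈ W, Q w = 0 := by
  by_cases hp : EvenType.Plus Q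
  · obtain ⟨U, hU, hUd⟩ := hp
    obtain ⟨U', hU'U, hU'⟩ := exists_sub_dim U (k := k) (by omega)
    exact ⟨U', hU', fun w hw => hU w (hU'U hw)⟩
  have hka : k < a := hk.resolve_right fun h => hp h.2
  obtain ⟨b, rfl⟩ : ∃ b, a = b + 1 := ⟨a - 1, by omega⟩
  rcases EvenType.exists_std hn hV with ⟨h, -⟩ | ⟨-, ζ, e, -, he⟩
  · exact absurd h hp
  obtain ⟨U, hU, hUr⟩ := exists_singular_plus (F := F) b
  let ι' : (Fin b ⊕ Fin b → F) →ₗ[F] ((Fin b ⊕ Fin b) ⊕ Fin 2 → F) :=
    { toFun := fun v => Sum.elim v 0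
      map_add' := fun x y => by funext z; rcases z with z | z <;> simp
      map_smul' := fun r x => by funext z; rcases z with z | z <;> simp }
  have hι : Function.Injective (e.toLinearMap ∘ₗ ι') :=
    e.injective.comp fun x y h => funext fun z => congrFun h (Sum.inl z)
  obtain ⟨U', hU'U, hU'⟩ := exists_sub_dim U (k := k) (by omega)
  refine ⟨U'.map (e.toLinearMap ∘ₗ ι'), ((Submodule.equivMapOfInjective _ hι U').finrank_eq).symm.trans hU', ?_⟩
  rintro _ ⟨u, hu, rfl⟩
  show Q (e (Sum.elim u 0)) = 0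
  have h0 := hU u (hU'U hu)
  rw [qfPlus_apply, quadFormPlus] at h0
  rw [he, qfMinus_apply, quadFormMinus]
  simp only [Sum.elim_inl, Sum.elim_inr, Pi.zero_apply]
  rw [h0]; ring

end Sub

variable {ι : Type} [Fintype ι] [DecidableEq ι] {Q : QuadraticForm F (ι → F)}

local notation "OG" => isometryGroup F ⇑Q
local notation "B" => QuadraticMap.polar ⇑Q

/-- The negated vectors of an isometry. -/
def negSub (g : OG) : Submodule F (ι → F) := LinearMap.ker (Matrix.toLin' (ogVal g) + LinearMap.id)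

theorem mem_negSub {g : OG} {x : ι → F} : x ∈ negSub g ↔ ogVal g *ᵥ x = -x := by
  rw [negSub, LinearMap.mem_ker, LinearMap.add_apply, LinearMap.id_apply, Matrix.toLin'_apply,
    add_eq_zero_iff_eq_neg]

variable (h2 : (2 : F) ≠ 0) (hQ : (QuadraticMap.polarBilin Q).Nondegenerate)

theorem polar_isometry (g : OG) (x y : ι → F) : B (ogVal g *ᵥ x) (ogVal g *ᵥ y) = B x y := by
  simp only [QuadraticMap.polar, ← Matrix.mulVec_add, ogVal_quad]

theorem sq_apply {g : OG} (hg : g * g = 1) (x : ι → F) : ogVal g *ᵥ (ogVal g *ᵥ x) = x := by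
  rw [Matrix.mulVec_mulVec, ← ogVal_mul, hg, ogVal_one, Matrix.one_mulVec]

include h2 in
/-- Removing a reflection. -/
theorem step {g : OG} (hg : g * g = 1) {v : ι → F} (hv : v ∈ negSub g) (hv0 : Q v ≠ 0) :
    (OrthAut.refl hv0 * g) * (OrthAut.refl hv0 * g) = 1 ∧
      negSub (OrthAut.refl hv0 * g) = negSub g ⊓ LinearMap.ker (QuadraticMap.polarBilin Q v) ∧
      finrank F (negSub (OrthAut.refl hv0 * g)) + 1 = finrank F (negSub g) := by
  have hgv := mem_negSub.1 hv
  have hB : ∀ x, B v (ogVal g *ᵥ x) = -B v x := fun x => by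
    rw [← polar_isometry g v, sq_apply hg, hgv, QuadraticMap.polar_neg_left]
  have happ : ∀ x, ogVal (OrthAut.refl hv0 * g) *ᵥ x = ogVal g *ᵥ x + ((Q v)⁻¹ * B v x) • v := fun x => by
    rw [ogVal_mul, ← Matrix.mulVec_mulVec, refl_apply, hB, mul_neg, neg_smul, sub_neg_eq_add]
  have hneg : negSub (OrthAut.refl hv0 * g) = negSub g ⊓ LinearMap.ker (QuadraticMap.polarBilin Q v) := by
    ext x
    rw [Submodule.mem_inf, LinearMap.mem_ker, QuadraticMap.polarBilin_apply_apply, mem_negSub, mem_negSub, happ]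
    constructor
    · intro h
      have h1 := congrArg (ogVal g *ᵥ ·) h
      simp only [Matrix.mulVec_add, Matrix.mulVec_smul, Matrix.mulVec_neg, sq_apply hg, hgv] at h1
      have h2' : (2 * ((Q v)⁻¹ * B v x)) • v = 0 := by
        have h3 : ogVal g *ᵥ x = ((Q v)⁻¹ * B v x) • v - x := by
          linear_combination (norm := module) h1
        rw [h3] at h
        linear_combination (norm := module) h
      have hv' : v ≠ 0 := fun e => hv0 (by rw [e, QuadraticMap.map_zero])
      have hb : B v x = 0 := by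
        rcases smul_eq_zero.1 h2' with h' | h'
        · rcases mul_eq_zero.1 h' with h' | h'
          · exact absurd h' h2
          · exact (mul_eq_zero.1 h').resolve_left (inv_ne_zero hv0)
        · exact absurd h' hv'
      rw [hb, mul_zero, zero_smul, add_zero] at h
      exact ⟨h, hb⟩
    · rintro ⟨h, hb⟩
      rw [hb, mul_zero, zero_smul, add_zero, h]
  refine ⟨ogVal_ext (Matrix.ext_iff_mulVec.2 fun x => ?_), hneg, ?_⟩
  · rw [ogVal_mul (OrthAut.refl hv0 * g), ← Matrix.mulVec_mulVec, happ, happ, ogVal_one, Matrix.one_mulVec,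
      QuadraticMap.polar_add_right, QuadraticMap.polar_smul_right, hB, polar_self2, Matrix.mulVec_add,
      Matrix.mulVec_smul, sq_apply hg, hgv, smul_eq_mul]
    have e : (Q v)⁻¹ * (-B v x + (Q v)⁻¹ * B v x * (2 * Q v)) = (Q v)⁻¹ * B v x := by field_simp; ring
    rw [e]; module
  · rw [hneg]
    have hvv : B v v ≠ 0 := by rw [polar_self2]; exact mul_ne_zero h2 hv0
    refine finrank_inf_ker _ _ ((negSub g).smul_mem (B v v)⁻¹ hv) ?_
    rw [map_smul, QuadraticMap.polarBilin_apply_apply, smul_eq_mul, inv_mul_cancel₀ hvv]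

include h2 hQ in
theorem nondeg_negSub {g : OG} (hg : g * g = 1) :
    ∀ u ∈ negSub g, u ≠ 0 → ∃ w ∈ negSub g, B u w ≠ 0 := by
  intro u hu hu0
  obtain ⟨z, hz⟩ : ∃ z, B u z ≠ 0 := by
    by_contra h; push Not at h
    exact hu0 (eq_zero_of_polar hQ h)
  refine ⟨z - ogVal g *ᵥ z, mem_negSub.2 (by rw [Matrix.mulVec_sub, sq_apply hg, neg_sub]), ?_⟩
  have e : B u (ogVal g *ᵥ z) = -B u z := by
    rw [← polar_isometry g u, sq_apply hg, mem_negSub.1 hu, QuadraticMap.polar_neg_left]
  rw [QuadraticMap.polar_sub_right, e, sub_neg_eq_add, ← two_mul]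
  exact mul_ne_zero h2 hz

include h2 in
theorem eq_one_of_negSub {g : OG} (hg : g * g = 1) (h : finrank F (negSub g) = 0) : g = 1 := by
  rw [Submodule.finrank_eq_zero] at h
  refine ogVal_ext (Matrix.ext_iff_mulVec.2 fun x => ?_)
  have hm : x - ogVal g *ᵥ x ∈ negSub g := mem_negSub.2 (by rw [Matrix.mulVec_sub, sq_apply hg, neg_sub])
  rw [h, Submodule.mem_bot, sub_eq_zero] at hm
  rw [ogVal_one, Matrix.one_mulVec, ← hm]

include h2 hQ in
/-- When `-1` is a square the negated space of an involution of `Ω` is hyperbolic. -/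
theorem exists_half_neg {c : F} (hc : c * c = -1) : ∀ (k : ℕ) (g : OG), g * g = 1 → finrank F (negSub g) = k →
    dick g = 1 → spin g = 1 →
    ∃ W : Submodule F (ι → F), W ≤ negSub g ∧ (∀ w ∈ W, Q w = 0) ∧ 2 * finrank F W = k := by
  classical
  intro k
  induction k using Nat.strong_induction_on with
  | _ k ih =>
  intro g hg hk hd hs
  rcases Nat.eq_zero_or_pos k with rfl | hpos
  · exact ⟨⊥, bot_le, fun w hw => by rw [(Submodule.mem_bot F).1 hw, QuadraticMap.map_zero], by simp⟩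
  have hnd := nondeg_negSub h2 hQ hg
  have aniso : ∀ {g' : OG}, g' * g' = 1 → finrank F (negSub g') = 1 → ∃ v ∈ negSub g', Q v ≠ 0 := by
    intro g' hg' hd'
    obtain ⟨v, hv, hv0⟩ := Submodule.exists_mem_ne_zero_of_ne_bot (p := negSub g') fun e => by
      rw [e, finrank_bot] at hd'; omega
    refine ⟨v, hv, fun hQv => ?_⟩
    obtain ⟨w, hw, hvw⟩ := nondeg_negSub h2 hQ hg' v hv hv0
    obtain ⟨a, ha⟩ := exists_smul_eq_of_finrank_eq_one hd' (x := (⟨v, hv⟩ : negSub g'))
      (fun e => hv0 (congrArg Subtype.val e)) ⟨w, hw⟩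
    have ha' : a • v = w := congrArg Subtype.val ha
    rw [← ha', QuadraticMap.polar_smul_right, polar_self2, hQv, mul_zero, smul_zero] at hvw
    exact hvw rfl
  rcases Nat.lt_or_ge k 2 with hk2 | hk2
  · exfalso
    obtain rfl : k = 1 := by omega
    obtain ⟨v, hv, hv0⟩ := aniso hg hk
    obtain ⟨h11, -, h13⟩ := step h2 hg hv hv0
    have h1 := dick_refl_mul hQ g hv0
    rw [eq_one_of_negSub h2 h11 (by omega), dick_one, hd] at h1
    exact absurd h1 (by decide)
  obtain ⟨v, hv, hvQ⟩ := exists_value_in hQ h2 hnd (by omega) 1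
  have hv0 : Q v ≠ 0 := by rw [hvQ]; exact one_ne_zero
  obtain ⟨h11, h12, h13⟩ := step h2 hg hv hv0
  have hspin1 : spin (OrthAut.refl hv0 * g) = 1 := by
    rw [spin_mul hQ, spin_refl hQ, hs, hvQ, sqSign_of_isSquare IsSquare.one, one_mul]
  have hdick1 : dick (OrthAut.refl hv0 * g) = -1 := by rw [dick_refl_mul hQ, hd]
  obtain ⟨w, hw, hw0, s, hs0, hwQ⟩ : ∃ w ∈ negSub (OrthAut.refl hv0 * g), Q w ≠ 0 ∧ ∃ s : F, s ≠ 0 ∧ Q w = s * s := by
    rcases Nat.lt_or_ge k 3 with hk3 | hk3
    · obtain ⟨w, hw, hw0⟩ := aniso h11 (by omega)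
      obtain ⟨h21, -, h23⟩ := step h2 h11 hw hw0
      have h1 := eq_one_of_negSub h2 h21 (by omega)
      have hsq : sqSign (Q w) = 1 := by
        have := congrArg spin h1
        rwa [spin_mul hQ, spin_refl hQ, hspin1, mul_one,
          show spin (1 : OG) = 1 from map_one (spinHom hQ)] at this
      have hsq' : IsSquare (Q w) := by
        by_contra hh; rw [sqSign_of_not hh] at hsq; exact absurd hsq (by decide)
      obtain ⟨s, hs'⟩ := hsq'
      exact ⟨w, hw, hw0, s, fun e => hw0 (by rw [hs', e, zero_mul]), hs'⟩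
    · obtain ⟨w, hw, hwQ⟩ := exists_value_in hQ h2 (nondeg_negSub h2 hQ h11) (by omega) 1
      exact ⟨w, hw, by rw [hwQ]; exact one_ne_zero, 1, one_ne_zero, by rw [hwQ, one_mul]⟩
  obtain ⟨h21, h22, h23⟩ := step h2 h11 hw hw0
  obtain ⟨W', hW', hW'0, hW'd⟩ := ih (k - 2) (by omega) _ h21 (by omega)
    (by rw [dick_refl_mul hQ, hdick1, neg_neg])
    (by rw [spin_mul hQ, spin_refl hQ, hspin1, mul_one, sqSign_of_isSquare ⟨s, hwQ⟩])
  have hwm : w ∈ negSub g ⊓ LinearMap.ker (QuadraticMap.polarBilin Q v) := h12 ▸ hw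
  have hW'g : ∀ x ∈ W', x ∈ negSub g ∧ B v x = 0 ∧ B w x = 0 := fun x hx => by
    have hx2 : x ∈ negSub (OrthAut.refl hv0 * g) ⊓ LinearMap.ker (QuadraticMap.polarBilin Q w) := h22 ▸ hW' hx
    have hx1 : x ∈ negSub g ⊓ LinearMap.ker (QuadraticMap.polarBilin Q v) := h12 ▸ hx2.1
    exact ⟨hx1.1, hx1.2, hx2.2⟩
  set u := v + (c * s⁻¹) • w with hu
  have hBvw : B v w = 0 := hwm.2
  have huQ : Q u = 0 := by
    rw [hu, QuadraticMap.map_add (⇑Q), QuadraticMap.map_smul, QuadraticMap.polar_smul_right, hBvw, hvQ, hwQ,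
      smul_eq_mul, smul_eq_mul, mul_zero, add_zero,
      show c * s⁻¹ * (c * s⁻¹) * (s * s) = c * c * (s⁻¹ * s) * (s⁻¹ * s) by ring, inv_mul_cancel₀ hs0, hc]
    ring
  refine ⟨W' ⊔ Submodule.span F {u}, sup_le (fun x hx => (hW'g x hx).1) ?_, ?_, ?_⟩
  · rw [Submodule.span_singleton_le_iff_mem]
    exact Submodule.add_mem _ hv (Submodule.smul_mem _ _ hwm.1)
  · intro x hx
    obtain ⟨y, hy, z, hz, rfl⟩ := Submodule.mem_sup.1 hx
    obtain ⟨a, rfl⟩ := Submodule.mem_span_singleton.1 hz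
    have hyu : B y u = 0 := by
      rw [hu, QuadraticMap.polar_add_right, QuadraticMap.polar_smul_right, QuadraticMap.polar_comm _ y v,
        QuadraticMap.polar_comm _ y w, (hW'g y hy).2.1, (hW'g y hy).2.2, smul_zero, add_zero]
    rw [QuadraticMap.map_add (⇑Q), hW'0 y hy, QuadraticMap.map_smul, huQ, QuadraticMap.polar_smul_right, hyu]
    simp
  · have hd' : W' ⊓ Submodule.span F {u} = ⊥ := by
      rw [Submodule.eq_bot_iff]
      rintro x ⟨hxW, hxu⟩
      obtain ⟨a, rfl⟩ := Submodule.mem_span_singleton.1 hxu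
      have h := (hW'g _ hxW).2.1
      rw [QuadraticMap.polar_smul_right, hu, QuadraticMap.polar_add_right, QuadraticMap.polar_smul_right, hBvw,
        polar_self2, hvQ] at h
      have ha : a = 0 := by simpa [h2] using h
      rw [ha, zero_smul]
    have h := Submodule.finrank_sup_add_finrank_inf_eq W' (Submodule.span F {u})
    have hune : u ≠ 0 := fun e => by
      have h' : B v u = 0 := by rw [e, QuadraticMap.polar_zero_right]
      rw [hu, QuadraticMap.polar_add_right, QuadraticMap.polar_smul_right, hBvw, polar_self2, hvQ] at h'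
      exact h2 (by simpa using h')
    rw [hd', finrank_bot, finrank_span_singleton hune] at h
    omega

variable {d : ℕ} (hι : Fintype.card ι = 2 * d + 1)

include h2 hQ hι in
/-- Involutions of `Ω` fix totally singular `m`-spaces, `m < d` or `-1` a square. -/
theorem exists_invariant {g : OG} (hg : g * g = 1) (hΩ : g ∈ Omega F ⇑Q) {m : ℕ} (hmd : m ≤ d)
    (hm : m < d ∨ IsSquare (-1 : F)) :
    ∃ W : Submodule F (ι → F), finrank F W = m ∧ (∀ w ∈ W, Q w = 0) ∧ ∀ w ∈ W, ogVal g *ᵥ w ∈ W := by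
  classical
  obtain ⟨hd, hs⟩ := (mem_omega_gen hQ (genQ_odd hQ h2) g).1 hΩ
  set Em := negSub g
  set Ep := fixSub g
  have hplus : ∀ x, x + ogVal g *ᵥ x ∈ Ep := fun x =>
    mem_fixSub.2 (by rw [Matrix.mulVec_add, sq_apply hg, add_comm])
  have hminus : ∀ x, x - ogVal g *ᵥ x ∈ Em := fun x =>
    mem_negSub.2 (by rw [Matrix.mulVec_sub, sq_apply hg, neg_sub])
  have hinf : Ep ⊓ Em = ⊥ := by
    rw [Submodule.eq_bot_iff]
    rintro x ⟨h1, h1'⟩
    have e : ogVal g *ᵥ x = x := mem_fixSub.1 h1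
    have e' : ogVal g *ᵥ x = -x := mem_negSub.1 h1'
    have h3 : (2 : F) • x = 0 := by rw [two_smul]; exact add_eq_zero_iff_eq_neg.2 (e.symm.trans e')
    exact (smul_eq_zero.1 h3).resolve_left h2
  have hsup : Ep ⊔ Em = ⊤ := by
    refine eq_top_iff.2 fun x _ => ?_
    have : x = (2 : F)⁻¹ • (x + ogVal g *ᵥ x) + (2 : F)⁻¹ • (x - ogVal g *ᵥ x) := by
      rw [← smul_add, show x + ogVal g *ᵥ x + (x - ogVal g *ᵥ x) = (2 : F) • x by module, smul_smul,
        inv_mul_cancel₀ h2, one_smul]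
    rw [this]
    exact Submodule.add_mem_sup (Ep.smul_mem _ (hplus x)) (Em.smul_mem _ (hminus x))
  have horth : ∀ p ∈ Ep, ∀ n ∈ Em, B p n = 0 := fun p hp n hn => by
    have h := polar_isometry g p n
    rw [mem_fixSub.1 hp, mem_negSub.1 hn, QuadraticMap.polar_neg_right] at h
    exact (mul_eq_zero.1 (show (2 : F) * B p n = 0 by linear_combination -h)).resolve_left h2
  have hsp : EvenType.Split Q Ep Em := ⟨hsup, hinf, horth⟩
  have hdim := hsp.dim
  rw [Module.finrank_pi, hι] at hdim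
  have hpar : Even (2 * d + 1 + finrank F Ep) := by
    have h := hd
    rw [dick, hι] at h
    by_contra hodd
    rw [(Nat.not_even_iff_odd.1 hodd).neg_one_pow] at h
    exact absurd h (by decide)
  obtain ⟨a, ha⟩ : ∃ a, finrank F Ep = 2 * a + 1 := by
    obtain ⟨r, hr⟩ := hpar; exact ⟨r - d - 1, by omega⟩
  obtain ⟨l, hl, Wm, hWm, hWm0, hWmd⟩ : ∃ l, m ≤ a + l ∧ ∃ Wm : Submodule F (ι → F), Wm ≤ Em ∧
      (∀ w ∈ Wm, Q w = 0) ∧ finrank F Wm = l := by
    rcases Nat.eq_zero_or_pos (d - a) with h0 | hpos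
    · exact ⟨0, by omega, ⊥, bot_le, fun w hw => by rw [(Submodule.mem_bot F).1 hw, QuadraticMap.map_zero],
        finrank_bot F _⟩
    rcases hm with hm | ⟨c, hc⟩
    · obtain ⟨W, hW, hW0⟩ := exists_ts_even (EvenType.res Q Em) (hsp.symm.nondeg_left hQ)
        (show finrank F Em = 2 * (d - a) by omega) (k := d - a - 1) (Or.inl (by omega))
      refine ⟨d - a - 1, by omega, W.map Em.subtype, Submodule.map_subtype_le _ _, ?_, ?_⟩
      · rintro _ ⟨w, hw, rfl⟩; exact hW0 w hw
      · rw [Submodule.finrank_map_subtype_eq, hW]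
    · obtain ⟨W, hWE, hW0, hWd⟩ := exists_half_neg h2 hQ hc.symm (finrank F Em) g hg rfl hd hs
      exact ⟨finrank F W, by omega, W, hWE, hW0, rfl⟩
  obtain ⟨U, hU, hU0⟩ := exists_ts_odd (EvenType.res Q Ep) (hsp.nondeg_left hQ) ha (k := min m a)
    (min_le_right _ _)
  obtain ⟨Wm', hWm'le, hWm'd⟩ := exists_sub_dim Wm (k := m - min m a) (by omega)
  refine ⟨U.map Ep.subtype ⊔ Wm', ?_, ?_, ?_⟩
  · have hd' : U.map Ep.subtype ⊓ Wm' = ⊥ := le_bot_iff.1 (by
      rw [← hinf]; exact inf_le_inf (Submodule.map_subtype_le _ _) (hWm'le.trans hWm))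
    have h := Submodule.finrank_sup_add_finrank_inf_eq (U.map Ep.subtype) Wm'
    rw [hd', finrank_bot, Submodule.finrank_map_subtype_eq, hU, hWm'd] at h
    omega
  · intro x hx
    obtain ⟨p, hp, n, hn, rfl⟩ := Submodule.mem_sup.1 hx
    obtain ⟨u, hu, rfl⟩ := hp
    rw [QuadraticMap.map_add (⇑Q), hWm0 n (hWm'le hn), show Q (Ep.subtype u) = 0 from hU0 u hu,
      show B (Ep.subtype u) n = 0 from horth _ u.2 n (hWm (hWm'le hn)), add_zero, add_zero]
  · intro x hx
    obtain ⟨p, hp, n, hn, rfl⟩ := Submodule.mem_sup.1 hx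
    obtain ⟨u, hu, rfl⟩ := hp
    rw [Matrix.mulVec_add, show ogVal g *ᵥ (Ep.subtype u) = Ep.subtype u from mem_fixSub.1 u.2,
      mem_negSub.1 (hWm (hWm'le hn))]
    exact Submodule.add_mem_sup ⟨u, hu, rfl⟩ (Wm'.neg_mem hn)

include h2 hQ hι in
/-- When `-1` is not a square some involution of `Ω` fixes no maximal totally singular subspace. -/
theorem exists_bad (hd : 1 ≤ d) (hns : ¬ IsSquare (-1 : F)) :
    ∃ g : OG, g ∈ Omega F ⇑Q ∧ g * g = 1 ∧ g ≠ 1 ∧
      ∀ W : Submodule F (ι → F), finrank F W = d → (∀ w ∈ W, Q w = 0) → ¬ ∀ w ∈ W, ogVal g *ᵥ w ∈ W := by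
  classical
  obtain ⟨v, -, hvQ⟩ := exists_value_in hQ h2 (OrthAut.nondeg_top hQ) (by rw [finrank_top, Module.finrank_pi]; omega) 1
  have hv0 : Q v ≠ 0 := by rw [hvQ]; exact one_ne_zero
  have hvv : B v v = 2 := by rw [polar_self2, hvQ, mul_one]
  set P := LinearMap.ker (QuadraticMap.polarBilin Q v)
  have hPd : finrank F (⊤ ⊓ P : Submodule F (ι → F)) + 1 = finrank F (⊤ : Submodule F (ι → F)) :=
    finrank_inf_ker _ _ (Submodule.mem_top (x := (2 : F)⁻¹ • v)) (by
      rw [map_smul, QuadraticMap.polarBilin_apply_apply, hvv, smul_eq_mul, inv_mul_cancel₀ h2])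
  rw [top_inf_eq, finrank_top, Module.finrank_pi, hι] at hPd
  obtain ⟨w, hw, hwQ⟩ := exists_value_in hQ h2 (W := P) (fun u hu hu0 => by
    obtain ⟨z, hz⟩ : ∃ z, B u z ≠ 0 := by
      by_contra h; push Not at h; exact hu0 (eq_zero_of_polar hQ h)
    refine ⟨z - ((2 : F)⁻¹ * B v z) • v, LinearMap.mem_ker.2 ?_, ?_⟩
    · rw [QuadraticMap.polarBilin_apply_apply, QuadraticMap.polar_sub_right, QuadraticMap.polar_smul_right, hvv,
        smul_eq_mul]
      field_simp; ring
    · rw [QuadraticMap.polar_sub_right, QuadraticMap.polar_smul_right, QuadraticMap.polar_comm _ u v,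
        show B v u = 0 from hu, smul_zero, sub_zero]
      exact hz) (by omega) 1
  have hw0 : Q w ≠ 0 := by rw [hwQ]; exact one_ne_zero
  have hvw : B v w = 0 := hw
  have hww : B w w = 2 := by rw [polar_self2, hwQ, mul_one]
  set g := OrthAut.refl hv0 * OrthAut.refl hw0
  have happ : ∀ z, ogVal g *ᵥ z = z - B v z • v - B w z • w := fun z => by
    rw [ogVal_mul, ← Matrix.mulVec_mulVec, refl_apply, refl_apply, QuadraticMap.polar_sub_right,
      QuadraticMap.polar_smul_right, hvw, hvQ, hwQ]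
    simp only [inv_one, one_mul, smul_zero, sub_zero]
    module
  refine ⟨g, (mem_omega_gen hQ (genQ_odd hQ h2) g).2 ⟨?_, ?_⟩, ?_, fun h1 => ?_, fun W hWd hW0 hinv => ?_⟩
  · rw [dick_refl_mul hQ, dick_refl hQ, neg_neg]
  · rw [spin_mul hQ, spin_refl hQ, spin_refl hQ, hvQ, hwQ, sqSign_of_isSquare IsSquare.one, one_mul]
  · refine ogVal_ext (Matrix.ext_iff_mulVec.2 fun z => ?_)
    rw [ogVal_mul g, ← Matrix.mulVec_mulVec, happ, happ, ogVal_one, Matrix.one_mulVec]
    simp only [QuadraticMap.polar_sub_right, QuadraticMap.polar_smul_right, hvv, hww, hvw,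
      QuadraticMap.polar_comm _ w v, smul_eq_mul]
    module
  · have h := happ v
    rw [h1, ogVal_one, Matrix.one_mulVec, hvv, QuadraticMap.polar_comm _ w v, hvw] at h
    have hv' : v ≠ 0 := fun e => hv0 (by rw [e, QuadraticMap.map_zero])
    have h' : (2 : F) • v = 0 := by linear_combination (norm := module) h
    exact hv' ((smul_eq_zero.1 h').resolve_left h2)
  · have haniso : ∀ a b : F, Q (a • v + b • w) = 0 → a = 0 ∧ b = 0 := by
      intro a b h
      rw [QuadraticMap.map_add (⇑Q), QuadraticMap.map_smul, QuadraticMap.map_smul, QuadraticMap.polar_smul_left,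
        QuadraticMap.polar_smul_right, hvw, hvQ, hwQ] at h
      simp only [smul_eq_mul, mul_one, mul_zero, add_zero] at h
      by_cases hb : b = 0
      · subst hb; exact ⟨mul_self_eq_zero.1 (by linear_combination h), rfl⟩
      · exact absurd ⟨a * b⁻¹, by field_simp; linear_combination -h⟩ hns
    have hperp : ∀ y ∈ W, B v y = 0 ∧ B w y = 0 := fun y hy => haniso _ _ (hW0 _ (by
      have h := W.sub_mem hy (hinv y hy)
      rw [happ] at h
      rwa [show y - (y - B v y • v - B w y • w) = B v y • v + B w y • w by module] at h))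
    let β : LinearMap.BilinForm F (ι → F) := QuadraticMap.polarBilin Q
    have hle : W ⊔ Submodule.span F {v, w} ≤ β.orthogonal W := by
      refine sup_le (fun x hx n hn => OrthSingularCount.polar_zero_of_ts Q hW0 hn hx) ?_
      rw [Submodule.span_le]
      rintro x (rfl | rfl) n hn
      · show B n x = 0
        rw [QuadraticMap.polar_comm]; exact (hperp n hn).1
      · show B n x = 0
        rw [QuadraticMap.polar_comm]; exact (hperp n hn).2
    have hdisj : W ⊓ Submodule.span F {v, w} = ⊥ := by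
      rw [Submodule.eq_bot_iff]
      rintro x ⟨hxW, hxv⟩
      obtain ⟨a, b, rfl⟩ := Submodule.mem_span_pair.1 hxv
      obtain ⟨rfl, rfl⟩ := haniso a b (hW0 _ hxW)
      simp
    have hli : LinearIndependent F ![v, w] := LinearIndependent.pair_iff.2 fun a b h =>
      haniso a b (by rw [h, QuadraticMap.map_zero])
    have h := Submodule.finrank_sup_add_finrank_inf_eq W (Submodule.span F {v, w})
    rw [hdisj, finrank_bot, hWd, show ({v, w} : Set (ι → F)) = Set.range ![v, w] by
      simp [Matrix.range_cons, Set.pair_comm], finrank_span_eq_card hli, Fintype.card_fin] at h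
    rw [show ({v, w} : Set (ι → F)) = Set.range ![v, w] by simp [Matrix.range_cons, Set.pair_comm]] at hle
    have h' := Submodule.finrank_mono hle
    rw [LinearMap.BilinForm.finrank_orthogonal hQ, Module.finrank_pi, hι, hWd] at h'
    omega

end Cfsg.Agent.InvolutionSingular
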