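import Cfsg.Agent.Lib.Classical.IsometryTriples

/-!
Standard orthogonal summands of isometries in odd characteristic.
-/

set_option autoImplicit false

namespace Cfsg.Agent.Classical.IsometryClasses

open Polynomial Module
open LinearMap (BilinForm)
open Cfsg.Agent.Classical.SLClasses Cfsg.Agent.Classical.UnitClasses Cfsg.Agent.UnitaryDetCentralizer

universe u

variable {F : Type u} [Field F] {ε : F}

/-- The reciprocal polynomial. -/
noncomputable abbrev rd (f : F[X]) : F[X] := cdual (RingHom.id F) f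

/-- A linear functional without non-trivial ideals in its kernel. -/
def Faithful {Q : F[X]} (φ : AdjoinRoot Q →ₗ[F] F) : Prop := ∀ a, (∀ c, φ (c * a) = 0) → a = 0

theorem exists_faithful {Q : F[X]} (hQ : Q ≠ 0) : ∃ φ : AdjoinRoot Q →ₗ[F] F, Faithful φ := by
  obtain ⟨φ, hφ⟩ := SimilarTranspose.exists_functional Q hQ
  exact ⟨φ, fun a ha => hφ a fun v => (congrArg φ (mul_comm _ _)).trans (ha v)⟩

theorem exists_dual {Q : F[X]} (hQ : Q.Monic) {φ : AdjoinRoot Q →ₗ[F] F} (hφ : Faithful φ)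
    (ψ : AdjoinRoot Q →ₗ[F] F) : ∃ a, ∀ c, ψ c = φ (c * a) := by
  haveI : Module.Finite F (AdjoinRoot Q) := (AdjoinRoot.powerBasis hQ.ne_zero).finite
  let L : AdjoinRoot Q →ₗ[F] (AdjoinRoot Q →ₗ[F] F) := (LinearMap.mul F (AdjoinRoot Q)).compr₂ φ
  have hL : ∀ a c, L a c = φ (a * c) := fun a c => rfl
  have hinj : Function.Injective L := (injective_iff_map_eq_zero L).2 fun a ha => hφ a fun c => by
    rw [mul_comm, ← hL, ha, LinearMap.zero_apply]
  obtain ⟨a, rfl⟩ := (LinearMap.injective_iff_surjective_of_finrank_eq_finrank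
    (Subspace.dual_finrank_eq (K := F) (V := AdjoinRoot Q)).symm).1 hinj ψ
  exact ⟨a, fun c => by rw [hL, mul_comm]⟩

theorem exists_mul_eq_top {f : F[X]} (hfi : Irreducible f) {k : ℕ} {a : AdjoinRoot (f ^ k)} (ha : a ≠ 0) :
    ∃ b, a * b = AdjoinRoot.mk (f ^ k) (f ^ (k - 1)) := by
  obtain ⟨P, rfl⟩ := AdjoinRoot.mk_surjective a
  have hP : P ≠ 0 := fun h => ha (by rw [h, map_zero])
  obtain ⟨i, u, hu, rfl⟩ := WfDvdMonoid.max_power_factor hP hfi
  have hik : i < k := by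
    by_contra h
    exact ha (AdjoinRoot.mk_eq_zero.2 ((pow_dvd_pow f (by omega)).mul_right u))
  obtain ⟨s, t, hst⟩ := (((hfi.coprime_iff_not_dvd).2 hu).symm.pow_right (n := k))
  refine ⟨AdjoinRoot.mk _ (s * f ^ (k - 1 - i)), ?_⟩
  rw [← map_mul, AdjoinRoot.mk_eq_mk]
  refine ⟨-(t * f ^ (k - 1)), ?_⟩
  have hk : f ^ i * f ^ (k - 1 - i) = f ^ (k - 1) := by rw [← pow_add]; congr 1; omega
  linear_combination (s * u) * hk + f ^ (k - 1) * hst

theorem faithful_of_top {f : F[X]} (hfi : Irreducible f) {k : ℕ} {φ : AdjoinRoot (f ^ k) →ₗ[F] F}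
    {c : AdjoinRoot (f ^ k)} (hc : φ (c * AdjoinRoot.mk (f ^ k) (f ^ (k - 1))) ≠ 0) : Faithful φ := by
  intro a ha
  by_contra hne
  obtain ⟨b, hb⟩ := exists_mul_eq_top hfi hne
  exact hc (by rw [← hb, mul_comm a b, ← mul_assoc]; exact ha _)

section

variable (T : Tri F ε) {Q Q' : F[X]}

theorem B_ev_aeval (hQ : Q.Monic) (h0 : Q.coeff 0 ≠ 0) {x : Fin T.n → F} (hx : aeval T.g Q x = 0)
    (P : F[X]) (a : AdjoinRoot Q) (z : Fin T.n → F) :
    T.B (T.ev hQ x a) (aeval T.g P z) = T.B (T.ev hQ x (a * aeval (rinv Q) P)) z := by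
  induction P using Polynomial.induction_on' with
  | add p q hp hq => simp only [map_add, mul_add, LinearMap.add_apply, hp, hq]
  | monomial k c =>
    rw [aeval_monomial, aeval_monomial, Module.End.mul_apply, Module.algebraMap_end_apply, ← Algebra.smul_def,
      mul_smul_comm, map_smul, map_smul, map_smul, LinearMap.smul_apply]
    congr 1
    conv_lhs => rw [show a = AdjoinRoot.root Q ^ k * (a * rinv Q ^ k) by
      rw [mul_comm a, ← mul_assoc, ← mul_pow, root_mul_rinv h0, one_pow, one_mul]]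
    rw [ev_root_pow_mul T hQ hx, T.isom_pow]

theorem B_self (hQ : Q.Monic) (h0 : Q.coeff 0 ≠ 0) {x y : Fin T.n → F} (hx : aeval T.g Q x = 0)
    (hy : aeval T.g Q' y = 0) (hQ' : Q'.Monic) (h : aeval (rinv Q) Q' = 0) (b : AdjoinRoot Q') :
    T.B x (T.ev hQ' y b) = T.B (T.ev hQ x (dmap Q Q' h b)) y := by
  have h1 := adjoint T hQ h0 hQ' h hx hy 1 b
  rwa [ev_one T hQ hx, one_mul] at h1

theorem root_pow_period [Finite F] (hQ : Q.Monic) (h0 : Q.coeff 0 ≠ 0) :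
    ∃ M : ℕ, 0 < M ∧ AdjoinRoot.root Q ^ M = 1 := by
  haveI : Module.Finite F (AdjoinRoot Q) := (AdjoinRoot.powerBasis hQ.ne_zero).finite
  haveI : Finite (AdjoinRoot Q) := Module.finite_of_finite F
  obtain ⟨u, hu⟩ := isUnit_root h0
  exact ⟨orderOf u, orderOf_pos u, by rw [← hu, ← Units.val_pow_eq_pow_val, pow_orderOf_eq_one, Units.val_one]⟩

theorem dmap_dmap (h0 : Q.coeff 0 ≠ 0) (h0' : Q'.coeff 0 ≠ 0) (h : aeval (rinv Q) Q' = 0)
    (h' : aeval (rinv Q') Q = 0) (a : AdjoinRoot Q) : dmap Q Q' h (dmap Q' Q h' a) = a := by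
  have key : (dmap Q Q' h).comp (dmap Q' Q h') = AlgHom.id F (AdjoinRoot Q) := by
    refine AdjoinRoot.algHom_ext ?_
    rw [AlgHom.comp_apply, dmap_root, AlgHom.id_apply]
    have h1 : dmap Q Q' h (AdjoinRoot.root Q') * dmap Q Q' h (rinv Q') = 1 := by
      rw [← map_mul, root_mul_rinv h0', map_one]
    rw [dmap_root] at h1
    exact (left_inv_eq_right_inv (root_mul_rinv h0) h1).symm
  exact AlgHom.congr_fun key a

theorem faithful_root {φ : AdjoinRoot Q →ₗ[F] F} (hφ : Faithful φ) {a : AdjoinRoot Q}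
    (h : ∀ i : ℕ, φ (AdjoinRoot.root Q ^ i * a) = 0) : a = 0 := by
  refine hφ _ fun c => ?_
  obtain ⟨P, rfl⟩ := AdjoinRoot.mk_surjective c
  induction P using Polynomial.induction_on' with
  | add p q hp hq => rw [map_add, add_mul, map_add, hp, hq, add_zero]
  | monomial i c =>
    rw [← C_mul_X_pow_eq_monomial, map_mul (AdjoinRoot.mk Q), map_pow (AdjoinRoot.mk Q), AdjoinRoot.mk_X,
      AdjoinRoot.mk_C, ← AdjoinRoot.algebraMap_eq, ← Algebra.smul_def, smul_mul_assoc, map_smul, h, smul_zero]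

theorem faithful_rinv [Finite F] (hQ : Q.Monic) (h0 : Q.coeff 0 ≠ 0) {φ : AdjoinRoot Q →ₗ[F] F} (hφ : Faithful φ)
    {a : AdjoinRoot Q} (h : ∀ j : ℕ, φ (a * rinv Q ^ j) = 0) : a = 0 := by
  obtain ⟨M, hM, hMr⟩ := root_pow_period hQ h0
  refine faithful_root hφ fun i => ?_
  have h1 : rinv Q ^ M = 1 := by
    calc rinv Q ^ M = AdjoinRoot.root Q ^ M * rinv Q ^ M := by rw [hMr, one_mul]
      _ = 1 := by rw [← mul_pow, root_mul_rinv h0, one_pow]
  have e : AdjoinRoot.root Q = rinv Q ^ (M - 1) := by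
    calc AdjoinRoot.root Q = AdjoinRoot.root Q * rinv Q ^ M := by rw [h1, mul_one]
      _ = _ := by
        conv_lhs => rw [show M = M - 1 + 1 by omega, pow_succ', ← mul_assoc, root_mul_rinv h0, one_mul]
  rw [e, ← pow_mul, mul_comm, h]

/-- Basic facts on the reciprocal of a power of an irreducible polynomial. -/
theorem rd_facts {f : F[X]} (hf : f.Monic) (hfi : Irreducible f) (hf0 : f.coeff 0 ≠ 0) (k : ℕ) :
    (f ^ k).coeff 0 ≠ 0 ∧ (rd f ^ k).coeff 0 ≠ 0 ∧ (rd f).Monic ∧ Irreducible (rd f) ∧ (rd f).coeff 0 ≠ 0 ∧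
      aeval (rinv (f ^ k)) (rd f ^ k) = 0 ∧ aeval (rinv (rd f ^ k)) (f ^ k) = 0 := by
  have h1 : ∀ g : F[X], g.coeff 0 ≠ 0 → (g ^ k).coeff 0 ≠ 0 := fun g hg => by
    rw [coeff_zero_eq_eval_zero, eval_pow, ← coeff_zero_eq_eval_zero]
    exact pow_ne_zero _ hg
  have hid : ∀ x : F, RingHom.id F (RingHom.id F x) = x := fun _ => rfl
  have h0' : (rd f).coeff 0 ≠ 0 := by
    rw [coeff_zero_cdual _ f hf]
    exact inv_ne_zero hf0
  refine ⟨h1 f hf0, h1 _ h0', cdual_monic _ hf0, irreducible_cdual _ hid hf hf0 hfi, h0', ?_, ?_⟩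
  · rw [← cdual_pow]
    exact aeval_rinv_cdual (h1 f hf0)
  · have h2 := aeval_rinv_cdual (h1 _ h0')
    rwa [cdual_pow, cdual_cdual _ hid hf hf0] at h2

end

section

variable {T : Tri F ε} {S : Multiset (F[X] × ℕ)} {f : F[X]} {k : ℕ}

theorem det_ne_zero (T : Tri F ε) : LinearMap.det T.g ≠ 0 :=
  ((LinearMap.isUnit_iff_ker_eq_bot _).2 (LinearMap.ker_eq_bot.2 T.g_injective) |>.map LinearMap.det).ne_zero

theorem exists_top (hS : Labels T.g S) (hx : (f, k) ∈ S) :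
    ∃ v, aeval T.g (f ^ k) v = 0 ∧ aeval T.g (f ^ (k - 1)) v ≠ 0 := by
  classical
  obtain ⟨hf, hfi, -, hk⟩ := labels_mem (det_ne_zero T) hS _ hx
  dsimp only at hf hfi hk
  by_contra h
  push Not at h
  have hle : LinearMap.ker (aeval T.g (f ^ k)) ≤ LinearMap.ker (aeval T.g (f ^ (k - 1))) := fun v hv => h v hv
  have h1 := Submodule.finrank_mono hle
  rw [finrank_ker_of_labels hS hf hfi, finrank_ker_of_labels hS hf hfi] at h1
  refine absurd h1 (not_le.2 (Multiset.sum_lt_sum (fun y _ => ?_) ⟨(f, k), hx, ?_⟩))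
  · split_ifs
    · exact Nat.mul_le_mul_right _ (min_le_min (by omega) le_rfl)
    · exact le_rfl
  · simp only [if_true, min_self]
    rw [min_eq_left (Nat.sub_le k 1)]
    exact (Nat.mul_lt_mul_right hfi.natDegree_pos).2 (by omega)

theorem ev_injective (hf : f.Monic) (hfi : Irreducible f) {v : Fin T.n → F} (hv : aeval T.g (f ^ k) v = 0)
    (hv1 : aeval T.g (f ^ (k - 1)) v ≠ 0) : Function.Injective (T.ev (hf.pow k) v) := by
  refine (injective_iff_map_eq_zero _).2 fun a ha => ?_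
  by_contra hne
  obtain ⟨b, hb⟩ := exists_mul_eq_top hfi hne
  refine hv1 ?_
  rw [← ev_mk T (hf.pow k) hv, ← hb, mul_comm, ← ev_ev T (hf.pow k) hv, ha]
  simp [Tri.ev]

/-- The primary decomposition at a maximal exponent. -/
theorem fitting (hS : Labels T.g S) (hf : f.Monic) (hfi : Irreducible f) (hmax : ∀ y ∈ S, y.2 ≤ k)
    (z : Fin T.n → F) : ∃ y w, aeval T.g (f ^ k) y = 0 ∧ z = y + aeval T.g (f ^ k) w := by
  classical
  set P := aeval T.g (f ^ k) with hP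
  have hker : ∀ x, P (P x) = 0 → P x = 0 := by
    have h2 : LinearMap.ker (aeval T.g (f ^ (k + k))) = LinearMap.ker P := by
      refine (Submodule.eq_of_le_of_finrank_eq (fun x hx => ?_) ?_).symm
      · rw [LinearMap.mem_ker, pow_add, map_mul, Module.End.mul_apply, ← hP, LinearMap.mem_ker.1 hx, map_zero]
      · rw [hP, finrank_ker_of_labels hS hf hfi, finrank_ker_of_labels hS hf hfi]
        refine congrArg Multiset.sum (Multiset.map_congr rfl fun y hy => ?_)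
        have := hmax y hy
        rw [min_eq_right this, min_eq_right (show y.2 ≤ k + k by omega)]
    intro x hx
    have : x ∈ LinearMap.ker (aeval T.g (f ^ (k + k))) := by
      rw [LinearMap.mem_ker, pow_add, map_mul, Module.End.mul_apply]
      exact hx
    rwa [h2] at this
  have hdisj : Disjoint (LinearMap.ker P) (LinearMap.range P) := by
    rw [Submodule.disjoint_def]
    rintro _ hx ⟨x, rfl⟩
    exact hker x hx
  have htop : LinearMap.ker P ⊔ LinearMap.range P = ⊤ := by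
    refine Submodule.eq_top_of_disjoint _ _ ?_ hdisj
    rw [add_comm, LinearMap.finrank_range_add_finrank_ker]
  obtain ⟨y, hy, _, ⟨w, rfl⟩, hz⟩ := Submodule.mem_sup.1 (htop ▸ Submodule.mem_top : z ∈ _)
  exact ⟨y, w, hy, hz.symm⟩

theorem orth_range (hf : f.Monic) (hfi : Irreducible f) (hf0 : f.coeff 0 ≠ 0) {x : Fin T.n → F}
    (hx : aeval T.g (f ^ k) x = 0) (w : Fin T.n → F) : T.B x (aeval T.g (rd f ^ k) w) = 0 := by
  obtain ⟨h0, -, -, -, -, h, -⟩ := rd_facts hf hfi hf0 k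
  have h1 := B_ev_aeval T (hf.pow k) h0 hx (rd f ^ k) 1 w
  rw [ev_one T (hf.pow k) hx, h, mul_zero, map_zero, map_zero, LinearMap.zero_apply] at h1
  exact h1

theorem iso_primary (hf : f.Monic) (hfi : Irreducible f) (hf0 : f.coeff 0 ≠ 0) (hne : rd f ≠ f)
    {x y : Fin T.n → F} (hx : aeval T.g (f ^ k) x = 0) (hy : aeval T.g (f ^ k) y = 0) : T.B x y = 0 := by
  obtain ⟨-, -, hm', hi', -⟩ := rd_facts hf hfi hf0 k
  obtain ⟨s, t, hst⟩ := (hfi.coprime_iff_not_dvd.2 fun hd => hne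
    (eq_of_monic_of_associated hm' hf (hfi.associated_of_dvd hi' hd).symm)).pow (m := k) (n := k)
  have : y = aeval T.g (rd f ^ k) (aeval T.g t y) := by
    conv_lhs => rw [← Module.End.one_apply (R := F) y, ← map_one (aeval (R := F) T.g), ← hst]
    rw [map_add, LinearMap.add_apply, map_mul, Module.End.mul_apply, hy, map_zero, zero_add, mul_comm t,
      map_mul, Module.End.mul_apply]
  rw [this]
  exact orth_range hf hfi hf0 hx _

theorem exists_pairing (hεε : ε * ε = 1) (hS : Labels T.g S) (hf : f.Monic) (hfi : Irreducible f)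
    (hf0 : f.coeff 0 ≠ 0) (hmax : ∀ y ∈ S, y.2 ≤ k) {v : Fin T.n → F} (hv : aeval T.g (f ^ k) v = 0)
    (hv1 : aeval T.g (f ^ (k - 1)) v ≠ 0) (φ : AdjoinRoot (f ^ k) →ₗ[F] F) :
    ∃ w, aeval T.g (rd f ^ k) w = 0 ∧ ∀ a, T.B (T.ev (hf.pow k) v a) w = φ a := by
  obtain ⟨-, -, hm', hi', -⟩ := rd_facts hf hfi hf0 k
  obtain ⟨L, hL⟩ := LinearMap.exists_leftInverse_of_injective _ (LinearMap.ker_eq_bot.2 (ev_injective hf hfi hv hv1))
  set z := (LinearMap.BilinForm.toDual T.B T.nondeg).symm (ε • φ.comp L) with hz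
  have hBz : ∀ a, T.B (T.ev (hf.pow k) v a) z = φ a := fun a => by
    rw [T.sym, hz, LinearMap.BilinForm.apply_toDual_symm_apply, LinearMap.smul_apply, smul_eq_mul, ← mul_assoc,
      hεε, one_mul, LinearMap.comp_apply, ← LinearMap.comp_apply L, hL, LinearMap.id_apply]
  obtain ⟨y, w, hy, hzw⟩ := fitting hS hm' hi' hmax z
  refine ⟨y, hy, fun a => ?_⟩
  rw [← hBz a, hzw, map_add, orth_range hf hfi hf0 (ev_killed T (hf.pow k) hv a), add_zero]

theorem eq_zero_of_pairing (hS : Labels T.g S) (hf : f.Monic) (hfi : Irreducible f) (hf0 : f.coeff 0 ≠ 0)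
    (hself : rd f = f) (hmax : ∀ y ∈ S, y.2 ≤ k) {x : Fin T.n → F} (hx : aeval T.g (f ^ k) x = 0)
    (h : ∀ y, aeval T.g (f ^ k) y = 0 → T.B x y = 0) : x = 0 := by
  refine T.nondeg.1 x fun z => ?_
  obtain ⟨y, w, hy, rfl⟩ := fitting hS hf hfi hmax z
  have h2 := orth_range hf hfi hf0 hx w
  rw [hself] at h2
  rw [map_add, h y hy, h2, add_zero]

end

/-- A family of vectors spanning an orthogonal summand with prescribed pairings. -/
def Has (T : Tri F ε) {r : ℕ} (c : Fin r → F[X] × ℕ) (hc : ∀ a, (c a).1.Monic) (P : Fin r → Fin r → ℕ → F) : Prop :=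
  ∃ u : Fin r → Fin T.n → F, (∀ a, aeval T.g ((c a).1 ^ (c a).2) (u a) = 0) ∧
    (∀ x : ∀ a, AdjoinRoot ((c a).1 ^ (c a).2),
      (∀ b j, T.B (∑ a, T.ev ((hc a).pow _) (u a) (x a)) ((T.g ^ j) (u b)) = 0) → x = 0) ∧
    ∀ a b i, T.B ((T.g ^ i) (u a)) (u b) = P a b i

section

variable [Finite F] {T : Tri F ε} {f : F[X]} {k : ℕ}

theorem pairings_zero {Q : F[X]} (hQ : Q.Monic) (h0 : Q.coeff 0 ≠ 0) {x : Fin T.n → F} (hx : aeval T.g Q x = 0)
    (h : ∀ i, T.B ((T.g ^ i) x) x = 0) (a : AdjoinRoot Q) (j : ℕ) : T.B (T.ev hQ x a) ((T.g ^ j) x) = 0 := by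
  have hP : ∀ P : F[X], T.B (aeval T.g P x) x = 0 := fun P => by
    induction P using Polynomial.induction_on' with
    | add p q hp hq => simp only [map_add, LinearMap.add_apply, hp, hq, add_zero]
    | monomial i c => simp [aeval_monomial, Module.End.mul_apply, h]
  have h1 := B_ev_aeval T hQ h0 hx (X ^ j) a x
  rw [map_pow, aeval_X, map_pow, aeval_X] at h1
  rw [h1]
  obtain ⟨P, hP'⟩ := AdjoinRoot.mk_surjective (a * rinv Q ^ j)
  rw [← hP', ev_mk T hQ hx, hP]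

theorem has_pair (hεε : ε * ε = 1) (hf : f.Monic) (hfi : Irreducible f) (hf0 : f.coeff 0 ≠ 0)
    {φ : AdjoinRoot (f ^ k) →ₗ[F] F} (hφ : Faithful φ) {v w : Fin T.n → F} (hv : aeval T.g (f ^ k) v = 0)
    (hw : aeval T.g (rd f ^ k) w = 0) (hvv : ∀ i, T.B ((T.g ^ i) v) v = 0) (hww : ∀ i, T.B ((T.g ^ i) w) w = 0)
    (hvw : ∀ a, T.B (T.ev (hf.pow k) v a) w = φ a) (hc : ∀ a, ((![(f, k), (rd f, k)] : Fin 2 → F[X] × ℕ) a).1.Monic) :
    Has T ![(f, k), (rd f, k)] hc (fun a b i =>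
      ![![(0 : F), φ (AdjoinRoot.root (f ^ k) ^ i)], ![ε * φ (rinv (f ^ k) ^ i), 0]] a b) := by
  obtain ⟨h0, h0', hm', -, -, h, h'⟩ := rd_facts hf hfi hf0 k
  have hgw : ∀ (a : AdjoinRoot (f ^ k)) j, T.B (T.ev (hf.pow k) v a) ((T.g ^ j) w) = φ (a * rinv (f ^ k) ^ j) := by
    intro a j
    have h1 := B_ev_aeval T (hf.pow k) h0 hv (X ^ j) a w
    rw [map_pow, aeval_X, map_pow, aeval_X] at h1
    rw [h1, hvw]
  refine ⟨![v, w], fun a => ?_, fun x hx => ?_, fun a b i => ?_⟩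
  · fin_cases a
    · exact hv
    · exact hw
  · have key : ∀ (a : AdjoinRoot (f ^ k)) (b : AdjoinRoot (rd f ^ k)),
        (∀ j, T.B (T.ev (hf.pow k) v a + T.ev (hm'.pow k) w b) ((T.g ^ j) v) = 0) →
        (∀ j, T.B (T.ev (hf.pow k) v a + T.ev (hm'.pow k) w b) ((T.g ^ j) w) = 0) → a = 0 ∧ b = 0 := by
      intro a b h1 h2
      have ha : a = 0 := faithful_rinv (hf.pow k) h0 hφ fun j => by
        have h3 := h2 j
        rwa [map_add, LinearMap.add_apply, hgw, pairings_zero (hm'.pow k) h0' hw hww, add_zero] at h3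
      refine ⟨ha, ?_⟩
      have hd : dmap (f ^ k) (rd f ^ k) h b = 0 := faithful_root hφ fun i => by
        have h3 := h1 i
        rw [map_add, LinearMap.add_apply, pairings_zero (hf.pow k) h0 hv hvv, zero_add, T.sym] at h3
        rw [← hvw, ← adjoint T (hf.pow k) h0 (hm'.pow k) h hv hw, ← mul_one (AdjoinRoot.root (f ^ k) ^ i),
          ev_root_pow_mul T (hf.pow k) hv, ev_one T (hf.pow k) hv]
        exact (mul_eq_zero.1 h3).resolve_left (left_ne_zero_of_mul_eq_one hεε)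
      have := dmap_dmap h0' h0 h' h b
      rw [hd, map_zero] at this
      exact this.symm
    obtain ⟨hx0, hx1⟩ := key (x 0) (x 1) (fun j => by have h := hx 0 j; rw [Fin.sum_univ_two] at h; exact h)
      (fun j => by have h := hx 1 j; rw [Fin.sum_univ_two] at h; exact h)
    funext a
    fin_cases a
    · exact hx0
    · exact hx1
  · fin_cases a <;> fin_cases b
    · exact hvv i
    · show T.B ((T.g ^ i) v) w = φ (AdjoinRoot.root (f ^ k) ^ i)
      rw [← hvw, ← mul_one (AdjoinRoot.root (f ^ k) ^ i), ev_root_pow_mul T (hf.pow k) hv, ev_one T (hf.pow k) hv]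
    · show T.B ((T.g ^ i) w) v = ε * φ (rinv (f ^ k) ^ i)
      rw [T.sym]
      congr 1
      have h1 := hgw 1 i
      rwa [ev_one T (hf.pow k) hv, one_mul] at h1
    · exact hww i

theorem has_single {c₀ : F[X] × ℕ} (hf : c₀.1.Monic) (h0 : (c₀.1 ^ c₀.2).coeff 0 ≠ 0) (v : Fin T.n → F)
    (hv : aeval T.g (c₀.1 ^ c₀.2) v = 0) (φ : AdjoinRoot (c₀.1 ^ c₀.2) →ₗ[F] F) (hφ : Faithful φ)
    (hvv : ∀ a, T.B (T.ev (hf.pow _) v a) v = φ a) :
    Has T (fun _ : Fin 1 => c₀) (fun _ => hf) (fun _ _ i => φ (AdjoinRoot.root (c₀.1 ^ c₀.2) ^ i)) := by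
  refine ⟨fun _ => v, fun _ => hv, fun x hx => ?_, fun a b i => ?_⟩
  · funext a
    obtain rfl : a = 0 := Subsingleton.elim _ _
    have key : ∀ a : AdjoinRoot (c₀.1 ^ c₀.2), (∀ j, T.B (T.ev (hf.pow _) v a) ((T.g ^ j) v) = 0) → a = 0 :=
      fun a ha => faithful_rinv (hf.pow _) h0 hφ fun j => by
        have h2 := B_ev_aeval T (hf.pow c₀.2) h0 hv (X ^ j) a v
        rw [map_pow, aeval_X, map_pow, aeval_X, ha, hvv] at h2
        exact h2.symm
    exact key (x 0) fun j => by simpa using hx 0 j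
  · show T.B ((T.g ^ i) v) v = φ (AdjoinRoot.root (c₀.1 ^ c₀.2) ^ i)
    rw [← hvv, ← mul_one (AdjoinRoot.root (c₀.1 ^ c₀.2) ^ i), ev_root_pow_mul T (hf.pow _) hv, ev_one T (hf.pow _) hv]

end

section Self

variable [Finite F] {T : Tri F ε} {Q : F[X]}

theorem ev_zero_left (hQ : Q.Monic) (a : AdjoinRoot Q) : T.ev hQ 0 a = 0 := by
  simp [Tri.ev]

theorem phi_sym (hQ : Q.Monic) (h0 : Q.coeff 0 ≠ 0) (h : aeval (rinv Q) Q = 0) {v : Fin T.n → F}
    (hv : aeval T.g Q v = 0) (c : AdjoinRoot Q) :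
    T.B (T.ev hQ v c) v = ε * T.B (T.ev hQ v (dmap Q Q h c)) v := by
  rw [T.sym, B_self T hQ h0 hv hv hQ h]

/-- Symmetric faithful functionals differing by a norm. -/
theorem exists_norm_shift (hεε : ε * ε = 1) (hQ : Q.Monic) (h0 : Q.coeff 0 ≠ 0) (h : aeval (rinv Q) Q = 0)
    {φ φ' : AdjoinRoot Q →ₗ[F] F} (hφ : Faithful φ) (hφ' : Faithful φ')
    (hs : ∀ c, φ c = ε * φ (dmap Q Q h c)) (hs' : ∀ c, φ' c = ε * φ' (dmap Q Q h c)) :
    ∃ s : AdjoinRoot Q, IsUnit s ∧ dmap Q Q h s = s ∧ ∀ c, φ' c = φ (c * s) := by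
  set τ := dmap Q Q h
  have hττ : ∀ a, τ (τ a) = a := dmap_dmap h0 h0 h h
  obtain ⟨s, hs1⟩ := exists_dual hQ hφ φ'
  obtain ⟨s', hs2⟩ := exists_dual hQ hφ' φ
  refine ⟨s, isUnit_iff_exists_inv.2 ⟨s', sub_eq_zero.1 (hφ _ fun c => ?_)⟩, ?_, hs1⟩
  · rw [mul_sub, map_sub, mul_one, sub_eq_zero, mul_comm s, ← mul_assoc, ← hs1, ← hs2]
  · refine sub_eq_zero.1 (hφ _ fun c => ?_)
    rw [mul_sub, map_sub, sub_eq_zero, hs (c * τ s), map_mul τ, hττ, ← hs1, ← hs1, ← hs' c]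

/-- Making a vector isotropic with the help of a partner. -/
theorem isotropize (hεε : ε * ε = 1) (h2 : (2 : F) ≠ 0) (hQ : Q.Monic) (h0 : Q.coeff 0 ≠ 0)
    (h : aeval (rinv Q) Q = 0) {π : AdjoinRoot Q} {k : ℕ} (hπk : π ^ k = 0) {e₀ : AdjoinRoot Q}
    (hπ : dmap Q Q h π = π * e₀) {φ : AdjoinRoot Q →ₗ[F] F} (hφ : Faithful φ) {v w : Fin T.n → F}
    (hv : aeval T.g Q v = 0) (hw : aeval T.g Q w = 0) (hvw : ∀ c, T.B (T.ev hQ v c) w = φ c)
    {b₁ : AdjoinRoot Q} (hww : ∀ c, T.B (T.ev hQ w c) w = φ (c * (π * b₁))) :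
    ∃ t : AdjoinRoot Q, (∀ c, T.B (T.ev hQ (v + T.ev hQ w t) c) (v + T.ev hQ w t) = 0) ∧
      IsUnit (1 + π * b₁ * t) ∧ ∀ c, T.B (T.ev hQ (v + T.ev hQ w t) c) w = φ (c * (1 + π * b₁ * t)) := by
  set τ := dmap Q Q h with hτ
  have hττ : ∀ a, τ (τ a) = a := dmap_dmap h0 h0 h h
  obtain ⟨ρ, hρ⟩ := exists_dual hQ hφ (φ.comp τ.toLinearMap)
  have hρ' : ∀ c, φ (τ c) = φ (c * ρ) := hρ
  have hρρ : ρ * τ ρ = 1 := by
    refine sub_eq_zero.1 (hφ _ fun c => ?_)
    rw [mul_sub, map_sub, sub_eq_zero, mul_one]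
    calc φ (c * (ρ * τ ρ)) = φ (c * τ ρ * ρ) := by congr 1; ring
      _ = φ (τ (c * τ ρ)) := (hρ' _).symm
      _ = φ (τ c * ρ) := by rw [map_mul τ, hττ]
      _ = φ (τ (τ c)) := (hρ' _).symm
      _ = φ c := by rw [hττ]
  let ψ : AdjoinRoot Q →ₗ[F] F := (T.B.flip v).comp (T.ev hQ v)
  obtain ⟨a, ha⟩ := exists_dual hQ hφ ψ
  have ha' : ∀ c, T.B (T.ev hQ v c) v = φ (c * a) := ha
  set b := π * b₁ with hb
  set e : AdjoinRoot Q := algebraMap F _ ε with he
  have hee : e * e = 1 := by rw [he, ← map_mul, hεε, map_one]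
  have heφ : ∀ c, φ (e * c) = ε * φ c := fun c => by rw [he, ← Algebra.smul_def, map_smul, smul_eq_mul]
  have hτe : τ e = e := τ.commutes ε
  have hsym : ∀ (x : Fin T.n → F) (y : AdjoinRoot Q), aeval T.g Q x = 0 →
      (∀ c, T.B (T.ev hQ x c) x = φ (c * y)) → y = e * ρ * τ y := fun x y hx hy => by
    refine sub_eq_zero.1 (hφ _ fun c => ?_)
    rw [mul_sub, map_sub, sub_eq_zero]
    calc φ (c * y) = ε * φ (τ c * y) := by rw [← hy, ← hy, phi_sym hQ h0 h hx c]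
      _ = ε * φ (τ (c * τ y)) := by rw [map_mul τ, hττ]
      _ = φ (e * (c * τ y * ρ)) := by rw [hρ', heφ]
      _ = φ (c * (e * ρ * τ y)) := by congr 1; ring
  have ha2 := hsym v a hv ha'
  have hb2 := hsym w b hw hww
  obtain ⟨half, hhalf⟩ : ∃ half : F, half * 2 = 1 := ⟨2⁻¹, inv_mul_cancel₀ h2⟩
  set H : AdjoinRoot Q := algebraMap F _ half with hH
  have hH2 : H * 2 = 1 := by rw [hH, ← map_ofNat (algebraMap F (AdjoinRoot Q)) 2, ← map_mul, hhalf, map_one]
  have hτH : τ H = H := τ.commutes half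
  let step : AdjoinRoot Q → AdjoinRoot Q := fun t => -(H * τ (a + b * (t * τ t)))
  let t : ℕ → AdjoinRoot Q := fun i => step^[i] 0
  have ht1 : ∀ i, t (i + 1) = step (t i) := fun i => Function.iterate_succ_apply' step i 0
  have hinv : ∀ i, τ (t i) = e * ρ * t i := fun i => by
    induction i with
    | zero => simp [t]
    | succ i ih =>
      rw [ht1]
      show τ (-(H * τ (a + b * (t i * τ (t i))))) = e * ρ * -(H * τ (a + b * (t i * τ (t i))))
      rw [map_neg, map_mul, hττ, hτH]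
      simp only [map_add, map_mul, hττ]
      linear_combination (-H) * ha2 - H * (t i * τ (t i)) * hb2
  have hdiff : ∀ i, ∃ r, t (i + 1) - t i = π ^ i * r := fun i => by
    induction i with
    | zero => exact ⟨t 1 - t 0, by rw [pow_zero, one_mul]⟩
    | succ i ih =>
      obtain ⟨r, hr⟩ := ih
      refine ⟨-(H * (e₀ * τ b₁) * e₀ ^ i * τ (r * τ (t (i + 1)) + t i * (e₀ ^ i * τ r))), ?_⟩
      have hs : t (i + 1 + 1) - t (i + 1) = step (t (i + 1)) - step (t i) := by rw [← ht1, ← ht1]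
      rw [hs]
      simp only [step]
      have e1 : τ (t (i + 1)) - τ (t i) = π ^ i * (e₀ ^ i * τ r) := by
        rw [← map_sub, hr, map_mul, map_pow, hπ, mul_pow]; ring
      have e2 : t (i + 1) * τ (t (i + 1)) - t i * τ (t i) = π ^ i * (r * τ (t (i + 1)) + t i * (e₀ ^ i * τ r)) := by
        linear_combination τ (t (i + 1)) * hr + t i * e1
      have e3 : τ (t (i + 1) * τ (t (i + 1))) - τ (t i * τ (t i))
          = π ^ i * e₀ ^ i * τ (r * τ (t (i + 1)) + t i * (e₀ ^ i * τ r)) := by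
        rw [← map_sub, e2, map_mul, map_pow, hπ, mul_pow]
      rw [map_add τ a, map_add τ a, map_mul τ b, map_mul τ b, hb, map_mul τ π, hπ]
      linear_combination (-H * (π * e₀ * τ b₁)) * e3
  obtain ⟨r, hr⟩ := hdiff k
  rw [hπk, zero_mul, sub_eq_zero, ht1] at hr
  set t₀ := t k with ht0
  have hsol : a + τ t₀ + e * ρ * t₀ + b * (t₀ * τ t₀) = 0 := by
    have h1 : τ t₀ = -(H * (a + b * (t₀ * τ t₀))) := by
      conv_lhs => rw [← hr]
      show τ (-(H * τ (a + b * (t₀ * τ t₀)))) = _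
      rw [map_neg, map_mul, hττ, hτH]
    rw [← hinv k]
    linear_combination 2 * h1 - (a + b * (t₀ * τ t₀)) * hH2
  refine ⟨t₀, fun c => ?_, ?_, fun c => ?_⟩
  · rw [ev_add, ev_ev T hQ hw, map_add, map_add, LinearMap.add_apply, LinearMap.add_apply, ha',
      adjoint T hQ h0 hQ h hv hw, hvw, T.sym (T.ev hQ w (c * t₀)) v, B_self T hQ h0 hv hw hQ h, hvw,
      adjoint T hQ h0 hQ h hw hw, hww, hρ', ← heφ, ← map_add, ← map_add, ← map_add]
    rw [show c * a + e * (c * t₀ * ρ) + (c * τ t₀ + c * t₀ * τ t₀ * b) = c * (a + τ t₀ + e * ρ * t₀ + b * (t₀ * τ t₀)) by ring,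
      hsol, mul_zero, map_zero]
  · exact IsNilpotent.isUnit_one_add ⟨k, by rw [hb, mul_assoc, mul_pow, hπk, zero_mul]⟩
  · rw [ev_add, ev_ev T hQ hw, map_add, LinearMap.add_apply, hvw, hww, ← map_add]
    congr 1; ring

end Self

end Cfsg.Agent.Classical.IsometryClasses
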