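import Cfsg.Agent.Lib.Classical.IsometryBlocks

/-!
In odd characteristic at most `2 ^ e` isometry classes share the elementary divisors, `e` the number of distinct
divisors `(X ∓ 1) ^ k` with `ε (-1) ^ (k - 1) = 1`.
-/

set_option autoImplicit false

namespace Cfsg.Agent.Classical.IsometryClasses

open Polynomial Module
open LinearMap (BilinForm)
open Cfsg.Agent.Classical.SLClasses Cfsg.Agent.Classical.UnitClasses Cfsg.Agent.UnitaryDetCentralizer

universe u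

variable {F : Type u} [Field F] {ε : F}

attribute [local instance] Classical.propDecidable

/-- An elementary divisor carrying a sign. -/
def IsSign (ε : F) (x : F[X] × ℕ) : Prop := ∃ δ : F, δ * δ = 1 ∧ x.1 = X - C δ ∧ ε * (-1) ^ (x.2 - 1) = 1

/-- The number of signs. -/
noncomputable def numSigns (ε : F) (S : Multiset (F[X] × ℕ)) : ℕ := (S.toFinset.filter (IsSign ε)).card

theorem killed_pow (T : Tri F ε) {P : F[X]} {x : Fin T.n → F} (hx : aeval T.g P x = 0) (i : ℕ) :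
    aeval T.g P ((T.g ^ i) x) = 0 := by
  rw [← Module.End.mul_apply, ((CommutatorSL.commute_aeval_self T.g P).pow_right i).eq, Module.End.mul_apply, hx,
    map_zero]

variable [Finite F] {T : Tri F ε} {S : Multiset (F[X] × ℕ)} {f : F[X]} {k : ℕ}

theorem step_pair (hεε : ε * ε = 1) (hf : f.Monic) (hfi : Irreducible f) (hf0 : f.coeff 0 ≠ 0) (hne : rd f ≠ f)
    (hS : Labels T.g S) (hx : (f, k) ∈ S) (hmax : ∀ y ∈ S, y.2 ≤ k) {φ : AdjoinRoot (f ^ k) →ₗ[F] F}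
    (hφ : Faithful φ) (hc : ∀ a, ((![(f, k), (rd f, k)] : Fin 2 → F[X] × ℕ) a).1.Monic) :
    Has T ![(f, k), (rd f, k)] hc (fun a b i =>
      ![![(0 : F), φ (AdjoinRoot.root (f ^ k) ^ i)], ![ε * φ (rinv (f ^ k) ^ i), 0]] a b) := by
  obtain ⟨-, -, hm', hi', hf0', -⟩ := rd_facts hf hfi hf0 k
  obtain ⟨v, hv, hv1⟩ := exists_top hS hx
  obtain ⟨w, hw, hvw⟩ := exists_pairing hεε hS hf hfi hf0 hmax hv hv1 φ
  have hne' : rd (rd f) ≠ rd f := by
    rw [rd, rd, cdual_cdual _ (fun _ => rfl) hf hf0]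
    exact hne.symm
  exact has_pair hεε hf hfi hf0 hφ hv hw (fun i => iso_primary hf hfi hf0 hne (killed_pow T hv i) hv)
    (fun i => iso_primary hm' hi' hf0' hne' (killed_pow T hw i) hw) hvw hc

theorem rescale (hQ : (f ^ k).Monic) (h0 : (f ^ k).coeff 0 ≠ 0) (h : aeval (rinv (f ^ k)) (f ^ k) = 0)
    {v : Fin T.n → F} (hv : aeval T.g (f ^ k) v = 0) {φ : AdjoinRoot (f ^ k) →ₗ[F] F}
    {s u : AdjoinRoot (f ^ k)} (hu : u * dmap _ _ h u = s)
    (hs : ∀ c, φ c = T.B (T.ev hQ v (c * s)) v) :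
    ∃ v', aeval T.g (f ^ k) v' = 0 ∧ ∀ c, T.B (T.ev hQ v' c) v' = φ c :=
  ⟨T.ev hQ v u, ev_killed T hQ hv u, fun c => by
    rw [ev_ev T hQ hv, adjoint T hQ h0 hQ h hv hv, mul_assoc, hu, hs]⟩

theorem polar (hεε : ε * ε = 1) (hS : Labels T.g S) (hf : f.Monic) (hfi : Irreducible f) (hf0 : f.coeff 0 ≠ 0)
    (hself : rd f = f) (hmax : ∀ y ∈ S, y.2 ≤ k) (hx : (f, k) ∈ S) (h : aeval (rinv (f ^ k)) (f ^ k) = 0)
    {c : AdjoinRoot (f ^ k)}
    (hc : ∀ v, aeval T.g (f ^ k) v = 0 → T.B (T.ev (hf.pow k) v c) v = 0) :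
    c + algebraMap F _ ε * dmap _ _ h c = 0 := by
  obtain ⟨h0, -⟩ := rd_facts hf hfi hf0 k
  obtain ⟨v, hv, hv1⟩ := exists_top hS hx
  refine ev_injective hf hfi hv hv1 ?_
  rw [map_zero]
  refine eq_zero_of_pairing hS hf hfi hf0 hself hmax (ev_killed T (hf.pow k) hv _) fun w hw => ?_
  have hvw := hc (v + w) (by rw [map_add, hv, hw, add_zero])
  rw [ev_add, map_add, map_add, LinearMap.add_apply, LinearMap.add_apply, hc v hv, hc w hw,
    T.sym (T.ev (hf.pow k) w c) v, B_self T (hf.pow k) h0 hv hw (hf.pow k) h] at hvw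
  rw [map_add, map_add, LinearMap.add_apply, ← Algebra.smul_def, map_smul, map_smul, LinearMap.smul_apply, smul_eq_mul]
  linear_combination hvw

theorem mk_pow_ne_zero (hfi : Irreducible f) (hk : 1 ≤ k) : AdjoinRoot.mk (f ^ k) (f ^ (k - 1)) ≠ 0 := fun h => by
  have h1 := (pow_dvd_pow_iff hfi.ne_zero hfi.not_isUnit).1 (AdjoinRoot.mk_eq_zero.1 h)
  omega

/-- A self-dual divisor of degree at least two. -/
theorem exists_aniso_generic (hεε : ε * ε = 1) (hS : Labels T.g S) (hf : f.Monic) (hfi : Irreducible f)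
    (hf0 : f.coeff 0 ≠ 0) (hself : rd f = f) (hmax : ∀ y ∈ S, y.2 ≤ k) (hk : 1 ≤ k) (hx : (f, k) ∈ S)
    (h : aeval (rinv (f ^ k)) (f ^ k) = 0)
    (hunit : IsUnit (AdjoinRoot.root (f ^ k) - rinv (f ^ k))) :
    ∃ v, aeval T.g (f ^ k) v = 0 ∧ Faithful ((T.B.flip v).comp (T.ev (hf.pow k) v)) := by
  by_contra hne
  push Not at hne
  have hall : ∀ c v, aeval T.g (f ^ k) v = 0 →
      T.B (T.ev (hf.pow k) v (c * AdjoinRoot.mk (f ^ k) (f ^ (k - 1)))) v = 0 := fun c v hv => by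
    by_contra h1
    exact hne v hv (faithful_of_top hfi (c := c) h1)
  set Z := AdjoinRoot.mk (f ^ k) (f ^ (k - 1))
  set τ := dmap _ _ h
  set e := algebraMap F (AdjoinRoot (f ^ k)) ε
  have h1 := polar hεε hS hf hfi hf0 hself hmax hx h (c := 1 * Z) (fun v hv => hall 1 v hv)
  have h2 := polar hεε hS hf hfi hf0 hself hmax hx h (c := AdjoinRoot.root (f ^ k) * Z) (fun v hv => hall _ v hv)
  rw [map_mul τ, dmap_root] at h2
  rw [map_mul τ, map_one, one_mul] at h1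
  have h3 : (AdjoinRoot.root (f ^ k) - rinv (f ^ k)) * Z = 0 := by
    linear_combination h2 - rinv (f ^ k) * h1
  exact mk_pow_ne_zero hfi hk (hunit.mul_right_eq_zero.1 h3)

theorem step_generic (hεε : ε * ε = 1) (hf : f.Monic) (hfi : Irreducible f) (hf0 : f.coeff 0 ≠ 0) (hk : 1 ≤ k)
    (hself : rd f = f) (hunit : IsUnit (AdjoinRoot.root (f ^ k) - rinv (f ^ k)))
    (hx : (f, k) ∈ S) (hmax : ∀ y ∈ S, y.2 ≤ k) (T₀ : Tri F ε) (hS₀ : Labels T₀.g S) :
    ∃ φ : AdjoinRoot (f ^ k) →ₗ[F] F, ∀ T : Tri F ε, Labels T.g S →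
      Has T (fun _ : Fin 1 => (f, k)) (fun _ => hf) (fun _ _ i => φ (AdjoinRoot.root (f ^ k) ^ i)) := by
  obtain ⟨h0, -, -, -, -, h, -⟩ := rd_facts hf hfi hf0 k
  rw [hself] at h
  haveI : Module.Finite F (AdjoinRoot (f ^ k)) := (AdjoinRoot.powerBasis (hf.pow k).ne_zero).finite
  haveI : Finite (AdjoinRoot (f ^ k)) := Module.finite_of_finite F
  obtain ⟨v₀, hv₀, hF₀⟩ := exists_aniso_generic hεε hS₀ hf hfi hf0 hself hmax hk hx h hunit
  refine ⟨(T₀.B.flip v₀).comp (T₀.ev (hf.pow k) v₀), fun T hS => ?_⟩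
  obtain ⟨v, hv, hFv⟩ := exists_aniso_generic hεε hS hf hfi hf0 hself hmax hk hx h hunit
  obtain ⟨s, hsu, hst, hs⟩ := exists_norm_shift hεε (hf.pow k) h0 h hFv hF₀
    (fun c => phi_sym (hf.pow k) h0 h hv c) (fun c => phi_sym (hf.pow k) h0 h hv₀ c)
  obtain ⟨u, -, hu⟩ := UnitaryConjugacy.exists_norm (dmap _ _ h).toRingHom (dmap_dmap h0 h0 h h)
    (θ := AdjoinRoot.root (f ^ k)) (by
      show IsUnit (_ - dmap _ _ h (AdjoinRoot.root (f ^ k)))
      rwa [dmap_root]) hst hsu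
  obtain ⟨v', hv', hvv⟩ := rescale (hf.pow k) h0 h hv hu (φ := (T₀.B.flip v₀).comp (T₀.ev (hf.pow k) v₀)) hs
  exact has_single (c₀ := (f, k)) hf h0 v' hv' _ hF₀ hvv

section Linear

variable {δ : F}

theorem pi_facts (hδ : δ * δ = 1) (h0 : ((X - C δ) ^ k).coeff 0 ≠ 0)
    (h : aeval (rinv ((X - C δ) ^ k)) ((X - C δ) ^ k) = 0) :
    AdjoinRoot.mk ((X - C δ) ^ k) (X - C δ) ^ k = 0 ∧
    ∃ e₀, dmap _ _ h (AdjoinRoot.mk ((X - C δ) ^ k) (X - C δ))
        = AdjoinRoot.mk ((X - C δ) ^ k) (X - C δ) * e₀ ∧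
      (1 ≤ k → ∀ j : ℕ, AdjoinRoot.mk ((X - C δ) ^ k) ((X - C δ) ^ (k - 1)) * e₀ ^ j
        = AdjoinRoot.mk ((X - C δ) ^ k) ((X - C δ) ^ (k - 1)) * (-1) ^ j) := by
  set Q : F[X] := (X - C δ) ^ k with hQ
  set π := AdjoinRoot.mk Q (X - C δ) with hπ
  set d := algebraMap F (AdjoinRoot Q) δ with hd
  have hπk : π ^ k = 0 := by rw [hπ, ← map_pow, ← hQ, AdjoinRoot.mk_self]
  have hπe : π = AdjoinRoot.root Q - d := by
    rw [hπ, map_sub, AdjoinRoot.mk_X, AdjoinRoot.mk_C, hd, AdjoinRoot.algebraMap_eq]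
  have hdd : d * d = 1 := by rw [hd, ← map_mul, hδ, map_one]
  have hr := root_mul_rinv h0
  refine ⟨hπk, -(d * rinv Q), ?_, fun hk j => ?_⟩
  · rw [hπe, map_sub, dmap_root, hd, AlgHom.commutes, ← hd]
    linear_combination d * hr - rinv Q * hdd
  · have hZ : AdjoinRoot.mk Q ((X - C δ) ^ (k - 1)) * π = 0 := by
      rw [hπ, ← map_mul, ← pow_succ, Nat.sub_add_cancel hk, ← hQ, AdjoinRoot.mk_self]
    induction j with
    | zero => rw [pow_zero, pow_zero]
    | succ j ih =>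
      rw [pow_succ, ← mul_assoc, ih, pow_succ]
      rw [hπe] at hZ
      linear_combination ((-1 : AdjoinRoot Q) ^ j * rinv Q) * hZ - (AdjoinRoot.mk Q ((X - C δ) ^ (k - 1)) * (-1) ^ j) * hr

theorem residue (c : AdjoinRoot ((X - C δ) ^ k)) :
    ∃ (c₀ : F) (c₁ : AdjoinRoot ((X - C δ) ^ k)), c = algebraMap F _ c₀ + AdjoinRoot.mk _ (X - C δ) * c₁ := by
  obtain ⟨P, rfl⟩ := AdjoinRoot.mk_surjective c
  obtain ⟨R, hR⟩ := X_sub_C_dvd_sub_C_eval (a := δ) (p := P)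
  refine ⟨P.eval δ, AdjoinRoot.mk _ R, ?_⟩
  rw [← map_mul, ← hR, AdjoinRoot.algebraMap_eq, ← AdjoinRoot.mk_C, ← map_add, add_sub_cancel]

theorem linear_facts (hδ : δ * δ = 1) :
    (X - C δ).Monic ∧ Irreducible (X - C δ) ∧ (X - C δ).coeff 0 ≠ 0 ∧ rd (X - C δ) = X - C δ := by
  have h0 : (X - C δ).coeff 0 ≠ 0 := by
    rw [coeff_sub, coeff_X_zero, coeff_C_zero, zero_sub, neg_ne_zero]
    exact left_ne_zero_of_mul_eq_one hδ
  refine ⟨monic_X_sub_C δ, irreducible_X_sub_C δ, h0, ?_⟩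
  rw [rd]
  have h1 := natDegree_cdual (RingHom.id F) h0
  rw [natDegree_X_sub_C] at h1
  rw [(cdual_monic (RingHom.id F) h0).eq_X_add_C h1, coeff_zero_cdual _ _ (monic_X_sub_C δ), RingHom.id_apply,
    coeff_sub, coeff_X_zero, coeff_C_zero, zero_sub, inv_neg, inv_eq_of_mul_eq_one_left hδ, C_neg, sub_eq_add_neg]

theorem self_linear (hδ : δ * δ = 1) (k : ℕ) :
    ((X - C δ) ^ k).coeff 0 ≠ 0 ∧ aeval (rinv ((X - C δ) ^ k)) ((X - C δ) ^ k) = 0 := by
  obtain ⟨hf, hfi, hf0, hself⟩ := linear_facts hδ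
  obtain ⟨h0, -, -, -, -, h, -⟩ := rd_facts hf hfi hf0 k
  rw [hself] at h
  exact ⟨h0, h⟩

/-- Two symmetric faithful functionals in the same square class differ by a norm. -/
theorem exists_square_norm (hεε : ε * ε = 1) (h2 : (2 : F) ≠ 0) (hδ : δ * δ = 1) (hk : 1 ≤ k)
    (h : aeval (rinv ((X - C δ) ^ k)) ((X - C δ) ^ k) = 0)
    {φ φ' : AdjoinRoot ((X - C δ) ^ k) →ₗ[F] F} (hφ : Faithful φ) (hφ' : Faithful φ')
    (hs : ∀ c, φ c = ε * φ (dmap _ _ h c)) (hs' : ∀ c, φ' c = ε * φ' (dmap _ _ h c))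
    (hsq : IsSquare (φ (AdjoinRoot.mk _ ((X - C δ) ^ (k - 1))) * φ' (AdjoinRoot.mk _ ((X - C δ) ^ (k - 1))))) :
    ∃ s u, u * dmap _ _ h u = s ∧ ∀ c, φ' c = φ (c * s) := by
  classical
  obtain ⟨hf, -⟩ := linear_facts hδ
  obtain ⟨h0, -⟩ := self_linear hδ k
  set τ := dmap ((X - C δ) ^ k) ((X - C δ) ^ k) h with hτ
  set π := AdjoinRoot.mk ((X - C δ) ^ k) (X - C δ) with hπ
  set Z := AdjoinRoot.mk ((X - C δ) ^ k) ((X - C δ) ^ (k - 1)) with hZ
  haveI : Module.Finite F (AdjoinRoot ((X - C δ) ^ k)) := (AdjoinRoot.powerBasis (hf.pow k).ne_zero).finite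
  obtain ⟨s, hsu, hst, hss⟩ := exists_norm_shift hεε (hf.pow k) h0 h hφ hφ' hs hs'
  obtain ⟨s₀, s₁, hs01⟩ := residue (δ := δ) (k := k) s
  rw [← hπ] at hs01
  have hZπ : Z * π = 0 := by rw [hZ, hπ, ← map_mul, ← pow_succ, Nat.sub_add_cancel hk, AdjoinRoot.mk_self]
  have hc : φ' Z = s₀ * φ Z := by
    rw [hss, hs01, mul_add, ← mul_assoc, hZπ, zero_mul, add_zero, mul_comm, ← Algebra.smul_def, map_smul, smul_eq_mul]
  have hπk : π ^ k = 0 := (pi_facts hδ h0 h).1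
  have hnil : IsNilpotent π := ⟨k, hπk⟩
  have hs0 : s₀ ≠ 0 := by
    rintro rfl
    rw [map_zero, zero_add] at hs01
    haveI : Nontrivial (AdjoinRoot ((X - C δ) ^ k)) := ⟨⟨Z, 0, mk_pow_ne_zero (irreducible_X_sub_C δ) hk⟩⟩
    exact ((Commute.all π s₁).isNilpotent_mul_right hnil).not_isUnit (hs01 ▸ hsu)
  have hφZ : φ Z ≠ 0 := by
    intro h1
    have hfun : ∀ c, φ (c * Z) = 0 := fun c => by
      obtain ⟨c₀, c₁, hc⟩ := residue (δ := δ) (k := k) c
      rw [← hπ] at hc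
      rw [hc, add_mul, mul_right_comm, mul_comm π Z, hZπ, zero_mul, add_zero, ← Algebra.smul_def, map_smul, h1, smul_zero]
    exact mk_pow_ne_zero (irreducible_X_sub_C δ) hk (hφ _ hfun)
  obtain ⟨r, hr⟩ : IsSquare s₀ := by
    obtain ⟨x, hx⟩ := hsq
    refine ⟨x / φ Z, ?_⟩
    rw [div_mul_div_comm, ← hx, hc]
    field_simp
  have hr0 : r ≠ 0 := fun h1 => hs0 (by rw [hr, h1, mul_zero])
  set i₀ := algebraMap F (AdjoinRoot ((X - C δ) ^ k)) s₀⁻¹ with hi₀
  have hi : i₀ * algebraMap F (AdjoinRoot ((X - C δ) ^ k)) s₀ = 1 := by rw [hi₀, ← map_mul, inv_mul_cancel₀ hs0, map_one]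
  obtain ⟨p, hp⟩ := CharP.exists F
  haveI := hp
  haveI : Fact p.Prime := ⟨CharP.char_is_prime F p⟩
  haveI : Nontrivial (AdjoinRoot ((X - C δ) ^ k)) := ⟨⟨Z, 0, mk_pow_ne_zero (irreducible_X_sub_C δ) hk⟩⟩
  haveI : CharP (AdjoinRoot ((X - C δ) ^ k)) p := charP_of_injective_algebraMap (algebraMap F (AdjoinRoot ((X - C δ) ^ k))).injective p
  haveI : ExpChar (AdjoinRoot ((X - C δ) ^ k)) p := .prime Fact.out
  have hpow : (i₀ * s) ^ p ^ k = 1 := by
    have e : i₀ * s = 1 + π * (i₀ * s₁) := by rw [hs01, mul_add, hi]; ring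
    rw [e, add_pow_expChar_pow, one_pow, mul_pow,
      pow_eq_zero_of_le (Nat.lt_pow_self (Fact.out : p.Prime).one_lt).le hπk, zero_mul, add_zero]
  have hodd : Odd (p ^ k) := by
    refine ((Fact.out : p.Prime).odd_of_ne_two fun h3 => h2 ?_).pow
    subst h3
    exact CharP.cast_eq_zero F 2
  obtain ⟨M, hM⟩ := hodd
  set r₁ := (i₀ * s) ^ (M + 1) with hr₁
  refine ⟨s, algebraMap F _ r * r₁, ?_, hss⟩
  rw [map_mul τ, AlgHom.commutes, hr₁, map_pow τ, map_mul τ, hst, hi₀, AlgHom.commutes, ← hi₀]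
  calc algebraMap F (AdjoinRoot ((X - C δ) ^ k)) r * (i₀ * s) ^ (M + 1) * (algebraMap F (AdjoinRoot ((X - C δ) ^ k)) r * (i₀ * s) ^ (M + 1))
      = algebraMap F (AdjoinRoot ((X - C δ) ^ k)) r * algebraMap F (AdjoinRoot ((X - C δ) ^ k)) r * ((i₀ * s) ^ (2 * M + 1) * (i₀ * s)) := by ring
    _ = algebraMap F (AdjoinRoot ((X - C δ) ^ k)) s₀ * (i₀ * s) := by rw [← hM, hpow, one_mul, ← map_mul, ← hr]
    _ = s := by rw [← mul_assoc, mul_comm _ i₀, hi, one_mul]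

theorem top_sign (hεε : ε * ε = 1) (h2 : (2 : F) ≠ 0) (hδ : δ * δ = 1) (hk : 1 ≤ k)
    (hsign : ε * (-1) ^ (k - 1) = 1) (hS : Labels T.g S) (hmax : ∀ y ∈ S, y.2 ≤ k) (hx : (X - C δ, k) ∈ S) :
    ∃ v, aeval T.g ((X - C δ) ^ k) v = 0 ∧
      T.B (T.ev ((monic_X_sub_C δ).pow k) v (AdjoinRoot.mk _ ((X - C δ) ^ (k - 1)))) v ≠ 0 := by
  obtain ⟨hf, hfi, hf0, hself⟩ := linear_facts hδ
  obtain ⟨h0, h⟩ := self_linear hδ k
  by_contra hne
  push Not at hne
  obtain ⟨-, e₀, he₀, hej⟩ := pi_facts hδ h0 h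
  have h1 := polar hεε hS hf hfi hf0 hself hmax hx h hne
  rw [map_pow (AdjoinRoot.mk _), map_pow (dmap _ _ h), he₀, mul_pow, ← map_pow (AdjoinRoot.mk _), hej hk] at h1
  refine mk_pow_ne_zero hfi hk ?_
  have e2 : algebraMap F (AdjoinRoot ((X - C δ) ^ k)) ε * (-1) ^ (k - 1) = 1 := by
    have := congrArg (algebraMap F (AdjoinRoot ((X - C δ) ^ k))) hsign
    simpa using this
  have e3 : (2 : F) • AdjoinRoot.mk ((X - C δ) ^ k) ((X - C δ) ^ (k - 1)) = 0 := by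
    rw [two_smul]
    linear_combination h1 - AdjoinRoot.mk ((X - C δ) ^ k) ((X - C δ) ^ (k - 1)) * e2
  exact (smul_eq_zero.1 e3).resolve_left h2

theorem top_sign_one (hεε : ε * ε = 1) (h2 : (2 : F) ≠ 0) (hδ : δ * δ = 1) (hk : 1 ≤ k)
    (hsign : ε * (-1) ^ (k - 1) = 1) (hS : Labels T.g S) (hmax : ∀ y ∈ S, y.2 ≤ k)
    (hcount : 2 ≤ S.count (X - C δ, k)) :
    ∃ v, aeval T.g ((X - C δ) ^ k) v = 0 ∧
      T.B (T.ev ((monic_X_sub_C δ).pow k) v (AdjoinRoot.mk _ ((X - C δ) ^ (k - 1)))) v = 1 := by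
  classical
  obtain ⟨hf, hfi, hf0, hself⟩ := linear_facts hδ
  obtain ⟨h0, h⟩ := self_linear hδ k
  have hx : (X - C δ, k) ∈ S := Multiset.count_pos.1 (by omega)
  set Z := AdjoinRoot.mk ((X - C δ) ^ k) ((X - C δ) ^ (k - 1)) with hZ
  obtain ⟨v₁, hv₁, hc₁⟩ := top_sign hεε h2 hδ hk hsign hS hmax hx
  have hF : Faithful ((T.B.flip v₁).comp (T.ev (hf.pow k) v₁)) :=
    faithful_of_top hfi (c := 1) (by rw [one_mul]; exact hc₁)
  obtain ⟨u, hu, hfaith, hgram⟩ := has_single (c₀ := (X - C δ, k)) hf h0 v₁ hv₁ _ hF (fun _ => rfl)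
  have hfaith' : ∀ x : Fin 1 → AdjoinRoot ((X - C δ) ^ k), (∀ b j,
      T.B (∑ a, T.ev (hf.pow k) (u a) (x a)) ((T.g ^ j) (u b)) = 0) → x = 0 := hfaith
  obtain ⟨R, E, hEi, hEB, hEg, hEo, -, hEl⟩ := peel T (fun _ : Fin 1 => (X - C δ, k)) (fun _ => ⟨hf, hfi, hk⟩) u hu hfaith'
  obtain ⟨SR, hSR⟩ := exists_labels R.g
  have hsum := labels_unique (hEl SR hSR) hS
  have hxR : (X - C δ, k) ∈ SR := by
    refine Multiset.count_pos.1 ?_
    have h3 := congrArg (Multiset.count (X - C δ, k)) hsum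
    simp only [Multiset.count_add, Fin.univ_val_map, List.ofFn_const, Multiset.coe_replicate,
      Multiset.count_replicate_self] at h3
    omega
  obtain ⟨w, hw, hc₂⟩ := top_sign hεε h2 hδ hk hsign hSR (fun y hy => hmax y (hsum ▸ Multiset.mem_add.2 (Or.inr hy))) hxR
  have hEw : aeval T.g ((X - C δ) ^ k) (E w) = 0 := by
    rw [aeval_intertwine E (fun x => (hEg x).symm), hw, map_zero]
  have hcE : T.B (T.ev (hf.pow k) (E w) Z) (E w) = R.B (R.ev (hf.pow k) w Z) w := by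
    rw [hZ, ev_mk T (hf.pow k) hEw, ev_mk R (hf.pow k) hw, aeval_intertwine E (fun x => (hEg x).symm), hEB]
  -- cross terms with the first summand, spanned by the orbit of `u 0`
  obtain ⟨d₁, hd₁, hd₁ne⟩ : ∃ d, T.B (T.ev (hf.pow k) (u 0) Z) (u 0) = d ∧ d ≠ 0 := by
    refine ⟨_, rfl, ?_⟩
    rw [hZ, ev_mk T (hf.pow k) (hu 0), aeval_eq_sum_range, LinearMap.sum_apply, map_sum, LinearMap.sum_apply]
    simp only [LinearMap.smul_apply, map_smul, hgram]
    rw [show (∑ x ∈ Finset.range (((X : F[X]) - C δ) ^ (k - 1)).natDegree.succ,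
        (((X : F[X]) - C δ) ^ (k - 1)).coeff x •
          ((T.B.flip v₁).comp (T.ev (hf.pow k) v₁)) (AdjoinRoot.root ((X - C δ) ^ k) ^ x))
        = ((T.B.flip v₁).comp (T.ev (hf.pow k) v₁)) Z by
      rw [hZ, ← AdjoinRoot.aeval_eq, aeval_eq_sum_range, map_sum]
      simp only [map_smul]]
    exact hc₁
  have hcross : T.B (T.ev (hf.pow k) (E w) Z) (u 0) = 0 ∧ T.B (T.ev (hf.pow k) (u 0) Z) (E w) = 0 := by
    constructor
    · rw [hZ, ev_mk T (hf.pow k) hEw, aeval_intertwine E (fun x => (hEg x).symm)]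
      simpa using hEo _ 0 0
    · rw [T.sym, hZ, ev_mk T (hf.pow k) (hu 0), aeval_eq_sum_range, LinearMap.sum_apply, map_sum]
      simp only [LinearMap.smul_apply, map_smul]
      rw [Finset.sum_eq_zero (fun j _ => by rw [hEo _ 0 j, smul_zero]), mul_zero]
  set c₂ := R.B (R.ev (hf.pow k) w Z) w with hc₂d
  have hc₂' : c₂ ≠ 0 := hc₂
  haveI := Fintype.ofFinite F
  have hchar : ringChar F ≠ 2 := fun h3 => h2 (by
    haveI := ringChar.of_eq h3
    exact CharP.cast_eq_zero F 2)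
  obtain ⟨α, β, hαβ⟩ := FiniteField.exists_root_sum_quadratic (f := C d₁ * X ^ 2) (g := C c₂ * X ^ 2 - 1)
    (degree_C_mul_X_pow 2 hd₁ne)
    (by rw [degree_sub_eq_left_of_degree_lt, degree_C_mul_X_pow 2 hc₂']
        · rfl
        · rw [degree_one, degree_C_mul_X_pow 2 hc₂']; decide)
    (FiniteField.odd_card_of_char_ne_two hchar)
  simp only [eval_sub, eval_mul, eval_C, eval_pow, eval_X, eval_one] at hαβ
  refine ⟨α • u 0 + β • E w, by rw [map_add, map_smul, map_smul, hu 0, hEw, smul_zero, smul_zero, add_zero], ?_⟩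
  have hev : ∀ (r : F) (x : Fin T.n → F) a, T.ev (hf.pow k) (r • x) a = r • T.ev (hf.pow k) x a := fun r x a => by
    simp [Tri.ev]
  rw [ev_add, hev, hev]
  simp only [map_add, map_smul, LinearMap.add_apply, LinearMap.smul_apply, smul_eq_mul]
  rw [hd₁, hcE, hcross.1, hcross.2]
  linear_combination hαβ

theorem step_sign (hεε : ε * ε = 1) (h2 : (2 : F) ≠ 0) (hδ : δ * δ = 1) (hk : 1 ≤ k)
    (hsign : ε * (-1) ^ (k - 1) = 1) (hmax : ∀ y ∈ S, y.2 ≤ k) (hx : (X - C δ, k) ∈ S) (T₀ : Tri F ε)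
    (hS₀ : Labels T₀.g S) :
    ∃ (N : ℕ) (χ : Tri F ε → Fin N) (P : Fin N → Fin 1 → Fin 1 → ℕ → F),
      (N = 1 ∨ (N = 2 ∧ S.count (X - C δ, k) = 1)) ∧
      (∀ T : Tri F ε, Labels T.g S → Has T (fun _ : Fin 1 => (X - C δ, k)) (fun _ => monic_X_sub_C δ) (P (χ T))) ∧
      ∀ i i' : Fin N, i ≠ i' → ∃ t : F, ¬ IsSquare t ∧ ∀ a b j, P i' a b j = t * P i a b j := by
  classical
  obtain ⟨hf, hfi, hf0, hself⟩ := linear_facts hδ
  obtain ⟨h0, h⟩ := self_linear hδ k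
  set Z := AdjoinRoot.mk ((X - C δ) ^ k) ((X - C δ) ^ (k - 1)) with hZ
  -- a vector for each triple
  have hex : ∀ T : Tri F ε, ∃ v : Fin T.n → F, Labels T.g S →
      aeval T.g ((X - C δ) ^ k) v = 0 ∧ T.B (T.ev (hf.pow k) v Z) v ≠ 0 ∧
        (2 ≤ S.count (X - C δ, k) → IsSquare (T.B (T.ev (hf.pow k) v Z) v)) := fun T => by
    by_cases hT : Labels T.g S
    · by_cases hc : 2 ≤ S.count (X - C δ, k)
      · obtain ⟨v, hv, hv1⟩ := top_sign_one hεε h2 hδ hk hsign hT hmax hc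
        exact ⟨v, fun _ => ⟨hv, by rw [hv1]; exact one_ne_zero, fun _ => by rw [hv1]; exact IsSquare.one⟩⟩
      · obtain ⟨v, hv, hv1⟩ := top_sign hεε h2 hδ hk hsign hT hmax hx
        exact ⟨v, fun _ => ⟨hv, hv1, fun h3 => absurd h3 hc⟩⟩
    · exact ⟨0, fun h3 => absurd h3 hT⟩
  choose v hv using hex
  let φ : ∀ T : Tri F ε, AdjoinRoot ((X - C δ) ^ k) →ₗ[F] F := fun T => (T.B.flip (v T)).comp (T.ev (hf.pow k) (v T))
  have hF : ∀ T : Tri F ε, Labels T.g S → Faithful (φ T) := fun T hT =>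
    faithful_of_top hfi (c := 1) (by rw [one_mul]; exact (hv T hT).2.1)
  haveI := Fintype.ofFinite F
  have hchar : ringChar F ≠ 2 := fun h3 => h2 (by
    haveI := ringChar.of_eq h3
    exact CharP.cast_eq_zero F 2)
  obtain ⟨ns, hns⟩ := FiniteField.exists_nonsquare hchar
  have hns0 : ns ≠ 0 := fun h1 => hns (h1 ▸ IsSquare.zero)
  let N := if 2 ≤ S.count (X - C δ, k) then 1 else 2
  have hN : 0 < N := by simp only [N]; split_ifs <;> omega
  let χ : Tri F ε → Fin N := fun T => if hN2 : 1 < N then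
    (if IsSquare (φ T Z * φ T₀ Z) then ⟨0, hN⟩ else ⟨1, hN2⟩) else ⟨0, hN⟩
  let sc : Fin N → F := fun i => if (i : ℕ) = 0 then 1 else ns
  let P : Fin N → Fin 1 → Fin 1 → ℕ → F := fun i _ _ j => sc i * φ T₀ (AdjoinRoot.root ((X - C δ) ^ k) ^ j)
  refine ⟨N, χ, P, ?_, fun T hT => ?_, fun i i' hii => ?_⟩
  · simp only [N]
    split_ifs with hc
    · exact Or.inl rfl
    · have := Multiset.count_pos.2 hx
      exact Or.inr ⟨rfl, by omega⟩
  swap
  · have hlt : N ≤ 2 := by simp only [N]; split_ifs <;> omega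
    have hi := i.2
    have hi' := i'.2
    have hne : (i : ℕ) ≠ (i' : ℕ) := fun e => hii (Fin.ext e)
    by_cases h1 : (i : ℕ) = 0
    · refine ⟨ns, hns, fun a b j => ?_⟩
      simp only [P, sc, if_pos h1, if_neg (show ¬ (i' : ℕ) = 0 by omega)]
      ring
    · refine ⟨ns⁻¹, fun h3 => hns ?_, fun a b j => ?_⟩
      · obtain ⟨r, hr⟩ := h3
        exact ⟨r⁻¹, by rw [← mul_inv, ← hr, inv_inv]⟩
      · simp only [P, sc, if_neg h1, if_pos (show (i' : ℕ) = 0 by omega)]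
        rw [one_mul, inv_mul_cancel_left₀ hns0]
  have hsq : IsSquare (φ T Z * (sc (χ T) * φ T₀ Z)) := by
    by_cases hc : 2 ≤ S.count (X - C δ, k)
    · have hN1 : ¬ 1 < N := by simp only [N]; rw [if_pos hc]; omega
      simp only [χ, dif_neg hN1, sc, if_true, one_mul]
      exact ((hv T hT).2.2 hc).mul ((hv T₀ hS₀).2.2 hc)
    · have hN2 : 1 < N := by simp only [N]; rw [if_neg hc]; omega
      simp only [χ, dif_pos hN2]
      by_cases h3 : IsSquare (φ T Z * φ T₀ Z)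
      · simp only [if_pos h3, sc, if_true, one_mul]
        exact h3
      · simp only [if_neg h3, sc, one_ne_zero, if_false]
        rw [mul_left_comm]
        have hne : φ T Z * φ T₀ Z ≠ 0 :=
          mul_ne_zero (show φ T Z ≠ 0 from (hv T hT).2.1) (show φ T₀ Z ≠ 0 from (hv T₀ hS₀).2.1)
        exact (quadraticChar_one_iff_isSquare (mul_ne_zero hns0 hne)).1 (by
          rw [map_mul, quadraticChar_neg_one_iff_not_isSquare.2 hns, quadraticChar_neg_one_iff_not_isSquare.2 h3]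
          rfl)
  have hsc : sc (χ T) ≠ 0 := by simp only [sc]; split_ifs <;> [exact one_ne_zero; exact hns0]
  have hF₁ : Faithful (sc (χ T) • φ T₀) := fun a ha => hF T₀ hS₀ a fun c => by
    have h1 := ha c
    rw [LinearMap.smul_apply, smul_eq_mul] at h1
    exact (mul_eq_zero.1 h1).resolve_left hsc
  obtain ⟨s, w, hw, hs⟩ := exists_square_norm hεε h2 hδ hk h (hF T hT) hF₁
    (fun c => phi_sym (hf.pow k) h0 h (hv T hT).1 c)
    (fun c => by
      rw [LinearMap.smul_apply, LinearMap.smul_apply, smul_eq_mul, smul_eq_mul, mul_left_comm]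
      exact congrArg (sc (χ T) * ·) (phi_sym (hf.pow k) h0 h (hv T₀ hS₀).1 c)) hsq
  obtain ⟨v', hv', hvv⟩ := rescale (hf.pow k) h0 h (hv T hT).1 hw (φ := sc (χ T) • φ T₀) hs
  exact has_single (c₀ := (X - C δ, k)) hf h0 v' hv' _ hF₁ hvv

theorem step_free (hεε : ε * ε = 1) (h2 : (2 : F) ≠ 0) (hδ : δ * δ = 1) (hk : 1 ≤ k)
    (hfree : ε * (-1) ^ (k - 1) = -1) (hS : Labels T.g S) (hx : (X - C δ, k) ∈ S) (hmax : ∀ y ∈ S, y.2 ≤ k)
    {φ : AdjoinRoot ((X - C δ) ^ k) →ₗ[F] F} (hφ : Faithful φ)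
    (hc : ∀ a, ((![(X - C δ, k), (rd (X - C δ), k)] : Fin 2 → F[X] × ℕ) a).1.Monic) :
    Has T ![(X - C δ, k), (rd (X - C δ), k)] hc (fun a b i =>
      ![![(0 : F), φ (AdjoinRoot.root ((X - C δ) ^ k) ^ i)], ![ε * φ (rinv ((X - C δ) ^ k) ^ i), 0]] a b) := by
  obtain ⟨hf, hfi, hf0, hself⟩ := linear_facts hδ
  obtain ⟨h0, h⟩ := self_linear hδ k
  obtain ⟨hπk, e₀, he₀, hej⟩ := pi_facts hδ h0 h
  set τ := dmap _ _ h with hτ
  set π := AdjoinRoot.mk ((X - C δ) ^ k) (X - C δ) with hπ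
  set Z := AdjoinRoot.mk ((X - C δ) ^ k) ((X - C δ) ^ (k - 1)) with hZ
  have hττ : ∀ a, τ (τ a) = a := dmap_dmap h0 h0 h h
  obtain ⟨v, hv, hv1⟩ := exists_top hS hx
  obtain ⟨w, hw, hvw⟩ := exists_pairing hεε hS hf hfi hf0 hmax hv hv1 φ
  rw [hself] at hw
  obtain ⟨b, hb⟩ := exists_dual (hf.pow k) hφ ((T.B.flip w).comp (T.ev (hf.pow k) w))
  have hZπ : Z * π = 0 := by rw [hZ, hπ, ← map_mul, ← pow_succ, Nat.sub_add_cancel hk, AdjoinRoot.mk_self]
  have hτZ : τ Z = Z * (-1) ^ (k - 1) := by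
    rw [hZ, map_pow (AdjoinRoot.mk _), map_pow τ, he₀, mul_pow, ← map_pow (AdjoinRoot.mk _), hej hk]
  obtain ⟨b₀, b₁, hb01⟩ := residue (δ := δ) (k := k) b
  have hww0 : T.B (T.ev (hf.pow k) w Z) w = 0 := by
    have h1 := phi_sym (hf.pow k) h0 h hw Z
    rw [hτZ, show ((-1 : AdjoinRoot ((X - C δ) ^ k)) ^ (k - 1)) = algebraMap F _ ((-1) ^ (k - 1)) by simp,
      ← Algebra.commutes, ← Algebra.smul_def, map_smul, map_smul, LinearMap.smul_apply, smul_eq_mul, ← mul_assoc, hfree] at h1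
    have h4 : (2 : F) * T.B (T.ev (hf.pow k) w Z) w = 0 := by linear_combination h1
    exact (mul_eq_zero.1 h4).resolve_left h2
  have hφZ : φ Z ≠ 0 := fun h1 => by
    refine mk_pow_ne_zero hfi hk (hφ _ fun c => ?_)
    obtain ⟨c₀, c₁, hc⟩ := residue (δ := δ) (k := k) c
    rw [hc, ← hπ, ← hZ, add_mul, ← Algebra.smul_def, mul_right_comm, mul_comm π Z, hZπ, zero_mul, add_zero,
      map_smul, h1, smul_zero]
  have hb0 : b₀ = 0 := by
    have h1 := hb Z
    change T.B (T.ev (hf.pow k) w Z) w = _ at h1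
    rw [hww0, hb01, mul_add, ← hπ, ← mul_assoc, hZπ, zero_mul, add_zero,
      mul_comm, ← Algebra.smul_def, map_smul, smul_eq_mul] at h1
    exact (mul_eq_zero.1 h1.symm).resolve_right hφZ
  rw [hb0, map_zero, zero_add, ← hπ] at hb01
  obtain ⟨t, hiso, hu, hpair⟩ := isotropize hεε h2 (hf.pow k) h0 h hπk he₀ hφ hv hw hvw (b₁ := b₁)
    (fun c => by rw [← hb01]; exact hb c)
  set v' := v + T.ev (hf.pow k) w t with hv'
  have hv'k : aeval T.g ((X - C δ) ^ k) v' = 0 := by rw [map_add, hv, ev_killed T (hf.pow k) hw, add_zero]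
  set e₁ := 1 + π * b₁ * t with he₁
  obtain ⟨i₁, hi₁⟩ := isUnit_iff_exists_inv.1 hu
  -- make `w` isotropic
  let ψ : AdjoinRoot ((X - C δ) ^ k) →ₗ[F] F := (T.B.flip v').comp (T.ev (hf.pow k) w)
  have hψe : ∀ c, ψ c = ε * φ (τ c * e₁) := fun c => by
    show T.B (T.ev (hf.pow k) w c) v' = _
    rw [T.sym, B_self T (hf.pow k) h0 hv'k hw (hf.pow k) h, hpair]
  have hψ : Faithful ψ := fun a ha => by
    have h1 : τ a = 0 := hφ _ fun c => by
      have h3 := ha (τ (c * i₁))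
      rw [hψe, map_mul τ, hττ, show c * i₁ * τ a * e₁ = c * τ a * (e₁ * i₁) by ring, hi₁, mul_one] at h3
      exact (mul_eq_zero.1 h3).resolve_left (left_ne_zero_of_mul_eq_one hεε)
    rw [← hττ a, h1, map_zero]
  obtain ⟨s, hiso2, -, -⟩ := isotropize hεε h2 (hf.pow k) h0 h hπk he₀ hψ hw hv'k (fun c => rfl) (b₁ := 0)
    (fun c => by rw [mul_zero, mul_zero, map_zero, hiso])
  set w' := w + T.ev (hf.pow k) v' s with hw'
  have hw'k : aeval T.g ((X - C δ) ^ k) w' = 0 := by rw [map_add, hw, ev_killed T (hf.pow k) hv'k, add_zero]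
  set r := τ i₁ with hr
  have hkill : aeval T.g ((X - C δ) ^ k) (T.ev (hf.pow k) w' r) = 0 := ev_killed T (hf.pow k) hw'k r
  have hfinal : ∀ c, T.B (T.ev (hf.pow k) v' c) (T.ev (hf.pow k) w' r) = φ c := fun c => by
    rw [adjoint T (hf.pow k) h0 (hf.pow k) h hv'k hw'k, hr, hττ, hw', map_add,
      adjoint T (hf.pow k) h0 (hf.pow k) h hv'k hv'k, hiso, add_zero, hpair, mul_assoc, mul_comm i₁, hi₁, mul_one]
  have hpow : ∀ (x : Fin T.n → F), aeval T.g ((X - C δ) ^ k) x = 0 → ∀ i : ℕ,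
      (T.g ^ i) x = T.ev (hf.pow k) x (AdjoinRoot.root _ ^ i) := fun x hx i => by
    conv_rhs => rw [← mul_one (AdjoinRoot.root ((X - C δ) ^ k) ^ i), ev_root_pow_mul T (hf.pow k) hx, ev_one T (hf.pow k) hx]
  have hww : ∀ i, T.B ((T.g ^ i) (T.ev (hf.pow k) w' r)) (T.ev (hf.pow k) w' r) = 0 := fun i => by
    rw [hpow _ hkill, ev_ev T (hf.pow k) hw'k, adjoint T (hf.pow k) h0 (hf.pow k) h hw'k hw'k, hiso2]
  exact has_pair hεε hf hfi hf0 hφ hv'k (by rw [hself]; exact hkill) (fun i => by rw [hpow _ hv'k]; exact hiso _)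
    hww hfinal hc

end Linear

/-- The choices for one summand. -/
theorem exists_step (hεε : ε * ε = 1) (h2 : (2 : F) ≠ 0) (T₀ : Tri F ε) (hS₀ : Labels T₀.g S) (hne : S ≠ 0) :
    ∃ (r : ℕ) (c : Fin r → F[X] × ℕ) (hc : ∀ a, (c a).1.Monic ∧ Irreducible (c a).1 ∧ 1 ≤ (c a).2)
      (N : ℕ) (χ : Tri F ε → Fin N) (P : Fin N → Fin r → Fin r → ℕ → F),
      0 < r ∧ (∀ a, (c a).1.coeff 0 ≠ 0) ∧
      (∀ T : Tri F ε, Labels T.g S → Has T c (fun a => (hc a).1) (P (χ T))) ∧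
      (N = 1 ∨ (N = 2 ∧ ∃ x, IsSign ε x ∧ S.count x = 1 ∧ ∃ a, c a = x)) ∧
      (Finset.univ.val.map c).map (cd (RingHom.id F)) = Finset.univ.val.map c ∧
      (∀ y : F[X] × ℕ, (∃ δ : F, δ * δ = 1 ∧ y.1 = X - C δ) → ¬ IsSign ε y →
        Even ((Finset.univ.val.map c).count y)) ∧
      (∀ i i' : Fin N, i ≠ i' → (ε = 1 → Odd (∑ a, (c a).2 * (c a).1.natDegree)) ∧
        ∃ t : F, ¬ IsSquare t ∧ ∀ a b j, P i' a b j = t * P i a b j) := by
  classical
  obtain ⟨x, hx, hmax⟩ := Finset.exists_max_image S.toFinset (fun x => x.2) (by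
    rwa [Finset.nonempty_iff_ne_empty, ne_eq, Multiset.toFinset_eq_empty])
  simp only [Multiset.mem_toFinset] at hx hmax
  obtain ⟨f, k⟩ := x
  obtain ⟨hf, hfi, hf0, hk⟩ := labels_mem (det_ne_zero T₀) hS₀ _ hx
  dsimp only at hf hfi hf0 hk hmax
  obtain ⟨h0, h0', hm', hi', hf0', h, h'⟩ := rd_facts hf hfi hf0 k
  have hcpair : ∀ a, ((![(f, k), (rd f, k)] : Fin 2 → F[X] × ℕ) a).1.Monic ∧
      Irreducible ((![(f, k), (rd f, k)] : Fin 2 → F[X] × ℕ) a).1 ∧ 1 ≤ ((![(f, k), (rd f, k)] : Fin 2 → F[X] × ℕ) a).2 :=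
    fun a => by fin_cases a <;> [exact ⟨hf, hfi, hk⟩; exact ⟨hm', hi', hk⟩]
  have hcpair0 : ∀ a, ((![(f, k), (rd f, k)] : Fin 2 → F[X] × ℕ) a).1.coeff 0 ≠ 0 :=
    fun a => by fin_cases a <;> [exact hf0; exact hf0']
  have hinv : rd (rd f) = f := cdual_cdual _ (fun _ => rfl) hf hf0
  have hpairinv : (Finset.univ.val.map ![(f, k), (rd f, k)]).map (cd (RingHom.id F)) =
      Finset.univ.val.map ![(f, k), (rd f, k)] := by
    simp only [Fin.univ_val_map, List.ofFn_succ, List.ofFn_zero, Matrix.cons_val_zero, Matrix.cons_val_succ,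
      Multiset.map_coe, List.map_cons, List.map_nil]
    exact Multiset.coe_eq_coe.2 (by
      rw [show cd (RingHom.id F) (f, k) = (rd f, k) from rfl,
        show cd (RingHom.id F) (rd f, k) = (f, k) from Prod.ext hinv rfl]
      exact List.Perm.swap _ _ _)
  by_cases hself : rd f = f
  swap
  · obtain ⟨φ, hφ⟩ := exists_faithful (hf.pow k).ne_zero
    refine ⟨2, _, hcpair, 1, fun _ => 0, fun _ a b i =>
      ![![(0 : F), φ (AdjoinRoot.root (f ^ k) ^ i)], ![ε * φ (rinv (f ^ k) ^ i), 0]] a b, two_pos, hcpair0,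
      fun T hT => step_pair hεε hf hfi hf0 hself hT hx hmax hφ _, Or.inl rfl, hpairinv, ?_, fun i i' hi => absurd (Subsingleton.elim i i') hi⟩
    rintro y ⟨δ, hδ, hy⟩ -
    rw [Multiset.count_eq_zero.2 fun hm => ?_]
    · exact Even.zero
    obtain ⟨a, -, ha⟩ := Multiset.mem_map.1 hm
    have hsd := (linear_facts hδ).2.2.2
    fin_cases a
    · exact hself (by rw [show f = X - C δ from (congrArg Prod.fst ha).trans hy]; exact hsd)
    · have h3 : rd f = X - C δ := (congrArg Prod.fst ha).trans hy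
      exact hself (by rw [h3, ← hinv, h3, hsd])
  rw [hself] at h
  by_cases hlin : ∃ δ : F, δ * δ = 1 ∧ f = X - C δ
  swap
  · -- self-dual, not linear
    have hunit : IsUnit (AdjoinRoot.root (f ^ k) - rinv (f ^ k)) := by
      have hcp : IsCoprime f (X ^ 2 - 1) := by
        refine hfi.coprime_iff_not_dvd.2 fun hd => hlin ?_
        rw [show (X : F[X]) ^ 2 - 1 = (X - C 1) * (X - C (-1)) by rw [map_neg, map_one]; ring] at hd
        rcases hfi.prime.dvd_or_dvd hd with hd | hd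
        · exact ⟨1, one_mul 1, eq_of_monic_of_associated hf (monic_X_sub_C 1) (hfi.associated_of_dvd (irreducible_X_sub_C 1) hd)⟩
        · exact ⟨-1, by ring, eq_of_monic_of_associated hf (monic_X_sub_C (-1)) (hfi.associated_of_dvd (irreducible_X_sub_C (-1)) hd)⟩
      obtain ⟨s, t, hst⟩ := hcp.pow_left (m := k)
      have h1 : IsUnit (AdjoinRoot.root (f ^ k) ^ 2 - 1) := by
        refine isUnit_iff_exists_inv.2 ⟨AdjoinRoot.mk _ t, ?_⟩
        rw [← AdjoinRoot.mk_X, ← map_pow, ← map_one (AdjoinRoot.mk (f ^ k)), ← map_sub, ← map_mul, AdjoinRoot.mk_eq_mk]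
        exact ⟨-s, by linear_combination hst⟩
      have h2 : AdjoinRoot.root (f ^ k) - rinv (f ^ k) = rinv (f ^ k) * (AdjoinRoot.root (f ^ k) ^ 2 - 1) := by
        linear_combination (-AdjoinRoot.root (f ^ k)) * root_mul_rinv h0
      rw [h2]
      exact (IsUnit.of_mul_eq_one _ ((mul_comm _ _).trans (root_mul_rinv h0))).mul h1
    obtain ⟨φ, hφ⟩ := step_generic hεε hf hfi hf0 hk hself hunit hx hmax T₀ hS₀
    refine ⟨1, fun _ => (f, k), fun _ => ⟨hf, hfi, hk⟩, 1, fun _ => 0,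
      fun _ _ _ i => φ (AdjoinRoot.root (f ^ k) ^ i), one_pos, fun _ => hf0, hφ, Or.inl rfl, ?_, ?_, fun i i' hi => absurd (Subsingleton.elim i i') hi⟩
    · simp only [Fin.univ_val_map, List.ofFn_succ, List.ofFn_zero, Multiset.map_coe, List.map_cons, List.map_nil]
      rw [show cd (RingHom.id F) (f, k) = (f, k) from Prod.ext hself rfl]
    · rintro y ⟨δ, hδ, hy⟩ -
      rw [Multiset.count_eq_zero.2 fun hm => ?_]
      · exact Even.zero
      obtain ⟨a, -, ha⟩ := Multiset.mem_map.1 hm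
      exact hlin ⟨δ, hδ, (congrArg Prod.fst ha).trans hy⟩
  -- `f = X - δ` with `δ ^ 2 = 1`
  obtain ⟨δ, hδ, rfl⟩ := hlin
  by_cases hsign : ε * (-1) ^ (k - 1) = 1
  · obtain ⟨N, χ, P, hN, hP, hsc⟩ := step_sign hεε h2 hδ hk hsign hmax hx T₀ hS₀
    refine ⟨1, fun _ => (X - C δ, k), fun _ => ⟨hf, hfi, hk⟩, N, χ, P, one_pos, fun _ => hf0, hP, ?_, ?_, ?_,
      fun i i' hi => ⟨fun h1 => ?_, hsc i i' hi⟩⟩
    · rcases hN with hN | ⟨hN, hcnt⟩
      · exact Or.inl hN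
      · exact Or.inr ⟨hN, _, ⟨δ, hδ, rfl, hsign⟩, hcnt, 0, rfl⟩
    · simp only [Fin.univ_val_map, List.ofFn_succ, List.ofFn_zero, Multiset.map_coe, List.map_cons, List.map_nil]
      rw [show cd (RingHom.id F) (X - C δ, k) = (X - C δ, k) from Prod.ext hself rfl]
    · rintro y - hy
      rw [Multiset.count_eq_zero.2 fun hm => ?_]
      · exact Even.zero
      obtain ⟨a, -, ha⟩ := Multiset.mem_map.1 hm
      exact hy (ha ▸ ⟨δ, hδ, rfl, hsign⟩)
    · rw [h1, one_mul] at hsign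
      rw [Fin.sum_univ_one, natDegree_X_sub_C, mul_one]
      rcases Nat.even_or_odd k with hke | hko
      · rw [(Nat.Even.sub_odd hk hke odd_one).neg_one_pow] at hsign
        exact absurd (by linear_combination -hsign) h2
      · exact hko
  · have hfree : ε * (-1) ^ (k - 1) = -1 := (mul_self_eq_one_iff.1 (by
      rw [mul_mul_mul_comm, hεε, one_mul, ← mul_pow, neg_mul_neg, one_mul, one_pow])).resolve_left hsign
    obtain ⟨φ, hφ⟩ := exists_faithful (hf.pow k).ne_zero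
    refine ⟨2, _, hcpair, 1, fun _ => 0, fun _ a b i =>
      ![![(0 : F), φ (AdjoinRoot.root ((X - C δ) ^ k) ^ i)], ![ε * φ (rinv ((X - C δ) ^ k) ^ i), 0]] a b, two_pos,
      hcpair0, fun T hT => step_free hεε h2 hδ hk hfree hT hx hmax hφ _, Or.inl rfl, hpairinv, fun y _ _ => ?_, fun i i' hi => absurd (Subsingleton.elim i i') hi⟩
    simp only [Fin.univ_val_map, List.ofFn_succ, List.ofFn_zero, Matrix.cons_val_zero, Matrix.cons_val_succ,
      hself, Multiset.coe_count, List.count_cons, List.count_nil]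
    split_ifs <;> simp

theorem iso_of_empty {T T' : Tri F ε} (h : T.n = 0) (h' : T'.n = 0) : T.Iso T' := by
  haveI : IsEmpty (Fin T.n) := by rw [h]; infer_instance
  refine ⟨LinearEquiv.ofFinrankEq _ _ (by simp [h, h']), fun x y => ?_, fun x => ?_⟩
  · rw [Subsingleton.elim x 0, map_zero, map_zero, map_zero, LinearMap.zero_apply, LinearMap.zero_apply]
  · rw [Subsingleton.elim x 0, map_zero, map_zero, map_zero]

/-- At most `2 ^ numSigns` isometry classes share a label. -/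
theorem exists_code (hεε : ε * ε = 1) (h2 : (2 : F) ≠ 0) : ∀ (S : Multiset (F[X] × ℕ)),
    ∃ χ : Tri F ε → Fin (2 ^ numSigns ε S),
      ∀ T T' : Tri F ε, Labels T.g S → Labels T'.g S → χ T = χ T' → T.Iso T' := by
  classical
  intro S
  induction S using Multiset.strongInductionOn with
  | ih S ih =>
    by_cases hex : ∃ T₀ : Tri F ε, Labels T₀.g S
    swap
    · exact ⟨fun _ => ⟨0, Nat.two_pow_pos _⟩, fun T T' hT => absurd ⟨T, hT⟩ hex⟩
    obtain ⟨T₀, hS₀⟩ := hex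
    by_cases hne : S = 0
    · refine ⟨fun _ => ⟨0, Nat.two_pow_pos _⟩, fun T T' hT hT' _ => iso_of_empty ?_ ?_⟩
      · have := labels_sum hT; simpa [hne] using this.symm
      · have := labels_sum hT'; simpa [hne] using this.symm
    obtain ⟨r, c, hc, N, χ, P, hr, hc0, hHas, hN, -⟩ := exists_step hεε h2 T₀ hS₀ hne
    set S₁ := (Finset.univ : Finset (Fin r)).val.map c with hS₁
    set S₂ := S - S₁ with hS₂
    -- the rest
    have hrest : ∀ T : Tri F ε, ∃ R : Tri F ε, Labels T.g S → Labels R.g S₂ ∧ S₁ ≤ S ∧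
        ∃ (u : Fin r → Fin T.n → F) (E : (Fin R.n → F) →ₗ[F] (Fin T.n → F)),
          (∀ a, aeval T.g ((c a).1 ^ (c a).2) (u a) = 0) ∧
          (∀ a b i, T.B ((T.g ^ i) (u a)) (u b) = P (χ T) a b i) ∧
          (∀ x y, T.B (E x) (E y) = R.B x y) ∧ (∀ x, E (R.g x) = T.g (E x)) ∧
          (∀ z b j, T.B (E z) ((T.g ^ j) (u b)) = 0) ∧
          ⊤ ≤ LinearMap.range (orbitMap T u) ⊔ LinearMap.range E := fun T => by
      by_cases hT : Labels T.g S
      swap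
      · exact ⟨T, fun h => absurd h hT⟩
      obtain ⟨u, hu, hfaith, hgram⟩ := hHas T hT
      obtain ⟨R, E, -, hEB, hEg, hEo, hEs, hEl⟩ := peel T c hc u hu hfaith
      obtain ⟨SR, hSR⟩ := exists_labels R.g
      have hsum : S₁ + SR = S := labels_unique (hEl SR hSR) hT
      refine ⟨R, fun _ => ⟨?_, hsum ▸ Multiset.le_add_right S₁ SR, u, E, hu, hgram, hEB, hEg, hEo, hEs⟩⟩
      rw [hS₂, ← hsum, add_tsub_cancel_left]
      exact hSR
    choose R hR using hrest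
    obtain ⟨hR₀, hle, -⟩ := hR T₀ hS₀
    have hlt : S₂ < S := lt_of_le_of_ne (Multiset.sub_le_self S S₁) fun he => by
      have h3 := congrArg Multiset.card (tsub_add_cancel_of_le hle)
      rw [Multiset.card_add, ← hS₂, he, hS₁, Multiset.card_map, ← Finset.card_def, Finset.card_univ, Fintype.card_fin] at h3
      omega
    obtain ⟨χ', hχ'⟩ := ih S₂ hlt
    have hbound : N * 2 ^ numSigns ε S₂ ≤ 2 ^ numSigns ε S := by
      have hsub : S₂.toFinset.filter (IsSign ε) ⊆ S.toFinset.filter (IsSign ε) :=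
        Finset.filter_subset_filter _ (Multiset.toFinset_subset.2 (Multiset.subset_of_le hlt.le))
      rcases hN with rfl | ⟨rfl, x, hx, hcnt, a, rfl⟩
      · rw [one_mul]
        exact Nat.pow_le_pow_right two_pos (Finset.card_le_card hsub)
      · rw [← pow_succ']
        refine Nat.pow_le_pow_right two_pos (Finset.card_lt_card (Finset.ssubset_iff_of_subset hsub |>.2
          ⟨c a, Finset.mem_filter.2 ⟨Multiset.mem_toFinset.2 (Multiset.count_pos.1 (by omega)), hx⟩, fun hm => ?_⟩))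
        have h3 := Multiset.count_pos.2 (Multiset.mem_toFinset.1 (Finset.mem_filter.1 hm).1)
        rw [hS₂, Multiset.count_sub] at h3
        have h4 : 1 ≤ S₁.count (c a) := Multiset.count_pos.2 (Multiset.mem_map_of_mem c (Finset.mem_univ_val a))
        omega
    refine ⟨fun T => Fin.castLE hbound (finProdFinEquiv (χ T, χ' (R T))), fun T T' hT hT' he => ?_⟩
    have he' : (χ T, χ' (R T)) = (χ T', χ' (R T')) := finProdFinEquiv.injective (Fin.castLE_injective hbound he)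
    obtain ⟨he1, he2⟩ := Prod.mk.inj he'
    obtain ⟨hRl, -, u, E, hu, hgram, hEB, hEg, hEo, hEs⟩ := hR T hT
    obtain ⟨hRl', -, u', E', hu', hgram', hEB', hEg', hEo', hEs'⟩ := hR T' hT'
    choose M hM hper using fun a => exists_period (F := F) (ε := ε) ((hc a).1.pow (c a).2) (by
      rw [coeff_zero_eq_eval_zero, eval_pow, ← coeff_zero_eq_eval_zero]
      exact pow_ne_zero _ (hc0 a))
    exact glue u u' E E' hEB hEB' hEg hEg' hEo hEo' hEs hEs'
      (gram_eq M hM (fun a => hper a T _ (hu a)) (fun a => hper a T' _ (hu' a))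
        (fun a b i => by rw [hgram, hgram', he1]))
      (hχ' _ _ hRl hRl' he2)

/-- Elementary divisors of isometries: closed under duality, balanced at the unsigned linear ones. -/
theorem labels_props (hεε : ε * ε = 1) (h2 : (2 : F) ≠ 0) : ∀ (S : Multiset (F[X] × ℕ)) (T : Tri F ε),
    Labels T.g S → S.map (cd (RingHom.id F)) = S ∧
      ∀ y : F[X] × ℕ, (∃ δ : F, δ * δ = 1 ∧ y.1 = X - C δ) → ¬ IsSign ε y → Even (S.count y) := by
  classical
  intro S
  induction S using Multiset.strongInductionOn with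
  | ih S ih =>
    intro T hT
    by_cases hne : S = 0
    · subst hne
      exact ⟨Multiset.map_zero _, fun y _ _ => by simp⟩
    obtain ⟨r, c, hc, N, χ, P, hr, -, hHas, -, hcd, hev, -⟩ := exists_step hεε h2 T hT hne
    obtain ⟨u, hu, hfaith, -⟩ := hHas T hT
    obtain ⟨R, E, -, -, -, -, -, hEl⟩ := peel T c hc u hu hfaith
    obtain ⟨SR, hSR⟩ := exists_labels R.g
    have hsum := labels_unique (hEl SR hSR) hT
    have hlt : SR < S := by
      rw [← hsum]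
      refine lt_add_of_pos_left _ (pos_iff_ne_zero.2 fun h0 => ?_)
      have h1 := congrArg Multiset.card h0
      rw [Multiset.card_map, ← Finset.card_def, Finset.card_univ, Fintype.card_fin, Multiset.card_zero] at h1
      omega
    obtain ⟨h1, h3⟩ := ih SR hlt R hSR
    rw [← hsum]
    refine ⟨by rw [Multiset.map_add, hcd, h1], fun y hy hy' => ?_⟩
    rw [Multiset.count_add]
    exact (hev y hy hy').add (h3 y hy hy')

end Cfsg.Agent.Classical.IsometryClasses
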