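import Cfsg.Agent.Lib.Classical.IsometryClassBound

/-!
Discriminants: with the discriminant fixed, at most `2 ^ (e - 1)` classes of isometries of symmetric forms share the
elementary divisors.
-/

set_option autoImplicit false

namespace Cfsg.Agent.Classical.IsometryClasses

open Polynomial Module
open LinearMap (BilinForm)
open Cfsg.Agent.Classical.SLClasses Cfsg.Agent.Classical.UnitClasses Cfsg.Agent.UnitaryDetCentralizer

universe u

variable {F : Type u} [Field F] {ε : F}

attribute [local instance] Classical.propDecidable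

/-- The discriminant. -/
noncomputable def disc (T : Tri F ε) : F := (LinearMap.BilinForm.toMatrix' T.B).det

theorem disc_ne_zero (T : Tri F ε) : disc T ≠ 0 :=
  (Matrix.nondegenerate_iff_det_ne_zero).1 (LinearMap.BilinForm.nondegenerate_toMatrix'_iff.2 T.nondeg)

/-- The same square class of discriminants. -/
def SameDisc (T T' : Tri F ε) : Prop := IsSquare (disc T * disc T')

/-- The Gram matrix of orbit segments. -/
noncomputable def gramOf (T : Tri F ε) {r : ℕ} (d : Fin r → ℕ) (u : Fin r → Fin T.n → F) :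
    Matrix (Σ a, Fin (d a)) (Σ a, Fin (d a)) F :=
  fun x y => T.B ((T.g ^ (x.2 : ℕ)) (u x.1)) ((T.g ^ (y.2 : ℕ)) (u y.1))

theorem disc_decomp {T R : Tri F ε} {r : ℕ} {c : Fin r → F[X] × ℕ} (hc : ∀ a, (c a).1.Monic)
    {u : Fin r → Fin T.n → F} (hu : ∀ a, aeval T.g ((c a).1 ^ (c a).2) (u a) = 0)
    (faith : ∀ x : ∀ a, AdjoinRoot ((c a).1 ^ (c a).2),
      (∀ b j, T.B (∑ a, T.ev ((hc a).pow _) (u a) (x a)) ((T.g ^ j) (u b)) = 0) → x = 0)
    (E : (Fin R.n → F) →ₗ[F] (Fin T.n → F)) (hE : ∀ x y, T.B (E x) (E y) = R.B x y)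
    (ho : ∀ z b j, T.B (E z) ((T.g ^ j) (u b)) = 0)
    (hn : ∑ a, ((c a).1 ^ (c a).2).natDegree + R.n = T.n) :
    (gramOf T (fun a => ((c a).1 ^ (c a).2).natDegree) u).det ≠ 0 ∧
      ∃ t : F, t ≠ 0 ∧ t ^ 2 * disc T = (gramOf T (fun a => ((c a).1 ^ (c a).2).natDegree) u).det * disc R := by
  classical
  set d := fun a => ((c a).1 ^ (c a).2).natDegree with hd
  set G := gramOf T d u with hGd
  have hpow : ∀ a (i : ℕ), T.ev ((hc a).pow _) (u a) (AdjoinRoot.root _ ^ i) = (T.g ^ i) (u a) := fun a i => by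
    conv_lhs => rw [← mul_one (AdjoinRoot.root ((c a).1 ^ (c a).2) ^ i)]
    rw [ev_root_pow_mul T ((hc a).pow _) (hu a), ev_one T ((hc a).pow _) (hu a)]
  let pb : ∀ a, PowerBasis F (AdjoinRoot ((c a).1 ^ (c a).2)) := fun a => AdjoinRoot.powerBasis' ((hc a).pow _)
  have hG : G.det ≠ 0 := fun h0 => by
    obtain ⟨v, hv, hv0⟩ := Matrix.exists_vecMul_eq_zero_iff.2 h0
    let x : ∀ a, AdjoinRoot ((c a).1 ^ (c a).2) := fun a =>
      ∑ i : Fin (d a), v ⟨a, i⟩ • AdjoinRoot.root ((c a).1 ^ (c a).2) ^ (i : ℕ)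
    have hx : ∑ a, T.ev ((hc a).pow _) (u a) (x a) = ∑ z : Σ a, Fin (d a), v z • (T.g ^ (z.2 : ℕ)) (u z.1) := by
      rw [Fintype.sum_sigma]
      refine Finset.sum_congr rfl fun a _ => ?_
      simp only [x, map_sum, map_smul, hpow]
    have hlow : ∀ b (j : Fin (d b)), T.B (∑ a, T.ev ((hc a).pow _) (u a) (x a)) ((T.g ^ (j : ℕ)) (u b)) = 0 := fun b j => by
      have h := congrFun hv0 ⟨b, j⟩
      simp only [Matrix.vecMul, dotProduct, Pi.zero_apply] at h
      rw [hx, map_sum, LinearMap.sum_apply]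
      simp only [map_smul, LinearMap.smul_apply, smul_eq_mul]
      exact h
    have hxz : x = 0 := faith x fun b j => by
      rw [← hpow b j]
      have hb : ∀ y, T.B (∑ a, T.ev ((hc a).pow _) (u a) (x a)) (T.ev ((hc b).pow _) (u b) y) = 0 := fun y => by
        suffices h0 : (T.B (∑ a, T.ev ((hc a).pow _) (u a) (x a))).comp (T.ev ((hc b).pow _) (u b)) = 0 from
          LinearMap.congr_fun h0 y
        refine (pb b).basis.ext fun i => ?_
        rw [LinearMap.comp_apply, PowerBasis.coe_basis, LinearMap.zero_apply]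
        dsimp only
        rw [show (pb b).gen = AdjoinRoot.root ((c b).1 ^ (c b).2) from AdjoinRoot.powerBasis'_gen _, hpow,
          hlow b ⟨i, lt_of_lt_of_eq i.2 (AdjoinRoot.powerBasis'_dim _)⟩]
      exact hb _
    refine hv (funext fun ⟨a, i⟩ => ?_)
    have hdim : (pb a).dim = d a := AdjoinRoot.powerBasis'_dim _
    have h1 := Fintype.linearIndependent_iff.1 (pb a).basis.linearIndependent (fun j => v ⟨a, Fin.cast hdim j⟩) (by
      rw [← (finCongr hdim.symm).sum_comp]
      refine Eq.trans ?_ (congrFun hxz a)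
      refine Finset.sum_congr rfl fun j _ => ?_
      rw [PowerBasis.coe_basis]
      dsimp only
      rw [show (pb a).gen = AdjoinRoot.root ((c a).1 ^ (c a).2) from AdjoinRoot.powerBasis'_gen _]
      rfl) (Fin.cast hdim.symm i)
    exact h1
  refine ⟨hG, ?_⟩
  let e : Fin T.n ≃ (Σ a, Fin (d a)) ⊕ Fin R.n := Fintype.equivOfCardEq (by
    rw [Fintype.card_sum, Fintype.card_sigma, Fintype.card_fin, Fintype.card_fin]
    simp only [Fintype.card_fin]
    exact hn.symm)
  let vec : (Σ a, Fin (d a)) ⊕ Fin R.n → Fin T.n → F :=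
    Sum.elim (fun z => (T.g ^ (z.2 : ℕ)) (u z.1)) (fun z => E (Pi.single z 1))
  let L : (Fin T.n → F) →ₗ[F] (Fin T.n → F) := (Pi.basisFun F (Fin T.n)).constr F fun i => vec (e i)
  have hL : ∀ i, L (Pi.single i 1) = vec (e i) := fun i => by
    rw [← Pi.basisFun_apply]
    exact Basis.constr_basis _ _ _ _
  have hmat : LinearMap.BilinForm.toMatrix' (T.B.comp L L) =
      (Matrix.fromBlocks G 0 0 (LinearMap.BilinForm.toMatrix' R.B)).submatrix e e := by
    ext i j
    rw [LinearMap.BilinForm.toMatrix'_apply, LinearMap.BilinForm.comp_apply, hL, hL, Matrix.submatrix_apply]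
    rcases e i with z | z <;> rcases e j with w | w
    · rfl
    · show T.B ((T.g ^ (z.2 : ℕ)) (u z.1)) (E (Pi.single w 1)) = 0
      rw [T.sym, ho, mul_zero]
    · exact ho _ _ _
    · show T.B (E (Pi.single z 1)) (E (Pi.single w 1)) = LinearMap.BilinForm.toMatrix' R.B z w
      rw [hE, LinearMap.BilinForm.toMatrix'_apply]
  have hdet := congrArg Matrix.det hmat
  rw [Matrix.det_submatrix_equiv_self, Matrix.det_fromBlocks_zero₁₂, LinearMap.BilinForm.toMatrix'_comp,
    Matrix.det_mul, Matrix.det_mul, Matrix.det_transpose] at hdet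
  refine ⟨(LinearMap.toMatrix' L).det, fun h0 => ?_, by rw [← show _ = G.det * disc R from hdet, disc]; ring⟩
  rw [h0, mul_zero] at hdet
  exact mul_ne_zero hG (disc_ne_zero R) hdet.symm

variable [Finite F]

theorem isSquare_cancel {a b : F} (hb : b ≠ 0) (h : IsSquare (a * b)) (h' : IsSquare b) : IsSquare a := by
  obtain ⟨r, hr⟩ := h
  obtain ⟨s, rfl⟩ := h'
  have hs : s ≠ 0 := left_ne_zero_of_mul hb
  exact ⟨r / s, by field_simp; linear_combination hr⟩

theorem SameDisc.of_iso {T T' : Tri F ε} (h : T.Iso T') : SameDisc T T' := by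
  obtain ⟨φ, hB, -⟩ := h
  have hn : T.n = T'.n := by simpa using φ.finrank_eq
  obtain ⟨n, B, g, nd, sy, is⟩ := T
  obtain ⟨n', B', g', nd', sy', is'⟩ := T'
  obtain rfl : n = n' := hn
  change ((Fin n → F) ≃ₗ[F] (Fin n → F)) at φ
  have h1 : B'.comp φ.toLinearMap φ.toLinearMap = B := LinearMap.ext fun x => LinearMap.ext fun y => hB x y
  have h2 := congrArg (fun C => (LinearMap.BilinForm.toMatrix' C).det) h1
  simp only [LinearMap.BilinForm.toMatrix'_comp, Matrix.det_mul, Matrix.det_transpose] at h2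
  refine ⟨(LinearMap.toMatrix' φ.toLinearMap).det * (LinearMap.BilinForm.toMatrix' B').det, ?_⟩
  show (LinearMap.BilinForm.toMatrix' B).det * (LinearMap.BilinForm.toMatrix' B').det = _
  rw [← h2]; ring

/-- With the discriminant fixed, at most `2 ^ (numSigns - 1)` classes of symmetric isometries share a label. -/
theorem exists_code_disc (h2 : (2 : F) ≠ 0) : ∀ (S : Multiset (F[X] × ℕ)),
    ∃ χ : Tri F (1 : F) → Fin (2 ^ (numSigns (1 : F) S - 1)),
      ∀ T T' : Tri F (1 : F), Labels T.g S → Labels T'.g S → SameDisc T T' → χ T = χ T' → T.Iso T' := by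
  classical
  have hεε : (1 : F) * 1 = 1 := one_mul 1
  intro S
  induction S using Multiset.strongInductionOn with
  | ih S ih =>
    by_cases hex : ∃ T₀ : Tri F (1 : F), Labels T₀.g S
    swap
    · exact ⟨fun _ => ⟨0, Nat.two_pow_pos _⟩, fun T T' hT => absurd ⟨T, hT⟩ hex⟩
    obtain ⟨T₀, hS₀⟩ := hex
    by_cases hne : S = 0
    · refine ⟨fun _ => ⟨0, Nat.two_pow_pos _⟩, fun T T' hT hT' _ _ => iso_of_empty ?_ ?_⟩
      · have := labels_sum hT; simpa [hne] using this.symm
      · have := labels_sum hT'; simpa [hne] using this.symm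
    obtain ⟨r, c, hc, N, χ, P, hr, hc0, hHas, hN, -, -, hscale⟩ := exists_step hεε h2 T₀ hS₀ hne
    set S₁ := (Finset.univ : Finset (Fin r)).val.map c with hS₁
    set S₂ := S - S₁ with hS₂
    let d : Fin r → ℕ := fun a => ((c a).1 ^ (c a).2).natDegree
    -- the rest
    have hrest : ∀ T : Tri F (1 : F), ∃ R : Tri F (1 : F), Labels T.g S → Labels R.g S₂ ∧ S₁ ≤ S ∧
        ∃ (u : Fin r → Fin T.n → F) (E : (Fin R.n → F) →ₗ[F] (Fin T.n → F)),
          (∀ a, aeval T.g ((c a).1 ^ (c a).2) (u a) = 0) ∧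
          (∀ a b i, T.B ((T.g ^ i) (u a)) (u b) = P (χ T) a b i) ∧
          (∀ x y, T.B (E x) (E y) = R.B x y) ∧ (∀ x, E (R.g x) = T.g (E x)) ∧
          (∀ z b j, T.B (E z) ((T.g ^ j) (u b)) = 0) ∧
          ⊤ ≤ LinearMap.range (orbitMap T u) ⊔ LinearMap.range E ∧
          (gramOf T d u).det ≠ 0 ∧ ∃ t : F, t ≠ 0 ∧ t ^ 2 * disc T = (gramOf T d u).det * disc R := fun T => by
      by_cases hT : Labels T.g S
      swap
      · exact ⟨T, fun h => absurd h hT⟩
      obtain ⟨u, hu, hfaith, hgram⟩ := hHas T hT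
      obtain ⟨R, E, -, hEB, hEg, hEo, hEs, hEl⟩ := peel T c hc u hu hfaith
      obtain ⟨SR, hSR⟩ := exists_labels R.g
      have hsum : S₁ + SR = S := labels_unique (hEl SR hSR) hT
      have hn : ∑ a, ((c a).1 ^ (c a).2).natDegree + R.n = T.n := by
        have h3 := labels_sum hT
        rw [← hsum, Multiset.map_add, Multiset.sum_add, labels_sum hSR, Module.finrank_fin_fun,
          Module.finrank_fin_fun, hS₁, Multiset.map_map] at h3
        refine Eq.trans ?_ h3
        simp only [natDegree_pow]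
        rfl
      obtain ⟨hG, ht⟩ := disc_decomp (fun a => (hc a).1) hu hfaith E hEB hEo hn
      refine ⟨R, fun _ => ⟨?_, hsum ▸ Multiset.le_add_right S₁ SR, u, E, hu, hgram, hEB, hEg, hEo, hEs, hG, ht⟩⟩
      rw [hS₂, ← hsum, add_tsub_cancel_left]
      exact hSR
    choose R hR using hrest
    obtain ⟨hR₀, hle, -⟩ := hR T₀ hS₀
    have hlt : S₂ < S := lt_of_le_of_ne (Multiset.sub_le_self S S₁) fun he => by
      have h3 := congrArg Multiset.card (tsub_add_cancel_of_le hle)
      rw [Multiset.card_add, ← hS₂, he, hS₁, Multiset.card_map, ← Finset.card_def, Finset.card_univ, Fintype.card_fin] at h3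
      omega
    have hsub : S₂.toFinset.filter (IsSign (1 : F)) ⊆ S.toFinset.filter (IsSign (1 : F)) :=
      Finset.filter_subset_filter _ (Multiset.toFinset_subset.2 (Multiset.subset_of_le hlt.le))
    choose M hM hper using fun a => exists_period (F := F) (ε := (1 : F)) ((hc a).1.pow (c a).2) (by
      rw [coeff_zero_eq_eval_zero, eval_pow, ← coeff_zero_eq_eval_zero]
      exact pow_ne_zero _ (hc0 a))
    rcases hN with hN1 | ⟨hN2, x, hx, hcnt, a, ha⟩
    · -- one choice: the rest keeps its square class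
      subst hN1
      obtain ⟨χ', hχ'⟩ := ih S₂ hlt
      have hbound : 2 ^ (numSigns (1 : F) S₂ - 1) ≤ 2 ^ (numSigns (1 : F) S - 1) :=
        Nat.pow_le_pow_right two_pos (Nat.sub_le_sub_right (Finset.card_le_card hsub) 1)
      refine ⟨fun T => Fin.castLE hbound (χ' (R T)), fun T T' hT hT' hd he => ?_⟩
      obtain ⟨hRl, -, u, E, hu, hgram, hEB, hEg, hEo, hEs, hG, t, ht, htd⟩ := hR T hT
      obtain ⟨hRl', -, u', E', hu', hgram', hEB', hEg', hEo', hEs', hG', t', ht', htd'⟩ := hR T' hT'
      have hge := gram_eq M hM (fun a => hper a T _ (hu a)) (fun a => hper a T' _ (hu' a))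
        (fun a b i => by rw [hgram, hgram', Subsingleton.elim (χ T) (χ T')])
      have hGG : gramOf T d u = gramOf T' d u' := funext fun z => funext fun w => hge _ _ _ _
      refine glue u u' E E' hEB hEB' hEg hEg' hEo hEo' hEs hEs' hge
        (hχ' _ _ hRl hRl' ?_ (Fin.castLE_injective hbound he))
      obtain ⟨s, hs⟩ := hd
      refine ⟨t * t' * s / (gramOf T d u).det, ?_⟩
      rw [hGG] at hG htd ⊢
      field_simp
      linear_combination (-(gramOf T' d u').det * disc (R T')) * htd + (-(t ^ 2 * disc T)) * htd' + t ^ 2 * t' ^ 2 * hs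
    · -- two choices, told apart by the square class
      subst hN2
      obtain ⟨χ', hχ'⟩ := exists_code hεε h2 S₂
      have hbound : 2 ^ numSigns (1 : F) S₂ ≤ 2 ^ (numSigns (1 : F) S - 1) := by
        refine Nat.pow_le_pow_right two_pos (Nat.le_sub_one_of_lt (Finset.card_lt_card
          (Finset.ssubset_iff_of_subset hsub |>.2 ⟨x, Finset.mem_filter.2
            ⟨Multiset.mem_toFinset.2 (Multiset.count_pos.1 (by omega)), hx⟩, fun hm => ?_⟩)))
        have h3 := Multiset.count_pos.2 (Multiset.mem_toFinset.1 (Finset.mem_filter.1 hm).1)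
        rw [hS₂, Multiset.count_sub] at h3
        have h4 : 1 ≤ S₁.count x := Multiset.count_pos.2 (ha ▸ Multiset.mem_map_of_mem c (Finset.mem_univ_val a))
        omega
      refine ⟨fun T => Fin.castLE hbound (χ' (R T)), fun T T' hT hT' hd he => ?_⟩
      obtain ⟨hRl, -, u, E, hu, hgram, hEB, hEg, hEo, hEs, hG, t, ht, htd⟩ := hR T hT
      obtain ⟨hRl', -, u', E', hu', hgram', hEB', hEg', hEo', hEs', hG', t', ht', htd'⟩ := hR T' hT'
      have hiso := hχ' _ _ hRl hRl' (Fin.castLE_injective hbound he)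
      by_cases hee : χ T = χ T'
      · exact glue u u' E E' hEB hEB' hEg hEg' hEo hEo' hEs hEs'
          (gram_eq M hM (fun a => hper a T _ (hu a)) (fun a => hper a T' _ (hu' a))
            (fun a b i => by rw [hgram, hgram', hee])) hiso
      exfalso
      obtain ⟨hodd, σ, hσ, hPσ⟩ := hscale _ _ hee
      have hσ0 : σ ≠ 0 := fun h1 => hσ (h1 ▸ IsSquare.zero)
      have key : ∀ (U : Tri F (1 : F)) (v : Fin r → Fin U.n → F), (∀ b, (U.g ^ M b) (v b) = v b) → ∀ a b i j,
          U.B ((U.g ^ i) (v a)) ((U.g ^ j) (v b)) = U.B ((U.g ^ (i + j * (M a - 1))) (v a)) (v b) := by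
        intro U v hv a b i j
        have hp : ∀ k, ((U.g ^ (M a)) ^ k) (v a) = v a := fun k => by
          induction k with
          | zero => simp
          | succ k ih => rw [pow_succ, Module.End.mul_apply, hv, ih]
        rw [← U.isom_pow j ((U.g ^ (i + j * (M a - 1))) (v a)) (v b), ← Module.End.mul_apply, ← pow_add,
          show j + (i + j * (M a - 1)) = i + M a * j by
            obtain ⟨m, hm⟩ : ∃ m, M a = m + 1 := ⟨M a - 1, by have := hM a; omega⟩
            rw [hm, Nat.add_sub_cancel]; ring,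
          pow_add, Module.End.mul_apply, pow_mul, hp]
      have hGG : gramOf T' d u' = σ • gramOf T d u := funext fun z => funext fun w => by
        show T'.B _ _ = σ • T.B _ _
        rw [key T u (fun a => hper a T _ (hu a)), key T' u' (fun a => hper a T' _ (hu' a)), hgram, hgram', hPσ,
          smul_eq_mul]
      obtain ⟨m, hm⟩ := hodd rfl
      have hcard : Fintype.card (Σ a, Fin (d a)) = 2 * m + 1 := by
        rw [Fintype.card_sigma, ← hm]
        simp only [Fintype.card_fin, d, natDegree_pow]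
      rw [hGG, Matrix.det_smul, hcard] at htd'
      refine hσ ?_
      obtain ⟨s, hs⟩ := hd
      obtain ⟨w, hw⟩ := SameDisc.of_iso hiso
      have hw0 : w ≠ 0 := fun h1 => mul_ne_zero (disc_ne_zero (R T)) (disc_ne_zero (R T')) (by rw [hw, h1, mul_zero])
      refine ⟨t * t' * s / (σ ^ m * (gramOf T d u).det * w), ?_⟩
      field_simp
      linear_combination (-(σ * (σ ^ m) ^ 2 * (gramOf T d u).det * disc (R T'))) * htd
        + (-(t ^ 2 * disc T)) * htd' + t ^ 2 * t' ^ 2 * hs
        - (σ * (σ ^ m) ^ 2 * (gramOf T d u).det ^ 2) * hw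

end Cfsg.Agent.Classical.IsometryClasses
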