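import Cfsg.Agent.Lib.Classical.UnitClassLabels

/-!
Isometries of non-degenerate `ε`-symmetric forms: cyclic submodules, the duality of `AdjoinRoot`, splitting off
a non-degenerate part, and gluing.
-/

set_option autoImplicit false

namespace Cfsg.Agent.Classical.IsometryClasses

open Polynomial Module
open LinearMap (BilinForm)
open Cfsg.Agent.Classical.SLClasses Cfsg.Agent.Classical.UnitClasses Cfsg.Agent.UnitaryDetCentralizer

universe u

/-- An isometry of a non-degenerate `ε`-symmetric form. -/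
structure Tri (F : Type u) [Field F] (ε : F) where
  n : ℕ
  B : BilinForm F (Fin n → F)
  g : Module.End F (Fin n → F)
  nondeg : B.Nondegenerate
  sym : ∀ x y, B x y = ε * B y x
  isom : ∀ x y, B (g x) (g y) = B x y

variable {F : Type u} [Field F] {ε : F}

/-- Two triples are isometric. -/
def Tri.Iso (T T' : Tri F ε) : Prop :=
  ∃ e : (Fin T.n → F) ≃ₗ[F] (Fin T'.n → F),
    (∀ x y, T'.B (e x) (e y) = T.B x y) ∧ ∀ x, e (T.g x) = T'.g (e x)

theorem Tri.g_injective (T : Tri F ε) : Function.Injective T.g :=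
  (injective_iff_map_eq_zero T.g).2 fun x hx => T.nondeg.1 _ fun z => by
    rw [← T.isom, hx, map_zero, LinearMap.zero_apply]

theorem Tri.isom_pow (T : Tri F ε) (j : ℕ) : ∀ x y, T.B ((T.g ^ j) x) ((T.g ^ j) y) = T.B x y := by
  induction j with
  | zero => simp
  | succ j ih => intro x y; rw [pow_succ', Module.End.mul_apply, Module.End.mul_apply, T.isom, ih]

theorem Tri.pow_injective (T : Tri F ε) (j : ℕ) : Function.Injective (T.g ^ j) :=
  (injective_iff_map_eq_zero (T.g ^ j)).2 fun x hx => T.nondeg.1 _ fun z => by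
    rw [← T.isom_pow j, hx, map_zero, LinearMap.zero_apply]

theorem Tri.isRefl (T : Tri F ε) : T.B.IsRefl := fun x y h => by
  rw [T.sym, h, mul_zero]

/-- The evaluation of the cyclic submodule generated by `x`. -/
noncomputable def Tri.ev (T : Tri F ε) {Q : F[X]} (hQ : Q.Monic) (x : Fin T.n → F) :
    AdjoinRoot Q →ₗ[F] (Fin T.n → F) :=
  ((LinearMap.applyₗ x).comp (aeval T.g).toLinearMap).comp (AdjoinRoot.modByMonicHom hQ)

variable (T : Tri F ε) {Q : F[X]}

theorem ev_mk (hQ : Q.Monic) {x : Fin T.n → F} (hx : aeval T.g Q x = 0) (P : F[X]) :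
    T.ev hQ x (AdjoinRoot.mk Q P) = aeval T.g P x := by
  show aeval T.g (AdjoinRoot.modByMonicHom hQ (AdjoinRoot.mk Q P)) x = _
  rw [AdjoinRoot.modByMonicHom_mk hQ]
  conv_rhs => rw [← modByMonic_add_div P Q]
  rw [map_add, LinearMap.add_apply, mul_comm, map_mul, Module.End.mul_apply, hx, map_zero, add_zero]

theorem ev_one (hQ : Q.Monic) {x : Fin T.n → F} (hx : aeval T.g Q x = 0) : T.ev hQ x 1 = x := by
  rw [← map_one (AdjoinRoot.mk Q), ev_mk T hQ hx, map_one, Module.End.one_apply]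

theorem ev_root_pow_mul (hQ : Q.Monic) {x : Fin T.n → F} (hx : aeval T.g Q x = 0) (j : ℕ) (a : AdjoinRoot Q) :
    T.ev hQ x (AdjoinRoot.root Q ^ j * a) = (T.g ^ j) (T.ev hQ x a) := by
  obtain ⟨P, rfl⟩ := AdjoinRoot.mk_surjective a
  rw [← AdjoinRoot.mk_X, ← map_pow, ← map_mul, ev_mk T hQ hx, ev_mk T hQ hx, map_mul, map_pow, aeval_X,
    Module.End.mul_apply]

theorem ev_killed (hQ : Q.Monic) {x : Fin T.n → F} (hx : aeval T.g Q x = 0) (a : AdjoinRoot Q) :
    aeval T.g Q (T.ev hQ x a) = 0 := by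
  obtain ⟨P, rfl⟩ := AdjoinRoot.mk_surjective a
  rw [ev_mk T hQ hx, ← Module.End.mul_apply, ← map_mul, mul_comm, map_mul, Module.End.mul_apply, hx, map_zero]

theorem ev_ev (hQ : Q.Monic) {x : Fin T.n → F} (hx : aeval T.g Q x = 0) (a b : AdjoinRoot Q) :
    T.ev hQ (T.ev hQ x a) b = T.ev hQ x (b * a) := by
  obtain ⟨P, rfl⟩ := AdjoinRoot.mk_surjective a
  obtain ⟨R, rfl⟩ := AdjoinRoot.mk_surjective b
  rw [ev_mk T hQ (ev_killed T hQ hx _), ev_mk T hQ hx, ← map_mul, ev_mk T hQ hx, map_mul, Module.End.mul_apply]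

theorem ev_add (hQ : Q.Monic) (x y : Fin T.n → F) (a : AdjoinRoot Q) :
    T.ev hQ (x + y) a = T.ev hQ x a + T.ev hQ y a := by
  simp [Tri.ev]

theorem isUnit_root (h0 : Q.coeff 0 ≠ 0) : IsUnit (AdjoinRoot.root Q) := by
  refine isUnit_iff_exists_inv.2 ⟨AdjoinRoot.mk Q (Q.divX * C (-(Q.coeff 0)⁻¹)), ?_⟩
  rw [← AdjoinRoot.mk_X, ← map_mul, ← map_one (AdjoinRoot.mk Q), AdjoinRoot.mk_eq_mk]
  refine ⟨C (-(Q.coeff 0)⁻¹), ?_⟩
  have h := X_mul_divX_add Q
  have h1 : C (Q.coeff 0) * C (-(Q.coeff 0)⁻¹) = (-1 : F[X]) := by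
    rw [← C_mul, mul_neg, mul_inv_cancel₀ h0, C_neg, C_1]
  linear_combination C (-(Q.coeff 0)⁻¹) * h - h1

/-- The inverse of the root. -/
noncomputable def rinv (Q : F[X]) : AdjoinRoot Q := Ring.inverse (AdjoinRoot.root Q)

theorem root_mul_rinv (h0 : Q.coeff 0 ≠ 0) : AdjoinRoot.root Q * rinv Q = 1 :=
  Ring.mul_inverse_cancel _ (isUnit_root h0)

theorem aeval_rinv_cdual (h0 : Q.coeff 0 ≠ 0) : aeval (rinv Q) (cdual (RingHom.id F) Q) = 0 := by
  obtain ⟨u, hu⟩ := isUnit_root h0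
  letI : Invertible (AdjoinRoot.root Q) := ⟨rinv Q, by rw [mul_comm]; exact root_mul_rinv h0, root_mul_rinv h0⟩
  have h := eval₂_reverse_mul_pow (algebraMap F (AdjoinRoot Q)) (AdjoinRoot.root Q) Q
  rw [← aeval_def, ← aeval_def, AdjoinRoot.aeval_eq, AdjoinRoot.mk_self] at h
  have h2 : aeval (rinv Q) Q.reverse = 0 := by
    have h3 : IsUnit (AdjoinRoot.root Q ^ Q.natDegree) := (isUnit_root h0).pow _
    exact h3.mul_left_eq_zero.1 h
  rw [cdual, map_mul, Polynomial.map_id, h2, mul_zero]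

/-- The duality between two cyclic modules. -/
noncomputable def dmap (Q Q' : F[X]) (h : aeval (rinv Q) Q' = 0) : AdjoinRoot Q' →ₐ[F] AdjoinRoot Q :=
  AdjoinRoot.liftAlgHom Q' (Algebra.ofId F (AdjoinRoot Q)) (rinv Q) h

theorem dmap_root {Q' : F[X]} (h : aeval (rinv Q) Q' = 0) : dmap Q Q' h (AdjoinRoot.root Q') = rinv Q :=
  AdjoinRoot.liftAlgHom_root _ _ _ _

theorem adjoint (hQ : Q.Monic) (h0 : Q.coeff 0 ≠ 0) {Q' : F[X]} (hQ' : Q'.Monic) (h : aeval (rinv Q) Q' = 0)
    {x y : Fin T.n → F} (hx : aeval T.g Q x = 0) (hy : aeval T.g Q' y = 0) (a : AdjoinRoot Q)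
    (b : AdjoinRoot Q') :
    T.B (T.ev hQ x a) (T.ev hQ' y b) = T.B (T.ev hQ x (a * dmap Q Q' h b)) y := by
  obtain ⟨P, rfl⟩ := AdjoinRoot.mk_surjective b
  induction P using Polynomial.induction_on' with
  | add p q hp hq => simp only [map_add, mul_add, LinearMap.add_apply, hp, hq]
  | monomial k c =>
    have e1 : AdjoinRoot.mk Q' (monomial k c) = c • (AdjoinRoot.root Q' ^ k * 1) := by
      rw [← C_mul_X_pow_eq_monomial, map_mul, map_pow, AdjoinRoot.mk_X, AdjoinRoot.mk_C,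
        ← AdjoinRoot.algebraMap_eq, ← Algebra.smul_def, mul_one]
    rw [e1]
    simp only [map_smul, mul_smul_comm, LinearMap.smul_apply]
    rw [map_mul (dmap Q Q' h), map_pow (dmap Q Q' h), map_one (dmap Q Q' h), dmap_root, mul_one (rinv Q ^ k),
      ev_root_pow_mul T hQ' hy, ev_one T hQ' hy]
    congr 1
    conv_lhs => rw [show a = AdjoinRoot.root Q ^ k * (a * rinv Q ^ k) by
      rw [mul_comm a, ← mul_assoc, ← mul_pow, root_mul_rinv h0, one_pow, one_mul]]
    rw [ev_root_pow_mul T hQ hx, T.isom_pow]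

theorem exists_period [Finite F] (hQ : Q.Monic) (h0 : Q.coeff 0 ≠ 0) :
    ∃ M : ℕ, 0 < M ∧ ∀ (T : Tri F ε) (x : Fin T.n → F), aeval T.g Q x = 0 → (T.g ^ M) x = x := by
  haveI : Module.Finite F (AdjoinRoot Q) := (AdjoinRoot.powerBasis hQ.ne_zero).finite
  haveI : Finite (AdjoinRoot Q) := Module.finite_of_finite F
  obtain ⟨u, hu⟩ := isUnit_root h0
  refine ⟨orderOf u, orderOf_pos u, fun T x hx => ?_⟩
  have h1 : AdjoinRoot.root Q ^ orderOf u = 1 := by
    rw [← hu, ← Units.val_pow_eq_pow_val, pow_orderOf_eq_one, Units.val_one]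
  conv_rhs => rw [← ev_one T hQ hx, ← h1, ← mul_one (AdjoinRoot.root Q ^ orderOf u), ev_root_pow_mul T hQ hx,
    ev_one T hQ hx]

/-- Pairings of two generating families agree once they agree against the generators. -/
theorem gram_eq {T T' : Tri F ε} {ι : Type*} {u : ι → Fin T.n → F} {u' : ι → Fin T'.n → F} (M : ι → ℕ)
    (hM : ∀ a, 0 < M a) (hu : ∀ a, (T.g ^ M a) (u a) = u a) (hu' : ∀ a, (T'.g ^ M a) (u' a) = u' a)
    (h : ∀ a b i, T.B ((T.g ^ i) (u a)) (u b) = T'.B ((T'.g ^ i) (u' a)) (u' b)) (a b : ι) (i j : ℕ) :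
    T.B ((T.g ^ i) (u a)) ((T.g ^ j) (u b)) = T'.B ((T'.g ^ i) (u' a)) ((T'.g ^ j) (u' b)) := by
  have key : ∀ (T : Tri F ε) (u : ι → Fin T.n → F), (∀ a, (T.g ^ M a) (u a) = u a) →
      T.B ((T.g ^ i) (u a)) ((T.g ^ j) (u b)) = T.B ((T.g ^ (i + j * (M a - 1))) (u a)) (u b) := by
    intro T u hu
    have hper : ∀ k, ((T.g ^ (M a)) ^ k) (u a) = u a := fun k => by
      induction k with
      | zero => simp
      | succ k ih => rw [pow_succ, Module.End.mul_apply, hu, ih]
    rw [← T.isom_pow j ((T.g ^ (i + j * (M a - 1))) (u a)) (u b), ← Module.End.mul_apply, ← pow_add,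
      show j + (i + j * (M a - 1)) = i + M a * j by
        obtain ⟨m, hm⟩ : ∃ m, M a = m + 1 := ⟨M a - 1, by have := hM a; omega⟩
        rw [hm, Nat.add_sub_cancel]; ring,
      pow_add, Module.End.mul_apply, pow_mul, hper]
  rw [key T u hu, key T' u' hu', h]

/-- The span of the orbits of a family. -/
noncomputable def orbitMap {ι : Type*} (u : ι → Fin T.n → F) : ((ι × ℕ) →₀ F) →ₗ[F] (Fin T.n → F) :=
  Finsupp.linearCombination F fun z => (T.g ^ z.2) (u z.1)

theorem g_orbitMap {ι : Type*} (u : ι → Fin T.n → F) (z : (ι × ℕ) →₀ F) :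
    T.g (orbitMap T u z) = orbitMap T u (Finsupp.lmapDomain F F (fun x : ι × ℕ => (x.1, x.2 + 1)) z) := by
  induction z using Finsupp.induction_linear with
  | zero => simp
  | add p q hp hq => simp only [map_add, hp, hq]
  | single x c => simp [orbitMap, pow_succ', Module.End.mul_apply]

/-- Gluing isometries of an orthogonal decomposition. -/
theorem glue {T T' R R' : Tri F ε} {ι : Type*} (u : ι → Fin T.n → F) (u' : ι → Fin T'.n → F)
    (E : (Fin R.n → F) →ₗ[F] (Fin T.n → F)) (E' : (Fin R'.n → F) →ₗ[F] (Fin T'.n → F))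
    (hE : ∀ x y, T.B (E x) (E y) = R.B x y) (hE' : ∀ x y, T'.B (E' x) (E' y) = R'.B x y)
    (hg : ∀ x, E (R.g x) = T.g (E x)) (hg' : ∀ x, E' (R'.g x) = T'.g (E' x))
    (ho : ∀ z b j, T.B (E z) ((T.g ^ j) (u b)) = 0) (ho' : ∀ z b j, T'.B (E' z) ((T'.g ^ j) (u' b)) = 0)
    (hs : ⊤ ≤ LinearMap.range (orbitMap T u) ⊔ LinearMap.range E)
    (hs' : ⊤ ≤ LinearMap.range (orbitMap T' u') ⊔ LinearMap.range E')
    (hgram : ∀ a b i j, T.B ((T.g ^ i) (u a)) ((T.g ^ j) (u b)) = T'.B ((T'.g ^ i) (u' a)) ((T'.g ^ j) (u' b)))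
    (hR : R.Iso R') : T.Iso T' := by
  classical
  obtain ⟨e, heB, heg⟩ := hR
  let L : (((ι × ℕ) →₀ F) × (Fin R.n → F)) →ₗ[F] (Fin T.n → F) := (orbitMap T u).coprod E
  let L' : (((ι × ℕ) →₀ F) × (Fin R.n → F)) →ₗ[F] (Fin T'.n → F) :=
    (orbitMap T' u').coprod (E'.comp e.toLinearMap)
  have hsurj : Function.Surjective L := LinearMap.range_eq_top.1 (top_le_iff.1 (by
    rw [LinearMap.range_coprod]; exact hs))
  have hsurj' : Function.Surjective L' := LinearMap.range_eq_top.1 (top_le_iff.1 (by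
    rw [LinearMap.range_coprod, LinearMap.range_comp, LinearEquiv.range, Submodule.map_top]; exact hs'))
  have hUU : ∀ z w, T.B (orbitMap T u z) (orbitMap T u w) = T'.B (orbitMap T' u' z) (orbitMap T' u' w) := by
    intro z w
    induction z using Finsupp.induction_linear with
    | zero => simp
    | add p q hp hq => simp only [map_add, LinearMap.add_apply, hp, hq]
    | single x c =>
      induction w using Finsupp.induction_linear with
      | zero => simp
      | add p q hp hq => simp only [map_add, hp, hq]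
      | single y d =>
        simp only [orbitMap, Finsupp.linearCombination_single, map_smul, LinearMap.smul_apply, hgram]
  have hEU : ∀ z w, T.B (E z) (orbitMap T u w) = 0 := fun z w => by
    induction w using Finsupp.induction_linear with
    | zero => simp
    | add p q hp hq => simp only [map_add, hp, hq, add_zero]
    | single y d => simp [orbitMap, ho]
  have hEU' : ∀ z w, T'.B (E' z) (orbitMap T' u' w) = 0 := fun z w => by
    induction w using Finsupp.induction_linear with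
    | zero => simp
    | add p q hp hq => simp only [map_add, hp, hq, add_zero]
    | single y d => simp [orbitMap, ho']
  have hform : ∀ p q, T'.B (L' p) (L' q) = T.B (L p) (L q) := by
    intro p q
    simp only [L, L', LinearMap.coprod_apply, LinearMap.comp_apply, LinearEquiv.coe_coe, map_add,
      LinearMap.add_apply]
    rw [T.sym (orbitMap T u p.1) (E q.2), T'.sym (orbitMap T' u' p.1) (E' (e q.2)), hUU, hEU, hEU, hEU', hEU',
      hE, hE', heB]
  have hker : ∀ p, L p = 0 ↔ L' p = 0 := by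
    intro p
    constructor
    · intro h
      refine T'.nondeg.1 _ fun y => ?_
      obtain ⟨q, rfl⟩ := hsurj' y
      rw [hform, h, map_zero, LinearMap.zero_apply]
    · intro h
      refine T.nondeg.1 _ fun y => ?_
      obtain ⟨q, rfl⟩ := hsurj y
      rw [← hform, h, map_zero, LinearMap.zero_apply]
  have hk : LinearMap.ker L = LinearMap.ker L' := Submodule.ext fun p => hker p
  let Φ : (Fin T.n → F) ≃ₗ[F] (Fin T'.n → F) :=
    (L.quotKerEquivOfSurjective hsurj).symm.trans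
      ((Submodule.quotEquivOfEq _ _ hk).trans (L'.quotKerEquivOfSurjective hsurj'))
  have hΦ : ∀ p, Φ (L p) = L' p := fun p => by
    have h1 : (L.quotKerEquivOfSurjective hsurj).symm (L p) = Submodule.Quotient.mk p := by
      rw [LinearEquiv.symm_apply_eq]; rfl
    show (L'.quotKerEquivOfSurjective hsurj') ((Submodule.quotEquivOfEq _ _ hk)
      ((L.quotKerEquivOfSurjective hsurj).symm (L p))) = L' p
    rw [h1]
    rfl
  refine ⟨Φ, fun x y => ?_, fun x => ?_⟩
  · obtain ⟨p, rfl⟩ := hsurj x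
    obtain ⟨q, rfl⟩ := hsurj y
    rw [hΦ, hΦ, hform]
  · obtain ⟨p, rfl⟩ := hsurj x
    let σ : ((ι × ℕ) →₀ F) →ₗ[F] ((ι × ℕ) →₀ F) := Finsupp.lmapDomain F F fun x : ι × ℕ => (x.1, x.2 + 1)
    have h1 : T.g (L p) = L (σ p.1, R.g p.2) := by
      simp only [L, LinearMap.coprod_apply, map_add, g_orbitMap, hg]
      rfl
    rw [h1, hΦ, hΦ]
    simp only [L', LinearMap.coprod_apply, map_add, g_orbitMap, LinearMap.comp_apply, LinearEquiv.coe_coe, heg, hg']
    rfl

/-- Labels of a direct sum. -/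
theorem labels_sum_map {V W₁ W₂ : Type*} [AddCommGroup V] [Module F V] [FiniteDimensional F V]
    [AddCommGroup W₁] [Module F W₁] [FiniteDimensional F W₁] [AddCommGroup W₂] [Module F W₂]
    [FiniteDimensional F W₂] {h : End F V} {h₁ : End F W₁} {h₂ : End F W₂}
    (L₁ : W₁ →ₗ[F] V) (L₂ : W₂ →ₗ[F] V) (i₁ : ∀ x, h (L₁ x) = L₁ (h₁ x)) (i₂ : ∀ x, h (L₂ x) = L₂ (h₂ x))
    (hsup : ⊤ ≤ LinearMap.range L₁ ⊔ LinearMap.range L₂) (hdim : finrank F W₁ + finrank F W₂ = finrank F V)
    {S T : Multiset (F[X] × ℕ)} (hS : Labels h₁ S) (hT : Labels h₂ T) : Labels h (S + T) := by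
  classical
  obtain ⟨r, c, rfl, hc, hMA⟩ := hS
  obtain ⟨r', c', rfl, hc', hMB⟩ := hT
  obtain ⟨v, hv, hvs⟩ := exists_vectors hMA
  obtain ⟨w, hw, hws⟩ := exists_vectors hMB
  refine ⟨r + r', Fin.append c c', ?_, fun i => ?_, ?_⟩
  · simp only [Fin.univ_def, Multiset.map_coe, ← List.ofFn_eq_map, Multiset.coe_add, ← List.ofFn_fin_append]
  · refine Fin.addCases (fun i => ?_) (fun i => ?_) i
    · rw [Fin.append_left]; exact hc i
    · rw [Fin.append_right]; exact hc' i
  refine model_of_vectors _ _ (fun i => ?_) (Fin.append (fun i => L₁ (v i)) (fun i => L₂ (w i))) (fun i => ?_) ?_ ?_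
  · refine Fin.addCases (fun i => ?_) (fun i => ?_) i
    · rw [Fin.append_left]; exact (hc i).1.pow _
    · rw [Fin.append_right]; exact (hc' i).1.pow _
  · refine Fin.addCases (fun i => ?_) (fun i => ?_) i
    · rw [Fin.append_left, Fin.append_left, aeval_intertwine L₁ i₁, hv, map_zero]
    · rw [Fin.append_right, Fin.append_right, aeval_intertwine L₂ i₂, hw, map_zero]
  · refine hsup.trans (sup_le ?_ ?_)
    · rw [LinearMap.range_eq_map]
      refine (Submodule.map_mono hvs).trans ?_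
      rw [Submodule.map_span, Submodule.span_le]
      rintro _ ⟨_, ⟨⟨i, j⟩, rfl⟩, rfl⟩
      refine Submodule.subset_span ⟨(Fin.castAdd r' i, j), ?_⟩
      show (h ^ j) (Fin.append (fun i => L₁ (v i)) (fun i => L₂ (w i)) (Fin.castAdd r' i)) = _
      rw [Fin.append_left, pow_intertwine L₁ i₁]
    · rw [LinearMap.range_eq_map]
      refine (Submodule.map_mono hws).trans ?_
      rw [Submodule.map_span, Submodule.span_le]
      rintro _ ⟨_, ⟨⟨i, j⟩, rfl⟩, rfl⟩
      refine Submodule.subset_span ⟨(Fin.natAdd r i, j), ?_⟩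
      show (h ^ j) (Fin.append (fun i => L₁ (v i)) (fun i => L₂ (w i)) (Fin.natAdd r i)) = _
      rw [Fin.append_right, pow_intertwine L₂ i₂]
  · rw [Fin.sum_univ_add, ← hdim]
    simp only [Fin.append_left, Fin.append_right]
    rw [finrank_of_model (fun i => (hc i).1.pow _) hMA, finrank_of_model (fun i => (hc' i).1.pow _) hMB]

/-- A non-degenerate orbit span is an orthogonal summand. -/
theorem peel {r : ℕ} (c : Fin r → F[X] × ℕ) (hc : ∀ a, (c a).1.Monic ∧ Irreducible (c a).1 ∧ 1 ≤ (c a).2)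
    (u : Fin r → Fin T.n → F) (hk : ∀ a, aeval T.g ((c a).1 ^ (c a).2) (u a) = 0)
    (faith : ∀ x : ∀ a, AdjoinRoot ((c a).1 ^ (c a).2),
      (∀ b j, T.B (∑ a, T.ev ((hc a).1.pow _) (u a) (x a)) ((T.g ^ j) (u b)) = 0) → x = 0) :
    ∃ (R : Tri F ε) (E : (Fin R.n → F) →ₗ[F] (Fin T.n → F)),
      Function.Injective E ∧ (∀ x y, T.B (E x) (E y) = R.B x y) ∧ (∀ x, E (R.g x) = T.g (E x)) ∧
      (∀ z b j, T.B (E z) ((T.g ^ j) (u b)) = 0) ∧
      ⊤ ≤ LinearMap.range (orbitMap T u) ⊔ LinearMap.range E ∧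
      ∀ SR, Labels R.g SR → Labels T.g (Finset.univ.val.map c + SR) := by
  classical
  haveI : ∀ a, FiniteDimensional F (AdjoinRoot ((c a).1 ^ (c a).2)) := fun a =>
    (AdjoinRoot.powerBasis ((hc a).1.pow _).ne_zero).finite
  let φ : (∀ a, AdjoinRoot ((c a).1 ^ (c a).2)) →ₗ[F] (Fin T.n → F) :=
    ∑ a, (T.ev ((hc a).1.pow _) (u a)).comp (LinearMap.proj a)
  have hφ : ∀ x, φ x = ∑ a, T.ev ((hc a).1.pow _) (u a) (x a) := fun x => by simp [φ]
  have hφi : Function.Injective φ := (injective_iff_map_eq_zero φ).2 fun x hx => faith x fun b j => by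
    rw [← hφ, hx, map_zero, LinearMap.zero_apply]
  let h₁ : End F (∀ a, AdjoinRoot ((c a).1 ^ (c a).2)) :=
    LinearMap.pi fun a => (LinearMap.mulLeft F (AdjoinRoot.root ((c a).1 ^ (c a).2))).comp (LinearMap.proj a)
  have hφg : ∀ x, T.g (φ x) = φ (h₁ x) := fun x => by
    rw [hφ, hφ, map_sum]
    refine Finset.sum_congr rfl fun a _ => ?_
    have h := ev_root_pow_mul T ((hc a).1.pow _) (hk a) 1 (x a)
    rw [pow_one, pow_one] at h
    exact h.symm
  set U := LinearMap.range φ with hU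
  have hgen : ∀ b j, (T.g ^ j) (u b) ∈ U := fun b j => by
    refine ⟨Pi.single b (AdjoinRoot.root ((c b).1 ^ (c b).2) ^ j * 1), ?_⟩
    rw [hφ, Finset.sum_eq_single b (fun a _ ha => by rw [Pi.single_eq_of_ne ha, map_zero]) (by simp),
      Pi.single_eq_same, ev_root_pow_mul T ((hc b).1.pow _) (hk b), ev_one T ((hc b).1.pow _) (hk b)]
  have hU' : U ≤ LinearMap.range (orbitMap T u) := by
    rintro _ ⟨x, rfl⟩
    rw [hφ]
    refine Submodule.sum_mem _ fun a _ => ?_
    obtain ⟨P, hP⟩ := AdjoinRoot.mk_surjective (x a)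
    rw [← hP, ev_mk T ((hc a).1.pow _) (hk a), aeval_eq_sum_range, LinearMap.sum_apply]
    refine Submodule.sum_mem _ fun j _ => ?_
    rw [LinearMap.smul_apply]
    exact Submodule.smul_mem _ _ ⟨Finsupp.single (a, j) 1, by simp [orbitMap]⟩
  have hdisj : Disjoint U (T.B.orthogonal U) := by
    rw [Submodule.disjoint_def]
    rintro _ ⟨x, rfl⟩ hx
    have : x = 0 := faith x fun b j => by
      rw [← hφ]
      exact T.isRefl _ _ (hx _ (hgen b j))
    rw [this, map_zero]
  set O := T.B.orthogonal U with hO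
  have hcompl : IsCompl U O := (LinearMap.BilinForm.isCompl_orthogonal_iff_disjoint T.isRefl).2 hdisj
  have hgO : ∀ x ∈ O, T.g x ∈ O := by
    intro x hx y hy
    obtain ⟨z, rfl⟩ := hy
    have hh : Function.Surjective h₁ := by
      refine (LinearMap.injective_iff_surjective).1 fun p p' he => hφi (T.g_injective ?_)
      rw [hφg, hφg, he]
    obtain ⟨z', rfl⟩ := hh z
    rw [← hφg]
    show T.B (T.g (φ z')) (T.g x) = 0
    rw [T.isom]
    exact hx _ ⟨z', rfl⟩
  let e : O ≃ₗ[F] (Fin (finrank F O) → F) := LinearEquiv.ofFinrankEq _ _ (by rw [Module.finrank_fin_fun])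
  let E : (Fin (finrank F O) → F) →ₗ[F] (Fin T.n → F) := O.subtype.comp e.symm.toLinearMap
  have hEi : Function.Injective E := O.injective_subtype.comp e.symm.injective
  have hEr : LinearMap.range E = O := by
    rw [LinearMap.range_comp, LinearEquiv.range, Submodule.map_top, Submodule.range_subtype]
  have hEU : ∀ z y, y ∈ U → T.B (E z) y = 0 := fun z y hy => T.isRefl _ _ ((e.symm z).2 _ hy)
  refine ⟨⟨finrank F O, T.B.compl₁₂ E E, e.conj (T.g.restrict hgO), ?_, fun x y => T.sym _ _, fun x y => ?_⟩, E,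
    hEi, fun x y => rfl, fun x => ?_, fun z b j => hEU z _ (hgen b j), ?_, fun SR hSR => ?_⟩
  · have h0 : ∀ x, (∀ y, T.B (E x) (E y) = 0) → x = 0 := fun x hx => hEi (by
      rw [map_zero]
      refine T.nondeg.1 _ fun z => ?_
      obtain ⟨a, ha, b, hb, rfl⟩ : ∃ a ∈ U, ∃ b ∈ O, a + b = z :=
        Submodule.mem_sup.1 (hcompl.sup_eq_top ▸ Submodule.mem_top)
      rw [← hEr] at hb
      obtain ⟨y, rfl⟩ := hb
      rw [map_add, hEU x a ha, hx y, add_zero])
    exact ⟨h0, fun x hx => h0 x fun y => T.isRefl _ _ (hx y)⟩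
  · simp only [LinearEquiv.conj_apply, LinearMap.compl₁₂_apply, LinearMap.comp_apply, LinearEquiv.coe_coe, E,
      LinearEquiv.symm_apply_apply, Submodule.subtype_apply, LinearMap.coe_restrict_apply, T.isom]
  · simp only [LinearEquiv.conj_apply, LinearMap.comp_apply, LinearEquiv.coe_coe, E, LinearEquiv.symm_apply_apply,
      Submodule.subtype_apply, LinearMap.coe_restrict_apply]
  · rw [hEr, ← hcompl.sup_eq_top]
    exact sup_le_sup_right hU' _
  · refine labels_sum_map φ E hφg (fun x => ?_) (by rw [← hU, hEr, hcompl.sup_eq_top]) ?_ ?_ hSR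
    · simp only [LinearEquiv.conj_apply, LinearMap.comp_apply, LinearEquiv.coe_coe, E, LinearEquiv.symm_apply_apply,
        Submodule.subtype_apply, LinearMap.coe_restrict_apply]
    · rw [← LinearMap.finrank_range_of_inj hφi, ← LinearMap.finrank_range_of_inj hEi, hEr, ← hU,
        Submodule.finrank_add_eq_of_isCompl hcompl]
    · exact ⟨r, c, rfl, hc, LinearEquiv.refl F _, fun x => rfl⟩

end Cfsg.Agent.Classical.IsometryClasses
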