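import Cfsg.Agent.Lib.Classical.IsometryTwoGauss

/-!
Isometries in characteristic two: classes with equal elementary divisors and flags are separated by bits.
-/

set_option autoImplicit false

namespace Cfsg.Agent.Classical.IsometryTwo

open Polynomial Module
open Cfsg.Agent.Classical.SLClasses Cfsg.Agent.Classical.UnitClasses Cfsg.Agent.Classical.IsometryClasses
  Cfsg.Agent.UnitaryDetCentralizer

universe u

variable {F : Type u} [Field F] [Finite F] [CharP F 2] {o : Bool}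

attribute [local instance] Classical.propDecidable

/-- Elementary divisors together with flags. -/
def Key (S : Multiset (F[X] × ℕ)) (Fl : Finset ℕ) (T : Tw F o) : Prop := Labels T.g S ∧ flags T S = Fl

/-- The bits. -/
noncomputable def bits (o : Bool) (S : Multiset (F[X] × ℕ)) (Fl : Finset ℕ) : Finset ℕ :=
  (exps S).filter (Bit o S Fl)

/-- One summand, normalised in every triple with the given key. -/
structure Step (o : Bool) (S : Multiset (F[X] × ℕ)) (Fl : Finset ℕ) : Type u where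
  r : ℕ
  c : Fin r → F[X] × ℕ
  hr : 0 < r
  hc : ∀ a, (c a).1.Monic ∧ Irreducible (c a).1 ∧ 1 ≤ (c a).2
  hc0 : ∀ a, (c a).1.coeff 0 ≠ 0
  hcd : (Finset.univ.val.map c).map (cd (RingHom.id F)) = Finset.univ.val.map c
  htop : ∀ a, (c a).1 = f1 F → ∀ y ∈ S, y.1 = f1 F → y.2 ≤ (c a).2
  hpar : ∀ l, l ∉ Fl → Even ((Finset.univ.val.map c).count (f1 F, l))
  N : ℕ
  χ : Tw F o → Fin N
  u : ∀ T : Tw F o, Fin r → Fin T.n → F
  hk : ∀ T, Key S Fl T → ∀ a, aeval T.g ((c a).1 ^ (c a).2) (u T a) = 0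
  hfaith : ∀ T, Key S Fl T → ∀ x : ∀ a, AdjoinRoot ((c a).1 ^ (c a).2),
    (∀ b j, T.B (∑ a, T.toTri.ev ((hc a).1.pow _) (u T a) (x a)) ((T.g ^ j) (u T b)) = 0) → x = 0
  hflag : ∀ T, Key S Fl T → ∀ (R : Tw F o) (E : (Fin R.n → F) →ₗ[F] (Fin T.n → F)), Split T c (u T) R E →
    ∀ SR, Labels R.g SR → Finset.univ.val.map c + SR = S → ∀ l ∈ exps SR, (R.Flag l ↔ T.Flag l)
  hgram : ∀ T T', Key S Fl T → Key S Fl T' → χ T = χ T' →
    (∀ a b i, T.B ((T.g ^ i) (u T a)) (u T b) = T'.B ((T'.g ^ i) (u T' a)) (u T' b)) ∧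
      ∀ a, T.Q (u T a) = T'.Q (u T' a)
  hN : N = 1 ∨ (N = 2 ∧ (∃ k ∈ bits o S Fl, ∀ SR, Finset.univ.val.map c + SR = S → (f1 F, k) ∉ SR) ∧
    (o = true → ∀ T, Key S Fl T → ∀ (R : Tw F o) (E : (Fin R.n → F) →ₗ[F] (Fin T.n → F)), Split T c (u T) R E →
      ∃ M : ℕ, 0 < M ∧ blockSum T (u T) = M * if (χ T : ℕ) = 0 then 1 else -1))

theorem flag_of_key {S : Multiset (F[X] × ℕ)} {Fl : Finset ℕ} {T : Tw F o} (h : Key S Fl T) {l : ℕ}
    (hl : (f1 F, l) ∈ S) : T.Flag l ↔ l ∈ Fl := by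
  rw [← h.2, flags, Finset.mem_filter, mem_exps]
  exact ⟨fun hf => ⟨hl, hf⟩, fun hf => hf.2⟩

theorem Q_away {r : ℕ} {c : Fin r → F[X] × ℕ} (hne : ∀ a, (c a).1 ≠ f1 F)
    (hc : ∀ a, (c a).1.Monic ∧ Irreducible (c a).1) {T T' : Tw F o} {u : Fin r → Fin T.n → F}
    {u' : Fin r → Fin T'.n → F} (hk : ∀ a, aeval T.g ((c a).1 ^ (c a).2) (u a) = 0)
    (hk' : ∀ a, aeval T'.g ((c a).1 ^ (c a).2) (u' a) = 0)
    (hg : ∀ a b i j, T.B ((T.g ^ i) (u a)) ((T.g ^ j) (u b)) = T'.B ((T'.g ^ i) (u' a)) ((T'.g ^ j) (u' b)))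
    (a : Fin r) : T.Q (u a) = T'.Q (u' a) := by
  rcases Bool.eq_false_or_eq_true o with ho | ho
  swap
  · rw [T.Q_off ho, T'.Q_off ho]
  have hlo : lo o = 0 := by rw [ho]; rfl
  obtain ⟨A, B, hAB⟩ := ((hc a).2.coprime_iff_not_dvd.2 fun hd => hne a
    (eq_of_monic_of_associated (hc a).1 (monic_X_sub_C 1) ((hc a).2.associated_of_dvd irreducible_f1 hd))).pow_left
      (m := (c a).2)
  have key : ∀ (T : Tw F o) (x : Fin T.n → F), aeval T.g ((c a).1 ^ (c a).2) x = 0 →
      T.Q x = T.B (aeval T.g (X * B) x) (aeval T.g B x) := fun T x hx => by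
    have h1 : x = T.Pi (aeval T.g B x) := by
      rw [pi_eq_aeval, ← Module.End.mul_apply, ← map_mul, mul_comm]
      conv_lhs => rw [← Module.End.one_apply (R := F) x, ← map_one (aeval (R := F) T.g), ← hAB]
      rw [map_add, LinearMap.add_apply, map_mul, Module.End.mul_apply, hx, map_zero, zero_add]
    conv_lhs => rw [h1]
    rw [← psi_zero, psi_pi T hlo.le, psi_succ, pow_zero, Module.End.one_apply, map_mul, aeval_X, Module.End.mul_apply]
  rw [key T _ (hk a), key T' _ (hk' a)]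
  simp only [aeval_eq_sum_range, LinearMap.sum_apply, LinearMap.smul_apply, map_sum, map_smul, hg]

theorem single_count {k l : ℕ} :
    (Finset.univ.val.map fun _ : Fin 1 => (f1 F, k)).count (f1 F, l) = if l = k then 1 else 0 := by
  simp [Multiset.count_singleton]

theorem pair_count {k l : ℕ} :
    (Finset.univ.val.map fun _ : Fin 2 => (f1 F, k)).count (f1 F, l) = if l = k then 2 else 0 := by
  simp only [Fin.univ_val_map, List.ofFn_succ, List.ofFn_zero, Multiset.coe_count, List.count_cons, List.count_nil]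
  split_ifs with h1 h2 h2 <;> simp_all

theorem exists_step_f1_single {S : Multiset (F[X] × ℕ)} {Fl : Finset ℕ} {k : ℕ} (hk : 1 ≤ k) (hke : Even k)
    (hkFl : k ∈ Fl) (hmax : ∀ y ∈ S, y.1 = f1 F → y.2 ≤ k) : Nonempty (Step o S Fl) := by
  classical
  obtain ⟨j, rfl⟩ := hke
  rw [← two_mul] at hk hkFl hmax
  have hj : 1 ≤ j := by omega
  have hex : ∀ T : Tw F o, ∃ v : Fin T.n → F, Key S Fl T →
      (T.Pi ^ (2 * j)) v = 0 ∧ T.Psi v j = 1 ∧ (∀ r, lo o ≤ r → r + 1 < j → T.Psi v r = 0) ∧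
      (lo o ≤ j - 1 → T.Psi v (j - 1) = 0 ∨ T.Psi v (j - 1) = tau F) ∧
      (2 ≤ S.count (f1 F, 2 * j) → T.Crit (2 * j) v) ∧
      (¬ (Bit o S Fl (2 * j) ∧ S.count (f1 F, 2 * j) = 1) → lo o ≤ j - 1 → T.Psi v (j - 1) = 0) := fun T => by
    by_cases hT : Key S Fl T
    · obtain ⟨v, hv⟩ := exists_single hT.1 hj rfl hmax (by rw [hT.2]; exact hkFl)
      rw [hT.2] at hv
      exact ⟨v, fun _ => hv⟩
    · exact ⟨0, fun h => absurd h hT⟩
  choose v hv using hex
  let N := if Bit o S Fl (2 * j) ∧ S.count (f1 F, 2 * j) = 1 then 2 else 1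
  have hN0 : 0 < N := by simp only [N]; split_ifs <;> omega
  let χ : Tw F o → Fin N := fun T => if hN : 1 < N then (if T.Psi (v T) (j - 1) = 0 then ⟨0, hN0⟩ else ⟨1, hN⟩)
    else ⟨0, hN0⟩
  refine ⟨{
    r := 1, c := fun _ => (f1 F, 2 * j), hr := one_pos,
    hc := fun _ => ⟨monic_X_sub_C 1, irreducible_f1, hk⟩, hc0 := fun _ => coeff_f1,
    hcd := ?_, htop := fun _ _ => hmax, hpar := fun l hl => ?_, N := N, χ := χ, u := fun T _ => v T,
    hk := fun T hT _ => (killed_iff T).1 (hv T hT).1, hfaith := fun T hT x hx => ?_, hflag := ?_, hgram := ?_,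
    hN := ?_ }⟩
  · simp only [Fin.univ_val_map, List.ofFn_succ, List.ofFn_zero, Multiset.map_coe, List.map_cons, List.map_nil]
    rw [show cd (RingHom.id F) (f1 F, 2 * j) = (f1 F, 2 * j) from Prod.ext rd_f1 rfl]
  · rw [single_count, if_neg (fun h => hl (by rw [h]; exact hkFl))]
    exact Even.zero
  · obtain ⟨hvk, hvt, -⟩ := hv T hT
    refine faith T hk (fun _ => v T) (fun _ => hvk) (fun y hy => funext fun a => ?_) x hx
    have h1 := hy 0
    rw [Fin.sum_univ_one, ← psi_top T hj hvk, hvt, mul_one] at h1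
    rw [Subsingleton.elim a 0]; exact h1
  · intro T hT R E h SR hSR hsum l hl
    obtain ⟨hvk, hvt, -, -, hcrit, -⟩ := hv T hT
    have htop : T.top (2 * j) (v T) (v T) = 1 := by rw [← psi_top T hj hvk, hvt]
    by_cases hlk : l = 2 * j
    · subst hlk
      refine ⟨fun hf => h.flag_of_rest hf, fun _ => (flag_rest_iff h hk (even_two_mul j) hvk
        (by rw [htop]; exact one_ne_zero)).2 (hcrit ?_)⟩
      rw [← hsum, Multiset.count_add, single_count, if_pos rfl]
      have := Multiset.count_pos.2 (mem_exps.1 hl)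
      omega
    · exact (h.flag_iff_ne hk (fun _ => rfl) (fun y hy => funext fun a => by
        have h1 := hy 0
        rw [Fin.sum_univ_one, htop, mul_one] at h1
        rw [Subsingleton.elim a 0]; exact h1) hlk).symm
  · intro T T' hT hT' hχ
    obtain ⟨hvk, hvt, hlow, hmid, -, hN'⟩ := hv T hT
    obtain ⟨hvk', hvt', hlow', hmid', -, hN''⟩ := hv T' hT'
    refine gram_of_levels T (k := 2 * j) (fun _ => v T) (fun _ => v T') (fun _ => hvk) (fun _ => hvk')
      (fun a r hr hr2 => ?_) fun a b hab => absurd (Subsingleton.elim a b) hab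
    rcases Nat.lt_or_ge (r + 1) j with h1 | h1
    · rw [hlow r hr h1, hlow' r hr h1]
    rcases eq_or_lt_of_le (show r ≤ j by omega) with rfl | h2
    · rw [hvt, hvt']
    obtain rfl : r = j - 1 := by omega
    by_cases hb : Bit o S Fl (2 * j) ∧ S.count (f1 F, 2 * j) = 1
    · have hN2 : 1 < N := by simp only [N]; rw [if_pos hb]; omega
      simp only [χ, dif_pos hN2] at hχ
      rcases hmid hr with h3 | h3 <;> rcases hmid' hr with h4 | h4
      · rw [h3, h4]
      · rw [if_pos h3] at hχ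
        by_cases h5 : T'.Psi (v T') (j - 1) = 0
        · rw [h3, h5]
        · rw [if_neg h5] at hχ; exact absurd (congrArg Fin.val hχ) zero_ne_one
      · rw [if_pos h4] at hχ
        by_cases h5 : T.Psi (v T) (j - 1) = 0
        · rw [h4, h5]
        · rw [if_neg h5] at hχ; exact absurd (congrArg Fin.val hχ) one_ne_zero
      · rw [h3, h4]
    · rw [hN' hb hr, hN'' hb hr]
  · by_cases hb : Bit o S Fl (2 * j) ∧ S.count (f1 F, 2 * j) = 1
    swap
    · left; simp only [N, if_neg hb]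
    refine Or.inr ⟨by simp only [N, if_pos hb], ⟨2 * j, Finset.mem_filter.2 ⟨mem_exps.2 (Multiset.count_pos.1
      (by omega)), hb.1⟩, fun SR hsum hm => ?_⟩, fun ho T hT R E h => ?_⟩
    · have h1 := hb.2
      rw [← hsum, Multiset.count_add, single_count, if_pos rfl] at h1
      have := Multiset.count_pos.2 hm
      omega
    · obtain ⟨hvk, hvt, -, hmid, -⟩ := hv T hT
      obtain ⟨M, hM, hMs⟩ := blockSum_single ho hj rfl h hvt
      refine ⟨M, hM, hMs.trans (congrArg _ ?_)⟩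
      have hN2 : 1 < N := by simp only [N]; rw [if_pos hb]; omega
      simp only [χ, dif_pos hN2]
      have hlo : lo o ≤ j - 1 := by rw [ho]; exact Nat.zero_le _
      by_cases h5 : T.Psi (v T) (j - 1) = 0
      · rw [if_pos h5, h5, chi_zero]; rfl
      · rw [if_neg h5, (hmid hlo).resolve_left h5, chi_tau]; rfl

theorem exists_step_f1_pair {S : Multiset (F[X] × ℕ)} {Fl : Finset ℕ} {k : ℕ} (hk : 1 ≤ k) (hx : (f1 F, k) ∈ S)
    (hkFl : Even k → k ∉ Fl) (hmax : ∀ y ∈ S, y.1 = f1 F → y.2 ≤ k) : Nonempty (Step o S Fl) := by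
  classical
  obtain ⟨φ, hφ⟩ := exists_top_functional (F := F) hk
  have hex : ∀ T : Tw F o, ∃ v w : Fin T.n → F, Key S Fl T →
      (T.Pi ^ k) v = 0 ∧ (T.Pi ^ k) w = 0 ∧ (∀ a, T.B (T.e k v a) w = φ a) ∧
      T.top k v v = 0 ∧ T.top k w w = 0 ∧
      (∀ r, lo o ≤ r → r < k / 2 → T.Psi v r = 0 ∧ T.Psi w r = 0) ∧
      (lo o ≤ k / 2 → (T.Psi v (k / 2) = 0 ∧ T.Psi w (k / 2) = 0) ∨
        (T.Psi v (k / 2) = 1 ∧ T.Psi w (k / 2) = tau F ∧ Bit o S Fl k ∧ S.count (f1 F, k) ≤ 2)) := fun T => by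
    by_cases hT : Key S Fl T
    · obtain ⟨v, w, hvw⟩ := exists_pair hT.1 hmax hk hx (fun he => by rw [hT.2]; exact hkFl he) hφ
      rw [hT.2] at hvw
      exact ⟨v, w, fun _ => hvw⟩
    · exact ⟨0, 0, fun h => absurd h hT⟩
  choose v w hvw using hex
  let N := if Bit o S Fl k ∧ S.count (f1 F, k) ≤ 2 then 2 else 1
  have hN0 : 0 < N := by simp only [N]; split_ifs <;> omega
  let χ : Tw F o → Fin N := fun T => if hN : 1 < N then (if T.Psi (v T) (k / 2) = 0 then ⟨0, hN0⟩ else ⟨1, hN⟩)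
    else ⟨0, hN0⟩
  have hinv : ∀ T, Key S Fl T → ∀ y : Fin 2 → F,
      (∀ b, ∑ a, y a * T.top k (![v T, w T] a) (![v T, w T] b) = 0) → y = 0 := fun T hT y hy => by
    obtain ⟨hvk, hwk, hvw', hvv, hww, -⟩ := hvw T hT
    have h01 : T.top k (v T) (w T) = 1 := by rw [top_eq T hvk, hvw', hφ]
    have h10 : T.top k (w T) (v T) = 1 := by rw [top_comm T hk hvk, h01]
    have h0 := hy 0
    have h1 := hy 1
    simp only [Fin.sum_univ_two, Matrix.cons_val_zero, Matrix.cons_val_one, hvv, hww, h01, h10, mul_zero, mul_one,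
      zero_add, add_zero] at h0 h1
    funext a
    fin_cases a
    · exact h1
    · exact h0
  refine ⟨{
    r := 2, c := fun _ => (f1 F, k), hr := two_pos,
    hc := fun _ => ⟨monic_X_sub_C 1, irreducible_f1, hk⟩, hc0 := fun _ => coeff_f1,
    hcd := ?_, htop := fun _ _ => hmax, hpar := fun l hl => ?_, N := N, χ := χ, u := fun T => ![v T, w T],
    hk := fun T hT a => (killed_iff T).1 ?_, hfaith := fun T hT x hx => ?_, hflag := ?_, hgram := ?_,
    hN := ?_ }⟩
  · simp only [Fin.univ_val_map, List.ofFn_succ, List.ofFn_zero, Multiset.map_coe, List.map_cons, List.map_nil]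
    rw [show cd (RingHom.id F) (f1 F, k) = (f1 F, k) from Prod.ext rd_f1 rfl]
  · rw [pair_count]; split_ifs <;> simp
  · fin_cases a
    · exact (hvw T hT).1
    · exact (hvw T hT).2.1
  · refine faith T hk ![v T, w T] (fun a => ?_) (hinv T hT) x hx
    fin_cases a
    · exact (hvw T hT).1
    · exact (hvw T hT).2.1
  · intro T hT R E h SR hSR hsum l hl
    by_cases hlk : l = k
    · subst hlk
      refine ⟨fun hf => h.flag_of_rest hf, fun hf => absurd ((flag_of_key hT hx).1 hf) (hkFl hf.1)⟩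
    · exact (h.flag_iff_ne hk (fun _ => rfl) (hinv T hT) hlk).symm
  · intro T T' hT hT' hχ
    obtain ⟨hvk, hwk, hvw', hvv, hww, hlow, hmid⟩ := hvw T hT
    obtain ⟨hvk', hwk', hvw'', hvv', hww', hlow', hmid'⟩ := hvw T' hT'
    have hkill : ∀ a : Fin 2, (T.Pi ^ k) (![v T, w T] a) = 0 := fun a => by fin_cases a <;> assumption
    have hkill' : ∀ a : Fin 2, (T'.Pi ^ k) (![v T', w T'] a) = 0 := fun a => by fin_cases a <;> assumption
    refine gram_of_levels T (k := k) ![v T, w T] ![v T', w T'] hkill hkill' (fun a r hr hr2 => ?_) ?_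
    · rcases Nat.lt_or_ge r (k / 2) with h1 | h1
      · fin_cases a
        · exact (hlow r hr h1).1.trans (hlow' r hr h1).1.symm
        · exact (hlow r hr h1).2.trans (hlow' r hr h1).2.symm
      obtain rfl : r = k / 2 := by omega
      have hsame : T.Psi (v T) (k / 2) = T'.Psi (v T') (k / 2) ∧ T.Psi (w T) (k / 2) = T'.Psi (w T') (k / 2) := by
        rcases hmid hr with ⟨a1, a2⟩ | ⟨a1, a2, a3⟩ <;> rcases hmid' hr with ⟨b1, b2⟩ | ⟨b1, b2, b3⟩
        · exact ⟨a1.trans b1.symm, a2.trans b2.symm⟩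
        · have hN2 : 1 < N := by simp only [N]; rw [if_pos b3]; omega
          simp only [χ, dif_pos hN2, if_pos a1, if_neg (show ¬ T'.Psi (v T') (k / 2) = 0 by rw [b1]; exact one_ne_zero)]
            at hχ
          exact absurd (congrArg Fin.val hχ) zero_ne_one
        · have hN2 : 1 < N := by simp only [N]; rw [if_pos a3]; omega
          simp only [χ, dif_pos hN2, if_pos b1, if_neg (show ¬ T.Psi (v T) (k / 2) = 0 by rw [a1]; exact one_ne_zero)]
            at hχ
          exact absurd (congrArg Fin.val hχ) one_ne_zero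
        · exact ⟨a1.trans b1.symm, a2.trans b2.symm⟩
      fin_cases a
      · exact hsame.1
      · exact hsame.2
    · intro a b hab c
      have key : ∀ (T : Tw F o) (x y : Fin T.n → F), (T.Pi ^ k) x = 0 → (T.Pi ^ k) y = 0 →
          (∀ a, T.B (T.e k x a) y = φ a) → T.B (T.e k y c) x = φ (dmap _ _ (self_f1 k) c) := fun T x y hxk hyk hxy => by
        rw [B_comm, B_self T.toTri (monic_f1 k) (coeff_pow_f1 k) ((killed_iff T).1 hxk) ((killed_iff T).1 hyk)
          (monic_f1 k) (self_f1 k), hxy]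
      fin_cases a <;> fin_cases b
      · exact absurd rfl hab
      · exact (hvw' c).trans (hvw'' c).symm
      · exact (key T _ _ hvk hwk hvw').trans (key T' _ _ hvk' hwk' hvw'').symm
      · exact absurd rfl hab
  · by_cases hb : Bit o S Fl k ∧ S.count (f1 F, k) ≤ 2
    swap
    · left; simp only [N, if_neg hb]
    refine Or.inr ⟨by simp only [N, if_pos hb], ⟨k, Finset.mem_filter.2 ⟨mem_exps.2 hx, hb.1⟩,
      fun SR hsum hm => ?_⟩, fun ho T hT R E h => ?_⟩
    · have h1 := hb.2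
      rw [← hsum, Multiset.count_add, pair_count, if_pos rfl] at h1
      have := Multiset.count_pos.2 hm
      omega
    · obtain ⟨hvk, hwk, hvw', hvv, hww, -, hmid⟩ := hvw T hT
      have hodd : ¬ Even k := fun he => hkFl he ((act_even he).1 hb.1.1)
      obtain ⟨i, hi⟩ := Nat.not_even_iff_odd.1 hodd
      have hi2 : k / 2 = i := by omega
      have hlo : lo o ≤ k / 2 := by rw [ho]; exact Nat.zero_le _
      have hN2 : 1 < N := by simp only [N]; rw [if_pos hb]; omega
      simp only [χ, dif_pos hN2]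
      rw [hi2] at hmid hlo ⊢
      obtain ⟨M, hM, hMs⟩ := blockSum_pair ho hi h (by rw [top_eq T hvk, hvw', hφ]) (by
        rcases hmid hlo with ⟨a1, -⟩ | ⟨a1, -⟩ <;> rw [a1] <;> simp)
      refine ⟨M, hM, hMs.trans (congrArg _ ?_)⟩
      rcases hmid hlo with ⟨a1, -⟩ | ⟨a1, a2, -⟩
      · rw [if_pos a1, a1, zero_mul, chi_zero]; rfl
      · rw [if_neg (show ¬ T.Psi (v T) i = 0 by rw [a1]; exact one_ne_zero), a1, a2, one_mul, chi_tau]; rfl

theorem exists_step_other {S : Multiset (F[X] × ℕ)} {Fl : Finset ℕ} {f : F[X]} {k : ℕ} (T₀ : Tw F o)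
    (hT₀ : Key S Fl T₀) (hx : (f, k) ∈ S) (hmax : ∀ y ∈ S, y.2 ≤ k) (hne : f ≠ f1 F) : Nonempty (Step o S Fl) := by
  classical
  have hεε : (1 : F) * 1 = 1 := one_mul 1
  obtain ⟨hf, hfi, hf0, hk⟩ := labels_mem (det_ne_zero T₀.toTri) hT₀.1 _ hx
  dsimp only at hf hfi hf0 hk
  obtain ⟨h0, h0', hm', hi', hf0', h, h'⟩ := rd_facts hf hfi hf0 k
  have hinv : rd (rd f) = f := cdual_cdual _ (fun _ => rfl) hf hf0
  have fin : ∀ (r : ℕ) (c : Fin r → F[X] × ℕ) (hc : ∀ a, (c a).1.Monic ∧ Irreducible (c a).1 ∧ 1 ≤ (c a).2),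
      0 < r → (∀ a, (c a).1.coeff 0 ≠ 0) → (∀ a, (c a).1 ≠ f1 F) →
      (Finset.univ.val.map c).map (cd (RingHom.id F)) = Finset.univ.val.map c →
      ∀ (P : Fin r → Fin r → ℕ → F), (∀ T : Tw F o, Labels T.g S → Has T.toTri c (fun a => (hc a).1) P) →
      Nonempty (Step o S Fl) := by
    intro r c hc hr hc0 hcne hcd P hP
    have hex : ∀ T : Tw F o, ∃ u : Fin r → Fin T.n → F, Key S Fl T →
        (∀ a, aeval T.g ((c a).1 ^ (c a).2) (u a) = 0) ∧
        (∀ x : ∀ a, AdjoinRoot ((c a).1 ^ (c a).2),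
          (∀ b j, T.B (∑ a, T.toTri.ev ((hc a).1.pow _) (u a) (x a)) ((T.g ^ j) (u b)) = 0) → x = 0) ∧
        ∀ a b i, T.B ((T.g ^ i) (u a)) (u b) = P a b i := fun T => by
      by_cases hT : Key S Fl T
      · obtain ⟨u, h1, h2, h3⟩ := hP T hT.1
        exact ⟨u, fun _ => ⟨h1, h2, h3⟩⟩
      · exact ⟨0, fun h => absurd h hT⟩
    choose u hu using hex
    choose M hM hper using fun a => exists_period (F := F) (ε := (1 : F)) ((hc a).1.pow (c a).2) (by
      rw [coeff_zero_eq_eval_zero, eval_pow, ← coeff_zero_eq_eval_zero]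
      exact pow_ne_zero _ (hc0 a))
    refine ⟨{
      r := r, c := c, hr := hr, hc := hc, hc0 := hc0, hcd := hcd,
      htop := fun a ha => absurd ha (hcne a), hpar := fun l _ => ?_, N := 1, χ := fun _ => 0, u := u,
      hk := fun T hT => (hu T hT).1, hfaith := fun T hT => (hu T hT).2.1, hflag := ?_, hgram := ?_,
      hN := Or.inl rfl }⟩
    · rw [Multiset.count_eq_zero.2 fun hm => ?_]
      · exact Even.zero
      obtain ⟨a, -, ha⟩ := Multiset.mem_map.1 hm
      exact hcne a (congrArg Prod.fst ha)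
    · intro T hT R E hs SR _ _ l _
      exact (hs.flag_iff_coprime (fun a => ⟨(hc a).1, (hc a).2.1⟩) hcne l).symm
    · intro T T' hT hT' _
      have hg := fun a b i => ((hu T hT).2.2 a b i).trans ((hu T' hT').2.2 a b i).symm
      exact ⟨hg, Q_away hcne (fun a => ⟨(hc a).1, (hc a).2.1⟩) (hu T hT).1 (hu T' hT').1
        (gram_eq (T := T.toTri) (T' := T'.toTri) M hM (fun a => hper a T.toTri _ ((hu T hT).1 a))
          (fun a => hper a T'.toTri _ ((hu T' hT').1 a)) hg)⟩
  by_cases hself : rd f = f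
  swap
  · obtain ⟨φ, hφ⟩ := exists_faithful (hf.pow k).ne_zero
    have hc : ∀ a, ((![(f, k), (rd f, k)] : Fin 2 → F[X] × ℕ) a).1.Monic ∧
        Irreducible ((![(f, k), (rd f, k)] : Fin 2 → F[X] × ℕ) a).1 ∧
        1 ≤ ((![(f, k), (rd f, k)] : Fin 2 → F[X] × ℕ) a).2 :=
      fun a => by fin_cases a <;> [exact ⟨hf, hfi, hk⟩; exact ⟨hm', hi', hk⟩]
    refine fin 2 _ hc two_pos (fun a => by fin_cases a <;> [exact hf0; exact hf0']) (fun a => ?_) ?_ _
      (fun T hT => step_pair hεε hf hfi hf0 hself hT hx hmax hφ _)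
    · fin_cases a
      · exact hne
      · intro h1
        have h2 : rd f = f1 F := h1
        exact hne (by rw [← hinv, h2, rd_f1])
    · simp only [Fin.univ_val_map, List.ofFn_succ, List.ofFn_zero, Matrix.cons_val_zero, Matrix.cons_val_succ,
        Multiset.map_coe, List.map_cons, List.map_nil]
      exact Multiset.coe_eq_coe.2 (by
        rw [show cd (RingHom.id F) (f, k) = (rd f, k) from rfl,
          show cd (RingHom.id F) (rd f, k) = (f, k) from Prod.ext hinv rfl]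
        exact List.Perm.swap _ _ _)
  rw [hself] at h
  have hunit : IsUnit (AdjoinRoot.root (f ^ k) - rinv (f ^ k)) := by
    have hcp : IsCoprime f ((X - C (1 : F)) ^ 2) := (hfi.coprime_iff_not_dvd.2 fun hd => hne
      (eq_of_monic_of_associated hf (monic_X_sub_C 1) (hfi.associated_of_dvd irreducible_f1 hd))).pow_right
    have hX2 : (X - C (1 : F)) ^ 2 = X ^ 2 - 1 := by
      rw [map_one]
      linear_combination (1 - X) * CharTwo.two_eq_zero (R := F[X])
    rw [hX2] at hcp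
    obtain ⟨s, t, hst⟩ := hcp.pow_left (m := k)
    have h1 : IsUnit (AdjoinRoot.root (f ^ k) ^ 2 - 1) := by
      refine isUnit_iff_exists_inv.2 ⟨AdjoinRoot.mk _ t, ?_⟩
      rw [← AdjoinRoot.mk_X, ← map_pow, ← map_one (AdjoinRoot.mk (f ^ k)), ← map_sub, ← map_mul, AdjoinRoot.mk_eq_mk]
      exact ⟨-s, by linear_combination hst⟩
    have h2 : AdjoinRoot.root (f ^ k) - rinv (f ^ k) = rinv (f ^ k) * (AdjoinRoot.root (f ^ k) ^ 2 - 1) := by
      linear_combination (-AdjoinRoot.root (f ^ k)) * root_mul_rinv h0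
    rw [h2]
    exact (IsUnit.of_mul_eq_one _ ((mul_comm _ _).trans (root_mul_rinv h0))).mul h1
  obtain ⟨φ, hφ⟩ := step_generic hεε hf hfi hf0 hk hself hunit hx hmax T₀.toTri hT₀.1
  refine fin 1 (fun _ => (f, k)) (fun _ => ⟨hf, hfi, hk⟩) one_pos (fun _ => hf0) (fun _ => hne) ?_ _
    (fun T hT => hφ T.toTri hT)
  simp only [Fin.univ_val_map, List.ofFn_succ, List.ofFn_zero, Multiset.map_coe, List.map_cons, List.map_nil]
  rw [show cd (RingHom.id F) (f, k) = (f, k) from Prod.ext hself rfl]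

theorem exists_step {S : Multiset (F[X] × ℕ)} {Fl : Finset ℕ} (T₀ : Tw F o) (hT₀ : Key S Fl T₀) (hne : S ≠ 0) :
    Nonempty (Step o S Fl) := by
  classical
  obtain ⟨x, hx, hmax⟩ := Finset.exists_max_image S.toFinset (fun x => x.2) (by
    rwa [Finset.nonempty_iff_ne_empty, ne_eq, Multiset.toFinset_eq_empty])
  simp only [Multiset.mem_toFinset] at hx hmax
  obtain ⟨f, k⟩ := x
  by_cases hf : f = f1 F
  · subst hf
    have hk : 1 ≤ k := (labels_mem (det_ne_zero T₀.toTri) hT₀.1 _ hx).2.2.2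
    by_cases he : Even k ∧ k ∈ Fl
    · exact exists_step_f1_single hk he.1 he.2 fun y hy _ => hmax y hy
    · exact exists_step_f1_pair hk hx (fun h1 h2 => he ⟨h1, h2⟩) fun y hy _ => hmax y hy
  · exact exists_step_other T₀ hT₀ hx hmax hf

namespace Step

variable {S : Multiset (F[X] × ℕ)} {Fl : Finset ℕ} (st : Step o S Fl)

/-- The elementary divisors of the rest. -/
noncomputable def SR : Multiset (F[X] × ℕ) := S - Finset.univ.val.map st.c

/-- The flags of the rest. -/
noncomputable def FR : Finset ℕ := Fl.filter fun l => (f1 F, l) ∈ st.SR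

theorem exists_rest {T : Tw F o} (hT : Key S Fl T) :
    ∃ (R : Tw F o) (E : (Fin R.n → F) →ₗ[F] (Fin T.n → F)), Split T st.c (st.u T) R E ∧
      Key st.SR st.FR R ∧ Finset.univ.val.map st.c + st.SR = S := by
  obtain ⟨R, E, h⟩ := exists_split T st.c st.hc (st.u T) (st.hk T hT) (st.hfaith T hT)
  obtain ⟨SR', hSR, hsum⟩ := h.hl S hT.1
  have hSR' : SR' = st.SR :=
    (add_tsub_cancel_left (Finset.univ.val.map st.c) SR').symm.trans (congrArg (· - Finset.univ.val.map st.c) hsum)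
  subst hSR'
  refine ⟨R, E, h, ⟨hSR, Finset.ext fun l => ?_⟩, hsum⟩
  rw [flags, Finset.mem_filter, Step.FR, Finset.mem_filter, mem_exps]
  constructor
  · rintro ⟨h1, h2⟩
    exact ⟨(flag_of_key hT (hsum ▸ Multiset.mem_add.2 (Or.inr h1))).1
      ((st.hflag T hT R E h _ hSR hsum l (mem_exps.2 h1)).1 h2), h1⟩
  · rintro ⟨h1, h2⟩
    exact ⟨h2, (st.hflag T hT R E h _ hSR hsum l (mem_exps.2 h2)).2
      ((flag_of_key hT (hsum ▸ Multiset.mem_add.2 (Or.inr h2))).2 h1)⟩

theorem SR_lt (hsum : Finset.univ.val.map st.c + st.SR = S) : st.SR < S := by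
  conv_rhs => rw [← hsum]
  refine lt_add_of_pos_left _ (pos_iff_ne_zero.2 fun h0 => ?_)
  have h1 := congrArg Multiset.card h0
  rw [Multiset.card_map, ← Finset.card_def, Finset.card_univ, Fintype.card_fin, Multiset.card_zero] at h1
  exact absurd h1 st.hr.ne'

theorem bits_subset (hsum : Finset.univ.val.map st.c + st.SR = S) (hFl : ∀ m ∈ Fl, (f1 F, m) ∈ S) :
    bits o st.SR st.FR ⊆ bits o S Fl := by
  intro l hl
  obtain ⟨hle, ⟨hact, hlo, hn1, hn2⟩⟩ := Finset.mem_filter.1 hl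
  rw [mem_exps] at hle
  have hmem : ∀ m, (f1 F, m) ∈ st.SR → (f1 F, m) ∈ S := fun m hm => hsum ▸ Multiset.mem_add.2 (Or.inr hm)
  have hup : ∀ m, Act o st.SR st.FR m → Act o S Fl m := fun m hm => by
    by_cases he : Even m
    · exact (act_even he).2 (Finset.mem_filter.1 ((act_even he).1 hm)).1
    · obtain ⟨h1, h2⟩ := (act_odd he).1 hm
      exact (act_odd he).2 ⟨h1, hmem m h2⟩
  have hdown : ∀ m, m < l → (Even m → m ∈ Fl → (f1 F, m) ∈ S) → Act o S Fl m → Act o st.SR st.FR m := by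
    intro m hml hFl hm
    have hR : (f1 F, m) ∈ S → (f1 F, m) ∈ st.SR := fun h => by
      rw [← hsum] at h
      refine (Multiset.mem_add.1 h).resolve_left fun h1 => ?_
      obtain ⟨a, -, ha⟩ := Multiset.mem_map.1 h1
      have h2 := st.htop a (congrArg Prod.fst ha) _ (hmem l hle) rfl
      have h3 := congrArg Prod.snd ha
      dsimp only at h2 h3
      omega
    by_cases he : Even m
    · exact (act_even he).2 (Finset.mem_filter.2 ⟨(act_even he).1 hm, hR (hFl he ((act_even he).1 hm))⟩)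
    · obtain ⟨h1, h2⟩ := (act_odd he).1 hm
      exact (act_odd he).2 ⟨h1, hR h2⟩
  refine Finset.mem_filter.2 ⟨mem_exps.2 (hmem l hle), hup l hact, hlo, fun h => ?_, fun h => ?_⟩
  · rcases Nat.eq_zero_or_pos l with rfl | hl0
    · exact hn1 ((act_even Even.zero).2 (Finset.mem_filter.2 ⟨(act_even Even.zero).1 h, hle⟩))
    · exact hn1 (hdown _ (by omega) (fun _ => hFl _) h)
  · rcases Nat.eq_zero_or_pos l with rfl | hl0
    · exact hn2 ⟨h.1, (act_even Even.zero).2 (Finset.mem_filter.2 ⟨(act_even Even.zero).1 h.2, hle⟩)⟩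
    · exact hn2 ⟨h.1, hdown _ (by omega) (fun _ => hFl _) h.2⟩

/-- Triples with equal block and isometric rests are isometric. -/
theorem iso_of_rest {T T' : Tw F o} (hT : Key S Fl T) (hT' : Key S Fl T') (hχ : st.χ T = st.χ T') {R R' : Tw F o}
    {E : (Fin R.n → F) →ₗ[F] (Fin T.n → F)} {E' : (Fin R'.n → F) →ₗ[F] (Fin T'.n → F)}
    (h : Split T st.c (st.u T) R E) (h' : Split T' st.c (st.u T') R' E') (hR : R.Iso R') :
    T.Iso T' ∧ blockSum T (st.u T) = blockSum T' (st.u T') := by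
  choose M hM hper using fun a => exists_period (F := F) (ε := (1 : F)) ((st.hc a).1.pow (st.c a).2) (by
    rw [coeff_zero_eq_eval_zero, eval_pow, ← coeff_zero_eq_eval_zero]
    exact pow_ne_zero _ (st.hc0 a))
  obtain ⟨hg, hQ⟩ := st.hgram T T' hT hT' hχ
  have hg' := gram_eq (T := T.toTri) (T' := T'.toTri) M hM (fun a => hper a T.toTri _ (st.hk T hT a))
    (fun a => hper a T'.toTri _ (st.hk T' hT' a)) hg
  exact ⟨glue_two T (st.u T) (st.u T') E E' h.hB h'.hB h.hg h'.hg h.hQ h'.hQ hQ h.ho h'.ho h.hs h'.hs hg' hR,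
    blockSum_eq hg' hQ h h'⟩

theorem blockSum_of_χ {T T' : Tw F o} (hT : Key S Fl T) (hT' : Key S Fl T') (hχ : st.χ T = st.χ T') :
    blockSum T (st.u T) = blockSum T' (st.u T') := by
  obtain ⟨R, E, h, -⟩ := st.exists_rest hT
  obtain ⟨R', E', h', -⟩ := st.exists_rest hT'
  choose M hM hper using fun a => exists_period (F := F) (ε := (1 : F)) ((st.hc a).1.pow (st.c a).2) (by
    rw [coeff_zero_eq_eval_zero, eval_pow, ← coeff_zero_eq_eval_zero]
    exact pow_ne_zero _ (st.hc0 a))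
  obtain ⟨hg, hQ⟩ := st.hgram T T' hT hT' hχ
  exact blockSum_eq (gram_eq (T := T.toTri) (T' := T'.toTri) M hM (fun a => hper a T.toTri _ (st.hk T hT a))
    (fun a => hper a T'.toTri _ (st.hk T' hT' a)) hg) hQ h h'

theorem card_bits (hsum : Finset.univ.val.map st.c + st.SR = S) (hFl : ∀ m ∈ Fl, (f1 F, m) ∈ S) :
    (st.N = 1 ∧ (bits o st.SR st.FR).card ≤ (bits o S Fl).card) ∨
      (st.N = 2 ∧ (bits o st.SR st.FR).card + 1 ≤ (bits o S Fl).card) := by
  rcases st.hN with hN | ⟨hN, ⟨k, hk, hk'⟩, -⟩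
  · exact Or.inl ⟨hN, Finset.card_le_card (st.bits_subset hsum hFl)⟩
  · refine Or.inr ⟨hN, Finset.card_lt_card ((Finset.ssubset_iff_of_subset (st.bits_subset hsum hFl)).2 ⟨k, hk,
      fun hm => hk' _ hsum (mem_exps.1 (Finset.mem_filter.1 hm).1)⟩)⟩

end Step

theorem mem_of_key {S : Multiset (F[X] × ℕ)} {Fl : Finset ℕ} {T : Tw F o} (h : Key S Fl T) :
    ∀ m ∈ Fl, (f1 F, m) ∈ S := fun m hm => by
  rw [← h.2, flags, Finset.mem_filter, mem_exps] at hm
  exact hm.1

theorem iso_empty {T T' : Tw F o} (hT : Labels T.g (0 : Multiset (F[X] × ℕ)))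
    (hT' : Labels T'.g (0 : Multiset (F[X] × ℕ))) : T.Iso T' := by
  have h0 : T.n = 0 := by have := labels_sum hT; simpa using this.symm
  have h0' : T'.n = 0 := by have := labels_sum hT'; simpa using this.symm
  obtain ⟨e, hB, hg⟩ := iso_of_empty (T := T.toTri) (T' := T'.toTri) h0 h0'
  haveI : IsEmpty (Fin T.n) := by rw [h0]; infer_instance
  refine ⟨e, hB, hg, fun x => ?_⟩
  rw [Subsingleton.elim x 0, map_zero, Q_zero, Q_zero]

/-- At most `2 ^ #bits` classes share a key. -/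
theorem exists_code : ∀ (S : Multiset (F[X] × ℕ)) (Fl : Finset ℕ),
    ∃ χ : Tw F o → Fin (2 ^ (bits o S Fl).card),
      ∀ T T', Key S Fl T → Key S Fl T' → χ T = χ T' → T.Iso T' := by
  classical
  intro S
  induction S using Multiset.strongInductionOn with
  | ih S ih =>
    intro Fl
    by_cases hex : ∃ T₀ : Tw F o, Key S Fl T₀
    swap
    · exact ⟨fun _ => ⟨0, Nat.two_pow_pos _⟩, fun T T' hT => absurd ⟨T, hT⟩ hex⟩
    obtain ⟨T₀, hT₀⟩ := hex
    by_cases hne : S = 0
    · subst hne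
      exact ⟨fun _ => ⟨0, Nat.two_pow_pos _⟩, fun T T' hT hT' _ => iso_empty hT.1 hT'.1⟩
    obtain ⟨st⟩ := exists_step T₀ hT₀ hne
    obtain ⟨_, _, -, -, hsum⟩ := st.exists_rest hT₀
    obtain ⟨χ', hχ'⟩ := ih st.SR (st.SR_lt hsum) st.FR
    have hrest : ∀ T : Tw F o, ∃ R : Tw F o, Key S Fl T → ∃ E, Split T st.c (st.u T) R E ∧ Key st.SR st.FR R :=
      fun T => by
        by_cases hT : Key S Fl T
        · obtain ⟨R, E, h1, h2, -⟩ := st.exists_rest hT
          exact ⟨R, fun _ => ⟨E, h1, h2⟩⟩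
        · exact ⟨T, fun h => absurd h hT⟩
    choose R hR using hrest
    have hbound : st.N * 2 ^ (bits o st.SR st.FR).card ≤ 2 ^ (bits o S Fl).card := by
      rcases st.card_bits hsum (mem_of_key hT₀) with ⟨h1, h2⟩ | ⟨h1, h2⟩ <;> rw [h1]
      · rw [one_mul]; exact Nat.pow_le_pow_right two_pos h2
      · rw [← pow_succ']; exact Nat.pow_le_pow_right two_pos h2
    refine ⟨fun T => Fin.castLE hbound (finProdFinEquiv (st.χ T, χ' (R T))), fun T T' hT hT' he => ?_⟩
    obtain ⟨he1, he2⟩ := Prod.mk.inj (finProdFinEquiv.injective (Fin.castLE_injective hbound he))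
    obtain ⟨E, hE, hRk⟩ := hR T hT
    obtain ⟨E', hE', hRk'⟩ := hR T' hT'
    exact (st.iso_of_rest hT hT' he1 hE hE' (hχ' _ _ hRk hRk' he2)).1

/-- With a prescribed character sum one bit is saved. -/
theorem exists_code_gauss (ho : o = true) : ∀ (S : Multiset (F[X] × ℕ)) (Fl : Finset ℕ) (g₀ : ℤ),
    ∃ χ : Tw F o → Fin (2 ^ ((bits o S Fl).card - 1)),
      ∀ T T', Key S Fl T → Key S Fl T' → T.gauss = g₀ → T'.gauss = g₀ → χ T = χ T' → T.Iso T' := by
  classical
  intro S
  induction S using Multiset.strongInductionOn with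
  | ih S ih =>
    intro Fl g₀
    by_cases hex : ∃ T₀ : Tw F o, Key S Fl T₀
    swap
    · exact ⟨fun _ => ⟨0, Nat.two_pow_pos _⟩, fun T T' hT => absurd ⟨T, hT⟩ hex⟩
    obtain ⟨T₀, hT₀⟩ := hex
    by_cases hne : S = 0
    · subst hne
      exact ⟨fun _ => ⟨0, Nat.two_pow_pos _⟩, fun T T' hT hT' _ _ _ => iso_empty hT.1 hT'.1⟩
    obtain ⟨st⟩ := exists_step T₀ hT₀ hne
    obtain ⟨_, _, -, -, hsum⟩ := st.exists_rest hT₀
    have hrest : ∀ T : Tw F o, ∃ R : Tw F o, Key S Fl T → ∃ E, Split T st.c (st.u T) R E ∧ Key st.SR st.FR R :=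
      fun T => by
        by_cases hT : Key S Fl T
        · obtain ⟨R, E, h1, h2, -⟩ := st.exists_rest hT
          exact ⟨R, fun _ => ⟨E, h1, h2⟩⟩
        · exact ⟨T, fun h => absurd h hT⟩
    choose R hR using hrest
    have hsplit : ∀ T, Key S Fl T → T.gauss = blockSum T (st.u T) * (R T).gauss := fun T hT => by
      obtain ⟨E, hE, -⟩ := hR T hT
      exact gauss_split hE
    let g : Fin st.N → ℤ := fun i =>
      if h : ∃ T, Key S Fl T ∧ T.gauss = g₀ ∧ st.χ T = i then (R h.choose).gauss else 0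
    have hg : ∀ T, Key S Fl T → T.gauss = g₀ → (R T).gauss = g (st.χ T) := fun T hT hTg => by
      have h : ∃ T', Key S Fl T' ∧ T'.gauss = g₀ ∧ st.χ T' = st.χ T := ⟨T, hT, hTg, rfl⟩
      simp only [g, dif_pos h]
      obtain ⟨h1, h2, h3⟩ := h.choose_spec
      have hb := st.blockSum_of_χ hT h1 h3.symm
      have hne : blockSum T (st.u T) ≠ 0 := fun h0 => gauss_ne_zero T (by rw [hsplit T hT, h0, zero_mul])
      refine mul_left_cancel₀ hne ?_
      conv_rhs => rw [hb]
      rw [← hsplit T hT, ← hsplit _ h1, hTg, h2]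
    rcases st.card_bits hsum (mem_of_key hT₀) with ⟨h1, h2⟩ | ⟨h1, h2⟩
    · choose χ' hχ' using fun i : Fin st.N => ih st.SR (st.SR_lt hsum) st.FR (g i)
      refine ⟨fun T => Fin.castLE (Nat.pow_le_pow_right two_pos (by omega)) (χ' (st.χ T) (R T)),
        fun T T' hT hT' hTg hTg' he => ?_⟩
      haveI : Subsingleton (Fin st.N) := by rw [h1]; infer_instance
      have he1 : st.χ T = st.χ T' := Subsingleton.elim _ _
      have he2 := Fin.castLE_injective _ he
      rw [← he1] at he2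
      obtain ⟨E, hE, hRk⟩ := hR T hT
      obtain ⟨E', hE', hRk'⟩ := hR T' hT'
      exact (st.iso_of_rest hT hT' he1 hE hE' (hχ' _ _ _ hRk hRk' (hg T hT hTg)
        ((hg T' hT' hTg').trans (by rw [he1])) he2)).1
    by_cases h0 : (bits o st.SR st.FR).card = 0
    · -- the rest is unique, so the sum decides the bit
      obtain ⟨χ', hχ'⟩ := exists_code (o := o) st.SR st.FR
      haveI : Subsingleton (Fin (2 ^ (bits o st.SR st.FR).card)) := by rw [h0, pow_zero]; infer_instance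
      refine ⟨fun _ => ⟨0, Nat.two_pow_pos _⟩, fun T T' hT hT' hTg hTg' _ => ?_⟩
      obtain ⟨E, hE, hRk⟩ := hR T hT
      obtain ⟨E', hE', hRk'⟩ := hR T' hT'
      have hiso := hχ' _ _ hRk hRk' (Subsingleton.elim _ _)
      refine (st.iso_of_rest hT hT' ?_ hE hE' hiso).1
      have hb : blockSum T (st.u T) = blockSum T' (st.u T') := by
        refine mul_right_cancel₀ (gauss_ne_zero (R T)) ?_
        conv_rhs => rw [gauss_iso hiso]
        rw [← gauss_split hE, ← gauss_split hE', hTg, hTg']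
      rcases st.hN with hN | ⟨-, -, hsign⟩
      · omega
      obtain ⟨M, hM, hMs⟩ := hsign ho T hT _ E hE
      obtain ⟨M', hM', hMs'⟩ := hsign ho T' hT' _ E' hE'
      rw [hMs, hMs'] at hb
      have l1 := (st.χ T).2
      have l2 := (st.χ T').2
      apply Fin.ext
      split_ifs at hb <;> omega
    choose χ' hχ' using fun i : Fin st.N => ih st.SR (st.SR_lt hsum) st.FR (g i)
    have hbound : st.N * 2 ^ ((bits o st.SR st.FR).card - 1) ≤ 2 ^ ((bits o S Fl).card - 1) := by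
      rw [h1, ← pow_succ']
      exact Nat.pow_le_pow_right two_pos (by omega)
    refine ⟨fun T => Fin.castLE hbound (finProdFinEquiv (st.χ T, χ' (st.χ T) (R T))),
      fun T T' hT hT' hTg hTg' he => ?_⟩
    obtain ⟨he1, he2⟩ := Prod.mk.inj (finProdFinEquiv.injective (Fin.castLE_injective hbound he))
    rw [← he1] at he2
    obtain ⟨E, hE, hRk⟩ := hR T hT
    obtain ⟨E', hE', hRk'⟩ := hR T' hT'
    exact (st.iso_of_rest hT hT' he1 hE hE' (hχ' _ _ _ hRk hRk' (hg T hT hTg)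
      ((hg T' hT' hTg').trans (by rw [he1])) he2)).1

/-- Elementary divisors are self-dual; the unflagged exponents of `X - 1` have even multiplicity. -/
theorem key_props : ∀ (S : Multiset (F[X] × ℕ)) (Fl : Finset ℕ) (T : Tw F o), Key S Fl T →
    S.map (cd (RingHom.id F)) = S ∧ ∀ l, l ∉ Fl → Even (S.count (f1 F, l)) := by
  classical
  intro S
  induction S using Multiset.strongInductionOn with
  | ih S ih =>
    intro Fl T hT
    by_cases hne : S = 0
    · subst hne
      exact ⟨Multiset.map_zero _, fun l _ => by simp⟩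
    obtain ⟨st⟩ := exists_step T hT hne
    obtain ⟨R, E, -, hRk, hsum⟩ := st.exists_rest hT
    obtain ⟨h1, h2⟩ := ih st.SR (st.SR_lt hsum) st.FR R hRk
    refine ⟨?_, fun l hl => ?_⟩
    · conv_rhs => rw [← hsum]
      conv_lhs => rw [← hsum, Multiset.map_add, st.hcd, h1]
    · have h3 := congrArg (Multiset.count (f1 F, l)) hsum
      rw [Multiset.count_add] at h3
      rw [← h3]
      exact (st.hpar l hl).add (h2 l fun hm => hl (Finset.mem_filter.1 hm).1)

end Cfsg.Agent.Classical.IsometryTwo
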