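import Cfsg.Agent.Lib.Classical.IsometryTwoSteps

/-!
Character sums of quadratic forms in characteristic two and their values on the normal blocks.
-/

set_option autoImplicit false

namespace Cfsg.Agent.Classical.IsometryTwo

open Polynomial Module
open Cfsg.Agent.Classical.SLClasses Cfsg.Agent.Classical.UnitClasses Cfsg.Agent.Classical.IsometryClasses
  Cfsg.Agent.UnitaryDetCentralizer

universe u v

variable {F : Type u} [Field F] [Finite F] [CharP F 2]

attribute [local instance] Classical.propDecidable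

/-- The quadratic character of the additive group. -/
noncomputable def chi (c : F) : ℤ := if ∃ t : F, t * t + t = c then 1 else -1

omit [Finite F] [CharP F 2] in
theorem chi_zero : chi (0 : F) = 1 := if_pos ⟨0, by ring⟩

theorem chi_tau : chi (tau F) = -1 := if_neg fun ⟨t, ht⟩ => tau_spec.1 t ht

theorem chi_ne_zero (c : F) : chi c ≠ 0 := by
  rw [chi]; split_ifs <;> decide

theorem chi_add (a b : F) : chi (a + b) = chi a * chi b := by
  have key : ∀ c : F, (∃ t : F, t * t + t = c) ∨ ∃ t : F, t * t + t = c + tau F := fun c => by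
    obtain ⟨t, ht | ht⟩ := (tau_spec (F := F)).2 c
    · exact Or.inl ⟨t, by linear_combination ht - c * CharTwo.two_eq_zero (R := F)⟩
    · exact Or.inr ⟨t, by linear_combination ht - c * CharTwo.two_eq_zero (R := F)⟩
  have hadd : ∀ a b : F, (∃ t : F, t * t + t = a) → (∃ t : F, t * t + t = b) → ∃ t : F, t * t + t = a + b := by
    rintro a b ⟨s, rfl⟩ ⟨t, rfl⟩
    exact ⟨s + t, by linear_combination s * t * CharTwo.two_eq_zero (R := F)⟩
  have hno : ∀ c : F, (∃ t : F, t * t + t = c + tau F) → ¬ ∃ t : F, t * t + t = c := by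
    intro c hc hc'
    obtain ⟨t, ht⟩ := hadd _ _ hc hc'
    exact tau_spec.1 t (by linear_combination ht + c * CharTwo.two_eq_zero (R := F))
  simp only [chi]
  rcases key a with ha | ha <;> rcases key b with hb | hb
  · rw [if_pos ha, if_pos hb, if_pos (hadd _ _ ha hb)]; rfl
  · rw [if_pos ha, if_neg (hno b hb), if_neg (hno _ ?_)]
    · rfl
    · obtain ⟨t, ht⟩ := hadd _ _ ha hb
      exact ⟨t, by linear_combination ht⟩
  · rw [if_pos hb, if_neg (hno a ha), if_neg (hno _ ?_)]
    · rfl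
    · obtain ⟨t, ht⟩ := hadd _ _ ha hb
      exact ⟨t, by linear_combination ht⟩
  · rw [if_neg (hno a ha), if_neg (hno b hb), if_pos ?_]
    · rfl
    · obtain ⟨t, ht⟩ := hadd _ _ ha hb
      exact ⟨t, by linear_combination ht + tau F * CharTwo.two_eq_zero (R := F)⟩

theorem chi_sq (a : F) : chi (a * a) = chi a := by
  have h : chi (a * a + a) = 1 := if_pos ⟨a, rfl⟩
  rw [chi_add] at h
  exact (Int.eq_one_or_neg_one_of_mul_eq_one' h).elim (fun h => h.1.trans h.2.symm) fun h => h.1.trans h.2.symm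

theorem sum_chi_linear {L : Type v} [AddCommGroup L] [Module F L] [Fintype L] {f : L →ₗ[F] F} (hf : f ≠ 0) :
    ∑ x, chi (f x) = 0 := by
  obtain ⟨x₀, hx₀⟩ : ∃ x, f x ≠ 0 := by
    by_contra h
    push Not at h
    exact hf (LinearMap.ext h)
  set a := (tau F / f x₀) • x₀ with ha
  have h : ∑ x, chi (f x) = -∑ x, chi (f x) := by
    conv_lhs => rw [← Equiv.sum_comp (Equiv.addRight a)]
    rw [← Finset.sum_neg_distrib]
    refine Finset.sum_congr rfl fun x _ => ?_
    rw [Equiv.coe_addRight, map_add, ha, map_smul, smul_eq_mul, div_mul_cancel₀ _ hx₀, chi_add, chi_tau, mul_neg_one]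
  omega

/-- Evaluation of a character sum along a half-dimensional totally isotropic subspace. -/
theorem complete {V : Type v} [AddCommGroup V] [Module F V] [Fintype V] (Q : V → F) (B : V →ₗ[F] V →ₗ[F] F)
    (hadd : ∀ x y, Q (x + y) = Q x + Q y + B x y) (hsmul : ∀ (c : F) x, Q (c • x) = c * c * Q x)
    (L : Submodule F V) (hiso : ∀ x ∈ L, ∀ y ∈ L, B x y = 0) (hperp : ∀ y, (∀ x ∈ L, B x y = 0) → y ∈ L)
    {y₀ : V} (hy₀ : ∀ x ∈ L, B x y₀ * B x y₀ = Q x) :
    ∑ x, chi (Q x) = Fintype.card L * chi (Q y₀) := by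
  have hsym : ∀ x y, B x y = B y x := fun x y => by
    have h1 := hadd x y
    rw [add_comm x y, hadd y x] at h1
    linear_combination -h1
  have hinner : ∀ y, ∑ x : L, chi (Q (y + (x : V))) = if y - y₀ ∈ L then (Fintype.card L : ℤ) * chi (Q y₀) else 0 := by
    intro y
    let f : L →ₗ[F] F := (B.flip y₀).comp L.subtype + (B y).comp L.subtype
    have hterm : ∀ x : L, chi (Q (y + (x : V))) = chi (Q y) * chi (f x) := fun x => by
      rw [hadd, add_assoc, chi_add, chi_add (Q _), ← hy₀ x x.2, chi_sq, ← chi_add]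
      rfl
    rw [Finset.sum_congr rfl fun x _ => hterm x, ← Finset.mul_sum]
    by_cases hy : y - y₀ ∈ L
    · rw [if_pos hy]
      have hf : ∀ x : L, f x = 0 := fun x => by
        show B x y₀ + B y x = 0
        have h1 := hiso x x.2 _ hy
        rw [map_sub, sub_eq_zero] at h1
        rw [hsym y x, h1]
        exact CharTwo.add_self_eq_zero _
      simp only [hf, chi_zero, Finset.sum_const, Finset.card_univ, nsmul_eq_mul, mul_one]
      rw [mul_comm]
      congr 1
      set l := y - y₀ with hl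
      rw [show y = y₀ + l by rw [hl]; abel, hadd, add_assoc, chi_add, chi_add (Q l), ← hy₀ l hy, chi_sq, ← chi_add,
        hsym l y₀, CharTwo.add_self_eq_zero, chi_zero, mul_one]
    · rw [if_neg hy, sum_chi_linear, mul_zero]
      intro hf
      refine hy (hperp _ fun x hx => ?_)
      have h1 : B x y₀ + B y x = 0 := LinearMap.congr_fun hf ⟨x, hx⟩
      rw [map_sub, hsym x y]
      linear_combination h1 - B x y₀ * CharTwo.two_eq_zero (R := F)
  have h1 : ∑ y, ∑ x : L, chi (Q (y + (x : V))) = Fintype.card L * ∑ y, chi (Q y) := by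
    rw [Finset.sum_comm, Finset.sum_congr rfl fun (x : L) _ =>
      (show ∑ y, chi (Q (y + (x : V))) = ∑ y, chi (Q y) from
        Equiv.sum_comp (Equiv.addRight (x : V)) (fun y => chi (Q y)))]
    simp
  rw [Finset.sum_congr rfl fun y _ => hinner y, ← Finset.sum_filter] at h1
  have h2 : (Finset.univ.filter fun y => y - y₀ ∈ L).card = Fintype.card L := by
    rw [← Fintype.card_subtype]
    exact Fintype.card_congr ((Equiv.subRight y₀).subtypeEquiv fun y => Iff.rfl)
  rw [Finset.sum_const, h2, nsmul_eq_mul] at h1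
  exact (mul_left_cancel₀ (Nat.cast_ne_zero.2 Fintype.card_ne_zero) h1).symm

variable {o : Bool}

/-- The character sum of the form. -/
noncomputable def Tw.gauss (T : Tw F o) : ℤ := ∑ᶠ x, chi (T.Q x)

/-- The character sum over a span of orbits. -/
noncomputable def blockSum (T : Tw F o) {r : ℕ} (u : Fin r → Fin T.n → F) : ℤ :=
  ∑ᶠ x : LinearMap.range (orbitMap T.toTri u), chi (T.Q x)

theorem gauss_iso {T T' : Tw F o} (h : T.Iso T') : T.gauss = T'.gauss := by
  obtain ⟨e, -, -, hQ⟩ := h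
  rw [Tw.gauss, Tw.gauss, ← finsum_comp_equiv e.toEquiv (f := fun y => chi (T'.Q y))]
  exact finsum_congr fun x => by rw [← hQ x]; rfl

theorem gauss_split {T : Tw F o} {r : ℕ} {c : Fin r → F[X] × ℕ} {u : Fin r → Fin T.n → F} {R : Tw F o}
    {E : (Fin R.n → F) →ₗ[F] (Fin T.n → F)} (h : Split T c u R E) : T.gauss = blockSum T u * R.gauss := by
  classical
  haveI := Fintype.ofFinite F
  haveI : Fintype (LinearMap.range (orbitMap T.toTri u)) := Fintype.ofFinite _
  rw [Tw.gauss, blockSum, Tw.gauss, finsum_eq_sum_of_fintype, finsum_eq_sum_of_fintype, finsum_eq_sum_of_fintype,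
    Finset.sum_mul_sum, ← Finset.sum_product']
  let f : LinearMap.range (orbitMap T.toTri u) × (Fin R.n → F) → (Fin T.n → F) := fun p => (p.1 : Fin T.n → F) + E p.2
  have hf : Function.Bijective f := by
    refine ⟨fun p q hpq => ?_, fun y => ?_⟩
    · have h1 : ((p.1 - q.1 : LinearMap.range (orbitMap T.toTri u)) : Fin T.n → F) + E (p.2 - q.2) = 0 := by
        simp only [f] at hpq
        rw [Submodule.coe_sub, map_sub]
        linear_combination (norm := abel) hpq
      have h2 := h.killed_parts (l := 0) (p.1 - q.1).2 (z := p.2 - q.2) (by rwa [pow_zero, Module.End.one_apply])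
      simp only [pow_zero, Module.End.one_apply] at h2
      exact Prod.ext (sub_eq_zero.1 (Subtype.ext h2.1)) (sub_eq_zero.1 h2.2)
    · obtain ⟨s, hs, z, rfl⟩ := h.decomp y
      exact ⟨(⟨s, hs⟩, z), rfl⟩
  rw [Finset.univ_product_univ, ← Equiv.sum_comp (Equiv.ofBijective f hf)]
  refine Finset.sum_congr rfl fun p _ => ?_
  show chi (T.Q (_ + E p.2)) = _
  rw [T.Q_add, B_comm, h.orth p.1.2, ite_self, add_zero, chi_add, h.hQ]

theorem gauss_ne_zero (T : Tw F o) : T.gauss ≠ 0 := by
  classical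
  haveI := Fintype.ofFinite F
  cases o
  · rw [Tw.gauss, finsum_eq_sum_of_fintype, Finset.sum_congr rfl fun x _ => by rw [T.Q_off rfl, chi_zero]]
    simp
  intro h0
  have hQ : ∀ x y, T.Q (x + y) = T.Q x + T.Q y + T.B x y := fun x y => by rw [T.Q_add]; rfl
  have hsq : T.gauss * T.gauss = ∑ d : Fin T.n → F, chi (T.Q d) * ∑ x : Fin T.n → F, chi (T.B x d) := by
    rw [Tw.gauss, finsum_eq_sum_of_fintype, Finset.sum_mul_sum]
    simp only [Finset.mul_sum]
    conv_rhs => rw [Finset.sum_comm]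
    refine Finset.sum_congr rfl fun x _ => ?_
    rw [← Equiv.sum_comp (Equiv.addLeft x) fun y => chi (T.Q x) * chi (T.Q y)]
    refine Finset.sum_congr rfl fun d _ => ?_
    rw [Equiv.coe_addLeft, hQ, ← chi_add, ← chi_add]
    congr 1
    linear_combination T.Q x * CharTwo.two_eq_zero (R := F)
  rw [h0, zero_mul, Finset.sum_eq_single (0 : Fin T.n → F)] at hsq
  · simp only [map_zero, chi_zero, Q_zero, Finset.sum_const, Finset.card_univ, nsmul_eq_mul, mul_one, one_mul] at hsq
    exact (Nat.cast_ne_zero (R := ℤ)).2 Fintype.card_ne_zero hsq.symm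
  · intro d _ hd
    have hne : T.B.flip d ≠ 0 := fun hz => hd (T.nondeg.2 d fun x => LinearMap.congr_fun hz x)
    rw [show ∑ x : Fin T.n → F, chi (T.B x d) = ∑ x : Fin T.n → F, chi (T.B.flip d x) from rfl, sum_chi_linear hne,
      mul_zero]
  · simp

theorem blockSum_eq {T T' : Tw F o} {r : ℕ} {u : Fin r → Fin T.n → F} {u' : Fin r → Fin T'.n → F}
    (hgram : ∀ a b i j, T.B ((T.g ^ i) (u a)) ((T.g ^ j) (u b)) = T'.B ((T'.g ^ i) (u' a)) ((T'.g ^ j) (u' b)))
    (hu : ∀ a, T.Q (u a) = T'.Q (u' a)) {c : Fin r → F[X] × ℕ} {R : Tw F o}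
    {E : (Fin R.n → F) →ₗ[F] (Fin T.n → F)} (h : Split T c u R E) {R' : Tw F o}
    {E' : (Fin R'.n → F) →ₗ[F] (Fin T'.n → F)} (h' : Split T' c u' R' E') : blockSum T u = blockSum T' u' := by
  classical
  set L := orbitMap T.toTri u
  set L' := orbitMap T'.toTri u'
  have hgQ : ∀ (T : Tw F o) (j : ℕ) (x : Fin T.n → F), T.Q ((T.g ^ j) x) = T.Q x := fun T j x => by
    induction j with
    | zero => simp
    | succ j ih => rw [pow_succ', Module.End.mul_apply, T.Q_g, ih]
  have hUU : ∀ z w, T.B (L z) (L w) = T'.B (L' z) (L' w) := by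
    intro z w
    induction z using Finsupp.induction_linear with
    | zero => simp
    | add p q hp hq => simp only [map_add, LinearMap.add_apply, hp, hq]
    | single x c =>
      induction w using Finsupp.induction_linear with
      | zero => simp
      | add p q hp hq => simp only [map_add, hp, hq]
      | single y d =>
        simp only [L, L', orbitMap, Finsupp.linearCombination_single, map_smul, LinearMap.smul_apply, hgram]
  have hUQ : ∀ z, T'.Q (L' z) = T.Q (L z) := fun z => by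
    induction z using Finsupp.induction_linear with
    | zero => rw [map_zero, map_zero, Q_zero, Q_zero]
    | add p q hp hq => rw [map_add, map_add, T.Q_add, T'.Q_add, hp, hq, hUU]
    | single x c =>
      simp only [L, L', orbitMap, Finsupp.linearCombination_single]
      rw [T.Q_smul, T'.Q_smul, hgQ, hgQ, hu]
  have hker : LinearMap.ker L = LinearMap.ker L' := by
    have key : ∀ {T : Tw F o} {u : Fin r → Fin T.n → F} {R : Tw F o} {E : (Fin R.n → F) →ₗ[F] (Fin T.n → F)},
        Split T c u R E → ∀ z, (∀ w, T.B (orbitMap T.toTri u z) (orbitMap T.toTri u w) = 0) →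
          orbitMap T.toTri u z = 0 := by
      intro T u R E h z hz
      refine T.nondeg.1 _ fun y => ?_
      obtain ⟨_, ⟨w, rfl⟩, e, rfl⟩ := h.decomp y
      rw [map_add, hz, B_comm, h.orth (LinearMap.mem_range_self _ _), add_zero]
    ext z
    rw [LinearMap.mem_ker, LinearMap.mem_ker]
    constructor
    · intro hz
      exact key h' z fun w => by rw [← hUU, hz, map_zero, LinearMap.zero_apply]
    · intro hz
      exact key h z fun w => by rw [hUU, hz, map_zero, LinearMap.zero_apply]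
  let e : LinearMap.range L ≃ₗ[F] LinearMap.range L' :=
    L.quotKerEquivRange.symm.trans ((Submodule.quotEquivOfEq _ _ hker).trans L'.quotKerEquivRange)
  have he : ∀ z, (e ⟨L z, LinearMap.mem_range_self _ _⟩ : Fin T'.n → F) = L' z := fun z => by
    have h1 : L.quotKerEquivRange.symm ⟨L z, LinearMap.mem_range_self _ _⟩ = Submodule.Quotient.mk z := by
      rw [LinearEquiv.symm_apply_eq]; exact Subtype.ext (L.quotKerEquivRange_apply_mk z).symm
    simp only [e, LinearEquiv.trans_apply, h1, Submodule.quotEquivOfEq_mk, LinearMap.quotKerEquivRange_apply_mk]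
  rw [blockSum, blockSum, ← finsum_comp_equiv e.toEquiv]
  refine finsum_congr fun x => ?_
  obtain ⟨_, z, rfl⟩ := x
  show chi (T.Q (L z)) = chi (T'.Q (e ⟨L z, _⟩ : Fin T'.n → F))
  rw [he, hUQ]

section Values

variable {T : Tw F o} (ho : o = true) {k : ℕ} {R : Tw F o} {E : (Fin R.n → F) →ₗ[F] (Fin T.n → F)}

include ho

/-- The sum over a single block. -/
theorem blockSum_single {j : ℕ} (hj : 1 ≤ j) (hk : k = 2 * j) {v : Fin T.n → F}
    (h : Split T (fun _ : Fin 1 => (f1 F, k)) (fun _ => v) R E) (hv : T.Psi v j = 1) :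
    ∃ N : ℕ, 0 < N ∧ blockSum T (fun _ : Fin 1 => v) = N * chi (T.Psi v (j - 1)) := by
  classical
  haveI := Fintype.ofFinite F
  subst hk
  have hlo : lo o = 0 := by rw [ho]; rfl
  set V := LinearMap.range (orbitMap T.toTri fun _ : Fin 1 => v) with hV
  haveI : Fintype V := Fintype.ofFinite V
  have hvk : (T.Pi ^ (2 * j)) v = 0 := (killed_iff T).2 (h.hk 0)
  have hu : ∀ a : Fin 1, (T.Pi ^ (2 * j)) v = 0 := fun _ => hvk
  have htop : T.top (2 * j) v v = 1 := by rw [← psi_top T hj hvk, hv]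
  have hM : ∀ y : Fin 1 → F, (∀ b : Fin 1, ∑ a, y a * T.top (2 * j) v v = 0) → y = 0 := fun y hy =>
    funext fun a => by
      have h1 := hy 0
      rw [Fin.sum_univ_one, htop, mul_one] at h1
      rw [Subsingleton.elim a 0]; exact h1
  have hv0 : v ∈ V := h.mem_range 0
  let L : Submodule F V := (LinearMap.ker (T.Pi ^ j)).comap V.subtype
  refine ⟨Fintype.card L, Fintype.card_pos, ?_⟩
  rw [blockSum, finsum_eq_sum_of_fintype]
  have hLmem : ∀ x : V, x ∈ L → ∃ s ∈ V, (x : Fin T.n → F) = (T.Pi ^ j) s := fun x hx => by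
    obtain ⟨s, hs, he⟩ := h.ker_range (l := j) (by omega) hu hM (by omega) x.2 hx
    exact ⟨s, hs, by rwa [show 2 * j - j = j by omega] at he⟩
  have hy0 : (T.Pi ^ (j - 1)) v ∈ V := h.pi_range hv0 _
  rw [complete (fun x : V => T.Q x) ((T.B.domRestrict₁₂ V V))
    (fun x y => by
      show T.Q ((x : Fin T.n → F) + y) = _
      rw [T.Q_add, if_pos ho]; rfl)
    (fun c x => T.Q_smul c x) L (y₀ := ⟨_, hy0⟩) ?_ ?_ ?_]
  · show _ * chi (T.Q ((T.Pi ^ (j - 1)) v)) = _
    rw [← psi_zero, psi_pi_pow T hlo.le, zero_add]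
  · intro x hx y hy
    obtain ⟨s, hs, he⟩ := hLmem x hx
    obtain ⟨t, ht, he'⟩ := hLmem y hy
    show T.B (x : Fin T.n → F) (y : Fin T.n → F) = 0
    rw [he, he', B_comm, B_pi_pow_left, ← Module.End.mul_apply (T.Pi ^ j), ← pow_add,
      pi_pow_zero_of_le T (h.range_killed hu hs) (by omega), map_zero, map_zero]
  · intro y hy
    show (T.Pi ^ j) (y : Fin T.n → F) = 0
    have hz : ∀ s ∈ V, T.B ((T.Pi ^ j) (y : Fin T.n → F)) s = 0 := fun s hs => by
      have hg := h.gi_range hu hs j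
      have hm : (⟨(T.Pi ^ j) ((T.gi ^ j) s), h.pi_range hg j⟩ : V) ∈ L := by
        show (T.Pi ^ j) ((T.Pi ^ j) ((T.gi ^ j) s)) = 0
        rw [← Module.End.mul_apply, ← pow_add, ← two_mul]
        exact h.range_killed hu hg
      have h1 := hy _ hm
      change T.B ((T.Pi ^ j) ((T.gi ^ j) s)) (y : Fin T.n → F) = 0 at h1
      rw [B_comm, ← Module.End.mul_apply, ((commute_gi_pi T).pow_pow j j).eq.symm, Module.End.mul_apply,
        ← B_pi_pow_left] at h1
      exact h1
    refine T.nondeg.1 _ fun w => ?_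
    obtain ⟨s, hs, z, rfl⟩ := h.decomp w
    rw [map_add, hz s hs, B_comm, h.orth (h.pi_range y.2 j), add_zero]
  · intro x hx
    obtain ⟨s, hs, he⟩ := hLmem x hx
    obtain ⟨a, ha⟩ := single_range h (by omega) hvk hs
    show T.B (x : Fin T.n → F) ((T.Pi ^ (j - 1)) v) * T.B (x : Fin T.n → F) ((T.Pi ^ (j - 1)) v) = T.Q x
    rw [he, ← psi_zero, psi_pi_pow T hlo.le, zero_add, psi_top T hj (h.range_killed hu hs), B_comm, B_pi_pow_left,
      ← Module.End.mul_apply (T.Pi ^ (j - 1)), ← pow_add, show j - 1 + j = 2 * j - 1 by omega,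
      gi_pi_top T (by omega) (h.range_killed hu hs), B_comm, show T.B ((T.Pi ^ (2 * j - 1)) s) v = T.top (2 * j) s v
        from rfl, ha, htop, mul_one, ha, top_comm T (by omega) (h.range_killed hu hs), ha, htop, mul_one]

/-- The sum over a pair of an odd exponent. -/
theorem blockSum_pair {i : ℕ} (hk : k = 2 * i + 1) {v w : Fin T.n → F}
    (h : Split T (fun _ : Fin 2 => (f1 F, k)) ![v, w] R E) (hvw : T.top k v w = 1)
    (hA : T.Psi v i * T.Psi v i = T.Psi v i) :
    ∃ N : ℕ, 0 < N ∧ blockSum T ![v, w] = N * chi (T.Psi v i * T.Psi w i) := by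
  classical
  haveI := Fintype.ofFinite F
  subst hk
  have hlo : lo o = 0 := by rw [ho]; rfl
  set V := LinearMap.range (orbitMap T.toTri ![v, w]) with hV
  haveI : Fintype V := Fintype.ofFinite V
  have hu : ∀ a : Fin 2, (T.Pi ^ (2 * i + 1)) (![v, w] a) = 0 := fun a => (killed_iff T).2 (h.hk a)
  have hvk : (T.Pi ^ (2 * i + 1)) v = 0 := hu 0
  have hwk : (T.Pi ^ (2 * i + 1)) w = 0 := hu 1
  have hvv : T.top (2 * i + 1) v v = 0 := top_odd T hvk
  have hww : T.top (2 * i + 1) w w = 0 := top_odd T hwk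
  have hwv : T.top (2 * i + 1) w v = 1 := by rw [top_comm T (by omega) hvk, hvw]
  have hM : ∀ y : Fin 2 → F, (∀ b, ∑ a, y a * T.top (2 * i + 1) (![v, w] a) (![v, w] b) = 0) → y = 0 := fun y hy => by
    have h0 := hy 0
    have h1 := hy 1
    simp only [Fin.sum_univ_two, Matrix.cons_val_zero, Matrix.cons_val_one, hvv, hvw, hwv, hww, mul_zero, mul_one,
      zero_add, add_zero] at h0 h1
    funext a
    fin_cases a
    · exact h1
    · exact h0
  have hv0 : v ∈ V := h.mem_range 0
  have hw0 : w ∈ V := h.mem_range 1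
  set p := (T.Pi ^ i) v with hp
  let L : Submodule F V := (Submodule.span F {p} ⊔ V.map (T.Pi ^ (i + 1))).comap V.subtype
  refine ⟨Fintype.card L, Fintype.card_pos, ?_⟩
  rw [blockSum, finsum_eq_sum_of_fintype]
  have hLmem : ∀ x : V, x ∈ L → ∃ a : F, ∃ s ∈ V, (x : Fin T.n → F) = a • p + (T.Pi ^ (i + 1)) s := fun x hx => by
    obtain ⟨y, hy, _, ⟨s, hs, rfl⟩, he⟩ := Submodule.mem_sup.1 hx
    obtain ⟨a, rfl⟩ := Submodule.mem_span_singleton.1 hy
    exact ⟨a, s, hs, he.symm⟩
  have hpp : T.B p p = 0 := T.alt p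
  have hps : ∀ s ∈ V, T.B p ((T.Pi ^ (i + 1)) s) = 0 := fun s hs => by
    rw [hp, B_comm, B_pi_pow_left, ← Module.End.mul_apply (T.Pi ^ _), ← pow_add,
      pi_pow_zero_of_le T hvk (by omega), map_zero, map_zero]
  have hss : ∀ s ∈ V, ∀ t ∈ V, T.B ((T.Pi ^ (i + 1)) s) ((T.Pi ^ (i + 1)) t) = 0 := fun s hs t ht => by
    rw [B_pi_pow_left, ← Module.End.mul_apply (T.Pi ^ _), ← pow_add, pi_pow_zero_of_le T (h.range_killed hu ht) (by omega),
      map_zero, map_zero]
  have hy0 : T.Psi v i • (T.Pi ^ i) w ∈ V := Submodule.smul_mem _ _ (h.pi_range hw0 _)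
  have hcross : T.B p ((T.Pi ^ i) w) = 1 := by
    rw [hp, B_pi_pow_left, B_comm, ← Module.End.mul_apply (T.Pi ^ _), ← pow_add, show i + i = 2 * i + 1 - 1 by omega,
      gi_pi_top T (by omega) hwk]
    exact hwv
  rw [complete (fun x : V => T.Q x) ((T.B.domRestrict₁₂ V V))
    (fun x y => by
      show T.Q ((x : Fin T.n → F) + y) = _
      rw [T.Q_add, if_pos ho]; rfl)
    (fun c x => T.Q_smul c x) L (y₀ := ⟨_, hy0⟩) ?_ ?_ ?_]
  · show _ * chi (T.Q (T.Psi v i • (T.Pi ^ i) w)) = _
    rw [T.Q_smul, ← psi_zero, psi_pi_pow T hlo.le, zero_add, hA]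
  · intro x hx y hy
    obtain ⟨a, s, hs, he⟩ := hLmem x hx
    obtain ⟨b, t, ht, he'⟩ := hLmem y hy
    show T.B (x : Fin T.n → F) (y : Fin T.n → F) = 0
    rw [he, he']
    simp only [map_add, map_smul, LinearMap.add_apply, LinearMap.smul_apply, hpp, hps t ht, hss s hs t ht,
      B_comm T ((T.Pi ^ (i + 1)) s) p, hps s hs, smul_zero, add_zero]
  · intro y hy
    have hmemL : ∀ s ∈ V, ∀ hm : (T.Pi ^ (i + 1)) s ∈ V, (⟨_, hm⟩ : V) ∈ L := fun s hs hm =>
      Submodule.mem_sup_right ⟨s, hs, rfl⟩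
    have hgi : ∀ (m : ℕ), ∀ s ∈ V, (T.gi ^ m) s ∈ V := fun m s hs => h.gi_range hu hs m
    have hz : ∀ s ∈ V, T.B ((T.Pi ^ (i + 1)) (y : Fin T.n → F)) s = 0 := fun s hs => by
      have h1 := hy _ (hmemL _ (hgi (i + 1) s hs) (h.pi_range (hgi (i + 1) s hs) _))
      change T.B ((T.Pi ^ (i + 1)) ((T.gi ^ (i + 1)) s)) (y : Fin T.n → F) = 0 at h1
      rw [B_comm, ← Module.End.mul_apply, ((commute_gi_pi T).pow_pow (i + 1) (i + 1)).eq.symm, Module.End.mul_apply,
        ← B_pi_pow_left] at h1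
      exact h1
    have hky : (T.Pi ^ (i + 1)) (y : Fin T.n → F) = 0 := T.nondeg.1 _ fun x => by
      obtain ⟨s, hs, z, rfl⟩ := h.decomp x
      rw [map_add, hz s hs, B_comm, h.orth (h.pi_range y.2 _), add_zero]
    obtain ⟨t, ht, hyt⟩ := h.ker_range (l := i + 1) (by omega) hu hM (by omega) y.2 hky
    rw [show 2 * i + 1 - (i + 1) = i by omega] at hyt
    obtain ⟨x, hx⟩ := h.rep hu ht
    choose c₀ c₁ hc using fun a => residue (δ := (1 : F)) (k := 2 * i + 1) (x a)
    have hdec : (y : Fin T.n → F) = c₀ 0 • p + c₀ 1 • (T.Pi ^ i) w +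
        (T.Pi ^ (i + 1)) (∑ a, T.e _ (![v, w] a) (c₁ a)) := by
      rw [hyt, ← hx, map_sum, map_sum, Fin.sum_univ_two, Fin.sum_univ_two, hp]
      have key : ∀ a, (T.Pi ^ i) (T.e _ (![v, w] a) (x a)) =
          c₀ a • (T.Pi ^ i) (![v, w] a) + (T.Pi ^ (i + 1)) (T.e _ (![v, w] a) (c₁ a)) := fun a => by
        conv_lhs => rw [hc a, map_add, Algebra.algebraMap_eq_smul_one, map_smul, e_one T (hu a),
          show AdjoinRoot.mk (f1 F ^ (2 * i + 1)) (f1 F) * c₁ a = AdjoinRoot.mk _ (f1 F) ^ 1 * c₁ a by rw [pow_one],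
          e_pi_pow_mul T (hu a)]
        rw [map_add, map_smul, ← Module.End.mul_apply (T.Pi ^ i), ← pow_add]
      rw [key 0, key 1]
      simp only [Matrix.cons_val_zero, Matrix.cons_val_one]
      abel
    set s' := ∑ a, T.e _ (![v, w] a) (c₁ a)
    have hs' : s' ∈ V := Submodule.sum_mem _ fun a _ => h.e_range hu a _
    have h1 := hy ⟨p, h.pi_range hv0 i⟩ (Submodule.mem_sup_left (Submodule.mem_span_singleton_self p))
    change T.B p (y : Fin T.n → F) = 0 at h1
    rw [hdec] at h1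
    simp only [map_add, map_smul, smul_eq_mul, hpp, hcross, hps s' hs', mul_zero, mul_one, zero_add, add_zero] at h1
    refine (show (y : Fin T.n → F) ∈ Submodule.span F {p} ⊔ V.map (T.Pi ^ (i + 1)) from ?_)
    rw [hdec, h1, zero_smul, add_zero]
    exact Submodule.add_mem_sup (Submodule.smul_mem _ _ (Submodule.mem_span_singleton_self p)) ⟨s', hs', rfl⟩
  · intro x hx
    obtain ⟨a, s, hs, he⟩ := hLmem x hx
    show T.B (x : Fin T.n → F) (T.Psi v i • (T.Pi ^ i) w) * T.B (x : Fin T.n → F) (T.Psi v i • (T.Pi ^ i) w) = T.Q x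
    have hsw : T.B ((T.Pi ^ (i + 1)) s) ((T.Pi ^ i) w) = 0 := by
      rw [B_comm, B_pi_pow_left, ← Module.End.mul_apply (T.Pi ^ _), ← pow_add,
        pi_pow_zero_of_le T (h.range_killed hu hs) (by omega), map_zero, map_zero]
    have hQp : T.Q p = T.Psi v i := by rw [hp, ← psi_zero, psi_pi_pow T hlo.le, zero_add]
    have hQs : T.Q ((T.Pi ^ (i + 1)) s) = T.Psi s (i + 1) := by rw [← psi_zero, psi_pi_pow T hlo.le, zero_add]
    rw [he, T.Q_add, if_pos ho, T.Q_smul, hQp, hQs]
    simp only [map_add, map_smul, LinearMap.add_apply, LinearMap.smul_apply, smul_eq_mul, hcross, hsw, hps s hs,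
      psi_eq_zero T (h.range_killed hu hs) (r := i + 1) (by omega), mul_zero, mul_one, add_zero]
    linear_combination (a * a) * hA

end Values

end Cfsg.Agent.Classical.IsometryTwo
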