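import Cfsg.Agent.Lib.Classical.IsometryBlocks

/-!
Isometries in characteristic two: the levels `Ψ` of a vector and their behaviour under shifts.
-/

set_option autoImplicit false

namespace Cfsg.Agent.Classical.IsometryTwo

open Polynomial Module
open Cfsg.Agent.Classical.IsometryClasses

universe u

/-- An isometry of a non-degenerate alternating form, with a quadratic refinement when `o` is true. -/
structure Tw (F : Type u) [Field F] (o : Bool) extends Tri F (1 : F) where
  alt : ∀ x, B x x = 0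
  Q : (Fin n → F) → F
  Q_add : ∀ x y, Q (x + y) = Q x + Q y + if o then B x y else 0
  Q_smul : ∀ (c : F) x, Q (c • x) = c * c * Q x
  Q_g : ∀ x, Q (g x) = Q x
  Q_off : o = false → ∀ x, Q x = 0

/-- The lowest level. -/
def lo (o : Bool) : ℕ := if o then 0 else 1

theorem one_le_of_lo {o : Bool} (h : o = false) {r : ℕ} (hr : lo o ≤ r) : 1 ≤ r := by
  subst h; exact hr

variable {F : Type u} [Field F] {o : Bool} (T : Tw F o)

/-- The inverse map. -/
noncomputable def Tw.gi : Module.End F (Fin T.n → F) :=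
  (LinearEquiv.ofInjectiveEndo T.g T.g_injective).symm.toLinearMap

theorem g_gi (x : Fin T.n → F) : T.g (T.gi x) = x :=
  (LinearEquiv.ofInjectiveEndo T.g T.g_injective).apply_symm_apply x

theorem gi_g (x : Fin T.n → F) : T.gi (T.g x) = x :=
  (LinearEquiv.ofInjectiveEndo T.g T.g_injective).symm_apply_apply x

theorem commute_gi : Commute T.g T.gi := by
  refine LinearMap.ext fun x => ?_
  rw [Module.End.mul_apply, Module.End.mul_apply, g_gi, gi_g]

/-- `g + 1`. -/
noncomputable def Tw.Pi : Module.End F (Fin T.n → F) := T.g + 1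

/-- `g + g⁻¹`. -/
noncomputable def Tw.sop : Module.End F (Fin T.n → F) := T.g + T.gi

theorem pi_apply (x : Fin T.n → F) : T.Pi x = T.g x + x := rfl

theorem commute_g_pi : Commute T.g T.Pi := (Commute.refl _).add_right (Commute.one_right _)

theorem commute_gi_pi : Commute T.gi T.Pi := (commute_gi T).symm.add_right (Commute.one_right _)

theorem B_g_left (x y : Fin T.n → F) : T.B (T.g x) y = T.B x (T.gi y) := by
  conv_lhs => rw [← g_gi T y, T.isom]

theorem B_gi_left (x y : Fin T.n → F) : T.B (T.gi x) y = T.B x (T.g y) := by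
  rw [← T.isom (T.gi x) y, g_gi]

theorem B_comm (x y : Fin T.n → F) : T.B x y = T.B y x := by rw [T.sym, one_mul]

theorem B_sop_left (x y : Fin T.n → F) : T.B (T.sop x) y = T.B x (T.sop y) := by
  simp only [Tw.sop, LinearMap.add_apply, map_add, B_g_left, B_gi_left]
  exact add_comm _ _

theorem B_sop_pow_left (i : ℕ) : ∀ x y : Fin T.n → F, T.B ((T.sop ^ i) x) y = T.B x ((T.sop ^ i) y) := by
  induction i with
  | zero => simp
  | succ i ih =>
    intro x y
    rw [pow_succ, Module.End.mul_apply, ih, B_sop_left, ← Module.End.mul_apply, ← pow_succ', pow_succ]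

theorem B_sop_pow_self [CharP F 2] (i : ℕ) (x : Fin T.n → F) : T.B ((T.sop ^ i) x) x = 0 := by
  obtain ⟨m, rfl | rfl⟩ := Nat.even_or_odd' i
  · rw [two_mul, pow_add, Module.End.mul_apply, B_sop_pow_left, T.alt]
  · rw [show 2 * m + 1 = m + (1 + m) by omega, pow_add, Module.End.mul_apply, B_sop_pow_left, pow_add,
      pow_one, Module.End.mul_apply]
    set a := (T.sop ^ m) x
    simp only [Tw.sop, LinearMap.add_apply, map_add]
    rw [B_gi_left, B_comm T a (T.g a)]
    exact CharTwo.add_self_eq_zero _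

/-- The levels of a vector. -/
noncomputable def Tw.Psi (x : Fin T.n → F) (r : ℕ) : F :=
  if r = 0 then T.Q x else T.B (T.g ((T.sop ^ (r - 1)) x)) x

theorem psi_zero (x : Fin T.n → F) : T.Psi x 0 = T.Q x := if_pos rfl

theorem psi_succ (x : Fin T.n → F) (i : ℕ) : T.Psi x (i + 1) = T.B (T.g ((T.sop ^ i) x)) x :=
  if_neg (Nat.succ_ne_zero i)

theorem Q_zero : T.Q 0 = 0 := by
  have h := T.Q_smul 0 0
  rwa [zero_smul, zero_mul, zero_mul] at h

theorem commute_sop_g : Commute T.sop T.g := (Commute.refl T.g).add_left (commute_gi T).symm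

theorem psi_add {r : ℕ} (hr : lo o ≤ r) (x y : Fin T.n → F) :
    T.Psi (x + y) r = T.Psi x r + T.Psi y r + T.B ((T.sop ^ r) x) y := by
  rcases r with _ | i
  · have ho : o = true := by
      cases o
      · exact absurd hr (by decide)
      · rfl
    rw [psi_zero, psi_zero, psi_zero, T.Q_add, if_pos ho, pow_zero, Module.End.one_apply]
  · rw [psi_succ, psi_succ, psi_succ, map_add, map_add, map_add, map_add, LinearMap.add_apply,
      LinearMap.add_apply]
    have h : T.B (T.g ((T.sop ^ i) y)) x + T.B (T.g ((T.sop ^ i) x)) y = T.B ((T.sop ^ (i + 1)) x) y := by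
      rw [pow_succ', Module.End.mul_apply, show ∀ a b, T.B (T.sop a) b = T.B (T.g a) b + T.B (T.gi a) b
        from fun a b => by simp only [Tw.sop, LinearMap.add_apply, map_add], add_comm (T.B (T.g _) x)]
      congr 1
      rw [B_gi_left, B_sop_pow_left, B_comm T _ x]
      congr 1
      exact (LinearMap.congr_fun ((commute_sop_g T).pow_left i).eq y).symm
    rw [← h]; ring

theorem psi_smul (c : F) (x : Fin T.n → F) (r : ℕ) : T.Psi (c • x) r = c * c * T.Psi x r := by
  rcases r with _ | i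
  · rw [psi_zero, psi_zero, T.Q_smul]
  · rw [psi_succ, psi_succ, map_smul, map_smul, map_smul, map_smul, LinearMap.smul_apply, smul_eq_mul,
      smul_eq_mul, mul_assoc]

theorem commute_sop_pi : Commute T.sop T.Pi := (commute_sop_g T).add_right (Commute.one_right _)

variable [CharP F 2]

omit [CharP F 2] in
theorem B_pi_left (x y : Fin T.n → F) : T.B (T.Pi x) y = T.B x (T.gi (T.Pi y)) := by
  simp only [pi_apply, map_add, LinearMap.add_apply, B_g_left, gi_g]
  exact add_comm _ _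

theorem gi_pi_pi (x : Fin T.n → F) : T.gi (T.Pi (T.Pi x)) = T.sop x := by
  have h2 : x + x = (0 : Fin T.n → F) := by
    funext i; exact CharTwo.add_self_eq_zero _
  simp only [pi_apply, map_add, gi_g, Tw.sop, LinearMap.add_apply]
  rw [add_assoc, ← add_assoc x x, h2, zero_add]

theorem psi_pi {r : ℕ} (hr : lo o ≤ r) (x : Fin T.n → F) : T.Psi (T.Pi x) r = T.Psi x (r + 1) := by
  rcases r with _ | i
  · have ho : o = true := by
      cases o
      · exact absurd hr (by decide)
      · rfl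
    rw [psi_zero, psi_succ, pow_zero, Module.End.one_apply, pi_apply, T.Q_add, T.Q_g, if_pos ho]
    linear_combination CharTwo.add_self_eq_zero (T.Q x)
  · rw [psi_succ, psi_succ, ← Module.End.mul_apply (T.sop ^ i) T.Pi, ← Module.End.mul_apply T.g,
      ← mul_assoc, ((commute_g_pi T).mul_left ((commute_sop_pi T).pow_left i)).eq,
      Module.End.mul_apply, B_pi_left, gi_pi_pi, ← B_sop_left, ← Module.End.mul_apply T.sop,
      ← mul_assoc, (commute_sop_g T).eq, mul_assoc, ← pow_succ', Module.End.mul_apply]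

theorem psi_pi_pow {r : ℕ} (hr : lo o ≤ r) (e : ℕ) : ∀ x : Fin T.n → F,
    T.Psi ((T.Pi ^ e) x) r = T.Psi x (r + e) := by
  induction e generalizing r with
  | zero => simp
  | succ e ih =>
    intro x
    rw [pow_succ', Module.End.mul_apply, psi_pi T hr, ih (by omega), add_assoc, add_comm 1 e]

omit [CharP F 2] in
theorem gi_pow_fix {y : Fin T.n → F} (h : T.g y = y) (i : ℕ) : (T.gi ^ i) y = y := by
  induction i with
  | zero => rfl
  | succ i ih => rw [pow_succ', Module.End.mul_apply, ih]; exact (congrArg T.gi h.symm).trans (gi_g T y)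

theorem sop_pow_eq (r : ℕ) : T.sop ^ r = T.gi ^ r * T.Pi ^ (2 * r) := by
  have h : T.sop = T.gi * T.Pi ^ 2 := LinearMap.ext fun x => by
    rw [pow_two, Module.End.mul_apply, Module.End.mul_apply, gi_pi_pi]
  rw [h, ((commute_gi_pi T).pow_right 2).mul_pow, ← pow_mul]

omit [CharP F 2] in
theorem pi_pow_zero_of_le {k m : ℕ} {x : Fin T.n → F} (hx : (T.Pi ^ k) x = 0) (h : k ≤ m) :
    (T.Pi ^ m) x = 0 := by
  rw [show m = m - k + k by omega, pow_add, Module.End.mul_apply, hx, map_zero]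

omit [CharP F 2] in
theorem pi_fix {y : Fin T.n → F} (h : T.Pi y = 0) [CharP F 2] : T.g y = y := by
  rw [pi_apply] at h
  have := eq_neg_of_add_eq_zero_left h
  rw [this]
  funext i
  exact CharTwo.neg_eq _

theorem psi_eq_zero {k r : ℕ} {x : Fin T.n → F} (hx : (T.Pi ^ k) x = 0) (h : k < 2 * r) : T.Psi x r = 0 := by
  obtain ⟨i, rfl⟩ : ∃ i, r = i + 1 := ⟨r - 1, by omega⟩
  rw [psi_succ]
  have h1 : T.g ((T.sop ^ i) x) = T.Pi ((T.sop ^ i) x) + (T.sop ^ i) x := by
    rw [pi_apply, add_assoc, show (T.sop ^ i) x + (T.sop ^ i) x = 0 by funext a; exact CharTwo.add_self_eq_zero _,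
      add_zero]
  have h2 : T.Pi ((T.sop ^ i) x) = 0 := by
    rw [sop_pow_eq, Module.End.mul_apply, ← Module.End.mul_apply T.Pi, ((commute_gi_pi T).pow_left i).eq.symm,
      Module.End.mul_apply, ← Module.End.mul_apply T.Pi, ← pow_succ', pi_pow_zero_of_le T hx (by omega), map_zero]
  rw [h1, h2, zero_add, B_sop_pow_self]

theorem gi_pi_top {k : ℕ} (hk : 1 ≤ k) {x : Fin T.n → F} (hx : (T.Pi ^ k) x = 0) (i : ℕ) :
    (T.gi ^ i) ((T.Pi ^ (k - 1)) x) = (T.Pi ^ (k - 1)) x :=
  gi_pow_fix T (pi_fix T (by rw [← Module.End.mul_apply, ← pow_succ', Nat.sub_add_cancel hk, hx])) i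

/-- The top pairing of exponent `k`. -/
noncomputable def Tw.top (k : ℕ) (x y : Fin T.n → F) : F := T.B ((T.Pi ^ (k - 1)) x) y

theorem psi_top {j : ℕ} (hj : 1 ≤ j) {x : Fin T.n → F} (hx : (T.Pi ^ (2 * j)) x = 0) :
    T.Psi x j = T.top (2 * j) x x := by
  obtain ⟨i, rfl⟩ : ∃ i, j = i + 1 := ⟨j - 1, by omega⟩
  rw [psi_succ, show T.g ((T.sop ^ i) x) = T.Pi ((T.sop ^ i) x) + (T.sop ^ i) x by
    rw [pi_apply, add_assoc, show (T.sop ^ i) x + (T.sop ^ i) x = 0 by funext a; exact CharTwo.add_self_eq_zero _,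
      add_zero], map_add, LinearMap.add_apply, B_sop_pow_self, add_zero]
  congr 2
  rw [sop_pow_eq, Module.End.mul_apply, ← Module.End.mul_apply T.Pi, ((commute_gi_pi T).pow_left i).eq.symm,
    Module.End.mul_apply, ← Module.End.mul_apply T.Pi, ← pow_succ']
  exact gi_pi_top T (k := 2 * (i + 1)) (by omega) hx i

omit [CharP F 2] in
theorem B_pi_pow_left (e : ℕ) : ∀ x y : Fin T.n → F,
    T.B ((T.Pi ^ e) x) y = T.B x ((T.gi ^ e) ((T.Pi ^ e) y)) := by
  induction e with
  | zero => simp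
  | succ e ih =>
    intro x y
    rw [pow_succ' T.Pi e, Module.End.mul_apply, B_pi_left, ih]
    congr 1
    rw [← Module.End.mul_apply (T.gi ^ e), ← Module.End.mul_apply _ T.gi, ← Module.End.mul_apply _ T.Pi,
      pow_succ T.gi, ← Module.End.mul_apply (T.gi ^ e * T.gi), mul_assoc (T.gi ^ e) (T.Pi ^ e) T.gi,
      ((commute_gi_pi T).pow_right e).eq.symm, mul_assoc, mul_assoc, ← pow_succ T.Pi, ← pow_succ', mul_assoc]

theorem top_comm {k : ℕ} (hk : 1 ≤ k) {x y : Fin T.n → F} (hy : (T.Pi ^ k) y = 0) :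
    T.top k x y = T.top k y x := by
  rw [Tw.top, Tw.top, B_pi_pow_left, gi_pi_top T hk hy, B_comm]

theorem cross {k r e : ℕ} {x : Fin T.n → F} (hx : (T.Pi ^ k) x = 0) (y : Fin T.n → F) :
    (k ≤ 2 * r + e → T.B ((T.sop ^ r) x) ((T.Pi ^ e) y) = 0) ∧
    (2 * r + e + 1 = k → T.B ((T.sop ^ r) x) ((T.Pi ^ e) y) = T.top k x y) := by
  have h : T.B ((T.sop ^ r) x) ((T.Pi ^ e) y) = T.B ((T.gi ^ (e + r)) ((T.Pi ^ (e + 2 * r)) x)) y := by
    rw [B_comm T _ ((T.Pi ^ e) y), B_pi_pow_left, B_comm T y]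
    congr 1
    rw [sop_pow_eq, pow_add T.gi, pow_add T.Pi]
    simp only [Module.End.mul_apply]
    rw [← Module.End.mul_apply (T.Pi ^ e) (T.gi ^ r), ((commute_gi_pi T).pow_pow r e).eq.symm,
      Module.End.mul_apply]
  refine ⟨fun h1 => ?_, fun h1 => ?_⟩
  · rw [h, pi_pow_zero_of_le T hx (by omega), map_zero, map_zero, LinearMap.zero_apply]
  · rw [h, show e + 2 * r = k - 1 by omega, gi_pi_top T (by omega) hx, Tw.top]

/-- Shifting by `t • Π ^ (k - 1 - 2 r) y` changes no level above `r`. -/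
theorem psi_shift {k r s : ℕ} (hr : 2 * r < k) (hs : r ≤ s) (hlo : lo o ≤ r) {x y : Fin T.n → F}
    (hx : (T.Pi ^ k) x = 0) (hy : (T.Pi ^ k) y = 0) (t : F) :
    T.Psi (x + t • (T.Pi ^ (k - 1 - 2 * r)) y) s =
      T.Psi x s + if s = r then t * T.top k x y + t * t * T.Psi y (k - 1 - r) else 0 := by
  rw [psi_add T (hlo.trans hs), psi_smul, psi_pi_pow T (hlo.trans hs), map_smul, smul_eq_mul]
  split_ifs with h
  · subst h
    rw [(cross T hx y).2 (by omega), show s + (k - 1 - 2 * s) = k - 1 - s by omega]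
    ring
  · rw [(cross T hx y).1 (by omega), psi_eq_zero T hy (by omega)]
    ring

theorem psi_quad_zero {k r : ℕ} (hr : 2 * r + 2 < k) {y : Fin T.n → F} (hy : (T.Pi ^ k) y = 0) :
    T.Psi y (k - 1 - r) = 0 := psi_eq_zero T hy (by omega)

/-- Adding a multiple of `Π ^ m` at a high exponent changes no level. -/
theorem psi_high {k r m : ℕ} (hlo : lo o ≤ r) (h1 : k ≤ 2 * r + m) (h2 : k < 2 * (r + m)) {x y : Fin T.n → F}
    (hx : (T.Pi ^ k) x = 0) (hy : (T.Pi ^ k) y = 0) : T.Psi (x + (T.Pi ^ m) y) r = T.Psi x r := by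
  rw [psi_add T hlo, psi_pi_pow T hlo, psi_eq_zero T hy h2, (cross T hx y).1 h1]
  ring

omit [CharP F 2] in
/-- Clearing levels from above. -/
theorem exists_clear {α : Type*} (P : α → Prop) (ψ : α → ℕ → F) (l J : ℕ)
    (step : ∀ x, P x → ∀ r, l ≤ r → r < J → ∀ c : F, ∃ y, P y ∧ ψ y r = c ∧ ∀ s, r < s → ψ y s = ψ x s)
    {x : α} (hx : P x) :
    ∃ y, P y ∧ (∀ r, l ≤ r → r < J → ψ y r = 0) ∧ ∀ s, J ≤ s → ψ y s = ψ x s := by
  suffices key : ∀ m, ∃ y, P y ∧ (∀ r, l ≤ r → J ≤ r + m → r < J → ψ y r = 0) ∧ ∀ s, J ≤ s → ψ y s = ψ x s by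
    obtain ⟨y, hy, h1, h2⟩ := key J
    exact ⟨y, hy, fun r hl hr => h1 r hl (by omega) hr, h2⟩
  intro m
  induction m with
  | zero => exact ⟨x, hx, fun r _ h1 h2 => by omega, fun _ _ => rfl⟩
  | succ m ih =>
    obtain ⟨y, hy, h1, h2⟩ := ih
    by_cases hm : l + (m + 1) ≤ J
    · obtain ⟨y', hy', he, hs⟩ := step y hy (J - (m + 1)) (by omega) (by omega) 0
      refine ⟨y', hy', fun r hl hJ hr => ?_, fun s hsJ => by rw [hs s (by omega), h2 s hsJ]⟩
      rcases eq_or_lt_of_le (show J - (m + 1) ≤ r by omega) with rfl | hlt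
      · exact he
      · rw [hs r hlt, h1 r hl (by omega) hr]
    · exact ⟨y, hy, fun r hl hJ hr => h1 r hl (by omega) hr, h2⟩

end Cfsg.Agent.Classical.IsometryTwo
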