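import Cfsg.Agent.Lib.Classical.IsometryTwoRing

/-!
Isometries in characteristic two: orthogonal summands, flags and their inheritance.
-/

set_option autoImplicit false

namespace Cfsg.Agent.Classical.IsometryTwo

open Polynomial Module
open Cfsg.Agent.Classical.SLClasses Cfsg.Agent.Classical.UnitClasses Cfsg.Agent.Classical.IsometryClasses
  Cfsg.Agent.UnitaryDetCentralizer

universe u

variable {F : Type u} [Field F] [Finite F] [CharP F 2] {o : Bool}

attribute [local instance] Classical.propDecidable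

/-- A flag: some vector killed by `(g + 1) ^ l` has a non-zero top value. -/
def Tw.Flag (T : Tw F o) (l : ℕ) : Prop := Even l ∧ ∃ y, (T.Pi ^ l) y = 0 ∧ T.top l y y ≠ 0

/-- The exponents of `X - 1`. -/
noncomputable def exps (S : Multiset (F[X] × ℕ)) : Finset ℕ :=
  ((S.filter fun x => x.1 = f1 F).map Prod.snd).toFinset

omit [Finite F] [CharP F 2] in
theorem mem_exps {S : Multiset (F[X] × ℕ)} {l : ℕ} : l ∈ exps S ↔ (f1 F, l) ∈ S := by
  simp only [exps, Multiset.mem_toFinset, Multiset.mem_map, Multiset.mem_filter]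
  constructor
  · rintro ⟨⟨a, b⟩, ⟨h, rfl⟩, rfl⟩; exact h
  · exact fun h => ⟨_, ⟨h, rfl⟩, rfl⟩

/-- The exponents carrying a flag. -/
noncomputable def flags (T : Tw F o) (S : Multiset (F[X] × ℕ)) : Finset ℕ := (exps S).filter T.Flag

/-- An orthogonal splitting. -/
structure Split (T : Tw F o) {r : ℕ} (c : Fin r → F[X] × ℕ) (u : Fin r → Fin T.n → F) (R : Tw F o)
    (E : (Fin R.n → F) →ₗ[F] (Fin T.n → F)) : Prop where
  hB : ∀ x y, T.B (E x) (E y) = R.B x y
  hg : ∀ x, E (R.g x) = T.g (E x)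
  hQ : ∀ x, T.Q (E x) = R.Q x
  ho : ∀ z b j, T.B (E z) ((T.g ^ j) (u b)) = 0
  hs : ⊤ ≤ LinearMap.range (orbitMap T.toTri u) ⊔ LinearMap.range E
  hk : ∀ a, aeval T.g ((c a).1 ^ (c a).2) (u a) = 0
  hl : ∀ S, Labels T.g S → ∃ SR, Labels R.g SR ∧ Finset.univ.val.map c + SR = S

variable (T : Tw F o)

omit [Finite F] in
theorem exists_split {r : ℕ} (c : Fin r → F[X] × ℕ) (hc : ∀ a, (c a).1.Monic ∧ Irreducible (c a).1 ∧ 1 ≤ (c a).2)
    (u : Fin r → Fin T.n → F) (hk : ∀ a, aeval T.g ((c a).1 ^ (c a).2) (u a) = 0)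
    (faith : ∀ x : ∀ a, AdjoinRoot ((c a).1 ^ (c a).2),
      (∀ b j, T.B (∑ a, T.toTri.ev ((hc a).1.pow _) (u a) (x a)) ((T.g ^ j) (u b)) = 0) → x = 0) :
    ∃ R E, Split T c u R E := by
  obtain ⟨R, E, -, hEB, hEg, hEo, hEs, hEl⟩ := peel T.toTri c hc u hk faith
  refine ⟨{ toTri := R, alt := fun x => by rw [← hEB, T.alt], Q := fun x => T.Q (E x),
            Q_add := fun x y => by rw [map_add, T.Q_add, hEB], Q_smul := fun a x => by rw [map_smul, T.Q_smul],
            Q_g := fun x => by rw [hEg, T.Q_g], Q_off := fun h x => T.Q_off h _ },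
    E, ⟨hEB, hEg, fun _ => rfl, hEo, hEs, hk, fun S hS => ?_⟩⟩
  obtain ⟨SR, hSR⟩ := exists_labels R.g
  exact ⟨SR, hSR, labels_unique (hEl SR hSR) hS⟩

namespace Split

variable {T} {r : ℕ} {c : Fin r → F[X] × ℕ} {u : Fin r → Fin T.n → F} {R : Tw F o}
  {E : (Fin R.n → F) →ₗ[F] (Fin T.n → F)} (h : Split T c u R E)

include h

omit [Finite F] in
theorem E_pi (m : ℕ) : ∀ z, E ((R.Pi ^ m) z) = (T.Pi ^ m) (E z) := by
  induction m with
  | zero => simp
  | succ m ih =>
    intro z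
    rw [pow_succ, pow_succ, Module.End.mul_apply, Module.End.mul_apply, ih, pi_apply, map_add, h.hg, pi_apply]

omit [Finite F] in
theorem E_killed {m : ℕ} {z : Fin R.n → F} (hz : (R.Pi ^ m) z = 0) : (T.Pi ^ m) (E z) = 0 := by
  rw [← h.E_pi, hz, map_zero]

omit [Finite F] in
theorem E_gi (z : Fin R.n → F) : E (R.gi z) = T.gi (E z) :=
  T.g_injective (by rw [← h.hg, g_gi, g_gi])

omit [Finite F] in
theorem E_sop (m : ℕ) : ∀ z, E ((R.sop ^ m) z) = (T.sop ^ m) (E z) := by
  induction m with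
  | zero => simp
  | succ m ih =>
    intro z
    rw [pow_succ, pow_succ, Module.End.mul_apply, Module.End.mul_apply, ih]
    simp only [Tw.sop, LinearMap.add_apply, map_add, h.hg, h.E_gi]

omit [Finite F] in
theorem psi_E (z : Fin R.n → F) (m : ℕ) : T.Psi (E z) m = R.Psi z m := by
  rcases m with _ | i
  · rw [psi_zero, psi_zero, h.hQ]
  · rw [psi_succ, psi_succ, ← h.E_sop, ← h.hg, h.hB]

omit [Finite F] in
theorem top_E (l : ℕ) (z w : Fin R.n → F) : T.top l (E z) (E w) = R.top l z w := by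
  rw [Tw.top, Tw.top, ← h.E_pi, h.hB]

omit [Finite F] in
theorem orth {s : Fin T.n → F} (hs : s ∈ LinearMap.range (orbitMap T.toTri u)) (z : Fin R.n → F) :
    T.B (E z) s = 0 := by
  obtain ⟨w, rfl⟩ := hs
  induction w using Finsupp.induction_linear with
  | zero => simp
  | add p q hp hq => simp only [map_add, hp, hq, add_zero]
  | single y d => simp [orbitMap, h.ho]

omit [Finite F] in
theorem mem_range (b : Fin r) : u b ∈ LinearMap.range (orbitMap T.toTri u) :=
  ⟨Finsupp.single (b, 0) 1, by simp [orbitMap]⟩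

omit [Finite F] in
theorem orth_gen (b : Fin r) (z : Fin R.n → F) : T.B (E z) (u b) = 0 := h.orth (h.mem_range b) z

omit [Finite F] in
/-- Adding a vector of the rest adds the levels. -/
theorem psi_add_E {m : ℕ} (hm : lo o ≤ m) (b : Fin r) (a : F) (z : Fin R.n → F) :
    T.Psi (u b + a • E z) m = T.Psi (u b) m + a * a * R.Psi z m := by
  rw [psi_add T hm, psi_smul, h.psi_E, map_smul, B_sop_pow_left, ← h.E_sop, B_comm, h.orth_gen, smul_zero, add_zero]

omit [Finite F] in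
theorem g_range {s : Fin T.n → F} (hs : s ∈ LinearMap.range (orbitMap T.toTri u)) :
    T.g s ∈ LinearMap.range (orbitMap T.toTri u) := by
  obtain ⟨w, rfl⟩ := hs
  rw [g_orbitMap]
  exact LinearMap.mem_range_self _ _

omit [Finite F] in
theorem pi_range {s : Fin T.n → F} (hs : s ∈ LinearMap.range (orbitMap T.toTri u)) (m : ℕ) :
    (T.Pi ^ m) s ∈ LinearMap.range (orbitMap T.toTri u) := by
  induction m with
  | zero => exact hs
  | succ m ih =>
    rw [pow_succ', Module.End.mul_apply, pi_apply]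
    exact Submodule.add_mem _ (h.g_range ih) ih

omit [Finite F] in
theorem decomp (y : Fin T.n → F) :
    ∃ s ∈ LinearMap.range (orbitMap T.toTri u), ∃ z, y = s + E z := by
  obtain ⟨s, hs, _, ⟨z, rfl⟩, hy⟩ := Submodule.mem_sup.1 (h.hs (Submodule.mem_top (x := y)))
  exact ⟨s, hs, z, hy.symm⟩

omit [Finite F] in
theorem killed_parts {l : ℕ} {s : Fin T.n → F} (hs : s ∈ LinearMap.range (orbitMap T.toTri u)) {z : Fin R.n → F}
    (hy : (T.Pi ^ l) (s + E z) = 0) : (T.Pi ^ l) s = 0 ∧ (R.Pi ^ l) z = 0 := by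
  have hz : (R.Pi ^ l) z = 0 := R.nondeg.1 _ fun w => by
    rw [← h.hB, h.E_pi, eq_neg_of_add_eq_zero_right (show (T.Pi ^ l) s + (T.Pi ^ l) (E z) = 0 by rwa [← map_add]),
      map_neg, LinearMap.neg_apply, B_comm, h.orth (h.pi_range hs l), neg_zero]
  refine ⟨?_, hz⟩
  rwa [map_add, h.E_killed hz, add_zero] at hy

omit [Finite F] in
theorem top_add (l : ℕ) {s : Fin T.n → F} (hs : s ∈ LinearMap.range (orbitMap T.toTri u)) (z : Fin R.n → F) :
    T.top l (s + E z) (s + E z) = T.top l s s + R.top l z z := by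
  rw [Tw.top]
  simp only [map_add, LinearMap.add_apply]
  rw [B_comm T ((T.Pi ^ (l - 1)) s) (E z),
    h.orth (h.pi_range hs _), zero_add, ← h.E_pi, h.orth hs, add_zero, h.hB]
  rfl

omit [Finite F] in
theorem flag_of_rest {l : ℕ} (hl : R.Flag l) : T.Flag l := by
  obtain ⟨he, z, hz, ht⟩ := hl
  exact ⟨he, E z, h.E_killed hz, by rwa [h.top_E]⟩

omit [Finite F] in
theorem flag_iff {l : ℕ} (hU : ∀ s ∈ LinearMap.range (orbitMap T.toTri u), (T.Pi ^ l) s = 0 → T.top l s s = 0) :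
    T.Flag l ↔ R.Flag l := by
  refine ⟨fun ⟨he, y, hy, ht⟩ => ?_, h.flag_of_rest⟩
  obtain ⟨s, hs, z, rfl⟩ := h.decomp y
  obtain ⟨h1, h2⟩ := h.killed_parts hs hy
  rw [h.top_add l hs, hU s hs h1, zero_add] at ht
  exact ⟨he, z, h2, ht⟩

/-- Blocks away from `X - 1` do not touch flags. -/
theorem flag_iff_coprime (hc : ∀ a, (c a).1.Monic ∧ Irreducible (c a).1) (hne : ∀ a, (c a).1 ≠ f1 F) (l : ℕ) :
    T.Flag l ↔ R.Flag l := by
  refine h.flag_iff fun s hs hsl => ?_
  set P : F[X] := ∏ a, (c a).1 ^ (c a).2 with hP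
  have hPs : aeval T.g P s = 0 := by
    clear hsl
    obtain ⟨w, rfl⟩ := hs
    induction w using Finsupp.induction_linear with
    | zero => simp
    | add p q hp hq => simp only [map_add, hp, hq, add_zero]
    | single y d =>
      simp only [orbitMap, Finsupp.linearCombination_single, map_smul]
      obtain ⟨P', hP'⟩ := Finset.dvd_prod_of_mem (fun a => (c a).1 ^ (c a).2) (Finset.mem_univ y.1)
      rw [hP, hP', mul_comm, map_mul, Module.End.mul_apply, killed_pow T.toTri (h.hk y.1), map_zero, smul_zero]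
  have hcp : IsCoprime P (f1 F ^ l) := by
    refine IsCoprime.prod_left fun a _ => IsCoprime.pow ?_
    exact (hc a).2.coprime_iff_not_dvd.2 fun hd => hne a
      (eq_of_monic_of_associated (hc a).1 (monic_X_sub_C 1) ((hc a).2.associated_of_dvd irreducible_f1 hd))
  obtain ⟨A, B, hAB⟩ := hcp
  have hs0 : s = 0 := by
    conv_lhs => rw [← Module.End.one_apply (R := F) s, ← map_one (aeval (R := F) T.g), ← hAB]
    rw [map_add, LinearMap.add_apply, map_mul, map_mul, Module.End.mul_apply, Module.End.mul_apply, hPs,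
      (killed_iff T).1 hsl, map_zero, map_zero, add_zero]
  rw [hs0, Tw.top, map_zero]

theorem rep {k : ℕ} (hu : ∀ a, (T.Pi ^ k) (u a) = 0) {s : Fin T.n → F}
    (hs : s ∈ LinearMap.range (orbitMap T.toTri u)) :
    ∃ x : Fin r → AdjoinRoot (f1 F ^ k), ∑ a, T.e k (u a) (x a) = s := by
  obtain ⟨w, rfl⟩ := hs
  induction w using Finsupp.induction_linear with
  | zero => exact ⟨0, by simp⟩
  | add p q hp hq =>
    obtain ⟨x, hx⟩ := hp
    obtain ⟨y, hy⟩ := hq
    exact ⟨x + y, by simp [map_add, Finset.sum_add_distrib, hx, hy]⟩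
  | single y d =>
    refine ⟨Pi.single y.1 (d • (AdjoinRoot.root _ ^ y.2 * 1)), ?_⟩
    rw [Finset.sum_eq_single y.1 (fun a _ ha => by rw [Pi.single_eq_of_ne ha, map_zero]) (by simp),
      Pi.single_eq_same, map_smul, Tw.e, ev_root_pow_mul T.toTri (monic_f1 k) ((killed_iff T).1 (hu y.1)),
      ev_one T.toTri (monic_f1 k) ((killed_iff T).1 (hu y.1))]
    simp [orbitMap]

theorem range_killed {k : ℕ} (hu : ∀ a, (T.Pi ^ k) (u a) = 0) {s : Fin T.n → F}
    (hs : s ∈ LinearMap.range (orbitMap T.toTri u)) : (T.Pi ^ k) s = 0 := by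
  obtain ⟨x, rfl⟩ := h.rep hu hs
  rw [map_sum]; exact Finset.sum_eq_zero fun a _ => e_killed T (hu a) _

theorem e_range {k : ℕ} (hu : ∀ a, (T.Pi ^ k) (u a) = 0) (a : Fin r) (x : AdjoinRoot (f1 F ^ k)) :
    T.e k (u a) x ∈ LinearMap.range (orbitMap T.toTri u) := by
  obtain ⟨P, rfl⟩ := AdjoinRoot.mk_surjective x
  rw [Tw.e, ev_mk T.toTri (monic_f1 k) ((killed_iff T).1 (hu a)), aeval_eq_sum_range, LinearMap.sum_apply]
  refine Submodule.sum_mem _ fun i _ => ?_
  rw [LinearMap.smul_apply]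
  exact Submodule.smul_mem _ _ ⟨Finsupp.single (a, i) 1, by simp [orbitMap]⟩

theorem gi_range {k : ℕ} (hu : ∀ a, (T.Pi ^ k) (u a) = 0) {s : Fin T.n → F}
    (hs : s ∈ LinearMap.range (orbitMap T.toTri u)) (m : ℕ) :
    (T.gi ^ m) s ∈ LinearMap.range (orbitMap T.toTri u) := by
  induction m with
  | zero => exact hs
  | succ m ih =>
    obtain ⟨x, hx⟩ := h.rep hu ih
    rw [pow_succ', Module.End.mul_apply, ← hx, map_sum]
    refine Submodule.sum_mem _ fun a _ => ?_
    rw [← e_rinv_mul T (hu a)]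
    exact h.e_range hu a _

/-- On a block of exponent `k` the kernel of `Π ^ l` is the image of `Π ^ (k - l)`. -/
theorem ker_range {k l : ℕ} (hk : 1 ≤ k) (hu : ∀ a, (T.Pi ^ k) (u a) = 0)
    (hM : ∀ y : Fin r → F, (∀ b, ∑ a, y a * T.top k (u a) (u b) = 0) → y = 0) (hl : l ≤ k) {s : Fin T.n → F}
    (hs : s ∈ LinearMap.range (orbitMap T.toTri u)) (hsl : (T.Pi ^ l) s = 0) :
    ∃ s' ∈ LinearMap.range (orbitMap T.toTri u), s = (T.Pi ^ (k - l)) s' := by
  obtain ⟨x, rfl⟩ := h.rep hu hs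
  have hzero : ∀ a, AdjoinRoot.mk _ (f1 F) ^ l * x a = 0 := by
    refine congrFun (faith T hk u hu hM (fun a => AdjoinRoot.mk _ (f1 F) ^ l * x a) fun b j => ?_)
    rw [Finset.sum_congr rfl fun a _ => e_pi_pow_mul T (hu a) l (x a), ← map_sum, hsl, map_zero,
      LinearMap.zero_apply]
  have hdiv : ∀ a, ∃ y, x a = AdjoinRoot.mk _ (f1 F) ^ (k - l) * y := fun a => by
    obtain ⟨P, hP⟩ := AdjoinRoot.mk_surjective (x a)
    have h1 := hzero a
    rw [← hP, ← map_pow, ← map_mul, AdjoinRoot.mk_eq_zero, show k = l + (k - l) by omega, pow_add] at h1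
    obtain ⟨P', hP'⟩ := (mul_dvd_mul_iff_left (pow_ne_zero _ irreducible_f1.ne_zero)).1 h1
    exact ⟨AdjoinRoot.mk _ P', by rw [← hP, hP', map_mul, map_pow]⟩
  choose y hy using hdiv
  refine ⟨∑ a, T.e k (u a) (y a), Submodule.sum_mem _ fun a _ => h.e_range hu a (y a), ?_⟩
  rw [Finset.sum_congr rfl fun a _ => (congrArg (T.e k (u a)) (hy a)).trans (e_pi_pow_mul T (hu a) _ (y a)), ← map_sum]

/-- A block of exponent `k` does not touch the flags of the other exponents. -/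
theorem flag_iff_ne {k l : ℕ} (hk : 1 ≤ k) (hc : ∀ a, c a = (f1 F, k))
    (hM : ∀ y : Fin r → F, (∀ b, ∑ a, y a * T.top k (u a) (u b) = 0) → y = 0) (hlk : l ≠ k) :
    T.Flag l ↔ R.Flag l := by
  have hu : ∀ a, (T.Pi ^ k) (u a) = 0 := fun a => by
    have := h.hk a
    rw [hc a] at this
    exact (killed_iff T).2 this
  refine h.flag_iff fun s hs hsl => ?_
  rcases Nat.lt_or_gt_of_ne hlk with hl | hl
  swap
  · obtain ⟨x, rfl⟩ := h.rep hu hs
    rw [Tw.top, pi_pow_zero_of_le T (k := k) ?_ (by omega), map_zero, LinearMap.zero_apply]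
    rw [map_sum]
    exact Finset.sum_eq_zero fun a _ => e_killed T (hu a) _
  obtain ⟨s', hs'm, rfl⟩ := h.ker_range hk hu hM hl.le hs hsl
  have hs' : (T.Pi ^ k) s' = 0 := h.range_killed hu hs'm
  rw [Tw.top, B_comm, B_pi_pow_left, ← Module.End.mul_apply _ (T.Pi ^ (l - 1)), ← pow_add,
    ← Module.End.mul_apply (T.Pi ^ _) (T.Pi ^ _), ← pow_add]
  rcases Nat.eq_zero_or_pos l with rfl | hl0
  · rw [pi_pow_zero_of_le T hs' (by omega), map_zero, map_zero]
  · rw [pi_pow_zero_of_le T hs' (by omega), map_zero, map_zero]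

end Split

end Cfsg.Agent.Classical.IsometryTwo
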