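import Cfsg.Agent.Lib.Classical.IsometryTwoOps
import Cfsg.Agent.Lib.Classical.IsometryClassBound

/-!
Isometries in characteristic two: the cyclic modules of `(X - 1) ^ k`, pairings and gluing.
-/

set_option autoImplicit false

namespace Cfsg.Agent.Classical.IsometryTwo

open Polynomial Module
open Cfsg.Agent.Classical.SLClasses Cfsg.Agent.Classical.UnitClasses Cfsg.Agent.Classical.IsometryClasses
  Cfsg.Agent.UnitaryDetCentralizer

universe u

variable {F : Type u} [Field F] [Finite F] {o : Bool}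

/-- `X - 1`. -/
noncomputable abbrev f1 (F : Type u) [Field F] : F[X] := X - C 1

theorem monic_f1 (k : ℕ) : (f1 F ^ k).Monic := (monic_X_sub_C 1).pow k

theorem irreducible_f1 : Irreducible (f1 F) := irreducible_X_sub_C 1

theorem coeff_f1 : (f1 F).coeff 0 ≠ 0 := (linear_facts (one_mul (1 : F))).2.2.1

theorem rd_f1 : rd (f1 F) = f1 F := (linear_facts (one_mul (1 : F))).2.2.2

theorem coeff_pow_f1 (k : ℕ) : (f1 F ^ k).coeff 0 ≠ 0 := (self_linear (one_mul (1 : F)) k).1

theorem self_f1 (k : ℕ) : aeval (rinv (f1 F ^ k)) (f1 F ^ k) = 0 := (self_linear (one_mul (1 : F)) k).2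

/-- The functional selecting the socle. -/
theorem exists_top_functional {k : ℕ} (hk : 1 ≤ k) :
    ∃ φ : AdjoinRoot (f1 F ^ k) →ₗ[F] F, φ (AdjoinRoot.mk _ (f1 F ^ (k - 1))) = 1 := by
  obtain ⟨φ, h1⟩ := not_forall.1 (mt (Module.forall_dual_apply_eq_zero_iff F _).1
    (mk_pow_ne_zero (irreducible_f1 (F := F)) hk))
  exact ⟨(φ (AdjoinRoot.mk _ (f1 F ^ (k - 1))))⁻¹ • φ, by rw [LinearMap.smul_apply, smul_eq_mul, inv_mul_cancel₀ h1]⟩

variable [CharP F 2] (T : Tw F o)

theorem pi_eq_aeval : T.Pi = aeval T.g (f1 F) := by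
  rw [Tw.Pi, map_sub, aeval_X, aeval_C, map_one, sub_eq_add_neg]
  refine congrArg _ (LinearMap.ext fun x => funext fun i => ?_)
  exact (CharTwo.neg_eq _).symm

theorem killed_iff {k : ℕ} {x : Fin T.n → F} : (T.Pi ^ k) x = 0 ↔ aeval T.g (f1 F ^ k) x = 0 := by
  rw [pi_eq_aeval, ← map_pow]

/-- The cyclic submodule of a vector killed by `(X - 1) ^ k`. -/
noncomputable abbrev Tw.e (k : ℕ) (x : Fin T.n → F) :
    AdjoinRoot (f1 F ^ k) →ₗ[F] (Fin T.n → F) :=
  T.toTri.ev (monic_f1 k) x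

variable {k : ℕ} {x : Fin T.n → F}

theorem e_one (hx : (T.Pi ^ k) x = 0) : T.e k x 1 = x := ev_one T.toTri (monic_f1 k) ((killed_iff T).1 hx)

theorem e_killed (hx : (T.Pi ^ k) x = 0) (a : AdjoinRoot (f1 F ^ k)) : (T.Pi ^ k) (T.e k x a) = 0 :=
  (killed_iff T).2 (ev_killed T.toTri (monic_f1 k) ((killed_iff T).1 hx) a)

theorem e_mk_mul (hx : (T.Pi ^ k) x = 0) (P : F[X]) (a : AdjoinRoot (f1 F ^ k)) :
    T.e k x (AdjoinRoot.mk _ P * a) = aeval T.g P (T.e k x a) := by
  rw [Tw.e, ← ev_ev T.toTri (monic_f1 k) ((killed_iff T).1 hx),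
    ev_mk T.toTri (monic_f1 k) (ev_killed T.toTri (monic_f1 k) ((killed_iff T).1 hx) a)]

theorem e_root_mul (hx : (T.Pi ^ k) x = 0) (a : AdjoinRoot (f1 F ^ k)) :
    T.e k x (AdjoinRoot.root _ * a) = T.g (T.e k x a) := by
  rw [← AdjoinRoot.mk_X, e_mk_mul T hx, aeval_X]

theorem e_rinv_mul (hx : (T.Pi ^ k) x = 0) (a : AdjoinRoot (f1 F ^ k)) :
    T.e k x (rinv _ * a) = T.gi (T.e k x a) := by
  refine T.g_injective ?_
  rw [← e_root_mul T hx, g_gi, ← mul_assoc, root_mul_rinv (coeff_pow_f1 k), one_mul]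

theorem e_pi_pow_mul (hx : (T.Pi ^ k) x = 0) (m : ℕ) (a : AdjoinRoot (f1 F ^ k)) :
    T.e k x (AdjoinRoot.mk _ (f1 F) ^ m * a) = (T.Pi ^ m) (T.e k x a) := by
  rw [← map_pow, e_mk_mul T hx, map_pow, pi_eq_aeval]

theorem e_sigma_pow_mul (hx : (T.Pi ^ k) x = 0) (i : ℕ) (a : AdjoinRoot (f1 F ^ k)) :
    T.e k x ((AdjoinRoot.root _ + rinv _) ^ i * a) = (T.sop ^ i) (T.e k x a) := by
  induction i generalizing a with
  | zero => rw [pow_zero, pow_zero, one_mul, Module.End.one_apply]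
  | succ i ih =>
    rw [pow_succ, mul_assoc, ih, pow_succ, Module.End.mul_apply, add_mul, map_add, e_root_mul T hx,
      e_rinv_mul T hx]
    rfl

theorem top_eq (hx : (T.Pi ^ k) x = 0) (y : Fin T.n → F) :
    T.top k x y = T.B (T.e k x (AdjoinRoot.mk _ (f1 F ^ (k - 1)))) y := by
  rw [Tw.top, ← mul_one (AdjoinRoot.mk _ (f1 F ^ (k - 1))), map_pow, e_pi_pow_mul T hx, e_one T hx]

theorem exists_pairing_f1 {S : Multiset (F[X] × ℕ)} (hS : Labels T.g S)
    (hmax : ∀ y ∈ S, y.1 = f1 F → y.2 ≤ k) (hx : (T.Pi ^ k) x = 0) (hx1 : (T.Pi ^ (k - 1)) x ≠ 0)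
    (φ : AdjoinRoot (f1 F ^ k) →ₗ[F] F) :
    ∃ w, (T.Pi ^ k) w = 0 ∧ ∀ a, T.B (T.e k x a) w = φ a := by
  classical
  have hinj : Function.Injective (T.e k x) :=
    ev_injective (monic_X_sub_C 1) irreducible_f1 ((killed_iff T).1 hx) (fun h => hx1 ((killed_iff T).2 h))
  obtain ⟨L, hL⟩ := LinearMap.exists_leftInverse_of_injective _ (LinearMap.ker_eq_bot.2 hinj)
  set z := (LinearMap.BilinForm.toDual T.B T.nondeg).symm (φ.comp L) with hz
  have hBz : ∀ a, T.B (T.e k x a) z = φ a := fun a => by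
    rw [B_comm, hz, LinearMap.BilinForm.apply_toDual_symm_apply, LinearMap.comp_apply, ← LinearMap.comp_apply L, hL,
      LinearMap.id_apply]
  set P := aeval T.g (f1 F ^ k) with hP
  have hker : ∀ y, P (P y) = 0 → P y = 0 := by
    have h2 : LinearMap.ker (aeval T.g (f1 F ^ (k + k))) = LinearMap.ker P := by
      refine (Submodule.eq_of_le_of_finrank_eq (fun y hy => ?_) ?_).symm
      · rw [LinearMap.mem_ker, pow_add, map_mul, Module.End.mul_apply, ← hP, LinearMap.mem_ker.1 hy, map_zero]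
      · rw [hP, finrank_ker_of_labels hS (monic_X_sub_C 1) irreducible_f1,
          finrank_ker_of_labels hS (monic_X_sub_C 1) irreducible_f1]
        refine congrArg Multiset.sum (Multiset.map_congr rfl fun y hy => ?_)
        by_cases he : y.1 = f1 F
        · have := hmax y hy he
          rw [min_eq_right this, min_eq_right (show y.2 ≤ k + k by omega)]
        · simp only [if_neg he]
    intro y hy
    have : y ∈ LinearMap.ker (aeval T.g (f1 F ^ (k + k))) := by
      rw [LinearMap.mem_ker, pow_add, map_mul, Module.End.mul_apply]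
      exact hy
    rwa [h2] at this
  have hdisj : Disjoint (LinearMap.ker P) (LinearMap.range P) := by
    rw [Submodule.disjoint_def]
    rintro _ hy ⟨y, rfl⟩
    exact hker y hy
  have htop : LinearMap.ker P ⊔ LinearMap.range P = ⊤ := by
    refine Submodule.eq_top_of_disjoint _ _ ?_ hdisj
    rw [add_comm, LinearMap.finrank_range_add_finrank_ker]
  obtain ⟨y, hy, _, ⟨w, rfl⟩, hzw⟩ := Submodule.mem_sup.1 (htop ▸ Submodule.mem_top : z ∈ _)
  refine ⟨y, (killed_iff T).2 hy, fun a => ?_⟩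
  have h3 := orth_range (T := T.toTri) (monic_X_sub_C 1) irreducible_f1 coeff_f1
    ((killed_iff T).1 (e_killed T hx a)) w
  rw [rd_f1] at h3
  rw [← hBz a, ← hzw, map_add, hP, h3, add_zero]

theorem phi_ext {T' : Tw F o} {x' : Fin T'.n → F} (hx : (T.Pi ^ k) x = 0) (hx' : (T'.Pi ^ k) x' = 0)
    (h : ∀ r, 1 ≤ r → 2 * r ≤ k → T.Psi x r = T'.Psi x' r) (c : AdjoinRoot (f1 F ^ k)) :
    T.B (T.e k x c) x = T'.B (T'.e k x' c) x' := by
  set z := AdjoinRoot.root (f1 F ^ k) with hz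
  set w := rinv (f1 F ^ k) with hw
  set p := AdjoinRoot.mk (f1 F ^ k) (f1 F) with hp
  let L : AdjoinRoot (f1 F ^ k) →ₗ[F] F := (T.B.flip x).comp (T.e k x) - (T'.B.flip x').comp (T'.e k x')
  have hLd : ∀ c, L c = T.B (T.e k x c) x - T'.B (T'.e k x' c) x' := fun c => rfl
  have two : ∀ a : AdjoinRoot (f1 F ^ k), a + a = 0 := fun a => by
    rw [← two_mul, ← map_ofNat (algebraMap F (AdjoinRoot (f1 F ^ k))) 2, CharTwo.two_eq_zero, map_zero, zero_mul]
  have hpz : p = z + 1 := by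
    rw [hp, map_sub, AdjoinRoot.mk_X, map_one C, map_one, sub_eq_add_neg, ← hz]
    exact congrArg (z + ·) (eq_neg_of_add_eq_zero_left (two 1)).symm
  have hzw : z * w = 1 := root_mul_rinv (coeff_pow_f1 k)
  have hσ : z + w = p ^ 2 * w := by
    rw [hpz]; linear_combination (-z - 2) * hzw - two 1
  have h0 : ∀ i, L ((z + w) ^ i) = 0 := fun i => by
    rw [hLd, ← mul_one ((z + w) ^ i), e_sigma_pow_mul T hx, e_sigma_pow_mul T' hx', e_one T hx, e_one T' hx',
      B_sop_pow_self, B_sop_pow_self, sub_zero]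
  have h1 : ∀ i, L (z * (z + w) ^ i) = 0 := fun i => by
    rw [hLd, ← mul_one ((z + w) ^ i), e_root_mul T hx, e_root_mul T' hx', e_sigma_pow_mul T hx,
      e_sigma_pow_mul T' hx', e_one T hx, e_one T' hx', ← psi_succ, ← psi_succ, sub_eq_zero]
    by_cases hi : 2 * (i + 1) ≤ k
    · exact h _ (by omega) hi
    · rw [psi_eq_zero T hx (by omega), psi_eq_zero T' hx' (by omega)]
  have hm : ∀ m, L (p ^ m * w ^ (m / 2)) = 0 := fun m => by
    obtain ⟨i, rfl | rfl⟩ := Nat.even_or_odd' m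
    · rw [show 2 * i / 2 = i by omega, pow_mul, ← mul_pow, ← hσ, h0]
    · rw [show (2 * i + 1) / 2 = i by omega, pow_succ', mul_assoc, pow_mul, ← mul_pow, ← hσ, hpz, add_mul, one_mul,
        map_add, h0, h1, add_zero]
  have key : ∀ d m, k ≤ m + d → ∀ c, L (p ^ m * c) = 0 := by
    intro d
    induction d with
    | zero =>
      intro m hmk c
      rw [hp, ← map_pow, AdjoinRoot.mk_eq_zero.2 (pow_dvd_pow _ (by omega)), zero_mul, map_zero]
    | succ d ih =>
      intro m hmk c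
      obtain ⟨c₀, c₁, hc⟩ := residue (δ := (1 : F)) (k := k) (c * z ^ (m / 2))
      rw [← hp] at hc
      have : p ^ m * c = c₀ • (p ^ m * w ^ (m / 2)) + p ^ (m + 1) * (c₁ * w ^ (m / 2)) := by
        rw [Algebra.smul_def]
        have h2 : c * z ^ (m / 2) * w ^ (m / 2) = c := by rw [mul_assoc, ← mul_pow, hzw, one_pow, mul_one]
        linear_combination (p ^ m * w ^ (m / 2)) * hc - p ^ m * h2
      rw [this, map_add, map_smul, hm, smul_zero, zero_add]
      exact ih (m + 1) (by omega) _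
  have := key k 0 (by omega) c
  rw [pow_zero, one_mul, hLd, sub_eq_zero] at this
  exact this

/-- Raising one level of a partner without changing its pairing with an even vector. -/
theorem adjust (hk : 1 ≤ k) {φ : AdjoinRoot (f1 F ^ k) →ₗ[F] F}
    (hφ : φ (AdjoinRoot.mk _ (f1 F ^ (k - 1))) = 1) (hx : (T.Pi ^ k) x = 0) (hxx : T.top k x x = 0)
    {u : Fin T.n → F} (hu : (T.Pi ^ k) u = 0) (hxu : ∀ a, T.B (T.e k x a) u = φ a) {r : ℕ} (hlo : lo o ≤ r)
    (hr : 2 * r < k) (t : F) :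
    ∃ u', (T.Pi ^ k) u' = 0 ∧ (∀ a, T.B (T.e k x a) u' = φ a) ∧
      ∀ s, r ≤ s → T.Psi u' s = T.Psi u s + if s = r then t + t * t * T.Psi x (k - 1 - r) else 0 := by
  have hQ := monic_f1 (F := F) k
  have h0 := coeff_pow_f1 (F := F) k
  have hh := self_f1 (F := F) k
  obtain ⟨hpk, e₀, he₀, -⟩ := pi_facts (one_mul (1 : F)) h0 hh
  set τ := dmap _ _ hh with hτ
  set p := AdjoinRoot.mk (f1 F ^ k) (f1 F) with hp
  set e := k - 1 - 2 * r with he
  have hττ : ∀ a, τ (τ a) = a := dmap_dmap h0 h0 hh hh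
  have hφF : Faithful φ := faithful_of_top irreducible_f1 (c := 1) (by rw [one_mul, hφ]; exact one_ne_zero)
  obtain ⟨a, ha⟩ := exists_dual hQ hφF ((T.B.flip x).comp (T.e k x))
  have ha' : ∀ c, T.B (T.e k x c) x = φ (c * a) := ha
  obtain ⟨a₀, a₁, ha01⟩ := residue (δ := (1 : F)) (k := k) a
  rw [← hp] at ha01
  have ha0 : a₀ = 0 := by
    have h1 := ha' (AdjoinRoot.mk _ (f1 F ^ (k - 1)))
    rw [← top_eq T hx, hxx, ha01, mul_add, ← mul_assoc, hp, ← map_mul, ← pow_succ, Nat.sub_add_cancel hk,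
      AdjoinRoot.mk_self, zero_mul, add_zero, mul_comm, ← Algebra.smul_def, map_smul, hφ, smul_eq_mul, mul_one] at h1
    exact h1.symm
  rw [ha0, map_zero, zero_add] at ha01
  set u₁ := u + t • (T.Pi ^ e) x with hu₁
  have hxk := (killed_iff T).1 hx
  have hkp : ∀ m, (T.Pi ^ k) ((T.Pi ^ m) x) = 0 := fun m => by
    rw [← Module.End.mul_apply, ← pow_add, pi_pow_zero_of_le T hx (by omega)]
  have hu₁k : (T.Pi ^ k) u₁ = 0 := by rw [hu₁, map_add, map_smul, hu, hkp, smul_zero, add_zero]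
  set d := p ^ (e + 1) * (algebraMap F _ t * (e₀ ^ e * a₁)) with hd
  have hcross : ∀ c, T.B (T.e k x c) u₁ = φ (c * (1 + d)) := fun c => by
    have h1 : (T.Pi ^ e) x = T.e k x (p ^ e * 1) := by rw [hp, e_pi_pow_mul T hx, e_one T hx]
    rw [hu₁, map_add, hxu, map_smul, smul_eq_mul, h1, adjoint T.toTri hQ h0 hQ hh hxk hxk, ha', mul_one, ← hτ,
      map_pow τ, he₀, ha01, mul_add, mul_one, map_add, hd, mul_left_comm (p ^ (e + 1)), mul_left_comm c,
      ← Algebra.smul_def, map_smul, smul_eq_mul]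
    congr 2
    congr 1
    ring
  obtain ⟨i₁, hi₁⟩ := isUnit_iff_exists_inv.1 (IsNilpotent.isUnit_one_add (r := d)
    ⟨k, by rw [hd, mul_pow, ← pow_mul, mul_comm (e + 1), pow_mul, hpk, zero_pow (by omega), zero_mul]⟩)
  set y := -(e₀ ^ (e + 1) * τ (algebraMap F _ t * (e₀ ^ e * a₁) * i₁)) with hy
  have hτi : τ i₁ = 1 + p ^ (e + 1) * y := by
    have h1 : i₁ = 1 - p ^ (e + 1) * (algebraMap F _ t * (e₀ ^ e * a₁) * i₁) := by
      rw [hd] at hi₁
      linear_combination hi₁
    conv_lhs => rw [h1]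
    rw [map_sub τ, map_one τ, map_mul τ, map_pow τ, he₀, mul_pow, hy]
    ring
  refine ⟨T.e k u₁ (τ i₁), e_killed T hu₁k _, fun c => ?_, fun s hs => ?_⟩
  · rw [adjoint T.toTri hQ h0 hQ hh hxk ((killed_iff T).1 hu₁k), ← hτ, hττ, hcross, mul_assoc, mul_comm i₁, hi₁,
      mul_one]
  · rw [hτi, map_add, e_one T hu₁k, hp, e_pi_pow_mul T hu₁k,
      psi_high T (hlo.trans hs) (by omega) (by omega) hu₁k (e_killed T hu₁k _), hu₁, he, psi_shift T hr hs hlo hu hx]
    congr 1
    split_ifs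
    · have hxu1 : T.top k u x = 1 := by
        rw [top_comm T hk hx, top_eq T hx, hxu, hφ]
      rw [hxu1, mul_one]
    · rfl

/-- A family with invertible top pairings spans non-degenerately. -/
theorem faith {m : ℕ} (hk : 1 ≤ k) (u : Fin m → Fin T.n → F) (hu : ∀ a, (T.Pi ^ k) (u a) = 0)
    (hM : ∀ y : Fin m → F, (∀ b, ∑ a, y a * T.top k (u a) (u b) = 0) → y = 0)
    (x : Fin m → AdjoinRoot (f1 F ^ k)) (h : ∀ b j, T.B (∑ a, T.e k (u a) (x a)) ((T.g ^ j) (u b)) = 0) : x = 0 := by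
  classical
  set p := AdjoinRoot.mk (f1 F ^ k) (f1 F) with hp
  have hP : ∀ (P : F[X]) b, T.B (∑ a, T.e k (u a) (x a)) (aeval T.g P (u b)) = 0 := fun P b => by
    induction P using Polynomial.induction_on' with
    | add p q hp hq => simp only [map_add, LinearMap.add_apply, hp, hq, add_zero]
    | monomial i c =>
      rw [aeval_monomial, Module.End.mul_apply, Module.algebraMap_end_apply, map_smul, h, smul_zero]
  have key : ∀ i, i ≤ k → ∀ a, ∃ y, x a = p ^ i * y := by
    intro i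
    induction i with
    | zero => exact fun _ a => ⟨x a, by rw [pow_zero, one_mul]⟩
    | succ i ih =>
      intro hi
      choose y hy using ih (by omega)
      choose y₀ y₁ hy01 using fun a => residue (δ := (1 : F)) (k := k) (y a)
      have hterm : ∀ a b, T.B (T.e k (u a) (x a)) ((T.Pi ^ (k - 1 - i)) (u b)) = y₀ a * T.top k (u a) (u b) := by
        intro a b
        rw [hy a, e_pi_pow_mul T (hu a), B_comm, B_pi_pow_left, B_comm,
          ← Module.End.mul_apply, ← Module.End.mul_apply, mul_assoc, ← pow_add, show k - 1 - i + i = k - 1 by omega,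
          Module.End.mul_apply, gi_pi_top T hk (e_killed T (hu a) _), ← e_pi_pow_mul T (hu a), hy01 a, mul_add,
          ← mul_assoc, ← hp, ← pow_succ, Nat.sub_add_cancel hk, hp, ← map_pow _ _ k, AdjoinRoot.mk_self, zero_mul,
          add_zero, mul_comm, ← Algebra.smul_def, map_smul, map_smul, LinearMap.smul_apply, smul_eq_mul,
          ← mul_one (AdjoinRoot.mk _ (f1 F) ^ (k - 1)), e_pi_pow_mul T (hu a), e_one T (hu a)]
        rfl
      have h0 : y₀ = 0 := hM y₀ fun b => by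
        rw [← Finset.sum_congr rfl fun a _ => hterm a b, ← LinearMap.sum_apply, ← map_sum, pi_eq_aeval, ← map_pow]
        exact hP _ b
      intro a
      refine ⟨y₁ a, ?_⟩
      rw [hy a, hy01 a, congrFun h0 a, Pi.zero_apply, map_zero, zero_add, pow_succ, mul_assoc]
  funext a
  obtain ⟨y, hy⟩ := key k le_rfl a
  rw [hy, hp, ← map_pow, AdjoinRoot.mk_self, zero_mul, Pi.zero_apply]

/-- Isometry of twisted triples. -/
def Tw.Iso (T T' : Tw F o) : Prop :=
  ∃ e : (Fin T.n → F) ≃ₗ[F] (Fin T'.n → F),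
    (∀ x y, T'.B (e x) (e y) = T.B x y) ∧ (∀ x, e (T.g x) = T'.g (e x)) ∧ ∀ x, T'.Q (e x) = T.Q x

theorem glue_two {T' R R' : Tw F o} {ι : Type*} (u : ι → Fin T.n → F) (u' : ι → Fin T'.n → F)
    (E : (Fin R.n → F) →ₗ[F] (Fin T.n → F)) (E' : (Fin R'.n → F) →ₗ[F] (Fin T'.n → F))
    (hE : ∀ x y, T.B (E x) (E y) = R.B x y) (hE' : ∀ x y, T'.B (E' x) (E' y) = R'.B x y)
    (hg : ∀ x, E (R.g x) = T.g (E x)) (hg' : ∀ x, E' (R'.g x) = T'.g (E' x))
    (hQ : ∀ x, T.Q (E x) = R.Q x) (hQ' : ∀ x, T'.Q (E' x) = R'.Q x) (hu : ∀ a, T.Q (u a) = T'.Q (u' a))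
    (ho : ∀ z b j, T.B (E z) ((T.g ^ j) (u b)) = 0) (ho' : ∀ z b j, T'.B (E' z) ((T'.g ^ j) (u' b)) = 0)
    (hs : ⊤ ≤ LinearMap.range (orbitMap T.toTri u) ⊔ LinearMap.range E)
    (hs' : ⊤ ≤ LinearMap.range (orbitMap T'.toTri u') ⊔ LinearMap.range E')
    (hgram : ∀ a b i j, T.B ((T.g ^ i) (u a)) ((T.g ^ j) (u b)) = T'.B ((T'.g ^ i) (u' a)) ((T'.g ^ j) (u' b)))
    (hR : R.Iso R') : T.Iso T' := by
  classical
  obtain ⟨e, heB, heg, heQ⟩ := hR
  let L : (((ι × ℕ) →₀ F) × (Fin R.n → F)) →ₗ[F] (Fin T.n → F) := (orbitMap T.toTri u).coprod E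
  let L' : (((ι × ℕ) →₀ F) × (Fin R.n → F)) →ₗ[F] (Fin T'.n → F) :=
    (orbitMap T'.toTri u').coprod (E'.comp e.toLinearMap)
  have hsurj : Function.Surjective L := LinearMap.range_eq_top.1 (top_le_iff.1 (by
    rw [LinearMap.range_coprod]; exact hs))
  have hsurj' : Function.Surjective L' := LinearMap.range_eq_top.1 (top_le_iff.1 (by
    rw [LinearMap.range_coprod, LinearMap.range_comp, LinearEquiv.range, Submodule.map_top]; exact hs'))
  have hUU : ∀ z w, T.B (orbitMap T.toTri u z) (orbitMap T.toTri u w) =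
      T'.B (orbitMap T'.toTri u' z) (orbitMap T'.toTri u' w) := by
    intro z w
    induction z using Finsupp.induction_linear with
    | zero => simp
    | add p q hp hq => simp only [map_add, LinearMap.add_apply, hp, hq]
    | single x c =>
      induction w using Finsupp.induction_linear with
      | zero => simp
      | add p q hp hq => simp only [map_add, hp, hq]
      | single y d =>
        simp only [orbitMap, Finsupp.linearCombination_single, map_smul, LinearMap.smul_apply, hgram]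
  have hEU : ∀ z w, T.B (E z) (orbitMap T.toTri u w) = 0 := fun z w => by
    induction w using Finsupp.induction_linear with
    | zero => simp
    | add p q hp hq => simp only [map_add, hp, hq, add_zero]
    | single y d => simp [orbitMap, ho]
  have hEU' : ∀ z w, T'.B (E' z) (orbitMap T'.toTri u' w) = 0 := fun z w => by
    induction w using Finsupp.induction_linear with
    | zero => simp
    | add p q hp hq => simp only [map_add, hp, hq, add_zero]
    | single y d => simp [orbitMap, ho']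
  have hform : ∀ p q, T'.B (L' p) (L' q) = T.B (L p) (L q) := by
    intro p q
    simp only [L, L', LinearMap.coprod_apply, LinearMap.comp_apply, LinearEquiv.coe_coe, map_add,
      LinearMap.add_apply]
    rw [B_comm T (orbitMap T.toTri u p.1) (E q.2), B_comm T' (orbitMap T'.toTri u' p.1) (E' (e q.2)), hUU, hEU,
      hEU, hEU', hEU', hE, hE', heB]
  have hgQ : ∀ (T : Tw F o) (j : ℕ) (x : Fin T.n → F), T.Q ((T.g ^ j) x) = T.Q x := fun T j x => by
    induction j with
    | zero => simp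
    | succ j ih => rw [pow_succ', Module.End.mul_apply, T.Q_g, ih]
  have hUQ : ∀ z, T'.Q (orbitMap T'.toTri u' z) = T.Q (orbitMap T.toTri u z) := fun z => by
    induction z using Finsupp.induction_linear with
    | zero => rw [map_zero, map_zero, Q_zero, Q_zero]
    | add p q hp hq => rw [map_add, map_add, T.Q_add, T'.Q_add, hp, hq, hUU]
    | single x c =>
      simp only [orbitMap, Finsupp.linearCombination_single]
      rw [T.Q_smul, T'.Q_smul, hgQ, hgQ, hu]
  have hformQ : ∀ p, T'.Q (L' p) = T.Q (L p) := fun p => by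
    simp only [L, L', LinearMap.coprod_apply, LinearMap.comp_apply, LinearEquiv.coe_coe]
    rw [T.Q_add, T'.Q_add, hUQ, hQ, hQ', heQ, B_comm T _ (E p.2), B_comm T' _ (E' (e p.2)), hEU, hEU']
  have hker : ∀ p, L p = 0 ↔ L' p = 0 := by
    intro p
    constructor
    · intro h
      refine T'.nondeg.1 _ fun y => ?_
      obtain ⟨q, rfl⟩ := hsurj' y
      rw [hform, h, map_zero, LinearMap.zero_apply]
    · intro h
      refine T.nondeg.1 _ fun y => ?_
      obtain ⟨q, rfl⟩ := hsurj y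
      rw [← hform, h, map_zero, LinearMap.zero_apply]
  have hk : LinearMap.ker L = LinearMap.ker L' := Submodule.ext fun p => hker p
  let Φ : (Fin T.n → F) ≃ₗ[F] (Fin T'.n → F) :=
    (L.quotKerEquivOfSurjective hsurj).symm.trans
      ((Submodule.quotEquivOfEq _ _ hk).trans (L'.quotKerEquivOfSurjective hsurj'))
  have hΦ : ∀ p, Φ (L p) = L' p := fun p => by
    have h1 : (L.quotKerEquivOfSurjective hsurj).symm (L p) = Submodule.Quotient.mk p := by
      rw [LinearEquiv.symm_apply_eq]; rfl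
    show (L'.quotKerEquivOfSurjective hsurj') ((Submodule.quotEquivOfEq _ _ hk)
      ((L.quotKerEquivOfSurjective hsurj).symm (L p))) = L' p
    rw [h1]
    rfl
  refine ⟨Φ, fun x y => ?_, fun x => ?_, fun x => ?_⟩
  · obtain ⟨p, rfl⟩ := hsurj x
    obtain ⟨q, rfl⟩ := hsurj y
    rw [hΦ, hΦ, hform]
  · obtain ⟨p, rfl⟩ := hsurj x
    let σ : ((ι × ℕ) →₀ F) →ₗ[F] ((ι × ℕ) →₀ F) := Finsupp.lmapDomain F F fun x : ι × ℕ => (x.1, x.2 + 1)
    have h1 : T.g (L p) = L (σ p.1, R.g p.2) := by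
      simp only [L, LinearMap.coprod_apply, map_add, g_orbitMap, hg]
      rfl
    rw [h1, hΦ, hΦ]
    simp only [L', LinearMap.coprod_apply, map_add, g_orbitMap, LinearMap.comp_apply, LinearEquiv.coe_coe, heg, hg']
    rfl
  · obtain ⟨p, rfl⟩ := hsurj x
    rw [hΦ, hformQ]

end Cfsg.Agent.Classical.IsometryTwo
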