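import Cfsg.Agent.Lib.Classical.IsometryTwoPeel

/-!
Isometries in characteristic two: normal forms of the orthogonal summand of the largest exponent of `X - 1`.
-/

set_option autoImplicit false

namespace Cfsg.Agent.Classical.IsometryTwo

open Polynomial Module
open Cfsg.Agent.Classical.SLClasses Cfsg.Agent.Classical.UnitClasses Cfsg.Agent.Classical.IsometryClasses
  Cfsg.Agent.UnitaryDetCentralizer

universe u

variable {F : Type u} [Field F] {o : Bool}

attribute [local instance] Classical.propDecidable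

/-- An exponent at which a quadratic value lives. -/
def Act (o : Bool) (S : Multiset (F[X] × ℕ)) (Fl : Finset ℕ) (l : ℕ) : Prop :=
  if Even l then l ∈ Fl else lo o ≤ l / 2 ∧ (f1 F, l) ∈ S

/-- An exponent carrying a free choice. -/
def Bit (o : Bool) (S : Multiset (F[X] × ℕ)) (Fl : Finset ℕ) (k : ℕ) : Prop :=
  Act o S Fl k ∧ lo o ≤ (k - 1) / 2 ∧ ¬ Act o S Fl (k - 1) ∧ ¬ (Even k ∧ Act o S Fl (k - 2))

theorem act_even {S : Multiset (F[X] × ℕ)} {Fl : Finset ℕ} {l : ℕ} (h : Even l) : Act o S Fl l ↔ l ∈ Fl := by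
  rw [Act, if_pos h]

theorem act_odd {S : Multiset (F[X] × ℕ)} {Fl : Finset ℕ} {l : ℕ} (h : ¬ Even l) :
    Act o S Fl l ↔ lo o ≤ l / 2 ∧ (f1 F, l) ∈ S := by
  rw [Act, if_neg h]

variable [Finite F] [CharP F 2]

/-- A value outside `{t² + t}`; its coset is everything else. -/
theorem exists_tau : ∃ τ : F, (∀ t : F, t * t + t ≠ τ) ∧ ∀ c : F, ∃ t, c + t + t * t = 0 ∨ c + t + t * t = τ := by
  classical
  haveI := Fintype.ofFinite F
  let φ : F →+ F :=
    { toFun := fun t => t * t + t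
      map_zero' := by simp
      map_add' := fun a b => by linear_combination (a * b) * CharTwo.two_eq_zero (R := F) }
  have hk : φ.ker = AddSubgroup.zmultiples (1 : F) := by
    ext t
    rw [AddMonoidHom.mem_ker, AddSubgroup.mem_zmultiples_iff]
    constructor
    · intro h
      change t * t + t = 0 at h
      rcases mul_eq_zero.1 (show t * (t + 1) = 0 by linear_combination h) with h1 | h1
      · exact ⟨0, by rw [zero_zsmul, h1]⟩
      · exact ⟨1, by rw [one_zsmul]; linear_combination CharTwo.two_eq_zero (R := F) - h1⟩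
    · rintro ⟨i, rfl⟩
      change (i • (1 : F)) * (i • (1 : F)) + i • (1 : F) = 0
      rcases Int.even_or_odd i with ⟨m, rfl⟩ | ⟨m, rfl⟩
      · rw [add_zsmul, CharTwo.add_self_eq_zero, zero_mul, add_zero]
      · rw [add_zsmul, two_mul m, add_zsmul, CharTwo.add_self_eq_zero, zero_add, one_zsmul, one_mul,
          CharTwo.add_self_eq_zero]
  have hidx : φ.range.index = 2 := by
    have h1 := φ.range.card_mul_index
    rw [Nat.card_congr (QuotientAddGroup.quotientKerEquivRange φ).symm.toEquiv] at h1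
    have h2 := φ.ker.card_mul_index
    have h3 : Nat.card φ.ker = 2 := by
      rw [hk, Nat.card_zmultiples]
      exact CharP.eq F (CharP.addOrderOf_one F) inferInstance
    rw [AddSubgroup.index, h3] at h2
    have h4 : 0 < Nat.card (F ⧸ φ.ker) := Nat.card_pos
    rw [← h2, mul_comm 2] at h1
    exact Nat.eq_of_mul_eq_mul_left h4 h1
  obtain ⟨τ, hτ⟩ : ∃ τ, τ ∉ φ.range := by
    by_contra h
    push Not at h
    rw [(AddSubgroup.eq_top_iff' _).2 h, AddSubgroup.index_top] at hidx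
    omega
  refine ⟨τ, fun t ht => hτ ⟨t, ht⟩, fun c => ?_⟩
  by_cases hc : c ∈ φ.range
  · obtain ⟨t, ht⟩ := hc
    exact ⟨t, Or.inl (by rw [← ht]; change t * t + t + t + t * t = 0; linear_combination (t * t + t) * CharTwo.two_eq_zero (R := F))⟩
  · obtain ⟨t, ht⟩ := (AddSubgroup.add_mem_iff_of_index_two hidx (a := c) (b := τ)).2 (iff_of_false hc hτ)
    refine ⟨t, Or.inr ?_⟩
    change t * t + t = c + τ at ht
    linear_combination ht + c * CharTwo.two_eq_zero (R := F)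

/-- The fixed value outside `{t² + t}`. -/
noncomputable def tau (F : Type u) [Field F] [Finite F] [CharP F 2] : F := Classical.choose (exists_tau (F := F))

theorem tau_spec : (∀ t : F, t * t + t ≠ tau F) ∧ ∀ c : F, ∃ t, c + t + t * t = 0 ∨ c + t + t * t = tau F :=
  Classical.choose_spec (exists_tau (F := F))

variable (T : Tw F o) {k : ℕ}

/-- Gram data are determined by the levels and the mutual pairings. -/
theorem gram_of_levels {m : ℕ} {T' : Tw F o} (u : Fin m → Fin T.n → F) (u' : Fin m → Fin T'.n → F)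
    (hu : ∀ a, (T.Pi ^ k) (u a) = 0) (hu' : ∀ a, (T'.Pi ^ k) (u' a) = 0)
    (hd : ∀ a r, lo o ≤ r → 2 * r ≤ k → T.Psi (u a) r = T'.Psi (u' a) r)
    (hoff : ∀ a b, a ≠ b → ∀ c, T.B (T.e k (u a) c) (u b) = T'.B (T'.e k (u' a) c) (u' b)) :
    (∀ a b i, T.B ((T.g ^ i) (u a)) (u b) = T'.B ((T'.g ^ i) (u' a)) (u' b)) ∧ ∀ a, T.Q (u a) = T'.Q (u' a) := by
  refine ⟨fun a b i => ?_, fun a => ?_⟩
  · have key : ∀ (T : Tw F o) (x : Fin T.n → F), (T.Pi ^ k) x = 0 →
        (T.g ^ i) x = T.e k x (AdjoinRoot.root _ ^ i * 1) := fun T x hx => by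
      rw [Tw.e, ev_root_pow_mul T.toTri (monic_f1 k) ((killed_iff T).1 hx), ev_one T.toTri (monic_f1 k) ((killed_iff T).1 hx)]
    rw [key T _ (hu a), key T' _ (hu' a)]
    by_cases hab : a = b
    · subst hab
      refine phi_ext T (hu a) (hu' a) (fun r hr hr2 => hd a r ?_ hr2) _
      exact le_trans (by unfold lo; split_ifs <;> omega) hr
    · exact hoff a b hab _
  · cases o
    · rw [T.Q_off rfl, T'.Q_off rfl]
    · rw [← psi_zero, ← psi_zero]
      exact hd a 0 le_rfl (Nat.zero_le _)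

theorem top_odd {j : ℕ} {x : Fin T.n → F} (hx : (T.Pi ^ (2 * j + 1)) x = 0) : T.top (2 * j + 1) x x = 0 := by
  have h := gi_pi_top T (k := 2 * j + 1) (by omega) hx j
  rw [Tw.top, ← h, Nat.add_sub_cancel, ← Module.End.mul_apply, ← sop_pow_eq, B_sop_pow_self]

omit [Finite F] in
theorem pi_top_ne {x y : Fin T.n → F} (h : T.top k x y ≠ 0) : (T.Pi ^ (k - 1)) x ≠ 0 := fun h0 => h (by
  rw [Tw.top, h0, map_zero, LinearMap.zero_apply])

theorem exists_top_vec {S : Multiset (F[X] × ℕ)} (hS : Labels T.g S) (hx : (f1 F, k) ∈ S) :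
    ∃ v, (T.Pi ^ k) v = 0 ∧ (T.Pi ^ (k - 1)) v ≠ 0 := by
  obtain ⟨v, hv, hv1⟩ := exists_top (T := T.toTri) hS hx
  exact ⟨v, (killed_iff T).2 hv, fun h => hv1 ((killed_iff T).1 h)⟩

/-- A partner with top pairing one. -/
theorem exists_partner (hk : 1 ≤ k) {S : Multiset (F[X] × ℕ)} (hS : Labels T.g S)
    (hmax : ∀ y ∈ S, y.1 = f1 F → y.2 ≤ k) {v : Fin T.n → F} (hv : (T.Pi ^ k) v = 0)
    (hv1 : (T.Pi ^ (k - 1)) v ≠ 0) : ∃ w, (T.Pi ^ k) w = 0 ∧ T.top k v w = 1 := by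
  obtain ⟨φ, hφ⟩ := exists_top_functional (F := F) hk
  obtain ⟨w, hw, hvw⟩ := exists_pairing_f1 T hS hmax hv hv1 φ
  exact ⟨w, hw, by rw [top_eq T hv, hvw, hφ]⟩

/-- The quadratic form on the layer of an odd exponent is not zero. -/
theorem exists_layer_value {i : ℕ} (hlo : lo o ≤ i) {S : Multiset (F[X] × ℕ)} (hS : Labels T.g S)
    (hmax : ∀ y ∈ S, y.1 = f1 F → y.2 ≤ 2 * i + 1) (hx : (f1 F, 2 * i + 1) ∈ S) :
    ∃ z, (T.Pi ^ (2 * i + 1)) z = 0 ∧ T.Psi z i ≠ 0 := by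
  by_contra h
  push Not at h
  obtain ⟨v, hv, hv1⟩ := exists_top_vec T hS hx
  obtain ⟨w, hw, hvw⟩ := exists_partner T (by omega) hS hmax hv hv1
  have h1 := h (v + w) (by rw [map_add, hv, hw, add_zero])
  rw [psi_add T hlo, h v hv, h w hw, zero_add, zero_add,
    show T.B ((T.sop ^ i) v) w = T.top (2 * i + 1) v w by
      have := (cross T (r := i) (e := 0) hv w).2 (by omega)
      rwa [pow_zero, Module.End.one_apply] at this, hvw] at h1
  exact one_ne_zero h1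

omit [Finite F] [CharP F 2] in
theorem killed_shift {x y : Fin T.n → F} (hx : (T.Pi ^ k) x = 0) (hy : (T.Pi ^ k) y = 0) (t : F) (e : ℕ) :
    (T.Pi ^ k) (x + t • (T.Pi ^ e) y) = 0 := by
  rw [map_add, map_smul, ← Module.End.mul_apply, ← pow_add, pi_pow_zero_of_le T hy (Nat.le_add_right k e),
    smul_zero, hx, add_zero]

omit [Finite F] [CharP F 2] in
theorem top_shift {x y : Fin T.n → F} (hy : (T.Pi ^ k) y = 0) (t : F) {e : ℕ} (he : 1 ≤ e) (z : Fin T.n → F) :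
    T.top k (x + t • (T.Pi ^ e) y) z = T.top k x z := by
  rw [Tw.top, map_add, map_smul, ← Module.End.mul_apply, ← pow_add,
    pi_pow_zero_of_le T hy (show k ≤ k - 1 + e by omega), smul_zero, add_zero]
  rfl

/-- Some other vector of the layer, orthogonal to the given one, carries a top value. -/
def Tw.Crit (k : ℕ) (v : Fin T.n → F) : Prop :=
  ∃ y, (T.Pi ^ k) y = 0 ∧ T.top k v y = 0 ∧ T.top k y y ≠ 0

variable {T}

theorem split_single (hk : 1 ≤ k) {v : Fin T.n → F} (hv : (T.Pi ^ k) v = 0) (h : T.top k v v ≠ 0) :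
    ∃ R E, Split T (fun _ : Fin 1 => (f1 F, k)) (fun _ => v) R E := by
  refine exists_split T _ (fun _ => ⟨monic_X_sub_C 1, irreducible_f1, hk⟩) _ (fun _ => (killed_iff T).1 hv)
    fun x hx => ?_
  refine faith T hk (fun _ => v) (fun _ => hv) (fun y hy => funext fun a => ?_) x hx
  have h1 := hy 0
  rw [Fin.sum_univ_one] at h1
  rw [Subsingleton.elim a 0]
  exact (mul_eq_zero.1 h1).resolve_right h

theorem single_range {v : Fin T.n → F} {R : Tw F o} {E : (Fin R.n → F) →ₗ[F] (Fin T.n → F)}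
    (h : Split T (fun _ : Fin 1 => (f1 F, k)) (fun _ => v) R E) (hk : 1 ≤ k) (hv : (T.Pi ^ k) v = 0)
    {s : Fin T.n → F} (hs : s ∈ LinearMap.range (orbitMap T.toTri fun _ : Fin 1 => v)) :
    ∃ a : F, ∀ y, T.top k s y = a * T.top k v y := by
  obtain ⟨w, rfl⟩ := hs
  induction w using Finsupp.induction_linear with
  | zero => exact ⟨0, fun y => by simp [Tw.top]⟩
  | add p q hp hq =>
    obtain ⟨a, ha⟩ := hp
    obtain ⟨b, hb⟩ := hq
    exact ⟨a + b, fun y => by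
      rw [add_mul, ← ha, ← hb, Tw.top, Tw.top, Tw.top, map_add, map_add, map_add, LinearMap.add_apply]⟩
  | single y d =>
    refine ⟨d, fun z => ?_⟩
    simp only [orbitMap, Finsupp.linearCombination_single, Tw.top, map_smul, LinearMap.smul_apply, smul_eq_mul]
    congr 2
    rw [← Module.End.mul_apply (T.Pi ^ _), ((commute_g_pi T).pow_pow _ _).eq.symm, Module.End.mul_apply]
    have hfix : T.g ((T.Pi ^ (k - 1)) v) = (T.Pi ^ (k - 1)) v :=
      pi_fix T (by rw [← Module.End.mul_apply, ← pow_succ', Nat.sub_add_cancel hk, hv])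
    have hfix' : ∀ i : ℕ, (T.g ^ i) ((T.Pi ^ (k - 1)) v) = (T.Pi ^ (k - 1)) v := fun i => by
      induction i with
      | zero => rfl
      | succ i ih => rw [pow_succ', Module.End.mul_apply, ih, hfix]
    exact congrArg T.B (hfix' y.2)

/-- `Crit` decides whether the rest keeps the flag. -/
theorem flag_rest_iff {v : Fin T.n → F} {R : Tw F o} {E : (Fin R.n → F) →ₗ[F] (Fin T.n → F)}
    (h : Split T (fun _ : Fin 1 => (f1 F, k)) (fun _ => v) R E) (hk : 1 ≤ k) (hke : Even k)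
    (hv : (T.Pi ^ k) v = 0) (hvv : T.top k v v ≠ 0) : R.Flag k ↔ T.Crit k v := by
  constructor
  · rintro ⟨-, z, hz, ht⟩
    refine ⟨E z, h.E_killed hz, ?_, by rwa [h.top_E]⟩
    rw [Tw.top, B_comm, h.orth (h.pi_range (h.mem_range 0) _)]
  · rintro ⟨y, hy, hvy, hyy⟩
    obtain ⟨s, hs, z, rfl⟩ := h.decomp y
    obtain ⟨hsk, hz⟩ := h.killed_parts hs hy
    obtain ⟨a, ha⟩ := single_range h hk hv hs
    refine ⟨hke, z, hz, ?_⟩
    have h1 : T.top k v (s + E z) = T.top k v s := by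
      rw [Tw.top, map_add, B_comm T _ (E z), h.orth (h.pi_range (h.mem_range 0) _), add_zero]; rfl
    rw [h1, top_comm T hk hsk, ha] at hvy
    have ha0 : a = 0 := (mul_eq_zero.1 hvy).resolve_right hvv
    rwa [h.top_add k hs, ha, ha0, zero_mul, zero_add] at hyy

theorem exists_crit {S : Multiset (F[X] × ℕ)} (hS : Labels T.g S) (hk : 1 ≤ k) (hke : Even k)
    (hmax : ∀ y ∈ S, y.1 = f1 F → y.2 ≤ k) (hcount : 2 ≤ S.count (f1 F, k)) {v : Fin T.n → F}
    (hv : (T.Pi ^ k) v = 0) (hvv : T.top k v v = 1) :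
    ∃ v', (T.Pi ^ k) v' = 0 ∧ T.top k v' v' = 1 ∧ T.Crit k v' := by
  obtain ⟨R, E, h⟩ := split_single hk hv (by rw [hvv]; exact one_ne_zero)
  by_cases hR : R.Flag k
  · exact ⟨v, hv, hvv, (flag_rest_iff h hk hke hv (by rw [hvv]; exact one_ne_zero)).1 hR⟩
  obtain ⟨SR, hSR, hsum⟩ := h.hl S hS
  have hzero : ∀ z, (R.Pi ^ k) z = 0 → R.top k z z = 0 := fun z hz => by
    by_contra hne
    exact hR ⟨hke, z, hz, hne⟩
  have hxR : (f1 F, k) ∈ SR := Multiset.count_pos.1 (by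
    have h3 := congrArg (Multiset.count (f1 F, k)) hsum
    simp only [Multiset.count_add, Fin.univ_val_map, List.ofFn_const, Multiset.coe_replicate,
      Multiset.count_replicate_self] at h3
    omega)
  obtain ⟨z, hz, hz1⟩ := exists_top_vec R hSR hxR
  obtain ⟨w, hw, hzw⟩ := exists_partner R hk hSR
    (fun y hy => hmax y (hsum ▸ Multiset.mem_add.2 (Or.inr hy))) hz hz1
  have hs := h.mem_range 0
  refine ⟨v + E z, by rw [map_add, hv, h.E_killed hz, add_zero],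
    by rw [h.top_add k hs, hvv, hzero z hz, add_zero],
    v + E w, by rw [map_add, hv, h.E_killed hw, add_zero], ?_, ?_⟩
  · rw [Tw.top]
    simp only [map_add, LinearMap.add_apply]
    rw [B_comm T ((T.Pi ^ (k - 1)) v) (E w), h.orth (h.pi_range hs _), ← h.E_pi, h.orth hs, h.hB,
      show T.B ((T.Pi ^ (k - 1)) v) v = 1 from hvv, show R.B ((R.Pi ^ (k - 1)) z) w = 1 from hzw, zero_add, add_zero,
      CharTwo.add_self_eq_zero]
  · rw [h.top_add k hs, hvv, hzero w hw, add_zero]; exact one_ne_zero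

theorem crit_of_top_eq {v v' : Fin T.n → F} (he : ∀ y, (T.Pi ^ k) y = 0 → T.top k v' y = T.top k v y)
    (h : T.Crit k v) : T.Crit k v' := by
  obtain ⟨y, hy, h1, h2⟩ := h
  exact ⟨y, hy, by rw [he y hy, h1], h2⟩

/-- Normal form of a flagged even exponent. -/
theorem exists_single {S : Multiset (F[X] × ℕ)} (hS : Labels T.g S) {j : ℕ} (hj : 1 ≤ j) (hk : k = 2 * j)
    (hmax : ∀ y ∈ S, y.1 = f1 F → y.2 ≤ k) (hFl : k ∈ flags T S) :
    ∃ v, (T.Pi ^ k) v = 0 ∧ T.Psi v j = 1 ∧ (∀ r, lo o ≤ r → r + 1 < j → T.Psi v r = 0) ∧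
      (lo o ≤ j - 1 → T.Psi v (j - 1) = 0 ∨ T.Psi v (j - 1) = tau F) ∧
      (2 ≤ S.count (f1 F, k) → T.Crit k v) ∧
      (¬ (Bit o S (flags T S) k ∧ S.count (f1 F, k) = 1) → lo o ≤ j - 1 → T.Psi v (j - 1) = 0) := by
  classical
  subst hk
  have hke : Even (2 * j) := even_two_mul j
  obtain ⟨hxS, -, y, hy, hyy⟩ := Finset.mem_filter.1 hFl
  rw [mem_exps] at hxS
  haveI := Fintype.ofFinite F
  obtain ⟨c, hc⟩ := FiniteField.isSquare_of_char_two (ringChar.eq F 2) (T.top (2 * j) y y)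
  have hc0 : c ≠ 0 := fun h0 => hyy (by rw [hc, h0, mul_zero])
  set v₀ := c⁻¹ • y with hv₀
  have hv₀k : (T.Pi ^ (2 * j)) v₀ = 0 := by rw [hv₀, map_smul, hy, smul_zero]
  have hv₀t : T.top (2 * j) v₀ v₀ = 1 := by
    rw [hv₀, Tw.top, map_smul, map_smul, map_smul, LinearMap.smul_apply, smul_eq_mul, smul_eq_mul,
      show T.B ((T.Pi ^ (2 * j - 1)) y) y = c * c from hc]
    field_simp
  obtain ⟨v₁, hv₁k, hv₁t, hv₁c⟩ : ∃ v, (T.Pi ^ (2 * j)) v = 0 ∧ T.top (2 * j) v v = 1 ∧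
      (2 ≤ S.count (f1 F, 2 * j) → T.Crit (2 * j) v) := by
    by_cases hcount : 2 ≤ S.count (f1 F, 2 * j)
    · obtain ⟨v, h1, h2, h3⟩ := exists_crit hS (by omega) hke hmax hcount hv₀k hv₀t
      exact ⟨v, h1, h2, fun _ => h3⟩
    · exact ⟨v₀, hv₀k, hv₀t, fun h => absurd h hcount⟩
  -- the level below the top
  obtain ⟨v₂, hv₂k, hv₂t, hv₂c, hv₂a, hv₂b⟩ : ∃ v, (T.Pi ^ (2 * j)) v = 0 ∧ T.top (2 * j) v v = 1 ∧
      (2 ≤ S.count (f1 F, 2 * j) → T.Crit (2 * j) v) ∧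
      (lo o ≤ j - 1 → T.Psi v (j - 1) = 0 ∨ T.Psi v (j - 1) = tau F) ∧
      (¬ (Bit o S (flags T S) (2 * j) ∧ S.count (f1 F, 2 * j) = 1) → lo o ≤ j - 1 → T.Psi v (j - 1) = 0) := by
    by_cases hlo : lo o ≤ j - 1
    swap
    · exact ⟨v₁, hv₁k, hv₁t, hv₁c, fun h => absurd h hlo, fun _ h => absurd h hlo⟩
    by_cases hbit : Bit o S (flags T S) (2 * j) ∧ S.count (f1 F, 2 * j) = 1
    · obtain ⟨t, ht⟩ := (tau_spec (F := F)).2 (T.Psi v₁ (j - 1))
      have hsh := psi_shift T (k := 2 * j) (r := j - 1) (s := j - 1) (by omega) le_rfl hlo hv₁k hv₁k t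
      rw [if_pos rfl, show 2 * j - 1 - (j - 1) = j by omega, psi_top T hj hv₁k, hv₁t, mul_one, mul_one,
        ← add_assoc] at hsh
      refine ⟨_, killed_shift T hv₁k hv₁k t _, ?_, fun h => absurd h (by omega), fun _ => hsh.symm ▸ ht,
        fun h => absurd hbit h⟩
      rw [← psi_top T hj (killed_shift T hv₁k hv₁k t _), psi_shift T (k := 2 * j) (r := j - 1) (s := j) (by omega)
        (by omega) hlo hv₁k hv₁k t, if_neg (by omega), add_zero, psi_top T hj hv₁k, hv₁t]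
    -- absorb
    obtain ⟨R, E, h⟩ := split_single (by omega) hv₁k (by rw [hv₁t]; exact one_ne_zero)
    obtain ⟨SR, hSR, hsum⟩ := h.hl S hS
    obtain ⟨z, hz, hzv⟩ : ∃ z, (R.Pi ^ (2 * j - 1)) z = 0 ∧ R.Psi z (j - 1) ≠ 0 := by
      have hcnt : S.count (f1 F, 2 * j) = 1 + SR.count (f1 F, 2 * j) := by
        rw [← hsum, Multiset.count_add]
        simp
      by_cases hcount : 2 ≤ S.count (f1 F, 2 * j)
      · obtain ⟨-, y, hy, hyy⟩ := (flag_rest_iff h (by omega) hke hv₁k (by rw [hv₁t]; exact one_ne_zero)).2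
          (hv₁c hcount)
        refine ⟨R.Pi y, ?_, ?_⟩
        · rw [← Module.End.mul_apply, ← pow_succ, Nat.sub_add_cancel (by omega), hy]
        · rwa [psi_pi R hlo, Nat.sub_add_cancel hj, psi_top R hj hy]
      have hone : S.count (f1 F, 2 * j) = 1 := by omega
      have habs : Act o S (flags T S) (2 * j - 1) ∨ Act o S (flags T S) (2 * j - 2) := by
        by_contra hno
        push Not at hno
        exact hbit ⟨⟨(act_even hke).2 hFl, le_trans hlo (by omega), hno.1, fun h => hno.2 h.2⟩, hone⟩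
      have hu : ∀ a : Fin 1, (fun _ : Fin 1 => (f1 F, 2 * j)) a = (f1 F, 2 * j) := fun _ => rfl
      have hM : ∀ y : Fin 1 → F, (∀ b : Fin 1, ∑ a, y a * T.top (2 * j) v₁ v₁ = 0) → y = 0 := fun y hy' =>
        funext fun a => by
          have h1 := hy' 0
          rw [Fin.sum_univ_one, hv₁t, mul_one] at h1
          rw [Subsingleton.elim a 0]; exact h1
      have hmemR : ∀ l, l ≠ 2 * j → ((f1 F, l) ∈ SR ↔ (f1 F, l) ∈ S) := fun l hl => by
        rw [← hsum, Multiset.mem_add]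
        refine ⟨Or.inr, fun h => h.resolve_left fun hm => ?_⟩
        obtain ⟨a, -, ha⟩ := Multiset.mem_map.1 hm
        exact hl (Prod.mk.inj ha).2.symm
      rcases habs with habs | habs
      · have hodd : ¬ Even (2 * j - 1) := Nat.not_even_iff_odd.2 ⟨j - 1, by omega⟩
        obtain ⟨-, hmem⟩ := (act_odd hodd).1 habs
        rw [show 2 * j - 1 = 2 * (j - 1) + 1 by omega] at hmem ⊢
        refine exists_layer_value R hlo hSR (fun y hy' he => ?_) ((hmemR _ (by omega)).2 hmem)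
        have h1 := hmax y (hsum ▸ Multiset.mem_add.2 (Or.inr hy')) he
        by_contra hgt
        have h2 : y = (f1 F, 2 * j) := Prod.ext he (by omega)
        have h3 := Multiset.count_pos.2 (h2 ▸ hy')
        omega
      · have heven : Even (2 * j - 2) := ⟨j - 1, by omega⟩
        obtain ⟨hmem, hflag⟩ := Finset.mem_filter.1 ((act_even heven).1 habs)
        obtain ⟨-, y, hy, hyy⟩ := (h.flag_iff_ne (by omega) hu hM (by omega)).1 hflag
        refine ⟨y, pi_pow_zero_of_le R hy (by omega), ?_⟩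
        rcases Nat.lt_or_ge 1 j with hj2 | hj2
        · rw [show 2 * j - 2 = 2 * (j - 1) by omega] at hy hyy
          rwa [psi_top R (by omega) hy]
        · rw [show 2 * j - 2 = 0 by omega, pow_zero, Module.End.one_apply] at hy
          rw [hy, Tw.top, map_zero] at hyy
          exact absurd rfl hyy
    obtain ⟨a, ha⟩ := FiniteField.isSquare_of_char_two (ringChar.eq F 2) (T.Psi v₁ (j - 1) / R.Psi z (j - 1))
    have hEz : (T.Pi ^ (2 * j - 1)) (E z) = 0 := h.E_killed hz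
    have hkz : (T.Pi ^ (2 * j)) (E z) = 0 := pi_pow_zero_of_le T hEz (by omega)
    have hk2 : (T.Pi ^ (2 * j)) (v₁ + a • E z) = 0 := by rw [map_add, map_smul, hkz, smul_zero, hv₁k, add_zero]
    have htop : ∀ y, T.top (2 * j) (v₁ + a • E z) y = T.top (2 * j) v₁ y := fun y => by
      rw [Tw.top, map_add, map_smul, hEz, smul_zero, add_zero]; rfl
    have hzero : T.Psi (v₁ + a • E z) (j - 1) = 0 := by
      rw [h.psi_add_E hlo 0, ← ha, div_mul_cancel₀ _ hzv]
      exact CharTwo.add_self_eq_zero _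
    refine ⟨v₁ + a • E z, hk2, ?_, fun hc => crit_of_top_eq (fun y _ => htop y) (hv₁c hc), fun _ => Or.inl hzero,
      fun _ _ => hzero⟩
    rw [← psi_top T hj hk2, h.psi_add_E (hlo.trans (by omega)) 0, psi_eq_zero R hz (r := j) (by omega), mul_zero,
      add_zero, psi_top T hj hv₁k, hv₁t]
  -- the lower levels
  obtain ⟨v, ⟨hvk, hvt, hvc⟩, hlow, hhigh⟩ := exists_clear
    (fun v => (T.Pi ^ (2 * j)) v = 0 ∧ T.top (2 * j) v v = 1 ∧ ∀ y, T.top (2 * j) v y = T.top (2 * j) v₂ y)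
    T.Psi (lo o) (j - 1) (fun x hx r hlr hr c => by
      obtain ⟨hxk, hxt, hxy⟩ := hx
      set t := c - T.Psi x r with ht
      have hk' := killed_shift T hxk hxk t (2 * j - 1 - 2 * r)
      refine ⟨_, ⟨hk', ?_, fun y => ?_⟩, ?_, fun s hs => ?_⟩
      · rw [← psi_top T hj hk', psi_shift T (by omega) (by omega) hlr hxk hxk t, if_neg (by omega), add_zero,
          psi_top T hj hxk, hxt]
      · rw [← hxy y, top_shift T hxk t (by omega)]
      · rw [psi_shift T (by omega) le_rfl hlr hxk hxk t, if_pos rfl, hxt, psi_quad_zero T (by omega) hxk, ht]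
        ring
      · rw [psi_shift T (by omega) hs.le hlr hxk hxk t, if_neg (by omega), add_zero])
    (x := v₂) ⟨hv₂k, hv₂t, fun _ => rfl⟩
  refine ⟨v, hvk, by rw [psi_top T hj hvk, hvt], fun r hr1 hr2 => hlow r hr1 (by omega),
    fun h => by rw [hhigh (j - 1) le_rfl]; exact hv₂a h,
    fun hc => crit_of_top_eq (fun y _ => hvc y) (hv₂c hc),
    fun h1 h2 => by rw [hhigh (j - 1) le_rfl]; exact hv₂b h1 h2⟩

/-- Two isotropic-up-to-the-top vectors with prescribed pairing. -/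
theorem exists_pair_lower {S : Multiset (F[X] × ℕ)} (hS : Labels T.g S) (hmax : ∀ y ∈ S, y.1 = f1 F → y.2 ≤ k)
    (hk : 1 ≤ k) {φ : AdjoinRoot (f1 F ^ k) →ₗ[F] F} (hφ : φ (AdjoinRoot.mk _ (f1 F ^ (k - 1))) = 1)
    (hzero : ∀ x, (T.Pi ^ k) x = 0 → T.top k x x = 0) {v₀ : Fin T.n → F} (hv₀ : (T.Pi ^ k) v₀ = 0)
    (hv₁ : (T.Pi ^ (k - 1)) v₀ ≠ 0) :
    ∃ v w₀, (T.Pi ^ k) v = 0 ∧ (∀ r, lo o ≤ r → r < k / 2 → T.Psi v r = 0) ∧
      (∀ r, k / 2 ≤ r → T.Psi v r = T.Psi v₀ r) ∧ (T.Pi ^ k) w₀ = 0 ∧ (∀ a, T.B (T.e k v a) w₀ = φ a) := by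
  obtain ⟨w, hw, hvw⟩ := exists_partner T hk hS hmax hv₀ hv₁
  have hquad : ∀ (x : Fin T.n → F) r, (T.Pi ^ k) x = 0 → r < k / 2 → T.Psi x (k - 1 - r) = 0 := fun x r hx hr => by
    rcases Nat.lt_or_ge (2 * r + 2) k with h | h
    · exact psi_quad_zero T h hx
    · have h2 : k = 2 * (k - 1 - r) := by omega
      rw [h2] at hx
      rw [psi_top T (by omega) hx, ← h2, hzero x (h2 ▸ hx)]
  obtain ⟨v, ⟨hv, hvw'⟩, hlow, hhigh⟩ := exists_clear
    (fun v => (T.Pi ^ k) v = 0 ∧ T.top k v w = 1) T.Psi (lo o) (k / 2) (fun x hx r hlr hr c => by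
      obtain ⟨hxk, hxw⟩ := hx
      set t := c - T.Psi x r with ht
      refine ⟨x + t • (T.Pi ^ (k - 1 - 2 * r)) w, ⟨?_, ?_⟩, ?_, fun s hs => ?_⟩
      · rw [map_add, map_smul, ← Module.End.mul_apply, ← pow_add, pi_pow_zero_of_le T hw (by omega), smul_zero, hxk,
          add_zero]
      · have h2 : T.top k ((T.Pi ^ (k - 1 - 2 * r)) w) w = 0 := by
          rcases Nat.eq_zero_or_pos (k - 1 - 2 * r) with h | h
          · rw [h, pow_zero, Module.End.one_apply, hzero w hw]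
          · rw [Tw.top, ← Module.End.mul_apply, ← pow_add, pi_pow_zero_of_le T hw (by omega), map_zero,
              LinearMap.zero_apply]
        rw [Tw.top, map_add, map_smul, map_add, map_smul, LinearMap.add_apply, LinearMap.smul_apply]
        rw [Tw.top] at h2 hxw
        rw [h2, hxw, smul_zero, add_zero]
      · rw [psi_shift T (by omega) le_rfl hlr hxk hw t, if_pos rfl, hxw, hquad w r hw hr, ht]; ring
      · rw [psi_shift T (by omega) hs.le hlr hxk hw t, if_neg (by omega), add_zero])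
    (x := v₀) ⟨hv₀, hvw⟩
  obtain ⟨w₀, hw₀, hvw₀⟩ := exists_pairing_f1 T hS hmax hv (pi_top_ne T (by rw [hvw']; exact one_ne_zero)) φ
  exact ⟨v, w₀, hv, hlow, hhigh, hw₀, hvw₀⟩

theorem clear_partner (hk : 1 ≤ k) {φ : AdjoinRoot (f1 F ^ k) →ₗ[F] F}
    (hφ : φ (AdjoinRoot.mk _ (f1 F ^ (k - 1))) = 1) (hzero : ∀ x, (T.Pi ^ k) x = 0 → T.top k x x = 0)
    {v : Fin T.n → F} (hv : (T.Pi ^ k) v = 0) {w₀ : Fin T.n → F} (hw₀ : (T.Pi ^ k) w₀ = 0)
    (hvw₀ : ∀ a, T.B (T.e k v a) w₀ = φ a) :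
    ∃ w, (T.Pi ^ k) w = 0 ∧ (∀ a, T.B (T.e k v a) w = φ a) ∧ (∀ r, lo o ≤ r → r < k / 2 → T.Psi w r = 0) ∧
      ∀ r, k / 2 ≤ r → T.Psi w r = T.Psi w₀ r := by
  obtain ⟨w, ⟨hw, hvw⟩, hlow, hhigh⟩ := exists_clear
    (fun w => (T.Pi ^ k) w = 0 ∧ ∀ a, T.B (T.e k v a) w = φ a) T.Psi (lo o) (k / 2) (fun x hx r hlr hr c => by
      obtain ⟨hxk, hxv⟩ := hx
      obtain ⟨x', h1, h2, h3⟩ := adjust T hk hφ hv (hzero v hv) hxk hxv hlr (by omega) (c - T.Psi x r)
      refine ⟨x', ⟨h1, h2⟩, ?_, fun s hs => by rw [h3 s hs.le, if_neg (by omega), add_zero]⟩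
      have hquad : T.Psi v (k - 1 - r) = 0 := by
        rcases Nat.lt_or_ge (2 * r + 2) k with h | h
        · exact psi_quad_zero T h hv
        · have h2 : k = 2 * (k - 1 - r) := by omega
          have hv' : (T.Pi ^ (2 * (k - 1 - r))) v = 0 := by rw [← h2]; exact hv
          rw [psi_top T (by omega) hv', ← h2, hzero v hv]
      rw [h3 r le_rfl, if_pos rfl, hquad]
      ring)
    (x := w₀) ⟨hw₀, hvw₀⟩
  exact ⟨w, hw, hvw, hlow, hhigh⟩

/-- Three-dimensional layers are isotropic. -/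
theorem exists_isotropic {i : ℕ} (hlo : lo o ≤ i) {S : Multiset (F[X] × ℕ)} (hS : Labels T.g S)
    (hx : (f1 F, 2 * i + 1) ∈ S) (hcount : 3 ≤ S.count (f1 F, 2 * i + 1)) :
    ∃ v, (T.Pi ^ (2 * i + 1)) v = 0 ∧ (T.Pi ^ (2 * i)) v ≠ 0 ∧ T.Psi v i = 0 := by
  classical
  obtain ⟨v, hv, hv1⟩ := exists_top_vec T hS hx
  rw [Nat.add_sub_cancel] at hv1
  by_cases hA : T.Psi v i = 0
  · exact ⟨v, hv, hv1, hA⟩
  set K := LinearMap.ker (T.Pi ^ (2 * i + 1)) with hK
  set K' := LinearMap.ker (T.Pi ^ (2 * i)) with hK'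
  have hdim : finrank F K' + 3 ≤ finrank F K := by
    rw [hK, hK', pi_eq_aeval, ← map_pow, ← map_pow, finrank_ker_of_labels hS (monic_X_sub_C 1) irreducible_f1,
      finrank_ker_of_labels hS (monic_X_sub_C 1) irreducible_f1]
    refine le_trans (Nat.add_le_add_left hcount _) ?_
    clear hx hcount hS
    induction S using Multiset.induction with
    | empty => simp
    | cons y S ih =>
      simp only [Multiset.map_cons, Multiset.sum_cons, Multiset.count_cons, natDegree_X_sub_C, mul_one] at ih ⊢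
      by_cases hy : y = (f1 F, 2 * i + 1)
      · subst hy
        simp only [if_true]
        omega
      · rw [if_neg (Ne.symm hy)]
        split_ifs with h1
        · omega
        · omega
  let φ : K →ₗ[F] F := (T.B ((T.Pi ^ (2 * i)) v)).comp K.subtype
  set W := (LinearMap.ker φ).map K.subtype with hW
  have hWdim : finrank F K ≤ finrank F W + 1 := by
    rw [hW, (Submodule.equivMapOfInjective _ K.injective_subtype _).symm.finrank_eq,
      ← LinearMap.finrank_range_add_finrank_ker φ, add_comm]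
    exact Nat.add_le_add_left ((Submodule.finrank_le _).trans_eq (Module.finrank_self F)) _
  have hsup : finrank F ↥(Submodule.span F {v} ⊔ K') ≤ finrank F K' + 1 := by
    refine (Submodule.finrank_add_le_finrank_add_finrank _ _).trans ?_
    rw [add_comm]
    exact Nat.add_le_add_left ((finrank_span_le_card ({v} : Set _)).trans (by simp)) _
  have hnle : ¬ W ≤ Submodule.span F {v} ⊔ K' := fun hle => by
    have := Submodule.finrank_mono hle
    omega
  obtain ⟨w, hwW, hwn⟩ := SetLike.not_le_iff_exists.1 hnle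
  obtain ⟨⟨w, hwK⟩, hwker, rfl⟩ := hwW
  have hvw : T.B ((T.Pi ^ (2 * i)) v) w = 0 := hwker
  haveI := Fintype.ofFinite F
  obtain ⟨b, hb⟩ := FiniteField.isSquare_of_char_two (ringChar.eq F 2) (T.Psi w i / T.Psi v i)
  refine ⟨b • v + w, by rw [map_add, map_smul, hv, LinearMap.mem_ker.1 hwK, smul_zero, add_zero], fun h0 => ?_, ?_⟩
  · refine hwn ?_
    have h2 := Submodule.add_mem_sup (T := K') (neg_mem (Submodule.smul_mem (Submodule.span F {v}) b
      (Submodule.mem_span_singleton_self v))) (LinearMap.mem_ker.2 h0)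
    rwa [neg_add_cancel_left] at h2
  · rw [psi_add T hlo, psi_smul, ← hb, div_mul_cancel₀ _ hA, map_smul, map_smul, LinearMap.smul_apply]
    have h1 := (cross T (r := i) (e := 0) hv w).2 (by omega)
    rw [pow_zero, Module.End.one_apply] at h1
    rw [h1, Tw.top, Nat.add_sub_cancel, hvw, smul_zero, add_zero, CharTwo.add_self_eq_zero]

/-- Normal form of a pair. -/
theorem exists_pair {S : Multiset (F[X] × ℕ)} (hS : Labels T.g S) (hmax : ∀ y ∈ S, y.1 = f1 F → y.2 ≤ k)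
    (hk : 1 ≤ k) (hx : (f1 F, k) ∈ S) (hFl : Even k → k ∉ flags T S) {φ : AdjoinRoot (f1 F ^ k) →ₗ[F] F}
    (hφ : φ (AdjoinRoot.mk _ (f1 F ^ (k - 1))) = 1) :
    ∃ v w, (T.Pi ^ k) v = 0 ∧ (T.Pi ^ k) w = 0 ∧ (∀ a, T.B (T.e k v a) w = φ a) ∧
      T.top k v v = 0 ∧ T.top k w w = 0 ∧
      (∀ r, lo o ≤ r → r < k / 2 → T.Psi v r = 0 ∧ T.Psi w r = 0) ∧
      (lo o ≤ k / 2 → (T.Psi v (k / 2) = 0 ∧ T.Psi w (k / 2) = 0) ∨
        (T.Psi v (k / 2) = 1 ∧ T.Psi w (k / 2) = tau F ∧ Bit o S (flags T S) k ∧ S.count (f1 F, k) ≤ 2)) := by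
  classical
  have hzero : ∀ x, (T.Pi ^ k) x = 0 → T.top k x x = 0 := fun x hxk => by
    rcases Nat.even_or_odd k with he | ⟨i, rfl⟩
    · by_contra hne
      exact hFl he (Finset.mem_filter.2 ⟨mem_exps.2 hx, he, x, hxk, hne⟩)
    · exact top_odd T hxk
  have finish : ∀ v₀, (T.Pi ^ k) v₀ = 0 → (T.Pi ^ (k - 1)) v₀ ≠ 0 →
      (lo o ≤ k / 2 → T.Psi v₀ (k / 2) = 0) →
      ∃ v w, (T.Pi ^ k) v = 0 ∧ (T.Pi ^ k) w = 0 ∧ (∀ a, T.B (T.e k v a) w = φ a) ∧
        T.top k v v = 0 ∧ T.top k w w = 0 ∧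
        (∀ r, lo o ≤ r → r < k / 2 → T.Psi v r = 0 ∧ T.Psi w r = 0) ∧
        (lo o ≤ k / 2 → T.Psi v (k / 2) = 0 ∧ T.Psi w (k / 2) = 0) := by
    intro v₀ hv₀ hv₁ hv₂
    obtain ⟨v, w₀, hv, hlow, hhigh, hw₀, hvw₀⟩ := exists_pair_lower hS hmax hk hφ hzero hv₀ hv₁
    obtain ⟨w₁, hw₁, hvw₁, hw₁t⟩ : ∃ w, (T.Pi ^ k) w = 0 ∧ (∀ a, T.B (T.e k v a) w = φ a) ∧
        (lo o ≤ k / 2 → T.Psi w (k / 2) = 0) := by
      by_cases hl : lo o ≤ k / 2 ∧ 2 * (k / 2) < k
      · obtain ⟨x', h1, h2, h3⟩ := adjust T hk hφ hv (hzero v hv) hw₀ hvw₀ hl.1 hl.2 (T.Psi w₀ (k / 2))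
        refine ⟨x', h1, h2, fun _ => ?_⟩
        rw [h3 _ le_rfl, if_pos rfl, show k - 1 - k / 2 = k / 2 by omega, hhigh _ le_rfl, hv₂ hl.1]
        linear_combination (T.Psi w₀ (k / 2)) * CharTwo.two_eq_zero (R := F)
      · refine ⟨w₀, hw₀, hvw₀, fun h => ?_⟩
        have h2 : k = 2 * (k / 2) := by omega
        have hw₀' : (T.Pi ^ (2 * (k / 2))) w₀ = 0 := by rw [← h2]; exact hw₀
        rw [psi_top T (by omega) hw₀', ← h2, hzero w₀ hw₀]
    obtain ⟨w, hw, hvw, hwlow, hwhigh⟩ := clear_partner hk hφ hzero hv hw₁ hvw₁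
    exact ⟨v, w, hv, hw, hvw, hzero v hv, hzero w hw, fun r h1 h2 => ⟨hlow r h1 h2, hwlow r h1 h2⟩,
      fun h => ⟨by rw [hhigh _ le_rfl]; exact hv₂ h, by rw [hwhigh _ le_rfl]; exact hw₁t h⟩⟩
  by_cases hiso : ∃ v, (T.Pi ^ k) v = 0 ∧ (T.Pi ^ (k - 1)) v ≠ 0 ∧ (lo o ≤ k / 2 → T.Psi v (k / 2) = 0)
  · obtain ⟨v₀, h1, h2, h3⟩ := hiso
    obtain ⟨v, w, a, b, c, d, e, f, g⟩ := finish v₀ h1 h2 h3
    exact ⟨v, w, a, b, c, d, e, f, fun h => Or.inl (g h)⟩
  push Not at hiso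
  obtain ⟨v₀, hv₀, hv₁⟩ := exists_top_vec T hS hx
  obtain ⟨hlo, hne⟩ := hiso v₀ hv₀ hv₁
  have hodd : ¬ Even k := fun he => hne (by
    obtain ⟨i, hi⟩ := he
    have h2 : k = 2 * (k / 2) := by omega
    have hv₀' : (T.Pi ^ (2 * (k / 2))) v₀ = 0 := by rw [← h2]; exact hv₀
    rw [psi_top T (by omega) hv₀', ← h2, hzero v₀ hv₀])
  obtain ⟨i, rfl⟩ := Nat.not_even_iff_odd.1 hodd
  rw [show (2 * i + 1) / 2 = i by omega] at *
  -- no absorption
  have hcount : S.count (f1 F, 2 * i + 1) ≤ 2 := by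
    by_contra hgt
    obtain ⟨v, h1, h2, h3⟩ := exists_isotropic hlo hS hx (by omega)
    exact (hiso v h1 (by rwa [Nat.add_sub_cancel])).2 h3
  have hbit : Bit o S (flags T S) (2 * i + 1) := by
    refine ⟨(act_odd hodd).2 ⟨by rw [show (2 * i + 1) / 2 = i by omega]; exact hlo, hx⟩, by
      rw [show (2 * i + 1 - 1) / 2 = i by omega]; exact hlo, fun habs => ?_, fun h => hodd h.1⟩
    rw [Nat.add_sub_cancel] at habs
    obtain ⟨hmem, -, z, hz, hzz⟩ := Finset.mem_filter.1 ((act_even (even_two_mul i)).1 habs)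
    have hi : 1 ≤ i := by
      by_contra h0
      obtain rfl : i = 0 := by omega
      exact hzz (by rw [show z = 0 from hz, Tw.top, map_zero])
    rw [← psi_top T hi hz] at hzz
    haveI := Fintype.ofFinite F
    obtain ⟨a, ha⟩ := FiniteField.isSquare_of_char_two (ringChar.eq F 2) (T.Psi v₀ i / T.Psi z i)
    refine (hiso (v₀ + a • z) ?_ ?_).2 ?_
    · rw [map_add, map_smul, hv₀, pi_pow_zero_of_le T hz (show 2 * i ≤ 2 * i + 1 by omega), smul_zero, add_zero]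
    · rw [Nat.add_sub_cancel, map_add, map_smul, hz, smul_zero, add_zero]
      exact hv₁
    · rw [psi_add T hlo, psi_smul, ← ha, div_mul_cancel₀ _ hzz, map_smul, B_sop_pow_left, sop_pow_eq,
        Module.End.mul_apply, hz, map_zero, map_zero, smul_zero, add_zero, CharTwo.add_self_eq_zero]
  haveI := Fintype.ofFinite F
  obtain ⟨a, ha⟩ := FiniteField.isSquare_of_char_two (ringChar.eq F 2) (T.Psi v₀ i)
  have ha0 : a ≠ 0 := fun h0 => hne (by rw [ha, h0, mul_zero])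
  have hv₀' : (T.Pi ^ (2 * i + 1)) (a⁻¹ • v₀) = 0 := by rw [map_smul, hv₀, smul_zero]
  have hv₁' : (T.Pi ^ (2 * i + 1 - 1)) (a⁻¹ • v₀) ≠ 0 := by
    rw [map_smul]
    exact smul_ne_zero (inv_ne_zero ha0) hv₁
  obtain ⟨v, w₀, hv, hlow, hhigh, hw₀, hvw₀⟩ := exists_pair_lower hS hmax hk hφ hzero hv₀' hv₁'
  have hhalf : (2 * i + 1) / 2 = i := by omega
  rw [hhalf] at hlow hhigh
  have hvi : T.Psi v i = 1 := by
    rw [hhigh i le_rfl, psi_smul, ha]
    field_simp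
  obtain ⟨t, ht⟩ := (tau_spec (F := F)).2 (T.Psi w₀ i)
  obtain ⟨w₁, hw₁, hvw₁, hw₁'⟩ := adjust T hk hφ hv (hzero v hv) hw₀ hvw₀ hlo (by omega) t
  have hw₁i : T.Psi w₁ i = T.Psi w₀ i + t + t * t := by
    rw [hw₁' i le_rfl, if_pos rfl, show 2 * i + 1 - 1 - i = i by omega, hvi, mul_one, add_assoc]
  have htau : T.Psi w₁ i = tau F := by
    rw [hw₁i]
    refine ht.resolve_left fun h0 => (hiso w₁ hw₁ ?_).2 (hw₁i.trans h0)
    intro hz
    have h1 : T.top (2 * i + 1) v w₁ = 1 := by rw [top_eq T hv, hvw₁, hφ]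
    rw [top_comm T hk hw₁, Tw.top, hz, map_zero, LinearMap.zero_apply] at h1
    exact zero_ne_one h1
  obtain ⟨w, hw, hvw, hwlow, hwhigh⟩ := clear_partner hk hφ hzero hv hw₁ hvw₁
  rw [hhalf] at hwlow hwhigh
  exact ⟨v, w, hv, hw, hvw, hzero v hv, hzero w hw, fun r h1 h2 => ⟨hlow r h1 h2, hwlow r h1 h2⟩,
    fun _ => Or.inr ⟨hvi, by rw [hwhigh i le_rfl]; exact htau, hbit, hcount⟩⟩

end Cfsg.Agent.Classical.IsometryTwo
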