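import Mathlib

/-!
Numbers of subspaces and of flags `U ≤ W` of a finite vector space.
-/

set_option autoImplicit false

namespace Cfsg.Agent.SubspaceCount

open Module

universe u v

/-- `(q - 1) (q ^ 2 - 1) ⋯ (q ^ x - 1)` -/
def qfact (q x : ℕ) : ℕ := ∏ j ∈ Finset.range x, (q ^ (j + 1) - 1)

theorem qfact_pos {q : ℕ} (hq : 2 ≤ q) (x : ℕ) : 0 < qfact q x := by
  refine Finset.prod_pos fun j _ => ?_
  have : q ≤ q ^ (j + 1) := Nat.le_self_pow (by omega) q
  omega

theorem prod_frames (q M : ℕ) : ∀ k : ℕ,
    (∏ i ∈ Finset.range k, (q ^ (M + k) - q ^ i)) * qfact q M =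
      q ^ (∑ i ∈ Finset.range k, i) * qfact q (M + k) := by
  intro k
  induction k with
  | zero => simp
  | succ k ih =>
    rw [Finset.prod_range_succ', Finset.sum_range_succ, pow_zero,
      show qfact q (M + (k + 1)) = qfact q (M + k) * (q ^ (M + k + 1) - 1) from Finset.prod_range_succ _ _]
    have h : ∀ i, q ^ (M + (k + 1)) - q ^ (i + 1) = q * (q ^ (M + k) - q ^ i) := by
      intro i
      rw [Nat.mul_sub, ← pow_succ', ← pow_succ', ← add_assoc]
    simp only [h, Finset.prod_mul_distrib, Finset.prod_const, Finset.card_range]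
    calc q ^ k * (∏ i ∈ Finset.range k, (q ^ (M + k) - q ^ i)) * (q ^ (M + (k + 1)) - 1) * qfact q M
        = q ^ k * (q ^ (M + (k + 1)) - 1) * ((∏ i ∈ Finset.range k, (q ^ (M + k) - q ^ i)) * qfact q M) := by ring
      _ = _ := by rw [ih, ← add_assoc, pow_add q (∑ i ∈ Finset.range k, i) k]; ring

variable {F : Type u} [Field F] [Fintype F] {V : Type v} [AddCommGroup V] [Module F V] [Finite V]

theorem card_frames {k : ℕ} (hk : k ≤ finrank F V) :
    Nat.card {s : Fin k → V // LinearIndependent F s} =
      ∏ i ∈ Finset.range k, (Fintype.card F ^ finrank F V - Fintype.card F ^ i) := by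
  haveI : FiniteDimensional F V := Module.Finite.of_finite
  rw [card_linearIndependent hk, Finset.prod_range (fun i => Fintype.card F ^ finrank F V - Fintype.card F ^ i)]

theorem card_subspaces {M k : ℕ} (hV : finrank F V = M + k) :
    Nat.card {W : Submodule F V // finrank F W = k} * qfact (Fintype.card F) k * qfact (Fintype.card F) M =
      qfact (Fintype.card F) (M + k) := by
  classical
  haveI : FiniteDimensional F V := Module.Finite.of_finite
  haveI : Finite (Submodule F V) := Finite.of_injective SetLike.coe SetLike.coe_injective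
  haveI := Fintype.ofFinite {W : Submodule F V // finrank F W = k}
  set q := Fintype.card F with hq
  have hq2 : 2 ≤ q := Fintype.one_lt_card
  have hmem : ∀ (s : {s : Fin k → V // LinearIndependent F s}) (i : Fin k),
      s.1 i ∈ Submodule.span F (Set.range s.1) := fun s i => Submodule.subset_span ⟨i, rfl⟩
  let φ : (Σ W : {W : Submodule F V // finrank F W = k}, {s : Fin k → W.1 // LinearIndependent F s}) →
      {s : Fin k → V // LinearIndependent F s} := fun x =>
    ⟨fun i => (x.2.1 i : V), x.2.2.map' x.1.1.subtype (Submodule.ker_subtype _)⟩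
  have hspan : ∀ x, Submodule.span F (Set.range (φ x).1) = x.1.1 := fun x => by
    refine Submodule.eq_of_le_of_finrank_eq (Submodule.span_le.2 ?_) ?_
    · rintro _ ⟨i, rfl⟩; exact (x.2.1 i).2
    · rw [finrank_span_eq_card (φ x).2, Fintype.card_fin, x.1.2]
  have hbij : Function.Bijective φ := by
    refine ⟨fun x y h => ?_, fun s => ⟨⟨⟨Submodule.span F (Set.range s.1), by
        rw [finrank_span_eq_card s.2, Fintype.card_fin]⟩, ⟨fun i => ⟨s.1 i, hmem s i⟩,
          LinearIndependent.of_comp (Submodule.span F (Set.range s.1)).subtype s.2⟩⟩, rfl⟩⟩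
    have hW : x.1 = y.1 := Subtype.ext (by rw [← hspan x, ← hspan y, h])
    obtain ⟨W, s⟩ := x
    obtain ⟨W', s'⟩ := y
    cases hW
    refine congrArg (Sigma.mk W) (Subtype.ext (funext fun i => Subtype.ext ?_))
    exact congrFun (congrArg Subtype.val h) i
  let E := (Equiv.ofBijective φ hbij).symm
  have hcard : ∏ i ∈ Finset.range k, (q ^ (M + k) - q ^ i) =
      Nat.card {W : Submodule F V // finrank F W = k} * ∏ i ∈ Finset.range k, (q ^ k - q ^ i) := by
    have h := Nat.card_congr E
    rw [card_frames (by omega), hV, Nat.card_sigma] at h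
    rw [← hq] at h
    rw [h, Finset.sum_congr rfl (g := fun _ => ∏ i ∈ Finset.range k, (q ^ k - q ^ i)) (fun W _ => by
      haveI : Finite W.1 := Subtype.finite
      rw [card_frames W.2.ge, W.2, hq])]
    rw [Finset.sum_const, Finset.card_univ, Nat.card_eq_fintype_card, smul_eq_mul]
  have h1 := prod_frames q M k
  have h2 := prod_frames q 0 k
  rw [hcard] at h1
  simp only [zero_add, show qfact q 0 = 1 from rfl, mul_one] at h2
  rw [h2] at h1
  have hpos : 0 < q ^ (∑ i ∈ Finset.range k, i) := Nat.pow_pos (by omega)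
  refine Nat.eq_of_mul_eq_mul_left hpos ?_
  rw [← h1]; ring

theorem card_flags {m j : ℕ} (hV : finrank F V = 2 * m + j) :
    Nat.card {P : Submodule F V × Submodule F V // P.1 ≤ P.2 ∧ finrank F P.1 = m ∧ finrank F P.2 = m + j} *
      (qfact (Fintype.card F) m * qfact (Fintype.card F) m * qfact (Fintype.card F) j) =
      qfact (Fintype.card F) (2 * m + j) := by
  classical
  haveI : FiniteDimensional F V := Module.Finite.of_finite
  haveI : Finite (Submodule F V) := Finite.of_injective SetLike.coe SetLike.coe_injective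
  haveI := Fintype.ofFinite {U : Submodule F V // finrank F U = m}
  set q := Fintype.card F with hq
  have hdim : ∀ (U : Submodule F V), finrank F (V ⧸ U) + finrank F U = 2 * m + j := fun U => by
    rw [Submodule.finrank_quotient_add_finrank, hV]
  have hcomap : ∀ (U : Submodule F V) (W : Submodule F (V ⧸ U)),
      finrank F (W.comap U.mkQ) = finrank F U + finrank F W := by
    intro U W
    let f : (W.comap U.mkQ) →ₗ[F] W := U.mkQ.restrict (fun x hx => hx)
    have hsurj : Function.Surjective f := by
      rintro ⟨y, hy⟩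
      obtain ⟨x, rfl⟩ := U.mkQ_surjective y
      exact ⟨⟨x, hy⟩, rfl⟩
    rw [← f.finrank_range_add_finrank_ker, LinearMap.range_eq_top.2 hsurj, finrank_top, add_comm]
    congr 1
    have hle : U ≤ W.comap U.mkQ := fun x hx => by
      rw [Submodule.mem_comap, show U.mkQ x = 0 from (Submodule.Quotient.mk_eq_zero _).2 hx]
      exact W.zero_mem
    have hker : LinearMap.ker f = U.comap (W.comap U.mkQ).subtype := by
      ext x
      rw [LinearMap.mem_ker, Submodule.mem_comap, ← (Submodule.Quotient.mk_eq_zero U), Subtype.ext_iff]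
      rfl
    rw [hker, LinearEquiv.finrank_eq (Submodule.comapSubtypeEquivOfLe hle)]
  let E : {P : Submodule F V × Submodule F V // P.1 ≤ P.2 ∧ finrank F P.1 = m ∧ finrank F P.2 = m + j} ≃
      Σ U : {U : Submodule F V // finrank F U = m}, {W : Submodule F (V ⧸ U.1) // finrank F W = j} :=
    { toFun := fun P => ⟨⟨P.1.1, P.2.2.1⟩, ⟨P.1.2.map P.1.1.mkQ, by
          have h := hcomap P.1.1 (P.1.2.map P.1.1.mkQ)
          rw [Submodule.comap_map_mkQ, sup_eq_right.2 P.2.1, P.2.2.1, P.2.2.2] at h
          exact (Nat.add_left_cancel h).symm⟩⟩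
      invFun := fun x => ⟨(x.1.1, x.2.1.comap x.1.1.mkQ), Submodule.le_comap_mkQ _ _, x.1.2, by
        rw [hcomap, x.1.2, x.2.2]⟩
      left_inv := fun P => by
        refine Subtype.ext (Prod.ext rfl ?_)
        show (P.1.2.map P.1.1.mkQ).comap P.1.1.mkQ = P.1.2
        rw [Submodule.comap_map_mkQ, sup_eq_right.2 P.2.1]
      right_inv := by
        rintro ⟨⟨U, hU⟩, ⟨W, hW⟩⟩
        refine Sigma.ext rfl (heq_of_eq (Subtype.ext ?_))
        exact Submodule.map_comap_eq_of_surjective U.mkQ_surjective W }
  haveI : ∀ U : Submodule F V, Finite (V ⧸ U) := fun U => Finite.of_surjective _ U.mkQ_surjective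
  haveI : ∀ U : Submodule F V, Finite (Submodule F (V ⧸ U)) := fun U =>
    Finite.of_injective SetLike.coe SetLike.coe_injective
  rw [Nat.card_congr E, Nat.card_sigma, Finset.sum_mul]
  have hterm : ∀ U : {U : Submodule F V // finrank F U = m},
      Nat.card {W : Submodule F (V ⧸ U.1) // finrank F W = j} * (qfact q m * qfact q m * qfact q j) =
        qfact q m * qfact q (m + j) := by
    intro U
    have := card_subspaces (F := F) (V := V ⧸ U.1) (M := m) (k := j) (by
      have := hdim U.1; rw [U.2] at this; omega)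
    rw [← hq] at this
    rw [← this]; ring
  rw [Finset.sum_congr rfl fun U _ => hterm U, Finset.sum_const, Finset.card_univ, smul_eq_mul,
    ← Nat.card_eq_fintype_card]
  have := card_subspaces (F := F) (V := V) (M := m + j) (k := m) (by rw [hV]; omega)
  rw [← hq, show m + j + m = 2 * m + j by omega] at this
  rw [← this]; ring

/-- a prime dividing a quotient of the factorials -/
theorem exists_exponent {q r M N A : ℕ} (hq : 2 ≤ q) (hr : r.Prime) (hMN : M ≤ N) (hA : r ∣ A)
    (h : A * qfact q M ∣ qfact q N) : ∃ j, M < j ∧ j ≤ N ∧ r ∣ q ^ j - 1 := by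
  obtain ⟨k, rfl⟩ := Nat.exists_eq_add_of_le hMN
  rw [show qfact q (M + k) = qfact q M * ∏ j ∈ Finset.range k, (q ^ (M + j + 1) - 1) from Finset.prod_range_add _ _ _,
    mul_comm A] at h
  obtain ⟨j, hj, hdvd⟩ := (Nat.prime_iff.1 hr).exists_mem_finset_dvd
    (hA.trans (Nat.dvd_of_mul_dvd_mul_left (qfact_pos hq M) h))
  rw [Finset.mem_range] at hj
  exact ⟨M + j + 1, by omega, by omega, hdvd⟩

end Cfsg.Agent.SubspaceCount
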