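import Cfsg.Agent.Lib.Fus.SympStabilizer
import Cfsg.Agent.Lib.Classical.SubspaceCount

/-! The number of totally isotropic subspaces, and the primes dividing it. -/

set_option autoImplicit false

namespace Cfsg.Agent.IsotropicCount

open Module Cfsg.Agent.Fus.FrameCount Cfsg.Agent.SubspaceCount

variable {F V : Type*} [Field F] [Fintype F] [AddCommGroup V] [Module F V] [Finite V]

/-- Subspaces times ordered bases are frames. -/
theorem card_frame_eq (B : LinearMap.BilinForm F V) (k : ℕ) :
    Nat.card (Frame F (fun u v => B u v) k) =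
      Nat.card {W : Submodule F V // finrank F W = k ∧ ∀ u ∈ W, ∀ v ∈ W, B u v = 0} *
        ∏ i : Fin k, (Fintype.card F ^ k - Fintype.card F ^ (i : ℕ)) := by
  classical
  haveI : FiniteDimensional F V := Module.Finite.of_finite
  haveI : Finite (Submodule F V) := Finite.of_injective SetLike.coe SetLike.coe_injective
  let S := {W : Submodule F V // finrank F W = k ∧ ∀ u ∈ W, ∀ v ∈ W, B u v = 0}
  haveI := Fintype.ofFinite S
  let φ : Frame F (fun u v => B u v) k → S := fun f =>
    ⟨Submodule.span F (Set.range f.1), by rw [finrank_span_eq_card f.2.1, Fintype.card_fin], fun u hu v hv => by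
      have h1 : ∀ j, Submodule.span F (Set.range f.1) ≤ LinearMap.ker (B.flip (f.1 j)) := fun j =>
        Submodule.span_le.2 (Set.range_subset_iff.2 fun i => f.2.2 i j)
      have h2 : Submodule.span F (Set.range f.1) ≤ LinearMap.ker (B u) :=
        Submodule.span_le.2 (Set.range_subset_iff.2 fun j => h1 j hu)
      exact h2 hv⟩
  have hfib : ∀ W : S, Nat.card {f // φ f = W} = ∏ i : Fin k, (Fintype.card F ^ k - Fintype.card F ^ (i : ℕ)) := by
    intro W
    rw [← card_bases W.1 W.2.1]
    refine Nat.card_congr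
      { toFun := fun f => ⟨f.1.1, f.1.2.1, fun i => by
          rw [← show Submodule.span F (Set.range f.1.1) = W.1 from congrArg Subtype.val f.2]
          exact Submodule.subset_span ⟨i, rfl⟩⟩
        invFun := fun f => ⟨⟨f.1, f.2.1, fun i j => W.2.2 _ (f.2.2 i) _ (f.2.2 j)⟩,
          Subtype.ext (span_eq_of_frame W.2.1 f.2.1 f.2.2)⟩
        left_inv := fun f => rfl
        right_inv := fun f => rfl }
  rw [← Nat.card_congr (Equiv.sigmaFiberEquiv φ), Nat.card_sigma, Finset.sum_congr rfl fun W _ => hfib W,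
    Finset.sum_const, Finset.card_univ, Nat.card_eq_fintype_card (α := S), smul_eq_mul]

theorem prod_bases (q k : ℕ) :
    ∏ i ∈ Finset.range k, (q ^ k - q ^ i) = q ^ (∑ i ∈ Finset.range k, i) * qfact q k := by
  have h := prod_frames q 0 k
  rwa [Nat.zero_add, show qfact q 0 = 1 from Finset.prod_range_zero _, mul_one] at h

/-- Reading off an exponent from a frame count `∏ (q ^ (e i + i) - q ^ i)`. -/
theorem exists_factor {q r k N : ℕ} (hq : 2 ≤ q) (hr : r.Prime) (hN : r ∣ N) (e : ℕ → ℕ)
    (h : N * ∏ i ∈ Finset.range k, (q ^ k - q ^ i) = ∏ i ∈ Finset.range k, (q ^ (e i + i) - q ^ i)) :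
    ∃ i < k, r ∣ q ^ e i - 1 := by
  rw [Finset.prod_congr rfl (fun i _ => show q ^ (e i + i) - q ^ i = q ^ i * (q ^ e i - 1) by
      rw [Nat.mul_sub, mul_one, ← pow_add, add_comm]), Finset.prod_mul_distrib, Finset.prod_pow_eq_pow_sum,
    prod_bases, mul_left_comm] at h
  have h' := Nat.eq_of_mul_eq_mul_left (pow_pos (by omega) _) h
  obtain ⟨i, hi, hd⟩ := (Nat.prime_iff.1 hr).exists_mem_finset_dvd (h' ▸ hN.mul_right (qfact q k))
  exact ⟨i, Finset.mem_range.1 hi, hd⟩

/-- A prime dividing the number of totally isotropic `k`-spaces of `Sp_2m(q)`. -/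
theorem exists_exponent_symp {m k r : ℕ} (hk : k ≤ m) (hr : r.Prime)
    (h : r ∣ Nat.card {W : Submodule F (Fin m ⊕ Fin m → F) //
      Module.finrank F ↥W = k ∧ (∀ u ∈ W, ∀ v ∈ W, sympForm m F u v = 0)}) :
    ∃ j, m - k < j ∧ j ≤ m ∧ r ∣ Fintype.card F ^ (2 * j) - 1 := by
  have hc := card_frame_eq (Classical.sympB m F) k
  simp only [Classical.sympB_apply] at hc
  rw [Fus.SympStab.card_frame, ← Fin.prod_univ_eq_prod_range, eq_comm,
    Fin.prod_univ_eq_prod_range (fun i => Fintype.card F ^ k - Fintype.card F ^ i),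
    Fin.prod_univ_eq_prod_range (fun i => Fintype.card F ^ (2 * m - i) - Fintype.card F ^ i)] at hc
  obtain ⟨i, hi, hd⟩ := exists_factor Fintype.one_lt_card hr h (fun i => 2 * (m - i)) (hc.trans
    (Finset.prod_congr rfl fun i hi => by
      rw [show 2 * (m - i) + i = 2 * m - i by have := Finset.mem_range.1 hi; omega]))
  exact ⟨m - i, by omega, by omega, hd⟩

end Cfsg.Agent.IsotropicCount
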