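import Cfsg.Agent.Lib.Classical.SelfReciprocalFactors
import Cfsg.Agent.Lib.Classical.SympSemisimpleClasses
import Cfsg.Agent.Lib.Classical.SympBlocks

/-! Classes of elements of odd prime order, different from the characteristic, in symplectic groups. -/

set_option autoImplicit false

namespace Cfsg.Agent.SympPrimeOrderClasses

open Polynomial Matrix Cfsg.Agent.UnitaryDetCentralizer Cfsg.Agent.SelfReciprocalFactors

variable {F : Type*} [Field F]

theorem charpoly_invTranspose {ι : Type*} [Fintype ι] [DecidableEq ι] (A : GL ι F) :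
    ((A⁻¹ : GL ι F) : Matrix ι ι F)ᵀ.charpoly = rdual (A : Matrix ι ι F).charpoly := by
  rw [Matrix.charpoly_transpose, Matrix.coe_units_inv, Matrix.charpoly_inv _ A.isUnit, ← Matrix.reverse_charpoly,
    rdual, cdual, Polynomial.map_id, RingHom.id_apply]
  have h : (A : Matrix ι ι F).det = (-1) ^ Fintype.card ι * (A : Matrix ι ι F).charpoly.coeff 0 :=
    Matrix.det_eq_sign_charpoly_coeff _
  rw [h, Ring.inverse_eq_inv', mul_inv, C_mul]
  have hs : ((-1 : F) ^ Fintype.card ι)⁻¹ = (-1) ^ Fintype.card ι := by rw [← inv_pow, inv_neg_one]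
  rw [hs, map_pow, map_neg, map_one, ← mul_assoc ((-1 : F[X]) ^ Fintype.card ι), ← mul_pow, neg_one_mul, neg_neg,
    one_pow, one_mul]

/-- The characteristic polynomial of a symplectic matrix is self-reciprocal. -/
theorem rdual_charpoly {m : ℕ} (g : Matrix.symplecticGroup (Fin m) F) :
    rdual (g : Matrix (Fin m ⊕ Fin m) (Fin m ⊕ Fin m) F).charpoly =
      (g : Matrix (Fin m ⊕ Fin m) (Fin m ⊕ Fin m) F).charpoly := by
  classical
  obtain ⟨G, hG⟩ : ∃ G : GL (Fin m ⊕ Fin m) F, (G : Matrix (Fin m ⊕ Fin m) (Fin m ⊕ Fin m) F) = g.1 :=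
    (Matrix.isUnit_iff_isUnit_det _).2 (SymplecticGroup.symplectic_det g.2)
  obtain ⟨J, hJ⟩ : ∃ J : GL (Fin m ⊕ Fin m) F, (J : Matrix (Fin m ⊕ Fin m) (Fin m ⊕ Fin m) F) = Matrix.J (Fin m) F :=
    (Matrix.isUnit_iff_isUnit_det _).2 (Matrix.isUnit_det_J (Fin m) F)
  have h := SymplecticGroup.mem_iff'.1 g.2
  rw [← hG, ← hJ] at h
  have e : ((G⁻¹ : GL (Fin m ⊕ Fin m) F) : Matrix (Fin m ⊕ Fin m) (Fin m ⊕ Fin m) F)ᵀ =
      (J : Matrix (Fin m ⊕ Fin m) (Fin m ⊕ Fin m) F) * (G : Matrix (Fin m ⊕ Fin m) (Fin m ⊕ Fin m) F) *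
        ((J⁻¹ : GL (Fin m ⊕ Fin m) F) : Matrix (Fin m ⊕ Fin m) (Fin m ⊕ Fin m) F) := by
    have h1 : ((G⁻¹ : GL (Fin m ⊕ Fin m) F) : Matrix (Fin m ⊕ Fin m) (Fin m ⊕ Fin m) F)ᵀ * (G : Matrix (Fin m ⊕ Fin m) (Fin m ⊕ Fin m) F)ᵀ = 1 := by
      rw [← Matrix.transpose_mul, ← Units.val_mul, mul_inv_cancel, Units.val_one, Matrix.transpose_one]
    calc ((G⁻¹ : GL (Fin m ⊕ Fin m) F) : Matrix (Fin m ⊕ Fin m) (Fin m ⊕ Fin m) F)ᵀ
        = ((G⁻¹ : GL (Fin m ⊕ Fin m) F) : Matrix (Fin m ⊕ Fin m) (Fin m ⊕ Fin m) F)ᵀ *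
          ((J : Matrix (Fin m ⊕ Fin m) (Fin m ⊕ Fin m) F) * ((J⁻¹ : GL (Fin m ⊕ Fin m) F) : Matrix (Fin m ⊕ Fin m) (Fin m ⊕ Fin m) F)) := by
          rw [← Units.val_mul, mul_inv_cancel, Units.val_one, mul_one]
      _ = _ := by
          conv_lhs => rw [← h]
          simp only [← Matrix.mul_assoc, h1, Matrix.one_mul]
  rw [← hG, ← charpoly_invTranspose, e, Matrix.coe_units_inv, Matrix.charpoly_units_conj]

/-- A polynomial realised by an element of a symplectic group killed by `r`. -/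
def Real (F : Type*) [Field F] (r : ℕ) (P : F[X]) : Prop :=
  ∃ (a : ℕ) (x : Matrix.symplecticGroup (Fin a) F), x ^ r = 1 ∧ P.natDegree = 2 * a ∧
    (x : Matrix (Fin a ⊕ Fin a) (Fin a ⊕ Fin a) F).charpoly = P

theorem real_mul {r : ℕ} {P Q : F[X]} (hP : Real F r P) (hQ : Real F r Q) : Real F r (P * Q) := by
  obtain ⟨a, x, hx, hxd, hxP⟩ := hP
  obtain ⟨b, y, hy, hyd, hyQ⟩ := hQ
  refine ⟨a + b, Classical.sympBlock a b (x, y), ?_, ?_, ?_⟩
  · rw [← map_pow, Prod.pow_mk, hx, hy, ← Prod.one_eq_mk, map_one]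
  · rw [← hxP, ← hyQ, Polynomial.natDegree_mul (Matrix.charpoly_monic _).ne_zero (Matrix.charpoly_monic _).ne_zero,
      hxP, hyQ, hxd, hyd, mul_add]
  · show (Classical.blockMat _ _).charpoly = _
    rw [Classical.blockMat, ← Matrix.reindex_apply, Matrix.charpoly_reindex, Matrix.charpoly_fromBlocks_zero₁₂,
      hxP, hyQ]

theorem real_pair {r : ℕ} {f : F[X]} (hf : f.Monic) (hd : f ∣ X ^ r - 1) (h0 : f.coeff 0 ≠ 0) :
    Real F r (f * rdual f) := by
  classical
  let pb := AdjoinRoot.powerBasis' hf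
  set A := Algebra.leftMulMatrix pb.basis pb.gen
  have hgen : pb.gen = AdjoinRoot.root f := AdjoinRoot.powerBasis'_gen hf
  have hA : A.charpoly = f := by
    rw [charpoly_leftMulMatrix, hgen, AdjoinRoot.minpoly_root hf.ne_zero, hf.leadingCoeff, inv_one, map_one, mul_one]
  have hu : IsUnit A := by
    rw [Matrix.isUnit_iff_isUnit_det, isUnit_iff_ne_zero, Matrix.det_eq_sign_charpoly_coeff, hA]
    exact mul_ne_zero (pow_ne_zero _ (neg_ne_zero.2 one_ne_zero)) h0
  obtain ⟨G, hG⟩ := hu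
  have hGr : G ^ r = 1 := by
    obtain ⟨w, hw⟩ := hd
    have hz : pb.gen ^ r = 1 := by
      have := congrArg (AdjoinRoot.mk f) hw
      rw [map_mul, AdjoinRoot.mk_self, zero_mul, map_sub, map_pow, AdjoinRoot.mk_X, map_one] at this
      rw [hgen]; exact sub_eq_zero.1 this
    exact Units.ext (by rw [Units.val_pow_eq_pow_val, hG, ← map_pow, hz, map_one, Units.val_one])
  have hpd : pb.dim = f.natDegree := AdjoinRoot.powerBasis'_dim hf
  refine ⟨pb.dim, Classical.sympLevi _ G, by rw [← map_pow, hGr, map_one], ?_, ?_⟩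
  · rw [hf.natDegree_mul (cdual_monic _ h0), natDegree_cdual _ h0, hpd, two_mul]
  · show (Matrix.fromBlocks _ 0 0 _).charpoly = _
    rw [Matrix.charpoly_fromBlocks_zero₁₂, charpoly_invTranspose, hG, hA]

theorem real_one_pow (r j : ℕ) : Real F r ((X - Polynomial.C 1) ^ (2 * j)) := by
  refine ⟨j, 1, one_pow r, by rw [natDegree_pow, natDegree_X_sub_C, mul_one], ?_⟩
  rw [OneMemClass.coe_one, Matrix.charpoly_one, Fintype.card_sum, Fintype.card_fin, two_mul, map_one]

variable [Fintype F] {r i t : ℕ}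

theorem real_self (h : Ctx F r i t) {f : F[X]} (hf : f ∈ factorSet F r) (he : Even i) : Real F r f := by
  classical
  obtain ⟨hfm, hfi, hfd, -⟩ := mem_data h hf
  haveI := Fact.mk hfi
  haveI := hfm.finite_adjoinRoot
  haveI : Finite (AdjoinRoot f) := Module.finite_of_finite F
  obtain ⟨e, rfl⟩ := he
  set E := AdjoinRoot f
  set z : E := AdjoinRoot.root f with hz
  have hzo : orderOf z = r := orderOf_root h hf
  have hzr : z ^ r = 1 := by rw [← hzo]; exact pow_orderOf_eq_one z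
  have hz0 : z ≠ 0 := fun h' => by rw [h', zero_pow h.prime.ne_zero] at hzr; exact zero_ne_one hzr
  have hroot : aeval z⁻¹ f = 0 := by
    have h1 := rdual_root hz0 (show aeval z f = 0 from AdjoinRoot.eval₂_root f)
    rwa [(rdual_mem h hf).2.2 ⟨e, rfl⟩] at h1
  let s₀ : E →ₐ[F] E := AdjoinRoot.liftAlgHom f (Algebra.ofId F E) z⁻¹ hroot
  have hs₀ : s₀ z = z⁻¹ := AdjoinRoot.liftAlgHom_root _ _ _ _
  let s : E ≃ₐ[F] E := AlgEquiv.ofBijective s₀ (Finite.injective_iff_bijective.1 (RingHom.injective _))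
  have hsz : s z = z⁻¹ := hs₀
  have hss : ∀ x, s (s x) = x := by
    have : (s.toAlgHom.comp s.toAlgHom) = AlgHom.id F E := AdjoinRoot.algHom_ext (by
      show s (s z) = z
      rw [hsz, map_inv₀, hsz, inv_inv])
    exact fun x => AlgHom.congr_fun this x
  set ω := z - z⁻¹
  have hω0 : ω ≠ 0 := fun h' => by
    have h2 : z ^ 2 = 1 := by
      rw [pow_two]; conv_lhs => arg 2; rw [sub_eq_zero.1 h']
      exact mul_inv_cancel₀ hz0
    have h3 := orderOf_dvd_of_pow_eq_one h2
    rw [hzo] at h3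
    exact h.odd ((Nat.prime_dvd_prime_iff_eq h.prime Nat.prime_two).1 h3)
  have hsω : s ω = -ω := by rw [map_sub, map_inv₀, hsz, inv_inv]; ring
  let B : LinearMap.BilinForm F E :=
    LinearMap.mk₂ F (fun x y => Algebra.trace F E (ω * x * s y))
      (fun x x' y => by rw [mul_add, add_mul, map_add])
      (fun c x y => by rw [mul_smul_comm, smul_mul_assoc, map_smul])
      (fun x y y' => by rw [map_add, mul_add, map_add])
      (fun c x y => by rw [map_smul, mul_smul_comm, map_smul])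
  have hBa : ∀ x y, B x y = Algebra.trace F E (ω * x * s y) := fun x y => rfl
  have hA : B.IsAlt := fun x => by
    have h1 : s (z * (x * s x)) = z⁻¹ * (x * s x) := by rw [map_mul, map_mul, hsz, hss]; ring
    rw [hBa, show ω * x * s x = z * (x * s x) - s (z * (x * s x)) by rw [h1]; ring, map_sub,
      Algebra.trace_eq_of_algEquiv, sub_self]
  have hB : ∀ x, (∀ y, B x y = 0) → x = 0 := fun x hx => by
    have h1 : ω * x = 0 := (traceForm_nondegenerate F E).1 (ω * x) fun y => by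
      rw [Algebra.traceForm_apply, ← hss y, ← hBa]; exact hx _
    exact (mul_eq_zero.1 h1).resolve_left hω0
  let pb := AdjoinRoot.powerBasis' hfm
  have hE : Module.finrank F E = 2 * e := by
    rw [pb.finrank, AdjoinRoot.powerBasis'_dim, hfd, two_mul]
  obtain ⟨L, hL⟩ := Classical.exists_symp_coords B hA hB hE
  let T : E →* Matrix (Fin e ⊕ Fin e) (Fin e ⊕ Fin e) F :=
    { toFun := fun w => LinearMap.toMatrix' (L.symm.toLinearMap ∘ₗ LinearMap.mulLeft F w ∘ₗ L.toLinearMap)
      map_one' := by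
        rw [show L.symm.toLinearMap ∘ₗ LinearMap.mulLeft F (1 : E) ∘ₗ L.toLinearMap = LinearMap.id from
          LinearMap.ext fun v => by simp, LinearMap.toMatrix'_id]
      map_mul' := fun u w => by
        rw [← LinearMap.toMatrix'_comp]
        congr 1
        exact LinearMap.ext fun v => by simp [mul_assoc] }
  have hT : ∀ w v, T w *ᵥ v = L.symm (w * L v) := fun w v => by
    show LinearMap.toMatrix' _ *ᵥ v = _
    rw [← Matrix.toLin'_apply, Matrix.toLin'_toMatrix']; simp
  have hmem : T z ∈ Matrix.symplecticGroup (Fin e) F := Classical.mem_symplecticGroup_iff_form.2 fun u v => by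
    rw [← hL, ← hL, hT, hT, L.apply_symm_apply, L.apply_symm_apply, hBa, hBa, map_mul s, hsz,
      show ω * (z * L u) * (z⁻¹ * s (L v)) = (z * z⁻¹) * (ω * L u * s (L v)) by ring, mul_inv_cancel₀ hz0, one_mul]
  refine ⟨e, ⟨T z, hmem⟩, Subtype.ext ?_, by rw [hfd, two_mul], ?_⟩
  · rw [SubmonoidClass.coe_pow, ← map_pow, hzr, map_one]; rfl
  · show (LinearMap.toMatrix' _).charpoly = f
    rw [← LinearMap.toMatrix_eq_toMatrix', LinearMap.charpoly_toMatrix,
      show L.symm.toLinearMap ∘ₗ LinearMap.mulLeft F z ∘ₗ L.toLinearMap = L.symm.conj (LinearMap.mulLeft F z) from rfl,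
      LinearEquiv.charpoly_conj, ← LinearMap.charpoly_toMatrix (LinearMap.mulLeft F z) pb.basis,
      show (LinearMap.mulLeft F z) = Algebra.lmul F E z from rfl]
    show (Algebra.leftMulMatrix pb.basis z).charpoly = f
    rw [hz, ← AdjoinRoot.powerBasis'_gen hfm, charpoly_leftMulMatrix, AdjoinRoot.powerBasis'_gen,
      AdjoinRoot.minpoly_root hfi.ne_zero, hfm.leadingCoeff, inv_one, map_one, mul_one]

/-- Every self-reciprocal polynomial is realised. -/
theorem real_selfRecip (h : Ctx F r i t) {m : ℕ} {P : F[X]} (hP : P ∈ selfRecip F r (2 * m)) : Real F r P := by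
  classical
  rw [selfRecip_eq h] at hP
  obtain ⟨N, k, hN, rfl, hPd⟩ := hP
  have hN' : ∀ u ∈ N, Real F r u ∧ u.Monic ∧ Even u.natDegree := fun u hu => by
    obtain ⟨f, hf, rfl⟩ := mem_basics.1 (hN u hu)
    obtain ⟨hm, hd, -⟩ := basic_data h hf
    refine ⟨?_, hm, hd ▸ even_basicDeg i⟩
    unfold basic
    split_ifs with he
    · exact real_self h hf he
    · exact real_pair (mem_data h hf).1 (dvd_pow_sub_one h hf) (coeff_zero_ne h (dvd_pow_sub_one h hf))
  have key : Real F r N.prod ∧ N.prod.Monic ∧ Even N.prod.natDegree := by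
    clear hPd hN
    induction N using Multiset.induction with
    | empty =>
      refine ⟨?_, by rw [Multiset.prod_zero]; exact monic_one, by rw [Multiset.prod_zero, natDegree_one]; exact Even.zero⟩
      simpa using real_one_pow (F := F) r 0
    | cons u N ih =>
      obtain ⟨h1, h2, h3⟩ := hN' u (Multiset.mem_cons_self u N)
      obtain ⟨i1, i2, i3⟩ := ih fun v hv => hN' v (Multiset.mem_cons_of_mem hv)
      rw [Multiset.prod_cons]
      exact ⟨real_mul h1 i1, h2.mul i2, by rw [h2.natDegree_mul i2]; exact h3.add i3⟩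
  obtain ⟨k1, k2, ⟨c, hc⟩⟩ := key
  rw [k2.natDegree_mul ((monic_X_sub_C 1).pow k), natDegree_pow, natDegree_X_sub_C, mul_one, hc] at hPd
  rw [show k = 2 * (m - c) by omega]
  exact real_mul k1 (real_one_pow r _)

/-- The classes of the elements with `g ^ r = 1`. -/
theorem ncard_classes_pow (h : Ctx F r i t) (m : ℕ) :
    {C : ConjClasses (Matrix.symplecticGroup (Fin m) F) | ∃ g, ConjClasses.mk g = C ∧ g ^ r = 1}.ncard =
      (selfRecip F r (2 * m)).ncard := by
  classical
  obtain ⟨p, e, hp, hpr, hch, -, -⟩ := orderOf_card h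
  haveI := hch
  haveI := Fact.mk hp
  set A := {C : ConjClasses (Matrix.symplecticGroup (Fin m) F) | ∃ g, ConjClasses.mk g = C ∧ g ^ r = 1}
  let ψ : A → F[X] := fun C => (C.2.choose : Matrix (Fin m ⊕ Fin m) (Fin m ⊕ Fin m) F).charpoly
  have hcop : ∀ g : Matrix.symplecticGroup (Fin m) F, g ^ r = 1 → (orderOf g).Coprime p := fun g hg =>
    (hpr.symm).coprime_dvd_left (orderOf_dvd_of_pow_eq_one hg)
  have hψ : Function.Injective ψ := fun C C' hc => Subtype.ext (by
    rw [← C.2.choose_spec.1, ← C'.2.choose_spec.1, ConjClasses.mk_eq_mk_iff_isConj]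
    exact SympSemisimpleClasses.symp_isConj_of_charpoly _ _ (hcop _ C.2.choose_spec.2) (hcop _ C'.2.choose_spec.2) hc)
  have hrange : Set.range ψ = selfRecip F r (2 * m) := by
    ext P
    constructor
    · rintro ⟨C, rfl⟩
      have hg := C.2.choose_spec.2
      refine ⟨Matrix.charpoly_monic _, by rw [Matrix.charpoly_natDegree_eq_dim, Fintype.card_sum, Fintype.card_fin,
        two_mul], rdual_charpoly _, fun f hf hirr hd => ?_⟩
      set g := C.2.choose
      obtain ⟨G, hG⟩ : ∃ G : GL (Fin (m + m)) F, (G : Matrix (Fin (m + m)) (Fin (m + m)) F) =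
          Matrix.reindexAlgEquiv F F finSumFinEquiv g.1 :=
        ((Matrix.isUnit_iff_isUnit_det _).2 (SymplecticGroup.symplectic_det g.2)).map _
      refine GLPrimeOrderClasses.factor_dvd (g := G) (Units.ext ?_) hf hirr ?_
      · rw [Units.val_pow_eq_pow_val, hG, ← map_pow, ← SubmonoidClass.coe_pow, hg, OneMemClass.coe_one, map_one,
          Units.val_one]
      · rw [hG, Matrix.reindexAlgEquiv_apply, Matrix.charpoly_reindex]; exact hd
    · intro hP
      obtain ⟨a, x, hx, hxd, hxP⟩ := real_selfRecip h hP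
      obtain rfl : a = m := by have := hP.2.1; omega
      have hmem : ConjClasses.mk x ∈ A := ⟨x, rfl, hx⟩
      refine ⟨⟨_, hmem⟩, ?_⟩
      show Matrix.charpoly _ = P
      obtain ⟨c, hc⟩ := (Submonoid.subtype (Matrix.symplecticGroup (Fin a) F)).map_isConj
        (ConjClasses.mk_eq_mk_iff_isConj.1 hmem.choose_spec.1)
      rw [← hxP, ← Matrix.charpoly_units_conj c, ← Matrix.coe_units_inv]
      congr 1
      rw [show (c : Matrix (Fin a ⊕ Fin a) (Fin a ⊕ Fin a) F) * hmem.choose.1 = x.1 * c from hc.eq,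
        mul_assoc, Units.mul_inv, mul_one]
  rw [← Nat.card_coe_set_eq, ← Nat.card_range_of_injective hψ, hrange, Nat.card_coe_set_eq]

end Cfsg.Agent.SympPrimeOrderClasses
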