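import Cfsg.Agent.Lib.Classical.InvariantCharpoly
import Cfsg.Agent.Lib.Classical.SympPrimeOrderClasses
import Cfsg.Agent.Lib.Classical.NormalForms

/-!
Invariant totally isotropic subspaces: the constraint on the characteristic polynomial and the greedy
construction for semisimple isometries of order two.
-/

set_option autoImplicit false

namespace Cfsg.Agent.IsotropicInvariant

open Polynomial Module Cfsg.Agent.SelfReciprocalFactors

universe u v

variable {F : Type u} [Field F] {V : Type v} [AddCommGroup V] [Module F V] [FiniteDimensional F V]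

theorem charpoly_symm_dualMap (e : V ≃ₗ[F] V) :
    (e.symm.toLinearMap.dualMap).charpoly = rdual e.toLinearMap.charpoly := by
  classical
  let b := Module.finBasis F V
  let G : GL (Fin (finrank F V)) F := ⟨LinearMap.toMatrix b b e.toLinearMap, LinearMap.toMatrix b b e.symm.toLinearMap,
    by rw [← LinearMap.toMatrix_comp b b b, LinearEquiv.comp_symm, LinearMap.toMatrix_id],
    by rw [← LinearMap.toMatrix_comp b b b, LinearEquiv.symm_comp, LinearMap.toMatrix_id]⟩
  have hd : LinearMap.toMatrix b.dualBasis b.dualBasis e.symm.toLinearMap.dualMap =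
      Matrix.transpose ((G⁻¹ : GL (Fin (finrank F V)) F) : Matrix (Fin (finrank F V)) (Fin (finrank F V)) F) :=
    LinearMap.toMatrix_transpose e.symm.toLinearMap
  rw [← LinearMap.charpoly_toMatrix e.symm.toLinearMap.dualMap b.dualBasis, hd,
    SympPrimeOrderClasses.charpoly_invTranspose, ← LinearMap.charpoly_toMatrix e.toLinearMap b]

/-- An invariant totally isotropic subspace splits off `D · rdual D` from the characteristic polynomial. -/
theorem dvd_charpoly (B : LinearMap.BilinForm F V) (hn : B.Nondegenerate) (g : V →ₗ[F] V)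
    (hg : ∀ u v, B (g u) (g v) = B u v) (W : Submodule F V) (hW : ∀ u ∈ W, ∀ v ∈ W, B u v = 0)
    (hgW : W ≤ W.comap g) :
    (g.restrict hgW).charpoly * rdual (g.restrict hgW).charpoly ∣ g.charpoly := by
  classical
  have hginj : Function.Injective g := (injective_iff_map_eq_zero g).2 fun x hx => hn.1 x fun y => by
    rw [← hg, hx, map_zero, LinearMap.zero_apply]
  let e : W ≃ₗ[F] W := LinearEquiv.ofBijective (g.restrict hgW)
    ⟨fun a b h => Subtype.ext (hginj (congrArg Subtype.val h)),
      LinearMap.surjective_of_injective fun a b h => Subtype.ext (hginj (congrArg Subtype.val h))⟩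
  let ψ : V →ₗ[F] Dual F W := W.subtype.dualMap ∘ₗ B.flip
  have hψa : ∀ v (w : W), ψ v w = B (w : V) v := fun v w => rfl
  have hψ : Function.Surjective ψ := by
    refine (LinearMap.dualMap_surjective_of_injective W.injective_subtype).comp ?_
    refine (LinearMap.injective_iff_surjective_of_finrank_eq_finrank
      Subspace.dual_finrank_eq.symm).1 ((injective_iff_map_eq_zero _).2 fun x hx => hn.2 x fun y => ?_)
    exact LinearMap.congr_fun hx y
  set E := LinearMap.ker ψ
  have hWE : W ≤ E := fun v hv => LinearMap.mem_ker.2 (LinearMap.ext fun w => hW _ w.2 _ hv)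
  have key : ∀ v, ψ (g v) = e.symm.toLinearMap.dualMap (ψ v) := fun v => LinearMap.ext fun w => by
    rw [hψa, LinearMap.dualMap_apply, hψa]
    have h : g ((e.symm w : W) : V) = (w : V) := congrArg Subtype.val (e.apply_symm_apply w)
    conv_lhs => rw [← h]
    rw [hg]
    rfl
  have hgE : E ≤ E.comap g := fun v hv => LinearMap.mem_ker.2 (by rw [key, LinearMap.mem_ker.1 hv, map_zero])
  have hQ : (E.mapQ E g hgE).charpoly = rdual (g.restrict hgW).charpoly := by
    let φ := ψ.quotKerEquivOfSurjective hψ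
    rw [← LinearEquiv.charpoly_conj φ]
    have h : φ.conj (E.mapQ E g hgE) = e.symm.toLinearMap.dualMap := by
      refine LinearMap.ext fun x => ?_
      obtain ⟨v, rfl⟩ := hψ x
      rw [LinearEquiv.conj_apply_apply, ← key]
      have hv : φ.symm (ψ v) = Submodule.Quotient.mk v := φ.symm_apply_eq.2 rfl
      rw [hv, Submodule.mapQ_apply]
      rfl
    rw [h, charpoly_symm_dualMap]
    rfl
  rw [InvCharpoly.charpoly_mul E g hgE, hQ]
  exact mul_dvd_mul_right (InvCharpoly.charpoly_restrict_dvd hWE hgW hgE) _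

omit [FiniteDimensional F V] in
theorem span_iso {B : LinearMap.BilinForm F V} {s : Set V} (h : ∀ a ∈ s, ∀ b ∈ s, B a b = 0) :
    ∀ a ∈ Submodule.span F s, ∀ b ∈ Submodule.span F s, B a b = 0 := fun a ha b hb => by
  have h1 : ∀ c ∈ s, Submodule.span F s ≤ LinearMap.ker (B.flip c) := fun c hc =>
    Submodule.span_le.2 fun d hd => h d hd c hc
  exact (Submodule.span_le.2 fun c hc => h1 c hc ha : Submodule.span F s ≤ LinearMap.ker (B a)) hb

variable {B : LinearMap.BilinForm F V} (hA : B.IsAlt) (hn : B.Nondegenerate) (g : V →ₗ[F] V)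
  (hg : ∀ u v, B (g u) (g v) = B u v)

include hA hn hg in
/-- The orthogonal space of an invariant isotropic subspace of small dimension. -/
theorem orth_data {z : F} (hz : z ≠ 0) (hgg : ∀ v, g (g v) = z • v) {d k : ℕ} (hV : finrank F V = 2 * d)
    (hk : k ≤ d) {W : Submodule F V} (hWk : finrank F W = k) (hW : ∀ u ∈ W, ∀ v ∈ W, B u v = 0)
    (hgW : ∀ w ∈ W, g w ∈ W) :
    W ≤ B.orthogonal W ∧ finrank F (B.orthogonal W) = 2 * d - k ∧ ∀ v ∈ B.orthogonal W, g v ∈ B.orthogonal W := by
  refine ⟨fun v hv n hn => hW n hn v hv, by rw [LinearMap.BilinForm.finrank_orthogonal hn, hV, hWk],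
    fun v hv n hn' => ?_⟩
  have h2 : g (z⁻¹ • g n) = n := by rw [map_smul, hgg, smul_smul, inv_mul_cancel₀ hz, one_smul]
  show B n (g v) = 0
  rw [← h2, hg]
  exact hv _ (W.smul_mem _ (hgW n hn'))

include hA hn hg in
/-- If `g ^ 2 = c ^ 2` with `2 c ≠ 0`, every small dimension occurs. -/
theorem exists_of_sq_root {c : F} (hc : c ≠ 0) (h2 : (2 : F) ≠ 0) (hgg : ∀ v, g (g v) = (c * c) • v) {d : ℕ}
    (hV : finrank F V = 2 * d) : ∀ k ≤ d,
    ∃ W : Submodule F V, finrank F W = k ∧ (∀ u ∈ W, ∀ v ∈ W, B u v = 0) ∧ ∀ w ∈ W, g w ∈ W := by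
  intro k
  induction k with
  | zero => exact fun _ => ⟨⊥, finrank_bot F V, by simp, by simp⟩
  | succ k ih =>
    intro hk
    obtain ⟨W, hWk, hW, hgW⟩ := ih (by omega)
    obtain ⟨hWO, hOd, hgO⟩ := orth_data hA hn g hg (mul_ne_zero hc hc) hgg hV (by omega) hWk hW hgW
    obtain ⟨v, hvO, hvW⟩ : ∃ v ∈ B.orthogonal W, v ∉ W := by
      by_contra hh
      push Not at hh
      have := Submodule.finrank_mono hh
      omega
    obtain ⟨v, c', hvO, hvW, hgv⟩ : ∃ (v : V) (c' : F), v ∈ B.orthogonal W ∧ v ∉ W ∧ g v = c' • v := by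
      by_cases h : c • v + g v ∈ W
      · refine ⟨c • v - g v, -c, Submodule.sub_mem _ (Submodule.smul_mem _ _ hvO) (hgO v hvO), fun h' => hvW ?_, ?_⟩
        · have h3 := W.smul_mem (2 * c)⁻¹ (W.add_mem h h')
          rwa [show c • v + g v + (c • v - g v) = (2 * c) • v by module, smul_smul,
            inv_mul_cancel₀ (mul_ne_zero h2 hc), one_smul] at h3
        · rw [map_sub, map_smul, hgg]; module
      · exact ⟨c • v + g v, c, Submodule.add_mem _ (Submodule.smul_mem _ _ hvO) (hgO v hvO), h,
          by rw [map_add, map_smul, hgg]; module⟩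
    refine ⟨W ⊔ Submodule.span F {v}, ?_, ?_, ?_⟩
    · have hd : W ⊓ Submodule.span F {v} = ⊥ := by
        rw [Submodule.eq_bot_iff]
        rintro x ⟨hxW, hxv⟩
        obtain ⟨a, rfl⟩ := Submodule.mem_span_singleton.1 hxv
        by_contra ha
        refine hvW ?_
        have h3 := W.smul_mem a⁻¹ hxW
        rwa [smul_smul, inv_mul_cancel₀ (fun h0 : a = 0 => ha (by rw [h0, zero_smul])), one_smul] at h3
      have := Submodule.finrank_sup_add_finrank_inf_eq W (Submodule.span F {v})
      rw [hd, finrank_bot, finrank_span_singleton (fun h0 => hvW (by rw [h0]; exact W.zero_mem)), hWk] at this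
      omega
    · rw [← Submodule.span_eq W, ← Submodule.span_union]
      refine span_iso fun a ha b hb => ?_
      rcases ha with ha | rfl <;> rcases hb with hb | rfl
      · exact hW a ha b hb
      · exact hvO a ha
      · rw [← hA.neg_eq, hvO b hb, neg_zero]
      · exact hA _
    · intro w hw
      obtain ⟨w1, hw1, w2, hw2, rfl⟩ := Submodule.mem_sup.1 hw
      obtain ⟨a, rfl⟩ := Submodule.mem_span_singleton.1 hw2
      rw [map_add, map_smul, hgv, smul_smul]
      exact Submodule.add_mem_sup (hgW _ hw1) (Submodule.smul_mem _ _ (Submodule.mem_span_singleton_self v))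

include hA hn hg in
/-- If `g ^ 2 = -1`, every small even dimension occurs. -/
theorem exists_of_sq_neg_one [Finite F] (h2 : (2 : F) ≠ 0) (hi : ∀ c : F, c * c ≠ -1) (hgg : ∀ v, g (g v) = (-1 : F) • v) {d : ℕ}
    (hV : finrank F V = 2 * d) : ∀ k, 2 * k ≤ d →
    ∃ W : Submodule F V, finrank F W = 2 * k ∧ (∀ u ∈ W, ∀ v ∈ W, B u v = 0) ∧ ∀ w ∈ W, g w ∈ W := by
  intro k
  induction k with
  | zero => exact fun _ => ⟨⊥, finrank_bot F V, by simp, by simp⟩
  | succ k ih =>
    intro hk
    obtain ⟨W, hWk, hW, hgW⟩ := ih (by omega)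
    obtain ⟨hWO, hOd, hgO⟩ :=
      orth_data hA hn g hg (neg_ne_zero.2 one_ne_zero) hgg hV (by omega) hWk hW hgW
    obtain ⟨C, hC⟩ := Submodule.exists_isCompl (W.comap (B.orthogonal W).subtype)
    have hCd : 3 ≤ finrank F C := by
      have h1 := Submodule.finrank_add_eq_of_isCompl hC
      rw [LinearEquiv.finrank_eq (Submodule.comapSubtypeEquivOfLe hWO), hWk, hOd] at h1
      omega
    let ι : C →ₗ[F] V := (B.orthogonal W).subtype ∘ₗ C.subtype
    obtain ⟨x, hx0, hxQ⟩ := exists_zero_of_bilin (B.compl₁₂ ι (g ∘ₗ ι)) h2 hCd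
    have hvW : ι x ∉ W := fun h => hx0 <| by
      have : (x : B.orthogonal W) ∈ W.comap (B.orthogonal W).subtype ⊓ C := ⟨h, x.2⟩
      rw [hC.inf_eq_bot, Submodule.mem_bot] at this
      exact Subtype.ext this
    have hvO : ι x ∈ B.orthogonal W := (x : B.orthogonal W).2
    set v := ι x
    have hvv : B v (g v) = 0 := hxQ
    have hindep : ∀ a b : F, a • v + b • g v ∈ W → a = 0 ∧ b = 0 := by
      intro a b h
      by_cases hb : b = 0
      · refine ⟨?_, hb⟩
        rw [hb, zero_smul, add_zero] at h
        by_contra ha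
        have h3 := W.smul_mem a⁻¹ h
        rw [smul_smul, inv_mul_cancel₀ ha, one_smul] at h3
        exact hvW h3
      · exfalso
        have h1 := hgW _ h
        rw [map_add, map_smul, map_smul, hgg, smul_smul] at h1
        have h2 := W.sub_mem (W.smul_mem a h) (W.smul_mem b h1)
        rw [show a • (a • v + b • g v) - b • (a • g v + (b * -1) • v) = (a * a + b * b) • v by module] at h2
        by_cases h3 : a * a + b * b = 0
        · exact hi (a * b⁻¹) (by field_simp; linear_combination h3)
        · have h4 := W.smul_mem (a * a + b * b)⁻¹ h2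
          rw [smul_smul, inv_mul_cancel₀ h3, one_smul] at h4
          exact hvW h4
    refine ⟨W ⊔ Submodule.span F {v, g v}, ?_, ?_, ?_⟩
    · have hd : W ⊓ Submodule.span F {v, g v} = ⊥ := by
        rw [Submodule.eq_bot_iff]
        rintro y ⟨hyW, hyv⟩
        obtain ⟨a, b, rfl⟩ := Submodule.mem_span_pair.1 hyv
        obtain ⟨rfl, rfl⟩ := hindep a b hyW
        simp
      have hli : LinearIndependent F ![v, g v] := LinearIndependent.pair_iff.2 fun a b h =>
        hindep a b (by rw [h]; exact W.zero_mem)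
      have := Submodule.finrank_sup_add_finrank_inf_eq W (Submodule.span F {v, g v})
      rw [hd, finrank_bot, hWk, show ({v, g v} : Set V) = Set.range ![v, g v] by simp [Matrix.range_cons, Set.pair_comm],
        finrank_span_eq_card hli, Fintype.card_fin] at this
      rw [show ({v, g v} : Set V) = Set.range ![v, g v] by simp [Matrix.range_cons, Set.pair_comm]]
      omega
    · rw [← Submodule.span_eq W, ← Submodule.span_union]
      have hgvO := hgO v hvO
      refine span_iso fun a ha b hb => ?_
      rcases ha with ha | rfl | rfl <;> rcases hb with hb | rfl | rfl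
      all_goals first
        | exact hW a ha b hb
        | exact hvO a ha
        | exact hgvO a ha
        | exact hA _
        | exact hvv
        | (rw [← hA.neg_eq, hvO b hb, neg_zero])
        | (rw [← hA.neg_eq, hgvO b hb, neg_zero])
        | (rw [← hA.neg_eq, hvv, neg_zero])
    · intro w hw
      obtain ⟨w1, hw1, w2, hw2, rfl⟩ := Submodule.mem_sup.1 hw
      obtain ⟨a, b, rfl⟩ := Submodule.mem_span_pair.1 hw2
      rw [map_add, map_add, map_smul, map_smul, hgg, smul_smul]
      exact Submodule.add_mem_sup (hgW _ hw1) (Submodule.mem_span_pair.2 ⟨b * -1, a, add_comm _ _⟩)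
where
  exists_zero_of_bilin [Finite F] {C : Type v} [AddCommGroup C] [Module F C] [FiniteDimensional F C]
      (T : LinearMap.BilinForm F C) (h2 : (2 : F) ≠ 0) (hC : 3 ≤ finrank F C) : ∃ x : C, x ≠ 0 ∧ T x x = 0 := by
    by_cases hW : ∀ w ∈ (⊤ : Submodule F C), w ≠ 0 →
        ∃ u ∈ (⊤ : Submodule F C), QuadraticMap.polarBilin T.toQuadraticMap w u ≠ 0
    · obtain ⟨x, -, hx, hQ⟩ := Classical.exists_singular_in T.toQuadraticMap hW (by rwa [finrank_top])
      exact ⟨x, hx, hQ⟩
    · push Not at hW
      obtain ⟨w, -, hw, h⟩ := hW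
      refine ⟨w, hw, ?_⟩
      have h' := h w trivial
      rw [Classical.polarBilin_self] at h'
      exact (mul_eq_zero.1 h').resolve_left h2

end Cfsg.Agent.IsotropicInvariant
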