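import Mathlib

/-!
The Jacobi–Trudi orthogonality identity for the numbers of non-negative integer matrices with given margins.
-/

set_option autoImplicit false

namespace Cfsg.Agent.Classical.JT

variable {n : ℕ}

/-- Natural matrices with given row and column sums. -/
def Mats (a b : Fin n → ℕ) : Type :=
  {M : Fin n → Fin n → ℕ // (∀ i, ∑ j, M i j = a i) ∧ ∀ j, ∑ i, M i j = b j}

instance (a b : Fin n → ℕ) : Finite (Mats a b) :=
  Finite.of_injective
    (fun M (i j : Fin n) => (⟨M.1 i j, Nat.lt_succ_of_le
      ((Finset.single_le_sum (fun _ _ => Nat.zero_le _) (Finset.mem_univ j)).trans (M.2.1 i).le)⟩ :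
        Fin (a i + 1)))
    fun M M' h => Subtype.ext (funext fun i => funext fun j =>
      congrArg Fin.val (congrFun (congrFun h i) j))

/-- Number of matrices with margins `a`, `b`. -/
noncomputable def numMats (a b : Fin n → ℕ) : ℕ := Nat.card (Mats a b)

lemma numMats_perm_right (a b : Fin n → ℕ) (σ : Equiv.Perm (Fin n)) :
    numMats a (b ∘ σ) = numMats a b := by
  refine Nat.card_congr
    { toFun := fun M => ⟨fun i j => M.1 i (σ.symm j), fun i => by
        rw [Equiv.sum_comp σ.symm (M.1 i)]; exact M.2.1 i, fun j => by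
        rw [M.2.2]; simp⟩
      invFun := fun M => ⟨fun i j => M.1 i (σ j), fun i => by
        rw [Equiv.sum_comp σ (M.1 i)]; exact M.2.1 i, fun j => M.2.2 (σ j)⟩
      left_inv := fun M => Subtype.ext (by funext i j; simp)
      right_inv := fun M => Subtype.ext (by funext i j; simp) }

open MvPolynomial

/-- Complete homogeneous symmetric polynomial. -/
noncomputable def hP (n d : ℕ) : MvPolynomial (Fin n) ℤ :=
  ∑ f ∈ Finset.piAntidiag (Finset.univ : Finset (Fin n)) d, monomial (Finsupp.equivFunOnFinite.symm f) 1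

lemma coeff_prod_hP (a b : Fin n → ℕ) :
    coeff (Finsupp.equivFunOnFinite.symm a) (∏ l, hP n (b l)) = (numMats a b : ℤ) := by
  classical
  unfold hP
  rw [Finset.prod_univ_sum]
  simp only [← monomial_sum_one]
  rw [coeff_sum]
  simp only [coeff_monomial]
  rw [Finset.sum_boole]
  congr 1
  rw [numMats, ← Nat.card_eq_finsetCard]
  refine Nat.card_congr
    { toFun := fun f => ⟨fun i l => (f.1 l) i, fun i => ?_, fun l => ?_⟩
      invFun := fun M => ⟨fun l i => M.1 i l, ?_⟩
      left_inv := fun f => rfl
      right_inv := fun M => rfl }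
  · have h := (Finset.mem_filter.1 f.2).2
    simpa [Finsupp.finsetSum_apply] using DFunLike.congr_fun h i
  · have h := Fintype.mem_piFinset.1 (Finset.mem_filter.1 f.2).1 l
    simpa using (Finset.mem_piAntidiag.1 h).1
  · refine Finset.mem_filter.2 ⟨Fintype.mem_piFinset.2 fun l => ?_, ?_⟩
    · simp [Finset.mem_piAntidiag, M.2.2 l]
    · ext i
      simp [Finsupp.finsetSum_apply, M.2.1 i]

/-- The geometric series in `X k`. -/
noncomputable def geo (k : Fin n) : PowerSeries (MvPolynomial (Fin n) ℤ) :=
  PowerSeries.mk fun d => X k ^ d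

/-- `1 - X k t`. -/
noncomputable def lin (k : Fin n) : PowerSeries (MvPolynomial (Fin n) ℤ) :=
  1 - PowerSeries.C (X k) * PowerSeries.X

lemma lin_mul_geo (k : Fin n) : lin k * geo k = 1 := by
  ext1 d
  cases d with
  | zero => simp [lin, geo]
  | succ d => simp [lin, geo, sub_mul, mul_assoc, pow_succ']

lemma coeff_prod_geo (d : ℕ) :
    PowerSeries.coeff d (∏ k : Fin n, geo k) = hP n d := by
  classical
  rw [PowerSeries.coeff_prod]
  unfold hP
  refine Finset.sum_bij' (fun f _ => (f : Fin n → ℕ)) (fun f _ => Finsupp.equivFunOnFinite.symm f)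
    (fun f hf => ?_) (fun f hf => ?_) (fun f _ => by ext; simp) (fun f _ => by ext; simp) (fun f _ => ?_)
  · simpa [Finset.mem_finsuppAntidiag, Finset.mem_piAntidiag] using (Finset.mem_finsuppAntidiag.1 hf).1
  · simpa [Finset.mem_finsuppAntidiag, Finset.mem_piAntidiag] using (Finset.mem_piAntidiag.1 hf).1
  · have h : (Finsupp.equivFunOnFinite.symm (f : Fin n → ℕ)) = f := by ext; simp
    rw [h, monomial_eq, Finsupp.prod_fintype _ _ (fun _ => pow_zero _)]
    simp [geo]

lemma coeff_prod_lin (s : Finset (Fin n)) {m : ℕ} (hm : s.card < m) :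
    PowerSeries.coeff m (∏ k ∈ s, lin k) = 0 := by
  classical
  induction s using Finset.induction_on generalizing m with
  | empty =>
    simp only [Finset.card_empty] at hm
    simp [PowerSeries.coeff_one, hm.ne']
  | insert a s has ih =>
    rw [Finset.card_insert_of_notMem has] at hm
    obtain ⟨k, rfl⟩ : ∃ k, m = k + 1 := ⟨m - 1, by omega⟩
    rw [Finset.prod_insert has]
    simp [lin, sub_mul, mul_assoc]
    simp [lin] at ih
    rw [ih (m := k + 1) (by omega), ih (m := k) (by omega), mul_zero, sub_zero]

/-- Coefficient matrix of `∏_{k ≠ i} (1 - X k t)`. -/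
noncomputable def cMat (n : ℕ) : Matrix (Fin n) (Fin n) (MvPolynomial (Fin n) ℤ) :=
  Matrix.of fun m i => PowerSeries.coeff m.val (∏ k ∈ Finset.univ.erase i, lin k)

/-- The Jacobi–Trudi matrix. -/
noncomputable def hMat (lam : Fin n → ℕ) : Matrix (Fin n) (Fin n) (MvPolynomial (Fin n) ℤ) :=
  Matrix.of fun l m => if m.val ≤ lam l then hP n (lam l - m.val) else 0

/-- The alternant. -/
noncomputable def xMat (lam : Fin n → ℕ) : Matrix (Fin n) (Fin n) (MvPolynomial (Fin n) ℤ) :=
  Matrix.of fun l i => X i ^ lam l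

lemma hMat_mul_cMat (lam : Fin n → ℕ) : hMat lam * cMat n = xMat lam := by
  classical
  ext1 l i
  set Q := ∏ k ∈ Finset.univ.erase i, lin k with hQ
  have hser : Q * ∏ k : Fin n, geo k = geo i := by
    rw [hQ, ← Finset.prod_erase_mul Finset.univ geo (Finset.mem_univ i), ← mul_assoc,
      ← Finset.prod_mul_distrib, Finset.prod_congr rfl (fun k _ => lin_mul_geo k), Finset.prod_const_one,
      one_mul]
  have h := congrArg (PowerSeries.coeff (lam l)) hser
  rw [PowerSeries.coeff_mul, Finset.Nat.sum_antidiagonal_eq_sum_range_succ_mk] at h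
  simp only [coeff_prod_geo] at h
  have hr : PowerSeries.coeff (lam l) (geo i) = X i ^ lam l := by simp [geo]
  rw [hr] at h
  simp only [Matrix.mul_apply, hMat, cMat, xMat, Matrix.of_apply, ← hQ]
  rw [← h]
  have hzero : ∀ m, n ≤ m → PowerSeries.coeff m Q = 0 := fun m hm => coeff_prod_lin _ (by
    rw [Finset.card_erase_of_mem (Finset.mem_univ i), Finset.card_univ, Fintype.card_fin]
    have := i.isLt
    omega)
  rw [Fin.sum_univ_eq_sum_range (fun m => (if m ≤ lam l then hP n (lam l - m) else 0) * PowerSeries.coeff m Q) n]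
  symm
  rw [Finset.sum_congr rfl (fun m hm => (by
    simp only [Finset.mem_range, Nat.lt_succ_iff] at hm
    simp [hm, mul_comm] : PowerSeries.coeff m Q * hP n (lam l - m) =
      (if m ≤ lam l then hP n (lam l - m) else 0) * PowerSeries.coeff m Q))]
  refine Finset.sum_congr_of_eq_on_inter (fun m _ hm => ?_) (fun m _ hm => ?_) (fun m _ _ => rfl)
  · simp only [Finset.mem_range, not_lt] at hm
    simp [hzero m hm]
  · simp only [Finset.mem_range, not_lt] at hm
    simp [show ¬ m ≤ lam l by omega]

lemma det_cMat : (cMat n).det = (xMat (fun i : Fin n => i.val)).det := by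
  classical
  rw [← hMat_mul_cMat, Matrix.det_mul]
  have : (hMat fun i : Fin n => i.val).det = 1 := by
    rw [Matrix.det_of_lowerTriangular _ (fun i j h => by
      simp only [hMat, Matrix.of_apply]
      exact if_neg (Nat.not_le.2 (by simpa using h)))]
    refine Finset.prod_eq_one fun i _ => ?_
    simp only [hMat, hP, Matrix.of_apply, le_refl, if_true, Nat.sub_self, Finset.piAntidiag_zero, Finset.sum_singleton]
    rw [show (Finsupp.equivFunOnFinite.symm (0 : Fin n → ℕ)) = 0 from by ext; simp]
    simp
  rw [this, one_mul]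

lemma det_xMat (lam : Fin n → ℕ) :
    (xMat lam).det = ∑ σ : Equiv.Perm (Fin n),
      monomial (Finsupp.equivFunOnFinite.symm fun i => lam (σ i)) (Equiv.Perm.sign σ : ℤ) := by
  classical
  rw [Matrix.det_apply]
  refine Finset.sum_congr rfl fun σ _ => ?_
  rw [monomial_eq, Finsupp.prod_fintype _ _ (fun _ => pow_zero _)]
  simp [xMat, Units.smul_def, zsmul_eq_mul]

/-- The orthogonality identity. -/
theorem orthogonality {lam mu : Fin n → ℕ} (hl : StrictMono lam) (hm : StrictMono mu) :
    (∑ κ : Equiv.Perm (Fin n), ∑ ρ : Equiv.Perm (Fin n),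
      if (∀ i, (κ i).val ≤ lam i) ∧ ∀ i, (ρ i).val ≤ mu i then
        (Equiv.Perm.sign κ : ℤ) * (Equiv.Perm.sign ρ : ℤ) *
          numMats (fun i => lam i - (κ i).val) (fun i => mu i - (ρ i).val)
      else 0) = if lam = mu then 1 else 0 := by
  classical
  have h : (xMat mu).det = (xMat (fun i : Fin n => i.val)).det * (hMat mu).transpose.det := by
    rw [Matrix.det_transpose, ← hMat_mul_cMat, Matrix.det_mul, det_cMat, mul_comm]
  have hc := congrArg (coeff (Finsupp.equivFunOnFinite.symm lam)) h
  rw [det_xMat, det_xMat, Matrix.det_apply, coeff_sum, Finset.sum_mul_sum, coeff_sum] at hc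
  have hleft : (∑ σ : Equiv.Perm (Fin n), coeff (Finsupp.equivFunOnFinite.symm lam)
      (monomial (Finsupp.equivFunOnFinite.symm fun i => mu (σ i)) (Equiv.Perm.sign σ : ℤ))) =
      if lam = mu then 1 else 0 := by
    by_cases heq : lam = mu
    · rw [if_pos heq, Finset.sum_eq_single (1 : Equiv.Perm (Fin n))]
      · simp [heq]
      · intro σ _ hσ
        rw [coeff_monomial, if_neg]
        intro hh
        refine hσ (Equiv.ext fun i => hm.injective ?_)
        have h1 : mu (σ i) = lam i := by simpa using DFunLike.congr_fun hh i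
        simpa [heq] using h1
      · simp
    · rw [if_neg heq]
      refine Finset.sum_eq_zero fun σ _ => ?_
      rw [coeff_monomial, if_neg]
      intro hh
      have hcomp : ∀ i, mu (σ i) = lam i := fun i => by simpa using DFunLike.congr_fun hh i
      have hmono : StrictMono σ := fun i j hij => by
        have := hl hij
        rw [← hcomp i, ← hcomp j] at this
        exact hm.lt_iff_lt.1 this
      have hid : (σ : Fin n → Fin n) = id := by
        apply hmono.range_inj strictMono_id |>.1
        rw [σ.surjective.range_eq, Set.range_id]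
      exact heq (funext fun i => by rw [← hcomp i]; simp [hid])
  rw [hleft] at hc
  rw [hc]
  refine Finset.sum_congr rfl fun κ _ => ?_
  rw [coeff_sum]
  refine Finset.sum_congr rfl fun ρ _ => ?_
  simp only [Matrix.transpose_apply, Units.smul_def, mul_smul_comm, coeff_smul, coeff_monomial_mul']
  have hle : (Finsupp.equivFunOnFinite.symm fun i => (κ i).val) ≤ Finsupp.equivFunOnFinite.symm lam ↔
      ∀ i, (κ i).val ≤ lam i := by
    simp [Finsupp.le_def]
  have hsub : Finsupp.equivFunOnFinite.symm lam - (Finsupp.equivFunOnFinite.symm fun i => (κ i).val) =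
      Finsupp.equivFunOnFinite.symm fun i => lam i - (κ i).val := by
    ext i; simp
  rw [hsub]
  by_cases hk : ∀ i, (κ i).val ≤ lam i
  swap
  · rw [if_neg (fun hh => hk hh.1), if_neg (hle.not.2 hk), smul_zero]
  rw [if_pos (hle.2 hk)]
  by_cases hr : ∀ i, (ρ i).val ≤ mu i
  · rw [if_pos ⟨hk, hr⟩]
    have hprod : (∏ i, hMat mu i (ρ i)) = ∏ i, hP n (mu i - (ρ i).val) :=
      Finset.prod_congr rfl fun i _ => by simp [hMat, hr i]
    rw [hprod, coeff_prod_hP]
    simp [mul_comm, mul_left_comm]
  · rw [if_neg (fun hh => hr hh.2)]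
    obtain ⟨i, hi⟩ := not_forall.1 hr
    rw [Finset.prod_eq_zero (Finset.mem_univ i) (by simp [hMat, hi])]
    simp

end Cfsg.Agent.Classical.JT
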