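import Mathlib

/-! Jordan chains of nilpotent endomorphisms: existence, uniqueness and similarity. -/

set_option autoImplicit false

namespace Cfsg.Agent.JordanChains

variable {F V V' : Type*} [Field F] [AddCommGroup V] [Module F V] [AddCommGroup V'] [Module F V']

/-- The vectors of a family of chains. -/
def chainVec (N : Module.End F V) {s : ℕ} (k : Fin s → ℕ) (v : Fin s → V) (x : Σ i, Fin (k i)) : V :=
  (N ^ (x.2 : ℕ)) (v x.1)

/-- `v` generates chains of lengths `k` forming a basis. -/
def IsChains (N : Module.End F V) {s : ℕ} (k : Fin s → ℕ) (v : Fin s → V) : Prop :=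
  (∀ i, 0 < k i) ∧ (∀ i, (N ^ k i) (v i) = 0) ∧ LinearIndependent F (chainVec N k v) ∧
    ⊤ ≤ Submodule.span F (Set.range (chainVec N k v))

theorem pow_succ_apply (N : Module.End F V) (j : ℕ) (x : V) : (N ^ (j + 1)) x = N ((N ^ j) x) := by
  rw [pow_succ']; rfl

theorem pow_succ_apply' (N : Module.End F V) (j : ℕ) (x : V) : (N ^ (j + 1)) x = (N ^ j) (N x) := by
  rw [pow_succ]; rfl

theorem exists_chains_aux (d : ℕ) : ∀ (W : Type _) [AddCommGroup W] [Module F W] [FiniteDimensional F W],
    Module.finrank F W = d → ∀ N : Module.End F W, IsNilpotent N →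
      ∃ (s : ℕ) (k : Fin s → ℕ) (v : Fin s → W), IsChains N k v := by
  induction d using Nat.strong_induction_on with
  | _ d ih =>
    intro W _ _ _ hW N hN
    by_cases hd : Module.finrank F W = 0
    · haveI := Module.finrank_zero_iff.1 hd
      exact ⟨0, Fin.elim0, Fin.elim0, fun i => i.elim0, fun i => i.elim0, linearIndependent_empty_type,
        fun x _ => by rw [Subsingleton.elim x 0]; exact Submodule.zero_mem _⟩
    set R : Submodule F W := LinearMap.range N
    have hR : ∀ x ∈ R, N x ∈ R := fun x _ => LinearMap.mem_range_self N x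
    have hlt : Module.finrank F R < d := hW ▸ Submodule.finrank_lt (fun htop => by
      obtain ⟨e, he⟩ := hN
      have hsurj : Function.Surjective (N ^ e) := by
        rw [Module.End.coe_pow]; exact (LinearMap.range_eq_top.1 htop).iterate e
      haveI : Subsingleton W := ⟨fun a b => by
        obtain ⟨a', rfl⟩ := hsurj a; obtain ⟨b', rfl⟩ := hsurj b; rw [he]; rfl⟩
      exact hd Module.finrank_zero_of_subsingleton)
    have hres : ∀ (j : ℕ) (x : R), ((N.restrict hR ^ j) x : W) = (N ^ j) (x : W) := by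
      intro j
      induction j with
      | zero => intro x; rfl
      | succ j ihj => intro x; rw [pow_succ_apply, pow_succ_apply, ← ihj]; rfl
    obtain ⟨s, k, v, hk, hkv, hli, hsp⟩ := ih _ hlt R rfl (N.restrict hR) (by
      obtain ⟨e, he⟩ := hN
      exact ⟨e, LinearMap.ext fun x => Subtype.ext (by rw [hres, he]; rfl)⟩)
    choose w hw using fun i => (v i).2
    have hNw : ∀ i j, (N ^ (j + 1)) (w i) = ((N.restrict hR ^ j) (v i) : W) := fun i j => by
      rw [hres, pow_succ_apply', hw]
    have hz : ∀ i, (N ^ (k i + 1)) (w i) = 0 := fun i => by rw [hNw, hkv]; rfl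
    let last : Fin s → LinearMap.ker N := fun i =>
      ⟨(N ^ k i) (w i), by rw [LinearMap.mem_ker, ← pow_succ_apply, hz]⟩
    obtain ⟨C, hC⟩ := Submodule.exists_isCompl (Submodule.span F (Set.range last))
    let bC := Module.finBasis F C
    have hlast : LinearIndependent F last := by
      refine LinearIndependent.of_comp (LinearMap.ker N).subtype ?_
      have h := (hli.comp (fun i : Fin s => (⟨i, ⟨k i - 1, by have := hk i; omega⟩⟩ : Σ i, Fin (k i)))
        fun i j e => congrArg Sigma.fst e).map' R.subtype R.ker_subtype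
      rw [show ((LinearMap.ker N).subtype ∘ last) = fun i => ((N.restrict hR ^ (k i - 1)) (v i) : W) from
        funext fun i => by
          show (N ^ k i) (w i) = _
          rw [← hNw, Nat.sub_add_cancel (hk i)]]
      exact h
    set c := Module.finrank F C
    let K : Fin (s + c) → ℕ := Fin.append (fun i => k i + 1) (fun _ => 1)
    let U : Fin (s + c) → W := Fin.append w (fun j => ((bC j : LinearMap.ker N) : W))
    set S := Submodule.span F (Set.range (chainVec N K U))
    have hUw : ∀ i j, j ≤ k i → (N ^ j) (w i) ∈ S := fun i j hj => Submodule.subset_span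
      ⟨⟨Fin.castAdd c i, ⟨j, by show j < K _; simp only [K, Fin.append_left]; omega⟩⟩, by
        show (N ^ j) (U _) = _; simp only [U, Fin.append_left]⟩
    have hUC : ∀ j, ((bC j : LinearMap.ker N) : W) ∈ S := fun j => Submodule.subset_span
      ⟨⟨Fin.natAdd s j, ⟨0, by show 0 < K _; simp only [K, Fin.append_right]; omega⟩⟩, by
        show (N ^ 0) (U _) = _; simp only [U, Fin.append_right, pow_zero]; rfl⟩
    have hK : LinearMap.ker N ≤ S := by
      intro x hx
      have hmem : (⟨x, hx⟩ : LinearMap.ker N) ∈ Submodule.span F (Set.range last) ⊔ C := by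
        rw [hC.sup_eq_top]; trivial
      obtain ⟨a, ha, b, hb, e⟩ := Submodule.mem_sup.1 hmem
      rw [← show ((a : W) + (b : W)) = x from congrArg Subtype.val e]
      refine S.add_mem ?_ ?_
      · have h := Submodule.mem_map_of_mem (f := (LinearMap.ker N).subtype) ha
        rw [Submodule.map_span] at h
        refine (Submodule.span_le.2 ?_) h
        rintro _ ⟨_, ⟨i, rfl⟩, rfl⟩
        exact hUw i (k i) le_rfl
      · rw [← show (((∑ i, bC.repr ⟨b, hb⟩ i • bC i : C) : LinearMap.ker N) : W) = (b : W) from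
          congrArg (fun y : C => ((y : LinearMap.ker N) : W)) (bC.sum_repr ⟨b, hb⟩)]
        simp only [Submodule.coe_sum, Submodule.coe_smul]
        exact Submodule.sum_mem _ fun i _ => S.smul_mem _ (hUC i)
    have hspan : ⊤ ≤ S := by
      intro y _
      obtain ⟨cf, hcf⟩ := (Submodule.mem_span_range_iff_exists_fun F).1 (hsp (Submodule.mem_top
        (x := (⟨N y, LinearMap.mem_range_self N y⟩ : R))))
      have hsum : ∑ x, cf x • (N ^ (x.2 : ℕ)) (w x.1) ∈ S :=
        S.sum_mem fun x _ => S.smul_mem _ (hUw _ _ x.2.2.le)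
      have hy : y - ∑ x, cf x • (N ^ (x.2 : ℕ)) (w x.1) ∈ LinearMap.ker N := by
        rw [LinearMap.mem_ker, map_sub, map_sum, sub_eq_zero]
        have h := congrArg Subtype.val hcf
        rw [Submodule.coe_sum] at h
        refine h.symm.trans (Finset.sum_congr rfl fun x _ => ?_)
        rw [map_smul, Submodule.coe_smul, ← pow_succ_apply, hNw]
        rfl
      have := S.add_mem (hK hy) hsum
      rwa [sub_add_cancel] at this
    have hcard : Fintype.card (Σ i, Fin (K i)) = Module.finrank F W := by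
      rw [Fintype.card_sigma]
      simp only [Fintype.card_fin, K, Fin.sum_univ_add, Fin.append_left, Fin.append_right, Finset.sum_add_distrib,
        Finset.sum_const, Finset.card_univ, smul_eq_mul, mul_one]
      have h1 := Module.finrank_eq_card_basis (Module.Basis.mk hli hsp)
      rw [Fintype.card_sigma] at h1
      simp only [Fintype.card_fin] at h1
      have h2 := Submodule.finrank_add_eq_of_isCompl hC
      rw [finrank_span_eq_card hlast, Fintype.card_fin] at h2
      have h3 : Module.finrank F R + Module.finrank F (LinearMap.ker N) = Module.finrank F W :=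
        N.finrank_range_add_finrank_ker
      omega
    refine ⟨s + c, K, U, fun i => ?_, fun i => ?_, linearIndependent_of_top_le_span_of_card_eq_finrank hspan hcard,
      hspan⟩
    · refine Fin.addCases (fun i => ?_) (fun i => ?_) i <;> simp [K]
    · refine Fin.addCases (fun i => ?_) (fun i => ?_) i
      · simp only [K, U, Fin.append_left]; exact hz i
      · simp only [K, U, Fin.append_right, pow_one]; exact LinearMap.mem_ker.1 (bC i : LinearMap.ker N).2

theorem exists_chains [FiniteDimensional F V] {N : Module.End F V} (hN : IsNilpotent N) :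
    ∃ (s : ℕ) (k : Fin s → ℕ) (v : Fin s → V), IsChains N k v :=
  exists_chains_aux _ V rfl N hN

variable {N : Module.End F V} {s : ℕ} {k : Fin s → ℕ} {v : Fin s → V}

theorem IsChains.pow_eq_zero_of_le (h : IsChains N k v) (i : Fin s) {j : ℕ} (hj : k i ≤ j) : (N ^ j) (v i) = 0 := by
  obtain ⟨t, rfl⟩ := Nat.exists_eq_add_of_le hj
  rw [add_comm, pow_add]
  show (N ^ t) ((N ^ k i) (v i)) = 0
  rw [h.2.1, map_zero]

theorem IsChains.finrank_eq [FiniteDimensional F V] (h : IsChains N k v) : Module.finrank F V = ∑ i, k i := by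
  rw [Module.finrank_eq_card_basis (Module.Basis.mk h.2.2.1 h.2.2.2), Fintype.card_sigma]
  simp

theorem IsChains.finrank_range (h : IsChains N k v) (l : ℕ) :
    Module.finrank F (LinearMap.range (N ^ l)) = ∑ i, (k i - l) := by
  let e : (Σ i, Fin (k i - l)) → Σ i, Fin (k i) := fun x => ⟨x.1, ⟨(x.2 : ℕ) + l, by omega⟩⟩
  have he : Function.Injective e := by
    rintro ⟨i, a⟩ ⟨j, b⟩ hab
    obtain rfl : i = j := congrArg Sigma.fst hab
    have := congrArg Fin.val (eq_of_heq (Sigma.mk.inj hab).2)
    exact congrArg _ (Fin.ext (by simpa using this))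
  have hr : LinearMap.range (N ^ l) = Submodule.span F (Set.range (chainVec N k v ∘ e)) := by
    refine le_antisymm ?_ ?_
    · rw [LinearMap.range_eq_map, ← top_le_iff.1 h.2.2.2, Submodule.map_span_le]
      rintro _ ⟨⟨i, a⟩, rfl⟩
      show (N ^ l) ((N ^ (a : ℕ)) (v i)) ∈ _
      rw [show (N ^ l) ((N ^ (a : ℕ)) (v i)) = (N ^ ((a : ℕ) + l)) (v i) by rw [add_comm, pow_add]; rfl]
      by_cases ha : (a : ℕ) + l < k i
      · exact Submodule.subset_span ⟨⟨i, ⟨a, by omega⟩⟩, rfl⟩
      · rw [h.pow_eq_zero_of_le i (by omega)]; exact Submodule.zero_mem _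
    · rw [Submodule.span_le]
      rintro _ ⟨⟨i, a⟩, rfl⟩
      refine ⟨(N ^ (a : ℕ)) (v i), ?_⟩
      show (N ^ l) ((N ^ (a : ℕ)) (v i)) = (N ^ ((a : ℕ) + l)) (v i)
      rw [add_comm, pow_add]; rfl
  rw [hr, finrank_span_eq_card (h.2.2.1.comp e he), Fintype.card_sigma]
  simp

/-- Multisets of positive integers are determined by their truncated sums. -/
theorem multiset_eq_of_sums {s' : ℕ} {k : Fin s → ℕ} {k' : Fin s' → ℕ} (hk : ∀ i, 0 < k i) (hk' : ∀ i, 0 < k' i)
    (h : ∀ l, ∑ i, (k i - l) = ∑ i, (k' i - l)) : Finset.univ.val.map k = Finset.univ.val.map k' := by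
  have hg : ∀ (s : ℕ) (k : Fin s → ℕ) (l : ℕ),
      ∑ i, (k i - l) = ∑ i, (k i - (l + 1)) + (Finset.univ.filter fun i => l < k i).card := fun s k l => by
    rw [Finset.card_filter, ← Finset.sum_add_distrib]
    exact Finset.sum_congr rfl fun i _ => by split_ifs <;> omega
  have hgt : ∀ l, (Finset.univ.filter fun i => l < k i).card = (Finset.univ.filter fun i => l < k' i).card := fun l => by
    have h1 := hg _ k l; have h2 := hg _ k' l; have := h l; have := h (l + 1); omega
  have hs : ∀ (s : ℕ) (k : Fin s → ℕ) (a : ℕ), (Finset.univ.val.map k).count (a + 1) +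
      (Finset.univ.filter fun i => a + 1 < k i).card = (Finset.univ.filter fun i => a < k i).card := fun s k a => by
    rw [Multiset.count_map, ← Finset.filter_val, Finset.card_val, ← Finset.card_union_of_disjoint]
    · congr 1; ext i; simp; omega
    · rw [Finset.disjoint_filter]; intro i _ h1; omega
  refine Multiset.ext.2 fun a => ?_
  rcases a with _ | a
  · rw [Multiset.count_eq_zero.2 (by simpa using fun i => (hk i).ne'),
      Multiset.count_eq_zero.2 (by simpa using fun i => (hk' i).ne')]
  · have h1 := hs _ k a; have h2 := hs _ k' a; have := hgt a; have := hgt (a + 1); omega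

open Classical in
/-- The Jordan type. -/
noncomputable def parts (N : Module.End F V) : Multiset ℕ :=
  if h : ∃ (s : ℕ) (k : Fin s → ℕ) (v : Fin s → V), IsChains N k v then
    Finset.univ.val.map h.choose_spec.choose else 0

theorem IsChains.parts_eq (h : IsChains N k v) : parts N = Finset.univ.val.map k := by
  have hex : ∃ (s : ℕ) (k : Fin s → ℕ) (v : Fin s → V), IsChains N k v := ⟨s, k, v, h⟩
  rw [parts, dif_pos hex]
  obtain ⟨w, hw⟩ := hex.choose_spec.choose_spec
  exact multiset_eq_of_sums hw.1 h.1 fun l => by rw [← hw.finrank_range, ← h.finrank_range]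

theorem finrank_range_eq [FiniteDimensional F V] (hN : IsNilpotent N) (l : ℕ) :
    Module.finrank F (LinearMap.range (N ^ l)) = ((parts N).map fun a => a - l).sum := by
  obtain ⟨s, k, v, h⟩ := exists_chains hN
  rw [h.finrank_range, h.parts_eq, Multiset.map_map]
  rfl

theorem sum_parts [FiniteDimensional F V] (hN : IsNilpotent N) : (parts N).sum = Module.finrank F V := by
  obtain ⟨s, k, v, h⟩ := exists_chains hN
  rw [h.finrank_eq, h.parts_eq]
  rfl

theorem pos_of_mem_parts [FiniteDimensional F V] (hN : IsNilpotent N) {a : ℕ} (ha : a ∈ parts N) : 0 < a := by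
  obtain ⟨s, k, v, h⟩ := exists_chains hN
  rw [h.parts_eq, Multiset.mem_map] at ha
  obtain ⟨i, -, rfl⟩ := ha
  exact h.1 i

theorem pow_eq_zero_iff [FiniteDimensional F V] (hN : IsNilpotent N) (l : ℕ) :
    N ^ l = 0 ↔ ∀ a ∈ parts N, a ≤ l := by
  rw [← LinearMap.range_eq_bot, ← Submodule.finrank_eq_zero, finrank_range_eq hN, Multiset.sum_eq_zero_iff]
  simp only [Multiset.mem_map, forall_exists_index, and_imp, forall_apply_eq_imp_iff₂]
  exact forall₂_congr fun a _ => Nat.sub_eq_zero_iff_le

theorem eq_zero_iff [FiniteDimensional F V] (hN : IsNilpotent N) : N = 0 ↔ ∀ a ∈ parts N, a = 1 := by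
  rw [← pow_one N, pow_eq_zero_iff hN, pow_one]
  exact forall₂_congr fun a ha => ⟨fun h => le_antisymm h (pos_of_mem_parts hN ha), fun h => h.le⟩

/-- Nilpotent maps with equal types are conjugate. -/
theorem exists_equiv [FiniteDimensional F V] [FiniteDimensional F V'] {N' : Module.End F V'} (hN : IsNilpotent N)
    (hN' : IsNilpotent N') (h : parts N = parts N') : ∃ e : V ≃ₗ[F] V', ∀ x, e (N x) = N' (e x) := by
  classical
  obtain ⟨s, k, v, hc⟩ := exists_chains hN
  obtain ⟨s', k', v', hc'⟩ := exists_chains hN'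
  rw [hc.parts_eq, hc'.parts_eq] at h
  have hfib : ∀ a, {i // k i = a} ≃ {i // k' i = a} := fun a => Fintype.equivOfCardEq (by
    have h1 := congrArg (Multiset.count a) h
    rw [Multiset.count_map, Multiset.count_map, ← Finset.filter_val, ← Finset.filter_val] at h1
    rw [Fintype.card_subtype, Fintype.card_subtype]
    simp only [eq_comm (a := a)] at h1
    exact h1)
  let π : Fin s ≃ Fin s' := Equiv.ofFiberEquiv hfib
  have hπ : ∀ i, k' (π i) = k i := fun i => Equiv.ofFiberEquiv_map hfib i
  let σ : (Σ i, Fin (k i)) ≃ Σ i, Fin (k' i) :=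
    Equiv.sigmaCongr π fun i => finCongr (hπ i).symm
  let b := Module.Basis.mk hc.2.2.1 hc.2.2.2
  let b' := Module.Basis.mk hc'.2.2.1 hc'.2.2.2
  let e := b.equiv b' σ
  have he : ∀ i j, e ((N ^ j) (v i)) = (N' ^ j) (v' (π i)) := fun i j => by
    by_cases hj : j < k i
    · have h1 : b ⟨i, ⟨j, hj⟩⟩ = (N ^ j) (v i) := Module.Basis.mk_apply _ _ _
      rw [← h1, Module.Basis.equiv_apply, Module.Basis.mk_apply]
      rfl
    · rw [hc.pow_eq_zero_of_le i (by omega), map_zero, hc'.pow_eq_zero_of_le _ (by rw [hπ]; omega)]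
  refine ⟨e, fun x => ?_⟩
  suffices H : e.toLinearMap ∘ₗ N = N' ∘ₗ e.toLinearMap from LinearMap.congr_fun H x
  refine b.ext fun x => ?_
  show e (N (b x)) = N' (e (b x))
  rw [Module.Basis.mk_apply]
  show e (N ((N ^ (x.2 : ℕ)) (v x.1))) = N' (e ((N ^ (x.2 : ℕ)) (v x.1)))
  rw [← pow_succ_apply, he, he, ← pow_succ_apply]

/-- Transport of chains along an intertwining equivalence. -/
theorem parts_congr [FiniteDimensional F V] {N' : Module.End F V'} (hN : IsNilpotent N) (e : V ≃ₗ[F] V')
    (he : ∀ x, e (N x) = N' (e x)) : parts N' = parts N := by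
  obtain ⟨s, k, v, h⟩ := exists_chains hN
  have hp : ∀ j x, e ((N ^ j) x) = (N' ^ j) (e x) := fun j => by
    induction j with
    | zero => intro x; rfl
    | succ j ih => intro x; rw [pow_succ_apply, he, ih, pow_succ_apply]
  have hv : chainVec N' k (e ∘ v) = e ∘ chainVec N k v := funext fun x => (hp _ _).symm
  have h' : IsChains N' k (e ∘ v) := ⟨h.1, fun i => by show (N' ^ k i) (e (v i)) = 0; rw [← hp, h.2.1, map_zero],
    hv ▸ h.2.2.1.map' e.toLinearMap e.ker, by
      rw [hv, Set.range_comp, show (e : V → V') = e.toLinearMap from rfl, ← Submodule.map_span, top_le_iff.1 h.2.2.2,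
        Submodule.map_top, LinearEquiv.range]⟩
  rw [h'.parts_eq, h.parts_eq]

/-- The shift operator with prescribed block lengths. -/
noncomputable def blocksShift (F : Type*) [Field F] {s : ℕ} (k : Fin s → ℕ) :
    Module.End F ((Σ i, Fin (k i)) → F) :=
  (Pi.basisFun F _).constr F fun x =>
    if h : (x.2 : ℕ) + 1 < k x.1 then Pi.single (⟨x.1, ⟨(x.2 : ℕ) + 1, h⟩⟩ : Σ i, Fin (k i)) 1 else 0

theorem blocksShift_chains {s : ℕ} {k : Fin s → ℕ} (hk : ∀ i, 0 < k i) :
    IsChains (blocksShift F k) k (fun i => Pi.single (⟨i, ⟨0, hk i⟩⟩ : Σ i, Fin (k i)) 1) ∧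
      IsNilpotent (blocksShift F k) := by
  classical
  have hs : ∀ x : Σ i, Fin (k i), blocksShift F k (Pi.single x 1) =
      if h : (x.2 : ℕ) + 1 < k x.1 then Pi.single (⟨x.1, ⟨(x.2 : ℕ) + 1, h⟩⟩ : Σ i, Fin (k i)) 1 else 0 := fun x => by
    rw [← Pi.basisFun_apply F (Σ i, Fin (k i)) x, blocksShift, Module.Basis.constr_basis]
  have hp : ∀ (i : Fin s) (j : ℕ), (blocksShift F k ^ j) (Pi.single (⟨i, ⟨0, hk i⟩⟩ : Σ i, Fin (k i)) 1) =
      if h : j < k i then Pi.single (⟨i, ⟨j, h⟩⟩ : Σ i, Fin (k i)) 1 else 0 := fun i j => by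
    induction j with
    | zero => rw [dif_pos (hk i)]; rfl
    | succ j ih =>
      rw [pow_succ_apply, ih]
      by_cases h : j < k i
      · rw [dif_pos h, hs]
      · rw [dif_neg h, dif_neg (by omega), map_zero]
  have hv : chainVec (blocksShift F k) k (fun i => Pi.single (⟨i, ⟨0, hk i⟩⟩ : Σ i, Fin (k i)) 1) =
      fun x => Pi.single x 1 := funext fun x => by rw [chainVec, hp, dif_pos x.2.2]
  have hb : (fun x : Σ i, Fin (k i) => (Pi.single x 1 : (Σ i, Fin (k i)) → F)) = Pi.basisFun F _ :=
    funext fun x => (Pi.basisFun_apply F _ x).symm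
  refine ⟨⟨hk, fun i => by rw [hp, dif_neg (by omega)], ?_, ?_⟩, ⟨Finset.univ.sup k, ?_⟩⟩
  · rw [hv, hb]; exact (Pi.basisFun F _).linearIndependent
  · rw [hv, hb, (Pi.basisFun F _).span_eq]
  · refine (Pi.basisFun F _).ext fun x => ?_
    rw [Pi.basisFun_apply, LinearMap.zero_apply, ← dif_pos (c := (x.2 : ℕ) < k x.1)
      (t := fun h => (Pi.single (⟨x.1, ⟨(x.2 : ℕ), h⟩⟩ : Σ i, Fin (k i)) 1 : (Σ i, Fin (k i)) → F)) (e := fun _ => 0) x.2.2,
      ← hp]
    show ((blocksShift F k ^ Finset.univ.sup k) * (blocksShift F k ^ (x.2 : ℕ))) _ = 0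
    rw [← pow_add, hp, dif_neg]
    have := Finset.le_sup (f := k) (Finset.mem_univ x.1)
    omega

/-- Every multiset of positive integers of sum `finrank V` is a Jordan type. -/
theorem exists_parts_eq [FiniteDimensional F V] (μ : Multiset ℕ) (hμ : ∀ a ∈ μ, 0 < a)
    (hsum : μ.sum = Module.finrank F V) : ∃ N : Module.End F V, IsNilpotent N ∧ parts N = μ := by
  obtain ⟨l, rfl⟩ : ∃ l : List ℕ, (l : Multiset ℕ) = μ := ⟨μ.toList, μ.coe_toList⟩
  let k : Fin l.length → ℕ := l.get
  obtain ⟨hc, hn⟩ := blocksShift_chains (F := F) (k := k) fun i => hμ _ (List.getElem_mem i.2)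
  have hparts : parts (blocksShift F k) = (l : Multiset ℕ) := by
    rw [hc.parts_eq, Fin.univ_def]
    show ((List.finRange l.length).map l.get : Multiset ℕ) = _
    rw [← List.ofFn_eq_map, List.ofFn_get]
  have hrk : Module.finrank F ((Σ i, Fin (k i)) → F) = Module.finrank F V := by
    rw [← sum_parts hn, hparts, hsum]
  let e := LinearEquiv.ofFinrankEq _ _ hrk
  refine ⟨e.conj (blocksShift F k), hn.map (e.conjAlgEquiv F), ?_⟩
  rw [parts_congr hn e (fun x => by simp [LinearEquiv.conj_apply]), hparts]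

end Cfsg.Agent.JordanChains
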