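import Mathlib

/-! Lattice complements of subgroups relative to a unique maximal overgroup. -/

namespace Cfsg.Agent.Classical

open Subgroup

variable {G : Type*} [Group G]

/-- If `[X/T]` is complemented and `M` is the only maximal subgroup over `X`, every `H` outside `M`
meeting `T` trivially has a lattice complement. -/
theorem exists_complement_of_unique_maximal [Finite G] (T X M : Subgroup G) (hTX : T ≤ X)
    (hint : ∀ Y : Subgroup G, T ≤ Y → Y ≤ X →
      ∃ C : Subgroup G, T ≤ C ∧ C ≤ X ∧ Y ⊔ C = X ∧ Y ⊓ C = T)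
    (huniq : ∀ M' : Subgroup G, IsCoatom M' → X ≤ M' → M' = M) (H : Subgroup G) (hH : ¬ H ≤ M)
    (hHT : H ⊓ T = ⊥) : ∃ C : Subgroup G, H ⊔ C = ⊤ ∧ H ⊓ C = ⊥ := by
  obtain ⟨C, hTC, hCX, hsup, hinf⟩ := hint ((H ⊓ X) ⊔ T) le_sup_right (sup_le inf_le_right hTX)
  refine ⟨C, ?_, ?_⟩
  · have hX : X ≤ H ⊔ C := by
      rw [← hsup]
      exact sup_le (sup_le (inf_le_left.trans le_sup_left) (hTC.trans le_sup_right)) le_sup_right
    rcases eq_top_or_exists_le_coatom (H ⊔ C) with h | ⟨M', hM', hle⟩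
    · exact h
    · exact absurd (huniq M' hM' (hX.trans hle) ▸ le_sup_left.trans hle) hH
  · refine le_bot_iff.mp ?_
    rw [← hHT]
    refine le_inf inf_le_left ?_
    rw [← hinf]
    exact le_inf ((le_inf inf_le_left (inf_le_right.trans hCX)).trans le_sup_left) inf_le_right

/-- Having a lattice complement is invariant under conjugation. -/
theorem exists_complement_of_map_conj (g : G) (H : Subgroup G)
    (h : ∃ C : Subgroup G, H.map (MulAut.conj g).toMonoidHom ⊔ C = ⊤ ∧
      H.map (MulAut.conj g).toMonoidHom ⊓ C = ⊥) :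
    ∃ C : Subgroup G, H ⊔ C = ⊤ ∧ H ⊓ C = ⊥ := by
  obtain ⟨C, h1, h2⟩ := h
  let e : Subgroup G ≃o Subgroup G := (MulAut.conj g).mapSubgroup
  refine ⟨e.symm C, ?_, ?_⟩
  · apply e.injective
    rw [e.map_sup, e.apply_symm_apply, e.map_top]
    exact h1
  · apply e.injective
    rw [e.map_inf, e.apply_symm_apply, e.map_bot]
    exact h2

end Cfsg.Agent.Classical
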