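import Mathlib

/-!
Elementary abelian two-groups of permutations.
-/

set_option autoImplicit false

namespace Cfsg.Agent.Classical.OrthFrame

open Equiv Equiv.Perm

variable {α : Type*} [Fintype α] [DecidableEq α]

/-- A commuting set of involutions. -/
def ElemTwo (P : Subgroup (Perm α)) : Prop :=
  (∀ a ∈ P, ∀ b ∈ P, a * b = b * a) ∧ ∀ a ∈ P, a * a = 1

theorem ElemTwo.isPGroup {P : Subgroup (Perm α)} (hP : ElemTwo P) : IsPGroup 2 P := fun g =>
  ⟨1, by rw [pow_one, pow_two]; exact Subtype.ext (hP.2 g g.2)⟩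

theorem ElemTwo.mono {P Q : Subgroup (Perm α)} (hP : ElemTwo P) (h : Q ≤ P) : ElemTwo Q :=
  ⟨fun a ha b hb => hP.1 a (h ha) b (h hb), fun a ha => hP.2 a (h ha)⟩

theorem sq_le_two_pow {m : ℕ} (h : m ≠ 3) : m * m ≤ 2 ^ m := by
  induction m with
  | zero => simp
  | succ k ih =>
    rcases Nat.lt_or_ge k 4 with hk | hk
    · interval_cases k <;> simp_all
    · have := ih (by omega)
      rw [pow_succ]
      nlinarith

/-- An elementary abelian two-group moving only points of `U` has order at most `√(2 ^ |U|)`. -/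
theorem ElemTwo.card_sq_le {P : Subgroup (Perm α)} (hP : ElemTwo P) (U : Finset α)
    (hU : ∀ p ∈ P, ∀ x, x ∉ U → p x = x) : Nat.card P * Nat.card P ≤ 2 ^ U.card := by
  classical
  induction U using Finset.strongInduction generalizing P with
  | H U ih =>
    by_cases hmv : ∀ p ∈ P, ∀ x, p x = x
    · have hbot : P = ⊥ := (Subgroup.eq_bot_iff_forall _).2 fun p hp => Equiv.ext (hmv p hp)
      rw [hbot, Subgroup.card_bot]
      exact Nat.one_le_pow _ _ (by norm_num)
    push Not at hmv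
    obtain ⟨p₀, hp₀, a, ha⟩ := hmv
    haveI : Fact (Nat.Prime 2) := ⟨Nat.prime_two⟩
    obtain ⟨O, hO⟩ : ∃ O : Finset α, O = (MulAction.orbit P a).toFinset := ⟨_, rfl⟩
    obtain ⟨k, hk⟩ := hP.isPGroup.card_orbit a
    have hOc : O.card = 2 ^ k := by rw [hO, Set.toFinset_card, ← Nat.card_eq_fintype_card, hk]
    have haO : a ∈ O := by rw [hO, Set.mem_toFinset]; exact MulAction.mem_orbit_self a
    have hOU : O ⊆ U := fun x hx => by
      by_contra hxU
      rw [hO, Set.mem_toFinset] at hx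
      obtain ⟨⟨p, hp⟩, rfl⟩ := hx
      have h1 := hU p hp _ hxU
      change p (p a) = p a at h1
      have h2 := p.injective h1
      have h3 := hU p₀ hp₀ a (fun h => hxU (by show p a ∈ U; rwa [h2]))
      exact ha h3
    obtain ⟨P', hP'⟩ : ∃ P' : Subgroup (Perm α), P' = (MulAction.stabilizer P a).map P.subtype := ⟨_, rfl⟩
    have hle : P' ≤ P := hP' ▸ Subgroup.map_subtype_le _
    have hfix : ∀ p ∈ P', ∀ x, x ∉ U \ O → p x = x := fun p hp x hx => by
      rw [Finset.mem_sdiff, not_and_or, not_not] at hx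
      rcases hx with hx | hx
      · exact hU p (hle hp) x hx
      rw [hO, Set.mem_toFinset] at hx
      obtain ⟨⟨q, hq⟩, rfl⟩ := hx
      rw [hP'] at hp
      obtain ⟨⟨p, hpP⟩, hpa, rfl⟩ := hp
      show p (q a) = q a
      rw [← Perm.mul_apply, hP.1 p hpP q hq, Perm.mul_apply]
      exact congrArg q hpa
    have h1 := ih (U \ O) (Finset.sdiff_ssubset hOU ⟨a, haO⟩) (hP.mono hle) hfix
    have hcard : Nat.card P = O.card * Nat.card P' := by
      rw [hP', Nat.card_congr (Subgroup.equivMapOfInjective _ _ P.subtype_injective).toEquiv.symm,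
        ← (MulAction.stabilizer P a).index_mul_card, MulAction.index_stabilizer, hO, Set.toFinset_card,
        ← Nat.card_eq_fintype_card, ← Nat.card_coe_set_eq]
    have hO3 : O.card ≠ 3 := fun e => by
      rw [hOc] at e
      rcases k with - | - | k <;> simp [pow_succ] at e <;> omega
    have h2 := sq_le_two_pow hO3
    have h3 : U.card = O.card + (U \ O).card := by
      rw [Finset.card_sdiff_of_subset hOU]
      have := Finset.card_le_card hOU
      omega
    rw [hcard, h3, pow_add, mul_mul_mul_comm]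
    exact Nat.mul_le_mul h2 h1

/-- The part fixing an invariant set is large. -/
theorem ElemTwo.card_fixing {P : Subgroup (Perm α)} (hP : ElemTwo P) (T : Finset α)
    (hT : ∀ p ∈ P, ∀ x ∈ T, p x ∈ T) :
    Nat.card P * Nat.card P ≤ 2 ^ T.card *
      (Nat.card {p // p ∈ P ∧ ∀ x ∈ T, p x = x} * Nat.card {p // p ∈ P ∧ ∀ x ∈ T, p x = x}) := by
  classical
  have hiff : ∀ p ∈ P, ∀ x, p x ∈ T ↔ x ∈ T := fun p hp x => ⟨fun h => by
    have := hT p hp _ h
    rwa [← Perm.mul_apply, hP.2 p hp, Perm.one_apply] at this, hT p hp x⟩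
  let f : P →* Perm {x // x ∈ T} :=
    { toFun := fun p => (p : Perm α).subtypePerm (hiff p p.2)
      map_one' := Equiv.ext fun x => Subtype.ext rfl
      map_mul' := fun p q => Equiv.ext fun x => Subtype.ext rfl }
  have hR : ElemTwo f.range := ⟨fun a ha b hb => by
    obtain ⟨a, rfl⟩ := ha
    obtain ⟨b, rfl⟩ := hb
    rw [← map_mul, ← map_mul]
    exact congrArg f (Subtype.ext (hP.1 a a.2 b b.2)), fun a ha => by
    obtain ⟨a, rfl⟩ := ha
    rw [← map_mul, show a * a = 1 from Subtype.ext (hP.2 a a.2), map_one]⟩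
  have h1 := hR.card_sq_le Finset.univ (fun _ _ x hx => absurd (Finset.mem_univ x) hx)
  rw [Finset.card_univ, Fintype.card_coe] at h1
  have hker : Nat.card f.ker = Nat.card {p // p ∈ P ∧ ∀ x ∈ T, p x = x} :=
    Nat.card_congr
      { toFun := fun p => ⟨p.1.1, p.1.2, fun x hx =>
          congrArg Subtype.val (Equiv.congr_fun (MonoidHom.mem_ker.1 p.2) ⟨x, hx⟩)⟩
        invFun := fun p => ⟨⟨p.1, p.2.1⟩, MonoidHom.mem_ker.2 (Equiv.ext fun x => Subtype.ext (p.2.2 x x.2))⟩
        left_inv := fun p => rfl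
        right_inv := fun p => rfl }
  have hc : Nat.card P = Nat.card f.range * Nat.card f.ker := by
    rw [← Subgroup.index_ker, Subgroup.index_mul_card]
  rw [hc, hker, mul_mul_mul_comm]
  exact Nat.mul_le_mul_right _ h1

/-- A set of commuting involutions on `B` invariant under the three-cycles of `B` is trivial. -/
theorem eq_one_of_invariant {B : Finset α} (hB3 : 3 ≤ B.card) (hB4 : B.card ≠ 4) (P : Set (Perm α))
    (hcomm : ∀ a ∈ P, ∀ b ∈ P, a * b = b * a)
    (hcyc : ∀ a ∈ P, ∀ x ∈ B, ∀ y ∈ B, ∀ z ∈ B, x ≠ y → y ≠ z → x ≠ z →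
      (swap x y * swap y z) * a * (swap x y * swap y z)⁻¹ ∈ P)
    {π : Perm α} (hπ : π ∈ P) (hinv : π * π = 1) (hsupp : ∀ x, x ∉ B → π x = x) : π = 1 := by
  by_contra hne
  obtain ⟨a, ha⟩ : ∃ a, π a ≠ a := not_forall.1 fun h => hne (Equiv.ext h)
  have hii : ∀ x, π (π x) = x := fun x => Equiv.congr_fun hinv x
  have hmB : ∀ {x}, π x ≠ x → x ∈ B := fun {x} h => by_contra fun h' => h (hsupp x h')
  obtain ⟨b, hb⟩ : ∃ b, b = π a := ⟨_, rfl⟩
  have hab : a ≠ b := fun e => ha (hb ▸ e.symm)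
  have hba : π b = a := by rw [hb, hii]
  have haB := hmB ha
  have hbB := hmB (show π b ≠ b by rw [hba]; exact hab)
  -- conjugating by a cycle `b ↦ d ↦ f ↦ b`
  have key : ∀ d ∈ B, ∀ f ∈ B, b ≠ d → d ≠ f → b ≠ f →
      π (((swap b d * swap d f) * π * (swap b d * swap d f)⁻¹) a) =
        ((swap b d * swap d f) * π * (swap b d * swap d f)⁻¹) (π a) := fun d hd f hf h1 h2 h3 =>
    Equiv.congr_fun (hcomm π hπ _ (hcyc π hπ b hbB d hd f hf h1 h2 h3)) a
  have hcv : ∀ {b d f : α}, b ≠ d → d ≠ f → b ≠ f →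
      (swap b d * swap d f) b = d ∧ (swap b d * swap d f) d = f ∧ (swap b d * swap d f) f = b ∧
      ∀ x, x ≠ b → x ≠ d → x ≠ f → (swap b d * swap d f) x = x := fun {b d f} h1 h2 h3 =>
    ⟨by simp [swap_apply_of_ne_of_ne h1 h3], by simp [swap_apply_of_ne_of_ne h3.symm h2.symm],
      by simp, fun x x1 x2 x3 => by simp [swap_apply_of_ne_of_ne x2 x3, swap_apply_of_ne_of_ne x1 x2]⟩
  by_cases h : ∃ d, π d ≠ d ∧ d ≠ a ∧ d ≠ b
  · -- two pairs and a fifth point
    obtain ⟨d, hd, hda, hdb⟩ := h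
    obtain ⟨e, he⟩ : ∃ e, e = π d := ⟨_, rfl⟩
    have hed : π e = d := by rw [he, hii]
    have hea : e ≠ a := fun h => hdb (by rw [← hed, h, hb])
    have heb : e ≠ b := fun h => hda (by rw [← hed, h, hba])
    have hde : d ≠ e := fun h => hd (he ▸ h.symm)
    have hdB := hmB hd
    have heB := hmB (show π e ≠ e by rw [hed]; exact hde)
    have h4 : ({a, b, d, e} : Finset α).card = 4 := by
      simp [hab, hda.symm, hdb.symm, hea.symm, heb.symm, hde]
    have hsub : ({a, b, d, e} : Finset α) ⊆ B := by simp [Finset.insert_subset_iff, haB, hbB, hdB, heB]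
    obtain ⟨f, hfB, hf⟩ := Finset.exists_mem_notMem_of_card_lt_card (s := ({a, b, d, e} : Finset α)) (t := B)
      (by have := Finset.card_le_card hsub; omega)
    simp only [Finset.mem_insert, Finset.mem_singleton, not_or] at hf
    obtain ⟨hfa, hfb, hfd, hfe⟩ : f ≠ a ∧ f ≠ b ∧ f ≠ d ∧ f ≠ e := hf
    obtain ⟨c1, c2, c3, c4⟩ := hcv hdb.symm (Ne.symm hfd) (Ne.symm hfb)
    have h5 := key d hdB f hfB hdb.symm (Ne.symm hfd) (Ne.symm hfb)
    generalize hc : swap b d * swap d f = c at h5 c1 c2 c3 c4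
    have i1 : c⁻¹ a = a := (Equiv.symm_apply_eq c).2 (c4 a hab hda.symm (Ne.symm hfa)).symm
    have i2 : c⁻¹ b = f := (Equiv.symm_apply_eq c).2 c3.symm
    simp only [Perm.mul_apply, i1, ← hb, c1] at h5
    rw [i2] at h5
    rcases eq_or_ne (π f) f with hff | hff
    · rw [hff, c3, ← he] at h5
      exact heb h5
    · have g1 : π f ≠ b := fun h => hfa (by rw [← hii f, h, hba])
      have g2 : π f ≠ d := fun h => hfe (by rw [← hii f, h, ← he])
      rw [c4 _ g1 g2 hff, ← he] at h5
      exact hfd (π.injective (h5.symm.trans he))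
  · push Not at h
    obtain ⟨d, hdB, hd⟩ := Finset.exists_mem_notMem_of_card_lt_card (s := ({a, b} : Finset α)) (t := B)
      (by rw [Finset.card_pair hab]; omega)
    simp only [Finset.mem_insert, Finset.mem_singleton, not_or] at hd
    obtain ⟨hda, hdb⟩ : d ≠ a ∧ d ≠ b := hd
    have hdd : π d = d := by_contra fun e => hdb (h d e hda)
    -- the cycle `b ↦ d ↦ a ↦ b`
    obtain ⟨c1, c2, c3, -⟩ := hcv hdb.symm hda hab.symm
    have h5 := key d hdB a haB hdb.symm hda hab.symm
    generalize hc : swap b d * swap d a = c at h5 c1 c2 c3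
    have i1 : c⁻¹ a = d := (Equiv.symm_apply_eq c).2 c2.symm
    have i2 : c⁻¹ b = a := (Equiv.symm_apply_eq c).2 c3.symm
    simp only [Perm.mul_apply, i1, hdd, c2, ← hb, i2, c1] at h5
    exact hdb.symm h5

end Cfsg.Agent.Classical.OrthFrame
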