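import Cfsg.Agent.Lib.Classical.MaxFrameBasic
import Cfsg.Agent.Lib.Classical.MaxFramePerm

/-!
An element centralising a sign change is monomial, given the same for elements fixing two frame vectors.
-/

set_option autoImplicit false
set_option linter.unusedSectionVars false
set_option quotPrecheck false

namespace Cfsg.Agent.Classical.OrthFrame

open Matrix Module MaxTv

variable {F : Type*} [Field F] {n : ℕ}

local notation "V" => (Fin n → F)
local notation "Mn" => Matrix (Fin n) (Fin n) F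
local notation "GLn" => GL (Fin n) F

/-- Elements fixing at least `k` of the frame vectors are monomial. -/
def Fix (H : Subgroup (GL (Fin n) F)) (k : ℕ) : Prop :=
  ∀ g ∈ H, ∀ S : Finset (Fin n), k ≤ S.card →
    (∀ i ∈ S, (g : Matrix (Fin n) (Fin n) F) *ᵥ Pi.single i 1 = Pi.single i 1) → Mon g

theorem sp_inj {π π' : Equiv.Perm (Fin n)} {ε ε' : Fin n → Fˣ} (h : (sp π ε : GLn) = sp π' ε') :
    π = π' ∧ ε = ε' := by
  have key : ∀ i, π i = π' i ∧ ε i = ε' i := fun i => by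
    have h1 := congrArg (fun g : GLn => (g : Mn) (π i) i) h
    simp only [sp_val, spMat, Matrix.of_apply, if_true] at h1
    split_ifs at h1 with e
    · exact ⟨e.symm, Units.ext h1⟩
    · exact absurd h1 (ε i).ne_zero
  exact ⟨Equiv.ext fun i => (key i).1, funext fun i => (key i).2⟩

theorem sp_inv (π : Equiv.Perm (Fin n)) (ε : Fin n → Fˣ) :
    (sp π ε : GLn)⁻¹ = sp π⁻¹ fun i => (ε (π⁻¹ i))⁻¹ := Units.ext rfl

theorem Mon.mul {g h : GLn} (hg : Mon g) (hh : Mon h) : Mon (g * h) := fun i => by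
  obtain ⟨j, hj⟩ := hh i
  obtain ⟨k, hk⟩ := hg j
  refine ⟨k, fun l hl => ?_⟩
  rw [Units.val_mul, Matrix.mul_apply, Finset.sum_eq_single j (fun m _ hm => by rw [hj m hm, mul_zero]) (by simp),
    hk l hl, zero_mul]

theorem mon_one : Mon (1 : GLn) := sp_one (F := F) (n := n) ▸ mon_sp 1 fun _ => 1

/-- The space fixed by an element. -/
def posSp (g : GLn) : Submodule F V := LinearMap.ker (Matrix.toLin' (g : Mn) - LinearMap.id)

theorem mem_posSp {g : GLn} {x : V} : x ∈ posSp g ↔ (g : Mn) *ᵥ x = x := by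
  rw [posSp, LinearMap.mem_ker, LinearMap.sub_apply, Matrix.toLin'_apply, LinearMap.id_apply, sub_eq_zero]

theorem finrank_posSp_conj (g h : GLn) : finrank F (posSp (h * g * h⁻¹)) = finrank F (posSp g) := by
  have hinj : Function.Injective (Matrix.toLin' (h : Mn)) := fun a b hab =>
    gl_mulVec_injective h (by simpa using hab)
  rw [(Submodule.equivMapOfInjective _ hinj (posSp g)).finrank_eq]
  refine congrArg (fun W : Submodule F V => finrank F W) (le_antisymm (fun x hx => ?_) ?_)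
  · refine ⟨((h⁻¹ : GLn) : Mn) *ᵥ x, ?_, by rw [Matrix.toLin'_apply, mulVec_inv_cancel]⟩
    rw [SetLike.mem_coe, mem_posSp]
    refine gl_mulVec_injective h ?_
    show (h : Mn) *ᵥ _ = (h : Mn) *ᵥ _
    rw [mulVec_inv_cancel]
    rw [mem_posSp, Units.val_mul, Units.val_mul, ← Matrix.mulVec_mulVec, ← Matrix.mulVec_mulVec] at hx
    exact hx
  · rintro x ⟨y, hy, rfl⟩
    rw [SetLike.mem_coe, mem_posSp] at hy
    rw [mem_posSp, Matrix.toLin'_apply, Units.val_mul, Units.val_mul, ← Matrix.mulVec_mulVec,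
      ← Matrix.mulVec_mulVec, inv_mulVec_cancel, hy]

theorem posSp_dg (S : Finset (Fin n)) : posSp (dg S : GLn) = negSp (dg Sᶜ : GLn) := by
  ext x
  rw [mem_posSp, mem_negSp, funext_iff, funext_iff]
  refine forall_congr' fun k => ?_
  rw [dg_mulVec, dg_mulVec, Pi.neg_apply]
  by_cases h : k ∈ S
  · simp [h, neg_eq_iff_eq_neg]
  · simp [h]

theorem finrank_posSp_dg (h2 : (2 : F) ≠ 0) (S : Finset (Fin n)) :
    finrank F (posSp (dg S : GLn)) = n - S.card := by
  rw [posSp_dg, finrank_negSp_dg h2, Finset.card_compl, Fintype.card_fin]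

theorem disjoint_pos_neg (h2 : (2 : F) ≠ 0) (g : GLn) : posSp g ⊓ negSp g = ⊥ :=
  (Submodule.eq_bot_iff _).2 fun x hx => by
    have h := (mem_posSp.1 hx.1).symm.trans (mem_negSp.1 hx.2)
    funext k
    have hk := congrFun h k
    rw [Pi.neg_apply] at hk
    exact (mul_eq_zero.1 (by linear_combination hk : (2 : F) * x k = 0)).resolve_left h2

/-- A weight whose sign changes have monomial centralisers. -/
def Allowed (n : ℕ) (S : Finset (Fin n)) : Prop :=
  0 < S.card ∧ Even S.card ∧ S.card < n ∧ (S.card + 2 ≤ n ∨ n = 5)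

theorem exists_perm_map {S S' : Finset (Fin n)} (hc : S.card = S'.card)
    (h2 : 2 ≤ S.card ∨ 2 ≤ (Sᶜ).card) :
    ∃ π : Equiv.Perm (Fin n), Equiv.Perm.sign π = 1 ∧ ∀ i, π i ∈ S' ↔ i ∈ S := by
  classical
  obtain ⟨e, he⟩ : ∃ e : Equiv.Perm (Fin n), ∀ i, e i ∈ S' ↔ i ∈ S := by
    have e₁ : {x // x ∈ S} ≃ {x // x ∈ S'} := Fintype.equivOfCardEq (by simpa using hc)
    refine ⟨e₁.extendSubtype, fun i => ⟨fun h => by_contra fun hi => e₁.extendSubtype_not_mem i hi h,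
      e₁.extendSubtype_mem i⟩⟩
  rcases Int.units_eq_one_or (Equiv.Perm.sign e) with h | h
  · exact ⟨e, h, he⟩
  obtain ⟨a, b, hab, hiff⟩ : ∃ a b, a ≠ b ∧ (a ∈ S ↔ b ∈ S) := by
    rcases h2 with h2 | h2 <;> obtain ⟨a, ha, b, hb, hab⟩ := Finset.one_lt_card.1 (show 1 < _ from h2)
    · exact ⟨a, b, hab, iff_of_true ha hb⟩
    · exact ⟨a, b, hab, iff_of_false (Finset.mem_compl.1 ha) (Finset.mem_compl.1 hb)⟩
  refine ⟨e * Equiv.swap a b, by rw [map_mul, h, Equiv.Perm.sign_swap hab]; rfl, fun i => ?_⟩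
  rw [Equiv.Perm.mul_apply, he]
  rcases eq_or_ne i a with rfl | ha
  · rw [Equiv.swap_apply_left]; exact hiff.symm
  rcases eq_or_ne i b with rfl | hb
  · rw [Equiv.swap_apply_right]; exact hiff
  rw [Equiv.swap_apply_of_ne_of_ne ha hb]

namespace Fr

variable {H : Subgroup (GL (Fin n) F)} (O : Fr H)
include O

theorem sq_of_mem {π : Equiv.Perm (Fin n)} {ε : Fin n → Fˣ} (h : (sp π ε : GLn) ∈ H) (i : Fin n) :
    (ε i : F) * ε i = 1 := by
  have h1 := O.polar_eq h (Pi.single i 1) (Pi.single i 1)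
  rw [sp_single] at h1
  simpa [Pi.single_apply] using h1

theorem unit_of_mem {π : Equiv.Perm (Fin n)} {ε : Fin n → Fˣ} (h : (sp π ε : GLn) ∈ H) (i : Fin n) :
    ε i = 1 ∨ ε i = -1 := by
  rcases mul_self_eq_one_iff.1 (O.sq_of_mem h i) with e | e
  · exact Or.inl (Units.ext e)
  · exact Or.inr (Units.ext (by rw [Units.val_neg, Units.val_one]; exact e))

theorem exists_sp {g : GLn} (hg : g ∈ H) (hm : Mon g) : ∃ π ε, g = sp π ε := by
  obtain ⟨π, ε, e, -⟩ := eq_sp_of_mon hm (O.iso g hg)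
  exact ⟨π, ε, e⟩

theorem mon_inv {g : GLn} (hg : g ∈ H) (hm : Mon g) : Mon g⁻¹ := by
  obtain ⟨π, ε, rfl⟩ := O.exists_sp hg hm
  rw [sp_inv]
  exact mon_sp _ _

theorem unit_col {g : GLn} (hg : g ∈ H) {i j : Fin n}
    (h : ∀ k, k ≠ j → ((g : Mn) *ᵥ Pi.single i 1) k = 0) :
    ((g : Mn) *ᵥ Pi.single i 1) j = 1 ∨ ((g : Mn) *ᵥ Pi.single i 1) j = -1 := by
  have h1 := O.polar_eq hg (Pi.single i 1) (Pi.single i 1)
  rw [Finset.sum_eq_single j (fun k _ hk => by rw [h k hk, mul_zero]) (by simp)] at h1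
  simpa [Pi.single_apply] using mul_self_eq_one_iff.1 (h1.trans (by simp [Pi.single_apply]))

theorem mon_of_agree {k : ℕ} (hfix : Fix H k) {g m : GLn} (hg : g ∈ H) (hm : m ∈ H) (hmm : Mon m)
    {S : Finset (Fin n)} (hS : k ≤ S.card)
    (h : ∀ i ∈ S, (g : Mn) *ᵥ Pi.single i 1 = (m : Mn) *ᵥ Pi.single i 1) : Mon g := by
  have h1 := hfix (m⁻¹ * g) (mul_mem (inv_mem hm) hg) S hS fun i hi => by
    rw [Units.val_mul, ← Matrix.mulVec_mulVec, h i hi, inv_mulVec_cancel]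
  have h2 := hmm.mul h1
  rwa [mul_inv_cancel_left] at h2

/-- Preserving the coordinate subspaces of a subset. -/
theorem pres {g : GLn} {S : Finset (Fin n)} (hc : g * dg S = dg S * g) (x : V)
    (hx : ∀ k, k ∉ S → x k = 0) (k : Fin n) (hk : k ∉ S) : ((g : Mn) *ᵥ x) k = 0 := by
  have h1 : ((g : Mn) *ᵥ (((dg S : GLn) : Mn) *ᵥ x)) = ((dg S : GLn) : Mn) *ᵥ ((g : Mn) *ᵥ x) := by
    rw [Matrix.mulVec_mulVec, Matrix.mulVec_mulVec, ← Units.val_mul, hc, Units.val_mul]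
  have h2 : ((dg S : GLn) : Mn) *ᵥ x = -x := funext fun l => by
    rw [dg_mulVec, Pi.neg_apply]
    by_cases hl : l ∈ S
    · rw [if_pos hl]
    · rw [if_neg hl, hx l hl, neg_zero]
  have h3 := congrFun h1 k
  rw [h2, Matrix.mulVec_neg, dg_mulVec, if_neg hk, Pi.neg_apply] at h3
  exact (mul_eq_zero.1 (by linear_combination -h3 : (2 : F) * ((g : Mn) *ᵥ x) k = 0)).resolve_left O.two

theorem pres_compl {g : GLn} {S : Finset (Fin n)} (hc : g * dg S = dg S * g) (x : V)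
    (hx : ∀ k, k ∈ S → x k = 0) (k : Fin n) (hk : k ∈ S) : ((g : Mn) *ᵥ x) k = 0 := by
  have h1 : ((g : Mn) *ᵥ (((dg S : GLn) : Mn) *ᵥ x)) = ((dg S : GLn) : Mn) *ᵥ ((g : Mn) *ᵥ x) := by
    rw [Matrix.mulVec_mulVec, Matrix.mulVec_mulVec, ← Units.val_mul, hc, Units.val_mul]
  have h2 : ((dg S : GLn) : Mn) *ᵥ x = x := funext fun l => by
    rw [dg_mulVec]
    by_cases hl : l ∈ S
    · rw [if_pos hl, hx l hl, neg_zero]
    · rw [if_neg hl]
  have h3 := congrFun h1 k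
  rw [h2, dg_mulVec, if_pos hk] at h3
  exact (mul_eq_zero.1 (by linear_combination h3 : (2 : F) * ((g : Mn) *ᵥ x) k = 0)).resolve_left O.two

/-- An element respecting two complementary coordinate subspaces is monomial. -/
theorem mon_of_blocks (h2 : Fix H 2) {g : GLn} (hg : g ∈ H) (B : Finset (Fin n)) (hB3 : 3 ≤ B.card)
    (hB4 : B.card ≠ 4) (hA : 2 ≤ (Bᶜ).card) (hc : g * dg B = dg B * g) : Mon g := by
  classical
  obtain ⟨K, hK⟩ : ∃ K : GLn → Prop, ∀ x, K x ↔ x ∈ H ∧ ∀ a, a ∉ B → (x : Mn) *ᵥ Pi.single a 1 = Pi.single a 1 :=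
    ⟨_, fun _ => Iff.rfl⟩
  have hci : g⁻¹ * dg B = dg B * g⁻¹ := by
    rw [inv_mul_eq_iff_eq_mul, ← mul_assoc, hc, mul_assoc, mul_inv_cancel, mul_one]
  have hfixA : ∀ x, K x → ∀ y : V, (∀ k, k ∈ B → y k = 0) → (x : Mn) *ᵥ y = y := fun x hx y hy => by
    conv_lhs => rw [pi_eq_sum_univ' y]
    conv_rhs => rw [pi_eq_sum_univ' y]
    rw [Matrix.mulVec_sum]
    refine Finset.sum_congr rfl fun a _ => ?_
    by_cases ha : a ∈ B
    · rw [hy a ha, zero_smul, Matrix.mulVec_zero]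
    · rw [Matrix.mulVec_smul]
      congr 1
      exact ((hK x).1 hx).2 a ha
  -- conjugation preserves the elements supported on `B`
  have hconj : ∀ u : GLn, u ∈ H → u * dg B = dg B * u → u⁻¹ * dg B = dg B * u⁻¹ → ∀ x, K x →
      K (u * x * u⁻¹) ∧ ∃ π ε, u * x * u⁻¹ = sp π ε ∧ ∀ a, a ∉ B → π a = a := fun u hu huc huci x hx => by
    have hK' : K (u * x * u⁻¹) := (hK _).2 ⟨mul_mem (mul_mem hu ((hK x).1 hx).1) (inv_mem hu), fun a ha => by
      rw [Units.val_mul, Units.val_mul, ← Matrix.mulVec_mulVec, ← Matrix.mulVec_mulVec, hfixA x hx _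
        (O.pres_compl huci _ fun k hk => Pi.single_eq_of_ne (fun e => ha (by rwa [← e])) 1),
        mulVec_inv_cancel]⟩
    obtain ⟨hH, hfix⟩ := (hK _).1 hK'
    obtain ⟨π, ε, e⟩ := O.exists_sp hH (h2 _ hH Bᶜ hA fun a ha => hfix a (Finset.mem_compl.1 ha))
    refine ⟨hK', π, ε, e, fun a ha => by_contra fun hne => ?_⟩
    have h1 := congrFun (hfix a ha) a
    rw [e, sp_single, Pi.single_eq_of_ne (Ne.symm hne), Pi.single_eq_same] at h1
    exact zero_ne_one h1
  have hdgK : ∀ U : Finset (Fin n), U ⊆ B → Even U.card → K (dg U) := fun U hU hE => (hK _).2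
    ⟨O.mem_dg hE, fun a ha => by
      rw [dg_single, show sgn F U a = 1 from if_neg fun h => ha (hU h), Units.val_one, one_smul]⟩
  -- the conjugates of the sign changes are diagonal
  have hdiag : ∀ u : GLn, u ∈ H → u * dg B = dg B * u → u⁻¹ * dg B = dg B * u⁻¹ →
      ∀ U : Finset (Fin n), U ⊆ B → Even U.card → ∃ ε, u * dg U * u⁻¹ = sp 1 ε := by
    intro u hu huc huci U hU hE
    obtain ⟨P, hP⟩ : ∃ P : Set (Equiv.Perm (Fin n)),
        ∀ π, π ∈ P ↔ ∃ U : Finset (Fin n), U ⊆ B ∧ Even U.card ∧ ∃ ε, u * dg U * u⁻¹ = sp π ε :=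
      ⟨_, fun _ => Iff.rfl⟩
    obtain ⟨-, π, ε, e, hsupp⟩ := hconj u hu huc huci _ (hdgK U hU hE)
    suffices hπ : π = 1 by exact ⟨ε, hπ ▸ e⟩
    refine eq_one_of_invariant hB3 hB4 P (fun a ha b hb => ?_) (fun a ha x hx y hy z hz hxy hyz hxz => ?_)
      ((hP π).2 ⟨U, hU, hE, ε, e⟩) ?_ hsupp
    · obtain ⟨U₁, -, -, ε₁, e₁⟩ := (hP a).1 ha
      obtain ⟨U₂, -, -, ε₂, e₂⟩ := (hP b).1 hb
      have h : u * dg U₁ * u⁻¹ * (u * dg U₂ * u⁻¹) = u * dg U₂ * u⁻¹ * (u * dg U₁ * u⁻¹) := by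
        have : dg U₁ * dg U₂ = (dg U₂ * dg U₁ : GLn) := by rw [dg_mul, dg_mul, symmDiff_comm]
        simp only [mul_assoc, inv_mul_cancel_left]
        rw [← mul_assoc (dg U₁), this, mul_assoc]
      rw [e₁, e₂, sp_mul, sp_mul] at h
      exact (sp_inj h).1
    · obtain ⟨U₁, hU₁, hE₁, ε₁, e₁⟩ := (hP a).1 ha
      obtain ⟨c, hc'⟩ : ∃ c, c = Equiv.swap x y * Equiv.swap y z := ⟨_, rfl⟩
      rw [← hc']
      have hcfix : ∀ a, a ∉ B → c a = a := fun b hb => by
        have hne : ∀ w ∈ B, b ≠ w := fun w hw e => hb (by rwa [e])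
        rw [hc', Equiv.Perm.mul_apply, Equiv.swap_apply_of_ne_of_ne (hne y hy) (hne z hz),
          Equiv.swap_apply_of_ne_of_ne (hne x hx) (hne y hy)]
      have hcK : K (sp c fun _ => 1) := (hK _).2 ⟨O.mem_pure (by
        rw [hc', map_mul, Equiv.Perm.sign_swap hxy, Equiv.Perm.sign_swap hyz]; rfl), fun b hb => by
          rw [sp_single, hcfix b hb]; simp⟩
      obtain ⟨-, ρ, δ, eρ, hρ⟩ := hconj u⁻¹ (inv_mem hu) huci (by rwa [inv_inv]) _ hcK
      rw [inv_inv] at eρ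
      -- the conjugate sign change
      obtain ⟨U₂, hU₂⟩ : ∃ U₂, U₂ = U₁.map ρ.toEmbedding := ⟨_, rfl⟩
      have hconjdg : sp ρ δ * dg U₁ * (sp ρ δ)⁻¹ = (dg U₂ : GLn) := by
        rw [mul_inv_eq_iff_eq_mul, dg, dg, sp_mul, sp_mul, mul_one, one_mul]
        congr 1
        funext i
        rw [mul_comm]
        congr 1
        simp [sgn, hU₂]
      refine (hP _).2 ⟨U₂, fun b hb => ?_, by rw [hU₂, Finset.card_map]; exact hE₁,
        fun i => ε₁ (c⁻¹ i), ?_⟩
      · rw [hU₂, Finset.mem_map] at hb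
        obtain ⟨i, hi, rfl⟩ := hb
        by_contra hb'
        have h1 := hρ _ hb'
        exact hb' (by rw [Equiv.coe_toEmbedding] at h1 ⊢; rw [ρ.injective h1]; exact hU₁ hi)
      · rw [← hconjdg, ← eρ, show u * (u⁻¹ * sp c (fun _ => 1) * u * dg U₁ *
            (u⁻¹ * sp c (fun _ => 1) * u)⁻¹) * u⁻¹ = sp c (fun _ => 1) * (u * dg U₁ * u⁻¹) *
            (sp c (fun _ => 1))⁻¹ by group, e₁, sp_inv, sp_mul, sp_mul]
        congr 1
        funext i
        simp
    · have h : u * dg U * u⁻¹ * (u * dg U * u⁻¹) = 1 := by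
        simp only [mul_assoc, inv_mul_cancel_left]
        rw [← mul_assoc (dg U), dg_mul, symmDiff_self, Finset.bot_eq_empty, dg_empty, one_mul, mul_inv_cancel]
      rw [e, sp_mul, ← sp_one] at h
      exact (sp_inj h).1
  -- so the columns in `B` are frame vectors
  have hcol : ∀ i ∈ B, ∃ j ∈ B, ∀ k, k ≠ j → ((g : Mn) *ᵥ Pi.single i 1) k = 0 := by
    intro i hi
    obtain ⟨w, hw⟩ : ∃ w, w = (g : Mn) *ᵥ Pi.single i 1 := ⟨_, rfl⟩
    rw [← hw]
    have hwB : ∀ k, k ∉ B → w k = 0 := fun k hk => hw ▸ O.pres hc _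
      (fun l hl => Pi.single_eq_of_ne (fun e => hl (by rwa [e])) 1) k hk
    obtain ⟨j, hj⟩ : ∃ j, w j ≠ 0 := by
      by_contra hcon
      push Not at hcon
      have h0 : Pi.single i (1 : F) = 0 := gl_mulVec_injective g (by
        show (g : Mn) *ᵥ _ = (g : Mn) *ᵥ _
        rw [← hw, Matrix.mulVec_zero]; exact funext hcon)
      simpa using congrFun h0 i
    have hjB : j ∈ B := by_contra fun h => hj (hwB j h)
    refine ⟨j, hjB, fun k hk => by_contra fun hk0 => ?_⟩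
    have hkB : k ∈ B := by_contra fun h => hk0 (hwB k h)
    obtain ⟨m, hmB, hm⟩ := Finset.exists_mem_notMem_of_card_lt_card (s := ({j, k} : Finset (Fin n))) (t := B)
      (by rw [Finset.card_pair (Ne.symm hk)]; omega)
    simp only [Finset.mem_insert, Finset.mem_singleton, not_or] at hm
    obtain ⟨ε, e⟩ := hdiag g⁻¹ (inv_mem hg) hci (by rw [inv_inv]; exact hc) {j, m}
      (by simp [Finset.insert_subset_iff, hjB, hmB]) (by rw [Finset.card_pair (Ne.symm hm.1)]; exact even_two)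
    rw [inv_inv] at e
    have h1 : ((dg {j, m} : GLn) : Mn) *ᵥ w = (ε i : F) • w := by
      rw [hw, ← Matrix.mulVec_smul]
      refine gl_mulVec_injective g⁻¹ ?_
      show ((g⁻¹ : GLn) : Mn) *ᵥ _ = ((g⁻¹ : GLn) : Mn) *ᵥ _
      rw [inv_mulVec_cancel, Matrix.mulVec_mulVec, Matrix.mulVec_mulVec, ← Units.val_mul, ← Units.val_mul, e,
        sp_single, Equiv.Perm.one_apply, ← Pi.single_smul, smul_eq_mul, mul_one]
    have h2 := congrFun h1 j
    have h3 := congrFun h1 k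
    rw [dg_mulVec, if_pos (by simp), Pi.smul_apply, smul_eq_mul] at h2
    rw [dg_mulVec, if_neg (by simp [hk, Ne.symm hm.2]), Pi.smul_apply, smul_eq_mul] at h3
    have hε : (ε i : F) = -1 := mul_right_cancel₀ hj (by linear_combination -h2)
    rw [hε] at h3
    exact hk0 ((mul_eq_zero.1 (by linear_combination h3 : (2 : F) * w k = 0)).resolve_left O.two)
  choose! σ hσB hσ using hcol
  -- a signed permutation agreeing on `B`
  have hinjσ : Set.InjOn σ B := fun i hi i' hi' e => by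
    by_contra hne
    obtain ⟨c, hcdef⟩ : ∃ c, c = fun x => ((g : Mn) *ᵥ Pi.single x 1) (σ i) := ⟨_, rfl⟩
    have hgc : ∀ x ∈ B, σ x = σ i → (g : Mn) *ᵥ Pi.single x 1 = c x • Pi.single (σ i) 1 := fun x hx hxe =>
      funext fun k => by
        rcases eq_or_ne k (σ i) with rfl | hk
        · simp [hcdef]
        · rw [hσ x hx k (hxe ▸ hk)]; simp [Pi.single_eq_of_ne hk]
    have h1 : (g : Mn) *ᵥ (c i' • Pi.single i 1) = (g : Mn) *ᵥ (c i • Pi.single i' 1) := by
      rw [Matrix.mulVec_smul, Matrix.mulVec_smul, hgc i hi rfl, hgc i' hi' e.symm, smul_smul, smul_smul, mul_comm]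
    have h2' := congrFun (gl_mulVec_injective g h1) i'
    rw [Pi.smul_apply, Pi.smul_apply, Pi.single_eq_of_ne (Ne.symm hne), Pi.single_eq_same, smul_zero,
      smul_eq_mul, mul_one] at h2'
    have h3 : ((g : Mn) *ᵥ Pi.single i 1) (σ i) = 0 := by rw [hcdef] at h2'; exact h2'.symm
    rcases O.unit_col hg (hσ i hi) with h | h <;> rw [h] at h3
    · exact one_ne_zero h3
    · exact neg_ne_zero.2 one_ne_zero h3
  obtain ⟨π, hπ⟩ : ∃ π : Equiv.Perm (Fin n), ∀ i ∈ B, π i = σ i := by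
    obtain ⟨e₁, he₁⟩ : ∃ e₁ : {x // x ∈ B} ≃ {x // x ∈ B.image σ}, ∀ x, (e₁ x : Fin n) = σ x :=
      ⟨Equiv.ofBijective (fun x => ⟨σ x, Finset.mem_image_of_mem σ x.2⟩)
        ⟨fun x y e => Subtype.ext (hinjσ x.2 y.2 (congrArg Subtype.val e)), fun y => by
          obtain ⟨x, hx, e⟩ := Finset.mem_image.1 y.2
          exact ⟨⟨x, hx⟩, Subtype.ext e⟩⟩, fun x => rfl⟩
    exact ⟨e₁.extendSubtype, fun i hi => by rw [e₁.extendSubtype_apply_of_mem i hi]; exact he₁ ⟨i, hi⟩⟩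
  obtain ⟨a₁, ha₁, a₂, ha₂, h12⟩ := Finset.one_lt_card.1 (show 1 < (Bᶜ).card from hA)
  obtain ⟨π', hπ', hs'⟩ : ∃ π' : Equiv.Perm (Fin n), (∀ i ∈ B, π' i = σ i) ∧ Equiv.Perm.sign π' = 1 := by
    rcases Int.units_eq_one_or (Equiv.Perm.sign π) with h | h
    · exact ⟨π, hπ, h⟩
    · refine ⟨π * Equiv.swap a₁ a₂, fun i hi => ?_, by rw [map_mul, h, Equiv.Perm.sign_swap h12]; rfl⟩
      rw [Equiv.Perm.mul_apply, Equiv.swap_apply_of_ne_of_ne (fun e : i = a₁ => Finset.mem_compl.1 ha₁ (e ▸ hi))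
        (fun e : i = a₂ => Finset.mem_compl.1 ha₂ (e ▸ hi))]
      exact hπ i hi
  obtain ⟨W, hW, hWe⟩ : ∃ W : Finset (Fin n), (∀ i ∈ B, i ∈ W ↔ ((g : Mn) *ᵥ Pi.single i 1) (σ i) = -1) ∧
      Even W.card := by
    obtain ⟨W₀, hW₀⟩ : ∃ W₀, W₀ = B.filter fun i => ((g : Mn) *ᵥ Pi.single i 1) (σ i) = -1 := ⟨_, rfl⟩
    rcases Nat.even_or_odd W₀.card with h | h
    · exact ⟨W₀, fun i hi => by simp [hW₀, hi], h⟩
    · refine ⟨insert a₁ W₀, fun i hi => ?_, ?_⟩
      · have hne : i ≠ a₁ := fun e => Finset.mem_compl.1 ha₁ (e ▸ hi)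
        rw [Finset.mem_insert, hW₀, Finset.mem_filter]
        tauto
      · rw [Finset.card_insert_of_notMem (by simp [hW₀, Finset.mem_compl.1 ha₁])]
        exact h.add_one
  refine O.mon_of_agree h2 hg (O.mem_sp hs' hWe) (mon_sp _ _) (S := B) (by omega) fun i hi => funext fun k => ?_
  rw [sp_single, hπ' i hi]
  rcases eq_or_ne k (σ i) with rfl | hk
  · rw [Pi.single_eq_same]
    rcases O.unit_col hg (hσ i hi) with h | h
    · have : i ∉ W := fun hw => O.two (by linear_combination (h.symm.trans ((hW i hi).1 hw)))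
      simp [sgn, this, h]
    · simp [sgn, (hW i hi).2 h, h]
  · rw [Pi.single_eq_of_ne hk, hσ i hi k hk]

/-- Two sign changes conjugate by a non-monomial element do not exist. -/
theorem mon_of_conj (hn : 5 ≤ n) (h6 : n ≠ 6) (h8 : n ≠ 8) (h2 : Fix H 2) (h1 : n = 5 → Fix H 1)
    {g : GLn} (hg : g ∈ H) {S S' : Finset (Fin n)} (hS : Allowed n S) (h : g * dg S * g⁻¹ = dg S') :
    Mon g := by
  classical
  have hc : S.card = S'.card := by
    have h' := congrArg (fun x : GLn => finrank F (negSp x)) h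
    simp only [finrank_negSp_conj, finrank_negSp_dg O.two] at h'
    exact h'
  obtain ⟨hpos, hev, hlt, hal⟩ := hS
  have hcc : (Sᶜ).card = n - S.card := by rw [Finset.card_compl, Fintype.card_fin]
  have hS2 : 2 ≤ S.card := by obtain ⟨k, hk⟩ := hev; omega
  obtain ⟨π, hπ, hπS⟩ := exists_perm_map hc (Or.inl hS2)
  obtain ⟨m, hmdef⟩ : ∃ m : GLn, m = sp π fun _ => 1 := ⟨_, rfl⟩
  have hm : m ∈ H := hmdef ▸ O.mem_pure hπ
  have hmc : m * dg S = dg S' * m := by
    rw [hmdef, dg, dg, sp_mul, sp_mul, mul_one, one_mul]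
    congr 1
    funext i
    simp [sgn, hπS]
  obtain ⟨g', hg'def⟩ : ∃ g', g' = m⁻¹ * g := ⟨_, rfl⟩
  have hg' : g' ∈ H := hg'def ▸ mul_mem (inv_mem hm) hg
  have hgc : g' * dg S = dg S * g' := by
    rw [hg'def, mul_assoc, show g * dg S = dg S' * g by rw [← h, inv_mul_cancel_right],
      show dg S' = m * dg S * m⁻¹ by rw [hmc, mul_inv_cancel_right]]
    group
  suffices hmon : Mon g' by
    have := (hmdef ▸ mon_sp π fun _ => 1 : Mon m).mul hmon
    rwa [hg'def, mul_inv_cancel_left] at this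
  by_cases hsing : S.card + 1 = n
  · -- a common frame line
    have hF1 := h1 (by omega)
    obtain ⟨a, ha⟩ := Finset.card_eq_one.1 (show (Sᶜ).card = 1 by omega)
    have haS : ∀ i, i ∉ S ↔ i = a := fun i => by rw [← Finset.mem_compl, ha, Finset.mem_singleton]
    have hcol : ∀ k, k ≠ a → ((g' : Mn) *ᵥ Pi.single a 1) k = 0 := fun k hk =>
      O.pres_compl hgc _ (fun l hl => Pi.single_eq_of_ne (fun e => (haS l).2 e hl) 1) k
        (by_contra fun hk' => hk ((haS k).1 hk'))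
    rcases O.unit_col hg' hcol with hu | hu
    · refine O.mon_of_agree hF1 hg' (one_mem H) mon_one (S := {a}) (by simp) fun i hi => ?_
      rw [Finset.mem_singleton] at hi
      subst hi
      funext k
      rw [Units.val_one, Matrix.one_mulVec]
      rcases eq_or_ne k i with rfl | hk
      · rw [hu, Pi.single_eq_same]
      · rw [hcol k hk, Pi.single_eq_of_ne hk]
    · obtain ⟨b, hb⟩ : ∃ b, b ≠ a := ⟨_, fun e => (haS _).2 e (Finset.card_pos.1 hpos).choose_spec⟩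
      refine O.mon_of_agree hF1 hg' (O.mem_pair (Ne.symm hb)) (mon_sp _ _) (S := {a}) (by simp) fun i hi => ?_
      rw [Finset.mem_singleton] at hi
      subst hi
      funext k
      rw [dg_single]
      rcases eq_or_ne k i with rfl | hk
      · simp [hu, sgn]
      · simp [hcol k hk, Pi.single_eq_of_ne hk]
  · have hA : 2 ≤ (Sᶜ).card := by omega
    by_cases hB : 3 ≤ (Sᶜ).card ∧ (Sᶜ).card ≠ 4
    · refine O.mon_of_blocks h2 hg' Sᶜ hB.1 hB.2 (by rw [compl_compl]; exact hS2) ?_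
      have hneg : (dg Sᶜ : GLn) = dg Finset.univ * dg S := by
        rw [dg_mul]; congr 1; ext i; simp [Finset.mem_symmDiff]
      have hz : ∀ x : GLn, x * dg Finset.univ = dg Finset.univ * x := fun x => by
        have e : ((dg Finset.univ : GLn) : Mn) = -1 := Matrix.ext_iff_mulVec.2 fun v => funext fun k => by
          rw [dg_mulVec, if_pos (Finset.mem_univ k), Matrix.neg_mulVec, Matrix.one_mulVec, Pi.neg_apply]
        exact Units.ext (by rw [Units.val_mul, Units.val_mul, e]; simp)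
      rw [hneg, ← mul_assoc, hz, mul_assoc, hgc, mul_assoc]
    · exact O.mon_of_blocks h2 hg' S (by obtain ⟨k, hk⟩ := hev; omega) (by obtain ⟨k, hk⟩ := hev; omega) hA hgc

end Fr

end Cfsg.Agent.Classical.OrthFrame
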