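import Cfsg.Agent.Lib.Classical.SubspaceDerange

/-! Models of semisimple maps permuting the summands of a decomposition into subspaces of equal dimension. -/

set_option autoImplicit false
set_option linter.unusedSectionVars false

namespace Cfsg.Agent.LinearDecompModels

open Polynomial Module

variable {F : Type*} [Field F]

/-- Subspaces of dimension `a` which span. -/
def IsDec {V : Type*} [AddCommGroup V] [Module F V] {t : ℕ} (a : ℕ) (D : Fin t → Submodule F V) : Prop :=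
  (∀ j, finrank F (D j) = a) ∧ iSup D = ⊤

theorem map_isDec {V W : Type*} [AddCommGroup V] [Module F V] [AddCommGroup W] [Module F W] {t a : ℕ}
    {D : Fin t → Submodule F V} (hD : IsDec a D) (e : V ≃ₗ[F] W) : IsDec a fun j => (D j).map (e : V →ₗ[F] W) := by
  refine ⟨fun j => (LinearEquiv.finrank_map_eq e _).trans (hD.1 j), ?_⟩
  rw [← Submodule.map_iSup, hD.2, Submodule.map_top]
  exact LinearEquiv.range e

/-- A model of a map with `r`-th power `c`, permuting the summands by `σ`. -/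
def ModelAt (r : ℕ) (c : F) (a : ℕ) {t : ℕ} (σ : Equiv.Perm (Fin t)) (P : F[X]) : Prop :=
  ∃ (e : ℕ) (T : Module.End F (Fin e → F)) (D : Fin t → Submodule F (Fin e → F)),
    T ^ r = c • 1 ∧ T.charpoly = P ∧ e = a * t ∧ IsDec a D ∧ ∀ j, (D j).map T = D (σ j)

/-- A model, with any permutation. -/
def Model (r : ℕ) (c : F) (a t : ℕ) (P : F[X]) : Prop := ∃ σ : Equiv.Perm (Fin t), ModelAt r c a σ P

variable {r : ℕ} {c : F}

/-- The juxtaposition of two maps. -/
noncomputable def pairEq (e₁ e₂ : ℕ) : ((Fin e₁ → F) × (Fin e₂ → F)) ≃ₗ[F] (Fin (e₁ + e₂) → F) :=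
  (LinearEquiv.sumArrowLequivProdArrow (Fin e₁) (Fin e₂) F F).symm.trans
    (LinearEquiv.funCongrLeft F F finSumFinEquiv.symm)

theorem charpoly_pair {e₁ e₂ : ℕ} (T₁ : Module.End F (Fin e₁ → F)) (T₂ : Module.End F (Fin e₂ → F)) :
    ((pairEq e₁ e₂).conj (T₁.prodMap T₂)).charpoly = T₁.charpoly * T₂.charpoly := by
  rw [LinearEquiv.charpoly_conj, LinearMap.charpoly_prodMap]

theorem pow_pair {e₁ e₂ : ℕ} (T₁ : Module.End F (Fin e₁ → F)) (T₂ : Module.End F (Fin e₂ → F))
    (h₁ : T₁ ^ r = c • 1) (h₂ : T₂ ^ r = c • 1) : ((pairEq e₁ e₂).conj (T₁.prodMap T₂)) ^ r = c • 1 := by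
  set L := pairEq (F := F) e₁ e₂
  have hpow : ∀ (n : ℕ) v, (L.conj (T₁.prodMap T₂) ^ n) v = L ((T₁ ^ n) (L.symm v).1, (T₂ ^ n) (L.symm v).2) := by
    intro n
    induction n with
    | zero => intro v; simp
    | succ n ih =>
      intro v
      rw [pow_succ', Module.End.mul_apply, ih, LinearEquiv.conj_apply_apply, L.symm_apply_apply, LinearMap.prodMap_apply,
        pow_succ', pow_succ']
      rfl
  refine LinearMap.ext fun v => ?_
  rw [hpow, h₁, h₂, LinearMap.smul_apply, LinearMap.smul_apply, LinearMap.smul_apply, Module.End.one_apply,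
    Module.End.one_apply, Module.End.one_apply, ← Prod.smul_mk, map_smul, Prod.mk.eta, L.apply_symm_apply]

theorem map_pair {e₁ e₂ : ℕ} (T₁ : Module.End F (Fin e₁ → F)) (T₂ : Module.End F (Fin e₂ → F))
    (S₁ : Submodule F (Fin e₁ → F)) (S₂ : Submodule F (Fin e₂ → F)) :
    ((S₁.prod S₂).map (pairEq (F := F) e₁ e₂).toLinearMap).map ((pairEq e₁ e₂).conj (T₁.prodMap T₂)) =
      ((S₁.map T₁).prod (S₂.map T₂)).map (pairEq (F := F) e₁ e₂).toLinearMap := by
  ext v
  simp only [Submodule.mem_map]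
  constructor
  · rintro ⟨_, ⟨⟨x, y⟩, hxy, rfl⟩, rfl⟩
    obtain ⟨hx, hy⟩ := Submodule.mem_prod.1 hxy
    refine ⟨(T₁ x, T₂ y), Submodule.mem_prod.2 ⟨⟨x, hx, rfl⟩, ⟨y, hy, rfl⟩⟩, ?_⟩
    simp [LinearEquiv.conj_apply_apply]
  · rintro ⟨⟨_, _⟩, hxy, rfl⟩
    obtain ⟨⟨x, hx, rfl⟩, ⟨y, hy, rfl⟩⟩ := Submodule.mem_prod.1 hxy
    exact ⟨_, ⟨(x, y), Submodule.mem_prod.2 ⟨hx, hy⟩, rfl⟩, by simp [LinearEquiv.conj_apply_apply]⟩

theorem finrank_pair {e₁ e₂ : ℕ} (S₁ : Submodule F (Fin e₁ → F)) (S₂ : Submodule F (Fin e₂ → F)) :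
    finrank F ((S₁.prod S₂).map (pairEq (F := F) e₁ e₂).toLinearMap) = finrank F S₁ + finrank F S₂ := by
  rw [LinearEquiv.finrank_map_eq, ← Module.finrank_prod]
  exact LinearEquiv.finrank_eq
    { toFun := fun v => (⟨v.1.1, v.2.1⟩, ⟨v.1.2, v.2.2⟩)
      invFun := fun v => ⟨(v.1.1, v.2.1), v.1.2, v.2.2⟩
      left_inv := fun _ => rfl
      right_inv := fun _ => rfl
      map_add' := fun _ _ => rfl
      map_smul' := fun _ _ => rfl }

/-- Juxtaposition of decompositions. -/
theorem modelAt_append {a t₁ t₂ : ℕ} {σ₁ : Equiv.Perm (Fin t₁)} {σ₂ : Equiv.Perm (Fin t₂)} {P₁ P₂ : F[X]}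
    (h₁ : ModelAt r c a σ₁ P₁) (h₂ : ModelAt r c a σ₂ P₂) :
    ModelAt r c a (finSumFinEquiv.permCongr (Equiv.sumCongr σ₁ σ₂)) (P₁ * P₂) := by
  obtain ⟨e₁, T₁, D₁, hT₁, hP₁, he₁, hD₁, hσ₁⟩ := h₁
  obtain ⟨e₂, T₂, D₂, hT₂, hP₂, he₂, hD₂, hσ₂⟩ := h₂
  let B : Fin t₁ ⊕ Fin t₂ → Submodule F ((Fin e₁ → F) × (Fin e₂ → F)) :=
    Sum.elim (fun j => (D₁ j).prod ⊥) fun j => (⊥ : Submodule F (Fin e₁ → F)).prod (D₂ j)
  let D : Fin (t₁ + t₂) → Submodule F (Fin (e₁ + e₂) → F) := fun j =>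
    (B (finSumFinEquiv.symm j)).map (pairEq (F := F) e₁ e₂).toLinearMap
  refine ⟨e₁ + e₂, _, D, pow_pair T₁ T₂ hT₁ hT₂, by rw [charpoly_pair, hP₁, hP₂], by rw [he₁, he₂, mul_add], ⟨?_, ?_⟩, ?_⟩
  · intro j
    obtain ⟨j, rfl⟩ := finSumFinEquiv.surjective j
    rcases j with k | k
    · have e : D (finSumFinEquiv (Sum.inl k)) = ((D₁ k).prod ⊥).map (pairEq (F := F) e₁ e₂).toLinearMap := by
        simp only [D, Equiv.symm_apply_apply, B, Sum.elim_inl]
      rw [e, finrank_pair, finrank_bot, hD₁.1, add_zero]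
    · have e : D (finSumFinEquiv (Sum.inr k)) =
          ((⊥ : Submodule F (Fin e₁ → F)).prod (D₂ k)).map (pairEq (F := F) e₁ e₂).toLinearMap := by
        simp only [D, Equiv.symm_apply_apply, B, Sum.elim_inr]
      rw [e, finrank_pair, finrank_bot, hD₂.1, zero_add]
  · rw [eq_top_iff]
    intro v _
    obtain ⟨⟨x, y⟩, rfl⟩ := (pairEq (F := F) e₁ e₂).surjective v
    have hx : x ∈ (iSup D).comap ((pairEq (F := F) e₁ e₂).toLinearMap ∘ₗ LinearMap.inl F _ _) := by
      refine (hD₁.2 ▸ iSup_le fun k u hu => ?_ : (⊤ : Submodule F (Fin e₁ → F)) ≤ _) Submodule.mem_top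
      refine le_iSup D (finSumFinEquiv (Sum.inl k)) ⟨(u, 0), ?_, rfl⟩
      simp [B, hu]
    have hy : y ∈ (iSup D).comap ((pairEq (F := F) e₁ e₂).toLinearMap ∘ₗ LinearMap.inr F _ _) := by
      refine (hD₂.2 ▸ iSup_le fun k u hu => ?_ : (⊤ : Submodule F (Fin e₂ → F)) ≤ _) Submodule.mem_top
      refine le_iSup D (finSumFinEquiv (Sum.inr k)) ⟨(0, u), ?_, rfl⟩
      simp [B, hu]
    have h := Submodule.add_mem _ (Submodule.mem_comap.1 hx) (Submodule.mem_comap.1 hy)
    rw [LinearMap.comp_apply, LinearMap.comp_apply, ← map_add] at h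
    simpa using h
  · intro j
    obtain ⟨j, rfl⟩ := finSumFinEquiv.surjective j
    simp only [D, Equiv.permCongr_apply, Equiv.symm_apply_apply]
    rcases j with k | k
    · simp only [B, Sum.elim_inl, Equiv.sumCongr_apply, Sum.map_inl, Submodule.map_bot, map_pair, hσ₁ k, Equiv.symm_apply_apply]
    · simp only [B, Sum.elim_inr, Equiv.sumCongr_apply, Sum.map_inr, Submodule.map_bot, map_pair, hσ₂ k, Equiv.symm_apply_apply]

/-- Stacking decompositions with the same permutation. -/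
theorem modelAt_stack {a₁ a₂ t : ℕ} {σ : Equiv.Perm (Fin t)} {P₁ P₂ : F[X]}
    (h₁ : ModelAt r c a₁ σ P₁) (h₂ : ModelAt r c a₂ σ P₂) : ModelAt r c (a₁ + a₂) σ (P₁ * P₂) := by
  obtain ⟨e₁, T₁, D₁, hT₁, hP₁, he₁, hD₁, hσ₁⟩ := h₁
  obtain ⟨e₂, T₂, D₂, hT₂, hP₂, he₂, hD₂, hσ₂⟩ := h₂
  let D : Fin t → Submodule F (Fin (e₁ + e₂) → F) := fun j =>
    ((D₁ j).prod (D₂ j)).map (pairEq (F := F) e₁ e₂).toLinearMap
  refine ⟨e₁ + e₂, _, D, pow_pair T₁ T₂ hT₁ hT₂, by rw [charpoly_pair, hP₁, hP₂], by rw [he₁, he₂, add_mul],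
    ⟨fun j => by rw [finrank_pair, hD₁.1, hD₂.1], ?_⟩, fun j => by simp only [D, map_pair, hσ₁, hσ₂]⟩
  rw [eq_top_iff]
  intro v _
  obtain ⟨⟨x, y⟩, rfl⟩ := (pairEq (F := F) e₁ e₂).surjective v
  have hx : x ∈ (iSup D).comap ((pairEq (F := F) e₁ e₂).toLinearMap ∘ₗ LinearMap.inl F _ _) := by
    refine (hD₁.2 ▸ iSup_le fun k u hu => ?_ : (⊤ : Submodule F (Fin e₁ → F)) ≤ _) Submodule.mem_top
    exact le_iSup D k ⟨(u, 0), Submodule.mem_prod.2 ⟨hu, Submodule.zero_mem _⟩, rfl⟩
  have hy : y ∈ (iSup D).comap ((pairEq (F := F) e₁ e₂).toLinearMap ∘ₗ LinearMap.inr F _ _) := by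
    refine (hD₂.2 ▸ iSup_le fun k u hu => ?_ : (⊤ : Submodule F (Fin e₂ → F)) ≤ _) Submodule.mem_top
    exact le_iSup D k ⟨(0, u), Submodule.mem_prod.2 ⟨Submodule.zero_mem _, hu⟩, rfl⟩
  have h := Submodule.add_mem _ (Submodule.mem_comap.1 hx) (Submodule.mem_comap.1 hy)
  rw [LinearMap.comp_apply, LinearMap.comp_apply, ← map_add] at h
  simpa using h

theorem modelAt_zero_left (t : ℕ) (σ : Equiv.Perm (Fin t)) : ModelAt r c 0 σ 1 :=
  ⟨0, 1, fun _ => ⊥, LinearMap.ext fun v => Subsingleton.elim _ _,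
    by rw [LinearMap.charpoly_one, Module.finrank_fin_fun, pow_zero], by simp,
    ⟨fun _ => finrank_bot F _, Subsingleton.elim _ _⟩, fun _ => Subsingleton.elim _ _⟩

theorem model_append {a t₁ t₂ : ℕ} {P₁ P₂ : F[X]} :
    Model r c a t₁ P₁ → Model r c a t₂ P₂ → Model r c a (t₁ + t₂) (P₁ * P₂) := fun ⟨_, h₁⟩ ⟨_, h₂⟩ =>
  ⟨_, modelAt_append h₁ h₂⟩

theorem model_zero (a : ℕ) : Model r c a 0 1 :=
  ⟨1, 0, 1, fun j => j.elim0, LinearMap.ext fun v => Subsingleton.elim _ _,
    by rw [LinearMap.charpoly_one, Module.finrank_fin_fun, pow_zero], by simp,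
    ⟨fun j => j.elim0, Subsingleton.elim _ _⟩, fun j => j.elim0⟩

theorem modelAt_stack_pow {t : ℕ} {σ : Equiv.Perm (Fin t)} {P : F[X]} (h : ModelAt r c 1 σ P) :
    ∀ k, ModelAt r c k σ (P ^ k)
  | 0 => by rw [pow_zero]; exact modelAt_zero_left t σ
  | k + 1 => by rw [pow_succ]; exact modelAt_stack (modelAt_stack_pow h k) h

theorem model_append_pow {a t : ℕ} {P : F[X]} (h : Model r c a t P) : ∀ k, Model r c a (k * t) (P ^ k)
  | 0 => by rw [pow_zero, zero_mul]; exact model_zero a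
  | k + 1 => by rw [pow_succ, add_mul, one_mul]; exact model_append (model_append_pow h k) h

/-- The cyclic shift. -/
theorem modelAt_cycle (hr : 0 < r) (hc : c ≠ 0) : ModelAt r c 1 (finRotate r) (X ^ r - Polynomial.C c) := by
  classical
  obtain ⟨n, rfl⟩ : ∃ n, r = n + 1 := ⟨r - 1, by omega⟩
  set f : F[X] := X ^ (n + 1) - Polynomial.C c with hf
  have hfm : f.Monic := monic_X_pow_sub_C c (by omega)
  have hdim : (AdjoinRoot.powerBasis' hfm).dim = n + 1 := by
    rw [AdjoinRoot.powerBasis'_dim, hf, natDegree_X_pow_sub_C]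
  set b := (AdjoinRoot.powerBasis' hfm).basis.reindex (finCongr hdim) with hb
  have hbl : ∀ l : Fin (n + 1), b l = AdjoinRoot.root f ^ (l : ℕ) := fun l => by
    rw [hb, Basis.reindex_apply, PowerBasis.basis_eq_pow, AdjoinRoot.powerBasis'_gen]; rfl
  have hroot : AdjoinRoot.root f ^ (n + 1) = algebraMap F _ c := by
    have h1 : AdjoinRoot.mk f f = 0 := AdjoinRoot.mk_self
    conv_lhs at h1 => arg 2; rw [hf]
    rw [map_sub, map_pow, AdjoinRoot.mk_X, AdjoinRoot.mk_C, sub_eq_zero] at h1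
    exact h1
  haveI : Module.Finite F (AdjoinRoot f) := Module.Finite.of_basis b
  let L := b.equivFun
  let T : Module.End F (Fin (n + 1) → F) := L.conj (Algebra.lmul F _ (AdjoinRoot.root f))
  have hTs : ∀ l : Fin (n + 1), T (Pi.single l 1) = L (AdjoinRoot.root f ^ ((l : ℕ) + 1)) := fun l => by
    rw [LinearEquiv.conj_apply_apply]
    have : L.symm (Pi.single l 1) = b l := by
      rw [LinearEquiv.symm_apply_eq]; exact funext fun i => by simp [L, Pi.single_apply, eq_comm]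
    rw [this, hbl, pow_succ']
    rfl
  refine ⟨n + 1, T, fun l => Submodule.span F {Pi.single l 1}, ?_, ?_, (one_mul _).symm, ⟨?_, ?_⟩, ?_⟩
  · have h1 : T ^ (n + 1) = L.conjAlgEquiv F ((Algebra.lmul F _ (AdjoinRoot.root f)) ^ (n + 1)) := by
      rw [map_pow]; rfl
    rw [h1, ← map_pow, hroot, AlgHom.commutes, AlgEquiv.commutes, Algebra.algebraMap_eq_smul_one]
  · rw [LinearEquiv.charpoly_conj, ← LinearMap.charpoly_toMatrix _ (AdjoinRoot.powerBasis' hfm).basis]
    have h := charpoly_leftMulMatrix (AdjoinRoot.powerBasis' hfm)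
    rw [AdjoinRoot.powerBasis'_gen, AdjoinRoot.minpoly_root hfm.ne_zero, hfm.leadingCoeff, inv_one, map_one,
      mul_one] at h
    exact h
  · intro l
    exact finrank_span_singleton (fun h => one_ne_zero (α := F) (by simpa using congrFun h l))
  · rw [← Submodule.span_range_eq_iSup, ← (Pi.basisFun F (Fin (n + 1))).span_eq]
    exact congrArg _ (congrArg Set.range (funext fun l => (Pi.basisFun_apply F (Fin (n + 1)) l).symm))
  · intro l
    rw [Submodule.map_span, Set.image_singleton, hTs]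
    rcases eq_or_ne l (Fin.last n) with rfl | hl
    · rw [finRotate_last, Fin.val_last, hroot, Algebra.algebraMap_eq_smul_one,
        show (1 : AdjoinRoot f) = b 0 by rw [hbl]; simp, map_smul,
        show L (b 0) = Pi.single 0 1 from funext fun i => by simp [L, Pi.single_apply, eq_comm]]
      exact Submodule.span_singleton_smul_eq (isUnit_iff_ne_zero.2 hc) _
    · rw [← coe_finRotate_of_ne_last hl, ← hbl,
        show L (b (finRotate (n + 1) l)) = Pi.single (finRotate (n + 1) l) 1 from funext fun i => by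
          simp [L, Pi.single_apply, eq_comm]]

variable [Fintype F] {p : ℕ} [Fact p.Prime] [CharP F p]

include p in
/-- One invariant summand with prescribed factors. -/
theorem model_single (hr : r.Prime) (hc : c ≠ 0) (M : Multiset F[X]) {a : ℕ}
    (hM : ∀ g ∈ M, g.Monic ∧ Irreducible g ∧ g ∣ X ^ r - Polynomial.C c) (hd : M.prod.natDegree = a) :
    Model r c a 1 M.prod := by
  classical
  have hR : (X ^ r - Polynomial.C c : F[X]).coeff 0 ≠ 0 := by
    simp [coeff_X_pow, hr.ne_zero.symm, hc]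
  have hm : M.prod.Monic := by simpa using monic_multiset_prod_of_monic M id fun g hg => (hM g hg).1
  have hfac : ∀ f : F[X], f.Monic → Irreducible f → f ∣ M.prod → f ∣ X ^ r - Polynomial.C c := fun f _ hi hd => by
    obtain ⟨g, hg, hfg⟩ := hi.prime.exists_mem_multiset_dvd hd
    exact hfg.trans (hM g hg).2.2
  have h0 : M.prod.coeff 0 ≠ 0 := fun h => hR (X_dvd_iff.1
    (hfac X monic_X irreducible_X (X_dvd_iff.2 h)))
  haveI := Fact.mk hr
  obtain ⟨A, hA, hAR⟩ := SubspaceDerange.exists_realisation (p := p) (n := a) hm hd h0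
    (X_pow_sub_C_ne_zero hr.pos c) hfac
  rw [map_sub, map_pow, aeval_X, aeval_C, Algebra.algebraMap_eq_smul_one, sub_eq_zero] at hAR
  have hT : (Matrix.toLinAlgEquiv' A : Module.End F (Fin a → F)) ^ r = c • 1 := by
    rw [← map_pow, hAR, map_smul, map_one]
  refine ⟨1, a, Matrix.toLinAlgEquiv' A, fun _ => ⊤, hT, by rw [GLSemisimpleClasses.charpoly_toLin', hA],
    (mul_one a).symm, ⟨fun _ => by rw [finrank_top, Module.finrank_fin_fun], iSup_const⟩, fun _ => ?_⟩
  rw [Submodule.map_top, LinearMap.range_eq_top]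
  obtain ⟨k, hk⟩ : ∃ k, r = k + 1 := ⟨r - 1, by have := hr.pos; omega⟩
  intro v
  refine ⟨((Matrix.toLinAlgEquiv' A : Module.End F (Fin a → F)) ^ k) (c⁻¹ • v), ?_⟩
  rw [← Module.End.mul_apply, ← pow_succ', ← hk, hT, LinearMap.smul_apply, Module.End.one_apply, smul_inv_smul₀ hc]

theorem natDegree_prod_const {M : Multiset F[X]} (hm : ∀ g ∈ M, g.Monic) {i : ℕ} (hd : ∀ g ∈ M, g.natDegree = i) :
    M.prod.natDegree = i * M.card := by
  rw [natDegree_multiset_prod_of_monic M hm, Multiset.map_congr rfl hd, Multiset.map_const', Multiset.sum_replicate,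
    smul_eq_mul, mul_comm]

include p in
/-- Invariant summands from the degrees of the factors. -/
theorem model_fixed (hr : r.Prime) (hc : c ≠ 0) {i a : ℕ} : ∀ (k : ℕ) (N L : Multiset F[X]),
    (∀ g ∈ N, g.Monic ∧ Irreducible g ∧ g ∣ X ^ r - Polynomial.C c ∧ g.natDegree = i) →
    (∀ g ∈ L, g.Monic ∧ Irreducible g ∧ g ∣ X ^ r - Polynomial.C c ∧ g.natDegree = 1) →
    N.card ≤ k * (a / i) → i * N.card + L.card = a * k → Model r c a k (N.prod * L.prod) := by
  classical
  intro k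
  induction k with
  | zero =>
    intro N L _ _ hle heq
    rw [zero_mul, Nat.le_zero, Multiset.card_eq_zero] at hle
    subst hle
    rw [mul_zero, Multiset.card_zero, mul_zero, zero_add, Multiset.card_eq_zero] at heq
    subst heq
    simpa using model_zero (r := r) (c := c) a
  | succ k ih =>
    intro N L hN hL hle heq
    rw [Nat.succ_mul] at hle
    set e := min N.card (a / i)
    have hee : i * e ≤ a := (Nat.mul_le_mul_left i (min_le_right _ _)).trans (Nat.mul_div_le a i)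
    have hne : N.card - e ≤ k * (a / i) := by
      rcases le_total N.card (a / i) with h' | h'
      · rw [show e = N.card from min_eq_left h']; omega
      · rw [show e = a / i from min_eq_right h']; omega
    have h3 : i * (N.card - e) ≤ a * k := by
      refine (Nat.mul_le_mul_left i hne).trans ?_
      calc i * (k * (a / i)) = (i * (a / i)) * k := by ring
        _ ≤ _ := Nat.mul_le_mul_right k (Nat.mul_div_le a i)
    have h4 : i * N.card = i * e + i * (N.card - e) := by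
      rw [← Nat.mul_add, Nat.add_sub_cancel' (min_le_left _ _)]
    rw [Nat.mul_succ] at heq
    set N₁ : Multiset F[X] := ↑(N.toList.take e) with hN₁
    set N₂ : Multiset F[X] := ↑(N.toList.drop e) with hN₂
    set L₁ : Multiset F[X] := ↑(L.toList.take (a - i * e)) with hL₁
    set L₂ : Multiset F[X] := ↑(L.toList.drop (a - i * e)) with hL₂
    have hNs : N = N₁ + N₂ := by rw [hN₁, hN₂, Multiset.coe_add, List.take_append_drop, Multiset.coe_toList]
    have hLs : L = L₁ + L₂ := by rw [hL₁, hL₂, Multiset.coe_add, List.take_append_drop, Multiset.coe_toList]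
    have hNc : N₁.card = e ∧ N₂.card = N.card - e := by
      rw [hN₁, hN₂, Multiset.coe_card, Multiset.coe_card, List.length_take, List.length_drop, Multiset.length_toList]
      exact ⟨min_eq_left (min_le_left _ _), rfl⟩
    have hLc : L₁.card = a - i * e ∧ L₂.card = L.card - (a - i * e) := by
      rw [hL₁, hL₂, Multiset.coe_card, Multiset.coe_card, List.length_take, List.length_drop, Multiset.length_toList]
      exact ⟨min_eq_left (by omega), rfl⟩
    have hN' := fun g (hg : g ∈ N₁) => hN g (hNs ▸ Multiset.mem_add.2 (Or.inl hg))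
    have hN'' := fun g (hg : g ∈ N₂) => hN g (hNs ▸ Multiset.mem_add.2 (Or.inr hg))
    have hL' := fun g (hg : g ∈ L₁) => hL g (hLs ▸ Multiset.mem_add.2 (Or.inl hg))
    have hL'' := fun g (hg : g ∈ L₂) => hL g (hLs ▸ Multiset.mem_add.2 (Or.inr hg))
    have h1 : Model r c a 1 (N₁ + L₁).prod := by
      refine model_single (p := p) hr hc _ (fun g hg => ?_) ?_
      · rcases Multiset.mem_add.1 hg with hg | hg
        · exact ⟨(hN' g hg).1, (hN' g hg).2.1, (hN' g hg).2.2.1⟩
        · exact ⟨(hL' g hg).1, (hL' g hg).2.1, (hL' g hg).2.2.1⟩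
      · rw [Multiset.prod_add, Monic.natDegree_mul (by simpa using monic_multiset_prod_of_monic N₁ id fun g hg =>
          (hN' g hg).1) (by simpa using monic_multiset_prod_of_monic L₁ id fun g hg => (hL' g hg).1),
          natDegree_prod_const (fun g hg => (hN' g hg).1) (fun g hg => (hN' g hg).2.2.2),
          natDegree_prod_const (fun g hg => (hL' g hg).1) (fun g hg => (hL' g hg).2.2.2), hNc.1, hLc.1]
        omega
    have h2 := model_append (ih N₂ L₂ hN'' hL'' (by omega) (by rw [hNc.2, hLc.2]; omega)) h1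
    rwa [Multiset.prod_add, mul_mul_mul_comm, ← Multiset.prod_add, ← Multiset.prod_add, add_comm N₂, add_comm L₂,
      ← hNs, ← hLs] at h2

end Cfsg.Agent.LinearDecompModels
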