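import Cfsg.Agent.Lib.Classical.M23Sylow
import Cfsg.Agent.Lib.Classical.M23CodeCert
import Cfsg.Agent.Lib.Classical.M23CocodeCert

/-! Extensions of `Spor.M23` by the code module split; by the cocode module their lifts of Sylow
generators can be normalised to one of two relator patterns. -/

set_option autoImplicit false
set_option maxRecDepth 100000

namespace Cfsg.Agent.Classical.M23Cohomology

open Collect M23Sylow
open Cfsg.Agent.Classical.ParkerM23

theorem code_mat : ∀ k < 7, ∀ v,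
    codeAct (gens k)⁻¹ v = mulV (M23CodeCert.cert.pres.mats.getD k []) v := by
  have h : ∀ k < 7, ∀ i : Fin 11, codeAct (gens k)⁻¹ (Pi.single i 1) =
      mulV (M23CodeCert.cert.pres.mats.getD k []) (Pi.single i 1) := by decide +kernel
  exact fun k hk => eq_mulV (codeAct_add _) _ (h k hk)

theorem cocode_mat : ∀ k < 7, ∀ v,
    cocodeAct (gens k)⁻¹ v = mulV (M23CocodeCert.cert.pres.mats.getD k []) v := by
  have h : ∀ k < 7, ∀ i : Fin 11, cocodeAct (gens k)⁻¹ (Pi.single i 1) =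
      mulV (M23CocodeCert.cert.pres.mats.getD k []) (Pi.single i 1) := by decide +kernel
  exact fun k hk => eq_mulV (cocodeAct_add _) _ (h k hk)

theorem code_rel : ∀ R ∈ M23CodeCert.cert.pres.rels,
    (R.1.map gens).prod = (R.2.1.map gens).prod := by decide +kernel

theorem cocode_rel : ∀ R ∈ M23CocodeCert.cert.pres.rels,
    (R.1.map gens).prod = (R.2.1.map gens).prod := by decide +kernel

theorem code_conj : M23CodeCert.cert.ConjFacts codeAct gens codeH := by
  have hlen : M23CodeCert.cert.conjs.length = 3 := rfl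
  have h : ∀ c < 3, (∀ i : Fin 11, codeAct (codeH c) (Pi.single i 1) =
      mulV (M23CodeCert.cert.conjs.getD c ⟨[], [], [], [], []⟩).mat (Pi.single i 1)) ∧
      ∀ q ∈ (M23CodeCert.cert.conjs.getD c ⟨[], [], [], [], []⟩).gens,
        codeH c * ((bitsList q.1).map gens).prod * (codeH c)⁻¹ = ((bitsList q.2.1).map gens).prod := by
    decide +kernel
  intro c hc
  obtain ⟨h1, h2⟩ := h c (hlen ▸ hc)
  rw [List.getD_eq_getElem _ _ hc] at h1 h2
  exact ⟨eq_mulV (codeAct_add _) _ h1, h2⟩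

theorem cocode_conj : M23CocodeCert.cert.ConjFacts cocodeAct gens cocodeH := by
  have hlen : M23CocodeCert.cert.conjs.length = 2 := rfl
  have h : ∀ c < 2, (∀ i : Fin 11, cocodeAct (cocodeH c) (Pi.single i 1) =
      mulV (M23CocodeCert.cert.conjs.getD c ⟨[], [], [], [], []⟩).mat (Pi.single i 1)) ∧
      ∀ q ∈ (M23CocodeCert.cert.conjs.getD c ⟨[], [], [], [], []⟩).gens,
        cocodeH c * ((bitsList q.1).map gens).prod * (cocodeH c)⁻¹ =
          ((bitsList q.2.1).map gens).prod := by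
    decide +kernel
  intro c hc
  obtain ⟨h1, h2⟩ := h c (hlen ▸ hc)
  rw [List.getD_eq_getElem _ _ hc] at h1 h2
  exact ⟨eq_mulV (cocodeAct_add _) _ h1, h2⟩

variable {E : Type*} [Group E]

theorem rels_of_zero (C : Cert) (X : Ext ↥Spor.M23 codeAct E) (y : ℕ → E) (lam : ZMod 2)
    (h0 : ∀ r, starVec (C.vstar.getD r 0) = 0)
    (h : ∀ r, ∀ hr : r < C.pres.rels.length, ((C.pres.rels[r]).1.map y).prod =
      ((C.pres.rels[r]).2.1.map y).prod * X.ι (lam • starVec (C.vstar.getD r 0))) :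
    ∀ R ∈ C.pres.rels, (R.1.map y).prod = (R.2.1.map y).prod := by
  intro R hR
  obtain ⟨r, hr, rfl⟩ := List.getElem_of_mem hR
  have h1 := X.ι_add 0 0
  rw [add_zero] at h1
  rw [h r hr, h0, smul_zero, left_eq_mul.mp h1, mul_one]

theorem code_splits [Finite E] (X : Ext ↥Spor.M23 codeAct E) :
    ∃ H : Subgroup E, H ⊓ X.π.ker = ⊥ ∧ H ⊔ X.π.ker = ⊤ := by
  obtain ⟨y, lam, hy, hrel⟩ := Cert.exists_lifts M23CodeCert.cert M23CodeCert.cert_ok gens codeH
    code_mat code_rel code_conj X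
  refine exists_complement M23CodeCert.cert M23CodeCert.cert_ok gens code_mat gens_inj card_eq X y hy
    (rels_of_zero _ X y lam (fun r => ?_) hrel)
  funext i
  have h : ∀ r, M23CodeCert.cert.vstar.getD r 0 = 0 := fun r => by
    by_cases hr : r < 28
    · revert r; decide +kernel
    · rw [List.getD_eq_default]; exact not_lt.mp hr
  rw [h, starVec]; simp

/-- Relator values of normalised lifts in a non-split extension by the cocode module. -/
theorem cocode_lifts [Finite E] (X : Ext ↥Spor.M23 cocodeAct E)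
    (hns : ∀ H : Subgroup E, H ⊓ X.π.ker = ⊥ → H ⊔ X.π.ker ≠ ⊤) :
    ∃ y : ℕ → E, (∀ k, X.π (y k) = gens k) ∧
      ∀ r, ∀ hr : r < M23CocodeCert.cert.pres.rels.length,
        ((M23CocodeCert.cert.pres.rels[r]).1.map y).prod =
          ((M23CocodeCert.cert.pres.rels[r]).2.1.map y).prod *
            X.ι (starVec (M23CocodeCert.cert.vstar.getD r 0)) := by
  obtain ⟨y, lam, hy, hrel⟩ := Cert.exists_lifts M23CocodeCert.cert M23CocodeCert.cert_ok gens cocodeH
    cocode_mat cocode_rel cocode_conj X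
  rcases z2 lam with rfl | rfl
  · exfalso
    obtain ⟨H, h1, h2⟩ := exists_complement M23CocodeCert.cert M23CocodeCert.cert_ok gens cocode_mat
      gens_inj card_eq X y hy (fun R hR => by
        obtain ⟨r, hr, rfl⟩ := List.getElem_of_mem hR
        have h1 := X.ι_add 0 0
        rw [add_zero] at h1
        rw [hrel r hr, zero_smul, left_eq_mul.mp h1, mul_one])
    exact hns H h1 h2
  · exact ⟨y, hy, fun r hr => by rw [hrel r hr, one_smul]⟩

/-! ### Two extensions with a common projection -/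

variable {E' : Type*} [Group E']

/-- The pairs with the same image. -/
def fibre {G : Type*} [Group G] (π : E →* G) (π' : E' →* G) : Subgroup (E × E') :=
  MonoidHom.eqLocus (π.comp (MonoidHom.fst E E')) (π'.comp (MonoidHom.snd E E'))

theorem eq_inv_mul_of_eq_mul {H : Type*} [Group H] {a b v : H} (h : a = b * v) (hv : v * v = 1) :
    v = a⁻¹ * b := by
  rw [h, mul_inv_rev, mul_assoc, inv_mul_cancel, mul_one, eq_inv_iff_mul_eq_one, hv]

theorem cocode_unique [Finite E] [Finite E'] (X : Ext ↥Spor.M23 cocodeAct E)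
    (X' : Ext ↥Spor.M23 cocodeAct E')
    (hns : ∀ H : Subgroup E, H ⊓ X.π.ker = ⊥ → H ⊔ X.π.ker ≠ ⊤)
    (hns' : ∀ H : Subgroup E', H ⊓ X'.π.ker = ⊥ → H ⊔ X'.π.ker ≠ ⊤) : Nonempty (E ≃* E') := by
  obtain ⟨y, hy, hrel⟩ := cocode_lifts X hns
  obtain ⟨y', hy', hrel'⟩ := cocode_lifts X' hns'
  let F : Subgroup (E × E') := fibre X.π X'.π
  have hmem : ∀ x : ↥F, X.π x.1.1 = X'.π x.1.2 := fun x => x.2
  have hι0 : X.ι 0 = 1 := by
    have h1 := X.ι_add 0 0
    rw [add_zero] at h1
    exact left_eq_mul.mp h1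
  have hι0' : X'.ι 0 = 1 := by
    have h1 := X'.ι_add 0 0
    rw [add_zero] at h1
    exact left_eq_mul.mp h1
  let diag : V → ↥F := fun v => ⟨(X.ι v, X'.ι v), (X.π_ι v).trans (X'.π_ι v).symm⟩
  have hdiag : ∀ a b, diag (a + b) = diag a * diag b := fun a b =>
    Subtype.ext (Prod.ext (X.ι_add a b) (X'.ι_add a b))
  let D : Subgroup ↥F :=
    { carrier := Set.range diag
      one_mem' := ⟨0, Subtype.ext (Prod.ext hι0 hι0')⟩
      mul_mem' := by rintro _ _ ⟨a, rfl⟩ ⟨b, rfl⟩; exact ⟨a + b, hdiag a b⟩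
      inv_mem' := by
        rintro _ ⟨a, rfl⟩
        refine ⟨a, (inv_eq_of_mul_eq_one_right ?_).symm⟩
        rw [← hdiag, CharTwo.add_self_eq_zero]
        exact Subtype.ext (Prod.ext hι0 hι0') }
  have hD : D.Normal := ⟨by
    rintro _ ⟨v, rfl⟩ x
    refine ⟨cocodeAct (X.π x.1.1) v, Subtype.ext (Prod.ext ?_ ?_)⟩
    · exact (X.conj x.1.1 v).symm
    · show X'.ι _ = x.1.2 * X'.ι v * x.1.2⁻¹
      rw [X'.conj, hmem x]⟩
  let p : ↥F →* ↥Spor.M23 := (X.π.comp (MonoidHom.fst E E')).comp F.subtype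
  have hpD : D ≤ p.ker := by rintro _ ⟨v, rfl⟩; exact X.π_ι v
  let left : V → ↥F := fun v => ⟨(X.ι v, 1), (X.π_ι v).trans (map_one X'.π).symm⟩
  let Y : Ext ↥Spor.M23 cocodeAct (↥F ⧸ D) :=
    { π := QuotientGroup.lift D p hpD
      ι := fun v => (left v : ↥F ⧸ D)
      ι_add := fun a b => by
        rw [← QuotientGroup.mk_mul]
        exact congrArg _ (Subtype.ext (Prod.ext (X.ι_add a b) (one_mul 1).symm))
      ι_inj := fun a b h => by
        obtain ⟨v, hv⟩ := QuotientGroup.eq.mp h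
        have h1 := congrArg (fun z : ↥F => z.1.1) hv
        have h2 := congrArg (fun z : ↥F => z.1.2) hv
        change X'.ι v = 1⁻¹ * 1 at h2
        rw [inv_one, one_mul, ← hι0'] at h2
        obtain rfl := X'.ι_inj h2
        change X.ι 0 = (X.ι a)⁻¹ * X.ι b at h1
        rw [hι0, eq_comm, inv_mul_eq_one] at h1
        exact X.ι_inj h1
      π_ι := fun v => X.π_ι v
      exists_ι := fun z hz => by
        induction z using QuotientGroup.induction_on with
        | _ x =>
          obtain ⟨a, ha⟩ := X.exists_ι x.1.1 hz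
          obtain ⟨b, hb⟩ := X'.exists_ι x.1.2 ((hmem x).symm.trans hz)
          refine ⟨a + b, QuotientGroup.eq.mpr ⟨b, Subtype.ext (Prod.ext ?_ ?_)⟩⟩
          · show X.ι b = (X.ι (a + b))⁻¹ * x.1.1
            rw [← ha, eq_inv_mul_iff_mul_eq, ← X.ι_add, add_assoc, CharTwo.add_self_eq_zero, add_zero]
          · show X'.ι b = 1⁻¹ * x.1.2
            rw [inv_one, one_mul, hb]
      π_surj := fun g => by
        obtain ⟨a, ha⟩ := X.π_surj g
        obtain ⟨b, hb⟩ := X'.π_surj g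
        exact ⟨((⟨(a, b), ha.trans hb.symm⟩ : ↥F) : ↥F ⧸ D), ha⟩
      conj := fun z v => by
        induction z using QuotientGroup.induction_on with
        | _ x =>
          rw [← QuotientGroup.mk_inv, ← QuotientGroup.mk_mul, ← QuotientGroup.mk_mul]
          refine congrArg _ (Subtype.ext (Prod.ext (X.conj x.1.1 v) ?_))
          show x.1.2 * 1 * x.1.2⁻¹ = 1
          rw [mul_one, mul_inv_cancel] }
  let z : ℕ → ↥F := fun k => ⟨(y k, y' k), (hy k).trans (hy' k).symm⟩
  have hz : ∀ L : List ℕ, ((L.map z).prod : ↥F).1 = ((L.map y).prod, (L.map y').prod) := by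
    intro L
    induction L with
    | nil => rfl
    | cons k L ih =>
      rw [List.map_cons, List.prod_cons, Subgroup.coe_mul, ih]
      rfl
  have hzq : ∀ L : List ℕ, ((L.map z).prod : ↥F ⧸ D) = (L.map fun k => (z k : ↥F ⧸ D)).prod := by
    intro L
    rw [← QuotientGroup.coe_mk', map_list_prod, List.map_map]
    rfl
  obtain ⟨K, hK1, hK2⟩ := exists_complement M23CocodeCert.cert M23CocodeCert.cert_ok gens cocode_mat
    gens_inj card_eq Y (fun k => (z k : ↥F ⧸ D)) hy (fun R hR => by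
      obtain ⟨r, hr, rfl⟩ := List.getElem_of_mem hR
      rw [← hzq, ← hzq]
      refine QuotientGroup.eq.mpr ⟨starVec (M23CocodeCert.cert.vstar.getD r 0), Subtype.ext ?_⟩
      rw [Subgroup.coe_mul, Subgroup.coe_inv, hz, hz]
      refine Prod.ext (eq_inv_mul_of_eq_mul (hrel r hr) ?_) (eq_inv_mul_of_eq_mul (hrel' r hr) ?_)
      · rw [← X.ι_add, CharTwo.add_self_eq_zero, hι0]
      · rw [← X'.ι_add, CharTwo.add_self_eq_zero, hι0'])
  have hdis : ∀ x : ↥F, (x : ↥F ⧸ D) ∈ K → p x = 1 → x ∈ D := fun x hx hp => by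
    have : (x : ↥F ⧸ D) ∈ K ⊓ Y.π.ker := ⟨hx, hp⟩
    rw [hK1, Subgroup.mem_bot] at this
    exact (QuotientGroup.eq_one_iff x).mp this
  let Kh : Subgroup ↥F := K.comap (QuotientGroup.mk' D)
  have hfull : ∀ g, ∃ x : ↥F, x ∈ Kh ∧ p x = g := by
    intro g
    obtain ⟨w, hw⟩ := Y.π_surj g
    have h1 : w ∈ K ⊔ Y.π.ker := by rw [hK2]; exact Subgroup.mem_top w
    obtain ⟨a, ha, n, hn, rfl⟩ := Subgroup.mem_sup_of_normal_right.mp h1
    obtain ⟨x, rfl⟩ := QuotientGroup.mk_surjective a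
    refine ⟨x, ha, ?_⟩
    rw [← hw, map_mul, MonoidHom.mem_ker.mp hn, mul_one]
    rfl
  have hDK : ∀ v, diag v ∈ Kh := fun v => by
    show ((diag v : ↥F) : ↥F ⧸ D) ∈ K
    rw [(QuotientGroup.eq_one_iff (N := D) (diag v)).mpr ⟨v, rfl⟩]
    exact K.one_mem
  let f : ↥Kh →* E := (MonoidHom.fst E E').comp (F.subtype.comp Kh.subtype)
  let f' : ↥Kh →* E' := (MonoidHom.snd E E').comp (F.subtype.comp Kh.subtype)
  have hinj : Function.Injective f := (injective_iff_map_eq_one f).mpr fun x hx => by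
    obtain ⟨v, hv⟩ := hdis x.1 x.2 (by show X.π (f x) = 1; rw [hx, map_one])
    have : X.ι v = X.ι 0 := by rw [hι0, ← hx]; exact congrArg (fun q : ↥F => q.1.1) hv
    obtain rfl := X.ι_inj this
    exact Subtype.ext (hv.symm.trans (Subtype.ext (Prod.ext hι0 hι0')))
  have hinj' : Function.Injective f' := (injective_iff_map_eq_one f').mpr fun x hx => by
    obtain ⟨v, hv⟩ := hdis x.1 x.2 (by
      show X.π x.1.1.1 = 1
      rw [hmem]; exact (congrArg X'.π hx).trans (map_one _))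
    have : X'.ι v = X'.ι 0 := by rw [hι0', ← hx]; exact congrArg (fun q : ↥F => q.1.2) hv
    obtain rfl := X'.ι_inj this
    exact Subtype.ext (hv.symm.trans (Subtype.ext (Prod.ext hι0 hι0')))
  have hsur : Function.Surjective f := fun e => by
    obtain ⟨x, hx, hp⟩ := hfull (X.π e)
    obtain ⟨v, hv⟩ := X.exists_ι (x.1.1⁻¹ * e) (by
      rw [map_mul, map_inv, show X.π x.1.1 = X.π e from hp, inv_mul_cancel])
    refine ⟨⟨x * diag v, mul_mem hx (hDK v)⟩, ?_⟩
    show x.1.1 * X.ι v = e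
    rw [hv, mul_inv_cancel_left]
  have hsur' : Function.Surjective f' := fun e => by
    obtain ⟨x, hx, hp⟩ := hfull (X'.π e)
    obtain ⟨v, hv⟩ := X'.exists_ι (x.1.2⁻¹ * e) (by
      rw [map_mul, map_inv, ← hmem x, show X.π x.1.1 = X'.π e from hp, inv_mul_cancel])
    refine ⟨⟨x * diag v, mul_mem hx (hDK v)⟩, ?_⟩
    show x.1.2 * X'.ι v = e
    rw [hv, mul_inv_cancel_left]
  exact ⟨(MulEquiv.ofBijective f ⟨hinj, hsur⟩).symm.trans (MulEquiv.ofBijective f' ⟨hinj', hsur'⟩)⟩

end Cfsg.Agent.Classical.M23Cohomology
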