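import Cfsg.Agent.Lib.Classical.ParkerM23Cert
import Cfsg.Agent.Lib.Classical.CollectSplit
import Cfsg.Agent.Lib.Spor.Golay.M23Idx

/-! Generators of a Sylow 2-subgroup of `Spor.M23`, some fusing elements, and the two 11-dimensional
actions in coordinates. -/

set_option autoImplicit false
set_option maxRecDepth 100000

namespace Cfsg.Agent.Classical.M23Sylow

open Cfsg.Agent.Spor.Golay
open Cfsg.Agent.Classical.ParkerM23
open Cfsg.Agent.Classical.Collect

/-- A member of `Spor.M23` from the lists of its images and inverse images. -/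
def mk23 (L L' : List ℕ) (h1 : ∀ p, pt (L'.getD (idx (pt (L.getD (idx p) 0))) 0) = p)
    (h2 : ∀ p, pt (L.getD (idx (pt (L'.getD (idx p) 0))) 0) = p)
    (h3 : (valid (pack 24 fun i => L.getD i 0) && (List.range 24).all fun i =>
      idx (pt (L.getD (idx (pt i)) 0)) == get (pack 24 fun i => L.getD i 0) i) = true)
    (h4 : inM24 (pack 24 fun i => L.getD i 0) = true) (h5 : L.getD 23 0 = 23) : ↥Spor.M23 :=
  ⟨⟨fun p => pt (L.getD (idx p) 0), fun p => pt (L'.getD (idx p) 0), h1, h2⟩,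
    mem_M23_of_list L (fun _ => rfl) h3 h4 h5⟩

/-- A permutation. -/
def gen0 : ↥Spor.M23 :=
  mk23 [2, 1, 0, 17, 19, 5, 13, 22, 11, 9, 20, 8, 12, 6, 14, 15, 21, 3, 18, 4, 10, 16, 7, 23]
    [2, 1, 0, 17, 19, 5, 13, 22, 11, 9, 20, 8, 12, 6, 14, 15, 21, 3, 18, 4, 10, 16, 7, 23]
    (by decide +kernel) (by decide +kernel) (by decide +kernel) (by decide +kernel) (by decide +kernel)

/-- A permutation. -/
def gen1 : ↥Spor.M23 :=
  mk23 [0, 5, 6, 20, 7, 1, 2, 4, 8, 9, 19, 21, 12, 13, 18, 15, 16, 22, 14, 10, 3, 11, 17, 23]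
    [0, 5, 6, 20, 7, 1, 2, 4, 8, 9, 19, 21, 12, 13, 18, 15, 16, 22, 14, 10, 3, 11, 17, 23]
    (by decide +kernel) (by decide +kernel) (by decide +kernel) (by decide +kernel) (by decide +kernel)

/-- A permutation. -/
def gen2 : ↥Spor.M23 :=
  mk23 [3, 1, 6, 7, 13, 5, 22, 16, 20, 18, 2, 21, 14, 8, 12, 15, 0, 11, 9, 17, 4, 19, 10, 23]
    [16, 1, 10, 0, 20, 5, 2, 3, 13, 18, 22, 17, 14, 4, 12, 15, 7, 19, 9, 21, 8, 11, 6, 23]
    (by decide +kernel) (by decide +kernel) (by decide +kernel) (by decide +kernel) (by decide +kernel)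

/-- A permutation. -/
def gen3 : ↥Spor.M23 :=
  mk23 [0, 1, 11, 13, 4, 5, 10, 7, 8, 14, 6, 2, 18, 3, 9, 15, 20, 21, 12, 22, 16, 17, 19, 23]
    [0, 1, 11, 13, 4, 5, 10, 7, 8, 14, 6, 2, 18, 3, 9, 15, 20, 21, 12, 22, 16, 17, 19, 23]
    (by decide +kernel) (by decide +kernel) (by decide +kernel) (by decide +kernel) (by decide +kernel)

/-- A permutation. -/
def gen4 : ↥Spor.M23 :=
  mk23 [0, 1, 22, 20, 4, 5, 17, 7, 8, 12, 21, 19, 9, 16, 18, 15, 13, 6, 14, 11, 3, 10, 2, 23]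
    [0, 1, 22, 20, 4, 5, 17, 7, 8, 12, 21, 19, 9, 16, 18, 15, 13, 6, 14, 11, 3, 10, 2, 23]
    (by decide +kernel) (by decide +kernel) (by decide +kernel) (by decide +kernel) (by decide +kernel)

/-- A permutation. -/
def gen5 : ↥Spor.M23 :=
  mk23 [4, 1, 19, 13, 0, 5, 17, 8, 7, 9, 21, 22, 12, 3, 14, 15, 20, 6, 18, 2, 16, 10, 11, 23]
    [4, 1, 19, 13, 0, 5, 17, 8, 7, 9, 21, 22, 12, 3, 14, 15, 20, 6, 18, 2, 16, 10, 11, 23]
    (by decide +kernel) (by decide +kernel) (by decide +kernel) (by decide +kernel) (by decide +kernel)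

/-- A permutation. -/
def gen6 : ↥Spor.M23 :=
  mk23 [8, 1, 11, 20, 7, 5, 21, 4, 0, 9, 17, 2, 12, 16, 14, 15, 13, 10, 18, 22, 3, 6, 19, 23]
    [8, 1, 11, 20, 7, 5, 21, 4, 0, 9, 17, 2, 12, 16, 14, 15, 13, 10, 18, 22, 3, 6, 19, 23]
    (by decide +kernel) (by decide +kernel) (by decide +kernel) (by decide +kernel) (by decide +kernel)

/-- A permutation. -/
def codeH0 : ↥Spor.M23 :=
  mk23 [2, 11, 12, 10, 17, 19, 6, 9, 0, 13, 5, 18, 1, 4, 7, 16, 22, 20, 8, 15, 14, 21, 3, 23]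
    [8, 12, 0, 22, 13, 10, 6, 14, 18, 7, 3, 1, 2, 9, 20, 19, 15, 4, 11, 5, 17, 21, 16, 23]
    (by decide +kernel) (by decide +kernel) (by decide +kernel) (by decide +kernel) (by decide +kernel)

/-- A permutation. -/
def codeH1 : ↥Spor.M23 :=
  mk23 [9, 18, 3, 13, 8, 10, 16, 0, 5, 14, 19, 20, 11, 22, 15, 17, 6, 21, 2, 1, 4, 7, 12, 23]
    [7, 19, 18, 2, 20, 8, 16, 21, 4, 0, 5, 12, 22, 3, 9, 14, 6, 15, 1, 10, 11, 17, 13, 23]
    (by decide +kernel) (by decide +kernel) (by decide +kernel) (by decide +kernel) (by decide +kernel)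

/-- A permutation. -/
def codeH2 : ↥Spor.M23 :=
  mk23 [7, 15, 11, 18, 8, 1, 13, 0, 4, 10, 16, 19, 17, 14, 21, 5, 12, 20, 6, 2, 9, 3, 22, 23]
    [7, 5, 19, 21, 8, 15, 18, 0, 4, 20, 9, 2, 16, 6, 13, 1, 10, 12, 3, 11, 17, 14, 22, 23]
    (by decide +kernel) (by decide +kernel) (by decide +kernel) (by decide +kernel) (by decide +kernel)

/-- A permutation. -/
def cocodeH0 : ↥Spor.M23 :=
  mk23 [7, 18, 3, 0, 13, 9, 5, 17, 11, 2, 14, 8, 10, 19, 16, 12, 20, 1, 4, 22, 21, 15, 6, 23]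
    [3, 17, 9, 2, 18, 6, 22, 0, 11, 5, 12, 8, 15, 4, 10, 21, 14, 7, 1, 13, 16, 20, 19, 23]
    (by decide +kernel) (by decide +kernel) (by decide +kernel) (by decide +kernel) (by decide +kernel)

/-- A permutation. -/
def cocodeH1 : ↥Spor.M23 :=
  mk23 [5, 20, 16, 18, 21, 7, 22, 10, 0, 15, 1, 14, 9, 6, 12, 3, 19, 8, 4, 17, 13, 2, 11, 23]
    [8, 10, 21, 15, 18, 0, 13, 5, 17, 12, 7, 22, 14, 20, 11, 9, 2, 19, 3, 16, 1, 4, 6, 23]
    (by decide +kernel) (by decide +kernel) (by decide +kernel) (by decide +kernel) (by decide +kernel)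

/-- The generators of the Sylow 2-subgroup. -/
def gens (k : ℕ) : ↥Spor.M23 :=
  [gen0, gen1, gen2, gen3, gen4, gen5, gen6].getD k 1

/-- The fusing elements for the code module. -/
def codeH (c : ℕ) : ↥Spor.M23 :=
  [codeH0, codeH1, codeH2].getD c 1

/-- The fusing elements for the cocode module. -/
def cocodeH (c : ℕ) : ↥Spor.M23 :=
  [cocodeH0, cocodeH1].getD c 1

/-- The action on the code words vanishing at the extra point. -/
def codeAct (p : ↥Spor.M23) (v : V) : V := hat p v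

/-- The action on functionals of those words. -/
def cocodeAct (p : ↥Spor.M23) (v : V) : V :=
  fun i => ∑ j, v j * hat ((p⁻¹ : ↥Spor.M23) : Equiv.Perm GolayPt) (Pi.single i 1) j

theorem codeAct_add (p : ↥Spor.M23) (v w : V) : codeAct p (v + w) = codeAct p v + codeAct p w :=
  hat_add _ _ _

theorem cocodeAct_add (p : ↥Spor.M23) (v w : V) :
    cocodeAct p (v + w) = cocodeAct p v + cocodeAct p w := by
  funext i; simp [cocodeAct, add_mul, Finset.sum_add_distrib]

theorem eq_mulV {f : V → V} (hf : ∀ v w, f (v + w) = f v + f w) (M : List ℕ)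
    (h : ∀ i : Fin 11, f (Pi.single i 1) = mulV M (Pi.single i 1)) (v : V) : f v = mulV M v := by
  let F : V →+ V := AddMonoidHom.mk' f hf
  let G : V →+ V := AddMonoidHom.mk' (mulV M) (mulV_add M)
  have e : v = ∑ i : Fin 11, Pi.single i (v i) := (Finset.univ_sum_single v).symm
  show F v = G v
  rw [e, map_sum, map_sum]
  refine Finset.sum_congr rfl fun i _ => ?_
  rcases z2 (v i) with hv | hv <;> rw [hv]
  · rw [Pi.single_zero, map_zero, map_zero]
  · exact h i

/-- A fingerprint of a permutation. -/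
def finger (σ : Equiv.Perm GolayPt) : ℕ := pack 24 fun i => idx (σ (pt i))

theorem gens_inj : ∀ a < 128, ∀ b < 128,
    ((bitsList a).map gens).prod = ((bitsList b).map gens).prod → a = b := by
  have h : ((List.range 128).map fun e =>
      finger (((bitsList e).map gens).prod : ↥Spor.M23)).Nodup := by decide +kernel
  intro a ha b hb hab
  exact List.inj_on_of_nodup_map h (List.mem_range.mpr ha) (List.mem_range.mpr hb) (by rw [hab])

theorem card_eq : ∃ d, Odd d ∧ Nat.card ↥Spor.M23 = 128 * d :=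
  ⟨79695, by decide, by rw [M23Idx.card_M23]⟩

end Cfsg.Agent.Classical.M23Sylow
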