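import Cfsg.Agent.Lib.Classical.MatOrthRoots

/-!
The split root datum of `Ω_{2m+1}`, in odd characteristic.
-/

set_option autoImplicit false
set_option linter.unusedSectionVars false
set_option maxHeartbeats 4000000

namespace Cfsg.Agent.Classical.MatRootData

open Matrix Cfsg.Agent.Classical.RegularBlocks Cfsg.Agent.Classical.OrthAut Cfsg.Agent.Lie.Chev
  Cfsg.Agent.Lie.CurtisTitsA
open scoped MatrixGroups

variable {m : ℕ} (hm : 3 ≤ m) (F : Type*) [Field F] [Fintype F] (h2 : (2 : F) ≠ 0)

/-- The last index. -/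
abbrev odB : Fin m := ⟨m - 1, by omega⟩

/-- The coordinates of the last simple root. -/
def odEmb : Fin 3 ↪ OIdx Unit m :=
  ⟨![ox Unit m (odB hm), Sum.inl (), oy Unit m (odB hm)], fun a b h => by
    fin_cases a <;> fin_cases b <;> first | rfl | simp at h⟩

/-- The symmetric square. -/
def sym2 : SL(2, F) →* Matrix (Fin 3) (Fin 3) F where
  toFun X := !![X.1 0 0 * X.1 0 0, 2 * (X.1 0 0 * X.1 0 1), -(X.1 0 1 * X.1 0 1);
    X.1 0 0 * X.1 1 0, X.1 0 0 * X.1 1 1 + X.1 0 1 * X.1 1 0, -(X.1 0 1 * X.1 1 1);
    -(X.1 1 0 * X.1 1 0), -(2 * (X.1 1 0 * X.1 1 1)), X.1 1 1 * X.1 1 1]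
  map_one' := by
    ext p q; fin_cases p <;> fin_cases q <;> simp
  map_mul' X Y := by
    ext p q; fin_cases p <;> fin_cases q <;>
      simp [Matrix.mul_apply, Fin.sum_univ_three, Fin.sum_univ_two] <;> ring

theorem extM_mulVec_vec {α I : Type} [Fintype α] [DecidableEq α] [Fintype I] [DecidableEq I] (f : α ↪ I)
    (A : Matrix α α F) (v : I → F) :
    (∀ a, (Cfsg.Agent.Lie.SpnPres.extM f A *ᵥ v) (f a) = (A *ᵥ fun c => v (f c)) a) ∧
    ∀ p, (∀ a, p ≠ f a) → (Cfsg.Agent.Lie.SpnPres.extM f A *ᵥ v) p = v p := by
  have e1 : (Cfsg.Agent.Lie.SpnPres.incM F f)ᵀ *ᵥ v = fun c => v (f c) := by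
    funext c; simp [Cfsg.Agent.Lie.SpnPres.incM, Matrix.mulVec, dotProduct]
  constructor
  · intro a
    rw [Cfsg.Agent.Lie.SpnPres.extM, Matrix.add_mulVec, Matrix.one_mulVec, ← Matrix.mulVec_mulVec,
      ← Matrix.mulVec_mulVec, e1, Matrix.sub_mulVec, Matrix.one_mulVec]
    simp [Cfsg.Agent.Lie.SpnPres.incM, Matrix.mulVec, dotProduct, f.injective.eq_iff]
  · intro p hp
    rw [Cfsg.Agent.Lie.SpnPres.extM, Matrix.add_mulVec, Matrix.one_mulVec, ← Matrix.mulVec_mulVec,
      ← Matrix.mulVec_mulVec, Pi.add_apply, add_eq_left]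
    exact Finset.sum_eq_zero fun c _ => by simp [Cfsg.Agent.Lie.SpnPres.incM, hp]

theorem odEmb_zero : odEmb hm 0 = ox Unit m (odB hm) := rfl

theorem odEmb_one : odEmb hm 1 = Sum.inl () := rfl

theorem odEmb_two : odEmb hm 2 = oy Unit m (odB hm) := rfl

theorem fin_three_cases (a : Fin 3) : a = 0 ∨ a = 1 ∨ a = 2 := by fin_cases a <;> simp

theorem odEmb_out (p : Fin m) (hp : p ≠ odB hm) :
    (∀ a, ox Unit m p ≠ odEmb hm a) ∧ ∀ a, oy Unit m p ≠ odEmb hm a := by
  refine ⟨fun a => ?_, fun a => ?_⟩ <;> rcases fin_three_cases a with rfl | rfl | rfl <;>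
    simp [odEmb_zero, odEmb_one, odEmb_two, hp]

theorem odLastM_quad (X : SL(2, F)) (v : OIdx Unit m → F) :
    qK Unit m F (Cfsg.Agent.Lie.SpnPres.extM (odEmb hm) (sym2 F X) *ᵥ v) = qK Unit m F v := by
  obtain ⟨h1, h0⟩ := extM_mulVec_vec F (odEmb hm) (sym2 F X) v
  rw [qK_apply, qK_apply, ← Finset.add_sum_erase Finset.univ _ (Finset.mem_univ (odB hm)),
    ← Finset.add_sum_erase Finset.univ (fun i => v (ox Unit m i) * v (oy Unit m i)) (Finset.mem_univ (odB hm))]
  rw [Finset.sum_congr rfl (s₂ := Finset.univ.erase (odB hm)) (g := fun i => v (ox Unit m i) * v (oy Unit m i))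
    fun i hi => by
    obtain ⟨a, b⟩ := odEmb_out hm i (Finset.ne_of_mem_erase hi)
    rw [h0 _ a, h0 _ b]]
  simp only [Fintype.sum_unique]
  rw [show ox Unit m (odB hm) = odEmb hm 0 from rfl, show (Sum.inl default : OIdx Unit m) = odEmb hm 1 from rfl,
    show oy Unit m (odB hm) = odEmb hm 2 from rfl, h1, h1, h1]
  have := det_two X
  simp [sym2, Matrix.mulVec, dotProduct, Fin.sum_univ_three]
  linear_combination (v (odEmb hm 1) * v (odEmb hm 1) + v (odEmb hm 0) * v (odEmb hm 2)) *
    (X.1 0 0 * X.1 1 1 - X.1 0 1 * X.1 1 0 + 1) * this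

/-- The last copy of `SL₂` among the isometries. -/
noncomputable def odLastO : SL(2, F) →* isometryGroup F ⇑(qK Unit m F) :=
  (({ toFun := fun X => Cfsg.Agent.Lie.SpnPres.extM (odEmb hm) (sym2 F X)
      map_one' := by rw [map_one, Cfsg.Agent.Lie.SpnPres.extM_one]
      map_mul' := fun X Y => by rw [map_mul, Cfsg.Agent.Lie.SpnPres.extM_mul] } :
      SL(2, F) →* Matrix (OIdx Unit m) (OIdx Unit m) F).toHomUnits).codRestrict _
    fun X => mem_isometryGroup.2 fun v => by
      rw [MonoidHom.coe_toHomUnits]; exact odLastM_quad hm F X v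

theorem odLastO_val (X : SL(2, F)) (p q : OIdx Unit m) :
    ogVal (odLastO hm F X) p q =
      match p, q with
      | .inl _, .inl _ => X.1 0 0 * X.1 1 1 + X.1 0 1 * X.1 1 0
      | .inl _, .inr (.inl q) => if q.val = m - 1 then X.1 0 0 * X.1 1 0 else 0
      | .inl _, .inr (.inr q) => if q.val = m - 1 then -(X.1 0 1 * X.1 1 1) else 0
      | .inr (.inl p), .inl _ => if p.val = m - 1 then 2 * (X.1 0 0 * X.1 0 1) else 0
      | .inr (.inr p), .inl _ => if p.val = m - 1 then -(2 * (X.1 1 0 * X.1 1 1)) else 0
      | .inr (.inl p), .inr (.inl q) => if p = q then (if p.val = m - 1 then X.1 0 0 * X.1 0 0 else 1) else 0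
      | .inr (.inr p), .inr (.inr q) => if p = q then (if p.val = m - 1 then X.1 1 1 * X.1 1 1 else 1) else 0
      | .inr (.inl p), .inr (.inr q) => if p.val = m - 1 ∧ q.val = m - 1 then -(X.1 0 1 * X.1 0 1) else 0
      | .inr (.inr p), .inr (.inl q) => if p.val = m - 1 ∧ q.val = m - 1 then -(X.1 1 0 * X.1 1 0) else 0 := by
  show Cfsg.Agent.Lie.SpnPres.extM (odEmb hm) (sym2 F X) p q = _
  obtain ⟨h1, h0⟩ := extM_entry (F := F) (odEmb hm) (sym2 F X) p q
  have hc : ∀ r : OIdx Unit m, (∀ a, r ≠ odEmb hm a) ∨ r = odEmb hm 0 ∨ r = odEmb hm 1 ∨ r = odEmb hm 2 := by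
    intro r
    rcases r with c | i | i
    · exact Or.inr (Or.inr (Or.inl rfl))
    · by_cases h : i = odB hm
      · subst h; exact Or.inr (Or.inl rfl)
      · exact Or.inl (odEmb_out hm i h).1
    · by_cases h : i = odB hm
      · subst h; exact Or.inr (Or.inr (Or.inr rfl))
      · exact Or.inl (odEmb_out hm i h).2
  rcases hc p with hp | rfl | rfl | rfl
  · rw [h0 (Or.inl hp)]
    rcases p with c | p | p
    · exact absurd (hp 1) (by simp [odEmb_one])
    all_goals
      have hp' : p.val ≠ m - 1 := fun e => by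
        obtain rfl : p = odB hm := Fin.ext e
        first | exact hp 0 rfl | exact hp 2 rfl
      rcases q with c | q | q <;> simp [hp']
  all_goals
    rcases hc q with hq | rfl | rfl | rfl
    · rw [h0 (Or.inr hq)]
      rcases q with c | q | q
      · exact absurd (hq 1) (by simp [odEmb_one])
      all_goals
        have hq' : q.val ≠ m - 1 := fun e => by
          obtain rfl : q = odB hm := Fin.ext e
          first | exact hq 0 rfl | exact hq 2 rfl
        simp [odEmb_zero, odEmb_one, odEmb_two, hq', Fin.ext_iff, Ne.symm hq']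
    all_goals
      rw [h1 _ _ rfl rfl]
      simp [odEmb_zero, odEmb_one, odEmb_two, sym2]

theorem od_up (t : F) :
    ∃ h : OK (qK Unit m F) (Pi.single (ox Unit m (odB hm)) 1) ((-t) • Pi.single (Sum.inl ()) 1),
      eOG h = odLastO hm F (upSL t) := by
  have hok : OK (qK Unit m F) (Pi.single (ox Unit m (odB hm)) 1) ((-t) • Pi.single (Sum.inl ()) 1) :=
    ⟨qK_ox _, by simp [polar_ox]⟩
  refine ⟨hok, ogVal_ext (Matrix.ext fun p q => ?_)⟩
  rw [odLastO_val, eOG_val, show eMat (qK Unit m F) (Pi.single (ox Unit m (odB hm)) 1) ((-t) • Pi.single (Sum.inl ()) 1) p q =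
      (eMat (qK Unit m F) (Pi.single (ox Unit m (odB hm)) 1) ((-t) • Pi.single (Sum.inl ()) 1) *ᵥ Pi.single q 1) p by
        rw [Matrix.mulVec_single_one]; rfl,
    eMat_mulVec, QuadraticMap.polar_smul_left, polar_oz, polar_ox, QuadraticMap.map_smul, qK_oz]
  rcases p with c | p | p <;> rcases q with d | q | q <;>
    simp only [Pi.add_apply, Pi.sub_apply, Pi.smul_apply, Pi.single_apply, Sum.inr.injEq, Sum.inl.injEq,
      reduceCtorEq, Fin.ext_iff, upSL_val, smul_eq_mul] <;>
    split_ifs <;> first | omega | contradiction | (simp; done) | (simp; ring) | (exfalso; omega)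

theorem od_lo (t : F) :
    ∃ h : OK (qK Unit m F) (Pi.single (oy Unit m (odB hm)) 1) (t • Pi.single (Sum.inl ()) 1),
      eOG h = odLastO hm F (loSL t) := by
  have hok : OK (qK Unit m F) (Pi.single (oy Unit m (odB hm)) 1) (t • Pi.single (Sum.inl ()) 1) :=
    ⟨qK_oy _, by simp [polar_oy]⟩
  refine ⟨hok, ogVal_ext (Matrix.ext fun p q => ?_)⟩
  rw [odLastO_val, eOG_val, show eMat (qK Unit m F) (Pi.single (oy Unit m (odB hm)) 1) (t • Pi.single (Sum.inl ()) 1) p q =
      (eMat (qK Unit m F) (Pi.single (oy Unit m (odB hm)) 1) (t • Pi.single (Sum.inl ()) 1) *ᵥ Pi.single q 1) p by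
        rw [Matrix.mulVec_single_one]; rfl,
    eMat_mulVec, QuadraticMap.polar_smul_left, polar_oz, polar_oy, QuadraticMap.map_smul, qK_oz]
  rcases p with c | p | p <;> rcases q with d | q | q <;>
    simp only [Pi.add_apply, Pi.sub_apply, Pi.smul_apply, Pi.single_apply, Sum.inr.injEq, Sum.inl.injEq,
      reduceCtorEq, Fin.ext_iff, loSL_val, smul_eq_mul] <;>
    split_ifs <;> first | omega | contradiction | (simp; done) | (simp; ring) | (exfalso; omega)

include h2 in
theorem odLastO_mem (X : SL(2, F)) : odLastO hm F X ∈ Cfsg.Omega F ⇑(qK Unit m F) := by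
  have htop : (Cfsg.Omega F ⇑(qK Unit m F)).comap (odLastO hm F) = ⊤ := adj_top (n := 1)
    (fun l t => by
      rw [Subgroup.mem_comap, show adjUp l t = (upSL t : SL(2, F)) from by
        fin_cases l
        exact ext_two (by simp [adjUp, tvN_val, upSL_val, transvection])
          (by simp [adjUp, tvN_val, upSL_val, transvection]) (by simp [adjUp, tvN_val, upSL_val, transvection])
          (by simp [adjUp, tvN_val, upSL_val, transvection]), omega_qK hm fun _ => h2]
      obtain ⟨h, e⟩ := od_up hm F t
      exact e ▸ eOG_mem_eR h)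
    (fun l t => by
      rw [Subgroup.mem_comap, show adjLo l t = (loSL t : SL(2, F)) from by
        fin_cases l
        exact ext_two (by simp [adjLo, tvN_val, loSL_val, transvection])
          (by simp [adjLo, tvN_val, loSL_val, transvection]) (by simp [adjLo, tvN_val, loSL_val, transvection])
          (by simp [adjLo, tvN_val, loSL_val, transvection]), omega_qK hm fun _ => h2]
      obtain ⟨h, e⟩ := od_lo hm F t
      exact e ▸ eOG_mem_eR h)
  exact (htop ▸ Subgroup.mem_top X : X ∈ (Cfsg.Omega F ⇑(qK Unit m F)).comap (odLastO hm F))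

/-- The homomorphism of the last simple root. -/
noncomputable def odLast : SL(2, F) →* OOm Unit m F :=
  (odLastO hm F).codRestrict _ (odLastO_mem hm F h2)

/-- The homomorphism of a simple root. -/
noncomputable def odPhi (i : Fin m) : SL(2, F) →* OOm Unit m F :=
  if h : i.val + 1 < m then oShort hm i h else odLast hm F h2

variable {F}

theorem odLast_val (X : SL(2, F)) (p q : OIdx Unit m) :
    oRho Unit m F (odLast hm F h2 X) p q = ogVal (odLastO hm F X) p q := rfl

/-- The levels of the last simple root. -/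
def odLvL : OIdx Unit m → ℕ :=
  Sum.elim (fun _ => m - 1) (Sum.elim (fun i => i.val) fun i => if i.val = m - 1 then m - 1 else 2 * m - 2 - i.val)

/-- The levels of a simple root. -/
def odLv (i : Fin m) : OIdx Unit m → ℕ := if i.val + 1 < m then oLvS Unit m i.val else odLvL

theorem odLv_compat (i : Fin m) (p q : OIdx Unit m) (h : odLv i p < odLv i q) :
    ¬ oH Unit m q < oH Unit m p := by
  unfold odLv at h
  by_cases hi : i.val + 1 < m
  · rw [if_pos hi] at h
    have s1 := oLvS_spec (κ := Unit) i.val hi p
    have s2 := oLvS_spec (κ := Unit) i.val hi q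
    rcases p with c | p | p <;> rcases q with d | q | q <;>
      simp only [oH, oHs, Sum.elim_inl, Sum.elim_inr, Fintype.card_unique] at * <;>
      omega
  · rw [if_neg hi] at h
    rcases p with c | p | p <;> rcases q with d | q | q <;>
      simp only [oH, odLvL, Sum.elim_inl, Sum.elim_inr, Fintype.card_unique] at * <;>
      (try split_ifs at h) <;> omega

/-- The Cartan matrix of type `B`. -/
def cartB (k i : Fin m) : ℤ :=
  if k.val = i.val then 2 else
    if k.val + 1 = i.val ∨ i.val + 1 = k.val then (if k.val + 1 = m ∧ i.val + 2 = m then -2 else -1) else 0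

/-- The diagonal of a simple root torus element. -/
def odDD (k : Fin m) (s : Fˣ) : OIdx Unit m → Fˣ :=
  Sum.elim (fun _ => 1) (Sum.elim
    (fun p => if k.val + 1 < m then (if p.val = k.val then s else if p.val = k.val + 1 then s⁻¹ else 1)
      else if p.val = m - 1 then s * s else 1)
    fun p => if k.val + 1 < m then (if p.val = k.val then s⁻¹ else if p.val = k.val + 1 then s else 1)
      else if p.val = m - 1 then (s * s)⁻¹ else 1)

include hm in
theorem od_last_upper {g : OOm Unit m F} (hg : g ∈ tri (oRho Unit m F) (oH Unit m)) {b : Fin m}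
    (hb : b.val = m - 1) :
    oRho Unit m F g (ox Unit m b) (Sum.inl ()) = -(2 * oRho Unit m F g (Sum.inl ()) (oy Unit m b)) ∧
    oRho Unit m F g (ox Unit m b) (oy Unit m b) =
      -(oRho Unit m F g (Sum.inl ()) (oy Unit m b) * oRho Unit m F g (Sum.inl ()) (oy Unit m b)) := by
  have h1 : oRho Unit m F g (oy Unit m b) (oy Unit m b) = 1 := (hg _ _ (lt_irrefl _)).trans (if_pos rfl)
  have hz : oRho Unit m F g (Sum.inl ()) (Sum.inl ()) = 1 := (hg _ _ (lt_irrefl _)).trans (if_pos rfl)
  have hy : ∀ r, r ≠ b → oRho Unit m F g (oy Unit m r) (oy Unit m b) = 0 := fun r hr => by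
    have := Fin.val_ne_of_ne hr
    have := r.2
    exact (hg (oy Unit m r) (oy Unit m b) (by simp [oH]; omega)).trans (if_neg (by simp [hr]))
  have hyz : ∀ r, oRho Unit m F g (oy Unit m r) (Sum.inl ()) = 0 := fun r => by
    have := r.2
    exact (hg (oy Unit m r) (Sum.inl ()) (by simp [oH]; omega)).trans (if_neg (by simp))
  constructor
  · have h := og_cols g (Sum.inl ()) (oy Unit m b)
    rw [polar_oz, Pi.single_eq_of_ne (by simp), Fintype.sum_unique,
      Finset.sum_eq_single b (fun r _ hr => by rw [hy r hr, hyz]; ring) (by simp), h1, hyz] at h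
    simp only [show (default : Unit) = () from rfl, hz] at h
    linear_combination h
  · have h := og_col g (oy Unit m b)
    rw [qK_oy, Fintype.sum_unique, Finset.sum_eq_single b (fun r _ hr => by rw [hy r hr, mul_zero]) (by simp),
      h1] at h
    simp only [show (default : Unit) = () from rfl] at h
    linear_combination h

include hm in
theorem od_last_lower {g : OOm Unit m F} (hg : g ∈ tri (oRho Unit m F) (OrderDual.toDual ∘ oH Unit m))
    {b : Fin m} (hb : b.val = m - 1) :
    oRho Unit m F g (oy Unit m b) (Sum.inl ()) = -(2 * oRho Unit m F g (Sum.inl ()) (ox Unit m b)) ∧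
    oRho Unit m F g (oy Unit m b) (ox Unit m b) =
      -(oRho Unit m F g (Sum.inl ()) (ox Unit m b) * oRho Unit m F g (Sum.inl ()) (ox Unit m b)) := by
  have hg' : ∀ p q, ¬ oH Unit m q < oH Unit m p → oRho Unit m F g p q = if p = q then 1 else 0 :=
    fun p q => hg p q
  have h1 : oRho Unit m F g (ox Unit m b) (ox Unit m b) = 1 := (hg _ _ (lt_irrefl _)).trans (if_pos rfl)
  have hz : oRho Unit m F g (Sum.inl ()) (Sum.inl ()) = 1 := (hg _ _ (lt_irrefl _)).trans (if_pos rfl)
  have hx : ∀ r, r ≠ b → oRho Unit m F g (ox Unit m r) (ox Unit m b) = 0 := fun r hr => by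
    have := Fin.val_ne_of_ne hr
    have := r.2
    exact (hg' (ox Unit m r) (ox Unit m b) (by simp [oH]; omega)).trans (if_neg (by simp [hr]))
  have hxz : ∀ r, oRho Unit m F g (ox Unit m r) (Sum.inl ()) = 0 := fun r => by
    have := r.2
    exact (hg' (ox Unit m r) (Sum.inl ()) (by simp [oH] <;> omega)).trans (if_neg (by simp))
  constructor
  · have h := og_cols g (Sum.inl ()) (ox Unit m b)
    rw [polar_oz, Pi.single_eq_of_ne (by simp), Fintype.sum_unique,
      Finset.sum_eq_single b (fun r _ hr => by rw [hx r hr, hxz]; ring) (by simp), h1, hxz] at h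
    simp only [show (default : Unit) = () from rfl, hz] at h
    linear_combination h
  · have h := og_col g (ox Unit m b)
    rw [qK_ox, Fintype.sum_unique, Finset.sum_eq_single b (fun r _ hr => by rw [hx r hr, zero_mul]) (by simp),
      h1] at h
    simp only [show (default : Unit) = () from rfl] at h
    linear_combination h

theorem od_gen (S : Subgroup (OOm Unit m F)) (hx : ∀ i a, odPhi hm F h2 i (upSL a) ∈ S)
    (hy : ∀ i a, odPhi hm F h2 i (loSL a) ∈ S) : S = ⊤ := by
  let b : Fin m := odB hm
  set S' := S.map (Cfsg.Omega F ⇑(qK Unit m F)).subtype with hS'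
  have hlev : ∀ A, oLev Unit m F A ∈ S' := oLev_mem_of_short hm S
    (fun i hi t => by have h := hx i t; rwa [odPhi, dif_pos hi] at h)
    (fun i hi t => by have h := hy i t; rwa [odPhi, dif_pos hi] at h)
  obtain ⟨a, ha⟩ := Fintype.exists_ne_of_one_lt_card (show 1 < Fintype.card (Fin m) by rw [Fintype.card_fin]; omega) b
  have hez : ∀ i (c : Unit) (s : F), Sieg S' (Pi.single (ox Unit m i) 1) (s • Pi.single (Sum.inl c) 1) := by
    intro i c s
    obtain ⟨h, e⟩ := od_up hm F (-s)
    have hb : Sieg S' (Pi.single (ox Unit m b) 1) (s • Pi.single (Sum.inl c) 1) := by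
      intro hok
      have h' := hx b (-s)
      rw [odPhi, dif_neg (by simp [b, odB]; omega)] at h'
      refine ⟨_, h', ?_⟩
      show (odLastO hm F (upSL (-s))) = _
      rw [← e]
      exact ogVal_ext (by rw [eOG_val, eOG_val, neg_neg])
    have hok : OK (qK Unit m F) (Pi.single (ox Unit m b) 1) (s • Pi.single (Sum.inl c) 1) :=
      ⟨qK_ox b, by simp [polar_ox]⟩
    have := Sieg.conj (hlev (mono (Equiv.swap b i) a)) hok hb
    rwa [ogVal_oLev, Matrix.mulVec_smul, mono_x, oLevM_single_z, if_neg (Ne.symm ha), one_smul,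
      Equiv.swap_apply_left] at this
  have hfz : ∀ i (c : Unit) (s : F), Sieg S' (Pi.single (oy Unit m i) 1) (s • Pi.single (Sum.inl c) 1) := by
    intro i c s
    obtain ⟨h, e⟩ := od_lo hm F s
    have hb : Sieg S' (Pi.single (oy Unit m b) 1) (s • Pi.single (Sum.inl c) 1) := by
      intro hok
      have h' := hy b s
      rw [odPhi, dif_neg (by simp [b, odB]; omega)] at h'
      refine ⟨_, h', ?_⟩
      show (odLastO hm F (loSL s)) = _
      rw [← e]
    have hok : OK (qK Unit m F) (Pi.single (oy Unit m b) 1) (s • Pi.single (Sum.inl c) 1) :=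
      ⟨qK_oy b, by simp [polar_oy]⟩
    have := Sieg.conj (hlev (mono (Equiv.swap b i) a)) hok hb
    rwa [ogVal_oLev, Matrix.mulVec_smul, mono_y, oLevM_single_z, if_neg (Ne.symm ha), one_smul,
      Equiv.swap_apply_left] at this
  have hee : ∀ i j, i ≠ j → ∀ s : F,
      Sieg S' (Pi.single (ox Unit m i) 1) (s • Pi.single (ox Unit m j) 1) := by
    intro i j hij s
    set t : F := -s / 2 with ht
    have k1 : OK (qK Unit m F) (Pi.single (ox Unit m j) 1) (t • Pi.single (Sum.inl ()) 1) :=
      ⟨qK_ox j, by simp [polar_ox]⟩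
    have k2 : OK (qK Unit m F) (Pi.single (ox Unit m i) 1) (Pi.single (Sum.inl ()) 1) :=
      ⟨qK_ox i, by simp [polar_ox]⟩
    have hsz : Sieg S' (Pi.single (ox Unit m i) 1) (Pi.single (Sum.inl ()) 1) := by simpa using hez i () 1
    have h := Sieg.conj (hez j () t k1) k2 hsz
    rw [eOG_val, eMat_mulVec, eMat_mulVec, QuadraticMap.polar_smul_left, QuadraticMap.polar_smul_left, polar_ox,
      polar_ox, polar_oz, polar_oz, QuadraticMap.map_smul, qK_oz] at h
    have k3 : OK (qK Unit m F) (Pi.single (ox Unit m i) 1) ((-1 : F) • Pi.single (Sum.inl ()) 1) :=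
      ⟨qK_ox i, by simp [polar_ox]⟩
    have hd : t * 2 = -s := by rw [ht]; field_simp
    convert Sieg.add k3 (hez i () (-1)) (w' := Pi.single (Sum.inl ()) 1 + s • Pi.single (ox Unit m j) 1) ?_ using 1
    · module
    · convert h using 1
      · funext p; simp
      · funext p
        simp [hd]
  have hff : ∀ i j, i ≠ j → ∀ s : F,
      Sieg S' (Pi.single (oy Unit m i) 1) (s • Pi.single (oy Unit m j) 1) := by
    intro i j hij s
    set t : F := -s / 2 with ht
    have k1 : OK (qK Unit m F) (Pi.single (oy Unit m j) 1) (t • Pi.single (Sum.inl ()) 1) :=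
      ⟨qK_oy j, by simp [polar_oy]⟩
    have k2 : OK (qK Unit m F) (Pi.single (oy Unit m i) 1) (Pi.single (Sum.inl ()) 1) :=
      ⟨qK_oy i, by simp [polar_oy]⟩
    have hsz : Sieg S' (Pi.single (oy Unit m i) 1) (Pi.single (Sum.inl ()) 1) := by simpa using hfz i () 1
    have h := Sieg.conj (hfz j () t k1) k2 hsz
    rw [eOG_val, eMat_mulVec, eMat_mulVec, QuadraticMap.polar_smul_left, QuadraticMap.polar_smul_left, polar_oy,
      polar_oy, polar_oz, polar_oz, QuadraticMap.map_smul, qK_oz] at h
    have k3 : OK (qK Unit m F) (Pi.single (oy Unit m i) 1) ((-1 : F) • Pi.single (Sum.inl ()) 1) :=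
      ⟨qK_oy i, by simp [polar_oy]⟩
    have hd : t * 2 = -s := by rw [ht]; field_simp
    convert Sieg.add k3 (hfz i () (-1)) (w' := Pi.single (Sum.inl ()) 1 + s • Pi.single (oy Unit m j) 1) ?_ using 1
    · module
    · convert h using 1
      · funext p; simp
      · funext p
        simp [hd]
  have hle := omega_le (S := S') hm (fun _ => h2) hlev hee hff hez hfz
  refine eq_top_iff.2 fun g _ => ?_
  obtain ⟨y, hy', e⟩ := hle g.2
  exact (Subtype.ext e : y = g) ▸ hy'

variable (F) in
/-- The root datum. -/
noncomputable def odData : MatData (oRho Unit m F) (Fin m) where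
  inj := oRho_inj
  h := oH Unit m
  lv := odLv
  φ := odPhi hm F h2
  dd := odDD
  A := cartB
  top := ox Unit m ⟨0, by omega⟩
  bot := oy Unit m ⟨0, by omega⟩
  d_val i s := by
    ext p q
    rw [Matrix.diagonal_apply]
    unfold odPhi odDD
    by_cases hi : i.val + 1 < m
    · rw [dif_pos hi, oShort_val]
      simp only [if_pos hi, dSL_val]
      rcases p with c | p | p <;> rcases q with d | q | q <;>
        simp only [Sum.elim_inl, Sum.elim_inr, Sum.inl.injEq, Sum.inr.injEq, reduceCtorEq, Fin.ext_iff] <;>
        split_ifs <;> first | omega | contradiction | simp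
    · rw [dif_neg hi, odLast_val, odLastO_val]
      simp only [if_neg hi, dSL_val]
      rcases p with c | p | p <;> rcases q with d | q | q <;>
        simp only [Sum.elim_inl, Sum.elim_inr, Sum.inl.injEq, Sum.inr.injEq, reduceCtorEq, Fin.ext_iff] <;>
        split_ifs <;> first | omega | contradiction | simp
  weight k i s a p q := by
    unfold odPhi odDD cartB
    have := k.2
    have := i.2
    by_cases hi : i.val + 1 < m
    · simp only [dif_pos hi, oShort_val, upSL_val, loSL_val]
      by_cases hk : k.val + 1 < m <;> simp only [hk, hi, if_true, if_false, and_true, and_false] <;>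
      rcases p with c | p | p <;> rcases q with d | q | q <;>
      simp only [Sum.elim_inl, Sum.elim_inr, Sum.inl.injEq, Sum.inr.injEq, reduceCtorEq, Fin.ext_iff] <;>
      constructor <;> split_ifs <;> first
        | omega
        | contradiction
        | (simp [zpow_two]; field_simp; done)
        | (simp [zpow_two]; field_simp; simp; done)
        | simp
    · simp only [dif_neg hi, odLast_val, odLastO_val, upSL_val, loSL_val]
      by_cases hk : k.val + 1 < m <;> simp only [hk, hi, if_true, if_false, and_true, and_false] <;>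
      rcases p with c | p | p <;> rcases q with d | q | q <;>
      simp only [Sum.elim_inl, Sum.elim_inr, Sum.inl.injEq, Sum.inr.injEq, reduceCtorEq, Fin.ext_iff] <;>
      constructor <;> split_ifs <;> first
        | omega
        | contradiction
        | (simp [zpow_two]; field_simp; done)
        | (simp [zpow_two]; field_simp; simp; done)
        | (simp; field_simp; done)
        | (simp; field_simp; simp; done)
        | simp
  compat := odLv_compat
  lv_U i := tri_le _ (odLv_compat i)
  lv_V i := tri_le_dual _ (odLv_compat i)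
  x_tri i a p q h := by
    unfold odPhi
    by_cases hi : i.val + 1 < m <;> [rw [dif_pos hi, oShort_val]; rw [dif_neg hi, odLast_val, odLastO_val]] <;>
    rcases p with c | p | p <;> rcases q with d | q | q <;>
      simp only [upSL_val, oH, Sum.elim_inl, Sum.elim_inr, Fintype.card_unique, Sum.inl.injEq, Sum.inr.injEq,
        reduceCtorEq, Fin.ext_iff] at h ⊢ <;>
      split_ifs <;> first | omega | contradiction | simp
  y_tri i a p q h := by
    replace h : ¬ oH Unit m q < oH Unit m p := h
    unfold odPhi
    by_cases hi : i.val + 1 < m <;> [rw [dif_pos hi, oShort_val]; rw [dif_neg hi, odLast_val, odLastO_val]] <;>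
    rcases p with c | p | p <;> rcases q with d | q | q <;>
      simp only [loSL_val, oH, Sum.elim_inl, Sum.elim_inr, Fintype.card_unique, Sum.inl.injEq, Sum.inr.injEq,
        reduceCtorEq, Fin.ext_iff] at h ⊢ <;>
      split_ifs <;> first | omega | contradiction | simp
  x_bd i a p q h := by
    unfold odPhi
    unfold odLv at h
    by_cases hi : i.val + 1 < m
    · rw [dif_pos hi, oShort_val]
      rw [if_pos hi] at h
      have s1 := oLvS_spec (κ := Unit) i.val hi p
      have s2 := oLvS_spec (κ := Unit) i.val hi q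
      rcases p with c | p | p <;> rcases q with d | q | q <;>
        simp only [upSL_val, oHs, Sum.elim_inl, Sum.elim_inr, Fintype.card_unique, Sum.inl.injEq, Sum.inr.injEq,
          reduceCtorEq, Fin.ext_iff] at h s1 s2 ⊢ <;>
        split_ifs <;> first | omega | contradiction | simp
    · rw [dif_neg hi, odLast_val, odLastO_val]
      rw [if_neg hi] at h
      rcases p with c | p | p <;> rcases q with d | q | q <;>
        simp only [upSL_val, odLvL, Sum.elim_inl, Sum.elim_inr, Sum.inl.injEq, Sum.inr.injEq,
          reduceCtorEq, Fin.ext_iff] at h ⊢ <;>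
        (try split_ifs at h ⊢) <;> first | omega | contradiction | simp
  y_bd i a p q h := by
    unfold odPhi
    unfold odLv at h
    by_cases hi : i.val + 1 < m
    · rw [dif_pos hi, oShort_val]
      rw [if_pos hi] at h
      have s1 := oLvS_spec (κ := Unit) i.val hi p
      have s2 := oLvS_spec (κ := Unit) i.val hi q
      rcases p with c | p | p <;> rcases q with d | q | q <;>
        simp only [loSL_val, oHs, Sum.elim_inl, Sum.elim_inr, Fintype.card_unique, Sum.inl.injEq, Sum.inr.injEq,
          reduceCtorEq, Fin.ext_iff] at h s1 s2 ⊢ <;>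
        split_ifs <;> first | omega | contradiction | simp
    · rw [dif_neg hi, odLast_val, odLastO_val]
      rw [if_neg hi] at h
      rcases p with c | p | p <;> rcases q with d | q | q <;>
        simp only [loSL_val, odLvL, Sum.elim_inl, Sum.elim_inr, Sum.inl.injEq, Sum.inr.injEq,
          reduceCtorEq, Fin.ext_iff] at h ⊢ <;>
        (try split_ifs at h ⊢) <;> first | omega | contradiction | simp
  U_entry i g hg := by
    have := i.2
    unfold odPhi odLv
    by_cases hi : i.val + 1 < m
    · simp only [dif_pos hi, if_pos hi]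
      refine ⟨oRho Unit m F g (ox Unit m i) (ox Unit m ⟨i.val + 1, hi⟩), fun p q h => ?_⟩
      rw [oShort_val]
      have s1 := oLvS_spec (κ := Unit) i.val hi p
      have s2 := oLvS_spec (κ := Unit) i.val hi q
      by_cases hpq : oH Unit m p < oH Unit m q
      · rcases p with c | p | p <;> rcases q with d | q | q <;>
          simp only [oH, oHs, Sum.elim_inl, Sum.elim_inr, Fintype.card_unique] at s1 s2 hpq <;>
          try omega
        · obtain ⟨e1, e2⟩ : p.val = i.val ∧ q.val = i.val + 1 := by omega
          obtain rfl : p = i := Fin.ext e1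
          obtain rfl : q = ⟨p.val + 1, hi⟩ := Fin.ext e2
          simp [upSL_val]
        · obtain ⟨e1, e2⟩ : q.val = i.val ∧ p.val = i.val + 1 := by omega
          obtain rfl : q = i := Fin.ext e1
          obtain rfl : p = ⟨q.val + 1, hi⟩ := Fin.ext e2
          rw [o_short_upper hg (i := q) (j := ⟨q.val + 1, hi⟩) rfl]
          simp [upSL_val]
      · rw [show oRho Unit m F g p q = if p = q then 1 else 0 from hg p q hpq]
        rcases p with c | p | p <;> rcases q with d | q | q <;>
          simp only [upSL_val, oH, oHs, Sum.elim_inl, Sum.elim_inr, Fintype.card_unique, Sum.inl.injEq,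
            Sum.inr.injEq, reduceCtorEq, Fin.ext_iff] at s1 s2 hpq ⊢ <;>
          split_ifs <;> first | omega | contradiction | simp
    · simp only [dif_neg hi, if_neg hi]
      refine ⟨-oRho Unit m F g (Sum.inl ()) (oy Unit m (odB hm)), fun p q h => ?_⟩
      obtain ⟨u1, u2⟩ := od_last_upper hm hg (b := odB hm) rfl
      rw [odLast_val, odLastO_val]
      by_cases hpq : oH Unit m p < oH Unit m q
      · rcases p with c | p | p <;> rcases q with d | q | q <;>
          simp only [oH, odLvL, Sum.elim_inl, Sum.elim_inr, Fintype.card_unique] at h hpq <;>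
          (try split_ifs at h) <;> try omega
        all_goals (try (obtain rfl : p = odB hm := Fin.ext (by show p.val = m - 1; omega)))
        all_goals (try (obtain rfl : q = odB hm := Fin.ext (by show q.val = m - 1; omega)))
        all_goals (simp [upSL_val, u1, u2])
      · rw [show oRho Unit m F g p q = if p = q then 1 else 0 from hg p q hpq]
        rcases p with c | p | p <;> rcases q with d | q | q <;>
          simp only [upSL_val, oH, odLvL, Sum.elim_inl, Sum.elim_inr, Fintype.card_unique, Sum.inl.injEq,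
            Sum.inr.injEq, reduceCtorEq, Fin.ext_iff] at h hpq ⊢ <;>
          (try split_ifs at h ⊢) <;> first | omega | contradiction | simp
  V_entry i g hg := by
    have := i.2
    unfold odPhi odLv
    by_cases hi : i.val + 1 < m
    · simp only [dif_pos hi, if_pos hi]
      refine ⟨oRho Unit m F g (ox Unit m ⟨i.val + 1, hi⟩) (ox Unit m i), fun p q h => ?_⟩
      rw [oShort_val]
      have s1 := oLvS_spec (κ := Unit) i.val hi p
      have s2 := oLvS_spec (κ := Unit) i.val hi q
      by_cases hpq : oH Unit m q < oH Unit m p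
      · rcases p with c | p | p <;> rcases q with d | q | q <;>
          simp only [oH, oHs, Sum.elim_inl, Sum.elim_inr, Fintype.card_unique] at s1 s2 hpq <;>
          try omega
        · obtain ⟨e1, e2⟩ : q.val = i.val ∧ p.val = i.val + 1 := by omega
          obtain rfl : q = i := Fin.ext e1
          obtain rfl : p = ⟨q.val + 1, hi⟩ := Fin.ext e2
          simp [loSL_val]
        · obtain ⟨e1, e2⟩ : p.val = i.val ∧ q.val = i.val + 1 := by omega
          obtain rfl : p = i := Fin.ext e1
          obtain rfl : q = ⟨p.val + 1, hi⟩ := Fin.ext e2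
          rw [o_short_lower hg (i := p) (j := ⟨p.val + 1, hi⟩) rfl]
          simp [loSL_val]
      · rw [show oRho Unit m F g p q = if p = q then 1 else 0 from hg p q hpq]
        rcases p with c | p | p <;> rcases q with d | q | q <;>
          simp only [loSL_val, oH, oHs, Sum.elim_inl, Sum.elim_inr, Fintype.card_unique, Sum.inl.injEq,
            Sum.inr.injEq, reduceCtorEq, Fin.ext_iff] at s1 s2 hpq ⊢ <;>
          split_ifs <;> first | omega | contradiction | simp
    · simp only [dif_neg hi, if_neg hi]
      refine ⟨oRho Unit m F g (Sum.inl ()) (ox Unit m (odB hm)), fun p q h => ?_⟩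
      obtain ⟨u1, u2⟩ := od_last_lower hm hg (b := odB hm) rfl
      rw [odLast_val, odLastO_val]
      by_cases hpq : oH Unit m q < oH Unit m p
      · rcases p with c | p | p <;> rcases q with d | q | q <;>
          simp only [oH, odLvL, Sum.elim_inl, Sum.elim_inr, Fintype.card_unique] at h hpq <;>
          (try split_ifs at h) <;> try omega
        all_goals (try (obtain rfl : p = odB hm := Fin.ext (by show p.val = m - 1; omega)))
        all_goals (try (obtain rfl : q = odB hm := Fin.ext (by show q.val = m - 1; omega)))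
        all_goals (simp [loSL_val, u1, u2])
      · rw [show oRho Unit m F g p q = if p = q then 1 else 0 from hg p q hpq]
        rcases p with c | p | p <;> rcases q with d | q | q <;>
          simp only [loSL_val, oH, odLvL, Sum.elim_inl, Sum.elim_inr, Fintype.card_unique, Sum.inl.injEq,
            Sum.inr.injEq, reduceCtorEq, Fin.ext_iff] at h hpq ⊢ <;>
          (try split_ifs at h ⊢) <;> first | omega | contradiction | simp
  top_lt p hp := by
    rcases p with c | p | p
    · show 0 < m
      omega
    · have : p.val ≠ 0 := fun e => hp (congrArg (ox Unit m) (Fin.ext e))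
      show 0 < p.val
      omega
    · have := p.2
      show 0 < 2 * m + 2 * Fintype.card Unit - 2 - p.val
      omega
  bot_gt p hp := by
    rcases p with c | p | p
    · show m < 2 * m + 2 * Fintype.card Unit - 2 - 0
      simp; omega
    · have := p.2
      show p.val < 2 * m + 2 * Fintype.card Unit - 2 - 0
      omega
    · have : p.val ≠ 0 := fun e => hp (congrArg (oy Unit m) (Fin.ext e))
      have := p.2
      show 2 * m + 2 * Fintype.card Unit - 2 - p.val < 2 * m + 2 * Fintype.card Unit - 2 - 0
      omega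
  cyc_top W hW h0 := orth_cyc hm (fun _ => h2) W hW ⟨_, Or.inl h0⟩
  cyc_bot W hW h0 := orth_cyc hm (fun _ => h2) W hW ⟨_, Or.inr h0⟩
  gen := od_gen hm h2

end Cfsg.Agent.Classical.MatRootData
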