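import Cfsg.Agent.Lib.Classical.MatOrthRoots

/-!
The split root datum of `Ω⁺_{2m}`.
-/

set_option autoImplicit false
set_option linter.unusedSectionVars false
set_option maxHeartbeats 4000000

namespace Cfsg.Agent.Classical.MatRootData

open Matrix Cfsg.Agent.Classical.OrthAut Cfsg.Agent.Lie.Chev Cfsg.Agent.Lie.CurtisTitsA
open scoped MatrixGroups

variable {m : ℕ} (hm : 4 ≤ m) (F : Type*) [Field F] [Fintype F]

/-- The last index but one. -/
abbrev plA : Fin m := ⟨m - 2, by omega⟩

/-- The last index. -/
abbrev plB : Fin m := ⟨m - 1, by omega⟩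

/-- The exchange of the last pair of coordinates. -/
def plSwap : Equiv.Perm (OIdx Empty m) :=
  Equiv.swap (ox Empty m (plB hm)) (oy Empty m (plB hm))

theorem plSwap_quad (v : OIdx Empty m → F) : qK Empty m F (v ∘ plSwap hm) = qK Empty m F v := by
  rw [qK_apply, qK_apply]
  simp only [Finset.univ_eq_empty, Finset.sum_empty, zero_add, Function.comp_apply]
  refine Finset.sum_congr rfl fun i _ => ?_
  by_cases h : i = plB hm
  · subst h; simp [plSwap, mul_comm]
  · simp [plSwap, Equiv.swap_apply_of_ne_of_ne, h]

/-- Conjugation of isometries by the exchange. -/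
noncomputable def plConj : isometryGroup F ⇑(qK Empty m F) →* isometryGroup F ⇑(qK Empty m F) :=
  (({ toFun := fun g => (ogVal g).submatrix (plSwap hm) (plSwap hm)
      map_one' := by rw [ogVal_one]; exact submatrix_one_equiv _
      map_mul' := fun g k => by rw [ogVal_mul]; exact (submatrix_mul_equiv _ _ _ _ _).symm } :
      isometryGroup F ⇑(qK Empty m F) →* Matrix (OIdx Empty m) (OIdx Empty m) F).toHomUnits).codRestrict _
    fun g => mem_isometryGroup.2 fun v => by
      rw [MonoidHom.coe_toHomUnits]
      show qK Empty m F ((ogVal g).submatrix (plSwap hm) (plSwap hm) *ᵥ v) = _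
      rw [submatrix_mulVec_equiv, plSwap_quad, ogVal_quad]
      exact (plSwap_quad hm F (v ∘ ⇑(plSwap hm).symm)).symm.trans (by congr 1; funext k; simp)

theorem plConj_mem {g : isometryGroup F ⇑(qK Empty m F)} (hg : g ∈ Cfsg.Omega F ⇑(qK Empty m F)) :
    plConj hm F g ∈ Cfsg.Omega F ⇑(qK Empty m F) := by
  have h : (commutator _).map (plConj hm F) ≤ commutator (isometryGroup F ⇑(qK Empty m F)) := by
    rw [commutator_def, Subgroup.map_commutator]
    exact Subgroup.commutator_mono le_top le_top
  exact h ⟨g, hg, rfl⟩

/-- The homomorphism of the last simple root. -/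
noncomputable def plLast : SL(2, F) →* OOm Empty m F :=
  ((plConj hm F).comp ((oLev Empty m F).comp
    (ext2 (plA hm) (plB hm) (Fin.ne_of_val_ne (by simp; omega))))).codRestrict _
    fun _ => plConj_mem hm F (oLev_mem (by omega) _)

variable {F}

theorem plLast_val (X : SL(2, F)) (p q : OIdx Empty m) :
    oRho Empty m F (plLast hm F X) p q =
      match p, q with
      | .inr (.inl p), .inr (.inl q) => if p = q then (if m - 2 ≤ p.val then X.1 0 0 else 1) else 0
      | .inr (.inr p), .inr (.inr q) => if p = q then (if m - 2 ≤ p.val then X.1 1 1 else 1) else 0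
      | .inr (.inl p), .inr (.inr q) =>
          if p.val = m - 2 ∧ q.val = m - 1 then X.1 0 1 else if p.val = m - 1 ∧ q.val = m - 2 then -X.1 0 1 else 0
      | .inr (.inr p), .inr (.inl q) =>
          if p.val = m - 1 ∧ q.val = m - 2 then X.1 1 0 else if p.val = m - 2 ∧ q.val = m - 1 then -X.1 1 0 else 0
      | .inl c, _ => c.elim
      | _, .inl c => c.elim := by
  have hs : ∀ p : OIdx Empty m, plSwap hm p = match p with
      | .inr (.inl p) => if p.val = m - 1 then oy Empty m p else ox Empty m p
      | .inr (.inr p) => if p.val = m - 1 then ox Empty m p else oy Empty m p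
      | .inl c => c.elim := by
    intro p
    rcases p with c | p | p
    · exact c.elim
    · by_cases h : p.val = m - 1
      · obtain rfl : p = (plB hm) := Fin.ext h
        simp [plSwap]
      · simp [plSwap, Equiv.swap_apply_of_ne_of_ne, Fin.ext_iff, h]
    · by_cases h : p.val = m - 1
      · obtain rfl : p = (plB hm) := Fin.ext h
        simp [plSwap]
      · simp [plSwap, Equiv.swap_apply_of_ne_of_ne, Fin.ext_iff, h]
  show oLevM Empty m F (ext2 _ _ _ X) (plSwap hm p) (plSwap hm q) = _
  show fromBlocks 1 0 0 (fromBlocks _ 0 0 _) _ _ = _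
  rw [show Cfsg.Agent.Lie.SpnPres.tinv (ext2 _ _ _ X) = ext2 _ _ _ (Cfsg.Agent.Lie.SpnPres.tinv X) from
    Cfsg.Agent.Lie.SpnPres.tinv_extSL _ X]
  rcases p with c | p | p
  · exact c.elim
  all_goals
    rcases q with c | q | q
    · exact c.elim
    all_goals
      rw [hs, hs]
      have := p.2
      have := q.2
      simp only
      split_ifs <;> simp only [fromBlocks_apply₁₁, fromBlocks_apply₁₂, fromBlocks_apply₂₁, fromBlocks_apply₂₂,
        ext2_apply, tau_two, Fin.ext_iff, Matrix.zero_apply] at * <;>
        (try split_ifs) <;> first | omega | contradiction | simp | (exfalso; omega)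

variable (F) in
/-- The homomorphism of a simple root. -/
noncomputable def plPhi (i : Fin m) : SL(2, F) →* OOm Empty m F :=
  if h : i.val + 1 < m then oShort (by omega) i h else plLast hm F

/-- The levels of the last simple root. -/
def plLvL : OIdx Empty m → ℕ :=
  Sum.elim (fun c => c.elim) (Sum.elim (fun i => i.val)
    fun i => if i.val = m - 1 then m - 2 else if i.val = m - 2 then m - 1 else 2 * m - 3 - i.val)

/-- The levels of a simple root. -/
def plLv (i : Fin m) : OIdx Empty m → ℕ := if i.val + 1 < m then oLvS Empty m i.val else plLvL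

theorem plLv_compat (i : Fin m) (p q : OIdx Empty m) (h : plLv i p < plLv i q) :
    ¬ oH Empty m q < oH Empty m p := by
  unfold plLv at h
  split_ifs at h with hi
  · have s1 := oLvS_spec (κ := Empty) i.val hi p
    have s2 := oLvS_spec (κ := Empty) i.val hi q
    rcases p with c | p | p <;> [exact c.elim; skip; skip] <;> rcases q with c | q | q <;>
      [exact c.elim; skip; skip; exact c.elim; skip; skip] <;>
      simp only [oH, oHs, Sum.elim_inl, Sum.elim_inr, Fintype.card_eq_zero] at * <;>
      have := p.2 <;> have := q.2 <;> omega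
  · rcases p with c | p | p <;> [exact c.elim; skip; skip] <;> rcases q with c | q | q <;>
      [exact c.elim; skip; skip; exact c.elim; skip; skip] <;>
      simp only [oH, plLvL, Sum.elim_inl, Sum.elim_inr, Fintype.card_eq_zero] at * <;>
      have := p.2 <;> have := q.2 <;> (try split_ifs at h) <;> omega

/-- The Cartan matrix of type `D`. -/
def cartD (k i : Fin m) : ℤ :=
  if k.val = i.val then 2 else
    if (k.val + 1 = i.val ∧ i.val + 1 < m) ∨ (i.val + 1 = k.val ∧ k.val + 1 < m) ∨
      (k.val + 1 = m ∧ i.val + 3 = m) ∨ (i.val + 1 = m ∧ k.val + 3 = m) then -1 else 0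

/-- The diagonal of a simple root torus element. -/
def plDD (k : Fin m) (s : Fˣ) : OIdx Empty m → Fˣ :=
  Sum.elim (fun c => c.elim) (Sum.elim
    (fun p => if k.val + 1 < m then (if p.val = k.val then s else if p.val = k.val + 1 then s⁻¹ else 1)
      else if m - 2 ≤ p.val then s else 1)
    fun p => if k.val + 1 < m then (if p.val = k.val then s⁻¹ else if p.val = k.val + 1 then s else 1)
      else if m - 2 ≤ p.val then s⁻¹ else 1)

include hm in
theorem pl_last_upper {g : OOm Empty m F} (hg : g ∈ tri (oRho Empty m F) (oH Empty m)) {a b : Fin m}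
    (ha : a.val = m - 2) (hb : b.val = m - 1) :
    oRho Empty m F g (ox Empty m b) (oy Empty m a) = - oRho Empty m F g (ox Empty m a) (oy Empty m b) := by
  have hne : a ≠ b := Fin.ne_of_val_ne (by omega)
  have h := og_cols g (oy Empty m a) (oy Empty m b)
  rw [polar_oy, Pi.single_eq_of_ne (by simp), Finset.univ_eq_empty, Finset.sum_empty, zero_add,
    Finset.sum_eq_add a b hne] at h
  · have h1 : oRho Empty m F g (oy Empty m a) (oy Empty m a) = 1 := (hg _ _ (lt_irrefl _)).trans (if_pos rfl)
    have h2 : oRho Empty m F g (oy Empty m b) (oy Empty m b) = 1 := (hg _ _ (lt_irrefl _)).trans (if_pos rfl)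
    have h3 : oRho Empty m F g (oy Empty m a) (oy Empty m b) = 0 :=
      (hg (oy Empty m a) (oy Empty m b) (by simp [oH]; omega)).trans (if_neg (by simp [hne]))
    have h4 : oRho Empty m F g (ox Empty m b) (oy Empty m b) = 0 :=
      (hg (ox Empty m b) (oy Empty m b) (by simp [oH]; omega)).trans (if_neg (by simp))
    rw [h1, h2, h3, h4] at h
    linear_combination h
  · intro x _ hx
    have := Fin.val_ne_of_ne hx.1
    have := Fin.val_ne_of_ne hx.2
    have := x.2
    rw [(hg (oy Empty m x) (oy Empty m b) (by simp [oH]; omega)).trans (if_neg (by simp [hx.2])),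
      (hg (oy Empty m x) (oy Empty m a) (by simp [oH]; omega)).trans (if_neg (by simp [hx.1]))]
    ring
  · simp
  · simp

include hm in
theorem pl_last_lower {g : OOm Empty m F} (hg : g ∈ tri (oRho Empty m F) (OrderDual.toDual ∘ oH Empty m))
    {a b : Fin m} (ha : a.val = m - 2) (hb : b.val = m - 1) :
    oRho Empty m F g (oy Empty m a) (ox Empty m b) = - oRho Empty m F g (oy Empty m b) (ox Empty m a) := by
  have hne : a ≠ b := Fin.ne_of_val_ne (by omega)
  have h := og_cols g (ox Empty m a) (ox Empty m b)
  have hg' : ∀ p q, ¬ oH Empty m q < oH Empty m p → oRho Empty m F g p q = if p = q then 1 else 0 :=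
    fun p q => hg p q
  rw [polar_ox, Pi.single_eq_of_ne (by simp), Finset.univ_eq_empty, Finset.sum_empty, zero_add,
    Finset.sum_eq_add a b hne] at h
  · have h1 : oRho Empty m F g (ox Empty m a) (ox Empty m a) = 1 := (hg _ _ (lt_irrefl _)).trans (if_pos rfl)
    have h2 : oRho Empty m F g (ox Empty m b) (ox Empty m b) = 1 := (hg _ _ (lt_irrefl _)).trans (if_pos rfl)
    have h3 : oRho Empty m F g (ox Empty m a) (ox Empty m b) = 0 :=
      (hg' (ox Empty m a) (ox Empty m b) (by simp [oH]; omega)).trans (if_neg (by simp [hne]))
    have h4 : oRho Empty m F g (oy Empty m b) (ox Empty m b) = 0 :=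
      (hg' (oy Empty m b) (ox Empty m b) (by simp [oH]; omega)).trans (if_neg (by simp))
    rw [h1, h2, h3, h4] at h
    linear_combination h
  · intro x _ hx
    have := Fin.val_ne_of_ne hx.1
    have := Fin.val_ne_of_ne hx.2
    have := x.2
    rw [(hg' (ox Empty m x) (ox Empty m b) (by simp [oH]; omega)).trans (if_neg (by simp [hx.2])),
      (hg' (ox Empty m x) (ox Empty m a) (by simp [oH]; omega)).trans (if_neg (by simp [hx.1]))]
    ring
  · simp
  · simp

/-- The simple root elements generate. -/
theorem pl_gen (S : Subgroup (OOm Empty m F)) (hx : ∀ i a, plPhi hm F i (upSL a) ∈ S)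
    (hy : ∀ i a, plPhi hm F i (loSL a) ∈ S) : S = ⊤ := by
  let a : Fin m := (plA hm)
  let b : Fin m := (plB hm)
  have hab : a ≠ b := Fin.ne_of_val_ne (by simp [a, b]; omega)
  set S' := S.map (Cfsg.Omega F ⇑(qK Empty m F)).subtype with hS'
  have hlev : ∀ A, oLev Empty m F A ∈ S' := oLev_mem_of_short (by omega) S
    (fun i hi t => by have h := hx i t; rwa [plPhi, dif_pos hi] at h)
    (fun i hi t => by have h := hy i t; rwa [plPhi, dif_pos hi] at h)
  have hl : ∀ X, plLast hm F X ∈ S → ((plLast hm F X : OOm Empty m F) : isometryGroup F ⇑(qK Empty m F)) ∈ S' :=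
    fun X h => ⟨_, h, rfl⟩
  have hee : ∀ s : F, Sieg S' (Pi.single (ox Empty m a) 1) (s • Pi.single (ox Empty m b) 1) := by
    intro s hok
    have h := hx b (-s)
    rw [plPhi, dif_neg (by simp [b]; omega)] at h
    convert hl _ h using 1
    refine ogVal_ext (Matrix.ext fun p q => ?_)
    show _ = oRho Empty m F (plLast hm F (upSL (-s))) p q
    rw [plLast_val, eOG_val, show eMat (qK Empty m F) (Pi.single (ox Empty m a) 1)
        (s • Pi.single (ox Empty m b) 1) p q = (eMat (qK Empty m F) (Pi.single (ox Empty m a) 1)
        (s • Pi.single (ox Empty m b) 1) *ᵥ Pi.single q 1) p by rw [Matrix.mulVec_single_one]; rfl,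
      eMat_mulVec, QuadraticMap.polar_smul_left, polar_ox, polar_ox, QuadraticMap.map_smul, qK_ox]
    rcases p with c | p | p <;> [exact c.elim; skip; skip] <;> rcases q with c | q | q <;>
      [exact c.elim; skip; skip; exact c.elim; skip; skip] <;>
      simp only [Pi.add_apply, Pi.sub_apply, Pi.smul_apply, Pi.single_apply, Sum.inr.injEq, Sum.inl.injEq,
        reduceCtorEq, Fin.ext_iff, upSL_val, smul_eq_mul, a, b] <;>
      have := p.2 <;> have := q.2 <;> split_ifs <;> first | omega | contradiction | simp
  have hff : ∀ s : F, Sieg S' (Pi.single (oy Empty m a) 1) (s • Pi.single (oy Empty m b) 1) := by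
    intro s hok
    have h := hy b s
    rw [plPhi, dif_neg (by simp [b]; omega)] at h
    convert hl _ h using 1
    refine ogVal_ext (Matrix.ext fun p q => ?_)
    show _ = oRho Empty m F (plLast hm F (loSL s)) p q
    rw [plLast_val, eOG_val, show eMat (qK Empty m F) (Pi.single (oy Empty m a) 1)
        (s • Pi.single (oy Empty m b) 1) p q = (eMat (qK Empty m F) (Pi.single (oy Empty m a) 1)
        (s • Pi.single (oy Empty m b) 1) *ᵥ Pi.single q 1) p by rw [Matrix.mulVec_single_one]; rfl,
      eMat_mulVec, QuadraticMap.polar_smul_left, polar_oy, polar_oy, QuadraticMap.map_smul, qK_oy]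
    rcases p with c | p | p <;> [exact c.elim; skip; skip] <;> rcases q with c | q | q <;>
      [exact c.elim; skip; skip; exact c.elim; skip; skip] <;>
      simp only [Pi.add_apply, Pi.sub_apply, Pi.smul_apply, Pi.single_apply, Sum.inr.injEq, Sum.inl.injEq,
        reduceCtorEq, Fin.ext_iff, loSL_val, smul_eq_mul, a, b] <;>
      have := p.2 <;> have := q.2 <;> split_ifs <;> first | omega | contradiction | simp
  have hle := omega_le (S := S') (by omega) (fun c => c.elim) hlev (sieg_wedge_x hlev hab hee)
    (sieg_wedge_y hlev hab hff) (fun _ c => c.elim) (fun _ c => c.elim)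
  refine eq_top_iff.2 fun g _ => ?_
  obtain ⟨y, hy', e⟩ := hle g.2
  exact (Subtype.ext e : y = g) ▸ hy'

variable (F) in
/-- The root datum. -/
noncomputable def plData : MatData (oRho Empty m F) (Fin m) where
  inj := oRho_inj
  h := oH Empty m
  lv := plLv
  φ := plPhi hm F
  dd := plDD
  A := cartD
  top := ox Empty m ⟨0, by omega⟩
  bot := oy Empty m ⟨0, by omega⟩
  d_val i s := by
    ext p q
    rw [Matrix.diagonal_apply]
    unfold plPhi plDD
    by_cases hi : i.val + 1 < m
    · rw [dif_pos hi, oShort_val]
      simp only [if_pos hi, dSL_val]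
      rcases p with c | p | p <;> [exact c.elim; skip; skip] <;> rcases q with c | q | q <;>
        [exact c.elim; skip; skip; exact c.elim; skip; skip] <;>
        simp only [Sum.elim_inl, Sum.elim_inr, Sum.inl.injEq, Sum.inr.injEq, reduceCtorEq, Fin.ext_iff] <;>
        split_ifs <;> first | omega | contradiction | simp
    · rw [dif_neg hi, plLast_val]
      simp only [if_neg hi, dSL_val]
      rcases p with c | p | p <;> [exact c.elim; skip; skip] <;> rcases q with c | q | q <;>
        [exact c.elim; skip; skip; exact c.elim; skip; skip] <;>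
        simp only [Sum.elim_inl, Sum.elim_inr, Sum.inl.injEq, Sum.inr.injEq, reduceCtorEq, Fin.ext_iff] <;>
        split_ifs <;> first | omega | contradiction | simp
  weight k i s a p q := by
    unfold plPhi plDD cartD
    have := k.2
    have := i.2
    by_cases hi : i.val + 1 < m
    · simp only [dif_pos hi, oShort_val, upSL_val, loSL_val]
      by_cases hk : k.val + 1 < m <;> simp only [hk, hi, if_true, if_false, and_true, and_false, false_or, or_false] <;>
      rcases p with c | p | p <;> [exact c.elim; skip; skip; exact c.elim; skip; skip] <;>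
      rcases q with c | q | q <;>
        [exact c.elim; skip; skip; exact c.elim; skip; skip; exact c.elim; skip; skip; exact c.elim; skip; skip] <;>
      simp only [Sum.elim_inl, Sum.elim_inr, Sum.inl.injEq, Sum.inr.injEq, reduceCtorEq, Fin.ext_iff] <;>
      have := p.2 <;> have := q.2 <;>
      constructor <;> split_ifs <;> first
        | omega
        | contradiction
        | (simp [zpow_two]; field_simp)
        | simp
    · simp only [dif_neg hi, plLast_val, upSL_val, loSL_val]
      by_cases hk : k.val + 1 < m <;> simp only [hk, hi, if_true, if_false, and_true, and_false, false_or, or_false] <;>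
      rcases p with c | p | p <;> [exact c.elim; skip; skip; exact c.elim; skip; skip] <;>
      rcases q with c | q | q <;>
        [exact c.elim; skip; skip; exact c.elim; skip; skip; exact c.elim; skip; skip; exact c.elim; skip; skip] <;>
      simp only [Sum.elim_inl, Sum.elim_inr, Sum.inl.injEq, Sum.inr.injEq, reduceCtorEq, Fin.ext_iff] <;>
      have := p.2 <;> have := q.2 <;>
      constructor <;> split_ifs <;> first
        | omega
        | contradiction
        | (simp [zpow_two]; field_simp)
        | simp
  compat := plLv_compat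
  lv_U i := tri_le _ (plLv_compat i)
  lv_V i := tri_le_dual _ (plLv_compat i)
  x_tri i a p q h := by
    unfold plPhi
    have := i.2
    by_cases hi : i.val + 1 < m <;> [rw [dif_pos hi]; rw [dif_neg hi]]
    all_goals
      first | rw [oShort_val] | rw [plLast_val]
      rcases p with c | p | p <;> [exact c.elim; skip; skip] <;> rcases q with c | q | q <;>
        [exact c.elim; skip; skip; exact c.elim; skip; skip] <;>
        simp only [upSL_val, oH, Sum.elim_inl, Sum.elim_inr, Fintype.card_eq_zero, Sum.inl.injEq, Sum.inr.injEq,
          reduceCtorEq, Fin.ext_iff] at h ⊢ <;>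
        have := p.2 <;> have := q.2 <;> split_ifs <;> first | omega | contradiction | simp
  y_tri i a p q h := by
    replace h : ¬ oH Empty m q < oH Empty m p := h
    unfold plPhi
    have := i.2
    by_cases hi : i.val + 1 < m <;> [rw [dif_pos hi]; rw [dif_neg hi]]
    all_goals
      first | rw [oShort_val] | rw [plLast_val]
      rcases p with c | p | p <;> [exact c.elim; skip; skip] <;> rcases q with c | q | q <;>
        [exact c.elim; skip; skip; exact c.elim; skip; skip] <;>
        simp only [loSL_val, oH, Sum.elim_inl, Sum.elim_inr, Fintype.card_eq_zero, Sum.inl.injEq, Sum.inr.injEq,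
          reduceCtorEq, Fin.ext_iff] at h ⊢ <;>
        have := p.2 <;> have := q.2 <;> split_ifs <;> first | omega | contradiction | simp
  x_bd i a p q h := by
    unfold plPhi
    unfold plLv at h
    have := i.2
    by_cases hi : i.val + 1 < m
    · rw [dif_pos hi]
      rw [if_pos hi] at h
      rw [oShort_val]
      have s1 := oLvS_spec (κ := Empty) i.val hi p
      have s2 := oLvS_spec (κ := Empty) i.val hi q
      rcases p with c | p | p <;> [exact c.elim; skip; skip] <;> rcases q with c | q | q <;>
        [exact c.elim; skip; skip; exact c.elim; skip; skip] <;>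
        simp only [upSL_val, oHs, Sum.elim_inl, Sum.elim_inr, Fintype.card_eq_zero, Sum.inl.injEq, Sum.inr.injEq,
          reduceCtorEq, Fin.ext_iff] at h s1 s2 ⊢ <;>
        have := p.2 <;> have := q.2 <;> split_ifs <;> first | omega | contradiction | simp
    · rw [dif_neg hi]
      rw [if_neg hi] at h
      rw [plLast_val]
      rcases p with c | p | p <;> [exact c.elim; skip; skip] <;> rcases q with c | q | q <;>
        [exact c.elim; skip; skip; exact c.elim; skip; skip] <;>
        simp only [upSL_val, plLvL, Sum.elim_inl, Sum.elim_inr, Sum.inl.injEq, Sum.inr.injEq,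
          reduceCtorEq, Fin.ext_iff] at h ⊢ <;>
        have := p.2 <;> have := q.2 <;> split_ifs at h ⊢ <;> first | omega | contradiction | simp
  y_bd i a p q h := by
    unfold plPhi
    unfold plLv at h
    have := i.2
    by_cases hi : i.val + 1 < m
    · rw [dif_pos hi]
      rw [if_pos hi] at h
      rw [oShort_val]
      have s1 := oLvS_spec (κ := Empty) i.val hi p
      have s2 := oLvS_spec (κ := Empty) i.val hi q
      rcases p with c | p | p <;> [exact c.elim; skip; skip] <;> rcases q with c | q | q <;>
        [exact c.elim; skip; skip; exact c.elim; skip; skip] <;>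
        simp only [loSL_val, oHs, Sum.elim_inl, Sum.elim_inr, Fintype.card_eq_zero, Sum.inl.injEq, Sum.inr.injEq,
          reduceCtorEq, Fin.ext_iff] at h s1 s2 ⊢ <;>
        have := p.2 <;> have := q.2 <;> split_ifs <;> first | omega | contradiction | simp
    · rw [dif_neg hi]
      rw [if_neg hi] at h
      rw [plLast_val]
      rcases p with c | p | p <;> [exact c.elim; skip; skip] <;> rcases q with c | q | q <;>
        [exact c.elim; skip; skip; exact c.elim; skip; skip] <;>
        simp only [loSL_val, plLvL, Sum.elim_inl, Sum.elim_inr, Sum.inl.injEq, Sum.inr.injEq,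
          reduceCtorEq, Fin.ext_iff] at h ⊢ <;>
        have := p.2 <;> have := q.2 <;> split_ifs at h ⊢ <;> first | omega | contradiction | simp
  U_entry i g hg := by
    have := i.2
    unfold plPhi plLv
    by_cases hi : i.val + 1 < m
    · simp only [dif_pos hi, if_pos hi]
      refine ⟨oRho Empty m F g (ox Empty m i) (ox Empty m ⟨i.val + 1, hi⟩), fun p q h => ?_⟩
      rw [oShort_val]
      have s1 := oLvS_spec (κ := Empty) i.val hi p
      have s2 := oLvS_spec (κ := Empty) i.val hi q
      by_cases hpq : oH Empty m p < oH Empty m q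
      · rcases p with c | p | p <;> [exact c.elim; skip; skip] <;> rcases q with c | q | q <;>
          [exact c.elim; skip; skip; exact c.elim; skip; skip] <;>
          simp only [oH, oHs, Sum.elim_inl, Sum.elim_inr, Fintype.card_eq_zero] at s1 s2 hpq <;>
          have := p.2 <;> have := q.2
        · obtain ⟨e1, e2⟩ : p.val = i.val ∧ q.val = i.val + 1 := by omega
          obtain rfl : p = i := Fin.ext e1
          obtain rfl : q = ⟨p.val + 1, hi⟩ := Fin.ext e2
          simp [upSL_val]
        · omega
        · omega
        · obtain ⟨e1, e2⟩ : q.val = i.val ∧ p.val = i.val + 1 := by omega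
          obtain rfl : q = i := Fin.ext e1
          obtain rfl : p = ⟨q.val + 1, hi⟩ := Fin.ext e2
          rw [o_short_upper hg (i := q) (j := ⟨q.val + 1, hi⟩) rfl]
          simp [upSL_val]
      · rw [show oRho Empty m F g p q = if p = q then 1 else 0 from hg p q hpq]
        rcases p with c | p | p <;> [exact c.elim; skip; skip] <;> rcases q with c | q | q <;>
          [exact c.elim; skip; skip; exact c.elim; skip; skip] <;>
          simp only [upSL_val, oH, oHs, Sum.elim_inl, Sum.elim_inr, Fintype.card_eq_zero, Sum.inl.injEq,
            Sum.inr.injEq, reduceCtorEq, Fin.ext_iff] at s1 s2 hpq ⊢ <;>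
          have := p.2 <;> have := q.2 <;> split_ifs <;> first | omega | contradiction | simp
    · simp only [dif_neg hi, if_neg hi]
      refine ⟨oRho Empty m F g (ox Empty m (plA hm)) (oy Empty m (plB hm)), fun p q h => ?_⟩
      rw [plLast_val]
      by_cases hpq : oH Empty m p < oH Empty m q
      · rcases p with c | p | p <;> [exact c.elim; skip; skip] <;> rcases q with c | q | q <;>
          [exact c.elim; skip; skip; exact c.elim; skip; skip] <;>
          simp only [oH, plLvL, Sum.elim_inl, Sum.elim_inr, Fintype.card_eq_zero] at h hpq <;>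
          have := p.2 <;> have := q.2
        · omega
        · rcases (show (p.val = m - 2 ∧ q.val = m - 1) ∨ (p.val = m - 1 ∧ q.val = m - 2) by
            split_ifs at h <;> omega) with ⟨e1, e2⟩ | ⟨e1, e2⟩
          · obtain rfl : p = (plA hm) := Fin.ext e1
            obtain rfl : q = (plB hm) := Fin.ext e2
            simp [upSL_val]
          · obtain rfl : p = (plB hm) := Fin.ext e1
            obtain rfl : q = (plA hm) := Fin.ext e2
            rw [pl_last_upper hm hg (a := (plA hm)) (b := (plB hm)) rfl rfl]
            have : ¬ (m - 1 = m - 2) := by omega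
            simp [upSL_val, this]
        · split_ifs at h <;> omega
        · split_ifs at h <;> omega
      · rw [show oRho Empty m F g p q = if p = q then 1 else 0 from hg p q hpq]
        rcases p with c | p | p <;> [exact c.elim; skip; skip] <;> rcases q with c | q | q <;>
          [exact c.elim; skip; skip; exact c.elim; skip; skip] <;>
          simp only [upSL_val, oH, plLvL, Sum.elim_inl, Sum.elim_inr, Fintype.card_eq_zero, Sum.inl.injEq,
            Sum.inr.injEq, reduceCtorEq, Fin.ext_iff] at h hpq ⊢ <;>
          have := p.2 <;> have := q.2 <;> split_ifs at h ⊢ <;> first | omega | contradiction | simp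
  V_entry i g hg := by
    have := i.2
    unfold plPhi plLv
    by_cases hi : i.val + 1 < m
    · simp only [dif_pos hi, if_pos hi]
      refine ⟨oRho Empty m F g (ox Empty m ⟨i.val + 1, hi⟩) (ox Empty m i), fun p q h => ?_⟩
      rw [oShort_val]
      have s1 := oLvS_spec (κ := Empty) i.val hi p
      have s2 := oLvS_spec (κ := Empty) i.val hi q
      by_cases hpq : oH Empty m q < oH Empty m p
      · rcases p with c | p | p <;> [exact c.elim; skip; skip] <;> rcases q with c | q | q <;>
          [exact c.elim; skip; skip; exact c.elim; skip; skip] <;>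
          simp only [oH, oHs, Sum.elim_inl, Sum.elim_inr, Fintype.card_eq_zero] at s1 s2 hpq <;>
          have := p.2 <;> have := q.2
        · obtain ⟨e1, e2⟩ : q.val = i.val ∧ p.val = i.val + 1 := by omega
          obtain rfl : q = i := Fin.ext e1
          obtain rfl : p = ⟨q.val + 1, hi⟩ := Fin.ext e2
          simp [loSL_val]
        · omega
        · omega
        · obtain ⟨e1, e2⟩ : p.val = i.val ∧ q.val = i.val + 1 := by omega
          obtain rfl : p = i := Fin.ext e1
          obtain rfl : q = ⟨p.val + 1, hi⟩ := Fin.ext e2
          rw [o_short_lower hg (i := p) (j := ⟨p.val + 1, hi⟩) rfl]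
          simp [loSL_val]
      · rw [show oRho Empty m F g p q = if p = q then 1 else 0 from hg p q hpq]
        rcases p with c | p | p <;> [exact c.elim; skip; skip] <;> rcases q with c | q | q <;>
          [exact c.elim; skip; skip; exact c.elim; skip; skip] <;>
          simp only [loSL_val, oH, oHs, Sum.elim_inl, Sum.elim_inr, Fintype.card_eq_zero, Sum.inl.injEq,
            Sum.inr.injEq, reduceCtorEq, Fin.ext_iff] at s1 s2 hpq ⊢ <;>
          have := p.2 <;> have := q.2 <;> split_ifs <;> first | omega | contradiction | simp
    · simp only [dif_neg hi, if_neg hi]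
      refine ⟨oRho Empty m F g (oy Empty m (plB hm)) (ox Empty m (plA hm)), fun p q h => ?_⟩
      rw [plLast_val]
      by_cases hpq : oH Empty m q < oH Empty m p
      · rcases p with c | p | p <;> [exact c.elim; skip; skip] <;> rcases q with c | q | q <;>
          [exact c.elim; skip; skip; exact c.elim; skip; skip] <;>
          simp only [oH, plLvL, Sum.elim_inl, Sum.elim_inr, Fintype.card_eq_zero] at h hpq <;>
          have := p.2 <;> have := q.2
        · omega
        · split_ifs at h <;> omega
        · rcases (show (p.val = m - 1 ∧ q.val = m - 2) ∨ (p.val = m - 2 ∧ q.val = m - 1) by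
            split_ifs at h <;> omega) with ⟨e1, e2⟩ | ⟨e1, e2⟩
          · obtain rfl : p = (plB hm) := Fin.ext e1
            obtain rfl : q = (plA hm) := Fin.ext e2
            simp [loSL_val]
          · obtain rfl : p = (plA hm) := Fin.ext e1
            obtain rfl : q = (plB hm) := Fin.ext e2
            rw [pl_last_lower hm hg (a := (plA hm)) (b := (plB hm)) rfl rfl]
            have : ¬ (m - 2 = m - 1) := by omega
            simp [loSL_val, this]
        · split_ifs at h <;> omega
      · rw [show oRho Empty m F g p q = if p = q then 1 else 0 from hg p q hpq]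
        rcases p with c | p | p <;> [exact c.elim; skip; skip] <;> rcases q with c | q | q <;>
          [exact c.elim; skip; skip; exact c.elim; skip; skip] <;>
          simp only [loSL_val, oH, plLvL, Sum.elim_inl, Sum.elim_inr, Fintype.card_eq_zero, Sum.inl.injEq,
            Sum.inr.injEq, reduceCtorEq, Fin.ext_iff] at h hpq ⊢ <;>
          have := p.2 <;> have := q.2 <;> split_ifs at h ⊢ <;> first | omega | contradiction | simp
  top_lt p hp := by
    rcases p with c | p | p
    · exact c.elim
    · have : p.val ≠ 0 := fun e => hp (congrArg (ox Empty m) (Fin.ext e))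
      show 0 < p.val
      omega
    · have := p.2
      show 0 < 2 * m + 2 * Fintype.card Empty - 2 - p.val
      omega
  bot_gt p hp := by
    rcases p with c | p | p
    · exact c.elim
    · have := p.2
      show p.val < 2 * m + 2 * Fintype.card Empty - 2 - 0
      omega
    · have : p.val ≠ 0 := fun e => hp (congrArg (oy Empty m) (Fin.ext e))
      have := p.2
      show 2 * m + 2 * Fintype.card Empty - 2 - p.val < 2 * m + 2 * Fintype.card Empty - 2 - 0
      omega
  cyc_top W hW h0 := orth_cyc (by omega) (fun c => c.elim) W hW ⟨_, Or.inl h0⟩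
  cyc_bot W hW h0 := orth_cyc (by omega) (fun c => c.elim) W hW ⟨_, Or.inr h0⟩
  gen := pl_gen hm

end Cfsg.Agent.Classical.MatRootData
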