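import Cfsg.Agent.Lib.Classical.MatLeviTools
import Cfsg.Agent.Lib.Classical.ChevLeviBlocks

/-!
The split root datum and the Levi block of `SL_{l+2}`, and the square covering of `PSL_n`.
-/

set_option autoImplicit false
set_option linter.unusedSectionVars false
set_option maxHeartbeats 2000000

namespace Cfsg.Agent.Classical.MatRootData

open Matrix Cfsg.Agent.Classical.RegularBlocks Cfsg.Agent.Lie.Chev Cfsg.Agent.Lie.CurtisTitsA
open scoped MatrixGroups

variable (l : ℕ) (F : Type*) [Field F] [Fintype F]

/-- The matrix of an element of `SL`. -/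
abbrev slRho : SpecialLinearGroup (Fin (l + 2)) F →* Matrix (Fin (l + 2)) (Fin (l + 2)) F where
  toFun g := g.1
  map_one' := rfl
  map_mul' _ _ := rfl

theorem succ_ne {l : ℕ} (i : Fin (l + 1)) : i.castSucc ≠ i.succ := Fin.ne_of_val_ne (by simp)

/-- The Cartan matrix of type `A`. -/
def cartA (k i : Fin (l + 1)) : ℤ :=
  if k.val = i.val then 2 else if k.val + 1 = i.val ∨ i.val + 1 = k.val then -1 else 0

/-- The root datum. -/
noncomputable def slData : MatData (slRho l F) (Fin (l + 1)) where
  inj _ _ h := Subtype.ext h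
  h p := p.val
  lv i p := if p.val ≤ i.val then p.val else p.val - 1
  φ i := ext2 i.castSucc i.succ (succ_ne i)
  dd i s p := if p.val = i.val then s else if p.val = i.val + 1 then s⁻¹ else 1
  A := cartA l
  top := 0
  bot := Fin.last (l + 1)
  d_val i s := by
    ext p q
    show (ext2 i.castSucc i.succ (succ_ne i) (dSL (s : F) s.ne_zero)).1 p q = _
    rw [ext2_apply, Matrix.diagonal_apply]
    simp only [Fin.ext_iff, Fin.val_castSucc, Fin.val_succ, dSL_val]
    split_ifs <;> first | omega | simp
  weight k i s a p q := by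
    show _ * (ext2 i.castSucc i.succ (succ_ne i) (upSL a)).1 p q =
      (ext2 i.castSucc i.succ (succ_ne i) (upSL _)).1 p q * _ ∧
      _ * (ext2 i.castSucc i.succ (succ_ne i) (loSL a)).1 p q =
      (ext2 i.castSucc i.succ (succ_ne i) (loSL _)).1 p q * _
    simp only [ext2_apply, Fin.ext_iff, Fin.val_castSucc, Fin.val_succ, upSL_val, loSL_val, cartA]
    constructor <;> split_ifs <;> first
      | omega
      | (simp [zpow_two]; field_simp)
      | simp
  compat i p q h := by split_ifs at h <;> omega
  lv_U i := tri_mono fun p q h => by split_ifs at h <;> omega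
  lv_V i := tri_mono fun p q h => by
    change (if q.val ≤ i.val then q.val else q.val - 1) < if p.val ≤ i.val then p.val else p.val - 1 at h
    show q.val < p.val
    split_ifs at h <;> omega
  x_tri i a p q h := by
    have h' : ¬ p.val < q.val := h
    show (ext2 i.castSucc i.succ (succ_ne i) (upSL a)).1 p q = _
    simp only [ext2_apply, Fin.ext_iff, Fin.val_castSucc, Fin.val_succ, upSL_val]
    split_ifs <;> first | omega | simp
  y_tri i a p q h := by
    have h' : ¬ q.val < p.val := h
    show (ext2 i.castSucc i.succ (succ_ne i) (loSL a)).1 p q = _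
    simp only [ext2_apply, Fin.ext_iff, Fin.val_castSucc, Fin.val_succ, loSL_val]
    split_ifs <;> first | omega | simp
  x_bd i a p q h := by
    beta_reduce at h
    show (ext2 i.castSucc i.succ (succ_ne i) (upSL a)).1 p q = _
    simp only [ext2_apply, Fin.ext_iff, Fin.val_castSucc, Fin.val_succ, upSL_val]
    split_ifs at h ⊢ <;> first | omega | simp
  y_bd i a p q h := by
    beta_reduce at h
    show (ext2 i.castSucc i.succ (succ_ne i) (loSL a)).1 p q = _
    simp only [ext2_apply, Fin.ext_iff, Fin.val_castSucc, Fin.val_succ, loSL_val]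
    split_ifs at h ⊢ <;> first | omega | simp
  U_entry i g hg := by
    refine ⟨g.1 i.castSucc i.succ, fun p q h => ?_⟩
    show (ext2 i.castSucc i.succ (succ_ne i) (upSL _)).1 p q = g.1 p q
    by_cases hpq : p = i.castSucc ∧ q = i.succ
    · obtain ⟨rfl, rfl⟩ := hpq; simp [ext2_apply, upSL_val, (succ_ne i).symm]
    · have hle : ¬ p.val < q.val := by
        simp only [Fin.ext_iff, Fin.val_castSucc, Fin.val_succ] at hpq
        split_ifs at h <;> omega
      rw [show g.1 p q = if p = q then 1 else 0 from hg p q hle]
      simp only [ext2_apply, Fin.ext_iff, Fin.val_castSucc, Fin.val_succ, upSL_val] at hpq ⊢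
      split_ifs <;> first | omega | simp
  V_entry i g hg := by
    refine ⟨g.1 i.succ i.castSucc, fun p q h => ?_⟩
    show (ext2 i.castSucc i.succ (succ_ne i) (loSL _)).1 p q = g.1 p q
    by_cases hpq : p = i.succ ∧ q = i.castSucc
    · obtain ⟨rfl, rfl⟩ := hpq; simp [ext2_apply, loSL_val, (succ_ne i).symm]
    · have hle : ¬ q.val < p.val := by
        simp only [Fin.ext_iff, Fin.val_castSucc, Fin.val_succ] at hpq
        split_ifs at h <;> omega
      rw [show g.1 p q = if p = q then 1 else 0 from hg p q hle]
      simp only [ext2_apply, Fin.ext_iff, Fin.val_castSucc, Fin.val_succ, loSL_val] at hpq ⊢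
      split_ifs <;> first | omega | simp
  top_lt p hp := by
    have : p.val ≠ 0 := fun e => hp (Fin.ext e)
    show (0 : ℕ) < p.val
    omega
  bot_gt p hp := by
    have : p.val ≠ l + 1 := fun e => hp (Fin.ext e)
    have := p.2
    show p.val < l + 1
    omega
  cyc_top W hW h0 := cyc W hW h0
  cyc_bot W hW h0 := cyc W hW h0
  gen S hx hy := adj_top (n := l + 1)
    (fun i a => by have h := hx i a; rw [ext2_up] at h; exact h)
    (fun i a => by have h := hy i a; rw [ext2_lo] at h; exact h)
where
  cyc (W : Submodule F (Fin (l + 2) → F))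
      (hW : ∀ z : SpecialLinearGroup (Fin (l + 2)) F, ∀ v ∈ W, z.1 *ᵥ v ∈ W) {o : Fin (l + 2)}
      (h0 : Pi.single o 1 ∈ W) : W = ⊤ := by
    refine eq_top_iff.2 fun v _ => ?_
    rw [pi_eq_sum_univ' v]
    refine Submodule.sum_mem _ fun p _ => Submodule.smul_mem _ _ ?_
    rcases eq_or_ne p o with rfl | hp
    · exact h0
    · have h := W.sub_mem (hW (tvN p o hp 1) _ h0) h0
      rw [tvN_val, Matrix.transvection, Matrix.add_mulVec, Matrix.one_mulVec, add_sub_cancel_left] at h
      convert h using 1
      ext q
      simp [Pi.single_apply, Matrix.single_apply, eq_comm]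

end Cfsg.Agent.Classical.MatRootData
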