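import Cfsg.Agent.Lib.Lie.OmegaPlusPresFinal
import Cfsg.Agent.Lib.Lie.CurtisTitsTypeD

/-!
The group presented by a copy of `SL_m` and one edge of type `D`, over `Ω⁺₂ₘ`.
-/

set_option autoImplicit false
set_option linter.unusedSectionVars false
set_option maxHeartbeats 1000000

universe u

namespace Cfsg.Agent.Classical.PlusMult

open Matrix Cfsg.Agent.Lie.Chev Cfsg.Agent.Lie.CurtisTitsA Cfsg.Agent.Lie.OmegaPlus
open scoped MatrixGroups commutatorElement

/-- Commutation with a fixed element is a homomorphism modulo a central kernel. -/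
def commHom {K E H : Type*} [Group K] [Group E] [Group H] (π : E →* H)
    (hc : π.ker ≤ Subgroup.center E) (u : K →* E) (y : E) (h : ∀ k, Commute (π (u k)) (π y)) :
    K →* E :=
  MonoidHom.mk' (fun k => ⁅u k, y⁆) fun a b => by
    have hz : ⁅u b, y⁆ ∈ Subgroup.center E := hc (by
      rw [MonoidHom.mem_ker, map_commutatorElement]
      exact commutatorElement_eq_one_iff_commute.2 (h b))
    have e := (Subgroup.mem_center_iff.1 hz (u a)).symm
    show ⁅u (a * b), y⁆ = ⁅u a, y⁆ * ⁅u b, y⁆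
    rw [map_mul, show ⁅u a * u b, y⁆ = u a * ⁅u b, y⁆ * (u a)⁻¹ * ⁅u a, y⁆ by
      simp only [commutatorElement_def]; group, ← e, mul_inv_cancel_right]
    exact (Subgroup.mem_center_iff.1 hz _).symm

theorem commHom_apply {K E H : Type*} [Group K] [Group E] [Group H] (π : E →* H)
    (hc : π.ker ≤ Subgroup.center E) (u : K →* E) (y : E) (h : ∀ k, Commute (π (u k)) (π y)) (k : K) :
    commHom π hc u y h k = ⁅u k, y⁆ := rfl

theorem commHom_center {K E H : Type*} [Group K] [Group E] [Group H] (π : E →* H)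
    (hc : π.ker ≤ Subgroup.center E) (u : K →* E) (y : E) (h : ∀ k, Commute (π (u k)) (π y)) (k : K) :
    commHom π hc u y h k ∈ Subgroup.center E :=
  hc (by
    rw [MonoidHom.mem_ker, commHom_apply, map_commutatorElement]
    exact commutatorElement_eq_one_iff_commute.2 (h k))

/-- A homomorphism of a perfect group with central values is trivial. -/
theorem hom_center_eq_one {K E : Type*} [Group K] [Group E] (hK : commutator K = ⊤) (χ : K →* E)
    (hχ : ∀ k, χ k ∈ Subgroup.center E) (k : K) : χ k = 1 := by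
  have h : commutator K ≤ χ.ker := by
    rw [commutator_def, Subgroup.commutator_le]
    intro a _ b _
    rw [MonoidHom.mem_ker, map_commutatorElement]
    exact commutatorElement_eq_one_iff_commute.2 (Subgroup.mem_center_iff.1 (hχ b) (χ a))
  exact h (hK ▸ Subgroup.mem_top k)

variable {F : Type u} [Field F] [Fintype F] {m : ℕ} (X : Frame m)

/-- The free product of the two pieces. -/
abbrev Pre (F : Type u) [Field F] (m : ℕ) :=
  Monoid.Coprod (Matrix.SpecialLinearGroup (Fin m) F) (Matrix.SpecialLinearGroup (Fin 3) F)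

/-- The relations. -/
def relSet : Set (Pre F m) :=
  {r | ∃ t : F, r = Monoid.Coprod.inr (up3 (upSL t)) * (Monoid.Coprod.inl (tvN X.cc X.a X.hca t))⁻¹} ∪
  {r | ∃ t : F, r = Monoid.Coprod.inr (up3 (loSL t)) *
    (Monoid.Coprod.inl (tvN X.a X.cc (Ne.symm X.hca) t))⁻¹} ∪
  {r | ∃ (i j : Fin m) (h : i ≠ j), ((i ≠ X.a ∧ i ≠ X.b ∧ j ≠ X.a ∧ j ≠ X.b) ∨
    (i = X.a ∧ j = X.b) ∨ (i = X.b ∧ j = X.a)) ∧ ∃ t u : F,
      r = ⁅(Monoid.Coprod.inl (tvN i j h t) : Pre F m), Monoid.Coprod.inr (tvN 1 2 (by decide) u)⁆ ∨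
      r = ⁅(Monoid.Coprod.inl (tvN i j h t) : Pre F m), Monoid.Coprod.inr (tvN 2 1 (by decide) u)⁆}

/-- The presented group. -/
abbrev Univ : Type u := Pre F m ⧸ Subgroup.normalClosure (relSet (F := F) X)

/-- The Levi piece. -/
def gΦ : Matrix.SpecialLinearGroup (Fin m) F →* Univ (F := F) X :=
  (QuotientGroup.mk' _).comp Monoid.Coprod.inl

/-- The edge piece. -/
def gψ : Matrix.SpecialLinearGroup (Fin 3) F →* Univ (F := F) X :=
  (QuotientGroup.mk' _).comp Monoid.Coprod.inr

theorem rel_eq_one {r : Pre F m} (hr : r ∈ relSet X) :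
    QuotientGroup.mk' (Subgroup.normalClosure (relSet (F := F) X)) r = 1 :=
  (QuotientGroup.eq_one_iff _).2 (Subgroup.subset_normalClosure hr)

/-- Its structure. -/
def gData : SkewData F m (Univ (F := F) X) where
  a := X.a
  b := X.b
  cc := X.cc
  hab := X.hab
  hca := X.hca
  hcb := X.hcb
  hm := X.hm
  Φ := gΦ X
  ψ := gψ X
  hu t := by
    have h := rel_eq_one (F := F) X (Or.inl (Or.inl ⟨t, rfl⟩))
    rw [map_mul, map_inv, mul_inv_eq_one] at h
    exact h
  hl t := by
    have h := rel_eq_one (F := F) X (Or.inl (Or.inr ⟨t, rfl⟩))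
    rw [map_mul, map_inv, mul_inv_eq_one] at h
    exact h
  hcomm i j h hij t u := by
    have h1 := rel_eq_one (F := F) X (Or.inr ⟨i, j, h, hij, t, u, Or.inl rfl⟩)
    have h2 := rel_eq_one (F := F) X (Or.inr ⟨i, j, h, hij, t, u, Or.inr rfl⟩)
    rw [map_commutatorElement, commutatorElement_eq_one_iff_commute] at h1 h2
    exact ⟨h1, h2⟩

/-- The universal property. -/
def gLift {G : Type*} [Group G] (Φ : Matrix.SpecialLinearGroup (Fin m) F →* G)
    (ψ : Matrix.SpecialLinearGroup (Fin 3) F →* G)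
    (hu : ∀ t, ψ (up3 (upSL t)) = Φ (tvN X.cc X.a X.hca t))
    (hl : ∀ t, ψ (up3 (loSL t)) = Φ (tvN X.a X.cc (Ne.symm X.hca) t))
    (hcomm : ∀ (i j : Fin m) (h : i ≠ j),
      ((i ≠ X.a ∧ i ≠ X.b ∧ j ≠ X.a ∧ j ≠ X.b) ∨ (i = X.a ∧ j = X.b) ∨ (i = X.b ∧ j = X.a)) →
      ∀ t u, Commute (Φ (tvN i j h t)) (ψ (tvN 1 2 (by decide) u)) ∧
        Commute (Φ (tvN i j h t)) (ψ (tvN 2 1 (by decide) u))) :
    Univ (F := F) X →* G :=
  QuotientGroup.lift _ (Monoid.Coprod.lift Φ ψ) (by
    refine Subgroup.normalClosure_le_normal fun r hr => ?_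
    rw [SetLike.mem_coe, MonoidHom.mem_ker]
    rcases hr with (⟨t, rfl⟩ | ⟨t, rfl⟩) | ⟨i, j, h, hij, t, u, rfl | rfl⟩
    · rw [map_mul, map_inv, Monoid.Coprod.lift_apply_inr, Monoid.Coprod.lift_apply_inl, hu,
        mul_inv_cancel]
    · rw [map_mul, map_inv, Monoid.Coprod.lift_apply_inr, Monoid.Coprod.lift_apply_inl, hl,
        mul_inv_cancel]
    · rw [map_commutatorElement, Monoid.Coprod.lift_apply_inr, Monoid.Coprod.lift_apply_inl,
        commutatorElement_eq_one_iff_commute]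
      exact (hcomm i j h hij t u).1
    · rw [map_commutatorElement, Monoid.Coprod.lift_apply_inr, Monoid.Coprod.lift_apply_inl,
        commutatorElement_eq_one_iff_commute]
      exact (hcomm i j h hij t u).2)

theorem gLift_Φ {G : Type*} [Group G] (Φ : Matrix.SpecialLinearGroup (Fin m) F →* G)
    (ψ : Matrix.SpecialLinearGroup (Fin 3) F →* G) (hu hl hcomm)
    (g : Matrix.SpecialLinearGroup (Fin m) F) : gLift X Φ ψ hu hl hcomm (gΦ X g) = Φ g :=
  Monoid.Coprod.lift_apply_inl Φ ψ g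

theorem gLift_ψ {G : Type*} [Group G] (Φ : Matrix.SpecialLinearGroup (Fin m) F →* G)
    (ψ : Matrix.SpecialLinearGroup (Fin 3) F →* G) (hu hl hcomm)
    (g : Matrix.SpecialLinearGroup (Fin 3) F) : gLift X Φ ψ hu hl hcomm (gψ X g) = ψ g :=
  Monoid.Coprod.lift_apply_inr Φ ψ g

theorem gΦ_sup_gψ : (gΦ (F := F) X).range ⊔ (gψ (F := F) X).range = ⊤ := by
  rw [gΦ, gψ, MonoidHom.range_comp, MonoidHom.range_comp, ← Subgroup.map_sup,
    Monoid.Coprod.range_inl_sup_range_inr]
  exact Subgroup.map_top_of_surjective _ (QuotientGroup.mk'_surjective _)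

theorem gen : (gData (F := F) X).Φ.range ⊔ (gData (F := F) X).nd.range = ⊤ := by
  set A := gData (F := F) X with hA
  set R := A.Φ.range ⊔ A.nd.range
  suffices h : A.ψ.range ≤ R from top_le_iff.1 (gΦ_sup_gψ (F := F) X ▸ sup_le le_sup_left h)
  rw [MonoidHom.range_eq_map, ← Cfsg.Agent.Classical.SL_closure_transvections,
    Subgroup.map_le_iff_le_comap, Subgroup.closure_le]
  rintro _ ⟨⟨i, j, hij, t⟩, rfl⟩
  refine tv_mem_of_adjacent (R.comap A.ψ) 3 (fun i j hij _ _ hadj t => ?_) i j hij i.2 j.2 t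
  have e1 : A.ψ (up3 (upSL t)) ∈ R := by rw [A.hu]; exact Subgroup.mem_sup_left ⟨_, rfl⟩
  have e2 : A.ψ (up3 (loSL t)) ∈ R := by rw [A.hl]; exact Subgroup.mem_sup_left ⟨_, rfl⟩
  have e3 : A.ψ (dn3 (upSL t)) ∈ R := Subgroup.mem_sup_right ⟨_, rfl⟩
  have e4 : A.ψ (dn3 (loSL t)) ∈ R := Subgroup.mem_sup_right ⟨_, rfl⟩
  rw [up3_up] at e1
  rw [up3_lo] at e2
  rw [dn3_up] at e3
  rw [dn3_lo] at e4
  fin_cases i <;> fin_cases j <;> first
    | exact absurd rfl hij
    | exact e1
    | exact e2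
    | exact e3
    | exact e4
    | simp at hadj

theorem perfect : commutator (Univ (F := F) X) = ⊤ := by
  rw [eq_top_iff, ← gΦ_sup_gψ X]
  exact sup_le (range_le_commutator (perfect_SL (by have := X.hm; omega)) _)
    (range_le_commutator (perfect_SL le_rfl) _)

/-- The map to the orthogonal group. -/
def gθ : Univ (F := F) X →* OGp m F :=
  gLift X X.trueData.Φ X.trueData.ψ X.trueData.hu X.trueData.hl X.trueData.hcomm

theorem gθ_Φ (g : Matrix.SpecialLinearGroup (Fin m) F) : gθ X (gΦ X g) = levO g := gLift_Φ X _ _ _ _ _ g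

theorem gθ_ψ (g : Matrix.SpecialLinearGroup (Fin 3) F) :
    gθ X (gψ X g) = swO X.b (levO (ext3 X.cc X.a X.b X.hca X.hcb X.hab g)) := gLift_ψ X _ _ _ _ _ g

theorem oVal_gθ_x (t : F) :
    oVal (gθ X ((gData X).x t)) = fromBlocks 1 (t • (gData (F := F) X).S0) 0 1 := by
  rw [show (gData (F := F) X).x t = gψ X (tvN 1 2 (by decide) t) from rfl, gθ_ψ]
  exact X.trueData_x t

theorem oVal_gθ_x' (t : F) :
    oVal (gθ X ((gData X).dual.x t)) = fromBlocks 1 0 (t • (gData (F := F) X).S0) 1 := by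
  rw [show (gData (F := F) X).dual.x t = gψ X (tauN (tvN 1 2 (by decide) t)) from rfl, gθ_ψ]
  exact X.trueData_x' t

theorem oVal_gθ_Φ (g : Matrix.SpecialLinearGroup (Fin m) F) :
    oVal (gθ X ((gData X).Φ g)) = fromBlocks g.1 0 0 (tauN g).1 := by
  rw [show (gData (F := F) X).Φ g = gΦ X g from rfl, gθ_Φ, oVal_levO]

theorem gθ_range :
    (gθ (F := F) X).range = Cfsg.Omega F (Cfsg.quadFormPlus m F) := by
  rw [(gData (F := F) X).omega_eq_map (gθ X) (oVal_gθ_Φ X) (oVal_gθ_x X) (oVal_gθ_x' X), gen,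
    MonoidHom.range_eq_map]

/-- The map onto `Ω⁺`. -/
def gΩ : Univ (F := F) X →* OmP m F :=
  (gθ X).codRestrict _ fun g => by rw [← gθ_range X]; exact ⟨g, rfl⟩

theorem gΩ_surjective : Function.Surjective (gΩ (F := F) X) := fun y => by
  obtain ⟨g, hg⟩ : (y : OGp m F) ∈ (gθ (F := F) X).range := by rw [gθ_range]; exact y.2
  exact ⟨g, Subtype.ext hg⟩

theorem gθ_ker_levi {z : Univ (F := F) X} (hz : gθ X z = 1) :
    z ∈ Subgroup.center (Univ (F := F) X) ∧
      ∃ g α, z = (gData X).Φ g * (gData (F := F) X).nd (diag2 α) :=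
  (gData (F := F) X).ker_levi (oVal.comp (gθ X)) (oVal_gθ_Φ X) (oVal_gθ_x X) (oVal_gθ_x' X) (gen X)
    (show oVal (gθ X z) = 1 by rw [hz, map_one])

theorem finite_univ : Finite (Univ (F := F) X) := by
  classical
  have h1 : Finite (gθ (F := F) X).ker :=
    Finite.Set.subset (Set.range fun p : Matrix.SpecialLinearGroup (Fin m) F × Fˣ =>
      (gData X).Φ p.1 * (gData (F := F) X).nd (diag2 p.2)) fun z hz => by
        obtain ⟨-, g, α, e⟩ := gθ_ker_levi X hz
        exact ⟨(g, α), e.symm⟩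
  have h2 : Finite (Univ (F := F) X ⧸ (gθ (F := F) X).ker) :=
    Finite.of_injective _ (QuotientGroup.kerLift_injective (gθ (F := F) X))
  exact Finite.of_equiv _ (Subgroup.groupEquivQuotientProdSubgroup (s := (gθ (F := F) X).ker)).symm

theorem oVal_gθ_nd_diag (α : Fˣ) :
    oVal (gθ X ((gData (F := F) X).nd (diag2 α))) = fromBlocks
      (Matrix.diagonal fun k => if k = X.a ∨ k = X.b then (α : F) else 1) 0 0
      (Matrix.diagonal fun k => if k = X.a ∨ k = X.b then (↑α⁻¹ : F) else 1) := by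
  rw [show (gData (F := F) X).nd (diag2 α) = gψ X (dn3 (diag2 α)) from rfl, gθ_ψ]
  have e := DFunLike.congr_fun (ext3_dn3 (F := F) X.hca X.hcb X.hab) (diag2 α)
  rw [MonoidHom.comp_apply] at e
  rw [e, oVal_sw_diag]

/-- The element over the identity. -/
def gZ : Univ (F := F) X :=
  gΦ X (ext2 X.a X.b X.hab (diag2 (-1))) * (gData (F := F) X).nd (diag2 (-1))

theorem gθ_gZ : gθ X (gZ (F := F) X) = 1 := by
  apply oVal_injective
  rw [gZ, map_mul, map_mul, map_one, gθ_Φ, oVal_levO, oVal_gθ_nd_diag, tau_ext2, fromBlocks_multiply,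
    ← fromBlocks_one]
  have e : tauN (diag2 (-1) : SL(2, F)) = diag2 (-1) := by
    refine ext_two ?_ ?_ ?_ ?_ <;> rw [tauN_val, diag2_inv] <;> simp [diag2_val]
  rw [e, val_ext2_diag]
  simp only [mul_zero, zero_mul, add_zero, zero_add, inv_neg, inv_one, Units.val_neg, Units.val_one,
    diagonal_mul_diagonal]
  congr 1 <;>
  · rw [← Matrix.diagonal_one]
    congr 1
    funext k
    by_cases hka : k = X.a <;> by_cases hkb : k = X.b <;> simp [hka, hkb, X.hab, X.hab.symm]

theorem gθ_ker {z : Univ (F := F) X} (hz : gθ X z = 1) : z = 1 ∨ z = gZ X := by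
  obtain ⟨-, g, α, rfl⟩ := gθ_ker_levi X hz
  have h := congrArg oVal hz
  rw [map_mul, map_mul, map_one, oVal_gθ_Φ, oVal_gθ_nd_diag, fromBlocks_multiply, ← fromBlocks_one,
    fromBlocks_inj] at h
  simp only [zero_mul, add_zero] at h
  have hg1 := h.1
  have hα : α = 1 ∨ α = -1 := by
    have hdet := congrArg Matrix.det hg1
    rw [Matrix.det_mul, g.2, one_mul, Matrix.det_diagonal, Matrix.det_one,
      Finset.prod_eq_mul X.a X.b X.hab (fun c _ hc => by simp [hc.1, hc.2]) (by simp) (by simp)] at hdet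
    simp only [true_or, or_true, if_true] at hdet
    rcases mul_self_eq_one_iff.1 hdet with h | h
    · exact Or.inl (Units.ext h)
    · exact Or.inr (Units.ext (by rw [h, Units.val_neg, Units.val_one]))
  rcases hα with rfl | rfl
  · left
    have : g = 1 := Subtype.ext (by simpa using hg1)
    subst this
    rw [show (diag2 1 : SL(2, F)) = 1 from ext_two (by simp [diag2_val]) (by simp [diag2_val])
      (by simp [diag2_val]) (by simp [diag2_val]), map_one, map_one, mul_one]
  · right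
    have hg : g * ext2 X.a X.b X.hab (diag2 (-1)) = 1 := by
      refine Subtype.ext ?_
      rw [val_mulN, val_oneN, val_ext2_diag]
      refine Eq.trans ?_ hg1
      congr 2
      funext k
      by_cases hka : k = X.a <;> by_cases hkb : k = X.b <;> simp [hka, hkb, X.hab, X.hab.symm]
    have hg' : g = ext2 X.a X.b X.hab (diag2 (-1)) := by
      rw [eq_inv_of_mul_eq_one_left hg, ← map_inv, diag2_inv, inv_neg, inv_one]
    subst hg'
    rfl

theorem central_of_gΩ {z : Univ (F := F) X}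
    (hz : gΩ X z ∈ Subgroup.center (OmP m F)) : z ∈ Subgroup.center (Univ (F := F) X) := by
  have hc : (gΩ (F := F) X).ker ≤ Subgroup.center _ := fun y hy =>
    (gθ_ker_levi X (congrArg Subtype.val (MonoidHom.mem_ker.1 hy))).1
  have hcomm : ∀ k, Commute (gΩ (F := F) X ((MonoidHom.id _) k)) (gΩ X z) := fun k =>
    Subgroup.mem_center_iff.1 hz _
  refine Subgroup.mem_center_iff.2 fun y => ?_
  have := hom_center_eq_one (perfect (F := F) X) (commHom (gΩ X) hc (MonoidHom.id _) z hcomm)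
    (commHom_center _ hc _ _ hcomm) y
  rw [commHom_apply, MonoidHom.id_apply, commutatorElement_eq_one_iff_commute] at this
  exact this

end Cfsg.Agent.Classical.PlusMult
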