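import Cfsg.Agent.Lib.Classical.MatSquarePSL
import Cfsg.Agent.Lib.Classical.SpMultLevi
import Cfsg.Agent.Lib.Classical.SympGen

/-!
The split root datum of `Sp_{2m}`.
-/

set_option autoImplicit false
set_option linter.unusedSectionVars false
set_option maxHeartbeats 4000000

namespace Cfsg.Agent.Classical.MatRootData

open Matrix Cfsg.Agent.Classical.RegularBlocks Cfsg.Agent.Lie.Chev Cfsg.Agent.Lie.CurtisTitsA
  Cfsg.Agent.Lie.SpnPres
open scoped MatrixGroups

variable (n : ℕ) (F : Type*) [Field F] [Fintype F]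

/-- The matrix of a symplectic element. -/
abbrev spRho : Matrix.symplecticGroup (Fin (n + 2)) F →*
    Matrix (Fin (n + 2) ⊕ Fin (n + 2)) (Fin (n + 2) ⊕ Fin (n + 2)) F where
  toFun g := g.1
  map_one' := rfl
  map_mul' _ _ := rfl

/-- The height of a coordinate. -/
def spH : Fin (n + 2) ⊕ Fin (n + 2) → ℕ := Sum.elim (fun i => i.val) fun i => 2 * n + 3 - i.val

/-- The levels of a simple root. -/
def spLv (i : Fin (n + 2)) (x : Fin (n + 2) ⊕ Fin (n + 2)) : ℕ :=
  spH n x - (if i.val < spH n x then 1 else 0) -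
    (if i.val < n + 1 ∧ 2 * n + 2 - i.val < spH n x then 1 else 0)

/-- The index pair of the long simple root. -/
def longEmb : Fin 1 ↪ Fin (n + 2) := ⟨fun _ => Fin.last (n + 1), fun _ _ _ => Subsingleton.elim _ _⟩

/-- A matrix of size one. -/
def mone {F : Type*} (a : F) : Matrix (Fin 1) (Fin 1) F := Matrix.of fun _ _ => a

theorem mone_apply {F : Type*} (a : F) (i j : Fin 1) : mone a i j = a := rfl

/-- `SL₂` as the symplectic group of a plane. -/
def slSp : SL(2, F) →* Matrix.symplecticGroup (Fin 1) F where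
  toFun X := ⟨fromBlocks (mone (X.1 0 0)) (mone (X.1 0 1)) (mone (X.1 1 0)) (mone (X.1 1 1)), by
    rw [SymplecticGroup.mem_iff, Matrix.J, fromBlocks_transpose, fromBlocks_multiply, fromBlocks_multiply]
    have := det_two X
    refine Matrix.ext fun a b => ?_
    rcases a with a | a <;> rcases b with b | b <;>
      (fin_cases a; fin_cases b; simp [Matrix.mul_apply, mone_apply]) <;>
      first
        | ring1
        | linear_combination this
        | linear_combination -this⟩
  map_one' := Subtype.ext (by
    refine Matrix.ext fun a b => ?_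
    rcases a with a | a <;> rcases b with b | b <;> (fin_cases a; fin_cases b; simp [mone_apply]))
  map_mul' X Y := Subtype.ext (by
    show fromBlocks (mone ((X.1 * Y.1) 0 0)) (mone ((X.1 * Y.1) 0 1)) (mone ((X.1 * Y.1) 1 0))
      (mone ((X.1 * Y.1) 1 1)) = fromBlocks _ _ _ _ * fromBlocks _ _ _ _
    rw [fromBlocks_multiply]
    refine Matrix.ext fun a b => ?_
    rcases a with a | a <;> rcases b with b | b <;>
      (fin_cases a; fin_cases b; simp [Matrix.SpecialLinearGroup.coe_mul, Matrix.mul_apply, Fin.sum_univ_two, mone_apply]))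

theorem longEmb_apply (a : Fin 1) : longEmb n a = Fin.last (n + 1) := rfl

theorem spLv_spec (i : Fin (n + 2)) (x : Fin (n + 2) ⊕ Fin (n + 2)) :
    (spH n x ≤ i.val → spLv n i x = spH n x) ∧
    (i.val < spH n x ∧ (n + 1 ≤ i.val ∨ spH n x ≤ 2 * n + 2 - i.val) → spLv n i x + 1 = spH n x) ∧
    (i.val < n + 1 ∧ 2 * n + 2 - i.val < spH n x → spLv n i x + 2 = spH n x) := by
  unfold spLv
  have := i.2
  refine ⟨fun h => ?_, fun h => ?_, fun h => ?_⟩ <;> split_ifs <;> omega

/-- The homomorphism of a simple root. -/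
noncomputable def spPhi (i : Fin (n + 2)) : SL(2, F) →* Matrix.symplecticGroup (Fin (n + 2)) F :=
  if h : i.val < n + 1 then
    lev.comp (ext2 i ⟨i.val + 1, by omega⟩ (Fin.ne_of_val_ne (by simp)))
  else (extSp (longEmb n)).comp (slSp F)

variable {F}

theorem tau_two (X : SL(2, F)) : (tinv X).1 = !![X.1 1 1, -X.1 1 0; -X.1 0 1, X.1 0 0] := by
  show (adjugate X.1)ᵀ = _
  rw [Matrix.adjugate_fin_two]
  ext a b
  fin_cases a <;> fin_cases b <;> simp

theorem incM_entry {α I : Type} [Fintype α] [DecidableEq α] [Fintype I] [DecidableEq I] (f : α ↪ I)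
    (B : Matrix α α F) (p q : I) :
    (incM F f * B * (incM F f)ᵀ) p q = ∑ a, ∑ b, (if p = f a then 1 else 0) * B a b * (if q = f b then 1 else 0) := by
  simp only [Matrix.mul_apply, incM, Matrix.transpose_apply, Matrix.of_apply, Finset.sum_mul]
  exact Finset.sum_comm

/-- The entries of a simple root copy of `SL₂`. -/
theorem spPhi_val (i : Fin (n + 2)) (X : SL(2, F)) (p q : Fin (n + 2) ⊕ Fin (n + 2)) :
    (spPhi n F i X).1 p q =
      match p, q with
      | .inl p, .inl q =>
          if q.val = i.val then (if p.val = i.val then X.1 0 0 else if p.val = i.val + 1 then X.1 1 0 else 0)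
          else if q.val = i.val + 1 then (if p.val = i.val then X.1 0 1 else if p.val = i.val + 1 then X.1 1 1 else 0)
          else if p = q then 1 else 0
      | .inr p, .inr q =>
          if q.val = i.val then (if p.val = i.val then X.1 1 1 else if p.val = i.val + 1 then -X.1 0 1 else 0)
          else if q.val = i.val + 1 then (if p.val = i.val then -X.1 1 0 else if p.val = i.val + 1 then X.1 0 0 else 0)
          else if p = q then 1 else 0
      | .inl p, .inr q => if i.val = n + 1 ∧ p.val = n + 1 ∧ q.val = n + 1 then X.1 0 1 else 0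
      | .inr p, .inl q => if i.val = n + 1 ∧ p.val = n + 1 ∧ q.val = n + 1 then X.1 1 0 else 0 := by
  unfold spPhi
  have hi := i.2
  split_ifs with h
  · rw [MonoidHom.comp_apply, lev_val]
    rcases p with p | p <;> rcases q with q | q
    · rw [fromBlocks_apply₁₁, ext2_apply]; simp only [Fin.ext_iff]
    · simp only [fromBlocks_apply₁₂]; rw [if_neg (by omega)]; rfl
    · simp only [fromBlocks_apply₂₁]; rw [if_neg (by omega)]; rfl
    · rw [fromBlocks_apply₂₂, show tinv (ext2 i ⟨i.val + 1, _⟩ _ X) = ext2 i ⟨i.val + 1, _⟩ _ (tinv X) from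
        tinv_extSL _ X, ext2_apply, tau_two]
      simp [Fin.ext_iff]
  · rw [MonoidHom.comp_apply, extSp_val, extS, inc2, fromBlocks_transpose, ← fromBlocks_one,
      show (slSp F X).1 = fromBlocks (mone (X.1 0 0)) (mone (X.1 0 1)) (mone (X.1 1 0)) (mone (X.1 1 1)) from rfl,
      ← fromBlocks_one, sub_eq_add_neg, fromBlocks_neg, fromBlocks_add, fromBlocks_multiply, fromBlocks_multiply,
      fromBlocks_add]
    have hp := fun x : Fin (n + 2) => x.2
    rcases p with p | p <;> rcases q with q | q <;>
      simp only [fromBlocks_apply₁₁, fromBlocks_apply₁₂, fromBlocks_apply₂₁, fromBlocks_apply₂₂] <;>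
      simp only [Matrix.add_apply, Matrix.mul_zero, Matrix.zero_mul, add_zero, zero_add, Matrix.transpose_zero,
        incM_entry, Finset.univ_unique, Finset.sum_singleton, Matrix.zero_apply, longEmb_apply,
        Matrix.sub_apply, Matrix.neg_apply, mone_apply, Fin.ext_iff, Fin.val_last, Matrix.one_apply] <;>
      have := hp p <;> have := hp q <;>
      split_ifs <;> first | omega | contradiction | simp | (exfalso; omega)

/-- The Cartan matrix of type `C`. -/
def cartC (k i : Fin (n + 2)) : ℤ :=
  if k.val = i.val then 2 else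
    if k.val + 1 = i.val ∨ i.val + 1 = k.val then (if i.val = n + 1 ∧ k.val = n then -2 else -1) else 0

/-- The form relation between a column on each side. -/
theorem sp_cols (g : Matrix.symplecticGroup (Fin (n + 2)) F) (i j : Fin (n + 2)) :
    ∑ x, (g.1 (.inl x) (.inl i) * g.1 (.inr x) (.inr j) - g.1 (.inr x) (.inl i) * g.1 (.inl x) (.inr j)) =
      if i = j then 1 else 0 := by
  have h := sympForm_map g (Pi.single (Sum.inl i) 1) (Pi.single (Sum.inr j) 1)
  rw [sympForm_eq_sum, sympForm_single_inr] at h
  simp only [Matrix.mulVec_single_one, Matrix.col_apply, Pi.single_apply, Sum.inl.injEq, mul_one] at h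
  rw [← neg_inj, ← Finset.sum_neg_distrib]
  convert h using 1
  · exact Finset.sum_congr rfl fun x _ => by ring
  · simp [eq_comm]

theorem sp_short_upper {g : Matrix.symplecticGroup (Fin (n + 2)) F} (hg : g ∈ tri (spRho n F) (spH n))
    {i j : Fin (n + 2)} (hij : i.val + 1 = j.val) :
    g.1 (.inr j) (.inr i) = - g.1 (.inl i) (.inl j) := by
  have hne : i ≠ j := Fin.ne_of_val_ne (by omega)
  have h := sp_cols n g j i
  rw [if_neg hne.symm, Finset.sum_eq_add i j hne] at h
  · have h1 : g.1 (.inr i) (.inr i) = 1 := (hg _ _ (lt_irrefl _)).trans (if_pos rfl)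
    have h2 : g.1 (.inl j) (.inl j) = 1 := (hg _ _ (lt_irrefl _)).trans (if_pos rfl)
    have h3 : ∀ x : Fin (n + 2), g.1 (.inr x) (.inl j) = 0 := fun x => by
      refine (hg _ _ ?_).trans (if_neg (by simp))
      show ¬ (2 * n + 3 - x.val < j.val)
      have := x.2
      have := j.2
      omega
    rw [h1, h2, h3, h3] at h
    linear_combination h
  · intro x _ hx
    have h3 : g.1 (.inr x) (.inl j) = 0 := by
      refine (hg _ _ ?_).trans (if_neg (by simp))
      show ¬ (2 * n + 3 - x.val < j.val)
      have := x.2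
      have := j.2
      omega
    rw [h3, zero_mul, sub_zero]
    have := Fin.val_ne_of_ne hx.1
    have := Fin.val_ne_of_ne hx.2
    by_cases hlt : x.val < j.val
    · rw [show g.1 (.inr x) (.inr i) = 0 from (hg _ _ ?_).trans (if_neg (by simp [hx.1])), mul_zero]
      show ¬ (2 * n + 3 - x.val < 2 * n + 3 - i.val)
      have := x.2
      omega
    · rw [show g.1 (.inl x) (.inl j) = 0 from (hg _ _ ?_).trans (if_neg (by simp [hx.2])), zero_mul]
      show ¬ (x.val < j.val)
      exact hlt
  · simp
  · simp

theorem sp_short_lower {g : Matrix.symplecticGroup (Fin (n + 2)) F}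
    (hg : g ∈ tri (spRho n F) (OrderDual.toDual ∘ spH n))
    {i j : Fin (n + 2)} (hij : i.val + 1 = j.val) :
    g.1 (.inr i) (.inr j) = - g.1 (.inl j) (.inl i) := by
  have hne : i ≠ j := Fin.ne_of_val_ne (by omega)
  have h := sp_cols n g i j
  rw [if_neg hne, Finset.sum_eq_add i j hne] at h
  · have h1 : g.1 (.inr j) (.inr j) = 1 := (hg _ _ (lt_irrefl _)).trans (if_pos rfl)
    have h2 : g.1 (.inl i) (.inl i) = 1 := (hg _ _ (lt_irrefl _)).trans (if_pos rfl)
    have h3 : ∀ x : Fin (n + 2), g.1 (.inl x) (.inr j) = 0 := fun x => by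
      refine (hg _ _ ?_).trans (if_neg (by simp))
      show ¬ (2 * n + 3 - j.val < x.val)
      have := x.2
      have := j.2
      omega
    rw [h1, h2, h3, h3] at h
    linear_combination h
  · intro x _ hx
    have h3 : g.1 (.inl x) (.inr j) = 0 := by
      refine (hg _ _ ?_).trans (if_neg (by simp))
      show ¬ (2 * n + 3 - j.val < x.val)
      have := x.2
      have := j.2
      omega
    rw [h3, mul_zero, sub_zero]
    have := Fin.val_ne_of_ne hx.1
    have := Fin.val_ne_of_ne hx.2
    by_cases hlt : x.val < i.val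
    · rw [show g.1 (.inl x) (.inl i) = 0 from (hg _ _ ?_).trans (if_neg (by simp [hx.1])), zero_mul]
      show ¬ (i.val < x.val)
      omega
    · rw [show g.1 (.inr x) (.inr j) = 0 from (hg _ _ ?_).trans (if_neg (by simp [hx.2])), mul_zero]
      show ¬ (2 * n + 3 - j.val < 2 * n + 3 - x.val)
      have := x.2
      omega
  · simp
  · simp

theorem tv_last_up (a : F) :
    sympTv (Pi.single (Sum.inl (Fin.last (n + 1))) 1) a = spPhi n F (Fin.last (n + 1)) (upSL a) := by
  refine Subtype.ext (Matrix.ext fun p q => ?_)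
  rw [spPhi_val]
  show sympTransvection (n + 2) _ a p q = _
  rw [show sympTransvection (n + 2) (Pi.single (Sum.inl (Fin.last (n + 1))) (1 : F)) a p q =
      (sympTransvection (n + 2) (Pi.single (Sum.inl (Fin.last (n + 1))) (1 : F)) a *ᵥ Pi.single q 1) p by
    rw [Matrix.mulVec_single_one]; rfl, sympTransvection_mulVec, sympForm_single_inl]
  have hp := fun x : Fin (n + 2) => x.2
  rcases p with p | p <;> rcases q with q | q <;>
    simp only [Pi.add_apply, Pi.smul_apply, Pi.single_apply, Sum.inl.injEq, Sum.inr.injEq, reduceCtorEq,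
      Fin.ext_iff, Fin.val_last, upSL_val, smul_eq_mul, true_and] <;>
    have := hp p <;> have := hp q <;>
    split_ifs <;> first | omega | contradiction | simp

theorem tv_last_lo (a : F) :
    sympTv (Pi.single (Sum.inr (Fin.last (n + 1))) 1) a = spPhi n F (Fin.last (n + 1)) (loSL (-a)) := by
  refine Subtype.ext (Matrix.ext fun p q => ?_)
  rw [spPhi_val]
  show sympTransvection (n + 2) _ a p q = _
  rw [show sympTransvection (n + 2) (Pi.single (Sum.inr (Fin.last (n + 1))) (1 : F)) a p q =
      (sympTransvection (n + 2) (Pi.single (Sum.inr (Fin.last (n + 1))) (1 : F)) a *ᵥ Pi.single q 1) p by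
    rw [Matrix.mulVec_single_one]; rfl, sympTransvection_mulVec, sympForm_single_inr]
  have hp := fun x : Fin (n + 2) => x.2
  rcases p with p | p <;> rcases q with q | q <;>
    simp only [Pi.add_apply, Pi.smul_apply, Pi.single_apply, Sum.inl.injEq, Sum.inr.injEq, reduceCtorEq,
      Fin.ext_iff, Fin.val_last, loSL_val, smul_eq_mul, true_and] <;>
    have := hp p <;> have := hp q <;>
    split_ifs <;> first | omega | contradiction | simp

theorem lev_mulVec (A : SpecialLinearGroup (Fin (n + 2)) F) (v : Fin (n + 2) ⊕ Fin (n + 2) → F) :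
    (lev A).1 *ᵥ v = Sum.elim (A.1 *ᵥ (v ∘ Sum.inl)) ((tinv A).1 *ᵥ (v ∘ Sum.inr)) := by
  rw [lev_val, fromBlocks_mulVec]
  simp

theorem single_comp_inl (i : Fin (n + 2)) :
    (Pi.single (Sum.inl i) (1 : F) : Fin (n + 2) ⊕ Fin (n + 2) → F) ∘ Sum.inl = Pi.single i 1 ∧
    (Pi.single (Sum.inl i) (1 : F) : Fin (n + 2) ⊕ Fin (n + 2) → F) ∘ Sum.inr = 0 ∧
    (Pi.single (Sum.inr i) (1 : F) : Fin (n + 2) ⊕ Fin (n + 2) → F) ∘ Sum.inr = Pi.single i 1 ∧
    (Pi.single (Sum.inr i) (1 : F) : Fin (n + 2) ⊕ Fin (n + 2) → F) ∘ Sum.inl = 0 := by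
  refine ⟨?_, ?_, ?_, ?_⟩ <;> funext x <;> simp [Pi.single_apply]

/-- The simple root elements generate. -/
theorem sp_gen (S : Subgroup (Matrix.symplecticGroup (Fin (n + 2)) F))
    (hx : ∀ i a, spPhi n F i (upSL a) ∈ S) (hy : ∀ i a, spPhi n F i (loSL a) ∈ S) : S = ⊤ := by
  have hlev : ∀ A, lev A ∈ S := by
    intro A
    have htop : S.comap (lev : SpecialLinearGroup (Fin (n + 2)) F →* _) = ⊤ := adj_top (n := n + 1)
      (fun l t => by
        have h := hx l.castSucc t
        rw [spPhi, dif_pos (show l.castSucc.val < n + 1 from l.2), MonoidHom.comp_apply, ext2_up] at h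
        exact h)
      (fun l t => by
        have h := hy l.castSucc t
        rw [spPhi, dif_pos (show l.castSucc.val < n + 1 from l.2), MonoidHom.comp_apply, ext2_lo] at h
        exact h)
    exact (htop ▸ Subgroup.mem_top A : A ∈ S.comap _)
  have hconj : ∀ A ∈ S, ∀ v c, sympTv v c ∈ S →
      sympTv ((A : Matrix.symplecticGroup (Fin (n + 2)) F).1 *ᵥ v) c ∈ S := fun A hA v c hv => by
    rw [← sympTv_conj]; exact mul_mem (mul_mem hA hv) (inv_mem hA)
  have hL : ∀ (x : Fin (n + 2) → F) c, sympTv (Sum.elim x 0) c ∈ S := by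
    intro x c
    by_cases hx0 : x = 0
    · rw [hx0, Sum.elim_zero_zero, show sympTv (0 : Fin (n + 2) ⊕ Fin (n + 2) → F) c = 1 from Subtype.ext (by
        refine Matrix.ext_iff_mulVec.2 fun v => ?_
        show sympTransvection (n + 2) 0 c *ᵥ v = _
        rw [sympTransvection_mulVec]; simp)]
      exact one_mem _
    obtain ⟨M, hM⟩ := exists_col (Fin.last (n + 1)) hx0
    have h := hconj _ (hlev M) _ c (tv_last_up n c ▸ hx _ c)
    rwa [lev_mulVec, (single_comp_inl n _).1, (single_comp_inl n _).2.1, hM, Matrix.mulVec_zero] at h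
  have hR : ∀ (y : Fin (n + 2) → F) c, sympTv (Sum.elim 0 y) c ∈ S := by
    intro y c
    by_cases hy0 : y = 0
    · rw [hy0]; exact hL 0 c
    obtain ⟨M, hM⟩ := exists_col (Fin.last (n + 1)) hy0
    have h := hconj _ (hlev (tinv M)) _ c (tv_last_lo n c ▸ hy _ (-c))
    rwa [lev_mulVec, tinv_tinv, (single_comp_inl n _).2.2.1, (single_comp_inl n _).2.2.2, hM,
      Matrix.mulVec_zero] at h
  have hall : ∀ v c, sympTv v c ∈ S := by
    intro v c
    obtain ⟨x, y, rfl⟩ : ∃ x y, v = Sum.elim x y := ⟨_, _, (Sum.elim_comp_inl_inr v).symm⟩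
    by_cases hx0 : x = 0
    · rw [hx0]; exact hR y c
    obtain ⟨i, hi⟩ := Function.ne_iff.1 hx0
    let s : (Fin (n + 2) → F) → F := fun u => sympForm (n + 2) F (Sum.elim x 0) (Sum.elim 0 u)
    have hs : ∀ u z, sympForm (n + 2) F (Sum.elim x z) (Sum.elim 0 u) = s u := fun u z => by
      simp [s, sympForm_eq_sum]
    have hstep : ∀ u z a, sympTv (Sum.elim x z) c ∈ S →
        sympTv (Sum.elim x (z + (a * s u) • u)) c ∈ S := fun u z a h => by
      have h' := hconj _ (hR u a) _ c h
      rw [show (sympTv (Sum.elim 0 u) a).1 = sympTransvection (n + 2) (Sum.elim 0 u) a from rfl,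
        sympTransvection_mulVec, hs] at h'
      convert h' using 2
      funext w
      rcases w with w | w <;> simp
    by_cases hsy : s y = 0
    · obtain ⟨u₀, hu₀⟩ : ∃ u₀, s u₀ = 1 := ⟨Pi.single i (-(x i)⁻¹), by
        simp only [s, sympForm_eq_sum]
        rw [Finset.sum_eq_single i]
        · simp only [Sum.elim_inl, Sum.elim_inr, Pi.zero_apply, Pi.single_eq_same, zero_mul, zero_sub, mul_neg,
            neg_neg]
          exact mul_inv_cancel₀ (by simpa using hi)
        · intro j _ hj; simp [hj]
        · simp⟩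
      have hadd : s (y + u₀) = 1 := by
        have : s (y + u₀) = s y + s u₀ := by
          simp only [s, sympForm_eq_sum, ← Finset.sum_add_distrib]
          exact Finset.sum_congr rfl fun j _ => by simp; ring
        rw [this, hsy, hu₀, zero_add]
      have h1 := hstep (y + u₀) 0 1 (hL x c)
      rw [hadd, one_mul, one_smul, zero_add] at h1
      have h2 := hstep u₀ _ (-1) h1
      rw [hu₀, mul_one] at h2
      convert h2 using 3
      simp
    · have h1 := hstep y 0 (s y)⁻¹ (hL x c)
      rwa [inv_mul_cancel₀ hsy, one_smul, zero_add] at h1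
  rw [eq_top_iff, ← closure_sympTvSet, Subgroup.closure_le]
  rintro A ⟨v, c, e⟩
  rw [show A = sympTv v c from Subtype.ext e]
  exact hall v c

theorem sp_cyc_inl (W : Submodule F (Fin (n + 2) ⊕ Fin (n + 2) → F))
    (hW : ∀ z : Matrix.symplecticGroup (Fin (n + 2)) F, ∀ v ∈ W, z.1 *ᵥ v ∈ W)
    (h0 : ∃ o, Pi.single o 1 ∈ W) : W = ⊤ := by
  have hl : ∀ i j, Pi.single (Sum.inl i) 1 ∈ W → Pi.single (Sum.inl j) 1 ∈ W := by
    intro i j h
    obtain ⟨M, hM⟩ := exists_col i (v := (Pi.single j 1 : Fin (n + 2) → F)) (by simp)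
    have h' := hW (lev M) _ h
    rw [lev_mulVec, (single_comp_inl n _).1, (single_comp_inl n _).2.1, hM, Matrix.mulVec_zero] at h'
    convert h' using 1
    funext w; rcases w with w | w <;> simp [Pi.single_apply]
  have hr : ∀ i j, Pi.single (Sum.inr i) 1 ∈ W → Pi.single (Sum.inr j) 1 ∈ W := by
    intro i j h
    obtain ⟨M, hM⟩ := exists_col i (v := (Pi.single j 1 : Fin (n + 2) → F)) (by simp)
    have h' := hW (lev (tinv M)) _ h
    rw [lev_mulVec, tinv_tinv, (single_comp_inl n _).2.2.1, (single_comp_inl n _).2.2.2, hM,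
      Matrix.mulVec_zero] at h'
    convert h' using 1
    funext w; rcases w with w | w <;> simp [Pi.single_apply]
  set z := Fin.last (n + 1)
  have hlr : Pi.single (Sum.inl z) 1 ∈ W → Pi.single (Sum.inr z) 1 ∈ W := fun h => by
    have h' := W.sub_mem (hW (sympTv (Pi.single (Sum.inr z) 1) (-1)) _ h) h
    rw [show (sympTv (Pi.single (Sum.inr z) (1 : F)) (-1 : F)).1 = sympTransvection (n + 2) _ (-1) from rfl,
      sympTransvection_mulVec, add_sub_cancel_left, sympForm_single_inr] at h'
    simpa using h'
  have hrl : Pi.single (Sum.inr z) 1 ∈ W → Pi.single (Sum.inl z) 1 ∈ W := fun h => by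
    have h' := W.sub_mem (hW (sympTv (Pi.single (Sum.inl z) 1) 1) _ h) h
    rw [show (sympTv (Pi.single (Sum.inl z) (1 : F)) (1 : F)).1 = sympTransvection (n + 2) _ 1 from rfl,
      sympTransvection_mulVec, add_sub_cancel_left, sympForm_single_inl] at h'
    simpa using h'
  obtain ⟨o, ho⟩ := h0
  have hz : Pi.single (Sum.inl z) 1 ∈ W := by
    rcases o with o | o
    · exact hl o z ho
    · exact hrl (hr o z ho)
  refine eq_top_iff.2 fun v _ => ?_
  rw [pi_eq_sum_univ' v]
  refine Submodule.sum_mem _ fun p _ => Submodule.smul_mem _ _ ?_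
  rcases p with p | p
  · exact hl z p hz
  · exact hr z p (hlr hz)

variable (F)

/-- The root datum. -/
noncomputable def spData : MatData (spRho n F) (Fin (n + 2)) where
  inj _ _ h := Subtype.ext h
  h := spH n
  lv := spLv n
  φ := spPhi n F
  dd i s := Sum.elim (fun p => if p.val = i.val then s else if p.val = i.val + 1 then s⁻¹ else 1)
    fun p => if p.val = i.val then s⁻¹ else if p.val = i.val + 1 then s else 1
  A := cartC n
  top := Sum.inl 0
  bot := Sum.inr 0
  d_val i s := by
    ext p q
    show (spPhi n F i (dSL (s : F) s.ne_zero)).1 p q = _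
    rw [spPhi_val, Matrix.diagonal_apply]
    rcases p with p | p <;> rcases q with q | q <;>
      simp only [dSL_val, Sum.elim_inl, Sum.elim_inr, Sum.inl.injEq, Sum.inr.injEq, reduceCtorEq, Fin.ext_iff] <;>
      split_ifs <;> first | omega | contradiction | simp | (exfalso; omega)
  weight k i s a p q := by
    show _ * (spPhi n F i (upSL a)).1 p q = (spPhi n F i (upSL _)).1 p q * _ ∧
      _ * (spPhi n F i (loSL a)).1 p q = (spPhi n F i (loSL _)).1 p q * _
    have := k.2
    have := i.2
    have hp := fun x : Fin (n + 2) => x.2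
    rcases p with p | p <;> rcases q with q | q <;>
      simp only [spPhi_val, upSL_val, loSL_val, cartC, Sum.elim_inl, Sum.elim_inr, Fin.ext_iff] <;>
      have := hp p <;> have := hp q <;>
      constructor <;> split_ifs <;> first
        | omega
        | (simp [zpow_two]; field_simp)
        | simp
  compat i p q h := by
    have s1 := spLv_spec n i p
    have s2 := spLv_spec n i q
    have := i.2
    omega
  lv_U i := tri_mono fun p q h => by
    have s1 := spLv_spec n i p
    have s2 := spLv_spec n i q
    have := i.2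
    omega
  lv_V i := tri_mono fun p q h => by
    change spLv n i q < spLv n i p at h
    show spH n q < spH n p
    have s1 := spLv_spec n i p
    have s2 := spLv_spec n i q
    have := i.2
    omega
  x_tri i a p q h := by
    show (spPhi n F i (upSL a)).1 p q = _
    have hp := fun x : Fin (n + 2) => x.2
    rcases p with p | p <;> rcases q with q | q <;>
      simp only [spPhi_val, upSL_val, spH, Sum.elim_inl, Sum.elim_inr, Sum.inl.injEq, Sum.inr.injEq,
        reduceCtorEq, Fin.ext_iff] at h ⊢ <;>
      have := hp p <;> have := hp q <;> have := i.2 <;> split_ifs <;> first | omega | contradiction | simp | (exfalso; omega)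
  y_tri i a p q h := by
    show (spPhi n F i (loSL a)).1 p q = _
    replace h : ¬ spH n q < spH n p := h
    have hp := fun x : Fin (n + 2) => x.2
    rcases p with p | p <;> rcases q with q | q <;>
      simp only [spPhi_val, loSL_val, spH, Sum.elim_inl, Sum.elim_inr, Sum.inl.injEq, Sum.inr.injEq,
        reduceCtorEq, Fin.ext_iff] at h ⊢ <;>
      have := hp p <;> have := hp q <;> have := i.2 <;> split_ifs <;> first | omega | contradiction | simp | (exfalso; omega)
  x_bd i a p q h := by
    show (spPhi n F i (upSL a)).1 p q = _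
    have hp := fun x : Fin (n + 2) => x.2
    have s1 := spLv_spec n i p
    have s2 := spLv_spec n i q
    rcases p with p | p <;> rcases q with q | q <;>
      simp only [spPhi_val, upSL_val, spH, Sum.elim_inl, Sum.elim_inr, Fin.ext_iff] at h s1 s2 ⊢ <;>
      have := hp p <;> have := hp q <;> have := i.2 <;> split_ifs <;> first | omega | contradiction | simp | (exfalso; omega)
  y_bd i a p q h := by
    show (spPhi n F i (loSL a)).1 p q = _
    have hp := fun x : Fin (n + 2) => x.2
    have s1 := spLv_spec n i p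
    have s2 := spLv_spec n i q
    rcases p with p | p <;> rcases q with q | q <;>
      simp only [spPhi_val, loSL_val, spH, Sum.elim_inl, Sum.elim_inr, Fin.ext_iff] at h s1 s2 ⊢ <;>
      have := hp p <;> have := hp q <;> have := i.2 <;> split_ifs <;> first | omega | contradiction | simp | (exfalso; omega)
  U_entry i g hg := by
    have hi := i.2
    refine ⟨if h : i.val < n + 1 then g.1 (.inl i) (.inl ⟨i.val + 1, by omega⟩) else g.1 (.inl i) (.inr i),
      fun p q h => ?_⟩
    show (spPhi n F i (upSL _)).1 p q = g.1 p q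
    have s1 := spLv_spec n i p
    have s2 := spLv_spec n i q
    by_cases hpq : spH n p < spH n q
    · rcases p with p | p <;> rcases q with q | q <;>
        simp only [spH, Sum.elim_inl, Sum.elim_inr] at s1 s2 hpq <;>
        have := p.2 <;> have := q.2
      · obtain ⟨e1, e2⟩ : p.val = i.val ∧ q.val = i.val + 1 := by omega
        obtain rfl : p = i := Fin.ext e1
        have e3 : q = ⟨p.val + 1, by omega⟩ := Fin.ext e2
        rw [e3]
        rw [dif_pos (by omega), spPhi_val]
        simp [upSL_val]
      · obtain ⟨e1, e2, e3⟩ : i.val = n + 1 ∧ p.val = n + 1 ∧ q.val = n + 1 := by omega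
        obtain rfl : p = i := Fin.ext (by omega)
        obtain rfl : q = p := Fin.ext (by omega)
        rw [dif_neg (by omega), spPhi_val]
        simp [upSL_val, e1]
      · omega
      · obtain ⟨e0, e1, e2⟩ : i.val < n + 1 ∧ q.val = i.val ∧ p.val = i.val + 1 := by omega
        obtain rfl : q = i := Fin.ext e1
        have e3 : p = ⟨q.val + 1, by omega⟩ := Fin.ext e2
        rw [e3]
        rw [dif_pos e0, spPhi_val, sp_short_upper n hg rfl]
        simp [upSL_val]
    · rw [show g.1 p q = if p = q then 1 else 0 from hg p q hpq]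
      rcases p with p | p <;> rcases q with q | q <;>
        simp only [spPhi_val, upSL_val, spH, Sum.elim_inl, Sum.elim_inr, Sum.inl.injEq, Sum.inr.injEq,
          reduceCtorEq, Fin.ext_iff] at s1 s2 hpq ⊢ <;>
        have := p.2 <;> have := q.2 <;> split_ifs <;> first | omega | contradiction | simp | (exfalso; omega)
  V_entry i g hg := by
    have hi := i.2
    refine ⟨if h : i.val < n + 1 then g.1 (.inl ⟨i.val + 1, by omega⟩) (.inl i) else g.1 (.inr i) (.inl i),
      fun p q h => ?_⟩
    show (spPhi n F i (loSL _)).1 p q = g.1 p q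
    have s1 := spLv_spec n i p
    have s2 := spLv_spec n i q
    by_cases hpq : spH n q < spH n p
    · rcases p with p | p <;> rcases q with q | q <;>
        simp only [spH, Sum.elim_inl, Sum.elim_inr] at s1 s2 hpq <;>
        have := p.2 <;> have := q.2
      · obtain ⟨e1, e2⟩ : q.val = i.val ∧ p.val = i.val + 1 := by omega
        obtain rfl : q = i := Fin.ext e1
        have e3 : p = ⟨q.val + 1, by omega⟩ := Fin.ext e2
        rw [e3]
        rw [dif_pos (by omega), spPhi_val]
        simp [loSL_val]
      · omega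
      · obtain ⟨e1, e2, e3⟩ : i.val = n + 1 ∧ p.val = n + 1 ∧ q.val = n + 1 := by omega
        obtain rfl : q = i := Fin.ext (by omega)
        obtain rfl : p = q := Fin.ext (by omega)
        rw [dif_neg (by omega), spPhi_val]
        simp [loSL_val, e1]
      · obtain ⟨e0, e1, e2⟩ : i.val < n + 1 ∧ p.val = i.val ∧ q.val = i.val + 1 := by omega
        obtain rfl : p = i := Fin.ext e1
        have e3 : q = ⟨p.val + 1, by omega⟩ := Fin.ext e2
        rw [e3]
        rw [dif_pos e0, spPhi_val, sp_short_lower n hg rfl]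
        simp [loSL_val]
    · rw [show g.1 p q = if p = q then 1 else 0 from hg p q hpq]
      rcases p with p | p <;> rcases q with q | q <;>
        simp only [spPhi_val, loSL_val, spH, Sum.elim_inl, Sum.elim_inr, Sum.inl.injEq, Sum.inr.injEq,
          reduceCtorEq, Fin.ext_iff] at s1 s2 hpq ⊢ <;>
        have := p.2 <;> have := q.2 <;> split_ifs <;> first | omega | contradiction | simp | (exfalso; omega)
  top_lt p hp := by
    rcases p with p | p <;> have := p.2
    · have : p.val ≠ 0 := fun e => hp (congrArg Sum.inl (Fin.ext e))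
      show 0 < p.val
      omega
    · show 0 < 2 * n + 3 - p.val
      omega
  bot_gt p hp := by
    rcases p with p | p <;> have := p.2
    · show p.val < 2 * n + 3 - 0
      omega
    · have : p.val ≠ 0 := fun e => hp (congrArg Sum.inr (Fin.ext e))
      show 2 * n + 3 - p.val < 2 * n + 3 - 0
      omega
  cyc_top W hW h0 := sp_cyc_inl n W hW ⟨_, h0⟩
  cyc_bot W hW h0 := sp_cyc_inl n W hW ⟨_, h0⟩
  gen := sp_gen n

end Cfsg.Agent.Classical.MatRootData
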