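import Cfsg.Agent.Lib.Classical.MatRootData
import Cfsg.Agent.Lib.Classical.ClassSquareLevi
import Cfsg.Agent.Lib.Classical.RegularBlocks

/-!
A matrix group with a split root datum is, modulo the centre, the square of the class of `t * j`,
with `j` regular unipotent in a block of type `A`.
-/

set_option autoImplicit false
set_option linter.unusedSectionVars false

namespace Cfsg.Agent.Classical.MatRootData

open Matrix Cfsg.Agent.Classical.RegularBlocks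
open scoped MatrixGroups

variable {I : Type} [Fintype I] [DecidableEq I] {F : Type*} [Field F] [Fintype F] {G : Type*} [Group G] [Finite G]
  {ρ : G →* Matrix I I F} {ι : Type} [Fintype ι] {k : ℕ}

/-- A regular unipotent element, no condition in degree at most one. -/
def Reg' (A : SpecialLinearGroup (Fin k) F) : Prop := 2 ≤ k → Reg A.val

theorem eq_one_of_le_one (hk : k ≤ 1) (A : SpecialLinearGroup (Fin k) F) : A = 1 := by
  haveI : Subsingleton (Fin k) := ⟨fun a b => Fin.ext (by have := a.2; have := b.2; omega)⟩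
  refine Subtype.ext (Matrix.ext fun i j => ?_)
  obtain rfl := Subsingleton.elim i j
  have h := A.2
  rw [Matrix.det_eq_elem_of_subsingleton A.val i] at h
  rw [h]; simp

theorem exists_product' (hF : 4 ≤ Fintype.card F) {v u : SpecialLinearGroup (Fin k) F}
    (hv : v ∈ lowU F k) (hu : u ∈ upU F k) :
    ∃ A B : SpecialLinearGroup (Fin k) F, Reg' A ∧ Reg' B ∧ v * u = A * B := by
  rcases le_or_gt k 1 with hk | hk
  · exact ⟨v, u, fun h => absurd h (by omega), fun h => absurd h (by omega), rfl⟩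
  · obtain ⟨A, B, hA, hB, e⟩ := exists_product hF hk hv hu
    exact ⟨A, B, fun _ => hA, fun _ => hB, e⟩

theorem Reg'.inv {A : SpecialLinearGroup (Fin k) F} (hA : Reg' A) : Reg' A⁻¹ := fun h =>
  (hA h).inv (by rw [← val_mul', mul_inv_cancel, val_one'])

theorem Reg'.pow_eq_one {p N : ℕ} [Fact p.Prime] [CharP F p] {A : SpecialLinearGroup (Fin k) F}
    (hA : Reg' A) (hk : k ≤ p ^ N) : A ^ (p ^ N) = 1 := by
  rcases le_or_gt k 1 with h | h
  · rw [eq_one_of_le_one h A, one_pow]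
  · refine Subtype.ext ?_
    show A.val ^ (p ^ N) = 1
    exact (hA h).pow_eq_one hk

/-- A block of type `A` with a torus element centralising it. -/
structure LeviData (D : MatData ρ ι) (k : ℕ) where
  L : I → ℕ
  Λ : SpecialLinearGroup (Fin k) F →* G
  half : ι → Fˣ
  compatL : ∀ p q, L p < L q → ¬ D.h q < D.h p
  Λ_bd : ∀ X, Λ X ∈ bd ρ L
  Λ_comm : ∀ X, Commute (D.T half) (Λ X)
  fix : ∀ g, (g ∈ tri ρ L ∨ g ∈ tri ρ (OrderDual.toDual ∘ L)) → Commute (D.T half) g → g = 1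
  U_part : ∀ g ∈ tri ρ D.h, ∃ P ∈ upU F k, ∀ p q, L p = L q → ρ (Λ P) p q = ρ g p q
  V_part : ∀ g ∈ tri ρ (OrderDual.toDual ∘ D.h),
    ∃ P ∈ lowU F k, ∀ p q, L p = L q → ρ (Λ P) p q = ρ g p q
  fuse : ∀ A B, Reg' A → Reg' B → ∃ μ ∈ bd ρ L, Commute μ (D.T half) ∧ μ * Λ A * μ⁻¹ = Λ B
  rev : ∃ x : G, x * D.T half * x⁻¹ = (D.T half)⁻¹ ∧ ∀ A, Reg' A → ∃ B, Reg' B ∧ x * Λ A * x⁻¹ = Λ B

/-- The class-square covering modulo the centre. -/
theorem square_of_levi (D : MatData ρ ι) (P : LeviData D k) (hq : 7 ≤ Fintype.card F)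
    (hA : ∀ i, D.A i i = 2)
    (hrow : ∀ i, ∑ j ∈ (@Finset.erase ι (Classical.decEq ι) Finset.univ i), (D.A i j).natAbs ≤ 3)
    (hconn : ∀ S : Finset ι, S.Nonempty → S ≠ Finset.univ → ∃ q ∈ S, ∃ p ∉ S, D.A q p ≠ 0) :
    ∃ d : G ⧸ Subgroup.center G, ∀ x : G ⧸ Subgroup.center G, ∃ a b : G ⧸ Subgroup.center G,
      x = (a * d * a⁻¹) * (b * d * b⁻¹) := by
  classical
  obtain ⟨p, hp⟩ := CharP.exists F
  haveI : Fact p.Prime := ⟨CharP.char_is_prime F p⟩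
  obtain ⟨R, -, hR, -, -⟩ := exists_product' (F := F) (k := k) (by omega) (one_mem _) (one_mem _)
  set t₀ := D.T P.half
  set cc := t₀ * P.Λ R
  set M := bd ρ P.L ⊓ Subgroup.centralizer {t₀}
  have hcomm : ∀ X, Commute t₀ (P.Λ X) := P.Λ_comm
  have hccM : cc ∈ M := Subgroup.mem_inf.2 ⟨mul_mem (D.T_bd _ _) (P.Λ_bd R),
    Subgroup.mem_centralizer_singleton_iff.2 (((Commute.refl t₀).mul_right (hcomm R)).symm.eq)⟩
  have hΛM : ∀ X, P.Λ X ∈ M := fun X => Subgroup.mem_inf.2 ⟨P.Λ_bd X,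
    Subgroup.mem_centralizer_singleton_iff.2 (hcomm X).symm.eq⟩
  have hreach : ∀ A, Reg' A → ∃ μ ∈ M, μ * cc * μ⁻¹ = t₀ * P.Λ A := by
    intro A hA'
    obtain ⟨μ, hμ, hμt, e⟩ := P.fuse R A hR hA'
    refine ⟨μ, Subgroup.mem_inf.2 ⟨hμ, Subgroup.mem_centralizer_singleton_iff.2 hμt.eq⟩, ?_⟩
    have hμt' : Commute μ t₀ := hμt
    rw [← e, show μ * (t₀ * P.Λ R) * μ⁻¹ = (μ * t₀) * P.Λ R * μ⁻¹ by group, hμt'.eq]
    group
  have hMU : ∀ μ ∈ M, ∀ x ∈ tri ρ P.L, μ * x * μ⁻¹ ∈ tri ρ P.L := fun μ hμ x hx =>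
    bd_conj hμ.1 hx
  have hMV : ∀ μ ∈ M, ∀ x ∈ tri ρ (OrderDual.toDual ∘ P.L), μ * x * μ⁻¹ ∈ tri ρ (OrderDual.toDual ∘ P.L) :=
    fun μ hμ x hx => bd_conj (L := OrderDual.toDual ∘ P.L) hμ.1 hx
  set N := p ^ k with hN
  set m := Fintype.card F - 1 with hm
  have hRN : R ^ N = 1 := hR.pow_eq_one (Nat.lt_pow_self (Fact.out : p.Prime).one_lt).le
  have hcop : Nat.Coprime N m := by
    rw [hN]
    refine ((Fact.out : p.Prime).coprime_iff_not_dvd.2 fun hdvd => ?_).pow_left _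
    obtain ⟨n, -, hn⟩ := FiniteField.card F p
    have h1 : p ∣ Fintype.card F := hn ▸ dvd_pow_self p n.pos.ne'
    have := Nat.dvd_sub h1 hdvd
    rw [hm, Nat.sub_sub_self (by omega)] at this
    exact (Fact.out : p.Prime).ne_one (Nat.dvd_one.1 this)
  have htm : t₀ ^ m = 1 := by
    rw [← map_pow, show P.half ^ m = 1 from funext fun i => ?_, map_one]
    rw [Pi.pow_apply, hm, ← Fintype.card_units]
    exact pow_card_eq_one
  have hfix : ∀ x, (x ∈ tri ρ P.L ∨ x ∈ tri ρ (OrderDual.toDual ∘ P.L)) → cc * x = x * cc → x = 1 := by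
    intro x hx hxc
    refine P.fix x hx ?_
    have hccN : cc ^ N = t₀ ^ N := by rw [(hcomm R).mul_pow, ← map_pow P.Λ, hRN, map_one, mul_one]
    have h1 : Commute (t₀ ^ N) x := by rw [← hccN]; exact (show Commute cc x from hxc).pow_left N
    have e : t₀ ^ (Nat.gcd N m) = (t₀ ^ N) ^ Nat.gcdA N m := by
      rw [← zpow_natCast, Nat.gcd_eq_gcd_ab N m, _root_.zpow_add, _root_.zpow_mul, _root_.zpow_mul, zpow_natCast,
        zpow_natCast, htm, _root_.one_zpow, mul_one]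
    rw [Nat.Coprime.gcd_eq_one hcop, pow_one] at e
    show Commute t₀ x
    rw [e]; exact h1.zpow_left _
  have hgoal : D.rootData.T (P.half * P.half) = t₀ * t₀ := map_mul D.T _ _
  have hmid : ∀ v ∈ D.rootData.V, ∀ u ∈ D.rootData.U, ∃ w₁ ∈ tri ρ (OrderDual.toDual ∘ P.L),
      ∃ w₂ ∈ tri ρ P.L, ∃ m₁ ∈ M, ∃ m₂ ∈ M,
      v * D.rootData.T (P.half * P.half) * u = w₁ * ((m₁ * cc * m₁⁻¹) * (m₂ * cc * m₂⁻¹)) * w₂ := by
    intro v hv u hu
    obtain ⟨vl, hvl, hve⟩ := P.V_part v hv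
    obtain ⟨ul, hul, hue⟩ := P.U_part u hu
    have hv' : (P.Λ vl)⁻¹ * v ∈ tri ρ (OrderDual.toDual ∘ P.L) :=
      bd_mul_split (L := OrderDual.toDual ∘ P.L) (h := OrderDual.toDual ∘ D.h)
        (fun p q h => P.compatL q p h) (P.Λ_bd vl) hv fun p q h => hve p q h
    have hu' : (P.Λ ul)⁻¹ * u ∈ tri ρ P.L := bd_mul_split P.compatL (P.Λ_bd ul) hu hue
    obtain ⟨A, B, hA', hB', hAB⟩ := exists_product' (F := F) (by omega) hvl hul
    obtain ⟨m₁, h₁, e₁⟩ := hreach A hA'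
    obtain ⟨m₂, h₂, e₂⟩ := hreach B hB'
    -- the radical part of `u` is moved to the right
    refine ⟨_, hMV _ (hΛM vl) _ hv', _, hu', m₁, h₁, m₂, h₂, ?_⟩
    rw [e₁, e₂, hgoal]
    have e3 : (t₀ * P.Λ A) * (t₀ * P.Λ B) = t₀ * t₀ * (P.Λ vl * P.Λ ul) := by
      rw [← map_mul P.Λ vl ul, hAB, map_mul]
      calc (t₀ * P.Λ A) * (t₀ * P.Λ B) = t₀ * (P.Λ A * t₀) * P.Λ B := by group
        _ = t₀ * (t₀ * P.Λ A) * P.Λ B := by rw [(hcomm A).eq]
        _ = _ := by group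
    have h4 : Commute (P.Λ vl) (t₀ * t₀) := (hcomm vl).symm.mul_right (hcomm vl).symm
    calc v * (t₀ * t₀) * u
        = (P.Λ vl * ((P.Λ vl)⁻¹ * v) * (P.Λ vl)⁻¹) * ((P.Λ vl * (t₀ * t₀)) * P.Λ ul) * ((P.Λ ul)⁻¹ * u) := by
          group
      _ = (P.Λ vl * ((P.Λ vl)⁻¹ * v) * (P.Λ vl)⁻¹) * (t₀ * t₀ * (P.Λ vl * P.Λ ul)) * ((P.Λ ul)⁻¹ * u) := by
          rw [h4.eq]; group
      _ = _ := by rw [← e3]
  obtain ⟨x, hxt, hxR⟩ := P.rev
  obtain ⟨B, hB, hxB⟩ := hxR R hR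
  obtain ⟨μ, hμ, e⟩ := hreach B⁻¹ hB.inv
  refine ClassSquareLevi.quotient_square (QuotientGroup.mk' _) (QuotientGroup.mk'_surjective _)
    (fun g hg => (QuotientGroup.eq_one_iff g).2 hg) (c := cc) ⟨QuotientGroup.mk' _ (μ⁻¹ * x), ?_⟩
    fun g hg => ClassSquareLevi.cover_of_rootData D.rootData hq hA hrow hconn M _ _ _ hccM hMV hMU
      (fun w hw => hfix w (Or.inr hw)) (fun w hw => hfix w (Or.inl hw)) hmid hg
  have key : x * cc * x⁻¹ = μ * cc⁻¹ * μ⁻¹ := by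
    rw [show μ * cc⁻¹ * μ⁻¹ = (μ * cc * μ⁻¹)⁻¹ by group, e, map_inv, _root_.mul_inv_rev, inv_inv,
      show x * (t₀ * P.Λ R) * x⁻¹ = (x * t₀ * x⁻¹) * (x * P.Λ R * x⁻¹) by group, hxt, hxB]
    exact ((hcomm B).inv_left).eq
  rw [← map_inv, ← map_inv, ← map_mul, ← map_mul]
  refine congrArg _ ?_
  rw [show μ⁻¹ * x * cc * (μ⁻¹ * x)⁻¹ = μ⁻¹ * (x * cc * x⁻¹) * μ by group, key]
  group

end Cfsg.Agent.Classical.MatRootData
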