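import Cfsg.Agent.Lib.Classical.MatLeviSquare
import Cfsg.Agent.Lib.Lie.CurtisTitsSkew

/-!
Tools for verifying Levi data: fixed points of diagonal elements, unitriangular blocks and the
fusion of regular unipotent elements by one diagonal twist.
-/

set_option autoImplicit false
set_option linter.unusedSectionVars false

namespace Cfsg.Agent.Classical.MatRootData

open Matrix Cfsg.Agent.Classical.RegularBlocks Cfsg.Agent.Lie.Chev Cfsg.Agent.Lie.CurtisTitsA
open scoped MatrixGroups

variable {I : Type} [Fintype I] [DecidableEq I] {F : Type*} [Field F] {G : Type*} [Group G] [Finite G]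
  {ρ : G →* Matrix I I F} {ι : Type} [Fintype ι] {k : ℕ}

/-- The entries of `SL₂` on two coordinates. -/
theorem ext2_apply {N : ℕ} {i j : Fin N} (h : i ≠ j) (X : SL(2, F)) (p q : Fin N) :
    (ext2 i j h X).1 p q =
      if q = i then (if p = i then X.1 0 0 else if p = j then X.1 1 0 else 0)
      else if q = j then (if p = i then X.1 0 1 else if p = j then X.1 1 1 else 0)
      else if p = q then 1 else 0 := by
  have e : (ext2 i j h X).1 p q = ((ext2 i j h X).1 *ᵥ Pi.single q 1) p := by
    rw [Matrix.mulVec_single_one]; rfl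
  rw [e]
  by_cases h1 : q = i
  · subst h1
    rw [if_pos rfl, ext2_fst]
    by_cases hp : p = q
    · subst hp; simp [h]
    · rw [if_neg hp]
      by_cases hp' : p = j
      · subst hp'; simp [hp]
      · simp [hp, hp']
  · rw [if_neg h1]
    by_cases h2 : q = j
    · subst h2
      rw [if_pos rfl, ext2_snd]
      by_cases hp : p = i
      · subst hp; simp [h]
      · rw [if_neg hp]
        by_cases hp' : p = q
        · subst hp'; simp [hp]
        · simp [hp, hp']
    · rw [if_neg h2, ext2_out h h1 h2]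
      simp [Pi.single_apply]

/-- The entries of a block extended by the identity. -/
theorem extM_entry {α : Type} [Fintype α] [DecidableEq α] (f : α ↪ I) (A : Matrix α α F) (p q : I) :
    (∀ a b, p = f a → q = f b → Cfsg.Agent.Lie.SpnPres.extM f A p q = A a b) ∧
    ((∀ a, p ≠ f a) ∨ (∀ b, q ≠ f b) → Cfsg.Agent.Lie.SpnPres.extM f A p q = if p = q then 1 else 0) := by
  have e : Cfsg.Agent.Lie.SpnPres.extM f A p q = (Cfsg.Agent.Lie.SpnPres.extM f A *ᵥ Pi.single q 1) p := by
    rw [Matrix.mulVec_single_one]; rfl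
  constructor
  · rintro a b rfl rfl
    rw [e, Cfsg.Agent.Lie.SpnPres.extM_mulVec, Matrix.mulVec_single_one]
    simp [Cfsg.Agent.Lie.SpnPres.incM, Matrix.mulVec, dotProduct, f.injective.eq_iff]
  · intro h
    by_cases hq : ∀ b, q ≠ f b
    · rw [e, Cfsg.Agent.Lie.SpnPres.extM_mulVec_out f A fun b => (hq b).symm]
      simp [Pi.single_apply]
    · obtain ⟨b, rfl⟩ := not_forall_not.1 hq
      have hp : ∀ a, p ≠ f a := h.resolve_right hq
      rw [e, Cfsg.Agent.Lie.SpnPres.extM_mulVec, if_neg (hp b)]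
      simp [Cfsg.Agent.Lie.SpnPres.incM, Matrix.mulVec, dotProduct, hp]

/-- An element commuting with a diagonal one has no entries between distinct diagonal values. -/
theorem entry_zero {g t : G} {d : I → Fˣ} (ht : ρ t = Matrix.diagonal fun p => (d p : F)) (hc : Commute t g)
    {p q : I} (h : d p ≠ d q) : ρ g p q = 0 := by
  have e := congrFun (congrFun (congrArg ρ hc.eq) p) q
  rw [map_mul, map_mul, ht, Matrix.diagonal_mul, Matrix.mul_diagonal] at e
  by_contra hne
  exact h (Units.ext (mul_right_cancel₀ hne (e.trans (mul_comm _ _))))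

theorem eq_one_of_cross (hρ : Function.Injective ρ) {L : I → ℕ} {g : G}
    (hg : g ∈ tri ρ L ∨ g ∈ tri ρ (OrderDual.toDual ∘ L))
    (h0 : ∀ p q, L p ≠ L q → ρ g p q = 0) : g = 1 := by
  refine hρ (Matrix.ext fun p q => ?_)
  rw [map_one, Matrix.one_apply]
  by_cases h : L p = L q
  · rcases hg with hg | hg
    · exact hg p q (not_lt.2 h.ge)
    · exact hg p q fun e => absurd (show L q < L p from e) (not_lt.2 h.le)
  · rw [h0 p q h, if_neg fun e => h (by rw [e])]

/-- A diagonal block of an upper unitriangular element. -/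
theorem exists_upper_block [Fintype F] {h : I → ℕ} (f : Fin k → I) (hf : ∀ i j, i < j → h (f i) < h (f j))
    {g : G} (hg : g ∈ tri ρ h) :
    ∃ P ∈ upU F k, ∀ i j, P.val i j = ρ g (f i) (f j) := by
  have hle : ∀ i j : Fin k, j ≤ i → ρ g (f i) (f j) = if i = j then 1 else 0 := by
    intro i j hji
    rcases eq_or_lt_of_le hji with rfl | hlt
    · rw [hg _ _ (lt_irrefl _)]; simp
    · rw [hg _ _ (lt_asymm (hf j i hlt)), if_neg fun e => (hf j i hlt).ne (by rw [e]), if_neg (Ne.symm hlt.ne)]
  have hdet : (Matrix.of fun i j => ρ g (f i) (f j)).det = 1 := by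
    rw [Matrix.det_of_upperTriangular (fun i j hij => by
      have h' : j < i := hij
      show ρ g (f i) (f j) = 0
      rw [hle i j h'.le, if_neg h'.ne'])]
    exact Finset.prod_eq_one fun i _ => by show ρ g (f i) (f i) = 1; rw [hle i i le_rfl, if_pos rfl]
  refine ⟨⟨_, hdet⟩, fun i j hij => ?_, fun i j => rfl⟩
  show ρ g (f j) (f i) = _
  rw [hle j i hij]
  simp [eq_comm]

/-- A diagonal block of a lower unitriangular element. -/
theorem exists_lower_block [Fintype F] {h : I → ℕ} (f : Fin k → I) (hf : ∀ i j, i < j → h (f i) < h (f j))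
    {g : G} (hg : g ∈ tri ρ (OrderDual.toDual ∘ h)) :
    ∃ P ∈ lowU F k, ∀ i j, P.val i j = ρ g (f i) (f j) := by
  have hle : ∀ i j : Fin k, i ≤ j → ρ g (f i) (f j) = if i = j then 1 else 0 := by
    intro i j hij
    rcases eq_or_lt_of_le hij with rfl | hlt
    · rw [hg _ _ (lt_irrefl _)]; simp
    · have h' : ¬ (OrderDual.toDual ∘ h) (f i) < (OrderDual.toDual ∘ h) (f j) :=
        fun e => lt_asymm (hf i j hlt) e
      rw [hg _ _ h', if_neg fun e => (hf i j hlt).ne (by rw [e]), if_neg hlt.ne]
  have hdet : (Matrix.of fun i j => ρ g (f i) (f j)).det = 1 := by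
    rw [Matrix.det_of_lowerTriangular _ (fun i j hij => by
      have h' : i < j := hij
      show ρ g (f i) (f j) = 0
      rw [hle i j h'.le, if_neg h'.ne])]
    exact Finset.prod_eq_one fun i _ => by show ρ g (f i) (f i) = 1; rw [hle i i le_rfl, if_pos rfl]
  exact ⟨⟨_, hdet⟩, fun i j hij => hle i j hij, fun i j => rfl⟩

/-- One diagonal twist fuses all the regular unipotent elements of a block. -/
theorem fuse_of_twist [Fintype F] (Λ : SpecialLinearGroup (Fin k) F →* G) {L : I → ℕ} {t : G}
    (hbd : ∀ X, Λ X ∈ bd ρ L) (hcomm : ∀ X, Commute t (Λ X))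
    (tw : ∀ (hk : 2 ≤ k) (u : Fˣ), ∃ g ∈ bd ρ L, Commute g t ∧
      ∀ X Z : SpecialLinearGroup (Fin k) F,
        Matrix.diagonal (fun i : Fin k => if i.val = 0 then (u : F) else 1) * X.val =
          Z.val * Matrix.diagonal (fun i : Fin k => if i.val = 0 then (u : F) else 1) →
        g * Λ X * g⁻¹ = Λ Z)
    (A B : SpecialLinearGroup (Fin k) F) (hA : Reg' A) (hB : Reg' B) :
    ∃ μ ∈ bd ρ L, Commute μ t ∧ μ * Λ A * μ⁻¹ = Λ B := by
  rcases le_or_gt k 1 with hk | hk
  · exact ⟨1, one_mem _, Commute.one_left _, by rw [eq_one_of_le_one hk A, eq_one_of_le_one hk B]; simp⟩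
  obtain ⟨P, hP⟩ := exists_conj (hA hk) (hB hk)
  set u : Fˣ := Matrix.GeneralLinearGroup.det P with hu
  obtain ⟨g, hg, hgt, hconj⟩ := tw hk u
  let i0 : Fin k := ⟨0, by omega⟩
  set E : Matrix (Fin k) (Fin k) F := Matrix.diagonal (fun i : Fin k => if i.val = 0 then (u : F) else 1) with hE
  set E' : Matrix (Fin k) (Fin k) F :=
    Matrix.diagonal (fun i : Fin k => if i.val = 0 then ((u⁻¹ : Fˣ) : F) else 1) with hE'
  have hEE : E' * E = 1 := by
    rw [hE, hE', Matrix.diagonal_mul_diagonal, ← Matrix.diagonal_one]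
    refine congrArg Matrix.diagonal (funext fun i => ?_)
    split_ifs <;> simp
  have hdetE : E'.det = ((u⁻¹ : Fˣ) : F) := by
    rw [hE', Matrix.det_diagonal, Finset.prod_eq_single i0 (fun i _ hi => if_neg fun e => hi (Fin.ext e))
      (by simp), if_pos rfl]
  let S : SpecialLinearGroup (Fin k) F := ⟨P.val * E', by
    rw [Matrix.det_mul, hdetE, show P.val.det = (u : F) from rfl, Units.mul_inv]⟩
  have hZ : E * A.val = (S⁻¹ * B * S).val * E := by
    have e1 : B.val * P.val = P.val * A.val := by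
      rw [← hP, mul_assoc, Units.inv_mul, mul_one]
    have e2 : S.val * (E * A.val) = B.val * S.val * E := by
      show P.val * E' * (E * A.val) = B.val * (P.val * E') * E
      simp only [← mul_assoc]
      rw [mul_assoc P.val E' E, hEE, mul_one, e1.symm, mul_assoc (B.val * P.val) E' E, hEE, mul_one]
    calc E * A.val = (S⁻¹).val * (S.val * (E * A.val)) := by
          rw [← mul_assoc (S⁻¹).val, ← RegularBlocks.val_mul', inv_mul_cancel, RegularBlocks.val_one', one_mul]
      _ = _ := by rw [e2, RegularBlocks.val_mul', RegularBlocks.val_mul']; simp only [mul_assoc]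
  refine ⟨Λ S * g, mul_mem (hbd S) hg, (hcomm S).symm.mul_left hgt, ?_⟩
  rw [show Λ S * g * Λ A * (Λ S * g)⁻¹ = Λ S * (g * Λ A * g⁻¹) * (Λ S)⁻¹ by group, hconj A _ hZ,
    ← map_inv, ← map_mul, ← map_mul]
  congr 1
  group

end Cfsg.Agent.Classical.MatRootData
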