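import Cfsg.Agent.Lib.Classical.OrthPlusForms

/-!
Field and graph-field automorphisms of prime order of the hyperbolic `PΩ`.
-/

set_option autoImplicit false
set_option linter.unusedSectionVars false
set_option quotPrecheck false

namespace Cfsg.Agent.Classical.OrthAut

open Matrix Module Cfsg.Agent.Classical.Descent

/-- A finite field has an anisotropic binary form. -/
theorem exists_aniso (F : Type*) [Field F] [Finite F] : ∃ a b : F, Aniso F a b := by
  have h : ¬ Function.Surjective fun x : F => x ^ 2 + x := fun hs => by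
    have hi := Finite.injective_iff_surjective.2 hs (show (0 : F) ^ 2 + 0 = (-1) ^ 2 + -1 by ring)
    exact one_ne_zero (neg_eq_zero.1 hi.symm)
  rw [Function.Surjective] at h
  push Not at h
  obtain ⟨c, hc⟩ := h
  refine ⟨1, -c, fun z₁ z₂ h => ?_⟩
  by_cases h0 : z₂ = 0
  · subst h0; exact ⟨by simpa using h, rfl⟩
  · exact absurd (show (z₁ / z₂) ^ 2 + z₁ / z₂ = c by field_simp; linear_combination h) (hc _)

section General

variable {F : Type*} [Field F] [Fintype F] {ι : Type} [Fintype ι] [DecidableEq ι]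
  {Q : QuadraticForm F (ι → F)} {n : ℕ}

local notation "Mn" => Matrix ι ι F
local notation "PQ" => POmega F ⇑Q
local notation "GO" => Geo.quadSimilarityGroup (F := F) ⇑Q

/-- An isometry of descended forms extends to the large field. -/
theorem exists_lin_ext {F₀ : Type*} [Field F₀] {ι' : Type} [Fintype ι'] [DecidableEq ι'] {j : F₀ →+* F}
    {y : GL ι F} {ε : Fˣ} {P' : QuadraticForm F₀ (ι → F₀)}
    (hP' : ∀ u, Q ((y : Mn) *ᵥ (j ∘ u)) = (ε : F) * j (P' u))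
    (e : (ι' → F₀) ≃ₗ[F₀] (ι → F₀)) {P'' : QuadraticForm F₀ (ι' → F₀)} (he : ∀ u, P' (e u) = P'' u)
    {Q'' : QuadraticForm F (ι' → F)} (hQ'' : ∀ u, Q'' (j ∘ u) = j (P'' u))
    (hn : (QuadraticMap.polarBilin Q'').Nondegenerate) :
    ∃ L : (ι' → F) ≃ₗ[F] (ι → F), ∀ v, Q (L v) = (ε : F) * Q'' v := by
  set A : Matrix ι ι' F₀ := LinearMap.toMatrix' e.toLinearMap
  set L : (ι' → F) →ₗ[F] (ι → F) := (Matrix.mulVecLin (y : Mn)).comp (Matrix.mulVecLin (A.map j))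
  have hA : ∀ u : ι' → F₀, A.map j *ᵥ (j ∘ u) = j ∘ e u := fun u => by
    have h : A *ᵥ u = e u := LinearMap.toMatrix'_mulVec _ u
    rw [← h]
    funext i; simp [Matrix.mulVec, dotProduct, map_sum]
  have hL : ∀ v, Q (L v) = (ε : F) * Q'' v := fun v => by
    have h : Q.comp L = (ε : F) • Q'' := quad_ext_rat j fun u => by
      rw [QuadraticMap.comp_apply, LinearMap.comp_apply, Matrix.mulVecLin_apply, Matrix.mulVecLin_apply, hA,
        hP', he, _root_.QuadraticMap.smul_apply, smul_eq_mul, hQ'']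
    exact congrArg (fun q : QuadraticForm F (ι' → F) => q v) h
  have hinj : Function.Injective L := by
    refine LinearMap.ker_eq_bot.1 (LinearMap.ker_eq_bot'.2 fun u hu => hn.1 u fun z => ?_)
    have h1 : Q'' (u + z) = Q'' z := mul_left_cancel₀ ε.ne_zero (by rw [← hL, ← hL, map_add, hu, zero_add])
    have h2 : Q'' u = 0 := mul_left_cancel₀ ε.ne_zero (by rw [← hL, hu, QuadraticMap.map_zero, mul_zero])
    rw [QuadraticMap.polarBilin_apply_apply, QuadraticMap.polar, h1, h2, sub_zero, sub_self]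
  have hdim : finrank F (ι' → F) = finrank F (ι → F) := by
    have h := e.finrank_eq
    rw [Module.finrank_pi, Module.finrank_pi] at h ⊢
    exact h
  exact ⟨L.linearEquivOfInjective hinj hdim, fun v => by rw [LinearMap.linearEquivOfInjective_apply, hL]⟩

/-- A reflection in a fixed vector is fixed. -/
theorem goMap_refl_fixed {σ : RingAut F} (hR : RatAt Q σ) {v : ι → F} (hv : Q v ≠ 0) (hvσ : σ ∘ v = v) :
    goMap hR (ogToGO Q (refl hv)) = ogToGO Q (refl hv) :=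
  go_ext (Matrix.ext_iff_mulVec.2 fun w => by
    obtain ⟨z, rfl⟩ : ∃ z : ι → F, σ ∘ z = w := ⟨σ.symm ∘ w, funext fun i => σ.apply_symm_apply _⟩
    show ((ogVal (refl hv)).map σ) *ᵥ (σ ∘ z) = ogVal (refl hv) *ᵥ (σ ∘ z)
    rw [map_comp_mulVec, refl_apply, refl_apply]
    have hB : QuadraticMap.polar ⇑Q v (σ ∘ z) = σ (QuadraticMap.polar ⇑Q v z) := by
      conv_lhs => rw [← hvσ]
      simp only [QuadraticMap.polar, map_sub, ← hR _]
      rw [show σ ∘ v + σ ∘ z = σ ∘ (v + z) from funext fun i => (map_add σ _ _).symm]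
    have hQv : σ (Q v) = Q v := by rw [← hR, hvσ]
    funext i
    have hvi : σ (v i) = v i := congrFun hvσ i
    simp only [Function.comp_apply, Pi.sub_apply, Pi.smul_apply, smul_eq_mul, map_sub, map_mul,
      map_inv₀, hQv, hvi, hB])

namespace EvenSpace

variable (H : EvenSpace Q n)
include H

theorem refl_sq {v : ι → F} (hv : Q v ≠ 0) : goHom Q (ogToGO Q (refl hv)) * goHom Q (ogToGO Q (refl hv)) = 1 := by
  rw [← map_mul, ← map_mul, refl_mul_self, map_one, map_one]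

section Twist

variable {F₀ : Type*} [Field F₀] [Fintype F₀] {j : F₀ →+* F} {σ : RingAut F} (hR : RatAt Q σ)
include hR

/-- Cocycles with isometric descended forms are cohomologous. -/
theorem twist_eq (hj : ∀ x, σ x = x ↔ x ∈ j.range) {d₁ d₂ : GO} {μ₁ μ₂ ε₁ ε₂ : Fˣ} {y₁ y₂ : GL ι F}
    {P₁ P₂ : QuadraticForm F₀ (ι → F₀)}
    (hd₁ : (d₁ : GL ι F) = Matrix.GeneralLinearGroup.scalar ι μ₁ * (y₁ * (gmap σ y₁)⁻¹))
    (hd₂ : (d₂ : GL ι F) = Matrix.GeneralLinearGroup.scalar ι μ₂ * (y₂ * (gmap σ y₂)⁻¹))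
    (h₁ : ∀ u, Q ((y₁ : Mn) *ᵥ (j ∘ u)) = (ε₁ : F) * j (P₁ u))
    (h₂ : ∀ u, Q ((y₂ : Mn) *ᵥ (j ∘ u)) = (ε₂ : F) * j (P₂ u))
    {z : GL ι F₀} (hz : ∀ u, P₁ ((z : Matrix ι ι F₀) *ᵥ u) = P₂ u) :
    ∃ g : GO, goHom Q d₁ * fld hR = goHom Q g * (goHom Q d₂ * fld hR) * (goHom Q g)⁻¹ ∧
      psgn n d₁ = psgn n d₂ := by
  set zF := Matrix.GeneralLinearGroup.map j z
  have hzσ : gmap σ zF = zF := Units.ext (Matrix.ext fun a b => (hj _).2 ⟨_, rfl⟩)
  have hg : y₁ * zF * y₂⁻¹ ∈ GO := by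
    refine ⟨ε₁ * ε₂⁻¹, fun v => ?_⟩
    have h : Q.comp (Matrix.mulVecLin ((y₁ * zF : GL ι F) : Mn)) =
        ((ε₁ * ε₂⁻¹ : Fˣ) : F) • Q.comp (Matrix.mulVecLin (y₂ : Mn)) := quad_ext_rat j fun u => by
      rw [QuadraticMap.comp_apply, Matrix.mulVecLin_apply, _root_.QuadraticMap.smul_apply, smul_eq_mul,
        QuadraticMap.comp_apply, Matrix.mulVecLin_apply, h₂,
        Units.val_mul, show (zF : Mn) = (z : Matrix ι ι F₀).map j from rfl, ← Matrix.mulVec_mulVec, mulVec_rat,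
        h₁, hz, Units.val_mul, mul_assoc (ε₁ : F), Units.inv_mul_cancel_left]
    have h' := congrArg (fun q : QuadraticForm F (ι → F) => q (((y₂⁻¹ : GL ι F) : Mn) *ᵥ v)) h
    simp only [QuadraticMap.comp_apply, Matrix.mulVecLin_apply, Matrix.mulVec_mulVec,
      _root_.QuadraticMap.smul_apply, smul_eq_mul, Units.mul_inv, Matrix.one_mulVec, ← Units.val_mul] at h'
    rwa [mul_inv_cancel, Units.val_one, Matrix.one_mulVec] at h'
  set g : GO := ⟨y₁ * zF * y₂⁻¹, hg⟩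
  set s : GO := d₁ * (g * d₂ * (goMap hR g)⁻¹)⁻¹
  have hs : ((s : GL ι F) : Mn) = ((μ₁ * μ₂⁻¹ : Fˣ) : F) • 1 := by
    have hc : ∀ (μ : Fˣ) (A : GL ι F), A * Matrix.GeneralLinearGroup.scalar ι μ =
        Matrix.GeneralLinearGroup.scalar ι μ * A := fun μ A => Units.ext (by
      simp only [Units.val_mul, coe_scalar_smul, Matrix.smul_mul, Matrix.mul_smul, Matrix.one_mul, Matrix.mul_one])
    have hs' : (s : GL ι F) = Matrix.GeneralLinearGroup.scalar ι (μ₁ * μ₂⁻¹) := by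
      show (d₁ : GL ι F) * ((y₁ * zF * y₂⁻¹) * (d₂ : GL ι F) * (gmap σ (y₁ * zF * y₂⁻¹))⁻¹)⁻¹ = _
      rw [hd₁, hd₂, map_mul, map_mul, map_inv, hzσ, map_mul, map_inv,
        ← mul_assoc (y₁ * zF * y₂⁻¹) (Matrix.GeneralLinearGroup.scalar ι μ₂), hc μ₂ (y₁ * zF * y₂⁻¹)]
      generalize (Matrix.GeneralLinearGroup.scalar ι) μ₂ = S
      group
    rw [hs', coe_scalar_smul]
  have hd : d₁ = s * (g * d₂ * (goMap hR g)⁻¹) := (inv_mul_cancel_right _ _).symm
  clear_value s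
  refine ⟨g, ?_, ?_⟩
  · have e := field_conj_go hR g⁻¹
    rw [map_inv (goMap hR), map_inv (goHom Q) g] at e
    rw [hd, map_mul, goHom_scalar hs, one_mul, map_mul, map_mul, mul_assoc, ← e]
    group
  · have h1 : ∀ a : GO, psgn n a⁻¹ = psgn n a := fun a =>
      (H.psgnHom.map_inv a).trans (Int.units_inv_eq_self _)
    rw [hd, H.psgn_mul, H.psgn_scalar hs, one_mul, H.psgn_mul, H.psgn_mul, h1, H.psgn_goMap hR,
      mul_comm (psgn n g), mul_assoc, Int.units_mul_self, mul_one]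

end Twist

set_option maxHeartbeats 1000000 in
/-- A graph-field class element is conjugate under the inner-diagonal group to a standard one. -/
theorem graphFieldClass_param (hR : Rat Q) {x α γ φ : MulAut PQ} {σ : RingAut F}
    {v : ι → F} (hv : Q v ≠ 0) (hvσ : σ ∘ v = v) (hγ : γ = goHom Q (ogToGO Q (refl hv)))
    (hφ : φ = fld (hR.ratAt σ)) (hα : α * x * α⁻¹ = γ * φ) :
    ∃ (a R : GO), psgn n a = 1 ∧ psgn n R = -1 ∧ goHom Q R * goHom Q R = 1 ∧
      goHom Q R * fld (hR.ratAt σ) = fld (hR.ratAt σ) * goHom Q R ∧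
      x = goHom Q a * (goHom Q R * fld (hR.ratAt σ)) * (goHom Q a)⁻¹ := by
  subst hγ hφ
  obtain ⟨c, ρ, rfl⟩ := H.decomp_go hR α
  set R₀ := ogToGO Q (refl hv) with hR₀
  have hρ' : RatAt Q (ρ⁻¹ : RingAut F) := hR.ratAt _
  set R := goMap hρ' R₀
  set a₀ := goMap hρ' c⁻¹
  set φ := fld (hR.ratAt σ)
  set u := fld (hR.ratAt ρ)
  have hinv : u⁻¹ = fld hρ' := by
    refine inv_eq_of_mul_eq_one_right ?_
    rw [fld_mul, ← fld_one (Q := Q)]
    exact fld_congr _ _ (mul_inv_cancel ρ)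
  have hc : u * φ = φ * u := by
    rw [fld_mul, fld_mul]; exact fld_congr _ _ (PSLAut.ringAut_commute _ _)
  have hu : u⁻¹ * φ * u = φ := by rw [mul_assoc, ← hc, inv_mul_cancel_left]
  have hmove : ∀ g : GO, u⁻¹ * goHom Q g = goHom Q (goMap hρ' g) * u⁻¹ := fun g => by
    rw [hinv, field_conj_go]
  have hR0 : φ * goHom Q R₀ = goHom Q R₀ * φ := by
    rw [field_conj_go, hR₀, goMap_refl_fixed _ hv hvσ]
  have hRφ : goHom Q R * φ = φ * goHom Q R := by
    have e : goHom Q R = u⁻¹ * goHom Q R₀ * u := by rw [hmove, inv_mul_cancel_right]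
    rw [e]
    calc u⁻¹ * goHom Q R₀ * u * φ = u⁻¹ * (goHom Q R₀ * φ) * u := by rw [mul_assoc, hc]; group
      _ = u⁻¹ * φ * u * (u⁻¹ * goHom Q R₀ * u) := by rw [← hR0]; group
      _ = _ := by rw [hu]
  have hR2 : goHom Q R * goHom Q R = 1 := by
    rw [← map_mul, ← map_mul, ← map_mul, refl_mul_self, map_one, map_one, map_one]
  have hRs : psgn n R = -1 := by rw [H.psgn_goMap hρ', hR₀, H.psgn_refl]
  have hx : x = goHom Q a₀ * (goHom Q R * φ) * (goHom Q a₀)⁻¹ := by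
    have e1 : u⁻¹ * (goHom Q c)⁻¹ = goHom Q a₀ * u⁻¹ := by rw [← map_inv, hmove]
    calc x = (u⁻¹ * (goHom Q c)⁻¹) * (goHom Q R₀ * φ) * (u⁻¹ * (goHom Q c)⁻¹)⁻¹ := by
          rw [show x = (goHom Q c * u)⁻¹ * ((goHom Q c * u) * x * (goHom Q c * u)⁻¹) * (goHom Q c * u) by group,
            hα]
          group
      _ = goHom Q a₀ * ((u⁻¹ * goHom Q R₀) * φ * u) * (goHom Q a₀)⁻¹ := by rw [e1]; group
      _ = _ := by rw [hmove, mul_assoc (goHom Q R), mul_assoc (goHom Q R), hu]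
  rcases Int.units_eq_one_or (psgn n a₀) with h | h
  · exact ⟨a₀, R, h, hRs, hR2, hRφ, hx⟩
  refine ⟨a₀ * R, R, by rw [H.psgn_mul, h, hRs]; rfl, hRs, hR2, hRφ, ?_⟩
  calc x = goHom Q a₀ * (goHom Q R * φ) * (goHom Q a₀)⁻¹ := hx
    _ = goHom Q a₀ * goHom Q R * (goHom Q R * φ) * (goHom Q R)⁻¹ * (goHom Q a₀)⁻¹ := by
      rw [show goHom Q a₀ * goHom Q R * (goHom Q R * φ) * (goHom Q R)⁻¹ =
          goHom Q a₀ * (goHom Q R * (goHom Q R * φ) * (goHom Q R)⁻¹) by group,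
        show goHom Q R * (goHom Q R * φ) * (goHom Q R)⁻¹ = goHom Q R * φ by
          rw [← mul_assoc, hR2, one_mul, inv_eq_of_mul_eq_one_right hR2, hRφ]]
    _ = _ := by rw [map_mul]; group

end EvenSpace

end General

section Plus

variable {F : Type*} [Field F] [Fintype F] {m : ℕ}

local notation "ιp" => (Fin m ⊕ Fin m)
local notation "Qp" => qfPlus m F
local notation "GOp" => Geo.quadSimilarityGroup (F := F) ⇑(qfPlus m F)

theorem rat_qfPlus : Rat (qfPlus m F) := fun σ v => by simp [qfPlus_apply, quadFormPlus, map_sum]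

theorem qfPlus_rat {F₀ : Type*} [Field F₀] (j : F₀ →+* F) (u : ιp → F₀) :
    qfPlus m F (j ∘ u) = j (qfPlus m F₀ u) := by simp [qfPlus_apply, quadFormPlus, map_sum]

/-- A vector of value `-1` fixed by every field automorphism. -/
def stdVec (m : ℕ) [NeZero m] (F : Type*) [Field F] : Fin m ⊕ Fin m → F :=
  Pi.single (Sum.inl 0) 1 - Pi.single (Sum.inr 0) 1

variable [NeZero m]

theorem qfPlus_stdVec : qfPlus m F (stdVec m F) = -1 := by
  simp [qfPlus_apply, quadFormPlus, stdVec, Pi.single_apply]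

theorem stdVec_ne : qfPlus m F (stdVec m F) ≠ 0 := by rw [qfPlus_stdVec]; exact neg_ne_zero.2 one_ne_zero

theorem stdVec_fixed (σ : RingAut F) : σ ∘ stdVec m F = stdVec m F := funext fun i => by
  simp [stdVec, Pi.single_apply, apply_ite σ]

/-- The standard graph automorphism. -/
noncomputable def stdRefl (m : ℕ) [NeZero m] (F : Type*) [Field F] [Fintype F] :
    Geo.quadSimilarityGroup (F := F) ⇑(qfPlus m F) := ogToGO _ (refl (stdVec_ne (m := m) (F := F)))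

theorem goMap_stdRefl (σ : RingAut F) : goMap (rat_qfPlus.ratAt σ) (stdRefl m F) = stdRefl m F :=
  goMap_refl_fixed _ _ (stdVec_fixed σ)

theorem psgn_stdRefl (hm : 5 ≤ m) : psgn m (stdRefl m F) = -1 :=
  (evenSpace_plus hm).psgn_refl _

theorem orderOf_stdRefl_field (hm : 5 ≤ m) {σ : RingAut F} (hσ : orderOf σ = 2) :
    orderOf (goHom Qp (stdRefl m F) * fld (rat_qfPlus.ratAt σ)) = 2 := by
  have H := evenSpace_plus (F := F) hm
  refine orderOf_eq_prime ?_ ?_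
  · obtain ⟨N, hN, -, he⟩ := H.pow_go_field (stdRefl m F) (rat_qfPlus.ratAt σ) 2
    have hN1 : N = stdRefl m F * stdRefl m F := by
      refine Subtype.ext ?_
      rw [hN]
      show (stdRefl m F : GL ιp F) * gmap σ ((stdRefl m F : GL ιp F) * gmap σ 1) = _
      rw [map_one, mul_one, ← goMap_coe (rat_qfPlus.ratAt σ), goMap_stdRefl]
      rfl
    rw [he, hN1, map_mul, stdRefl, H.refl_sq, one_mul, ← fld_one (Q := Qp)]
    exact fld_congr _ _ (by rw [← hσ, pow_orderOf_eq_one])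
  · intro h
    have h1 := H.go_field_inj (g := stdRefl m F) (k := 1) (rat_qfPlus.ratAt σ) RatAt.one
      (by rw [map_one, fld_one, one_mul]; exact h)
    rw [h1.1, orderOf_one] at hσ
    exact absurd hσ (by norm_num)

variable (m) in
/-- Cocycles: split, or elliptic. -/
def Ell {F₀ : Type*} [Field F₀] (j : F₀ →+* F) (σ : RingAut F) (d : GOp) : Prop :=
  ∃ (μ : Fˣ) (y : GL ιp F) (ε : Fˣ) (P' : QuadraticForm F₀ (ιp → F₀)),
    (d : GL ιp F) = Matrix.GeneralLinearGroup.scalar ιp μ * (y * (gmap σ y)⁻¹) ∧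
    (∀ u, Qp ((y : Matrix ιp ιp F) *ᵥ (j ∘ u)) = (ε : F) * j (P' u)) ∧
    (QuadraticMap.polarBilin P').Nondegenerate ∧ ¬ ∃ U, Half P' U

theorem plus_dichotomy (hm : 5 ≤ m) {F₀ : Type*} [Field F₀] [Fintype F₀] {j : F₀ →+* F} {σ : RingAut F}
    (hj : ∀ x, σ x = x ↔ x ∈ j.range) {r : ℕ} (hr : r.Prime) (hσ : σ ≠ 1) {d : GOp}
    (hord : orderOf (goHom Qp d * fld (rat_qfPlus.ratAt σ)) = r) :
    (psgn m d = 1 ∧ ∃ g : GOp, psgn m g = 1 ∧ goHom Qp d * fld (rat_qfPlus.ratAt σ) =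
      goHom Qp g * fld (rat_qfPlus.ratAt σ) * (goHom Qp g)⁻¹) ∨ (r = 2 ∧ Ell m j σ d) := by
  have H := evenSpace_plus (F := F) hm
  set hR := rat_qfPlus.ratAt (F := F) σ (Q := Qp)
  obtain ⟨hσr, -, c, hc⟩ := H.orderOf_go_field hR hr hσ hord
  obtain ⟨μ, y, ε, P', hd, hP', hPn⟩ := H.exists_twisted_form hR hj hσr hc
  have hcard : Fintype.card ιp = 2 * m := by simp; omega
  by_cases hU : ∃ U, Half P' U
  · left
    obtain ⟨U, hU⟩ := hU
    obtain ⟨e, he⟩ := plus_of_half (by omega) hcard hPn hU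
    obtain ⟨z, hz⟩ := exists_gl_of_linearEquiv e
    obtain ⟨g, hg, hs⟩ := H.twist_eq hR hj (d₂ := 1) (μ₂ := 1) (ε₂ := 1) (y₂ := 1) (P₂ := qfPlus m F₀) hd
      (by rw [OneMemClass.coe_one, map_one, map_one, inv_one, mul_one, mul_one]) hP'
      (fun u => by rw [Units.val_one, Units.val_one, Matrix.one_mulVec, qfPlus_rat, one_mul])
      (z := z) (fun u => by rw [hz, he])
    rw [map_one, one_mul] at hg
    rw [show psgn m (1 : GOp) = 1 from map_one H.psgnHom] at hs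
    refine ⟨hs, ?_⟩
    rcases Int.units_eq_one_or (psgn m g) with h | h
    · exact ⟨g, h, hg⟩
    refine ⟨g * stdRefl m F, by rw [H.psgn_mul, h, psgn_stdRefl hm]; rfl, ?_⟩
    rw [hg, map_mul]
    have hcomm : goHom Qp (stdRefl m F) * fld hR * (goHom Qp (stdRefl m F))⁻¹ = fld hR := by
      rw [EvenSpace.conj_field_go, goMap_stdRefl, mul_inv_cancel, map_one, one_mul]
    calc _ = goHom Qp g * (goHom Qp (stdRefl m F) * fld hR * (goHom Qp (stdRefl m F))⁻¹) * (goHom Qp g)⁻¹ := by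
          rw [hcomm]
      _ = _ := by group
  · refine Or.inr ⟨?_, μ, y, ε, P', hd, hP', hPn, hU⟩
    refine hr.eq_two_or_odd'.resolve_right fun hodd => ?_
    obtain ⟨k, rfl⟩ : ∃ k, m = k + 1 := ⟨m - 1, by omega⟩
    obtain ⟨a₀, b₀, hab₀⟩ := exists_aniso F₀
    let e : (((Fin k ⊕ Fin k) ⊕ Fin 2) → F₀) ≃ₗ[F₀] ((Fin (k + 1) ⊕ Fin (k + 1)) → F₀) :=
      LinearEquiv.ofFinrankEq _ _ (by rw [Module.finrank_pi, Module.finrank_pi]; simp; omega)
    obtain ⟨g, hg⟩ := minus_unique (qfMinus k F₀ a₀ b₀) (P'.comp e.toLinearMap) (nondegenerate_qfMinus k hab₀)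
      (comp_nondegenerate e hPn) (not_half_qfMinus hab₀) fun ⟨U, hU'⟩ => hU (half_comp (Q := P'.comp e.toLinearMap)
        (Q' := P') e.symm one_ne_zero (fun v => by
          rw [one_mul, QuadraticMap.comp_apply, LinearEquiv.coe_coe, e.apply_symm_apply]) hU')
    let L₀ : (((Fin k ⊕ Fin k) ⊕ Fin 2) → F₀) ≃ₗ[F₀] (((Fin k ⊕ Fin k) ⊕ Fin 2) → F₀) :=
      LinearEquiv.ofBijective (Matrix.mulVecLin (g : Matrix ((Fin k ⊕ Fin k) ⊕ Fin 2) ((Fin k ⊕ Fin k) ⊕ Fin 2) F₀))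
        ⟨Matrix.mulVec_injective_iff_isUnit.2 (Units.isUnit g), Matrix.mulVec_surjective_iff_isUnit.2 (Units.isUnit g)⟩
    have habF := aniso_of_odd hj (hσr ▸ hodd) hab₀
    obtain ⟨L, hL⟩ := exists_lin_ext hP' (L₀.trans e) (P'' := qfMinus k F₀ a₀ b₀) (fun u => hg u)
      (Q'' := qfMinus k F (j a₀) (j b₀))
      (fun u => by simp [qfMinus_apply, quadFormMinus, map_sum]) (nondegenerate_qfMinus k habF)
    exact not_half_qfMinus habF (half_comp L ε.ne_zero hL (half_plusHalf (F := F) (k + 1)))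

set_option maxHeartbeats 1000000 in
/-- An element of prime order in the coset of `σ` is conjugate to the field or graph-field standard. -/
theorem plus_coset_std (hm : 5 ≤ m) {σ : RingAut F} {r : ℕ} (hr : r.Prime) (hσ : σ ≠ 1) {d : GOp}
    (hord : orderOf (goHom Qp d * fld (rat_qfPlus.ratAt σ)) = r) :
    (psgn m d = 1 ∧ ∃ g : GOp, psgn m g = 1 ∧ goHom Qp d * fld (rat_qfPlus.ratAt σ) =
      goHom Qp g * fld (rat_qfPlus.ratAt σ) * (goHom Qp g)⁻¹) ∨
    (r = 2 ∧ psgn m d = -1 ∧ ∃ g : GOp, psgn m g = 1 ∧ goHom Qp d * fld (rat_qfPlus.ratAt σ) =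
      goHom Qp g * (goHom Qp (stdRefl m F) * fld (rat_qfPlus.ratAt σ)) * (goHom Qp g)⁻¹) := by
  let K : Subfield F := RingHom.eqLocusField σ.toRingHom (RingHom.id F)
  letI : Fintype K := Fintype.ofFinite _
  have hj : ∀ z, σ z = z ↔ z ∈ K.subtype.range := fun z =>
    ⟨fun h => ⟨⟨z, h⟩, rfl⟩, fun ⟨k, hk⟩ => hk ▸ k.2⟩
  have H := evenSpace_plus (F := F) hm
  refine (plus_dichotomy hm hj hr hσ hord).imp_right ?_
  rintro ⟨rfl, μ, y, ε, P', hd, hP', hPn, hU⟩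
  have hσr := (H.orderOf_go_field _ hr hσ hord).1
  rcases plus_dichotomy hm hj Nat.prime_two hσ (orderOf_stdRefl_field hm hσr) with ⟨h, -⟩ | ⟨-, hE⟩
  · rw [psgn_stdRefl hm] at h
    exact absurd h (by decide)
  obtain ⟨μ₂, y₂, ε₂, P₂, hd₂, hP₂, hP₂n, hU₂⟩ := hE
  obtain ⟨k, hk⟩ : ∃ k, m = k + 1 := ⟨m - 1, by omega⟩
  obtain ⟨z, hz⟩ := iso_of_not_half (k := k) (by simp; omega) P₂ P' hP₂n hPn hU₂ hU
  obtain ⟨g, hg, hs⟩ := H.twist_eq (rat_qfPlus.ratAt σ) hj hd hd₂ hP' hP₂ (z := z) hz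
  rw [psgn_stdRefl hm] at hs
  refine ⟨rfl, hs, ?_⟩
  rcases Int.units_eq_one_or (psgn m g) with h | h
  · exact ⟨g, h, hg⟩
  refine ⟨g * stdRefl m F, by rw [H.psgn_mul, h, psgn_stdRefl hm]; rfl, ?_⟩
  set X := goHom Qp (stdRefl m F)
  set φ := fld (rat_qfPlus.ratAt (F := F) σ (Q := Qp))
  have hcomm : X * (X * φ) * X⁻¹ = X * φ := by
    have h1 : X * φ * X⁻¹ = φ := by
      simp only [X, φ]
      rw [EvenSpace.conj_field_go, goMap_stdRefl, mul_inv_cancel, map_one, one_mul]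
    calc _ = X * (X * φ * X⁻¹) := by group
      _ = _ := by rw [h1]
  rw [hg, map_mul]
  calc _ = goHom Qp g * (X * (X * φ) * X⁻¹) * (goHom Qp g)⁻¹ := by rw [hcomm]
    _ = _ := by simp only [X]; group

end Plus

end Cfsg.Agent.Classical.OrthAut
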