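import Cfsg.Agent.Lib.Classical.OrthTwoGenMain
import Cfsg.Agent.Lib.Classical.OrthModels
import Cfsg.Agent.Lib.Classical.OrthPlusField

/-!
The three standard models have the decomposition needed for two generators.
-/

set_option autoImplicit false
set_option linter.unusedSectionVars false
set_option quotPrecheck false

namespace Cfsg.Agent.Classical.OrthTwoGen

open Matrix Module OrthAut

section Quot

variable {F : Type*} [Field F] {ι : Type} [Fintype ι] [DecidableEq ι] {fQ : (ι → F) → F}

/-- Two generators pass to `PΩ`. -/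
theorem pomega_of_omega (h : ∃ A A' : Omega F fQ, Subgroup.closure ({A, A'} : Set (Omega F fQ)) = ⊤) :
    ∃ A A' : POmega F fQ, Subgroup.closure ({A, A'} : Set (POmega F fQ)) = ⊤ := by
  obtain ⟨A, A', hA⟩ := h
  refine ⟨QuotientGroup.mk' _ A, QuotientGroup.mk' _ A', ?_⟩
  rw [← Set.image_pair, ← MonoidHom.map_closure, hA, Subgroup.map_top_of_surjective _
    (QuotientGroup.mk'_surjective _)]

end Quot

variable {F : Type*} [Field F] [Fintype F]

section Gen

variable {ι : Type} [Fintype ι] [DecidableEq ι] {Q : QuadraticForm F (ι → F)}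

theorem omega_eq_eR_tri (hQ : (QuadraticMap.polarBilin Q).Nondegenerate) (hT : Tri Q) :
    Omega F ⇑Q = eR Q := by
  refine le_antisymm ?_ ((Subgroup.closure_le _).2 ?_)
  · rw [omega_eq_sR_all hQ hT]
    refine (Subgroup.closure_le _).2 ?_
    rintro g ⟨x, y, h, hg⟩
    obtain rfl : g = eOG h.ok := ogVal_ext hg
    exact eOG_mem_eR h.ok
  · rintro g ⟨x, y, h, hg⟩
    obtain rfl : g = eOG h := ogVal_ext hg
    exact sR_le_omega hQ hT (eOG_mem hQ hT h)

end Gen

theorem four_le_pow {j : ℕ} (hj : 1 ≤ j) : 4 ≤ Fintype.card F ^ (j + 1) :=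
  le_trans (by norm_num) (le_trans (Nat.pow_le_pow_left Fintype.one_lt_card 2)
    (Nat.pow_le_pow_right Fintype.card_pos (by omega : 2 ≤ j + 1)))

/-- Prepend two entries. -/
def two {n : ℕ} (x y : F) (v : Fin n → F) : Fin (n + 2) → F := Fin.cons x (Fin.cons y v)

theorem two_zero {n : ℕ} (x y : F) (v : Fin n → F) : two x y v 0 = x := rfl

theorem two_one {n : ℕ} (x y : F) (v : Fin n → F) : two x y v 1 = y := rfl

theorem two_succ {n : ℕ} (x y : F) (v : Fin n → F) (i : Fin n) : two x y v i.succ.succ = v i := rfl

theorem odd_model (h2 : (2 : F) ≠ 0) (j : ℕ) :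
    ∃ A A' : Omega F ⇑(qfOdd (j + 2) F), Subgroup.closure ({A, A'} : Set (Omega F ⇑(qfOdd (j + 2) F))) = ⊤ := by
  classical
  obtain ⟨ε, hε⟩ := FiniteField.exists_nonsquare (F := F)
    (fun hc => h2 (by haveI := ringChar.of_eq hc; exact CharTwo.two_eq_zero))
  have hb : (-ε : F) ≠ 0 := neg_ne_zero.2 fun h0 => hε (h0 ▸ IsSquare.zero)
  have hab : Aniso F 0 (-ε) := fun z₁ z₂ h => by
    by_cases hz : z₂ = 0
    · subst hz; exact ⟨by simpa using h, rfl⟩
    · exact absurd ⟨z₁ / z₂, by field_simp; linear_combination -h⟩ hε
  set b := -ε with hbdef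
  have hnd := nondegenerate_qfOdd (F := F) (j + 2) h2
  have hcard : 5 ≤ Fintype.card (Unit ⊕ (Fin (j + 2) ⊕ Fin (j + 2))) := by simp; omega
  let ψ : ((Fin j ⊕ Fin j) ⊕ Fin 2 → F) →ₗ[F] (Unit ⊕ (Fin (j + 2) ⊕ Fin (j + 2)) → F) :=
    { toFun := fun v => Sum.elim (fun _ => v (Sum.inr 0))
        (Sum.elim (two 0 (v (Sum.inr 1)) fun i => v (Sum.inl (Sum.inl i)))
          (two 0 (b * v (Sum.inr 1)) fun i => v (Sum.inl (Sum.inr i))))
      map_add' := fun x y => by
        funext i
        rcases i with u | (i | i)
        · simp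
        · induction i using Fin.cases with
          | zero => simp [two_zero]
          | succ i => induction i using Fin.cases <;> simp [two_one, two_succ, mul_add]
        · induction i using Fin.cases with
          | zero => simp [two_zero]
          | succ i => induction i using Fin.cases <;> simp [two_one, two_succ, mul_add]
      map_smul' := fun c x => by
        funext i
        rcases i with u | (i | i)
        · simp
        · induction i using Fin.cases with
          | zero => simp [two_zero]
          | succ i => induction i using Fin.cases <;> simp [two_one, two_succ, mul_left_comm]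
        · induction i using Fin.cases with
          | zero => simp [two_zero]
          | succ i => induction i using Fin.cases <;> simp [two_one, two_succ, mul_left_comm] }
  have hψa : ∀ v, ψ v = Sum.elim (fun _ => v (Sum.inr 0))
      (Sum.elim (two 0 (v (Sum.inr 1)) fun i => v (Sum.inl (Sum.inl i)))
        (two 0 (b * v (Sum.inr 1)) fun i => v (Sum.inl (Sum.inr i)))) := fun v => rfl
  let e : Unit ⊕ (Fin (j + 2) ⊕ Fin (j + 2)) → F := Sum.elim 0 (Sum.elim (two 1 0 0) 0)
  let f : Unit ⊕ (Fin (j + 2) ⊕ Fin (j + 2)) → F := Sum.elim 0 (Sum.elim 0 (two 1 0 0))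
  let z : Unit ⊕ (Fin (j + 2) ⊕ Fin (j + 2)) → F := Sum.elim 0 (Sum.elim (two 0 1 0) (two 0 (-b) 0))
  have hQz : qfOdd (j + 2) F z = -b := by
    simp [z, qfOdd_apply, quadFormOdd, Fin.sum_univ_succ, two_zero, two_one, two_succ]
  refine two_generated hnd (omega_eq_eR hnd h2 (by omega) (exists_singular_three hnd h2 (by omega)))
    (genQ_of_card (Or.inr (by omega))) j hab (e := e) (f := f) ⟨?_, ?_, ?_⟩ ψ (fun x => ?_) (fun x => ⟨?_, ?_⟩)
    (z := z) (v := z) ⟨?_, ?_⟩ ⟨?_, ?_⟩ (fun x => ?_) (fun x => ?_) ?_ ?_ (fun y hy hyψ => ?_) ?_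
  · simp [e, qfOdd_apply, quadFormOdd, Fin.sum_univ_succ, two_zero, two_one, two_succ]
  · simp [f, qfOdd_apply, quadFormOdd, Fin.sum_univ_succ, two_zero, two_one, two_succ]
  · simp [e, f, polar_qfOdd, Fin.sum_univ_succ, two_zero, two_one, two_succ]
  · simp [hψa, qfOdd_apply, qfMinus_apply, quadFormOdd, quadFormMinus, Fin.sum_univ_succ, two_zero, two_one,
      two_succ]
    ring
  · simp [hψa, e, polar_qfOdd, Fin.sum_univ_succ, two_zero, two_one, two_succ]
  · simp [hψa, f, polar_qfOdd, Fin.sum_univ_succ, two_zero, two_one, two_succ]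
  · simp [z, e, polar_qfOdd, Fin.sum_univ_succ, two_zero, two_one, two_succ]
  · simp [z, f, polar_qfOdd, Fin.sum_univ_succ, two_zero, two_one, two_succ]
  · simp [z, e, polar_qfOdd, Fin.sum_univ_succ, two_zero, two_one, two_succ]
  · simp [z, f, polar_qfOdd, Fin.sum_univ_succ, two_zero, two_one, two_succ]
  · simp [hψa, z, polar_qfOdd, Fin.sum_univ_succ, two_zero, two_one, two_succ]
    ring
  · simp [hψa, z, polar_qfOdd, Fin.sum_univ_succ, two_zero, two_one, two_succ]
    ring
  · rw [hQz]; exact neg_ne_zero.2 hb
  · rw [polar_self2, hQz]; exact mul_ne_zero h2 (neg_ne_zero.2 hb)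
  · refine ⟨y (Sum.inr (Sum.inl (Fin.succ 0))), 0, ?_⟩
    have t0 := hyψ (Pi.single (Sum.inr 0) 1)
    have t1 := hyψ (Pi.single (Sum.inr 1) 1)
    have tl := fun i => hyψ (Pi.single (Sum.inl (Sum.inl i)) 1)
    have tr := fun i => hyψ (Pi.single (Sum.inl (Sum.inr i)) 1)
    have he := hy.1
    have hf := hy.2
    simp [e, f, hψa, polar_qfOdd, Fin.sum_univ_succ, two_zero, two_one, two_succ, Pi.single_apply] at t0 t1 tl tr he hf
    funext i
    rcases i with u | (i | i)
    · have : y (Sum.inl u) = 0 := by
        cases u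
        exact t0.resolve_left h2
      simp [z, this]
    · induction i using Fin.cases with
      | zero => simp [z, two_zero, hf]
      | succ i =>
        induction i using Fin.cases with
        | zero => simp [z, two_one]
        | succ i => simp [z, two_succ, tr]
    · induction i using Fin.cases with
      | zero => simp [z, two_zero, he]
      | succ i =>
        induction i using Fin.cases with
        | zero => simp [z, two_one]; linear_combination t1
        | succ i => simp [z, two_succ, tl]
  · rcases Nat.eq_zero_or_pos j with rfl | hj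
    · by_cases h4 : 4 ≤ Fintype.card F
      · exact Or.inl (by simpa using h4)
      · refine Or.inr ⟨rfl, ?_, rfl⟩
        have h1 : 1 < Fintype.card F := Fintype.one_lt_card
        have h2' := FiniteField.odd_card_of_char_ne_two (F := F)
          (fun hc => h2 (by haveI := ringChar.of_eq hc; exact CharTwo.two_eq_zero))
        omega
    · exact Or.inl (four_le_pow hj)

theorem minus_model (j : ℕ) (hj : 1 ≤ j) {a b : F} (hab : Aniso F a b) :
    ∃ A A' : Omega F ⇑(qfMinus (j + 2) F a b),
      Subgroup.closure ({A, A'} : Set (Omega F ⇑(qfMinus (j + 2) F a b))) = ⊤ := by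
  classical
  have hnd := nondegenerate_qfMinus (F := F) (j + 2) hab
  let ψ : ((Fin j ⊕ Fin j) ⊕ Fin 2 → F) →ₗ[F] ((Fin (j + 2) ⊕ Fin (j + 2)) ⊕ Fin 2 → F) :=
    { toFun := fun v => Sum.elim (Sum.elim (two 0 0 fun i => v (Sum.inl (Sum.inl i)))
        (two 0 0 fun i => v (Sum.inl (Sum.inr i)))) fun i => v (Sum.inr i)
      map_add' := fun x y => by
        funext i
        rcases i with (i | i) | u
        · induction i using Fin.cases with
          | zero => simp [two_zero]
          | succ i => induction i using Fin.cases <;> simp [two_one, two_succ]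
        · induction i using Fin.cases with
          | zero => simp [two_zero]
          | succ i => induction i using Fin.cases <;> simp [two_one, two_succ]
        · simp
      map_smul' := fun c x => by
        funext i
        rcases i with (i | i) | u
        · induction i using Fin.cases with
          | zero => simp [two_zero]
          | succ i => induction i using Fin.cases <;> simp [two_one, two_succ]
        · induction i using Fin.cases with
          | zero => simp [two_zero]
          | succ i => induction i using Fin.cases <;> simp [two_one, two_succ]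
        · simp }
  have hψa : ∀ v, ψ v = Sum.elim (Sum.elim (two 0 0 fun i => v (Sum.inl (Sum.inl i)))
      (two 0 0 fun i => v (Sum.inl (Sum.inr i)))) fun i => v (Sum.inr i) := fun v => rfl
  let e : (Fin (j + 2) ⊕ Fin (j + 2)) ⊕ Fin 2 → F := Sum.elim (Sum.elim (two 1 0 0) 0) 0
  let f : (Fin (j + 2) ⊕ Fin (j + 2)) ⊕ Fin 2 → F := Sum.elim (Sum.elim 0 (two 1 0 0)) 0
  let z : (Fin (j + 2) ⊕ Fin (j + 2)) ⊕ Fin 2 → F := Sum.elim (Sum.elim (two 0 1 0) 0) 0
  let v₀ : (Fin (j + 2) ⊕ Fin (j + 2)) ⊕ Fin 2 → F := Sum.elim (Sum.elim (two 0 1 0) (two 0 1 0)) 0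
  refine two_generated hnd (omega_eq_eR_tri hnd (tri_qfMinus (by omega) a b))
    (genQ_of_card (Or.inr (by rw [card_iota]; omega))) j hab (e := e) (f := f) ⟨?_, ?_, ?_⟩ ψ (fun x => ?_)
    (fun x => ⟨?_, ?_⟩) (z := z) (v := v₀) ⟨?_, ?_⟩ ⟨?_, ?_⟩ (fun x => ?_) (fun x => ?_) ?_ ?_ (fun y hy hyψ => ?_)
    (Or.inl (four_le_pow hj))
  · simp [e, qfMinus_apply, quadFormMinus, Fin.sum_univ_succ, two_zero, two_one, two_succ]
  · simp [f, qfMinus_apply, quadFormMinus, Fin.sum_univ_succ, two_zero, two_one, two_succ]
  · simp [e, f, polar_qfMinus, Fin.sum_univ_succ, two_zero, two_one, two_succ]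
  · simp [hψa, qfMinus_apply, quadFormMinus, Fin.sum_univ_succ, two_zero, two_one, two_succ]
  · simp [hψa, e, polar_qfMinus, Fin.sum_univ_succ, two_zero, two_one, two_succ]
  · simp [hψa, f, polar_qfMinus, Fin.sum_univ_succ, two_zero, two_one, two_succ]
  · simp [z, e, polar_qfMinus, Fin.sum_univ_succ, two_zero, two_one, two_succ]
  · simp [z, f, polar_qfMinus, Fin.sum_univ_succ, two_zero, two_one, two_succ]
  · simp [v₀, e, polar_qfMinus, Fin.sum_univ_succ, two_zero, two_one, two_succ]
  · simp [v₀, f, polar_qfMinus, Fin.sum_univ_succ, two_zero, two_one, two_succ]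
  · simp [hψa, z, polar_qfMinus, Fin.sum_univ_succ, two_zero, two_one, two_succ]
  · simp [hψa, v₀, polar_qfMinus, Fin.sum_univ_succ, two_zero, two_one, two_succ]
  · simp [v₀, qfMinus_apply, quadFormMinus, Fin.sum_univ_succ, two_zero, two_one, two_succ]
  · simp [v₀, z, polar_qfMinus, Fin.sum_univ_succ, two_zero, two_one, two_succ]
  · refine ⟨y (Sum.inl (Sum.inl (Fin.succ 0))) - y (Sum.inl (Sum.inr (Fin.succ 0))),
      y (Sum.inl (Sum.inr (Fin.succ 0))), ?_⟩
    have hplane : y (Sum.inr 0) = 0 ∧ y (Sum.inr 1) = 0 := by
      have t0 := hyψ (Pi.single (Sum.inr 0) (y (Sum.inr 0)))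
      have t1 := hyψ (Pi.single (Sum.inr 1) (y (Sum.inr 1)))
      simp [hψa, polar_qfMinus, Fin.sum_univ_succ, two_zero, two_one, two_succ, Pi.single_apply] at t0 t1
      refine hab _ _ ?_
      have s0 := hyψ (Pi.single (Sum.inr 0) 1)
      have s1 := hyψ (Pi.single (Sum.inr 1) 1)
      simp [hψa, polar_qfMinus, Fin.sum_univ_succ, two_zero, two_one, two_succ, Pi.single_apply] at s0 s1
      by_cases h2 : (2 : F) = 0
      · have ha0 : a ≠ 0 := by
          rintro rfl
          haveI := CharTwo.of_one_ne_zero_of_two_eq_zero (one_ne_zero (α := F)) h2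
          obtain ⟨c, hc⟩ := FiniteField.isSquare_of_char_two (ringChar.eq F 2) b
          exact one_ne_zero (hab c 1 (by linear_combination (-1 : F) * hc + b * h2)).2
        have y1 : y (Sum.inr 1) = 0 := by
          have : a * y (Sum.inr 1) = 0 := by linear_combination s0 - y (Sum.inr 0) * h2
          exact (mul_eq_zero.1 this).resolve_left ha0
        have y0 : y (Sum.inr 0) = 0 := by
          have : a * y (Sum.inr 0) = 0 := by linear_combination s1 - b * y (Sum.inr 1) * h2
          exact (mul_eq_zero.1 this).resolve_left ha0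
        rw [y0, y1]; ring
      · refine mul_left_cancel₀ h2 ?_
        linear_combination y (Sum.inr 0) * s0 + y (Sum.inr 1) * s1
    have tl := fun i => hyψ (Pi.single (Sum.inl (Sum.inl i)) 1)
    have tr := fun i => hyψ (Pi.single (Sum.inl (Sum.inr i)) 1)
    have he := hy.1
    have hf := hy.2
    simp [e, f, hψa, polar_qfMinus, Fin.sum_univ_succ, two_zero, two_one, two_succ, Pi.single_apply] at tl tr he hf
    funext i
    rcases i with (i | i) | u
    · induction i using Fin.cases with
      | zero => simp [z, v₀, two_zero, hf]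
      | succ i =>
        induction i using Fin.cases with
        | zero => simp [z, v₀, two_one]
        | succ i => simp [z, v₀, two_succ, tr]
    · induction i using Fin.cases with
      | zero => simp [z, v₀, two_zero, he]
      | succ i =>
        induction i using Fin.cases with
        | zero => simp [z, v₀, two_one]
        | succ i => simp [z, v₀, two_succ, tl]
    · revert u
      rw [Fin.forall_fin_two]
      exact ⟨by simp [z, v₀, hplane.1], by simp [z, v₀, hplane.2]⟩

/-- Prepend three entries. -/
def three {n : ℕ} (x y w : F) (v : Fin n → F) : Fin (n + 3) → F := Fin.cons x (two y w v)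

theorem three_zero {n : ℕ} (x y w : F) (v : Fin n → F) : three x y w v 0 = x := rfl

theorem three_one {n : ℕ} (x y w : F) (v : Fin n → F) : three x y w v 1 = y := rfl

theorem three_two' {n : ℕ} (x y w : F) (v : Fin n → F) : three x y w v 2 = w := rfl

theorem three_succ {n : ℕ} (x y w : F) (v : Fin n → F) (i : Fin n) : three x y w v i.succ.succ.succ = v i := rfl

theorem plus_model (j : ℕ) (hj : 1 ≤ j) :
    ∃ A A' : Omega F ⇑(qfPlus (j + 3) F), Subgroup.closure ({A, A'} : Set (Omega F ⇑(qfPlus (j + 3) F))) = ⊤ := by
  classical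
  obtain ⟨a, b, hab⟩ := exists_aniso F
  have hnd := nondegenerate_qfPlus (F := F) (j + 3)
  let ψ : ((Fin j ⊕ Fin j) ⊕ Fin 2 → F) →ₗ[F] (Fin (j + 3) ⊕ Fin (j + 3) → F) :=
    { toFun := fun v => Sum.elim (three 0 (v (Sum.inr 0)) (v (Sum.inr 1)) fun i => v (Sum.inl (Sum.inl i)))
        (three 0 (v (Sum.inr 0) + a * v (Sum.inr 1)) (b * v (Sum.inr 1)) fun i => v (Sum.inl (Sum.inr i)))
      map_add' := fun x y => by
        funext i
        rcases i with i | i <;>
        · induction i using Fin.cases with
          | zero => simp [three_zero]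
          | succ i =>
            induction i using Fin.cases with
            | zero =>
              simp [three_one]
              try ring
            | succ i =>
              induction i using Fin.cases <;> simp [three_two', three_succ] <;> try ring
      map_smul' := fun c x => by
        funext i
        rcases i with i | i <;>
        · induction i using Fin.cases with
          | zero => simp [three_zero]
          | succ i =>
            induction i using Fin.cases with
            | zero =>
              simp [three_one]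
              try ring
            | succ i =>
              induction i using Fin.cases <;> simp [three_two', three_succ] <;> try ring }
  have hψa : ∀ v, ψ v = Sum.elim (three 0 (v (Sum.inr 0)) (v (Sum.inr 1)) fun i => v (Sum.inl (Sum.inl i)))
      (three 0 (v (Sum.inr 0) + a * v (Sum.inr 1)) (b * v (Sum.inr 1)) fun i => v (Sum.inl (Sum.inr i))) :=
    fun v => rfl
  obtain ⟨t, ht⟩ : ∃ t : F, t * 2 + a ≠ 0 := by
    by_cases ha : a = 0
    · refine ⟨1, ?_⟩
      subst ha
      intro h
      have h2 : (2 : F) = 0 := by linear_combination h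
      haveI := CharTwo.of_one_ne_zero_of_two_eq_zero (one_ne_zero (α := F)) h2
      obtain ⟨c, hc⟩ := FiniteField.isSquare_of_char_two (ringChar.eq F 2) b
      exact one_ne_zero (hab c 1 (by linear_combination (-1 : F) * hc + b * h2)).2
    · exact ⟨0, by simpa using ha⟩
  let e : Fin (j + 3) ⊕ Fin (j + 3) → F := Sum.elim (three 1 0 0 0) 0
  let f : Fin (j + 3) ⊕ Fin (j + 3) → F := Sum.elim 0 (three 1 0 0 0)
  let z : Fin (j + 3) ⊕ Fin (j + 3) → F := Sum.elim (three 0 1 0 0) (three 0 (-1) (-a) 0)
  let v₀ : Fin (j + 3) ⊕ Fin (j + 3) → F := Sum.elim (three 0 t 1 0) (three 0 (-t) (-a * t - b) 0)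
  have hQv : qfPlus (j + 3) F v₀ = -(t ^ 2 + a * t + b) := by
    simp [v₀, qfPlus_apply, quadFormPlus, Fin.sum_univ_succ, three_zero, three_one, three_two', three_succ]
    ring
  refine two_generated hnd (omega_eq_eR_tri hnd (tri_qfPlus (by omega)))
    (genQ_of_card (Or.inr (by simp; omega))) j hab (e := e) (f := f) ⟨?_, ?_, ?_⟩ ψ (fun x => ?_)
    (fun x => ⟨?_, ?_⟩) (z := z) (v := v₀) ⟨?_, ?_⟩ ⟨?_, ?_⟩ (fun x => ?_) (fun x => ?_) ?_ ?_ (fun y hy hyψ => ?_)
    (Or.inl (four_le_pow hj))
  · simp [e, qfPlus_apply, quadFormPlus, Fin.sum_univ_succ, three_zero, three_one, three_two', three_succ]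
  · simp [f, qfPlus_apply, quadFormPlus, Fin.sum_univ_succ, three_zero, three_one, three_two', three_succ]
  · simp [e, f, polar_qfPlus, Fin.sum_univ_succ, three_zero, three_one, three_two', three_succ]
  · simp [hψa, qfPlus_apply, qfMinus_apply, quadFormPlus, quadFormMinus, Fin.sum_univ_succ, three_zero, three_one,
      three_two', three_succ]
    ring
  · simp [hψa, e, polar_qfPlus, Fin.sum_univ_succ, three_zero, three_one, three_two', three_succ]
  · simp [hψa, f, polar_qfPlus, Fin.sum_univ_succ, three_zero, three_one, three_two', three_succ]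
  · simp [z, e, polar_qfPlus, Fin.sum_univ_succ, three_zero, three_one, three_two', three_succ]
  · simp [z, f, polar_qfPlus, Fin.sum_univ_succ, three_zero, three_one, three_two', three_succ]
  · simp [v₀, e, polar_qfPlus, Fin.sum_univ_succ, three_zero, three_one, three_two', three_succ]
  · simp [v₀, f, polar_qfPlus, Fin.sum_univ_succ, three_zero, three_one, three_two', three_succ]
  · simp [hψa, z, polar_qfPlus, Fin.sum_univ_succ, three_zero, three_one, three_two', three_succ]
    ring
  · simp [hψa, v₀, polar_qfPlus, Fin.sum_univ_succ, three_zero, three_one, three_two', three_succ]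
    ring
  · rw [hQv]; exact neg_ne_zero.2 (no_root hab t)
  · intro h
    apply ht
    simp [v₀, z, polar_qfPlus, Fin.sum_univ_succ, three_zero, three_one, three_two', three_succ] at h
    linear_combination -h
  · refine ⟨y (Sum.inl 1) - t * y (Sum.inl (Fin.succ 1)), y (Sum.inl (Fin.succ 1)), ?_⟩
    have t0 := hyψ (Pi.single (Sum.inr 0) 1)
    have t1 := hyψ (Pi.single (Sum.inr 1) 1)
    have tl := fun i => hyψ (Pi.single (Sum.inl (Sum.inl i)) 1)
    have tr := fun i => hyψ (Pi.single (Sum.inl (Sum.inr i)) 1)
    have he := hy.1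
    have hf := hy.2
    simp [e, f, hψa, polar_qfPlus, Fin.sum_univ_succ, three_zero, three_one, three_two', three_succ,
      Pi.single_apply] at t0 t1 tl tr he hf
    funext i
    rcases i with i | i
    · induction i using Fin.cases with
      | zero => simp [z, v₀, three_zero, hf]
      | succ i =>
        induction i using Fin.cases with
        | zero => simp [z, v₀, three_one]; ring
        | succ i =>
          induction i using Fin.cases with
          | zero => simp [z, v₀, three_two']
          | succ i => simp [z, v₀, three_succ, tr]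
    · induction i using Fin.cases with
      | zero => simp [z, v₀, three_zero, he]
      | succ i =>
        induction i using Fin.cases with
        | zero => simp [z, v₀, three_one]; linear_combination t0
        | succ i =>
          induction i using Fin.cases with
          | zero => simp [z, v₀, three_two']; linear_combination t1
          | succ i => simp [z, v₀, three_succ, tl]

end Cfsg.Agent.Classical.OrthTwoGen
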