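import Cfsg.Agent.Lib.Classical.MatSquarePSp
import Cfsg.Agent.Lib.Classical.OrthTwoGenModels
import Cfsg.Agent.Lib.Lie.CurtisTitsTypeD

/-!
The split orthogonal groups on the coordinates `z, x_i, y_i`, with the form `z ^ 2 + ∑ x_i y_i`: the
Levi factor, Siegel transformations, generation and cyclicity.
-/

set_option autoImplicit false
set_option linter.unusedSectionVars false
set_option maxHeartbeats 2000000

namespace Cfsg.Agent.Classical.MatRootData

open Matrix Cfsg.Agent.Classical.OrthAut Cfsg.Agent.Lie.Chev Cfsg.Agent.Lie.CurtisTitsA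
open Cfsg.Agent.Lie.SpnPres (tinv tinv_val tinv_tinv sval_mul sval_one sval_inv_mul sval_mul_inv)
open scoped MatrixGroups

variable (κ : Type) [Fintype κ] [DecidableEq κ] [Subsingleton κ] (m : ℕ) (F : Type*) [Field F] [Fintype F]

/-- The coordinates. -/
abbrev OIdx := κ ⊕ (Fin m ⊕ Fin m)

/-- The coordinate of an `x`. -/
abbrev ox (i : Fin m) : OIdx κ m := Sum.inr (Sum.inl i)

/-- The coordinate of a `y`. -/
abbrev oy (i : Fin m) : OIdx κ m := Sum.inr (Sum.inr i)

/-- The split quadratic form. -/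
noncomputable def qK : QuadraticForm F (OIdx κ m → F) :=
  (∑ c : κ, QuadraticMap.linMulLin (LinearMap.proj (Sum.inl c)) (LinearMap.proj (Sum.inl c))) +
    ∑ i : Fin m, QuadraticMap.linMulLin (LinearMap.proj (Sum.inr (Sum.inl i)))
      (LinearMap.proj (Sum.inr (Sum.inr i)))

/-- The group `Ω`. -/
abbrev OOm := ↥(Cfsg.Omega F ⇑(qK κ m F))

/-- The matrix of an element of `Ω`. -/
noncomputable def oRho : OOm κ m F →* Matrix (OIdx κ m) (OIdx κ m) F where
  toFun g := ogVal (g : isometryGroup F ⇑(qK κ m F))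
  map_one' := ogVal_one
  map_mul' _ _ := ogVal_mul _ _

variable {κ m F}

theorem oRho_inj : Function.Injective (oRho κ m F) := fun _ _ h => Subtype.ext (ogVal_ext h)

theorem oRho_apply (g : OOm κ m F) : oRho κ m F g = ogVal (g : isometryGroup F ⇑(qK κ m F)) := rfl

theorem qK_apply (v : OIdx κ m → F) :
    qK κ m F v = (∑ c, v (Sum.inl c) * v (Sum.inl c)) + ∑ i, v (ox κ m i) * v (oy κ m i) := by
  simp [qK]

theorem polar_qK (u v : OIdx κ m → F) :
    QuadraticMap.polar ⇑(qK κ m F) u v = (∑ c, 2 * u (Sum.inl c) * v (Sum.inl c)) +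
      ∑ i, (u (ox κ m i) * v (oy κ m i) + v (ox κ m i) * u (oy κ m i)) := by
  rw [QuadraticMap.polar, qK_apply, qK_apply, qK_apply, add_sub_add_comm, add_sub_add_comm]
  simp only [← Finset.sum_sub_distrib, Pi.add_apply]
  congr 1 <;> exact Finset.sum_congr rfl fun i _ => by ring

theorem polar_ox (i : Fin m) (v : OIdx κ m → F) :
    QuadraticMap.polar ⇑(qK κ m F) (Pi.single (ox κ m i) 1) v = v (oy κ m i) := by
  rw [polar_qK, Finset.sum_eq_single i (fun j _ hj => by simp [Ne.symm hj, hj]) (by simp),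
    Finset.sum_eq_zero fun c _ => by simp]
  simp

theorem polar_oy (i : Fin m) (v : OIdx κ m → F) :
    QuadraticMap.polar ⇑(qK κ m F) (Pi.single (oy κ m i) 1) v = v (ox κ m i) := by
  rw [polar_qK, Finset.sum_eq_single i (fun j _ hj => by simp [Ne.symm hj, hj]) (by simp),
    Finset.sum_eq_zero fun c _ => by simp]
  simp

theorem polar_oz (c : κ) (v : OIdx κ m → F) :
    QuadraticMap.polar ⇑(qK κ m F) (Pi.single (Sum.inl c) 1) v = 2 * v (Sum.inl c) := by
  rw [polar_qK, Finset.sum_eq_single c (fun j _ hj => by simp [hj]) (by simp),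
    Finset.sum_eq_zero fun i _ => by simp]
  simp

theorem qK_ox (i : Fin m) : qK κ m F (Pi.single (ox κ m i) 1) = 0 := by simp [qK_apply, Pi.single_apply]

theorem qK_oy (i : Fin m) : qK κ m F (Pi.single (oy κ m i) 1) = 0 := by simp [qK_apply, Pi.single_apply]

theorem qK_oz (c : κ) : qK κ m F (Pi.single (Sum.inl c) 1) = 1 := by
  rw [qK_apply, Finset.sum_eq_single c (fun j _ hj => by simp [hj]) (by simp),
    Finset.sum_eq_zero fun i _ => by simp]
  simp

theorem nondegenerate_qK (h2 : ∀ _ : κ, (2 : F) ≠ 0) :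
    (QuadraticMap.polarBilin (qK κ m F)).Nondegenerate := by
  refine nondegenerate_of_separatingLeft _ fun u hu => funext fun x => ?_
  rcases x with c | i | i
  · have h := hu (Pi.single (Sum.inl c) 1)
    rw [QuadraticMap.polarBilin_apply_apply, QuadraticMap.polar_comm, polar_oz] at h
    exact (mul_eq_zero.1 h).resolve_left (h2 c)
  · have h := hu (Pi.single (oy κ m i) 1)
    rw [QuadraticMap.polarBilin_apply_apply, QuadraticMap.polar_comm, polar_oy] at h
    exact h
  · have h := hu (Pi.single (ox κ m i) 1)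
    rw [QuadraticMap.polarBilin_apply_apply, QuadraticMap.polar_comm, polar_ox] at h
    exact h

theorem tri_qK (hm : 3 ≤ m) : Tri (qK κ m F) :=
  tri_of_injection _ hm (ox κ m) (fun a b h => by simpa using h) fun c => by
    simp [qK_apply, Finset.sum_apply, Pi.single_apply]

theorem omega_qK (hm : 3 ≤ m) (h2 : ∀ _ : κ, (2 : F) ≠ 0) :
    Cfsg.Omega F ⇑(qK κ m F) = eR (qK κ m F) :=
  OrthTwoGen.omega_eq_eR_tri (nondegenerate_qK h2) (tri_qK hm)

/-! The Levi factor. -/

theorem tinv_of_mul' {A : SpecialLinearGroup (Fin m) F} {B : Matrix (Fin m) (Fin m) F}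
    (h : A.1ᵀ * B = 1) : (tinv A).1 = B := by
  have h1 : (tinv A).1 * A.1ᵀ = 1 := by rw [tinv_val, ← transpose_mul, sval_mul_inv, transpose_one]
  calc (tinv A).1 = (tinv A).1 * (A.1ᵀ * B) := by rw [h, mul_one]
    _ = B := by rw [← mul_assoc, h1, one_mul]

variable (κ m F) in
/-- The matrix of a Levi element. -/
def oLevM : SpecialLinearGroup (Fin m) F →* Matrix (OIdx κ m) (OIdx κ m) F where
  toFun A := fromBlocks 1 0 0 (fromBlocks A.1 0 0 (tinv A).1)
  map_one' := by simp [fromBlocks_one]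
  map_mul' A B := by
    rw [map_mul, sval_mul, sval_mul, fromBlocks_multiply, fromBlocks_multiply]
    simp

theorem oLevM_mulVec (A : SpecialLinearGroup (Fin m) F) (v : OIdx κ m → F) :
    oLevM κ m F A *ᵥ v = Sum.elim (fun c => v (Sum.inl c))
      (Sum.elim (A.1 *ᵥ fun i => v (ox κ m i)) ((tinv A).1 *ᵥ fun i => v (oy κ m i))) := by
  show fromBlocks 1 0 0 (fromBlocks A.1 0 0 (tinv A).1) *ᵥ v = _
  rw [fromBlocks_mulVec, fromBlocks_mulVec]
  simp [Function.comp_def]

theorem oLevM_quad (A : SpecialLinearGroup (Fin m) F) (v : OIdx κ m → F) :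
    qK κ m F (oLevM κ m F A *ᵥ v) = qK κ m F v := by
  rw [oLevM_mulVec, qK_apply, qK_apply]
  congr 1
  show (A.1 *ᵥ fun i => v (ox κ m i)) ⬝ᵥ ((tinv A).1 *ᵥ fun i => v (oy κ m i)) = _
  rw [dotProduct_mulVec, tinv_val, vecMul_transpose, mulVec_mulVec, sval_inv_mul, one_mulVec]
  rfl

variable (κ m F) in
/-- The Levi factor. -/
noncomputable def oLev : SpecialLinearGroup (Fin m) F →* isometryGroup F ⇑(qK κ m F) :=
  (oLevM κ m F).toHomUnits.codRestrict _ fun A => mem_isometryGroup.2 fun v => by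
    rw [MonoidHom.coe_toHomUnits]; exact oLevM_quad A v

theorem ogVal_oLev (A : SpecialLinearGroup (Fin m) F) : ogVal (oLev κ m F A) = oLevM κ m F A := rfl

theorem oLev_mem (hm : 3 ≤ m) (A : SpecialLinearGroup (Fin m) F) :
    oLev κ m F A ∈ Cfsg.Omega F ⇑(qK κ m F) :=
  range_le_commutator (perfect_SL hm) _ ⟨A, rfl⟩

variable (κ F) in
/-- The Levi factor in `Ω`. -/
noncomputable def oLevOm (hm : 3 ≤ m) : SpecialLinearGroup (Fin m) F →* OOm κ m F :=
  (oLev κ m F).codRestrict _ (oLev_mem hm)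

theorem oRho_oLevOm (hm : 3 ≤ m) (A : SpecialLinearGroup (Fin m) F) :
    oRho κ m F (oLevOm κ F hm A) = oLevM κ m F A := rfl

/-- A Siegel transformation as a subgroup member. -/
def Sieg (S : Subgroup (isometryGroup F ⇑(qK κ m F))) (e w : OIdx κ m → F) : Prop :=
  ∀ h : OK (qK κ m F) e w, eOG h ∈ S

variable {S : Subgroup (isometryGroup F ⇑(qK κ m F))}

theorem Sieg.add {e w w' : OIdx κ m → F} (he : OK (qK κ m F) e w) (h : Sieg S e w) (h' : Sieg S e w') :
    Sieg S e (w + w') := fun hh => by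
  have he' : OK (qK κ m F) e w' := ⟨hh.1, by
    have := hh.2
    rwa [QuadraticMap.polar_add_right, he.2, zero_add] at this⟩
  rw [show eOG hh = eOG he * eOG he' from ogVal_ext (by
    rw [ogVal_mul, eOG_val, eOG_val, eOG_val, eMat_mul he he'])]
  exact mul_mem (h he) (h' he')

theorem sieg_self (e : OIdx κ m → F) (c : F) : Sieg S e (c • e) := fun hh => by
  have : eOG hh = 1 := ogVal_ext (Matrix.ext_iff_mulVec.2 fun x => by
    rw [eOG_val, eMat_mulVec, ogVal_one, Matrix.one_mulVec, QuadraticMap.polar_smul_left,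
      QuadraticMap.map_smul, hh.1]
    simp only [smul_eq_mul, mul_zero, zero_mul, zero_smul, sub_zero]
    module)
  rw [this]; exact one_mem _

theorem sieg_zero (e : OIdx κ m → F) : Sieg S e 0 := by simpa using sieg_self (S := S) e 0

/-- A conjugate of a Siegel transformation. -/
theorem Sieg.conj {g : isometryGroup F ⇑(qK κ m F)} (hg : g ∈ S) {e w : OIdx κ m → F}
    (he : OK (qK κ m F) e w) (h : Sieg S e w) : Sieg S (ogVal g *ᵥ e) (ogVal g *ᵥ w) := fun hh => by
  rw [show eOG hh = g * eOG he * g⁻¹ from ogVal_ext (by rw [conj_eOG, eOG_val])]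
  exact mul_mem (mul_mem hg (h he)) (inv_mem hg)

theorem sieg_sum {e : OIdx κ m → F} (he : qK κ m F e = 0) (w : OIdx κ m → F)
    (hw : ∀ p, OK (qK κ m F) e (w p • Pi.single p 1) ∧ Sieg S e (w p • Pi.single p 1)) : Sieg S e w := by
  rw [pi_eq_sum_univ' w]
  have key : ∀ s : Finset (OIdx κ m), OK (qK κ m F) e (∑ p ∈ s, w p • Pi.single p 1) ∧
      Sieg S e (∑ p ∈ s, w p • Pi.single p 1) := by
    intro s
    induction s using Finset.induction_on with
    | empty => simpa using ⟨OK.zero he, sieg_zero e⟩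
    | insert p s hp ih =>
      rw [Finset.sum_insert hp]
      exact ⟨(hw p).1.add ih.1, (hw p).2.add (hw p).1 ih.2⟩
  exact (key _).2

theorem oLev_tv {i j : Fin m} (hij : i ≠ j) (t : F) :
    ∃ h : OK (qK κ m F) (Pi.single (ox κ m i) 1) ((-t) • Pi.single (oy κ m j) 1),
      eOG h = oLev κ m F (tvN i j hij t) := by
  have hok : OK (qK κ m F) (Pi.single (ox κ m i) 1) ((-t) • Pi.single (oy κ m j) 1) :=
    ⟨qK_ox i, by rw [polar_ox]; simp [Pi.single_apply, hij]⟩
  refine ⟨hok, ogVal_ext (Matrix.ext_iff_mulVec.2 fun v => ?_)⟩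
  rw [eOG_val, ogVal_oLev, eMat_mulVec, oLevM_mulVec, polar_ox, QuadraticMap.polar_smul_left, polar_oy,
    QuadraticMap.map_smul, qK_oy]
  have ht : (tinv (tvN i j hij t)).1 = Matrix.transvection j i (-t) := tinv_of_mul' (by
    rw [tvN_val, Matrix.transvection, Matrix.transpose_add, Matrix.transpose_one, Matrix.transpose_single]
    show Matrix.transvection j i t * _ = _
    rw [Matrix.transvection_mul_transvection_same j i hij.symm, add_neg_cancel, Matrix.transvection_zero])
  rw [ht, tvN_val, Matrix.transvection, Matrix.transvection, Matrix.add_mulVec, Matrix.add_mulVec,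
    Matrix.one_mulVec, Matrix.one_mulVec, Matrix.single_mulVec, Matrix.single_mulVec]
  funext p
  rcases p with c | p | p
  · simp
  · by_cases hp : p = i
    · subst hp; simp [hij]
    · simp [hp]
  · by_cases hp : p = j
    · subst hp; simp; ring
    · simp [hp]

/-- A signed permutation in `SL`. -/
noncomputable def mono (σ : Equiv.Perm (Fin m)) (a : Fin m) : SpecialLinearGroup (Fin m) F :=
  ⟨(Matrix.diagonal fun q : Fin m => if q = a then ((Equiv.Perm.sign σ : ℤ) : F) else 1).submatrix σ.symm id, by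
    rw [Matrix.det_permute, Matrix.det_diagonal, Finset.prod_eq_single a (fun q _ hq => if_neg hq) (by simp),
      if_pos rfl, Equiv.Perm.sign_symm, ← Int.cast_mul, ← Units.val_mul, Int.units_mul_self]
    simp⟩

theorem mono_mulVec (σ : Equiv.Perm (Fin m)) (a q : Fin m) :
    (mono (F := F) σ a).1 *ᵥ Pi.single q 1 =
      (if q = a then ((Equiv.Perm.sign σ : ℤ) : F) else 1) • Pi.single (σ q) 1 := by
  funext p
  show ((Matrix.diagonal fun q : Fin m => if q = a then ((Equiv.Perm.sign σ : ℤ) : F) else 1).submatrix σ.symm id *ᵥ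
    Pi.single q 1) p = _
  rw [Matrix.mulVec_single_one]
  show (Matrix.diagonal fun q : Fin m => if q = a then ((Equiv.Perm.sign σ : ℤ) : F) else 1) (σ.symm p) q = _
  by_cases h : p = σ q
  · subst h; simp
  · have : σ.symm p ≠ q := fun e => h (by rw [← e, Equiv.apply_symm_apply])
    simp [Matrix.diagonal_apply_ne _ this, h]

theorem sign_sq (σ : Equiv.Perm (Fin m)) :
    ((Equiv.Perm.sign σ : ℤ) : F) * ((Equiv.Perm.sign σ : ℤ) : F) = 1 := by
  rw [← Int.cast_mul, ← Units.val_mul, Int.units_mul_self]; simp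

theorem mono_tinv (σ : Equiv.Perm (Fin m)) (a q : Fin m) :
    (tinv (mono (F := F) σ a)).1 *ᵥ Pi.single q 1 =
      (if q = a then ((Equiv.Perm.sign σ : ℤ) : F) else 1) • Pi.single (σ q) 1 := by
  rw [tinv_of_mul' (B := (mono (F := F) σ a).1) ?_, mono_mulVec]
  refine Matrix.ext fun p q => ?_
  rw [Matrix.mul_apply, Finset.sum_eq_single (σ p) (fun r _ hr => ?_) (by simp)]
  · show (Matrix.diagonal fun q : Fin m => if q = a then ((Equiv.Perm.sign σ : ℤ) : F) else 1) (σ.symm (σ p)) p *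
      (Matrix.diagonal fun q : Fin m => if q = a then ((Equiv.Perm.sign σ : ℤ) : F) else 1) (σ.symm (σ p)) q = _
    rw [Equiv.symm_apply_apply, Matrix.diagonal_apply_eq]
    by_cases h : p = q
    · subst h
      rw [Matrix.diagonal_apply_eq, Matrix.one_apply_eq]
      split_ifs <;> simp [sign_sq]
    · simp [h]
  · show (Matrix.diagonal fun q : Fin m => if q = a then ((Equiv.Perm.sign σ : ℤ) : F) else 1) (σ.symm r) p * _ = 0
    rw [Matrix.diagonal_apply_ne _ fun e => hr (by rw [← e, Equiv.apply_symm_apply]), zero_mul]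

theorem oLevM_single_x (A : SpecialLinearGroup (Fin m) F) (i : Fin m) :
    oLevM κ m F A *ᵥ Pi.single (ox κ m i) 1 = Sum.elim (0 : κ → F) (Sum.elim (A.1 *ᵥ Pi.single i 1) (0 : Fin m → F)) := by
  rw [oLevM_mulVec]
  have e1 : (fun j => (Pi.single (ox κ m i) (1 : F) : OIdx κ m → F) (ox κ m j)) = Pi.single i 1 := by
    funext j; simp [Pi.single_apply]
  have e2 : (fun j => (Pi.single (ox κ m i) (1 : F) : OIdx κ m → F) (oy κ m j)) = 0 := by
    funext j; simp
  rw [e1, e2, Matrix.mulVec_zero]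
  funext p; rcases p with c | p | p <;> simp

theorem oLevM_single_y (A : SpecialLinearGroup (Fin m) F) (i : Fin m) :
    oLevM κ m F A *ᵥ Pi.single (oy κ m i) 1 = Sum.elim (0 : κ → F) (Sum.elim (0 : Fin m → F) ((tinv A).1 *ᵥ Pi.single i 1)) := by
  rw [oLevM_mulVec]
  have e1 : (fun j => (Pi.single (oy κ m i) (1 : F) : OIdx κ m → F) (oy κ m j)) = Pi.single i 1 := by
    funext j; simp [Pi.single_apply]
  have e2 : (fun j => (Pi.single (oy κ m i) (1 : F) : OIdx κ m → F) (ox κ m j)) = 0 := by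
    funext j; simp
  rw [e1, e2, Matrix.mulVec_zero]
  funext p; rcases p with c | p | p <;> simp

theorem oLevM_single_z (A : SpecialLinearGroup (Fin m) F) (c : κ) :
    oLevM κ m F A *ᵥ Pi.single (Sum.inl c) 1 = Pi.single (Sum.inl c) 1 := by
  rw [oLevM_mulVec]
  funext p; rcases p with d | p | p <;> simp [Pi.single_apply, Matrix.mulVec, dotProduct]

theorem mono_x (σ : Equiv.Perm (Fin m)) (a q : Fin m) :
    oLevM κ m F (mono σ a) *ᵥ Pi.single (ox κ m q) 1 =
      (if q = a then ((Equiv.Perm.sign σ : ℤ) : F) else 1) • Pi.single (ox κ m (σ q)) 1 := by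
  rw [oLevM_single_x, mono_mulVec]
  funext p; rcases p with c | p | p <;> by_cases hq : q = a <;> simp [Pi.single_apply, hq]

theorem mono_y (σ : Equiv.Perm (Fin m)) (a q : Fin m) :
    oLevM κ m F (mono σ a) *ᵥ Pi.single (oy κ m q) 1 =
      (if q = a then ((Equiv.Perm.sign σ : ℤ) : F) else 1) • Pi.single (oy κ m (σ q)) 1 := by
  rw [oLevM_single_y, mono_tinv]
  funext p; rcases p with c | p | p <;> by_cases hq : q = a <;> simp [Pi.single_apply, hq]

theorem exists_perm_pair {a b i j : Fin m} (hab : a ≠ b) (hij : i ≠ j) :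
    ∃ σ : Equiv.Perm (Fin m), σ a = i ∧ σ b = j := by
  refine ⟨Equiv.swap (Equiv.swap a i b) j * Equiv.swap a i, ?_, ?_⟩
  · have h1 : Equiv.swap a i b ≠ i := by
      intro h
      exact hab ((Equiv.swap a i).injective (by rw [Equiv.swap_apply_left, h]))
    simp [Equiv.swap_apply_of_ne_of_ne h1.symm hij]
  · simp

theorem exists_col' (hm : 2 ≤ m) (a : Fin m) {v : Fin m → F} (hv : v ≠ 0) :
    ∃ M : SpecialLinearGroup (Fin m) F, M.1 *ᵥ Pi.single a 1 = v := by
  obtain ⟨n, rfl⟩ : ∃ n, m = n + 2 := ⟨m - 2, by omega⟩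
  exact Cfsg.Agent.Lie.SpnPres.exists_col a hv

/-- Siegel transformations at one coordinate vector. -/
theorem sieg_all_x (hlev : ∀ A, oLev κ m F A ∈ S)
    (hee : ∀ i j, i ≠ j → ∀ s : F, Sieg S (Pi.single (ox κ m i) 1) (s • Pi.single (ox κ m j) 1))
    (hez : ∀ i c, ∀ s : F, Sieg S (Pi.single (ox κ m i) 1) (s • Pi.single (Sum.inl c) 1))
    (i : Fin m) (w : OIdx κ m → F) : Sieg S (Pi.single (ox κ m i) 1) w := by
  intro hh
  have hy : w (oy κ m i) = 0 := by have := hh.2; rwa [polar_ox] at this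
  refine sieg_sum (qK_ox i) w (fun p => ?_) hh
  rcases p with c | j | j
  · exact ⟨⟨qK_ox i, by simp [polar_ox]⟩, hez i c _⟩
  · refine ⟨⟨qK_ox i, by simp [polar_ox]⟩, ?_⟩
    by_cases hij : i = j
    · subst hij; exact sieg_self _ _
    · exact hee i j hij _
  · by_cases hij : i = j
    · subst hij
      rw [hy, zero_smul]
      exact ⟨OK.zero (qK_ox _), sieg_zero _⟩
    · refine ⟨⟨qK_ox i, by simp [polar_ox, hij]⟩, fun h => ?_⟩
      obtain ⟨k, hk⟩ := oLev_tv (κ := κ) hij (-(w (oy κ m j)))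
      rw [show eOG h = oLev κ m F (tvN i j hij (-(w (oy κ m j)))) from by
        rw [← hk]; exact ogVal_ext (by rw [eOG_val, eOG_val, neg_neg])]
      exact hlev _

/-- Siegel transformations at the opposite coordinate vector. -/
theorem sieg_all_y (hlev : ∀ A, oLev κ m F A ∈ S)
    (hff : ∀ i j, i ≠ j → ∀ s : F, Sieg S (Pi.single (oy κ m i) 1) (s • Pi.single (oy κ m j) 1))
    (hfz : ∀ i c, ∀ s : F, Sieg S (Pi.single (oy κ m i) 1) (s • Pi.single (Sum.inl c) 1))
    (i : Fin m) (w : OIdx κ m → F) : Sieg S (Pi.single (oy κ m i) 1) w := by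
  intro hh
  have hx : w (ox κ m i) = 0 := by have := hh.2; rwa [polar_oy] at this
  refine sieg_sum (qK_oy i) w (fun p => ?_) hh
  rcases p with c | j | j
  · exact ⟨⟨qK_oy i, by simp [polar_oy]⟩, hfz i c _⟩
  · by_cases hij : i = j
    · subst hij
      rw [hx, zero_smul]
      exact ⟨OK.zero (qK_oy _), sieg_zero _⟩
    · refine ⟨⟨qK_oy i, by simp [polar_oy, hij]⟩, fun h => ?_⟩
      obtain ⟨k, hk⟩ := oLev_tv (κ := κ) (Ne.symm hij) (w (ox κ m j))
      rw [show eOG h = oLev κ m F (tvN j i (Ne.symm hij) (w (ox κ m j))) from by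
        rw [← hk]
        refine ogVal_ext (Matrix.ext_iff_mulVec.2 fun v => ?_)
        rw [eOG_val, eOG_val, eMat_mulVec, eMat_mulVec]
        simp only [QuadraticMap.polar_smul_left, polar_ox, polar_oy, QuadraticMap.map_smul, qK_ox, qK_oy,
          smul_eq_mul]
        module]
      exact hlev _
  · refine ⟨⟨qK_oy i, by simp [polar_oy]⟩, ?_⟩
    by_cases hij : i = j
    · subst hij; exact sieg_self _ _
    · exact hff i j hij _

/-- Every Siegel transformation lies in a subgroup containing the basic ones. -/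
theorem omega_le (hm : 3 ≤ m) (h2 : ∀ _ : κ, (2 : F) ≠ 0) (hlev : ∀ A, oLev κ m F A ∈ S)
    (hee : ∀ i j, i ≠ j → ∀ s : F, Sieg S (Pi.single (ox κ m i) 1) (s • Pi.single (ox κ m j) 1))
    (hff : ∀ i j, i ≠ j → ∀ s : F, Sieg S (Pi.single (oy κ m i) 1) (s • Pi.single (oy κ m j) 1))
    (hez : ∀ i c, ∀ s : F, Sieg S (Pi.single (ox κ m i) 1) (s • Pi.single (Sum.inl c) 1))
    (hfz : ∀ i c, ∀ s : F, Sieg S (Pi.single (oy κ m i) 1) (s • Pi.single (Sum.inl c) 1)) :
    Cfsg.Omega F ⇑(qK κ m F) ≤ S := by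
  rw [omega_qK hm h2]
  refine (Subgroup.closure_le _).2 ?_
  rintro g ⟨e, w, h, hg⟩
  obtain rfl : g = eOG h := ogVal_ext hg
  by_cases he : e = 0
  · subst he
    rw [show eOG h = 1 from ogVal_ext (by
      rw [eOG_val, show (0 : OIdx κ m → F) = (0 : F) • (0 : OIdx κ m → F) by simp, eMat_smul_left, zero_smul,
        eMat_zero, ogVal_one])]
    exact one_mem _
  let o : Fin m := ⟨0, by omega⟩
  have hX := sieg_all_x hlev hee hez o
  have hY := sieg_all_y hlev hff hfz o
  obtain ⟨g, hg', v0, hv0, hge⟩ : ∃ g ∈ S, ∃ v0, (∀ u, Sieg S v0 u) ∧ ogVal g *ᵥ v0 = e := by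
    by_cases hx : (fun i => e (ox κ m i)) = 0
    · have hz : ∀ c, e (Sum.inl c) = 0 := fun c => by
        have h0 := h.1
        rw [qK_apply, Fintype.sum_subsingleton _ c,
          Finset.sum_eq_zero fun i _ => by rw [show e (ox κ m i) = 0 from congrFun hx i, zero_mul],
          add_zero] at h0
        exact mul_self_eq_zero.1 h0
      have hy : (fun i => e (oy κ m i)) ≠ 0 := fun hy => he (funext fun p => by
        rcases p with c | i | i
        · exact hz c
        · exact congrFun hx i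
        · exact congrFun hy i)
      obtain ⟨M, hM⟩ := exists_col' (by omega) o hy
      refine ⟨_, hlev (tinv M), _, hY, ?_⟩
      rw [ogVal_oLev, oLevM_single_y, tinv_tinv, hM]
      funext p; rcases p with c | i | i
      · exact (hz c).symm
      · exact (congrFun hx i).symm
      · rfl
    · obtain ⟨M, hM⟩ := exists_col' (by omega) o hx
      set v := ogVal (oLev κ m F M⁻¹) *ᵥ e with hv
      have hvx : ∀ i, v (ox κ m i) = if i = o then 1 else 0 := fun i => by
        rw [hv, ogVal_oLev, oLevM_mulVec]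
        show ((M⁻¹).1 *ᵥ fun i => e (ox κ m i)) i = _
        rw [← hM, Cfsg.Agent.Lie.SpnPres.inv_mulVec, Pi.single_apply]
      have hq : (∑ c, v (Sum.inl c) * v (Sum.inl c)) + v (oy κ m o) = 0 := by
        have h0 : qK κ m F v = 0 := by rw [hv, ogVal_quad, h.1]
        rw [qK_apply] at h0
        simpa [hvx] using h0
      let u : OIdx κ m → F := Sum.elim (fun c => v (Sum.inl c))
        (Sum.elim 0 fun i => if i = o then 0 else v (oy κ m i))
      have hu : OK (qK κ m F) (Pi.single (oy κ m o) 1) u := ⟨qK_oy o, by simp [polar_oy, u]⟩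
      have hQu : qK κ m F u = -(v (oy κ m o)) := by
        rw [qK_apply]
        simp only [u, Sum.elim_inl, Sum.elim_inr, Pi.zero_apply, zero_mul, Finset.sum_const_zero, add_zero]
        linear_combination hq
      refine ⟨oLev κ m F M * eOG hu, mul_mem (hlev M) (hY u hu), _, hX, ?_⟩
      rw [ogVal_mul, ← Matrix.mulVec_mulVec, eOG_val, eMat_mulVec,
        show e = ogVal (oLev κ m F M) *ᵥ v by
          rw [hv, Matrix.mulVec_mulVec, ← ogVal_mul, ← map_mul, mul_inv_cancel, map_one, ogVal_one,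
            Matrix.one_mulVec]]
      congr 1
      rw [polar_oy, hQu, QuadraticMap.polar_comm _ u, polar_ox]
      funext p
      rcases p with c | i | i
      · simp [u]
      · simp [u, hvx, Pi.single_apply]
      · by_cases hi : i = o
        · subst hi; simp [u]
        · simp [u, hi]
  have hinv : OK (qK κ m F) v0 (ogVal g⁻¹ *ᵥ w) := by
    have e1 : ogVal g⁻¹ *ᵥ e = v0 := by rw [← hge, ogVal_inv_cancel]
    rw [← e1]
    exact ⟨by rw [ogVal_quad]; exact h.1, by rw [isometry_polar (ogVal_quad _)]; exact h.2⟩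
  have := Sieg.conj hg' hinv (hv0 _)
  rw [hge, ogVal_cancel_inv] at this
  exact this h

/-- A submodule invariant under `Ω` and containing a coordinate vector is everything. -/
theorem orth_cyc (hm : 3 ≤ m) (h2 : ∀ _ : κ, (2 : F) ≠ 0) (W : Submodule F (OIdx κ m → F))
    (hW : ∀ z : OOm κ m F, ∀ v ∈ W, oRho κ m F z *ᵥ v ∈ W)
    (h0 : ∃ i, Pi.single (ox κ m i) 1 ∈ W ∨ Pi.single (oy κ m i) 1 ∈ W) : W = ⊤ := by
  have hE : ∀ {e w : OIdx κ m → F} (_ : OK (qK κ m F) e w) {v}, v ∈ W → eMat (qK κ m F) e w *ᵥ v ∈ W :=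
    fun h v hv => hW ⟨eOG h, by rw [omega_qK hm h2]; exact eOG_mem_eR h⟩ v hv
  have hmove : ∀ i j, i ≠ j → (Pi.single (ox κ m i) (1 : F) ∈ W → Pi.single (ox κ m j) 1 ∈ W ∧
      Pi.single (oy κ m j) 1 ∈ W) ∧ (Pi.single (oy κ m i) (1 : F) ∈ W → Pi.single (ox κ m j) 1 ∈ W ∧
      Pi.single (oy κ m j) 1 ∈ W) := by
    intro i j hij
    have k1 : OK (qK κ m F) (Pi.single (oy κ m i) 1) (Pi.single (ox κ m j) 1) :=
      ⟨qK_oy i, by simp [polar_oy, hij]⟩
    have k2 : OK (qK κ m F) (Pi.single (oy κ m i) 1) (Pi.single (oy κ m j) 1) :=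
      ⟨qK_oy i, by simp [polar_oy]⟩
    have k3 : OK (qK κ m F) (Pi.single (ox κ m i) 1) (Pi.single (ox κ m j) 1) :=
      ⟨qK_ox i, by simp [polar_ox]⟩
    have k4 : OK (qK κ m F) (Pi.single (ox κ m i) 1) (Pi.single (oy κ m j) 1) :=
      ⟨qK_ox i, by simp [polar_ox, hij]⟩
    constructor <;> intro hi
    · refine ⟨?_, ?_⟩
      · have := W.sub_mem (hE k1 hi) hi
        rw [eMat_mulVec] at this
        simpa [polar_oy, polar_ox, qK_ox, hij, Pi.single_apply] using this
      · have := W.sub_mem (hE k2 hi) hi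
        rw [eMat_mulVec] at this
        simpa [polar_oy, polar_ox, qK_oy, hij, Pi.single_apply] using this
    · refine ⟨?_, ?_⟩
      · have := W.sub_mem (hE k3 hi) hi
        rw [eMat_mulVec] at this
        simpa [polar_oy, polar_ox, qK_ox, hij, Pi.single_apply] using this
      · have := W.sub_mem (hE k4 hi) hi
        rw [eMat_mulVec] at this
        simpa [polar_oy, polar_ox, qK_oy, hij, Pi.single_apply] using this
  obtain ⟨i, hi⟩ := h0
  have step : ∀ j, i ≠ j → Pi.single (ox κ m j) (1 : F) ∈ W ∧ Pi.single (oy κ m j) 1 ∈ W := fun j hj =>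
    hi.elim (hmove i j hj).1 (hmove i j hj).2
  obtain ⟨k, hk⟩ := Fintype.exists_ne_of_one_lt_card (by rw [Fintype.card_fin]; omega) i
  have all : ∀ j, Pi.single (ox κ m j) (1 : F) ∈ W ∧ Pi.single (oy κ m j) 1 ∈ W := fun j => by
    by_cases hj : i = j
    · exact hj ▸ (hmove k i hk).1 (step k (Ne.symm hk)).1
    · exact step j hj
  refine eq_top_iff.2 fun v _ => ?_
  rw [pi_eq_sum_univ' v]
  refine Submodule.sum_mem _ fun p _ => Submodule.smul_mem _ _ ?_
  rcases p with c | j | j
  · have k5 : OK (qK κ m F) (Pi.single (oy κ m i) 1) (Pi.single (Sum.inl c) 1) :=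
      ⟨qK_oy i, by simp [polar_oy]⟩
    have h1 := W.sub_mem (hE k5 (all i).1) (all i).1
    rw [eMat_mulVec, polar_oy, polar_oz, qK_oz] at h1
    have h2' := W.add_mem h1 (all i).2
    convert h2' using 1
    funext q
    simp
    ring
  · exact (all j).1
  · exact (all j).2

end Cfsg.Agent.Classical.MatRootData
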