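import Cfsg.Agent.Lib.Classical.MatOrthRoots

/-!
The Levi block of type `A_{m-2}` in a split orthogonal group: its corners, the twist fusing regular
unipotent elements, and the elements exchanging the two halves.
-/

set_option autoImplicit false
set_option linter.unusedSectionVars false
set_option maxHeartbeats 2000000

namespace Cfsg.Agent.Classical.MatRootData

open Matrix Cfsg.Agent.Classical.RegularBlocks Cfsg.Agent.Classical.OrthAut Cfsg.Agent.Lie.Chev
  Cfsg.Agent.Lie.CurtisTitsA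
open Cfsg.Agent.Lie.SpnPres (tinv tinv_val tinv_tinv)
open scoped MatrixGroups commutatorElement

variable {κ : Type} [Fintype κ] [DecidableEq κ] [Subsingleton κ] {m : ℕ} {F : Type*} [Field F] [Fintype F]

/-- The block of the positive indices. -/
def sucEmb (m : ℕ) : Fin (m - 1) ↪ Fin m :=
  ⟨fun i => ⟨i.val + 1, by omega⟩, fun a b h => Fin.ext (by simpa using congrArg Fin.val h)⟩

theorem sucEmb_range (p : Fin m) : (∃ a, p = sucEmb m a) ↔ p.val ≠ 0 := by
  constructor
  · rintro ⟨a, rfl⟩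
    exact Nat.succ_ne_zero _
  · intro h
    exact ⟨⟨p.val - 1, by have := p.2; omega⟩, Fin.ext (by show p.val = p.val - 1 + 1; omega)⟩

variable (κ m) in
/-- The levels of the parabolic subgroup. -/
def oL : OIdx κ m → ℕ :=
  Sum.elim (fun _ => 2) (Sum.elim (fun i => if i.val = 0 then 0 else 1) fun i => if i.val = 0 then 4 else 3)

theorem oL_compat (hm : 3 ≤ m) (p q : OIdx κ m) (h : oL κ m p < oL κ m q) : ¬ oH κ m q < oH κ m p := by
  have hcc := card_cases (κ := κ)
  rcases p with c | p | p <;> rcases q with d | q | q <;>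
    simp only [oL, oH, Sum.elim_inl, Sum.elim_inr] at h ⊢ <;>
    (try split_ifs at h) <;> first
      | omega
      | (have := hcc.2 c; omega)
      | (have := hcc.2 d; omega)

variable (κ F) in
/-- The block in `Ω`. -/
noncomputable def oLam (hm : 3 ≤ m) : SpecialLinearGroup (Fin (m - 1)) F →* OOm κ m F :=
  (oLevOm κ F hm).comp (Cfsg.Agent.Lie.SpnPres.extSL (sucEmb m))

theorem oLam_cases (hm : 3 ≤ m) (X : SpecialLinearGroup (Fin (m - 1)) F) (p q : OIdx κ m) :
    (∀ a b, p = ox κ m (sucEmb m a) → q = ox κ m (sucEmb m b) → oRho κ m F (oLam κ F hm X) p q = X.1 a b) ∧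
    (∀ a b, p = oy κ m (sucEmb m a) → q = oy κ m (sucEmb m b) →
      oRho κ m F (oLam κ F hm X) p q = (tinv X).1 a b) ∧
    (oL κ m p ≠ oL κ m q ∨ oL κ m p = 0 ∨ oL κ m p = 2 ∨ oL κ m p = 4 →
      oRho κ m F (oLam κ F hm X) p q = if p = q then 1 else 0) := by
  have e : oRho κ m F (oLam κ F hm X) = fromBlocks 1 0 0
      (fromBlocks (Cfsg.Agent.Lie.SpnPres.extM (sucEmb m) X.1) 0 0
        (Cfsg.Agent.Lie.SpnPres.extM (sucEmb m) (tinv X).1)) := by
    show fromBlocks 1 0 0 (fromBlocks (Cfsg.Agent.Lie.SpnPres.extSL (sucEmb m) X).1 0 0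
      (tinv (Cfsg.Agent.Lie.SpnPres.extSL (sucEmb m) X)).1) = _
    rw [Cfsg.Agent.Lie.SpnPres.tinv_extSL]
    rfl
  rw [e]
  refine ⟨?_, ?_, ?_⟩
  · rintro a b rfl rfl
    exact (extM_entry (F := F) (sucEmb m) X.1 _ _).1 a b rfl rfl
  · rintro a b rfl rfl
    exact (extM_entry (F := F) (sucEmb m) (tinv X).1 _ _).1 a b rfl rfl
  · intro h
    rcases p with c | p | p <;> rcases q with d | q | q <;> try simp [Matrix.one_apply]
    all_goals
      rw [(extM_entry (F := F) (sucEmb m) _ p q).2 ?_]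
      simp only [oL, Sum.elim_inl, Sum.elim_inr] at h
      by_cases hp : p.val = 0
      · exact Or.inl fun a e => (sucEmb_range p).1 ⟨a, e⟩ hp
      · by_cases hq : q.val = 0
        · exact Or.inr fun a e => (sucEmb_range q).1 ⟨a, e⟩ hq
        · simp [hp, hq] at h

theorem oLam_bd (hm : 3 ≤ m) (X : SpecialLinearGroup (Fin (m - 1)) F) :
    oLam κ F hm X ∈ bd (oRho κ m F) (oL κ m) := fun p q h =>
  ((oLam_cases hm X p q).2.2 (Or.inl h)).trans (if_neg fun e => h (by rw [e]))

/-- A block diagonal element commutes with a diagonal one constant on the blocks. -/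
theorem commute_of_bd {L : OIdx κ m → ℕ} {t g : OOm κ m F} {d : OIdx κ m → Fˣ}
    (ht : oRho κ m F t = Matrix.diagonal fun p => (d p : F)) (hd : ∀ p q, L p = L q → d p = d q)
    (hg : g ∈ bd (oRho κ m F) L) : Commute t g := by
  refine oRho_inj ?_
  rw [map_mul, map_mul, ht]
  ext p q
  rw [Matrix.diagonal_mul, Matrix.mul_diagonal]
  by_cases h : L p = L q
  · rw [hd p q h, mul_comm]
  · rw [hg p q h, zero_mul, mul_zero]

/-- No unitriangular element of the radical commutes with the torus element. -/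
theorem oL_fix (hm : 3 ≤ m) {t g : OOm κ m F} {d : OIdx κ m → Fˣ}
    (ht : oRho κ m F t = Matrix.diagonal fun p => (d p : F))
    (hd : ∀ p q, oL κ m p < oL κ m q → ¬ (oL κ m p = 0 ∧ oL κ m q = 4) → d p ≠ d q)
    (hg : g ∈ tri (oRho κ m F) (oL κ m) ∨ g ∈ tri (oRho κ m F) (OrderDual.toDual ∘ oL κ m))
    (hc : Commute t g) : g = 1 := by
  have h0 : ∀ p q, oL κ m p ≠ oL κ m q → ¬ (oL κ m p = 0 ∧ oL κ m q = 4) →
      ¬ (oL κ m q = 0 ∧ oL κ m p = 4) → oRho κ m F g p q = 0 := fun p q h a b =>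
    entry_zero ht hc (by
      rcases lt_or_gt_of_ne h with h' | h'
      · exact hd p q h' a
      · exact (hd q p h' b).symm)
  refine eq_one_of_cross oRho_inj hg fun p q h => ?_
  by_cases ha : oL κ m p = 0 ∧ oL κ m q = 4
  · obtain ⟨i, rfl, j, rfl, hi, hj⟩ : ∃ i, p = ox κ m i ∧ ∃ j, q = oy κ m j ∧ i.val = 0 ∧ j.val = 0 := by
      rcases p with c | i | i <;> rcases q with d' | j | j <;>
        simp only [oL, Sum.elim_inl, Sum.elim_inr] at ha <;> obtain ⟨a1, a2⟩ := ha <;>
        (try split_ifs at a1) <;> (try split_ifs at a2) <;> first | omega | exact ⟨i, rfl, j, rfl, by assumption, by assumption⟩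
    obtain rfl : i = j := Fin.ext (hi.trans hj.symm)
    rcases hg with hg | hg
    · have hcol := og_col g (oy κ m i)
      rw [qK_oy, Finset.sum_eq_zero (fun c _ => by
          rw [h0 (Sum.inl c) (oy κ m i) (by simp [oL, hi]) (by simp [oL]) (by simp [oL, hi]), mul_zero]),
        zero_add, Finset.sum_eq_single i (fun r _ hr => by
          have hr0 : r.val ≠ 0 := hi ▸ Fin.val_ne_of_ne hr
          rw [h0 (ox κ m r) (oy κ m i) (by simp [oL, hi, hr0])
            (by simp [oL, hi, hr0])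
            (by simp [oL, hi, hr0]), zero_mul]) (by simp),
        show oRho κ m F g (oy κ m i) (oy κ m i) = 1 from (hg _ _ (lt_irrefl _)).trans (if_pos rfl), mul_one] at hcol
      exact hcol
    · exact (hg (ox κ m i) (oy κ m i) (show ¬ oL κ m (oy κ m i) < oL κ m (ox κ m i) by simp [oL, hi])).trans
        (if_neg (by simp))
  by_cases hb : oL κ m q = 0 ∧ oL κ m p = 4
  · obtain ⟨i, rfl, j, rfl, hi, hj⟩ : ∃ i, q = ox κ m i ∧ ∃ j, p = oy κ m j ∧ i.val = 0 ∧ j.val = 0 := by
      rcases q with c | i | i <;> rcases p with d' | j | j <;>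
        simp only [oL, Sum.elim_inl, Sum.elim_inr] at hb <;> obtain ⟨a1, a2⟩ := hb <;>
        (try split_ifs at a1) <;> (try split_ifs at a2) <;> first | omega | exact ⟨i, rfl, j, rfl, by assumption, by assumption⟩
    obtain rfl : i = j := Fin.ext (hi.trans hj.symm)
    rcases hg with hg | hg
    · exact (hg (oy κ m i) (ox κ m i) (show ¬ oL κ m (oy κ m i) < oL κ m (ox κ m i) by simp [oL, hi])).trans
        (if_neg (by simp))
    · have hcol := og_col g (ox κ m i)
      rw [qK_ox, Finset.sum_eq_zero (fun c _ => by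
          rw [h0 (Sum.inl c) (ox κ m i) (by simp [oL, hi]) (by simp [oL]) (by simp [oL, hi]), mul_zero]),
        zero_add, Finset.sum_eq_single i (fun r _ hr => by
          have hr0 : r.val ≠ 0 := hi ▸ Fin.val_ne_of_ne hr
          rw [h0 (oy κ m r) (ox κ m i) (by simp [oL, hi, hr0])
            (by simp [oL, hi, hr0])
            (by simp [oL, hi, hr0]), mul_zero]) (by simp),
        show oRho κ m F g (ox κ m i) (ox κ m i) = 1 from (hg _ _ (lt_irrefl _)).trans (if_pos rfl), one_mul] at hcol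
      exact hcol
  exact h0 p q h ha hb

/-- The block diagonal part of an isometry with a zero corner. -/
theorem oLam_corner (hm : 3 ≤ m) {g : OOm κ m F} {P : SpecialLinearGroup (Fin (m - 1)) F}
    (hP : ∀ i j, P.1 i j = oRho κ m F g (ox κ m (sucEmb m i)) (ox κ m (sucEmb m j)))
    (hdiag : ∀ p, oRho κ m F g p p = 1)
    (hz : ∀ (a b : Fin (m - 1)) c,
      oRho κ m F g (Sum.inl c) (ox κ m (sucEmb m a)) * oRho κ m F g (Sum.inl c) (oy κ m (sucEmb m b)) = 0)
    (hxy : ∀ (a b : Fin (m - 1)) (i : Fin m),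
      oRho κ m F g (ox κ m i) (oy κ m (sucEmb m b)) * oRho κ m F g (oy κ m i) (ox κ m (sucEmb m a)) = 0)
    (h0 : ∀ (a b : Fin (m - 1)) (i : Fin m), i.val = 0 →
      oRho κ m F g (ox κ m i) (ox κ m (sucEmb m a)) * oRho κ m F g (oy κ m i) (oy κ m (sucEmb m b)) = 0)
    (p q : OIdx κ m) (h : oL κ m p = oL κ m q) : oRho κ m F (oLam κ F hm P) p q = oRho κ m F g p q := by
  have e : P.1ᵀ * (Matrix.of fun i j => oRho κ m F g (oy κ m (sucEmb m i)) (oy κ m (sucEmb m j))) = 1 := by
    ext a b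
    have hcol := og_cols g (ox κ m (sucEmb m a)) (oy κ m (sucEmb m b))
    rw [polar_ox, Finset.sum_eq_zero (fun c _ => by rw [mul_assoc, hz a b c, mul_zero]), zero_add,
      Finset.sum_congr rfl (fun i _ => by rw [hxy a b i, add_zero])] at hcol
    have hsplit : ∑ i : Fin m, oRho κ m F g (ox κ m i) (ox κ m (sucEmb m a)) *
        oRho κ m F g (oy κ m i) (oy κ m (sucEmb m b)) =
        ∑ j : Fin (m - 1), oRho κ m F g (ox κ m (sucEmb m j)) (ox κ m (sucEmb m a)) *
          oRho κ m F g (oy κ m (sucEmb m j)) (oy κ m (sucEmb m b)) := by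
      refine ((Finset.sum_map Finset.univ (sucEmb m) fun i => oRho κ m F g (ox κ m i) (ox κ m (sucEmb m a)) *
        oRho κ m F g (oy κ m i) (oy κ m (sucEmb m b))).symm.trans ?_).symm
      refine Finset.sum_subset (Finset.subset_univ _) fun i _ hi => h0 a b i ?_
      by_contra hne
      obtain ⟨c, rfl⟩ := (sucEmb_range i).2 hne
      exact hi (Finset.mem_map_of_mem _ (Finset.mem_univ c))
    rw [hsplit] at hcol
    rw [Matrix.mul_apply, Matrix.one_apply]
    simp only [transpose_apply, hP, of_apply]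
    rw [hcol, Pi.single_apply]
    simp [eq_comm]
  obtain ⟨k1, k2, k3⟩ := oLam_cases (κ := κ) hm P p q
  rcases p with c | p | p
  · rcases q with d | q | q
    · obtain rfl : c = d := Subsingleton.elim _ _
      rw [k3 (Or.inr (Or.inr (Or.inl rfl))), if_pos rfl, hdiag]
    all_goals simp only [oL, Sum.elim_inl, Sum.elim_inr] at h; split_ifs at h <;> omega
  · rcases q with d | q | q
    · simp only [oL, Sum.elim_inl, Sum.elim_inr] at h; split_ifs at h <;> omega
    · by_cases hp : p.val = 0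
      · have hq : q.val = 0 := by simpa [oL, hp] using h
        obtain rfl : p = q := Fin.ext (hp.trans hq.symm)
        rw [k3 (Or.inr (Or.inl (by simp [oL, hp]))), if_pos rfl, hdiag]
      · have hq : q.val ≠ 0 := by
          intro hq; simp [oL, hp, hq] at h
        obtain ⟨a, rfl⟩ := (sucEmb_range p).2 hp
        obtain ⟨b, rfl⟩ := (sucEmb_range q).2 hq
        rw [k1 a b rfl rfl, hP]
    · simp only [oL, Sum.elim_inr, Sum.elim_inl] at h; split_ifs at h <;> omega
  · rcases q with d | q | q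
    · simp only [oL, Sum.elim_inl, Sum.elim_inr] at h; split_ifs at h <;> omega
    · simp only [oL, Sum.elim_inr, Sum.elim_inl] at h; split_ifs at h <;> omega
    · by_cases hp : p.val = 0
      · have hq : q.val = 0 := by simpa [oL, hp] using h
        obtain rfl : p = q := Fin.ext (hp.trans hq.symm)
        rw [k3 (Or.inr (Or.inr (Or.inr (by simp [oL, hp])))), if_pos rfl, hdiag]
      · have hq : q.val ≠ 0 := by
          intro hq; simp [oL, hp, hq] at h
        obtain ⟨a, rfl⟩ := (sucEmb_range p).2 hp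
        obtain ⟨b, rfl⟩ := (sucEmb_range q).2 hq
        rw [k2 a b rfl rfl, tinv_of_mul' e]
        rfl

theorem o_U_part (hm : 3 ≤ m) {g : OOm κ m F} (hg : g ∈ tri (oRho κ m F) (oH κ m)) :
    ∃ P ∈ upU F (m - 1), ∀ p q, oL κ m p = oL κ m q → oRho κ m F (oLam κ F hm P) p q = oRho κ m F g p q := by
  have hcc := card_cases (κ := κ)
  obtain ⟨P, hP, hPe⟩ := exists_upper_block (fun a => ox κ m (sucEmb m a)) (fun i j hij => by
    show i.val + 1 < j.val + 1
    have : i.val < j.val := hij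
    omega) hg
  refine ⟨P, hP, oLam_corner hm hPe (fun p => (hg p p (lt_irrefl _)).trans (if_pos rfl)) (fun a b c => ?_)
    (fun a b i => ?_) fun a b i hi => ?_⟩
  · rw [(hg (Sum.inl c) (ox κ m (sucEmb m a)) ?_).trans (if_neg (by simp)), zero_mul]
    have := (sucEmb m a).2
    show ¬ m < (sucEmb m a).val
    omega
  · rw [(hg (oy κ m i) (ox κ m (sucEmb m a)) ?_).trans (if_neg (by simp)), mul_zero]
    have := (sucEmb m a).2
    have := i.2
    show ¬ 2 * m + 2 * Fintype.card κ - 2 - i.val < (sucEmb m a).val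
    omega
  · rw [(hg (oy κ m i) (oy κ m (sucEmb m b)) ?_).trans (if_neg fun e => ?_), mul_zero]
    · show ¬ 2 * m + 2 * Fintype.card κ - 2 - i.val < 2 * m + 2 * Fintype.card κ - 2 - (sucEmb m b).val
      omega
    · exact (sucEmb_range i).1 ⟨b, by simpa using e⟩ hi

theorem o_V_part (hm : 3 ≤ m) {g : OOm κ m F} (hg : g ∈ tri (oRho κ m F) (OrderDual.toDual ∘ oH κ m)) :
    ∃ P ∈ lowU F (m - 1), ∀ p q, oL κ m p = oL κ m q → oRho κ m F (oLam κ F hm P) p q = oRho κ m F g p q := by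
  have hcc := card_cases (κ := κ)
  have hg' : ∀ p q, ¬ oH κ m q < oH κ m p → oRho κ m F g p q = if p = q then 1 else 0 := fun p q => hg p q
  obtain ⟨P, hP, hPe⟩ := exists_lower_block (fun a => ox κ m (sucEmb m a)) (fun i j hij => by
    show i.val + 1 < j.val + 1
    have : i.val < j.val := hij
    omega) hg
  refine ⟨P, hP, oLam_corner hm hPe (fun p => (hg p p (lt_irrefl _)).trans (if_pos rfl)) (fun a b c => ?_)
    (fun a b i => ?_) fun a b i hi => ?_⟩
  · rw [(hg' (Sum.inl c) (oy κ m (sucEmb m b)) ?_).trans (if_neg (by simp)), mul_zero]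
    have := (sucEmb m b).2
    have := hcc.2 c
    show ¬ 2 * m + 2 * Fintype.card κ - 2 - (sucEmb m b).val < m
    omega
  · rw [(hg' (ox κ m i) (oy κ m (sucEmb m b)) ?_).trans (if_neg (by simp)), zero_mul]
    have := (sucEmb m b).2
    have := i.2
    show ¬ 2 * m + 2 * Fintype.card κ - 2 - (sucEmb m b).val < i.val
    omega
  · rw [(hg' (ox κ m i) (ox κ m (sucEmb m a)) ?_).trans (if_neg fun e => ?_), zero_mul]
    · show ¬ (sucEmb m a).val < i.val
      omega
    · exact (sucEmb_range i).1 ⟨a, by simpa using e⟩ hi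

/-- The twist of the block by a diagonal element. -/
theorem oLam_twist (hm : 3 ≤ m) (u : Fˣ) (X Z : SpecialLinearGroup (Fin (m - 1)) F)
    (hXZ : Matrix.diagonal (fun i : Fin (m - 1) => if i.val = 0 then (u : F) else 1) * X.val =
      Z.val * Matrix.diagonal (fun i : Fin (m - 1) => if i.val = 0 then (u : F) else 1)) :
    oShort (κ := κ) hm ⟨0, by omega⟩ (by show 0 + 1 < m; omega) (dSL ((u⁻¹ : Fˣ) : F) u⁻¹.ne_zero) *
        oLam κ F hm X *
        (oShort (κ := κ) hm ⟨0, by omega⟩ (by show 0 + 1 < m; omega) (dSL ((u⁻¹ : Fˣ) : F) u⁻¹.ne_zero))⁻¹ =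
      oLam κ F hm Z := by
  rw [mul_inv_eq_iff_eq_mul]
  show oLevOm κ F hm _ * oLevOm κ F hm _ = oLevOm κ F hm _ * oLevOm κ F hm _
  rw [← map_mul, ← map_mul]
  refine congrArg (oLevOm κ F hm) (Subtype.ext ?_)
  set E := ext2 (⟨0, by omega⟩ : Fin m) ⟨0 + 1, by omega⟩ (Fin.ne_of_val_ne (by simp))
    (dSL ((u⁻¹ : Fˣ) : F) u⁻¹.ne_zero) with hE
  show E.1 * Cfsg.Agent.Lie.SpnPres.extM (sucEmb m) X.1 = Cfsg.Agent.Lie.SpnPres.extM (sucEmb m) Z.1 * E.1
  have hd : E.1 = Matrix.diagonal fun p : Fin m =>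
      if p.val = 0 then ((u⁻¹ : Fˣ) : F) else if p.val = 1 then (u : F) else 1 := by
    ext p q
    rw [hE, ext2_apply, Matrix.diagonal_apply]
    simp only [Fin.ext_iff, dSL_val]
    split_ifs <;> first | omega | simp
  rw [hd]
  ext p q
  rw [Matrix.diagonal_mul, Matrix.mul_diagonal]
  obtain ⟨x1, x2⟩ := extM_entry (F := F) (sucEmb m) X.1 p q
  obtain ⟨z1, z2⟩ := extM_entry (F := F) (sucEmb m) Z.1 p q
  by_cases hp : p.val = 0
  · rw [x2 (Or.inl fun a e => (sucEmb_range p).1 ⟨a, e⟩ hp), z2 (Or.inl fun a e => (sucEmb_range p).1 ⟨a, e⟩ hp)]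
    by_cases e : p = q
    · subst e; simp [hp]
    · simp [e]
  by_cases hq : q.val = 0
  · rw [x2 (Or.inr fun a e => (sucEmb_range q).1 ⟨a, e⟩ hq), z2 (Or.inr fun a e => (sucEmb_range q).1 ⟨a, e⟩ hq)]
    by_cases e : p = q
    · subst e; simp [hq]
    · simp [e]
  obtain ⟨a, rfl⟩ := (sucEmb_range p).2 hp
  obtain ⟨b, rfl⟩ := (sucEmb_range q).2 hq
  rw [x1 a b rfl rfl, z1 a b rfl rfl]
  have e := congrFun (congrFun hXZ a) b
  rw [Matrix.diagonal_mul, Matrix.mul_diagonal] at e
  have hdd : ∀ c : Fin (m - 1), (if (sucEmb m c).val = 0 then ((u⁻¹ : Fˣ) : F)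
      else if (sucEmb m c).val = 1 then (u : F) else 1) = if c.val = 0 then (u : F) else 1 := fun c => by
    show (if c.val + 1 = 0 then _ else if c.val + 1 = 1 then _ else _) = _
    split_ifs <;> first | (exfalso; omega) | rfl
  rw [hdd, hdd]
  exact e

/-! Elements exchanging the two halves. -/

theorem qK_diff (i : Fin m) : qK κ m F (Pi.single (ox κ m i) 1 - Pi.single (oy κ m i) 1) = -1 := by
  rw [sub_eq_add_neg, quad_add, QuadraticMap.map_neg, qK_ox, qK_oy, polar_ox]
  simp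

/-- The exchange of one pair of coordinates. -/
noncomputable def oSwap (i : Fin m) : isometryGroup F ⇑(qK κ m F) :=
  OrthAut.refl (Q := qK κ m F) (v := Pi.single (ox κ m i) 1 - Pi.single (oy κ m i) 1)
    (by rw [qK_diff]; exact neg_ne_zero.2 one_ne_zero)

theorem oSwap_apply (i : Fin m) (v : OIdx κ m → F) :
    ogVal (oSwap (κ := κ) (F := F) i) *ᵥ v =
      v - (v (ox κ m i) - v (oy κ m i)) • (Pi.single (ox κ m i) 1 - Pi.single (oy κ m i) 1) := by
  rw [oSwap, refl_apply, qK_diff, QuadraticMap.polar_sub_left, polar_ox, polar_oy]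
  congr 1
  field_simp
  ring_nf

theorem oSwap_pair {i j : Fin m} (hij : i ≠ j) :
    oSwap (κ := κ) (F := F) i * oSwap j ∈ Cfsg.Omega F ⇑(qK κ m F) := by
  obtain ⟨σ, hσ⟩ : ∃ σ : isometryGroup F ⇑(qK κ m F), σ = oLev κ m F (mono (Equiv.swap i j) i) := ⟨_, rfl⟩
  set s : F := ((Equiv.Perm.sign (Equiv.swap i j) : ℤ) : F) with hs
  have hv : ogVal σ *ᵥ (Pi.single (ox κ m i) 1 - Pi.single (oy κ m i) 1) =
      s • (Pi.single (ox κ m j) 1 - Pi.single (oy κ m j) 1) := by
    rw [hσ, ogVal_oLev, Matrix.mulVec_sub, mono_x, mono_y, if_pos rfl, Equiv.swap_apply_left, smul_sub]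
  have hn : qK κ m F (Pi.single (ox κ m i) 1 - Pi.single (oy κ m i) 1) ≠ 0 := by
    rw [qK_diff]; exact neg_ne_zero.2 one_ne_zero
  have hn' : qK κ m F (ogVal σ *ᵥ (Pi.single (ox κ m i) 1 - Pi.single (oy κ m i) 1)) ≠ 0 := by
    rw [ogVal_quad]; exact hn
  have e : σ * oSwap i * σ⁻¹ = oSwap j := by
    rw [oSwap, refl_conj σ hn hn']
    exact (refl_congr _ _ hv).symm
  rw [← e]
  have hsq : (oSwap (κ := κ) (F := F) i)⁻¹ = oSwap i := inv_eq_of_mul_eq_one_right (refl_mul_self _)
  have : oSwap i * (σ * oSwap i * σ⁻¹) = ⁅oSwap (κ := κ) (F := F) i, σ⁆ := by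
    rw [commutatorElement_def, hsq]
    simp only [mul_assoc]
  rw [this]
  exact Subgroup.commutator_mem_commutator (Subgroup.mem_top _) (Subgroup.mem_top _)

/-- Exchange an even number of pairs. -/
theorem exists_flip (S : Finset (Fin m)) (hS : Even S.card) :
    ∃ g : OOm κ m F, (∀ c, oRho κ m F g *ᵥ Pi.single (Sum.inl c) 1 = Pi.single (Sum.inl c) 1) ∧
      (∀ i, oRho κ m F g *ᵥ Pi.single (ox κ m i) 1 =
        if i ∈ S then Pi.single (oy κ m i) 1 else Pi.single (ox κ m i) 1) ∧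
      ∀ i, oRho κ m F g *ᵥ Pi.single (oy κ m i) 1 =
        if i ∈ S then Pi.single (ox κ m i) 1 else Pi.single (oy κ m i) 1 := by
  obtain ⟨k, hk⟩ := hS
  induction k generalizing S with
  | zero =>
    obtain rfl : S = ∅ := Finset.card_eq_zero.1 (by omega)
    exact ⟨1, fun c => by rw [map_one, Matrix.one_mulVec], fun i => by rw [map_one, Matrix.one_mulVec]; simp,
      fun i => by rw [map_one, Matrix.one_mulVec]; simp⟩
  | succ k ih =>
    obtain ⟨a, ha⟩ := Finset.card_pos.1 (show 0 < S.card by omega)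
    obtain ⟨b, hb⟩ := Finset.card_pos.1 (show 0 < (S.erase a).card by
      rw [Finset.card_erase_of_mem ha]; omega)
    have hab : a ≠ b := (Finset.ne_of_mem_erase hb).symm
    obtain ⟨g, gz, gx, gy⟩ := ih ((S.erase a).erase b) (by
      rw [Finset.card_erase_of_mem hb, Finset.card_erase_of_mem ha]; omega)
    refine ⟨⟨_, oSwap_pair hab⟩ * g, fun c => ?_, fun i => ?_, fun i => ?_⟩
    · rw [map_mul, ← Matrix.mulVec_mulVec, gz]
      show ogVal (oSwap a * oSwap b) *ᵥ _ = _
      rw [ogVal_mul, ← Matrix.mulVec_mulVec, oSwap_apply, oSwap_apply]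
      simp
    all_goals
      rw [map_mul, ← Matrix.mulVec_mulVec]
      first | rw [gx] | rw [gy]
      show ogVal (oSwap a * oSwap b) *ᵥ _ = _
      rw [ogVal_mul, ← Matrix.mulVec_mulVec, oSwap_apply, oSwap_apply]
      by_cases hia : i = a
      · subst hia
        simp [ha, hab, Pi.single_apply, Ne.symm hab]
      · by_cases hib : i = b
        · subst hib
          simp [Finset.mem_of_mem_erase hb, hab, Pi.single_apply, Ne.symm hab]
        · by_cases hiS : i ∈ S <;>
            simp [hia, hib, hiS, Pi.single_apply, Ne.symm hia, Ne.symm hib]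

theorem oLam_vec (hm : 3 ≤ m) (X : SpecialLinearGroup (Fin (m - 1)) F) :
    (∀ a, oRho κ m F (oLam κ F hm X) *ᵥ Pi.single (ox κ m (sucEmb m a)) 1 =
      ∑ b, X.1 b a • Pi.single (ox κ m (sucEmb m b)) (1 : F)) ∧
    (∀ a, oRho κ m F (oLam κ F hm X) *ᵥ Pi.single (oy κ m (sucEmb m a)) 1 =
      ∑ b, (tinv X).1 b a • Pi.single (oy κ m (sucEmb m b)) (1 : F)) ∧
    ∀ q, oL κ m q = 0 ∨ oL κ m q = 2 ∨ oL κ m q = 4 →
      oRho κ m F (oLam κ F hm X) *ᵥ Pi.single q 1 = Pi.single q 1 := by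
  refine ⟨fun a => ?_, fun a => ?_, fun q hq => ?_⟩
  · funext p
    rw [Matrix.mulVec_single_one, Matrix.col_apply, Finset.sum_apply]
    by_cases h : ∃ b, p = ox κ m (sucEmb m b)
    · obtain ⟨b, rfl⟩ := h
      rw [(oLam_cases hm X _ _).1 b a rfl rfl, Finset.sum_eq_single b (fun c _ hc => by
        simp [Pi.single_apply, Ne.symm hc]) (by simp)]
      simp
    · rw [(oLam_cases hm X _ _).2.2 ?_, Finset.sum_eq_zero fun b _ => by
        rw [Pi.smul_apply, Pi.single_eq_of_ne fun e => h ⟨b, e⟩, smul_zero]]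
      · exact if_neg fun e => h ⟨a, e⟩
      · by_cases hL : oL κ m p = oL κ m (ox κ m (sucEmb m a))
        · rcases p with c | i | i
          · exact Or.inr (Or.inr (Or.inl rfl))
          · by_cases hi : i.val = 0
            · exact Or.inr (Or.inl (by simp [oL, hi]))
            · obtain ⟨b, rfl⟩ := (sucEmb_range i).2 hi
              exact absurd ⟨b, rfl⟩ h
          · simp only [oL, Sum.elim_inr, Sum.elim_inl] at hL
            split_ifs at hL <;> omega
        · exact Or.inl hL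
  · funext p
    rw [Matrix.mulVec_single_one, Matrix.col_apply, Finset.sum_apply]
    by_cases h : ∃ b, p = oy κ m (sucEmb m b)
    · obtain ⟨b, rfl⟩ := h
      rw [(oLam_cases hm X _ _).2.1 b a rfl rfl, Finset.sum_eq_single b (fun c _ hc => by
        simp [Pi.single_apply, Ne.symm hc]) (by simp)]
      simp
    · rw [(oLam_cases hm X _ _).2.2 ?_, Finset.sum_eq_zero fun b _ => by
        rw [Pi.smul_apply, Pi.single_eq_of_ne fun e => h ⟨b, e⟩, smul_zero]]
      · exact if_neg fun e => h ⟨a, e⟩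
      · by_cases hL : oL κ m p = oL κ m (oy κ m (sucEmb m a))
        · rcases p with c | i | i
          · exact Or.inr (Or.inr (Or.inl rfl))
          · simp only [oL, Sum.elim_inr, Sum.elim_inl] at hL
            split_ifs at hL <;> omega
          · by_cases hi : i.val = 0
            · exact Or.inr (Or.inr (Or.inr (by simp [oL, hi])))
            · obtain ⟨b, rfl⟩ := (sucEmb_range i).2 hi
              exact absurd ⟨b, rfl⟩ h
        · exact Or.inl hL
  · funext p
    rw [Matrix.mulVec_single_one, Matrix.col_apply, (oLam_cases hm X _ _).2.2 ?_, Pi.single_apply]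
    by_cases hL : oL κ m p = oL κ m q
    · exact Or.inr (hL ▸ hq)
    · exact Or.inl hL

/-- An element exchanging the halves inverts the torus element and acts on the block by transpose inverse. -/
theorem rev_of_flip (hm : 3 ≤ m) {x t : OOm κ m F} {d : OIdx κ m → Fˣ}
    (ht : oRho κ m F t = Matrix.diagonal fun p => (d p : F))
    (hx : ∀ i : Fin m, i.val ≠ 0 → oRho κ m F x *ᵥ Pi.single (ox κ m i) 1 = Pi.single (oy κ m i) 1 ∧
      oRho κ m F x *ᵥ Pi.single (oy κ m i) 1 = Pi.single (ox κ m i) 1)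
    (hs : ∀ q, oL κ m q = 0 ∨ oL κ m q = 2 ∨ oL κ m q = 4 → ∃ (s : F) (p : OIdx κ m),
      (oL κ m p = 0 ∨ oL κ m p = 2 ∨ oL κ m p = 4) ∧ d p * d q = 1 ∧
      oRho κ m F x *ᵥ Pi.single q 1 = s • Pi.single p 1)
    (hd : ∀ i : Fin m, i.val ≠ 0 → d (ox κ m i) * d (oy κ m i) = 1) :
    x * t * x⁻¹ = t⁻¹ ∧ ∀ A, x * oLam κ F hm A * x⁻¹ = oLam κ F hm (tinv A) := by
  have key : ∀ q, ∃ (s : F) (p : OIdx κ m), d p * d q = 1 ∧ oRho κ m F x *ᵥ Pi.single q 1 = s • Pi.single p 1 := by
    intro q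
    rcases q with c | i | i
    · obtain ⟨s, p, -, h⟩ := hs (Sum.inl c) (Or.inr (Or.inl rfl)); exact ⟨s, p, h⟩
    · by_cases hi : i.val = 0
      · obtain ⟨s, p, -, h⟩ := hs (ox κ m i) (Or.inl (by simp [oL, hi])); exact ⟨s, p, h⟩
      · exact ⟨1, oy κ m i, by rw [mul_comm]; exact hd i hi, by rw [one_smul]; exact (hx i hi).1⟩
    · by_cases hi : i.val = 0
      · obtain ⟨s, p, -, h⟩ := hs (oy κ m i) (Or.inr (Or.inr (by simp [oL, hi]))); exact ⟨s, p, h⟩
      · exact ⟨1, ox κ m i, hd i hi, by rw [one_smul]; exact (hx i hi).2⟩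
  constructor
  · rw [eq_comm, inv_eq_iff_mul_eq_one, show t * (x * t * x⁻¹) = (t * (x * t)) * x⁻¹ by group, mul_inv_eq_one]
    refine oRho_inj (Matrix.ext_iff_mulVec.2 fun v => ?_)
    rw [pi_eq_sum_univ' v]
    simp only [Matrix.mulVec_sum, Matrix.mulVec_smul]
    refine Finset.sum_congr rfl fun q _ => congrArg _ ?_
    obtain ⟨s, p, hpq, e⟩ := key q
    rw [map_mul, map_mul, ← Matrix.mulVec_mulVec, ← Matrix.mulVec_mulVec, ht, Matrix.diagonal_mulVec_single,
      mul_one, ← mul_one (d q : F), ← smul_eq_mul, Pi.single_smul, Matrix.mulVec_smul, e, Matrix.mulVec_smul,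
      Matrix.mulVec_smul, Matrix.diagonal_mulVec_single, mul_one, ← mul_one (d p : F), ← smul_eq_mul (d p : F),
      Pi.single_smul, smul_smul, smul_smul,
      show (d q : F) * s * (d p : F) = s * ((d p : F) * (d q : F)) by ring,
      ← Units.val_mul, hpq, Units.val_one, mul_one]
  · intro A
    rw [mul_inv_eq_iff_eq_mul]
    refine oRho_inj (Matrix.ext_iff_mulVec.2 fun v => ?_)
    rw [pi_eq_sum_univ' v]
    simp only [Matrix.mulVec_sum, Matrix.mulVec_smul]
    refine Finset.sum_congr rfl fun q _ => congrArg _ ?_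
    rw [map_mul, map_mul, ← Matrix.mulVec_mulVec, ← Matrix.mulVec_mulVec]
    obtain ⟨vx, vy, vs⟩ := oLam_vec (κ := κ) hm A
    obtain ⟨wx, wy, ws⟩ := oLam_vec (κ := κ) hm (tinv A)
    by_cases hq : oL κ m q = 0 ∨ oL κ m q = 2 ∨ oL κ m q = 4
    · obtain ⟨s, p, hp, -, e⟩ := hs q hq
      rw [vs q hq, e, Matrix.mulVec_smul, ws p hp]
    rcases q with c | i | i
    · exact absurd (Or.inr (Or.inl rfl)) hq
    · have hi : i.val ≠ 0 := fun hi => hq (Or.inl (by simp [oL, hi]))
      obtain ⟨a, rfl⟩ := (sucEmb_range i).2 hi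
      rw [vx a, (hx _ hi).1, wy a, tinv_tinv, Matrix.mulVec_sum]
      refine Finset.sum_congr rfl fun b _ => ?_
      rw [Matrix.mulVec_smul, (hx _ ((sucEmb_range _).1 ⟨b, rfl⟩)).1]
    · have hi : i.val ≠ 0 := fun hi => hq (Or.inr (Or.inr (by simp [oL, hi])))
      obtain ⟨a, rfl⟩ := (sucEmb_range i).2 hi
      rw [vy a, (hx _ hi).2, wx a, Matrix.mulVec_sum]
      refine Finset.sum_congr rfl fun b _ => ?_
      rw [Matrix.mulVec_smul, (hx _ ((sucEmb_range _).1 ⟨b, rfl⟩)).2]

end Cfsg.Agent.Classical.MatRootData
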