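import Cfsg.Agent.Lib.Classical.MatOrthBase

/-!
Heights of the coordinates of a split orthogonal space, the relations between the two halves of a
unitriangular isometry, and the short steps of the chain of simple roots.
-/

set_option autoImplicit false
set_option linter.unusedSectionVars false
set_option maxHeartbeats 2000000

namespace Cfsg.Agent.Classical.MatRootData

open Matrix Cfsg.Agent.Classical.RegularBlocks Cfsg.Agent.Classical.OrthAut Cfsg.Agent.Lie.Chev Cfsg.Agent.Lie.CurtisTitsA
open Cfsg.Agent.Lie.SpnPres (tinv tinv_val tinv_tinv)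
open scoped MatrixGroups

variable {κ : Type} [Fintype κ] [DecidableEq κ] [Subsingleton κ] {m : ℕ} {F : Type*} [Field F] [Fintype F]

variable (κ m) in
/-- The height of a coordinate. -/
def oH : OIdx κ m → ℕ :=
  Sum.elim (fun _ => m) (Sum.elim (fun i => i.val) fun i => 2 * m + 2 * Fintype.card κ - 2 - i.val)

variable (κ m) in
/-- A strict refinement of the height. -/
def oHs : OIdx κ m → ℕ :=
  Sum.elim (fun _ => m) (Sum.elim (fun i => i.val) fun i => 2 * m + Fintype.card κ - 1 - i.val)

variable (κ m) in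
/-- The levels of a short simple root. -/
def oLvS (i : ℕ) (p : OIdx κ m) : ℕ :=
  oHs κ m p - (if i < oHs κ m p then 1 else 0) -
    (if 2 * m + Fintype.card κ - 2 - i < oHs κ m p then 1 else 0)

theorem card_cases : Fintype.card κ ≤ 1 ∧ ∀ _ : κ, Fintype.card κ = 1 :=
  ⟨Fintype.card_le_one_iff_subsingleton.2 inferInstance, fun c =>
    le_antisymm (Fintype.card_le_one_iff_subsingleton.2 inferInstance) (Fintype.card_pos_iff.2 ⟨c⟩)⟩

theorem oHs_inj : Function.Injective (oHs κ m) := by
  intro p q h
  rcases p with c | i | i <;> rcases q with d | j | j <;>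
    simp only [oHs, Sum.elim_inl, Sum.elim_inr] at h <;>
    first | have := (card_cases (κ := κ)).1
  all_goals
    first
      | exact congrArg _ (Subsingleton.elim _ _)
      | exact congrArg (ox κ m) (Fin.ext h)
      | (exact congrArg (oy κ m) (Fin.ext (by have := i.2; have := j.2; omega)))
      | (exfalso; have := (card_cases (κ := κ)).2 c; omega)
      | (exfalso; have := (card_cases (κ := κ)).2 d; omega)
      | (exfalso; have := i.2; have := j.2; omega)

theorem oLvS_spec (i : ℕ) (hi : i + 1 < m) (p : OIdx κ m) :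
    (oHs κ m p ≤ i → oLvS κ m i p = oHs κ m p) ∧
    (i < oHs κ m p ∧ oHs κ m p ≤ 2 * m + Fintype.card κ - 2 - i → oLvS κ m i p + 1 = oHs κ m p) ∧
    (2 * m + Fintype.card κ - 2 - i < oHs κ m p → oLvS κ m i p + 2 = oHs κ m p) := by
  unfold oLvS
  refine ⟨fun h => ?_, fun h => ?_, fun h => ?_⟩ <;> split_ifs <;> omega

/-- The relation between two columns. -/
theorem og_cols (g : OOm κ m F) (p q : OIdx κ m) :
    (∑ c, 2 * oRho κ m F g (Sum.inl c) p * oRho κ m F g (Sum.inl c) q) +
      ∑ i, (oRho κ m F g (ox κ m i) p * oRho κ m F g (oy κ m i) q +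
        oRho κ m F g (ox κ m i) q * oRho κ m F g (oy κ m i) p) =
      QuadraticMap.polar ⇑(qK κ m F) (Pi.single p 1) (Pi.single q 1) := by
  have h := isometry_polar (ogVal_quad (g : isometryGroup F ⇑(qK κ m F))) (Pi.single p 1) (Pi.single q 1)
  rw [← h, polar_qK]
  simp only [Matrix.mulVec_single_one, Matrix.col_apply, oRho_apply]

/-- The value of a column. -/
theorem og_col (g : OOm κ m F) (q : OIdx κ m) :
    (∑ c, oRho κ m F g (Sum.inl c) q * oRho κ m F g (Sum.inl c) q) +
      ∑ i, oRho κ m F g (ox κ m i) q * oRho κ m F g (oy κ m i) q = qK κ m F (Pi.single q 1) := by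
  have h := ogVal_quad (g : isometryGroup F ⇑(qK κ m F)) (Pi.single q 1)
  rw [← h, qK_apply]
  simp only [Matrix.mulVec_single_one, Matrix.col_apply, oRho_apply]

/-- Unitriangular isometries have no entry between two coordinates of equal height. -/
theorem tri_le (H : OIdx κ m → ℕ) (hc : ∀ p q, H p < H q → ¬ oH κ m q < oH κ m p) :
    tri (oRho κ m F) H ≤ tri (oRho κ m F) (oH κ m) := by
  intro g hg p q hpq
  by_cases hH : H p < H q
  swap
  · exact hg p q hH
  have hne : p ≠ q := fun e => by rw [e] at hH; exact lt_irrefl _ hH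
  have heq : oH κ m p = oH κ m q := le_antisymm (not_lt.1 (hc p q hH)) (not_lt.1 hpq)
  rw [if_neg hne]
  have h1 : oRho κ m F g q q = 1 := (hg q q (lt_irrefl _)).trans (if_pos rfl)
  have h0 : ∀ r, oH κ m q < oH κ m r → oRho κ m F g r q = 0 := fun r hr =>
    (hg r q fun e => hc r q e hr).trans (if_neg fun e => by rw [e] at hr; exact lt_irrefl _ hr)
  have hcol := og_col g q
  have hcc := card_cases (κ := κ)
  rcases p with c | a | a <;> rcases q with d | b | b <;>
    simp only [oH, Sum.elim_inl, Sum.elim_inr] at heq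
  · exact absurd (congrArg Sum.inl (Subsingleton.elim c d)) hne
  · have := b.2; omega
  · have := hcc.2 c; have := b.2; omega
  · have := a.2; omega
  · exact absurd (congrArg (ox κ m) (Fin.ext heq)) hne
  · have := a.2; have := b.2
    obtain ⟨e0, e1, e2⟩ : Fintype.card κ = 0 ∧ a.val = m - 1 ∧ b.val = m - 1 := by omega
    have hab : a = b := Fin.ext (e1.trans e2.symm)
    rw [Finset.sum_eq_zero (fun c _ => absurd (hcc.2 c) (by omega)), qK_oy, zero_add,
      Finset.sum_eq_single a ?_ (by simp)] at hcol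
    · rw [hab] at hcol ⊢
      rwa [h1, mul_one] at hcol
    · intro r _ hr
      rw [h0 (oy κ m r) ?_, mul_zero]
      show 2 * m + 2 * Fintype.card κ - 2 - b.val < 2 * m + 2 * Fintype.card κ - 2 - r.val
      have := r.2
      have := Fin.val_ne_of_ne hr
      omega
  · have := hcc.2 d; have := a.2; omega
  · have := a.2; have := b.2
    obtain ⟨e0, e1, e2⟩ : Fintype.card κ = 0 ∧ a.val = m - 1 ∧ b.val = m - 1 := by omega
    have hab : a = b := Fin.ext (e1.trans e2.symm)
    rw [Finset.sum_eq_zero (fun c _ => absurd (hcc.2 c) (by omega)), qK_ox, zero_add,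
      Finset.sum_eq_single a ?_ (by simp)] at hcol
    · rw [hab] at hcol ⊢
      rwa [h1, one_mul] at hcol
    · intro r _ hr
      rw [h0 (oy κ m r) ?_, mul_zero]
      show b.val < 2 * m + 2 * Fintype.card κ - 2 - r.val
      have := r.2
      have := Fin.val_ne_of_ne hr
      omega
  · have := a.2; have := b.2
    exact absurd (congrArg (oy κ m) (Fin.ext (show a.val = b.val by omega))) hne

theorem tri_le_dual (H : OIdx κ m → ℕ) (hc : ∀ p q, H p < H q → ¬ oH κ m q < oH κ m p) :
    tri (oRho κ m F) (OrderDual.toDual ∘ H) ≤ tri (oRho κ m F) (OrderDual.toDual ∘ oH κ m) := by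
  intro g hg p q hpq
  by_cases hH : H q < H p
  swap
  · exact hg p q hH
  have hne : p ≠ q := fun e => by rw [e] at hH; exact lt_irrefl _ hH
  have hpq' : ¬ oH κ m q < oH κ m p := hpq
  have heq : oH κ m p = oH κ m q := le_antisymm (not_lt.1 hpq') (not_lt.1 (hc q p hH))
  rw [if_neg hne]
  have h1 : oRho κ m F g q q = 1 := (hg q q (lt_irrefl _)).trans (if_pos rfl)
  have h0 : ∀ r, oH κ m r < oH κ m q → oRho κ m F g r q = 0 := fun r hr => by
    refine (hg r q ?_).trans (if_neg fun e => by rw [e] at hr; exact lt_irrefl _ hr)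
    show ¬ H q < H r
    exact fun e => hc q r e hr
  have hcol := og_col g q
  have hcc := card_cases (κ := κ)
  rcases p with c | a | a <;> rcases q with d | b | b <;>
    simp only [oH, Sum.elim_inl, Sum.elim_inr] at heq
  · exact absurd (congrArg Sum.inl (Subsingleton.elim c d)) hne
  · have := b.2; omega
  · have := hcc.2 c; have := b.2; omega
  · have := a.2; omega
  · exact absurd (congrArg (ox κ m) (Fin.ext heq)) hne
  · have := a.2; have := b.2
    obtain ⟨e0, e1, e2⟩ : Fintype.card κ = 0 ∧ a.val = m - 1 ∧ b.val = m - 1 := by omega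
    have hab : a = b := Fin.ext (e1.trans e2.symm)
    rw [Finset.sum_eq_zero (fun c _ => absurd (hcc.2 c) (by omega)), qK_oy, zero_add,
      Finset.sum_eq_single a ?_ (by simp)] at hcol
    · rw [hab] at hcol ⊢
      rwa [h1, mul_one] at hcol
    · intro r _ hr
      rw [h0 (ox κ m r) ?_, zero_mul]
      show r.val < 2 * m + 2 * Fintype.card κ - 2 - b.val
      have := r.2
      have := Fin.val_ne_of_ne hr
      omega
  · have := hcc.2 d; have := a.2; omega
  · have := a.2; have := b.2
    obtain ⟨e0, e1, e2⟩ : Fintype.card κ = 0 ∧ a.val = m - 1 ∧ b.val = m - 1 := by omega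
    have hab : a = b := Fin.ext (e1.trans e2.symm)
    rw [Finset.sum_eq_zero (fun c _ => absurd (hcc.2 c) (by omega)), qK_ox, zero_add,
      Finset.sum_eq_single a ?_ (by simp)] at hcol
    · rw [hab] at hcol ⊢
      rwa [h1, one_mul] at hcol
    · intro r _ hr
      rw [h0 (ox κ m r) ?_, zero_mul]
      show r.val < b.val
      have := r.2
      have := Fin.val_ne_of_ne hr
      omega
  · have := a.2; have := b.2
    exact absurd (congrArg (oy κ m) (Fin.ext (show a.val = b.val by omega))) hne

theorem o_short_upper {g : OOm κ m F} (hg : g ∈ tri (oRho κ m F) (oH κ m))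
    {i j : Fin m} (hij : i.val + 1 = j.val) :
    oRho κ m F g (oy κ m j) (oy κ m i) = - oRho κ m F g (ox κ m i) (ox κ m j) := by
  have hne : i ≠ j := Fin.ne_of_val_ne (by omega)
  have hi := i.2; have hj := j.2
  have hcc := card_cases (κ := κ)
  have h := og_cols g (ox κ m j) (oy κ m i)
  have h3 : ∀ x : Fin m, oRho κ m F g (oy κ m x) (ox κ m j) = 0 := fun x => by
    refine (hg _ _ ?_).trans (if_neg (by simp))
    show ¬ (2 * m + 2 * Fintype.card κ - 2 - x.val < j.val)
    have := x.2
    omega
  rw [polar_ox, Pi.single_eq_of_ne (by simp [hne.symm]),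
    Finset.sum_eq_zero (fun c _ => by
      rw [show oRho κ m F g (Sum.inl c) (ox κ m j) = 0 from (hg (Sum.inl c) (ox κ m j) (show ¬ m < j.val by omega)).trans
        (if_neg (by simp))]
      ring), zero_add, Finset.sum_eq_add i j hne] at h
  · have h1 : oRho κ m F g (oy κ m i) (oy κ m i) = 1 := (hg _ _ (lt_irrefl _)).trans (if_pos rfl)
    have h2 : oRho κ m F g (ox κ m j) (ox κ m j) = 1 := (hg _ _ (lt_irrefl _)).trans (if_pos rfl)
    rw [h1, h2, h3, h3] at h
    linear_combination h
  · intro x _ hx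
    rw [h3, mul_zero, add_zero]
    have := Fin.val_ne_of_ne hx.1
    have := Fin.val_ne_of_ne hx.2
    have := x.2
    by_cases hlt : x.val < j.val
    · rw [show oRho κ m F g (oy κ m x) (oy κ m i) = 0 from (hg _ _ ?_).trans (if_neg (by simp [hx.1])), mul_zero]
      show ¬ (2 * m + 2 * Fintype.card κ - 2 - x.val < 2 * m + 2 * Fintype.card κ - 2 - i.val)
      omega
    · rw [show oRho κ m F g (ox κ m x) (ox κ m j) = 0 from (hg _ _ ?_).trans (if_neg (by simp [hx.2])), zero_mul]
      show ¬ (x.val < j.val)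
      exact hlt
  · simp
  · simp

theorem o_short_lower {g : OOm κ m F} (hg : g ∈ tri (oRho κ m F) (OrderDual.toDual ∘ oH κ m))
    {i j : Fin m} (hij : i.val + 1 = j.val) :
    oRho κ m F g (oy κ m i) (oy κ m j) = - oRho κ m F g (ox κ m j) (ox κ m i) := by
  have hne : i ≠ j := Fin.ne_of_val_ne (by omega)
  have hi := i.2; have hj := j.2
  have hcc := card_cases (κ := κ)
  have h := og_cols g (ox κ m i) (oy κ m j)
  have h3 : ∀ x : Fin m, oRho κ m F g (ox κ m x) (oy κ m j) = 0 := fun x => by
    refine (hg _ _ ?_).trans (if_neg (by simp))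
    show ¬ (2 * m + 2 * Fintype.card κ - 2 - j.val < x.val)
    have := x.2
    omega
  rw [polar_ox, Pi.single_eq_of_ne (by simp [hne]),
    Finset.sum_eq_zero (fun c _ => by
      have := hcc.2 c
      rw [show oRho κ m F g (Sum.inl c) (oy κ m j) = 0 from
        (hg (Sum.inl c) (oy κ m j) (show ¬ (2 * m + 2 * Fintype.card κ - 2 - j.val < m) by omega)).trans (if_neg (by simp))]
      ring), zero_add, Finset.sum_eq_add i j hne] at h
  · have h1 : oRho κ m F g (oy κ m j) (oy κ m j) = 1 := (hg _ _ (lt_irrefl _)).trans (if_pos rfl)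
    have h2 : oRho κ m F g (ox κ m i) (ox κ m i) = 1 := (hg _ _ (lt_irrefl _)).trans (if_pos rfl)
    rw [h1, h2, h3, h3] at h
    linear_combination h
  · intro x _ hx
    rw [h3, zero_mul, add_zero]
    have := Fin.val_ne_of_ne hx.1
    have := Fin.val_ne_of_ne hx.2
    have := x.2
    by_cases hlt : x.val < i.val
    · rw [show oRho κ m F g (ox κ m x) (ox κ m i) = 0 from (hg _ _ ?_).trans (if_neg (by simp [hx.1])), zero_mul]
      show ¬ (i.val < x.val)
      omega
    · rw [show oRho κ m F g (oy κ m x) (oy κ m j) = 0 from (hg _ _ ?_).trans (if_neg (by simp [hx.2])), mul_zero]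
      show ¬ (2 * m + 2 * Fintype.card κ - 2 - j.val < 2 * m + 2 * Fintype.card κ - 2 - x.val)
      omega
  · simp
  · simp

/-- The homomorphism of a short simple root. -/
noncomputable def oShort (hm : 3 ≤ m) (i : Fin m) (hi : i.val + 1 < m) : SL(2, F) →* OOm κ m F :=
  (oLevOm κ F hm).comp (ext2 i ⟨i.val + 1, hi⟩ (Fin.ne_of_val_ne (by simp)))

/-- The entries of a short simple root copy of `SL₂`. -/
theorem oShort_val (hm : 3 ≤ m) (i : Fin m) (hi : i.val + 1 < m) (X : SL(2, F)) (p q : OIdx κ m) :
    oRho κ m F (oShort hm i hi X) p q =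
      match p, q with
      | .inr (.inl p), .inr (.inl q) =>
          if q.val = i.val then (if p.val = i.val then X.1 0 0 else if p.val = i.val + 1 then X.1 1 0 else 0)
          else if q.val = i.val + 1 then (if p.val = i.val then X.1 0 1 else if p.val = i.val + 1 then X.1 1 1 else 0)
          else if p = q then 1 else 0
      | .inr (.inr p), .inr (.inr q) =>
          if q.val = i.val then (if p.val = i.val then X.1 1 1 else if p.val = i.val + 1 then -X.1 0 1 else 0)
          else if q.val = i.val + 1 then (if p.val = i.val then -X.1 1 0 else if p.val = i.val + 1 then X.1 0 0 else 0)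
          else if p = q then 1 else 0
      | p, q => if p = q then 1 else 0 := by
  show fromBlocks 1 0 0 (fromBlocks _ 0 0 _) p q = _
  rcases p with c | p | p <;> rcases q with d | q | q
  · simp [Matrix.one_apply]
  · simp
  · simp
  · simp
  · rw [fromBlocks_apply₂₂, fromBlocks_apply₁₁, ext2_apply]; simp only [Fin.ext_iff]
  · simp
  · simp
  · simp
  · rw [fromBlocks_apply₂₂, fromBlocks_apply₂₂, show tinv (ext2 i ⟨i.val + 1, hi⟩ _ X) = ext2 i ⟨i.val + 1, hi⟩ _ (tinv X) from
      Cfsg.Agent.Lie.SpnPres.tinv_extSL _ X, ext2_apply, tau_two]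
    simp [Fin.ext_iff]

/-- All wedge Siegel transformations follow from one. -/
theorem sieg_wedge_x {S : Subgroup (isometryGroup F ⇑(qK κ m F))} (hlev : ∀ A, oLev κ m F A ∈ S) {a b : Fin m}
    (hab : a ≠ b) (h : ∀ s : F, Sieg S (Pi.single (ox κ m a) 1) (s • Pi.single (ox κ m b) 1))
    (i j : Fin m) (hij : i ≠ j) (s : F) : Sieg S (Pi.single (ox κ m i) 1) (s • Pi.single (ox κ m j) 1) := by
  obtain ⟨σ, ha, hb⟩ := exists_perm_pair hab hij
  have hok : OK (qK κ m F) (Pi.single (ox κ m a) 1) ((s * ((Equiv.Perm.sign σ : ℤ) : F)) • Pi.single (ox κ m b) 1) :=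
    ⟨qK_ox a, by simp [polar_ox]⟩
  have := Sieg.conj (hlev (mono σ b)) hok (h _)
  rwa [ogVal_oLev, Matrix.mulVec_smul, mono_x, mono_x, if_neg hab, if_pos rfl, one_smul, ha, hb, smul_smul,
    mul_assoc, sign_sq, mul_one] at this

theorem sieg_wedge_y {S : Subgroup (isometryGroup F ⇑(qK κ m F))} (hlev : ∀ A, oLev κ m F A ∈ S) {a b : Fin m}
    (hab : a ≠ b) (h : ∀ s : F, Sieg S (Pi.single (oy κ m a) 1) (s • Pi.single (oy κ m b) 1))
    (i j : Fin m) (hij : i ≠ j) (s : F) : Sieg S (Pi.single (oy κ m i) 1) (s • Pi.single (oy κ m j) 1) := by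
  obtain ⟨σ, ha, hb⟩ := exists_perm_pair hab hij
  have hok : OK (qK κ m F) (Pi.single (oy κ m a) 1) ((s * ((Equiv.Perm.sign σ : ℤ) : F)) • Pi.single (oy κ m b) 1) :=
    ⟨qK_oy a, by simp [polar_oy]⟩
  have := Sieg.conj (hlev (mono σ b)) hok (h _)
  rwa [ogVal_oLev, Matrix.mulVec_smul, mono_y, mono_y, if_neg hab, if_pos rfl, one_smul, ha, hb, smul_smul,
    mul_assoc, sign_sq, mul_one] at this

/-- The Levi factor is generated by its short simple roots. -/
theorem oLev_mem_of_short (hm : 3 ≤ m) (S : Subgroup (OOm κ m F))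
    (hx : ∀ (i : Fin m) (hi : i.val + 1 < m) (a : F), oShort hm i hi (upSL a) ∈ S)
    (hy : ∀ (i : Fin m) (hi : i.val + 1 < m) (a : F), oShort hm i hi (loSL a) ∈ S)
    (A : SpecialLinearGroup (Fin m) F) :
    oLev κ m F A ∈ S.map (Cfsg.Omega F ⇑(qK κ m F)).subtype := by
  obtain ⟨n, rfl⟩ : ∃ n, m = n + 1 := ⟨m - 1, by omega⟩
  have htop : S.comap (oLevOm κ F hm) = ⊤ := adj_top
    (fun l t => by
      have h := hx l.castSucc (by simp) t
      rw [oShort, MonoidHom.comp_apply, ext2_up] at h
      exact h)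
    (fun l t => by
      have h := hy l.castSucc (by simp) t
      rw [oShort, MonoidHom.comp_apply, ext2_lo] at h
      exact h)
  exact ⟨oLevOm κ F hm A, (htop ▸ Subgroup.mem_top A : A ∈ S.comap _), rfl⟩

end Cfsg.Agent.Classical.MatRootData
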