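import Cfsg.Agent.Lib.Classical.PrescribedGauss
import Cfsg.Agent.Lib.Lie.Chev.SLTwo

/-!
Split root data of matrix groups: the unipotent groups are block unitriangular for level functions
and are normalised by the block diagonal elements.
-/

set_option autoImplicit false

namespace Cfsg.Agent.Classical.MatRootData

open Matrix Cfsg.Agent.Lie.Chev
open scoped MatrixGroups

variable {I : Type} [Fintype I] [DecidableEq I] {F : Type*} [Field F] {G : Type*} [Group G] [Finite G]
  (ρ : G →* Matrix I I F) {κ : Type*} [LinearOrder κ]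

theorem up_add (a b : F) : (upSL (a + b) : SL(2, F)) = upSL a * upSL b :=
  ext_two (by simp [upSL_val]) (by simp [upSL_val, add_comm]) (by simp [upSL_val]) (by simp [upSL_val])

theorem lo_add (a b : F) : (loSL (a + b) : SL(2, F)) = loSL a * loSL b :=
  ext_two (by simp [loSL_val]) (by simp [loSL_val]) (by simp [loSL_val, add_comm]) (by simp [loSL_val])

theorem up_zero : (upSL (0 : F) : SL(2, F)) = 1 :=
  ext_two (by simp [upSL_val]) (by simp [upSL_val]) (by simp [upSL_val]) (by simp [upSL_val])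

theorem up_neg (a : F) : (upSL (-a) : SL(2, F)) = (upSL a)⁻¹ :=
  eq_inv_of_mul_eq_one_left (by rw [← up_add, neg_add_cancel, up_zero])

theorem lo_zero : (loSL (0 : F) : SL(2, F)) = 1 :=
  ext_two (by simp [loSL_val]) (by simp [loSL_val]) (by simp [loSL_val]) (by simp [loSL_val])

theorem lo_neg (a : F) : (loSL (-a) : SL(2, F)) = (loSL a)⁻¹ :=
  eq_inv_of_mul_eq_one_left (by rw [← lo_add, neg_add_cancel, lo_zero])

/-- The elements that are unitriangular for a level function. -/
def tri (h : I → κ) : Subgroup G where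
  carrier := {g | ∀ p q, ¬ h p < h q → ρ g p q = if p = q then 1 else 0}
  one_mem' := fun p q _ => by rw [map_one, Matrix.one_apply]
  mul_mem' := fun {a b} ha hb p q hpq => by
    rw [map_mul, Matrix.mul_apply, Finset.sum_eq_single p]
    · rw [hb p q hpq, ha p p (lt_irrefl _)]; simp
    · intro r _ hr
      by_cases h1 : h p < h r
      · have h2 : ¬ h r < h q := fun h2 => hpq (h1.trans h2)
        rw [hb r q h2]
        by_cases h3 : r = q
        · subst h3; rw [ha p r hpq, if_neg (Ne.symm hr), zero_mul]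
        · rw [if_neg h3, mul_zero]
      · rw [ha p r h1, if_neg (Ne.symm hr), zero_mul]
    · simp
  inv_mem' := fun {a} ha => by
    have hpow : ∀ n : ℕ, ∀ p q, ¬ h p < h q → ρ (a ^ n) p q = if p = q then 1 else 0 := by
      intro n
      induction n with
      | zero => intro p q _; rw [pow_zero, map_one, Matrix.one_apply]
      | succ n ih =>
        intro p q hpq
        rw [pow_succ, map_mul, Matrix.mul_apply, Finset.sum_eq_single p]
        · rw [ha p q hpq, ih p p (lt_irrefl _)]; simp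
        · intro r _ hr
          by_cases h1 : h p < h r
          · have h2 : ¬ h r < h q := fun h2 => hpq (h1.trans h2)
            rw [ha r q h2]
            by_cases h3 : r = q
            · subst h3; rw [ih p r hpq, if_neg (Ne.symm hr), zero_mul]
            · rw [if_neg h3, mul_zero]
          · rw [ih p r h1, if_neg (Ne.symm hr), zero_mul]
        · simp
    have hinv : a⁻¹ = a ^ (orderOf a - 1) := by
      refine inv_eq_of_mul_eq_one_right ?_
      rw [← pow_succ', Nat.sub_add_cancel (orderOf_pos a), pow_orderOf_eq_one]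
    intro p q hpq
    rw [hinv]
    exact hpow _ p q hpq

/-- The elements that are block diagonal for a level function. -/
def bd (L : I → κ) : Subgroup G where
  carrier := {g | ∀ p q, L p ≠ L q → ρ g p q = 0}
  one_mem' := fun p q h => by rw [map_one, Matrix.one_apply_ne fun e => h (by rw [e])]
  mul_mem' := fun {a b} ha hb p q h => by
    rw [map_mul, Matrix.mul_apply]
    refine Finset.sum_eq_zero fun r _ => ?_
    by_cases h1 : L p = L r
    · rw [hb r q fun e => h (h1.trans e), mul_zero]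
    · rw [ha p r h1, zero_mul]
  inv_mem' := fun {a} ha => by
    have hpow : ∀ n : ℕ, ∀ p q, L p ≠ L q → ρ (a ^ n) p q = 0 := by
      intro n
      induction n with
      | zero => intro p q h; rw [pow_zero, map_one, Matrix.one_apply_ne fun e => h (by rw [e])]
      | succ n ih =>
        intro p q h
        rw [pow_succ, map_mul, Matrix.mul_apply]
        refine Finset.sum_eq_zero fun r _ => ?_
        by_cases h1 : L p = L r
        · rw [ha r q fun e => h (h1.trans e), mul_zero]
        · rw [ih p r h1, zero_mul]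
    have hinv : a⁻¹ = a ^ (orderOf a - 1) := by
      refine inv_eq_of_mul_eq_one_right ?_
      rw [← pow_succ', Nat.sub_add_cancel (orderOf_pos a), pow_orderOf_eq_one]
    intro p q h
    rw [hinv]
    exact hpow _ p q h

variable {ρ}

theorem bd_conj {L : I → κ} {b g : G} (hb : b ∈ bd ρ L) (hg : g ∈ tri ρ L) : b * g * b⁻¹ ∈ tri ρ L := by
  have hb' : b⁻¹ ∈ bd ρ L := inv_mem hb
  intro p q hpq
  have key : ∀ r s, ρ b p r * ρ g r s * ρ b⁻¹ s q = ρ b p r * (1 : Matrix I I F) r s * ρ b⁻¹ s q := by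
    intro r s
    by_cases h1 : L p = L r
    · by_cases h2 : L s = L q
      · rw [hg r s (by rw [← h1, h2]; exact hpq), Matrix.one_apply]
      · rw [hb' s q h2, mul_zero, mul_zero]
    · rw [hb p r h1]; simp
  calc ρ (b * g * b⁻¹) p q = ∑ s, ∑ r, ρ b p r * ρ g r s * ρ b⁻¹ s q := by
        simp only [map_mul, Matrix.mul_apply, Finset.sum_mul]
    _ = ∑ s, ∑ r, ρ b p r * (1 : Matrix I I F) r s * ρ b⁻¹ s q := by simp only [key]
    _ = ρ (b * 1 * b⁻¹) p q := by simp only [map_mul, map_one, Matrix.mul_apply, Finset.sum_mul]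
    _ = _ := by rw [mul_one, mul_inv_cancel, map_one, Matrix.one_apply]

theorem tri_mono {κ' : Type*} [LinearOrder κ'] {h : I → κ} {L : I → κ'}
    (hle : ∀ p q, L p < L q → h p < h q) : tri ρ L ≤ tri ρ h :=
  fun _ hg p q hpq => hg p q fun e => hpq (hle p q e)

theorem bd_mul_split {κ' : Type*} [LinearOrder κ'] {h : I → κ} {L : I → κ'}
    (hle : ∀ p q, L p < L q → ¬ h q < h p) {b g : G} (hb : b ∈ bd ρ L) (hg : g ∈ tri ρ h)
    (heq : ∀ p q, L p = L q → ρ b p q = ρ g p q) : b⁻¹ * g ∈ tri ρ L := by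
  have hb' : b⁻¹ ∈ bd ρ L := inv_mem hb
  intro p q hpq
  have key : ∀ r, ρ b⁻¹ p r * ρ g r q = ρ b⁻¹ p r * ρ b r q := by
    intro r
    by_cases h1 : L p = L r
    · by_cases h2 : L r = L q
      · rw [heq r q h2]
      · have h3 : L q < L r := lt_of_le_of_ne (not_lt.1 (h1 ▸ hpq)) (Ne.symm h2)
        rw [hg r q (hle q r h3), hb r q h2, if_neg fun e => h2 (by rw [e])]
    · rw [hb' p r h1]; simp
  rw [map_mul, Matrix.mul_apply, Finset.sum_congr rfl fun r _ => key r, ← Matrix.mul_apply,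
    ← map_mul, inv_mul_cancel, map_one, Matrix.one_apply]

theorem fix_bottom {h : I → κ} {e : I} (he : ∀ p, p ≠ e → h e < h p) {g : G} (hg : g ∈ tri ρ h) :
    ρ g *ᵥ Pi.single e 1 = Pi.single e 1 := by
  funext p
  rw [Matrix.mulVec_single_one, Matrix.col_apply, hg p e ?_, Pi.single_apply]
  rcases eq_or_ne p e with rfl | hp
  · exact lt_irrefl _
  · exact lt_asymm (he p hp)

theorem core_trivial (hρ : Function.Injective ρ) {h : I → κ} {e : I} (he : ∀ p, p ≠ e → h e < h p)
    (hcyc : ∀ W : Submodule F (I → F), (∀ z : G, ∀ v ∈ W, ρ z *ᵥ v ∈ W) →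
      Pi.single e 1 ∈ W → W = ⊤) {g : G} (hall : ∀ z, z * g * z⁻¹ ∈ tri ρ h) : g = 1 := by
  let W : Submodule F (I → F) :=
    { carrier := {v | ∀ z, ρ (z * g * z⁻¹) *ᵥ v = v}
      add_mem' := fun {a b} ha hb z => by rw [Matrix.mulVec_add, ha z, hb z]
      zero_mem' := fun z => Matrix.mulVec_zero _
      smul_mem' := fun c v hv z => by rw [Matrix.mulVec_smul, hv z] }
  have hW : W = ⊤ := by
    refine hcyc W (fun y v hv z => ?_) fun z => fix_bottom he (hall z)
    have h1 := hv (y⁻¹ * z)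
    calc ρ (z * g * z⁻¹) *ᵥ (ρ y *ᵥ v) = ρ (y * (y⁻¹ * z * g * (y⁻¹ * z)⁻¹)) *ᵥ v := by
          rw [Matrix.mulVec_mulVec, ← map_mul]; congr 2; group
      _ = ρ y *ᵥ v := by rw [map_mul, ← Matrix.mulVec_mulVec, h1]
  refine hρ ?_
  rw [map_one]
  refine Matrix.ext_iff_mulVec.2 fun v => ?_
  have hv : v ∈ W := hW ▸ Submodule.mem_top
  simpa using hv 1

/-- A matrix group with copies of `SL₂` at the simple roots. -/
structure MatData (ρ : G →* Matrix I I F) (ι : Type) [Fintype ι] where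
  inj : Function.Injective ρ
  h : I → ℕ
  lv : ι → I → ℕ
  φ : ι → SL(2, F) →* G
  dd : ι → Fˣ → I → Fˣ
  A : ι → ι → ℤ
  top : I
  bot : I
  d_val : ∀ i (s : Fˣ), ρ (φ i (dSL (s : F) s.ne_zero)) = Matrix.diagonal fun p => (dd i s p : F)
  weight : ∀ k i (s : Fˣ) (a : F) p q,
    (dd k s p : F) * ρ (φ i (upSL a)) p q = ρ (φ i (upSL (((s ^ A k i : Fˣ) : F) * a))) p q * dd k s q ∧
    (dd k s p : F) * ρ (φ i (loSL a)) p q =
      ρ (φ i (loSL ((((s ^ A k i)⁻¹ : Fˣ) : F) * a))) p q * dd k s q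
  compat : ∀ i p q, lv i p < lv i q → ¬ h q < h p
  lv_U : ∀ i, tri ρ (lv i) ≤ tri ρ h
  lv_V : ∀ i, tri ρ (OrderDual.toDual ∘ lv i) ≤ tri ρ (OrderDual.toDual ∘ h)
  x_tri : ∀ i a, φ i (upSL a) ∈ tri ρ h
  y_tri : ∀ i a, φ i (loSL a) ∈ tri ρ (OrderDual.toDual ∘ h)
  x_bd : ∀ i a, φ i (upSL a) ∈ bd ρ (lv i)
  y_bd : ∀ i a, φ i (loSL a) ∈ bd ρ (lv i)
  U_entry : ∀ i, ∀ g ∈ tri ρ h, ∃ a, ∀ p q, lv i p = lv i q → ρ (φ i (upSL a)) p q = ρ g p q
  V_entry : ∀ i, ∀ g ∈ tri ρ (OrderDual.toDual ∘ h),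
    ∃ a, ∀ p q, lv i p = lv i q → ρ (φ i (loSL a)) p q = ρ g p q
  top_lt : ∀ p, p ≠ top → h top < h p
  bot_gt : ∀ p, p ≠ bot → h p < h bot
  cyc_top : ∀ W : Submodule F (I → F), (∀ z : G, ∀ v ∈ W, ρ z *ᵥ v ∈ W) → Pi.single top 1 ∈ W → W = ⊤
  cyc_bot : ∀ W : Submodule F (I → F), (∀ z : G, ∀ v ∈ W, ρ z *ᵥ v ∈ W) → Pi.single bot 1 ∈ W → W = ⊤
  gen : ∀ S : Subgroup G, (∀ i a, φ i (upSL a) ∈ S) → (∀ i a, φ i (loSL a) ∈ S) → S = ⊤

namespace MatData

variable {ι : Type} [Fintype ι] (D : MatData ρ ι)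

/-- The one-parameter subgroup at a root. -/
def cochar (i : ι) : Fˣ →* G where
  toFun s := D.φ i (dSL (s : F) s.ne_zero)
  map_one' := by
    rw [← map_one (D.φ i)]
    exact congrArg _ (ext_two (by simp [dSL_val]) (by simp [dSL_val]) (by simp [dSL_val]) (by simp [dSL_val]))
  map_mul' s t := by
    rw [← map_mul]
    exact congrArg _ (ext_two (by simp [dSL_val, Matrix.mul_apply, Fin.sum_univ_two])
      (by simp [dSL_val, Matrix.mul_apply, Fin.sum_univ_two])
      (by simp [dSL_val, Matrix.mul_apply, Fin.sum_univ_two])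
      (by simp [dSL_val, Matrix.mul_apply, Fin.sum_univ_two, mul_comm]))

theorem cochar_commute : Pairwise fun i j => ∀ s t, Commute (D.cochar i s) (D.cochar j t) :=
  fun i j _ s t => D.inj (by
    show ρ (D.φ i _ * D.φ j _) = ρ (D.φ j _ * D.φ i _)
    rw [map_mul, map_mul, D.d_val, D.d_val, Matrix.diagonal_mul_diagonal, Matrix.diagonal_mul_diagonal]
    exact congrArg Matrix.diagonal (funext fun p => mul_comm _ _))

/-- The torus. -/
noncomputable def T : (ι → Fˣ) →* G := MonoidHom.noncommPiCoprod D.cochar D.cochar_commute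

theorem T_single [DecidableEq ι] (i : ι) (s : Fˣ) :
    D.T (Pi.mulSingle i s) = D.φ i (dSL (s : F) s.ne_zero) := by
  unfold T
  rw [MonoidHom.noncommPiCoprod_mulSingle]
  rfl

/-- The diagonal of a torus element. -/
def diag (t : ι → Fˣ) (p : I) : Fˣ := ∏ k, D.dd k (t k) p

theorem torus_induction {P : (ι → Fˣ) → Prop} [DecidableEq ι] (h1 : P 1)
    (hmul : ∀ k s f, P f → P (Pi.mulSingle k s * f)) (t : ι → Fˣ) : P t := by
  suffices ∀ S : Finset ι, P (∏ k ∈ S, Pi.mulSingle k (t k)) by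
    simpa [Finset.univ_prod_mulSingle] using this Finset.univ
  intro S
  induction S using Finset.induction_on with
  | empty => simpa using h1
  | insert k S hk ih => rw [Finset.prod_insert hk]; exact hmul _ _ _ ih

theorem dd_mul (k : ι) (s t : Fˣ) (p : I) : D.dd k (s * t) p = D.dd k s p * D.dd k t p := by
  have h : (Matrix.diagonal fun q => (D.dd k (s * t) q : F)) =
      (Matrix.diagonal fun q => (D.dd k s q : F)) * Matrix.diagonal fun q => (D.dd k t q : F) := by
    rw [← D.d_val, ← D.d_val, ← D.d_val, ← map_mul]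
    exact congrArg ρ ((D.cochar k).map_mul s t)
  rw [Matrix.diagonal_mul_diagonal] at h
  exact Units.ext (congrFun (Matrix.diagonal_injective h) p)

theorem dd_one (k : ι) (p : I) : D.dd k 1 p = 1 := mul_eq_left.1 (by rw [← dd_mul, one_mul])

theorem diag_mul (s t : ι → Fˣ) (p : I) : D.diag (s * t) p = D.diag s p * D.diag t p := by
  simp [diag, dd_mul, Finset.prod_mul_distrib]

theorem T_val (t : ι → Fˣ) : ρ (D.T t) = Matrix.diagonal fun p => (D.diag t p : F) := by
  classical
  refine torus_induction (P := fun t => ρ (D.T t) = Matrix.diagonal fun p => (D.diag t p : F)) ?_ ?_ t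
  · simp [diag, dd_one]
  · intro k s f hf
    have e : ∀ p, D.diag (Pi.mulSingle k s) p = D.dd k s p := fun p => by
      rw [diag, Finset.prod_eq_single k (fun j _ hj => by rw [Pi.mulSingle_eq_of_ne hj, dd_one]) (by simp),
        Pi.mulSingle_eq_same]
    rw [map_mul, map_mul, hf, T_single, D.d_val, Matrix.diagonal_mul_diagonal]
    refine congrArg Matrix.diagonal (funext fun p => ?_)
    rw [diag_mul, Units.val_mul, e]

theorem T_bd (L : I → κ) (t : ι → Fˣ) : D.T t ∈ bd ρ L := fun p q h => by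
  rw [T_val, Matrix.diagonal_apply_ne _ fun e => h (by rw [e])]

/-- The value of a simple root. -/
def chi (i : ι) (t : ι → Fˣ) : Fˣ := ∏ k, t k ^ D.A k i

theorem T_conj (t : ι → Fˣ) (i : ι) (a : F) :
    D.T t * D.φ i (upSL a) = D.φ i (upSL ((D.chi i t : F) * a)) * D.T t ∧
    D.T t * D.φ i (loSL a) = D.φ i (loSL ((((D.chi i t)⁻¹ : Fˣ) : F) * a)) * D.T t := by
  classical
  revert a
  refine torus_induction (P := fun t => ∀ a,
    D.T t * D.φ i (upSL a) = D.φ i (upSL ((D.chi i t : F) * a)) * D.T t ∧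
    D.T t * D.φ i (loSL a) = D.φ i (loSL ((((D.chi i t)⁻¹ : Fˣ) : F) * a)) * D.T t) ?_ ?_ t
  · intro a; simp [chi]
  · intro k s f hf a
    have e : D.chi i (Pi.mulSingle k s * f) = s ^ D.A k i * D.chi i f := by
      simp only [chi, Pi.mul_apply, mul_zpow, Finset.prod_mul_distrib]
      congr 1
      rw [Finset.prod_eq_single k (fun j _ hj => by rw [Pi.mulSingle_eq_of_ne hj, _root_.one_zpow]) (by simp),
        Pi.mulSingle_eq_same]
    have hs : ∀ b, D.T (Pi.mulSingle k s) * D.φ i (upSL b) =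
        D.φ i (upSL (((s ^ D.A k i : Fˣ) : F) * b)) * D.T (Pi.mulSingle k s) ∧
        D.T (Pi.mulSingle k s) * D.φ i (loSL b) =
        D.φ i (loSL ((((s ^ D.A k i)⁻¹ : Fˣ) : F) * b)) * D.T (Pi.mulSingle k s) := fun b => by
      constructor <;> refine D.inj (Matrix.ext fun p q => ?_) <;>
        rw [map_mul, map_mul, T_single, D.d_val, Matrix.diagonal_mul, Matrix.mul_diagonal]
      exacts [(D.weight k i s b p q).1, (D.weight k i s b p q).2]
    obtain ⟨f1, f2⟩ := hf a
    rw [map_mul, e]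
    constructor
    · rw [mul_assoc, f1, ← mul_assoc, (hs _).1, Units.val_mul, mul_assoc, ← mul_assoc ((_ : Fˣ) : F)]
    · rw [mul_assoc, f2, ← mul_assoc, (hs _).2, mul_inv, Units.val_mul, mul_assoc, ← mul_assoc ((_ : Fˣ) : F)]

/-- The root datum. -/
noncomputable def rootData : PrescribedGauss.RootData G F ι where
  x i a := D.φ i (upSL a)
  y i a := D.φ i (loSL a)
  T := D.T
  A := D.A
  U := tri ρ D.h
  V := tri ρ (OrderDual.toDual ∘ D.h)
  Ui i := tri ρ (D.lv i)
  Vi i := tri ρ (OrderDual.toDual ∘ D.lv i)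
  x_add i a b := by rw [← map_mul]; exact congrArg _ (up_add a b)
  y_add i a b := by rw [← map_mul]; exact congrArg _ (lo_add a b)
  T_x t i a := (D.T_conj t i a).1
  T_y t i a := (D.T_conj t i a).2
  rank_one i r a s hs := by
    classical
    have e : D.T (Pi.mulSingle i s) = D.φ i (dSL (s : F) s.ne_zero) := D.T_single i s
    refine Eq.trans ?_ (congrArg (fun z => D.φ i (loSL (a / (s : F))) * z * D.φ i (upSL (r / (s : F))))
      (e.symm.trans (congrArg D.T (by congr))))
    rw [← map_mul, ← map_mul, ← map_mul]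
    congr 1
    have := s.ne_zero
    refine ext_two ?_ ?_ ?_ ?_ <;>
      simp [upSL_val, loSL_val, dSL_val, Matrix.mul_apply, Fin.sum_univ_two] <;> field_simp <;>
      first
        | linear_combination hs
        | linear_combination -hs
  Ui_le := D.lv_U
  Vi_le := D.lv_V
  x_mem := D.x_tri
  y_mem := D.y_tri
  U_split i g hg := by
    obtain ⟨a, ha⟩ := D.U_entry i g hg
    refine ⟨a, ?_⟩
    rw [up_neg, map_inv]
    exact bd_mul_split (D.compat i) (D.x_bd i a) hg ha
  V_split i g hg := by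
    obtain ⟨a, ha⟩ := D.V_entry i g hg
    refine ⟨a, ?_⟩
    rw [lo_neg, map_inv]
    exact bd_mul_split (L := OrderDual.toDual ∘ D.lv i) (fun p q h => D.compat i q p h) (D.y_bd i a) hg
      fun p q h => ha p q h
  x_Ui i a _ hg := bd_conj (D.x_bd i a) hg
  y_Ui i a _ hg := bd_conj (D.y_bd i a) hg
  T_Ui i t _ hg := bd_conj (D.T_bd _ t) hg
  x_Vi i a _ hg := bd_conj (L := OrderDual.toDual ∘ D.lv i) (D.x_bd i a) hg
  y_Vi i a _ hg := bd_conj (L := OrderDual.toDual ∘ D.lv i) (D.y_bd i a) hg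
  T_Vi i t _ hg := bd_conj (D.T_bd _ t) hg
  gen := D.gen
  coreU _ _ hall := core_trivial D.inj D.top_lt D.cyc_top hall
  coreV _ _ hall := core_trivial (h := OrderDual.toDual ∘ D.h) D.inj (fun p hp => D.bot_gt p hp) D.cyc_bot hall

end MatData

end Cfsg.Agent.Classical.MatRootData
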