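import Cfsg.Agent.Lib.Classical.MatDataOrthPlus
import Cfsg.Agent.Lib.Classical.MatDataOrthOdd
import Cfsg.Agent.Lib.Classical.MatOrthLevi
import Cfsg.Agent.Lib.Classical.OrthTransport

/-!
The class-square covering of `PΩ_{2m+1}` and `PΩ⁺_{2m}`.
-/

set_option autoImplicit false
set_option linter.unusedSectionVars false
set_option maxHeartbeats 2000000

namespace Cfsg.Agent.Classical.MatRootData

open Matrix Cfsg.Agent.Classical.RegularBlocks Cfsg.Agent.Classical.OrthAut Cfsg.Agent.Lie.Chev
  Cfsg.Agent.Lie.CurtisTitsA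
open Cfsg.Agent.Lie.SpnPres (tinv tinv_val)
open scoped MatrixGroups commutatorElement

variable {m : ℕ} {F : Type*} [Field F] [Fintype F]

theorem prod_short (f : Fin m → Fˣ) (p : Fin m) :
    (∏ k : Fin m, (if k.val + 1 < m then (if p.val = k.val then f k else if p.val = k.val + 1 then (f k)⁻¹ else 1)
      else 1)) =
      (if p.val + 1 < m then f p else 1) *
        if h : p.val = 0 then 1 else (f ⟨p.val - 1, by omega⟩)⁻¹ := by
  have hp := p.2
  have e : ∀ k : Fin m, (if k.val + 1 < m then
      (if p.val = k.val then f k else if p.val = k.val + 1 then (f k)⁻¹ else 1) else 1) =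
      (if p.val = k.val ∧ k.val + 1 < m then f k else 1) * (if p.val = k.val + 1 then (f k)⁻¹ else 1) :=
    fun k => by split_ifs <;> first | omega | simp
  rw [Finset.prod_congr rfl fun k _ => e k, Finset.prod_mul_distrib]
  congr 1
  · rw [Finset.prod_eq_single p (fun k _ hk => if_neg fun e => hk (Fin.ext e.1.symm)) (by simp)]
    by_cases h : p.val + 1 < m <;> simp [h]
  · split_ifs with h
    · exact Finset.prod_eq_one fun k _ => if_neg (by omega)
    · rw [Finset.prod_eq_single (⟨p.val - 1, by omega⟩ : Fin m)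
        (fun k _ hk => if_neg fun e => hk (Fin.ext (by show k.val = p.val - 1; omega))) (by simp),
        if_pos (by show p.val = p.val - 1 + 1; omega)]

theorem prod_last (hm : 1 ≤ m) (f : Fin m → Fˣ) (g : Fˣ → Fˣ) (c : Prop) [Decidable c] :
    (∏ k : Fin m, (if k.val + 1 < m then 1 else if c then g (f k) else 1)) =
      if c then g (f ⟨m - 1, by omega⟩) else 1 := by
  rw [Finset.prod_eq_single (⟨m - 1, by omega⟩ : Fin m) (fun k _ hk => if_pos (by
    have := k.2
    have : k.val ≠ m - 1 := fun e => hk (Fin.ext e)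
    omega)) (by simp), if_neg (by show ¬ m - 1 + 1 < m; omega)]

theorem pow_div {ζ : Fˣ} {a b c : ℕ} (h : a = b + c) : ζ ^ a * (ζ ^ b)⁻¹ = ζ ^ c := by
  rw [h, pow_add, mul_right_comm, mul_inv_cancel, one_mul]

/-- The inverse relation of the blocks is distinct. -/
theorem inv_ne {ζ : Fˣ} {a b : ℕ} (h : ζ ^ (a + b) ≠ 1) : ζ ^ a ≠ (ζ ^ b)⁻¹ := fun e =>
  h (by rw [pow_add, e, inv_mul_cancel])

/-! The plus type. -/

/-- The half of the torus element for the plus type. -/
def plHalf (ζ : Fˣ) (k : Fin m) : Fˣ :=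
  if k.val + 2 < m then ζ ^ (2 * k.val) else if k.val + 2 = m then ζ ^ (m - 3) else ζ ^ (m - 1)

/-- The diagonal of the half for the plus type. -/
def plDiag (ζ : Fˣ) : OIdx Empty m → Fˣ :=
  Sum.elim (fun c => c.elim) (Sum.elim (fun p => if p.val = 0 then 1 else ζ ^ 2)
    fun p => if p.val = 0 then 1 else (ζ ^ 2)⁻¹)

theorem plData_diag (hm : 4 ≤ m) (ζ : Fˣ) (p : OIdx Empty m) :
    (plData hm F).diag (plHalf ζ) p = plDiag ζ p := by
  have key : ∀ p : Fin m, ∏ k : Fin m, plDD k (plHalf ζ k) (ox Empty m p) = if p.val = 0 then 1 else ζ ^ 2 := by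
    intro p
    have hp := p.2
    have e : ∀ k : Fin m, plDD k (plHalf ζ k) (ox Empty m p) =
        (if k.val + 1 < m then (if p.val = k.val then plHalf ζ k else if p.val = k.val + 1 then (plHalf ζ k)⁻¹ else 1)
          else 1) * (if k.val + 1 < m then 1 else if m - 2 ≤ p.val then id (plHalf ζ k) else 1) := fun k => by
      show (if _ then _ else _) = _
      by_cases h : k.val + 1 < m <;> simp [h]
    rw [Finset.prod_congr rfl fun k _ => e k, Finset.prod_mul_distrib, prod_short, prod_last (by omega)]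
    unfold plHalf
    simp only [id]
    by_cases h0 : p.val = 0
    · simp [h0, show 1 < m by omega, show 2 < m by omega, show ¬ m - 2 ≤ 0 by omega]
    rw [dif_neg h0, if_neg h0]
    by_cases h1 : p.val + 2 < m
    · simp only [if_pos (show p.val + 1 < m by omega), if_pos h1, if_neg (show ¬ m - 2 ≤ p.val by omega),
        if_pos (show p.val - 1 + 2 < m by omega), mul_one]
      exact pow_div (by omega)
    by_cases h2 : p.val + 2 = m
    · simp only [if_pos (show p.val + 1 < m by omega), if_neg h1, if_pos h2, if_pos (show m - 2 ≤ p.val by omega),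
        if_pos (show p.val - 1 + 2 < m by omega), if_neg (show ¬ m - 1 + 2 < m by omega),
        if_neg (show ¬ m - 1 + 2 = m by omega)]
      rw [mul_right_comm, ← pow_add]
      exact pow_div (by omega)
    · simp only [if_neg (show ¬ p.val + 1 < m by omega), if_pos (show m - 2 ≤ p.val by omega),
        if_neg (show ¬ p.val - 1 + 2 < m by omega), if_pos (show p.val - 1 + 2 = m by omega),
        if_neg (show ¬ m - 1 + 2 < m by omega), if_neg (show ¬ m - 1 + 2 = m by omega)]
      rw [one_mul, mul_comm]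
      exact pow_div (by omega)
  rcases p with c | p | p
  · exact c.elim
  · exact key p
  · show ∏ k : Fin m, plDD k (plHalf ζ k) (oy Empty m p) = if p.val = 0 then 1 else (ζ ^ 2)⁻¹
    rw [show (if p.val = 0 then (1 : Fˣ) else (ζ ^ 2)⁻¹) = (if p.val = 0 then 1 else ζ ^ 2)⁻¹ by
      split_ifs <;> simp, ← key, ← Finset.prod_inv_distrib]
    refine Finset.prod_congr rfl fun k _ => ?_
    show (if _ then _ else _) = (if _ then _ else _)⁻¹
    split_ifs <;> simp

/-- The Levi block of the plus type. -/
noncomputable def plLevi (hm : 4 ≤ m) (ζ : Fˣ) (hζ : ∀ j : ℕ, 0 < j → j < 8 → ζ ^ j ≠ 1) :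
    LeviData (plData hm F) (m - 1) where
  L := oL Empty m
  Λ := oLam Empty F (by omega)
  half := plHalf ζ
  compatL := oL_compat (by omega)
  Λ_bd := oLam_bd (by omega)
  Λ_comm X := commute_of_bd ((plData hm F).T_val _) (fun p q h => by
    rw [plData_diag, plData_diag]
    rcases p with c | p | p <;> [exact c.elim; skip; skip] <;> rcases q with c | q | q <;>
      [exact c.elim; skip; skip; exact c.elim; skip; skip] <;>
      simp only [plDiag, oL, Sum.elim_inl, Sum.elim_inr] at h ⊢ <;> split_ifs at h ⊢ <;> first | omega | rfl)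
    (oLam_bd (by omega) X)
  fix g hg hc := oL_fix (by omega) ((plData hm F).T_val _) (fun p q h hne => by
    rw [plData_diag, plData_diag]
    have h2 := hζ 2 (by norm_num) (by norm_num)
    have h4 := inv_ne (a := 2) (b := 2) (hζ 4 (by norm_num) (by norm_num))
    have h2' : (ζ ^ 2)⁻¹ ≠ 1 := fun e => h2 (inv_eq_one.1 e)
    rcases p with c | p | p <;> [exact c.elim; skip; skip] <;> rcases q with c | q | q <;>
      [exact c.elim; skip; skip; exact c.elim; skip; skip] <;>
      simp only [plDiag, oL, Sum.elim_inl, Sum.elim_inr] at h hne ⊢ <;>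
      split_ifs at h hne ⊢ <;> first
        | omega
        | exact h2
        | exact h2.symm
        | exact h2'
        | exact h2'.symm
        | exact h4
        | exact h4.symm) hg hc
  U_part _ hg := o_U_part (by omega) hg
  V_part _ hg := o_V_part (by omega) hg
  fuse A B hA hB := by
    refine fuse_of_twist (t := (plData hm F).T (plHalf ζ)) _ (oLam_bd (by omega))
      (fun X => commute_of_bd ((plData hm F).T_val _) (fun p q h => by
        rw [plData_diag, plData_diag]
        rcases p with c | p | p <;> [exact c.elim; skip; skip] <;> rcases q with c | q | q <;>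
          [exact c.elim; skip; skip; exact c.elim; skip; skip] <;>
          simp only [plDiag, oL, Sum.elim_inl, Sum.elim_inr] at h ⊢ <;> split_ifs at h ⊢ <;> first | omega | rfl)
        (oLam_bd (by omega) X)) (fun hk u => ?_) A B hA hB
    set g := (plData hm F).φ ⟨0, by omega⟩ (dSL ((u⁻¹ : Fˣ) : F) u⁻¹.ne_zero) with hg
    have hgT : g = (plData hm F).T (Pi.mulSingle ⟨0, by omega⟩ u⁻¹) :=
      ((plData hm F).T_single ⟨0, by omega⟩ u⁻¹).symm
    refine ⟨g, hgT ▸ (plData hm F).T_bd _ _, hgT ▸ (by
      show _ = _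
      rw [← map_mul, ← map_mul, mul_comm]), fun X Z hXZ => ?_⟩
    rw [hg, show (plData hm F).φ ⟨0, by omega⟩ = oShort (by omega) ⟨0, by omega⟩ (by show 0 + 1 < m; omega) from
      dif_pos (show (0 : ℕ) + 1 < m by omega)]
    exact oLam_twist (by omega) u X Z hXZ
  rev := by
    let o : Fin m := ⟨0, by omega⟩
    obtain ⟨S, hS, hSc⟩ : ∃ S : Finset (Fin m), (∀ i : Fin m, i.val ≠ 0 → i ∈ S) ∧ Even S.card := by
      rcases Nat.even_or_odd m with h | h
      · exact ⟨Finset.univ, fun i _ => Finset.mem_univ i, by simpa using h⟩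
      · refine ⟨Finset.univ.erase o, fun i hi => Finset.mem_erase.2 ⟨fun e => hi (by rw [e]), Finset.mem_univ i⟩, ?_⟩
        obtain ⟨r, hr⟩ := h
        rw [Finset.card_erase_of_mem (Finset.mem_univ o), Finset.card_univ, Fintype.card_fin]
        exact ⟨r, by omega⟩
    obtain ⟨x, -, gx, gy⟩ := exists_flip (κ := Empty) (F := F) S hSc
    obtain ⟨h1, h2⟩ := rev_of_flip (κ := Empty) (by omega) ((plData hm F).T_val (plHalf ζ)) (x := x)
      (fun i hi => ⟨by rw [gx, if_pos (hS i hi)], by rw [gy, if_pos (hS i hi)]⟩)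
      (fun q hq => by
        rcases q with c | i | i
        · exact c.elim
        all_goals
          have hi : i.val = 0 := by
            by_contra h
            simp [oL, h] at hq
          refine ⟨1, ?_⟩
          first | rw [gx] | rw [gy]
          by_cases hiS : i ∈ S
          · rw [if_pos hiS]
            first
              | exact ⟨oy Empty m i, by simp [oL, hi], by simp [plData_diag, plDiag, hi], (one_smul _ _).symm⟩
              | exact ⟨ox Empty m i, by simp [oL, hi], by simp [plData_diag, plDiag, hi], (one_smul _ _).symm⟩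
          · rw [if_neg hiS]
            exact ⟨_, hq, by simp [plData_diag, plDiag, hi], (one_smul _ _).symm⟩)
      (fun i hi => by simp [plData_diag, plDiag, hi])
    exact ⟨x, h1, fun A hA => ⟨tinv A, fun hk => by rw [tinv_val]; exact (hA.inv hk).transpose, h2 A⟩⟩

theorem cartD_row (hm : 4 ≤ m) (i : Fin m) : ∑ j ∈ Finset.univ.erase i, (cartD i j).natAbs ≤ 3 := by
  calc ∑ j ∈ Finset.univ.erase i, (cartD i j).natAbs
      ≤ ∑ j : Fin m, ((if i.val + 1 = j.val ∧ j.val + 1 < m then 1 else 0) +
          (if (j.val + 1 = i.val ∧ i.val + 1 < m) ∨ (i.val + 1 = m ∧ j.val + 3 = m) then 1 else 0) +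
          (if i.val + 3 = m ∧ j.val + 1 = m then 1 else 0)) := by
        refine le_trans (Finset.sum_le_sum fun j hj => ?_) (Finset.sum_le_sum_of_subset (Finset.subset_univ _))
        have hne := Fin.val_ne_of_ne (Finset.ne_of_mem_erase hj)
        unfold cartD
        split_ifs <;> omega
    _ ≤ 3 := by
        rw [Finset.sum_add_distrib, Finset.sum_add_distrib]
        have hb : ∀ P : Fin m → Prop, [DecidablePred P] → (∀ a b, P a → P b → a = b) →
            (∑ j : Fin m, if P j then 1 else 0) ≤ 1 := fun P _ hP => by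
          rw [Finset.sum_boole]
          exact_mod_cast Finset.card_le_one.2 fun a ha b hb => hP a b (Finset.mem_filter.1 ha).2 (Finset.mem_filter.1 hb).2
        have h1 := hb (fun j => i.val + 1 = j.val ∧ j.val + 1 < m) fun a b ha hb => Fin.ext (by omega)
        have h2 := hb (fun j => (j.val + 1 = i.val ∧ i.val + 1 < m) ∨ (i.val + 1 = m ∧ j.val + 3 = m))
          fun a b ha hb => Fin.ext (by omega)
        have h3 := hb (fun j => i.val + 3 = m ∧ j.val + 1 = m) fun a b ha hb => Fin.ext (by omega)
        omega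

/-- The transport of the plus form to the padded coordinates. -/
noncomputable def plIso : IsoData (qfPlus m F) (qK Empty m F) where
  M := Matrix.of fun p q => if p = Sum.inr q then 1 else 0
  N := Matrix.of fun q p => if p = Sum.inr q then 1 else 0
  MN := by
    ext p q
    rcases p with c | p
    · exact c.elim
    rcases q with c | q
    · exact c.elim
    simp [Matrix.mul_apply, Matrix.one_apply, eq_comm]
  NM := by
    ext p q
    simp [Matrix.mul_apply, Matrix.one_apply, eq_comm]
  quad v := by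
    rw [qK_apply, qfPlus_apply]
    simp [Cfsg.quadFormPlus, Matrix.mulVec, dotProduct]

/-- The class-square covering of `PΩ⁺_{2m}`. -/
theorem square_orth_plus (hm : 4 ≤ m) (hq : 9 ≤ Fintype.card F) :
    ∃ d : Cfsg.POmega F (Cfsg.quadFormPlus m F), ∀ x : Cfsg.POmega F (Cfsg.quadFormPlus m F),
      ∃ a b : Cfsg.POmega F (Cfsg.quadFormPlus m F), x = (a * d * a⁻¹) * (b * d * b⁻¹) := by
  obtain ⟨ζ, hζ⟩ := exists_big_unit hq
  have h := square_of_levi (plData hm F) (plLevi hm ζ hζ) (by omega) (fun i => if_pos rfl)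
    (fun i => by convert cartD_row hm i; rfl)
    (connected_of_parent (plData hm F).A (⟨0, by omega⟩ : Fin m) Fin.val fun i hi => by
      have : i.val ≠ 0 := fun e => hi (Fin.ext e)
      refine ⟨⟨if i.val + 1 = m then m - 3 else i.val - 1, by split_ifs <;> omega⟩, ?_, ?_, ?_⟩
      · show (if i.val + 1 = m then m - 3 else i.val - 1) < i.val
        split_ifs <;> omega
      all_goals
        show cartD _ _ ≠ 0
        unfold cartD
        simp only
        split_ifs <;> omega)
  rw [← coe_qfPlus]
  exact ClassSquareLevi.square_transfer (plIso (m := m) (F := F)).po h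

/-! The odd type. -/

/-- The half of the torus element for the odd type. -/
def odHalf (ζ : Fˣ) (k : Fin m) : Fˣ := if k.val + 1 < m then ζ ^ (4 + 2 * k.val) else ζ ^ (m + 1)

/-- The diagonal of the half for the odd type. -/
def odDiag (ζ : Fˣ) : OIdx Unit m → Fˣ :=
  Sum.elim (fun _ => 1) (Sum.elim (fun p => if p.val = 0 then ζ ^ 4 else ζ ^ 2)
    fun p => if p.val = 0 then (ζ ^ 4)⁻¹ else (ζ ^ 2)⁻¹)

theorem odData_diag (hm : 3 ≤ m) (h2 : (2 : F) ≠ 0) (ζ : Fˣ) (p : OIdx Unit m) :
    (odData hm F h2).diag (odHalf ζ) p = odDiag ζ p := by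
  have key : ∀ p : Fin m,
      ∏ k : Fin m, odDD k (odHalf ζ k) (ox Unit m p) = if p.val = 0 then ζ ^ 4 else ζ ^ 2 := by
    intro p
    have hp := p.2
    have e : ∀ k : Fin m, odDD k (odHalf ζ k) (ox Unit m p) =
        (if k.val + 1 < m then (if p.val = k.val then odHalf ζ k else if p.val = k.val + 1 then (odHalf ζ k)⁻¹ else 1)
          else 1) * (if k.val + 1 < m then 1 else if p.val = m - 1 then (fun s => s * s) (odHalf ζ k) else 1) :=
      fun k => by
        show (if _ then _ else _) = _
        by_cases h : k.val + 1 < m <;> simp [h]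
    rw [Finset.prod_congr rfl fun k _ => e k, Finset.prod_mul_distrib, prod_short,
      prod_last (by omega) (odHalf ζ) (fun s => s * s)]
    unfold odHalf
    by_cases h0 : p.val = 0
    · simp [h0, show 1 < m by omega, show ¬ 0 = m - 1 by omega]
    rw [dif_neg h0, if_neg h0]
    by_cases h1 : p.val + 1 < m
    · simp only [if_pos h1, if_neg (show ¬ p.val = m - 1 by omega), if_pos (show p.val - 1 + 1 < m by omega),
        mul_one]
      exact pow_div (by omega)
    · simp only [if_neg h1, if_pos (show p.val = m - 1 by omega), if_pos (show p.val - 1 + 1 < m by omega),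
        if_neg (show ¬ m - 1 + 1 < m by omega)]
      rw [one_mul, mul_comm, ← pow_add]
      exact pow_div (by omega)
  rcases p with c | p | p
  · exact Finset.prod_eq_one fun k _ => rfl
  · exact key p
  · show ∏ k : Fin m, odDD k (odHalf ζ k) (oy Unit m p) = if p.val = 0 then (ζ ^ 4)⁻¹ else (ζ ^ 2)⁻¹
    rw [show (if p.val = 0 then (ζ ^ 4)⁻¹ else (ζ ^ 2)⁻¹) = (if p.val = 0 then ζ ^ 4 else ζ ^ 2)⁻¹ by
      split_ifs <;> simp, ← key, ← Finset.prod_inv_distrib]
    refine Finset.prod_congr rfl fun k _ => ?_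
    show (if _ then _ else _) = (if _ then _ else _)⁻¹
    split_ifs <;> simp

/-- An element exchanging every pair, up to sign. -/
theorem od_exists_rev (hm : 3 ≤ m) (h2 : (2 : F) ≠ 0) :
    ∃ x : OOm Unit m F, (∀ i : Fin m, i.val ≠ 0 → oRho Unit m F x *ᵥ Pi.single (ox Unit m i) 1 = Pi.single (oy Unit m i) 1 ∧
        oRho Unit m F x *ᵥ Pi.single (oy Unit m i) 1 = Pi.single (ox Unit m i) 1) ∧
      ∃ s : F, oRho Unit m F x *ᵥ Pi.single (Sum.inl ()) 1 = s • Pi.single (Sum.inl ()) 1 ∧
        ∀ i : Fin m, i.val = 0 → oRho Unit m F x *ᵥ Pi.single (ox Unit m i) 1 = s • Pi.single (oy Unit m i) 1 ∧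
          oRho Unit m F x *ᵥ Pi.single (oy Unit m i) 1 = s • Pi.single (ox Unit m i) 1 := by
  rcases Nat.even_or_odd m with h | h
  · obtain ⟨x, gz, gx, gy⟩ := exists_flip (κ := Unit) (F := F) (Finset.univ : Finset (Fin m)) (by simpa using h)
    exact ⟨x, fun i _ => ⟨by rw [gx, if_pos (Finset.mem_univ i)], by rw [gy, if_pos (Finset.mem_univ i)]⟩, 1,
      by rw [gz, one_smul], fun i _ => ⟨by rw [gx, if_pos (Finset.mem_univ i), one_smul],
        by rw [gy, if_pos (Finset.mem_univ i), one_smul]⟩⟩
  let o : Fin m := ⟨0, by omega⟩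
  obtain ⟨x, gz, gx, gy⟩ := exists_flip (κ := Unit) (F := F) (Finset.univ.erase o) (by
    obtain ⟨r, hr⟩ := h
    rw [Finset.card_erase_of_mem (Finset.mem_univ o), Finset.card_univ, Fintype.card_fin]
    exact ⟨r, by omega⟩)
  set v : OIdx Unit m → F := Pi.single (ox Unit m o) 1 + Pi.single (oy Unit m o) 1 with hvdef
  have hv1 : qK Unit m F v = 1 := by rw [hvdef, quad_add, qK_ox, qK_oy, polar_ox]; simp
  have hz1 : qK Unit m F (Pi.single (Sum.inl ()) 1) = 1 := qK_oz ()
  have hv : qK Unit m F v ≠ 0 := by rw [hv1]; exact one_ne_zero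
  have hz : qK Unit m F (Pi.single (Sum.inl ()) 1) ≠ 0 := by rw [hz1]; exact one_ne_zero
  obtain ⟨g, -, hg⟩ := eR_trans_value (nondegenerate_qK fun _ => h2) h2
    (by simp; omega) ⟨Pi.single (ox Unit m o) 1, by simp, qK_ox o⟩ hv (hz1.trans hv1.symm)
  have hgv : qK Unit m F (ogVal g *ᵥ v) ≠ 0 := by rw [hg]; exact hz
  have hmem : OrthAut.refl hv * OrthAut.refl hz ∈ Cfsg.Omega F ⇑(qK Unit m F) := by
    have e : OrthAut.refl hz = g * OrthAut.refl hv * g⁻¹ := by
      rw [refl_conj g hv hgv]
      exact refl_congr hz hgv (c := 1) (by rw [one_smul, hg]) |>.symm.symm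
    have hsq : (OrthAut.refl hv)⁻¹ = OrthAut.refl hv := inv_eq_of_mul_eq_one_right (refl_mul_self hv)
    have : OrthAut.refl hv * (g * OrthAut.refl hv * g⁻¹) = ⁅OrthAut.refl hv, g⁆ := by
      rw [commutatorElement_def, hsq]
      simp only [mul_assoc]
    rw [e, this]
    exact Subgroup.commutator_mem_commutator (Subgroup.mem_top _) (Subgroup.mem_top _)
  have act : ∀ w : OIdx Unit m → F, oRho Unit m F (⟨_, hmem⟩ : OOm Unit m F) *ᵥ w =
      (w - (2 * w (Sum.inl ())) • Pi.single (Sum.inl ()) 1) -
        ((w (ox Unit m o) + w (oy Unit m o)) • v) := by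
    intro w
    show ogVal (OrthAut.refl hv * OrthAut.refl hz) *ᵥ w = _
    rw [ogVal_mul, ← Matrix.mulVec_mulVec, refl_apply, refl_apply, hv1, hz1, inv_one, one_mul, one_mul, polar_oz,
      hvdef, QuadraticMap.polar_add_left, polar_ox, polar_oy]
    congr 2
    simp
    ring
  refine ⟨⟨_, hmem⟩ * x, fun i hi => ?_, -1, ?_, fun i hi => ?_⟩
  · have hio : i ≠ o := fun e => hi (by rw [e])
    constructor
    all_goals
      rw [map_mul, ← Matrix.mulVec_mulVec]
      first | rw [gx, if_pos (Finset.mem_erase.2 ⟨hio, Finset.mem_univ i⟩)] | rw [gy, if_pos (Finset.mem_erase.2 ⟨hio, Finset.mem_univ i⟩)]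
      rw [act]
      simp [hio, Ne.symm hio]
  · rw [map_mul, ← Matrix.mulVec_mulVec, gz, act]
    simp
    module
  · obtain rfl : i = o := Fin.ext hi
    constructor
    all_goals
      rw [map_mul, ← Matrix.mulVec_mulVec]
      first | rw [gx, if_neg (Finset.notMem_erase o _)] | rw [gy, if_neg (Finset.notMem_erase o _)]
      rw [act, hvdef]
      simp <;> module

/-- The Levi block of the odd type. -/
noncomputable def odLevi (hm : 3 ≤ m) (h2 : (2 : F) ≠ 0) (ζ : Fˣ) (hζ : ∀ j : ℕ, 0 < j → j < 8 → ζ ^ j ≠ 1) :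
    LeviData (odData hm F h2) (m - 1) where
  L := oL Unit m
  Λ := oLam Unit F hm
  half := odHalf ζ
  compatL := oL_compat hm
  Λ_bd := oLam_bd hm
  Λ_comm X := commute_of_bd ((odData hm F h2).T_val _) (fun p q h => by
    rw [odData_diag, odData_diag]
    rcases p with c | p | p <;> rcases q with d | q | q <;>
      simp only [odDiag, oL, Sum.elim_inl, Sum.elim_inr] at h ⊢ <;> (try split_ifs at h ⊢) <;>
      first | omega | rfl)
    (oLam_bd hm X)
  fix g hg hc := oL_fix hm ((odData hm F h2).T_val _) (fun p q h hne => by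
    rw [odData_diag, odData_diag]
    have h2' := hζ 2 (by norm_num) (by norm_num)
    have h4' := hζ 4 (by norm_num) (by norm_num)
    have a1 : ζ ^ 4 ≠ ζ ^ 2 := fun e => h2' (mul_left_cancel (a := ζ ^ 2) (by rw [← pow_add, mul_one]; exact e))
    have a2 : ζ ^ 4 ≠ (ζ ^ 2)⁻¹ := inv_ne (hζ 6 (by norm_num) (by norm_num))
    have a3 : ζ ^ 2 ≠ (ζ ^ 2)⁻¹ := inv_ne (hζ 4 (by norm_num) (by norm_num))
    have a4 : ζ ^ 2 ≠ (ζ ^ 4)⁻¹ := inv_ne (hζ 6 (by norm_num) (by norm_num))
    have a5 : (ζ ^ 2)⁻¹ ≠ (ζ ^ 4)⁻¹ := fun e => a1 (inv_injective e).symm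
    have b2 : (ζ ^ 2)⁻¹ ≠ 1 := fun e => h2' (inv_eq_one.1 e)
    have b4 : (ζ ^ 4)⁻¹ ≠ 1 := fun e => h4' (inv_eq_one.1 e)
    rcases p with c | p | p <;> rcases q with d | q | q <;>
      simp only [odDiag, oL, Sum.elim_inl, Sum.elim_inr] at h hne ⊢ <;>
      (try split_ifs at h hne ⊢) <;> first
        | omega
        | exact a1
        | exact a2
        | exact a3
        | exact a4
        | exact a5
        | exact h2'
        | exact h4'
        | exact b2
        | exact b4
        | exact b2.symm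
        | exact b4.symm) hg hc
  U_part _ hg := o_U_part hm hg
  V_part _ hg := o_V_part hm hg
  fuse A B hA hB := by
    refine fuse_of_twist (t := (odData hm F h2).T (odHalf ζ)) _ (oLam_bd hm)
      (fun X => commute_of_bd ((odData hm F h2).T_val _) (fun p q h => by
        rw [odData_diag, odData_diag]
        rcases p with c | p | p <;> rcases q with d | q | q <;>
          simp only [odDiag, oL, Sum.elim_inl, Sum.elim_inr] at h ⊢ <;> (try split_ifs at h ⊢) <;>
          first | omega | rfl)
        (oLam_bd hm X)) (fun hk u => ?_) A B hA hB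
    set g := (odData hm F h2).φ ⟨0, by omega⟩ (dSL ((u⁻¹ : Fˣ) : F) u⁻¹.ne_zero) with hg
    have hgT : g = (odData hm F h2).T (Pi.mulSingle ⟨0, by omega⟩ u⁻¹) :=
      ((odData hm F h2).T_single ⟨0, by omega⟩ u⁻¹).symm
    refine ⟨g, hgT ▸ (odData hm F h2).T_bd _ _, hgT ▸ (by
      show _ = _
      rw [← map_mul, ← map_mul, mul_comm]), fun X Z hXZ => ?_⟩
    rw [hg, show (odData hm F h2).φ ⟨0, by omega⟩ = oShort hm ⟨0, by omega⟩ (by show 0 + 1 < m; omega) from
      dif_pos (show (0 : ℕ) + 1 < m by omega)]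
    exact oLam_twist hm u X Z hXZ
  rev := by
    obtain ⟨x, hx, s, hz, h0⟩ := od_exists_rev (F := F) hm h2
    obtain ⟨k1, k2⟩ := rev_of_flip hm ((odData hm F h2).T_val (odHalf ζ)) hx
      (fun q hq => by
        rcases q with c | i | i
        · exact ⟨s, Sum.inl (), Or.inr (Or.inl rfl), by simp [odData_diag, odDiag], hz⟩
        all_goals
          have hi : i.val = 0 := by
            by_contra h
            simp [oL, h] at hq
          first
            | exact ⟨s, oy Unit m i, by simp [oL, hi], by simp [odData_diag, odDiag, hi], (h0 i hi).1⟩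
            | exact ⟨s, ox Unit m i, by simp [oL, hi], by simp [odData_diag, odDiag, hi], (h0 i hi).2⟩)
      (fun i hi => by simp [odData_diag, odDiag, hi])
    exact ⟨x, k1, fun A hA => ⟨tinv A, fun hk => by rw [tinv_val]; exact (hA.inv hk).transpose, k2 A⟩⟩

theorem cartB_row (i : Fin m) : ∑ j ∈ Finset.univ.erase i, (cartB i j).natAbs ≤ 3 := by
  calc ∑ j ∈ Finset.univ.erase i, (cartB i j).natAbs
      ≤ ∑ j : Fin m, ((if j.val + 1 = i.val then 2 else 0) + (if i.val + 1 = j.val then 1 else 0)) := by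
        refine le_trans (Finset.sum_le_sum fun j hj => ?_) (Finset.sum_le_sum_of_subset (Finset.subset_univ _))
        have hne := Fin.val_ne_of_ne (Finset.ne_of_mem_erase hj)
        have := j.2
        have := i.2
        unfold cartB
        split_ifs <;> omega
    _ ≤ 3 := by
        rw [Finset.sum_add_distrib]
        have hb : ∀ (c : ℕ) (P : Fin m → Prop), [DecidablePred P] → (∀ a b, P a → P b → a = b) →
            (∑ j : Fin m, if P j then c else 0) ≤ c := fun c P _ hP => by
          rw [← Finset.sum_filter, Finset.sum_const, smul_eq_mul]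
          calc _ ≤ 1 * c := Nat.mul_le_mul_right c (Finset.card_le_one.2 fun a ha b hb =>
                hP a b (Finset.mem_filter.1 ha).2 (Finset.mem_filter.1 hb).2)
            _ = c := one_mul c
        have h1 := hb 2 (fun j => j.val + 1 = i.val) fun a b ha hb => Fin.ext (by omega)
        have h2 := hb 1 (fun j => i.val + 1 = j.val) fun a b ha hb => Fin.ext (by omega)
        omega

/-- The class-square covering of `PΩ_{2m+1}`. -/
theorem square_orth_odd (hm : 3 ≤ m) (hodd : Odd (Fintype.card F)) (hq : 9 ≤ Fintype.card F) :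
    ∃ d : Cfsg.POmega F (Cfsg.quadFormOdd m F), ∀ x : Cfsg.POmega F (Cfsg.quadFormOdd m F),
      ∃ a b : Cfsg.POmega F (Cfsg.quadFormOdd m F), x = (a * d * a⁻¹) * (b * d * b⁻¹) := by
  have h2 : (2 : F) ≠ 0 := by
    refine fun h0 => ?_
    haveI : CharP F 2 := (CharP.charP_iff_prime_eq_zero Nat.prime_two).2 (by exact_mod_cast h0)
    obtain ⟨n, -, hn⟩ := FiniteField.card F 2
    exact Nat.not_even_iff_odd.2 hodd (hn ▸ Nat.even_pow.2 ⟨even_two, n.pos.ne'⟩)
  obtain ⟨ζ, hζ⟩ := exists_big_unit hq
  have h := square_of_levi (odData hm F h2) (odLevi hm h2 ζ hζ) (by omega) (fun i => if_pos rfl)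
    (fun i => by convert cartB_row i; rfl)
    (connected_of_parent (odData hm F h2).A (⟨0, by omega⟩ : Fin m) Fin.val fun i hi => by
      have : i.val ≠ 0 := fun e => hi (Fin.ext e)
      refine ⟨⟨i.val - 1, by omega⟩, by show i.val - 1 < i.val; omega, ?_, ?_⟩ <;>
      · show cartB _ _ ≠ 0
        unfold cartB
        simp only
        split_ifs <;> omega)
  have e : ⇑(qK Unit m F) = Cfsg.quadFormOdd m F := funext fun v => by
    rw [qK_apply, Cfsg.quadFormOdd, Fintype.sum_unique, pow_two]
  rw [← e]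
  exact h

end Cfsg.Agent.Classical.MatRootData
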