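import Cfsg.Agent.Lib.Classical.MatDataSL

/-!
The Levi block of `SL_{l+2}` and the class-square covering of `PSL_n`.
-/

set_option autoImplicit false
set_option linter.unusedSectionVars false
set_option maxHeartbeats 2000000

namespace Cfsg.Agent.Classical.MatRootData

open Matrix Cfsg.Agent.Classical.RegularBlocks Cfsg.Agent.Lie.Chev Cfsg.Agent.Lie.CurtisTitsA
open scoped MatrixGroups

theorem extM_commute {α β I : Type} [Fintype α] [DecidableEq α] [Fintype β] [DecidableEq β] [Fintype I]
    [DecidableEq I] {F : Type*} [Field F] (f : α ↪ I) (g : β ↪ I) (h : ∀ a b, f a ≠ g b)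
    (A : Matrix α α F) (B : Matrix β β F) :
    Commute (Cfsg.Agent.Lie.SpnPres.extM f A) (Cfsg.Agent.Lie.SpnPres.extM g B) := by
  have e1 : (Cfsg.Agent.Lie.SpnPres.incM F f)ᵀ * Cfsg.Agent.Lie.SpnPres.incM F g = 0 := by
    ext a b; simp [Cfsg.Agent.Lie.SpnPres.incM, Matrix.mul_apply, Ne.symm (h a b)]
  have e2 : (Cfsg.Agent.Lie.SpnPres.incM F g)ᵀ * Cfsg.Agent.Lie.SpnPres.incM F f = 0 := by
    ext a b; simp [Cfsg.Agent.Lie.SpnPres.incM, Matrix.mul_apply, h b a]
  refine (Commute.one_left _).add_left ((Commute.one_right _).add_right ?_)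
  show _ = _
  simp only [Matrix.mul_assoc]
  rw [← Matrix.mul_assoc (Cfsg.Agent.Lie.SpnPres.incM F f)ᵀ (Cfsg.Agent.Lie.SpnPres.incM F g), e1,
    ← Matrix.mul_assoc (Cfsg.Agent.Lie.SpnPres.incM F g)ᵀ (Cfsg.Agent.Lie.SpnPres.incM F f), e2]
  simp

variable (l : ℕ) (F : Type*) [Field F] [Fintype F]

/-- The inner coordinates. -/
def midEmb : Fin l ↪ Fin (l + 2) := ⟨fun i => ⟨i.val + 1, by omega⟩, fun a b h => Fin.ext (by simpa using congrArg Fin.val h)⟩

/-- The levels of the parabolic subgroup. -/
def slL (p : Fin (l + 2)) : ℕ := if p.val = 0 then 0 else if p.val = l + 1 then 2 else 1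

theorem midEmb_range (p : Fin (l + 2)) : (∃ a, p = midEmb l a) ↔ slL l p = 1 := by
  unfold slL
  constructor
  · rintro ⟨a, rfl⟩
    have := a.2
    show (if a.val + 1 = 0 then 0 else if a.val + 1 = l + 1 then 2 else 1) = 1
    split_ifs <;> omega
  · intro h
    have := p.2
    split_ifs at h with h1 h2 <;> try omega
    exact ⟨⟨p.val - 1, by omega⟩, Fin.ext (by show p.val = p.val - 1 + 1; omega)⟩

/-- The entries of the block. -/
theorem mid_apply (X : SpecialLinearGroup (Fin l) F) (p q : Fin (l + 2)) :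
    (∀ a b, p = midEmb l a → q = midEmb l b →
      (Cfsg.Agent.Lie.SpnPres.extSL (midEmb l) X).1 p q = X.1 a b) ∧
    (slL l p ≠ 1 ∨ slL l q ≠ 1 →
      (Cfsg.Agent.Lie.SpnPres.extSL (midEmb l) X).1 p q = if p = q then 1 else 0) := by
  obtain ⟨h1, h2⟩ := extM_entry (midEmb l) X.1 p q
  refine ⟨h1, fun h => h2 ?_⟩
  rcases h with h | h
  · exact Or.inl fun a e => h ((midEmb_range l p).1 ⟨a, e⟩)
  · exact Or.inr fun a e => h ((midEmb_range l q).1 ⟨a, e⟩)

theorem slData_diag (ζ : Fˣ) (p : Fin (l + 2)) :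
    (slData l F).diag (fun _ => ζ) p = if p.val = 0 then ζ else if p.val = l + 1 then ζ⁻¹ else 1 := by
  show ∏ k : Fin (l + 1), (if p.val = k.val then ζ else if p.val = k.val + 1 then ζ⁻¹ else 1) = _
  have e : ∀ k : Fin (l + 1), (if p.val = k.val then ζ else if p.val = k.val + 1 then ζ⁻¹ else 1) =
      (if p.val = k.val then ζ else 1) * (if p.val = k.val + 1 then ζ⁻¹ else 1) := fun k => by
    split_ifs <;> first | omega | simp
  rw [Finset.prod_congr rfl fun k _ => e k, Finset.prod_mul_distrib]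
  have hp := p.2
  have e1 : ∏ k : Fin (l + 1), (if p.val = k.val then ζ else 1) = if p.val = l + 1 then 1 else ζ := by
    split_ifs with h
    · exact Finset.prod_eq_one fun k _ => if_neg (by omega)
    · rw [Finset.prod_eq_single (⟨p.val, by omega⟩ : Fin (l + 1))
        (fun k _ hk => if_neg fun e => hk (Fin.ext e.symm)) (by simp), if_pos rfl]
  have e2 : ∏ k : Fin (l + 1), (if p.val = k.val + 1 then ζ⁻¹ else 1) = if p.val = 0 then 1 else ζ⁻¹ := by
    split_ifs with h
    · exact Finset.prod_eq_one fun k _ => if_neg (by omega)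
    · rw [Finset.prod_eq_single (⟨p.val - 1, by omega⟩ : Fin (l + 1))
        (fun k _ hk => if_neg fun e => hk (Fin.ext (by show k.val = p.val - 1; omega))) (by simp),
        if_pos (by show p.val = p.val - 1 + 1; omega)]
  rw [e1, e2]
  split_ifs <;> first | omega | simp

variable {F}

theorem slData_Tval (ζ : Fˣ) (p q : Fin (l + 2)) :
    ((slData l F).T fun _ => ζ).1 p q =
      if p = q then ((if p.val = 0 then ζ else if p.val = l + 1 then ζ⁻¹ else 1 : Fˣ) : F) else 0 := by
  have h : ((slData l F).T fun _ => ζ).1 = _ := (slData l F).T_val fun _ => ζ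
  rw [h, Matrix.diagonal_apply]
  by_cases hpq : p = q
  · rw [if_pos hpq, if_pos hpq, slData_diag]
  · rw [if_neg hpq, if_neg hpq]

/-- The Levi block. -/
noncomputable def slLevi (ζ : Fˣ) (h1 : ζ ≠ 1) (h2 : ζ ^ 2 ≠ 1) : LeviData (slData l F) l where
  L := slL l
  Λ := Cfsg.Agent.Lie.SpnPres.extSL (midEmb l)
  half _ := ζ
  compatL p q h := by
    show ¬ q.val < p.val
    unfold slL at h
    have := p.2
    have := q.2
    split_ifs at h <;> omega
  Λ_bd X p q h := by
    show (Cfsg.Agent.Lie.SpnPres.extSL (midEmb l) X).1 p q = 0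
    rw [(mid_apply l F X p q).2 (by by_contra h'; simp only [not_or, not_not] at h'; exact h (h'.1.trans h'.2.symm)),
      if_neg fun e => h (by rw [e])]
  Λ_comm X := by
    refine Subtype.ext ?_
    show ((slData l F).T fun _ => ζ).1 * (Cfsg.Agent.Lie.SpnPres.extSL (midEmb l) X).1 =
      (Cfsg.Agent.Lie.SpnPres.extSL (midEmb l) X).1 * ((slData l F).T fun _ => ζ).1
    rw [show ((slData l F).T fun _ => ζ).1 = _ from (slData l F).T_val fun _ => ζ]
    ext p q
    rw [Matrix.diagonal_mul, Matrix.mul_diagonal, slData_diag, slData_diag]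
    by_cases h : slL l p = 1 ∧ slL l q = 1
    · obtain ⟨hp, hq⟩ := h
      have hp' : p.val ≠ 0 ∧ p.val ≠ l + 1 := by
        unfold slL at hp
        split_ifs at hp <;> omega
      have hq' : q.val ≠ 0 ∧ q.val ≠ l + 1 := by
        unfold slL at hq
        split_ifs at hq <;> omega
      rw [if_neg hp'.1, if_neg hp'.2, if_neg hq'.1, if_neg hq'.2]
      simp
    · rw [(mid_apply l F X p q).2 (by tauto)]
      by_cases e : p = q
      · subst e; simp
      · simp [e]
  fix g hg hc := eq_one_of_cross (slData l F).inj hg fun p q h => by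
    refine entry_zero ((slData l F).T_val fun _ => ζ) hc ?_
    rw [slData_diag, slData_diag]
    have hi : ζ⁻¹ ≠ 1 := fun e => h1 (inv_eq_one.1 e)
    have hi2 : ζ ≠ ζ⁻¹ := fun e => h2 (by rw [pow_two]; nth_rewrite 2 [e]; exact mul_inv_cancel ζ)
    unfold slL at h
    split_ifs at h ⊢ <;> first
      | exact absurd rfl h
      | exact hi2
      | exact hi2.symm
      | exact h1
      | exact h1.symm
      | exact hi
      | exact hi.symm
      | omega
  U_part g hg := by
    obtain ⟨P, hP, hPe⟩ := exists_upper_block (midEmb l) (fun i j hij => by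
      show i.val + 1 < j.val + 1
      have : i.val < j.val := hij
      omega) hg
    refine ⟨P, hP, fun p q h => ?_⟩
    show (Cfsg.Agent.Lie.SpnPres.extSL (midEmb l) P).1 p q = g.1 p q
    by_cases hp : slL l p = 1
    · obtain ⟨a, rfl⟩ := (midEmb_range l p).2 hp
      obtain ⟨b, rfl⟩ := (midEmb_range l q).2 (h ▸ hp)
      rw [(mid_apply l F P _ _).1 a b rfl rfl, hPe]
      rfl
    · rw [(mid_apply l F P p q).2 (Or.inl hp)]
      refine (hg p q ?_).symm
      show ¬ p.val < q.val
      have := p.2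
      have := q.2
      unfold slL at h hp
      split_ifs at h hp <;> omega
  V_part g hg := by
    obtain ⟨P, hP, hPe⟩ := exists_lower_block (midEmb l) (fun i j hij => by
      show i.val + 1 < j.val + 1
      have : i.val < j.val := hij
      omega) hg
    refine ⟨P, hP, fun p q h => ?_⟩
    show (Cfsg.Agent.Lie.SpnPres.extSL (midEmb l) P).1 p q = g.1 p q
    by_cases hp : slL l p = 1
    · obtain ⟨a, rfl⟩ := (midEmb_range l p).2 hp
      obtain ⟨b, rfl⟩ := (midEmb_range l q).2 (h ▸ hp)
      rw [(mid_apply l F P _ _).1 a b rfl rfl, hPe]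
      rfl
    · rw [(mid_apply l F P p q).2 (Or.inl hp)]
      refine (hg p q ?_).symm
      show ¬ q.val < p.val
      have := p.2
      have := q.2
      unfold slL at h hp
      split_ifs at h hp <;> omega
  fuse A B hA hB := by
    refine fuse_of_twist _ (fun X p q h => ?_) (fun X => ?_) (fun hk u => ?_) A B hA hB
    · show (Cfsg.Agent.Lie.SpnPres.extSL (midEmb l) X).1 p q = 0
      rw [(mid_apply l F X p q).2
        (by by_contra h'; simp only [not_or, not_not] at h'; exact h (h'.1.trans h'.2.symm)),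
        if_neg fun e => h (by rw [e])]
    · refine Subtype.ext ?_
      show ((slData l F).T fun _ => ζ).1 * (Cfsg.Agent.Lie.SpnPres.extSL (midEmb l) X).1 =
        (Cfsg.Agent.Lie.SpnPres.extSL (midEmb l) X).1 * ((slData l F).T fun _ => ζ).1
      rw [show ((slData l F).T fun _ => ζ).1 = _ from (slData l F).T_val fun _ => ζ]
      ext p q
      rw [Matrix.diagonal_mul, Matrix.mul_diagonal, slData_diag, slData_diag]
      by_cases h : slL l p = 1 ∧ slL l q = 1
      · obtain ⟨hp, hq⟩ := h
        have hp' : p.val ≠ 0 ∧ p.val ≠ l + 1 := by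
          unfold slL at hp
          split_ifs at hp <;> omega
        have hq' : q.val ≠ 0 ∧ q.val ≠ l + 1 := by
          unfold slL at hq
          split_ifs at hq <;> omega
        rw [if_neg hp'.1, if_neg hp'.2, if_neg hq'.1, if_neg hq'.2]
        simp
      · rw [(mid_apply l F X p q).2 (by tauto)]
        by_cases e : p = q
        · subst e; simp
        · simp [e]
    · set g := (slData l F).φ 0 (dSL ((u⁻¹ : Fˣ) : F) u⁻¹.ne_zero) with hg
      have hgT : g = (slData l F).T (Pi.mulSingle 0 u⁻¹) := ((slData l F).T_single 0 u⁻¹).symm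
      refine ⟨g, hgT ▸ (slData l F).T_bd _ _, hgT ▸ (by
        show _ = _
        rw [← map_mul, ← map_mul, mul_comm]), fun X Z hXZ => ?_⟩
      rw [mul_inv_eq_iff_eq_mul]
      refine Subtype.ext ?_
      show g.1 * (Cfsg.Agent.Lie.SpnPres.extSL (midEmb l) X).1 =
        (Cfsg.Agent.Lie.SpnPres.extSL (midEmb l) Z).1 * g.1
      have hd : g.1 = _ := (slData l F).d_val 0 u⁻¹
      rw [hd]
      ext p q
      rw [Matrix.diagonal_mul, Matrix.mul_diagonal]
      by_cases h : slL l p = 1 ∧ slL l q = 1
      · obtain ⟨hp, hq⟩ := h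
        obtain ⟨a, rfl⟩ := (midEmb_range l p).2 hp
        obtain ⟨b, rfl⟩ := (midEmb_range l q).2 hq
        rw [(mid_apply l F X _ _).1 a b rfl rfl, (mid_apply l F Z _ _).1 a b rfl rfl]
        have e := congrFun (congrFun hXZ a) b
        rw [Matrix.diagonal_mul, Matrix.mul_diagonal] at e
        have hdd : ∀ c : Fin l, ((slData l F).dd 0 u⁻¹ (midEmb l c) : F) = if c.val = 0 then (u : F) else 1 :=
          fun c => by
            show ((if c.val + 1 = 0 then u⁻¹ else if c.val + 1 = 0 + 1 then u⁻¹⁻¹ else 1 : Fˣ) : F) = _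
            rw [if_neg (Nat.succ_ne_zero _), inv_inv]
            by_cases h : c.val = 0
            · rw [if_pos (by rw [h]), if_pos h]
            · rw [if_neg (by omega), if_neg h, Units.val_one]
        rw [hdd, hdd]
        exact e
      · rw [(mid_apply l F X p q).2 (by tauto), (mid_apply l F Z p q).2 (by tauto)]
        by_cases e : p = q
        · subst e; simp
        · simp [e]
  rev := by
    have hne : (0 : Fin (l + 2)) ≠ Fin.last (l + 1) := Fin.ne_of_val_ne (by simp)
    refine ⟨ext2 0 (Fin.last (l + 1)) hne wSL, ?_, fun A hA => ⟨A, hA, ?_⟩⟩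
    · rw [mul_inv_eq_iff_eq_mul, ← map_inv]
      refine Subtype.ext ?_
      show (ext2 0 (Fin.last (l + 1)) hne wSL).1 * ((slData l F).T fun _ => ζ).1 =
        ((slData l F).T fun _ => ζ⁻¹).1 * (ext2 0 (Fin.last (l + 1)) hne wSL).1
      rw [show ((slData l F).T fun _ => ζ).1 = _ from (slData l F).T_val fun _ => ζ,
        show ((slData l F).T fun _ => ζ⁻¹).1 = _ from (slData l F).T_val fun _ => ζ⁻¹]
      ext p q
      rw [Matrix.diagonal_mul, Matrix.mul_diagonal, slData_diag, slData_diag, ext2_apply]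
      simp only [Fin.ext_iff, Fin.val_zero, Fin.val_last, wSL_val]
      have := p.2
      have := q.2
      split_ifs <;> first | omega | simp [mul_comm]
    · rw [mul_inv_eq_iff_eq_mul]
      refine Subtype.ext (extM_commute _ _ (fun a b e => ?_) _ _).eq
      have hb := congrArg Fin.val e
      have : (pairEmb (0 : Fin (l + 2)) (Fin.last (l + 1)) hne a).val = 0 ∨
          (pairEmb (0 : Fin (l + 2)) (Fin.last (l + 1)) hne a).val = l + 1 := by
        fin_cases a <;> simp [pairEmb_apply hne]
      have hb' : (midEmb l b).val = b.val + 1 := rfl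
      have := b.2
      omega

theorem cartA_row (i : Fin (l + 1)) :
    ∑ j ∈ Finset.univ.erase i, (cartA l i j).natAbs ≤ 3 := by
  calc ∑ j ∈ Finset.univ.erase i, (cartA l i j).natAbs
      ≤ ∑ j : Fin (l + 1), ((if i.val + 1 = j.val then 1 else 0) + (if j.val + 1 = i.val then 1 else 0)) := by
        refine le_trans (Finset.sum_le_sum fun j hj => ?_) (Finset.sum_le_sum_of_subset (Finset.subset_univ _))
        have hne := Fin.val_ne_of_ne (Finset.ne_of_mem_erase hj)
        unfold cartA
        split_ifs <;> omega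
    _ ≤ 3 := by
        rw [Finset.sum_add_distrib]
        have hb : ∀ P : Fin (l + 1) → Prop, [DecidablePred P] → (∀ a b, P a → P b → a = b) →
            (∑ j : Fin (l + 1), if P j then 1 else 0) ≤ 1 := fun P _ hP => by
          rw [Finset.sum_boole]
          exact_mod_cast Finset.card_le_one.2 fun a ha b hb => hP a b (Finset.mem_filter.1 ha).2 (Finset.mem_filter.1 hb).2
        have h1 := hb (fun j => i.val + 1 = j.val) fun a b ha hb => Fin.ext (ha.symm.trans hb)
        have h2 := hb (fun j => j.val + 1 = i.val) fun a b ha hb => Fin.ext (by omega)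
        omega

/-- A chain of nodes joined by non-zero entries is connected. -/
theorem connected_of_parent {ι : Type} [Fintype ι] (A : ι → ι → ℤ) (r : ι) (w : ι → ℕ)
    (hpar : ∀ i, i ≠ r → ∃ j, w j < w i ∧ A i j ≠ 0 ∧ A j i ≠ 0)
    (S : Finset ι) (hS : S.Nonempty) (hS' : S ≠ Finset.univ) : ∃ q ∈ S, ∃ p ∉ S, A q p ≠ 0 := by
  by_contra hcon
  push Not at hcon
  have key : ∀ n, ∀ i, w i = n → (i ∈ S ↔ r ∈ S) := by
    intro n
    induction n using Nat.strong_induction_on with
    | _ n ih =>
      intro i hi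
      by_cases hr : i = r
      · rw [hr]
      obtain ⟨j, hj, a, b⟩ := hpar i hr
      refine Iff.trans ⟨fun h => ?_, fun h => ?_⟩ (ih _ (hi ▸ hj) j rfl)
      · by_contra h'; exact a (hcon i h j h')
      · by_contra h'; exact b (hcon j h i h')
  obtain ⟨a, ha⟩ := hS
  exact hS' (Finset.eq_univ_iff_forall.2 fun x => (key _ x rfl).2 ((key _ a rfl).1 ha))

/-- A unit of order at least eight. -/
theorem exists_big_unit (hq : 9 ≤ Fintype.card F) : ∃ ζ : Fˣ, ∀ j : ℕ, 0 < j → j < 8 → ζ ^ j ≠ 1 := by
  obtain ⟨ζ, hgen⟩ := IsCyclic.exists_generator (α := Fˣ)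
  refine ⟨ζ, fun j h0 h8 e => ?_⟩
  have h := orderOf_le_of_pow_eq_one h0 e
  rw [orderOf_eq_card_of_forall_mem_zpowers hgen, Nat.card_units, Nat.card_eq_fintype_card] at h
  omega

/-- The class-square covering of `PSL_n`. -/
theorem square_psl {n : ℕ} (hn : 2 ≤ n) (hq : 9 ≤ Fintype.card F) :
    ∃ d : ProjectiveSpecialLinearGroup (Fin n) F, ∀ x : ProjectiveSpecialLinearGroup (Fin n) F,
      ∃ a b : ProjectiveSpecialLinearGroup (Fin n) F, x = (a * d * a⁻¹) * (b * d * b⁻¹) := by
  obtain ⟨l, rfl⟩ : ∃ l, n = l + 2 := ⟨n - 2, by omega⟩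
  obtain ⟨ζ, hζ⟩ := exists_big_unit hq
  refine square_of_levi (slData l F) (slLevi l ζ (by simpa using hζ 1) (hζ 2 (by norm_num) (by norm_num)))
    (by omega) (fun i => if_pos rfl) (fun i => by convert cartA_row l i; rfl) (connected_of_parent (slData l F).A 0 Fin.val fun i hi => ?_)
  have : i.val ≠ 0 := fun e => hi (Fin.ext e)
  refine ⟨⟨i.val - 1, by omega⟩, by show i.val - 1 < i.val; omega, ?_, ?_⟩ <;>
  · show cartA l _ _ ≠ 0
    unfold cartA
    simp only
    split_ifs <;> omega

end Cfsg.Agent.Classical.MatRootData
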