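import Cfsg.Agent.Lib.Classical.MatDataSp

/-!
The Siegel Levi block of `Sp_{2m}` and the class-square covering of `PSp_{2m}`.
-/

set_option autoImplicit false
set_option linter.unusedSectionVars false
set_option maxHeartbeats 2000000

namespace Cfsg.Agent.Classical.MatRootData

open Matrix Cfsg.Agent.Classical.RegularBlocks Cfsg.Agent.Lie.Chev Cfsg.Agent.Lie.CurtisTitsA
  Cfsg.Agent.Lie.SpnPres
open scoped MatrixGroups

variable (n : ℕ) {F : Type*} [Field F] [Fintype F]

/-- The two halves. -/
def spL : Fin (n + 2) ⊕ Fin (n + 2) → ℕ := Sum.elim (fun _ => 0) fun _ => 1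

theorem prod_chain (ζ : Fˣ) (p : Fin (n + 2)) :
    (∏ k : Fin (n + 2), (if p.val = k.val then ζ ^ (k.val + 1) else
      if p.val = k.val + 1 then (ζ ^ (k.val + 1))⁻¹ else 1)) = ζ := by
  have e : ∀ k : Fin (n + 2), (if p.val = k.val then ζ ^ (k.val + 1) else
      if p.val = k.val + 1 then (ζ ^ (k.val + 1))⁻¹ else 1) =
      (if p.val = k.val then ζ ^ (k.val + 1) else 1) * (if p.val = k.val + 1 then (ζ ^ (k.val + 1))⁻¹ else 1) :=
    fun k => by split_ifs <;> first | omega | simp
  rw [Finset.prod_congr rfl fun k _ => e k, Finset.prod_mul_distrib]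
  have hp := p.2
  have e1 : ∏ k : Fin (n + 2), (if p.val = k.val then ζ ^ (k.val + 1) else 1) = ζ ^ (p.val + 1) := by
    rw [Finset.prod_eq_single p (fun k _ hk => if_neg fun e => hk (Fin.ext e.symm)) (by simp), if_pos rfl]
  have e2 : ∏ k : Fin (n + 2), (if p.val = k.val + 1 then (ζ ^ (k.val + 1))⁻¹ else 1) = (ζ ^ p.val)⁻¹ := by
    by_cases h : p.val = 0
    · rw [h, pow_zero, inv_one]
      exact Finset.prod_eq_one fun k _ => if_neg (by omega)
    · rw [Finset.prod_eq_single (⟨p.val - 1, by omega⟩ : Fin (n + 2))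
        (fun k _ hk => if_neg fun e => hk (Fin.ext (by show k.val = p.val - 1; omega))) (by simp),
        if_pos (by show p.val = p.val - 1 + 1; omega),
        show p.val - 1 + 1 = p.val by omega]
  rw [e1, e2, pow_succ', mul_assoc, mul_inv_cancel, mul_one]

theorem spData_diag (ζ : Fˣ) (p : Fin (n + 2) ⊕ Fin (n + 2)) :
    (spData n F).diag (fun k => ζ ^ (k.val + 1)) p = Sum.elim (fun _ => ζ) (fun _ => ζ⁻¹) p := by
  rcases p with p | p
  · exact prod_chain n ζ p
  · show (∏ k : Fin (n + 2), (if p.val = k.val then (ζ ^ (k.val + 1))⁻¹ else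
      if p.val = k.val + 1 then ζ ^ (k.val + 1) else 1)) = ζ⁻¹
    conv_rhs => rw [← prod_chain n ζ p, ← Finset.prod_inv_distrib]
    exact Finset.prod_congr rfl fun k _ => by split_ifs <;> simp

theorem spData_Tval (ζ : Fˣ) :
    ((spData n F).T fun k => ζ ^ (k.val + 1)).1 =
      fromBlocks ((ζ : F) • 1) 0 0 (((ζ⁻¹ : Fˣ) : F) • 1) := by
  have h : ((spData n F).T fun k => ζ ^ (k.val + 1)).1 = _ := (spData n F).T_val _
  rw [h]
  ext p q
  rw [Matrix.diagonal_apply, spData_diag]
  rcases p with p | p <;> rcases q with q | q <;> simp [Matrix.one_apply]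

theorem sp_Tcomm (ζ : Fˣ) (A : SpecialLinearGroup (Fin (n + 2)) F) :
    Commute ((spData n F).T fun k => ζ ^ (k.val + 1)) (lev A) := by
  refine Subtype.ext ?_
  show ((spData n F).T fun k => ζ ^ (k.val + 1)).1 * (lev A).1 = (lev A).1 * _
  rw [spData_Tval, lev_val, fromBlocks_multiply, fromBlocks_multiply]
  simp

theorem lev_bd (A : SpecialLinearGroup (Fin (n + 2)) F) : lev A ∈ bd (spRho n F) (spL n) := by
  intro p q h
  show (lev A).1 p q = 0
  rw [lev_val]
  rcases p with p | p <;> rcases q with q | q <;> first | exact absurd rfl h | rfl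

theorem tinv_of_mul {A : SpecialLinearGroup (Fin (n + 2)) F} {B : Matrix (Fin (n + 2)) (Fin (n + 2)) F}
    (h : A.1ᵀ * B = 1) : (tinv A).1 = B := by
  have h1 : (tinv A).1 * A.1ᵀ = 1 := by rw [tinv_val, ← transpose_mul, sval_mul_inv, transpose_one]
  calc (tinv A).1 = (tinv A).1 * (A.1ᵀ * B) := by rw [h, mul_one]
    _ = B := by rw [← mul_assoc, h1, one_mul]

/-- The block diagonal part of a symplectic element with one zero corner. -/
theorem sp_corner {g : Matrix.symplecticGroup (Fin (n + 2)) F}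
    (hz : (∀ x i, g.1 (.inr x) (.inl i) = 0) ∨ ∀ x j, g.1 (.inl x) (.inr j) = 0)
    {P : SpecialLinearGroup (Fin (n + 2)) F} (hP : ∀ i j, P.1 i j = g.1 (.inl i) (.inl j))
    (p q : Fin (n + 2) ⊕ Fin (n + 2)) (h : spL n p = spL n q) : (lev P).1 p q = g.1 p q := by
  have e : P.1ᵀ * (g.1.submatrix Sum.inr Sum.inr) = 1 := by
    ext i j
    rw [Matrix.mul_apply, Matrix.one_apply, ← sp_cols n g i j]
    refine Finset.sum_congr rfl fun x _ => ?_
    rw [transpose_apply, hP, submatrix_apply]
    rcases hz with hz | hz <;> simp [hz]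
  rw [lev_val]
  rcases p with p | p <;> rcases q with q | q <;> first
    | exact hP p q
    | (rw [fromBlocks_apply₂₂, tinv_of_mul n e]; rfl)
    | exact absurd h (by simp [spL])

/-- The Levi block. -/
noncomputable def spLevi (ζ : Fˣ) (h2 : ζ ^ 2 ≠ 1) : LeviData (spData n F) (n + 2) where
  L := spL n
  Λ := lev
  half k := ζ ^ (k.val + 1)
  compatL p q h := by
    show ¬ spH n q < spH n p
    rcases p with p | p <;> rcases q with q | q <;>
      simp only [spL, spH, Sum.elim_inl, Sum.elim_inr] at h ⊢ <;> have := p.2 <;> have := q.2 <;> omega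
  Λ_bd := lev_bd n
  Λ_comm := sp_Tcomm n ζ
  fix g hg hc := eq_one_of_cross (spData n F).inj hg fun p q h => by
    refine entry_zero ((spData n F).T_val fun k => ζ ^ (k.val + 1)) hc ?_
    rw [spData_diag, spData_diag]
    have hi : ζ ≠ ζ⁻¹ := fun e => h2 (by rw [pow_two]; nth_rewrite 2 [e]; exact mul_inv_cancel ζ)
    rcases p with p | p <;> rcases q with q | q <;> first
      | exact absurd rfl h
      | exact hi
      | exact hi.symm
  U_part g hg := by
    obtain ⟨P, hP, hPe⟩ := exists_upper_block (ρ := spRho n F) Sum.inl (fun i j hij => by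
      show i.val < j.val
      exact hij) hg
    refine ⟨P, hP, sp_corner n (Or.inl fun x i => (hg _ _ ?_).trans (if_neg (by simp))) hPe⟩
    show ¬ (2 * n + 3 - x.val < i.val)
    have := x.2
    have := i.2
    omega
  V_part g hg := by
    obtain ⟨P, hP, hPe⟩ := exists_lower_block (ρ := spRho n F) Sum.inl (fun i j hij => by
      show i.val < j.val
      exact hij) hg
    refine ⟨P, hP, sp_corner n (Or.inr fun x j => (hg _ _ ?_).trans (if_neg (by simp))) hPe⟩
    show ¬ (2 * n + 3 - j.val < x.val)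
    have := x.2
    have := j.2
    omega
  fuse A B hA hB := by
    refine fuse_of_twist _ (lev_bd n) (sp_Tcomm n ζ) (fun hk u => ?_) A B hA hB
    refine ⟨SpMult.levD (fun i : Fin (n + 2) => if i.val = 0 then u else 1), fun p q h => ?_, ?_, fun X Z hXZ => ?_⟩
    · show (SpMult.levD (fun i : Fin (n + 2) => if i.val = 0 then u else 1)).1 p q = 0
      rw [SpMult.levD_val]
      rcases p with p | p <;> rcases q with q | q <;> first | exact absurd rfl h | rfl
    · refine Subtype.ext ?_
      show (SpMult.levD _).1 * ((spData n F).T fun k => ζ ^ (k.val + 1)).1 =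
        ((spData n F).T fun k => ζ ^ (k.val + 1)).1 * (SpMult.levD _).1
      rw [spData_Tval, SpMult.levD_val, fromBlocks_multiply, fromBlocks_multiply]
      simp
    · refine SpMult.levD_lev _ ?_
      have e : (fun i : Fin (n + 2) => ((if i.val = 0 then u else 1 : Fˣ) : F)) =
          fun i : Fin (n + 2) => if i.val = 0 then (u : F) else 1 := by
        funext i; split_ifs <;> simp
      rw [e]
      exact hXZ
  rev := by
    refine ⟨⟨Matrix.J (Fin (n + 2)) F, SymplecticGroup.J_mem _ _⟩, ?_, fun A hA =>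
      ⟨tinv A, fun h => ?_, ?_⟩⟩
    · rw [mul_inv_eq_iff_eq_mul, ← map_inv,
        show (fun k : Fin (n + 2) => ζ ^ (k.val + 1))⁻¹ = fun k => ζ⁻¹ ^ (k.val + 1) from
          funext fun k => (inv_pow _ _).symm]
      refine Subtype.ext ?_
      show Matrix.J (Fin (n + 2)) F * ((spData n F).T fun k => ζ ^ (k.val + 1)).1 =
        ((spData n F).T fun k => ζ⁻¹ ^ (k.val + 1)).1 * Matrix.J (Fin (n + 2)) F
      rw [spData_Tval, spData_Tval, Matrix.J, fromBlocks_multiply, fromBlocks_multiply]
      simp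
    · rw [tinv_val]
      exact (hA.inv h).transpose
    · rw [mul_inv_eq_iff_eq_mul]
      refine Subtype.ext ?_
      show Matrix.J (Fin (n + 2)) F * (lev A).1 = (lev (tinv A)).1 * Matrix.J (Fin (n + 2)) F
      rw [lev_val, lev_val, tinv_tinv, Matrix.J, fromBlocks_multiply, fromBlocks_multiply]
      simp

theorem cartC_row (i : Fin (n + 2)) : ∑ j ∈ Finset.univ.erase i, (cartC n i j).natAbs ≤ 3 := by
  calc ∑ j ∈ Finset.univ.erase i, (cartC n i j).natAbs
      ≤ ∑ j : Fin (n + 2), ((if i.val + 1 = j.val then 2 else 0) + (if j.val + 1 = i.val then 1 else 0)) := by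
        refine le_trans (Finset.sum_le_sum fun j hj => ?_) (Finset.sum_le_sum_of_subset (Finset.subset_univ _))
        have hne := Fin.val_ne_of_ne (Finset.ne_of_mem_erase hj)
        unfold cartC
        split_ifs <;> omega
    _ ≤ 3 := by
        rw [Finset.sum_add_distrib]
        have hb : ∀ (c : ℕ) (P : Fin (n + 2) → Prop), [DecidablePred P] → (∀ a b, P a → P b → a = b) →
            (∑ j : Fin (n + 2), if P j then c else 0) ≤ c := fun c P _ hP => by
          rw [← Finset.sum_filter, Finset.sum_const, smul_eq_mul]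
          calc _ ≤ 1 * c := Nat.mul_le_mul_right c (Finset.card_le_one.2 fun a ha b hb =>
                hP a b (Finset.mem_filter.1 ha).2 (Finset.mem_filter.1 hb).2)
            _ = c := one_mul c
        have h1 := hb 2 (fun j => i.val + 1 = j.val) fun a b ha hb => Fin.ext (ha.symm.trans hb)
        have h2 := hb 1 (fun j => j.val + 1 = i.val) fun a b ha hb => Fin.ext (by omega)
        omega

/-- The class-square covering of `PSp_{2m}`. -/
theorem square_psp {m : ℕ} (hm : 2 ≤ m) (hq : 9 ≤ Fintype.card F) :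
    ∃ d : Cfsg.PSp m F, ∀ x : Cfsg.PSp m F, ∃ a b : Cfsg.PSp m F, x = (a * d * a⁻¹) * (b * d * b⁻¹) := by
  obtain ⟨n, rfl⟩ : ∃ n, m = n + 2 := ⟨m - 2, by omega⟩
  obtain ⟨ζ, hζ⟩ := exists_big_unit hq
  refine square_of_levi (spData n F) (spLevi n ζ (hζ 2 (by norm_num) (by norm_num))) (by omega)
    (fun i => if_pos rfl) (fun i => by convert cartC_row n i; rfl)
    (connected_of_parent (spData n F).A 0 Fin.val fun i hi => ?_)
  have : i.val ≠ 0 := fun e => hi (Fin.ext e)
  refine ⟨⟨i.val - 1, by omega⟩, by show i.val - 1 < i.val; omega, ?_, ?_⟩ <;>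
  · show cartC n _ _ ≠ 0
    unfold cartC
    simp only
    split_ifs <;> omega

end Cfsg.Agent.Classical.MatRootData
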