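import Cfsg.Agent.Lib.Classical.MaxFrameClaim

/-!
A group containing the monomial squares, in which elements fixing two frame vectors are monomial, is monomial.
-/

set_option autoImplicit false
set_option linter.unusedSectionVars false
set_option linter.style.haveILetI false
set_option quotPrecheck false

namespace Cfsg.Agent.Classical.OrthFrame

open Matrix Module MaxTv

variable {F : Type*} [Field F] [Fintype F] {n : ℕ}

local notation "V" => (Fin n → F)
local notation "Mn" => Matrix (Fin n) (Fin n) F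
local notation "GLn" => GL (Fin n) F

/-- Involutions in distinct classes have an involution commuting with both. -/
theorem exists_dihedral {G : Type*} [Group G] [Finite G] (H : Subgroup G) {t y : G} (ht : t ∈ H) (hy : y ∈ H)
    (ht2 : t * t = 1) (hy2 : y * y = 1) (hne : ∀ h ∈ H, h * t * h⁻¹ ≠ y) :
    ∃ v ∈ H, v ≠ 1 ∧ v * t = t * v ∧ v * y = y * v ∧ (∀ L : Subgroup G, t ∈ L → y ∈ L → v ∈ L) ∧
      ∃ h ∈ H, h * t * h⁻¹ = t * v ∨ h * y * h⁻¹ = t * v := by
  obtain ⟨r, hr⟩ : ∃ r, r = t * y := ⟨_, rfl⟩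
  have hrH : r ∈ H := hr ▸ mul_mem ht hy
  have hti : t⁻¹ = t := inv_eq_of_mul_eq_one_right ht2
  have hyi : y⁻¹ = y := inv_eq_of_mul_eq_one_right hy2
  have hyr : y = t * r := by rw [hr, ← mul_assoc, ht2, one_mul]
  have hrinv : t * r * t⁻¹ = r⁻¹ := by rw [hr, _root_.mul_inv_rev, hti, hyi, ← mul_assoc t t y, ht2, one_mul]
  have hpow : ∀ j : ℕ, t * r ^ j = (r ^ j)⁻¹ * t := fun j => by
    have h : (t * r * t⁻¹) ^ j = t * r ^ j * t⁻¹ := conj_pow
    rw [hrinv, inv_pow] at h
    rw [h, inv_mul_cancel_right]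
  have hord := orderOf_pos r
  rcases Nat.even_or_odd' (orderOf r) with ⟨m, hm | hm⟩
  · have hr1 : r ^ (2 * m) = 1 := hm ▸ pow_orderOf_eq_one r
    have hinvm : (r ^ m)⁻¹ = r ^ m := inv_eq_of_mul_eq_one_right (by rw [← pow_add, ← two_mul, hr1])
    refine ⟨r ^ m, pow_mem hrH m, fun h => ?_, by rw [hpow, hinvm], ?_, fun L h1 h2 => pow_mem (hr ▸ mul_mem h1 h2) m, ?_⟩
    · have := Nat.le_of_dvd (by omega) (orderOf_dvd_of_pow_eq_one h)
      omega
    · rw [hyr, ← mul_assoc, show r ^ m * t = t * r ^ m by rw [hpow, hinvm], mul_assoc, mul_assoc,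
        (Commute.self_pow r m).eq]
    rcases Nat.even_or_odd' m with ⟨l, hl | hl⟩
    · refine ⟨(r ^ l)⁻¹, inv_mem (pow_mem hrH l), Or.inl ?_⟩
      rw [inv_inv, ← hpow, mul_assoc, ← pow_add, ← two_mul, ← hl]
    · refine ⟨(r ^ l)⁻¹, inv_mem (pow_mem hrH l), Or.inr ?_⟩
      rw [inv_inv, hyr, ← mul_assoc, ← hpow, mul_assoc, mul_assoc, ← pow_succ', ← pow_add]
      congr 2
      omega
  · -- odd order: conjugate
    exfalso
    have hr1 : r ^ (2 * m + 1) = 1 := hm ▸ pow_orderOf_eq_one r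
    refine hne (r ^ m) (pow_mem hrH m) ?_
    have h1 : r ^ m * t = t * (r ^ m)⁻¹ := by
      have := hpow m
      calc r ^ m * t = r ^ m * (t * r ^ m) * (r ^ m)⁻¹ := by group
        _ = _ := by rw [this, mul_inv_cancel_left]
    rw [h1, hyr, mul_assoc, ← _root_.mul_inv_rev, ← pow_add]
    congr 1
    refine inv_eq_of_mul_eq_one_right ?_
    rw [← pow_succ, ← two_mul, hr1]

theorem Fr.conj_even {H : Subgroup (GL (Fin n) F)} (O : Fr H) {U : Finset (Fin n)} (h : (dg U : GLn) ∈ H) :
    Even U.card := O.even_dg h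

namespace Fr

variable {H : Subgroup (GL (Fin n) F)} (O : Fr H) (hn : 5 ≤ n) (h6 : n ≠ 6) (h8 : n ≠ 8) (h2 : Fix H 2)
  (h1 : n = 5 → Fix H 1)
include O hn h6 h8 h2 h1

variable {g : GL (Fin n) F} {S : Finset (Fin n)} {π : Equiv.Perm (Fin n)} {ε : Fin n → Fˣ}

theorem descend_moved (hB : Bad H g S π ε) {g' : GLn} {U : Finset (Fin n)} {σ : Equiv.Perm (Fin n)}
    {δ : Fin n → Fˣ} (hB' : Bad H g' U σ δ) (T : Finset (Fin n)) (hT : ∀ i ∈ T, σ i = i) {k : ℕ}
    (hk : n - T.card < 2 * k + 2) : (pairs σ).card ≤ k := by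
  have h := card_moved (hB'.sq O).1
  have hsub : moved σ ⊆ Tᶜ := fun i hi =>
    Finset.mem_compl.2 fun hiT => (Finset.mem_filter.1 hi).2 (hT i hiT)
  have := Finset.card_le_card hsub
  rw [Finset.card_compl, Fintype.card_fin] at this
  omega

theorem pairs_ne (hB : Bad H g S π ε) : 2 ≤ (pairs π).card := by
  obtain ⟨b1, b2⟩ := O.bound hn h6 h8 h2 h1 hB
  omega

/-- Seven points: the induced map is injective. -/
theorem ker_seven (h7 : n = 7) (hB : Bad H g S π ε) {ρ : ↥(cSub π : Subgroup (GL (Fin n) F)) →* Equiv.Perm (Fin n)}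
    (hρ : ∀ z : ↥(cSub π : Subgroup (GL (Fin n) F)), ∃ δ, g⁻¹ * (z : GL (Fin n) F) * g = sp (ρ z) δ)
    (hP : ElemTwo ρ.range) (hS : ∀ z i, ρ z i ∈ S ↔ i ∈ S)
    (hker : ∀ z : ↥(cSub π : Subgroup (GL (Fin n) F)), ρ z = 1 → ∀ U, (z : GL (Fin n) F) = dg U → ¬ Allowed n U)
    {z : ↥(cSub π : Subgroup (GL (Fin n) F))} (hz : ρ z = 1) : z = 1 := by
  classical
  by_contra hne
  obtain ⟨U, hUe, hUi, hU⟩ := id z.2
  have hle := Finset.card_le_univ U
  rw [Fintype.card_fin] at hle
  have hU0 : U.card ≠ 0 := fun h => hne (Subtype.ext (by rw [hU, Finset.card_eq_zero.1 h, dg_empty]; rfl))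
  have hU6 : U.card = 6 := by
    have hna := hker z hz U hU
    simp only [Allowed, hUe, true_and, not_and_or, not_or, not_lt, not_le] at hna
    obtain ⟨k, hk⟩ := hUe
    omega
  obtain ⟨δ, hδ⟩ := hρ z
  rw [hz, hU] at hδ
  have hmem : (sp 1 δ : GLn) ∈ H := hδ ▸ mul_mem (mul_mem (inv_mem hB.mem) (O.mem_dg hUe)) hB.mem
  obtain ⟨W, hW⟩ : ∃ W, (sp 1 δ : GLn) = dg W := by
    refine ⟨Finset.univ.filter fun i => δ i = -1, ?_⟩
    rw [dg]
    congr 1
    funext i
    have hne : (-1 : Fˣ) ≠ 1 := fun e => O.two (by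
      have := congrArg Units.val e
      rw [Units.val_neg, Units.val_one] at this
      linear_combination -this)
    rcases O.unit_of_mem hmem i with e | e <;> simp [sgn, e, hne.symm]
  rw [hW] at hδ
  have hWc : W.card = 6 := by
    have h := finrank_negSp_conj (dg U) g⁻¹
    rw [inv_inv, hδ, finrank_negSp_dg O.two, finrank_negSp_dg O.two] at h
    omega
  obtain ⟨i, hi⟩ := Finset.card_eq_one.1 (show (Uᶜ).card = 1 by rw [Finset.card_compl, Fintype.card_fin]; omega)
  obtain ⟨j, hj⟩ := Finset.card_eq_one.1 (show (Wᶜ).card = 1 by rw [Finset.card_compl, Fintype.card_fin]; omega)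
  have hiU : ∀ k, k ∉ U ↔ k = i := fun k => by rw [← Finset.mem_compl, hi, Finset.mem_singleton]
  have hjW : ∀ k, k ∉ W ↔ k = j := fun k => by rw [← Finset.mem_compl, hj, Finset.mem_singleton]
  -- the induced permutations fix `j`
  have hfixj : ∀ w, ρ w j = j := fun w => by
    obtain ⟨η, hη⟩ := hρ w
    have hc : (g⁻¹ * (w : GLn) * g) * dg W = dg W * (g⁻¹ * (w : GLn) * g) := by
      rw [← hδ, ← hU]
      have hzw : (w : GLn) * (z : GLn) = (z : GLn) * (w : GLn) := by
        obtain ⟨U', -, -, e⟩ := w.2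
        rw [e, hU, dg_mul, dg_mul, symmDiff_comm]
      calc g⁻¹ * (w : GLn) * g * (g⁻¹ * (z : GLn) * g) = g⁻¹ * ((w : GLn) * (z : GLn)) * g := by group
        _ = g⁻¹ * ((z : GLn) * (w : GLn)) * g := by rw [hzw]
        _ = _ := by group
    rw [hη, dg, sp_mul, sp_mul, mul_one, one_mul] at hc
    have h := congrFun (sp_inj hc).2 j
    rw [Equiv.Perm.one_apply, mul_comm] at h
    have h' := mul_right_cancel h
    refine (hjW _).1 fun hmemW => ?_
    rw [sgn, sgn, if_neg ((hjW j).2 rfl), if_pos hmemW] at h'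
    exact O.two (by
      have := congrArg Units.val h'
      rw [Units.val_neg, Units.val_one] at this
      linear_combination this)
  have hk := hB.pairs_le O
  have hk2 := O.pairs_ne hn h6 h8 h2 h1 hB
  have hk3 : 2 * (pairs π).card ≤ n := by
    rw [← card_moved (hB.sq O).1]
    exact (Finset.card_le_univ _).trans (Fintype.card_fin n).le
  obtain ⟨hpos, hev, hlt, hal⟩ := hB.allowed
  obtain ⟨s, hs⟩ := hev
  -- choose the invariant part
  obtain ⟨T, hT, hcond, hsize⟩ : ∃ T : Finset (Fin n), (∀ w, ∀ x ∈ T, ρ w x ∈ T) ∧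
      T.card + 2 < 2 * (n - (pairs π).card - 1) ∧ n - (insert j T).card < 2 * 1 + 2 := by
    rcases (show S.card = 2 ∨ S.card = 4 by omega) with h | h
    · refine ⟨Sᶜ.erase j, fun w x hx => ?_, ?_, ?_⟩
      · rw [Finset.mem_erase, Finset.mem_compl] at hx ⊢
        exact ⟨fun e => hx.1 ((ρ w).injective (e.trans (hfixj w).symm)), fun e => hx.2 ((hS w x).1 e)⟩
      · have := Finset.card_erase_le (s := Sᶜ) (a := j)
        rw [Finset.card_compl, Fintype.card_fin] at this
        omega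
      · have h' : Sᶜ ⊆ insert j (Sᶜ.erase j) := fun x hx => by
          rw [Finset.mem_insert, Finset.mem_erase]; tauto
        have := Finset.card_le_card h'
        rw [Finset.card_compl, Fintype.card_fin] at this
        omega
    · by_cases hjS : j ∈ S
      · refine ⟨Sᶜ, fun w x hx => ?_, by rw [Finset.card_compl, Fintype.card_fin]; omega, ?_⟩
        · rw [Finset.mem_compl] at hx ⊢
          exact fun e => hx ((hS w x).1 e)
        · rw [Finset.card_insert_of_notMem (by simp [hjS]), Finset.card_compl, Fintype.card_fin]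
          omega
      · -- the common frame line is fixed by the signed permutation
        have hgc : g * dg W = dg U * g := by rw [← hδ]; group
        have hcol : ∀ k, k ≠ i → ((g : Mn) *ᵥ Pi.single j 1) k = 0 := fun k hk => by
          have hkU : k ∈ U := by_contra fun e => hk ((hiU k).1 e)
          have h1 := congrArg (fun x : GLn => ((x : Mn) *ᵥ Pi.single j 1) k) hgc
          simp only [Units.val_mul, ← Matrix.mulVec_mulVec, dg_single, Matrix.mulVec_smul, dg_mulVec, if_pos hkU,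
            show sgn F W j = 1 from if_neg ((hjW j).2 rfl), Units.val_one, one_smul] at h1
          exact (mul_eq_zero.1 (by linear_combination h1 :
            (2 : F) * ((g : Mn) *ᵥ Pi.single j 1) k = 0)).resolve_left O.two
        have hvec : ((sp π ε : GLn) : Mn) *ᵥ ((g : Mn) *ᵥ Pi.single j 1) = (g : Mn) *ᵥ Pi.single j 1 := by
          rw [← hB.eq, Units.val_mul, Units.val_mul, ← Matrix.mulVec_mulVec, ← Matrix.mulVec_mulVec,
            inv_mulVec_cancel, dg_single, show sgn F S j = 1 from if_neg hjS, Units.val_one, one_smul]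
        have hπi : π i = i := (hiU _).1 (mt (hUi i).1 ((hiU i).2 rfl))
        have hci : ((g : Mn) *ᵥ Pi.single j 1) i ≠ 0 := fun e => by
          rcases O.unit_col hB.mem hcol with h | h <;> rw [e] at h
          · exact zero_ne_one h
          · exact zero_ne_one (by linear_combination -h)
        have hεi : (ε i : F) = 1 := by
          have h1 := congrFun hvec i
          rw [sp_mulVec, show π.symm i = i from (Equiv.symm_apply_eq π).2 hπi.symm] at h1
          exact mul_right_cancel₀ hci (h1.trans (one_mul _).symm)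
        have hle2 := hB.pairs_add_le O {i} (fun x hx => by rw [Finset.mem_singleton] at hx; exact hx ▸ ⟨hπi, hεi⟩)
        rw [Finset.card_singleton] at hle2
        refine ⟨S, fun w x hx => (hS w x).2 hx, by omega, ?_⟩
        rw [Finset.card_insert_of_notMem hjS]
        omega
  obtain ⟨w, U', σ, δ', -, hB', hσ, hfix⟩ := O.descend hn h6 h8 h2 h1 hB hρ hP hker T hT (Or.inl hcond)
  have := O.descend_moved hn h6 h8 h2 h1 hB hB' (insert j T) (fun x hx => by
    rcases Finset.mem_insert.1 hx with rfl | hx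
    · rw [hσ, hfixj]
    · exact hfix x hx) hsize
  have := O.pairs_ne hn h6 h8 h2 h1 hB'
  omega

theorem pairs_seven (h7 : n = 7) (hB : Bad H g S π ε) : 3 ≤ (pairs π).card := by
  obtain ⟨ρ, hρ, hP, hS, hker⟩ := O.exists_hom hn h6 h8 h2 h1 hB
  have hK : Nat.card ρ.ker = 1 := Nat.card_eq_one_iff_unique.2
    ⟨⟨fun a b => Subtype.ext ((O.ker_seven hn h6 h8 h2 h1 h7 hB hρ hP hS hker a.2).trans
      (O.ker_seven hn h6 h8 h2 h1 h7 hB hρ hP hS hker b.2).symm)⟩, ⟨1⟩⟩
  have hC := O.two_pow_le hn h6 h8 h2 h1 hB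
  rw [← ρ.ker.index_mul_card, Subgroup.index_ker, hK, mul_one] at hC
  have hb := hP.card_sq_le Finset.univ fun _ _ x hx => absurd (Finset.mem_univ x) hx
  rw [Finset.card_univ, Fintype.card_fin] at hb
  have hsq := (Nat.mul_le_mul hC hC).trans hb
  rw [← pow_add] at hsq
  have := (Nat.pow_le_pow_iff_right (by norm_num)).1 hsq
  omega

/-- There is no bad element at weight two or four. -/
theorem no_bad (hB : Bad H g S π ε) (hw : S.card = 2 ∨ S.card = 4) : False := by
  obtain ⟨ρ, hρ, hP, hS, hker⟩ := O.exists_hom hn h6 h8 h2 h1 hB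
  have hk := hB.pairs_le O
  have hk' := hB.pairs_add_le O ∅ (fun x hx => absurd hx (Finset.notMem_empty x))
  have hk2 := O.pairs_ne hn h6 h8 h2 h1 hB
  have hinv : ∀ z, ∀ x ∈ Sᶜ, ρ z x ∈ Sᶜ := fun z x hx => by
    rw [Finset.mem_compl] at hx ⊢
    exact fun e => hx ((hS z x).1 e)
  have hTc : (Sᶜ).card = n - S.card := by rw [Finset.card_compl, Fintype.card_fin]
  rw [Finset.card_empty] at hk'
  have hlt := hB.allowed.2.2.1
  rcases (show n = 5 ∨ n = 7 ∨ 9 ≤ n by omega) with h5 | h7 | h9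
  · obtain ⟨-, hK5⟩ := O.kernel_cases hn h6 h8 h2 h1 hB hker
    obtain ⟨b1, b2⟩ := O.bound hn h6 h8 h2 h1 hB
    obtain ⟨z, U, σ, δ, -, hB', -, hfix⟩ := O.descend hn h6 h8 h2 h1 hB hρ hP hker Sᶜ hinv
      (Or.inr ⟨hK5 h5, h5, by omega⟩)
    have := O.descend_moved hn h6 h8 h2 h1 hB hB' Sᶜ hfix (k := 1) (by omega)
    have := O.pairs_ne hn h6 h8 h2 h1 hB'
    omega
  · have hk7 := O.pairs_seven hn h6 h8 h2 h1 h7 hB
    obtain ⟨z, U, σ, δ, -, hB', -, hfix⟩ := O.descend hn h6 h8 h2 h1 hB hρ hP hker Sᶜ hinv (Or.inl (by omega))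
    have := O.descend_moved hn h6 h8 h2 h1 hB hB' Sᶜ hfix (k := 2) (by omega)
    have := O.pairs_seven hn h6 h8 h2 h1 h7 hB'
    omega
  · obtain ⟨z, U, σ, δ, -, hB', -, hfix⟩ := O.descend hn h6 h8 h2 h1 hB hρ hP hker Sᶜ hinv (Or.inl (by omega))
    have := O.descend_moved hn h6 h8 h2 h1 hB hB' Sᶜ hfix (k := 2) (by omega)
    obtain ⟨b1, b2⟩ := O.bound hn h6 h8 h2 h1 hB'
    omega

/-- A monomial conjugate of a sign change comes from a monomial element. -/
theorem mon_of_conj_mon (hg : g ∈ H) (hS : Allowed n S) (hw : S.card = 2 ∨ S.card = 4)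
    (h : Mon (g * dg S * g⁻¹)) : Mon g := by
  classical
  have hmem := mul_mem (mul_mem hg (O.mem_dg hS.2.1)) (inv_mem hg)
  obtain ⟨π, ε, e⟩ := O.exists_sp hmem h
  by_cases hπ : π = 1
  · rw [e, hπ] at hmem
    obtain ⟨W, hW⟩ : ∃ W, (sp 1 ε : GLn) = dg W := by
      refine ⟨Finset.univ.filter fun i => ε i = -1, ?_⟩
      rw [dg]
      congr 1
      funext i
      have hne : (-1 : Fˣ) ≠ 1 := fun e => O.two (by
        have := congrArg Units.val e
        rw [Units.val_neg, Units.val_one] at this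
        linear_combination -this)
      rcases O.unit_of_mem hmem i with e | e <;> simp [sgn, e, hne.symm]
    exact O.mon_of_conj hn h6 h8 h2 h1 hg hS (by rw [e, hπ, hW])
  · exact (O.no_bad hn h6 h8 h2 h1 ⟨hg, hS, e, hπ⟩ hw).elim

/-- Every element is monomial. -/
theorem all_mon {g : GLn} (hg : g ∈ H) : Mon g := by
  classical
  by_contra hgm
  obtain ⟨Z, hZ⟩ : ∃ Z : Finset (Fin n), Z.card = 4 := by
    obtain ⟨Z, -, hZ⟩ := Finset.exists_subset_card_eq (s := (Finset.univ : Finset (Fin n))) (n := 4)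
      (by rw [Finset.card_univ, Fintype.card_fin]; omega)
    exact ⟨Z, hZ⟩
  have hZal : Allowed n Z := ⟨by omega, by rw [hZ]; decide, by omega, by omega⟩
  obtain ⟨y, hy⟩ : ∃ y, y = g * dg Z * g⁻¹ := ⟨_, rfl⟩
  have hdgZ : (dg Z * dg Z : GLn) = 1 := by rw [dg_mul, symmDiff_self, Finset.bot_eq_empty, dg_empty]
  have hyH : y ∈ H := hy ▸ mul_mem (mul_mem hg (O.mem_dg hZal.2.1)) (inv_mem hg)
  have hy2 : y * y = 1 := by
    rw [hy, show g * dg Z * g⁻¹ * (g * dg Z * g⁻¹) = g * (dg Z * dg Z) * g⁻¹ by group, hdgZ, mul_one, mul_inv_cancel]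
  have hym : ¬ Mon y := fun h => hgm (O.mon_of_conj_mon hn h6 h8 h2 h1 hg hZal (Or.inr hZ) (hy ▸ h))
  -- a pair containing the frame vector fixed by `y`, if there is one
  obtain ⟨a, ha⟩ : ∃ a : Fin n, ∀ i, (y : Mn) *ᵥ Pi.single i 1 = Pi.single i 1 → i = a := by
    by_cases h : ∃ a, (y : Mn) *ᵥ Pi.single a 1 = Pi.single a 1
    · obtain ⟨a, ha⟩ := h
      refine ⟨a, fun i hi => by_contra fun hne => hym (h2 y hyH {i, a} (by rw [Finset.card_pair hne]) ?_)⟩
      intro j hj
      rw [Finset.mem_insert, Finset.mem_singleton] at hj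
      rcases hj with rfl | rfl <;> assumption
    · exact ⟨⟨0, by omega⟩, fun i hi => absurd ⟨i, hi⟩ h⟩
  obtain ⟨b, hb⟩ := Fintype.exists_ne_of_one_lt_card (show 1 < Fintype.card (Fin n) by rw [Fintype.card_fin]; omega) a
  have hTc : ({a, b} : Finset (Fin n)).card = 2 := Finset.card_pair (Ne.symm hb)
  have hTal : Allowed n {a, b} := ⟨by omega, by rw [hTc]; exact even_two, by omega, by omega⟩
  obtain ⟨t, ht⟩ : ∃ t : GLn, t = dg {a, b} := ⟨_, rfl⟩
  have htH : t ∈ H := ht ▸ O.mem_dg hTal.2.1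
  have ht2 : t * t = 1 := by rw [ht, dg_mul, symmDiff_self, Finset.bot_eq_empty, dg_empty]
  have hne : ∀ h ∈ H, h * t * h⁻¹ ≠ y := fun h _ e => by
    have e1 := finrank_negSp_conj t h
    rw [e, hy, finrank_negSp_conj, ht, finrank_negSp_dg O.two, finrank_negSp_dg O.two, hTc, hZ] at e1
    omega
  obtain ⟨v, hvH, hv1, hvt, hvy, hvgen, h, hh, hcases⟩ := exists_dihedral H htH hyH ht2 hy2 hne
  have hvm : Mon v := O.mon_of_conj hn h6 h8 h2 h1 hvH hTal (by rw [← ht, hvt, mul_inv_cancel_right])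
  obtain ⟨π, ε, ev⟩ := O.exists_sp hvH hvm
  by_cases hπ : π = 1
  · obtain ⟨U, hU⟩ : ∃ U, (sp π ε : GLn) = dg U := by
      refine ⟨Finset.univ.filter fun i => ε i = -1, ?_⟩
      rw [dg, hπ]
      congr 1
      funext i
      have hne : (-1 : Fˣ) ≠ 1 := fun e => O.two (by
        have := congrArg Units.val e
        rw [Units.val_neg, Units.val_one] at this
        linear_combination -this)
      rcases O.unit_of_mem (ev ▸ hvH) i with e | e <;> simp [sgn, e, hne.symm]
    rw [← ev] at hU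
    obtain ⟨L, hL⟩ : ∃ L : Subgroup GLn, ∀ x, x ∈ L ↔ ∀ z ∈ posSp t ⊓ posSp y, (x : Mn) *ᵥ z = z :=
      ⟨{ carrier := {x | ∀ z ∈ posSp t ⊓ posSp y, (x : Mn) *ᵥ z = z}
         one_mem' := fun z _ => by rw [Units.val_one, Matrix.one_mulVec]
         mul_mem' := fun {p q} hp hq z hz => by rw [Units.val_mul, ← Matrix.mulVec_mulVec, hq z hz, hp z hz]
         inv_mem' := fun {p} hp z hz => by
          conv_lhs => rw [← hp z hz]
          rw [inv_mulVec_cancel] }, fun x => Iff.rfl⟩
    have hvL := (hL v).1 (hvgen L ((hL t).2 fun z hz => mem_posSp.1 hz.1) ((hL y).2 fun z hz => mem_posSp.1 hz.2))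
    have hle : posSp t ⊓ posSp y ≤ posSp v := fun z hz => mem_posSp.2 (hvL z hz)
    have hd1 := Submodule.finrank_sup_add_finrank_inf_eq (posSp t) (posSp y)
    have hd2 := Submodule.finrank_le (posSp t ⊔ posSp y)
    have hd3 := Submodule.finrank_mono hle
    have et : finrank F (posSp t) = n - 2 := by rw [ht, finrank_posSp_dg O.two, hTc]
    have ey : finrank F (posSp y) = n - 4 := by rw [hy, finrank_posSp_conj, finrank_posSp_dg O.two, hZ]
    have evv : finrank F (posSp v) = n - U.card := by rw [hU, finrank_posSp_dg O.two]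
    rw [Module.finrank_pi, Fintype.card_fin] at hd2
    have hUle := Finset.card_le_univ U
    rw [Fintype.card_fin] at hUle
    have hU0 : U.card ≠ 0 := fun e => hv1 (by rw [hU, Finset.card_eq_zero.1 e, dg_empty])
    have hUe : Even U.card := O.even_dg (hU ▸ hvH)
    by_cases hUa : Allowed n U
    · refine hym (O.mon_of_conj hn h6 h8 h2 h1 hyH hUa (S' := U) ?_)
      rw [← hU, ← hvy, mul_inv_cancel_right]
    simp only [Allowed, hUe, true_and, not_and_or, not_or, not_lt, not_le] at hUa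
    obtain ⟨k, hk⟩ := id hUe
    have h7 : n = 7 ∧ U.card = 6 := by omega
    -- the only vectors fixed by `v` are multiples of one frame vector
    obtain ⟨i, hi⟩ := Finset.card_eq_one.1 (show (Uᶜ).card = 1 by rw [Finset.card_compl, Fintype.card_fin]; omega)
    have hiU : ∀ k, k ∉ U ↔ k = i := fun k => by rw [← Finset.mem_compl, hi, Finset.mem_singleton]
    obtain ⟨z, hz, hz0⟩ := Submodule.exists_mem_ne_zero_of_ne_bot (p := posSp t ⊓ posSp y) fun e => by
      rw [e, finrank_bot] at hd1; omega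
    have hzv : z = z i • Pi.single i (1 : F) := funext fun k => by
      rcases eq_or_ne k i with rfl | hk
      · simp
      · have h' := congrFun (hvL z hz) k
        rw [hU, dg_mulVec, if_pos (by_contra fun e => hk ((hiU k).1 e))] at h'
        rw [Pi.smul_apply, Pi.single_eq_of_ne hk, smul_zero]
        exact (mul_eq_zero.1 (by linear_combination -h' : (2 : F) * z k = 0)).resolve_left O.two
    have hzi : z i ≠ 0 := fun e => hz0 (by rw [hzv, e, zero_smul])
    have hyi : (y : Mn) *ᵥ Pi.single i 1 = Pi.single i 1 := by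
      have h' := mem_posSp.1 hz.2
      rw [hzv, Matrix.mulVec_smul] at h'
      exact smul_right_injective V hzi h'
    have hti : (t : Mn) *ᵥ Pi.single i 1 = Pi.single i 1 := by
      have h' := mem_posSp.1 hz.1
      rw [hzv, Matrix.mulVec_smul] at h'
      exact smul_right_injective V hzi h'
    have hia := ha i hyi
    have h' := congrFun hti i
    rw [ht, dg_mulVec, if_pos (by simp [hia]), Pi.single_eq_same] at h'
    exact O.two (by linear_combination -h')
  · -- `t v` is monomial off the diagonal and conjugate to a sign change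
    have htv : t * v = sp π (fun i => sgn F {a, b} (π i) * ε i) := by rw [ht, ev, dg, sp_mul, one_mul]
    rcases hcases with e | e
    · exact O.no_bad hn h6 h8 h2 h1 ⟨hh, hTal, by rw [← ht, e, htv], hπ⟩ (Or.inl hTc)
    · refine O.no_bad hn h6 h8 h2 h1 (g := h * g) (ε := fun i => sgn F {a, b} (π i) * ε i) ⟨mul_mem hh hg, hZal, ?_, hπ⟩ (Or.inr hZ)
      rw [← htv, ← e, hy]
      group

end Fr

end Cfsg.Agent.Classical.OrthFrame
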