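import Cfsg.Agent.Lib.Classical.MaxOrthWreathMain

/-!
Stabilisers of orthonormal frames: signed permutation matrices inside the orthogonal group of the sum of squares.
-/

set_option autoImplicit false
set_option linter.unusedSectionVars false
set_option quotPrecheck false

namespace Cfsg.Agent.Classical.OrthFrame

open Matrix Module MaxTv

variable {F : Type*} [Field F] {n : ℕ}

local notation "V" => (Fin n → F)
local notation "Mn" => Matrix (Fin n) (Fin n) F
local notation "GLn" => GL (Fin n) F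

variable (F n) in
/-- The sum of squares. -/
noncomputable def qs : QuadraticForm F (Fin n → F) := QuadraticMap.weightedSumSquares F (fun _ : Fin n => (1 : F))

theorem qs_apply (x : V) : qs F n x = ∑ i, x i * x i := by
  simp [qs, QuadraticMap.weightedSumSquares_apply]

theorem polar_qs (x y : V) : QuadraticMap.polar ⇑(qs F n) x y = 2 * ∑ i, x i * y i := by
  simp only [QuadraticMap.polar, qs_apply, Pi.add_apply, Finset.mul_sum, ← Finset.sum_sub_distrib]
  exact Finset.sum_congr rfl fun i _ => by ring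

/-- The signed permutation as a matrix. -/
def spMat (π : Equiv.Perm (Fin n)) (ε : Fin n → Fˣ) : Mn :=
  Matrix.of fun k i => if π i = k then (ε i : F) else 0

theorem spMat_mulVec (π : Equiv.Perm (Fin n)) (ε : Fin n → Fˣ) (x : V) (k : Fin n) :
    (spMat π ε *ᵥ x) k = (ε (π.symm k) : F) * x (π.symm k) := by
  rw [Matrix.mulVec, dotProduct, Finset.sum_eq_single (π.symm k)]
  · simp [spMat]
  · intro i _ hi
    rw [spMat, Matrix.of_apply, if_neg (fun e => hi (by rw [← e, Equiv.symm_apply_apply])), zero_mul]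
  · simp

theorem spMat_mul (π π' : Equiv.Perm (Fin n)) (ε ε' : Fin n → Fˣ) :
    spMat π ε * spMat π' ε' = (spMat (π * π') fun i => ε (π' i) * ε' i : Mn) := by
  refine Matrix.ext_iff_mulVec.2 fun x => funext fun k => ?_
  rw [← Matrix.mulVec_mulVec, spMat_mulVec, spMat_mulVec, spMat_mulVec]
  simp [Equiv.Perm.mul_def, mul_assoc]

theorem spMat_one : spMat (1 : Equiv.Perm (Fin n)) (fun _ => 1) = (1 : Mn) :=
  Matrix.ext_iff_mulVec.2 fun x => funext fun k => by simp [spMat_mulVec, Equiv.Perm.one_def]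

/-- The signed permutation as an invertible matrix. -/
def sp (π : Equiv.Perm (Fin n)) (ε : Fin n → Fˣ) : GLn where
  val := spMat π ε
  inv := spMat π⁻¹ fun i => (ε (π⁻¹ i))⁻¹
  val_inv := by rw [spMat_mul, mul_inv_cancel]; simp [spMat_one]
  inv_val := by rw [spMat_mul, inv_mul_cancel]; simp [spMat_one]

theorem sp_val (π : Equiv.Perm (Fin n)) (ε : Fin n → Fˣ) : ((sp π ε : GLn) : Mn) = spMat π ε := rfl

theorem sp_mulVec (π : Equiv.Perm (Fin n)) (ε : Fin n → Fˣ) (x : V) (k : Fin n) :
    (((sp π ε : GLn) : Mn) *ᵥ x) k = (ε (π.symm k) : F) * x (π.symm k) := spMat_mulVec π ε x k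

theorem sp_single (π : Equiv.Perm (Fin n)) (ε : Fin n → Fˣ) (i : Fin n) :
    ((sp π ε : GLn) : Mn) *ᵥ Pi.single i 1 = Pi.single (π i) (ε i : F) := funext fun k => by
  rw [sp_mulVec]
  rcases eq_or_ne k (π i) with rfl | hk
  · simp
  · rw [Pi.single_eq_of_ne hk, Pi.single_eq_of_ne (fun e => hk (by rw [← e, Equiv.apply_symm_apply])), mul_zero]

theorem sp_mul (π π' : Equiv.Perm (Fin n)) (ε ε' : Fin n → Fˣ) :
    sp π ε * sp π' ε' = (sp (π * π') fun i => ε (π' i) * ε' i : GLn) :=
  Units.ext (by rw [Units.val_mul]; exact spMat_mul π π' ε ε')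

theorem sp_one : sp (1 : Equiv.Perm (Fin n)) (fun _ => 1) = (1 : GLn) := Units.ext spMat_one

theorem det_spMat (π : Equiv.Perm (Fin n)) (ε : Fin n → Fˣ) :
    (spMat π ε : Mn).det = ((Equiv.Perm.sign π : ℤ) : F) * ∏ i, (ε i : F) := by
  have h : (spMat π ε : Mn) = (Matrix.diagonal fun i => (ε i : F)).submatrix π.symm id := by
    ext k i
    rw [spMat, Matrix.of_apply, Matrix.submatrix_apply, id]
    rcases eq_or_ne (π i) k with e | e
    · subst e
      rw [if_pos rfl, π.symm_apply_apply, Matrix.diagonal_apply_eq]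
    · rw [if_neg e, Matrix.diagonal_apply_ne _ fun h => e (by rw [← h, Equiv.apply_symm_apply])]
  rw [h, Matrix.det_permute, Matrix.det_diagonal, Equiv.Perm.sign_symm]

theorem ext_single {g h : GLn} (H : ∀ i, (g : Mn) *ᵥ Pi.single i 1 = (h : Mn) *ᵥ Pi.single i 1) : g = h := by
  refine Units.ext (Matrix.ext fun k i => ?_)
  have := congrFun (H i) k
  simpa [Matrix.mulVec_single] using this

/-- Monomial matrices. -/
def Mon (g : GLn) : Prop := ∀ i, ∃ j, ∀ k, k ≠ j → (g : Mn) k i = 0

theorem mon_sp (π : Equiv.Perm (Fin n)) (ε : Fin n → Fˣ) : Mon (sp π ε : GLn) := fun i =>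
  ⟨π i, fun k hk => by simp [sp_val, spMat, Ne.symm hk]⟩

theorem eq_sp_of_mon {g : GLn} (hg : Mon g) (hiso : ∀ x, qs F n ((g : Mn) *ᵥ x) = qs F n x) :
    ∃ π : Equiv.Perm (Fin n), ∃ ε : Fin n → Fˣ, g = sp π ε ∧ ∀ i, (ε i : F) * ε i = 1 := by
  classical
  choose π hπ using hg
  have hcol : ∀ i, (g : Mn) *ᵥ Pi.single i 1 = Pi.single (π i) ((g : Mn) (π i) i) := fun i => funext fun k => by
    rw [Matrix.mulVec_single, MulOpposite.op_one, one_smul, Matrix.col_apply]
    rcases eq_or_ne k (π i) with rfl | hk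
    · rw [Pi.single_eq_same]
    · rw [Pi.single_eq_of_ne hk, hπ i k hk]
  have hsq : ∀ i, (g : Mn) (π i) i * (g : Mn) (π i) i = 1 := fun i => by
    have h := hiso (Pi.single i 1)
    rw [hcol, qs_apply, qs_apply] at h
    simpa [Pi.single_apply] using h
  have hne : ∀ i, (g : Mn) (π i) i ≠ 0 := fun i e => by simpa [e] using hsq i
  have hinj : Function.Injective π := fun i i' e => by
    by_contra hne'
    have h1 : (g : Mn) *ᵥ (((g : Mn) (π i) i') • Pi.single i 1) =
        (g : Mn) *ᵥ (((g : Mn) (π i) i) • Pi.single i' 1) := by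
      rw [Matrix.mulVec_smul, Matrix.mulVec_smul, hcol, hcol, ← e, ← Pi.single_smul, ← Pi.single_smul,
        smul_eq_mul, smul_eq_mul, mul_comm]
    have h2 := congrFun (gl_mulVec_injective g h1) i'
    simp [Pi.single_eq_of_ne (Ne.symm hne')] at h2
    exact hne i h2.symm
  refine ⟨Equiv.ofBijective π (Finite.injective_iff_bijective.1 hinj), fun i => Units.mk0 _ (hne i),
    ext_single fun i => ?_, fun i => hsq i⟩
  rw [hcol, sp_single]
  rfl

/-- Overgroups of the squares of the monomial isometries, inside the special orthogonal group. -/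
structure Fr (H : Subgroup (GL (Fin n) F)) : Prop where
  two : (2 : F) ≠ 0
  iso : ∀ g ∈ H, ∀ x, qs F n ((g : Matrix (Fin n) (Fin n) F) *ᵥ x) = qs F n x
  det : ∀ g ∈ H, (g : Matrix (Fin n) (Fin n) F).det = 1
  mon : ∀ π ε, (∀ i, (ε i : F) * ε i = 1) → (sp π ε * sp π ε : GL (Fin n) F) ∈ H

variable (F) in
/-- The signs of a subset. -/
def sgn (S : Finset (Fin n)) : Fin n → Fˣ := fun i => if i ∈ S then -1 else 1

/-- The diagonal matrix with sign `-1` on a subset. -/
def dg (S : Finset (Fin n)) : GL (Fin n) F := sp 1 (sgn F S)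

theorem sg_sq (S : Finset (Fin n)) (i : Fin n) : (sgn F S i : F) * sgn F S i = 1 := by
  by_cases h : i ∈ S <;> simp [sgn, h]

theorem dg_empty : dg (∅ : Finset (Fin n)) = (1 : GLn) := by
  rw [← sp_one, dg]
  congr 1

theorem dg_mul (S T : Finset (Fin n)) : dg S * dg T = (dg (symmDiff S T) : GLn) := by
  rw [dg, dg, sp_mul, dg, mul_one]
  congr 1
  funext i
  by_cases hS : i ∈ S <;> by_cases hT : i ∈ T <;> simp [sgn, hS, hT, Finset.mem_symmDiff]

theorem dg_mulVec (S : Finset (Fin n)) (x : V) (k : Fin n) :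
    (((dg S : GLn) : Mn) *ᵥ x) k = if k ∈ S then -x k else x k := by
  rw [dg, sp_mulVec, Equiv.Perm.one_def]
  by_cases h : k ∈ S <;> simp [sgn, h]

theorem dg_single (S : Finset (Fin n)) (i : Fin n) :
    ((dg S : GLn) : Mn) *ᵥ Pi.single i 1 = (sgn F S i : F) • Pi.single i (1 : F) := by
  rw [dg, sp_single, ← Pi.single_smul, smul_eq_mul, mul_one]
  rfl

/-- The space negated by an element. -/
def negSp (g : GLn) : Submodule F V := LinearMap.ker (Matrix.toLin' (g : Mn) + LinearMap.id)

theorem mem_negSp {g : GLn} {x : V} : x ∈ negSp g ↔ (g : Mn) *ᵥ x = -x := by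
  rw [negSp, LinearMap.mem_ker, LinearMap.add_apply, Matrix.toLin'_apply, LinearMap.id_apply, add_eq_zero_iff_eq_neg]

theorem finrank_negSp_conj (g h : GLn) :
    finrank F (negSp (h * g * h⁻¹)) = finrank F (negSp g) := by
  have hinj : Function.Injective (Matrix.toLin' (h : Mn)) := fun a b hab =>
    gl_mulVec_injective h (by simpa using hab)
  rw [(Submodule.equivMapOfInjective _ hinj (negSp g)).finrank_eq]
  refine congrArg (fun W : Submodule F V => finrank F W) (le_antisymm (fun x hx => ?_) ?_)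
  · refine ⟨((h⁻¹ : GLn) : Mn) *ᵥ x, ?_, by rw [Matrix.toLin'_apply, mulVec_inv_cancel]⟩
    rw [SetLike.mem_coe, mem_negSp]
    refine gl_mulVec_injective h ?_
    show (h : Mn) *ᵥ _ = (h : Mn) *ᵥ _
    rw [Matrix.mulVec_neg, mulVec_inv_cancel]
    rw [mem_negSp, Units.val_mul, Units.val_mul, ← Matrix.mulVec_mulVec, ← Matrix.mulVec_mulVec] at hx
    exact hx
  · rintro x ⟨y, hy, rfl⟩
    rw [SetLike.mem_coe, mem_negSp] at hy
    rw [mem_negSp, Matrix.toLin'_apply, Units.val_mul, Units.val_mul, ← Matrix.mulVec_mulVec,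
      ← Matrix.mulVec_mulVec, inv_mulVec_cancel, hy, Matrix.mulVec_neg]

theorem finrank_negSp_dg (h2 : (2 : F) ≠ 0) (S : Finset (Fin n)) : finrank F (negSp (dg S : GLn)) = S.card := by
  classical
  have he : negSp (dg S : GLn) = Submodule.span F (Set.range fun i : S => Pi.single (i : Fin n) (1 : F)) := by
    refine le_antisymm (fun x hx => ?_) (Submodule.span_le.2 ?_)
    · rw [mem_negSp] at hx
      have hz : ∀ k, k ∉ S → x k = 0 := fun k hk => by
        have h := congrFun hx k
        rw [dg_mulVec, if_neg hk, Pi.neg_apply] at h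
        exact (mul_eq_zero.1 (by linear_combination h : (2 : F) * x k = 0)).resolve_left h2
      have hx' : x = ∑ i : S, x i • Pi.single (i : Fin n) (1 : F) := funext fun k => by
        rw [Finset.sum_apply]
        by_cases hk : k ∈ S
        · rw [Finset.sum_eq_single ⟨k, hk⟩ (fun i _ hi => by
            rw [Pi.smul_apply, Pi.single_eq_of_ne (fun e => hi (Subtype.ext e.symm)), smul_zero]) (by simp)]
          simp
        · rw [hz k hk, Finset.sum_eq_zero fun i _ => by
            rw [Pi.smul_apply, Pi.single_eq_of_ne (fun e : k = i => hk (e ▸ i.2)), smul_zero]]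
      rw [hx']
      exact Submodule.sum_mem _ fun i _ => Submodule.smul_mem _ _ (Submodule.subset_span ⟨i, rfl⟩)
    · rintro _ ⟨i, rfl⟩
      rw [SetLike.mem_coe, mem_negSp, dg_single]
      simp [sgn, i.2]
  rw [he, finrank_span_eq_card]
  · exact Fintype.card_coe S
  · exact (Pi.linearIndependent_single_one (Fin n) F).comp _ Subtype.val_injective

namespace Fr

variable {H : Subgroup (GL (Fin n) F)} (O : Fr H)
include O

theorem mem_threeCycle {c : Equiv.Perm (Fin n)} (hc : c.IsThreeCycle) : (sp c (fun _ => 1) : GLn) ∈ H := by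
  have h := O.mon (c * c) (fun _ => 1) (fun _ => by simp)
  have hc3 : c * c * c = 1 := by
    have := pow_orderOf_eq_one c
    rwa [hc.orderOf, pow_succ, pow_two] at this
  rw [sp_mul, show c * c * (c * c) = c by rw [← mul_assoc, hc3, one_mul]] at h
  simpa using h

theorem mem_pure {π : Equiv.Perm (Fin n)} (hπ : Equiv.Perm.sign π = 1) : (sp π (fun _ => 1) : GLn) ∈ H := by
  have hmem : π ∈ alternatingGroup (Fin n) := Equiv.Perm.mem_alternatingGroup.2 hπ
  rw [← Equiv.Perm.closure_three_cycles_eq_alternating] at hmem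
  clear hπ
  induction hmem using Subgroup.closure_induction with
  | mem c hc => exact O.mem_threeCycle hc
  | one => rw [sp_one]; exact one_mem H
  | mul a b _ _ ha hb => simpa [sp_mul] using mul_mem ha hb
  | inv a _ ha =>
    have h := inv_mem ha
    have e : (sp a (fun _ => 1) : GLn)⁻¹ = sp a⁻¹ (fun _ => 1) := inv_eq_of_mul_eq_one_right (by
      rw [sp_mul, mul_inv_cancel]; simp [sp_one])
    rwa [e] at h

theorem mem_pair {a b : Fin n} (hab : a ≠ b) : (dg {a, b} : GLn) ∈ H := by
  have h := O.mon (Equiv.swap a b) (sgn F {a}) (sg_sq {a})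
  rw [sp_mul, Equiv.swap_mul_self] at h
  rw [dg]
  convert h using 2
  funext i
  rcases eq_or_ne i a with rfl | ha
  · simp [sgn, Ne.symm hab]
  rcases eq_or_ne i b with rfl | hb
  · simp [sgn, ha]
  · simp [sgn, ha, hb, Equiv.swap_apply_of_ne_of_ne ha hb]

theorem mem_dg : ∀ {S : Finset (Fin n)}, Even S.card → (dg S : GLn) ∈ H := by
  intro S
  induction S using Finset.strongInduction with
  | H S ih =>
    intro hS
    rcases Nat.lt_or_ge S.card 2 with h | h
    · obtain rfl : S = ∅ := Finset.card_eq_zero.1 (by obtain ⟨k, hk⟩ := hS; omega)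
      rw [dg_empty]; exact one_mem H
    · obtain ⟨a, ha, b, hb, hab⟩ := Finset.one_lt_card.1 h
      have hsub : ({a, b} : Finset (Fin n)) ⊆ S := by simp [Finset.insert_subset_iff, ha, hb]
      have hcard : ({a, b} : Finset (Fin n)).card = 2 := Finset.card_pair hab
      have h1 := ih (S \ {a, b}) (Finset.sdiff_ssubset hsub ⟨a, by simp⟩) (by
        rw [Finset.card_sdiff_of_subset hsub, hcard]
        exact (Nat.even_sub h).2 (iff_of_true hS even_two))
      have h2 := mul_mem h1 (O.mem_pair hab)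
      rwa [dg_mul, show symmDiff (S \ {a, b}) {a, b} = S by
        ext i
        simp only [Finset.mem_symmDiff, Finset.mem_sdiff]
        constructor
        · rintro (⟨⟨h, -⟩, -⟩ | ⟨h, -⟩)
          exacts [h, hsub h]
        · exact fun h => (em (i ∈ ({a, b} : Finset (Fin n)))).elim (fun h' => Or.inr ⟨h', fun e => e.2 h'⟩)
            fun h' => Or.inl ⟨⟨h, h'⟩, h'⟩] at h2

theorem even_dg {S : Finset (Fin n)} (h : (dg S : GLn) ∈ H) : Even S.card := by
  have h1 := O.det _ h
  rw [dg, sp_val, det_spMat, map_one] at h1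
  have h2 : ∏ i, (sgn F S i : F) = (-1 : F) ^ S.card := by
    rw [← Finset.prod_const, ← Finset.prod_subset S.subset_univ fun i _ hi => by simp [sgn, hi]]
    exact Finset.prod_congr rfl fun i hi => by simp [sgn, hi]
  rw [h2] at h1
  by_contra hodd
  rw [Nat.not_even_iff_odd] at hodd
  rw [hodd.neg_one_pow] at h1
  exact O.two (by push_cast at h1; linear_combination -h1)

/-- Signed permutations of determinant one with pure even permutation part. -/
theorem mem_sp {π : Equiv.Perm (Fin n)} (hπ : Equiv.Perm.sign π = 1) {S : Finset (Fin n)} (hS : Even S.card) :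
    (sp π (sgn F S) : GLn) ∈ H := by
  have h := mul_mem (O.mem_pure hπ) (O.mem_dg hS)
  rw [dg, sp_mul, mul_one] at h
  simpa using h

theorem polar_eq {g : GLn} (hg : g ∈ H) (x y : V) :
    ∑ i, ((g : Mn) *ᵥ x) i * ((g : Mn) *ᵥ y) i = ∑ i, x i * y i := by
  have h := OrthAut.isometry_polar (O.iso g hg) x y
  rw [polar_qs, polar_qs] at h
  exact mul_left_cancel₀ O.two h

end Fr

end Cfsg.Agent.Classical.OrthFrame
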