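import Cfsg.Agent.Lib.Classical.MaxFrameEngine

/-!
No monomial element off the diagonal is conjugate to a sign change, and so everything is monomial.
-/

set_option autoImplicit false
set_option linter.unusedSectionVars false
set_option quotPrecheck false

namespace Cfsg.Agent.Classical.OrthFrame

open Matrix Module MaxTv

variable {F : Type*} [Field F] {n : ℕ}

local notation "V" => (Fin n → F)
local notation "Mn" => Matrix (Fin n) (Fin n) F
local notation "GLn" => GL (Fin n) F

/-- A monomial element off the diagonal is conjugate to an allowed sign change. -/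
structure Bad (H : Subgroup (GL (Fin n) F)) (g : GL (Fin n) F) (S : Finset (Fin n)) (π : Equiv.Perm (Fin n))
    (ε : Fin n → Fˣ) : Prop where
  mem : g ∈ H
  allowed : Allowed n S
  eq : g * dg S * g⁻¹ = sp π ε
  ne : π ≠ 1

/-- The points fixed by `π`. -/
def moved (π : Equiv.Perm (Fin n)) : Finset (Fin n) := Finset.univ.filter fun i => π i ≠ i

/-- One point of each pair. -/
def pairs (π : Equiv.Perm (Fin n)) : Finset (Fin n) := Finset.univ.filter fun i => i < π i

theorem card_moved {π : Equiv.Perm (Fin n)} (h : π * π = 1) : (moved π).card = 2 * (pairs π).card := by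
  have hii : ∀ x, π (π x) = x := fun x => Equiv.congr_fun h x
  have hsplit : moved π = pairs π ∪ (pairs π).map π.toEmbedding := by
    ext i
    simp only [moved, pairs, Finset.mem_union, Finset.mem_filter, Finset.mem_univ, true_and, Finset.mem_map,
      Equiv.coe_toEmbedding]
    constructor
    · intro hi
      rcases lt_or_gt_of_ne hi with h' | h'
      · exact Or.inr ⟨π i, by rw [hii]; exact h', hii i⟩
      · exact Or.inl h'
    · rintro (hi | ⟨j, hj, rfl⟩)
      · exact ne_of_gt hi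
      · rw [hii]; exact ne_of_lt hj
  have hdisj : Disjoint (pairs π) ((pairs π).map π.toEmbedding) := Finset.disjoint_left.2 fun i hi hi' => by
    simp only [pairs, Finset.mem_filter, Finset.mem_univ, true_and, Finset.mem_map, Equiv.coe_toEmbedding] at hi hi'
    obtain ⟨j, hj, rfl⟩ := hi'
    rw [hii] at hi
    exact lt_asymm hj hi
  rw [hsplit, Finset.card_union_of_disjoint hdisj, Finset.card_map, two_mul]

/-- The reflected frame vectors of an involutory signed permutation. -/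
def pairVec (π : Equiv.Perm (Fin n)) (ε : Fin n → Fˣ) (s : F) (i : Fin n) : Fin n → F :=
  if π i = i then Pi.single i 1 else Pi.single i 1 + s • Pi.single (π i) (ε i : F)

theorem linearIndependent_pairVec (π : Equiv.Perm (Fin n)) (ε : Fin n → Fˣ) (s : F) (R : Finset (Fin n))
    (hR : ∀ i ∈ R, π i ∈ R → π i = i) (hinv : π * π = 1) :
    LinearIndependent F fun i : R => pairVec π ε s (i : Fin n) := by
  have hii : ∀ x, π (π x) = x := fun x => Equiv.congr_fun hinv x
  refine Fintype.linearIndependent_iff.2 fun c hc i => ?_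
  have h := congrFun hc (i : Fin n)
  rw [Finset.sum_apply, Finset.sum_eq_single i (fun j _ hji => ?_) (by simp), Pi.smul_apply, Pi.zero_apply] at h
  · have h1 : pairVec π ε s (i : Fin n) (i : Fin n) = 1 := by
      unfold pairVec
      split_ifs with e
      · simp
      · rw [Pi.add_apply, Pi.smul_apply, Pi.single_eq_same, Pi.single_eq_of_ne (Ne.symm e), smul_zero, add_zero]
    rw [h1, smul_eq_mul, mul_one] at h
    exact h
  · rw [Pi.smul_apply]
    have hne : (i : Fin n) ≠ j := fun e => hji (Subtype.ext e.symm)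
    have hne' : (i : Fin n) ≠ π j := fun e => hne (by rw [e]; exact hR j j.2 (e ▸ i.2))
    unfold pairVec
    split_ifs
    · rw [Pi.single_eq_of_ne hne, smul_zero]
    · rw [Pi.add_apply, Pi.smul_apply, Pi.single_eq_of_ne hne, Pi.single_eq_of_ne hne', smul_zero, add_zero,
        smul_zero]

namespace Bad

variable {H : Subgroup (GL (Fin n) F)} {g : GL (Fin n) F} {S : Finset (Fin n)} {π : Equiv.Perm (Fin n)}
  {ε : Fin n → Fˣ} (hB : Bad H g S π ε) (O : Fr H)
include hB O

theorem mem_v : (sp π ε : GLn) ∈ H := hB.eq ▸ mul_mem (mul_mem hB.mem (O.mem_dg hB.allowed.2.1)) (inv_mem hB.mem)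

theorem sq : π * π = 1 ∧ ∀ i, ε (π i) = ε i := by
  have h : g * dg S * g⁻¹ * (g * dg S * g⁻¹) = 1 := by
    rw [show g * dg S * g⁻¹ * (g * dg S * g⁻¹) = g * (dg S * dg S) * g⁻¹ by group, dg_mul, symmDiff_self,
      Finset.bot_eq_empty, dg_empty, mul_one, mul_inv_cancel]
  rw [hB.eq, sp_mul, ← sp_one] at h
  obtain ⟨h1, h2⟩ := sp_inj h
  refine ⟨h1, fun i => ?_⟩
  have h3 : ε (π i) * ε i = 1 := congrFun h2 i
  have h4 : ε i * ε i = 1 := Units.ext (O.sq_of_mem (hB.mem_v O) i)
  exact mul_right_cancel (h3.trans h4.symm)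

theorem sp_pairVec {s : F} (hs : s * s = 1) (i : Fin n) (hfix : π i = i → (ε i : F) = s) :
    ((sp π ε : GLn) : Mn) *ᵥ pairVec π ε s i = s • pairVec π ε s i := by
  have hε := O.sq_of_mem (hB.mem_v O) i
  obtain ⟨h1, h2⟩ := hB.sq O
  have hii : ∀ x, π (π x) = x := fun x => Equiv.congr_fun h1 x
  unfold pairVec
  split_ifs with e
  · rw [sp_single, e, hfix e, ← Pi.single_smul, smul_eq_mul, mul_one]
  · rw [show Pi.single (π i) (ε i : F) = (ε i : F) • Pi.single (π i) (1 : F) by
      rw [← Pi.single_smul, smul_eq_mul, mul_one], Matrix.mulVec_add, Matrix.mulVec_smul, Matrix.mulVec_smul,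
      sp_single, sp_single, h2, hii, smul_add, smul_smul s s, hs, one_smul, add_comm]
    congr 1
    · rw [smul_smul, ← Pi.single_smul, ← Pi.single_smul]; congr 1; rw [smul_eq_mul, smul_eq_mul]; linear_combination s * hε
    · rw [← Pi.single_smul, smul_eq_mul, mul_one]

theorem pairs_le : (pairs π).card ≤ S.card := by
  classical
  have hli := linearIndependent_pairVec π ε (-1) (pairs π) (fun i hi hi' => by
    simp only [pairs, Finset.mem_filter, Finset.mem_univ, true_and] at hi hi'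
    rw [show π (π i) = i from Equiv.congr_fun (hB.sq O).1 i] at hi'
    exact absurd hi' (lt_asymm hi)) (hB.sq O).1
  have hle : Submodule.span F (Set.range fun i : pairs π => pairVec π ε (-1) (i : Fin n)) ≤
      negSp (sp π ε : GLn) := Submodule.span_le.2 (by
    rintro _ ⟨i, rfl⟩
    have hi : (i : Fin n) < π i := (Finset.mem_filter.1 i.2).2
    rw [SetLike.mem_coe, mem_negSp, hB.sp_pairVec O (by simp) _ (fun e => absurd e (ne_of_gt hi)), neg_one_smul])
  have h := Submodule.finrank_mono hle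
  rw [finrank_span_eq_card hli, Fintype.card_coe, ← hB.eq, finrank_negSp_conj, finrank_negSp_dg O.two] at h
  exact h

theorem pairs_add_le (R : Finset (Fin n)) (hR : ∀ i ∈ R, π i = i ∧ (ε i : F) = 1) :
    (pairs π).card + R.card + S.card ≤ n := by
  classical
  have hdisj : Disjoint (pairs π) R := Finset.disjoint_left.2 fun i hi hi' => by
    have := (Finset.mem_filter.1 hi).2
    rw [(hR i hi').1] at this
    exact lt_irrefl _ this
  have hli := linearIndependent_pairVec π ε 1 (pairs π ∪ R) (fun i hi hi' => by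
    rcases Finset.mem_union.1 hi with h | h
    · rcases Finset.mem_union.1 hi' with h' | h'
      · have h1 := (Finset.mem_filter.1 h).2
        have h2 := (Finset.mem_filter.1 h').2
        rw [show π (π i) = i from Equiv.congr_fun (hB.sq O).1 i] at h2
        exact absurd h2 (lt_asymm h1)
      · exact π.injective (hR _ h').1
    · exact (hR i h).1) (hB.sq O).1
  have hle : Submodule.span F (Set.range fun i : ↥(pairs π ∪ R) => pairVec π ε 1 (i : Fin n)) ≤
      posSp (sp π ε : GLn) := Submodule.span_le.2 (by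
    rintro _ ⟨⟨i, hi⟩, rfl⟩
    rw [SetLike.mem_coe, mem_posSp, hB.sp_pairVec O (one_mul 1) _ (fun e => ?_), one_smul]
    rcases Finset.mem_union.1 hi with h | h
    · exact absurd e (ne_of_gt (Finset.mem_filter.1 h).2)
    · exact (hR i h).2)
  have h := Submodule.finrank_mono hle
  rw [finrank_span_eq_card hli, Fintype.card_coe, Finset.card_union_of_disjoint hdisj, ← hB.eq, finrank_posSp_conj,
    finrank_posSp_dg O.two] at h
  have := hB.allowed.2.2.1
  omega

end Bad

/-- Sign changes commuting with the signed permutation. -/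
def cSub (π : Equiv.Perm (Fin n)) : Subgroup (GL (Fin n) F) where
  carrier := {z | ∃ U : Finset (Fin n), Even U.card ∧ (∀ i, π i ∈ U ↔ i ∈ U) ∧ z = dg U}
  one_mem' := ⟨∅, by simp, by simp, dg_empty.symm⟩
  mul_mem' := by
    rintro _ _ ⟨U, hU, hU', rfl⟩ ⟨W, hW, hW', rfl⟩
    refine ⟨symmDiff U W, ?_, fun i => by simp only [Finset.mem_symmDiff, hU', hW'], dg_mul U W⟩
    have e1 := Finset.card_sdiff_add_card_inter U W
    have e2 := Finset.card_sdiff_add_card_inter W U
    rw [Finset.inter_comm W U] at e2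
    rw [symmDiff_def, Finset.sup_eq_union, Finset.card_union_of_disjoint disjoint_sdiff_sdiff]
    rw [Nat.even_iff] at hU hW ⊢
    omega
  inv_mem' := by
    rintro _ ⟨U, hU, hU', rfl⟩
    refine ⟨U, hU, hU', inv_eq_of_mul_eq_one_right ?_⟩
    rw [dg_mul, symmDiff_self, Finset.bot_eq_empty, dg_empty]

theorem dg_inj (h2 : (2 : F) ≠ 0) {U W : Finset (Fin n)} (h : (dg U : GLn) = dg W) : U = W := by
  ext i
  have h1 := congrFun (sp_inj h).2 i
  have hne : (-1 : Fˣ) ≠ 1 := fun e => h2 (by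
    have := congrArg Units.val e
    rw [Units.val_neg, Units.val_one] at this
    linear_combination -this)
  by_cases a : i ∈ U <;> by_cases b : i ∈ W <;> simp only [sgn, a, b, if_true, if_false] at h1 ⊢
  · exact absurd h1 hne
  · exact absurd h1.symm hne

namespace Fr

variable {H : Subgroup (GL (Fin n) F)} (O : Fr H) (hn : 5 ≤ n) (h6 : n ≠ 6) (h8 : n ≠ 8) (h2 : Fix H 2)
  (h1 : n = 5 → Fix H 1)
include O hn h6 h8 h2 h1

variable {g : GL (Fin n) F} {S : Finset (Fin n)} {π : Equiv.Perm (Fin n)} {ε : Fin n → Fˣ}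

/-- The permutations induced on the other frame. -/
theorem exists_hom (hB : Bad H g S π ε) :
    ∃ ρ : ↥(cSub π : Subgroup (GL (Fin n) F)) →* Equiv.Perm (Fin n),
      (∀ z : ↥(cSub π : Subgroup (GL (Fin n) F)), ∃ δ, g⁻¹ * (z : GL (Fin n) F) * g = sp (ρ z) δ) ∧ ElemTwo ρ.range ∧
      (∀ z i, ρ z i ∈ S ↔ i ∈ S) ∧
      (∀ z : ↥(cSub π : Subgroup (GL (Fin n) F)), ρ z = 1 → ∀ U, (z : GL (Fin n) F) = dg U → ¬ Allowed n U) := by
  classical
  have hne : (-1 : Fˣ) ≠ 1 := fun e => O.two (by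
    have := congrArg Units.val e
    rw [Units.val_neg, Units.val_one] at this
    linear_combination -this)
  have hex : ∀ z : ↥(cSub π : Subgroup GLn), ∃ σ δ, g⁻¹ * (z : GLn) * g = sp σ δ ∧ ∀ i, σ i ∈ S ↔ i ∈ S := by
    rintro ⟨_, U, hU, hU', rfl⟩
    have hc : dg U * sp π ε = (sp π ε * dg U : GLn) := by
      rw [dg, sp_mul, sp_mul, one_mul, mul_one]
      congr 1
      funext i
      rw [mul_comm]
      congr 1
      simp [sgn, hU']
    obtain ⟨y, hy⟩ : ∃ y, y = g⁻¹ * dg U * g := ⟨_, rfl⟩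
    have hyH : y ∈ H := hy ▸ mul_mem (mul_mem (inv_mem hB.mem) (O.mem_dg hU)) hB.mem
    have hcy : y * dg S = dg S * y := by
      have e : dg S = g⁻¹ * sp π ε * g := by rw [← hB.eq]; group
      rw [hy, e, show g⁻¹ * dg U * g * (g⁻¹ * sp π ε * g) = g⁻¹ * (dg U * sp π ε) * g by group, hc]
      group
    obtain ⟨σ, δ, e⟩ := O.exists_sp hyH
      (O.mon_of_conj hn h6 h8 h2 h1 hyH hB.allowed (by rw [hcy, mul_inv_cancel_right]))
    refine ⟨σ, δ, by rw [← hy, e], fun i => ?_⟩
    rw [e, dg, sp_mul, sp_mul, mul_one, one_mul] at hcy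
    have h := congrFun (sp_inj hcy).2 i
    rw [mul_comm] at h
    have h' := mul_right_cancel h
    by_cases a : i ∈ S <;> by_cases b : σ i ∈ S <;> simp_all [sgn, hne.symm]
  choose σ δ hσ hσS using hex
  let ρ : ↥(cSub π : Subgroup GLn) →* Equiv.Perm (Fin n) := MonoidHom.mk' σ fun z w => by
    have h : g⁻¹ * (↑(z * w) : GLn) * g = (g⁻¹ * (z : GLn) * g) * (g⁻¹ * (w : GLn) * g) := by
      rw [Subgroup.coe_mul]; group
    rw [hσ, hσ, hσ, sp_mul] at h
    exact (sp_inj h).1
  refine ⟨ρ, fun z => ⟨δ z, hσ z⟩, ⟨fun a ha b hb => ?_, fun a ha => ?_⟩, hσS, ?_⟩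
  · obtain ⟨z, rfl⟩ := ha
    obtain ⟨w, rfl⟩ := hb
    rw [← map_mul, ← map_mul]
    congr 1
    obtain ⟨_, U, -, -, rfl⟩ := z
    obtain ⟨_, W, -, -, rfl⟩ := w
    exact Subtype.ext (by simp only [Subgroup.coe_mul, dg_mul, symmDiff_comm])
  · obtain ⟨z, rfl⟩ := ha
    rw [← map_mul, ← map_one ρ]
    congr 1
    obtain ⟨_, U, -, -, rfl⟩ := z
    exact Subtype.ext (by rw [Subgroup.coe_mul, dg_mul, symmDiff_self, Finset.bot_eq_empty, dg_empty]; rfl)
  · rintro z hz U hzU hal
    have hg := hσ z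
    rw [show σ z = 1 from hz, hzU] at hg
    have hUmem : (sp 1 (δ z) : GLn) ∈ H := by
      rw [← hg]; exact mul_mem (mul_mem (inv_mem hB.mem) (O.mem_dg hal.2.1)) hB.mem
    obtain ⟨W, hW⟩ : ∃ W, (sp 1 (δ z) : GLn) = dg W := by
      refine ⟨Finset.univ.filter fun i => δ z i = -1, ?_⟩
      rw [dg]
      congr 1
      funext i
      rcases O.unit_of_mem hUmem i with e | e <;> simp [sgn, e, hne, hne.symm]
    have hmon := O.mon_of_conj hn h6 h8 h2 h1 (inv_mem hB.mem) hal (by rw [inv_inv, hg, hW])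
    obtain ⟨τ, η, e⟩ := O.exists_sp hB.mem (inv_inv g ▸ O.mon_inv (inv_mem hB.mem) hmon)
    have h := hB.eq
    rw [e, sp_inv, dg, sp_mul, sp_mul, mul_one, mul_inv_cancel] at h
    exact hB.ne (sp_inj h).1.symm

theorem two_pow_le (hB : Bad H g S π ε) :
    2 ^ (n - (pairs π).card - 1) ≤ Nat.card ↥(cSub π : Subgroup (GL (Fin n) F)) := by
  classical
  have hinv := (hB.sq O).1
  have hii : ∀ x, π (π x) = x := fun x => Equiv.congr_fun hinv x
  obtain ⟨R, hR⟩ : ∃ R, R = Finset.univ.filter fun i => i ≤ π i := ⟨_, rfl⟩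
  have hmemR : ∀ i, i ∈ R ↔ i ≤ π i := fun i => by simp [hR]
  have hRc : R.card = n - (pairs π).card := by
    have h : Rᶜ = (pairs π).map π.toEmbedding := by
      ext i
      simp only [Finset.mem_compl, hmemR, not_le, pairs, Finset.mem_map, Finset.mem_filter, Finset.mem_univ,
        true_and, Equiv.coe_toEmbedding]
      exact ⟨fun h => ⟨π i, by rwa [hii], hii i⟩, fun ⟨j, hj, e⟩ => by rw [← e, hii]; exact hj⟩
    have h2 := congrArg Finset.card h
    rw [Finset.card_compl, Finset.card_map, Fintype.card_fin] at h2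
    have := Finset.card_le_univ R
    rw [Fintype.card_fin] at this
    omega
  obtain ⟨r, hr, hrfix⟩ : ∃ r ∈ R, (∃ i, π i = i) → π r = r := by
    by_cases h : ∃ i, π i = i
    · obtain ⟨i, hi⟩ := h
      exact ⟨i, (hmemR i).2 hi.ge, fun _ => hi⟩
    · rcases le_total (⟨0, by omega⟩ : Fin n) (π ⟨0, by omega⟩) with h' | h'
      · exact ⟨_, (hmemR _).2 h', fun h'' => absurd h'' h⟩
      · exact ⟨_, (hmemR _).2 (by rw [hii]; exact h'), fun h'' => absurd h'' h⟩
  obtain ⟨cl, hcl⟩ : ∃ cl : Finset (Fin n) → Finset (Fin n), ∀ T, cl T = T ∪ T.map π.toEmbedding :=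
    ⟨_, fun _ => rfl⟩
  have hclinv : ∀ T i, π i ∈ cl T ↔ i ∈ cl T := fun T i => by
    simp only [hcl, Finset.mem_union, Finset.mem_map, Equiv.coe_toEmbedding]
    constructor
    · rintro (h | ⟨j, hj, e⟩)
      · exact Or.inr ⟨π i, h, hii i⟩
      · exact Or.inl (π.injective e ▸ hj)
    · rintro (h | ⟨j, hj, rfl⟩)
      · exact Or.inr ⟨i, h, rfl⟩
      · exact Or.inl (by rwa [hii])
  have hclR : ∀ T, T ⊆ R → ∀ i ∈ R, i ∈ cl T ↔ i ∈ T := fun T hT i hi => by
    simp only [hcl, Finset.mem_union, Finset.mem_map, Equiv.coe_toEmbedding]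
    refine ⟨fun h => h.elim id ?_, Or.inl⟩
    rintro ⟨j, hj, rfl⟩
    have h1 := (hmemR _).1 (hT hj)
    have h2 := (hmemR _).1 hi
    rw [hii] at h2
    rwa [← le_antisymm h1 h2]
  obtain ⟨U, hU⟩ : ∃ U : Finset (Fin n) → Finset (Fin n),
      ∀ T, U T = if Even (cl T).card then cl T else insert r (cl T) := ⟨_, fun _ => rfl⟩
  have hUev : ∀ T ⊆ R.erase r, Even (U T).card := fun T hT => by
    rw [hU]
    split_ifs with h
    · exact h
    · have hrT : r ∉ cl T := fun e => Finset.notMem_erase r R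
        (hT ((hclR T (hT.trans (Finset.erase_subset _ _)) r hr).1 e))
      rw [Finset.card_insert_of_notMem hrT]
      exact (Nat.not_even_iff_odd.1 h).add_one
  have hUinv : ∀ T ⊆ R.erase r, ∀ i, π i ∈ U T ↔ i ∈ U T := fun T hT i => by
    rw [hU]
    split_ifs with h
    · exact hclinv T i
    · have hfix : π r = r := by
        refine hrfix (by_contra fun hno => h ?_)
        push Not at hno
        have hT' : Disjoint T (T.map π.toEmbedding) := Finset.disjoint_left.2 fun x hx hx' => by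
          simp only [Finset.mem_map, Equiv.coe_toEmbedding] at hx'
          obtain ⟨y, hy, rfl⟩ := hx'
          have h1 := (hmemR _).1 (Finset.mem_of_mem_erase (hT hy))
          have h2 := (hmemR _).1 (Finset.mem_of_mem_erase (hT hx))
          rw [hii] at h2
          exact hno y (le_antisymm h2 h1)
        rw [hcl, Finset.card_union_of_disjoint hT', Finset.card_map]
        exact ⟨T.card, rfl⟩
      rw [Finset.mem_insert, Finset.mem_insert, hclinv]
      refine or_congr ⟨fun e => π.injective (e.trans hfix.symm), fun e => by rw [e, hfix]⟩ Iff.rfl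
  let f : {T // T ∈ (R.erase r).powerset} → ↥(cSub π : Subgroup GLn) := fun T =>
    ⟨dg (U T.1), U T.1, hUev _ (Finset.mem_powerset.1 T.2), hUinv _ (Finset.mem_powerset.1 T.2), rfl⟩
  have hf : Function.Injective f := fun T T' e => by
    have e' := dg_inj O.two (congrArg Subtype.val e)
    have key : ∀ T, T ⊆ R.erase r → T = U T ∩ R.erase r := fun T hT => by
      ext i
      rw [Finset.mem_inter]
      constructor
      · intro hi
        refine ⟨?_, hT hi⟩
        have : i ∈ cl T := by rw [hcl]; exact Finset.mem_union_left _ hi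
        rw [hU]; split_ifs <;> simp [this]
      · rintro ⟨hi, hiR⟩
        rw [hU] at hi
        have hT' := hT.trans (Finset.erase_subset _ _)
        split_ifs at hi
        · exact (hclR T hT' i (Finset.mem_of_mem_erase hiR)).1 hi
        · rcases Finset.mem_insert.1 hi with h | h
          · exact absurd h (Finset.ne_of_mem_erase hiR)
          · exact (hclR T hT' i (Finset.mem_of_mem_erase hiR)).1 h
    exact Subtype.ext (by rw [key _ (Finset.mem_powerset.1 T.2), key _ (Finset.mem_powerset.1 T'.2), e'])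
  haveI : Finite ↥(cSub π : Subgroup GLn) := Finite.of_surjective
    (fun U : {U : Finset (Fin n) // Even U.card ∧ ∀ i, π i ∈ U ↔ i ∈ U} =>
      (⟨dg U.1, U.1, U.2.1, U.2.2, rfl⟩ : ↥(cSub π : Subgroup GLn)))
    fun ⟨_, U, h, h', e⟩ => ⟨⟨U, h, h'⟩, Subtype.ext e.symm⟩
  have h := Nat.card_le_card_of_injective f hf
  rwa [Nat.card_eq_fintype_card, Fintype.card_coe, Finset.card_powerset, Finset.card_erase_of_mem hr, hRc] at h

/-- The kernel and the bound. -/
theorem kernel_cases (hB : Bad H g S π ε) {ρ : ↥(cSub π : Subgroup (GL (Fin n) F)) →* Equiv.Perm (Fin n)}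
    (hker : ∀ z : ↥(cSub π : Subgroup (GL (Fin n) F)), ρ z = 1 → ∀ U, (z : GL (Fin n) F) = dg U → ¬ Allowed n U) :
    Nat.card ρ.ker ≤ 2 ∧ (n = 5 → Nat.card ρ.ker = 1) := by
  classical
  have key : ∀ z ∈ ρ.ker, ∀ U : Finset (Fin n), (z : GLn) = dg U → Even U.card →
      U = ∅ ∨ (U.card = n ∧ n ≠ 5) ∨ (U.card + 1 = n ∧ n ≠ 5) := fun z hz U hU hev => by
    have hna := hker z (MonoidHom.mem_ker.1 hz) U hU
    have hle := Finset.card_le_univ U
    rw [Fintype.card_fin] at hle
    rcases Nat.eq_zero_or_pos U.card with h | h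
    · exact Or.inl (Finset.card_eq_zero.1 h)
    simp only [Allowed, h, hev, true_and, not_and_or, not_or, not_lt, not_le] at hna
    obtain ⟨k, hk⟩ := hev
    omega
  have hone : ∀ z : ↥(cSub π : Subgroup GLn), (z : GLn) = dg ∅ → z = 1 := fun z h =>
    Subtype.ext (h.trans dg_empty)
  refine ⟨?_, fun h5 => ?_⟩
  · by_contra hlt
    push Not at hlt
    haveI : Finite ρ.ker := Nat.finite_of_card_ne_zero (by omega)
    haveI : Fintype ρ.ker := Fintype.ofFinite _
    rw [Nat.card_eq_fintype_card, Fintype.two_lt_card_iff] at hlt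
    obtain ⟨a, b, c, hab, hac, hbc⟩ := hlt
    obtain ⟨x, y, hxy, hx1, hy1⟩ : ∃ x y : ρ.ker, x ≠ y ∧ x ≠ 1 ∧ y ≠ 1 := by
      by_cases ha : a = 1
      · exact ⟨b, c, hbc, fun e => hab (ha.trans e.symm), fun e => hac (ha.trans e.symm)⟩
      by_cases hb : b = 1
      · exact ⟨a, c, hac, ha, fun e => hbc (hb.trans e.symm)⟩
      exact ⟨a, b, hab, ha, hb⟩
    obtain ⟨U, hUe, hUi, hU⟩ := x.1.2
    obtain ⟨W, hWe, hWi, hW⟩ := y.1.2
    have hUne : U ≠ ∅ := fun e => hx1 (Subtype.ext (hone _ (e ▸ hU)))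
    have hWne : W ≠ ∅ := fun e => hy1 (Subtype.ext (hone _ (e ▸ hW)))
    have hUW : U ≠ W := fun e => hxy (Subtype.ext (Subtype.ext (by rw [hU, hW, e])))
    have hs : Even (symmDiff U W).card := by
      have h := ((cSub π : Subgroup GLn).mul_mem x.1.2 y.1.2)
      rw [hU, hW, dg_mul] at h
      obtain ⟨U', h', -, e'⟩ := h
      rwa [dg_inj O.two e']
    have hmem : ((x * y : ρ.ker) : ↥(cSub π : Subgroup GLn)).1 = dg (symmDiff U W) := by
      simp only [Subgroup.coe_mul, hU, hW, dg_mul]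
    have h3 := key _ (x * y).2 _ hmem hs
    have hk1 := (key _ x.2 U hU hUe).resolve_left hUne
    have hk2 := (key _ y.2 W hW hWe).resolve_left hWne
    obtain ⟨u, hu⟩ := hUe
    obtain ⟨w, hw⟩ := hWe
    have c1 : Uᶜ.card = n - U.card := by rw [Finset.card_compl, Fintype.card_fin]
    have c2 : Wᶜ.card = n - W.card := by rw [Finset.card_compl, Fintype.card_fin]
    have hsub : symmDiff U W ⊆ Uᶜ ∪ Wᶜ := fun i hi => by
      rw [Finset.mem_symmDiff] at hi
      rw [Finset.mem_union, Finset.mem_compl, Finset.mem_compl]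
      tauto
    have hle := (Finset.card_le_card hsub).trans (Finset.card_union_le _ _)
    rcases h3 with h3 | h3 | h3
    · exact hUW (symmDiff_eq_bot.1 h3)
    all_goals omega
  · refine le_antisymm ?_ (Nat.one_le_iff_ne_zero.2 fun h => ?_)
    · by_contra hlt
      push Not at hlt
      haveI : Finite ρ.ker := Nat.finite_of_card_ne_zero (by omega)
      haveI : Fintype ρ.ker := Fintype.ofFinite _
      rw [Nat.card_eq_fintype_card] at hlt
      obtain ⟨x, hx⟩ := Fintype.exists_ne_of_one_lt_card hlt 1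
      obtain ⟨U, hUe, hUi, hU⟩ := x.1.2
      rcases key _ x.2 U hU hUe with h | h | h
      · exact hx (Subtype.ext (hone _ (h ▸ hU)))
      all_goals exact h.2 h5
    · rcases Nat.card_eq_zero.1 h with h | h
      · exact h.false (1 : ρ.ker)
      · haveI : Finite ↥(cSub π : Subgroup GLn) := Finite.of_surjective
          (fun U : {U : Finset (Fin n) // Even U.card ∧ ∀ i, π i ∈ U ↔ i ∈ U} =>
            (⟨dg U.1, U.1, U.2.1, U.2.2, rfl⟩ : ↥(cSub π : Subgroup GLn)))
          fun ⟨_, U, h, h', e⟩ => ⟨⟨U, h, h'⟩, Subtype.ext e.symm⟩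
        exact not_finite ρ.ker

/-- The order bound. -/
theorem bound (hB : Bad H g S π ε) :
    2 * (n - (pairs π).card - 1) ≤ n + 2 ∧ (n = 5 → 2 * (n - (pairs π).card - 1) ≤ n) := by
  obtain ⟨ρ, hρ, hP, hS, hker⟩ := O.exists_hom hn h6 h8 h2 h1 hB
  obtain ⟨hK, hK5⟩ := O.kernel_cases hn h6 h8 h2 h1 hB hker
  have hC := O.two_pow_le hn h6 h8 h2 h1 hB
  rw [← ρ.ker.index_mul_card, Subgroup.index_ker] at hC
  have hb := hP.card_sq_le Finset.univ fun _ _ x hx => absurd (Finset.mem_univ x) hx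
  rw [Finset.card_univ, Fintype.card_fin] at hb
  obtain ⟨e, he⟩ : ∃ e, e = n - (pairs π).card - 1 := ⟨_, rfl⟩
  rw [← he] at hC ⊢
  have hsq := Nat.mul_le_mul hC hC
  rw [← pow_add, mul_mul_mul_comm] at hsq
  refine ⟨?_, fun h5 => ?_⟩
  · have h : 2 ^ (e + e) ≤ 2 ^ (n + 2) := by
      rw [pow_add _ n]
      exact hsq.trans (Nat.mul_le_mul hb (show _ ≤ 2 ^ 2 from Nat.mul_le_mul hK hK))
    have := (Nat.pow_le_pow_iff_right (by norm_num)).1 h
    omega
  · rw [hK5 h5, mul_one, mul_one] at hsq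
    have := (Nat.pow_le_pow_iff_right (by norm_num)).1 (hsq.trans hb)
    omega

/-- A further bad element, with its moved points in a given set. -/
theorem descend (hB : Bad H g S π ε) {ρ : ↥(cSub π : Subgroup (GL (Fin n) F)) →* Equiv.Perm (Fin n)}
    (hρ : ∀ z : ↥(cSub π : Subgroup (GL (Fin n) F)), ∃ δ, g⁻¹ * (z : GL (Fin n) F) * g = sp (ρ z) δ) (hP : ElemTwo ρ.range)
    (hker : ∀ z : ↥(cSub π : Subgroup (GL (Fin n) F)), ρ z = 1 → ∀ U, (z : GL (Fin n) F) = dg U → ¬ Allowed n U)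
    (T : Finset (Fin n)) (hT : ∀ z, ∀ x ∈ T, ρ z x ∈ T)
    (hcond : T.card + 2 < 2 * (n - (pairs π).card - 1) ∨
      (Nat.card ρ.ker = 1 ∧ n = 5 ∧ T.card < 2 * (n - (pairs π).card - 1))) :
    ∃ z : ↥(cSub π : Subgroup (GL (Fin n) F)), ∃ U σ δ, (z : GL (Fin n) F) = dg U ∧ Bad H g⁻¹ U σ δ ∧ σ = ρ z ∧ ∀ i ∈ T, σ i = i := by
  classical
  haveI hfin : Finite ↥(cSub π : Subgroup GLn) := Finite.of_surjective
    (fun U : {U : Finset (Fin n) // Even U.card ∧ ∀ i, π i ∈ U ↔ i ∈ U} =>
      (⟨dg U.1, U.1, U.2.1, U.2.2, rfl⟩ : ↥(cSub π : Subgroup GLn)))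
    fun ⟨_, U, h, h', e⟩ => ⟨⟨U, h, h'⟩, Subtype.ext e.symm⟩
  obtain ⟨hK, hK5⟩ := O.kernel_cases hn h6 h8 h2 h1 hB hker
  have hC := O.two_pow_le hn h6 h8 h2 h1 hB
  let CT : Subgroup ↥(cSub π : Subgroup GLn) :=
    { carrier := {z | ∀ x ∈ T, ρ z x = x}
      one_mem' := fun x _ => by simp
      mul_mem' := fun {a b} ha hb x hx => by rw [map_mul, Equiv.Perm.mul_apply, hb x hx, ha x hx]
      inv_mem' := fun {a} ha x hx => by rw [map_inv, Equiv.Perm.inv_eq_iff_eq, ha x hx] }
  have hle : ρ.ker ≤ CT := fun z hz x _ => by rw [MonoidHom.mem_ker.1 hz]; rfl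
  have hfix := hP.card_fixing T (fun p hp x hx => by obtain ⟨z, rfl⟩ := hp; exact hT z x hx)
  have hpt : Nat.card {p // p ∈ ρ.range ∧ ∀ x ∈ T, p x = x} * Nat.card ρ.ker = Nat.card CT := by
    let f : CT →* Equiv.Perm (Fin n) := ρ.comp CT.subtype
    have h1 : Nat.card f.range = Nat.card {p // p ∈ ρ.range ∧ ∀ x ∈ T, p x = x} :=
      Nat.card_congr (Equiv.subtypeEquivRight fun p => ⟨fun ⟨z, hz⟩ => hz ▸ ⟨⟨z.1, rfl⟩, z.2⟩,
        fun ⟨⟨z, hz⟩, hp⟩ => ⟨⟨z, fun x hx => by rw [hz]; exact hp x hx⟩, hz⟩⟩)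
    have h2 : Nat.card f.ker = Nat.card ρ.ker :=
      Nat.card_congr
        { toFun := fun z => ⟨z.1.1, z.2⟩
          invFun := fun z => ⟨⟨z.1, hle z.2⟩, z.2⟩
          left_inv := fun z => rfl
          right_inv := fun z => rfl }
    rw [← h1, ← h2, ← Subgroup.index_ker, Subgroup.index_mul_card]
  rw [← ρ.ker.index_mul_card, Subgroup.index_ker] at hC
  obtain ⟨e, he⟩ : ∃ e, e = n - (pairs π).card - 1 := ⟨_, rfl⟩
  rw [← he] at hC hcond
  -- the part fixing `T` is large
  have hbig : 2 ^ (e + e) ≤ 2 ^ T.card * (Nat.card CT * Nat.card CT) := by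
    rw [pow_add]
    refine (Nat.mul_le_mul hC hC).trans ?_
    rw [← hpt]
    calc _ = Nat.card ρ.range * Nat.card ρ.range * (Nat.card ρ.ker * Nat.card ρ.ker) := by ring
      _ ≤ _ := Nat.mul_le_mul_right _ hfix
      _ = _ := by ring
  suffices hgood : ∃ z ∈ CT, ρ z ≠ 1 ∧ ∃ U, (z : GLn) = dg U ∧ Allowed n U by
    obtain ⟨z, hz, hz1, U, hU, hal⟩ := hgood
    obtain ⟨δ, hδ⟩ := hρ z
    exact ⟨z, U, ρ z, δ, hU, ⟨inv_mem hB.mem, hal, by rw [inv_inv, ← hU, hδ], hz1⟩, rfl, hz⟩
  have hsub : (ρ.ker : Set ↥(cSub π : Subgroup GLn)) ⊆ CT := hle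
  rcases hcond with hcond | ⟨hK1, h5, hcond⟩
  · have h3 : 3 ≤ Nat.card CT := by
      by_contra hlt
      push Not at hlt
      have h := hbig.trans (Nat.mul_le_mul_left _ (Nat.mul_le_mul (Nat.le_of_lt_succ hlt) (Nat.le_of_lt_succ hlt)))
      rw [show 2 * 2 = 2 ^ 2 from rfl, ← pow_add] at h
      have := (Nat.pow_le_pow_iff_right (by norm_num)).1 h
      omega
    obtain ⟨x, hx, y, hy, hxy⟩ : ∃ x ∈ CT, ∃ y ∈ CT, x ≠ y ∧ x ∉ ρ.ker ∧ y ∉ ρ.ker := by
      have h4 : Nat.card ρ.ker + 2 ≤ Nat.card CT := by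
        have hdvd := Subgroup.card_dvd_of_le hle
        rcases Nat.lt_or_ge (Nat.card ρ.ker) 2 with hk | hk
        · omega
        · have hk2 : Nat.card ρ.ker = 2 := by omega
          rw [hk2] at hdvd ⊢
          omega
      have h5 : 1 < ((CT : Set ↥(cSub π : Subgroup GLn)) \ ρ.ker).ncard := by
        rw [Set.ncard_sdiff hsub, ← Nat.card_coe_set_eq, ← Nat.card_coe_set_eq]
        show 1 < Nat.card CT - Nat.card ρ.ker
        omega
      obtain ⟨x, hx, y, hy, hne⟩ := (Set.one_lt_ncard (hs := Set.toFinite _)).1 h5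
      exact ⟨x, hx.1, y, hy.1, hne, hx.2, hy.2⟩
    obtain ⟨hne, hxk, hyk⟩ := hxy
    obtain ⟨U, hUe, -, hU⟩ := x.2
    obtain ⟨W, hWe, -, hW⟩ := y.2
    by_cases hUa : Allowed n U
    · exact ⟨x, hx, hxk, U, hU, hUa⟩
    by_cases hWa : Allowed n W
    · exact ⟨y, hy, hyk, W, hW, hWa⟩
    have hUW : U ≠ W := fun h => hne (Subtype.ext (by rw [hU, hW, h]))
    have huniv : ∀ (z : ↥(cSub π : Subgroup GLn)) U, (z : GLn) = dg U → ρ z ≠ 1 → U ≠ Finset.univ := by
      intro z U hU hz e
      subst e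
      obtain ⟨δ, hδ⟩ := hρ z
      have hc : g⁻¹ * dg Finset.univ * g = (dg Finset.univ : GLn) := by
        have e : ((dg Finset.univ : GLn) : Mn) = -1 := Matrix.ext_iff_mulVec.2 fun v => funext fun k => by
          rw [dg_mulVec, if_pos (Finset.mem_univ k), Matrix.neg_mulVec, Matrix.one_mulVec, Pi.neg_apply]
        refine Units.ext ?_
        rw [Units.val_mul, Units.val_mul, e, mul_neg, mul_one, neg_mul, ← Units.val_mul, inv_mul_cancel, Units.val_one]
      rw [hU, hc, dg] at hδ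
      exact hz (sp_inj hδ).1.symm
    have key : ∀ (z : ↥(cSub π : Subgroup GLn)) U, (z : GLn) = dg U → Even U.card → ρ z ≠ 1 → ¬ Allowed n U →
        U.card + 1 = n ∧ n ≠ 5 := fun z U hU hev hz hna => by
      have hle := Finset.card_le_univ U
      rw [Fintype.card_fin] at hle
      rcases Nat.eq_zero_or_pos U.card with h | h
      · refine absurd ?_ hz
        rw [show z = 1 from Subtype.ext (by rw [hU, Finset.card_eq_zero.1 h, dg_empty]; rfl), map_one]
      have hu : U.card ≠ n := fun e => huniv z U hU hz (Finset.eq_univ_of_card U (by rw [Fintype.card_fin]; exact e))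
      simp only [Allowed, h, hev, true_and, not_and_or, not_or, not_lt, not_le] at hna
      obtain ⟨k, hk⟩ := hev
      omega
    have k1 := key x U hU hUe hxk hUa
    have k2 := key y W hW hWe hyk hWa
    obtain ⟨a, ha⟩ := Finset.card_eq_one.1 (show (Uᶜ).card = 1 by rw [Finset.card_compl, Fintype.card_fin]; omega)
    obtain ⟨b, hb⟩ := Finset.card_eq_one.1 (show (Wᶜ).card = 1 by rw [Finset.card_compl, Fintype.card_fin]; omega)
    have hab : a ≠ b := fun h => hUW (compl_injective (by rw [ha, hb, h]))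
    have hsd : symmDiff U W = {a, b} := by
      ext i
      have e1 : i ∈ U ↔ i ≠ a := by rw [← not_iff_not, ← Finset.mem_compl, ha]; simp
      have e2 : i ∈ W ↔ i ≠ b := by rw [← not_iff_not, ← Finset.mem_compl, hb]; simp
      simp only [Finset.mem_symmDiff, e1, e2, Finset.mem_insert, Finset.mem_singleton]
      constructor
      · rintro (⟨-, h⟩ | ⟨-, h⟩) <;> tauto
      · rintro (rfl | rfl)
        · exact Or.inr ⟨hab, fun h => h rfl⟩
        · exact Or.inl ⟨Ne.symm hab, fun h => h rfl⟩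
    have hxy' : ((x * y : ↥(cSub π : Subgroup GLn)) : GLn) = dg {a, b} := by
      rw [Subgroup.coe_mul, hU, hW, dg_mul, hsd]
    have hal : Allowed n {a, b} := by
      rw [Allowed, Finset.card_pair hab]
      exact ⟨by norm_num, even_two, by omega, Or.inl (by omega)⟩
    refine ⟨x * y, mul_mem hx hy, fun h => hker _ h _ hxy' hal, _, hxy', hal⟩
  · have h2' : 2 ≤ Nat.card CT := by
      by_contra hlt
      push Not at hlt
      have h := hbig.trans (Nat.mul_le_mul_left _ (Nat.mul_le_mul (Nat.le_of_lt_succ hlt) (Nat.le_of_lt_succ hlt)))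
      rw [mul_one, mul_one] at h
      have := (Nat.pow_le_pow_iff_right (by norm_num)).1 h
      omega
    haveI : Nontrivial CT := Finite.one_lt_card_iff_nontrivial.1 h2'
    obtain ⟨z, hz⟩ := exists_ne (1 : CT)
    haveI : Subsingleton ρ.ker := (Nat.card_eq_one_iff_unique.1 hK1).1
    have hz1 : ρ (z : ↥(cSub π : Subgroup GLn)) ≠ 1 := fun h => by
      have e : (⟨z.1, MonoidHom.mem_ker.2 h⟩ : ρ.ker) = 1 := Subsingleton.elim _ _
      have e' : z.1 = 1 := congrArg (fun w : ρ.ker => (w : ↥(cSub π : Subgroup GLn))) e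
      exact hz (Subtype.ext e')
    obtain ⟨U, hUe, -, hU⟩ := (z : ↥(cSub π : Subgroup GLn)).2
    refine ⟨z, z.2, hz1, U, hU, ?_⟩
    rcases Nat.eq_zero_or_pos U.card with h | h
    · refine absurd ?_ hz1
      rw [show (z : ↥(cSub π : Subgroup GLn)) = 1 from Subtype.ext (by rw [hU, Finset.card_eq_zero.1 h, dg_empty]; rfl),
        map_one]
    have := Finset.card_le_univ U
    rw [Fintype.card_fin] at this
    obtain ⟨k, hk⟩ := id hUe
    exact ⟨h, hUe, by omega, Or.inr h5⟩

end Fr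

end Cfsg.Agent.Classical.OrthFrame
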