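import Cfsg.Agent.Lib.Classical.MaxFrameAllMon

/-!
Embedding smaller frames, and the climb from Siegel elements at short singular vectors to the whole of `Ω`.
-/

set_option autoImplicit false
set_option linter.unusedSectionVars false
set_option linter.style.haveILetI false
set_option quotPrecheck false

namespace Cfsg.Agent.Classical.OrthFrame

open Matrix Module MaxTv OrthAut

variable {F : Type*} [Field F] {n m : ℕ}

local notation "GLn" => GL (Fin n) F
local notation "GLm" => GL (Fin m) F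

/-- The support of a vector. -/
noncomputable def supp (x : Fin n → F) : Finset (Fin n) := (Set.toFinite {i | x i ≠ 0}).toFinset

theorem mem_supp {x : Fin n → F} {i : Fin n} : i ∈ supp x ↔ x i ≠ 0 := by simp [supp]

/-- All Siegel elements at short singular vectors. -/
def Concl (H : Subgroup (GL (Fin n) F)) : Prop :=
  ∀ s, qs F n s = 0 → (supp s).card ≤ 3 → Full (qs F n) H s

variable (F) in
/-- The embedding matrix. -/
def pMat (σ : Fin m → Fin n) : Matrix (Fin n) (Fin m) F := Matrix.of fun k i => if k = σ i then 1 else 0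

variable {σ : Fin m → Fin n}

theorem pMat_mulVec_apply (hσ : Function.Injective σ) (x : Fin m → F) (i : Fin m) :
    (pMat F σ *ᵥ x) (σ i) = x i := by
  rw [Matrix.mulVec, dotProduct, Finset.sum_eq_single i (fun j _ hj => by
    rw [pMat, Matrix.of_apply, if_neg (fun e => hj (hσ e).symm), zero_mul]) (by simp)]
  simp [pMat]

theorem pMat_mulVec_of_notMem (x : Fin m → F) {k : Fin n} (hk : k ∉ Set.range σ) :
    (pMat F σ *ᵥ x) k = 0 := by
  rw [Matrix.mulVec, dotProduct]
  exact Finset.sum_eq_zero fun j _ => by simp [pMat, show k ≠ σ j from fun e => hk ⟨j, e.symm⟩]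

theorem pMatT_mulVec (y : Fin n → F) : (pMat F σ)ᵀ *ᵥ y = y ∘ σ := funext fun i => by
  rw [Matrix.mulVec, dotProduct, Finset.sum_eq_single (σ i) (fun j _ hj => by simp [pMat, hj]) (by simp)]
  simp [pMat]

theorem pMatT_mul (hσ : Function.Injective σ) : (pMat F σ)ᵀ * pMat F σ = 1 :=
  Matrix.ext_iff_mulVec.2 fun x => funext fun i => by
    rw [← Matrix.mulVec_mulVec, pMatT_mulVec, Matrix.one_mulVec, Function.comp_apply, pMat_mulVec_apply hσ]

/-- The extension of a matrix by the identity. -/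
def lMat (σ : Fin m → Fin n) (g : Matrix (Fin m) (Fin m) F) : Matrix (Fin n) (Fin n) F :=
  1 + pMat F σ * (g - 1) * (pMat F σ)ᵀ

theorem lMat_mul (hσ : Function.Injective σ) (g h : Matrix (Fin m) (Fin m) F) :
    lMat σ g * lMat σ h = lMat σ (g * h) := by
  have e : g * h - 1 = (g - 1) + (h - 1) + (g - 1) * (h - 1) := by noncomm_ring
  simp only [lMat, e, Matrix.mul_add, Matrix.add_mul, Matrix.mul_one, Matrix.one_mul]
  rw [show pMat F σ * (g - 1) * (pMat F σ)ᵀ * (pMat F σ * (h - 1) * (pMat F σ)ᵀ) =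
      pMat F σ * ((g - 1) * (h - 1)) * (pMat F σ)ᵀ by
    simp only [Matrix.mul_assoc]
    rw [← Matrix.mul_assoc (pMat F σ)ᵀ (pMat F σ), pMatT_mul hσ, Matrix.one_mul]]
  abel

theorem lMat_one : lMat σ (1 : Matrix (Fin m) (Fin m) F) = 1 := by simp [lMat]

theorem det_lMat (hσ : Function.Injective σ) (g : Matrix (Fin m) (Fin m) F) : (lMat σ g).det = g.det := by
  rw [lMat, Matrix.mul_assoc, Matrix.det_one_add_mul_comm, Matrix.mul_assoc, pMatT_mul hσ, Matrix.mul_one,
    add_sub_cancel]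

/-- The extension by the identity on invertible matrices. -/
def liftGL (hσ : Function.Injective σ) : GL (Fin m) F →* GL (Fin n) F where
  toFun g := ⟨lMat σ g, lMat σ (g⁻¹ : GL (Fin m) F), by rw [lMat_mul hσ, g.mul_inv, lMat_one],
    by rw [lMat_mul hσ, g.inv_mul, lMat_one]⟩
  map_one' := Units.ext lMat_one
  map_mul' g h := Units.ext (lMat_mul hσ _ _).symm

theorem lMat_mulVec (g : Matrix (Fin m) (Fin m) F) (y : Fin n → F) :
    lMat σ g *ᵥ y = y + pMat F σ *ᵥ (g *ᵥ (y ∘ σ) - y ∘ σ) := by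
  rw [lMat, Matrix.add_mulVec, Matrix.one_mulVec, ← Matrix.mulVec_mulVec, pMatT_mulVec, ← Matrix.mulVec_mulVec,
    Matrix.sub_mulVec, Matrix.one_mulVec]

theorem lMat_apply_range (hσ : Function.Injective σ) (g : Matrix (Fin m) (Fin m) F) (y : Fin n → F) (i : Fin m) :
    (lMat σ g *ᵥ y) (σ i) = (g *ᵥ (y ∘ σ)) i := by
  rw [lMat_mulVec, Pi.add_apply, pMat_mulVec_apply hσ, Pi.sub_apply, Function.comp_apply, add_sub_cancel]

theorem lMat_apply_out (g : Matrix (Fin m) (Fin m) F) (y : Fin n → F) {k : Fin n} (hk : k ∉ Set.range σ) :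
    (lMat σ g *ᵥ y) k = y k := by
  rw [lMat_mulVec, Pi.add_apply, pMat_mulVec_of_notMem _ hk, add_zero]

theorem pMat_comp (hσ : Function.Injective σ) (x : Fin m → F) : (pMat F σ *ᵥ x) ∘ σ = x :=
  funext fun i => pMat_mulVec_apply hσ x i

theorem lMat_pMat (hσ : Function.Injective σ) (g : Matrix (Fin m) (Fin m) F) (x : Fin m → F) :
    lMat σ g *ᵥ (pMat F σ *ᵥ x) = pMat F σ *ᵥ (g *ᵥ x) := by
  rw [lMat_mulVec, pMat_comp hσ, ← Matrix.mulVec_add, add_sub_cancel]

theorem sum_mul_pMat (hσ : Function.Injective σ) (x : Fin m → F) (y : Fin n → F) :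
    ∑ k, (pMat F σ *ᵥ x) k * y k = ∑ i, x i * y (σ i) := by
  refine (Finset.sum_subset (Finset.subset_univ (Finset.univ.image σ)) fun k _ hk => ?_).symm.trans ?_
  · rw [pMat_mulVec_of_notMem x (fun ⟨i, e⟩ => hk (by simp [← e])), zero_mul]
  · rw [Finset.sum_image fun a _ b _ h => hσ h]
    exact Finset.sum_congr rfl fun i _ => by rw [pMat_mulVec_apply hσ]

theorem qs_pMat (hσ : Function.Injective σ) (x : Fin m → F) : qs F n (pMat F σ *ᵥ x) = qs F m x := by
  rw [qs_apply, qs_apply, sum_mul_pMat hσ]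
  exact Finset.sum_congr rfl fun i _ => by rw [pMat_mulVec_apply hσ]

theorem polar_pMat (hσ : Function.Injective σ) (x : Fin m → F) (y : Fin n → F) :
    QuadraticMap.polar ⇑(qs F n) (pMat F σ *ᵥ x) y = QuadraticMap.polar ⇑(qs F m) x (y ∘ σ) := by
  rw [polar_qs, polar_qs, sum_mul_pMat hσ]
  rfl

theorem lMat_eMat (hσ : Function.Injective σ) (a b : Fin m → F) :
    lMat σ (eMat (qs F m) a b) = eMat (qs F n) (pMat F σ *ᵥ a) (pMat F σ *ᵥ b) := by
  refine Matrix.ext_iff_mulVec.2 fun y => ?_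
  rw [lMat_mulVec, eMat_mulVec, eMat_mulVec, polar_pMat hσ, polar_pMat hσ, qs_pMat hσ]
  simp only [Matrix.mulVec_sub, Matrix.mulVec_add, Matrix.mulVec_smul]
  module

theorem exists_lMat_sp (hσ : Function.Injective σ) (π : Equiv.Perm (Fin m)) (ε : Fin m → Fˣ)
    (hε : ∀ i, (ε i : F) * ε i = 1) :
    ∃ π' ε', lMat σ (spMat π ε) = spMat π' ε' ∧ ∀ k, ((ε' k : Fˣ) : F) * ε' k = 1 := by
  obtain ⟨π', hπ'⟩ : ∃ π', π' = π.viaEmbedding ⟨σ, hσ⟩ := ⟨_, rfl⟩
  refine ⟨π', Function.extend σ ε 1, Matrix.ext_iff_mulVec.2 fun y => funext fun k => ?_, fun k => ?_⟩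
  · rw [spMat_mulVec]
    by_cases hk : k ∈ Set.range σ
    · obtain ⟨i, rfl⟩ := hk
      rw [lMat_apply_range hσ, spMat_mulVec]
      have e : π'.symm (σ i) = σ (π.symm i) := (Equiv.symm_apply_eq π').2 (by
        rw [hπ', show σ (π.symm i) = (⟨σ, hσ⟩ : Fin m ↪ Fin n) (π.symm i) from rfl,
          Equiv.Perm.viaEmbedding_apply, Equiv.apply_symm_apply]
        rfl)
      rw [e, hσ.extend_apply, Function.comp_apply]
    · have e : π'.symm k = k := (Equiv.symm_apply_eq π').2 (by
        rw [hπ', Equiv.Perm.viaEmbedding_apply_of_notMem _ _ k hk])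
      rw [lMat_apply_out _ _ hk, e, Function.extend_apply' _ _ _ (by simpa using hk), Pi.one_apply, Units.val_one,
        one_mul]
  · by_cases hk : k ∈ Set.range σ
    · obtain ⟨i, rfl⟩ := hk; rw [hσ.extend_apply]; exact hε i
    · rw [Function.extend_apply' _ _ _ (by simpa using hk)]; simp

namespace Fr

variable {H : Subgroup (GL (Fin n) F)} (O : Fr H)
include O

theorem comap (hσ : Function.Injective σ) : Fr (H.comap (liftGL hσ)) where
  two := O.two
  iso g hg x := by
    have h := O.iso _ hg (pMat F σ *ᵥ x)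
    rw [show ((liftGL hσ g : GLn) : Matrix (Fin n) (Fin n) F) = lMat σ g from rfl, lMat_pMat hσ, qs_pMat hσ,
      qs_pMat hσ] at h
    exact h
  det g hg := by
    have h := O.det _ hg
    rwa [show ((liftGL hσ g : GLn) : Matrix (Fin n) (Fin n) F) = lMat σ g from rfl, det_lMat hσ] at h
  mon π ε hε := by
    obtain ⟨π', ε', e, hε'⟩ := exists_lMat_sp hσ π ε hε
    show liftGL hσ (sp π ε * sp π ε) ∈ H
    rw [map_mul, show (liftGL hσ (sp π ε) : GLn) = sp π' ε' from Units.ext e]
    exact O.mon π' ε' hε'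

/-- An element fixing frame vectors comes from a smaller frame. -/
theorem exists_restrict (hσ : Function.Injective σ) {g : GLn} (hg : g ∈ H)
    (hfix : ∀ k, k ∉ Set.range σ → (g : Matrix (Fin n) (Fin n) F) *ᵥ Pi.single k 1 = Pi.single k 1) :
    ∃ g₀ : GLm, g₀ ∈ H.comap (liftGL hσ) ∧ (Mon g₀ → Mon g) := by
  classical
  obtain ⟨A, hA⟩ : ∃ A, A = (pMat F σ)ᵀ * (g : Matrix (Fin n) (Fin n) F) * pMat F σ := ⟨_, rfl⟩
  have hout : ∀ (x : Fin n → F) k, k ∉ Set.range σ → ((g : Matrix (Fin n) (Fin n) F) *ᵥ x) k = x k := by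
    intro x k hk
    have h := O.polar_eq hg x (Pi.single k 1)
    rw [hfix k hk] at h
    simpa [Pi.single_apply] using h
  have heq : lMat σ A = (g : Matrix (Fin n) (Fin n) F) := Matrix.ext_iff_mulVec.2 fun y => funext fun k => by
    by_cases hk : k ∈ Set.range σ
    · obtain ⟨i, rfl⟩ := hk
      rw [lMat_apply_range hσ, hA, ← Matrix.mulVec_mulVec, ← Matrix.mulVec_mulVec, pMatT_mulVec, Function.comp_apply]
      obtain ⟨z, hz⟩ : ∃ z, z = y - pMat F σ *ᵥ (y ∘ σ) := ⟨_, rfl⟩
      have hzfix : (g : Matrix (Fin n) (Fin n) F) *ᵥ z = z := by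
        conv_lhs => rw [pi_eq_sum_univ' z]
        conv_rhs => rw [pi_eq_sum_univ' z]
        rw [Matrix.mulVec_sum]
        refine Finset.sum_congr rfl fun a _ => ?_
        by_cases ha : a ∈ Set.range σ
        · obtain ⟨j, rfl⟩ := ha
          rw [show z (σ j) = 0 by rw [hz, Pi.sub_apply, pMat_mulVec_apply hσ, Function.comp_apply, sub_self],
            zero_smul, Matrix.mulVec_zero]
        · rw [Matrix.mulVec_smul]
          congr 1
          exact hfix a ha
      have hzi : z (σ i) = 0 := by rw [hz, Pi.sub_apply, pMat_mulVec_apply hσ, Function.comp_apply, sub_self]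
      have hy : y = z + pMat F σ *ᵥ (y ∘ σ) := by rw [hz, sub_add_cancel]
      conv_rhs => rw [hy, Matrix.mulVec_add, hzfix, Pi.add_apply, hzi, zero_add]
    · rw [lMat_apply_out _ _ hk, hout y k hk]
  have hdet : A.det = 1 := by rw [← det_lMat hσ, heq, O.det g hg]
  obtain ⟨g₀, hg₀⟩ : ∃ g₀ : GLm, (g₀ : Matrix (Fin m) (Fin m) F) = A :=
    ⟨Matrix.GeneralLinearGroup.mkOfDetNeZero A (by rw [hdet]; exact one_ne_zero), rfl⟩
  have hlift : liftGL hσ g₀ = g := Units.ext (by
    show lMat σ (g₀ : Matrix (Fin m) (Fin m) F) = _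
    rw [hg₀, heq])
  refine ⟨g₀, by rw [Subgroup.mem_comap, hlift]; exact hg, fun hm => ?_⟩
  have hmem : g₀ ∈ H.comap (liftGL hσ) := by rw [Subgroup.mem_comap, hlift]; exact hg
  obtain ⟨π, ε, e, hε⟩ := eq_sp_of_mon hm ((O.comap hσ).iso g₀ hmem)
  obtain ⟨π', ε', e', -⟩ := exists_lMat_sp hσ π ε hε
  rw [← hlift, show (liftGL hσ g₀ : GLn) = sp π' ε' from Units.ext (by rw [e]; exact e')]
  exact mon_sp _ _

theorem mem_CR_of [Fintype F] (hp : (Fintype.card F).Prime) {s b : Fin n → F} (hs : qs F n s = 0)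
    (hsb : QuadraticMap.polar ⇑(qs F n) s b = 0) (h : ∃ t ∈ H, (t : Matrix (Fin n) (Fin n) F) = eMat (qs F n) s b) :
    b ∈ CR (M := H) hs := by
  refine ⟨hsb, fun c => ?_⟩
  haveI : Fact (Fintype.card F).Prime := ⟨hp⟩
  haveI : CharP F (Fintype.card F) := charP_of_card_eq_prime rfl
  obtain ⟨k, rfl⟩ : ∃ k : ℕ, (k : F) = c := by
    obtain ⟨z, rfl⟩ := (ZMod.castHom_bijective (R := F) (n := Fintype.card F) rfl).2 c
    exact ⟨z.val, by simp⟩
  obtain ⟨t, ht, e⟩ := h
  exact ⟨t ^ k, pow_mem ht k, by rw [Units.val_pow_eq_pow_val, e, eMat_pow ⟨hs, hsb⟩, Nat.cast_smul_eq_nsmul]⟩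

/-- Conjugation moves Siegel elements. -/
theorem siegel_conj {g : GLn} (hg : g ∈ H) {s b : Fin n → F}
    (h : ∃ t ∈ H, (t : Matrix (Fin n) (Fin n) F) = eMat (qs F n) s b) :
    ∃ t ∈ H, (t : Matrix (Fin n) (Fin n) F) =
      eMat (qs F n) ((g : Matrix (Fin n) (Fin n) F) *ᵥ s) ((g : Matrix (Fin n) (Fin n) F) *ᵥ b) := by
  obtain ⟨t, ht, e⟩ := h
  refine ⟨g * t * g⁻¹, mul_mem (mul_mem hg ht) (inv_mem hg), ?_⟩
  rw [Units.val_mul, Units.val_mul, e, isometry_eMat (O.iso g hg), Matrix.mul_assoc, ← Units.val_mul,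
    mul_inv_cancel, Units.val_one, Matrix.mul_one]

/-- The conclusion passes to larger frames. -/
theorem concl_lift [Fintype F] (hp : (Fintype.card F).Prime) (hσ : Function.Injective σ) (hm : 5 ≤ m) (hmn : m ≤ n)
    (h : Concl (H.comap (liftGL hσ))) : Concl H := by
  classical
  -- Siegel elements inside four coordinates
  have small : ∀ s b : Fin n → F, qs F n s = 0 → QuadraticMap.polar ⇑(qs F n) s b = 0 → (supp s).card ≤ 3 →
      (supp s ∪ supp b).card ≤ 4 → ∃ t ∈ H, (t : Matrix (Fin n) (Fin n) F) = eMat (qs F n) s b := by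
    intro s b hs hsb hs3 h4
    obtain ⟨T', hT', hT'c⟩ := Finset.exists_subset_card_eq (s := Finset.univ.image σ) (n := (supp s ∪ supp b).card)
      (by rw [Finset.card_image_of_injective _ hσ, Finset.card_univ, Fintype.card_fin]; omega)
    obtain ⟨π, hπ, hπT⟩ := exists_perm_map hT'c.symm (by
      rw [Finset.card_compl, Fintype.card_fin]
      omega)
    have hpm := O.mem_pure hπ
    obtain ⟨g, hg⟩ : ∃ g : GLn, g = sp π fun _ => 1 := ⟨_, rfl⟩
    rw [← hg] at hpm
    have hsup : ∀ x : Fin n → F, supp x ⊆ supp s ∪ supp b → ∀ k, k ∉ Set.range σ →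
        ((g : Matrix (Fin n) (Fin n) F) *ᵥ x) k = 0 := fun x hx k hk => by
      rw [hg, sp_mulVec, Units.val_one, one_mul]
      by_contra hne
      have h1 : π.symm k ∈ supp x := mem_supp.2 hne
      have h2 := (hπT (π.symm k)).2 (hx h1)
      rw [Equiv.apply_symm_apply] at h2
      obtain ⟨i, -, e⟩ := Finset.mem_image.1 (hT' h2)
      exact hk ⟨i, e⟩
    have hback : ∀ x : Fin n → F, (∀ k, k ∉ Set.range σ → x k = 0) → pMat F σ *ᵥ (x ∘ σ) = x := fun x hx =>
      funext fun k => by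
        by_cases hk : k ∈ Set.range σ
        · obtain ⟨i, rfl⟩ := hk; rw [pMat_mulVec_apply hσ]; rfl
        · rw [pMat_mulVec_of_notMem _ hk, hx k hk]
    obtain ⟨s', hs'⟩ : ∃ s', s' = ((g : Matrix (Fin n) (Fin n) F) *ᵥ s) ∘ σ := ⟨_, rfl⟩
    obtain ⟨b', hb'⟩ : ∃ b', b' = ((g : Matrix (Fin n) (Fin n) F) *ᵥ b) ∘ σ := ⟨_, rfl⟩
    have es : pMat F σ *ᵥ s' = (g : Matrix (Fin n) (Fin n) F) *ᵥ s := hs' ▸ hback _ (hsup s Finset.subset_union_left)
    have eb : pMat F σ *ᵥ b' = (g : Matrix (Fin n) (Fin n) F) *ᵥ b := hb' ▸ hback _ (hsup b Finset.subset_union_right)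
    have h0 : qs F m s' = 0 := by rw [← qs_pMat hσ, es, O.iso g hpm, hs]
    have h1 : QuadraticMap.polar ⇑(qs F m) s' b' = 0 := by
      rw [hb', ← polar_pMat hσ, es, OrthAut.isometry_polar (O.iso g hpm), hsb]
    have h2 : (supp s').card ≤ 3 := by
      have hsub : (supp s').image σ ⊆ (supp s).map π.toEmbedding := fun k hk => by
        obtain ⟨i, hi, rfl⟩ := Finset.mem_image.1 hk
        rw [Finset.mem_map]
        refine ⟨π.symm (σ i), ?_, π.apply_symm_apply _⟩
        have hi' := (mem_supp.1 hi)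
        rw [hs', Function.comp_apply, hg, sp_mulVec, Units.val_one, one_mul] at hi'
        exact mem_supp.2 hi'
      have := Finset.card_le_card hsub
      rw [Finset.card_image_of_injective _ hσ, Finset.card_map] at this
      omega
    obtain ⟨t, ht, e⟩ := h s' h0 h2 b' h1
    obtain ⟨t', ht', e'⟩ := O.siegel_conj (inv_mem hpm) (s := pMat F σ *ᵥ s') (b := pMat F σ *ᵥ b')
      ⟨liftGL hσ t, ht, by rw [← lMat_eMat hσ, ← e]; rfl⟩
    exact ⟨t', ht', by rw [e', es, eb, inv_mulVec_cancel, inv_mulVec_cancel]⟩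
  intro s hs hs3 b hb
  obtain ⟨b₀, hb₀⟩ : ∃ b₀ : Fin n → F, b₀ = fun i => if i ∈ supp s then b i else 0 := ⟨_, rfl⟩
  have hpol0 : QuadraticMap.polar ⇑(qs F n) s b₀ = 0 := by
    rw [← hb, polar_qs, polar_qs, hb₀]
    congr 1
    refine Finset.sum_congr rfl fun i _ => ?_
    by_cases hi : i ∈ supp s
    · simp only [if_pos hi]
    · simp only [if_neg hi]
      rw [show s i = 0 from by_contra fun h => hi (mem_supp.2 h)]
      ring
  have hb0 : b₀ ∈ CR (M := H) hs := O.mem_CR_of hp hs hpol0 (small s b₀ hs hpol0 hs3 (by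
    refine (Finset.card_le_card (Finset.union_subset (Finset.Subset.refl _) fun i hi => ?_)).trans (Nat.le_succ_of_le hs3)
    by_contra hi'
    exact (mem_supp.1 hi) (by rw [hb₀]; exact if_neg hi')))
  have hsingle : ∀ i ∉ supp s, Pi.single i (1 : F) ∈ CR (M := H) hs := fun i hi => by
    have hsi : s i = 0 := by_contra fun h => hi (mem_supp.2 h)
    have hp0 : QuadraticMap.polar ⇑(qs F n) s (Pi.single i (1 : F)) = 0 := by
      rw [polar_qs, Finset.sum_eq_single i (fun j _ hj => by rw [Pi.single_eq_of_ne hj, mul_zero]) (by simp), hsi]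
      ring
    refine O.mem_CR_of hp hs hp0 (small s _ hs hp0 hs3 ?_)
    refine (Finset.card_le_card (Finset.union_subset (Finset.subset_insert i _) fun j hj => ?_)).trans
      ((Finset.card_insert_le _ _).trans (Nat.succ_le_succ hs3))
    rw [Finset.mem_insert]
    exact Or.inl (by_contra fun hne => (mem_supp.1 hj) (Pi.single_eq_of_ne hne 1))
  have hsum : b = b₀ + ∑ i ∈ (supp s)ᶜ, b i • Pi.single i (1 : F) := funext fun j => by
    rw [Pi.add_apply, Finset.sum_apply, hb₀]
    by_cases hj : j ∈ supp s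
    · rw [Finset.sum_eq_zero fun i hi => by
        rw [Pi.smul_apply, Pi.single_eq_of_ne (fun e : j = i => Finset.mem_compl.1 hi (e ▸ hj)), smul_zero]]
      simp [hj]
    · rw [Finset.sum_eq_single j (fun i _ hi => by rw [Pi.smul_apply, Pi.single_eq_of_ne (Ne.symm hi), smul_zero])
        (fun h => absurd (Finset.mem_compl.2 hj) h)]
      simp [hj]
  have hmem : b ∈ CR (M := H) hs := by
    rw [hsum]
    exact Submodule.add_mem _ hb0 (Submodule.sum_mem _ fun i hi =>
      Submodule.smul_mem _ _ (hsingle i (Finset.mem_compl.1 hi)))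
  obtain ⟨t, ht, e⟩ := hmem.2 1
  exact ⟨t, ht, by rw [e, one_smul]⟩

/-- All Siegel elements from the short ones. -/
theorem siegel_mem [Fintype F] (hn : 3 ≤ n) (h : Concl H) {x b : Fin n → F} (hx0 : x ≠ 0) (hx : qs F n x = 0)
    (hb : QuadraticMap.polar ⇑(qs F n) x b = 0) :
    ∃ t ∈ H, (t : Matrix (Fin n) (Fin n) F) = eMat (qs F n) x b := by
  classical
  -- a short singular vector not perpendicular to `x`
  obtain ⟨i, hi⟩ : ∃ i, x i ≠ 0 := by
    by_contra hc; push Not at hc; exact hx0 (funext hc)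
  obtain ⟨P, Q', hPQ⟩ : ∃ P Q' : F, P * P + Q' * Q' = -1 := by
    obtain ⟨P, Q', e⟩ := FiniteField.exists_root_sum_quadratic (f := Polynomial.X ^ 2)
      (g := Polynomial.X ^ 2 - Polynomial.C (-1 : F)) (by simp) (Polynomial.degree_X_pow_sub_C (by norm_num) _)
      (by
        rcases Nat.even_or_odd (Fintype.card F) with he | ho
        · refine absurd ?_ O.two
          have h2 : ringChar F = 2 := FiniteField.even_card_iff_char_two.2 (Nat.even_iff.1 he)
          haveI : CharP F 2 := h2 ▸ ringChar.charP F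
          exact CharP.cast_eq_zero F 2
        · exact Nat.odd_iff.1 ho)
    refine ⟨P, Q', ?_⟩
    simp only [Polynomial.eval_pow, Polynomial.eval_X, Polynomial.eval_sub, Polynomial.eval_C] at e
    linear_combination e
  obtain ⟨j, k, hij, hik, hjk⟩ : ∃ j k : Fin n, i ≠ j ∧ i ≠ k ∧ j ≠ k := by
    obtain ⟨T, -, hT⟩ := Finset.exists_subset_card_eq (s := Finset.univ.erase i) (n := 2)
      (by rw [Finset.card_erase_of_mem (Finset.mem_univ i), Finset.card_univ, Fintype.card_fin]; omega)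
    obtain ⟨j, hj, k, hk, hjk⟩ := Finset.one_lt_card.1 (show 1 < ((Finset.univ : Finset (Fin n)).erase i).card by
      rw [Finset.card_erase_of_mem (Finset.mem_univ i), Finset.card_univ, Fintype.card_fin]; omega)
    exact ⟨j, k, (Finset.ne_of_mem_erase hj).symm, (Finset.ne_of_mem_erase hk).symm, hjk⟩
  -- two candidates differing by a sign at `i`
  obtain ⟨A, hA⟩ : ∃ A : F → Fin n → F, ∀ e, A e = Pi.single i e + Pi.single j P + Pi.single k Q' := ⟨_, fun _ => rfl⟩
  have hAi : ∀ e, A e i = e := fun e => by simp [hA, hij, hik]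
  have hAj : ∀ e, A e j = P := fun e => by simp [hA, hij.symm, hjk]
  have hAk : ∀ e, A e k = Q' := fun e => by simp [hA, hik.symm, hjk.symm]
  have hAo : ∀ e l, l ≠ i → l ≠ j → l ≠ k → A e l = 0 := fun e l a b c => by simp [hA, a, b, c]
  have hsum : ∀ e (y : Fin n → F), ∑ l, A e l * y l = e * y i + P * y j + Q' * y k := fun e y => by
    simp only [hA, Pi.add_apply, add_mul, Finset.sum_add_distrib, Pi.single_apply, ite_mul, zero_mul,
      Finset.sum_ite_eq', Finset.mem_univ, if_true]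
  have hq : ∀ e, e * e = 1 → qs F n (A e) = 0 := fun e he => by
    rw [qs_apply, hsum, hAi, hAj, hAk]; linear_combination hPQ + he
  have hsupp : ∀ e, (supp (A e)).card ≤ 3 := fun e =>
    (Finset.card_le_card (show supp (A e) ⊆ {i, j, k} from fun l hl => by
      have := mem_supp.1 hl
      by_contra hc
      simp only [Finset.mem_insert, Finset.mem_singleton, not_or] at hc
      exact this (hAo e l hc.1 hc.2.1 hc.2.2))).trans Finset.card_le_three
  obtain ⟨e, he, hne⟩ : ∃ e : F, e * e = 1 ∧ QuadraticMap.polar ⇑(qs F n) (A e) x ≠ 0 := by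
    by_contra hc
    push Not at hc
    have h1 := hc 1 (one_mul 1)
    have h2 := hc (-1) (by ring)
    rw [polar_qs, hsum] at h1 h2
    exact mul_ne_zero O.two (mul_ne_zero O.two hi) (by linear_combination h1 - h2)
  obtain ⟨β, hβ⟩ : ∃ β, β = QuadraticMap.polar ⇑(qs F n) (A e) x := ⟨_, rfl⟩
  rw [← hβ] at hne
  obtain ⟨c, hc⟩ : ∃ c, c * QuadraticMap.polar ⇑(qs F n) (A e) (A (-e)) = β := by
    refine ⟨β / QuadraticMap.polar ⇑(qs F n) (A e) (A (-e)), div_mul_cancel₀ _ ?_⟩
    rw [polar_qs, hsum, hAi, hAj, hAk]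
    intro h0
    refine mul_ne_zero O.two (mul_ne_zero O.two (one_ne_zero (α := F))) ?_
    linear_combination -h0 + 2 * hPQ - 2 * he
  obtain ⟨z, hz⟩ : ∃ z, z = c • A (-e) := ⟨_, rfl⟩
  have hzq : qs F n z = 0 := by rw [hz, QuadraticMap.map_smul, hq _ (by linear_combination he), smul_zero]
  have hzs : (supp z).card ≤ 3 := le_trans (Finset.card_le_card fun l hl => by
    rw [mem_supp] at hl ⊢
    exact fun h0 => hl (by rw [hz, Pi.smul_apply, h0, smul_zero])) (hsupp (-e))
  have haz : QuadraticMap.polar ⇑(qs F n) (A e) z = β := by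
    rw [hz, QuadraticMap.polar_smul_right, smul_eq_mul, hc]
  obtain ⟨w, hw⟩ : ∃ w, w = β⁻¹ • (x - z) := ⟨_, rfl⟩
  have haw : QuadraticMap.polar ⇑(qs F n) (A e) w = 0 := by
    rw [hw, QuadraticMap.polar_smul_right, QuadraticMap.polar_sub_right, ← hβ, haz, sub_self, smul_zero]
  obtain ⟨t, ht, etv⟩ := h (A e) (hq e he) (hsupp e) w haw
  have htz : (t : Matrix (Fin n) (Fin n) F) *ᵥ z = x := by
    have hmap := quad_add (Q := qs F n) (x - z) z
    rw [sub_add_cancel, hx, hzq, add_zero] at hmap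
    have key : QuadraticMap.polar ⇑(qs F n) w z + qs F n w * β = 0 := by
      rw [hw, QuadraticMap.polar_smul_left, QuadraticMap.map_smul, smul_eq_mul, smul_eq_mul]
      field_simp
      linear_combination -hmap
    rw [etv, eMat_mulVec, haz, sub_sub, ← add_smul, key, zero_smul, sub_zero, hw, smul_inv_smul₀ hne,
      add_sub_cancel]
  obtain ⟨t', ht', et'⟩ := h z hzq hzs (((t⁻¹ : GLn) : Matrix (Fin n) (Fin n) F) *ᵥ b) (by
    rw [← OrthAut.isometry_polar (O.iso t ht), htz, mulVec_inv_cancel, hb])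
  obtain ⟨u, hu, eu⟩ := O.siegel_conj ht ⟨t', ht', et'⟩
  exact ⟨u, hu, by rw [eu, htz, mulVec_inv_cancel]⟩


/-- The conclusion gives all of `Ω`. -/
theorem omega_le [Fintype F] (hn : 7 ≤ n) (h : Concl H) : Geo.omegaGL ⇑(qs F n) ≤ H := by
  classical
  have hnd : (QuadraticMap.polarBilin (qs F n)).Nondegenerate := by
    have key : ∀ u : Fin n → F, (∀ v, QuadraticMap.polar ⇑(qs F n) u v = 0) → u = 0 := fun u hu => funext fun i => by
      have h1 := hu (Pi.single i 1)
      rw [polar_qs, Finset.sum_eq_single i (fun j _ hj => by rw [Pi.single_eq_of_ne hj, mul_zero]) (by simp),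
        Pi.single_eq_same, mul_one] at h1
      exact (mul_eq_zero.1 h1).resolve_left O.two
    exact ⟨fun u hu => key u hu, fun u hu => key u fun v => by rw [QuadraticMap.polar_comm]; exact hu v⟩
  refine omegaGL_le_of_roots hnd (AschOrthTwo.tri_of_card hnd (by rw [Fintype.card_fin]; exact hn)) fun x b hxb => ?_
  obtain ⟨hx, -, hb, -⟩ := id hxb
  exact O.siegel_mem (by omega) h hxb.left_ne hx hb

end Fr

end Cfsg.Agent.Classical.OrthFrame
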