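import Cfsg.Agent.Lib.Classical.MaxFrameConcl

/-!
Dimension five, when elements fixing two frame vectors are monomial: a non-monomial element fixing one frame
vector has columns of equal squares, which is impossible unless the field has three elements.
-/

set_option autoImplicit false
set_option linter.unusedSectionVars false
set_option linter.style.haveILetI false
set_option quotPrecheck false

namespace Cfsg.Agent.Classical.OrthFrame

open Matrix Module MaxTv OrthAut

namespace Half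

theorem perm_inv_cases : ∀ (π : Equiv.Perm (Fin 5)) (l : Fin 5), π * π = 1 → π l = l → π 4 = 4 → l ≠ 4 →
    π = 1 ∨ ∃ q₀ q₁ q₂ : Fin 5, π q₀ = q₀ ∧ π q₁ = q₂ ∧ q₁ ≠ q₂ ∧ q₀ ≠ l ∧ q₀ ≠ 4 ∧ q₁ ≠ l ∧ q₁ ≠ 4 ∧ q₂ ≠ l ∧
      q₂ ≠ 4 ∧ q₀ ≠ q₁ ∧ q₀ ≠ q₂ ∧ Equiv.Perm.sign π = -1 := by
  decide +kernel

theorem five_split : ∀ l q₀ q₁ q₂ i : Fin 5, l ≠ 4 → q₀ ≠ l → q₀ ≠ 4 → q₁ ≠ l → q₁ ≠ 4 → q₂ ≠ l → q₂ ≠ 4 → q₀ ≠ q₁ →
    q₀ ≠ q₂ → q₁ ≠ q₂ → i = l ∨ i = 4 ∨ i = q₀ ∨ i = q₁ ∨ i = q₂ := by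
  decide +kernel

theorem exists_fourth : ∀ k a b : Fin 5, k ≠ 4 → ∃ k₂ : Fin 5, k₂ ≠ 4 ∧ k₂ ≠ k ∧ k₂ ≠ a ∧ k₂ ≠ b := by decide +kernel

set_option synthInstance.maxSize 1024 in
set_option synthInstance.maxHeartbeats 400000 in
theorem pigeon : ∀ l i j i₂ j₂ : Fin 5, l ≠ 4 → i ≠ 4 → j ≠ 4 → i₂ ≠ 4 → j₂ ≠ 4 → i ≠ l → j ≠ l → i₂ ≠ l →
    j₂ ≠ l → i ≠ j → i₂ ≠ j₂ → i₂ = i ∨ i₂ = j ∨ j₂ = i ∨ j₂ = j := by
  decide +kernel

theorem perm_three : ∀ π : Equiv.Perm (Fin 5), π * π = 1 → π 3 = 3 → π 4 = 4 → Equiv.Perm.sign π = 1 → π = 1 := by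
  decide +kernel

variable {F : Type*} [Field F] {H : Subgroup (GL (Fin 5) F)}

local notation "V₅" => (Fin 5 → F)
local notation "M₅" => Matrix (Fin 5) (Fin 5) F
local notation "GL₅" => GL (Fin 5) F

theorem comm_compl {g : GL₅} {S : Finset (Fin 5)} (h : g * dg S = dg S * g) : g * dg Sᶜ = dg Sᶜ * g := by
  have hneg : (dg Sᶜ : GL₅) = dg Finset.univ * dg S := by
    rw [dg_mul]; congr 1; ext i; simp [Finset.mem_symmDiff]
  have e : ((dg Finset.univ : GL₅) : M₅) = -1 := Matrix.ext_iff_mulVec.2 fun v => funext fun k => by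
    rw [dg_mulVec, if_pos (Finset.mem_univ k), Matrix.neg_mulVec, Matrix.one_mulVec, Pi.neg_apply]
  have hz : ∀ x : GL₅, x * dg Finset.univ = dg Finset.univ * x := fun x =>
    Units.ext (by rw [Units.val_mul, Units.val_mul, e]; simp)
  rw [hneg, ← mul_assoc, hz, mul_assoc, h, mul_assoc]

theorem mon_of_comm (O : Fr H) (h2 : Fix H 2) {g : GL₅} (hg : g ∈ H) {S : Finset (Fin 5)} (hS : S.card = 2)
    (h : g * dg S = dg S * g) : Mon g :=
  O.mon_of_blocks h2 hg Sᶜ (by rw [Finset.card_compl, hS]; rfl) (by rw [Finset.card_compl, hS]; decide)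
    (by rw [compl_compl, hS]) (comm_compl h)

theorem gl_col (g : GL₅) (i k : Fin 5) : ((g : M₅) *ᵥ Pi.single i 1) k = (g : M₅) k i := by
  simp [Matrix.mulVec_single]

theorem inv_entry (O : Fr H) {g : GL₅} (hg : g ∈ H) (k l : Fin 5) :
    (((g⁻¹ : GL₅) : M₅) *ᵥ Pi.single k 1) l = ((g : M₅) *ᵥ Pi.single l 1) k := by
  have h := O.polar_eq hg (((g⁻¹ : GL₅) : M₅) *ᵥ Pi.single k 1) (Pi.single l 1)
  rw [mulVec_inv_cancel] at h
  simpa [Pi.single_apply] using h.symm

/-- A pair of frame vectors mapped into a pair forces monomiality. -/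
theorem mon_of_pair (O : Fr H) (h2 : Fix H 2) {h : GL₅} (hh : h ∈ H) {k k₂ i j : Fin 5} (hk : k ≠ k₂) (hij : i ≠ j)
    (e₁ : ∀ o, o ≠ i → o ≠ j → ((h : M₅) *ᵥ Pi.single k 1) o = 0)
    (e₂ : ∀ o, o ≠ i → o ≠ j → ((h : M₅) *ᵥ Pi.single k₂ 1) o = 0) : Mon h := by
  classical
  obtain ⟨π, hπ, hπS⟩ := exists_perm_map (S := ({k, k₂} : Finset (Fin 5))) (S' := {i, j})
    (by rw [Finset.card_pair hk, Finset.card_pair hij]) (Or.inl (by rw [Finset.card_pair hk]))
  obtain ⟨m, hm⟩ : ∃ m : GL₅, m = sp π fun _ => 1 := ⟨_, rfl⟩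
  have hmH : m ∈ H := hm ▸ O.mem_pure hπ
  obtain ⟨g, hgdef⟩ : ∃ g, g = m⁻¹ * h := ⟨_, rfl⟩
  have hg : g ∈ H := hgdef ▸ mul_mem (inv_mem hmH) hh
  have hval : ∀ x o, ((g : M₅) *ᵥ x) o = ((h : M₅) *ᵥ x) (π o) := fun x o => by
    have e : h = m * g := by rw [hgdef, mul_inv_cancel_left]
    rw [e, Units.val_mul, ← Matrix.mulVec_mulVec, hm, sp_mulVec, Units.val_one, one_mul, Equiv.symm_apply_apply]
  have hin : ∀ a ∈ ({k, k₂} : Finset (Fin 5)), ∀ o ∉ ({k, k₂} : Finset (Fin 5)),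
      ((g : M₅) *ᵥ Pi.single a 1) o = 0 := by
    intro a ha o ho
    have ho' : π o ∉ ({i, j} : Finset (Fin 5)) := fun h => ho ((hπS o).1 h)
    simp only [Finset.mem_insert, Finset.mem_singleton, not_or] at ho'
    rw [hval]
    rcases Finset.mem_insert.1 ha with rfl | ha
    · exact e₁ _ ho'.1 ho'.2
    · rw [Finset.mem_singleton.1 ha]; exact e₂ _ ho'.1 ho'.2
  have hout : ∀ a ∉ ({k, k₂} : Finset (Fin 5)), ∀ o ∈ ({k, k₂} : Finset (Fin 5)),
      ((g : M₅) *ᵥ Pi.single a 1) o = 0 := by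
    intro a ha o ho
    obtain ⟨x, hx⟩ : ∃ x, x = (g : M₅) *ᵥ Pi.single a 1 := ⟨_, rfl⟩
    obtain ⟨v, hv⟩ : ∃ v, v = (g : M₅) *ᵥ Pi.single k 1 := ⟨_, rfl⟩
    obtain ⟨w, hw⟩ : ∃ w, w = (g : M₅) *ᵥ Pi.single k₂ 1 := ⟨_, rfl⟩
    simp only [Finset.mem_insert, Finset.mem_singleton, not_or] at ha
    have two_sum : ∀ y z : V₅, (∀ o, o ∉ ({k, k₂} : Finset (Fin 5)) → y o = 0) →
        ∑ o, y o * z o = y k * z k + y k₂ * z k₂ := fun y z hy => by
      rw [← Finset.sum_pair (f := fun o => y o * z o) hk]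
      exact (Finset.sum_subset (Finset.subset_univ _) fun o _ ho => by rw [hy o ho, zero_mul]).symm
    have hv0 : ∀ o, o ∉ ({k, k₂} : Finset (Fin 5)) → v o = 0 := fun o ho => hv ▸ hin k (by simp) o ho
    have hw0 : ∀ o, o ∉ ({k, k₂} : Finset (Fin 5)) → w o = 0 := fun o ho => hw ▸ hin k₂ (by simp) o ho
    have p1 := O.polar_eq hg (Pi.single k 1) (Pi.single k 1)
    have p2 := O.polar_eq hg (Pi.single k₂ 1) (Pi.single k₂ 1)
    have p3 := O.polar_eq hg (Pi.single k 1) (Pi.single k₂ 1)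
    have p4 := O.polar_eq hg (Pi.single k 1) (Pi.single a 1)
    have p5 := O.polar_eq hg (Pi.single k₂ 1) (Pi.single a 1)
    rw [← hv, two_sum _ _ hv0] at p1
    rw [← hw, two_sum _ _ hw0] at p2
    rw [← hv, ← hw, two_sum _ _ hv0] at p3
    rw [← hv, ← hx, two_sum _ _ hv0] at p4
    rw [← hw, ← hx, two_sum _ _ hw0] at p5
    simp [Pi.single_apply, hk, hk.symm, ha.1, ha.2] at p1 p2 p3 p4 p5
    have hD : (v k * w k₂ - v k₂ * w k) * (v k * w k₂ - v k₂ * w k) = 1 := by
      linear_combination p1 * (w k * w k + w k₂ * w k₂) + p2 - p3 * (v k * w k + v k₂ * w k₂)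
    have hD0 : v k * w k₂ - v k₂ * w k ≠ 0 := fun e => by rw [e, zero_mul] at hD; exact zero_ne_one hD
    rw [← hx]
    rcases Finset.mem_insert.1 ho with rfl | ho
    · exact (mul_eq_zero.1 (by linear_combination w k₂ * p4 - v k₂ * p5 :
        (v o * w k₂ - v k₂ * w o) * x o = 0)).resolve_left hD0
    · rw [Finset.mem_singleton.1 ho]
      exact (mul_eq_zero.1 (by linear_combination v k * p5 - w k * p4 :
        (v k * w k₂ - v k₂ * w k) * x k₂ = 0)).resolve_left hD0
  have hmon : Mon g := by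
    refine mon_of_comm O h2 hg (S := {k, k₂}) (Finset.card_pair hk) (ext_single fun a => funext fun o => ?_)
    rw [Units.val_mul, Units.val_mul, ← Matrix.mulVec_mulVec, ← Matrix.mulVec_mulVec, dg_single,
      Matrix.mulVec_smul, dg_mulVec, Pi.smul_apply, smul_eq_mul]
    by_cases ha : a ∈ ({k, k₂} : Finset (Fin 5))
    · by_cases ho : o ∈ ({k, k₂} : Finset (Fin 5))
      · rw [if_pos ho, show sgn F {k, k₂} a = -1 from if_pos ha]; simp
      · rw [if_neg ho, hin a ha o ho, mul_zero]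
    · by_cases ho : o ∈ ({k, k₂} : Finset (Fin 5))
      · rw [if_pos ho, hout a ha o ho, mul_zero, neg_zero]
      · rw [if_neg ho, show sgn F {k, k₂} a = 1 from if_neg ha]; simp
  have := (hm ▸ mon_sp π fun _ => 1 : Mon m).mul hmon
  rwa [hgdef, mul_inv_cancel_left] at this

/-- A zero entry gives a row with two entries. -/
theorem exists_row (O : Fr H) (h2 : Fix H 2) {g : GL₅} (hg : g ∈ H) (h4 : (g : M₅) *ᵥ Pi.single 4 1 = Pi.single 4 1)
    (hnm : ¬ Mon g) {k l : Fin 5} (hk : k ≠ 4) (hl : l ≠ 4) (hz : ((g : M₅) *ᵥ Pi.single l 1) k = 0) :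
    ∃ i j : Fin 5, i ≠ j ∧ i ≠ 4 ∧ j ≠ 4 ∧ i ≠ l ∧ j ≠ l ∧ ((g : M₅) *ᵥ Pi.single i 1) k ≠ 0 ∧
      ((g : M₅) *ᵥ Pi.single j 1) k ≠ 0 ∧ ∀ o, o ≠ i → o ≠ j → ((g : M₅) *ᵥ Pi.single o 1) k = 0 := by
  classical
  obtain ⟨t, ht⟩ : ∃ t : GL₅, t = dg {k, 4} := ⟨_, rfl⟩
  have htH : t ∈ H := ht ▸ O.mem_pair hk
  obtain ⟨h, hh⟩ : ∃ h, h = g⁻¹ * t * g := ⟨_, rfl⟩
  have hhH : h ∈ H := hh ▸ mul_mem (mul_mem (inv_mem hg) htH) hg
  have hap : ∀ x, (h : M₅) *ᵥ x = ((g⁻¹ : GL₅) : M₅) *ᵥ ((t : M₅) *ᵥ ((g : M₅) *ᵥ x)) := fun x => by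
    rw [hh, Units.val_mul, Units.val_mul, ← Matrix.mulVec_mulVec, ← Matrix.mulVec_mulVec]
  have hl4 : ((g : M₅) *ᵥ Pi.single l 1) 4 = 0 := by
    have h := O.polar_eq hg (Pi.single l 1) (Pi.single 4 1)
    rw [h4] at h
    simpa [Pi.single_apply, hl, Ne.symm hl] using h
  have hel : (h : M₅) *ᵥ Pi.single l 1 = Pi.single l 1 := by
    rw [hap, show (t : M₅) *ᵥ ((g : M₅) *ᵥ Pi.single l 1) = (g : M₅) *ᵥ Pi.single l 1 from funext fun o => by
      rw [ht, dg_mulVec]
      split_ifs with ho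
      · simp only [Finset.mem_insert, Finset.mem_singleton] at ho
        rcases ho with rfl | rfl <;> simp [hz, hl4]
      · rfl, inv_mulVec_cancel]
  have he4 : (h : M₅) *ᵥ Pi.single 4 1 = -Pi.single 4 1 := by
    rw [hap, h4, ht, dg_single, show sgn F {k, (4 : Fin 5)} 4 = -1 from if_pos (by simp), Units.val_neg, Units.val_one,
      neg_one_smul, Matrix.mulVec_neg]
    congr 1
    conv_lhs => rw [← h4, inv_mulVec_cancel]
  have hmon : Mon h := mon_of_pair O h2 hhH (k := l) (k₂ := 4) (i := l) (j := 4) hl hl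
    (fun o ho _ => by rw [hel, Pi.single_eq_of_ne ho])
    (fun o _ ho => by rw [he4, Pi.neg_apply, Pi.single_eq_of_ne ho, neg_zero])
  obtain ⟨π, ε, e⟩ := O.exists_sp hhH hmon
  have hh2 : h * h = 1 := by
    rw [hh, show g⁻¹ * t * g * (g⁻¹ * t * g) = g⁻¹ * (t * t) * g by group, ht, dg_mul, symmDiff_self,
      Finset.bot_eq_empty, dg_empty]
    group
  rw [e, sp_mul, ← sp_one] at hh2
  obtain ⟨hπ2, hε2⟩ := sp_inj hh2
  rw [e, sp_single] at hel he4
  have hπl : π l = l := by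
    by_contra hne
    have := congrFun hel l
    rw [Pi.single_eq_of_ne (Ne.symm hne), Pi.single_eq_same] at this
    exact zero_ne_one this
  have hπ4 : π 4 = 4 := by
    by_contra hne
    have := congrFun he4 4
    rw [Pi.single_eq_of_ne (Ne.symm hne), Pi.neg_apply, Pi.single_eq_same] at this
    exact one_ne_zero (α := F) (by linear_combination this)
  rw [hπl] at hel
  rw [hπ4] at he4
  have hεl : (ε l : F) = 1 := by simpa using congrFun hel l
  have hε4 : (ε 4 : F) = -1 := by simpa using congrFun he4 4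
  obtain ⟨w, hw⟩ : ∃ w, w = ((g⁻¹ : GL₅) : M₅) *ᵥ Pi.single k 1 := ⟨_, rfl⟩
  have hwe : ∀ o, ((g : M₅) *ᵥ Pi.single o 1) k = w o := fun o => by rw [hw, inv_entry O hg]
  have hneg : ∀ o, (ε o : F) * w o = -w (π o) := fun o => by
    have h1 : (h : M₅) *ᵥ w = -w := by
      rw [hap, hw, mulVec_inv_cancel, ht, dg_single, show sgn F {k, (4 : Fin 5)} k = -1 from if_pos (by simp),
        Units.val_neg, Units.val_one, neg_one_smul, Matrix.mulVec_neg]
    have h3 := congrFun h1 (π o)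
    rw [e, sp_mulVec, Equiv.symm_apply_apply, Pi.neg_apply] at h3
    exact h3
  have wl : w l = 0 := by rw [← hwe, hz]
  have w4 : w 4 = 0 := by rw [← hwe, h4, Pi.single_eq_of_ne hk]
  have wne : ∃ o, w o ≠ 0 := by
    by_contra hcon
    push Not at hcon
    have h0 : (g : M₅) *ᵥ w = Pi.single k 1 := by rw [hw, mulVec_inv_cancel]
    rw [show w = 0 from funext hcon, Matrix.mulVec_zero] at h0
    simpa using congrFun h0 k
  rcases perm_inv_cases π l hπ2 hπl hπ4 hl with rfl | ⟨q₀, q₁, q₂, p0, p1, d12, a0, b0, a1, b1, a2, b2, d01, d02, hs⟩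
  · -- diagonal: the row is an axis
    exfalso
    obtain ⟨S, hS⟩ : ∃ S : Finset (Fin 5), ε = sgn F S :=
      ⟨Finset.univ.filter fun i => ε i = -1, funext fun i => by
        rcases O.unit_of_mem (e ▸ hhH) i with hi | hi <;> simp [sgn, hi]⟩
    have hcard : S.card = 2 := by
      have hc := congrArg (fun x : GL₅ => finrank F (negSp x)) (show (g⁻¹ : GL₅) * t * g⁻¹⁻¹ = dg S by
        rw [inv_inv, ← hh, e, hS]; rfl)
      simp only [finrank_negSp_conj, finrank_negSp_dg O.two] at hc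
      rw [← hc, ht, finrank_negSp_dg O.two, Finset.card_pair hk]
    have h4S : (4 : Fin 5) ∈ S := by
      by_contra h4S
      rw [hS, show sgn F S 4 = 1 from if_neg h4S, Units.val_one] at hε4
      exact O.two (by linear_combination hε4)
    obtain ⟨q, hq⟩ := Finset.card_eq_one.1 (show (S.erase 4).card = 1 by rw [Finset.card_erase_of_mem h4S, hcard])
    have hw0 : ∀ o, o ≠ q → w o = 0 := by
      intro o ho
      rcases eq_or_ne o 4 with rfl | ho4
      · exact w4
      have hoS : o ∉ S := fun hoS => ho (Finset.mem_singleton.1 (hq ▸ Finset.mem_erase.2 ⟨ho4, hoS⟩))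
      have := hneg o
      rw [hS, show sgn F S o = 1 from if_neg hoS, Units.val_one, one_mul] at this
      exact (mul_eq_zero.1 (by rw [Equiv.Perm.one_apply] at this; linear_combination this :
        (2 : F) * w o = 0)).resolve_left O.two
    have hq4 : q ≠ 4 := Finset.ne_of_mem_erase (hq ▸ Finset.mem_singleton_self q)
    refine hnm (?_ : Mon g)
    have hinv : Mon g⁻¹ := mon_of_pair O h2 (inv_mem hg) (k := k) (k₂ := 4) (i := q) (j := 4) hk hq4
      (fun o ho _ => by rw [← hw, hw0 o ho])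
      (fun o _ ho => by
        conv_lhs => rw [← h4, inv_mulVec_cancel]
        rw [Pi.single_eq_of_ne ho])
    have := O.mon_inv (inv_mem hg) hinv
    rwa [inv_inv] at this
  · -- a transposition
    have hperm : ∀ i, i = l ∨ i = 4 ∨ i = q₀ ∨ i = q₁ ∨ i = q₂ := fun i =>
      five_split l q₀ q₁ q₂ i hl a0 b0 a1 b1 a2 b2 d01 d02 d12
    have hε12 : (ε q₁ : F) * ε q₂ = 1 := by
      have h3 := congrArg Units.val (congrFun hε2 q₁)
      rw [p1, Units.val_mul, Units.val_one] at h3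
      linear_combination h3
    have hq0 : (ε q₀ : F) = 1 := by
      have hd := O.det _ (e ▸ hhH)
      rw [sp_val, det_spMat, hs] at hd
      have huniv : (Finset.univ : Finset (Fin 5)) = {l, 4, q₀, q₁, q₂} := by
        ext i; simpa using hperm i
      rw [huniv, Finset.prod_insert (by simp [hl, Ne.symm a0, Ne.symm a1, Ne.symm a2]),
        Finset.prod_insert (by simp [Ne.symm b0, Ne.symm b1, Ne.symm b2]),
        Finset.prod_insert (by simp [d01, d02]), Finset.prod_pair d12, hε12, hεl, hε4] at hd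
      push_cast at hd
      linear_combination hd
    have w0 : w q₀ = 0 := by
      have := hneg q₀
      rw [p0, hq0, one_mul] at this
      exact (mul_eq_zero.1 (by linear_combination this : (2 : F) * w q₀ = 0)).resolve_left O.two
    have h12 : w q₁ = 0 ↔ w q₂ = 0 := by
      have := hneg q₁
      rw [p1] at this
      constructor <;> intro h0
      · rw [h0, mul_zero] at this; linear_combination this
      · rw [h0, neg_zero] at this; exact (mul_eq_zero.1 this).resolve_left (ε q₁).ne_zero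
    have hne : w q₁ ≠ 0 := fun h0 => by
      obtain ⟨o, ho⟩ := wne
      rcases hperm o with rfl | rfl | rfl | rfl | rfl
      exacts [ho wl, ho w4, ho w0, ho h0, ho (h12.1 h0)]
    refine ⟨q₁, q₂, d12, b1, b2, a1, a2, by rw [hwe]; exact hne, by rw [hwe]; exact fun h0 => hne (h12.2 h0),
      fun o o1 o2 => ?_⟩
    rw [hwe]
    rcases hperm o with rfl | rfl | rfl | rfl | rfl
    exacts [wl, w4, w0, absurd rfl o1, absurd rfl o2]

/-- All entries away from the fixed vector are non-zero. -/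
theorem full (O : Fr H) (h2 : Fix H 2) {g : GL₅} (hg : g ∈ H) (h4 : (g : M₅) *ᵥ Pi.single 4 1 = Pi.single 4 1)
    (hnm : ¬ Mon g) {k l : Fin 5} (hk : k ≠ 4) (hl : l ≠ 4) : ((g : M₅) *ᵥ Pi.single l 1) k ≠ 0 := by
  classical
  intro hz
  obtain ⟨i, j, hij, i4, j4, il, jl, wi, wj, hrow⟩ := exists_row O h2 hg h4 hnm hk hl hz
  have hnm' : ¬ Mon g⁻¹ := fun h => hnm (by have := O.mon_inv (inv_mem hg) h; rwa [inv_inv] at this)
  have h4' : ((g⁻¹ : GL₅) : M₅) *ᵥ Pi.single 4 1 = Pi.single 4 1 := by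
    conv_lhs => rw [← h4, inv_mulVec_cancel]
  obtain ⟨a, b, hab, a4, b4, ak, bk, -, -, hcol⟩ := exists_row O h2 (inv_mem hg) h4' hnm' hl hk
    (by rw [inv_entry O hg]; exact hz)
  obtain ⟨k₂, k24, k2k, k2a, k2b⟩ := exists_fourth k a b hk
  have hz₂ : ((g : M₅) *ᵥ Pi.single l 1) k₂ = 0 := by rw [← inv_entry O hg]; exact hcol k₂ k2a k2b
  obtain ⟨i₂, j₂, hij₂, i24, j24, i2l, j2l, vi, vj, hrow₂⟩ := exists_row O h2 hg h4 hnm k24 hl hz₂
  have horth : ∑ o, ((g : M₅) *ᵥ Pi.single o 1) k * ((g : M₅) *ᵥ Pi.single o 1) k₂ = 0 := by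
    have h := O.polar_eq (inv_mem hg) (Pi.single k 1) (Pi.single k₂ 1)
    simp only [inv_entry O hg] at h
    rw [h]
    simp [Pi.single_apply, k2k, Ne.symm k2k]
  rw [← Finset.sum_subset (Finset.subset_univ ({i, j} : Finset (Fin 5))) (fun o _ ho => by
    simp only [Finset.mem_insert, Finset.mem_singleton, not_or] at ho
    rw [hrow o ho.1 ho.2, zero_mul]), Finset.sum_pair hij] at horth
  have hboth : (i₂ = i ∧ j₂ = j) ∨ (i₂ = j ∧ j₂ = i) := by
    have hi : i = i₂ ∨ i = j₂ := by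
      by_contra hc; push Not at hc
      rw [hrow₂ i hc.1 hc.2, mul_zero, zero_add] at horth
      have hj : j ≠ i₂ ∧ j ≠ j₂ := by
        by_contra hc'
        have hv : ((g : M₅) *ᵥ Pi.single j 1) k₂ ≠ 0 := by
          rcases not_and_or.1 hc' with e | e <;> rw [ne_eq, not_not] at e <;> rw [e]
          exacts [vi, vj]
        exact mul_ne_zero wj hv horth
      rcases pigeon l i j i₂ j₂ hl i4 j4 i24 j24 il jl i2l j2l hij hij₂ with e | e | e | e
      exacts [hc.1 e.symm, hj.1 e.symm, hc.2 e.symm, hj.2 e.symm]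
    have hj : j = i₂ ∨ j = j₂ := by
      by_contra hc; push Not at hc
      rw [hrow₂ j hc.1 hc.2, mul_zero, add_zero] at horth
      rcases hi with e | e <;> refine mul_ne_zero wi ?_ horth <;> rw [e]
      exacts [vi, vj]
    rcases hi with e | e <;> rcases hj with e' | e'
    · exact absurd (e.trans e'.symm) hij
    · exact Or.inl ⟨e.symm, e'.symm⟩
    · exact Or.inr ⟨e'.symm, e.symm⟩
    · exact absurd (e.trans e'.symm) hij
  refine hnm' (mon_of_pair O h2 (inv_mem hg) (Ne.symm k2k) hij (fun o o1 o2 => ?_) fun o o1 o2 => ?_)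
  · rw [inv_entry O hg]; exact hrow o o1 o2
  · rw [inv_entry O hg]
    rcases hboth with ⟨e, e'⟩ | ⟨e, e'⟩ <;> subst e <;> subst e'
    · exact hrow₂ o o1 o2
    · exact hrow₂ o o2 o1

/-- The conjugate of a sign change by an element fixing the last vector. -/
theorem conj_apply (O : Fr H) {g : GL₅} (hg : g ∈ H) (h4 : (g : M₅) *ᵥ Pi.single 4 1 = Pi.single 4 1) {l : Fin 5}
    (hl : l ≠ 4) {a : V₅} (ha : (g : M₅) *ᵥ Pi.single l 1 = a) (x : V₅) :
    ((g * dg {l, 4} * g⁻¹ : GL₅) : M₅) *ᵥ x =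
      x - (2 * ∑ i, a i * x i) • a - (2 * x 4) • Pi.single 4 1 := by
  obtain ⟨y, hy⟩ : ∃ y, y = ((g⁻¹ : GL₅) : M₅) *ᵥ x := ⟨_, rfl⟩
  have hgy : (g : M₅) *ᵥ y = x := by rw [hy, mulVec_inv_cancel]
  have hyl : y l = ∑ i, a i * x i := by
    rw [← ha, ← hgy, O.polar_eq hg]; simp [Pi.single_apply]
  have hy4 : y 4 = x 4 := by
    have h := O.polar_eq hg (Pi.single 4 1) y
    rw [hgy, h4] at h
    simpa [Pi.single_apply] using h.symm
  have hd : ((dg {l, 4} : GL₅) : M₅) *ᵥ y = y - (2 * y l) • Pi.single l 1 - (2 * y 4) • Pi.single 4 1 := by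
    funext o
    rw [dg_mulVec]
    rcases eq_or_ne o l with rfl | ho
    · simp [hl]; ring
    rcases eq_or_ne o 4 with rfl | ho4
    · simp [Ne.symm hl]; ring
    · simp [ho, ho4]
  rw [Units.val_mul, Units.val_mul, ← Matrix.mulVec_mulVec, ← Matrix.mulVec_mulVec, ← hy, hd, Matrix.mulVec_sub,
    Matrix.mulVec_sub, Matrix.mulVec_smul, Matrix.mulVec_smul, hgy, ha, h4, hyl, hy4]

/-- Equal squares across one of the two pairs. -/
theorem eq_pair (O : Fr H) [Fintype F] (h2 : Fix H 2) {g : GL₅} (hg : g ∈ H)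
    (h4 : (g : M₅) *ᵥ Pi.single 4 1 = Pi.single 4 1) (hnm : ¬ Mon g) {l p q r s : Fin 5} (hl : l ≠ 4) (p4 : p ≠ 4)
    (q4 : q ≠ 4) (r4 : r ≠ 4) (s4 : s ≠ 4) (pq : p ≠ q) (pr : p ≠ r) (ps : p ≠ s) (qr : q ≠ r) (qs' : q ≠ s)
    (rs : r ≠ s) :
    ((g : M₅) *ᵥ Pi.single l 1) p ^ 2 = ((g : M₅) *ᵥ Pi.single l 1) q ^ 2 ∨
      ((g : M₅) *ᵥ Pi.single l 1) r ^ 2 = ((g : M₅) *ᵥ Pi.single l 1) s ^ 2 := by
  classical
  obtain ⟨a, ha⟩ : ∃ a, (g : M₅) *ᵥ Pi.single l 1 = a := ⟨_, rfl⟩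
  rw [ha]
  by_contra hcon
  push Not at hcon
  have hne : ∀ k, k ≠ 4 → a k ≠ 0 := fun k hk => ha ▸ full O h2 hg h4 hnm hk hl
  obtain ⟨u, hu⟩ : ∃ u, u = g * dg {l, 4} * g⁻¹ := ⟨_, rfl⟩
  have huH : u ∈ H := hu ▸ mul_mem (mul_mem hg (O.mem_pair hl)) (inv_mem hg)
  obtain ⟨t, ht⟩ : ∃ t : GL₅, t = dg {p, q} := ⟨_, rfl⟩
  have htH : t ∈ H := ht ▸ O.mem_pair pq
  have t2 : t * t = 1 := by rw [ht, dg_mul, symmDiff_self, Finset.bot_eq_empty, dg_empty]
  have u2 : u * u = 1 := by
    rw [hu, show g * dg {l, 4} * g⁻¹ * (g * dg {l, 4} * g⁻¹) = g * (dg {l, 4} * dg {l, 4}) * g⁻¹ by group, dg_mul,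
      symmDiff_self, Finset.bot_eq_empty, dg_empty]
    group
  obtain ⟨ρ, hρ⟩ : ∃ ρ, ρ = u * t := ⟨_, rfl⟩
  have hρH : ρ ∈ H := hρ ▸ mul_mem huH htH
  obtain ⟨w, hw⟩ : ∃ w : V₅, w = a q • Pi.single p 1 - a p • Pi.single q 1 := ⟨_, rfl⟩
  obtain ⟨f, hf⟩ : ∃ f : V₅, f = a s • Pi.single r 1 - a r • Pi.single s 1 := ⟨_, rfl⟩
  have hua : ∀ x : V₅, ∑ i, a i * x i = 0 → x 4 = 0 → (u : M₅) *ᵥ x = x := fun x h0 h40 => by
    rw [hu, conj_apply O hg h4 hl ha, h0, h40]; simp
  have hsum : ∀ (x y : Fin 5) (c d : F), ∑ i, a i * (c • Pi.single x 1 - d • Pi.single y (1 : F) : V₅) i =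
      a x * c - a y * d := fun x y c d => by
    simp [mul_sub, Finset.sum_sub_distrib, Pi.single_apply]
  have ρw : (ρ : M₅) *ᵥ w = -w := by
    rw [hρ, Units.val_mul, ← Matrix.mulVec_mulVec, show (t : M₅) *ᵥ w = -w from funext fun o => by
      rw [ht, dg_mulVec, hw]
      rcases eq_or_ne o p with rfl | hop
      · simp
      rcases eq_or_ne o q with rfl | hoq
      · simp
      · simp [hop, hoq], Matrix.mulVec_neg, hua w (by rw [hw, hsum]; ring)
        (by simp [hw, Ne.symm p4, Ne.symm q4])]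
  have ρ4 : (ρ : M₅) *ᵥ Pi.single 4 1 = -Pi.single 4 1 := by
    have hut : (u : M₅) *ᵥ Pi.single 4 1 = -Pi.single 4 1 := by
      rw [hu, conj_apply O hg h4 hl ha]
      have : ∑ i, a i * (Pi.single 4 (1 : F) : V₅) i = 0 := by
        have h := O.polar_eq hg (Pi.single l 1) (Pi.single 4 1)
        rw [h4, ha] at h
        simpa [Pi.single_apply, hl, Ne.symm hl] using h
      rw [this]
      funext o
      rcases eq_or_ne o 4 with rfl | ho
      · simp; ring
      · simp [ho]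
    rw [hρ, Units.val_mul, ← Matrix.mulVec_mulVec, ht, dg_single,
      show sgn F {p, q} (4 : Fin 5) = 1 from if_neg (by simp [Ne.symm p4, Ne.symm q4]), Units.val_one, one_smul, hut]
  have ρf : (ρ : M₅) *ᵥ f = f := by
    rw [hρ, Units.val_mul, ← Matrix.mulVec_mulVec, show (t : M₅) *ᵥ f = f from funext fun o => by
      rw [ht, dg_mulVec, hf]
      split_ifs with ho
      · simp only [Finset.mem_insert, Finset.mem_singleton] at ho
        rcases ho with rfl | rfl <;> simp [pr, ps, qr, qs']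
      · rfl, hua f (by rw [hf, hsum]; ring) (by simp [hf, Ne.symm r4, Ne.symm s4])]
  have hpw : ∀ (k : ℕ) (x : V₅) (η : F), (ρ : M₅) *ᵥ x = η • x →
      ((ρ ^ k : GL₅) : M₅) *ᵥ x = η ^ k • x := by
    intro k x η hx
    induction k with
    | zero => simp
    | succ k ih => rw [pow_succ, Units.val_mul, ← Matrix.mulVec_mulVec, hx, Matrix.mulVec_smul, ih, smul_smul,
        pow_succ, mul_comm]
  obtain ⟨N, hN⟩ : ∃ N, N = orderOf ρ := ⟨_, rfl⟩
  have hN0 : 0 < N := hN ▸ (isOfFinOrder_of_finite ρ).orderOf_pos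
  have h4e : (-1 : F) • (Pi.single 4 1 : V₅) = -Pi.single 4 1 := neg_one_smul _ _
  obtain ⟨j, hj⟩ : ∃ j, N = j + j := by
    rcases Nat.even_or_odd N with h | h
    · exact h
    · exfalso
      have h1 := hpw N _ (-1) (ρ4.trans h4e.symm)
      rw [hN, pow_orderOf_eq_one, Units.val_one, Matrix.one_mulVec, ← hN, h.neg_one_pow] at h1
      have := congrFun h1 4
      simp at this
      exact O.two (by linear_combination this)
  obtain ⟨v, hv⟩ : ∃ v, v = ρ ^ j := ⟨_, rfl⟩
  have hvH : v ∈ H := hv ▸ pow_mem hρH j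
  have hv1 : v ≠ 1 := fun h => by
    rw [hv] at h
    have := Nat.le_of_dvd (by omega) (orderOf_dvd_of_pow_eq_one h)
    omega
  have hvv : v⁻¹ = v := inv_eq_of_mul_eq_one_right (by rw [hv, ← pow_add, ← hj, hN, pow_orderOf_eq_one])
  have hvt : v * t = t * v := by
    have hinv : t * ρ * t⁻¹ = ρ⁻¹ := by
      rw [hρ, _root_.mul_inv_rev, show u⁻¹ = u from inv_eq_of_mul_eq_one_right u2, ← mul_assoc,
        mul_assoc (t * u), mul_inv_cancel, mul_one, show t⁻¹ = t from inv_eq_of_mul_eq_one_right t2]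
    have : t * v * t⁻¹ = v := by
      conv_lhs => rw [hv]
      rw [← conj_pow, hinv, inv_pow, ← hv, hvv]
    conv_lhs => rw [← this]
    rw [inv_mul_cancel_right]
  obtain ⟨π, ε, e⟩ := O.exists_sp hvH (mon_of_comm O h2 hvH (S := {p, q}) (Finset.card_pair pq) (ht ▸ hvt))
  have hpres : ∀ i, π i ∈ ({p, q} : Finset (Fin 5)) ↔ i ∈ ({p, q} : Finset (Fin 5)) := fun i => by
    rw [ht, e, dg, sp_mul, sp_mul, mul_one, one_mul] at hvt
    have h3 := congrFun (sp_inj hvt).2 i
    simp only [Equiv.Perm.one_apply] at h3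
    rw [mul_comm (sgn F _ (π i))] at h3
    have h4 := congrArg Units.val (mul_left_cancel h3)
    have hne : (-1 : F) ≠ 1 := fun e => O.two (by linear_combination -e)
    by_cases a1 : π i ∈ ({p, q} : Finset (Fin 5)) <;> by_cases a2 : i ∈ ({p, q} : Finset (Fin 5))
    · exact iff_of_true a1 a2
    · rw [sgn, sgn, if_pos a1, if_neg a2, Units.val_neg, Units.val_one] at h4; exact absurd h4.symm hne
    · rw [sgn, sgn, if_neg a1, if_pos a2, Units.val_neg, Units.val_one] at h4; exact absurd h4 hne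
    · exact iff_of_false a1 a2
  have hη : ∀ (x : V₅) (η : F), (ρ : M₅) *ᵥ x = η • x → ∀ i, (ε i : F) * x i = η ^ j * x (π i) := fun x η hx i => by
    have h := congrFun (hv ▸ hpw j x η hx : (v : M₅) *ᵥ x = η ^ j • x) (π i)
    rwa [e, sp_mulVec, Equiv.symm_apply_apply, Pi.smul_apply, smul_eq_mul] at h
  have hwe := hη w (-1) (ρw.trans (neg_one_smul F w).symm)
  have h4' := hη _ (-1) (ρ4.trans h4e.symm)
  have hfe := hη f 1 (ρf.trans (one_smul F f).symm)
  have hsq : ∀ i, (ε i : F) * ε i = 1 := O.sq_of_mem (e ▸ hvH)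
  have hj2 : ((-1 : F) ^ j) * (-1) ^ j = 1 := by rw [← mul_pow]; simp
  have π4 : π 4 = 4 ∧ (ε 4 : F) = (-1) ^ j := by
    have h := h4' 4
    rw [Pi.single_eq_same, mul_one] at h
    rcases eq_or_ne (π 4) 4 with e4 | e4
    · rw [e4, Pi.single_eq_same, mul_one] at h; exact ⟨e4, h⟩
    · rw [Pi.single_eq_of_ne e4, mul_zero] at h; exact absurd h (ε 4).ne_zero
  have hp : π p = p ∧ π q = q ∧ (ε p : F) = (-1) ^ j ∧ (ε q : F) = (-1) ^ j := by
    have wp : w p = a q := by simp [hw, pq]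
    have wq : w q = -a p := by simp [hw, Ne.symm pq]
    have h1 := hwe p
    have hpp : π p = p := by
      rcases Finset.mem_insert.1 ((hpres p).2 (by simp)) with h | h
      · exact h
      · rw [Finset.mem_singleton.1 h, wp, wq] at h1
        refine absurd ?_ hcon.1
        have := congrArg (fun z => z * z) h1
        linear_combination -this + (a q * a q) * hsq p - (a p * a p) * hj2
    have hqq : π q = q := by
      rcases Finset.mem_insert.1 ((hpres q).2 (by simp)) with h | h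
      · exact absurd (π.injective (h.trans hpp.symm)) (Ne.symm pq)
      · exact Finset.mem_singleton.1 h
    have h2' := hwe q
    rw [hpp, wp] at h1
    rw [hqq, wq] at h2'
    exact ⟨hpp, hqq, mul_right_cancel₀ (hne q q4) h1,
      mul_right_cancel₀ (neg_ne_zero.2 (hne p p4)) h2'⟩
  have hother : ∀ i, i = p ∨ i = q ∨ i = r ∨ i = s ∨ i = 4 := by
    intro i
    have huniv : ({p, q, r, s, 4} : Finset (Fin 5)) = Finset.univ := Finset.eq_univ_of_card _ (by
      rw [Finset.card_insert_of_notMem (by simp [pq, pr, ps, p4]),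
        Finset.card_insert_of_notMem (by simp [qr, qs', q4]),
        Finset.card_insert_of_notMem (by simp [rs, r4]), Finset.card_pair s4]
      rfl)
    have := huniv ▸ Finset.mem_univ i
    simpa using this
  have hr : π r = r ∧ π s = s ∧ (ε r : F) = 1 ∧ (ε s : F) = 1 := by
    have fr : f r = a s := by simp [hf, rs]
    have fs : f s = -a r := by simp [hf, Ne.symm rs]
    have h1 := hfe r
    rw [one_pow, one_mul] at h1
    have hrr : π r = r := by
      rcases hother (π r) with h | h | h | h | h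
      · exact absurd (π.injective (h.trans hp.1.symm)) (Ne.symm pr)
      · exact absurd (π.injective (h.trans hp.2.1.symm)) (Ne.symm qr)
      · exact h
      · rw [h, fr, fs] at h1
        refine absurd ?_ hcon.2
        have := congrArg (fun z => z * z) h1
        linear_combination -this + (a s * a s) * hsq r
      · exact absurd (π.injective (h.trans π4.1.symm)) r4
    have hss : π s = s := by
      rcases hother (π s) with h | h | h | h | h
      · exact absurd (π.injective (h.trans hp.1.symm)) (Ne.symm ps)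
      · exact absurd (π.injective (h.trans hp.2.1.symm)) (Ne.symm qs')
      · exact absurd (π.injective (h.trans hrr.symm)) (Ne.symm rs)
      · exact h
      · exact absurd (π.injective (h.trans π4.1.symm)) s4
    have h2' := hfe s
    rw [one_pow, one_mul] at h2'
    rw [hrr, fr] at h1
    rw [hss, fs] at h2'
    exact ⟨hrr, hss, (mul_eq_right₀ (hne s s4)).1 h1, (mul_eq_right₀ (neg_ne_zero.2 (hne r r4))).1 h2'⟩
  have hπ1 : π = 1 := Equiv.ext fun i => by
    rcases hother i with rfl | rfl | rfl | rfl | rfl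
    exacts [hp.1, hp.2.1, hr.1, hr.2.1, π4.1]
  have hd := O.det _ (e ▸ hvH)
  rw [sp_val, det_spMat, hπ1, map_one, show (Finset.univ : Finset (Fin 5)) = {p, q, r, s, 4} from
    (Finset.eq_univ_iff_forall.2 fun i => by simpa using hother i).symm,
    Finset.prod_insert (by simp [pq, pr, ps, p4]), Finset.prod_insert (by simp [qr, qs', q4]),
    Finset.prod_insert (by simp [rs, r4]), Finset.prod_pair s4, hp.2.2.1, hp.2.2.2, hr.2.2.1, hr.2.2.2, π4.2] at hd
  push_cast at hd
  have hj1 : ((-1 : F) ^ j) = 1 := by linear_combination hd - ((-1 : F) ^ j) * hj2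
  refine hv1 ?_
  rw [e, hπ1, ← sp_one]
  congr 1
  funext i
  refine Units.ext ?_
  rw [Units.val_one]
  rcases hother i with rfl | rfl | rfl | rfl | rfl
  exacts [hp.2.2.1.trans hj1, hp.2.2.2.trans hj1, hr.2.2.1, hr.2.2.2, π4.2.trans hj1]

theorem split_four : ∀ k : Fin 5, k ≠ 4 → ∃ q r s : Fin 5, q ≠ 4 ∧ r ≠ 4 ∧ s ≠ 4 ∧ k ≠ q ∧ k ≠ r ∧ k ≠ s ∧ q ≠ r ∧
    q ≠ s ∧ r ≠ s := by decide +kernel

theorem sum_four {k q r s : Fin 5} (k4 : k ≠ 4) (q4 : q ≠ 4) (r4 : r ≠ 4) (s4 : s ≠ 4) (kq : k ≠ q) (kr : k ≠ r)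
    (ks : k ≠ s) (qr : q ≠ r) (qs' : q ≠ s) (rs : r ≠ s) (f : Fin 5 → F) (h4 : f 4 = 0) :
    ∑ i, f i = f k + (f q + (f r + f s)) := by
  have huniv : ({k, q, r, s, 4} : Finset (Fin 5)) = Finset.univ := Finset.eq_univ_of_card _ (by
    rw [Finset.card_insert_of_notMem (by simp [kq, kr, ks, k4]),
      Finset.card_insert_of_notMem (by simp [qr, qs', q4]),
      Finset.card_insert_of_notMem (by simp [rs, r4]), Finset.card_pair s4]
    rfl)
  rw [← huniv, Finset.sum_insert (by simp [kq, kr, ks, k4]), Finset.sum_insert (by simp [qr, qs', q4]),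
    Finset.sum_insert (by simp [rs, r4]), Finset.sum_pair s4, h4, add_zero]

/-- All squares are one quarter. -/
theorem quarter (O : Fr H) [Fintype F] (h2 : Fix H 2) {g : GL₅} (hg : g ∈ H)
    (h4 : (g : M₅) *ᵥ Pi.single 4 1 = Pi.single 4 1) (hnm : ¬ Mon g) {l i : Fin 5} (hl : l ≠ 4) (hi : i ≠ 4) :
    4 * ((g : M₅) *ᵥ Pi.single l 1) i ^ 2 = 1 := by
  classical
  obtain ⟨a, ha⟩ : ∃ a, (g : M₅) *ᵥ Pi.single l 1 = a := ⟨_, rfl⟩
  rw [ha]
  have hne : ∀ k, k ≠ 4 → a k ≠ 0 := fun k hk => ha ▸ full O h2 hg h4 hnm hk hl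
  have ha4 : a 4 = 0 := by
    have h := O.polar_eq hg (Pi.single l 1) (Pi.single 4 1)
    rw [h4, ha] at h
    simpa [Pi.single_apply, hl, Ne.symm hl] using h
  have hnorm : ∀ k q r s : Fin 5, k ≠ 4 → q ≠ 4 → r ≠ 4 → s ≠ 4 → k ≠ q → k ≠ r → k ≠ s → q ≠ r → q ≠ s → r ≠ s →
      a k ^ 2 + (a q ^ 2 + (a r ^ 2 + a s ^ 2)) = 1 := fun k q r s k4 q4 r4 s4 kq kr ks qr qs' rs => by
    have h := O.polar_eq hg (Pi.single l 1) (Pi.single l 1)
    rw [ha, sum_four k4 q4 r4 s4 kq kr ks qr qs' rs _ (by rw [ha4]; ring)] at h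
    simp [Pi.single_apply] at h
    linear_combination h
  have he : ∀ p q r s : Fin 5, p ≠ 4 → q ≠ 4 → r ≠ 4 → s ≠ 4 → p ≠ q → p ≠ r → p ≠ s → q ≠ r → q ≠ s → r ≠ s →
      a p ^ 2 = a q ^ 2 ∨ a r ^ 2 = a s ^ 2 := fun p q r s p4 q4 r4 s4 pq pr ps qr qs' rs =>
    ha ▸ eq_pair O h2 hg h4 hnm hl p4 q4 r4 s4 pq pr ps qr qs' rs
  -- three of the squares agree
  obtain ⟨k, q, r, s, k4, q4, r4, s4, kq, kr, ks, qr, qs', rs, eqr, eqs⟩ : ∃ k q r s : Fin 5, k ≠ 4 ∧ q ≠ 4 ∧ r ≠ 4 ∧
      s ≠ 4 ∧ k ≠ q ∧ k ≠ r ∧ k ≠ s ∧ q ≠ r ∧ q ≠ s ∧ r ≠ s ∧ a q ^ 2 = a r ^ 2 ∧ a q ^ 2 = a s ^ 2 := by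
    rcases he 0 1 2 3 (by decide) (by decide) (by decide) (by decide) (by decide) (by decide) (by decide) (by decide)
      (by decide) (by decide) with h1 | h1 <;>
    rcases he 0 2 1 3 (by decide) (by decide) (by decide) (by decide) (by decide) (by decide) (by decide) (by decide)
      (by decide) (by decide) with h2' | h2' <;>
    rcases he 0 3 1 2 (by decide) (by decide) (by decide) (by decide) (by decide) (by decide) (by decide) (by decide)
      (by decide) (by decide) with h3 | h3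
    all_goals first
      | exact ⟨0, 1, 2, 3, by decide, by decide, by decide, by decide, by decide, by decide, by decide, by decide,
          by decide, by decide, by linear_combination h3, by linear_combination h2'⟩
      | exact ⟨0, 1, 2, 3, by decide, by decide, by decide, by decide, by decide, by decide, by decide, by decide,
          by decide, by decide, by linear_combination h3, by linear_combination h1 + h3⟩
      | exact ⟨0, 1, 2, 3, by decide, by decide, by decide, by decide, by decide, by decide, by decide, by decide,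
          by decide, by decide, by linear_combination h2' - h1, by linear_combination h2'⟩
      | exact ⟨1, 0, 2, 3, by decide, by decide, by decide, by decide, by decide, by decide, by decide, by decide,
          by decide, by decide, by linear_combination h2', by linear_combination h3⟩
      | exact ⟨1, 0, 2, 3, by decide, by decide, by decide, by decide, by decide, by decide, by decide, by decide,
          by decide, by decide, by linear_combination h2', by linear_combination h2' + h1⟩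
      | exact ⟨1, 0, 2, 3, by decide, by decide, by decide, by decide, by decide, by decide, by decide, by decide,
          by decide, by decide, by linear_combination h3 - h1, by linear_combination h3⟩
      | exact ⟨2, 0, 1, 3, by decide, by decide, by decide, by decide, by decide, by decide, by decide, by decide,
          by decide, by decide, by linear_combination h1, by linear_combination h3⟩
      | exact ⟨2, 0, 1, 3, by decide, by decide, by decide, by decide, by decide, by decide, by decide, by decide,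
          by decide, by decide, by linear_combination h1, by linear_combination h1 + h2'⟩
      | exact ⟨2, 0, 1, 3, by decide, by decide, by decide, by decide, by decide, by decide, by decide, by decide,
          by decide, by decide, by linear_combination h3 - h2', by linear_combination h3⟩
      | exact ⟨3, 0, 1, 2, by decide, by decide, by decide, by decide, by decide, by decide, by decide, by decide,
          by decide, by decide, by linear_combination h1, by linear_combination h2'⟩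
      | exact ⟨3, 0, 1, 2, by decide, by decide, by decide, by decide, by decide, by decide, by decide, by decide,
          by decide, by decide, by linear_combination h1, by linear_combination h1 + h3⟩
      | exact ⟨3, 0, 1, 2, by decide, by decide, by decide, by decide, by decide, by decide, by decide, by decide,
          by decide, by decide, by linear_combination h2' - h3, by linear_combination h2'⟩
  -- compare with a second column
  obtain ⟨u, hu⟩ : ∃ u, u = g * dg {l, 4} * g⁻¹ := ⟨_, rfl⟩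
  obtain ⟨g', hg'⟩ : ∃ g', g' = u * dg {r, 4} := ⟨_, rfl⟩
  have hg'H : g' ∈ H := hg' ▸ mul_mem (hu ▸ mul_mem (mul_mem hg (O.mem_pair hl)) (inv_mem hg)) (O.mem_pair r4)
  have hcol : ∀ x, x ≠ r → (g' : M₅) *ᵥ Pi.single x 1 =
      (sgn F {r, (4 : Fin 5)} x : F) • (Pi.single x 1 - (2 * a x) • a -
        (2 * (Pi.single x (1 : F) : V₅) 4) • Pi.single 4 1) := fun x _ => by
    rw [hg', Units.val_mul, ← Matrix.mulVec_mulVec, dg_single, Matrix.mulVec_smul, hu, conj_apply O hg h4 hl ha]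
    simp [Pi.single_apply]
  have h4' : (g' : M₅) *ᵥ Pi.single 4 1 = Pi.single 4 1 := by
    rw [hcol 4 (Ne.symm r4), ha4, show sgn F {r, (4 : Fin 5)} 4 = -1 from if_pos (by simp), Pi.single_eq_same]
    funext o
    rcases eq_or_ne o 4 with rfl | ho
    · simp; ring
    · simp [ho]
  obtain ⟨b, hb⟩ : ∃ b, (g' : M₅) *ᵥ Pi.single q 1 = b := ⟨_, rfl⟩
  have hbo : ∀ o, o ≠ 4 → b o = (if o = q then 1 else 0) - 2 * a q * a o := fun o ho => by
    rw [← hb, hcol q qr, show sgn F {r, (4 : Fin 5)} q = 1 from if_neg (by simp [qr, q4])]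
    simp [Pi.single_apply, ho, Ne.symm q4]
  have hnm' : ¬ Mon g' := by
    intro hm
    obtain ⟨j, hj⟩ := hm q
    have hne2 : ∀ o, o ≠ 4 → o ≠ q → b o ≠ 0 := fun o ho hoq => by
      rw [hbo o ho, if_neg hoq, zero_sub]
      exact neg_ne_zero.2 (mul_ne_zero (mul_ne_zero O.two (hne q q4)) (hne o ho))
    have hz : ∀ o, o ≠ j → b o = 0 := fun o ho => by rw [← hb, gl_col]; exact hj o ho
    rcases eq_or_ne r j with rfl | hr
    · exact hne2 s s4 (Ne.symm qs') (hz s (Ne.symm rs))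
    · exact hne2 r r4 (Ne.symm qr) (hz r hr)
  have hq4 : 4 * a q ^ 2 = 1 := by
    have h := eq_pair O h2 hg'H h4' hnm' (l := q) (p := k) (q := r) (r := q) (s := s) q4 k4 r4 q4 s4 kr kq ks
      (Ne.symm qr) rs qs'
    rw [hb, hbo k k4, hbo r r4, hbo q q4, hbo s s4, if_neg kq, if_neg (Ne.symm qr), if_pos rfl,
      if_neg (Ne.symm qs')] at h
    rcases h with h | h
    · have hkr : a k ^ 2 = a r ^ 2 := mul_left_cancel₀ (pow_ne_zero 2 (mul_ne_zero O.two (hne q q4)))
        (by linear_combination h)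
      linear_combination hnorm k q r s k4 q4 r4 s4 kq kr ks qr qs' rs - hkr + 2 * eqr + eqs
    · linear_combination -h + (4 * a q ^ 2) * eqs
  have hall : 4 * a k ^ 2 = 1 := by
    linear_combination 4 * hnorm k q r s k4 q4 r4 s4 kq kr ks qr qs' rs - 3 * hq4 + 4 * eqr + 4 * eqs
  have hi' : i = k ∨ i = q ∨ i = r ∨ i = s := by
    have huniv : ({k, q, r, s, 4} : Finset (Fin 5)) = Finset.univ := Finset.eq_univ_of_card _ (by
      rw [Finset.card_insert_of_notMem (by simp [kq, kr, ks, k4]),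
        Finset.card_insert_of_notMem (by simp [qr, qs', q4]),
        Finset.card_insert_of_notMem (by simp [rs, r4]), Finset.card_pair s4]
      rfl)
    have := huniv ▸ Finset.mem_univ i
    simp at this
    tauto
  rcases hi' with rfl | rfl | rfl | rfl
  exacts [hall, hq4, by linear_combination hq4 - 4 * eqr, by linear_combination hq4 - 4 * eqs]

end Half

end Cfsg.Agent.Classical.OrthFrame
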