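import Cfsg.Agent.Lib.Classical.MaxFrameConcl
import Cfsg.Agent.Lib.Classical.DicksonTraces

/-!
Three-dimensional rotations as conjugations on quaternions of trace zero inside two-by-two matrices.
-/

set_option autoImplicit false
set_option linter.unusedSectionVars false
set_option quotPrecheck false

namespace Cfsg.Agent.Classical.OrthFrame

open Matrix Module MaxTv OrthAut

variable {F : Type*} [Field F] {a b : F}

local notation "V₃" => (Fin 3 → F)
local notation "M₂" => Matrix (Fin 2) (Fin 2) F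
local notation "GL₂" => GL (Fin 2) F
local notation "GL₃" => GL (Fin 3) F

/-- The cross product. -/
def cr (x y : Fin 3 → F) : Fin 3 → F :=
  ![x 1 * y 2 - x 2 * y 1, x 2 * y 0 - x 0 * y 2, x 0 * y 1 - x 1 * y 0]

/-- The quaternion of trace zero with three given coordinates. -/
def vm (a b : F) : (Fin 3 → F) →ₗ[F] Matrix (Fin 2) (Fin 2) F where
  toFun x := !![x 1 * a - x 2 * b, -x 0 + x 1 * b + x 2 * a; x 0 + x 1 * b + x 2 * a, -(x 1 * a - x 2 * b)]
  map_add' x y := by
    ext i j; fin_cases i <;> fin_cases j <;> simp <;> ring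
  map_smul' c x := by
    ext i j; fin_cases i <;> fin_cases j <;> simp <;> ring

/-- The coordinates of a matrix of trace zero. -/
def co (a b : F) : Matrix (Fin 2) (Fin 2) F →ₗ[F] (Fin 3 → F) where
  toFun X := ![(X 1 0 - X 0 1) / 2, -(X 0 0 * a + (X 1 0 + X 0 1) / 2 * b),
    X 0 0 * b - (X 1 0 + X 0 1) / 2 * a]
  map_add' X Y := by
    ext i; fin_cases i <;> simp <;> ring
  map_smul' c X := by
    ext i; fin_cases i <;> simp <;> ring

theorem vm_mul (hab : a * a + b * b = -1) (x y : V₃) :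
    vm a b x * vm a b y = -(x 0 * y 0 + x 1 * y 1 + x 2 * y 2) • (1 : M₂) + vm a b (cr x y) := by
  ext i j
  fin_cases i <;> fin_cases j <;> simp [vm, cr, Matrix.mul_apply, Fin.sum_univ_two]
  · linear_combination (x 1 * y 1 + x 2 * y 2) * hab
  · linear_combination (x 1 * y 2 - x 2 * y 1) * hab
  · linear_combination -(x 1 * y 2 - x 2 * y 1) * hab
  · linear_combination (x 1 * y 1 + x 2 * y 2) * hab

theorem trace_vm (x : V₃) : (vm a b x).trace = 0 := by
  simp [vm, Matrix.trace_fin_two]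

theorem det_vm (hab : a * a + b * b = -1) (x : V₃) : (vm a b x).det = qs F 3 x := by
  rw [Matrix.det_fin_two, qs_apply, Fin.sum_univ_three]
  simp [vm]
  linear_combination -(x 1 * x 1 + x 2 * x 2) * hab

theorem co_vm (h2 : (2 : F) ≠ 0) (hab : a * a + b * b = -1) (x : V₃) : co a b (vm a b x) = x := by
  ext i
  fin_cases i <;> simp [co, vm] <;> field_simp
  · ring
  · linear_combination -(2 * x 1) * hab
  · linear_combination -(2 * x 2) * hab

theorem vm_co (h2 : (2 : F) ≠ 0) (hab : a * a + b * b = -1) {X : M₂} (hX : X.trace = 0) :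
    vm a b (co a b X) = X := by
  rw [Matrix.trace_fin_two] at hX
  ext i j
  fin_cases i <;> fin_cases j <;> simp [co, vm] <;> field_simp
  · linear_combination -(2 * X 0 0) * hab
  · linear_combination -(X 1 0 + X 0 1) * hab
  · linear_combination -(X 1 0 + X 0 1) * hab
  · linear_combination 2 * X 0 0 * hab - 2 * hX

theorem vm_injective (h2 : (2 : F) ≠ 0) (hab : a * a + b * b = -1) : Function.Injective (vm a b) :=
  fun x y e => by rw [← co_vm h2 hab x, e, co_vm h2 hab]

/-- Conjugation in the three coordinates. -/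
noncomputable def adjM (a b : F) (A : GL (Fin 2) F) : Matrix (Fin 3) (Fin 3) F :=
  LinearMap.toMatrix' (co a b ∘ₗ (LinearMap.mulLeft F (A : Matrix (Fin 2) (Fin 2) F) ∘ₗ
    (LinearMap.mulRight F ((A⁻¹ : GL (Fin 2) F) : Matrix (Fin 2) (Fin 2) F) ∘ₗ vm a b)))

theorem adjM_mulVec (A : GL₂) (x : V₃) :
    adjM a b A *ᵥ x = co a b ((A : M₂) * (vm a b x * ((A⁻¹ : GL₂) : M₂))) := by
  rw [adjM, LinearMap.toMatrix'_mulVec]; rfl

theorem vm_adjM (h2 : (2 : F) ≠ 0) (hab : a * a + b * b = -1) (A : GL₂) (x : V₃) :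
    vm a b (adjM a b A *ᵥ x) * (A : M₂) = (A : M₂) * vm a b x := by
  rw [adjM_mulVec, vm_co h2 hab (by rw [← mul_assoc, Matrix.trace_mul_cycle, ← Units.val_mul, inv_mul_cancel,
    Units.val_one, one_mul, trace_vm]), mul_assoc, mul_assoc, ← Units.val_mul, inv_mul_cancel, Units.val_one,
    mul_one]

theorem adjM_eq (h2 : (2 : F) ≠ 0) (hab : a * a + b * b = -1) (A : GL₂) (g : Matrix (Fin 3) (Fin 3) F)
    (h : ∀ x, (A : M₂) * vm a b x = vm a b (g *ᵥ x) * (A : M₂)) : adjM a b A = g := by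
  refine Matrix.ext_iff_mulVec.2 fun x => vm_injective h2 hab ?_
  have h1 := (vm_adjM h2 hab A x).trans (h x)
  exact mul_right_cancel₀_of_unit h1
where
  mul_right_cancel₀_of_unit {X Y : M₂} {A : GL₂} (h : X * (A : M₂) = Y * (A : M₂)) : X = Y :=
    (Units.mul_left_inj A).1 h

/-- The homomorphism onto rotations. -/
noncomputable def adj (h2 : (2 : F) ≠ 0) (hab : a * a + b * b = -1) : GL (Fin 2) F →* GL (Fin 3) F :=
  MonoidHom.toHomUnits
    { toFun := adjM a b
      map_one' := adjM_eq h2 hab 1 1 fun x => by simp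
      map_mul' := fun A A' => adjM_eq h2 hab (A * A') _ fun x => by
        rw [← Matrix.mulVec_mulVec, Units.val_mul, mul_assoc, ← vm_adjM h2 hab A', ← mul_assoc, ← vm_adjM h2 hab A,
          mul_assoc] }

theorem adj_val (h2 : (2 : F) ≠ 0) (hab : a * a + b * b = -1) (A : GL₂) :
    ((adj h2 hab A : GL₃) : Matrix (Fin 3) (Fin 3) F) = adjM a b A := rfl

theorem adj_eq (h2 : (2 : F) ≠ 0) (hab : a * a + b * b = -1) (A : GL₂) (g : GL₃)
    (h : ∀ l, (A : M₂) * vm a b (Pi.single l 1) =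
      vm a b ((g : Matrix (Fin 3) (Fin 3) F) *ᵥ Pi.single l 1) * (A : M₂)) : adj h2 hab A = g := by
  refine Units.ext (adjM_eq h2 hab A _ fun x => ?_)
  conv_lhs => rw [pi_eq_sum_univ' x]
  conv_rhs => rw [pi_eq_sum_univ' x]
  simp only [map_sum, map_smul, Matrix.mulVec_sum, Matrix.mulVec_smul, Finset.mul_sum, Finset.sum_mul,
    mul_smul_comm, smul_mul_assoc, h]

theorem adj_conj (h2 : (2 : F) ≠ 0) (hab : a * a + b * b = -1) (A : GL₂) (x : V₃) :
    vm a b (((adj h2 hab A : GL₃) : Matrix (Fin 3) (Fin 3) F) *ᵥ x) =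
      (A : M₂) * vm a b x * ((A⁻¹ : GL₂) : M₂) := by
  rw [adj_val, ← vm_adjM h2 hab A x, mul_assoc, ← Units.val_mul, mul_inv_cancel, Units.val_one, mul_one]

/-- Every rotation is a conjugation. -/
theorem exists_adj (h2 : (2 : F) ≠ 0) (hab : a * a + b * b = -1) {g : GL₃}
    (hiso : ∀ x, qs F 3 ((g : Matrix (Fin 3) (Fin 3) F) *ᵥ x) = qs F 3 x)
    (hdet : (g : Matrix (Fin 3) (Fin 3) F).det = 1) : ∃ P : GL₂, adj h2 hab P = g := by
  obtain ⟨G, hG⟩ : ∃ G, G = (g : Matrix (Fin 3) (Fin 3) F) := ⟨_, rfl⟩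
  rw [← hG] at hdet hiso
  have hpol : ∀ x y, ∑ i, (G *ᵥ x) i * (G *ᵥ y) i = ∑ i, x i * y i := fun x y => by
    refine mul_left_cancel₀ h2 ?_
    rw [← polar_qs, ← polar_qs]
    exact OrthAut.isometry_polar hiso x y
  have horth : Gᵀ * G = 1 := by
    ext i j
    have h := hpol (Pi.single i 1) (Pi.single j 1)
    simp only [Matrix.mulVec_single, MulOpposite.op_one, one_smul, Matrix.col_apply] at h
    rw [Matrix.mul_apply]
    simp only [Matrix.transpose_apply, h]
    simp [Matrix.one_apply, Pi.single_apply, eq_comm]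
  have hadj : G.adjugate = Gᵀ := by
    rw [← mul_one G.adjugate, ← mul_eq_one_comm.1 horth, ← mul_assoc, Matrix.adjugate_mul, hdet, one_smul, one_mul]
  obtain ⟨u, hu⟩ : ∃ u : Fin 3 → F, u = fun k => G k 0 := ⟨_, rfl⟩
  obtain ⟨v, hv⟩ : ∃ v : Fin 3 → F, v = fun k => G k 1 := ⟨_, rfl⟩
  have hw : ∀ k, G k 2 = cr u v k := fun k => by
    have h := congrFun (congrFun hadj 2) k
    rw [Matrix.transpose_apply, Matrix.adjugate_fin_three] at h
    rw [← h, hu, hv]
    fin_cases k <;> simp [cr] <;> ring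
  have hdot : ∀ i j, G 0 i * G 0 j + G 1 i * G 1 j + G 2 i * G 2 j = if i = j then 1 else 0 := fun i j => by
    have h := congrFun (congrFun horth i) j
    rw [Matrix.mul_apply, Fin.sum_univ_three, Matrix.one_apply] at h
    exact h
  have huv : ∀ x : V₃, x 0 = 1 → x 1 = 0 → x 2 = 0 → vm a b x * vm a b x = -1 := fun x e0 e1 e2 => by
    rw [vm_mul hab, e0, e1, e2, show cr x x = 0 by ext i; fin_cases i <;> simp [cr] <;> ring]
    simp
  obtain ⟨e, he⟩ : ∃ e : Fin 3 → V₃, e = fun l => Pi.single l 1 := ⟨_, rfl⟩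
  have hqu : qs F 3 u = 1 := by rw [qs_apply, Fin.sum_univ_three, hu]; simpa using hdot 0 0
  have hqv : qs F 3 v = 1 := by rw [qs_apply, Fin.sum_univ_three, hv]; simpa using hdot 1 1
  have hIJ : vm a b (e 0) * vm a b (e 1) = vm a b (e 2) := by
    rw [vm_mul hab, show cr (e 0) (e 1) = e 2 by ext i; fin_cases i <;> simp [cr, he]]
    simp [he]
  have hJI : vm a b (e 1) * vm a b (e 0) = -vm a b (e 2) := by
    rw [vm_mul hab, show cr (e 1) (e 0) = -e 2 by ext i; fin_cases i <;> simp [cr, he], map_neg]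
    simp [he]
  have hq : ∀ l, qs F 3 (e l) = 1 := fun l => by simp [qs_apply, he, Pi.single_apply]
  obtain ⟨P, hP0, hP1⟩ := Dickson.Traces.exists_conj (A := vm a b (e 0)) (B := vm a b (e 1))
    (A' := vm a b u) (B' := vm a b v) (by rw [trace_vm, trace_vm]) (by rw [det_vm hab, det_vm hab, hq, hqu])
    (by rw [trace_vm, trace_vm]) (by rw [det_vm hab, det_vm hab, hq, hqv])
    (by
      rw [hIJ, trace_vm, vm_mul hab, Matrix.trace_add, trace_vm, Matrix.trace_smul]
      have h := hdot 0 1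
      rw [if_neg (by decide)] at h
      rw [hu, hv, h]
      simp)
    (by
      rw [hIJ, hJI, sub_neg_eq_add, ← map_add, det_vm hab, ← two_smul F (e 2), QuadraticMap.map_smul, hq]
      simp [h2])
  refine ⟨P, adj_eq h2 hab P g fun l => ?_⟩
  have hcol : ∀ l, (g : Matrix (Fin 3) (Fin 3) F) *ᵥ Pi.single l 1 = fun k => G k l := fun l => by
    ext k; simp [hG, Matrix.mulVec_single]
  rw [hcol, show Pi.single l (1 : F) = e l by rw [he]]
  fin_cases l
  · rw [hu] at hP0; exact hP0
  · rw [hv] at hP1; exact hP1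
  · have hwv : (fun k => G k 2) = cr u v := funext hw
    show (P : M₂) * vm a b (e 2) = vm a b (fun k => G k 2) * (P : M₂)
    have hz : vm a b u * vm a b v = vm a b (cr u v) := by
      rw [vm_mul hab]
      have h := hdot 0 1
      rw [if_neg (by decide)] at h
      rw [hu, hv, h]
      simp
    rw [← hIJ, hwv, ← hz, ← mul_assoc, hP0, mul_assoc, hP1, mul_assoc]

/-- Siegel elements are conjugations by unipotent elements. -/
theorem exists_eMat (h2 : (2 : F) ≠ 0) (hab : a * a + b * b = -1) {s t : V₃} (hs : qs F 3 s = 0)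
    (hst : QuadraticMap.polar ⇑(qs F 3) s t = 0) (hs0 : s ≠ 0) :
    ∃ W : Matrix.SpecialLinearGroup (Fin 2) F,
      adjM a b (Matrix.SpecialLinearGroup.toGL W) = eMat (qs F 3) s t := by
  rw [qs_apply, Fin.sum_univ_three] at hs
  rw [polar_qs, Fin.sum_univ_three] at hst
  have hst' := (mul_eq_zero.1 hst).resolve_left h2
  obtain ⟨i, hi⟩ : ∃ i, s i ≠ 0 := Function.ne_iff.1 hs0
  obtain ⟨c, hc⟩ : ∃ c, c = cr t s i / s i := ⟨_, rfl⟩
  have hcs : ∀ j, cr t s j = c * s j := fun j => by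
    rw [hc, div_mul_eq_mul_div, eq_div_iff hi]
    fin_cases i <;> fin_cases j <;> simp [cr]
    all_goals first
      | ring1
      | linear_combination t 0 * hs - s 0 * hst'
      | linear_combination s 0 * hst' - t 0 * hs
      | linear_combination t 1 * hs - s 1 * hst'
      | linear_combination s 1 * hst' - t 1 * hs
      | linear_combination t 2 * hs - s 2 * hst'
      | linear_combination s 2 * hst' - t 2 * hs
  have h0 := hcs 0
  have h1 := hcs 1
  have h3 := hcs 2
  simp [cr] at h0 h1 h3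
  obtain ⟨W, hW⟩ : ∃ W : Matrix.SpecialLinearGroup (Fin 2) F, (W : M₂) = 1 + vm a b (-c • s) := by
    refine ⟨⟨1 + vm a b (-c • s), ?_⟩, rfl⟩
    have e : (1 + vm a b (-c • s)).det = 1 + (vm a b (-c • s)).trace + (vm a b (-c • s)).det := by
      simp [Matrix.det_fin_two, Matrix.trace_fin_two]; ring
    rw [e, trace_vm, det_vm hab, QuadraticMap.map_smul, qs_apply, Fin.sum_univ_three, hs, smul_zero, add_zero,
      add_zero]
  refine ⟨W, adjM_eq h2 hab _ _ fun x => ?_⟩
  have hE : eMat (qs F 3) s t *ᵥ x =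
      x - (2 * c) • cr s x + (2 * c * c * (s 0 * x 0 + s 1 * x 1 + s 2 * x 2)) • s := by
    rw [eMat_mulVec, polar_qs, polar_qs, qs_apply, Fin.sum_univ_three, Fin.sum_univ_three, Fin.sum_univ_three]
    ext j
    fin_cases j <;> simp [cr, Matrix.vecHead, Matrix.vecTail]
    · linear_combination 2 * (x 1 * h3 - x 2 * h1) +
        2 * (s 0 * x 0 + s 1 * x 1 + s 2 * x 2) * (c * h0 + t 1 * h3 - t 2 * h1 - t 0 * hst')
    · linear_combination 2 * (x 2 * h0 - x 0 * h3) +
        2 * (s 0 * x 0 + s 1 * x 1 + s 2 * x 2) * (c * h1 + t 2 * h0 - t 0 * h3 - t 1 * hst')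
    · linear_combination 2 * (x 0 * h1 - x 1 * h0) +
        2 * (s 0 * x 0 + s 1 * x 1 + s 2 * x 2) * (c * h3 + t 0 * h1 - t 1 * h0 - t 2 * hst')
  rw [show ((Matrix.SpecialLinearGroup.toGL W : GL₂) : M₂) = W from rfl, hW, hE]
  obtain ⟨z, hz⟩ : ∃ z : V₃, z = -c • s := ⟨_, rfl⟩
  obtain ⟨y, hy⟩ : ∃ y : V₃,
      y = x - (2 * c) • cr s x + (2 * c * c * (s 0 * x 0 + s 1 * x 1 + s 2 * x 2)) • s := ⟨_, rfl⟩
  rw [← hz, ← hy, add_mul, mul_add, vm_mul hab, vm_mul hab, one_mul, mul_one]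
  have hdot : z 0 * x 0 + z 1 * x 1 + z 2 * x 2 = y 0 * z 0 + y 1 * z 1 + y 2 * z 2 := by
    rw [hy, hz]
    simp [cr, Matrix.vecHead, Matrix.vecTail]
    linear_combination 2 * c * c * c * (s 0 * x 0 + s 1 * x 1 + s 2 * x 2) * hs
  have hvec : x + cr z x = y + cr y z := by
    ext j
    rw [hy, hz]
    fin_cases j <;> simp [cr, Matrix.vecHead, Matrix.vecTail]
    · linear_combination -(2 * c * c * x 0) * hs
    · linear_combination -(2 * c * c * x 1) * hs
    · linear_combination -(2 * c * c * x 2) * hs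
  rw [hdot, add_left_comm, ← map_add, hvec, map_add]
  exact add_left_comm _ _ _

/-- Every element is a sum of two squares. -/
theorem exists_sq_add_sq [Fintype F] (h2 : (2 : F) ≠ 0) (r : F) : ∃ x y : F, x * x + y * y = r := by
  obtain ⟨x, y, e⟩ := FiniteField.exists_root_sum_quadratic (f := Polynomial.X ^ 2)
    (g := Polynomial.X ^ 2 - Polynomial.C r) (by simp) (Polynomial.degree_X_pow_sub_C (by norm_num) _)
    (by
      rcases Nat.even_or_odd (Fintype.card F) with he | ho
      · refine absurd ?_ h2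
        have hc : ringChar F = 2 := FiniteField.even_card_iff_char_two.2 (Nat.even_iff.1 he)
        haveI : CharP F 2 := hc ▸ ringChar.charP F
        exact CharP.cast_eq_zero F 2
      · exact Nat.odd_iff.1 ho)
  refine ⟨x, y, ?_⟩
  simp only [Polynomial.eval_pow, Polynomial.eval_X, Polynomial.eval_sub, Polynomial.eval_C] at e
  linear_combination e

/-- Rotations from the special linear group move the first frame vector to every unit vector. -/
theorem exists_col [Fintype F] (h2 : (2 : F) ≠ 0) (hab : a * a + b * b = -1) {f : V₃} (hf : qs F 3 f = 1) :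
    ∃ A : Matrix.SpecialLinearGroup (Fin 2) F,
      adjM a b (Matrix.SpecialLinearGroup.toGL A) *ᵥ Pi.single 0 1 = f := by
  obtain ⟨M, hM⟩ : ∃ M, M = vm a b f := ⟨_, rfl⟩
  have hMt : M 0 0 + M 1 1 = 0 := by rw [← Matrix.trace_fin_two, hM, trace_vm]
  have hMd : M 0 0 * M 1 1 - M 0 1 * M 1 0 = 1 := by rw [← Matrix.det_fin_two, hM, det_vm hab, hf]
  obtain ⟨I, hI⟩ : ∃ I : M₂, I = !![0, -1; 1, 0] := ⟨_, rfl⟩
  have he : vm a b (Pi.single 0 1) = I := by
    rw [hI]; ext i j; fin_cases i <;> fin_cases j <;> simp [vm]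
  obtain ⟨P, hP, hPd⟩ : ∃ P : M₂, P * I = M * P ∧ P.det ≠ 0 := by
    obtain ⟨v, w, hvw⟩ : ∃ v w : F, v * (M 1 0 * v + M 1 1 * w) - w * (M 0 0 * v + M 0 1 * w) ≠ 0 := by
      by_cases h10 : M 1 0 = 0
      · by_cases h01 : M 0 1 = 0
        · refine ⟨1, 1, fun h => ?_⟩
          rw [h10, h01] at h hMd
          have h00 : M 0 0 = 0 := (mul_eq_zero.1 (by linear_combination hMt - h : (2 : F) * M 0 0 = 0)).resolve_left h2
          rw [h00] at hMd
          exact zero_ne_one (by linear_combination hMd)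
        · exact ⟨0, 1, by simpa using h01⟩
      · exact ⟨1, 0, by simpa using h10⟩
    refine ⟨!![v, M 0 0 * v + M 0 1 * w; w, M 1 0 * v + M 1 1 * w], ?_, ?_⟩
    · rw [hI]
      ext i j
      fin_cases i <;> fin_cases j <;> simp [Matrix.mul_apply, Fin.sum_univ_two]
      · linear_combination v * hMd - (M 0 0 * v + M 0 1 * w) * hMt
      · linear_combination w * hMd - (M 1 0 * v + M 1 1 * w) * hMt
    · rw [Matrix.det_fin_two]
      simp only [Matrix.of_apply, Matrix.cons_val_zero, Matrix.cons_val_one, Matrix.cons_val', Matrix.cons_val_fin_one]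
      intro h
      exact hvw (by linear_combination h)
  obtain ⟨x, y, hxy⟩ := exists_sq_add_sq h2 P.det⁻¹
  refine ⟨⟨P * (x • (1 : M₂) + y • I), ?_⟩, vm_injective h2 hab (mul_right_cancel₀_of_isUnit ?_ ?_)⟩
  · rw [Matrix.det_mul, hI, Matrix.det_fin_two (x • (1 : M₂) + y • _)]
    simp
    rw [hxy, mul_inv_cancel₀ hPd]
  · exact Matrix.SpecialLinearGroup.toGL
      ⟨P * (x • (1 : M₂) + y • I), by
        rw [Matrix.det_mul, hI, Matrix.det_fin_two (x • (1 : M₂) + y • _)]
        simp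
        rw [hxy, mul_inv_cancel₀ hPd]⟩
  · rw [vm_adjM h2 hab, he, ← hM]
    show P * (x • (1 : M₂) + y • I) * I = M * (P * (x • (1 : M₂) + y • I))
    rw [← mul_assoc M, ← hP, mul_assoc, mul_assoc]
    congr 1
    simp only [add_mul, mul_add, smul_mul_assoc, mul_smul_comm, one_mul, mul_one]
where
  mul_right_cancel₀_of_isUnit {X Y : M₂} (A : GL₂) (h : X * (A : M₂) = Y * (A : M₂)) : X = Y :=
    (Units.mul_left_inj A).1 h

end Cfsg.Agent.Classical.OrthFrame
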