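import Cfsg.Agent.Lib.Classical.MaxFrameQuat
import Cfsg.Agent.Lib.Classical.DicksonMaximal
import Cfsg.Agent.Lib.Classical.DicksonMaxFacts

/-!
In dimension three, a rotation group containing the frame group, invariant under a transposition of the frame and
not monomial, contains all rotations coming from the special linear group.
-/

set_option autoImplicit false
set_option linter.unusedSectionVars false
set_option linter.style.haveILetI false
set_option quotPrecheck false

namespace Cfsg.Agent.Classical.OrthFrame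

open Matrix Module MaxTv OrthAut Cfsg.Agent.Dickson Cfsg.Agent.Grp.SL2 Cfsg.Agent.PSL2Spec

namespace Rot

/-- The three involutions of `A₄`. -/
def kl : Fin 3 → alternatingGroup (Fin 4) :=
  ![⟨Equiv.swap 0 1 * Equiv.swap 2 3, by simp [Equiv.Perm.mem_alternatingGroup]⟩,
    ⟨Equiv.swap 0 2 * Equiv.swap 1 3, by simp [Equiv.Perm.mem_alternatingGroup]⟩,
    ⟨Equiv.swap 0 3 * Equiv.swap 1 2, by simp [Equiv.Perm.mem_alternatingGroup]⟩]

/-- Three orthogonal vectors in the standard module of `A₄`. -/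
def hv : Fin 4 → Fin 3 → ℤ := ![![1, 1, 1], ![1, -1, -1], ![-1, 1, -1], ![-1, -1, 1]]

/-- The rotation action of `A₄`, with integral entries. -/
def rent (π : alternatingGroup (Fin 4)) (k l : Fin 3) : ℤ :=
  (∑ i, hv ((π : Equiv.Perm (Fin 4)) i) k * hv i l) / 4

/-- The rotation matrix. -/
def rmat (π : alternatingGroup (Fin 4)) : Matrix (Fin 3) (Fin 3) ℤ := Matrix.of (rent π)

theorem rmat_one : rmat 1 = 1 := by decide +kernel

theorem rmat_mul : ∀ π π', rmat (π * π') = rmat π * rmat π' := by decide +kernel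

theorem rmat_inj : ∀ π π', rmat π = rmat π' → π = π' := by decide +kernel

theorem rmat_kl : ∀ l, rmat (kl l) = Matrix.diagonal (fun i => if i = l then 1 else -1) := by decide +kernel

theorem rmat_b4 : ∀ i j, rent Exc.b4 i j =
    if (Equiv.swap (0 : Fin 3) 1 * Equiv.swap 0 2 : Equiv.Perm (Fin 3)) j = i then (if j = 1 then 1 else -1) else 0 := by decide +kernel

set_option synthInstance.maxSize 512 in
set_option synthInstance.maxHeartbeats 200000 in
theorem rmat_entries : ∀ (π : alternatingGroup (Fin 4)) (i j : Fin 3),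
    rent π i j = 1 ∨ rent π i j = 0 ∨ rent π i j = -1 := by
  decide +kernel

theorem a4_eq : Exc.a4 = kl 0 := rfl

theorem kl_comm : ∀ l, ∃ s t : alternatingGroup (Fin 4), kl l = s * t * s⁻¹ * t⁻¹ := by decide +kernel

theorem kl_spec : (∀ l, kl l ≠ 1 ∧ kl l * kl l = 1) ∧ Function.Injective kl ∧ kl 0 * kl 1 = kl 2 ∧
    kl 0 * kl 1 = kl 1 * kl 0 := by decide +kernel

theorem even_inv : ∀ π : Equiv.Perm (Fin 4), Equiv.Perm.sign π = 1 → π * π = 1 → π ≠ 1 →
    ∃ l, π = (kl l : Equiv.Perm (Fin 4)) := by decide +kernel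

/-- Involutions of `A₅` used to pin down a four-group. -/
def w5 : Fin 3 → alternatingGroup (Fin 5) :=
  ![⟨Equiv.swap 0 1 * Equiv.swap 2 3, by simp [Equiv.Perm.mem_alternatingGroup]⟩,
    ⟨Equiv.swap 0 2 * Equiv.swap 1 3, by simp [Equiv.Perm.mem_alternatingGroup]⟩,
    ⟨Equiv.swap 0 3 * Equiv.swap 1 2, by simp [Equiv.Perm.mem_alternatingGroup]⟩]

/-- A further involution. -/
def b5 : alternatingGroup (Fin 5) := ⟨Equiv.swap 1 2 * Equiv.swap 3 4, by simp [Equiv.Perm.mem_alternatingGroup]⟩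

theorem five_conj : ∀ x : alternatingGroup (Fin 5), x ≠ 1 → x * x = 1 → ∃ u, u * x * u⁻¹ = w5 0 := by
  decide +kernel

theorem five_centr : ∀ x : alternatingGroup (Fin 5), x * x = 1 → x * w5 0 = w5 0 * x → x = 1 ∨ ∃ l, x = w5 l := by
  decide +kernel

set_option synthInstance.maxSize 512 in
set_option synthInstance.maxHeartbeats 200000 in
theorem five_data : ∀ x : alternatingGroup (Fin 5), x * x = 1 → (w5 0 * x) ^ 5 = 1 → w5 0 * x ≠ 1 →
    (w5 2 * x) ^ 5 = 1 → (w5 1 * x) ^ 3 = 1 →
    ∃ u, w5 0 * x = u * (w5 0 * b5) ^ 2 * u⁻¹ := by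
  decide +kernel

theorem five_facts : b5 * b5 = 1 ∧ (w5 0 * b5) ^ 5 = 1 ∧ w5 0 * b5 ≠ 1 ∧ (w5 1 * b5) ^ 5 = 1 ∧
    (w5 2 * b5) ^ 3 = 1 := by decide +kernel

variable {F : Type*} [Field F] {a b : F} (h2 : (2 : F) ≠ 0) (hab : a * a + b * b = -1)

local notation "M₂" => Matrix (Fin 2) (Fin 2) F
local notation "GL₃" => GL (Fin 3) F
local notation "SL₂" => Matrix.SpecialLinearGroup (Fin 2) F
local notation "PSL₂" => Matrix.ProjectiveSpecialLinearGroup (Fin 2) F

/-- Rotations of the special linear group. -/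
noncomputable def adjSL : Matrix.SpecialLinearGroup (Fin 2) F →* GL (Fin 3) F :=
  (adj h2 hab).comp Matrix.SpecialLinearGroup.toGL

theorem adjSL_val (A : SL₂) :
    ((adjSL h2 hab A : GL₃) : Matrix (Fin 3) (Fin 3) F) = adjM a b (Matrix.SpecialLinearGroup.toGL A) := rfl

theorem adjSL_neg (A : SL₂) : adjSL h2 hab (-A) = adjSL h2 hab A :=
  adj_eq h2 hab _ _ fun l => by
    show ((-A : SL₂) : M₂) * _ = _ * ((-A : SL₂) : M₂)
    rw [Matrix.SpecialLinearGroup.coe_neg, neg_mul, mul_neg, neg_inj, adjSL_val]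
    exact (vm_adjM h2 hab (Matrix.SpecialLinearGroup.toGL A) _).symm

variable [Fintype F]

theorem adjSL_eq_one {A : SL₂} (h : adjSL h2 hab A = 1) : proj A = 1 := by
  have hc : ∀ x, vm a b x * (A : M₂) = (A : M₂) * vm a b x := fun x => by
    have h1 := vm_adjM h2 hab (Matrix.SpecialLinearGroup.toGL A) x
    rw [← adjSL_val h2 hab, h, Units.val_one, Matrix.one_mulVec] at h1
    exact h1
  have e0 := hc ![1, 0, 0]
  have e1 := hc ![0, 1, 0]
  obtain ⟨N, hN⟩ : ∃ N : M₂, N = (A : M₂) := ⟨_, rfl⟩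
  rw [← hN] at e0 e1
  have k00 := congrFun (congrFun e0 0) 0
  have k01 := congrFun (congrFun e0 0) 1
  have l00 := congrFun (congrFun e1 0) 0
  have l01 := congrFun (congrFun e1 0) 1
  simp [vm, Matrix.mul_apply, Fin.sum_univ_two] at k00 k01 l00 l01
  have hd : N 1 1 = N 0 0 := by linear_combination k01
  have hs : N 1 0 = -N 0 1 := by linear_combination -k00
  have hb0 : b * N 0 1 = 0 :=
    (mul_eq_zero.1 (by linear_combination -l00 + b * hs : (2 : F) * (b * N 0 1) = 0)).resolve_left h2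
  have ha0 : a * N 0 1 = 0 :=
    (mul_eq_zero.1 (by linear_combination l01 - b * hd : (2 : F) * (a * N 0 1) = 0)).resolve_left h2
  have h01 : N 0 1 = 0 := by linear_combination -a * ha0 - b * hb0 + N 0 1 * hab
  have hdet : N 0 0 * N 0 0 = 1 := by
    have h := A.2
    rw [← hN, Matrix.det_fin_two, hd, h01] at h
    linear_combination h
  rcases mul_self_eq_one_iff.1 hdet with e | e
  · rw [show A = 1 from Subtype.ext (by
      rw [← hN]; ext i j; fin_cases i <;> fin_cases j <;> simp [hd, hs, h01, e]), map_one]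
  · rw [show A = -1 from Subtype.ext (by
      rw [← hN]; ext i j; fin_cases i <;> fin_cases j <;> simp [hd, hs, h01, e]), proj_neg, map_one]

/-- The rotations of the projective group. -/
noncomputable def adjP : Matrix.ProjectiveSpecialLinearGroup (Fin 2) F →* GL (Fin 3) F :=
  QuotientGroup.lift (Subgroup.center _) (adjSL h2 hab) fun z hz => by
    have h : proj z = proj (1 : SL₂) := by rw [map_one]; exact (QuotientGroup.eq_one_iff z).2 hz
    rw [MonoidHom.mem_ker]
    rcases proj_eq_iff.mp h with e | e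
    · rw [show z = 1 from e.symm, map_one]
    · rw [show z = -1 from neg_eq_iff_eq_neg.mp e.symm, adjSL_neg, map_one]

theorem adjP_proj (A : SL₂) : adjP h2 hab (proj A) = adjSL h2 hab A := rfl

theorem adjP_injective : Function.Injective (adjP h2 hab) := (injective_iff_map_eq_one _).2 fun x hx => by
  obtain ⟨A, rfl⟩ := proj_surjective x
  exact adjSL_eq_one h2 hab (by rwa [adjP_proj] at hx)

/-- The rotation group of `A₄`. -/
noncomputable def rho : alternatingGroup (Fin 4) →* GL (Fin 3) F :=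
  MonoidHom.toHomUnits
    { toFun := fun π => (Int.castRingHom F).mapMatrix (rmat π)
      map_one' := by rw [rmat_one, map_one]
      map_mul' := fun π π' => by rw [rmat_mul, map_mul] }

theorem rho_kl (l : Fin 3) : (rho (kl l) : GL₃) = dg {l}ᶜ := by
  refine Units.ext ?_
  show (Int.castRingHom F).mapMatrix (rmat (kl l)) = spMat 1 _
  rw [rmat_kl]
  ext i j
  rcases eq_or_ne i j with e | e
  · subst e
    by_cases hl : i = l <;> simp [spMat, sgn, hl]
  · simp [spMat, e, Ne.symm e, Matrix.diagonal_apply_ne]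

include h2 in
theorem rho_injective : Function.Injective (rho (F := F)) := by
  intro π π' e
  refine rmat_inj π π' (Matrix.ext fun i j => ?_)
  have h := congrFun (congrFun (congrArg (fun g : GL₃ => (g : Matrix (Fin 3) (Fin 3) F)) e) i) j
  have hb : ∀ (π : alternatingGroup (Fin 4)) (i j : Fin 3), rent π i j = 1 ∨ rent π i j = 0 ∨ rent π i j = -1 :=
    rmat_entries
  change ((rent π i j : ℤ) : F) = ((rent π' i j : ℤ) : F) at h
  show rent π i j = rent π' i j
  rcases hb π i j with u | u | u <;> rcases hb π' i j with v | v | v <;> rw [u, v] at h ⊢ <;> push_cast at h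
  all_goals first
    | rfl
    | exact absurd h one_ne_zero
    | exact absurd h.symm one_ne_zero
    | exact absurd (by linear_combination h) h2
    | exact absurd (by linear_combination -h) h2
    | exact absurd (by linear_combination h) (one_ne_zero (α := F))
    | exact absurd (by linear_combination -h) (one_ne_zero (α := F))

theorem rho_mem {K : Subgroup GL₃} (O : Fr K) (π : alternatingGroup (Fin 4)) : rho π ∈ K := by
  have h : (⊤ : Subgroup (alternatingGroup (Fin 4))) ≤ K.comap rho := by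
    rw [← Exc.alt4_data.1, Subgroup.closure_le]
    rintro x (rfl | rfl) <;> rw [SetLike.mem_coe, Subgroup.mem_comap]
    · rw [a4_eq, rho_kl]; exact O.mem_dg (by decide)
    · convert O.mem_sp (π := Equiv.swap (0 : Fin 3) 1 * Equiv.swap 0 2) (S := {0, 2}) (by decide) (by decide)
      refine Units.ext (Matrix.ext fun i j => ?_)
      show ((rent Exc.b4 i j : ℤ) : F) = spMat _ _ i j
      rw [rmat_b4, spMat, Matrix.of_apply]
      split_ifs with e e' <;> fin_cases j <;> simp_all [sgn]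
  exact h (Subgroup.mem_top π)

theorem lift_hom (f : alternatingGroup (Fin 4) →* GL₃) (hf : ∀ π, f π ∈ (adjP h2 hab).range) :
    ∃ φ : alternatingGroup (Fin 4) →* PSL₂, ∀ π, adjP h2 hab (φ π) = f π := by
  choose φ hφ using hf
  exact ⟨⟨⟨φ, adjP_injective h2 hab (by rw [hφ, map_one, map_one])⟩,
    fun x y => adjP_injective h2 hab (by simp only [hφ, map_mul])⟩, hφ⟩

theorem rho_range {K : Subgroup GL₃} (π : alternatingGroup (Fin 4)) : rho π ∈ (adjP h2 hab).range := by
  have h : (⊤ : Subgroup (alternatingGroup (Fin 4))) ≤ (adjP h2 hab).range.comap rho := by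
    rw [← Exc.alt4_data.1, Subgroup.closure_le]
    rintro x (rfl | rfl) <;> rw [SetLike.mem_coe, Subgroup.mem_comap]
    · refine ⟨proj ⟨!![0, -1; 1, 0], by simp [Matrix.det_fin_two]⟩, ?_⟩
      show adjSL h2 hab _ = _
      rw [a4_eq, rho_kl]
      refine adj_eq h2 hab _ _ fun l => ?_
      rw [dg_single]
      show !![(0 : F), -1; 1, 0] * _ = _ * !![(0 : F), -1; 1, 0]
      ext i j
      fin_cases l <;> fin_cases i <;> fin_cases j <;> simp [sgn, vm, Matrix.mul_apply, Fin.sum_univ_two]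
    · refine ⟨proj ⟨(2 : F)⁻¹ • (1 + vm a b ![1, 1, -1]), ?_⟩, ?_⟩
      · rw [Matrix.det_smul, Fintype.card_fin, Matrix.det_fin_two]
        simp [vm]
        field_simp
        linear_combination -2 * hab
      · show adjSL h2 hab _ = _
        refine adj_eq h2 hab _ _ fun l => ?_
        have hd : rmat Exc.b4 = !![0, 1, 0; 0, 0, -1; -1, 0, 0] := by decide +kernel
        have hr : ((rho Exc.b4 : GL₃) : Matrix (Fin 3) (Fin 3) F) = !![0, 1, 0; 0, 0, -1; -1, 0, 0] := by
          show (Int.castRingHom F).mapMatrix (rmat Exc.b4) = _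
          rw [hd]
          ext i j
          fin_cases i <;> fin_cases j <;> simp
        show ((2 : F)⁻¹ • (1 + vm a b ![1, 1, -1])) * _ = _ * ((2 : F)⁻¹ • (1 + vm a b ![1, 1, -1]))
        rw [smul_mul_assoc, mul_smul_comm, add_mul, mul_add, one_mul, mul_one, vm_mul hab, vm_mul hab, hr]
        congr 1
        fin_cases l <;> ext i j <;> fin_cases i <;> fin_cases j <;>
          simp [vm, cr, Matrix.mulVec, dotProduct, Fin.sum_univ_three] <;> ring
  exact h (Subgroup.mem_top π)

theorem mon_of_klein {g : GL₃} (h : ∀ l, ∃ l', g * rho (kl l) * g⁻¹ = (rho (kl l') : GL₃)) (h2 : (2 : F) ≠ 0) :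
    Mon g := fun l => by
  obtain ⟨l', hl⟩ := h l
  rw [rho_kl, rho_kl] at hl
  refine ⟨l', fun k hk => ?_⟩
  have h1 : g * dg {l}ᶜ = dg {l'}ᶜ * g := by rw [← hl, inv_mul_cancel_right]
  have h3 := congrArg (fun m : GL₃ => ((m : Matrix (Fin 3) (Fin 3) F) *ᵥ Pi.single l 1) k) h1
  simp only [Units.val_mul, ← Matrix.mulVec_mulVec, dg_single, Matrix.mulVec_smul, Pi.smul_apply, dg_mulVec] at h3
  rw [if_pos (by simpa using hk)] at h3
  simp [sgn, Matrix.mulVec_single] at h3
  exact (mul_eq_zero.1 (by linear_combination h3 : (2 : F) * (g : Matrix (Fin 3) (Fin 3) F) k l = 0)).resolve_left h2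

omit [Fintype F] in
theorem sign_comm {G : Type*} [Group G] (f : G →* Equiv.Perm (Fin 4)) (s t : G) :
    Equiv.Perm.sign (f (s * t * s⁻¹ * t⁻¹)) = 1 := by
  rw [← MonoidHom.comp_apply, map_mul, map_mul, map_mul, map_inv, map_inv, mul_comm (Equiv.Perm.sign.comp f s),
    mul_assoc (Equiv.Perm.sign.comp f t), mul_inv_cancel, mul_one, mul_inv_cancel]

omit [Fintype F] in
/-- Two copies of `A₄` inside a subgroup embedded into `S₄` share their four-group. -/
theorem klein_of_perm4 {G : Type*} [Group G] {M : Subgroup G} (e : M →* Equiv.Perm (Fin 4))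
    (he : Function.Injective e) {φ₀ φ₁ : alternatingGroup (Fin 4) →* G} (h₀ : ∀ π, φ₀ π ∈ M)
    (h₁ : ∀ π, φ₁ π ∈ M) (i₀ : Function.Injective φ₀) (i₁ : Function.Injective φ₁) (l : Fin 3) :
    ∃ l', φ₁ (kl l) = φ₀ (kl l') := by
  have key : ∀ (φ : alternatingGroup (Fin 4) →* G) (h : ∀ π, φ π ∈ M), Function.Injective φ →
      ∀ m, ∃ m', e (φ.codRestrict M h (kl m)) = (kl m' : Equiv.Perm (Fin 4)) := fun φ h hi m => by
    obtain ⟨s, t, hst⟩ := kl_comm m
    refine even_inv _ (hst ▸ sign_comm (e.comp (φ.codRestrict M h)) s t) ?_ ?_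
    · rw [← map_mul, ← map_mul, (kl_spec.1 m).2, map_one, map_one]
    · rw [map_ne_one_iff e he]
      exact fun h1 => (kl_spec.1 m).1 (hi (by simpa using congrArg Subtype.val h1))
  choose σ hσ using key φ₀ h₀ i₀
  obtain ⟨m', hm'⟩ := key φ₁ h₁ i₁ l
  have hσi : Function.Injective σ := fun x y hxy => kl_spec.2.1 (i₀ (congrArg Subtype.val
    (he ((hσ x).trans ((hxy ▸ rfl : (kl (σ x) : Equiv.Perm (Fin 4)) = kl (σ y)).trans (hσ y).symm)))))
  obtain ⟨l', hl'⟩ := (Finite.injective_iff_surjective.1 hσi) m'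
  refine ⟨l', congrArg Subtype.val (he (hm'.trans ?_) : φ₁.codRestrict M h₁ (kl l) = φ₀.codRestrict M h₀ (kl l'))⟩
  rw [hσ, hl']

omit [Fintype F] in
theorem sl_sq (B : SL₂) : (B : M₂) * (B : M₂) = (B : M₂).trace • (B : M₂) - 1 := by
  have h := B.2
  rw [Matrix.det_fin_two] at h
  ext i j
  fin_cases i <;> fin_cases j <;> simp [Matrix.mul_apply, Fin.sum_univ_two, Matrix.trace_fin_two]
  · linear_combination -h
  · ring
  · ring
  · linear_combination -h

include h2 in
theorem no_five (p : ℕ) [hp : Fact p.Prime] [CharP F p] (hp5 : p ≠ 5) {B B' V : SL₂}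
    (h5 : proj B ^ 5 = 1) (hne : proj B ≠ 1) (ht : (B' : M₂).trace = (B : M₂).trace)
    (h : proj B' = proj V * proj B ^ 2 * (proj V)⁻¹) : False := by
  obtain ⟨t, htdef⟩ : ∃ t, t = (B : M₂).trace := ⟨_, rfl⟩
  rw [← htdef] at ht
  have hsq := sl_sq B
  rw [← htdef] at hsq
  have ht2 : (((V * B ^ 2 * V⁻¹ : SL₂)) : M₂).trace = t * t - 2 := by
    rw [Matrix.SpecialLinearGroup.coe_mul, Matrix.trace_mul_comm, ← Matrix.SpecialLinearGroup.coe_mul, ← mul_assoc,
      inv_mul_cancel, one_mul, Matrix.SpecialLinearGroup.coe_pow, pow_two, hsq, Matrix.trace_sub, Matrix.trace_smul,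
      ← htdef, Matrix.trace_one, Fintype.card_fin]
    simp
  rw [← map_pow, ← map_inv, ← map_mul, ← map_mul] at h
  have hrel : (t * t - 1) * (t * t - 4) = 0 := by
    rcases proj_eq_iff.mp h with e | e
    · rw [e, ht] at ht2; linear_combination -(t * t - 2 + t) * ht2
    · rw [e, Matrix.SpecialLinearGroup.coe_neg, Matrix.trace_neg, ht] at ht2
      linear_combination -(t * t - 2 - t) * ht2
  rcases mul_eq_zero.1 hrel with e | e
  · -- order three
    have hcube : (B : M₂) * (B : M₂) * (B : M₂) = (-t) • (1 : M₂) := by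
      rw [hsq, sub_mul, one_mul, smul_mul_assoc, hsq, smul_sub, smul_smul, sub_eq_zero.1 e]
      module
    have h3 : proj B ^ 3 = 1 := by
      rw [← map_pow]
      rcases mul_self_eq_one_iff.1 (sub_eq_zero.1 e) with e' | e'
      · rw [show B ^ 3 = -1 from Subtype.ext (by
          rw [Matrix.SpecialLinearGroup.coe_pow, pow_three', hcube, e']; simp), proj_neg, map_one]
      · rw [show B ^ 3 = 1 from Subtype.ext (by
          rw [Matrix.SpecialLinearGroup.coe_pow, pow_three', hcube, e']; simp), map_one]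
    refine hne ?_
    calc proj B = (proj B ^ 3) ^ 2 * (proj B ^ 5)⁻¹ := by group
      _ = 1 := by rw [h3, h5]; simp
  · -- order `p`
    obtain ⟨D, hD, hDt⟩ : ∃ D : SL₂, proj D = proj B ∧ (D : M₂).trace = 2 := by
      rcases mul_self_eq_mul_self_iff.1 (by linear_combination e : t * t = 2 * 2) with e' | e'
      · exact ⟨B, rfl, htdef ▸ e'⟩
      · exact ⟨-B, proj_neg B, by rw [Matrix.SpecialLinearGroup.coe_neg, Matrix.trace_neg, ← htdef, e', neg_neg]⟩
    have hD2 := sl_sq D
    rw [hDt] at hD2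
    have hpow : ∀ k : ℕ, (D : M₂) ^ k = 1 + (k : F) • ((D : M₂) - 1) := fun k => by
      induction k with
      | zero => simp
      | succ k ih =>
        rw [pow_succ, ih, add_mul, smul_mul_assoc, sub_mul, one_mul, hD2]
        push_cast
        module
    have hp1 : proj B ^ p = 1 := by
      rw [← hD, ← map_pow, show D ^ p = 1 from Subtype.ext (by
        rw [Matrix.SpecialLinearGroup.coe_pow, hpow, CharP.cast_eq_zero F p, zero_smul, add_zero]; rfl), map_one]
    refine hne (orderOf_eq_one_iff.1 (Nat.eq_one_of_dvd_coprimes ((Nat.coprime_primes hp.out (by norm_num)).2 hp5)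
      (orderOf_dvd_of_pow_eq_one hp1) (orderOf_dvd_of_pow_eq_one h5)))

/-- A rotation group with the frame group, invariant under a transposition, is monomial or large. -/
theorem le_of_not_mon (hp : (Fintype.card F).Prime) (hq5 : 5 ≤ Fintype.card F) {K : Subgroup GL₃} (O : Fr K)
    (hP : ∀ x ∈ K, sp (Equiv.swap 1 2) (fun _ => 1) * x * (sp (Equiv.swap 1 2) fun _ => 1)⁻¹ ∈ K)
    {g : GL₃} (hg : g ∈ K) (hnm : ¬ Mon g) (A : SL₂) : adjSL h2 hab A ∈ K := by
  classical
  obtain ⟨p, hpdef⟩ : ∃ p, p = Fintype.card F := ⟨_, rfl⟩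
  haveI : Fact p.Prime := ⟨hpdef ▸ hp⟩
  haveI : CharP F p := charP_of_card_eq_prime hpdef.symm
  obtain ⟨P, hP'⟩ := exists_adj h2 hab (O.iso g hg) (O.det g hg)
  obtain ⟨φ₀, hφ₀⟩ := lift_hom h2 hab rho fun π => rho_range h2 hab (K := K) π
  obtain ⟨φ₁, hφ₁⟩ := lift_hom h2 hab ((MulAut.conj g).toMonoidHom.comp rho) fun π => by
    obtain ⟨x, hx⟩ := rho_range h2 hab (K := K) π
    obtain ⟨B, rfl⟩ := proj_surjective x
    obtain ⟨B', hB'⟩ : ∃ B' : SL₂, Matrix.SpecialLinearGroup.toGL B' = P * Matrix.SpecialLinearGroup.toGL B * P⁻¹ :=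
      ⟨⟨(P * Matrix.SpecialLinearGroup.toGL B * P⁻¹ : GL (Fin 2) F), by
        rw [Units.val_mul, Units.val_mul, Matrix.det_mul_comm, ← mul_assoc, ← Units.val_mul, inv_mul_cancel,
          Units.val_one, one_mul]
        exact B.2⟩, Units.ext rfl⟩
    refine ⟨proj B', ?_⟩
    show adj h2 hab (Matrix.SpecialLinearGroup.toGL B') = g * rho π * g⁻¹
    rw [hB', map_mul, map_mul, map_inv, hP', ← hx]
    rfl
  obtain ⟨KB, hKB⟩ : ∃ KB, KB = K.comap (adjP h2 hab) := ⟨_, rfl⟩
  have m₀ : ∀ π, φ₀ π ∈ KB := fun π => by rw [hKB, Subgroup.mem_comap, hφ₀]; exact rho_mem O π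
  have m₁ : ∀ π, φ₁ π ∈ KB := fun π => by
    rw [hKB, Subgroup.mem_comap, hφ₁]
    exact mul_mem (mul_mem hg (rho_mem O π)) (inv_mem hg)
  have i₀ : Function.Injective φ₀ := fun x y e => rho_injective h2 (by rw [← hφ₀, ← hφ₀, e])
  have i₁ : Function.Injective φ₁ := fun x y e => by
    have h := congrArg (adjP h2 hab) e
    rw [hφ₁, hφ₁] at h
    exact rho_injective h2 ((MulAut.conj g).injective h)
  have hcl : ∀ (M : Subgroup PSL₂) (e : M →* Equiv.Perm (Fin 4)), Function.Injective e → KB ≤ M → False := by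
    intro M e he hle
    refine hnm (mon_of_klein (fun l => ?_) h2)
    obtain ⟨l', hl⟩ := klein_of_perm4 e he (fun π => hle (m₀ π)) (fun π => hle (m₁ π)) i₀ i₁ l
    have h := congrArg (adjP h2 hab) hl
    rw [hφ₀, hφ₁] at h
    exact ⟨l', h⟩
  suffices h : KB = ⊤ by
    have h' : proj A ∈ KB := h ▸ Subgroup.mem_top _
    rwa [hKB, Subgroup.mem_comap, adjP_proj] at h'
  haveI : Finite PSL₂ := Finite.of_surjective _ (proj_surjective (F := F))
  by_contra htop
  obtain ⟨M, hM, hle⟩ := (eq_top_or_exists_le_coatom KB).resolve_left htop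
  have hp2 : p ≠ 2 := by omega
  have hrange : φ₀.range ≤ M := fun x ⟨π, e⟩ => e ▸ hle (m₀ π)
  cases coatom_cases p (by omega) hM with
  | torus a ha hap h => exact alt4_not_le_normalizer p hp2 φ₀ i₀ ha (h ▸ hrange)
  | borel a ha hap h => exact alt4_not_le_normalizer p hp2 φ₀ i₀ ha (h ▸ hrange)
  | subfield L r x hr hc h3 h =>
    rw [← hc] at hp
    exact absurd hr.one_lt (by rw [hp.eq_one_of_pow]; exact lt_irrefl 1)
  | alt4 hq h8 h10 iso =>
    obtain ⟨e⟩ := iso
    exact hcl M ((alternatingGroup (Fin 4)).subtype.comp e.toMonoidHom) (Subtype.val_injective.comp e.injective) hle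
  | perm4 hq h8 iso =>
    obtain ⟨e⟩ := iso
    exact hcl M e.toMonoidHom e.injective hle
  | alt5 hq h10 iso =>
    have hp5 : p ≠ 5 := by omega
    obtain ⟨e⟩ := iso
    have hM60 : Nat.card M = 60 := by
      rw [Nat.card_congr e.toEquiv, Nat.card_eq_fintype_card]; rfl
    have hr12 : Nat.card φ₀.range = 12 := by
      rw [← Nat.card_congr (MonoidHom.ofInjective i₀).toEquiv, Nat.card_eq_fintype_card]; rfl
    obtain ⟨k, hk⟩ := Subgroup.card_dvd_of_le (show φ₀.range ≤ KB from fun x ⟨π, e'⟩ => e' ▸ m₀ π)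
    have hdvd := Subgroup.card_dvd_of_le hle
    rw [hM60, hk, hr12, show 60 = 12 * 5 from rfl] at hdvd
    rcases (Nat.dvd_prime (by norm_num)).1 (Nat.dvd_of_mul_dvd_mul_left (by norm_num) hdvd) with hk' | hk'
    · have he : φ₀.range = KB := Subgroup.eq_of_le_of_card_ge (fun x ⟨π, e'⟩ => e' ▸ m₀ π) (by rw [hk, hk', mul_one])
      exact hcl φ₀.range ((alternatingGroup (Fin 4)).subtype.comp (MonoidHom.ofInjective i₀).symm.toMonoidHom)
        (Subtype.val_injective.comp (MulEquiv.injective _)) he.ge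
    have hKM : KB = M := Subgroup.eq_of_le_of_card_ge hle (by rw [hk, hr12, hk', hM60])
    -- the transposition acts on `M`
    obtain ⟨S, hS⟩ : ∃ S : GL (Fin 2) F, (S : M₂) = vm a b ![0, 1, -1] :=
      ⟨Matrix.GeneralLinearGroup.mkOfDetNeZero _ (by
        rw [det_vm hab, qs_apply, Fin.sum_univ_three]
        simp [h2, one_add_one_eq_two]), rfl⟩
    obtain ⟨T, hT⟩ : ∃ T : GL₃, T = sp (Equiv.swap 1 2) (fun _ => -1) := ⟨_, rfl⟩
    have hST : adj h2 hab S = T := adj_eq h2 hab _ _ fun l => by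
      rw [hT, sp_single, hS]
      ext i j
      fin_cases l <;> fin_cases i <;> fin_cases j <;>
        simp [vm, Matrix.mul_apply, Fin.sum_univ_two, Equiv.swap_apply_of_ne_of_ne] <;> ring
    have hTc : ∀ x : GL₃, T * x * T⁻¹ = sp (Equiv.swap 1 2) (fun _ => 1) * x * (sp (Equiv.swap 1 2) fun _ => 1)⁻¹ := by
      intro x
      have e1 : T = sp (Equiv.swap 1 2) (fun _ => 1) * dg Finset.univ := by
        rw [hT, dg, sp_mul, mul_one]; congr 1; funext i; simp [sgn]
      have hz : ∀ y : GL₃, dg Finset.univ * y = y * dg Finset.univ := fun y => by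
        have e : ((dg Finset.univ : GL₃) : Matrix (Fin 3) (Fin 3) F) = -1 :=
          Matrix.ext_iff_mulVec.2 fun v => funext fun k => by
            rw [dg_mulVec, if_pos (Finset.mem_univ k), Matrix.neg_mulVec, Matrix.one_mulVec, Pi.neg_apply]
        exact Units.ext (by rw [Units.val_mul, Units.val_mul, e]; simp)
      rw [e1, _root_.mul_inv_rev, mul_assoc (sp _ _) (dg _) x, hz x]
      group
    have hconj : ∀ B : SL₂, ∃ B' : SL₂, (B' : M₂).trace = (B : M₂).trace ∧
        adjSL h2 hab B' = T * adjSL h2 hab B * T⁻¹ := fun B => by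
      refine ⟨⟨(S * Matrix.SpecialLinearGroup.toGL B * S⁻¹ : GL (Fin 2) F), by
        rw [Units.val_mul, Units.val_mul, Matrix.det_mul_comm, ← mul_assoc, ← Units.val_mul, inv_mul_cancel,
          Units.val_one, one_mul]
        exact B.2⟩, ?_, ?_⟩
      · show ((S * Matrix.SpecialLinearGroup.toGL B * S⁻¹ : GL (Fin 2) F) : M₂).trace = _
        rw [Units.val_mul, Matrix.trace_mul_comm, Units.val_mul, ← mul_assoc, ← Units.val_mul, inv_mul_cancel,
          Units.val_one, one_mul]
        rfl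
      · rw [← hST]
        show adj h2 hab _ = adj h2 hab S * adj h2 hab (Matrix.SpecialLinearGroup.toGL B) * (adj h2 hab S)⁻¹
        rw [← map_inv, ← map_mul, ← map_mul]
        congr 1
        exact Units.ext rfl
    have hα : ∀ x : M, ∃ x' : M, adjP h2 hab x' = T * adjP h2 hab x * T⁻¹ := by
      rintro ⟨x, hx⟩
      obtain ⟨B, rfl⟩ := proj_surjective x
      obtain ⟨B', -, hB'⟩ := hconj B
      rw [← hKM, hKB, Subgroup.mem_comap, adjP_proj] at hx
      refine ⟨⟨proj B', ?_⟩, hB'⟩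
      rw [← hKM, hKB, Subgroup.mem_comap, adjP_proj, hB', hTc]
      exact hP _ hx
    choose α hα using hα
    have αinj : Function.Injective α := fun x y exy => Subtype.ext (adjP_injective h2 hab (by
      have h := (hα x).symm.trans ((congrArg (fun z : M => adjP h2 hab z) exy).trans (hα y))
      exact mul_left_cancel (mul_right_cancel h)))
    have αmul : ∀ x y, α (x * y) = α x * α y := fun x y => Subtype.ext (adjP_injective h2 hab (by
      rw [hα, Subgroup.coe_mul, Subgroup.coe_mul, map_mul, map_mul, hα, hα]; group))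
    -- normalise the four-group
    obtain ⟨v, hv⟩ : ∃ v : Fin 3 → M, ∀ l, v l = ⟨φ₀ (kl l), hle (m₀ _)⟩ := ⟨_, fun _ => rfl⟩
    have v1 : ∀ l, v l ≠ 1 ∧ v l * v l = 1 := fun l => by
      rw [hv]
      refine ⟨fun e' => (kl_spec.1 l).1 (i₀ ((congrArg Subtype.val e').trans (map_one φ₀).symm)), Subtype.ext ?_⟩
      show φ₀ (kl l) * φ₀ (kl l) = 1
      rw [← map_mul, (kl_spec.1 l).2, map_one]
    obtain ⟨u, hu⟩ := five_conj (e (v 0)) (fun e' => (v1 0).1 (e.injective (e'.trans (map_one e).symm)))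
      (by rw [← map_mul, (v1 0).2, map_one])
    obtain ⟨e', he'⟩ : ∃ e' : M ≃* alternatingGroup (Fin 5), e' = e.trans (MulAut.conj u) := ⟨_, rfl⟩
    have e0 : e' (v 0) = w5 0 := by rw [he', ← hu]; rfl
    have v01 : v 0 * v 1 = v 2 ∧ v 0 * v 1 = v 1 * v 0 := by
      rw [hv, hv, hv]
      constructor <;> refine Subtype.ext ?_
      · show φ₀ (kl 0) * φ₀ (kl 1) = φ₀ (kl 2)
        rw [← map_mul, kl_spec.2.2.1]
      · show φ₀ (kl 0) * φ₀ (kl 1) = φ₀ (kl 1) * φ₀ (kl 0)
        rw [← map_mul, ← map_mul, kl_spec.2.2.2]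
    have vinj : Function.Injective v := fun x y exy => by
      rw [hv, hv] at exy
      exact kl_spec.2.1 (i₀ (congrArg Subtype.val exy))
    have αv : ∀ l, α (v l) = v (Equiv.swap 1 2 l) := fun l => Subtype.ext (adjP_injective h2 hab (by
      rw [hα, hv, hv]
      show T * adjP h2 hab (φ₀ (kl l)) * T⁻¹ = adjP h2 hab (φ₀ (kl (Equiv.swap 1 2 l)))
      rw [hφ₀, hφ₀, rho_kl, rho_kl, mul_inv_eq_iff_eq_mul, hT, dg, dg, sp_mul, sp_mul, mul_one, one_mul]
      congr 1
      funext i
      fin_cases l <;> fin_cases i <;> simp [sgn, Equiv.swap_apply_of_ne_of_ne]))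
    obtain ⟨τ, hτ0, hτ⟩ : ∃ τ : Fin 3 → Fin 3, τ 0 = 0 ∧ ∀ l, e' (v l) = w5 (τ l) ∧
        (τ (Equiv.swap 1 2 l) = Equiv.swap 1 2 (τ l)) := by
      obtain h1 | ⟨l, hl⟩ := five_centr (e' (v 1)) (by rw [← map_mul, (v1 1).2, map_one])
        (by rw [← e0, ← map_mul, ← map_mul, v01.2])
      · exact absurd (e'.injective (h1.trans (map_one e').symm)) (v1 1).1
      have hl0 : l ≠ 0 := fun el => by
        rw [el, ← e0] at hl
        exact absurd (vinj (e'.injective hl)) (by decide)
      have e2 : e' (v 2) = w5 0 * w5 l := by rw [← v01.1, map_mul, e0, hl]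
      have hw : w5 0 * w5 1 = w5 2 ∧ w5 0 * w5 2 = w5 1 := by decide +kernel
      fin_cases l
      · exact absurd rfl hl0
      · refine ⟨id, rfl, fun m => ⟨?_, rfl⟩⟩
        fin_cases m
        exacts [e0, hl, e2.trans hw.1]
      · refine ⟨Equiv.swap 1 2, by decide, fun m => ⟨?_, rfl⟩⟩
        fin_cases m
        exacts [e0, hl, e2.trans hw.2]
    obtain ⟨β, hβ⟩ : ∃ β, β = fun x => e' (α (e'.symm x)) := ⟨_, rfl⟩
    have βmul : ∀ x y, β (x * y) = β x * β y := fun x y => by simp only [hβ, map_mul, αmul]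
    have β1 : β 1 = 1 := by simpa using βmul 1 1
    have βinj : Function.Injective β := fun x y exy => by
      rw [hβ] at exy; exact e'.symm.injective (αinj (e'.injective exy))
    have βw : ∀ l, β (w5 l) = w5 (Equiv.swap 1 2 l) := fun l => by
      obtain ⟨m, hm⟩ : ∃ m, τ m = l := by
        have hτi : Function.Injective τ := fun x y exy => vinj (e'.injective (by rw [(hτ x).1, (hτ y).1, exy]))
        exact Finite.injective_iff_surjective.1 hτi l
      rw [← hm, ← (hτ m).1]
      show (fun x => β x) (e' (v m)) = _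
      rw [hβ]
      simp only [MulEquiv.symm_apply_apply]
      rw [αv, (hτ _).1, (hτ m).2]
    have βpow : ∀ (x : alternatingGroup (Fin 5)) (k : ℕ), x ^ k = 1 → β x ^ k = 1 := fun x k hx => by
      have := map_pow (MonoidHom.mk ⟨β, β1⟩ βmul) x k
      rw [hx, map_one] at this
      exact this.symm
    obtain ⟨f1, f2, f3, f4, f5⟩ := five_facts
    have hsame : w5 0 * β b5 = β (w5 0 * b5) := by
      rw [βmul, βw, show Equiv.swap (1 : Fin 3) 2 0 = 0 by decide]
    obtain ⟨z, hz⟩ := five_data (β b5) (by rw [← βmul, f1, β1]) (by rw [hsame]; exact βpow _ _ f2)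
      (by rw [hsame]; exact fun e1 => f3 (βinj (e1.trans β1.symm)))
      (by
        rw [show w5 2 * β b5 = β (w5 1 * b5) by rw [βmul, βw, show Equiv.swap (1 : Fin 3) 2 1 = 2 by decide]]
        exact βpow _ _ f4)
      (by
        rw [show w5 1 * β b5 = β (w5 2 * b5) by rw [βmul, βw, show Equiv.swap (1 : Fin 3) 2 2 = 1 by decide]]
        exact βpow _ _ f5)
    rw [hsame] at hz
    obtain ⟨y, hy⟩ : ∃ y, y = e'.symm (w5 0 * b5) := ⟨_, rfl⟩
    have hαy : α y = e'.symm z * y ^ 2 * (e'.symm z)⁻¹ := by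
      refine e'.injective ?_
      rw [map_mul, map_mul, map_inv, map_pow, hy, MulEquiv.apply_symm_apply, MulEquiv.apply_symm_apply, ← hz, hβ]
    obtain ⟨B, hB⟩ := proj_surjective (y : PSL₂)
    obtain ⟨V, hV⟩ := proj_surjective ((e'.symm z : M) : PSL₂)
    obtain ⟨B', htr, hB'⟩ := hconj B
    have hy' : proj B' = (α y : PSL₂) := adjP_injective h2 hab (by rw [hα, ← hB, adjP_proj, adjP_proj, hB'])
    refine no_five h2 p hp5 (B := B) (B' := B') (V := V) ?_ ?_ htr (by rw [hy', hαy, hB, hV]; rfl)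
    · rw [hB, ← Subgroup.coe_pow, hy, ← map_pow, f2, map_one]; rfl
    · rw [hB]
      intro e1
      refine f3 ?_
      have h1 : y = 1 := Subtype.ext e1
      rw [hy, MulEquiv.map_eq_one_iff] at h1
      exact h1

end Rot

end Cfsg.Agent.Classical.OrthFrame
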