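import Cfsg.Agent.Lib.Classical.MaxFrameRot

/-!
Dimension five: a non-monomial element fixing two frame vectors gives all Siegel elements at short singular vectors.
-/

set_option autoImplicit false
set_option linter.unusedSectionVars false
set_option linter.style.haveILetI false
set_option quotPrecheck false

namespace Cfsg.Agent.Classical.OrthFrame

open Matrix Module MaxTv OrthAut Rot

variable {F : Type*} [Field F] [Fintype F] {H : Subgroup (GL (Fin 5) F)}

local notation "V₅" => (Fin 5 → F)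
local notation "M₅" => Matrix (Fin 5) (Fin 5) F
local notation "GL₅" => GL (Fin 5) F

/-- The standard triple. -/
def tr3 : Fin 3 → Fin 5 := ![1, 2, 3]

theorem tr3_injective : Function.Injective tr3 := by decide

theorem not_range_tr3 : ∀ k : Fin 5, k ≠ 1 → k ≠ 2 → k ≠ 3 → k ∉ Set.range tr3 := fun k h1 h2 h3 ⟨i, e⟩ => by
  fin_cases i <;> simp [tr3] at e <;> simp_all

theorem out123 : ∀ k : Fin 5, k ≠ 1 → k ≠ 2 → k ≠ 3 → k = 0 ∨ k = 4 := by decide

theorem out013 : ∀ k : Fin 5, k ≠ 0 → k ≠ 1 → k ≠ 3 → k = 2 ∨ k = 4 := by decide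

theorem exists_even_three : ∀ k j l : Fin 5, k ≠ j → k ≠ l → j ≠ l →
    ∃ π : Equiv.Perm (Fin 5), Equiv.Perm.sign π = 1 ∧ π k = 2 ∧ π j = 3 ∧ π l = 4 := by
  decide +kernel

/-- The five-cycle lowering every index. -/
def cyc : Equiv.Perm (Fin 5) := (finRotate 5)⁻¹

theorem cyc_spec : Equiv.Perm.sign cyc = 1 ∧ cyc 1 = 0 ∧ cyc.symm 3 = 4 ∧ cyc.symm 4 = 0 ∧ cyc.symm 0 = 1 ∧
    cyc.symm 1 = 2 ∧ cyc.symm 2 = 3 := by decide +kernel

theorem concl_of_triple (O : Fr H) (hp : (Fintype.card F).Prime) (hq5 : 5 ≤ Fintype.card F) {g : GL₅} (hg : g ∈ H)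
    {i j : Fin 5} (hij : i ≠ j) (hi : (g : M₅) *ᵥ Pi.single i 1 = Pi.single i 1)
    (hj : (g : M₅) *ᵥ Pi.single j 1 = Pi.single j 1) (hnm : ¬ Mon g) : Concl H := by
  classical
  -- normalise the fixed vectors
  obtain ⟨π, hπ, hπS⟩ := exists_perm_map (S := ({i, j} : Finset (Fin 5))) (S' := {0, 4})
    (by rw [Finset.card_pair hij]; rfl) (Or.inl (by rw [Finset.card_pair hij]))
  obtain ⟨m, hm⟩ : ∃ m : GL₅, m = sp π fun _ => 1 := ⟨_, rfl⟩
  have hmH : m ∈ H := hm ▸ O.mem_pure hπ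
  have hmm : Mon m := hm ▸ mon_sp _ _
  have hfix : ∀ k, k ∉ Set.range tr3 → ((m * g * m⁻¹ : GL₅) : M₅) *ᵥ Pi.single k 1 = Pi.single k 1 := by
    intro k hk
    have hk' : k ∈ ({0, 4} : Finset (Fin 5)) := by
      fin_cases k
      all_goals first
        | simp; done
        | exact absurd ⟨0, rfl⟩ hk
        | exact absurd ⟨1, rfl⟩ hk
        | exact absurd ⟨2, rfl⟩ hk
    have hkij := (hπS (π.symm k)).1 (by rw [Equiv.apply_symm_apply]; exact hk')
    have hgk : (g : M₅) *ᵥ Pi.single (π.symm k) 1 = Pi.single (π.symm k) 1 := by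
      rcases Finset.mem_insert.1 hkij with e | e
      · rw [e]; exact hi
      · rw [Finset.mem_singleton.1 e]; exact hj
    have hm1 : (m : M₅) *ᵥ Pi.single (π.symm k) 1 = Pi.single k 1 := by
      rw [hm, sp_single, Equiv.apply_symm_apply, Units.val_one]
    rw [Units.val_mul, Units.val_mul, ← Matrix.mulVec_mulVec, ← Matrix.mulVec_mulVec,
      show ((m⁻¹ : GL₅) : M₅) *ᵥ Pi.single k 1 = Pi.single (π.symm k) 1 by rw [← hm1, inv_mulVec_cancel],
      hgk, hm1]
  have hnm' : ¬ Mon (m * g * m⁻¹) := fun h => hnm (by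
    have := ((O.mon_inv hmH hmm).mul h).mul hmm
    rwa [show m⁻¹ * (m * g * m⁻¹) * m = g by group] at this)
  obtain ⟨K, hK⟩ : ∃ K, K = H.comap (liftGL (F := F) tr3_injective) := ⟨_, rfl⟩
  have OK : Fr K := hK ▸ O.comap tr3_injective
  obtain ⟨g₀, hg₀, hg₀m⟩ := O.exists_restrict tr3_injective (mul_mem (mul_mem hmH hg) (inv_mem hmH)) hfix
  rw [← hK] at hg₀
  have hinv : ∀ x ∈ K, sp (Equiv.swap 1 2) (fun _ => 1) * x * (sp (Equiv.swap 1 2) fun _ => 1)⁻¹ ∈ K := by
    intro x hx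
    rw [hK, Subgroup.mem_comap] at hx ⊢
    obtain ⟨ρ, hρ⟩ : ∃ ρ : Equiv.Perm (Fin 5), ρ = Equiv.swap 0 4 * Equiv.swap 2 3 := ⟨_, rfl⟩
    have hρs : Equiv.Perm.sign ρ = 1 := by rw [hρ]; decide
    have hr := O.mem_pure hρs
    obtain ⟨P, hP⟩ : ∃ P : GL (Fin 3) F, P = sp (Equiv.swap 1 2) fun _ => 1 := ⟨_, rfl⟩
    rw [← hP]
    have key : sp ρ (fun _ => 1) * liftGL tr3_injective x = liftGL tr3_injective (P * x * P⁻¹) * sp ρ fun _ => 1 := by
      refine Units.ext (Matrix.ext_iff_mulVec.2 fun y => funext fun k => ?_)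
      rw [Units.val_mul, Units.val_mul, ← Matrix.mulVec_mulVec, ← Matrix.mulVec_mulVec, sp_mulVec, Units.val_one,
        one_mul]
      show (lMat tr3 (x : Matrix (Fin 3) (Fin 3) F) *ᵥ y) (ρ.symm k) = (lMat tr3 ((P * x * P⁻¹ : GL (Fin 3) F) : Matrix (Fin 3) (Fin 3) F) *ᵥ _) k
      have hy : (((sp ρ (fun _ => 1) : GL₅) : M₅) *ᵥ y) ∘ tr3 = (P : Matrix (Fin 3) (Fin 3) F) *ᵥ (y ∘ tr3) := by
        funext l
        rw [Function.comp_apply, hP, sp_mulVec, sp_mulVec, Function.comp_apply]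
        congr 2
        rw [hρ]; revert l; decide
      by_cases hk : k ∈ Set.range tr3
      · obtain ⟨l, rfl⟩ := hk
        rw [lMat_apply_range tr3_injective, show ρ.symm (tr3 l) = tr3 ((Equiv.swap 1 2 : Equiv.Perm (Fin 3)) l) by
          rw [hρ]; revert l; decide, lMat_apply_range tr3_injective, hy, Matrix.mulVec_mulVec, ← Units.val_mul,
          inv_mul_cancel_right, Units.val_mul, ← Matrix.mulVec_mulVec, hP, sp_mulVec]
        simp
      · rw [lMat_apply_out _ _ hk, sp_mulVec, Units.val_one, one_mul, lMat_apply_out _ _ (by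
          rw [hρ]
          fin_cases k
          all_goals first
            | exact not_range_tr3 _ (by decide) (by decide) (by decide)
            | exact absurd ⟨0, rfl⟩ hk
            | exact absurd ⟨1, rfl⟩ hk
            | exact absurd ⟨2, rfl⟩ hk)]
    rw [← mul_inv_eq_iff_eq_mul] at key
    rw [← key]
    exact mul_mem (mul_mem hr hx) (inv_mem hr)
  obtain ⟨a, b, hab⟩ := exists_sq_add_sq O.two (-1 : F)
  have hrot : ∀ A, liftGL tr3_injective (adjSL O.two hab A) ∈ H := fun A => by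
    have h := le_of_not_mon O.two hab hp hq5 OK hinv hg₀ (fun hm' => hnm' (hg₀m hm')) A
    rwa [hK, Subgroup.mem_comap] at h
  -- Siegel elements inside the standard triple, then inside any three coordinates
  have hint : ∀ s c : V₅, qs F 5 s = 0 → QuadraticMap.polar ⇑(qs F 5) s c = 0 → (supp s ∪ supp c).card ≤ 3 →
      ∃ t ∈ H, (t : M₅) = eMat (qs F 5) s c := by
    intro s c hs hsc hcard
    by_cases hs0 : s = 0
    · refine ⟨1, one_mem H, Matrix.ext_iff_mulVec.2 fun x => ?_⟩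
      rw [eMat_mulVec, hs0, Units.val_one, Matrix.one_mulVec]
      simp
    obtain ⟨T, hsT, hT⟩ := Finset.exists_superset_card_eq hcard (by simp)
    obtain ⟨τ, hτ, hτT⟩ := exists_perm_map (S := T) (S' := Finset.univ.image tr3)
      (by rw [hT, Finset.card_image_of_injective _ tr3_injective]; rfl) (Or.inl (by omega))
    have hpm := O.mem_pure hτ
    obtain ⟨u, hu⟩ : ∃ u : GL₅, u = sp τ fun _ => 1 := ⟨_, rfl⟩
    rw [← hu] at hpm
    have hout : ∀ x : V₅, supp x ⊆ supp s ∪ supp c → ∀ k, k ∉ Set.range tr3 → ((u : M₅) *ᵥ x) k = 0 := by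
      intro x hx k hk
      rw [hu, sp_mulVec, Units.val_one, one_mul]
      by_contra hne
      have h2 := (hτT (τ.symm k)).2 (hsT (hx (mem_supp.2 hne)))
      rw [Equiv.apply_symm_apply] at h2
      obtain ⟨l, -, e⟩ := Finset.mem_image.1 h2
      exact hk ⟨l, e⟩
    have hback : ∀ x : V₅, (∀ k, k ∉ Set.range tr3 → x k = 0) → pMat F tr3 *ᵥ (x ∘ tr3) = x := fun x hx =>
      funext fun k => by
        by_cases hk : k ∈ Set.range tr3
        · obtain ⟨l, rfl⟩ := hk; rw [pMat_mulVec_apply tr3_injective]; rfl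
        · rw [pMat_mulVec_of_notMem _ hk, hx k hk]
    have es := hback _ (hout s Finset.subset_union_left)
    have ec := hback _ (hout c Finset.subset_union_right)
    obtain ⟨W, hW⟩ := exists_eMat O.two hab (s := ((u : M₅) *ᵥ s) ∘ tr3) (t := ((u : M₅) *ᵥ c) ∘ tr3)
      (by rw [← qs_pMat tr3_injective, es, O.iso u hpm, hs])
      (by rw [← polar_pMat tr3_injective, es, OrthAut.isometry_polar (O.iso u hpm), hsc])
      (fun e => hs0 (by
        rw [e, Matrix.mulVec_zero] at es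
        rw [← inv_mulVec_cancel u s, ← es, Matrix.mulVec_zero]))
    obtain ⟨t, ht, et⟩ := O.siegel_conj (inv_mem hpm) (s := (u : M₅) *ᵥ s) (b := (u : M₅) *ᵥ c)
      ⟨_, hrot W, by
        show lMat tr3 (adjM a b (Matrix.SpecialLinearGroup.toGL W)) = _
        rw [hW, lMat_eMat tr3_injective, es, ec]⟩
    exact ⟨t, ht, by rw [et, inv_mulVec_cancel, inv_mulVec_cancel]⟩
  -- one outside coordinate
  have hstd : ∀ s : V₅, qs F 5 s = 0 → s 2 = 0 → s 4 = 0 → s 3 ≠ 0 →
      ∃ t ∈ H, (t : M₅) = eMat (qs F 5) s (Pi.single 2 1) := by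
    intro s hs s2 s4 s3
    have hcast : ((2 : F) ≠ 0 ∧ (3 : F) ≠ 0) := by
      haveI : Fact (Fintype.card F).Prime := ⟨hp⟩
      haveI : CharP F (Fintype.card F) := charP_of_card_eq_prime rfl
      refine ⟨O.two, fun h => ?_⟩
      have h' : ((3 : ℕ) : F) = 0 := by exact_mod_cast h
      have := Nat.le_of_dvd (by norm_num) ((CharP.cast_eq_zero_iff F (Fintype.card F) 3).1 h')
      omega
    have h4 : (4 : F) ≠ 0 := by rw [show (4 : F) = 2 * 2 by norm_num]; exact mul_ne_zero O.two O.two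
    obtain ⟨α, hα⟩ : ∃ α, α * (4 * s 3) = 3 := ⟨_, div_mul_cancel₀ 3 (mul_ne_zero h4 s3)⟩
    obtain ⟨γ, hγ⟩ : ∃ γ : F, γ * 4 = 5 := ⟨_, div_mul_cancel₀ 5 h4⟩
    have hα0 : α ≠ 0 := fun e => hcast.2 (by rw [← hα, e, zero_mul])
    have hs' : s 0 * s 0 + s 1 * s 1 = -(s 3 * s 3) := by
      rw [qs_apply, Fin.sum_univ_five, s2, s4] at hs; linear_combination hs
    obtain ⟨f, hf⟩ : ∃ f : Fin 3 → F, f = ![α * s 1, -(α * s 0), γ] := ⟨_, rfl⟩
    obtain ⟨A, hA⟩ := exists_col (f := f) O.two hab (by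
      rw [hf, qs_apply, Fin.sum_univ_three]
      simp
      refine mul_left_cancel₀ (mul_ne_zero h4 h4) ?_
      linear_combination 16 * (α * α) * hs' - (α * (4 * s 3) + 3) * hα + (γ * 4 + 5) * hγ)
    obtain ⟨hcs, hc1, hc3, hc4, hc0, hc1', hc2⟩ := cyc_spec
    obtain ⟨mc, hmc⟩ : ∃ mc : GL₅, mc = sp cyc fun _ => 1 := ⟨_, rfl⟩
    have hmcH : mc ∈ H := hmc ▸ O.mem_pure hcs
    obtain ⟨d, hd⟩ : ∃ d, d = mc * liftGL tr3_injective (adjSL O.two hab A) * mc⁻¹ := ⟨_, rfl⟩
    have hdH : d ∈ H := hd ▸ mul_mem (mul_mem hmcH (hrot A)) (inv_mem hmcH)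
    have hdeval : ∀ x k, ((d : M₅) *ᵥ x) k =
        (lMat tr3 (adjM a b (Matrix.SpecialLinearGroup.toGL A)) *ᵥ (((mc⁻¹ : GL₅) : M₅) *ᵥ x)) (cyc.symm k) := by
      intro x k
      rw [hd, Units.val_mul, Units.val_mul, ← Matrix.mulVec_mulVec, ← Matrix.mulVec_mulVec, hmc, sp_mulVec,
        Units.val_one, one_mul]
      rfl
    have hminv : ∀ x k, (((mc⁻¹ : GL₅) : M₅) *ᵥ x) k = x (cyc k) := fun x k => by
      have h := congrFun (mulVec_inv_cancel mc x) (cyc k)
      rwa [hmc, sp_mulVec, Units.val_one, one_mul, Equiv.symm_apply_apply, ← hmc] at h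
    have hd3 : ∀ x, ((d : M₅) *ᵥ x) 3 = x 3 ∧ ((d : M₅) *ᵥ x) 4 = x 4 := fun x => by
      refine ⟨?_, ?_⟩
      · rw [hdeval, hc3, lMat_apply_out _ _ (not_range_tr3 _ (by decide) (by decide) (by decide)), hminv]; rfl
      · rw [hdeval, hc4, lMat_apply_out _ _ (not_range_tr3 _ (by decide) (by decide) (by decide)), hminv]; rfl
    have hde0 : (d : M₅) *ᵥ Pi.single 0 1 = ![f 0, f 1, f 2, 0, 0] := by
      have he : ((((mc⁻¹ : GL₅) : M₅) *ᵥ (Pi.single (0 : Fin 5) 1))) ∘ tr3 = Pi.single 0 1 := by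
        funext l
        rw [Function.comp_apply, hminv]
        fin_cases l <;> simp [tr3, cyc] <;> decide
      funext k
      rw [hdeval]
      fin_cases k <;> dsimp only [Fin.reduceFinMk, Fin.zero_eta, Fin.mk_one]
      · rw [hc0, show (1 : Fin 5) = tr3 0 from rfl, lMat_apply_range tr3_injective, he, hA]; rfl
      · rw [hc1', show (2 : Fin 5) = tr3 1 from rfl, lMat_apply_range tr3_injective, he, hA]; rfl
      · rw [hc2, show (3 : Fin 5) = tr3 2 from rfl, lMat_apply_range tr3_injective, he, hA]; rfl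
      · rw [hc3, lMat_apply_out _ _ (not_range_tr3 _ (by decide) (by decide) (by decide)), hminv]; simp [cyc]
      · rw [hc4, lMat_apply_out _ _ (not_range_tr3 _ (by decide) (by decide) (by decide)), hminv]; simp [cyc]
    obtain ⟨w, hw⟩ : ∃ w, w = ((d⁻¹ : GL₅) : M₅) *ᵥ s := ⟨_, rfl⟩
    have hdw : (d : M₅) *ᵥ w = s := by rw [hw, mulVec_inv_cancel]
    have w0 : w 0 = 0 := by
      have h := O.polar_eq hdH w (Pi.single 0 1)
      rw [hdw, hde0, Fin.sum_univ_five] at h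
      simp [Pi.single_apply, s2, hf] at h
      linear_combination -h
    have w4 : w 4 = 0 := by rw [← (hd3 w).2, hdw, s4]
    have w3 : w 3 = s 3 := by rw [← (hd3 w).1, hdw]
    have hwq : qs F 5 w = 0 := by rw [← O.iso d hdH w, hdw, hs]
    -- a perpendicular vector leaving the triple
    obtain ⟨c, hcT, hwc, hc⟩ : ∃ c : V₅, (c 0 = 0 ∧ c 4 = 0) ∧ QuadraticMap.polar ⇑(qs F 5) w c = 0 ∧
        ((d : M₅) *ᵥ c) 2 ≠ 0 := by
      obtain ⟨r, hr⟩ : ∃ r, r = ((d⁻¹ : GL₅) : M₅) *ᵥ Pi.single 2 1 := ⟨_, rfl⟩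
      have hdr : (d : M₅) *ᵥ r = Pi.single 2 1 := by rw [hr, mulVec_inv_cancel]
      have hcr : ∀ c, ((d : M₅) *ᵥ c) 2 = ∑ l, c l * r l := fun c => by
        rw [← O.polar_eq hdH c r, hdr]
        simp [Pi.single_apply]
      have r3 : r 3 = 0 := by rw [← (hd3 r).1, hdr]; simp
      have r4 : r 4 = 0 := by rw [← (hd3 r).2, hdr]; simp
      by_contra hcon
      push Not at hcon
      have h1 := hcon ![0, s 3, 0, -w 1, 0] ⟨rfl, rfl⟩ (by
        rw [polar_qs, Fin.sum_univ_five]; simp [w3]; right; ring)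
      have h2 := hcon ![0, 0, s 3, -w 2, 0] ⟨rfl, rfl⟩ (by
        rw [polar_qs, Fin.sum_univ_five]; simp [w3]; right; ring)
      rw [hcr, Fin.sum_univ_five] at h1 h2
      simp [r3, s3] at h1 h2
      have hr' : r = r 0 • Pi.single 0 1 := funext fun l => by
        fin_cases l <;> simp [h1, h2, r3, r4]
      have h := hdr
      rw [hr', Matrix.mulVec_smul, hde0] at h
      have e2 := congrFun h 2
      have e0 := congrFun h 0
      have e1 := congrFun h 1
      simp [hf] at e0 e1 e2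
      have hr0 : r 0 ≠ 0 := fun e => by rw [e] at e2; simp at e2
      have t0 := e1.resolve_left hr0
      have t1 := e0.resolve_left hr0
      simp [hα0] at t0 t1
      rw [t0, t1] at hs'
      exact s3 (mul_self_eq_zero.1 (by linear_combination hs'))
    obtain ⟨c', hc'⟩ : ∃ c', c' = (d : M₅) *ᵥ c := ⟨_, rfl⟩
    rw [← hc'] at hc
    have hsub : ∀ x y z : Fin 5, ∀ u v : V₅, (∀ k, k ≠ x → k ≠ y → k ≠ z → u k = 0) →
        (∀ k, k ≠ x → k ≠ y → k ≠ z → v k = 0) → (supp u ∪ supp v).card ≤ 3 := fun x y z u v hu hv => by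
      refine (Finset.card_le_card (t := {x, y, z}) fun k hk => ?_).trans Finset.card_le_three
      by_contra hc
      simp only [Finset.mem_insert, Finset.mem_singleton, not_or] at hc
      rcases Finset.mem_union.1 hk with h | h
      · exact mem_supp.1 h (hu k hc.1 hc.2.1 hc.2.2)
      · exact mem_supp.1 h (hv k hc.1 hc.2.1 hc.2.2)
    obtain ⟨t, ht, et⟩ := O.siegel_conj hdH (hint w c hwq hwc (hsub 1 2 3 w c
      (fun k a b c' => by rcases out123 k a b c' with rfl | rfl <;> assumption)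
      (fun k a b c' => by rcases out123 k a b c' with rfl | rfl; exacts [hcT.1, hcT.2])))
    rw [hdw, ← hc'] at et
    have hsc' : QuadraticMap.polar ⇑(qs F 5) s c' = 0 := by
      rw [← hdw, hc', OrthAut.isometry_polar (O.iso d hdH), hwc]
    have hmem' : c' ∈ CR (M := H) hs := O.mem_CR_of hp hs hsc' ⟨t, ht, et⟩
    have hc'4 : c' 4 = 0 := by rw [hc', (hd3 c).2, hcT.2]
    obtain ⟨c₀, hc₀⟩ : ∃ c₀, c₀ = c' - c' 2 • Pi.single 2 (1 : F) := ⟨_, rfl⟩
    have hp0 : QuadraticMap.polar ⇑(qs F 5) s c₀ = 0 := by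
      rw [hc₀, QuadraticMap.polar_sub_right, hsc', QuadraticMap.polar_smul_right, polar_qs, Fin.sum_univ_five]
      simp [s2]
    have hmem₀ : c₀ ∈ CR (M := H) hs := O.mem_CR_of hp hs hp0 (hint s c₀ hs hp0 (hsub 0 1 3 s c₀
      (fun k a b c => by rcases out013 k a b c with rfl | rfl <;> assumption)
      (fun k a b c => by rcases out013 k a b c with rfl | rfl <;> simp [hc₀, hc'4])))
    have hmem : Pi.single 2 (1 : F) ∈ CR (M := H) hs := by
      have h := Submodule.smul_mem _ (c' 2)⁻¹ (Submodule.sub_mem _ hmem' hmem₀)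
      rwa [hc₀, sub_sub_cancel, smul_smul, inv_mul_cancel₀ hc, one_smul] at h
    obtain ⟨t', ht', e'⟩ := hmem.2 1
    exact ⟨t', ht', by rw [e', one_smul]⟩
  intro s hs hs3 c hc
  by_cases hs0 : s = 0
  · refine ⟨1, one_mem H, Matrix.ext_iff_mulVec.2 fun x => ?_⟩
    rw [eMat_mulVec, hs0, Units.val_one, Matrix.one_mulVec]
    simp
  obtain ⟨k₁, hk₁⟩ := Function.ne_iff.1 hs0
  have hsingle : ∀ k ∉ supp s, Pi.single k (1 : F) ∈ CR (M := H) hs := by
    intro k hk
    have hsk : s k = 0 := by_contra fun h => hk (mem_supp.2 h)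
    obtain ⟨l, hl, hlk⟩ := Finset.exists_mem_ne (s := (supp s)ᶜ) (by
      rw [Finset.card_compl, Fintype.card_fin]; omega) k
    have hsl : s l = 0 := by_contra fun h => Finset.mem_compl.1 hl (mem_supp.2 h)
    obtain ⟨τ, hτ, h2, h3, h4⟩ := exists_even_three k k₁ l (fun e => hk₁ (e ▸ hsk)) hlk.symm (fun e => hk₁ (e ▸ hsl))
    have hpm := O.mem_pure hτ
    obtain ⟨u, hu⟩ : ∃ u : GL₅, u = sp τ fun _ => 1 := ⟨_, rfl⟩
    rw [← hu] at hpm
    have hu' : ∀ x l, ((u : M₅) *ᵥ x) (τ l) = x l := fun x l => by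
      rw [hu, sp_mulVec, Units.val_one, one_mul, Equiv.symm_apply_apply]
    obtain ⟨t, ht, et⟩ := O.siegel_conj (inv_mem hpm) (hstd ((u : M₅) *ᵥ s) (by rw [O.iso u hpm, hs])
      (by rw [← h2, hu', hsk]) (by rw [← h4, hu', hsl]) (by rw [← h3, hu']; exact hk₁))
    have hek : ((u⁻¹ : GL₅) : M₅) *ᵥ Pi.single 2 1 = Pi.single k 1 := by
      refine gl_mulVec_injective u ?_
      show (u : M₅) *ᵥ _ = (u : M₅) *ᵥ _
      rw [mulVec_inv_cancel, hu, sp_single, h2, Units.val_one]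
    rw [inv_mulVec_cancel, hek] at et
    refine O.mem_CR_of hp hs ?_ ⟨t, ht, et⟩
    rw [polar_qs, Finset.sum_eq_single k (fun j _ hj => by rw [Pi.single_eq_of_ne hj, mul_zero]) (by simp), hsk]
    ring
  obtain ⟨c₀, hc₀⟩ : ∃ c₀ : V₅, c₀ = fun i => if i ∈ supp s then c i else 0 := ⟨_, rfl⟩
  have hp0 : QuadraticMap.polar ⇑(qs F 5) s c₀ = 0 := by
    rw [← hc, polar_qs, polar_qs, hc₀]
    congr 1
    refine Finset.sum_congr rfl fun i _ => ?_
    by_cases hi : i ∈ supp s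
    · simp only [if_pos hi]
    · simp only [if_neg hi]
      rw [show s i = 0 from by_contra fun h => hi (mem_supp.2 h)]
      ring
  have hmem0 : c₀ ∈ CR (M := H) hs := O.mem_CR_of hp hs hp0 (hint s c₀ hs hp0 (by
    refine (Finset.card_le_card (Finset.union_subset (Finset.Subset.refl _) fun i hi => ?_)).trans hs3
    by_contra hi'
    exact (mem_supp.1 hi) (by rw [hc₀]; exact if_neg hi')))
  have hsum : c = c₀ + ∑ i ∈ (supp s)ᶜ, c i • Pi.single i (1 : F) := funext fun j => by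
    rw [Pi.add_apply, Finset.sum_apply, hc₀]
    by_cases hj : j ∈ supp s
    · rw [Finset.sum_eq_zero fun i hi => by
        rw [Pi.smul_apply, Pi.single_eq_of_ne (fun e : j = i => Finset.mem_compl.1 hi (e ▸ hj)), smul_zero]]
      simp [hj]
    · rw [Finset.sum_eq_single j (fun i _ hi => by rw [Pi.smul_apply, Pi.single_eq_of_ne (Ne.symm hi), smul_zero])
        (fun h => absurd (Finset.mem_compl.2 hj) h)]
      simp [hj]
  have hmem : c ∈ CR (M := H) hs := by
    rw [hsum]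
    exact Submodule.add_mem _ hmem0 (Submodule.sum_mem _ fun i hi =>
      Submodule.smul_mem _ _ (hsingle i (Finset.mem_compl.1 hi)))
  obtain ⟨t, ht, e⟩ := hmem.2 1
  exact ⟨t, ht, by rw [e, one_smul]⟩

end Cfsg.Agent.Classical.OrthFrame
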