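import Mathlib

/-!
Pairs of involutions in a finite group.
-/

set_option autoImplicit false

namespace Cfsg.Agent.Classical.MaxTv

/-- Two involutions are conjugate, or a third one commutes with both of them. -/
theorem conj_or_central {G : Type*} [Group G] [Finite G] {t u : G} (ht : t * t = 1) (hu : u * u = 1) (hne : t ≠ u) :
    (∃ k : G, k * t * k⁻¹ = u) ∨ ∃ z ∈ Subgroup.zpowers (t * u), z * z = 1 ∧ z ≠ 1 ∧ z * t = t * z ∧ z * u = u * z := by
  have hti : t⁻¹ = t := inv_eq_of_mul_eq_one_right ht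
  have hui : u⁻¹ = u := inv_eq_of_mul_eq_one_right hu
  set d := t * u with hd
  have hconj : t * d * t⁻¹ = d⁻¹ := by
    rw [hd, _root_.mul_inv_rev, hti, hui, ← mul_assoc t t u, ht, one_mul]
  have htd : ∀ k : ℕ, t * d ^ k = (d ^ k)⁻¹ * t := fun k => by
    rw [← inv_pow, ← hconj, conj_pow, inv_mul_cancel_right]
  obtain ⟨N, hN⟩ : ∃ N, orderOf d = N := ⟨_, rfl⟩
  rcases Nat.even_or_odd N with ⟨j, hj⟩ | ⟨j, hj⟩
  · refine Or.inr ⟨d ^ j, ⟨(j : ℤ), zpow_natCast d j⟩, ?_, ?_, ?_, ?_⟩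
    · rw [← pow_add, ← hj, ← hN, pow_orderOf_eq_one]
    · refine pow_ne_one_of_lt_orderOf ?_ (by rw [hN]; have := orderOf_pos d; omega)
      intro h0
      have := orderOf_pos d
      omega
    · have h1 : (d ^ j)⁻¹ = d ^ j :=
        inv_eq_of_mul_eq_one_right (by rw [← pow_add, ← hj, ← hN, pow_orderOf_eq_one])
      rw [htd, h1]
    · have h1 : (d ^ j)⁻¹ = d ^ j :=
        inv_eq_of_mul_eq_one_right (by rw [← pow_add, ← hj, ← hN, pow_orderOf_eq_one])
      have hu' : u = t * d := by rw [hd, ← mul_assoc, ht, one_mul]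
      rw [hu', ← mul_assoc, mul_assoc t d, ← (Commute.self_pow d j).eq.symm.trans rfl, ← mul_assoc t (d ^ j),
        htd, h1]
  · refine Or.inl ⟨d ^ j, ?_⟩
    have h1 : d ^ (j + (j + 1)) = 1 := by rw [show j + (j + 1) = N by omega, ← hN, pow_orderOf_eq_one]
    rw [mul_assoc, show t * (d ^ j)⁻¹ = d ^ j * t from ?_, ← mul_assoc, ← pow_add]
    · rw [show d ^ (j + j) = d⁻¹ from eq_inv_of_mul_eq_one_left (by rw [← pow_succ, Nat.add_assoc, h1])]
      rw [hd, _root_.mul_inv_rev, hti, hui, mul_assoc, ht, mul_one]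
    · have := htd j
      calc t * (d ^ j)⁻¹ = d ^ j * ((d ^ j)⁻¹ * t) * (d ^ j)⁻¹ := by group
        _ = d ^ j * (t * d ^ j) * (d ^ j)⁻¹ := by rw [this]
        _ = d ^ j * t := by group

end Cfsg.Agent.Classical.MaxTv
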