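import Cfsg.Agent.Lib.Classical.MaxRational
import Cfsg.Agent.Lib.Classical.MaxInvol
import Cfsg.Agent.Lib.Classical.MaxSympWreath
import Cfsg.Agent.Lib.Classical.MaxSympSubspace

/-!
Subfield subgroups are maximal in symplectic groups of dimension at least fourteen.
-/

set_option autoImplicit false
set_option linter.unusedSectionVars false

namespace Cfsg.Agent.Classical.MaxTv

open Matrix Module

/-- An additive set of coefficients with the closure properties below, larger than `F₀`, is everything. -/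
theorem coef_closure {F : Type*} [Field F] [Fintype F] {F₀ : Subfield F} {r : ℕ} (hr : r.Prime)
    (hcard : Fintype.card F = Nat.card F₀ ^ r) (A X : F → Prop)
    (hA0 : ∀ b ∈ F₀, A b) (hAadd : ∀ a b, A a → A b → A (a + b)) (hXadd : ∀ a b, X a → X b → X (a + b))
    (hAX : ∀ a, A a → X a) (hmul : ∀ c β, A c → X β → X (c * β)) (hsq : ∀ c β, A c → X β → A (c * β ^ 2))
    {a : F} (ha : A a) (han : a ∉ F₀) : ∀ b, A b := by
  have hrank : finrank F₀ F = r := by
    refine Nat.pow_right_injective (Finite.one_lt_card (α := F₀)) ?_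
    show Nat.card F₀ ^ finrank F₀ F = Nat.card F₀ ^ r
    rw [← Module.natCard_eq_pow_finrank, ← hcard, Nat.card_eq_fintype_card]
  have hne : IntermediateField.adjoin F₀ ({a} : Set F) ≠ ⊥ := fun e => by
    have h1 : a ∈ IntermediateField.adjoin F₀ ({a} : Set F) := IntermediateField.subset_adjoin F₀ _ rfl
    rw [e, IntermediateField.mem_bot] at h1
    obtain ⟨b, hb⟩ := h1
    exact han (hb ▸ b.2)
  have : IsSimpleOrder (IntermediateField F₀ F) :=
    IntermediateField.isSimpleOrder_of_finrank_prime (F := F₀) (E := F) (hrank ▸ hr)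
  have htop := (IsSimpleOrder.eq_bot_or_eq_top _).resolve_left hne
  have halg : IsAlgebraic F₀ a := Algebra.IsAlgebraic.isAlgebraic a
  have hsub := IntermediateField.adjoin_simple_toSubalgebra_of_isAlgebraic halg
  rw [htop, IntermediateField.top_toSubalgebra] at hsub
  have hK : ∀ k : F, ∀ β, X β → X (k * β) := fun k => by
    have hk : k ∈ Algebra.adjoin F₀ ({a} : Set F) := by rw [← hsub]; exact Algebra.mem_top
    induction hk using Algebra.adjoin_induction with
    | mem x hx => rw [Set.mem_singleton_iff.1 hx]; exact fun β => hmul a β ha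
    | algebraMap b => exact fun β => hmul _ β (hA0 _ b.2)
    | add x y _ _ hx hy => intro β hβ; rw [add_mul]; exact hXadd _ _ (hx β hβ) (hy β hβ)
    | mul x y _ _ hx hy => intro β hβ; rw [mul_assoc]; exact hx _ (hy β hβ)
  have hX : ∀ k, X k := fun k => by simpa using hK k 1 (hAX 1 (hA0 1 (one_mem _)))
  intro b
  by_cases h2 : ringChar F = 2
  · obtain ⟨k, rfl⟩ := FiniteField.isSquare_of_char_two h2 b
    have := hsq 1 k (hA0 1 (one_mem _)) (hX k)
    rwa [one_mul, sq] at this
  · have h2' : (2 : F) ≠ 0 := Ring.two_ne_zero h2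
    have h4 : (1 / 4 : F) ∈ F₀ := div_mem (one_mem _) (by exact_mod_cast natCast_mem F₀ 4)
    have := hAadd _ _ (hsq (1 / 4) (b + 1) (hA0 _ h4) (hX _)) (hsq (-(1 / 4)) (b - 1) (hA0 _ (neg_mem h4)) (hX _))
    convert this using 1
    have h4' : (4 : F) ≠ 0 := by rw [show (4 : F) = 2 * 2 by norm_num]; exact mul_ne_zero h2' h2'
    field_simp
    ring

variable {F : Type*} [Field F] {m : ℕ}

local notation "V" => (Fin m ⊕ Fin m → F)
local notation "Mn" => Matrix (Fin m ⊕ Fin m) (Fin m ⊕ Fin m) F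
local notation "B" => sympForm m F
local notation "G" => GL (Fin m ⊕ Fin m) F

/-- The displacement of a transvection. -/
def qMap (v : Fin m ⊕ Fin m → F) (c : F) (x : Fin m ⊕ Fin m → F) : Fin m ⊕ Fin m → F :=
  (c * sympForm m F x v) • v

/-- The displacement of a product of three transvections. -/
def sMap (u w : Fin m ⊕ Fin m → F) (c : F) (x : Fin m ⊕ Fin m → F) : Fin m ⊕ Fin m → F :=
  (c * sympForm m F x u) • w + (c * sympForm m F x w) • u

/-- `M` contains the transvection of coefficient `c` at `v`. -/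
def HasC (M : Subgroup (GL (Fin m ⊕ Fin m) F)) (v : Fin m ⊕ Fin m → F) (c : F) : Prop := InN M (qMap v c)

variable {M : Subgroup (GL (Fin m ⊕ Fin m) F)} {v w : Fin m ⊕ Fin m → F} {c c' : F}

theorem qMap_add_vec (u w x : V) (c : F) : qMap (u + w) c x = qMap u c x + qMap w c x + sMap u w c x := by
  simp only [qMap, sMap, sympForm_add_right]
  module

theorem qMap_shift (v : V) (c : F) (x k : V) (h : B k v = 0) : qMap v c (x + k) = qMap v c x := by
  simp only [qMap, sympForm_add_left, h, add_zero]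

theorem HasC.add (h : HasC M v c) (h' : HasC M v c') : HasC M v (c + c') :=
  (InN.add h h' fun x => qMap_shift v c x _ (by
    rw [qMap, sympForm_smul_left, sympForm_self, mul_zero])).congr fun x => by
      simp only [qMap]; module

theorem HasC.zero : HasC M v 0 := ⟨1, one_mem M, fun x => by simp [qMap]⟩

theorem HasC.neg (h : HasC M v c) : HasC M v (-c) :=
  (InN.neg h fun x => by
    rw [sub_eq_add_neg]
    exact qMap_shift v c x _ (by rw [← neg_one_smul F, sympForm_smul_left, qMap, sympForm_smul_left,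
      sympForm_self, mul_zero, mul_zero])).congr fun x => by simp only [qMap]; module

theorem HasC.cons {N : V → V} (h : HasC M v c) (h' : InN M N) (hN : ∀ x, B (N x) v = 0) :
    InN M fun x => qMap v c x + N x :=
  InN.add h h' fun x => qMap_shift v c x _ (hN x)

theorem HasC.scale {a : F} (h : HasC M (a • v) c) : HasC M v (c * a ^ 2) :=
  InN.congr h fun x => by simp only [qMap, sympForm_smul_right]; module

theorem HasC.unscale {a : F} (h : HasC M v (c * a ^ 2)) : HasC M (a • v) c :=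
  InN.congr h fun x => by simp only [qMap, sympForm_smul_right]; module

theorem HasC.map (h : HasC M v c) {T : GL (Fin m ⊕ Fin m) F} (hT : T ∈ M)
    (hTs : ∀ x y, B ((T : Mn) *ᵥ x) ((T : Mn) *ᵥ y) = B x y) : HasC M ((T : Mn) *ᵥ v) c := by
  obtain ⟨S, hS, hSx⟩ := h
  refine ⟨T * S * T⁻¹, mul_mem (mul_mem hT hS) (inv_mem hT), fun x => ?_⟩
  rw [Units.val_mul, Units.val_mul, ← Matrix.mulVec_mulVec, ← Matrix.mulVec_mulVec, hSx, Matrix.mulVec_add,
    mulVec_inv_cancel, qMap, qMap, Matrix.mulVec_smul, ← hTs, mulVec_inv_cancel]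

theorem HasC.toInT (h : HasC M v c) : InT M v (fn (sympForm m F) (c • v)) :=
  h.imp fun T hT => ⟨hT.1, fun x => by rw [hT.2, fn_dot sesq_sympForm, sympForm_smul_right]; rfl⟩

theorem HasC.ofInT (h : InT M v (fn (sympForm m F) (c • v))) : HasC M v c :=
  h.imp fun T hT => ⟨hT.1, fun x => by rw [hT.2, fn_dot sesq_sympForm, sympForm_smul_right]; rfl⟩

/-- The hypotheses on `F₀`, `P`, `ζ` and `M`. -/
structure SubfieldData (F₀ : Subfield F) (P : GL (Fin m ⊕ Fin m) F) (ζ : F)
    (M : Subgroup (GL (Fin m ⊕ Fin m) F)) : Prop where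
  ne_zero : ζ ≠ 0
  rat : ∀ x y, Rat F₀ P x → Rat F₀ P y → ζ * sympForm m F x y ∈ F₀
  mem : ∀ h ∈ spGL m F, RatMap F₀ P h → h ∈ M
  le : M ≤ spGL m F
  dim : 2 ≤ m

variable {F₀ : Subfield F} {P : GL (Fin m ⊕ Fin m) F} {ζ : F}

theorem form_expand (P : GL (Fin m ⊕ Fin m) F) (x w : Fin m ⊕ Fin m → F) :
    sympForm m F x w = ∑ i, (((P⁻¹ : G) : Mn) *ᵥ x) i * sympForm m F ((P : Mn) *ᵥ Pi.single i 1) w := by
  show sesq_sympForm.lin w x = _
  conv_lhs => rw [eq_sum_rat P x]
  simp only [map_sum, map_smul, smul_eq_mul, Sesq.lin_apply]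

namespace SubfieldData

variable (hd : SubfieldData F₀ P ζ M)
include hd

theorem iso {T : GL (Fin m ⊕ Fin m) F} (hT : T ∈ M) : ∀ x y, B ((T : Mn) *ᵥ x) ((T : Mn) *ᵥ y) = B x y :=
  mem_spGL.1 (hd.le hT)

theorem eq_zero {w : V} (h : ∀ u, Rat F₀ P u → B u w = 0) : w = 0 :=
  sesq_sympForm.eq_zero w fun x => by
    rw [eq_sum_rat P x, ← sympB_apply, map_sum, LinearMap.sum_apply]
    refine Finset.sum_eq_zero fun i _ => ?_
    rw [map_smul, LinearMap.smul_apply, sympB_apply, h _ (rat_single i), smul_zero]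

theorem exists_partner {r : V} (hr : Rat F₀ P r) (hr0 : r ≠ 0) :
    ∃ s, Rat F₀ P s ∧ ζ * B r s = 1 := by
  obtain ⟨u, hu, hne⟩ : ∃ u, Rat F₀ P u ∧ B u r ≠ 0 := by
    by_contra hc
    push Not at hc
    exact hr0 (hd.eq_zero hc)
  have hne' : B r u ≠ 0 := fun e => hne (sesq_sympForm.refl _ _ e)
  refine ⟨(ζ * B r u)⁻¹ • u, hu.smul (inv_mem (hd.rat r u hr hu)), ?_⟩
  rw [sympForm_smul_right, mul_left_comm, inv_mul_cancel₀ (mul_ne_zero hd.ne_zero hne')]

/-- A rational vector orthogonal to `r`, not to `x`. -/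
theorem exists_sep {x r : V} (hr : Rat F₀ P r) (hr0 : r ≠ 0) (hx : ∀ k : F, x ≠ k • r) :
    ∃ z, Rat F₀ P z ∧ B r z = 0 ∧ B x z ≠ 0 := by
  obtain ⟨s, hs, hrs⟩ := hd.exists_partner hr hr0
  by_contra hc
  push Not at hc
  refine hx (ζ * B x s) (sub_eq_zero.1 (hd.eq_zero fun u hu => ?_))
  have h1 := hc (u - (ζ * B r u) • s) (hu.sub (hs.smul (hd.rat r u hr hu))) (by
    rw [sympForm_sub_right, sympForm_smul_right]
    linear_combination (-(B r u)) * hrs)
  rw [sympForm_sub_right, sympForm_smul_right] at h1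
  rw [sympForm_sub_right, sympForm_smul_right, sympForm_swap u x, sympForm_swap u r]
  linear_combination -h1

theorem exists_sep_both {x y r : V} (hr : Rat F₀ P r) (hr0 : r ≠ 0) (hx : ∀ k : F, x ≠ k • r)
    (hy : ∀ k : F, y ≠ k • r) : ∃ z, Rat F₀ P z ∧ B r z = 0 ∧ B x z ≠ 0 ∧ B y z ≠ 0 := by
  obtain ⟨a, ha, har, hax⟩ := hd.exists_sep hr hr0 hx
  obtain ⟨b, hb, hbr, hby⟩ := hd.exists_sep hr hr0 hy
  by_cases h1 : B y a ≠ 0
  · exact ⟨a, ha, har, hax, h1⟩
  by_cases h2 : B x b ≠ 0
  · exact ⟨b, hb, hbr, h2, hby⟩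
  push Not at h1 h2
  exact ⟨a + b, ha.add hb, by rw [sympForm_add_right, har, hbr, add_zero],
    by rw [sympForm_add_right, h2, add_zero]; exact hax, by rw [sympForm_add_right, h1, zero_add]; exact hby⟩

/-- Few rational vectors have a common rational perpendicular vector. -/
theorem exists_perp {κ : Type} [Fintype κ] (l : κ → V) (hl : ∀ i, Rat F₀ P (l i))
    (hκ : Fintype.card κ < m + m) : ∃ y, Rat F₀ P y ∧ y ≠ 0 ∧ ∀ i, B y (l i) = 0 := by
  classical
  let A : Matrix κ (Fin m ⊕ Fin m) F₀ := fun i j => ⟨ζ * B ((P : Mn) *ᵥ Pi.single j 1) (l i),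
    hd.rat _ _ (rat_single j) (hl i)⟩
  have hAx : ∀ (x : V) i, (A.map F₀.subtype *ᵥ x) i = ζ * B ((P : Mn) *ᵥ x) (l i) := fun x i => by
    rw [form_expand P ((P : Mn) *ᵥ x), inv_mulVec_cancel, Finset.mul_sum]
    show ∑ j, (A.map F₀.subtype) i j * x j = _
    refine Finset.sum_congr rfl fun j _ => ?_
    show (ζ * B _ (l i)) * x j = _
    ring
  obtain ⟨x, hx0, hx⟩ : ∃ x : V, x ≠ 0 ∧ A.map F₀.subtype *ᵥ x = 0 := by
    have h1 := (Matrix.mulVecLin (A.map F₀.subtype)).finrank_range_add_finrank_ker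
    have h2 : finrank F (LinearMap.range (Matrix.mulVecLin (A.map F₀.subtype))) ≤ Fintype.card κ :=
      (Submodule.finrank_le _).trans (Module.finrank_pi F).le
    rw [Module.finrank_pi, Fintype.card_sum, Fintype.card_fin] at h1
    obtain ⟨x, hx, hx0⟩ := Submodule.exists_mem_ne_zero_of_ne_bot
      (p := LinearMap.ker (Matrix.mulVecLin (A.map F₀.subtype))) (fun e => by rw [e, finrank_bot] at h1; omega)
    exact ⟨x, hx0, LinearMap.mem_ker.1 hx⟩
  obtain ⟨y, hy0, hy⟩ := exists_rational_ker A hx0 hx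
  refine ⟨(P : Mn) *ᵥ fun j => (y j : F), rat_of_coe y, fun e => hy0 ?_, fun i => ?_⟩
  · funext j
    refine Subtype.ext ?_
    have := congrArg (fun z => ((P⁻¹ : G) : Mn) *ᵥ z) e
    simp only [inv_mulVec_cancel, Matrix.mulVec_zero] at this
    exact congrFun this j
  · have h1 := (RingHom.map_mulVec F₀.subtype A y i).symm.trans (congrArg F₀.subtype (congrFun hy i))
    rw [Pi.zero_apply, map_zero] at h1
    exact (mul_eq_zero.1 ((hAx _ i).symm.trans h1)).resolve_left hd.ne_zero

theorem hasC_rat {v : V} (hv : Rat F₀ P v) {b : F} (hb : b ∈ F₀) : HasC M v (ζ * b) := by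
  obtain ⟨T, hTs, hT⟩ := exists_sp_tv v (ζ * b)
  refine ⟨T, hd.mem T hTs fun x hx => ?_, fun x => hT x⟩
  rw [hT]
  refine hx.add (Rat.smul ?_ hv)
  rw [mul_right_comm]
  exact mul_mem (hd.rat x v hx hv) hb

theorem exists_move {x y : V} (hx : Rat F₀ P x) (hy : Rat F₀ P y) (h : B x y ≠ 0) :
    ∃ T ∈ M, RatMap F₀ P T ∧ (T : Mn) *ᵥ x = y ∧ ∀ z, B z (y - x) = 0 → (T : Mn) *ᵥ z = z := by
  obtain ⟨T, hTs, hT⟩ := exists_sp_tv (y - x) (B x y)⁻¹
  have hR : RatMap F₀ P T := fun z hz => by
    rw [hT]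
    refine hz.add (Rat.smul ?_ (hy.sub hx))
    rw [show (B x y)⁻¹ * B z (y - x) = (ζ * B x y)⁻¹ * (ζ * B z (y - x)) by
      have := hd.ne_zero; field_simp]
    exact mul_mem (inv_mem (hd.rat x y hx hy)) (hd.rat z _ hz (hy.sub hx))
  refine ⟨T, hd.mem T hTs hR, hR, ?_, fun z hz => by rw [hT, hz, mul_zero, zero_smul, add_zero]⟩
  rw [hT, sympForm_sub_right, sympForm_self, sub_zero, inv_mul_cancel₀ h, one_smul, add_sub_cancel]

theorem exists_trans {x y : V} (hx : Rat F₀ P x) (hy : Rat F₀ P y) (hx0 : x ≠ 0) (hy0 : y ≠ 0) :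
    ∃ T ∈ M, RatMap F₀ P T ∧ (T : Mn) *ᵥ x = y := by
  by_cases h : B x y = 0
  · obtain ⟨a, ha, hax⟩ := hd.exists_partner hx hx0
    obtain ⟨b, hb, hby⟩ := hd.exists_partner hy hy0
    have hne : ∀ {p q : V}, ζ * B p q = 1 → B p q ≠ 0 := fun {p q} e e0 => by
      rw [e0, mul_zero] at e; exact zero_ne_one e
    obtain ⟨z, hz, hz1, hz2⟩ : ∃ z, Rat F₀ P z ∧ B x z ≠ 0 ∧ B y z ≠ 0 := by
      by_cases h1 : B y a ≠ 0
      · exact ⟨a, ha, hne hax, h1⟩
      by_cases h2 : B x b ≠ 0
      · exact ⟨b, hb, h2, hne hby⟩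
      push Not at h1 h2
      exact ⟨a + b, ha.add hb, by rw [sympForm_add_right, h2, add_zero]; exact hne hax,
        by rw [sympForm_add_right, h1, zero_add]; exact hne hby⟩
    obtain ⟨S, hS, hSR, hSx, -⟩ := hd.exists_move hx hz hz1
    obtain ⟨T, hT, hTR, hTz, -⟩ := hd.exists_move hz hy fun e => hz2 (sesq_sympForm.refl _ _ e)
    exact ⟨T * S, mul_mem hT hS, fun p hp => by rw [Units.val_mul, ← Matrix.mulVec_mulVec]; exact hTR _ (hSR p hp),
      by rw [Units.val_mul, ← Matrix.mulVec_mulVec, hSx, hTz]⟩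
  · obtain ⟨T, hT, hTR, hTx, -⟩ := hd.exists_move hx hy h
    exact ⟨T, hT, hTR, hTx⟩

end SubfieldData

/-- Rational, orthogonal, independent. -/
structure RatPair (F₀ : Subfield F) (P : GL (Fin m ⊕ Fin m) F) (x r : Fin m ⊕ Fin m → F) : Prop where
  left : Rat F₀ P x
  right : Rat F₀ P r
  ne : r ≠ 0
  orth : sympForm m F x r = 0
  indep : ∀ k : F, x ≠ k • r

namespace SubfieldData

variable (hd : SubfieldData F₀ P ζ M)
include hd

theorem exists_pair_trans {x r x' r' : V} (hp : RatPair F₀ P x r) (hp' : RatPair F₀ P x' r') :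
    ∃ T ∈ M, RatMap F₀ P T ∧ (T : Mn) *ᵥ x = x' ∧ (T : Mn) *ᵥ r = r' := by
  obtain ⟨S, hS, hSR, hSr⟩ := hd.exists_trans hp.right hp'.right hp.ne hp'.ne
  have hx1 : Rat F₀ P ((S : Mn) *ᵥ x) := hSR _ hp.left
  have hind : ∀ k : F, (S : Mn) *ᵥ x ≠ k • r' := fun k e => hp.indep k
    (gl_mulVec_injective S (by show (S : Mn) *ᵥ x = (S : Mn) *ᵥ (k • r); rw [Matrix.mulVec_smul, hSr]; exact e))
  have ho : B ((S : Mn) *ᵥ x) r' = 0 := by rw [← hSr, hd.iso hS, hp.orth]
  obtain ⟨z, hz, hrz, hxz, hyz⟩ := hd.exists_sep_both hp'.right hp'.ne hind hp'.indep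
  obtain ⟨T₁, hT₁, hR₁, hx₁, hf₁⟩ := hd.exists_move hx1 hz hxz
  obtain ⟨T₂, hT₂, hR₂, hx₂, hf₂⟩ := hd.exists_move hz hp'.left fun e => hyz (sesq_sympForm.refl _ _ e)
  have e1 : (T₁ : Mn) *ᵥ r' = r' := hf₁ _ (by rw [sympForm_sub_right, hrz, sesq_sympForm.refl _ _ ho, sub_zero])
  have e2 : (T₂ : Mn) *ᵥ r' = r' := hf₂ _ (by rw [sympForm_sub_right, hrz, sesq_sympForm.refl _ _ hp'.orth, sub_zero])
  refine ⟨T₂ * T₁ * S, mul_mem (mul_mem hT₂ hT₁) hS, fun p hp => ?_, ?_, ?_⟩
  · rw [Units.val_mul, Units.val_mul, ← Matrix.mulVec_mulVec, ← Matrix.mulVec_mulVec]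
    exact hR₂ _ (hR₁ _ (hSR p hp))
  · rw [Units.val_mul, Units.val_mul, ← Matrix.mulVec_mulVec, ← Matrix.mulVec_mulVec, hx₁, hx₂]
  · rw [Units.val_mul, Units.val_mul, ← Matrix.mulVec_mulVec, ← Matrix.mulVec_mulVec, hSr, e1, e2]

/-- Enough: coefficients beyond `F₀` at rational vectors exist, if the points `x + ν r` exist. -/
theorem all_coef [Fintype F] (h3 : 3 ≤ m ∨ (2 : F) ≠ 0) {n : ℕ} (hn : n.Prime) (hcard : Fintype.card F = Nat.card F₀ ^ n) {x₀ r₀ : V}
    (hp₀ : RatPair F₀ P x₀ r₀) {ν : F} (hν : ν ∉ F₀) (h₀ : HasC M (x₀ + ν • r₀) ζ) :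
    ∀ v, Rat F₀ P v → ∀ c, HasC M v c := by
  let A : F → Prop := fun a => ∀ v, Rat F₀ P v → HasC M v (ζ * a)
  let X : F → Prop := fun β => ∀ x r, RatPair F₀ P x r → InN M (sMap x r (ζ * β))
  have hA0 : ∀ b ∈ F₀, A b := fun b hb v hv => hd.hasC_rat hv hb
  have hAadd : ∀ a b, A a → A b → A (a + b) := fun a b ha hb v hv => by
    rw [mul_add]; exact (ha v hv).add (hb v hv)
  have hXadd : ∀ a b, X a → X b → X (a + b) := fun a b ha hb x r hp => by
    refine (InN.add (ha x r hp) (hb x r hp) fun z => ?_).congr fun z => ?_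
    · simp only [sMap, sympForm_add_left, sympForm_smul_left, sympForm_self, hp.orth,
        sesq_sympForm.refl _ _ hp.orth, mul_zero, add_zero]
    · simp only [sMap]; module
  have hneg : ∀ a, A a → A (-a) := fun a ha v hv => by rw [mul_neg]; exact (ha v hv).neg
  have hthird : ∀ x r, RatPair F₀ P x r → ∃ y, RatPair F₀ P y r ∧ B x y = 0 ∧ RatPair F₀ P (x + y) r := by
    intro x r hp
    rcases h3 with h3 | h3
    swap
    · have hxx : x + x = (2 : F) • x := (two_smul F x).symm
      refine ⟨x, hp, sympForm_self x, ⟨hp.left.add hp.left, hp.right, hp.ne, by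
        rw [sympForm_add_left, hp.orth, add_zero], fun k e => hp.indep ((2 : F)⁻¹ * k) ?_⟩⟩
      rw [← smul_smul, ← e, hxx, inv_smul_smul₀ h3]
    obtain ⟨sr, hsr, hrsr⟩ := hd.exists_partner hp.right hp.ne
    obtain ⟨sx, hsx, hrsx, hxsx⟩ := hd.exists_sep hp.right hp.ne hp.indep
    obtain ⟨y, hy, hy0, hyl⟩ := hd.exists_perp ![x, r, sx, sr]
      (by intro i; fin_cases i; exacts [hp.left, hp.right, hsx, hsr])
      (by rw [Fintype.card_fin]; have := hd.dim; omega)
    have e1 : B y x = 0 := hyl 0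
    have e2 : B y r = 0 := hyl 1
    have e3 : B y sx = 0 := hyl 2
    have e4 : B y sr = 0 := hyl 3
    have hrsr0 : B r sr ≠ 0 := fun e => by rw [e, mul_zero] at hrsr; exact zero_ne_one hrsr
    refine ⟨y, ⟨hy, hp.right, hp.ne, e2, fun k e => hy0 ?_⟩, sesq_sympForm.refl _ _ e1,
      ⟨hp.left.add hy, hp.right, hp.ne, by rw [sympForm_add_left, hp.orth, e2, add_zero], fun k e => ?_⟩⟩
    · rw [e, sympForm_smul_left] at e4
      rw [e, (mul_eq_zero.1 e4).resolve_right hrsr0, zero_smul]
    · have := congrArg (fun z => B z sx) e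
      simp only [sympForm_add_left, e3, add_zero, sympForm_smul_left, hrsx, mul_zero] at this
      exact hxsx this
  have hAX : ∀ a, A a → X a := fun a ha x r hp => by
    have h1 := (ha _ hp.right).neg.cons (v := r) (N := qMap x (-(ζ * a))) ((ha _ hp.left).neg)
      fun z => by rw [qMap, sympForm_smul_left, hp.orth, mul_zero]
    have h2 := (ha _ (hp.left.add hp.right)).cons h1 fun z => by
      simp only [qMap, sympForm_add_left, sympForm_add_right, sympForm_smul_left, sympForm_self, hp.orth,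
        sesq_sympForm.refl _ _ hp.orth, mul_zero, add_zero]
    refine h2.congr fun z => ?_
    simp only [qMap, sMap, sympForm_add_right]; module
  -- from points to coefficients
  have hstep : ∀ c ν, A c → (∀ x r, RatPair F₀ P x r → HasC M (x + ν • r) (ζ * c)) →
      X (c * ν) ∧ A (c * ν ^ 2) := by
    intro c ν hc hpts
    have hS : X (c * ν) := fun x r hp => by
      obtain ⟨y, hyp, hxy, hxyp⟩ := hthird x r hp
      have hyx := sesq_sympForm.refl _ _ hxy
      have hry := sesq_sympForm.refl _ _ hyp.orth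
      have hrx := sesq_sympForm.refl _ _ hp.orth
      have h1 := (hpts y r hyp).neg.cons (N := qMap y (ζ * c)) (hc y hyp.left) fun z => by
        simp only [qMap, sympForm_smul_left, sympForm_add_right, sympForm_smul_right, sympForm_self, hyp.orth,
          mul_zero, add_zero]
      have h2 := (hc _ hxyp.left).neg.cons h1 fun z => by
        simp only [qMap, sympForm_smul_left, sympForm_add_left, sympForm_add_right, sympForm_smul_right,
          sympForm_self, hyp.orth, hp.orth, hxy, hyx, hry, hrx, mul_zero, add_zero]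
      have h3 := (hpts _ r hxyp).cons h2 fun z => by
        simp only [qMap, sympForm_smul_left, sympForm_add_left, sympForm_add_right, sympForm_smul_right,
          sympForm_self, hyp.orth, hp.orth, hxy, hyx, hry, hrx, mul_zero, add_zero]
      refine h3.congr fun z => ?_
      simp only [qMap, sMap, sympForm_add_right, sympForm_smul_right]; module
    refine ⟨hS, fun v hv => ?_⟩
    rcases eq_or_ne v 0 with rfl | hv0
    · exact ⟨1, one_mem M, fun x => by simp [qMap]⟩
    obtain ⟨x, hx, hx0, hxv⟩ : ∃ x, Rat F₀ P x ∧ x ≠ 0 ∧ RatPair F₀ P x v := by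
      obtain ⟨sv, hsv, hvsv⟩ := hd.exists_partner hv hv0
      obtain ⟨x, hx, hx0, hxl⟩ := hd.exists_perp ![v, sv] (by intro i; fin_cases i; exacts [hv, hsv])
        (by rw [Fintype.card_fin]; have := hd.dim; omega)
      refine ⟨x, hx, hx0, hx, hv, hv0, hxl 0, fun k e => hx0 ?_⟩
      have h1 : B x sv = 0 := hxl 1
      rw [e, sympForm_smul_left] at h1
      rw [e, (mul_eq_zero.1 h1).resolve_right fun e' => by rw [e', mul_zero] at hvsv; exact zero_ne_one hvsv,
        zero_smul]
    have hvx := sesq_sympForm.refl _ _ hxv.orth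
    have h2 := (hc x hx).neg.cons (N := fun z => -sMap x v (ζ * (c * ν)) z)
      ((hS x v hxv).neg fun z => by
        simp only [sMap, sympForm_sub_left, sympForm_add_left, sympForm_smul_left, sympForm_self, hxv.orth,
          hvx, mul_zero, add_zero, sub_zero])
      fun z => by
        rw [← neg_one_smul F (sMap x v (ζ * (c * ν)) z)]
        simp only [sMap, sympForm_smul_left, sympForm_add_left, sympForm_self, hvx, mul_zero, add_zero]
    have h3 := (hpts x v hxv).cons h2 fun z => by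
      rw [← neg_one_smul F (sMap x v (ζ * (c * ν)) z)]
      simp only [qMap, sMap, sympForm_smul_left, sympForm_add_left, sympForm_add_right, sympForm_smul_right,
        sympForm_self, hxv.orth, hvx, mul_zero, add_zero]
    refine h3.congr fun z => ?_
    simp only [qMap, sMap, sympForm_add_right, sympForm_smul_right]; module
  have hXpts : ∀ c β, A c → X β → ∀ u w, RatPair F₀ P u w → HasC M (u + β • w) (ζ * c) := by
    intro c β hc hβ u w hp
    obtain ⟨e, he, hwe, hue⟩ := hd.exists_sep hp.right hp.ne hp.indep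
    set e' := (ζ * B u e)⁻¹ • e with he'
    have hp' : RatPair F₀ P w e' := ⟨hp.right, he.smul (inv_mem (hd.rat u e hp.left he)),
      smul_ne_zero (inv_ne_zero (mul_ne_zero hd.ne_zero hue)) (fun e0 => hue (by rw [e0, sesq_sympForm.zero_right])),
      by rw [he', sympForm_smul_right, hwe, mul_zero], fun k ek => by
        have h1 : B u w = 0 := hp.orth
        rw [ek, he', smul_smul, sympForm_smul_right] at h1
        refine hp.ne ?_
        rw [ek, he', smul_smul, (mul_eq_zero.1 h1).resolve_right hue, zero_smul]⟩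
    obtain ⟨T, hT, hTx⟩ := hβ w e' hp'
    have := (hc u hp.left).map hT (hd.iso hT)
    rwa [hTx u, sMap, hp.orth, mul_zero, zero_smul, zero_add,
      show ζ * β * B u e' = β by
        rw [he', sympForm_smul_right]; have := hd.ne_zero; field_simp] at this
  have hpts₀ : ∀ x r, RatPair F₀ P x r → HasC M (x + ν • r) (ζ * 1) := fun x r hp => by
    obtain ⟨T, hT, -, hTx, hTr⟩ := hd.exists_pair_trans hp₀ hp
    rw [mul_one]
    have := h₀.map hT (hd.iso hT)
    rwa [Matrix.mulVec_add, Matrix.mulVec_smul, hTx, hTr] at this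
  obtain ⟨hXν, hAν⟩ := hstep 1 ν (hA0 1 (one_mem _)) hpts₀
  rw [one_mul] at hXν hAν
  have hmul : ∀ c β, A c → X β → X (c * β) := fun c β hc hβ => (hstep c β hc (hXpts c β hc hβ)).1
  have hsq : ∀ c β, A c → X β → A (c * β ^ 2) := fun c β hc hβ => (hstep c β hc (hXpts c β hc hβ)).2
  obtain ⟨a, ha, han⟩ : ∃ a, A a ∧ a ∉ F₀ := by
    by_cases h : ν ^ 2 ∈ F₀
    · have h1 := hsq 1 (ν + 1) (hA0 1 (one_mem _)) (hXadd _ _ hXν (hAX 1 (hA0 1 (one_mem _))))
      rw [one_mul] at h1
      refine ⟨_, h1, fun hc => hν ?_⟩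
      by_cases h2 : ringChar F = 2
      · -- a square root of an element of `F₀` lies in `F₀`
        have : CharP F 2 := ringChar.of_eq h2
        obtain ⟨k, hk⟩ := FiniteField.isSquare_of_char_two (F := F₀)
          (ringChar.eq F₀ 2) (⟨ν ^ 2, h⟩ : F₀)
        have hk' : ν ^ 2 = (k : F) * (k : F) := congrArg Subtype.val hk
        have : (ν - k) * (ν - k) = 0 := by
          linear_combination hk' + ((k : F) * k - ν * k) * (CharTwo.two_eq_zero : (2 : F) = 0)
        rw [sub_eq_zero.1 (mul_self_eq_zero.1 this)]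
        exact k.2
      · have h3 : ν = ((ν + 1) ^ 2 - ν ^ 2 - 1) / 2 := by
          have := Ring.two_ne_zero h2; field_simp; ring
        rw [h3]
        exact div_mem (sub_mem (sub_mem hc h) (one_mem _)) (by exact_mod_cast natCast_mem F₀ 2)
    · exact ⟨_, hAν, h⟩
  have hall := coef_closure hn hcard A X hA0 hAadd hXadd hAX hmul hsq ha han
  intro v hv c
  have := hall (c / ζ) v hv
  rwa [mul_div_cancel₀ _ hd.ne_zero] at this

/-- A point off the rational lines with a rational orthogonal vector suffices. -/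
theorem all_coef_of_point [Fintype F] (h3 : 3 ≤ m ∨ (2 : F) ≠ 0) {n : ℕ} (hn : n.Prime) (hcard : Fintype.card F = Nat.card F₀ ^ n) {v r : V}
    (hv : ∀ b ∈ F₀, HasC M v (ζ * b)) (hnl : ¬ RatLine F₀ P v) (hr : Rat F₀ P r) (hr0 : r ≠ 0)
    (hvr : B v r = 0) : ∀ w, Rat F₀ P w → ∀ c, HasC M w c := by
  have hrv := sesq_sympForm.refl _ _ hvr
  let b : V → F := fun x => ζ * B x v
  have hb : ∀ x, b x = ζ * B x v := fun _ => rfl
  by_cases hprod : ∃ x₀ x₁, Rat F₀ P x₀ ∧ Rat F₀ P x₁ ∧ B x₀ r = 0 ∧ B x₁ r = 0 ∧ b x₀ * b x₁ ∉ F₀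
  · obtain ⟨x₀, x₁, hx₀, hx₁, h0r, h1r, hne⟩ := hprod
    have hr0' := sesq_sympForm.refl _ _ h0r
    have hr1 := sesq_sympForm.refl _ _ h1r
    -- the rational move
    have hR : InN M (sMap r x₀ ζ) := by
      have e : ∀ y, Rat F₀ P y → HasC M y ζ := fun y hy => by simpa using hd.hasC_rat hy (one_mem F₀)
      have h1 := (e x₀ hx₀).neg.cons (N := qMap r (-ζ)) (e r hr).neg
        fun z => by rw [qMap, sympForm_smul_left, hr0', mul_zero]
      have h2 := (e _ (hr.add hx₀)).cons h1 fun z => by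
        simp only [qMap, sympForm_add_left, sympForm_add_right, sympForm_smul_left, sympForm_self, h0r, hr0',
          mul_zero, add_zero]
      refine h2.congr fun z => ?_
      simp only [qMap, sMap, sympForm_add_right]; module
    have hv1 : HasC M v ζ := by simpa using hv 1 (one_mem _)
    obtain ⟨R, hR, hRx⟩ := hR
    set v' := (R : Mn) *ᵥ v with hv'
    have hv'C : HasC M v' ζ := hv1.map hR (hd.iso hR)
    have hv'e : v' = v + (-b x₀) • r := by
      rw [hv', hRx, sMap, hvr, mul_zero, zero_smul, zero_add, hb, sympForm_swap v x₀]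
      module
    obtain ⟨T, hT, hTx⟩ := hv'C.cons (N := qMap v (-ζ)) hv1.neg fun z => by
      simp only [hv'e, qMap, sympForm_smul_left, sympForm_add_right, sympForm_smul_right, sympForm_self, hvr,
        mul_zero, add_zero]
    have hTx₁ : (T : Mn) *ᵥ x₁ = x₁ + (-(b x₀ * b x₁)) • r := by
      simp only [hTx, hv'e, qMap, sympForm_add_right, sympForm_smul_right, h1r, mul_zero, add_zero, hb]
      module
    have hp : RatPair F₀ P x₁ r := ⟨hx₁, hr, hr0, h1r, fun k e => hne (by
      rw [hb x₁, e, sympForm_smul_left, hrv, mul_zero, mul_zero, mul_zero]; exact zero_mem _)⟩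
    refine hd.all_coef h3 hn hcard hp (ν := -(b x₀ * b x₁)) (fun h => hne (by simpa using neg_mem h)) ?_
    rw [← hTx₁]
    have := (hd.hasC_rat hx₁ (one_mem _)).map hT (hd.iso hT)
    rwa [mul_one] at this
  · push Not at hprod
    obtain ⟨s, hs, hrs⟩ := hd.exists_partner hr hr0
    obtain ⟨x₀, hx₀, h0r, hk⟩ : ∃ x, Rat F₀ P x ∧ B r x = 0 ∧ B v x ≠ 0 :=
      hd.exists_sep hr hr0 fun k e => hnl ⟨k, r, hr, e⟩
    set k := b x₀ with hkdef
    have hk0 : k ≠ 0 := by
      rw [hkdef, hb, sympForm_swap]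
      exact mul_ne_zero hd.ne_zero (neg_ne_zero.2 hk)
    have hkk : k * k ∈ F₀ := hprod _ _ hx₀ hx₀ (sesq_sympForm.refl _ _ h0r) (sesq_sympForm.refl _ _ h0r)
    have hval : ∀ x, Rat F₀ P x → B x r = 0 → b x / k ∈ F₀ := fun x hx hxr => by
      rw [show b x / k = (k * b x) / (k * k) by field_simp]
      exact div_mem (hprod _ _ hx₀ hx (sesq_sympForm.refl _ _ h0r) hxr) hkk
    -- a rational vector representing the rescaled functional
    let ψ : V → F := fun x => b (x + (ζ * B x r) • s) / k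
    have hψ : ∀ x, Rat F₀ P x → ψ x ∈ F₀ := fun x hx =>
      hval _ (hx.add (hs.smul (hd.rat x r hx hr))) (by
        rw [sympForm_add_left, sympForm_smul_left, sympForm_swap s r]
        linear_combination (-(B x r)) * hrs)
    let Φ : (Fin m ⊕ Fin m → F₀) →ₗ[F₀] (Fin m ⊕ Fin m → F₀) :=
      { toFun := fun y i => ⟨ζ * B ((P : Mn) *ᵥ Pi.single i 1) ((P : Mn) *ᵥ fun j => (y j : F)),
          hd.rat _ _ (rat_single i) (rat_of_coe y)⟩
        map_add' := fun a a' => by
          funext i
          refine Subtype.ext ?_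
          show ζ * B _ ((P : Mn) *ᵥ (fun j => ((a + a') j : F))) = ζ * B _ _ + ζ * B _ _
          rw [← mul_add, ← sympForm_add_right, ← Matrix.mulVec_add]; rfl
        map_smul' := fun d a => by
          funext i
          refine Subtype.ext ?_
          show ζ * B _ ((P : Mn) *ᵥ ((d : F) • fun j => (a j : F))) = (d : F) * (ζ * B _ _)
          rw [Matrix.mulVec_smul, sympForm_smul_right]; ring }
    have hΦ : Function.Injective Φ := (injective_iff_map_eq_zero Φ).2 fun y hy => by
      have h1 : ((P : Mn) *ᵥ fun j => (y j : F)) = 0 := sesq_sympForm.eq_zero _ fun x => by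
        rw [eq_sum_rat P x, ← sympB_apply, map_sum, LinearMap.sum_apply]
        refine Finset.sum_eq_zero fun i _ => ?_
        rw [map_smul, LinearMap.smul_apply, sympB_apply]
        have h2 : ζ * B ((P : Mn) *ᵥ Pi.single i 1) ((P : Mn) *ᵥ fun j => (y j : F)) = 0 :=
          congrArg Subtype.val (congrFun hy i)
        rw [(mul_eq_zero.1 h2).resolve_left hd.ne_zero, smul_zero]
      funext j
      refine Subtype.ext ?_
      have := congrArg (fun z => ((P⁻¹ : G) : Mn) *ᵥ z) h1
      simp only [inv_mulVec_cancel, Matrix.mulVec_zero] at this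
      exact congrFun this j
    obtain ⟨y, hy⟩ := (LinearMap.injective_iff_surjective.1 hΦ)
      (fun i => ⟨ψ ((P : Mn) *ᵥ Pi.single i 1), hψ _ (rat_single i)⟩)
    set z := (P : Mn) *ᵥ fun j => (y j : F) with hz
    have hzr : Rat F₀ P z := rat_of_coe y
    have hzψ : ∀ x, ζ * B x z = ψ x := fun x => by
      have hlin : ∀ a x', ψ (a • x') = a * ψ x' := fun a x' => by
        simp only [ψ, hb, sympForm_smul_left, sympForm_add_left, smul_smul]; ring
      have hadd : ∀ x' x'', ψ (x' + x'') = ψ x' + ψ x'' := fun x' x'' => by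
        simp only [ψ, hb, sympForm_smul_left, sympForm_add_left]; ring
      let L : V →ₗ[F] F :=
        { toFun := fun x => ψ x - ζ * B x z
          map_add' := fun a a' => by rw [hadd, sympForm_add_left]; ring
          map_smul' := fun a a' => by rw [hlin, sympForm_smul_left, RingHom.id_apply, smul_eq_mul]; ring }
      suffices L x = 0 from (sub_eq_zero.1 this).symm
      rw [eq_sum_rat P x, map_sum]
      refine Finset.sum_eq_zero fun i _ => ?_
      have h2 : ζ * B ((P : Mn) *ᵥ Pi.single i 1) z = ψ ((P : Mn) *ᵥ Pi.single i 1) :=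
        congrArg Subtype.val (congrFun hy i)
      rw [map_smul, show L ((P : Mn) *ᵥ Pi.single i 1) = 0 from sub_eq_zero.2 h2.symm, smul_zero]
    set d := -(ζ * B s v / k) with hdd
    have hvz : v = k • (z + d • r) := by
      refine sub_eq_zero.1 (hd.eq_zero fun u _ => ?_)
      have h1 := hzψ u
      simp only [ψ, hb, sympForm_add_left, sympForm_smul_left] at h1
      rw [sympForm_sub_right, sympForm_smul_right, sympForm_add_right, sympForm_smul_right]
      refine (mul_eq_zero.1 (show ζ * (B u v - k * (B u z + d * B u r)) = 0 from ?_)).resolve_left hd.ne_zero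
      rw [mul_sub, ← mul_assoc ζ k, mul_comm ζ k, mul_assoc, mul_add, h1, hdd]
      field_simp
      ring
    have hzr0 : B z r = 0 := by
      have h1 := hzψ r
      simp only [ψ, hb, sympForm_self, mul_zero, zero_smul, add_zero, hrv, zero_div] at h1
      exact sesq_sympForm.refl _ _ ((mul_eq_zero.1 h1).resolve_left hd.ne_zero)
    have hp : RatPair F₀ P z r := ⟨hzr, hr, hr0, hzr0, fun a e => hnl ⟨k * (a + d), r, hr, by
      rw [hvz, e]; module⟩⟩
    have hdn : d ∉ F₀ := fun h => hnl ⟨k, z + d • r, hzr.add (hr.smul h), hvz⟩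
    refine hd.all_coef h3 hn hcard hp hdn ?_
    have h3 := hv (1 / (k * k)) (div_mem (one_mem _) hkk)
    rw [hvz] at h3
    have h4 := h3.scale
    rwa [show ζ * (1 / (k * k)) * k ^ 2 = ζ by field_simp] at h4

/-- An element intertwining two rational maps gives such a point. -/
theorem all_coef_of_intertwine [Fintype F] (h3 : 3 ≤ m) {n : ℕ} (hn : n.Prime) (hcard : Fintype.card F = Nat.card F₀ ^ n)
    {g t₁ t₂ : GL (Fin m ⊕ Fin m) F} (hg : g ∈ M) (hgH : g ∉ Geo.subfieldSubgroup F₀ P)
    (ht₁ : RatMap F₀ P t₁) (ht₂ : RatMap F₀ P t₂) (ht₂M : t₂ ∈ M) (ht₂1 : t₂ ≠ 1) (hcomm : g * t₁ = t₂ * g)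
    (hfix : 2 ≤ finrank F (LinearMap.ker (Matrix.toLin' ((t₁ : Mn) - 1)))) :
    ∀ w, Rat F₀ P w → ∀ c, HasC M w c := by
  have hne : Nonempty (Fin m ⊕ Fin m) := ⟨Sum.inl ⟨0, by have := hd.dim; omega⟩⟩
  obtain ⟨x, hx, hxl⟩ : ∃ x, Rat F₀ P x ∧ ¬ RatLine F₀ P ((g : Mn) *ᵥ x) := by
    by_contra hc
    push Not at hc
    obtain ⟨a, ha, h⟩ := exists_scalar_of_lines hc
    exact hgH (mem_subfieldSubgroup_of ha h)
  -- a rational fixed vector orthogonal to `x`
  obtain ⟨w, hw, hw0, hwt, hwx⟩ : ∃ w, Rat F₀ P w ∧ w ≠ 0 ∧ (t₁ : Mn) *ᵥ w = w ∧ B w x = 0 := by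
    classical
    obtain ⟨A₁, hA₁⟩ := exists_subfield_matrix (F₀ := F₀) (P := P) (h := t₁) 1
      (fun y hy => by rw [one_smul]; exact ht₁ y hy)
    rw [one_smul] at hA₁
    let A : Matrix ((Fin m ⊕ Fin m) ⊕ Unit) (Fin m ⊕ Fin m) F₀ :=
      Sum.elim (fun i => (A₁ - 1) i) fun _ j => ⟨ζ * B ((P : Mn) *ᵥ Pi.single j 1) x, hd.rat _ _ (rat_single j) hx⟩
    have hl : ∀ (y : V) i, (A.map F₀.subtype *ᵥ y) (Sum.inl i) =
        (((P⁻¹ : G) : Mn) *ᵥ ((t₁ : Mn) *ᵥ ((P : Mn) *ᵥ y) - (P : Mn) *ᵥ y)) i := fun y i => by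
      have h1 : (A.map F₀.subtype *ᵥ y) (Sum.inl i) = ((A₁.map F₀.subtype - 1) *ᵥ y) i := by
        rw [← Matrix.map_one F₀.subtype (map_zero _) (map_one _), ← Matrix.map_sub _ (map_sub _)]; rfl
      rw [h1, hA₁, Matrix.sub_mulVec, Matrix.mulVec_sub, inv_mulVec_cancel, Matrix.one_mulVec,
        ← Matrix.mulVec_mulVec, ← Matrix.mulVec_mulVec]
    have hr' : ∀ y : V, (A.map F₀.subtype *ᵥ y) (Sum.inr ()) = ζ * B ((P : Mn) *ᵥ y) x := fun y => by
      rw [form_expand P ((P : Mn) *ᵥ y), inv_mulVec_cancel, Finset.mul_sum]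
      show ∑ j, (A.map F₀.subtype) (Sum.inr ()) j * y j = _
      refine Finset.sum_congr rfl fun j _ => ?_
      show (ζ * B _ x) * y j = _
      ring
    have h1 := finrank_le_inf_ker_add_one (LinearMap.ker (Matrix.toLin' ((t₁ : Mn) - 1))) (sesq_sympForm.lin x)
    obtain ⟨y, ⟨hy, hyx⟩, hy0⟩ := Submodule.exists_mem_ne_zero_of_ne_bot
      (p := LinearMap.ker (Matrix.toLin' ((t₁ : Mn) - 1)) ⊓ LinearMap.ker (sesq_sympForm.lin x))
      (fun e => by rw [e, finrank_bot] at h1; omega)
    have hy' : (t₁ : Mn) *ᵥ y - y = 0 := by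
      have := LinearMap.mem_ker.1 hy
      rwa [Matrix.toLin'_apply, Matrix.sub_mulVec, Matrix.one_mulVec] at this
    set y₀ := ((P⁻¹ : G) : Mn) *ᵥ y with hy₀
    have hP : (P : Mn) *ᵥ y₀ = y := mulVec_inv_cancel P y
    obtain ⟨u, hu0, hu⟩ := exists_rational_ker A (x := y₀) (fun e => hy0 (by rw [← hP, e, Matrix.mulVec_zero])) (by
      funext i
      rcases i with i | i
      · rw [hl, hP, hy', Matrix.mulVec_zero]; rfl
      · rw [hr', hP, show B y x = 0 from hyx, mul_zero]; rfl)
    have h2 : A.map F₀.subtype *ᵥ (fun j => (u j : F)) = 0 := by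
      funext i
      have := (RingHom.map_mulVec F₀.subtype A u i).symm
      rw [hu, Pi.zero_apply, map_zero] at this
      exact this
    refine ⟨(P : Mn) *ᵥ fun j => (u j : F), rat_of_coe u, fun e => hu0 ?_, sub_eq_zero.1 ?_, ?_⟩
    · funext j
      refine Subtype.ext ?_
      have := congrArg (fun z => ((P⁻¹ : G) : Mn) *ᵥ z) e
      simp only [inv_mulVec_cancel, Matrix.mulVec_zero] at this
      exact congrFun this j
    · refine gl_mulVec_injective P⁻¹ ?_
      funext i
      show (((P⁻¹ : G) : Mn) *ᵥ _) i = (((P⁻¹ : G) : Mn) *ᵥ (0 : V)) i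
      rw [Matrix.mulVec_zero, ← hl, h2]; rfl
    · have := hr' (fun j => (u j : F))
      rw [h2] at this
      exact (mul_eq_zero.1 this.symm).resolve_left hd.ne_zero
  have hcoef : ∀ u, Rat F₀ P u → ∀ b ∈ F₀, HasC M ((g : Mn) *ᵥ u) (ζ * b) := fun u hu b hb =>
    (hd.hasC_rat hu hb).map hg (hd.iso hg)
  by_cases hgw : RatLine F₀ P ((g : Mn) *ᵥ w)
  · obtain ⟨a, r, hr, har⟩ := hgw
    have har0 : a • r ≠ 0 := fun e => hw0 (gl_mulVec_injective g (by
      show (g : Mn) *ᵥ w = (g : Mn) *ᵥ 0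
      rw [har, e, Matrix.mulVec_zero]))
    refine hd.all_coef_of_point (Or.inl h3) hn hcard (hcoef x hx) hxl hr (smul_ne_zero_iff.1 har0).2 ?_
    have h1 : B ((g : Mn) *ᵥ x) (a • r) = 0 := by rw [← har, hd.iso hg, sesq_sympForm.refl _ _ hwx]
    rw [sympForm_smul_right] at h1
    exact (mul_eq_zero.1 h1).resolve_left (smul_ne_zero_iff.1 har0).1
  · obtain ⟨i, hi⟩ : ∃ i, (t₂ : Mn) *ᵥ ((P : Mn) *ᵥ Pi.single i 1) ≠ (P : Mn) *ᵥ Pi.single i 1 := by
      by_contra hc
      push Not at hc
      refine ht₂1 (Units.ext (Matrix.ext_iff_mulVec.2 fun y => ?_))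
      rw [Units.val_one, Matrix.one_mulVec]
      conv_lhs => rw [eq_sum_rat P y, Matrix.mulVec_sum]
      conv_rhs => rw [eq_sum_rat P y]
      simp only [Matrix.mulVec_smul, hc]
    set y := (P : Mn) *ᵥ Pi.single i 1
    refine hd.all_coef_of_point (Or.inl h3) hn hcard (hcoef w hw) hgw (r := (t₂ : Mn) *ᵥ y - y)
      ((ht₂ y (rat_single i)).sub (rat_single i)) (sub_ne_zero.2 hi) ?_
    have h2 : (t₂ : Mn) *ᵥ ((g : Mn) *ᵥ w) = (g : Mn) *ᵥ w := by
      rw [Matrix.mulVec_mulVec, ← Units.val_mul, ← hcomm, Units.val_mul, ← Matrix.mulVec_mulVec, hwt]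
    rw [sympForm_sub_right]
    conv_lhs => arg 1; rw [← h2]
    rw [hd.iso ht₂M, sub_self]

/-- Transvections of all coefficients at the rational vectors give the whole group. -/
theorem spGL_le_of_rat [Fintype F] (hall : ∀ w, Rat F₀ P w → ∀ c, HasC M w c) : spGL m F ≤ M := by
  have hrat := hd.rat
  have hζ := hd.ne_zero
  have hptR : ∀ w, Rat F₀ P w → Pt M w := fun w hw c => (hall w hw c).toInT
  -- grow a non-degenerate rational subspace inside the point set
  refine spGL_le fun v => ?_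
  suffices H : ∀ k : ℕ, k ≤ m → ∃ U : Submodule F V, finrank F U = 2 * k ∧
      Geo.IsNondegenerateOn (sympForm m F) U ∧ (∀ x ∈ U, Pt M x) ∧
      ∃ l : Fin (2 * k) → V, (∀ i, Rat F₀ P (l i)) ∧ (∀ i, l i ∈ U) ∧ U ≤ Submodule.span F (Set.range l) by
    obtain ⟨U, hU, -, hUP, -⟩ := H m le_rfl
    refine hUP v ?_
    rw [Submodule.eq_top_of_finrank_eq (S := U)
      (by rw [hU, Module.finrank_pi, Fintype.card_sum, Fintype.card_fin]; omega)]
    exact trivial
  intro k hk
  induction k with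
  | zero => exact ⟨⊥, by simp, fun w hw h0 => absurd ((Submodule.mem_bot F).1 hw) h0,
      fun x hx => by rw [(Submodule.mem_bot F).1 hx]; exact Pt.zero, Fin.elim0, fun i => i.elim0,
      fun i => i.elim0, bot_le⟩
  | succ k ih =>
    obtain ⟨U, hU, hUn, hUP, l, hl, hlU, hUl⟩ := ih (by omega)
    obtain ⟨e, he, he0, hel⟩ := hd.exists_perp l hl (by rw [Fintype.card_fin]; omega)
    have heU : ∀ x ∈ U, B e x = 0 := fun x hx => by
      have h1 : Submodule.span F (Set.range l) ≤ LinearMap.ker (sympB m F e) :=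
        Submodule.span_le.2 (by rintro _ ⟨i, rfl⟩; rw [SetLike.mem_coe, LinearMap.mem_ker, sympB_apply, hel])
      have := LinearMap.mem_ker.1 (h1 (hUl hx))
      rwa [sympB_apply] at this
    obtain ⟨f, hf, hef, hfU⟩ : ∃ f, Rat F₀ P f ∧ B e f ≠ 0 ∧ ∀ x ∈ U, B f x = 0 := by
      obtain ⟨U', hc, hU'⟩ := symp_finrank_ker hUn
      by_contra hcon
      push Not at hcon
      -- the rational vectors orthogonal to `U` together with `e`
      rcases Nat.eq_zero_or_pos k with rfl | hkpos
      · obtain ⟨s, hs, hes⟩ := hd.exists_partner he he0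
        obtain ⟨x, hx, hx'⟩ := hcon s hs fun e0 => by rw [e0, mul_zero] at hes; exact zero_ne_one hes
        have hU0 : U = ⊥ := Submodule.finrank_eq_zero.1 (by rw [hU])
        rw [hU0, Submodule.mem_bot] at hx
        exact hx' (by rw [hx, sesq_sympForm.zero_right])
      obtain ⟨s, hs, hes⟩ := hd.exists_partner he he0
      -- correct `s` by a rational vector of `U`
      let Φ : (Fin (2 * k) → F₀) →ₗ[F₀] (Fin (2 * k) → F₀) :=
        { toFun := fun y i => ⟨ζ * B (∑ j, (y j : F) • l j) (l i),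
            hrat _ _ (Rat.sum _ fun j _ => (hl j).smul (y j).2) (hl i)⟩
          map_add' := fun a a' => by
            funext i
            refine Subtype.ext ?_
            show ζ * B _ _ = ζ * B _ _ + ζ * B _ _
            rw [← mul_add, ← sympForm_add_left, ← Finset.sum_add_distrib]
            simp only [Pi.add_apply, AddMemClass.coe_add, add_smul]
          map_smul' := fun d a => by
            funext i
            refine Subtype.ext ?_
            show ζ * B _ _ = (d : F) * (ζ * B _ _)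
            rw [show (∑ j, ((d • a) j : F) • l j) = (d : F) • ∑ j, (a j : F) • l j by
              simp only [Finset.smul_sum, Pi.smul_apply, smul_eq_mul, MulMemClass.coe_mul, smul_smul],
              sympForm_smul_left]
            ring }
      have hli : LinearIndependent F l := linearIndependent_iff_card_le_finrank_span.2 (by
        rw [Fintype.card_fin, Set.finrank]; exact hU.symm.le.trans (Submodule.finrank_mono hUl))
      have hΦ : Function.Injective Φ := (injective_iff_map_eq_zero Φ).2 fun y hy => by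
        have hxU : (∑ j, (y j : F) • l j) ∈ U := Submodule.sum_mem _ fun j _ => U.smul_mem _ (hlU j)
        have hx0 : (∑ j, (y j : F) • l j) = 0 := by
          by_contra hne
          obtain ⟨-, w, hw, hw'⟩ := hUn _ hxU hne
          refine hw' ?_
          have h1 : Submodule.span F (Set.range l) ≤ LinearMap.ker (sympB m F (∑ j, (y j : F) • l j)) :=
            Submodule.span_le.2 (by
              rintro _ ⟨i, rfl⟩
              rw [SetLike.mem_coe, LinearMap.mem_ker, sympB_apply]
              exact (mul_eq_zero.1 (congrArg Subtype.val (congrFun hy i))).resolve_left hζ)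
          have := LinearMap.mem_ker.1 (h1 (hUl hw))
          rwa [sympB_apply] at this
        funext j
        exact Subtype.ext (Fintype.linearIndependent_iff.1 hli _ hx0 j)
      obtain ⟨y, hy⟩ := (LinearMap.injective_iff_surjective.1 hΦ)
        (fun i => ⟨ζ * B s (l i), hrat _ _ hs (hl i)⟩)
      set c := ∑ j, (y j : F) • l j with hc'
      have hcU : c ∈ U := Submodule.sum_mem _ fun j _ => U.smul_mem _ (hlU j)
      obtain ⟨x, hx, hx'⟩ := hcon (s - c) (hs.sub (Rat.sum _ fun j _ => (hl j).smul (y j).2)) (by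
        rw [sympForm_sub_right, heU c hcU, sub_zero]
        intro e0; rw [e0, mul_zero] at hes; exact zero_ne_one hes)
      refine hx' ?_
      have h1 : Submodule.span F (Set.range l) ≤ LinearMap.ker (sympB m F (s - c)) :=
        Submodule.span_le.2 (by
          rintro _ ⟨i, rfl⟩
          rw [SetLike.mem_coe, LinearMap.mem_ker, sympB_apply]
          have h2 : ζ * B c (l i) = ζ * B s (l i) := congrArg Subtype.val (congrFun hy i)
          refine (mul_eq_zero.1 (show ζ * B (s - c) (l i) = 0 from ?_)).resolve_left hζ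
          rw [sympForm_sub_left, mul_sub, h2, sub_self])
      have := LinearMap.mem_ker.1 (h1 (hUl hx))
      rwa [sympB_apply] at this
    set E : Submodule F V := Submodule.span F {e, f} with hE
    have hEU : ∀ y ∈ E, ∀ x ∈ U, B y x = 0 := fun y hy x hx => by
      obtain ⟨a, b, rfl⟩ := Submodule.mem_span_pair.1 hy
      rw [sympForm_add_left, sympForm_smul_left, sympForm_smul_left, heU x hx, hfU x hx, mul_zero, mul_zero,
        add_zero]
    -- the plane consists of points
    have hmove : ∀ p q : V, Pt M q → B p q ≠ 0 → ∀ d : F, Pt M p → Pt M (p + d • q) := fun p q hq hne d hp => by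
      rcases eq_or_ne d 0 with rfl | hd0
      · rwa [zero_smul, add_zero]
      · exact hp.add (hq.smul d) (by rw [sympForm_smul_right]; exact mul_ne_zero hd0 hne)
    have hEP : ∀ y ∈ E, Pt M y := fun y hy => by
      obtain ⟨a, b, rfl⟩ := Submodule.mem_span_pair.1 hy
      rcases eq_or_ne a 0 with rfl | ha
      · rw [zero_smul, zero_add]; exact (hptR f hf).smul b
      · exact hmove _ f (hptR f hf) (by rw [sympForm_smul_left]; exact mul_ne_zero ha hef) b ((hptR e he).smul a)
    have hEn : ∀ y ∈ E, y ≠ 0 → ∃ z ∈ E, B z y ≠ 0 := fun y hy hy0 => by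
      obtain ⟨a, b, rfl⟩ := Submodule.mem_span_pair.1 hy
      rcases eq_or_ne b 0 with rfl | hb
      · refine ⟨f, Submodule.mem_span_of_mem (by simp), ?_⟩
        have ha : a ≠ 0 := fun e0 => hy0 (by rw [e0]; simp)
        rw [zero_smul, add_zero, sympForm_smul_right]
        exact mul_ne_zero ha fun e0 => hef (sesq_sympForm.refl _ _ e0)
      · refine ⟨e, Submodule.mem_span_of_mem (by simp), ?_⟩
        rw [sympForm_add_right, sympForm_smul_right, sympForm_smul_right, sympForm_self, mul_zero, zero_add]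
        exact mul_ne_zero hb hef
    have hrepl : ∀ (S : Submodule F V), (∀ x ∈ S, Pt M x) → (∀ y ∈ S, y ≠ 0 → ∃ z ∈ S, B z y ≠ 0) →
        ∀ r, (∀ s ∈ S, B r s = 0) → ∀ x ∈ S, ∀ w ∈ S, x ≠ 0 → w ≠ 0 → Pt M (r + x) → Pt M (r + w) := by
      intro S hS hnS r hr x hx w hw hx0 hw0 h
      have step : ∀ x ∈ S, ∀ w ∈ S, B x w ≠ 0 → Pt M (r + x) → Pt M (r + w) := fun x hx w hw hne h => by
        have := h.add (hS _ (sub_mem hw hx)) (by
          rw [sympForm_add_left, hr _ (sub_mem hw hx), zero_add, sympForm_sub_right, sympForm_self, sub_zero]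
          exact hne)
        rwa [show r + x + (w - x) = r + w by abel] at this
      obtain ⟨z₁, hz₁, hz₁'⟩ := hnS x hx hx0
      obtain ⟨z₂, hz₂, hz₂'⟩ := hnS w hw hw0
      obtain ⟨q, hq, hqx, hqw⟩ := exists_both (S := S) (sesq_sympForm.lin x) (sesq_sympForm.lin w)
        ⟨z₁, hz₁, hz₁'⟩ ⟨z₂, hz₂, hz₂'⟩
      exact step q hq w hw hqw (step x hx q hq (fun e0 => hqx (sesq_sympForm.refl _ _ e0)) h)
    have hdisj : Disjoint U E := Submodule.disjoint_def.2 fun x hxU hxE => by
      by_contra hne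
      obtain ⟨z, hz, hz'⟩ := hEn x hxE hne
      exact hz' (hEU z hz x hxU)
    have hef2 : finrank F E = 2 := by
      rw [hE, show ({e, f} : Set V) = Set.range ![e, f] by simp [Set.pair_comm], finrank_span_eq_card]
      · rfl
      refine linearIndependent_fin2.2 ⟨fun e0 => hef (by
        rw [show f = 0 from e0, sesq_sympForm.zero_right]), fun a e0 => hef ?_⟩
      rw [← show a • f = e from e0, sympForm_smul_left, sympForm_self, mul_zero]
    refine ⟨U ⊔ E, ?_, ?_, fun x hx => ?_, Fin.append l ![e, f] ∘ Fin.cast (by ring), ?_, ?_, ?_⟩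
    · have := Submodule.finrank_sup_add_finrank_inf_eq U E
      rw [hdisj.eq_bot, finrank_bot] at this
      omega
    · intro w hw hw0
      obtain ⟨a, ha, b, hb, rfl⟩ := Submodule.mem_sup.1 hw
      obtain ⟨z, hz, hz'⟩ : ∃ z ∈ U ⊔ E, B z (a + b) ≠ 0 := by
        by_cases ha0 : a = 0
        · obtain ⟨z, hz, hz'⟩ := hEn b hb (fun e0 => hw0 (by rw [ha0, e0, add_zero]))
          exact ⟨z, Submodule.mem_sup_right hz, by rw [ha0, zero_add]; exact hz'⟩
        · obtain ⟨⟨z, hz, hz'⟩, -⟩ := hUn a ha ha0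
          exact ⟨z, Submodule.mem_sup_left hz, by
            rw [sympForm_add_right, sesq_sympForm.refl _ _ (hEU b hb z hz), add_zero]; exact hz'⟩
      exact ⟨⟨z, hz, hz'⟩, z, hz, fun e0 => hz' (sesq_sympForm.refl _ _ e0)⟩
    · obtain ⟨a, ha, b, hb, rfl⟩ := Submodule.mem_sup.1 hx
      by_cases ha0 : a = 0
      · rw [ha0, zero_add]; exact hEP b hb
      by_cases hb0 : b = 0
      · rw [hb0, add_zero]; exact hUP a ha
      obtain ⟨i, hi⟩ : ∃ i, l i ≠ 0 := by
        by_contra hcon
        push Not at hcon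
        refine ha0 ?_
        have := hUl ha
        rw [Submodule.span_eq_bot.2 (by rintro _ ⟨i, rfl⟩; exact hcon i)] at this
        exact (Submodule.mem_bot F).1 this
      have h1 : Pt M (e + l i) := hptR _ (he.add (hl i))
      have h2 := hrepl U hUP (fun y hy hy0 => (hUn y hy hy0).1) e heU (l i) (hlU i) a ha hi ha0 h1
      rw [add_comm] at h2
      exact hrepl E hEP hEn a (fun s hs => sesq_sympForm.refl _ _ (hEU s hs a ha)) e
        (Submodule.mem_span_of_mem (by simp)) b hb he0 hb0 h2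
    · intro i
      show Rat F₀ P (Fin.append l ![e, f] _)
      generalize Fin.cast _ i = j
      induction j using Fin.addCases with
      | left j => rw [Fin.append_left]; exact hl j
      | right j => rw [Fin.append_right]; fin_cases j; exacts [he, hf]
    · intro i
      show Fin.append l ![e, f] _ ∈ U ⊔ E
      generalize Fin.cast _ i = j
      induction j using Fin.addCases with
      | left j => rw [Fin.append_left]; exact Submodule.mem_sup_left (hlU j)
      | right j =>
        rw [Fin.append_right]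
        refine Submodule.mem_sup_right ?_
        fin_cases j <;> exact Submodule.mem_span_of_mem (by simp)
    · rw [Function.Surjective.range_comp (fun j => ⟨Fin.cast (by ring) j, by simp⟩), sup_le_iff]
      refine ⟨hUl.trans (Submodule.span_mono ?_), Submodule.span_mono ?_⟩
      · rintro _ ⟨i, rfl⟩; exact ⟨Fin.castAdd 2 i, Fin.append_left _ _ _⟩
      · rintro x (rfl | rfl)
        exacts [⟨Fin.natAdd (2 * k) 0, by rw [Fin.append_right]; rfl⟩,
          ⟨Fin.natAdd (2 * k) 1, by rw [Fin.append_right]; rfl⟩]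

end SubfieldData

/-- A subfield group is a proper subgroup. -/
theorem not_spGL_le_subfield [Fintype F] (hm : 1 ≤ m) {c₀ : F} (hc₀ : c₀ ∉ F₀) (hd : SubfieldData F₀ P ζ (spGL m F)) :
    ¬ spGL m F ≤ Geo.subfieldSubgroup F₀ P ⊓ spGL m F := fun hle => by
  have hrat := hd.rat
  set r := (P : Mn) *ᵥ Pi.single (Sum.inl ⟨0, by omega⟩) 1
  have hr : Rat F₀ P r := rat_single _
  have hr0 : r ≠ 0 := fun e => by
    have := congrFun (gl_mulVec_injective P (show (P : Mn) *ᵥ (Pi.single (Sum.inl ⟨0, by omega⟩) (1 : F) : V) = (P : Mn) *ᵥ 0 by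
      rw [Matrix.mulVec_zero]; exact e)) (Sum.inl ⟨0, by omega⟩)
    simp at this
  obtain ⟨s, hs, hrs⟩ := hd.exists_partner hr hr0
  obtain ⟨g, hg, hgx⟩ := exists_sp_tv r (ζ * c₀)
  obtain ⟨a, ha, h⟩ := exists_of_mem_subfieldSubgroup (hle hg).1
  have h1 := h r hr
  rw [hgx, sympForm_self, mul_zero, zero_smul, add_zero] at h1
  have haF : a ∈ F₀ := by
    have h2 := hrat (a • r) s h1 hs
    rwa [sympForm_smul_left, mul_left_comm, hrs, mul_one] at h2
  have h2 := (h s hs).smul (inv_mem haF)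
  rw [smul_smul, inv_mul_cancel₀ ha, one_smul, hgx] at h2
  have h3 := hrat _ s (h2.sub hs) hs
  rw [add_sub_cancel_left, sympForm_smul_left, mul_left_comm, hrs, mul_one, mul_assoc, sympForm_swap s r,
    mul_neg, mul_comm c₀, ← neg_mul, ← mul_assoc, mul_neg, hrs] at h3
  exact hc₀ (by simpa using neg_mem h3)

/-- Subfield subgroups are maximal in `Sp`. -/
theorem symplectic_subfield_maximal [Fintype F] (hm : 7 ≤ m) (F₀ : Subfield F) (n : ℕ) (hn : n.Prime)
    (hcard : Fintype.card F = Nat.card F₀ ^ n) (P : GL (Fin m ⊕ Fin m) F) (ζ : F) (hζ : ζ ≠ 0)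
    (hP : Geo.IsFormRationalStructure (sympForm m F) F₀ ζ P) :
    Geo.IsMaximalIn (spGL m F) (Geo.subfieldSubgroup F₀ P ⊓ spGL m F) := by
  classical
  have hrat : ∀ x y, Rat F₀ P x → Rat F₀ P y → ζ * B x y ∈ F₀ := fun x y hx hy => by
    have := hP _ _ hx hy
    rwa [mulVec_inv_cancel, mulVec_inv_cancel] at this
  obtain ⟨c₀, hc₀⟩ : ∃ c₀ : F, c₀ ∉ F₀ := by
    by_contra hc
    push Not at hc
    have h1 : Nat.card F₀ = Fintype.card F := by
      rw [← Nat.card_eq_fintype_card]
      exact Nat.card_congr ⟨Subtype.val, fun x => ⟨x, hc x⟩, fun _ => rfl, fun _ => rfl⟩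
    have h2 := hn.two_le
    have h3 : 1 < Fintype.card F := Fintype.one_lt_card
    rw [h1] at hcard
    have := Nat.pow_le_pow_right h3.le h2
    rw [← hcard, sq] at this
    have := Nat.le_of_mul_le_mul_left (this.trans (Nat.mul_one _).ge) (by omega)
    omega
  refine isMaximalIn_intro inf_le_right (fun hle => not_spGL_le_subfield (by omega) hc₀
    (⟨hζ, hrat, fun h hh _ => hh, le_rfl, by omega⟩ : SubfieldData F₀ P ζ (spGL m F)) hle) fun M hHM hMK g hgM hgH => ?_
  have hd : SubfieldData F₀ P ζ M := ⟨hζ, hrat,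
    fun h hh hr => hHM ⟨mem_subfieldSubgroup_of one_ne_zero fun x hx => by rw [one_smul]; exact hr x hx, hh⟩,
    hMK, by omega⟩
  have hgH' : g ∉ Geo.subfieldSubgroup F₀ P := fun h => hgH ⟨h, hMK hgM⟩
  -- two rational involutions
  obtain ⟨t, t', htR, ht'R, htM, ht'M, htt, ht't', ht1, ht'1, hft, hft', hlt⟩ :
      ∃ t t' : G, RatMap F₀ P t ∧ RatMap F₀ P t' ∧ t ∈ M ∧ t' ∈ M ∧ t * t = 1 ∧ t' * t' = 1 ∧ t ≠ 1 ∧ t' ≠ 1 ∧
        m + m ≤ finrank F (LinearMap.ker (Matrix.toLin' ((t : Mn) - 1))) + 2 ∧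
        m + m ≤ finrank F (LinearMap.ker (Matrix.toLin' ((t' : Mn) - 1))) + 4 ∧
        finrank F (LinearMap.ker (Matrix.toLin' ((t' : Mn) - 1))) <
          finrank F (LinearMap.ker (Matrix.toLin' ((t : Mn) - 1))) := by
    set e₀ := (P : Mn) *ᵥ Pi.single (Sum.inl ⟨0, by omega⟩) 1 with he₀
    have he₀r : Rat F₀ P e₀ := rat_single _
    have he₀0 : e₀ ≠ 0 := fun e => by
      have := congrFun (gl_mulVec_injective P (show (P : Mn) *ᵥ (Pi.single (Sum.inl ⟨0, by omega⟩) (1 : F) : V) = (P : Mn) *ᵥ 0 by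
        rw [Matrix.mulVec_zero]; exact e)) (Sum.inl ⟨0, by omega⟩)
      simp at this
    obtain ⟨f₀, hf₀r, h00⟩ := hd.exists_partner he₀r he₀0
    obtain ⟨e₁, he₁r, he₁0, hl⟩ := hd.exists_perp ![e₀, f₀] (by intro i; fin_cases i; exacts [he₀r, hf₀r])
      (by rw [Fintype.card_fin]; omega)
    have h10 : B e₁ e₀ = 0 := hl 0
    have h1f : B e₁ f₀ = 0 := hl 1
    obtain ⟨u, hur, h1u⟩ := hd.exists_partner he₁r he₁0
    set f₁ := u + (ζ * B f₀ u) • e₀ - (ζ * B e₀ u) • f₀ with hf₁
    have hf₁r : Rat F₀ P f₁ :=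
      (hur.add (he₀r.smul (hrat _ _ hf₀r hur))).sub (hf₀r.smul (hrat _ _ he₀r hur))
    have h11 : ζ * B e₁ f₁ = 1 := by
      rw [hf₁, sympForm_sub_right, sympForm_add_right, sympForm_smul_right, sympForm_smul_right, h10, h1f,
        mul_zero, mul_zero, add_zero, sub_zero, h1u]
    have h01 : B e₀ f₁ = 0 := by
      rw [hf₁, sympForm_sub_right, sympForm_add_right, sympForm_smul_right, sympForm_smul_right, sympForm_self]
      linear_combination (-(B e₀ u)) * h00
    have hf01 : B f₀ f₁ = 0 := by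
      rw [hf₁, sympForm_sub_right, sympForm_add_right, sympForm_smul_right, sympForm_smul_right, sympForm_self,
        sympForm_swap f₀ e₀]
      linear_combination (-(B f₀ u)) * h00
    have hb : ∀ {p q : V}, ζ * B p q = 1 → B p q = ζ⁻¹ := fun {p q} h => eq_inv_of_mul_eq_one_right h
    have hnl : ∀ a b : V, B (-a) b = -B a b := fun a b => by
      rw [← neg_one_smul F a, sympForm_smul_left, neg_one_mul]
    -- displacement maps of the two reflections
    obtain ⟨N₀, N₁, hN₀, hN₁, hN₀i, hN₁i, hN₀d, hN₁d, hor, hN₀R, hN₁R, hker₀, hker₁, hN₁f⟩ :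
        ∃ N₀ N₁ : V →ₗ[F] V, (∀ x y, B (x + N₀ x) (y + N₀ y) = B x y) ∧ (∀ x y, B (x + N₁ x) (y + N₁ y) = B x y) ∧
          (∀ x, N₀ (N₀ x) + 2 • N₀ x = 0) ∧ (∀ x, N₁ (N₁ x) + 2 • N₁ x = 0) ∧
          (∀ x, B x e₀ = 0 → B x f₀ = 0 → N₀ x = 0) ∧ (∀ x, B x e₁ = 0 → B x f₁ = 0 → N₁ x = 0) ∧
          (∀ x, N₀ (N₁ x) = 0 ∧ N₁ (N₀ x) = 0 ∧ (N₀ x + N₁ x = 0 → N₀ x = 0)) ∧
          (∀ x, Rat F₀ P x → Rat F₀ P (N₀ x)) ∧ (∀ x, Rat F₀ P x → Rat F₀ P (N₁ x)) ∧
          (∃ x, N₀ x ≠ 0) ∧ (∃ x, N₁ x ≠ 0) ∧ (∃ x, N₀ x = 0 ∧ N₁ x ≠ 0) := by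
      by_cases h2 : (2 : F) = 0
      · let mk : V → (V →ₗ[F] V) := fun e => LinearMap.smulRight (ζ • sesq_sympForm.lin e) e
        have hmk : ∀ e x, mk e x = (ζ * B x e) • e := fun e x => rfl
        refine ⟨mk e₀, mk e₁, fun x y => ?_, fun x y => ?_, fun x => ?_, fun x => ?_, fun x h _ => ?_,
          fun x h _ => ?_, fun x => ⟨?_, ?_, fun h => ?_⟩, fun x hx => ?_, fun x hx => ?_, ⟨f₀, ?_⟩, ⟨f₁, ?_⟩,
          ⟨f₁, ?_, ?_⟩⟩
        · simp only [hmk, sympForm_add_left, sympForm_add_right, sympForm_smul_left, sympForm_smul_right,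
            sympForm_self, sympForm_swap e₀ y]; ring
        · simp only [hmk, sympForm_add_left, sympForm_add_right, sympForm_smul_left, sympForm_smul_right,
            sympForm_self, sympForm_swap e₁ y]; ring
        · rw [← Nat.cast_smul_eq_nsmul F, Nat.cast_ofNat, h2, zero_smul, add_zero, hmk, hmk, sympForm_smul_left,
            sympForm_self, mul_zero, mul_zero, zero_smul]
        · rw [← Nat.cast_smul_eq_nsmul F, Nat.cast_ofNat, h2, zero_smul, add_zero, hmk, hmk, sympForm_smul_left,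
            sympForm_self, mul_zero, mul_zero, zero_smul]
        · rw [hmk, h, mul_zero, zero_smul]
        · rw [hmk, h, mul_zero, zero_smul]
        · simp only [hmk, sympForm_smul_left, h10, mul_zero, zero_smul]
        · simp only [hmk, sympForm_smul_left, sesq_sympForm.refl _ _ h10, mul_zero, zero_smul]
        · have := congrArg (fun z => B z f₀) h
          simp only [hmk, sympForm_add_left, sympForm_smul_left, h1f, hb h00, mul_zero, add_zero,
            sesq_sympForm.zero_left, mul_eq_zero, inv_eq_zero, hζ, false_or, or_false] at this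
          rw [hmk, this, mul_zero, zero_smul]
        · rw [hmk]; exact he₀r.smul (hrat _ _ hx he₀r)
        · rw [hmk]; exact he₁r.smul (hrat _ _ hx he₁r)
        · rw [hmk, sympForm_swap, mul_neg, h00]; simpa using he₀0
        · rw [hmk, sympForm_swap, mul_neg, h11]; simpa using he₁0
        · rw [hmk, sympForm_swap, h01, neg_zero, mul_zero, zero_smul]
        · rw [hmk, sympForm_swap, mul_neg, h11]; simpa using he₁0
      · let mk : V → V → (V →ₗ[F] V) := fun e f =>
          LinearMap.smulRight ((-2 * ζ) • sesq_sympForm.lin f) e + LinearMap.smulRight ((2 * ζ) • sesq_sympForm.lin e) f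
        have hmk : ∀ e f x, mk e f x = (-2 * ζ * B x f) • e + (2 * ζ * B x e) • f := fun e f x => rfl
        have hiso : ∀ e f, ζ * B e f = 1 → ∀ x y, B (x + mk e f x) (y + mk e f y) = B x y := fun e f hef x y => by
          simp only [hmk, sympForm_add_left, sympForm_add_right, sympForm_smul_left, sympForm_smul_right,
            sympForm_self, sympForm_swap e y, sympForm_swap f y, sympForm_swap f e, hb hef]
          field_simp
          ring
        have hinv : ∀ e f, ζ * B e f = 1 → ∀ x, mk e f (mk e f x) + 2 • mk e f x = 0 := fun e f hef x => by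
          rw [← Nat.cast_smul_eq_nsmul F, Nat.cast_ofNat]
          simp only [hmk, sympForm_add_left, sympForm_smul_left, sympForm_self, sympForm_swap f e, hb hef]
          match_scalars <;> field_simp <;> ring
        refine ⟨mk e₀ f₀, mk e₁ f₁, hiso _ _ h00, hiso _ _ h11, hinv _ _ h00, hinv _ _ h11, fun x h h' => ?_,
          fun x h h' => ?_, fun x => ⟨?_, ?_, fun h => ?_⟩, fun x hx => ?_, fun x hx => ?_, ⟨e₀, ?_⟩, ⟨e₁, ?_⟩,
          ⟨f₁, ?_, ?_⟩⟩
        · rw [hmk, h, h']; simp
        · rw [hmk, h, h']; simp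
        · simp [hmk, sympForm_add_left, sympForm_smul_left, h10, h1f, sesq_sympForm.refl _ _ h01,
            sesq_sympForm.refl _ _ hf01, hnl]
        · simp [hmk, sympForm_add_left, sympForm_smul_left, sesq_sympForm.refl _ _ h10, sesq_sympForm.refl _ _ h1f,
            h01, hf01, hnl]
        · have e1 := congrArg (fun z => B z f₀) h
          have e2 := congrArg (fun z => B z e₀) h
          simp only [hmk, sympForm_add_left, sympForm_smul_left, h1f, h10, sesq_sympForm.refl _ _ h01,
            sesq_sympForm.refl _ _ hf01, sympForm_self, sympForm_swap f₀ e₀, hb h00, mul_zero, add_zero, zero_add,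
            sesq_sympForm.zero_left, mul_eq_zero, inv_eq_zero, neg_eq_zero, hζ, h2, false_or, or_false] at e1 e2
          rw [hmk, e1, e2]; simp
        · rw [hmk]
          have h2F : (2 : F) ∈ F₀ := by exact_mod_cast natCast_mem F₀ 2
          exact (he₀r.smul (by rw [mul_assoc]; exact mul_mem (neg_mem h2F) (hrat _ _ hx hf₀r))).add
            (hf₀r.smul (by rw [mul_assoc]; exact mul_mem h2F (hrat _ _ hx he₀r)))
        · rw [hmk]
          have h2F : (2 : F) ∈ F₀ := by exact_mod_cast natCast_mem F₀ 2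
          exact (he₁r.smul (by rw [mul_assoc]; exact mul_mem (neg_mem h2F) (hrat _ _ hx hf₁r))).add
            (hf₁r.smul (by rw [mul_assoc]; exact mul_mem h2F (hrat _ _ hx he₁r)))
        · rw [hmk, sympForm_self, mul_zero, zero_smul, add_zero, mul_assoc, h00, mul_one]
          exact smul_ne_zero (neg_ne_zero.2 h2) he₀0
        · rw [hmk, sympForm_self, mul_zero, zero_smul, add_zero, mul_assoc, h11, mul_one]
          exact smul_ne_zero (neg_ne_zero.2 h2) he₁0
        · simp [hmk, sesq_sympForm.refl _ _ h01, sesq_sympForm.refl _ _ hf01]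
        · have hf₁0 : f₁ ≠ 0 := fun e => by
            rw [e, sesq_sympForm.zero_right, mul_zero] at h11; exact zero_ne_one h11
          rw [hmk, sympForm_self, mul_zero, zero_smul, zero_add, sympForm_swap f₁ e₁, mul_neg, mul_assoc, h11,
            mul_one]
          exact smul_ne_zero (neg_ne_zero.2 h2) hf₁0
    have hinj : ∀ N : V →ₗ[F] V, (∀ x y, B (x + N x) (y + N y) = B x y) → Function.Injective ((LinearMap.id : V →ₗ[F] V) + N) :=
      fun N hN => (injective_iff_map_eq_zero _).2 fun x hx => sesq_sympForm.eq_zero x fun y => by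
        rw [← hN, show x + N x = 0 from hx, sesq_sympForm.zero_right]
    have hN : ∀ x y, B (x + (N₀ + N₁) x) (y + (N₀ + N₁) y) = B x y := fun x y => by
      have h1 : ∀ z, (z + N₁ z) + N₀ (z + N₁ z) = z + (N₀ + N₁) z := fun z => by
        rw [map_add, (hor z).1, LinearMap.add_apply]; abel
      rw [← h1 x, ← h1 y, hN₀, hN₁]
    obtain ⟨t, ht⟩ := exists_gl_of_injective _ (hinj N₀ hN₀)
    obtain ⟨t', ht'⟩ := exists_gl_of_injective _ (hinj _ hN)
    have htx : ∀ x, (t : Mn) *ᵥ x = x + N₀ x := ht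
    have ht'x : ∀ x, (t' : Mn) *ᵥ x = x + (N₀ x + N₁ x) := ht'
    have htR : RatMap F₀ P t := fun x hx => by rw [htx]; exact hx.add (hN₀R x hx)
    have ht'R : RatMap F₀ P t' := fun x hx => by rw [ht'x]; exact hx.add ((hN₀R x hx).add (hN₁R x hx))
    have hkt : ∀ {s : G} {N : V →ₗ[F] V}, (∀ x, (s : Mn) *ᵥ x = x + N x) →
        LinearMap.ker (Matrix.toLin' ((s : Mn) - 1)) = LinearMap.ker N := fun {s N} h => by
      ext x
      simp [Matrix.sub_mulVec, h]
    refine ⟨t, t', htR, ht'R, hd.mem t (mem_spGL.2 fun x y => by rw [htx, htx, hN₀]) htR,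
      hd.mem t' (mem_spGL.2 fun x y => by rw [ht'x, ht'x]; exact hN x y) ht'R, ?_, ?_, ?_, ?_, ?_, ?_, ?_⟩
    · refine Units.ext (Matrix.ext_iff_mulVec.2 fun x => ?_)
      rw [Units.val_mul, ← Matrix.mulVec_mulVec, htx, htx, map_add, Units.val_one, Matrix.one_mulVec]
      linear_combination (norm := module) hN₀i x
    · refine Units.ext (Matrix.ext_iff_mulVec.2 fun x => ?_)
      rw [Units.val_mul, ← Matrix.mulVec_mulVec, ht'x, ht'x, map_add, map_add, map_add, map_add, (hor x).1,
        (hor x).2.1, Units.val_one, Matrix.one_mulVec]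
      linear_combination (norm := module) hN₀i x + hN₁i x
    · intro e
      obtain ⟨x, hx⟩ := hker₀
      exact hx (by simpa [e] using (htx x).symm)
    · intro e
      obtain ⟨x, hx, hx'⟩ := hN₁f
      exact hx' (by simpa [e, hx] using (ht'x x).symm)
    · rw [hkt htx]
      have hsub : LinearMap.ker (sesq_sympForm.lin e₀) ⊓ LinearMap.ker (sesq_sympForm.lin f₀) ≤ LinearMap.ker N₀ :=
        fun x hx => hN₀d x hx.1 hx.2
      have := Submodule.finrank_mono hsub
      have := finrank_le_inf_ker_add_one (LinearMap.ker (sesq_sympForm (m := m) (F := F).lin e₀))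
        (sesq_sympForm.lin f₀)
      have := card_le_finrank_ker_add_one (sesq_sympForm (m := m) (F := F).lin e₀)
      rw [Fintype.card_sum, Fintype.card_fin] at this
      omega
    · rw [hkt (s := t') (N := N₀ + N₁) ht']
      have hsub : LinearMap.ker (sesq_sympForm.lin e₀) ⊓ LinearMap.ker (sesq_sympForm.lin f₀) ⊓
          LinearMap.ker (sesq_sympForm.lin e₁) ⊓ LinearMap.ker (sesq_sympForm.lin f₁) ≤ LinearMap.ker (N₀ + N₁) :=
        fun x hx => by
          rw [LinearMap.mem_ker, LinearMap.add_apply, hN₀d x hx.1.1.1 hx.1.1.2, hN₁d x hx.1.2 hx.2, add_zero]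
      have := Submodule.finrank_mono hsub
      have := finrank_le_inf_ker_add_one (LinearMap.ker (sesq_sympForm (m := m) (F := F).lin e₀))
        (sesq_sympForm.lin f₀)
      have := finrank_le_inf_ker_add_one (LinearMap.ker (sesq_sympForm (m := m) (F := F).lin e₀) ⊓
        LinearMap.ker (sesq_sympForm.lin f₀)) (sesq_sympForm.lin e₁)
      have := finrank_le_inf_ker_add_one (LinearMap.ker (sesq_sympForm (m := m) (F := F).lin e₀) ⊓
        LinearMap.ker (sesq_sympForm.lin f₀) ⊓ LinearMap.ker (sesq_sympForm.lin e₁)) (sesq_sympForm.lin f₁)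
      have := card_le_finrank_ker_add_one (sesq_sympForm (m := m) (F := F).lin e₀)
      rw [Fintype.card_sum, Fintype.card_fin] at this
      omega
    · rw [hkt htx, hkt (s := t') (N := N₀ + N₁) ht']
      refine Submodule.finrank_lt_finrank_of_lt ((SetLike.lt_iff_le_and_exists).2 ⟨fun x hx => ?_, ?_⟩)
      · exact (hor x).2.2 hx
      · obtain ⟨x, hx, hx'⟩ := hN₁f
        exact ⟨x, hx, fun h => hx' (by
          have : N₀ x + N₁ x = 0 := h
          rwa [hx, zero_add] at this)⟩
  -- fixed spaces of conjugates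
  have hfixconj : ∀ (k s : G), finrank F (LinearMap.ker (Matrix.toLin' (((k * s * k⁻¹ : G) : Mn) - 1))) =
      finrank F (LinearMap.ker (Matrix.toLin' ((s : Mn) - 1))) := fun k s => by
    have hmap : (LinearMap.ker (Matrix.toLin' ((s : Mn) - 1))).map (Matrix.toLin' (k : Mn)) =
        LinearMap.ker (Matrix.toLin' (((k * s * k⁻¹ : G) : Mn) - 1)) := by
      ext x
      simp only [Submodule.mem_map, LinearMap.mem_ker, Matrix.toLin'_apply, Matrix.sub_mulVec, Matrix.one_mulVec,
        sub_eq_zero, Units.val_mul, ← Matrix.mulVec_mulVec]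
      constructor
      · rintro ⟨y, hy, rfl⟩; rw [inv_mulVec_cancel, hy]
      · intro h
        refine ⟨((k⁻¹ : G) : Mn) *ᵥ x, ?_, mulVec_inv_cancel k x⟩
        conv_rhs => rw [← h, inv_mulVec_cancel]
    rw [← hmap]
    exact (Submodule.equivMapOfInjective _ (fun a b e => gl_mulVec_injective k (by
      simpa [Matrix.toLin'_apply] using e)) _).finrank_eq.symm
  set u := g * t * g⁻¹ with hu
  have huu : u * u = 1 := by rw [hu, conj_mul, htt, mul_one, mul_inv_cancel]
  have huM : u ∈ M := mul_mem (mul_mem hgM htM) (inv_mem hgM)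
  have hnc : ∀ k : G, k * t' * k⁻¹ ≠ u := fun k e => by
    have h1 := hfixconj k t'
    rw [e, hu, hfixconj] at h1
    omega
  obtain ⟨⟨k, hk⟩⟩ | ⟨z, hz, hzz, hz1, hzt', hzu⟩ := conj_or_central ht't' huu (fun e => hnc 1 (by simpa using e))
  · exact absurd hk (hnc k)
  have hzM : z ∈ M := (Subgroup.zpowers_le.2 (mul_mem ht'M huM)) hz
  have hfz : 2 * finrank F (LinearMap.ker (Matrix.toLin' ((z : Mn) - 1))) > m + m := by
    have hsub : LinearMap.ker (Matrix.toLin' ((t' : Mn) - 1)) ⊓ LinearMap.ker (Matrix.toLin' ((u : Mn) - 1)) ≤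
        LinearMap.ker (Matrix.toLin' ((z : Mn) - 1)) := fun x hx => by
      simp only [Submodule.mem_inf, LinearMap.mem_ker, Matrix.toLin'_apply, Matrix.sub_mulVec, Matrix.one_mulVec,
        sub_eq_zero] at hx ⊢
      let St : Subgroup G :=
        { carrier := {h | (h : Mn) *ᵥ x = x}
          mul_mem' := fun {a b} ha hb => by
            show ((a * b : G) : Mn) *ᵥ x = x
            rw [Units.val_mul, ← Matrix.mulVec_mulVec, hb, ha]
          one_mem' := by simp
          inv_mem' := fun {a} ha => by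
            show ((a⁻¹ : G) : Mn) *ᵥ x = x
            conv_lhs => rw [← ha]
            exact inv_mulVec_cancel a x }
      exact (Subgroup.zpowers_le.2 (show t' * u ∈ St from mul_mem hx.1 hx.2)) hz
    have h1 := Submodule.finrank_mono hsub
    have h2 := Submodule.finrank_sup_add_finrank_inf_eq (LinearMap.ker (Matrix.toLin' ((t' : Mn) - 1)))
      (LinearMap.ker (Matrix.toLin' ((u : Mn) - 1)))
    have h3 := Submodule.finrank_le (LinearMap.ker (Matrix.toLin' ((t' : Mn) - 1)) ⊔
      LinearMap.ker (Matrix.toLin' ((u : Mn) - 1)))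
    rw [Module.finrank_pi, Fintype.card_sum, Fintype.card_fin] at h3
    have h4 := hfixconj g t
    rw [← hu] at h4
    omega
  -- a rational involution with large fixed space has scalar one
  have hratz : ∀ z : G, z ∈ Geo.subfieldSubgroup F₀ P → z * z = 1 →
      2 * finrank F (LinearMap.ker (Matrix.toLin' ((z : Mn) - 1))) > m + m → RatMap F₀ P z := by
    intro z hzH hzz hfz
    obtain ⟨a, ha, h⟩ := exists_of_mem_subfieldSubgroup hzH
    suffices haF : a ∈ F₀ by
      intro x hx
      have := (h x hx).smul (inv_mem haF)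
      rwa [smul_smul, inv_mul_cancel₀ ha, one_smul] at this
    have hsq : a * a ∈ F₀ := by
      set x := (P : Mn) *ᵥ Pi.single (Sum.inl ⟨0, by omega⟩) 1
      have hx : Rat F₀ P x := rat_single _
      have h2 := h _ (h x hx) (Sum.inl ⟨0, by omega⟩)
      rw [Matrix.mulVec_smul (z : Mn), smul_smul, Matrix.mulVec_mulVec, ← Units.val_mul, hzz, Units.val_one,
        Matrix.one_mulVec, Matrix.mulVec_smul, inv_mulVec_cancel, Pi.smul_apply, Pi.single_eq_same, smul_eq_mul,
        mul_one] at h2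
      exact h2
    by_contra haF
    by_cases h2 : ringChar F = 2
    · have : CharP F 2 := ringChar.of_eq h2
      obtain ⟨k, hk⟩ := FiniteField.isSquare_of_char_two (F := F₀) (ringChar.eq F₀ 2) (⟨a * a, hsq⟩ : F₀)
      have hk' : a * a = (k : F) * (k : F) := congrArg Subtype.val hk
      have : (a - k) * (a - k) = 0 := by
        linear_combination hk' + ((k : F) * k - a * k) * (CharTwo.two_eq_zero : (2 : F) = 0)
      rw [sub_eq_zero.1 (mul_self_eq_zero.1 this)] at haF
      exact haF k.2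
    have h2' : (2 : F) ≠ 0 := Ring.two_ne_zero h2
    -- the Galois conjugation
    obtain ⟨p, hcp⟩ := CharP.exists F
    have hp : Fact p.Prime := ⟨CharP.char_is_prime F p⟩
    obtain ⟨j, -, hj⟩ := FiniteField.card F p
    obtain ⟨i, -, hi⟩ := (Nat.dvd_prime_pow hp.out).1 (show Nat.card F₀ ∣ p ^ (j : ℕ) from
      hj ▸ hcard ▸ dvd_pow_self _ hn.ne_zero)
    let τ : F →+* F := iterateFrobenius F p i
    have hτF : ∀ b ∈ F₀, τ b = b := fun b hb => by
      show iterateFrobenius F p i b = b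
      rw [iterateFrobenius_def, ← hi]
      have := congrArg Subtype.val (FiniteField.pow_card (⟨b, hb⟩ : F₀))
      rw [SubmonoidClass.coe_pow] at this
      rwa [Nat.card_eq_fintype_card]
    have hτfix : ∀ b, τ b = b → b ∈ F₀ := fun b hb => by
      by_contra hb0
      have hroots : ∀ c ∈ (insert b (Finset.univ.map ⟨Subtype.val, Subtype.val_injective⟩ : Finset F)),
          c ∈ (Polynomial.X ^ (p ^ i) - Polynomial.X : Polynomial F).roots.toFinset := fun c hc => by
        have hne : (Polynomial.X ^ (p ^ i) - Polynomial.X : Polynomial F) ≠ 0 :=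
          FiniteField.X_pow_card_sub_X_ne_zero F (by rw [← hi]; exact Finite.one_lt_card)
        simp only [Multiset.mem_toFinset, Polynomial.mem_roots hne, Polynomial.IsRoot, Polynomial.eval_sub,
          Polynomial.eval_pow, Polynomial.eval_X, sub_eq_zero]
        rw [← iterateFrobenius_def (R := F)]
        rcases Finset.mem_insert.1 hc with h | hc'
        · rw [h]; exact hb
        · obtain ⟨d, -, hd'⟩ := Finset.mem_map.1 hc'; rw [← hd']; exact hτF _ d.2
      have h3 := (Finset.card_le_card hroots).trans (Multiset.toFinset_card_le _)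
      have h4 := h3.trans (Polynomial.card_roots' _)
      rw [FiniteField.X_pow_card_sub_X_natDegree_eq F (by rw [← hi]; exact Finite.one_lt_card), Finset.card_insert_of_notMem
        (fun hmem => by
          obtain ⟨d, -, hd'⟩ := Finset.mem_map.1 hmem
          exact hb0 (hd' ▸ d.2)), Finset.card_map, Finset.card_univ,
        ← Nat.card_eq_fintype_card, hi] at h4
      omega
    have hτa : τ a = -a := by
      have h1 := hτF _ hsq
      rw [map_mul] at h1
      rcases mul_self_eq_mul_self_iff.1 h1 with h3 | h3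
      · exact absurd (hτfix a h3) haF
      · exact h3
    obtain ⟨A, hA⟩ := exists_subfield_matrix a h
    set C : Mn := ((P⁻¹ : G) : Mn) * (z : Mn) * (P : Mn) with hC
    have hCC : ∀ i' j', τ (C i' j') = -C i' j' := fun i' j' => by
      have h1 : a * C i' j' = (A i' j' : F) := (congrFun (congrFun hA i') j').symm
      have h3 := congrArg τ h1
      rw [map_mul, hτa, hτF _ (A i' j').2, ← h1, neg_mul] at h3
      exact mul_left_cancel₀ ha (by linear_combination -h3)
    have hτC : ∀ y : V, C *ᵥ y = y → C *ᵥ (fun i => τ (y i)) = -fun i => τ (y i) := fun y hy => by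
      funext i'
      have h1 : τ ((C *ᵥ y) i') = τ (y i') := by rw [hy]
      rw [RingHom.map_mulVec] at h1
      rw [Pi.neg_apply, ← h1, ← Pi.neg_apply, ← Matrix.neg_mulVec]
      congr 1
      refine Matrix.ext fun a' b' => ?_
      rw [Matrix.neg_apply, Matrix.map_apply, hCC, neg_neg]
    let W := LinearMap.ker (Matrix.toLin' (C - 1))
    let W' := LinearMap.ker (Matrix.toLin' (C + 1))
    have hW : ∀ y, y ∈ W ↔ C *ᵥ y = y := fun y => by
      simp [W, Matrix.sub_mulVec, sub_eq_zero]
    have hW' : ∀ y, y ∈ W' ↔ C *ᵥ y = -y := fun y => by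
      simp [W', Matrix.add_mulVec, add_eq_zero_iff_eq_neg]
    let Φ : W → W' := fun y => ⟨fun i => τ (y.1 i), (hW' _).2 (hτC _ ((hW _).1 y.2))⟩
    have hΦ : Function.Injective Φ := fun y y' e => Subtype.ext (funext fun i =>
      τ.injective (congrFun (congrArg Subtype.val e) i))
    have hle := Nat.card_le_card_of_injective Φ hΦ
    have e1 : Nat.card W = Nat.card F ^ finrank F W := Module.natCard_eq_pow_finrank
    have e2 : Nat.card W' = Nat.card F ^ finrank F W' := Module.natCard_eq_pow_finrank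
    rw [e1, e2] at hle
    have hle' := (Nat.pow_le_pow_iff_right Finite.one_lt_card).1 hle
    have hdisj : W ⊓ W' = ⊥ := (Submodule.eq_bot_iff _).2 fun y hy => by
      have h1 := (hW y).1 hy.1
      rw [(hW' y).1 hy.2] at h1
      funext i
      have h3 := congrFun h1 i
      rw [Pi.neg_apply] at h3
      exact (mul_eq_zero.1 (show (2 : F) * y i = 0 by linear_combination -h3)).resolve_left h2'
    have h4 := Submodule.finrank_sup_add_finrank_inf_eq W W'
    have h5 := Submodule.finrank_le (W ⊔ W')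
    rw [Module.finrank_pi, Fintype.card_sum, Fintype.card_fin] at h5
    rw [hdisj, finrank_bot] at h4
    have h6 := hfixconj P⁻¹ z
    rw [inv_inv] at h6
    change finrank F W = _ at h6
    omega
  have hall : ∀ w, Rat F₀ P w → ∀ c, HasC M w c := by
    by_cases hzH : z ∈ Geo.subfieldSubgroup F₀ P
    · set z' := g⁻¹ * z * g with hz'
      have hz'M : z' ∈ M := mul_mem (mul_mem (inv_mem hgM) hzM) hgM
      have hz't : z' * t = t * z' := by
        have e : z' * t = g⁻¹ * (z * u) * g := by rw [hz', hu]; group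
        rw [e, hzu, hz', hu]; group
      have hfz' : finrank F (LinearMap.ker (Matrix.toLin' ((z' : Mn) - 1))) =
          finrank F (LinearMap.ker (Matrix.toLin' ((z : Mn) - 1))) := by
        have := hfixconj g⁻¹ z
        rwa [inv_inv] at this
      by_cases hz'H : z' ∈ Geo.subfieldSubgroup F₀ P
      · have hz'z : z' * z' = 1 := by
          calc z' * z' = g⁻¹ * (z * z) * g := by rw [hz']; group
            _ = 1 := by rw [hzz]; group
        exact hd.all_coef_of_intertwine (by omega) hn hcard hgM hgH' (hratz z' hz'H hz'z (by rw [hfz']; exact hfz))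
          (hratz z hzH hzz hfz) hzM hz1 (by rw [hz']; group) (by rw [hfz']; omega)
      · exact hd.all_coef_of_intertwine (by omega) hn hcard hz'M hz'H htR htR htM ht1 hz't (by omega)
    · exact hd.all_coef_of_intertwine (by omega) hn hcard hzM hzH ht'R ht'R ht'M ht'1 hzt' (by omega)
  exact hd.spGL_le_of_rat hall

end Cfsg.Agent.Classical.MaxTv
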