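import Cfsg.Agent.Lib.Classical.MaxSympSubfield
import Cfsg.Agent.Lib.Grp.SLTwoUpperLower

/-!
Subfield subgroups of symplectic groups in characteristic two are maximal, in every dimension from four on.
-/

set_option autoImplicit false
set_option linter.unusedSectionVars false

namespace Cfsg.Agent.Classical.MaxTv

open Matrix Module

variable {F : Type*} [Field F] {m : ℕ}

local notation "V" => (Fin m ⊕ Fin m → F)
local notation "Mn" => Matrix (Fin m ⊕ Fin m) (Fin m ⊕ Fin m) F
local notation "B" => sympForm m F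
local notation "G" => GL (Fin m ⊕ Fin m) F

/-- Subfields above a subfield of prime index. -/
theorem subfield_top_of_mem [Fintype F] {F₀ : Subfield F} {r : ℕ} (hr : r.Prime)
    (hcard : Fintype.card F = Nat.card F₀ ^ r) {L : Subfield F} (hle : F₀ ≤ L) {a : F} (ha : a ∈ L)
    (han : a ∉ F₀) : L = ⊤ := by
  have hrank : finrank F₀ F = r := by
    refine Nat.pow_right_injective (Finite.one_lt_card (α := F₀)) ?_
    show Nat.card F₀ ^ finrank F₀ F = Nat.card F₀ ^ r
    rw [← Module.natCard_eq_pow_finrank, ← hcard, Nat.card_eq_fintype_card]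
  have : IsSimpleOrder (IntermediateField F₀ F) :=
    IntermediateField.isSimpleOrder_of_finrank_prime (F := F₀) (E := F) (hrank ▸ hr)
  rcases IsSimpleOrder.eq_bot_or_eq_top (L.toIntermediateField (K := F₀) fun b => hle b.2) with h | h
  · refine absurd ?_ han
    have h1 : a ∈ L.toIntermediateField (K := F₀) fun b => hle b.2 := ha
    rw [h, IntermediateField.mem_bot] at h1
    obtain ⟨b, rfl⟩ := h1
    exact b.2
  · refine eq_top_iff.2 fun x _ => ?_
    show x ∈ L.toIntermediateField (K := F₀) fun b => hle b.2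
    rw [h]; trivial

variable {M : Subgroup (GL (Fin m ⊕ Fin m) F)}

/-- The displacement of a plane element. -/
def plDisp (e f : Fin m ⊕ Fin m → F) (A : Matrix (Fin 2) (Fin 2) F) (x : Fin m ⊕ Fin m → F) :
    Fin m ⊕ Fin m → F :=
  ((A 0 0 - 1) * sympForm m F x f + A 0 1 * sympForm m F e x) • e +
    (A 1 0 * sympForm m F x f + (A 1 1 - 1) * sympForm m F e x) • f

theorem plDisp_comp {e f : V} (hef : B e f = 1) (A C : Matrix (Fin 2) (Fin 2) F) (x : V) :
    plDisp e f A (x + plDisp e f C x) + plDisp e f C x = plDisp e f (A * C) x := by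
  simp only [plDisp, Matrix.mul_apply, Fin.sum_univ_two, sympForm_add_left, sympForm_add_right,
    sympForm_smul_left, sympForm_smul_right, sympForm_self, sympForm_swap f e, hef]
  match_scalars <;> ring

theorem plDisp_one {e f : V} (x : V) : plDisp e f 1 x = 0 := by simp [plDisp]

/-- The plane elements lying in a subgroup. -/
def planeSub (M : Subgroup (GL (Fin m ⊕ Fin m) F)) {e f : Fin m ⊕ Fin m → F} (hef : sympForm m F e f = 1) :
    Subgroup (Matrix.SpecialLinearGroup (Fin 2) F) where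
  carrier := {A | InN M (plDisp e f A.1)}
  one_mem' := ⟨1, one_mem M, fun x => by simp [plDisp_one]⟩
  mul_mem' := fun {A C} ⟨S, hS, hSx⟩ ⟨T, hT, hTx⟩ => ⟨S * T, mul_mem hS hT, fun x => by
    rw [Units.val_mul, ← Matrix.mulVec_mulVec, hTx, hSx, Matrix.SpecialLinearGroup.coe_mul,
      ← plDisp_comp hef A.1 C.1 x]
    abel⟩
  inv_mem' := fun {A} ⟨T, hT, hTx⟩ => ⟨T⁻¹, inv_mem hT, fun x => by
    have h1 : (T : Mn) *ᵥ (x + plDisp e f (A⁻¹).1 x) = x := by
      rw [hTx]
      calc x + plDisp e f (A⁻¹).1 x + plDisp e f A.1 (x + plDisp e f (A⁻¹).1 x)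
          = x + (plDisp e f A.1 (x + plDisp e f (A⁻¹).1 x) + plDisp e f (A⁻¹).1 x) := by abel
        _ = x := by
          rw [plDisp_comp hef, ← Matrix.SpecialLinearGroup.coe_mul, mul_inv_cancel,
            Matrix.SpecialLinearGroup.coe_one, plDisp_one, add_zero]
    conv_lhs => rw [← h1]
    exact inv_mulVec_cancel T _⟩

open Cfsg.Agent.Grp.SL2 in
/-- Two coefficients at one end of a plane and one at the other give all. -/
theorem hasC_all_of_plane [Fintype F] [CharP F 2] {e f : Fin m ⊕ Fin m → F} (hef : sympForm m F e f = 1)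
    {μ k : F} (hk : k ≠ 0) (hμ0 : μ ≠ 0) (hμ1 : μ ≠ 1) (h1 : HasC M e 1) (hμ : HasC M e μ) (hf : HasC M f k)
    (hgen : ∀ L : Subfield F, (∀ s, HasC M e s → s * k ∈ L) → L = ⊤) : ∀ c, HasC M e c := by
  have : Fact (Nat.Prime 2) := ⟨Nat.prime_two⟩
  have hneg : ∀ a b : V, B a b = B b a := fun a b => by rw [sympForm_swap a b, CharTwo.neg_eq]
  have eu : ∀ (c : F) x, plDisp e f (up c : Matrix.SpecialLinearGroup (Fin 2) F).1 x = qMap e c x := fun c x => by
    simp [plDisp, qMap, up, hneg e x]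
  have el : ∀ (c : F) x, plDisp e f (low c : Matrix.SpecialLinearGroup (Fin 2) F).1 x = qMap f c x := fun c x => by
    simp [plDisp, qMap, low]
  have hup : ∀ c, up c ∈ planeSub M hef ↔ HasC M e c := fun c =>
    ⟨fun h => InN.congr h (eu c), fun h => InN.congr h fun x => (eu c x).symm⟩
  have htop : planeSub M hef = ⊤ := by
    refine Cfsg.Agent.Grp.UpperLower.eq_top 2 _ hk ((hup 1).2 h1) ((hup μ).2 hμ) (fun n => ?_)
      (InN.congr hf fun x => (el k x).symm) fun L hL => hgen L fun s hs => hL s ((hup s).2 hs)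
    rcases Nat.even_or_odd n with ⟨j, rfl⟩ | ⟨j, rfl⟩
    · rw [Nat.cast_add, CharTwo.add_self_eq_zero]; exact hμ0
    · rw [Nat.cast_add, Nat.cast_mul, Nat.cast_ofNat, CharTwo.two_eq_zero, zero_mul, zero_add, Nat.cast_one]
      exact hμ1
  intro c
  exact (hup c).1 (htop ▸ Subgroup.mem_top _)

/-- The displacement of a short root element and two long ones on an orthogonal pair. -/
def sie (a b : Fin m ⊕ Fin m → F) (x z y : F) (w : Fin m ⊕ Fin m → F) : Fin m ⊕ Fin m → F :=
  qMap a x w + sMap a b z w + qMap b y w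

variable {F₀ : Subfield F} {P : GL (Fin m ⊕ Fin m) F} {ζ : F}

namespace SubfieldData

variable (hd : SubfieldData F₀ P ζ M)
include hd

theorem rat_of_form {v : V} (h : ∀ u, Rat F₀ P u → ζ * B u v ∈ F₀) : Rat F₀ P v := by
  let Φ : (Fin m ⊕ Fin m → F₀) →ₗ[F₀] (Fin m ⊕ Fin m → F₀) :=
    { toFun := fun y i => ⟨ζ * B ((P : Mn) *ᵥ Pi.single i 1) ((P : Mn) *ᵥ fun j => (y j : F)),
        hd.rat _ _ (rat_single i) (rat_of_coe y)⟩
      map_add' := fun a a' => by
        funext i
        refine Subtype.ext ?_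
        show ζ * B _ ((P : Mn) *ᵥ (fun j => ((a + a') j : F))) = ζ * B _ _ + ζ * B _ _
        rw [← mul_add, ← sympForm_add_right, ← Matrix.mulVec_add]; rfl
      map_smul' := fun d a => by
        funext i
        refine Subtype.ext ?_
        show ζ * B _ ((P : Mn) *ᵥ ((d : F) • fun j => (a j : F))) = (d : F) * (ζ * B _ _)
        rw [Matrix.mulVec_smul, sympForm_smul_right]; ring }
  have key : ∀ z : V, (∀ i, ζ * B ((P : Mn) *ᵥ Pi.single i 1) z = 0) → z = 0 := fun z hz =>
    sesq_sympForm.eq_zero _ fun x => by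
      rw [eq_sum_rat P x, ← sympB_apply, map_sum, LinearMap.sum_apply]
      refine Finset.sum_eq_zero fun i _ => ?_
      rw [map_smul, LinearMap.smul_apply, sympB_apply, (mul_eq_zero.1 (hz i)).resolve_left hd.ne_zero,
        smul_zero]
  have hΦ : Function.Injective Φ := (injective_iff_map_eq_zero Φ).2 fun y hy => by
    have h1 := key _ fun i => congrArg Subtype.val (congrFun hy i)
    funext j
    refine Subtype.ext ?_
    have := congrArg (fun z => ((P⁻¹ : G) : Mn) *ᵥ z) h1
    simp only [inv_mulVec_cancel, Matrix.mulVec_zero] at this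
    exact congrFun this j
  obtain ⟨y, hy⟩ := (LinearMap.injective_iff_surjective.1 hΦ) (fun i => ⟨_, h _ (rat_single i)⟩)
  have e : (P : Mn) *ᵥ (fun j => (y j : F)) = v := sub_eq_zero.1 (key _ fun i => by
    rw [sympForm_sub_right, mul_sub, sub_eq_zero]
    exact congrArg Subtype.val (congrFun hy i))
  exact e ▸ rat_of_coe y

/-- In `Sp` of a plane: a long root coefficient outside the ground field spreads. -/
theorem all_of_plane [Fintype F] [CharP F 2] {w z : V} (hw : Rat F₀ P w) (hz : HasC M z ζ) {l μ : F}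
    (hl : ζ * B w z = l) (hl0 : l ≠ 0) (hμ0 : μ ≠ 0) (hμ1 : μ ≠ 1) (hμ : HasC M w (ζ * μ))
    (hgen : ∀ L : Subfield F, (∀ s, HasC M w (ζ * s) → s * l ^ 2 ∈ L) → L = ⊤) :
    ∀ u, Rat F₀ P u → ∀ c, HasC M u c := by
  obtain ⟨s, hs⟩ := FiniteField.isSquare_of_char_two (ringChar.eq F 2) ζ
  have hs0 : s ≠ 0 := fun e => hd.ne_zero (by rw [hs, e, mul_zero])
  have hB : B w z ≠ 0 := fun e => hl0 (by rw [← hl, e, mul_zero])
  have hesc : ∀ c, HasC M w (ζ * c) → HasC M (s • w) c := fun c h => HasC.unscale (by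
    rw [show c * s ^ 2 = ζ * c by rw [hs]; ring]; exact h)
  have hesc' : ∀ c, HasC M (s • w) c → HasC M w (ζ * c) := fun c h => by
    have := HasC.scale h
    rwa [show c * s ^ 2 = ζ * c by rw [hs]; ring] at this
  have hall : ∀ c, HasC M (s • w) c := by
    refine hasC_all_of_plane (e := s • w) (f := (s * B w z)⁻¹ • z) ?_ (k := l ^ 2) (pow_ne_zero _ hl0) hμ0 hμ1
      (hesc 1 (hd.hasC_rat hw (one_mem _))) (hesc μ hμ) (HasC.unscale ?_)
      fun L hL => hgen L fun t ht => hL t (hesc t ht)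
    · rw [sympForm_smul_left, sympForm_smul_right]; field_simp
    · rw [← hl, show (ζ * B w z) ^ 2 * ((s * B w z)⁻¹) ^ 2 = ζ by rw [hs]; field_simp]; exact hz
  have hw0 : w ≠ 0 := fun e => hB (by rw [e, sesq_sympForm.zero_left])
  intro u hu c
  rcases eq_or_ne u 0 with rfl | hu0
  · exact ⟨1, one_mem M, fun x => by simp [qMap]⟩
  obtain ⟨T, hT, -, hTw⟩ := hd.exists_trans hw hu hw0 hu0
  have h1 := hesc' (c / ζ) (hall _)
  rw [mul_div_cancel₀ _ hd.ne_zero] at h1
  simpa [hTw] using h1.map hT (hd.iso hT)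

theorem sie_add {a b : V} (hab : B a b = 0) {x z y x' z' y' : F} (h : InN M (sie a b x z y))
    (h' : InN M (sie a b x' z' y')) : InN M (sie a b (x + x') (z + z') (y + y')) :=
  (InN.add h h' fun w => by
    simp only [sie, qMap, sMap, sympForm_add_left, sympForm_smul_left, sympForm_self, hab,
      sesq_sympForm.refl _ _ hab, mul_zero, add_zero]).congr fun w => by
    simp only [sie, qMap, sMap]; module

theorem sie_map {a b : V} {x z y : F} (h : InN M (sie a b x z y)) {T : G} (hT : T ∈ M) :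
    InN M (sie ((T : Mn) *ᵥ a) ((T : Mn) *ᵥ b) x z y) := by
  obtain ⟨S, hS, hSx⟩ := h
  refine ⟨T * S * T⁻¹, mul_mem (mul_mem hT hS) (inv_mem hT), fun w => ?_⟩
  have e : ∀ p, B (((T⁻¹ : G) : Mn) *ᵥ w) p = B w ((T : Mn) *ᵥ p) := fun p => by
    rw [← hd.iso hT, mulVec_inv_cancel]
  rw [Units.val_mul, Units.val_mul, ← Matrix.mulVec_mulVec, ← Matrix.mulVec_mulVec, hSx, Matrix.mulVec_add,
    mulVec_inv_cancel]
  simp only [sie, qMap, sMap, Matrix.mulVec_add, Matrix.mulVec_smul, e]

theorem sie_long {a b : V} {c : F} (h : HasC M a c) : InN M (sie a b c 0 0) :=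
  InN.congr h fun w => by simp [sie, qMap, sMap]

theorem sie_long' {a b : V} {c : F} (h : HasC M b c) : InN M (sie a b 0 0 c) :=
  InN.congr h fun w => by simp [sie, qMap, sMap]

theorem hasC_one {v : V} (hv : Rat F₀ P v) : HasC M v ζ := by simpa using hd.hasC_rat hv (one_mem F₀)

theorem sie_short {a b : V} [CharP F 2] (ha : Rat F₀ P a) (hb : Rat F₀ P b) (hab : B a b = 0) :
    InN M (sie a b 0 ζ 0) := by
  have h3 : InN M (sie a b ζ ζ ζ) := InN.congr (hd.hasC_one (ha.add hb)) fun w => by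
    simp only [sie, qMap, sMap, sympForm_add_right]; module
  have := hd.sie_add hab (hd.sie_add hab h3 (hd.sie_long (b := b) (hd.hasC_one ha)))
    (hd.sie_long' (a := a) (hd.hasC_one hb))
  simpa only [add_zero, CharTwo.add_self_eq_zero] using this

/-- The Siegel element built from a vector `v` with the coefficient `ζ`. -/
theorem siegel [CharP F 2] {v a b : V} (hv : HasC M v ζ) (ha : Rat F₀ P a) (hb : Rat F₀ P b) (hab : B a b = 0)
    {α β : F} (hα : ζ * B v a = α) (hβ : ζ * B v b = β) :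
    InN M (sie a b (ζ * (α ^ 2 * β ^ 2)) (ζ * (α ^ 2 + α ^ 3 * β)) (ζ * α ^ 4)) := by
  have hneg : ∀ a b : V, B a b = B b a := fun a b => by rw [sympForm_swap a b, CharTwo.neg_eq]
  obtain ⟨X, hX, hXx⟩ := hd.sie_short ha hb hab
  obtain ⟨A, hA, hAx⟩ := hd.hasC_one ha
  have e0 : (X : Mn) *ᵥ v = v + (β • a + α • b) := by
    rw [hXx, sie]; simp only [qMap, sMap, zero_mul, zero_smul, hα, hβ]; module
  have e1 : (A : Mn) *ᵥ v = v + α • a := by rw [hAx, qMap, hα]
  have hv1 : HasC M (v + α • a) ζ := e1 ▸ hv.map hA (hd.iso hA)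
  have hv2 : HasC M (v + (β • a + α • b)) ζ := e0 ▸ hv.map hX (hd.iso hX)
  have hv3 : HasC M (v + α • a + (β • a + α • b)) ζ := by
    have e : (X : Mn) *ᵥ (v + α • a) = v + α • a + (β • a + α • b) := by
      rw [Matrix.mulVec_add, Matrix.mulVec_smul, e0, hXx a, sie]
      simp only [qMap, sMap, sympForm_self, hab, mul_zero, zero_mul, zero_smul, add_zero]
      module
    exact e ▸ hv1.map hX (hd.iso hX)
  have hA' : B v a = ζ⁻¹ * α := by rw [← hα, inv_mul_cancel_left₀ hd.ne_zero]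
  have hB' : B v b = ζ⁻¹ * β := by rw [← hβ, inv_mul_cancel_left₀ hd.ne_zero]
  have h4 : (4 : F) = 0 := by rw [show (4 : F) = 2 * 2 by norm_num, CharTwo.two_eq_zero, mul_zero]
  obtain ⟨S1, hS1, hS1x⟩ := hv.cons hv2 fun w => by
    simp only [qMap, sympForm_smul_left, sympForm_add_left, hneg a v, hneg b v, sympForm_self, hA', hB']
    ring_nf; simp [CharTwo.two_eq_zero, h4]
  obtain ⟨S2, hS2, hS2x⟩ := hv1.cons hv3 fun w => by
    simp only [qMap, sympForm_smul_left, sympForm_add_left, sympForm_add_right, sympForm_smul_right,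
      hneg a v, hneg b v, hneg b a, hab, sympForm_self, hA', hB']
    ring_nf; simp [CharTwo.two_eq_zero, h4]
  refine ⟨S1 * S2, mul_mem hS1 hS2, fun w => ?_⟩
  rw [Units.val_mul, ← Matrix.mulVec_mulVec, hS2x, hS1x, add_assoc]
  congr 1
  simp only [sie, qMap, sMap, sympForm_add_left, sympForm_add_right, sympForm_smul_left, sympForm_smul_right,
    sympForm_self, hneg a v, hneg b v, hneg b a, hab, hA', hB']
  have := hd.ne_zero
  match_scalars <;> field_simp <;> ring_nf <;> reduce_mod_char!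

/-- A long coefficient from a Siegel element. -/
theorem long_of_siegel [CharP F 2] {a b : V} (hp : RatPair F₀ P a b) {x z y : F} (h : InN M (sie a b x z y)) :
    HasC M a (((x + y + z) * ζ⁻¹) ^ 2 * ζ) := by
  have hba := sesq_sympForm.refl _ _ hp.orth
  have hp1 : RatPair F₀ P b (a + b) := by
    refine ⟨hp.right, hp.left.add hp.right, fun e => hp.indep (-1) ?_, ?_, fun k e => ?_⟩
    · rw [neg_one_smul]; exact eq_neg_of_add_eq_zero_left e
    · rw [sympForm_add_right, hba, sympForm_self, add_zero]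
    · rcases eq_or_ne k 0 with rfl | hk
      · rw [zero_smul] at e; exact hp.ne e
      · refine hp.indep ((1 - k) / k) ?_
        have h1 : k • a = (1 - k) • b := by linear_combination (norm := module) -e
        rw [div_eq_inv_mul, ← smul_smul, ← h1, inv_smul_smul₀ hk]
  obtain ⟨T, hT, -, hTa, hTb⟩ := hd.exists_pair_trans hp hp1
  have hcyc : ∀ {x z y : F}, InN M (sie a b x z y) → InN M (sie a b y (z + y) (x + y)) := fun {x z y} h => by
    have := hd.sie_map h hT
    rw [hTa, hTb] at this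
    refine InN.congr this fun w => ?_
    simp only [sie, qMap, sMap, sympForm_add_right]
    match_scalars <;> ring_nf <;> simp [CharTwo.two_eq_zero]
  have h1 := hcyc h
  have hsh : InN M (sie a b 0 (x + y + z) 0) := by
    have := hd.sie_add hp.orth (hd.sie_add hp.orth h h1) (hcyc h1)
    have e2 : (2 : F) = 0 := CharTwo.two_eq_zero
    rwa [show x + y + (x + y) = (0 : F) by linear_combination (x + y) * e2,
      show z + (z + y) + (z + y + (x + y)) = x + y + z by linear_combination (z + y) * e2,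
      show y + (x + y) + (y + (x + y)) = (0 : F) by linear_combination (x + 2 * y) * e2] at this
  set c := (x + y + z) * ζ⁻¹ with hc
  -- a rational vector moved by the short element
  obtain ⟨e', he', hae, hbe⟩ := hd.exists_sep hp.left (fun e => hp.indep 0 (by rw [zero_smul]; exact e))
    (x := b) fun k e => by
      rcases eq_or_ne k 0 with rfl | hk
      · rw [zero_smul] at e; exact hp.ne e
      · exact hp.indep k⁻¹ (by rw [e, inv_smul_smul₀ hk])
  set e := (ζ * B b e')⁻¹ • e' with he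
  have her : Rat F₀ P e := he'.smul (inv_mem (hd.rat b e' hp.right he'))
  have hbe1 : ζ * B b e = 1 := by rw [he, sympForm_smul_right]; have := hd.ne_zero; field_simp
  have hae1 : B a e = 0 := by rw [he, sympForm_smul_right, hae, mul_zero]
  have hpe : RatPair F₀ P a e := ⟨hp.left, her, fun e0 => by simp [e0, sesq_sympForm.zero_right] at hbe1, hae1,
    fun k ek => by
      have h0 := hba
      rw [ek, sympForm_smul_right] at h0
      rcases mul_eq_zero.1 h0 with hk | h0
      · exact hp.indep 0 (by rw [ek, hk, zero_smul, zero_smul])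
      · rw [h0, mul_zero] at hbe1; exact zero_ne_one hbe1⟩
  obtain ⟨S, hS, hSx⟩ := hsh
  have eS : (S : Mn) *ᵥ e = e + c • a := by
    rw [hSx, sie]
    simp only [qMap, sMap, zero_mul, zero_smul, zero_add, add_zero, sesq_sympForm.refl _ _ hae1, mul_zero,
      sympForm_swap e b, CharTwo.neg_eq]
    rw [hc]
    congr 2
    have := hd.ne_zero
    field_simp
    linear_combination (x + y + z) * hbe1
  have hl : InN M (sie a e (ζ * c ^ 2) (ζ * c) ζ) := by
    have h := (hd.hasC_one her).map hS (hd.iso hS)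
    rw [eS] at h
    exact InN.congr h fun w => by simp only [sie, qMap, sMap, sympForm_add_right, sympForm_smul_right]; module
  obtain ⟨U, hU, -, hUa, hUb⟩ := hd.exists_pair_trans hp hpe
  have hsh' := hd.sie_map (⟨S, hS, hSx⟩ : InN M (sie a b 0 (x + y + z) 0)) hU
  rw [hUa, hUb] at hsh'
  have hfin := hd.sie_add hae1 (hd.sie_add hae1 hl hsh') (hd.sie_long' (a := a) (hd.hasC_one her))
  refine InN.congr hfin fun w => ?_
  have e1 : ζ * c = x + y + z := by rw [hc]; have := hd.ne_zero; field_simp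
  simp only [sie, qMap, sMap, e1, add_zero, CharTwo.add_self_eq_zero, zero_mul, zero_smul, mul_comm (c ^ 2) ζ]

omit hd in
theorem two_cases_N {α β : F} (hα : α ≠ 0) (hne : α ≠ β)
    [CharP F 2] (h1 : α ^ 2 * (α ^ 2 + α * β + β ^ 2 + 1) = 0 ∨ α ^ 2 * (α ^ 2 + α * β + β ^ 2 + 1) = 1)
    (h2 : β ^ 2 * (β ^ 2 + β * α + α ^ 2 + 1) = 0 ∨ β ^ 2 * (β ^ 2 + β * α + α ^ 2 + 1) = 1) (hβ : β ≠ 0) :
    α ^ 2 + α * β + β ^ 2 + 1 = 0 := by
  rw [show β ^ 2 + β * α + α ^ 2 + 1 = α ^ 2 + α * β + β ^ 2 + 1 by ring] at h2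
  by_contra hN
  replace h1 := h1.resolve_left (mul_ne_zero (pow_ne_zero _ hα) hN)
  replace h2 := h2.resolve_left (mul_ne_zero (pow_ne_zero _ hβ) hN)
  have := mul_right_cancel₀ hN (h1.trans h2.symm)
  exact hne (CharTwo.sq_injective this)

/-- Over the prime field some orthogonal pair gives a long coefficient outside it. -/
theorem exists_long [Fintype F] [CharP F 2] {n : ℕ} (hn : n.Prime) (hcard : Fintype.card F = Nat.card F₀ ^ n)
    (hF₀ : ∀ x ∈ F₀, x = 0 ∨ x = 1) {v : V} (hv : HasC M v ζ) (hnl : ¬ RatLine F₀ P v) :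
    ∃ a μ, Rat F₀ P a ∧ a ≠ 0 ∧ μ ≠ 0 ∧ μ ≠ 1 ∧ HasC M a (ζ * μ) := by
  have e2 : (2 : F) = 0 := CharTwo.two_eq_zero
  have hneg : ∀ a b : V, B a b = B b a := fun a b => by rw [sympForm_swap a b, CharTwo.neg_eq]
  let ℓ : V → F := fun a => ζ * B v a
  have hℓadd : ∀ a b, ℓ (a + b) = ℓ a + ℓ b := fun a b => by simp only [ℓ, sympForm_add_right, mul_add]
  have hone : ∀ {x y : V}, Rat F₀ P x → Rat F₀ P y → B x y ≠ 0 → ζ * B x y = 1 := fun {x y} hx hy h =>
    (hF₀ _ (hd.rat x y hx hy)).resolve_left (mul_ne_zero hd.ne_zero h)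
  -- dependent rational vectors are equal
  have hdep : ∀ {x y : V} {k : F}, Rat F₀ P x → Rat F₀ P y → y ≠ 0 → x = k • y → k = 0 ∨ k = 1 := by
    intro x y k hx hy hy0 e
    obtain ⟨s, hs, hys⟩ := hd.exists_partner hy hy0
    have := hF₀ _ (hd.rat x s hx hs)
    rwa [e, sympForm_smul_left, mul_left_comm, hys, mul_one] at this
  have mkpair : ∀ {x y : V}, Rat F₀ P x → Rat F₀ P y → B x y = 0 → x ≠ 0 → y ≠ 0 → x ≠ y → RatPair F₀ P x y :=
    fun {x y} hx hy h hx0 hy0 hne => ⟨hx, hy, hy0, h, fun k e => by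
      rcases hdep hx hy hy0 e with rfl | rfl
      · exact hx0 (by rw [e, zero_smul])
      · exact hne (by rw [e, one_smul])⟩
  have hne0 : ∀ {x : V}, ℓ x ≠ 0 → x ≠ 0 := fun {x} h e => h (by simp [ℓ, e, sesq_sympForm.zero_right])
  -- the functional has rank at least two
  have hrank : ∀ t : F, ∃ u, Rat F₀ P u ∧ ℓ u ≠ 0 ∧ ℓ u ≠ t := by
    intro t
    by_contra hc
    push Not at hc
    rcases eq_or_ne t 0 with rfl | ht
    · refine hnl ⟨0, 0, Rat.zero, ?_⟩
      rw [zero_smul]
      refine hd.eq_zero fun u hu => ?_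
      have h1 : ℓ u = 0 := by_contra fun h => h (hc u hu h)
      rw [hneg]; exact (mul_eq_zero.1 h1).resolve_left hd.ne_zero
    · refine hnl ⟨t, t⁻¹ • v, hd.rat_of_form fun u hu => ?_, by rw [smul_inv_smul₀ ht]⟩
      rw [sympForm_smul_right, mul_left_comm, hneg u v, show ζ * B v u = ℓ u from rfl]
      by_cases h : ℓ u = 0
      · rw [h, mul_zero]; exact zero_mem _
      · rw [hc u hu h, inv_mul_cancel₀ ht]; exact one_mem _
  -- independent values on an orthogonal pair
  obtain ⟨a, b, ha, hb, hab, hα, hβ, hne⟩ : ∃ a b, Rat F₀ P a ∧ Rat F₀ P b ∧ B a b = 0 ∧ ℓ a ≠ 0 ∧ ℓ b ≠ 0 ∧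
      ℓ a ≠ ℓ b := by
    by_contra hc
    push Not at hc
    obtain ⟨a, ha, hα, -⟩ := hrank 0
    obtain ⟨b, hb, hβ, hne⟩ := hrank (ℓ a)
    have hab : B a b ≠ 0 := fun h => hne (hc a b ha hb h hα hβ).symm
    obtain ⟨c, hc', hc0, hcl⟩ := hd.exists_perp ![a, b] (by intro i; fin_cases i; exacts [ha, hb])
      (by rw [Fintype.card_fin]; have := hd.dim; omega)
    have hca : B c a = 0 := hcl 0
    have hcb : B c b = 0 := hcl 1
    obtain ⟨d, hd', hcd⟩ := hd.exists_partner hc' hc0
    set d' := d + (ζ * B d b) • a + (ζ * B d a) • b with hd'e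
    have hd'r : Rat F₀ P d' := (hd'.add (ha.smul (hd.rat _ _ hd' hb))).add (hb.smul (hd.rat _ _ hd' ha))
    have h1 := hone ha hb hab
    have hd'a : B d' a = 0 := by
      simp only [hd'e, sympForm_add_left, sympForm_smul_left, sympForm_self, hneg b a]
      linear_combination (B d a) * h1 + (B d a) * e2
    have hd'b : B d' b = 0 := by
      simp only [hd'e, sympForm_add_left, sympForm_smul_left, sympForm_self]
      linear_combination (B d b) * h1 + (B d b) * e2
    have hcd' : ζ * B c d' = 1 := by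
      rw [hd'e, sympForm_add_right, sympForm_add_right, sympForm_smul_right, sympForm_smul_right, hca, hcb,
        mul_zero, mul_zero, add_zero, add_zero, hcd]
    have hzero : ∀ z, Rat F₀ P z → B z a = 0 → B z b = 0 → ℓ z = 0 := fun z hz h h' => by
      by_contra hz0
      exact hne ((hc b z hb hz (sesq_sympForm.refl _ _ h') hβ hz0).trans
        (hc a z ha hz (sesq_sympForm.refl _ _ h) hα hz0).symm)
    refine hne ?_
    have := hc (a + c) (b + d') (ha.add hc') (hb.add hd'r) ?_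
      (by rwa [hℓadd, hzero c hc' hca hcb, add_zero]) (by rwa [hℓadd, hzero d' hd'r hd'a hd'b, add_zero])
    · rw [hℓadd, hℓadd, hzero c hc' hca hcb, hzero d' hd'r hd'a hd'b, add_zero, add_zero] at this
      exact this.symm
    · refine (mul_eq_zero.1 (show ζ * B (a + c) (b + d') = 0 from ?_)).resolve_left hd.ne_zero
      rw [sympForm_add_left, sympForm_add_right a b d', sympForm_add_right c b d', sesq_sympForm.refl _ _ hd'a, hcb, add_zero,
        zero_add, mul_add, h1, hcd', CharTwo.add_self_eq_zero]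
  by_contra hcon
  push Not at hcon
  -- what a pair can carry
  have hbad : ∀ {x y : V}, RatPair F₀ P x y →
      ℓ x ^ 2 * (ℓ x ^ 2 + ℓ x * ℓ y + ℓ y ^ 2 + 1) = 0 ∨ ℓ x ^ 2 * (ℓ x ^ 2 + ℓ x * ℓ y + ℓ y ^ 2 + 1) = 1 := by
    intro x y hp
    have h1 := hd.long_of_siegel hp (hd.siegel hv hp.left hp.right hp.orth (α := ℓ x) (β := ℓ y) rfl rfl)
    set f := ℓ x ^ 2 * (ℓ x ^ 2 + ℓ x * ℓ y + ℓ y ^ 2 + 1)
    rw [show (ζ * (ℓ x ^ 2 * ℓ y ^ 2) + ζ * ℓ x ^ 4 + ζ * (ℓ x ^ 2 + ℓ x ^ 3 * ℓ y)) * ζ⁻¹ = f by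
      simp only [f]; have := hd.ne_zero; field_simp; ring, mul_comm] at h1
    by_contra h
    push Not at h
    exact hcon x (f ^ 2) hp.left (fun e => hp.indep 0 (by rw [zero_smul]; exact e)) (pow_ne_zero _ h.1)
      (fun e => h.2 (CharTwo.sq_injective (by simpa using e))) h1
  have hN : ∀ {x y : V}, Rat F₀ P x → Rat F₀ P y → B x y = 0 → ℓ x ≠ 0 → ℓ y ≠ 0 → ℓ x ≠ ℓ y →
      ℓ x ^ 2 + ℓ x * ℓ y + ℓ y ^ 2 + 1 = 0 := fun {x y} hx hy h hx0 hy0 hxy =>
    two_cases_N hx0 hxy (hbad (mkpair hx hy h (hne0 hx0) (hne0 hy0) fun e => hxy (by rw [e])))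
      (hbad (mkpair hy hx (sesq_sympForm.refl _ _ h) (hne0 hy0) (hne0 hx0) fun e => hxy (by rw [e]))) hy0
  have hNab := hN ha hb hab hα hβ hne
  -- a rational vector killed by the functional
  obtain ⟨k, hk, hk0, hℓk⟩ : ∃ k, Rat F₀ P k ∧ k ≠ 0 ∧ ℓ k = 0 := by
    obtain ⟨z, hz, haz, hbz⟩ := hd.exists_sep ha (hne0 hα) (x := b) fun t e => by
      rcases hdep hb ha (hne0 hα) e with rfl | rfl
      · exact hne0 hβ (by rw [e, zero_smul])
      · exact hne (by rw [e, one_smul])
    have key : ∀ w, Rat F₀ P w → B b w = 0 → ℓ z = ℓ w → ∃ k, Rat F₀ P k ∧ k ≠ 0 ∧ ℓ k = 0 := fun w hw h e =>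
      ⟨z + w, hz.add hw, fun e0 => hbz (by
        rw [eq_neg_of_add_eq_zero_left e0, ← neg_one_smul F w, sympForm_smul_right, h, mul_zero]),
        by rw [hℓadd, e, CharTwo.add_self_eq_zero]⟩
    have hℓ0 : ℓ (0 : V) = 0 := by simp [ℓ, sesq_sympForm.zero_right]
    by_cases h0 : ℓ z = 0
    · exact key 0 Rat.zero (sesq_sympForm.zero_right _) (by rw [h0, hℓ0])
    by_cases h1 : ℓ z = ℓ a
    · exact key a ha (sesq_sympForm.refl _ _ hab) h1
    have := hN ha hz haz hα h0 fun e => h1 e.symm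
    have h3 : (ℓ z + ℓ b) * (ℓ z + ℓ b + ℓ a) = 0 := by
      linear_combination hNab + this - (ℓ a ^ 2 + 1 - ℓ z * ℓ b) * e2
    rcases mul_eq_zero.1 h3 with h3 | h3
    · exact key b hb (sympForm_self b) (CharTwo.add_eq_zero.1 h3)
    · exact key (a + b) (ha.add hb) (by rw [sympForm_add_right, sesq_sympForm.refl _ _ hab, sympForm_self, add_zero])
        (by rw [hℓadd]; exact CharTwo.add_eq_zero.1 (by linear_combination h3))
  -- its orthogonal complement has values in the prime field or in the field of four elements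
  by_cases h4 : ∃ u, Rat F₀ P u ∧ B u k = 0 ∧ ℓ u ≠ 0 ∧ ℓ u ≠ 1
  · obtain ⟨u, hu, huk, hu0, hu1⟩ := h4
    have h := hbad (mkpair hu hk huk (hne0 hu0) hk0 fun e => hu0 (by rw [e, hℓk]))
    rw [hℓk] at h
    have hr : ℓ u ^ 2 + ℓ u + 1 = 0 := by
      rcases h with h | h
      · refine absurd (CharTwo.sq_injective (show ℓ u ^ 2 = 1 ^ 2 from ?_)) hu1
        have := (mul_eq_zero.1 h).resolve_left (pow_ne_zero _ hu0)
        linear_combination this - e2
      · refine pow_eq_zero_iff (n := 2) two_ne_zero |>.1 ?_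
        linear_combination h + (1 + ℓ u + ℓ u ^ 2 + ℓ u ^ 3) * e2
    have hfour : (RingHom.eqLocusField (iterateFrobenius F 2 2) (RingHom.id F)) = (⊤ : Subfield F) := by
      refine subfield_top_of_mem hn hcard (fun x hx => ?_) (a := ℓ u) ?_ fun h => ?_
      · show x ^ 2 ^ 2 = x
        rcases hF₀ x hx with rfl | rfl <;> simp
      · show ℓ u ^ 2 ^ 2 = ℓ u
        linear_combination (ℓ u ^ 2 - ℓ u) * hr
      · rcases hF₀ _ h with h | h
        exacts [hu0 h, hu1 h]
    have hcube : ∀ x : F, x ≠ 0 → x ^ 3 = 1 := fun x hx => by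
      have h : x ^ 2 ^ 2 = x := (Subfield.mem_top x : x ∈ (⊤ : Subfield F)) |> fun h => by
        rw [← hfour] at h; exact h
      exact mul_left_cancel₀ hx (by linear_combination h)
    have h3 : (ℓ a - ℓ b) * (ℓ a ^ 2 + ℓ a * ℓ b + ℓ b ^ 2) = 0 := by
      linear_combination hcube _ hα - hcube _ hβ
    rw [(mul_eq_zero.1 h3).resolve_left (sub_ne_zero.2 hne), zero_add] at hNab
    exact one_ne_zero hNab
  · push Not at h4
    obtain ⟨z, hz, hkz⟩ := hd.exists_partner hk hk0
    have hvals : ∀ u, Rat F₀ P u → ℓ u = 0 ∨ ℓ u = 1 ∨ ℓ u = ℓ z ∨ ℓ u = 1 + ℓ z := by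
      intro u hu
      rcases hF₀ _ (hd.rat u k hu hk) with h | h
      · rcases em (ℓ u = 0) with h' | h'
        · exact Or.inl h'
        · exact Or.inr (Or.inl (h4 u hu ((mul_eq_zero.1 h).resolve_left hd.ne_zero) h'))
      · have huk : B (u + z) k = 0 := by
          refine (mul_eq_zero.1 (show ζ * B (u + z) k = 0 from ?_)).resolve_left hd.ne_zero
          rw [sympForm_add_left, mul_add, h, hneg z k, hkz, CharTwo.add_self_eq_zero]
        rcases em (ℓ (u + z) = 0) with h' | h'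
        · rw [hℓadd] at h'; exact Or.inr (Or.inr (Or.inl (CharTwo.add_eq_zero.1 h')))
        · have := h4 _ (hu.add hz) huk h'
          rw [hℓadd] at this
          exact Or.inr (Or.inr (Or.inr (by linear_combination this - ℓ z * e2)))
    have hroot : ℓ z = 0 ∨ ℓ z = 1 := by
      rcases hvals a ha with h | h | h | h <;> rcases hvals b hb with h' | h' | h' | h' <;>
        first
          | exact absurd h hα
          | exact absurd h' hβ
          | exact absurd (h.trans h'.symm) hne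
          | (have h3 : ℓ z * (ℓ z - 1) = 0 := by
              rw [h, h'] at hNab
              first
                | linear_combination hNab - (ℓ z + 1) * e2
                | linear_combination hNab - (ℓ z ^ 2 + 2 * ℓ z + 1) * e2
                | linear_combination hNab - (ℓ z ^ 2 + ℓ z + 1) * e2
                | linear_combination hNab - (ℓ z ^ 2 + 3 * ℓ z + 2) * e2
                | linear_combination hNab - (2 * ℓ z + 1) * e2
                | linear_combination hNab - (2 * ℓ z + 2) * e2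
                | (ring_nf at hNab ⊢; simp_all)
             exact (mul_eq_zero.1 h3).imp id sub_eq_zero.1)
    have h01 : ∀ u, Rat F₀ P u → ℓ u = 0 ∨ ℓ u = 1 := fun u hu => by
      rcases hvals u hu with h | h | h | h
      · exact Or.inl h
      · exact Or.inr h
      · rw [h]; exact hroot
      · rcases hroot with h' | h' <;> rw [h, h']
        · exact Or.inr (add_zero 1)
        · exact Or.inl (CharTwo.add_self_eq_zero 1)
    exact hne (((h01 a ha).resolve_left hα).trans ((h01 b hb).resolve_left hβ).symm)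

/-- A point off the rational lines spreads all coefficients. -/
theorem all_coef_even [Fintype F] [CharP F 2] {n : ℕ} (hn : n.Prime) (hcard : Fintype.card F = Nat.card F₀ ^ n)
    {v : V} (hv : ∀ b ∈ F₀, HasC M v (ζ * b)) (hnl : ¬ RatLine F₀ P v) :
    ∀ u, Rat F₀ P u → ∀ c, HasC M u c := by
  have hv1 : HasC M v ζ := by simpa using hv 1 (one_mem _)
  by_cases hbig : ∃ μ ∈ F₀, μ ≠ 0 ∧ μ ≠ 1
  · obtain ⟨μ, hμ, hμ0, hμ1⟩ := hbig
    obtain ⟨w, hw, hk⟩ : ∃ w, Rat F₀ P w ∧ (ζ * B w v) ^ 2 ∉ F₀ := by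
      by_contra hc
      push Not at hc
      refine hnl ⟨1, v, hd.rat_of_form fun u hu => ?_, (one_smul F v).symm⟩
      obtain ⟨j, hj⟩ := FiniteField.isSquare_of_char_two (F := F₀) (ringChar.eq F₀ 2) ⟨_, hc u hu⟩
      have hj' : (ζ * B u v) ^ 2 = (j : F) * j := congrArg Subtype.val hj
      rw [← sq] at hj'
      rw [CharTwo.sq_injective hj']; exact j.2
    have hl0 : ζ * B w v ≠ 0 := fun e => hk (by rw [e]; simp)
    refine hd.all_of_plane hw hv1 rfl hl0 hμ0 hμ1 (hd.hasC_rat hw hμ) fun L hL => ?_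
    have h1 : ∀ b ∈ F₀, b * (ζ * B w v) ^ 2 ∈ L := fun b hb => hL b (hd.hasC_rat hw hb)
    have hle : F₀ ≤ L := fun b hb => by
      have := div_mem (h1 b hb) (h1 1 (one_mem _))
      rwa [one_mul, mul_div_assoc, div_self (pow_ne_zero _ hl0), mul_one] at this
    exact subfield_top_of_mem hn hcard hle (by simpa using h1 1 (one_mem _)) hk
  · push Not at hbig
    have hF₀ : ∀ x ∈ F₀, x = 0 ∨ x = 1 := fun x hx => (em (x = 0)).imp id (hbig x hx)
    obtain ⟨a, μ, ha, ha0, hμ0, hμ1, hμ⟩ := hd.exists_long hn hcard hF₀ hv1 hnl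
    obtain ⟨p, hp, hap⟩ := hd.exists_partner ha ha0
    refine hd.all_of_plane ha (hd.hasC_one hp) hap one_ne_zero hμ0 hμ1 hμ fun L hL => ?_
    refine subfield_top_of_mem hn hcard (fun b hb => ?_) (a := μ) (by simpa using hL μ hμ) fun h => ?_
    · rcases hF₀ b hb with rfl | rfl
      exacts [zero_mem _, one_mem _]
    · rcases hF₀ μ h with h | h
      exacts [hμ0 h, hμ1 h]

end SubfieldData

/-- Subfield subgroups of `Sp` in characteristic two are maximal. -/
theorem symplectic_subfield_maximal_even [Fintype F] [CharP F 2] (hm : 2 ≤ m) (F₀ : Subfield F) (n : ℕ)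
    (hn : n.Prime) (hcard : Fintype.card F = Nat.card F₀ ^ n) (P : GL (Fin m ⊕ Fin m) F) (ζ : F) (hζ : ζ ≠ 0)
    (hP : Geo.IsFormRationalStructure (sympForm m F) F₀ ζ P) :
    Geo.IsMaximalIn (spGL m F) (Geo.subfieldSubgroup F₀ P ⊓ spGL m F) := by
  have hrat : ∀ x y, Rat F₀ P x → Rat F₀ P y → ζ * B x y ∈ F₀ := fun x y hx hy => by
    have := hP _ _ hx hy
    rwa [mulVec_inv_cancel, mulVec_inv_cancel] at this
  obtain ⟨c₀, hc₀⟩ : ∃ c₀ : F, c₀ ∉ F₀ := by
    by_contra hc
    push Not at hc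
    have h1 : Nat.card F₀ = Fintype.card F := by
      rw [← Nat.card_eq_fintype_card]
      exact Nat.card_congr ⟨Subtype.val, fun x => ⟨x, hc x⟩, fun _ => rfl, fun _ => rfl⟩
    rw [h1] at hcard
    have := Nat.pow_right_injective (Fintype.one_lt_card (α := F)) ((pow_one _).trans hcard)
    exact hn.one_lt.ne this
  refine isMaximalIn_intro inf_le_right (fun hle => not_spGL_le_subfield (by omega) hc₀
    (⟨hζ, hrat, fun h hh _ => hh, le_rfl, hm⟩ : SubfieldData F₀ P ζ (spGL m F)) hle) fun M hHM hMK g hgM hgH => ?_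
  have hd : SubfieldData F₀ P ζ M := ⟨hζ, hrat,
    fun h hh hr => hHM ⟨mem_subfieldSubgroup_of one_ne_zero fun x hx => by rw [one_smul]; exact hr x hx, hh⟩,
    hMK, hm⟩
  have hne : Nonempty (Fin m ⊕ Fin m) := ⟨Sum.inl ⟨0, by omega⟩⟩
  obtain ⟨x, hx, hxl⟩ : ∃ x, Rat F₀ P x ∧ ¬ RatLine F₀ P ((g : Mn) *ᵥ x) := by
    by_contra hc
    push Not at hc
    obtain ⟨a, ha, h⟩ := exists_scalar_of_lines hc
    exact hgH ⟨mem_subfieldSubgroup_of ha h, hMK hgM⟩
  exact hd.spGL_le_of_rat (hd.all_coef_even hn hcard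
    (fun b hb => (hd.hasC_rat hx hb).map hgM (hd.iso hgM)) hxl)

end Cfsg.Agent.Classical.MaxTv
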