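import Cfsg.Agent.Lib.Classical.MaxRationalInvol
import Cfsg.Agent.Lib.Classical.MaxSympSubfield
import Cfsg.Agent.Lib.Classical.MaxLinearSubspace
import Cfsg.Agent.Lib.Classical.MaxSympSubfieldEven

/-!
Subfield subgroups are maximal in special linear groups.
-/

set_option autoImplicit false
set_option linter.unusedSectionVars false

namespace Cfsg.Agent.Classical.MaxTv

open Matrix Module

variable {F : Type*} [Field F] {ι : Type} [Fintype ι] [DecidableEq ι]

local notation "V" => (ι → F)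
local notation "Mn" => Matrix ι ι F

/-- A functional with values in `F₀` on rational vectors. -/
def RatF (F₀ : Subfield F) (P : GL ι F) (φ : ι → F) : Prop := ∀ i, (φ ᵥ* (P : Matrix ι ι F)) i ∈ F₀

/-- A functional proportional to a rational one. -/
def RatFLine (F₀ : Subfield F) (P : GL ι F) (φ : ι → F) : Prop :=
  ∃ c : F, ∃ r, RatF F₀ P r ∧ φ = c • r

variable {F₀ : Subfield F} {P : GL ι F}

theorem RatF.smul {φ : V} {c : F} (hc : c ∈ F₀) (h : RatF F₀ P φ) : RatF F₀ P (c • φ) := fun i => by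
  rw [Matrix.smul_vecMul]; exact mul_mem hc (h i)

theorem RatF.add {φ ψ : V} (h : RatF F₀ P φ) (h' : RatF F₀ P ψ) : RatF F₀ P (φ + ψ) := fun i => by
  rw [Matrix.add_vecMul]; exact add_mem (h i) (h' i)

theorem RatF.sub {φ ψ : V} (h : RatF F₀ P φ) (h' : RatF F₀ P ψ) : RatF F₀ P (φ - ψ) := fun i => by
  rw [Matrix.sub_vecMul]; exact sub_mem (h i) (h' i)

theorem RatF.dot {φ x : V} (h : RatF F₀ P φ) (hx : Rat F₀ P x) : φ ⬝ᵥ x ∈ F₀ := by
  rw [show φ ⬝ᵥ x = (φ ᵥ* (P : Mn)) ⬝ᵥ (((P⁻¹ : GL ι F) : Mn) *ᵥ x) by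
    rw [← Matrix.dotProduct_mulVec, mulVec_inv_cancel]]
  exact sum_mem fun i _ => mul_mem (h i) (hx i)

/-- The coordinate functionals. -/
theorem ratF_row (i : ι) : RatF F₀ P (Pi.single i 1 ᵥ* ((P⁻¹ : GL ι F) : Mn)) := fun j => by
  rw [Matrix.vecMul_vecMul, ← Units.val_mul, inv_mul_cancel, Units.val_one, Matrix.vecMul_one]
  by_cases h : j = i
  · subst h; simp
  · simp [h]

theorem row_dot (i : ι) (x : V) :
    (Pi.single i 1 ᵥ* ((P⁻¹ : GL ι F) : Mn)) ⬝ᵥ x = (((P⁻¹ : GL ι F) : Mn) *ᵥ x) i := by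
  rw [← Matrix.dotProduct_mulVec, single_dotProduct, one_mul]

/-- Few rational functionals have a rational common zero. -/
theorem exists_rat_zero {κ : Type} [Fintype κ] [DecidableEq κ] (l : κ → V) (hl : ∀ i, RatF F₀ P (l i))
    (hκ : Fintype.card κ < Fintype.card ι) : ∃ y, Rat F₀ P y ∧ y ≠ 0 ∧ ∀ i, l i ⬝ᵥ y = 0 := by
  let A : Matrix κ ι F₀ := fun i j => ⟨(l i ᵥ* (P : Mn)) j, hl i j⟩
  have hA : ∀ (x : V) i, (A.map F₀.subtype *ᵥ x) i = l i ⬝ᵥ ((P : Mn) *ᵥ x) := fun x i => by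
    rw [Matrix.dotProduct_mulVec]; rfl
  obtain ⟨x, hx, hx0⟩ := Submodule.exists_mem_ne_zero_of_ne_bot
    (p := LinearMap.ker (Matrix.mulVecLin (A.map F₀.subtype))) (fun e => by
      have h1 := (Matrix.mulVecLin (A.map F₀.subtype)).finrank_range_add_finrank_ker
      have h2 : finrank F (LinearMap.range (Matrix.mulVecLin (A.map F₀.subtype))) ≤ Fintype.card κ :=
        (Submodule.finrank_le _).trans (Module.finrank_pi F).le
      rw [Module.finrank_pi, e, finrank_bot] at h1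
      omega)
  obtain ⟨y, hy0, hy⟩ := exists_rational_ker A hx0 (LinearMap.mem_ker.1 hx)
  refine ⟨(P : Mn) *ᵥ fun j => (y j : F), rat_of_coe y, fun e => hy0 ?_, fun i => ?_⟩
  · funext j
    refine Subtype.ext ?_
    have := congrArg (fun z => ((P⁻¹ : GL ι F) : Mn) *ᵥ z) e
    simp only [inv_mulVec_cancel, Matrix.mulVec_zero] at this
    exact congrFun this j
  · rw [← hA]
    have := (RingHom.map_mulVec F₀.subtype A y i).symm
    rw [hy, Pi.zero_apply, map_zero] at this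
    exact this

/-- Few rational vectors are killed by a rational functional. -/
theorem exists_ratF_zero {κ : Type} [Fintype κ] [DecidableEq κ] (l : κ → V) (hl : ∀ i, Rat F₀ P (l i))
    (hκ : Fintype.card κ < Fintype.card ι) : ∃ φ, RatF F₀ P φ ∧ φ ≠ 0 ∧ ∀ i, φ ⬝ᵥ l i = 0 := by
  let A : Matrix κ ι F₀ := fun i j => ⟨(((P⁻¹ : GL ι F) : Mn) *ᵥ l i) j, hl i j⟩
  have hA : ∀ (x : V) i, (A.map F₀.subtype *ᵥ x) i = (x ᵥ* ((P⁻¹ : GL ι F) : Mn)) ⬝ᵥ l i := fun x i => by
    rw [← Matrix.dotProduct_mulVec, dotProduct_comm]; rfl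
  obtain ⟨x, hx, hx0⟩ := Submodule.exists_mem_ne_zero_of_ne_bot
    (p := LinearMap.ker (Matrix.mulVecLin (A.map F₀.subtype))) (fun e => by
      have h1 := (Matrix.mulVecLin (A.map F₀.subtype)).finrank_range_add_finrank_ker
      have h2 : finrank F (LinearMap.range (Matrix.mulVecLin (A.map F₀.subtype))) ≤ Fintype.card κ :=
        (Submodule.finrank_le _).trans (Module.finrank_pi F).le
      rw [Module.finrank_pi, e, finrank_bot] at h1
      omega)
  obtain ⟨y, hy0, hy⟩ := exists_rational_ker A hx0 (LinearMap.mem_ker.1 hx)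
  have hP : ∀ z : V, (z ᵥ* ((P⁻¹ : GL ι F) : Mn)) ᵥ* (P : Mn) = z := fun z => by
    rw [Matrix.vecMul_vecMul, ← Units.val_mul, inv_mul_cancel, Units.val_one, Matrix.vecMul_one]
  refine ⟨(fun j => (y j : F)) ᵥ* ((P⁻¹ : GL ι F) : Mn), fun j => by rw [hP]; exact (y j).2, fun e => hy0 ?_,
    fun i => ?_⟩
  · have := hP fun j => (y j : F)
    rw [e, Matrix.zero_vecMul] at this
    exact funext fun j => Subtype.ext (congrFun this j).symm
  · rw [← hA]
    have := (RingHom.map_mulVec F₀.subtype A y i).symm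
    rw [hy, Pi.zero_apply, map_zero] at this
    exact this

/-- A rational functional killing `u`, not vanishing on `x`. -/
theorem exists_ratF_sep {u x : V} (hu : Rat F₀ P u) (hu0 : u ≠ 0) (hx : ∀ k : F, x ≠ k • u) :
    ∃ φ, RatF F₀ P φ ∧ φ ⬝ᵥ u = 0 ∧ φ ⬝ᵥ x ≠ 0 := by
  by_contra hc
  push Not at hc
  set c := ((P⁻¹ : GL ι F) : Mn) *ᵥ u with hcdef
  set d := ((P⁻¹ : GL ι F) : Mn) *ᵥ x with hddef
  obtain ⟨j, hj⟩ : ∃ j, c j ≠ 0 := by
    by_contra h
    push Not at h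
    exact hu0 (by rw [← mulVec_inv_cancel P u, ← hcdef, show c = 0 from funext h, Matrix.mulVec_zero])
  refine hx (d j / c j) (gl_mulVec_injective P⁻¹ ?_)
  show ((P⁻¹ : GL ι F) : Mn) *ᵥ x = ((P⁻¹ : GL ι F) : Mn) *ᵥ _
  rw [Matrix.mulVec_smul, ← hcdef, ← hddef]
  funext i
  have h1 := hc (Pi.single i 1 ᵥ* ((P⁻¹ : GL ι F) : Mn) - (c i / c j) • (Pi.single j 1 ᵥ* ((P⁻¹ : GL ι F) : Mn)))
    ((ratF_row i).sub ((ratF_row j).smul (div_mem (hu i) (hu j)))) (by
      rw [sub_dotProduct, smul_dotProduct, row_dot, row_dot, smul_eq_mul, ← hcdef, div_mul_cancel₀ _ hj, sub_self])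
  rw [sub_dotProduct, smul_dotProduct, row_dot, row_dot, smul_eq_mul, ← hddef, sub_eq_zero] at h1
  rw [h1, Pi.smul_apply, smul_eq_mul]
  ring

/-- A rational vector killed by `φ`, not by `ψ`. -/
theorem exists_rat_sep {φ ψ : V} (hφ : RatF F₀ P φ) (hφ0 : φ ≠ 0) (hψ : ∀ k : F, ψ ≠ k • φ) :
    ∃ x, Rat F₀ P x ∧ φ ⬝ᵥ x = 0 ∧ ψ ⬝ᵥ x ≠ 0 := by
  by_contra hc
  push Not at hc
  set c := φ ᵥ* (P : Mn) with hcdef
  set d := ψ ᵥ* (P : Mn) with hddef
  have hback : ∀ z : V, (z ᵥ* (P : Mn)) ᵥ* ((P⁻¹ : GL ι F) : Mn) = z := fun z => by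
    rw [Matrix.vecMul_vecMul, ← Units.val_mul, mul_inv_cancel, Units.val_one, Matrix.vecMul_one]
  have hcol : ∀ (z : V) i, z ⬝ᵥ ((P : Mn) *ᵥ Pi.single i 1) = (z ᵥ* (P : Mn)) i := fun z i => by
    rw [Matrix.dotProduct_mulVec, dotProduct_single, mul_one]
  obtain ⟨j, hj⟩ : ∃ j, c j ≠ 0 := by
    by_contra h
    push Not at h
    exact hφ0 (by rw [← hback φ, ← hcdef, show c = 0 from funext h, Matrix.zero_vecMul])
  refine hψ (d j / c j) ?_
  rw [← hback ψ, ← hddef, ← hback φ, ← hcdef, ← Matrix.smul_vecMul]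
  congr 1
  funext i
  have h1 := hc ((P : Mn) *ᵥ Pi.single i 1 - (c i / c j) • ((P : Mn) *ᵥ Pi.single j 1))
    ((rat_single i).sub ((rat_single j).smul (div_mem (hφ i) (hφ j)))) (by
      rw [dotProduct_sub, dotProduct_smul, hcol, hcol, smul_eq_mul, ← hcdef, div_mul_cancel₀ _ hj, sub_self])
  rw [dotProduct_sub, dotProduct_smul, hcol, hcol, smul_eq_mul, ← hddef, sub_eq_zero] at h1
  rw [h1, Pi.smul_apply, smul_eq_mul]
  ring

/-- A transvection whose centre has independent coordinates gives a rational centre with an irrational axis. -/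
theorem exists_irrational_axis [Fintype F] (hι : 3 ≤ Fintype.card ι) {n : ℕ} (hn : n.Prime)
    (hcard : Fintype.card F = Nat.card F₀ ^ n) {M : Subgroup (GL ι F)}
    (hrtv : ∀ v φ : V, Rat F₀ P v → RatF F₀ P φ → φ ⬝ᵥ v = 0 → InT M v φ) {v η : V} (h : InT M v η)
    (hηv : η ⬝ᵥ v = 0) (hη0 : η ≠ 0) (hind : ∀ r, RatF F₀ P r → r ⬝ᵥ v = 0 → r = 0) :
    ∃ w φ, Rat F₀ P w ∧ w ≠ 0 ∧ InT M w φ ∧ φ ⬝ᵥ w = 0 ∧ ¬ RatF F₀ P φ := by
  classical
  by_contra hcon
  push Not at hcon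
  obtain ⟨p, hp⟩ := CharP.exists F
  haveI : Fact p.Prime := ⟨CharP.char_is_prime F p⟩
  obtain ⟨w, hw, hηw⟩ : ∃ w, Rat F₀ P w ∧ η ⬝ᵥ w ≠ 0 := by
    by_contra hc
    push Not at hc
    exact hη0 (dotProduct_eq _ _ fun x => by
      rw [zero_dotProduct, eq_sum_rat P x, dotProduct_sum]
      exact Finset.sum_eq_zero fun i _ => by rw [dotProduct_smul, hc _ (rat_single i), smul_zero])
  have hw0 : w ≠ 0 := fun e => hηw (by rw [e, dotProduct_zero])
  -- two rational functionals killing the rational point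
  obtain ⟨ψ, hψ, hψ0, hl⟩ := exists_ratF_zero ![w] (by intro i; fin_cases i; exact hw)
    (by rw [Fintype.card_fin]; omega)
  have hψw : ψ ⬝ᵥ w = 0 := hl 0
  have hψv : ψ ⬝ᵥ v ≠ 0 := fun e => hψ0 (hind _ hψ e)
  obtain ⟨x₁, hx₁, hψx₁⟩ : ∃ x, Rat F₀ P x ∧ ψ ⬝ᵥ x ≠ 0 := by
    by_contra hc
    push Not at hc
    exact hψ0 (dotProduct_eq _ _ fun x => by
      rw [zero_dotProduct, eq_sum_rat P x, dotProduct_sum]
      exact Finset.sum_eq_zero fun i _ => by rw [dotProduct_smul, hc _ (rat_single i), smul_zero])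
  obtain ⟨ψ', hψ', hψ'0, hl'⟩ := exists_ratF_zero ![w, x₁] (by intro i; fin_cases i; exacts [hw, hx₁])
    (by rw [Fintype.card_fin]; omega)
  have hψ'w : ψ' ⬝ᵥ w = 0 := hl' 0
  have hψ'x : ψ' ⬝ᵥ x₁ = 0 := hl' 1
  obtain ⟨f, hf⟩ : ∃ f, f = (ψ ⬝ᵥ v)⁻¹ • v := ⟨_, rfl⟩
  have hψf : ψ ⬝ᵥ f = 1 := by rw [hf, dotProduct_smul, smul_eq_mul, inv_mul_cancel₀ hψv]
  obtain ⟨k, hk⟩ : ∃ k, k = η ⬝ᵥ w * (ψ ⬝ᵥ v) := ⟨_, rfl⟩
  have hk0 : k ≠ 0 := hk ▸ mul_ne_zero hηw hψv
  -- the action on the plane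
  let D : Subgroup (Matrix.SpecialLinearGroup (Fin 2) F) :=
    { carrier := {A | ∃ g ∈ M, (g : Mn) *ᵥ w = A.1 0 0 • w + A.1 1 0 • f ∧
        (g : Mn) *ᵥ f = A.1 0 1 • w + A.1 1 1 • f ∧
        ∀ x, ∃ a b : F, (g : Mn) *ᵥ x = x + a • w + b • f}
      one_mem' := ⟨1, one_mem M, by simp, by simp, fun x => ⟨0, 0, by simp⟩⟩
      mul_mem' := by
        rintro A B ⟨g, hg, g1, g2, g3⟩ ⟨g', hg', g1', g2', g3'⟩
        refine ⟨g * g', mul_mem hg hg', ?_, ?_, fun x => ?_⟩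
        · rw [Units.val_mul, ← Matrix.mulVec_mulVec, g1', Matrix.mulVec_add, Matrix.mulVec_smul, Matrix.mulVec_smul,
            g1, g2]
          simp only [Matrix.SpecialLinearGroup.coe_mul, Matrix.mul_apply, Fin.sum_univ_two]
          module
        · rw [Units.val_mul, ← Matrix.mulVec_mulVec, g2', Matrix.mulVec_add, Matrix.mulVec_smul, Matrix.mulVec_smul,
            g1, g2]
          simp only [Matrix.SpecialLinearGroup.coe_mul, Matrix.mul_apply, Fin.sum_univ_two]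
          module
        · obtain ⟨a, b, e⟩ := g3' x
          obtain ⟨a', b', e'⟩ := g3 x
          refine ⟨a' + a * A.1 0 0 + b * A.1 0 1, b' + a * A.1 1 0 + b * A.1 1 1, ?_⟩
          rw [Units.val_mul, ← Matrix.mulVec_mulVec, e, Matrix.mulVec_add, Matrix.mulVec_add, Matrix.mulVec_smul,
            Matrix.mulVec_smul, g1, g2, e']
          module
      inv_mem' := by
        rintro A ⟨g, hg, g1, g2, g3⟩
        have hd : A.1 0 0 * A.1 1 1 - A.1 0 1 * A.1 1 0 = 1 := by rw [← Matrix.det_fin_two]; exact A.2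
        have e1 : ((g⁻¹ : GL ι F) : Mn) *ᵥ w = A.1 1 1 • w - A.1 1 0 • f := by
          conv_lhs => rw [show w = (g : Mn) *ᵥ (A.1 1 1 • w - A.1 1 0 • f) by
            rw [Matrix.mulVec_sub, Matrix.mulVec_smul, Matrix.mulVec_smul, g1, g2]
            match_scalars
            · linear_combination -hd
            · ring]
          rw [inv_mulVec_cancel]
        have e2 : ((g⁻¹ : GL ι F) : Mn) *ᵥ f = -A.1 0 1 • w + A.1 0 0 • f := by
          conv_lhs => rw [show f = (g : Mn) *ᵥ (-A.1 0 1 • w + A.1 0 0 • f) by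
            rw [Matrix.mulVec_add, Matrix.mulVec_smul, Matrix.mulVec_smul, g1, g2]
            match_scalars
            · linear_combination -hd
            · ring]
          rw [inv_mulVec_cancel]
        refine ⟨g⁻¹, inv_mem hg, ?_, ?_, fun x => ?_⟩
        · rw [e1, Matrix.SpecialLinearGroup.coe_inv, Matrix.adjugate_fin_two]; simp [sub_eq_add_neg]
        · rw [e2, Matrix.SpecialLinearGroup.coe_inv, Matrix.adjugate_fin_two]; simp
        · obtain ⟨a, b, e⟩ := g3 x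
          refine ⟨-(a * A.1 1 1 - b * A.1 0 1), -(b * A.1 0 0 - a * A.1 1 0), ?_⟩
          have e' := congrArg (fun z => ((g⁻¹ : GL ι F) : Mn) *ᵥ z) e
          simp only [inv_mulVec_cancel, Matrix.mulVec_add, Matrix.mulVec_smul, e1, e2] at e'
          calc ((g⁻¹ : GL ι F) : Mn) *ᵥ x
              = x - (a • (A.1 1 1 • w - A.1 1 0 • f) + b • (-A.1 0 1 • w + A.1 0 0 • f)) := by
                nth_rewrite 2 [e']; abel
            _ = _ := by module }
  -- upper and lower transvections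
  have hup : ∀ r, RatF F₀ P r → r ⬝ᵥ w = 0 → Cfsg.Agent.Grp.SL2.up (r ⬝ᵥ f) ∈ D := fun r hr hrw => by
    obtain ⟨T, hT, hTx⟩ := hrtv w r hw hr hrw
    refine ⟨T, hT, ?_, ?_, fun x => ⟨r ⬝ᵥ x, 0, by rw [hTx, zero_smul, add_zero]⟩⟩ <;>
      rw [hTx] <;> simp [Cfsg.Agent.Grp.SL2.up, hrw, add_comm]
  have hlow : Cfsg.Agent.Grp.SL2.low k ∈ D := by
    obtain ⟨T, hT, hTx⟩ := h
    refine ⟨T, hT, ?_, ?_, fun x => ⟨0, η ⬝ᵥ x * (ψ ⬝ᵥ v), ?_⟩⟩
    · rw [hTx, hf, hk]
      simp [Cfsg.Agent.Grp.SL2.low, smul_smul, mul_assoc, mul_inv_cancel₀ hψv]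
    · rw [hTx, hf, dotProduct_smul, hηv]
      simp [Cfsg.Agent.Grp.SL2.low]
    · rw [hTx, hf, zero_smul, add_zero, smul_smul, mul_assoc, mul_inv_cancel₀ hψv, mul_one]
  have h1 : Cfsg.Agent.Grp.SL2.up (1 : F) ∈ D := hψf ▸ hup ψ hψ hψw
  have hμn : ∀ m : ℕ, ψ' ⬝ᵥ f ≠ m := fun m e => by
    have h2 : (ψ' - (m : F) • ψ) ⬝ᵥ v = 0 := by
      rw [hf, dotProduct_smul, smul_eq_mul] at e
      rw [sub_dotProduct, smul_dotProduct, smul_eq_mul, ← e, mul_comm (ψ ⬝ᵥ v)⁻¹, mul_assoc,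
        inv_mul_cancel₀ hψv, mul_one, sub_self]
    have h3 := sub_eq_zero.1 (hind _ (hψ'.sub (hψ.smul (natCast_mem F₀ m))) h2)
    have h4 := congrArg (fun z => z ⬝ᵥ x₁) h3
    simp only [hψ'x, smul_dotProduct, smul_eq_mul] at h4
    rw [(mul_eq_zero.1 h4.symm).resolve_right hψx₁, zero_smul] at h3
    exact hψ'0 h3
  have htop : D = ⊤ := by
    refine Cfsg.Agent.Grp.UpperLower.eq_top p D hk0 h1 (hup ψ' hψ' hψ'w) hμn hlow fun L hL => ?_
    have h2 : ∀ r, RatF F₀ P r → r ⬝ᵥ w = 0 → r ⬝ᵥ f ∈ L := fun r hr hrw => by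
      have h3 := div_mem (hL _ (hup r hr hrw)) (hL 1 h1)
      rwa [one_mul, mul_div_cancel_right₀ _ hk0] at h3
    refine subfield_top_of_mem hn hcard (fun b hb => ?_) (h2 ψ' hψ' hψ'w) fun hmem => ?_
    · simpa [hψf] using h2 (b • ψ) (hψ.smul hb) (by rw [smul_dotProduct, hψw, smul_zero])
    · have h3 : (ψ' - (ψ' ⬝ᵥ f) • ψ) ⬝ᵥ v = 0 := by
        rw [sub_dotProduct, smul_dotProduct, hf, dotProduct_smul, smul_eq_mul, smul_eq_mul, mul_comm (ψ ⬝ᵥ v)⁻¹,
          mul_assoc, inv_mul_cancel₀ hψv, mul_one, sub_self]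
      have h4 := sub_eq_zero.1 (hind _ (hψ'.sub (hψ.smul hmem)) h3)
      have h5 := congrArg (fun z => z ⬝ᵥ x₁) h4
      simp only [hψ'x, smul_dotProduct, smul_eq_mul] at h5
      rw [(mul_eq_zero.1 h5.symm).resolve_right hψx₁, zero_smul] at h4
      exact hψ'0 h4
  -- a torus element rescales the rational axes
  obtain ⟨μ, hμ⟩ : ∃ μ : F, μ ∉ F₀ := by
    by_contra hc
    push Not at hc
    have h2 : Nat.card F₀ = Fintype.card F := by
      rw [← Nat.card_eq_fintype_card]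
      exact Nat.card_congr ⟨Subtype.val, fun x => ⟨x, hc x⟩, fun _ => rfl, fun _ => rfl⟩
    rw [h2] at hcard
    exact hn.one_lt.ne (Nat.pow_right_injective (Fintype.one_lt_card (α := F)) ((pow_one _).trans hcard))
  have hμ0 : μ ≠ 0 := fun e => hμ (e ▸ zero_mem _)
  have hμ1 : μ ≠ 1 := fun e => hμ (e ▸ one_mem _)
  have hμi : μ⁻¹ - 1 ≠ 0 := fun e => hμ1 (inv_eq_one.1 (sub_eq_zero.1 e))
  obtain ⟨d, hdM, hdw, hdf, hdx⟩ : (⟨!![μ, 0; 0, μ⁻¹], by
      rw [Matrix.det_fin_two_of]; simp [hμ0]⟩ : Matrix.SpecialLinearGroup (Fin 2) F) ∈ D := htop ▸ Subgroup.mem_top _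
  simp at hdw hdf
  obtain ⟨x, hx, hxw⟩ : ∃ x, (d : Mn) *ᵥ x = x ∧ ∀ c : F, x ≠ c • w := by
    obtain ⟨x₀, hx₀⟩ : ∃ x₀, x₀ ∉ Submodule.span F ({w, f} : Set V) := by
      by_contra hc
      push Not at hc
      have h2 := Submodule.finrank_mono (show (⊤ : Submodule F V) ≤ _ from fun x _ => hc x)
      rw [finrank_top, finrank_fintype_fun_eq_card] at h2
      have h3 := finrank_span_finset_le_card (R := F) ({w, f} : Finset V)
      rw [Set.finrank, Finset.coe_pair] at h3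
      have := Finset.card_le_two (a := w) (b := f)
      omega
    obtain ⟨a, b, e⟩ := hdx x₀
    refine ⟨x₀ - (a / (μ - 1)) • w - (b / (μ⁻¹ - 1)) • f, ?_, fun c e' => hx₀ ?_⟩
    · rw [Matrix.mulVec_sub, Matrix.mulVec_sub, Matrix.mulVec_smul, Matrix.mulVec_smul, e, hdw, hdf]
      have := sub_ne_zero.2 hμ1
      match_scalars <;> field_simp <;> ring
    · refine Submodule.mem_span_pair.2 ⟨c + a / (μ - 1), b / (μ⁻¹ - 1), ?_⟩
      rw [add_smul, ← e']
      abel
  have hTmap : ∀ r, RatF F₀ P r → r ⬝ᵥ w = 0 →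
      RatF F₀ P (μ • (r ᵥ* ((d⁻¹ : GL ι F) : Mn))) ∧ (μ • (r ᵥ* ((d⁻¹ : GL ι F) : Mn))) ⬝ᵥ w = 0 := fun r hr hrw => by
    have h2 := ((hrtv w r hw hr hrw).conj hdM)
    rw [hdw] at h2
    have h3 := h2.smul_left μ⁻¹ (inv_ne_zero hμ0)
    rw [smul_smul, inv_mul_cancel₀ hμ0, one_smul, inv_inv] at h3
    have h4 : (r ᵥ* ((d⁻¹ : GL ι F) : Mn)) ⬝ᵥ w = 0 := by
      have h5 := vecMul_inv_dot d r w
      rw [hdw, dotProduct_smul, hrw, smul_eq_mul] at h5
      exact (mul_eq_zero.1 h5).resolve_left hμ0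
    have h6 : (μ • (r ᵥ* ((d⁻¹ : GL ι F) : Mn))) ⬝ᵥ w = 0 := by rw [smul_dotProduct, h4, smul_zero]
    exact ⟨hcon w _ hw hw0 h3 h6, h6⟩
  -- their values at the fixed vector fill the field
  obtain ⟨Im, hIm⟩ : ∃ Im : Set F, Im = {a | ∃ r, RatF F₀ P r ∧ r ⬝ᵥ w = 0 ∧ r ⬝ᵥ x = a} := ⟨_, rfl⟩
  let S : Subfield F :=
    { carrier := {a | ∀ y ∈ Im, a * y ∈ Im}
      one_mem' := fun y hy => by rwa [one_mul]
      mul_mem' := fun {a b} ha hb y hy => by rw [mul_assoc]; exact ha _ (hb _ hy)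
      zero_mem' := fun y _ => by
        rw [zero_mul, hIm]
        exact ⟨0, fun i => by simp [RatF, zero_mem], zero_dotProduct _, zero_dotProduct _⟩
      add_mem' := fun {a b} ha hb y hy => by
        have h2 := ha y hy
        have h3 := hb y hy
        rw [hIm] at h2 h3 ⊢
        obtain ⟨r, hr, hrw, e⟩ := h2
        obtain ⟨r', hr', hrw', e'⟩ := h3
        exact ⟨r + r', hr.add hr', by rw [add_dotProduct, hrw, hrw', add_zero],
          by rw [add_dotProduct, e, e', add_mul]⟩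
      neg_mem' := fun {a} ha y hy => by
        have h2 := ha y hy
        rw [hIm] at h2 ⊢
        obtain ⟨r, hr, hrw, e⟩ := h2
        exact ⟨(-1 : F) • r, hr.smul (neg_mem (one_mem _)), by rw [smul_dotProduct, hrw, smul_zero],
          by rw [smul_dotProduct, e, smul_eq_mul]; ring⟩
      inv_mem' := fun a ha => by
        rcases eq_or_ne a 0 with rfl | ha0
        · simpa using ha
        have hpow : ∀ m : ℕ, ∀ y ∈ Im, a ^ m * y ∈ Im := fun m => by
          induction m with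
          | zero => exact fun y hy => by rwa [pow_zero, one_mul]
          | succ m ih => exact fun y hy => by rw [pow_succ, mul_assoc]; exact ih _ (ha _ hy)
        have he : a⁻¹ = a ^ (Fintype.card F - 2) := inv_eq_of_mul_eq_one_right (by
          rw [← pow_succ', show Fintype.card F - 2 + 1 = Fintype.card F - 1 by
            have := Fintype.one_lt_card (α := F); omega]
          exact FiniteField.pow_card_sub_one_eq_one a ha0)
        intro y hy
        rw [he]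
        exact hpow _ y hy }
  have hS : S = ⊤ := by
    refine subfield_top_of_mem hn hcard (fun b hb y hy => ?_) (a := μ) (fun y hy => ?_) hμ
    · rw [hIm] at hy ⊢
      obtain ⟨r, hr, hrw, e⟩ := hy
      exact ⟨b • r, hr.smul hb, by rw [smul_dotProduct, hrw, smul_zero], by rw [smul_dotProduct, e, smul_eq_mul]⟩
    · rw [hIm] at hy ⊢
      obtain ⟨r, hr, hrw, e⟩ := hy
      refine ⟨_, (hTmap r hr hrw).1, (hTmap r hr hrw).2, ?_⟩
      rw [smul_dotProduct, smul_eq_mul]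
      have h5 := vecMul_inv_dot d r x
      rw [hx] at h5
      rw [h5, e]
  obtain ⟨r₀, hr₀, hr₀w, hr₀x⟩ := exists_ratF_sep hw hw0 hxw
  have hall : ∀ a : F, ∃ r, RatF F₀ P r ∧ r ⬝ᵥ w = 0 ∧ r ⬝ᵥ x = a := fun a => by
    have h2 : a / (r₀ ⬝ᵥ x) ∈ S := hS ▸ trivial
    have h3 := h2 (r₀ ⬝ᵥ x) (by rw [hIm]; exact ⟨r₀, hr₀, hr₀w, rfl⟩)
    rw [div_mul_cancel₀ _ hr₀x, hIm] at h3
    exact h3
  -- count
  choose R hR hRw hRx using hall
  let emb : (ι → F₀) → V := fun c => (fun i => (c i : F)) ᵥ* ((P⁻¹ : GL ι F) : Mn)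
  have hembR : ∀ c, RatF F₀ P (emb c) := fun c i => by
    rw [show emb c ᵥ* (P : Mn) = fun i => (c i : F) by
      simp [emb, Matrix.vecMul_vecMul, ← Units.val_mul]]
    exact (c i).2
  let G : F → (ι → F₀) := fun a i => ⟨(R a ᵥ* (P : Mn)) i, hR a i⟩
  have hG : ∀ a, emb (G a) = R a := fun a => by
    simp [emb, G, Matrix.vecMul_vecMul, ← Units.val_mul]
  have hGinj : Function.Injective G := fun a b e => by rw [← hRx a, ← hRx b, ← hG a, ← hG b, e]
  have hevinj : Function.Injective fun c => emb c ⬝ᵥ v := fun c c' e => by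
    have h2 := sub_eq_zero.1 (hind _ ((hembR c).sub (hembR c')) (by rw [sub_dotProduct]; exact sub_eq_zero.2 e))
    funext i
    have h3 := congrFun (congrArg (fun z => z ᵥ* (P : Mn)) h2) i
    simp [emb, Matrix.vecMul_vecMul, ← Units.val_mul] at h3
    exact h3
  obtain ⟨i, hi⟩ : ∃ i, (((P⁻¹ : GL ι F) : Mn) *ᵥ w) i ≠ 0 := by
    by_contra hc
    push Not at hc
    exact hw0 (by rw [← mulVec_inv_cancel P w, show ((P⁻¹ : GL ι F) : Mn) *ᵥ w = 0 from funext hc, Matrix.mulVec_zero])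
  obtain ⟨a, ha⟩ :=
    (show Function.Bijective G from (Fintype.bijective_iff_injective_and_card G).2 ⟨hGinj,
      le_antisymm (Fintype.card_le_of_injective _ hGinj) (Fintype.card_le_of_injective _ hevinj)⟩).2 (Pi.single i 1)
  refine hi ?_
  have h7 := hRw a
  rw [← hG, ha] at h7
  simp only [emb, ← Matrix.dotProduct_mulVec] at h7
  rw [← h7]
  simp [dotProduct, Pi.single_apply, apply_ite (Subtype.val : F₀ → F)]

/-- Subfield subgroups are maximal in `SL`. -/
theorem linear_subfield_maximal_of' [Fintype F] (hι : Fintype.card ι = 4 ∨ Fintype.card ι = 6 ∨ 8 ≤ Fintype.card ι) (F₀ : Subfield F) (n : ℕ) (hn : n.Prime)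
    (hcard : Fintype.card F = Nat.card F₀ ^ n) (P : GL ι F) :
    Geo.IsMaximalIn (Geo.specialLinear ι F) (Geo.subfieldSubgroup F₀ P ⊓ Geo.specialLinear ι F) := by
  classical
  have hne : Nonempty ι := Fintype.card_pos_iff.1 (by omega)
  obtain ⟨i₀⟩ := hne
  set e₀ := (P : Mn) *ᵥ Pi.single i₀ 1 with he₀
  have he₀r : Rat F₀ P e₀ := rat_single _
  have hrat_ne : ∀ i, (P : Mn) *ᵥ Pi.single i (1 : F) ≠ 0 := fun i e => by
    have := congrFun (gl_mulVec_injective P (show (P : Mn) *ᵥ (Pi.single i (1 : F) : V) = (P : Mn) *ᵥ 0 by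
      rw [Matrix.mulVec_zero]; exact e)) i
    simp at this
  obtain ⟨c₀, hc₀⟩ : ∃ c₀ : F, c₀ ∉ F₀ := by
    by_contra hc
    push Not at hc
    have h1 : Nat.card F₀ = Fintype.card F := by
      rw [← Nat.card_eq_fintype_card]
      exact Nat.card_congr ⟨Subtype.val, fun x => ⟨x, hc x⟩, fun _ => rfl, fun _ => rfl⟩
    have h3 : 1 < Fintype.card F := Fintype.one_lt_card
    rw [h1] at hcard
    have := Nat.pow_le_pow_right h3.le hn.two_le
    rw [← hcard, sq] at this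
    have := Nat.le_of_mul_le_mul_left (this.trans (Nat.mul_one _).ge) (by omega)
    omega
  obtain ⟨i₁, hi₁⟩ : ∃ i, i ≠ i₀ := Fintype.exists_ne_of_one_lt_card (by omega) i₀
  refine isMaximalIn_intro inf_le_right (fun hle => ?_) fun M hHM hMK g hgM hgH => ?_
  · -- coordinates of the element
    obtain ⟨T, hT⟩ := exists_tv (φ := c₀ • (Pi.single i₀ 1 ᵥ* ((P⁻¹ : GL ι F) : Mn)))
      (v := (P : Mn) *ᵥ Pi.single i₁ 1) (by rw [smul_dotProduct, row_dot, inv_mulVec_cancel]; simp [hi₁.symm])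
    obtain ⟨a, ha, h⟩ := exists_of_mem_subfieldSubgroup (hle (det_tv hT (by
      rw [smul_dotProduct, row_dot, inv_mulVec_cancel]; simp [hi₁.symm]))).1
    have h1 := h _ (rat_single i₀)
    have e0 := h1 i₀
    have e1 := h1 i₁
    simp only [hT, smul_dotProduct, row_dot, inv_mulVec_cancel, Matrix.mulVec_smul, Matrix.mulVec_add,
      Pi.smul_apply, Pi.add_apply, smul_eq_mul, Pi.single_eq_same, Pi.single_eq_of_ne hi₁,
      Pi.single_eq_of_ne hi₁.symm, mul_one, mul_zero, zero_add, add_zero] at e0 e1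
    exact hc₀ (by simpa [ha] using mul_mem (inv_mem e0) e1)
  have hgns : g ∉ Geo.subfieldSubgroup F₀ P := fun h => hgH ⟨h, hMK hgM⟩
  have hmem : ∀ h ∈ Geo.specialLinear ι F, RatMap F₀ P h → h ∈ M := fun h hh hr =>
    hHM ⟨mem_subfieldSubgroup_of one_ne_zero fun x hx => by rw [one_smul]; exact hr x hx, hh⟩
  have hrtv : ∀ v φ : V, Rat F₀ P v → RatF F₀ P φ → φ ⬝ᵥ v = 0 → InT M v φ := fun v φ hv hφ h => by
    obtain ⟨T, hT⟩ := exists_tv h
    exact ⟨T, hmem T (det_tv hT h) fun x hx => by rw [hT]; exact hx.add (hv.smul (hφ.dot hx)), hT⟩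
  -- a transvection of `M` outside the subfield group
  obtain ⟨g, hgM, hgns, η₁, hgη⟩ : ∃ k ∈ M, k ∉ Geo.subfieldSubgroup F₀ P ∧
      ∃ η : V, ∀ x, η ⬝ᵥ x = 0 → (k : Mn) *ᵥ x = x := by
    have : Nonempty ι := ⟨i₀⟩
    obtain ⟨x, hx, hxl⟩ : ∃ x, Rat F₀ P x ∧ ¬ RatLine F₀ P ((g : Mn) *ᵥ x) := by
      by_contra hc
      push Not at hc
      obtain ⟨a, ha, h⟩ := exists_scalar_of_lines hc
      exact hgns (mem_subfieldSubgroup_of ha h)
    obtain ⟨φ, hφ, hφ0, hφx⟩ := exists_ratF_zero ![x] (by intro l; fin_cases l; exact hx)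
      (by rw [Fintype.card_fin]; omega)
    obtain ⟨k, hk, hkx⟩ := (hrtv x φ hx hφ (hφx 0)).conj hgM
    set η := φ ᵥ* ((g⁻¹ : GL ι F) : Mn) with hη
    set v := (g : Mn) *ᵥ x with hv
    refine ⟨k, hk, fun hkH => ?_, η, fun y hy => by rw [hkx, hy, zero_smul, add_zero]⟩
    obtain ⟨a, ha, h⟩ := exists_of_mem_subfieldSubgroup hkH
    have hηv : η ⬝ᵥ v = 0 := by rw [hη, hv, vecMul_inv_dot]; exact hφx 0
    obtain ⟨j, hj⟩ : ∃ j, η ⬝ᵥ ((P : Mn) *ᵥ Pi.single j 1) ≠ 0 := by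
      by_contra hc
      push Not at hc
      refine hφ0 (dotProduct_eq _ _ fun z => ?_)
      rw [zero_dotProduct, ← vecMul_inv_dot g φ z, ← hη, eq_sum_rat P ((g : Mn) *ᵥ z), dotProduct_sum]
      exact Finset.sum_eq_zero fun i _ => by rw [dotProduct_smul, hc, smul_zero]
    set y := (P : Mn) *ᵥ Pi.single j 1 with hy
    have hyR : Rat F₀ P y := rat_single j
    have hkk : (k : Mn) *ᵥ ((k : Mn) *ᵥ y) = y + (2 * (η ⬝ᵥ y)) • v := by
      rw [hkx, hkx, dotProduct_add, dotProduct_smul, hηv, smul_zero, add_zero]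
      module
    have hq1 : Rat F₀ P (a • (y + (η ⬝ᵥ y) • v)) := by rw [← hkx]; exact h y hyR
    have hq2 : Rat F₀ P ((a * a) • (y + (2 * (η ⬝ᵥ y)) • v)) := by
      have := h _ (h y hyR)
      rwa [Matrix.mulVec_smul, smul_smul, hkk] at this
    set c := ((P⁻¹ : GL ι F) : Mn) *ᵥ v with hc
    have h1 : ∀ i, a * ((Pi.single j 1 : V) i + (η ⬝ᵥ y) * c i) ∈ F₀ := fun i => by
      have := hq1 i
      rwa [Matrix.mulVec_smul, Matrix.mulVec_add, Matrix.mulVec_smul, hy, inv_mulVec_cancel] at this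
    have h2 : ∀ i, a * a * ((Pi.single j 1 : V) i + 2 * (η ⬝ᵥ y) * c i) ∈ F₀ := fun i => by
      have := hq2 i
      rwa [Matrix.mulVec_smul, Matrix.mulVec_add, Matrix.mulVec_smul, hy, inv_mulVec_cancel] at this
    by_cases hoff : ∃ i, i ≠ j ∧ c i ≠ 0
    · obtain ⟨i, hij, hci⟩ := hoff
      have u1 := h1 i
      have u2 := h2 i
      rw [Pi.single_eq_of_ne hij, zero_add] at u1 u2
      have hne : a * ((η ⬝ᵥ y) * c i) ≠ 0 := mul_ne_zero ha (mul_ne_zero hj hci)
      by_cases h20 : (2 : F) = 0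
      · have : CharP F 2 := CharTwo.of_one_ne_zero_of_two_eq_zero one_ne_zero h20
        obtain ⟨k₀, hk₀⟩ := FiniteField.isSquare_of_char_two (F := F₀) (ringChar.eq F₀ 2)
          ⟨_, (show a * a ∈ F₀ by
            have := h2 j
            rwa [Pi.single_eq_same, h20, zero_mul, zero_mul, add_zero, mul_one] at this)⟩
        have haF : a ∈ F₀ := by
          have hk' : a * a = (k₀ : F) * (k₀ : F) := congrArg Subtype.val hk₀
          rw [← sq, ← sq] at hk'
          rw [CharTwo.sq_injective hk']; exact k₀.2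
        refine hxl ⟨(η ⬝ᵥ y)⁻¹, (η ⬝ᵥ y) • v, ?_, by rw [smul_smul, inv_mul_cancel₀ hj, one_smul]⟩
        have := (hq1.smul (inv_mem haF)).sub hyR
        rwa [smul_smul, inv_mul_cancel₀ ha, one_smul, add_sub_cancel_left] at this
      · have haF : a ∈ F₀ := by
          have := div_mem (div_mem u2 u1) (show (2 : F) ∈ F₀ by exact_mod_cast natCast_mem F₀ 2)
          rwa [show a * a * (2 * (η ⬝ᵥ y) * c i) / (a * ((η ⬝ᵥ y) * c i)) / 2 = a by field_simp] at this
        refine hxl ⟨(η ⬝ᵥ y)⁻¹, (η ⬝ᵥ y) • v, ?_, by rw [smul_smul, inv_mul_cancel₀ hj, one_smul]⟩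
        have := (hq1.smul (inv_mem haF)).sub hyR
        rwa [smul_smul, inv_mul_cancel₀ ha, one_smul, add_sub_cancel_left] at this
    · push Not at hoff
      refine hxl ⟨c j, y, hyR, gl_mulVec_injective P⁻¹ ?_⟩
      show ((P⁻¹ : GL ι F) : Mn) *ᵥ v = ((P⁻¹ : GL ι F) : Mn) *ᵥ (c j • y)
      rw [← hc, Matrix.mulVec_smul, hy, inv_mulVec_cancel]
      funext i
      by_cases hij : i = j
      · subst hij; simp
      · simp [Pi.single_eq_of_ne hij, hoff i hij]
  -- conjugation by a rational transvection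
  have hshift : ∀ v η w ψ : V, InT M v η → Rat F₀ P w → RatF F₀ P ψ → ψ ⬝ᵥ w = 0 →
      InT M (v + (ψ ⬝ᵥ v) • w) (η - (η ⬝ᵥ w) • ψ) := fun v η w ψ h hw hψ hψw => by
    obtain ⟨T, hTM, hTx⟩ := hrtv w ψ hw hψ hψw
    have := h.conj hTM
    rwa [hTx, show η ᵥ* ((T⁻¹ : GL ι F) : Mn) = η - (η ⬝ᵥ w) • ψ from dotProduct_eq _ _ fun x => by
      have hTi : ((T⁻¹ : GL ι F) : Mn) *ᵥ x = x - (ψ ⬝ᵥ x) • w := by
        have h1 := hTx (x - (ψ ⬝ᵥ x) • w)
        rw [dotProduct_sub, dotProduct_smul, hψw, smul_zero, sub_zero, sub_add_cancel] at h1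
        conv_lhs => rw [← h1]
        exact inv_mulVec_cancel T _
      rw [← Matrix.dotProduct_mulVec, hTi, dotProduct_sub, dotProduct_smul, sub_dotProduct, smul_dotProduct,
        smul_eq_mul, smul_eq_mul, mul_comm]] at this
  -- a coefficient is attached to all rational pairs
  let A : F → Prop := fun a => ∀ v φ : V, Rat F₀ P v → RatF F₀ P φ → φ ⬝ᵥ v = 0 → InT M v (a • φ)
  have hAofone : ∀ a v φ, Rat F₀ P v → v ≠ 0 → RatF F₀ P φ → φ ≠ 0 → φ ⬝ᵥ v = 0 → InT M v (a • φ) → A a := by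
    intro a v φ hv hv0 hφ hφ0 hφv h
    -- all functionals at one centre
    have hfun : ∀ v φ, Rat F₀ P v → RatF F₀ P φ → φ ≠ 0 → φ ⬝ᵥ v = 0 → InT M v (a • φ) →
        ∀ ψ, RatF F₀ P ψ → ψ ⬝ᵥ v = 0 → InT M v (a • ψ) := by
      intro v φ hv hφ hφ0 hφv h
      have h1 : ∀ w ψ, Rat F₀ P w → RatF F₀ P ψ → φ ⬝ᵥ w ≠ 0 → ψ ⬝ᵥ w = 0 → ψ ⬝ᵥ v = 0 → InT M v (a • ψ) := by
        intro w ψ hw hψ hφw hψw hψv
        set w' := (φ ⬝ᵥ w)⁻¹ • w with hw'
        have := hshift v (a • φ) w' ψ h (hw.smul (inv_mem (hφ.dot hw))) hψ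
          (by rw [hw', dotProduct_smul, hψw, smul_zero])
        rw [hψv, zero_smul, add_zero, smul_dotProduct, hw', dotProduct_smul, smul_eq_mul, smul_eq_mul,
          inv_mul_cancel₀ hφw, mul_one] at this
        have h2 := this.add_right (h.neg (by rw [smul_dotProduct, hφv, smul_zero])) (by
          rw [sub_dotProduct, smul_dotProduct, smul_dotProduct, hφv, hψv, smul_zero, sub_zero])
        have h3 := h2.neg (by
          rw [add_dotProduct, sub_dotProduct, neg_dotProduct, smul_dotProduct, smul_dotProduct, hφv, hψv]; simp)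
        convert h3 using 1
        abel
      have h4 : ∀ ψ, RatF F₀ P ψ → ψ ⬝ᵥ v = 0 → (∀ k : F, φ ≠ k • ψ) → InT M v (a • ψ) := fun ψ hψ hψv hk => by
        rcases eq_or_ne ψ 0 with rfl | hψ0
        · rw [smul_zero]; exact InT.zero_right _
        obtain ⟨w, hw, hw1, hw2⟩ := exists_rat_sep hψ hψ0 hk
        exact h1 w ψ hw hψ hw2 hw1 hψv
      intro ψ hψ hψv
      by_cases hk : ∀ k : F, φ ≠ k • ψ
      · exact h4 ψ hψ hψv hk
      push Not at hk
      obtain ⟨k, hk⟩ := hk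
      obtain ⟨x₁, hx₁, hx₁0⟩ : ∃ x, Rat F₀ P x ∧ φ ⬝ᵥ x ≠ 0 := by
        by_contra hc
        push Not at hc
        exact hφ0 (dotProduct_eq _ _ fun x => by
          rw [zero_dotProduct, eq_sum_rat P x, dotProduct_sum]
          exact Finset.sum_eq_zero fun i _ => by rw [dotProduct_smul, hc _ (rat_single i), smul_zero])
      obtain ⟨ρ, hρ, hρ0, hρl⟩ := exists_ratF_zero ![v, x₁] (by intro i; fin_cases i; exacts [hv, hx₁])
        (by rw [Fintype.card_fin]; omega)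
      have hρv : ρ ⬝ᵥ v = 0 := hρl 0
      have hρ1 : ρ ⬝ᵥ x₁ = 0 := hρl 1
      have hne : ∀ c : F, ρ ≠ c • φ := fun c e => by
        rw [e, smul_dotProduct, smul_eq_mul, mul_eq_zero] at hρ1
        exact hρ0 (by rw [e, hρ1.resolve_right hx₁0, zero_smul])
      have hne' : ∀ c : F, φ ≠ c • ρ := fun c e => hx₁0 (by rw [e, smul_dotProduct, hρ1, smul_zero])
      have hψρ : ∀ c : F, φ ≠ c • (ψ + ρ) := fun c e => by
        rcases eq_or_ne c 0 with rfl | hc
        · exact hφ0 (by rw [e, zero_smul])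
        have h5 := congrArg (fun z => z ⬝ᵥ x₁) hk
        simp only [smul_dotProduct, smul_eq_mul] at h5
        have h6 := congrArg (fun z => z ⬝ᵥ x₁) e
        simp only [smul_dotProduct, smul_eq_mul, add_dotProduct, hρ1, add_zero] at h6
        have hkc : k = c := mul_right_cancel₀ (fun e0 => hx₁0 (by rw [h5, e0, mul_zero])) (h5.symm.trans h6)
        rw [hk, hkc, smul_add, left_eq_add, smul_eq_zero] at e
        exact hρ0 (e.resolve_left hc)
      have h7 := (h4 (ψ + ρ) (hψ.add hρ) (by rw [add_dotProduct, hψv, hρv, add_zero]) hψρ).add_right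
        ((h4 ρ hρ hρv hne').neg (by rw [smul_dotProduct, hρv, smul_zero]))
        (by rw [smul_dotProduct, add_dotProduct, hψv, hρv, add_zero, smul_zero])
      rwa [smul_add, add_neg_cancel_right] at h7
    -- move the centre
    have hv_all := hfun v φ hv hφ hφ0 hφv h
    intro u ρ hu hρ hρu
    rcases eq_or_ne u 0 with rfl | hu0
    · exact InT.zero_left _
    rcases eq_or_ne ρ 0 with rfl | hρ0
    · rw [smul_zero]; exact InT.zero_right _
    have hcase : ∀ w, Rat F₀ P w → (∀ k : F, v ≠ k • w) → w ≠ 0 →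
        ∀ φ', RatF F₀ P φ' → φ' ⬝ᵥ w = 0 → InT M w (a • φ') := fun w hw hvw hw0 => by
      obtain ⟨ψ₁, hψ₁, hψ₁w, hψ₁v⟩ := exists_ratF_sep hw hw0 hvw
      set ψ₂ := (ψ₁ ⬝ᵥ v)⁻¹ • ψ₁
      have hψ₂ : RatF F₀ P ψ₂ := hψ₁.smul (inv_mem (hψ₁.dot hv))
      obtain ⟨φ₁, hφ₁, hφ₁0, hl⟩ := exists_ratF_zero ![v, w] (by intro i; fin_cases i; exacts [hv, hw])
        (by rw [Fintype.card_fin]; omega)
      have h8 := hshift v (a • φ₁) w ψ₂ (hv_all φ₁ hφ₁ (hl 0)) hw hψ₂
        (by rw [smul_dotProduct, hψ₁w, smul_zero])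
      rw [smul_dotProduct (ψ₁ ⬝ᵥ v)⁻¹, smul_eq_mul, inv_mul_cancel₀ hψ₁v, one_smul, smul_dotProduct a,
        show φ₁ ⬝ᵥ w = 0 from hl 1, smul_zero, zero_smul, sub_zero] at h8
      have h9 := ((hv_all φ₁ hφ₁ (hl 0)).neg (by rw [smul_dotProduct, show φ₁ ⬝ᵥ v = 0 from hl 0, smul_zero]))
      obtain ⟨T, hT, hTx⟩ := h9
      have h10 : InT M (-v) (a • φ₁) := ⟨T, hT, fun x => by rw [hTx, neg_dotProduct, neg_smul, smul_neg]⟩
      have h11 := h8.add_left h10 (by
        rw [smul_dotProduct, dotProduct_neg, show φ₁ ⬝ᵥ v = 0 from hl 0, neg_zero, smul_zero])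
      rw [show v + w + -v = w by abel] at h11
      exact hfun w φ₁ hw hφ₁ hφ₁0 (hl 1) h11
    by_cases hvu : ∀ k : F, v ≠ k • u
    · exact hcase u hu hvu hu0 ρ hρ hρu
    push Not at hvu
    obtain ⟨k, hk⟩ := hvu
    -- `u` is proportional to `v`
    obtain ⟨σ₁, hσ₁, hσ₁0, hσ₁u⟩ : ∃ φ', RatF F₀ P φ' ∧ φ' ≠ 0 ∧ φ' ⬝ᵥ u ≠ 0 := by
      by_contra hc
      push Not at hc
      refine hu0 (gl_mulVec_injective P⁻¹ (funext fun i => ?_))
      show (((P⁻¹ : GL ι F) : Mn) *ᵥ u) i = (((P⁻¹ : GL ι F) : Mn) *ᵥ 0) i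
      rw [Matrix.mulVec_zero, ← row_dot]
      exact hc _ (ratF_row i) fun e => by
        have := congrArg (fun z => z ⬝ᵥ ((P : Mn) *ᵥ Pi.single i 1)) e
        simp only [row_dot, inv_mulVec_cancel, Pi.single_eq_same, zero_dotProduct] at this
        exact one_ne_zero this
    obtain ⟨z, hz, hz0, hzl⟩ := exists_rat_zero ![ρ, σ₁] (by intro i; fin_cases i; exacts [hρ, hσ₁])
      (by rw [Fintype.card_fin]; omega)
    have hzσ : σ₁ ⬝ᵥ z = 0 := hzl 1
    have hzρ : ρ ⬝ᵥ z = 0 := hzl 0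
    have hk0 : k ≠ 0 := fun e => hv0 (by rw [hk, e, zero_smul])
    have hσv : σ₁ ⬝ᵥ v ≠ 0 := by rw [hk, dotProduct_smul]; exact mul_ne_zero hk0 hσ₁u
    have i1 : ∀ c : F, v ≠ c • (-z) := fun c e => hσv (by
      rw [e, dotProduct_smul, dotProduct_neg, hzσ, neg_zero, smul_zero])
    have i2 : ∀ c : F, v ≠ c • (u + z) := fun c e => by
      have h12 := congrArg (fun y => σ₁ ⬝ᵥ y) e
      rw [hk] at h12
      simp only [dotProduct_smul, dotProduct_add, hzσ, add_zero, smul_eq_mul] at h12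
      have hkc := mul_right_cancel₀ hσ₁u h12
      rw [hk, hkc, smul_add, left_eq_add, smul_eq_zero] at e
      exact e.elim (fun e0 => hk0 (by rw [hkc, e0])) hz0
    have huz : u + z ≠ 0 := fun e => hσ₁u (by
      rw [eq_neg_of_add_eq_zero_left e, dotProduct_neg, hzσ, neg_zero])
    have h13 := (hcase (u + z) (hu.add hz) i2 huz ρ hρ (by rw [dotProduct_add, hρu, hzρ, add_zero])).add_left
      (hcase (-z) (by rw [← zero_sub]; exact Rat.zero.sub hz) i1 (neg_ne_zero.2 hz0) ρ hρ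
        (by rw [dotProduct_neg, hzρ, neg_zero]))
      (by rw [smul_dotProduct, dotProduct_neg, hzρ, neg_zero, smul_zero])
    rwa [show u + z + -z = u by abel] at h13
  -- a point off the rational lines with a rational functional through it
  have hkey : ∀ v η r : V, InT M v η → η ⬝ᵥ v = 0 → η ≠ 0 → ¬ RatLine F₀ P v → RatF F₀ P r → r ≠ 0 →
      r ⬝ᵥ v = 0 → ∃ a, a ∉ F₀ ∧ A a := by
    intro v η r h hηv hη0 hnl hr hr0 hrv
    obtain ⟨c, hc0, hc⟩ : ∃ c : F, c ≠ 0 ∧ InT M v (c • r) := by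
      by_cases hk : ∃ k : F, η = k • r
      · obtain ⟨k, rfl⟩ := hk
        exact ⟨k, (smul_ne_zero_iff.1 hη0).1, h⟩
      push Not at hk
      obtain ⟨s, hs, hrs, hηs⟩ := exists_rat_sep hr hr0 hk
      have h1 := hshift v η s r h hs hr hrs
      rw [hrv, zero_smul, add_zero] at h1
      have h2 := (h1.neg (by rw [sub_dotProduct, smul_dotProduct, hηv, hrv, smul_zero, sub_zero])).add_right h
        (by rw [neg_dotProduct, sub_dotProduct, smul_dotProduct, hηv, hrv, smul_zero, sub_zero, neg_zero])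
      refine ⟨η ⬝ᵥ s, hηs, ?_⟩
      convert h2 using 1
      abel
    obtain ⟨j, hj⟩ : ∃ j, (r ᵥ* (P : Mn)) j ≠ 0 := by
      by_contra hcon
      push Not at hcon
      refine hr0 ?_
      rw [show r = (r ᵥ* (P : Mn)) ᵥ* ((P⁻¹ : GL ι F) : Mn) by
        rw [Matrix.vecMul_vecMul, ← Units.val_mul, mul_inv_cancel, Units.val_one, Matrix.vecMul_one],
        show r ᵥ* (P : Mn) = 0 from funext hcon, Matrix.zero_vecMul]
    -- the product coefficient
    have hprod : ∀ ρ, RatF F₀ P ρ → ρ ⬝ᵥ v ≠ 0 → A (c * (ρ ⬝ᵥ v)) := by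
      intro ρ hρ hρv
      obtain ⟨u, hu, hu0, hul⟩ := exists_rat_zero ![r, ρ] (by intro i; fin_cases i; exacts [hr, hρ])
        (by rw [Fintype.card_fin]; omega)
      have h1 := hshift v (c • r) u ρ hc hu hρ (hul 1)
      rw [smul_dotProduct c, show r ⬝ᵥ u = 0 from hul 0, smul_zero, zero_smul, sub_zero] at h1
      obtain ⟨T, hT, hTx⟩ := hc.neg (by rw [smul_dotProduct, hrv, smul_zero])
      have h2 : InT M (-v) (c • r) := ⟨T, hT, fun x => by rw [hTx, neg_dotProduct, neg_smul, smul_neg]⟩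
      have h3 := h1.add_left h2 (by rw [smul_dotProduct, dotProduct_neg, hrv, neg_zero, smul_zero])
      rw [show v + (ρ ⬝ᵥ v) • u + -v = (ρ ⬝ᵥ v) • u by abel] at h3
      have h4 := h3.smul_left (ρ ⬝ᵥ v)⁻¹ (inv_ne_zero hρv)
      rw [smul_smul, inv_mul_cancel₀ hρv, one_smul, inv_inv, smul_smul, mul_comm] at h4
      exact hAofone _ u r hu hu0 hr hr0 (hul 0) h4
    by_contra hcon
    push Not at hcon
    refine hnl ⟨c⁻¹, c • v, fun i => ?_, by rw [smul_smul, inv_mul_cancel₀ hc0, one_smul]⟩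
    rw [Matrix.mulVec_smul, Pi.smul_apply, smul_eq_mul, ← row_dot]
    by_cases h0 : (Pi.single i 1 ᵥ* ((P⁻¹ : GL ι F) : Mn)) ⬝ᵥ v = 0
    · rw [h0, mul_zero]; exact zero_mem _
    · by_contra hni
      exact hcon _ hni (hprod _ (ratF_row i) h0)
  -- and its dual
  have hkey' : ∀ v η u : V, InT M v η → η ⬝ᵥ v = 0 → v ≠ 0 → ¬ RatFLine F₀ P η → Rat F₀ P u → u ≠ 0 →
      η ⬝ᵥ u = 0 → ∃ a, a ∉ F₀ ∧ A a := by
    intro v η u h hηv hv0 hnl hu hu0 hηu
    obtain ⟨c, hc0, hc⟩ : ∃ c : F, c ≠ 0 ∧ InT M (c • u) η := by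
      by_cases hk : ∃ k : F, v = k • u
      · obtain ⟨k, rfl⟩ := hk
        exact ⟨k, (smul_ne_zero_iff.1 hv0).1, h⟩
      push Not at hk
      obtain ⟨σ₁, hσ, hσu, hσv⟩ := exists_ratF_sep hu hu0 hk
      have h1 := hshift v η u σ₁ h hu hσ hσu
      rw [hηu, zero_smul, sub_zero] at h1
      obtain ⟨T, hT, hTx⟩ := h.neg hηv
      have h2 : InT M (-v) η := ⟨T, hT, fun x => by rw [hTx, neg_dotProduct, neg_smul, smul_neg]⟩
      have h3 := h1.add_left h2 (by rw [dotProduct_neg, hηv, neg_zero])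
      exact ⟨σ₁ ⬝ᵥ v, hσv, by rwa [show v + (σ₁ ⬝ᵥ v) • u + -v = (σ₁ ⬝ᵥ v) • u by abel] at h3⟩
    have hprod : ∀ s, Rat F₀ P s → η ⬝ᵥ s ≠ 0 → A (c * (η ⬝ᵥ s)) := by
      intro s hs hηs
      obtain ⟨ρ, hρ, hρ0, hρl⟩ := exists_ratF_zero ![u, s] (by intro i; fin_cases i; exacts [hu, hs])
        (by rw [Fintype.card_fin]; omega)
      have hρu : ρ ⬝ᵥ (c • u) = 0 := by rw [dotProduct_smul, show ρ ⬝ᵥ u = 0 from hρl 0, smul_zero]
      have hηcu : η ⬝ᵥ (c • u) = 0 := by rw [dotProduct_smul, hηu, smul_zero]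
      have h1 := hshift (c • u) η s ρ hc hs hρ (hρl 1)
      rw [hρu, zero_smul, add_zero] at h1
      have h2 := (h1.neg (by rw [sub_dotProduct, smul_dotProduct, hηcu, hρu, smul_zero, sub_zero])).add_right hc
        (by rw [neg_dotProduct, sub_dotProduct, smul_dotProduct, hηcu, hρu, smul_zero, sub_zero, neg_zero])
      rw [show -(η - (η ⬝ᵥ s) • ρ) + η = (η ⬝ᵥ s) • ρ by abel] at h2
      have h3 := h2.smul_left c⁻¹ (inv_ne_zero hc0)
      rw [smul_smul, inv_mul_cancel₀ hc0, one_smul, inv_inv, smul_smul] at h3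
      exact hAofone _ u ρ hu hu0 hρ hρ0 (hρl 0) h3
    by_contra hcon
    push Not at hcon
    refine hnl ⟨c⁻¹, c • η, fun i => ?_, by rw [smul_smul, inv_mul_cancel₀ hc0, one_smul]⟩
    rw [Matrix.smul_vecMul, Pi.smul_apply, smul_eq_mul,
      show (η ᵥ* (P : Mn)) i = η ⬝ᵥ ((P : Mn) *ᵥ Pi.single i 1) by
        rw [Matrix.dotProduct_mulVec, dotProduct_single, mul_one]]
    by_cases h0 : η ⬝ᵥ ((P : Mn) *ᵥ Pi.single i 1) = 0
    · rw [h0, mul_zero]; exact zero_mem _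
    · by_contra hni
      exact hcon _ hni (hprod _ (rat_single i) h0)
  -- intertwiners give such a point
  have hinter : ∀ m' t₁ t₂ : GL ι F, m' ∈ M → m' ∉ Geo.subfieldSubgroup F₀ P → RatMap F₀ P t₁ →
      RatMap F₀ P t₂ → t₂ ≠ 1 → m' * t₁ = t₂ * m' → fixSp t₁ ≠ ⊥ → ∃ a, a ∉ F₀ ∧ A a := by
    intro m' t₁ t₂ hm' hm'H ht₁ ht₂ ht₂1 hcomm hfix
    obtain ⟨x, hx, hxl⟩ : ∃ x, Rat F₀ P x ∧ ¬ RatLine F₀ P ((m' : Mn) *ᵥ x) := by
      by_contra hc
      push Not at hc
      have : Nonempty ι := ⟨i₀⟩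
      obtain ⟨a, ha, h⟩ := exists_scalar_of_lines hc
      exact hm'H (mem_subfieldSubgroup_of ha h)
    obtain ⟨y, hy, hy0⟩ := Submodule.exists_mem_ne_zero_of_ne_bot hfix
    obtain ⟨w, hw, hw0, hwt⟩ := exists_rational_fixed ht₁ hy0 (mem_fixSp.1 hy)
    have himg : ∀ u φ : V, Rat F₀ P u → RatF F₀ P φ → φ ⬝ᵥ u = 0 →
        InT M ((m' : Mn) *ᵥ u) (φ ᵥ* ((m'⁻¹ : GL ι F) : Mn)) := fun u φ hu hφ h => (hrtv u φ hu hφ h).conj hm'
    have hφne : ∀ φ : V, φ ≠ 0 → φ ᵥ* ((m'⁻¹ : GL ι F) : Mn) ≠ 0 := fun φ h e => h (by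
      have := congrArg (fun z => z ᵥ* (m' : Mn)) e
      simpa [Matrix.vecMul_vecMul, ← Units.val_mul] using this)
    have hune : ∀ u : V, u ≠ 0 → (m' : Mn) *ᵥ u ≠ 0 := fun u h e => h
      (gl_mulVec_injective m' (show (m' : Mn) *ᵥ u = (m' : Mn) *ᵥ 0 by rw [e, Matrix.mulVec_zero]))
    by_cases hgw : RatLine F₀ P ((m' : Mn) *ᵥ w)
    · obtain ⟨k, w₀, hw₀, hkw⟩ := hgw
      have hkw0 : k ≠ 0 ∧ w₀ ≠ 0 := smul_ne_zero_iff.1 (hkw ▸ hune w hw0)
      obtain ⟨φ, hφ, hφ0, hφl⟩ := exists_ratF_zero ![w, x] (by intro i; fin_cases i; exacts [hw, hx])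
        (by rw [Fintype.card_fin]; omega)
      have hφw : φ ⬝ᵥ w = 0 := hφl 0
      have hφx : φ ⬝ᵥ x = 0 := hφl 1
      have hx0 : x ≠ 0 := fun e => hxl ⟨0, 0, Rat.zero, by rw [e, Matrix.mulVec_zero, zero_smul]⟩
      by_cases hφg : RatFLine F₀ P (φ ᵥ* ((m'⁻¹ : GL ι F) : Mn))
      · obtain ⟨k', r, hr, hk'r⟩ := hφg
        have hk'r0 : k' ≠ 0 ∧ r ≠ 0 := smul_ne_zero_iff.1 (hk'r ▸ hφne φ hφ0)
        refine hkey _ _ r (himg x φ hx hφ hφx) (by rw [vecMul_inv_dot, hφx]) (hφne φ hφ0) hxl hr hk'r0.2 ?_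
        have h1 := vecMul_inv_dot m' φ x
        rw [hk'r, smul_dotProduct, hφx, smul_eq_mul] at h1
        exact (mul_eq_zero.1 h1).resolve_left hk'r0.1
      · refine hkey' _ _ w₀ (himg x φ hx hφ hφx) (by rw [vecMul_inv_dot, hφx]) (hune x hx0) hφg hw₀ hkw0.2 ?_
        have h1 := vecMul_inv_dot m' φ w
        rw [hkw, dotProduct_smul, hφw, smul_eq_mul] at h1
        exact (mul_eq_zero.1 h1).resolve_left hkw0.1
    · obtain ⟨i, j, hij⟩ : ∃ i j, (((P⁻¹ : GL ι F) : Mn) *ᵥ ((t₂ : Mn) *ᵥ ((P : Mn) *ᵥ Pi.single j 1) -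
          (P : Mn) *ᵥ Pi.single j 1)) i ≠ 0 := by
        by_contra hc
        push Not at hc
        refine ht₂1 (Units.ext (Matrix.ext_iff_mulVec.2 fun y => ?_))
        rw [Units.val_one, Matrix.one_mulVec]
        have h1 : ∀ j, (t₂ : Mn) *ᵥ ((P : Mn) *ᵥ Pi.single j 1) = (P : Mn) *ᵥ Pi.single j 1 := fun j => by
          refine sub_eq_zero.1 (gl_mulVec_injective P⁻¹ (funext fun i => ?_))
          show (((P⁻¹ : GL ι F) : Mn) *ᵥ _) i = (((P⁻¹ : GL ι F) : Mn) *ᵥ 0) i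
          rw [Matrix.mulVec_zero]; exact hc i j
        conv_lhs => rw [eq_sum_rat P y, Matrix.mulVec_sum]
        conv_rhs => rw [eq_sum_rat P y]
        simp only [Matrix.mulVec_smul, h1]
      set r := (Pi.single i 1 ᵥ* ((P⁻¹ : GL ι F) : Mn)) ᵥ* ((t₂ : Mn) - 1) with hrdef
      have hrdot : ∀ z, r ⬝ᵥ z = (((P⁻¹ : GL ι F) : Mn) *ᵥ ((t₂ : Mn) *ᵥ z - z)) i := fun z => by
        rw [hrdef, ← Matrix.dotProduct_mulVec, row_dot, Matrix.sub_mulVec, Matrix.one_mulVec]
      have hr : RatF F₀ P r := fun l => by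
        rw [show (r ᵥ* (P : Mn)) l = r ⬝ᵥ ((P : Mn) *ᵥ Pi.single l 1) by
          rw [Matrix.dotProduct_mulVec, dotProduct_single, mul_one], hrdot]
        exact ((ht₂ _ (rat_single l)).sub (rat_single l)) i
      obtain ⟨φ, hφ, hφ0, hφl⟩ := exists_ratF_zero ![w] (by intro l; fin_cases l; exact hw)
        (by rw [Fintype.card_fin]; omega)
      refine hkey _ _ r (himg w φ hw hφ (hφl 0)) (by rw [vecMul_inv_dot]; exact hφl 0) (hφne φ hφ0) hgw hr
        (fun e => hij (by rw [← hrdot, e, zero_dotProduct])) ?_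
      have h2 : (t₂ : Mn) *ᵥ ((m' : Mn) *ᵥ w) = (m' : Mn) *ᵥ w := by
        rw [Matrix.mulVec_mulVec, ← Units.val_mul, ← hcomm, Units.val_mul, ← Matrix.mulVec_mulVec, hwt]
      rw [hrdot, h2, sub_self, Matrix.mulVec_zero]; rfl
  -- two rational involutions
  obtain ⟨t, t', htR, ht'R, htM, ht'M, htt, ht't', ht1, ht'1, hft, hft', hnest, hlt⟩ :
      ∃ t t' : GL ι F, RatMap F₀ P t ∧ RatMap F₀ P t' ∧ t ∈ M ∧ t' ∈ M ∧ t * t = 1 ∧ t' * t' = 1 ∧ t ≠ 1 ∧
        t' ≠ 1 ∧ Fintype.card ι ≤ finrank F (fixSp t) + 2 ∧ Fintype.card ι ≤ finrank F (fixSp t') + 4 ∧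
        fixSp t' ≤ fixSp t ∧ finrank F (fixSp t') < finrank F (fixSp t) := by
    obtain ⟨κ⟩ : Nonempty (Fin 4 ↪ ι) := Function.Embedding.nonempty_of_card_le (by rw [Fintype.card_fin]; omega)
    -- conjugates of coordinate matrices
    have hconj : ∀ B₀ : Mn, B₀ * B₀ = 1 → B₀.det = 1 → (∀ i j, B₀ i j ∈ F₀) →
        ∃ T : GL ι F, RatMap F₀ P T ∧ T ∈ M ∧ T * T = 1 ∧ (B₀ ≠ 1 → T ≠ 1) ∧
          (finrank F (fixSp T) = finrank F (LinearMap.ker (Matrix.toLin' (B₀ - 1))) ∧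
            ∀ x, x ∈ fixSp T ↔ ((P⁻¹ : GL ι F) : Mn) *ᵥ x ∈ LinearMap.ker (Matrix.toLin' (B₀ - 1))) := by
      intro B₀ hB hdet hent
      let b : GL ι F := ⟨B₀, B₀, hB, hB⟩
      have hR : RatMap F₀ P (P * b * P⁻¹) := fun x hx i => by
        rw [Units.val_mul, Units.val_mul, ← Matrix.mulVec_mulVec, ← Matrix.mulVec_mulVec, inv_mulVec_cancel]
        exact sum_mem fun j _ => mul_mem (hent i j) (hx j)
      refine ⟨P * b * P⁻¹, hR, hmem _ (MonoidHom.mem_ker.2 ?_) hR, ?_, fun hne e => hne ?_, finrank_fixSp_conj P b, fun x => ?_⟩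
      · rw [map_mul, map_mul, map_inv, mul_right_comm, mul_inv_cancel, one_mul]
        exact Units.ext hdet
      · rw [show P * b * P⁻¹ * (P * b * P⁻¹) = P * (b * b) * P⁻¹ by group,
          show b * b = 1 from Units.ext hB, mul_one, mul_inv_cancel]
      · have : b = 1 := by
          rw [show b = P⁻¹ * (P * b * P⁻¹) * P by group, e, mul_one, inv_mul_cancel]
        exact congrArg Units.val this
      · show x ∈ fixSp (P * b * P⁻¹) ↔ ((P⁻¹ : GL ι F) : Mn) *ᵥ x ∈ fixSp b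
        simp only [mem_fixSp, Units.val_mul, ← Matrix.mulVec_mulVec]
        exact ⟨fun h => gl_mulVec_injective P (h.trans (mulVec_inv_cancel P x).symm),
          fun h => by rw [h, mulVec_inv_cancel]⟩
    by_cases h2 : (2 : F) = 0
    · have hneg : ∀ a : F, a + a = 0 := fun a => by linear_combination a * h2
      have hT : ∀ i j : ι, i ≠ j → Matrix.transvection i j (1 : F) * Matrix.transvection i j (1 : F) = (1 : Mn) := fun i j h => by
        rw [Matrix.transvection_mul_transvection_same i j h (1 : F) 1, hneg]; simp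
      have ne01 : κ 0 ≠ κ 1 := κ.injective.ne (by decide)
      have ne23 : κ 2 ≠ κ 3 := κ.injective.ne (by decide)
      have ne03 : κ 0 ≠ κ 3 := κ.injective.ne (by decide)
      have ne12 : κ 1 ≠ κ 2 := κ.injective.ne (by decide)
      have ne02 : κ 0 ≠ κ 2 := κ.injective.ne (by decide)
      set A₁ : Mn := Matrix.transvection (κ 0) (κ 1) 1 with hA₁
      set A₂ : Mn := Matrix.transvection (κ 0) (κ 1) 1 * Matrix.transvection (κ 2) (κ 3) 1 with hA₂
      have hA₂e : A₂ = 1 + Matrix.single (κ 0) (κ 1) 1 + Matrix.single (κ 2) (κ 3) 1 := by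
        rw [hA₂, Matrix.transvection, Matrix.transvection, add_mul, one_mul, mul_add, mul_one,
          Matrix.single_mul_single_of_ne (1 : F) (κ 0) (κ 1) (κ 2) ne12]
        abel
      have hent : ∀ i j, A₁ i j ∈ F₀ ∧ A₂ i j ∈ F₀ := fun i j => by
        rw [hA₂e, hA₁, Matrix.transvection]
        simp only [Matrix.add_apply, Matrix.one_apply, Matrix.single_apply]
        refine ⟨add_mem ?_ ?_, add_mem (add_mem ?_ ?_) ?_⟩ <;> split_ifs <;>
          first | exact one_mem _ | exact zero_mem _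
      have hcomm : Matrix.transvection (κ 0) (κ 1) (1 : F) * Matrix.transvection (κ 2) (κ 3) 1 =
          Matrix.transvection (κ 2) (κ 3) 1 * Matrix.transvection (κ 0) (κ 1) 1 := by
        simp only [Matrix.transvection, add_mul, one_mul, mul_add, mul_one,
          Matrix.single_mul_single_of_ne (1 : F) (κ 0) (κ 1) (κ 2) ne12,
          Matrix.single_mul_single_of_ne (1 : F) (κ 2) (κ 3) (κ 0) ne03.symm]
        abel
      obtain ⟨t, htR, htM, htt, ht1, htf, htm⟩ := hconj A₁ (hT _ _ ne01) (Matrix.det_transvection_of_ne _ _ ne01 1)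
        fun i j => (hent i j).1
      obtain ⟨t', ht'R, ht'M, ht't', ht'1, ht'f, ht'm⟩ := hconj A₂
        (by rw [hA₂, mul_assoc, ← mul_assoc (Matrix.transvection (κ 2) (κ 3) 1), ← hcomm, mul_assoc (Matrix.transvection (κ 0) (κ 1) 1),
              hT _ _ ne23, mul_one, hT _ _ ne01])
        (by rw [hA₂, Matrix.det_mul, Matrix.det_transvection_of_ne _ _ ne01, Matrix.det_transvection_of_ne _ _ ne23,
              mul_one]) fun i j => (hent i j).2
      have hk1 : ∀ y : V, y ∈ LinearMap.ker (Matrix.toLin' (A₁ - 1)) ↔ y (κ 1) = 0 := fun y => by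
        rw [LinearMap.mem_ker, Matrix.toLin'_apply, hA₁, Matrix.transvection, add_sub_cancel_left,
          Matrix.single_mulVec_eq, one_mul, smul_eq_zero, Pi.single_eq_zero_iff]
        simp
      have hk2 : ∀ y : V, y ∈ LinearMap.ker (Matrix.toLin' (A₂ - 1)) ↔ y (κ 1) = 0 ∧ y (κ 3) = 0 := fun y => by
        rw [LinearMap.mem_ker, Matrix.toLin'_apply, hA₂e, add_assoc, add_sub_cancel_left, Matrix.add_mulVec,
          Matrix.single_mulVec_eq, Matrix.single_mulVec_eq, one_mul, one_mul]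
        refine ⟨fun h => ⟨?_, ?_⟩, fun h => by rw [h.1, h.2]; simp⟩
        · simpa [Pi.single_eq_of_ne ne02] using congrFun h (κ 0)
        · simpa [Pi.single_eq_of_ne ne02.symm] using congrFun h (κ 2)
      have ne13 : κ 1 ≠ κ 3 := κ.injective.ne (by decide)
      let pr : ι → (V →ₗ[F] F) := fun i => LinearMap.proj i
      refine ⟨t, t', htR, ht'R, htM, ht'M, htt, ht't', ht1 fun e => ?_, ht'1 fun e => ?_, ?_, ?_, fun y hy => (htm y).2 ((hk1 _).2 ((hk2 _).1 ((ht'm y).1 hy)).1), ?_⟩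
      · simpa [hA₁, Matrix.transvection, ne01] using congrFun (congrFun e (κ 0)) (κ 1)
      · simpa [hA₂e, ne01, ne23, ne02, ne13, ne02.symm] using congrFun (congrFun e (κ 0)) (κ 1)
      · rw [htf]
        have h1 := card_le_finrank_ker_add_one (pr (κ 1))
        have h2' := Submodule.finrank_mono
          (show LinearMap.ker (pr (κ 1)) ≤ LinearMap.ker (Matrix.toLin' (A₁ - 1)) from fun y hy => (hk1 y).2 hy)
        omega
      · rw [ht'f]
        have h1 := card_le_finrank_ker_add_one (pr (κ 1))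
        have h3 := finrank_le_inf_ker_add_one (LinearMap.ker (pr (κ 1))) (pr (κ 3))
        have h2' := Submodule.finrank_mono
          (show LinearMap.ker (pr (κ 1)) ⊓ LinearMap.ker (pr (κ 3)) ≤ LinearMap.ker (Matrix.toLin' (A₂ - 1)) from
            fun y hy => (hk2 y).2 ⟨hy.1, hy.2⟩)
        omega
      · rw [htf, ht'f]
        refine Submodule.finrank_lt_finrank_of_lt (SetLike.lt_iff_le_and_exists.2 ⟨fun y hy => (hk1 y).2 ((hk2 y).1 hy).1,
          Pi.single (κ 3) 1, (hk1 _).2 (Pi.single_eq_of_ne ne13 _), fun h => ?_⟩)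
        have h' := ((hk2 _).1 h).2
        rw [Pi.single_eq_same] at h'
        exact one_ne_zero h'
    · -- diagonal involutions
      let d : Finset ι → Mn := fun S => Matrix.diagonal fun i => if i ∈ S then -1 else 1
      have hd : ∀ S : Finset ι, Even S.card →
          ∃ T : GL ι F, RatMap F₀ P T ∧ T ∈ M ∧ T * T = 1 ∧ (d S ≠ 1 → T ≠ 1) ∧
            (finrank F (fixSp T) = finrank F (LinearMap.ker (Matrix.toLin' (d S - 1))) ∧
              ∀ x, x ∈ fixSp T ↔ ((P⁻¹ : GL ι F) : Mn) *ᵥ x ∈ LinearMap.ker (Matrix.toLin' (d S - 1))) := fun S hS =>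
        hconj (d S) (by
          rw [Matrix.diagonal_mul_diagonal, ← Matrix.diagonal_one]
          refine congrArg _ (funext fun i => ?_); split_ifs <;> ring)
          (by
            rw [Matrix.det_diagonal, Finset.prod_ite, Finset.prod_const_one, mul_one, Finset.prod_const,
              Finset.filter_mem_eq_inter, Finset.univ_inter, hS.neg_one_pow])
          fun i j => by
            simp only [d, Matrix.diagonal_apply]
            split_ifs <;> first | exact one_mem _ | exact zero_mem _ | exact neg_mem (one_mem _)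
      have hk : ∀ (S : Finset ι) (y : V), y ∈ LinearMap.ker (Matrix.toLin' (d S - 1)) ↔ ∀ i ∈ S, y i = 0 :=
        fun S y => by
        rw [LinearMap.mem_ker, Matrix.toLin'_apply, Matrix.sub_mulVec, Matrix.one_mulVec, sub_eq_zero]
        constructor
        · intro h i hi
          have := congrFun h i
          rw [Matrix.mulVec_diagonal, if_pos hi] at this
          exact (mul_eq_zero.1 (show (2 : F) * y i = 0 by linear_combination -this)).resolve_left h2
        · intro h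
          funext i
          rw [Matrix.mulVec_diagonal]
          split_ifs with hi
          · rw [h i hi, mul_zero]
          · rw [one_mul]
      have hdim : ∀ S : Finset ι, Fintype.card ι ≤ finrank F (LinearMap.ker (Matrix.toLin' (d S - 1))) + S.card :=
        fun S => by
        let pr : V →ₗ[F] (S → F) := LinearMap.pi fun i => LinearMap.proj (i : ι)
        have h1 := pr.finrank_range_add_finrank_ker
        have h2' : finrank F (LinearMap.range pr) ≤ S.card :=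
          (Submodule.finrank_le _).trans (by rw [Module.finrank_pi, Fintype.card_coe])
        have h3 := Submodule.finrank_mono
          (show LinearMap.ker pr ≤ LinearMap.ker (Matrix.toLin' (d S - 1)) from fun y hy =>
            (hk S y).2 fun i hi => congrFun (LinearMap.mem_ker.1 hy) ⟨i, hi⟩)
        rw [Module.finrank_pi] at h1
        omega
      set S₁ : Finset ι := ({0, 1} : Finset (Fin 4)).map κ with hS₁
      set S₂ : Finset ι := (Finset.univ : Finset (Fin 4)).map κ with hS₂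
      have c1 : S₁.card = 2 := by rw [hS₁, Finset.card_map]; decide
      have c2 : S₂.card = 4 := by rw [hS₂, Finset.card_map]; decide
      obtain ⟨t, htR, htM, htt, ht1, htf, htm⟩ := hd S₁ (by rw [c1]; decide)
      obtain ⟨t', ht'R, ht'M, ht't', ht'1, ht'f, ht'm⟩ := hd S₂ (by rw [c2]; decide)
      have hm1 : κ 0 ∈ S₁ := by rw [hS₁]; exact Finset.mem_map_of_mem _ (by decide)
      have hm2 : ∀ i, κ i ∈ S₂ := fun i => by rw [hS₂]; exact Finset.mem_map_of_mem _ (Finset.mem_univ _)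
      have hm3 : κ 3 ∉ S₁ := fun h => by
        rw [hS₁, Finset.mem_map' κ] at h
        revert h; decide
      refine ⟨t, t', htR, ht'R, htM, ht'M, htt, ht't', ht1 fun e => ?_, ht'1 fun e => ?_, ?_, ?_, fun y hy => (htm y).2 ((hk S₁ _).2 fun i hi => (hk S₂ _).1 ((ht'm y).1 hy) i (by
        rw [hS₁] at hi; obtain ⟨l, -, rfl⟩ := Finset.mem_map.1 hi; exact hm2 l)), ?_⟩
      · have := congrFun (congrFun e (κ 0)) (κ 0)
        simp only [d, Matrix.diagonal_apply_eq, if_pos hm1, Matrix.one_apply_eq] at this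
        exact h2 (by linear_combination -this)
      · have := congrFun (congrFun e (κ 0)) (κ 0)
        simp only [d, Matrix.diagonal_apply_eq, if_pos (hm2 0), Matrix.one_apply_eq] at this
        exact h2 (by linear_combination -this)
      · rw [htf]; have := hdim S₁; omega
      · rw [ht'f]; have := hdim S₂; omega
      · rw [htf, ht'f]
        refine Submodule.finrank_lt_finrank_of_lt (SetLike.lt_iff_le_and_exists.2 ⟨fun y hy => (hk S₁ y).2 ?_,
          Pi.single (κ 3) 1, (hk S₁ _).2 fun i hi => Pi.single_eq_of_ne (fun e : i = κ 3 => hm3 (by rwa [← e])) _,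
          fun h => ?_⟩)
        · intro i hi
          refine (hk S₂ y).1 hy i ?_
          rw [hS₁] at hi
          obtain ⟨l, -, rfl⟩ := Finset.mem_map.1 hi
          exact hm2 l
        · have h' := (hk S₂ _).1 h _ (hm2 3)
          rw [Pi.single_eq_same] at h'
          exact one_ne_zero h'
  set u := g * t * g⁻¹ with hu
  have huu : u * u = 1 := by rw [hu, conj_mul, htt, mul_one, mul_inv_cancel]
  have huM : u ∈ M := mul_mem (mul_mem hgM htM) (inv_mem hgM)
  have hnc : ∀ k : GL ι F, k * t' * k⁻¹ ≠ u := fun k e => by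
    have h1 := finrank_fixSp_conj k t'
    rw [e, hu, finrank_fixSp_conj] at h1
    omega
  obtain ⟨⟨k, hk⟩⟩ | ⟨z, hz, hzz, hz1, hzt', hzu⟩ := conj_or_central ht't' huu (fun e => hnc 1 (by simpa using e))
  · exact absurd hk (hnc k)
  have hzM : z ∈ M := (Subgroup.zpowers_le.2 (mul_mem ht'M huM)) hz
  set S := fixSp t' ⊓ fixSp u with hSdef
  have hSz : S ≤ fixSp z := inf_fixSp_le_of_mem_zpowers (a := t') (b := u) hz
  let φ : V →ₗ[F] F :=
    { toFun := fun x => η₁ ⬝ᵥ x, map_add' := dotProduct_add η₁, map_smul' := fun c x => dotProduct_smul c η₁ x }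
  have hle' : fixSp t' ⊓ LinearMap.ker φ ≤ S := fun x hx => by
    have hgx : (g : Mn) *ᵥ x = x := hgη x (LinearMap.mem_ker.1 hx.2)
    refine ⟨hx.1, mem_fixSp.2 ?_⟩
    have hgi : ((g⁻¹ : GL ι F) : Mn) *ᵥ x = x := by conv_lhs => rw [← hgx, inv_mulVec_cancel]
    rw [hu, Units.val_mul, Units.val_mul, ← Matrix.mulVec_mulVec, ← Matrix.mulVec_mulVec, hgi,
      mem_fixSp.1 (hnest hx.1), hgx]
  have hSdim : finrank F (fixSp t') ≤ finrank F S + 1 := by
    have h1 := finrank_le_inf_ker_add_one (fixSp t') φ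
    have h2 := Submodule.finrank_mono hle'
    omega
  have hSdim' : finrank F (fixSp t') ≤ finrank F ↥(S ⊓ LinearMap.ker φ) + 1 := by
    have h1 := finrank_le_inf_ker_add_one (fixSp t') φ
    have h2 := Submodule.finrank_mono (le_inf hle' inf_le_right :
      fixSp t' ⊓ LinearMap.ker φ ≤ S ⊓ LinearMap.ker φ)
    omega
  have hfz : finrank F S ≤ finrank F (fixSp z) := Submodule.finrank_mono hSz
  have hft2 : finrank F (fixSp t) ≤ Fintype.card ι := by
    have := Submodule.finrank_le (fixSp t); rwa [Module.finrank_pi] at this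
  have hdet : ∀ {s : GL ι F}, s ∈ M → (s : Mn).det = 1 := fun {s} hs =>
    congrArg Units.val (MonoidHom.mem_ker.1 (hMK hs))
  have hne_bot : ∀ {s : GL ι F}, 0 < finrank F (fixSp s) → fixSp s ≠ ⊥ := fun {s} hs e => by
    rw [e, finrank_bot] at hs; omega
  obtain ⟨a, han, ha⟩ : ∃ a, a ∉ F₀ ∧ A a := by
    have : Nonempty ι := ⟨i₀⟩
    by_cases h4 : Fintype.card ι = 4
    · -- dimension four: the element fixing a hyperplane is a transvection
      have hg1 : g ≠ 1 := fun e => hgns (e ▸ one_mem _)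
      obtain ⟨e, he⟩ : ∃ e, η₁ ⬝ᵥ e = 1 := by
        obtain ⟨e, he⟩ : ∃ e, η₁ ⬝ᵥ e ≠ 0 := by
          by_contra hc
          push Not at hc
          exact hg1 (Units.ext (Matrix.ext_iff_mulVec.2 fun y => by
            rw [Units.val_one, Matrix.one_mulVec]; exact hgη y (hc y)))
        exact ⟨(η₁ ⬝ᵥ e)⁻¹ • e, by rw [dotProduct_smul, smul_eq_mul, inv_mul_cancel₀ he]⟩
      obtain ⟨v, hv⟩ : ∃ v, v = (g : Mn) *ᵥ e - e := ⟨_, rfl⟩
      have hgx : ∀ y, (g : Mn) *ᵥ y = y + (η₁ ⬝ᵥ y) • v := fun y => by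
        have h1 := hgη (y - (η₁ ⬝ᵥ y) • e) (by rw [dotProduct_sub, dotProduct_smul, he, smul_eq_mul, mul_one, sub_self])
        rw [Matrix.mulVec_sub, Matrix.mulVec_smul, sub_eq_iff_eq_add] at h1
        rw [h1, hv]
        module
      have hηv : η₁ ⬝ᵥ v = 0 := by
        have e1 : (g : Mn) = 1 + vecMulVec v η₁ := Matrix.ext_iff_mulVec.2 fun y => by
          rw [hgx, Matrix.add_mulVec, Matrix.one_mulVec, Matrix.vecMulVec_mulVec]; simp
        have e2 := hdet hgM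
        rwa [e1, Matrix.vecMulVec_eq Unit, Matrix.det_one_add_replicateCol_mul_replicateRow, add_eq_left] at e2
      have hT : InT M v η₁ := ⟨g, hgM, hgx⟩
      have hη0 : η₁ ≠ 0 := fun e' => by rw [e', zero_dotProduct] at he; exact zero_ne_one he
      have hv0 : v ≠ 0 := fun e' => hg1 (Units.ext (Matrix.ext_iff_mulVec.2 fun y => by
        rw [Units.val_one, Matrix.one_mulVec, hgx, e', smul_zero, add_zero]))
      by_cases hvl : RatLine F₀ P v
      · obtain ⟨k, v₀, hv₀, rfl⟩ := hvl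
        obtain ⟨hk0, hv₀0⟩ := smul_ne_zero_iff.1 hv0
        rw [dotProduct_smul, smul_eq_mul, mul_eq_zero, or_iff_right hk0] at hηv
        by_cases hηl : RatFLine F₀ P η₁
        · obtain ⟨k', r, hr, rfl⟩ := hηl
          obtain ⟨hk'0, hr0⟩ := smul_ne_zero_iff.1 hη0
          rw [smul_dotProduct, smul_eq_mul, mul_eq_zero, or_iff_right hk'0] at hηv
          refine ⟨k * k', fun hmem' => hgns ?_, hAofone _ v₀ r hv₀ hv₀0 hr hr0 hηv ?_⟩
          · refine mem_subfieldSubgroup_of one_ne_zero fun y hy => ?_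
            rw [one_smul, hgx, smul_dotProduct, smul_smul, smul_eq_mul,
              show k' * r ⬝ᵥ y * k = k * k' * r ⬝ᵥ y by ring]
            exact hy.add (hv₀.smul (mul_mem hmem' (hr.dot hy)))
          · obtain ⟨T, hTM, hTx⟩ := hT
            exact ⟨T, hTM, fun x => by rw [hTx, smul_dotProduct, smul_dotProduct, smul_smul]; congr 1; simp only [smul_eq_mul]; ring⟩
        · exact hkey' _ _ v₀ hT (by rw [dotProduct_smul, hηv, smul_zero]) hv0 hηl hv₀ hv₀0 hηv
      by_cases hr : ∃ r, RatF F₀ P r ∧ r ≠ 0 ∧ r ⬝ᵥ v = 0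
      · obtain ⟨r, hr, hr0, hrv⟩ := hr
        exact hkey v η₁ r hT hηv hη0 hvl hr hr0 hrv
      push Not at hr
      obtain ⟨w, φ, hw, hw0, hwT, hφw, hφ⟩ := exists_irrational_axis (by omega) hn hcard hrtv hT hηv hη0
        fun r h1 h2 => by_contra fun h3 => hr r h1 h3 h2
      have hφ0 : φ ≠ 0 := fun e' => hφ (e' ▸ fun i => by simp [zero_mem])
      by_cases hφl : RatFLine F₀ P φ
      · obtain ⟨k, r, hr', rfl⟩ := hφl
        obtain ⟨hk0, hr0⟩ := smul_ne_zero_iff.1 hφ0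
        rw [smul_dotProduct, smul_eq_mul, mul_eq_zero, or_iff_right hk0] at hφw
        exact ⟨k, fun hmem' => hφ (hr'.smul hmem'), hAofone _ w r hw hw0 hr' hr0 hφw hwT⟩
      · exact hkey' w φ w hwT hφw hw0 hφl hw hw0 hφw
    by_cases hzH : z ∈ Geo.subfieldSubgroup F₀ P
    · set z' := g⁻¹ * z * g with hz'
      have hz'M : z' ∈ M := mul_mem (mul_mem (inv_mem hgM) hzM) hgM
      have hz't : z' * t = t * z' := by
        have e : z' * t = g⁻¹ * (z * u) * g := by rw [hz', hu]; group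
        rw [e, hzu, hz', hu]; group
      have hfz' : finrank F (fixSp z') = finrank F (fixSp z) := by
        have := finrank_fixSp_conj g⁻¹ z
        rwa [inv_inv] at this
      have hR : z ∈ Geo.subfieldSubgroup F₀ P → z * z = 1 → RatMap F₀ P z := fun h1 h2 =>
        ratMap_of_involution' hn hcard h1 h2 (if hc : Fintype.card ι % 4 = 2 then Or.inr ⟨hc, hdet hzM⟩
          else Or.inl ⟨t', S, ht'R, le_inf hSz inf_le_left, by omega⟩)
      have hR' : z' ∈ Geo.subfieldSubgroup F₀ P → z' * z' = 1 → RatMap F₀ P z' := fun h1 h2 => by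
        refine ratMap_of_involution' hn hcard h1 h2 (if hc : Fintype.card ι % 4 = 2 then Or.inr ⟨hc, hdet hz'M⟩
          else Or.inl ⟨t', S ⊓ LinearMap.ker φ, ht'R, ?_, by omega⟩)
        rintro x ⟨hxS, hxφ⟩
        have hgx : (g : Mn) *ᵥ x = x := hgη x (LinearMap.mem_ker.1 hxφ)
        have hgi : ((g⁻¹ : GL ι F) : Mn) *ᵥ x = x := by conv_lhs => rw [← hgx, inv_mulVec_cancel]
        refine ⟨mem_fixSp.2 ?_, hxS.1⟩
        simp only [hz', Units.val_mul, ← Matrix.mulVec_mulVec, hgx, mem_fixSp.1 (hSz hxS), hgi]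
      by_cases hz'H : z' ∈ Geo.subfieldSubgroup F₀ P
      · have hz'z : z' * z' = 1 := by
          calc z' * z' = g⁻¹ * (z * z) * g := by rw [hz']; group
            _ = 1 := by rw [hzz]; group
        exact hinter g z' z hgM hgns (hR' hz'H hz'z)
          (hR hzH hzz) hz1 (by rw [hz']; group)
          (hne_bot (by rw [hfz']; omega))
      · exact hinter z' t t hz'M hz'H htR htR ht1 hz't (hne_bot (by omega))
    · exact hinter z t' t' hzM hzH ht'R ht'R ht'1 hzt' (hne_bot (by omega))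
  have hA0 : ∀ b ∈ F₀, A b := fun b hb v φ hv hφ h =>
    hrtv v (b • φ) hv (hφ.smul hb) (by rw [smul_dotProduct, h, smul_zero])
  have hAadd : ∀ b c, A b → A c → A (b + c) := fun b c hb hc v φ hv hφ h => by
    rw [add_smul]; exact (hb v φ hv hφ h).add_right (hc v φ hv hφ h) (by rw [smul_dotProduct, h, smul_zero])
  have hAmul : ∀ b c, A b → A c → A (b * c) := by
    intro b c hb hc
    rcases eq_or_ne b 0 with rfl | hb0
    · rw [zero_mul]; exact hA0 0 (zero_mem _)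
    obtain ⟨i₂, hi₂⟩ : ∃ i₂, i₂ ∉ ({i₀, i₁} : Finset ι) := by
      by_contra hcon
      push Not at hcon
      have := (Finset.card_le_card (fun i _ => hcon i : (Finset.univ : Finset ι) ⊆ {i₀, i₁})).trans Finset.card_le_two
      rw [Finset.card_univ] at this
      omega
    simp only [Finset.mem_insert, Finset.mem_singleton, not_or] at hi₂
    set e₁ := (P : Mn) *ᵥ Pi.single i₁ 1
    set ψ := Pi.single i₀ 1 ᵥ* ((P⁻¹ : GL ι F) : Mn) with hψ
    set φ := Pi.single i₂ 1 ᵥ* ((P⁻¹ : GL ι F) : Mn) with hφ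
    have hψe : ψ ⬝ᵥ e₀ = 1 := by rw [row_dot, inv_mulVec_cancel]; simp
    have hψe1 : ψ ⬝ᵥ e₁ = 0 := by rw [row_dot, inv_mulVec_cancel]; simp [hi₁.symm]
    have hφe : φ ⬝ᵥ e₀ = 0 := by rw [row_dot, inv_mulVec_cancel]; simp [hi₂.1]
    have hφe1 : φ ⬝ᵥ e₁ = 0 := by rw [row_dot, inv_mulVec_cancel]; simp [hi₂.2]
    obtain ⟨T, hTM, hTx⟩ := hb e₁ ψ (rat_single _) (ratF_row _) hψe1
    have h1 := (hc e₀ φ he₀r (ratF_row _) hφe).conj hTM
    rw [hTx, smul_dotProduct b, hψe, smul_eq_mul, mul_one,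
      show (c • φ) ᵥ* ((T⁻¹ : GL ι F) : Mn) = c • φ from dotProduct_eq _ _ fun x => by
        rw [← Matrix.dotProduct_mulVec]
        have h2 := congrArg (fun z => (c • φ) ⬝ᵥ z) (hTx (((T⁻¹ : GL ι F) : Mn) *ᵥ x))
        simp only [mulVec_inv_cancel, dotProduct_add, dotProduct_smul, smul_dotProduct c φ e₁, hφe1, smul_zero,
          add_zero] at h2
        exact h2.symm] at h1
    obtain ⟨S, hS, hSx⟩ := (hc e₀ φ he₀r (ratF_row _) hφe).neg (by rw [smul_dotProduct, hφe, smul_zero])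
    have h3 : InT M (-e₀) (c • φ) := ⟨S, hS, fun x => by rw [hSx, neg_dotProduct, neg_smul, smul_neg]⟩
    have h4 := h1.add_left h3 (by rw [smul_dotProduct, dotProduct_neg, hφe, neg_zero, smul_zero])
    rw [show e₀ + b • e₁ + -e₀ = b • e₁ by abel] at h4
    have h5 := h4.smul_left b⁻¹ (inv_ne_zero hb0)
    rw [smul_smul, inv_mul_cancel₀ hb0, one_smul, inv_inv, smul_smul] at h5
    exact hAofone _ e₁ φ (rat_single _) (hrat_ne _) (ratF_row _) (fun e => by
      have := congrArg (fun z => z ⬝ᵥ ((P : Mn) *ᵥ Pi.single i₂ 1)) e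
      simp only [hφ, row_dot, inv_mulVec_cancel, Pi.single_eq_same, zero_dotProduct] at this
      exact one_ne_zero this) hφe1 h5
  have hall := coef_closure hn hcard A A hA0 hAadd hAadd (fun _ h => h) hAmul
    (fun b c hb hc => by rw [sq]; exact hAmul _ _ hb (hAmul _ _ hc hc)) ha han
  -- all transvections of the rational basis
  intro h hh
  have hle : (⊤ : Subgroup (Matrix.SpecialLinearGroup ι F)) ≤
      (M.comap (MulAut.conj P).toMonoidHom).comap Matrix.SpecialLinearGroup.toGL := by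
    rw [← SL_closure_transvections, Subgroup.closure_le]
    rintro _ ⟨⟨i, l, hil, c⟩, rfl⟩
    obtain ⟨T, hT, hTx⟩ := hall c ((P : Mn) *ᵥ Pi.single i 1) (Pi.single l 1 ᵥ* ((P⁻¹ : GL ι F) : Mn))
      (rat_single i) (ratF_row l) (by rw [row_dot, inv_mulVec_cancel]; simp [hil.symm])
    show P * Matrix.SpecialLinearGroup.toGL _ * P⁻¹ ∈ M
    convert hT using 1
    refine Units.ext (Matrix.ext_iff_mulVec.2 fun x => ?_)
    rw [Units.val_mul, Units.val_mul, ← Matrix.mulVec_mulVec, ← Matrix.mulVec_mulVec, hTx, smul_dotProduct,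
      row_dot]
    show (P : Mn) *ᵥ (Matrix.transvection i l c *ᵥ (((P⁻¹ : GL ι F) : Mn) *ᵥ x)) = _
    rw [Matrix.transvection, Matrix.add_mulVec, Matrix.one_mulVec, Matrix.mulVec_add, mulVec_inv_cancel,
      Matrix.single_mulVec_eq, ← Matrix.mulVec_smul]
    congr 2
  have hh' : P⁻¹ * h * P ∈ Geo.specialLinear ι F := by
    refine MonoidHom.mem_ker.2 ?_
    rw [map_mul, map_mul, map_inv, mul_right_comm, inv_mul_cancel, one_mul]
    exact MonoidHom.mem_ker.1 hh
  obtain ⟨u₁, hu₁⟩ : ∃ u₁ : Matrix.SpecialLinearGroup ι F, (u₁ : Mn) = ((P⁻¹ * h * P : GL ι F) : Mn) :=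
    ⟨⟨_, congrArg Units.val (MonoidHom.mem_ker.1 hh')⟩, rfl⟩
  have h1 : P * Matrix.SpecialLinearGroup.toGL u₁ * P⁻¹ ∈ M := hle (Subgroup.mem_top u₁)
  rw [show Matrix.SpecialLinearGroup.toGL u₁ = P⁻¹ * h * P from Units.ext hu₁] at h1
  rwa [show P * (P⁻¹ * h * P) * P⁻¹ = h by group] at h1

/-- Subfield subgroups are maximal in `SL`. -/
theorem linear_subfield_maximal_of [Fintype F] (hι : Fintype.card ι = 6 ∨ 8 ≤ Fintype.card ι) (F₀ : Subfield F) (n : ℕ)
    (hn : n.Prime) (hcard : Fintype.card F = Nat.card F₀ ^ n) (P : GL ι F) :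
    Geo.IsMaximalIn (Geo.specialLinear ι F) (Geo.subfieldSubgroup F₀ P ⊓ Geo.specialLinear ι F) :=
  linear_subfield_maximal_of' (Or.inr hι) F₀ n hn hcard P

/-- Subfield subgroups are maximal in `SL`, dimension at least ten. -/
theorem linear_subfield_maximal [Fintype F] (hι : 10 ≤ Fintype.card ι) (F₀ : Subfield F) (n : ℕ) (hn : n.Prime)
    (hcard : Fintype.card F = Nat.card F₀ ^ n) (P : GL ι F) :
    Geo.IsMaximalIn (Geo.specialLinear ι F) (Geo.subfieldSubgroup F₀ P ⊓ Geo.specialLinear ι F) :=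
  linear_subfield_maximal_of (Or.inr (by omega)) F₀ n hn hcard P

end Cfsg.Agent.Classical.MaxTv
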