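import Cfsg.Agent.Lib.Classical.MaxOverfieldTwo

/-!
The normalizer of an embedded field of prime degree is maximal in the general and special linear groups,
as soon as the space has dimension at least two over that field.
-/

set_option autoImplicit false
set_option linter.unusedSectionVars false

namespace Cfsg.Agent.Classical.Overfield

open Matrix Module MaxTv

variable {F : Type*} [Field F] {ι : Type} [Fintype ι] [DecidableEq ι]
variable {E : Type*} [Field E] [Algebra F E] [Module E (ι → F)] [IsScalarTower F E (ι → F)]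
variable {K : Subalgebra F (Matrix ι ι F)}

local notation "V" => (ι → F)
local notation "Mn" => Matrix ι ι F

/-- The matrices of the subalgebra are exactly the multiplications by the elements of the field. -/
def Describes (K : Subalgebra F (Matrix ι ι F)) (E : Type*) [SMul E (ι → F)] : Prop :=
  ∀ A : Mn, A ∈ K ↔ ∃ k : E, ∀ x : V, A *ᵥ x = k • x

section
variable (hK : Describes K E)
include hK

theorem normalizer_preserves_lines {g : GL ι F} (hg : g ∈ Geo.subalgebraNormalizer K) (k : E) (a : V) :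
    (g : Mn) *ᵥ (k • a) ∈ (E ∙ ((g : Mn) *ᵥ a)) := by
  set A : Mn := LinearMap.toMatrix' ((LinearMap.lsmul E V k).restrictScalars F)
  have hA : ∀ x, A *ᵥ x = k • x := fun x => LinearMap.toMatrix'_mulVec _ x
  obtain ⟨k', hk'⟩ := (hK _).1 ((hg A).1 ((hK A).2 ⟨k, hA⟩))
  refine Submodule.mem_span_singleton.2 ⟨k', ?_⟩
  rw [← hk', ← Matrix.mulVec_mulVec, ← Matrix.mulVec_mulVec, inv_mulVec_cancel, hA]

theorem mem_normalizer_of_lines [Finite E] (h2 : 2 ≤ finrank E (ι → F)) {g : GL ι F}
    (hg : ∀ (k : E) (a : V), (g : Mn) *ᵥ (k • a) ∈ (E ∙ ((g : Mn) *ᵥ a))) :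
    g ∈ Geo.subalgebraNormalizer K := by
  classical
  have hne : ∀ {y : V}, y ≠ 0 → (g : Mn) *ᵥ y ≠ 0 := fun {y} hy h =>
    hy (gl_mulVec_injective g (by simpa using h))
  have main : ∀ {g : GL ι F}, (∀ (k : E) (a : V), (g : Mn) *ᵥ (k • a) ∈ (E ∙ ((g : Mn) *ᵥ a))) →
      (∀ (k : E) (a : V), ((g⁻¹ : GL ι F) : Mn) *ᵥ (k • a) ∈ (E ∙ (((g⁻¹ : GL ι F) : Mn) *ᵥ a))) ∧
      ∀ A ∈ K, (g : Mn) * A * ((g⁻¹ : GL ι F) : Mn) ∈ K := by
    intro g hg
    have hne : ∀ {y : V}, y ≠ 0 → (g : Mn) *ᵥ y ≠ 0 := fun {y} hy h =>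
      hy (gl_mulVec_injective g (by simpa using h))
    choose σ hσ using fun k a => Submodule.mem_span_singleton.1 (hg k a)
    have hinj : ∀ {a : V}, a ≠ 0 → Function.Injective fun k => σ k a := fun {a} ha k l h => by
      change σ k a = σ l a at h
      have h' : (g : Mn) *ᵥ (k • a) = (g : Mn) *ᵥ (l • a) := by rw [← hσ, ← hσ, h]
      exact smul_left_injective E ha (gl_mulVec_injective g h')
    refine ⟨fun k a => ?_, fun A hA => ?_⟩
    · set y := ((g⁻¹ : GL ι F) : Mn) *ᵥ a with hy
      rcases eq_or_ne y 0 with h0 | h0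
      · have : a = 0 := by rw [← mulVec_inv_cancel g a, ← hy, h0, Matrix.mulVec_zero]
        rw [this, smul_zero, Matrix.mulVec_zero]; exact zero_mem _
      obtain ⟨s, hs⟩ := (Finite.injective_iff_surjective.1 (hinj h0)) k
      change σ s y = k at hs
      refine Submodule.mem_span_singleton.2 ⟨s, gl_mulVec_injective g ?_⟩
      show (g : Mn) *ᵥ _ = (g : Mn) *ᵥ _
      have ha : (g : Mn) *ᵥ y = a := mulVec_inv_cancel g a
      rw [mulVec_inv_cancel, ← hσ, hs, ha]
    · obtain ⟨k, hk⟩ := (hK A).1 hA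
      have heq : ∀ {y z : V}, y ≠ 0 → z ∉ (E ∙ y) → σ k y = σ k z := by
        intro y z hy hz
        have hz0 : z ≠ 0 := fun h => hz (h ▸ zero_mem _)
        have hgz : (g : Mn) *ᵥ z ∉ (E ∙ ((g : Mn) *ᵥ y)) := fun h => by
          obtain ⟨t, ht⟩ := Submodule.mem_span_singleton.1 h
          obtain ⟨s, hs⟩ := (Finite.injective_iff_surjective.1 (hinj hy)) t
          change σ s y = t at hs
          refine hz (Submodule.mem_span_singleton.2 ⟨s, gl_mulVec_injective g ?_⟩)
          show (g : Mn) *ᵥ _ = (g : Mn) *ᵥ _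
          rw [← hσ, hs, ht]
        have h1 := hσ k (y + z)
        rw [smul_add, Matrix.mulVec_add, Matrix.mulVec_add, smul_add, ← hσ k y, ← hσ k z] at h1
        have hli : LinearIndependent E ![(g : Mn) *ᵥ y, (g : Mn) *ᵥ z] :=
          (LinearIndependent.pair_iff' (hne hy)).2 fun t h => hgz (Submodule.mem_span_singleton.2 ⟨t, h⟩)
        obtain ⟨e1, e2⟩ := LinearIndependent.pair_iff.1 hli (σ k (y + z) - σ k y) (σ k (y + z) - σ k z)
          (by linear_combination (norm := module) h1)
        rw [← sub_eq_zero.1 e1, sub_eq_zero.1 e2]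
      obtain ⟨y₀, hy₀⟩ : ∃ y : V, y ≠ 0 := by
        by_contra hc
        push Not at hc
        haveI : Subsingleton V := ⟨fun a b => (hc a).trans (hc b).symm⟩
        rw [finrank_zero_of_subsingleton] at h2
        omega
      have hconst : ∀ y, y ≠ 0 → σ k y = σ k y₀ := fun y hy => by
        by_cases hyy : y ∈ (E ∙ y₀)
        · obtain ⟨u, hu⟩ : ∃ u, u ∉ (E ∙ y₀) := by
            by_contra hc
            push Not at hc
            have h1 := finrank_span_singleton (K := E) hy₀
            rw [Submodule.eq_top_iff'.2 hc, finrank_top] at h1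
            omega
          have hu' : u ∉ (E ∙ y) := fun h =>
            hu ((Submodule.span_singleton_le_iff_mem _ _).2 hyy h)
          rw [heq hy hu', heq hy₀ hu]
        · exact (heq hy₀ hyy).symm
      refine (hK _).2 ⟨σ k y₀, fun x => ?_⟩
      rw [← Matrix.mulVec_mulVec, ← Matrix.mulVec_mulVec, hk, ← hσ, mulVec_inv_cancel]
      rcases eq_or_ne x 0 with rfl | hx
      · rw [smul_zero, smul_zero]
      · rw [hconst _ fun h => hx (by rw [← mulVec_inv_cancel g x, h, Matrix.mulVec_zero])]
  intro A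
  refine ⟨(main hg).2 A, fun hA => ?_⟩
  have := (main (main hg).1).2 _ hA
  rw [inv_inv] at this
  simpa [mul_assoc] using this

/-- There is a transvection outside the normalizer. -/
theorem exists_not_mem_normalizer (hr : 2 ≤ finrank F E) (h2 : 2 ≤ finrank E (ι → F)) :
    ∃ g : GL ι F, g ∈ Geo.specialLinear ι F ∧ g ∉ Geo.subalgebraNormalizer K := by
  haveI : Module.Finite E (ι → F) := Module.Finite.of_restrictScalars_finite F E _
  obtain ⟨a, ha⟩ : ∃ a : V, a ≠ 0 := by
    by_contra hc
    push Not at hc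
    haveI : Subsingleton V := ⟨fun a b => (hc a).trans (hc b).symm⟩
    rw [finrank_zero_of_subsingleton] at h2
    omega
  obtain ⟨u, hu⟩ : ∃ u, u ∉ (E ∙ a) := by
    by_contra hc
    push Not at hc
    have h1 := finrank_span_singleton (K := E) ha
    rw [Submodule.eq_top_iff'.2 hc, finrank_top] at h1
    omega
  obtain ⟨k, hk⟩ : ∃ k : E, k ∉ (Submodule.span F ({1} : Set E)) := by
    by_contra hc
    push Not at hc
    have h1 := finrank_span_singleton (K := F) (one_ne_zero (α := E))
    rw [Submodule.eq_top_iff'.2 hc, finrank_top] at h1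
    omega
  have hka : k • a ∉ Submodule.span F ({a, u} : Set V) := fun h => by
    obtain ⟨x, y, hxy⟩ := Submodule.mem_span_pair.1 h
    rcases eq_or_ne y 0 with rfl | hy
    · rw [zero_smul, add_zero, ← algebraMap_smul E x] at hxy
      exact hk (Submodule.mem_span_singleton.2 ⟨x, by
        rw [← smul_left_injective E ha hxy, Algebra.algebraMap_eq_smul_one]⟩)
    · have h1 : u = y⁻¹ • (k • a - x • a) := by
        rw [← hxy, add_sub_cancel_left, smul_smul, inv_mul_cancel₀ hy, one_smul]
      refine hu ?_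
      rw [h1, ← algebraMap_smul E y⁻¹, ← algebraMap_smul E x]
      exact Submodule.smul_mem _ _ (sub_mem (Submodule.smul_mem _ _ (Submodule.mem_span_singleton_self _))
        (Submodule.smul_mem _ _ (Submodule.mem_span_singleton_self _)))
  obtain ⟨φ, hφk, hφ⟩ := exists_dot_one hka
  have hφa : φ ⬝ᵥ a = 0 := hφ _ (Submodule.subset_span (Set.mem_insert _ _))
  have hφu : φ ⬝ᵥ u = 0 := hφ _ (Submodule.subset_span (Set.mem_insert_of_mem _ rfl))
  obtain ⟨g, hgx⟩ : ∃ g : GL ι F, ∀ x, (g : Mn) *ᵥ x = x + (φ ⬝ᵥ x) • u := by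
    refine ⟨Matrix.GeneralLinearGroup.mkOfDetNeZero (1 + vecMulVec u φ) ?_, fun x => ?_⟩
    · rw [Matrix.vecMulVec_eq Unit, Matrix.det_one_add_replicateCol_mul_replicateRow, hφu, add_zero]
      exact one_ne_zero
    · show (1 + vecMulVec u φ) *ᵥ x = _
      rw [Matrix.add_mulVec, Matrix.one_mulVec, Matrix.vecMulVec_mulVec]
      simp
  refine ⟨g, det_tv hgx hφu, fun hn => hu ?_⟩
  have h1 := normalizer_preserves_lines hK hn k a
  rw [hgx, hgx, hφk, hφa, one_smul, zero_smul, add_zero] at h1
  have := sub_mem h1 (Submodule.smul_mem _ k (Submodule.mem_span_singleton_self a))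
  rwa [add_sub_cancel_left] at this

/-- A linear map over the field gives an element of the normalizer, with determinant the norm. -/
theorem exists_of_linear [Finite E] (h2 : 2 ≤ finrank E (ι → F)) (L : (ι → F) →ₗ[E] (ι → F))
    (hL : Algebra.norm F (LinearMap.det L) ≠ 0) :
    ∃ g ∈ Geo.subalgebraNormalizer K, (g : Mn).det = Algebra.norm F (LinearMap.det L) ∧
      ∀ x, (g : Mn) *ᵥ x = L x := by
  have hd : (LinearMap.toMatrix' (L.restrictScalars F)).det = Algebra.norm F (LinearMap.det L) := by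
    rw [LinearMap.det_toMatrix', LinearMap.det_restrictScalars]
  refine ⟨Matrix.GeneralLinearGroup.mkOfDetNeZero _ (hd ▸ hL), ?_, hd, fun x => LinearMap.toMatrix'_mulVec _ x⟩
  refine mem_normalizer_of_lines hK h2 fun k a => Submodule.mem_span_singleton.2 ⟨k, ?_⟩
  show k • (LinearMap.toMatrix' (L.restrictScalars F)) *ᵥ a = (LinearMap.toMatrix' (L.restrictScalars F)) *ᵥ _
  rw [LinearMap.toMatrix'_mulVec, LinearMap.toMatrix'_mulVec]
  exact (map_smul L k a).symm

/-- A group above the normalizer in the special linear group, with an element outside, contains it. -/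
theorem special_le [Fintype F] [Fintype E] (hr : (finrank F E).Prime) (h2 : 2 ≤ finrank E (ι → F))
    {M : Subgroup (GL ι F)} (hle : Geo.subalgebraNormalizer K ⊓ Geo.specialLinear ι F ≤ M) {g : GL ι F}
    (hg : g ∈ M) (hgn : g ∉ Geo.subalgebraNormalizer K) : Geo.specialLinear ι F ≤ M := by
  have hM : Ovf M E := ⟨fun L hL => by
    obtain ⟨x, hx, hd, hxL⟩ := exists_of_linear hK h2 L (by rw [hL]; exact one_ne_zero)
    refine ⟨x, hle ⟨hx, MonoidHom.mem_ker.2 (Units.ext ?_)⟩, hxL⟩
    rw [Matrix.GeneralLinearGroup.val_det_apply, hd, hL]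
    rfl⟩
  obtain ⟨k₀, a, hline⟩ : ∃ (k : E) (a : V), (g : Mn) *ᵥ (k • a) ∉ (E ∙ ((g : Mn) *ᵥ a)) := by
    by_contra hc
    push Not at hc
    exact hgn (mem_normalizer_of_lines hK h2 hc)
  obtain ⟨P⟩ := exists_pair hM hr hg hline
  obtain ⟨v, φ, hv, hφ, hφv, h⟩ : ∃ v φ : V, v ≠ 0 ∧ φ ≠ 0 ∧ φ ⬝ᵥ v = 0 ∧ InT M v φ := by
    rcases (show 3 ≤ finrank E V ∨ finrank E V = 2 by omega) with h3 | h3
    · exact P.transvection_of_three hM h3
    by_cases hex : 3 ≤ Fintype.card F ∨ 3 ≤ finrank F E
    · exact P.transvection_of_two hM h3 hr.two_le hex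
    push Not at hex
    have : 1 < Fintype.card F := Fintype.one_lt_card
    exact P.transvection_of_four hM h3 (by have := hr.two_le; omega) (by omega)
  exact hM.le_of_transvection hr h2 hg hline hv hφ hφv h

/-- The normalizer is maximal in the special linear group. -/
theorem maximal_special [Fintype F] [Fintype E] (hr : (finrank F E).Prime) (h2 : 2 ≤ finrank E (ι → F)) :
    Geo.IsMaximalIn (Geo.specialLinear ι F) (Geo.subalgebraNormalizer K ⊓ Geo.specialLinear ι F) := by
  obtain ⟨g, hgs, hgn⟩ := exists_not_mem_normalizer hK hr.two_le h2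
  refine ⟨lt_of_le_of_ne inf_le_right fun h => hgn (h.ge hgs).1, fun M hle hMs => ?_⟩
  by_cases h : M ≤ Geo.subalgebraNormalizer K
  · exact Or.inl (le_antisymm (le_inf h hMs) hle)
  · obtain ⟨x, hx, hxn⟩ := SetLike.not_le_iff_exists.1 h
    exact Or.inr (le_antisymm hMs (special_le hK hr h2 hle hx hxn))

/-- The normalizer is maximal in the general linear group. -/
theorem maximal_general [Fintype F] [Fintype E] (hr : (finrank F E).Prime) (h2 : 2 ≤ finrank E (ι → F)) :
    IsCoatom (Geo.subalgebraNormalizer K) := by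
  haveI : Module.Finite E (ι → F) := Module.Finite.of_restrictScalars_finite F E _
  obtain ⟨g, hgs, hgn⟩ := exists_not_mem_normalizer hK hr.two_le h2
  refine ⟨fun h => hgn (h ▸ Subgroup.mem_top g), fun M hM => ?_⟩
  obtain ⟨x, hx, hxn⟩ := SetLike.exists_of_lt hM
  have hsl := special_le hK hr h2 (inf_le_left.trans hM.le) hx hxn
  refine eq_top_iff.2 fun y _ => ?_
  obtain ⟨u, hu⟩ := FiniteField.unitsMap_norm_surjective F E (Matrix.GeneralLinearGroup.det y)
  obtain ⟨a, ha⟩ : ∃ a : V, a ≠ 0 := by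
    by_contra hc
    push Not at hc
    haveI : Subsingleton V := ⟨fun a b => (hc a).trans (hc b).symm⟩
    rw [finrank_zero_of_subsingleton] at h2
    omega
  obtain ⟨θ, hθ, -⟩ := exists_func (⊥ : Submodule E V) (by simpa using ha) 1
  have hd : Algebra.norm F (LinearMap.det (LinearMap.transvection θ (((u : E) - 1) • a))) =
      (Matrix.GeneralLinearGroup.det y : F) := by
    rw [LinearMap.transvection.det, map_smul, hθ, smul_eq_mul, mul_one, add_sub_cancel, ← hu]
    rfl
  obtain ⟨h, hh, hhd, -⟩ := exists_of_linear hK h2 _ (by rw [hd]; exact Units.ne_zero _)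
  have hyh : y * h⁻¹ ∈ Geo.specialLinear ι F := MonoidHom.mem_ker.2 (by
    rw [map_mul, map_inv, mul_inv_eq_one]
    exact Units.ext (by rw [Matrix.GeneralLinearGroup.val_det_apply h, hhd, hd]))
  have := mul_mem (hsl hyh) (hM.le hh)
  rwa [inv_mul_cancel_right] at this

end

/-- Both maximality statements for an embedded field of prime degree and codimension at least two. -/
theorem fieldSubalgebra_maximal [Fintype F] {r : ℕ} (hr : r.Prime) (hn : r < Fintype.card ι)
    (hK : Geo.IsFieldSubalgebra r K) :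
    IsCoatom (Geo.subalgebraNormalizer K) ∧
      Geo.IsMaximalIn (Geo.specialLinear ι F) (Geo.subalgebraNormalizer K ⊓ Geo.specialLinear ι F) := by
  classical
  haveI : Nontrivial ↥K := by
    haveI : Module.Finite F ↥K := Module.finite_of_finrank_pos (by rw [hK.finrank_eq]; exact hr.pos)
    exact Module.nontrivial_of_finrank_pos (R := F) (by rw [hK.finrank_eq]; exact hr.pos)
  letI : CommRing ↥K := { (inferInstance : Ring ↥K) with
    mul_comm := fun a b => Subtype.ext (hK.comm _ a.2 _ b.2) }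
  have hfield : IsField ↥K :=
    { exists_pair_ne := exists_pair_ne _
      mul_comm := mul_comm
      mul_inv_cancel := fun {a} ha => by
        obtain ⟨y, hy, hay⟩ := hK.inv _ a.2 fun h => ha (Subtype.ext h)
        exact ⟨⟨y, hy⟩, Subtype.ext hay⟩ }
  letI : Field ↥K := hfield.toField
  have hsm : ∀ (k : ↥K) (x : V), k • x = (k : Mn) *ᵥ x := fun _ _ => rfl
  haveI : IsScalarTower F ↥K (ι → F) := ⟨fun a k x => by
    rw [hsm, hsm, show ((a • k : ↥K) : Mn) = a • (k : Mn) from rfl, Matrix.smul_mulVec]⟩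
  haveI : Fintype ↥K := Fintype.ofFinite _
  have hdesc : Describes K ↥K := fun A => ⟨fun hA => ⟨⟨A, hA⟩, fun x => (hsm ⟨A, hA⟩ x).symm⟩, fun ⟨k, hk⟩ => by
    have : A = (k : Mn) := Matrix.ext_iff_mulVec.2 fun x => (hk x).trans (hsm k x)
    rw [this]; exact k.2⟩
  have hr' : (finrank F ↥K).Prime := hK.finrank_eq ▸ hr
  have h2 : 2 ≤ finrank ↥K (ι → F) := by
    have h := Module.finrank_mul_finrank F ↥K (ι → F)
    rw [hK.finrank_eq, Module.finrank_fintype_fun_eq_card] at h
    by_contra hc
    push Not at hc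
    interval_cases hf : finrank ↥K (ι → F) <;> omega
  exact ⟨maximal_general hdesc hr' h2, maximal_special hdesc hr' h2⟩

end Cfsg.Agent.Classical.Overfield
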