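import Cfsg.Agent.Lib.Classical.MaxTensorMain
import Cfsg.Agent.Lib.Classical.MaxMonomialLines
import Cfsg.Agent.Lib.Classical.MaxLinWreath
import Cfsg.Agent.Lib.Classical.MaxLinearSubfield
import Cfsg.Agent.Lib.Classical.MaxLinearSubspace
import Cfsg.Agent.Lib.Classical.MaxOverfieldMain
import Cfsg.Agent.Lib.Classical.MaxHermitian
import Cfsg.Agent.Lib.Classical.MaxQuadratic
import Cfsg.Agent.Lib.Classical.MaxSesq

/-!
Tensor stabilisers in `SL_n` in terms of `tensorProductSubgroup`; oddness and two.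
-/

set_option autoImplicit false

namespace Cfsg.Agent.Classical.MaxApps

theorem two_ne_zero_of_odd {F : Type*} [Field F] [Fintype F] (hodd : Odd (Fintype.card F)) : (2 : F) ≠ 0 :=
  fun h => by
    have : CharP F 2 := (CharP.charP_iff_prime_eq_zero Nat.prime_two).2 (by exact_mod_cast h)
    have := FiniteField.even_card_iff_char_two.1 (ringChar.eq F 2)
    exact absurd (Nat.odd_iff.1 hodd) (by omega)

theorem isMaximalIn_mapEquiv {G H : Type*} [Group G] [Group H] (e : G ≃* H) {K L : Subgroup G}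
    (h : Geo.IsMaximalIn K L) : Geo.IsMaximalIn (K.map e.toMonoidHom) (L.map e.toMonoidHom) := by
  refine ⟨lt_of_le_of_ne (Subgroup.map_mono h.1.le) fun he => h.1.ne (Subgroup.map_injective e.injective he),
    fun M hLM hMK => ?_⟩
  have hM : M = (M.comap e.toMonoidHom).map e.toMonoidHom :=
    (Subgroup.map_comap_eq_self_of_surjective e.surjective M).symm
  rcases h.2 (M.comap e.toMonoidHom) (Subgroup.map_le_iff_le_comap.1 hLM)
      (fun x hx => by
        obtain ⟨y, hy, hyx⟩ := Subgroup.mem_map.1 (hMK hx)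
        exact e.injective hyx ▸ hy) with h1 | h1
  · exact Or.inl (by rw [hM, h1])
  · exact Or.inr (by rw [hM, h1])

theorem tensor_product_maximal {F : Type*} [Field F] [Fintype F] (n : ℕ) (n₁ n₂ : ℕ) (h1 : 2 ≤ n₁) (h12 : n₁ < n₂)
    (hex : ¬ (n₁ = 2 ∧ Fintype.card F = 2)) (e : Fin n ≃ Fin n₁ × Fin n₂) (P : Matrix.GeneralLinearGroup (Fin n) F) :
    Geo.IsMaximalIn (Geo.specialLinear (Fin n) F)
      (Geo.tensorProductSubgroup n₁ n₂ e P ⊓ Geo.specialLinear (Fin n) F) := by
  classical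
  have hq : 3 ≤ Fintype.card (Fin n₁) ∨ 3 ≤ Fintype.card F := by
    have := Fintype.one_lt_card (α := F)
    rw [Fintype.card_fin]
    omega
  have hb := Cfsg.Agent.Classical.TensorMax.tensor_maximal (α := Fin n₁) (β := Fin n₂) (F := F) (by simpa using h1) (by simpa using h12)
    hq (Geo.kroneckerSubgroup n₁ n₂ F ⊓ Geo.specialLinear (Fin n₁ × Fin n₂) F) (fun g => Iff.rfl)
  let Φ : GL (Fin n₁ × Fin n₂) F ≃* GL (Fin n) F := (Geo.glReindex e.symm).trans (MulAut.conj P)
  have hdet : ∀ g : GL (Fin n₁ × Fin n₂) F, (Φ g : Matrix (Fin n) (Fin n) F).det =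
      (g : Matrix (Fin n₁ × Fin n₂) (Fin n₁ × Fin n₂) F).det := by
    intro g
    show ((P * Geo.glReindex e.symm g * P⁻¹ : GL (Fin n) F) : Matrix (Fin n) (Fin n) F).det = _
    rw [Units.val_mul, Units.val_mul, Matrix.det_units_conj]
    show (Matrix.reindexAlgEquiv F F e.symm (g : Matrix (Fin n₁ × Fin n₂) (Fin n₁ × Fin n₂) F)).det = _
    rw [Matrix.det_reindexAlgEquiv]
  have hSL : (Geo.specialLinear (Fin n₁ × Fin n₂) F).map Φ.toMonoidHom = Geo.specialLinear (Fin n) F := by
    ext x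
    rw [Subgroup.mem_map_equiv]
    constructor
    · intro h
      refine MonoidHom.mem_ker.2 (Units.ext ?_)
      rw [Matrix.GeneralLinearGroup.val_det_apply, ← Φ.apply_symm_apply x, hdet]
      exact congrArg Units.val (MonoidHom.mem_ker.1 h)
    · intro h
      refine MonoidHom.mem_ker.2 (Units.ext ?_)
      rw [Matrix.GeneralLinearGroup.val_det_apply, ← hdet, Φ.apply_symm_apply]
      exact congrArg Units.val (MonoidHom.mem_ker.1 h)
  have hK : (Geo.kroneckerSubgroup n₁ n₂ F).map Φ.toMonoidHom = Geo.tensorProductSubgroup n₁ n₂ e P := by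
    rw [Geo.tensorProductSubgroup, Subgroup.map_map]
    rfl
  have h := isMaximalIn_mapEquiv Φ hb
  rw [Subgroup.map_inf _ _ _ Φ.injective, hSL, hK] at h
  exact h

end Cfsg.Agent.Classical.MaxApps
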