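import Cfsg.Agent.Lib.Classical.MaxUnitary
import Cfsg.Agent.Lib.Classical.LinFour.UnitGen
import Cfsg.Agent.Lib.Classical.MaxSympWreath

/-!
Stabilisers of pairs of complementary totally isotropic subspaces are maximal in symplectic groups of odd
characteristic and in unitary groups.

Two short root elements through a common point whose other points are not orthogonal have a transvection as
commutator; so in an overgroup without new transvections the short root elements through the image of a point of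
one of the two subspaces span a totally isotropic subspace, which is then too invariant to exist.
-/

set_option autoImplicit false
set_option linter.unusedSectionVars false

namespace Cfsg.Agent.Classical.MaxTv

open Matrix Module

section Pair

variable {F : Type*} [Field F] {ι : Type} [Fintype ι] [DecidableEq ι]

local notation "V" => (ι → F)
local notation "Mn" => Matrix ι ι F

/-- A non-degenerate form whose short root elements have non-trivial commutators. -/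
structure Skew (σ : F ≃+* F) (f : V → V → F) (e : F) : Prop extends Sesq σ f where
  invol : ∀ a : F, σ (σ a) = a
  sq : e * e = 1
  fix : σ e = e
  skew : ∀ a b, f b a = -(e * σ (f a b))
  trace : ∃ μ : F, σ μ + e * μ ≠ 0

variable {σ : F ≃+* F} {f : (ι → F) → (ι → F) → F} {e : F} {M : Subgroup (GL ι F)}

/-- The short root elements of `a`, `b` are in `M`. -/
def DJ (f : V → V → F) (e : F) (M : Subgroup (GL ι F)) (a b : V) : Prop :=
  ∀ l : F, ∃ t ∈ M, ∀ x : V, (t : Mn) *ᵥ x = x + f x (l • a) • b + (e * f x b) • (l • a)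

/-- The short root elements through `x` and `c` are in `M`. -/
def Cn (f : V → V → F) (e : F) (M : Subgroup (GL ι F)) (x c : V) : Prop :=
  f c c = 0 ∧ f c x = 0 ∧ DJ f e M c x

/-- The transvections with centre `w` are in `M`. -/
def Ct (σ : F ≃+* F) (f : V → V → F) (e : F) (M : Subgroup (GL ι F)) (w : V) : Prop :=
  f w w = 0 ∧ ∀ τ : F, σ τ = e * τ → ∃ t ∈ M, ∀ y : V, (t : Mn) *ᵥ y = y + (τ * f y w) • w

namespace Skew

variable (hs : Skew σ f e)
include hs

theorem e_ne : e ≠ 0 := fun h => by have := hs.sq; rw [h, zero_mul] at this; exact zero_ne_one this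

theorem e_inv : e⁻¹ = e := inv_eq_of_mul_eq_one_left hs.sq

theorem exists_adm : ∃ s : F, s ≠ 0 ∧ σ s = e * s := by
  obtain ⟨μ, hμ⟩ := hs.trace
  exact ⟨_, hμ, by rw [map_add, map_mul, hs.invol, hs.fix]; linear_combination (-μ) * hs.sq⟩

theorem dj_symm {a b : V} (h : DJ f e M a b) : DJ f e M b a := fun l => by
  obtain ⟨t, ht, htx⟩ := h (e * σ l)
  refine ⟨t, ht, fun x => ?_⟩
  rw [htx, hs.smul_right, hs.smul_right, map_mul, hs.fix, hs.invol, smul_smul, smul_smul,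
    show e * f x b * (e * σ l) = σ l * f x b by linear_combination (σ l * f x b) * hs.sq,
    show e * f x a * l = e * l * f x a by ring]
  abel

theorem cn_symm {x c : V} (hx : f x x = 0) (h : Cn f e M x c) : Cn f e M c x :=
  ⟨hx, hs.refl _ _ h.2.1, hs.dj_symm h.2.2⟩

theorem cn_map {x c : V} (h : Cn f e M x c) {k : GL ι F} (hk : k ∈ M)
    (hki : ∀ u v, f ((k : Mn) *ᵥ u) ((k : Mn) *ᵥ v) = f u v) :
    Cn f e M ((k : Mn) *ᵥ x) ((k : Mn) *ᵥ c) := by
  refine ⟨by rw [hki]; exact h.1, by rw [hki]; exact h.2.1, fun l => ?_⟩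
  obtain ⟨t, ht, htx⟩ := h.2.2 l
  refine ⟨k * t * k⁻¹, mul_mem (mul_mem hk ht) (inv_mem hk), fun y => ?_⟩
  obtain ⟨z, rfl⟩ : ∃ z, (k : Mn) *ᵥ z = y := ⟨_, mulVec_inv_cancel k y⟩
  rw [← Matrix.mulVec_smul (k : Mn) l c, hki, hki, Units.val_mul, Units.val_mul, ← Matrix.mulVec_mulVec,
    ← Matrix.mulVec_mulVec, inv_mulVec_cancel, htx, Matrix.mulVec_add, Matrix.mulVec_add, Matrix.mulVec_smul,
    Matrix.mulVec_smul]

theorem ct_map {w : V} (h : Ct σ f e M w) {k : GL ι F} (hk : k ∈ M)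
    (hki : ∀ u v, f ((k : Mn) *ᵥ u) ((k : Mn) *ᵥ v) = f u v) : Ct σ f e M ((k : Mn) *ᵥ w) := by
  refine ⟨by rw [hki]; exact h.1, fun τ hτ => ?_⟩
  obtain ⟨t, ht, htx⟩ := h.2 τ hτ
  refine ⟨k * t * k⁻¹, mul_mem (mul_mem hk ht) (inv_mem hk), fun y => ?_⟩
  obtain ⟨z, rfl⟩ : ∃ z, (k : Mn) *ᵥ z = y := ⟨_, mulVec_inv_cancel k y⟩
  rw [hki, Units.val_mul, Units.val_mul, ← Matrix.mulVec_mulVec,
    ← Matrix.mulVec_mulVec, inv_mulVec_cancel, htx, Matrix.mulVec_add, Matrix.mulVec_smul]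

/-- Two short root elements through `x` with non-orthogonal ends give the transvections at `x`. -/
theorem heis {x c c' : V} (hx : f x x = 0) (h : Cn f e M x c) (h' : Cn f e M x c') (hne : f c' c ≠ 0) :
    Ct σ f e M x := by
  refine ⟨hx, fun τ hτ => ?_⟩
  obtain ⟨μ₀, hμ₀⟩ := hs.trace
  obtain ⟨μ, hμ⟩ : ∃ μ, μ = μ₀ * τ / (σ μ₀ + e * μ₀) := ⟨_, rfl⟩
  have hμτ : σ μ + e * μ = τ := by
    have hss : σ (σ μ₀ + e * μ₀) = e * (σ μ₀ + e * μ₀) := by
      rw [map_add, map_mul, hs.invol, hs.fix]; linear_combination (-μ₀) * hs.sq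
    rw [hμ, map_div₀, map_mul, hτ, hss, ← mul_div_assoc, show σ μ₀ * (e * τ) = e * (σ μ₀ * τ) by ring,
      mul_div_mul_left _ _ hs.e_ne, ← add_div, show σ μ₀ * τ + e * (μ₀ * τ) = (σ μ₀ + e * μ₀) * τ by ring,
      mul_div_cancel_left₀ _ hμ₀]
  obtain ⟨l, hl⟩ : ∃ l, σ l * f c' c = μ := ⟨σ (μ / f c' c), by rw [hs.invol, div_mul_cancel₀ _ hne]⟩
  obtain ⟨t₁, ht₁, h₁⟩ := h.2.2 l
  obtain ⟨t₂, ht₂, h₂⟩ := h'.2.2 1
  refine ⟨t₁ * t₂ * (t₂ * t₁)⁻¹, mul_mem (mul_mem ht₁ ht₂) (inv_mem (mul_mem ht₂ ht₁)), fun z => ?_⟩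
  obtain ⟨y, rfl⟩ : ∃ y, ((t₂ * t₁ : GL ι F) : Mn) *ᵥ y = z := ⟨_, mulVec_inv_cancel _ z⟩
  rw [Units.val_mul (t₁ * t₂), ← Matrix.mulVec_mulVec, inv_mulVec_cancel, Units.val_mul, Units.val_mul,
    ← Matrix.mulVec_mulVec, ← Matrix.mulVec_mulVec, h₁, h₂, h₂, h₁]
  have hcx : f x c = 0 := hs.refl _ _ h.2.1
  have hcx' : f x c' = 0 := hs.refl _ _ h'.2.1
  simp only [one_smul, hs.add_left, hs.smul_left, hs.smul_right, hx, h.2.1, h'.2.1, hcx, hcx', h.1, h'.1,
    mul_zero, add_zero, zero_add]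
  have hsk : f c c' = -(e * σ (f c' c)) := hs.skew c' c
  have key : τ = e * (σ l * f c' c) - e * (l * f c c') := by
    have h3 : σ μ = l * σ (f c' c) := by rw [← hl, map_mul, hs.invol]
    rw [hsk]
    linear_combination -hμτ + h3 - e * hl - (l * σ (f c' c)) * hs.sq
  rw [key]
  module

/-- A short root element as an isometry of determinant one. -/
theorem exists_dj [Finite F] {a b : V} (ha : f a a = 0) (hb : f b b = 0) (hab : f a b = 0) (l : F) :
    ∃ t : GL ι F, (∀ u v, f ((t : Mn) *ᵥ u) ((t : Mn) *ᵥ v) = f u v) ∧ t ∈ Geo.specialLinear ι F ∧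
      ∀ x : V, (t : Mn) *ᵥ x = x + f x (l • a) • b + (e * f x b) • (l • a) := by
  obtain ⟨a', ha'⟩ : ∃ a', a' = l • a := ⟨_, rfl⟩
  rw [← ha']
  have h1 : f a' a' = 0 := by rw [ha', hs.smul_left, hs.smul_right, ha, mul_zero, mul_zero]
  have h2 : f a' b = 0 := by rw [ha', hs.smul_left, hab, mul_zero]
  have h3 : f b a' = 0 := hs.refl _ _ h2
  let L : V →ₗ[F] V := LinearMap.id + (hs.lin a').smulRight b + (e • hs.lin b).smulRight a'
  have hL : ∀ x, L x = x + f x a' • b + (e * f x b) • a' := fun x => rfl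
  have hiso : ∀ u v, f (L u) (L v) = f u v := fun u v => by
    simp only [hL, hs.add_left, hs.add_right, hs.smul_left, hs.smul_right, h1, h2, h3, hb, mul_zero, add_zero,
      map_mul, hs.fix]
    rw [hs.skew v b, hs.skew v a']
    linear_combination (- (f u b * σ (f v a'))) * hs.sq
  obtain ⟨t, ht⟩ := exists_gl_of_injective L fun u v huv => by
    refine sub_eq_zero.1 (hs.eq_zero _ fun w => ?_)
    have h0 : f (L (u - v)) (L w) = 0 := by rw [map_sub, huv, sub_self, hs.zero_left]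
    rw [hiso] at h0
    exact hs.refl _ _ h0
  have hti : ∀ u v, f ((t : Mn) *ᵥ u) ((t : Mn) *ᵥ v) = f u v := fun u v => by rw [ht, ht, hiso]
  refine ⟨t, hti, MonoidHom.mem_ker.2 (Units.ext ?_), fun x => by rw [ht, hL]⟩
  obtain ⟨p, hp⟩ := CharP.exists F
  have : Fact p.Prime := ⟨CharP.char_is_prime F p⟩
  have hpow : ∀ (k : ℕ) (x : V), ((t : Mn) ^ k) *ᵥ x = x + (k : F) • (f x a' • b + (e * f x b) • a') := by
    intro k
    induction k with
    | zero => intro x; simp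
    | succ k ih =>
      intro x
      rw [pow_succ, ← Matrix.mulVec_mulVec, ih, ht, hL]
      simp only [hs.add_left, hs.smul_left, h1, h2, h3, hb, mul_zero, add_zero, Nat.cast_succ]
      module
  have h4 : (t : Mn) ^ p = 1 := Matrix.ext_iff_mulVec.2 fun x => by
    rw [hpow, CharP.cast_eq_zero, zero_smul, add_zero, Matrix.one_mulVec]
  rw [Matrix.GeneralLinearGroup.val_det_apply, Units.val_one]
  refine frobenius_inj F p ?_
  rw [frobenius_def, frobenius_def, ← Matrix.det_pow, h4, Matrix.det_one, one_pow]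

/-- A transvection as an isometry of determinant one. -/
theorem exists_ct {w : V} (hw : f w w = 0) {τ : F} (hτ : σ τ = e * τ) :
    ∃ t : GL ι F, (∀ u v, f ((t : Mn) *ᵥ u) ((t : Mn) *ᵥ v) = f u v) ∧ t ∈ Geo.specialLinear ι F ∧
      ∀ y : V, (t : Mn) *ᵥ y = y + (τ * f y w) • w := by
  obtain ⟨t, ht, hti, htx⟩ := exists_isometry_tv hs.toSesq hw (c := τ) fun x y => by
    rw [map_mul, hτ, hs.skew y w]; ring
  exact ⟨t, hti, ht.2, htx⟩

/-- In a pair of paired isotropic subspaces, vanishing on the perp of `u` means proportional to `u`. -/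
theorem comp {A B : Submodule F V} (hAA : ∀ x ∈ A, ∀ y ∈ A, f x y = 0) (htop : A ⊔ B = ⊤) {u c : V}
    (hu : u ∈ A) (hc : c ∈ A) (hu0 : u ≠ 0) (h : ∀ b ∈ B, f b u = 0 → f b c = 0) :
    c ∈ Submodule.span F {u} := by
  obtain ⟨r, hr⟩ := hs.toSesq.eq_smul_of_ker hu0 (w := c) fun y hy => by
    obtain ⟨y₁, h₁, y₂, h₂, rfl⟩ := Submodule.mem_sup.1 (htop ▸ Submodule.mem_top : y ∈ A ⊔ B)
    rw [hs.add_left, hAA _ h₁ _ hu, zero_add] at hy
    rw [hs.add_left, hAA _ h₁ _ hc, zero_add]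
    exact h _ h₂ hy
  exact Submodule.mem_span_singleton.2 ⟨r, hr.symm⟩

end Skew

/-! ### The root groups force pure centres -/

theorem Skew.exists_trace (hs : Skew σ f e) {τ : F} (hτ : σ τ = e * τ) : ∃ μ : F, σ μ + e * μ = τ := by
  obtain ⟨μ₀, hμ₀⟩ := hs.trace
  refine ⟨μ₀ * τ / (σ μ₀ + e * μ₀), ?_⟩
  have hss : σ (σ μ₀ + e * μ₀) = e * (σ μ₀ + e * μ₀) := by
    rw [map_add, map_mul, hs.invol, hs.fix]; linear_combination (-μ₀) * hs.sq
  rw [map_div₀, map_mul, hτ, hss, ← mul_div_assoc, show σ μ₀ * (e * τ) = e * (σ μ₀ * τ) by ring,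
    mul_div_mul_left _ _ hs.e_ne, ← add_div, show σ μ₀ * τ + e * (μ₀ * τ) = (σ μ₀ + e * μ₀) * τ by ring,
    mul_div_cancel_left₀ _ hμ₀]

theorem Skew.exists_add_invol (hs : Skew σ f e) : ∃ c : F, c + σ c ≠ 0 := by
  by_cases h2 : (2 : F) = 0
  · obtain ⟨μ, hμ⟩ := hs.trace
    have he : (e - 1) ^ 2 = 0 := by linear_combination hs.sq + (1 - e) * h2
    rw [pow_two, mul_self_eq_zero, sub_eq_zero] at he
    exact ⟨μ, by rw [add_comm]; rwa [he, one_mul] at hμ⟩
  · exact ⟨1, by rwa [map_one, one_add_one_eq_two]⟩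

/-- A short root element through `v` and `u + v` contains a transvection at `v`. -/
theorem Skew.ct_of_cn_sum (hs : Skew σ f e) {u v : V} (huu : f u u = 0) (hvv : f v v = 0) (huv : f u v = 0)
    (h₁ : DJ f e M v u) (h₂ : DJ f e M v (u + v)) : Ct σ f e M v := by
  refine ⟨hvv, fun τ hτ => ?_⟩
  obtain ⟨l, hl⟩ := hs.exists_trace hτ
  obtain ⟨t₁, ht₁, e₁⟩ := h₁ (-l)
  obtain ⟨t₂, ht₂, e₂⟩ := h₂ l
  have hvu : f v u = 0 := hs.refl _ _ huv
  refine ⟨t₂ * t₁, mul_mem ht₂ ht₁, fun y => ?_⟩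
  rw [Units.val_mul, ← Matrix.mulVec_mulVec, e₁, e₂]
  simp only [hs.add_left, hs.add_right, hs.smul_left, hs.smul_right, map_neg, huu, hvv, huv, hvu, mul_zero,
    add_zero]
  rw [← hl]
  module

theorem Skew.exists_pure (hs : Skew σ f e) {A B : Submodule F V} (hAA : ∀ y ∈ A, ∀ z ∈ A, f y z = 0)
    (hBB : ∀ y ∈ B, ∀ z ∈ B, f y z = 0) (htop : A ⊔ B = ⊤) (hdisj : A ⊓ B = ⊥) (hA3 : 3 ≤ finrank F A)
    (hB3 : 3 ≤ finrank F B) (hAB : finrank F A = finrank F B) (hDJ : ∀ a ∈ A, ∀ b ∈ B, f a b = 0 → DJ f e M a b)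
    (hMi : ∀ g ∈ M, ∀ p q, f ((g : Mn) *ᵥ p) ((g : Mn) *ᵥ q) = f p q) {g : GL ι F} (hg : g ∈ M) {p : V}
    (hp : p ∈ A) (hgA : (g : Mn) *ᵥ p ∉ A) (hgB : (g : Mn) *ᵥ p ∉ B) :
    ∃ w, w ≠ 0 ∧ (w ∈ A ∨ w ∈ B) ∧ Ct σ f e M w := by
  by_contra hcon
  push Not at hcon
  have hDJ' : ∀ b ∈ B, ∀ a ∈ A, f b a = 0 → DJ f e M b a := fun b hb a ha h =>
    hs.dj_symm (hDJ a ha b hb (hs.refl _ _ h))
  have hCa : ∀ (A B : Submodule F V), (∀ y ∈ A, ∀ z ∈ A, f y z = 0) → (∀ y ∈ B, ∀ z ∈ B, f y z = 0) →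
      A ⊔ B = ⊤ → (∀ a ∈ A, ∀ b ∈ B, f a b = 0 → DJ f e M a b) → (∀ a ∈ A, a ≠ 0 → ¬ Ct σ f e M a) →
      ∀ a ∈ A, a ≠ 0 → ∀ c, Cn f e M a c → c ∈ Submodule.span F {a} ⊔ B := by
    intro A B hAA hBB htop hDJ hno a ha ha0 c hc
    obtain ⟨c₁, h₁, c₂, h₂, rfl⟩ := Submodule.mem_sup.1 (htop ▸ Submodule.mem_top : c ∈ A ⊔ B)
    refine Submodule.add_mem_sup (hs.comp hAA htop ha h₁ ha0 fun b hb hba => ?_) h₂
    by_contra hne
    refine hno a ha ha0 (hs.heis (hAA a ha a ha) hc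
      ⟨hBB b hb b hb, hba, hs.dj_symm (hDJ a ha b hb (hs.refl _ _ hba))⟩ ?_)
    rw [hs.add_right, hBB b hb c₂ h₂, add_zero]
    exact hne
  have noA : ∀ a ∈ A, a ≠ 0 → ¬ Ct σ f e M a := fun a ha ha0 => hcon a ha0 (Or.inl ha)
  have noB : ∀ a ∈ B, a ≠ 0 → ¬ Ct σ f e M a := fun a ha ha0 => hcon a ha0 (Or.inr ha)
  have htop' : B ⊔ A = ⊤ := by rw [sup_comm, htop]
  have hp0 : p ≠ 0 := fun h => hgA (by rw [h, Matrix.mulVec_zero]; exact zero_mem _)
  obtain ⟨x, hx⟩ : ∃ x, x = (g : Mn) *ᵥ p := ⟨_, rfl⟩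
  rw [← hx] at hgA hgB
  have hxx : f x x = 0 := by rw [hx, hMi g hg]; exact hAA p hp p hp
  obtain ⟨gl, hgl⟩ : ∃ gl : V →ₗ[F] V, gl = Matrix.toLin' (g : Mn) := ⟨_, rfl⟩
  have hgla : ∀ z, gl z = (g : Mn) *ᵥ z := fun z => by rw [hgl, Matrix.toLin'_apply]
  set X := (B ⊓ LinearMap.ker (hs.lin p)).map gl with hXdef
  have hX : ∀ z ∈ X, Cn f e M x z := by
    rintro _ ⟨b, ⟨hb, hbp⟩, rfl⟩
    rw [hgla, hx]
    exact hs.cn_map (hs.cn_symm (hBB b hb b hb) ⟨hAA p hp p hp, hs.refl _ _ hbp,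
      hDJ p hp b hb (hs.refl _ _ hbp)⟩) hg (hMi g hg)
  have hXd : finrank F B ≤ finrank F X + 1 := by
    rw [(Submodule.equivMapOfInjective gl (fun a b h => gl_mulVec_injective g (by simpa [hgla] using h))
      _).finrank_eq.symm]
    exact finrank_le_inf_ker_add_one B (hs.lin p)
  have hnox : ¬ Ct σ f e M x := fun h => noA p hp hp0 (by
    have := hs.ct_map h (inv_mem hg) (hMi _ (inv_mem hg))
    rwa [hx, inv_mulVec_cancel] at this)
  have horth : ∀ z z', Cn f e M x z → Cn f e M x z' → f z' z = 0 := fun z z' h h' => by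
    by_contra hne
    exact hnox (hs.heis hxx h h' hne)
  obtain ⟨u, hu, v, hv, huv⟩ := Submodule.mem_sup.1 (htop ▸ Submodule.mem_top : x ∈ A ⊔ B)
  have hu0 : u ≠ 0 := fun h => hgB (by rw [← huv, h, zero_add]; exact hv)
  have hv0 : v ≠ 0 := fun h => hgA (by rw [← huv, h, add_zero]; exact hu)
  -- no short root element through `x` ends in `A` or in `B`
  have hpure : ∀ (A B : Submodule F V) (u v : V), (∀ y ∈ A, ∀ z ∈ A, f y z = 0) →
      (∀ y ∈ B, ∀ z ∈ B, f y z = 0) → B ⊔ A = ⊤ → A ⊓ B = ⊥ → (∀ b ∈ B, ∀ a ∈ A, f b a = 0 → DJ f e M b a) →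
      (∀ a ∈ B, a ≠ 0 → ¬ Ct σ f e M a) → u ∈ A → v ∈ B → v ≠ 0 → u + v = x → ∀ z ∈ X, z ∈ B → z = 0 := by
    intro A B u v hAA hBB htop' hdisj hDJ' noB hu hv hv0 huv z hz hzB
    by_contra hz0
    have h1 := hCa B A hBB hAA htop' hDJ' noB z hzB hz0 x (hs.cn_symm hxx (hX z hz))
    obtain ⟨y, hy, a, ha, hya⟩ := Submodule.mem_sup.1 h1
    obtain ⟨r, rfl⟩ := Submodule.mem_span_singleton.1 hy
    have h2 : r • z - v ∈ A ⊓ B := ⟨by
      rw [show r • z - v = u - a from sub_eq_sub_iff_add_eq_add.2 (by rw [hya, huv])]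
      exact A.sub_mem hu ha, B.sub_mem (B.smul_mem r hzB) hv⟩
    rw [hdisj, Submodule.mem_bot, sub_eq_zero] at h2
    have hvu : f v u = 0 := by
      have h3 : f v x = 0 := by rw [← h2, hs.smul_left, (hX z hz).2.1, mul_zero]
      rwa [← huv, hs.add_right, hBB v hv v hv, add_zero] at h3
    refine noB v hv hv0 (hs.ct_of_cn_sum (hAA u hu u hu) (hBB v hv v hv) (hs.refl _ _ hvu)
      (hDJ' v hv u hu hvu) fun l => ?_)
    obtain ⟨t, ht, htx⟩ := (hX z hz).2.2 (l * r)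
    exact ⟨t, ht, fun y => by rw [htx, huv, ← smul_smul, h2]⟩
  have hXB : ∀ z ∈ X, z ∈ B → z = 0 := hpure A B u v hAA hBB htop' hdisj hDJ' noB hu hv hv0 huv
  have hXA : ∀ z ∈ X, z ∈ A → z = 0 :=
    hpure B A v u hBB hAA htop (by rw [inf_comm, hdisj]) hDJ noA hv hu hu0 (by rw [add_comm, huv])
  -- short root elements of the pair fixing `x` keep the isotropic space `X` isotropic
  have hdich : ∀ z ∈ X, ∀ a ∈ A, ∀ b ∈ B, f a b = 0 → f x a = 0 → f x b = 0 → f z a = 0 ∨ f z b = 0 := by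
    intro z hz a ha b hb hab hxa hxb
    by_contra hne
    push Not at hne
    obtain ⟨μ, hμ⟩ := hs.trace
    have hne' : f z b * σ (f z a) ≠ 0 := mul_ne_zero hne.2 ((map_ne_zero σ).2 hne.1)
    obtain ⟨l, hl⟩ : ∃ l : F, l * (f z b * σ (f z a)) = μ := ⟨_, div_mul_cancel₀ μ hne'⟩
    obtain ⟨k, hk, hkx⟩ := hDJ a ha b hb hab l
    have hkfix : (k : Mn) *ᵥ x = x := by simp [hkx, hs.smul_right, hxa, hxb]
    have h1 := hs.cn_map (hX z hz) hk (hMi k hk)
    rw [hkfix] at h1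
    have h2 := horth z _ (hX z hz) h1
    rw [hkx, hs.add_left, hs.add_left, hs.smul_left, hs.smul_left, hs.smul_left, hs.smul_right, (hX z hz).1,
      hs.skew z b, hs.skew z a] at h2
    have h3 : σ μ = σ l * (σ (f z b) * f z a) := by rw [← hl, map_mul, map_mul, hs.invol]
    refine hμ ?_
    rw [h3, ← hl]
    linear_combination (-e) * h2 - (σ l * (f z a * σ (f z b))
      + e * (l * (f z b * σ (f z a)))) * hs.sq
  by_cases huv0 : f u v = 0
  · have hvu : f v u = 0 := hs.refl _ _ huv0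
    have huu := hAA u hu u hu
    have hvv := hBB v hv v hv
    have hxu : f x u = 0 := by rw [← huv, hs.add_left, huu, hvu, add_zero]
    have hxv : f x v = 0 := by rw [← huv, hs.add_left, huv0, hvv, add_zero]
    have hperp : ∀ z ∈ X, f z u = 0 := fun z hz => by
      rcases hdich z hz u hu v hv huv0 hxu hxv with h | h
      · exact h
      · have h3 := (hX z hz).2.1
        rwa [← huv, hs.add_right, h, add_zero] at h3
    obtain ⟨t, z, hz, hzt⟩ : ∃ t : F, ∃ z ∈ X, u = t • x + z := by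
      obtain ⟨d, hd⟩ : ∃ d, (g : Mn) *ᵥ d = u := ⟨_, mulVec_inv_cancel g u⟩
      obtain ⟨d₁, hd₁, d₂, hd₂, rfl⟩ := Submodule.mem_sup.1 (htop ▸ Submodule.mem_top : d ∈ A ⊔ B)
      have hd1 : d₁ ∈ Submodule.span F {p} := hs.comp hAA htop hp hd₁ hp0 fun b hb hbp => by
        have h3 := hperp _ ⟨b, ⟨hb, hbp⟩, hgla b⟩
        rwa [← hd, hMi g hg, hs.add_right, hBB b hb d₂ hd₂, add_zero] at h3
      obtain ⟨t, rfl⟩ := Submodule.mem_span_singleton.1 hd1
      have hd2 : f d₂ p = 0 := by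
        refine hs.refl _ _ ?_
        have h3 : f x u = 0 := hxu
        rwa [hx, ← hd, hMi g hg, hs.add_right, hs.smul_right, hAA p hp p hp, mul_zero, zero_add] at h3
      exact ⟨t, _, ⟨d₂, ⟨hd₂, hd2⟩, rfl⟩, by rw [hgla, ← hd, Matrix.mulVec_add, Matrix.mulVec_smul, ← hx]⟩
    obtain ⟨α, β, hαβ, hzuv⟩ : ∃ α β : F, α - β = 1 ∧ z = α • u + β • v :=
      ⟨1 - t, -t, by ring, by rw [eq_sub_of_add_eq' hzt.symm, ← huv]; module⟩
    have hα : α ≠ 0 := fun h => by
      have h3 := hXB z hz (by rw [hzuv, h, zero_smul, zero_add]; exact B.smul_mem β hv)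
      rw [hzuv, h, zero_smul, zero_add, smul_eq_zero, or_iff_left hv0] at h3
      rw [h, h3, sub_zero] at hαβ
      exact zero_ne_one hαβ
    obtain ⟨w, hwm, hwu⟩ : ∃ w ∈ A ⊓ LinearMap.ker (hs.lin v), w ∉ Submodule.span F {u} := by
      refine SetLike.not_le_iff_exists.1 fun hle => ?_
      have h3 := Submodule.finrank_mono hle
      have h4 := finrank_le_inf_ker_add_one A (hs.lin v)
      rw [finrank_span_singleton hu0] at h3
      omega
    obtain ⟨hwA, hwv'⟩ := hwm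
    have hwv : f w v = 0 := hwv'
    have hvw : f v w = 0 := hs.refl _ _ hwv
    have hww := hAA w hwA w hwA
    have huw := hAA u hu w hwA
    have hwu' := hAA w hwA u hu
    have hw0 : w ≠ 0 := fun h => hwu (h ▸ zero_mem _)
    -- a pair of transvections at `u` and `v`
    have hTT : ∀ l : F, ∃ T ∈ M, ∀ y : V, (T : Mn) *ᵥ y = y + ((σ (l * α) + e * (l * α)) * f y u) • u +
        ((σ (l * β) + e * (l * β)) * f y v) • v := by
      intro l
      obtain ⟨t₁, ht₁, e₁⟩ := (hX z hz).2.2 l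
      obtain ⟨t₂, ht₂, e₂⟩ := hDJ u hu v hv huv0 (-(l * α))
      obtain ⟨t₃, ht₃, e₃⟩ := hDJ' v hv u hu hvu (-(l * β))
      refine ⟨t₁ * t₂ * t₃, mul_mem (mul_mem ht₁ ht₂) ht₃, fun y => ?_⟩
      rw [Units.val_mul, Units.val_mul, ← Matrix.mulVec_mulVec, ← Matrix.mulVec_mulVec, e₃, e₂, e₁]
      simp only [hzuv, ← huv, hs.add_left, hs.add_right, hs.smul_left, hs.smul_right, map_neg, map_mul, huu, hvv,
        huv0, hvu, mul_zero, add_zero]
      module
    have hF : ∀ (l c : F), ∃ T ∈ M, ∀ y : V, (T : Mn) *ᵥ y =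
        y + ((σ (l * α) + e * (l * α)) * f y (u + c • w)) • (u + c • w) +
          ((σ (l * β) + e * (l * β)) * f y v) • v := by
      intro l c
      obtain ⟨T, hT, hTy⟩ := hTT l
      obtain ⟨b, hb, hbw, hbu⟩ : ∃ b ∈ B, f b w = 0 ∧ f b u ≠ 0 := by
        by_contra hno
        push Not at hno
        obtain ⟨r, hr⟩ := Submodule.mem_span_singleton.1 (hs.comp hAA htop hwA hu hw0 hno)
        refine hwu (Submodule.mem_span_singleton.2 ⟨r⁻¹, ?_⟩)
        rw [← hr, smul_smul, inv_mul_cancel₀ (fun h => hu0 (by rw [← hr, h, zero_smul])), one_smul]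
      have hub : f u b ≠ 0 := fun h => hbu (hs.refl _ _ h)
      have hwb : f w b = 0 := hs.refl _ _ hbw
      obtain ⟨k, hk, hky⟩ := hDJ w hwA b hb hwb (c / (e * f u b))
      have hku : (k : Mn) *ᵥ u = u + c • w := by
        rw [hky, hs.smul_right, huw, mul_zero, zero_smul, add_zero, smul_smul, mul_comm (e * f u b),
          div_mul_cancel₀ _ (mul_ne_zero hs.e_ne hub)]
      have hkv : (k : Mn) *ᵥ v = v := by
        rw [hky, hs.smul_right, hvw, hBB v hv b hb, mul_zero, mul_zero, zero_smul, zero_smul, add_zero, add_zero]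
      refine ⟨k * T * k⁻¹, mul_mem (mul_mem hk hT) (inv_mem hk), fun y => ?_⟩
      obtain ⟨y', rfl⟩ : ∃ y', (k : Mn) *ᵥ y' = y := ⟨_, mulVec_inv_cancel k y⟩
      conv_rhs => rw [← hku, ← hkv, hMi k hk, hMi k hk]
      rw [Units.val_mul, Units.val_mul, ← Matrix.mulVec_mulVec, ← Matrix.mulVec_mulVec, inv_mulVec_cancel, hTy,
        Matrix.mulVec_add, Matrix.mulVec_add, Matrix.mulVec_smul, Matrix.mulVec_smul]
    refine noA w hwA hw0 ⟨hww, fun τ hτ => ?_⟩
    obtain ⟨c, hc⟩ := hs.exists_add_invol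
    have hcs : σ (c + σ c) = c + σ c := by rw [map_add, hs.invol, add_comm]
    obtain ⟨μ, hμ⟩ := hs.exists_trace (τ := -(τ / (c + σ c))) (by rw [map_neg, map_div₀, hτ, hcs]; ring)
    have hl : μ / α * α = μ := div_mul_cancel₀ _ hα
    obtain ⟨T₁, hT₁, e₁⟩ := hF (μ / α) 1
    obtain ⟨T₂, hT₂, e₂⟩ := hF (μ / α) c
    obtain ⟨T₃, hT₃, e₃⟩ := hF (-(μ / α)) (1 + c)
    obtain ⟨T₄, hT₄, e₄⟩ := hF (-(μ / α)) 0
    refine ⟨T₁ * T₂ * T₃ * T₄, mul_mem (mul_mem (mul_mem hT₁ hT₂) hT₃) hT₄, fun y => ?_⟩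
    have hτ' : τ = -((σ μ + e * μ) * (c + σ c)) := by rw [hμ, neg_mul, neg_neg, div_mul_cancel₀ _ hc]
    rw [Units.val_mul, Units.val_mul, Units.val_mul, ← Matrix.mulVec_mulVec, ← Matrix.mulVec_mulVec,
      ← Matrix.mulVec_mulVec, e₄, e₃, e₂, e₁, hτ']
    simp only [hl, neg_mul, map_neg, hs.add_left, hs.add_right, hs.smul_left, hs.smul_right, map_one,
      map_add, huu, hvv, huv0, hvu, hww, huw, hwu', hwv, hvw, mul_zero, add_zero, zero_smul,
      one_smul]
    module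
  · -- the components of `X` are proportional to those of `x`
    have hvu : f v u ≠ 0 := fun h => huv0 (hs.refl _ _ h)
    have hor : ∀ z ∈ X, z ∈ Submodule.span F {u} ⊔ B ∨ z ∈ A ⊔ Submodule.span F {v} := by
      intro z hz
      obtain ⟨z₁, h₁, z₂, h₂, hzz⟩ := Submodule.mem_sup.1 (htop ▸ Submodule.mem_top : z ∈ A ⊔ B)
      rw [← hzz]
      refine or_iff_not_imp_left.2 fun hne => Submodule.add_mem_sup h₁ ?_
      obtain ⟨b₀, hb₀, hb₀u, hb₀z⟩ : ∃ b ∈ B, f b u = 0 ∧ f b z ≠ 0 := by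
        by_contra hno
        push Not at hno
        refine hne (Submodule.add_mem_sup (hs.comp hAA htop hu h₁ hu0 fun b hb hbu => ?_) h₂)
        have h3 := hno b hb hbu
        rwa [← hzz, hs.add_right, hBB b hb z₂ h₂, add_zero] at h3
      refine hs.comp hBB htop' hv h₂ hv0 fun a ha hav => ?_
      by_contra hazne
      have hza : f z a ≠ 0 := fun h => hazne (by
        rw [← hzz, hs.add_left, hAA z₁ h₁ a ha, zero_add] at h
        exact hs.refl _ _ h)
      obtain ⟨a', ⟨ha'A, ha'v⟩, hza', hna⟩ : ∃ a' ∈ A ⊓ LinearMap.ker (hs.lin v), f z a' ≠ 0 ∧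
          a' ∉ Submodule.span F {a} := by
        obtain ⟨w, hw, hwa⟩ : ∃ w ∈ A ⊓ LinearMap.ker (hs.lin v), w ∉ Submodule.span F {a} := by
          refine SetLike.not_le_iff_exists.1 fun hle => ?_
          have h3 := Submodule.finrank_mono hle
          have h4 := finrank_le_inf_ker_add_one A (hs.lin v)
          rw [finrank_span_singleton (fun h : a = 0 => hza (by rw [h, hs.zero_right]))] at h3
          omega
        by_cases hzw : f z w = 0
        · refine ⟨w + a, add_mem hw ⟨ha, hav⟩, by rwa [hs.add_right, hzw, zero_add], fun h => hwa ?_⟩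
          simpa using sub_mem h (Submodule.mem_span_singleton_self a)
        · exact ⟨w, hw, hzw, hwa⟩
      have ha'v' : f a' v = 0 := ha'v
      obtain ⟨b₁, hb₁, hb₁u, hb₁a, hb₁a'⟩ : ∃ b ∈ B, f b u = 0 ∧ f b a = 0 ∧ f b a' ≠ 0 := by
        by_contra hno
        push Not at hno
        refine hna (hs.comp hAA htop ha ha'A (fun h : a = 0 => hza (by rw [h, hs.zero_right])) fun b hb hba => ?_)
        have h3 := hno (b - (f b u / f v u) • v) (B.sub_mem hb (B.smul_mem _ hv))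
          (by rw [sub_eq_add_neg, ← neg_smul, hs.add_left, hs.smul_left, neg_mul, div_mul_cancel₀ _ hvu,
            add_neg_cancel])
          (by rw [sub_eq_add_neg, ← neg_smul, hs.add_left, hs.smul_left, hs.refl _ _ hav, hba, mul_zero,
            add_zero])
        rwa [sub_eq_add_neg, ← neg_smul, hs.add_left, hs.smul_left, hs.refl _ _ ha'v', mul_zero, add_zero] at h3
      have key : ∀ a ∈ A, f a v = 0 → ∀ b ∈ B, f b u = 0 → f b a = 0 → f z a ≠ 0 → f b z = 0 := by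
        intro a ha hav b hb hbu hba hza
        refine hs.refl _ _ ((hdich z hz a ha b hb (hs.refl _ _ hba) ?_ ?_).resolve_left hza)
        · rw [← huv, hs.add_left, hAA u hu a ha, hs.refl _ _ hav, add_zero]
        · rw [← huv, hs.add_left, hs.refl _ _ hbu, hBB v hv b hb, add_zero]
      obtain ⟨r, hr⟩ : ∃ r, r * f b₁ a' = f b₀ a' := ⟨_, div_mul_cancel₀ _ hb₁a'⟩
      have h5 := key a' ha'A ha'v' (b₀ - r • b₁) (B.sub_mem hb₀ (B.smul_mem r hb₁))
        (by rw [sub_eq_add_neg, ← neg_smul, hs.add_left, hs.smul_left, hb₀u, hb₁u, mul_zero, add_zero])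
        (by rw [sub_eq_add_neg, ← neg_smul, hs.add_left, hs.smul_left, neg_mul, hr, add_neg_cancel]) hza'
      rw [sub_eq_add_neg, ← neg_smul, hs.add_left, hs.smul_left, key a ha hav b₁ hb₁ hb₁u hb₁a hza, mul_zero,
        add_zero] at h5
      exact hb₀z h5
    have side : ∀ (B : Submodule F V) (u : V), u ≠ 0 → 3 ≤ finrank F B → finrank F B ≤ finrank F X + 1 →
        X ≤ Submodule.span F {u} ⊔ B → ∃ z ∈ X, z ∈ B ∧ z ≠ 0 := by
      intro B u hu0 hB3 hXd hle
      obtain ⟨z, hz, hz0⟩ : ∃ z ∈ X ⊓ B, z ≠ 0 := by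
        refine Submodule.exists_mem_ne_zero_of_ne_bot fun hbot => ?_
        have h1 := Submodule.finrank_sup_add_finrank_inf_eq X B
        rw [hbot, finrank_bot] at h1
        have h2 := (Submodule.finrank_mono (sup_le hle (le_sup_right : B ≤ _ ⊔ B))).trans
          (Submodule.finrank_add_le_finrank_add_finrank _ _)
        rw [finrank_span_singleton hu0] at h2
        omega
      exact ⟨z, hz.1, hz.2, hz0⟩
    by_cases hle : X ≤ Submodule.span F {u} ⊔ B
    · obtain ⟨z, hz, hzB, hz0⟩ := side B u hu0 hB3 hXd hle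
      exact hz0 (hXB z hz hzB)
    · obtain ⟨z₀, hz₀, hz₀'⟩ := SetLike.not_le_iff_exists.1 hle
      have hle' : X ≤ Submodule.span F {v} ⊔ A := fun z hz => by
        rw [sup_comm]
        rcases hor z hz with h | h
        · rcases hor (z₀ + z) (add_mem hz₀ hz) with h' | h'
          · exact absurd (by simpa using sub_mem h' h) hz₀'
          · simpa using sub_mem h' ((hor z₀ hz₀).resolve_left hz₀')
        · exact h
      obtain ⟨z, hz, hzA, hz0⟩ := side A v hv0 hA3 (hAB.le.trans hXd) hle'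
      exact hz0 (hXA z hz hzA)

/-! ### Two-dimensional isotropic subspaces -/

/-- The torus element scaling `w` by `μ` and `b` by its inverse. -/
theorem Skew.exists_torus [Finite F] (hs : Skew σ f e) (he : e = -1) {μ : F} (hμ : σ μ = μ) (hμ0 : μ ≠ 0)
    {w b : V} (hww : f w w = 0) (hbb : f b b = 0) (hwb : f w b = 1) :
    ∃ t : GL ι F, (∀ u v, f ((t : Mn) *ᵥ u) ((t : Mn) *ᵥ v) = f u v) ∧ t ∈ Geo.specialLinear ι F ∧
      ∀ y, (t : Mn) *ᵥ y = y + ((μ - 1) * f y b) • w + ((μ⁻¹ - 1) * f y w) • b := by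
  have hbw : f b w = 1 := by rw [hs.skew w b, hwb, map_one, he]; ring
  let L : V →ₗ[F] V := LinearMap.id + ((μ - 1) • hs.lin b).smulRight w + ((μ⁻¹ - 1) • hs.lin w).smulRight b
  have hL : ∀ y, L y = y + ((μ - 1) * f y b) • w + ((μ⁻¹ - 1) * f y w) • b := fun y => rfl
  have hiso : ∀ u v, f (L u) (L v) = f u v := fun u v => by
    simp only [hL, hs.add_left, hs.add_right, hs.smul_left, hs.smul_right, hww, hbb, hwb, hbw, map_mul, map_sub,
      map_one, map_inv₀, hμ]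
    rw [hs.skew v w, hs.skew v b, he]
    field_simp
    ring
  obtain ⟨t, ht⟩ := exists_gl_of_injective L fun u v huv => by
    refine sub_eq_zero.1 (hs.eq_zero _ fun z => ?_)
    have h0 : f (L (u - v)) (L z) = 0 := by rw [map_sub, huv, sub_self, hs.zero_left]
    rw [hiso] at h0
    exact hs.refl _ _ h0
  refine ⟨t, fun u v => by rw [ht, ht, hiso], MonoidHom.mem_ker.2 (Units.ext ?_), fun y => by rw [ht, hL]⟩
  rw [Matrix.GeneralLinearGroup.val_det_apply,
    det_rank_two (φ := (μ - 1) • fn f b) (ψ := (μ⁻¹ - 1) • fn f w) (a := w) (b := b)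
      fun y => by rw [ht, hL, smul_dotProduct, smul_dotProduct, fn_dot hs.toSesq, fn_dot hs.toSesq, smul_eq_mul,
        smul_eq_mul]]
  simp only [smul_dotProduct, fn_dot hs.toSesq, hww, hbb, hwb, hbw, smul_eq_mul, Units.val_one]
  field_simp
  ring

theorem Skew.exists_pure_two [Finite F] (hs : Skew σ f e) (he : e = -1) {A B : Submodule F V}
    (hAA : ∀ y ∈ A, ∀ z ∈ A, f y z = 0)
    (hBB : ∀ y ∈ B, ∀ z ∈ B, f y z = 0) (htop : A ⊔ B = ⊤) (hdisj : A ⊓ B = ⊥) (hA2 : finrank F A = 2)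
    (hB2 : finrank F B = 2) (hDJ : ∀ a ∈ A, ∀ b ∈ B, f a b = 0 → DJ f e M a b)
    (hstab : ∀ t : GL ι F, (∀ p q, f ((t : Mn) *ᵥ p) ((t : Mn) *ᵥ q) = f p q) → t ∈ Geo.specialLinear ι F →
      (∀ y ∈ A, (t : Mn) *ᵥ y ∈ A) → (∀ y ∈ B, (t : Mn) *ᵥ y ∈ B) → t ∈ M)
    {μ : F} (hμ : σ μ = μ) (hμ0 : μ ≠ 0) (hμ1 : μ * μ ≠ 1)
    (hMi : ∀ g ∈ M, ∀ p q, f ((g : Mn) *ᵥ p) ((g : Mn) *ᵥ q) = f p q) {g : GL ι F} (hg : g ∈ M) {p : V}
    (hp : p ∈ A) (hgA : (g : Mn) *ᵥ p ∉ A) (hgB : (g : Mn) *ᵥ p ∉ B) :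
    ∃ w, w ≠ 0 ∧ (w ∈ A ∨ w ∈ B) ∧ Ct σ f e M w := by
  by_contra hcon
  push Not at hcon
  have hp0 : p ≠ 0 := fun h => hgA (by rw [h, Matrix.mulVec_zero]; exact zero_mem _)
  obtain ⟨x, hx⟩ : ∃ x, x = (g : Mn) *ᵥ p := ⟨_, rfl⟩
  rw [← hx] at hgA hgB
  have hxx : f x x = 0 := by rw [hx, hMi g hg]; exact hAA p hp p hp
  have hnox : ¬ Ct σ f e M x := fun h => hcon p hp0 (Or.inl hp) (by
    have := hs.ct_map h (inv_mem hg) (hMi _ (inv_mem hg))
    rwa [hx, inv_mulVec_cancel] at this)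
  -- a short root element through `x`
  obtain ⟨z, hz, hzx⟩ : ∃ z, Cn f e M x z ∧ ∀ r : F, z ≠ r • x := by
    obtain ⟨b, ⟨hb, hbp⟩, hb0⟩ := Submodule.exists_mem_ne_zero_of_ne_bot (p := B ⊓ LinearMap.ker (hs.lin p))
      fun e0 => by
        have := finrank_le_inf_ker_add_one B (hs.lin p)
        rw [e0, finrank_bot] at this
        omega
    refine ⟨(g : Mn) *ᵥ b, hx ▸ hs.cn_map (hs.cn_symm (hBB b hb b hb) ⟨hAA p hp p hp, hs.refl _ _ hbp,
      hDJ p hp b hb (hs.refl _ _ hbp)⟩) hg (hMi g hg), fun r h => hb0 ?_⟩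
    have h1 : b = r • p := gl_mulVec_injective g (by
      show (g : Mn) *ᵥ b = (g : Mn) *ᵥ (r • p)
      rw [Matrix.mulVec_smul, ← hx, h])
    have h2 : b ∈ A ⊓ B := ⟨h1 ▸ A.smul_mem r hp, hb⟩
    rwa [hdisj, Submodule.mem_bot] at h2
  have horth : ∀ z z', Cn f e M x z → Cn f e M x z' → f z' z = 0 := fun z z' h h' => by
    by_contra hne
    exact hnox (hs.heis hxx h h' hne)
  obtain ⟨u, hu, v, hv, huv⟩ := Submodule.mem_sup.1 (htop ▸ Submodule.mem_top : x ∈ A ⊔ B)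
  have hu0 : u ≠ 0 := fun h => hgB (by rw [← huv, h, zero_add]; exact hv)
  have hv0 : v ≠ 0 := fun h => hgA (by rw [← huv, h, add_zero]; exact hu)
  have huu := hAA u hu u hu
  have hvv := hBB v hv v hv
  -- a line of each subspace perpendicular to the other component
  obtain ⟨w, ⟨hwA, hwv'⟩, hw0⟩ := Submodule.exists_mem_ne_zero_of_ne_bot (p := A ⊓ LinearMap.ker (hs.lin v))
    fun e0 => by
      have := finrank_le_inf_ker_add_one A (hs.lin v)
      rw [e0, finrank_bot] at this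
      omega
  have hwv : f w v = 0 := hwv'
  have hvw : f v w = 0 := hs.refl _ _ hwv
  have hww := hAA w hwA w hwA
  have hlineA : ∀ a ∈ A, f a v = 0 → a ∈ Submodule.span F {w} := fun a ha hav => by
    have hlt : A ⊓ LinearMap.ker (hs.lin v) < A := lt_of_le_of_ne inf_le_left fun e0 => hv0 (by
      refine hs.eq_zero _ fun y => ?_
      obtain ⟨y₁, h₁, y₂, h₂, rfl⟩ := Submodule.mem_sup.1 (htop ▸ Submodule.mem_top : y ∈ A ⊔ B)
      rw [hs.add_left, hBB y₂ h₂ v hv, add_zero]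
      exact LinearMap.mem_ker.1 (e0.symm ▸ h₁).2)
    have h1 := Submodule.finrank_lt_finrank_of_lt hlt
    have h2 : Submodule.span F {w} = A ⊓ LinearMap.ker (hs.lin v) := Submodule.eq_of_le_of_finrank_le
      (by rw [Submodule.span_singleton_le_iff_mem]; exact ⟨hwA, hwv'⟩)
      (by rw [finrank_span_singleton hw0]; omega)
    rw [h2]; exact ⟨ha, LinearMap.mem_ker.2 hav⟩
  by_cases huv0 : f u v = 0
  · have hvu : f v u = 0 := hs.refl _ _ huv0
    obtain ⟨c, hc⟩ := Submodule.mem_span_singleton.1 (hlineA u hu huv0)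
    have hxu : f x u = 0 := by rw [← huv, hs.add_left, huu, hvu, add_zero]
    have hxv : f x v = 0 := by rw [← huv, hs.add_left, huv0, hvv, add_zero]
    have hzu : f z u = 0 := by
      by_contra hne
      have hzv : f z v ≠ 0 := fun h => hne (by
        have h3 := hz.2.1
        rwa [← huv, hs.add_right, h, add_zero] at h3)
      obtain ⟨μ', hμ'⟩ := hs.trace
      have hne' : f z v * σ (f z u) ≠ 0 := mul_ne_zero hzv ((map_ne_zero σ).2 hne)
      obtain ⟨l, hl⟩ : ∃ l : F, l * (f z v * σ (f z u)) = μ' := ⟨_, div_mul_cancel₀ μ' hne'⟩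
      obtain ⟨k, hk, hkx⟩ := hDJ u hu v hv huv0 l
      have hkfix : (k : Mn) *ᵥ x = x := by simp [hkx, hs.smul_right, hxu, hxv]
      have h1 := hs.cn_map hz hk (hMi k hk)
      rw [hkfix] at h1
      have h2 := horth z _ hz h1
      rw [hkx, hs.add_left, hs.add_left, hs.smul_left, hs.smul_left, hs.smul_left, hs.smul_right, hz.1,
        hs.skew z v, hs.skew z u] at h2
      have h3 : σ μ' = σ l * (σ (f z v) * f z u) := by rw [← hl, map_mul, map_mul, hs.invol]
      refine hμ' ?_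
      rw [h3, ← hl]
      linear_combination (-e) * h2 - (σ l * (f z u * σ (f z v))
        + e * (l * (f z v * σ (f z u)))) * hs.sq
    have hzv : f z v = 0 := by
      have h3 := hz.2.1
      rwa [← huv, hs.add_right, hzu, zero_add] at h3
    obtain ⟨z₁, h₁, z₂, h₂, hzz⟩ := Submodule.mem_sup.1 (htop ▸ Submodule.mem_top : z ∈ A ⊔ B)
    obtain ⟨α, hα⟩ : ∃ α : F, z₁ = α • u := by
      obtain ⟨d, hd⟩ := Submodule.mem_span_singleton.1 (hlineA z₁ h₁ (by
        rwa [← hzz, hs.add_left, hBB z₂ h₂ v hv, add_zero] at hzv))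
      have hc0 : c ≠ 0 := fun h => hu0 (by rw [← hc, h, zero_smul])
      exact ⟨d / c, by rw [← hc, smul_smul, div_mul_cancel₀ _ hc0, hd]⟩
    obtain ⟨β, hβ⟩ : ∃ β : F, z₂ = β • v := by
      obtain ⟨r, hr⟩ := Submodule.mem_span_singleton.1 (hs.comp hBB (by rw [sup_comm, htop]) hv h₂ hv0
        fun a ha hav => by
          obtain ⟨d, hd⟩ := Submodule.mem_span_singleton.1 (hlineA a ha hav)
          have hc0 : c ≠ 0 := fun h => hu0 (by rw [← hc, h, zero_smul])
          rw [show a = (d / c) • u by rw [← hc, smul_smul, div_mul_cancel₀ _ hc0, hd], hs.smul_left]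
          rw [← hzz, hs.add_left, hAA z₁ h₁ u hu, zero_add] at hzu
          rw [hs.refl _ _ hzu, mul_zero])
      exact ⟨r, hr.symm⟩
    have hzuv : z = α • u + β • v := by rw [← hzz, hα, hβ]
    have hTT : ∀ l : F, ∃ T ∈ M, ∀ y : V, (T : Mn) *ᵥ y = y + ((σ (l * α) + e * (l * α)) * f y u) • u +
        ((σ (l * β) + e * (l * β)) * f y v) • v := by
      intro l
      obtain ⟨t₁, ht₁, e₁⟩ := hz.2.2 l
      obtain ⟨t₂, ht₂, e₂⟩ := hDJ u hu v hv huv0 (-(l * α))
      obtain ⟨t₃, ht₃, e₃⟩ := hs.dj_symm (hDJ u hu v hv huv0) (-(l * β))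
      refine ⟨t₁ * t₂ * t₃, mul_mem (mul_mem ht₁ ht₂) ht₃, fun y => ?_⟩
      rw [Units.val_mul, Units.val_mul, ← Matrix.mulVec_mulVec, ← Matrix.mulVec_mulVec, e₃, e₂, e₁]
      simp only [hzuv, ← huv, hs.add_left, hs.add_right, hs.smul_left, hs.smul_right, map_neg, map_mul, huu, hvv,
        huv0, hvu, mul_zero, add_zero]
      module
    have hσ : ∀ a : F, σ (σ a + e * a) = e * (σ a + e * a) := fun a => by
      rw [map_add, map_mul, hs.invol, hs.fix]; linear_combination (-a) * hs.sq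
    -- one of the two coefficients can be killed alone
    have one : ∀ (a a' : V) (α β : F), f a a = 0 → (∀ l : F, ∃ T ∈ M, ∀ y : V, (T : Mn) *ᵥ y =
        y + ((σ (l * α) + e * (l * α)) * f y a') • a' + ((σ (l * β) + e * (l * β)) * f y a) • a) →
        (∃ l, σ (l * α) + e * (l * α) = 0 ∧ σ (l * β) + e * (l * β) ≠ 0) → Ct σ f e M a := by
      intro a a' α β haa hT ⟨l, h0, h1⟩
      refine ⟨haa, fun τ hτ => ?_⟩
      obtain ⟨m, hm⟩ : ∃ m, m = τ / (σ (l * β) + e * (l * β)) := ⟨_, rfl⟩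
      have hσm : σ m = m := by rw [hm, map_div₀, hτ, hσ, mul_div_mul_left _ _ hs.e_ne]
      obtain ⟨T, hT, hTy⟩ := hT (m * l)
      refine ⟨T, hT, fun y => ?_⟩
      rw [hTy, mul_assoc m l α, mul_assoc m l β, map_mul σ m (l * α), map_mul σ m (l * β), hσm,
        show m * σ (l * α) + e * (m * (l * α)) = m * (σ (l * α) + e * (l * α)) by ring, h0, mul_zero, zero_mul,
        zero_smul, add_zero, show m * σ (l * β) + e * (m * (l * β)) = m * (σ (l * β) + e * (l * β)) by ring, hm,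
        div_mul_cancel₀ _ h1]
    obtain ⟨μ', hμ'⟩ := hs.trace
    by_cases hα0 : α = 0
    · have hβ0 : β ≠ 0 := fun h => hzx 0 (by rw [hzuv, hα0, h, zero_smul, zero_smul, zero_smul, add_zero])
      exact hcon v hv0 (Or.inr hv) (one v u α β hvv hTT ⟨μ' / β, by rw [hα0, mul_zero, map_zero, mul_zero, add_zero],
        by rwa [div_mul_cancel₀ _ hβ0]⟩)
    by_cases hβ0 : β = 0
    · refine hcon u hu0 (Or.inl hu) (one u v β α huu (fun l => (hTT l).imp fun T hT => ⟨hT.1, fun y => by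
        rw [hT.2, add_right_comm]⟩) ⟨μ' / α, by rw [hβ0, mul_zero, map_zero, mul_zero, add_zero],
        by rwa [div_mul_cancel₀ _ hα0]⟩)
    obtain ⟨r, hr⟩ : ∃ r, r = β / α := ⟨_, rfl⟩
    by_cases hrσ : σ r = r
    swap
    · refine hcon v hv0 (Or.inr hv) (one v u α β hvv hTT ⟨α⁻¹, ?_, ?_⟩)
      · rw [inv_mul_cancel₀ hα0, map_one, he]; ring
      · rw [show α⁻¹ * β = r by rw [hr]; ring, he]
        intro h; exact hrσ (by linear_combination h)
    -- conjugate by a torus element fixing `u`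
    obtain ⟨a, ⟨haA, hav⟩⟩ : ∃ a, a ∈ A ∧ f a v ≠ 0 := by
      obtain ⟨y, hy⟩ := hs.exists_left hv0
      obtain ⟨y₁, h₁, y₂, h₂, rfl⟩ := Submodule.mem_sup.1 (htop ▸ Submodule.mem_top : y ∈ A ⊔ B)
      rw [hs.add_left, hBB y₂ h₂ v hv, add_zero] at hy
      exact ⟨y₁, h₁, hy⟩
    obtain ⟨a', ha'⟩ : ∃ a', a' = (f a v)⁻¹ • a := ⟨_, rfl⟩
    have ha'A : a' ∈ A := ha' ▸ A.smul_mem _ haA
    obtain ⟨t, hti, htd, hty⟩ := hs.exists_torus he hμ hμ0 (hAA a' ha'A a' ha'A) hvv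
      (by rw [ha', hs.smul_left, inv_mul_cancel₀ hav])
    have htM : t ∈ M := hstab t hti htd
      (fun y hy => by rw [hty, hAA y hy a' ha'A, mul_zero, zero_smul, add_zero]; exact add_mem hy (A.smul_mem _ ha'A))
      (fun y hy => by rw [hty, hBB y hy v hv, mul_zero, zero_smul, add_zero]; exact add_mem hy (B.smul_mem _ hv))
    have hva' : f v a' = 1 := by
      rw [hs.skew a' v, ha', hs.smul_left, inv_mul_cancel₀ hav, map_one, he]; ring
    have htu : (t : Mn) *ᵥ u = u := by rw [hty, huv0, hAA u hu a' ha'A]; simp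
    have htv : (t : Mn) *ᵥ v = μ⁻¹ • v := by
      rw [hty, hvv, hva', mul_zero, zero_smul, add_zero, mul_one]; module
    refine hcon v hv0 (Or.inr hv) ⟨hvv, fun τ hτ => ?_⟩
    obtain ⟨m, hm⟩ := hs.exists_trace (τ := τ / (r * (μ⁻¹ * μ⁻¹ - 1))) (by
      rw [map_div₀, hτ, map_mul, map_sub, map_mul, map_inv₀, map_one, hμ, hrσ, mul_div_assoc])
    obtain ⟨T, hT, hTy⟩ := hTT (m / α)
    obtain ⟨T', hT', hTy'⟩ := hTT (-(m / α))
    have e1 : m / α * α = m := div_mul_cancel₀ _ hα0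
    have e2 : m / α * β = r * m := by rw [hr]; ring
    refine ⟨t * T * t⁻¹ * T', mul_mem (mul_mem (mul_mem htM hT) (inv_mem htM)) hT', fun y => ?_⟩
    obtain ⟨y', hy'⟩ : ∃ y', (t : Mn) *ᵥ y' = (T' : Mn) *ᵥ y := ⟨_, mulVec_inv_cancel t _⟩
    rw [Units.val_mul, Units.val_mul, Units.val_mul, ← Matrix.mulVec_mulVec, ← Matrix.mulVec_mulVec,
      ← Matrix.mulVec_mulVec, ← hy', inv_mulVec_cancel, hTy, Matrix.mulVec_add, Matrix.mulVec_add,
      Matrix.mulVec_smul, Matrix.mulVec_smul, ← hMi t htM y' u, ← hMi t htM y' v, htu, htv, hy', hTy']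
    have hr0 : r ≠ 0 := hr ▸ div_ne_zero hβ0 hα0
    have hμi : μ⁻¹ * μ⁻¹ - 1 ≠ 0 := fun h => hμ1 (by field_simp at h; linear_combination -h)
    have hτ' : τ = r * (μ⁻¹ * μ⁻¹ - 1) * (σ m + e * m) := by
      rw [hm, mul_div_cancel₀ _ (mul_ne_zero hr0 hμi)]
    simp only [neg_mul, e1, e2, map_neg, map_mul, hrσ, hs.add_left, hs.smul_left, hs.smul_right, map_inv₀, hμ, huu,
      hvv, huv0, hvu, mul_zero, add_zero, zero_add]
    rw [hτ']
    module
  · -- the components of `x` are not orthogonal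
    have hvu : f v u ≠ 0 := fun h => huv0 (hs.refl _ _ h)
    obtain ⟨b₀, ⟨hb₀, hb₀u'⟩, hb₀0⟩ := Submodule.exists_mem_ne_zero_of_ne_bot (p := B ⊓ LinearMap.ker (hs.lin u))
      fun e0 => by
        have := finrank_le_inf_ker_add_one B (hs.lin u)
        rw [e0, finrank_bot] at this
        omega
    have hb₀u : f b₀ u = 0 := hb₀u'
    have hwb₀ : f w b₀ ≠ 0 := fun h => by
      -- then `b₀` is perpendicular to everything
      have huw : u ∉ Submodule.span F {w} := fun hm => huv0 (by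
        obtain ⟨d, rfl⟩ := Submodule.mem_span_singleton.1 hm
        rw [hs.smul_left, hwv, mul_zero])
      have hA' : Submodule.span F {w} ⊔ Submodule.span F {u} = A := Submodule.eq_of_le_of_finrank_le
        (sup_le (by simpa using hwA) (by simpa using hu)) (by
          have h1 : finrank F (Submodule.span F {w}) < finrank F (Submodule.span F {w} ⊔ Submodule.span F {u} : Submodule F V) :=
            Submodule.finrank_lt_finrank_of_lt (lt_of_le_of_ne le_sup_left fun e0 =>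
              huw (e0 ▸ Submodule.mem_sup_right (Submodule.mem_span_singleton_self u)))
          rw [finrank_span_singleton hw0] at h1
          omega)
      refine hb₀0 (hs.eq_zero _ fun y => ?_)
      obtain ⟨y₁, h₁, y₂, h₂, rfl⟩ := Submodule.mem_sup.1 (htop ▸ Submodule.mem_top : y ∈ A ⊔ B)
      rw [hs.add_left, hBB y₂ h₂ b₀ hb₀, add_zero]
      rw [← hA'] at h₁
      obtain ⟨q₁, hq₁, q₂, hq₂, rfl⟩ := Submodule.mem_sup.1 h₁
      obtain ⟨d, rfl⟩ := Submodule.mem_span_singleton.1 hq₁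
      obtain ⟨d', rfl⟩ := Submodule.mem_span_singleton.1 hq₂
      rw [hs.add_left, hs.smul_left, hs.smul_left, h, hs.refl _ _ hb₀u, mul_zero, mul_zero, add_zero]
    obtain ⟨b, hb⟩ : ∃ b, b = σ.symm ((f w b₀)⁻¹) • b₀ := ⟨_, rfl⟩
    have hbB : b ∈ B := hb ▸ B.smul_mem _ hb₀
    have hwb : f w b = 1 := by
      rw [hb, hs.smul_right, RingEquiv.apply_symm_apply, inv_mul_cancel₀ hwb₀]
    have hbw : f b w = 1 := by rw [hs.skew w b, hwb, map_one, he]; ring
    have hbu : f b u = 0 := by rw [hb, hs.smul_left, hb₀u, mul_zero]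
    have hub : f u b = 0 := hs.refl _ _ hbu
    have hbb := hBB b hbB b hbB
    have hbv := hBB b hbB v hv
    have huw := hAA u hu w hwA
    have hwu := hAA w hwA u hu
    have hvb := hBB v hv b hbB
    have hxw : f x w = 0 := by rw [← huv, hs.add_left, huw, hvw, add_zero]
    have hwx : f w x = 0 := hs.refl _ _ hxw
    have hxb : f x b = 0 := by rw [← huv, hs.add_left, hub, hvb, add_zero]
    have hbx : f b x = 0 := hs.refl _ _ hxb
    obtain ⟨t, hti, htd, hty⟩ := hs.exists_torus he hμ hμ0 hww hbb hwb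
    have htM : t ∈ M := hstab t hti htd
      (fun y hy => by rw [hty, hAA y hy w hwA, mul_zero, zero_smul, add_zero]; exact add_mem hy (A.smul_mem _ hwA))
      (fun y hy => by rw [hty, hBB y hy b hbB, mul_zero, zero_smul, add_zero]; exact add_mem hy (B.smul_mem _ hbB))
    have htx : (t : Mn) *ᵥ x = x := by rw [hty, hxw, hxb]; simp
    -- coordinates of `z`
    obtain ⟨ρ, hρ⟩ : ∃ ρ, ρ = f z v / f u v := ⟨_, rfl⟩
    have hzs : z = ρ • x + f z b • w + f z w • b := by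
      refine sub_eq_zero.1 (hs.eq_zero _ fun y => hs.refl _ _ ?_)
      obtain ⟨y₁, h₁, y₂, h₂, rfl⟩ := Submodule.mem_sup.1 (htop ▸ Submodule.mem_top : y ∈ A ⊔ B)
      obtain ⟨d, hd⟩ := Submodule.mem_span_singleton.1 (hlineA (y₁ - (f y₁ v / f u v) • u)
        (A.sub_mem h₁ (A.smul_mem _ hu)) (by rw [hs.toSesq.sub_left, hs.smul_left, div_mul_cancel₀ _ huv0, sub_self]))
      obtain ⟨d', hd'⟩ : ∃ d', d' • b = y₂ - (f y₂ u / f v u) • v := by
        obtain ⟨d', hd'⟩ := Submodule.mem_span_singleton.1 (hs.comp hBB (by rw [sup_comm, htop]) hbB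
          (B.sub_mem h₂ (B.smul_mem _ hv)) (c := y₂ - (f y₂ u / f v u) • v)
          (fun e0 => by rw [e0, hs.zero_right] at hwb; exact zero_ne_one hwb) fun q hq hqb => by
            have hq' : q = (f q v / f u v) • u := by
              obtain ⟨k, hk⟩ := Submodule.mem_span_singleton.1 (hlineA (q - (f q v / f u v) • u)
                (A.sub_mem hq (A.smul_mem _ hu))
                (by rw [hs.toSesq.sub_left, hs.smul_left, div_mul_cancel₀ _ huv0, sub_self]))
              have h1 := congrArg (fun a => f a b) hk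
              simp only [hs.smul_left, hs.toSesq.sub_left, hwb, hqb, hub, mul_one, mul_zero, sub_zero] at h1
              rw [h1, zero_smul, eq_comm, sub_eq_zero] at hk
              exact hk
            rw [hq', hs.smul_left]
            refine mul_eq_zero_of_right _ (hs.refl _ _ ?_)
            rw [hs.toSesq.sub_left, hs.smul_left, div_mul_cancel₀ _ hvu, sub_self])
        exact ⟨d', hd'⟩
      have hzu : f z u = ρ * f v u := by
        have h3 := hz.2.1
        rw [← huv, hs.add_right] at h3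
        have h5 : f u v + f v u = 0 := by
          have h4 := hxx
          rw [← huv, hs.add_left, hs.add_right, hs.add_right, huu, hvv] at h4
          linear_combination h4
        rw [hρ, div_mul_eq_mul_div, eq_div_iff huv0]
        linear_combination f u v * h3 - f z v * h5
      have hzv : f z v = ρ * f u v := by rw [hρ, div_mul_cancel₀ _ huv0]
      rw [eq_sub_iff_add_eq] at hd
      rw [eq_sub_iff_add_eq] at hd'
      rw [← hd, ← hd']
      simp only [hs.toSesq.sub_left, hs.add_left, hs.add_right, hs.smul_left, hs.smul_right, hzu, hzv,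
        ← huv, huu, hvv, hww, hbb, hwb, hbw, hwv, hvw, hbu, hub, hbv, hvb, huw, hwu]
      ring
    have h0 : f z w * σ (f z b) + f z b * σ (f z w) = 0 := by
      have h1 := hz.1
      conv_lhs at h1 => rw [hzs]
      simp only [hs.add_left, hs.add_right, hs.smul_left, hs.smul_right, hxx, hxw, hxb, hwx, hbx, hww, hbb, hwb,
        hbw] at h1
      linear_combination h1
    have hzt : f ((t : Mn) *ᵥ z) z = 0 := horth z _ hz (by
      have := hs.cn_map hz htM (hMi t htM); rwa [htx] at this)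
    have hprod : f z b * σ (f z w) = 0 := by
      rw [hty, hs.add_left, hs.add_left, hs.smul_left, hs.smul_left, hs.skew z w, hs.skew z b, hz.1, he] at hzt
      have hμ' : μ - μ⁻¹ ≠ 0 := fun h => hμ1 (by field_simp at h; linear_combination h)
      refine (mul_eq_zero.1 (show (μ - μ⁻¹) * (f z b * σ (f z w)) = 0 by
        linear_combination hzt - (μ⁻¹ - 1) * h0)).resolve_left hμ'
    -- the remaining line joins `x` to a pure point
    have fin : ∀ (a a' k : V) (c κ : F), a ≠ 0 → (a ∈ A ∨ a ∈ B) → f a a = 0 → f a x = 0 → c ≠ 0 →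
        z = ρ • x + c • a → Cn f e M a k → f x k ≠ 0 → σ κ = κ → κ ≠ 1 →
        (t : Mn) *ᵥ a = κ • a → False := by
      intro a _ k c κ ha0 hmem haa hax hc hza hak hxk hκ hκ1 hta
      have hρ0 : ρ = 0 := by
        by_contra hρ0
        refine hnox ⟨hxx, fun τ hτ => ?_⟩
        obtain ⟨m, hm⟩ := hs.exists_trace (τ := τ / (κ - 1)) (by rw [map_div₀, hτ, map_sub, hκ, map_one, mul_div_assoc])
        obtain ⟨t₁, ht₁, e₁⟩ := hz.2.2 (κ * (m / ρ))
        obtain ⟨t₂, ht₂, e₂⟩ := (hs.cn_map hz htM (hMi t htM)).2.2 (-(m / ρ))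
        have hxa := hs.refl _ _ hax
        refine ⟨t₁ * t₂, mul_mem ht₁ ht₂, fun y => ?_⟩
        rw [Units.val_mul, ← Matrix.mulVec_mulVec, e₂, e₁, htx, hza, Matrix.mulVec_add, Matrix.mulVec_smul,
          Matrix.mulVec_smul, htx, hta]
        have hτ' : τ = (σ m + e * m) * (κ - 1) := by rw [hm, div_mul_cancel₀ _ (sub_ne_zero.2 hκ1)]
        simp only [hs.add_left, hs.add_right, hs.smul_left, hs.smul_right, map_neg, map_mul, map_div₀, hκ, hxx, haa,
          hax, hxa, mul_zero, add_zero]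
        rw [hτ']
        have hσρ : σ ρ ≠ 0 := (map_ne_zero σ).2 hρ0
        match_scalars <;> field_simp <;> ring
      rw [hρ0, zero_smul, zero_add] at hza
      refine hcon a ha0 hmem (hs.heis haa hak ⟨hxx, hs.refl _ _ hax, fun l => ?_⟩ hxk)
      obtain ⟨t₁, ht₁, e₁⟩ := hs.dj_symm hz.2.2 (l / σ c)
      refine ⟨t₁, ht₁, fun y => ?_⟩
      rw [e₁, hza]
      simp only [hs.smul_right, map_div₀, hs.invol]
      have hσc : σ c ≠ 0 := (map_ne_zero σ).2 hc
      match_scalars <;> field_simp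
    rcases mul_eq_zero.1 hprod with h | h
    · have hc : f z w ≠ 0 := fun h' => hzx ρ (by rw [hzs, h, h', zero_smul, zero_smul, add_zero, add_zero])
      refine fin b b u (f z w) μ⁻¹ (fun e0 => by rw [e0, hs.zero_right] at hwb; exact zero_ne_one hwb) (Or.inr hbB)
        hbb hbx hc (hzs.trans (by rw [h, zero_smul, add_zero])) ⟨huu, hub, hDJ u hu b hbB hub⟩ ?_
        (by rw [map_inv₀, hμ]) (fun e0 => hμ1 (by rw [inv_eq_one] at e0; rw [e0, one_mul]))
        (by rw [hty, hbb, hbw]; module)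
      rw [← huv, hs.add_left, huu, zero_add]; exact hvu
    · have h' : f z w = 0 := (map_eq_zero σ).1 h
      have hc : f z b ≠ 0 := fun h'' => hzx ρ (by rw [hzs, h'', h', zero_smul, zero_smul, add_zero, add_zero])
      refine fin w w v (f z b) μ hw0 (Or.inl hwA) hww hwx hc (hzs.trans (by rw [h', zero_smul, add_zero]))
        ⟨hvv, hvw, hs.dj_symm (hDJ w hwA v hv hwv)⟩ ?_ hμ (fun e0 => hμ1 (by rw [e0, one_mul]))
        (by rw [hty, hww, hwb]; module)
      rw [← huv, hs.add_left, hvv, add_zero]; exact huv0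

/-! ### Spreading the centres -/

theorem Skew.ct_smul (hs : Skew σ f e) {w : V} (h : Ct σ f e M w) (r : F) : Ct σ f e M (r • w) := by
  refine ⟨by rw [hs.smul_left, hs.smul_right, h.1, mul_zero, mul_zero], fun τ hτ => ?_⟩
  obtain ⟨t, ht, htx⟩ := h.2 (τ * (r * σ r)) (by rw [map_mul, map_mul, hs.invol, hτ]; ring)
  refine ⟨t, ht, fun y => ?_⟩
  rw [htx, hs.smul_right, smul_smul]
  congr 2
  ring

theorem Skew.ct_subspace (hs : Skew σ f e) {A B : Submodule F V} (hAA : ∀ y ∈ A, ∀ z ∈ A, f y z = 0)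
    (htop : A ⊔ B = ⊤) (hA2 : 2 ≤ finrank F A)
    (hDJ : ∀ a ∈ A, ∀ b ∈ B, f a b = 0 → DJ f e M a b)
    (hMi : ∀ g ∈ M, ∀ p q, f ((g : Mn) *ᵥ p) ((g : Mn) *ᵥ q) = f p q) {w : V} (hw : w ∈ A) (hw0 : w ≠ 0)
    (h : Ct σ f e M w) {y : V} (hy : y ∈ A) : Ct σ f e M y := by
  have key : ∀ z ∈ A, z ∉ Submodule.span F {w} → Ct σ f e M z := fun z hz hzw => by
    obtain ⟨a, ha⟩ : ∃ a, a = z - w := ⟨_, rfl⟩
    have haA : a ∈ A := ha ▸ A.sub_mem hz hw
    have ha0 : a ≠ 0 := fun h0 => hzw (by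
      rw [sub_eq_zero.1 (ha ▸ h0 : z - w = 0)]; exact Submodule.mem_span_singleton_self w)
    obtain ⟨b, hb, hba, hbw⟩ : ∃ b ∈ B, f b a = 0 ∧ f b w ≠ 0 := by
      by_contra hc
      push Not at hc
      obtain ⟨r, hr⟩ := Submodule.mem_span_singleton.1 (hs.comp hAA htop haA hw ha0 hc)
      have hr0 : r ≠ 0 := fun h0 => hw0 (by rw [← hr, h0, zero_smul])
      refine hzw (Submodule.mem_span_singleton.2 ⟨1 + r⁻¹, ?_⟩)
      rw [add_smul, one_smul]
      nth_rw 2 [← hr]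
      rw [smul_smul, inv_mul_cancel₀ hr0, one_smul, ha]; abel
    obtain ⟨l, hl⟩ : ∃ l, e * f w b * l = 1 := ⟨(e * f w b)⁻¹, mul_inv_cancel₀
      (mul_ne_zero hs.e_ne fun h0 => hbw (hs.refl _ _ h0))⟩
    obtain ⟨t, ht, htx⟩ := hDJ a haA b hb (hs.refl _ _ hba) l
    have := hs.ct_map h ht (hMi t ht)
    rwa [htx, hs.smul_right, hAA w hw a haA, mul_zero, zero_smul, add_zero, smul_smul, hl, one_smul, ha,
      add_sub_cancel] at this
  by_cases hyw : y ∈ Submodule.span F {w}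
  · obtain ⟨r, rfl⟩ := Submodule.mem_span_singleton.1 hyw
    exact hs.ct_smul h r
  · exact key y hy hyw

theorem Skew.ct_all (hs : Skew σ f e) {A B : Submodule F V} (hAA : ∀ y ∈ A, ∀ z ∈ A, f y z = 0)
    (hBB : ∀ y ∈ B, ∀ z ∈ B, f y z = 0) (htop : A ⊔ B = ⊤)
    (hMi : ∀ g ∈ M, ∀ p q, f ((g : Mn) *ᵥ p) ((g : Mn) *ᵥ q) = f p q)
    (hA : ∀ y ∈ A, Ct σ f e M y) (hB : ∀ y ∈ B, Ct σ f e M y) {x : V} (hxx : f x x = 0) : Ct σ f e M x := by
  have case1 : ∀ u ∈ A, ∀ v ∈ B, σ (f u v) = e * f u v → f u v ≠ 0 → Ct σ f e M (u + v) := by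
    intro u hu v hv hadm hne
    have hvu : f v u = -f u v := by rw [hs.skew u v, hadm]; linear_combination (-(f u v)) * hs.sq
    obtain ⟨t, ht, htx⟩ := (hA u hu).2 (-(f u v)⁻¹) (by
      rw [map_neg, map_inv₀, hadm, mul_inv, hs.e_inv, mul_neg])
    have := hs.ct_map (hB v hv) ht (hMi t ht)
    rwa [htx, hvu, neg_mul_neg, inv_mul_cancel₀ hne, one_smul, add_comm] at this
  obtain ⟨u, hu, v, hv, rfl⟩ := Submodule.mem_sup.1 (htop ▸ Submodule.mem_top : x ∈ A ⊔ B)
  rw [hs.add_left, hs.add_right, hs.add_right, hAA u hu u hu, hBB v hv v hv, zero_add, add_zero,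
    hs.skew u v] at hxx
  have hadm : σ (f u v) = e * f u v := by linear_combination (-e) * hxx + (-(σ (f u v))) * hs.sq
  by_cases hne : f u v ≠ 0
  · exact case1 u hu v hv hadm hne
  push Not at hne
  by_cases hv0 : v = 0
  · rw [hv0, add_zero]; exact hA u hu
  obtain ⟨z, hz⟩ := hs.exists_left hv0
  obtain ⟨w₁, hw₁, w₂, hw₂, rfl⟩ := Submodule.mem_sup.1 (htop ▸ Submodule.mem_top : z ∈ A ⊔ B)
  rw [hs.add_left, hBB w₂ hw₂ v hv, add_zero] at hz
  obtain ⟨s, hs0, hss⟩ := hs.exists_adm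
  obtain ⟨w, hw, hwv⟩ : ∃ w ∈ A, f w v = s :=
    ⟨(s / f w₁ v) • w₁, A.smul_mem _ hw₁, by rw [hs.smul_left, div_mul_cancel₀ _ hz]⟩
  have hy := case1 (u + w) (A.add_mem hu hw) v hv (by rw [hs.add_left, hne, zero_add, hwv, hss])
    (by rw [hs.add_left, hne, zero_add, hwv]; exact hs0)
  obtain ⟨t, ht, htx⟩ := (hA w hw).2 s⁻¹ (by
    rw [map_inv₀, hss, mul_inv, hs.e_inv])
  have hvw : f v w = -s := by rw [hs.skew w v, hwv, hss]; linear_combination (-s) * hs.sq
  have := hs.ct_map hy ht (hMi t ht)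
  rwa [htx, hs.add_left, hs.add_left, hAA u hu w hw, hAA w hw w hw, hvw, zero_add, zero_add, mul_neg,
    inv_mul_cancel₀ hs0, neg_smul, one_smul, show u + w + v + -w = u + v by abel] at this

/-! ### The swap -/

theorem Skew.exists_swap [Finite F] (hs : Skew σ f e) {A B : Submodule F V}
    (hAA : ∀ y ∈ A, ∀ z ∈ A, f y z = 0) (hBB : ∀ y ∈ B, ∀ z ∈ B, f y z = 0) (htop : A ⊔ B = ⊤)
    (hdisj : A ⊓ B = ⊥) (hdim : finrank F A = finrank F B) {G : Subgroup (GL ι F)}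
    (hG : ∀ g : GL ι F, (∀ p q, f ((g : Mn) *ᵥ p) ((g : Mn) *ᵥ q) = f p q) → g ∈ Geo.specialLinear ι F → g ∈ G) :
    ∃ J ∈ G, (∀ y ∈ A, (J : Mn) *ᵥ y ∈ B) ∧ ∀ y ∈ B, (J : Mn) *ᵥ y ∈ A := by
  classical
  let bA := Module.finBasis F A
  set d := finrank F A with hd
  obtain ⟨Ev, hEv⟩ : ∃ Ev : B →ₗ[F] (Fin d → F), ∀ b i, Ev b i = f (b : V) (bA i : V) :=
    ⟨LinearMap.pi fun i => (hs.lin (bA i : V)).comp B.subtype, fun b i => rfl⟩
  have spanA : Submodule.span F (Set.range fun i => (bA i : V)) = A := by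
    rw [show (fun i => (bA i : V)) = A.subtype ∘ bA from rfl, Set.range_comp, Submodule.span_image, bA.span_eq,
      Submodule.map_top, Submodule.range_subtype]
  have hinj : Function.Injective Ev := by
    refine LinearMap.ker_eq_bot.1 (LinearMap.ker_eq_bot'.2 fun b hb => Subtype.ext (hs.eq_zero _ fun z => ?_))
    obtain ⟨a, ha, b', hb', rfl⟩ := Submodule.mem_sup.1 (htop ▸ Submodule.mem_top : z ∈ A ⊔ B)
    rw [hs.add_left, hBB b' hb' b b.2, add_zero]
    refine hs.refl _ _ ?_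
    rw [← spanA] at ha
    induction ha using Submodule.span_induction with
    | mem y hy => obtain ⟨i, rfl⟩ := hy; rw [← hEv, hb]; rfl
    | zero => exact hs.zero_right _
    | add y z _ _ h1 h2 => rw [hs.add_right, h1, h2, add_zero]
    | smul r y _ h1 => rw [hs.smul_right, h1, mul_zero]
  have hsurj : Function.Surjective Ev :=
    (LinearMap.injective_iff_surjective_of_finrank_eq_finrank (by rw [← hdim, finrank_pi, Fintype.card_fin])).1 hinj
  choose bB hbB using fun j => hsurj (Pi.single j 1)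
  have hfe : ∀ i j, f (bB j : V) (bA i : V) = if i = j then 1 else 0 := fun i j => by
    rw [← hEv, hbB, Pi.single_apply]
  have hef : ∀ i j, f (bA i : V) (bB j : V) = if i = j then -e else 0 := fun i j => by
    rw [hs.skew, hfe]; split_ifs <;> simp
  have spanB : B ≤ Submodule.span F (Set.range fun i => (bB i : V)) := fun y hy => by
    have e1 : ∑ i, f y (bA i : V) • bB i = (⟨y, hy⟩ : B) := hinj (by
      ext j
      rw [map_sum, Finset.sum_apply]
      simp only [map_smul, hbB, Pi.smul_apply, Pi.single_apply, smul_eq_mul, mul_ite, mul_one, mul_zero]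
      rw [Finset.sum_ite_eq, hEv]
      simp)
    have e2 := congrArg (B.subtype) e1
    simp only [map_sum, map_smul, Submodule.subtype_apply] at e2
    rw [← e2]
    exact Submodule.sum_mem _ fun i _ => Submodule.smul_mem _ _ (Submodule.subset_span ⟨i, rfl⟩)
  obtain ⟨s, hs0, hss⟩ := hs.exists_adm
  have hs' : σ (e / s) = e * (e / s) := by
    rw [map_div₀, hss, hs.fix, ← mul_div_assoc, hs.sq]
    have := hs.e_ne
    field_simp
  have swap1 : ∀ k, ∃ w ∈ G, ((w : Mn) *ᵥ (bA k : V) ∈ Submodule.span F {(bB k : V)}) ∧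
      ((w : Mn) *ᵥ (bB k : V) ∈ Submodule.span F {(bA k : V)}) ∧
      ∀ z, f z (bA k : V) = 0 → f z (bB k : V) = 0 → (w : Mn) *ᵥ z = z := by
    intro k
    have haa := hAA _ (bA k).2 _ (bA k).2
    have hbb := hBB _ (bB k).2 _ (bB k).2
    obtain ⟨t₁, h1i, h1d, h1x⟩ := hs.exists_ct haa hss
    obtain ⟨t₂, h2i, h2d, h2x⟩ := hs.exists_ct hbb hs'
    have e1 : (t₁ : Mn) *ᵥ (bA k : V) = (bA k : V) := by rw [h1x, haa, mul_zero, zero_smul, add_zero]
    have e2 : (t₂ : Mn) *ᵥ (bA k : V) = (bA k : V) + (e / s * -e) • (bB k : V) := by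
      rw [h2x, hef, if_pos rfl]
    have e3 : (t₁ : Mn) *ᵥ (bB k : V) = (bB k : V) + s • (bA k : V) := by rw [h1x, hfe, if_pos rfl, mul_one]
    have e4 : (t₂ : Mn) *ᵥ (bB k : V) = (bB k : V) := by rw [h2x, hbb, mul_zero, zero_smul, add_zero]
    have hval : e / s * -e * s = -1 := by field_simp; linear_combination -hs.sq
    have hval' : s * (e / s * -e) = -1 := by rw [mul_comm]; exact hval
    refine ⟨t₁ * t₂ * t₁, mul_mem (mul_mem (hG _ h1i h1d) (hG _ h2i h2d)) (hG _ h1i h1d), ?_, ?_, ?_⟩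
    · rw [Units.val_mul, Units.val_mul, ← Matrix.mulVec_mulVec, ← Matrix.mulVec_mulVec, e1, e2, Matrix.mulVec_add,
        Matrix.mulVec_smul, e1, e3, smul_add, smul_smul, hval]
      exact Submodule.mem_span_singleton.2 ⟨e / s * -e, by module⟩
    · rw [Units.val_mul, Units.val_mul, ← Matrix.mulVec_mulVec, ← Matrix.mulVec_mulVec, e3, Matrix.mulVec_add,
        Matrix.mulVec_smul, e4, e2, smul_add, smul_smul, hval',
        show (bB k : V) + (s • (bA k : V) + (-1 : F) • (bB k : V)) = s • (bA k : V) by module,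
        Matrix.mulVec_smul, e1]
      exact Submodule.mem_span_singleton.2 ⟨s, rfl⟩
    · intro z hz1 hz2
      simp [Units.val_mul, ← Matrix.mulVec_mulVec, h1x, h2x, hz1, hz2]
  have main : ∀ K : Finset (Fin d), ∃ J ∈ G, (∀ j ∈ K, (J : Mn) *ᵥ (bA j : V) ∈ Submodule.span F {(bB j : V)} ∧
      (J : Mn) *ᵥ (bB j : V) ∈ Submodule.span F {(bA j : V)}) ∧
      ∀ j ∉ K, (J : Mn) *ᵥ (bA j : V) = (bA j : V) ∧ (J : Mn) *ᵥ (bB j : V) = (bB j : V) := by
    intro K
    induction K using Finset.induction_on with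
    | empty => exact ⟨1, one_mem G, by simp, by simp⟩
    | @insert k K hk ih =>
      obtain ⟨J, hJ, hJ1, hJ2⟩ := ih
      obtain ⟨w, hw, hwA, hwB, hwz⟩ := swap1 k
      have fixA : ∀ j, j ≠ k → (w : Mn) *ᵥ (bA j : V) = (bA j : V) := fun j hj =>
        hwz _ (hAA _ (bA j).2 _ (bA k).2) (by rw [hef, if_neg hj])
      have fixB : ∀ j, j ≠ k → (w : Mn) *ᵥ (bB j : V) = (bB j : V) := fun j hj =>
        hwz _ (by rw [hfe, if_neg (Ne.symm hj)]) (hBB _ (bB j).2 _ (bB k).2)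
      refine ⟨w * J, mul_mem hw hJ, fun j hj => ?_, fun j hj => ?_⟩
      · rw [Units.val_mul, ← Matrix.mulVec_mulVec, ← Matrix.mulVec_mulVec]
        rcases Finset.mem_insert.1 hj with rfl | hj
        · rw [(hJ2 j hk).1, (hJ2 j hk).2]; exact ⟨hwA, hwB⟩
        · have hjk : j ≠ k := fun h => hk (h ▸ hj)
          obtain ⟨r, hr⟩ := Submodule.mem_span_singleton.1 (hJ1 j hj).1
          obtain ⟨r', hr'⟩ := Submodule.mem_span_singleton.1 (hJ1 j hj).2
          rw [← hr, ← hr', Matrix.mulVec_smul, Matrix.mulVec_smul, fixA j hjk, fixB j hjk]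
          exact ⟨Submodule.mem_span_singleton.2 ⟨r, rfl⟩, Submodule.mem_span_singleton.2 ⟨r', rfl⟩⟩
      · rw [Finset.mem_insert] at hj
        push Not at hj
        rw [Units.val_mul, ← Matrix.mulVec_mulVec, ← Matrix.mulVec_mulVec, (hJ2 j hj.2).1, (hJ2 j hj.2).2,
          fixA j hj.1, fixB j hj.1]
        exact ⟨rfl, rfl⟩
  obtain ⟨J, hJ, hJ1, -⟩ := main Finset.univ
  have hspan : ∀ (T : Submodule F V) (b : Fin d → V), (∀ i, (J : Mn) *ᵥ b i ∈ T) →
      ∀ y ∈ Submodule.span F (Set.range b), (J : Mn) *ᵥ y ∈ T := fun T b hb y hy => by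
    have h : Submodule.span F (Set.range b) ≤ T.comap (Matrix.toLin' (J : Mn)) :=
      Submodule.span_le.2 (by rintro _ ⟨i, rfl⟩; simpa using hb i)
    simpa using h hy
  refine ⟨J, hJ, fun y hy => hspan B (fun i => (bA i : V)) (fun i => ?_) y (spanA.symm ▸ hy),
    fun y hy => hspan A (fun i => (bB i : V)) (fun i => ?_) y (spanB hy)⟩
  · exact (Submodule.span_singleton_le_iff_mem _ _).2 (bB i).2 (hJ1 i (Finset.mem_univ _)).1
  · exact (Submodule.span_singleton_le_iff_mem _ _).2 (bA i).2 (hJ1 i (Finset.mem_univ _)).2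

/-- Overgroups of the stabiliser of an isotropic pair contain all transvections. -/
theorem Skew.pair_ct [Finite F] (hs : Skew σ f e) {k : ℕ}
    (hk : 3 ≤ k ∨ k = 2 ∧ e = -1 ∧ ∃ μ : F, σ μ = μ ∧ μ ≠ 0 ∧ μ * μ ≠ 1) {D : Fin 2 → Submodule F V}
    (hD : Geo.IsMDecomposition k D) (hts : ∀ i, ∀ u ∈ D i, ∀ v ∈ D i, f u v = 0) {G : Subgroup (GL ι F)}
    (hG : ∀ g : GL ι F, (∀ p q, f ((g : Mn) *ᵥ p) ((g : Mn) *ᵥ q) = f p q) → g ∈ Geo.specialLinear ι F → g ∈ G)
    (hGi : ∀ g ∈ G, ∀ p q, f ((g : Mn) *ᵥ p) ((g : Mn) *ᵥ q) = f p q) :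
    ¬ G ≤ Geo.decompositionStabilizer D ⊓ G ∧
    ∀ M, Geo.decompositionStabilizer D ⊓ G ≤ M → M ≤ G → ∀ g ∈ M, g ∉ Geo.decompositionStabilizer D ⊓ G →
      ∀ x, f x x = 0 → Ct σ f e M x := by
  classical
  obtain ⟨pr, hpr⟩ := exists_proj hD.indep hD.iSup_eq_top
  have hdim : ∀ i j, finrank F (D i) = finrank F (D j) := fun i j => by rw [hD.finrank_eq, hD.finrank_eq]
  have hne : ∀ i, D i ≠ ⊥ := fun i h => by
    have := hD.finrank_eq i; rw [h, finrank_bot] at this; have := hD.pos; omega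
  have htop : D 0 ⊔ D 1 = ⊤ := eq_top_iff.2 fun x _ => by
    rw [← hpr.sum x, Fin.sum_univ_two]; exact Submodule.add_mem_sup (hpr.mem 0 x) (hpr.mem 1 x)
  have hdisj : D 0 ⊓ D 1 = ⊥ := (Submodule.eq_bot_iff _).2 fun x hx => by
    rw [← hpr.self 0 x hx.1, hpr.other 0 1 (by decide) x hx.2]
  have hDJG : ∀ a ∈ D 0, ∀ b ∈ D 1, f a b = 0 → DJ f e (Geo.decompositionStabilizer D ⊓ G) a b := by
    intro a ha b hb hab l
    obtain ⟨t, hti, htd, htx⟩ := hs.exists_dj (hts 0 a ha a ha) (hts 1 b hb b hb) hab l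
    refine ⟨t, ⟨hpr.mem_stabilizer hdim id (fun i y hy => ?_) hne, hG t hti htd⟩, htx⟩
    rw [htx]
    fin_cases i
    · simp only [Fin.zero_eta, id_eq] at hy ⊢
      rw [hs.smul_right, hts 0 y hy a ha, mul_zero, zero_smul, add_zero]
      exact add_mem hy (Submodule.smul_mem _ _ (Submodule.smul_mem _ _ ha))
    · simp only [Fin.mk_one, id_eq] at hy ⊢
      rw [hts 1 y hy b hb, mul_zero, zero_smul, add_zero]
      exact add_mem hy (Submodule.smul_mem _ _ hb)
  refine ⟨fun hle => ?_, fun M hHM hMG g hgM hgH x hxx => ?_⟩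
  · obtain ⟨w, hw, hw0⟩ := Submodule.exists_mem_ne_zero_of_ne_bot (hne 0)
    obtain ⟨y, hy⟩ := hs.exists_left hw0
    rw [← hpr.sum y, Fin.sum_univ_two, hs.add_left, hts 0 _ (hpr.mem 0 y) w hw, zero_add] at hy
    obtain ⟨s, hs0, hss⟩ := hs.exists_adm
    obtain ⟨t, hti, htd, htx⟩ := hs.exists_ct (hts 0 w hw w hw) hss
    obtain ⟨π, hπ⟩ := (hle (hG t hti htd)).1
    have h1 : (t : Mn) *ᵥ pr 1 y ∈ D (π 1) := hπ 1 ▸ ⟨pr 1 y, hpr.mem 1 y, Matrix.toLin'_apply _ _⟩
    rw [htx] at h1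
    generalize π 1 = j at h1
    fin_cases j
    · simp only [Fin.zero_eta] at h1
      have h2 := (D 0).sub_mem h1 ((D 0).smul_mem (s * f (pr 1 y) w) hw)
      rw [add_sub_cancel_right] at h2
      have h3 : pr 1 y ∈ D 0 ⊓ D 1 := ⟨h2, hpr.mem 1 y⟩
      rw [hdisj, Submodule.mem_bot] at h3
      exact hy (by rw [h3, hs.zero_left])
    · simp only [Fin.mk_one] at h1
      have h2 := (D 1).sub_mem h1 (hpr.mem 1 y)
      rw [add_sub_cancel_left, (D 1).smul_mem_iff (mul_ne_zero hs0 hy)] at h2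
      have h3 : w ∈ D 0 ⊓ D 1 := ⟨hw, h2⟩
      rw [hdisj, Submodule.mem_bot] at h3
      exact hw0 h3
  have hMi : ∀ k ∈ M, ∀ p q, f ((k : Mn) *ᵥ p) ((k : Mn) *ᵥ q) = f p q := fun k hk => hGi k (hMG hk)
  have hDJ : ∀ a ∈ D 0, ∀ b ∈ D 1, f a b = 0 → DJ f e M a b := fun a ha b hb h l =>
    (hDJG a ha b hb h l).imp fun t ht => ⟨hHM ht.1, ht.2⟩
  have hDJ' : ∀ b ∈ D 1, ∀ a ∈ D 0, f b a = 0 → DJ f e M b a := fun b hb a ha h =>
    hs.dj_symm (hDJ a ha b hb (hs.refl _ _ h))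
  obtain ⟨w, hw0, hw, hwC⟩ : ∃ w, w ≠ 0 ∧ (w ∈ D 0 ∨ w ∈ D 1) ∧ Ct σ f e M w := by
    obtain ⟨a, p, hp, i, j, hij, hi, hj⟩ := hpr.exists_spread hdim hne fun h => hgH ⟨h, hMG hgM⟩
    have hnm : ∀ l, (g : Mn) *ᵥ p ∉ D l := fun l hl => by
      rcases eq_or_ne i l with rfl | hil
      · exact hj (hpr.other j i (Ne.symm hij) _ hl)
      · exact hi (hpr.other i l hil _ hl)
    rcases hk with hk | ⟨hk2, he, μ, hμ, hμ0, hμ1⟩
    · fin_cases a
      · exact hs.exists_pure (hts 0) (hts 1) htop hdisj (by rw [hD.finrank_eq]; omega)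
          (by rw [hD.finrank_eq]; omega) (hdim 0 1) hDJ hMi hgM hp (hnm 0) (hnm 1)
      · obtain ⟨w, h0, h1, h2⟩ := hs.exists_pure (hts 1) (hts 0) (by rw [sup_comm, htop])
          (by rw [inf_comm, hdisj]) (by rw [hD.finrank_eq]; omega) (by rw [hD.finrank_eq]; omega) (hdim 1 0) hDJ' hMi hgM hp
          (hnm 1) (hnm 0)
        exact ⟨w, h0, h1.symm, h2⟩
    have hstab : ∀ t : GL ι F, (∀ p q, f ((t : Mn) *ᵥ p) ((t : Mn) *ᵥ q) = f p q) → t ∈ Geo.specialLinear ι F →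
        (∀ y ∈ D 0, (t : Mn) *ᵥ y ∈ D 0) → (∀ y ∈ D 1, (t : Mn) *ᵥ y ∈ D 1) → t ∈ M := fun t hti htd h0 h1 =>
      hHM ⟨hpr.mem_stabilizer hdim id (fun i y hy => by
        fin_cases i
        · exact h0 y hy
        · exact h1 y hy) hne, hG t hti htd⟩
    fin_cases a
    · exact hs.exists_pure_two he (hts 0) (hts 1) htop hdisj ((hD.finrank_eq 0).trans hk2)
        ((hD.finrank_eq 1).trans hk2) hDJ hstab hμ hμ0 hμ1 hMi hgM hp (hnm 0) (hnm 1)
    · obtain ⟨w, h0, h1, h2⟩ := hs.exists_pure_two he (hts 1) (hts 0) (by rw [sup_comm, htop])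
        (by rw [inf_comm, hdisj]) ((hD.finrank_eq 1).trans hk2) ((hD.finrank_eq 0).trans hk2) hDJ'
        (fun t hti htd h1 h0 => hstab t hti htd h0 h1) hμ hμ0 hμ1 hMi hgM hp (hnm 1) (hnm 0)
      exact ⟨w, h0, h1.symm, h2⟩
  obtain ⟨J, hJG, hJA, hJB⟩ := hs.exists_swap (hts 0) (hts 1) htop hdisj (hdim 0 1) hG
  have hJM : J ∈ M := hHM ⟨hpr.mem_stabilizer hdim (Equiv.swap 0 1) (fun i y hy => by
    fin_cases i
    · simpa using hJA y hy
    · simpa using hJB y hy) hne, hJG⟩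
  have two : 2 ≤ finrank F (D 0) ∧ 2 ≤ finrank F (D 1) := by rw [hD.finrank_eq, hD.finrank_eq]; omega
  have top' : D 1 ⊔ D 0 = ⊤ := by rw [sup_comm, htop]
  have hjw := hs.ct_map hwC hJM (hMi J hJM)
  have hjw0 : (J : Mn) *ᵥ w ≠ 0 := fun h => hw0 (gl_mulVec_injective J (by simpa using h))
  rcases hw with hw | hw
  · exact hs.ct_all (hts 0) (hts 1) htop hMi
      (fun y hy => hs.ct_subspace (hts 0) htop two.1 hDJ hMi hw hw0 hwC hy)
      (fun y hy => hs.ct_subspace (hts 1) top' two.2 hDJ' hMi (hJA w hw) hjw0 hjw hy) hxx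
  · exact hs.ct_all (hts 0) (hts 1) htop hMi
      (fun y hy => hs.ct_subspace (hts 0) htop two.1 hDJ hMi (hJB w hw) hjw0 hjw hy)
      (fun y hy => hs.ct_subspace (hts 1) top' two.2 hDJ' hMi hw hw0 hwC hy) hxx

end Pair

/-- Stabilisers of pairs of Lagrangians are maximal in `Sp` for odd `q`. -/
theorem symplectic_pair_maximal {F : Type*} [Field F] [Finite F] {m : ℕ} (hm : 3 ≤ m) (h2 : (2 : F) ≠ 0)
    (D : Fin 2 → Submodule F (Fin m ⊕ Fin m → F)) (hD : Geo.IsMDecomposition m D)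
    (hts : ∀ i, Geo.IsTotallySingularFor (sympForm m F) (D i)) :
    Geo.IsMaximalIn (spGL m F) (Geo.decompositionStabilizer D ⊓ spGL m F) := by
  have hs : Skew (RingEquiv.refl F) (sympForm m F) (1 : F) :=
    { toSesq := sesq_sympForm
      invol := fun a => rfl
      sq := mul_one 1
      fix := rfl
      skew := fun a b => by rw [RingEquiv.refl_apply, one_mul]; exact sympForm_swap b a
      trace := ⟨1, by rw [RingEquiv.refl_apply, one_mul, one_add_one_eq_two]; exact h2⟩ }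
  obtain ⟨h1, h3⟩ := hs.pair_ct (Or.inl hm) hD hts (G := spGL m F) (fun g hg _ => mem_spGL.2 hg) (fun g hg => mem_spGL.1 hg)
  refine isMaximalIn_intro inf_le_right h1 fun M hHM hMG g hgM hgH => spGL_le fun v c => ?_
  obtain ⟨t, ht, htx⟩ := (h3 M hHM hMG g hgM hgH v (sympForm_self v)).2 c (by simp)
  exact ⟨t, ht, fun x => by rw [htx, fn_dot sesq_sympForm, sympForm_smul_right]⟩

/-- Stabilisers of pairs of maximal totally isotropic subspaces are maximal in `SU`. -/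
theorem unitary_pair_maximal_of {F : Type*} [Field F] [Fintype F] {n q : ℕ} (hF : Fintype.card F = q ^ 2)
    (hn : 4 ≤ n) {k : ℕ}
    (hk' : 3 ≤ k ∨ k = 2 ∧ (-1 : F) = -1 ∧ ∃ μ : F, qEquiv hF μ = μ ∧ μ ≠ 0 ∧ μ * μ ≠ 1)
    (hk : 2 * k = n) (D : Fin 2 → Submodule F (Fin n → F))
    (hD : Geo.IsMDecomposition k D) (hts : ∀ i, Geo.IsTotallySingularFor (hermForm n F q) (D i)) :
    Geo.IsMaximalIn (GU n F q ⊓ Geo.specialLinear (Fin n) F)
      (Geo.decompositionStabilizer D ⊓ (GU n F q ⊓ Geo.specialLinear (Fin n) F)) := by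
  have hH := herm_hermForm (n := n) hF
  obtain ⟨a, ha⟩ := hH.exists_moved
  have hs : Skew (qEquiv hF) (hermForm n F q) (-1 : F) :=
    { toSesq := hH.toSesq
      invol := hH.invol
      sq := by ring
      fix := by rw [map_neg, map_one]
      skew := fun x y => by rw [neg_mul, one_mul, neg_neg]; exact hH.herm y x
      trace := ⟨a, by rw [neg_mul, one_mul, ← sub_eq_add_neg, sub_ne_zero]; exact ha⟩ }
  obtain ⟨h1, h3⟩ := hs.pair_ct hk' hD hts (G := GU n F q ⊓ Geo.specialLinear (Fin n) F)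
    (fun g hg hd => ⟨mem_GU.2 hg, hd⟩) (fun g hg => mem_GU.1 hg.1)
  refine isMaximalIn_intro inf_le_right h1 fun M hHM hMG g hgM hgH =>
    LinFour.guSL_le_three hF (by omega) (by omega) fun v hv c hc => ?_
  exact (h3 M hHM hMG g hgM hgH v hv).2 c (by linear_combination hc)

/-- The case of degree at least six. -/
theorem unitary_pair_maximal {F : Type*} [Field F] [Fintype F] {n q : ℕ} (hF : Fintype.card F = q ^ 2)
    (hn : 6 ≤ n) {k : ℕ} (hk : 2 * k = n) (D : Fin 2 → Submodule F (Fin n → F))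
    (hD : Geo.IsMDecomposition k D) (hts : ∀ i, Geo.IsTotallySingularFor (hermForm n F q) (D i)) :
    Geo.IsMaximalIn (GU n F q ⊓ Geo.specialLinear (Fin n) F)
      (Geo.decompositionStabilizer D ⊓ (GU n F q ⊓ Geo.specialLinear (Fin n) F)) :=
  unitary_pair_maximal_of hF (by omega) (Or.inl (by omega)) hk D hD hts

/-- The case of degree four. -/
theorem unitary_pair_maximal_four {F : Type*} [Field F] [Fintype F] {q : ℕ} (hF : Fintype.card F = q ^ 2)
    (hq : 4 ≤ q) (D : Fin 2 → Submodule F (Fin 4 → F))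
    (hD : Geo.IsMDecomposition 2 D) (hts : ∀ i, Geo.IsTotallySingularFor (hermForm 4 F q) (D i)) :
    Geo.IsMaximalIn (GU 4 F q ⊓ Geo.specialLinear (Fin 4) F)
      (Geo.decompositionStabilizer D ⊓ (GU 4 F q ⊓ Geo.specialLinear (Fin 4) F)) := by
  classical
  refine unitary_pair_maximal_of hF le_rfl (Or.inr ⟨rfl, rfl, ?_⟩) rfl D hD hts
  have hs := herm_hermForm (n := 4) hF
  -- a norm that is not a sign
  obtain ⟨x, hx0, hx⟩ : ∃ x : F, x ≠ 0 ∧ x ^ (2 * (q + 1)) ≠ 1 := by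
    by_contra hc
    push Not at hc
    have hp : (Polynomial.X ^ (2 * (q + 1)) - Polynomial.C (1 : F)) ≠ 0 :=
      Polynomial.X_pow_sub_C_ne_zero (by omega) 1
    have h1 : (Finset.univ.filter fun x : F => x ≠ 0) ⊆
        (Polynomial.X ^ (2 * (q + 1)) - Polynomial.C (1 : F)).roots.toFinset := fun x hx => by
      rw [Multiset.mem_toFinset, Polynomial.mem_roots hp]
      simp [hc x (by simpa using hx)]
    have h2 := ((Finset.card_le_card h1).trans (Multiset.toFinset_card_le _)).trans (Polynomial.card_roots' _)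
    rw [Polynomial.natDegree_X_pow_sub_C, Finset.filter_ne', Finset.card_erase_of_mem (Finset.mem_univ _),
      Finset.card_univ, hF] at h2
    have h4 : 4 * q ≤ q ^ 2 := by rw [sq]; exact Nat.mul_le_mul_right q hq
    omega
  refine ⟨x * qEquiv hF x, by rw [map_mul, hs.invol, mul_comm],
    mul_ne_zero hx0 ((map_ne_zero (qEquiv hF)).2 hx0), fun h => hx ?_⟩
  rw [← h, qEquiv_apply, mul_comm 2, pow_mul, pow_succ' x q, sq]

end Cfsg.Agent.Classical.MaxTv
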