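import Cfsg.Agent.Lib.Classical.MaxTensorHermThree
import Cfsg.Agent.Lib.Classical.MaxTensorGram

/-!
Stabilisers of tensor products of two unitary spaces are maximal in special unitary groups.
-/

set_option autoImplicit false
set_option linter.unusedSectionVars false

namespace Cfsg.Agent.Classical.TensorHerm

open Matrix Module MaxTv TensorMax
open scoped Kronecker

variable {F : Type*} [Field F] [Fintype F]

theorem herm_of_pow {ι : Type} [Fintype ι] [DecidableEq ι] {q : ℕ} (hF : Fintype.card F = q ^ 2)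
    {f : (ι → F) → (ι → F) → F} (hf : Geo.IsUnitaryFormPow q f) : Herm (qEquiv hF) f where
  add_left := hf.add_left
  smul_left := hf.smul_left
  add_right v x y := by
    rw [hf.herm v, hf.add_left, add_pow_q hF, ← hf.herm, ← hf.herm]
  smul_right c v x := by rw [hf.herm v, hf.smul_left, mul_pow, ← hf.herm, qEquiv_apply]
  eq_zero w hw := by
    by_contra h
    obtain ⟨⟨x, hx⟩, -⟩ := hf.nondegenerate w h
    exact hx (hw x)
  refl v w h := by rw [hf.herm, h, zero_pow (by have := two_le_q hF; omega)]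
  invol a := qFrob_qFrob hF a
  ne_refl e := qFrob_ne_id hF (RingHom.ext fun x => RingEquiv.congr_fun e x)
  herm v w := by rw [hf.herm v, qEquiv_apply]

theorem formOfGram_single_herm {k : ℕ} {σ : F ≃+* F} {g : (Fin k → F) → (Fin k → F) → F} (hg : Herm σ g)
    (x y : Fin k → F) : Geo.formOfGram (fun a : F => σ a) (Geo.gramMatrix g) x y = g x y := by
  have h : ∀ i, g (Pi.single i 1) y = ∑ j, Geo.gramMatrix g i j * σ (y j) := fun i => by
    rw [hg.herm (Pi.single i 1) y, ← hg.toSesq.lin_apply]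
    conv_lhs => rw [← Finset.univ_sum_single y, map_sum, map_sum]
    refine Finset.sum_congr rfl fun j _ => ?_
    rw [show (Pi.single j (y j) : Fin k → F) = y j • Pi.single j 1 by rw [← Pi.single_smul, smul_eq_mul, mul_one],
      map_smul, smul_eq_mul, map_mul, hg.toSesq.lin_apply, ← hg.herm, mul_comm]
    rfl
  rw [← hg.toSesq.lin_apply y x]
  conv_rhs => rw [← Finset.univ_sum_single x, map_sum]
  refine Finset.sum_congr rfl fun i _ => ?_
  rw [show (Pi.single i (x i) : Fin k → F) = x i • Pi.single i 1 by rw [← Pi.single_smul, smul_eq_mul, mul_one],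
    map_smul, smul_eq_mul, hg.toSesq.lin_apply, h, Finset.mul_sum]
  simp only [mul_assoc]

theorem exists_fixed_ne {q : ℕ} (hF : Fintype.card F = q ^ 2) (hq : 3 ≤ q) :
    ∃ r : F, qEquiv hF r = r ∧ r ≠ 0 ∧ r ≠ 1 := by
  classical
  obtain ⟨g, hg⟩ := IsCyclic.exists_generator (α := Fˣ)
  have hord : orderOf g = q ^ 2 - 1 := by
    rw [orderOf_eq_card_of_forall_mem_zpowers hg, Nat.card_units, Nat.card_eq_fintype_card, hF]
  have hne : g ^ (q + 1) ≠ 1 := by
    refine pow_ne_one_of_lt_orderOf (by omega) ?_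
    rw [hord]
    have : 3 * q ≤ q ^ 2 := by rw [pow_two]; exact Nat.mul_le_mul_right q hq
    omega
  refine ⟨(g : F) ^ (q + 1), ?_, pow_ne_zero _ g.ne_zero, fun h => hne (Units.ext (by simpa using h))⟩
  rw [qEquiv_apply, ← pow_mul, add_mul, one_mul, pow_add, ← pow_two, ← hF, FiniteField.pow_card, pow_succ']

/-- The stabiliser of a tensor product of two unitary spaces is maximal, also in degree `2 * 3`. -/
theorem unitary_tensor_maximal_of {n q : ℕ} (hF : Fintype.card F = q ^ 2) {n₁ n₂ : ℕ} (h1 : 2 ≤ n₁) (h12 : n₁ < n₂)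
    (h4 : 4 ≤ n₂ ∨ (n₁ = 2 ∧ n₂ = 3)) (hq : q ≠ 2 ∨ 3 ≤ n₁) (e : Fin n ≃ Fin n₁ × Fin n₂) (P : GL (Fin n) F)
    (f₁ : (Fin n₁ → F) → (Fin n₁ → F) → F) (f₂ : (Fin n₂ → F) → (Fin n₂ → F) → F)
    (hf₁ : Geo.IsUnitaryFormPow q f₁) (hf₂ : Geo.IsUnitaryFormPow q f₂)
    (hT : Geo.IsTensorFormStructure (fun x : F => x ^ q) (hermForm n F q) f₁ f₂ e P) :
    Geo.IsMaximalIn (GU n F q ⊓ Geo.specialLinear (Fin n) F)
      (Geo.tensorProductSubgroup n₁ n₂ e P ⊓ (GU n F q ⊓ Geo.specialLinear (Fin n) F)) := by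
  classical
  obtain ⟨c, hc, hT⟩ := hT
  set σ := qEquiv hF with hσ
  have h₁ := herm_of_pow hF hf₁
  have h₂ := herm_of_pow hF hf₂
  set ψ : GL (Fin n₁ × Fin n₂) F ≃* GL (Fin n) F := (Geo.glReindex e.symm).trans (MulAut.conj P) with hψ
  set E := coordEquiv e P with hE
  have hcompat : ∀ g t, (ψ g : Matrix (Fin n) (Fin n) F) *ᵥ E t =
      E ((g : Matrix (Fin n₁ × Fin n₂) (Fin n₁ × Fin n₂) F) *ᵥ t) := fun g t => coord_compat e P g t
  have hh := herm_hermForm (n := n) hF
  let f : (Fin n₁ × Fin n₂ → F) → (Fin n₁ × Fin n₂ → F) → F := fun x y => hermForm n F q (E x) (E y)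
  have hV : Herm σ f :=
    { add_left := fun x y v => by simp only [f, map_add, hh.add_left]
      smul_left := fun a x v => by simp only [f, map_smul, hh.smul_left]
      add_right := fun v x y => by simp only [f, map_add, hh.add_right]
      smul_right := fun a v x => by simp only [f, map_smul, hh.smul_right]; rfl
      eq_zero := fun w hw => E.injective ((hh.eq_zero _ fun x => by
        simpa [f] using hw (E.symm x)).trans E.map_zero.symm)
      refl := fun v w h => hh.refl _ _ h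
      invol := hh.invol
      ne_refl := hh.ne_refl
      herm := fun v w => hh.herm _ _ }
  have hten0 : ∀ x x' y y', f (tmul x y) (tmul x' y') = c * f₁ x x' * f₂ y y' := fun x x' y y' => by
    show hermForm n F q (E (tmul x y)) (E (tmul x' y')) = _
    rw [hE, coordEquiv_apply, coordEquiv_apply, hT, mul_assoc, ← formOfGram_single_herm h₁, ← formOfGram_single_herm h₂]
    congr 1
    simp only [Geo.formOfGram, Fintype.sum_prod_type, tmul, Matrix.kroneckerMap_apply, hσ, qEquiv_apply, mul_pow]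
    rw [Finset.sum_mul_sum]
    refine Finset.sum_congr rfl fun a _ => Finset.sum_congr rfl fun a' _ => ?_
    rw [Finset.sum_mul_sum]
    exact Finset.sum_congr rfl fun b _ => Finset.sum_congr rfl fun b' _ => by ring
  obtain ⟨a₁, a₂, -, -, ha⟩ := exists_hyp h₁ (by rw [Fintype.card_fin]; exact h1)
  obtain ⟨b₁, b₂, hbb, -, hb⟩ := exists_hyp h₂ (by rw [Fintype.card_fin]; omega)
  have hcσ : σ c = c := by
    have := hV.herm (tmul a₁ b₁) (tmul a₂ b₂)
    rw [hten0, hten0, map_mul, map_mul, ha, hb, h₁.herm a₁ a₂, h₂.herm b₁ b₂, ha, hb, map_one] at this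
    simp only [mul_one] at this
    exact this.symm
  let fA : (Fin n₁ → F) → (Fin n₁ → F) → F := fun x y => c * f₁ x y
  have hA : Herm σ fA :=
    { add_left := fun x y v => by simp only [fA, h₁.add_left, mul_add]
      smul_left := fun a x v => by simp only [fA, h₁.smul_left]; ring
      add_right := fun v x y => by simp only [fA, h₁.add_right, mul_add]
      smul_right := fun a v x => by simp only [fA, h₁.smul_right]; ring
      eq_zero := fun w hw => h₁.eq_zero _ fun x => (mul_eq_zero.1 (hw x)).resolve_left hc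
      refl := fun v w h => mul_eq_zero_of_right _ (h₁.refl _ _ ((mul_eq_zero.1 h).resolve_left hc))
      invol := h₁.invol
      ne_refl := h₁.ne_refl
      herm := fun v w => by simp only [fA, map_mul, hcσ]; rw [← h₁.herm] }
  have hdet : ∀ k : GL (Fin n₁ × Fin n₂) F,
      ψ k ∈ Geo.specialLinear (Fin n) F ↔ k ∈ Geo.specialLinear (Fin n₁ × Fin n₂) F := fun k => by
    have : (ψ k : Matrix (Fin n) (Fin n) F).det = (k : Matrix (Fin n₁ × Fin n₂) (Fin n₁ × Fin n₂) F).det := by
      show ((P * Geo.glReindex e.symm k * P⁻¹ : GL (Fin n) F) : Matrix (Fin n) (Fin n) F).det = _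
      rw [Units.val_mul, Units.val_mul, Matrix.det_units_conj]
      exact Matrix.det_reindexAlgEquiv F F e.symm _
    constructor
    · intro h
      exact MonoidHom.mem_ker.2 (Units.ext (this.symm.trans (congrArg Units.val (MonoidHom.mem_ker.1 h))))
    · intro h
      exact MonoidHom.mem_ker.2 (Units.ext (this.trans (congrArg Units.val (MonoidHom.mem_ker.1 h))))
  have hK : ∀ k : GL (Fin n₁ × Fin n₂) F, ψ k ∈ GU n F q ⊓ Geo.specialLinear (Fin n) F ↔ k ∈ isoSL f := fun k => by
    rw [Subgroup.mem_inf, mem_GU, mem_isoSL, hdet]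
    refine and_congr ⟨fun h s t => ?_, fun h x y => ?_⟩ Iff.rfl
    · show hermForm n F q (E _) (E _) = _
      rw [← hcompat, ← hcompat, h]
    · obtain ⟨s, rfl⟩ := E.surjective x
      obtain ⟨t, rfl⟩ := E.surjective y
      rw [hcompat, hcompat]
      exact h s t
  have hH : ∀ k : GL (Fin n₁ × Fin n₂) F, ψ k ∈ Geo.tensorProductSubgroup n₁ n₂ e P ↔ IsKron k := fun k => by
    constructor
    · rintro ⟨g, ⟨k', hk', rfl⟩, hg⟩
      have : ψ k' = ψ k := hg
      exact ψ.injective this ▸ hk'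
    · intro hk
      exact ⟨_, ⟨k, hk, rfl⟩, rfl⟩
  refine MaxTv.isMaximalIn_intro (fun g hg => hg.2) ?_ fun M hHM hMK g hg hgH => ?_
  · intro hle
    obtain ⟨τ, hτ, hτs⟩ := hV.exists_skew
    have hv : f (tmul a₁ b₁) (tmul a₁ b₁) = 0 := by rw [hten0, hbb, mul_zero]
    obtain ⟨t, ht, htx⟩ := exists_eich hV (u := 0) (l := τ) hv (hV.toSesq.zero_left _)
      (by rw [hV.toSesq.zero_left, neg_zero, hτs])
    have hk : IsKron t := (hH t).1 (hle ((hK t).2 ht)).1
    have hne : tmul a₁ b₁ ≠ 0 := fun e0 => by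
      have := hten0 a₂ a₁ b₂ b₁
      rw [e0, hV.toSesq.zero_right, ha, hb, mul_one, mul_one] at this
      exact hc this.symm
    have ht1 : t ≠ 1 := fun e0 => by
      have := htx (tmul a₂ b₂)
      rw [e0, Units.val_one, Matrix.one_mulVec, hV.toSesq.zero_right, zero_smul, smul_zero, add_zero, sub_zero,
        left_eq_add, hten0, ha, hb, mul_one, mul_one] at this
      exact smul_ne_zero (mul_ne_zero hτ hc) hne this
    haveI : Nonempty (Fin n₁) := ⟨⟨0, by omega⟩⟩
    have hdim : finrank F (F ∙ tmul a₁ b₁) ≤ Fintype.card (Fin n₁) := by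
      rw [finrank_span_singleton hne, Fintype.card_fin]; omega
    obtain ⟨v, hv0, hW⟩ := hk.root (by rw [Fintype.card_fin, Fintype.card_fin]; exact h12) ht1 hdim fun x => by
      rw [htx, hV.toSesq.zero_right, zero_smul, smul_zero, add_zero, sub_zero, add_sub_cancel_left]
      exact Submodule.smul_mem _ _ (Submodule.mem_span_singleton_self _)
    have := congrArg (fun W : Submodule F (Fin n₁ × Fin n₂ → F) => finrank F W) hW
    simp only [finrank_span_singleton hne, finrank_range_fac hv0, Fintype.card_fin] at this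
    omega
  · have hO : Ovr σ fA f₂ f (M.comap ψ.toMonoidHom) :=
      Ovr.of_mem hA h₂ hV (fun x x' y y' => by rw [hten0]) (fun k hk => (hK k).1 (hMK hk))
        (fun k hk hkk => hHM ⟨(hH k).2 hkk, (hK k).2 hk⟩) (by rw [Fintype.card_fin]; exact h1)
        (by rw [Fintype.card_fin]; omega) (by rw [Fintype.card_fin, Fintype.card_fin]; exact h12)
    have hq' : (∃ r : F, σ r = r ∧ r ≠ 0 ∧ r ≠ 1) ∨ 3 ≤ Fintype.card (Fin n₁) := by
      rcases hq with hq | hq
      · exact Or.inl (exists_fixed_ne hF (by have := two_le_q hF; omega))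
      · exact Or.inr (by rw [Fintype.card_fin]; exact hq)
    obtain ⟨k, rfl⟩ := ψ.surjective g
    have hdich : (∀ x ∈ M.comap ψ.toMonoidHom, IsKron x) ∨ isoSL f ≤ M.comap ψ.toMonoidHom := by
      rcases h4 with h4 | ⟨hn₁, hn₂⟩
      · exact hO.dichotomy (by rw [Fintype.card_fin]; exact h4) hq'
      · rcases hq' with ⟨r, hr, hr0, hr1⟩ | h3
        · exact hO.dichotomy_three (by rw [Fintype.card_fin, hn₁]) (by rw [Fintype.card_fin, hn₂]) hr hr0 hr1
        · rw [Fintype.card_fin] at h3; omega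
    rcases hdich with h | h
    · exact absurd ⟨(hH k).2 (h k hg), hMK hg⟩ hgH
    · intro x hx
      obtain ⟨k', rfl⟩ := ψ.surjective x
      exact h ((hK k').1 hx)

/-- The stabiliser of a tensor product of two unitary spaces is maximal. -/
theorem unitary_tensor_maximal {n q : ℕ} (hF : Fintype.card F = q ^ 2) {n₁ n₂ : ℕ} (h1 : 2 ≤ n₁) (h12 : n₁ < n₂)
    (h4 : 4 ≤ n₂) (hq : q ≠ 2 ∨ 3 ≤ n₁) (e : Fin n ≃ Fin n₁ × Fin n₂) (P : GL (Fin n) F)
    (f₁ : (Fin n₁ → F) → (Fin n₁ → F) → F) (f₂ : (Fin n₂ → F) → (Fin n₂ → F) → F)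
    (hf₁ : Geo.IsUnitaryFormPow q f₁) (hf₂ : Geo.IsUnitaryFormPow q f₂)
    (hT : Geo.IsTensorFormStructure (fun x : F => x ^ q) (hermForm n F q) f₁ f₂ e P) :
    Geo.IsMaximalIn (GU n F q ⊓ Geo.specialLinear (Fin n) F)
      (Geo.tensorProductSubgroup n₁ n₂ e P ⊓ (GU n F q ⊓ Geo.specialLinear (Fin n) F)) :=
  unitary_tensor_maximal_of hF h1 h12 (Or.inl h4) hq e P f₁ f₂ hf₁ hf₂ hT

end Cfsg.Agent.Classical.TensorHerm
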