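import Cfsg.Agent.Lib.Classical.MaxUnitOrthFour
import Cfsg.Agent.Lib.Classical.LinFour.UnitGen

/-!
Orthogonal groups are maximal in special unitary groups of odd characteristic.

Without transvections the Siegel elements at a non-rational image of a rational point would supply one with centre at a
rational point.
-/

set_option autoImplicit false
set_option linter.unusedSectionVars false

namespace Cfsg.Agent.Classical.MaxTv

open Matrix Module

variable {F : Type*} [Field F] {ι : Type} [Fintype ι] [DecidableEq ι]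

local notation "V" => (ι → F)
local notation "Mn" => Matrix ι ι F

variable {σ : F ≃+* F} {f : (ι → F) → (ι → F) → F} {F₀ : Subfield F} {P : GL ι F} {M : Subgroup (GL ι F)}

/-- Orthogonal groups are maximal in `SU` for odd `q`. -/
theorem ORat.maximal [Finite F] (hd : ORat σ f F₀ P) {τ₀ : F} (hτ0 : τ₀ ≠ 0) (hτ₀ : τ₀ + σ τ₀ = 0)
    (hdec : ∀ v : V, ∃ a b, Rat F₀ P a ∧ Rat F₀ P b ∧ v = a + τ₀ • b) {G : Subgroup (GL ι F)}
    (hG : ∀ g : GL ι F, (∀ p q, f ((g : Mn) *ᵥ p) ((g : Mn) *ᵥ q) = f p q) → g ∈ Geo.specialLinear ι F → g ∈ G)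
    (hGi : ∀ g ∈ G, ∀ p q, f ((g : Mn) *ᵥ p) ((g : Mn) *ᵥ q) = f p q) :
    ¬ G ≤ Geo.subfieldSubgroup F₀ P ⊓ G ∧
    ∀ M, Geo.subfieldSubgroup F₀ P ⊓ G ≤ M → M ≤ G → ∀ g ∈ M, g ∉ Geo.subfieldSubgroup F₀ P ⊓ G →
      ∀ v, f v v = 0 → UPt σ f M v := by
  have hs := hd.herm
  have hdim := hd.dim
  have hfix : ∀ a ∈ F₀, σ a = a := fun a ha => (hd.fixed a).1 ha
  have hστ : σ τ₀ = -τ₀ := by linear_combination hτ₀
  have split : ∀ a b : F, a ∈ F₀ → b ∈ F₀ → a + τ₀ * b ∈ F₀ → b = 0 := fun a b ha hb h => by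
    have h1 := hfix _ h
    rw [map_add, map_mul, hfix a ha, hfix b hb, hστ] at h1
    exact (mul_eq_zero.1 (show (2 * τ₀) * b = 0 by linear_combination -h1)).resolve_left
      (mul_ne_zero hd.two hτ0)
  refine ⟨fun hle => ?_, fun M hHM hMG g hgM hgH => ?_⟩
  · obtain ⟨p, hp, -, hpp, hp0⟩ := hd.exists_iso (k := 0) (fun i => i.elim0) (fun i => i.elim0) (by omega)
    obtain ⟨h, hh, hhp⟩ := hd.exists_dual hp hp0
    obtain ⟨t, ⟨-, htd⟩, hti, htx⟩ := exists_isometry_tv hs.toSesq hpp (hs.tv_cond (c := τ₀) hτ₀ p)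
    obtain ⟨a, ha, hA⟩ := exists_of_mem_subfieldSubgroup (hle (hG t hti htd)).1
    have h1 := hA p hp
    rw [htx, hpp, mul_zero, zero_smul, add_zero] at h1
    have haF : a ∈ F₀ := by
      have h2 := hd.rat _ _ h1 hh
      rwa [hs.smul_left, hd.symm hh hp, hhp, mul_one] at h2
    have h2 := hA h hh
    rw [htx, hhp, mul_one, smul_add, smul_smul] at h2
    have h3 := hd.rat _ _ (h2.sub (hh.smul haF)) hh
    rw [add_sub_cancel_left, hs.smul_left, hd.symm hh hp, hhp, mul_one] at h3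
    exact ha (split 0 a (zero_mem _) haF (by rw [zero_add, mul_comm]; exact h3))
  have hMi : ∀ {k : GL ι F}, k ∈ M → ∀ p q, f ((k : Mn) *ᵥ p) ((k : Mn) *ᵥ q) = f p q := fun hk => hGi _ (hMG hk)
  have memH : ∀ {k : GL ι F}, (∀ p q, f ((k : Mn) *ᵥ p) ((k : Mn) *ᵥ q) = f p q) → k ∈ Geo.specialLinear ι F →
      RatMap F₀ P k → k ∈ M := fun hi hdet hR =>
    hHM ⟨mem_subfieldSubgroup_of one_ne_zero fun y hy => by rw [one_smul]; exact hR y hy, hG _ hi hdet⟩
  have cnRat : ∀ q r : V, Rat F₀ P q → f q q = 0 → Rat F₀ P r → f r q = 0 → CnO f F₀ M q r := by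
    intro q r hq hqq hr hrq
    refine ⟨hrq, fun a ha => ?_⟩
    obtain ⟨t, hti, htd, htx⟩ := hd.exists_eD hqq (show f (a • r) q = 0 by rw [hs.smul_left, hrq, mul_zero])
    refine ⟨t, memH hti htd fun y hy => ?_, htx⟩
    rw [htx]
    have har : Rat F₀ P (a • r) := hr.smul ha
    refine hy.add (((har.smul (hd.rat y q hy hq)).sub (hq.smul (hd.rat y _ hy har))).sub (hq.smul ?_))
    exact mul_mem (div_mem (hd.rat _ _ har har) (ofNat_mem F₀ 2)) (hd.rat y q hy hq)
  -- a transvection with rational centre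
  obtain ⟨p₀, hp₀, hp₀p₀, hp₀0, hp₀M⟩ : ∃ p, Rat F₀ P p ∧ f p p = 0 ∧ p ≠ 0 ∧ UPt σ f M p := by
    by_contra hno
    push Not at hno
    obtain ⟨p, hp, hpp, hp0, hoff⟩ : ∃ p, Rat F₀ P p ∧ f p p = 0 ∧ p ≠ 0 ∧ ¬ RatLine F₀ P ((g : Mn) *ᵥ p) := by
      by_contra hall
      push Not at hall
      apply hgH
      refine ⟨?_, hMG hgM⟩
      obtain ⟨e, he, -, hee, he0⟩ := hd.exists_iso (k := 0) (fun i => i.elim0) (fun i => i.elim0) (by omega)
      have gne : ∀ {y : V}, y ≠ 0 → (g : Mn) *ᵥ y ≠ 0 := fun {y} hy h =>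
        hy (gl_mulVec_injective g (by simpa using h))
      obtain ⟨k₁, r₁, hr₁, hk₁⟩ := hall e he hee he0
      have hk₁0 : k₁ ≠ 0 := fun h => gne he0 (by rw [hk₁, h, zero_smul])
      refine mem_subfieldSubgroup_of (inv_ne_zero hk₁0) fun y hy => ?_
      have step : ∀ s p, Rat F₀ P s → Rat F₀ P p → f p p = 0 → f s p ≠ 0 → Rat F₀ P (k₁⁻¹ • ((g : Mn) *ᵥ s)) →
          Rat F₀ P (k₁⁻¹ • ((g : Mn) *ᵥ p)) := by
        intro s p hs' hp hpp hsp hsR
        have hp0 : p ≠ 0 := fun h => hsp (by rw [h, hs.toSesq.zero_right])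
        obtain ⟨l, r, hr, hl⟩ := hall p hp hpp hp0
        have h1 := hd.rat _ _ hsR hr
        have hl0 : l ≠ 0 := fun h => gne hp0 (by rw [hl, h, zero_smul])
        have h2 : f s p = σ l * f ((g : Mn) *ᵥ s) r := by rw [← hMi hgM s p, hl, hs.smul_right]
        rw [hs.smul_left] at h1
        rw [hl, smul_smul]
        refine hr.smul ?_
        have hmem := mul_mem (hd.rat s p hs' hp) (inv_mem h1)
        have hne : f ((g : Mn) *ᵥ s) r ≠ 0 := fun h => hsp (by rw [h2, h, mul_zero])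
        have e1 : f s p * (k₁⁻¹ * f ((g : Mn) *ᵥ s) r)⁻¹ = σ l * k₁ := by rw [h2]; field_simp
        rw [e1] at hmem
        have h3 := hfix _ hmem
        rw [map_mul, hs.invol] at h3
        have hN : k₁ * σ k₁ ∈ F₀ := (hd.fixed _).2 (by rw [map_mul, hs.invol]; ring)
        have := div_mem hmem hN
        refine (hd.fixed _).2 ?_
        have hσk : σ k₁ ≠ 0 := σ.map_ne_zero_iff.2 hk₁0
        rw [map_mul, map_inv₀]
        field_simp
        linear_combination -h3
      have heR : Rat F₀ P (k₁⁻¹ • ((g : Mn) *ᵥ e)) := by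
        rw [hk₁, smul_smul, inv_mul_cancel₀ hk₁0, one_smul]; exact hr₁
      have hisoR : ∀ p, Rat F₀ P p → f p p = 0 → Rat F₀ P (k₁⁻¹ • ((g : Mn) *ᵥ p)) := fun p hp hpp => by
        rcases eq_or_ne p 0 with rfl | hp0
        · rw [Matrix.mulVec_zero, smul_zero]; exact Rat.zero
        obtain ⟨s, hsr, hss, hes, hps⟩ := hd.exists_iso_pairing_both he hp he0 hp0
        exact step s p hsr hp hpp (fun h => hps (hs.refl _ _ h)) (step e s he hsr hss hes heR)
      rcases eq_or_ne (f y y) 0 with hyy | hyy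
      · exact hisoR y hy hyy
      obtain ⟨s, hsr, hss, hys⟩ := hd.exists_iso_pairing hy (fun h => hyy (by rw [h, hs.toSesq.zero_left]))
      obtain ⟨α, hα⟩ : ∃ α, α = f y y / (2 * f y s) := ⟨_, rfl⟩
      have hαF : α ∈ F₀ := hα ▸ div_mem (hd.rat y y hy hy) (mul_mem (ofNat_mem F₀ 2) (hd.rat y s hy hsr))
      have h1 := hisoR (y - α • s) (hy.sub (hsr.smul hαF)) (by
        rw [hs.toSesq.sub_left, hs.toSesq.sub_right, hs.toSesq.sub_right, hs.smul_left, hs.smul_left, hs.smul_right,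
          hs.smul_right, hfix α hαF, hd.symm hy hsr, hss, hα]
        have := hd.two
        field_simp; ring)
      have h2 := h1.add ((hisoR s hsr hss).smul hαF)
      rwa [Matrix.mulVec_sub, Matrix.mulVec_smul, smul_sub, smul_smul, smul_smul, mul_comm α, sub_add_cancel] at h2
    rcases hd.big with h6 | ⟨h4, h5⟩
    swap
    · exact hd.false_of_off ⟨fun k hk => hMi hk, fun k hi hd' hR => memH hi hd' hR, hno⟩ h4 h5 hτ0 hτ₀ hdec hgM
        hp hpp hp0 hoff
    obtain ⟨x, hx⟩ : ∃ x, x = (g : Mn) *ᵥ p := ⟨_, rfl⟩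
    rw [← hx] at hoff
    have hxx : f x x = 0 := by rw [hx, hMi hgM, hpp]
    have nox : ¬ UPt σ f M x := fun h => hno p hp hpp hp0 (by
      have := h.map hs (inv_mem hgM) (hMi (inv_mem hgM))
      rwa [hx, inv_mulVec_cancel] at this)
    obtain ⟨a, b, ha, hb, hab⟩ := hdec x
    have hb0 : b ≠ 0 := fun h => hoff ⟨1, a, ha, by rw [hab, h, smul_zero, add_zero, one_smul]⟩
    have hindab : ∀ k : F, a ≠ k • b := fun k h => hoff ⟨k + τ₀, b, hb, by rw [hab, h, add_smul]⟩
    have ha0 : a ≠ 0 := fun h => hindab 0 (by rw [h, zero_smul])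
    have hindba : ∀ k : F, b ≠ k • a := fun k h => hindab k⁻¹ (by
      rw [h, smul_smul, inv_mul_cancel₀ (fun h0 => hb0 (by rw [h, h0, zero_smul])), one_smul])
    -- a Siegel element at `x` with a non-zero pairing
    obtain ⟨c, hc, w₀, hw₀, hw₀a, hw₀b, hcw⟩ : ∃ c, CnO f F₀ M x c ∧ ∃ w, Rat F₀ P w ∧ f w a = 0 ∧ f w b = 0 ∧
        f c w ≠ 0 := by
      obtain ⟨w, hw, hwv, hww⟩ := hd.exists_anis ![a, b] (by intro i; fin_cases i <;> assumption) (by omega)
      by_contra hcon
      push Not at hcon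
      obtain ⟨d, hd'⟩ : ∃ d, (g : Mn) *ᵥ d = w := ⟨_, mulVec_inv_cancel g w⟩
      obtain ⟨h, hh, hhp⟩ := hd.exists_dual hp hp0
      have hd0 : ∀ u, Rat F₀ P u → f u p = 0 → f u d = 0 := fun u hu hup => by
        have := hcon ((g : Mn) *ᵥ u) (hx ▸ hd.cn_map (cnRat p u hp hpp hu hup) hgM (hMi hgM)) w hw (hwv 0) (hwv 1)
        rwa [← hd', hMi hgM] at this
      have hdp : d - σ (f h d) • p = 0 := hd.zero_of_rat fun u hu => by
        have h1 := hd0 (u - f u p • h) (hu.sub (hh.smul (hd.rat u p hu hp)))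
          (by rw [hs.toSesq.sub_left, hs.smul_left, hhp, mul_one, sub_self])
        rw [hs.toSesq.sub_left, hs.smul_left] at h1
        rw [hs.toSesq.sub_right, hs.smul_right, hs.invol]
        linear_combination h1
      rw [sub_eq_zero] at hdp
      have h2 : w = σ (f h d) • x := by rw [hx, ← Matrix.mulVec_smul, ← hdp, hd']
      have hne : σ (f h d) ≠ 0 := fun h3 => hww (by rw [h2, h3, zero_smul, hs.toSesq.zero_left])
      exact hoff ⟨(σ (f h d))⁻¹, w, hw, by rw [h2, smul_smul, inv_mul_cancel₀ hne, one_smul]⟩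
    -- isotropy of `x` in coordinates
    have hax : f a a = τ₀ * τ₀ * f b b := by
      have h1 := hxx
      rw [hab, hs.add_left, hs.add_right, hs.add_right, hs.smul_left, hs.smul_left, hs.smul_right, hs.smul_right,
        hστ, hd.symm ha hb] at h1
      linear_combination h1
    have hxw : ∀ w, f w a = 0 → f w b = 0 → f w x = 0 := fun w h1 h2 => by
      rw [hab, hs.add_right, hs.smul_right, h1, h2, mul_zero, add_zero]
    -- the increment of `c` under a rational Siegel element fixing `x`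
    have hdiff : ∀ q w, Rat F₀ P q → f q q = 0 → f q x = 0 → Rat F₀ P w → f w q = 0 → f w x = 0 →
        CnO f F₀ M x (f c q • w + (-(f c w) - f w w / 2 * f c q) • q) := by
      intro q w hq hqq hqx hw hwq hwx
      obtain ⟨k, hk, hkx⟩ := (cnRat q w hq hqq hw hwq).2 1 (one_mem _)
      rw [one_smul] at hkx
      have hkfix : (k : Mn) *ᵥ x = x := by rw [hkx, eD, hs.refl _ _ hqx, hs.refl _ _ hwx]; simp
      have hkc : (k : Mn) *ᵥ c = c + (f c q • w + (-(f c w) - f w w / 2 * f c q) • q) := by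
        rw [hkx, eD]; module
      have h1 := hd.cn_map hc hk (hMi hk)
      rw [hkfix, hkc] at h1
      have h2 := hd.cn_smul hc (neg_mem (one_mem F₀))
      have h3 := hd.cn_add hxx h1 h2 (by_contra fun hne => nox (hd.heis hxx h1 h2 hne))
      rwa [show c + (f c q • w + (-(f c w) - f w w / 2 * f c q) • q) + (-1 : F) • c =
        f c q • w + (-(f c w) - f w w / 2 * f c q) • q by module] at h3
    -- a non-zero multiple of a rational singular vector
    have hget : ∀ q, Rat F₀ P q → f q q = 0 → f q x = 0 → ∀ w, Rat F₀ P w → f w q = 0 → f w x = 0 →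
        (f c q ≠ 0 ∧ f w w ≠ 0 ∨ f c q = 0 ∧ f c w ≠ 0) → ∃ κ : F, κ ≠ 0 ∧ CnO f F₀ M x (κ • q) := by
      intro q hq hqq hqx w hw hwq hwx hcase
      have h1 := hdiff q w hq hqq hqx hw hwq hwx
      rcases hcase with ⟨hcq, hww⟩ | ⟨hcq, hcw'⟩
      · have h2 := hdiff q ((-1 : F) • w) hq hqq hqx (hw.smul (neg_mem (one_mem F₀)))
          (by rw [hs.smul_left, hwq, mul_zero]) (by rw [hs.smul_left, hwx, mul_zero])
        refine ⟨-(f w w) * f c q, mul_ne_zero (neg_ne_zero.2 hww) hcq, ?_⟩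
        have h3 := hd.cn_add hxx h1 h2 (by_contra fun hne => nox (hd.heis hxx h1 h2 hne))
        convert h3 using 1
        rw [hs.smul_left, hs.smul_right, hs.smul_right, map_neg, map_one]
        have := hd.two
        match_scalars <;> field_simp <;> ring
      · refine ⟨-(f c w), neg_ne_zero.2 hcw', ?_⟩
        simpa [hcq] using h1
    have hswap : ∀ q κ, f q q = 0 → f q x = 0 → CnO f F₀ M x (κ • q) → CnO f F₀ M q ((-(σ κ)) • x) := by
      intro q κ hqq hqx hκq
      refine ⟨by rw [hs.smul_left, hs.refl _ _ hqx, mul_zero], fun a' ha' => (hκq.2 a' ha').congr fun y => ?_⟩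
      simp only [eD, smul_smul, hs.smul_left, hs.smul_right, map_mul, map_neg, hs.invol, hfix a' ha', hqq, hxx,
        mul_zero, zero_div, zero_mul, zero_smul, sub_zero]
      module
    have hnd' : f a a * f b b - f a b * f a b ≠ 0 → False := by
      intro hΔ
      obtain ⟨D, hD⟩ : ∃ D, D = f a a * f b b - f a b * f a b := ⟨_, rfl⟩
      rw [← hD] at hΔ
      have hDF : D ∈ F₀ := hD ▸ sub_mem (mul_mem (hd.rat a a ha ha) (hd.rat b b hb hb))
        (mul_mem (hd.rat a b ha hb) (hd.rat a b ha hb))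
      obtain ⟨sa, hsa'⟩ : ∃ sa, sa = (f b b / D) • a - (f a b / D) • b := ⟨_, rfl⟩
      obtain ⟨sb, hsb'⟩ : ∃ sb, sb = (f a a / D) • b - (f a b / D) • a := ⟨_, rfl⟩
      have hsa : Rat F₀ P sa := hsa' ▸ (ha.smul (div_mem (hd.rat b b hb hb) hDF)).sub
        (hb.smul (div_mem (hd.rat a b ha hb) hDF))
      have hsb : Rat F₀ P sb := hsb' ▸ (hb.smul (div_mem (hd.rat a a ha ha) hDF)).sub
        (ha.smul (div_mem (hd.rat a b ha hb) hDF))
      have hba : f b a = f a b := hd.symm ha hb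
      have hsaa : f sa a = 1 := by
        rw [hsa', hs.toSesq.sub_left, hs.smul_left, hs.smul_left, hba]; field_simp; linear_combination -hD
      have hsab : f sa b = 0 := by rw [hsa', hs.toSesq.sub_left, hs.smul_left, hs.smul_left]; ring
      have hsbb : f sb b = 1 := by
        rw [hsb', hs.toSesq.sub_left, hs.smul_left, hs.smul_left]; field_simp; linear_combination -hD
      have hsba : f sb a = 0 := by rw [hsb', hs.toSesq.sub_left, hs.smul_left, hs.smul_left, hba]; ring
      have hperp2 : ∀ z, f z a = 0 → f z b = 0 → f z sa = 0 ∧ f z sb = 0 := fun z h1 h2 => by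
        rw [hsa', hsb', hs.toSesq.sub_right, hs.toSesq.sub_right, hs.smul_right, hs.smul_right, hs.smul_right,
          hs.smul_right, h1, h2]; simp
      have hfirst : ∀ q, Rat F₀ P q → f q q = 0 → f q a = 0 → f q b = 0 → f c q ≠ 0 →
          ∃ κ : F, κ ≠ 0 ∧ CnO f F₀ M x (κ • q) := by
        intro q hq hqq hqa hqb hcq
        obtain ⟨r, hr, hrr, hrp⟩ : ∃ r, Rat F₀ P r ∧ f r r ≠ 0 ∧
            ∀ z, f z a = 0 → f z b = 0 → f z r = 0 := by
          by_cases h : f b b = 0
          · refine ⟨a + b, ha.add hb, ?_, fun z h1 h2 => by rw [hs.add_right, h1, h2, add_zero]⟩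
            rw [hs.add_left, hs.add_right, hs.add_right, hba, hax, h, mul_zero, zero_add, add_zero, ← two_mul]
            exact mul_ne_zero hd.two fun e => hΔ (by rw [hD, e, h]; ring)
          · exact ⟨b, hb, h, fun z _ h2 => h2⟩
        obtain ⟨w, hw, hwv, hww⟩ := hd.exists_anis' ![a, b, q] (by intro i; fin_cases i <;> assumption)
          (by omega) hr hrr fun z _ hz => hrp z (hz 0) (hz 1)
        exact hget q hq hqq (hxw q hqa hqb) w hw (hwv 2) (hxw w (hwv 0) (hwv 1)) (Or.inl ⟨hcq, hww⟩)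
      obtain ⟨q, hq, hqq, hq0, qa, qb, κ, hκ0, hκq⟩ : ∃ q, Rat F₀ P q ∧ f q q = 0 ∧ q ≠ 0 ∧ f q a = 0 ∧
          f q b = 0 ∧ ∃ κ : F, κ ≠ 0 ∧ CnO f F₀ M x (κ • q) := by
        obtain ⟨q, hq, hqv, hqq, hq0⟩ := hd.exists_iso ![a, b] (by intro i; fin_cases i <;> assumption) (by omega)
        have hqa : f q a = 0 := hqv 0
        have hqb : f q b = 0 := hqv 1
        by_cases hcq : f c q = 0
        · by_cases hw : ∃ w, Rat F₀ P w ∧ f w a = 0 ∧ f w b = 0 ∧ f w q = 0 ∧ f c w ≠ 0
          · obtain ⟨w, hw, hwa, hwb, hwq, hcw'⟩ := hw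
            exact ⟨q, hq, hqq, hq0, hqa, hqb,
              hget q hq hqq (hxw q hqa hqb) w hw hwq (hxw w hwa hwb) (Or.inr ⟨hcq, hcw'⟩)⟩
          push Not at hw
          obtain ⟨h, hh, hhq⟩ := hd.exists_dual hq hq0
          obtain ⟨h', hh'⟩ : ∃ h', h' = h - f h a • sa - f h b • sb := ⟨_, rfl⟩
          have hh'r : Rat F₀ P h' :=
            hh' ▸ (hh.sub (hsa.smul (hd.rat h a hh ha))).sub (hsb.smul (hd.rat h b hh hb))
          have hh'a : f h' a = 0 := by
            rw [hh', hs.toSesq.sub_left, hs.toSesq.sub_left, hs.smul_left, hs.smul_left, hsaa, hsba]; ring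
          have hh'b : f h' b = 0 := by
            rw [hh', hs.toSesq.sub_left, hs.toSesq.sub_left, hs.smul_left, hs.smul_left, hsab, hsbb]; ring
          have hh'q : f h' q = 1 := by
            rw [hh', hs.toSesq.sub_left, hs.toSesq.sub_left, hs.smul_left, hs.smul_left,
              hs.refl _ _ (hperp2 q hqa hqb).1, hs.refl _ _ (hperp2 q hqa hqb).2, hhq]; ring
          have hl : f w₀ q ∈ F₀ := hd.rat _ _ hw₀ hq
          have hch : f c h' ≠ 0 := fun e => hcw (by
            have h1 := hw (w₀ - f w₀ q • h') (hw₀.sub (hh'r.smul hl))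
              (by rw [hs.toSesq.sub_left, hs.smul_left, hw₀a, hh'a]; ring)
              (by rw [hs.toSesq.sub_left, hs.smul_left, hw₀b, hh'b]; ring)
              (by rw [hs.toSesq.sub_left, hs.smul_left, hh'q]; ring)
            rwa [hs.toSesq.sub_right, hs.smul_right, e, mul_zero, sub_zero] at h1)
          have h2F : f h' h' / 2 ∈ F₀ := div_mem (hd.rat _ _ hh'r hh'r) (ofNat_mem F₀ 2)
          obtain ⟨q', hq'⟩ : ∃ q', q' = h' - (f h' h' / 2) • q := ⟨_, rfl⟩
          have hq'r : Rat F₀ P q' := hq' ▸ hh'r.sub (hq.smul h2F)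
          have hqh' : f q h' = 1 := by rw [hd.symm hh'r hq, hh'q]
          have hq'q' : f q' q' = 0 := by
            rw [hq', hs.toSesq.sub_left, hs.toSesq.sub_right, hs.toSesq.sub_right, hs.smul_left, hs.smul_left,
              hs.smul_right, hs.smul_right, hfix _ h2F, hh'q, hqh', hqq]
            have := hd.two
            field_simp; ring
          have hcq' : f c q' ≠ 0 := by rwa [hq', hs.toSesq.sub_right, hs.smul_right, hcq, mul_zero, sub_zero]
          have hq'a : f q' a = 0 := by rw [hq', hs.toSesq.sub_left, hs.smul_left, hh'a, hqa]; ring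
          have hq'b : f q' b = 0 := by rw [hq', hs.toSesq.sub_left, hs.smul_left, hh'b, hqb]; ring
          exact ⟨q', hq'r, hq'q', fun e => hcq' (by rw [e, hs.toSesq.zero_right]), hq'a, hq'b,
            hfirst q' hq'r hq'q' hq'a hq'b hcq'⟩
        · exact ⟨q, hq, hqq, hq0, hqa, hqb, hfirst q hq hqq hqa hqb hcq⟩
      have hqx : f q x = 0 := hxw q qa qb
      have hxq := hswap q κ hqq hqx hκq
      have hreal : ∀ r, Rat F₀ P r → f q r = 0 → f ((-(σ κ)) • x) r ∈ F₀ := fun r hr hqr =>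
        by_contra fun hne => hno q hq hqq hq0 (hd.heis hqq hxq (cnRat q r hq hqq hr (hs.refl _ _ hqr)) hne)
      have e1 := hreal sa hsa (hperp2 q qa qb).1
      have e2 := hreal sb hsb (hperp2 q qa qb).2
      rw [hab, hs.smul_left, hs.add_left, hs.smul_left, hd.symm hsa ha, hd.symm hsa hb, hsaa, hsab, mul_zero,
        add_zero, mul_one] at e1
      rw [hab, hs.smul_left, hs.add_left, hs.smul_left, hd.symm hsb ha, hd.symm hsb hb, hsba, hsbb, zero_add,
        mul_one] at e2
      exact hκ0 (σ.map_eq_zero_iff.1 (neg_eq_zero.1 (split 0 _ (zero_mem _) e1 (by rw [zero_add, mul_comm]; exact e2))))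
    by_cases hbb : f b b = 0
    · -- a totally singular rational plane
      have haa : f a a = 0 := by rw [hax, hbb, mul_zero]
      by_cases hab0 : f a b = 0
      · have hab0' : f b a = 0 := hs.refl _ _ hab0
        have hax' : f a x = 0 := hxw a haa hab0
        obtain ⟨κ, hκ0, hκa⟩ : ∃ κ : F, κ ≠ 0 ∧ CnO f F₀ M x (κ • a) := by
          by_cases hca : f c a = 0
          · exact hget a ha haa hax' w₀ hw₀ hw₀a (hxw w₀ hw₀a hw₀b) (Or.inr ⟨hca, hcw⟩)
          · obtain ⟨w, hw, hwv, hww⟩ := hd.exists_anis ![a, b] (by intro i; fin_cases i <;> assumption) (by omega)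
            exact hget a ha haa hax' w hw (hwv 0) (hxw w (hwv 0) (hwv 1)) (Or.inl ⟨hca, hww⟩)
        have hxa := hswap a κ haa hax' hκa
        have hra : ∀ r, Rat F₀ P r → f r a = 0 → f ((-(σ κ)) • x) r ∈ F₀ := fun r hr hra =>
          by_contra fun hne => hno a ha haa ha0 (hd.heis haa hxa (cnRat a r ha haa hr hra) hne)
        obtain ⟨sb, hsb, hsba, hsbb⟩ := hd.exists_sep hb ha ha0 hindba
        have e2 := hra sb hsb hsba
        rw [hab, hs.smul_left, hs.add_left, hs.smul_left, hd.symm hsb ha, hd.symm hsb hb, hsba, hsbb, zero_add,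
          mul_one] at e2
        have h2 := cnRat a ((σ κ * τ₀) • b) ha haa (hb.smul (by simpa using neg_mem e2))
          (by rw [hs.smul_left, hab0', mul_zero])
        have h3 := hd.cn_add haa hxa h2 (by
          rw [hs.smul_left, hs.smul_right, hab, hs.add_left, hs.smul_left, hab0, hbb, mul_zero, add_zero, mul_zero,
            mul_zero]
          exact zero_mem _)
        rw [show (-(σ κ)) • x + (σ κ * τ₀) • b = (-(σ κ)) • a by rw [hab]; module] at h3
        -- a transvection centred at `a`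
        refine hno a ha haa ha0 fun τ hτ => ?_
        have hμ : σ κ ≠ 0 := σ.map_ne_zero_iff.2 hκ0
        have hsk := hfix _ e2
        simp only [map_mul, map_neg, hs.invol, hστ] at hsk
        have hκσ : σ (σ κ) = -σ κ := by
          rw [hs.invol]
          exact mul_right_cancel₀ hτ0 (by linear_combination hsk)
        have hστ' : σ τ = -τ := by linear_combination hτ
        have haF : τ / (2 * -σ κ) ∈ F₀ := (hd.fixed _).2 (by
          rw [map_div₀, map_mul, map_ofNat, map_neg, hκσ, hστ', neg_neg]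
          field_simp)
        obtain ⟨T, hT, hTx⟩ := h3.2 _ haF
        refine ⟨T, hT, fun y => ?_⟩
        rw [hTx]
        simp only [eD, smul_smul, hs.smul_left, hs.smul_right, haa, map_mul, (hd.fixed _).1 haF, map_neg, hκσ]
        have := hd.two
        match_scalars <;> field_simp <;> ring
      · exact hnd' (by rw [hbb, mul_zero, zero_sub]; exact neg_ne_zero.2 (mul_ne_zero hab0 hab0))
    · refine hnd' fun h0 => ?_
      have hρ : f a b / f b b ∈ F₀ := div_mem (hd.rat a b ha hb) (hd.rat b b hb hb)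
      have h1 : (f a b / f b b - τ₀) * (f a b / f b b + τ₀) = 0 := by
        field_simp
        linear_combination -h0 + f b b * hax
      rcases mul_eq_zero.1 h1 with h | h
      · exact one_ne_zero (split 0 1 (zero_mem _) (one_mem _) (by
          rw [zero_add, mul_one, ← sub_eq_zero.1 h]; exact hρ))
      · exact one_ne_zero (split 0 1 (zero_mem _) (one_mem _) (by
          rw [zero_add, mul_one, show τ₀ = -(f a b / f b b) by linear_combination h]; exact neg_mem hρ))
  -- all rational centres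
  have hmove : ∀ p q, Rat F₀ P p → Rat F₀ P q → f p p = 0 → f q q = 0 → f p q ≠ 0 → UPt σ f M p → UPt σ f M q := by
    intro p q hp hq hpp hqq hpq h
    obtain ⟨z, hz, hzv, hzz⟩ := hd.exists_anis' ![p, q] (by intro i; fin_cases i <;> assumption) (by omega)
      (hp.add hq)
      (by rw [hs.add_left, hs.add_right, hs.add_right, hpp, hqq, hd.symm hp hq, zero_add, add_zero, ← two_mul]
          exact mul_ne_zero hd.two hpq)
      (fun z _ hz => by rw [hs.add_right, show f z p = 0 from hz 0, show f z q = 0 from hz 1, add_zero])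
    have huu : f (p - q) (p - q) = -2 * f p q := by
      rw [hs.toSesq.sub_left, hs.toSesq.sub_right, hs.toSesq.sub_right, hpp, hqq, hd.symm hp hq]; ring
    obtain ⟨r₁, h1i, h1d, h1R, h1x⟩ := hd.exists_refl (hp.sub hq) (by
      rw [huu]; exact mul_ne_zero (neg_ne_zero.2 hd.two) hpq)
    obtain ⟨r₂, h2i, h2d, h2R, h2x⟩ := hd.exists_refl hz hzz
    have hk : r₁ * r₂ ∈ M := memH
      (fun y y' => by rw [Units.val_mul, ← Matrix.mulVec_mulVec, ← Matrix.mulVec_mulVec, h1i, h2i])
      (MonoidHom.mem_ker.2 (Units.ext (by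
        rw [Matrix.GeneralLinearGroup.val_det_apply, Units.val_mul, Matrix.det_mul, h1d, h2d]; simp)))
      (fun y hy => by rw [Units.val_mul, ← Matrix.mulVec_mulVec]; exact h1R _ (h2R y hy))
    have := h.map hs hk (hMi hk)
    have h2 : f p (p - q) = -f p q := by rw [hs.toSesq.sub_right, hpp, zero_sub]
    rwa [Units.val_mul, ← Matrix.mulVec_mulVec, h2x, hs.refl _ _ (show f z p = 0 from hzv 0), mul_zero, zero_div,
      zero_smul, sub_zero, h1x, huu, h2, show 2 * -f p q / (-2 * f p q) = 1 by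
        have := hd.two; field_simp, one_smul, sub_sub_cancel] at this
  have hRatCt : ∀ p, Rat F₀ P p → f p p = 0 → UPt σ f M p := fun p hp hpp => by
    rcases eq_or_ne p 0 with rfl | hp0
    · exact UPt.zero hs
    obtain ⟨s, hsr, hss, h₀s, hps⟩ := hd.exists_iso_pairing_both hp₀ hp hp₀0 hp0
    exact hmove s p hsr hp hss hpp (fun h => hps (hs.refl _ _ h)) (hmove p₀ s hp₀ hsr hp₀p₀ hss h₀s hp₀M)
  have hskew : ∀ α ∈ F₀, α * τ₀ + σ (α * τ₀) = 0 := fun α hα => by rw [map_mul, hfix α hα, hστ]; ring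
  -- planes
  have hplane : ∀ p q, Rat F₀ P p → Rat F₀ P q → f p p = 0 → f q q = 0 → UPt σ f M (p + τ₀ • q) := by
    have h0 : ∀ p q, Rat F₀ P p → Rat F₀ P q → f p p = 0 → f q q = 0 → f p q ≠ 0 → UPt σ f M (p + τ₀ • q) := by
      intro p q hp hq hpp hqq hpq
      have := (hRatCt p hp hpp).add_smul hs (hRatCt q hq hqq) hqq (c := (f p q)⁻¹ * τ₀)
        (hskew _ (inv_mem (hd.rat p q hp hq)))
      rwa [show (f p q)⁻¹ * τ₀ * f p q = τ₀ by field_simp] at this
    intro p q hp hq hpp hqq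
    by_cases hpq : f p q ≠ 0
    · exact h0 p q hp hq hpp hqq hpq
    push Not at hpq
    by_cases hdep : ∀ k : F, p ≠ k • q
    · rcases eq_or_ne q 0 with rfl | hq0
      · rw [smul_zero, add_zero]; exact hRatCt p hp hpp
      obtain ⟨h, hh, hhq, hhp⟩ := hd.exists_sep hp hq hq0 hdep
      have h2 : f h h / 2 ∈ F₀ := div_mem (hd.rat h h hh hh) (ofNat_mem F₀ 2)
      obtain ⟨s, hs'⟩ : ∃ s, s = h - (f h h / 2) • p := ⟨_, rfl⟩
      have hsr : Rat F₀ P s := hs' ▸ hh.sub (hp.smul h2)
      have hph : f p h = 1 := by rw [hd.symm hh hp, hhp]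
      have hps : f p s = 1 := by rw [hs', hs.toSesq.sub_right, hs.smul_right, hph, hpp, mul_zero, sub_zero]
      have hqs : f q s = 0 := by
        rw [hs', hs.toSesq.sub_right, hs.smul_right, hd.symm hh hq, hhq, hs.refl _ _ hpq, mul_zero, sub_zero]
      have hss : f s s = 0 := by
        rw [hs', hs.toSesq.sub_left, hs.toSesq.sub_right, hs.toSesq.sub_right, hs.smul_left, hs.smul_left,
          hs.smul_right, hs.smul_right, hfix _ h2, hph, hhp, hpp]
        have := hd.two
        field_simp; ring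
      have hy := h0 p (q - s) hp (hq.sub hsr) hpp
        (by rw [hs.toSesq.sub_left, hs.toSesq.sub_right, hs.toSesq.sub_right, hqq, hqs, hs.refl _ _ hqs, hss]; ring)
        (by rw [hs.toSesq.sub_right, hpq, hps, zero_sub]; exact neg_ne_zero.2 one_ne_zero)
      have := hy.add_smul hs (hRatCt s hsr hss) hss hτ₀
      rwa [hs.add_left, hs.smul_left, hs.toSesq.sub_left, hps, hqs, hss, sub_zero, mul_zero, add_zero, mul_one,
        smul_sub, add_assoc, sub_add_cancel] at this
    · push Not at hdep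
      obtain ⟨k, rfl⟩ := hdep
      rw [← add_smul]
      exact (hRatCt q hq hqq).smul hs _
  intro v hv
  obtain ⟨a, b, ha, hb, rfl⟩ := hdec v
  have hQ : f a a - τ₀ * τ₀ * f b b = 0 := by
    rw [hs.add_left, hs.add_right, hs.add_right, hs.smul_left, hs.smul_left, hs.smul_right, hs.smul_right, hστ,
      hd.symm ha hb] at hv
    linear_combination hv
  rcases eq_or_ne (f b b) 0 with hbb | hbb
  · exact hplane a b ha hb (by rw [hbb] at hQ; linear_combination hQ) hbb
  have haa : f a a ≠ 0 := fun h => hbb (by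
    rw [h, zero_sub, neg_eq_zero] at hQ; exact (mul_eq_zero.1 hQ).resolve_left (mul_ne_zero hτ0 hτ0))
  obtain ⟨s, hsr, hss, has, hbs⟩ := hd.exists_iso_pairing_both ha hb
    (fun h => haa (by rw [h, hs.toSesq.zero_left])) (fun h => hbb (by rw [h, hs.toSesq.zero_left]))
  obtain ⟨k₁, hk₁⟩ : ∃ k, k = f a a / (2 * f a s) := ⟨_, rfl⟩
  obtain ⟨k₂, hk₂⟩ : ∃ k, k = f b b / (2 * f b s) := ⟨_, rfl⟩
  have hk₁F : k₁ ∈ F₀ := hk₁ ▸ div_mem (hd.rat a a ha ha) (mul_mem (ofNat_mem F₀ 2) (hd.rat a s ha hsr))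
  have hk₂F : k₂ ∈ F₀ := hk₂ ▸ div_mem (hd.rat b b hb hb) (mul_mem (ofNat_mem F₀ 2) (hd.rat b s hb hsr))
  have two := hd.two
  have hiso : ∀ (y : V) (k : F), Rat F₀ P y → k ∈ F₀ → k * (2 * f y s) = f y y →
      f (y - k • s) (y - k • s) = 0 := fun y k hy hk he => by
    rw [hs.toSesq.sub_left, hs.toSesq.sub_right, hs.toSesq.sub_right, hs.smul_left, hs.smul_left, hs.smul_right,
      hs.smul_right, hfix k hk, hss, hd.symm hy hsr]
    linear_combination -he
  have h := (hplane (a - k₁ • s) (b - k₂ • s) (ha.sub (hsr.smul hk₁F)) (hb.sub (hsr.smul hk₂F))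
    (hiso a k₁ ha hk₁F (by rw [hk₁]; field_simp)) (hiso b k₂ hb hk₂F (by rw [hk₂]; field_simp))).add_smul hs
    (hRatCt s hsr hss) hss (c := k₂ / f a s * τ₀) (hskew _ (div_mem hk₂F (hd.rat a s ha hsr)))
  rw [hs.add_left, hs.smul_left, hs.toSesq.sub_left, hs.toSesq.sub_left, hs.smul_left, hs.smul_left, hss,
    show k₂ / f a s * τ₀ * (f a s - k₁ * 0 + τ₀ * (f b s - k₂ * 0)) = k₁ + τ₀ * k₂ by
      rw [hk₁, hk₂]; field_simp; linear_combination (-2 * f b s ^ 2 * f a s) * hQ] at h
  convert h using 1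
  module

/-- The orthogonal subgroups of `SU` are maximal for odd `q`. -/
theorem unitary_orthogonal_maximal_of {F : Type*} [Field F] [Fintype F] {n q : ℕ} (hF : Fintype.card F = q ^ 2)
    (hn : 6 ≤ n ∨ n = 4 ∧ 5 ≤ q) (hodd : Odd q) (F₀ : Subfield F) (hcard : Fintype.card F = Nat.card F₀ ^ 2) (P : GL (Fin n) F)
    (hP : Geo.IsFormRationalStructure (hermForm n F q) F₀ 1 P) :
    Geo.IsMaximalIn (GU n F q ⊓ Geo.specialLinear (Fin n) F)
      (Geo.subfieldSubgroup F₀ P ⊓ (GU n F q ⊓ Geo.specialLinear (Fin n) F)) := by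
  classical
  have hs := herm_hermForm (n := n) hF
  have hq : Nat.card F₀ = q := Nat.pow_left_injective two_ne_zero (by
    show Nat.card F₀ ^ 2 = q ^ 2; rw [← hcard, hF])
  have hq2 := two_le_q hF
  have hfix : ∀ a ∈ F₀, qEquiv hF a = a := fun a ha => by
    have := congrArg Subtype.val (FiniteField.pow_card (⟨a, ha⟩ : F₀))
    rw [SubmonoidClass.coe_pow, ← Nat.card_eq_fintype_card, hq] at this
    rw [qEquiv_apply]; exact this
  have h2 : (2 : F) ≠ 0 := fun h => by
    have : CharP F 2 := (CharP.charP_iff_prime_eq_zero Nat.prime_two).2 (by exact_mod_cast h)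
    have h1 := FiniteField.even_card_iff_char_two.1 (ringChar.eq F 2)
    rw [hF, Nat.odd_iff.1 (hodd.pow (n := 2))] at h1
    omega
  have hfixed : ∀ x : F, qEquiv hF x = x → x ∈ F₀ := fun x hx => by
    by_contra hb
    have hsub : ∀ y ∈ (insert x (Finset.univ.map (⟨Subtype.val, Subtype.val_injective⟩ : F₀ ↪ F) : Finset F) :
        Finset F), y ∈ (Polynomial.X ^ q - Polynomial.X : Polynomial F).roots.toFinset := fun y hy => by
      simp only [Multiset.mem_toFinset, Polynomial.mem_roots (FiniteField.X_pow_card_sub_X_ne_zero F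
        (by omega : 1 < q)), Polynomial.IsRoot, Polynomial.eval_sub, Polynomial.eval_pow, Polynomial.eval_X,
        sub_eq_zero, ← qEquiv_apply hF]
      rcases Finset.mem_insert.1 hy with rfl | hy
      · exact hx
      · obtain ⟨d, -, rfl⟩ := Finset.mem_map.1 hy
        exact hfix _ d.2
    have h4 := ((Finset.card_le_card hsub).trans (Multiset.toFinset_card_le _)).trans (Polynomial.card_roots' _)
    rw [FiniteField.X_pow_card_sub_X_natDegree_eq F (by omega), Finset.card_insert_of_notMem (fun hm => by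
      obtain ⟨d, -, hd'⟩ := Finset.mem_map.1 hm
      exact hb (hd' ▸ d.2)), Finset.card_map, Finset.card_univ, ← Nat.card_eq_fintype_card, hq] at h4
    omega
  have hd : ORat (qEquiv hF) (hermForm n F q) F₀ P :=
    ⟨hs, fun a => ⟨hfix a, hfixed a⟩, fun x y hx hy => by
      have := hP _ _ hx hy
      rwa [one_mul, mulVec_inv_cancel, mulVec_inv_cancel] at this, h2, by rw [Fintype.card_fin]; omega, by rwa [Fintype.card_fin, hq]⟩
  obtain ⟨τ₀, hτ0, hτ₀⟩ := hs.exists_skew
  have hν : τ₀ ∉ F₀ := fun h => hτ0 ((mul_eq_zero.1 (show (2 : F) * τ₀ = 0 by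
    linear_combination hτ₀ - hfix _ h)).resolve_left h2)
  obtain ⟨h1, h3⟩ := hd.maximal hτ0 hτ₀ (fun v => exists_rat_decomp hcard hν v)
    (G := GU n F q ⊓ Geo.specialLinear (Fin n) F) (fun g hg hd' => ⟨mem_GU.2 hg, hd'⟩) (fun g hg => mem_GU.1 hg.1)
  exact isMaximalIn_intro inf_le_right h1 fun M hHM hMK g hgM hgH => LinFour.guSL_le_three hF (by omega) (by omega) fun v hv =>
    h3 M hHM hMK g hgM hgH v hv

/-- The case of degree at least six. -/
theorem unitary_orthogonal_maximal_six {F : Type*} [Field F] [Fintype F] {n q : ℕ} (hF : Fintype.card F = q ^ 2)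
    (hn : 6 ≤ n) (hodd : Odd q) (F₀ : Subfield F) (hcard : Fintype.card F = Nat.card F₀ ^ 2) (P : GL (Fin n) F)
    (hP : Geo.IsFormRationalStructure (hermForm n F q) F₀ 1 P) :
    Geo.IsMaximalIn (GU n F q ⊓ Geo.specialLinear (Fin n) F)
      (Geo.subfieldSubgroup F₀ P ⊓ (GU n F q ⊓ Geo.specialLinear (Fin n) F)) :=
  unitary_orthogonal_maximal_of hF (Or.inl hn) hodd F₀ hcard P hP

/-- The case of degree four. -/
theorem unitary_orthogonal_maximal_four {F : Type*} [Field F] [Fintype F] {q : ℕ} (hF : Fintype.card F = q ^ 2)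
    (hodd : Odd q) (hq : 5 ≤ q) (F₀ : Subfield F) (hcard : Fintype.card F = Nat.card F₀ ^ 2) (P : GL (Fin 4) F)
    (hP : Geo.IsFormRationalStructure (hermForm 4 F q) F₀ 1 P) :
    Geo.IsMaximalIn (GU 4 F q ⊓ Geo.specialLinear (Fin 4) F)
      (Geo.subfieldSubgroup F₀ P ⊓ (GU 4 F q ⊓ Geo.specialLinear (Fin 4) F)) :=
  unitary_orthogonal_maximal_of hF (Or.inr ⟨rfl, hq⟩) hodd F₀ hcard P hP

/-- The case of degree at least twelve. -/
theorem unitary_orthogonal_maximal {F : Type*} [Field F] [Fintype F] {n q : ℕ} (hF : Fintype.card F = q ^ 2)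
    (hn : 12 ≤ n) (hodd : Odd q) (F₀ : Subfield F) (hcard : Fintype.card F = Nat.card F₀ ^ 2) (P : GL (Fin n) F)
    (hP : Geo.IsFormRationalStructure (hermForm n F q) F₀ 1 P) :
    Geo.IsMaximalIn (GU n F q ⊓ Geo.specialLinear (Fin n) F)
      (Geo.subfieldSubgroup F₀ P ⊓ (GU n F q ⊓ Geo.specialLinear (Fin n) F)) :=
  unitary_orthogonal_maximal_six hF (le_trans (by norm_num) hn) hodd F₀ hcard P hP

/-- The case of degree at least ten. -/
theorem unitary_orthogonal_maximal_ten {F : Type*} [Field F] [Fintype F] {n q : ℕ} (hF : Fintype.card F = q ^ 2)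
    (hn : 10 ≤ n) (hodd : Odd q) (F₀ : Subfield F) (hcard : Fintype.card F = Nat.card F₀ ^ 2) (P : GL (Fin n) F)
    (hP : Geo.IsFormRationalStructure (hermForm n F q) F₀ 1 P) :
    Geo.IsMaximalIn (GU n F q ⊓ Geo.specialLinear (Fin n) F)
      (Geo.subfieldSubgroup F₀ P ⊓ (GU n F q ⊓ Geo.specialLinear (Fin n) F)) :=
  unitary_orthogonal_maximal_six hF (le_trans (by norm_num) hn) hodd F₀ hcard P hP

end Cfsg.Agent.Classical.MaxTv
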