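import Cfsg.Agent.Lib.Classical.MaxRational
import Cfsg.Agent.Lib.Classical.MaxInvol

/-!
Involutions of a rational structure.
-/

set_option autoImplicit false
set_option linter.unusedSectionVars false

namespace Cfsg.Agent.Classical.MaxTv

open Matrix Module

variable {F : Type*} [Field F] {ι : Type} [Fintype ι] [DecidableEq ι]

local notation "V" => (ι → F)
local notation "Mn" => Matrix ι ι F

/-- The fixed space of `h`. -/
abbrev fixSp (h : GL ι F) : Submodule F (ι → F) := LinearMap.ker (Matrix.toLin' ((h : Matrix ι ι F) - 1))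

theorem mem_fixSp {h : GL ι F} {x : ι → F} : x ∈ fixSp h ↔ (h : Mn) *ᵥ x = x := by
  simp [fixSp, Matrix.sub_mulVec, sub_eq_zero]

theorem finrank_fixSp_conj (k s : GL ι F) : finrank F (fixSp (k * s * k⁻¹)) = finrank F (fixSp s) := by
  have hmap : (fixSp s).map (Matrix.toLin' (k : Mn)) = fixSp (k * s * k⁻¹) := by
    ext x
    simp only [Submodule.mem_map, mem_fixSp, Matrix.toLin'_apply, Units.val_mul, ← Matrix.mulVec_mulVec]
    constructor
    · rintro ⟨y, hy, rfl⟩; rw [inv_mulVec_cancel, hy]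
    · intro h
      refine ⟨((k⁻¹ : GL ι F) : Mn) *ᵥ x, ?_, mulVec_inv_cancel k x⟩
      conv_rhs => rw [← h, inv_mulVec_cancel]
  rw [← hmap]
  exact (Submodule.equivMapOfInjective _ (fun a b e => gl_mulVec_injective k (by
    simpa [Matrix.toLin'_apply] using e)) _).finrank_eq.symm

theorem inf_fixSp_le_of_mem_zpowers {a b z : GL ι F} (hz : z ∈ Subgroup.zpowers (a * b)) :
    fixSp a ⊓ fixSp b ≤ fixSp z := fun x hx => by
  let St : Subgroup (GL ι F) :=
    { carrier := {h | (h : Mn) *ᵥ x = x}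
      mul_mem' := fun {a b} ha hb => by
        show ((a * b : GL ι F) : Mn) *ᵥ x = x
        rw [Units.val_mul, ← Matrix.mulVec_mulVec, hb, ha]
      one_mem' := by simp
      inv_mem' := fun {a} ha => by
        show ((a⁻¹ : GL ι F) : Mn) *ᵥ x = x
        conv_lhs => rw [← ha]
        exact inv_mulVec_cancel a x }
  exact mem_fixSp.2 ((Subgroup.zpowers_le.2
    (show a * b ∈ St from mul_mem (mem_fixSp.1 hx.1) (mem_fixSp.1 hx.2))) hz)

/-- A rational vector fixed by a rational map. -/
theorem exists_rational_fixed {F₀ : Subfield F} {P t : GL ι F} (ht : RatMap F₀ P t) {x : ι → F}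
    (hx : x ≠ 0) (hfix : (t : Mn) *ᵥ x = x) : ∃ w, Rat F₀ P w ∧ w ≠ 0 ∧ (t : Mn) *ᵥ w = w := by
  obtain ⟨A, hA⟩ := exists_subfield_matrix (F₀ := F₀) (P := P) (h := t) 1
    (fun y hy => by rw [one_smul]; exact ht y hy)
  rw [one_smul] at hA
  have hmap : ∀ z : V, (A - 1).map F₀.subtype *ᵥ z =
      ((P⁻¹ : GL ι F) : Mn) *ᵥ ((t : Mn) *ᵥ ((P : Mn) *ᵥ z) - (P : Mn) *ᵥ z) := fun z => by
    rw [Matrix.map_sub _ (map_sub _), Matrix.map_one F₀.subtype (map_zero _) (map_one _), hA, Matrix.sub_mulVec,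
      Matrix.mulVec_sub, inv_mulVec_cancel, Matrix.one_mulVec, ← Matrix.mulVec_mulVec, ← Matrix.mulVec_mulVec]
  obtain ⟨u, hu0, hu⟩ := exists_rational_ker (A - 1) (x := ((P⁻¹ : GL ι F) : Mn) *ᵥ x)
    (fun e => hx (by rw [← mulVec_inv_cancel P x, e, Matrix.mulVec_zero]))
    (by rw [hmap, mulVec_inv_cancel, hfix, sub_self, Matrix.mulVec_zero])
  refine ⟨(P : Mn) *ᵥ fun j => (u j : F), rat_of_coe u, fun e => hu0 ?_, sub_eq_zero.1 ?_⟩
  · funext j
    refine Subtype.ext ?_
    have := congrArg (fun z => ((P⁻¹ : GL ι F) : Mn) *ᵥ z) e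
    simp only [inv_mulVec_cancel, Matrix.mulVec_zero] at this
    exact congrFun this j
  · have h2 : (A - 1).map F₀.subtype *ᵥ (fun j => (u j : F)) = 0 := by
      funext i
      have := (RingHom.map_mulVec F₀.subtype (A - 1) u i).symm
      rw [hu, Pi.zero_apply, map_zero] at this
      exact this
    rw [hmap] at h2
    exact gl_mulVec_injective P⁻¹ (by simpa using h2)

/-- A rational involution has scalar one, unless a subspace of its fixed space is at most half of what a rational map fixes and its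
determinant allows equal eigenspaces. -/
theorem ratMap_of_involution' [Fintype F] [Nonempty ι] {F₀ : Subfield F} {P z : GL ι F} {n : ℕ} (hn : n.Prime)
    (hcard : Fintype.card F = Nat.card F₀ ^ n) (hzH : z ∈ Geo.subfieldSubgroup F₀ P) (hzz : z * z = 1)
    (hfz : (∃ (t : GL ι F) (S : Submodule F (ι → F)), RatMap F₀ P t ∧ S ≤ fixSp z ⊓ fixSp t ∧
        finrank F (fixSp t) < 2 * finrank F S) ∨ (Fintype.card ι % 4 = 2 ∧ (z : Matrix ι ι F).det = 1)) :
    RatMap F₀ P z := by
  classical
  obtain ⟨a, ha, h⟩ := exists_of_mem_subfieldSubgroup hzH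
  suffices haF : a ∈ F₀ by
    intro x hx
    have := (h x hx).smul (inv_mem haF)
    rwa [smul_smul, inv_mul_cancel₀ ha, one_smul] at this
  obtain ⟨i₀⟩ := ‹Nonempty ι›
  have hsq : a * a ∈ F₀ := by
    have h2 := h _ (h _ (rat_single i₀)) i₀
    rw [Matrix.mulVec_smul (z : Mn), smul_smul, Matrix.mulVec_mulVec, ← Units.val_mul, hzz, Units.val_one,
      Matrix.one_mulVec, Matrix.mulVec_smul, inv_mulVec_cancel, Pi.smul_apply, Pi.single_eq_same, smul_eq_mul,
      mul_one] at h2
    exact h2
  by_contra haF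
  by_cases h2 : ringChar F = 2
  · have : CharP F 2 := ringChar.of_eq h2
    obtain ⟨k, hk⟩ := FiniteField.isSquare_of_char_two (F := F₀) (ringChar.eq F₀ 2) (⟨a * a, hsq⟩ : F₀)
    have hk' : a * a = (k : F) * (k : F) := congrArg Subtype.val hk
    have : (a - k) * (a - k) = 0 := by
      linear_combination hk' + ((k : F) * k - a * k) * (CharTwo.two_eq_zero : (2 : F) = 0)
    rw [sub_eq_zero.1 (mul_self_eq_zero.1 this)] at haF
    exact haF k.2
  have h2' : (2 : F) ≠ 0 := Ring.two_ne_zero h2
  -- the Galois conjugation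
  obtain ⟨p, hcp⟩ := CharP.exists F
  have hp : Fact p.Prime := ⟨CharP.char_is_prime F p⟩
  obtain ⟨j, -, hj⟩ := FiniteField.card F p
  obtain ⟨i, -, hi⟩ := (Nat.dvd_prime_pow hp.out).1 (show Nat.card F₀ ∣ p ^ (j : ℕ) from
    hj ▸ hcard ▸ dvd_pow_self _ hn.ne_zero)
  let τ : F →+* F := iterateFrobenius F p i
  have hτF : ∀ b ∈ F₀, τ b = b := fun b hb => by
    show iterateFrobenius F p i b = b
    rw [iterateFrobenius_def, ← hi]
    have := congrArg Subtype.val (FiniteField.pow_card (⟨b, hb⟩ : F₀))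
    rw [SubmonoidClass.coe_pow] at this
    rwa [Nat.card_eq_fintype_card]
  have hτfix : ∀ b, τ b = b → b ∈ F₀ := fun b hb => by
    by_contra hb0
    have hroots : ∀ c ∈ (insert b (Finset.univ.map ⟨Subtype.val, Subtype.val_injective⟩ : Finset F)),
        c ∈ (Polynomial.X ^ (p ^ i) - Polynomial.X : Polynomial F).roots.toFinset := fun c hc => by
      have hne : (Polynomial.X ^ (p ^ i) - Polynomial.X : Polynomial F) ≠ 0 :=
        FiniteField.X_pow_card_sub_X_ne_zero F (by rw [← hi]; exact Finite.one_lt_card)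
      simp only [Multiset.mem_toFinset, Polynomial.mem_roots hne, Polynomial.IsRoot, Polynomial.eval_sub,
        Polynomial.eval_pow, Polynomial.eval_X, sub_eq_zero]
      rw [← iterateFrobenius_def (R := F)]
      rcases Finset.mem_insert.1 hc with h | hc'
      · rw [h]; exact hb
      · obtain ⟨d, -, hd'⟩ := Finset.mem_map.1 hc'; rw [← hd']; exact hτF _ d.2
    have h3 := (Finset.card_le_card hroots).trans (Multiset.toFinset_card_le _)
    have h4 := h3.trans (Polynomial.card_roots' _)
    rw [FiniteField.X_pow_card_sub_X_natDegree_eq F (by rw [← hi]; exact Finite.one_lt_card),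
      Finset.card_insert_of_notMem (fun hmem => by
        obtain ⟨d, -, hd'⟩ := Finset.mem_map.1 hmem
        exact hb0 (hd' ▸ d.2)), Finset.card_map, Finset.card_univ, ← Nat.card_eq_fintype_card, hi] at h4
    omega
  have hτa : τ a = -a := by
    have h1 := hτF _ hsq
    rw [map_mul] at h1
    rcases mul_self_eq_mul_self_iff.1 h1 with h3 | h3
    · exact absurd (hτfix a h3) haF
    · exact h3
  obtain ⟨A, hA⟩ := exists_subfield_matrix a h
  set C : Mn := ((P⁻¹ : GL ι F) : Mn) * (z : Mn) * (P : Mn) with hC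
  have hCC : ∀ i' j', τ (C i' j') = -C i' j' := fun i' j' => by
    have h1 : a * C i' j' = (A i' j' : F) := (congrFun (congrFun hA i') j').symm
    have h3 := congrArg τ h1
    rw [map_mul, hτa, hτF _ (A i' j').2, ← h1, neg_mul] at h3
    exact mul_left_cancel₀ ha (by linear_combination -h3)
  have hτC : ∀ y : V, C *ᵥ y = y → C *ᵥ (fun i => τ (y i)) = -fun i => τ (y i) := fun y hy => by
    funext i'
    have h1 : τ ((C *ᵥ y) i') = τ (y i') := by rw [hy]
    rw [RingHom.map_mulVec] at h1
    rw [Pi.neg_apply, ← h1, ← Pi.neg_apply, ← Matrix.neg_mulVec]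
    congr 1
    refine Matrix.ext fun a' b' => ?_
    rw [Matrix.neg_apply, Matrix.map_apply, hCC, neg_neg]
  rcases hfz with ⟨t, S, ht, hS, hlt⟩ | ⟨hmod, hdet⟩
  · obtain ⟨A₁, hA₁⟩ := exists_subfield_matrix (F₀ := F₀) (P := P) (h := t) 1
      (fun y hy => by rw [one_smul]; exact ht y hy)
    rw [one_smul] at hA₁
    set T : Mn := ((P⁻¹ : GL ι F) : Mn) * (t : Mn) * (P : Mn) with hT
    have hTT : ∀ i' j', τ (T i' j') = T i' j' := fun i' j' => by
      rw [← (congrFun (congrFun hA₁ i') j' : ((A₁ i' j' : F₀) : F) = T i' j')]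
      exact hτF _ (A₁ i' j').2
    let R : Submodule F V := S.map (Matrix.toLin' ((P⁻¹ : GL ι F) : Mn))
    have hτb : Function.Bijective τ := Finite.injective_iff_bijective.1 τ.injective
    let R' : Submodule F V :=
      { carrier := {y | ∃ x ∈ R, (fun i => τ (x i)) = y}
        zero_mem' := ⟨0, R.zero_mem, funext fun i => map_zero τ⟩
        add_mem' := by
          rintro _ _ ⟨x, hx, rfl⟩ ⟨y, hy, rfl⟩
          exact ⟨x + y, R.add_mem hx hy, funext fun i => map_add τ _ _⟩
        smul_mem' := by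
          rintro c _ ⟨x, hx, rfl⟩
          obtain ⟨c', rfl⟩ := hτb.2 c
          exact ⟨c' • x, R.smul_mem c' hx, funext fun i => map_mul τ _ _⟩ }
    have hCx : ∀ x ∈ R, C *ᵥ x = x ∧ T *ᵥ x = x := by
      rintro _ ⟨x, hx, rfl⟩
      rw [hC, hT, Matrix.toLin'_apply]
      simp only [← Matrix.mulVec_mulVec, mulVec_inv_cancel, mem_fixSp.1 (hS hx).1, mem_fixSp.1 (hS hx).2,
        and_self]
    have hR'fix : ∀ y ∈ R', C *ᵥ y = -y ∧ T *ᵥ y = y := by
      rintro _ ⟨x, hx, rfl⟩
      refine ⟨hτC x (hCx x hx).1, funext fun i' => ?_⟩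
      have h1 : τ ((T *ᵥ x) i') = τ (x i') := by rw [(hCx x hx).2]
      rw [RingHom.map_mulVec] at h1
      rw [← h1]
      congr 1
      exact Matrix.ext fun a' b' => (by rw [Matrix.map_apply, hTT])
    have hrank : finrank F R' = finrank F R := by
      have hbij : Nat.card R = Nat.card R' := Nat.card_congr (Equiv.ofBijective
        (fun x : R => (⟨_, x.1, x.2, rfl⟩ : R'))
        ⟨fun x y e => Subtype.ext (funext fun i => τ.injective (congrFun (congrArg Subtype.val e) i)),
          fun ⟨_, x, hx, e⟩ => ⟨⟨x, hx⟩, Subtype.ext e⟩⟩)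
      have e1 : Nat.card R = Nat.card F ^ finrank F R := Module.natCard_eq_pow_finrank
      have e2 : Nat.card R' = Nat.card F ^ finrank F R' := Module.natCard_eq_pow_finrank
      rw [e1, e2] at hbij
      exact (Nat.pow_right_injective Finite.one_lt_card hbij).symm
    have hRS : finrank F R = finrank F S :=
      (Submodule.equivMapOfInjective _ (fun a b e => gl_mulVec_injective P⁻¹ (by
        simpa [Matrix.toLin'_apply] using e)) _).finrank_eq.symm
    have hdisj : R ⊓ R' = ⊥ := (Submodule.eq_bot_iff _).2 fun y hy => by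
      have h1 := (hCx y hy.1).1
      rw [(hR'fix y hy.2).1] at h1
      funext i
      have h3 := congrFun h1 i
      rw [Pi.neg_apply] at h3
      exact (mul_eq_zero.1 (show (2 : F) * y i = 0 by linear_combination -h3)).resolve_left h2'
    have h4 := Submodule.finrank_sup_add_finrank_inf_eq R R'
    rw [hdisj, finrank_bot] at h4
    have h5 : finrank F ↥(R ⊔ R') ≤ finrank F (fixSp (P⁻¹ * t * P)) :=
      Submodule.finrank_mono (sup_le (fun x hx => mem_fixSp.2 (hCx x hx).2) fun x hx => mem_fixSp.2 (hR'fix x hx).2)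
    have h6 := finrank_fixSp_conj P⁻¹ t
    rw [inv_inv] at h6
    omega
  · let W := LinearMap.ker (Matrix.toLin' (C - 1))
    let W' := LinearMap.ker (Matrix.toLin' (C + 1))
    have hW : ∀ y, y ∈ W ↔ C *ᵥ y = y := fun y => by
      simp [W, Matrix.sub_mulVec, sub_eq_zero]
    have hW' : ∀ y, y ∈ W' ↔ C *ᵥ y = -y := fun y => by
      simp [W', Matrix.add_mulVec, add_eq_zero_iff_eq_neg]
    have hτC' : ∀ y : V, C *ᵥ y = -y → C *ᵥ (fun i => τ (y i)) = fun i => τ (y i) := fun y hy => by
      funext i'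
      have h1 : τ ((C *ᵥ y) i') = τ ((-y) i') := by rw [hy]
      rw [RingHom.map_mulVec, Pi.neg_apply, map_neg, eq_comm, neg_eq_iff_eq_neg] at h1
      rw [h1, ← Pi.neg_apply, ← Matrix.neg_mulVec]
      congr 1
      refine Matrix.ext fun a' b' => ?_
      rw [Matrix.neg_apply, Matrix.map_apply, hCC, neg_neg]
    let Φ : W → W' := fun y => ⟨fun i => τ (y.1 i), (hW' _).2 (hτC _ ((hW _).1 y.2))⟩
    let Ψ : W' → W := fun y => ⟨fun i => τ (y.1 i), (hW _).2 (hτC' _ ((hW' _).1 y.2))⟩
    have hΦ : Function.Injective Φ := fun y y' e => Subtype.ext (funext fun i =>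
      τ.injective (congrFun (congrArg Subtype.val e) i))
    have hΨ : Function.Injective Ψ := fun y y' e => Subtype.ext (funext fun i =>
      τ.injective (congrFun (congrArg Subtype.val e) i))
    have hle := Nat.card_le_card_of_injective Φ hΦ
    have hle' := Nat.card_le_card_of_injective Ψ hΨ
    have e1 : Nat.card W = Nat.card F ^ finrank F W := Module.natCard_eq_pow_finrank
    have e2 : Nat.card W' = Nat.card F ^ finrank F W' := Module.natCard_eq_pow_finrank
    rw [e1, e2, Nat.pow_le_pow_iff_right Finite.one_lt_card] at hle hle'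
    have hCsq : ∀ y : V, C *ᵥ (C *ᵥ y) = y := fun y => by
      rw [hC]
      simp only [← Matrix.mulVec_mulVec, mulVec_inv_cancel]
      rw [Matrix.mulVec_mulVec _ (z : Mn) (z : Mn), ← Units.val_mul, hzz, Units.val_one, Matrix.one_mulVec,
        inv_mulVec_cancel]
    have hc : IsCompl W W' := by
      refine IsCompl.of_eq ((Submodule.eq_bot_iff _).2 fun y hy => ?_) (eq_top_iff.2 fun y _ => ?_)
      · have h1 := (hW y).1 hy.1
        rw [(hW' y).1 hy.2] at h1
        funext i
        have h3 := congrFun h1 i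
        rw [Pi.neg_apply] at h3
        exact (mul_eq_zero.1 (show (2 : F) * y i = 0 by linear_combination -h3)).resolve_left h2'
      · refine Submodule.mem_sup.2 ⟨(2⁻¹ : F) • (y + C *ᵥ y), (hW _).2 ?_, (2⁻¹ : F) • (y - C *ᵥ y), (hW' _).2 ?_, ?_⟩
        · rw [Matrix.mulVec_smul, Matrix.mulVec_add, hCsq, add_comm]
        · rw [Matrix.mulVec_smul, Matrix.mulVec_sub, hCsq, ← smul_neg, neg_sub]
        · rw [← smul_add, add_add_sub_cancel, ← two_smul F, smul_smul, inv_mul_cancel₀ h2', one_smul]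
    have hsum := Submodule.finrank_add_eq_of_isCompl hc
    rw [Module.finrank_pi] at hsum
    let e := Submodule.prodEquivOfIsCompl W W' hc
    have hconj : Matrix.toLin' C = e.toLinearMap ∘ₗ
        (LinearMap.prodMap (LinearMap.id : W →ₗ[F] W) ((-1 : F) • (LinearMap.id : W' →ₗ[F] W'))) ∘ₗ
          e.symm.toLinearMap := by
      refine LinearMap.ext fun y => ?_
      obtain ⟨⟨u, v⟩, rfl⟩ := e.surjective y
      simp [e, (hW u.1).1 u.2, (hW' v.1).1 v.2, Matrix.mulVec_add]
    have hd : (Matrix.toLin' C).det = 1 := by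
      rw [LinearMap.det_toLin', hC, Matrix.det_mul, Matrix.det_mul, hdet, mul_one, ← Matrix.det_mul,
        ← Units.val_mul, inv_mul_cancel, Units.val_one, Matrix.det_one]
    rw [hconj, LinearMap.det_conj, LinearMap.det_prodMap, LinearMap.det_id, one_mul, LinearMap.det_smul,
      LinearMap.det_id, mul_one] at hd
    have hev : Even (finrank F W') := by
      by_contra h
      rw [(Nat.not_even_iff_odd.1 h).neg_one_pow] at hd
      exact h2' (by linear_combination -hd)
    rw [Nat.even_iff] at hev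
    omega

/-- A rational involution fixing more than half the space has scalar one. -/
theorem ratMap_of_involution [Fintype F] [Nonempty ι] {F₀ : Subfield F} {P z : GL ι F} {n : ℕ} (hn : n.Prime)
    (hcard : Fintype.card F = Nat.card F₀ ^ n) (hzH : z ∈ Geo.subfieldSubgroup F₀ P) (hzz : z * z = 1)
    (hfz : Fintype.card ι < 2 * finrank F (fixSp z)) : RatMap F₀ P z := by
  classical
  obtain ⟨a, ha, h⟩ := exists_of_mem_subfieldSubgroup hzH
  suffices haF : a ∈ F₀ by
    intro x hx
    have := (h x hx).smul (inv_mem haF)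
    rwa [smul_smul, inv_mul_cancel₀ ha, one_smul] at this
  obtain ⟨i₀⟩ := ‹Nonempty ι›
  have hsq : a * a ∈ F₀ := by
    have h2 := h _ (h _ (rat_single i₀)) i₀
    rw [Matrix.mulVec_smul (z : Mn), smul_smul, Matrix.mulVec_mulVec, ← Units.val_mul, hzz, Units.val_one,
      Matrix.one_mulVec, Matrix.mulVec_smul, inv_mulVec_cancel, Pi.smul_apply, Pi.single_eq_same, smul_eq_mul,
      mul_one] at h2
    exact h2
  by_contra haF
  by_cases h2 : ringChar F = 2
  · have : CharP F 2 := ringChar.of_eq h2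
    obtain ⟨k, hk⟩ := FiniteField.isSquare_of_char_two (F := F₀) (ringChar.eq F₀ 2) (⟨a * a, hsq⟩ : F₀)
    have hk' : a * a = (k : F) * (k : F) := congrArg Subtype.val hk
    have : (a - k) * (a - k) = 0 := by
      linear_combination hk' + ((k : F) * k - a * k) * (CharTwo.two_eq_zero : (2 : F) = 0)
    rw [sub_eq_zero.1 (mul_self_eq_zero.1 this)] at haF
    exact haF k.2
  have h2' : (2 : F) ≠ 0 := Ring.two_ne_zero h2
  -- the Galois conjugation
  obtain ⟨p, hcp⟩ := CharP.exists F
  have hp : Fact p.Prime := ⟨CharP.char_is_prime F p⟩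
  obtain ⟨j, -, hj⟩ := FiniteField.card F p
  obtain ⟨i, -, hi⟩ := (Nat.dvd_prime_pow hp.out).1 (show Nat.card F₀ ∣ p ^ (j : ℕ) from
    hj ▸ hcard ▸ dvd_pow_self _ hn.ne_zero)
  let τ : F →+* F := iterateFrobenius F p i
  have hτF : ∀ b ∈ F₀, τ b = b := fun b hb => by
    show iterateFrobenius F p i b = b
    rw [iterateFrobenius_def, ← hi]
    have := congrArg Subtype.val (FiniteField.pow_card (⟨b, hb⟩ : F₀))
    rw [SubmonoidClass.coe_pow] at this
    rwa [Nat.card_eq_fintype_card]
  have hτfix : ∀ b, τ b = b → b ∈ F₀ := fun b hb => by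
    by_contra hb0
    have hroots : ∀ c ∈ (insert b (Finset.univ.map ⟨Subtype.val, Subtype.val_injective⟩ : Finset F)),
        c ∈ (Polynomial.X ^ (p ^ i) - Polynomial.X : Polynomial F).roots.toFinset := fun c hc => by
      have hne : (Polynomial.X ^ (p ^ i) - Polynomial.X : Polynomial F) ≠ 0 :=
        FiniteField.X_pow_card_sub_X_ne_zero F (by rw [← hi]; exact Finite.one_lt_card)
      simp only [Multiset.mem_toFinset, Polynomial.mem_roots hne, Polynomial.IsRoot, Polynomial.eval_sub,
        Polynomial.eval_pow, Polynomial.eval_X, sub_eq_zero]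
      rw [← iterateFrobenius_def (R := F)]
      rcases Finset.mem_insert.1 hc with h | hc'
      · rw [h]; exact hb
      · obtain ⟨d, -, hd'⟩ := Finset.mem_map.1 hc'; rw [← hd']; exact hτF _ d.2
    have h3 := (Finset.card_le_card hroots).trans (Multiset.toFinset_card_le _)
    have h4 := h3.trans (Polynomial.card_roots' _)
    rw [FiniteField.X_pow_card_sub_X_natDegree_eq F (by rw [← hi]; exact Finite.one_lt_card),
      Finset.card_insert_of_notMem (fun hmem => by
        obtain ⟨d, -, hd'⟩ := Finset.mem_map.1 hmem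
        exact hb0 (hd' ▸ d.2)), Finset.card_map, Finset.card_univ, ← Nat.card_eq_fintype_card, hi] at h4
    omega
  have hτa : τ a = -a := by
    have h1 := hτF _ hsq
    rw [map_mul] at h1
    rcases mul_self_eq_mul_self_iff.1 h1 with h3 | h3
    · exact absurd (hτfix a h3) haF
    · exact h3
  obtain ⟨A, hA⟩ := exists_subfield_matrix a h
  set C : Mn := ((P⁻¹ : GL ι F) : Mn) * (z : Mn) * (P : Mn) with hC
  have hCC : ∀ i' j', τ (C i' j') = -C i' j' := fun i' j' => by
    have h1 : a * C i' j' = (A i' j' : F) := (congrFun (congrFun hA i') j').symm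
    have h3 := congrArg τ h1
    rw [map_mul, hτa, hτF _ (A i' j').2, ← h1, neg_mul] at h3
    exact mul_left_cancel₀ ha (by linear_combination -h3)
  have hτC : ∀ y : V, C *ᵥ y = y → C *ᵥ (fun i => τ (y i)) = -fun i => τ (y i) := fun y hy => by
    funext i'
    have h1 : τ ((C *ᵥ y) i') = τ (y i') := by rw [hy]
    rw [RingHom.map_mulVec] at h1
    rw [Pi.neg_apply, ← h1, ← Pi.neg_apply, ← Matrix.neg_mulVec]
    congr 1
    refine Matrix.ext fun a' b' => ?_
    rw [Matrix.neg_apply, Matrix.map_apply, hCC, neg_neg]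
  let W := LinearMap.ker (Matrix.toLin' (C - 1))
  let W' := LinearMap.ker (Matrix.toLin' (C + 1))
  have hW : ∀ y, y ∈ W ↔ C *ᵥ y = y := fun y => by
    simp [W, Matrix.sub_mulVec, sub_eq_zero]
  have hW' : ∀ y, y ∈ W' ↔ C *ᵥ y = -y := fun y => by
    simp [W', Matrix.add_mulVec, add_eq_zero_iff_eq_neg]
  let Φ : W → W' := fun y => ⟨fun i => τ (y.1 i), (hW' _).2 (hτC _ ((hW _).1 y.2))⟩
  have hΦ : Function.Injective Φ := fun y y' e => Subtype.ext (funext fun i =>
    τ.injective (congrFun (congrArg Subtype.val e) i))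
  have hle := Nat.card_le_card_of_injective Φ hΦ
  have e1 : Nat.card W = Nat.card F ^ finrank F W := Module.natCard_eq_pow_finrank
  have e2 : Nat.card W' = Nat.card F ^ finrank F W' := Module.natCard_eq_pow_finrank
  rw [e1, e2] at hle
  have hle' := (Nat.pow_le_pow_iff_right Finite.one_lt_card).1 hle
  have hdisj : W ⊓ W' = ⊥ := (Submodule.eq_bot_iff _).2 fun y hy => by
    have h1 := (hW y).1 hy.1
    rw [(hW' y).1 hy.2] at h1
    funext i
    have h3 := congrFun h1 i
    rw [Pi.neg_apply] at h3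
    exact (mul_eq_zero.1 (show (2 : F) * y i = 0 by linear_combination -h3)).resolve_left h2'
  have h4 := Submodule.finrank_sup_add_finrank_inf_eq W W'
  have h5 := Submodule.finrank_le (W ⊔ W')
  rw [Module.finrank_pi] at h5
  rw [hdisj, finrank_bot] at h4
  have h6 := finrank_fixSp_conj P⁻¹ z
  rw [inv_inv] at h6
  change finrank F W = _ at h6
  omega

end Cfsg.Agent.Classical.MaxTv
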