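import Cfsg.Agent.Lib.Classical.MaxUnitSubfieldData
import Cfsg.Agent.Lib.Classical.DicksonGeneration

/-!
An isotropic point off the rational lines, in odd characteristic.
-/

set_option autoImplicit false
set_option linter.unusedSectionVars false

namespace Cfsg.Agent.Classical.MaxTv

open Matrix Module Cfsg.Agent.Grp.SL2 Cfsg.Agent.PSL2Spec Cfsg.Agent.Dickson

variable {F : Type*} [Field F] [Finite F] {ι : Type} [Fintype ι] [DecidableEq ι]

local notation "V" => (ι → F)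
local notation "Mn" => Matrix ι ι F

variable {F₀ : Subfield F} {P : GL ι F} {σ : F ≃+* F} {f : (ι → F) → (ι → F) → F} {σ₀ : F₀ ≃+* F₀}
  {f₀ : (ι → F₀) → (ι → F₀) → F₀} {M : Subgroup (GL ι F)}

/-- Two transvections, the generator of the coefficient field of one outside a given subfield, give all of `up`. -/
theorem up_one_mem_gen {E : Type*} [Field E] [Fintype E] (h2 : (2 : E) ≠ 0) {lam : E} (hlam : lam ≠ 0)
    (hgen : Subfield.closure ({lam} : Set E) = ⊤) (hne : lam * lam ≠ -1) :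
    up (1 : E) ∈ Subgroup.closure ({low 1, up lam} : Set (Matrix.SpecialLinearGroup (Fin 2) E)) := by
  classical
  obtain ⟨p, hcp⟩ := CharP.exists E
  haveI : Fact p.Prime := ⟨CharP.char_is_prime E p⟩
  rcases Gen.classify (p := p) h2 hlam hgen with h | ⟨-, h, -⟩
  · have hneg : -1 ∈ Subgroup.closure ({low 1, up lam} : Set (Matrix.SpecialLinearGroup (Fin 2) E)) :=
      Gen.neg_one_mem h2 (by rw [h, Nat.card_congr Subgroup.topEquiv.toEquiv]; exact Gen.even_card_psl h2)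
    obtain ⟨g, hg, hgu⟩ := Subgroup.mem_map.1 (h ▸ Subgroup.mem_top (proj (up (1 : E))))
    have e : proj (g⁻¹ * up (1 : E)) = 1 := by rw [map_mul, map_inv, hgu, inv_mul_cancel]
    rcases proj_one_iff.mp e with e | e
    · rw [inv_mul_eq_one] at e; rwa [← e]
    · rw [inv_mul_eq_iff_eq_mul] at e; rw [e]; exact mul_mem hg hneg
  · exact absurd h hne

namespace HData

variable (hd : HData σ f σ₀ f₀ P M)
include hd

/-- No square root of minus one is missing from `F₀`. -/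
theorem mem_of_sq_neg_one (h2 : (2 : F) ≠ 0) {lam : F} (h : lam * lam = -1) : lam ∈ F₀ := by
  classical
  have : Fintype F₀ := Fintype.ofFinite _
  obtain ⟨c, hc0, hc, -⟩ := hd.exists_skew₀
  have h20 : (2 : F₀) ≠ 0 := fun e => h2 (by simpa [map_ofNat] using congrArg F₀.subtype e)
  have hsc : σ₀ c = -c := by linear_combination hc
  let E : F₀ ≃ {a : F₀ // σ₀ a = a} × {a : F₀ // σ₀ a = a} :=
    { toFun := fun x => (⟨(x + σ₀ x) / 2, by
        rw [map_div₀, map_add, hd.herm₀.invol, map_ofNat, add_comm]⟩,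
        ⟨(x - σ₀ x) / (2 * c), by
        rw [map_div₀, map_sub, hd.herm₀.invol, map_mul, map_ofNat, hsc, mul_neg, div_neg, ← neg_div, neg_sub]⟩)
      invFun := fun ab => ab.1.1 + ab.2.1 * c
      left_inv := fun x => by
        show (x + σ₀ x) / 2 + (x - σ₀ x) / (2 * c) * c = x
        field_simp
        ring
      right_inv := fun ⟨⟨a, ha⟩, ⟨b, hb⟩⟩ => by
        refine Prod.ext (Subtype.ext ?_) (Subtype.ext ?_)
        · show (a + b * c + σ₀ (a + b * c)) / 2 = a
          rw [map_add, map_mul, ha, hb, hsc, div_eq_iff h20]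
          ring
        · show (a + b * c - σ₀ (a + b * c)) / (2 * c) = b
          rw [map_add, map_mul, ha, hb, hsc, div_eq_iff (mul_ne_zero h20 hc0)]
          ring }
  have hcard : Fintype.card F₀ = Fintype.card {a : F₀ // σ₀ a = a} * Fintype.card {a : F₀ // σ₀ a = a} := by
    rw [← Fintype.card_prod]; exact Fintype.card_congr E
  obtain ⟨i, hi⟩ : IsSquare (-1 : F₀) := FiniteField.isSquare_neg_one_iff.2 (by
    rw [hcard, Nat.mul_mod]
    have := Nat.mod_lt (Fintype.card {a : F₀ // σ₀ a = a}) (show 4 > 0 by norm_num)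
    generalize Fintype.card {a : F₀ // σ₀ a = a} % 4 = m at this ⊢
    interval_cases m <;> decide)
  have hi' : (i : F) * i = -1 := by
    have := congrArg Subtype.val hi
    simpa using this.symm
  rcases mul_self_eq_mul_self_iff.1 (h.trans hi'.symm) with e | e
  · exact e ▸ i.2
  · exact e ▸ neg_mem i.2

/-- A hyperbolic plane with two root groups gives a new transvection. -/
theorem tv_of_plane (h2 : (2 : F) ≠ 0) {y : ι → F₀} (hy : f₀ y y = 0) {v : V} (hvv : f v v = 0)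
    (hQv : ∀ c : F₀, c + σ₀ c = 0 → InN M (qDisp f v (c : F)))
    (hN : f (emb F₀ P y) v * σ (f (emb F₀ P y) v) ∉ F₀) :
    ∃ c : F, c + σ c = 0 ∧ c ∉ F₀ ∧ InN M (qDisp f (emb F₀ P y) c) := by
  classical
  have : Fintype F := Fintype.ofFinite _
  have hs := hd.herm
  obtain ⟨c₀, hc0, hc₀, hc₀F⟩ := hd.exists_skew₀
  have hcF : (c₀ : F) ≠ 0 := fun e => hc0 (Subtype.ext e)
  have hσc : σ (c₀ : F) = -(c₀ : F) := by linear_combination hc₀F
  obtain ⟨β, hβ⟩ : ∃ β, β = f (emb F₀ P y) v := ⟨_, rfl⟩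
  rw [← hβ] at hN
  obtain ⟨N, hNdef⟩ : ∃ N, N = β * σ β := ⟨_, rfl⟩
  rw [← hNdef] at hN
  have hN0 : N ≠ 0 := fun e => hN (e ▸ zero_mem _)
  have hσN : σ N = N := by rw [hNdef, map_mul, hs.invol, mul_comm]
  have hβ0 : β ≠ 0 := fun e => hN0 (by rw [hNdef, e, zero_mul])
  have hσβ : σ β ≠ 0 := σ.map_ne_zero_iff.2 hβ0
  obtain ⟨κ, hκ⟩ : ∃ κ, κ = (c₀ : F) * N := ⟨_, rfl⟩
  have hκ0 : κ ≠ 0 := hκ ▸ mul_ne_zero hcF hN0
  obtain ⟨e, he⟩ : ∃ e, e = emb F₀ P y := ⟨_, rfl⟩
  obtain ⟨e', he'⟩ : ∃ e', e' = (σ β)⁻¹ • v := ⟨_, rfl⟩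
  have hee : f e e = 0 := by rw [he, hd.form, hy]; rfl
  have he'e' : f e' e' = 0 := by rw [he', hs.smul_left, hs.smul_right, hvv, mul_zero, mul_zero]
  have hee' : f e e' = 1 := by
    rw [he', hs.smul_right, map_inv₀, hs.invol, he, ← hβ, inv_mul_cancel₀ hβ0]
  have he'e : f e' e = 1 := by rw [hs.herm, hee', map_one]
  obtain ⟨K, hK⟩ : ∃ K, K = Subfield.closure ({(c₀ : F) * c₀ * N} : Set F) := ⟨_, rfl⟩
  have : Fintype K := Fintype.ofFinite _
  have hlamK : (c₀ : F) * c₀ * N ∈ K := hK ▸ Subfield.subset_closure rfl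
  obtain ⟨lam, hlam⟩ : ∃ lam : K, lam = ⟨(c₀ : F) * c₀ * N, hlamK⟩ := ⟨_, rfl⟩
  -- the action of `SL₂` on the plane
  let L : Matrix.SpecialLinearGroup (Fin 2) K → V → V := fun A z =>
    z + ((((A.1 0 0 : K) : F) - 1) * f z e' + (A.1 0 1 : F) / κ * f z e) • e +
      ((A.1 1 0 : F) * κ * f z e' + (((A.1 1 1 : K) : F) - 1) * f z e) • e'
  have hL : ∀ A z, L A z = z + ((((A.1 0 0 : K) : F) - 1) * f z e' + (A.1 0 1 : F) / κ * f z e) • e +
      ((A.1 1 0 : F) * κ * f z e' + (((A.1 1 1 : K) : F) - 1) * f z e) • e' := fun _ _ => rfl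
  have hLmul : ∀ A B z, L A (L B z) = L (A * B) z := fun A B z => by
    have e00 : ((A * B).1 0 0 : F) = A.1 0 0 * B.1 0 0 + A.1 0 1 * B.1 1 0 := by
      simp [Matrix.mul_apply, Fin.sum_univ_two]
    have e01 : ((A * B).1 0 1 : F) = A.1 0 0 * B.1 0 1 + A.1 0 1 * B.1 1 1 := by
      simp [Matrix.mul_apply, Fin.sum_univ_two]
    have e10 : ((A * B).1 1 0 : F) = A.1 1 0 * B.1 0 0 + A.1 1 1 * B.1 1 0 := by
      simp [Matrix.mul_apply, Fin.sum_univ_two]
    have e11 : ((A * B).1 1 1 : F) = A.1 1 0 * B.1 0 1 + A.1 1 1 * B.1 1 1 := by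
      simp [Matrix.mul_apply, Fin.sum_univ_two]
    simp only [hL, e00, e01, e10, e11, hs.add_left, hs.smul_left, hee, he'e', hee', he'e, mul_zero, mul_one,
      add_zero, zero_add]
    match_scalars <;> field_simp <;> ring
  have hL1 : ∀ z, L 1 z = z := fun z => by simp [hL]
  have hup : ∀ (t : K) z, L (up t) z = z + ((t : F) / κ * f z e) • e := fun t z => by rw [hL]; simp [up]
  have hlow : L (low 1) = fun z => z + qDisp f e' κ z := by
    funext z; rw [hL]; simp [low, qDisp]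
  have hlamne : lam * lam ≠ -1 := fun h => by
    have h' : ((c₀ : F) * c₀ * N) * ((c₀ : F) * c₀ * N) = -1 := by
      simpa [hlam] using congrArg (fun a : K => (a : F)) h
    refine hN ?_
    have h1 := div_mem (hd.mem_of_sq_neg_one h2 h') (mul_mem c₀.2 c₀.2)
    rwa [mul_div_cancel_left₀ _ (mul_ne_zero hcF hcF)] at h1
  have hgen : Subfield.closure ({lam} : Set K) = ⊤ := by
    refine eq_top_iff.2 fun x _ => ?_
    have hmap := RingHom.map_field_closure K.subtype {lam}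
    rw [Set.image_singleton, show K.subtype lam = (c₀ : F) * c₀ * N by rw [hlam]; rfl, ← hK] at hmap
    have hx : (x : F) ∈ (Subfield.closure ({lam} : Set K)).map K.subtype := by rw [hmap]; exact x.2
    obtain ⟨w, hw, hwx⟩ := Subfield.mem_map.1 hx
    rwa [← Subtype.ext (show (w : F) = x from hwx)]
  have hlam0 : lam ≠ 0 := fun h => mul_ne_zero (mul_ne_zero hcF hcF) hN0 (by
    simpa [hlam] using congrArg (fun a : K => (a : F)) h)
  have h2K : (2 : K) ≠ 0 := fun h => h2 (by simpa [map_ofNat] using congrArg K.subtype h)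
  have hmem : ∀ A ∈ Subgroup.closure ({low 1, up lam} : Set (Matrix.SpecialLinearGroup (Fin 2) K)),
      ∃ T ∈ M, ∀ z, (T : Mn) *ᵥ z = L A z := by
    intro A hA
    induction hA using Subgroup.closure_induction with
    | mem A hA =>
      rcases hA with rfl | rfl
      · obtain ⟨T, hT, hTx⟩ := hQv c₀ hc₀
        refine ⟨T, hT, fun z => ?_⟩
        rw [hTx, hlow]
        simp only [qDisp, he', hs.smul_right, smul_smul, map_inv₀, hs.invol, hκ, hNdef]
        congr 2
        field_simp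
      · obtain ⟨T, hT, hTx⟩ := hd.tv y hy c₀ hc₀
        refine ⟨T, hT, fun z => ?_⟩
        rw [hTx, hup]
        simp only [qDisp, he, hlam, hκ]
        congr 2
        field_simp
    | one => exact ⟨1, one_mem M, fun z => by rw [hL1, Units.val_one, Matrix.one_mulVec]⟩
    | mul A B _ _ ha hb =>
      obtain ⟨T, hT, hTx⟩ := ha
      obtain ⟨S, hS, hSx⟩ := hb
      exact ⟨T * S, mul_mem hT hS, fun z => by rw [Units.val_mul, ← Matrix.mulVec_mulVec, hSx, hTx, hLmul]⟩
    | inv A _ ha =>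
      obtain ⟨T, hT, hTx⟩ := ha
      refine ⟨T⁻¹, inv_mem hT, fun z => ?_⟩
      conv_rhs => rw [← mulVec_inv_cancel T z, hTx, hLmul, inv_mul_cancel, hL1]
  obtain ⟨T, hT, hTx⟩ := hmem _ (up_one_mem_gen h2K hlam0 hgen hlamne)
  refine ⟨κ⁻¹, ?_, fun h => hN ?_, T, hT, fun z => ?_⟩
  · rw [map_inv₀, hκ, map_mul, hσc, hσN, neg_mul, inv_neg, add_neg_cancel]
  · have h1 := div_mem (inv_mem h) c₀.2
    rwa [inv_inv, hκ, mul_div_cancel_left₀ _ hcF] at h1
  · rw [hTx, hup, qDisp, he, OneMemClass.coe_one, one_div]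

/-- The norms of the products with an isotropic point off the rational lines are not all rational. -/
theorem exists_norm_notMem {v : V} (hnl : ¬ RatLine F₀ P v) :
    ∃ y : ι → F₀, f₀ y y = 0 ∧ f (emb F₀ P y) v * σ (f (emb F₀ P y) v) ∉ F₀ := by
  by_contra hcon
  push Not at hcon
  have hs := hd.herm₀
  have hdim := hd.dim
  obtain ⟨b, hb⟩ : ∃ b : (ι → F₀) → F, b = fun x => f (emb F₀ P x) v := ⟨_, rfl⟩
  have hbadd : ∀ x y, b (x + y) = b x + b y := fun x y => by rw [hb]; simp only; rw [emb_add, hd.herm.add_left]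
  have hbsmul : ∀ (c : F₀) x, b (c • x) = c * b x := fun c x => by
    rw [hb]; simp only; rw [emb_smul, hd.herm.smul_left]
  have hN : ∀ y, f₀ y y = 0 → b y * σ (b y) ∈ F₀ := fun y hy => by rw [hb]; exact hcon y hy
  have hzero : ∀ u : ι → F₀, b u = f (emb F₀ P u) v := fun u => by rw [hb]
  obtain ⟨t, ht⟩ := hs.exists_moved
  have hcross : ∀ x y, f₀ x x = 0 → f₀ y y = 0 → f₀ x y = 0 → b x * σ (b y) ∈ F₀ := fun x y hx hy hxy => by
    have hall : ∀ s : F₀, (σ₀ s : F) * (b x * σ (b y)) + (s : F) * (σ (b x) * b y) ∈ F₀ := fun s => by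
      have h1 := hN (x + s • y) (by
        simp only [hs.add_left, hs.add_right, hs.smul_left, hs.smul_right, hx, hy, hxy, hs.refl _ _ hxy, mul_zero,
          add_zero])
      rw [hbadd, hbsmul, map_add, map_mul, hd.sigma] at h1
      have h3 := sub_mem (sub_mem h1 (hN x hx)) (mul_mem (mul_mem s.2 (σ₀ s).2) (hN y hy))
      convert h3 using 1
      ring
    have h1 := sub_mem (hall t) (mul_mem t.2 (hall 1))
    rw [map_one, OneMemClass.coe_one, one_mul, one_mul] at h1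
    have htF : (σ₀ t : F) - (t : F) ≠ 0 := fun e => ht (Subtype.ext (sub_eq_zero.1 e))
    have h2 := div_mem h1 (sub_mem (σ₀ t).2 t.2)
    rwa [show ((σ₀ t : F) * (b x * σ (b y)) + (t : F) * (σ (b x) * b y) -
      (t : F) * (b x * σ (b y) + σ (b x) * b y)) / ((σ₀ t : F) - (t : F)) = b x * σ (b y) by
        rw [div_eq_iff htF]; ring] at h2
  have htop : Fintype.card ι + 1 < 2 * finrank F₀ (⊤ : Submodule F₀ (ι → F₀)) := by
    rw [finrank_top, Module.finrank_pi]; omega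
  obtain ⟨x₀, hx₀, hk0⟩ : ∃ x₀, f₀ x₀ x₀ = 0 ∧ b x₀ ≠ 0 := by
    by_contra hc
    push Not at hc
    refine hnl ⟨1, 0, Rat.zero, ?_⟩
    rw [smul_zero]
    refine hd.herm.eq_zero _ fun x => ?_
    show hd.herm.toSesq.lin v x = 0
    rw [eq_sum_emb P F₀ x, map_sum]
    refine Finset.sum_eq_zero fun i _ => ?_
    rw [map_smul, Sesq.lin_apply, ← hzero]
    suffices H : ∀ u, b u = 0 by rw [H, smul_zero]
    intro u
    have hu := hs.le_span_iso htop (Submodule.mem_top (x := u))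
    induction hu using Submodule.span_induction with
    | mem a ha => exact hc a ha.2
    | zero => rw [hzero, emb_zero, hd.herm.toSesq.zero_left]
    | add a a' _ _ ha ha' => rw [hbadd, ha, ha', add_zero]
    | smul k a _ ha => rw [hbsmul, ha, mul_zero]
  obtain ⟨k, hk⟩ : ∃ k, k = b x₀ := ⟨_, rfl⟩
  rw [← hk] at hk0
  have hσk : σ k ≠ 0 := σ.map_ne_zero_iff.2 hk0
  have hperp : ∀ x, f₀ x x = 0 → b x ≠ 0 → ∀ u, f₀ u x = 0 → b u / b x ∈ F₀ := fun x hx hbx u hu => by
    have hker : Fintype.card ι + 1 < 2 * finrank F₀ (LinearMap.ker (hs.toSesq.lin x)) := by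
      have := card_le_finrank_ker_add_one (hs.toSesq.lin x); omega
    have hu' := hs.le_span_iso hker (LinearMap.mem_ker.2 hu)
    clear hu
    induction hu' using Submodule.span_induction with
    | mem a ha =>
      have h1 := hcross a x ha.2 hx (LinearMap.mem_ker.1 ha.1)
      have h3 : σ (b x) ≠ 0 := σ.map_ne_zero_iff.2 hbx
      rw [show b a / b x = b a * σ (b x) / (b x * σ (b x)) by field_simp]
      exact div_mem h1 (hN x hx)
    | zero => rw [hzero 0, emb_zero, hd.herm.toSesq.zero_left, zero_div]; exact zero_mem _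
    | add a a' _ _ ha ha' => rw [hbadd, add_div]; exact add_mem ha ha'
    | smul s a _ ha => rw [hbsmul, mul_div_assoc]; exact mul_mem s.2 ha
  obtain ⟨w, w', hw, hw', hww, -, hw'w, -⟩ := hd.exists_hyp_perp ![x₀] (by simp; omega)
  have hw0 : f₀ w x₀ = 0 := hw 0
  have hw'0 : f₀ w' x₀ = 0 := hw' 0
  obtain ⟨z, hz0, hzz, hz'z, hbz⟩ : ∃ z, f₀ z x₀ = 0 ∧ f₀ z z = 0 ∧ f₀ w' z = 1 ∧ b z ≠ 0 := by
    by_cases hbw : b w = 0
    · refine ⟨w + x₀, by rw [hs.add_left, hw0, hx₀, add_zero], ?_, ?_, ?_⟩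
      · rw [hs.add_left, hs.add_right, hs.add_right, hww, hw0, hs.refl _ _ hw0, hx₀]; simp
      · rw [hs.add_right, hw'w, hw'0, add_zero]
      · rw [hbadd, hbw, zero_add, ← hk]; exact hk0
    · exact ⟨w, hw0, hww, hw'w, hbw⟩
  have hw'k : b w' / k ∈ F₀ := hk ▸ hperp x₀ hx₀ (hk ▸ hk0) w' hw'0
  have hzk : b z / k ∈ F₀ := hk ▸ hperp x₀ hx₀ (hk ▸ hk0) z hz0
  have hall : ∀ u, b u / k ∈ F₀ := fun u => by
    obtain ⟨u', hu'⟩ : ∃ u', u' = u + (-(f₀ u z)) • w' := ⟨_, rfl⟩
    have h1 := hperp z hzz hbz u' (by rw [hu', hs.add_left, hs.smul_left, hz'z, mul_one, add_neg_cancel])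
    have h2 := add_mem (mul_mem h1 hzk) (mul_mem (f₀ u z).2 hw'k)
    rw [div_mul_div_cancel₀ hbz, mul_div_assoc', ← add_div, hu', hbadd, hbsmul, NegMemClass.coe_neg] at h2
    rwa [show b u + -(f₀ u z : F) * b w' + (f₀ u z : F) * b w' = b u by ring] at h2
  let ψ : (ι → F₀) →ₗ[F₀] F₀ :=
    { toFun := fun u => ⟨b u / k, hall u⟩
      map_add' := fun u u' => Subtype.ext (by
        show b (u + u') / k = b u / k + b u' / k
        rw [hbadd, add_div])
      map_smul' := fun c u => Subtype.ext (by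
        show b (c • u) / k = (c : F) * (b u / k)
        rw [hbsmul, mul_div_assoc]) }
  obtain ⟨p, hp⟩ := exists_dot ψ
  obtain ⟨r, hr⟩ := fn_surjective hs.toSesq p
  have hrψ : ∀ u, k * (f₀ u r : F) = b u := fun u => by
    have : f₀ u r = ψ u := by rw [← fn_dot hs.toSesq, hr, hp]
    rw [this]
    show k * (b u / k) = _
    rw [mul_div_cancel₀ _ hk0]
  refine hnl ⟨σ k, emb F₀ P r, rat_emb r, sub_eq_zero.1 (hd.herm.eq_zero _ fun x => ?_)⟩
  show hd.herm.toSesq.lin (v - σ k • emb F₀ P r) x = 0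
  rw [eq_sum_emb P F₀ x, map_sum]
  refine Finset.sum_eq_zero fun i _ => ?_
  rw [map_smul, Sesq.lin_apply, hd.herm.toSesq.sub_right, hd.herm.smul_right, hd.form, hd.herm.invol, hrψ, hzero,
    sub_self, smul_zero]

/-- An isotropic point off the rational lines gives everything, in odd characteristic. -/
theorem S_of_point_odd {n : ℕ} (hn : n.Prime) (hcard : Nat.card F = Nat.card F₀ ^ n) (h2 : (2 : F) ≠ 0) {v : V}
    (hvv : f v v = 0) (hQv : ∀ c : F₀, c + σ₀ c = 0 → InN M (qDisp f v (c : F))) (hnl : ¬ RatLine F₀ P v) :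
    ∀ (k : F) a b, f₀ a a = 0 → f₀ b b = 0 → f₀ a b = 0 → InN M (sDisp f (emb F₀ P a) (k • emb F₀ P b)) := by
  obtain ⟨y, hy, hN⟩ := hd.exists_norm_notMem hnl
  obtain ⟨c, hc, hcn, hQ⟩ := hd.tv_of_plane h2 hy hvv hQv hN
  refine hd.full_of_tv hn hcard hc hcn hy (fun e => hN ?_) hQ
  rw [e, emb_zero, hd.herm.toSesq.zero_left, zero_mul]
  exact zero_mem _

end HData

end Cfsg.Agent.Classical.MaxTv
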