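import Cfsg.Agent.Lib.Classical.MaxUnitSubfieldData
import Cfsg.Agent.Lib.Classical.MaxUnitSubfieldOdd
import Cfsg.Agent.Lib.Classical.MaxRationalInvol
import Cfsg.Agent.Lib.Classical.LinFour.UnitGen

/-!
Subfield subgroups are maximal in special unitary groups.
-/

set_option autoImplicit false
set_option linter.unusedSectionVars false

namespace Cfsg.Agent.Classical.MaxTv

open Matrix Module

variable {F : Type*} [Field F] [Finite F] {ι : Type} [Fintype ι] [DecidableEq ι]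

local notation "V" => (ι → F)
local notation "Mn" => Matrix ι ι F

variable {F₀ : Subfield F} {P : GL ι F} {σ : F ≃+* F} {f : (ι → F) → (ι → F) → F} {σ₀ : F₀ ≃+* F₀}
  {f₀ : (ι → F₀) → (ι → F₀) → F₀} {M : Subgroup (GL ι F)}

/-- In characteristic two a rational involution up to scalars is rational. -/
theorem ratMap_of_involution_two {F : Type*} [Field F] [Finite F] {ι : Type} [Fintype ι] [DecidableEq ι]
    [Nonempty ι] {F₀ : Subfield F} {P z : GL ι F} (htwo : (2 : F) = 0) (hzH : z ∈ Geo.subfieldSubgroup F₀ P)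
    (hzz : z * z = 1) : RatMap F₀ P z := by
  classical
  obtain ⟨a, ha, h⟩ := exists_of_mem_subfieldSubgroup hzH
  suffices haF : a ∈ F₀ by
    intro x hx
    have := (h x hx).smul (inv_mem haF)
    rwa [smul_smul, inv_mul_cancel₀ ha, one_smul] at this
  obtain ⟨i₀⟩ := ‹Nonempty ι›
  have hsq : a * a ∈ F₀ := by
    have h2 := h _ (h _ (rat_single i₀)) i₀
    rw [Matrix.mulVec_smul (z : Matrix ι ι F), smul_smul, Matrix.mulVec_mulVec, ← Units.val_mul, hzz, Units.val_one,
      Matrix.one_mulVec, Matrix.mulVec_smul, inv_mulVec_cancel, Pi.smul_apply, Pi.single_eq_same, smul_eq_mul,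
      mul_one] at h2
    exact h2
  have hchar : ringChar F = 2 := ((Nat.dvd_prime Nat.prime_two).1 ((ringChar.spec F 2).1 (by exact_mod_cast htwo))
    ).resolve_left (CharP.char_ne_one F (ringChar F))
  have : CharP F 2 := ringChar.of_eq hchar
  obtain ⟨k, hk⟩ := FiniteField.isSquare_of_char_two (F := F₀) (ringChar.eq F₀ 2) (⟨a * a, hsq⟩ : F₀)
  have hk' : a * a = (k : F) * (k : F) := congrArg Subtype.val hk
  have h0 : (a - k) * (a - k) = 0 := by
    linear_combination hk' + ((k : F) * k - a * k) * (CharTwo.two_eq_zero : (2 : F) = 0)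
  rw [sub_eq_zero.1 (mul_self_eq_zero.1 h0)]
  exact k.2

namespace HData

variable (hd : HData σ f σ₀ f₀ P M)
include hd

theorem emb_eq_zero {z : V} (h : ∀ u, f (emb F₀ P u) z = 0) : z = 0 :=
  hd.herm.eq_zero _ fun x => by
    show hd.herm.toSesq.lin z x = 0
    rw [eq_sum_emb P F₀ x, map_sum]
    exact Finset.sum_eq_zero fun i _ => by rw [map_smul, Sesq.lin_apply, h, smul_zero]

/-- An isometry taking isotropic rational vectors to rational lines respects the rational structure. -/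
theorem mem_subfield_of_iso_lines {g : GL ι F} (hg : ∀ x y, f ((g : Mn) *ᵥ x) ((g : Mn) *ᵥ y) = f x y)
    (h : ∀ u, f₀ u u = 0 → RatLine F₀ P ((g : Mn) *ᵥ emb F₀ P u)) : g ∈ Geo.subfieldSubgroup F₀ P := by
  have hs := hd.herm₀
  have hdim := hd.dim
  -- `k • image` is rational
  let Q : F → (ι → F₀) → Prop := fun k u => Rat F₀ P (k • ((g : Mn) *ᵥ emb F₀ P u))
  have hg0 : ∀ {u : ι → F₀}, u ≠ 0 → (g : Mn) *ᵥ emb F₀ P u ≠ 0 := fun {u} hu e => hu (emb_injective (P := P) (gl_mulVec_injective g (by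
    show (g : Mn) *ᵥ emb F₀ P u = (g : Mn) *ᵥ emb F₀ P 0
    rw [e, emb_zero, Matrix.mulVec_zero])))
  have hex : ∀ u, f₀ u u = 0 → u ≠ 0 → ∃ k : F, k ≠ 0 ∧ Q k u := fun u hu hu0 => by
    obtain ⟨c, r, hr, hcr⟩ := h u hu
    have hc : c ≠ 0 := fun e => hg0 hu0 (by rw [hcr, e, zero_smul])
    exact ⟨c⁻¹, inv_ne_zero hc, by show Rat F₀ P _; rw [hcr, smul_smul, inv_mul_cancel₀ hc, one_smul]; exact hr⟩
  have hind : ∀ a b : ι → F₀, f₀ a a = 0 → f₀ b b = 0 → f₀ a b = 0 → ∀ k, Q k a → k ≠ 0 → a ≠ 0 →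
      (∃ z, f₀ a z = 0 ∧ f₀ b z ≠ 0) → Q k b := by
    intro a b ha hb hab k hka hk ha0 ⟨z, haz, hbz⟩
    have hb0 : b ≠ 0 := fun e => hbz (by rw [e, hs.toSesq.zero_left])
    obtain ⟨k', hk', hkb⟩ := hex b hb hb0
    have hab0 : a + b ≠ 0 := fun e => hbz (by
      rw [show b = -a from (neg_eq_of_add_eq_zero_right e).symm, ← neg_one_smul F₀ a, hs.smul_left, haz, mul_zero])
    obtain ⟨m, hm, hmab⟩ := hex (a + b) (by
      rw [hs.add_left, hs.add_right, hs.add_right, ha, hb, hab, hs.refl _ _ hab]; ring) hab0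
    -- pick a partner of `b` orthogonal to `a`
    obtain ⟨α, hα⟩ := exists_emb hka
    obtain ⟨β, hβ⟩ := exists_emb hkb
    obtain ⟨γ, hγ⟩ := exists_emb hmab
    have hid : emb F₀ P γ = (m / k) • emb F₀ P α + (m / k') • emb F₀ P β := by
      rw [hγ, hα, hβ, smul_smul, smul_smul, div_mul_cancel₀ _ hk, div_mul_cancel₀ _ hk', emb_add,
        Matrix.mulVec_add, smul_add]
    -- coordinates
    have hco : ∀ i, (γ i : F) = m / k * α i + m / k' * β i := fun i => by
      have := congrFun (congrArg (fun x => ((P⁻¹ : GL ι F) : Mn) *ᵥ x) hid) i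
      simpa [emb, inv_mulVec_cancel, Matrix.mulVec_add, Matrix.mulVec_smul] using this
    -- `α`, `β` are independent
    obtain ⟨i, j, hij⟩ : ∃ i j, (α i : F) * β j - α j * β i ≠ 0 := by
      by_contra hcon
      push Not at hcon
      obtain ⟨i, hi⟩ : ∃ i, α i ≠ 0 := by
        by_contra h'
        push Not at h'
        refine smul_ne_zero hk (hg0 ha0) ?_
        rw [← hα, show α = 0 from funext h', emb_zero]
      have hi' : (α i : F) ≠ 0 := fun e => hi (Subtype.ext e)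
      have hdep : emb F₀ P β = ((β i : F) / α i) • emb F₀ P α := by
        rw [show ((β i : F) / α i) = ((β i / α i : F₀) : F) by push_cast; rfl, ← emb_smul]
        congr 1
        funext j
        refine Subtype.ext ?_
        show (β j : F) = ((β i / α i : F₀) : F) * α j
        push_cast
        field_simp
        linear_combination hcon i j
      rw [hα, hβ, smul_smul, ← Matrix.mulVec_smul, ← Matrix.mulVec_smul] at hdep
      have h1 := congrArg (fun x => f x (emb F₀ P z)) (gl_mulVec_injective g hdep)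
      simp only [hd.herm.smul_left, hd.form, haz, ZeroMemClass.coe_zero, mul_zero, mul_eq_zero, hk', false_or] at h1
      exact hbz (Subtype.ext h1)
    have h1 : m / k = ((γ i : F) * β j - γ j * β i) / ((α i : F) * β j - α j * β i) := by
      rw [eq_div_iff hij, hco i, hco j]; ring
    have h2 : m / k' = ((α i : F) * γ j - α j * γ i) / ((α i : F) * β j - α j * β i) := by
      rw [eq_div_iff hij, hco i, hco j]; ring
    have h1' : m / k ∈ F₀ := h1 ▸ div_mem (sub_mem (mul_mem (γ i).2 (β j).2) (mul_mem (γ j).2 (β i).2))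
      (sub_mem (mul_mem (α i).2 (β j).2) (mul_mem (α j).2 (β i).2))
    have h2' : m / k' ∈ F₀ := h2 ▸ div_mem (sub_mem (mul_mem (α i).2 (γ j).2) (mul_mem (α j).2 (γ i).2))
      (sub_mem (mul_mem (α i).2 (β j).2) (mul_mem (α j).2 (β i).2))
    have := hkb.smul (div_mem h2' h1')
    rwa [smul_smul, show m / k' / (m / k) * k' = k by field_simp] at this
  obtain ⟨y₀, y₀', -, -, hy₀, hy₀', hy₀'y₀, hy₀y₀'⟩ := hd.exists_hyp_perp (κ := Fin 0) Fin.elim0 (by simp; have := hd.dim; omega)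
  have hy₀0 : y₀ ≠ 0 := fun e => by rw [e, hs.toSesq.zero_left] at hy₀y₀'; exact zero_ne_one hy₀y₀'
  obtain ⟨k, hk, hQk⟩ := hex y₀ hy₀ hy₀0
  have hall : ∀ b, f₀ b b = 0 → Q k b := fun b hb => by
    rcases eq_or_ne b 0 with rfl | hb0
    · show Rat F₀ P _
      rw [emb_zero, Matrix.mulVec_zero, smul_zero]; exact Rat.zero
    have sep : ∀ a b : ι → F₀, a ≠ 0 → (∀ t : F₀, b ≠ t • a) → ∃ z, f₀ a z = 0 ∧ f₀ b z ≠ 0 := fun a b ha h => by
      obtain ⟨z, hza, hzb⟩ := hd.exists_sep₀ ha h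
      exact ⟨z, hs.refl _ _ hza, fun e => hzb (hs.refl _ _ e)⟩
    rcases hd.exists_mid hy₀ hy₀0 hb hb0 with ⟨h1, h2⟩ | ⟨u, huu, hu0, h1, h2, h3, h4⟩
    · exact hind y₀ b hy₀ hb h1 k hQk hk hy₀0 (sep y₀ b hy₀0 h2)
    · exact hind u b huu hb h3 k (hind y₀ u hy₀ huu h1 k hQk hk hy₀0 (sep y₀ u hy₀0 h2)) hk hu0 (sep u b hu0 h4)
  refine mem_subfieldSubgroup_of hk fun x hx => ?_
  obtain ⟨u, rfl⟩ := exists_emb hx
  have hu := hs.le_span_iso (S := ⊤) (by rw [finrank_top, Module.finrank_pi]; omega) (Submodule.mem_top (x := u))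
  induction hu using Submodule.span_induction with
  | mem a ha => exact hall a ha.2
  | zero => rw [emb_zero, Matrix.mulVec_zero, smul_zero]; exact Rat.zero
  | add a b _ _ ha hb =>
    rw [emb_add, Matrix.mulVec_add, smul_add]; exact (ha (rat_emb a)).add (hb (rat_emb b))
  | smul c a _ ha =>
    rw [emb_smul, Matrix.mulVec_smul, smul_comm]; exact (ha (rat_emb a)).smul c.2

/-- An isotropic point with a rational orthogonal isotropic vector gives everything. -/
theorem S_of_orth_point {n : ℕ} (hn : n.Prime) (hcard : Nat.card F = Nat.card F₀ ^ n) {v : V} {r : ι → F₀}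
    (hvv : f v v = 0) (hQv : ∀ c : F₀, c + σ₀ c = 0 → InN M (qDisp f v (c : F)))
    (hr : f₀ r r = 0) (hr0 : r ≠ 0) (hvr : f v (emb F₀ P r) = 0) (hnl : ¬ RatLine F₀ P v) :
    ∀ (k : F) a b, f₀ a a = 0 → f₀ b b = 0 → f₀ a b = 0 → InN M (sDisp f (emb F₀ P a) (k • emb F₀ P b)) := by
  have hs := hd.herm₀
  have hrv : f (emb F₀ P r) v = 0 := hd.herm.refl _ _ hvr
  obtain ⟨c₀, hc0, hc₀, hc₀F⟩ := hd.exists_skew₀
  obtain ⟨z₀, hz₀⟩ := hs.toSesq.exists_left hr0
  obtain ⟨r', -, hr'r', hr'r⟩ := hd.exists_partner_perp (κ := Fin 0) Fin.elim0 (by simp; have := hd.dim; omega) (u := r)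
    ⟨z₀, fun i => i.elim0, hz₀⟩
  let b : (ι → F₀) → F := fun x => f (emb F₀ P x) v
  have hb : ∀ x, b x = f (emb F₀ P x) v := fun _ => rfl
  have hbadd : ∀ x y, b (x + y) = b x + b y := fun x y => by rw [hb, emb_add, hd.herm.add_left]
  have hbsmul : ∀ (c : F₀) x, b (c • x) = c * b x := fun c x => by rw [hb, emb_smul, hd.herm.smul_left]
  have hbr : b r = 0 := hrv
  have hfinish : ∀ {μ : F} {x : ι → F₀} {c : F₀}, c ≠ 0 → c + σ₀ c = 0 → f₀ x x = 0 → f₀ x r = 0 →
      (∃ z, f₀ z r = 0 ∧ f₀ z x ≠ 0) → (∃ z, f₀ z x = 0 ∧ f₀ z r ≠ 0) → μ ∉ F₀ →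
      InN M (qDisp f (emb F₀ P x + μ • emb F₀ P r) (c : F)) →
      ∀ (k : F) a b, f₀ a a = 0 → f₀ b b = 0 → f₀ a b = 0 → InN M (sDisp f (emb F₀ P a) (k • emb F₀ P b)) := by
    intro μ x c hc0' hc hx hxr ⟨z, hzr, hzx⟩ ⟨z', hz'x, hz'r⟩ hμ hQ
    have hx0 : x ≠ 0 := fun e => hzx (by rw [e, hs.toSesq.zero_right])
    obtain ⟨c', hc', hc'n, hQ'⟩ := hd.tv_of_point hc0' hc hx hx0 hr hxr
      (fun t e => hz'r (by rw [e, hs.smul_right, hz'x, mul_zero])) hμ hQ
    exact hd.full_of_tv hn hcard hc' hc'n hx hx0 hQ'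
  by_cases hprod : ∃ x₀ y : ι → F₀, f₀ x₀ x₀ = 0 ∧ f₀ x₀ r = 0 ∧ f₀ y y = 0 ∧ f₀ y r = 0 ∧ σ (b x₀) * b y ∉ F₀
  · obtain ⟨x₀, y, hx₀, hx₀r, hy, hyr, hne⟩ := hprod
    obtain ⟨R, hR, hRx⟩ := hd.S_rat hr hx₀ (hs.refl _ _ hx₀r)
    have h1 := hd.conj_Q hR (hQv c₀ hc₀)
    have hv' : (R : Mn) *ᵥ v = v + (-σ (b x₀)) • emb F₀ P r := by
      rw [hRx, sDisp, hvr, zero_smul, zero_sub, neg_smul, hb, ← hd.herm.herm]
    rw [hv'] at h1
    obtain ⟨U, hU, hUx⟩ := InN.add h1 (hQv (-c₀) (by rw [map_neg, ← neg_add, hc₀, neg_zero])) fun z => by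
      simp only [qDisp, hd.herm.add_left, hd.herm.add_right, hd.herm.smul_left, hd.herm.smul_right, hvv, hvr,
        mul_zero, add_zero]
    have hUy : (U : Mn) *ᵥ emb F₀ P y = emb F₀ P y + ((c₀ : F) * b y * (-σ (b x₀))) • emb F₀ P r := by
      rw [hUx]
      simp only [qDisp, hd.herm.add_right, hd.herm.smul_right, hd.form, hyr, ZeroMemClass.coe_zero, mul_zero,
        add_zero, hb, NegMemClass.coe_neg]
      module
    have h2 := hd.conj_Q hU (hd.tv y hy c₀ hc₀)
    rw [hUy] at h2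
    have hμ : ((c₀ : F) * b y * (-σ (b x₀))) ∉ F₀ := fun h => hne (by
      have := neg_mem (div_mem h c₀.2)
      have hc0F : (c₀ : F) ≠ 0 := fun e => hc0 (Subtype.ext e)
      rwa [show -((c₀ : F) * b y * (-σ (b x₀)) / (c₀ : F)) = σ (b x₀) * b y by field_simp] at this)
    have hby : b y ≠ 0 := fun e => hne (by rw [e, mul_zero]; exact zero_mem _)
    have hbdep : ∀ t : F₀, y ≠ t • r := fun t e => hby (by rw [e, hbsmul, hbr, mul_zero])
    refine hfinish hc0 hc₀ hy hyr ?_ ?_ hμ h2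
    · by_contra hc
      push Not at hc
      obtain ⟨t, ht⟩ := hs.toSesq.eq_smul_of_ker hr0 hc
      exact hbdep t ht
    · by_contra hc
      push Not at hc
      have hy0 : y ≠ 0 := fun e => hby (by rw [e, hb, emb_zero, hd.herm.toSesq.zero_left])
      obtain ⟨t, ht⟩ := hs.toSesq.eq_smul_of_ker hy0 hc
      have ht0 : t ≠ 0 := fun e => hr0 (by rw [ht, e, zero_smul])
      exact hbdep t⁻¹ (by rw [ht, smul_smul, inv_mul_cancel₀ ht0, one_smul])
  push Not at hprod
  have hker : Fintype.card ι + 1 < 2 * finrank F₀ (LinearMap.ker (hs.toSesq.lin r)) := by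
    have := card_le_finrank_ker_add_one (hs.toSesq.lin r); have := hd.dim; omega
  have hperp : ∀ u, b (u - f₀ u r • r') = b u - (f₀ u r : F) * b r' := fun u => by
    rw [hb, emb_sub, hd.herm.toSesq.sub_left, emb_smul, hd.herm.smul_left]
  have hperp' : ∀ u, f₀ (u - f₀ u r • r') r = 0 := fun u => by
    rw [hs.toSesq.sub_left, hs.smul_left, hr'r, mul_one, sub_self]
  obtain ⟨x₀, hx₀, hx₀r, hk0⟩ : ∃ x₀, f₀ x₀ x₀ = 0 ∧ f₀ x₀ r = 0 ∧ b x₀ ≠ 0 := by
    by_contra hc
    push Not at hc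
    have hz : ∀ u, f₀ u r = 0 → b u = 0 := fun u hu => by
      have hu' := hs.le_span_iso hker (LinearMap.mem_ker.2 hu)
      clear hu
      induction hu' using Submodule.span_induction with
      | mem a ha => exact hc a ha.2 (LinearMap.mem_ker.1 ha.1)
      | zero => rw [hb, emb_zero, hd.herm.toSesq.zero_left]
      | add a a' _ _ ha ha' => rw [hbadd, ha, ha', add_zero]
      | smul t a _ ha => rw [hbsmul, ha, mul_zero]
    refine hnl ⟨σ (b r'), emb F₀ P r, rat_emb r, sub_eq_zero.1 (hd.emb_eq_zero fun u => ?_)⟩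
    have := hz _ (hperp' u)
    rw [hperp] at this
    rw [hd.herm.toSesq.sub_right, hd.herm.smul_right, hd.form, hd.herm.invol]
    linear_combination this
  set k := b x₀ with hk
  have hkk : σ k * k ∈ F₀ := hprod x₀ x₀ hx₀ hx₀r hx₀ hx₀r
  have hval : ∀ u, f₀ u r = 0 → b u / k ∈ F₀ := fun u hu => by
    have hu' := hs.le_span_iso hker (LinearMap.mem_ker.2 hu)
    clear hu
    induction hu' using Submodule.span_induction with
    | mem a ha =>
      have h1 := hprod x₀ a hx₀ hx₀r ha.2 (LinearMap.mem_ker.1 ha.1)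
      rw [← hk] at h1
      rw [show b a / k = σ k * b a / (σ k * k) by
        have : σ k ≠ 0 := σ.map_ne_zero_iff.2 hk0
        field_simp]
      exact div_mem h1 hkk
    | zero => rw [hb, emb_zero, hd.herm.toSesq.zero_left, zero_div]; exact zero_mem _
    | add a a' _ _ ha ha' => rw [hbadd, add_div]; exact add_mem ha ha'
    | smul t a _ ha => rw [hbsmul, mul_div_assoc]; exact mul_mem t.2 ha
  let ψ : (ι → F₀) →ₗ[F₀] F₀ :=
    { toFun := fun u => ⟨(b u - (f₀ u r : F) * b r') / k, by rw [← hperp]; exact hval _ (hperp' u)⟩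
      map_add' := fun u u' => Subtype.ext (by
        show (b (u + u') - _ * b r') / k = (b u - _ * b r') / k + (b u' - _ * b r') / k
        rw [hbadd, hs.add_left, AddMemClass.coe_add]; ring)
      map_smul' := fun t u => Subtype.ext (by
        show (b (t • u) - _ * b r') / k = (t : F) * ((b u - _ * b r') / k)
        rw [hbsmul, hs.smul_left, MulMemClass.coe_mul]; ring) }
  obtain ⟨p, hp⟩ := exists_dot ψ
  obtain ⟨z, hz⟩ := fn_surjective hs.toSesq p
  have hzψ : ∀ u, k * (f₀ u z : F) = b u - (f₀ u r : F) * b r' := fun u => by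
    have : f₀ u z = ψ u := by rw [← fn_dot hs.toSesq, hz, hp]
    rw [this]
    show k * ((b u - _ * b r') / k) = _
    rw [mul_div_cancel₀ _ hk0]
  have hzr : f₀ z r = 0 := hs.refl _ _ (Subtype.ext ((mul_eq_zero.1 (show k * (f₀ r z : F) = 0 by
    rw [hzψ, hbr, hr]; simp)).resolve_left hk0))
  have hvz : v = σ k • emb F₀ P z + σ (b r') • emb F₀ P r := sub_eq_zero.1 (hd.emb_eq_zero fun u => by
    rw [hd.herm.toSesq.sub_right, hd.herm.add_right, hd.herm.smul_right, hd.herm.smul_right, hd.form, hd.form,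
      hd.herm.invol, hd.herm.invol]
    linear_combination -(hzψ u))
  have hσk : σ k ≠ 0 := σ.map_ne_zero_iff.2 hk0
  set d := σ (b r') / σ k with hdd
  have hvd : v = σ k • (emb F₀ P z + d • emb F₀ P r) := by
    rw [smul_add, smul_smul, hdd, mul_div_cancel₀ _ hσk]; exact hvz
  have hzz : f₀ z z = 0 := by
    have := hvv
    rw [hvd] at this
    simp only [hd.herm.add_left, hd.herm.add_right, hd.herm.smul_left, hd.herm.smul_right, hd.form, hzr, hr,
      hs.refl _ _ hzr, ZeroMemClass.coe_zero, mul_zero, add_zero, mul_eq_zero, hσk, hd.herm.invol, hk0,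
      false_or] at this
    exact Subtype.ext this
  have hdn : d ∉ F₀ := fun h => hnl ⟨σ k, _, (rat_emb z).add ((rat_emb r).smul h), hvd⟩
  have hznl : ∀ t : F₀, z ≠ t • r := fun t e => hnl ⟨σ k * (t + d), emb F₀ P r, rat_emb r, by
    rw [hvd, e, emb_smul]; module⟩
  have hkk' : σ₀ ⟨σ k * k, hkk⟩ = ⟨σ k * k, hkk⟩ := Subtype.ext (by
    rw [← hd.sigma]; simp [map_mul, hd.herm.invol, mul_comm])
  have hN0 : (⟨σ k * k, hkk⟩ : F₀) ≠ 0 := fun e => mul_ne_zero hσk hk0 (congrArg Subtype.val e)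
  refine hfinish (μ := d) (x := z) (c := c₀) hc0 hc₀ hzz hzr ?_ ?_ hdn ?_
  · by_contra hc
    push Not at hc
    obtain ⟨t, ht⟩ := hs.toSesq.eq_smul_of_ker hr0 hc
    exact hznl t ht
  · by_contra hc
    push Not at hc
    have hz0 : z ≠ 0 := fun e => hznl 0 (by rw [e, zero_smul])
    obtain ⟨t, ht⟩ := hs.toSesq.eq_smul_of_ker hz0 hc
    have ht0 : t ≠ 0 := fun e => hr0 (by rw [ht, e, zero_smul])
    exact hznl t⁻¹ (by rw [ht, smul_smul, inv_mul_cancel₀ ht0, one_smul])
  · refine (hQv (c₀ / ⟨σ k * k, hkk⟩) (by rw [map_div₀, hkk', ← add_div, hc₀, zero_div])).congr fun x => ?_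
    simp only [qDisp, hvd, hd.herm.smul_right, hd.herm.invol, smul_smul]
    congr 1
    push_cast
    field_simp

/-- An element intertwining rational maps gives everything. -/
theorem S_of_intertwine {n : ℕ} (hn : n.Prime) (hcard : Nat.card F = Nat.card F₀ ^ n)
    (hdet : ∀ T ∈ M, T ∈ Geo.specialLinear ι F) {h t₁ t₂ : GL ι F} (hh : h ∈ M)
    (hhH : h ∉ Geo.subfieldSubgroup F₀ P) (ht₁ : RatMap F₀ P t₁)
    (htwo : (2 : F) = 0) (ht₁i : t₁ * t₁ = 1) (ht₁M : t₁ ∈ M) (ht₂ : RatMap F₀ P t₂) (ht₂M : t₂ ∈ M) (ht₂1 : t₂ ≠ 1)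
    (hcomm : h * t₁ = t₂ * h) :
    ∀ (k : F) a b, f₀ a a = 0 → f₀ b b = 0 → f₀ a b = 0 → InN M (sDisp f (emb F₀ P a) (k • emb F₀ P b)) := by
  classical
  have hs := hd.herm₀
  have hdim := hd.dim
  obtain ⟨x, hxx, hxl⟩ : ∃ x, f₀ x x = 0 ∧ ¬ RatLine F₀ P ((h : Mn) *ᵥ emb F₀ P x) := by
    by_contra hc
    push Not at hc
    exact hhH (hd.mem_subfield_of_iso_lines (hd.iso h hh) hc)
  -- the rational fixed vectors
  have hmodel : ∀ t : GL ι F, RatMap F₀ P t → ∃ L : (ι → F₀) →ₗ[F₀] (ι → F₀),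
      ∀ u, emb F₀ P (L u) = (t : Mn) *ᵥ emb F₀ P u - emb F₀ P u := fun t ht => by
    choose L hL using fun u => exists_emb ((ht _ (rat_emb (P := P) u)).sub (rat_emb u))
    exact ⟨{ toFun := L
             map_add' := fun u u' => emb_injective (P := P) (by
               rw [emb_add, hL, hL, hL, emb_add, Matrix.mulVec_add]; abel)
             map_smul' := fun c u => emb_injective (P := P) (by
               rw [RingHom.id_apply, emb_smul, hL, hL, emb_smul, Matrix.mulVec_smul, smul_sub]) }, hL⟩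
  obtain ⟨L₁, hL₁⟩ := hmodel t₁ ht₁
  obtain ⟨L₂, hL₂⟩ := hmodel t₂ ht₂
  -- an involution fixes an isotropic rational vector orthogonal to `x`
  obtain ⟨w, ⟨hwK, hwx⟩, hw0, hww⟩ : ∃ w, w ∈ LinearMap.ker L₁ ⊓ LinearMap.ker (hs.toSesq.lin x) ∧ w ≠ 0 ∧
      f₀ w w = 0 := by
    have hinv : ∀ y : V, (t₁ : Mn) *ᵥ ((t₁ : Mn) *ᵥ y) = y := fun y => by
      rw [Matrix.mulVec_mulVec, ← Units.val_mul, ht₁i, Units.val_one, Matrix.one_mulVec]
    have hLL : ∀ u, L₁ (L₁ u) = 0 := fun u => emb_injective (P := P) (by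
      rw [hL₁, hL₁, Matrix.mulVec_sub, hinv, emb_zero]
      have e : ∀ a b : V, a - b - (b - a) = (2 : F) • (a - b) := fun a b => by rw [two_smul]; abel
      rw [e, htwo, zero_smul])
    have hLi : ∀ u, f₀ (L₁ u) (L₁ u) = 0 := fun u => Subtype.ext (by
      rw [← hd.form, hL₁]
      obtain ⟨y, hy⟩ : ∃ y, y = emb F₀ P u := ⟨_, rfl⟩
      rw [← hy, hd.herm.toSesq.sub_left, hd.herm.toSesq.sub_right, hd.herm.toSesq.sub_right, hd.iso t₁ ht₁M]
      have h1 : f y ((t₁ : Mn) *ᵥ y) = f ((t₁ : Mn) *ᵥ y) y := by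
        conv_lhs => rw [← hd.iso t₁ ht₁M, hinv]
      rw [h1]
      show _ = (0 : F)
      linear_combination (f y y - f ((t₁ : Mn) *ᵥ y) y) * htwo)
    by_cases h2 : 2 ≤ finrank F₀ (LinearMap.range L₁)
    · obtain ⟨w, ⟨hw, hwx⟩, hw0⟩ := Submodule.exists_mem_ne_zero_of_ne_bot
        (p := LinearMap.range L₁ ⊓ LinearMap.ker (hs.toSesq.lin x)) (fun e => by
          have := finrank_le_inf_ker_add_one (LinearMap.range L₁) (hs.toSesq.lin x)
          rw [e, finrank_bot] at this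
          omega)
      obtain ⟨u, rfl⟩ := hw
      exact ⟨_, ⟨LinearMap.mem_ker.2 (hLL u), hwx⟩, hw0, hLi u⟩
    refine hs.exists_iso (S := LinearMap.ker L₁ ⊓ LinearMap.ker (hs.toSesq.lin x)) ?_
    have h3 := L₁.finrank_range_add_finrank_ker
    rw [Module.finrank_pi] at h3
    have := finrank_le_inf_ker_add_one (LinearMap.ker L₁) (hs.toSesq.lin x)
    omega
  have hwx' : f₀ w x = 0 := LinearMap.mem_ker.1 hwx
  have hwt : (t₁ : Mn) *ᵥ emb F₀ P w = emb F₀ P w :=
    sub_eq_zero.1 (by rw [← hL₁, LinearMap.mem_ker.1 hwK, emb_zero])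
  have hQh : ∀ u, f₀ u u = 0 → ∀ c : F₀, c + σ₀ c = 0 → InN M (qDisp f ((h : Mn) *ᵥ emb F₀ P u) (c : F)) :=
    fun u hu c hc => hd.conj_Q hh (hd.tv u hu c hc)
  have hiso : ∀ u, f₀ u u = 0 → f ((h : Mn) *ᵥ emb F₀ P u) ((h : Mn) *ᵥ emb F₀ P u) = 0 := fun u hu => by
    rw [hd.iso h hh, hd.form, hu]; rfl
  by_cases hgw : RatLine F₀ P ((h : Mn) *ᵥ emb F₀ P w)
  · obtain ⟨a, r, hr, har⟩ := hgw
    obtain ⟨r₀, rfl⟩ := exists_emb hr
    have har0 : a ≠ 0 := fun e => hw0 (emb_injective (P := P) (gl_mulVec_injective h (by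
      show (h : Mn) *ᵥ emb F₀ P w = (h : Mn) *ᵥ emb F₀ P 0
      rw [har, e, zero_smul, emb_zero, Matrix.mulVec_zero])))
    have hr00 : r₀ ≠ 0 := fun e => hw0 (emb_injective (P := P) (gl_mulVec_injective h (by
      show (h : Mn) *ᵥ emb F₀ P w = (h : Mn) *ᵥ emb F₀ P 0
      rw [har, e, emb_zero, smul_zero, Matrix.mulVec_zero])))
    refine hd.S_of_orth_point hn hcard (hiso x hxx) (hQh x hxx) (r := r₀) ?_ hr00 ?_ hxl
    · have h1 := hiso w hww
      rw [har, hd.herm.smul_left, hd.herm.smul_right, hd.form] at h1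
      exact Subtype.ext (((mul_eq_zero.1 ((mul_eq_zero.1 h1).resolve_left har0))).resolve_left
        (σ.map_ne_zero_iff.2 har0))
    · have h1 : f ((h : Mn) *ᵥ emb F₀ P x) (a • emb F₀ P r₀) = 0 := by
        rw [← har, hd.iso h hh, hd.form, hs.refl _ _ hwx']; rfl
      rw [hd.herm.smul_right] at h1
      exact (mul_eq_zero.1 h1).resolve_left (σ.map_ne_zero_iff.2 har0)
  obtain ⟨r, ⟨u, rfl⟩, hr0, hrr⟩ : ∃ r ∈ LinearMap.range L₂, r ≠ 0 ∧ f₀ r r = 0 := by
    by_cases h2 : 2 ≤ finrank F₀ (LinearMap.range L₂)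
    · exact hs.exists_iso h2
    obtain ⟨r, hr, hr0⟩ : ∃ r ∈ LinearMap.range L₂, r ≠ 0 := by
      refine Submodule.exists_mem_ne_zero_of_ne_bot fun e => ht₂1 (Units.ext (Matrix.ext_iff_mulVec.2 fun y => ?_))
      rw [Units.val_one, Matrix.one_mulVec]
      conv_lhs => rw [eq_sum_emb P F₀ y, Matrix.mulVec_sum]
      conv_rhs => rw [eq_sum_emb P F₀ y]
      refine Finset.sum_congr rfl fun i _ => ?_
      rw [Matrix.mulVec_smul]
      congr 1
      have : L₂ (Pi.single i 1) = 0 :=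
        (Submodule.mem_bot F₀).1 (e ▸ LinearMap.mem_range_self L₂ (Pi.single i 1))
      exact sub_eq_zero.1 (by rw [← hL₂, this, emb_zero])
    refine ⟨r, hr, hr0, ?_⟩
    by_contra hrr
    have hspan : LinearMap.range L₂ ≤ F₀ ∙ r := le_of_eq (Submodule.eq_of_le_of_finrank_le
      (Submodule.span_le.2 (by simpa using hr)) (by rw [finrank_span_singleton hr0]; omega)).symm
    choose φ hφ using fun i => Submodule.mem_span_singleton.1 (hspan (LinearMap.mem_range_self L₂ (Pi.single i 1)))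
    let Φ : V := (fun i => (φ i : F)) ᵥ* ((P⁻¹ : GL ι F) : Mn)
    have hΦ : ∀ y : V, (t₂ : Mn) *ᵥ y = y + (Φ ⬝ᵥ y) • emb F₀ P r := fun y => by
      have h1 : ∀ i, (t₂ : Mn) *ᵥ emb F₀ P (Pi.single i 1) =
          emb F₀ P (Pi.single i 1) + (φ i : F) • emb F₀ P r := fun i => by
        rw [← emb_smul, hφ, hL₂]; abel
      rw [show Φ ⬝ᵥ y = (fun i => (φ i : F)) ⬝ᵥ (((P⁻¹ : GL ι F) : Mn) *ᵥ y) from
        (Matrix.dotProduct_mulVec _ _ _).symm]
      conv_lhs => rw [eq_sum_emb P F₀ y, Matrix.mulVec_sum]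
      simp only [Matrix.mulVec_smul, h1, smul_add, smul_smul, Finset.sum_add_distrib, ← eq_sum_emb P F₀ y,
        ← Finset.sum_smul, dotProduct, mul_comm]
    have hΦr : Φ ⬝ᵥ emb F₀ P r = 0 := by
      have h1 : (t₂ : Mn).det = 1 := congrArg Units.val (MonoidHom.mem_ker.1 (hdet t₂ ht₂M))
      rw [tv_val hΦ, Matrix.vecMulVec_eq Unit, Matrix.det_one_add_replicateCol_mul_replicateRow] at h1
      linear_combination h1
    refine ht₂1 (Units.ext (Matrix.ext_iff_mulVec.2 fun y => ?_))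
    rw [Units.val_one, Matrix.one_mulVec]
    have h2 := hd.iso t₂ ht₂M y (emb F₀ P r)
    rw [hΦ, hΦ, hΦr, zero_smul, add_zero, hd.herm.add_left, hd.herm.smul_left, add_eq_left, mul_eq_zero] at h2
    rw [hΦ, h2.resolve_right fun e => hrr (Subtype.ext (by rw [← hd.form]; exact e)), zero_smul, add_zero]
  refine hd.S_of_orth_point hn hcard (hiso w hww) (hQh w hww) hrr hr0 ?_ hgw
  have h2 : (t₂ : Mn) *ᵥ ((h : Mn) *ᵥ emb F₀ P w) = (h : Mn) *ᵥ emb F₀ P w := by
    rw [Matrix.mulVec_mulVec, ← Units.val_mul, ← hcomm, Units.val_mul, ← Matrix.mulVec_mulVec, hwt]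
  rw [hL₂, hd.herm.toSesq.sub_right]
  conv_lhs => arg 1; rw [← h2]
  rw [hd.iso t₂ ht₂M, sub_self]

/-- Two rational involutions, in characteristic two. -/
theorem exists_invols (htwo : (2 : F) = 0) :
    ∃ t t' : GL ι F, RatMap F₀ P t ∧ RatMap F₀ P t' ∧ t ∈ M ∧ t' ∈ M ∧ t * t = 1 ∧ t' * t' = 1 ∧ t ≠ 1 ∧
      t' ≠ 1 ∧ Fintype.card ι ≤ finrank F (fixSp t) + 1 ∧ Fintype.card ι ≤ finrank F (fixSp t') + 2 ∧
      finrank F (fixSp t') < finrank F (fixSp t) := by
  classical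
  have hs := hd.herm₀
  have hdim := hd.dim
  have hratf : ∀ z u, Rat F₀ P z → f z (emb F₀ P u) ∈ F₀ := fun z u hz => by
    obtain ⟨a, rfl⟩ := exists_emb hz
    rw [hd.form]; exact (f₀ a u).2
  obtain ⟨c, hc0, hc, hcF⟩ := hd.exists_skew₀
  have hcF0 : (c : F) ≠ 0 := fun e => hc0 (Subtype.ext e)
  obtain ⟨e₁, e₁', -, -, he₁, -, he₁'₁, -⟩ := hd.exists_hyp_perp (κ := Fin 0) Fin.elim0 (by simp; have := hd.dim; omega)
  obtain ⟨e₂, e₂', hl0, hl1, hl'0, -, he₂, -, he₂'₂, -⟩ := hd.exists_hyp_pair he₁ he₁'₁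
  have h11 : f (emb F₀ P e₁) (emb F₀ P e₁) = 0 := by rw [hd.form, he₁]; rfl
  have h22 : f (emb F₀ P e₂) (emb F₀ P e₂) = 0 := by rw [hd.form, he₂]; rfl
  have h21 : f (emb F₀ P e₂) (emb F₀ P e₁) = 0 := by
    rw [hd.form, show f₀ e₂ e₁ = 0 from hl0]; rfl
  have h12 : f (emb F₀ P e₁) (emb F₀ P e₂) = 0 := hd.herm.refl _ _ h21
  obtain ⟨t, htM, htx⟩ := hd.tv e₁ he₁ c hc
  obtain ⟨s, hsM, hsx⟩ := hd.tv e₂ he₂ c hc
  have htR : RatMap F₀ P t := fun z hz => by
    rw [htx]; exact hz.add ((rat_emb e₁).smul (mul_mem c.2 (hratf z e₁ hz)))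
  have hsR : RatMap F₀ P s := fun z hz => by
    rw [hsx]; exact hz.add ((rat_emb e₂).smul (mul_mem c.2 (hratf z e₂ hz)))
  have hts : ∀ x, ((t * s : GL ι F) : Mn) *ᵥ x =
      x + ((c : F) * f x (emb F₀ P e₁)) • emb F₀ P e₁ + ((c : F) * f x (emb F₀ P e₂)) • emb F₀ P e₂ := fun x => by
    rw [Units.val_mul, ← Matrix.mulVec_mulVec, hsx, htx, qDisp, qDisp, hd.herm.add_left, hd.herm.smul_left, h21]
    module
  have he₁0 : emb F₀ P e₁ ≠ 0 := fun e => by
    have h1 : f (emb F₀ P e₁') (emb F₀ P e₁) = 1 := by rw [hd.form, he₁'₁]; rfl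
    rw [e, hd.herm.toSesq.zero_right] at h1
    exact zero_ne_one h1
  have h1' : f (emb F₀ P e₁') (emb F₀ P e₁) = 1 := by rw [hd.form, he₁'₁]; rfl
  have h2' : f (emb F₀ P e₂') (emb F₀ P e₂) = 1 := by rw [hd.form, he₂'₂]; rfl
  have h2'1 : f (emb F₀ P e₂') (emb F₀ P e₁) = 0 := by rw [hd.form, show f₀ e₂' e₁ = 0 from hl'0]; rfl
  have hfix : fixSp t = LinearMap.ker (hd.herm.toSesq.lin (emb F₀ P e₁)) := by
    ext x
    rw [mem_fixSp, htx, qDisp, add_eq_left, smul_eq_zero, mul_eq_zero, LinearMap.mem_ker, Sesq.lin_apply]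
    simp [hcF0, he₁0]
  have hfix' : fixSp (t * s) = LinearMap.ker (hd.herm.toSesq.lin (emb F₀ P e₁)) ⊓
      LinearMap.ker (hd.herm.toSesq.lin (emb F₀ P e₂)) := by
    ext x
    rw [mem_fixSp, hts, Submodule.mem_inf, LinearMap.mem_ker, LinearMap.mem_ker, Sesq.lin_apply, Sesq.lin_apply]
    constructor
    · intro h
      rw [add_assoc, add_eq_left] at h
      have e2 := congrArg (fun z => f z (emb F₀ P e₂')) h
      have e1 := congrArg (fun z => f z (emb F₀ P e₁')) h
      have h12' : f (emb F₀ P e₁) (emb F₀ P e₂') = 0 := hd.herm.refl _ _ h2'1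
      have h21' : f (emb F₀ P e₂) (emb F₀ P e₁') = 0 := by
        rw [hd.form, show f₀ e₂ e₁' = 0 from hl1]; rfl
      have h22' : f (emb F₀ P e₂) (emb F₀ P e₂') = 1 := by rw [hd.herm.herm, h2', map_one]
      have h11' : f (emb F₀ P e₁) (emb F₀ P e₁') = 1 := by rw [hd.herm.herm, h1', map_one]
      simp [hd.herm.add_left, hd.herm.smul_left, hd.herm.toSesq.zero_left, h12', h21', h22', h11', hcF0] at e1 e2
      exact ⟨e1, e2⟩
    · rintro ⟨e1, e2⟩; simp [e1, e2]
  refine ⟨t, t * s, htR, fun z hz => by rw [Units.val_mul, ← Matrix.mulVec_mulVec]; exact htR _ (hsR z hz),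
    htM, mul_mem htM hsM, ?_, ?_, ?_, ?_, ?_, ?_, ?_⟩
  · refine Units.ext (Matrix.ext_iff_mulVec.2 fun x => ?_)
    rw [Units.val_mul, ← Matrix.mulVec_mulVec, htx, htx, Units.val_one, Matrix.one_mulVec]
    simp only [qDisp, hd.herm.add_left, hd.herm.smul_left, h11]
    linear_combination (norm := module) htwo • (((c : F) * f x (emb F₀ P e₁)) • emb F₀ P e₁)
  · refine Units.ext (Matrix.ext_iff_mulVec.2 fun x => ?_)
    rw [Units.val_mul (t * s), ← Matrix.mulVec_mulVec, hts, hts, Units.val_one, Matrix.one_mulVec]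
    simp only [hd.herm.add_left, hd.herm.smul_left, h11, h12, h21, h22]
    linear_combination (norm := module) htwo • (((c : F) * f x (emb F₀ P e₁)) • emb F₀ P e₁ +
      ((c : F) * f x (emb F₀ P e₂)) • emb F₀ P e₂)
  · intro e
    have := htx (emb F₀ P e₁')
    rw [e, Units.val_one, Matrix.one_mulVec, qDisp, h1', mul_one, left_eq_add] at this
    exact smul_ne_zero hcF0 he₁0 this
  · intro e
    have := hts (emb F₀ P e₁')
    rw [e, Units.val_one, Matrix.one_mulVec] at this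
    have h1e2 : f (emb F₀ P e₁') (emb F₀ P e₂) = 0 := by
      rw [hd.form, show f₀ e₁' e₂ = 0 from hs.refl _ _ (hl1)]; rfl
    rw [h1', h1e2] at this
    simp at this
    exact smul_ne_zero hcF0 he₁0 (by simpa using this)
  · rw [hfix]; have := card_le_finrank_ker_add_one (hd.herm.toSesq.lin (emb F₀ P e₁)); omega
  · rw [hfix']
    have := card_le_finrank_ker_add_one (hd.herm.toSesq.lin (emb F₀ P e₁))
    have := finrank_le_inf_ker_add_one (LinearMap.ker (hd.herm.toSesq.lin (emb F₀ P e₁)))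
      (hd.herm.toSesq.lin (emb F₀ P e₂))
    omega
  · rw [hfix, hfix']
    refine Submodule.finrank_lt_finrank_of_lt (lt_of_le_of_ne inf_le_left fun e => ?_)
    have hmem : emb F₀ P e₂' ∈ LinearMap.ker (hd.herm.toSesq.lin (emb F₀ P e₁)) := LinearMap.mem_ker.2 h2'1
    rw [← e, Submodule.mem_inf, LinearMap.mem_ker, LinearMap.mem_ker] at hmem
    exact one_ne_zero (h2'.symm.trans hmem.2)

end HData

/-- Subfield subgroups are maximal in `SU`. -/
theorem unitary_subfield_maximal_of {F : Type*} [Field F] [Fintype F] {n q : ℕ} (hF : Fintype.card F = q ^ 2)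
    (hn : 4 ≤ n) (F₀ : Subfield F) (r : ℕ) (hr : r.Prime) (hro : Odd r) (hcard : Fintype.card F = Nat.card F₀ ^ r)
    (P : GL (Fin n) F) (hP : Geo.IsFormRationalStructure (hermForm n F q) F₀ 1 P) :
    Geo.IsMaximalIn (GU n F q ⊓ Geo.specialLinear (Fin n) F)
      (Geo.subfieldSubgroup F₀ P ⊓ (GU n F q ⊓ Geo.specialLinear (Fin n) F)) := by
  classical
  set σ := qEquiv hF with hσ
  set f := hermForm n F q with hf
  have hs : Herm σ f := herm_hermForm hF
  have hne : Nonempty (Fin n) := ⟨⟨0, by omega⟩⟩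
  have hσpow : ∀ x : F, σ x = x ^ q := fun x => rfl
  let σ₀ : F₀ ≃+* F₀ :=
    { toFun := fun x => ⟨σ x, by rw [hσpow]; exact pow_mem x.2 q⟩
      invFun := fun x => ⟨σ x, by rw [hσpow]; exact pow_mem x.2 q⟩
      left_inv := fun x => Subtype.ext (hs.invol x)
      right_inv := fun x => Subtype.ext (hs.invol x)
      map_mul' := fun x y => Subtype.ext (map_mul σ (x : F) y)
      map_add' := fun x y => Subtype.ext (map_add σ (x : F) y) }
  let f₀ : (Fin n → F₀) → (Fin n → F₀) → F₀ := fun u v => ⟨f (emb F₀ P u) (emb F₀ P v), by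
    have := hP _ _ (fun i => (u i).2) (fun i => (v i).2)
    rwa [one_mul] at this⟩
  have hσ₀ : σ₀ ≠ RingEquiv.refl F₀ := fun e => by
    -- `q = s ^ r` and `|F₀| = s ^ 2`
    obtain ⟨j, hj⟩ := hro
    set Q := Nat.card F₀ with hQ
    have hQ1 : 1 < Q := Finite.one_lt_card
    have hq2 : q ^ 2 = (Q ^ j) ^ 2 * Q := by rw [← hF, hcard, hj]; ring
    obtain ⟨s, hs'⟩ := (Nat.pow_dvd_pow_iff two_ne_zero).1 (Dvd.intro Q hq2.symm)
    have hsQ : s ^ 2 = Q := by
      rw [hs', mul_pow] at hq2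
      exact Nat.eq_of_mul_eq_mul_left (pow_pos (pow_pos (by omega) j) 2) hq2
    have hs1 : 1 < s := by
      by_contra hc
      have := Nat.pow_le_pow_left (show s ≤ 1 by omega) 2
      omega
    have hfix : ∀ x : F₀, x ^ s = x := fun x => by
      have h1 : (x : F) ^ q = x := congrArg Subtype.val (RingEquiv.congr_fun e x)
      have h2 : x ^ (Q ^ j) = x := by
        rw [hQ, Nat.card_eq_fintype_card, FiniteField.pow_card_pow]
      refine Subtype.ext ?_
      rw [SubmonoidClass.coe_pow]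
      rw [hs', pow_mul, ← SubmonoidClass.coe_pow x (Q ^ j), h2] at h1
      exact h1
    have hsub : (Finset.univ : Finset F₀) ⊆ (Polynomial.X ^ s - Polynomial.X : Polynomial F₀).roots.toFinset :=
      fun x _ => by
        simp only [Multiset.mem_toFinset, Polynomial.mem_roots (FiniteField.X_pow_card_sub_X_ne_zero F₀ hs1),
          Polynomial.IsRoot, Polynomial.eval_sub, Polynomial.eval_pow, Polynomial.eval_X, hfix, sub_self]
    have h4 := ((Finset.card_le_card hsub).trans (Multiset.toFinset_card_le _)).trans (Polynomial.card_roots' _)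
    rw [FiniteField.X_pow_card_sub_X_natDegree_eq F₀ hs1, Finset.card_univ, ← Nat.card_eq_fintype_card, ← hQ,
      ← hsQ] at h4
    have : s * 2 ≤ s ^ 2 := by rw [sq]; exact Nat.mul_le_mul_left s hs1
    omega
  have hform : ∀ u v, f (emb F₀ P u) (emb F₀ P v) = (f₀ u v : F) := fun _ _ => rfl
  have hs₀ : Herm σ₀ f₀ := {
    add_left := fun x y v => Subtype.ext (by
      show f _ _ = f _ _ + f _ _
      rw [emb_add, hs.add_left])
    smul_left := fun c x v => Subtype.ext (by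
      show f _ _ = (c : F) * f _ _
      rw [emb_smul, hs.smul_left])
    add_right := fun v x y => Subtype.ext (by
      show f _ _ = f _ _ + f _ _
      rw [emb_add, hs.add_right])
    smul_right := fun c v x => Subtype.ext (by
      show f _ _ = σ (c : F) * f _ _
      rw [emb_smul, hs.smul_right])
    eq_zero := fun w hw => emb_injective (P := P) (by
      rw [emb_zero]
      refine hs.eq_zero _ fun x => ?_
      show hs.toSesq.lin _ x = 0
      rw [eq_sum_emb P F₀ x, map_sum]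
      refine Finset.sum_eq_zero fun i _ => ?_
      rw [map_smul, Sesq.lin_apply, hform, hw, ZeroMemClass.coe_zero, smul_zero])
    refl := fun v w h => Subtype.ext (hs.refl _ _ (congrArg Subtype.val h))
    invol := fun a => Subtype.ext (hs.invol a)
    ne_refl := hσ₀
    herm := fun v w => Subtype.ext (hs.herm _ _) }
  have hHmem : ∀ T : GL (Fin n) F, RatMap F₀ P T →
      T ∈ GU n F q ⊓ Geo.specialLinear (Fin n) F →
      T ∈ Geo.subfieldSubgroup F₀ P ⊓ (GU n F q ⊓ Geo.specialLinear (Fin n) F) := fun T hT hTK =>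
    ⟨mem_subfieldSubgroup_of one_ne_zero fun x hx => by rw [one_smul]; exact hT x hx, hTK⟩
  have hmk : ∀ M : Subgroup (GL (Fin n) F),
      Geo.subfieldSubgroup F₀ P ⊓ (GU n F q ⊓ Geo.specialLinear (Fin n) F) ≤ M →
      M ≤ GU n F q ⊓ Geo.specialLinear (Fin n) F → HData σ f σ₀ f₀ P M := fun M hHM hMK =>
    { herm := hs
      herm₀ := hs₀
      sigma := fun _ => rfl
      form := hform
      dim := by rw [Fintype.card_fin]; omega
      iso := fun T hT => mem_GU.1 (hMK hT).1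
      tv := fun u hu c hc => by
        obtain ⟨t, ht, htx⟩ := exists_gu_tv hF (v := emb F₀ P u) (show f _ _ = 0 by rw [hform, hu]; rfl)
          (show (c : F) + σ (c : F) = 0 from congrArg Subtype.val hc)
        refine ⟨t, hHM (hHmem t (fun z hz => ?_) ht), htx⟩
        obtain ⟨a, rfl⟩ := exists_emb hz
        rw [htx]
        exact (rat_emb a).add ((rat_emb u).smul (mul_mem c.2 (f₀ a u).2)) }
  refine isMaximalIn_intro inf_le_right (fun hle => ?_) fun M hHM hMK g hgM hgH => ?_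
  · have hd := hmk _ inf_le_right le_rfl
    obtain ⟨e, e', -, -, he, -, he'e, -⟩ := hd.exists_hyp_perp (κ := Fin 0) Fin.elim0 (by simp; have := hd.dim; omega)
    obtain ⟨c₀, hc0, -, hc₀F⟩ := hd.exists_skew₀
    obtain ⟨z, hz⟩ := hs₀.exists_trace
    obtain ⟨c, hc, hcn⟩ : ∃ c : F, c + σ c = 0 ∧ c ∉ F₀ := by
      by_contra hcon
      push Not at hcon
      have hfix : ∀ a : F, σ a = a → a ∈ F₀ := fun a ha => by
        have h1 := hcon (a * (c₀ : F)) (by rw [map_mul, ha]; linear_combination a * hc₀F)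
        have := div_mem h1 c₀.2
        rwa [mul_div_cancel_right₀ _ (fun e => hc0 (Subtype.ext e))] at this
      have hall : ∀ x : F, x ∈ F₀ := fun x => by
        have hz' : (z : F) + σ (z : F) ≠ 0 := fun e => hz (Subtype.ext e)
        set α := (x + σ x) / ((z : F) + σ (z : F))
        have hα : σ α = α := by rw [map_div₀, map_add, map_add, hs.invol, hs.invol, add_comm, add_comm (σ (z : F))]
        have h2 : α * ((z : F) + σ (z : F)) = x + σ x := div_mul_cancel₀ _ hz'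
        have h3 := hcon (x - α * (z : F)) (by rw [map_sub, map_mul, hα]; linear_combination -h2)
        have := add_mem h3 (mul_mem (hfix α hα) z.2)
        rwa [sub_add_cancel] at this
      have h1 : Nat.card F₀ = Fintype.card F := by
        rw [← Nat.card_eq_fintype_card]
        exact Nat.card_congr ⟨Subtype.val, fun x => ⟨x, hall x⟩, fun _ => rfl, fun _ => rfl⟩
      rw [h1] at hcard
      have := Nat.pow_lt_pow_right (Fintype.one_lt_card (α := F)) hr.one_lt
      rw [pow_one, ← hcard] at this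
      omega
    have hee : f (emb F₀ P e) (emb F₀ P e) = 0 := by rw [hform, he]; rfl
    obtain ⟨t, ht, htx⟩ := exists_gu_tv hF (v := emb F₀ P e) hee hc
    simp only [← hf] at htx
    obtain ⟨a, ha, h⟩ := exists_of_mem_subfieldSubgroup (hle ht).1
    have h1 := h _ (rat_emb e)
    rw [htx, hee, mul_zero, zero_smul, add_zero] at h1
    obtain ⟨w, hw⟩ := exists_emb h1
    have hfe : f (emb F₀ P e) (emb F₀ P e') = 1 := by
      rw [hs.herm, hform, he'e]; exact map_one σ
    have haF : a ∈ F₀ := by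
      have h2 : f (emb F₀ P w) (emb F₀ P e') = a := by rw [hw, hs.smul_left, hfe, mul_one]
      rw [← h2, hform]; exact (f₀ w e').2
    have h2 := (h _ (rat_emb e')).smul (inv_mem haF)
    rw [smul_smul, inv_mul_cancel₀ ha, one_smul, htx, hform e' e, he'e] at h2
    obtain ⟨w', hw'⟩ := exists_emb (h2.sub (rat_emb e'))
    rw [OneMemClass.coe_one, mul_one, add_sub_cancel_left] at hw'
    refine hcn ?_
    have h3 : f (emb F₀ P w') (emb F₀ P e') = c := by rw [hw', hs.smul_left, hfe, mul_one]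
    rw [← h3, hform]; exact (f₀ w' e').2
  have hd := hmk M hHM hMK
  have hdet : ∀ T ∈ M, T ∈ Geo.specialLinear (Fin n) F := fun T hT => (hMK hT).2
  have hg' : g ∉ Geo.subfieldSubgroup F₀ P := fun h => hgH ⟨h, hMK hgM⟩
  have hcard' : Nat.card F = Nat.card F₀ ^ r := by rw [Nat.card_eq_fintype_card, hcard]
  by_cases h2 : (2 : F) ≠ 0
  · obtain ⟨x, hx, hxl⟩ : ∃ x, f₀ x x = 0 ∧ ¬ RatLine F₀ P ((g : Matrix (Fin n) (Fin n) F) *ᵥ emb F₀ P x) := by
      by_contra hc
      push Not at hc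
      exact hg' (hd.mem_subfield_of_iso_lines (hd.iso g hgM) hc)
    refine LinFour.guSL_le_three hF (by omega) (by omega) fun v hv c hc => hd.all_tv (hd.S_of_point_odd hr hcard' h2 ?_ ?_ hxl) hv c hc
    · rw [hd.iso g hgM, hform, hx]; rfl
    · exact fun c hc => hd.conj_Q hgM (hd.tv x hx c hc)
  rw [not_not] at h2
  obtain ⟨t, t', htR, ht'R, htM, ht'M, htt, ht't', ht1, ht'1, hft, hft', hlt⟩ := hd.exists_invols h2
  have hcn : Fintype.card (Fin n) = n := Fintype.card_fin n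
  set u := g * t * g⁻¹ with hu
  have huM : u ∈ M := mul_mem (mul_mem hgM htM) (inv_mem hgM)
  have hnc : ∀ k : GL (Fin n) F, k * t' * k⁻¹ ≠ u := fun k e => by
    have h1 := finrank_fixSp_conj k t'
    rw [e, hu, finrank_fixSp_conj] at h1
    omega
  obtain ⟨⟨k, hk⟩⟩ | ⟨z, hz, hzz, hz1, hzt', hzu⟩ := conj_or_central ht't'
    (show u * u = 1 by rw [hu, conj_mul, htt, mul_one, mul_inv_cancel]) (fun e => hnc 1 (by simpa using e))
  · exact absurd hk (hnc k)
  have hzM : z ∈ M := (Subgroup.zpowers_le.2 (mul_mem ht'M huM)) hz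
  have hfz : Fintype.card (Fin n) ≤ finrank F (fixSp z) + 3 := by
    have h1 := Submodule.finrank_mono (inf_fixSp_le_of_mem_zpowers hz)
    have h2 := Submodule.finrank_sup_add_finrank_inf_eq (fixSp t') (fixSp u)
    have h3 := Submodule.finrank_le (fixSp t' ⊔ fixSp u)
    rw [Module.finrank_pi] at h3
    have h4 := finrank_fixSp_conj g t
    rw [← hu] at h4
    omega
  have hS : ∀ (k : F) a b, f₀ a a = 0 → f₀ b b = 0 → f₀ a b = 0 →
      InN M (sDisp f (emb F₀ P a) (k • emb F₀ P b)) := by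
    by_cases hzH : z ∈ Geo.subfieldSubgroup F₀ P
    · set z' := g⁻¹ * z * g with hz'
      have hz'M : z' ∈ M := mul_mem (mul_mem (inv_mem hgM) hzM) hgM
      have hz't : z' * t = t * z' := by
        have e : z' * t = g⁻¹ * (z * u) * g := by rw [hz', hu]; group
        rw [e, hzu, hz', hu]; group
      have hfz' : finrank F (fixSp z') = finrank F (fixSp z) := by
        have := finrank_fixSp_conj g⁻¹ z
        rwa [inv_inv] at this
      by_cases hz'H : z' ∈ Geo.subfieldSubgroup F₀ P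
      · have hz'z : z' * z' = 1 := by
          calc z' * z' = g⁻¹ * (z * z) * g := by rw [hz']; group
            _ = 1 := by rw [hzz]; group
        exact hd.S_of_intertwine hr hcard' hdet hgM hg' (ratMap_of_involution_two h2 hz'H hz'z) h2 hz'z hz'M
          (ratMap_of_involution_two h2 hzH hzz) hzM hz1 (by rw [hz']; group)
      · exact hd.S_of_intertwine hr hcard' hdet hz'M hz'H htR h2 htt htM htR htM ht1 hz't
    · exact hd.S_of_intertwine hr hcard' hdet hzM hzH ht'R h2 ht't' ht'M ht'R ht'M ht'1 hzt'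
  refine LinFour.guSL_le_three hF (by omega) (by omega) fun v hv c hc => ?_
  exact hd.all_tv hS hv c hc

/-- The case of degree at least six. -/
theorem unitary_subfield_maximal_six {F : Type*} [Field F] [Fintype F] {n q : ℕ} (hF : Fintype.card F = q ^ 2)
    (hn : 6 ≤ n) (F₀ : Subfield F) (r : ℕ) (hr : r.Prime) (hro : Odd r) (hcard : Fintype.card F = Nat.card F₀ ^ r)
    (P : GL (Fin n) F) (hP : Geo.IsFormRationalStructure (hermForm n F q) F₀ 1 P) :
    Geo.IsMaximalIn (GU n F q ⊓ Geo.specialLinear (Fin n) F)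
      (Geo.subfieldSubgroup F₀ P ⊓ (GU n F q ⊓ Geo.specialLinear (Fin n) F)) :=
  unitary_subfield_maximal_of hF (by omega) F₀ r hr hro hcard P hP

/-- The case of degree ten or at least twelve. -/
theorem unitary_subfield_maximal_ten {F : Type*} [Field F] [Fintype F] {n q : ℕ} (hF : Fintype.card F = q ^ 2)
    (hn : n = 10 ∨ 12 ≤ n) (F₀ : Subfield F) (r : ℕ) (hr : r.Prime) (hro : Odd r) (hcard : Fintype.card F = Nat.card F₀ ^ r)
    (P : GL (Fin n) F) (hP : Geo.IsFormRationalStructure (hermForm n F q) F₀ 1 P) :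
    Geo.IsMaximalIn (GU n F q ⊓ Geo.specialLinear (Fin n) F)
      (Geo.subfieldSubgroup F₀ P ⊓ (GU n F q ⊓ Geo.specialLinear (Fin n) F)) :=
  unitary_subfield_maximal_six hF (by omega) F₀ r hr hro hcard P hP

/-- The case of degree at least twelve. -/
theorem unitary_subfield_maximal {F : Type*} [Field F] [Fintype F] {n q : ℕ} (hF : Fintype.card F = q ^ 2)
    (hn : 12 ≤ n) (F₀ : Subfield F) (r : ℕ) (hr : r.Prime) (hro : Odd r) (hcard : Fintype.card F = Nat.card F₀ ^ r)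
    (P : GL (Fin n) F) (hP : Geo.IsFormRationalStructure (hermForm n F q) F₀ 1 P) :
    Geo.IsMaximalIn (GU n F q ⊓ Geo.specialLinear (Fin n) F)
      (Geo.subfieldSubgroup F₀ P ⊓ (GU n F q ⊓ Geo.specialLinear (Fin n) F)) :=
  unitary_subfield_maximal_ten hF (Or.inr hn) F₀ r hr hro hcard P hP

end Cfsg.Agent.Classical.MaxTv
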