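import Cfsg.Agent.Lib.Classical.LinFour.UnitGen
import Cfsg.Agent.Lib.Classical.MaxUnitary
import Cfsg.Agent.Lib.Classical.MaxSympSubspace

/-!
Stabilisers of subspaces are maximal in special unitary groups.
-/

set_option autoImplicit false
set_option linter.unusedSectionVars false

namespace Cfsg.Agent.Classical.MaxTv

open Matrix Module

variable {F : Type*} [Field F] {ι : Type} [Fintype ι] [DecidableEq ι]

local notation "V" => (ι → F)
local notation "Mn" => Matrix ι ι F

variable {σ : F ≃+* F} {f : (ι → F) → (ι → F) → F}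

/-- Non-degenerate for a reflexive form. -/
def NdS (f : (ι → F) → (ι → F) → F) (T : Submodule F (ι → F)) : Prop := ∀ w ∈ T, w ≠ 0 → ∃ x ∈ T, f x w ≠ 0

namespace Herm

variable (hs : Herm σ f)
include hs

theorem exists_two_in {T : Submodule F V} (hT : NdS f T) {u w : V} (hu : u ∈ T) (hw : w ∈ T) (hu0 : u ≠ 0)
    (hind : ∀ k : F, w ≠ k • u) (a b : F) : ∃ x ∈ T, f x u = a ∧ f x w = b := by
  obtain ⟨x₁, hx₁, h1⟩ := hT u hu hu0
  set x₁' := (f x₁ u)⁻¹ • x₁ with hx₁'
  have h1' : f x₁' u = 1 := by rw [hx₁', hs.smul_left, inv_mul_cancel₀ h1]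
  obtain ⟨x₂, hx₂, h2⟩ : ∃ x ∈ T, f x (w - σ (f x₁' w) • u) ≠ 0 :=
    hT _ (sub_mem hw (T.smul_mem _ hu)) (sub_ne_zero.2 (hind _))
  rw [hs.toSesq.sub_right, hs.smul_right, hs.invol] at h2
  set z := x₂ - f x₂ u • x₁' with hz
  have hzT : z ∈ T := sub_mem hx₂ (T.smul_mem _ (T.smul_mem _ hx₁))
  have hzu : f z u = 0 := by rw [hz, hs.toSesq.sub_left, hs.smul_left, h1', mul_one, sub_self]
  have hzw : f z w ≠ 0 := by
    rw [hz, hs.toSesq.sub_left, hs.smul_left, mul_comm]; exact h2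
  have hx₁T : x₁' ∈ T := T.smul_mem _ hx₁
  clear_value x₁' z
  refine ⟨a • x₁' + ((b - a * f x₁' w) / f z w) • z, add_mem (T.smul_mem _ hx₁T) (T.smul_mem _ hzT),
    ?_, ?_⟩
  · rw [hs.add_left, hs.smul_left, hs.smul_left, h1', hzu]; ring
  · rw [hs.add_left, hs.smul_left, hs.smul_left, div_mul_cancel₀ _ hzw]; ring

set_option maxHeartbeats 1000000 in
/-- A subspace of isotropic vectors of a non-degenerate space has at most half its dimension. -/
theorem finrank_le_of_iso_in [Finite F] {T S : Submodule F V} (hT : NdS f T) (hST : S ≤ T)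
    (h : ∀ v ∈ S, f v v = 0) : 2 * finrank F S ≤ finrank F T := by
  have h2 := hs.perp_of_iso h
  let S' : Submodule F T := S.comap T.subtype
  have e : finrank F S' = finrank F S := (Submodule.comapSubtypeEquivOfLe hST).finrank_eq
  let φ : S' → S'.dualAnnihilator := fun t =>
    ⟨(hs.toSesq.lin ((t : T) : V)).comp T.subtype, (Submodule.mem_dualAnnihilator _).2 fun x hx => h2 _ hx _ t.2⟩
  have hinj : Function.Injective φ := fun a b e => by
    refine Subtype.ext (Subtype.ext (sub_eq_zero.1 ?_))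
    by_contra hne
    obtain ⟨x, hx, hne'⟩ := hT _ (sub_mem (a : T).2 (b : T).2) hne
    refine hne' ?_
    have h3 : f x ((a : T) : V) = f x ((b : T) : V) :=
      LinearMap.congr_fun (congrArg Subtype.val e) ⟨x, hx⟩
    rw [hs.toSesq.sub_right, h3, sub_self]
  have : Finite (Module.Dual F T) := Module.finite_of_finite F
  have h3 := Nat.card_le_card_of_injective φ hinj
  have e1 : Nat.card S' = Nat.card F ^ finrank F S' :=
    @Module.natCard_eq_pow_finrank F S' _ (Submodule.addCommGroup S') _ _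
  have e2 : Nat.card S'.dualAnnihilator = Nat.card F ^ finrank F S'.dualAnnihilator :=
    @Module.natCard_eq_pow_finrank F S'.dualAnnihilator _ (Submodule.addCommGroup S'.dualAnnihilator) _ _
  rw [e1, e2] at h3
  have h4 := (Nat.pow_le_pow_iff_right Finite.one_lt_card).1 h3
  have h5 := Subspace.finrank_add_finrank_dualAnnihilator_eq S'
  omega

theorem exists_norm_in_big [Finite F] {T S : Submodule F V} (hT : NdS f T) (hST : S ≤ T)
    (hS : finrank F T < 2 * finrank F S) {t : F} (ht : σ t = t) : ∃ y ∈ S, f y y = t := by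
  obtain ⟨y, hy, hyy⟩ : ∃ y ∈ S, f y y ≠ 0 := by
    by_contra hc
    push Not at hc
    have := hs.finrank_le_of_iso_in hT hST hc
    omega
  obtain ⟨c, hc⟩ := hs.exists_norm (t := t / f y y) (by rw [map_div₀, ht, hs.self_fixed])
  refine ⟨c • y, S.smul_mem c hy, ?_⟩
  rw [hs.smul_left, hs.smul_right, ← mul_assoc, hc, div_mul_cancel₀ _ hyy]

/-- In a non-degenerate space of dimension at least two some isotropic vector is not orthogonal to a given one. -/
theorem exists_iso_left_nd [Finite F] {T : Submodule F V} (hT : NdS f T) (h2 : 2 ≤ finrank F T) {u : V}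
    (hu : u ∈ T) (hu0 : u ≠ 0) : ∃ a ∈ T, f a a = 0 ∧ f a u ≠ 0 := by
  by_cases huu : f u u = 0
  · obtain ⟨x, hx, hxu⟩ := hT u hu hu0
    set x' := (f x u)⁻¹ • x with hx'
    have hx'u : f x' u = 1 := by rw [hx', hs.smul_left, inv_mul_cancel₀ hxu]
    have hx'T : x' ∈ T := T.smul_mem _ hx
    obtain ⟨d, hd⟩ := hs.exists_trace_eq (a := -f x' x') (by rw [map_neg, hs.self_fixed])
    have hux' : f u x' = 1 := by rw [hs.herm, hx'u, map_one]
    clear_value x'
    refine ⟨x' + d • u, add_mem hx'T (T.smul_mem _ hu), ?_,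
      by rw [hs.add_left, hs.smul_left, hx'u, huu, mul_zero, add_zero]; exact one_ne_zero⟩
    rw [hs.add_left, hs.add_right, hs.add_right, hs.smul_left, hs.smul_left, hs.smul_right, hs.smul_right, hx'u,
      huu, hux']
    linear_combination hd
  obtain ⟨y, ⟨hy, hyu⟩, hyy⟩ := hs.exists_aniso_of_nd (hs.nd_inf_ker hT hu huu) (fun e => by
    have := finrank_le_inf_ker_add_one T (hs.toSesq.lin u)
    rw [e, finrank_bot] at this; omega)
  have hyu' : f y u = 0 := LinearMap.mem_ker.1 hyu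
  obtain ⟨c, hc⟩ := hs.exists_norm (t := -(f y y) / f u u) (by rw [map_div₀, map_neg, hs.self_fixed, hs.self_fixed])
  have hc0 : c ≠ 0 := fun e => by
    rw [e, zero_mul, eq_comm, div_eq_zero_iff, neg_eq_zero] at hc
    exact hc.elim hyy huu
  refine ⟨c • u + y, add_mem (T.smul_mem _ hu) hy, ?_, by
    rw [hs.add_left, hs.smul_left, hyu', add_zero]; exact mul_ne_zero hc0 huu⟩
  rw [hs.add_left, hs.add_right, hs.add_right, hs.smul_left, hs.smul_left, hs.smul_right, hs.smul_right,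
    hs.refl _ _ hyu', hyu', ← mul_assoc, hc, div_mul_cancel₀ _ huu]
  ring

/-- Functionals on a non-degenerate subspace are represented inside it. -/
theorem exists_rep [Finite F] {T : Submodule F V} (hT : NdS f T) (φ : V →ₗ[F] F) :
    ∃ z ∈ T, ∀ y ∈ T, f y z = φ y := by
  let L : T → (T →ₗ[F] F) := fun z => (hs.toSesq.lin (z : V)).comp T.subtype
  have hinj : Function.Injective L := fun a b e => Subtype.ext (sub_eq_zero.1 (by
    by_contra hne
    obtain ⟨y, hy, hne'⟩ := hT _ (sub_mem a.2 b.2) hne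
    refine hne' ?_
    have : f y (a : V) = f y (b : V) := LinearMap.congr_fun e ⟨y, hy⟩
    rw [hs.toSesq.sub_right, this, sub_self]))
  have : Finite (T →ₗ[F] F) := Module.finite_of_finite F
  have e1 : Nat.card T = Nat.card F ^ finrank F T := Module.natCard_eq_pow_finrank
  have e2 : Nat.card (T →ₗ[F] F) = Nat.card F ^ finrank F (Module.Dual F T) := Module.natCard_eq_pow_finrank (K := F)
  rw [Subspace.dual_finrank_eq] at e2
  obtain ⟨z, hz⟩ := ((Nat.bijective_iff_injective_and_card _).2 ⟨hinj, e1.trans e2.symm⟩).2 (φ.comp T.subtype)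
  exact ⟨z, z.2, fun y hy => LinearMap.congr_fun hz ⟨y, hy⟩⟩

theorem le_span_iso_nd [Finite F] {T : Submodule F V} (hT : NdS f T) (h2 : 2 ≤ finrank F T) :
    T ≤ Submodule.span F {a : V | a ∈ T ∧ f a a = 0} := by
  set S := Submodule.span F {a : V | a ∈ T ∧ f a a = 0} with hS
  have hST : S ≤ T := Submodule.span_le.2 fun a ha => ha.1
  intro x hx
  by_contra hxS
  obtain ⟨φ, hφx, hφ⟩ := Submodule.exists_le_ker_of_notMem hxS
  obtain ⟨z, hzT, hfz⟩ := hs.exists_rep hT φ
  have hz0 : z ≠ 0 := fun e => hφx (by rw [← hfz x hx, e, hs.toSesq.zero_right])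
  obtain ⟨a, ha, haa, haz⟩ := hs.exists_iso_left_nd hT h2 hzT hz0
  exact haz ((hfz a ha).trans (hφ (Submodule.subset_span ⟨ha, haa⟩)))

variable {M : Subgroup (GL ι F)}

/-- Move a vector inside a large non-degenerate subspace by transvections. -/
theorem move_in [Finite F] {T : Submodule F V} (hT : NdS f T) (h6 : 4 ≤ finrank F T)
    (hQ : ∀ w ∈ T, f w w = 0 → UPt σ f M w) {r y y' : V} (hr : ∀ z ∈ T, f r z = 0) (hy : y ∈ T) (hy' : y' ∈ T)
    (hy0 : y ≠ 0) (hy'0 : y' ≠ 0) (hyy : f y y = f y' y') (h : UPt σ f M (r + y)) : UPt σ f M (r + y') := by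
  set n := f y y with hn
  obtain ⟨τ, hτ0, hτ⟩ := hs.exists_skew
  have hedge : ∀ a b, a ∈ T → b ∈ T → f a a = n → f b b = n → f a b = n + τ → UPt σ f M (r + a) →
      UPt σ f M (r + b) := fun a b ha hb hna hnb hab h => by
    have hd : f (b - a) (b - a) = 0 := by
      rw [hs.toSesq.sub_left, hs.toSesq.sub_right, hs.toSesq.sub_right, hna, hnb, hs.herm b a, hab, map_add]
      have : σ n = n := hn ▸ hs.self_fixed y
      rw [this]
      linear_combination -hτ
    have hab' : f a (b - a) = τ := by rw [hs.toSesq.sub_right, hna, hab, add_sub_cancel_left]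
    have := h.add_smul hs (hQ _ (sub_mem hb ha) hd) hd (c := τ⁻¹) (by
      rw [map_inv₀, show σ τ = -τ by linear_combination hτ, inv_neg, add_neg_cancel])
    rwa [hs.add_left, hr _ (sub_mem hb ha), zero_add, hab', inv_mul_cancel₀ hτ0, one_smul,
      show r + a + (b - a) = r + b by abel] at this
  -- common neighbour of independent vectors
  have hind : ∀ a b, a ∈ T → b ∈ T → a ≠ 0 → (∀ k : F, b ≠ k • a) → f a a = n → f b b = n →
      UPt σ f M (r + a) → UPt σ f M (r + b) := fun a b ha hb ha0 hab hna hnb h => by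
    obtain ⟨x, hx, hxa, hxb⟩ := hs.exists_two_in hT ha hb ha0 hab (σ (n + τ)) (n + τ)
    have h1 := finrank_le_inf_ker_add_one T (hs.toSesq.lin a)
    have h2 := finrank_le_inf_ker_add_one (T ⊓ LinearMap.ker (hs.toSesq.lin a)) (hs.toSesq.lin b)
    obtain ⟨S', hS'⟩ : ∃ S', S' = T ⊓ LinearMap.ker (hs.toSesq.lin a) ⊓ LinearMap.ker (hs.toSesq.lin b) := ⟨_, rfl⟩
    rw [← hS'] at h2
    have hS'mem : ∀ {e}, e ∈ S' → e ∈ T ∧ f e a = 0 ∧ f e b = 0 := fun {e} h => by
      rw [hS'] at h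
      exact ⟨h.1.1, LinearMap.mem_ker.1 h.1.2, LinearMap.mem_ker.1 h.2⟩
    obtain ⟨e, he, hea', heb', hm⟩ : ∃ e ∈ T, f e a = 0 ∧ f e b = 0 ∧ f (x + e) (x + e) = n := by
      by_cases hcase : ∃ e₀ ∈ S', f e₀ e₀ ≠ 0
      · obtain ⟨e₁, he₁S, he₁⟩ := hcase
        obtain ⟨c, hc⟩ := hs.exists_norm (t := 1 / f e₁ e₁) (by rw [map_div₀, map_one, hs.self_fixed])
        obtain ⟨e₀, he₀'⟩ : ∃ e₀, e₀ = c • e₁ := ⟨_, rfl⟩
        obtain ⟨he₀, he₀a, he₀b⟩ := hS'mem (show e₀ ∈ S' from he₀' ▸ S'.smul_mem c he₁S)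
        have hee : f e₀ e₀ = 1 := by
          rw [he₀', hs.smul_left, hs.smul_right, ← mul_assoc, hc, div_mul_cancel₀ _ he₁]
        obtain ⟨w, hw⟩ := hs.exists_norm (t := n - f x x + f x e₀ * σ (f x e₀)) (by
          rw [map_add, map_sub, hs.self_fixed, hn, hs.self_fixed, map_mul, hs.invol, mul_comm (σ (f x e₀))])
        obtain ⟨k, hk⟩ : ∃ k, k = w - f x e₀ := ⟨_, rfl⟩
        refine ⟨k • e₀, T.smul_mem k he₀, by rw [hs.smul_left, he₀a, mul_zero],
          by rw [hs.smul_left, he₀b, mul_zero], ?_⟩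
        rw [hs.add_left, hs.add_right, hs.add_right, hs.smul_left, hs.smul_left, hs.smul_right, hs.smul_right,
          hee, hs.herm e₀ x, hk, map_sub]
        linear_combination hw
      push Not at hcase
      -- a totally isotropic pair
      have hn0 : n = 0 := by
        by_contra hn0
        have hlt : finrank F (T ⊓ LinearMap.ker (hs.toSesq.lin a) : Submodule F V) < finrank F T :=
          Submodule.finrank_lt_finrank_of_lt (lt_of_le_of_ne inf_le_left fun e0 => hn0 (by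
            rw [← hna]; exact LinearMap.mem_ker.1 (e0.symm ▸ ha).2))
        have := hs.finrank_le_of_iso_in (hs.nd_inf_ker hT ha (by rwa [hna])) (S := S')
          (hS' ▸ inf_le_left) hcase
        omega
      have haS : a ∈ S' := by
        by_contra haS
        have hlt : finrank F S' < finrank F (S' ⊔ (F ∙ a) : Submodule F V) :=
          Submodule.finrank_lt_finrank_of_lt (lt_of_le_of_ne le_sup_left fun e0 =>
            haS (e0 ▸ Submodule.mem_sup_right (Submodule.mem_span_singleton_self a)))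
        have := hs.finrank_le_of_iso_in hT (S := S' ⊔ (F ∙ a))
          (sup_le (fun e h => (hS'mem h).1) (by simpa using ha)) fun v hv => by
            obtain ⟨s, hs', l, hl, rfl⟩ := Submodule.mem_sup.1 hv
            obtain ⟨m, rfl⟩ := Submodule.mem_span_singleton.1 hl
            rw [hs.add_left, hs.add_right, hs.add_right, hs.smul_left, hs.smul_left, hs.smul_right, hs.smul_right,
              hcase s hs', (hS'mem hs').2.1, hs.refl _ _ (hS'mem hs').2.1, hna, hn0]
            ring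
        omega
      obtain ⟨d, hd⟩ := hs.exists_trace_eq (a := n - f x x) (by rw [map_sub, hs.self_fixed, hn, hs.self_fixed])
      refine ⟨(d / τ) • a, T.smul_mem _ ha, by rw [hs.smul_left, (hS'mem haS).2.1, mul_zero],
        by rw [hs.smul_left, (hS'mem haS).2.2, mul_zero], ?_⟩
      have hax : f a x = τ := by rw [hs.herm, hxa, hs.invol, hn0, zero_add]
      rw [hs.add_left, hs.add_right, hs.add_right, hs.smul_left, hs.smul_left, hs.smul_right, hs.smul_right,
        hna, hax, hxa, hn0, zero_add, mul_zero, mul_zero, add_zero, ← map_mul, div_mul_cancel₀ _ hτ0]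
      linear_combination hd + hn0
    refine hedge (x + e) b (add_mem hx he) hb hm hnb (by rw [hs.add_left, hxb, heb', add_zero]) ?_
    refine hedge a (x + e) ha (add_mem hx he) hna hm ?_ h
    rw [hs.add_right, hs.refl _ _ hea', add_zero, hs.herm, hxa, hs.invol]
  by_cases hd : ∃ k : F, y' = k • y
  · obtain ⟨k, rfl⟩ := hd
    obtain ⟨z, ⟨hz, hzy⟩, hzn⟩ : ∃ z ∈ T ⊓ LinearMap.ker (hs.toSesq.lin y), z ∉ (F ∙ y) := by
      by_contra hc
      push Not at hc
      have := Submodule.finrank_mono (show T ⊓ LinearMap.ker (hs.toSesq.lin y) ≤ F ∙ y from hc)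
      rw [finrank_span_singleton hy0] at this
      have := finrank_le_inf_ker_add_one T (hs.toSesq.lin y)
      omega
    have hzy' : f y z = 0 := hs.refl _ _ (LinearMap.mem_ker.1 hzy)
    obtain ⟨x, hx, -, hxz⟩ := hs.exists_two_in hT hy hz hy0
      (fun l e => hzn (Submodule.mem_span_singleton.2 ⟨l, e.symm⟩)) 0 1
    have h2 := finrank_le_inf_ker_add_one T (hs.toSesq.lin z)
    obtain ⟨e₀, ⟨he₀, he₀z⟩, hee⟩ := hs.exists_norm_in_big (T := T)
      (S := T ⊓ LinearMap.ker (hs.toSesq.lin z)) hT inf_le_left (by omega) (t := 1) (map_one σ)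
    obtain ⟨w, hw⟩ := hs.exists_norm (t := n - f x x + f x e₀ * σ (f x e₀)) (by
      rw [map_add, map_sub, hs.self_fixed, hn, hs.self_fixed, map_mul, hs.invol, mul_comm (σ (f x e₀))])
    obtain ⟨c, hc⟩ : ∃ c, c = w - f x e₀ := ⟨_, rfl⟩
    obtain ⟨e, he'⟩ : ∃ e, e = c • e₀ := ⟨_, rfl⟩
    have he : e ∈ T := he' ▸ T.smul_mem c he₀
    have hez : f e z = 0 := by rw [he', hs.smul_left, show f e₀ z = 0 from LinearMap.mem_ker.1 he₀z, mul_zero]
    have hm : f (x + e) (x + e) = n := by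
      rw [he', hs.add_left, hs.add_right, hs.add_right, hs.smul_left, hs.smul_left, hs.smul_right, hs.smul_right,
        hee, hs.herm e₀ x, hc, map_sub]
      linear_combination hw
    have hdep : ∀ l : F, x + e ≠ l • y := fun l hl => by
      have h4 := congrArg (fun v => f v z) hl
      simp only [hs.add_left, hs.smul_left, hxz, hez, hzy', mul_zero,
        add_zero] at h4
      exact one_ne_zero h4
    have hne : x + e ≠ 0 := fun e0 => hdep 0 (by rw [e0, zero_smul])
    exact hind (x + e) (k • y) (add_mem hx he) hy' hne (fun l hl => hdep (l⁻¹ * k) (by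
      have hl0 : l ≠ 0 := fun e0 => hy'0 (by rw [hl, e0, zero_smul])
      rw [mul_smul, hl, smul_smul, inv_mul_cancel₀ hl0, one_smul])) hm hyy.symm
      (hind y (x + e) hy (add_mem hx he) hy0 hdep hn.symm hm h)
  · push Not at hd
    exact hind y y' hy hy' hy0 hd hn.symm hyy.symm h

theorem exists_iso_both_nd [Finite F] {T : Submodule F V} (hT : NdS f T) (h2 : 2 ≤ finrank F T) {u w : V}
    (hu : u ∈ T) (hw : w ∈ T) (hu0 : u ≠ 0) (hw0 : w ≠ 0) : ∃ a ∈ T, f a a = 0 ∧ f a u ≠ 0 ∧ f a w ≠ 0 := by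
  obtain ⟨a, ha, haa, hau⟩ := hs.exists_iso_left_nd hT h2 hu hu0
  obtain ⟨b, hb, hbb, hbw⟩ := hs.exists_iso_left_nd hT h2 hw hw0
  by_cases h1 : f a w ≠ 0
  · exact ⟨a, ha, haa, hau, h1⟩
  by_cases h2' : f b u ≠ 0
  · exact ⟨b, hb, hbb, h2', hbw⟩
  push Not at h1 h2'
  obtain ⟨c, hc0, hc⟩ := hs.exists_coef (r := f b a)
  refine ⟨a + c • b, add_mem ha (T.smul_mem c hb), hs.add_smul_iso haa hbb hc, ?_, ?_⟩
  · rw [hs.add_left, hs.smul_left, h2', mul_zero, add_zero]; exact hau
  · rw [hs.add_left, hs.smul_left, h1, zero_add]; exact mul_ne_zero hc0 hbw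

/-- The orthogonal complement. -/
def perp (S : Submodule F V) : Submodule F V where
  carrier := {x | ∀ w ∈ S, f x w = 0}
  add_mem' := fun {x y} hx hy w hw => by rw [hs.add_left, hx w hw, hy w hw, add_zero]
  zero_mem' := fun w _ => hs.toSesq.zero_left w
  smul_mem' := fun c x hx w hw => by rw [hs.smul_left, hx w hw, mul_zero]

theorem mem_perp {S : Submodule F V} {x : V} : x ∈ hs.perp S ↔ ∀ w ∈ S, f x w = 0 := Iff.rfl

end Herm

namespace Herm

variable {F : Type*} [Field F] {ι : Type} [Fintype ι] [DecidableEq ι] {σ : F ≃+* F}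
  {f : (ι → F) → (ι → F) → F}

/-- `x ↦ x + f(x,a) b − f(x,b) a` for orthogonal isotropic `a`, `b`. -/
theorem exists_swap_tv (hs : Herm σ f) {a b : ι → F} (haa : f a a = 0) (hbb : f b b = 0) (hab : f a b = 0) :
    ∃ t : GL ι F, (∀ x y, f ((t : Matrix ι ι F) *ᵥ x) ((t : Matrix ι ι F) *ᵥ y) = f x y) ∧
      t ∈ Geo.specialLinear ι F ∧ ∀ x, (t : Matrix ι ι F) *ᵥ x = x + f x a • b - f x b • a := by
  have hba := hs.refl _ _ hab
  let N : (ι → F) →ₗ[F] (ι → F) :=
    LinearMap.id + (hs.toSesq.lin a).smulRight b - (hs.toSesq.lin b).smulRight a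
  have hN : ∀ x, N x = x + f x a • b - f x b • a := fun x => rfl
  have hi : ∀ x y, f (N x) (N y) = f x y := fun x y => by
    simp only [hN, hs.toSesq.sub_left, hs.toSesq.sub_right, hs.add_left, hs.add_right, hs.smul_left, hs.smul_right,
      haa, hbb, hab, hba, ← hs.herm]
    ring
  obtain ⟨t, ht⟩ := exists_gl_of_injective N fun x y e => sub_eq_zero.1 (hs.eq_zero _ fun z => by
    rw [← hi, map_sub, e, sub_self, hs.toSesq.zero_right])
  refine ⟨t, fun x y => by rw [ht, ht, hi], MonoidHom.mem_ker.2 (Units.ext ?_), fun x => by rw [ht, hN]⟩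
  rw [Matrix.GeneralLinearGroup.val_det_apply, det_rank_two (φ := fn f a) (ψ := (-1 : F) • fn f b) (a := b) (b := a)
    fun x => by rw [ht, hN, smul_dotProduct, fn_dot hs.toSesq, fn_dot hs.toSesq, smul_eq_mul]; module]
  simp only [smul_dotProduct, fn_dot hs.toSesq, haa, hbb, hab, hba, smul_eq_mul, Units.val_one]
  ring

/-- An Eichler transformation. -/
theorem exists_eichler (hs : Herm σ f) {e y : ι → F} {c : F} (hee : f e e = 0) (hye : f y e = 0)
    (hc : c + σ c + f y y = 0) :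
    ∃ t : GL ι F, (∀ x z, f ((t : Matrix ι ι F) *ᵥ x) ((t : Matrix ι ι F) *ᵥ z) = f x z) ∧
      t ∈ Geo.specialLinear ι F ∧
      ∀ x, (t : Matrix ι ι F) *ᵥ x = x + f x e • y + (c * f x e - f x y) • e := by
  have hey := hs.refl _ _ hye
  let N : (ι → F) →ₗ[F] (ι → F) :=
    LinearMap.id + (hs.toSesq.lin e).smulRight y + (c • hs.toSesq.lin e - hs.toSesq.lin y).smulRight e
  have hN : ∀ x, N x = x + f x e • y + (c * f x e - f x y) • e := fun x => rfl
  have hi : ∀ x z, f (N x) (N z) = f x z := fun x z => by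
    simp only [hN, hs.add_left, hs.add_right, hs.smul_left, hs.smul_right, hee, hey, hye, map_sub, map_mul,
      ← hs.herm]
    linear_combination (f x e * f e z) * hc
  obtain ⟨t, ht⟩ := exists_gl_of_injective N fun x z h => sub_eq_zero.1 (hs.eq_zero _ fun w => by
    rw [← hi, map_sub, h, sub_self, hs.toSesq.zero_right])
  refine ⟨t, fun x z => by rw [ht, ht, hi], MonoidHom.mem_ker.2 (Units.ext ?_), fun x => by rw [ht, hN]⟩
  rw [Matrix.GeneralLinearGroup.val_det_apply, det_rank_two (φ := fn f e) (ψ := c • fn f e - fn f y) (a := y) (b := e)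
    fun x => by rw [ht, hN, sub_dotProduct, smul_dotProduct, fn_dot hs.toSesq, fn_dot hs.toSesq, smul_eq_mul]]
  simp only [sub_dotProduct, smul_dotProduct, fn_dot hs.toSesq, hee, hey, hye, smul_eq_mul, Units.val_one]
  ring

end Herm

namespace Herm

variable {F : Type*} [Field F] {ι : Type} [Fintype ι] [DecidableEq ι] {σ : F ≃+* F}
  {f : (ι → F) → (ι → F) → F}

/-- An Eichler transformation taking one anisotropic vector to another of the same value. -/
theorem exists_eichler_move [Finite F] (hs : Herm σ f) {T : Submodule F (ι → F)} (hT : NdS f T)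
    (h3 : 3 ≤ finrank F T) {y y' : ι → F} (hy : y ∈ T) (hy' : y' ∈ T) (hyy : f y y = f y' y') (hne : f y y ≠ 0)
    (hind : ∀ k : F, y ≠ k • y') :
    ∃ t : GL ι F, (∀ x z, f ((t : Matrix ι ι F) *ᵥ x) ((t : Matrix ι ι F) *ᵥ z) = f x z) ∧
      t ∈ Geo.specialLinear ι F ∧ (t : Matrix ι ι F) *ᵥ y' = y ∧
      ∀ x, (∀ w ∈ T, f x w = 0) → (t : Matrix ι ι F) *ᵥ x = x := by
  obtain ⟨r, hr⟩ : ∃ r, r = y - y' := ⟨_, rfl⟩
  have hrT : r ∈ T := hr ▸ T.sub_mem hy hy'
  have hy'0 : f y' y' ≠ 0 := hyy ▸ hne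
  have hrr : f r r + f y' r + f r y' = 0 := by
    rw [hr]
    simp only [hs.toSesq.sub_left, hs.toSesq.sub_right]
    rw [hyy]
    ring
  by_cases hdeg : f r r = 0 ∧ f y' r = 0
  · obtain ⟨hr0, hyr⟩ := hdeg
    obtain ⟨u, hu⟩ : ∃ u, u = (-(f y' y')⁻¹) • y' := ⟨_, rfl⟩
    have huT : u ∈ T := hu ▸ T.smul_mem _ hy'
    obtain ⟨c, hc⟩ := hs.exists_trace_eq (a := -f u u) (by rw [map_neg, hs.self_fixed])
    obtain ⟨t, hti, htd, htx⟩ := hs.exists_eichler hr0 (y := u) (c := c)
      (by rw [hu, hs.smul_left, hyr, mul_zero]) (by rw [hc, neg_add_cancel])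
    refine ⟨t, hti, htd, ?_, fun x hx => by rw [htx, hx r hrT, hx u huT]; simp⟩
    have hyu : f y' u = -1 := by
      rw [hu, hs.smul_right, map_neg, map_inv₀, hs.self_fixed, neg_mul, inv_mul_cancel₀ hy'0]
    rw [htx, hyr, hyu, hr]
    simp
  obtain ⟨r', hr'T, hr'r', hrr', hyr'⟩ : ∃ r' ∈ T, f r' r' = 0 ∧ f r r' = 0 ∧ f y' r' ≠ 0 := by
    by_cases h0 : f r r = 0
    · exact ⟨r, hrT, h0, h0, fun e => hdeg ⟨h0, e⟩⟩
    by_contra hc
    push Not at hc
    have h1 := finrank_le_inf_ker_add_one T (hs.toSesq.lin r)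
    have hker : T ⊓ LinearMap.ker (hs.toSesq.lin r) ≤ LinearMap.ker (hs.toSesq.lin y') := by
      refine (hs.le_span_iso_nd (hs.nd_inf_ker hT hrT h0) (by omega)).trans (Submodule.span_le.2 fun a ha => ?_)
      exact LinearMap.mem_ker.2 (hs.refl _ _ (hc a ha.1.1 ha.2 (hs.refl _ _ (LinearMap.mem_ker.1 ha.1.2))))
    obtain ⟨k, hk⟩ : ∃ k, k = f y' r / f r r := ⟨_, rfl⟩
    have hz : y' - k • r = 0 := by
      by_contra hne'
      have hperp : f (y' - k • r) r = 0 := by
        rw [hs.toSesq.sub_left, hs.smul_left, hk, div_mul_cancel₀ _ h0, sub_self]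
      obtain ⟨z, hz, hzne⟩ := hs.nd_inf_ker hT hrT h0 (y' - k • r)
        ⟨T.sub_mem hy' (T.smul_mem k hrT), LinearMap.mem_ker.2 hperp⟩ hne'
      refine hzne ?_
      rw [hs.toSesq.sub_right, hs.smul_right, show f z r = 0 from LinearMap.mem_ker.1 hz.2,
        show f z y' = 0 from LinearMap.mem_ker.1 (hker hz), mul_zero, sub_zero]
    rw [sub_eq_zero] at hz
    have hk0 : k ≠ 0 := fun e => hy'0 (by rw [hz, e, zero_smul, hs.toSesq.zero_left])
    refine hind (k⁻¹ + 1) ?_
    rw [add_smul, one_smul]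
    nth_rw 1 [hz]
    rw [smul_smul, inv_mul_cancel₀ hk0, one_smul, hr, sub_add_cancel]
  obtain ⟨u, hu⟩ : ∃ u, u = (f y' r')⁻¹ • r := ⟨_, rfl⟩
  obtain ⟨c, hc⟩ : ∃ c, c = f y' r / (σ (f y' r') * f y' r') := ⟨_, rfl⟩
  have hσ0 : σ (f y' r') ≠ 0 := σ.map_ne_zero_iff.2 hyr'
  have huT : u ∈ T := hu ▸ T.smul_mem _ hrT
  obtain ⟨t, hti, htd, htx⟩ := hs.exists_eichler hr'r' (y := u) (c := c)
    (by rw [hu, hs.smul_left, hrr', mul_zero]) (by
      rw [hu, hc, map_div₀, map_mul, hs.invol, hs.smul_left, hs.smul_right, map_inv₀,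
        show σ (f y' r) = f r y' from (hs.herm r y').symm]
      field_simp
      linear_combination hrr)
  refine ⟨t, hti, htd, ?_, fun x hx => by rw [htx, hx r' hr'T, hx u huT]; simp⟩
  rw [htx, hu, smul_smul, mul_inv_cancel₀ hyr', one_smul, hs.smul_right, map_inv₀, hc,
    show f y' r / (σ (f y' r') * f y' r') * f y' r' - (σ (f y' r'))⁻¹ * f y' r = 0 by field_simp; ring,
    zero_smul, add_zero, hr, add_sub_cancel]

end Herm

theorem unitary_nondeg_maximal_of {F : Type*} [Field F] [Fintype F] {n q : ℕ} (hF : Fintype.card F = q ^ 2)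
    (hn : n = 4 ∨ 6 ≤ n) (W : Submodule F (Fin n → F)) (hW0 : W ≠ ⊥) (hW : Geo.IsNondegenerateOn (hermForm n F q) W)
    (hdim : 2 * finrank F W < n) :
    Geo.IsMaximalIn (GU n F q ⊓ Geo.specialLinear (Fin n) F)
      (Geo.subspaceStabilizer W ⊓ (GU n F q ⊓ Geo.specialLinear (Fin n) F)) := by
  classical
  set σ := qEquiv hF with hσ
  set f := hermForm n F q with hf
  have hs : Herm σ f := herm_hermForm hF
  have hWn : NdS f W := fun w hw hw0 => (hW w hw hw0).1
  -- the orthogonal complement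
  let W' : Submodule F (Fin n → F) :=
    { carrier := {x | ∀ w ∈ W, f x w = 0}
      add_mem' := fun {x y} hx hy w hw => by rw [hs.add_left, hx w hw, hy w hw, add_zero]
      zero_mem' := fun w _ => hs.toSesq.zero_left w
      smul_mem' := fun c x hx w hw => by rw [hs.smul_left, hx w hw, mul_zero] }
  have hperp : ∀ x ∈ W, ∀ y ∈ W', f x y = 0 := fun x hx y hy => hs.refl _ _ (hy x hx)
  have hdisj : ∀ x, x ∈ W → x ∈ W' → x = 0 := fun x hx hx' => by
    by_contra hne
    obtain ⟨y, hy, hy'⟩ := hWn x hx hne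
    exact hy' (hs.refl _ _ (hx' y hy))
  have hdec : ∀ v, ∃ x ∈ W, ∃ y ∈ W', x + y = v := fun v => by
    obtain ⟨z, hz, hzv⟩ := hs.exists_rep hWn (hs.toSesq.lin v)
    refine ⟨z, hz, v - z, fun w hw => hs.refl _ _ ?_, add_sub_cancel _ _⟩
    rw [hs.toSesq.sub_right, hzv w hw, Sesq.lin_apply, sub_self]
  have hW'n : NdS f W' := fun y hy hy0 => by
    obtain ⟨v, hv⟩ := hs.toSesq.exists_left hy0
    obtain ⟨x, hx, z, hz, rfl⟩ := hdec v
    rw [hs.add_left, hperp x hx y hy, zero_add] at hv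
    exact ⟨z, hz, hv⟩
  have hsum : n ≤ finrank F W + finrank F W' := by
    have htop : (⊤ : Submodule F (Fin n → F)) ≤ W ⊔ W' := fun v _ => by
      obtain ⟨x, hx, y, hy, rfl⟩ := hdec v
      exact Submodule.add_mem_sup hx hy
    have h1 := (Submodule.finrank_mono htop).trans (Submodule.finrank_add_le_finrank_add_finrank W W')
    rwa [finrank_top, Module.finrank_pi, Fintype.card_fin] at h1
  have hT : ∀ v, v ∈ W ∨ v ∈ W' → ∀ t : GL (Fin n) F, ∀ c : F,
      (∀ x, (t : Matrix (Fin n) (Fin n) F) *ᵥ x = x + (c * f x v) • v) → t ∈ Geo.subspaceStabilizer W :=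
    fun v hv t c ht => (mem_subspaceStabilizer_iff W t).2 fun x hx => by
      rw [ht]
      rcases hv with hv | hv
      · exact add_mem hx (W.smul_mem _ hv)
      · rw [hperp x hx v hv, mul_zero, zero_smul, add_zero]; exact hx
  obtain ⟨τ, hτ0, hτ⟩ := hs.exists_skew
  obtain ⟨x₀, hx₀, hx₀a⟩ := hs.exists_aniso_of_nd hWn hW0
  have hx₀0 : x₀ ≠ 0 := fun e => hx₀a (by rw [e, hs.toSesq.zero_left])
  refine isMaximalIn_intro inf_le_right (fun hle => ?_) fun M hHM hMK g hgM hgH => ?_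
  · obtain ⟨y₀, hy₀, hyy⟩ := hs.exists_norm_in_big (T := W') hW'n le_rfl (by omega)
      (t := -f x₀ x₀) (by rw [map_neg, hs.self_fixed])
    have hiso : f (x₀ + y₀) (x₀ + y₀) = 0 := by
      rw [hs.add_left, hs.add_right, hs.add_right, hyy, hperp x₀ hx₀ y₀ hy₀, hy₀ x₀ hx₀]; ring
    obtain ⟨t, ht, htx⟩ := exists_gu_tv hF hiso hτ
    have h := (mem_subspaceStabilizer_iff W t).1 (hle ht).1 x₀ hx₀
    simp only [← hf] at htx
    rw [htx, hs.add_right, hperp x₀ hx₀ y₀ hy₀, add_zero] at h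
    have h1 : y₀ ∈ W := by
      have h2 := sub_mem (W.smul_mem (τ * f x₀ x₀)⁻¹ (sub_mem h hx₀)) hx₀
      rwa [add_sub_cancel_left, smul_smul, inv_mul_cancel₀ (mul_ne_zero hτ0 hx₀a), one_smul,
        add_sub_cancel_left] at h2
    rw [hdisj y₀ h1 hy₀, hs.toSesq.zero_left, eq_comm, neg_eq_zero] at hyy
    exact hx₀a hyy
  have hgi : ∀ x y, f ((g : Matrix (Fin n) (Fin n) F) *ᵥ x) ((g : Matrix (Fin n) (Fin n) F) *ᵥ y) = f x y :=
    isometry_of_le M hMK hgM
  have hblock : ∀ v, v ∈ W ∨ v ∈ W' → f v v = 0 → UPt σ f M v := fun v hv hvv c hc => by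
    obtain ⟨t, ht, htx⟩ := exists_gu_tv hF hvv hc
    exact ⟨t, hHM ⟨hT v hv t c htx, ht⟩, htx⟩
  obtain ⟨x₁, hx₁, y₁, hy₁, hx₁0, hy₁0, hiso₁, hP⟩ : ∃ x₁ ∈ W, ∃ y₁ ∈ W', x₁ ≠ 0 ∧ y₁ ≠ 0 ∧
      f (x₁ + y₁) (x₁ + y₁) = 0 ∧ UPt σ f M (x₁ + y₁) := by
    by_contra hc
    push Not at hc
    have hone : ∀ v ∈ W', f v v = 0 → (g : Matrix (Fin n) (Fin n) F) *ᵥ v ∈ W ∨
        (g : Matrix (Fin n) (Fin n) F) *ᵥ v ∈ W' := fun v hv hvv => by
      obtain ⟨x, hx, y, hy, hxy⟩ := hdec ((g : Matrix (Fin n) (Fin n) F) *ᵥ v)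
      by_cases h1 : x = 0
      · rw [h1, zero_add] at hxy; exact Or.inr (hxy ▸ hy)
      by_cases h2 : y = 0
      · rw [h2, add_zero] at hxy; exact Or.inl (hxy ▸ hx)
      exact absurd (hxy ▸ (hblock v (Or.inr hv) hvv).map hs hgM hgi)
        (hc x hx y hy h1 h2 (by rw [hxy, hgi, hvv]))
    have h2W' : 2 ≤ finrank F W' := by omega
    have hspan : ∀ U : Submodule F (Fin n → F), (∀ a ∈ W', f a a = 0 → (g : Matrix (Fin n) (Fin n) F) *ᵥ a ∈ U) →
        W'.map (Matrix.toLin' (g : Matrix (Fin n) (Fin n) F)) ≤ U := fun U hU => by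
      rw [Submodule.map_le_iff_le_comap]
      refine (hs.le_span_iso_nd hW'n h2W').trans (Submodule.span_le.2 fun a ha => ?_)
      rw [SetLike.mem_coe, Submodule.mem_comap, Matrix.toLin'_apply]
      exact hU a ha.1 ha.2
    have hfr : finrank F (W'.map (Matrix.toLin' (g : Matrix (Fin n) (Fin n) F))) = finrank F W' :=
      (Submodule.equivMapOfInjective _ (fun a b hab => gl_mulVec_injective g (by
        simpa [Matrix.toLin'_apply] using hab)) W').finrank_eq.symm
    have hgW' : ∀ a ∈ W', f a a = 0 → (g : Matrix (Fin n) (Fin n) F) *ᵥ a ∈ W' := fun a ha haa => by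
      rcases eq_or_ne a 0 with rfl | ha0
      · rw [Matrix.mulVec_zero]; exact zero_mem _
      refine (hone a ha haa).resolve_left fun haW => ?_
      have hall : ∀ b ∈ W', f b b = 0 → (g : Matrix (Fin n) (Fin n) F) *ᵥ b ∈ W := fun b hb hbb => by
        have hsame : ∀ a b, a ∈ W' → b ∈ W' → f a a = 0 → f b b = 0 → f a b ≠ 0 →
            (g : Matrix (Fin n) (Fin n) F) *ᵥ a ∈ W → (g : Matrix (Fin n) (Fin n) F) *ᵥ b ∈ W :=
          fun a b ha hb haa hbb hab h =>
            (hone b hb hbb).resolve_right fun h' => hab (by rw [← hgi]; exact hperp _ h _ h')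
        rcases eq_or_ne b 0 with rfl | hb0
        · rw [Matrix.mulVec_zero]; exact zero_mem _
        obtain ⟨c, hc, hcc, hca, hcb⟩ := hs.exists_iso_both_nd hW'n h2W' ha hb ha0 hb0
        exact hsame c b hc hb hcc hbb hcb (hsame a c ha hc haa hcc (fun e => hca (hs.refl _ _ e)) haW)
      have := Submodule.finrank_mono (hspan W hall)
      rw [hfr] at this
      omega
    have heq : W'.map (Matrix.toLin' (g : Matrix (Fin n) (Fin n) F)) = W' :=
      Submodule.eq_of_le_of_finrank_eq (hspan W' hgW') hfr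
    refine hgH ⟨(mem_subspaceStabilizer_iff W g).2 fun x hx => ?_, hMK hgM⟩
    obtain ⟨x', hx', y', hy', hxy⟩ := hdec ((g : Matrix (Fin n) (Fin n) F) *ᵥ x)
    suffices y' = 0 by rw [← hxy, this, add_zero]; exact hx'
    by_contra hne
    obtain ⟨z, hz, hzy⟩ := hW'n y' hy' hne
    obtain ⟨z', hz', hgz⟩ : z ∈ W'.map (Matrix.toLin' (g : Matrix (Fin n) (Fin n) F)) := by rw [heq]; exact hz
    rw [Matrix.toLin'_apply] at hgz
    refine hzy ?_
    have h1 : f z ((g : Matrix (Fin n) (Fin n) F) *ᵥ x) = 0 := by rw [← hgz, hgi]; exact hz' x hx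
    rwa [← hxy, hs.add_right, hz x' hx', zero_add] at h1
  by_cases h6 : 4 ≤ finrank F W'
  swap
  · -- a line and a space of dimension three
    have hW1 : finrank F W = 1 := le_antisymm (by omega) (Submodule.one_le_finrank_iff.2 hW0)
    have h3 : 3 ≤ finrank F W' := by omega
    refine LinFour.guSL_le_three hF (by omega) (by omega) fun v hvv => ?_
    simp only [← hf] at hvv ⊢
    obtain ⟨x, hx, y, hy, rfl⟩ := hdec v
    by_cases h1 : x = 0
    · rw [h1, zero_add] at hvv ⊢; exact hblock y (Or.inr hy) hvv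
    obtain ⟨c, hc⟩ := (finrank_eq_one_iff_of_nonzero' (⟨x₁, hx₁⟩ : W) (fun e => hx₁0 (congrArg Subtype.val e))).1
      hW1 ⟨x, hx⟩
    have hxc : x = c • x₁ := (congrArg Subtype.val hc).symm
    have hc0 : c ≠ 0 := fun e => h1 (by rw [hxc, e, zero_smul])
    have hxx : f x x ≠ 0 := fun e => by
      obtain ⟨d, hd⟩ := (finrank_eq_one_iff_of_nonzero' (⟨x, hx⟩ : W) (fun e' => h1 (congrArg Subtype.val e'))).1
        hW1 ⟨x₀, hx₀⟩
      exact hx₀a (by rw [show x₀ = d • x from (congrArg Subtype.val hd).symm, hs.smul_left, hs.smul_right, e,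
        mul_zero, mul_zero])
    have hbase : UPt σ f M (x + c • y₁) := by rw [hxc, ← smul_add]; exact hP.smul hs c
    have hn₁ : f (c • y₁) (c • y₁) = -f x x := by
      have h2 : f (c • (x₁ + y₁)) (c • (x₁ + y₁)) = 0 := by
        rw [hs.smul_left, hs.smul_right, hiso₁, mul_zero, mul_zero]
      rw [smul_add, ← hxc, hs.add_left, hs.add_right, hs.add_right, hperp x hx _ (W'.smul_mem c hy₁),
        hs.refl _ _ (hperp x hx _ (W'.smul_mem c hy₁))] at h2
      linear_combination h2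
    have hn₂ : f y y = -f x x := by
      rw [hs.add_left, hs.add_right, hs.add_right, hperp x hx y hy, hy x hx] at hvv
      linear_combination hvv
    have move : ∀ y y', y ∈ W' → y' ∈ W' → f y y = -f x x → f y' y' = -f x x → (∀ k : F, y ≠ k • y') →
        UPt σ f M (x + y') → UPt σ f M (x + y) := fun y y' hy hy' e e' hind h => by
      obtain ⟨t, hti, htd, hty, htfix⟩ := hs.exists_eichler_move hW'n h3 hy hy' (e.trans e'.symm)
        (by rw [e]; exact neg_ne_zero.2 hxx) hind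
      have htW : ∀ w ∈ W, (t : Matrix (Fin n) (Fin n) F) *ᵥ w = w := fun w hw =>
        htfix w fun z hz => hperp w hw z hz
      have htM : t ∈ M := hHM ⟨(mem_subspaceStabilizer_iff W t).2 fun w hw => by rw [htW w hw]; exact hw,
        mem_GU.2 hti, htd⟩
      have h' := h.map hs htM hti
      rwa [Matrix.mulVec_add, htW x hx, hty] at h'
    by_cases hind : ∀ k : F, y ≠ k • (c • y₁)
    · exact move y _ hy (W'.smul_mem c hy₁) hn₂ hn₁ hind hbase
    push Not at hind
    obtain ⟨k, hk⟩ := hind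
    have hker := finrank_le_inf_ker_add_one W' (hs.toSesq.lin (c • y₁))
    have hk1 : f (c • y₁) (c • y₁) ≠ 0 := by rw [hn₁]; exact neg_ne_zero.2 hxx
    obtain ⟨z, ⟨hzW, hz1⟩, hzz⟩ := hs.exists_norm_in_big
      (T := W' ⊓ LinearMap.ker (hs.toSesq.lin (c • y₁))) (hs.nd_inf_ker hW'n (W'.smul_mem c hy₁) hk1) le_rfl
      (by omega) (t := -f x x) (by rw [map_neg, hs.self_fixed])
    have hz1' : f z (c • y₁) = 0 := LinearMap.mem_ker.1 hz1
    have hz0 : f z z ≠ 0 := by rw [hzz]; exact neg_ne_zero.2 hxx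
    refine move y z hy hzW hn₂ hzz (fun l e => ?_) (move z _ hzW (W'.smul_mem c hy₁) hzz hn₁ (fun l e => ?_) hbase)
    · have h2 : f y z = 0 := by rw [hk, hs.smul_left, hs.refl _ _ hz1', mul_zero]
      rw [e, hs.smul_left] at h2
      have hl : l ≠ 0 := fun e' => (neg_ne_zero.2 hxx) (by rw [← hn₂, e, e', zero_smul, hs.toSesq.zero_left])
      exact mul_ne_zero hl hz0 h2
    · refine hz0 ?_
      nth_rw 2 [e]
      rw [hs.smul_right, hz1', mul_zero]
  have hQ : ∀ w ∈ W', f w w = 0 → UPt σ f M w := fun w hw => hblock w (Or.inr hw)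
  have hperp' : ∀ x ∈ W, ∀ z ∈ W', f x z = 0 := hperp
  -- the first components of points
  let N : Submodule F (Fin n → F) :=
    { carrier := {x | x = 0 ∨ x ∈ W ∧ ∃ y ∈ W', y ≠ 0 ∧ f (x + y) (x + y) = 0 ∧ UPt σ f M (x + y)}
      zero_mem' := Or.inl rfl
      smul_mem' := fun c x hx => by
        rcases eq_or_ne c 0 with rfl | hc0
        · exact Or.inl (zero_smul F x)
        rcases hx with rfl | ⟨hxW, y, hy, hy0, hiso, hP⟩
        · exact Or.inl (smul_zero c)
        refine Or.inr ⟨W.smul_mem c hxW, c • y, W'.smul_mem c hy, smul_ne_zero hc0 hy0, ?_, ?_⟩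
        · rw [← smul_add, hs.smul_left, hs.smul_right, hiso, mul_zero, mul_zero]
        · rw [← smul_add]; exact hP.smul hs c
      add_mem' := fun {x x'} hx hx' => by
        rcases hx with rfl | ⟨hxW, y, hy, hy0, hiso, hP⟩
        · rwa [zero_add]
        rcases hx' with rfl | ⟨hx'W, y₂, hy₂, hy₂0, hiso₂, hP₂⟩
        · rw [add_zero]; exact Or.inr ⟨hxW, y, hy, hy0, hiso, hP⟩
        have hn : f y y = -f x x := by
          rw [hs.add_left, hs.add_right, hs.add_right, hperp x hxW y hy, hy x hxW] at hiso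
          linear_combination hiso
        have hn₂ : f y₂ y₂ = -f x' x' := by
          rw [hs.add_left, hs.add_right, hs.add_right, hperp x' hx'W y₂ hy₂, hy₂ x' hx'W] at hiso₂
          linear_combination hiso₂
        -- a new second component
        have h1 := finrank_le_inf_ker_add_one W' (hs.toSesq.lin y)
        obtain ⟨z, ⟨hz, hzy⟩, hzz⟩ := hs.exists_norm_in_big (T := W') (S := W' ⊓ LinearMap.ker (hs.toSesq.lin y))
          hW'n inf_le_left (by omega) (t := 1) (map_one σ)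
        have hzn : z ∉ (F ∙ y) := fun hmem => by
          obtain ⟨l, hl⟩ := Submodule.mem_span_singleton.1 hmem
          have h0 : f z z = 0 := by
            nth_rw 1 [← hl]
            rw [hs.smul_left, hs.refl _ _ (LinearMap.mem_ker.1 hzy), mul_zero]
          exact one_ne_zero (hzz.symm.trans h0)
        have hzy' : f y z = 0 := hs.refl _ _ (LinearMap.mem_ker.1 hzy)
        obtain ⟨p, hp, hpy, hpz⟩ := hs.exists_two_in hW'n hy hz hy0
          (fun l e => hzn (Submodule.mem_span_singleton.2 ⟨l, e.symm⟩)) (σ (τ - f x x')) 1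
        have h2 := finrank_le_inf_ker_add_one W' (hs.toSesq.lin z)
        have h3 := finrank_le_inf_ker_add_one (W' ⊓ LinearMap.ker (hs.toSesq.lin z)) (hs.toSesq.lin y)
        have hlt : finrank F (W' ⊓ LinearMap.ker (hs.toSesq.lin z) : Submodule F (Fin n → F)) < finrank F W' :=
          Submodule.finrank_lt_finrank_of_lt (lt_of_le_of_ne inf_le_left fun e0 => one_ne_zero
            (hzz.symm.trans (LinearMap.mem_ker.1 (e0.symm ▸ hz).2)))
        obtain ⟨e₀, ⟨⟨he₀, he₀z⟩, he₀y⟩, hee⟩ := hs.exists_norm_in_big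
          (T := W' ⊓ LinearMap.ker (hs.toSesq.lin z))
          (S := W' ⊓ LinearMap.ker (hs.toSesq.lin z) ⊓ LinearMap.ker (hs.toSesq.lin y))
          (hs.nd_inf_ker hW'n hz (by rw [hzz]; exact one_ne_zero)) inf_le_left (by omega) (t := 1) (map_one σ)
        obtain ⟨w, hw⟩ := hs.exists_norm (t := f y₂ y₂ - f p p + f p e₀ * σ (f p e₀)) (by
          rw [map_add, map_sub, hs.self_fixed, hs.self_fixed, map_mul, hs.invol, mul_comm (σ (f p e₀))])
        obtain ⟨k, hk⟩ : ∃ k, k = w - f p e₀ := ⟨_, rfl⟩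
        obtain ⟨e, he'⟩ : ∃ e, e = k • e₀ := ⟨_, rfl⟩
        have he : e ∈ W' := he' ▸ W'.smul_mem k he₀
        have hez' : f e z = 0 := by
          rw [he', hs.smul_left, show f e₀ z = 0 from LinearMap.mem_ker.1 he₀z, mul_zero]
        have hey' : f e y = 0 := by
          rw [he', hs.smul_left, show f e₀ y = 0 from LinearMap.mem_ker.1 he₀y, mul_zero]
        set y₃ := p + e with hy₃
        have hy₃W : y₃ ∈ W' := add_mem hp he
        have hy₃y : f y y₃ = τ - f x x' := by
          rw [hy₃, hs.add_right, hs.refl _ _ hey', add_zero, hs.herm, hpy, hs.invol]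
        have hy₃z : f y₃ z = 1 := by rw [hy₃, hs.add_left, hpz, hez', add_zero]
        have hy₃n : f y₃ y₃ = f y₂ y₂ := by
          rw [hy₃, he', hs.add_left, hs.add_right, hs.add_right, hs.smul_left, hs.smul_left, hs.smul_right,
            hs.smul_right, hee, hs.herm e₀ p, hk, map_sub]
          linear_combination hw
        have hy₃0 : y₃ ≠ 0 := fun e0 => by rw [e0, hs.toSesq.zero_left] at hy₃z; exact zero_ne_one hy₃z
        clear_value y₃
        have hP₃ : UPt σ f M (x' + y₃) :=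
          hs.move_in hW'n h6 hQ (fun z hz => hperp x' hx'W z hz) hy₂ hy₃W hy₂0 hy₃0 hy₃n.symm hP₂
        have hiso₃ : f (x' + y₃) (x' + y₃) = 0 := by
          rw [hs.add_left, hs.add_right, hs.add_right, hperp x' hx'W y₃ hy₃W, hy₃W x' hx'W, hy₃n, hn₂]; ring
        have hxy : f (x + y) (x' + y₃) = τ := by
          rw [hs.add_left, hs.add_right, hs.add_right, hperp x hxW y₃ hy₃W, hy x' hx'W, hy₃y]; ring
        have hsum := hP.add_smul hs hP₃ hiso₃ (c := τ⁻¹) (by
          rw [map_inv₀, show σ τ = -τ by linear_combination hτ, inv_neg, add_neg_cancel])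
        rw [hxy, inv_mul_cancel₀ hτ0, one_smul] at hsum
        refine Or.inr ⟨add_mem hxW hx'W, y + y₃, add_mem hy hy₃W, fun e0 => ?_, ?_, ?_⟩
        · have := congrArg (fun v => f v z) e0
          simp only [hs.add_left, hzy', hy₃z, zero_add, hs.toSesq.zero_left] at this
          exact one_ne_zero this
        · have hadd : ∀ A B, f (A + B) (A + B) = f A A + f A B + (f B A + f B B) := fun A B => by
            rw [hs.add_left, hs.add_right, hs.add_right]
          rw [show x + x' + (y + y₃) = (x + y) + (x' + y₃) by abel, hadd, hiso,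
            hiso₃, hxy, hs.herm (x' + y₃), hxy]
          linear_combination hτ
        · rwa [show x + x' + (y + y₃) = (x + y) + (x' + y₃) by abel] }
  have hx₁N : x₁ ∈ N := Or.inr ⟨hx₁, y₁, hy₁, hy₁0, hiso₁, hP⟩
  have hNiso : ∀ x ∈ N, ∀ w ∈ W, f w w = 0 → f x w ≠ 0 → w ∈ N := by
    intro x hxN w hw hww hxw
    rcases hxN with rfl | ⟨hxW, y, hy, hy0, hiso, hP'⟩
    · exact absurd (hs.toSesq.zero_left w) hxw
    have h1 : x + (τ * f x w) • w ∈ N := by
      refine Or.inr ⟨add_mem hxW (W.smul_mem _ hw), y, hy, hy0, ?_, ?_⟩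
      · rw [show x + (τ * f x w) • w + y = (x + y) + (τ * f x w) • w by abel,
          hs.add_smul_iso hiso hww (c := τ * f x w) ?_]
        rw [hs.add_right, hs.herm w x, hs.refl _ _ (hy w hw), add_zero, map_mul, map_mul, hs.invol]
        linear_combination (f x w * σ (f x w)) * hτ
      · have := hP'.add_smul hs (hblock w (Or.inl hw) hww) hww hτ
        rwa [hs.add_left, hy w hw, add_zero, show x + y + (τ * f x w) • w = x + (τ * f x w) • w + y by abel] at this
    have h2 := sub_mem h1 (show x ∈ N from Or.inr ⟨hxW, y, hy, hy0, hiso, hP'⟩)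
    rw [add_sub_cancel_left] at h2
    have h3 := N.smul_mem (τ * f x w)⁻¹ h2
    rwa [smul_smul, inv_mul_cancel₀ (mul_ne_zero hτ0 hxw), one_smul] at h3
  have hWN : W ≤ N := by
    by_cases h1 : finrank F W ≤ 1
    · intro x hx
      have hk1 : finrank F W = 1 := le_antisymm h1 (Submodule.one_le_finrank_iff.2 hW0)
      obtain ⟨c, hc⟩ := (finrank_eq_one_iff_of_nonzero' (⟨x₁, hx₁⟩ : W) (fun e => hx₁0 (congrArg Subtype.val e))).1
        hk1 ⟨x, hx⟩
      rw [show x = c • x₁ from (congrArg Subtype.val hc).symm]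
      exact N.smul_mem c hx₁N
    refine (hs.le_span_iso_nd hWn (by omega)).trans (Submodule.span_le.2 fun v hv => ?_)
    rcases eq_or_ne v 0 with rfl | hv0
    · exact N.zero_mem
    obtain ⟨w, hw, hww, hwx, hwv⟩ := hs.exists_iso_both_nd hWn (by omega) hx₁ hv.1 hx₁0 hv0
    exact hNiso w (hNiso x₁ hx₁N w hw hww fun e => hwx (hs.refl _ _ e)) v hv.1 hv.2 hwv
  refine LinFour.guSL_le_three hF (by omega) (by omega) fun v hvv => ?_
  simp only [← hf] at hvv ⊢
  obtain ⟨x, hx, y, hy, rfl⟩ := hdec v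
  by_cases h1 : x = 0
  · rw [h1, zero_add] at hvv ⊢; exact hblock y (Or.inr hy) hvv
  by_cases h2 : y = 0
  · rw [h2, add_zero] at hvv ⊢; exact hblock x (Or.inl hx) hvv
  obtain ⟨-, y', hy', hy'0, hiso', hP'⟩ := (hWN hx).resolve_left h1
  refine hs.move_in hW'n h6 hQ (fun z hz => hperp x hx z hz) hy' hy hy'0 h2 ?_ hP'
  rw [hs.add_left, hs.add_right, hs.add_right, hperp x hx y hy, hy x hx] at hvv
  rw [hs.add_left, hs.add_right, hs.add_right, hperp x hx y' hy', hy' x hx] at hiso'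
  linear_combination hiso' - hvv

/-- Maximal parabolic subgroups of `SU`. -/
theorem unitary_parabolic_maximal_of {F : Type*} [Field F] [Fintype F] {n q : ℕ} (hF : Fintype.card F = q ^ 2)
    (hn : 4 ≤ n) (W : Submodule F (Fin n → F)) (hW0 : W ≠ ⊥)
    (hW : Geo.IsTotallySingularFor (hermForm n F q) W) :
    Geo.IsMaximalIn (GU n F q ⊓ Geo.specialLinear (Fin n) F)
      (Geo.subspaceStabilizer W ⊓ (GU n F q ⊓ Geo.specialLinear (Fin n) F)) := by
  classical
  set σ := qEquiv hF with hσ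
  set f := hermForm n F q with hf
  have hs : Herm σ f := herm_hermForm hF
  have htop : NdS f ⊤ := fun w _ hw0 => (hs.toSesq.exists_left hw0).imp fun x hx => ⟨trivial, hx⟩
  have hcard : Fintype.card (Fin n) + 2 < 2 * finrank F (⊤ : Submodule F (Fin n → F)) := by
    rw [finrank_top, Module.finrank_pi, Fintype.card_fin]; omega
  obtain ⟨w₀, hw₀, hw₀0⟩ := Submodule.exists_mem_ne_zero_of_ne_bot hW0
  obtain ⟨x₀, hx₀⟩ := hs.toSesq.exists_left hw₀0
  obtain ⟨u₀, -, hu₀, hu₀w⟩ := hs.exists_iso_left (lt_trans (Nat.lt_succ_self _) hcard) (u := w₀) ⟨x₀, trivial, hx₀⟩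
  obtain ⟨τ, hτ0, hτ⟩ := hs.exists_skew
  -- vectors orthogonal to `hs.perp W` are in `W`
  have hWperp : ∀ v, (∀ z ∈ hs.perp W, f v z = 0) → v ∈ W := fun v hv => by
    by_contra hvW
    obtain ⟨φ, hφv, hφ⟩ := Submodule.exists_le_ker_of_notMem hvW
    obtain ⟨z, -, hz⟩ := hs.exists_rep htop φ
    have hzW : z ∈ hs.perp W := fun w hw => hs.refl _ _ (by rw [hz w trivial]; exact hφ hw)
    exact hφv (by rw [← hz v trivial]; exact hv z hzW)
  refine isMaximalIn_intro inf_le_right (fun hle => ?_) fun M hHM hMK g hgM hgH => ?_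
  · obtain ⟨t, ht, htx⟩ := exists_gu_tv hF (v := u₀) hu₀ hτ
    simp only [← hf] at htx
    have h := (mem_subspaceStabilizer_iff W t).1 (hle ht).1 w₀ hw₀
    rw [htx] at h
    have hne : τ * f w₀ u₀ ≠ 0 := mul_ne_zero hτ0 fun e => hu₀w (hs.refl _ _ e)
    have h1 : u₀ ∈ W := by
      have := W.smul_mem (τ * f w₀ u₀)⁻¹ (sub_mem h hw₀)
      rwa [add_sub_cancel_left, smul_smul, inv_mul_cancel₀ hne, one_smul] at this
    exact hu₀w (hW u₀ h1 w₀ hw₀)
  have hgi : ∀ x y, f ((g : Matrix (Fin n) (Fin n) F) *ᵥ x) ((g : Matrix (Fin n) (Fin n) F) *ᵥ y) = f x y :=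
    isometry_of_le M hMK hgM
  have hmemH : ∀ t : GL (Fin n) F,
      (∀ x y, f ((t : Matrix (Fin n) (Fin n) F) *ᵥ x) ((t : Matrix (Fin n) (Fin n) F) *ᵥ y) = f x y) →
      t ∈ Geo.specialLinear (Fin n) F → (∀ x ∈ W, (t : Matrix (Fin n) (Fin n) F) *ᵥ x ∈ W) → t ∈ M :=
    fun t h1 h2 h3 => hHM ⟨(mem_subspaceStabilizer_iff W t).2 h3, mem_GU.2 h1, h2⟩
  have hblock : ∀ v ∈ hs.perp W, f v v = 0 → UPt σ f M v := fun v hv hvv c hc => by
    obtain ⟨t, ht, htx⟩ := exists_gu_tv hF hvv hc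
    refine ⟨t, hHM ⟨(mem_subspaceStabilizer_iff W t).2 fun x hx => ?_, ht⟩, htx⟩
    simp only [← hf] at htx
    rw [htx, hs.refl _ _ (hv x hx), mul_zero, zero_smul, add_zero]; exact hx
  obtain ⟨v₁, hv₁, hv₁iso, w₁, hw₁, hv₁w⟩ :
      ∃ v₁, UPt σ f M v₁ ∧ f v₁ v₁ = 0 ∧ ∃ w ∈ W, f v₁ w ≠ 0 := by
    by_contra hc
    push Not at hc
    let S := Submodule.span F {a : Fin n → F | a ∈ hs.perp W ∧ f a a = 0}
    have hgen : ∀ a ∈ hs.perp W, f a a = 0 →
        (g : Matrix (Fin n) (Fin n) F) *ᵥ a ∈ hs.perp W ∧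
          f ((g : Matrix (Fin n) (Fin n) F) *ᵥ a) ((g : Matrix (Fin n) (Fin n) F) *ᵥ a) = 0 := fun a ha haa =>
      ⟨hc _ ((hblock a ha haa).map hs hgM hgi) (by rw [hgi, haa]), by rw [hgi, haa]⟩
    have hSP : S ≤ hs.perp W := Submodule.span_le.2 fun a ha => ha.1
    have hgS : S.map (Matrix.toLin' (g : Matrix (Fin n) (Fin n) F)) = S := by
      refine Submodule.eq_of_le_of_finrank_eq ?_ (Submodule.equivMapOfInjective _ (fun a b hab =>
        gl_mulVec_injective g (by simpa [Matrix.toLin'_apply] using hab)) S).finrank_eq.symm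
      rw [Submodule.map_le_iff_le_comap]
      refine Submodule.span_le.2 fun a ha => ?_
      rw [SetLike.mem_coe, Submodule.mem_comap, Matrix.toLin'_apply]
      exact Submodule.subset_span (hgen a ha.1 ha.2)
    have hWS : ∀ w ∈ W, w ∈ S := fun w hw =>
      Submodule.subset_span ⟨fun x hx => hW w hw x hx, hW w hw w hw⟩
    refine hgH ⟨(mem_subspaceStabilizer_iff W g).2 fun x hx => hWperp _ fun z hz => ?_, hMK hgM⟩
    set p := (g : Matrix (Fin n) (Fin n) F) *ᵥ x with hp
    obtain ⟨hpW, hpp⟩ := hgen x (fun w hw => hW x hx w hw) (hW x hx x hx)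
    have hporth : ∀ s ∈ S, f p s = 0 := fun s hs' => by
      obtain ⟨s', hs'', rfl⟩ : s ∈ S.map (Matrix.toLin' (g : Matrix (Fin n) (Fin n) F)) := by rw [hgS]; exact hs'
      rw [Matrix.toLin'_apply, hp, hgi]
      exact hs.refl _ _ (hSP hs'' x hx)
    by_contra hne
    have hzp : f z p ≠ 0 := fun e => hne (hs.refl _ _ e)
    set z' := (f z p)⁻¹ • z with hz'
    have hz'P : z' ∈ hs.perp W := (hs.perp W).smul_mem _ hz
    have hz'p : f z' p = 1 := by rw [hz', hs.smul_left, inv_mul_cancel₀ hzp]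
    obtain ⟨d, hd⟩ := hs.exists_trace_eq (a := -f z' z') (by rw [map_neg, hs.self_fixed])
    clear_value z'
    have hpz' : f p z' = 1 := by rw [hs.herm, hz'p, map_one]
    have hiso : f (z' + d • p) (z' + d • p) = 0 := by
      rw [hs.add_left, hs.add_right, hs.add_right, hs.smul_left, hs.smul_left, hs.smul_right, hs.smul_right, hz'p,
        hpz', hpp]
      linear_combination hd
    have h1 := hporth _ (Submodule.subset_span ⟨add_mem hz'P ((hs.perp W).smul_mem d hpW), hiso⟩)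
    rw [hs.add_right, hs.smul_right, hpz', hpp, mul_zero, add_zero] at h1
    exact one_ne_zero h1
  refine LinFour.guSL_le_three hF (by omega) (by omega) fun u huu => ?_
  simp only [← hf] at huu ⊢
  by_cases hu : ∀ w ∈ W, f u w = 0
  · exact hblock u hu huu
  push Not at hu
  obtain ⟨w₂, hw₂, huw⟩ := hu
  -- equal functionals on `W`
  have hcoset : ∀ v v', UPt σ f M v → f v v = 0 → f v' v' = 0 → (∃ w ∈ W, f v w ≠ 0) →
      (∀ w ∈ W, f v w = f v' w) → UPt σ f M v' := by
    rintro v v' hv hvv hv'v' ⟨w, hw, hvw⟩ heq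
    set e := (σ (f v w))⁻¹ • w with he
    have heW : e ∈ W := W.smul_mem _ hw
    have hve : f v e = 1 := by rw [he, hs.smul_right, map_inv₀, hs.invol, inv_mul_cancel₀ hvw]
    have hzW : v' - v ∈ hs.perp W := fun x hx => by rw [hs.toSesq.sub_left, ← heq x hx, sub_self]
    obtain ⟨t, hti, htd, htx⟩ := hs.exists_eichler (c := f v (v' - v)) (hW e heW e heW) (hzW e heW) (by
      rw [← hs.herm]
      simp only [hs.toSesq.sub_left, hs.toSesq.sub_right, hvv, hv'v']
      ring)
    have htM : t ∈ M := hmemH t hti htd fun x hx => by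
      rw [htx, hW x hx e heW, hs.refl _ _ (hzW x hx)]; simpa using hx
    have := hv.map hs htM hti
    rwa [htx, hve, one_smul, mul_one, sub_self, zero_smul, add_zero, add_sub_cancel] at this
  by_cases hdep : ∀ w ∈ W, f v₁ w₁ * f u w = f u w₁ * f v₁ w
  · -- proportional functionals
    have hu1 : f u w₁ ≠ 0 := fun e => by
      have := hdep w₂ hw₂
      rw [e, zero_mul] at this
      exact mul_ne_zero hv₁w huw this
    refine hcoset _ u (hv₁.smul hs (f u w₁ / f v₁ w₁)) ?_ huu ⟨w₁, hw₁, ?_⟩ fun w hw => ?_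
    · rw [hs.smul_left, hs.smul_right, hv₁iso, mul_zero, mul_zero]
    · rw [hs.smul_left, div_mul_cancel₀ _ hv₁w]; exact hu1
    · rw [hs.smul_left, div_mul_eq_mul_div, ← hdep w hw, mul_div_cancel_left₀ _ hv₁w]
  push Not at hdep
  obtain ⟨w, hw, hne⟩ := hdep
  set r := (f v₁ w₁ - f u w₁) with hr
  set s := (f v₁ w - f u w) with hs'
  set a₀ := σ s • w₁ - σ r • w with ha₀
  have ha₀W : a₀ ∈ W := sub_mem (W.smul_mem _ hw₁) (W.smul_mem _ hw)
  have hva₀ : f v₁ a₀ ≠ 0 := by
    rw [ha₀, hs.toSesq.sub_right, hs.smul_right, hs.smul_right, hs.invol, hs.invol, hr, hs']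
    intro e
    exact hne (by linear_combination -e)
  have hua₀ : f u a₀ = f v₁ a₀ := by
    rw [ha₀, hs.toSesq.sub_right, hs.toSesq.sub_right, hs.smul_right, hs.smul_right, hs.smul_right, hs.smul_right,
      hs.invol, hs.invol, hr, hs']
    ring
  set a := σ (f v₁ a₀)⁻¹ • a₀ with ha
  have haW : a ∈ W := W.smul_mem _ ha₀W
  have hva : f v₁ a = 1 := by rw [ha, hs.smul_right, hs.invol, inv_mul_cancel₀ hva₀]
  have hua : f u a = 1 := by rw [ha, hs.smul_right, hs.invol, hua₀, inv_mul_cancel₀ hva₀]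
  clear_value a
  -- an isotropic vector with the difference of the functionals
  have hbne : ∃ x ∈ W, f (u - v₁) x ≠ 0 := by
    by_contra hc
    push Not at hc
    have e1 := hc w hw
    have e2 := hc w₁ hw₁
    rw [hs.toSesq.sub_left, sub_eq_zero] at e1 e2
    exact hne (by rw [e1, e2])
  obtain ⟨x, hx, hxb⟩ := hbne
  obtain ⟨d, hd⟩ := hs.exists_trace_eq (a := -f (u - v₁) (u - v₁)) (by rw [map_neg, hs.self_fixed])
  set b := u - v₁ + (σ (d / f (u - v₁) x)) • x with hb
  have hbb : f b b = 0 := by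
    rw [hb, hs.add_left, hs.add_right, hs.add_right, hs.smul_left, hs.smul_left, hs.smul_right,
      hs.smul_right, hW x hx x hx, hs.herm x (u - v₁), hs.invol, ← map_mul, div_mul_cancel₀ _ hxb]
    linear_combination hd
  have hbw : ∀ y ∈ W, f b y = f u y - f v₁ y := fun y hy => by
    rw [hb, hs.add_left, hs.smul_left, hW x hx y hy, mul_zero, add_zero, hs.toSesq.sub_left]
  have hba : f b a = 0 := by rw [hbw a haW, hua, hva, sub_self]
  have hab : f a b = 0 := hs.refl _ _ hba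
  obtain ⟨t, hti, htd, htx⟩ := hs.exists_swap_tv (hW a haW a haW) hbb hab
  have htM : t ∈ M := hmemH t hti htd fun y hy => by
    rw [htx, hW y hy a haW, zero_smul, add_zero]; exact sub_mem hy (W.smul_mem _ haW)
  refine hcoset _ u (hv₁.map hs htM hti) (by rw [hti, hv₁iso]) huu ?_ fun y hy => ?_
  · refine ⟨a, haW, ?_⟩
    rw [htx, hva, one_smul, hs.toSesq.sub_left, hs.add_left, hs.smul_left, hW a haW a haW, hba, hva]
    simp
  · rw [htx, hva, one_smul, hs.toSesq.sub_left, hs.add_left, hs.smul_left, hW a haW y hy, hbw y hy]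
    ring

/-- The case of degree at least six. -/
theorem unitary_nondeg_maximal_six {F : Type*} [Field F] [Fintype F] {n q : ℕ} (hF : Fintype.card F = q ^ 2)
    (hn : 6 ≤ n) (W : Submodule F (Fin n → F)) (hW0 : W ≠ ⊥) (hW : Geo.IsNondegenerateOn (hermForm n F q) W)
    (hdim : 2 * finrank F W < n) :
    Geo.IsMaximalIn (GU n F q ⊓ Geo.specialLinear (Fin n) F)
      (Geo.subspaceStabilizer W ⊓ (GU n F q ⊓ Geo.specialLinear (Fin n) F)) :=
  unitary_nondeg_maximal_of hF (Or.inr hn) W hW0 hW hdim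

/-- The case of degree at least six. -/
theorem unitary_parabolic_maximal_six {F : Type*} [Field F] [Fintype F] {n q : ℕ} (hF : Fintype.card F = q ^ 2)
    (hn : 6 ≤ n) (W : Submodule F (Fin n → F)) (hW0 : W ≠ ⊥)
    (hW : Geo.IsTotallySingularFor (hermForm n F q) W) :
    Geo.IsMaximalIn (GU n F q ⊓ Geo.specialLinear (Fin n) F)
      (Geo.subspaceStabilizer W ⊓ (GU n F q ⊓ Geo.specialLinear (Fin n) F)) :=
  unitary_parabolic_maximal_of hF (by omega) W hW0 hW

/-- The case of degree at least twelve. -/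
theorem unitary_nondeg_maximal {F : Type*} [Field F] [Fintype F] {n q : ℕ} (hF : Fintype.card F = q ^ 2)
    (hn : 12 ≤ n) (W : Submodule F (Fin n → F)) (hW0 : W ≠ ⊥) (hW : Geo.IsNondegenerateOn (hermForm n F q) W)
    (hdim : 2 * finrank F W < n) :
    Geo.IsMaximalIn (GU n F q ⊓ Geo.specialLinear (Fin n) F)
      (Geo.subspaceStabilizer W ⊓ (GU n F q ⊓ Geo.specialLinear (Fin n) F)) :=
  unitary_nondeg_maximal_six hF (le_trans (by norm_num) hn) W hW0 hW hdim

/-- The case of degree at least twelve. -/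
theorem unitary_parabolic_maximal {F : Type*} [Field F] [Fintype F] {n q : ℕ} (hF : Fintype.card F = q ^ 2)
    (hn : 12 ≤ n) (W : Submodule F (Fin n → F)) (hW0 : W ≠ ⊥)
    (hW : Geo.IsTotallySingularFor (hermForm n F q) W) :
    Geo.IsMaximalIn (GU n F q ⊓ Geo.specialLinear (Fin n) F)
      (Geo.subspaceStabilizer W ⊓ (GU n F q ⊓ Geo.specialLinear (Fin n) F)) :=
  unitary_parabolic_maximal_six hF (le_trans (by norm_num) hn) W hW0 hW


/-- The case of degree at least ten. -/
theorem unitary_nondeg_maximal_ten {F : Type*} [Field F] [Fintype F] {n q : ℕ} (hF : Fintype.card F = q ^ 2)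
    (hn : 10 ≤ n) (W : Submodule F (Fin n → F)) (hW0 : W ≠ ⊥) (hW : Geo.IsNondegenerateOn (hermForm n F q) W)
    (hdim : 2 * finrank F W < n) :
    Geo.IsMaximalIn (GU n F q ⊓ Geo.specialLinear (Fin n) F)
      (Geo.subspaceStabilizer W ⊓ (GU n F q ⊓ Geo.specialLinear (Fin n) F)) :=
  unitary_nondeg_maximal_six hF (le_trans (by norm_num) hn) W hW0 hW hdim

/-- The case of degree at least ten. -/
theorem unitary_parabolic_maximal_ten {F : Type*} [Field F] [Fintype F] {n q : ℕ} (hF : Fintype.card F = q ^ 2)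
    (hn : 10 ≤ n) (W : Submodule F (Fin n → F)) (hW0 : W ≠ ⊥)
    (hW : Geo.IsTotallySingularFor (hermForm n F q) W) :
    Geo.IsMaximalIn (GU n F q ⊓ Geo.specialLinear (Fin n) F)
      (Geo.subspaceStabilizer W ⊓ (GU n F q ⊓ Geo.specialLinear (Fin n) F)) :=
  unitary_parabolic_maximal_six hF (le_trans (by norm_num) hn) W hW0 hW

end Cfsg.Agent.Classical.MaxTv
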