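import Cfsg.Agent.Lib.Classical.MaxUnitFourGood

/-!
Four coordinates: the monomial group of `SU` and one further element give all transvections for at least four
elements in the fixed field.
-/

set_option autoImplicit false
set_option linter.unusedSectionVars false

namespace Cfsg.Agent.Classical.MaxUnitMon

open Matrix Module MaxTv MaxMon

variable {F : Type*} [Field F] [Fintype F] [DecidableEq F] {ι : Type} [Fintype ι] [DecidableEq ι]

local notation "V" => (ι → F)
local notation "Mn" => Matrix ι ι F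

variable {σ : F ≃+* F} {q : ℕ} {M : Subgroup (GL ι F)}

namespace Ctx

variable (X : Ctx σ q M)
include X

theorem upt_good_even (hn : Fintype.card ι = 4) (hq : 4 ≤ q) (h2 : (2 : F) = 0) (hG : Good M) :
    ∀ u, dot σ u u = 0 → UPt σ (dot σ) M u := by
  classical
  obtain ⟨k, hkM, hkm, c, ν, hkc⟩ := hG
  have hν : ν ≠ 0 := fun e => by
    have := X.iso k hkM (Pi.single c 1) (Pi.single c 1)
    rw [hkc, X.dot_self_single, e, dot_single_left] at this
    simp at this
  have hrow : ∀ j, j ≠ c → (k : Mn) c j = 0 := fun j hj => by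
    have := X.iso k hkM (Pi.single j 1) (Pi.single c 1)
    rw [hkc, dot_single_right, dot_single_right, MaxMon.col_apply, Pi.single_eq_of_ne (Ne.symm hj), zero_mul,
      mul_eq_zero] at this
    exact this.resolve_right fun e => hν (σ.map_eq_zero_iff.1 e)
  have hcolc : ∀ x, x ≠ c → (k : Mn) x c = 0 := fun x hx => by
    rw [← MaxMon.col_apply (k : Mn) x c, hkc, Pi.single_eq_of_ne hx]
  -- two columns meeting every row off the axis
  obtain ⟨p, r, hpr, hpc, hrc, hcov⟩ : ∃ p r, p ≠ r ∧ p ≠ c ∧ r ≠ c ∧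
      ∀ x, x ≠ c → (k : Mn) x p ≠ 0 ∨ (k : Mn) x r ≠ 0 := by
    obtain ⟨p, hpc, a, b, hab, hap, hbp⟩ : ∃ p, p ≠ c ∧ ∃ a b, a ≠ b ∧ (k : Mn) a p ≠ 0 ∧ (k : Mn) b p ≠ 0 := by
      by_contra h
      push Not at h
      refine hkm fun j => ?_
      by_cases hjc : j = c
      · exact ⟨c, fun i hi => by rw [hjc]; exact hcolc i hi⟩
      by_cases hz : ∀ i, (k : Mn) i j = 0
      · exact ⟨c, fun i _ => hz i⟩
      push Not at hz
      obtain ⟨a, ha⟩ := hz
      exact ⟨a, fun i hi => h j hjc a i (Ne.symm hi) ha⟩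
    have hac : a ≠ c := fun e => hap (by rw [e]; exact hrow p hpc)
    have hbc : b ≠ c := fun e => hbp (by rw [e]; exact hrow p hpc)
    obtain ⟨y, -, hy⟩ := Finset.exists_mem_notMem_of_card_lt_card (s := ({c, a, b} : Finset ι)) (t := Finset.univ)
      (lt_of_le_of_lt Finset.card_le_three (by rw [Finset.card_univ, hn]; omega))
    simp only [Finset.mem_insert, Finset.mem_singleton, not_or] at hy
    have hall : ∀ x, x ≠ c → x = a ∨ x = b ∨ x = y := fun x hx => by
      by_contra h
      push Not at h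
      have h5 := Finset.card_le_univ ({c, a, b, y, x} : Finset ι)
      rw [hn, Finset.card_insert_of_notMem (by simp [Ne.symm hac, Ne.symm hbc, Ne.symm hy.1, Ne.symm hx]),
        Finset.card_insert_of_notMem (by simp [hab, Ne.symm hy.2.1, Ne.symm h.1]),
        Finset.card_insert_of_notMem (by simp [Ne.symm hy.2.2, Ne.symm h.2.1]),
        Finset.card_pair (Ne.symm h.2.2)] at h5
      omega
    obtain ⟨r, hrc, hrp, hyr⟩ : ∃ r, r ≠ c ∧ r ≠ p ∧ ((k : Mn) y p ≠ 0 ∨ (k : Mn) y r ≠ 0) := by
      by_cases hyp : (k : Mn) y p = 0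
      · obtain ⟨r, hr⟩ : ∃ r, (k : Mn) y r ≠ 0 := by
          by_contra h
          push Not at h
          have h1 := congrFun (congrFun k.mul_inv y) y
          rw [Matrix.mul_apply, Finset.sum_eq_zero (fun j _ => by rw [h j, zero_mul]), Matrix.one_apply_eq] at h1
          exact zero_ne_one h1
        exact ⟨r, fun e => hr (by rw [e]; exact hcolc y hy.1), fun e => hr (e ▸ hyp), Or.inr hr⟩
      · obtain ⟨r, -, hr⟩ := Finset.exists_mem_notMem_of_card_lt_card (s := ({c, p} : Finset ι)) (t := Finset.univ)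
          (lt_of_le_of_lt Finset.card_le_two (by rw [Finset.card_univ, hn]; omega))
        simp only [Finset.mem_insert, Finset.mem_singleton, not_or] at hr
        exact ⟨r, hr.1, hr.2, Or.inl hyp⟩
    refine ⟨p, r, Ne.symm hrp, hpc, hrc, fun x hx => ?_⟩
    rcases hall x hx with rfl | rfl | rfl
    exacts [Or.inl hap, Or.inl hbp, hyr]
  -- a good phase
  set B : ι → Finset F := fun x => (mu σ).filter fun ρ => (k : Mn) x p + ρ * (k : Mn) x r = 0
  obtain ⟨ρ, hρ, hρB⟩ := Finset.exists_mem_notMem_of_card_lt_card (s := (Finset.univ.erase c).biUnion B) (t := mu σ) (by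
    refine lt_of_le_of_lt (Finset.card_biUnion_le_card_mul _ _ 1 fun x hx => ?_) ?_
    · refine Finset.card_le_one.2 fun s hs s' hs' => ?_
      simp only [B, Finset.mem_filter] at hs hs'
      by_contra hne
      have hr : (k : Mn) x r = 0 := (mul_eq_zero.1 (show (s - s') * (k : Mn) x r = 0 by
        linear_combination hs.2 - hs'.2)).resolve_left (sub_ne_zero.2 hne)
      exact (hcov x (Finset.ne_of_mem_erase hx)).elim (fun h => h (by simpa [hr] using hs.2)) fun h => h hr
    · rw [Finset.card_erase_of_mem (Finset.mem_univ c), Finset.card_univ, hn, X.circ.card_mu]; omega)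
  have hsup : ∀ x, x ≠ c → ((k : Mn) *ᵥ (Pi.single p 1 + Pi.single r ρ : V)) x ≠ 0 := fun x hx e => hρB
    (Finset.mem_biUnion.2 ⟨x, Finset.mem_erase.2 ⟨hx, Finset.mem_univ _⟩,
      Finset.mem_filter.2 ⟨hρ, by rw [mulVec_pair, one_mul] at e; exact e⟩⟩)
  set v := (k : Mn) *ᵥ (Pi.single p 1 + Pi.single r ρ : V) with hv
  have hvc : v c = 0 := by rw [hv, mulVec_pair, hrow p hpc, hrow r hrc]; ring
  have hvs : (supp v).card = 3 := by
    have : supp v = Finset.univ.erase c := by
      ext x
      rw [mem_supp, Finset.mem_erase]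
      exact ⟨fun h => ⟨fun e => h (e ▸ hvc), Finset.mem_univ _⟩, fun h => hsup x h.1⟩
    rw [this, Finset.card_erase_of_mem (Finset.mem_univ c), Finset.card_univ, hn]
  exact X.upt_of_tr1 (by omega) (X.tr1_map (X.tr1_pair h2 hpr hρ) hkM) (by rw [X.iso k hkM, X.iso_pair h2 hpr hρ])
    (fun e => by rw [← hv] at e; rw [e, show supp (0 : V) = ∅ by ext; simp [mem_supp], Finset.card_empty] at hvs; omega)
    (by rw [map_one]; linear_combination h2) one_ne_zero (Or.inl hvs.ge) (Or.inl (by rw [← hv, hvs, hn]; omega))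

/-- Four coordinates and four elements. -/
theorem upt_four_two (hn : Fintype.card ι = 4) (hq : q = 2) {g : GL ι F} (hg : g ∈ M) (hmon : ¬ IsMon (g : Mn)) :
    ∀ u, dot σ u u = 0 → UPt σ (dot σ) M u := by
  classical
  subst hq
  have hs := X.herm
  have h2 : (2 : F) = 0 := by simpa using X.circ.cast_q
  have hfix : ∀ c : F, σ c = c → c = 0 ∨ c = 1 := fun c hc => by
    have he : ({0, 1} : Finset F) = fix σ := Finset.eq_of_subset_of_card_le
      (by simp [Finset.insert_subset_iff, mem_fix]) (by rw [X.circ.card_fix, Finset.card_pair zero_ne_one])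
    have := mem_fix.2 hc
    rw [← he, Finset.mem_insert, Finset.mem_singleton] at this
    exact this
  have hnorm : ∀ y : F, y ≠ 0 → y * σ y = 1 := fun y hy => (hfix _ (X.norm_fix y)).resolve_left (X.norm_ne hy)
  have hn' : ∀ y : F, y ≠ 0 → y ∈ mu σ := fun y hy => mem_mu.2 (hnorm y hy)
  have hupt : ∀ v, Tr1 σ M v 1 → UPt σ (dot σ) M v := fun v h c hc => by
    rcases hfix c (by linear_combination hc - c * h2) with rfl | rfl
    · exact ⟨1, one_mem M, fun x => by simp⟩
    · exact h
  have hne3 : ∀ v : V, dot σ v v = 0 → (supp v).card ≠ 3 := fun v hv e => by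
    have h := X.sum_norm_supp hv
    rw [Finset.sum_congr rfl fun i hi => hnorm _ (mem_supp.1 hi), Finset.sum_const, e, nsmul_eq_mul, mul_one] at h
    push_cast at h
    exact one_ne_zero (α := F) (by linear_combination h - h2)
  have hfull : ∀ v : V, (supp v).card = 4 → ∀ j, v j ≠ 0 := fun v h j => mem_supp.1 (by
    rw [Finset.eq_univ_of_card (supp v) (by rw [h, hn])]; exact Finset.mem_univ j)
  obtain ⟨p, r, hpr, ρ, hρ, h3⟩ := X.exists_big_image h2 hg hmon
  set v₄ := (g : Mn) *ᵥ (Pi.single p 1 + Pi.single r ρ : V) with hv₄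
  have hv₄U : UPt σ (dot σ) M v₄ := hupt _ (X.tr1_map (X.tr1_pair h2 hpr hρ) hg)
  have hv₄c : (supp v₄).card = 4 := by
    have h4 : (supp v₄).card ≤ 4 := hn ▸ Finset.card_le_univ _
    have := hne3 v₄ (by rw [hv₄, X.iso g hg, X.iso_pair h2 hpr hρ])
    omega
  intro u hu
  rcases eq_or_ne u 0 with rfl | hu0
  · exact UPt.zero hs
  have h2u := X.two_le_supp hu hu0
  have h4u : (supp u).card ≤ 4 := hn ▸ Finset.card_le_univ _
  have h3u := hne3 u hu
  rcases Nat.lt_or_ge (supp u).card 3 with h | h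
  · -- a pair
    obtain ⟨a, b, hab, he⟩ := Finset.card_eq_two.1 (show (supp u).card = 2 by omega)
    have hc : (supp (Pi.single a 1 + Pi.single b 1 : V)).card = 2 := by
      rw [supp_pair hab one_ne_zero one_ne_zero, Finset.card_pair hab]
    obtain ⟨m, hm, hmv⟩ := X.exists_map_supp hn' (v := u) (w := Pi.single a 1 + Pi.single b 1) (by omega)
      (by omega)
    exact hmv ▸ X.upt_map (hupt _ (X.tr1_pair h2 hab one_mem_mu)) hm
  · -- full support
    have huf := hfull u (by omega)
    have hvf := hfull v₄ hv₄c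
    set c : F := (∏ j, u j / v₄ j)⁻¹ with hc
    have hπ : (∏ j, u j / v₄ j) ≠ 0 := Finset.prod_ne_zero_iff.2 fun j _ => div_ne_zero (huf j) (hvf j)
    have hc0 : c ≠ 0 := inv_ne_zero hπ
    obtain ⟨d, hd, hdz⟩ := X.exists_diag_mem (fun j => c * (u j / v₄ j))
      (fun j => hn' _ (mul_ne_zero hc0 (div_ne_zero (huf j) (hvf j)))) (by
      rw [Finset.prod_mul_distrib, Finset.prod_const, Finset.card_univ, hn, pow_succ,
        show c ^ 3 = 1 by have := X.circ.pow_mu (hn' c hc0); simpa using this, one_mul, hc, inv_mul_cancel₀ hπ])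
    have hd' : (d : Mn) *ᵥ v₄ = c • u := funext fun j => by
      rw [hdz, Pi.smul_apply, smul_eq_mul, mul_assoc, div_mul_cancel₀ _ (hvf j)]
    have hU := X.upt_map hv₄U hd
    rw [hd'] at hU
    have := hU.smul hs c⁻¹
    rwa [smul_smul, inv_mul_cancel₀ hc0, one_smul] at this

theorem upt_four (hn : Fintype.card ι = 4) (hq3 : q ≠ 3) {g : GL ι F} (hg : g ∈ M) (hmon : ¬ IsMon (g : Mn)) :
    ∀ u, dot σ u u = 0 → UPt σ (dot σ) M u := by
  rcases Nat.lt_or_ge q 4 with hq | hq
  · exact X.upt_four_two hn (by have := X.two_le_q; omega) hg hmon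
  have hG := X.exists_good_four hn hq hg hmon
  by_cases h2 : (2 : F) = 0
  · exact X.upt_good_even hn hq h2 hG
  · exact X.upt_of_good (by omega) h2 hG

end Ctx

end Cfsg.Agent.Classical.MaxUnitMon
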