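import Cfsg.Agent.Lib.Classical.MaxUnitary

/-!
Elements of norm one in a finite field with an involution: sums, traces, vanishing sums of given product.
-/

set_option autoImplicit false
set_option linter.unusedSectionVars false

namespace Cfsg.Agent.Classical.MaxUnitMon

open Finset

variable {F : Type*} [Field F] [Fintype F] [DecidableEq F]

/-- A field with `q ^ 2` elements and its involution. -/
structure Circ (σ : F ≃+* F) (q : ℕ) : Prop where
  hF : Fintype.card F = q ^ 2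
  apply : ∀ x, σ x = x ^ q

/-- Elements of norm one. -/
def mu (σ : F ≃+* F) : Finset F := Finset.univ.filter fun z => z * σ z = 1

/-- Fixed elements. -/
def fix (σ : F ≃+* F) : Finset F := Finset.univ.filter fun x => σ x = x

variable {σ : F ≃+* F} {q : ℕ}

theorem mem_mu {z : F} : z ∈ mu σ ↔ z * σ z = 1 := by simp [mu]

theorem mem_fix {x : F} : x ∈ fix σ ↔ σ x = x := by simp [fix]

theorem mu_ne {z : F} (hz : z ∈ mu σ) : z ≠ 0 := fun e => by simp [mem_mu, e] at hz

theorem mu_inv {z : F} (hz : z ∈ mu σ) : σ z = z⁻¹ :=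
  eq_inv_of_mul_eq_one_right (mem_mu.1 hz)

theorem one_mem_mu : (1 : F) ∈ mu σ := by simp [mem_mu]

theorem mul_mem_mu {a b : F} (ha : a ∈ mu σ) (hb : b ∈ mu σ) : a * b ∈ mu σ := by
  rw [mem_mu, map_mul]
  linear_combination (b * σ b) * mem_mu.1 ha + mem_mu.1 hb

theorem inv_mem_mu {a : F} (ha : a ∈ mu σ) : a⁻¹ ∈ mu σ := by
  rw [mem_mu, map_inv₀, ← mul_inv, mem_mu.1 ha, inv_one]

theorem zpow_mem_mu {a : F} (ha : a ∈ mu σ) (i : ℤ) : a ^ i ∈ mu σ := by
  rw [mem_mu, map_zpow₀, ← mul_zpow, mem_mu.1 ha, one_zpow]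

theorem prod_mem_mu {ι : Type*} (s : Finset ι) (g : ι → F) (h : ∀ i ∈ s, g i ∈ mu σ) : ∏ i ∈ s, g i ∈ mu σ :=
  Finset.prod_induction _ (· ∈ mu σ) (fun _ _ => mul_mem_mu) one_mem_mu h

/-- A real line meets the circle at most twice. -/
theorem line_fiber {β : F} (hβ : β ≠ 0) (K : F) :
    ((mu σ).filter fun z => β * z + σ (β * z) = K).card ≤ 2 := by
  by_contra hc
  obtain ⟨a, b, c, ha, hb, hc', hab, hac, hbc⟩ := Finset.two_lt_card_iff.1 (not_le.1 hc)
  simp only [Finset.mem_filter] at ha hb hc'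
  have key : ∀ z, z ∈ mu σ ∧ β * z + σ (β * z) = K → β * z ^ 2 + σ β = K * z := by
    rintro z ⟨hz, e⟩
    rw [map_mul] at e
    linear_combination z * e - σ β * mem_mu.1 hz
  have e1 := key a ha
  have e2 := key b hb
  have e3 := key c hc'
  have h1 : β * (a + b) = K := mul_left_cancel₀ (sub_ne_zero.2 hab) (by linear_combination e1 - e2)
  have h2 : β * (a + c) = K := mul_left_cancel₀ (sub_ne_zero.2 hac) (by linear_combination e1 - e3)
  exact hbc (add_left_cancel (mul_left_cancel₀ hβ (h1.trans h2.symm)))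

/-- Values of a real functional on the circle. -/
theorem le_two_mul_card_image {β : F} (hβ : β ≠ 0) (γ : F) (g : F → F)
    (hg : ∀ z ∈ mu σ, g z = γ + (β * z + σ (β * z))) : (mu σ).card ≤ 2 * ((mu σ).image g).card :=
  Finset.card_le_mul_card_image (mu σ) 2 fun K _ => le_trans
    (Finset.card_le_card fun z hz => by
      simp only [Finset.mem_filter] at hz ⊢
      exact ⟨hz.1, by rw [← hz.2, hg z hz.1]; ring⟩) (line_fiber hβ (K - γ))

namespace Circ

variable (hC : Circ σ q)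
include hC

theorem invol (x : F) : σ (σ x) = x := by
  rw [hC.apply, hC.apply, ← pow_mul, ← sq, ← hC.hF, FiniteField.pow_card]

theorem two_le : 2 ≤ q := two_le_q hC.hF

theorem cast_q : (q : F) = 0 := by
  have : ((Fintype.card F : ℕ) : F) = 0 := by simp
  rwa [hC.hF, Nat.cast_pow, pow_eq_zero_iff (by norm_num)] at this

theorem mem_mu_iff {z : F} : z ∈ mu σ ↔ z ^ (q + 1) = 1 := by rw [mem_mu, hC.apply, ← pow_succ']

theorem card_mu : (mu σ).card = q + 1 := by
  have h := natCard_norm_eq hC.hF (one_pow q) (one_ne_zero (α := F))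
  rw [Nat.card_eq_fintype_card, Fintype.card_subtype] at h
  rw [← h]
  congr 1
  ext z
  simp [hC.mem_mu_iff]

theorem pow_mu {z : F} (hz : z ∈ mu σ) : z ^ (q + 1) = 1 := hC.mem_mu_iff.1 hz

theorem σ_ne : ∃ a : F, σ a ≠ a := by
  by_contra h
  push Not at h
  exact qFrob_ne_id hC.hF (RingHom.ext fun x => by rw [qFrob_apply, ← hC.apply, h x]; rfl)

theorem card_fix : (fix σ).card = q := by
  obtain ⟨θ, hθ⟩ := hC.σ_ne
  have hθ' : θ - σ θ ≠ 0 := sub_ne_zero.2 (Ne.symm hθ)
  have h : (fix σ ×ˢ fix σ).card = (Finset.univ : Finset F).card := by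
    refine Finset.card_bij (fun p _ => p.1 + θ * p.2) (fun _ _ => Finset.mem_univ _) (fun a ha b hb e => ?_)
      fun z _ => ?_
    · simp only [Finset.mem_product, mem_fix] at ha hb
      have e' := congrArg σ e
      simp only [map_add, map_mul, ha.1, ha.2, hb.1, hb.2] at e'
      have h2 : a.2 = b.2 := mul_left_cancel₀ hθ' (by linear_combination e - e')
      exact Prod.ext (by rw [h2] at e; exact add_right_cancel e) h2
    · have hy : σ ((z - σ z) / (θ - σ θ)) = (z - σ z) / (θ - σ θ) := by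
        rw [map_div₀, map_sub, map_sub, hC.invol, hC.invol, ← neg_sub, ← neg_sub θ, neg_div_neg_eq]
      refine ⟨(z - θ * ((z - σ z) / (θ - σ θ)), (z - σ z) / (θ - σ θ)), ?_, sub_add_cancel _ _⟩
      simp only [Finset.mem_product, mem_fix]
      refine ⟨?_, hy⟩
      rw [map_sub, map_mul, hy]
      field_simp
      ring
  rw [Finset.card_product, Finset.card_univ, hC.hF, ← sq] at h
  exact Nat.pow_left_injective (by norm_num) h

theorem trace_fix (x : F) : x + σ x ∈ fix σ := by rw [mem_fix, map_add, hC.invol, add_comm]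

/-- Traces of elements of norm one other than one. -/
theorem card_trace : q ≤ 2 * (((mu σ).erase 1).image fun z => z + σ z - 2).card ∧
    ∀ t ∈ ((mu σ).erase 1).image (fun z => z + σ z - 2), t ∈ fix σ ∧ t ≠ 0 := by
  constructor
  · have h := Finset.card_le_mul_card_image ((mu σ).erase 1) 2 (f := fun z => z + σ z - 2) fun K _ => le_trans
      (Finset.card_le_card fun z hz => by
        simp only [Finset.mem_filter, Finset.mem_erase] at hz ⊢
        exact ⟨hz.1.2, by rw [one_mul, ← hz.2]; ring⟩) (line_fiber (σ := σ) (one_ne_zero (α := F)) (K + 2))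
    rw [Finset.card_erase_of_mem one_mem_mu, hC.card_mu] at h
    omega
  · intro t ht
    simp only [Finset.mem_image, Finset.mem_erase] at ht
    obtain ⟨z, ⟨hz1, hz⟩, rfl⟩ := ht
    refine ⟨?_, fun e => hz1 ?_⟩
    · rw [mem_fix, map_sub, map_add, hC.invol, map_ofNat, add_comm]
    · have : (z - 1) ^ 2 = 0 := by linear_combination z * e - mem_mu.1 hz
      exact sub_eq_zero.1 ((pow_eq_zero_iff (by norm_num)).1 this)

theorem trace_exists (T : Finset F) (hT : 2 * T.card + 1 ≤ q) :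
    ∃ z ∈ mu σ, z ≠ 1 ∧ z + σ z ∉ T ∧ z + σ z ≠ 2 := by
  obtain ⟨h, h'⟩ := hC.card_trace
  have : (T.image fun t => t - 2).card < (((mu σ).erase 1).image fun z => z + σ z - 2).card := by
    have := Finset.card_image_le (s := T) (f := fun t => t - 2)
    omega
  obtain ⟨x, hx, hxT⟩ := Finset.exists_mem_notMem_of_card_lt_card this
  have hx0 := (h' x hx).2
  simp only [Finset.mem_image, Finset.mem_erase] at hx
  obtain ⟨z, ⟨hz1, hz⟩, rfl⟩ := hx
  exact ⟨z, hz, hz1, fun hm => hxT (Finset.mem_image_of_mem (fun t => t - 2) hm), sub_ne_zero.1 hx0⟩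

/-- Three masses. -/
theorem exists_masses {N R : F} (hN : σ N = N) (hR : σ R = R) (hN0 : N ≠ 0) (hR0 : R ≠ 0) :
    ∃ z ∈ mu σ, ∃ y ∈ mu σ, z ≠ 1 ∧ y ≠ 1 ∧
      N * (σ z - 1) + R * (σ y - 1) ≠ 0 ∧
      (N * (σ z - 1) + R * (σ y - 1)) + σ (N * (σ z - 1) + R * (σ y - 1)) = 0 := by
  classical
  obtain ⟨h, h'⟩ := hC.card_trace
  set T := ((mu σ).erase 1).image fun z => z + σ z - 2 with hT
  set k := -R / N with hk
  have hk0 : k ≠ 0 := div_ne_zero (neg_ne_zero.2 hR0) hN0
  have hT' : (T.image fun t => k * t).card = T.card := Finset.card_image_of_injective _ (mul_right_injective₀ hk0)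
  have hsub : T ∪ T.image (fun t => k * t) ⊆ (fix σ).erase 0 := by
    intro x hx
    rw [Finset.mem_erase]
    rcases Finset.mem_union.1 hx with hx | hx
    · exact ⟨(h' x hx).2, (h' x hx).1⟩
    · obtain ⟨t, ht, rfl⟩ := Finset.mem_image.1 hx
      refine ⟨mul_ne_zero hk0 (h' t ht).2, ?_⟩
      rw [mem_fix, map_mul, hk, map_div₀, map_neg, hN, hR, mem_fix.1 (h' t ht).1]
  have hsum := Finset.card_union_add_card_inter T (T.image fun t => k * t)
  have hle := Finset.card_le_card hsub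
  rw [Finset.card_erase_of_mem (by simp [mem_fix]), hC.card_fix] at hle
  obtain ⟨x, hx, hx4⟩ : ∃ x ∈ T ∩ T.image (fun t => k * t), (2 : F) ≠ 0 → x ≠ -4 := by
    by_cases h2 : (2 : F) = 0
    · obtain ⟨x, hx⟩ := Finset.card_pos.1 (show 0 < (T ∩ T.image fun t => k * t).card by
        have := hC.two_le; omega)
      exact ⟨x, hx, fun e => absurd h2 e⟩
    · have hodd : Odd q := by
        rw [← Nat.not_even_iff_odd]
        rintro ⟨r, hr⟩
        have hc := hC.cast_q
        rw [hr, Nat.cast_add, ← two_mul] at hc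
        have hr0 : (r : F) = 0 := (mul_eq_zero.1 hc).resolve_left h2
        obtain ⟨p, hp⟩ := CharP.exists F
        have hpp : p.Prime := CharP.char_is_prime F p
        obtain ⟨⟨a, ha⟩, hpa, hca⟩ := FiniteField.card F p
        rw [hC.hF, hr] at hca
        have h2d : 2 ∣ p := Nat.prime_two.dvd_of_dvd_pow (n := a) (hca ▸ Dvd.intro (2 * r ^ 2) (by ring))
        have := (Nat.prime_dvd_prime_iff_eq Nat.prime_two hpp).1 h2d
        subst this
        exact h2 (by exact_mod_cast CharP.cast_eq_zero F 2)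
      obtain ⟨m, hm⟩ := hodd
      obtain ⟨x, hx, hx'⟩ := Finset.exists_mem_ne (show 1 < (T ∩ T.image fun t => k * t).card by omega) (-4)
      exact ⟨x, hx, fun _ => hx'⟩
  obtain ⟨hxT, hx'⟩ := Finset.mem_inter.1 hx
  obtain ⟨t, ht, hxt⟩ := Finset.mem_image.1 hx'
  rw [hT, Finset.mem_image] at hxT ht
  obtain ⟨z, hz', hxz⟩ := hxT
  obtain ⟨y, hy', hty⟩ := ht
  rw [Finset.mem_erase] at hz' hy'
  have hlin : N * x + R * t = 0 := by rw [← hxt, hk]; field_simp; ring
  have hskew : ∀ z' y', z' + σ z' - 2 = x → y' + σ y' - 2 = t →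
      (N * (σ z' - 1) + R * (σ y' - 1)) + σ (N * (σ z' - 1) + R * (σ y' - 1)) = 0 := fun z' y' e1 e2 => by
    simp only [map_add, map_mul, map_sub, map_one, hN, hR, hC.invol]
    linear_combination hlin + N * e1 + R * e2
  by_cases h0 : N * (σ z - 1) + R * (σ y - 1) ≠ 0
  · exact ⟨z, hz'.2, y, hy'.2, hz'.1, hy'.1, h0, hskew z y hxz hty⟩
  push Not at h0
  have hz1 : σ z ≠ 1 := fun e => hz'.1 (by rw [← hC.invol z, e, map_one])
  have hy1 : σ y ≠ 1 := fun e => hy'.1 (by rw [← hC.invol y, e, map_one])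
  have hzm : σ z ∈ mu σ := by rw [mem_mu, hC.invol, mul_comm]; exact mem_mu.1 hz'.2
  have hym : σ y ∈ mu σ := by rw [mem_mu, hC.invol, mul_comm]; exact mem_mu.1 hy'.2
  by_cases hz2 : σ z ≠ z
  · refine ⟨σ z, hzm, y, hy'.2, hz1, hy'.1, fun e => hz2 (mul_left_cancel₀ hN0 ?_), hskew (σ z) y
      (by rw [hC.invol, add_comm]; exact hxz) hty⟩
    rw [hC.invol] at e
    linear_combination h0 - e
  push Not at hz2
  exfalso
  have hzz : (z - 1) * (z + 1) = 0 := by
    have := mem_mu.1 hz'.2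
    rw [hz2] at this
    linear_combination this
  have hzneg : z = -1 := eq_neg_of_add_eq_zero_left ((mul_eq_zero.1 hzz).resolve_left (sub_ne_zero.2 hz'.1))
  have h2 : (2 : F) ≠ 0 := fun e => hz'.1 (by rw [hzneg]; linear_combination -e)
  exact hx4 h2 (by rw [← hxz, hz2, hzneg]; ring)

/-- Traces for a repeated eigenvalue. -/
theorem exists_eigen_pair {G : F} (hG : σ G = G) (hG0 : G ≠ 0) :
    ∃ a ∈ mu σ, ∃ e ∈ mu σ, a + σ a ≠ 2 ∧ (e + σ e - (a + σ a)) * G = 2 - (a + σ a) := by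
  classical
  obtain ⟨h, h'⟩ := hC.card_trace
  set T := (((mu σ).erase 1).image fun z => z + σ z - 2)
  set k := 1 - 1 / G with hk
  rcases eq_or_ne k 0 with hk0 | hk0
  · have hG1 : G = 1 := by
      rw [hk, sub_eq_zero, eq_div_iff hG0, one_mul] at hk0
      exact hk0
    obtain ⟨x, hx⟩ := Finset.card_pos.1 (show 0 < T.card by have := hC.two_le; omega)
    obtain ⟨z, hz, rfl⟩ := Finset.mem_image.1 hx
    refine ⟨z, (Finset.mem_erase.1 hz).2, 1, one_mem_mu, sub_ne_zero.1 (h' _ hx).2, ?_⟩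
    rw [map_one, hG1]
    ring
  have hT' : (T.image fun t => k * t).card = T.card := Finset.card_image_of_injective _ (mul_right_injective₀ hk0)
  have hsub : T ∪ T.image (fun t => k * t) ⊆ (fix σ).erase 0 := by
    intro x hx
    rw [Finset.mem_erase]
    rcases Finset.mem_union.1 hx with hx | hx
    · exact ⟨(h' x hx).2, (h' x hx).1⟩
    · obtain ⟨t, ht, rfl⟩ := Finset.mem_image.1 hx
      exact ⟨mul_ne_zero hk0 (h' t ht).2,
        by rw [mem_fix, map_mul, hk, map_sub, map_div₀, map_one, hG, mem_fix.1 (h' t ht).1]⟩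
  have hsum := Finset.card_union_add_card_inter T (T.image fun t => k * t)
  have hle := Finset.card_le_card hsub
  rw [Finset.card_erase_of_mem (by simp [mem_fix]), hC.card_fix] at hle
  obtain ⟨x, hx⟩ := Finset.card_pos.1 (show 0 < (T ∩ T.image fun t => k * t).card by
    have := hC.two_le; omega)
  obtain ⟨hxT, hx'⟩ := Finset.mem_inter.1 hx
  obtain ⟨t, ht, hxt⟩ := Finset.mem_image.1 hx'
  obtain ⟨e, he, hex⟩ := Finset.mem_image.1 hxT
  obtain ⟨a, ha, hat⟩ := Finset.mem_image.1 ht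
  refine ⟨a, (Finset.mem_erase.1 ha).2, e, (Finset.mem_erase.1 he).2, fun h2 => (h' t ht).2 (by rw [← hat, h2, sub_self]), ?_⟩
  have : x * G = (G - 1) * t := by rw [← hxt, hk]; field_simp
  linear_combination this + G * hex - (G - 1) * hat

/-- The circle is not contained in roots of unity of small order. -/
theorem exists_generic (hq : 3 ≤ q) : ∃ l ∈ mu σ, l ^ 2 ≠ 1 ∧ l ^ 3 ≠ 1 := by
  classical
  have hroots : ∀ d : ℕ, 0 < d → ((mu σ).filter fun z => z ^ d = 1).card ≤ d := fun d hd => by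
    refine le_trans (Finset.card_le_card (t := (Polynomial.nthRoots d (1 : F)).toFinset) fun z hz => ?_) ?_
    · simp only [Finset.mem_filter] at hz
      rw [Multiset.mem_toFinset, Polynomial.mem_nthRoots hd]
      exact hz.2
    · exact (Multiset.toFinset_card_le _).trans (Polynomial.card_nthRoots d 1)
  by_contra hc
  push Not at hc
  rcases Nat.lt_or_ge 3 q with h4 | h4
  · have hsub : mu σ ⊆ ((mu σ).filter fun z => z ^ 2 = 1) ∪ (((mu σ).filter fun z => z ^ 3 = 1).erase 1) := by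
      intro z hz
      by_cases h2 : z ^ 2 = 1
      · exact Finset.mem_union_left _ (Finset.mem_filter.2 ⟨hz, h2⟩)
      · exact Finset.mem_union_right _ (Finset.mem_erase.2
          ⟨fun e => h2 (by rw [e]; simp), Finset.mem_filter.2 ⟨hz, hc z hz h2⟩⟩)
    have h := (Finset.card_le_card hsub).trans (Finset.card_union_le _ _)
    rw [hC.card_mu, Finset.card_erase_of_mem (by simp [one_mem_mu])] at h
    have h1 := hroots 2 (by norm_num)
    have h1' := hroots 3 (by norm_num)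
    omega
  · obtain rfl : q = 3 := by omega
    have h := hroots 2 (by norm_num)
    obtain ⟨z, hz, hz2⟩ := Finset.exists_mem_notMem_of_card_lt_card
      (show ((mu σ).filter fun z => z ^ 2 = 1).card < (mu σ).card by rw [hC.card_mu]; omega)
    have h2 : z ^ 2 ≠ 1 := fun e => hz2 (Finset.mem_filter.2 ⟨hz, e⟩)
    have h3 := hc z hz h2
    have h5 := hC.pow_mu hz
    exact h2 (by rw [show z = 1 by linear_combination h5 - z * h3]; simp)

/-- Two circles cover more than half of the field, with room for one circle. -/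
theorem le_card_two {a b : F} (ha : a ≠ 0) (hb : b ≠ 0) :
    q ^ 2 + q + 2 ≤ 2 * (Finset.univ.filter fun x => ∃ α ∈ mu σ, ∃ β ∈ mu σ, a * α + b * β = x).card := by
  classical
  set g : F × F → F := fun p => a * p.1 + b * p.2
  set S := (Finset.univ.filter fun x => ∃ α ∈ mu σ, ∃ β ∈ mu σ, a * α + b * β = x) with hS
  set P := mu σ ×ˢ mu σ
  have hfib : ∀ x, (P.filter fun p => g p = x).card ≤ if x = 0 then q + 1 else 2 := fun x => by
    have hinj : Set.InjOn Prod.fst ((P.filter fun p => g p = x) : Set (F × F)) := fun p hp p' hp' e => by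
      simp only [Finset.coe_filter, Set.mem_setOf_eq, g] at hp hp'
      exact Prod.ext e (mul_left_cancel₀ hb (by linear_combination hp.2 - hp'.2 - a * e))
    rw [← Finset.card_image_of_injOn hinj]
    split_ifs with hx
    · rw [← hC.card_mu]
      exact Finset.card_le_card fun α hα => by
        obtain ⟨p, hp, rfl⟩ := Finset.mem_image.1 hα
        exact (Finset.mem_product.1 (Finset.mem_filter.1 hp).1).1
    · refine le_trans (Finset.card_le_card fun α hα => ?_)
        (line_fiber (σ := σ) (show a * σ x ≠ 0 from mul_ne_zero ha (fun e => hx (σ.map_eq_zero_iff.1 e)))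
          (x * σ x + a * σ a - b * σ b))
      obtain ⟨p, hp, rfl⟩ := Finset.mem_image.1 hα
      simp only [Finset.mem_filter, Finset.mem_product, P, g] at hp ⊢
      refine ⟨hp.1.1, ?_⟩
      have e : b * p.2 = x - a * p.1 := by linear_combination hp.2
      have e' := congrArg σ e
      simp only [map_mul, map_sub] at e'
      simp only [map_mul, hC.invol]
      linear_combination (a * σ a) * mem_mu.1 hp.1.1 - (b * σ b) * mem_mu.1 hp.1.2 +
        σ b * σ p.2 * e + (x - a * p.1) * e'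
  have hmap : ∀ p ∈ P, g p ∈ S := fun p hp => by
    simp only [hS, Finset.mem_filter, Finset.mem_univ, true_and]
    exact ⟨p.1, (Finset.mem_product.1 hp).1, p.2, (Finset.mem_product.1 hp).2, rfl⟩
  have h := Finset.card_eq_sum_card_fiberwise (f := g) (s := P) (t := S) hmap
  rw [Finset.card_product, hC.card_mu] at h
  have h2 : ∑ x ∈ S, (P.filter fun p => g p = x).card ≤ ∑ x ∈ S, (2 + if x = 0 then q - 1 else 0) :=
    Finset.sum_le_sum fun x _ => (hfib x).trans (by split_ifs <;> omega)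
  rw [← h, Finset.sum_add_distrib, Finset.sum_const, smul_eq_mul, Finset.sum_ite_eq'] at h2
  obtain ⟨r, rfl⟩ : ∃ r, q = r + 2 := ⟨q - 2, by have := hC.two_le; omega⟩
  simp only [show r + 2 - 1 = r + 1 from rfl] at h2
  split_ifs at h2 <;> nlinarith

theorem card_two {a b : F} (ha : a ≠ 0) (hb : b ≠ 0) :
    q ^ 2 < 2 * (Finset.univ.filter fun x => ∃ α ∈ mu σ, ∃ β ∈ mu σ, a * α + b * β = x).card :=
  lt_of_lt_of_le (by omega) (hC.le_card_two ha hb)

/-- Four circles cover the field. -/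
theorem exists_four {a b c e : F} (ha : a ≠ 0) (hb : b ≠ 0) (hc : c ≠ 0) (he : e ≠ 0) (T : F) :
    ∃ w ∈ mu σ, ∃ x ∈ mu σ, ∃ y ∈ mu σ, ∃ z ∈ mu σ, a * w + b * x + c * y + e * z = T := by
  classical
  set S := (Finset.univ.filter fun u => ∃ α ∈ mu σ, ∃ β ∈ mu σ, a * α + b * β = u)
  set S' := (Finset.univ.filter fun u => ∃ α ∈ mu σ, ∃ β ∈ mu σ, c * α + e * β = u)
  have h1 : (S'.image fun u => T - u).card = S'.card :=
    Finset.card_image_of_injective _ fun u u' h => sub_right_injective h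
  have h2 := Finset.card_union_add_card_inter S (S'.image fun u => T - u)
  have h3 := Finset.card_le_univ (S ∪ S'.image fun u => T - u)
  rw [hC.hF] at h3
  have h4 : q ^ 2 < 2 * S.card := hC.card_two ha hb
  have h5 : q ^ 2 < 2 * S'.card := hC.card_two hc he
  obtain ⟨u, hu⟩ := Finset.card_pos.1 (show 0 < (S ∩ S'.image fun u => T - u).card by omega)
  rw [Finset.mem_inter, Finset.mem_image] at hu
  obtain ⟨h6, u', h7, h8⟩ := hu
  simp only [S, S', Finset.mem_filter, Finset.mem_univ, true_and] at h6 h7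
  obtain ⟨w, hw, x, hx, e1⟩ := h6
  obtain ⟨y, hy, z, hz, e2⟩ := h7
  exact ⟨w, hw, x, hx, y, hy, z, hz, by linear_combination e1 + e2 - h8⟩

variable {ι : Type} [Fintype ι] [DecidableEq ι]

theorem exists_sum {S : Finset ι} (hS : 4 ≤ S.card) {c : ι → F} (hc : ∀ j ∈ S, c j ≠ 0) (T : F) :
    ∃ d : ι → F, (∀ j, d j ∈ mu σ) ∧ ∑ j ∈ S, c j * d j = T := by
  classical
  obtain ⟨U, hU, hU'⟩ := Finset.exists_subset_card_eq hS
  let u : Fin 4 → ι := fun p => (U.equivFinOfCardEq hU').symm p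
  have hu : Function.Injective u := Subtype.val_injective.comp (U.equivFinOfCardEq hU').symm.injective
  have huS : ∀ p, u p ∈ S := fun p => hU ((U.equivFinOfCardEq hU').symm p).2
  obtain ⟨w, hw, x, hx, y, hy, z, hz, e⟩ := hC.exists_four (hc _ (huS 0)) (hc _ (huS 1)) (hc _ (huS 2))
    (hc _ (huS 3)) (T - ∑ j ∈ S \ Finset.univ.image u, c j)
  let w' : Fin 4 → F := ![w, x, y, z]
  have hw' : ∀ p, w' p ∈ mu σ := by intro p; fin_cases p <;> assumption
  refine ⟨Function.extend u w' (fun _ => 1), fun j => ?_, ?_⟩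
  · by_cases h : ∃ p, u p = j
    · obtain ⟨p, rfl⟩ := h; rw [hu.extend_apply]; exact hw' p
    · rw [Function.extend_apply' _ _ _ h]; exact one_mem_mu
  rw [← Finset.sum_sdiff (show Finset.univ.image u ⊆ S from fun j hj => by
    obtain ⟨p, -, rfl⟩ := Finset.mem_image.1 hj; exact huS p), Finset.sum_image (fun p _ p' _ h => hu h)]
  rw [Finset.sum_congr rfl (g := c) (fun j hj => by
    rw [Function.extend_apply' _ _ _ (fun ⟨p, hp⟩ => (Finset.mem_sdiff.1 hj).2
      (Finset.mem_image.2 ⟨p, Finset.mem_univ _, hp⟩)), mul_one])]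
  simp only [hu.extend_apply, Fin.sum_univ_four]
  show _ + (c (u 0) * w + c (u 1) * x + c (u 2) * y + c (u 3) * z) = T
  linear_combination e

omit hC in
theorem exists_coprime_split {n : ℕ} (hn : 12 ≤ n) : ∃ b, 4 ≤ b ∧ b + 1 ≤ n / 2 ∧ Nat.Coprime b n := by
  rcases Nat.even_or_odd n with ⟨m, hm⟩ | ⟨m, hm⟩
  · rcases Nat.even_or_odd m with ⟨r, hr⟩ | ⟨r, hr⟩
    · refine ⟨m - 1, by omega, by omega, ?_⟩
      have hg := Nat.gcd_dvd (m - 1) n
      have h2 : Nat.gcd (m - 1) n ∣ 2 := by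
        have := Nat.dvd_sub hg.2 (hg.1.mul_left 2)
        rwa [show n - 2 * (m - 1) = 2 by omega] at this
      rcases (Nat.dvd_prime Nat.prime_two).1 h2 with h | h
      · exact h
      · have := hg.1; rw [h] at this; omega
    · refine ⟨m - 2, by omega, by omega, ?_⟩
      have hg := Nat.gcd_dvd (m - 2) n
      have h2 : Nat.gcd (m - 2) n ∣ 2 ^ 2 := by
        have := Nat.dvd_sub hg.2 (hg.1.mul_left 2)
        rwa [show n - 2 * (m - 2) = 2 ^ 2 by omega] at this
      obtain ⟨i, -, hi⟩ := (Nat.dvd_prime_pow Nat.prime_two).1 h2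
      rcases Nat.eq_zero_or_pos i with rfl | hi0
      · simpa using hi
      · have h := hg.1
        rw [hi] at h
        have := (dvd_pow_self 2 hi0.ne').trans h
        omega
  · refine ⟨4, le_rfl, by omega, ?_⟩
    rw [show (4 : ℕ) = 2 ^ 2 by norm_num, Nat.coprime_pow_left_iff (by norm_num)]
    exact (Nat.coprime_two_left).2 ⟨m, hm⟩

/-- Vanishing sums with product one and prescribed ratios, from a coprime splitting. -/
theorem exists_zero_sum_split {J B : Finset ι} {b : ℕ} (hB : B ⊆ Jᶜ) (hBc : B.card = b) (hb4 : 4 ≤ b)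
    (hco : Nat.Coprime (Nat.gcd b (Fintype.card ι)) (q + 1)) {ρ : ι → F} (hρ : ∀ j, ρ j ∈ mu σ) {c : ι → F}
    (hc : ∀ j, j ∉ J → c j ≠ 0)
    (hsol : ∃ dA : ι → F, (∀ j, dA j ∈ mu σ) ∧ ∑ j ∈ Bᶜ \ J, c j * dA j = -∑ j ∈ J, c j * ρ j) :
    ∃ d : ι → F, ∃ e : F, e ∈ mu σ ∧ (∀ j, d j ∈ mu σ) ∧
      (∀ j ∈ J, d j = e * ρ j) ∧ ∏ j, d j = 1 ∧ ∑ j, c j * d j = 0 := by
  classical
  have hbn : b ≤ Fintype.card ι := hBc ▸ Finset.card_le_univ B
  set A := Bᶜ with hA
  have hJA : J ⊆ A := fun j hj => by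
    rw [hA, Finset.mem_compl]
    exact fun h => Finset.mem_compl.1 (hB h) hj
  obtain ⟨dA, hdA, hdA'⟩ := hsol
  obtain ⟨dB, hdB, hdB'⟩ := hC.exists_sum (S := B) (by omega) (fun j hj => hc j (Finset.mem_compl.1 (hB hj))) 0
  let d₀ : ι → F := fun j => if j ∈ B then dB j else if j ∈ J then ρ j else dA j
  have hd₀ : ∀ j, d₀ j ∈ mu σ := fun j => by
    simp only [d₀]; split_ifs
    exacts [hdB j, hρ j, hdA j]
  set P := ∏ j, d₀ j with hP
  have hPm : P ∈ mu σ := prod_mem_mu _ _ fun j _ => hd₀ j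
  set g := Nat.gcd A.card b with hgdef
  have hgq : Nat.Coprime g (q + 1) := by
    rw [hgdef, Nat.gcd_comm A.card b, hA, Finset.card_compl, hBc, Nat.gcd_sub_self_right hbn]
    exact hco
  -- a root of `P⁻¹` of order `g`
  obtain ⟨w, hw, hwg⟩ : ∃ w ∈ mu σ, w ^ (g : ℤ) = P⁻¹ := by
    have hbez := Nat.gcd_eq_gcd_ab g (q + 1)
    rw [hgq.gcd_eq_one] at hbez
    refine ⟨P⁻¹ ^ Nat.gcdA g (q + 1), zpow_mem_mu (inv_mem_mu hPm) _, ?_⟩
    have h1 : P⁻¹ ^ (((q + 1 : ℕ) : ℤ) * Nat.gcdB g (q + 1)) = 1 := by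
      rw [_root_.zpow_mul, zpow_natCast, hC.pow_mu (inv_mem_mu hPm), one_zpow]
    calc (P⁻¹ ^ Nat.gcdA g (q + 1)) ^ (g : ℤ)
        = P⁻¹ ^ ((g : ℤ) * Nat.gcdA g (q + 1)) * P⁻¹ ^ (((q + 1 : ℕ) : ℤ) * Nat.gcdB g (q + 1)) := by
          rw [h1, mul_one, ← _root_.zpow_mul, mul_comm]
      _ = P⁻¹ := by rw [← zpow_add₀ (inv_ne_zero (mu_ne hPm)), ← hbez, Nat.cast_one, zpow_one]
  have hbez := Nat.gcd_eq_gcd_ab A.card b
  rw [← hgdef] at hbez
  set z₁ := w ^ Nat.gcdA A.card b
  set z₂ := w ^ Nat.gcdB A.card b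
  have hz₁ : z₁ ∈ mu σ := zpow_mem_mu hw _
  have hz₂ : z₂ ∈ mu σ := zpow_mem_mu hw _
  refine ⟨fun j => if j ∈ B then z₂ * d₀ j else z₁ * d₀ j, z₁, hz₁, fun j => ?_, fun j hj => ?_, ?_, ?_⟩
  · dsimp only
    split_ifs
    exacts [mul_mem_mu hz₂ (hd₀ j), mul_mem_mu hz₁ (hd₀ j)]
  · have : j ∉ B := fun h => Finset.mem_compl.1 (hB h) hj
    simp [d₀, this, hj]
  · have : ∀ j, (if j ∈ B then z₂ * d₀ j else z₁ * d₀ j) = (if j ∈ B then z₂ else z₁) * d₀ j := fun j => by
      split_ifs <;> rfl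
    simp only [this]
    rw [Finset.prod_mul_distrib, Finset.prod_ite, Finset.prod_const, Finset.prod_const,
      Finset.filter_mem_eq_inter, Finset.univ_inter, hBc,
      show (Finset.univ.filter fun j => j ∉ B) = A by ext; simp [hA], ← hP]
    simp only [z₁, z₂, ← zpow_natCast, ← zpow_mul]
    rw [← zpow_add₀ (mu_ne hw), show Nat.gcdB A.card b * (b : ℤ) + Nat.gcdA A.card b * (A.card : ℤ) = (g : ℤ) by
      rw [hbez]; ring, hwg, inv_mul_cancel₀ (mu_ne hPm)]
  · rw [← Finset.sum_add_sum_compl B, ← hA, ← Finset.sum_sdiff hJA]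
    rw [Finset.sum_congr rfl (g := fun j => z₂ * (c j * dB j)) (fun j hj => by simp [d₀, hj]; ring),
      ← Finset.mul_sum, hdB', mul_zero, zero_add,
      Finset.sum_congr rfl (g := fun j => z₁ * (c j * dA j)) (fun j hj => by
        have h1 := (Finset.mem_sdiff.1 hj)
        have : j ∉ B := by simpa [hA] using h1.1
        simp [d₀, this, h1.2]; ring),
      Finset.sum_congr rfl (s₂ := J) (g := fun j => z₁ * (c j * ρ j)) (fun j hj => by
        have : j ∉ B := fun h => Finset.mem_compl.1 (hB h) hj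
        simp [d₀, this, hj]; ring),
      ← Finset.mul_sum, ← Finset.mul_sum, ← mul_add, hdA', neg_add_cancel, mul_zero]

/-- Vanishing sums with product one and prescribed ratios. -/
theorem exists_zero_sum (hn : 12 ≤ Fintype.card ι) {J : Finset ι}
    (hJ : J.card + Fintype.card ι / 2 + 3 ≤ Fintype.card ι) {ρ : ι → F} (hρ : ∀ j, ρ j ∈ mu σ) {c : ι → F}
    (hc : ∀ j, j ∉ J → c j ≠ 0) : ∃ d : ι → F, ∃ e : F, e ∈ mu σ ∧ (∀ j, d j ∈ mu σ) ∧
      (∀ j ∈ J, d j = e * ρ j) ∧ ∏ j, d j = 1 ∧ ∑ j, c j * d j = 0 := by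
  classical
  obtain ⟨b, hb4, hb, hco⟩ := exists_coprime_split hn
  obtain ⟨B, hB, hBc⟩ := Finset.exists_subset_card_eq (s := Jᶜ) (n := b) (by rw [Finset.card_compl]; omega)
  have hJA : J ⊆ Bᶜ := fun j hj => Finset.mem_compl.2 fun h => Finset.mem_compl.1 (hB h) hj
  refine hC.exists_zero_sum_split hB hBc hb4 (by rw [hco.gcd_eq_one]; exact Nat.coprime_one_left _) hρ hc (hC.exists_sum ?_
    (fun j hj => hc j (Finset.mem_sdiff.1 hj).2) _)
  rw [Finset.card_sdiff_of_subset hJA, Finset.card_compl, hBc]; omega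

/-- Twelve coordinates, four prescribed ratios with a sum which is not zero. -/
theorem exists_zero_sum_twelve (hn : Fintype.card ι = 12) {J : Finset ι} (hJ : J.card = 4) {ρ : ι → F}
    (hρ : ∀ j, ρ j ∈ mu σ) {c : ι → F} (hc : ∀ j, j ∉ J → c j ≠ 0) (hJ0 : ∑ j ∈ J, c j * ρ j ≠ 0) :
    ∃ d : ι → F, ∃ e : F, e ∈ mu σ ∧ (∀ j, d j ∈ mu σ) ∧
      (∀ j ∈ J, d j = e * ρ j) ∧ ∏ j, d j = 1 ∧ ∑ j, c j * d j = 0 := by
  classical
  obtain ⟨B, hB, hBc⟩ := Finset.exists_subset_card_eq (s := Jᶜ) (n := 5) (by rw [Finset.card_compl]; omega)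
  have hJA : J ⊆ Bᶜ := fun j hj => Finset.mem_compl.2 fun h => Finset.mem_compl.1 (hB h) hj
  obtain ⟨x, y, z, hxy, hxz, hyz, hS⟩ := Finset.card_eq_three.1 (show (Bᶜ \ J).card = 3 by
    rw [Finset.card_sdiff_of_subset hJA, Finset.card_compl, hBc, hn, hJ])
  have hout : ∀ j ∈ Bᶜ \ J, c j ≠ 0 := fun j hj => hc j (Finset.mem_sdiff.1 hj).2
  obtain ⟨u, hu, v, hv, w, hw, t, ht, e⟩ := hC.exists_four (hout x (by simp [hS])) (hout y (by simp [hS]))
    (hout z (by simp [hS])) hJ0 0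
  refine hC.exists_zero_sum_split hB hBc (by norm_num) (by rw [hn]; norm_num) hρ hc
    ⟨fun j => if j = x then u * t⁻¹ else if j = y then v * t⁻¹ else w * t⁻¹, fun j => ?_, ?_⟩
  · dsimp only
    split_ifs
    exacts [mul_mem_mu hu (inv_mem_mu ht), mul_mem_mu hv (inv_mem_mu ht), mul_mem_mu hw (inv_mem_mu ht)]
  · rw [hS, Finset.sum_insert (by simp [hxy, hxz]), Finset.sum_pair hyz]
    simp only [if_true, if_neg hxy.symm, if_neg hxz.symm, if_neg hyz.symm]
    field_simp [mu_ne ht]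
    linear_combination e

end Circ

end Cfsg.Agent.Classical.MaxUnitMon
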