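import Cfsg.Agent.Lib.Classical.MaxUnitSubspace
import Cfsg.Agent.Lib.Classical.MaxUnitCircle

/-!
Stabilisers of orthogonal decompositions into parts of dimension at least two are maximal in `SU`.
-/

set_option autoImplicit false
set_option linter.unusedSectionVars false

namespace Cfsg.Agent.Classical.MaxTv

open Matrix Module MaxUnitMon

variable {F : Type*} [Field F] [Fintype F] {ι : Type} [Fintype ι] [DecidableEq ι]

local notation "V" => (ι → F)
local notation "Mn" => Matrix ι ι F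

variable {σ : F ≃+* F} {f : (ι → F) → (ι → F) → F}

namespace Herm

variable (hs : Herm σ f)
include hs

/-- A quasi-reflection. -/
theorem exists_refl {d : V} {κ : F} (hc : κ + σ κ + κ * σ κ * f d d = 0) (hdet : 1 + κ * f d d ≠ 0) :
    ∃ R : GL ι F, (∀ x y, f ((R : Mn) *ᵥ x) ((R : Mn) *ᵥ y) = f x y) ∧
      (R : Mn).det = 1 + κ * f d d ∧ ∀ x, (R : Mn) *ᵥ x = x + (κ * f x d) • d := by
  let N : V →ₗ[F] V := LinearMap.id + (κ • hs.toSesq.lin d).smulRight d
  have hN : ∀ x, N x = x + (κ * f x d) • d := fun x => rfl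
  have hi : ∀ x y, f (N x) (N y) = f x y := fun x y => by
    simp only [hN, hs.add_left, hs.add_right, hs.smul_left, hs.smul_right, map_mul, ← hs.herm]
    linear_combination (f x d * f d y) * hc
  obtain ⟨R, hR⟩ := exists_gl_of_injective N fun x y e => sub_eq_zero.1 (hs.eq_zero _ fun w => by
    rw [← hi, map_sub, e, sub_self, hs.toSesq.zero_right])
  refine ⟨R, fun x y => by rw [hR, hR, hi], ?_, fun x => by rw [hR, hN]⟩
  rw [det_rank_two (φ := κ • fn f d) (ψ := (0 : V)) (a := d) (b := d) fun x => by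
    rw [hR, hN, smul_dotProduct, fn_dot hs.toSesq, smul_eq_mul, zero_dotProduct, zero_smul, add_zero]]
  simp only [smul_dotProduct, fn_dot hs.toSesq, smul_eq_mul, zero_dotProduct, mul_zero, sub_zero, add_zero, mul_one]

/-- A vector with given inner product and norm. -/
theorem exists_in_nd {T : Submodule F V} (hT : NdS f T) (hd : 2 ≤ finrank F T) {x : V} (hx : x ∈ T)
    (hx0 : x ≠ 0) {s γ : F} (hγ : σ γ = γ) (hok : s ≠ 0 ∨ f x x ≠ 0 ∨ 3 ≤ finrank F T) :
    ∃ z ∈ T, f x z = s ∧ f z z = γ := by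
  have h1 := finrank_le_inf_ker_add_one T (hs.toSesq.lin x)
  by_cases hxx : f x x ≠ 0
  · set α := σ (s / f x x) with hα
    obtain ⟨w, ⟨hw, hwx⟩, hww⟩ := hs.exists_norm_in (hs.nd_inf_ker hT hx hxx)
      (fun e => by rw [e, finrank_bot] at h1; omega) (t := γ - α * σ α * f x x)
      (by rw [map_sub, hγ, map_mul, map_mul, hs.invol, hs.self_fixed]; ring)
    have hwx' : f w x = 0 := LinearMap.mem_ker.1 hwx
    refine ⟨α • x + w, add_mem (T.smul_mem _ hx) hw, ?_, ?_⟩
    · rw [hs.add_right, hs.smul_right, hs.refl _ _ hwx', add_zero, hα, hs.invol, div_mul_cancel₀ _ hxx]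
    · rw [hs.add_left, hs.add_right, hs.add_right, hs.smul_left, hs.smul_left, hs.smul_right, hs.smul_right,
        hs.refl _ _ hwx', hwx', hww]
      ring
  push Not at hxx
  rcases eq_or_ne s 0 with rfl | hs0
  · have h3 : 3 ≤ finrank F T := by
      rcases hok with h | h | h
      exacts [absurd rfl h, absurd hxx h, h]
    obtain ⟨z, ⟨hz, hzx⟩, hzz⟩ := hs.exists_norm_in_big (S := T ⊓ LinearMap.ker (hs.toSesq.lin x)) hT
      inf_le_left (by omega) hγ
    exact ⟨z, hz, hs.refl _ _ (LinearMap.mem_ker.1 hzx), hzz⟩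
  obtain ⟨y, hy, hyx⟩ := hT x hx hx0
  have hxy : f x y ≠ 0 := fun e => hyx (hs.refl _ _ e)
  set a := σ (s / f x y) with ha
  have ha0 : a ≠ 0 := by rw [ha, ne_eq, σ.map_eq_zero_iff]; exact div_ne_zero hs0 hxy
  have hay : σ a * f x y = s := by rw [ha, hs.invol, div_mul_cancel₀ _ hxy]
  obtain ⟨δ, hδ⟩ := hs.exists_trace_eq (a := γ - a * σ a * f y y)
    (by rw [map_sub, hγ, map_mul, map_mul, hs.invol, hs.self_fixed]; ring)
  set b := δ / (σ a * f x y) with hb
  have hbb : b * (σ a * f x y) = δ := div_mul_cancel₀ _ (by rw [hay]; exact hs0)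
  refine ⟨a • y + b • x, add_mem (T.smul_mem _ hy) (T.smul_mem _ hx), ?_, ?_⟩
  · rw [hs.add_right, hs.smul_right, hs.smul_right, hxx, mul_zero, add_zero, hay]
  · have hbb' : σ b * (a * f y x) = σ δ := by
      rw [← hbb, map_mul, map_mul, hs.invol, ← hs.herm]
    rw [hs.add_left, hs.add_right, hs.add_right, hs.smul_left, hs.smul_left, hs.smul_left, hs.smul_left,
      hs.smul_right, hs.smul_right, hs.smul_right, hs.smul_right, hxx]
    linear_combination hbb + hbb' + hδ

/-- Non-degenerate subspaces of the same dimension are isometric. -/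
theorem exists_iso_map : ∀ (d : ℕ) (T T' : Submodule F V), NdS f T → NdS f T' → finrank F T = d →
    finrank F T' = d →
    ∃ L : (ι → F) →ₗ[F] (ι → F), (∀ x ∈ T, L x ∈ T') ∧ ∀ x ∈ T, ∀ y ∈ T, f (L x) (L y) = f x y
  | 0, T, T', _, _, hd, _ => by
    rw [Submodule.finrank_eq_zero] at hd
    refine ⟨0, fun x _ => zero_mem _, fun x hx y _ => ?_⟩
    rw [hd, Submodule.mem_bot] at hx
    rw [hx, LinearMap.zero_apply, LinearMap.zero_apply, hs.toSesq.zero_left, hs.toSesq.zero_left]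
  | d + 1, T, T', hT, hT', hd, hd' => by
    obtain ⟨u, hu, huu⟩ := hs.exists_norm_in hT (fun e => by rw [e, finrank_bot] at hd; omega) (map_one σ)
    obtain ⟨u', hu', huu'⟩ := hs.exists_norm_in hT' (fun e => by rw [e, finrank_bot] at hd'; omega) (map_one σ)
    have key : ∀ (S : Submodule F V) (w : V), w ∈ S → f w w = 1 → finrank F S = d + 1 →
        finrank F (S ⊓ LinearMap.ker (hs.toSesq.lin w) : Submodule F V) = d := fun S w hw hww hS => by
      have h1 := finrank_le_inf_ker_add_one S (hs.toSesq.lin w)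
      have h2 : S ⊓ LinearMap.ker (hs.toSesq.lin w) < S := lt_of_le_of_ne inf_le_left fun e => by
        have h3 : f w w = 0 := LinearMap.mem_ker.1 (e.ge hw).2
        rw [hww] at h3
        exact one_ne_zero h3
      have := Submodule.finrank_lt_finrank_of_lt h2
      omega
    obtain ⟨L, hL, hLf⟩ := exists_iso_map d _ _ (hs.nd_inf_ker hT hu (by rw [huu]; exact one_ne_zero))
      (hs.nd_inf_ker hT' hu' (by rw [huu']; exact one_ne_zero)) (key T u hu huu hd) (key T' u' hu' huu' hd')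
    refine ⟨L.comp (LinearMap.id - (hs.toSesq.lin u).smulRight u) + (hs.toSesq.lin u).smulRight u', ?_, ?_⟩
    · intro x hx
      show L (x - f x u • u) + f x u • u' ∈ T'
      refine add_mem (hL _ ⟨sub_mem hx (T.smul_mem _ hu), LinearMap.mem_ker.2 ?_⟩).1 (T'.smul_mem _ hu')
      show f (x - f x u • u) u = 0
      rw [hs.toSesq.sub_left, hs.smul_left, huu, mul_one, sub_self]
    · intro x hx y hy
      show f (L (x - f x u • u) + f x u • u') (L (y - f y u • u) + f y u • u') = f x y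
      have hm : ∀ z ∈ T, z - f z u • u ∈ T ⊓ LinearMap.ker (hs.toSesq.lin u) := fun z hz =>
        ⟨sub_mem hz (T.smul_mem _ hu), LinearMap.mem_ker.2 (by
          show f (z - f z u • u) u = 0
          rw [hs.toSesq.sub_left, hs.smul_left, huu, mul_one, sub_self])⟩
      have hx' : f (L (x - f x u • u)) u' = 0 := LinearMap.mem_ker.1 (hL _ (hm x hx)).2
      have hy' : f u' (L (y - f y u • u)) = 0 := hs.refl _ _ (LinearMap.mem_ker.1 (hL _ (hm y hy)).2)
      rw [hs.add_left, hs.add_right, hs.add_right, hs.smul_left, hs.smul_left, hs.smul_right, hs.smul_right,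
        hx', hy', huu', hLf _ (hm x hx) _ (hm y hy), hs.toSesq.sub_left, hs.toSesq.sub_right, hs.toSesq.sub_right,
        hs.smul_left, hs.smul_left, hs.smul_right, hs.smul_right, huu, hs.herm u y]
      ring

end Herm

variable {t k q : ℕ} {D : Fin t → Submodule F (ι → F)} {p : Fin t → ((ι → F) →ₗ[F] (ι → F))}
  {M : Subgroup (GL ι F)}

/-- An orthogonal decomposition and a group containing its stabiliser in `SU`. -/
structure BCtx (σ : F ≃+* F) (f : (ι → F) → (ι → F) → F) (D : Fin t → Submodule F (ι → F))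
    (p : Fin t → ((ι → F) →ₗ[F] (ι → F))) (k q : ℕ) (M : Subgroup (GL ι F)) : Prop where
  herm : Herm σ f
  circ : Circ σ q
  proj : IsProj D p
  orth : ∀ i j, i ≠ j → Geo.AreOrthogonalFor f (D i) (D j)
  nd : ∀ i, NdS f (D i)
  dim : ∀ i, finrank F (D i) = k
  two_le : 2 ≤ k
  exc : ¬ (k = 2 ∧ q = 2)
  det : ∀ g : GL ι F, (∀ x y, f ((g : Mn) *ᵥ x) ((g : Mn) *ᵥ y) = f x y) → (g : Mn).det * σ (g : Mn).det = 1
  mem : ∀ g : GL ι F, (∀ x y, f ((g : Mn) *ᵥ x) ((g : Mn) *ᵥ y) = f x y) → (g : Mn).det = 1 →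
    (∀ i, ∃ j, ∀ x ∈ D i, (g : Mn) *ᵥ x ∈ D j) → g ∈ M
  iso : ∀ g ∈ M, ∀ x y, f ((g : Mn) *ᵥ x) ((g : Mn) *ᵥ y) = f x y

namespace BCtx

variable (B : BCtx σ f D p k q M)
include B

theorem ne_bot (i : Fin t) : D i ≠ ⊥ := fun e => by
  have := B.dim i; rw [e, finrank_bot] at this; have := B.two_le; omega

theorem orth_left {a b : Fin t} (h : a ≠ b) {x y : V} (hx : x ∈ D a) (hy : y ∈ D b) : f x y = 0 :=
  B.orth a b h x hx y hy

theorem form_right (i : Fin t) {z : V} (hz : z ∈ D i) (x : V) : f x z = f (p i x) z := by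
  rw [B.herm.herm, B.proj.form_left B.herm.toSesq B.orth i hz x, ← B.herm.herm]

/-- A reflection keeps every summand. -/
theorem refl_keeps {i : Fin t} {d : V} (hd : d ∈ D i) {κ : F} {R : GL ι F}
    (hR : ∀ x, (R : Mn) *ᵥ x = x + (κ * f x d) • d) (j : Fin t) {x : V} (hx : x ∈ D j) :
    (R : Mn) *ᵥ x ∈ D j := by
  rw [hR]
  by_cases h : j = i
  · subst h; exact add_mem hx ((D j).smul_mem _ hd)
  · rw [B.orth_left h hx hd, mul_zero, zero_smul, add_zero]; exact hx

theorem block {i : Fin t} {v : V} (hv : v ∈ D i) (hvv : f v v = 0) : UPt σ f M v := by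
  intro c hc
  obtain ⟨T, -, hTi, hTx⟩ := exists_isometry_tv B.herm.toSesq hvv (B.herm.tv_cond hc v)
  have hdet := det_tv (φ := c • fn f v) (v := v) (g := T) (fun x => by
    rw [hTx, smul_dotProduct, fn_dot B.herm.toSesq, smul_eq_mul]) (by
    rw [smul_dotProduct, fn_dot B.herm.toSesq, hvv, smul_zero])
  exact ⟨T, B.mem T hTi (congrArg Units.val (MonoidHom.mem_ker.1 hdet))
    fun j => ⟨j, fun x hx => B.refl_keeps hv hTx j hx⟩, hTx⟩

theorem exists_skew_ne (a : F) : ∃ e : F, e ≠ 0 ∧ e + σ e = 0 ∧ (e ≠ a ∨ 3 ≤ k) := by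
  classical
  obtain ⟨τ, hτ0, hτ⟩ := B.herm.exists_skew
  rcases Nat.lt_or_ge q 3 with hq | hq
  · refine ⟨τ, hτ0, hτ, Or.inr ?_⟩
    have := B.two_le
    have := B.circ.two_le
    by_contra h
    exact B.exc ⟨by omega, by omega⟩
  · obtain ⟨κ, hκ, hκ'⟩ := Finset.exists_mem_notMem_of_card_lt_card (s := ({0, a / τ} : Finset F)) (t := fix σ)
      (lt_of_le_of_lt Finset.card_le_two (by rw [B.circ.card_fix]; omega))
    simp only [Finset.mem_insert, Finset.mem_singleton, not_or] at hκ'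
    refine ⟨κ * τ, mul_ne_zero hκ'.1 hτ0, ?_, Or.inl fun e => hκ'.2 (by rw [← e, mul_div_cancel_right₀ _ hτ0])⟩
    rw [map_mul, mem_fix.1 hκ]
    linear_combination κ * hτ

/-- An element of `M` after compensating the determinant in one summand. -/
theorem compensate {g : GL ι F} (hg : ∀ x y, f ((g : Mn) *ᵥ x) ((g : Mn) *ᵥ y) = f x y) (τ : Fin t → Fin t)
    (hgD : ∀ i, ∀ x ∈ D i, (g : Mn) *ᵥ x ∈ D (τ i)) {c : Fin t} {d : V} (hd : d ∈ D c) (hdd : f d d ≠ 0) :
    ∃ h ∈ M, (∀ i, ∀ x ∈ D i, (h : Mn) *ᵥ x ∈ D (τ i)) ∧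
      ∀ x, f x d = 0 → (h : Mn) *ᵥ x = (g : Mn) *ᵥ x := by
  have hs := B.herm
  set δ := (g : Mn).det with hδ
  have hδn : δ * σ δ = 1 := B.det g hg
  have hδ0 : δ ≠ 0 := fun e => by simp [e] at hδn
  have hκ : (δ⁻¹ - 1) / f d d * f d d = δ⁻¹ - 1 := div_mul_cancel₀ _ hdd
  obtain ⟨R, hRi, hRd, hR⟩ := hs.exists_refl (d := d) (κ := (δ⁻¹ - 1) / f d d) (by
    have hκ' := congrArg σ hκ
    simp only [map_mul, map_sub, map_inv₀, map_one, hs.self_fixed] at hκ'
    refine mul_right_cancel₀ hdd ?_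
    have : δ⁻¹ * (σ δ)⁻¹ = 1 := by rw [← mul_inv, hδn, inv_one]
    linear_combination hκ + hκ' + ((δ⁻¹ - 1) / f d d * f d d) * hκ' + ((σ δ)⁻¹ - 1) * hκ + this)
    (by rw [hκ, add_sub_cancel]; exact inv_ne_zero hδ0)
  refine ⟨g * R, B.mem _ (fun x y => by
      rw [Units.val_mul, ← Matrix.mulVec_mulVec, ← Matrix.mulVec_mulVec, hg, hRi]) ?_
      (fun i => ⟨τ i, fun x hx => ?_⟩), fun i x hx => ?_, fun x hx => ?_⟩
  · rw [Units.val_mul, Matrix.det_mul, hRd, hκ, add_sub_cancel, ← hδ, mul_inv_cancel₀ hδ0]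
  · rw [Units.val_mul, ← Matrix.mulVec_mulVec]; exact hgD i _ (B.refl_keeps hd hR i hx)
  · rw [Units.val_mul, ← Matrix.mulVec_mulVec]; exact hgD i _ (B.refl_keeps hd hR i hx)
  · rw [Units.val_mul, ← Matrix.mulVec_mulVec, hR, hx, mul_zero, zero_smul, add_zero]

/-- Change one part of a pair keeping its norm. -/
theorem change {a b : Fin t} (hab : a ≠ b) {x x' y : V} (hx : x ∈ D a) (hx' : x' ∈ D a) (hy : y ∈ D b)
    (hxx : f x x ≠ 0) (hxx' : f x' x' = f x x) (hyy : f y y ≠ 0) (h : UPt σ f M (x + y)) :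
    UPt σ f M (x' + y) := by
  have hs := B.herm
  obtain ⟨d, hd, hdy⟩ : ∃ d ∈ D b, f d y = 0 ∧ f d d ≠ 0 := by
    have hnd := hs.nd_inf_ker (B.nd b) hy hyy
    obtain ⟨d, ⟨hd, hd'⟩, hdd⟩ := hs.exists_aniso_of_nd hnd fun e => by
      have := finrank_le_inf_ker_add_one (D b) (hs.toSesq.lin y)
      rw [e, finrank_bot, B.dim b] at this
      have := B.two_le
      omega
    exact ⟨d, hd, LinearMap.mem_ker.1 hd', hdd⟩
  have step : ∀ u u', u ∈ D a → u' ∈ D a → f u' u' = f u u → f u (u' - u) ≠ 0 → UPt σ f M (u + y) →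
      UPt σ f M (u' + y) := by
    intro u u' hu hu' hn hne hU
    set e := u' - u with he
    have hee : f e e = -(f u e + σ (f u e)) := by
      rw [← hs.herm, he]
      simp only [hs.toSesq.sub_left, hs.toSesq.sub_right, hn]
      ring
    obtain ⟨R, hRi, -, hR⟩ := hs.exists_refl (d := e) (κ := (f u e)⁻¹) (by
      rw [map_inv₀, hee]
      field_simp [hne, fun h' => hne (σ.map_eq_zero_iff.1 h')]
      ring) (by
      rw [hee, mul_neg, mul_add, inv_mul_cancel₀ hne]
      simp only [neg_add_rev, add_neg_cancel_comm_assoc, ne_eq, neg_eq_zero, mul_eq_zero, inv_eq_zero,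
        σ.map_eq_zero_iff, or_self]
      exact hne)
    have hea : e ∈ D a := sub_mem hu' hu
    obtain ⟨h, hh, -, hhx⟩ := B.compensate hRi id (fun i z hz => B.refl_keeps hea hR i hz) hd hdy.2
    have key := hU.map hs hh (B.iso h hh)
    have hud : f (u + y) d = 0 := by
      rw [hs.add_left, B.orth_left hab hu hd, zero_add]; exact hs.refl _ _ hdy.1
    rw [hhx _ hud, hR, hs.add_left, B.orth_left (Ne.symm hab) hy hea, add_zero, inv_mul_cancel₀ hne, one_smul,
      he, show u + y + (u' - u) = u' + y by abel] at key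
    exact key
  by_cases hne : f x (x' - x) ≠ 0
  · exact step x x' hx hx' hxx' hne h
  push Not at hne
  rw [hs.toSesq.sub_right, sub_eq_zero] at hne
  obtain ⟨ζ, hζ, hζ1⟩ := hs.exists_norm_one
  have hn : f (ζ • x) (ζ • x) = f x x := by rw [hs.smul_left, hs.smul_right, ← mul_assoc, hζ, one_mul]
  refine step (ζ • x) x' ((D a).smul_mem _ hx) hx' (hxx'.trans hn.symm) ?_
    (step x (ζ • x) hx ((D a).smul_mem _ hx) hn ?_ h)
  · rw [hs.toSesq.sub_right, hn, hs.smul_left, hne, ← sub_one_mul]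
    exact mul_ne_zero (sub_ne_zero.2 hζ1) hxx
  · rw [hs.toSesq.sub_right, hs.smul_right, ← sub_one_mul]
    exact mul_ne_zero (sub_ne_zero.2 fun e => hζ1 (by rw [← hs.invol ζ, e, map_one])) hxx

theorem exists_iso_spread {g : GL ι F} (hgi : ∀ x y, f ((g : Mn) *ᵥ x) ((g : Mn) *ᵥ y) = f x y)
    (hg : g ∉ Geo.decompositionStabilizer D) :
    ∃ i, ∃ x ∈ D i, f x x = 0 ∧ ∃ a b, a ≠ b ∧ p a ((g : Mn) *ᵥ x) ≠ 0 ∧ p b ((g : Mn) *ᵥ x) ≠ 0 := by
  have hs := B.herm
  by_contra hc
  push Not at hc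
  refine hg ?_
  have hk2 : ∀ i, 2 ≤ finrank F (D i) := fun i => (B.dim i).symm ▸ B.two_le
  have hone : ∀ i, ∀ x ∈ D i, f x x = 0 → ∀ j, p j ((g : Mn) *ᵥ x) ≠ 0 → (g : Mn) *ᵥ x ∈ D j :=
    fun i x hx hxx j hj => B.proj.mem_of_forall fun l hl => hc i x hx hxx j l (Ne.symm hl) hj
  have hτ : ∀ i, ∃ j, ∀ x ∈ D i, (g : Mn) *ᵥ x ∈ D j := fun i => by
    obtain ⟨x₁, hx₁, hx₁0⟩ := Submodule.exists_mem_ne_zero_of_ne_bot (B.ne_bot i)
    obtain ⟨a, ha, haa, hax⟩ := hs.exists_iso_left_nd (B.nd i) (hk2 i) hx₁ hx₁0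
    have ha0 : a ≠ 0 := fun e => hax (by rw [e, hs.toSesq.zero_left])
    have hex : ∀ x, x ≠ 0 → ∃ j, p j ((g : Mn) *ᵥ x) ≠ 0 := fun x hx => by
      by_contra h
      push Not at h
      exact hx (gl_mulVec_injective g (B.proj.ext fun j => by simp [h j]))
    obtain ⟨j, hj⟩ := hex a ha0
    refine ⟨j, fun x hx => ?_⟩
    have hlink : ∀ b ∈ D i, f b b = 0 → ∀ c ∈ D i, f c c = 0 → (g : Mn) *ᵥ b ∈ D j → f b c ≠ 0 →
        (g : Mn) *ᵥ c ∈ D j := fun b hb hbb c hc' hcc hbj hbc => by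
      obtain ⟨l, hl⟩ := hex c fun e => hbc (by rw [e, hs.toSesq.zero_right])
      have hcl := hone i c hc' hcc l hl
      by_cases hjl : j = l
      · rwa [hjl]
      · exact absurd (by rw [← hgi]; exact B.orth_left hjl hbj hcl) hbc
    have hsp := hs.le_span_iso_nd (B.nd i) (hk2 i) hx
    induction hsp using Submodule.span_induction with
    | mem c hc' =>
      rcases eq_or_ne c 0 with rfl | hc0
      · rw [Matrix.mulVec_zero]; exact zero_mem _
      obtain ⟨w, hw, hww, hwa, hwc⟩ := hs.exists_iso_both_nd (B.nd i) (hk2 i) ha hc'.1 ha0 hc0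
      exact hlink w hw hww c hc'.1 hc'.2
        (hlink a ha haa w hw hww (hone i a ha haa j hj) fun e => hwa (hs.refl _ _ e)) hwc
    | zero => rw [Matrix.mulVec_zero]; exact zero_mem _
    | add u v hu hv h1 h2 =>
      have hspan : ∀ z ∈ Submodule.span F {a : V | a ∈ D i ∧ f a a = 0}, z ∈ D i := fun z hz =>
        Submodule.span_le.2 (fun a ha => ha.1) hz
      rw [Matrix.mulVec_add]; exact add_mem (h1 (hspan u hu)) (h2 (hspan v hv))
    | smul r u hu h1 =>
      have hspan : u ∈ D i := Submodule.span_le.2 (fun a (ha : a ∈ D i ∧ f a a = 0) => ha.1) hu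
      rw [Matrix.mulVec_smul]; exact (D j).smul_mem _ (h1 hspan)
  choose τ hτ using hτ
  exact B.proj.mem_stabilizer (fun i j => by rw [B.dim, B.dim]) τ hτ B.ne_bot

theorem first_pair {g : GL ι F} (hg : g ∈ M) {i a b : Fin t} {x : V} (hx : x ∈ D i) (hxx : f x x = 0)
    (hab : a ≠ b) (ha : p a ((g : Mn) *ᵥ x) ≠ 0) (hb : p b ((g : Mn) *ᵥ x) ≠ 0) {γ : F} (hγ : σ γ = γ)
    (hγ0 : γ ≠ 0) :
    ∃ za ∈ D a, ∃ zb ∈ D b, f za za = γ ∧ f zb zb = -γ ∧ UPt σ f M (za + zb) := by
  have hs := B.herm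
  set v := (g : Mn) *ᵥ x
  have hvU : UPt σ f M v := (B.block hx hxx).map hs hg (B.iso g hg)
  have hvv : f v v = 0 := by rw [B.iso g hg, hxx]
  obtain ⟨s₀, hs₀⟩ := hs.exists_trace_eq (a := -γ) (by rw [map_neg, hγ])
  obtain ⟨τ, hτ0, hτ⟩ := hs.exists_skew
  obtain ⟨s, htr, hmov⟩ : ∃ s, s + σ s = -γ ∧ σ s ≠ s := by
    by_cases h : σ s₀ = s₀
    · refine ⟨s₀ + τ, by rw [map_add]; linear_combination hs₀ + hτ, fun e => ?_⟩
      rw [map_add] at e
      have h2τ : (2 : F) * τ = 0 := by linear_combination hτ + h - e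
      have h20 : (2 : F) = 0 := (mul_eq_zero.1 h2τ).resolve_right hτ0
      exact hγ0 (by linear_combination hs₀ - h - s₀ * h20)
    · exact ⟨s₀, hs₀, h⟩
  have hs0 : s ≠ 0 := fun e => hγ0 (by rw [e, map_zero, add_zero] at htr; linear_combination htr)
  have hσs0 : σ s ≠ 0 := fun e => hs0 (σ.map_eq_zero_iff.1 e)
  obtain ⟨za, hza, hza1, hza2⟩ := hs.exists_in_nd (B.nd a) ((B.dim a).symm ▸ B.two_le) (B.proj.mem a v) ha
    (s := s) hγ (Or.inl hs0)
  obtain ⟨zb, hzb, hzb1, hzb2⟩ := hs.exists_in_nd (B.nd b) ((B.dim b).symm ▸ B.two_le) (B.proj.mem b v) hb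
    (s := -σ s) (γ := -γ) (by rw [map_neg, hγ]) (Or.inl (neg_ne_zero.2 hσs0))
  obtain ⟨R₁, hR₁i, hR₁d, hR₁⟩ := hs.exists_refl (d := za) (κ := s⁻¹) (by
    rw [hza2, map_inv₀]; field_simp; linear_combination htr) (by
    rw [hza2]; intro e; refine hσs0 ?_
    field_simp at e; linear_combination htr - e)
  obtain ⟨R₂, hR₂i, hR₂d, hR₂⟩ := hs.exists_refl (d := zb) (κ := (-σ s)⁻¹) (by
    rw [hzb2, map_inv₀, map_neg, hs.invol]; field_simp; linear_combination -htr) (by
    rw [hzb2]; intro e; refine hs0 ?_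
    field_simp at e; linear_combination htr - e)
  have hRM : R₁ * R₂ ∈ M := B.mem _ (fun x y => by
      rw [Units.val_mul, ← Matrix.mulVec_mulVec, ← Matrix.mulVec_mulVec, hR₁i, hR₂i]) (by
      rw [Units.val_mul, Matrix.det_mul, hR₁d, hR₂d, hza2, hzb2]
      field_simp
      linear_combination γ * htr) fun j => ⟨j, fun y hy => by
      rw [Units.val_mul, ← Matrix.mulVec_mulVec]
      exact B.refl_keeps hza hR₁ j (B.refl_keeps hzb hR₂ j hy)⟩
  have hva : f v za = s := by rw [B.form_right a hza, hza1]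
  have hvb : f v zb = -σ s := by rw [B.form_right b hzb, hzb1]
  have himg : ((R₁ * R₂ : GL ι F) : Mn) *ᵥ v = v + (za + zb) := by
    rw [Units.val_mul, ← Matrix.mulVec_mulVec, hR₂, hvb, inv_mul_cancel₀ (neg_ne_zero.2 hσs0), one_smul, hR₁,
      hs.add_left, B.orth_left (Ne.symm hab) hzb hza, add_zero, hva, inv_mul_cancel₀ hs0, one_smul]
    abel
  have hU' := hvU.map hs hRM (B.iso _ hRM)
  rw [himg] at hU'
  have he : f (v + (za + zb)) v = σ s - s := by
    rw [hs.add_left, hs.add_left, hvv, hs.herm za v, hs.herm zb v, hva, hvb, map_neg, hs.invol]; ring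
  have hne : s - σ s ≠ 0 := sub_ne_zero.2 (Ne.symm hmov)
  have := hU'.add_smul hs hvU hvv (c := (s - σ s)⁻¹) (by
    rw [map_inv₀, map_sub, hs.invol, ← neg_sub s, inv_neg, add_neg_cancel])
  rw [he, ← neg_sub s, mul_neg, inv_mul_cancel₀ hne, neg_one_smul, ← sub_eq_add_neg, add_sub_cancel_left] at this
  exact ⟨za, hza, zb, hzb, hza2, hzb2, this⟩

/-- Every pair of anisotropic parts. -/
theorem pairs {g : GL ι F} (hg : g ∈ M) (hgD : g ∉ Geo.decompositionStabilizer D) :
    ∀ c d, c ≠ d → ∀ x ∈ D c, ∀ y ∈ D d, f x x ≠ 0 → f y y = -f x x → UPt σ f M (x + y) := by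
  have hs := B.herm
  obtain ⟨i, x₀, hx₀, hx₀x, a, b, hab, ha, hb⟩ := B.exists_iso_spread (B.iso g hg) hgD
  let Q : Fin t → Fin t → Prop := fun c d => ∀ x ∈ D c, ∀ y ∈ D d, f x x ≠ 0 → f y y = -f x x → UPt σ f M (x + y)
  have hQ : Q a b := by
    intro x hx y hy hxx hyy
    obtain ⟨za, hza, zb, hzb, hna, hnb, hU⟩ :=
      B.first_pair hg hx₀ hx₀x hab ha hb (γ := f x x) (hs.self_fixed x) hxx
    have h1 := B.change hab hza hx hzb (by rw [hna]; exact hxx) hna.symm (by rw [hnb]; exact neg_ne_zero.2 hxx) hU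
    rw [add_comm] at h1 ⊢
    exact B.change (Ne.symm hab) hzb hy hx (by rw [hnb]; exact neg_ne_zero.2 hxx) (hyy.trans hnb.symm) hxx h1
  have hsym : ∀ c d, Q c d → Q d c := fun c d h x hx y hy hxx hyy => by
    rw [add_comm]
    exact h y hy x hx (by rw [hyy]; exact neg_ne_zero.2 hxx) (by rw [hyy, neg_neg])
  have hperm : ∀ c d, Q c d → ∀ u v, u ≠ v → Q (Equiv.swap u v c) (Equiv.swap u v d) := by
    intro c d h u v huv x hx y hy hxx hyy
    obtain ⟨L, hL, hLf⟩ := hs.exists_iso_map k _ _ (B.nd u) (B.nd v) (B.dim u) (B.dim v)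
    obtain ⟨L', hL', hLf'⟩ := hs.exists_iso_map k _ _ (B.nd v) (B.nd u) (B.dim v) (B.dim u)
    obtain ⟨T, hT, hTD⟩ := B.proj.exists_swap hs.toSesq B.orth huv L L' hL hL' hLf hLf'
    obtain ⟨e, he, hee⟩ := hs.exists_aniso_of_nd (B.nd u) (B.ne_bot u)
    obtain ⟨T', hT'M, hT'D, -⟩ := B.compensate hT (Equiv.swap u v) hTD he hee
    have hback : ∀ j, ∀ z ∈ D (Equiv.swap u v j), ∃ z' ∈ D j, (T' : Mn) *ᵥ z' = z := fun j z hz => by
      have : (D j).map (Matrix.toLin' (T' : Mn)) = D (Equiv.swap u v j) := by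
        refine Submodule.eq_of_le_of_finrank_eq ?_ ?_
        · rintro _ ⟨w, hw, rfl⟩
          rw [Matrix.toLin'_apply]
          exact hT'D j w hw
        · rw [(Submodule.equivMapOfInjective _ (fun r r' h => gl_mulVec_injective T' (by
            simpa [Matrix.toLin'_apply] using h)) (D j)).finrank_eq.symm, B.dim, B.dim]
      rw [← this] at hz
      obtain ⟨z', hz', e'⟩ := hz
      exact ⟨z', hz', by rw [← e', Matrix.toLin'_apply]⟩
    obtain ⟨x', hx', rfl⟩ := hback c x hx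
    obtain ⟨y', hy', rfl⟩ := hback d y hy
    rw [B.iso T' hT'M] at hxx hyy
    rw [B.iso T' hT'M] at hyy
    rw [← Matrix.mulVec_add]
    exact (h x' hx' y' hy' hxx hyy).map hs hT'M (B.iso T' hT'M)
  have hA : ∀ c, c ≠ a → Q a c := fun c hc => by
    rcases eq_or_ne c b with rfl | hcb
    · exact hQ
    · have := hperm a b hQ b c (Ne.symm hcb)
      rwa [Equiv.swap_apply_left, Equiv.swap_apply_of_ne_of_ne hab (Ne.symm hc)] at this
  intro c d hcd
  rcases eq_or_ne c a with rfl | hca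
  · exact hA d (Ne.symm hcd)
  rcases eq_or_ne d a with rfl | hda
  · exact hsym _ _ (hA c hca)
  have := hperm a d (hA d hda) a c (Ne.symm hca)
  rwa [Equiv.swap_apply_left, Equiv.swap_apply_of_ne_of_ne hda (Ne.symm hcd)] at this

/-- All transvections. -/
theorem upt_all {g : GL ι F} (hg : g ∈ M) (hgD : g ∉ Geo.decompositionStabilizer D) :
    ∀ v, f v v = 0 → UPt σ f M v := by
  classical
  have hs := B.herm
  have hp := B.proj
  have hpairs := B.pairs hg hgD
  intro v hv
  induction hn : (Finset.univ.filter fun i => p i v ≠ 0).card using Nat.strong_induction_on generalizing v with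
  | _ n ih =>
    have hsub : ∀ (u : V) (S : Finset (Fin t)), (∀ i, i ∉ S → p i u = 0) →
        (Finset.univ.filter fun i => p i u ≠ 0) ⊆ S := fun u S h i hi => by
      by_contra hiS
      exact (Finset.mem_filter.1 hi).2 (h i hiS)
    -- an anisotropic component
    have hA : ∀ v, f v v = 0 → (Finset.univ.filter fun i => p i v ≠ 0).card ≤ n →
        ∀ c, f (p c v) (p c v) ≠ 0 → UPt σ f M v := by
      intro v hv hvn c hc
      have hc0 : p c v ≠ 0 := fun e => hc (by rw [e, hs.toSesq.zero_left])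
      obtain ⟨d, hcd, hd⟩ : ∃ d, d ≠ c ∧ p d v ≠ 0 := by
        by_contra h
        push Not at h
        have hmem : v ∈ D c := hp.mem_of_forall fun j hj => h j hj
        rw [hp.self c v hmem] at hc
        exact hc hv
      set A := f (p c v) (p c v) with hA'
      have hAf : σ A = A := hs.self_fixed _
      obtain ⟨e, he0, hes, hea⟩ := B.exists_skew_ne A
      obtain ⟨y, hy, hy1, hy2⟩ := hs.exists_in_nd (B.nd d) ((B.dim d).symm ▸ B.two_le) (hp.mem d v) hd
        (s := e - A) (γ := -A) (by rw [map_neg, hAf]) (hea.elim (fun h => Or.inl (sub_ne_zero.2 h))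
          fun h => Or.inr (Or.inr ((B.dim d).symm ▸ h)))
      set w := p c v + y with hw
      have hwU : UPt σ f M w := hpairs c d (Ne.symm hcd) _ (hp.mem c v) y hy hc hy2
      have hyc : f y (p c v) = 0 := B.orth_left hcd hy (hp.mem c v)
      have hww : f w w = 0 := by
        rw [hw, hs.add_left, hs.add_right, hs.add_right, hyc, hs.refl _ _ hyc, hy2, ← hA']; ring
      have hvw : f v w = e := by
        rw [hw, hs.add_right, B.form_right c (hp.mem c v) v, B.form_right d hy v, hy1, ← hA']; ring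
      set u := v - w with hu
      have huu : f u u = 0 := by
        rw [hu, hs.toSesq.sub_left, hs.toSesq.sub_right, hs.toSesq.sub_right, hv, hww, hs.herm w v, hvw]
        linear_combination -hes
      have hlt : (Finset.univ.filter fun i => p i u ≠ 0).card < n := by
        refine lt_of_lt_of_le (Finset.card_lt_card (Finset.ssubset_iff_of_subset ?_ |>.2
          ⟨c, by simp [hc0], by simp [hu, hw, hp.comp, hp.other c d (Ne.symm hcd) y hy]⟩)) hvn
        refine hsub u _ fun i hi => ?_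
        simp only [Finset.mem_filter, Finset.mem_univ, true_and, not_not] at hi
        have hic : i ≠ c := fun e' => hc0 (e' ▸ hi)
        have hid : i ≠ d := fun e' => hd (e' ▸ hi)
        simp [hu, hw, hp.comp, hic, hi, hp.other i d hid y hy]
      have := (ih _ hlt u huu rfl).add_smul hs hwU hww (c := e⁻¹) (by
        rw [map_inv₀, show σ e = -e by linear_combination hes, inv_neg, add_neg_cancel])
      rwa [show f u w = e by rw [hu, hs.toSesq.sub_left, hvw, hww, sub_zero], inv_mul_cancel₀ he0, one_smul,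
        hu, sub_add_cancel] at this
    by_cases hex : ∃ c, f (p c v) (p c v) ≠ 0
    · obtain ⟨c, hc⟩ := hex
      exact hA v hv hn.le c hc
    push Not at hex
    rcases eq_or_ne v 0 with rfl | hv0
    · exact UPt.zero hs
    obtain ⟨c, hc⟩ : ∃ c, p c v ≠ 0 := by
      by_contra h
      push Not at h
      exact hv0 (hp.ext fun i => by simp [h i])
    by_cases hone : ∀ d, d ≠ c → p d v = 0
    · exact B.block (hp.mem_of_forall hone) hv
    push Not at hone
    obtain ⟨d, hdc, hd⟩ := hone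
    obtain ⟨r, hr0, hrs, -⟩ := B.exists_skew_ne 0
    obtain ⟨e, he0, hes, her⟩ := B.exists_skew_ne r
    obtain ⟨x, hx, hx1, hx2⟩ := hs.exists_in_nd (B.nd c) ((B.dim c).symm ▸ B.two_le) (hp.mem c v) hc
      (s := r) (γ := (1 : F)) (map_one σ) (Or.inl hr0)
    obtain ⟨y, hy, hy1, hy2⟩ := hs.exists_in_nd (B.nd d) ((B.dim d).symm ▸ B.two_le) (hp.mem d v) hd
      (s := e - r) (γ := (-1 : F)) (by rw [map_neg, map_one]) (her.elim (fun h => Or.inl (sub_ne_zero.2 h))
        fun h => Or.inr (Or.inr ((B.dim d).symm ▸ h)))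
    set w := x + y with hw
    have hwU : UPt σ f M w := hpairs c d (Ne.symm hdc) x hx y hy (by rw [hx2]; exact one_ne_zero) (by rw [hy2, hx2])
    have hxy : f x y = 0 := B.orth_left (Ne.symm hdc) hx hy
    have hww : f w w = 0 := by
      rw [hw, hs.add_left, hs.add_right, hs.add_right, hxy, hs.refl _ _ hxy, hy2, hx2]; ring
    have hvw : f v w = e := by
      rw [hw, hs.add_right, B.form_right c hx v, B.form_right d hy v, hy1, hx1]; ring
    set u := v - w with hu
    have huu : f u u = 0 := by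
      rw [hu, hs.toSesq.sub_left, hs.toSesq.sub_right, hs.toSesq.sub_right, hv, hww, hs.herm w v, hvw]
      linear_combination -hes
    have hle : (Finset.univ.filter fun i => p i u ≠ 0).card ≤ n := by
      refine hn ▸ Finset.card_le_card (hsub u _ fun i hi => ?_)
      simp only [Finset.mem_filter, Finset.mem_univ, true_and, not_not] at hi
      have hic : i ≠ c := fun e' => hc (e' ▸ hi)
      have hid : i ≠ d := fun e' => hd (e' ▸ hi)
      simp [hu, hw, hi, hp.other i c hic x hx, hp.other i d hid y hy]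
    have huc : f (p c u) (p c u) ≠ 0 := by
      have : p c u = p c v - x := by
        simp [hu, hw, hp.self c x hx, hp.other c d (Ne.symm hdc) y hy]
      rw [this, hs.toSesq.sub_left, hs.toSesq.sub_right, hs.toSesq.sub_right, hex c, hs.herm x, hx1, hx2]
      intro h
      exact one_ne_zero (by linear_combination h + hrs)
    have := (hA u huu hle c huc).add_smul hs hwU hww (c := e⁻¹) (by
      rw [map_inv₀, show σ e = -e by linear_combination hes, inv_neg, add_neg_cancel])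
    rwa [show f u w = e by rw [hu, hs.toSesq.sub_left, hvw, hww, sub_zero], inv_mul_cancel₀ he0, one_smul,
      hu, sub_add_cancel] at this

end BCtx

end Cfsg.Agent.Classical.MaxTv
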