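import Cfsg.Agent.Lib.Classical.MaxUnitMonOdd
import Cfsg.Agent.Lib.Classical.MaxUnitFourUpt
import Cfsg.Agent.Lib.Classical.MaxUnitWreathBlock
import Cfsg.Agent.Lib.Classical.LinFour.UnitGen

/-!
Stabilisers of orthogonal decompositions are maximal in special unitary groups.
-/

set_option autoImplicit false
set_option linter.unusedSectionVars false

namespace Cfsg.Agent.Classical.MaxUnitMon

open Matrix Module MaxTv MaxMon

variable {F : Type*} [Field F] [Fintype F] {n q : ℕ}

local notation "Mn" => Matrix (Fin n) (Fin n) F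

theorem circ_qEquiv (hF : Fintype.card F = q ^ 2) : Circ (qEquiv hF) q where
  hF := hF
  apply x := qEquiv_apply hF x

theorem dot_eq_hermForm (hF : Fintype.card F = q ^ 2) :
    dot (ι := Fin n) (qEquiv hF) = hermForm n F q := rfl

/-- All transvections from the monomial group and one further element. -/
theorem upt_all_mon [DecidableEq F] {ι : Type} [Fintype ι] [DecidableEq ι] {σ : F ≃+* F}
    {M : Subgroup (GL ι F)} (X : Ctx σ q M) {g : GL ι F} (hg : g ∈ M)
    (hmon : ¬ IsMon (g : Matrix ι ι F)) : ∀ u, dot σ u u = 0 → UPt σ (dot σ) M u := by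
  rcases Nat.lt_or_ge (Fintype.card ι) 5 with h4 | h5
  · exact X.upt_four (by have := X.card; omega) (by have := X.card; omega) hg hmon
  by_cases h2 : (2 : F) = 0
  · rcases Nat.lt_or_ge q 3 with hq | hq
    · exact X.upt_two h5 (le_antisymm (by omega) X.two_le_q) h2 hg hmon
    · exact X.upt_even h5 hq h2 hg hmon
  · refine X.upt_odd h5 ?_ h2 hg hmon
    by_contra hq
    have h := X.circ.cast_q
    rw [show q = 2 from le_antisymm (by omega) X.two_le_q] at h
    exact h2 (by exact_mod_cast h)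

theorem mem_gu_sl {g : GL (Fin n) F} :
    g ∈ GU n F q ⊓ Geo.specialLinear (Fin n) F ↔
      (∀ x y, hermForm n F q ((g : Mn) *ᵥ x) ((g : Mn) *ᵥ y) = hermForm n F q x y) ∧ (g : Mn).det = 1 := by
  constructor
  · rintro ⟨h1, h2⟩
    exact ⟨mem_GU.1 h1, congrArg Units.val (MonoidHom.mem_ker.1 h2)⟩
  · rintro ⟨h1, h2⟩
    exact ⟨mem_GU.2 h1, MonoidHom.mem_ker.2 (Units.ext h2)⟩

theorem upt_wreath_line (hF : Fintype.card F = q ^ 2) (hn : (n = 6 ∧ 3 ≤ q) ∨ n = 10 ∨ 12 ≤ n ∨ n = 8 ∨ (n = 4 ∧ q ≠ 3) ∨ n = 9) {t : ℕ}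
    {D : Fin t → Submodule F (Fin n → F)} {p : Fin t → ((Fin n → F) →ₗ[F] (Fin n → F))} (hp : IsProj D p)
    (horth : ∀ i j, i ≠ j → Geo.AreOrthogonalFor (hermForm n F q) (D i) (D j))
    (hnd : ∀ i, NdS (hermForm n F q) (D i)) (hk : ∀ i, finrank F (D i) = 1)
    {M : Subgroup (GL (Fin n) F)}
    (hmem : ∀ g : GL (Fin n) F,
      (∀ x y, hermForm n F q ((g : Mn) *ᵥ x) ((g : Mn) *ᵥ y) = hermForm n F q x y) → (g : Mn).det = 1 →
      (∀ i, ∃ j, ∀ x ∈ D i, (g : Mn) *ᵥ x ∈ D j) → g ∈ M)
    (hiso : ∀ g ∈ M, ∀ x y, hermForm n F q ((g : Mn) *ᵥ x) ((g : Mn) *ᵥ y) = hermForm n F q x y)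
    {g : GL (Fin n) F} (hg : g ∈ M) (hgD : g ∉ Geo.decompositionStabilizer D) :
    ∀ v, hermForm n F q v v = 0 → UPt (qEquiv hF) (hermForm n F q) M v := by
  classical
  have hs := herm_hermForm (n := n) hF
  set σ := qEquiv hF
  set f := hermForm n F q with hf
  have hne : ∀ i, D i ≠ ⊥ := fun i e => by have := hk i; rw [e, finrank_bot] at this; omega
  choose e he he1 using fun i => hs.exists_norm_in (hnd i) (hne i) (map_one σ)
  have heo : ∀ i j, f (e i) (e j) = if i = j then 1 else 0 := fun i j => by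
    split_ifs with h
    · rw [h]; exact he1 j
    · exact horth i j h _ (he i) _ (he j)
  have hdec : ∀ i, ∀ x ∈ D i, x = f x (e i) • e i := fun i x hx => by
    obtain ⟨c, hc⟩ := (finrank_eq_one_iff_of_nonzero' (⟨e i, he i⟩ : D i) (fun h => by
      have h' : e i = 0 := congrArg Subtype.val h
      have := he1 i
      rw [h', hs.toSesq.zero_left] at this
      exact zero_ne_one this)).1 (hk i) ⟨x, hx⟩
    have hx' : x = c • e i := (congrArg Subtype.val hc).symm
    rw [hx', hs.smul_left, he1, mul_one]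
  have htn : t = n := by
    have hli : LinearIndependent F e := by
      rw [Fintype.linearIndependent_iff]
      intro c hc i
      have h := congrArg (fun z => hs.toSesq.lin (e i) z) hc
      simp only [map_sum, map_smul, map_zero, smul_eq_mul] at h
      rw [Finset.sum_eq_single i (fun j _ hj => by
        show c j * f (e j) (e i) = 0
        rw [heo, if_neg hj, mul_zero]) (by simp)] at h
      show c i = 0
      rw [show hs.toSesq.lin (e i) (e i) = f (e i) (e i) from rfl, he1, mul_one] at h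
      exact h
    have h1 := hli.fintype_card_le_finrank
    rw [Module.finrank_pi, Fintype.card_fin, Fintype.card_fin] at h1
    have h2 : (⊤ : Submodule F (Fin n → F)) ≤ Submodule.span F (Set.range e) := fun x _ => by
      rw [← hp.sum x]
      refine Submodule.sum_mem _ fun i _ => ?_
      rw [hdec i _ (hp.mem i x)]
      exact Submodule.smul_mem _ _ (Submodule.subset_span ⟨i, rfl⟩)
    have h3 := (Submodule.finrank_mono h2).trans (finrank_range_le_card (R := F) e)
    rw [finrank_top, Module.finrank_pi, Fintype.card_fin, Fintype.card_fin] at h3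
    omega
  subst htn
  let L : (Fin t → F) →ₗ[F] (Fin t → F) := Fintype.linearCombination F e
  have hL : ∀ z, L z = ∑ i, z i • e i := fun z => Fintype.linearCombination_apply F e z
  have hLr : ∀ z j, f (L z) (e j) = z j := fun z j => by
    show hs.toSesq.lin (e j) (L z) = z j
    rw [hL, map_sum, Finset.sum_eq_single j (fun i _ hi => by
      rw [map_smul]
      show z i * f (e i) (e j) = 0
      rw [heo, if_neg hi, mul_zero]) (by simp), map_smul]
    show z j * f (e j) (e j) = z j
    rw [he1, mul_one]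
  have hLi : ∀ z w, f (L z) (L w) = dot σ z w := fun z w => by
    conv_lhs => rw [hs.herm]
    show σ (hs.toSesq.lin (L z) (L w)) = _
    rw [hL w, map_sum, map_sum]
    refine Finset.sum_congr rfl fun i _ => ?_
    rw [map_smul]
    show σ (w i * f (e i) (L z)) = _
    rw [map_mul, ← hs.herm, hLr, mul_comm]
  obtain ⟨g₀, hg₀⟩ := exists_gl_of_injective L fun a b h => funext fun j => by rw [← hLr a j, h, hLr]
  have hg₀f : ∀ z w, f ((g₀ : Matrix (Fin t) (Fin t) F) *ᵥ z) ((g₀ : Matrix (Fin t) (Fin t) F) *ᵥ w) = f z w :=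
    fun z w => by rw [hg₀, hg₀, hLi]; rfl
  have hg₀e : ∀ j, (g₀ : Matrix (Fin t) (Fin t) F) *ᵥ Pi.single j 1 = e j := fun j => by
    rw [hg₀, hL, Finset.sum_eq_single j (fun i _ hi => by simp [hi]) (by simp)]
    simp
  have hinvf : ∀ z w, f ((((g₀⁻¹ : GL (Fin t) F)) : Matrix (Fin t) (Fin t) F) *ᵥ z)
      ((((g₀⁻¹ : GL (Fin t) F)) : Matrix (Fin t) (Fin t) F) *ᵥ w) = f z w := fun z w => by
    rw [← hg₀f, mulVec_inv_cancel, mulVec_inv_cancel]
  set M' := M.comap (MulAut.conj g₀).toMonoidHom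
  have hM' : ∀ h : GL (Fin t) F, h ∈ M' ↔ g₀ * h * g₀⁻¹ ∈ M := fun h => Iff.rfl
  have X : Ctx σ q M' := by
    refine ⟨circ_qEquiv hF, hs, fun m hm hmi hmd => ?_, fun h hh x y => ?_, by rw [Fintype.card_fin]; omega⟩
    · rw [hM']
      obtain ⟨π, x, -, hπ⟩ := hm.exists_perm
      refine hmem _ (fun a b => ?_) ?_ fun i => ⟨π i, fun y hy => ?_⟩
      · simp only [Units.val_mul, ← Matrix.mulVec_mulVec]
        rw [hg₀f]
        exact (hmi _ _).trans (hinvf a b)
      · rw [Units.val_mul, Units.val_mul, Matrix.det_mul, Matrix.det_mul, hmd, mul_one, ← Matrix.det_mul,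
          ← Units.val_mul, mul_inv_cancel, Units.val_one, Matrix.det_one]
      · rw [hdec i y hy, ← hg₀e i, Units.val_mul, Units.val_mul, ← Matrix.mulVec_mulVec, ← Matrix.mulVec_mulVec,
          Matrix.mulVec_smul, inv_mulVec_cancel, Matrix.mulVec_smul, hπ, single_eq_smul (π i) (x i), Matrix.mulVec_smul,
          Matrix.mulVec_smul, hg₀e (π i)]
        exact (D (π i)).smul_mem _ ((D (π i)).smul_mem _ (he _))
    · have h1 := hiso _ ((hM' h).1 hh) ((g₀ : Matrix (Fin t) (Fin t) F) *ᵥ x)
        ((g₀ : Matrix (Fin t) (Fin t) F) *ᵥ y)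
      simp only [Units.val_mul, ← Matrix.mulVec_mulVec, inv_mulVec_cancel] at h1
      rw [hg₀f, hg₀f] at h1
      exact h1
  have hg' : g₀⁻¹ * g * g₀ ∈ M' := by
    rw [hM', show g₀ * (g₀⁻¹ * g * g₀) * g₀⁻¹ = g by group]
    exact hg
  have hmon : ¬ IsMon ((g₀⁻¹ * g * g₀ : GL (Fin t) F) : Matrix (Fin t) (Fin t) F) := fun h => by
    obtain ⟨π, x, -, hπ⟩ := h.exists_perm
    refine hgD (hp.mem_stabilizer (fun i j => by rw [hk, hk]) π (fun i y hy => ?_) hne)
    rw [hdec i y hy, ← hg₀e i, Matrix.mulVec_smul]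
    refine (D (π i)).smul_mem _ ?_
    have h1 := congrArg (fun z => (g₀ : Matrix (Fin t) (Fin t) F) *ᵥ z) (hπ i)
    simp only [Units.val_mul, ← Matrix.mulVec_mulVec, mulVec_inv_cancel] at h1
    rw [h1, single_eq_smul (π i) (x i), Matrix.mulVec_smul, hg₀e]
    exact (D (π i)).smul_mem _ (he _)
  intro v hv c hc
  obtain ⟨T, hT, hTx⟩ := upt_all_mon X hg' hmon (((g₀⁻¹ : GL (Fin t) F) : Matrix (Fin t) (Fin t) F) *ᵥ v)
    (show f _ _ = 0 by rw [hinvf]; exact hv) c hc
  refine ⟨g₀ * T * g₀⁻¹, (hM' T).1 hT, fun x => ?_⟩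
  rw [Units.val_mul, Units.val_mul, ← Matrix.mulVec_mulVec, ← Matrix.mulVec_mulVec, hTx, Matrix.mulVec_add,
    Matrix.mulVec_smul, mulVec_inv_cancel, mulVec_inv_cancel]
  congr 2
  exact congrArg (c * ·) (hinvf x v)

/-- Stabilisers of orthogonal decompositions are maximal in `SU`: any degree from five on for blocks of
dimension at least two, degree six (`q ≥ 3`), eight, ten or at least twelve for lines. -/
theorem unitary_wreath_maximal_of {t : ℕ} (hF : Fintype.card F = q ^ 2) (hn5 : 4 ≤ n) (k : ℕ)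
    (hn : k = 1 → (n = 6 ∧ 3 ≤ q) ∨ n = 10 ∨ 12 ≤ n ∨ n = 8 ∨ (n = 4 ∧ q ≠ 3) ∨ n = 9)
    (D : Fin t → Submodule F (Fin n → F)) (hD : Geo.IsNondegenerateMDecomposition (hermForm n F q) k D)
    (hex : ¬ (k = 2 ∧ q = 2)) :
    Geo.IsMaximalIn (GU n F q ⊓ Geo.specialLinear (Fin n) F)
      (Geo.decompositionStabilizer D ⊓ (GU n F q ⊓ Geo.specialLinear (Fin n) F)) := by
  classical
  obtain ⟨⟨ht, hk0, hk, hind, htop⟩, hnd, horth⟩ := hD
  obtain ⟨p, hp⟩ := exists_proj hind htop
  have hs := herm_hermForm (n := n) hF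
  have hC := circ_qEquiv hF
  have hnd' : ∀ i, NdS (hermForm n F q) (D i) := fun i w hw hw0 => (hnd i w hw hw0).1
  have hne : ∀ i, D i ≠ ⊥ := fun i e => by have := hk i; rw [e, finrank_bot] at this; omega
  have hm' : ∀ i j, finrank F (D i) = finrank F (D j) := fun i j => by rw [hk, hk]
  refine isMaximalIn_intro inf_le_right (fun hle => ?_) fun M hHM hMK g hgM hgH => ?_
  · -- the stabiliser is a proper subgroup
    obtain ⟨τ, hτ0, hτ⟩ := hs.exists_skew
    obtain ⟨a, b, hab⟩ : ∃ a b : Fin t, a ≠ b := ⟨⟨0, by omega⟩, ⟨1, by omega⟩, by simp⟩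
    obtain ⟨v, y, hv, hy, c₁, c₂, hcc, h1, h2⟩ : ∃ v y : Fin n → F, hermForm n F q v v = 0 ∧ y ∈ D a ∧
        ∃ c₁ c₂, c₁ ≠ c₂ ∧ p c₁ (y + (τ * hermForm n F q y v) • v) ≠ 0 ∧
          p c₂ (y + (τ * hermForm n F q y v) • v) ≠ 0 := by
      rcases Nat.lt_or_ge k 2 with hk1 | hk2
      · -- lines
        have hk' : k = 1 := by omega
        have htn : n ≤ t := by
          choose e he he0 using fun i => Submodule.exists_mem_ne_zero_of_ne_bot (hne i)
          have hsp : (⊤ : Submodule F (Fin n → F)) ≤ Submodule.span F (Set.range e) := fun x _ => by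
            rw [← hp.sum x]
            refine Submodule.sum_mem _ fun i _ => ?_
            obtain ⟨r, hr⟩ := (finrank_eq_one_iff_of_nonzero' (⟨e i, he i⟩ : D i)
              (fun h => he0 i (congrArg Subtype.val h))).1 ((hk i).trans hk') ⟨p i x, hp.mem i x⟩
            rw [show p i x = r • e i from (congrArg Subtype.val hr).symm]
            exact Submodule.smul_mem _ _ (Submodule.subset_span ⟨i, rfl⟩)
          have h3 := (Submodule.finrank_mono hsp).trans (finrank_range_le_card (R := F) e)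
          rw [finrank_top, Module.finrank_pi, Fintype.card_fin, Fintype.card_fin] at h3
          exact h3
        choose e he he1 using fun i => hs.exists_norm_in (hnd' i) (hne i) (map_one (qEquiv hF))
        obtain ⟨c, -, hc⟩ := Finset.exists_mem_notMem_of_card_lt_card (s := ({a, b} : Finset (Fin t)))
          (t := Finset.univ) (lt_of_le_of_lt Finset.card_le_two (by rw [Finset.card_univ, Fintype.card_fin]; omega))
        obtain ⟨d, -, hd⟩ := Finset.exists_mem_notMem_of_card_lt_card (s := ({a, b, c} : Finset (Fin t)))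
          (t := Finset.univ) (lt_of_le_of_lt Finset.card_le_three (by rw [Finset.card_univ, Fintype.card_fin]; omega))
        simp only [Finset.mem_insert, Finset.mem_singleton, not_or] at hc hd
        have heo : ∀ i j, hermForm n F q (e i) (e j) = if i = j then 1 else 0 := fun i j => by
          split_ifs with h
          · rw [h]; exact he1 j
          · exact horth i j h _ (he i) _ (he j)
        obtain ⟨γ, hγ⟩ := hs.exists_norm (t := (-3 : F)) (by rw [map_neg, map_ofNat])
        have hpe : ∀ i j, p i (e j) = if i = j then e j else 0 := fun i j => by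
          split_ifs with h
          · subst h; exact hp.self i _ (he i)
          · exact hp.other i j h _ (he j)
        have he0 : ∀ i, e i ≠ 0 := fun i h => by
          have := he1 i
          rw [h, hs.toSesq.zero_left] at this
          exact zero_ne_one this
        refine ⟨e a + e b + e c + γ • e d, e a, ?_, he a, b, c, Ne.symm hc.2, ?_, ?_⟩
        · simp only [hs.add_left, hs.add_right, hs.smul_left, hs.smul_right, heo, hab, Ne.symm hab, hc.1, hc.2,
            Ne.symm hc.1, Ne.symm hc.2, hd.1, hd.2.1, hd.2.2, Ne.symm hd.1, Ne.symm hd.2.1, Ne.symm hd.2.2,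
            if_true, if_false, mul_zero, add_zero, zero_add, mul_one]
          linear_combination hγ
        all_goals
          simp [hs.add_right, hs.smul_right, heo, hab, hpe, Ne.symm hab, hc.1, hc.2, Ne.symm hc.1, Ne.symm hc.2,
            Ne.symm hd.1, Ne.symm hd.2.1, Ne.symm hd.2.2, he0, hτ0]
      · obtain ⟨y₀, hy₀, hy₀0⟩ := Submodule.exists_mem_ne_zero_of_ne_bot (hne a)
        obtain ⟨x, hx, hxx, hxy⟩ := hs.exists_iso_left_nd (hnd' a) ((hk a).symm ▸ hk2) hy₀ hy₀0
        obtain ⟨y₁, hy₁, hy₁0⟩ := Submodule.exists_mem_ne_zero_of_ne_bot (hne b)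
        obtain ⟨z, hz, hzz, hzy⟩ := hs.exists_iso_left_nd (hnd' b) ((hk b).symm ▸ hk2) hy₁ hy₁0
        have hxz : hermForm n F q x z = 0 := horth a b hab x hx z hz
        have hyv : hermForm n F q y₀ (x + z) = hermForm n F q y₀ x := by
          rw [hs.add_right, horth a b hab y₀ hy₀ z hz, add_zero]
        have hyx : hermForm n F q y₀ x ≠ 0 := fun e => hxy (hs.refl _ _ e)
        refine ⟨x + z, y₀, ?_, hy₀, a, b, hab, ?_, ?_⟩
        · rw [hs.add_left, hs.add_right, hs.add_right, hxx, hzz, hxz, hs.refl _ _ hxz]; ring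
        · rw [hyv, map_add, map_smul, map_add, hp.self a _ hy₀, hp.self a _ hx, hp.other a b hab _ hz, add_zero]
          intro e
          have h := congrArg (fun w => hermForm n F q w x) e
          simp only [hs.add_left, hs.smul_left, hxx, mul_zero, add_zero, hs.toSesq.zero_left] at h
          exact hyx h
        · rw [hyv, map_add, map_smul, map_add, hp.other b a (Ne.symm hab) _ hy₀, hp.other b a (Ne.symm hab) _ hx,
            hp.self b _ hz, zero_add, zero_add]
          exact smul_ne_zero (mul_ne_zero hτ0 hyx) fun e => hzy (by rw [e, hs.toSesq.zero_left])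
    obtain ⟨T, hT, hTx⟩ := exists_gu_tv hF hv hτ
    obtain ⟨π, hπ⟩ := (hle hT).1
    have hmem : (T : Mn) *ᵥ y ∈ D (π a) := by rw [← hπ a]; exact ⟨y, hy, Matrix.toLin'_apply _ _⟩
    rw [hTx] at hmem
    have e1 : c₁ = π a := by_contra fun h => h1 (hp.other c₁ _ h _ hmem)
    have e2 : c₂ = π a := by_contra fun h => h2 (hp.other c₂ _ h _ hmem)
    exact hcc (e1.trans e2.symm)
  have hiso : ∀ h ∈ M, ∀ x y, hermForm n F q ((h : Mn) *ᵥ x) ((h : Mn) *ᵥ y) = hermForm n F q x y :=
    fun h hh => (mem_gu_sl.1 (hMK hh)).1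
  have hmem : ∀ h : GL (Fin n) F,
      (∀ x y, hermForm n F q ((h : Mn) *ᵥ x) ((h : Mn) *ᵥ y) = hermForm n F q x y) → (h : Mn).det = 1 →
      (∀ i, ∃ j, ∀ x ∈ D i, (h : Mn) *ᵥ x ∈ D j) → h ∈ M := fun h h1 h2 h3 => by
    choose τ hτ using h3
    exact hHM ⟨hp.mem_stabilizer hm' τ hτ hne, mem_gu_sl.2 ⟨h1, h2⟩⟩
  have hgD : g ∉ Geo.decompositionStabilizer D := fun h => hgH ⟨h, hMK hgM⟩
  refine LinFour.guSL_le_three hF (by omega) (by omega) fun v hv => ?_
  rcases Nat.lt_or_ge k 2 with hk1 | hk2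
  · exact upt_wreath_line hF (hn (by omega)) hp horth hnd' (fun i => (hk i).trans (by omega)) hmem hiso hgM hgD v hv
  · have B : BCtx (qEquiv hF) (hermForm n F q) D p k q M :=
      ⟨hs, hC, hp, horth, hnd', hk, hk2, hex,
        fun h hh => by rw [qEquiv_apply]; exact det_unitary hF hh, hmem, hiso⟩
    exact B.upt_all hgM hgD v hv

/-- Stabilisers of orthogonal decompositions are maximal in `SU` of degree ten or at least twelve. -/
theorem unitary_wreath_maximal_ten {t : ℕ} (hF : Fintype.card F = q ^ 2) (hn : n = 10 ∨ 12 ≤ n) (k : ℕ)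
    (D : Fin t → Submodule F (Fin n → F)) (hD : Geo.IsNondegenerateMDecomposition (hermForm n F q) k D)
    (hex : ¬ (k = 2 ∧ q = 2)) :
    Geo.IsMaximalIn (GU n F q ⊓ Geo.specialLinear (Fin n) F)
      (Geo.decompositionStabilizer D ⊓ (GU n F q ⊓ Geo.specialLinear (Fin n) F)) :=
  unitary_wreath_maximal_of hF (by omega) k (fun _ => Or.inr (hn.imp id Or.inl)) D hD hex

/-- Stabilisers of orthogonal decompositions are maximal in `SU` of degree six. -/
theorem unitary_wreath_maximal_six {t : ℕ} (hF : Fintype.card F = q ^ 2) (hn : n = 6) (hq : 3 ≤ q) (k : ℕ)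
    (D : Fin t → Submodule F (Fin n → F)) (hD : Geo.IsNondegenerateMDecomposition (hermForm n F q) k D) :
    Geo.IsMaximalIn (GU n F q ⊓ Geo.specialLinear (Fin n) F)
      (Geo.decompositionStabilizer D ⊓ (GU n F q ⊓ Geo.specialLinear (Fin n) F)) :=
  unitary_wreath_maximal_of hF (by omega) k (fun _ => Or.inl ⟨hn, hq⟩) D hD (by omega)

/-- Stabilisers of orthogonal decompositions are maximal in `SU`. -/
theorem unitary_wreath_maximal {t : ℕ} (hF : Fintype.card F = q ^ 2) (hn : 12 ≤ n) (k : ℕ)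
    (D : Fin t → Submodule F (Fin n → F)) (hD : Geo.IsNondegenerateMDecomposition (hermForm n F q) k D)
    (hex : ¬ (k = 2 ∧ q = 2)) :
    Geo.IsMaximalIn (GU n F q ⊓ Geo.specialLinear (Fin n) F)
      (Geo.decompositionStabilizer D ⊓ (GU n F q ⊓ Geo.specialLinear (Fin n) F)) :=
  unitary_wreath_maximal_ten hF (Or.inr hn) k D hD hex

/-- Stabilisers of orthogonal decompositions are maximal in `SU` of degree eight. -/
theorem unitary_wreath_maximal_eight {t : ℕ} (hF : Fintype.card F = q ^ 2) (hn : n = 8) (k : ℕ)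
    (D : Fin t → Submodule F (Fin n → F)) (hD : Geo.IsNondegenerateMDecomposition (hermForm n F q) k D)
    (hex : ¬ (k = 2 ∧ q = 2)) :
    Geo.IsMaximalIn (GU n F q ⊓ Geo.specialLinear (Fin n) F)
      (Geo.decompositionStabilizer D ⊓ (GU n F q ⊓ Geo.specialLinear (Fin n) F)) :=
  unitary_wreath_maximal_of hF (by omega) k (fun _ => Or.inr (Or.inr (Or.inr (Or.inl hn)))) D hD hex

/-- Stabilisers of two orthogonal planes are maximal in `SU` of degree four for `q ≥ 3`. -/
theorem unitary_wreath_maximal_planes {t : ℕ} (hF : Fintype.card F = q ^ 2) (hn : n = 4) (hq : 3 ≤ q)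
    (D : Fin t → Submodule F (Fin n → F)) (hD : Geo.IsNondegenerateMDecomposition (hermForm n F q) 2 D) :
    Geo.IsMaximalIn (GU n F q ⊓ Geo.specialLinear (Fin n) F)
      (Geo.decompositionStabilizer D ⊓ (GU n F q ⊓ Geo.specialLinear (Fin n) F)) :=
  unitary_wreath_maximal_of hF (by omega) 2 (fun h => absurd h (by decide)) D hD (fun h => by omega)

/-- Stabilisers of four orthogonal lines are maximal in `SU` of degree four for `q ≠ 3`. -/
theorem unitary_wreath_maximal_four {t : ℕ} (hF : Fintype.card F = q ^ 2) (hn : n = 4) (hq : q ≠ 3)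
    (D : Fin t → Submodule F (Fin n → F)) (hD : Geo.IsNondegenerateMDecomposition (hermForm n F q) 1 D) :
    Geo.IsMaximalIn (GU n F q ⊓ Geo.specialLinear (Fin n) F)
      (Geo.decompositionStabilizer D ⊓ (GU n F q ⊓ Geo.specialLinear (Fin n) F)) :=
  unitary_wreath_maximal_of hF (by omega) 1 (fun _ => Or.inr (Or.inr (Or.inr (Or.inr (Or.inl ⟨hn, hq⟩))))) D hD
    (fun h => absurd h.1 (by decide))

/-- Stabilisers of nine orthogonal lines or three orthogonal three-spaces are maximal in `SU` of degree nine. -/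
theorem unitary_wreath_maximal_nine {t : ℕ} (hF : Fintype.card F = q ^ 2) (hn : n = 9) (k : ℕ)
    (D : Fin t → Submodule F (Fin n → F)) (hD : Geo.IsNondegenerateMDecomposition (hermForm n F q) k D)
    (hex : ¬ (k = 2 ∧ q = 2)) :
    Geo.IsMaximalIn (GU n F q ⊓ Geo.specialLinear (Fin n) F)
      (Geo.decompositionStabilizer D ⊓ (GU n F q ⊓ Geo.specialLinear (Fin n) F)) :=
  unitary_wreath_maximal_of hF (by omega) k (fun _ => Or.inr (Or.inr (Or.inr (Or.inr (Or.inr hn))))) D hD hex

end Cfsg.Agent.Classical.MaxUnitMon
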