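import Cfsg.Agent.Lib.Classical.MaxLinWreath

/-!
A subgroup of `GL` with all diagonal homologies, all monomial swaps and one non-monomial element has an
elementary transvection (fields of at least five elements, dimension at least three).
-/

set_option autoImplicit false
set_option linter.unusedSectionVars false

namespace Cfsg.Agent.Classical.MaxMon

open Matrix Module MaxTv

variable {F : Type*} [Field F] {ι : Type} [Fintype ι] [DecidableEq ι]

/-- Every column has at most one non-zero entry. -/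
def IsMon (g : Matrix ι ι F) : Prop := ∀ j, ∃ i, ∀ i', i' ≠ i → g i' j = 0

/-- An elementary transvection lies in the group. -/
def HasRoot (G : Subgroup (GL ι F)) : Prop :=
  ∃ x y : ι, ∃ t : F, x ≠ y ∧ t ≠ 0 ∧ InT G (Pi.single x t) (Pi.single y 1)

theorem exists_avoid [Fintype F] (s : Finset F) (h : s.card < Fintype.card F) : ∃ x, x ∉ s := by
  by_contra hc
  push Not at hc
  rw [Finset.eq_univ_of_forall hc, Finset.card_univ] at h
  omega

variable {G : Subgroup (GL ι F)} {u φ : ι → F}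

theorem mixR {ψ : ι → F} (h : InT G u φ) (h' : InT G u ψ) (he : φ ⬝ᵥ u = ψ ⬝ᵥ u) :
    InT G u (ψ - φ) := by
  obtain ⟨g, hg, hgx⟩ := h
  obtain ⟨k, hk, hkx⟩ := h'
  refine ⟨k * g⁻¹, mul_mem hk (inv_mem hg), fun x => ?_⟩
  obtain ⟨z, rfl⟩ : ∃ z, x = (g : Matrix ι ι F) *ᵥ z := ⟨_, (mulVec_inv_cancel g x).symm⟩
  rw [Units.val_mul, ← Matrix.mulVec_mulVec, inv_mulVec_cancel, hkx, hgx, sub_dotProduct, dotProduct_add,
    dotProduct_add, dotProduct_smul, dotProduct_smul, he]
  module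

theorem mixL {w : ι → F} (h : InT G u φ) (h' : InT G w φ) (he : φ ⬝ᵥ u = φ ⬝ᵥ w) :
    InT G (w - u) φ := by
  obtain ⟨g, hg, hgx⟩ := h
  obtain ⟨k, hk, hkx⟩ := h'
  refine ⟨g⁻¹ * k, mul_mem (inv_mem hg) hk, fun x => gl_mulVec_injective g ?_⟩
  show (g : Matrix ι ι F) *ᵥ (((g⁻¹ * k : GL ι F) : Matrix ι ι F) *ᵥ x) = _
  rw [Units.val_mul, ← Matrix.mulVec_mulVec, mulVec_inv_cancel, hkx]
  show _ = (g : Matrix ι ι F) *ᵥ _
  rw [hgx, dotProduct_add, dotProduct_smul, dotProduct_sub, he, sub_self, smul_zero, add_zero]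
  module

theorem conjR {w η : ι → F} (h : InT G u φ) (h' : InT G w η) (hw : 1 + η ⬝ᵥ w ≠ 0) :
    InT G (u + (η ⬝ᵥ u) • w) (φ - (φ ⬝ᵥ w * (1 + η ⬝ᵥ w)⁻¹) • η) := by
  obtain ⟨g, hg, hgx⟩ := h'
  have := h.conj hg
  rw [hgx] at this
  convert this using 1
  refine dotProduct_eq _ _ fun x => ?_
  obtain ⟨z, rfl⟩ : ∃ z, x = (g : Matrix ι ι F) *ᵥ z := ⟨_, (mulVec_inv_cancel g x).symm⟩
  rw [vecMul_inv_dot, hgx, sub_dotProduct, smul_dotProduct, dotProduct_add, dotProduct_add, dotProduct_smul,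
    dotProduct_smul]
  simp only [smul_eq_mul]
  field_simp
  ring

/-- All homologies with given centre and axis. -/
structure Hom (G : Subgroup (GL ι F)) (u φ : ι → F) : Prop where
  one : φ ⬝ᵥ u = 1
  mem : ∀ e : F, 1 + e ≠ 0 → InT G u (e • φ)

theorem Hom.conjR {w η : ι → F} (h : Hom G u φ) (h' : InT G w η) (hw : 1 + η ⬝ᵥ w ≠ 0) :
    Hom G (u + (η ⬝ᵥ u) • w) (φ - (φ ⬝ᵥ w * (1 + η ⬝ᵥ w)⁻¹) • η) := by
  refine ⟨?_, fun e he => ?_⟩
  · rw [sub_dotProduct, smul_dotProduct, dotProduct_add, dotProduct_add, dotProduct_smul, dotProduct_smul, h.one]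
    simp only [smul_eq_mul]
    field_simp
    ring
  · have := MaxMon.conjR (h.mem e he) h' hw
    rwa [smul_dotProduct, smul_eq_mul, mul_assoc, ← smul_smul e, ← smul_sub] at this

variable [Fintype F]

/-- The group contains diagonal homologies and monomial swaps. -/
structure Ctx (G : Subgroup (GL ι F)) : Prop where
  hom : ∀ a (e : F), 1 + e ≠ 0 → InT G (Pi.single a 1) (Pi.single a e)
  swap : ∀ a b (α β : F), a ≠ b → α ≠ 0 → β ≠ 0 →
    InT G (Pi.single a α - Pi.single b β) (Pi.single b β⁻¹ - Pi.single a α⁻¹)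
  q5 : 5 ≤ Fintype.card F
  n3 : 3 ≤ Fintype.card ι

variable (hG : Ctx G)
include hG

theorem Ctx.exists_scalar : ∃ μ : F, μ ≠ 0 ∧ μ ≠ 1 ∧ 1 + (μ - 1) ≠ 0 ∧ μ - 1 ≠ 0 := by
  classical
  obtain ⟨μ, hμ⟩ := exists_avoid ({0, 1} : Finset F)
    (lt_of_le_of_lt Finset.card_le_two (by linarith [hG.q5]))
  simp only [Finset.mem_insert, Finset.mem_singleton, not_or] at hμ
  exact ⟨μ, hμ.1, hμ.2, by simpa using hμ.1, sub_ne_zero.2 hμ.2⟩

theorem Ctx.homBasis (a : ι) : Hom G (Pi.single a 1) (Pi.single a 1) :=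
  ⟨by simp, fun e he => by rw [← Pi.single_smul, smul_eq_mul, mul_one]; exact hG.hom a e he⟩

/-- The centre vanishes somewhere the axis does not. -/
theorem Ctx.rootA (h : InT G u φ) {a b : ι} (ha : u a ≠ 0) (hb : u b = 0) (hφ : φ b ≠ 0) : HasRoot G := by
  obtain ⟨μ, hμ0, -, hμ, he⟩ := hG.exists_scalar
  have hab : a ≠ b := fun e => ha (e ▸ hb)
  set e := μ - 1
  have h1 := MaxMon.conjR h (hG.hom b e hμ) (by simpa using hμ)
  rw [single_dotProduct, single_dotProduct, dotProduct_single, Pi.single_eq_same, hb, mul_zero, zero_smul,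
    add_zero] at h1
  have h2 := mixR h h1 (by rw [sub_dotProduct, smul_dotProduct, single_dotProduct, hb]; simp)
  set t := -(φ b * 1 * (1 + e * 1)⁻¹ * e) with ht
  have ht0 : t ≠ 0 := by
    rw [ht, neg_ne_zero]
    simp only [mul_one]
    exact mul_ne_zero (mul_ne_zero hφ (inv_ne_zero hμ)) he
  rw [show φ - (φ b * 1 * (1 + e * 1)⁻¹) • Pi.single b e - φ = (Pi.single b t : ι → F) by
    funext i
    by_cases hi : i = b
    · subst hi; simp [ht]
    · simp [Pi.single_eq_of_ne hi]] at h2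
  have h3 := MaxMon.conjR h2 (hG.hom a e hμ) (by simpa using hμ)
  rw [single_dotProduct, single_dotProduct, Pi.single_eq_of_ne hab.symm, mul_zero, zero_mul,
    zero_smul, sub_zero] at h3
  have h4 := mixL h2 h3 (by
    rw [dotProduct_add, dotProduct_smul, single_dotProduct, single_dotProduct, Pi.single_eq_of_ne hab.symm]
    simp)
  rw [add_sub_cancel_left, ← Pi.single_smul, smul_eq_mul, mul_one] at h4
  have h5 : InT G (Pi.single a (t * (e * u a))) (Pi.single b 1) := by
    have := InT.scale_left (c := t) (v := (Pi.single a (e * u a) : ι → F)) (φ := Pi.single b 1) (by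
      rwa [← Pi.single_smul, smul_eq_mul, mul_one])
    rwa [← Pi.single_smul, smul_eq_mul] at this
  exact ⟨a, b, _, hab, mul_ne_zero ht0 (mul_ne_zero he ha), h5⟩

/-- The axis vanishes somewhere the centre does not. -/
theorem Ctx.rootB (h : InT G u φ) {a b : ι} (hb : u b ≠ 0) (hφ : φ b = 0) (ha : φ a ≠ 0) : HasRoot G := by
  obtain ⟨μ, hμ0, -, hμ, he⟩ := hG.exists_scalar
  have hab : a ≠ b := fun e => ha (e ▸ hφ)
  have h1 := MaxMon.conjR h (hG.hom b _ hμ) (by simpa using hμ)
  rw [single_dotProduct, dotProduct_single φ, hφ, zero_mul, zero_mul, zero_smul, sub_zero] at h1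
  have h2 := mixL h h1 (by rw [dotProduct_add, dotProduct_smul, dotProduct_single, hφ]; simp)
  rw [add_sub_cancel_left, ← Pi.single_smul, smul_eq_mul, mul_one] at h2
  exact hG.rootA h2 (a := b) (b := a) (by rw [Pi.single_eq_same]; exact mul_ne_zero he hb)
    (Pi.single_eq_of_ne hab _) ha

/-- Mixing with the swap fixing the centre. -/
theorem Ctx.swapStep (h : InT G u φ) {x y : ι} (hxy : x ≠ y) (hx : u x ≠ 0) (hy : u y ≠ 0) :
    InT G u ((φ x * u x - φ y * u y) • (Pi.single y (u y)⁻¹ - Pi.single x (u x)⁻¹)) := by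
  set w : ι → F := Pi.single x (u x) - Pi.single y (u y) with hw
  set η : ι → F := Pi.single y (u y)⁻¹ - Pi.single x (u x)⁻¹ with hη
  have hηu : η ⬝ᵥ u = 0 := by
    rw [hη, sub_dotProduct, single_dotProduct, single_dotProduct, inv_mul_cancel₀ hy, inv_mul_cancel₀ hx,
      sub_self]
  have hηw : 1 + η ⬝ᵥ w = -1 := by
    rw [hη, hw, sub_dotProduct, dotProduct_sub, dotProduct_sub, single_dotProduct, single_dotProduct,
      single_dotProduct, single_dotProduct]
    simp [Pi.single_eq_of_ne hxy, Pi.single_eq_of_ne hxy.symm, inv_mul_cancel₀ hx, inv_mul_cancel₀ hy]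
  have h1 := MaxMon.conjR h (hG.swap x y _ _ hxy hx hy) (by rw [hηw]; simp)
  rw [hηu, zero_smul, add_zero, hηw] at h1
  have h2 := mixR h h1 (by rw [sub_dotProduct, smul_dotProduct, hηu, smul_zero, sub_zero])
  convert h2 using 1
  rw [dotProduct_sub, dotProduct_single, dotProduct_single, inv_neg, inv_one]
  module

/-- A plane transvection group with full supports. -/
theorem Ctx.rootC {χ : ι → F} {x y : ι} (hxy : x ≠ y) (hu : ∀ i, i ≠ x → i ≠ y → u i = 0)
    (hχ : ∀ i, i ≠ x → i ≠ y → χ i = 0) (hux : u x ≠ 0) (huy : u y ≠ 0) (hcx : χ x ≠ 0) (hcy : χ y ≠ 0)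
    (h0 : χ ⬝ᵥ u = 0) (h : ∀ s : F, InT G u (s • χ)) : HasRoot G := by
  classical
  obtain ⟨z, -, hz⟩ := Finset.exists_mem_notMem_of_card_lt_card (s := ({x, y} : Finset ι)) (t := Finset.univ)
    (lt_of_le_of_lt Finset.card_le_two (by rw [Finset.card_univ]; exact hG.n3))
  simp only [Finset.mem_insert, Finset.mem_singleton, not_or] at hz
  obtain ⟨hzx, hzy⟩ := hz
  have hsum : χ x * u x + χ y * u y = 0 := by
    rw [← h0, dotProduct]
    exact (Fintype.sum_eq_add (f := fun i => χ i * u i) x y hxy fun i hi => by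
      rw [hu i hi.1 hi.2, mul_zero]).symm
  set θ := χ x * u x with hθ
  have hθ0 : θ ≠ 0 := mul_ne_zero hcx hux
  set w : ι → F := Pi.single y 1 - Pi.single z 1 with hw
  set η : ι → F := Pi.single z 1 - Pi.single y 1 with hη
  have hηw : 1 + η ⬝ᵥ w = -1 := by
    rw [hη, hw, sub_dotProduct, dotProduct_sub, dotProduct_sub]
    simp [Pi.single_eq_of_ne hzy, Pi.single_eq_of_ne (Ne.symm hzy)]
  have hsw : InT G w η := by
    have := hG.swap y z 1 1 (Ne.symm hzy) one_ne_zero one_ne_zero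
    rwa [inv_one] at this
  set u' : ι → F := Pi.single x (u x) + Pi.single z (u y) with hu'
  set χ' : ι → F := Pi.single x (χ x) + Pi.single z (χ y) with hχ'
  have h' : ∀ s : F, InT G u' (s • χ') := fun s => by
    have h1 := MaxMon.conjR (h s) hsw (by rw [hηw]; simp)
    rw [hηw, inv_neg, inv_one] at h1
    convert h1 using 1
    · funext i
      rw [hη, hw, sub_dotProduct, single_dotProduct, single_dotProduct, hu z hzx hzy]
      rcases eq_or_ne i x with rfl | hix
      · simp [hu', Pi.single_eq_of_ne hxy, Pi.single_eq_of_ne (Ne.symm hzx)]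
      rcases eq_or_ne i y with rfl | hiy
      · simp [hu', Pi.single_eq_of_ne hix, Pi.single_eq_of_ne (Ne.symm hzy)]
      rcases eq_or_ne i z with rfl | hiz
      · simp [hu', Pi.single_eq_of_ne hix, Pi.single_eq_of_ne hiy, hu i hix hiy]
      simp [hu', Pi.single_eq_of_ne hix, Pi.single_eq_of_ne hiy, Pi.single_eq_of_ne hiz, hu i hix hiy]
    · funext i
      rw [hη, hw, smul_dotProduct, dotProduct_sub, dotProduct_single, dotProduct_single, hχ z hzx hzy]
      rcases eq_or_ne i x with rfl | hix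
      · simp [hχ', Pi.single_eq_of_ne hxy, Pi.single_eq_of_ne (Ne.symm hzx)]
      rcases eq_or_ne i y with rfl | hiy
      · simp [hχ', Pi.single_eq_of_ne hix, Pi.single_eq_of_ne (Ne.symm hzy)]
      rcases eq_or_ne i z with rfl | hiz
      · simp [hχ', Pi.single_eq_of_ne hix, Pi.single_eq_of_ne hiy, hχ i hix hiy]
      simp [hχ', Pi.single_eq_of_ne hix, Pi.single_eq_of_ne hiy, Pi.single_eq_of_ne hiz, hχ i hix hiy]
  have hd1 : χ' ⬝ᵥ u = θ := by
    rw [hχ', add_dotProduct, single_dotProduct, single_dotProduct, hu z hzx hzy, mul_zero, add_zero]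
  have hd2 : χ ⬝ᵥ u' = θ := by
    rw [hu', dotProduct_add, dotProduct_single, dotProduct_single, hχ z hzx hzy, zero_mul, add_zero]
  have hd3 : χ' ⬝ᵥ u' = 0 := by
    rw [hu', hχ', add_dotProduct, single_dotProduct, single_dotProduct]
    simp [Pi.single_eq_of_ne hzx, Pi.single_eq_of_ne (Ne.symm hzx)]
    linear_combination hsum
  -- the conjugate by a multiple of the moved transvection
  have key : ∀ s0 : F, ∃ U Φ : ι → F, InT G U Φ ∧ U x = u x * (1 + s0) ∧ U y = u y ∧ U z = s0 * u y ∧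
      Φ x = χ x * (1 - s0) ∧ Φ y = χ y ∧ Φ z = -(s0 * χ y) := by
    intro s0
    have h1 := MaxMon.conjR (h 1) (h' (s0 * θ⁻¹)) (by rw [smul_dotProduct, hd3, smul_zero, add_zero]; simp)
    rw [one_smul, smul_dotProduct, smul_dotProduct, hd1, hd2, hd3] at h1
    refine ⟨_, _, h1, ?_, ?_, ?_, ?_, ?_, ?_⟩ <;>
      simp only [hu', hχ', Pi.add_apply, Pi.sub_apply, Pi.smul_apply, smul_eq_mul, Pi.single_eq_same,
        Pi.single_eq_of_ne hxy, Pi.single_eq_of_ne (Ne.symm hxy), Pi.single_eq_of_ne hzx,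
        Pi.single_eq_of_ne (Ne.symm hzx), Pi.single_eq_of_ne hzy, Pi.single_eq_of_ne (Ne.symm hzy),
        hu z hzx hzy, hχ z hzx hzy, mul_zero, zero_mul, add_zero, zero_add, sub_zero, zero_sub, inv_one,
        mul_one]
    all_goals field_simp
    all_goals ring
  by_cases h2 : (2 : F) = 0
  · obtain ⟨μ, hμ0, hμ1, -, -⟩ := hG.exists_scalar
    obtain ⟨U, Φ, hU, hUx, hUy, hUz, hΦx, hΦy, hΦz⟩ := key μ
    have hm1 : (-1 : F) = 1 := by linear_combination -h2
    have hp : 1 + μ ≠ 0 := fun e => hμ1 (by linear_combination e + hm1)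
    have h3 := hG.swapStep hU (Ne.symm hzy) (by rw [hUy]; exact huy) (by rw [hUz]; exact mul_ne_zero hμ0 huy)
    refine hG.rootB h3 (b := x) (a := y) (by rw [hUx]; exact mul_ne_zero hux hp) ?_ ?_
    · simp [Pi.single_eq_of_ne (Ne.symm hzx), Pi.single_eq_of_ne hxy]
    · rw [hΦy, hUy, hΦz, hUz, Pi.smul_apply, Pi.sub_apply, Pi.single_eq_of_ne (Ne.symm hzy), Pi.single_eq_same,
        smul_eq_mul, zero_sub, show χ y * u y - -(μ * χ y) * (μ * u y) = χ y * u y * (1 + μ) ^ 2 by
          linear_combination (-(χ y * u y * μ)) * h2]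
      exact mul_ne_zero (mul_ne_zero (mul_ne_zero hcy huy) (pow_ne_zero 2 hp))
        (neg_ne_zero.2 (inv_ne_zero huy))
  · obtain ⟨U, Φ, hU, hUx, hUy, hUz, hΦx, hΦy, hΦz⟩ := key 1
    refine hG.rootB hU (b := x) (a := y) ?_ (by rw [hΦx, sub_self, mul_zero]) (by rw [hΦy]; exact hcy)
    rw [hUx, one_add_one_eq_two]
    exact mul_ne_zero hux h2

/-- A homology with centre outside the coordinate lines gives an elementary transvection. -/
theorem Ctx.root_of_hom [DecidableEq F] : ∀ (k : ℕ) (u φ : ι → F), (Finset.univ.filter fun i => u i ≠ 0).card = k →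
    2 ≤ k → Hom G u φ → HasRoot G := by
  intro k
  induction k using Nat.strong_induction_on with
  | _ k ih =>
  intro u φ hk h2 hom
  obtain ⟨μ, hμ0, -, hμ, he⟩ := hG.exists_scalar
  set e := μ - 1
  set S := Finset.univ.filter fun i => u i ≠ 0 with hS
  have hmem : ∀ i, i ∈ S ↔ u i ≠ 0 := fun i => by simp [hS]
  obtain ⟨x₀, hx₀⟩ : S.Nonempty := Finset.card_pos.1 (by omega)
  rw [hmem] at hx₀
  by_cases hA : ∃ b, u b = 0 ∧ φ b ≠ 0
  · obtain ⟨b, hb, hb'⟩ := hA
    exact hG.rootA (hom.mem e hμ) hx₀ hb (by simpa using mul_ne_zero he hb')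
  push Not at hA
  by_cases hB : ∃ b, u b ≠ 0 ∧ φ b = 0
  · obtain ⟨b, hb, hb'⟩ := hB
    obtain ⟨a, ha⟩ : ∃ a, φ a ≠ 0 := by
      by_contra hc
      push Not at hc
      have h1 := hom.one
      rw [funext hc, ← Pi.zero_def, zero_dotProduct] at h1
      exact zero_ne_one h1
    exact hG.rootB (hom.mem e hμ) hb (by simp [hb']) (a := a) (by simpa using mul_ne_zero he ha)
  push Not at hB
  by_cases hN : ∃ x y, u x ≠ 0 ∧ u y ≠ 0 ∧ φ x * u x ≠ φ y * u y
  · obtain ⟨x, y, hx, hy, hne⟩ := hN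
    have hxy : x ≠ y := fun e => hne (by rw [e])
    set χ : ι → F := Pi.single y (u y)⁻¹ - Pi.single x (u x)⁻¹ with hχ
    have hall : ∀ e : F, 1 + e ≠ 0 → InT G u ((e * (φ x * u x - φ y * u y)) • χ) := fun e he => by
      have := hG.swapStep (hom.mem e he) hxy hx hy
      convert this using 2
      simp only [Pi.smul_apply, smul_eq_mul]
      ring
    have hcx : χ x ≠ 0 := by simp [hχ, Pi.single_eq_of_ne hxy, hx]
    by_cases h3 : ∃ z, u z ≠ 0 ∧ z ≠ x ∧ z ≠ y
    · obtain ⟨z, hz, hzx, hzy⟩ := h3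
      refine hG.rootB (hall e hμ) hz (a := x) ?_ ?_
      · simp [hχ, Pi.single_eq_of_ne hzx, Pi.single_eq_of_ne hzy]
      · simpa using mul_ne_zero (mul_ne_zero he (sub_ne_zero.2 hne)) hcx
    push Not at h3
    have hχu : χ ⬝ᵥ u = 0 := by
      rw [hχ, sub_dotProduct, single_dotProduct, single_dotProduct, inv_mul_cancel₀ hy, inv_mul_cancel₀ hx,
        sub_self]
    refine hG.rootC (χ := χ) hxy (fun i hix hiy => by_contra fun hi => hiy (h3 i hi hix))
      (fun i hix hiy => by simp [hχ, Pi.single_eq_of_ne hix, Pi.single_eq_of_ne hiy]) hx hy hcx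
      (by simp [hχ, Pi.single_eq_of_ne (Ne.symm hxy), hy]) hχu fun s => ?_
    set δ := φ x * u x - φ y * u y with hδ
    have hδ0 : δ ≠ 0 := sub_ne_zero.2 hne
    by_cases hs : 1 + s / δ = 0
    · have hs' : s = -δ := by
        field_simp at hs
        linear_combination hs
      have h1 := hall e hμ
      have h2' := hall (-1 - e) (by rw [show 1 + (-1 - e) = -e by ring]; exact neg_ne_zero.2 he)
      have := h1.add_right h2' (by rw [smul_dotProduct, hχu, smul_zero])
      rwa [← add_smul, show e * δ + (-1 - e) * δ = s by rw [hs']; ring] at this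
    · have := hall (s / δ) hs
      rwa [div_mul_cancel₀ _ hδ0] at this
  push Not at hN
  -- all products are equal
  obtain ⟨y, hy⟩ : ∃ y, u y ≠ 0 := ⟨x₀, hx₀⟩
  set c := φ y * u y with hc
  have hc0 : c ≠ 0 := mul_ne_zero (hB y hy) hy
  by_cases hk2 : k = 2
  · obtain ⟨x, hx, hxy⟩ : ∃ x, u x ≠ 0 ∧ x ≠ y := by
      by_contra hcon
      push Not at hcon
      have : S ⊆ {y} := fun i hi => Finset.mem_singleton.2 (hcon i ((hmem i).1 hi))
      have := Finset.card_le_card this
      rw [Finset.card_singleton] at this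
      omega
    have hout : ∀ i, i ≠ x → i ≠ y → u i = 0 := fun i hix hiy => by
      by_contra hi
      have : ({i, x, y} : Finset ι) ⊆ S := by
        intro j hj
        simp only [Finset.mem_insert, Finset.mem_singleton] at hj
        rw [hmem]
        rcases hj with rfl | rfl | rfl <;> assumption
      have := Finset.card_le_card this
      rw [Finset.card_eq_three.2 ⟨i, x, y, hix, hiy, hxy, rfl⟩] at this
      omega
    have h2c : c + c = 1 := by
      have h1 := hom.one
      rw [dotProduct, Fintype.sum_eq_add x y hxy (fun i hi => by rw [hout i hi.1 hi.2, mul_zero]),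
        hN x y hx hy] at h1
      exact h1
    obtain ⟨z, -, hz⟩ := Finset.exists_mem_notMem_of_card_lt_card (s := ({x, y} : Finset ι)) (t := Finset.univ)
      (lt_of_le_of_lt Finset.card_le_two (by rw [Finset.card_univ]; exact hG.n3))
    simp only [Finset.mem_insert, Finset.mem_singleton, not_or] at hz
    obtain ⟨hzx, hzy⟩ := hz
    have huz := hout z hzx hzy
    have hφz : φ z = 0 := hA z huz
    set w : ι → F := Pi.single x (u x) + Pi.single z (u y) with hw
    set ψ : ι → F := Pi.single x (φ x) + Pi.single z (φ y) with hψ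
    have hmove : Hom G w ψ := by
      set η : ι → F := Pi.single z 1 - Pi.single y 1 with hη
      set w' : ι → F := Pi.single y 1 - Pi.single z 1 with hw'
      have hηw : 1 + η ⬝ᵥ w' = -1 := by
        rw [hη, hw', sub_dotProduct, dotProduct_sub, dotProduct_sub]
        simp [Pi.single_eq_of_ne hzy, Pi.single_eq_of_ne (Ne.symm hzy)]
      have hsw : InT G w' η := by
        have := hG.swap y z 1 1 (Ne.symm hzy) one_ne_zero one_ne_zero
        rwa [inv_one] at this
      have h1 := hom.conjR hsw (by rw [hηw]; simp)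
      rw [hηw, inv_neg, inv_one] at h1
      convert h1 using 1 <;> funext i
      · rw [hη, hw', sub_dotProduct, single_dotProduct, single_dotProduct, huz]
        rcases eq_or_ne i x with rfl | hix
        · simp [hw, Pi.single_eq_of_ne hxy, Pi.single_eq_of_ne (Ne.symm hzx)]
        rcases eq_or_ne i y with rfl | hiy
        · simp [hw, Pi.single_eq_of_ne hix, Pi.single_eq_of_ne (Ne.symm hzy)]
        rcases eq_or_ne i z with rfl | hiz
        · simp [hw, Pi.single_eq_of_ne hix, Pi.single_eq_of_ne hiy, huz]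
        simp [hw, Pi.single_eq_of_ne hix, Pi.single_eq_of_ne hiy, Pi.single_eq_of_ne hiz, hout i hix hiy]
      · rw [hη, hw', dotProduct_sub, dotProduct_single, dotProduct_single, hφz]
        rcases eq_or_ne i x with rfl | hix
        · simp [hψ, Pi.single_eq_of_ne hxy, Pi.single_eq_of_ne (Ne.symm hzx)]
        rcases eq_or_ne i y with rfl | hiy
        · simp [hψ, Pi.single_eq_of_ne hix, Pi.single_eq_of_ne (Ne.symm hzy)]
        rcases eq_or_ne i z with rfl | hiz
        · simp [hψ, Pi.single_eq_of_ne hix, Pi.single_eq_of_ne hiy, hφz]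
        simp [hψ, Pi.single_eq_of_ne hix, Pi.single_eq_of_ne hiy, Pi.single_eq_of_ne hiz,
          hA i (hout i hix hiy)]
    obtain ⟨lam, hlam⟩ := exists_avoid ({0, 1, -1} : Finset F)
      (lt_of_le_of_lt Finset.card_le_three (by linarith [hG.q5]))
    simp only [Finset.mem_insert, Finset.mem_singleton, not_or] at hlam
    obtain ⟨hl0, hl1, hl2⟩ := hlam
    have hdu : ψ ⬝ᵥ u = c := by
      rw [hψ, add_dotProduct, single_dotProduct, single_dotProduct, huz, mul_zero, add_zero, hN x y hx hy]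
    have hdw : φ ⬝ᵥ w = c := by
      rw [hw, dotProduct_add, dotProduct_single, dotProduct_single, hφz, zero_mul, add_zero, hN x y hx hy]
    have h1 := hom.conjR (hmove.mem (lam - 1) (by simpa using hl0)) (by
      rw [smul_dotProduct, hmove.one]; simpa using hl0)
    rw [smul_dotProduct, smul_dotProduct, hdu, hmove.one, hdw] at h1
    set U := u + ((lam - 1) • c) • w with hU
    set Φ := φ - (c * (1 + (lam - 1) • (1 : F))⁻¹) • (lam - 1) • ψ with hΦ
    have hUy : U y = u y := by simp [hU, hw, Pi.single_eq_of_ne (Ne.symm hxy), Pi.single_eq_of_ne (Ne.symm hzy)]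
    have hΦy : Φ y = φ y := by simp [hΦ, hψ, Pi.single_eq_of_ne (Ne.symm hxy), Pi.single_eq_of_ne (Ne.symm hzy)]
    have hUz : U z = (lam - 1) * c * u y := by simp [hU, hw, huz, Pi.single_eq_of_ne hzx]
    have hΦz : Φ z = -(c * lam⁻¹ * ((lam - 1) * φ y)) := by simp [hΦ, hψ, hφz, Pi.single_eq_of_ne hzx]
    have hUx : U x = u x * (1 + (lam - 1) * c) := by
      simp [hU, hw, Pi.single_eq_of_ne (Ne.symm hzx)]; ring
    have hc2 : (2 : F) * c = 1 := by linear_combination h2c
    have hl' : lam + 1 ≠ 0 := fun e' => hl2 (eq_neg_of_add_eq_zero_left e')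
    have h3 := hG.swapStep (h1.mem e hμ) (Ne.symm hzy) (by rw [hUy]; exact hy)
      (by rw [hUz]; exact mul_ne_zero (mul_ne_zero (sub_ne_zero.2 hl1) hc0) hy)
    refine hG.rootB h3 (b := x) (a := y) ?_ ?_ ?_
    · rw [hUx]
      refine mul_ne_zero hx fun e' => hl' ?_
      linear_combination 2 * e' - (lam - 1) * hc2
    · simp [Pi.single_eq_of_ne (Ne.symm hzx), Pi.single_eq_of_ne hxy]
    · simp only [Pi.smul_apply, Pi.sub_apply, smul_eq_mul, hUy, hΦy, hUz, hΦz, Pi.single_eq_same,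
        Pi.single_eq_of_ne (Ne.symm hzy), zero_sub]
      refine mul_ne_zero ?_ (neg_ne_zero.2 (inv_ne_zero hy))
      have : e * φ y * u y - e * -(c * lam⁻¹ * ((lam - 1) * φ y)) * ((lam - 1) * c * u y) =
          e * c * lam⁻¹ * (lam + c * c * (lam - 1) ^ 2) := by
        rw [hc]
        field_simp
        ring
      rw [this]
      refine mul_ne_zero (mul_ne_zero (mul_ne_zero he hc0) (inv_ne_zero hl0)) fun e' => ?_
      refine pow_ne_zero 2 hl' ?_
      linear_combination 4 * e' - (lam - 1) ^ 2 * (2 * c + 1) * hc2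
  -- more than two coordinates
  obtain ⟨lam, hl0, hl1, hlr⟩ : ∃ lam : F, lam ≠ 0 ∧ lam ≠ 1 ∧ c * (lam - 1) ^ 2 + lam ≠ 0 := by
    by_cases hr : ∃ r : F, c * (r - 1) ^ 2 + r = 0
    · obtain ⟨r, hr⟩ := hr
      obtain ⟨lam, hlam⟩ := exists_avoid ({0, 1, r, 2 - c⁻¹ - r} : Finset F)
        (lt_of_le_of_lt Finset.card_le_four (by linarith [hG.q5]))
      simp only [Finset.mem_insert, Finset.mem_singleton, not_or] at hlam
      refine ⟨lam, hlam.1, hlam.2.1, fun e' => ?_⟩
      have h4 : (lam - r) * (c * (lam + r - 2) + 1) = 0 := by linear_combination e' - hr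
      rcases mul_eq_zero.1 h4 with h4 | h4
      · exact hlam.2.2.1 (sub_eq_zero.1 h4)
      · refine hlam.2.2.2 ?_
        field_simp
        linear_combination h4
    · push Not at hr
      exact ⟨μ, hμ0, fun e' => he (sub_eq_zero.2 e'), hr μ⟩
  set ε := lam - 1 with hε
  have hε0 : ε ≠ 0 := sub_ne_zero.2 hl1
  have hlε : (1 + ε) ≠ 0 := by simpa [hε] using hl0
  have h1 := (hG.homBasis y).conjR (hom.mem ε hlε) (by
    rw [smul_dotProduct, hom.one, smul_eq_mul, mul_one]; exact hlε)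
  rw [smul_dotProduct, smul_dotProduct, hom.one, dotProduct_single, single_dotProduct] at h1
  simp only [smul_eq_mul, mul_one, one_mul] at h1
  set U : ι → F := Pi.single y 1 + (ε * φ y) • u with hU
  set Φ : ι → F := Pi.single y 1 - (u y * (1 + ε)⁻¹) • ε • φ with hΦ
  have hUi : ∀ i, i ≠ y → U i = ε * φ y * u i := fun i hi => by simp [hU, Pi.single_eq_of_ne hi]
  have hΦi : ∀ i, i ≠ y → Φ i = -(u y * (1 + ε)⁻¹ * (ε * φ i)) := fun i hi => by
    simp [hΦ, Pi.single_eq_of_ne hi]
  have hUy : U y = 1 + ε * c := by simp [hU, hc]; ring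
  have hΦy : Φ y = 1 - (1 + ε)⁻¹ * (ε * c) := by simp [hΦ, hc]; ring
  obtain ⟨x, hx, hxy⟩ : ∃ x, u x ≠ 0 ∧ x ≠ y := by
    by_contra hcon
    push Not at hcon
    have : S ⊆ {y} := fun i hi => Finset.mem_singleton.2 (hcon i ((hmem i).1 hi))
    have := Finset.card_le_card this
    rw [Finset.card_singleton] at this
    omega
  have hUx : U x ≠ 0 := by rw [hUi x hxy]; exact mul_ne_zero (mul_ne_zero hε0 (hB y hy)) hx
  have hΦx : Φ x ≠ 0 := by
    rw [hΦi x hxy]
    exact neg_ne_zero.2 (mul_ne_zero (mul_ne_zero hy (inv_ne_zero hlε)) (mul_ne_zero hε0 (hB x hx)))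
  by_cases hUy0 : U y = 0
  · by_cases hΦy0 : Φ y = 0
    · refine ih (k - 1) (by omega) U Φ ?_ (by omega) h1
      rw [← hk, ← Finset.card_erase_of_mem ((hmem y).2 hy)]
      congr 1
      ext i
      simp only [Finset.mem_filter, Finset.mem_univ, true_and, Finset.mem_erase, hmem]
      constructor
      · intro hi
        have hiy : i ≠ y := fun e' => hi (e' ▸ hUy0)
        exact ⟨hiy, fun e' => hi (by rw [hUi i hiy, e', mul_zero])⟩
      · rintro ⟨hiy, hi⟩
        rw [hUi i hiy]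
        exact mul_ne_zero (mul_ne_zero hε0 (hB y hy)) hi
    · exact hG.rootA (h1.mem e hμ) hUx hUy0 (by simpa using mul_ne_zero he hΦy0)
  by_cases hΦy0 : Φ y = 0
  · exact hG.rootB (h1.mem e hμ) hUy0 (by simp [hΦy0]) (a := x) (by simpa using mul_ne_zero he hΦx)
  obtain ⟨z, hz, hzx, hzy⟩ : ∃ z, u z ≠ 0 ∧ z ≠ x ∧ z ≠ y := by
    by_contra hcon
    push Not at hcon
    have : S ⊆ {x, y} := fun i hi => by
      by_cases hix : i = x
      · simp [hix]
      · simp [hcon i ((hmem i).1 hi) hix]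
    have := (Finset.card_le_card this).trans Finset.card_le_two
    omega
  have h3 := hG.swapStep (h1.mem e hμ) hxy hUx hUy0
  refine hG.rootB h3 (b := z) (a := x) (by rw [hUi z hzy]; exact mul_ne_zero (mul_ne_zero hε0 (hB y hy)) hz)
    ?_ ?_
  · simp [Pi.single_eq_of_ne hzx, Pi.single_eq_of_ne hzy]
  · simp only [Pi.smul_apply, Pi.sub_apply, smul_eq_mul, Pi.single_eq_same, Pi.single_eq_of_ne hxy, zero_sub]
    refine mul_ne_zero ?_ (neg_ne_zero.2 (inv_ne_zero hUx))
    have hxc : φ x * u x = c := hN x y hx hy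
    rw [hΦi x hxy, hUi x hxy, hΦy, hUy,
      show e * -(u y * (1 + ε)⁻¹ * (ε * φ x)) * (ε * φ y * u x) -
          e * (1 - (1 + ε)⁻¹ * (ε * c)) * (1 + ε * c) = -(e * (1 + ε)⁻¹ * (c * ε ^ 2 + (1 + ε))) by
        have : e * -(u y * (1 + ε)⁻¹ * (ε * φ x)) * (ε * φ y * u x) = -(e * (1 + ε)⁻¹ * ε ^ 2 * c * c) := by
          linear_combination (-(e * (1 + ε)⁻¹ * ε ^ 2 * (φ y * u y))) * hxc
        rw [this]
        field_simp
        ring]
    refine neg_ne_zero.2 (mul_ne_zero (mul_ne_zero he (inv_ne_zero hlε)) ?_)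
    rw [show (1 + ε) = lam by rw [hε]; ring]
    exact hlr

/-- A non-monomial element gives an elementary transvection. -/
theorem Ctx.exists_root {g : GL ι F} (hg : g ∈ G) (hmon : ¬ IsMon (g : Matrix ι ι F)) : HasRoot G := by
  classical
  obtain ⟨a, ha⟩ : ∃ a, ∀ i, ∃ i', i' ≠ i ∧ (g : Matrix ι ι F) i' a ≠ 0 := by
    simpa [IsMon] using hmon
  obtain ⟨j, -, hj⟩ := ha a
  obtain ⟨j', hj', hjj'⟩ := ha j
  set u := (g : Matrix ι ι F) *ᵥ Pi.single a 1
  have hu : ∀ i, u i = (g : Matrix ι ι F) i a := fun i => by simp [u]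
  refine hG.root_of_hom _ u (Pi.single a 1 ᵥ* ((g⁻¹ : GL ι F) : Matrix ι ι F)) rfl ?_
    ⟨by rw [vecMul_inv_dot]; simp, fun e he => ?_⟩
  · refine Finset.one_lt_card.2 ⟨j, ?_, j', ?_, Ne.symm hj'⟩
    · simp [hu, hj]
    · simp [hu, hjj']
  · have := ((hG.homBasis a).mem e he).conj hg
    rwa [Matrix.smul_vecMul] at this

end Cfsg.Agent.Classical.MaxMon
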