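import Cfsg.Agent.Lib.Classical.MaxMonomial

/-!
The monomial subgroup of `SL` in dimension six over at least five elements: the monomial elements and one
further element generate `SL`.
-/

set_option autoImplicit false
set_option linter.unusedSectionVars false

namespace Cfsg.Agent.Classical.MaxMon

open Matrix Module MaxTv

variable {F : Type*} [Field F] {ι : Type} [Fintype ι] [DecidableEq ι]

local notation "V" => (ι → F)
local notation "Mn" => Matrix ι ι F

/-- A monomial rank one change of the identity moves at most two coordinates. -/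
theorem mon_rankOne {k : GL ι F} (hk : IsMon (k : Mn)) {η w : V}
    (hkx : ∀ z : V, (k : Mn) *ᵥ z = z + (η ⬝ᵥ z) • w) :
    ∃ S : Finset ι, S.card ≤ 2 ∧ ∀ (z : V), ∀ i ∉ S, ((k : Mn) *ᵥ z) i = z i := by
  classical
  obtain ⟨π, x, hx, hπ⟩ := hk.exists_perm
  by_cases hall : ∀ j, π j = j ∧ x j = 1
  · refine ⟨∅, by simp, fun z i _ => ?_⟩
    have h := mon_apply hπ z i
    rwa [(hall i).1, (hall i).2, one_mul] at h
  push Not at hall
  obtain ⟨a, ha⟩ := hall
  refine ⟨{a, π a}, Finset.card_le_two, fun z i hi => ?_⟩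
  simp only [Finset.mem_insert, Finset.mem_singleton, not_or] at hi
  suffices h : π i = i ∧ x i = 1 by
    have h' := mon_apply hπ z i
    rwa [h.1, h.2, one_mul] at h'
  by_contra h
  -- the column of `a` gives the support of `w`
  have hcol : ∀ j, (Pi.single (π j) (x j) : V) - Pi.single j 1 = η j • w := fun j => by
    rw [← hπ, hkx, dotProduct_single, mul_one]; abel
  have hηa : η a ≠ 0 := fun e => by
    have h1 := hcol a
    rw [e, zero_smul, sub_eq_zero] at h1
    have hπa : π a = a := by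
      by_contra hne
      have := congrFun h1 a
      simp [Pi.single_eq_of_ne (Ne.symm hne)] at this
    rw [hπa] at h1
    exact ha hπa (Pi.single_inj a |>.1 h1)
  have hw : w i = 0 := by
    have := congrFun (hcol a) i
    rw [Pi.sub_apply, Pi.single_eq_of_ne hi.2, Pi.single_eq_of_ne hi.1, Pi.smul_apply, smul_eq_mul, sub_zero,
      eq_comm, mul_eq_zero] at this
    exact this.resolve_left hηa
  have h2 := congrFun (hcol i) i
  rw [Pi.smul_apply, hw, smul_zero, Pi.sub_apply, Pi.single_eq_same, sub_eq_zero] at h2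
  by_cases hπi : π i = i
  · exact h ⟨hπi, by rwa [hπi, Pi.single_eq_same] at h2⟩
  · rw [Pi.single_eq_of_ne (Ne.symm hπi)] at h2
    exact zero_ne_one h2

/-- A monomial rank two change of the identity moves at most four coordinates. -/
theorem mon_two {k : GL ι F} (hk : IsMon (k : Mn)) {u w α β : V}
    (hkx : ∀ z : V, (k : Mn) *ᵥ z = z + (α ⬝ᵥ z) • u + (β ⬝ᵥ z) • w) :
    ∃ S : Finset ι, S.card ≤ 4 ∧ ∀ (z : V), ∀ i ∉ S, ((k : Mn) *ᵥ z) i = z i := by
  classical
  obtain ⟨π, x, hx, hπ⟩ := hk.exists_perm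
  set S := Finset.univ.filter fun j => ¬ (π j = j ∧ x j = 1) with hS
  refine ⟨S, ?_, fun z i hi => ?_⟩
  swap
  · simp only [hS, Finset.mem_filter, Finset.mem_univ, true_and, not_not] at hi
    have h1 := mon_apply hπ z i
    rwa [hi.1, hi.2, one_mul] at h1
  by_contra hc
  push Not at hc
  obtain ⟨a, ha⟩ : S.Nonempty := Finset.card_pos.1 (by omega)
  obtain ⟨b, hb, hb'⟩ := Finset.exists_mem_notMem_of_card_lt_card (s := ({a, π a} : Finset ι)) (t := S)
    (lt_of_le_of_lt Finset.card_le_two (by omega))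
  obtain ⟨c, hc1, hc2⟩ := Finset.exists_mem_notMem_of_card_lt_card (s := ({a, π a, b, π b} : Finset ι))
    (t := S) (lt_of_le_of_lt Finset.card_le_four (by omega))
  simp only [Finset.mem_insert, Finset.mem_singleton, not_or] at hb' hc2
  obtain ⟨z, hz0, hzα, hzβ, hzs⟩ := exists_ker α β ![a, b, c] (by
    intro p q h
    fin_cases p <;> fin_cases q <;> simp_all)
  have hsupp : ∀ i, z i ≠ 0 → i = a ∨ i = b ∨ i = c := fun i hi => by
    by_contra hcon
    push Not at hcon
    exact hi (hzs i fun p => by fin_cases p <;> simp [hcon])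
  have key : ∀ j ∈ S, z j ≠ 0 → π j ≠ j ∧ z (π j) ≠ 0 := fun j hj hzj => by
    have h := mon_apply hπ z j
    rw [hkx, hzα, hzβ, zero_smul, zero_smul, add_zero, add_zero] at h
    refine ⟨fun e => ?_, by rw [h]; exact mul_ne_zero (hx j) hzj⟩
    rw [e] at h
    exact (Finset.mem_filter.1 hj).2 ⟨e, (mul_eq_right₀ hzj).1 h.symm⟩
  have za : z a = 0 := by
    by_contra h
    obtain ⟨h1, h2⟩ := key a ha h
    rcases hsupp _ h2 with e | e | e
    · exact h1 e
    · exact hb'.2 e.symm
    · exact hc2.2.1 e.symm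
  have zb : z b = 0 := by
    by_contra h
    obtain ⟨h1, h2⟩ := key b hb h
    rcases hsupp _ h2 with e | e | e
    · rw [e] at h2; exact h2 za
    · exact h1 e
    · exact hc2.2.2.2 e.symm
  have zc : z c = 0 := by
    by_contra h
    obtain ⟨h1, h2⟩ := key c hc1 h
    rcases hsupp _ h2 with e | e | e
    · rw [e] at h2; exact h2 za
    · rw [e] at h2; exact h2 zb
    · exact h1 e
  refine hz0 (funext fun i => ?_)
  by_contra h
  rcases hsupp i h with rfl | rfl | rfl
  exacts [h za, h zb, h zc]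

variable [Fintype F] {M : Subgroup (GL ι F)}

/-- Two zeros in a column of the inverse force a monomial element. -/
theorem two_zeros (hM : MonLe M) (hF : FixMon M) (hq : 5 ≤ Fintype.card F) (hn : 5 ≤ Fintype.card ι)
    {g : GL ι F} (hg : g ∈ M) {c a b : ι} (hab : a ≠ b) (hac : ((g⁻¹ : GL ι F) : Mn) a c = 0)
    (hbc : ((g⁻¹ : GL ι F) : Mn) b c = 0) : IsMon (g : Mn) := by
  classical
  obtain ⟨S, hS, hS'⟩ := pair_support hM hF hq hg hab hac hbc
  obtain ⟨T, hT, hT'⟩ := Finset.exists_subset_card_eq (s := Sᶜ) (n := 3) (by rw [Finset.card_compl]; omega)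
  have := three_zeros hM hF hq (by omega) (inv_mem hg) (c := a)
    (j := fun p => (T.equivFinOfCardEq hT').symm p)
    (Subtype.val_injective.comp (T.equivFinOfCardEq hT').symm.injective) fun p => by
      rw [inv_inv]
      exact (hS' _ (Finset.mem_compl.1 (hT ((T.equivFinOfCardEq hT').symm p).2))).1
  simpa using this.inv

set_option maxHeartbeats 2000000 in
/-- No zero in the inverse of a non-monomial element, in dimension at least six. -/
theorem no_zero (hM : MonLe M) (hF : FixMon M) (hq : 5 ≤ Fintype.card F) (hn : 6 ≤ Fintype.card ι)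
    {g : GL ι F} (hg : g ∈ M) (hmon : ¬ IsMon (g : Mn)) (o c : ι) : ((g⁻¹ : GL ι F) : Mn) o c ≠ 0 := by
  classical
  intro ho
  have hsparse : ∀ (y : V) (i a b : ι), a ≠ b → (g : Mn) *ᵥ y = Pi.single i 1 → y a = 0 → y b = 0 → False := by
    intro y i a b hab hy h1 h2
    have e : y = ((g⁻¹ : GL ι F) : Mn) *ᵥ Pi.single i 1 := by rw [← hy, inv_mulVec_cancel]
    rw [e, col_apply] at h1 h2
    exact hmon (two_zeros hM hF hq (by omega) hg hab h1 h2)
  have hgcol : ∀ i a b : ι, a ≠ b → (g : Mn) a i = 0 → (g : Mn) b i = 0 → False := fun i a b hab h1 h2 => by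
    have := two_zeros hM hF hq (by omega) (inv_mem hg) (c := i) hab (by rwa [inv_inv]) (by rwa [inv_inv])
    exact hmon (by simpa using this.inv)
  set v := ((g⁻¹ : GL ι F) : Mn) *ᵥ Pi.single c 1 with hv
  have hgv : (g : Mn) *ᵥ v = Pi.single c 1 := mulVec_inv_cancel g _
  have hvo : v o = 0 := by rw [hv, col_apply]; exact ho
  have hv0 : ∀ x, x ≠ o → v x ≠ 0 := fun x hx e => hsparse v c x o hx hgv e hvo
  by_cases h2 : (2 : F) = 0
  swap
  · -- a swap with a sign at `o`
    obtain ⟨p, -, hpo⟩ := Finset.exists_mem_notMem_of_card_lt_card (s := ({o} : Finset ι)) (t := Finset.univ)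
      (by rw [Finset.card_singleton, Finset.card_univ]; omega)
    obtain ⟨q, -, hqpo⟩ := Finset.exists_mem_notMem_of_card_lt_card (s := ({o, p} : Finset ι)) (t := Finset.univ)
      (lt_of_le_of_lt Finset.card_le_two (by rw [Finset.card_univ]; omega))
    simp only [Finset.mem_insert, Finset.mem_singleton, not_or] at hpo hqpo
    obtain ⟨s, hs, hsm, hsd⟩ := exists_swap (Ne.symm hqpo.2) (hv0 p hpo) (hv0 q hqpo.1)
    obtain ⟨d, hd⟩ := exists_diag (fun i => if i = o then (-1 : F) else 1)
      (fun i => by split_ifs <;> simp)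
    set η₁ : V := Pi.single q (v q)⁻¹ - Pi.single p (v p)⁻¹ with hη₁
    set w₁ : V := Pi.single p (v p) - Pi.single q (v q) with hw₁
    have hdx : ∀ z : V, (d : Mn) *ᵥ z = z + (-2 * z o) • Pi.single o 1 := fun z => by
      funext i
      rw [hd, Matrix.mulVec_diagonal]
      by_cases hi : i = o
      · subst hi; simp; ring
      · simp [hi]
    have hw₁o : w₁ o = 0 := by simp [hw₁, Pi.single_eq_of_ne (Ne.symm hpo), Pi.single_eq_of_ne (Ne.symm hqpo.1)]
    have hη₁o : η₁ o = 0 := by simp [hη₁, Pi.single_eq_of_ne (Ne.symm hpo), Pi.single_eq_of_ne (Ne.symm hqpo.1)]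
    have hsd' : ((s * d : GL ι F) : Mn).det = 1 := by
      rw [Units.val_mul, Matrix.det_mul, hsd, hd, Matrix.det_diagonal,
        Finset.prod_eq_single o (fun i _ hi => if_neg hi) (by simp), if_pos rfl]
      ring
    have hmM : s * d ∈ M := hM _ (by rw [Units.val_mul, hd]; exact hsm.mul (isMon_diagonal _)) hsd'
    have hmx : ∀ z : V, ((s * d : GL ι F) : Mn) *ᵥ z =
        z + (η₁ ⬝ᵥ z) • w₁ + ((Pi.single o (-2) : V) ⬝ᵥ z) • Pi.single o 1 := fun z => by
      rw [Units.val_mul, ← Matrix.mulVec_mulVec, hdx, hs, dotProduct_add, dotProduct_smul, dotProduct_single, hη₁o,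
        single_dotProduct]
      simp only [zero_mul, smul_zero, add_zero]
      module
    set k := g * (s * d) * g⁻¹ with hk
    have hkx : ∀ z : V, (k : Mn) *ᵥ z = z + ((η₁ ᵥ* ((g⁻¹ : GL ι F) : Mn)) ⬝ᵥ z) • ((g : Mn) *ᵥ w₁)
        + (((Pi.single o (-2) : V) ᵥ* ((g⁻¹ : GL ι F) : Mn)) ⬝ᵥ z) • ((g : Mn) *ᵥ Pi.single o 1) := fun z => by
      rw [hk, Units.val_mul (g * (s * d)) g⁻¹, Units.val_mul g (s * d), ← Matrix.mulVec_mulVec, ← Matrix.mulVec_mulVec, hmx,
        Matrix.mulVec_add, Matrix.mulVec_add, Matrix.mulVec_smul, Matrix.mulVec_smul, mulVec_inv_cancel,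
        ← Matrix.dotProduct_mulVec, ← Matrix.dotProduct_mulVec]
    have hfix : (k : Mn) *ᵥ Pi.single c 1 = Pi.single c 1 := by
      rw [hkx, ← hgv, vecMul_inv_dot, vecMul_inv_dot, hη₁, sub_dotProduct, single_dotProduct, single_dotProduct,
        single_dotProduct, hvo, inv_mul_cancel₀ (hv0 p hpo), inv_mul_cancel₀ (hv0 q hqpo.1)]
      simp
    have hmm : ∀ z : V, ((s * d : GL ι F) : Mn) *ᵥ (((s * d : GL ι F) : Mn) *ᵥ z) = z := fun z => by
      have e1 : η₁ ⬝ᵥ w₁ = -2 := by
        rw [hη₁, hw₁, sub_dotProduct, dotProduct_sub, dotProduct_sub]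
        simp [Pi.single_eq_of_ne hqpo.2, Pi.single_eq_of_ne (Ne.symm hqpo.2), inv_mul_cancel₀ (hv0 p hpo),
          inv_mul_cancel₀ (hv0 q hqpo.1)]
        ring
      rw [hmx, hmx z]
      simp only [dotProduct_add, dotProduct_smul, smul_eq_mul, e1, single_dotProduct, hw₁o, dotProduct_single, hη₁o,
        Pi.add_apply, Pi.smul_apply, Pi.single_eq_same]
      module
    obtain ⟨S, hS, hS'⟩ := mon_involution (hF k (mul_mem (mul_mem hg hmM) (inv_mem hg)) c 1 hfix)
      (fun z => by
        rw [hk, Units.val_mul (g * (s * d)) g⁻¹, Units.val_mul g (s * d), ← Matrix.mulVec_mulVec,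
          ← Matrix.mulVec_mulVec, ← Matrix.mulVec_mulVec, ← Matrix.mulVec_mulVec, inv_mulVec_cancel, hmm,
          mulVec_inv_cancel]) hkx
    obtain ⟨i₁, hi₁, i₂, hi₂, hne⟩ := Finset.one_lt_card.1 (show 1 < Sᶜ.card by rw [Finset.card_compl]; omega)
    have hz : ∀ i ∉ S, (g : Mn) i o = 0 := fun i hi => by
      have h1 := hS' ((g : Mn) *ᵥ Pi.single o 1) i hi
      rw [hkx, vecMul_inv_dot, vecMul_inv_dot, dotProduct_single, dotProduct_single, hη₁o] at h1
      simp [col_apply] at h1
      exact h1.resolve_left h2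
    exact hgcol o i₁ i₂ hne (hz i₁ (Finset.mem_compl.1 hi₁)) (hz i₂ (Finset.mem_compl.1 hi₂))
  -- characteristic two
  have hneg : ∀ a : F, -a = a := fun a => by linear_combination -a * h2
  set Z : Finset ι := Finset.univ.erase o with hZ
  have hZc : Z.card + 1 = Fintype.card ι := by
    rw [hZ, Finset.card_erase_add_one (Finset.mem_univ o), Finset.card_univ]
  have hZo : ∀ a, a ∈ Z ↔ a ≠ o := fun a => by simp [hZ]
  let y : ι → V := fun a => (g : Mn) *ᵥ Pi.single a (v a)
  have hy : ∀ a, y a = (g : Mn) *ᵥ Pi.single a (v a) := fun a => rfl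
  let D : ι → ι → Finset ι := fun a b => Finset.univ.filter fun i => y a i - y b i ≠ 0
  have hD : ∀ a b i, i ∈ D a b ↔ y a i - y b i ≠ 0 := fun a b i => by simp [D]
  -- a unit vector in the span of few differences
  have hunit : ∀ (x : V) (A : Finset ι), A.card ≤ 4 → (∀ i ∉ A, x i = 0) → x ≠ 0 →
      ∀ i, (∀ l, l ≠ i → ((g : Mn) *ᵥ x) l = 0) → False := fun x A hA hxA hx i hi => by
    obtain ⟨a, ha, b, hb, hab⟩ := Finset.one_lt_card.1 (show 1 < Aᶜ.card by rw [Finset.card_compl]; omega)
    have hs0 : ((g : Mn) *ᵥ x) i ≠ 0 := fun e => hx (gl_mulVec_injective g (by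
      show (g : Mn) *ᵥ x = (g : Mn) *ᵥ 0
      rw [Matrix.mulVec_zero]
      funext l
      by_cases hl : l = i
      · rw [hl, e]; rfl
      · exact hi l hl))
    refine hsparse ((((g : Mn) *ᵥ x) i)⁻¹ • x) i a b hab ?_ (by simp [hxA a (Finset.mem_compl.1 ha)])
      (by simp [hxA b (Finset.mem_compl.1 hb)])
    rw [Matrix.mulVec_smul]
    funext l
    by_cases hl : l = i
    · subst hl; simp [inv_mul_cancel₀ hs0]
    · simp [hl, hi l hl]
  have hDtwo : ∀ a ∈ Z, ∀ b ∈ Z, a ≠ b → (D a b).card = 2 := by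
    intro a ha b hb hab
    rw [hZo] at ha hb
    obtain ⟨s, hs, hsm, hsd⟩ := exists_swap hab (hv0 a ha) (hv0 b hb)
    set η : V := Pi.single b (v b)⁻¹ - Pi.single a (v a)⁻¹ with hη
    set w : V := Pi.single a (v a) - Pi.single b (v b) with hw
    have hsM : s ∈ M := hM s hsm (by rw [hsd, hneg])
    set k := g * s * g⁻¹ with hk
    have hkx : ∀ z : V, (k : Mn) *ᵥ z = z + ((η ᵥ* ((g⁻¹ : GL ι F) : Mn)) ⬝ᵥ z) • ((g : Mn) *ᵥ w) := fun z => by
      rw [hk, Units.val_mul, Units.val_mul, ← Matrix.mulVec_mulVec, ← Matrix.mulVec_mulVec, hs,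
        Matrix.mulVec_add, Matrix.mulVec_smul, mulVec_inv_cancel, ← Matrix.dotProduct_mulVec]
    have hfix : (k : Mn) *ᵥ Pi.single c 1 = Pi.single c 1 := by
      rw [hkx, ← hgv, vecMul_inv_dot, hη, sub_dotProduct, single_dotProduct, single_dotProduct,
        inv_mul_cancel₀ (hv0 a ha), inv_mul_cancel₀ (hv0 b hb)]
      simp
    obtain ⟨S, hS, hS'⟩ := mon_rankOne (hF k (mul_mem (mul_mem hg hsM) (inv_mem hg)) c 1 hfix) hkx
    have hgw : ∀ i, ((g : Mn) *ᵥ w) i = y a i - y b i := fun i => by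
      rw [hw, Matrix.mulVec_sub, Pi.sub_apply, hy, hy]
    have hsub : D a b ⊆ S := fun i hi => by
      by_contra hiS
      refine (hD a b i).1 hi ?_
      rw [← hgw]
      have h1 := hS' ((g : Mn) *ᵥ Pi.single a (v a)) i hiS
      rw [hkx, vecMul_inv_dot, hη, sub_dotProduct, single_dotProduct, single_dotProduct] at h1
      simp [hab, hab.symm, inv_mul_cancel₀ (hv0 a ha)] at h1
      linear_combination -h1
    refine le_antisymm ((Finset.card_le_card hsub).trans hS) ?_
    by_contra hlt
    have hw0 : w ≠ 0 := fun e => hv0 a ha (by simpa [hw, hab] using congrFun e a)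
    obtain ⟨i, hi⟩ : ∃ i, ∀ l, l ≠ i → ((g : Mn) *ᵥ w) l = 0 := by
      rcases (D a b).eq_empty_or_nonempty with he | ⟨i, hi⟩
      · exact ⟨a, fun l _ => by rw [hgw]; by_contra h; exact absurd ((hD a b l).2 h) (by simp [he])⟩
      · refine ⟨i, fun l hl => by_contra fun h => hl ?_⟩
        exact Finset.card_le_one.1 (by omega) l ((hD a b l).2 (by rwa [← hgw])) i hi
    exact hunit w {a, b} (Finset.card_le_two.trans (by norm_num)) (fun l hl => by
      simp only [Finset.mem_insert, Finset.mem_singleton, not_or] at hl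
      simp [hw, hl.1, hl.2]) hw0 i hi
  obtain ⟨a, ha⟩ := Finset.card_pos.1 (show 0 < Z.card by omega)
  have hZ' : (Z.erase a).card + 1 = Z.card := Finset.card_erase_add_one ha
  -- differences as maps on three coordinates
  have hrank : ∀ b ∈ Z.erase a, ∀ b' ∈ Z.erase a, ∀ d ∈ Z.erase a, b ≠ b' → b ≠ d → b' ≠ d →
      ¬ ∃ T : Finset ι, T.card ≤ 3 ∧ D a b ⊆ T ∧ D a b' ⊆ T ∧ D a d ⊆ T := by
    rintro b hb b' hb' d hd n1 n2 n3 ⟨T, hT, t1, t2, t3⟩
    obtain ⟨T', hT', hT'c⟩ := Finset.exists_superset_card_eq (s := T) (n := 3) hT (by omega)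
    have he : ∀ x ∈ Z.erase a, x ≠ a ∧ v x ≠ 0 := fun x hx =>
      ⟨(Finset.mem_erase.1 hx).1, hv0 x ((hZo x).1 (Finset.mem_erase.1 hx).2)⟩
    -- some combination of the three differences is supported on one row
    obtain ⟨r, hr⟩ := Finset.card_pos.1 (show 0 < T'.card by omega)
    have hT'e : (T'.erase r).card = 2 := by rw [Finset.card_erase_of_mem hr, hT'c]
    obtain ⟨r₁, r₂, -, hre⟩ := Finset.card_eq_two.1 hT'e
    let W : Fin 3 → ι := ![b, b', d]
    let R : Fin 2 → ι := ![r₁, r₂]
    let L : (Fin 3 → F) →ₗ[F] (Fin 2 → F) :=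
      (Matrix.of fun (s : Fin 2) (i : Fin 3) => y a (R s) - y (W i) (R s)).mulVecLin
    obtain ⟨γ, hγ, hγ0⟩ := Submodule.exists_mem_ne_zero_of_ne_bot
      (LinearMap.ker_ne_bot_of_finrank_lt (f := L) (by simp))
    set x : V := ∑ i, γ i • (Pi.single a (v a) - Pi.single (W i) (v (W i)) : V) with hx
    have hgx : ∀ l, ((g : Mn) *ᵥ x) l = ∑ i, γ i * (y a l - y (W i) l) := fun l => by
      simp only [hx, Matrix.mulVec_sum, Matrix.mulVec_smul, Matrix.mulVec_sub, Finset.sum_apply, Pi.smul_apply,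
        Pi.sub_apply, smul_eq_mul, ← hy]
    have hWZ : ∀ i, W i ∈ Z.erase a := fun i => by fin_cases i <;> assumption
    have hWinj : Function.Injective W := fun i j e => by
      fin_cases i <;> fin_cases j <;> simp_all [W]
    refine hunit x {a, b, b', d} Finset.card_le_four (fun l hl => ?_) (fun e => hγ0 (funext fun i => ?_)) r
      fun l hl => ?_
    · simp only [Finset.mem_insert, Finset.mem_singleton, not_or] at hl
      simp [hx, W, Fin.sum_univ_three, hl.1, hl.2.1, hl.2.2.1, hl.2.2.2]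
    · have := congrFun e (W i)
      simp only [hx, Finset.sum_apply, Pi.smul_apply, Pi.sub_apply, smul_eq_mul, Pi.zero_apply] at this
      rw [Finset.sum_eq_single i (fun j _ hj => by
        rw [Pi.single_eq_of_ne (he _ (hWZ i)).1, Pi.single_eq_of_ne (fun e => hj (hWinj e).symm)]; ring)
        (by simp), Pi.single_eq_of_ne (he _ (hWZ i)).1, Pi.single_eq_same, zero_sub, mul_neg, neg_eq_zero,
        mul_eq_zero] at this
      exact this.resolve_right (he _ (hWZ i)).2
    · rw [hgx]
      by_cases hlT : l ∈ T'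
      · have hl' : l ∈ T'.erase r := Finset.mem_erase.2 ⟨hl, hlT⟩
        rw [hre] at hl'
        obtain ⟨s, rfl⟩ : ∃ s, R s = l := by
          rcases Finset.mem_insert.1 hl' with h | h
          · exact ⟨0, h.symm⟩
          · exact ⟨1, (Finset.mem_singleton.1 h).symm⟩
        have := congrFun (LinearMap.mem_ker.1 hγ) s
        simpa [L, Matrix.mulVec, dotProduct, mul_comm] using this
      · refine Finset.sum_eq_zero fun i _ => mul_eq_zero_of_right _ ?_
        have hlT0 : l ∉ T := fun h => hlT (hT' h)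
        by_contra h
        have hl0 : l ∈ D a (W i) := (hD a (W i) l).2 h
        fin_cases i
        exacts [hlT0 (t1 hl0), hlT0 (t2 hl0), hlT0 (t3 hl0)]
  -- two differences meet in one row
  have hmeet : ∀ b ∈ Z.erase a, ∀ b' ∈ Z.erase a, b ≠ b' → (D a b ∩ D a b').card = 1 := by
    intro b hb b' hb' hne
    have hbZ := Finset.mem_erase.1 hb
    have hb'Z := Finset.mem_erase.1 hb'
    have c1 := hDtwo a ha b hbZ.2 (Ne.symm hbZ.1)
    have c2 := hDtwo a ha b' hb'Z.2 (Ne.symm hb'Z.1)
    have c3 := hDtwo b hbZ.2 b' hb'Z.2 hne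
    have hsub : D b b' ⊆ D a b ∪ D a b' := fun i hi => by
      rw [Finset.mem_union, hD, hD]
      by_contra h
      push Not at h
      exact (hD b b' i).1 hi (by linear_combination h.2 - h.1)
    have hu := Finset.card_union_add_card_inter (D a b) (D a b')
    obtain ⟨d, hd, hdn⟩ := Finset.exists_mem_notMem_of_card_lt_card (s := ({b, b'} : Finset ι)) (t := Z.erase a)
      (lt_of_le_of_lt Finset.card_le_two (by omega))
    simp only [Finset.mem_insert, Finset.mem_singleton, not_or] at hdn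
    refine le_antisymm ?_ ?_
    · by_contra h
      refine hrank b hb b' hb' d hd hne (Ne.symm hdn.1) (Ne.symm hdn.2) ?_
      have heq : D a b = D a b' := Finset.eq_of_subset_of_card_le
        (Finset.inter_eq_left.1 (Finset.eq_of_subset_of_card_le Finset.inter_subset_left (by omega))) (by omega)
      refine ⟨D a b ∪ D a d, ?_, Finset.subset_union_left, by rw [heq]; exact Finset.subset_union_left,
        Finset.subset_union_right⟩
      have c4 := hDtwo a ha d (Finset.mem_erase.1 hd).2 (Ne.symm (Finset.mem_erase.1 hd).1)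
      have hu2 := Finset.card_union_add_card_inter (D a b) (D a d)
      by_contra h3
      have hsub2 : D b d ⊆ D a b ∪ D a d := fun i hi => by
        rw [Finset.mem_union, hD, hD]
        by_contra h
        push Not at h
        exact (hD b d i).1 hi (by linear_combination h.2 - h.1)
      have he : (D a b ∩ D a d).card = 0 := by omega
      have : D a b ∪ D a d ⊆ D b d := fun i hi => by
        rw [hD]
        rcases Finset.mem_union.1 hi with hi' | hi'
        · have hni : y a i - y d i = 0 := by_contra fun h =>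
            absurd (Finset.mem_inter.2 ⟨hi', (hD a d i).2 h⟩) (Finset.eq_empty_iff_forall_notMem.1
              (Finset.card_eq_zero.1 he) i)
          intro e
          exact (hD a b i).1 hi' (by linear_combination hni - e)
        · have hni : y a i - y b i = 0 := by_contra fun h =>
            absurd (Finset.mem_inter.2 ⟨(hD a b i).2 h, hi'⟩) (Finset.eq_empty_iff_forall_notMem.1
              (Finset.card_eq_zero.1 he) i)
          intro e
          exact (hD a d i).1 hi' (by linear_combination hni + e)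
      have := Finset.card_le_card this
      have := hDtwo b hbZ.2 d (Finset.mem_erase.1 hd).2 (Ne.symm hdn.1)
      omega
    · by_contra h
      have hall : D a b ∪ D a b' ⊆ D b b' := fun i hi => by
        rw [hD]
        have he : D a b ∩ D a b' = ∅ := Finset.card_eq_zero.1 (by omega)
        rcases Finset.mem_union.1 hi with hi' | hi'
        · have hni : y a i - y b' i = 0 := by_contra fun h =>
            absurd (Finset.mem_inter.2 ⟨hi', (hD a b' i).2 h⟩) (by simp [he])
          intro e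
          exact (hD a b i).1 hi' (by linear_combination hni - e)
        · have hni : y a i - y b i = 0 := by_contra fun h =>
            absurd (Finset.mem_inter.2 ⟨(hD a b i).2 h, hi'⟩) (by simp [he])
          intro e
          exact (hD a b' i).1 hi' (by linear_combination hni + e)
      have := Finset.card_le_card hall
      omega
  obtain ⟨b₀, hb₀⟩ := Finset.card_pos.1 (show 0 < (Z.erase a).card by omega)
  obtain ⟨b₁, hb₁, hb₁'⟩ := Finset.exists_mem_ne (show 1 < (Z.erase a).card by omega) b₀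
  obtain ⟨i₀, hi₀⟩ := Finset.card_eq_one.1 (hmeet b₀ hb₀ b₁ hb₁ (Ne.symm hb₁'))
  have hi₀m : i₀ ∈ D a b₀ ∧ i₀ ∈ D a b₁ := Finset.mem_inter.1 (by rw [hi₀]; simp)
  have hstar : ∀ b ∈ Z.erase a, i₀ ∈ D a b := by
    intro b hb
    by_cases e0 : b = b₀
    · rw [e0]; exact hi₀m.1
    by_cases e1 : b = b₁
    · rw [e1]; exact hi₀m.2
    by_contra hni
    refine hrank b₀ hb₀ b₁ hb₁ b hb (Ne.symm hb₁') (Ne.symm e0) (Ne.symm e1) ⟨D a b₀ ∪ D a b₁, ?_,
      Finset.subset_union_left, Finset.subset_union_right, ?_⟩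
    · have := Finset.card_union_add_card_inter (D a b₀) (D a b₁)
      rw [hmeet b₀ hb₀ b₁ hb₁ (Ne.symm hb₁'), hDtwo a ha b₀ (Finset.mem_erase.1 hb₀).2
        (Ne.symm (Finset.mem_erase.1 hb₀).1), hDtwo a ha b₁ (Finset.mem_erase.1 hb₁).2
        (Ne.symm (Finset.mem_erase.1 hb₁).1)] at this
      omega
    · obtain ⟨j₀, hj₀⟩ := Finset.card_eq_one.1 (hmeet b hb b₀ hb₀ e0)
      obtain ⟨j₁, hj₁⟩ := Finset.card_eq_one.1 (hmeet b hb b₁ hb₁ e1)
      have m0 : j₀ ∈ D a b ∧ j₀ ∈ D a b₀ := Finset.mem_inter.1 (by rw [hj₀]; simp)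
      have m1 : j₁ ∈ D a b ∧ j₁ ∈ D a b₁ := Finset.mem_inter.1 (by rw [hj₁]; simp)
      have hne : j₀ ≠ j₁ := fun e => hni (by
        have : j₀ ∈ D a b₀ ∩ D a b₁ := Finset.mem_inter.2 ⟨m0.2, e ▸ m1.2⟩
        rw [hi₀, Finset.mem_singleton] at this
        exact this ▸ m0.1)
      have : D a b = {j₀, j₁} := (Finset.eq_of_subset_of_card_le (by
        intro i hi; rcases Finset.mem_insert.1 hi with rfl | hi
        · exact m0.1
        · rw [Finset.mem_singleton.1 hi]; exact m1.1)
        (by rw [hDtwo a ha b (Finset.mem_erase.1 hb).2 (Ne.symm (Finset.mem_erase.1 hb).1),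
          Finset.card_pair hne])).symm
      rw [this]
      intro i hi
      rcases Finset.mem_insert.1 hi with rfl | hi
      · exact Finset.mem_union_left _ m0.2
      · rw [Finset.mem_singleton.1 hi]; exact Finset.mem_union_right _ m1.2
  -- the row of each coordinate
  have hrow : ∀ b ∈ Z.erase a, ∃ i, i ≠ i₀ ∧ D a b = {i₀, i} := fun b hb => by
    obtain ⟨p, q, hpq, he⟩ := Finset.card_eq_two.1
      (hDtwo a ha b (Finset.mem_erase.1 hb).2 (Ne.symm (Finset.mem_erase.1 hb).1))
    have := hstar b hb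
    rw [he, Finset.mem_insert, Finset.mem_singleton] at this
    rcases this with h | h
    · exact ⟨q, h ▸ Ne.symm hpq, by rw [he, h]⟩
    · exact ⟨p, h ▸ hpq, by rw [he, h, Finset.pair_comm]⟩
  choose! row hrow₁ hrow₂ using hrow
  have hrowinj : ∀ b ∈ Z.erase a, ∀ b' ∈ Z.erase a, row b = row b' → b = b' := fun b hb b' hb' e => by
    by_contra hne
    have := hmeet b hb b' hb' hne
    rw [hrow₂ b hb, hrow₂ b' hb', e, Finset.inter_self, Finset.card_pair (Ne.symm (hrow₁ b' hb'))] at this
    omega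
  set α := y a i₀ - y b₀ i₀ with hαdef
  have hα0 : α ≠ 0 := (hD a b₀ i₀).1 hi₀m.1
  have hαall : ∀ b ∈ Z.erase a, y a i₀ - y b i₀ = α := fun b hb => by
    by_cases e : b = b₀
    · rw [e]
    by_contra hne
    have hin : i₀ ∈ D b b₀ := (hD b b₀ i₀).2 fun h => hne (by rw [hαdef]; linear_combination -h)
    have r1 : row b ≠ row b₀ := fun h => e (hrowinj b hb b₀ hb₀ h)
    have h1 : row b ∈ D b b₀ := (hD b b₀ _).2 fun h => by
      have hni : row b ∉ D a b₀ := by rw [hrow₂ b₀ hb₀]; simp [r1, hrow₁ b hb]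
      have hz : y a (row b) - y b₀ (row b) = 0 := by_contra fun h' => hni ((hD a b₀ _).2 h')
      exact (hD a b (row b)).1 (by rw [hrow₂ b hb]; simp) (by linear_combination hz - h)
    have h1' : row b₀ ∈ D b b₀ := (hD b b₀ _).2 fun h => by
      have hni : row b₀ ∉ D a b := by rw [hrow₂ b hb]; simp [Ne.symm r1, hrow₁ b₀ hb₀]
      have hz : y a (row b₀) - y b (row b₀) = 0 := by_contra fun h' => hni ((hD a b _).2 h')
      exact (hD a b₀ (row b₀)).1 (by rw [hrow₂ b₀ hb₀]; simp) (by linear_combination h + hz)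
    have := Finset.card_le_card (show ({i₀, row b, row b₀} : Finset ι) ⊆ D b b₀ from fun i hi => by
      simp only [Finset.mem_insert, Finset.mem_singleton] at hi
      rcases hi with rfl | rfl | rfl <;> assumption)
    rw [Finset.card_eq_three.2 ⟨i₀, row b, row b₀, Ne.symm (hrow₁ b hb), Ne.symm (hrow₁ b₀ hb₀), r1, rfl⟩,
      hDtwo b (Finset.mem_erase.1 hb).2 b₀ (Finset.mem_erase.1 hb₀).2 e] at this
    omega
  -- one unit per coordinate
  set z : V := y a - Pi.single i₀ α with hz
  let π : ι → ι := fun b => if b = a then i₀ else row b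
  let β : ι → F := fun b => if b = a then α else y b (row b) - y a (row b)
  have hyb : ∀ b ∈ Z, y b = z + Pi.single (π b) (β b) := fun b hb => by
    by_cases e : b = a
    · subst e; simp [hz, π, β]
    have hb' := Finset.mem_erase.2 ⟨e, hb⟩
    funext l
    simp only [hz, π, β, if_neg e, Pi.add_apply, Pi.sub_apply]
    by_cases hl : l = i₀
    · subst hl
      rw [Pi.single_eq_same, Pi.single_eq_of_ne (Ne.symm (hrow₁ b hb'))]
      linear_combination -(hαall b hb')
    rw [Pi.single_eq_of_ne hl]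
    by_cases hl' : l = row b
    · subst hl'; rw [Pi.single_eq_same]; ring
    rw [Pi.single_eq_of_ne hl']
    have hni : l ∉ D a b := by rw [hrow₂ b hb']; simp [hl, hl']
    have hzl : y a l - y b l = 0 := by_contra fun h' => hni ((hD a b l).2 h')
    linear_combination -hzl
  have hβ0 : ∀ b ∈ Z, β b ≠ 0 := fun b hb => by
    by_cases e : b = a
    · simp only [β, if_pos e]; exact hα0
    · simp only [β, if_neg e]
      intro h
      exact (hD a b (row b)).1 (by rw [hrow₂ b (Finset.mem_erase.2 ⟨e, hb⟩)]; simp) (by linear_combination -h)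
  have hπinj : ∀ b ∈ Z, ∀ b' ∈ Z, π b = π b' → b = b' := fun b hb b' hb' h => by
    by_cases e : b = a <;> by_cases e' : b' = a
    · rw [e, e']
    · simp only [π, if_pos e, if_neg e'] at h
      exact absurd h.symm (hrow₁ b' (Finset.mem_erase.2 ⟨e', hb'⟩))
    · simp only [π, if_neg e, if_pos e'] at h
      exact absurd h (hrow₁ b (Finset.mem_erase.2 ⟨e, hb⟩))
    · simp only [π, if_neg e, if_neg e'] at h
      exact hrowinj b (Finset.mem_erase.2 ⟨e, hb⟩) b' (Finset.mem_erase.2 ⟨e', hb'⟩) h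
  have hsum : ∀ f : ι → F, (g : Mn) *ᵥ (∑ b ∈ Z, f b • Pi.single b (v b)) =
      (∑ b ∈ Z, f b) • z + ∑ b ∈ Z, Pi.single (π b) (f b * β b) := fun f => by
    rw [Matrix.mulVec_sum, Finset.sum_smul, ← Finset.sum_add_distrib]
    refine Finset.sum_congr rfl fun b hb => ?_
    rw [Matrix.mulVec_smul, ← hy, hyb b hb, smul_add, ← Pi.single_smul, smul_eq_mul]
  have hvsum : v = ∑ b ∈ Z, (1 : F) • Pi.single b (v b) := by
    simp only [one_smul]
    funext l
    rw [Finset.sum_apply]
    by_cases hl : l = o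
    · subst hl
      rw [hvo, Finset.sum_eq_zero fun b hb => Pi.single_eq_of_ne (Ne.symm ((hZo b).1 hb)) _]
    · rw [Finset.sum_eq_single l (fun b _ hb => Pi.single_eq_of_ne (Ne.symm hb) _) (fun h => absurd ((hZo l).2 hl) h),
        Pi.single_eq_same]
  rcases (Nat.even_or_odd (Fintype.card ι)).symm with ⟨m, hm⟩ | hev
  · -- odd dimension: the coefficients cancel
    have h0 : (∑ b ∈ Z, (1 : F)) = 0 := by
      rw [Finset.sum_const, show Z.card = 2 * m by omega, nsmul_eq_mul, mul_one]
      push_cast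
      rw [h2, zero_mul]
    have h := hsum fun _ => 1
    rw [← hvsum, hgv, h0, zero_smul, zero_add] at h
    simp only [one_mul] at h
    have hev' : ∀ b ∈ Z, π b = c := fun b hb => by
      by_contra hne
      have h1 := congrFun h (π b)
      rw [Pi.single_eq_of_ne hne, Finset.sum_apply, Finset.sum_eq_single b (fun x hx hxb => Pi.single_eq_of_ne
        (fun e => hxb (hπinj x hx b hb e.symm)) _) (fun hb' => absurd hb hb'), Pi.single_eq_same] at h1
      exact hβ0 b hb h1.symm
    obtain ⟨b₂, hb₂⟩ := Finset.card_pos.1 (show 0 < Z.card by omega)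
    obtain ⟨b, hb, hne⟩ := Finset.exists_mem_ne (show 1 < Z.card by omega) b₂
    exact hne (hπinj b hb b₂ hb₂ ((hev' b hb).trans (hev' b₂ hb₂).symm))
  have hZodd : ∃ m : ℕ, Z.card = 2 * m + 5 := by
    obtain ⟨m, hm⟩ := hev
    exact ⟨m - 3, by omega⟩
  have h5 : (∑ b ∈ Z, (1 : F)) = 1 := by
    obtain ⟨m, hm⟩ := hZodd
    rw [Finset.sum_const, hm, nsmul_eq_mul, mul_one]; push_cast; linear_combination ((m : F) + 2) * h2
  have hze : z = Pi.single c 1 + ∑ b ∈ Z, Pi.single (π b) (β b) := by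
    have h := hsum fun _ => 1
    rw [← hvsum, hgv, h5, one_smul] at h
    simp only [one_mul] at h
    rw [h]
    funext l
    simp only [Pi.add_apply]
    linear_combination -((∑ b ∈ Z, (Pi.single (π b) (β b) : V)) l) * h2
  have hsingle : ∀ (f : ι → F) (b : ι), b ∈ Z → (∑ x ∈ Z, (Pi.single (π x) (f x) : V)) (π b) = f b :=
    fun f b hb => by
      rw [Finset.sum_apply, Finset.sum_eq_single b (fun x hx hne => Pi.single_eq_of_ne
        (fun e => hne (hπinj x hx b hb e.symm)) _) (fun h => absurd hb h), Pi.single_eq_same]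
  have hout : ∀ (f : ι → F) (l : ι), (∀ b ∈ Z, π b ≠ l) → (∑ x ∈ Z, (Pi.single (π x) (f x) : V)) l = 0 :=
    fun f l hl => by
      rw [Finset.sum_apply]; exact Finset.sum_eq_zero fun x hx => Pi.single_eq_of_ne (Ne.symm (hl x hx)) _
  have hcπ : ∀ b ∈ Z, π b ≠ c := by
    intro b₂ hb₂ e
    obtain ⟨b, hb, hne⟩ := Finset.exists_mem_ne (show 1 < Z.card by omega) b₂
    -- the column of `b` has two zeros
    have hcard : (Z.image π).card = Z.card :=
      Finset.card_image_of_injOn fun x hx x' hx' h => hπinj x hx x' hx' h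
    obtain ⟨l, -, hl⟩ := Finset.exists_mem_notMem_of_card_lt_card (s := Z.image π) (t := Finset.univ)
      (by rw [hcard, Finset.card_univ]; omega)
    simp only [Finset.mem_image, not_exists, not_and] at hl
    have hlc : l ≠ c := fun h => hl b₂ hb₂ (e.trans h.symm)
    have hbo : v b ≠ 0 := hv0 b ((hZo b).1 hb)
    have hyv : ∀ i, y b i = (g : Mn) i b * v b := fun i => by
      rw [hy, show (Pi.single b (v b) : V) = v b • Pi.single b 1 by rw [← Pi.single_smul, smul_eq_mul, mul_one],
        Matrix.mulVec_smul, Pi.smul_apply, col_apply, smul_eq_mul, mul_comm]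
    refine hgcol b (π b) l (hl b hb) ((mul_eq_zero.1 ((hyv _).symm.trans ?_)).resolve_right hbo)
      ((mul_eq_zero.1 ((hyv _).symm.trans ?_)).resolve_right hbo)
    · have hbc : π b ≠ c := fun h => hne (hπinj b hb b₂ hb₂ (h.trans e.symm))
      rw [hyb b hb, Pi.add_apply, hze, Pi.add_apply, Pi.single_eq_of_ne hbc, hsingle _ b hb, Pi.single_eq_same]
      linear_combination (β b) * h2
    · rw [hyb b hb, Pi.add_apply, hze, Pi.add_apply, Pi.single_eq_of_ne hlc, hout _ l hl,
        Pi.single_eq_of_ne (Ne.symm (hl b hb))]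
      ring
  -- three equal scalars and two more
  obtain ⟨u, hu0, hu5⟩ : ∃ u : F, u ≠ 0 ∧ u ^ 5 ≠ 1 := by
    by_contra hcon
    push Not at hcon
    have hsub : (Finset.univ : Finset F) ⊆
        insert 0 (Polynomial.X ^ 5 - Polynomial.C 1 : Polynomial F).roots.toFinset := fun u _ => by
      by_cases hu : u = 0
      · simp [hu]
      · refine Finset.mem_insert_of_mem ?_
        rw [Multiset.mem_toFinset, Polynomial.mem_roots (Polynomial.X_pow_sub_C_ne_zero (by norm_num) 1)]
        simp [hcon u hu]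
    have := (Finset.card_le_card hsub).trans (Finset.card_insert_le _ _)
    have h := (Multiset.toFinset_card_le _).trans
      (Polynomial.card_roots' (Polynomial.X ^ 5 - Polynomial.C 1 : Polynomial F))
    rw [Polynomial.natDegree_X_pow_sub_C] at h
    rw [Finset.card_univ] at this
    obtain ⟨p, hcp⟩ := CharP.exists F
    obtain ⟨e, -, he⟩ := FiniteField.card F p
    have hp2 : p = 2 := by
      have := (CharP.cast_eq_zero_iff F p 2).1 (by exact_mod_cast h2)
      exact (Nat.prime_dvd_prime_iff_eq (CharP.char_is_prime F p) Nat.prime_two).1 this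
    subst hp2
    have h8 : 8 ≤ 2 ^ (e : ℕ) := by
      calc 8 = 2 ^ 3 := by norm_num
        _ ≤ 2 ^ (e : ℕ) := Nat.pow_le_pow_right (by norm_num) (by
          by_contra h'
          have := Nat.pow_le_pow_right (show 1 ≤ 2 by norm_num) (show (e : ℕ) ≤ 2 by omega)
          omega)
    omega
  have hchar : CharP F 2 := CharTwo.of_one_ne_zero_of_two_eq_zero one_ne_zero h2
  obtain ⟨w, hw⟩ := FiniteField.isSquare_of_char_two (ringChar.eq F 2) (u ^ 3)⁻¹
  have hw0 : w ≠ 0 := fun e => by
    rw [e, mul_zero, inv_eq_zero] at hw; exact pow_ne_zero 3 hu0 hw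
  have hu1 : u ≠ 1 := fun e => hu5 (by rw [e, one_pow])
  -- five places
  obtain ⟨Y, hYZ, hYc⟩ := Finset.exists_subset_card_eq (s := Z) (n := 5) (by omega)
  let ε : Fin 5 ≃ Y := (Y.equivFinOfCardEq hYc).symm
  let f : ι → F := fun l => if h : l ∈ Y then ![u, u, u, w, w] (ε.symm ⟨l, h⟩) else 1
  have hfε : ∀ i, f (ε i) = ![u, u, u, w, w] i := fun i => by
    simp only [f, dif_pos (ε i).2, Subtype.coe_eta, Equiv.symm_apply_apply]
  have hsumε : ∀ φ : ι → F, ∑ x ∈ Y, φ x = ∑ i, φ (ε i) := fun φ => by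
    rw [← Finset.sum_coe_sort Y, ← Equiv.sum_comp ε]
  have hf0 : ∀ l, f l ≠ 0 := fun l => by
    by_cases hl : l ∈ Y
    · simp only [f, dif_pos hl]
      generalize ε.symm ⟨l, hl⟩ = i
      fin_cases i <;> simp [hu0, hw0]
    · simp [f, dif_neg hl]
  have hfp : ∏ l, f l = 1 := by
    rw [← Finset.prod_subset (Finset.subset_univ Y) (fun l _ hl => by simp [f, dif_neg hl]),
      ← Finset.prod_coe_sort Y, ← Equiv.prod_comp ε, Fin.prod_univ_five]
    simp only [hfε]
    show u * u * u * w * w = 1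
    rw [show u * u * u * w * w = u ^ 3 * (w * w) by ring, ← hw, mul_inv_cancel₀ (pow_ne_zero 3 hu0)]
  have hfsum : ∑ b ∈ Z, f b = u := by
    obtain ⟨m, hm⟩ := hZodd
    rw [← Finset.sum_sdiff hYZ, Finset.sum_congr rfl (fun l hl => show f l = 1 by
      simp [f, dif_neg (Finset.mem_sdiff.1 hl).2]), Finset.sum_const, Finset.card_sdiff_of_subset hYZ, hm, hYc,
      show 2 * m + 5 - 5 = 2 * m by omega, nsmul_eq_mul, mul_one, hsumε, Fin.sum_univ_five]
    simp only [hfε]
    show ((2 * m : ℕ) : F) + (u + u + u + w + w) = u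
    push_cast
    linear_combination (u + w + m) * h2
  obtain ⟨d, hdM, hd⟩ := hM.diag f hf0 hfp
  set k := g * d * g⁻¹ with hk
  have hkM : k ∈ M := mul_mem (mul_mem hg hdM) (inv_mem hg)
  have hkc : (k : Mn) *ᵥ Pi.single c 1 = u • Pi.single c 1 + ∑ b ∈ Z, Pi.single (π b) ((u + f b) * β b) := by
    rw [hk, Units.val_mul, Units.val_mul, ← Matrix.mulVec_mulVec, ← Matrix.mulVec_mulVec, ← hv,
      show (d : Mn) *ᵥ v = ∑ b ∈ Z, f b • (Pi.single b (v b) : V) from ?_, hsum, hfsum, hze]
    · rw [smul_add, Finset.smul_sum, add_assoc, ← Finset.sum_add_distrib]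
      congr 1
      refine Finset.sum_congr rfl fun b _ => ?_
      rw [← Pi.single_smul, smul_eq_mul, ← Pi.single_add, add_mul]
    · rw [hd]
      funext l
      rw [Matrix.mulVec_diagonal, Finset.sum_apply]
      by_cases hl : l = o
      · subst hl
        rw [hvo, mul_zero, Finset.sum_eq_zero fun b hb => by
          rw [Pi.smul_apply, Pi.single_eq_of_ne (Ne.symm ((hZo b).1 hb)), smul_zero]]
      · rw [Finset.sum_eq_single l (fun b _ hb => by rw [Pi.smul_apply, Pi.single_eq_of_ne (Ne.symm hb), smul_zero])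
          (fun h => absurd ((hZo l).2 hl) h), Pi.smul_apply, Pi.single_eq_same, smul_eq_mul]
  have hkπ : ∀ b ∈ Z, (k : Mn) (π b) c = (u + f b) * β b := fun b hb => by
    rw [← col_apply (k : Mn) (π b) c, hkc, Pi.add_apply, Pi.smul_apply, Pi.single_eq_of_ne (hcπ b hb),
      smul_zero, zero_add, hsingle _ b hb]
  have hkcc : (k : Mn) c c = u := by
    rw [← col_apply (k : Mn) c c, hkc, Pi.add_apply, Pi.smul_apply, Pi.single_eq_same, hout _ c hcπ]
    simp
  have hεne : ∀ i j, i ≠ j → π (ε i) ≠ π (ε j) := fun i j hij h =>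
    hij (ε.injective (Subtype.ext (hπinj _ (hYZ (ε i).2) _ (hYZ (ε j).2) h)))
  have hzero : ∀ i : Fin 5, (i : ℕ) < 3 → (k : Mn) (π (ε i)) c = 0 := fun i hi => by
    rw [hkπ _ (hYZ (ε i).2), hfε, show (![u, u, u, w, w] : Fin 5 → F) i = u from ?_,
      CharTwo.add_self_eq_zero, zero_mul]
    fin_cases i <;> first | rfl | (simp at hi)
  have hkmon : IsMon (k : Mn) := by
    have := two_zeros hM hF hq (by omega) (inv_mem hkM) (c := c) (hεne 0 1 (by decide))
      (by rw [inv_inv]; exact hzero 0 (by decide)) (by rw [inv_inv]; exact hzero 1 (by decide))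
    simpa using this.inv
  obtain ⟨r, hr⟩ := hkmon c
  have hrc : c = r := by
    by_contra h
    exact hu0 (hkcc.symm.trans (hr c h))
  have h3 := hr (π (ε 3)) (hrc ▸ hcπ _ (hYZ (ε 3).2))
  rw [hkπ _ (hYZ (ε 3).2), hfε] at h3
  have hwu : u = w := CharTwo.add_eq_zero.1 ((mul_eq_zero.1 h3).resolve_right (hβ0 _ (hYZ (ε 3).2)))
  rw [← hwu] at hw
  refine hu5 ?_
  have h4 := mul_inv_cancel₀ (pow_ne_zero 3 hu0)
  rw [hw] at h4
  linear_combination h4

/-- Monomial elements with one non-monomial element generate `SL`, dimension at least six. -/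
theorem specialLinear_le_of_monLe_six_le (hM : MonLe M) (hq : 5 ≤ Fintype.card F) (hn : 6 ≤ Fintype.card ι)
    {g : GL ι F} (hg : g ∈ M) (hmon : ¬ IsMon (g : Mn)) : Geo.specialLinear ι F ≤ M := by
  classical
  by_contra hcon
  have hF : FixMon M := fun k hk c ν h => by_contra fun h' => hcon (specialLinear_le_of_fix hM hq (by omega) hk h' h)
  have hnz := no_zero hM hF hq hn hg hmon
  have hginv : ¬ IsMon ((g⁻¹ : GL ι F) : Mn) := fun h => hmon (by simpa using h.inv)
  have hgnz : ∀ a b, (g : Mn) a b ≠ 0 := fun a b => by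
    have := no_zero hM hF hq hn (inv_mem hg) hginv a b
    rwa [inv_inv] at this
  obtain ⟨c⟩ : Nonempty ι := Fintype.card_pos_iff.1 (by omega)
  set v := ((g⁻¹ : GL ι F) : Mn) *ᵥ Pi.single c 1 with hv
  have hv0 : ∀ a, v a ≠ 0 := fun a => by rw [hv, col_apply]; exact hnz a c
  -- two coordinates with unequal contributions to some row
  obtain ⟨i, a, b, hic, hab⟩ : ∃ i a b, i ≠ c ∧ (g : Mn) i a * v a ≠ (g : Mn) i b * v b := by
    by_contra h
    push Not at h
    obtain ⟨i, -, hic⟩ := Finset.exists_mem_notMem_of_card_lt_card (s := ({c} : Finset ι)) (t := Finset.univ)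
      (by rw [Finset.card_singleton, Finset.card_univ]; omega)
    obtain ⟨j, -, hjc⟩ := Finset.exists_mem_notMem_of_card_lt_card (s := ({c, i} : Finset ι)) (t := Finset.univ)
      (lt_of_le_of_lt Finset.card_le_two (by rw [Finset.card_univ]; omega))
    simp only [Finset.mem_insert, Finset.mem_singleton, not_or] at hic hjc
    -- the rows `i` and `j` are proportional
    set t := (g : Mn) j c / (g : Mn) i c with ht
    have hrow : ∀ a, (g : Mn) j a = t * (g : Mn) i a := fun a => by
      have h1 := h i a c hic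
      have h2 := h j a c hjc.1
      have h3 := hgnz i c
      refine mul_right_cancel₀ (hv0 a) ?_
      rw [h2, mul_assoc, h1, ht]
      field_simp
    have hker : ∀ y : V, ((g : Mn) *ᵥ y) j = t * ((g : Mn) *ᵥ y) i := fun y => by
      simp only [Matrix.mulVec, dotProduct, Finset.mul_sum, hrow, mul_assoc]
    have := hker (((g⁻¹ : GL ι F) : Mn) *ᵥ Pi.single j 1)
    rw [mulVec_inv_cancel, Pi.single_eq_same, Pi.single_eq_of_ne (Ne.symm hjc.2), mul_zero] at this
    exact one_ne_zero this
  have hne : a ≠ b := fun e => hab (by rw [e])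
  set l := (g : Mn) i b * v b / ((g : Mn) i a * v a) with hl
  have hl0 : l ≠ 0 := div_ne_zero (mul_ne_zero (hgnz i b) (hv0 b)) (mul_ne_zero (hgnz i a) (hv0 a))
  have hl1 : l ≠ 1 := fun e => hab (by
    rw [hl, div_eq_one_iff_eq (mul_ne_zero (hgnz i a) (hv0 a))] at e
    exact e.symm)
  obtain ⟨d, hdM, hd⟩ := hM.diag (pairFun a b l) (pairFun_ne hl0) (pairFun_prod hne hl0)
  set k := g * d * g⁻¹ with hk
  have hkM : k ∈ M := mul_mem (mul_mem hg hdM) (inv_mem hg)
  have hdv : (d : Mn) *ᵥ v = v + ((l - 1) * v a) • Pi.single a 1 + ((l⁻¹ - 1) * v b) • Pi.single b 1 := by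
    funext x
    rw [hd, Matrix.mulVec_diagonal]
    rcases eq_or_ne x a with rfl | hxa
    · simp [pairFun_left, Pi.single_eq_of_ne hne]; ring
    rcases eq_or_ne x b with rfl | hxb
    · simp [pairFun_right hne, Pi.single_eq_of_ne (Ne.symm hne)]; ring
    simp [pairFun_other hxa hxb, Pi.single_eq_of_ne hxa, Pi.single_eq_of_ne hxb]
  have hkc : (k : Mn) *ᵥ Pi.single c 1 = (g : Mn) *ᵥ ((d : Mn) *ᵥ v) := by
    rw [hk, Units.val_mul, Units.val_mul, ← Matrix.mulVec_mulVec, ← Matrix.mulVec_mulVec, ← hv]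
  have hzero : (k : Mn) i c = 0 := by
    rw [← col_apply (k : Mn) i c, hkc, hdv]
    have h1 := congrFun (mulVec_inv_cancel g (Pi.single c (1 : F))) i
    rw [← hv, Pi.single_eq_of_ne hic] at h1
    simp only [Matrix.mulVec_add, Matrix.mulVec_smul, Pi.add_apply, Pi.smul_apply, col_apply, smul_eq_mul, h1, hl]
    have := hgnz i a
    have := hgnz i b
    have := hv0 a
    have := hv0 b
    field_simp
    ring
  by_cases hkmon : IsMon (k : Mn)
  swap
  · refine no_zero hM hF hq hn (inv_mem hkM) (fun h => hkmon (by simpa using h.inv)) i c ?_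
    rwa [inv_inv]
  have hkx : ∀ z : V, (k : Mn) *ᵥ z = z
      + (((l - 1) • (Pi.single a 1 : V)) ᵥ* ((g⁻¹ : GL ι F) : Mn) ⬝ᵥ z) • ((g : Mn) *ᵥ Pi.single a 1)
      + (((l⁻¹ - 1) • (Pi.single b 1 : V)) ᵥ* ((g⁻¹ : GL ι F) : Mn) ⬝ᵥ z) • ((g : Mn) *ᵥ Pi.single b 1) := fun z => by
    rw [hk, Units.val_mul, Units.val_mul, ← Matrix.mulVec_mulVec, ← Matrix.mulVec_mulVec,
      show ∀ x : V, (d : Mn) *ᵥ x = x + (((l - 1) • (Pi.single a 1 : V)) ⬝ᵥ x) • Pi.single a 1 +
          (((l⁻¹ - 1) • (Pi.single b 1 : V)) ⬝ᵥ x) • Pi.single b 1 from fun x => by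
        funext y
        rw [hd, Matrix.mulVec_diagonal]
        rcases eq_or_ne y a with rfl | hya
        · simp [pairFun_left, Pi.single_eq_of_ne hne, smul_dotProduct]; ring
        rcases eq_or_ne y b with rfl | hyb
        · simp [pairFun_right hne, Pi.single_eq_of_ne (Ne.symm hne), smul_dotProduct]; ring
        simp [pairFun_other hya hyb, Pi.single_eq_of_ne hya, Pi.single_eq_of_ne hyb],
      Matrix.mulVec_add, Matrix.mulVec_add, Matrix.mulVec_smul, Matrix.mulVec_smul, mulVec_inv_cancel,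
      ← Matrix.dotProduct_mulVec, ← Matrix.dotProduct_mulVec]
  obtain ⟨S, hS, hS'⟩ := mon_two hkmon hkx
  obtain ⟨r, -, hr⟩ := Finset.exists_mem_notMem_of_card_lt_card (s := S) (t := Finset.univ)
    (by rw [Finset.card_univ]; omega)
  have h1 := hS' ((g : Mn) *ᵥ Pi.single a 1) r hr
  rw [hkx, vecMul_inv_dot, vecMul_inv_dot, smul_dotProduct, smul_dotProduct, single_dotProduct, single_dotProduct,
    Pi.single_eq_same, Pi.single_eq_of_ne (Ne.symm hne)] at h1
  simp only [mul_one, mul_zero, smul_eq_mul, Pi.add_apply, Pi.smul_apply, zero_mul, add_zero, col_apply] at h1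
  exact hgnz r a ((mul_eq_zero.1 (show (l - 1) * (g : Mn) r a = 0 by linear_combination h1)).resolve_left
    (sub_ne_zero.2 hl1))

/-- No zero in the inverse of a non-monomial element, in even dimension at least six. -/
theorem no_zero_even (hM : MonLe M) (hF : FixMon M) (hq : 5 ≤ Fintype.card F) (hn : 6 ≤ Fintype.card ι)
    (_hev : Even (Fintype.card ι))
    {g : GL ι F} (hg : g ∈ M) (hmon : ¬ IsMon (g : Mn)) (o c : ι) : ((g⁻¹ : GL ι F) : Mn) o c ≠ 0 :=
  no_zero hM hF hq hn hg hmon o c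

/-- Monomial elements with one non-monomial element generate `SL`, even dimension at least six. -/
theorem specialLinear_le_of_monLe_even (hM : MonLe M) (hq : 5 ≤ Fintype.card F) (hn : 6 ≤ Fintype.card ι)
    (_hev : Even (Fintype.card ι))
    {g : GL ι F} (hg : g ∈ M) (hmon : ¬ IsMon (g : Mn)) : Geo.specialLinear ι F ≤ M :=
  specialLinear_le_of_monLe_six_le hM hq hn hg hmon

/-- No zero in the inverse of a non-monomial element, dimension six. -/
theorem no_zero_six (hM : MonLe M) (hF : FixMon M) (hq : 5 ≤ Fintype.card F) (hn : Fintype.card ι = 6)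
    {g : GL ι F} (hg : g ∈ M) (hmon : ¬ IsMon (g : Mn)) (o c : ι) : ((g⁻¹ : GL ι F) : Mn) o c ≠ 0 :=
  no_zero_even hM hF hq hn.ge (by rw [hn]; decide) hg hmon o c

/-- Monomial elements with one non-monomial element generate `SL`, dimension six. -/
theorem specialLinear_le_of_monLe_six (hM : MonLe M) (hq : 5 ≤ Fintype.card F) (hn : Fintype.card ι = 6)
    {g : GL ι F} (hg : g ∈ M) (hmon : ¬ IsMon (g : Mn)) : Geo.specialLinear ι F ≤ M :=
  specialLinear_le_of_monLe_even hM hq hn.ge (by rw [hn]; decide) hg hmon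

end Cfsg.Agent.Classical.MaxMon
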