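import Cfsg.Agent.Lib.Classical.MaxOrthWreathMain
import Cfsg.Agent.Lib.Classical.MaxOverfieldMain
import Mathlib.FieldTheory.ChevalleyWarning
import Mathlib.FieldTheory.Finite.Basic
import Mathlib.RingTheory.Trace.Basic

/-!
Orthogonal groups over an extension field inside orthogonal groups: the form over the extension, Siegel elements,
common zeros of quadrics, and sets of maps generated by multiplications and one further map.
-/

set_option autoImplicit false
set_option linter.unusedSectionVars false
set_option quotPrecheck false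

namespace Cfsg.Agent.Classical.OrthField

open Matrix Module MaxTv OrthAut

variable {F : Type*} [Field F] [Fintype F] {ι : Type} [Fintype ι] [DecidableEq ι] {Q : QuadraticForm F (ι → F)}
variable {E : Type*} [Field E] [Fintype E] [Algebra F E] [Module E (ι → F)] [IsScalarTower F E (ι → F)]

local notation "V" => (ι → F)
local notation "Mn" => Matrix ι ι F
local notation "B" => QuadraticMap.polar ⇑Q
local notation "τ" => Algebra.trace F E

/-- Few quadrics through the origin on a subspace have a further common zero. -/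
theorem exists_common_zero' {W : Submodule F (ι → F)} {m : ℕ} (β : Fin m → LinearMap.BilinForm F (ι → F))
    (lin : Fin m → (ι → F) →ₗ[F] F) (h : 2 * m < finrank F W) :
    ∃ x ∈ W, x ≠ 0 ∧ ∀ i, β i x x + lin i x = 0 := by
  classical
  obtain ⟨p, hp⟩ := CharP.exists F
  haveI : Fact p.Prime := ⟨CharP.char_is_prime F p⟩
  let b := Module.finBasis F W
  let P : Fin m → MvPolynomial (Fin (finrank F W)) F := fun l =>
    ∑ i, (MvPolynomial.C (lin l (b i : V)) + ∑ j, MvPolynomial.C (β l (b i : V) (b j : V)) * MvPolynomial.X j) *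
      MvPolynomial.X i
  have hdeg : (∑ l, (P l).totalDegree) < Fintype.card (Fin (finrank F W)) := by
    refine lt_of_le_of_lt (b := 2 * m) ?_ (by simpa using h)
    refine (Finset.sum_le_card_nsmul Finset.univ _ 2 fun l _ => ?_).trans (by simp [mul_comm])
    refine MvPolynomial.totalDegree_finsetSum_le fun i _ => ?_
    refine (MvPolynomial.totalDegree_mul _ _).trans ?_
    refine (add_le_add (a := (_ : ℕ)) (b := 1) ((MvPolynomial.totalDegree_add _ _).trans (max_le
      (by rw [MvPolynomial.totalDegree_C]; exact Nat.zero_le _)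
      (MvPolynomial.totalDegree_finsetSum_le fun j _ => (MvPolynomial.totalDegree_mul _ _).trans ?_)))
      (MvPolynomial.totalDegree_X _).le)
    rw [MvPolynomial.totalDegree_C, MvPolynomial.totalDegree_X]
  have h1 := char_dvd_card_solutions_of_fintype_sum_lt p hdeg
  let z : (Fin (finrank F W) → F) → V := fun x => ∑ i, x i • (b i : V)
  have hev : ∀ l x, MvPolynomial.eval x (P l) = β l (z x) (z x) + lin l (z x) := fun l x => by
    simp only [P, z, map_sum, map_add, map_mul, MvPolynomial.eval_C, MvPolynomial.eval_X, LinearMap.sum_apply,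
      map_smul, LinearMap.smul_apply, smul_eq_mul, Finset.mul_sum, Finset.sum_mul, add_mul, Finset.sum_add_distrib]
    rw [add_comm]
    congr 1
    · rw [Finset.sum_comm]
      exact Finset.sum_congr rfl fun i _ => Finset.sum_congr rfl fun j _ => by ring
    · exact Finset.sum_congr rfl fun i _ => by ring
  by_contra hne
  push Not at hne
  have : Fintype.card {x : Fin (finrank F W) → F // ∀ l, MvPolynomial.eval x (P l) = 0} = 1 := by
    rw [Fintype.card_eq_one_iff]
    refine ⟨⟨0, fun l => by rw [hev]; simp [z]⟩, fun x => Subtype.ext ?_⟩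
    by_contra h0
    have hz : z x.1 ≠ 0 := fun e => h0 (by
      have hb : ∑ i, x.1 i • b i = 0 := Subtype.ext (by
        rw [Submodule.coe_sum]; simpa [z] using e)
      exact funext fun i => Fintype.linearIndependent_iff.1 b.linearIndependent x.1 hb i)
    obtain ⟨l, hl⟩ := hne (z x.1) (W.sum_mem fun i _ => W.smul_mem _ (b i).2) hz
    exact hl ((hev l x.1).symm.trans (x.2 l))
  have h2 : p ∣ 1 := by
    rw [← this]
    convert h1
  exact (Fact.out : p.Prime).ne_one (Nat.dvd_one.1 h2)

/-- Few quadrics on a subspace have a common zero. -/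
theorem exists_common_zero {W : Submodule F (ι → F)} {m : ℕ} (β : Fin m → LinearMap.BilinForm F (ι → F))
    (h : 2 * m < finrank F W) : ∃ x ∈ W, x ≠ 0 ∧ ∀ i, β i x x = 0 := by
  simpa using exists_common_zero' β (fun _ => 0) h

theorem finiteE : Module.Finite F E := Module.Finite.of_finite

/-- A set of maps closed under sums and composition, with all multiplications and one further map, is everything. -/
theorem generated_top (hr : (finrank F E).Prime) (S : (E →ₗ[F] E) → Prop)
    (hadd : ∀ f g, S f → S g → S (f + g)) (hcomp : ∀ f g, S f → S g → S (f.comp g))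
    (hmul : ∀ c : E, S (LinearMap.mulLeft F c)) {G : E →ₗ[F] E} (hG : S G)
    (hGn : ∀ c : E, G ≠ LinearMap.mulLeft F c) (f : E →ₗ[F] E) : S f := by
  classical
  haveI := finiteE (F := F) (E := E)
  haveI : Fact (finrank F E).Prime := ⟨hr⟩
  have hinj : Function.Injective fun a : E ≃ₐ[F] E => (a.toAlgHom : E →ₐ[F] E) := fun a b e =>
    AlgEquiv.ext fun x => AlgHom.congr_fun e x
  let P : (E ≃ₐ[F] E) → (E →ₗ[F] E) := fun a => a.toAlgHom.toLinearMap
  have hli : LinearIndependent E P := (linearIndependent_toLinearMap F E E).comp _ hinj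
  have hcard : Fintype.card (E ≃ₐ[F] E) = finrank F E := by
    rw [← Nat.card_eq_fintype_card]; exact IsGalois.card_aut_eq_finrank F E
  haveI : Nonempty (E ≃ₐ[F] E) := ⟨AlgEquiv.refl⟩
  have hspan := hli.span_eq_top_of_card_eq_finrank (by rw [hcard, Module.finrank_linearMap_self])
  have hmem : ∀ f, ∃ c : (E ≃ₐ[F] E) → E, f = ∑ a, c a • P a := fun f => by
    obtain ⟨c, hc⟩ := (Submodule.mem_span_range_iff_exists_fun E).1 (hspan ▸ Submodule.mem_top (x := f))
    exact ⟨c, hc.symm⟩
  have hsm : ∀ (c : E) (g : E →ₗ[F] E), S g → S (c • g) := fun c g hg => by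
    rw [show c • g = (LinearMap.mulLeft F c).comp g from LinearMap.ext fun x => rfl]
    exact hcomp _ _ (hmul c) hg
  have hsub : ∀ f g, S f → S g → S (f - g) := fun f g hf hg => by
    rw [sub_eq_add_neg, ← neg_one_smul E g]; exact hadd _ _ hf (hsm _ _ hg)
  obtain ⟨c, hc⟩ := hmem G
  obtain ⟨j, hj1, hj⟩ : ∃ j, j ≠ 1 ∧ c j ≠ 0 := by
    by_contra hcon
    push Not at hcon
    refine hGn (c 1) (LinearMap.ext fun x => ?_)
    rw [hc, Finset.sum_eq_single 1 (fun a _ ha => by rw [hcon a ha, zero_smul]) (by simp)]
    rfl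
  have key : ∀ s : Finset (E ≃ₐ[F] E), j ∉ s →
      ∃ d : (E ≃ₐ[F] E) → E, d j ≠ 0 ∧ (∀ a ∈ s, d a = 0) ∧ S (∑ a, d a • P a) := by
    intro s
    induction s using Finset.induction with
    | empty => exact fun _ => ⟨c, hj, by simp, hc ▸ hG⟩
    | @insert i s _ ih =>
      intro hjs
      rw [Finset.mem_insert, not_or] at hjs
      obtain ⟨d, hdj, hds, hd⟩ := ih hjs.2
      obtain ⟨ν, hν⟩ : ∃ ν, i ν ≠ j ν := by
        by_contra hcon
        push Not at hcon
        exact hjs.1 (AlgEquiv.ext fun x => (hcon x).symm)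
      refine ⟨fun a => d a * (a ν - i ν), mul_ne_zero hdj (sub_ne_zero.2 (Ne.symm hν)), fun a ha => ?_, ?_⟩
      · rcases Finset.mem_insert.1 ha with rfl | ha
        · simp
        · simp [hds a ha]
      · convert hsub _ _ (hcomp _ _ hd (hmul ν)) (hcomp _ _ (hmul (i ν)) hd) using 1
        refine LinearMap.ext fun x => ?_
        simp only [LinearMap.sub_apply, LinearMap.comp_apply, LinearMap.sum_apply, LinearMap.smul_apply,
          LinearMap.mulLeft_apply, Finset.mul_sum, ← Finset.sum_sub_distrib, smul_eq_mul, P]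
        refine Finset.sum_congr rfl fun a _ => ?_
        show d a * (a ν - i ν) * a x = d a * a (ν * x) - i ν * (d a * a x)
        rw [map_mul]; ring
  obtain ⟨d, hdj, hd0, hd⟩ := key (Finset.univ.erase j) (Finset.notMem_erase j _)
  rw [Finset.sum_eq_single j (fun a _ ha => by rw [hd0 a (Finset.mem_erase.2 ⟨ha, Finset.mem_univ a⟩), zero_smul])
    (by simp)] at hd
  have hPj : S (P j) := by simpa [smul_smul, inv_mul_cancel₀ hdj] using hsm (d j)⁻¹ _ hd
  have hpow : ∀ a, S (P a) := fun a => by
    obtain ⟨n, rfl⟩ := mem_powers_of_prime_card (p := finrank F E) (IsGalois.card_aut_eq_finrank F E) hj1 (g' := a)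
    induction n with
    | zero =>
      rw [show P ((fun x => j ^ x) 0) = LinearMap.mulLeft F (1 : E) from LinearMap.ext fun x => by simp [P]]
      exact hmul 1
    | succ n ih =>
      rw [show P ((fun x => j ^ x) (n + 1)) = (P ((fun x => j ^ x) n)).comp (P j) from
        LinearMap.ext fun x => by simp [P, pow_succ]]
      exact hcomp _ _ ih hPj
  obtain ⟨e, rfl⟩ := hmem f
  refine Finset.sum_induction _ S hadd ?_ fun a _ => hsm _ _ (hpow a)
  have := hsub _ _ hG hG
  rwa [sub_self] at this

theorem trace_mul_left {τ₀ : E →ₗ[F] F} (hτ : ∃ s, τ₀ s ≠ 0) {a b : E} (h : ∀ k : E, τ₀ (k * a) = τ₀ (k * b)) :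
    a = b := by
  by_contra hab
  obtain ⟨s, hs⟩ := hτ
  refine hs ?_
  have h1 := h (s * (a - b)⁻¹)
  rwa [← sub_eq_zero, ← map_sub, ← mul_sub, mul_assoc, inv_mul_cancel₀ (sub_ne_zero.2 hab), mul_one] at h1

theorem trace_ne : ∃ s : E, τ s ≠ 0 := by
  haveI := finiteE (F := F) (E := E)
  by_contra hcon
  push Not at hcon
  exact one_ne_zero ((traceForm_nondegenerate F E).1 (1 : E) fun y => hcon _)

theorem trace_ext {a b : E} (h : ∀ k : E, τ (k * a) = τ (k * b)) : a = b := trace_mul_left trace_ne h

/-- The form over the extension. -/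
structure HForm (Q : QuadraticForm F (ι → F)) (h : (ι → F) → (ι → F) → E) : Prop where
  spec : ∀ (k : E) (x y : ι → F), QuadraticMap.polar ⇑Q (k • x) y = Algebra.trace F E (k * h x y)
  sa : ∀ (k : E) (x y : ι → F), QuadraticMap.polar ⇑Q (k • x) y = QuadraticMap.polar ⇑Q x (k • y)
  nd : (QuadraticMap.polarBilin Q).Nondegenerate

theorem exists_hform (hnd : (QuadraticMap.polarBilin Q).Nondegenerate)
    (hsa : ∀ (k : E) (x y : V), B (k • x) y = B x (k • y)) : ∃ h : V → V → E, HForm Q h := by
  haveI := finiteE (F := F) (E := E)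
  let Θ : E →ₗ[F] (E →ₗ[F] F) :=
    { toFun := fun z => (τ).comp (LinearMap.mulRight F z)
      map_add' := fun a b => LinearMap.ext fun k => by simp [mul_add]
      map_smul' := fun c a => LinearMap.ext fun k => by simp }
  have hΘ : Function.Injective Θ := fun a b h => trace_ext fun k => LinearMap.congr_fun h k
  have hsur : Function.Surjective Θ :=
    (LinearMap.injective_iff_surjective_of_finrank_eq_finrank
      (Subspace.dual_finrank_eq : finrank F (Module.Dual F E) = finrank F E).symm).1 hΘ
  choose h hh using fun x y : V => hsur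
    { toFun := fun k : E => B (k • x) y
      map_add' := fun a b => by rw [add_smul, QuadraticMap.polar_add_left]
      map_smul' := fun c a => by rw [smul_assoc, QuadraticMap.polar_smul_left]; rfl }
  exact ⟨h, fun k x y => (LinearMap.congr_fun (hh x y) k).symm, hsa, hnd⟩

namespace HForm

variable {h : (ι → F) → (ι → F) → E} (H : HForm Q h)
include H

theorem form (x y : V) : B x y = τ (h x y) := by simpa using H.spec 1 x y

theorem symm (x y : V) : h y x = h x y :=
  trace_ext fun k => by rw [← H.spec, ← H.spec, QuadraticMap.polar_comm, H.sa]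

theorem add_left (x y z : V) : h (x + y) z = h x z + h y z :=
  trace_ext fun k => by rw [← H.spec, mul_add, map_add, ← H.spec, ← H.spec, smul_add, QuadraticMap.polar_add_left]

theorem smul_left (s : E) (x y : V) : h (s • x) y = s * h x y :=
  trace_ext fun k => by rw [← H.spec, ← mul_assoc, ← H.spec, smul_smul]

theorem add_right (x y z : V) : h x (y + z) = h x y + h x z := by
  rw [← H.symm, H.add_left, H.symm, H.symm z]

theorem smul_right (s : E) (x y : V) : h x (s • y) = s * h x y := by rw [← H.symm, H.smul_left, H.symm]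

theorem zero_left (y : V) : h 0 y = 0 := by simpa using H.smul_left 0 0 y

theorem zero_right (y : V) : h y 0 = 0 := by simpa using H.smul_right 0 y 0

theorem neg_left (x y : V) : h (-x) y = -h x y := by rw [← neg_one_smul E x, H.smul_left, neg_one_mul]

theorem neg_right (x y : V) : h x (-y) = -h x y := by rw [← neg_one_smul E y, H.smul_right, neg_one_mul]

theorem sub_left (x y z : V) : h (x - y) z = h x z - h y z := by
  rw [sub_eq_add_neg, H.add_left, H.neg_left, ← sub_eq_add_neg]

theorem sub_right (x y z : V) : h x (y - z) = h x y - h x z := by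
  rw [sub_eq_add_neg, H.add_right, H.neg_right, ← sub_eq_add_neg]

theorem fsmul_left (a : F) (x y : V) : h (a • x) y = a • h x y := by
  rw [← algebraMap_smul E a x, H.smul_left, Algebra.smul_def]

theorem eq_zero {w : V} (hw : ∀ x, h x w = 0) : w = 0 := H.nd.2 w fun x => by
  show B x w = 0
  rw [H.form, hw, map_zero]

theorem exists_ne {w : V} (hw : w ≠ 0) : ∃ x, h x w ≠ 0 := by
  by_contra hcon
  push Not at hcon
  exact hw (H.eq_zero hcon)

theorem quad_zero (h2 : (2 : F) ≠ 0) {x : V} (hx : h x x = 0) : Q x = 0 := by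
  have := H.form x x
  rw [hx, map_zero, polar_self2] at this
  exact (mul_eq_zero.1 this).resolve_left h2

theorem quad_of_iso (h2 : (2 : F) ≠ 0) {L : V → V} (hL : ∀ x, h (L x) (L x) = h x x) (x : V) : Q (L x) = Q x := by
  have h1 := H.form (L x) (L x)
  rw [hL, ← H.form, polar_self2, polar_self2] at h1
  exact mul_left_cancel₀ h2 h1

/-- `x ↦ h u x`. -/
def func (u : V) : V →ₗ[E] E where
  toFun x := h u x
  map_add' := H.add_right u
  map_smul' s x := by rw [H.smul_right, RingHom.id_apply, smul_eq_mul]

theorem func_apply (u x : V) : H.func u x = h u x := rfl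

theorem two_ne (h2 : (2 : F) ≠ 0) : (2 : E) ≠ 0 := by
  rw [show (2 : E) = algebraMap F E 2 by rw [map_ofNat]]
  exact (map_ne_zero_iff _ (algebraMap F E).injective).2 h2

/-- The Siegel element over the extension. -/
def siegel (u w : V) : V →ₗ[E] V :=
  LinearMap.id + (H.func u).smulRight w - (H.func w + (h w w / 2) • H.func u).smulRight u

theorem siegel_apply (u w x : V) :
    H.siegel u w x = x + h u x • w - (h w x + h w w / 2 * h u x) • u := rfl

theorem siegel_iso (h2 : (2 : F) ≠ 0) {u w : V} (hu : h u u = 0) (huw : h u w = 0) (x : V) :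
    h (H.siegel u w x) (H.siegel u w x) = h x x := by
  have hE := H.two_ne h2
  simp only [siegel_apply, H.add_left, H.add_right, H.sub_left, H.sub_right, H.smul_left, H.smul_right, hu, huw,
    H.symm u w, H.symm x u, H.symm x w]
  field_simp
  ring

theorem siegel_half (h2 : (2 : F) ≠ 0) {u w : V} (hu : h u u = 0) (huw : h u w = 0) (x : V) :
    H.siegel u ((2 : E)⁻¹ • w) (H.siegel u ((2 : E)⁻¹ • w) x) = H.siegel u w x := by
  have hE := H.two_ne h2
  simp only [siegel_apply, H.add_right, H.sub_right, H.smul_right, H.smul_left, hu, huw, H.symm u w]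
  match_scalars <;> field_simp <;> ring

/-- The torus element on a hyperbolic pair. -/
def torus (u v : V) (μ : E) : V →ₗ[E] V :=
  LinearMap.id + ((μ - 1) • H.func v).smulRight u + ((μ⁻¹ - 1) • H.func u).smulRight v

theorem torus_apply (u v : V) (μ : E) (x : V) :
    H.torus u v μ x = x + ((μ - 1) * h v x) • u + ((μ⁻¹ - 1) * h u x) • v := rfl

theorem torus_iso {u v : V} (hu : h u u = 0) (hv : h v v = 0) (huv : h u v = 1) {μ : E} (hμ : μ ≠ 0) (x : V) :
    h (H.torus u v μ x) (H.torus u v μ x) = h x x := by
  simp only [torus_apply, H.add_left, H.add_right, H.smul_left, H.smul_right, hu, hv, huv, H.symm u v,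
    H.symm x u, H.symm x v]
  field_simp
  ring

theorem torus_sq {u v : V} (hu : h u u = 0) (hv : h v v = 0) (huv : h u v = 1) {μ : E} (hμ : μ ≠ 0) (x : V) :
    H.torus u v μ (H.torus u v μ x) = H.torus u v (μ * μ) x := by
  simp only [torus_apply, H.add_right, H.smul_right, hu, hv, huv, H.symm u v]
  match_scalars <;> field_simp <;> ring

/-- A singular partner. -/
theorem exists_pair (h2 : (2 : F) ≠ 0) {u : V} (hu : u ≠ 0) (hu0 : h u u = 0) :
    ∃ v, h v v = 0 ∧ h u v = 1 := by
  have hE := H.two_ne h2
  obtain ⟨x, hx⟩ := H.exists_ne hu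
  rw [H.symm] at hx
  refine ⟨(h u x)⁻¹ • x - ((h u x)⁻¹ * (h u x)⁻¹ * h x x / 2) • u, ?_, ?_⟩
  · simp only [H.sub_left, H.sub_right, H.smul_left, H.smul_right, hu0, H.symm u x]
    field_simp
    ring
  · simp only [H.sub_right, H.smul_right, hu0, mul_zero, sub_zero]
    exact inv_mul_cancel₀ hx

/-- The orthogonal projection away from a pair. -/
def proj (u v : V) : V →ₗ[E] V := LinearMap.id - (H.func v).smulRight u - (H.func u).smulRight v

theorem proj_apply (u v x : V) : H.proj u v x = x - h v x • u - h u x • v := rfl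

theorem proj_perp {u v : V} (hu : h u u = 0) (hv : h v v = 0) (huv : h u v = 1) (x : V) :
    h u (H.proj u v x) = 0 ∧ h v (H.proj u v x) = 0 := by
  simp only [proj_apply, H.sub_right, H.smul_right, hu, hv, huv, H.symm u v]
  constructor <;> ring

end HForm

end Cfsg.Agent.Classical.OrthField
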