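import Cfsg.Agent.Lib.Classical.MaxOrthFieldCubicAlg

/-!
Normalisers of cubic extension fields are maximal in nine-dimensional orthogonal groups of odd characteristic.
-/

set_option autoImplicit false
set_option linter.unusedSectionVars false
set_option quotPrecheck false
set_option linter.style.haveILetI false

namespace Cfsg.Agent.Classical.OrthField

open Matrix Module MaxTv OrthAut Overfield

variable {F : Type*} [Field F] [Fintype F] {ι : Type} [Fintype ι] [DecidableEq ι] {Q : QuadraticForm F (ι → F)}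
variable {E : Type*} [Field E] [Fintype E] [Algebra F E] [Module E (ι → F)] [IsScalarTower F E (ι → F)]

local notation "V" => (ι → F)
local notation "Mn" => Matrix ι ι F

namespace OF

variable {h : (ι → F) → (ι → F) → E} {M : Subgroup (GL ι F)} (O : OF Q h M)
  (hr : (finrank F E).Prime) (h3 : finrank F E = 3) (hd : finrank E (ι → F) = 3)
include O hr h3 hd

/-- An overgroup with an element which is not semilinear contains `Ω`, over a cubic extension. -/
theorem omega_le_cubic (hT : Tri Q) {g₀ : GL ι F} (hg₀ : g₀ ∈ M)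
    (hgn : ¬ ∀ (k : E) (a : V), (g₀ : Mn) *ᵥ (k • a) ∈ (E ∙ ((g₀ : Mn) *ᵥ a))) : Geo.omegaGL ⇑Q ≤ M := by
  classical
  have H := O.form
  haveI := finiteE (F := F) (E := E)
  have hE2 : finrank F E ≠ 2 := by omega
  refine O.omega_le_of_parts hr hd hE2 hT (fun hNW => ?_) hg₀ hgn
  have hzt : ∀ u, u ≠ 0 → h u u = 0 → ∀ A : E →ₗ[F] E, Zt h M u A → A = 0 := fun _ h0 h1 _ hA =>
    O.zt_zero_cubic hr hNW h3 h0 h1 hA
  have hlin : ∀ c, c ≠ 0 → h c c = 0 → ∀ φ, Rt h M c φ → ∀ w, h c w = 0 → ∀ k : E, φ (k • w) = k * φ w :=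
    fun c hc0 hc φ hφ w hw k => O.rt_linear_of hr hNW hzt hc0 hc hφ hw k
  have hsmall : ∀ g b c, Triple h M g b c → finrank F (meet g b c : Submodule F E) ≤ 1 := by
    intro g b c ht
    by_contra hlt
    obtain ⟨i, hi0, hi⟩ := ht.some
    have hspan : Submodule.span F {i} < (meet g b c : Submodule F E) := by
      refine lt_of_le_of_ne ((Submodule.span_singleton_le_iff_mem _ _).2 hi) fun e => hlt ?_
      rw [← e, finrank_span_singleton hi0]
    obtain ⟨j, hj, hji⟩ := SetLike.exists_of_lt hspan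
    exact O.stab_absurd hr hNW (by omega) hd ht hi0
      (fun a e => hji (Submodule.mem_span_singleton.2 ⟨a, e⟩)) hi hj (hlin c ht.c0 ht.cc)
  have hstep : ∀ {g b c w}, Triple h M g b c → h c w = 0 → ∃ g' : GL ι F, g' ∈ M ∧
      (∀ x, (g : Mn) *ᵥ ((g' : Mn) *ᵥ x) = H.siegel c w ((g : Mn) *ᵥ x)) ∧
        (((∀ k, k ∈ (meet g' b b : Submodule F E) → k ∈ (meet g b c : Submodule F E)) ∧ Triple h M g' b b) ∨
          ∀ k : E, H.siegel c w ((g : Mn) *ᵥ (k • b)) = (g : Mn) *ᵥ (k • b)) := by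
    intro g b c w ht hcw
    obtain ⟨R, hR, hRx⟩ := O.siegel_mem ht.cc hcw
    obtain ⟨g', hg'⟩ : ∃ g', g' = g⁻¹ * R * g := ⟨_, rfl⟩
    have hg'M : g' ∈ M := hg' ▸ mul_mem (mul_mem (inv_mem ht.mem) hR) ht.mem
    have hgg : ∀ x, (g : Mn) *ᵥ ((g' : Mn) *ᵥ x) = H.siegel c w ((g : Mn) *ᵥ x) := fun x => by
      rw [hg', Units.val_mul, Units.val_mul, ← Matrix.mulVec_mulVec, ← Matrix.mulVec_mulVec, mulVec_inv_cancel, hRx]
    refine ⟨g', hg'M, hgg, ?_⟩
    obtain ⟨i₀, hi₀, hi⟩ := ht.some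
    have hfix : ∀ k, k ∈ (meet g b c : Submodule F E) → (g' : Mn) *ᵥ (k • b) = k • b := fun k hk =>
      gl_mulVec_injective g (by
        show (g : Mn) *ᵥ _ = (g : Mn) *ᵥ _
        obtain ⟨s, hs⟩ := mem_meet.1 hk
        rw [hgg, ← hs, H.siegel_apply, H.smul_right, H.smul_right, ht.cc, H.symm c w, hcw]
        module)
    have hle : (meet g b c : Submodule F E) ≤ meet g' b b := fun k hk => mem_meet.2 ⟨k, (hfix k hk).symm⟩
    by_cases hall : ∀ k, k ∈ (meet g' b b : Submodule F E)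
    swap
    · push Not at hall
      have hT' : Triple h M g' b b := ⟨hg'M, ht.b0, ht.bb, ht.b0, ht.bb, ⟨i₀, hi₀, hle hi⟩, hall⟩
      have h1 : 1 ≤ finrank F (meet g b c : Submodule F E) := Submodule.one_le_finrank_iff.2 fun e =>
        hi₀ ((Submodule.mem_bot F).1 (e ▸ hi))
      exact Or.inl ⟨fun k hk =>
        (Submodule.eq_of_le_of_finrank_le hle ((hsmall _ _ _ hT').trans h1)).symm ▸ hk, hT'⟩
    refine Or.inr fun k => ?_
    obtain ⟨σ, hσ⟩ := O.semi_all hr hNW (fun e => absurd e hE2) hzt hg'M ht.b0 ht.bb ht.b0 ht.bb hall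
    obtain ⟨c', hc', hcc⟩ := H.exists_pair O.two ht.c0 ht.cc
    obtain ⟨w', hw'⟩ : ∃ w', w' = w - h c' w • c := ⟨_, rfl⟩
    have hcw' : h c w' = 0 := by rw [hw', H.sub_right, H.smul_right, hcw, ht.cc, mul_zero, sub_zero]
    have hc'w' : h c' w' = 0 := by
      rw [hw', H.sub_right, H.smul_right, H.symm c c', hcc, mul_one, sub_self]
    have hsame : ∀ x, H.siegel c w x = H.siegel c w' x := fun x => by
      simp only [H.siegel_apply, hw', H.sub_left, H.sub_right, H.smul_left, H.smul_right, ht.cc, hcw, H.symm c w]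
      match_scalars <;> ring
    by_cases hww : h w' w' = 0
    · obtain ⟨y, hyc, hyc', hy⟩ := H.exists_aniso_W0 O.two O.dim ht.cc hc' hcc
      have hwy : h y w' = 0 := by
        have e := (O.frame hd ht.cc hc' hcc hyc hyc' hy).2 w'
        rw [hcw', hc'w', zero_smul, zero_smul, zero_add, zero_add] at e
        rw [e, H.smul_left, H.smul_right, mul_eq_zero, mul_eq_zero] at hww
        rcases hww with h1 | h1 | h1
        · exact (div_eq_zero_iff.1 h1).resolve_right hy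
        · exact (div_eq_zero_iff.1 h1).resolve_right hy
        · exact absurd h1 hy
      have hw0 : w' = h c' w' • c := O.eq_smul_c hd ht.cc hc' hcc hyc hyc' hy hcw' hwy
      rw [hc'w', zero_smul] at hw0
      rw [hsame, hw0, H.siegel_apply]
      simp [H.zero_left]
    have hσ1 := O.no_twist_cubic hr hNW h3 hd ht.mem hR ht.c0 ht.cc hc' hcc hcw' hc'w' hww
      (fun x => (hRx x).trans (hsame x)) σ (fun z l => hg' ▸ hσ z l)
    have e := hfix i₀ hi
    rw [hσ, hσ1] at e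
    have hb : (g' : Mn) *ᵥ b = b := by
      change i₀ • _ = i₀ • b at e
      have e' := congrArg (fun z => i₀⁻¹ • z) e
      simpa [inv_smul_smul₀ hi₀] using e'
    rw [← hgg, hσ, hσ1, hb]
    rfl
  have hpsi : ∀ {g b c}, Triple h M g b c → ∀ {k : E}, k ∉ (meet g b c : Submodule F E) →
      h c ((g : Mn) *ᵥ (k • b)) ≠ 0 := by
    intro g b c ht k hk hψ
    obtain ⟨i₀, hi₀, hi⟩ := ht.some
    obtain ⟨s₀, hs₀⟩ := mem_meet.1 hi
    obtain ⟨z, hz⟩ : ∃ z, z = (g : Mn) *ᵥ (k • b) := ⟨_, rfl⟩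
    rw [← hz] at hψ
    obtain ⟨c', hc', hcc⟩ := H.exists_pair O.two ht.c0 ht.cc
    obtain ⟨y, hyc, hyc', hy⟩ := H.exists_aniso_W0 O.two O.dim ht.cc hc' hcc
    have hzy : h y z ≠ 0 := fun e => hk (mem_meet.2 ⟨h c' z, by
      rw [← hz]; exact (O.eq_smul_c hd ht.cc hc' hcc hyc hyc' hy hψ e).symm⟩)
    obtain ⟨w, hw⟩ : ∃ w, w = (s₀ / h y z) • y := ⟨_, rfl⟩
    have hwz : h w z = s₀ := by rw [hw, H.smul_left, div_mul_cancel₀ _ hzy]
    obtain ⟨g', -, hgg, hor⟩ := hstep ht (w := w) (by rw [hw, H.smul_right, hyc, mul_zero])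
    have hRz : H.siegel c w z = (g : Mn) *ᵥ ((k - i₀) • b) := by
      rw [sub_smul, Matrix.mulVec_sub, ← hz, ← hs₀, H.siegel_apply, hψ, hwz]
      module
    rcases hor with ⟨hle, -⟩ | hfix
    · refine hk (hle k (mem_meet.2 ⟨k - i₀, gl_mulVec_injective g ?_⟩))
      show (g : Mn) *ᵥ _ = (g : Mn) *ᵥ _
      rw [hgg, ← hz, hRz]
    · have h1 := hfix k
      rw [← hz, hRz, hz] at h1
      exact hi₀ (sub_eq_self.1 (smul_left_injective E ht.b0 (gl_mulVec_injective g h1)))
  refine ⟨hzt, O.no_triple_small hr hNW (by rw [h3]; decide) hsmall hpsi hstep, ?_⟩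
  intro g R u v w hg hR hu0 hu hv huv huw hvw hww hRx σ hσ
  exact O.no_twist_cubic hr hNW h3 hd hg hR hu0 hu hv huv huw hvw hww hRx σ hσ

end OF

/-- Normalisers of cubic extension fields are maximal in nine-dimensional orthogonal groups. -/
theorem orthogonal_overfield_cubic (Q₀ : (ι → F) → F) (hQ₀ : Geo.IsNondegenerateQuadraticForm Q₀)
    (hodd : Odd (Fintype.card F)) (hn : Fintype.card ι = 9)
    (K : Subalgebra F (Matrix ι ι F)) (hK : Geo.IsFieldSubalgebra 3 K)
    (hsa : Geo.IsSelfAdjointFor (QuadraticMap.polar Q₀) K) :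
    Geo.IsMaximalIn (Geo.omegaGL Q₀) (Geo.subalgebraNormalizer K ⊓ Geo.omegaGL Q₀) :=
  orthogonal_overfield_maximal_core Q₀ hQ₀ hodd (by omega) Nat.prime_three (fun d hd => by omega)
    (fun E _ _ _ _ _ _ _ _ O hF hd _ hT _ hg hgn =>
      O.omega_le_cubic (hF.symm ▸ Nat.prime_three) hF (by omega) hT hg hgn) K hK hsa

end Cfsg.Agent.Classical.OrthField
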