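import Cfsg.Agent.Lib.Classical.MaxTensorMain

/-!
Overgroups of the product of two isometry groups on a tensor product: data and commutator formulas.
-/

set_option autoImplicit false
set_option linter.unusedSectionVars false

namespace Cfsg.Agent.Classical.TensorMax

open Matrix Module MaxTv Overfield
open scoped Kronecker

variable {F : Type*} [Field F] [Fintype F] {α β : Type} [Fintype α] [DecidableEq α] [Fintype β] [DecidableEq β]

local notation "V" => (α × β → F)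
local notation "Mn" => Matrix (α × β) (α × β) F
local notation "Ea" => ((α → F) →ₗ[F] (α → F))

theorem IsKron.mul {g h : GL (α × β) F} (hg : IsKron g) (hh : IsKron h) : IsKron (g * h) := by
  obtain ⟨A, B, hA⟩ := hg
  obtain ⟨A', B', hA'⟩ := hh
  exact ⟨A * A', B * B', by rw [Units.val_mul, hA, hA', ← Matrix.mul_kronecker_mul]; rfl⟩

/-- A reflexive form on the second factor, with the root elements of its isometry group in `M`. -/
structure Frm (M : Subgroup (GL (α × β) F)) (J : (β → F) → (β → F)) (σ : F ≃+* F) (ε κ τ : F) : Prop where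
  J_add : ∀ u v, J (u + v) = J u + J v
  J_smul : ∀ (c : F) u, J (c • u) = σ c • J u
  J_inj : ∀ u, J u = 0 → u = 0
  refl : ∀ u v, J v ⬝ᵥ u = ε * σ (J u ⬝ᵥ v)
  eps : ε ≠ 0
  kappa : κ ≠ 0
  pair : ∀ z b, J z ⬝ᵥ z = 0 → J b ⬝ᵥ b = 0 → J z ⬝ᵥ b = 0 →
    In M (rootMap (α := α) z (J b) LinearMap.id + κ • rootMap b (J z) LinearMap.id)
  tau : τ ≠ 0
  root : ∀ z, J z ⬝ᵥ z = 0 → ∃ g ∈ M, IsKron g ∧
    ∀ t, (g : Mn) *ᵥ t = t + rootMap (α := α) (τ • z) (J z) LinearMap.id t
  adj : ∀ f ∈ M, ∀ (y v : β → F) (μ : F),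
    (∀ x, slice (J v) ((f : Mn) *ᵥ tmul x y) = μ • x) →
      ∀ x : α → F, slice (J y) (((f⁻¹ : GL (α × β) F) : Mn) *ᵥ tmul x v) = (ε * σ μ) • x
  line_iso : ∀ f ∈ M, ∀ y z : β → F, J y ⬝ᵥ y = 0 →
    (∀ x : α → F, ∃ x', (f : Mn) *ᵥ tmul x y = tmul x' z) → J z ⬝ᵥ z = 0
  dual : ∀ z y u, J z ⬝ᵥ z = 0 → J y ⬝ᵥ y = 0 → J u ⬝ᵥ u = 0 → J z ⬝ᵥ y = 0 → J u ⬝ᵥ z = 0 → J u ⬝ᵥ y = 0 →
    u ∉ Submodule.span F ({z, y} : Set (β → F)) →
    ∃ c, J c ⬝ᵥ c = 0 ∧ J u ⬝ᵥ c = 1 ∧ J z ⬝ᵥ c = 0 ∧ J y ⬝ᵥ c = 0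
  mid : ∀ z b y : β → F, ∃ d, J d ⬝ᵥ d = 0 ∧ J z ⬝ᵥ d = 0 ∧ J b ⬝ᵥ d = 0 ∧ J y ⬝ᵥ d = 0 ∧
    d ∉ Submodule.span F ({z, b} : Set (β → F)) ∧ d ∉ Submodule.span F ({z, y} : Set (β → F))
  avoid : ∀ (t : V) (w : β → F), ∃ b, b ≠ 0 ∧ J b ⬝ᵥ b = 0 ∧ J b ⬝ᵥ w = 0 ∧ slice (J b) t = 0
  perpSpan : ∀ z, J z ⬝ᵥ z = 0 → ∀ p : Submodule F (β → F),
    (∀ y, J y ⬝ᵥ y = 0 → J z ⬝ᵥ y = 0 → y ∈ p) → ∀ y, J z ⬝ᵥ y = 0 → y ∈ p
  topSpan : ∀ p : Submodule F (β → F), (∀ y, J y ⬝ᵥ y = 0 → y ∈ p) → ∀ y, y ∈ p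

variable {M : Subgroup (GL (α × β) F)} {J : (β → F) → (β → F)} {σ : F ≃+* F} {ε κ τ : F}

/-- An orthogonal pair of isotropic vectors. -/
structure Flag (J : (β → F) → (β → F)) (z b : β → F) : Prop where
  zz : J z ⬝ᵥ z = 0
  bb : J b ⬝ᵥ b = 0
  zb : J z ⬝ᵥ b = 0
  ind : b ∉ (F ∙ z)
  z0 : z ≠ 0

/-- The coefficient `A` occurs on the pair. -/
def InP (M : Subgroup (GL (α × β) F)) (J : (β → F) → (β → F)) (z b : β → F) (A : Ea) : Prop :=
  ∃ A', In M (rootMap z (J b) A + rootMap b (J z) A')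

theorem rootMap_smul_left (c : F) (v φ : β → F) (D : Ea) : rootMap (c • v) φ D = rootMap v φ (c • D) :=
  LinearMap.ext fun t => by simp only [rootMap_apply, LinearMap.smul_apply, tmul_smul_left, tmul_smul_right]

theorem rootMap_smul_right (c : F) (v φ : β → F) (D : Ea) : rootMap v (c • φ) D = rootMap v φ (c • D) :=
  LinearMap.ext fun t => by simp only [rootMap_apply, LinearMap.smul_apply, slice_smul, map_smul]

theorem rootMap_smul (c : F) (v φ : β → F) (D : Ea) : c • rootMap v φ D = rootMap v φ (c • D) :=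
  LinearMap.ext fun t => by simp only [rootMap_apply, LinearMap.smul_apply, tmul_smul_left]

theorem rootMap_add (v φ : β → F) (D D' : Ea) : rootMap v φ (D + D') = rootMap v φ D + rootMap v φ D' :=
  LinearMap.ext fun t => by simp only [rootMap_apply, LinearMap.add_apply, tmul_add_left]

/-- Commutator with a square-zero element. -/
theorem In.commCube {ι : Type} [Fintype ι] [DecidableEq ι] {M : Subgroup (GL ι F)}
    {X Y : (ι → F) →ₗ[F] (ι → F)} (hX : In M X) (hY : In M Y) (hY2 : ∀ t, Y (Y t) = 0)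
    (hX3 : ∀ t, X (X (X t)) = 0) (hYXY : ∀ t, Y (X (Y t)) = 0) (hXX : ∀ t, X (Y (X (X t))) = 0)
    (hYXX : ∀ t, Y (X (X t)) = 0) : In M (Y.comp X - X.comp Y + X.comp (Y.comp X)) := by
  obtain ⟨g, hg, hgx⟩ := hX
  obtain ⟨k, hk, hkx⟩ := hY
  refine ⟨k * g * k⁻¹ * g⁻¹, mul_mem (mul_mem (mul_mem hk hg) (inv_mem hk)) (inv_mem hg), fun t => ?_⟩
  have hki : ∀ x, ((k⁻¹ : GL ι F) : Matrix ι ι F) *ᵥ x = x - Y x := fun x => gl_mulVec_injective k (by
    show (k : Matrix ι ι F) *ᵥ _ = (k : Matrix ι ι F) *ᵥ _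
    rw [mulVec_inv_cancel, hkx, map_sub, hY2]; abel)
  have hgi : ∀ x, ((g⁻¹ : GL ι F) : Matrix ι ι F) *ᵥ x = x - X x + X (X x) := fun x => gl_mulVec_injective g (by
    show (g : Matrix ι ι F) *ᵥ _ = (g : Matrix ι ι F) *ᵥ _
    rw [mulVec_inv_cancel, hgx, map_add, map_sub, hX3]; abel)
  rw [Units.val_mul, Units.val_mul, Units.val_mul, ← Matrix.mulVec_mulVec, ← Matrix.mulVec_mulVec,
    ← Matrix.mulVec_mulVec, hgi, hki, hgx, hkx]
  simp only [map_sub, map_add, LinearMap.add_apply, LinearMap.sub_apply, LinearMap.comp_apply, hX3, hYXY, hXX,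
    hYXX, hY2, map_zero]
  abel

/-- Elements acting trivially on the factors of the flag of `z`. -/
def upMap (J : (β → F) → (β → F)) (z : β → F) (T : V →ₗ[F] (α → F)) (Tp : (α → F) →ₗ[F] V) (C : Ea) :
    V →ₗ[F] V :=
  (fac z).comp T + Tp.comp (slice (J z)) + rootMap z (J z) C

section
variable (hJ : Frm M J σ ε κ τ)
include hJ

theorem symm_zero {u v : β → F} (h : J u ⬝ᵥ v = 0) : J v ⬝ᵥ u = 0 := by
  rw [hJ.refl u v, h, map_zero, mul_zero]

theorem J_zero : J 0 = 0 := by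
  have := hJ.J_add 0 0
  rwa [add_zero, left_eq_add] at this

theorem Flag.of_swap {z b : β → F} (h : Flag J z b) : Flag J b z where
  zz := h.bb
  bb := h.zz
  zb := symm_zero hJ h.zb
  ind hm := h.ind (by
    obtain ⟨c, hc⟩ := Submodule.mem_span_singleton.1 hm
    have hc0 : c ≠ 0 := fun e => h.z0 (by rw [← hc, e, zero_smul])
    exact Submodule.mem_span_singleton.2 ⟨c⁻¹, by rw [← hc, smul_smul, inv_mul_cancel₀ hc0, one_smul]⟩)
  z0 := fun e => h.ind (e ▸ zero_mem _)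

/-- Two commutators isolate one coefficient. -/
theorem isolate {z : β → F} {T : V →ₗ[F] (α → F)} {Tp : (α → F) →ₗ[F] V} {C : Ea}
    (hTz : ∀ x, T (tmul x z) = 0) (hTp : ∀ x, slice (J z) (Tp x) = 0) (h : In M (upMap J z T Tp C))
    {y : β → F} (hf : Flag J z y) : InP M J z y (κ • T.comp (fac y)) := by
  obtain ⟨d, hdd, hzd, hyd, -, hdind, -⟩ := hJ.mid z y y
  obtain ⟨e, hee, hde, hze, hye⟩ := hJ.dual z y d hf.zz hf.bb hdd hf.zb (symm_zero hJ hzd) (symm_zero hJ hyd) hdind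
  have main : ∀ (T : V →ₗ[F] (α → F)) (Tp : (α → F) →ₗ[F] V) (C : Ea), (∀ x, T (tmul x z) = 0) →
      (∀ x, slice (J z) (Tp x) = 0) → In M (upMap J z T Tp C) →
      ∀ p r : β → F, J p ⬝ᵥ p = 0 → J r ⬝ᵥ r = 0 → J z ⬝ᵥ p = 0 → J z ⬝ᵥ r = 0 → J p ⬝ᵥ r = 0 →
      In M (upMap J z (-(T.comp (rootMap p (J r) LinearMap.id + κ • rootMap r (J p) LinearMap.id)))
        ((rootMap p (J r) LinearMap.id + κ • rootMap r (J p) LinearMap.id).comp Tp)
        (T.comp ((rootMap p (J r) LinearMap.id + κ • rootMap r (J p) LinearMap.id).comp Tp))) := by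
    intro T Tp C hTz hTp h p r hpp hrr hzp hzr hpr
    have hE := hJ.pair p r hpp hrr hpr
    set E := rootMap (α := α) p (J r) LinearMap.id + κ • rootMap r (J p) LinearMap.id with hEd
    have hEz : ∀ x, E (tmul x z) = 0 := fun x => by
      rw [hEd]
      simp only [LinearMap.add_apply, LinearMap.smul_apply, rootMap_apply, slice_tmul, symm_zero hJ hzr,
        symm_zero hJ hzp, zero_smul, map_zero, tmul_zero_left, smul_zero, add_zero]
    have hzE : ∀ t, slice (J z) (E t) = 0 := fun t => by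
      rw [hEd]
      simp only [LinearMap.add_apply, LinearMap.smul_apply, rootMap_apply, map_add, map_smul, slice_tmul, hzp, hzr,
        zero_smul, smul_zero, add_zero]
    have hrp := symm_zero hJ hpr
    have hEE : ∀ t, E (E t) = 0 := fun t => by
      rw [hEd]
      simp only [LinearMap.add_apply, LinearMap.smul_apply, rootMap_apply, map_add, map_smul, slice_tmul, hpr, hrp,
        hpp, hrr, zero_smul, map_zero, tmul_zero_left, smul_zero, add_zero]
    set X := upMap J z T Tp C with hXd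
    have hXap : ∀ t, X t = tmul (T t) z + Tp (slice (J z) t) + tmul (C (slice (J z) t)) z := fun t => rfl
    have hzX : ∀ t, slice (J z) (X t) = 0 := fun t => by
      rw [hXap, map_add, map_add, slice_tmul, slice_tmul, hf.zz, zero_smul, zero_smul, hTp, add_zero, add_zero]
    have hXzero : ∀ t, slice (J z) t = 0 → X t = tmul (T t) z := fun t ht => by
      rw [hXap, ht, map_zero, map_zero, tmul_zero_left, add_zero, add_zero]
    have hXz : ∀ x, X (tmul x z) = 0 := fun x => by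
      rw [hXzero _ (by rw [slice_tmul, hf.zz, zero_smul]), hTz, tmul_zero_left]
    have h2 := In.commCube h hE hEE
      (fun t => by rw [hXzero _ (hzX t), hXz])
      (fun t => by rw [hXzero _ (hzE t), hEz])
      (fun t => by rw [hXzero _ (hzX t), hEz, map_zero])
      (fun t => by rw [hXzero _ (hzX t), hEz])
    convert h2 using 1
    refine LinearMap.ext fun t => ?_
    simp only [LinearMap.add_apply, LinearMap.sub_apply, LinearMap.comp_apply]
    rw [hXzero _ (hzE t), hXzero _ (hzE (X t)), hXap t]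
    simp only [upMap, LinearMap.add_apply, LinearMap.comp_apply, rootMap_apply, fac_apply, LinearMap.neg_apply,
      map_add, hEz, hTz, add_zero, zero_add]
    rw [← fac_apply (-_), map_neg, fac_apply]
    abel
  have hde' : J e ⬝ᵥ d = ε := by rw [hJ.refl d e, hde, map_one, mul_one]
  have h1 := main T Tp C hTz hTp h d y hdd hf.bb hzd hf.zb (symm_zero hJ hyd)
  set E₁ := rootMap (α := α) d (J y) LinearMap.id + κ • rootMap y (J d) LinearMap.id with hE₁
  have hE₁z : ∀ x, E₁ (tmul x z) = 0 := fun x => by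
    rw [hE₁]
    simp only [LinearMap.add_apply, LinearMap.smul_apply, rootMap_apply, slice_tmul, symm_zero hJ hzd,
      symm_zero hJ hf.zb, zero_smul, map_zero, tmul_zero_left, smul_zero, add_zero]
  have h2 := main _ _ _ (fun x => by rw [LinearMap.neg_apply, LinearMap.comp_apply, hE₁z, map_zero, neg_zero])
    (fun x => by
      rw [LinearMap.comp_apply, hE₁]
      simp only [LinearMap.add_apply, LinearMap.smul_apply, rootMap_apply, map_add, map_smul, slice_tmul, hzd, hf.zb,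
        zero_smul, smul_zero, add_zero])
    h1 e y hee hf.bb hze hf.zb (symm_zero hJ hye)
  have hyy := hf.bb
  have hdy := symm_zero hJ hyd
  have hey := symm_zero hJ hye
  have hP : In M (rootMap z (J y) (κ • T.comp (fac y)) +
      rootMap y (J z) ((κ * ε) • (slice (J y)).comp Tp)) := by
    convert h2 using 1
    refine LinearMap.ext fun t => ?_
    simp only [upMap, hE₁, LinearMap.add_apply, LinearMap.comp_apply, LinearMap.smul_apply, LinearMap.neg_apply,
      rootMap_apply, fac_apply, LinearMap.id_apply, map_add, map_neg, map_smul, map_zero, slice_tmul, tmul_add_left,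
      tmul_smul_left, tmul_zero_left, hyd, hdy, hye, hyy, hey, hde, hde', one_smul, mul_zero, zero_smul, smul_zero, add_zero,
      zero_add, neg_zero, neg_neg]
    rw [smul_smul]
  exact ⟨_, hP⟩

end

end Cfsg.Agent.Classical.TensorMax
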