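import Cfsg.Agent.Lib.Classical.MaxTensorTwoApp
import Cfsg.Agent.Lib.Classical.SympSimple
import Cfsg.Agent.Lib.Classical.MaxTensorForm

/-!
The tensor product of a symplectic space with an orthogonal one: the product form, elements of product shape,
and elementary symplectic maps of the first factor.
-/

set_option autoImplicit false
set_option linter.unusedSectionVars false

namespace Cfsg.Agent.Classical.TensorRoot

open Matrix Module MaxTv TensorMax
open scoped Kronecker

variable {F : Type*} [Field F] {k b : ℕ}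

/-- Index type of the symplectic factor. -/
abbrev Al (k : ℕ) := Fin k ⊕ Fin k

/-- The symmetric form on the second factor. -/
def dB (D : Matrix (Fin b) (Fin b) F) (u v : Fin b → F) : F := u ⬝ᵥ (D *ᵥ v)

/-- The product form. -/
def W (D : Matrix (Fin b) (Fin b) F) (x y : Al k × Fin b → F) : F :=
  x ⬝ᵥ (((Matrix.J (Fin k) F) ⊗ₖ D) *ᵥ y)

/-- The isometry group of the product form. -/
def SpT (k : ℕ) (D : Matrix (Fin b) (Fin b) F) : Subgroup (GL (Al k × Fin b) F) :=
  preserving (glToMat (Al k × Fin b) F) (W D)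

/-- A non-degenerate symmetric form in odd characteristic. -/
structure Gram (D : Matrix (Fin b) (Fin b) F) : Prop where
  symm : D.transpose = D
  det : D.det ≠ 0
  two : (2 : F) ≠ 0

section
variable {D : Matrix (Fin b) (Fin b) F}

local notation "V" => (Al k × Fin b → F)
local notation "Mn" => Matrix (Al k × Fin b) (Al k × Fin b) F
local notation "ω" => sympForm k F

theorem mem_SpT {g : GL (Al k × Fin b) F} :
    g ∈ SpT k D ↔ ∀ x y : V, W D ((g : Mn) *ᵥ x) ((g : Mn) *ᵥ y) = W D x y := Iff.rfl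

theorem dB_add_left (u u' v : Fin b → F) : dB D (u + u') v = dB D u v + dB D u' v := add_dotProduct _ _ _
theorem dB_add_right (u v v' : Fin b → F) : dB D u (v + v') = dB D u v + dB D u v' := by
  rw [dB, Matrix.mulVec_add, dotProduct_add]; rfl
theorem dB_sub_left (u u' v : Fin b → F) : dB D (u - u') v = dB D u v - dB D u' v := sub_dotProduct _ _ _
theorem dB_sub_right (u v v' : Fin b → F) : dB D u (v - v') = dB D u v - dB D u v' := by
  rw [dB, Matrix.mulVec_sub, dotProduct_sub]; rfl
theorem dB_smul_left (c : F) (u v : Fin b → F) : dB D (c • u) v = c * dB D u v := smul_dotProduct _ _ _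
theorem dB_smul_right (c : F) (u v : Fin b → F) : dB D u (c • v) = c * dB D u v := by
  rw [dB, Matrix.mulVec_smul, dotProduct_smul]; rfl
theorem dB_neg_left (u v : Fin b → F) : dB D (-u) v = -dB D u v := neg_dotProduct _ _
theorem dB_neg_right (u v : Fin b → F) : dB D u (-v) = -dB D u v := by
  rw [dB, Matrix.mulVec_neg, dotProduct_neg]; rfl
theorem dB_zero_left (v : Fin b → F) : dB D 0 v = 0 := zero_dotProduct _
theorem dB_zero_right (u : Fin b → F) : dB D u 0 = 0 := by rw [dB, Matrix.mulVec_zero, dotProduct_zero]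

theorem Gram.dB_comm (hD : Gram D) (u v : Fin b → F) : dB D u v = dB D v u := by
  rw [dB, dB, Matrix.dotProduct_mulVec, ← Matrix.mulVec_transpose, hD.symm, dotProduct_comm]

theorem Gram.mulVec_inj (hD : Gram D) : Function.Injective D.mulVec :=
  Matrix.mulVec_injective_iff_isUnit.2 ((Matrix.isUnit_iff_isUnit_det D).2 (Ne.isUnit hD.det))

theorem Gram.dB_nd (hD : Gram D) {u : Fin b → F} (h : ∀ v, dB D u v = 0) : u = 0 := by
  refine hD.mulVec_inj ?_
  rw [Matrix.mulVec_zero]
  funext i
  have := h (Pi.single i 1)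
  rw [hD.dB_comm, dB, single_dotProduct, one_mul] at this
  exact this

theorem Gram.dB_surj (hD : Gram D) {u : Fin b → F} (hu : u ≠ 0) : ∃ v, dB D u v = 1 := by
  by_contra hc
  refine hu (hD.dB_nd fun v => ?_)
  by_contra hv
  exact hc ⟨(dB D u v)⁻¹ • v, by rw [dB_smul_right, inv_mul_cancel₀ hv]⟩

theorem Gram.exists_aniso (hD : Gram D) (hb : 0 < b) : ∃ e, dB D e e ≠ 0 := by
  obtain ⟨v, hv⟩ := hD.dB_surj (u := Pi.single (⟨0, hb⟩ : Fin b) 1) (by simp)
  by_contra hc
  push Not at hc
  have h := hc (Pi.single (⟨0, hb⟩ : Fin b) 1 + v)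
  rw [dB_add_left, dB_add_right, dB_add_right, hc, hc, hv, hD.dB_comm v, hv] at h
  exact hD.two (by linear_combination h)

theorem W_add_left (x x' y : V) : W D (x + x') y = W D x y + W D x' y := add_dotProduct _ _ _
theorem W_add_right (x y y' : V) : W D x (y + y') = W D x y + W D x y' := by
  rw [W, Matrix.mulVec_add, dotProduct_add]; rfl
theorem W_sub_left (x x' y : V) : W D (x - x') y = W D x y - W D x' y := sub_dotProduct _ _ _
theorem W_sub_right (x y y' : V) : W D x (y - y') = W D x y - W D x y' := by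
  rw [W, Matrix.mulVec_sub, dotProduct_sub]; rfl
theorem W_smul_left (c : F) (x y : V) : W D (c • x) y = c * W D x y := smul_dotProduct _ _ _
theorem W_smul_right (c : F) (x y : V) : W D x (c • y) = c * W D x y := by
  rw [W, Matrix.mulVec_smul, dotProduct_smul]; rfl
theorem W_neg_left (x y : V) : W D (-x) y = -W D x y := neg_dotProduct _ _
theorem W_neg_right (x y : V) : W D x (-y) = -W D x y := by
  rw [W, Matrix.mulVec_neg, dotProduct_neg]; rfl
theorem W_zero_left (y : V) : W D 0 y = 0 := zero_dotProduct _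
theorem W_zero_right (x : V) : W D x 0 = 0 := by rw [W, Matrix.mulVec_zero, dotProduct_zero]

theorem dot_tmul {α β : Type} [Fintype α] [Fintype β] (a c : α → F) (u v : β → F) :
    tmul a u ⬝ᵥ tmul c v = (a ⬝ᵥ c) * (u ⬝ᵥ v) := by
  simp only [dotProduct, tmul, Fintype.sum_prod_type]
  rw [Finset.sum_mul_sum]
  exact Finset.sum_congr rfl fun i _ => Finset.sum_congr rfl fun j _ => by ring

theorem W_tmul (a c : Al k → F) (u v : Fin b → F) : W D (tmul a u) (tmul c v) = ω a c * dB D u v := by
  rw [W, kronecker_mulVec, dot_tmul]; rfl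

/-- Linear maps out of the product agreeing on pure tensors agree. -/
theorem ext_pure {M : Type*} [AddCommGroup M] [Module F M] {L L' : V →ₗ[F] M}
    (h : ∀ x y, L (tmul x y) = L' (tmul x y)) : L = L' :=
  LinearMap.ext fun t => by rw [sum_tmul_basis t]; simp only [map_sum, map_smul, h]

/-- Contraction with `ω (·, p)`. -/
def cp (p : Al k → F) : V →ₗ[F] (Fin b → F) := lslice (Matrix.J (Fin k) F *ᵥ p)

theorem cp_tmul (p x : Al k → F) (v : Fin b → F) : cp p (tmul x v) = ω x p • v := by
  rw [cp, lslice_tmul, dotProduct_comm]; rfl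

/-- `W` with the second argument fixed, as a linear map. -/
def WL (D : Matrix (Fin b) (Fin b) F) (y : V) : V →ₗ[F] F where
  toFun x := W D x y
  map_add' a c := W_add_left a c y
  map_smul' r a := W_smul_left r a y

/-- `dB` with the second argument fixed, as a linear map. -/
def dL (D : Matrix (Fin b) (Fin b) F) (v : Fin b → F) : (Fin b → F) →ₗ[F] F where
  toFun u := dB D u v
  map_add' a c := dB_add_left a c v
  map_smul' r a := dB_smul_left r a v

theorem W_tmul_right (t : V) (p : Al k → F) (v : Fin b → F) : W D t (tmul p v) = dB D (cp p t) v := by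
  have : WL D (tmul p v) = (dL D v).comp (cp p) := ext_pure fun x y => by
    show W D (tmul x y) (tmul p v) = dB D (cp p (tmul x y)) v
    rw [W_tmul, cp_tmul, dB_smul_left]
  exact LinearMap.congr_fun this t

theorem Gram.W_nd (hD : Gram D) {x : V} (h : ∀ y, W D x y = 0) : x = 0 := by
  have hz : ∀ p, cp p x = 0 := fun p => hD.dB_nd fun v => by rw [← W_tmul_right, h]
  funext ⟨i, j⟩
  rcases i with i | i
  · have := congrFun (hz (Pi.single (Sum.inr i) 1)) j
    simpa [cp, lslice, Matrix.J, Matrix.one_apply, Fintype.sum_sum_type] using this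
  · have := congrFun (hz (Pi.single (Sum.inl i) 1)) j
    simpa [cp, lslice, Matrix.J, Matrix.one_apply, Fintype.sum_sum_type] using this

theorem W_swap (hD : Gram D) (x y : V) : W D x y = -W D y x := by
  have hA : ∀ (c : Al k → F) (v : Fin b → F) (x : V), W D x (tmul c v) = -W D (tmul c v) x := by
    intro c v x
    rw [sum_tmul_basis x]
    simp only [W, Matrix.mulVec_sum, sum_dotProduct, dotProduct_sum, ← Finset.sum_neg_distrib]
    refine Finset.sum_congr rfl fun p _ => ?_
    have h1 := W_tmul (D := D) (Pi.single p.1 (1 : F)) c (Pi.single p.2 1) v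
    have h2 := W_tmul (D := D) c (Pi.single p.1 (1 : F)) v (Pi.single p.2 1)
    rw [sympForm_swap, hD.dB_comm] at h2
    simp only [W] at h1 h2
    simp only [smul_dotProduct, Matrix.mulVec_smul, dotProduct_smul, h1, h2, smul_eq_mul]
    ring
  rw [sum_tmul_basis y]
  simp only [W, Matrix.mulVec_sum, sum_dotProduct, dotProduct_sum, ← Finset.sum_neg_distrib]
  refine Finset.sum_congr rfl fun p _ => ?_
  have h := hA (Pi.single p.1 (1 : F)) (Pi.single p.2 1) x
  simp only [W] at h
  simp only [Matrix.mulVec_smul, dotProduct_smul, smul_dotProduct, h, smul_eq_mul]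
  ring

/-! ### Elements of product shape -/

/-- A product of two invertible matrices. -/
def kg {α β : Type} [Fintype α] [DecidableEq α] [Fintype β] [DecidableEq β] (y : GL α F) (T : GL β F) :
    GL (α × β) F where
  val := (y : Matrix α α F) ⊗ₖ (T : Matrix β β F)
  inv := ((y⁻¹ : GL α F) : Matrix α α F) ⊗ₖ ((T⁻¹ : GL β F) : Matrix β β F)
  val_inv := by
    rw [← Matrix.mul_kronecker_mul, ← Units.val_mul, ← Units.val_mul, mul_inv_cancel, mul_inv_cancel,
      Units.val_one, Units.val_one, Matrix.one_kronecker_one]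
  inv_val := by
    rw [← Matrix.mul_kronecker_mul, ← Units.val_mul, ← Units.val_mul, inv_mul_cancel, inv_mul_cancel,
      Units.val_one, Units.val_one, Matrix.one_kronecker_one]

theorem kg_apply {α β : Type} [Fintype α] [DecidableEq α] [Fintype β] [DecidableEq β] (y : GL α F) (T : GL β F)
    (x : α → F) (v : β → F) :
    (kg y T : Matrix (α × β) (α × β) F) *ᵥ tmul x v =
      tmul ((y : Matrix α α F) *ᵥ x) ((T : Matrix β β F) *ᵥ v) :=
  kronecker_mulVec _ _ _ _

theorem kg_isKron {α β : Type} [Fintype α] [DecidableEq α] [Fintype β] [DecidableEq β] (y : GL α F) (T : GL β F) :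
    IsKron (kg y T) := ⟨y, T, rfl⟩

/-- Matrices agreeing on pure tensors are equal. -/
theorem ext_gl {g h : GL (Al k × Fin b) F} (H : ∀ x v, (g : Mn) *ᵥ tmul x v = (h : Mn) *ᵥ tmul x v) : g = h := by
  refine Units.ext (Matrix.ext_iff_mulVec.2 fun t => ?_)
  have := ext_pure (L := Matrix.toLin' (g : Mn)) (L' := Matrix.toLin' (h : Mn)) fun x v => by
    simpa [Matrix.toLin'_apply] using H x v
  simpa [Matrix.toLin'_apply] using LinearMap.congr_fun this t

theorem kg_mul (y y' : GL (Al k) F) (T T' : GL (Fin b) F) : kg y T * kg y' T' = kg (y * y') (T * T') :=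
  ext_gl fun x v => by
    rw [Units.val_mul, ← Matrix.mulVec_mulVec, kg_apply, kg_apply, kg_apply, Units.val_mul, Units.val_mul,
      ← Matrix.mulVec_mulVec, ← Matrix.mulVec_mulVec]

theorem kg_one : kg (1 : GL (Al k) F) (1 : GL (Fin b) F) = 1 :=
  ext_gl fun x v => by rw [kg_apply]; simp

theorem kg_inv (y : GL (Al k) F) (T : GL (Fin b) F) : (kg y T)⁻¹ = kg y⁻¹ T⁻¹ :=
  inv_eq_of_mul_eq_one_right (by rw [kg_mul, mul_inv_cancel, mul_inv_cancel, kg_one])

theorem exists_kg_of_isKron {g : GL (Al k × Fin b) F} (h : IsKron g) : ∃ y T, g = kg y T := by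
  obtain ⟨y, T, e⟩ := h
  exact ⟨y, T, Units.ext e⟩

/-- An element is an isometry once it is one on pure tensors. -/
theorem mem_SpT_of_pure {g : GL (Al k × Fin b) F} (h : ∀ x v x' v', W D ((g : Mn) *ᵥ tmul x v)
    ((g : Mn) *ᵥ tmul x' v') = W D (tmul x v) (tmul x' v')) : g ∈ SpT k D := by
  refine mem_SpT.2 fun x y => ?_
  have h1 : ∀ x' v', (WL D ((g : Mn) *ᵥ tmul x' v')).comp (Matrix.toLin' (g : Mn)) = WL D (tmul x' v') :=
    fun x' v' => ext_pure fun a u => by
      show W D (Matrix.toLin' (g : Mn) (tmul a u)) _ = _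
      rw [Matrix.toLin'_apply]; exact h a u x' v'
  let RL : (Al k × Fin b → F) →ₗ[F] F :=
    { toFun := fun t => W D x t
      map_add' := fun a c => W_add_right x a c
      map_smul' := fun r a => W_smul_right r x a }
  let RG : (Al k × Fin b → F) →ₗ[F] F :=
    { toFun := fun t => W D ((g : Mn) *ᵥ x) ((g : Mn) *ᵥ t)
      map_add' := fun a c => by rw [Matrix.mulVec_add, W_add_right]
      map_smul' := fun r a => by rw [Matrix.mulVec_smul, W_smul_right]; rfl }
  have h2 : RG = RL := ext_pure fun x' v' => by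
    have := LinearMap.congr_fun (h1 x' v') x
    rw [LinearMap.comp_apply, Matrix.toLin'_apply] at this
    exact this
  exact LinearMap.congr_fun h2 y

theorem kg_mem (y : GL (Al k) F) (T : GL (Fin b) F) (μ ν : F) (hy : ∀ x x', ω ((y : Matrix (Al k) (Al k) F) *ᵥ x)
    ((y : Matrix (Al k) (Al k) F) *ᵥ x') = μ * ω x x')
    (hT : ∀ u v, dB D ((T : Matrix (Fin b) (Fin b) F) *ᵥ u) ((T : Matrix (Fin b) (Fin b) F) *ᵥ v) = ν * dB D u v)
    (hμν : μ * ν = 1) : kg y T ∈ SpT k D :=
  mem_SpT_of_pure fun x v x' v' => by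
    rw [kg_apply, kg_apply, W_tmul, W_tmul, hy, hT]
    linear_combination (ω x x' * dB D v v') * hμν

theorem kg_one_mem_left {y : GL (Al k) F} (hy : ∀ x x', ω ((y : Matrix (Al k) (Al k) F) *ᵥ x)
    ((y : Matrix (Al k) (Al k) F) *ᵥ x') = ω x x') : kg y (1 : GL (Fin b) F) ∈ SpT k D :=
  kg_mem y 1 1 1 (fun x x' => by rw [hy, one_mul]) (fun u v => by simp) (one_mul 1)

theorem kg_one_mem_right {T : GL (Fin b) F}
    (hT : ∀ u v, dB D ((T : Matrix (Fin b) (Fin b) F) *ᵥ u) ((T : Matrix (Fin b) (Fin b) F) *ᵥ v) = dB D u v) :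
    kg (1 : GL (Al k) F) T ∈ SpT k D :=
  kg_mem 1 T 1 1 (fun x x' => by simp) (fun u v => by rw [hT, one_mul]) (one_mul 1)

/-! ### Elementary symplectic maps of the first factor -/

theorem exists_tv (p : Al k → F) (r : F) : ∃ y : GL (Al k) F,
    (∀ x x', ω ((y : Matrix (Al k) (Al k) F) *ᵥ x) ((y : Matrix (Al k) (Al k) F) *ᵥ x') = ω x x') ∧
    ∀ x, (y : Matrix (Al k) (Al k) F) *ᵥ x = x + (r * ω x p) • p := by
  obtain ⟨y, hy, hyx⟩ := exists_sp_tv (m := k) p r
  exact ⟨y, mem_spGL.1 hy, hyx⟩

theorem exists_short (a p : Al k → F) (h : ω a p = 0) : ∃ y : GL (Al k) F,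
    (∀ x x', ω ((y : Matrix (Al k) (Al k) F) *ᵥ x) ((y : Matrix (Al k) (Al k) F) *ᵥ x') = ω x x') ∧
    ∀ x, (y : Matrix (Al k) (Al k) F) *ᵥ x = x + ω x a • p + ω x p • a := by
  have hpa : ω p a = 0 := by rw [sympForm_swap, h, neg_zero]
  let L : (Al k → F) →ₗ[F] (Al k → F) :=
    { toFun := fun x => x + ω x a • p + ω x p • a
      map_add' := fun x x' => by simp only [sympForm_add_left]; module
      map_smul' := fun r x => by simp only [sympForm_smul_left, RingHom.id_apply]; module }
  have hiso : ∀ x x', ω (L x) (L x') = ω x x' := fun x x' => by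
    show ω (x + ω x a • p + ω x p • a) (x' + ω x' a • p + ω x' p • a) = _
    simp only [sympForm_add_left, sympForm_add_right, sympForm_smul_left, sympForm_smul_right, sympForm_self,
      h, hpa, sympForm_swap p x', sympForm_swap a x', mul_zero, add_zero]
    ring
  obtain ⟨y, hy⟩ := exists_gl_of_injective L fun x x' hxx => sub_eq_zero.1 (sesq_sympForm.eq_zero _ fun z => by
    have h0 : ω (L (x - x')) (L z) = 0 := by rw [map_sub, hxx, sub_self, sesq_sympForm.zero_left]
    rw [hiso] at h0
    exact sesq_sympForm.refl _ _ h0)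
  exact ⟨y, fun x x' => by rw [hy, hy, hiso], hy⟩

theorem exists_pair_map {a c a' c' : Al k → F} (h : ω c a = 1) (h' : ω c' a' = 1) : ∃ y : GL (Al k) F,
    (∀ x x', ω ((y : Matrix (Al k) (Al k) F) *ᵥ x) ((y : Matrix (Al k) (Al k) F) *ᵥ x') = ω x x') ∧
    (y : Matrix (Al k) (Al k) F) *ᵥ a = a' ∧ (y : Matrix (Al k) (Al k) F) *ᵥ c = c' := by
  obtain ⟨A, -, hc, ha⟩ := exists_closure_pair h h'
  obtain ⟨y, hy⟩ := exists_gl_of_injective (Matrix.toLin' (A : Matrix (Al k) (Al k) F)) fun x x' hxx => by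
    rw [Matrix.toLin'_apply, Matrix.toLin'_apply] at hxx
    refine sub_eq_zero.1 (sesq_sympForm.eq_zero _ fun z => ?_)
    have h0 : ω ((A : Matrix (Al k) (Al k) F) *ᵥ (x - x')) ((A : Matrix (Al k) (Al k) F) *ᵥ z) = 0 := by
      rw [Matrix.mulVec_sub, hxx, sub_self, sesq_sympForm.zero_left]
    rw [sympForm_map] at h0
    exact sesq_sympForm.refl _ _ h0
  exact ⟨y, fun x x' => by simp only [hy, Matrix.toLin'_apply]; exact sympForm_map A x x',
    by rw [hy, Matrix.toLin'_apply, ha], by rw [hy, Matrix.toLin'_apply, hc]⟩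

/-- An orthogonal reflection of the second factor. -/
theorem exists_reflection (hD : Gram D) {e : Fin b → F} (he : dB D e e ≠ 0) : ∃ R : GL (Fin b) F,
    (∀ u v, dB D ((R : Matrix (Fin b) (Fin b) F) *ᵥ u) ((R : Matrix (Fin b) (Fin b) F) *ᵥ v) = dB D u v) ∧
    ∀ u, (R : Matrix (Fin b) (Fin b) F) *ᵥ u = u - (2 * dB D u e / dB D e e) • e := by
  let L : (Fin b → F) →ₗ[F] (Fin b → F) :=
    { toFun := fun u => u - (2 * dB D u e / dB D e e) • e
      map_add' := fun x x' => by
        simp only [dB_add_left]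
        rw [mul_add, add_div, add_smul]
        abel
      map_smul' := fun r x => by
        simp only [dB_smul_left, RingHom.id_apply]
        rw [smul_sub, smul_smul]
        congr 2
        ring }
  have hL : ∀ u, L u = u - (2 * dB D u e / dB D e e) • e := fun u => rfl
  have hLL : ∀ u, L (L u) = u := fun u => by
    rw [hL, hL, dB_sub_left, dB_smul_left, sub_sub, ← add_smul]
    rw [show 2 * dB D u e / dB D e e + 2 * (dB D u e - 2 * dB D u e / dB D e e * dB D e e) / dB D e e = 0 by
      field_simp; ring]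
    rw [zero_smul, sub_zero]
  obtain ⟨R, hR⟩ := exists_gl_of_injective L (Function.LeftInverse.injective hLL)
  refine ⟨R, fun u v => ?_, hR⟩
  rw [hR, hR, hL, hL, dB_sub_left, dB_sub_right, dB_sub_right, dB_smul_left, dB_smul_right, dB_smul_left,
    dB_smul_right, hD.dB_comm e v]
  field_simp
  ring

end

end Cfsg.Agent.Classical.TensorRoot
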