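import Cfsg.Agent.Lib.Classical.OrthShortRoot
import Cfsg.Agent.Lib.Classical.MaxTensorRootForm

/-!
Symmetric bilinear spaces in odd characteristic: singular vectors, Siegel maps and the group they generate.
-/

set_option autoImplicit false
set_option linter.unusedSectionVars false

namespace Cfsg.Agent.Classical.TensorOrth

open Matrix Module MaxTv

variable {F : Type*} [Field F] [Fintype F] {ι : Type} [Fintype ι] [DecidableEq ι]

local notation "V" => (ι → F)
local notation "Mn" => Matrix ι ι F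

/-- A non-degenerate symmetric bilinear form. -/
structure Sym (f : (ι → F) → (ι → F) → F) : Prop where
  add_left : ∀ x y v, f (x + y) v = f x v + f y v
  smul_left : ∀ (c : F) (x v : ι → F), f (c • x) v = c * f x v
  symm : ∀ x y, f x y = f y x
  eq_zero : ∀ w, (∀ x, f x w = 0) → w = 0

/-- A subspace on which the form is non-degenerate. -/
def NdOn (f : (ι → F) → (ι → F) → F) (W : Submodule F (ι → F)) : Prop :=
  ∀ w ∈ W, w ≠ 0 → ∃ y ∈ W, f w y ≠ 0

/-- The isometry group. -/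
def iso (f : (ι → F) → (ι → F) → F) : Subgroup (GL ι F) where
  carrier := {g | ∀ x y, f ((g : Mn) *ᵥ x) ((g : Mn) *ᵥ y) = f x y}
  mul_mem' {g h} hg hh x y := by rw [Units.val_mul, ← Matrix.mulVec_mulVec, ← Matrix.mulVec_mulVec, hg, hh]
  one_mem' x y := by simp
  inv_mem' {g} hg x y := by
    conv_rhs => rw [← mulVec_inv_cancel g x, ← mulVec_inv_cancel g y, hg]

/-- `g` is the Siegel map of the singular vector `a` and `w ⊥ a`. -/
def IsSieg (f : (ι → F) → (ι → F) → F) (g : GL ι F) (a w : ι → F) : Prop :=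
  ∀ x, (g : Mn) *ᵥ x = x + f x a • w - f x w • a - (f w w / 2 * f x a) • a

/-- The group generated by the Siegel maps. -/
def siegGrp (f : (ι → F) → (ι → F) → F) : Subgroup (GL ι F) :=
  Subgroup.closure {g | ∃ a w, f a a = 0 ∧ f w a = 0 ∧ IsSieg f g a w}

theorem mem_iso {f : V → V → F} {g : GL ι F} :
    g ∈ iso f ↔ ∀ x y, f ((g : Mn) *ᵥ x) ((g : Mn) *ᵥ y) = f x y := Iff.rfl

theorem exists_sq_sq (h2 : (2 : F) ≠ 0) {A B : F} (hA : A ≠ 0) (hB : B ≠ 0) (C : F) :
    ∃ x y : F, A * (x * x) + B * (y * y) + C = 0 := by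
  classical
  have hchar : ringChar F ≠ 2 := fun h => h2 (by haveI := ringChar.of_eq h; exact CharTwo.two_eq_zero)
  have hodd : Fintype.card F % 2 = 1 := FiniteField.odd_card_of_char_ne_two hchar
  obtain ⟨x, y, hxy⟩ := FiniteField.exists_root_sum_quadratic
    (f := Polynomial.C A * Polynomial.X ^ 2) (g := Polynomial.C B * Polynomial.X ^ 2 + Polynomial.C C)
    (by rw [Polynomial.degree_C_mul_X_pow 2 hA]; rfl)
    (by rw [Polynomial.degree_add_eq_left_of_degree_lt] <;> rw [Polynomial.degree_C_mul_X_pow 2 hB]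
        · rfl
        · exact lt_of_le_of_lt Polynomial.degree_C_le (by norm_num)) hodd
  refine ⟨x, y, ?_⟩
  simp only [Polynomial.eval_mul, Polynomial.eval_add, Polynomial.eval_C, Polynomial.eval_pow,
    Polynomial.eval_X] at hxy
  linear_combination hxy

theorem pow_char_eq_one {p : ℕ} [Fact p.Prime] [CharP F p] (h2 : (2 : F) ≠ 0) {g : GL ι F}
    (h : ((g : Mn) - 1) ^ 3 = 0) : g ^ p = 1 := by
  rcases isEmpty_or_nonempty ι with hι | hι
  · exact Units.ext (Subsingleton.elim _ _)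
  have hp : 3 ≤ p := by
    have := (Fact.out (p := p.Prime)).two_le
    by_contra hlt
    have hp2 : p = 2 := by omega
    exact h2 (by subst hp2; exact CharTwo.two_eq_zero)
  have h1 : ((g : Mn) - 1) ^ p = 0 := pow_eq_zero_of_le hp h
  rw [sub_pow_char_of_commute (p := p) (h := Commute.one_right _), one_pow, sub_eq_zero] at h1
  exact Units.ext (by rw [Units.val_pow_eq_pow_val, h1, Units.val_one])

/-- An isometry of odd order is in every group containing all squares. -/
theorem mem_of_cube {G : Subgroup (GL ι F)} {f : V → V → F} (hG : ∀ g ∈ iso f, g * g ∈ G) (h2 : (2 : F) ≠ 0)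
    {g : GL ι F} (hg : g ∈ iso f) (h : ∀ x, ((g : Mn) - 1) *ᵥ (((g : Mn) - 1) *ᵥ (((g : Mn) - 1) *ᵥ x)) = 0) :
    g ∈ G := by
  obtain ⟨p, hp⟩ := CharP.exists F
  haveI := hp
  haveI : Fact p.Prime := ⟨(CharP.char_is_prime_or_zero F p).resolve_right (CharP.char_ne_zero_of_finite F p)⟩
  have h3 : ((g : Mn) - 1) ^ 3 = 0 := Matrix.ext_iff_mulVec.2 fun x => by
    rw [pow_succ, pow_two, ← Matrix.mulVec_mulVec, ← Matrix.mulVec_mulVec, h, Matrix.zero_mulVec]
  have hgp := pow_char_eq_one (p := p) h2 h3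
  have hodd : p % 2 = 1 := (Fact.out (p := p.Prime)).eq_two_or_odd.resolve_left fun h' => by
    subst h'; exact h2 CharTwo.two_eq_zero
  have := hG _ (pow_mem hg ((p + 1) / 2))
  rwa [← pow_add, show (p + 1) / 2 + (p + 1) / 2 = p + 1 by omega, pow_succ, hgp, one_mul] at this

variable {f : (ι → F) → (ι → F) → F}

namespace Sym

variable (hs : Sym f)
include hs

theorem sesq : Sesq (RingEquiv.refl F) f where
  add_left := hs.add_left
  smul_left := hs.smul_left
  add_right v x y := by rw [hs.symm v, hs.add_left, hs.symm x, hs.symm y]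
  smul_right c v x := by rw [hs.symm v, hs.smul_left, hs.symm x, RingEquiv.refl_apply]
  eq_zero := hs.eq_zero
  refl v w h := by rw [hs.symm, h]

theorem add_right (v x y : V) : f v (x + y) = f v x + f v y := hs.sesq.add_right v x y
theorem smul_right (c : F) (v x : V) : f v (c • x) = c * f v x := hs.sesq.smul_right c v x
theorem zero_left (v : V) : f 0 v = 0 := hs.sesq.zero_left v
theorem zero_right (v : V) : f v 0 = 0 := hs.sesq.zero_right v
theorem sub_left (x y v : V) : f (x - y) v = f x v - f y v := hs.sesq.sub_left x y v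
theorem sub_right (v x y : V) : f v (x - y) = f v x - f v y := hs.sesq.sub_right v x y
theorem neg_left (x v : V) : f (-x) v = -f x v := by
  rw [← neg_one_smul F x, hs.smul_left, neg_one_mul]
theorem neg_right (v x : V) : f v (-x) = -f v x := by
  rw [← neg_one_smul F x, hs.smul_right, neg_one_mul]

/-- `x ↦ f x w`. -/
def lin (w : V) : V →ₗ[F] F := hs.sesq.lin w

theorem lin_apply (w x : V) : hs.lin w x = f x w := rfl

theorem eq_of_forall {a b : V} (h : ∀ x, f a x = f b x) : a = b :=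
  sub_eq_zero.1 (hs.eq_zero _ fun x => by rw [hs.sub_right, hs.symm x a, hs.symm x b, h, sub_self])

theorem exists_dual_vec (L : V →ₗ[F] F) : ∃ w, ∀ x, L x = f x w := by
  obtain ⟨w, hw⟩ := fn_surjective hs.sesq (fun j => L (Pi.single j 1))
  refine ⟨w, fun x => ?_⟩
  rw [← fn_dot hs.sesq, hw]
  conv_lhs => rw [← Finset.univ_sum_single x, map_sum]
  refine Finset.sum_congr rfl fun j _ => ?_
  rw [show (Pi.single j (x j) : V) = x j • Pi.single j 1 by rw [← Pi.single_smul, smul_eq_mul, mul_one],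
    map_smul, smul_eq_mul, mul_comm]

variable (h2 : (2 : F) ≠ 0)
include h2

theorem exists_partner {z : V} (hz : f z z = 0) (hz0 : z ≠ 0) : ∃ u, f u u = 0 ∧ f u z = 1 := by
  obtain ⟨x, hx⟩ := hs.sesq.exists_one hz0
  refine ⟨x + (-(f x x / 2)) • z, ?_, by rw [hs.add_left, hs.smul_left, hz, hx, mul_zero, add_zero]⟩
  simp only [hs.add_left, hs.add_right, hs.smul_left, hs.smul_right, hz, hx, hs.symm z x]
  field_simp
  ring

theorem exists_aniso {W : Submodule F V} (hW : NdOn f W) (h0 : ∃ w ∈ W, w ≠ 0) : ∃ w ∈ W, f w w ≠ 0 := by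
  obtain ⟨w, hw, hw0⟩ := h0
  obtain ⟨y, hy, hwy⟩ := hW w hw hw0
  by_contra hc
  push Not at hc
  have := hc _ (add_mem hw hy)
  rw [hs.add_left, hs.add_right, hs.add_right, hc w hw, hc y hy, hs.symm y w, zero_add, add_zero] at this
  exact hwy ((mul_eq_zero.1 ((two_mul _).trans this)).resolve_left h2)

omit h2 in
theorem ndOn_top : NdOn f ⊤ := fun w _ hw => by
  obtain ⟨x, hx⟩ := hs.sesq.exists_left hw
  exact ⟨x, trivial, by rwa [hs.symm]⟩

omit h2 in
/-- Cutting a non-degenerate subspace by an anisotropic vector of it. -/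
theorem ndOn_inf_ker {W : Submodule F V} (hW : NdOn f W) {a : V} (ha : a ∈ W) (haa : f a a ≠ 0) :
    NdOn f (W ⊓ LinearMap.ker (hs.lin a)) := by
  rintro w ⟨hw, hwa⟩ hw0
  have hwa' : f w a = 0 := hwa
  obtain ⟨y, hy, hwy⟩ := hW w hw hw0
  refine ⟨y - (f y a / f a a) • a, ⟨sub_mem hy (W.smul_mem _ ha), ?_⟩, ?_⟩
  · show f (y - _) a = 0
    rw [hs.sub_left, hs.smul_left, div_mul_cancel₀ _ haa, sub_self]
  · rw [hs.sub_right, hs.smul_right, hwa', mul_zero, sub_zero]
    exact hwy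

/-- A non-degenerate space of dimension three contains a singular vector. -/
theorem exists_iso_in {W : Submodule F V} (hW : NdOn f W) (h3 : 3 ≤ finrank F W) :
    ∃ v ∈ W, v ≠ 0 ∧ f v v = 0 := by
  obtain ⟨a, ha, haa⟩ := hs.exists_aniso h2 hW
    (Submodule.exists_mem_ne_zero_of_ne_bot fun h => by rw [h, finrank_bot] at h3; omega)
  have d1 := finrank_le_inf_ker_add_one W (hs.lin a)
  have hW1 := hs.ndOn_inf_ker hW ha haa
  obtain ⟨b, hb, hbb⟩ := hs.exists_aniso h2 hW1
    (Submodule.exists_mem_ne_zero_of_ne_bot fun h => by rw [h, finrank_bot] at d1; omega)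
  have d2 := finrank_le_inf_ker_add_one (W ⊓ LinearMap.ker (hs.lin a)) (hs.lin b)
  obtain ⟨c, hc, hc0⟩ := Submodule.exists_mem_ne_zero_of_ne_bot
    (p := W ⊓ LinearMap.ker (hs.lin a) ⊓ LinearMap.ker (hs.lin b)) fun h => by rw [h, finrank_bot] at d2; omega
  have hba : f b a = 0 := hb.2
  have hca : f c a = 0 := hc.1.2
  have hcb : f c b = 0 := hc.2
  by_cases hcc : f c c = 0
  · exact ⟨c, hc.1.1, hc0, hcc⟩
  obtain ⟨x, y, hxy⟩ := exists_sq_sq h2 haa hbb (f c c)
  refine ⟨x • a + y • b + c, add_mem (add_mem (W.smul_mem _ ha) (W.smul_mem _ hb.1)) hc.1.1, fun h => hcc ?_, ?_⟩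
  · have := congrArg (fun t => f t c) h
    simpa [hs.add_left, hs.smul_left, hs.symm a c, hca, hs.symm b c, hcb, hs.zero_left] using this
  · simp only [hs.add_left, hs.add_right, hs.smul_left, hs.smul_right, hs.symm a b, hs.symm a c, hs.symm b c,
      hba, hca, hcb]
    linear_combination hxy

/-- A hyperbolic pair in a non-degenerate space of dimension three. -/
theorem exists_pair_in {W : Submodule F V} (hW : NdOn f W) (h3 : 3 ≤ finrank F W) :
    ∃ b ∈ W, ∃ c ∈ W, f b b = 0 ∧ f c c = 0 ∧ f c b = 1 := by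
  obtain ⟨b, hb, hb0, hbb⟩ := hs.exists_iso_in h2 hW h3
  obtain ⟨y, hy, hby⟩ := hW b hb hb0
  obtain ⟨x, hx, hxb⟩ : ∃ x ∈ W, f x b = 1 :=
    ⟨(f b y)⁻¹ • y, W.smul_mem _ hy, by rw [hs.smul_left, hs.symm y b, inv_mul_cancel₀ hby]⟩
  refine ⟨b, hb, x + (-(f x x / 2)) • b, add_mem hx (W.smul_mem _ hb), hbb, ?_,
    by rw [hs.add_left, hs.smul_left, hbb, hxb, mul_zero, add_zero]⟩
  simp only [hs.add_left, hs.add_right, hs.smul_left, hs.smul_right, hbb, hxb, hs.symm b x]
  field_simp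
  ring

/-- Singular vectors of a subspace with a hyperbolic pair span it. -/
theorem mem_of_iso {S p : Submodule F V} {b c : V} (hb : b ∈ S) (hc : c ∈ S) (hbb : f b b = 0) (hcc : f c c = 0)
    (hcb : f c b = 1) (hp : ∀ v ∈ S, f v v = 0 → v ∈ p) {x : V} (hx : x ∈ S) : x ∈ p := by
  obtain ⟨x', hx'⟩ : ∃ x', x' = x - f x c • b - f x b • c := ⟨_, rfl⟩
  have h1 : f x' b = 0 := by
    rw [hx', hs.sub_left, hs.sub_left, hs.smul_left, hs.smul_left, hbb, hcb]; ring
  have h1' : f x' c = 0 := by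
    rw [hx', hs.sub_left, hs.sub_left, hs.smul_left, hs.smul_left, hs.symm b c, hcc, hcb]; ring
  obtain ⟨l, hl⟩ : ∃ l, l = -(f x' x' / 2) := ⟨_, rfl⟩
  have hx'S : x' ∈ S := hx' ▸ sub_mem (sub_mem hx (S.smul_mem _ hb)) (S.smul_mem _ hc)
  have hv : x' + b + l • c ∈ p := hp _ (add_mem (add_mem hx'S hb) (S.smul_mem _ hc)) (by
    simp only [hs.add_left, hs.add_right, hs.smul_left, hs.smul_right, hbb, hcc, hcb, h1, h1', hs.symm b x',
      hs.symm c x', hs.symm b c, hl]
    field_simp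
    ring)
  have e : x = (x' + b + l • c) - b - l • c + f x c • b + f x b • c := by rw [hx']; abel
  rw [e]
  exact add_mem (add_mem (sub_mem (sub_mem hv (hp b hb hbb)) (p.smul_mem _ (hp c hc hcc)))
    (p.smul_mem _ (hp b hb hbb))) (p.smul_mem _ (hp c hc hcc))

omit h2 in
/-- The vectors orthogonal to two vectors. -/
def perp2 (u z : V) : Submodule F V := LinearMap.ker (hs.lin u) ⊓ LinearMap.ker (hs.lin z)

omit h2 in
theorem mem_perp2 {u z x : V} : x ∈ hs.perp2 u z ↔ f x u = 0 ∧ f x z = 0 := Iff.rfl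

omit h2 in
theorem finrank_perp2 (u z : V) : Fintype.card ι ≤ finrank F (hs.perp2 u z) + 2 := by
  have h1 := card_le_finrank_ker_add_one (hs.lin u)
  have h3 := finrank_le_inf_ker_add_one (LinearMap.ker (hs.lin u)) (hs.lin z)
  rw [Sym.perp2]
  omega

omit h2 in
theorem ndOn_perp2 {u z : V} (hu : f u u = 0) (hz : f z z = 0) (huz : f u z = 1) : NdOn f (hs.perp2 u z) := by
  intro w hw hw0
  obtain ⟨y, hy⟩ := hs.sesq.exists_left hw0
  have hzu : f z u = 1 := by rw [hs.symm, huz]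
  rw [hs.mem_perp2] at hw
  refine ⟨y - f y z • u - f y u • z, hs.mem_perp2.2 ⟨?_, ?_⟩, ?_⟩
  · rw [hs.sub_left, hs.sub_left, hs.smul_left, hs.smul_left, hu, hzu]; ring
  · rw [hs.sub_left, hs.sub_left, hs.smul_left, hs.smul_left, hz, huz]; ring
  · rw [hs.sub_right, hs.sub_right, hs.smul_right, hs.smul_right, hw.1, hw.2, mul_zero, mul_zero, sub_zero,
      sub_zero, hs.symm]
    exact hy

theorem exists_hyp (hn : 3 ≤ Fintype.card ι) : ∃ b c : V, f b b = 0 ∧ f c c = 0 ∧ f c b = 1 := by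
  obtain ⟨b, -, c, -, h⟩ := hs.exists_pair_in h2 hs.ndOn_top (by rwa [finrank_top, Module.finrank_pi])
  exact ⟨b, c, h⟩

theorem mem_of_iso_all (hn : 3 ≤ Fintype.card ι) {p : Submodule F V} (hp : ∀ v, f v v = 0 → v ∈ p) (x : V) :
    x ∈ p := by
  obtain ⟨b, c, hbb, hcc, hcb⟩ := hs.exists_hyp h2 hn
  exact hs.mem_of_iso h2 (S := ⊤) trivial trivial hbb hcc hcb (fun v _ => hp v) trivial

theorem mem_of_iso_perp (hn : 5 ≤ Fintype.card ι) {z : V} (hz : f z z = 0) (hz0 : z ≠ 0) {p : Submodule F V}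
    (hp : ∀ v, f v z = 0 → f v v = 0 → v ∈ p) {x : V} (hx : f x z = 0) : x ∈ p := by
  obtain ⟨u, hu, huz⟩ := hs.exists_partner h2 hz hz0
  obtain ⟨b, hb, c, hc, hbb, hcc, hcb⟩ := hs.exists_pair_in h2 (hs.ndOn_perp2 hu hz huz)
    (by have := hs.finrank_perp2 u z; omega)
  exact hs.mem_of_iso h2 (S := LinearMap.ker (hs.lin z)) (b := b) (c := c) hb.2 hc.2 hbb hcc hcb
    (fun v hv => hp v hv) hx

theorem exists_sieg {a w : V} (ha : f a a = 0) (hw : f w a = 0) :
    ∃ g ∈ iso f, IsSieg f g a w := by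
  let L : V →ₗ[F] V := LinearMap.id + (hs.lin a).smulRight w - (hs.lin w).smulRight a -
    (f w w / 2) • (hs.lin a).smulRight a
  have hL : ∀ x, L x = x + f x a • w - f x w • a - (f w w / 2 * f x a) • a := fun x => by
    simp [L, Sym.lin_apply, mul_smul]
  have hiso : ∀ x y, f (L x) (L y) = f x y := fun x y => by
    simp only [hL, hs.add_left, hs.add_right, hs.smul_left, hs.smul_right, hs.sub_left, hs.sub_right, ha, hw,
      hs.symm a w, hs.symm a y, hs.symm w y]
    field_simp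
    ring
  obtain ⟨g, hg⟩ := exists_gl_of_injective L fun x y hxy => hs.eq_of_forall fun z => by
    rw [← hiso x, ← hiso y, hxy]
  exact ⟨g, fun x y => by rw [hg, hg, hiso], fun x => by rw [hg, hL]⟩

omit h2 in
theorem IsSieg_fix {g : GL ι F} {a w : V} (hg : IsSieg f g a w) {x : V} (h1 : f x a = 0) (h1' : f x w = 0) :
    (g : Mn) *ᵥ x = x := by
  rw [hg, h1, h1']; simp

theorem sieg_cube {g : GL ι F} {a w : V} (hg : IsSieg f g a w) (ha : f a a = 0) (hw : f w a = 0) (x : V) :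
    ((g : Mn) - 1) *ᵥ (((g : Mn) - 1) *ᵥ (((g : Mn) - 1) *ᵥ x)) = 0 := by
  have hN : ∀ x, ((g : Mn) - 1) *ᵥ x = f x a • w - f x w • a - (f w w / 2 * f x a) • a := fun x => by
    rw [Matrix.sub_mulVec, Matrix.one_mulVec, hg]; abel
  simp only [hN, hs.smul_left, hs.sub_left, ha, hw, hs.symm a w, mul_zero, sub_zero, zero_smul, zero_sub]
  rw [hs.neg_left, hs.neg_left, hs.smul_left, hs.smul_left, ha, hs.symm a w, hw]
  simp

theorem sieg_mul {g g' k : GL ι F} {a w w' : V} (hg : IsSieg f g a w) (hg' : IsSieg f g' a w')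
    (hk : IsSieg f k a (w + w')) (ha : f a a = 0) (hw : f w a = 0) (hw' : f w' a = 0) : g * g' = k := by
  refine Units.ext (Matrix.ext_iff_mulVec.2 fun x => ?_)
  rw [Units.val_mul, ← Matrix.mulVec_mulVec, hg, hk, hg']
  simp only [hs.add_left, hs.add_right, hs.sub_left, hs.smul_left, ha, hw, hw', hs.symm a w, hs.symm w' w]
  match_scalars <;> field_simp <;> ring

omit h2 in
theorem sieg_unique {g g' : GL ι F} {a w : V} (hg : IsSieg f g a w) (hg' : IsSieg f g' a w) : g = g' :=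
  Units.ext (Matrix.ext_iff_mulVec.2 fun x => by rw [hg, hg'])

theorem sieg_commute {g g' : GL ι F} {a w w' : V} (hg : IsSieg f g a w) (hg' : IsSieg f g' a w')
    (ha : f a a = 0) (hw : f w a = 0) (hw' : f w' a = 0) : g * g' = g' * g := by
  obtain ⟨k, -, hk⟩ := hs.exists_sieg h2 ha (w := w + w') (by rw [hs.add_left, hw, hw', add_zero])
  rw [hs.sieg_mul h2 hg hg' hk ha hw hw', hs.sieg_mul h2 hg' hg (add_comm w w' ▸ hk) ha hw' hw]

theorem siegGrp_le : siegGrp f ≤ iso f := by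
  refine (Subgroup.closure_le _).2 ?_
  rintro g ⟨a, w, ha, hw, hg⟩
  obtain ⟨g', hg', hg''⟩ := hs.exists_sieg h2 ha hw
  rwa [hs.sieg_unique hg hg'']

/-- The quadratic form with polar form `f`. -/
noncomputable def quad : QuadraticForm F V :=
  LinearMap.BilinMap.toQuadraticMap
    ((2 : F)⁻¹ • LinearMap.mk₂ F f hs.add_left hs.smul_left hs.add_right hs.smul_right)

omit h2 in
theorem quad_apply (x : V) : hs.quad x = f x x / 2 := by
  show (2 : F)⁻¹ * f x x = f x x / 2
  rw [div_eq_mul_inv, mul_comm]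

theorem quad_polar (x y : V) : QuadraticMap.polar ⇑hs.quad x y = f x y := by
  rw [QuadraticMap.polar, hs.quad_apply, hs.quad_apply, hs.quad_apply, hs.add_left, hs.add_right, hs.add_right,
    hs.symm y x]
  field_simp
  ring

theorem quad_nondeg : (QuadraticMap.polarBilin hs.quad).Nondegenerate := by
  constructor
  · intro x hx
    exact hs.eq_zero x fun y => by rw [hs.symm, ← hs.quad_polar h2]; exact hx y
  · intro x hx
    exact hs.eq_zero x fun y => by rw [← hs.quad_polar h2]; exact hx y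

theorem eOG_sieg {e w : V} (h : OrthAut.OK hs.quad e w) :
    f e e = 0 ∧ f w e = 0 ∧ IsSieg f ((OrthAut.eOG h : isometryGroup F ⇑hs.quad) : GL ι F) e w := by
  have he : f e e = 0 := by
    have h0 := h.1
    rw [hs.quad_apply, div_eq_zero_iff] at h0
    exact h0.resolve_right h2
  refine ⟨he, by rw [hs.symm, ← hs.quad_polar h2]; exact h.2, fun x => ?_⟩
  show OrthAut.ogVal (OrthAut.eOG h) *ᵥ x = _
  rw [OrthAut.eOG_val, OrthAut.eMat_mulVec, hs.quad_polar h2, hs.quad_polar h2, hs.quad_apply, hs.symm e x, hs.symm w x]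

theorem eR_le_siegGrp : (OrthAut.eR hs.quad).map (isometryGroup F ⇑hs.quad).subtype ≤ siegGrp f := by
  rw [Subgroup.map_le_iff_le_comap]
  refine (Subgroup.closure_le _).2 ?_
  rintro g ⟨e, w, h, hg⟩
  obtain rfl : g = OrthAut.eOG h := OrthAut.ogVal_ext hg
  exact Subgroup.subset_closure ⟨e, w, hs.eOG_sieg h2 h⟩

/-- Singular vectors form one orbit of the group generated by the Siegel maps. -/
theorem exists_move (hn : 4 ≤ Fintype.card ι) {e x : V} (he0 : e ≠ 0) (he : f e e = 0) (hx0 : x ≠ 0)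
    (hx : f x x = 0) : ∃ g ∈ siegGrp f, (g : Mn) *ᵥ e = x := by
  obtain ⟨g, hg, hge⟩ := OrthAut.eR_trans (hs.quad_nondeg h2) h2 hn he0
    (by rw [hs.quad_apply, he, zero_div]) hx0 (by rw [hs.quad_apply, hx, zero_div])
  exact ⟨_, hs.eR_le_siegGrp h2 ⟨g, hg, rfl⟩, hge⟩

omit h2 in
/-- In dimension three a hyperbolic pair and an orthogonal anisotropic vector span. -/
theorem three_basis (h3 : Fintype.card ι = 3) {z u c : V} (hz : f z z = 0) (huu : f u u = 0) (hu : f u z = 1)
    (hcu : f c u = 0) (hcz : f c z = 0) (hcc : f c c ≠ 0) (y : V) :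
    y = f y u • z + f y z • u + ((f c c)⁻¹ * f y c) • c := by
  have hzu : f z u = 1 := by rw [hs.symm, hu]
  have hli : LinearIndependent F ![z, u, c] := by
    refine Fintype.linearIndependent_iff.2 fun g hg i => ?_
    rw [Fin.sum_univ_three] at hg
    have k0 := congrArg (fun v => f v u) hg
    have k1 := congrArg (fun v => f v z) hg
    have k2 := congrArg (fun v => f v c) hg
    simp only [Matrix.cons_val_zero, Matrix.cons_val_one, Matrix.cons_val, hs.add_left, hs.smul_left,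
      hs.zero_left, hz, huu, hu, hzu, hcu, hcz, hs.symm z c, hs.symm u c,
      mul_zero, mul_one, add_zero, zero_add] at k0 k1 k2
    fin_cases i
    exacts [k0, k1, (mul_eq_zero.1 k2).resolve_right hcc]
  have htop : Submodule.span F (Set.range ![z, u, c]) = ⊤ :=
    hli.span_eq_top_of_card_eq_finrank' (by rw [Fintype.card_fin, Module.finrank_fintype_fun_eq_card, h3])
  obtain ⟨g, hg⟩ := (Submodule.mem_span_range_iff_exists_fun F).1 (htop ▸ Submodule.mem_top : y ∈ _)
  rw [Fin.sum_univ_three] at hg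
  simp only [Matrix.cons_val_zero, Matrix.cons_val_one, Matrix.cons_val] at hg
  rw [← hg]
  simp only [hs.add_left, hs.smul_left, hz, huu, hu, hzu, hcu, hcz, hs.symm z c, hs.symm u c, mul_zero, mul_one,
    add_zero, zero_add]
  match_scalars <;> field_simp

/-- In dimension three the singular lines form one orbit of the group generated by the Siegel maps. -/
theorem exists_move_line (h3 : Fintype.card ι = 3) {z z' : V} (hz0 : z ≠ 0) (hz : f z z = 0) (hz'0 : z' ≠ 0)
    (hz' : f z' z' = 0) : ∃ g ∈ siegGrp f, ∃ k : F, k ≠ 0 ∧ (g : Mn) *ᵥ z = k • z' := by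
  by_cases hzz : f z z' = 0
  · obtain ⟨u, huu, hu⟩ := hs.exists_partner h2 hz hz0
    obtain ⟨c, hc, hcc⟩ := hs.exists_aniso h2 (hs.ndOn_perp2 huu hz hu)
      (Submodule.exists_mem_ne_zero_of_ne_bot fun e => by
        have := hs.finrank_perp2 u z
        rw [e, finrank_bot] at *; omega)
    have hb := hs.three_basis h3 hz huu hu hc.1 hc.2 hcc z'
    rw [hs.symm z' z, hzz, zero_smul, add_zero] at hb
    obtain ⟨l, hl⟩ : ∃ l, l = (f c c)⁻¹ * f z' c := ⟨_, rfl⟩
    rw [← hl] at hb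
    have hl0 : l = 0 := by
      have h1 := hz'
      rw [hb] at h1
      simp only [hs.add_left, hs.add_right, hs.smul_left, hs.smul_right, hz, hs.symm z c,
        (show f c z = 0 from hc.2), mul_zero, zero_add, add_zero] at h1
      simpa [hcc] using h1
    rw [hl0, zero_smul, add_zero] at hb
    have hk : f z' u ≠ 0 := fun e => hz'0 (by rw [hb, e, zero_smul])
    refine ⟨1, one_mem _, (f z' u)⁻¹, inv_ne_zero hk, ?_⟩
    rw [Units.val_one, Matrix.one_mulVec]
    nth_rw 2 [hb]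
    rw [inv_smul_smul₀ hk]
  obtain ⟨v, hv⟩ : ∃ v, v = (f z' z)⁻¹ • z' := ⟨_, rfl⟩
  have hz'z : f z' z ≠ 0 := by rwa [hs.symm]
  have hvv : f v v = 0 := by rw [hv, hs.smul_left, hs.smul_right, hz', mul_zero, mul_zero]
  have hvz : f v z = 1 := by rw [hv, hs.smul_left, inv_mul_cancel₀ hz'z]
  obtain ⟨c, hc, hcc⟩ := hs.exists_aniso h2 (hs.ndOn_perp2 hvv hz hvz)
    (Submodule.exists_mem_ne_zero_of_ne_bot fun e => by
      have := hs.finrank_perp2 v z
      rw [e, finrank_bot] at *; omega)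
  obtain ⟨u, hu⟩ : ∃ u, u = c + v + (-(f c c / 2)) • z := ⟨_, rfl⟩
  have huu : f u u = 0 := by
    simp only [hu, hs.add_left, hs.add_right, hs.smul_left, hs.smul_right, hvv, hz, hvz, hs.symm z v,
      hs.symm z c, hs.symm v c, (show f c v = 0 from hc.1), (show f c z = 0 from hc.2)]
    field_simp
    ring
  have hzu : f z u = 1 := by
    simp only [hu, hs.add_right, hs.smul_right, hz, hs.symm z v, hvz, hs.symm z c, (show f c z = 0 from hc.2),
      mul_zero, add_zero, zero_add]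
  have hvu : f v u = -(f c c / 2) := by
    simp only [hu, hs.add_right, hs.smul_right, hvv, hvz, hs.symm v c, (show f c v = 0 from hc.1), zero_add, mul_one]
  obtain ⟨k, hk⟩ : ∃ k, k = (f z' z)⁻¹ * -(2 / f c c) := ⟨_, rfl⟩
  have hk0 : k ≠ 0 := hk ▸ mul_ne_zero (inv_ne_zero hz'z) (neg_ne_zero.2 (div_ne_zero h2 hcc))
  obtain ⟨z'', hz''⟩ : ∃ z'', z'' = k • z' := ⟨_, rfl⟩
  have hz''u : f z'' u = 1 := by
    have : z'' = (-(2 / f c c)) • v := by rw [hz'', hv, smul_smul, hk, mul_comm]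
    rw [this, hs.smul_left, hvu]
    field_simp
  have hz''s : f z'' z'' = 0 := by rw [hz'', hs.smul_left, hs.smul_right, hz', mul_zero, mul_zero]
  obtain ⟨g, -, hg⟩ := hs.exists_sieg h2 huu (w := z'' - z) (by rw [hs.sub_left, hz''u, hzu, sub_self])
  refine ⟨g, Subgroup.subset_closure ⟨u, _, huu, by rw [hs.sub_left, hz''u, hzu, sub_self], hg⟩, k, hk0, ?_⟩
  rw [← hz'', hg, hzu]
  simp only [hs.sub_left, hs.sub_right, hz, hz''s, hs.symm z'' z]
  match_scalars <;> field_simp <;> ring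

end Sym

/-- A totally singular plane. -/
structure TSP {ι : Type} (h : (ι → F) → (ι → F) → F) (z₁ z₂ : ι → F) : Prop where
  iso₁ : h z₁ z₁ = 0
  iso₂ : h z₂ z₂ = 0
  orth : h z₁ z₂ = 0
  ind : ∀ s t : F, s • z₁ + t • z₂ = 0 → s = 0 ∧ t = 0

theorem TSP.ne₁ {ι : Type} {h : (ι → F) → (ι → F) → F} {z₁ z₂ : ι → F} (p : TSP h z₁ z₂) : z₁ ≠ 0 := fun e =>
  one_ne_zero (p.ind 1 0 (by rw [e, smul_zero, zero_smul, add_zero])).1

theorem TSP.ne₂ {ι : Type} {h : (ι → F) → (ι → F) → F} {z₁ z₂ : ι → F} (p : TSP h z₁ z₂) : z₂ ≠ 0 := fun e =>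
  one_ne_zero (p.ind 0 1 (by rw [e, smul_zero, zero_smul, add_zero])).2

end Cfsg.Agent.Classical.TensorOrth
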