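import Cfsg.Agent.Lib.Classical.MaxOrthFieldThreeMain
import Cfsg.Agent.Lib.Classical.MaxTensorOrthBase

/-!
Orthogonal groups over an extension field of degree three: no element fixes the vectors perpendicular to a singular
vector, and a conjugate of a Siegel element which is semilinear is linear.
-/

set_option autoImplicit false
set_option linter.unusedSectionVars false
set_option quotPrecheck false
set_option linter.style.haveILetI false

namespace Cfsg.Agent.Classical.OrthField

open Matrix Module MaxTv OrthAut Overfield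

variable {F : Type*} [Field F] [Fintype F] {ι : Type} [Fintype ι] [DecidableEq ι] {Q : QuadraticForm F (ι → F)}
variable {E : Type*} [Field E] [Fintype E] [Algebra F E] [Module E (ι → F)] [IsScalarTower F E (ι → F)]

local notation "V" => (ι → F)
local notation "Mn" => Matrix ι ι F
local notation "B" => QuadraticMap.polar ⇑Q
local notation "τ" => Algebra.trace F E

theorem two_ne' (h2 : (2 : F) ≠ 0) : (2 : E) ≠ 0 := by
  rw [show (2 : E) = algebraMap F E 2 by rw [map_ofNat]]
  exact (map_ne_zero_iff _ (algebraMap F E).injective).2 h2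

/-- Skew maps for the trace form in dimension three. -/
theorem skew_cubic (h2 : (2 : F) ≠ 0) (h3 : finrank F E = 3) (A : E →ₗ[F] E) (hA : ∀ k, τ (k * A k) = 0)
    (hA0 : A ≠ 0) {k : E} (hk : k ≠ 0) (hAk : A k = 0) :
    (∀ x, A x = 0 → ∃ a : F, a • k = x) ∧ ∀ z, τ (k * z) = 0 → ∃ x, A x = z := by
  haveI := finiteE (F := F) (E := E)
  have hsk : ∀ s t, τ (s * A t) = -τ (t * A s) := fun s t => by
    have h := hA (s + t)
    rw [map_add, mul_add, add_mul, add_mul, map_add, map_add, map_add, hA, hA] at h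
    linear_combination h
  let L : E →ₗ[F] F := (τ).comp (LinearMap.mulLeft F k)
  have hle : LinearMap.range A ≤ LinearMap.ker L := by
    rintro _ ⟨x, rfl⟩
    show τ (k * A x) = 0
    rw [hsk, hAk, mul_zero, map_zero, neg_zero]
  have hLk : finrank F (LinearMap.ker L) = 2 := by
    have e1 := L.finrank_range_add_finrank_ker
    have e2 : finrank F (LinearMap.range L) = 1 := by
      rw [LinearMap.range_eq_top.2, finrank_top, Module.finrank_self]
      intro a
      obtain ⟨x, hx⟩ := Algebra.trace_surjective F E a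
      exact ⟨k⁻¹ * x, by show τ (k * (k⁻¹ * x)) = a; rw [mul_inv_cancel_left₀ hk, hx]⟩
    omega
  have hrange : 2 ≤ finrank F (LinearMap.range A) := by
    by_contra hlt
    push Not at hlt
    obtain ⟨x₀, hx₀⟩ : ∃ x₀, A x₀ ≠ 0 := by
      by_contra hc
      push Not at hc
      exact hA0 (LinearMap.ext hc)
    obtain ⟨a, ha⟩ : ∃ a, a = A x₀ := ⟨_, rfl⟩
    rw [← ha] at hx₀
    have hspan : LinearMap.range A = Submodule.span F {a} :=
      (Submodule.eq_of_le_of_finrank_le ((Submodule.span_singleton_le_iff_mem _ _).2 (ha ▸ LinearMap.mem_range_self A x₀))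
        (by rw [finrank_span_singleton hx₀]; omega)).symm
    have hmem : ∀ x, ∃ c : F, c • a = A x := fun x =>
      Submodule.mem_span_singleton.1 (hspan ▸ LinearMap.mem_range_self A x)
    have horth : ∀ x, τ (x * a) = 0 := by
      intro x
      have key : ∀ x, A x ≠ 0 → τ (x * a) = 0 := fun x hx => by
        obtain ⟨c, hc⟩ := hmem x
        have h1 := hA x
        rw [← hc, mul_smul_comm, map_smul, smul_eq_mul, mul_eq_zero] at h1
        exact h1.resolve_left fun e => hx (by rw [← hc, e, zero_smul])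
      by_cases hx : A x = 0
      · have h1 := key (x + x₀) (by rw [map_add, hx, zero_add, ← ha]; exact hx₀)
        rwa [add_mul, map_add, key x₀ (ha ▸ hx₀), add_zero] at h1
      · exact key x hx
    exact hx₀ (trace_ext (F := F) fun x => by rw [horth, mul_zero, map_zero])
  have heq : LinearMap.range A = LinearMap.ker L := Submodule.eq_of_le_of_finrank_le hle (by omega)
  refine ⟨fun x hx => ?_, fun z hz => ?_⟩
  · have e1 := A.finrank_range_add_finrank_ker
    have hker : LinearMap.ker A = Submodule.span F {k} :=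
      (Submodule.eq_of_le_of_finrank_le ((Submodule.span_singleton_le_iff_mem _ _).2 hAk)
        (by rw [finrank_span_singleton hk]; omega)).symm
    exact Submodule.mem_span_singleton.1 (hker ▸ hx : x ∈ Submodule.span F {k})
  · exact (heq ▸ hz : z ∈ LinearMap.range A)

namespace OF

variable {h : (ι → F) → (ι → F) → E} {M : Subgroup (GL ι F)} (O : OF Q h M)
  (hr : (finrank F E).Prime) (hNW : NoWin h M) (h3 : finrank F E = 3)
include O hr hNW h3

/-- In degree three no nontrivial element fixes the vectors perpendicular to a singular vector. -/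
theorem zt_zero_cubic {u : V} (hu0 : u ≠ 0) (hu : h u u = 0) {A : E →ₗ[F] E} (hA : Zt h M u A) : A = 0 := by
  classical
  have H := O.form
  have hE := H.two_ne O.two
  haveI := finiteE (F := F) (E := E)
  by_contra hA0
  obtain ⟨v, hv, huv⟩ := H.exists_pair O.two hu0 hu
  have hodd : Odd (finrank F E) := by rw [h3]; decide
  have hsk := O.zt_skew hu huv hA
  obtain ⟨k, hk, hAk⟩ := exists_ker_of_skew O.two hodd A hsk
  obtain ⟨y, hyu, hyv, hy⟩ := H.exists_aniso_W0 O.two O.dim hu hv huv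
  -- a scalar making the two kernels perpendicular
  obtain ⟨x, hxW, hx0, hx⟩ := exists_common_zero (W := (Submodule.span E {y}).restrictScalars F)
    (fun _ : Fin 1 => H.trForm (k * k / (h y y * h y y))) (by
      show 2 * 1 < finrank F (Submodule.span E {y} : Submodule E V)
      rw [← Module.finrank_mul_finrank F E (Submodule.span E {y} : Submodule E V),
        finrank_span_singleton (fun e => hy (by rw [e, H.zero_left])), h3]
      norm_num)
  obtain ⟨ν, rfl⟩ := Submodule.mem_span_singleton.1 (show x ∈ Submodule.span E {y} from hxW)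
  have hν : ν ≠ 0 := fun e => hx0 (by rw [e, zero_smul])
  have htr := hx 0
  rw [HForm.trForm_apply, H.smul_left, H.smul_right] at htr
  obtain ⟨w, hw⟩ : ∃ w, w = ν⁻¹ • y := ⟨_, rfl⟩
  obtain ⟨η, hη⟩ : ∃ η, η = h w w / 2 := ⟨_, rfl⟩
  have hηw : h w w = 2 * η := by rw [hη]; field_simp
  have hη0 : η ≠ 0 := by
    rw [hη, hw, H.smul_left, H.smul_right]
    exact div_ne_zero (mul_ne_zero (inv_ne_zero hν) (mul_ne_zero (inv_ne_zero hν) hy)) hE
  have hwu : h u w = 0 := by rw [hw, H.smul_right, hyu, mul_zero]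
  have hwv : h v w = 0 := by rw [hw, H.smul_right, hyv, mul_zero]
  obtain ⟨L, hL, ⟨m, hm, hmx⟩, hLu, -, -⟩ := O.weyl_mem hr hNW hu hv huv hwu hwv hηw hη0
  have hB := O.zt_map hm hL hmx hA
  rw [hLu] at hB
  obtain ⟨A', hA'⟩ : ∃ A' : E →ₗ[F] E,
      A' = (LinearMap.mulLeft F (-η)).comp (A.comp (LinearMap.mulLeft F (-η))) := ⟨_, rfl⟩
  have hA'x : ∀ z, A' z = -η * A (-η * z) := fun z => by rw [hA']; rfl
  obtain ⟨gB, hgB, hgBx⟩ : Zt h M v A' := by
    obtain ⟨g, hg, hgx⟩ := hB
    exact ⟨g, hg, fun z => by rw [hgx, H.smul_left, hA'x, smul_smul, mul_comm]⟩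
  obtain ⟨gA, hgA, hgAx⟩ := hA
  obtain ⟨l, hl⟩ : ∃ l, l = k / η := ⟨_, rfl⟩
  have hl0 : l ≠ 0 := hl ▸ div_ne_zero hk hη0
  have hA'l : A' l = 0 := by
    rw [hA'x, hl, show -η * (k / η) = -k by field_simp, map_neg, hAk, neg_zero, mul_zero]
  have hA'0 : A' ≠ 0 := fun e => hA0 (LinearMap.ext fun z => by
    have h1 := LinearMap.congr_fun e (-η⁻¹ * z)
    rw [hA'x, show -η * (-η⁻¹ * z) = z by field_simp, LinearMap.zero_apply, mul_eq_zero] at h1
    rw [h1.resolve_left (neg_ne_zero.2 hη0)]; rfl)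
  have hskA' : ∀ z, τ (z * A' z) = 0 := fun z => by
    rw [hA'x, ← mul_assoc, mul_comm z]; exact hsk _
  have hlk : τ (l * k) = 0 := by
    have e : l * k = (2 : F) • (k * k / (h y y * h y y) * (ν * (ν * h y y))) := by
      rw [hl, hη, hw, H.smul_left, H.smul_right, Algebra.smul_def, map_ofNat]
      field_simp
    rw [e, map_smul, htr, smul_zero]
  obtain ⟨hkA, -⟩ := skew_cubic O.two h3 A hsk hA0 hk hAk
  obtain ⟨-, hrA'⟩ := skew_cubic O.two h3 A' hskA' hA'0 hl0 hA'l
  obtain ⟨z₁, hz₁⟩ := hrA' k hlk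
  -- the vanishing triple product
  have hBAB : ∀ a, A' (A (A' a)) = 0 := by
    intro a
    obtain ⟨p, hp⟩ : ∃ p, p = A' a := ⟨_, rfl⟩
    rw [← hp]
    have hsk2 : ∀ (S : E →ₗ[F] E), (∀ z, τ (z * S z) = 0) → ∀ s t, τ (s * S t) = -τ (t * S s) := by
      intro S hS s t
      have h := hS (s + t)
      rw [map_add, mul_add, add_mul, add_mul, map_add, map_add, map_add, hS, hS] at h
      linear_combination h
    have hpl : τ (l * p) = 0 := by rw [hp, hsk2 A' hskA', hA'l, mul_zero, map_zero, neg_zero]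
    by_cases hdep : ∃ c : F, c • k = p
    · obtain ⟨c, hc⟩ := hdep
      rw [← hc, map_smul, hAk, smul_zero, map_zero]
    obtain ⟨e, he⟩ : ∃ e, e = A p := ⟨_, rfl⟩
    rw [← he]
    have hek : τ (k * e) = 0 := by rw [he, hsk2 A hsk, hAk, mul_zero, map_zero, neg_zero]
    have hep : τ (p * e) = 0 := by rw [he, hsk]
    let Ll : E →ₗ[F] F := (τ).comp (LinearMap.mulLeft F l)
    obtain ⟨y₀, hy₀⟩ : ∃ y₀, τ (l * y₀) = 1 := by
      obtain ⟨z, hz⟩ := Algebra.trace_surjective F E 1
      exact ⟨l⁻¹ * z, by rw [mul_inv_cancel_left₀ hl0, hz]⟩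
    have hker : LinearMap.ker Ll ≤ Submodule.span F (Set.range ![k, p]) := by
      have hli : LinearIndependent F ![k, p] :=
        (LinearIndependent.pair_iff' hk).2 fun c hc => hdep ⟨c, hc⟩
      refine le_of_eq (Submodule.eq_of_le_of_finrank_le ?_ ?_).symm
      · rw [Submodule.span_le]
        rintro _ ⟨i, rfl⟩
        fin_cases i
        exacts [hlk, hpl]
      · rw [finrank_span_eq_card hli, Fintype.card_fin]
        have e1 := Ll.finrank_range_add_finrank_ker
        have e2 : 1 ≤ finrank F (LinearMap.range Ll) := Submodule.one_le_finrank_iff.2 fun hbot => by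
          have hm : Ll y₀ ∈ LinearMap.range Ll := LinearMap.mem_range_self _ _
          rw [hbot, Submodule.mem_bot] at hm
          exact one_ne_zero (hy₀.symm.trans hm)
        omega
    have hel : e = τ (e * y₀) • l := trace_ext (F := F) fun z => by
      have hz : z - τ (l * z) • y₀ ∈ LinearMap.ker Ll := by
        show τ (l * (z - τ (l * z) • y₀)) = 0
        rw [mul_sub, map_sub, mul_smul_comm, map_smul, hy₀, smul_eq_mul, mul_one, sub_self]
      obtain ⟨c, hc⟩ := (Submodule.mem_span_range_iff_exists_fun F).1 (hker hz)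
      simp only [Fin.sum_univ_two, Matrix.cons_val_zero, Matrix.cons_val_one] at hc
      have h0 : τ ((z - τ (l * z) • y₀) * e) = 0 := by
        rw [← hc, add_mul, map_add, smul_mul_assoc, smul_mul_assoc, map_smul, map_smul, hek, hep, smul_zero,
          smul_zero, add_zero]
      rw [sub_mul, map_sub, smul_mul_assoc, map_smul, mul_comm y₀ e, smul_eq_mul, sub_eq_zero] at h0
      rw [h0, mul_smul_comm, map_smul, smul_eq_mul, mul_comm z l, mul_comm]
    rw [hel, map_smul, hA'l, smul_zero]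
  -- the commutator preserves the line
  obtain ⟨C, hC⟩ : ∃ C, C = gA * gB * gA⁻¹ * gB⁻¹ := ⟨_, rfl⟩
  have hCM : C ∈ M := hC ▸ mul_mem (mul_mem (mul_mem hgA hgB) (inv_mem hgA)) (inv_mem hgB)
  have hCu : ∀ a : E, (C : Mn) *ᵥ (a • u) = (a + A (A' a)) • u := by
    intro a
    obtain ⟨x, hx⟩ : ∃ x, x = a • u - A' a • v := ⟨_, rfl⟩
    obtain ⟨x', hx'⟩ : ∃ x', x' = x + A (A' a) • u := ⟨_, rfl⟩
    have e1 : ((gB⁻¹ : GL ι F) : Mn) *ᵥ (a • u) = x := gl_mulVec_injective gB (by
      show (gB : Mn) *ᵥ _ = (gB : Mn) *ᵥ _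
      rw [mulVec_inv_cancel, hgBx, hx, H.sub_right, H.smul_right, H.smul_right, hv, H.symm u v, huv, mul_one,
        mul_zero, sub_zero, sub_add_cancel])
    have e2 : ((gA⁻¹ : GL ι F) : Mn) *ᵥ x = x' := gl_mulVec_injective gA (by
      show (gA : Mn) *ᵥ _ = (gA : Mn) *ᵥ _
      rw [mulVec_inv_cancel, hgAx, hx', hx]
      simp only [H.add_right, H.sub_right, H.smul_right, hu, huv, mul_zero, mul_one, zero_sub, add_zero, map_neg,
        neg_smul]
      abel)
    have e3 : (gB : Mn) *ᵥ x' = (a + A (A' a)) • u := by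
      rw [hgBx, hx', H.add_right, hx, H.sub_right, H.smul_right, H.smul_right, H.smul_right, hv, H.symm u v, huv,
        mul_zero, mul_one, mul_one, sub_zero, map_add, hBAB, add_zero]
      module
    rw [hC, Units.val_mul, Units.val_mul, Units.val_mul, ← Matrix.mulVec_mulVec, ← Matrix.mulVec_mulVec,
      ← Matrix.mulVec_mulVec, e1, e2, e3, hgAx, H.smul_right, hu, mul_zero, map_zero, zero_smul, add_zero]
  have hz₁l : ∀ a : F, a • l ≠ z₁ := fun a e => hk (by rw [← hz₁, ← e, map_smul, hA'l, smul_zero])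
  have hfix := O.fix_line hr hNW hCM hu0 hu hl0 hz₁l (fun x => mem_meet.2 ⟨_, (hCu x).symm⟩)
    (by rw [hCu, hA'l, map_zero, add_zero]) (by rw [hCu, hz₁, hAk, add_zero])
  -- so the image of the second map lies in the kernel of the first
  obtain ⟨w', hw', hw'k⟩ : ∃ w', τ (l * w') = 0 ∧ ∀ c : F, c • k ≠ w' := by
    by_contra hcon
    push Not at hcon
    have hle : LinearMap.ker ((τ).comp (LinearMap.mulLeft F l)) ≤ Submodule.span F {k} := fun z hz => by
      obtain ⟨c, hc⟩ := hcon z hz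
      exact Submodule.mem_span_singleton.2 ⟨c, hc⟩
    have e1 := ((τ).comp (LinearMap.mulLeft F l)).finrank_range_add_finrank_ker
    have e2 : finrank F (LinearMap.range ((τ).comp (LinearMap.mulLeft F l))) ≤ 1 :=
      (Submodule.finrank_le _).trans_eq (Module.finrank_self F)
    have e4 := Submodule.finrank_mono hle
    rw [finrank_span_singleton hk] at e4
    omega
  obtain ⟨a, ha⟩ := hrA' w' hw'
  have h1 := hfix a
  rw [hCu, ha] at h1
  obtain ⟨c, hc⟩ := hkA w' (add_eq_left.1 (smul_left_injective E hu0 h1))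
  exact hw'k c hc

/-- A semilinear conjugate of a Siegel element is linear. -/
theorem no_twist_cubic (hd : finrank E (ι → F) = 3) {g R : GL ι F} {u v w : V} (hg : g ∈ M) (hR : R ∈ M)
    (hu0 : u ≠ 0) (hu : h u u = 0) (hv : h v v = 0) (huv : h u v = 1) (huw : h u w = 0) (hvw : h v w = 0)
    (hww : h w w ≠ 0) (hRx : ∀ x, (R : Mn) *ᵥ x = O.form.siegel u w x) (σ : E ≃ₐ[F] E)
    (hσ : ∀ (z : V) (k : E), ((g⁻¹ * R * g : GL ι F) : Mn) *ᵥ (k • z) =
      σ k • (((g⁻¹ * R * g : GL ι F) : Mn) *ᵥ z)) : σ = AlgEquiv.refl := by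
  classical
  by_contra hσ1
  have H := O.form
  have hE := H.two_ne O.two
  haveI := finiteE (F := F) (E := E)
  haveI : Module.Finite E (ι → F) := Module.Finite.of_restrictScalars_finite F E _
  obtain ⟨X, hX⟩ : ∃ X, X = g⁻¹ * R * g := ⟨_, rfl⟩
  rw [← hX] at hσ
  have hXM : X ∈ M := hX ▸ mul_mem (mul_mem (inv_mem hg) hR) hg
  have hfixR : ∀ z, (R : Mn) *ᵥ z = z → z = h v z • u := fun z hz => by
    rw [hRx] at hz
    obtain ⟨h1, h2⟩ := O.fixed_perp hr hNW hu huv hvw (fun e => hww (by rw [e, H.zero_left])) hz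
    exact O.eq_smul_c hd hu hv huv huw hvw hww h1 h2
  have hRu : ∀ k : E, (R : Mn) *ᵥ (k • u) = k • u := fun k => by
    rw [hRx, H.siegel_apply_perp (by rw [H.smul_right, hu, mul_zero]), H.smul_right, H.symm u w, huw, mul_zero,
      neg_zero, zero_smul, add_zero]
  let P : E →ₗ[F] V := (Matrix.toLin' ((g⁻¹ : GL ι F) : Mn)).comp (lineMap F u)
  have hgP : ∀ k, (g : Mn) *ᵥ P k = k • u := fun k => by
    simp only [P, LinearMap.comp_apply, Matrix.toLin'_apply, lineMap_apply, mulVec_inv_cancel]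
  have hPinj : Function.Injective P := fun k l e => smul_left_injective E hu0 (by
    show k • u = l • u
    rw [← hgP, ← hgP, e])
  have hXP : ∀ k, (X : Mn) *ᵥ P k = P k := fun k => by
    refine gl_mulVec_injective g ?_
    show (g : Mn) *ᵥ _ = (g : Mn) *ᵥ _
    rw [hX, Units.val_mul, Units.val_mul, ← Matrix.mulVec_mulVec, ← Matrix.mulVec_mulVec, mulVec_inv_cancel, hgP,
      hRu]
  have hfixed : ∀ x : E, σ x = x → ∃ a : F, algebraMap F E a = x := fun x hx => by
    by_contra hc
    push Not at hc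
    exact hσ1 (aut_eq_one_of_fixed hr σ hc hx)
  have hdual : ∀ a b, h ((X : Mn) *ᵥ a) ((X : Mn) *ᵥ b) = σ (h a b) := fun a b => trace_ext (F := F) fun k => by
    obtain ⟨l, rfl⟩ := σ.surjective k
    rw [← H.spec, ← hσ, isometry_polar (O.iso X hXM), H.spec, ← map_mul, Algebra.trace_eq_of_algEquiv σ]
  -- independence over the extension
  have hind : ∀ (n : ℕ) (c : Fin n → E), LinearIndependent F c → LinearIndependent E fun i => P (c i) := by
    intro n
    induction n with
    | zero => exact fun c _ => linearIndependent_empty_type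
    | succ n ih =>
      intro c hc
      rw [← Fin.cons_self_tail c] at hc ⊢
      rw [linearIndependent_fin_cons] at hc
      have htail := ih _ hc.1
      rw [show (fun i => P (Fin.cons (α := fun _ => E) (c 0) (Fin.tail c) i)) =
        Fin.cons (P (c 0)) (fun i => P (Fin.tail c i)) from funext fun i => by
          refine Fin.cases ?_ (fun j => ?_) i <;> simp]
      rw [linearIndependent_fin_cons]
      refine ⟨htail, fun hmem => hc.2 ?_⟩
      obtain ⟨a, ha⟩ := (Submodule.mem_span_range_iff_exists_fun E).1 hmem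
      have hfix : ∀ i, σ (a i) = a i := by
        have h1 := congrArg ((X : Mn) *ᵥ ·) ha
        simp only [Matrix.mulVec_sum, hσ, hXP] at h1
        rw [← ha, ← sub_eq_zero, ← Finset.sum_sub_distrib] at h1
        simp only [← sub_smul] at h1
        exact fun i => sub_eq_zero.1 (Fintype.linearIndependent_iff.1 htail _ h1 i)
      choose b hb using fun i => hfixed _ (hfix i)
      refine (Submodule.mem_span_range_iff_exists_fun F).2 ⟨b, hPinj ?_⟩
      rw [map_sum, ← ha]
      refine Finset.sum_congr rfl fun i _ => ?_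
      rw [map_smul, ← algebraMap_smul E (b i), hb]
  let κ : Basis (Fin 3) F E := Module.finBasisOfFinrankEq F E h3
  obtain ⟨ψ, hψ⟩ : ∃ ψ : (Fin 3 → F) →ₗ[F] V, ψ = P.comp (κ.equivFun.symm : (Fin 3 → F) →ₗ[F] E) := ⟨_, rfl⟩
  have hψX : ∀ c, (X : Mn) *ᵥ ψ c = ψ c := fun c => by rw [hψ, LinearMap.comp_apply, hXP]
  have hψinj : Function.Injective ψ := fun a b e => by
    rw [hψ, LinearMap.comp_apply, LinearMap.comp_apply] at e
    exact κ.equivFun.symm.injective (hPinj e)
  have hspan : ∀ z : V, ∃ a : Fin 3 → E, ∑ i, a i • ψ (Pi.single i 1) = z := fun z => by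
    have hli := hind 3 κ κ.linearIndependent
    refine (Submodule.mem_span_range_iff_exists_fun E).1 ?_
    have e : (fun i => ψ (Pi.single i 1)) = fun i => P (κ i) := funext fun i => by
      rw [hψ, LinearMap.comp_apply, LinearEquiv.coe_coe, Basis.equivFun_symm_apply]
      simp [Pi.single_apply]
    rw [e, hli.span_eq_top_of_card_eq_finrank (by rw [Fintype.card_fin, hd])]
    trivial
  -- the form on the fixed vectors
  obtain ⟨s, hs⟩ := Algebra.trace_surjective F E 1
  obtain ⟨f, hf⟩ : ∃ f : (Fin 3 → F) → (Fin 3 → F) → F, ∀ a b, f a b = τ (s * h (ψ a) (ψ b)) := ⟨_, fun _ _ => rfl⟩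
  have hfh : ∀ a b, algebraMap F E (f a b) = h (ψ a) (ψ b) := fun a b => by
    obtain ⟨r, hr'⟩ := hfixed (h (ψ a) (ψ b)) (by rw [← hdual, hψX, hψX])
    rw [hf, ← hr', ← Algebra.commutes, ← Algebra.smul_def, map_smul, hs, smul_eq_mul, mul_one]
  have hinj := (algebraMap F E).injective
  have hs' : TensorOrth.Sym f :=
    { add_left := fun x y z => hinj (by rw [map_add, hfh, hfh, hfh, map_add, H.add_left])
      smul_left := fun c x z => hinj (by
        rw [map_mul, hfh, hfh, map_smul, ← algebraMap_smul E c (ψ x), H.smul_left])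
      symm := fun x y => hinj (by rw [hfh, hfh, H.symm])
      eq_zero := fun a ha => hψinj ((H.eq_zero fun z => by
        obtain ⟨c, rfl⟩ := hspan z
        rw [← H.symm, ← HForm.func_apply H, map_sum]
        refine Finset.sum_eq_zero fun i _ => ?_
        rw [map_smul, HForm.func_apply, H.symm (ψ (Pi.single i 1)) (ψ a), ← hfh, ha, map_zero, smul_zero]).trans
          (map_zero ψ).symm) }
  have hdim : ∀ S : Submodule F (Fin 3 → F), 1 ≤ finrank F S → ∃ x ∈ S, x ≠ 0 := fun S hS =>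
    Submodule.exists_mem_ne_zero_of_ne_bot fun e => by rw [e, finrank_bot] at hS; omega
  have d0 : finrank F (⊤ : Submodule F (Fin 3 → F)) = 3 := by rw [finrank_top, Module.finrank_fin_fun]
  obtain ⟨a, -, ha⟩ := hs'.exists_aniso O.two hs'.ndOn_top (hdim _ (by omega))
  have d1 := MaxTv.finrank_le_inf_ker_add_one (⊤ : Submodule F (Fin 3 → F)) (hs'.lin a)
  have hW1 := hs'.ndOn_inf_ker hs'.ndOn_top trivial ha
  obtain ⟨b, hb, hbb⟩ := hs'.exists_aniso O.two hW1 (hdim _ (by omega))
  have d2 := MaxTv.finrank_le_inf_ker_add_one (⊤ ⊓ LinearMap.ker (hs'.lin a)) (hs'.lin b)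
  obtain ⟨c, hc, hcc⟩ := hs'.exists_aniso O.two (hs'.ndOn_inf_ker hW1 hb hbb) (hdim _ (by omega))
  have hba : f b a = 0 := hb.2
  have hca : f c a = 0 := hc.1.2
  have hcb : f c b = 0 := hc.2
  obtain ⟨x, y, hxy⟩ := TensorOrth.exists_sq_sq O.two hbb hcc (-f a a)
  obtain ⟨p', hp'⟩ : ∃ p', p' = x • b + y • c := ⟨_, rfl⟩
  obtain ⟨o, ho⟩ : ∃ o, o = (y * f c c) • b - (x * f b b) • c := ⟨_, rfl⟩
  have ho0 : o ≠ 0 := fun e => by
    have k1 := congrArg (fun z => f z b) (ho.symm.trans e)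
    have k2 := congrArg (fun z => f z c) (ho.symm.trans e)
    simp only [hs'.sub_left, hs'.smul_left, hs'.zero_left, hcb, hs'.symm b c, mul_zero, sub_zero, zero_sub,
      neg_eq_zero, mul_eq_zero, hbb, hcc, or_false] at k1 k2
    rw [k1, k2] at hxy
    exact ha (by linear_combination -hxy)
  have e1 : h (ψ a) (ψ p') = 0 := by
    rw [← hfh, hp', hs'.add_right, hs'.smul_right, hs'.smul_right, hs'.symm a b, hs'.symm a c, hba, hca]
    simp
  have e2 : h (ψ p') (ψ p') = h (ψ a) (ψ a) := by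
    rw [← hfh, ← hfh, hp']
    refine congrArg _ ?_
    simp only [hs'.add_left, hs'.add_right, hs'.smul_left, hs'.smul_right, hcb, hs'.symm b c]
    linear_combination hxy
  have e0 : h (ψ a) (ψ a) ≠ 0 := by rw [← hfh]; exact (map_ne_zero_iff _ hinj).2 ha
  have e3 : h (ψ a) (ψ o) = 0 := by
    rw [← hfh, ho, hs'.sub_right, hs'.smul_right, hs'.smul_right, hs'.symm a b, hs'.symm a c, hba, hca]
    simp
  have e4 : h (ψ p') (ψ o) = 0 := by
    rw [← hfh, ho, hp']
    refine (map_eq_zero_iff _ hinj).2 ?_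
    simp only [hs'.add_left, hs'.sub_right, hs'.smul_left, hs'.smul_right, hcb, hs'.symm b c]
    ring
  obtain ⟨m, hm, hmx⟩ := O.exists_halfturn e1 e0 e2
  obtain ⟨S, hS⟩ : ∃ S, S = h (ψ a) (ψ a) := ⟨_, rfl⟩
  have hσS : σ S = S := by rw [hS, ← hdual, hψX]
  have hσh : ∀ q z, (X : Mn) *ᵥ q = q → σ (2 * h q z / S) = 2 * h q ((X : Mn) *ᵥ z) / S := fun q z hq => by
    rw [map_div₀, map_mul, map_ofNat, hσS, ← hdual, hq]
  have hcomm : ∀ z, (X : Mn) *ᵥ ((m : Mn) *ᵥ z) = (m : Mn) *ᵥ ((X : Mn) *ᵥ z) := fun z => by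
    rw [hmx, hmx, ← hS, Matrix.mulVec_sub, Matrix.mulVec_sub, hσ, hσ, hσh _ _ (hψX a), hσh _ _ (hψX p'), hψX,
      hψX]
  obtain ⟨n, hn⟩ : ∃ n, n = g * m * g⁻¹ := ⟨_, rfl⟩
  have hnM : n ∈ M := hn ▸ mul_mem (mul_mem hg hm) (inv_mem hg)
  have hng : ∀ z, (n : Mn) *ᵥ ((g : Mn) *ᵥ z) = (g : Mn) *ᵥ ((m : Mn) *ᵥ z) := fun z => by
    rw [hn, Units.val_mul, Units.val_mul, ← Matrix.mulVec_mulVec, ← Matrix.mulVec_mulVec, inv_mulVec_cancel]
  have hgX : ∀ z, (g : Mn) *ᵥ ((X : Mn) *ᵥ z) = (R : Mn) *ᵥ ((g : Mn) *ᵥ z) := fun z => by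
    rw [hX, Units.val_mul, Units.val_mul, ← Matrix.mulVec_mulVec, ← Matrix.mulVec_mulVec, mulVec_inv_cancel]
  have hall : ∀ k, k ∈ (meet n u u : Submodule F E) := fun k => mem_meet.2 ⟨_, (hfixR _ (by
    rw [← hgP, hng, ← hgX, hcomm, hXP])).symm⟩
  obtain ⟨θ, hθ⟩ := O.line_semi hr hNW hnM hu0 hu hu0 hu hall
  obtain ⟨γ, hγ⟩ := mem_meet.1 (hall 1)
  rw [one_smul] at hγ
  have hnu : ∀ k : E, (n : Mn) *ᵥ (k • u) = (θ k * γ) • u := fun k => by rw [hθ, ← hγ, smul_smul]
  obtain ⟨i, hi⟩ : ∃ i, i = κ.equivFun.symm o := ⟨_, rfl⟩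
  obtain ⟨j, hj⟩ : ∃ j, j = κ.equivFun.symm a := ⟨_, rfl⟩
  have hPi : P i = ψ o := by rw [hψ, hi]; rfl
  have hPj : P j = ψ a := by rw [hψ, hj]; rfl
  have hmo : (m : Mn) *ᵥ ψ o = ψ o := by
    rw [hmx, e3, e4, mul_zero, zero_div, zero_smul, zero_smul, sub_zero, sub_zero]
  have hma : (m : Mn) *ᵥ ψ a = -ψ a := by
    rw [hmx, H.symm (ψ a) (ψ p'), e1, mul_zero, zero_div, zero_smul, sub_zero, mul_div_cancel_right₀ _ e0, two_smul]
    abel
  have k1 : θ i * γ = i := smul_left_injective E hu0 (by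
    show (θ i * γ) • u = i • u
    rw [← hnu, ← hgP, hng, hPi, hmo])
  have k2 : θ j * γ = -j := smul_left_injective E hu0 (by
    show (θ j * γ) • u = (-j) • u
    rw [← hnu, ← hgP, hng, hPj, hma, Matrix.mulVec_neg, ← hPj, hgP, neg_smul])
  have hi0 : i ≠ 0 := fun e => ho0 (hψinj (by rw [← hPi, e, map_zero, map_zero]))
  have hj0 : j ≠ 0 := fun e => e0 (by rw [← hPj, e, map_zero, H.zero_left])
  have hγ0 : γ ≠ 0 := fun e => hi0 (by rw [← k1, e, mul_zero])
  have hρ : θ (j / i) = -(j / i) := by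
    rw [map_div₀, ← neg_div, div_eq_div_iff (fun e => hi0 (θ.injective (e.trans (map_zero θ).symm))) hi0]
    exact mul_right_cancel₀ hγ0 (by linear_combination i * k2 + j * k1)
  have hρ0 : j / i ≠ 0 := div_ne_zero hj0 hi0
  have hnF : ∀ a : F, algebraMap F E a ≠ j / i := fun a e => hρ0 (by
    rw [← e, AlgEquiv.commutes] at hρ
    rw [← e]
    exact (mul_eq_zero.1 (by linear_combination hρ : (2 : E) * algebraMap F E a = 0)).resolve_left hE)
  have h2' : θ * θ = AlgEquiv.refl := aut_eq_one_of_fixed hr _ hnF (by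
    show θ (θ (j / i)) = j / i
    rw [hρ, map_neg, hρ, neg_neg])
  have h3' : θ = AlgEquiv.refl := by
    haveI := Fintype.ofFinite (E ≃ₐ[F] E)
    have h4 : θ ^ finrank F E = 1 := by
      rw [← IsGalois.card_aut_eq_finrank F E, Nat.card_eq_fintype_card]; exact pow_card_eq_one
    rw [h3, pow_succ, pow_two, show θ * θ = 1 from h2', one_mul] at h4
    exact h4
  rw [h3'] at hρ
  simp only [AlgEquiv.coe_refl, id] at hρ
  exact hρ0 ((mul_eq_zero.1 (by linear_combination hρ : (2 : E) * (j / i) = 0)).resolve_left hE)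

end OF

end Cfsg.Agent.Classical.OrthField
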