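import Cfsg.Agent.Lib.Classical.MaxOrthFieldMain

/-!
Normalisers of extension fields of degree three in orthogonal groups of plus type, dimension four over the
extension.
-/

set_option autoImplicit false

namespace Cfsg.Agent.Classical.OrthField

open Matrix

/-- Normalisers of fields of degree three are maximal in orthogonal groups of plus type in dimension twelve. -/
theorem orthogonal_overfield_four_maximal.{v} {F : Type v} [Field F] [Fintype F] {ι : Type} [Fintype ι]
    [DecidableEq ι] (Q₀ : (ι → F) → F) (hQ₀ : Geo.IsNondegenerateQuadraticForm Q₀)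
    (_hplus : Geo.IsPlusTypeOn Q₀ ⊤) (hodd : Odd (Fintype.card F)) (hn : Fintype.card ι = 12)
    (K : Subalgebra F (Matrix ι ι F)) (hK : Geo.IsFieldSubalgebra 3 K)
    (hsa : Geo.IsSelfAdjointFor (QuadraticMap.polar Q₀) K) :
    Geo.IsMaximalIn (Geo.omegaGL Q₀) (Geo.subalgebraNormalizer K ⊓ Geo.omegaGL Q₀) :=
  orthogonal_overfield_maximal_four Q₀ hQ₀ hodd (by omega) Nat.prime_three (fun d hd => by omega) K hK hsa

end Cfsg.Agent.Classical.OrthField
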