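import Cfsg.Agent.Lib.Classical.MaxOrthFieldTriple

/-!
Normalisers of extension fields over which the form is a trace form are maximal in orthogonal groups, odd
characteristic, dimension at least four over the extension.
-/

set_option autoImplicit false
set_option linter.unusedSectionVars false
set_option quotPrecheck false
set_option linter.style.haveILetI false

namespace Cfsg.Agent.Classical.OrthField

open Matrix Module MaxTv OrthAut Overfield

variable {F : Type*} [Field F] [Fintype F] {ι : Type} [Fintype ι] [DecidableEq ι] {Q : QuadraticForm F (ι → F)}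
variable {E : Type*} [Field E] [Fintype E] [Algebra F E] [Module E (ι → F)] [IsScalarTower F E (ι → F)]

local notation "V" => (ι → F)
local notation "Mn" => Matrix ι ι F
local notation "B" => QuadraticMap.polar ⇑Q
local notation "τ" => Algebra.trace F E

namespace OF

variable {h : (ι → F) → (ι → F) → E} {M : Subgroup (GL ι F)} (O : OF Q h M)
  (hr : (finrank F E).Prime) (hNW : NoWin h M) (hd : finrank F E = 2 → 4 ≤ finrank E (ι → F))
  (hzt0 : ∀ u, u ≠ 0 → h u u = 0 → ∀ A : E →ₗ[F] E, Zt h M u A → A = 0)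
include O hr hNW hd hzt0

/-- An element carrying a singular line to a singular line is semilinear on the vectors perpendicular to it. -/
theorem semi_perp {g : GL ι F} (hg : g ∈ M) {b c : V} (hb0 : b ≠ 0) (hb : h b b = 0) (hc0 : c ≠ 0)
    (hc : h c c = 0) (hall : ∀ k, k ∈ (meet g b c : Submodule F E)) :
    ∃ σ : E ≃ₐ[F] E, ∀ (y : V) (k : E), h b y = 0 → (g : Mn) *ᵥ (k • y) = σ k • ((g : Mn) *ᵥ y) := by
  have H := O.form
  obtain ⟨σ, hσ⟩ := O.line_semi hr hNW hg hb0 hb hc0 hc hall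
  refine ⟨σ, ?_⟩
  obtain ⟨c₁, hc₁⟩ : ∃ c₁, c₁ = (g : Mn) *ᵥ b := ⟨_, rfl⟩
  rw [← hc₁] at hσ
  obtain ⟨b', hb', hbb⟩ := H.exists_pair O.two hb0 hb
  have hτσ : ∀ x, τ (σ x) = τ x := fun x => Algebra.trace_eq_of_algEquiv σ x
  have hl : ∀ (l : E) y, τ (σ l * h c₁ ((g : Mn) *ᵥ y)) = τ (l * h b y) := fun l y => by
    rw [← H.spec, ← hσ, isometry_polar (O.iso g hg), H.spec]
  have hcy : ∀ y, h c₁ ((g : Mn) *ᵥ y) = σ (h b y) := fun y => trace_ext (F := F) fun k => by
    obtain ⟨l, rfl⟩ := σ.surjective k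
    rw [hl, ← map_mul, hτσ]
  have hc₁0 : c₁ ≠ 0 := fun e => hb0 (gl_mulVec_injective g (by
    show (g : Mn) *ᵥ _ = (g : Mn) *ᵥ _
    rw [← hc₁, e, Matrix.mulVec_zero]))
  have hc₁s : h c₁ c₁ = 0 := by
    have := hcy b
    rwa [← hc₁, hb, map_zero] at this
  -- the conjugates of the Siegel elements at `b`
  have hX : ∀ w, h b w = 0 → ∃ X ∈ M, (∀ x, (X : Mn) *ᵥ ((g : Mn) *ᵥ x) = (g : Mn) *ᵥ H.siegel b w x) ∧
      ∀ y, h b y = 0 → (X : Mn) *ᵥ ((g : Mn) *ᵥ y) = (g : Mn) *ᵥ y - σ (h w y) • c₁ := fun w hw => by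
    obtain ⟨S, hS, hSx⟩ := O.siegel_mem hb hw
    have e : ∀ x, ((g * S * g⁻¹ : GL ι F) : Mn) *ᵥ ((g : Mn) *ᵥ x) = (g : Mn) *ᵥ H.siegel b w x := fun x => by
      rw [Units.val_mul, Units.val_mul, ← Matrix.mulVec_mulVec, ← Matrix.mulVec_mulVec, inv_mulVec_cancel, hSx]
    refine ⟨g * S * g⁻¹, mul_mem (mul_mem hg hS) (inv_mem hg), e, fun y hy => ?_⟩
    rw [e, H.siegel_apply_perp hy, Matrix.mulVec_add, hσ, map_neg, neg_smul, sub_eq_add_neg]
  have hlin : ∀ y, h b y = 0 → ∀ l : E, ∃ m : E,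
      (g : Mn) *ᵥ (l • y) = σ l • ((g : Mn) *ᵥ y) + m • c₁ := fun y hy l => by
    obtain ⟨δ, hδ⟩ : ∃ δ, δ = ((g⁻¹ : GL ι F) : Mn) *ᵥ (σ l • ((g : Mn) *ᵥ y)) - l • y := ⟨_, rfl⟩
    have hgi : (g : Mn) *ᵥ (δ + l • y) = σ l • ((g : Mn) *ᵥ y) := by rw [hδ, sub_add_cancel, mulVec_inv_cancel]
    have hbδ : h b δ = 0 := by
      have h1 := hcy (δ + l • y)
      rw [hgi, H.smul_right, hcy, hy, map_zero, mul_zero, H.add_right, H.smul_right, hy, mul_zero, add_zero] at h1
      exact σ.injective (h1.symm.trans (map_zero σ).symm)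
    have hδperp : ∀ x, h b x = 0 → B x δ = 0 := fun x hx => by
      obtain ⟨X, hXM, -, hX2⟩ := hX x hx
      obtain ⟨φ, hφ⟩ : ∃ φ : V →ₗ[F] E, φ = -(σ.toLinearMap.comp (((H.func x).restrictScalars F).comp
        (Matrix.toLin' ((g⁻¹ : GL ι F) : Mn)))) := ⟨_, rfl⟩
      have hφ' : ∀ z, φ z = -σ (h x (((g⁻¹ : GL ι F) : Mn) *ᵥ z)) := fun z => by
        rw [hφ]; simp [HForm.func_apply]
      have hRt : Rt h M c₁ φ := by
        refine ⟨fun k => ?_, X, hXM, fun z hz => ?_⟩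
        · obtain ⟨l, rfl⟩ := σ.surjective k
          rw [hφ', ← hσ, inv_mulVec_cancel, H.smul_right, H.symm b x, hx, mul_zero, map_zero, neg_zero]
        · obtain ⟨z', rfl⟩ : ∃ z', (g : Mn) *ᵥ z' = z := ⟨_, mulVec_inv_cancel g z⟩
          rw [hcy] at hz
          rw [hX2 z' (σ.injective (hz.trans (map_zero σ).symm)), hφ', inv_mulVec_cancel, neg_smul, sub_eq_add_neg]
      have h1 := O.rt_linear_of hr hNW hzt0 hc₁0 hc₁s hRt (w := (g : Mn) *ᵥ y) (by rw [hcy, hy, map_zero]) (σ l)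
      rw [hφ', hφ', inv_mulVec_cancel, ← hgi, inv_mulVec_cancel, H.add_right, H.smul_right, map_add, map_mul] at h1
      have h2 : σ (h x δ) = 0 := by linear_combination -h1
      rw [H.form, σ.injective (h2.trans (map_zero σ).symm), map_zero]
    have he := H.eq_smul_of_perp hbb hb hδperp
    refine ⟨-σ (h b' δ), ?_⟩
    rw [← hgi, Matrix.mulVec_add, he, hσ, H.smul_right, H.symm b b', hbb, mul_one]
    module
  have hdual : ∀ w y, h b w = 0 → h b y = 0 → h ((g : Mn) *ᵥ w) ((g : Mn) *ᵥ y) = σ (h w y) := fun w y hw hy =>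
    trace_ext (F := F) fun k => by
      obtain ⟨l, rfl⟩ := σ.surjective k
      obtain ⟨m, hm⟩ := hlin w hw l
      have h1 := isometry_polar (O.iso g hg) (l • w) y
      rw [hm, QuadraticMap.polar_add_left, H.spec, H.spec, hcy, hy, map_zero, mul_zero, map_zero, add_zero,
        H.spec] at h1
      rw [h1, ← map_mul, hτσ]
  have hE := H.two_ne O.two
  -- the parts in the complement of the pair
  have hW0 : ∀ w, h b w = 0 → h b' w = 0 → ∀ k : E, (g : Mn) *ᵥ (k • w) =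
      σ k • ((g : Mn) *ᵥ w) - h ((g : Mn) *ᵥ w) ((g : Mn) *ᵥ (k • b')) • c₁ := fun w hw hw' k => by
    obtain ⟨X, hXM, hX1, hX2⟩ := hX w hw
    obtain ⟨S, hS, hSx⟩ := O.siegel_mem hc₁s (show h c₁ ((g : Mn) *ᵥ w) = 0 by rw [hcy, hw, map_zero])
    obtain ⟨c', hc', hcc⟩ := H.exists_pair O.two hc₁0 hc₁s
    obtain ⟨A, -, hA⟩ := O.exists_zmap hc₁s hcc (Matrix.toLin' ((S⁻¹ * X : GL ι F) : Mn))
      (fun x => by rw [Matrix.toLin'_apply]; exact O.iso _ (mul_mem (inv_mem hS) hXM) x) fun x hx => by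
        obtain ⟨y, rfl⟩ : ∃ y, (g : Mn) *ᵥ y = x := ⟨_, mulVec_inv_cancel g x⟩
        have hy : h b y = 0 := by rw [hcy] at hx; exact σ.injective (hx.trans (map_zero σ).symm)
        rw [Matrix.toLin'_apply, Units.val_mul, ← Matrix.mulVec_mulVec]
        refine gl_mulVec_injective S ?_
        show (S : Mn) *ᵥ _ = (S : Mn) *ᵥ _
        rw [mulVec_inv_cancel, hX2 y hy, hSx, H.siegel_apply_perp (by rw [hcy, hy, map_zero]), hdual w y hw hy]
        module
    have hA0 := hzt0 c₁ hc₁0 hc₁s A ⟨S⁻¹ * X, mul_mem (inv_mem hS) hXM, fun x => by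
      rw [← Matrix.toLin'_apply, hA]⟩
    have h1 := hA ((g : Mn) *ᵥ (k • b'))
    rw [hA0, LinearMap.zero_apply, zero_smul, add_zero, Matrix.toLin'_apply, Units.val_mul,
      ← Matrix.mulVec_mulVec] at h1
    have h2 := congrArg ((S : Mn) *ᵥ ·) h1
    simp only [mulVec_inv_cancel] at h2
    rw [hX1, hSx, H.siegel_apply, H.siegel_apply, hcy, hdual w w hw hw, H.smul_right k b b', hbb,
      H.smul_right k w b', H.symm b' w, hw', mul_zero, zero_add, mul_one, Matrix.mulVec_sub, Matrix.mulVec_add,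
      hσ, map_mul, map_div₀, map_ofNat] at h2
    linear_combination (norm := module) h2
  have hW1 : ∀ w, h b w = 0 → h b' w = 0 → ∀ k : E, (g : Mn) *ᵥ (k • w) = σ k • ((g : Mn) *ᵥ w) :=
    fun w hw hw' k => by
    have h1 := hW0 w hw hw' 1
    rw [one_smul, map_one, one_smul, one_smul, eq_comm, sub_eq_self, smul_eq_zero] at h1
    have h1' := h1.resolve_right hc₁0
    have e1 := hW0 (k • w) (by rw [H.smul_right, hw, mul_zero]) (by rw [H.smul_right, hw', mul_zero]) 1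
    rw [one_smul, map_one, one_smul, one_smul, eq_comm, sub_eq_self, smul_eq_zero] at e1
    have e1' := e1.resolve_right hc₁0
    have e2 := hW0 w hw hw' k
    rw [e2, H.sub_left, H.smul_left, H.smul_left, h1', mul_zero, zero_sub, neg_eq_zero, hcy, hbb, map_one,
      mul_one] at e1'
    rw [e2, e1', zero_smul, sub_zero]
  intro y k hy
  obtain ⟨w, hwdef⟩ : ∃ w, w = y - h b' y • b := ⟨_, rfl⟩
  have hy' : y = w + h b' y • b := by rw [hwdef, sub_add_cancel]
  have hw : h b w = 0 := by rw [hwdef, H.sub_right, H.smul_right, hy, hb, mul_zero, sub_zero]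
  have hw' : h b' w = 0 := by rw [hwdef, H.sub_right, H.smul_right, H.symm b b', hbb, mul_one, sub_self]
  rw [hy', smul_add, smul_smul, Matrix.mulVec_add, Matrix.mulVec_add, hW1 w hw hw', hσ, hσ, map_mul]
  module

/-- An element carrying a singular line to a singular line is semilinear. -/
theorem semi_all {g : GL ι F} (hg : g ∈ M) {b c : V} (hb0 : b ≠ 0) (hb : h b b = 0) (hc0 : c ≠ 0)
    (hc : h c c = 0) (hall : ∀ k, k ∈ (meet g b c : Submodule F E)) :
    ∃ σ : E ≃ₐ[F] E, ∀ (y : V) (k : E), (g : Mn) *ᵥ (k • y) = σ k • ((g : Mn) *ᵥ y) := by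
  classical
  have H := O.form
  have hE := H.two_ne O.two
  obtain ⟨σ, hσ⟩ := O.semi_perp hr hNW hd hzt0 hg hb0 hb hc0 hc hall
  obtain ⟨b', hb', hbb⟩ := H.exists_pair O.two hb0 hb
  have hb'0 : b' ≠ 0 := fun e => one_ne_zero (hbb.symm.trans (by rw [e, H.zero_right]))
  obtain ⟨c₁, hc₁⟩ : ∃ c₁, c₁ = (g : Mn) *ᵥ b := ⟨_, rfl⟩
  have hσb : ∀ k : E, (g : Mn) *ᵥ (k • b) = σ k • c₁ := fun k => hc₁ ▸ hσ b k hb
  refine ⟨σ, ?_⟩
  suffices hb'σ : ∀ k : E, (g : Mn) *ᵥ (k • b') = σ k • ((g : Mn) *ᵥ b') by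
    intro y k
    obtain ⟨w, hwdef⟩ : ∃ w, w = y - h b y • b' := ⟨_, rfl⟩
    have hy' : y = w + h b y • b' := by rw [hwdef, sub_add_cancel]
    have hw : h b w = 0 := by rw [hwdef, H.sub_right, H.smul_right, hbb, mul_one, sub_self]
    rw [hy', smul_add, smul_smul, Matrix.mulVec_add, Matrix.mulVec_add, hσ w k hw, hb'σ, hb'σ (h b y), map_mul]
    module
  have hc₁s : h c₁ c₁ = 0 := trace_ext (F := F) fun k => by
    obtain ⟨l, rfl⟩ := σ.surjective k
    rw [mul_zero, map_zero, ← H.spec, ← hσb, hc₁, isometry_polar (O.iso g hg), H.spec, hb, mul_zero, map_zero]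
  have hc₁0 : c₁ ≠ 0 := fun e => hb0 (gl_mulVec_injective g (by
    show (g : Mn) *ᵥ _ = (g : Mn) *ᵥ _
    rw [← hc₁, e, Matrix.mulVec_zero]))
  have hcy : ∀ y, h c₁ ((g : Mn) *ᵥ y) = σ (h b y) := fun y => trace_ext (F := F) fun k => by
    obtain ⟨l, rfl⟩ := σ.surjective k
    rw [← H.spec, ← hσb, isometry_polar (O.iso g hg), H.spec, ← map_mul, Algebra.trace_eq_of_algEquiv σ]
  obtain ⟨z, hz⟩ : ∃ z, z = (g : Mn) *ᵥ b' := ⟨_, rfl⟩
  have hcz : h c₁ z = 1 := by rw [hz, hcy, hbb, map_one]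
  obtain ⟨c', hc'def⟩ : ∃ c', c' = z - (h z z / 2) • c₁ := ⟨_, rfl⟩
  have hcc : h c₁ c' = 1 := by rw [hc'def, H.sub_right, H.smul_right, hc₁s, mul_zero, sub_zero, hcz]
  have hc' : h c' c' = 0 := by
    simp only [hc'def, H.sub_left, H.sub_right, H.smul_left, H.smul_right, hc₁s, hcz, H.symm c₁ z]
    field_simp
    ring
  -- the image of the partner line
  have hform : ∀ l : E, ∃ a : E, (g : Mn) *ᵥ (l • b') = σ l • c' + a • c₁ := fun l => by
    obtain ⟨D, hD⟩ : ∃ D, D = (g : Mn) *ᵥ (l • b') - σ l • c' := ⟨_, rfl⟩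
    refine ⟨h c' D, ?_⟩
    rw [← H.eq_smul_of_perp hcc hc₁s (δ := D) fun x hx => ?_, hD]
    · abel
    obtain ⟨y, rfl⟩ : ∃ y, (g : Mn) *ᵥ y = x := ⟨_, mulVec_inv_cancel g x⟩
    rw [hcy] at hx
    have hy := σ.injective (hx.trans (map_zero σ).symm)
    have e1 : B ((g : Mn) *ᵥ y) (σ l • c₁) = 0 := by
      rw [← hσb, isometry_polar (O.iso g hg), QuadraticMap.polar_comm, H.spec, hy, mul_zero, map_zero]
    have e2 : B ((g : Mn) *ᵥ y) (σ l • z) = B y (l • b') := by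
      rw [hz, ← H.sa, ← hσ y l hy, isometry_polar (O.iso g hg), H.sa]
    have e3 : B ((g : Mn) *ᵥ y) ((σ l * (h z z / 2)) • c₁) = 0 := by
      obtain ⟨s, hs⟩ := σ.surjective (σ l * (h z z / 2))
      rw [← hs, ← hσb, isometry_polar (O.iso g hg), QuadraticMap.polar_comm, H.spec, hy, mul_zero, map_zero]
    rw [hD, hc'def, smul_sub, smul_smul, QuadraticMap.polar_sub_right, QuadraticMap.polar_sub_right, e2, e3,
      isometry_polar (O.iso g hg), sub_zero, sub_self]
  obtain ⟨A, hAdef⟩ : ∃ A : E →ₗ[F] E, A = ((H.func c').restrictScalars F).comp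
      ((Matrix.toLin' (g : Mn)).comp ((lineMap F b').comp σ.symm.toLinearMap)) := ⟨_, rfl⟩
  have hA : ∀ l : E, (g : Mn) *ᵥ (l • b') = σ l • c' + A (σ l) • c₁ := fun l => by
    obtain ⟨a, ha⟩ := hform l
    rw [ha]
    congr 2
    have h1 : A (σ l) = h c' ((g : Mn) *ᵥ (l • b')) := by rw [hAdef]; simp [lineMap_apply, HForm.func_apply]
    rw [h1, ha, H.add_right, H.smul_right, H.smul_right, hc', H.symm c₁ c', hcc]
    ring
  have hsk : ∀ k, τ (k * A k) = 0 := fun k => by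
    obtain ⟨l, rfl⟩ := σ.surjective k
    have h1 := O.iso g hg (l • b')
    rw [hA, quad_add, H.quad_zero O.two (x := σ l • c') (by rw [H.smul_left, H.smul_right, hc', mul_zero, mul_zero]),
      H.quad_zero O.two (x := A (σ l) • c₁) (by rw [H.smul_left, H.smul_right, hc₁s, mul_zero, mul_zero]),
      H.quad_zero O.two (x := l • b') (by rw [H.smul_left, H.smul_right, hb', mul_zero, mul_zero]),
      zero_add, zero_add, H.spec, H.smul_right, H.symm c₁ c', hcc, mul_one] at h1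
    exact h1
  have hA0 : ∀ l, A (σ l) = 0 := by
    rcases hr.eq_two_or_odd' with h2 | hodd
    swap
    · obtain ⟨k₀, hk₀, hAk⟩ := exists_ker_of_skew O.two hodd A hsk
      haveI := finiteE (F := F) (E := E)
      have hsq : ∀ μ : E, A (μ * μ * k₀) = 0 := fun μ => by
        rcases eq_or_ne μ 0 with rfl | hμ
        · simp
        obtain ⟨ν, rfl⟩ := σ.surjective μ
        have hν : ν ≠ 0 := fun e => hμ (by rw [e, map_zero])
        obtain ⟨t, ht, htx⟩ := O.torus_mem hb hb' hbb hν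
        obtain ⟨n, hn, hnx⟩ := O.torus_mem hc₁s hc' hcc (μ := σ ν) hμ
        obtain ⟨A', hA'⟩ : ∃ A' : E →ₗ[F] E, A' = (LinearMap.mulLeft F (σ ν * σ ν)⁻¹).comp
            (A.comp (LinearMap.mulLeft F (σ ν * σ ν)⁻¹)) - A := ⟨_, rfl⟩
        have hA'x : ∀ x, A' x = (σ ν * σ ν)⁻¹ * A ((σ ν * σ ν)⁻¹ * x) - A x := fun x => by rw [hA']; rfl
        -- conjugate the torus
        have hzt : Zt h M c₁ A' := by
          refine ⟨n⁻¹ * (g * t * g⁻¹), mul_mem (inv_mem hn) (mul_mem (mul_mem hg ht) (inv_mem hg)), fun x => ?_⟩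
          obtain ⟨y, rfl⟩ : ∃ y, (g : Mn) *ᵥ y = x := ⟨_, mulVec_inv_cancel g x⟩
          refine gl_mulVec_injective n ?_
          show (n : Mn) *ᵥ _ = (n : Mn) *ᵥ _
          rw [Units.val_mul n⁻¹ _, ← Matrix.mulVec_mulVec, mulVec_inv_cancel, Units.val_mul, Units.val_mul,
            ← Matrix.mulVec_mulVec, ← Matrix.mulVec_mulVec, inv_mulVec_cancel, htx, hnx]
          obtain ⟨l, hl⟩ : ∃ l, l = h b y := ⟨_, rfl⟩
          obtain ⟨a, ha⟩ : ∃ a, a = h b' y := ⟨_, rfl⟩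
          obtain ⟨w, hw⟩ : ∃ w, w = y - a • b - l • b' := ⟨_, rfl⟩
          have hwb : h b w = 0 := by
            rw [hw, H.sub_right, H.sub_right, H.smul_right, H.smul_right, hb, hbb, hl]; ring
          have hwb' : h b' w = 0 := by
            rw [hw, H.sub_right, H.sub_right, H.smul_right, H.smul_right, hb', H.symm b b', hbb, ha]; ring
          have hy : y = l • b' + a • b + w := by rw [hw]; abel
          have hcw : h c' ((g : Mn) *ᵥ w) = 0 := trace_ext (F := F) fun k => by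
            obtain ⟨j, rfl⟩ := σ.surjective k
            have h1 := isometry_polar (O.iso g hg) (j • b') w
            rw [hA, QuadraticMap.polar_add_left, H.spec, H.spec, H.spec, hcy, hwb, map_zero, hwb', mul_zero,
              mul_zero, map_zero, add_zero] at h1
            rw [h1, mul_zero, map_zero]
          rw [hcy, ← hl, hy]
          simp only [H.torus_apply, H.add_right, H.smul_right, hb, hb', hbb, H.symm b b', hwb, hwb',
            Matrix.mulVec_add, hA, hσb, map_add, map_mul, map_sub, map_one, map_inv₀, hcy, hcw, hc₁s, hc', hcc,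
            H.symm c₁ c', map_zero, zero_mul, mul_zero, mul_one, add_zero, zero_add, zero_smul, hA'x, smul_smul,
            add_smul]
          have key : ∀ x, A (-(σ ν ^ 2 * x * (σ ν)⁻¹ ^ 2) + x * (σ ν)⁻¹ ^ 2) = A (x * (σ ν)⁻¹ ^ 2) - A x :=
            fun x => by
              rw [← map_sub]
              congr 1
              field_simp
              ring
          match_scalars <;> field_simp <;> (try ring_nf) <;> (try rw [key]) <;> (try ring)
        have h0 := LinearMap.congr_fun (hzt0 c₁ hc₁0 hc₁s _ hzt) (σ ν * σ ν * k₀)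
        rw [hA'x, LinearMap.zero_apply, inv_mul_cancel_left₀ (mul_ne_zero hμ hμ), hAk, mul_zero, zero_sub,
          neg_eq_zero] at h0
        exact h0
      intro l
      obtain ⟨x, hx⟩ : ∃ x, x = σ l / k₀ := ⟨_, rfl⟩
      rw [show σ l = (x + 1) / 2 * ((x + 1) / 2) * k₀ - (x - 1) / 2 * ((x - 1) / 2) * k₀ by
        rw [hx]; field_simp; ring, map_sub, hsq, hsq, sub_zero]
    obtain ⟨θ, hθ2, ⟨κ, hκ0, hθκ⟩, -, hskew⟩ := O.exists_twist hr hNW h2
    obtain ⟨e, -, hAe⟩ := hskew A hsk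
    obtain ⟨μ, hμ0, hμ1⟩ : ∃ μ : E, μ ≠ 0 ∧ μ * θ μ ≠ 1 := by
      by_cases hk1 : κ * θ κ = 1
      · refine ⟨1 + κ, fun e0 => ?_, fun e1 => hE ?_⟩
        · have hk' : κ = -1 := by linear_combination e0
          rw [hk', map_neg, map_one] at hθκ
          exact hE (by linear_combination -hθκ)
        · rw [hθκ] at hk1
          rw [map_add, map_one, hθκ] at e1
          exfalso
          exact one_ne_zero (α := E) (by linear_combination e1 - hk1)
      · exact ⟨κ, hκ0, hk1⟩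
    obtain ⟨ν, hν⟩ := σ.surjective μ
    have hν0 : ν ≠ 0 := fun e0 => hμ0 (by rw [← hν, e0, map_zero])
    have h4 := hd h2
    obtain ⟨w₁, hw₁b, hw₁b', hw₁⟩ := O.exists_value_W0 hr hNW h4 hb hb' hbb (t := 2 * ν) (mul_ne_zero hE hν0)
    obtain ⟨w₂, hw₂b, hw₂b', hw₂⟩ := O.exists_value_W0 hr hNW h4 hb hb' hbb (t := 2 * 1) (mul_ne_zero hE one_ne_zero)
    -- the complement of the pair goes to the complement of the image pair
    have hdual : ∀ w y, h b w = 0 → h b y = 0 → h ((g : Mn) *ᵥ w) ((g : Mn) *ᵥ y) = σ (h w y) := fun w y hw _ =>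
      trace_ext (F := F) fun k => by
        obtain ⟨l, rfl⟩ := σ.surjective k
        rw [← H.spec, ← hσ w l hw, isometry_polar (O.iso g hg), H.spec, ← map_mul, Algebra.trace_eq_of_algEquiv σ]
    have hc₁y : ∀ y, h b y = 0 → h c₁ ((g : Mn) *ᵥ y) = 0 := fun y hy => by rw [hcy, hy, map_zero]
    have hc'y : ∀ y, h b y = 0 → h b' y = 0 → h c' ((g : Mn) *ᵥ y) = 0 := fun y hy hy' =>
      trace_ext (F := F) fun k => by
        obtain ⟨l, rfl⟩ := σ.surjective k
        have h1 := isometry_polar (O.iso g hg) (l • b') y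
        rw [hA, QuadraticMap.polar_add_left, H.spec, H.spec, H.spec, hc₁y y hy, hy', mul_zero, mul_zero, map_zero,
          add_zero] at h1
        rw [h1, mul_zero, map_zero]
    obtain ⟨L₁, -, ⟨m₁, hm₁, hmx₁⟩, hL₁b, hL₁b', hL₁⟩ := O.weyl_mem hr hNW hb hb' hbb hw₁b hw₁b' hw₁ hν0
    obtain ⟨L₂, -, ⟨m₂, hm₂, hmx₂⟩, hL₂b, hL₂b', hL₂⟩ :=
      O.weyl_mem hr hNW hb hb' hbb hw₂b hw₂b' hw₂ one_ne_zero
    obtain ⟨N₁, -, ⟨n₁, hn₁, hnx₁⟩, hN₁c, hN₁c', hN₁⟩ := O.weyl_mem hr hNW hc₁s hc' hcc (hc₁y _ hw₁b)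
      (hc'y _ hw₁b hw₁b') (η := μ) (by rw [hdual _ _ hw₁b hw₁b, hw₁, map_mul, map_ofNat, hν]) hμ0
    obtain ⟨N₂, -, ⟨n₂, hn₂, hnx₂⟩, hN₂c, hN₂c', hN₂⟩ := O.weyl_mem hr hNW hc₁s hc' hcc (hc₁y _ hw₂b)
      (hc'y _ hw₂b hw₂b') (η := 1) (by rw [hdual _ _ hw₂b hw₂b, hw₂, map_mul, map_ofNat, map_one]) one_ne_zero
    obtain ⟨A', hA'⟩ : ∃ A' : E →ₗ[F] E,
        A' = (LinearMap.mulLeft F μ⁻¹).comp (A.comp (LinearMap.mulLeft F μ⁻¹)) - A := ⟨_, rfl⟩
    have hA'x : ∀ x, A' x = μ⁻¹ * A (μ⁻¹ * x) - A x := fun x => by rw [hA']; rfl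
    have hzt : Zt h M c₁ A' := by
      refine ⟨(n₂ * n₁)⁻¹ * (g * (m₂ * m₁) * g⁻¹),
        mul_mem (inv_mem (mul_mem hn₂ hn₁)) (mul_mem (mul_mem hg (mul_mem hm₂ hm₁)) (inv_mem hg)), fun x => ?_⟩
      obtain ⟨y, rfl⟩ : ∃ y, (g : Mn) *ᵥ y = x := ⟨_, mulVec_inv_cancel g x⟩
      refine gl_mulVec_injective (n₂ * n₁) ?_
      show ((n₂ * n₁ : GL ι F) : Mn) *ᵥ _ = ((n₂ * n₁ : GL ι F) : Mn) *ᵥ _
      rw [Units.val_mul ((n₂ * n₁)⁻¹) _, ← Matrix.mulVec_mulVec, mulVec_inv_cancel, Units.val_mul, Units.val_mul,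
        Units.val_mul, Units.val_mul, ← Matrix.mulVec_mulVec, ← Matrix.mulVec_mulVec, ← Matrix.mulVec_mulVec,
        ← Matrix.mulVec_mulVec, inv_mulVec_cancel, hnx₁, hnx₂, hmx₁, hmx₂]
      obtain ⟨l, hl⟩ : ∃ l, l = h b y := ⟨_, rfl⟩
      obtain ⟨a, ha⟩ : ∃ a, a = h b' y := ⟨_, rfl⟩
      obtain ⟨w, hw⟩ : ∃ w, w = y - a • b - l • b' := ⟨_, rfl⟩
      have hwb : h b w = 0 := by
        rw [hw, H.sub_right, H.sub_right, H.smul_right, H.smul_right, hb, hbb, hl]; ring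
      have hwb' : h b' w = 0 := by
        rw [hw, H.sub_right, H.sub_right, H.smul_right, H.smul_right, hb', H.symm b b', hbb, ha]; ring
      have hy : y = l • b' + a • b + w := by rw [hw]; abel
      rw [hcy, ← hl]
      obtain ⟨z, hz⟩ : ∃ z, z = L₁ w := ⟨_, rfl⟩
      have hzb : h b z = 0 := by rw [hz, hL₁ w hwb hwb', H.sub_right, H.smul_right, hwb, hw₁b]; ring
      have hzb' : h b' z = 0 := by rw [hz, hL₁ w hwb hwb', H.sub_right, H.smul_right, hwb', hw₁b']; ring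
      have hgz : N₁ ((g : Mn) *ᵥ w) = (g : Mn) *ᵥ z := by
        rw [hz, hL₁ w hwb hwb', hN₁ _ (hc₁y _ hwb) (hc'y _ hwb hwb'), Matrix.mulVec_sub, hσ w₁ _ hw₁b,
          hdual _ _ hw₁b hwb, map_mul, map_inv₀, hν]
      have hgz₂ : N₂ ((g : Mn) *ᵥ z) = (g : Mn) *ᵥ L₂ z := by
        rw [hL₂ z hzb hzb', hN₂ _ (hc₁y _ hzb) (hc'y _ hzb hzb'), Matrix.mulVec_sub, hσ w₂ _ hw₂b,
          hdual _ _ hw₂b hzb, map_mul, map_inv₀, map_one]
      rw [hy]
      simp only [map_add, map_smul, map_neg, hL₁b, hL₁b', ← hz, hL₂b, hL₂b', smul_smul, Matrix.mulVec_add, hA, hσb,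
        hN₁c, hN₁c', hgz, hN₂c, hN₂c', hgz₂, hA'x, inv_one, map_mul, map_inv₀, hν, map_one, smul_neg, neg_smul,
        neg_neg, mul_neg, neg_mul, mul_one, one_smul]
      rw [show A (σ l * μ⁻¹) = A (μ⁻¹ * σ l) by rw [mul_comm]]
      match_scalars <;> field_simp <;> ring
    have h0 := LinearMap.congr_fun (hzt0 c₁ hc₁0 hc₁s _ hzt) 1
    rw [hA'x, hAe, hAe, mul_one, map_one, map_inv₀, LinearMap.zero_apply] at h0
    have hθμ : θ μ ≠ 0 := fun e0 => hμ0 ((map_eq_zero_iff _ θ.injective).1 e0)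
    field_simp at h0
    have he : e = 0 := (mul_eq_zero.1 (show e * (1 - μ * θ μ) = 0 by linear_combination h0)).resolve_right
      (sub_ne_zero.2 (Ne.symm hμ1))
    exact fun l => by rw [hAe, he, zero_mul]
  intro k
  have h1 := hA 1
  rw [one_smul, hA0, zero_smul, add_zero, map_one, one_smul] at h1
  rw [hA k, hA0, zero_smul, add_zero, h1]

omit hNW hd hzt0 in
/-- A singular vector with singular image. -/
theorem exists_start (h4 : 4 ≤ finrank E (ι → F)) {g : GL ι F} (hg : g ∈ M) :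
    ∃ b, b ≠ 0 ∧ h b b = 0 ∧ h ((g : Mn) *ᵥ b) ((g : Mn) *ᵥ b) = 0 := by
  classical
  have H := O.form
  haveI := finiteE (F := F) (E := E)
  haveI : Module.Finite E (ι → F) := Module.Finite.of_restrictScalars_finite F E _
  let κ := Module.finBasis F E
  obtain ⟨C, hC⟩ := Submodule.exists_isCompl (Submodule.span F {(1 : E)})
  have hCd : finrank F C + 1 = finrank F E := by
    have h1 := Submodule.finrank_add_eq_of_isCompl hC
    rw [finrank_span_singleton (one_ne_zero (α := E))] at h1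
    omega
  let s := Module.finBasis F C
  have hV : 4 * finrank F E ≤ finrank F V := by
    rw [← Module.finrank_mul_finrank F E V, mul_comm]
    exact Nat.mul_le_mul_left _ h4
  obtain ⟨b, -, hb0, hb⟩ := exists_common_zero (W := (⊤ : Submodule F V))
    (Fin.append (fun j => H.trForm (κ j))
      (fun j => (H.trForm (s j : E)).compl₁₂ (Matrix.toLin' (g : Mn)) (Matrix.toLin' (g : Mn))))
    (by rw [finrank_top]; omega)
  have hbs : h b b = 0 := eq_zero_of_basis κ fun j => by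
    have := hb (Fin.castAdd _ j)
    rwa [Fin.append_left] at this
  refine ⟨b, hb0, hbs, ?_⟩
  obtain ⟨y, hy⟩ : ∃ y, y = (g : Mn) *ᵥ b := ⟨_, rfl⟩
  rw [← hy]
  refine trace_ext (F := F) fun k => ?_
  rw [mul_zero, map_zero]
  obtain ⟨i, hi, a, ha, rfl⟩ := Submodule.mem_sup.1
    (show k ∈ Submodule.span F {(1 : E)} ⊔ C by rw [hC.sup_eq_top]; trivial)
  obtain ⟨t, rfl⟩ := Submodule.mem_span_singleton.1 hi
  rw [add_mul, map_add, smul_mul_assoc, map_smul, one_mul, ← H.form, hy, isometry_polar (O.iso g hg), H.form, hbs,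
    map_zero, smul_zero, zero_add]
  have hsum : (∑ j, s.repr ⟨a, ha⟩ j • (s j : E)) = a := by
    conv_rhs => rw [show a = ((⟨a, ha⟩ : C) : E) from rfl, ← s.sum_repr ⟨a, ha⟩]
    rw [Submodule.coe_sum]
    rfl
  rw [← hsum, Finset.sum_mul, map_sum]
  refine Finset.sum_eq_zero fun j _ => ?_
  have h1 := hb (Fin.natAdd _ j)
  rw [Fin.append_right, LinearMap.compl₁₂_apply, Matrix.toLin'_apply, HForm.trForm_apply] at h1
  rw [smul_mul_assoc, map_smul, h1, smul_zero]

omit hNW hd hzt0 in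
/-- An overgroup with an element which is not semilinear contains `Ω`. -/
theorem omega_le_four (h4 : 4 ≤ finrank E (ι → F)) (hT : Tri Q) {g : GL ι F} (hg : g ∈ M)
    (hgn : ¬ ∀ (k : E) (a : V), (g : Mn) *ᵥ (k • a) ∈ (E ∙ ((g : Mn) *ᵥ a))) : Geo.omegaGL ⇑Q ≤ M := by
  by_contra hM
  have hNW : NoWin h M := fun u hu0 hu hW => hM (O.omega_le_of_win hT hu0 hu hW)
  obtain ⟨b, hb0, hb, hgb⟩ := O.exists_start hr h4 hg
  have hgb0 : (g : Mn) *ᵥ b ≠ 0 := fun e => hb0 (gl_mulVec_injective g (by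
    show (g : Mn) *ᵥ _ = (g : Mn) *ᵥ _
    rw [e, Matrix.mulVec_zero]))
  have hall : ∀ k, k ∈ (meet g b ((g : Mn) *ᵥ b) : Submodule F E) := by
    by_contra hcon
    push Not at hcon
    exact O.no_triple hr hNW h4 g b _ ⟨hg, hb0, hb, hgb0, hgb, ⟨1, one_ne_zero, mem_meet.2 ⟨1, by
      rw [one_smul, one_smul]⟩⟩, hcon⟩
  obtain ⟨σ, hσ⟩ := O.semi_all hr hNW (fun _ => h4)
    (fun _ h0 h1 _ hA => O.zt_zero hr hNW (fun _ => h4) (O.no_triple hr hNW h4) h0 h1 hA) hg hb0 hb hgb0 hgb hall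
  exact hgn fun k a => Submodule.mem_span_singleton.2 ⟨σ k, (hσ a k).symm⟩

end OF

set_option maxHeartbeats 1000000 in
/-- The reduction to overgroups with an element which is not semilinear. -/
theorem orthogonal_overfield_maximal_core.{v} {F : Type v} [Field F] [Fintype F] {ι : Type} [Fintype ι]
    [DecidableEq ι] (Q₀ : (ι → F) → F) (hQ₀ : Geo.IsNondegenerateQuadraticForm Q₀)
    (hodd : Odd (Fintype.card F)) (hn : 7 ≤ Fintype.card ι) {r : ℕ} (hr : r.Prime)
    (hdims : ∀ d, r * d = Fintype.card ι → 3 ≤ d)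
    (homega : ∀ (E : Type v) [Field E] [Fintype E] [Algebra F E] [Module E (ι → F)] [IsScalarTower F E (ι → F)]
      (Q : QuadraticForm F (ι → F)) (h : (ι → F) → (ι → F) → E) (M : Subgroup (GL ι F)), OF Q h M →
      finrank F E = r → r * finrank E (ι → F) = Fintype.card ι → ⇑Q = Q₀ → Tri Q → ∀ g ∈ M,
      (¬ ∀ (k : E) (a : ι → F), (g : Matrix ι ι F) *ᵥ (k • a) ∈ (E ∙ ((g : Matrix ι ι F) *ᵥ a))) →
      Geo.omegaGL ⇑Q ≤ M)
    (K : Subalgebra F (Matrix ι ι F)) (hK : Geo.IsFieldSubalgebra r K)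
    (hsa : Geo.IsSelfAdjointFor (QuadraticMap.polar Q₀) K) :
    Geo.IsMaximalIn (Geo.omegaGL Q₀) (Geo.subalgebraNormalizer K ⊓ Geo.omegaGL Q₀) := by
  classical
  obtain ⟨Q, hQ⟩ := exists_form hQ₀
  subst hQ
  have hnd := nd_of_isNondegenerateQuadraticForm hQ₀
  have hT : Tri Q := AschOrthTwo.tri_of_card hnd hn
  have h2 : (2 : F) ≠ 0 := MaxTv.two_ne_zero_of_card_odd hodd
  have hG : GenQ F ι := genQ_odd hnd h2
  haveI : Nontrivial ↥K := by
    haveI : Module.Finite F ↥K := Module.finite_of_finrank_pos (by rw [hK.finrank_eq]; exact hr.pos)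
    exact Module.nontrivial_of_finrank_pos (R := F) (by rw [hK.finrank_eq]; exact hr.pos)
  letI : CommRing ↥K := { (inferInstance : Ring ↥K) with
    mul_comm := fun a b => Subtype.ext (hK.comm _ a.2 _ b.2) }
  have hfield : IsField ↥K :=
    { exists_pair_ne := exists_pair_ne _
      mul_comm := mul_comm
      mul_inv_cancel := fun {a} ha => by
        obtain ⟨y, hy, hay⟩ := hK.inv _ a.2 fun h => ha (Subtype.ext h)
        exact ⟨⟨y, hy⟩, Subtype.ext hay⟩ }
  letI : Field ↥K := hfield.toField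
  have hsm : ∀ (k : ↥K) (x : ι → F), k • x = (k : Matrix ι ι F) *ᵥ x := fun _ _ => rfl
  haveI : IsScalarTower F ↥K (ι → F) := ⟨fun a k x => by
    rw [hsm, hsm, show ((a • k : ↥K) : Matrix ι ι F) = a • (k : Matrix ι ι F) from rfl, Matrix.smul_mulVec]⟩
  haveI : Fintype ↥K := Fintype.ofFinite _
  haveI : Module.Finite ↥K (ι → F) := Module.Finite.of_restrictScalars_finite F ↥K _
  have hdesc : Describes K ↥K := fun A => ⟨fun hA => ⟨⟨A, hA⟩, fun x => (hsm ⟨A, hA⟩ x).symm⟩, fun ⟨k, hk⟩ => by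
    have : A = (k : Matrix ι ι F) := Matrix.ext_iff_mulVec.2 fun x => (hk x).trans (hsm k x)
    rw [this]; exact k.2⟩
  obtain ⟨h, H⟩ := exists_hform (Q := Q) (E := ↥K) hnd fun k x y => hsa _ k.2 x y
  have hr' : (finrank F ↥K).Prime := hK.finrank_eq ▸ hr
  have hd : r * finrank ↥K (ι → F) = Fintype.card ι := by
    rw [← hK.finrank_eq, Module.finrank_mul_finrank, Module.finrank_fintype_fun_eq_card]
  have hd3 := hdims _ hd
  have h2d : 2 ≤ finrank ↥K (ι → F) := by omega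
  have hsq : ∀ L : (ι → F) →ₗ[↥K] (ι → F), (∀ x, h (L x) (L x) = h x x) →
      ∃ g ∈ Geo.subalgebraNormalizer K ⊓ Geo.omegaGL ⇑Q, ∀ x, (g : Matrix ι ι F) *ᵥ x = L (L x) := by
    intro L hL
    have hinj : Function.Injective (L.restrictScalars F) := fun x y hxy => sub_eq_zero.1 (H.eq_zero fun z => by
      rw [← H.iso_polar h2 hL, map_sub, show L x = L y from hxy, sub_self, H.zero_right])
    obtain ⟨t, ht⟩ := exists_gl_of_injective _ hinj
    have ht' : ∀ x, (t : Matrix ι ι F) *ᵥ x = L x := ht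
    obtain ⟨U, hU⟩ : ∃ U : isometryGroup F ⇑Q, U = ⟨t, mem_isometryGroup.2 fun x => by
      rw [ht']; exact H.quad_of_iso h2 hL x⟩ := ⟨_, rfl⟩
    have hN : t ∈ Geo.subalgebraNormalizer K :=
      mem_normalizer_of_lines hdesc h2d fun k a => Submodule.mem_span_singleton.2 ⟨k, by
        rw [ht', ht', map_smul]⟩
    refine ⟨t * t, ⟨mul_mem hN hN, ?_⟩, fun x => by rw [Units.val_mul, ← Matrix.mulVec_mulVec, ht', ht']⟩
    have hUU : U * U ∈ Omega F ⇑Q := by
      rw [omega_eq_ker hnd hG, MonoidHom.mem_ker, map_mul]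
      exact Prod.ext (Int.units_mul_self _) (Int.units_mul_self _)
    have := MaxTv.mem_omegaGL_of hUU
    rwa [hU] at this
  have hOF : ∀ M : Subgroup (GL ι F), Geo.subalgebraNormalizer K ⊓ Geo.omegaGL ⇑Q ≤ M → M ≤ Geo.omegaGL ⇑Q →
      OF Q h M := fun M hle hMs =>
    { two := h2
      form := H
      dim := by omega
      deg := hr'.two_le
      iso := fun g hg => isometry_of_mem_omegaGL (hMs hg)
      sq := fun L hL => by
        obtain ⟨g, hg, hgx⟩ := hsq L hL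
        exact ⟨g, hle hg, hgx⟩ }
  refine isMaximalIn_intro inf_le_right (fun hle => ?_) fun M hHM hMK g hgM hgH => ?_
  · have O := hOF _ le_rfl inf_le_right
    obtain ⟨u, hu0, hu⟩ := O.exists_sing
    obtain ⟨v, hv, huv⟩ := H.exists_pair h2 hu0 hu
    obtain ⟨y, hyu, hyv, hyy⟩ := H.exists_aniso_W0 h2 (by omega) hu hv huv
    obtain ⟨κ, hκ, hκ0⟩ := O.exists_trace_zero
    have hOK : OK Q u (κ • v) := ⟨H.quad_zero h2 hu, by rw [H.form, H.smul_right, huv, mul_one, hκ]⟩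
    obtain ⟨e, he⟩ : ∃ e : isometryGroup F ⇑Q, ogVal e = eMat Q u (κ • v) := ⟨_, eOG_val hOK⟩
    have heo : (e : GL ι F) ∈ Geo.omegaGL ⇑Q := by
      have h1 := MaxTv.mem_omegaGL_of (sR_le_omega hnd hT (eOG_mem hnd hT hOK))
      rwa [show (e : GL ι F) = (eOG hOK : GL ι F) from Units.ext (he.trans (eOG_val hOK).symm)]
    obtain ⟨a, ha⟩ : ∃ a, a = v + y := ⟨_, rfl⟩
    have hline := normalizer_preserves_lines hdesc (hle heo).1
    have hea : ∀ k : ↥K, ((e : GL ι F) : Matrix ι ι F) *ᵥ (k • a) =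
        k • a + Algebra.trace F ↥K k • (κ • v) := fun k => by
      show ogVal e *ᵥ _ = _
      rw [he, eMat_mulVec]
      have e1 : QuadraticMap.polar ⇑Q u (k • a) = Algebra.trace F ↥K k := by
        rw [H.form, H.smul_right, ha, H.add_right, huv, hyu, add_zero, mul_one]
      have e2 : QuadraticMap.polar ⇑Q (κ • v) (k • a) = 0 := by
        rw [H.form, H.smul_left, H.smul_right, ha, H.add_right, hv, hyv, add_zero, mul_zero, mul_zero, map_zero]
      have e3 : Q (κ • v) = 0 := H.quad_zero h2 (by rw [H.smul_left, H.smul_right, hv, mul_zero, mul_zero])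
      rw [e1, e2, e3, zero_smul, zero_mul, zero_smul, sub_zero, sub_zero]
    have key : ∀ k : ↥K, algebraMap F ↥K (Algebra.trace F ↥K k) =
        k * algebraMap F ↥K (Algebra.trace F ↥K 1) := fun k => by
      obtain ⟨t, ht⟩ := Submodule.mem_span_singleton.1 (hline k a)
      have hea1 := hea 1
      rw [one_smul] at hea1
      rw [hea, hea1, ← algebraMap_smul ↥K (Algebra.trace F ↥K 1) (κ • v),
        ← algebraMap_smul ↥K (Algebra.trace F ↥K k) (κ • v)] at ht
      have h3 := congrArg (h y) ht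
      have h4 := congrArg (h u) ht
      simp only [ha, H.smul_right, H.add_right, huv, hyu, H.symm v y, hyv, mul_zero, add_zero, zero_add,
        mul_one] at h3 h4
      rw [mul_left_inj' hyy] at h3
      rw [h3] at h4
      exact mul_right_cancel₀ hκ0 (by linear_combination -h4)
    have h1 : Algebra.trace F ↥K 1 = 0 := by
      by_contra hne
      have := key κ
      rw [hκ, map_zero, eq_comm, mul_eq_zero] at this
      exact hne ((map_eq_zero_iff _ (algebraMap F ↥K).injective).1 (this.resolve_left hκ0))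
    obtain ⟨s, hs⟩ := trace_ne (F := F) (E := ↥K)
    have := key s
    rw [h1, map_zero, mul_zero] at this
    exact hs ((map_eq_zero_iff _ (algebraMap F ↥K).injective).1 this)
  · refine homega ↥K Q h M (hOF M hHM hMK) hK.finrank_eq hd rfl hT g hgM fun hlines => hgH ⟨?_, hMK hgM⟩
    exact mem_normalizer_of_lines hdesc h2d hlines

/-- Normalisers of extension fields are maximal in orthogonal groups of odd characteristic, dimension at least
four over the extension. -/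
theorem orthogonal_overfield_maximal_four (Q₀ : (ι → F) → F) (hQ₀ : Geo.IsNondegenerateQuadraticForm Q₀)
    (hodd : Odd (Fintype.card F)) (hn : 7 ≤ Fintype.card ι) {r : ℕ} (hr : r.Prime)
    (hdims : ∀ d, r * d = Fintype.card ι → 4 ≤ d)
    (K : Subalgebra F (Matrix ι ι F)) (hK : Geo.IsFieldSubalgebra r K)
    (hsa : Geo.IsSelfAdjointFor (QuadraticMap.polar Q₀) K) :
    Geo.IsMaximalIn (Geo.omegaGL Q₀) (Geo.subalgebraNormalizer K ⊓ Geo.omegaGL Q₀) :=
  orthogonal_overfield_maximal_core Q₀ hQ₀ hodd hn hr (fun d hd => le_trans (by norm_num) (hdims d hd))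
    (fun E _ _ _ _ _ _ _ _ O hF hd _ hT _ hg hgn => O.omega_le_four (hF.symm ▸ hr) (hdims _ hd) hT hg hgn) K hK hsa

/-- Normalisers of extension fields are maximal in orthogonal groups of odd characteristic. -/
theorem orthogonal_overfield_maximal (Q₀ : (ι → F) → F) (hQ₀ : Geo.IsNondegenerateQuadraticForm Q₀)
    (hodd : Odd (Fintype.card F)) (hn : 7 ≤ Fintype.card ι) {r : ℕ} (hr : r.Prime)
    (hdims : ∀ d, r * d = Fintype.card ι → 4 ≤ d ∧ (r = 2 ∨ r = 3 → 5 ≤ d))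
    (K : Subalgebra F (Matrix ι ι F)) (hK : Geo.IsFieldSubalgebra r K)
    (hsa : Geo.IsSelfAdjointFor (QuadraticMap.polar Q₀) K) :
    Geo.IsMaximalIn (Geo.omegaGL Q₀) (Geo.subalgebraNormalizer K ⊓ Geo.omegaGL Q₀) :=
  orthogonal_overfield_maximal_four Q₀ hQ₀ hodd hn hr (fun d hd => (hdims d hd).1) K hK hsa

end Cfsg.Agent.Classical.OrthField
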