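import Cfsg.Agent.Lib.Classical.MaxOrthFieldWin

/-!
Orthogonal groups over an extension field: if no line has the full radical then every element of the overgroup
is semilinear over the extension.
-/

set_option autoImplicit false
set_option linter.unusedSectionVars false
set_option quotPrecheck false
set_option linter.style.haveILetI false

namespace Cfsg.Agent.Classical.OrthField

open Matrix Module MaxTv OrthAut

variable {F : Type*} [Field F] [Fintype F] {ι : Type} [Fintype ι] [DecidableEq ι] {Q : QuadraticForm F (ι → F)}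
variable {E : Type*} [Field E] [Fintype E] [Algebra F E] [Module E (ι → F)] [IsScalarTower F E (ι → F)]

local notation "V" => (ι → F)
local notation "Mn" => Matrix ι ι F
local notation "B" => QuadraticMap.polar ⇑Q
local notation "τ" => Algebra.trace F E

theorem finrank_ker_inf_pi {e : ℕ} (S : Submodule F (ι → F)) (L : (ι → F) →ₗ[F] (Fin e → F)) :
    finrank F S ≤ finrank F (S ⊓ LinearMap.ker L : Submodule F (ι → F)) + e := by
  have h1 := Submodule.finrank_sup_add_finrank_inf_eq S (LinearMap.ker L)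
  have h2 := L.finrank_range_add_finrank_ker
  have h3 : finrank F (LinearMap.range L) ≤ e := (Submodule.finrank_le _).trans_eq (Module.finrank_fin_fun F)
  have h4 := Submodule.finrank_le (S ⊔ LinearMap.ker L)
  omega

/-- A map which is skew for the trace form is singular in odd degree. -/
theorem exists_ker_of_skew (h2 : (2 : F) ≠ 0) (hodd : Odd (finrank F E)) (A : E →ₗ[F] E)
    (hA : ∀ k, τ (k * A k) = 0) : ∃ k, k ≠ 0 ∧ A k = 0 := by
  classical
  haveI := finiteE (F := F) (E := E)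
  let κ := Module.finBasis F E
  have hsk : ∀ s t, τ (s * A t) = -τ (t * A s) := fun s t => by
    have h := hA (s + t)
    rw [map_add, mul_add, add_mul, add_mul, map_add, map_add, map_add, hA, hA] at h
    linear_combination h
  obtain ⟨T, hT⟩ : ∃ T : Matrix (Fin (finrank F E)) (Fin (finrank F E)) F,
      T = Matrix.of fun i j => τ (κ i * A (κ j)) := ⟨_, rfl⟩
  have hdet : T.det = 0 := by
    have h1 : Tᵀ = -T := Matrix.ext fun i j => by
      rw [Matrix.transpose_apply, Matrix.neg_apply, hT, Matrix.of_apply, Matrix.of_apply, hsk]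
    have h3 := congrArg Matrix.det h1
    rw [Matrix.det_transpose, Matrix.det_neg, Fintype.card_fin, hodd.neg_one_pow] at h3
    exact (mul_eq_zero.1 (by linear_combination h3 : (2 : F) * T.det = 0)).resolve_left h2
  obtain ⟨x, hx0, hx⟩ := Matrix.exists_mulVec_eq_zero_iff.2 hdet
  refine ⟨∑ j, x j • κ j, fun e => hx0 (funext fun i =>
    Fintype.linearIndependent_iff.1 κ.linearIndependent x e i), eq_zero_of_basis κ fun i => ?_⟩
  have h3 := congrFun hx i
  simp only [Matrix.mulVec, dotProduct, hT, Matrix.of_apply, Pi.zero_apply] at h3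
  rw [map_sum, Finset.mul_sum, map_sum, ← h3]
  exact Finset.sum_congr rfl fun j _ => by rw [map_smul, mul_smul_comm, map_smul, smul_eq_mul, mul_comm]

/-- A unipotent automorphism of small class is trivial. -/
theorem aut_eq_one (hr : (finrank F E).Prime) (σ : E ≃ₐ[F] E) {m : ℕ} (hm : m < finrank F E)
    (hN : ∀ x, ((σ.toAlgHom.toLinearMap - LinearMap.id : E →ₗ[F] E) ^ m) x = 0) : σ = AlgEquiv.refl := by
  haveI := finiteE (F := F) (E := E)
  haveI := Subalgebra.isSimpleOrder_of_finrank_prime F E hr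
  rcases IsSimpleOrder.eq_bot_or_eq_top (AlgHom.equalizer σ.toAlgHom (AlgHom.id F E)) with hb | ht
  swap
  · refine AlgEquiv.ext fun x => ?_
    have hx : x ∈ AlgHom.equalizer σ.toAlgHom (AlgHom.id F E) := ht ▸ Algebra.mem_top
    exact hx
  obtain ⟨N, hNdef⟩ : ∃ N : E →ₗ[F] E, N = σ.toAlgHom.toLinearMap - LinearMap.id := ⟨_, rfl⟩
  rw [← hNdef] at hN
  have hker : finrank F (LinearMap.ker N) ≤ 1 := by
    refine (Submodule.finrank_mono (t := Submodule.span F {(1 : E)}) fun x hx => ?_).trans ?_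
    · have hx' : x ∈ AlgHom.equalizer σ.toAlgHom (AlgHom.id F E) := by
        rw [hNdef, LinearMap.mem_ker, LinearMap.sub_apply, sub_eq_zero] at hx
        exact hx
      rw [hb, Algebra.mem_bot] at hx'
      obtain ⟨a, rfl⟩ := hx'
      exact Submodule.mem_span_singleton.2 ⟨a, (Algebra.algebraMap_eq_smul_one a).symm⟩
    · exact (finrank_span_singleton (one_ne_zero (α := E))).le
  have hind : ∀ j, finrank F (LinearMap.ker (N ^ j)) ≤ j := fun j => by
    induction j with
    | zero => rw [pow_zero, Module.End.one_eq_id, LinearMap.ker_id, finrank_bot]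
    | succ j ih =>
      have h1 := LinearMap.finrank_range_add_finrank_ker (N.domRestrict (LinearMap.ker (N ^ (j + 1))))
      have h2 : finrank F (LinearMap.range (N.domRestrict (LinearMap.ker (N ^ (j + 1))))) ≤
          finrank F (LinearMap.ker (N ^ j)) := Submodule.finrank_mono (by
        rintro _ ⟨⟨x, hx⟩, rfl⟩
        rw [LinearMap.mem_ker, pow_succ] at hx
        exact hx)
      have h3 : finrank F (LinearMap.ker (N.domRestrict (LinearMap.ker (N ^ (j + 1))))) ≤
          finrank F (LinearMap.ker N) := by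
        refine LinearMap.finrank_le_finrank_of_injective (f :=
          ((LinearMap.ker (N ^ (j + 1))).subtype.comp
            (LinearMap.ker (N.domRestrict (LinearMap.ker (N ^ (j + 1))))).subtype).codRestrict (LinearMap.ker N)
              fun x => x.2) fun a b e => ?_
        exact Subtype.ext (Subtype.ext (congrArg (fun z : LinearMap.ker N => (z : E)) e))
      omega
  have := hind m
  rw [LinearMap.ker_eq_top.2 (LinearMap.ext hN), finrank_top] at this
  omega

/-- The scalars carrying a line into a line. -/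
def meet (g : GL ι F) (b c : ι → F) : Submodule F E :=
  ((Submodule.span E {c}).restrictScalars F).comap ((Matrix.toLin' (g : Matrix ι ι F)).comp (lineMap F b))

theorem mem_meet {g : GL ι F} {b c : V} {k : E} :
    k ∈ (meet g b c : Submodule F E) ↔ ∃ s : E, s • c = (g : Mn) *ᵥ (k • b) := by
  show (Matrix.toLin' (g : Mn)).comp (lineMap F b) k ∈ (Submodule.span E {c}).restrictScalars F ↔ _
  rw [Submodule.restrictScalars_mem, LinearMap.comp_apply, Matrix.toLin'_apply, lineMap_apply,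
    Submodule.mem_span_singleton]

/-- A line meets a line properly. -/
structure Triple (h : (ι → F) → (ι → F) → E) (M : Subgroup (GL ι F)) (g : GL ι F) (b c : ι → F) : Prop where
  mem : g ∈ M
  b0 : b ≠ 0
  bb : h b b = 0
  c0 : c ≠ 0
  cc : h c c = 0
  some : ∃ k : E, k ≠ 0 ∧ k ∈ (meet g b c : Submodule F E)
  notAll : ∃ k : E, k ∉ (meet g b c : Submodule F E)

/-- No line has the full radical. -/
def NoWin (h : (ι → F) → (ι → F) → E) (M : Subgroup (GL ι F)) : Prop :=
  ∀ u, u ≠ 0 → h u u = 0 → ¬ Win h M u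

namespace OF

variable {h : (ι → F) → (ι → F) → E} {M : Subgroup (GL ι F)} (O : OF Q h M)
  (hr : (finrank F E).Prime) (hNW : NoWin h M)
include O hr hNW

theorem left_mul {u : V} (hu0 : u ≠ 0) (hu : h u u = 0) (a : E) {φ : V →ₗ[F] E} (hφ : Rt h M u φ) :
    Rt h M u ((LinearMap.mulLeft F a).comp φ) := by
  have H := O.form
  obtain ⟨v, hv, huv⟩ := H.exists_pair O.two hu0 hu
  have hsq : ∀ μ : E, Rt h M u ((LinearMap.mulLeft F (μ * μ)).comp φ) := fun μ => by
    rcases eq_or_ne μ 0 with rfl | hμ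
    · exact O.rt_congr hu (O.rt_zero u) fun x _ => by simp
    obtain ⟨h0, g, hg, hgx⟩ := hφ
    obtain ⟨t, ht, htx⟩ := O.torus_mem hu hv huv hμ
    refine ⟨fun k => by simp [h0], t * g * t⁻¹, mul_mem (mul_mem ht hg) (inv_mem ht), fun x hx => ?_⟩
    obtain ⟨y, rfl⟩ : ∃ y, (t : Mn) *ᵥ y = x := ⟨_, mulVec_inv_cancel t x⟩
    rw [Units.val_mul, Units.val_mul, ← Matrix.mulVec_mulVec, ← Matrix.mulVec_mulVec, inv_mulVec_cancel]
    have hy : h u y = 0 := by
      rw [htx, H.torus_apply, H.add_right, H.add_right, H.smul_right, H.smul_right, hu, huv, mul_zero, add_zero,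
        mul_one] at hx
      have : (μ * μ)⁻¹ * h u y = 0 := by linear_combination hx
      exact (mul_eq_zero.1 this).resolve_left (inv_ne_zero (mul_ne_zero hμ hμ))
    rw [hgx y hy, htx, map_add, map_smul, htx, LinearMap.comp_apply, LinearMap.mulLeft_apply,
      show φ (H.torus u v (μ * μ) y) = φ y by simp [H.torus_apply, hy, h0]]
    conv_lhs => rw [show H.torus u v (μ * μ) u = (μ * μ) • u by
      rw [H.torus_apply, hu, H.symm u v, huv]; module]
    rw [smul_smul, mul_comm (μ * μ)]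
  have hE := H.two_ne O.two
  obtain ⟨p, hp⟩ : ∃ p, p = (a + 1) / 2 := ⟨_, rfl⟩
  obtain ⟨q, hq⟩ : ∃ q, q = (a - 1) / 2 := ⟨_, rfl⟩
  refine O.rt_congr hu (O.rt_add hu (hsq p) (O.rt_neg hu (hsq q))) fun x _ => ?_
  simp only [LinearMap.add_apply, LinearMap.neg_apply, LinearMap.comp_apply, LinearMap.mulLeft_apply, hp, hq]
  field_simp
  ring

/-- A line going to a line goes semilinearly. -/
theorem line_semi {g : GL ι F} (hg : g ∈ M) {b c : V} (hb0 : b ≠ 0) (hb : h b b = 0) (hc0 : c ≠ 0)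
    (hc : h c c = 0) (hall : ∀ k, k ∈ (meet g b c : Submodule F E)) :
    ∃ σ : E ≃ₐ[F] E, ∀ k : E, (g : Mn) *ᵥ (k • b) = σ k • ((g : Mn) *ᵥ b) := by
  classical
  have H := O.form
  obtain ⟨b', hb', hbb⟩ := H.exists_pair O.two hb0 hb
  obtain ⟨c', hc', hcc⟩ := H.exists_pair O.two hc0 hc
  obtain ⟨G, hGdef⟩ : ∃ G : E →ₗ[F] E,
      G = ((H.func c').restrictScalars F).comp ((Matrix.toLin' (g : Mn)).comp (lineMap F b)) := ⟨_, rfl⟩
  have hG : ∀ k, (g : Mn) *ᵥ (k • b) = G k • c := fun k => by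
    obtain ⟨s, hs⟩ := mem_meet.1 (hall k)
    rw [hGdef, LinearMap.comp_apply, LinearMap.comp_apply, lineMap_apply, Matrix.toLin'_apply,
      LinearMap.restrictScalars_apply, HForm.func_apply, ← hs, H.smul_right, H.symm c c', hcc, mul_one]
  have hGi : Function.Injective G := fun k l e => smul_left_injective E hb0 (gl_mulVec_injective g (by
    show (g : Mn) *ᵥ _ = (g : Mn) *ᵥ _
    rw [hG, hG, e]))
  haveI := finiteE (F := F) (E := E)
  let Ge : E ≃ₗ[F] E := LinearEquiv.ofInjectiveEndo G hGi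
  have hGe : ∀ k, Ge k = G k := fun k => rfl
  have hperp : ∀ y, h c ((g : Mn) *ᵥ y) = 0 → h b y = 0 := fun y hy => trace_ext (F := F) fun k => by
    rw [mul_zero, map_zero, ← H.spec, ← isometry_polar (O.iso g hg), hG, H.spec, hy, mul_zero, map_zero]
  have hρ : ∀ μ : E, μ ≠ 0 → ∀ k, G (μ * μ * k) * G 1 = G (μ * μ) * G k := by
    intro μ hμ
    obtain ⟨G', hG'⟩ : ∃ G' : E →ₗ[F] E,
        G' = G.comp ((LinearMap.mulLeft F (μ * μ)).comp Ge.symm.toLinearMap) := ⟨_, rfl⟩
    have hG'G : ∀ k, G' (G k) = G (μ * μ * k) := fun k => by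
      rw [hG', LinearMap.comp_apply, LinearMap.comp_apply, ← hGe k, LinearEquiv.coe_coe, Ge.symm_apply_apply,
        LinearMap.mulLeft_apply]
    by_cases hmul : ∃ ρ, G' = LinearMap.mulLeft F ρ
    · obtain ⟨ρ, hρ⟩ := hmul
      intro k
      have e1 := hG'G k
      have e2 := hG'G 1
      rw [hρ, LinearMap.mulLeft_apply] at e1 e2
      rw [mul_one] at e2
      rw [← e1, ← e2]
      ring
    push Not at hmul
    exfalso
    refine hNW c hc0 hc (O.win_of_left hc hc' hcc fun w hwc hwc' A => ?_)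
    obtain ⟨t, ht, htx⟩ := O.torus_mem hb hb' hbb hμ
    have hLG : ∀ φ, Rt h M c φ → Rt h M c (G'.comp φ) := fun φ hφ => by
      obtain ⟨h0, g₀, hg₀, hgx⟩ := hφ
      obtain ⟨m, hm⟩ : ∃ m, m = g * t * g⁻¹ := ⟨_, rfl⟩
      have hmM : m ∈ M := hm ▸ mul_mem (mul_mem hg ht) (inv_mem hg)
      have hmg : ∀ y, (m : Mn) *ᵥ ((g : Mn) *ᵥ y) = (g : Mn) *ᵥ H.torus b b' (μ * μ) y := fun y => by
        rw [hm, Units.val_mul, Units.val_mul, ← Matrix.mulVec_mulVec, ← Matrix.mulVec_mulVec, inv_mulVec_cancel, htx]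
      have hmc : ∀ k, (m : Mn) *ᵥ (k • c) = G' k • c := fun k => by
        obtain ⟨l, rfl⟩ : ∃ l, G l = k := ⟨Ge.symm k, by rw [← hGe, Ge.apply_symm_apply]⟩
        rw [← hG, hmg, hG'G, ← hG, H.torus_apply, H.smul_right, H.smul_right, hb, H.symm b b', hbb]
        congr 1
        module
      refine ⟨fun k => by simp [h0], m * g₀ * m⁻¹, mul_mem (mul_mem hmM hg₀) (inv_mem hmM), fun x hx => ?_⟩
      obtain ⟨x₀, rfl⟩ : ∃ x₀, (m : Mn) *ᵥ x₀ = x := ⟨_, mulVec_inv_cancel m x⟩
      have hx₀ : h c x₀ = 0 := trace_ext (F := F) fun k => by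
        rw [mul_zero, map_zero, ← H.spec, ← isometry_polar (O.iso m hmM), hmc, H.spec, hx, mul_zero, map_zero]
      have hdiff : ∃ s : E, (m : Mn) *ᵥ x₀ = x₀ + s • c := by
        obtain ⟨y, rfl⟩ : ∃ y, (g : Mn) *ᵥ y = x₀ := ⟨_, mulVec_inv_cancel g x₀⟩
        refine ⟨G ((μ * μ - 1) * h b' y), ?_⟩
        rw [hmg, H.torus_apply, hperp y hx₀, mul_zero, zero_smul, add_zero, Matrix.mulVec_add, hG]
      obtain ⟨s, hs⟩ := hdiff
      rw [Units.val_mul, Units.val_mul, ← Matrix.mulVec_mulVec, ← Matrix.mulVec_mulVec, inv_mulVec_cancel,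
        hgx x₀ hx₀, Matrix.mulVec_add, hmc, LinearMap.comp_apply,
        show φ ((m : Mn) *ᵥ x₀) = φ x₀ by rw [hs, map_add, h0, add_zero]]
    have htop : ∀ φ, Rt h M c φ → Rt h M c (A.comp φ) := by
      refine generated_top hr (fun S : E →ₗ[F] E => ∀ φ, Rt h M c φ → Rt h M c (S.comp φ))
        (fun S T hS hT φ hφ => ?_) (fun S T hS hT φ hφ => ?_) (fun a φ hφ => O.left_mul hr hNW hc0 hc a hφ)
        hLG hmul A
      · rw [LinearMap.add_comp]; exact O.rt_add hc (hS φ hφ) (hT φ hφ)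
      · rw [LinearMap.comp_assoc]; exact hS _ (hT φ hφ)
    refine O.rt_congr hc (O.rt_neg hc (htop _ (O.rt_siegel hc hwc))) fun x _ => ?_
    simp
  have h10 : G 1 ≠ 0 := fun e => one_ne_zero (hGi (e.trans (map_zero G).symm))
  obtain ⟨σ₀, hσ₀⟩ : ∃ σ₀ : E →ₗ[F] E, σ₀ = (LinearMap.mulLeft F (G 1)⁻¹).comp G := ⟨_, rfl⟩
  have hσ0 : ∀ k, σ₀ k = (G 1)⁻¹ * G k := fun k => by rw [hσ₀]; rfl
  have hmul : ∀ a k, σ₀ (a * k) = σ₀ a * σ₀ k := fun a k => by
    have hsq : ∀ μ k, σ₀ (μ * μ * k) = σ₀ (μ * μ) * σ₀ k := fun μ k => by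
      rcases eq_or_ne μ 0 with rfl | hμ
      · simp
      · rw [hσ0, hσ0, hσ0]
        field_simp
        simp only [pow_two] at *
        linear_combination hρ μ hμ k
    have hE := H.two_ne O.two
    obtain ⟨p, q, rfl⟩ : ∃ p q : E, a = p * p - q * q := ⟨(a + 1) / 2, (a - 1) / 2, by field_simp; ring⟩
    rw [sub_mul, map_sub, map_sub, hsq, hsq, sub_mul]
  have hinj : Function.Injective σ₀ := fun k l e => by
    rw [hσ0, hσ0] at e
    exact hGi (mul_left_cancel₀ (inv_ne_zero h10) e)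
  let σ : E ≃ₐ[F] E := AlgEquiv.ofLinearEquiv (LinearEquiv.ofInjectiveEndo σ₀ hinj)
    (by show σ₀ 1 = 1; rw [hσ0, inv_mul_cancel₀ h10]) hmul
  refine ⟨σ, fun k => ?_⟩
  show _ = σ₀ k • _
  have e1 := hG 1
  rw [one_smul] at e1
  rw [hG, e1, hσ0, smul_smul]
  congr 1
  field_simp

/-- In degree two there is an involutory automorphism, and a skew map is a trace-zero multiple of it. -/
theorem exists_twist (h2 : finrank F E = 2) :
    ∃ θ : E ≃ₐ[F] E, (∀ x, θ (θ x) = x) ∧ (∃ κ, κ ≠ 0 ∧ θ κ = -κ) ∧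
      LinearIndependent E ![(LinearMap.id : E →ₗ[F] E), θ.toAlgHom.toLinearMap] ∧
      ∀ A : E →ₗ[F] E, (∀ k, τ (k * A k) = 0) → ∃ e, θ e = -e ∧ ∀ k, A k = e * θ k := by
  classical
  haveI := finiteE (F := F) (E := E)
  have hc2 : Nat.card (E ≃ₐ[F] E) = 2 := by rw [IsGalois.card_aut_eq_finrank F E, h2]
  obtain ⟨θ, hθ⟩ : ∃ θ : E ≃ₐ[F] E, θ ≠ 1 := by
    by_contra hcon
    push Not at hcon
    have : Subsingleton (E ≃ₐ[F] E) := ⟨fun a b => by rw [hcon a, hcon b]⟩
    rw [Nat.card_eq_one_iff_unique.2 ⟨this, ⟨1⟩⟩] at hc2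
    omega
  have hθ2 : ∀ x, θ (θ x) = x := fun x => by
    have h := pow_card_eq_one' (x := θ)
    rw [hc2, pow_two] at h
    exact AlgEquiv.congr_fun h x
  have hE := O.form.two_ne O.two
  obtain ⟨x₀, hx₀⟩ : ∃ x, θ x ≠ x := by
    by_contra hcon
    push Not at hcon
    exact hθ (AlgEquiv.ext hcon)
  obtain ⟨κ, hκ⟩ : ∃ κ, κ = x₀ - θ x₀ := ⟨_, rfl⟩
  have hκ0 : κ ≠ 0 := by rw [hκ]; exact sub_ne_zero.2 (Ne.symm hx₀)
  have hθκ : θ κ = -κ := by rw [hκ, map_sub, hθ2]; ring
  have hli : LinearIndependent E ![(LinearMap.id : E →ₗ[F] E), θ.toAlgHom.toLinearMap] := by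
    refine (LinearIndependent.pair_iff' (fun e => one_ne_zero (LinearMap.congr_fun e 1 : (1 : E) = 0))).2
      fun a e => hθ (AlgEquiv.ext fun x => ?_)
    have h1 : a * 1 = θ 1 := LinearMap.congr_fun e 1
    have h2 : a * x = θ x := LinearMap.congr_fun e x
    rw [mul_one, map_one] at h1
    rw [h1, one_mul] at h2
    exact h2.symm
  refine ⟨θ, hθ2, ⟨κ, hκ0, hθκ⟩, hli, fun A hA => ?_⟩
  have hspan := hli.span_eq_top_of_card_eq_finrank (by rw [Fintype.card_fin, Module.finrank_linearMap_self, h2])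
  obtain ⟨c, hc⟩ := (Submodule.mem_span_range_iff_exists_fun E).1 (hspan ▸ Submodule.mem_top (x := A))
  have hAk : ∀ k, A k = c 0 * k + c 1 * θ k := fun k => by rw [← hc]; simp [Fin.sum_univ_two]
  have htr : ∀ x : E, algebraMap F E (τ x) = x + θ x := fun x => by
    rw [trace_eq_sum_automorphisms]
    have huniv : (Finset.univ : Finset (E ≃ₐ[F] E)) = {1, θ} := by
      refine (Finset.eq_univ_of_card _ ?_).symm
      rw [Finset.card_pair (Ne.symm hθ), ← Nat.card_eq_fintype_card, hc2]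
    rw [huniv, Finset.sum_pair (Ne.symm hθ)]
    rfl
  have hk : ∀ k, c 0 * k * k + θ (c 0) * θ k * θ k + (c 1 + θ (c 1)) * k * θ k = 0 := fun k => by
    have h := htr (k * A k)
    rw [hA, map_zero, hAk, map_mul, map_add, map_mul, map_mul, hθ2] at h
    linear_combination -h
  have e1 := hk 1
  have e2 := hk κ
  have e3 := hk (1 + κ)
  rw [map_one] at e1
  rw [hθκ] at e2
  rw [map_add, map_one, hθκ] at e3
  have e4 : c 0 + θ (c 0) - (c 1 + θ (c 1)) = 0 :=
    (mul_eq_zero.1 (by linear_combination e2 : κ * κ * (c 0 + θ (c 0) - (c 1 + θ (c 1))) = 0)).resolve_left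
      (mul_ne_zero hκ0 hκ0)
  have e5 : c 0 + θ (c 0) = 0 :=
    (mul_eq_zero.1 (by linear_combination e1 + e4 : 2 * (c 0 + θ (c 0)) = 0)).resolve_left hE
  have e6 : c 0 - θ (c 0) = 0 :=
    (mul_eq_zero.1 (by linear_combination e3 - e1 - e2 : 2 * κ * (c 0 - θ (c 0)) = 0)).resolve_left
      (mul_ne_zero hE hκ0)
  have e7 : c 0 = 0 :=
    (mul_eq_zero.1 (by linear_combination e5 + e6 : 2 * c 0 = 0)).resolve_left hE
  refine ⟨c 1, ?_, fun k => by rw [hAk, e7, zero_mul, zero_add]⟩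
  linear_combination e1 - e5

/-- The complement of a pair takes every value. -/
theorem exists_value_W0 (h4 : 4 ≤ finrank E (ι → F)) {u v : V} (hu : h u u = 0) (hv : h v v = 0) (huv : h u v = 1)
    {t : E} (ht : t ≠ 0) : ∃ w, h u w = 0 ∧ h v w = 0 ∧ h w w = t := by
  classical
  have H := O.form
  have hE := H.two_ne O.two
  haveI : Module.Finite E (ι → F) := Module.Finite.of_restrictScalars_finite F E _
  obtain ⟨y, hyu, hyv, hy⟩ := H.exists_aniso_W0 O.two (by omega) hu hv huv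
  obtain ⟨z, hzu, hzv, hzy, hz⟩ : ∃ z, h u z = 0 ∧ h v z = 0 ∧ h y z = 0 ∧ h z z ≠ 0 := by
    by_contra hcon
    push Not at hcon
    have k1 := finrank_ker_inf (⊤ : Submodule E V) (H.func u)
    have k2 := finrank_ker_inf (⊤ ⊓ LinearMap.ker (H.func u)) (H.func v)
    have k3 := finrank_ker_inf (⊤ ⊓ LinearMap.ker (H.func u) ⊓ LinearMap.ker (H.func v)) (H.func y)
    rw [top_inf_eq] at k1 k2 k3
    rw [finrank_top] at k1
    obtain ⟨z, ⟨⟨hzu, hzv⟩, hzy⟩, hz0⟩ := Submodule.exists_mem_ne_zero_of_ne_bot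
      (p := LinearMap.ker (H.func u) ⊓ LinearMap.ker (H.func v) ⊓ LinearMap.ker (H.func y)) fun e => by
        rw [e, finrank_bot] at k3
        omega
    replace hzu : h u z = 0 := hzu
    replace hzv : h v z = 0 := hzv
    replace hzy : h y z = 0 := hzy
    refine hz0 (H.eq_zero fun x => ?_)
    obtain ⟨e1, e2⟩ := H.proj_perp hu hv huv x
    obtain ⟨p, hp⟩ : ∃ p, p = H.proj u v x - (h y (H.proj u v x) / h y y) • y := ⟨_, rfl⟩
    have hpu : h u p = 0 := by rw [hp, H.sub_right, H.smul_right, e1, hyu]; ring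
    have hpv : h v p = 0 := by rw [hp, H.sub_right, H.smul_right, e2, hyv]; ring
    have hpy : h y p = 0 := by rw [hp, H.sub_right, H.smul_right]; field_simp; ring
    have h3 := hcon (p + z) (by rw [H.add_right, hpu, hzu, add_zero]) (by rw [H.add_right, hpv, hzv, add_zero])
      (by rw [H.add_right, hpy, hzy, add_zero])
    rw [H.add_left, H.add_right, H.add_right, hcon p hpu hpv hpy, hcon z hzu hzv hzy, H.symm p z, zero_add,
      add_zero] at h3
    have h4' : h p z = 0 := (mul_eq_zero.1 (by linear_combination h3 : (2 : E) * h p z = 0)).resolve_left hE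
    rw [hp, HForm.proj_apply] at h4'
    simp only [H.sub_left, H.smul_left, hzu, hzv, hzy, mul_zero, sub_zero] at h4'
    exact h4'
  have hE2 : ringChar E ≠ 2 := fun hc => hE (by haveI := ringChar.of_eq hc; exact CharTwo.two_eq_zero)
  obtain ⟨a, b, hab⟩ := FiniteField.exists_root_sum_quadratic (R := E)
    (f := Polynomial.C (h y y) * Polynomial.X ^ 2) (g := Polynomial.C (h z z) * Polynomial.X ^ 2 - Polynomial.C t)
    (by rw [Polynomial.degree_C_mul_X_pow 2 hy]; rfl)
    (by rw [Polynomial.degree_sub_C (by rw [Polynomial.degree_C_mul_X_pow 2 hz]; norm_num),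
      Polynomial.degree_C_mul_X_pow 2 hz]; rfl)
    (FiniteField.odd_card_of_char_ne_two hE2)
  simp only [Polynomial.eval_sub, Polynomial.eval_mul, Polynomial.eval_pow, Polynomial.eval_X, Polynomial.eval_C]
    at hab
  refine ⟨a • y + b • z, ?_, ?_, ?_⟩
  · rw [H.add_right, H.smul_right, H.smul_right, hyu, hzu]; ring
  · rw [H.add_right, H.smul_right, H.smul_right, hyv, hzv]; ring
  · simp only [H.add_left, H.add_right, H.smul_left, H.smul_right, hzy, H.symm y z]
    linear_combination hab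

/-- The element exchanging the lines of a pair. -/
theorem weyl_mem {u v w : V} (hu : h u u = 0) (hv : h v v = 0) (huv : h u v = 1) (hwu : h u w = 0)
    (hwv : h v w = 0) {η : E} (hw : h w w = 2 * η) (hη : η ≠ 0) :
    ∃ L : V →ₗ[E] V, (∀ x, h (L x) (L x) = h x x) ∧ (∃ m ∈ M, ∀ x, (m : Mn) *ᵥ x = L x) ∧
      L u = (-η) • v ∧ L v = (-η⁻¹) • u ∧
      ∀ y, h u y = 0 → h v y = 0 → L y = y - (η⁻¹ * h w y) • w := by
  have H := O.form
  have hE := H.two_ne O.two
  have hwu' : h u (η⁻¹ • w) = 0 := by rw [H.smul_right, hwu, mul_zero]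
  obtain ⟨m₁, hm₁, hmx₁⟩ := O.siegel_mem hv hwv
  obtain ⟨m₂, hm₂, hmx₂⟩ := O.siegel_mem hu hwu'
  refine ⟨(H.siegel v w).comp ((H.siegel u (η⁻¹ • w)).comp (H.siegel v w)), fun x => ?_,
    ⟨m₁ * (m₂ * m₁), mul_mem hm₁ (mul_mem hm₂ hm₁), fun x => ?_⟩, ?_, ?_, fun y hyu hyv => ?_⟩
  · simp only [LinearMap.comp_apply]
    rw [H.siegel_iso O.two hv hwv, H.siegel_iso O.two hu hwu', H.siegel_iso O.two hv hwv]
  · rw [Units.val_mul, Units.val_mul, ← Matrix.mulVec_mulVec, ← Matrix.mulVec_mulVec, hmx₁, hmx₂, hmx₁]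
    rfl
  all_goals
    simp only [LinearMap.comp_apply, HForm.siegel_apply, H.add_right, H.sub_right, H.smul_right, H.smul_left, hu, hv,
      huv, H.symm u v, hwu, hwv, H.symm u w, H.symm v w, hw]
  · match_scalars <;> field_simp <;> ring
  · match_scalars <;> field_simp <;> ring
  · simp only [hyu, hyv]
    match_scalars <;> field_simp <;> ring

/-- No nontrivial element fixes the vectors perpendicular to a singular vector. -/
theorem zt_zero (hd : finrank F E = 2 → 4 ≤ finrank E (ι → F))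
    (hno : ∀ g b c, ¬ Triple h M g b c) {u : V} (hu0 : u ≠ 0) (hu : h u u = 0) {A : E →ₗ[F] E}
    (hA : Zt h M u A) : A = 0 := by
  classical
  have H := O.form
  haveI := finiteE (F := F) (E := E)
  obtain ⟨v, hv, huv⟩ := H.exists_pair O.two hu0 hu
  have hsk := O.zt_skew hu huv hA
  rcases hr.eq_two_or_odd' with h2 | hodd
  · by_contra hA0
    have hE := H.two_ne O.two
    obtain ⟨θ, hθ2, -, hli, hskew⟩ := O.exists_twist hr hNW h2
    obtain ⟨e, hθe, hAe⟩ := hskew A hsk
    have he : e ≠ 0 := fun h0 => hA0 (LinearMap.ext fun k => by rw [hAe, h0, zero_mul, LinearMap.zero_apply])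
    obtain ⟨w, hwu, hwv, hww⟩ := O.exists_value_W0 hr hNW (hd h2) hu hv huv (t := 2 * e⁻¹)
      (mul_ne_zero hE (inv_ne_zero he))
    obtain ⟨L, hL, ⟨m, hm, hmx⟩, hLu, -, -⟩ := O.weyl_mem hr hNW hu hv huv hwu hwv hww (inv_ne_zero he)
    have hB := O.zt_map hm hL hmx hA
    rw [hLu] at hB
    obtain ⟨g₁, hg₁, hgx₁⟩ := hB
    obtain ⟨g, hg, hgx⟩ := hA
    have hgi : ∀ x, ((g⁻¹ : GL ι F) : Mn) *ᵥ x = x - (e * θ (h u x)) • u := fun x => gl_mulVec_injective g (by
      show (g : Mn) *ᵥ _ = (g : Mn) *ᵥ _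
      rw [mulVec_inv_cancel, hgx, H.sub_right, H.smul_right, hu, mul_zero, sub_zero, hAe, sub_add_cancel])
    obtain ⟨P, hP⟩ : ∃ P, P = g⁻¹ * g₁ * g⁻¹ := ⟨_, rfl⟩
    have hPM : P ∈ M := hP ▸ mul_mem (mul_mem (inv_mem hg) hg₁) (inv_mem hg)
    have hPx : ∀ (s : E) y, h u y = 0 → h v y = 0 → (P : Mn) *ᵥ (s • v + y) = (-(e * θ s)) • u + y := by
      intro s y hyu hyv
      have k1 : ((g⁻¹ : GL ι F) : Mn) *ᵥ (s • v + y) = s • v + y - (e * θ s) • u := by
        rw [hgi, H.add_right, H.smul_right, huv, hyu, mul_one, add_zero]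
      have k2 : (g₁ : Mn) *ᵥ (s • v + y - (e * θ s) • u) = y - (e * θ s) • u := by
        rw [hgx₁, hAe]
        simp only [H.smul_left, H.sub_right, H.add_right, H.smul_right, hv, H.symm u v, huv, hyv, mul_zero, mul_one,
          add_zero, zero_sub, map_mul, map_neg, map_inv₀, hθe, hθ2]
        match_scalars <;> field_simp <;> ring
      have k3 : ((g⁻¹ : GL ι F) : Mn) *ᵥ (y - (e * θ s) • u) = y - (e * θ s) • u := by
        rw [hgi, H.sub_right, H.smul_right, hu, hyu, mul_zero, sub_zero, map_zero, mul_zero, zero_smul, sub_zero]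
      rw [hP, Units.val_mul, Units.val_mul, ← Matrix.mulVec_mulVec, ← Matrix.mulVec_mulVec, k1, k2, k3]
      module
    refine hNW u hu0 hu (O.win_of_left hu hv huv fun w₁ hw₁u hw₁v T => ?_)
    have hR : Rt h M u (((LinearMap.mulLeft F e).comp θ.toAlgHom.toLinearMap).comp
        ((H.func w₁).restrictScalars F)) := by
      obtain ⟨S, hS, hSx⟩ := O.siegel_mem hv hw₁v
      refine ⟨fun k => by simp [HForm.func_apply, H.smul_right, H.symm u w₁, hw₁u], P * S * P⁻¹,
        mul_mem (mul_mem hPM hS) (inv_mem hPM), fun x hx => ?_⟩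
      obtain ⟨y, hy⟩ : ∃ y, y = x - h v x • u := ⟨_, rfl⟩
      have hyu : h u y = 0 := by rw [hy, H.sub_right, H.smul_right, hx, hu, mul_zero, sub_zero]
      have hyv : h v y = 0 := by rw [hy, H.sub_right, H.smul_right, H.symm u v, huv, mul_one, sub_self]
      have hxy : x = h v x • u + y := by rw [hy]; abel
      have hwx : h w₁ x = h w₁ y := by
        rw [hy, H.sub_right, H.smul_right, H.symm u w₁, hw₁u, mul_zero, sub_zero]
      have hinv : ((P⁻¹ : GL ι F) : Mn) *ᵥ x = (θ (h v x) * e⁻¹) • v + y := gl_mulVec_injective P (by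
        show (P : Mn) *ᵥ _ = (P : Mn) *ᵥ _
        rw [mulVec_inv_cancel, hPx _ y hyu hyv, map_mul, map_inv₀, hθe, hθ2]
        conv_lhs => rw [hxy]
        congr 2
        field_simp)
      rw [Units.val_mul, Units.val_mul, ← Matrix.mulVec_mulVec, ← Matrix.mulVec_mulVec, hinv, hSx,
        H.siegel_apply_perp (by rw [H.add_right, H.smul_right, hv, hyv, mul_zero, add_zero]), H.add_right,
        H.smul_right, H.symm v w₁, hw₁v, mul_zero, zero_add,
        show (θ (h v x) * e⁻¹) • v + y + (-h w₁ y) • v = (θ (h v x) * e⁻¹ - h w₁ y) • v + y by module,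
        hPx _ y hyu hyv]
      conv_rhs => rw [hxy]
      simp only [LinearMap.comp_apply, LinearMap.restrictScalars_apply, HForm.func_apply, LinearMap.mulLeft_apply,
        AlgHom.toLinearMap_apply, AlgEquiv.coe_toAlgHom, ← hxy, hwx, map_sub, map_mul,
        map_inv₀, hθe, hθ2]
      conv_rhs => rw [hxy]
      match_scalars <;> field_simp <;> ring
    have hone : Rt h M u (((LinearMap.id : E →ₗ[F] E)).comp ((H.func w₁).restrictScalars F)) := by
      refine O.rt_congr hu (O.rt_neg hu (O.rt_siegel hu hw₁u)) fun z _ => ?_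
      simp
    have hspan := hli.span_eq_top_of_card_eq_finrank (by rw [Fintype.card_fin, Module.finrank_linearMap_self, h2])
    obtain ⟨c, hc⟩ := (Submodule.mem_span_range_iff_exists_fun E).1 (hspan ▸ Submodule.mem_top (x := T))
    refine O.rt_congr hu (O.rt_add hu (O.left_mul hr hNW hu0 hu (c 0) hone)
      (O.left_mul hr hNW hu0 hu (c 1 * e⁻¹) hR)) fun z _ => ?_
    rw [← hc]
    simp [Fin.sum_univ_two]
    field_simp
    exact Or.inl trivial
  · obtain ⟨g, hg, hgx⟩ := hA
    obtain ⟨k₀, hk₀, hAk⟩ := exists_ker_of_skew O.two hodd A hsk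
    have key : ∀ k : E, k ∈ (meet g v v : Submodule F E) ↔ A k = 0 := fun k => by
      rw [mem_meet, hgx, H.smul_right, huv, mul_one]
      constructor
      · rintro ⟨s, hs⟩
        have := congrArg (h v) hs
        rw [H.add_right, H.smul_right, H.smul_right, H.smul_right, hv, H.symm u v, huv] at this
        linear_combination -this
      · exact fun e => ⟨k, by rw [e, zero_smul, add_zero]⟩
    by_contra hA0
    exact hno g v v ⟨hg, fun e => by rw [e, H.zero_right] at huv; exact zero_ne_one huv, hv,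
      fun e => by rw [e, H.zero_right] at huv; exact zero_ne_one huv, hv, ⟨k₀, hk₀, (key k₀).2 hAk⟩,
      by
        by_contra hc
        push Not at hc
        exact hA0 (LinearMap.ext fun k => (key k).1 (hc k))⟩

/-- Every element at a singular vector is linear, if no nontrivial element fixes its perpendicular space. -/
theorem rt_linear_of (hz : ∀ u, u ≠ 0 → h u u = 0 → ∀ A : E →ₗ[F] E, Zt h M u A → A = 0)
    {u : V} (hu0 : u ≠ 0) (hu : h u u = 0) {φ : V →ₗ[F] E} (hφ : Rt h M u φ) {w : V} (hw : h u w = 0) (k : E) :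
    φ (k • w) = k * φ w := by
  have H := O.form
  obtain ⟨v, hv, huv⟩ := H.exists_pair O.two hu0 hu
  have hid : ∀ w, h u w = 0 → ∀ t k : E, τ (t * φ (k • w)) = τ (k * φ (t • w)) := fun w hw t k => by
    obtain ⟨A, hA, hA'⟩ := O.bracket hu huv hw hφ
    have h1 := hA' t k
    rw [hz u hu0 hu A hA, LinearMap.zero_apply, mul_zero, map_zero] at h1
    linear_combination -h1
  refine trace_ext (F := F) fun t => ?_
  have e1 := hid (k • w) (by rw [H.smul_right, hw, mul_zero]) t 1
  have e2 := hid w hw 1 (t * k)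
  rw [one_smul] at e1 e2
  rw [one_mul, smul_smul] at e1
  rw [one_mul] at e2
  rw [e1, e2, mul_assoc]

/-- Every element at a singular vector is linear. -/
theorem rt_linear (hd : finrank F E = 2 → 4 ≤ finrank E (ι → F)) (hno : ∀ g b c, ¬ Triple h M g b c)
    {u : V} (hu0 : u ≠ 0) (hu : h u u = 0) {φ : V →ₗ[F] E} (hφ : Rt h M u φ) {w : V} (hw : h u w = 0) (k : E) :
    φ (k • w) = k * φ w :=
  O.rt_linear_of hr hNW (fun _ h0 h1 _ hA => O.zt_zero hr hNW hd hno h0 h1 hA) hu0 hu hφ hw k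

end OF

end Cfsg.Agent.Classical.OrthField
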