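import Cfsg.Agent.Lib.Classical.MaxOrthFieldThreeStab

/-!
Normalisers of extension fields of degree at least five are maximal in orthogonal groups of odd characteristic,
dimension three over the extension: an element which is not semilinear moves every singular vector to a
nonsingular one, and too many images of the singular vectors would be disjoint.
-/

set_option autoImplicit false
set_option linter.unusedSectionVars false
set_option quotPrecheck false
set_option linter.style.haveILetI false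

namespace Cfsg.Agent.Classical.OrthField

open Matrix Module MaxTv OrthAut Overfield

variable {F : Type*} [Field F] [Fintype F] {ι : Type} [Fintype ι] [DecidableEq ι] {Q : QuadraticForm F (ι → F)}
variable {E : Type*} [Field E] [Fintype E] [Algebra F E] [Module E (ι → F)] [IsScalarTower F E (ι → F)]

local notation "V" => (ι → F)
local notation "Mn" => Matrix ι ι F
local notation "B" => QuadraticMap.polar ⇑Q
local notation "τ" => Algebra.trace F E

namespace OF

variable {h : (ι → F) → (ι → F) → E} {M : Subgroup (GL ι F)} (O : OF Q h M)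
  (hr : (finrank F E).Prime) (h5 : 5 ≤ finrank F E) (hd : finrank E (ι → F) = 3)
include O hr h5 hd

/-- No line meets the image of a line in two dimensions. -/
theorem meet_le_one (hNW : NoWin h M) (g : GL ι F) (b c : V) (ht : Triple h M g b c) :
    finrank F (meet g b c : Submodule F E) ≤ 1 := by
  classical
  haveI := finiteE (F := F) (E := E)
  suffices hn : ∀ n g b c, Triple h M g b c → finrank F E ≤ finrank F (meet g b c : Submodule F E) + n →
      finrank F (meet g b c : Submodule F E) ≤ 1 from hn _ g b c ht (Nat.le_add_left _ _)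
  intro n
  induction n with
  | zero =>
    intro g b c ht hle
    obtain ⟨k, hk⟩ := ht.notAll
    exact absurd (Submodule.eq_top_of_finrank_eq (le_antisymm (Submodule.finrank_le _) hle) ▸ Submodule.mem_top) hk
  | succ n ih =>
    intro g b c ht hle
    by_contra hlt
    have hmax : IsMax h M g b c := fun g' b' c' ht' => by
      by_contra hgt
      have := ih g' b' c' ht' (by omega)
      omega
    obtain ⟨i, hi0, hi⟩ := ht.some
    have hspan : Submodule.span F {i} < (meet g b c : Submodule F E) := by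
      refine lt_of_le_of_ne ((Submodule.span_singleton_le_iff_mem _ _).2 hi) fun e => hlt ?_
      rw [← e, finrank_span_singleton hi0]
    obtain ⟨j, hj, hji⟩ := SetLike.exists_of_lt hspan
    have hij : ∀ a : F, a • i ≠ j := fun a e => hji (Submodule.mem_span_singleton.2 ⟨a, e⟩)
    by_cases hlin : ∀ φ, Rt h M c φ → ∀ w, h c w = 0 → ∀ k : E, φ (k • w) = k * φ w
    · exact O.stab_absurd hr hNW (by omega) hd ht hi0 hij hi hj hlin
    · push Not at hlin
      obtain ⟨φ, hφ, w, hw, k, hk⟩ := hlin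
      exact O.root_absurd hr hNW h5 ht hmax hi0 hij hi hj hφ hw hk

omit h5 in
/-- An overgroup with an element which is not semilinear contains `Ω`, given that lines do not meet images of lines
properly and that conjugates of Siegel elements are linear when semilinear. -/
theorem omega_le_of_parts (hr2 : finrank F E ≠ 2) (hT : Tri Q)
    (hparts : NoWin h M → (∀ u, u ≠ 0 → h u u = 0 → ∀ A : E →ₗ[F] E, Zt h M u A → A = 0) ∧
      (∀ g b c, ¬ Triple h M g b c) ∧
      ∀ {g R : GL ι F} {u v w : V}, g ∈ M → R ∈ M → u ≠ 0 → h u u = 0 → h v v = 0 → h u v = 1 → h u w = 0 →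
        h v w = 0 → h w w ≠ 0 → (∀ x, (R : Mn) *ᵥ x = O.form.siegel u w x) → ∀ σ : E ≃ₐ[F] E,
        (∀ (z : V) (k : E), ((g⁻¹ * R * g : GL ι F) : Mn) *ᵥ (k • z) =
          σ k • (((g⁻¹ * R * g : GL ι F) : Mn) *ᵥ z)) → σ = AlgEquiv.refl)
    {g₀ : GL ι F} (hg₀ : g₀ ∈ M)
    (hgn : ¬ ∀ (k : E) (a : V), (g₀ : Mn) *ᵥ (k • a) ∈ (E ∙ ((g₀ : Mn) *ᵥ a))) : Geo.omegaGL ⇑Q ≤ M := by
  classical
  by_contra hM
  have hNW : NoWin h M := fun u hu0 hu hW => hM (O.omega_le_of_win hT hu0 hu hW)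
  obtain ⟨hzt0, hno, htw⟩ := hparts hNW
  have H := O.form
  haveI := finiteE (F := F) (E := E)
  haveI : Module.Finite E (ι → F) := Module.Finite.of_restrictScalars_finite F E _
  have hstart : ∀ g ∈ M, ∀ s, s ≠ 0 → h s s = 0 → h ((g : Mn) *ᵥ s) ((g : Mn) *ᵥ s) = 0 →
      ∃ σ : E ≃ₐ[F] E, ∀ (z : V) (k : E), (g : Mn) *ᵥ (k • z) = σ k • ((g : Mn) *ᵥ z) := by
    intro g hg s hs0 hs hgs
    have hgs0 : (g : Mn) *ᵥ s ≠ 0 := fun e => hs0 (gl_mulVec_injective g (by
      show (g : Mn) *ᵥ _ = (g : Mn) *ᵥ _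
      rw [e, Matrix.mulVec_zero]))
    refine O.semi_all hr hNW (fun e => absurd e hr2) hzt0 hg hs0 hs hgs0 hgs ?_
    by_contra hcon
    push Not at hcon
    exact hno g s _ ⟨hg, hs0, hs, hgs0, hgs, ⟨1, one_ne_zero, mem_meet.2 ⟨1, by rw [one_smul, one_smul]⟩⟩, hcon⟩
  have hbad : ∀ s, s ≠ 0 → h s s = 0 → h ((g₀ : Mn) *ᵥ s) ((g₀ : Mn) *ᵥ s) ≠ 0 := fun s hs0 hs hgs => by
    obtain ⟨σ, hσ⟩ := hstart g₀ hg₀ s hs0 hs hgs
    exact hgn fun k a => Submodule.mem_span_singleton.2 ⟨σ k, (hσ a k).symm⟩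
  obtain ⟨u, hu0, hu⟩ := O.exists_sing
  obtain ⟨v, hv, huv⟩ := H.exists_pair O.two hu0 hu
  obtain ⟨y, huy, hvy, hy⟩ := H.exists_aniso_W0 O.two O.dim hu hv huv
  have hE := H.two_ne O.two
  have huty : ∀ t : E, h u (t • y) = 0 := fun t => by rw [H.smul_right, huy, mul_zero]
  -- the singular vectors
  obtain ⟨P, hP⟩ : ∃ P : Option E × {μ : E // μ ≠ 0} → V, ∀ p, P p = p.2.1 • p.1.elim u
      (fun a => v + a • y - (a * a * h y y / 2) • u) := ⟨_, fun _ => rfl⟩
  have hPs : ∀ p, h (P p) (P p) = 0 := by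
    rintro ⟨_ | a, μ, hμ⟩ <;> rw [hP] <;>
      simp only [Option.elim, H.smul_left, H.smul_right, H.sub_left, H.sub_right, H.add_left, H.add_right, hu, hv,
        huv, H.symm u v, huy, H.symm u y, hvy, H.symm v y, mul_zero, add_zero, zero_add, sub_zero]
    field_simp
    ring
  have hPu : ∀ μ, h u (P (none, μ)) = 0 := fun μ => by rw [hP, H.smul_right]; simp [hu]
  have hPu' : ∀ a μ, h u (P (some a, μ)) = μ.1 := fun a μ => by
    rw [hP]; simp [H.smul_right, H.sub_right, H.add_right, hu, huv, huy]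
  have hPy : ∀ a μ, h y (P (some a, μ)) = μ.1 * (a * h y y) := fun a μ => by
    rw [hP]; simp [H.smul_right, H.sub_right, H.add_right, H.symm v y, hvy, H.symm u y, huy]
  have hPinj : Function.Injective P := by
    rintro ⟨_ | a, μ⟩ ⟨_ | a', μ'⟩ e
    · rw [hP, hP] at e
      exact Prod.ext rfl (Subtype.ext (smul_left_injective E hu0 e))
    · exact absurd ((hPu μ).symm.trans ((congrArg (h u) e).trans (hPu' a' μ'))).symm μ'.2
    · exact absurd ((hPu' a μ).symm.trans ((congrArg (h u) e).trans (hPu μ'))) μ.2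
    · have e1 := (hPu' a μ).symm.trans ((congrArg (h u) e).trans (hPu' a' μ'))
      have e2 := (hPy a μ).symm.trans ((congrArg (h y) e).trans (hPy a' μ'))
      rw [← e1] at e2
      rw [mul_right_cancel₀ hy (mul_left_cancel₀ μ.2 e2), Subtype.ext e1]
  have hP0 : ∀ p, P p ≠ 0 := fun p e => by
    obtain ⟨o, μ, hμ⟩ := p
    cases o with
    | none => rw [hP] at e; exact smul_ne_zero hμ hu0 e
    | some a => exact hμ ((hPu' a ⟨μ, hμ⟩).symm.trans (by rw [e, H.zero_right]))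
  -- the Siegel elements
  have hR : ∀ t : E, ∃ m ∈ M, ∀ z, (m : Mn) *ᵥ z = H.siegel u (t • y) z := fun t => O.siegel_mem hu (huty t)
  choose R hRM hRx using hR
  have hlin : ∀ t, ∀ (k : E) (z : V), (R t : Mn) *ᵥ (k • z) = k • ((R t : Mn) *ᵥ z) := fun t k z => by
    rw [hRx, hRx, map_smul]
  -- a translate of the singular vectors meets neither them nor another translate
  have hone : ∀ t p p', (R t : Mn) *ᵥ ((g₀ : Mn) *ᵥ P p) ≠ P p' := by
    intro t p p' e
    obtain ⟨σ, hσ⟩ := hstart (R t * g₀) (mul_mem (hRM t) hg₀) (P p) (hP0 p) (hPs p)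
      (by rw [Units.val_mul, ← Matrix.mulVec_mulVec, e, hPs])
    refine hgn fun k a => Submodule.mem_span_singleton.2 ⟨σ k, ?_⟩
    refine gl_mulVec_injective (R t) ?_
    show (R t : Mn) *ᵥ _ = (R t : Mn) *ᵥ _
    rw [hlin, Matrix.mulVec_mulVec, Matrix.mulVec_mulVec, ← Units.val_mul, hσ]
  have htwo : ∀ t p p', t ≠ 0 → (R t : Mn) *ᵥ ((g₀ : Mn) *ᵥ P p) ≠ (g₀ : Mn) *ᵥ P p' := by
    intro t p p' ht e
    obtain ⟨m, hm⟩ : ∃ m, m = g₀⁻¹ * R t * g₀ := ⟨_, rfl⟩
    have hmM : m ∈ M := hm ▸ mul_mem (mul_mem (inv_mem hg₀) (hRM t)) hg₀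
    have hmg : ∀ z, (g₀ : Mn) *ᵥ ((m : Mn) *ᵥ z) = (R t : Mn) *ᵥ ((g₀ : Mn) *ᵥ z) := fun z => by
      rw [hm, Units.val_mul, Units.val_mul, ← Matrix.mulVec_mulVec, ← Matrix.mulVec_mulVec, mulVec_inv_cancel]
    obtain ⟨σ, hσ⟩ := hstart m hmM (P p) (hP0 p) (hPs p) (by
      rw [gl_mulVec_injective g₀ (a₁ := (m : Mn) *ᵥ P p) (a₂ := P p') (by
        show (g₀ : Mn) *ᵥ _ = (g₀ : Mn) *ᵥ _
        rw [hmg, e]), hPs])
    obtain ⟨w, hw⟩ : ∃ w, (g₀ : Mn) *ᵥ w = u := ⟨_, mulVec_inv_cancel g₀ u⟩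
    have hRu : (R t : Mn) *ᵥ u = u := by
      rw [hRx, H.siegel_apply_perp hu, H.smul_left, H.symm u y, huy, mul_zero, neg_zero, zero_smul, add_zero]
    have hmw : (m : Mn) *ᵥ w = w := gl_mulVec_injective g₀ (by
      show (g₀ : Mn) *ᵥ _ = (g₀ : Mn) *ᵥ _
      rw [hmg, hw, hRu])
    have hw0 : w ≠ 0 := fun e => hu0 (by rw [← hw, e, Matrix.mulVec_zero])
    obtain ⟨N, hN⟩ : ∃ N : Module.End F V, N = Matrix.toLin' (m : Mn) - 1 := ⟨_, rfl⟩
    obtain ⟨D, hD⟩ : ∃ D : Module.End F V, D = Matrix.toLin' (R t : Mn) - 1 := ⟨_, rfl⟩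
    have hN1 : ∀ z, N z = (m : Mn) *ᵥ z - z := fun z => by
      rw [hN, LinearMap.sub_apply, Matrix.toLin'_apply, Module.End.one_apply]
    have hD1 : ∀ z, D z = (R t : Mn) *ᵥ z - z := fun z => by
      rw [hD, LinearMap.sub_apply, Matrix.toLin'_apply, Module.End.one_apply]
    have hgN : ∀ z, (g₀ : Mn) *ᵥ N z = D ((g₀ : Mn) *ᵥ z) := fun z => by
      rw [hN1, hD1, Matrix.mulVec_sub, hmg]
    have hD3 : ∀ z, D (D (D z)) = 0 := fun z => by
      simp only [hD1, hRx, H.siegel_apply, H.add_right, H.sub_right, H.smul_right, H.smul_left, huy, hu,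
        H.symm u y]
      match_scalars <;> ring
    have hσ1 : σ = AlgEquiv.refl := htw hg₀ (hRM t) hu0 hu hv huv (huty t)
      (show h v (t • y) = 0 by rw [H.smul_right, hvy, mul_zero])
      (by rw [H.smul_left, H.smul_right]; exact mul_ne_zero ht (mul_ne_zero ht hy)) (hRx t) σ
      (hm ▸ hσ)
    refine hbad w hw0 (trace_ext (F := F) fun k => ?_) (by rw [hw]; exact hu)
    have hfix : (R t : Mn) *ᵥ ((g₀ : Mn) *ᵥ (k • w)) = (g₀ : Mn) *ᵥ (k • w) := by
      rw [← hmg, hσ, hmw, hσ1]; rfl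
    rw [hRx] at hfix
    obtain ⟨h1, h2⟩ := O.fixed_perp hr hNW hu huv
      (show h v (t • y) = 0 by rw [H.smul_right, hvy, mul_zero])
      (smul_ne_zero ht fun e => hy (by rw [e, H.zero_left])) hfix
    rw [H.smul_left, mul_eq_zero] at h2
    have hzu : h ((g₀ : Mn) *ᵥ (k • w)) u = 0 := by rw [H.symm]; exact h1
    rw [mul_zero, map_zero, ← H.spec, ← isometry_polar (O.iso g₀ hg₀), hw, H.form, hzu, map_zero]
  have hadd : ∀ t t' z, (R t : Mn) *ᵥ z = (R t' : Mn) *ᵥ ((R (t - t') : Mn) *ᵥ z) := fun t t' z => by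
    rw [hRx, hRx, hRx]
    simp only [H.siegel_apply, H.add_right, H.sub_right, H.smul_right, H.smul_left, huy, hu, H.symm u y]
    match_scalars <;> field_simp <;> ring
  let Φ : Option E × (Option E × {μ : E // μ ≠ 0}) → {z : V // z ≠ 0} := fun q =>
    ⟨q.1.elim (P q.2) (fun t => (R t : Mn) *ᵥ ((g₀ : Mn) *ᵥ P q.2)), by
      obtain ⟨_ | t, p⟩ := q
      · exact hP0 p
      · intro e
        refine hP0 p (gl_mulVec_injective g₀ ?_)
        show (g₀ : Mn) *ᵥ _ = (g₀ : Mn) *ᵥ _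
        rw [Matrix.mulVec_zero]
        refine gl_mulVec_injective (R t) ?_
        show (R t : Mn) *ᵥ _ = (R t : Mn) *ᵥ _
        rw [Matrix.mulVec_zero]
        exact e⟩
  have hΦ : Function.Injective Φ := by
    rintro ⟨_ | t, p⟩ ⟨_ | t', p'⟩ e <;> have e' := congrArg Subtype.val e <;> simp only [Φ, Option.elim] at e'
    · rw [hPinj e']
    · exact absurd e'.symm (hone t' p' p)
    · exact absurd e' (hone t p p')
    · rw [hadd t t'] at e'
      have e'' := gl_mulVec_injective (R t') e'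
      rcases eq_or_ne (t - t') 0 with h0 | h0
      · rw [sub_eq_zero.1 h0] at e'' ⊢
        rw [show (R (t' - t') : Mn) *ᵥ ((g₀ : Mn) *ᵥ P p) = (g₀ : Mn) *ᵥ P p by
          rw [hRx, H.siegel_apply, sub_self, zero_smul, smul_zero, H.zero_left, H.zero_left]; simp] at e''
        rw [hPinj (gl_mulVec_injective g₀ e'')]
      · exact absurd e'' (htwo _ p p' h0)
  have hcard := Fintype.card_le_of_injective Φ hΦ
  rw [Fintype.card_prod, Fintype.card_prod, Fintype.card_option, Fintype.card_subtype_compl,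
    Fintype.card_subtype_compl, Fintype.card_subtype_eq, Fintype.card_subtype_eq,
    show Fintype.card V = Fintype.card E ^ finrank E V from Module.card_eq_pow_finrank (K := E), hd] at hcard
  obtain ⟨a, ha⟩ : ∃ a, Fintype.card E = a + 2 :=
    ⟨Fintype.card E - 2, by have := Fintype.one_lt_card (α := E); omega⟩
  rw [ha, show a + 2 - 1 = a + 1 by omega] at hcard
  have h4 : (a + 2) ^ 3 ≥ 1 := Nat.one_le_pow _ _ (by omega)
  have h6 : (a + 2 + 1) * ((a + 2 + 1) * (a + 1)) + 1 ≤ (a + 2) ^ 3 := by omega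
  nlinarith

/-- An overgroup with an element which is not semilinear contains `Ω`. -/
theorem omega_le_three (hT : Tri Q) {g₀ : GL ι F} (hg₀ : g₀ ∈ M)
    (hgn : ¬ ∀ (k : E) (a : V), (g₀ : Mn) *ᵥ (k • a) ∈ (E ∙ ((g₀ : Mn) *ᵥ a))) : Geo.omegaGL ⇑Q ≤ M := by
  classical
  have hE2 : finrank F E ≠ 2 := by omega
  refine O.omega_le_of_parts hr hd hE2 hT (fun hNW => ?_) hg₀ hgn
  have hmeet := O.meet_le_one hr h5 hd hNW
  have hmax : ∀ g b c, Triple h M g b c → IsMax h M g b c := fun g b c ht g' b' c' ht' =>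
    (hmeet _ _ _ ht').trans (Submodule.one_le_finrank_iff.2 fun e => by
      obtain ⟨i, hi0, hi⟩ := ht.some
      exact hi0 ((Submodule.mem_bot F).1 (e ▸ hi)))
  have hno := O.no_triple_small hr hNW (hr.odd_of_ne_two hE2) hmeet
    (fun ht _ hk => O.psi_ne hr hNW (fun e => absurd e (by omega)) ht (hmax _ _ _ ht) hk)
    (fun ht hcw => by
      obtain ⟨g', hg', hgg, hor⟩ := O.step hr hNW ht (hmax _ _ _ ht) hcw (fun e => absurd e (by omega))
      exact ⟨g', hg', hgg, hor.imp_left fun h1 => ⟨h1.1, h1.2.1⟩⟩)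
  refine ⟨fun _ h0 h1 _ hA => O.zt_zero hr hNW (fun e => absurd e hE2) hno h0 h1 hA, hno, ?_⟩
  intro g R u v w _ _ hu0 hu _ _ huw _ _ hR σ hσ
  obtain ⟨m, hm⟩ : ∃ m, m = g⁻¹ * R * g := ⟨_, rfl⟩
  rw [← hm] at hσ
  haveI := finiteE (F := F) (E := E)
  obtain ⟨D, hD⟩ : ∃ D : V → V, ∀ z, D z = (R : Mn) *ᵥ z - z := ⟨_, fun _ => rfl⟩
  obtain ⟨N, hN⟩ : ∃ N : V → V, ∀ z, N z = (m : Mn) *ᵥ z - z := ⟨_, fun _ => rfl⟩
  have hgN : ∀ z, (g : Mn) *ᵥ N z = D ((g : Mn) *ᵥ z) := fun z => by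
    rw [hN, hD, Matrix.mulVec_sub, hm, Units.val_mul, Units.val_mul, ← Matrix.mulVec_mulVec,
      ← Matrix.mulVec_mulVec, mulVec_inv_cancel]
  have hD3 : ∀ z, D (D (D z)) = 0 := fun z => by
    simp only [hD, hR, O.form.siegel_apply, O.form.add_right, O.form.sub_right, O.form.smul_right, huw, hu,
      O.form.symm u w]
    match_scalars <;> ring
  have hN3 : ∀ z, N (N (N z)) = 0 := fun z => gl_mulVec_injective g (by
    show (g : Mn) *ᵥ _ = (g : Mn) *ᵥ _
    rw [hgN, hgN, hgN, hD3, Matrix.mulVec_zero])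
  obtain ⟨z₀, hz₀⟩ : ∃ z₀ : V, z₀ ≠ 0 ∧ (m : Mn) *ᵥ z₀ = z₀ := by
    refine ⟨((g⁻¹ : GL ι F) : Mn) *ᵥ u, fun e => hu0 (by rw [← mulVec_inv_cancel g u, e, Matrix.mulVec_zero]), ?_⟩
    rw [hm, Units.val_mul, Units.val_mul, ← Matrix.mulVec_mulVec, ← Matrix.mulVec_mulVec, mulVec_inv_cancel, hR,
      O.form.siegel_apply_perp hu, show h w u = 0 from (O.form.symm w u ▸ huw), neg_zero, zero_smul, add_zero]
  obtain ⟨S, hS⟩ : ∃ S : E →ₗ[F] E, S = σ.toAlgHom.toLinearMap - LinearMap.id := ⟨_, rfl⟩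
  have hNS : ∀ k, N (k • z₀) = S k • z₀ := fun k => by
    rw [hN, hσ, hz₀.2, hS, LinearMap.sub_apply, LinearMap.id_apply, sub_smul]
    rfl
  refine aut_eq_one hr σ (m := 3) (by omega) fun k => ?_
  rw [← hS, pow_succ, pow_two, Module.End.mul_apply, Module.End.mul_apply]
  refine (smul_eq_zero.1 ?_).resolve_right hz₀.1
  rw [← hNS, ← hNS, ← hNS, hN3]

end OF

end Cfsg.Agent.Classical.OrthField
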