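import Cfsg.Agent.Lib.Classical.MaxOrthFieldMain

/-!
Orthogonal groups over an extension field of degree at least five: lines whose images meet lines in at most one
dimension.  Two vectors of equal norm in such an image give a half turn carrying the pair to itself.
-/

set_option autoImplicit false
set_option linter.unusedSectionVars false
set_option quotPrecheck false
set_option linter.style.haveILetI false

namespace Cfsg.Agent.Classical.OrthField

open Matrix Module MaxTv OrthAut Overfield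

variable {F : Type*} [Field F] [Fintype F] {ι : Type} [Fintype ι] [DecidableEq ι] {Q : QuadraticForm F (ι → F)}
variable {E : Type*} [Field E] [Fintype E] [Algebra F E] [Module E (ι → F)] [IsScalarTower F E (ι → F)]

local notation "V" => (ι → F)
local notation "Mn" => Matrix ι ι F
local notation "B" => QuadraticMap.polar ⇑Q
local notation "τ" => Algebra.trace F E

/-- An automorphism in prime degree fixing an element outside the base field is trivial. -/
theorem aut_eq_one_of_fixed (hr : (finrank F E).Prime) (σ : E ≃ₐ[F] E) {x : E}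
    (hx : ∀ a : F, algebraMap F E a ≠ x) (h : σ x = x) : σ = AlgEquiv.refl := by
  haveI := Subalgebra.isSimpleOrder_of_finrank_prime F E hr
  rcases IsSimpleOrder.eq_bot_or_eq_top (AlgHom.equalizer σ.toAlgHom (AlgHom.id F E)) with hb | ht
  · have hm : x ∈ AlgHom.equalizer σ.toAlgHom (AlgHom.id F E) := h
    rw [hb, Algebra.mem_bot] at hm
    obtain ⟨a, ha⟩ := hm
    exact absurd ha (hx a)
  · refine AlgEquiv.ext fun y => ?_
    have hy : y ∈ AlgHom.equalizer σ.toAlgHom (AlgHom.id F E) := ht ▸ Algebra.mem_top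
    exact hy

theorem ringChar_ne_two {K : Type*} [Field K] [Fintype K] (h2 : (2 : K) ≠ 0) : ringChar K ≠ 2 := fun e => by
  haveI : CharP K 2 := e ▸ ringChar.charP K
  exact h2 (CharTwo.two_eq_zero)

theorem isSquare_mul_of_not {K : Type*} [Field K] [Fintype K] (h2 : (2 : K) ≠ 0) {a b : K} (ha : ¬ IsSquare a)
    (hb : ¬ IsSquare b) : IsSquare (a * b) := by
  have hc := ringChar_ne_two h2
  have ha0 : a ≠ 0 := fun e => ha (e ▸ IsSquare.zero)
  have hb0 : b ≠ 0 := fun e => hb (e ▸ IsSquare.zero)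
  rw [FiniteField.isSquare_iff hc ha0] at ha
  rw [FiniteField.isSquare_iff hc hb0] at hb
  rw [FiniteField.isSquare_iff hc (mul_ne_zero ha0 hb0), mul_pow,
    (FiniteField.pow_dichotomy hc ha0).resolve_left ha, (FiniteField.pow_dichotomy hc hb0).resolve_left hb,
    neg_one_mul, neg_neg]

/-- In odd degree every element is, up to a scalar of the base field, a square. -/
theorem exists_scale (hodd : Odd (finrank F E)) (h2 : (2 : F) ≠ 0) {ρ : E} (hρ : ρ ≠ 0) :
    ∃ (a : F) (t : E), a ≠ 0 ∧ t ≠ 0 ∧ t * t = a • ρ := by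
  haveI := finiteE (F := F) (E := E)
  have hE : (2 : E) ≠ 0 := by
    rw [show (2 : E) = algebraMap F E 2 by rw [map_ofNat]]
    exact (map_ne_zero_iff _ (algebraMap F E).injective).2 h2
  suffices hs : ∃ a : F, a ≠ 0 ∧ IsSquare (a • ρ) by
    obtain ⟨a, ha, t, ht⟩ := hs
    exact ⟨a, t, ha, fun e => smul_ne_zero ha hρ (ht.trans (by rw [e, mul_zero])), ht.symm⟩
  by_cases hsq : IsSquare ρ
  · exact ⟨1, one_ne_zero, by rwa [one_smul]⟩
  obtain ⟨ν, hν⟩ := FiniteField.exists_nonsquare (ringChar_ne_two h2)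
  refine ⟨ν, fun e => hν (e ▸ IsSquare.zero), ?_⟩
  rw [Algebra.smul_def]
  refine isSquare_mul_of_not hE (fun ⟨e, he⟩ => hν ?_) hsq
  have h1 := congrArg (Algebra.norm F) he
  rw [Algebra.norm_algebraMap, map_mul] at h1
  obtain ⟨k, hk⟩ := hodd
  have hν0 : ν ≠ 0 := fun e => hν (e ▸ IsSquare.zero)
  refine ⟨Algebra.norm F e / ν ^ k, ?_⟩
  rw [div_mul_div_comm, ← h1, hk]
  field_simp
  ring

theorem pair_injective {b : V} (hb : b ≠ 0) (g : GL ι F) {x y : E}
    (e : (g : Mn) *ᵥ (x • b) = (g : Mn) *ᵥ (y • b)) : x = y :=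
  smul_left_injective E hb (gl_mulVec_injective g e)

namespace OF

variable {h : (ι → F) → (ι → F) → E} {M : Subgroup (GL ι F)} (O : OF Q h M)
include O

/-- The half turn in a plane with an orthogonal pair of equal norms. -/
theorem exists_halfturn {p p' : V} (hpp : h p p' = 0) (hS : h p p ≠ 0) (he : h p' p' = h p p) :
    ∃ m ∈ M, ∀ x, (m : Mn) *ᵥ x = x - (2 * h p x / h p p) • p - (2 * h p' x / h p p) • p' := by
  have H := O.form
  obtain ⟨S, hSd⟩ : ∃ S, S = h p p := ⟨_, rfl⟩
  rw [← hSd] at hS he ⊢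
  obtain ⟨L, hL⟩ : ∃ L : V →ₗ[E] V, L = LinearMap.id + (S⁻¹ • H.func p).smulRight (p' - p) -
      (S⁻¹ • H.func p').smulRight (p + p') := ⟨_, rfl⟩
  have hLa : ∀ x, L x = x + (S⁻¹ * h p x) • (p' - p) - (S⁻¹ * h p' x) • (p + p') := fun x => by
    rw [hL]; rfl
  obtain ⟨m, hm, hmx⟩ := O.sq L fun x => by
    simp only [hLa, H.sub_left, H.sub_right, H.add_left, H.add_right, H.smul_left, H.smul_right, ← hSd, he,
      hpp, H.symm p p', H.symm p x, H.symm p' x]
    field_simp
    ring
  refine ⟨m, hm, fun x => ?_⟩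
  rw [hmx]
  simp only [hLa, H.sub_right, H.add_right, H.smul_right, ← hSd, he, hpp, H.symm p p']
  match_scalars <;> field_simp <;> ring

/-- An anisotropic vector perpendicular to an orthogonal pair. -/
theorem exists_perp {p q : V} (hpq : h p q = 0) (hp : h p p ≠ 0) (hq : h q q ≠ 0) :
    ∃ o, h p o = 0 ∧ h q o = 0 ∧ h o o ≠ 0 := by
  have H := O.form
  haveI : Module.Finite E (ι → F) := Module.Finite.of_restrictScalars_finite F E _
  by_contra hcon
  push Not at hcon
  obtain ⟨π, hπ⟩ : ∃ π : V → V, ∀ x, π x = x - (h p x / h p p) • p - (h q x / h q q) • q := ⟨_, fun _ => rfl⟩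
  have h1 : ∀ x, h p (π x) = 0 ∧ h q (π x) = 0 := fun x => by
    simp only [hπ, H.sub_right, H.smul_right, hpq, H.symm p q]
    constructor <;> field_simp <;> ring
  have h2 : ∀ x, h (π x) (π x) = 0 := fun x => hcon _ (h1 x).1 (h1 x).2
  have h3 : ∀ x, π x = 0 := fun x => H.eq_zero fun y => by
    have e := hcon (π x + π y) (by rw [H.add_right, (h1 x).1, (h1 y).1, add_zero])
      (by rw [H.add_right, (h1 x).2, (h1 y).2, add_zero])
    rw [H.add_left, H.add_right, H.add_right, h2, h2, H.symm (π x) (π y), zero_add, add_zero] at e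
    have e' : h (π x) (π y) = 0 :=
      (mul_eq_zero.1 (by linear_combination e : (2 : E) * h (π x) (π y) = 0)).resolve_left (H.two_ne O.two)
    rw [hπ y, H.sub_right, H.sub_right, H.smul_right, H.smul_right, H.symm p (π x), H.symm q (π x), (h1 x).1,
      (h1 x).2, mul_zero, mul_zero, sub_zero, sub_zero] at e'
    rw [H.symm, e']
  have h4 : (⊤ : Submodule E V) ≤ Submodule.span E (Set.range ![p, q]) := fun x _ => by
    have := h3 x
    rw [hπ] at this
    rw [show x = (h p x / h p p) • p + (h q x / h q q) • q by linear_combination (norm := module) this]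
    exact Submodule.add_mem _ (Submodule.smul_mem _ _ (Submodule.subset_span ⟨0, rfl⟩))
      (Submodule.smul_mem _ _ (Submodule.subset_span ⟨1, rfl⟩))
  have h5 := (Submodule.finrank_mono h4).trans (finrank_range_le_card (R := E) ![p, q])
  rw [finrank_top, Fintype.card_fin] at h5
  have := O.dim
  omega

/-- Two independent scalars of equal norm on the image of a singular line. -/
theorem exists_equal_norm {g : GL ι F} (hg : g ∈ M) {b : V} (hb : h b b = 0) :
    ∃ k l : E, k ≠ 0 ∧ (∀ a : F, a • k ≠ l) ∧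
      h ((g : Mn) *ᵥ (k • b)) ((g : Mn) *ᵥ (k • b)) = h ((g : Mn) *ᵥ (l • b)) ((g : Mn) *ᵥ (l • b)) := by
  classical
  have H := O.form
  haveI := finiteE (F := F) (E := E)
  obtain ⟨N, hN⟩ : ∃ N : E → E, ∀ k, N k = h ((g : Mn) *ᵥ (k • b)) ((g : Mn) *ᵥ (k • b)) := ⟨_, fun _ => rfl⟩
  simp only [← hN]
  by_contra hcon
  push Not at hcon
  have htr : ∀ k, τ (N k) = 0 := fun k => by
    rw [hN, ← H.form, isometry_polar (O.iso g hg), H.form, H.smul_left, H.smul_right, hb, mul_zero, mul_zero,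
      map_zero]
  have hsc : ∀ (a : F) k, N (a • k) = (a * a) • N k := fun a k => by
    rw [hN, hN, smul_assoc, Matrix.mulVec_smul, H.fsmul_left, H.symm, H.fsmul_left, smul_smul]
  have hF2 : 3 ≤ Fintype.card F := by
    have h1 := Fintype.one_lt_card (α := F)
    have h2 : Fintype.card F ≠ 2 := fun e => O.two (by
      have := Nat.cast_card_eq_zero F
      rwa [e, Nat.cast_ofNat] at this)
    omega
  obtain ⟨T, hT⟩ : ∃ T : Finset E, T = Finset.univ.filter fun x => τ x = 0 ∧ x ≠ 0 := ⟨_, rfl⟩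
  have hTc : T.card + 1 ≤ Fintype.card F ^ (finrank F E - 1) := by
    have h1 : finrank F (LinearMap.ker τ) = finrank F E - 1 := by
      have h2 := LinearMap.finrank_range_add_finrank_ker τ
      have h3 : finrank F (LinearMap.range τ) = 1 := by
        rw [LinearMap.range_eq_top.2 (Algebra.trace_surjective F E), finrank_top, Module.finrank_self]
      omega
    have h2 : Fintype.card (LinearMap.ker τ) = Fintype.card F ^ finrank F (LinearMap.ker τ) :=
      Module.card_eq_pow_finrank (K := F)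
    rw [← h1, ← h2]
    have h4 : Fintype.card (LinearMap.ker τ) = (Finset.univ.filter fun x : E => τ x = 0).card :=
      Fintype.card_of_subtype _ fun x => by simp
    rw [h4]
    refine Finset.card_lt_card ⟨fun x hx => ?_, fun e => ?_⟩
    · simp only [hT, Finset.mem_filter] at hx
      simp [hx.2.1]
    · have := e (show (0 : E) ∈ _ by simp)
      simp [hT] at this
  obtain ⟨S₀, hS₀⟩ : ∃ S₀ : Finset E, S₀ = Finset.univ.filter fun k => k ≠ 0 ∧ N k = 0 := ⟨_, rfl⟩
  obtain ⟨S₁, hS₁⟩ : ∃ S₁ : Finset E, S₁ = Finset.univ.filter fun k => k ≠ 0 ∧ N k ≠ 0 := ⟨_, rfl⟩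
  have h0 : S₀.card ≤ Fintype.card F - 1 := by
    rcases S₀.eq_empty_or_nonempty with e | ⟨k₀, hk₀⟩
    · simp [e]
    simp only [hS₀, Finset.mem_filter, Finset.mem_univ, true_and] at hk₀
    refine (Finset.card_le_card (t := (Finset.univ.erase (0 : F)).image fun a => a • k₀) fun x hx => ?_).trans
      (Finset.card_image_le.trans (by rw [Finset.card_erase_of_mem (Finset.mem_univ _), Finset.card_univ]))
    simp only [hS₀, Finset.mem_filter, Finset.mem_univ, true_and] at hx
    obtain ⟨a, ha⟩ : ∃ a : F, a • k₀ = x := by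
      by_contra hc
      push Not at hc
      exact hcon k₀ x hk₀.1 hc (hk₀.2.trans hx.2.symm)
    exact Finset.mem_image.2 ⟨a, Finset.mem_erase.2 ⟨fun e => hx.1 (by rw [← ha, e, zero_smul]),
      Finset.mem_univ _⟩, ha⟩
  have h1 : S₁.card ≤ 2 * T.card := by
    refine Finset.card_le_mul_card_image_of_maps_to (f := N) (fun k hk => ?_) 2 fun x hx => ?_
    · simp only [hS₁, Finset.mem_filter, Finset.mem_univ, true_and] at hk
      simp [hT, htr, hk.2]
    rcases (S₁.filter fun k => N k = x).eq_empty_or_nonempty with e | ⟨k₀, hk₀⟩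
    · simp [e]
    simp only [hS₁, Finset.mem_filter, Finset.mem_univ, true_and] at hk₀
    refine (Finset.card_le_card (t := {k₀, -k₀}) fun l hl => ?_).trans Finset.card_le_two
    simp only [hS₁, Finset.mem_filter, Finset.mem_univ, true_and] at hl
    obtain ⟨a, ha⟩ : ∃ a : F, a • k₀ = l := by
      by_contra hc
      push Not at hc
      exact hcon k₀ l hk₀.1.1 hc (hk₀.2.trans hl.2.symm)
    have e1 : (a * a) • N k₀ = (1 : F) • N k₀ := by rw [← hsc, ha, one_smul, hl.2, hk₀.2]
    have e2 : a * a = 1 := smul_left_injective F hk₀.1.2 e1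
    rcases mul_self_eq_one_iff.1 e2 with rfl | rfl <;> simp [← ha]
  have h2 : Fintype.card E - 1 ≤ S₀.card + S₁.card := by
    refine le_trans (le_of_eq ?_) (Finset.card_union_le _ _)
    rw [← Finset.card_univ, ← Finset.card_erase_of_mem (Finset.mem_univ (0 : E))]
    congr 1
    ext k
    by_cases hk : N k = 0 <;> simp [hS₀, hS₁, hk]
  have h3 : Fintype.card E = Fintype.card F * Fintype.card F ^ (finrank F E - 1) := by
    rw [show Fintype.card E = Fintype.card F ^ finrank F E from Module.card_eq_pow_finrank (K := F), ← pow_succ']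
    congr 1
    have := O.deg
    omega
  have h4 : Fintype.card F ≤ Fintype.card F ^ (finrank F E - 1) :=
    Nat.le_self_pow (by have := O.deg; omega) _
  obtain ⟨q', hq'⟩ : ∃ q', q' = Fintype.card F ^ (finrank F E - 1) := ⟨_, rfl⟩
  rw [← hq'] at h3 h4 hTc
  have h5 : 3 * q' ≤ Fintype.card F * q' := Nat.mul_le_mul_right _ hF2
  omega

variable (hr : (finrank F E).Prime) (hNW : NoWin h M) (hodd : Odd (finrank F E))
  (hsmall : ∀ g b c, Triple h M g b c → finrank F (meet g b c : Submodule F E) ≤ 1)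
  (hpsi : ∀ {g b c}, Triple h M g b c → ∀ {k : E}, k ∉ (meet g b c : Submodule F E) →
    h c ((g : Matrix ι ι F) *ᵥ (k • b)) ≠ 0)
  (hstep : ∀ {g b c w}, Triple h M g b c → h c w = 0 → ∃ g' : GL ι F, g' ∈ M ∧
    (∀ x, (g : Matrix ι ι F) *ᵥ ((g' : Matrix ι ι F) *ᵥ x) = O.form.siegel c w ((g : Matrix ι ι F) *ᵥ x)) ∧
      (((∀ k, k ∈ (meet g' b b : Submodule F E) → k ∈ (meet g b c : Submodule F E)) ∧ Triple h M g' b b) ∨
        ∀ k : E, O.form.siegel c w ((g : Matrix ι ι F) *ᵥ (k • b)) = (g : Matrix ι ι F) *ᵥ (k • b)))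
include hr hNW hodd hsmall hpsi hstep

omit hr hNW hodd hpsi hstep in
/-- Two independent scalars in a meet give the whole line. -/
theorem small_all {g : GL ι F} {b c : V} (hg : g ∈ M) (hb0 : b ≠ 0) (hb : h b b = 0) (hc0 : c ≠ 0)
    (hc : h c c = 0) {k l : E} (hk0 : k ≠ 0) (hkl : ∀ a : F, a • k ≠ l)
    (hk : k ∈ (meet g b c : Submodule F E)) (hl : l ∈ (meet g b c : Submodule F E)) :
    ∀ x, x ∈ (meet g b c : Submodule F E) := by
  haveI := finiteE (F := F) (E := E)
  by_contra hcon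
  push Not at hcon
  have h1 := hsmall g b c ⟨hg, hb0, hb, hc0, hc, ⟨k, hk0, hk⟩, hcon⟩
  have hli : LinearIndependent F ![(⟨k, hk⟩ : (meet g b c : Submodule F E)), ⟨l, hl⟩] :=
    (LinearIndependent.pair_iff' fun e => hk0 (congrArg Subtype.val e)).2 fun a e =>
      hkl a (congrArg Subtype.val e)
  have h2 := hli.fintype_card_le_finrank
  rw [Fintype.card_fin] at h2
  omega

/-- Lines meet images of lines trivially or completely, if they never meet in two dimensions. -/
theorem no_triple_small (g : GL ι F) (b c : V) : ¬ Triple h M g b c := by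
  intro ht
  classical
  have H := O.form
  have hE := H.two_ne O.two
  haveI := finiteE (F := F) (E := E)
  obtain ⟨hg, hb0, hb, hc0, hc, ⟨i₀, hi₀, hi⟩, k₁, hk₁⟩ := id ht
  obtain ⟨s₀, hs₀⟩ := mem_meet.1 hi
  have hs00 : s₀ ≠ 0 := fun e => hi₀ (pair_injective hb0 g
    (by rw [← hs₀, e, zero_smul, zero_smul, Matrix.mulVec_zero]))
  obtain ⟨f, hf⟩ : ∃ f : E → V, ∀ x, f x = (g : Mn) *ᵥ (x • b) := ⟨_, fun _ => rfl⟩
  have hBf : ∀ x y, B (f x) (f y) = 0 := fun x y => by
    rw [hf, hf, isometry_polar (O.iso g hg), H.form, H.smul_left, H.smul_right, hb, mul_zero, mul_zero, map_zero]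
  have hfsub : ∀ x y, f (x - y) = f x - f y := fun x y => by rw [hf, hf, hf, sub_smul, Matrix.mulVec_sub]
  have hfinj : ∀ {x y}, f x = f y → x = y := fun {x y} e => pair_injective hb0 g (by rwa [← hf, ← hf])
  obtain ⟨k, l, hk0, hkl, hN⟩ := O.exists_equal_norm hg hb
  rw [← hf, ← hf] at hN
  obtain ⟨N, hNd⟩ : ∃ N, N = h (f k) (f k) := ⟨_, rfl⟩
  rw [← hNd] at hN
  have hl0 : l ≠ 0 := fun e => hkl 0 (by rw [e, zero_smul])
  have hkl1 : ∀ a : F, a • k ≠ -l := fun a e => hkl (-a) (by rw [neg_smul, e, neg_neg])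
  -- the pair is not degenerate
  have hpm : ∀ l' : E, (∀ a : F, a • k ≠ l') → h (f l') (f l') = N → h (f k) (f l') ≠ N := by
    intro l' hl' hN' hδ
    obtain ⟨d, hd⟩ : ∃ d, d = f (l' - k) := ⟨_, rfl⟩
    have hdd : h d d = 0 := by
      rw [hd, hfsub, H.sub_left, H.sub_right, H.sub_right, hN', H.symm (f k) (f l'), hδ, ← hNd]; ring
    have hdz : h d (f k) = 0 := by rw [hd, hfsub, H.sub_left, H.symm (f k) (f l'), hδ, ← hNd, sub_self]
    have hd0 : d ≠ 0 := fun e => hl' 1 (by
      rw [hd, hfsub, sub_eq_zero] at e; rw [one_smul, hfinj e])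
    have hk' : l' - k ∈ (meet g b d : Submodule F E) := mem_meet.2 ⟨1, by rw [one_smul, hd, hf]⟩
    by_cases hkm : k ∈ (meet g b d : Submodule F E)
    · have hall := O.small_all hsmall hg hb0 hb hd0 hdd hk0
        (fun a e => hl' (a + 1) (by rw [add_smul, e, one_smul, sub_add_cancel])) hkm hk'
      obtain ⟨s', hs'⟩ := mem_meet.1 (hall i₀)
      rw [← hs₀] at hs'
      refine hk₁ ?_
      obtain ⟨s'', hs''⟩ := mem_meet.1 (hall k₁)
      have hs'0 : s' ≠ 0 := fun e => smul_ne_zero hs00 hc0 (by rw [← hs', e, zero_smul])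
      exact mem_meet.2 ⟨s'' * (s'⁻¹ * s₀), by
        rw [← hs'', mul_smul, mul_smul, ← hs', inv_smul_smul₀ hs'0]⟩
    · have hT : Triple h M g b d := ⟨hg, hb0, hb, hd0, hdd, ⟨l' - k, sub_ne_zero.2 fun e => hl' 1
        (by rw [one_smul, e]), hk'⟩, k, hkm⟩
      exact hpsi hT hkm (by rw [← hf]; exact hdz)
  obtain ⟨δ, hδd⟩ : ∃ δ, δ = h (f k) (f l) := ⟨_, rfl⟩
  have hδ1 : δ ≠ N := hδd ▸ hpm l hkl hN.symm
  have hfneg : f (-l) = -f l := by rw [hf, hf, neg_smul, Matrix.mulVec_neg]
  have hδ2 : δ ≠ -N := fun e => hpm (-l) hkl1 (by rw [hfneg, H.neg_left, H.neg_right, neg_neg, hN])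
    (by rw [hfneg, H.neg_right, ← hδd, e, neg_neg])
  obtain ⟨p, hp⟩ : ∃ p, p = f k + f l := ⟨_, rfl⟩
  obtain ⟨p₂, hp₂⟩ : ∃ p₂, p₂ = f k - f l := ⟨_, rfl⟩
  have hS : h p p = 2 * (N + δ) := by
    rw [hp, H.add_left, H.add_right, H.add_right, H.symm (f k) (f l), ← hN, ← hδd, ← hNd]; ring
  have hS₂ : h p₂ p₂ = 2 * (N - δ) := by
    rw [hp₂, H.sub_left, H.sub_right, H.sub_right, H.symm (f k) (f l), ← hN, ← hδd, ← hNd]; ring
  have hpp₂ : h p p₂ = 0 := by
    rw [hp, hp₂, H.add_left, H.sub_right, H.sub_right, H.symm (f k) (f l), ← hN, ← hδd, ← hNd]; ring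
  have hS0 : h p p ≠ 0 := hS ▸ mul_ne_zero hE fun e => hδ2 (by linear_combination e)
  have hS₂0 : h p₂ p₂ ≠ 0 := hS₂ ▸ mul_ne_zero hE fun e => hδ1 (by linear_combination -e)
  -- an element of the group stabilising the two vectors stabilises the line
  have hline : ∀ m ∈ M, ∀ k' l', (m : Mn) *ᵥ f k = f k' → (m : Mn) *ᵥ f l = f l' → ∃ σ : E ≃ₐ[F] E, ∃ γ : E,
      σ k * γ = k' ∧ σ l * γ = l' ∧ ∀ x, (m : Mn) *ᵥ f x = f (σ x * γ) := by
    intro m hm k' l' hmk hml
    obtain ⟨g', hg'⟩ : ∃ g', g' = g⁻¹ * m * g := ⟨_, rfl⟩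
    have hgg : ∀ x, (g : Mn) *ᵥ ((g' : Mn) *ᵥ (x • b)) = (m : Mn) *ᵥ f x := fun x => by
      rw [hg', Units.val_mul, Units.val_mul, ← Matrix.mulVec_mulVec, ← Matrix.mulVec_mulVec, mulVec_inv_cancel, hf]
    have hto : ∀ x x', (m : Mn) *ᵥ f x = f x' → (g' : Mn) *ᵥ (x • b) = x' • b := fun x x' e =>
      gl_mulVec_injective g (by show (g : Mn) *ᵥ _ = (g : Mn) *ᵥ _; rw [hgg, e, hf])
    have hg'M : g' ∈ M := hg' ▸ mul_mem (mul_mem (inv_mem hg) hm) hg
    have hall := O.small_all hsmall hg'M hb0 hb hb0 hb hk0 hkl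
      (mem_meet.2 ⟨k', (hto _ _ hmk).symm⟩) (mem_meet.2 ⟨l', (hto _ _ hml).symm⟩)
    obtain ⟨σ, hσ⟩ := O.line_semi hr hNW hg'M hb0 hb hb0 hb hall
    obtain ⟨γ, hγ⟩ := mem_meet.1 (hall 1)
    rw [one_smul] at hγ
    have hσb : ∀ x, (g' : Mn) *ᵥ (x • b) = (σ x * γ) • b := fun x => by rw [hσ, ← hγ, smul_smul]
    exact ⟨σ, γ, smul_left_injective E hb0 ((hσb k).symm.trans (hto _ _ hmk)),
      smul_left_injective E hb0 ((hσb l).symm.trans (hto _ _ hml)),
      fun x => by rw [← hgg, hσb, hf]⟩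
  by_cases hD : IsSquare ((N + δ) * (N - δ))
  · -- the plane is split by a half turn negating both
    obtain ⟨ρ, hρ⟩ := hD
    have hρ0 : ρ ≠ 0 := fun e => by
      rw [e, mul_zero, mul_eq_zero] at hρ
      rcases hρ with e' | e'
      · exact hδ2 (by linear_combination e')
      · exact hδ1 (by linear_combination -e')
    obtain ⟨p', hp'⟩ : ∃ p', p' = (h p p / (2 * ρ)) • p₂ := ⟨_, rfl⟩
    have e1 : h p p' = 0 := by rw [hp', H.smul_right, hpp₂, mul_zero]
    have e2 : h p' p' = h p p := by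
      rw [hp', H.smul_left, H.smul_right, hS₂, hS]
      field_simp
      linear_combination (N + δ) * hρ
    obtain ⟨m, hm, hmx⟩ := O.exists_halfturn e1 hS0 e2
    have hneg : ∀ x, x = k ∨ x = l → (m : Mn) *ᵥ f x = -f x := by
      have ek : h p (f k) = N + δ ∧ h p₂ (f k) = N - δ := by
        constructor
        · rw [hp, H.add_left, H.symm (f k) (f l), ← hNd, ← hδd]
        · rw [hp₂, H.sub_left, H.symm (f k) (f l), ← hNd, ← hδd]
      have el : h p (f l) = N + δ ∧ h p₂ (f l) = δ - N := by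
        constructor
        · rw [hp, H.add_left, ← hN, ← hδd]; ring
        · rw [hp₂, H.sub_left, ← hN, ← hδd]
      rintro x (rfl | rfl)
      · rw [hmx, hp', H.smul_left, ek.1, ek.2, hS, hp₂, hp]
        have hS1 : (2 : E) * (N + δ) ≠ 0 := hS ▸ hS0
        have hNδ : N + δ ≠ 0 := right_ne_zero_of_mul hS1
        match_scalars <;> field_simp
        · linear_combination -hρ
        · linear_combination hρ
      · rw [hmx, hp', H.smul_left, el.1, el.2, hS, hp₂, hp]
        have hS1 : (2 : E) * (N + δ) ≠ 0 := hS ▸ hS0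
        have hNδ : N + δ ≠ 0 := right_ne_zero_of_mul hS1
        match_scalars <;> field_simp
        · linear_combination -hρ
        · linear_combination hρ
    have hfn : ∀ x, f (-x) = -f x := fun x => by rw [hf, hf, neg_smul, Matrix.mulVec_neg]
    obtain ⟨σ, γ, hσk, hσl, hσ⟩ := hline m hm (-k) (-l) (by rw [hneg k (Or.inl rfl), hfn])
      (by rw [hneg l (Or.inr rfl), hfn])
    have hσ1 : σ = AlgEquiv.refl := by
      refine aut_eq_one_of_fixed hr σ (x := l / k) (fun a e => hkl a ?_) ?_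
      · rw [Algebra.smul_def, e, div_mul_cancel₀ _ hk0]
      · rw [map_div₀, div_eq_div_iff (fun e => hk0 (σ.injective (e.trans (map_zero σ).symm))) hk0]
        have hγ0 : γ ≠ 0 := fun e => hk0 (by rw [e, mul_zero, eq_comm, neg_eq_zero] at hσk; exact hσk)
        exact mul_right_cancel₀ hγ0 (by linear_combination k * hσl - l * hσk)
    subst hσ1
    have hγ : γ = -1 := by
      simp only [AlgEquiv.coe_refl, id] at hσk
      exact mul_left_cancel₀ hk0 (by linear_combination hσk)
    obtain ⟨o, hpo, hp₂o, hoo⟩ := O.exists_perp hpp₂ hS0 hS₂0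
    have hZ : ∀ x, h o (f x) = 0 := fun x => by
      have h1 := congrArg (h o) ((hσ x).symm.trans (hmx (f x)))
      rw [H.sub_right, H.sub_right, H.smul_right, H.smul_right, H.symm p o, hp', H.smul_right, H.symm p₂ o, hpo,
        hp₂o, mul_zero, mul_zero, mul_zero, sub_zero, sub_zero, hγ, mul_neg_one, hfn, H.neg_right] at h1
      simp only [AlgEquiv.coe_refl, id] at h1
      exact (mul_eq_zero.1 (by linear_combination -h1 : (2 : E) * h o (f x) = 0)).resolve_left hE
    have hco : h c o = 0 := by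
      have h1 := hZ i₀
      rw [hf, ← hs₀, H.smul_right] at h1
      rw [H.symm]; exact (mul_eq_zero.1 h1).resolve_left hs00
    obtain ⟨ψ, hψd⟩ : ∃ ψ, ψ = h c (f k₁) := ⟨_, rfl⟩
    have hψ : ψ ≠ 0 := by rw [hψd, hf]; exact hpsi ht hk₁
    obtain ⟨a, t, -, ht0, htt⟩ := exists_scale (hodd) O.two
      (ρ := 2 * s₀ / (h o o * ψ)) (div_ne_zero (mul_ne_zero hE hs00) (mul_ne_zero hoo hψ))
    obtain ⟨g', hg'M, hgg, hor⟩ := hstep ht (w := t • o) (by rw [H.smul_right, hco, mul_zero])
    have hRz : H.siegel c (t • o) (f k₁) = f k₁ + (ψ * t) • o - (t * t * h o o / 2 * ψ) • c := by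
      rw [H.siegel_apply, H.smul_left, H.smul_left, H.smul_right, hZ, ← hψd]
      match_scalars <;> ring
    rcases hor with ⟨hle, hT⟩ | hfix
    · refine hpsi hT (k := k₁) (fun e => hk₁ (hle k₁ e)) (trace_ext (F := F) fun x => ?_)
      rw [mul_zero, map_zero, ← H.spec, ← isometry_polar (O.iso g hg), hgg, ← hf, ← hf, hRz,
        QuadraticMap.polar_sub_right, QuadraticMap.polar_add_right, hBf, zero_add, H.form, H.form, H.smul_right,
        H.smul_right, H.symm o (f x), hZ, mul_zero, map_zero, zero_sub, neg_eq_zero,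
        show t * t * h o o / 2 * ψ * h (f x) c = a • (s₀ * h (f x) c) by
          rw [htt, Algebra.smul_def, Algebra.smul_def]
          field_simp,
        map_smul, ← H.smul_right, ← H.form, hs₀, ← hf, hBf, smul_zero]
    · have h1 := congrArg (h o) (hfix k₁)
      rw [← hf, hRz, H.sub_right, H.add_right, H.smul_right, H.smul_right, H.symm c o, hco, hZ, mul_zero, sub_zero,
        zero_add] at h1
      exact mul_ne_zero (mul_ne_zero hψ ht0) hoo h1
  · -- a half turn exchanging the two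
    obtain ⟨o, hpo, hp₂o, hoo⟩ := O.exists_perp hpp₂ hS0 hS₂0
    have hkey : ∀ (ε : E) m, ε * ε = 1 → m ∈ M → (m : Mn) *ᵥ f k = f (ε * l) → (m : Mn) *ᵥ f l = f (ε * k) →
        False := by
      intro ε m hε hm hmk hml
      obtain ⟨σ, γ, hσk, hσl, -⟩ := hline m hm (ε * l) (ε * k) hmk hml
      have hε0 : ε ≠ 0 := fun e => one_ne_zero (hε.symm.trans (by rw [e, mul_zero]))
      have hγ0 : γ ≠ 0 := fun e => by
        rw [e, mul_zero, eq_comm, mul_eq_zero] at hσk
        exact hσk.elim hε0 hl0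
      have hx : ∀ a : F, algebraMap F E a ≠ l / k := fun a e => hkl a
        (by rw [Algebra.smul_def, e, div_mul_cancel₀ _ hk0])
      have h1 : σ (l / k) = k / l := by
        rw [map_div₀, div_eq_div_iff (fun e => hk0 (σ.injective (e.trans (map_zero σ).symm))) hl0]
        exact mul_right_cancel₀ hγ0 (by linear_combination l * hσl - k * hσk)
      have h2 : σ * σ = AlgEquiv.refl := aut_eq_one_of_fixed hr _ hx (by
        show σ (σ (l / k)) = l / k
        rw [h1, ← inv_div, map_inv₀, h1, inv_div])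
      have h3 : σ = AlgEquiv.refl := by
        haveI := Fintype.ofFinite (E ≃ₐ[F] E)
        have h4 : σ ^ finrank F E = 1 := by
          rw [← IsGalois.card_aut_eq_finrank F E, Nat.card_eq_fintype_card]; exact pow_card_eq_one
        obtain ⟨j, hj⟩ := hodd
        rw [hj, pow_succ, pow_mul, pow_two, show σ * σ = 1 from h2, one_pow, one_mul] at h4
        exact h4
      rw [h3] at h1
      simp only [AlgEquiv.coe_refl, id] at h1
      rw [div_eq_div_iff hk0 hl0] at h1
      rcases mul_self_eq_mul_self_iff.1 h1 with e | e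
      · exact hkl 1 (by rw [one_smul, e])
      · exact hkl (-1) (by rw [neg_smul, one_smul, e])
    have hD' : ¬ IsSquare (h p p * h p₂ p₂) := fun ⟨x, hx⟩ => hD ⟨x / 2, by
      rw [hS, hS₂] at hx; field_simp; linear_combination hx⟩
    have hor : IsSquare (h p p * h o o) ∨ IsSquare (h p₂ p₂ * h o o) := by
      by_contra hcon
      push Not at hcon
      obtain ⟨x, hx⟩ := isSquare_mul_of_not hE hcon.1 hcon.2
      exact hD' ⟨x / h o o, by field_simp; linear_combination hx⟩
    have eo : h o (f k) = 0 ∧ h o (f l) = 0 := by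
      rw [hp, H.add_left, H.symm o (f k), H.symm o (f l)] at hpo
      rw [hp₂, H.sub_left, H.symm o (f k), H.symm o (f l)] at hp₂o
      constructor
      · exact (mul_eq_zero.1 (by linear_combination hpo + hp₂o : (2 : E) * h o (f k) = 0)).resolve_left hE
      · exact (mul_eq_zero.1 (by linear_combination hpo - hp₂o : (2 : E) * h o (f l) = 0)).resolve_left hE
    have hsub : f k = (2 : E)⁻¹ • (p + p₂) ∧ f l = (2 : E)⁻¹ • (p - p₂) := by
      rw [hp, hp₂]
      constructor <;> match_scalars <;> field_simp <;> ring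
    have hscale : ∀ q : V, h q q ≠ 0 → h q o = 0 → IsSquare (h q q * h o o) →
        ∃ m ∈ M, ∀ x, h o x = 0 → (m : Mn) *ᵥ x = x - (2 * h q x / h q q) • q := by
      rintro q hq hqo ⟨ρ, hρ⟩
      have hρ0 : ρ ≠ 0 := fun e => mul_ne_zero hq hoo (by rw [hρ, e, mul_zero])
      obtain ⟨m, hm, hmx⟩ := O.exists_halfturn (p := q) (p' := (h q q / ρ) • o)
        (by rw [H.smul_right, hqo, mul_zero]) hq (by
          rw [H.smul_left, H.smul_right]; field_simp; linear_combination hρ)
      refine ⟨m, hm, fun x hx => ?_⟩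
      rw [hmx, H.smul_left, hx, mul_zero, mul_zero, zero_div, zero_smul, sub_zero]
    have hval : h p (f k) = h p p / 2 ∧ h p (f l) = h p p / 2 ∧ h p₂ (f k) = h p₂ p₂ / 2 ∧
        h p₂ (f l) = -(h p₂ p₂ / 2) := by
      rw [hsub.1, hsub.2]
      simp only [H.smul_right, H.add_right, H.sub_right, hpp₂, H.symm p p₂]
      refine ⟨?_, ?_, ?_, ?_⟩ <;> ring
    rcases hor with hq | hq
    · obtain ⟨m, hm, hmx⟩ := hscale p hS0 hpo hq
      refine hkey (-1) m (by ring) hm ?_ ?_ <;>
        rw [neg_one_mul, hmx _ (by first | exact eo.1 | exact eo.2),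
          show ∀ x, f (-x) = -f x from fun x => by rw [hf, hf, neg_smul, Matrix.mulVec_neg]]
      · rw [hval.1, show 2 * (h p p / 2) / h p p = 1 by field_simp, hp, one_smul]; abel
      · rw [hval.2.1, show 2 * (h p p / 2) / h p p = 1 by field_simp, hp, one_smul]; abel
    · obtain ⟨m, hm, hmx⟩ := hscale p₂ hS₂0 hp₂o hq
      refine hkey 1 m (one_mul 1) hm ?_ ?_ <;>
        rw [one_mul, hmx _ (by first | exact eo.1 | exact eo.2)]
      · rw [hval.2.2.1, show 2 * (h p₂ p₂ / 2) / h p₂ p₂ = 1 by field_simp, hp₂, one_smul]; abel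
      · rw [hval.2.2.2, show 2 * -(h p₂ p₂ / 2) / h p₂ p₂ = -1 by field_simp, hp₂, neg_one_smul]; abel

end OF

end Cfsg.Agent.Classical.OrthField
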