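import Cfsg.Agent.Lib.Classical.MaxOrthFieldThreePair

/-!
Orthogonal groups over an extension field: a root element which is not linear enlarges every meet of dimension at
least two.
-/

set_option autoImplicit false
set_option linter.unusedSectionVars false
set_option quotPrecheck false
set_option linter.style.haveILetI false

namespace Cfsg.Agent.Classical.OrthField

open Matrix Module MaxTv OrthAut Overfield

variable {F : Type*} [Field F] [Fintype F] {ι : Type} [Fintype ι] [DecidableEq ι] {Q : QuadraticForm F (ι → F)}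
variable {E : Type*} [Field E] [Fintype E] [Algebra F E] [Module E (ι → F)] [IsScalarTower F E (ι → F)]

local notation "V" => (ι → F)
local notation "Mn" => Matrix ι ι F
local notation "B" => QuadraticMap.polar ⇑Q
local notation "τ" => Algebra.trace F E

/-- A functional separating a vector from a subspace is a trace. -/
theorem exists_trace_sep {W : Submodule F E} {s : E} (hs : s ∉ W) :
    ∃ y, (∀ w ∈ W, τ (y * w) = 0) ∧ τ (y * s) ≠ 0 := by
  haveI := finiteE (F := F) (E := E)
  obtain ⟨f, hf, hfW⟩ := Submodule.exists_dual_map_eq_bot_of_notMem hs inferInstance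
  let Θ : E →ₗ[F] Module.Dual F E :=
    { toFun := fun z => (τ).comp (LinearMap.mulLeft F z)
      map_add' := fun a b => LinearMap.ext fun k => by simp [add_mul]
      map_smul' := fun c a => LinearMap.ext fun k => by simp }
  have hΘ : Function.Injective Θ := fun a b h => trace_ext fun k => by
    rw [mul_comm k a, mul_comm k b]; exact LinearMap.congr_fun h k
  obtain ⟨y, rfl⟩ := (LinearMap.injective_iff_surjective_of_finrank_eq_finrank
      (Subspace.dual_finrank_eq : finrank F (Module.Dual F E) = finrank F E).symm).1 hΘ f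
  exact ⟨y, fun w hw => (Submodule.mem_bot F).1 (hfW ▸ Submodule.mem_map_of_mem hw), hf⟩

namespace OF

variable {h : (ι → F) → (ι → F) → E} {M : Subgroup (GL ι F)} (O : OF Q h M)
  (hr : (finrank F E).Prime) (hNW : NoWin h M) (h5 : 5 ≤ finrank F E)
include O hr hNW h5

omit h5 in
/-- A line map fixing two independent vectors of the line fixes it. -/
theorem fix_line {m : GL ι F} (hm : m ∈ M) {b : V} (hb0 : b ≠ 0) (hb : h b b = 0) {i j : E} (hi0 : i ≠ 0)
    (hij : ∀ a : F, a • i ≠ j) (hall : ∀ x, x ∈ (meet m b b : Submodule F E))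
    (ei : (m : Mn) *ᵥ (i • b) = i • b) (ej : (m : Mn) *ᵥ (j • b) = j • b) (x : E) :
    (m : Mn) *ᵥ (x • b) = x • b := by
  obtain ⟨σ, hσ⟩ := O.line_semi hr hNW hm hb0 hb hb0 hb hall
  obtain ⟨γ, hγ⟩ := mem_meet.1 (hall 1)
  rw [one_smul] at hγ
  have hσb : ∀ x, (m : Mn) *ᵥ (x • b) = (σ x * γ) • b := fun x => by rw [hσ, ← hγ, smul_smul]
  have e1 := smul_left_injective E hb0 ((hσb i).symm.trans ei)
  have e2 := smul_left_injective E hb0 ((hσb j).symm.trans ej)
  have hγ0 : γ ≠ 0 := fun e => hi0 (by rw [← e1, e, mul_zero])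
  have hσ1 : σ = AlgEquiv.refl := by
    refine aut_eq_one_of_fixed hr σ (x := j / i) (fun a e => hij a ?_) ?_
    · rw [Algebra.smul_def, e, div_mul_cancel₀ _ hi0]
    · rw [map_div₀, div_eq_div_iff (fun e => hi0 (σ.injective (e.trans (map_zero σ).symm))) hi0]
      exact mul_right_cancel₀ hγ0 (by linear_combination i * e2 - j * e1)
  subst hσ1
  simp only [AlgEquiv.coe_refl, id] at e1
  rw [hσb, show γ = 1 from mul_left_cancel₀ hi0 (by rw [e1, mul_one]), mul_one]
  rfl

/-- A root element which is not linear enlarges a meet of dimension at least two. -/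
theorem root_absurd {g : GL ι F} {b c : V} (ht : Triple h M g b c) (hmax : IsMax h M g b c) {i j : E}
    (hi0 : i ≠ 0) (hij : ∀ a : F, a • i ≠ j) (hi : i ∈ (meet g b c : Submodule F E))
    (hj : j ∈ (meet g b c : Submodule F E)) {φ : V →ₗ[F] E} (hφ : Rt h M c φ) {w : V} (hw : h c w = 0) {k₀ : E}
    (hne : φ (k₀ • w) ≠ k₀ * φ w) : False := by
  classical
  have H := O.form
  haveI := finiteE (F := F) (E := E)
  obtain ⟨hg, hb0, hb, hc0, hc, -, k₁, hk₁⟩ := id ht
  obtain ⟨c', hc', hcc⟩ := H.exists_pair O.two hc0 hc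
  obtain ⟨s₀, hs₀⟩ := mem_meet.1 hi
  obtain ⟨x, hx⟩ : ∃ x, x = h c ((g : Mn) *ᵥ (k₁ • b)) := ⟨_, rfl⟩
  have hx0 : x ≠ 0 := hx ▸ O.psi_ne hr hNW (fun e => absurd e (by omega)) ht hmax hk₁
  have hsx : τ (s₀ * x) = 0 := by
    rw [hx, ← H.spec, hs₀, isometry_polar (O.iso g hg), H.form, H.smul_left, H.smul_right, hb, mul_zero, mul_zero,
      map_zero]
  let 𝒵 : Submodule F (E →ₗ[F] E) :=
    { carrier := {A | ∀ a : F, Zt h M c (a • A)}
      zero_mem' := fun a => ⟨1, one_mem M, fun z => by simp⟩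
      add_mem' := fun {A A'} hA hA' a => by
        obtain ⟨m, hm, hmx⟩ := hA a
        obtain ⟨m', hm', hmx'⟩ := hA' a
        refine ⟨m * m', mul_mem hm hm', fun z => ?_⟩
        rw [Units.val_mul, ← Matrix.mulVec_mulVec, hmx', hmx, H.add_right, H.smul_right, hc, mul_zero, add_zero,
          smul_add, LinearMap.add_apply, add_smul]
        abel
      smul_mem' := fun b' A hA a => by rw [smul_smul]; exact hA _ }
  have hgen : ∀ a s : E, ∃ A ∈ 𝒵, ∀ t k, τ (t * A k) =
      τ (t * (a * φ (k • s • w))) - τ (k * (a * φ (t • s • w))) := by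
    intro a s
    have hsw : h c (s • w) = 0 := by rw [H.smul_right, hw, mul_zero]
    obtain ⟨A, -, hA⟩ := O.bracket hc hcc hsw (O.left_mul hr hNW hc0 hc a hφ)
    refine ⟨A, fun l => ?_, hA⟩
    obtain ⟨A', hA', hA''⟩ := O.bracket hc hcc hsw (O.left_mul hr hNW hc0 hc (l • a) hφ)
    suffices e : l • A = A' by rw [e]; exact hA'
    refine LinearMap.ext fun k => trace_ext (F := F) fun t => ?_
    rw [hA'', LinearMap.smul_apply, mul_smul_comm, map_smul, hA]
    simp only [LinearMap.comp_apply, LinearMap.mulLeft_apply, smul_mul_assoc, mul_smul_comm, map_smul, smul_sub]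
  obtain ⟨A, hAZ, hAx⟩ : s₀ ∈ 𝒵.map (LinearMap.applyₗ x) := by
    by_contra hcon
    obtain ⟨y, hy, hys⟩ := exists_trace_sep hcon
    have hcomm : ∀ k, φ ((y / x * k) • w) = y / x * φ (k • w) := fun k => by
      have e : y * φ (x • (k / x) • w) = x * φ (y • (k / x) • w) := trace_ext (F := F) fun a => by
        obtain ⟨A, hA, hA'⟩ := hgen a (k / x)
        have h1 := hA' y x
        rw [show τ (y * A x) = 0 from hy _ (Submodule.mem_map_of_mem (f := LinearMap.applyₗ x) hA)] at h1
        rw [show a * (y * φ (x • (k / x) • w)) = y * (a * φ (x • (k / x) • w)) by ring,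
          show a * (x * φ (y • (k / x) • w)) = x * (a * φ (y • (k / x) • w)) by ring]
        exact sub_eq_zero.1 h1.symm
      rw [smul_smul, smul_smul, show x * (k / x) = k by field_simp, show y * (k / x) = y / x * k by ring] at e
      refine mul_left_cancel₀ hx0 ?_
      rw [← e]
      field_simp
    let R : Subalgebra F E :=
      { carrier := {ρ | ∀ k, φ ((ρ * k) • w) = ρ * φ (k • w)}
        mul_mem' := fun {ρ ρ'} h1 h2 k => by rw [mul_assoc, h1, h2, mul_assoc]
        one_mem' := fun k => by rw [one_mul, one_mul]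
        add_mem' := fun {ρ ρ'} h1 h2 k => by rw [add_mul, add_smul, map_add, h1, h2, add_mul]
        zero_mem' := fun k => by rw [zero_mul, zero_smul, map_zero, zero_mul]
        algebraMap_mem' := fun a k => by rw [← Algebra.smul_def, smul_assoc, map_smul, Algebra.smul_def] }
    haveI := Subalgebra.isSimpleOrder_of_finrank_prime F E hr
    have hρ : y / x ∈ R := hcomm
    rcases IsSimpleOrder.eq_bot_or_eq_top R with hb' | htop
    · rw [hb', Algebra.mem_bot] at hρ
      obtain ⟨a, ha⟩ := hρ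
      refine hys ?_
      rw [show y = algebraMap F E a * x by rw [ha, div_mul_cancel₀ _ hx0], mul_assoc, mul_comm x, ← Algebra.smul_def,
        map_smul, hsx, smul_zero]
    · have h1 : k₀ ∈ R := htop ▸ Algebra.mem_top
      exact hne (by simpa using h1 1)
  change A x = s₀ at hAx
  obtain ⟨m, hm, hmx⟩ : Zt h M c A := by simpa using hAZ 1
  obtain ⟨g', hg'⟩ : ∃ g', g' = g⁻¹ * m * g := ⟨_, rfl⟩
  have hg'M : g' ∈ M := hg' ▸ mul_mem (mul_mem (inv_mem hg) hm) hg
  have hgg : ∀ z, (g : Mn) *ᵥ ((g' : Mn) *ᵥ z) = (m : Mn) *ᵥ ((g : Mn) *ᵥ z) := fun z => by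
    rw [hg', Units.val_mul, Units.val_mul, ← Matrix.mulVec_mulVec, ← Matrix.mulVec_mulVec, mulVec_inv_cancel]
  have hfix : ∀ k ∈ (meet g b c : Submodule F E), (g' : Mn) *ᵥ (k • b) = k • b := fun k hk => by
    obtain ⟨s, hs⟩ := mem_meet.1 hk
    refine gl_mulVec_injective g ?_
    show (g : Mn) *ᵥ _ = (g : Mn) *ᵥ _
    rw [hgg, ← hs, hmx, H.smul_right, hc, mul_zero, map_zero, zero_smul, add_zero]
  have hmove : (g' : Mn) *ᵥ (k₁ • b) = (k₁ + i) • b := by
    refine gl_mulVec_injective g ?_
    show (g : Mn) *ᵥ _ = (g : Mn) *ᵥ _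
    rw [hgg, hmx, ← hx, hAx, add_smul, Matrix.mulVec_add, hs₀]
  by_cases hall : ∀ k, k ∈ (meet g' b b : Submodule F E)
  · have h1 := O.fix_line hr hNW hg'M hb0 hb hi0 hij hall (hfix i hi) (hfix j hj) k₁
    rw [hmove, add_smul, add_eq_left, smul_eq_zero] at h1
    exact h1.elim hi0 hb0
  · push Not at hall
    have hle : (meet g b c : Submodule F E) ≤ meet g' b b := fun k hk => mem_meet.2 ⟨k, (hfix k hk).symm⟩
    have hlt : (meet g b c : Submodule F E) < meet g' b b := lt_of_le_not_ge hle fun hge =>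
      hk₁ (hge (mem_meet.2 ⟨k₁ + i, hmove.symm⟩))
    have h1 := hmax g' b b ⟨hg'M, hb0, hb, hb0, hb, ⟨i, hi0, hle hi⟩, hall⟩
    have h2 := Submodule.finrank_lt_finrank_of_lt hlt
    omega

end OF

end Cfsg.Agent.Classical.OrthField
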