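import Cfsg.Agent.Lib.Classical.MaxOrthFieldThreeRoot
import Cfsg.Agent.Lib.Grp.CoprimeAbelian

/-!
Orthogonal groups over an extension field in dimension three: the stabiliser of two vectors on one singular line.
Its Sylow subgroup at the characteristic is abelian and self-normalising, so Burnside's transfer theorem and
generation by centralisers show that it fixes the line.
-/

set_option autoImplicit false
set_option linter.unusedSectionVars false
set_option quotPrecheck false
set_option linter.style.haveILetI false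

namespace Cfsg.Agent.Classical.OrthField

open Matrix Module MaxTv OrthAut Overfield

variable {F : Type*} [Field F] [Fintype F] {ι : Type} [Fintype ι] [DecidableEq ι] {Q : QuadraticForm F (ι → F)}
variable {E : Type*} [Field E] [Fintype E] [Algebra F E] [Module E (ι → F)] [IsScalarTower F E (ι → F)]

local notation "V" => (ι → F)
local notation "Mn" => Matrix ι ι F
local notation "B" => QuadraticMap.polar ⇑Q
local notation "τ" => Algebra.trace F E

theorem det_coe_eq_one_of_toLin {m : GL ι F} (hm : LinearMap.det (Matrix.toLin' (m : Mn)) = 1) :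
    (m : Mn).det = 1 := by rwa [LinearMap.det_toLin'] at hm

theorem pow_eq_one_of_toLin {m : GL ι F} {n : ℕ} (hm : Matrix.toLin' (m : Mn) ^ n = 1) : m ^ n = 1 := by
  refine Units.ext (Matrix.toLinAlgEquiv'.injective ?_)
  rw [Units.val_pow_eq_pow_val, map_pow, Units.val_one, map_one]
  exact hm

namespace OF

variable {h : (ι → F) → (ι → F) → E} {M : Subgroup (GL ι F)} (O : OF Q h M)
  (hd : finrank E (ι → F) = 3)
include O hd

/-- The frame of a singular pair and an anisotropic vector perpendicular to it. -/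
theorem frame {c c' y : V} (hc : h c c = 0) (hc' : h c' c' = 0) (hcc : h c c' = 1) (hcy : h c y = 0)
    (hc'y : h c' y = 0) (hy : h y y ≠ 0) :
    LinearIndependent E ![c, c', y] ∧ ∀ x, x = h c' x • c + h c x • c' + (h y x / h y y) • y := by
  have H := O.form
  haveI : Module.Finite E (ι → F) := Module.Finite.of_restrictScalars_finite F E _
  have hli : LinearIndependent E ![c, c', y] := by
    rw [Fintype.linearIndependent_iff]
    intro a ha
    rw [Fin.sum_univ_three] at ha
    simp only [Matrix.cons_val_zero, Matrix.cons_val_one, Matrix.cons_val_two, Matrix.head_cons,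
      Matrix.tail_cons] at ha
    have e1 := congrArg (h c') ha
    have e2 := congrArg (h c) ha
    have e3 := congrArg (h y) ha
    simp only [H.add_right, H.smul_right, H.zero_right, hc, hc', hcc, H.symm c c', hcy, hc'y, H.symm c y,
      H.symm c' y, mul_zero, mul_one, add_zero, zero_add] at e1 e2 e3
    intro i
    fin_cases i
    · exact e1
    · exact e2
    · exact (mul_eq_zero.1 e3).resolve_right hy
  refine ⟨hli, fun x => ?_⟩
  have hsp := hli.span_eq_top_of_card_eq_finrank (by rw [Fintype.card_fin, hd])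
  obtain ⟨a, ha⟩ := (Submodule.mem_span_range_iff_exists_fun E).1 (hsp ▸ Submodule.mem_top (x := x))
  rw [Fin.sum_univ_three] at ha
  simp only [Matrix.cons_val_zero, Matrix.cons_val_one, Matrix.cons_val_two, Matrix.head_cons,
    Matrix.tail_cons] at ha
  rw [← ha]
  simp only [H.add_right, H.smul_right, hc, hc', hcc, H.symm c c', hcy, hc'y, H.symm c y, H.symm c' y,
    mul_zero, mul_one, add_zero, zero_add, mul_div_cancel_right₀ _ hy]

variable {c c' y : ι → F} (hc : h c c = 0) (hc' : h c' c' = 0) (hcc : h c c' = 1) (hcy : h c y = 0)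
  (hc'y : h c' y = 0) (hy : h y y ≠ 0)
include hc hc' hcc hcy hc'y hy

/-- A vector perpendicular to `c` and `y` lies on the line of `c`. -/
theorem eq_smul_c {z : V} (h1 : h c z = 0) (h2 : h y z = 0) : z = h c' z • c := by
  conv_lhs => rw [(O.frame hd hc hc' hcc hcy hc'y hy).2 z, h1, h2, zero_div, zero_smul, zero_smul, add_zero,
    add_zero]

/-- A map fixing the flag of `c` with trivial layers has order dividing the characteristic. -/
theorem flag_pow {p : ℕ} [hp : Fact p.Prime] [CharP F p] (L : V →ₗ[F] V) (hfix : ∀ k : E, L (k • c) = k • c)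
    (hperp : ∀ z, h c (L z) = h c z) (hmid : ∀ x, h c x = 0 → h y (L x) = h y x) :
    L ^ p = 1 ∧ LinearMap.det L = 1 := by
  haveI : CharP (Module.End F V) p := by
    haveI : Nontrivial V := ⟨⟨c, 0, fun e => one_ne_zero (α := E) (by rw [← hcc, e, O.form.zero_left])⟩⟩
    exact charP_of_injective_algebraMap (algebraMap F (Module.End F V)).injective p
  have hp3 : 3 ≤ p := by
    have h2 := hp.out.two_le
    rcases eq_or_lt_of_le h2 with e | e
    · subst e; exact absurd CharTwo.two_eq_zero O.two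
    · exact e
  obtain ⟨δ, hδ⟩ : ∃ δ : Module.End F V, δ = L - 1 := ⟨_, rfl⟩
  have hδa : ∀ z, δ z = L z - z := fun z => by rw [hδ, LinearMap.sub_apply, Module.End.one_apply]
  have h1 : ∀ z, h c (δ z) = 0 := fun z => by rw [hδa, O.form.sub_right, hperp, sub_self]
  have h2 : ∀ x, h c x = 0 → δ x = h c' (δ x) • c := fun x hx => O.eq_smul_c hd hc hc' hcc hcy hc'y hy (h1 x)
    (by rw [hδa, O.form.sub_right, hmid x hx, sub_self])
  have h3 : δ ^ 3 = 0 := LinearMap.ext fun z => by
    rw [pow_succ, pow_two, Module.End.mul_apply, Module.End.mul_apply, LinearMap.zero_apply,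
      h2 (δ z) (h1 z), hδa (_ • c), hfix, sub_self]
  have h4 : (L - 1) ^ p = L ^ p - 1 := by
    rw [sub_pow_char_of_commute p (Commute.one_right L), one_pow]
  have h5 : L ^ p = 1 := by
    rw [← sub_eq_zero, ← h4, ← hδ, pow_eq_zero_of_le hp3 h3]
  refine ⟨h5, ?_⟩
  have h6 : LinearMap.det L ^ p = 1 := by rw [← map_pow, h5, map_one]
  have h7 : (LinearMap.det L - 1) ^ p = 0 := by rw [sub_pow_char, h6, one_pow, sub_self]
  exact sub_eq_zero.1 (eq_zero_of_pow_eq_zero h7)

/-- The determinant of the reflection in `y`. -/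
theorem det_reflect :
    LinearMap.det ((LinearMap.id - ((2 / h y y) • O.form.func y).smulRight y : V →ₗ[E] V).restrictScalars F) =
      (-1) ^ finrank F E := by
  have H := O.form
  haveI := finiteE (F := F) (E := E)
  haveI : Module.Finite E (ι → F) := Module.Finite.of_restrictScalars_finite F E _
  obtain ⟨hli, -⟩ := O.frame hd hc hc' hcc hcy hc'y hy
  let bs := basisOfLinearIndependentOfCardEqFinrank hli (by rw [Fintype.card_fin, hd])
  obtain ⟨D, hD⟩ : ∃ D : V →ₗ[E] V, D = LinearMap.id - ((2 / h y y) • H.func y).smulRight y := ⟨_, rfl⟩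
  rw [← hD, LinearMap.det_restrictScalars]
  have hDb : ∀ i, D (bs i) = (![1, 1, -1] : Fin 3 → E) i • bs i := fun i => by
    rw [hD]
    simp only [bs, coe_basisOfLinearIndependentOfCardEqFinrank, LinearMap.sub_apply, LinearMap.id_apply,
      LinearMap.smulRight_apply, LinearMap.smul_apply, HForm.func_apply, smul_eq_mul]
    fin_cases i <;> simp [H.symm c y, hcy, H.symm c' y, hc'y]
    rw [div_mul_cancel₀ _ hy]
    module
  have hdet : LinearMap.det D = -1 := by
    rw [← LinearMap.det_toMatrix bs, show LinearMap.toMatrix bs bs D = Matrix.diagonal ![1, 1, -1] by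
      ext i j
      rw [LinearMap.toMatrix_apply, hDb, map_smul, Finsupp.smul_apply, Basis.repr_self, Matrix.diagonal_apply]
      by_cases e : i = j
      · subst e; simp
      · simp [e, Ne.symm e]]
    rw [Matrix.det_diagonal, Fin.prod_univ_three]
    simp
  rw [hdet, show (-1 : E) = algebraMap F E (-1) by rw [map_neg, map_one], Algebra.norm_algebraMap]

variable (hodd : Odd (finrank F E))
  (hlin : ∀ φ, Rt h M c φ → ∀ w, h c w = 0 → ∀ k : E, φ (k • w) = k * φ w)
include hodd hlin

/-- An element fixing the line of `c` with determinant one is trivial on the middle layer. -/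
theorem mid_one {p : ℕ} [Fact p.Prime] [CharP F p] {m : GL ι F} (hm : m ∈ M)
    (hfix : ∀ k : E, (m : Mn) *ᵥ (k • c) = k • c) (hdet : (m : Mn).det = 1) {x : V} (hx : h c x = 0) :
    h y ((m : Mn) *ᵥ x) = h y x := by
  have H := O.form
  have hperp := O.delta_perp hm hfix
  obtain ⟨R, hR, hRx⟩ := O.siegel_mem hc hcy
  obtain ⟨φ, hφ⟩ : ∃ φ : V →ₗ[F] E, φ = -(((H.func y).restrictScalars F).comp (Matrix.toLin' (m : Mn))) :=
    ⟨_, rfl⟩
  have hφa : ∀ z, φ z = -h y ((m : Mn) *ᵥ z) := fun z => by rw [hφ]; simp [HForm.func_apply]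
  have hRt : Rt h M c φ := by
    refine ⟨fun k => by rw [hφa, hfix, H.smul_right, H.symm c y, hcy, mul_zero, neg_zero], m⁻¹ * R * m,
      mul_mem (mul_mem (inv_mem hm) hR) hm, fun z hz => gl_mulVec_injective m ?_⟩
    show (m : Mn) *ᵥ _ = (m : Mn) *ᵥ _
    rw [Units.val_mul, Units.val_mul, ← Matrix.mulVec_mulVec, ← Matrix.mulVec_mulVec, mulVec_inv_cancel, hRx,
      H.siegel_apply_perp (by rw [hperp, hz]), Matrix.mulVec_add, hfix, hφa]
  obtain ⟨β, hβ⟩ : ∃ β, β = h y ((m : Mn) *ᵥ y) / h y y := ⟨_, rfl⟩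
  have hmx : ∀ z, h c z = 0 → h y ((m : Mn) *ᵥ z) = β * h y z := fun z hz => by
    have e := (O.frame hd hc hc' hcc hcy hc'y hy).2 z
    rw [hz, zero_smul, add_zero] at e
    have e1 := hlin φ hRt y hcy (h y z / h y y)
    rw [hφa, hφa] at e1
    conv_lhs => rw [e, Matrix.mulVec_add, H.add_right, hfix, H.smul_right, H.symm c y, hcy, mul_zero, zero_add]
    rw [hβ]
    linear_combination -e1
  have hin : ∀ z, h c z = 0 → ∀ w, h c w = 0 → h z w = h y z * h y w / h y y := fun z hz w hw => by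
    have e := (O.frame hd hc hc' hcc hcy hc'y hy).2 z
    rw [hz, zero_smul, add_zero] at e
    conv_lhs => rw [e, H.add_left, H.smul_left, H.smul_left, hw, mul_zero, zero_add]
    ring
  have hβ2 : β * β * h y y = h y y := trace_ext (F := F) fun s => by
    have hs : h c (s • y) = 0 := by rw [H.smul_right, hcy, mul_zero]
    have e := isometry_polar (O.iso m hm) (s • y) y
    rw [H.form, hin _ (by rw [hperp, hs]) _ (by rw [hperp, hcy]), hmx _ hs, hmx _ hcy, H.smul_right, H.spec] at e
    rw [← e]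
    congr 1
    field_simp
  have hβ1 : β = 1 := by
    rcases mul_self_eq_one_iff.1 (mul_right_cancel₀ hy (hβ2.trans (one_mul _).symm)) with e | e
    · exact e
    exfalso
    obtain ⟨D, hD⟩ : ∃ D : V →ₗ[E] V, D = LinearMap.id - ((2 / h y y) • H.func y).smulRight y := ⟨_, rfl⟩
    have hDa : ∀ z, D z = z - (2 / h y y * h y z) • y := fun z => by rw [hD]; rfl
    obtain ⟨-, h1⟩ := O.flag_pow hd hc hc' hcc hcy hc'y hy (p := p)
      ((D.restrictScalars F).comp (Matrix.toLin' (m : Mn)))
      (fun k => by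
        show D ((m : Mn) *ᵥ (k • c)) = _
        rw [hfix, hDa, H.smul_right, H.symm c y, hcy, mul_zero, mul_zero, zero_smul, sub_zero])
      (fun z => by
        show h c (D ((m : Mn) *ᵥ z)) = _
        rw [hDa, H.sub_right, H.smul_right, hcy, mul_zero, sub_zero, hperp])
      (fun z hz => by
        show h y (D ((m : Mn) *ᵥ z)) = _
        rw [hDa, H.sub_right, H.smul_right, hmx z hz, e]
        field_simp
        ring)
    rw [LinearMap.det_comp, hD, O.det_reflect hd hc hc' hcc hcy hc'y hy, LinearMap.det_toLin', hdet, mul_one,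
      hodd.neg_one_pow] at h1
    exact O.two (by linear_combination -h1)
  rw [hmx x hx, hβ1, one_mul]

/-- The action of such an element is governed by one scalar. -/
theorem layer {p : ℕ} [Fact p.Prime] [CharP F p] {m : GL ι F} (hm : m ∈ M)
    (hfix : ∀ k : E, (m : Mn) *ᵥ (k • c) = k • c) (hdet : (m : Mn).det = 1) :
    ∃ e : E, (∀ x, h c x = 0 → (m : Mn) *ᵥ x = x + (h y x / h y y * e) • c) ∧
      ∀ z, h y ((m : Mn) *ᵥ z - z) = -(e * h c z) := by
  have H := O.form
  have hperp := O.delta_perp hm hfix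
  obtain ⟨φ, hφ⟩ : ∃ φ : V →ₗ[F] E,
      φ = ((H.func c').restrictScalars F).comp (Matrix.toLin' (m : Mn) - LinearMap.id) := ⟨_, rfl⟩
  have hφa : ∀ z, φ z = h c' ((m : Mn) *ᵥ z - z) := fun z => by rw [hφ]; simp [HForm.func_apply]
  have hx : ∀ x, h c x = 0 → (m : Mn) *ᵥ x = x + φ x • c := fun x hx => by
    rw [hφa, ← O.eq_smul_c hd hc hc' hcc hcy hc'y hy (by rw [H.sub_right, hperp, sub_self])
      (by rw [H.sub_right, O.mid_one hd hc hc' hcc hcy hc'y hy hodd hlin (p := p) hm hfix hdet hx, sub_self])]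
    abel
  have hRt : Rt h M c φ := ⟨fun k => by rw [hφa, hfix, sub_self, H.zero_right], m, hm, hx⟩
  have hφy : ∀ x, h c x = 0 → φ x = h y x / h y y * φ y := fun x hx' => by
    have e := (O.frame hd hc hc' hcc hcy hc'y hy).2 x
    rw [hx', zero_smul, add_zero] at e
    conv_lhs => rw [e, map_add, hRt.1, zero_add, hlin φ hRt y hcy]
  refine ⟨φ y, fun x hx' => by rw [hx x hx', hφy x hx'], fun z => trace_ext (F := F) fun t => ?_⟩
  have e := isometry_polar (O.iso m hm) (t • y) z
  rw [hx _ (by rw [H.smul_right, hcy, mul_zero]), hlin φ hRt y hcy, QuadraticMap.polar_add_left, H.spec, H.spec,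
    H.spec, hperp] at e
  rw [H.sub_right, mul_sub, map_sub, show t * -(φ y * h c z) = -(t * φ y * h c z) by ring, map_neg]
  linear_combination e

/-- Two elements fixing the line of `c` with determinant one commute. -/
theorem fix_commute {p : ℕ} [Fact p.Prime] [CharP F p] {m n : GL ι F} (hm : m ∈ M) (hn : n ∈ M)
    (hfm : ∀ k : E, (m : Mn) *ᵥ (k • c) = k • c) (hdm : (m : Mn).det = 1)
    (hfn : ∀ k : E, (n : Mn) *ᵥ (k • c) = k • c) (hdn : (n : Mn).det = 1) : m * n = n * m := by
  have H := O.form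
  obtain ⟨e, he, he'⟩ := O.layer hd hc hc' hcc hcy hc'y hy hodd hlin (p := p) hm hfm hdm
  obtain ⟨e₂, he₂, he₂'⟩ := O.layer hd hc hc' hcc hcy hc'y hy hodd hlin (p := p) hn hfn hdn
  refine Units.ext (Matrix.ext_iff_mulVec.2 fun z => ?_)
  rw [Units.val_mul, Units.val_mul, ← Matrix.mulVec_mulVec, ← Matrix.mulVec_mulVec]
  obtain ⟨a, ha⟩ : ∃ a, a = (m : Mn) *ᵥ z - z := ⟨_, rfl⟩
  obtain ⟨b, hb⟩ : ∃ b, b = (n : Mn) *ᵥ z - z := ⟨_, rfl⟩
  have ha' : (m : Mn) *ᵥ z = z + a := by rw [ha]; abel
  have hb' : (n : Mn) *ᵥ z = z + b := by rw [hb]; abel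
  rw [ha', hb', Matrix.mulVec_add, Matrix.mulVec_add, ha', hb',
    he b (by rw [hb, H.sub_right, O.delta_perp hn hfn, sub_self]),
    he₂ a (by rw [ha, H.sub_right, O.delta_perp hm hfm, sub_self]),
    show h y b = -(e₂ * h c z) from hb ▸ he₂' z, show h y a = -(e * h c z) from ha ▸ he' z]
  module

end OF

namespace OF

variable {h : (ι → F) → (ι → F) → E} {M : Subgroup (GL ι F)} (O : OF Q h M)
  (hr : (finrank F E).Prime) (hNW : NoWin h M) (h5 : 3 ≤ finrank F E) (hd : finrank E (ι → F) = 3)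
include O hr hNW h5 hd

/-- With linear root elements no line meets the image of a line in two dimensions. -/
theorem stab_absurd {g : GL ι F} {b c : V} (ht : Triple h M g b c) {i j : E} (hi0 : i ≠ 0)
    (hij : ∀ a : F, a • i ≠ j) (hi : i ∈ (meet g b c : Submodule F E)) (hj : j ∈ (meet g b c : Submodule F E))
    (hlin : ∀ φ, Rt h M c φ → ∀ w, h c w = 0 → ∀ k : E, φ (k • w) = k * φ w) : False := by
  classical
  have H := O.form
  haveI := finiteE (F := F) (E := E)
  obtain ⟨p, hp⟩ := CharP.exists F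
  haveI hpf : Fact p.Prime := ⟨CharP.char_is_prime F p⟩
  have hodd : Odd (finrank F E) := hr.odd_of_ne_two (by omega)
  obtain ⟨hg, hb0, hb, hc0, hc, -, k₁, hk₁⟩ := id ht
  obtain ⟨c', hc', hcc⟩ := H.exists_pair O.two hc0 hc
  obtain ⟨y, hcy, hc'y, hy⟩ := H.exists_aniso_W0 O.two O.dim hc hc' hcc
  obtain ⟨s₁, hs₁⟩ := mem_meet.1 hi
  obtain ⟨s₂, hs₂⟩ := mem_meet.1 hj
  have hs10 : s₁ ≠ 0 := fun e => hi0 (pair_injective hb0 g
    (by rw [← hs₁, e, zero_smul, zero_smul, Matrix.mulVec_zero]))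
  have hs12 : ∀ a : F, a • s₁ ≠ s₂ := fun a e => hij a (pair_injective hb0 g
    (by rw [← hs₂, ← e, smul_assoc, smul_assoc, Matrix.mulVec_smul, hs₁]))
  let T : Subgroup (GL ι F) :=
    { carrier := {m | m ∈ M ∧ (m : Mn) *ᵥ (s₁ • c) = s₁ • c ∧ (m : Mn) *ᵥ (s₂ • c) = s₂ • c ∧ (m : Mn).det = 1}
      one_mem' := ⟨one_mem M, by simp, by simp, by simp⟩
      mul_mem' := fun {m n} h1 h2 => ⟨mul_mem h1.1 h2.1,
        by rw [Units.val_mul, ← Matrix.mulVec_mulVec, h2.2.1, h1.2.1],
        by rw [Units.val_mul, ← Matrix.mulVec_mulVec, h2.2.2.1, h1.2.2.1],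
        by rw [Units.val_mul, Matrix.det_mul, h2.2.2.2, h1.2.2.2, mul_one]⟩
      inv_mem' := fun {m} h1 => ⟨inv_mem h1.1,
        by conv_lhs => rw [← h1.2.1, inv_mulVec_cancel],
        by conv_lhs => rw [← h1.2.2.1, inv_mulVec_cancel],
        by
          have e := congrArg Matrix.det (show ((m⁻¹ : GL ι F) : Mn) * (m : Mn) = 1 by
            rw [← Units.val_mul, inv_mul_cancel, Units.val_one])
          rwa [Matrix.det_mul, h1.2.2.2, mul_one, Matrix.det_one] at e⟩ }
  let P : Subgroup T :=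
    { carrier := {m | ∀ k : E, ((m : GL ι F) : Mn) *ᵥ (k • c) = k • c}
      one_mem' := fun k => by simp
      mul_mem' := fun {m n} h1 h2 k => by
        rw [Subgroup.coe_mul, Units.val_mul, ← Matrix.mulVec_mulVec, h2 k, h1 k]
      inv_mem' := fun {m} h1 k => by
        rw [Subgroup.coe_inv]
        conv_lhs => rw [← h1 k, inv_mulVec_cancel] }
  have hPcomm : ∀ m ∈ P, ∀ n ∈ P, m * n = n * m := fun m hm n hn => Subtype.ext
    (O.fix_commute hd hc hc' hcc hcy hc'y hy hodd hlin (p := p) m.2.1 n.2.1 hm m.2.2.2.2 hn n.2.2.2.2)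
  have hPp : IsPGroup p P := fun m => ⟨1, by
    rw [pow_one]
    refine Subtype.ext (Subtype.ext ?_)
    rw [SubmonoidClass.coe_pow, SubmonoidClass.coe_pow]
    refine pow_eq_one_of_toLin (O.flag_pow hd hc hc' hcc hcy hc'y hy (p := p) _ (fun k => m.2 k) (fun z => ?_)
      fun x hx => ?_).1
    · exact O.delta_perp m.1.2.1 m.2 z
    · exact O.mid_one hd hc hc' hcc hcy hc'y hy hodd hlin (p := p) m.1.2.1 m.2 m.1.2.2.2.2 hx⟩
  -- the Siegel elements
  have hR : ∀ t : E, ∃ m ∈ P, ∀ z, ((m : GL ι F) : Mn) *ᵥ z = H.siegel c (t • y) z := by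
    intro t
    have hw : h c (t • y) = 0 := by rw [H.smul_right, hcy, mul_zero]
    obtain ⟨m, hm, hmx⟩ := O.siegel_mem hc hw
    have hf : ∀ k : E, (m : Mn) *ᵥ (k • c) = k • c := fun k => by
      rw [hmx, H.siegel_apply_perp (by rw [H.smul_right, hc, mul_zero]), H.smul_right, H.smul_left, H.symm c y,
        hcy, mul_zero, mul_zero, neg_zero, zero_smul, add_zero]
    have hdet := det_coe_eq_one_of_toLin (O.flag_pow hd hc hc' hcc hcy hc'y hy (p := p) _ (fun k => hf k)
      (fun z => O.delta_perp hm hf z) fun x hx => by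
        rw [Matrix.toLin'_apply, hmx, H.siegel_apply_perp hx, H.add_right, H.smul_right, H.symm c y, hcy, mul_zero,
          add_zero]).2
    exact ⟨⟨m, hm, hf _, hf _, hdet⟩, hf, hmx⟩
  choose R hRP hRx using hR
  have hRfix : ∀ t : E, t ≠ 0 → ∀ z, ((R t : GL ι F) : Mn) *ᵥ z = z → z = h c' z • c := by
    intro t ht0 z hz
    rw [hRx] at hz
    have e1 := congrArg (h y) hz
    simp only [H.siegel_apply, H.add_right, H.sub_right, H.smul_right, H.symm c y, hcy, mul_zero, sub_zero,
      add_eq_left, mul_eq_zero] at e1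
    have hcz : h c z = 0 := e1.resolve_right fun e => e.elim ht0 hy
    rw [H.siegel_apply_perp hcz, H.smul_left, add_eq_left, smul_eq_zero, neg_eq_zero, mul_eq_zero] at hz
    exact O.eq_smul_c hd hc hc' hcc hcy hc'y hy hcz ((hz.resolve_right hc0).resolve_left ht0)
  have hkey : ∀ n : T, (∀ k : E, ((R 1 : GL ι F) : Mn) *ᵥ (((n : GL ι F) : Mn) *ᵥ (k • c)) =
      ((n : GL ι F) : Mn) *ᵥ (k • c)) → n ∈ P := fun n hn k =>
    O.fix_line hr hNW n.2.1 hc0 hc hs10 hs12
      (fun x => mem_meet.2 ⟨_, (hRfix 1 one_ne_zero _ (hn x)).symm⟩) n.2.2.1 n.2.2.2.1 k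
  have hN : ∀ n ∈ Subgroup.normalizer (P : Set T), n ∈ P := fun n hn => hkey n fun k => by
    have h1 : n⁻¹ * R 1 * n ∈ P := by
      have := (Subgroup.mem_normalizer_iff.1 (inv_mem hn) (R 1)).1 (hRP 1)
      rwa [inv_inv] at this
    have h2 := congrArg (((n : GL ι F) : Mn) *ᵥ ·) (h1 k)
    simp only [Subgroup.coe_mul, Subgroup.coe_inv, Units.val_mul, ← Matrix.mulVec_mulVec, mulVec_inv_cancel] at h2
    exact h2
  obtain ⟨S, hS⟩ := hPp.exists_le_sylow
  have hSP : (S : Subgroup T) = P := by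
    refine le_antisymm (fun x hx => ?_) hS
    by_contra hxP
    haveI := S.isPGroup'.isNilpotent
    have hne : P.subgroupOf (S : Subgroup T) < ⊤ :=
      lt_top_iff_ne_top.2 fun e => hxP (Subgroup.mem_subgroupOf.1 (e ▸ Subgroup.mem_top (⟨x, hx⟩ : (S : Subgroup T))))
    obtain ⟨z, hz, hz'⟩ := SetLike.exists_of_lt (Group.normalizerCondition_of_isNilpotent _ hne)
    refine hz' (Subgroup.mem_subgroupOf.2 (hN _ (Subgroup.mem_normalizer_iff.2 fun u => ⟨fun hu => ?_, fun hu => ?_⟩)))
    · have := (Subgroup.mem_normalizer_iff.1 hz ⟨u, hS hu⟩).1 (Subgroup.mem_subgroupOf.2 hu)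
      simpa [Subgroup.mem_subgroupOf] using this
    · have hu' : u ∈ (S : Subgroup T) := by
        have := mul_mem (mul_mem (inv_mem z.2) (hS hu)) z.2
        simpa [mul_assoc] using this
      have := (Subgroup.mem_normalizer_iff.1 hz ⟨u, hu'⟩).2 (Subgroup.mem_subgroupOf.2 (by simpa using hu))
      exact Subgroup.mem_subgroupOf.1 this
  have hB : Subgroup.normalizer ((S : Subgroup T) : Set T) ≤ Subgroup.centralizer ((S : Subgroup T) : Set T) := by
    rw [hSP]
    exact fun n hn => Subgroup.mem_centralizer_iff.2 fun u hu => hPcomm u hu n (hN n hn)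
  have hcompl := MonoidHom.ker_transferSylow_isComplement' S hB
  have hndvd := MonoidHom.not_dvd_card_ker_transferSylow S hB
  obtain ⟨K, hK⟩ : ∃ K, K = (MonoidHom.transferSylow S hB).ker := ⟨_, rfl⟩
  haveI hKn : K.Normal := hK ▸ MonoidHom.normal_ker _
  rw [← hK] at hcompl hndvd
  have hradd : ∀ s t, R (s + t) = R s * R t := fun s t => by
    refine Subtype.ext (Units.ext (Matrix.ext_iff_mulVec.2 fun z => ?_))
    rw [Subgroup.coe_mul, Units.val_mul, ← Matrix.mulVec_mulVec, hRx, hRx, hRx]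
    simp only [H.siegel_apply, H.add_right, H.sub_right, H.smul_right, H.smul_left, hc, hcy, H.symm c y,
      H.add_left, add_smul]
    have hE := H.two_ne O.two
    match_scalars <;> field_simp <;> ring
  let A : Subgroup T :=
    { carrier := Set.range R
      one_mem' := ⟨0, by
        have := hradd 0 0
        rwa [add_zero, left_eq_mul] at this⟩
      mul_mem' := by rintro _ _ ⟨s, rfl⟩ ⟨t, rfl⟩; exact ⟨s + t, hradd s t⟩
      inv_mem' := by
        rintro _ ⟨s, rfl⟩
        refine ⟨-s, eq_inv_of_mul_eq_one_left ?_⟩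
        rw [← hradd, neg_add_cancel]
        have := hradd 0 0
        rwa [add_zero, left_eq_mul] at this }
  have hAP : A ≤ P := by rintro _ ⟨s, rfl⟩; exact hRP s
  haveI hAc : IsMulCommutative A := ⟨⟨fun u v => Subtype.ext (hPcomm u (hAP u.2) v (hAP v.2))⟩⟩
  have hAp : IsPGroup p A := hPp.to_le hAP
  have hRinj : ∀ s t, R s = R t → s = t := fun s t e => by
    have h1 := congrArg (h y) (((hRx s c').symm.trans (by rw [e, hRx t c'])))
    simpa [H.siegel_apply, H.add_right, H.sub_right, H.smul_right, hcc, hc'y, H.symm c' y, H.symm c y, hcy, hy]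
      using h1
  have hAnc : ¬ IsCyclic A := fun hA => by
    haveI := hA
    have h1 : Monoid.exponent A ∣ p := Monoid.exponent_dvd_of_forall_pow_eq_one fun u => by
      obtain ⟨s, hs⟩ : ∃ s, R s = u.1 := u.2
      have hn : ∀ n : ℕ, R s ^ n = R (n • s) := fun n => by
        induction n with
        | zero =>
          rw [pow_zero, zero_smul]
          have := hradd 0 0
          rw [add_zero, left_eq_mul] at this
          exact this.symm
        | succ n ih => rw [pow_succ, ih, succ_nsmul, hradd]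
      refine Subtype.ext ?_
      rw [SubmonoidClass.coe_pow, ← hs, hn, OneMemClass.coe_one]
      haveI : CharP E p := charP_of_injective_algebraMap (algebraMap F E).injective p
      rw [nsmul_eq_mul, CharP.cast_eq_zero, zero_mul]
      have := hradd 0 0
      rwa [add_zero, left_eq_mul] at this
    rw [IsCyclic.exponent_eq_card] at h1
    have h2 : Fintype.card E ≤ Nat.card A := by
      rw [← Nat.card_eq_fintype_card]
      exact Nat.card_le_card_of_injective (fun t => (⟨R t, t, rfl⟩ : A))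
        fun s t e => hRinj s t (congrArg Subtype.val e)
    have h3 : Fintype.card F ^ 2 ≤ Fintype.card E := by
      rw [show Fintype.card E = Fintype.card F ^ finrank F E from Module.card_eq_pow_finrank (K := F)]
      exact Nat.pow_le_pow_right Fintype.card_pos (by omega)
    obtain ⟨n, -, hn⟩ := FiniteField.card F p
    have h4 : p ≤ Fintype.card F := by rw [hn]; exact Nat.le_self_pow n.pos.ne' p
    have h5 := Nat.le_of_dvd hpf.out.pos h1
    nlinarith [hpf.out.two_le, h4]
  have hgen := Grp.generated_by_centralizers A K hAnc (by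
      rw [Subgroup.normalizer_eq_top]; exact le_top) (by
      obtain ⟨n, hn⟩ := IsPGroup.iff_card.1 hAp
      rw [hn]
      exact Nat.Coprime.pow_left _ (hpf.out.coprime_iff_not_dvd.2 hndvd))
  have hdisj : ∀ k ∈ K, k ∈ P → k = 1 := fun k hk hk' =>
    Subgroup.disjoint_def.1 hcompl.disjoint hk (hSP ▸ hk')
  have hK1 : K = ⊥ := by
    rw [← hgen, eq_bot_iff]
    refine iSup₂_le fun a ha => fun k hk => Subgroup.mem_bot.2 (hdisj k hk.1 (fun x => ?_))
    obtain ⟨⟨t, rfl⟩, hne⟩ := ha
    have ht0 : t ≠ 0 := fun e => hne (by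
      rw [e]
      have := hradd 0 0
      rwa [add_zero, left_eq_mul] at this)
    have hc2 : ∀ x : E, ((R t : GL ι F) : Mn) *ᵥ (((k : GL ι F) : Mn) *ᵥ (x • c)) =
        ((k : GL ι F) : Mn) *ᵥ (x • c) := fun x => by
      have h2 := congrArg (fun m : T => ((m : GL ι F) : Mn) *ᵥ (x • c))
        (Subgroup.mem_centralizer_iff.1 hk.2 (R t) rfl)
      simp only [Subgroup.coe_mul, Units.val_mul, ← Matrix.mulVec_mulVec, hRP t x] at h2
      exact h2
    exact O.fix_line hr hNW k.2.1 hc0 hc hs10 hs12 (fun x => mem_meet.2 ⟨_, (hRfix t ht0 _ (hc2 x)).symm⟩)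
      k.2.2.1 k.2.2.2.1 x
  have hPtop : P = ⊤ := by
    rw [← hSP, ← hcompl.sup_eq_top, hK1, bot_sup_eq]
  -- the root group of the other line fixes the line
  obtain ⟨b', hb', hbb⟩ := H.exists_pair O.two hb0 hb
  obtain ⟨z, hbz, hb'z, hz⟩ := H.exists_aniso_W0 O.two O.dim hb hb' hbb
  obtain ⟨m, hm, hmx⟩ := O.siegel_mem hb hbz
  have hmb : ∀ k : E, (m : Mn) *ᵥ (k • b) = k • b := fun k => by
    rw [hmx, H.siegel_apply_perp (by rw [H.smul_right, hb, mul_zero]), H.smul_right, H.symm b z, hbz, mul_zero,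
      neg_zero, zero_smul, add_zero]
  have hmdet := det_coe_eq_one_of_toLin (O.flag_pow hd hb hb' hbb hbz hb'z hz (p := p) _ (fun k => hmb k)
    (fun x => O.delta_perp hm hmb x) fun x hx => by
      rw [Matrix.toLin'_apply, hmx, H.siegel_apply_perp hx, H.add_right, H.smul_right, H.symm b z, hbz, mul_zero,
        add_zero]).2
  obtain ⟨u, hu⟩ : ∃ u, u = g * m * g⁻¹ := ⟨_, rfl⟩
  have hug : ∀ x, (u : Mn) *ᵥ ((g : Mn) *ᵥ x) = (g : Mn) *ᵥ ((m : Mn) *ᵥ x) := fun x => by
    rw [hu, Units.val_mul, Units.val_mul, ← Matrix.mulVec_mulVec, ← Matrix.mulVec_mulVec, inv_mulVec_cancel]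
  have huT : u ∈ T := ⟨hu ▸ mul_mem (mul_mem hg hm) (inv_mem hg),
    by rw [hs₁, hug, hmb], by rw [hs₂, hug, hmb], by
      rw [hu, Units.val_mul, Units.val_mul, Matrix.det_mul, Matrix.det_mul, hmdet, mul_one, ← Matrix.det_mul,
        ← Units.val_mul, mul_inv_cancel, Units.val_one, Matrix.det_one]⟩
  have huP : ∀ k : E, (u : Mn) *ᵥ (k • c) = k • c := (hPtop ▸ Subgroup.mem_top (⟨u, huT⟩ : T) : (⟨u, huT⟩ : T) ∈ P)
  have hback : ∀ k : E, ∃ l : E, (g : Mn) *ᵥ (l • b) = k • c := fun k => by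
    obtain ⟨x, hx⟩ : ∃ x, (g : Mn) *ᵥ x = k • c := ⟨_, mulVec_inv_cancel g _⟩
    have h1 : (m : Mn) *ᵥ x = x := gl_mulVec_injective g (by
      show (g : Mn) *ᵥ _ = (g : Mn) *ᵥ _
      rw [← hug, hx, huP])
    rw [hmx] at h1
    have hbx : h b x = 0 := (O.fixed_perp hr hNW hb hbb hb'z (fun e => hz (by rw [e, H.zero_left])) h1).1
    rw [H.siegel_apply_perp hbx, add_eq_left, smul_eq_zero, neg_eq_zero] at h1
    exact ⟨h b' x, by rw [← O.eq_smul_c hd hb hb' hbb hbz hb'z hz hbx (h1.resolve_right hb0), hx]⟩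
  choose l hl using hback
  have hlinj : Function.Injective l := fun k k' e => smul_left_injective E hc0 (by
    show k • c = k' • c
    rw [← hl, ← hl, e])
  obtain ⟨k, hk⟩ := (Finite.injective_iff_surjective.1 hlinj) k₁
  exact hk₁ (mem_meet.2 ⟨k, by rw [← hk, hl]⟩)

end OF

end Cfsg.Agent.Classical.OrthField
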