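import Cfsg.Agent.Lib.Classical.MaxOrthFieldMeet

/-!
Orthogonal groups over an extension field: if no line has the full radical then a line never meets the image of a
line properly.
-/

set_option autoImplicit false
set_option linter.unusedSectionVars false
set_option quotPrecheck false
set_option linter.style.haveILetI false

namespace Cfsg.Agent.Classical.OrthField

open Matrix Module MaxTv OrthAut

variable {F : Type*} [Field F] [Fintype F] {ι : Type} [Fintype ι] [DecidableEq ι] {Q : QuadraticForm F (ι → F)}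
variable {E : Type*} [Field E] [Fintype E] [Algebra F E] [Module E (ι → F)] [IsScalarTower F E (ι → F)]

local notation "V" => (ι → F)
local notation "Mn" => Matrix ι ι F
local notation "B" => QuadraticMap.polar ⇑Q
local notation "τ" => Algebra.trace F E

/-- The triple meets in a space of largest dimension. -/
def IsMax (h : (ι → F) → (ι → F) → E) (M : Subgroup (GL ι F)) (g : GL ι F) (b c : ι → F) : Prop :=
  ∀ g' b' c', Triple h M g' b' c' →
    finrank F (meet g' b' c' : Submodule F E) ≤ finrank F (meet g b c : Submodule F E)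

namespace OF

variable {h : (ι → F) → (ι → F) → E} {M : Subgroup (GL ι F)} (O : OF Q h M)
  (hr : (finrank F E).Prime) (hNW : NoWin h M)
include O hr hNW

/-- The conjugate of a Siegel element either has the same meet or fixes the image of the whole line. -/
theorem step {g : GL ι F} {b c w : V} (ht : Triple h M g b c) (hmax : IsMax h M g b c) (hcw : h c w = 0)
    (h23 : finrank F E = 3 → (∀ k : E, ∃ s : E, (g : Mn) *ᵥ (s • b) = O.form.siegel c w ((g : Mn) *ᵥ (k • b))) →
      ∀ k : E, h c ((g : Mn) *ᵥ (k • b)) * h w w = 0) :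
    ∃ g' : GL ι F, g' ∈ M ∧ (∀ x, (g : Mn) *ᵥ ((g' : Mn) *ᵥ x) = O.form.siegel c w ((g : Mn) *ᵥ x)) ∧
      (((∀ k, k ∈ (meet g' b b : Submodule F E) → k ∈ (meet g b c : Submodule F E)) ∧
          Triple h M g' b b ∧ IsMax h M g' b b) ∨
        ∀ k : E, O.form.siegel c w ((g : Mn) *ᵥ (k • b)) = (g : Mn) *ᵥ (k • b)) := by
  classical
  have H := O.form
  haveI := finiteE (F := F) (E := E)
  obtain ⟨hg, hb0, hb, hc0, hc, ⟨i₀, hi₀, hi⟩, hnot⟩ := ht
  obtain ⟨R, hR, hRx⟩ := O.siegel_mem hc hcw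
  refine ⟨g⁻¹ * R * g, mul_mem (mul_mem (inv_mem hg) hR) hg, fun x => ?_, ?_⟩
  · rw [Units.val_mul, Units.val_mul, ← Matrix.mulVec_mulVec, ← Matrix.mulVec_mulVec, mulVec_inv_cancel, hRx]
  obtain ⟨g', hg'⟩ : ∃ g', g' = g⁻¹ * R * g := ⟨_, rfl⟩
  rw [← hg']
  have hg'M : g' ∈ M := hg' ▸ mul_mem (mul_mem (inv_mem hg) hR) hg
  have hgg : ∀ x, (g : Mn) *ᵥ ((g' : Mn) *ᵥ x) = H.siegel c w ((g : Mn) *ᵥ x) := fun x => by
    rw [hg', Units.val_mul, Units.val_mul, ← Matrix.mulVec_mulVec, ← Matrix.mulVec_mulVec, mulVec_inv_cancel, hRx]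
  have hfix : ∀ k, k ∈ (meet g b c : Submodule F E) → (g' : Mn) *ᵥ (k • b) = k • b := fun k hk =>
    gl_mulVec_injective g (by
      show (g : Mn) *ᵥ _ = (g : Mn) *ᵥ _
      obtain ⟨s, hs⟩ := mem_meet.1 hk
      rw [hgg, ← hs, H.siegel_apply, H.smul_right, H.smul_right, hc, H.symm c w, hcw]
      module)
  have hle : (meet g b c : Submodule F E) ≤ meet g' b b := fun k hk => mem_meet.2 ⟨k, (hfix k hk).symm⟩
  by_cases hall : ∀ k, k ∈ (meet g' b b : Submodule F E)
  · refine Or.inr fun k => ?_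
    obtain ⟨σ, hσ⟩ := O.line_semi hr hNW hg'M hb0 hb hb0 hb hall
    obtain ⟨γ, hγ⟩ := mem_meet.1 (hall 1)
    rw [one_smul] at hγ
    have hg'b : ∀ k : E, (g' : Mn) *ᵥ (k • b) = (σ k * γ) • b := fun k => by rw [hσ, ← hγ, smul_smul]
    have hγi : σ i₀ * γ = i₀ := smul_left_injective E hb0 ((hg'b i₀).symm.trans (hfix i₀ hi))
    suffices hone : σ = AlgEquiv.refl by
      rw [← hgg]
      congr 1
      rw [hg'b, hone]
      rw [hone] at hγi
      have : γ = 1 := mul_left_cancel₀ hi₀ (hγi.trans (mul_one i₀).symm)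
      rw [this, mul_one]
      rfl
    -- the unipotent class of the Siegel element
    obtain ⟨N, hN⟩ : ∃ N : E →ₗ[F] E, N = σ.toAlgHom.toLinearMap - LinearMap.id := ⟨_, rfl⟩
    obtain ⟨D, hD⟩ : ∃ D : V →ₗ[E] V, D = H.siegel c w - LinearMap.id := ⟨_, rfl⟩
    have hD1 : ∀ z, D z = h c z • w - (h w z + h w w / 2 * h c z) • c := fun z => by
      rw [hD, LinearMap.sub_apply, H.siegel_apply, LinearMap.id_apply]; module
    have hE := H.two_ne O.two
    have hD2 : ∀ z, D (D z) = (-(h c z * h w w)) • c := fun z => by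
      rw [hD1, hD1]
      simp only [H.sub_right, H.smul_right, hcw, hc, H.symm c w]
      module
    have hDN : ∀ j k', (g : Mn) *ᵥ ((i₀ * (N ^ j) k') • b) = (D ^ j) ((g : Mn) *ᵥ ((i₀ * k') • b)) := by
      intro j k'
      induction j with
      | zero => simp
      | succ j ih =>
        rw [pow_succ' D, Module.End.mul_apply, ← ih, hD, LinearMap.sub_apply, LinearMap.id_apply, ← hgg,
          ← Matrix.mulVec_sub, hg'b, ← sub_smul, map_mul, pow_succ' N, Module.End.mul_apply]
        generalize (N ^ j) k' = y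
        congr 2
        rw [hN, LinearMap.sub_apply, LinearMap.id_apply, mul_sub, show σ i₀ * σ y * γ = σ i₀ * γ * σ y by ring,
          hγi]
        rfl
    have hsmall : ∀ m, (∀ k, (D ^ m) ((g : Mn) *ᵥ (k • b)) = 0) → ∀ x, (N ^ m) x = 0 := fun m hm x => by
      have e := hDN m x
      rw [hm, ← Matrix.mulVec_zero (g : Mn)] at e
      rcases mul_eq_zero.1 ((smul_eq_zero.1 (gl_mulVec_injective g e)).resolve_right hb0) with e' | e'
      exacts [absurd e' hi₀, e']
    rcases Nat.lt_or_ge 3 (finrank F E) with h5 | h4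
    · refine aut_eq_one hr σ h5 (hN ▸ hsmall 3 fun _ => ?_)
      rw [pow_succ', pow_two, Module.End.mul_apply, Module.End.mul_apply, hD2, hD1, H.sub_right, H.smul_right, H.smul_right,
          hcw, hc]
      module
    rcases (show finrank F E = 2 ∨ finrank F E = 3 by have := hr.two_le; omega) with h2 | h3
    · have hσ2 : σ * σ = 1 := by
        have := pow_card_eq_one' (x := σ)
        rwa [IsGalois.card_aut_eq_finrank F E, h2, pow_two] at this
      have hz := hsmall 3 fun _ => by
        rw [pow_succ', pow_two, Module.End.mul_apply, Module.End.mul_apply, hD2, hD1, H.sub_right, H.smul_right, H.smul_right,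
          hcw, hc]
        module
      refine AlgEquiv.ext fun x => sub_eq_zero.1 ?_
      show σ x - x = 0
      have e1 := hz x
      have hσσ : ∀ y, σ (σ y) = y := fun y => by
        have := AlgEquiv.congr_fun hσ2 y
        simpa using this
      rw [pow_succ', pow_two, Module.End.mul_apply, Module.End.mul_apply, hN] at e1
      simp only [LinearMap.sub_apply, LinearMap.id_apply, AlgEquiv.toAlgHom_eq_coe, AlgHom.toLinearMap_apply,
        AlgEquiv.coe_algHom, map_sub, hσσ] at e1
      have h4 : (4 : E) * (σ x - x) = 0 := by linear_combination e1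
      exact (mul_eq_zero.1 h4).resolve_left (by
        rw [show (4 : E) = 2 * 2 by norm_num]; exact mul_ne_zero hE hE)
    · refine aut_eq_one hr σ (m := 2) (by omega) (hN ▸ hsmall 2 fun k => ?_)
      rw [pow_two, Module.End.mul_apply, hD2,
        h23 h3 (fun l => ⟨σ l * γ, by rw [← hg'b, hgg]⟩) k]
      module
  · push Not at hall
    have hT : Triple h M g' b b := ⟨hg'M, hb0, hb, hb0, hb, ⟨i₀, hi₀, hle hi⟩, hall⟩
    have heq := Submodule.eq_of_le_of_finrank_le hle (hmax _ _ _ hT)
    refine Or.inl ⟨fun k hk => heq ▸ hk, hT, fun g₁ b₁ c₁ h₁ => ?_⟩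
    rw [← heq]
    exact hmax _ _ _ h₁

theorem fixed_perp {c c' w : V} (hc : h c c = 0) (hcc : h c c' = 1) (hcw : h c' w = 0) (hw0 : w ≠ 0) {z : V}
    (hz : O.form.siegel c w z = z) : h c z = 0 ∧ h w z = 0 := by
  have H := O.form
  rw [H.siegel_apply] at hz
  have hz' : h c z • w - (h w z + h w w / 2 * h c z) • c = 0 := by linear_combination (norm := module) hz
  have h1 := congrArg (h c') hz'
  rw [H.sub_right, H.smul_right, H.smul_right, hcw, H.symm c c', hcc, H.zero_right, mul_zero, mul_one, zero_sub,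
    neg_eq_zero] at h1
  rw [h1, zero_smul, sub_zero, smul_eq_zero] at hz'
  have hcz := hz'.resolve_right hw0
  exact ⟨hcz, by rwa [hcz, mul_zero, add_zero] at h1⟩

/-- Outside the meet of a largest triple the image is not perpendicular. -/
theorem psi_ne (hd : finrank F E = 3 → 4 ≤ finrank E (ι → F)) {g : GL ι F} {b c : V} (ht : Triple h M g b c) (hmax : IsMax h M g b c)
    {k : E} (hk : k ∉ (meet g b c : Submodule F E)) : h c ((g : Mn) *ᵥ (k • b)) ≠ 0 := by
  intro hψ
  have H := O.form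
  obtain ⟨i₀, hi₀, hi⟩ := ht.some
  obtain ⟨s₀, hs₀⟩ := mem_meet.1 hi
  obtain ⟨c', hc', hcc⟩ := H.exists_pair O.two ht.c0 ht.cc
  obtain ⟨z, hz⟩ : ∃ z, z = (g : Mn) *ᵥ (k • b) := ⟨_, rfl⟩
  rw [← hz] at hψ
  obtain ⟨z', hz'⟩ : ∃ z', z' = H.proj c c' z := ⟨_, rfl⟩
  have hzz : z = z' + h c' z • c := by rw [hz', H.proj_apply, hψ]; module
  have hz'0 : z' ≠ 0 := fun e => hk (mem_meet.2 ⟨h c' z, by rw [← hz, hzz, e, zero_add]; simp [H.smul_right, H.symm c c', hcc]⟩)
  obtain ⟨e1, e2⟩ := H.proj_perp ht.cc hc' hcc z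
  rw [← hz'] at e1 e2
  obtain ⟨w, hcw, hc'w, hwz, hind⟩ : ∃ w, h c w = 0 ∧ h c' w = 0 ∧ h w z' ≠ 0 ∧
      (finrank F E = 3 → w ∉ (E ∙ z')) := by
    obtain ⟨x, hx⟩ := H.exists_ne hz'0
    obtain ⟨f1, f2⟩ := H.proj_perp ht.cc hc' hcc x
    obtain ⟨p, hp⟩ : ∃ p, p = H.proj c c' x := ⟨_, rfl⟩
    rw [← hp] at f1 f2
    have hpz : h p z' ≠ 0 := by
      rwa [hp, H.proj_apply, H.sub_left, H.sub_left, H.smul_left, H.smul_left, e1, e2, mul_zero, mul_zero, sub_zero,
        sub_zero]
    by_cases hin : p ∈ (E ∙ z')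
    swap
    · exact ⟨p, f1, f2, hpz, fun _ => hin⟩
    by_cases hr3 : finrank F E = 3
    swap
    · exact ⟨p, f1, f2, hpz, fun e => absurd e hr3⟩
    have h4 := hd hr3
    obtain ⟨a, rfl⟩ : ∃ a, a • z' = p := Submodule.mem_span_singleton.1 hin
    rw [H.smul_left] at hpz
    haveI : Module.Finite E (ι → F) := Module.Finite.of_restrictScalars_finite F E _
    have k1 := finrank_ker_inf (⊤ : Submodule E V) (H.func c)
    have k2 := finrank_ker_inf (⊤ ⊓ LinearMap.ker (H.func c)) (H.func c')
    have k3 := finrank_ker_inf (⊤ ⊓ LinearMap.ker (H.func c) ⊓ LinearMap.ker (H.func c')) (H.func z')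
    rw [top_inf_eq] at k1 k2 k3
    rw [finrank_top] at k1
    obtain ⟨y, ⟨⟨hcy, hc'y⟩, hzy⟩, hy0⟩ := Submodule.exists_mem_ne_zero_of_ne_bot
      (p := LinearMap.ker (H.func c) ⊓ LinearMap.ker (H.func c') ⊓ LinearMap.ker (H.func z')) fun e => by
        rw [e, finrank_bot] at k3
        omega
    replace hcy : h c y = 0 := hcy
    replace hc'y : h c' y = 0 := hc'y
    replace hzy : h z' y = 0 := hzy
    refine ⟨a • z' + y, by rw [H.add_right, f1, hcy, add_zero], by rw [H.add_right, f2, hc'y, add_zero],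
      by rwa [H.add_left, H.smul_left, H.symm z' y, hzy, add_zero], fun _ hm => ?_⟩
    obtain ⟨d, hd⟩ := Submodule.mem_span_singleton.1 hm
    have hd' : y = (d - a) • z' := by rw [sub_smul, hd, add_sub_cancel_left]
    rw [hd', H.smul_right, mul_eq_zero] at hzy
    rcases hzy with e | e
    · exact hy0 (by rw [hd', e, zero_smul])
    · exact hpz (by rw [e, mul_zero])
  have hwz' : h w z = h w z' := by rw [hzz, H.add_right, H.smul_right, H.symm c w, hcw, mul_zero, add_zero]
  have hs00 : s₀ ≠ 0 := fun e => by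
    rw [e, zero_smul, eq_comm, ← Matrix.mulVec_zero (g : Mn)] at hs₀
    exact hi₀ ((smul_eq_zero.1 (gl_mulVec_injective g hs₀)).resolve_right ht.b0)
  obtain ⟨μ, hμ⟩ : ∃ μ, μ = s₀ / h w z := ⟨_, rfl⟩
  have hμw : μ * h w z = s₀ := by rw [hμ, div_mul_cancel₀ _ (hwz'.symm ▸ hwz)]
  have hμ0 : μ ≠ 0 := fun e => hs00 (by rw [← hμw, e, zero_mul])
  obtain ⟨g', hg', hgg, hor⟩ := O.step hr hNW ht hmax (w := μ • w)
    (by rw [H.smul_right, hcw, mul_zero]) (fun h3 hstab => by
      intro l
      rw [mul_eq_zero]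
      refine Or.inl ?_
      by_contra hψl
      obtain ⟨ψ, hψd⟩ : ∃ ψ : E →ₗ[F] E, ψ =
          ((H.func c).restrictScalars F).comp ((Matrix.toLin' (g : Mn)).comp (lineMap F b)) := ⟨_, rfl⟩
      have hψ' : ∀ x, ψ x = h c ((g : Mn) *ᵥ (x • b)) := fun x => by
        rw [hψd]; simp [lineMap_apply, HForm.func_apply]
      have hψk : ψ k = 0 := by rw [hψ', ← hz, hψ]
      have hψi : ψ i₀ = 0 := by rw [hψ', ← hs₀, H.smul_right, ht.cc, mul_zero]
      have hψI : ∀ x ∈ Submodule.span F {k, i₀}, ψ x = 0 := fun x hx => by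
        obtain ⟨α, β, rfl⟩ := Submodule.mem_span_pair.1 hx
        rw [map_add, map_smul, map_smul, hψk, hψi, smul_zero, smul_zero, add_zero]
      -- the three scalars span
      have hli : LinearIndependent F ![i₀, k, l] := by
        rw [Fintype.linearIndependent_iff]
        intro cf hcf
        simp only [Fin.sum_univ_three, Matrix.cons_val_zero, Matrix.cons_val_one, Matrix.cons_val_two,
          Matrix.tail_cons, Matrix.head_cons] at hcf
        have h2 : cf 2 = 0 := by
          have := congrArg ψ hcf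
          rw [map_add, map_add, map_smul, map_smul, map_smul, hψi, hψk, smul_zero, smul_zero, zero_add, zero_add,
            map_zero, hψ', smul_eq_zero] at this
          exact this.resolve_right hψl
        rw [h2, zero_smul, add_zero] at hcf
        have h1 : cf 1 = 0 := by
          by_contra h1
          refine hk ?_
          rw [show k = (-(cf 1)⁻¹ * cf 0) • i₀ by
            rw [mul_smul, ← neg_smul_neg, neg_neg, eq_comm, inv_smul_eq_iff₀ h1]
            linear_combination (norm := module) -hcf]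
          exact Submodule.smul_mem _ _ hi
        rw [h1, zero_smul, add_zero, smul_eq_zero] at hcf
        intro j
        fin_cases j
        exacts [hcf.resolve_right hi₀, h1, h2]
      obtain ⟨s, hs⟩ := hstab l
      obtain ⟨cf, hcf⟩ := (Submodule.mem_span_range_iff_exists_fun F).1
        ((hli.span_eq_top_of_card_eq_finrank (by rw [Fintype.card_fin, h3])) ▸ Submodule.mem_top (x := s))
      simp only [Fin.sum_univ_three, Matrix.cons_val_zero, Matrix.cons_val_one, Matrix.cons_val_two,
          Matrix.tail_cons, Matrix.head_cons] at hcf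
      obtain ⟨y, hy⟩ : ∃ y, y = (g : Mn) *ᵥ (l • b) := ⟨_, rfl⟩
      rw [← hy] at hψl hs
      rw [← hcf, add_smul, add_smul, smul_assoc, smul_assoc, smul_assoc, Matrix.mulVec_add, Matrix.mulVec_add,
        Matrix.mulVec_smul, Matrix.mulVec_smul, Matrix.mulVec_smul, ← hz, ← hy, ← hs₀, hzz,
        H.siegel_apply] at hs
      simp only [← algebraMap_smul E (_ : F) (_ : V)] at hs
      have e3 : algebraMap F E (cf 2) = 1 := by
        have := congrArg (h c) hs
        simp only [H.add_right, H.sub_right, H.smul_right, ht.cc, e1, hcw, mul_zero, add_zero, zero_add,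
          sub_zero] at this
        exact mul_right_cancel₀ hψl (this.trans (one_mul _).symm)
      rw [e3, one_smul] at hs
      have hP := congrArg (H.proj c c') hs
      simp only [map_add, map_sub, map_smul] at hP
      have hPc : H.proj c c' c = 0 := by
        rw [H.proj_apply, ht.cc, H.symm c c', hcc]; module
      have hPz : H.proj c c' z' = z' := by rw [H.proj_apply, e1, e2]; module
      have hPw : H.proj c c' w = w := by rw [H.proj_apply, hcw, hc'w]; module
      rw [hPc, hPz, hPw] at hP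
      refine hind h3 (Submodule.mem_span_singleton.2 ⟨algebraMap F E (cf 1) / (h c y * μ), ?_⟩)
      have hP' : (h c y * μ) • w = algebraMap F E (cf 1) • z' := by linear_combination (norm := module) -hP
      rw [div_eq_inv_mul, mul_smul, ← hP', inv_smul_smul₀ (mul_ne_zero hψl hμ0)])
  have hRz : H.siegel c (μ • w) z = (g : Mn) *ᵥ ((k - i₀) • b) := by
    rw [sub_smul, Matrix.mulVec_sub, ← hz, ← hs₀, H.siegel_apply, hψ, H.smul_left, hμw]
    module
  rcases hor with ⟨hle, -, -⟩ | hfix
  · refine hk (hle k (mem_meet.2 ⟨k - i₀, gl_mulVec_injective g ?_⟩))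
    show (g : Mn) *ᵥ _ = (g : Mn) *ᵥ _
    rw [hgg, ← hz, hRz]
  · have h1 := hfix k
    rw [← hz, hRz, hz] at h1
    have h2 := smul_left_injective E ht.b0 (gl_mulVec_injective g h1)
    exact hi₀ (sub_eq_self.1 h2)

/-- A subspace of the complement of a pair is large. -/
theorem finrank_W0 {c c' : V} :
    (finrank E (ι → F) - 2) * finrank F E ≤
      finrank F ((LinearMap.ker (O.form.func c) ⊓ LinearMap.ker (O.form.func c')).restrictScalars F) := by
  have H := O.form
  haveI := finiteE (F := F) (E := E)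
  haveI : Module.Finite E (ι → F) := Module.Finite.of_restrictScalars_finite F E _
  have h1 := finrank_ker_inf (⊤ : Submodule E V) (H.func c)
  have h2 := finrank_ker_inf (⊤ ⊓ LinearMap.ker (H.func c)) (H.func c')
  rw [top_inf_eq] at h1 h2
  rw [finrank_top] at h1
  obtain ⟨S, hS⟩ : ∃ S, S = LinearMap.ker (H.func c) ⊓ LinearMap.ker (H.func c') := ⟨_, rfl⟩
  rw [← hS] at h2 ⊢
  show _ ≤ finrank F S
  rw [← Module.finrank_mul_finrank F E S, mul_comm (finrank F E)]
  exact Nat.mul_le_mul_right _ (by omega)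

/-- There is no largest triple. -/
theorem no_max (h4 : 4 ≤ finrank E (ι → F)) {g : GL ι F} {b c : V} (ht : Triple h M g b c)
    (hmax : IsMax h M g b c) : False := by
  classical
  have H := O.form
  haveI := finiteE (F := F) (E := E)
  obtain ⟨v, hv⟩ := ht.notAll
  obtain ⟨z, hz⟩ : ∃ z, z = (g : Mn) *ᵥ (v • b) := ⟨_, rfl⟩
  have hψ : h c z ≠ 0 := hz ▸ O.psi_ne hr hNW (fun _ => h4) ht hmax hv
  obtain ⟨c', hc', hcc⟩ := H.exists_pair O.two ht.c0 ht.cc
  obtain ⟨I, hI⟩ : ∃ I, I = (meet g b c : Submodule F E) := ⟨_, rfl⟩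
  obtain ⟨C, hC⟩ := Submodule.exists_isCompl I
  have he : finrank F C + 1 ≤ finrank F E := by
    have h1 := Submodule.finrank_add_eq_of_isCompl hC
    have h2 : 1 ≤ finrank F I := by
      obtain ⟨i₀, hi₀, hi⟩ := ht.some
      exact Submodule.one_le_finrank_iff.2 fun e => hi₀ ((Submodule.mem_bot F).1 (e ▸ hI ▸ hi))
    omega
  let s := Module.finBasis F C
  let W : Submodule F V := (LinearMap.ker (H.func c) ⊓ LinearMap.ker (H.func c')).restrictScalars F
  have hW : (finrank E V - 2) * finrank F E ≤ finrank F W := O.finrank_W0 hr hNW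
  have hmul : 2 * finrank F E ≤ (finrank E V - 2) * finrank F E :=
    Nat.mul_le_mul_right _ (by omega)
  let lin : Fin (finrank F C) → V →ₗ[F] F := fun j =>
    (τ).comp (((LinearMap.mulLeft F (h c z)).comp ((H.func ((g : Mn) *ᵥ ((s j : E) • b))).restrictScalars F)) -
      ((LinearMap.mulLeft F (h c ((g : Mn) *ᵥ ((s j : E) • b)))).comp ((H.func z).restrictScalars F)))
  have hlin : ∀ j x, lin j x = τ (h c z * h ((g : Mn) *ᵥ ((s j : E) • b)) x -
      h c ((g : Mn) *ᵥ ((s j : E) • b)) * h z x) := fun j x => rfl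
  obtain ⟨w, hwW, hw0, hq⟩ := exists_common_zero' (W := W)
    (fun j => H.trForm (-(h c z * h c ((g : Mn) *ᵥ ((s j : E) • b)) / 2))) lin (by omega)
  have hcond : ∀ j, lin j w - τ (h c z * h c ((g : Mn) *ᵥ ((s j : E) • b)) / 2 * h w w) = 0 := fun j => by
    have := hq j
    rw [HForm.trForm_apply, neg_mul, map_neg] at this
    linear_combination this
  obtain ⟨hcw, hc'w⟩ : h c w = 0 ∧ h c' w = 0 := hwW
  obtain ⟨g', hg', hgg, hor⟩ := O.step hr hNW ht hmax hcw fun _ hstab l => by
    -- the image of the line cannot be invariant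
    exfalso
    obtain ⟨r, hr'⟩ := hstab v
    have hψr : h c ((g : Mn) *ᵥ (r • b)) = h c z := by
      rw [hr', H.siegel_apply, H.sub_right, H.add_right, H.smul_right, H.smul_right, hcw, ht.cc, ← hz]
      ring
    have hrv : r - v ∈ (meet g b c : Submodule F E) := by
      by_contra hn
      refine O.psi_ne hr hNW (fun _ => h4) ht hmax hn ?_
      rw [sub_smul, Matrix.mulVec_sub, H.sub_right, hψr, hz, sub_self]
    obtain ⟨a, ha⟩ := mem_meet.1 hrv
    rw [sub_smul, Matrix.mulVec_sub, hr', ← hz, H.siegel_apply] at ha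
    have hwc : h c z • w = (a + (h w z + h w w / 2 * h c z)) • c := by linear_combination (norm := module) -ha
    have hwE : w = ((h c z)⁻¹ * (a + (h w z + h w w / 2 * h c z))) • c := by
      rw [mul_smul, ← hwc, inv_smul_smul₀ hψ]
    have h1 := congrArg (h c') hwE
    rw [hc'w, H.smul_right, H.symm c c', hcc, mul_one] at h1
    exact hw0 (by rw [hwE, ← h1, zero_smul])
  rcases hor with ⟨hle, hT, hm⟩ | hfix
  swap
  · exact hψ (hz ▸ (O.fixed_perp hr hNW ht.cc hcc hc'w hw0 (hfix v)).1)
  refine O.psi_ne hr hNW (fun _ => h4) hT hm (k := v) (fun e => hv (hle v e)) (trace_ext (F := F) fun t => ?_)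
  rw [mul_zero, map_zero, ← H.spec, ← isometry_polar (O.iso g ht.mem), hgg, ← hz]
  -- linear in `t`
  obtain ⟨Φ, hΦ⟩ : ∃ Φ : E →ₗ[F] F, Φ = ((QuadraticMap.polarBilin Q (H.siegel c w z)).comp
      ((Matrix.toLin' (g : Mn)).comp (lineMap F b))) := ⟨_, rfl⟩
  have hΦ' : ∀ t, Φ t = B ((g : Mn) *ᵥ (t • b)) (H.siegel c w z) := fun t => by
    rw [hΦ, QuadraticMap.polar_comm]
    simp [lineMap_apply]
  rw [← hΦ']
  suffices hzero : Φ = 0 by rw [hzero]; rfl
  have hbb : ∀ t : E, B ((g : Mn) *ᵥ (t • b)) z = 0 := fun t => by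
    rw [hz, isometry_polar (O.iso g ht.mem), H.spec, H.smul_right, ht.bb, mul_zero, mul_zero, map_zero]
  have hI0 : ∀ t ∈ I, Φ t = 0 := fun t ht' => by
    obtain ⟨a, ha⟩ := mem_meet.1 (hI ▸ ht')
    have h1 := hbb t
    rw [← ha] at h1
    rw [hΦ', ← ha, H.spec, H.siegel_apply, H.sub_right, H.add_right, H.smul_right, H.smul_right, hcw, ht.cc,
      mul_zero, add_zero, mul_zero, sub_zero, ← H.spec, h1]
  have hC0 : ∀ j, Φ (s j : E) = 0 := fun j => by
    obtain ⟨x, hx⟩ : ∃ x, x = (g : Mn) *ᵥ ((s j : E) • b) := ⟨_, rfl⟩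
    have h1 := hcond j
    rw [hlin, ← hx] at h1
    rw [hΦ', ← hx, H.siegel_apply, QuadraticMap.polar_sub_right, QuadraticMap.polar_add_right, hx, hbb, ← hx,
      QuadraticMap.polar_comm _ x (h c z • w), QuadraticMap.polar_comm _ x (_ • c), H.spec, H.spec, zero_add, ← h1,
      ← map_sub, ← map_sub, H.symm x w, H.symm z w, H.symm x c]
    congr 1
    ring
  refine LinearMap.ext fun t => ?_
  obtain ⟨i, hi, a, ha, rfl⟩ := Submodule.mem_sup.1 (show t ∈ I ⊔ C by rw [hC.sup_eq_top]; trivial)
  rw [map_add, hI0 i hi, zero_add, LinearMap.zero_apply]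
  have hsum : (∑ j, s.repr ⟨a, ha⟩ j • (s j : E)) = a := by
    conv_rhs => rw [show a = ((⟨a, ha⟩ : C) : E) from rfl, ← s.sum_repr ⟨a, ha⟩]
    rw [Submodule.coe_sum]
    rfl
  rw [← hsum, map_sum]
  exact Finset.sum_eq_zero fun j _ => by rw [map_smul, hC0, smul_zero]

/-- Lines meet images of lines trivially or completely. -/
theorem no_triple (h4 : 4 ≤ finrank E (ι → F)) (g : GL ι F) (b c : V) : ¬ Triple h M g b c := by
  suffices hn : ∀ n g b c, Triple h M g b c → finrank F E ≤ finrank F (meet g b c : Submodule F E) + n → False from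
    fun ht => hn _ g b c ht (Nat.le_add_left _ _)
  haveI := finiteE (F := F) (E := E)
  intro n
  induction n with
  | zero =>
    intro g b c ht hle
    obtain ⟨k, hk⟩ := ht.notAll
    exact hk (Submodule.eq_top_of_finrank_eq (le_antisymm (Submodule.finrank_le _) hle) ▸ Submodule.mem_top)
  | succ n ih =>
    intro g b c ht hle
    refine O.no_max hr hNW h4 ht fun g' b' c' ht' => ?_
    by_contra hlt
    exact ih g' b' c' ht' (by omega)

end OF

end Cfsg.Agent.Classical.OrthField
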