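import Cfsg.Agent.Lib.Classical.MaxOrthFieldBase

/-!
Orthogonal groups over an extension field: a group containing the full unipotent radical at one singular line
of the extension contains every root element.
-/

set_option autoImplicit false
set_option linter.unusedSectionVars false
set_option quotPrecheck false
set_option linter.style.haveILetI false

namespace Cfsg.Agent.Classical.OrthField

open Matrix Module MaxTv OrthAut

variable {F : Type*} [Field F] [Fintype F] {ι : Type} [Fintype ι] [DecidableEq ι] {Q : QuadraticForm F (ι → F)}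
variable {E : Type*} [Field E] [Fintype E] [Algebra F E] [Module E (ι → F)] [IsScalarTower F E (ι → F)]

local notation "V" => (ι → F)
local notation "Mn" => Matrix ι ι F
local notation "B" => QuadraticMap.polar ⇑Q
local notation "τ" => Algebra.trace F E

/-- An overgroup of the squares of the isometries over the extension. -/
structure OF (Q : QuadraticForm F (ι → F)) (h : (ι → F) → (ι → F) → E) (M : Subgroup (GL ι F)) : Prop where
  two : (2 : F) ≠ 0
  form : HForm Q h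
  dim : 3 ≤ finrank E (ι → F)
  deg : 2 ≤ finrank F E
  iso : ∀ g ∈ M, ∀ x, Q ((g : Matrix ι ι F) *ᵥ x) = Q x
  sq : ∀ L : (ι → F) →ₗ[E] (ι → F), (∀ x, h (L x) (L x) = h x x) →
    ∃ g ∈ M, ∀ x, (g : Matrix ι ι F) *ᵥ x = L (L x)

/-- The scalar multiples of a vector as an `F`-linear map. -/
def lineMap (F : Type*) [Field F] {ι : Type} {E : Type*} [Field E] [Algebra F E] [Module E (ι → F)]
    [IsScalarTower F E (ι → F)] (u : ι → F) : E →ₗ[F] (ι → F) :=
  (LinearMap.toSpanSingleton E (ι → F) u).restrictScalars F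

theorem lineMap_apply (u : V) (k : E) : lineMap F u k = k • u := rfl

/-- Some element of `M` is `x ↦ x + φ x • u` on the vectors perpendicular to `u`. -/
def Rt (h : (ι → F) → (ι → F) → E) (M : Subgroup (GL ι F)) (u : ι → F) (φ : (ι → F) →ₗ[F] E) : Prop :=
  (∀ k : E, φ (k • u) = 0) ∧ ∃ g ∈ M, ∀ x, h u x = 0 → (g : Matrix ι ι F) *ᵥ x = x + φ x • u

/-- Some element of `M` is `x ↦ x + A (h u x) • u`. -/
def Zt (h : (ι → F) → (ι → F) → E) (M : Subgroup (GL ι F)) (u : ι → F) (A : E →ₗ[F] E) : Prop :=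
  ∃ g ∈ M, ∀ x, (g : Matrix ι ι F) *ᵥ x = x + A (h u x) • u

/-- Every map occurs at `u`. -/
def Win (h : (ι → F) → (ι → F) → E) (M : Subgroup (GL ι F)) (u : ι → F) : Prop :=
  ∀ φ : (ι → F) →ₗ[F] E, (∀ k : E, φ (k • u) = 0) → Rt h M u φ

theorem finrank_ker_inf {W : Type*} [AddCommGroup W] [Module E W] [Module.Finite E W] (S : Submodule E W)
    (φ : W →ₗ[E] E) : finrank E S ≤ finrank E (S ⊓ LinearMap.ker φ : Submodule E W) + 1 := by
  have h1 := Submodule.finrank_sup_add_finrank_inf_eq S (LinearMap.ker φ)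
  have h2 := φ.finrank_range_add_finrank_ker
  have h3 : finrank E (LinearMap.range φ) ≤ 1 := (Submodule.finrank_le _).trans_eq (Module.finrank_self E)
  have h4 := Submodule.finrank_le (S ⊔ LinearMap.ker φ)
  omega

theorem eq_zero_of_basis {n : ℕ} (κ : Basis (Fin n) F E) {z : E} (hz : ∀ j, τ (κ j * z) = 0) : z = 0 :=
  trace_ext (F := F) fun k => by
    rw [mul_zero, map_zero, ← κ.sum_repr k, Finset.sum_mul, map_sum]
    exact Finset.sum_eq_zero fun j _ => by rw [smul_mul_assoc, map_smul, hz, smul_zero]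

/-- The complement of every pair contains a pair. -/
def SingW0 (h : (ι → F) → (ι → F) → E) : Prop :=
  ∀ u v, h u u = 0 → h v v = 0 → h u v = 1 →
    ∃ q q', h q q = 0 ∧ h q' q' = 0 ∧ h q q' = 1 ∧ h u q = 0 ∧ h v q = 0 ∧ h u q' = 0 ∧ h v q' = 0

namespace HForm

variable {h : (ι → F) → (ι → F) → E} (H : HForm Q h)
include H

/-- The bilinear form `(x, y) ↦ trace (c * h x y)`. -/
noncomputable def trForm (c : E) : LinearMap.BilinForm F V :=
  LinearMap.mk₂ F (fun x y => τ (c * h x y)) (fun a b y => by rw [H.add_left, mul_add, map_add])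
    (fun s a y => by rw [H.fsmul_left, mul_smul_comm, map_smul]) (fun x a b => by rw [H.add_right, mul_add, map_add])
    (fun s x a => by rw [← H.symm, H.fsmul_left, H.symm x a, mul_smul_comm, map_smul])

theorem trForm_apply (c : E) (x y : V) : H.trForm c x y = τ (c * h x y) := rfl

theorem iso_polar (h2 : (2 : F) ≠ 0) {L : V →ₗ[E] V} (hL : ∀ x, h (L x) (L x) = h x x) (x y : V) :
    h (L x) (L y) = h x y := by
  have h1 := hL (x + y)
  rw [map_add, H.add_left, H.add_right, H.add_right, hL, hL, H.add_left, H.add_right, H.add_right, H.symm (L x) (L y),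
    H.symm x y] at h1
  refine mul_left_cancel₀ (H.two_ne h2) ?_
  linear_combination h1

theorem exists_rep (f : V →ₗ[E] E) : ∃ w, ∀ x, h w x = f x := by
  haveI : Module.Finite E (ι → F) := Module.Finite.of_restrictScalars_finite F E _
  let Φ : V →ₗ[E] Module.Dual E V :=
    { toFun := H.func
      map_add' := fun a b => LinearMap.ext fun x => H.add_left a b x
      map_smul' := fun s a => LinearMap.ext fun x => by simp [func_apply, H.smul_left] }
  have hΦ : Function.Injective Φ := fun a b e => sub_eq_zero.1 (H.eq_zero fun x => by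
    rw [H.symm, H.sub_left, sub_eq_zero]
    exact LinearMap.congr_fun e x)
  obtain ⟨w, hw⟩ := (LinearMap.injective_iff_surjective_of_finrank_eq_finrank
    (Subspace.dual_finrank_eq : finrank E (Module.Dual E V) = finrank E V).symm).1 hΦ f
  exact ⟨w, fun x => LinearMap.congr_fun hw x⟩

theorem eq_smul_of_perp {u v δ : V} (huv : h u v = 1) (hu : h u u = 0) (hδ : ∀ x, h u x = 0 → B x δ = 0) :
    δ = h v δ • u := by
  have hh : ∀ x, h u x = 0 → h x δ = 0 := fun x hx => trace_ext fun t => by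
    rw [← H.spec, hδ (t • x) (by rw [H.smul_right, hx, mul_zero]), mul_zero, map_zero]
  refine sub_eq_zero.1 (H.eq_zero fun z => ?_)
  have := hh (z - h u z • v) (by rw [H.sub_right, H.smul_right, huv, mul_one, sub_self])
  rw [H.sub_left, H.smul_left, sub_eq_zero] at this
  rw [H.sub_right, H.smul_right, this, H.symm u z]
  ring

theorem siegel_apply_perp {u w x : V} (hx : h u x = 0) : H.siegel u w x = x + (-h w x) • u := by
  rw [siegel_apply, hx, mul_zero, add_zero, zero_smul, add_zero, neg_smul, sub_eq_add_neg]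

/-- An anisotropic vector in the complement of a pair. -/
theorem exists_aniso_W0 (h2 : (2 : F) ≠ 0) (hd : 3 ≤ finrank E (ι → F)) {u v : V} (hu : h u u = 0)
    (hv : h v v = 0) (huv : h u v = 1) : ∃ y, h u y = 0 ∧ h v y = 0 ∧ h y y ≠ 0 := by
  haveI : Module.Finite E (ι → F) := Module.Finite.of_restrictScalars_finite F E _
  by_contra hc
  push Not at hc
  have hE := H.two_ne h2
  have h1 := finrank_ker_inf (⊤ : Submodule E V) (H.func u)
  have h1' := finrank_ker_inf (⊤ ⊓ LinearMap.ker (H.func u)) (H.func v)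
  rw [top_inf_eq] at h1 h1'
  rw [finrank_top] at h1
  obtain ⟨y, hy, hy0⟩ := Submodule.exists_mem_ne_zero_of_ne_bot
    (p := LinearMap.ker (H.func u) ⊓ LinearMap.ker (H.func v)) fun e => by rw [e, finrank_bot] at h1'; omega
  obtain ⟨hyu, hyv⟩ : h u y = 0 ∧ h v y = 0 := hy
  refine hy0 (H.eq_zero fun z => ?_)
  obtain ⟨p, hp⟩ : ∃ p, p = H.proj u v z := ⟨_, rfl⟩
  obtain ⟨e1, e2⟩ := H.proj_perp hu hv huv z
  rw [← hp] at e1 e2
  have e3 : h p y = 0 := by
    have h3 := hc (p + y) (by rw [H.add_right, e1, hyu, add_zero]) (by rw [H.add_right, e2, hyv, add_zero])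
    rw [H.add_left, H.add_right, H.add_right, hc p e1 e2, hc y hyu hyv, H.symm p y, zero_add, add_zero] at h3
    exact (mul_eq_zero.1 (by linear_combination h3 : (2 : E) * h p y = 0)).resolve_left hE
  rwa [hp, proj_apply, H.sub_left, H.sub_left, H.smul_left, H.smul_left, hyu, hyv, mul_zero, mul_zero, sub_zero,
    sub_zero] at e3

/-- A singular vector with its partner in the orthogonal complement of a pair. -/
theorem exists_sing_W0 (h2 : (2 : F) ≠ 0) (hd : 5 ≤ finrank E (ι → F)) {u v : V} (hu : h u u = 0)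
    (hv : h v v = 0) (huv : h u v = 1) :
    ∃ q q', h q q = 0 ∧ h q' q' = 0 ∧ h q q' = 1 ∧ h u q = 0 ∧ h v q = 0 ∧ h u q' = 0 ∧ h v q' = 0 := by
  haveI := finiteE (F := F) (E := E)
  haveI : Module.Finite E (ι → F) := Module.Finite.of_restrictScalars_finite F E _
  let κ := Module.finBasis F E
  have hW : 2 * finrank F E < finrank F ((LinearMap.ker (H.func u) ⊓ LinearMap.ker (H.func v)).restrictScalars F) := by
    have h1 := finrank_ker_inf (⊤ : Submodule E V) (H.func u)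
    have h1' := finrank_ker_inf (⊤ ⊓ LinearMap.ker (H.func u)) (H.func v)
    rw [top_inf_eq] at h1 h1'
    rw [finrank_top] at h1
    obtain ⟨S, hS⟩ : ∃ S, S = LinearMap.ker (H.func u) ⊓ LinearMap.ker (H.func v) := ⟨_, rfl⟩
    rw [← hS] at h1' ⊢
    show _ < finrank F S
    rw [← Module.finrank_mul_finrank F E S, mul_comm]
    exact Nat.mul_lt_mul_of_pos_left (by omega) Module.finrank_pos
  obtain ⟨q, hq, hq0, hzero⟩ := exists_common_zero (fun j => H.trForm (κ j)) hW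
  have hqq : h q q = 0 := eq_zero_of_basis κ hzero
  obtain ⟨huq, hvq⟩ : h u q = 0 ∧ h v q = 0 := hq
  obtain ⟨z, hz, hqz⟩ := H.exists_pair h2 hq0 hqq
  obtain ⟨z', hz'⟩ : ∃ z', z' = H.proj u v z := ⟨_, rfl⟩
  obtain ⟨e1, e2⟩ := H.proj_perp hu hv huv z
  rw [← hz'] at e1 e2
  have e3 : h q z' = 1 := by
    rw [hz', proj_apply, H.sub_right, H.sub_right, H.smul_right, H.smul_right, hqz, H.symm u q, H.symm v q, huq, hvq]
    ring
  refine ⟨q, z' - (h z' z' / 2) • q, hqq, ?_, ?_, huq, hvq, ?_, ?_⟩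
  · have hE := H.two_ne h2
    simp only [H.sub_left, H.sub_right, H.smul_left, H.smul_right, hqq, e3, H.symm q z']
    field_simp
    ring
  all_goals simp only [H.sub_right, H.smul_right, hqq, e1, e2, e3, huq, hvq, mul_zero, sub_zero]

/-- Singular vectors of the complement of a pair span it, if there is a pair of them. -/
theorem W0_induction' (h2 : (2 : F) ≠ 0) (hs : SingW0 h) {u v : V} (hu : h u u = 0)
    (hv : h v v = 0) (huv : h u v = 1) (P : V → Prop) (hadd : ∀ x y, P x → P y → P (x + y))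
    (hsmul : ∀ (s : E) x, P x → P (s • x))
    (hsing : ∀ x, h u x = 0 → h v x = 0 → h x x = 0 → P x) {w : V} (hwu : h u w = 0) (hwv : h v w = 0) : P w := by
  have hE := H.two_ne h2
  obtain ⟨q, q', hq, hq', hqq, hqu, hqv, hq'u, hq'v⟩ := hs u v hu hv huv
  obtain ⟨w1, hw1⟩ : ∃ w1, w1 = w - h q' w • q - h q w • q' := ⟨_, rfl⟩
  have a1 : h q w1 = 0 ∧ h q' w1 = 0 ∧ h u w1 = 0 ∧ h v w1 = 0 := by
    simp only [hw1, H.sub_right, H.smul_right, hq, hq', hqq, H.symm q q', hwu, hwv, hqu, hqv, hq'u, hq'v]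
    refine ⟨?_, ?_, ?_, ?_⟩ <;> ring
  obtain ⟨s, hs⟩ : ∃ s, s = q' + w1 - (h w1 w1 / 2) • q := ⟨_, rfl⟩
  have hPs : P s := by
    refine hsing s ?_ ?_ ?_
    · simp [hs, H.sub_right, H.add_right, H.smul_right, hq'u, hqu, a1.2.2.1]
    · simp [hs, H.sub_right, H.add_right, H.smul_right, hq'v, hqv, a1.2.2.2]
    · simp only [hs, H.sub_left, H.sub_right, H.add_left, H.add_right, H.smul_left, H.smul_right, hq, hq', hqq,
        H.symm q q', a1.1, a1.2.1, H.symm q w1, H.symm q' w1]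
      field_simp
      ring
  rw [show w = (h q' w + h w1 w1 / 2) • q + (h q w - 1) • q' + s by rw [hs, hw1]; module]
  exact hadd _ _ (hadd _ _ (hsmul _ _ (hsing q hqu hqv hq)) (hsmul _ _ (hsing q' hq'u hq'v hq'))) hPs

/-- In dimension at least five the singular vectors of the complement of a pair span it. -/
theorem W0_induction (h2 : (2 : F) ≠ 0) (hd : 5 ≤ finrank E (ι → F)) {u v : V} (hu : h u u = 0)
    (hv : h v v = 0) (huv : h u v = 1) (P : V → Prop) (hadd : ∀ x y, P x → P y → P (x + y))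
    (hsmul : ∀ (s : E) x, P x → P (s • x))
    (hsing : ∀ x, h u x = 0 → h v x = 0 → h x x = 0 → P x) {w : V} (hwu : h u w = 0) (hwv : h v w = 0) : P w :=
  H.W0_induction' h2 (fun _ _ a b c => H.exists_sing_W0 h2 hd a b c) hu hv huv P hadd hsmul hsing hwu hwv

end HForm

namespace OF

variable {h : (ι → F) → (ι → F) → E} {M : Subgroup (GL ι F)} (O : OF Q h M)
include O

theorem siegel_mem {u w : V} (hu : h u u = 0) (hw : h u w = 0) :
    ∃ g ∈ M, ∀ x, (g : Mn) *ᵥ x = O.form.siegel u w x := by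
  have hw' : h u ((2 : E)⁻¹ • w) = 0 := by rw [O.form.smul_right, hw, mul_zero]
  obtain ⟨g, hg, hgx⟩ := O.sq (O.form.siegel u ((2 : E)⁻¹ • w)) (O.form.siegel_iso O.two hu hw')
  exact ⟨g, hg, fun x => (hgx x).trans (O.form.siegel_half O.two hu hw x)⟩

theorem torus_mem {u v : V} (hu : h u u = 0) (hv : h v v = 0) (huv : h u v = 1) {μ : E} (hμ : μ ≠ 0) :
    ∃ g ∈ M, ∀ x, (g : Mn) *ᵥ x = O.form.torus u v (μ * μ) x := by
  obtain ⟨g, hg, hgx⟩ := O.sq (O.form.torus u v μ) (O.form.torus_iso hu hv huv hμ)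
  exact ⟨g, hg, fun x => (hgx x).trans (O.form.torus_sq hu hv huv hμ x)⟩

theorem delta_perp {g : GL ι F} (hg : g ∈ M) {u : V} (hgu : ∀ k : E, (g : Mn) *ᵥ (k • u) = k • u) (y : V) :
    h u ((g : Mn) *ᵥ y) = h u y :=
  trace_ext fun k => by
    have := isometry_polar (O.iso g hg) (k • u) y
    rw [hgu] at this
    rw [← O.form.spec, ← O.form.spec, this]

theorem exists_zmap {u v : V} (hu : h u u = 0) (huv : h u v = 1) (L : V →ₗ[F] V) (hQ : ∀ x, Q (L x) = Q x)
    (hfix : ∀ x, h u x = 0 → L x = x) :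
    ∃ A : E →ₗ[F] E, (∀ k, τ (k * A k) = 0) ∧ ∀ x, L x = x + A (h u x) • u := by
  have H := O.form
  have hperp : ∀ y, L y - y = h v (L y - y) • u := fun y => H.eq_smul_of_perp huv hu fun x hx => by
    rw [QuadraticMap.polar_sub_right]
    have h1 : B x (L y) = B x y := by
      conv_lhs => rw [← hfix x hx]
      simp only [QuadraticMap.polar, ← map_add, hQ]
    rw [h1, sub_self]
  let A : E →ₗ[F] E := ((H.func v).restrictScalars F).comp ((L - LinearMap.id).comp (lineMap F v))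
  have hA : ∀ k, A k = h v (L (k • v) - k • v) := fun k => rfl
  have hform : ∀ x, L x = x + A (h u x) • u := fun x => by
    have h1 := hfix (x - h u x • v) (by rw [H.sub_right, H.smul_right, huv, mul_one, sub_self])
    rw [map_sub] at h1
    rw [hA, ← hperp, ← add_sub_assoc, eq_sub_iff_add_eq]
    linear_combination (norm := module) h1
  refine ⟨A, fun k => ?_, hform⟩
  have h1 := hQ (k • v)
  rw [hform, H.smul_right, huv, mul_one, quad_add,
    H.quad_zero O.two (x := A k • u) (by rw [H.smul_left, H.smul_right, hu, mul_zero, mul_zero]),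
    add_zero, add_eq_left, QuadraticMap.polar_comm, H.spec, H.smul_right, huv, mul_one] at h1
  rwa [mul_comm]

theorem zt_skew {u v : V} (hu : h u u = 0) (huv : h u v = 1) {A : E →ₗ[F] E} (hA : Zt h M u A) (k : E) :
    τ (k * A k) = 0 := by
  obtain ⟨g, hg, hgx⟩ := hA
  have H := O.form
  have h1 := O.iso g hg (k • v)
  rw [hgx, H.smul_right, huv, mul_one, quad_add,
    H.quad_zero O.two (x := A k • u) (by rw [H.smul_left, H.smul_right, hu, mul_zero, mul_zero]),
    add_zero, add_eq_left, QuadraticMap.polar_comm, H.spec, H.smul_right, huv, mul_one] at h1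
  rwa [mul_comm]

theorem rt_congr {u : V} {φ ψ : V →ₗ[F] E} (hu : h u u = 0) (hφ : Rt h M u φ)
    (he : ∀ x, h u x = 0 → φ x = ψ x) : Rt h M u ψ := by
  obtain ⟨h0, g, hg, hgx⟩ := hφ
  exact ⟨fun k => by rw [← he _ (by rw [O.form.smul_right, hu, mul_zero]), h0],
    g, hg, fun x hx => by rw [← he x hx, hgx x hx]⟩

theorem exists_trace_zero : ∃ κ : E, τ κ = 0 ∧ κ ≠ 0 := by
  haveI := finiteE (F := F) (E := E)
  obtain ⟨κ, hκ, hκ0⟩ := Submodule.exists_mem_ne_zero_of_ne_bot (p := LinearMap.ker τ) fun e => by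
    have h1 := LinearMap.finrank_range_add_finrank_ker τ
    have h2 : finrank F (LinearMap.range τ) ≤ 1 := (Submodule.finrank_le _).trans_eq (Module.finrank_self F)
    rw [e, finrank_bot] at h1
    have := O.deg
    omega
  exact ⟨κ, hκ, hκ0⟩

theorem rt_zero (u : V) : Rt h M u 0 := ⟨fun _ => rfl, 1, one_mem M, fun x _ => by simp⟩

theorem rt_fix {u : V} (hu : h u u = 0) {g : GL ι F} {φ : V →ₗ[F] E} (h0 : ∀ k : E, φ (k • u) = 0)
    (hgx : ∀ x, h u x = 0 → (g : Mn) *ᵥ x = x + φ x • u) (k : E) : (g : Mn) *ᵥ (k • u) = k • u := by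
  rw [hgx _ (by rw [O.form.smul_right, hu, mul_zero]), h0, zero_smul, add_zero]

theorem rt_add {u : V} (hu : h u u = 0) {φ ψ : V →ₗ[F] E} (hφ : Rt h M u φ) (hψ : Rt h M u ψ) :
    Rt h M u (φ + ψ) := by
  obtain ⟨h0, g, hg, hgx⟩ := hφ
  obtain ⟨h0', g', hg', hgx'⟩ := hψ
  refine ⟨fun k => by simp [h0, h0'], g * g', mul_mem hg hg', fun x hx => ?_⟩
  rw [Units.val_mul, ← Matrix.mulVec_mulVec, hgx' x hx, Matrix.mulVec_add, hgx x hx,
    O.rt_fix hu h0 hgx, LinearMap.add_apply, add_smul, add_assoc]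

theorem rt_neg {u : V} (hu : h u u = 0) {φ : V →ₗ[F] E} (hφ : Rt h M u φ) : Rt h M u (-φ) := by
  obtain ⟨h0, g, hg, hgx⟩ := hφ
  refine ⟨fun k => by simp [h0], g⁻¹, inv_mem hg, fun x hx => gl_mulVec_injective g ?_⟩
  show (g : Mn) *ᵥ _ = (g : Mn) *ᵥ _
  rw [mulVec_inv_cancel, Matrix.mulVec_add, hgx x hx, O.rt_fix hu h0 hgx, LinearMap.neg_apply]
  module

theorem rt_siegel {u w : V} (hu : h u u = 0) (hw : h u w = 0) :
    Rt h M u (-((O.form.func w).restrictScalars F)) := by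
  obtain ⟨g, hg, hgx⟩ := O.siegel_mem hu hw
  exact ⟨fun k => by simp [HForm.func_apply, O.form.smul_right, O.form.symm u w, hw], g, hg,
    fun x hx => by rw [hgx, O.form.siegel_apply_perp hx]; rfl⟩

/-- The commutator with a Siegel element. -/
theorem bracket {u v w : V} (hu : h u u = 0) (huv : h u v = 1) (hw : h u w = 0) {φ : V →ₗ[F] E}
    (hφ : Rt h M u φ) :
    ∃ A : E →ₗ[F] E, Zt h M u A ∧ ∀ t k, τ (t * A k) = τ (t * φ (k • w)) - τ (k * φ (t • w)) := by
  have H := O.form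
  obtain ⟨h0, g, hg, hgx⟩ := hφ
  obtain ⟨s, hs, hsx⟩ := O.siegel_mem hu hw
  have hgu := O.rt_fix hu h0 hgx
  let A : E →ₗ[F] E := φ.comp (lineMap F w) +
    ((H.func w).restrictScalars F).comp ((Matrix.toLin' (g : Mn) - LinearMap.id).comp (lineMap F v))
  have hA : ∀ k, A k = φ (k • w) + h w ((g : Mn) *ᵥ (k • v) - k • v) := fun k => by
    simp [A, lineMap_apply, HForm.func_apply]
  have hδ : ∀ y, h u ((g : Mn) *ᵥ y - y) = 0 := fun y => by rw [H.sub_right, O.delta_perp hg hgu, sub_self]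
  have hdep : ∀ y, h w ((g : Mn) *ᵥ y - y) = h w ((g : Mn) *ᵥ (h u y • v) - h u y • v) := fun y => by
    obtain ⟨k, hk⟩ : ∃ k, k = h u y := ⟨_, rfl⟩
    obtain ⟨p, hp⟩ : ∃ p, p = y - k • v := ⟨_, rfl⟩
    have hp0 : h u p = 0 := by rw [hp, hk, H.sub_right, H.smul_right, huv, mul_one, sub_self]
    have hy : y = p + k • v := by rw [hp]; abel
    rw [← hk]
    conv_lhs => rw [hy, Matrix.mulVec_add, hgx p hp0, show p + φ p • u + (g : Mn) *ᵥ (k • v) - (p + k • v) =
      φ p • u + ((g : Mn) *ᵥ (k • v) - k • v) by abel, H.add_right, H.smul_right, H.symm u w, hw]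
    ring
  refine ⟨A, ⟨g * s * g⁻¹ * s⁻¹, mul_mem (mul_mem (mul_mem hg hs) (inv_mem hg)) (inv_mem hs), fun x => ?_⟩,
    fun t k => ?_⟩
  · obtain ⟨y, rfl⟩ : ∃ y, (s : Mn) *ᵥ ((g : Mn) *ᵥ y) = x :=
      ⟨((g⁻¹ : GL ι F) : Mn) *ᵥ (((s⁻¹ : GL ι F) : Mn) *ᵥ x), by rw [mulVec_inv_cancel, mulVec_inv_cancel]⟩
    rw [Units.val_mul, Units.val_mul, Units.val_mul, ← Matrix.mulVec_mulVec, ← Matrix.mulVec_mulVec,
      ← Matrix.mulVec_mulVec, inv_mulVec_cancel, inv_mulVec_cancel]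
    obtain ⟨δ, hδy⟩ : ∃ δ, δ = (g : Mn) *ᵥ y - y := ⟨_, rfl⟩
    have hgy : (g : Mn) *ᵥ y = y + δ := by rw [hδy]; abel
    have hsd : h u δ = 0 := hδy ▸ hδ y
    obtain ⟨k, hk⟩ : ∃ k, k = h u y := ⟨_, rfl⟩
    have hux : h u ((s : Mn) *ᵥ ((g : Mn) *ᵥ y)) = k := by
      rw [hsx, H.siegel_apply, H.sub_right, H.add_right, H.smul_right, H.smul_right, hw, hu, hgy, H.add_right, hsd, hk]
      ring
    rw [hux, hA, show h w ((g : Mn) *ᵥ (k • v) - k • v) = h w δ by rw [hδy, hdep y, hk], hsx, hsx, hgy, map_add,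
      H.siegel_apply_perp hsd, H.siegel_apply, ← hk, Matrix.mulVec_sub, Matrix.mulVec_add, hgy, hgu,
      hgx (k • w) (by rw [H.smul_right, hw, mul_zero])]
    module
  · rw [hA, mul_add, map_add]
    obtain ⟨δ, hδy⟩ : ∃ δ, δ = (g : Mn) *ᵥ (k • v) - k • v := ⟨_, rfl⟩
    have hgv : (g : Mn) *ᵥ (k • v) = k • v + δ := by rw [hδy]; abel
    have hsd : h u δ = 0 := by rw [hδy]; exact hδ _
    have h1 := isometry_polar (O.iso g hg) (t • w) (k • v)
    rw [hgx _ (by rw [H.smul_right, hw, mul_zero]), hgv, QuadraticMap.polar_add_left, QuadraticMap.polar_add_right,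
      QuadraticMap.polar_add_right, H.spec t w δ, H.spec _ u δ, hsd, H.spec _ u (k • v), H.smul_right,
      huv, mul_zero, map_zero, mul_one, add_zero, mul_comm (φ (t • w)) k] at h1
    rw [← hδy]
    linear_combination h1

theorem rt_map {u : V} {φ : V →ₗ[F] E} {m : GL ι F} (hm : m ∈ M) {L : V →ₗ[E] V}
    (hL : ∀ x, h (L x) (L x) = h x x) (hmx : ∀ x, (m : Mn) *ᵥ x = L x)
    (hφ : Rt h M u (φ.comp (L.restrictScalars F))) : Rt h M (L u) φ := by
  obtain ⟨h0, g, hg, hgx⟩ := hφ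
  refine ⟨fun k => by simpa [map_smul] using h0 k, m * g * m⁻¹, mul_mem (mul_mem hm hg) (inv_mem hm), fun x hx => ?_⟩
  obtain ⟨y, rfl⟩ : ∃ y, (m : Mn) *ᵥ y = x := ⟨_, mulVec_inv_cancel m x⟩
  rw [hmx, O.form.iso_polar O.two hL] at hx
  rw [Units.val_mul, Units.val_mul, ← Matrix.mulVec_mulVec, ← Matrix.mulVec_mulVec, inv_mulVec_cancel, hgx y hx,
    hmx, map_add, map_smul, hmx]
  rfl

theorem zt_map {u : V} {A : E →ₗ[F] E} {m : GL ι F} (hm : m ∈ M) {L : V →ₗ[E] V}
    (hL : ∀ x, h (L x) (L x) = h x x) (hmx : ∀ x, (m : Mn) *ᵥ x = L x) (hA : Zt h M u A) : Zt h M (L u) A := by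
  obtain ⟨g, hg, hgx⟩ := hA
  refine ⟨m * g * m⁻¹, mul_mem (mul_mem hm hg) (inv_mem hm), fun x => ?_⟩
  obtain ⟨y, rfl⟩ : ∃ y, (m : Mn) *ᵥ y = x := ⟨_, mulVec_inv_cancel m x⟩
  rw [Units.val_mul, Units.val_mul, ← Matrix.mulVec_mulVec, ← Matrix.mulVec_mulVec, inv_mulVec_cancel, hgx,
    hmx, map_add, map_smul, hmx, O.form.iso_polar O.two hL]

theorem siegel_move {x u u' : V} (hu : h u u = 0) (hu' : h u' u' = 0) (hxu : h x u = 1) (hxu' : h x u' = 1) :
    O.form.siegel x (u' - u) u = u' := by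
  have H := O.form
  have hE := H.two_ne O.two
  rw [H.siegel_apply, hxu, one_smul, mul_one, H.sub_left, H.sub_left, H.sub_right, H.sub_right, hu, hu',
    H.symm u u']
  match_scalars <;> field_simp <;> ring

theorem win_move {u : V} (hW : Win h M u) {x u' : V} (hx : h x x = 0) (hu : h u u = 0) (hu' : h u' u' = 0)
    (hxu : h x u = 1) (hxu' : h x u' = 1) : Win h M u' := fun φ hφ => by
  have hw : h x (u' - u) = 0 := by rw [O.form.sub_right, hxu', hxu, sub_self]
  obtain ⟨m, hm, hmx⟩ := O.siegel_mem hx hw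
  have e := O.siegel_move hu hu' hxu hxu'
  have h1 := O.rt_map hm (O.form.siegel_iso O.two hx hw) hmx (φ := φ) (hW (φ.comp _) fun k => by
    simp [map_smul, e, hφ])
  rwa [e] at h1

theorem win_smul {u : V} (hW : Win h M u) {s : E} (hs : s ≠ 0) : Win h M (s • u) := fun φ hφ => by
  have h0 : ∀ k : E, φ (k • u) = 0 := fun k => by
    have := hφ (k * s⁻¹)
    rwa [smul_smul, mul_assoc, inv_mul_cancel₀ hs, mul_one] at this
  obtain ⟨-, g, hg, hgx⟩ := hW ((LinearMap.mulLeft F s).comp φ) fun k => by simp [h0]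
  refine ⟨hφ, g, hg, fun x hx => ?_⟩
  rw [hgx x (by rw [O.form.smul_left, mul_eq_zero] at hx; exact hx.resolve_left hs), smul_smul, LinearMap.comp_apply,
    LinearMap.mulLeft_apply, mul_comm]

/-- The radical at one line gives it at every line. -/
theorem win_all {u : V} (hu0 : u ≠ 0) (hu : h u u = 0) (hW : Win h M u) {u' : V} (hu'0 : u' ≠ 0)
    (hu' : h u' u' = 0) : Win h M u' := by
  have H := O.form
  have hE := H.two_ne O.two
  haveI : Module.Finite E (ι → F) := Module.Finite.of_restrictScalars_finite F E _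
  obtain ⟨x, hx, hxu, hxu'⟩ : ∃ x, h x x = 0 ∧ h x u ≠ 0 ∧ h x u' ≠ 0 := by
    obtain ⟨v, hv, huv⟩ := H.exists_pair O.two hu0 hu
    by_cases hc : h u u' = 0
    · by_cases hv' : h v u' = 0
      · obtain ⟨v', hv'', hu'v'⟩ := H.exists_pair O.two hu'0 hu'
        by_cases hv3 : h v' u = 0
        · refine ⟨v + v' - h v v' • u, ?_, ?_, ?_⟩
          · simp only [H.sub_left, H.sub_right, H.add_left, H.add_right, H.smul_left, H.smul_right, hv, hv'', hu,
              huv, H.symm u v, H.symm v' u, H.symm v v', hv3]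
            ring
          · simp [H.sub_left, H.add_left, H.smul_left, H.symm u v, huv, hv3, hu]
          · simp [H.sub_left, H.add_left, H.smul_left, H.symm u' v', hu'v', hc, hv']
        · exact ⟨v', hv'', hv3, by rw [H.symm, hu'v']; exact one_ne_zero⟩
      · exact ⟨v, hv, by rw [H.symm, huv]; exact one_ne_zero, hv'⟩
    · obtain ⟨v₁, hv₁⟩ : ∃ v₁, v₁ = (h u u')⁻¹ • u' := ⟨_, rfl⟩
      have e1 : h v₁ v₁ = 0 := by rw [hv₁, H.smul_left, H.smul_right, hu', mul_zero, mul_zero]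
      have e2 : h u v₁ = 1 := by rw [hv₁, H.smul_right, inv_mul_cancel₀ hc]
      obtain ⟨y, hyu, hyv, hyy⟩ : ∃ y, h u y = 0 ∧ h v₁ y = 0 ∧ h y y ≠ 0 := H.exists_aniso_W0 O.two O.dim hu e1 e2
      refine ⟨u + y - (h y y / 2) • v₁, ?_, ?_, ?_⟩
      · simp only [H.sub_left, H.sub_right, H.add_left, H.add_right, H.smul_left, H.smul_right, hu, e1, e2,
          H.symm u v₁, H.symm u y, H.symm v₁ y, hyu, hyv]
        field_simp
        ring
      · simp [H.sub_left, H.add_left, H.smul_left, hu, H.symm u y, hyu, H.symm u v₁, e2, hyy, hE]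
      · have e3 : u' = h u u' • v₁ := by rw [hv₁, smul_inv_smul₀ hc]
        rw [e3]
        simp [H.sub_left, H.add_left, H.smul_left, H.smul_right, e1, e2, H.symm v₁ y, hyv, hc]
  have hc0 := mul_ne_zero (inv_ne_zero hxu') hxu
  have h1 := O.win_move (x := (h x u)⁻¹ • x) (u' := ((h x u')⁻¹ * h x u) • u') hW
    (by rw [H.smul_left, H.smul_right, hx, mul_zero, mul_zero]) hu
    (by rw [H.smul_left, H.smul_right, hu', mul_zero, mul_zero])
    (by rw [H.smul_left, inv_mul_cancel₀ hxu])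
    (by rw [H.smul_left, H.smul_right]; field_simp)
  have h2 := O.win_smul h1 (inv_ne_zero hc0)
  rwa [inv_smul_smul₀ hc0] at h2

theorem rt_sum {u : V} (hu : h u u = 0) {α : Type*} (s : Finset α) (φ : α → V →ₗ[F] E)
    (hφ : ∀ i ∈ s, Rt h M u (φ i)) : Rt h M u (∑ i ∈ s, φ i) :=
  Finset.sum_induction φ (Rt h M u) (fun _ _ => O.rt_add hu) (O.rt_zero u) hφ

theorem win_of_left {u v : V} (hu : h u u = 0) (hv : h v v = 0) (huv : h u v = 1)
    (hall : ∀ w, h u w = 0 → h v w = 0 → ∀ A : E →ₗ[F] E,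
      Rt h M u (A.comp ((O.form.func w).restrictScalars F))) : Win h M u := fun φ hφ => by
  have H := O.form
  haveI : Module.Finite E (ι → F) := Module.Finite.of_restrictScalars_finite F E _
  let e := Module.finBasis E V
  choose w hw using fun i => H.exists_rep ((e.coord i).comp (H.proj u v))
  have hwu : ∀ i, h u (w i) = 0 ∧ h v (w i) = 0 := fun i => by
    rw [H.symm (w i) u, H.symm (w i) v, hw, hw]
    constructor <;> simp [HForm.proj_apply, hu, hv, huv, H.symm u v]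
  refine O.rt_congr hu (O.rt_sum hu Finset.univ _ fun i _ => hall (w i) (hwu i).1 (hwu i).2
    (φ.comp (lineMap F (e i)))) fun x hx => ?_
  have h1 : ∀ i, ((φ.comp (lineMap F (e i))).comp ((H.func (w i)).restrictScalars F)) x =
      φ (e.repr (H.proj u v x) i • e i) := fun i => by
    simp [lineMap_apply, HForm.func_apply, hw]
  rw [LinearMap.sum_apply, Finset.sum_congr rfl fun i _ => h1 i, ← map_sum, e.sum_repr, H.proj_apply, hx, zero_smul,
    sub_zero, map_sub, hφ, sub_zero]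

theorem zt_of_win {u v : V} (hu : h u u = 0) (hv : h v v = 0) (huv : h u v = 1) (hW : Win h M u) {A : E →ₗ[F] E}
    (hA : ∀ k, τ (k * A k) = 0) : Zt h M u A := by
  have H := O.form
  obtain ⟨y, hyu, hyv, hyy⟩ := H.exists_aniso_W0 O.two O.dim hu hv huv
  obtain ⟨φ, hφ⟩ : ∃ φ : V →ₗ[F] E,
      φ = (2 : F)⁻¹ • A.comp ((H.func ((h y y)⁻¹ • y)).restrictScalars F) := ⟨_, rfl⟩
  have hφ' : ∀ x, φ x = (2 : F)⁻¹ • A ((h y y)⁻¹ * h y x) := fun x => by
    rw [hφ]; simp [HForm.func_apply, H.smul_left]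
  obtain ⟨A', hA', hA''⟩ := O.bracket hu huv hyu (hW φ fun k => by
    rw [hφ', H.smul_right, H.symm u y, hyu, mul_zero, mul_zero, map_zero, smul_zero])
  have : A' = A := LinearMap.ext fun k => trace_ext fun t => by
    have hs := hA (t + k)
    rw [map_add, mul_add, add_mul, add_mul, map_add, map_add, map_add, hA, hA] at hs
    rw [hA'', hφ', hφ', H.smul_right, H.smul_right, show (h y y)⁻¹ * (k * h y y) = k by field_simp,
      show (h y y)⁻¹ * (t * h y y) = t by field_simp, mul_smul_comm, mul_smul_comm, map_smul, map_smul, smul_eq_mul,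
      smul_eq_mul, show τ (k * A t) = -τ (t * A k) by linear_combination hs]
    have h2 := O.two
    field_simp
    ring
  rwa [this] at hA'

theorem eMat_mem {u v : V} (hu : h u u = 0) (hv : h v v = 0) (huv : h u v = 1) (hW : Win h M u) {b : V}
    (hb : h u b = 0) : ∃ t ∈ M, (t : Mn) = eMat Q u b := by
  have H := O.form
  have hBu : ∀ x, h u x = 0 → B u x = 0 := fun x hx => by rw [H.form, hx, map_zero]
  obtain ⟨φ, hφ⟩ : ∃ φ : V →ₗ[F] E, φ = -((QuadraticMap.polarBilin Q b).smulRight (1 : E)) := ⟨_, rfl⟩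
  have hφ' : ∀ x, φ x = -(B b x • (1 : E)) := fun x => by rw [hφ]; rfl
  obtain ⟨h0, g, hg, hgx⟩ := hW φ fun k => by
    rw [hφ', QuadraticMap.polar_comm, H.spec, hb, mul_zero, map_zero, zero_smul, neg_zero]
  let L : V →ₗ[F] V := (Matrix.toLin' (eMat Q u b)).comp (Matrix.toLin' ((g⁻¹ : GL ι F) : Mn))
  have hL : ∀ x, L x = eMat Q u b *ᵥ (((g⁻¹ : GL ι F) : Mn) *ᵥ x) := fun x => by simp [L]
  have hfix : ∀ x, h u x = 0 → L x = x := fun x hx => by
    obtain ⟨y, rfl⟩ : ∃ y, (g : Mn) *ᵥ y = x := ⟨_, mulVec_inv_cancel g x⟩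
    have hy : h u y = 0 := by rw [← O.delta_perp hg (O.rt_fix hu h0 hgx) y, hx]
    rw [hL, inv_mulVec_cancel, eMat_mulVec, hBu y hy, mul_zero, zero_smul, zero_smul, hgx y hy, hφ']
    simp only [neg_smul, smul_assoc, one_smul]
    abel
  obtain ⟨A, hA, hLA⟩ := O.exists_zmap hu huv L (fun x => by
    rw [hL, eMat_quad (Q := Q) ⟨H.quad_zero O.two hu, hBu b hb⟩, O.iso _ (inv_mem hg)]) hfix
  obtain ⟨z, hz, hzx⟩ := O.zt_of_win hu hv huv hW hA
  refine ⟨z * g, mul_mem hz hg, Matrix.ext_iff_mulVec.2 fun x => ?_⟩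
  rw [Units.val_mul, ← Matrix.mulVec_mulVec, hzx, ← hLA, hL, inv_mulVec_cancel]

theorem cr_map {g : GL ι F} (hg : g ∈ M) {a : V} (ha : Q a = 0) (hga : (g : Mn) *ᵥ a = a) {b : V}
    (hb : b ∈ CR (M := M) ha) : (g : Mn) *ᵥ b ∈ CR (M := M) ha := by
  refine ⟨by conv_lhs => rw [← hga, isometry_polar (O.iso g hg), hb.1], fun c => ?_⟩
  obtain ⟨t, ht, htx⟩ := hb.2 c
  refine ⟨g * t * g⁻¹, mul_mem (mul_mem hg ht) (inv_mem hg), Matrix.ext_iff_mulVec.2 fun z => ?_⟩
  obtain ⟨z', rfl⟩ : ∃ z', (g : Mn) *ᵥ z' = z := ⟨_, mulVec_inv_cancel g z⟩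
  rw [Units.val_mul, Units.val_mul, ← Matrix.mulVec_mulVec, ← Matrix.mulVec_mulVec, inv_mulVec_cancel, htx,
    Matrix.mulVec_mulVec, isometry_eMat (O.iso g hg), ← Matrix.mulVec_mulVec, Matrix.mulVec_smul, hga]

theorem full_line (hWin : ∀ u, u ≠ 0 → h u u = 0 → Win h M u) {u : V} (hu0 : u ≠ 0) (hu : h u u = 0) :
    Full Q M u := by
  have H := O.form
  have hE := H.two_ne O.two
  have hQu := H.quad_zero O.two hu
  obtain ⟨v, hv, huv⟩ := H.exists_pair O.two hu0 hu
  have hP : ∀ b, h u b = 0 → b ∈ CR (M := M) hQu := fun b hb =>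
    ⟨by rw [H.form, hb, map_zero], fun c => O.eMat_mem hu hv huv (hWin u hu0 hu) (by
      rw [← algebraMap_smul E c b, H.smul_right, hb, mul_zero])⟩
  obtain ⟨y, hyu, hyv, hyy⟩ := H.exists_aniso_W0 O.two O.dim hu hv huv
  obtain ⟨θ, hθ⟩ : ∃ θ, θ = h y y / 2 := ⟨_, rfl⟩
  have hθ0 : θ ≠ 0 := hθ ▸ div_ne_zero hyy hE
  obtain ⟨u', hu'def⟩ : ∃ u', u' = u + y - θ • v := ⟨_, rfl⟩
  have hu' : h u' u' = 0 := by
    simp only [hu'def, hθ, H.sub_left, H.sub_right, H.add_left, H.add_right, H.smul_left, H.smul_right, hu, hv, huv,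
      H.symm u v, H.symm u y, H.symm v y, hyu, hyv]
    field_simp
    ring
  have hu'u : h u' u = -θ := by
    simp [hu'def, H.sub_left, H.add_left, H.smul_left, hu, H.symm u y, hyu, H.symm u v, huv]
  have hu'v : h u' v = 1 := by
    simp [hu'def, H.sub_left, H.add_left, H.smul_left, hv, H.symm v y, hyv, huv]
  obtain ⟨w, hwdef⟩ : ∃ w, w = (h y y)⁻¹ • y := ⟨_, rfl⟩
  have hwu : h u w = 0 := by rw [hwdef, H.smul_right, hyu, mul_zero]
  have hu'w : h u' w = 1 := by
    rw [hwdef, hu'def, H.smul_right, H.sub_left, H.add_left, H.smul_left, hyu, hyv, mul_zero, sub_zero, zero_add,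
      inv_mul_cancel₀ hyy]
  obtain ⟨v', hv', hu'v'⟩ := H.exists_pair O.two (u := u') (fun e => by
    rw [e, H.zero_left] at hu'v; exact zero_ne_one hu'v) hu'
  haveI := finiteE (F := F) (E := E)
  obtain ⟨κ₀, hκ₀, hκ0⟩ : ∃ κ₀ : E, τ κ₀ = 0 ∧ κ₀ ≠ 0 := by
    obtain ⟨κ₀, hκ, hκ0⟩ := O.exists_trace_zero
    exact ⟨κ₀, hκ, hκ0⟩
  obtain ⟨k', hk'⟩ : ∃ k', k' = κ₀ * θ⁻¹ := ⟨_, rfl⟩
  have hk'θ : k' * θ = κ₀ := by rw [hk', mul_assoc, inv_mul_cancel₀ hθ0, mul_one]
  have hk'0 : k' ≠ 0 := hk' ▸ mul_ne_zero hκ0 (inv_ne_zero hθ0)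
  obtain ⟨s, hs⟩ : ∃ s : E, τ (k' * s) = 1 := by
    obtain ⟨s₀, hs₀⟩ := trace_ne (F := F) (E := E)
    refine ⟨(τ s₀)⁻¹ • (k'⁻¹ * s₀), ?_⟩
    rw [mul_smul_comm, ← mul_assoc, mul_inv_cancel₀ hk'0, one_mul, map_smul, smul_eq_mul, inv_mul_cancel₀ hs₀]
  have hku : B (k' • u') u = 0 := by rw [H.spec, hu'u, mul_neg, map_neg, hk'θ, hκ₀, neg_zero]
  have hku' : h (k' • u') (k' • u') = 0 := by rw [H.smul_left, H.smul_right, hu', mul_zero, mul_zero]
  have hk'u'0 : k' • u' ≠ 0 := fun e => by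
    have h1 : h (k' • u') v = 0 := by rw [e, H.zero_left]
    rw [H.smul_left, hu'v, mul_one] at h1
    exact hk'0 h1
  have hWku : Win h M (k' • u') := hWin _ hk'u'0 hku'
  obtain ⟨v₂, hv₂, hkv₂⟩ := H.exists_pair O.two hk'u'0 hku'
  have key : ∀ κ : E, τ κ = 0 → ∃ X ∈ CR (M := M) hQu,
      h u X = κ - τ (κ * s * (h y y)⁻¹) • κ₀ := fun κ hκ => by
    obtain ⟨b, hb⟩ : ∃ b, b = κ • v - κ • w := ⟨_, rfl⟩
    have hub : h u b = κ := by rw [hb, H.sub_right, H.smul_right, H.smul_right, huv, hwu, mul_zero, sub_zero, mul_one]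
    have hu'b : h (k' • u') b = 0 := by
      rw [H.smul_left, hb, H.sub_right, H.smul_right, H.smul_right, hu'v, hu'w, sub_self, mul_zero]
    have hBbu : B b u = 0 := by rw [QuadraticMap.polar_comm, H.form, hub, hκ]
    have hcs : h u (s • w) = 0 := by rw [H.smul_right, hwu, mul_zero]
    have hkc : B (k' • u') (s • w) = 1 := by rw [H.spec, H.smul_right, hu'w, mul_one, hs]
    have hbc : B b (s • w) = -τ (κ * s * (h y y)⁻¹) := by
      rw [H.form, hb, H.sub_left, H.smul_left, H.smul_left, H.smul_right, H.smul_right, hwdef, H.smul_right,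
        H.smul_left, H.smul_right, hyv, ← map_neg]
      congr 1
      field_simp
      ring
    obtain ⟨t₁, ht₁, e₁⟩ := O.eMat_mem hku' hv₂ hkv₂ hWku hu'b
    obtain ⟨t₂, ht₂, e₂⟩ := O.eMat_mem hku' hv₂ hkv₂ hWku (b := -b) (by rw [H.neg_right, hu'b, neg_zero])
    have f₁ : (t₁ : Mn) *ᵥ u = u := by rw [e₁, eMat_mulVec, hku, hBbu]; simp
    have f₂ : (t₂ : Mn) *ᵥ u = u := by rw [e₂, eMat_mulVec, hku, QuadraticMap.polar_neg_left, hBbu]; simp
    have h1 := (CR (M := M) hQu).smul_mem (2 : F)⁻¹ ((CR (M := M) hQu).sub_mem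
      (O.cr_map ht₁ hQu f₁ (hP _ hcs)) (O.cr_map ht₂ hQu f₂ (hP _ hcs)))
    rw [e₁, e₂, eMat_mulVec, eMat_mulVec, hkc, QuadraticMap.map_neg, QuadraticMap.polar_neg_left, hbc] at h1
    have h2 := O.two
    refine ⟨_, (show b + τ (κ * s * (h y y)⁻¹) • (k' • u') ∈ CR (M := M) hQu from ?_), ?_⟩
    · generalize k' • u' = z at h1 ⊢
      convert h1 using 1
      match_scalars <;> simp only [map_inv₀, map_ofNat, map_one] <;> field_simp <;> ring
    · rw [H.add_right, hub, ← algebraMap_smul E _ (k' • u'), H.smul_right, H.smul_right, H.symm u' u, hu'u,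
        Algebra.smul_def, ← hk'θ]
      ring
  obtain ⟨X₀, hX₀, hX₀u⟩ := key κ₀ hκ₀
  have h2 := O.two
  have hX₀u' : h u X₀ = (2 : F)⁻¹ • κ₀ := by
    have h1 : τ (κ₀ * s * (h y y)⁻¹) = (2 : F)⁻¹ := by
      rw [← hk'θ, show k' * θ * s * (h y y)⁻¹ = (2 : F)⁻¹ • (k' * s) by
        rw [hθ, Algebra.smul_def, map_inv₀, map_ofNat]; field_simp, map_smul, hs, smul_eq_mul, mul_one]
    rw [hX₀u, h1]
    match_scalars
    field_simp
    ring
  intro b hb
  have hκ : τ (h u b) = 0 := by rw [← H.form]; exact hb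
  obtain ⟨X, hX, hXu⟩ := key _ hκ
  obtain ⟨c, hc⟩ : ∃ c : F, c = 2 * τ (h u b * s * (h y y)⁻¹) := ⟨_, rfl⟩
  have hmem := (CR (M := M) hQu).add_mem ((CR (M := M) hQu).add_mem hX ((CR (M := M) hQu).smul_mem c hX₀))
    (hP (b - (X + c • X₀)) (by
      rw [H.sub_right, H.add_right, hXu, ← algebraMap_smul E c X₀, H.smul_right, hX₀u', ← Algebra.smul_def, hc]
      match_scalars <;> field_simp <;> ring))
  rw [add_sub_cancel] at hmem
  obtain ⟨t, ht, htx⟩ := hmem.2 1
  exact ⟨t, ht, by rw [htx, one_smul]⟩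

theorem full_of_two {q tgt a : V} (hq : Full Q M q) (htgt : Full Q M tgt) (hQq : Q q = 0) (hQt : Q tgt = 0)
    (hQa : Q a = 0) (hqa : B q a ≠ 0) (hqt : B q tgt = B q a) : Full Q M a := by
  obtain ⟨b, hbdef⟩ : ∃ b, b = (B q a)⁻¹ • (tgt - a) := ⟨_, rfl⟩
  have hqb : B q b = 0 := by
    rw [hbdef, QuadraticMap.polar_smul_right, QuadraticMap.polar_sub_right, hqt, sub_self, smul_zero]
  obtain ⟨t, ht, htx⟩ := hq b hqb
  have hta : (t : Mn) *ᵥ a = tgt := by
    have e1 : B b a = (B q a)⁻¹ * B tgt a := by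
      rw [hbdef, QuadraticMap.polar_smul_left, QuadraticMap.polar_sub_left, polar_self2, hQa, mul_zero, sub_zero,
        smul_eq_mul]
    have e2 : Q b * B q a = -((B q a)⁻¹ * B tgt a) := by
      rw [hbdef, QuadraticMap.map_smul, sub_eq_add_neg, quad_add, QuadraticMap.map_neg, hQt, hQa,
        QuadraticMap.polar_neg_right, smul_eq_mul]
      field_simp
      ring
    rw [htx, eMat_mulVec, e1, e2, hbdef, smul_inv_smul₀ hqa]
    module
  have := full_map O.iso htgt (inv_mem ht)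
  rwa [← hta, inv_mulVec_cancel] at this

theorem exists_sing : ∃ u, u ≠ 0 ∧ h u u = 0 := by
  have H := O.form
  haveI := finiteE (F := F) (E := E)
  haveI : Module.Finite E (ι → F) := Module.Finite.of_restrictScalars_finite F E _
  let κ := Module.finBasis F E
  obtain ⟨u, -, hu0, hu⟩ := exists_common_zero (W := (⊤ : Submodule F V)) (fun j => H.trForm (κ j)) (by
    rw [finrank_top, ← Module.finrank_mul_finrank F E V, mul_comm]
    exact Nat.mul_lt_mul_of_pos_left (by have := O.dim; omega) Module.finrank_pos)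
  exact ⟨u, hu0, eq_zero_of_basis κ hu⟩

/-- The radical at one line gives all root elements. -/
theorem omega_le_of_win (hT : Tri Q) {u₀ : V} (hu₀0 : u₀ ≠ 0) (hu₀ : h u₀ u₀ = 0) (hW : Win h M u₀) :
    Geo.omegaGL ⇑Q ≤ M := by
  have H := O.form
  refine omegaGL_le_of_roots H.nd hT fun a b hab => ?_
  have hfull : ∀ u, u ≠ 0 → h u u = 0 → Full Q M u := fun u hu0 hu =>
    O.full_line (fun u hu0 hu => O.win_all hu₀0 hu₀ hW hu0 hu) hu0 hu
  have ha0 := hab.left_ne
  obtain ⟨v₀, hv₀, huv⟩ := H.exists_pair O.two hu₀0 hu₀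
  obtain ⟨q₀, hq₀, hq₀a⟩ : ∃ q, h q q = 0 ∧ h q a ≠ 0 := by
    by_cases h1 : h u₀ a = 0
    · by_cases h2 : h v₀ a = 0
      · obtain ⟨z, hz⟩ := H.exists_ne ha0
        obtain ⟨e1, e2⟩ := H.proj_perp hu₀ hv₀ huv z
        have e3 : h (H.proj u₀ v₀ z) a = h z a := by
          simp [HForm.proj_apply, H.sub_left, H.smul_left, h1, h2]
        refine ⟨u₀ + H.proj u₀ v₀ z - (h (H.proj u₀ v₀ z) (H.proj u₀ v₀ z) / 2) • v₀, ?_, ?_⟩
        · have hE := H.two_ne O.two
          generalize H.proj u₀ v₀ z = y at e1 e2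
          simp only [H.sub_left, H.sub_right, H.add_left, H.add_right, H.smul_left, H.smul_right, hu₀, hv₀, huv,
            H.symm u₀ v₀, H.symm u₀ y, H.symm v₀ y, e1, e2]
          field_simp
          ring
        · simpa [H.sub_left, H.add_left, H.smul_left, h1, h2, e3] using hz
      · exact ⟨v₀, hv₀, h2⟩
    · exact ⟨u₀, hu₀, h1⟩
  obtain ⟨k, hk⟩ : ∃ k : E, τ (k * h q₀ a) ≠ 0 := by
    by_contra hc
    push Not at hc
    exact hq₀a (trace_ext (F := F) fun k => by rw [hc k, mul_zero, map_zero])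
  have hk0 : k ≠ 0 := fun e => hk (by rw [e, zero_mul, map_zero])
  obtain ⟨q, hqdef⟩ : ∃ q, q = k • q₀ := ⟨_, rfl⟩
  have hq : h q q = 0 := by rw [hqdef, H.smul_left, H.smul_right, hq₀, mul_zero, mul_zero]
  have hqa : B q a ≠ 0 := by rw [hqdef, H.spec]; exact hk
  have hq0 : q ≠ 0 := fun e => hqa (by rw [e, QuadraticMap.polar_zero_left])
  obtain ⟨q', hq', hqq'⟩ := H.exists_pair O.two hq0 hq
  obtain ⟨s, hs⟩ := trace_ne (F := F) (E := E)
  obtain ⟨tgt, htgt⟩ : ∃ tgt, tgt = (B q a / τ s) • s • q' := ⟨_, rfl⟩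
  have hts : h tgt tgt = 0 := by
    rw [htgt, ← algebraMap_smul E (B q a / τ s), H.smul_left, H.smul_right, H.smul_left, H.smul_right, hq']
    ring
  have hqt : B q tgt = B q a := by
    rw [htgt, QuadraticMap.polar_smul_right, H.form q (s • q'), H.smul_right, hqq', mul_one, smul_eq_mul,
      div_mul_cancel₀ _ hs]
  exact O.full_of_two (hfull q hq0 hq) (hfull tgt (fun e => hqa (by rw [← hqt, e, QuadraticMap.polar_zero_right])) hts)
    (H.quad_zero O.two hq) (H.quad_zero O.two hts) hab.1 hqa hqt b hab.2.2.1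

end OF

end Cfsg.Agent.Classical.OrthField
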