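import Mathlib.NumberTheory.JacobiSum.Basic
import Mathlib.NumberTheory.LegendreSymbol.QuadraticChar.Basic
import Mathlib.FieldTheory.Finite.Basic
import Mathlib.Tactic.LinearCombination
import Mathlib.Tactic.FieldSimp
import Mathlib.Tactic.Ring

/-!
Numbers and sums of the field elements `z` with prescribed square classes of `z` and `1 - z`.
-/

set_option autoImplicit false
set_option linter.unusedSectionVars false

namespace Cfsg.Agent.Classical.OrthRef

variable {F : Type*} [Field F] [Fintype F] [DecidableEq F]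

local notation "χ" => quadraticChar F

theorem chi_cases {z : F} (hz : z ≠ 0) : χ z = 1 ∨ χ z = -1 := quadraticChar_dichotomy hz

theorem chi_one_iff {z : F} (hz : z ≠ 0) : χ z = 1 ↔ IsSquare z := quadraticChar_one_iff_isSquare hz

theorem chi_neg_one_iff {z : F} : χ z = -1 ↔ ¬ IsSquare z := quadraticChar_neg_one_iff_not_isSquare

theorem chi_mul_self {z : F} (hz : z ≠ 0) : χ z * χ z = 1 := by
  rcases chi_cases hz with h | h <;> simp [h]

theorem chi_sq_mul {s : F} (hs : s ≠ 0) (z : F) : χ (s * s * z) = χ z := by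
  rw [map_mul, map_mul, chi_mul_self hs, one_mul]

theorem chi_ne_zero {z : F} (hz : z ≠ 0) : χ z ≠ 0 := fun h => hz (quadraticChar_eq_zero_iff.1 h)

theorem not_char_two (h2 : (2 : F) ≠ 0) : ringChar F ≠ 2 := fun h => h2 (by
  haveI := ringChar.of_eq h
  exact CharTwo.two_eq_zero)

/-- The `z` outside `{0, 1}` with given classes of `z` and of `1 - z`. -/
def cls (r k : ℤ) : Finset F :=
  Finset.univ.filter fun z => z ≠ 0 ∧ z ≠ 1 ∧ χ z = r ∧ χ (1 - z) = k

theorem mem_cls {r k : ℤ} {z : F} : z ∈ cls (F := F) r k ↔ z ≠ 0 ∧ z ≠ 1 ∧ χ z = r ∧ χ (1 - z) = k := by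
  simp [cls]

variable (h2 : (2 : F) ≠ 0)
include h2

theorem two_sum_chi : ∑ z : F, χ z * χ (1 - z) = -χ (-1) := by
  have hχ : χ ≠ 1 := quadraticChar_ne_one (not_char_two h2)
  have h := jacobiSum_nontrivial_inv hχ
  rwa [(quadraticChar_isQuadratic F).inv, jacobiSum] at h

theorem sum_chi_sub : ∑ z : F, χ (1 - z) = 0 := by
  rw [← Equiv.sum_comp (Equiv.subLeft (1 : F))]
  simp only [Equiv.subLeft_apply, sub_sub_cancel]
  exact quadraticChar_sum_zero (not_char_two h2)

theorem card_cls {r k : ℤ} (hr : r = 1 ∨ r = -1) (hk : k = 1 ∨ k = -1) :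
    4 * ((cls (F := F) r k).card : ℤ) = (Fintype.card F : ℤ) - 2 - k - r - r * k * χ (-1) := by
  classical
  have hind : ∀ z : F, (1 + r * χ z) * (1 + k * χ (1 - z)) =
      (if z ∈ cls r k then 4 else 0) + (if z = 0 then 1 + k else 0) + (if z = 1 then 1 + r else 0) := by
    intro z
    rcases eq_or_ne z 0 with rfl | h0
    · simp [mem_cls, quadraticChar_one_iff_isSquare]
    rcases eq_or_ne z 1 with rfl | h1
    · simp [mem_cls]
    rw [if_neg h0, if_neg h1, add_zero, add_zero]
    simp only [mem_cls, h0, h1, ne_eq, not_false_iff, true_and]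
    rcases chi_cases h0 with a | a <;> rcases chi_cases (sub_ne_zero.2 (Ne.symm h1)) with b | b <;>
      rcases hr with rfl | rfl <;> rcases hk with rfl | rfl <;> simp [a, b]
  have hs := Finset.sum_congr (s₁ := (Finset.univ : Finset F)) rfl fun z _ => hind z
  simp only [Finset.sum_add_distrib, Finset.sum_ite_eq', Finset.mem_univ, if_true] at hs
  rw [← Finset.sum_filter, Finset.sum_const, Finset.filter_univ_mem, nsmul_eq_mul] at hs
  have he : ∑ z : F, (1 + r * χ z) * (1 + k * χ (1 - z)) =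
      (Fintype.card F : ℤ) + r * (∑ z : F, χ z) + k * (∑ z : F, χ (1 - z)) +
        r * k * (∑ z : F, χ z * χ (1 - z)) := by
    rw [Finset.mul_sum, Finset.mul_sum, Finset.mul_sum, show (Fintype.card F : ℤ) = ∑ _z : F, (1 : ℤ) by simp,
      ← Finset.sum_add_distrib, ← Finset.sum_add_distrib, ← Finset.sum_add_distrib]
    exact Finset.sum_congr rfl fun z _ => by ring
  rw [he, quadraticChar_sum_zero (not_char_two h2), sum_chi_sub h2, two_sum_chi h2] at hs
  linarith

/-- Both classes are met, except in the smallest fields. -/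
theorem cls_nonempty {r k : ℤ} (hr : r = 1 ∨ r = -1) (hk : k = 1 ∨ k = -1) (h7 : 7 ≤ Fintype.card F) :
    (cls (F := F) r k).Nonempty := by
  have h := card_cls h2 hr hk
  have h7' : (7 : ℤ) ≤ Fintype.card F := by exact_mod_cast h7
  rw [← Finset.card_pos]
  rcases chi_cases (z := (-1 : F)) (by norm_num) with a | a <;> rw [a] at h <;>
    rcases hr with rfl | rfl <;> rcases hk with rfl | rfl <;> omega

theorem cls_nonempty_five {r k : ℤ} (hr : r = 1 ∨ r = -1) (hk : k = 1 ∨ k = -1) (h5 : Fintype.card F = 5)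
    (hrk : ¬ (r = 1 ∧ k = 1)) : (cls (F := F) r k).Nonempty := by
  have h := card_cls h2 hr hk
  have he : χ (-1) = 1 := by
    rw [chi_one_iff (by norm_num), FiniteField.isSquare_neg_one_iff, h5]
    norm_num
  rw [he, h5] at h
  rw [← Finset.card_pos]
  rcases hr with rfl | rfl <;> rcases hk with rfl | rfl <;> first | omega | exact absurd ⟨rfl, rfl⟩ hrk

theorem sum_mul_chi (h5 : 5 ≤ Fintype.card F) : ∑ z : F, z * (χ z : F) = 0 := by
  obtain ⟨g, hg0, hg⟩ : ∃ g : F, g ≠ 0 ∧ g * g ≠ 1 := by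
    by_contra hc
    push Not at hc
    have : (Finset.univ : Finset F) ⊆ {0, 1, -1} := fun x _ => by
      rcases eq_or_ne x 0 with rfl | h
      · simp
      · rcases mul_self_eq_one_iff.1 (hc x h) with e | e <;> simp [e]
    have := (Finset.card_le_card this).trans Finset.card_le_three
    rw [Finset.card_univ] at this
    omega
  have h : ∑ z : F, z * (χ z : F) = g * g * ∑ z : F, z * (χ z : F) := by
    conv_lhs => rw [← Equiv.sum_comp (Equiv.mulLeft₀ (g * g) (mul_ne_zero hg0 hg0))]
    rw [Finset.mul_sum]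
    refine Finset.sum_congr rfl fun z _ => ?_
    show g * g * z * (χ (g * g * z) : F) = _
    rw [chi_sq_mul hg0, mul_assoc]
  have h' : (g * g - 1) * ∑ z : F, z * (χ z : F) = 0 := by rw [sub_mul, ← h, one_mul, sub_self]
  exact (mul_eq_zero.1 h').resolve_left (sub_ne_zero.2 hg)

theorem sum_self (h5 : 5 ≤ Fintype.card F) : ∑ z : F, z = 0 := by
  have := FiniteField.sum_pow_lt_card_sub_one F 1 (by omega)
  simpa using this

theorem sum_mul_chi_sub (h5 : 5 ≤ Fintype.card F) : ∑ z : F, z * (χ (1 - z) : F) = 0 := by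
  have hsum : ∑ z : F, (χ z : F) = 0 := by
    rw [← Int.cast_sum, quadraticChar_sum_zero (not_char_two h2), Int.cast_zero]
  rw [← Equiv.sum_comp (Equiv.subLeft (1 : F))]
  simp only [Equiv.subLeft_apply, sub_sub_cancel, sub_mul, one_mul, Finset.sum_sub_distrib, hsum,
    sum_mul_chi h2 h5, sub_zero]

theorem two_mul_sum_chi_chi : 2 * ∑ z : F, z * ((χ z : F) * (χ (1 - z) : F)) = -(χ (-1) : F) := by
  have hJ : ∑ z : F, (χ z : F) * (χ (1 - z) : F) = -(χ (-1) : F) := by
    rw [← Int.cast_neg, ← two_sum_chi h2, Int.cast_sum]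
    exact Finset.sum_congr rfl fun z _ => (Int.cast_mul _ _).symm
  have hflip : ∑ z : F, z * ((χ z : F) * (χ (1 - z) : F)) =
      ∑ z : F, (1 - z) * ((χ z : F) * (χ (1 - z) : F)) := by
    conv_lhs => rw [← Equiv.sum_comp (Equiv.subLeft (1 : F))]
    exact Finset.sum_congr rfl fun z _ => by simp only [Equiv.subLeft_apply, sub_sub_cancel]; ring
  rw [two_mul]
  conv_lhs => arg 2; rw [hflip]
  rw [← Finset.sum_add_distrib, ← hJ]
  exact Finset.sum_congr rfl fun z _ => by ring

/-- The sum of a class. -/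
theorem sum_cls {r k : ℤ} (hr : r = 1 ∨ r = -1) (hk : k = 1 ∨ k = -1) (h5 : 5 ≤ Fintype.card F) :
    8 * ∑ z ∈ cls (F := F) r k, z = -((r : F) * k * (χ (-1) : F)) - 2 * (1 + (r : F)) := by
  classical
  have hind : ∀ z : F, z * ((1 + (r : F) * (χ z : F)) * (1 + (k : F) * (χ (1 - z) : F))) =
      (if z ∈ cls r k then 4 * z else 0) + (if z = 1 then 1 + (r : F) else 0) := by
    intro z
    rcases eq_or_ne z 0 with rfl | h0
    · simp [mem_cls]
    rcases eq_or_ne z 1 with rfl | h1
    · simp [mem_cls]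
    rw [if_neg h1, add_zero]
    simp only [mem_cls, h0, h1, ne_eq, not_false_iff, true_and]
    rcases chi_cases h0 with a | a <;> rcases chi_cases (sub_ne_zero.2 (Ne.symm h1)) with b | b <;>
      rcases hr with rfl | rfl <;> rcases hk with rfl | rfl <;> simp [a, b] <;> ring
  have hs := Finset.sum_congr (s₁ := (Finset.univ : Finset F)) rfl fun z _ => hind z
  simp only [Finset.sum_add_distrib, Finset.sum_ite_eq', Finset.mem_univ, if_true] at hs
  rw [← Finset.sum_filter, Finset.filter_univ_mem, ← Finset.mul_sum] at hs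
  have he : ∑ z : F, z * ((1 + (r : F) * (χ z : F)) * (1 + (k : F) * (χ (1 - z) : F))) =
      ∑ z : F, z + (r : F) * (∑ z : F, z * (χ z : F)) + (k : F) * (∑ z : F, z * (χ (1 - z) : F)) +
        (r : F) * k * (∑ z : F, z * ((χ z : F) * (χ (1 - z) : F))) := by
    rw [Finset.mul_sum, Finset.mul_sum, Finset.mul_sum, ← Finset.sum_add_distrib, ← Finset.sum_add_distrib,
      ← Finset.sum_add_distrib]
    exact Finset.sum_congr rfl fun z _ => by ring
  rw [he, sum_self h2 h5, sum_mul_chi h2 h5, sum_mul_chi_sub h2 h5] at hs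
  linear_combination (r : F) * k * two_mul_sum_chi_chi h2 - 2 * hs

omit h2

/-- An additive group with many multipliers is everything. -/
theorem card_mul_le {U : Finset F} (h0 : (0 : F) ∈ U) (hsub : ∀ x ∈ U, ∀ y ∈ U, x - y ∈ U) {C : Finset F}
    (hC0 : (0 : F) ∉ C) (hC : ∀ c ∈ C, ∀ u ∈ U, c * u ∈ U) (hne : U ≠ Finset.univ) :
    U.card * C.card + U.card ≤ Fintype.card F := by
  classical
  obtain ⟨t, ht⟩ : ∃ t, t ∉ U := by
    by_contra hc
    push Not at hc
    exact hne (Finset.eq_univ_of_forall hc)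
  have cancel : ∀ d : F, d ≠ 0 → (∀ u ∈ U, d * u ∈ U) → d * t ∉ U := by
    intro d hd hU h
    have himg : U.image (d * ·) = U := by
      refine Finset.eq_of_subset_of_card_le (fun y hy => ?_)
        (Finset.card_image_of_injective _ (mul_right_injective₀ hd)).ge
      obtain ⟨u, hu, rfl⟩ := Finset.mem_image.1 hy
      exact hU u hu
    rw [← himg, Finset.mem_image] at h
    obtain ⟨u, hu, e⟩ := h
    exact ht (mul_left_cancel₀ hd e ▸ hu)
  have hinj : Set.InjOn (fun p : F × F => p.1 + p.2 * t) ↑(U ×ˢ C) := by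
    rintro ⟨u, c⟩ hu ⟨u', c'⟩ hu' e
    simp only [Finset.coe_product, Set.mem_prod, Finset.mem_coe] at hu hu'
    have e' : u + c * t = u' + c' * t := e
    have hcc : c = c' := by
      by_contra hne'
      refine cancel (c - c') (sub_ne_zero.2 hne')
        (fun v hv => by rw [sub_mul]; exact hsub _ (hC c hu.2 v hv) _ (hC c' hu'.2 v hv)) ?_
      rw [show (c - c') * t = u' - u by linear_combination e']
      exact hsub _ hu'.1 _ hu.1
    subst hcc
    exact Prod.ext (add_right_cancel e') rfl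
  have hdisj : Disjoint U ((U ×ˢ C).image fun p : F × F => p.1 + p.2 * t) := by
    rw [Finset.disjoint_right]
    intro y hy hyU
    obtain ⟨⟨u, c⟩, hp, rfl⟩ := Finset.mem_image.1 hy
    rw [Finset.mem_product] at hp
    exact cancel c (fun e => hC0 (e ▸ hp.2)) (hC c hp.2) (by simpa using hsub _ hyU u hp.1)
  have := Finset.card_le_univ (U ∪ (U ×ˢ C).image fun p : F × F => p.1 + p.2 * t)
  rw [Finset.card_union_of_disjoint hdisj, Finset.card_image_of_injOn hinj, Finset.card_product] at this
  omega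

end Cfsg.Agent.Classical.OrthRef
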