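import Mathlib.LinearAlgebra.QuadraticForm.Basic
import Mathlib.LinearAlgebra.FiniteDimensional.Lemmas
import Mathlib.FieldTheory.Finite.Basic
import Mathlib.Tactic.LinearCombination
import Mathlib.Tactic.FieldSimp
import Mathlib.Tactic.Module
import Mathlib.Tactic.Ring

/-!
Reflections of a quadratic space as linear maps, and the lines of a plane.
-/

set_option autoImplicit false
set_option linter.unusedSectionVars false
set_option quotPrecheck false

namespace Cfsg.Agent.Classical.OrthRef

open Module

variable {F W : Type*} [Field F] [AddCommGroup W] [Module F W] {Q : QuadraticForm F W}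

local notation "B" => QuadraticMap.polar ⇑Q

/-- The reflection at `v`; the identity when `Q v = 0`. -/
noncomputable def rf (Q : QuadraticForm F W) (v : W) : W →ₗ[F] W :=
  LinearMap.id - (QuadraticMap.polarBilin Q v).smulRight ((Q v)⁻¹ • v)

theorem rf_apply (v x : W) : rf Q v x = x - (B v x * (Q v)⁻¹) • v := by
  simp [rf, smul_smul]

theorem rf_of_zero {v : W} (hv : Q v = 0) (x : W) : rf Q v x = x := by simp [rf_apply, hv]

theorem rf_one {v : W} (hv : Q v = 1) (x : W) : rf Q v x = x - B v x • v := by simp [rf_apply, hv]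

theorem polar_diag (v : W) : B v v = 2 * Q v := by
  rw [QuadraticMap.polar_self, nsmul_eq_mul]; norm_num

theorem rf_perp {v x : W} (h : B v x = 0) : rf Q v x = x := by simp [rf_apply, h]

theorem rf_self {v : W} (hv : Q v ≠ 0) : rf Q v v = -v := by
  rw [rf_apply, polar_diag, mul_assoc, mul_inv_cancel₀ hv, mul_one]; module

theorem rf_rf (v x : W) : rf Q v (rf Q v x) = x := by
  by_cases hv : Q v = 0
  · rw [rf_of_zero hv, rf_of_zero hv]
  · rw [rf_apply v x, map_sub, map_smul, rf_self hv, rf_apply]; module

theorem quad_add_smul' (x v : W) (c : F) : Q (x + c • v) = Q x + c * c * Q v + c * B x v := by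
  rw [QuadraticMap.map_add (f := Q), QuadraticMap.map_smul, QuadraticMap.polar_smul_right, smul_eq_mul, smul_eq_mul]

theorem quad_rf (v x : W) : Q (rf Q v x) = Q x := by
  by_cases hv : Q v = 0
  · rw [rf_of_zero hv]
  · rw [rf_apply, sub_eq_add_neg, ← neg_smul, quad_add_smul', QuadraticMap.polar_comm _ x v]
    field_simp
    ring

theorem polar_of_quad {g : W →ₗ[F] W} (hg : ∀ x, Q (g x) = Q x) (x y : W) : B (g x) (g y) = B x y := by
  simp only [QuadraticMap.polar, ← map_add, hg]

theorem polar_rf (v x y : W) : B (rf Q v x) (rf Q v y) = B x y := polar_of_quad (quad_rf v) x y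

theorem polar_rf_left (v x y : W) : B (rf Q v x) y = B x (rf Q v y) := by
  conv_lhs => rw [← rf_rf (Q := Q) v y]
  rw [polar_rf]

theorem rf_conj {g : W →ₗ[F] W} (hg : ∀ x, Q (g x) = Q x) (v x : W) : g (rf Q v x) = rf Q (g v) (g x) := by
  rw [rf_apply, rf_apply, map_sub, map_smul, hg, polar_of_quad hg]

theorem rf_smul {c : F} (hc : c ≠ 0) (v x : W) : rf Q (c • v) x = rf Q v x := by
  rw [rf_apply, rf_apply, QuadraticMap.map_smul, QuadraticMap.polar_smul_left, smul_eq_mul, smul_eq_mul, smul_smul]
  congr 2
  by_cases hv : Q v = 0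
  · simp [hv]
  · field_simp

theorem rf_injective (v : W) : Function.Injective (rf Q v) := fun x y h => by
  rw [← rf_rf (Q := Q) v x, h, rf_rf]

/-- The reflection as an equivalence. -/
noncomputable def rfE (Q : QuadraticForm F W) (v : W) : W ≃ₗ[F] W :=
  LinearEquiv.ofInvolutive (rf Q v) (rf_rf v)

theorem rfE_apply (v x : W) : rfE Q v x = rf Q v x := rfl

theorem rf_scale {c : F} (hc : c ≠ 0) (v : W) : rf (c • Q) v = rf Q v := by
  refine LinearMap.ext fun x => ?_
  rw [rf_apply, rf_apply, QuadraticMap.smul_apply, smul_eq_mul, QuadraticMap.coeFn_smul,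
    show QuadraticMap.polar (c • ⇑Q) v x = c * B v x from QuadraticMap.polar_smul _ _ _ _]
  congr 2
  by_cases hv : Q v = 0
  · simp [hv]
  · field_simp

section Plane

variable [FiniteDimensional F W] {D : Submodule F W} (h2 : finrank F D = 2)
  (hnd : ∀ w ∈ D, w ≠ 0 → ∃ z ∈ D, QuadraticMap.polar ⇑Q w z ≠ 0)
include h2 hnd

/-- Two independent vectors of a plane have no common perpendicular there. -/
theorem perp_pair {v v' z : W} (hv : v ∈ D) (hv' : v' ∈ D) (hind : LinearIndependent F ![v, v'])
    (hz : z ∈ D) (h : B v z = 0) (h' : B v' z = 0) : z = 0 := by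
  by_contra hz0
  obtain ⟨w, hw, hwz⟩ := hnd z hz hz0
  have hspan : Submodule.span F {v, v'} = D := by
    refine Submodule.eq_of_le_of_finrank_le (Submodule.span_le.2 ?_) ?_
    · rintro w (rfl | rfl) <;> assumption
    · have := finrank_span_eq_card hind
      rw [Matrix.range_cons_cons_empty, Fintype.card_fin] at this
      rw [this, h2]
  obtain ⟨a, b, rfl⟩ := Submodule.mem_span_pair.1 (hspan.symm ▸ hw : w ∈ Submodule.span F {v, v'})
  refine hwz ?_
  simp [QuadraticMap.polar_add_right, QuadraticMap.polar_smul_right, QuadraticMap.polar_comm _ z, h, h']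

/-- Reflections of a plane agreeing at a non-zero vector are equal. -/
theorem dep_of_rf_eq {v v' z : W} (hv : v ∈ D) (hv' : v' ∈ D) (hQ : Q v ≠ 0) (hQ' : Q v' ≠ 0) (hz : z ∈ D)
    (hz0 : z ≠ 0) (h : rf Q v z = rf Q v' z) : ∃ c : F, v' = c • v := by
  rw [rf_apply, rf_apply, sub_right_inj] at h
  by_cases hb : B v' z = 0
  · by_cases ha : B v z = 0
    · have hv0 : v ≠ 0 := fun e => hQ (by rw [e, QuadraticMap.map_zero])
      by_contra hc
      push Not at hc
      exact hz0 (perp_pair h2 hnd hv hv' ((LinearIndependent.pair_iff' hv0).2 fun a e => hc a e.symm) hz ha hb)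
    · rw [hb, zero_mul, zero_smul, smul_eq_zero] at h
      exact absurd (h.resolve_left (mul_ne_zero ha (inv_ne_zero hQ))) fun e => hQ (by rw [e, QuadraticMap.map_zero])
  · refine ⟨(B v' z * (Q v')⁻¹)⁻¹ * (B v z * (Q v)⁻¹), ?_⟩
    rw [mul_smul, h, inv_smul_smul₀ (mul_ne_zero hb (inv_ne_zero hQ'))]

theorem exists_basis_plane : ∃ e ∈ D, ∃ f ∈ D, LinearIndependent F ![e, f] ∧
    ∀ z ∈ D, ∃ a b : F, z = a • e + b • f := by
  let bs := Module.finBasisOfFinrankEq F D h2
  refine ⟨bs 0, (bs 0).2, bs 1, (bs 1).2, ?_, fun z hz => ?_⟩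
  · refine LinearIndependent.pair_iff.2 fun s t hst => ?_
    have h := Fintype.linearIndependent_iff.1 bs.linearIndependent ![s, t] (by
      refine Subtype.ext ?_
      simpa [Fin.sum_univ_two] using hst)
    exact ⟨h 0, h 1⟩
  · refine ⟨bs.repr ⟨z, hz⟩ 0, bs.repr ⟨z, hz⟩ 1, ?_⟩
    have h := congrArg Subtype.val (bs.sum_repr ⟨z, hz⟩)
    simp only [Fin.sum_univ_two, Submodule.coe_add, Submodule.coe_smul] at h
    exact h.symm

variable [Fintype F]

/-- Representatives of the anisotropic lines. -/
theorem exists_lines : ∃ (N : ℕ) (l : Fin N → W), (∀ i, l i ∈ D) ∧ (∀ i, Q (l i) ≠ 0) ∧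
    (∀ i j, (∃ c : F, l j = c • l i) → i = j) ∧ Fintype.card F ≤ N + 1 ∧
    ((∀ z ∈ D, Q z = 0 → z = 0) → N = Fintype.card F + 1) := by
  classical
  obtain ⟨e, he, f, hf, hind, -⟩ := exists_basis_plane h2 hnd
  let φ : Option F → W := fun o => o.elim e fun t => f + t • e
  have hφD : ∀ o, φ o ∈ D := fun o => by
    cases o with
    | none => exact he
    | some t => exact D.add_mem hf (D.smul_mem _ he)
  have hφ0 : ∀ o, φ o ≠ 0 := fun o h => by
    cases o with
    | none => exact hind.ne_zero 0 h
    | some t =>
      have := LinearIndependent.pair_iff.1 hind t 1 (by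
        have h' : f + t • e = 0 := h
        rw [one_smul, add_comm]; exact h')
      exact one_ne_zero this.2
  have hφinj : ∀ o o', (∃ c : F, φ o' = c • φ o) → o = o' := by
    rintro o o' ⟨c, hc⟩
    cases o with
    | none => cases o' with
      | none => rfl
      | some t =>
        have hc' : f + t • e = c • e := hc
        exact absurd (LinearIndependent.pair_iff.1 hind (t - c) 1 (by linear_combination (norm := module) hc')).2
          one_ne_zero
    | some t => cases o' with
      | none =>
        have hc' : e = c • (f + t • e) := hc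
        have := LinearIndependent.pair_iff.1 hind (c * t - 1) c (by linear_combination (norm := module) -hc')
        rw [this.2, zero_mul, zero_sub, neg_eq_zero] at this
        exact absurd this.1 one_ne_zero
      | some t' =>
        have hc' : f + t' • e = c • (f + t • e) := hc
        have := LinearIndependent.pair_iff.1 hind (t' - c * t) (1 - c) (by linear_combination (norm := module) hc')
        rw [show c = 1 from (sub_eq_zero.1 this.2).symm, one_mul, sub_eq_zero] at this
        rw [this.1]
  let A : Finset (Option F) := Finset.univ.filter fun o => Q (φ o) ≠ 0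
  have hsing : (Finset.univ.filter fun o => ¬ Q (φ o) ≠ 0).card ≤ 2 := by
    by_contra hlt
    obtain ⟨a, ha, b, hb, c, hc, hab, hac, hbc⟩ := Finset.two_lt_card.1 (not_le.1 hlt)
    simp only [ne_eq, not_not, Finset.mem_filter, Finset.mem_univ, true_and] at ha hb hc
    have hsome : ∀ t, Q (φ (some t)) = Q f + t * t * Q e + t * B f e := fun t => quad_add_smul' f e t
    have hfe : Q e = 0 → B f e ≠ 0 := fun h0 hfe => hind.ne_zero 0 (by
      refine perp_pair h2 hnd he hf hind he ?_ hfe
      show B e e = 0
      rw [polar_diag, h0, mul_zero])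
    by_cases h0 : Q e = 0
    · have one : ∀ t t', Q (φ (some t)) = 0 → Q (φ (some t')) = 0 → t = t' := fun t t' h h' => by
        rw [hsome, h0] at h h'
        have : (t - t') * B f e = 0 := by linear_combination h - h'
        exact sub_eq_zero.1 ((mul_eq_zero.1 this).resolve_right (hfe h0))
      rcases a with _ | a <;> rcases b with _ | b <;> rcases c with _ | c <;>
        first
        | exact hab rfl | exact hac rfl | exact hbc rfl
        | exact hab (congrArg some (one _ _ ha hb)) | exact hac (congrArg some (one _ _ ha hc))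
        | exact hbc (congrArg some (one _ _ hb hc))
    · have two : ∀ t t', Q (φ (some t)) = 0 → Q (φ (some t')) = 0 → t ≠ t' → (t + t') * Q e + B f e = 0 :=
        fun t t' h h' hne => by
        rw [hsome] at h h'
        have : (t - t') * ((t + t') * Q e + B f e) = 0 := by linear_combination h - h'
        exact (mul_eq_zero.1 this).resolve_left (sub_ne_zero.2 hne)
      rcases a with _ | a
      · exact h0 ha
      rcases b with _ | b
      · exact h0 hb
      rcases c with _ | c
      · exact h0 hc
      have e1 := two a b ha hb fun e => hab (congrArg some e)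
      have e2 := two a c ha hc fun e => hac (congrArg some e)
      have : (b - c) * Q e = 0 := by linear_combination e1 - e2
      exact hbc (congrArg some (sub_eq_zero.1 ((mul_eq_zero.1 this).resolve_right h0)))
  have hsum := Finset.card_filter_add_card_filter_not (s := (Finset.univ : Finset (Option F)))
    (fun o => Q (φ o) ≠ 0)
  rw [Finset.card_univ, Fintype.card_option] at hsum
  refine ⟨A.card, fun i => φ (A.equivFin.symm i : Option F), fun i => hφD _,
    fun i => (Finset.mem_filter.1 (A.equivFin.symm i).2).2, fun i j h => ?_, ?_, fun hz => ?_⟩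
  · exact A.equivFin.symm.injective (Subtype.ext (hφinj _ _ h))
  · show _ ≤ A.card + 1
    simp only [A]; omega
  · have : A = Finset.univ := Finset.eq_univ_of_forall fun o =>
      Finset.mem_filter.2 ⟨Finset.mem_univ _, fun h => hφ0 o (hz _ (hφD o) h)⟩
    rw [this, Finset.card_univ, Fintype.card_option]

end Plane

end Cfsg.Agent.Classical.OrthRef
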