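import Cfsg.Agent.Lib.Classical.MaxDecomp
import Cfsg.Agent.Lib.Classical.MaxOrthRefBasic

/-!
Overgroups of the stabiliser of an orthogonal decomposition, seen through pairs of reflections.
-/

set_option autoImplicit false
set_option linter.unusedSectionVars false
set_option quotPrecheck false

namespace Cfsg.Agent.Classical.OrthRef

open Matrix Module
open MaxTv (IsProj gl_mulVec_injective inv_mulVec_cancel mulVec_inv_cancel)

variable {F : Type*} [Field F] [Fintype F] {ι : Type} [Fintype ι] [DecidableEq ι] {Q : QuadraticForm F (ι → F)}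

local notation "V" => (ι → F)
local notation "Mn" => Matrix ι ι F
local notation "B" => QuadraticMap.polar ⇑Q

/-- The product of two reflections lies in the group. -/
def PairMem (Q : QuadraticForm F (ι → F)) (M : Subgroup (GL ι F)) (x y : ι → F) : Prop :=
  ∃ h ∈ M, ∀ z, (h : Matrix ι ι F) *ᵥ z = rf Q x (rf Q y z)

/-- An orthogonal decomposition with the elements of its stabiliser used below. -/
structure Ctx (Q : QuadraticForm F (ι → F)) (M : Subgroup (GL ι F)) {t : ℕ} (D : Fin t → Submodule F (ι → F))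
    (p : Fin t → ((ι → F) →ₗ[F] (ι → F))) (k : ℕ) : Prop where
  proj : IsProj D p
  orth : ∀ i j, i ≠ j → ∀ x ∈ D i, ∀ y ∈ D j, QuadraticMap.polar ⇑Q x y = 0
  nd : ∀ i, ∀ w ∈ D i, w ≠ 0 → ∃ z ∈ D i, QuadraticMap.polar ⇑Q w z ≠ 0
  dim : ∀ i, finrank F (D i) = k
  tge : 2 ≤ t
  shape : (k = 2 ∧ 5 ≤ t) ∨ (4 ≤ k ∧ (2 : F) = 0)
  card_three : k = 2 → Fintype.card F ≠ 3
  plus : k = 2 → ∀ i, ∀ z ∈ D i, Q z = 0 → z ≠ 0 → 7 ≤ Fintype.card F
  two : Fintype.card F = 2 → k = 4 → ∀ i, ∀ x ∈ D i, ∀ y ∈ D i, Q x = 0 → Q y = 0 →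
    QuadraticMap.polar ⇑Q x y = 0 → x = 0 ∨ y = 0 ∨ x = y
  iso : ∀ h ∈ M, ∀ z, Q ((h : Matrix ι ι F) *ᵥ z) = Q z
  pairs : ∀ a b, ∀ v ∈ D a, ∀ w ∈ D b, Q v ≠ 0 → Q w = Q v → PairMem Q M v w
  swap : ∀ a b, a ≠ b → ∃ h ∈ M, ∀ i, ∀ z ∈ D i, (h : Matrix ι ι F) *ᵥ z ∈ D (Equiv.swap a b i)
  isom : ∀ a b, ∃ L : (ι → F) →ₗ[F] (ι → F), ∀ z ∈ D a, L z ∈ D b ∧ Q (L z) = Q z

/-- A vector of value one paired with a vector of a summand. -/
def Mem (Q : QuadraticForm F (ι → F)) (M : Subgroup (GL ι F)) {t : ℕ} (D : Fin t → Submodule F (ι → F))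
    (u : ι → F) : Prop :=
  Q u = 1 ∧ ∃ i, ∃ v ∈ D i, Q v = 1 ∧ PairMem Q M u v

section Pair

variable {M : Subgroup (GL ι F)}

theorem PairMem.symm {x y : V} (h : PairMem Q M x y) : PairMem Q M y x := by
  obtain ⟨g, hg, e⟩ := h
  refine ⟨g⁻¹, inv_mem hg, fun z => gl_mulVec_injective g ?_⟩
  show (g : Mn) *ᵥ _ = (g : Mn) *ᵥ _
  rw [mulVec_inv_cancel, e, rf_rf, rf_rf]

theorem PairMem.trans {x y z : V} (h : PairMem Q M x y) (h' : PairMem Q M y z) : PairMem Q M x z := by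
  obtain ⟨g, hg, e⟩ := h
  obtain ⟨g', hg', e'⟩ := h'
  exact ⟨g * g', mul_mem hg hg', fun w => by
    rw [Units.val_mul, ← Matrix.mulVec_mulVec, e', e, rf_rf]⟩

theorem PairMem.refl (x : V) : PairMem Q M x x :=
  ⟨1, one_mem M, fun z => by rw [Units.val_one, Matrix.one_mulVec, rf_rf]⟩

theorem PairMem.smul_left {x y : V} {c : F} (hc : c ≠ 0) : PairMem Q M (c • x) y ↔ PairMem Q M x y := by
  simp only [PairMem, rf_smul hc]

theorem PairMem.scale {x y : V} {c : F} (hc : c ≠ 0) : PairMem (c • Q) M x y ↔ PairMem Q M x y := by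
  simp only [PairMem, rf_scale hc]

end Pair

namespace Ctx

variable {M : Subgroup (GL ι F)} {t k : ℕ} {D : Fin t → Submodule F (ι → F)}
  {p : Fin t → ((ι → F) →ₗ[F] (ι → F))} (hC : Ctx Q M D p k)
include hC

theorem k_two_le : 2 ≤ k := by rcases hC.shape with h | h <;> omega

theorem scale {c : F} (hc : c ≠ 0) : Ctx (c • Q) M D p k where
  proj := hC.proj
  orth i j hij x hx y hy := by
    rw [QuadraticMap.coeFn_smul, QuadraticMap.polar_smul, hC.orth i j hij x hx y hy, smul_zero]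
  nd i w hw hw0 := by
    obtain ⟨z, hz, h⟩ := hC.nd i w hw hw0
    refine ⟨z, hz, ?_⟩
    rw [QuadraticMap.coeFn_smul, QuadraticMap.polar_smul]
    exact mul_ne_zero hc h
  dim := hC.dim
  tge := hC.tge
  shape := hC.shape
  card_three := hC.card_three
  plus hk i z hz h0 := hC.plus hk i z hz ((mul_eq_zero.1 h0).resolve_left hc)
  two hq hk i x hx y hy h1 h2 h3 := hC.two hq hk i x hx y hy ((mul_eq_zero.1 h1).resolve_left hc)
    ((mul_eq_zero.1 h2).resolve_left hc) (by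
      rw [QuadraticMap.coeFn_smul, QuadraticMap.polar_smul] at h3
      exact (mul_eq_zero.1 h3).resolve_left hc)
  iso h hh z := by show c * _ = c * _; rw [hC.iso h hh]
  pairs a b v hv w hw hQ he := (PairMem.scale hc).2
    (hC.pairs a b v hv w hw (right_ne_zero_of_mul hQ) (mul_left_cancel₀ hc he))
  swap := hC.swap
  isom a b := by
    obtain ⟨L, hL⟩ := hC.isom a b
    exact ⟨L, fun z hz => ⟨(hL z hz).1, by show c * _ = c * _; rw [(hL z hz).2]⟩⟩

theorem polar_proj {a : Fin t} {c : V} (hc : c ∈ D a) (x : V) : B c x = B c (p a x) := by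
  conv_lhs => rw [← hC.proj.sum x]
  rw [← QuadraticMap.polarBilin_apply_apply (Q := Q), map_sum, Finset.sum_eq_single a]
  · rfl
  · exact fun j _ hj => hC.orth a j (Ne.symm hj) c hc _ (hC.proj.mem j x)
  · simp

theorem block_inj {z : V} (hz : z ≠ 0) {a b : Fin t} (ha : z ∈ D a) (hb : z ∈ D b) : a = b := by
  by_contra hab
  exact hz (by rw [← hC.proj.self a z ha, hC.proj.other a b hab z hb])

theorem nd_all {x : V} (h : ∀ z, B x z = 0) : x = 0 := by
  refine hC.proj.ext fun i => ?_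
  rw [map_zero]
  by_contra h0
  obtain ⟨z, hz, hn⟩ := hC.nd i _ (hC.proj.mem i x) h0
  exact hn (by rw [QuadraticMap.polar_comm, ← hC.polar_proj hz, QuadraticMap.polar_comm, h])

/-- A vector without components outside a pair of summands. -/
theorem eq_add_of_supp {a b : Fin t} (hab : a ≠ b) {x : V} (h : ∀ i, i ≠ a → i ≠ b → p i x = 0) :
    x = p a x + p b x := by
  conv_lhs => rw [← hC.proj.sum x]
  rw [← Finset.sum_pair (f := fun i => p i x) hab]
  refine (Finset.sum_subset (Finset.subset_univ _) fun i _ hi => ?_).symm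
  simp only [Finset.mem_insert, Finset.mem_singleton, not_or] at hi
  exact h i hi.1 hi.2

theorem quad_sum (x : V) : Q x = ∑ i, Q (p i x) := by
  classical
  suffices h : ∀ s : Finset (Fin t), Q (∑ i ∈ s, p i x) = ∑ i ∈ s, Q (p i x) by
    conv_lhs => rw [← hC.proj.sum x]
    exact h _
  intro s
  induction s using Finset.induction_on with
  | empty => simp
  | insert a s ha ih =>
    rw [Finset.sum_insert ha, Finset.sum_insert ha, QuadraticMap.map_add (f := Q), ih]
    have : B (p a x) (∑ i ∈ s, p i x) = 0 := by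
      rw [← QuadraticMap.polarBilin_apply_apply (Q := Q), map_sum]
      exact Finset.sum_eq_zero fun j hj => hC.orth a j (fun e => ha (e ▸ hj)) _ (hC.proj.mem a x) _
        (hC.proj.mem j x)
    rw [this, add_zero]

theorem exists_aniso (a : Fin t) : ∃ v ∈ D a, Q v ≠ 0 := by
  obtain ⟨w, hw, hw0⟩ := Submodule.exists_mem_ne_zero_of_ne_bot (p := D a) fun e => by
    have h := hC.dim a
    rw [e, finrank_bot] at h
    have := hC.k_two_le
    omega
  obtain ⟨z, hz, hwz⟩ := hC.nd a w hw hw0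
  by_contra hc
  push Not at hc
  exact hwz (by rw [QuadraticMap.polar, hc _ ((D a).add_mem hw hz), hc _ hw, hc _ hz, sub_zero, sub_zero])

/-- Every vector has a non-zero perpendicular in each summand. -/
theorem exists_perp (a : Fin t) (x : V) : ∃ n ∈ D a, n ≠ 0 ∧ B x n = 0 := by
  obtain ⟨n, hn, hn0⟩ := Submodule.exists_mem_ne_zero_of_ne_bot
    (p := D a ⊓ LinearMap.ker (QuadraticMap.polarBilin Q x)) fun e => by
      let f : D a →ₗ[F] F := (QuadraticMap.polarBilin Q x).comp (D a).subtype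
      have hinj : Function.Injective f := by
        rw [← LinearMap.ker_eq_bot, LinearMap.ker_eq_bot']
        intro z hz
        have : (z : V) ∈ D a ⊓ LinearMap.ker (QuadraticMap.polarBilin Q x) := ⟨z.2, hz⟩
        rw [e, Submodule.mem_bot] at this
        exact Subtype.ext this
      have h := LinearMap.finrank_le_finrank_of_injective hinj
      rw [finrank_self, hC.dim] at h
      have := hC.k_two_le
      omega
  exact ⟨n, hn.1, hn0, hn.2⟩

theorem pair_map {x y : V} (hp : PairMem Q M x y) {h : GL ι F} (hh : h ∈ M) :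
    PairMem Q M ((h : Mn) *ᵥ x) ((h : Mn) *ᵥ y) := by
  obtain ⟨g, hg, e⟩ := hp
  refine ⟨h * g * h⁻¹, mul_mem (mul_mem hh hg) (inv_mem hh), fun z => ?_⟩
  have hq : ∀ w, Q ((Matrix.toLin' (h : Mn)) w) = Q w := fun w => by rw [Matrix.toLin'_apply]; exact hC.iso h hh w
  obtain ⟨z', rfl⟩ : ∃ z', (h : Mn) *ᵥ z' = z := ⟨_, mulVec_inv_cancel h z⟩
  rw [Units.val_mul, Units.val_mul, ← Matrix.mulVec_mulVec, ← Matrix.mulVec_mulVec, inv_mulVec_cancel, e,
    ← Matrix.toLin'_apply (h : Mn), rf_conj hq, rf_conj hq]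
  simp only [Matrix.toLin'_apply]

theorem polar_iso {h : GL ι F} (hh : h ∈ M) (x y : V) : B ((h : Mn) *ᵥ x) ((h : Mn) *ᵥ y) = B x y := by
  simp only [QuadraticMap.polar, ← Matrix.mulVec_add, hC.iso h hh]

/-- Vectors of summands with values in the same square class. -/
theorem pairs_class {a b : Fin t} {v w : V} (hv : v ∈ D a) (hw : w ∈ D b) (hv0 : Q v ≠ 0) (hw0 : Q w ≠ 0)
    (h : IsSquare (Q v * Q w)) : PairMem Q M v w := by
  obtain ⟨r, hr⟩ := h
  have hr0 : r ≠ 0 := fun e => mul_ne_zero hv0 hw0 (by rw [hr, e, mul_zero])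
  have hc : r / Q v ≠ 0 := div_ne_zero hr0 hv0
  refine (PairMem.smul_left hc).1 (hC.pairs a b _ ((D a).smul_mem _ hv) w hw ?_ ?_)
  · rw [QuadraticMap.map_smul, smul_eq_mul]; exact mul_ne_zero (mul_ne_zero hc hc) hv0
  · rw [QuadraticMap.map_smul, smul_eq_mul]; field_simp; linear_combination hr

theorem mem_block {i : Fin t} {v : V} (hv : v ∈ D i) (hQ : Q v = 1) : Mem Q M D v :=
  ⟨hQ, i, v, hv, hQ, PairMem.refl v⟩

theorem pair_block {u : V} (hu : Mem Q M D u) {j : Fin t} {w : V} (hw : w ∈ D j) (hQw : Q w = 1) :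
    PairMem Q M u w := by
  obtain ⟨-, i, v, hv, hQv, h⟩ := hu
  exact h.trans (hC.pairs i j v hv w hw (by rw [hQv]; exact one_ne_zero) (hQw.trans hQv.symm))

theorem pair_of_mem {u u' : V} (hu : Mem Q M D u) (hu' : Mem Q M D u') : PairMem Q M u u' := by
  obtain ⟨-, i, v, hv, hQv, h⟩ := hu'
  exact (hC.pair_block hu hv hQv).trans h.symm

theorem mem_rf {u z : V} (hu : Mem Q M D u) (hz : Mem Q M D z) : Mem Q M D (rf Q u z) := by
  obtain ⟨hQz, i, v, hv, hQv, hzv⟩ := hz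
  refine ⟨(quad_rf u z).trans hQz, i, v, hv, hQv, ?_⟩
  obtain ⟨g, hg, e⟩ := hC.pair_of_mem hu ⟨hQz, i, v, hv, hQv, hzv⟩
  obtain ⟨g', hg', e'⟩ := hC.pair_block hu hv hQv
  refine ⟨g * g', mul_mem hg hg', fun w => ?_⟩
  rw [Units.val_mul, ← Matrix.mulVec_mulVec, e, e', rf_conj (g := rf Q u) (quad_rf u), rf_rf]

/-- A product of two block reflections of one class preserves the set. -/
theorem mem_pairs {z : V} (hz : Mem Q M D z) {a b : Fin t} {v w : V} (hv : v ∈ D a) (hw : w ∈ D b)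
    (hv0 : Q v ≠ 0) (hw0 : Q w ≠ 0) (h : IsSquare (Q v * Q w)) : Mem Q M D (rf Q v (rf Q w z)) := by
  obtain ⟨g, hg, e⟩ := hC.pairs_class hv hw hv0 hw0 h
  obtain ⟨hQz, i, u, hu, hQu, hzu⟩ := hz
  have h' := hC.pair_map hzu hg
  rw [e, e] at h'
  refine ⟨by rw [quad_rf, quad_rf, hQz], i, rf Q v (rf Q w u), ?_, by rw [quad_rf, quad_rf, hQu], h'⟩
  have key : ∀ {c : Fin t} {x y : V}, x ∈ D c → y ∈ D i → rf Q x y ∈ D i := fun {c x y} hx hy => by
    rcases eq_or_ne c i with rfl | hci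
    · rw [rf_apply]; exact (D c).sub_mem hy ((D c).smul_mem _ hx)
    · rwa [rf_perp (hC.orth c i hci x hx y hy)]
  exact key hv (key hw hu)

/-- A block reflection preserves a member having a perpendicular vector of the same class. -/
theorem mem_blk {z : V} (hz : Mem Q M D z) {a : Fin t} {v : V} (hv : v ∈ D a) (hv0 : Q v ≠ 0)
    (h : IsSquare (Q v) ∨ ∃ e, ∃ w ∈ D e, B w z = 0 ∧ Q w ≠ 0 ∧ IsSquare (Q v * Q w)) :
    Mem Q M D (rf Q v z) := by
  rcases h with ⟨s, hs⟩ | ⟨e, w, hw, hwz, hw0, hsq⟩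
  · have hs0 : s ≠ 0 := fun e => hv0 (by rw [hs, e, mul_zero])
    rw [← rf_smul (Q := Q) (inv_ne_zero hs0) v]
    exact hC.mem_rf (hC.mem_block ((D a).smul_mem _ hv) (by
      rw [QuadraticMap.map_smul, smul_eq_mul, hs]; field_simp)) hz
  · have := hC.mem_pairs hz hv hw hv0 hw0 hsq
    rwa [rf_perp hwz] at this

theorem mem_neg {u : V} (hu : Mem Q M D u) : Mem Q M D (-u) := by
  obtain ⟨hQ, i, v, hv, hQv, h⟩ := hu
  refine ⟨by rw [QuadraticMap.map_neg, hQ], i, v, hv, hQv, ?_⟩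
  rw [← neg_one_smul F u]
  exact (PairMem.smul_left (neg_ne_zero.2 one_ne_zero)).2 h

/-- Members with polar value one have a member as difference. -/
theorem mem_sub {u u' : V} (hu : Mem Q M D u) (hu' : Mem Q M D u') (h : B u' u = 1) : Mem Q M D (u - u') := by
  have := hC.mem_rf hu' hu
  rwa [rf_one hu'.1, h, one_smul] at this

theorem mem_of_map {h : GL ι F} (hh : h ∈ M) {σ : Fin t → Fin t} (hσ : ∀ i, ∀ z ∈ D i, (h : Mn) *ᵥ z ∈ D (σ i))
    {u : V} (hu : Mem Q M D u) : Mem Q M D ((h : Mn) *ᵥ u) := by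
  obtain ⟨hQ, i, v, hv, hQv, huv⟩ := hu
  exact ⟨by rw [hC.iso h hh, hQ], σ i, _, hσ i v hv, by rw [hC.iso h hh, hQv], hC.pair_map huv hh⟩

theorem perp_aniso (h2 : (2 : F) ≠ 0) {a : Fin t} {e : V} (he : e ∈ D a) (hQe : Q e ≠ 0) :
    ∃ f ∈ D a, B e f = 0 ∧ Q f ≠ 0 := by
  by_contra hc
  push Not at hc
  obtain ⟨n, hn, hn0, hen⟩ := hC.exists_perp a e
  obtain ⟨z, hz, hnz⟩ := hC.nd a n hn hn0
  obtain ⟨z', hz'def⟩ : ∃ z', z' = z - (B e z / (2 * Q e)) • e := ⟨_, rfl⟩
  have hz' : z' ∈ D a := hz'def ▸ (D a).sub_mem hz ((D a).smul_mem _ he)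
  have hez : B e z' = 0 := by
    rw [hz'def, QuadraticMap.polar_sub_right, QuadraticMap.polar_smul_right, polar_diag, smul_eq_mul,
      div_mul_cancel₀ _ (mul_ne_zero h2 hQe), sub_self]
  refine hnz ?_
  have e1 : B n z' = 0 := by
    rw [QuadraticMap.polar, hc _ ((D a).add_mem hn hz') (by rw [QuadraticMap.polar_add_right, hen, hez, add_zero]),
      hc _ hn hen, hc _ hz' hez, sub_zero, sub_zero]
  rw [hz'def, QuadraticMap.polar_sub_right, QuadraticMap.polar_smul_right, QuadraticMap.polar_comm _ n e, hen,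
    smul_zero, sub_zero] at e1
  exact e1

/-- A value in a summand. -/
theorem repr_val (a : Fin t) (c : F) : ∃ v ∈ D a, Q v = c := by
  obtain ⟨e, he, hQe⟩ := hC.exists_aniso a
  by_cases h2 : (2 : F) = 0
  · haveI := CharTwo.of_one_ne_zero_of_two_eq_zero one_ne_zero h2
    obtain ⟨r, hr⟩ := FiniteField.isSquare_of_char_two (ringChar.eq F 2) (c * (Q e)⁻¹)
    exact ⟨r • e, (D a).smul_mem _ he, by
      rw [QuadraticMap.map_smul, smul_eq_mul, ← hr, inv_mul_cancel_right₀ hQe]⟩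
  obtain ⟨f, hf, hef, hQf⟩ := hC.perp_aniso h2 he hQe
  have hodd : Fintype.card F % 2 = 1 := FiniteField.odd_card_of_char_ne_two fun h => h2 (by
    haveI := ringChar.of_eq h
    exact CharTwo.two_eq_zero)
  obtain ⟨x, y, hxy⟩ := FiniteField.exists_root_sum_quadratic (f := Polynomial.C (Q e) * Polynomial.X ^ 2)
    (g := Polynomial.C (Q f) * Polynomial.X ^ 2 - Polynomial.C c) (Polynomial.degree_C_mul_X_pow 2 hQe)
    (by rw [Polynomial.degree_sub_C] <;> rw [Polynomial.degree_C_mul_X_pow 2 hQf] <;> norm_num) hodd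
  simp only [Polynomial.eval_mul, Polynomial.eval_C, Polynomial.eval_pow, Polynomial.eval_X,
    Polynomial.eval_sub] at hxy
  refine ⟨x • e + y • f, (D a).add_mem ((D a).smul_mem _ he) ((D a).smul_mem _ hf), ?_⟩
  rw [quad_add_smul', QuadraticMap.map_smul, QuadraticMap.polar_smul_left, hef, smul_eq_mul, smul_eq_mul]
  linear_combination hxy

end Ctx

end Cfsg.Agent.Classical.OrthRef
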