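import Cfsg.Agent.Lib.Classical.MaxOrthSubMain
import Cfsg.Agent.Lib.Classical.AschOrthPlane
import Cfsg.Agent.Lib.Classical.OrthSpinor

/-!
Overgroups of the stabiliser of an orthogonal decomposition into isometric spaces of dimension at least three,
odd characteristic: the Siegel elements at a vector spread over several summands.
-/

set_option autoImplicit false
set_option linter.unusedSectionVars false
set_option quotPrecheck false

namespace Cfsg.Agent.Classical.MaxTv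

open Matrix Module OrthAut

variable {F : Type*} [Field F] [Fintype F] {ι : Type} [Fintype ι] [DecidableEq ι] {Q : QuadraticForm F (ι → F)}

local notation "V" => (ι → F)
local notation "Mn" => Matrix ι ι F
local notation "B" => QuadraticMap.polar ⇑Q

section Spaces

variable {S : Submodule F (ι → F)}

/-- The orthogonal complement of an anisotropic vector in a non-degenerate space is non-degenerate. -/
theorem NdQ.cut (h : NdQ Q S) (h2 : (2 : F) ≠ 0) {v : V} (hv : v ∈ S) (hQv : Q v ≠ 0) :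
    NdQ Q (S ⊓ LinearMap.ker (QuadraticMap.polarBilin Q v)) := fun w hw hw0 => by
  obtain ⟨z, hz, hwz⟩ := h w hw.1 hw0
  have hwv : B v w = 0 := hw.2
  refine ⟨z - (B v z / (2 * Q v)) • v, ⟨S.sub_mem hz (S.smul_mem _ hv), ?_⟩, ?_⟩
  · show B v (z - (B v z / (2 * Q v)) • v) = 0
    rw [QuadraticMap.polar_sub_right, QuadraticMap.polar_smul_right, polar_self2, smul_eq_mul,
      div_mul_cancel₀ _ (mul_ne_zero h2 hQv), sub_self]
  · rw [QuadraticMap.polar_sub_right, QuadraticMap.polar_smul_right, QuadraticMap.polar_comm _ w v, hwv, smul_zero,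
      sub_zero]
    exact hwz

/-- The orthogonal complement of a hyperbolic pair in a non-degenerate space is non-degenerate. -/
theorem NdQ.cut_pair (h : NdQ Q S) {p p' : V} (hp : p ∈ S) (hp' : p' ∈ S) (hQ : Q p = 0) (hQ' : Q p' = 0)
    (hpp : B p p' = 1) : NdQ Q (S ⊓ LinearMap.ker (QuadraticMap.polarBilin Q p) ⊓
      LinearMap.ker (QuadraticMap.polarBilin Q p')) := fun w hw hw0 => by
  obtain ⟨z, hz, hwz⟩ := h w hw.1.1 hw0
  have hwp : B p w = 0 := hw.1.2
  have hwp' : B p' w = 0 := hw.2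
  refine ⟨z - B p' z • p - B p z • p', ⟨⟨S.sub_mem (S.sub_mem hz (S.smul_mem _ hp)) (S.smul_mem _ hp'), ?_⟩, ?_⟩, ?_⟩
  · show B p (z - B p' z • p - B p z • p') = 0
    simp [QuadraticMap.polar_sub_right, QuadraticMap.polar_smul_right, polar_self2, hQ, hpp]
  · show B p' (z - B p' z • p - B p z • p') = 0
    simp [QuadraticMap.polar_sub_right, QuadraticMap.polar_smul_right, polar_self2, hQ',
      QuadraticMap.polar_comm _ p' p, hpp]
  · simpa [QuadraticMap.polar_sub_right, QuadraticMap.polar_smul_right, QuadraticMap.polar_comm _ w p, hwp,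
      QuadraticMap.polar_comm _ w p', hwp'] using hwz

/-- A non-zero non-degenerate space has an anisotropic vector. -/
theorem NdQ.exists_aniso (h : NdQ Q S) (hS : S ≠ ⊥) : ∃ c ∈ S, Q c ≠ 0 := by
  obtain ⟨w, hw, hw0⟩ := Submodule.exists_mem_ne_zero_of_ne_bot hS
  obtain ⟨z, hz, hwz⟩ := h w hw hw0
  by_contra hc
  push Not at hc
  exact hwz (by rw [QuadraticMap.polar, hc _ (S.add_mem hw hz), hc _ hw, hc _ hz, sub_zero, sub_zero])

/-- A singular vector lies in a hyperbolic pair. -/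
theorem NdQ.exists_partner (h : NdQ Q S) {p : V} (hp : p ∈ S) (hp0 : p ≠ 0) (hQ : Q p = 0) :
    ∃ p' ∈ S, Q p' = 0 ∧ B p p' = 1 := by
  obtain ⟨z, hz, hpz⟩ := h p hp hp0
  refine ⟨(B p z)⁻¹ • z - ((B p z)⁻¹ * (B p z)⁻¹ * Q z) • p, S.sub_mem (S.smul_mem _ hz) (S.smul_mem _ hp), ?_, ?_⟩
  · rw [sub_eq_add_neg, ← neg_smul, quad_lin, hQ, QuadraticMap.polar_comm _ z p]
    field_simp
    ring
  · rw [QuadraticMap.polar_sub_right, QuadraticMap.polar_smul_right, QuadraticMap.polar_smul_right, polar_self2, hQ]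
    simp [hpz]

/-- Vectors of the space perpendicular to the kernel of a functional. -/
theorem NdQ.mem_span_of_perp (h : NdQ Q S) {v v₀ : V} (hv : v ∈ S) (hv₀ : v₀ ∈ S)
    (hk : ∀ c ∈ S, B c v₀ = 0 → B c v = 0) : v ∈ Submodule.span F {v₀} := by
  rcases eq_or_ne v₀ 0 with rfl | h0
  · by_contra hne
    obtain ⟨z, hz, hvz⟩ := h v hv fun e => hne (by rw [e]; exact zero_mem _)
    exact hvz (by rw [QuadraticMap.polar_comm]; exact hk z hz (by simp))
  obtain ⟨z, hz, hzv⟩ := h v₀ hv₀ h0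
  rw [QuadraticMap.polar_comm] at hzv
  refine Submodule.mem_span_singleton.2 ⟨B z v / B z v₀, ?_⟩
  by_contra hne
  obtain ⟨u, hu, hu'⟩ := h (v - (B z v / B z v₀) • v₀) (S.sub_mem hv (S.smul_mem _ hv₀))
    (sub_ne_zero.2 (Ne.symm hne))
  refine hu' ?_
  have h1 := hk (u - (B u v₀ / B z v₀) • z) (S.sub_mem hu (S.smul_mem _ hz)) (by
    rw [QuadraticMap.polar_sub_left, QuadraticMap.polar_smul_left, smul_eq_mul, div_mul_cancel₀ _ hzv, sub_self])
  rw [QuadraticMap.polar_sub_left, QuadraticMap.polar_smul_left, smul_eq_mul] at h1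
  rw [QuadraticMap.polar_sub_left, QuadraticMap.polar_smul_left, QuadraticMap.polar_comm _ v u,
    QuadraticMap.polar_comm _ v₀ u, smul_eq_mul]
  field_simp at h1 ⊢
  linear_combination h1

/-- A hyperbolic pair and an anisotropic vector perpendicular to it. -/
theorem NdQ.exists_frame (h : NdQ Q S) (hd : 3 ≤ finrank F S) {p : V} (hp : p ∈ S) (hp0 : p ≠ 0) (hQ : Q p = 0) :
    ∃ p' ∈ S, Q p' = 0 ∧ B p p' = 1 ∧ ∃ c ∈ S, Q c ≠ 0 ∧ B p c = 0 ∧ B p' c = 0 := by
  obtain ⟨p', hp', hQ', hpp⟩ := h.exists_partner hp hp0 hQ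
  have h1 := finrank_le_inf_ker_add_one S (QuadraticMap.polarBilin Q p)
  have h1' := finrank_le_inf_ker_add_one (S ⊓ LinearMap.ker (QuadraticMap.polarBilin Q p))
    (QuadraticMap.polarBilin Q p')
  obtain ⟨c, hc, hc0⟩ := (h.cut_pair hp hp' hQ hQ' hpp).exists_aniso fun e => by
    rw [e, finrank_bot] at h1'; omega
  exact ⟨p', hp', hQ', hpp, c, hc.1.1, hc0, hc.1.2, hc.2⟩

/-- Singular vectors of a space of dimension three or more pair with every non-zero vector. -/
theorem NdQ.exists_sing_pair (h : NdQ Q S) (hd : 3 ≤ finrank F S) {e : V} (he : e ∈ S) (he0 : e ≠ 0) :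
    ∃ p ∈ S, Q p = 0 ∧ B p e ≠ 0 := by
  by_contra hcon
  push Not at hcon
  obtain ⟨p, hp, hp0, hQ⟩ := exists_singular_in (Q := Q) (W := S)
    (fun w hw hw0 => h w hw hw0) hd
  obtain ⟨p', hp', hQ', hpp, -⟩ := h.exists_frame hd hp hp0 hQ
  set W₀ := S ⊓ LinearMap.ker (QuadraticMap.polarBilin Q p) ⊓ LinearMap.ker (QuadraticMap.polarBilin Q p')
  have key : ∀ w ∈ W₀, B w e = 0 := fun w hw => by
    have hs := hcon (p' + w - Q w • p) (S.sub_mem (S.add_mem hp' hw.1.1) (S.smul_mem _ hp)) (by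
      rw [sub_eq_add_neg, ← neg_smul, quad_add_smul Q, quad_add, hQ, hQ',
        QuadraticMap.polar_add_left, QuadraticMap.polar_comm _ p' p, hpp, QuadraticMap.polar_comm _ w p,
        show B p w = 0 from hw.1.2, show B p' w = 0 from hw.2]
      simp)
    rw [QuadraticMap.polar_sub_left, QuadraticMap.polar_add_left, QuadraticMap.polar_smul_left, hcon p hp hQ,
      hcon p' hp' hQ', smul_zero, sub_zero, zero_add] at hs
    exact hs
  have hpe : B p e = 0 := hcon p hp hQ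
  have hp'e : B p' e = 0 := hcon p' hp' hQ'
  obtain ⟨z, hz, hez⟩ := h e he he0
  have h1 := key (z - B p' z • p - B p z • p') ⟨⟨S.sub_mem (S.sub_mem hz (S.smul_mem _ hp)) (S.smul_mem _ hp'), by
    show B p (z - B p' z • p - B p z • p') = 0
    simp [QuadraticMap.polar_sub_right, QuadraticMap.polar_smul_right, polar_self2, hQ, hpp]⟩, by
    show B p' (z - B p' z • p - B p z • p') = 0
    simp [QuadraticMap.polar_sub_right, QuadraticMap.polar_smul_right, polar_self2, hQ',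
      QuadraticMap.polar_comm _ p' p, hpp]⟩
  rw [QuadraticMap.polar_sub_left, QuadraticMap.polar_sub_left, QuadraticMap.polar_smul_left,
    QuadraticMap.polar_smul_left, hpe, hp'e, smul_zero, smul_zero, sub_zero, sub_zero,
    QuadraticMap.polar_comm] at h1
  exact hez h1

end Spaces

/-- An overgroup of the stabiliser of the decomposition. -/
structure OWr (Q : QuadraticForm F (ι → F)) (M : Subgroup (GL ι F)) {t : ℕ} (D : Fin t → Submodule F (ι → F))
    (p : Fin t → ((ι → F) →ₗ[F] (ι → F))) (k : ℕ) : Prop where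
  two : (2 : F) ≠ 0
  proj : IsProj D p
  orth : ∀ i j, i ≠ j → ∀ x ∈ D i, ∀ y ∈ D j, QuadraticMap.polar ⇑Q x y = 0
  ndD : ∀ i, NdQ Q (D i)
  dim : ∀ i, finrank F (D i) = k
  three : 3 ≤ k
  five : k = 3 → 5 ≤ Fintype.card F
  roots : ∀ i, ∀ a ∈ D i, ∀ b ∈ D i, Q a = 0 → QuadraticMap.polar ⇑Q a b = 0 →
    ∃ t ∈ M, (t : Matrix ι ι F) = eMat Q a b
  pairs : ∀ i, ∀ v ∈ D i, ∀ w ∈ D i, ∀ (hv : Q v ≠ 0) (hw : Q w ≠ 0), Q w = Q v →
    ((refl hv * refl hw : isometryGroup F ⇑Q) : GL ι F) ∈ M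
  iso : ∀ k ∈ M, ∀ x, Q ((k : Matrix ι ι F) *ᵥ x) = Q x

/-- Every Siegel element of `M` at a singular vector of a summand stays in the summand. -/
def Tight (Q : QuadraticForm F (ι → F)) (M : Subgroup (GL ι F)) {t : ℕ} (D : Fin t → Submodule F (ι → F)) : Prop :=
  ∀ i, ∀ a ∈ D i, a ≠ 0 → ∀ (h : Q a = 0), ∀ b ∈ CR (M := M) h, b ∈ D i

namespace OWr

variable {M : Subgroup (GL ι F)} {t k : ℕ} {D : Fin t → Submodule F (ι → F)}
  {p : Fin t → ((ι → F) →ₗ[F] (ι → F))} (hW : OWr Q M D p k)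
include hW

theorem polar_proj {a : Fin t} {c : V} (hc : c ∈ D a) (x : V) : B c x = B c (p a x) := by
  conv_lhs => rw [← hW.proj.sum x]
  rw [← QuadraticMap.polarBilin_apply_apply, map_sum]
  exact Finset.sum_eq_single a (fun j _ hj => hW.orth a j (Ne.symm hj) c hc _ (hW.proj.mem j x)) (by simp)

/-- `M` permutes the spaces of parameters. -/
theorem cr_map {h : GL ι F} (hh : h ∈ M) {a : V} (ha : Q a = 0) (ha' : Q ((h : Mn) *ᵥ a) = 0) {b : V}
    (hb : b ∈ CR (M := M) ha) : (h : Mn) *ᵥ b ∈ CR (M := M) ha' := by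
  refine ⟨by rw [isometry_polar (hW.iso h hh)]; exact hb.1, fun r => ?_⟩
  obtain ⟨s, hs, hsx⟩ := hb.2 r
  refine ⟨h * s * h⁻¹, mul_mem (mul_mem hh hs) (inv_mem hh), Matrix.ext_iff_mulVec.2 fun z => ?_⟩
  obtain ⟨z', rfl⟩ : ∃ z', (h : Mn) *ᵥ z' = z := ⟨_, mulVec_inv_cancel h z⟩
  rw [Units.val_mul, Units.val_mul, ← Matrix.mulVec_mulVec, ← Matrix.mulVec_mulVec, inv_mulVec_cancel, hsx,
    Matrix.mulVec_mulVec, isometry_eMat (hW.iso h hh), ← Matrix.mulVec_mulVec, Matrix.mulVec_smul]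

theorem cr_block {a : Fin t} {q c : V} (hq : q ∈ D a) (hQ : Q q = 0) (hc : c ∈ D a) (hqc : B q c = 0) :
    c ∈ CR (M := M) hQ :=
  ⟨hqc, fun r => hW.roots a q hq (r • c) ((D a).smul_mem r hc) hQ
    (by rw [QuadraticMap.polar_smul_right, hqc, smul_zero])⟩

/-- Conjugation by the root elements of a summand fixing `x`. -/
theorem move {x : V} (hx : Q x = 0) {y : V} (hy : y ∈ CR (M := M) hx) {a : Fin t} {q c : V} (hq : q ∈ D a)
    (hc : c ∈ D a) (hQ : Q q = 0) (hqc : B q c = 0) (hqx : B q x = 0) (hcx : B c x = 0) :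
    B q y • c - B c y • q - (Q c * B q y) • q ∈ CR (M := M) hx := by
  obtain ⟨h, hh, hhx⟩ := hW.roots a q hq c hc hQ hqc
  have kx : ∀ z, (h : Mn) *ᵥ z = z + B q z • c - B c z • q - (Q c * B q z) • q := fun z => by
    rw [hhx, eMat_mulVec]
  have hfix : (h : Mn) *ᵥ x = x := by rw [kx, hqx, hcx]; module
  have h4 := hW.cr_map hh hx (by rw [hfix]; exact hx) hy
  simp only [hfix] at h4
  have h5 := (CR (M := M) hx).sub_mem h4 hy
  rwa [kx, show y + B q y • c - B c y • q - (Q c * B q y) • q - y =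
    B q y • c - B c y • q - (Q c * B q y) • q by abel] at h5

/-- An anisotropic parameter pairs moves into a singular one. -/
theorem sing_of_move {x : V} (hx : Q x = 0) {y : V} (hy : y ∈ CR (M := M) hx) {a : Fin t} {q c : V} (hq : q ∈ D a)
    (hc : c ∈ D a) (hQ : Q q = 0) (hqc : B q c = 0) (hqx : B q x = 0) (hcx : B c x = 0)
    (hne : Q c ≠ 0 ∧ B q y ≠ 0 ∨ B q y = 0 ∧ B c y ≠ 0) : q ∈ CR (M := M) hx := by
  set R := CR (M := M) hx
  have h1 := hW.move hx hy hq hc hQ hqc hqx hcx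
  rcases hne with ⟨hQc, hqy⟩ | ⟨hqy, hcy⟩
  · have h2 := hW.move hx h1 hq hc hQ hqc hqx hcx
    rw [show B q (B q y • c - B c y • q - (Q c * B q y) • q) = 0 by
        simp [QuadraticMap.polar_sub_right, QuadraticMap.polar_smul_right, polar_self2, hQ, hqc],
      show B c (B q y • c - B c y • q - (Q c * B q y) • q) = 2 * Q c * B q y by
        simp [QuadraticMap.polar_sub_right, QuadraticMap.polar_smul_right, polar_self2,
          QuadraticMap.polar_comm _ c q, hqc]; ring,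
      show (0 : F) • c - (2 * Q c * B q y) • q - (Q c * 0) • q = -(2 * Q c * B q y) • q by module] at h2
    exact (R.smul_mem_iff (neg_ne_zero.2 (mul_ne_zero (mul_ne_zero hW.two hQc) hqy))).1 h2
  · rw [hqy, show (0 : F) • c - B c y • q - (Q c * 0) • q = -(B c y) • q by module] at h1
    exact (R.smul_mem_iff (neg_ne_zero.2 hcy)).1 h1

variable (hT : Tight Q M D)
include hT

theorem no_sing {x : V} (hx : Q x = 0) (hxD : ∀ j, x ∉ D j) {y : V} (hy : y ∈ CR (M := M) hx) {a : Fin t}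
    {q c : V} (hq : q ∈ D a) (hq0 : q ≠ 0) (hc : c ∈ D a) (hQ : Q q = 0) (hqc : B q c = 0) (hqx : B q x = 0)
    (hcx : B c x = 0) : (Q c ≠ 0 → B q y = 0) ∧ (B q y = 0 → B c y = 0) := by
  have key : q ∉ CR (M := M) hx := fun h =>
    hxD a (hT a q hq hq0 hQ x (OSub.mem_CR_swap hQ hx h))
  exact ⟨fun hQc => by_contra fun h => key (hW.sing_of_move hx hy hq hc hQ hqc hqx hcx (Or.inl ⟨hQc, h⟩)),
    fun h1 => by_contra fun h => key (hW.sing_of_move hx hy hq hc hQ hqc hqx hcx (Or.inr ⟨h1, h⟩))⟩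

/-- A perpendicular singular vector of a summand where `x` is anisotropic. -/
theorem diag (h5 : 5 ≤ Fintype.card F) {x : V} (hx : Q x = 0) {y : V} (hy : y ∈ CR (M := M) hx) {a : Fin t} {q : V}
    (hq : q ∈ D a) (hQ : Q q = 0) (hqx : B q x = 0) (hQx : Q (p a x) ≠ 0) : B q y = 0 := by
  by_contra hqy
  have h2 := hW.two
  set xa := p a x with hxa
  have hxaD : xa ∈ D a := hW.proj.mem a x
  have hqxa : B q xa = 0 := by rw [hxa, ← hW.polar_proj hq]; exact hqx
  have hxax : B xa x = 2 * Q xa := by rw [hW.polar_proj hxaD x, ← hxa, polar_self2]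
  have hxq : B x q = 0 := by rw [QuadraticMap.polar_comm]; exact hqx
  have hyx : B y x = 0 := by rw [QuadraticMap.polar_comm]; exact hy.1
  obtain ⟨lam, hl0, hl⟩ := exists_sq_ne_one_field (F := F) (by omega)
  have hU : ∀ r : F, ∃ e ∈ M, (e : Mn) *ᵥ q = q + r • x ∧ (e : Mn) *ᵥ x = x := fun r => by
    obtain ⟨e, he, hex⟩ := hy.2 (-r / B q y)
    refine ⟨e, he, ?_, ?_⟩
    · rw [hex, eMat_mulVec, hxq, QuadraticMap.polar_smul_left, QuadraticMap.polar_comm _ y q, smul_eq_mul,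
        div_mul_cancel₀ _ hqy]
      module
    · rw [hex, eMat_mulVec, polar_self2 x, hx, QuadraticMap.polar_smul_left, hyx]
      simp
  have hL : ∀ s : F, ∃ e ∈ M, (e : Mn) *ᵥ q = q ∧ (e : Mn) *ᵥ x = x + s • q := fun s => by
    have hm : ((-s / (2 * Q xa)) • xa) ∈ D a := (D a).smul_mem _ hxaD
    obtain ⟨e, he, hex⟩ := hW.roots a q hq _ hm hQ (by rw [QuadraticMap.polar_smul_right, hqxa, smul_zero])
    refine ⟨e, he, ?_, ?_⟩
    · rw [hex, eMat_mulVec, polar_self2 q, hQ, QuadraticMap.polar_smul_left, QuadraticMap.polar_comm _ xa q, hqxa]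
      simp
    · rw [hex, eMat_mulVec, hqx, QuadraticMap.polar_smul_left, hxax, smul_eq_mul,
        div_mul_cancel₀ _ (mul_ne_zero h2 hQx)]
      module
  obtain ⟨e₁, m₁, e₁q, e₁x⟩ := hU 1
  obtain ⟨e₂, m₂, e₂q, e₂x⟩ := hL (lam - 1)
  obtain ⟨e₃, m₃, e₃q, e₃x⟩ := hU (-lam⁻¹)
  obtain ⟨e₄, m₄, e₄q, e₄x⟩ := hL (-(lam * (lam - 1)))
  set d := e₄ * e₃ * e₂ * e₁
  have hd : d ∈ M := mul_mem (mul_mem (mul_mem m₄ m₃) m₂) m₁
  have hda : ∀ z, (d : Mn) *ᵥ z = (e₄ : Mn) *ᵥ ((e₃ : Mn) *ᵥ ((e₂ : Mn) *ᵥ ((e₁ : Mn) *ᵥ z))) := fun z => by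
    simp only [d, Units.val_mul, Matrix.mulVec_mulVec, Matrix.mul_assoc]
  have hdq : (d : Mn) *ᵥ q = lam • q := by
    rw [hda, e₁q]
    simp only [Matrix.mulVec_add, Matrix.mulVec_smul, e₂q, e₂x, e₃q, e₃x, e₄q, e₄x]
    match_scalars <;> field_simp <;> ring
  have hdx : (d : Mn) *ᵥ x = lam⁻¹ • x := by
    rw [hda, e₁x]
    simp only [Matrix.mulVec_add, Matrix.mulVec_smul, e₂q, e₂x, e₃q, e₃x, e₄q, e₄x]
    match_scalars <;> field_simp <;> ring
  have hq0 : q ≠ 0 := fun h => hqy (by rw [h, QuadraticMap.polar_zero_left])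
  set P := D a ⊓ LinearMap.ker (QuadraticMap.polarBilin Q q) with hP
  have hdP : ∀ c ∈ P, (d : Mn) *ᵥ c ∈ P := fun c hc => by
    have hQd : Q ((d : Mn) *ᵥ q) = 0 := by rw [hW.iso d hd, hQ]
    have h := hW.cr_map hd hQ hQd (hW.cr_block hq hQ hc.1 hc.2)
    refine ⟨hT a _ (by rw [hdq]; exact (D a).smul_mem _ hq) (by rw [hdq]; exact smul_ne_zero hl0 hq0) hQd _ h, ?_⟩
    have h' := h.1
    simp only [hdq, QuadraticMap.polar_smul_left, smul_eq_mul] at h'
    exact (mul_eq_zero.1 h').resolve_left hl0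
  have hxaP : xa ∈ P := ⟨hxaD, hqxa⟩
  obtain ⟨w, hw⟩ : ∃ w, w = lam • ((d : Mn) *ᵥ xa) - xa := ⟨_, rfl⟩
  have hwP : w ∈ P := hw ▸ P.sub_mem (P.smul_mem _ (hdP _ hxaP)) hxaP
  let L : P →ₗ[F] P := ((Matrix.toLin' (d : Mn)).comp P.subtype).codRestrict P fun z => by simpa using hdP z z.2
  have hLi : Function.Injective L := fun u v huv => Subtype.ext (gl_mulVec_injective d (by
    simpa [L] using congrArg Subtype.val huv))
  have hperp : ∀ c ∈ P, B c w = 0 := fun c hc => by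
    obtain ⟨c', hc'⟩ := (LinearMap.injective_iff_surjective.1 hLi) ⟨c, hc⟩
    have hc'' : (d : Mn) *ᵥ (c' : V) = c := by simpa [L] using congrArg Subtype.val hc'
    have h1 : B c x = lam * B (c' : V) x := by
      have e : x = (d : Mn) *ᵥ (lam • x) := by rw [Matrix.mulVec_smul, hdx, smul_inv_smul₀ hl0]
      conv_lhs => rw [← hc'', e]
      rw [isometry_polar (hW.iso d hd), QuadraticMap.polar_smul_right, smul_eq_mul]
    rw [hw, QuadraticMap.polar_sub_right, QuadraticMap.polar_smul_right, ← hW.polar_proj hc.1 x, h1,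
      smul_eq_mul, ← hc'', isometry_polar (hW.iso d hd), ← hW.polar_proj c'.2.1 x, sub_self]
  obtain ⟨μ, hμ⟩ := Submodule.mem_span_singleton.1 ((hW.ndD a).mem_span_of_perp hwP.1 hq
    fun c hc h => hperp c ⟨hc, by show B q c = 0; rw [QuadraticMap.polar_comm]; exact h⟩)
  refine hl ?_
  have h3 : lam • ((d : Mn) *ᵥ xa) = xa + μ • q := by rw [hμ, hw]; abel
  have h4 := congrArg (⇑Q) h3
  rw [QuadraticMap.map_smul, hW.iso d hd, quad_add, QuadraticMap.map_smul, hQ, QuadraticMap.polar_smul_right,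
    QuadraticMap.polar_comm _ xa q, hqxa, smul_eq_mul] at h4
  simp only [smul_zero, add_zero] at h4
  exact mul_right_cancel₀ hQx (by rw [pow_two, one_mul]; exact h4)

/-- The torus of an anisotropic plane. -/
theorem plane {x : V} (hx : Q x = 0) (hxD : ∀ j, x ∉ D j) {y₀ : V} (hy₀ : y₀ ∈ CR (M := M) hx) (hQy : Q y₀ ≠ 0)
    (hspan : ∀ y ∈ CR (M := M) hx, ∃ r s : F, y = r • x + s • y₀) {a : Fin t} (h3 : k = 3) (hQx : Q (p a x) ≠ 0)
    (hans : ∀ c ∈ D a, B c x = 0 → Q c = 0 → c = 0) :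
    ∀ c ∈ D a, B c x = 0 → B c y₀ = 0 := by
  have h2 := hW.two
  have h5 := hW.five h3
  obtain ⟨T, hTdef⟩ : ∃ T, T = D a ⊓ LinearMap.ker (QuadraticMap.polarBilin Q x) := ⟨_, rfl⟩
  have hmem : ∀ c, c ∈ T ↔ c ∈ D a ∧ B c x = 0 := fun c => by
    rw [hTdef, Submodule.mem_inf, LinearMap.mem_ker, QuadraticMap.polarBilin_apply_apply, QuadraticMap.polar_comm]
  have hT2 : 2 ≤ finrank F T := by
    have := finrank_le_inf_ker_add_one (D a) (QuadraticMap.polarBilin Q x)
    rw [hW.dim a, ← hTdef] at this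
    omega
  obtain ⟨v, hv, hv0⟩ := Submodule.exists_mem_ne_zero_of_ne_bot (p := T) fun h => by
    rw [h, finrank_bot] at hT2; omega
  obtain ⟨e, he, he0⟩ := Submodule.exists_mem_ne_zero_of_ne_bot
    (p := T ⊓ LinearMap.ker (QuadraticMap.polarBilin Q v)) fun h => by
      have := finrank_le_inf_ker_add_one T (QuadraticMap.polarBilin Q v)
      rw [h, finrank_bot] at this; omega
  have hve : B v e = 0 := he.2
  have hQv : Q v ≠ 0 := fun h => hv0 (hans v ((hmem v).1 hv).1 ((hmem v).1 hv).2 h)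
  have hQe : Q e ≠ 0 := fun h => he0 (hans e ((hmem e).1 he.1).1 ((hmem e).1 he.1).2 h)
  obtain ⟨s, hs0, hs⟩ : ∃ s : F, s ≠ 0 ∧ s * s * Q e ≠ Q v := by
    by_cases h : Q e = Q v
    · obtain ⟨s, hs0, hs1⟩ := exists_sq_ne_one_field (F := F) (by omega)
      refine ⟨s, hs0, fun e' => hs1 ?_⟩
      rw [h] at e'
      exact mul_right_cancel₀ hQv (by rw [pow_two, one_mul]; exact e')
    · exact ⟨1, one_ne_zero, by simpa using h⟩
  have hu : v + s • e ∈ T := T.add_mem hv (T.smul_mem _ he.1)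
  have hQu : Q v + s * s * Q e ≠ 0 := fun h => by
    have h' : Q (v + s • e) = 0 := by
      rw [quad_add, QuadraticMap.map_smul, QuadraticMap.polar_smul_right, hve, smul_eq_mul, smul_zero, add_zero]
      exact h
    have h'' := congrArg (B v) (hans _ ((hmem _).1 hu).1 ((hmem _).1 hu).2 h')
    rw [QuadraticMap.polar_add_right, QuadraticMap.polar_smul_right, hve, polar_self2, smul_zero, add_zero,
      QuadraticMap.polar_zero_right] at h''
    exact mul_ne_zero h2 hQv h''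
  obtain ⟨d, hd⟩ : ∃ d, d = 2 * Q v / (Q v + s * s * Q e) := ⟨_, rfl⟩
  have hdeq : d * (Q v + s * s * Q e) = 2 * Q v := by rw [hd, div_mul_cancel₀ _ hQu]
  obtain ⟨w, hw⟩ : ∃ w, w = (1 - d) • v + (-(d * s)) • e := ⟨_, rfl⟩
  have hwT : w ∈ T := hw ▸ T.add_mem (T.smul_mem _ hv) (T.smul_mem _ he.1)
  have hQw : Q w = Q v := by
    rw [hw, quad_lin, hve]
    linear_combination d * hdeq
  have hg : B v w = (1 - d) * (2 * Q v) := by
    rw [hw, polar_lin_right, hve, polar_self2]; ring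
  have hg0 : B v w ≠ 0 := by
    rw [hg]
    refine mul_ne_zero (fun h => hs ?_) (mul_ne_zero h2 hQv)
    have h' : d = 1 := (sub_eq_zero.1 h).symm
    rw [h', one_mul] at hdeq
    linear_combination hdeq
  have hg2 : B v w * B v w - 4 * Q v * Q v ≠ 0 := by
    rw [hg, show (1 - d) * (2 * Q v) * ((1 - d) * (2 * Q v)) - 4 * Q v * Q v = 2 * 2 * Q v * Q v * (d * (d - 2)) by ring]
    refine mul_ne_zero (mul_ne_zero (mul_ne_zero (mul_ne_zero h2 h2) hQv) hQv) (mul_ne_zero ?_ fun h => hQe ?_)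
    · rw [hd]; exact div_ne_zero (mul_ne_zero h2 hQv) hQu
    · rw [sub_eq_zero.1 h] at hdeq
      have : (2 : F) * (s * s) * Q e = 0 := by linear_combination hdeq
      exact (mul_eq_zero.1 this).resolve_left (mul_ne_zero h2 (mul_ne_zero hs0 hs0))
  have hQw0 : Q w ≠ 0 := hQw ▸ hQv
  obtain ⟨hvD, hvx⟩ := (hmem v).1 hv
  obtain ⟨hwD, hwx⟩ := (hmem w).1 hwT
  have hu' := hW.pairs a v hvD w hwD hQv hQw0 hQw
  set u : GL ι F := ((refl hQv * refl hQw0 : isometryGroup F ⇑Q) : GL ι F)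
  obtain ⟨S, hS⟩ : ∃ S, S = B v y₀ := ⟨_, rfl⟩
  obtain ⟨R, hR⟩ : ∃ R, R = B w y₀ := ⟨_, rfl⟩
  obtain ⟨A, hA⟩ : ∃ A, A = (Q v)⁻¹ * R := ⟨_, rfl⟩
  obtain ⟨C, hC⟩ : ∃ C, C = (Q v)⁻¹ * (S - A * B v w) := ⟨_, rfl⟩
  have hue : ∀ z, (u : Mn) *ᵥ z = ogVal (refl hQv) *ᵥ (ogVal (refl hQw0) *ᵥ z) := fun z => by
    rw [Matrix.mulVec_mulVec, ← ogVal_mul]; rfl
  have hux : (u : Mn) *ᵥ x = x := by
    rw [hue, refl_apply hQw0, hwx, mul_zero, zero_smul, sub_zero, refl_apply hQv, hvx, mul_zero, zero_smul, sub_zero]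
  have huy : (u : Mn) *ᵥ y₀ = y₀ - A • w - C • v := by
    rw [hue, refl_apply hQw0, refl_apply hQv, hQw, QuadraticMap.polar_sub_right, QuadraticMap.polar_smul_right, ← hR, ← hA,
      ← hS, smul_eq_mul, ← hC]
  have hcr := hW.cr_map hu' hx (by rw [hux]; exact hx) hy₀
  simp only [hux] at hcr
  obtain ⟨r, ε, hrε⟩ := hspan _ hcr
  have hxy : B x y₀ = 0 := hy₀.1
  have hε : ε * ε = 1 := by
    have h := congrArg (⇑Q) hrε
    rw [hW.iso u hu', quad_lin, hx, hxy] at h
    exact mul_right_cancel₀ hQy (by linear_combination -h)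
  have eqv := congrArg (B v) hrε
  have eqw := congrArg (B w) hrε
  rw [huy, polar_lin_right, hvx, QuadraticMap.polar_sub_right, QuadraticMap.polar_sub_right,
    QuadraticMap.polar_smul_right, QuadraticMap.polar_smul_right, polar_self2, ← hS, smul_eq_mul,
    smul_eq_mul] at eqv
  rw [huy, polar_lin_right, hwx, QuadraticMap.polar_sub_right, QuadraticMap.polar_sub_right,
    QuadraticMap.polar_smul_right, QuadraticMap.polar_smul_right, polar_self2, hQw, ← hR,
    QuadraticMap.polar_comm _ w v, smul_eq_mul, smul_eq_mul] at eqw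
  have eA : A * Q v = R := by rw [hA, mul_comm, mul_inv_cancel_left₀ hQv]
  have eC : C * Q v = S - A * B v w := by rw [hC, mul_comm, mul_inv_cancel_left₀ hQv]
  have hSR : S = 0 ∧ R = 0 := by
    rcases mul_self_eq_one_iff.1 hε with rfl | rfl
    · have e1 : A * B v w = 2 * S := by linear_combination eqv + 2 * eC
      have e2 : C * B v w = -(2 * R) := by linear_combination -eqw - 2 * eA
      have g1 : B v w * S = 2 * Q v * R := by linear_combination -(Q v) * e2 + B v w * eC - B v w * e1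
      have g2 : B v w * R = 2 * Q v * S := by linear_combination Q v * e1 - B v w * eA
      have e3 : S * (B v w * B v w - 4 * Q v * Q v) = 0 := by linear_combination B v w * g1 + 2 * Q v * g2
      have hS0 := (mul_eq_zero.1 e3).resolve_right hg2
      rw [hS0, mul_zero] at e1
      rw [(mul_eq_zero.1 e1).resolve_right hg0, zero_mul] at eA
      exact ⟨hS0, eA.symm⟩
    · have e1 : A * B v w = 0 := by linear_combination eqv + 2 * eC
      have hA0 := (mul_eq_zero.1 e1).resolve_right hg0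
      have hR0 : R = 0 := by rw [← eA, hA0, zero_mul]
      have e2 : C * B v w = 0 := by linear_combination -eqw - 2 * eA
      rw [(mul_eq_zero.1 e2).resolve_right hg0, zero_mul, hA0, zero_mul, sub_zero] at eC
      exact ⟨eC.symm, hR0⟩
  -- `v` and `w` span
  intro c hc hcx
  have hcT : c ∈ T := (hmem c).2 ⟨hc, hcx⟩
  have hve' : Submodule.span F {v, e} = T := by
    refine Submodule.eq_of_le_of_finrank_le (Submodule.span_le.2 ?_) ?_
    · rintro z (rfl | rfl)
      exacts [hv, he.1]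
    · have hli : LinearIndependent F ![v, e] := li2 fun c₁ c₂ h => by
        have h1 := congrArg (B v) h
        have h2' := congrArg (B e) h
        rw [polar_lin_right, hve, polar_self2, QuadraticMap.polar_zero_right] at h1
        rw [polar_lin_right, QuadraticMap.polar_comm _ e v, hve, polar_self2, QuadraticMap.polar_zero_right] at h2'
        simp only [mul_zero, add_zero, zero_add] at h1 h2'
        exact ⟨(mul_eq_zero.1 h1).resolve_right (mul_ne_zero h2 hQv),
          (mul_eq_zero.1 h2').resolve_right (mul_ne_zero h2 hQe)⟩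
      have hd2 := finrank_span_eq_card hli
      rw [Matrix.range_cons_cons_empty, Fintype.card_fin] at hd2
      rw [hd2]
      have hle : finrank F T + 1 ≤ 3 := by
        have hlt : T < D a := lt_of_le_of_ne (fun z hz => ((hmem z).1 hz).1) fun e' => by
          have := ((hmem (p a x)).1 (e' ▸ hW.proj.mem a x)).2
          rw [hW.polar_proj (hW.proj.mem a x) x, polar_self2] at this
          exact mul_ne_zero h2 hQx this
        have := Submodule.finrank_lt_finrank_of_lt hlt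
        rw [hW.dim a] at this
        omega
      omega
  rw [← hve'] at hcT
  obtain ⟨c₁, c₂, rfl⟩ := Submodule.mem_span_pair.1 hcT
  have hvy : B v y₀ = 0 := hS.symm.trans hSR.1
  have hey : B e y₀ = 0 := by
    have h := hR.symm.trans hSR.2
    rw [hw, polar_lin_left, hvy, mul_zero, zero_add] at h
    refine (mul_eq_zero.1 h).resolve_left (neg_ne_zero.2 (mul_ne_zero ?_ hs0))
    rw [hd]; exact div_ne_zero (mul_ne_zero h2 hQv) hQu
  rw [polar_lin_left, hvy, hey, mul_zero, mul_zero, add_zero]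

/-- The parameters at a spread vector are proportional to it in every summand. -/
theorem line {x : V} (hx : Q x = 0) (hxD : ∀ j, x ∉ D j)
    (hbase : k = 3 → ∃ y₀ ∈ CR (M := M) hx, Q y₀ ≠ 0 ∧ ∀ y ∈ CR (M := M) hx, ∃ r s : F, y = r • x + s • y₀)
    {y : V} (hy : y ∈ CR (M := M) hx) (a : Fin t) : p a y ∈ Submodule.span F {p a x} := by
  have h2 := hW.two
  refine (hW.ndD a).mem_span_of_perp (hW.proj.mem a y) (hW.proj.mem a x) fun c hc hcx => ?_
  rw [← hW.polar_proj hc] at hcx ⊢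
  have hd := hW.three
  by_cases hsing : p a x ≠ 0 ∧ Q (p a x) = 0
  · -- the component is singular
    obtain ⟨hq0, hQ⟩ := hsing
    set q := p a x with hqdef
    have hq : q ∈ D a := hW.proj.mem a x
    have hqx : B q x = 0 := by rw [hW.polar_proj hq x, ← hqdef, polar_self2, hQ, mul_zero]
    obtain ⟨q', hq', -, -, c₀, hc₀, hQc₀, hqc₀, -⟩ := (hW.ndD a).exists_frame (by rw [hW.dim]; exact hd) hq hq0 hQ
    have hc₀x : B c₀ x = 0 := by rw [hW.polar_proj hc₀ x, ← hqdef, QuadraticMap.polar_comm]; exact hqc₀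
    have hqy := (hW.no_sing hT hx hxD hy hq hq0 hc₀ hQ hqc₀ hqx hc₀x).1 hQc₀
    refine (hW.no_sing hT hx hxD hy hq hq0 hc hQ ?_ hqx hcx).2 hqy
    rw [QuadraticMap.polar_comm, hqdef, ← hW.polar_proj hc]
    exact hcx
  have hzero : p a x = 0 ∨ Q (p a x) ≠ 0 := by
    by_cases h : p a x = 0
    exacts [Or.inl h, Or.inr fun h' => hsing ⟨h, h'⟩]
  obtain ⟨T, hTdef⟩ : ∃ T, T = D a ⊓ LinearMap.ker (QuadraticMap.polarBilin Q (p a x)) := ⟨_, rfl⟩
  have hmem : ∀ c, c ∈ T ↔ c ∈ D a ∧ B c x = 0 := fun c => by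
    rw [hTdef, Submodule.mem_inf, LinearMap.mem_ker, QuadraticMap.polarBilin_apply_apply]
    refine and_congr_right fun h => ?_
    rw [hW.polar_proj h x, QuadraticMap.polar_comm]
  have hTnd : NdQ Q T := by
    rcases hzero with h | h
    · rw [hTdef, h, map_zero, LinearMap.ker_zero, inf_top_eq]
      exact hW.ndD a
    · exact hTdef ▸ (hW.ndD a).cut h2 (hW.proj.mem a x) h
  have hTdim : k ≤ finrank F T + 1 := by
    have := finrank_le_inf_ker_add_one (D a) (QuadraticMap.polarBilin Q (p a x))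
    rw [hW.dim a, ← hTdef] at this
    exact this
  have hcT : c ∈ T := (hmem c).2 ⟨hc, hcx⟩
  by_cases hsT : ∃ q ∈ T, q ≠ 0 ∧ Q q = 0
  · obtain ⟨q, hqT, hq0, hQ⟩ := hsT
    obtain ⟨q', hq'T, hQ', hqq⟩ := hTnd.exists_partner hqT hq0 hQ
    have hq'0 : q' ≠ 0 := fun h => one_ne_zero (hqq.symm.trans (by rw [h, QuadraticMap.polar_zero_right]))
    have both : B q y = 0 ∧ B q' y = 0 := by
      by_cases hW0 : T ⊓ LinearMap.ker (QuadraticMap.polarBilin Q q) ⊓ LinearMap.ker (QuadraticMap.polarBilin Q q') = ⊥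
      · have h3 : k = 3 := by
          have h1 := finrank_le_inf_ker_add_one T (QuadraticMap.polarBilin Q q)
          have h1' := finrank_le_inf_ker_add_one (T ⊓ LinearMap.ker (QuadraticMap.polarBilin Q q))
            (QuadraticMap.polarBilin Q q')
          rw [hW0, finrank_bot] at h1'
          omega
        have hQx : Q (p a x) ≠ 0 := hzero.resolve_left fun h => by
          have hT3 : T = D a := by rw [hTdef, h, map_zero, LinearMap.ker_zero, inf_top_eq]
          have h1 := finrank_le_inf_ker_add_one T (QuadraticMap.polarBilin Q q)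
          have h1' := finrank_le_inf_ker_add_one (T ⊓ LinearMap.ker (QuadraticMap.polarBilin Q q))
            (QuadraticMap.polarBilin Q q')
          rw [hW0, finrank_bot] at h1'
          rw [hT3] at h1 h1'
          rw [hW.dim] at h1
          omega
        exact ⟨hW.diag hT (hW.five h3) hx hy ((hmem q).1 hqT).1 hQ ((hmem q).1 hqT).2 hQx,
          hW.diag hT (hW.five h3) hx hy ((hmem q').1 hq'T).1 hQ' ((hmem q').1 hq'T).2 hQx⟩
      · obtain ⟨c₀, hc₀, hQc₀⟩ := (hTnd.cut_pair hqT hq'T hQ hQ' hqq).exists_aniso hW0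
        obtain ⟨m1, m2⟩ := (hmem c₀).1 hc₀.1.1
        exact ⟨(hW.no_sing hT hx hxD hy ((hmem q).1 hqT).1 hq0 m1 hQ hc₀.1.2 ((hmem q).1 hqT).2 m2).1 hQc₀,
          (hW.no_sing hT hx hxD hy ((hmem q').1 hq'T).1 hq'0 m1 hQ' hc₀.2 ((hmem q').1 hq'T).2 m2).1 hQc₀⟩
    have hc' : c - B q c • q' ∈ T := T.sub_mem hcT (T.smul_mem _ hq'T)
    have h := (hW.no_sing hT hx hxD hy ((hmem q).1 hqT).1 hq0 ((hmem _).1 hc').1 hQ (by
      rw [QuadraticMap.polar_sub_right, QuadraticMap.polar_smul_right, hqq, smul_eq_mul, mul_one, sub_self])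
      ((hmem q).1 hqT).2 ((hmem _).1 hc').2).2 both.1
    rwa [QuadraticMap.polar_sub_left, QuadraticMap.polar_smul_left, both.2, smul_zero, sub_zero] at h
  push Not at hsT
  have hT3 : finrank F T ≤ 2 := by
    by_contra hlt
    obtain ⟨q, hq, hq0, hQ⟩ := exists_singular_in (Q := Q) (W := T) (fun w hw hw0 => hTnd w hw hw0) (by omega)
    exact hsT q hq hq0 hQ
  have h3 : k = 3 := by omega
  obtain ⟨y₀, hy₀, hQy, hspan⟩ := hbase h3
  have hQx : Q (p a x) ≠ 0 := hzero.resolve_left fun h => by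
    rw [hTdef, h, map_zero, LinearMap.ker_zero, inf_top_eq, hW.dim] at hT3; omega
  obtain ⟨r, s, rfl⟩ := hspan y hy
  rw [polar_lin_right, hcx, hW.plane hT hx hxD hy₀ hQy hspan h3 hQx
    (fun c hc hcx h => by_contra fun h0 => hsT c ((hmem c).2 ⟨hc, hcx⟩) h0 h) c hc hcx, mul_zero, mul_zero, add_zero]

end OWr

end Cfsg.Agent.Classical.MaxTv
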