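import Cfsg.Agent.Lib.Classical.MaxOrthRefPair
import Cfsg.Agent.Lib.Classical.MaxOrthWreath
import Cfsg.Agent.Lib.Classical.OrthSpinor

/-!
Summands of dimension two: every vector of value one is a member once all vectors on two summands are.
-/

set_option autoImplicit false
set_option linter.unusedSectionVars false
set_option quotPrecheck false

namespace Cfsg.Agent.Classical.OrthRef

open Matrix Module
open MaxTv (IsProj NdQ finrank_le_inf_ker_add_one)

variable {F : Type*} [Field F] [Fintype F] {ι : Type} [Fintype ι] [DecidableEq ι] {Q : QuadraticForm F (ι → F)}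

local notation "V" => (ι → F)
local notation "Mn" => Matrix ι ι F
local notation "B" => QuadraticMap.polar ⇑Q

namespace Ctx

variable {M : Subgroup (GL ι F)} {t k : ℕ} {D : Fin t → Submodule F (ι → F)}
  {p : Fin t → ((ι → F) →ₗ[F] (ι → F))} (hC : Ctx Q M D p k)
include hC

/-- All vectors on one pair give all vectors on every pair. -/
theorem all_pairs {a b : Fin t} (hab : a ≠ b)
    (h : ∀ y, Q y = 1 → (∀ i, i ≠ a → i ≠ b → p i y = 0) → Mem Q M D y) {i j : Fin t} (hij : i ≠ j) {y : V}
    (hy : Q y = 1) (hs : ∀ l, l ≠ i → l ≠ j → p l y = 0) : Mem Q M D y := by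
  have sw : ∀ a i : Fin t, ∃ h ∈ M, ∀ l, ∀ z ∈ D l, (h : Mn) *ᵥ z ∈ D (Equiv.swap a i l) := fun a i => by
    rcases eq_or_ne a i with rfl | hne
    · exact ⟨1, one_mem M, fun l z hz => by simpa using hz⟩
    · exact hC.swap a i hne
  obtain ⟨g₁, hg₁, e₁⟩ := sw a i
  obtain ⟨b', hb'⟩ : ∃ b', b' = Equiv.swap a i b := ⟨_, rfl⟩
  obtain ⟨g₂, hg₂, e₂⟩ := sw b' j
  have hb'i : b' ≠ i := fun e => hab ((Equiv.swap a i).injective (by rw [Equiv.swap_apply_left, ← hb', e]))
  obtain ⟨σ, hσdef⟩ : ∃ σ : Fin t → Fin t, σ = fun l => Equiv.swap b' j (Equiv.swap a i l) := ⟨_, rfl⟩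
  have hσ : ∀ l, ∀ z ∈ D l, ((g₂ * g₁ : GL ι F) : Mn) *ᵥ z ∈ D (σ l) := fun l z hz => by
    rw [hσdef, Units.val_mul, ← Matrix.mulVec_mulVec]
    exact e₂ _ _ (e₁ l z hz)
  have hσa : σ a = i := by
    rw [hσdef]
    show Equiv.swap b' j (Equiv.swap a i a) = i
    rw [Equiv.swap_apply_left, Equiv.swap_apply_of_ne_of_ne (Ne.symm hb'i) hij]
  have hσb : σ b = j := by
    rw [hσdef]
    show Equiv.swap b' j (Equiv.swap a i b) = j
    rw [← hb', Equiv.swap_apply_left]
  have hh : g₂ * g₁ ∈ M := mul_mem hg₂ hg₁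
  have onto : ∀ l, ∀ w ∈ D (σ l), ∃ x ∈ D l, ((g₂ * g₁ : GL ι F) : Mn) *ᵥ x = w := by
    intro l w hw
    have hle : (D l).map (Matrix.toLin' ((g₂ * g₁ : GL ι F) : Mn)) ≤ D (σ l) := by
      rintro _ ⟨z, hz, rfl⟩
      rw [Matrix.toLin'_apply]
      exact hσ l z hz
    have hinj : Function.Injective (Matrix.toLin' ((g₂ * g₁ : GL ι F) : Mn)) := fun x z he => by
      rw [Matrix.toLin'_apply, Matrix.toLin'_apply] at he
      exact MaxTv.gl_mulVec_injective _ he
    have heq := Submodule.eq_of_le_of_finrank_le hle (by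
      rw [hC.dim, ← LinearEquiv.finrank_eq (Submodule.equivMapOfInjective _ hinj (D l)), hC.dim])
    rw [← heq] at hw
    obtain ⟨x, hx, rfl⟩ := hw
    exact ⟨x, hx, (Matrix.toLin'_apply _ _).symm⟩
  obtain ⟨x, hx, hxe⟩ := onto a _ (hσa ▸ hC.proj.mem i y : p i y ∈ D (σ a))
  obtain ⟨z, hz, hze⟩ := onto b _ (hσb ▸ hC.proj.mem j y : p j y ∈ D (σ b))
  have hye : ((g₂ * g₁ : GL ι F) : Mn) *ᵥ (x + z) = y := by
    rw [Matrix.mulVec_add, hxe, hze, ← hC.eq_add_of_supp hij hs]
  have hxz : Mem Q M D (x + z) := h _ (by rw [← hC.iso _ hh, hye, hy]) fun l hla hlb => by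
    rw [map_add, hC.proj.other l a hla x hx, hC.proj.other l b hlb z hz, add_zero]
  have := hC.mem_of_map hh hσ hxz
  rwa [hye] at this

/-- Two steps in two summands move a vector onto another of the same value. -/
theorem merge_step (hk : k = 2) {a b : Fin t} (hab : a ≠ b)
    (hW : ∀ m, Q m = 1 → (∀ i, i ≠ a → i ≠ b → p i m = 0) → Mem Q M D m) {y y' r : V}
    (hys : ∀ i, i ≠ a → i ≠ b → p i y = 0) (hys' : ∀ i, i ≠ a → i ≠ b → p i y' = 0)
    (hra : p a r = 0) (hrb : p b r = 0) (hQ : Q y' = Q y) (hdet : 4 * Q y * Q y - B y y' * B y y' ≠ 0)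
    (hm : Mem Q M D (y' + r)) : Mem Q M D (y + r) := by
  obtain ⟨γ, hγ⟩ : ∃ γ, γ = Q y := ⟨_, rfl⟩
  obtain ⟨τ, hτ⟩ : ∃ τ, τ = B y y' := ⟨_, rfl⟩
  rw [← hγ, ← hτ] at hdet
  rw [← hγ] at hQ
  obtain ⟨W, hWdef⟩ : ∃ W, W = D a ⊔ D b := ⟨_, rfl⟩
  have hWs : ∀ x ∈ W, ∀ i, i ≠ a → i ≠ b → p i x = 0 := fun x hx i hia hib => by
    rw [hWdef] at hx
    obtain ⟨u, hu, w, hw, rfl⟩ := Submodule.mem_sup.1 hx
    rw [map_add, hC.proj.other i a hia u hu, hC.proj.other i b hib w hw, add_zero]
  have hWm : ∀ x, (∀ i, i ≠ a → i ≠ b → p i x = 0) → x ∈ W := fun x hx => by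
    rw [hWdef, hC.eq_add_of_supp hab hx]
    exact Submodule.add_mem_sup (hC.proj.mem a x) (hC.proj.mem b x)
  have hyy : B y y = 2 * γ := by rw [polar_diag, hγ]
  have hy'y' : B y' y' = 2 * γ := by rw [polar_diag, hQ]
  obtain ⟨d, hd⟩ : ∃ d, d = 4 * γ * γ - τ * τ := ⟨_, rfl⟩
  rw [← hd] at hdet
  -- vectors with prescribed pairings
  have pre : ∀ c c' : F, ∃ w ∈ W, B y w = c ∧ B y' w = c' ∧ ∀ z, B y z = 0 → B y' z = 0 → B w z = 0 :=
    fun c c' => by
    refine ⟨((2 * γ * c - τ * c') / d) • y + ((2 * γ * c' - τ * c) / d) • y',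
      W.add_mem (W.smul_mem _ (hWm y hys)) (W.smul_mem _ (hWm y' hys')), ?_, ?_, fun z h1 h2 => ?_⟩
    · rw [QuadraticMap.polar_add_right, QuadraticMap.polar_smul_right, QuadraticMap.polar_smul_right, hyy, ← hτ,
        smul_eq_mul, smul_eq_mul]
      field_simp
      linear_combination -c * hd
    · rw [QuadraticMap.polar_add_right, QuadraticMap.polar_smul_right, QuadraticMap.polar_smul_right, hy'y',
        QuadraticMap.polar_comm _ y' y, ← hτ, smul_eq_mul, smul_eq_mul]
      field_simp
      linear_combination -c' * hd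
    · rw [QuadraticMap.polar_add_left, QuadraticMap.polar_smul_left, QuadraticMap.polar_smul_left, h1, h2, smul_zero,
        smul_zero, add_zero]
  -- the perpendicular plane
  obtain ⟨P, hP⟩ : ∃ P, P = W ⊓ LinearMap.ker (QuadraticMap.polarBilin Q y) ⊓
      LinearMap.ker (QuadraticMap.polarBilin Q y') := ⟨_, rfl⟩
  have hPmem : ∀ w, w ∈ P → w ∈ W ∧ B y w = 0 ∧ B y' w = 0 := fun w hw => by
    rw [hP] at hw
    exact ⟨hw.1.1, hw.1.2, hw.2⟩
  have hPnd : NdQ Q P := fun w hw hw0 => by
    obtain ⟨hwW, hyw, hy'w⟩ := hPmem w hw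
    obtain ⟨e, he, hwe⟩ : ∃ e ∈ W, B w e ≠ 0 := by
      have key : ∀ c, c = a ∨ c = b → p c w ≠ 0 → ∃ e ∈ W, B w e ≠ 0 := fun c hc h0 => by
        obtain ⟨e, he, hwe⟩ := hC.nd c _ (hC.proj.mem c w) h0
        refine ⟨e, ?_, ?_⟩
        · rcases hc with rfl | rfl
          · rw [hWdef]; exact Submodule.mem_sup_left he
          · rw [hWdef]; exact Submodule.mem_sup_right he
        · rwa [QuadraticMap.polar_comm, hC.polar_proj he, QuadraticMap.polar_comm]
      by_cases ha : p a w = 0
      · refine key b (Or.inr rfl) fun hb => hw0 ?_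
        rw [hC.eq_add_of_supp hab (hWs w hwW), ha, hb, add_zero]
      · exact key a (Or.inl rfl) ha
    obtain ⟨e', he', h1, h2, h3⟩ := pre (B y e) (B y' e)
    refine ⟨e - e', ?_, ?_⟩
    · rw [hP]
      refine ⟨⟨W.sub_mem he he', ?_⟩, ?_⟩
      · show B y (e - e') = 0
        rw [QuadraticMap.polar_sub_right, h1, sub_self]
      · show B y' (e - e') = 0
        rw [QuadraticMap.polar_sub_right, h2, sub_self]
    · rwa [QuadraticMap.polar_sub_right, QuadraticMap.polar_comm _ w e', h3 w hyw hy'w, sub_zero]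
  have hWd : finrank F W = 4 := by
    have h := Submodule.finrank_sup_add_finrank_inf_eq (D a) (D b)
    rw [(Submodule.eq_bot_iff _).2 fun x hx => by_contra fun h0 => hab (hC.block_inj h0 (Submodule.mem_inf.1 hx).1 (Submodule.mem_inf.1 hx).2), finrank_bot,
      hC.dim, hC.dim, ← hWdef, hk] at h
    omega
  have hPd : 2 ≤ finrank F P := by
    have h1 := finrank_le_inf_ker_add_one W (QuadraticMap.polarBilin Q y)
    have h2 := finrank_le_inf_ker_add_one (W ⊓ LinearMap.ker (QuadraticMap.polarBilin Q y))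
      (QuadraticMap.polarBilin Q y')
    rw [← hP] at h2
    omega
  have hval : ∀ c : F, ∃ n ∈ P, Q n = c := fun c => by
    by_cases h2 : (2 : F) = 0
    · obtain ⟨e, he, hQe⟩ : ∃ e ∈ P, Q e ≠ 0 := hPnd.exists_aniso fun h => by
        rw [h, finrank_bot] at hPd; omega
      obtain ⟨s, hs⟩ := sq_two h2 (c * (Q e)⁻¹)
      exact ⟨s • e, P.smul_mem _ he, by
        rw [QuadraticMap.map_smul, smul_eq_mul, ← hs, inv_mul_cancel_right₀ hQe]⟩
    · have hnd : (QuadraticMap.polarBilin Q).Nondegenerate :=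
        ⟨fun x hx => hC.nd_all hx, fun x hx => hC.nd_all fun z => by rw [QuadraticMap.polar_comm]; exact hx z⟩
      exact OrthAut.exists_value_in hnd h2 (fun w hw hw0 => hPnd w hw hw0) hPd c
  -- the first reflection
  obtain ⟨m₀, hm₀, hym₀, hy'm₀, hm₀p⟩ := pre 1 (1 - 2 * γ + τ)
  obtain ⟨n, hn, hQn⟩ := hval (1 - Q m₀)
  obtain ⟨hnW, hyn, hy'n⟩ := hPmem n hn
  obtain ⟨m, hmdef⟩ : ∃ m, m = m₀ + n := ⟨_, rfl⟩
  have hQm : Q m = 1 := by
    rw [hmdef, QuadraticMap.map_add (f := Q), hQn, hm₀p n hyn hy'n, add_zero, add_sub_cancel]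
  have hBym : B m y = 1 := by
    rw [hmdef, QuadraticMap.polar_comm, QuadraticMap.polar_add_right, hym₀, hyn, add_zero]
  have hBy'm : B m y' = 1 - 2 * γ + τ := by
    rw [hmdef, QuadraticMap.polar_comm, QuadraticMap.polar_add_right, hy'm₀, hy'n, add_zero]
  have hmW : m ∈ W := hmdef ▸ W.add_mem hm₀ hnW
  -- the second reflection
  obtain ⟨m', hm'def⟩ : ∃ m', m' = y - m - y' := ⟨_, rfl⟩
  have hQym : Q (y - m) = γ := by
    rw [sub_eq_add_neg, QuadraticMap.map_add (f := Q), QuadraticMap.map_neg, hQm, QuadraticMap.polar_neg_right,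
      QuadraticMap.polar_comm _ y m, hBym, ← hγ]
    ring
  have hQm' : Q m' = 1 := by
    rw [hm'def, sub_eq_add_neg (y - m), QuadraticMap.map_add (f := Q), QuadraticMap.map_neg, hQym, hQ,
      QuadraticMap.polar_neg_right, QuadraticMap.polar_sub_left, ← hτ, hBy'm]
    ring
  have hBm' : B m' y' = -1 := by
    rw [hm'def, QuadraticMap.polar_sub_left, QuadraticMap.polar_sub_left, ← hτ, hBy'm, hy'y']
    ring
  have hm'W : m' ∈ W := hm'def ▸ W.sub_mem (W.sub_mem (hWm y hys) hmW) (hWm y' hys')
  have perp : ∀ x ∈ W, B x r = 0 := fun x hx => by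
    rw [hC.eq_add_of_supp hab (hWs x hx), QuadraticMap.polar_add_left, hC.polar_proj (hC.proj.mem a x),
      hC.polar_proj (hC.proj.mem b x), hra, hrb, QuadraticMap.polar_zero_right, QuadraticMap.polar_zero_right,
      add_zero]
  have e1 : rf Q m' (y' + r) = (y - m) + r := by
    rw [rf_one hQm', QuadraticMap.polar_add_right, hBm', perp m' hm'W, add_zero, hm'def]
    module
  have e2 : rf Q m ((y - m) + r) = y + r := by
    rw [rf_one hQm, QuadraticMap.polar_add_right, QuadraticMap.polar_sub_right, hBym, polar_diag, hQm, perp m hmW,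
      add_zero]
    module
  rw [← e2, ← e1]
  exact hC.mem_rf (hW m hQm (hWs m hmW)) (hC.mem_rf (hW m' hQm' (hWs m' hm'W)) hm)

/-- A vector of prescribed value in a summand pairing suitably with a given one. -/
theorem exists_target (hk : k = 2) (hne : Fintype.card F ≠ 2) {a : Fin t} {x : V} (hx : x ∈ D a) (hx0 : x ≠ 0)
    {γ : F} (hγ : γ ≠ 0) : ∃ v ∈ D a, Q v = γ ∧ 4 * γ * γ - B x v * B x v ≠ 0 := by
  classical
  obtain ⟨v, hv, hQv⟩ := hC.repr_val a γ
  by_cases hgood : 4 * γ * γ - B x v * B x v = 0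
  swap
  · exact ⟨v, hv, hQv, hgood⟩
  have hv0 : v ≠ 0 := fun e => hγ (by rw [← hQv, e, QuadraticMap.map_zero])
  have hQv0 : Q v ≠ 0 := hQv ▸ hγ
  have hq4 : 4 ≤ Fintype.card F := by
    have := hC.card_three hk
    have := Fintype.one_lt_card (α := F)
    omega
  by_cases h2 : (2 : F) = 0
  · have hxv : B x v = 0 := mul_self_eq_zero.1 (by linear_combination -hgood + 2 * γ * γ * h2)
    obtain ⟨f, hf, hfv⟩ := hC.nd a v hv hv0
    have hvv : B v v = 0 := by rw [polar_diag, h2, zero_mul]
    -- a reflection moving `v` off the perpendicular line of `x`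
    have hfx : B x f ≠ 0 := fun hxf => by
      refine hfv ?_
      by_cases hd : ∃ c : F, v = c • x
      · obtain ⟨c, hc⟩ := hd
        rw [hc, QuadraticMap.polar_smul_left, hxf, smul_zero]
      · push Not at hd
        obtain ⟨g, hg, hxg⟩ := hC.nd a x hx hx0
        exact absurd (perp_pair (Q := Q) (by rw [hC.dim, hk]) (hC.nd a) hx hv (ind_pair hC hx0 hd) hx
          (by rw [polar_diag, h2, zero_mul]) (by rw [QuadraticMap.polar_comm]; exact hxv)) hx0
    obtain ⟨s, hs⟩ : ∃ s : F, Q (f + s • v) ≠ 0 := by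
      by_contra hc
      push Not at hc
      have h0 := hc 0
      rw [zero_smul, add_zero] at h0
      have h1 := hc 1
      rw [one_smul, QuadraticMap.map_add (f := Q), h0, hQv] at h1
      obtain ⟨s, hs0, hs1⟩ : ∃ s : F, s ≠ 0 ∧ s ≠ 1 := by
        by_contra hc'
        push Not at hc'
        have := Finset.card_le_card (fun s _ => by
          by_cases h : s = 0
          · simp [h]
          · simp [hc' s h] : (Finset.univ : Finset F) ⊆ {0, 1})
        rw [Finset.card_univ] at this
        have := Finset.card_le_two (a := (0 : F)) (b := 1)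
        omega
      have h3 := hc s
      rw [quad_add_smul', h0, hQv] at h3
      have h4 : s * (s - 1) * γ = 0 := by linear_combination h3 - s * h1
      simp [hs0, hγ, sub_eq_zero, hs1] at h4
    obtain ⟨w, hw⟩ : ∃ w, w = f + s • v := ⟨_, rfl⟩
    rw [← hw] at hs
    refine ⟨rf Q w v, ?_, by rw [quad_rf, hQv], ?_⟩
    · rw [rf_apply]
      exact (D a).sub_mem hv ((D a).smul_mem _ (hw ▸ (D a).add_mem hf ((D a).smul_mem _ hv)))
    · have e : B x (rf Q w v) = -(B w v * (Q w)⁻¹) * B x f := by
        rw [rf_apply, QuadraticMap.polar_sub_right, QuadraticMap.polar_smul_right, hxv, hw,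
          QuadraticMap.polar_add_right, QuadraticMap.polar_smul_right, hxv, smul_zero, add_zero, smul_eq_mul]
        ring
      have hwv : B w v ≠ 0 := by
        rw [hw, QuadraticMap.polar_add_left, QuadraticMap.polar_smul_left, hvv, smul_zero, add_zero,
          QuadraticMap.polar_comm]
        exact hfv
      intro h
      have h' : B x (rf Q w v) * B x (rf Q w v) = 0 := by linear_combination -h + 2 * γ * γ * h2
      rw [mul_self_eq_zero, e] at h'
      exact mul_ne_zero (neg_ne_zero.2 (mul_ne_zero hwv (inv_ne_zero hs))) hfx h'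
  · obtain ⟨f, hf, hvf, hQf⟩ := hC.perp_aniso h2 hv hQv0
    obtain ⟨φ, hφ⟩ : ∃ φ, φ = Q f := ⟨_, rfl⟩
    obtain ⟨β, hβ⟩ : ∃ β, β = B x f := ⟨_, rfl⟩
    obtain ⟨e, he⟩ : ∃ e, e = B x v := ⟨_, rfl⟩
    rw [← he] at hgood
    have he0 : e ≠ 0 := fun h => mul_ne_zero (mul_ne_zero h2 hγ) (mul_ne_zero h2 hγ)
      (by linear_combination hgood + e * h)
    -- good parameters
    obtain ⟨bad, hbad⟩ : ∃ bad : Finset F,
        bad = ({0, -β / e, e * φ / (β * γ)} : Finset F) ∪ Finset.univ.filter fun s => φ + s * s * γ = 0 := ⟨_, rfl⟩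
    have hcard : bad.card < Fintype.card F := by
      have c1 : ({0, -β / e, e * φ / (β * γ)} : Finset F).card ≤ 3 := Finset.card_le_three
      have hu := Finset.card_union_le ({0, -β / e, e * φ / (β * γ)} : Finset F)
        (Finset.univ.filter fun s => φ + s * s * γ = 0)
      rw [← hbad] at hu
      rcases (Finset.univ.filter fun s => φ + s * s * γ = 0).eq_empty_or_nonempty with h0 | ⟨s, hs⟩
      · rw [h0, Finset.card_empty] at hu
        omega
      · rw [Finset.mem_filter] at hs
        have hz : Q (f + s • v) = 0 := by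
          rw [quad_add_smul', QuadraticMap.polar_comm _ f v, hvf, hQv, ← hφ]
          linear_combination hs.2
        have h7 := hC.plus hk a _ ((D a).add_mem hf ((D a).smul_mem _ hv)) hz fun e0 => by
          have h1 : B f (f + s • v) = 0 := by rw [e0, QuadraticMap.polar_zero_right]
          rw [QuadraticMap.polar_add_right, QuadraticMap.polar_smul_right, QuadraticMap.polar_comm _ f v, hvf,
            smul_zero, add_zero, polar_diag] at h1
          exact mul_ne_zero h2 hQf h1
        have c2 : (Finset.univ.filter fun s => φ + s * s * γ = 0).card ≤ 2 := by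
          refine le_trans (Finset.card_le_card fun u hu => ?_) (Finset.card_le_two (a := s) (b := -s))
          rw [Finset.mem_filter] at hu
          rcases mul_self_eq_mul_self_iff.1 (mul_right_cancel₀ hγ (by linear_combination hu.2 - hs.2 :
            u * u * γ = s * s * γ)) with h | h <;> simp [h]
        omega
    obtain ⟨s, hs⟩ : ∃ s, s ∉ bad := by
      by_contra hc
      push Not at hc
      rw [Finset.eq_univ_iff_forall.2 hc, Finset.card_univ] at hcard
      omega
    rw [hbad] at hs
    simp only [Finset.mem_union, Finset.mem_insert, Finset.mem_singleton, Finset.mem_filter, Finset.mem_univ,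
      true_and, not_or] at hs
    obtain ⟨⟨hs0, hs1, hs2⟩, hs3⟩ := hs
    obtain ⟨w, hw⟩ : ∃ w, w = f + s • v := ⟨_, rfl⟩
    have hQw : Q w = φ + s * s * γ := by
      rw [hw, quad_add_smul', QuadraticMap.polar_comm _ f v, hvf, hQv, ← hφ]
      ring
    have hBwv : B w v = 2 * s * γ := by
      rw [hw, QuadraticMap.polar_add_left, QuadraticMap.polar_smul_left, QuadraticMap.polar_comm _ f v, hvf,
        polar_diag, hQv, smul_eq_mul]
      ring
    refine ⟨rf Q w v, ?_, by rw [quad_rf, hQv], ?_⟩
    · rw [rf_apply]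
      exact (D a).sub_mem hv ((D a).smul_mem _ (hw ▸ (D a).add_mem hf ((D a).smul_mem _ hv)))
    · have eB : B x (rf Q w v) * (φ + s * s * γ) = e * (φ + s * s * γ) - 2 * s * γ * (β + s * e) := by
        rw [rf_apply, QuadraticMap.polar_sub_right, QuadraticMap.polar_smul_right, hBwv, hQw, hw,
          QuadraticMap.polar_add_right, QuadraticMap.polar_smul_right, smul_eq_mul, smul_eq_mul, ← hβ, ← he]
        linear_combination (-(2 * s * γ) * (β + s * e)) * inv_mul_cancel₀ hs3
      intro h
      rcases mul_self_eq_mul_self_iff.1 (show B x (rf Q w v) * B x (rf Q w v) = e * e by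
        linear_combination -h + hgood) with h' | h' <;> rw [h'] at eB
      · have : (2 * s * γ) * (β + s * e) = 0 := by linear_combination eB
        rcases mul_eq_zero.1 this with h1 | h1
        · exact mul_ne_zero (mul_ne_zero h2 hs0) hγ h1
        · exact hs1 (by rw [eq_div_iff he0]; linear_combination h1)
      · have h1 : (2 : F) * (e * φ - s * γ * β) = 0 := by linear_combination -eB
        have h2' := (mul_eq_zero.1 h1).resolve_left h2
        by_cases hβ0 : β = 0
        · exact hQf (by
            rw [hβ0, mul_zero, sub_zero] at h2'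
            rw [← hφ]; exact (mul_eq_zero.1 h2').resolve_left he0)
        · exact hs2 (by rw [eq_div_iff (mul_ne_zero hβ0 hγ)]; linear_combination -h2')

/-- Support of a vector. -/
noncomputable def supp (p : Fin t → (V →ₗ[F] V)) (y : V) : Finset (Fin t) :=
  by classical exact Finset.univ.filter fun i => p i y ≠ 0

omit hC in
theorem mem_supp {y : V} {i : Fin t} : i ∈ supp p y ↔ p i y ≠ 0 := by simp [supp]

/-- All vectors on pairs give all vectors. -/
theorem merge (hk : k = 2) (hne : Fintype.card F ≠ 2)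
    (hW : ∀ a b, a ≠ b → ∀ m, Q m = 1 → (∀ i, i ≠ a → i ≠ b → p i m = 0) → Mem Q M D m) :
    ∀ y, Q y = 1 → Mem Q M D y := by
  classical
  suffices h : ∀ n, ∀ y, (supp p y).card = n → Q y = 1 → Mem Q M D y from fun y hy => h _ y rfl hy
  intro n
  induction n using Nat.strong_induction_on with
  | _ n ih =>
    intro y hn hy
    have hy0 : y ≠ 0 := fun e => one_ne_zero (α := F) (by rw [← hy, e, QuadraticMap.map_zero])
    by_cases h1 : ∃ a b, a ≠ b ∧ ∀ i, i ≠ a → i ≠ b → p i y = 0
    · obtain ⟨a, b, hab, hs⟩ := h1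
      exact hW a b hab y hy hs
    -- reduce a pair of components with non-zero value
    have red : ∀ y : V, Q y = 1 → (supp p y).card ≤ n → ∀ a b, a ≠ b → p a y ≠ 0 → p b y ≠ 0 →
        Q (p a y) + Q (p b y) ≠ 0 → Mem Q M D y := by
      intro y hy hcard a b hab ha hb hγ
      obtain ⟨v, hv, hQv, hdet⟩ := hC.exists_target hk hne (hC.proj.mem a y) ha hγ
      obtain ⟨r, hr⟩ : ∃ r, r = y - (p a y + p b y) := ⟨_, rfl⟩
      have hQab : Q (p a y + p b y) = Q (p a y) + Q (p b y) := by
        rw [QuadraticMap.map_add (f := Q), hC.orth a b hab _ (hC.proj.mem a y) _ (hC.proj.mem b y), add_zero]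
      have hra : p a r = 0 := by
        rw [hr, map_sub, map_add, hC.proj.self a _ (hC.proj.mem a y), hC.proj.other a b hab _ (hC.proj.mem b y),
          add_zero, sub_self]
      have hrb : p b r = 0 := by
        rw [hr, map_sub, map_add, hC.proj.self b _ (hC.proj.mem b y),
          hC.proj.other b a (Ne.symm hab) _ (hC.proj.mem a y), zero_add, sub_self]
      have hsab : ∀ i, i ≠ a → i ≠ b → p i (p a y + p b y) = 0 := fun i hia hib => by
        rw [map_add, hC.proj.other i a hia _ (hC.proj.mem a y), hC.proj.other i b hib _ (hC.proj.mem b y), add_zero]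
      have hB : B (p a y + p b y) v = B (p a y) v := by
        rw [QuadraticMap.polar_add_left, hC.orth b a (Ne.symm hab) _ (hC.proj.mem b y) v hv, add_zero]
      have hbr : B (p a y + p b y) r = 0 := by
        rw [QuadraticMap.polar_add_left, hC.polar_proj (hC.proj.mem a y), hC.polar_proj (hC.proj.mem b y), hra, hrb,
          QuadraticMap.polar_zero_right, QuadraticMap.polar_zero_right, add_zero]
      have hvr : B v r = 0 := by rw [hC.polar_proj hv, hra, QuadraticMap.polar_zero_right]
      have hyr : p a y + p b y + r = y := by rw [hr, add_sub_cancel]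
      rw [← hyr]
      refine hC.merge_step hk hab (hW a b hab) hsab (y' := v) (fun i hia _ => hC.proj.other i a hia v hv) hra hrb
        (by rw [hQv, hQab]) (by rw [hQab, hB]; exact hdet) ?_
      have hsub : supp p (v + r) ⊆ (supp p y).erase b := fun i hi => by
        rw [mem_supp] at hi
        rw [Finset.mem_erase, mem_supp]
        refine ⟨fun e => hi ?_, fun e => hi ?_⟩
        · rw [e, map_add, hrb, hC.proj.other b a (Ne.symm hab) v hv, add_zero]
        · rcases eq_or_ne i a with rfl | hia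
          · exact absurd e ha
          · rcases eq_or_ne i b with rfl | hib
            · exact absurd e hb
            · rw [map_add, hC.proj.other i a hia v hv, hr, map_sub, e, hsab i hia hib, sub_zero, zero_add]
      refine ih _ ?_ _ rfl ?_
      · have hbm : b ∈ supp p y := mem_supp.2 hb
        have h1 := Finset.card_le_card hsub
        have h2 := Finset.card_erase_add_one hbm
        omega
      · rw [QuadraticMap.map_add (f := Q), hvr, hQv, ← hQab]
        conv_rhs => rw [← hy, ← hyr, QuadraticMap.map_add (f := Q), hbr]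
    by_cases h3 : ∃ a b, a ≠ b ∧ p a y ≠ 0 ∧ p b y ≠ 0 ∧ Q (p a y) + Q (p b y) ≠ 0
    · obtain ⟨a, b, hab, ha, hb, hγ⟩ := h3
      exact red y hy hn.le a b hab ha hb hγ
    push Not at h1 h3
    -- three components
    obtain ⟨a, ha⟩ : ∃ a, p a y ≠ 0 := by
      by_contra hc
      push Not at hc
      exact hy0 (by rw [← hC.proj.sum y]; exact Finset.sum_eq_zero fun i _ => hc i)
    obtain ⟨b, hab, hb⟩ : ∃ b, a ≠ b ∧ p b y ≠ 0 := by
      obtain ⟨e, he⟩ : ∃ e, a ≠ e := by
        rcases eq_or_ne a ⟨0, by have := hC.tge; omega⟩ with h | h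
        · exact ⟨⟨1, by have := hC.tge; omega⟩, by rw [h]; simp⟩
        · exact ⟨_, h⟩
      obtain ⟨i, hia, -, hi⟩ := h1 a e he
      exact ⟨i, Ne.symm hia, hi⟩
    obtain ⟨c, hca, hcb, hc⟩ := h1 a b hab
    have e1 := h3 a b hab ha hb
    have e2 := h3 a c (Ne.symm hca) ha hc
    have e3 := h3 b c (Ne.symm hcb) hb hc
    -- the common value
    have hall : ∀ i, p i y ≠ 0 → i ≠ a → Q (p i y) = -Q (p a y) := fun i hi hia => by
      linear_combination h3 a i (Ne.symm hia) ha hi
    have hval : Q (p a y) * 2 = 0 := by linear_combination e1 + e2 - e3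
    have h2 : (2 : F) = 0 := by
      by_contra h2
      have h0 : ∀ i, Q (p i y) = 0 := fun i => by
        have ha0 : Q (p a y) = 0 := (mul_eq_zero.1 hval).resolve_right h2
        by_cases hi : p i y = 0
        · rw [hi, QuadraticMap.map_zero]
        rcases eq_or_ne i a with rfl | hia
        · exact ha0
        · rw [hall i hi hia, ha0, neg_zero]
      exact one_ne_zero (α := F) (by rw [← hy, hC.quad_sum y]; exact Finset.sum_eq_zero fun i _ => h0 i)
    have hα : Q (p a y) = 1 := by
      have hsum : Q y = (supp p y).card • Q (p a y) := by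
        rw [hC.quad_sum y, ← Finset.sum_subset (Finset.subset_univ (supp p y)) fun i _ hi => by
          rw [mem_supp, not_not] at hi; rw [hi, QuadraticMap.map_zero], ← Finset.sum_const]
        refine Finset.sum_congr rfl fun i hi => ?_
        rcases eq_or_ne i a with rfl | hia
        · rfl
        · rw [hall i (mem_supp.1 hi) hia]
          linear_combination -Q (p a y) * h2
      rw [hy, nsmul_eq_mul] at hsum
      haveI := CharTwo.of_one_ne_zero_of_two_eq_zero one_ne_zero h2
      rcases Nat.even_or_odd (supp p y).card with ⟨m, hm⟩ | ⟨m, hm⟩ <;> rw [hm] at hsum <;> push_cast at hsum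
      · exact absurd (show (1 : F) = 0 by linear_combination hsum + (m : F) * Q (p a y) * h2) one_ne_zero
      · linear_combination -hsum - (m : F) * Q (p a y) * h2
    have hβ : Q (p b y) = 1 := by linear_combination e1 - hα - h2
    have hγc : Q (p c y) = 1 := by linear_combination e2 - hα - h2
    obtain ⟨r, hr⟩ : ∃ r, r = y - (p a y + p b y) := ⟨_, rfl⟩
    have hQab : Q (p a y + p b y) = 0 := by
      rw [QuadraticMap.map_add (f := Q), hC.orth a b hab _ (hC.proj.mem a y) _ (hC.proj.mem b y), add_zero, e1]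
    have hra : p a r = 0 := by
      rw [hr, map_sub, map_add, hC.proj.self a _ (hC.proj.mem a y), hC.proj.other a b hab _ (hC.proj.mem b y),
        add_zero, sub_self]
    have hrb : p b r = 0 := by
      rw [hr, map_sub, map_add, hC.proj.self b _ (hC.proj.mem b y),
        hC.proj.other b a (Ne.symm hab) _ (hC.proj.mem a y), zero_add, sub_self]
    have hsab : ∀ i, i ≠ a → i ≠ b → p i (p a y + p b y) = 0 := fun i hia hib => by
      rw [map_add, hC.proj.other i a hia _ (hC.proj.mem a y), hC.proj.other i b hib _ (hC.proj.mem b y), add_zero]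
    have hyr : p a y + p b y + r = y := by rw [hr, add_sub_cancel]
    have hxx : B (p a y) (p a y) = 0 := by rw [polar_diag, h2, zero_mul]
    have hzz : B (p b y) (p b y) = 0 := by rw [polar_diag, h2, zero_mul]
    -- the new pair of components
    obtain ⟨x', z', hx', hz', hQ', hB', hred⟩ : ∃ x' z', x' ∈ D a ∧ z' ∈ D b ∧ Q x' + Q z' = 0 ∧
        B (p a y) x' + B (p b y) z' ≠ 0 ∧ (z' = 0 ∨ (x' ≠ 0 ∧ z' ≠ 0 ∧ Q x' ≠ 1)) := by
      by_cases hsing : ∃ e ∈ D a, Q e = 0 ∧ e ≠ 0
      · obtain ⟨e, he, hQe, he0⟩ := hsing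
        refine ⟨e, 0, he, zero_mem _, by rw [hQe, QuadraticMap.map_zero, add_zero], ?_, Or.inl rfl⟩
        rw [QuadraticMap.polar_zero_right, add_zero]
        intro hxe
        have hd : ∀ u : F, e ≠ u • p a y := fun u hu => by
          rw [hu, QuadraticMap.map_smul, hα, smul_eq_mul, mul_one] at hQe
          exact he0 (by rw [hu, mul_self_eq_zero.1 hQe, zero_smul])
        exact ha (perp_pair (Q := Q) (by rw [hC.dim, hk]) (hC.nd a) (hC.proj.mem a y) he (ind_pair hC ha hd)
          (hC.proj.mem a y) hxx (by rw [QuadraticMap.polar_comm]; exact hxe))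
      · push Not at hsing
        obtain ⟨β, hβ0, hβ1⟩ : ∃ β : F, β ≠ 0 ∧ β ≠ 1 := by
          by_contra hc'
          push Not at hc'
          have := Finset.card_le_card (fun s _ => by
            by_cases h : s = 0
            · simp [h]
            · simp [hc' s h] : (Finset.univ : Finset F) ⊆ {0, 1})
          rw [Finset.card_univ] at this
          have := Finset.card_le_two (a := (0 : F)) (b := 1)
          have := Fintype.one_lt_card (α := F)
          omega
        obtain ⟨x', hx', hQx', hd⟩ := hC.exists_target hk hne (hC.proj.mem a y) ha hβ0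
        obtain ⟨l, hl⟩ := sq_two h2 β
        have hQz' : Q (l • p b y) = β := by rw [QuadraticMap.map_smul, hβ, smul_eq_mul, mul_one, ← hl]
        refine ⟨x', l • p b y, hx', (D b).smul_mem _ (hC.proj.mem b y), ?_, ?_, Or.inr ⟨?_, ?_, hQx'.trans_ne hβ1⟩⟩
        · rw [hQx', hQz']; linear_combination β * h2
        · rw [QuadraticMap.polar_smul_right, hzz, smul_zero, add_zero]
          exact fun h => hd (by rw [h]; linear_combination 2 * β * β * h2)
        · exact fun e => hβ0 (by rw [← hQx', e, QuadraticMap.map_zero])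
        · exact fun e => hβ0 (by rw [← hQz', e, QuadraticMap.map_zero])
    rw [← hyr]
    have hdet : 4 * Q (p a y + p b y) * Q (p a y + p b y) -
        B (p a y + p b y) (x' + z') * B (p a y + p b y) (x' + z') ≠ 0 := by
      rw [hQab, mul_zero, zero_sub, neg_ne_zero, QuadraticMap.polar_add_left, QuadraticMap.polar_add_right,
        QuadraticMap.polar_add_right, hC.orth a b hab _ (hC.proj.mem a y) z' hz',
        hC.orth b a (Ne.symm hab) _ (hC.proj.mem b y) x' hx', add_zero, zero_add]
      exact mul_ne_zero hB' hB'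
    have hs' : ∀ i, i ≠ a → i ≠ b → p i (x' + z') = 0 := fun i hia hib => by
      rw [map_add, hC.proj.other i a hia x' hx', hC.proj.other i b hib z' hz', add_zero]
    refine hC.merge_step hk hab (hW a b hab) hsab hs' hra hrb (by
      rw [hQab, QuadraticMap.map_add (f := Q), hC.orth a b hab x' hx' z' hz', add_zero, hQ']) hdet ?_
    have hQr : Q r = 1 := by
      have : Q y = Q r := by
        conv_lhs => rw [← hyr, QuadraticMap.map_add (f := Q), hQab, QuadraticMap.polar_add_left,
          hC.polar_proj (hC.proj.mem a y), hC.polar_proj (hC.proj.mem b y), hra, hrb, QuadraticMap.polar_zero_right,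
          QuadraticMap.polar_zero_right, add_zero, add_zero, zero_add]
      rw [← this, hy]
    have hQnew : Q (x' + z' + r) = 1 := by
      rw [QuadraticMap.map_add (f := Q), QuadraticMap.map_add (f := Q), hC.orth a b hab x' hx' z' hz', add_zero, hQ',
        QuadraticMap.polar_add_left, hC.polar_proj hx', hC.polar_proj hz', hra, hrb, QuadraticMap.polar_zero_right,
        QuadraticMap.polar_zero_right, hQr, zero_add, add_zero, add_zero]
    have hpa : p a (x' + z' + r) = x' := by
      rw [map_add, map_add, hC.proj.self a x' hx', hC.proj.other a b hab z' hz', hra, add_zero, add_zero]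
    have hpb : p b (x' + z' + r) = z' := by
      rw [map_add, map_add, hC.proj.self b z' hz', hC.proj.other b a (Ne.symm hab) x' hx', hrb, zero_add, add_zero]
    have hpi : ∀ i, i ≠ a → i ≠ b → p i (x' + z' + r) = p i y := fun i hia hib => by
      rw [map_add, hs' i hia hib, zero_add, hr, map_sub, hsab i hia hib, sub_zero]
    rcases hred with hz0 | ⟨hx'0, hz'0, hx'1⟩
    · have hsub : supp p (x' + z' + r) ⊆ (supp p y).erase b := fun i hi => by
        rw [mem_supp] at hi
        rw [Finset.mem_erase, mem_supp]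
        refine ⟨fun e => hi (by rw [e, hpb, hz0]), fun e => hi ?_⟩
        rcases eq_or_ne i a with rfl | hia
        · exact absurd e ha
        · rcases eq_or_ne i b with rfl | hib
          · exact absurd e hb
          · rw [hpi i hia hib, e]
      refine ih _ ?_ _ rfl hQnew
      have h1 := Finset.card_le_card hsub
      have h4 := Finset.card_erase_add_one (mem_supp.2 hb : b ∈ supp p y)
      omega
    · refine red _ hQnew ?_ a c (Ne.symm hca) (by rwa [hpa]) (by rwa [hpi c hca hcb]) ?_
      · refine le_of_le_of_eq (Finset.card_le_card fun i hi => ?_) hn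
        rw [mem_supp] at hi ⊢
        rcases eq_or_ne i a with rfl | hia
        · exact ha
        · rcases eq_or_ne i b with rfl | hib
          · exact hb
          · rwa [hpi i hia hib] at hi
      · rw [hpa, hpi c hca hcb, hγc]
        exact fun h => hx'1 (by linear_combination h - h2)

/-- Two elements: one related vector outside the summands relates all vectors of value one. -/
theorem merge_binary (hk : k = 2) (hq : Fintype.card F = 2) {u : V} (hu : Mem Q M D u) (hnb : ∀ b, u ∉ D b) :
    ∀ y, Q y = 1 → Mem Q M D y := by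
  classical
  have h01 : ∀ c : F, c = 0 ∨ c = 1 := fun c => by
    by_contra hc
    push Not at hc
    have h3 := Finset.card_le_card (Finset.subset_univ ({0, 1, c} : Finset F))
    rw [Finset.card_univ, hq, Finset.card_eq_three.2 ⟨0, 1, c, zero_ne_one, Ne.symm hc.1, Ne.symm hc.2, rfl⟩] at h3
    omega
  have h2 : (2 : F) = 0 := by
    rcases h01 2 with h | h
    · exact h
    · exact absurd (show (1 : F) = 0 by linear_combination h) one_ne_zero
  have haniso : ∀ i, ∀ z ∈ D i, z ≠ 0 → Q z = 1 := fun i z hz hz0 => (h01 (Q z)).resolve_left fun h => by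
    have := hC.plus hk i z hz h hz0
    omega
  have part : ∀ i, ∀ x ∈ D i, x ≠ 0 → ∃ v ∈ D i, B v x = 1 := fun i x hx hx0 => by
    obtain ⟨v, hv, hxv⟩ := hC.nd i x hx hx0
    exact ⟨v, hv, (h01 _).resolve_left fun h => hxv (by rw [QuadraticMap.polar_comm]; exact h)⟩
  have neg_id : ∀ x : V, -x = x := fun x => by
    rw [← neg_one_smul F x, show (-1 : F) = 1 by linear_combination -h2, one_smul]
  have hsum : ∀ y : V, Q y = ((supp p y).card : F) := fun y => by
    rw [hC.quad_sum y, ← Finset.sum_subset (Finset.subset_univ (supp p y)) fun i _ hi => by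
      rw [mem_supp, not_not] at hi; rw [hi, QuadraticMap.map_zero],
      Finset.sum_congr rfl fun i hi => haniso i _ (hC.proj.mem i y) (mem_supp.1 hi)]
    simp
  have hodd : ∀ y : V, Q y = 1 → Odd (supp p y).card := fun y hy => by
    rcases Nat.even_or_odd (supp p y).card with ⟨m, hm⟩ | h
    · rw [hsum, hm] at hy
      push_cast at hy
      exact absurd (show (1 : F) = 0 by linear_combination -hy + (m : F) * h2) one_ne_zero
    · exact h
  -- change of one component
  have move : ∀ {y : V}, Mem Q M D y → ∀ {i : Fin t} {v : V}, v ∈ D i → v ≠ 0 → B v (p i y) = 1 →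
      Mem Q M D (y + v) := fun {y} hy {i v} hv hv0 hB => by
    have h := hC.mem_rf (hC.mem_block hv (haniso i v hv hv0)) hy
    rwa [rf_one (haniso i v hv hv0), hC.polar_proj hv, hB, one_smul, sub_eq_add_neg, neg_id] at h
  obtain ⟨a, ha⟩ : ∃ a, p a u ≠ 0 := by
    by_contra hc
    push Not at hc
    exact one_ne_zero (α := F) (by
      rw [← hu.1, ← hC.proj.sum u, Finset.sum_eq_zero fun i _ => hc i, QuadraticMap.map_zero])
  obtain ⟨b, c, hab, hac, hbc, hb, hc⟩ : ∃ b c, a ≠ b ∧ a ≠ c ∧ b ≠ c ∧ p b u ≠ 0 ∧ p c u ≠ 0 := by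
    obtain ⟨b, hab, hb⟩ : ∃ b, a ≠ b ∧ p b u ≠ 0 := by
      by_contra hc
      push Not at hc
      exact hnb a (hC.proj.mem_of_forall fun i hi => hc i (Ne.symm hi))
    by_contra hc
    push Not at hc
    have hs : supp p u = {a, b} := by
      ext i
      rw [mem_supp, Finset.mem_insert, Finset.mem_singleton]
      refine ⟨fun hi => ?_, fun h => ?_⟩
      · by_contra hn
        push Not at hn
        exact hi (hc b i hab (Ne.symm hn.1) (Ne.symm hn.2) hb)
      · rcases h with rfl | rfl <;> assumption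
    have := hodd u hu.1
    rw [hs, Finset.card_pair hab] at this
    exact absurd this (by decide)
  obtain ⟨va, hva, hBa⟩ := part a _ (hC.proj.mem a u) ha
  obtain ⟨vb, hvb, hBb⟩ := part b _ (hC.proj.mem b u) hb
  obtain ⟨vc, hvc, hBc⟩ := part c _ (hC.proj.mem c u) hc
  have nz : ∀ {v x : V}, B v x = 1 → v ≠ 0 := fun {v x} h e =>
    one_ne_zero (α := F) (by rw [← h, e, QuadraticMap.polar_zero_left])
  -- a vector on three summands
  have htri : Mem Q M D (va + vb + vc) := by
    have hu' : Mem Q M D (u + va + vb + vc) := by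
      refine move (move (move hu hva (nz hBa) hBa) hvb (nz hBb) ?_) hvc (nz hBc) ?_
      · rw [map_add, hC.proj.other b a (Ne.symm hab) va hva, add_zero, hBb]
      · rw [map_add, map_add, hC.proj.other c a (Ne.symm hac) va hva, hC.proj.other c b (Ne.symm hbc) vb hvb,
          add_zero, add_zero, hBc]
    have hB : B (u + va + vb + vc) u = 1 := by
      rw [QuadraticMap.polar_add_left, QuadraticMap.polar_add_left, QuadraticMap.polar_add_left, polar_diag, hu.1,
        hC.polar_proj hva, hC.polar_proj hvb, hC.polar_proj hvc, hBa, hBb, hBc]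
      linear_combination 2 * h2
    have h := hC.mem_sub hu hu' hB
    rwa [show u - (u + va + vb + vc) = -(va + vb + vc) by abel, neg_id] at h
  -- all vectors on those three summands, and on any three
  have turn : ∀ {y : V}, Mem Q M D y → ∀ {i : Fin t} {x' : V}, x' ∈ D i → x' ≠ 0 → p i y ≠ 0 →
      Mem Q M D (y - p i y + x') := fun {y} hy {i x'} hx' hx'0 hi => by
    by_cases he : x' = p i y
    · rwa [he, sub_add_cancel]
    have hw0 : x' - p i y ≠ 0 := sub_ne_zero.2 he
    have h := move hy ((D i).sub_mem hx' (hC.proj.mem i y)) hw0 (by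
      have h1 := haniso i _ ((D i).sub_mem hx' (hC.proj.mem i y)) hw0
      rw [QuadraticMap.polar_sub_left, polar_diag, haniso i _ (hC.proj.mem i y) hi]
      rw [sub_eq_add_neg, QuadraticMap.map_add (f := Q), QuadraticMap.map_neg, QuadraticMap.polar_neg_right,
        haniso i x' hx' hx'0, haniso i _ (hC.proj.mem i y) hi] at h1
      linear_combination -h1 - h2)
    rwa [show y - p i y + x' = y + (x' - p i y) by abel]
  have three : ∀ y : V, (supp p y).card = 3 → Mem Q M D y := by
    intro y hy3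
    obtain ⟨i, j, l, hij, hil, hjl, hs⟩ := Finset.card_eq_three.1 hy3
    obtain ⟨σ, hσ⟩ : ∃ σ : Equiv.Perm (Fin t), σ a = i ∧ σ b = j ∧ σ c = l := by
      obtain ⟨s₁, hs₁⟩ : ∃ s₁, s₁ = Equiv.swap a i := ⟨_, rfl⟩
      obtain ⟨s₂, hs₂⟩ : ∃ s₂, s₂ = Equiv.swap (s₁ b) j * s₁ := ⟨_, rfl⟩
      have ha1 : s₁ a = i := by rw [hs₁, Equiv.swap_apply_left]
      have ha2 : s₂ a = i := by
        rw [hs₂, Equiv.Perm.mul_apply, ha1,
          Equiv.swap_apply_of_ne_of_ne (fun e => hab (s₁.injective (ha1.trans e))) hij]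
      have hb2 : s₂ b = j := by rw [hs₂, Equiv.Perm.mul_apply, Equiv.swap_apply_left]
      refine ⟨Equiv.swap (s₂ c) l * s₂, ?_, ?_, ?_⟩
      · rw [Equiv.Perm.mul_apply, ha2,
          Equiv.swap_apply_of_ne_of_ne (fun e => hac (s₂.injective (ha2.trans e))) hil]
      · rw [Equiv.Perm.mul_apply, hb2,
          Equiv.swap_apply_of_ne_of_ne (fun e => hbc (s₂.injective (hb2.trans e))) hjl]
      · rw [Equiv.Perm.mul_apply, Equiv.swap_apply_left]
    obtain ⟨g, hg, hgσ⟩ : ∃ g ∈ M, ∀ i, ∀ z ∈ D i, (g : Mn) *ᵥ z ∈ D (σ i) := by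
      clear hσ
      induction σ using Equiv.Perm.swap_induction_on with
      | one => exact ⟨1, one_mem M, fun i z hz => by simpa using hz⟩
      | swap_mul f x z hxz ihf =>
        obtain ⟨g, hg, hgf⟩ := ihf
        obtain ⟨g', hg', hgs⟩ := hC.swap x z hxz
        exact ⟨g' * g, mul_mem hg' hg, fun i w hw => by
          rw [Units.val_mul, ← Matrix.mulVec_mulVec, Equiv.Perm.mul_apply]
          exact hgs _ _ (hgf i w hw)⟩
    obtain ⟨w, hw⟩ : ∃ w, w = (g : Mn) *ᵥ (va + vb + vc) := ⟨_, rfl⟩
    have hwM : Mem Q M D w := hw ▸ hC.mem_of_map hg hgσ htri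
    have hgne : ∀ {v : V}, v ≠ 0 → (g : Mn) *ᵥ v ≠ 0 := fun {v} hv h =>
      hv (MaxTv.gl_mulVec_injective g (h.trans (Matrix.mulVec_zero _).symm))
    have hAi : (g : Mn) *ᵥ va ∈ D i := hσ.1 ▸ hgσ a va hva
    have hBj : (g : Mn) *ᵥ vb ∈ D j := hσ.2.1 ▸ hgσ b vb hvb
    have hCl : (g : Mn) *ᵥ vc ∈ D l := hσ.2.2 ▸ hgσ c vc hvc
    rw [hw, Matrix.mulVec_add, Matrix.mulVec_add] at hwM
    have yi : p i y ≠ 0 := mem_supp.1 (by rw [hs]; simp)
    have yj : p j y ≠ 0 := mem_supp.1 (by rw [hs]; simp)
    have yl : p l y ≠ 0 := mem_supp.1 (by rw [hs]; simp)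
    have hI := hC.proj.mem i y
    have hJ := hC.proj.mem j y
    have hL := hC.proj.mem l y
    have w1 : Mem Q M D (p i y + (g : Mn) *ᵥ vb + (g : Mn) *ᵥ vc) := by
      have e : p i ((g : Mn) *ᵥ va + (g : Mn) *ᵥ vb + (g : Mn) *ᵥ vc) = (g : Mn) *ᵥ va := by
        rw [map_add, map_add, hC.proj.self i _ hAi, hC.proj.other i j hij _ hBj, hC.proj.other i l hil _ hCl,
          add_zero, add_zero]
      have h := turn hwM hI yi (by rw [e]; exact hgne (nz hBa))
      rw [e] at h
      rwa [show (g : Mn) *ᵥ va + (g : Mn) *ᵥ vb + (g : Mn) *ᵥ vc - (g : Mn) *ᵥ va + p i y =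
        p i y + (g : Mn) *ᵥ vb + (g : Mn) *ᵥ vc by abel] at h
    have w2 : Mem Q M D (p i y + p j y + (g : Mn) *ᵥ vc) := by
      have e : p j (p i y + (g : Mn) *ᵥ vb + (g : Mn) *ᵥ vc) = (g : Mn) *ᵥ vb := by
        rw [map_add, map_add, hC.proj.other j i (Ne.symm hij) _ hI, hC.proj.self j _ hBj,
          hC.proj.other j l hjl _ hCl, zero_add, add_zero]
      have h := turn w1 hJ yj (by rw [e]; exact hgne (nz hBb))
      rw [e] at h
      rwa [show p i y + (g : Mn) *ᵥ vb + (g : Mn) *ᵥ vc - (g : Mn) *ᵥ vb + p j y =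
        p i y + p j y + (g : Mn) *ᵥ vc by abel] at h
    have w3 : Mem Q M D (p i y + p j y + p l y) := by
      have e : p l (p i y + p j y + (g : Mn) *ᵥ vc) = (g : Mn) *ᵥ vc := by
        rw [map_add, map_add, hC.proj.other l i (Ne.symm hil) _ hI, hC.proj.other l j (Ne.symm hjl) _ hJ,
          hC.proj.self l _ hCl, zero_add, zero_add]
      have h := turn w2 hL yl (by rw [e]; exact hgne (nz hBc))
      rw [e] at h
      rwa [show p i y + p j y + (g : Mn) *ᵥ vc - (g : Mn) *ᵥ vc + p l y = p i y + p j y + p l y by abel] at h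
    convert w3 using 1
    conv_lhs => rw [← hC.proj.sum y, ← Finset.sum_subset (Finset.subset_univ (supp p y)) fun i _ hi => by
      rwa [mem_supp, not_not] at hi]
    rw [hs, Finset.sum_insert (by simp [hij, hil]), Finset.sum_pair hjl, add_assoc]
  -- induction on the number of summands
  suffices h : ∀ n, ∀ y, (supp p y).card = n → Q y = 1 → Mem Q M D y from fun y hy => h _ y rfl hy
  intro n
  induction n using Nat.strong_induction_on with
  | _ n ih =>
    intro y hn hy
    have ho := hodd y hy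
    rw [hn] at ho
    rcases Nat.lt_or_ge n 5 with hlt | hge
    · obtain ⟨m, hm⟩ := ho
      obtain rfl | rfl : n = 1 ∨ n = 3 := by omega
      · obtain ⟨i, hi⟩ := Finset.card_eq_one.1 hn
        exact hC.mem_block (hC.proj.mem_of_forall fun j hj => by
          by_contra h
          exact hj (Finset.mem_singleton.1 (hi ▸ mem_supp.2 h))) hy
      · exact three y hn
    obtain ⟨i, j, l, hi, hj, hl, hij, hil, hjl⟩ : ∃ i j l, i ∈ supp p y ∧ j ∈ supp p y ∧ l ∈ supp p y ∧ i ≠ j ∧
        i ≠ l ∧ j ≠ l := by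
      obtain ⟨i, hi, j, hj, hij⟩ := Finset.one_lt_card.1 (by omega : 1 < (supp p y).card)
      obtain ⟨l, hl⟩ : ∃ l, l ∈ ((supp p y).erase i).erase j := Finset.card_pos.1 (by
        rw [Finset.card_erase_of_mem (Finset.mem_erase.2 ⟨Ne.symm hij, hj⟩), Finset.card_erase_of_mem hi]
        omega)
      simp only [Finset.mem_erase] at hl
      exact ⟨i, j, l, hi, hj, hl.2.2, hij, Ne.symm hl.2.1, Ne.symm hl.1⟩
    rw [mem_supp] at hi hj hl
    obtain ⟨v, hv, hBv⟩ := part l _ (hC.proj.mem l y) hl
    obtain ⟨y₁, hy₁⟩ : ∃ y₁, y₁ = p i y + p j y + v := ⟨_, rfl⟩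
    have hI := hC.proj.mem i y
    have hJ := hC.proj.mem j y
    have p1i : p i y₁ = p i y := by
      rw [hy₁, map_add, map_add, hC.proj.self i _ hI, hC.proj.other i j hij _ hJ, hC.proj.other i l hil v hv,
        add_zero, add_zero]
    have p1j : p j y₁ = p j y := by
      rw [hy₁, map_add, map_add, hC.proj.other j i (Ne.symm hij) _ hI, hC.proj.self j _ hJ,
        hC.proj.other j l hjl v hv, zero_add, add_zero]
    have p1l : p l y₁ = v := by
      rw [hy₁, map_add, map_add, hC.proj.other l i (Ne.symm hil) _ hI, hC.proj.other l j (Ne.symm hjl) _ hJ,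
        hC.proj.self l v hv, zero_add, zero_add]
    have p1o : ∀ o, o ≠ i → o ≠ j → o ≠ l → p o y₁ = 0 := fun o h1 h2 h3 => by
      rw [hy₁, map_add, map_add, hC.proj.other o i h1 _ hI, hC.proj.other o j h2 _ hJ,
        hC.proj.other o l h3 v hv, add_zero, add_zero]
    have hs1 : supp p y₁ = {i, j, l} := by
      ext o
      simp only [mem_supp, Finset.mem_insert, Finset.mem_singleton]
      refine ⟨fun h => ?_, fun h => ?_⟩
      · by_contra hn
        push Not at hn
        exact h (p1o o hn.1 hn.2.1 hn.2.2)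
      · rcases h with rfl | rfl | rfl
        · rwa [p1i]
        · rwa [p1j]
        · rw [p1l]; exact nz hBv
    have hm1 : Mem Q M D y₁ := three y₁ (by rw [hs1]; simp [hij, hil, hjl])
    obtain ⟨y₂, hy₂⟩ : ∃ y₂, y₂ = y - y₁ := ⟨_, rfl⟩
    have hB1 : B y₁ y = 1 := by
      rw [hy₁, QuadraticMap.polar_add_left, QuadraticMap.polar_add_left, hC.polar_proj hI, hC.polar_proj hJ,
        hC.polar_proj hv, polar_diag, polar_diag, h2, zero_mul, zero_mul, zero_add, zero_add, hBv]
    have hQ2 : Q y₂ = 1 := by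
      rw [hy₂, sub_eq_add_neg, QuadraticMap.map_add (f := Q), QuadraticMap.map_neg, QuadraticMap.polar_neg_right,
        hy, hm1.1, QuadraticMap.polar_comm, hB1]
      ring
    have hsub : supp p y₂ ⊆ ((supp p y).erase i).erase j := fun o ho => by
      rw [mem_supp] at ho
      simp only [Finset.mem_erase, mem_supp]
      have hoi : o ≠ i := fun e => ho (by rw [e, hy₂, map_sub, p1i, sub_self])
      have hoj : o ≠ j := fun e => ho (by rw [e, hy₂, map_sub, p1j, sub_self])
      refine ⟨hoj, hoi, fun e => ?_⟩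
      rcases eq_or_ne o l with rfl | hol
      · exact hl e
      · exact ho (by rw [hy₂, map_sub, e, p1o o hoi hoj hol, sub_zero])
    have hm2 : Mem Q M D y₂ := ih _ (by
      have h1 := Finset.card_le_card hsub
      rw [Finset.card_erase_of_mem (Finset.mem_erase.2 ⟨Ne.symm hij, mem_supp.2 hj⟩),
        Finset.card_erase_of_mem (mem_supp.2 hi)] at h1
      omega) _ rfl hQ2
    have hB12 : B y₂ y₁ = 1 := by
      rw [hy₂, QuadraticMap.polar_sub_left, QuadraticMap.polar_comm _ y y₁, hB1, polar_diag, h2, zero_mul, sub_zero]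
    have h := hC.mem_sub hm1 hm2 hB12
    rw [sub_eq_add_neg, neg_id, hy₂, add_sub_cancel] at h
    exact h

end Ctx

end Cfsg.Agent.Classical.OrthRef
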