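import Cfsg.Agent.Lib.Classical.MaxOrthRefArith
import Mathlib.Algebra.CharP.Basic
import Mathlib.FieldTheory.Finite.GaloisField
import Mathlib.Tactic.NormNum.Prime

/-!
A set of field values of one square class, closed under `α ↦ 1 - 4 α (1 - α) z` for the `z` of prescribed
classes, exists only over the fields of order 5, 7, 9 and 11 and is explicit there.
-/

set_option autoImplicit false
set_option linter.unusedSectionVars false

namespace Cfsg.Agent.Classical.OrthRef

variable {F : Type*} [Field F] [Fintype F] [DecidableEq F]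

local notation "χ" => quadraticChar F

/-- The admissible parameters. -/
def par (κ : ℤ) : Finset F :=
  Finset.univ.filter fun z => z ≠ 0 ∧ χ z = κ ∧ (z = 1 ∨ χ (1 - z) = 1)

theorem mem_par {κ : ℤ} {z : F} : z ∈ par (F := F) κ ↔ z ≠ 0 ∧ χ z = κ ∧ (z = 1 ∨ χ (1 - z) = 1) := by
  simp [par]

theorem par_eq {κ : ℤ} : par (F := F) κ = if κ = 1 then insert 1 (cls κ 1) else cls κ 1 := by
  ext z
  rw [mem_par]
  split_ifs with hk <;>
    simp only [Finset.mem_insert, mem_cls]
  · constructor
    · rintro ⟨h0, h1, h | h⟩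
      · exact Or.inl h
      · exact (em (z = 1)).imp_right fun hz => ⟨h0, hz, h1, h⟩
    · rintro (rfl | ⟨h0, h1, h, h'⟩)
      · exact ⟨one_ne_zero, by rw [map_one, hk], Or.inl rfl⟩
      · exact ⟨h0, h, Or.inr h'⟩
  · constructor
    · rintro ⟨h0, h1, h⟩
      have hz : z ≠ 1 := fun e => hk (by rw [← h1, e, map_one])
      exact ⟨h0, hz, h1, h.resolve_left hz⟩
    · rintro ⟨h0, h1, h, h'⟩
      exact ⟨h0, h, Or.inr h'⟩

variable (h2 : (2 : F) ≠ 0)
include h2

theorem two_roots {Γ I : Finset F} (h : ∀ X ∈ I, 4 * X * (1 - X) ∈ Γ) : I.card ≤ 2 * Γ.card := by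
  classical
  refine (Finset.card_le_mul_card_image (f := fun X => 4 * X * (1 - X)) I 2 fun b _ => ?_).trans
    (Nat.mul_le_mul_left _ (Finset.card_le_card fun b hb => ?_))
  · rcases (I.filter fun X => 4 * X * (1 - X) = b).eq_empty_or_nonempty with e | ⟨X₀, hX₀⟩
    · rw [e]; simp
    · refine (Finset.card_le_card (t := {X₀, 1 - X₀}) fun X hX => ?_).trans Finset.card_le_two
      have e := ((Finset.mem_filter.1 hX).2).trans ((Finset.mem_filter.1 hX₀).2).symm
      have e' : (X - X₀) * (1 - X - X₀) * 4 = 0 := by linear_combination e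
      have h4 : (4 : F) ≠ 0 := by rw [show (4 : F) = 2 * 2 by norm_num]; exact mul_ne_zero h2 h2
      rcases mul_eq_zero.1 ((mul_eq_zero.1 e').resolve_right h4) with e'' | e''
      · simp [sub_eq_zero.1 e'']
      · simp [show X = 1 - X₀ by linear_combination -e'']
  · obtain ⟨X, hX, rfl⟩ := Finset.mem_image.1 hb
    exact h X hX

theorem one_root {r κ : ℤ} (hr : r ≠ κ) {γ : F} {I : Finset F} (hI : ∀ X ∈ I, 4 * X * (1 - X) = γ)
    (hcl : ∀ X ∈ I, χ X = r ∧ χ (1 - X) = κ) : I.card ≤ 1 := by
  refine Finset.card_le_one.2 fun X hX Y hY => ?_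
  have e' : (X - Y) * (1 - X - Y) * 4 = 0 := by linear_combination (hI X hX).trans (hI Y hY).symm
  have h4 : (4 : F) ≠ 0 := by rw [show (4 : F) = 2 * 2 by norm_num]; exact mul_ne_zero h2 h2
  rcases mul_eq_zero.1 ((mul_eq_zero.1 e').resolve_right h4) with e | e
  · exact sub_eq_zero.1 e
  · have h := (hcl X hX).2
    rw [show 1 - X = Y by linear_combination e, (hcl Y hY).1] at h
    exact absurd h hr

omit h2 in
theorem prime_eq {p : ℕ} (hp : p.Prime) (hq : Fintype.card F = p) : Nonempty (ZMod p ≃+* F) :=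
  ⟨ZMod.ringEquivOfPrime F hp hq⟩

omit h2 in
theorem key_five : ∀ a : ZMod 5, (4 * a * (1 - a) = -3 → ¬ IsSquare a → a = 2) ∧ 4 * a * (1 - a) ≠ -1 := by
  decide

omit h2 in
theorem key_seven : ∀ a : ZMod 7, 4 * a * (1 - a) ≠ 5 ∧
    ((1 + 4 * a * (1 - a)) * (1 + 4 * a * (1 - a)) = 64 * (4 * a * (1 - a)) → a = 3 ∨ a = 5) := by decide

omit h2 in
theorem key_eleven : ∀ a : ZMod 11,
    (1 + 4 * a * (1 - a)) * (1 + 4 * a * (1 - a)) = 64 * (4 * a * (1 - a)) → a = 2 ∨ a = 10 := by decide

omit h2 in
theorem key_nineteen : ∀ a : ZMod 19,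
    (1 + 4 * a * (1 - a)) * (1 + 4 * a * (1 - a)) ≠ 64 * (4 * a * (1 - a)) := by decide

/-- The possible values: the field and the value. -/
def Small (α : F) : Prop :=
  (Fintype.card F = 5 ∧ α = 2) ∨ (Fintype.card F = 7 ∧ (α = 3 ∨ α = 5)) ∨
    (Fintype.card F = 9 ∧ α * α = α + 1) ∨ (Fintype.card F = 11 ∧ (α = 2 ∨ α = 10))

/-- The only closed sets of values. -/
theorem values {κ : ℤ} (hκ : κ = 1 ∨ κ = -1) (h5 : 5 ≤ Fintype.card F) (hplus : κ * χ (-1) = 1 → 7 ≤ Fintype.card F)
    {S : F → Prop} (hS : ∀ α, S α → χ α = κ)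
    (hclose : ∀ α, S α → α ≠ 1 → ∀ z ∈ par κ, S (1 - 4 * α * (1 - α) * z)) {α : F} (hα : S α) (hα1 : α ≠ 1) :
    κ = -1 ∧ Small α := by
  classical
  have h4 : (4 : F) ≠ 0 := by rw [show (4 : F) = 2 * 2 by norm_num]; exact mul_ne_zero h2 h2
  have hκ2 : κ * κ = 1 := by rcases hκ with rfl | rfl <;> rfl
  have ha0 : ∀ α, S α → α ≠ 0 := fun α hα e => by
    have := hS α hα
    rw [e, MulChar.map_zero] at this
    rcases hκ with rfl | rfl <;> norm_num at this
  -- the image of the parameters
  let Im : F → Finset F := fun α => (par κ).image fun z => 4 * α * (1 - α) * z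
  have hg0 : ∀ α, S α → α ≠ 1 → 4 * α * (1 - α) ≠ 0 := fun α hα h1 =>
    mul_ne_zero (mul_ne_zero h4 (ha0 α hα)) (sub_ne_zero.2 (Ne.symm h1))
  have himg : ∀ α, S α → α ≠ 1 → Im α ⊆ cls (χ (1 - α)) κ ∧ (Im α).card = (par (F := F) κ).card := by
    intro α hα h1
    refine ⟨fun X hX => ?_, Finset.card_image_of_injective _ (mul_right_injective₀ (hg0 α hα h1))⟩
    obtain ⟨z, hz, rfl⟩ := Finset.mem_image.1 hX
    have hnew := hclose α hα h1 z hz
    obtain ⟨hz0, hzc, -⟩ := mem_par.1 hz
    refine mem_cls.2 ⟨mul_ne_zero (hg0 α hα h1) hz0, fun e => ha0 _ hnew (by rw [e, sub_self]), ?_, hS _ hnew⟩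
    rw [map_mul, map_mul, hzc, show (4 : F) * α = 2 * 2 * α by norm_num, chi_sq_mul h2, hS α hα,
      show κ * χ (1 - α) * κ = κ * κ * χ (1 - α) by ring, hκ2, one_mul]
  -- sizes and sums
  have hε : χ (-1 : F) = 1 ∨ χ (-1 : F) = -1 := chi_cases (by norm_num)
  have hA : 4 * ((par (F := F) κ).card : ℤ) = Fintype.card F - 1 + κ - κ * χ (-1) := by
    have := card_cls (F := F) h2 (r := κ) (k := 1) hκ (Or.inl rfl)
    rw [par_eq]
    split_ifs with hk
    · rw [Finset.card_insert_of_notMem (by simp [mem_cls])]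
      push_cast
      subst hk
      linear_combination this
    · rcases hκ with rfl | rfl
      · exact absurd rfl hk
      · linear_combination this
  have hAsum : 8 * ∑ z ∈ par (F := F) κ, z = -((κ : F) * (χ (-1) : F)) + 2 + 2 * (κ : F) := by
    have := sum_cls (F := F) h2 (r := κ) (k := 1) hκ (Or.inl rfl) h5
    rw [par_eq]
    split_ifs with hk
    · rw [Finset.sum_insert (by simp [mem_cls])]
      subst hk
      push_cast at this ⊢
      linear_combination this
    · rcases hκ with rfl | rfl
      · exact absurd rfl hk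
      · push_cast at this ⊢
        linear_combination this
  have hB : ∀ r : ℤ, (r = 1 ∨ r = -1) →
      4 * ((cls (F := F) r κ).card : ℤ) = Fintype.card F - 2 - κ - r - r * κ * χ (-1) ∧
      8 * ∑ z ∈ cls (F := F) r κ, z = -((r : F) * κ * (χ (-1) : F)) - 2 * (1 + (r : F)) := fun r hr =>
    ⟨card_cls h2 hr hκ, sum_cls h2 hr hκ h5⟩
  have hr : ∀ α, S α → α ≠ 1 → χ (1 - α) = 1 ∨ χ (1 - α) = -1 := fun α _ h1 =>
    chi_cases (sub_ne_zero.2 (Ne.symm h1))
  -- equal sizes give the product
  have hequal : ∀ α, S α → α ≠ 1 → (cls (F := F) (χ (1 - α)) κ).card = (par (F := F) κ).card →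
      4 * α * (1 - α) * ∑ z ∈ par κ, z = ∑ z ∈ cls (χ (1 - α)) κ, z := fun α hα h1 he => by
    obtain ⟨hsub, hc⟩ := himg α hα h1
    rw [← Finset.eq_of_subset_of_card_le hsub (by omega),
      Finset.sum_image fun x _ y _ e => mul_left_cancel₀ (hg0 α hα h1) e, Finset.mul_sum]
  have hchild : ∀ X ∈ Im α, S (1 - X) ∧ 1 - X ≠ 1 ∧ χ (1 - (1 - X)) = χ (1 - α) := fun X hX => by
    have h := mem_cls.1 ((himg α hα hα1).1 hX)
    obtain ⟨z, hz, rfl⟩ := Finset.mem_image.1 hX
    exact ⟨hclose α hα hα1 z hz, fun e => h.1 (by linear_combination -e), by rw [sub_sub_cancel]; exact h.2.2.1⟩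
  obtain ⟨r, hrdef⟩ : ∃ r, r = χ (1 - α) := ⟨_, rfl⟩
  have hr' : r = 1 ∨ r = -1 := hrdef ▸ hr α hα hα1
  obtain ⟨hsub, hcard⟩ := himg α hα hα1
  have hle : ((par (F := F) κ).card : ℤ) ≤ (cls (F := F) r κ).card := by
    rw [← hcard, hrdef]; exact_mod_cast Finset.card_le_card hsub
  obtain ⟨hBc, hBs⟩ := hB r hr'
  have hclsI : ∀ X ∈ Im α, χ X = r ∧ χ (1 - X) = κ := fun X hX => by
    have h := mem_cls.1 (hsub hX)
    exact ⟨h.2.2.1.trans hrdef.symm, h.2.2.2⟩
  -- a product shared by all children
  have share : ∀ {γ : F}, (∀ β, S β → β ≠ 1 → χ (1 - β) = r → 4 * β * (1 - β) = γ) →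
      ∀ X ∈ Im α, 4 * X * (1 - X) = γ := fun {γ} h X hX => by
    obtain ⟨h1, h2', h3⟩ := hchild X hX
    linear_combination h (1 - X) h1 h2' (h3.trans hrdef.symm)
  have hsum8 : ∀ β, S β → β ≠ 1 → χ (1 - β) = r → (cls (F := F) r κ).card = (par (F := F) κ).card →
      4 * β * (1 - β) * (-((κ : F) * (χ (-1) : F)) + 2 + 2 * (κ : F)) =
        -((r : F) * κ * (χ (-1) : F)) - 2 * (1 + (r : F)) := fun β hβ h1 hrβ he => by
    have := hequal β hβ h1 (by rw [hrβ]; exact he)
    rw [← hAsum, ← hBs, ← hrβ, ← this]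
    ring
  have hq : (Fintype.card F : ℤ) = (Fintype.card F : ℕ) := rfl
  have h8 : (8 : F) ≠ 0 := by rw [show (8 : F) = 2 * 4 by norm_num]; exact mul_ne_zero h2 h4
  have hodd : Fintype.card F % 2 = 1 := FiniteField.odd_card_of_char_ne_two (not_char_two h2)
  have hmod : χ (-1 : F) = 1 → Fintype.card F % 4 = 1 := fun h => by
    have := FiniteField.isSquare_neg_one_iff.1 ((chi_one_iff (by norm_num)).1 h)
    omega
  have hmod' : χ (-1 : F) = -1 → Fintype.card F % 4 = 3 := fun h => by
    have h' := chi_neg_one_iff.1 h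
    rw [FiniteField.isSquare_neg_one_iff] at h'
    omega
  rcases hκ with rfl | rfl
  · -- squares
    exfalso
    rcases hε with he | he <;> rw [he] at hA hBc
    · rcases hr' with rfl | rfl
      · omega
      · have hcardeq : (cls (F := F) (-1) 1).card = (par (F := F) 1).card := by omega
        have hroot := share (γ := 1 / 3) fun β hβ h1 hrβ => by
          have := hsum8 β hβ h1 hrβ hcardeq
          rw [he] at this
          push_cast at this
          have h3 : (3 : F) ≠ 0 := fun h => by
            rw [show (4 * β * (1 - β) * (-(1 * 1) + 2 + 2 * 1)) = 4 * β * (1 - β) * 3 by ring, h, mul_zero] at this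
            exact one_ne_zero (α := F) (by linear_combination -this)
          field_simp
          linear_combination this
        have h1 := one_root h2 (r := -1) (κ := 1) (by norm_num) hroot hclsI
        rw [hcard] at h1
        have := hplus (by rw [he]; norm_num)
        have := hmod he
        omega
    · rcases hr' with rfl | rfl <;> omega
  refine ⟨rfl, ?_⟩
  rcases hε with he | he <;> rw [he] at hA hBc
  · -- minus one is a square
    have hcardeq : (cls (F := F) r (-1)).card = (par (F := F) (-1)).card := by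
      rcases hr' with rfl | rfl <;> omega
    have hγ : ∀ β, S β → β ≠ 1 → χ (1 - β) = r → 4 * β * (1 - β) = -2 - (r : F) := fun β hβ h1 hrβ => by
      have := hsum8 β hβ h1 hrβ hcardeq
      rw [he] at this
      push_cast at this
      linear_combination this
    have hαγ := hγ α hα hα1 hrdef.symm
    have hroot := share hγ
    have hm := hmod he
    rcases hr' with rfl | rfl
    · have h1 := one_root h2 (r := 1) (κ := -1) (by norm_num) hroot hclsI
      rw [hcard] at h1
      have h5' : Fintype.card F = 5 := by omega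
      left
      refine ⟨h5', ?_⟩
      obtain ⟨e⟩ := prime_eq (F := F) (p := 5) (by norm_num) h5'
      obtain ⟨a, rfl⟩ := e.surjective α
      push_cast at hαγ
      have he' : e (4 * a * (1 - a)) = e (-3) := by
        simp only [map_mul, map_sub, map_one, map_neg, map_ofNat]; linear_combination hαγ
      rw [(key_five a).1 (e.injective he') (fun h => chi_neg_one_iff.1 (hS _ hα) (h.map e)), map_ofNat]
    · have h2' := two_roots h2 (Γ := {-2 - ((-1 : ℤ) : F)}) fun X hX => Finset.mem_singleton.2 (hroot X hX)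
      rw [hcard, Finset.card_singleton] at h2'
      rcases (show Fintype.card F = 5 ∨ Fintype.card F = 9 by omega) with h5' | h9
      · obtain ⟨e⟩ := prime_eq (F := F) (p := 5) (by norm_num) h5'
        obtain ⟨a, rfl⟩ := e.surjective α
        push_cast at hαγ
        have he' : e (4 * a * (1 - a)) = e (-1) := by
          simp only [map_mul, map_sub, map_one, map_neg, map_ofNat]; linear_combination hαγ
        exact absurd (e.injective he') (key_five a).2
      · right; right; left
        refine ⟨h9, ?_⟩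
        have h3 : (3 : F) = 0 := by
          have := FiniteField.cast_card_eq_zero F
          rw [h9] at this
          exact mul_self_eq_zero.1 (show (3 : F) * 3 = 0 by rw [show (3 : F) * 3 = ((9 : ℕ) : F) by norm_num]; exact this)
        push_cast at hαγ
        linear_combination -hαγ + (α - α * α) * h3
  · -- minus one is a non-square
    have h7 := hplus (by rw [he]; norm_num)
    have hm := hmod' he
    rcases hr' with rfl | rfl
    · have hcardeq : (cls (F := F) 1 (-1)).card = (par (F := F) (-1)).card := by omega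
      have hγ : ∀ β, S β → β ≠ 1 → χ (1 - β) = 1 → 4 * β * (1 - β) = 5 := fun β hβ h1 hrβ => by
        have := hsum8 β hβ h1 hrβ hcardeq
        rw [he] at this
        push_cast at this
        linear_combination -this
      have h1 := one_root h2 (r := 1) (κ := -1) (by norm_num) (share hγ) hclsI
      rw [hcard] at h1
      have h7' : Fintype.card F = 7 := by omega
      obtain ⟨e⟩ := prime_eq (F := F) (p := 7) (by norm_num) h7'
      obtain ⟨a, rfl⟩ := e.surjective α
      have he' : e (4 * a * (1 - a)) = e 5 := by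
        simp only [map_mul, map_sub, map_one, map_ofNat]; linear_combination hγ _ hα hα1 hrdef.symm
      exact absurd (e.injective he') (key_seven a).1
    · -- the two closed classes differ by one element
      have hinv : ∀ {z : F}, z ≠ 0 → z ≠ 1 → χ z = -1 → χ (1 - z⁻¹) = χ (1 - z) := fun {z} h0 h1 hz => by
        have e : 1 - z = -1 * z * (1 - z⁻¹) := by field_simp; ring
        rw [e, map_mul, map_mul, he, hz]; ring
      have hchi : ∀ z : F, χ z⁻¹ = χ z := fun z => by
        rcases eq_or_ne z 0 with rfl | h0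
        · rw [inv_zero]
        rw [show z⁻¹ = z⁻¹ * z⁻¹ * z by field_simp, chi_sq_mul (inv_ne_zero h0)]
      have hclsinv : ∀ k : ℤ, ∀ z ∈ cls (F := F) (-1) k, z⁻¹ ∈ cls (F := F) (-1) k := fun k z hz => by
        obtain ⟨h0, h1, ha, hb⟩ := mem_cls.1 hz
        exact mem_cls.2 ⟨inv_ne_zero h0, fun e => h1 (inv_eq_one.1 e), by rw [hchi, ha], by rw [hinv h0 h1 ha, hb]⟩
      have hcardsucc : ((cls (F := F) (-1) (-1)).card : ℤ) = (par (F := F) (-1)).card + 1 := by omega
      have hquad : ∀ β, S β → β ≠ 1 → χ (1 - β) = -1 →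
          (1 + 4 * β * (1 - β)) * (1 + 4 * β * (1 - β)) = 64 * (4 * β * (1 - β)) := by
        intro β hβ hβ1 hrβ
        obtain ⟨hsubβ, hcβ⟩ := himg β hβ hβ1
        rw [hrβ] at hsubβ
        have hγ0 := hg0 β hβ hβ1
        obtain ⟨γ, hγ⟩ : ∃ γ, γ = 4 * β * (1 - β) := ⟨_, rfl⟩
        rw [← hγ] at hγ0 ⊢
        have hIm : Im β = (par (-1)).image (γ * ·) := by simp only [Im, hγ]
        -- the missing element
        obtain ⟨b, hb⟩ : ∃ b, cls (F := F) (-1) (-1) \ Im β = {b} := Finset.card_eq_one.1 (by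
          rw [Finset.card_sdiff_of_subset hsubβ]; omega)
        have hsumB : ∑ z ∈ cls (F := F) (-1) (-1), z = b + γ * ∑ z ∈ par (-1), z := by
          rw [← Finset.sum_sdiff hsubβ, hb, Finset.sum_singleton, hIm,
            Finset.sum_image fun x _ y _ e => mul_left_cancel₀ hγ0 e, ← Finset.mul_sum]
        have hbmem : b ∈ cls (F := F) (-1) (-1) := (Finset.mem_sdiff.1 (hb ▸ Finset.mem_singleton_self b)).1
        have hb0 : b ≠ 0 := (mem_cls.1 hbmem).1
        -- inversion fixes both classes
        have hinvsum : ∀ {s : Finset F}, (∀ z ∈ s, z⁻¹ ∈ s) → ∑ z ∈ s, z⁻¹ = ∑ z ∈ s, z := fun {s} h =>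
          Finset.sum_nbij' (fun z => z⁻¹) (fun z => z⁻¹) h h (fun z _ => inv_inv z) (fun z _ => inv_inv z)
            (fun z _ => rfl)
        have hparinv : ∀ z ∈ par (F := F) (-1), z⁻¹ ∈ par (F := F) (-1) := fun z hz => by
          rw [par_eq, if_neg (by norm_num)] at hz ⊢
          exact hclsinv 1 z hz
        have hsumB' : ∑ z ∈ cls (F := F) (-1) (-1), z = b⁻¹ + γ⁻¹ * ∑ z ∈ par (-1), z := by
          rw [← hinvsum (hclsinv (-1)), ← Finset.sum_sdiff hsubβ, hb, Finset.sum_singleton, hIm,
            Finset.sum_image fun x _ y _ e => mul_left_cancel₀ hγ0 e]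
          conv_rhs => rw [← hinvsum hparinv, Finset.mul_sum]
          simp only [mul_inv]
        have hA8 := hAsum
        have hB8 := hBs
        rw [he] at hA8 hB8
        push_cast at hA8 hB8
        have e1 : 8 * b = 1 + γ := by linear_combination hB8 - 8 * hsumB - γ * hA8
        have e2 : 8 * γ = (1 + γ) * b := by
          have h3 : 8 * (γ * b * b⁻¹) = γ * b + b := by
            linear_combination γ * b * hB8 - 8 * γ * b * hsumB' - b * hA8 +
              (-8 * b * ∑ z ∈ par (F := F) (-1), z) * mul_inv_cancel₀ hγ0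
          rw [mul_inv_cancel_right₀ hb0] at h3
          linear_combination h3
        linear_combination -(1 + γ) * e1 - 8 * e2
      obtain ⟨Γ, hΓ⟩ : ∃ Γ : Finset F, Γ = Finset.univ.filter fun γ => (1 + γ) * (1 + γ) = 64 * γ := ⟨_, rfl⟩
      have hΓc : Γ.card ≤ 2 := by
        rcases Γ.eq_empty_or_nonempty with e | ⟨γ₀, hγ₀⟩
        · rw [e]; simp
        · refine (Finset.card_le_card (t := {γ₀, 62 - γ₀}) fun γ hγ => ?_).trans Finset.card_le_two
          rw [hΓ, Finset.mem_filter] at hγ₀ hγ
          have e' : (γ - γ₀) * (γ + γ₀ - 62) = 0 := by linear_combination hγ.2 - hγ₀.2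
          rcases mul_eq_zero.1 e' with e | e
          · simp [sub_eq_zero.1 e]
          · simp [show γ = 62 - γ₀ by linear_combination e]
      have hI4 := two_roots h2 (Γ := Γ) (I := Im α) fun X hX => by
        obtain ⟨h1, h2', h3⟩ := hchild X hX
        rw [hΓ]
        refine Finset.mem_filter.2 ⟨Finset.mem_univ _, ?_⟩
        have := hquad (1 - X) h1 h2' (h3.trans hrdef.symm)
        linear_combination this
      rw [hcard] at hI4
      have hα' := hquad α hα hα1 hrdef.symm
      have hcases : Fintype.card F = 7 ∨ Fintype.card F = 11 ∨ Fintype.card F = 15 ∨ Fintype.card F = 19 := by omega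
      rcases hcases with hq' | hq' | hq' | hq'
      · obtain ⟨e⟩ := prime_eq (F := F) (p := 7) (by norm_num) hq'
        obtain ⟨a, rfl⟩ := e.surjective α
        have he' : e ((1 + 4 * a * (1 - a)) * (1 + 4 * a * (1 - a))) = e (64 * (4 * a * (1 - a))) := by
          simp only [map_mul, map_sub, map_add, map_one, map_ofNat]; linear_combination hα'
        rcases (key_seven a).2 (e.injective he') with rfl | rfl <;>
          simp [Small, hq', map_ofNat]
      · obtain ⟨e⟩ := prime_eq (F := F) (p := 11) (by norm_num) hq'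
        obtain ⟨a, rfl⟩ := e.surjective α
        have he' : e ((1 + 4 * a * (1 - a)) * (1 + 4 * a * (1 - a))) = e (64 * (4 * a * (1 - a))) := by
          simp only [map_mul, map_sub, map_add, map_one, map_ofNat]; linear_combination hα'
        rcases key_eleven a (e.injective he') with rfl | rfl <;>
          simp [Small, hq', map_ofNat]
      · exfalso
        have h15 := FiniteField.isPrimePow_card F
        rw [hq'] at h15
        rw [isPrimePow_nat_iff_bounded] at h15
        revert h15
        decide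
      · obtain ⟨e⟩ := prime_eq (F := F) (p := 19) (by norm_num) hq'
        obtain ⟨a, rfl⟩ := e.surjective α
        have he' : e ((1 + 4 * a * (1 - a)) * (1 + 4 * a * (1 - a))) = e (64 * (4 * a * (1 - a))) := by
          simp only [map_mul, map_sub, map_add, map_one, map_ofNat]; linear_combination hα'
        exact absurd (e.injective he') (key_nineteen a)

end Cfsg.Agent.Classical.OrthRef
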