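import Cfsg.Agent.Lib.Classical.MaxOrthRefTwo
import Cfsg.Agent.Lib.Classical.MaxOrthRefValues

/-!
Planes in odd characteristic: some spread member has a perpendicular block vector of non-square value.
-/

set_option autoImplicit false
set_option linter.unusedSectionVars false
set_option quotPrecheck false

namespace Cfsg.Agent.Classical.OrthRef

open Matrix Module
open MaxTv (IsProj)

variable {F : Type*} [Field F] [Fintype F] [DecidableEq F] {ι : Type} [Fintype ι] [DecidableEq ι]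
  {Q : QuadraticForm F (ι → F)}

local notation "V" => (ι → F)
local notation "B" => QuadraticMap.polar ⇑Q
local notation "χ" => quadraticChar F

/-- No member has a perpendicular block vector of non-square value. -/
def NoWit (Q : QuadraticForm F (ι → F)) (M : Subgroup (GL ι F)) {t : ℕ} (D : Fin t → Submodule F (ι → F)) : Prop :=
  ∀ u, Mem Q M D u → (∀ b, u ∉ D b) → ∀ e, ∀ w ∈ D e, QuadraticMap.polar ⇑Q w u = 0 → Q w ≠ 0 → IsSquare (Q w)

namespace Ctx

variable {M : Subgroup (GL ι F)} {t k : ℕ} {D : Fin t → Submodule F (ι → F)}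
  {p : Fin t → ((ι → F) →ₗ[F] (ι → F))} (hC : Ctx Q M D p k) (hk : k = 2) (h2 : (2 : F) ≠ 0)
include hC hk h2

/-- The class of the discriminant of a plane. -/
theorem disc {a : Fin t} {x n x' n' : V} (hx : x ∈ D a) (hn : n ∈ D a) (hx' : x' ∈ D a) (hn' : n' ∈ D a)
    (hxn : B x n = 0) (hxn' : B x' n' = 0) (hQx : Q x ≠ 0) (hQn : Q n ≠ 0) (hQx' : Q x' ≠ 0) (hQn' : Q n' ≠ 0) :
    IsSquare (Q x * Q n * (Q x' * Q n')) := by
  have hn0 : n ≠ 0 := fun e => hQn (by rw [e, QuadraticMap.map_zero])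
  have hx0 : x ≠ 0 := fun e => hQx (by rw [e, QuadraticMap.map_zero])
  have hind : LinearIndependent F ![x, n] := ind_pair hC hx0 fun c e => by
    rw [e, QuadraticMap.polar_smul_right, polar_diag, smul_eq_mul] at hxn
    rcases mul_eq_zero.1 hxn with h | h
    · exact hn0 (by rw [e, h, zero_smul])
    · exact mul_ne_zero h2 hQx h
  have hspan : Submodule.span F {x, n} = D a := by
    refine Submodule.eq_of_le_of_finrank_le (Submodule.span_le.2 ?_) ?_
    · rintro w (rfl | rfl) <;> assumption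
    · have := finrank_span_eq_card hind
      rw [Matrix.range_cons_cons_empty, Fintype.card_fin] at this
      rw [this, hC.dim, hk]
  obtain ⟨r, s, hrs⟩ := Submodule.mem_span_pair.1 (hspan.symm ▸ hx' : x' ∈ Submodule.span F {x, n})
  obtain ⟨w, hw⟩ : ∃ w, w = (-(s * Q n)) • x + (r * Q x) • n := ⟨_, rfl⟩
  have hwx : B x' w = 0 := by
    rw [← hrs, hw]
    simp [QuadraticMap.polar_add_left, QuadraticMap.polar_add_right, QuadraticMap.polar_smul_left,
      QuadraticMap.polar_smul_right, polar_diag, hxn, QuadraticMap.polar_comm _ n x]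
    ring
  have hQw : Q w = Q x * Q n * Q x' := by
    rw [← hrs, hw, quad_add_smul', quad_add_smul', QuadraticMap.map_smul, QuadraticMap.map_smul,
      QuadraticMap.polar_smul_left, QuadraticMap.polar_smul_left, hxn]
    simp only [smul_eq_mul]
    ring
  have hw0 : Q w ≠ 0 := hQw ▸ mul_ne_zero (mul_ne_zero hQx hQn) hQx'
  have hwD : w ∈ D a := hw ▸ (D a).add_mem ((D a).smul_mem _ hx) ((D a).smul_mem _ hn)
  obtain ⟨c, hc⟩ : ∃ c : F, n' = c • w := by
    by_contra hne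
    push Not at hne
    exact hQx' (by
      rw [perp_pair (Q := Q) (by rw [hC.dim, hk]) (hC.nd a) hwD hn'
        (ind_pair hC (fun e => hw0 (by rw [e, QuadraticMap.map_zero])) hne) hx'
        (by rw [QuadraticMap.polar_comm, hwx]) (by rw [QuadraticMap.polar_comm, hxn']), QuadraticMap.map_zero])
  refine ⟨c * (Q x * Q n * Q x'), ?_⟩
  rw [hc, QuadraticMap.map_smul, smul_eq_mul, hQw]
  ring

variable (hno : NoWit Q M D)
include hno

theorem comp_ne {u : V} (hu : Mem Q M D u) (hnb : ∀ b, u ∉ D b) (a : Fin t) : p a u ≠ 0 := fun h => by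
  obtain ⟨r, hr⟩ := FiniteField.exists_nonsquare (F := F) (not_char_two h2)
  obtain ⟨w, hw, hQw⟩ := hC.repr_val a r
  exact hr (hQw ▸ hno u hu hnb a w hw (by rw [hC.polar_proj hw, h, QuadraticMap.polar_zero_right])
    (hQw ▸ fun e => hr (e ▸ IsSquare.zero)))

/-- The move by a block unit vector. -/
theorem move_unit {u : V} (hu : Mem Q M D u) (hnb : ∀ b, u ∉ D b) {a : Fin t} {v : V} (hv : v ∈ D a)
    (hQv : Q v = 1) (hne : B u v ≠ 0) :
    Mem Q M D (v - B u v • u) ∧ (∀ b, v - B u v • u ∉ D b) ∧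
      p a (v - B u v • u) = v - B u v • p a u ∧
      ∀ i, i ≠ a → p i (v - B u v • u) = -(B u v • p i u) := by
  have hm := hC.mem_rf hu (hC.mem_block hv hQv)
  rw [rf_one hu.1] at hm
  have hother : ∀ i, i ≠ a → p i (v - B u v • u) = -(B u v • p i u) := fun i hi => by
    rw [map_sub, map_smul, hC.proj.other i a hi v hv, zero_sub]
  refine ⟨hm, fun b hb => ?_, by rw [map_sub, map_smul, hC.proj.self a v hv], hother⟩
  have ht : 5 ≤ t := hC.shape.elim (fun h => h.2) fun h => by omega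
  obtain ⟨i, hi⟩ : ∃ i : Fin t, i ∉ ({a, b} : Finset (Fin t)) := by
    by_contra hc
    push Not at hc
    have h1 := (Finset.card_le_card (show Finset.univ ⊆ ({a, b} : Finset (Fin t)) from fun i _ => hc i)).trans
      Finset.card_le_two
    rw [Finset.card_univ, Fintype.card_fin] at h1
    omega
  simp only [Finset.mem_insert, Finset.mem_singleton, not_or] at hi
  have h := hC.proj.other i b hi.2 _ hb
  rw [hother i hi.1, neg_eq_zero] at h
  exact smul_ne_zero hne (hC.comp_ne hk h2 hno hu hnb i) h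

/-- No component is singular. -/
theorem comp_aniso {u : V} (hu : Mem Q M D u) (hnb : ∀ b, u ∉ D b) (a : Fin t) : Q (p a u) ≠ 0 := by
  intro hq
  obtain ⟨q₀, hq₀⟩ : ∃ q, q = p a u := ⟨_, rfl⟩
  have hq0D : q₀ ∈ D a := hq₀ ▸ hC.proj.mem a u
  have hq00 : q₀ ≠ 0 := hq₀ ▸ hC.comp_ne hk h2 hno hu hnb a
  rw [← hq₀] at hq
  have h7 := hC.plus hk a q₀ hq0D hq hq00
  obtain ⟨z, hz, hqz⟩ := hC.nd a q₀ hq0D hq00
  obtain ⟨q₁, hq₁⟩ : ∃ q₁, q₁ = (B q₀ z)⁻¹ • z - ((B q₀ z)⁻¹ * (B q₀ z)⁻¹ * Q z) • q₀ := ⟨_, rfl⟩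
  have hq1D : q₁ ∈ D a := hq₁ ▸ (D a).sub_mem ((D a).smul_mem _ hz) ((D a).smul_mem _ hq0D)
  have hQ1 : Q q₁ = 0 := by
    rw [hq₁, sub_eq_add_neg, ← neg_smul, quad_add_smul', QuadraticMap.map_smul, QuadraticMap.polar_smul_left,
      hq, QuadraticMap.polar_comm _ z q₀, smul_eq_mul, smul_eq_mul]
    field_simp
    ring
  have h01 : B q₀ q₁ = 1 := by
    rw [hq₁, QuadraticMap.polar_sub_right, QuadraticMap.polar_smul_right, QuadraticMap.polar_smul_right, polar_diag,
      hq, mul_zero, smul_zero, sub_zero, smul_eq_mul, inv_mul_cancel₀ hqz]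
  obtain ⟨z₀, hz₀⟩ := cls_nonempty h2 (r := 1) (k := -χ (-1)) (Or.inl rfl) (by
    rcases chi_cases (z := (-1 : F)) (by norm_num) with h | h <;> rw [h] <;> norm_num) h7
  obtain ⟨hz0, hz1, hzs, hzc⟩ := mem_cls.1 hz₀
  obtain ⟨l, hl⟩ := (chi_one_iff hz0).1 hzs
  have hl0 : l ≠ 0 := fun e => hz0 (by rw [hl, e, mul_zero])
  obtain ⟨v, hv⟩ : ∃ v, v = l • q₁ + l⁻¹ • q₀ := ⟨_, rfl⟩
  have hvD : v ∈ D a := hv ▸ (D a).add_mem ((D a).smul_mem _ hq1D) ((D a).smul_mem _ hq0D)
  have hQv : Q v = 1 := by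
    rw [hv, quad_add_smul', QuadraticMap.map_smul, QuadraticMap.polar_smul_left, hQ1, hq,
      QuadraticMap.polar_comm _ q₁ q₀, h01, smul_eq_mul, smul_eq_mul]
    field_simp
    ring
  have hBuv : B u v = l := by
    rw [QuadraticMap.polar_comm, hC.polar_proj hvD, ← hq₀, hv, QuadraticMap.polar_add_left,
      QuadraticMap.polar_smul_left, QuadraticMap.polar_smul_left, QuadraticMap.polar_comm _ q₁ q₀, h01, polar_diag, hq]
    simp
  obtain ⟨hm, hnb', hpa, -⟩ := hC.move_unit hk h2 hno hu hnb hvD hQv (hBuv ▸ hl0)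
  obtain ⟨n, hn⟩ : ∃ n, n = l • q₁ + (l - l⁻¹) • q₀ := ⟨_, rfl⟩
  have hnD : n ∈ D a := hn ▸ (D a).add_mem ((D a).smul_mem _ hq1D) ((D a).smul_mem _ hq0D)
  have hQn : Q n = -(1 - z₀) := by
    rw [hn, quad_add_smul', QuadraticMap.map_smul, QuadraticMap.polar_smul_left, hQ1, hq,
      QuadraticMap.polar_comm _ q₁ q₀, h01, smul_eq_mul, smul_eq_mul, hl]
    field_simp
    ring
  refine absurd (hno _ hm hnb' a n hnD ?_ ?_) ?_
  · rw [hC.polar_proj hnD, hpa, hBuv, ← hq₀, hn, hv]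
    simp [QuadraticMap.polar_add_left, QuadraticMap.polar_sub_right, QuadraticMap.polar_add_right,
      QuadraticMap.polar_smul_left, QuadraticMap.polar_smul_right, polar_diag, hQ1, hq, h01,
      QuadraticMap.polar_comm _ q₁ q₀]
    field_simp
    ring
  · rw [hQn]; exact neg_ne_zero.2 (sub_ne_zero.2 (Ne.symm hz1))
  · rw [hQn, ← chi_neg_one_iff, neg_eq_neg_one_mul, map_mul, hzc, mul_neg, chi_mul_self (by norm_num)]

/-- A unit perpendicular of a component. -/
theorem unit_perp {u : V} (hu : Mem Q M D u) (hnb : ∀ b, u ∉ D b) (a : Fin t) :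
    ∃ n ∈ D a, B n (p a u) = 0 ∧ Q n = 1 := by
  obtain ⟨n, hn, hn0, hxn⟩ := hC.exists_perp a (p a u)
  have hQn := hC.aniso_of_perp hk (hC.proj.mem a u) hn (hC.comp_aniso hk h2 hno hu hnb a) hn0 hxn
  obtain ⟨s, hs⟩ := hno u hu hnb a n hn (by rw [hC.polar_proj hn, QuadraticMap.polar_comm, hxn]) hQn
  have hs0 : s ≠ 0 := fun e => hQn (by rw [hs, e, mul_zero])
  refine ⟨s⁻¹ • n, (D a).smul_mem _ hn, by rw [QuadraticMap.polar_smul_left, QuadraticMap.polar_comm, hxn, smul_zero], ?_⟩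
  rw [QuadraticMap.map_smul, smul_eq_mul, hs]
  field_simp

theorem class_eq {u u' : V} (hu : Mem Q M D u) (hnb : ∀ b, u ∉ D b) (hu' : Mem Q M D u') (hnb' : ∀ b, u' ∉ D b)
    (a b : Fin t) : χ (Q (p a u)) = χ (Q (p b u')) := by
  obtain ⟨L, hL⟩ := hC.isom a b
  obtain ⟨n, hn, hxn, hQn⟩ := hC.unit_perp hk h2 hno hu hnb a
  obtain ⟨n', hn', hxn', hQn'⟩ := hC.unit_perp hk h2 hno hu' hnb' b
  have hx := hC.proj.mem a u
  have hQx := hC.comp_aniso hk h2 hno hu hnb a
  have hQx' := hC.comp_aniso hk h2 hno hu' hnb' b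
  have hB : B (L (p a u)) (L n) = 0 := by
    have e := (hL _ ((D a).add_mem hx hn)).2
    rw [map_add] at e
    rw [QuadraticMap.polar, e, (hL _ hx).2, (hL _ hn).2, ← QuadraticMap.polar, QuadraticMap.polar_comm, hxn]
  obtain ⟨r, hr⟩ := hC.disc hk h2 (hL _ hx).1 (hL _ hn).1 (hC.proj.mem b u') hn' hB
    (by rw [QuadraticMap.polar_comm]; exact hxn') (by rw [(hL _ hx).2]; exact hQx)
    (by rw [(hL _ hn).2, hQn]; exact one_ne_zero) hQx' (hQn' ▸ one_ne_zero)
  rw [(hL _ hx).2, (hL _ hn).2, hQn, hQn', mul_one, mul_one] at hr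
  have hr0 : r ≠ 0 := fun e => mul_ne_zero hQx hQx' (by rw [hr, e, mul_zero])
  have h := congrArg χ hr
  rw [map_mul, map_mul, chi_mul_self hr0] at h
  rcases chi_cases hQx with e | e <;> rcases chi_cases hQx' with e' | e' <;> rw [e, e'] at h ⊢ <;> norm_num at h

/-- Removing one block component of square value. -/
theorem sub_one_move {z d : V} (hz : Mem Q M D z) {a : Fin t} (hd : d ∈ D a) (hQd : Q d ≠ 0) (hB : B d z = Q d)
    (hsq : IsSquare (Q d)) : Mem Q M D (z - d) := by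
  have h := hC.mem_blk hz hd hQd (Or.inl hsq)
  rwa [rf_apply, hB, mul_inv_cancel₀ hQd, one_smul] at h

/-- Removing two block components of one class. -/
theorem sub_two_move {z d d' : V} (hz : Mem Q M D z) {a b : Fin t} (hab : a ≠ b) (hd : d ∈ D a) (hd' : d' ∈ D b)
    (hQd : Q d ≠ 0) (hQd' : Q d' ≠ 0) (hB : B d z = Q d) (hB' : B d' z = Q d') (hsq : IsSquare (Q d * Q d')) :
    Mem Q M D (z - d - d') := by
  have h := hC.mem_pairs hz hd hd' hQd hQd' hsq
  rwa [rf_apply (v := d'), hB', mul_inv_cancel₀ hQd', one_smul, map_sub, rf_perp (hC.orth a b hab d hd d' hd'),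
    rf_apply, hB, mul_inv_cancel₀ hQd, one_smul] at h

/-- A difference of small support is impossible. -/
theorem small_diff {u W : V} (hu : Mem Q M D u) (hW : Mem Q M D (u - W)) (hQW : B (u - W) u = 1) {a b : Fin t}
    (hab : a ≠ b) (ha : p a W ≠ 0) (hb : p b W ≠ 0) {c : Fin t} (hc : p c W = 0) : False := by
  have h := hC.mem_sub hu hW hQW
  rw [sub_sub_cancel] at h
  refine hC.comp_ne hk h2 hno h (fun i hi => ?_) c hc
  rcases eq_or_ne a i with rfl | hai
  · exact hb (hC.proj.other b a (Ne.symm hab) W hi)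
  · exact ha (hC.proj.other a i hai W hi)

/-- The moves of one block. -/
theorem exists_move {u : V} (hu : Mem Q M D u) (hnb : ∀ b, u ∉ D b) (a : Fin t) {α δ τ : F}
    (hα : Q (p a u) = α) (hτ : τ * τ * (4 * α) = δ * (4 * α - δ)) :
    ∃ d ∈ D a, Q d = δ ∧ B d u = δ := by
  obtain ⟨n, hn, hxn, hQn⟩ := hC.unit_perp hk h2 hno hu hnb a
  have hα0 : α ≠ 0 := hα ▸ hC.comp_aniso hk h2 hno hu hnb a
  obtain ⟨d, hd⟩ : ∃ d, d = (δ / (2 * α)) • p a u + τ • n := ⟨_, rfl⟩
  have hdD : d ∈ D a := hd ▸ (D a).add_mem ((D a).smul_mem _ (hC.proj.mem a u)) ((D a).smul_mem _ hn)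
  refine ⟨d, hdD, ?_, ?_⟩
  · rw [hd, quad_add_smul', QuadraticMap.map_smul, QuadraticMap.polar_smul_left, QuadraticMap.polar_comm _ _ n, hxn,
      hQn, hα, smul_eq_mul, smul_eq_mul]
    field_simp
    linear_combination hτ
  · rw [hC.polar_proj hdD, hd, QuadraticMap.polar_add_left, QuadraticMap.polar_smul_left, QuadraticMap.polar_smul_left,
      polar_diag, hxn, hα, smul_zero, add_zero, smul_eq_mul]
    field_simp

theorem exists_avoid (hk' : k = 2) (s : Finset (Fin t)) (hs : s.card ≤ 4) : ∃ c, c ∉ s := by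
  by_contra hc
  push Not at hc
  have h1 := Finset.card_le_card (show Finset.univ ⊆ s from fun i _ => hc i)
  rw [Finset.card_univ, Fintype.card_fin] at h1
  have : 5 ≤ t := hC.shape.elim (fun h => h.2) fun h => by omega
  omega

/-- Two moves of one class with sum one. -/
theorem fin_two {u : V} (hu : Mem Q M D u) (hnb : ∀ b, u ∉ D b) {a b : Fin t} (hab : a ≠ b) {α δ δ' τ τ' : F}
    (ha : Q (p a u) = α) (hb : Q (p b u) = α) (hτ : τ * τ * (4 * α) = δ * (4 * α - δ))
    (hτ' : τ' * τ' * (4 * α) = δ' * (4 * α - δ')) (hδ : δ ≠ 0) (hδ' : δ' ≠ 0) (hsq : IsSquare (δ * δ'))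
    (hsum : δ + δ' = 1) : False := by
  obtain ⟨d, hd, hQd, hBd⟩ := hC.exists_move hk h2 hno hu hnb a ha hτ
  obtain ⟨d', hd', hQd', hBd'⟩ := hC.exists_move hk h2 hno hu hnb b hb hτ'
  subst hQd hQd'
  obtain ⟨c, hc⟩ := hC.exists_avoid hk h2 hno hk {a, b} (Finset.card_le_two.trans (by norm_num))
  simp only [Finset.mem_insert, Finset.mem_singleton, not_or] at hc
  have hm := hC.sub_two_move hk h2 hno hu hab hd hd' hδ hδ' hBd hBd' hsq
  rw [sub_sub] at hm
  refine hC.small_diff hk h2 hno hu hm ?_ hab (c := c) ?_ ?_ ?_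
  · rw [QuadraticMap.polar_sub_left, QuadraticMap.polar_add_left, hBd, hBd', polar_diag, hu.1, hsum]; ring
  · rw [map_add, hC.proj.self a d hd, hC.proj.other a b hab d' hd', add_zero]
    exact fun e => hδ (by rw [e, QuadraticMap.map_zero])
  · rw [map_add, hC.proj.other b a (Ne.symm hab) d hd, hC.proj.self b d' hd', zero_add]
    exact fun e => hδ' (by rw [e, QuadraticMap.map_zero])
  · rw [map_add, hC.proj.other c a hc.1 d hd, hC.proj.other c b hc.2 d' hd', add_zero]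

/-- Four summands with a square, or two pairs. -/
theorem fin_four {u : V} (hu : Mem Q M D u) (hnb : ∀ b, u ∉ D b) {f : Fin 4 → Fin t} (hf : Function.Injective f)
    {α : F} (hα : ∀ i, Q (p (f i) u) = α) (δ τ : Fin 4 → F)
    (hτ : ∀ i, τ i * τ i * (4 * α) = δ i * (4 * α - δ i)) (h0 : δ 0 ≠ 0) (h1 : δ 1 ≠ 0) (h2' : δ 2 ≠ 0)
    (hsq : IsSquare (δ 0 * δ 1)) (hlast : (δ 3 ≠ 0 ∧ IsSquare (δ 2 * δ 3)) ∨ (δ 3 = 0 ∧ IsSquare (δ 2)))
    (hsum : δ 0 + δ 1 + δ 2 + δ 3 = 1) : False := by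
  have hd : ∀ i, ∃ d ∈ D (f i), Q d = δ i ∧ B d u = δ i := fun i => hC.exists_move hk h2 hno hu hnb _ (hα i) (hτ i)
  choose d hdD hQd hBd using hd
  have hB' : ∀ i j, i ≠ j → B (d i) (d j) = 0 := fun i j hij => hC.orth _ _ (fun e => hij (hf e)) _ (hdD i) _ (hdD j)
  have m1 := hC.sub_two_move hk h2 hno hu (fun e => absurd (hf e) (by decide : (0 : Fin 4) ≠ 1)) (hdD 0) (hdD 1)
    (by rwa [hQd]) (by rwa [hQd]) (by rw [hBd, hQd]) (by rw [hBd, hQd]) (by rwa [hQd, hQd])
  have hB2 : ∀ i, i ≠ 0 → i ≠ 1 → B (d i) (u - d 0 - d 1) = Q (d i) := fun i e e' => by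
    rw [QuadraticMap.polar_sub_right, QuadraticMap.polar_sub_right, hB' i 0 e, hB' i 1 e', sub_zero, sub_zero, hBd, hQd]
  obtain ⟨c, hc⟩ := hC.exists_avoid hk h2 hno hk {f 0, f 1, f 2, f 3} (Finset.card_le_four.trans (by norm_num))
  simp only [Finset.mem_insert, Finset.mem_singleton, not_or] at hc
  have hne : ∀ i, δ i ≠ 0 → d i ≠ 0 := fun i h e => h (by rw [← hQd, e, QuadraticMap.map_zero])
  have p01 : ∀ {x : V}, p (f 0) x = 0 → p (f 1) x = 0 →
      p (f 0) (d 0 + d 1 + x) ≠ 0 ∧ p (f 1) (d 0 + d 1 + x) ≠ 0 := fun {x} e e' => by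
    constructor <;> rw [map_add, map_add]
    · rw [hC.proj.self _ _ (hdD 0), hC.proj.other _ _ (fun e => absurd (hf e) (by decide)) _ (hdD 1), e, add_zero, add_zero]
      exact hne 0 h0
    · rw [hC.proj.other _ _ (fun e => absurd (hf e) (by decide)) _ (hdD 0), hC.proj.self _ _ (hdD 1), e', zero_add, add_zero]
      exact hne 1 h1
  rcases hlast with ⟨h3, hsq'⟩ | ⟨h3, hsq'⟩
  · have m2 := hC.sub_two_move hk h2 hno m1 (fun e => absurd (hf e) (by decide : (2 : Fin 4) ≠ 3)) (hdD 2) (hdD 3)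
      (by rwa [hQd]) (by rwa [hQd]) (hB2 2 (by decide) (by decide)) (hB2 3 (by decide) (by decide)) (by rwa [hQd, hQd])
    rw [show u - d 0 - d 1 - d 2 - d 3 = u - (d 0 + d 1 + (d 2 + d 3)) by abel] at m2
    obtain ⟨e0, e1⟩ := p01 (x := d 2 + d 3)
      (by rw [map_add, hC.proj.other _ _ (fun e => absurd (hf e) (by decide)) _ (hdD 2),
        hC.proj.other _ _ (fun e => absurd (hf e) (by decide)) _ (hdD 3), add_zero])
      (by rw [map_add, hC.proj.other _ _ (fun e => absurd (hf e) (by decide)) _ (hdD 2),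
        hC.proj.other _ _ (fun e => absurd (hf e) (by decide)) _ (hdD 3), add_zero])
    refine hC.small_diff hk h2 hno hu m2 ?_ (fun e => absurd (hf e) (by decide : (0 : Fin 4) ≠ 1)) e0 e1 (c := c) ?_
    · rw [QuadraticMap.polar_sub_left, QuadraticMap.polar_add_left, QuadraticMap.polar_add_left,
        QuadraticMap.polar_add_left, hBd, hBd, hBd, hBd, polar_diag, hu.1]
      linear_combination -hsum
    · rw [map_add, map_add, map_add, hC.proj.other c _ hc.1 _ (hdD 0), hC.proj.other c _ hc.2.1 _ (hdD 1),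
        hC.proj.other c _ hc.2.2.1 _ (hdD 2), hC.proj.other c _ hc.2.2.2 _ (hdD 3)]
      simp
  · have m2 := hC.sub_one_move hk h2 hno m1 (hdD 2) (by rwa [hQd]) (hB2 2 (by decide) (by decide)) (by rwa [hQd])
    rw [show u - d 0 - d 1 - d 2 = u - (d 0 + d 1 + d 2) by abel] at m2
    obtain ⟨e0, e1⟩ := p01 (x := d 2) (hC.proj.other _ _ (fun e => absurd (hf e) (by decide)) _ (hdD 2))
      (hC.proj.other _ _ (fun e => absurd (hf e) (by decide)) _ (hdD 2))
    refine hC.small_diff hk h2 hno hu m2 ?_ (fun e => absurd (hf e) (by decide : (0 : Fin 4) ≠ 1)) e0 e1 (c := c) ?_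
    · rw [QuadraticMap.polar_sub_left, QuadraticMap.polar_add_left, QuadraticMap.polar_add_left, hBd, hBd, hBd,
        polar_diag, hu.1]
      rw [h3] at hsum
      linear_combination -hsum
    · rw [map_add, map_add, hC.proj.other c _ hc.1 _ (hdD 0), hC.proj.other c _ hc.2.1 _ (hdD 1),
        hC.proj.other c _ hc.2.2.1 _ (hdD 2)]
      simp

/-- Two equal values over nine elements. -/
theorem nine {u : V} (hu : Mem Q M D u) (hnb : ∀ b, u ∉ D b) (h9 : Fintype.card F = 9) {a b : Fin t} (hab : a ≠ b)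
    {α : F} (ha : Q (p a u) = α) (hb : Q (p b u) = α) (hα : α * α = α + 1) : False := by
  have h3 : (3 : F) = 0 := by
    have h := FiniteField.cast_card_eq_zero F
    rw [h9] at h
    exact mul_self_eq_zero.1 (show (3 : F) * 3 = 0 by rw [show (3 : F) * 3 = ((9 : ℕ) : F) by norm_num]; exact h)
  have hα0 : α ≠ 0 := fun e => by rw [e] at hα; simp at hα
  have hσ0 : 1 - α ≠ 0 := fun e => one_ne_zero (α := F) (by linear_combination -(α * e) - hα)
  obtain ⟨j, hj⟩ : IsSquare (-1 : F) := FiniteField.isSquare_neg_one_iff.2 (by rw [h9]; decide)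
  have hi : (2 * α - 1) * (2 * α - 1) = -1 := by linear_combination 4 * hα + 2 * h3
  have hi0 : 2 * α - 1 ≠ 0 := fun e => by rw [e, mul_zero] at hi; exact one_ne_zero (α := F) (by linear_combination hi)
  obtain ⟨m, hm⟩ : IsSquare (2 * α - 1) := by
    rw [FiniteField.isSquare_iff (not_char_two h2) hi0, h9]
    show (2 * α - 1) ^ 4 = 1
    linear_combination ((2 * α - 1) * (2 * α - 1) - 1) * hi
  refine hC.fin_two hk h2 hno hu hnb hab (δ := α) (δ' := 1 - α) (τ := 0) (τ' := j * m / α) ha hb ?_ ?_ hα0 hσ0 ?_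
    (by ring)
  · linear_combination (-(α * α)) * h3
  · rw [div_mul_div_comm, div_mul_eq_mul_div, div_eq_iff (mul_ne_zero hα0 hα0)]
    rw [show j * m * (j * m) = (j * j) * (m * m) by ring, ← hj, ← hm]
    linear_combination (5 * α ^ 2 - α - 3) * hα - h3
  · exact ⟨j, by linear_combination hj - hα⟩

/-- Members without witness do not exist. -/
theorem no_wit_false {u : V} (hu : Mem Q M D u) (hnb : ∀ b, u ∉ D b) : False := by
  have ht : 5 ≤ t := hC.shape.elim (fun h => h.2) fun h => by omega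
  let a₀ : Fin t := ⟨0, by omega⟩
  obtain ⟨κ, hκ⟩ : ∃ κ, κ = χ (Q (p a₀ u)) := ⟨_, rfl⟩
  obtain ⟨S, hS⟩ : ∃ S : F → Prop, ∀ α, S α ↔ ∃ u, Mem Q M D u ∧ (∀ b, u ∉ D b) ∧ ∃ a, Q (p a u) = α :=
    ⟨_, fun _ => Iff.rfl⟩
  have hcls : ∀ α, S α → χ α = κ := fun α hα => by
    obtain ⟨u', hu', hnb', a, rfl⟩ := (hS α).1 hα
    exact (hC.class_eq hk h2 hno hu' hnb' hu hnb a a₀).trans hκ.symm
  have hκ' : κ = 1 ∨ κ = -1 := hκ ▸ chi_cases (hC.comp_aniso hk h2 hno hu hnb a₀)
  have hκ2 : κ * κ = 1 := by rcases hκ' with e | e <;> rw [e] <;> rfl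
  -- the moves
  have hmove : ∀ {u : V}, Mem Q M D u → (∀ b, u ∉ D b) → ∀ a, ∀ z ∈ par (F := F) κ,
      ∃ u', Mem Q M D u' ∧ (∀ b, u' ∉ D b) ∧
        Q (p a u') = 1 - 4 * Q (p a u) * (1 - Q (p a u)) * z ∧
        ∀ i, i ≠ a → Q (p i u') = 4 * Q (p a u) * z * Q (p i u) := by
    intro u hu hnb a z hz
    obtain ⟨n, hn, hxn, hQn⟩ := hC.unit_perp hk h2 hno hu hnb a
    obtain ⟨α, hα⟩ : ∃ α, α = Q (p a u) := ⟨_, rfl⟩
    have hα0 : α ≠ 0 := hα ▸ hC.comp_aniso hk h2 hno hu hnb a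
    obtain ⟨hz0, hzc, hz1⟩ := mem_par.1 hz
    have hαc : χ α = κ := hcls α ((hS α).2 ⟨u, hu, hnb, a, hα.symm⟩)
    obtain ⟨s, hs⟩ : IsSquare (z * α) := (chi_one_iff (mul_ne_zero hz0 hα0)).1 (by rw [map_mul, hzc, hαc, hκ2])
    obtain ⟨τ, hτ⟩ : IsSquare (1 - z) := by
      rcases hz1 with rfl | h
      · rw [sub_self]; exact IsSquare.zero
      · exact (chi_one_iff fun e => by rw [e, MulChar.map_zero] at h; exact zero_ne_one h).1 h
    obtain ⟨v, hv⟩ : ∃ v, v = (s / α) • p a u + τ • n := ⟨_, rfl⟩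
    have hvD : v ∈ D a := hv ▸ (D a).add_mem ((D a).smul_mem _ (hC.proj.mem a u)) ((D a).smul_mem _ hn)
    have hQv : Q v = 1 := by
      rw [hv, quad_add_smul', QuadraticMap.map_smul, QuadraticMap.polar_smul_left, QuadraticMap.polar_comm _ _ n, hxn,
        hQn, ← hα, smul_eq_mul, smul_eq_mul, ← hτ]
      field_simp
      linear_combination -hs
    have hBuv : B u v = 2 * s := by
      rw [QuadraticMap.polar_comm, hC.polar_proj hvD, hv, QuadraticMap.polar_add_left, QuadraticMap.polar_smul_left,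
        QuadraticMap.polar_smul_left, polar_diag, hxn, ← hα, smul_zero, add_zero, smul_eq_mul]
      field_simp
    have hs0 : s ≠ 0 := fun e => mul_ne_zero hz0 hα0 (by rw [hs, e, mul_zero])
    obtain ⟨hm, hnb', hpa, hpi⟩ := hC.move_unit hk h2 hno hu hnb hvD hQv (hBuv ▸ mul_ne_zero h2 hs0)
    refine ⟨_, hm, hnb', ?_, fun i hi => ?_⟩
    · rw [hpa, hBuv, hv, show (s / α) • p a u + τ • n - (2 * s) • p a u = (s / α - 2 * s) • p a u + τ • n by module,
        quad_add_smul', QuadraticMap.map_smul, QuadraticMap.polar_smul_left, QuadraticMap.polar_comm _ _ n, hxn, hQn,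
        ← hα, smul_eq_mul, smul_eq_mul, ← hτ]
      field_simp
      linear_combination -(1 - 2 * α) * (1 - 2 * α) * hs
    · rw [hpi i hi, QuadraticMap.map_neg, QuadraticMap.map_smul, hBuv, ← hα, smul_eq_mul]
      linear_combination -4 * Q (p i u) * hs
  have hplus : κ * χ (-1) = 1 → 7 ≤ Fintype.card F := fun h => by
    obtain ⟨n, hn, hxn, hQn⟩ := hC.unit_perp hk h2 hno hu hnb a₀
    have hα0 := hC.comp_aniso hk h2 hno hu hnb a₀
    obtain ⟨r, hr⟩ : IsSquare (-1 * Q (p a₀ u)) :=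
      (chi_one_iff (mul_ne_zero (by norm_num) hα0)).1 (by rw [map_mul, ← hκ, mul_comm]; exact h)
    refine hC.plus hk a₀ (p a₀ u + r • n) ((D a₀).add_mem (hC.proj.mem _ u) ((D a₀).smul_mem _ hn)) ?_ fun e => ?_
    · rw [quad_add_smul', QuadraticMap.polar_comm _ _ n, hxn, hQn]
      linear_combination -hr
    · have := congrArg (B n) e
      rw [QuadraticMap.polar_add_right, hxn, QuadraticMap.polar_smul_right, polar_diag, hQn,
        QuadraticMap.polar_zero_right, zero_add, smul_eq_mul, mul_one] at this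
      have hr0 : r ≠ 0 := fun e => mul_ne_zero (neg_ne_zero.2 one_ne_zero) hα0 (by rw [hr, e, mul_zero])
      exact mul_ne_zero hr0 h2 this
  have hodd := FiniteField.odd_card_of_char_ne_two (not_char_two h2)
  have h5 : 5 ≤ Fintype.card F := by
    have := hC.card_three hk
    have := Fintype.one_lt_card (α := F)
    omega
  have hclose : ∀ α, S α → α ≠ 1 → ∀ z ∈ par κ, S (1 - 4 * α * (1 - α) * z) := fun α hα _ z hz => by
    obtain ⟨u', hu', hnb', a, rfl⟩ := (hS α).1 hα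
    obtain ⟨u'', hu'', hnb'', e, -⟩ := hmove hu' hnb' a z hz
    exact (hS _).2 ⟨u'', hu'', hnb'', a, e⟩
  have hval : ∀ {α : F}, S α → α ≠ 1 → κ = -1 ∧ Small α :=
    fun {α} h h' => values h2 hκ' h5 hplus hcls hclose h h'
  -- some value is not one
  obtain ⟨α₁, hα₁, hα₁'⟩ : ∃ α, S α ∧ α ≠ 1 := by
    by_contra hc
    push Not at hc
    have hk1 : κ = 1 := by rw [hκ, hc _ ((hS _).2 ⟨u, hu, hnb, a₀, rfl⟩), map_one]
    have h4z : ∀ z ∈ par (F := F) κ, 4 * z = 1 := fun z hz => by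
      obtain ⟨u', hu', hnb', -, e⟩ := hmove hu hnb a₀ z hz
      have h := hc _ ((hS _).2 ⟨u', hu', hnb', ⟨1, by omega⟩, e _ (by simp [a₀])⟩)
      rw [hc _ ((hS _).2 ⟨u, hu, hnb, a₀, rfl⟩), hc _ ((hS _).2 ⟨u, hu, hnb, ⟨1, by omega⟩, rfl⟩)] at h
      linear_combination h
    have h1 := h4z 1 (mem_par.2 ⟨one_ne_zero, by rw [map_one, hk1], Or.inl rfl⟩)
    have h3 : (3 : F) = 0 := by linear_combination h1
    have hq5 : Fintype.card F ≠ 5 := fun e => h2 (by
      have := FiniteField.cast_card_eq_zero F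
      rw [e] at this
      push_cast at this
      linear_combination this - h3)
    obtain ⟨z, hz⟩ := cls_nonempty h2 (r := 1) (k := 1) (Or.inl rfl) (Or.inl rfl) (F := F) (by omega)
    obtain ⟨hz0, hz1, hzc, hzc'⟩ := mem_cls.1 hz
    have := h4z z (mem_par.2 ⟨hz0, by rw [hzc, hk1], Or.inr hzc'⟩)
    exact hz1 (by linear_combination this - z * h3)
  have hk1 := (hval hα₁ hα₁').1
  have hsmall : ∀ a, Small (Q (p a u)) := fun a => by
    have hS' : S (Q (p a u)) := (hS _).2 ⟨u, hu, hnb, a, rfl⟩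
    refine (hval hS' fun e => ?_).2
    have := hcls _ hS'
    rw [e, map_one, hk1] at this
    norm_num at this
  have four : ∀ P : Fin t → Prop, (∃ i j : Fin t, i ≠ j ∧ P i ∧ P j) ∨
      ∃ f : Fin 4 → Fin t, Function.Injective f ∧ ∀ i, ¬ P (f i) := by
    intro P
    classical
    have h := Finset.card_filter_add_card_filter_not (s := (Finset.univ : Finset (Fin t))) P
    rw [Finset.card_univ, Fintype.card_fin] at h
    rcases le_or_gt 2 (Finset.univ.filter P).card with h4 | h4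
    · obtain ⟨i, hi, j, hj, hij⟩ := Finset.one_lt_card.1 h4
      exact Or.inl ⟨i, j, hij, (Finset.mem_filter.1 hi).2, (Finset.mem_filter.1 hj).2⟩
    · obtain ⟨T, hT, hTc⟩ := Finset.exists_subset_card_eq (s := Finset.univ.filter fun i => ¬ P i) (n := 4) (by omega)
      exact Or.inr ⟨fun i => (T.equivFinOfCardEq hTc).symm i,
        fun i j e => (T.equivFinOfCardEq hTc).symm.injective (Subtype.ext e),
        fun i => (Finset.mem_filter.1 (hT ((T.equivFinOfCardEq hTc).symm i).2)).2⟩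
  have hne01 : ∀ {f : Fin 4 → Fin t}, Function.Injective f → f 0 ≠ f 1 := fun hf e => absurd (hf e) (by decide)
  rcases hsmall a₀ with ⟨hq, -⟩ | ⟨hq, -⟩ | ⟨hq, -⟩ | ⟨hq, -⟩
  · -- five elements
    have hα : ∀ a, Q (p a u) = 2 := fun a => by rcases hsmall a with ⟨-, h⟩ | ⟨h, -⟩ | ⟨h, -⟩ | ⟨h, -⟩ <;> omega
    have h0 : (5 : F) = 0 := by have := FiniteField.cast_card_eq_zero F; rw [hq] at this; exact_mod_cast this
    have h3 : (3 : F) ≠ 0 := fun e => h2 (by linear_combination h0 - e)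
    have hne : (⟨0, by omega⟩ : Fin t) ≠ ⟨1, by omega⟩ := by simp
    exact hC.fin_two hk h2 hno hu hnb hne (δ := 3) (δ' := 3) (τ := 0) (τ' := 0) (hα _) (hα _)
      (by linear_combination -3 * h0) (by linear_combination -3 * h0) h3 h3 ⟨3, rfl⟩ (by linear_combination h0)
  · -- seven elements
    have hα : ∀ a, Q (p a u) = 3 ∨ Q (p a u) = 5 := fun a => by
      rcases hsmall a with ⟨h, -⟩ | ⟨-, h⟩ | ⟨h, -⟩ | ⟨h, -⟩ <;> first | exact h | omega
    have h0 : (7 : F) = 0 := by have := FiniteField.cast_card_eq_zero F; rw [hq] at this; exact_mod_cast this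
    have n3 : (3 : F) ≠ 0 := fun e => one_ne_zero (α := F) (by linear_combination h0 - 2 * e)
    have n5 : (5 : F) ≠ 0 := fun e => one_ne_zero (α := F) (by linear_combination 3 * e - 2 * h0)
    have n6 : (6 : F) ≠ 0 := fun e => one_ne_zero (α := F) (by linear_combination h0 - e)
    rcases four fun a => Q (p a u) = 3 with ⟨i, j, hij, hi, hj⟩ | ⟨f, hf, hf5⟩
    · exact hC.fin_two hk h2 hno hu hnb hij (δ := 5) (δ' := 3) (τ := 0) (τ' := 2) hi hj
        (by linear_combination -5 * h0) (by linear_combination 3 * h0) n5 n3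
        ⟨1, by linear_combination 2 * h0⟩ (by linear_combination h0)
    · have h5' : ∀ i, Q (p (f i) u) = 5 := fun i => (hα _).resolve_left (hf5 i)
      refine hC.fin_four hk h2 hno hu hnb hf h5' ![5, 5, 6, 6] ![3, 3, 0, 0] (fun i => ?_) n5 n5 n6 ⟨5, rfl⟩
        (Or.inl ⟨n6, ⟨6, rfl⟩⟩) ?_
      · fin_cases i
        · show (3 : F) * 3 * (4 * 5) = 5 * (4 * 5 - 5)
          linear_combination 15 * h0
        · show (3 : F) * 3 * (4 * 5) = 5 * (4 * 5 - 5)
          linear_combination 15 * h0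
        · show (0 : F) * 0 * (4 * 5) = 6 * (4 * 5 - 6)
          linear_combination -12 * h0
        · show (0 : F) * 0 * (4 * 5) = 6 * (4 * 5 - 6)
          linear_combination -12 * h0
      · show (5 : F) + 5 + 6 + 6 = 1
        linear_combination 3 * h0
  · -- nine elements
    have hα : ∀ a, Q (p a u) * Q (p a u) = Q (p a u) + 1 := fun a => by
      rcases hsmall a with ⟨h, -⟩ | ⟨h, -⟩ | ⟨-, h⟩ | ⟨h, -⟩ <;> first | exact h | omega
    rcases four fun a => Q (p a u) = Q (p a₀ u) with ⟨i, j, hij, hi, hj⟩ | ⟨f, hf, hfne⟩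
    · exact hC.nine hk h2 hno hu hnb hq hij hi hj (hα _)
    · have hroot : ∀ i, Q (p (f i) u) = 1 - Q (p a₀ u) := fun i => by
        have e : (Q (p (f i) u) - Q (p a₀ u)) * (Q (p (f i) u) + Q (p a₀ u) - 1) = 0 := by
          linear_combination hα (f i) - hα a₀
        linear_combination (mul_eq_zero.1 e).resolve_left (sub_ne_zero.2 (hfne i))
      have h01 : Q (p (f 0) u) = Q (p (f 1) u) := by rw [hroot 0, hroot 1]
      exact hC.nine hk h2 hno hu hnb hq (hne01 hf) rfl h01.symm (hα _)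
  · -- eleven elements
    have hα : ∀ a, Q (p a u) = 2 ∨ Q (p a u) = 10 := fun a => by
      rcases hsmall a with ⟨h, -⟩ | ⟨h, -⟩ | ⟨h, -⟩ | ⟨-, h⟩ <;> first | exact h | omega
    have h0 : (11 : F) = 0 := by have := FiniteField.cast_card_eq_zero F; rw [hq] at this; exact_mod_cast this
    have n6 : (6 : F) ≠ 0 := fun e => one_ne_zero (α := F) (by linear_combination 2 * e - h0)
    have n7 : (7 : F) ≠ 0 := fun e => one_ne_zero (α := F) (by linear_combination 2 * h0 - 3 * e)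
    have n9 : (9 : F) ≠ 0 := fun e => one_ne_zero (α := F) (by linear_combination 5 * e - 4 * h0)
    rcases four fun a => Q (p a u) ≠ 2 with ⟨i, j, hij, hi, hj⟩ | ⟨f, hf, hf2'⟩
    rotate_left
    · have hf2 : ∀ i, Q (p (f i) u) = 2 := fun i => not_not.1 (hf2' i)
      refine hC.fin_four hk h2 hno hu hnb hf hf2 ![7, 7, 9, 0] ![4, 4, 5, 0] (fun i => ?_) n7 n7 n9 ⟨7, rfl⟩
        (Or.inr ⟨rfl, ⟨3, by show (9 : F) = 3 * 3; norm_num⟩⟩) ?_
      · fin_cases i
        · show (4 : F) * 4 * (4 * 2) = 7 * (4 * 2 - 7)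
          linear_combination 11 * h0
        · show (4 : F) * 4 * (4 * 2) = 7 * (4 * 2 - 7)
          linear_combination 11 * h0
        · show (5 : F) * 5 * (4 * 2) = 9 * (4 * 2 - 9)
          linear_combination 19 * h0
        · show (0 : F) * 0 * (4 * 2) = 0 * (4 * 2 - 0)
          ring
      · show (7 : F) + 7 + 9 + 0 = 1
        linear_combination 2 * h0
    · exact hC.fin_two hk h2 hno hu hnb hij (δ := 6) (δ' := 6) (τ := 2) (τ' := 2) ((hα _).resolve_left hi)
        ((hα _).resolve_left hj) (by linear_combination -4 * h0) (by linear_combination -4 * h0) n6 n6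
        ⟨6, rfl⟩ (by linear_combination h0)

omit hno in
/-- Some spread member has a witness. -/
theorem exists_witness {u : V} (hu : Mem Q M D u) (hnb : ∀ b, u ∉ D b) :
    ∃ u', Mem Q M D u' ∧ (∀ b, u' ∉ D b) ∧ ∃ e, Wit Q D e u' := by
  by_contra hc
  push Not at hc
  refine hC.no_wit_false hk h2 (fun u' hu' hnb' e w hw hwu hQw => ?_) hu hnb
  by_contra hns
  refine hc u' hu' hnb' e fun r hr => (em (IsSquare r)).imp_right fun hnr => ⟨w, hw, hwu, hQw, ?_⟩
  rw [← chi_one_iff (mul_ne_zero hr hQw), map_mul, chi_neg_one_iff.2 hnr, chi_neg_one_iff.2 hns]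
  rfl

end Ctx

end Cfsg.Agent.Classical.OrthRef
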