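import Cfsg.Agent.Lib.Classical.MaxDecomp
import Cfsg.Agent.Lib.Classical.MaxHermitian
import Cfsg.Agent.Lib.Classical.MaxQuadratic
import Cfsg.Agent.Lib.Classical.OrthDickson
import Cfsg.Agent.Lib.Classical.OrthModels

/-!
Unitary groups over the quadratic extension are maximal in orthogonal groups, in every characteristic.

For singular `a` the Siegel elements of an overgroup at `a` form a subspace. One plane that is not a line of the
extension makes it contain the Hermitian perp of `a`, first for one point, then for all, and finally all of `a⊥`.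
-/

set_option autoImplicit false
set_option linter.unusedSectionVars false
set_option quotPrecheck false

namespace Cfsg.Agent.Classical.MaxTv

open Matrix Module OrthAut

variable {F : Type*} [Field F] {ι : Type} [Fintype ι] [DecidableEq ι] {Q : QuadraticForm F (ι → F)}

local notation "V" => (ι → F)
local notation "Mn" => Matrix ι ι F
local notation "B" => QuadraticMap.polar ⇑Q

/-- Singular vectors perpendicular to a few vectors. -/
theorem quad_exists_iso [Finite F] (hQ : (QuadraticMap.polarBilin Q).Nondegenerate) {k : ℕ} (u : Fin k → V)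
    (hk : 2 * k + 3 ≤ Fintype.card ι) : ∃ v, v ≠ 0 ∧ Q v = 0 ∧ ∀ i, B v (u i) = 0 := by
  set P := QuadraticMap.polarBilin Q with hP
  set U := LinearMap.ker (LinearMap.pi fun i => P (u i)) with hU
  set R := U ⊓ LinearMap.BilinForm.orthogonal P U with hR
  obtain ⟨C, hC⟩ := Submodule.exists_isCompl R
  have d1 : Fintype.card ι ≤ finrank F U + k := by
    have h1 := (LinearMap.pi fun i => P (u i)).finrank_range_add_finrank_ker
    have h2 := Submodule.finrank_le (LinearMap.range (LinearMap.pi fun i => P (u i)))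
    rw [finrank_pi, Fintype.card_fin] at h2
    rw [← hU, finrank_pi] at h1
    omega
  have dR : finrank F R ≤ k := by
    have h1 := Submodule.finrank_mono (inf_le_right : R ≤ LinearMap.BilinForm.orthogonal P U)
    rw [LinearMap.BilinForm.finrank_orthogonal hQ, finrank_pi] at h1
    rw [hR]
    omega
  have dC : 3 ≤ finrank F (U ⊓ C : Submodule F V) := by
    have h1 := Submodule.finrank_sup_add_finrank_inf_eq U C
    have h2 := Submodule.finrank_add_eq_of_isCompl hC
    have h3 := Submodule.finrank_le (U ⊔ C)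
    rw [finrank_pi] at h2 h3
    omega
  have ndC : ∀ w ∈ U ⊓ C, w ≠ 0 → ∃ y ∈ U ⊓ C, P w y ≠ 0 := fun w hw hw0 => by
    by_contra hc
    push Not at hc
    have hwR : w ∈ R := ⟨hw.1, fun y hy => by
      obtain ⟨r, hr, c, hcC, rfl⟩ := Submodule.mem_sup.1 (hC.sup_eq_top ▸ Submodule.mem_top : y ∈ R ⊔ C)
      show P (r + c) w = 0
      have hrw : P r w = 0 := by
        rw [hP, QuadraticMap.polarBilin_apply_apply, QuadraticMap.polar_comm]; exact hr.2 w hw.1
      rw [map_add, LinearMap.add_apply, hrw, zero_add, hP, QuadraticMap.polarBilin_apply_apply,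
        QuadraticMap.polar_comm]
      refine hc c ⟨?_, hcC⟩
      have := U.sub_mem hy hr.1
      rwa [add_sub_cancel_left] at this⟩
    exact hw0 ((Submodule.mem_bot F).1 (hC.inf_eq_bot ▸ ⟨hwR, hw.2⟩))
  obtain ⟨z, hz, hz0, hQz⟩ := exists_singular_in Q ndC dC
  refine ⟨z, hz0, hQz, fun i => ?_⟩
  have h1 := congrFun (LinearMap.mem_ker.1 hz.1) i
  rw [LinearMap.pi_apply, Pi.zero_apply, hP, QuadraticMap.polarBilin_apply_apply] at h1
  rw [QuadraticMap.polar_comm]; exact h1

/-- A singular vector perpendicular to `u` and to neither of `l₁`, `l₂`. -/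
theorem quad_iso_off [Finite F] (hQ : (QuadraticMap.polarBilin Q).Nondegenerate) {k : ℕ} (u : Fin k → V)
    {l₁ l₂ : V} (hk : 2 * k + 7 ≤ Fintype.card ι ∨ (l₁ = l₂ ∧ 2 * k + 5 ≤ Fintype.card ι))
    (h₁ : l₁ ∉ Submodule.span F (Set.range u))
    (h₂ : l₂ ∉ Submodule.span F (Set.range u)) :
    ∃ w, Q w = 0 ∧ (∀ i, B w (u i) = 0) ∧ B w l₁ ≠ 0 ∧ B w l₂ ≠ 0 := by
  set P := QuadraticMap.polarBilin Q with hP
  have hPs : ∀ x y, P x y = P y x := fun x y => by
    rw [hP, QuadraticMap.polarBilin_apply_apply, QuadraticMap.polarBilin_apply_apply, QuadraticMap.polar_comm]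
  set U := LinearMap.ker (LinearMap.pi fun i => P (u i)) with hU
  set U' := U ⊓ LinearMap.ker (P l₁) ⊓ LinearMap.ker (P l₂) with hU'
  set R := U' ⊓ LinearMap.BilinForm.orthogonal P U' with hR
  obtain ⟨C, hC⟩ := Submodule.exists_isCompl R
  obtain ⟨d, hd, d1⟩ : ∃ d, 2 * k + 2 * d + 3 ≤ Fintype.card ι ∧ Fintype.card ι ≤ finrank F U' + k + d := by
    have h1 := (LinearMap.pi fun i => P (u i)).finrank_range_add_finrank_ker
    have h2 := Submodule.finrank_le (LinearMap.range (LinearMap.pi fun i => P (u i)))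
    rw [finrank_pi, Fintype.card_fin] at h2
    rw [← hU, finrank_pi] at h1
    have h3 := finrank_le_inf_ker_add_one U (P l₁)
    have h4 := finrank_le_inf_ker_add_one (U ⊓ LinearMap.ker (P l₁)) (P l₂)
    rw [← hU'] at h4
    rcases hk with h | ⟨rfl, h⟩
    · exact ⟨2, by omega, by omega⟩
    · have h5 : U' = U ⊓ LinearMap.ker (P l₁) := by rw [hU', inf_assoc, inf_idem]
      rw [h5] at h4 ⊢
      exact ⟨1, by omega, by omega⟩
  have dR : finrank F R ≤ k + d := by
    have h1 := Submodule.finrank_mono (inf_le_right : R ≤ LinearMap.BilinForm.orthogonal P U')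
    rw [LinearMap.BilinForm.finrank_orthogonal hQ, finrank_pi] at h1
    rw [hR]
    omega
  have dC : 3 ≤ finrank F (U' ⊓ C : Submodule F V) := by
    have h1 := Submodule.finrank_sup_add_finrank_inf_eq U' C
    have h2 := Submodule.finrank_add_eq_of_isCompl hC
    have h3 := Submodule.finrank_le (U' ⊔ C)
    rw [finrank_pi] at h2 h3
    omega
  have ndC : ∀ w ∈ U' ⊓ C, w ≠ 0 → ∃ y ∈ U' ⊓ C, P w y ≠ 0 := fun w hw hw0 => by
    by_contra hc
    push Not at hc
    have hwR : w ∈ R := ⟨hw.1, fun y hy => by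
      obtain ⟨r, hr, c, hcC, rfl⟩ := Submodule.mem_sup.1 (hC.sup_eq_top ▸ Submodule.mem_top : y ∈ R ⊔ C)
      show P (r + c) w = 0
      have hrw : P r w = 0 := by rw [hPs]; exact hr.2 w hw.1
      rw [map_add, LinearMap.add_apply, hrw, hPs c w, zero_add]
      refine hc c ⟨?_, hcC⟩
      have := U'.sub_mem hy hr.1
      rwa [add_sub_cancel_left] at this⟩
    exact hw0 ((Submodule.mem_bot F).1 (hC.inf_eq_bot ▸ ⟨hwR, hw.2⟩))
  obtain ⟨e, he, he0, hQe⟩ := exists_singular_in Q ndC dC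
  obtain ⟨f, hf, hef⟩ := ndC e he he0
  have sep : ∀ l, l ∉ Submodule.span F (Set.range u) → ∃ z ∈ U, P l z ≠ 0 := fun l hl => by
    obtain ⟨z, hz1, hz2⟩ := exists_bilin_eq_one P hQ _ hl
    refine ⟨z, LinearMap.mem_ker.2 (funext fun i => ?_), by rw [hPs, hz1]; exact one_ne_zero⟩
    rw [LinearMap.pi_apply, hPs, Pi.zero_apply]
    exact hz2 _ (Submodule.subset_span ⟨i, rfl⟩)
  obtain ⟨z, hz, hz1, hz2⟩ := exists_both (P l₁) (P l₂) (sep _ h₁) (sep _ h₂)
  obtain ⟨z', hz', hz1', hz2', hez⟩ : ∃ z' ∈ U, P l₁ z' ≠ 0 ∧ P l₂ z' ≠ 0 ∧ P e z' ≠ 0 := by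
    by_cases h : P e z = 0
    · exact ⟨z + f, add_mem hz hf.1.1.1,
        by rw [map_add, show P l₁ f = 0 from hf.1.1.2, add_zero]; exact hz1,
        by rw [map_add, show P l₂ f = 0 from hf.1.2, add_zero]; exact hz2,
        by rw [map_add, h, zero_add]; exact hef⟩
    · exact ⟨z, hz, hz1, hz2, h⟩
  obtain ⟨w, hw⟩ : ∃ w, w = z' + (-(Q z') / P e z') • e := ⟨_, rfl⟩
  have hwU : w ∈ U := hw ▸ add_mem hz' (U.smul_mem _ he.1.1.1)
  refine ⟨w, ?_, fun i => ?_, fun h => ?_, fun h => ?_⟩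
  · rw [hw, QuadraticMap.map_add ⇑Q, QuadraticMap.map_smul, hQe, QuadraticMap.polar_smul_right,
      QuadraticMap.polar_comm, ← QuadraticMap.polarBilin_apply_apply, ← hP, smul_zero, add_zero, smul_eq_mul,
      div_mul_cancel₀ _ hez, add_neg_cancel]
  · have h1 := congrFun (LinearMap.mem_ker.1 hwU) i
    rw [LinearMap.pi_apply, Pi.zero_apply, hP, QuadraticMap.polarBilin_apply_apply] at h1
    rw [QuadraticMap.polar_comm]; exact h1
  · refine hz1' ?_
    have h1 : P l₁ w = 0 := by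
      rw [hP, QuadraticMap.polarBilin_apply_apply, QuadraticMap.polar_comm]; exact h
    rwa [hw, map_add, map_smul, show P l₁ e = 0 from he.1.1.2, smul_zero, add_zero] at h1
  · refine hz2' ?_
    have h1 : P l₂ w = 0 := by
      rw [hP, QuadraticMap.polarBilin_apply_apply, QuadraticMap.polar_comm]; exact h
    rwa [hw, map_add, map_smul, show P l₂ e = 0 from he.1.2, smul_zero, add_zero] at h1

/-- A generator of a quadratic extension acting by similitudes. -/
structure KJ (Q : QuadraticForm F (ι → F)) (j : Matrix ι ι F) (α γ : F) : Prop where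
  sq : ∀ x, j *ᵥ (j *ᵥ x) = α • (j *ᵥ x) + γ • x
  nroot : ∀ t : F, t * t ≠ α * t + γ
  adj : ∀ x y, QuadraticMap.polar ⇑Q (j *ᵥ x) y = α * QuadraticMap.polar ⇑Q x y - QuadraticMap.polar ⇑Q x (j *ᵥ y)
  qj : ∀ x, Q (j *ᵥ x) = -γ * Q x
  qx : ∀ x, QuadraticMap.polar ⇑Q x (j *ᵥ x) = α * Q x
  nd : (QuadraticMap.polarBilin Q).Nondegenerate
  dim : 10 ≤ Fintype.card ι

/-- The Siegel elements of `M` at the singular vector `a`. -/
def CR {M : Subgroup (GL ι F)} {a : ι → F} (ha : Q a = 0) : Submodule F (ι → F) where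
  carrier := {b | B a b = 0 ∧ ∀ c : F, ∃ t ∈ M, (t : Mn) = eMat Q a (c • b)}
  zero_mem' := ⟨by simp, fun c => ⟨1, one_mem M, by rw [smul_zero, eMat_zero, Units.val_one]⟩⟩
  add_mem' := fun {b b'} hb hb' => ⟨by rw [QuadraticMap.polar_add_right, hb.1, hb'.1, add_zero], fun c => by
    obtain ⟨t, ht, htx⟩ := hb.2 c
    obtain ⟨t', ht', htx'⟩ := hb'.2 c
    refine ⟨t * t', mul_mem ht ht', ?_⟩
    rw [Units.val_mul, htx, htx', eMat_mul (OK.smul ⟨ha, hb.1⟩ c) (OK.smul ⟨ha, hb'.1⟩ c), smul_add]⟩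
  smul_mem' := fun r b hb => ⟨by rw [QuadraticMap.polar_smul_right, hb.1, smul_zero], fun c => by
    rw [smul_smul]; exact hb.2 (c * r)⟩

variable {j : Matrix ι ι F} {α γ : F} {M : Subgroup (GL ι F)}

namespace KJ

variable (hk : KJ Q j α γ)
include hk

theorem indep {S : Submodule F V} (hS : ∀ x ∈ S, j *ᵥ x ∈ S) {y : V} (hy : y ∉ S) {c e : F}
    (h : c • y + e • (j *ᵥ y) ∈ S) : c = 0 ∧ e = 0 := by
  have h1 := S.sub_mem (S.smul_mem (c + e * α) h) (S.smul_mem e (hS _ h))
  rw [Matrix.mulVec_add, Matrix.mulVec_smul, Matrix.mulVec_smul, hk.sq,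
    show (c + e * α) • (c • y + e • (j *ᵥ y)) - e • (c • (j *ᵥ y) + e • (α • (j *ᵥ y) + γ • y)) =
      (c * c + e * α * c - e * e * γ) • y by module] at h1
  have h2 : c * c + e * α * c - e * e * γ = 0 := by_contra fun hne => hy ((S.smul_mem_iff hne).1 h1)
  by_cases he : e = 0
  · subst he
    exact ⟨mul_self_eq_zero.1 (by linear_combination h2), rfl⟩
  · exact absurd (show -(c / e) * -(c / e) = α * -(c / e) + γ by field_simp; linear_combination h2) (hk.nroot _)

theorem indep0 {y : V} (hy : y ≠ 0) {c e : F} (h : c • y + e • (j *ᵥ y) = 0) : c = 0 ∧ e = 0 :=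
  hk.indep (S := ⊥) (fun x hx => by rw [(Submodule.mem_bot F).1 hx, Matrix.mulVec_zero]; exact zero_mem _)
    (by simpa using hy) (by rw [h]; exact zero_mem _)

theorem span_inv (x : V) : ∀ z ∈ Submodule.span F {x, j *ᵥ x}, j *ᵥ z ∈ Submodule.span F {x, j *ᵥ x} := by
  intro z hz
  obtain ⟨a, b, rfl⟩ := Submodule.mem_span_pair.1 hz
  exact Submodule.mem_span_pair.2 ⟨b * γ, a + b * α, by
    rw [Matrix.mulVec_add, Matrix.mulVec_smul, Matrix.mulVec_smul, hk.sq]; module⟩

theorem gamma_ne : γ ≠ 0 := fun h => hk.nroot 0 (by rw [h]; ring)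

theorem perp_j {x y : V} (h1 : B y x = 0) (h2 : B y (j *ᵥ x) = 0) : B (j *ᵥ y) x = 0 ∧ B (j *ᵥ y) (j *ᵥ x) = 0 :=
  ⟨by rw [hk.adj, h1, h2]; ring, by
    rw [hk.adj, h2, hk.sq, QuadraticMap.polar_add_right, QuadraticMap.polar_smul_right,
      QuadraticMap.polar_smul_right, h1, h2, smul_zero, smul_zero]; ring⟩

theorem not_mem_span {x y : V} (hy : Q y = 0) {l : V} (hl : B y l ≠ 0) (h1 : B x l = 0) (h2 : B (j *ᵥ x) l = 0) :
    y ∉ Submodule.span F {x, j *ᵥ x} := fun hmem => by
  obtain ⟨s, t, rfl⟩ := Submodule.mem_span_pair.1 hmem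
  simp [QuadraticMap.polar_add_left, QuadraticMap.polar_smul_left, h1, h2] at hl

/-- A vector perpendicular to two lines and outside their span. -/
theorem exists_perp_off [Finite F] (x z : V) :
    ∃ l, l ∉ Submodule.span F (Set.range ![x, j *ᵥ x, z, j *ᵥ z]) ∧ ∀ i, B (![x, j *ᵥ x, z, j *ᵥ z] i) l = 0 := by
  have hd := hk.dim
  set S := Submodule.span F (Set.range ![x, j *ᵥ x, z, j *ᵥ z]) with hS
  obtain ⟨l, hl, hls⟩ : ∃ l ∈ LinearMap.BilinForm.orthogonal (QuadraticMap.polarBilin Q) S, l ∉ S := by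
    by_contra hc
    push Not at hc
    have h1 := Submodule.finrank_mono (show LinearMap.BilinForm.orthogonal (QuadraticMap.polarBilin Q) S ≤ S from hc)
    have h2 := finrank_range_le_card (R := F) ![x, j *ᵥ x, z, j *ᵥ z]
    rw [Set.finrank, Fintype.card_fin, ← hS] at h2
    rw [LinearMap.BilinForm.finrank_orthogonal hk.nd, finrank_pi] at h1
    omega
  have hp : ∀ i, B (![x, j *ᵥ x, z, j *ᵥ z] i) l = 0 := fun i => hl _ (Submodule.subset_span ⟨i, rfl⟩)
  exact ⟨l, hls, hp⟩

/-- A singular vector off the lines of singular `x` and `z`, Hermitian perpendicular to both. -/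
theorem exists_common [Finite F] {x z : V} (hx : Q x = 0) (hz : Q z = 0) (hx0 : x ≠ 0) (hz0 : z ≠ 0) :
    ∃ y, Q y = 0 ∧ y ∉ Submodule.span F {x, j *ᵥ x} ∧ y ∉ Submodule.span F {z, j *ᵥ z} ∧
      B y x = 0 ∧ B y (j *ᵥ x) = 0 ∧ B y z = 0 ∧ B y (j *ᵥ z) = 0 := by
  have hd := hk.dim
  by_cases hzx : z ∈ Submodule.span F {x, j *ᵥ x}
  · -- one line
    obtain ⟨l, hls, hp⟩ := hk.exists_perp_off x x
    have hl : l ∉ Submodule.span F (Set.range ![x, j *ᵥ x]) := fun h => hls (Submodule.span_mono (by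
      rintro _ ⟨i, rfl⟩; fin_cases i
      · exact ⟨0, rfl⟩
      · exact ⟨1, rfl⟩) h)
    obtain ⟨y, hy, hyu, hyl, -⟩ := quad_iso_off hk.nd ![x, j *ᵥ x] (Or.inr ⟨rfl, by omega⟩) hl hl
    have hyx : y ∉ Submodule.span F {x, j *ᵥ x} := hk.not_mem_span hy hyl (hp 0) (hp 1)
    have hperp : ∀ s ∈ Submodule.span F {x, j *ᵥ x}, B y s = 0 := fun s hs => by
      obtain ⟨r, r', rfl⟩ := Submodule.mem_span_pair.1 hs
      simp [QuadraticMap.polar_add_right, QuadraticMap.polar_smul_right, show B y x = 0 from hyu 0,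
        show B y (j *ᵥ x) = 0 from hyu 1]
    refine ⟨y, hy, hyx, fun h => hyx ?_, hyu 0, hyu 1, hperp z hzx, hperp _ (hk.span_inv x z hzx)⟩
    exact (Submodule.span_le.2 (by
      rintro s (rfl | rfl)
      · exact hzx
      · exact hk.span_inv x z hzx)) h
  by_cases hperp : B z x = 0 ∧ B z (j *ᵥ x) = 0
  · -- a totally singular plane over the extension
    have hxx : B x (j *ᵥ x) = 0 := by rw [hk.qx, hx, mul_zero]
    have hxz : B x z = 0 := by rw [QuadraticMap.polar_comm]; exact hperp.1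
    have hzz : B z (j *ᵥ z) = 0 := by rw [hk.qx, hz, mul_zero]
    have hxjz : B x (j *ᵥ z) = 0 := by rw [QuadraticMap.polar_comm]; exact (hk.perp_j hperp.1 hperp.2).1
    refine ⟨x + z, by rw [quad_add, hx, hz, hxz]; ring, fun h => hzx ?_, fun h => hx0 ?_, ?_, ?_, ?_, ?_⟩
    · have := Submodule.sub_mem _ h (Submodule.mem_span_pair.2 ⟨1, 0, by simp⟩ : x ∈ Submodule.span F {x, j *ᵥ x})
      rwa [add_sub_cancel_left] at this
    · have hxmem : x ∈ Submodule.span F {z, j *ᵥ z} := by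
        have := Submodule.sub_mem _ h (Submodule.mem_span_pair.2 ⟨1, 0, by simp⟩ : z ∈ Submodule.span F {z, j *ᵥ z})
        rwa [add_sub_cancel_right] at this
      obtain ⟨r, r', hr⟩ := Submodule.mem_span_pair.1 hxmem
      obtain ⟨h1, h2⟩ := hk.indep (hk.span_inv x) hzx (c := r) (e := r')
        (by rw [hr]; exact Submodule.mem_span_pair.2 ⟨1, 0, by simp⟩)
      rw [← hr, h1, h2, zero_smul, zero_smul, add_zero]
    · rw [QuadraticMap.polar_add_left, polar_self' hx, hperp.1, add_zero]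
    · rw [QuadraticMap.polar_add_left, hxx, hperp.2, add_zero]
    · rw [QuadraticMap.polar_add_left, hxz, polar_self' hz, add_zero]
    · rw [QuadraticMap.polar_add_left, hxjz, hzz, add_zero]
  -- a nondegenerate plane over the extension
  set P := QuadraticMap.polarBilin Q
  set S := Submodule.span F (Set.range ![x, j *ᵥ x, z, j *ᵥ z]) with hS
  have hrefl : P.IsRefl := fun p q h => by
    show B q p = 0
    rw [QuadraticMap.polar_comm]; exact h
  have hxjx : B (j *ᵥ x) x = 0 := by rw [QuadraticMap.polar_comm, hk.qx, hx, mul_zero]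
  have hint : ∀ s ∈ S, s ∈ LinearMap.BilinForm.orthogonal P S → s = 0 := fun s hs hs' => by
    obtain ⟨r, hr⟩ := (Submodule.mem_span_range_iff_exists_fun F).1 hs
    simp only [Fin.sum_univ_four, Matrix.cons_val] at hr
    -- the vectors Hermitian perpendicular to a given one
    let Px : Submodule F V := LinearMap.ker (P.flip x) ⊓ LinearMap.ker (P.flip (j *ᵥ x))
    let Pz : Submodule F V := LinearMap.ker (P.flip z) ⊓ LinearMap.ker (P.flip (j *ᵥ z))
    have hPx : ∀ u ∈ Px, j *ᵥ u ∈ Px := fun u hu => hk.perp_j hu.1 hu.2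
    have hPz : ∀ u ∈ Pz, j *ᵥ u ∈ Pz := fun u hu => hk.perp_j hu.1 hu.2
    have hsperp : ∀ i, B s (![x, j *ᵥ x, z, j *ᵥ z] i) = 0 := fun i => by
      rw [QuadraticMap.polar_comm]; exact hs' _ (Submodule.subset_span ⟨i, rfl⟩)
    have xPx : r 0 • x + r 1 • (j *ᵥ x) ∈ Px := Px.add_mem (Px.smul_mem _ ⟨polar_self' hx, by
      show B x (j *ᵥ x) = 0
      rw [hk.qx, hx, mul_zero]⟩) (Px.smul_mem _ ⟨hxjx, polar_self' (by rw [hk.qj, hx, mul_zero])⟩)
    have zPz : r 2 • z + r 3 • (j *ᵥ z) ∈ Pz := Pz.add_mem (Pz.smul_mem _ ⟨polar_self' hz, by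
      show B z (j *ᵥ z) = 0
      rw [hk.qx, hz, mul_zero]⟩) (Pz.smul_mem _ ⟨by
      show B (j *ᵥ z) z = 0
      rw [QuadraticMap.polar_comm, hk.qx, hz, mul_zero], polar_self' (by rw [hk.qj, hz, mul_zero])⟩)
    have h23 : r 2 • z + r 3 • (j *ᵥ z) ∈ Px := by
      have := Px.sub_mem (show s ∈ Px from ⟨hsperp 0, hsperp 1⟩) xPx
      rwa [← hr, show r 0 • x + r 1 • j *ᵥ x + r 2 • z + r 3 • j *ᵥ z - (r 0 • x + r 1 • j *ᵥ x) =
        r 2 • z + r 3 • j *ᵥ z by abel] at this
    have h01 : r 0 • x + r 1 • (j *ᵥ x) ∈ Pz := by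
      have := Pz.sub_mem (show s ∈ Pz from ⟨hsperp 2, hsperp 3⟩) zPz
      rwa [← hr, show r 0 • x + r 1 • j *ᵥ x + r 2 • z + r 3 • j *ᵥ z - (r 2 • z + r 3 • j *ᵥ z) =
        r 0 • x + r 1 • j *ᵥ x by abel] at this
    obtain ⟨e2, e3⟩ := hk.indep hPx (fun h : z ∈ Px => hperp ⟨h.1, h.2⟩) h23
    obtain ⟨e0, e1⟩ := hk.indep hPz (fun h : x ∈ Pz => hperp (by
      have h1 : B x z = 0 := h.1
      have h2 : B x (j *ᵥ z) = 0 := h.2
      refine ⟨by rw [QuadraticMap.polar_comm]; exact h1, ?_⟩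
      rw [QuadraticMap.polar_comm, hk.adj, h1, h2]; ring)) h01
    rw [← hr, e0, e1, e2, e3]; simp
  obtain ⟨y, hy, hy0, hQy⟩ := exists_singular_in Q (W := LinearMap.BilinForm.orthogonal P S) (fun w hw hw0 => by
      by_contra hc
      push Not at hc
      refine hw0 (hint w ?_ hw)
      have : w ∈ LinearMap.BilinForm.orthogonal P (LinearMap.BilinForm.orthogonal P S) := fun u hu => by
        show B u w = 0
        rw [QuadraticMap.polar_comm]; exact hc u hu
      rwa [LinearMap.BilinForm.orthogonal_orthogonal hk.nd hrefl] at this) (by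
      have h2 := finrank_range_le_card (R := F) ![x, j *ᵥ x, z, j *ᵥ z]
      rw [Set.finrank, Fintype.card_fin, ← hS] at h2
      rw [LinearMap.BilinForm.finrank_orthogonal hk.nd, finrank_pi]
      omega)
  have hyS : y ∉ S := fun h => hy0 (hint y h hy)
  have hp : ∀ i, B y (![x, j *ᵥ x, z, j *ᵥ z] i) = 0 := fun i => by
    rw [QuadraticMap.polar_comm]; exact hy _ (Submodule.subset_span ⟨i, rfl⟩)
  exact ⟨y, hQy, fun h => hyS (Submodule.span_mono (by
      rintro u (rfl | rfl)
      · exact ⟨0, rfl⟩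
      · exact ⟨1, rfl⟩) h), fun h => hyS (Submodule.span_mono (by
      rintro u (rfl | rfl)
      · exact ⟨2, rfl⟩
      · exact ⟨3, rfl⟩) h), hp 0, hp 1, hp 2, hp 3⟩

end KJ

/-- Root elements give `Ω`. -/
theorem omegaGL_le_of_roots [Fintype F] (hQ : (QuadraticMap.polarBilin Q).Nondegenerate) (hT : Tri Q)
    (h : ∀ a b, TS Q a b → ∃ t ∈ M, (t : Mn) = eMat Q a b) : Geo.omegaGL ⇑Q ≤ M := by
  refine Subgroup.map_le_iff_le_comap.2 ?_
  rw [omega_eq_sR_all hQ hT]
  refine (Subgroup.closure_le _).2 ?_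
  rintro x ⟨a, b, hab, hx⟩
  obtain ⟨t, ht, htx⟩ := h a b hab
  show (x : GL ι F) ∈ M
  rwa [show (x : GL ι F) = t from Units.ext (hx.trans htx.symm)]

/-- Unitary groups are maximal in orthogonal groups. -/
theorem KJ.maximal [Fintype F] (hk : KJ Q j α γ) (K : Subalgebra F Mn)
    (hK : ∀ k, k ∈ K ↔ ∃ a b : F, k = a • 1 + b • j) :
    Geo.IsMaximalIn (Geo.omegaGL ⇑Q) (Geo.subalgebraNormalizer K ⊓ Geo.omegaGL ⇑Q) := by
  classical
  have hd := hk.dim
  have hnd := hk.nd
  have hjK : j ∈ K := (hK j).2 ⟨0, 1, by simp⟩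
  have hT : Tri Q := by
    obtain ⟨a, ha0, ha, -⟩ := quad_exists_iso hnd (k := 0) (fun i => i.elim0) (by omega)
    obtain ⟨b, hb, hb1, -, hb2, -⟩ := hk.exists_common ha ha ha0 ha0
    obtain ⟨c', hc', hcs, hca, -, hcb, -⟩ : ∃ c', Q c' = 0 ∧ c' ∉ Submodule.span F (Set.range ![a, b]) ∧
        B c' a = 0 ∧ True ∧ B c' b = 0 ∧ True := by
      obtain ⟨l, hl, hlp⟩ := hk.exists_perp_off a b
      have h1 : l ∉ Submodule.span F (Set.range ![a, b]) := fun h => hl (Submodule.span_mono (by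
        rintro _ ⟨i, rfl⟩; fin_cases i
        · exact ⟨0, rfl⟩
        · exact ⟨2, rfl⟩) h)
      obtain ⟨c', hc', hcu, hcl, -⟩ := quad_iso_off hnd ![a, b] (l₁ := l) (l₂ := l) (Or.inr ⟨rfl, by omega⟩) h1 h1
      refine ⟨c', hc', fun hmem => hcl ?_, hcu 0, trivial, hcu 1, trivial⟩
      rw [Matrix.range_cons_cons_empty] at hmem
      obtain ⟨s, t, rfl⟩ := Submodule.mem_span_pair.1 hmem
      rw [QuadraticMap.polar_add_left, QuadraticMap.polar_smul_left, QuadraticMap.polar_smul_left,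
        show B a l = 0 from hlp 0, show B b l = 0 from hlp 2, smul_zero, smul_zero, add_zero]
    have hab : ∀ s t : F, s • a + t • b = 0 → s = 0 ∧ t = 0 := fun s t h => by
      by_cases ht : t = 0
      · subst ht
        rw [zero_smul, add_zero, smul_eq_zero] at h
        exact ⟨h.resolve_right ha0, rfl⟩
      · refine absurd (Submodule.mem_span_pair.2 ⟨-(t⁻¹ * s), 0, ?_⟩) hb1
        have h1 := congrArg (fun y => t⁻¹ • y) h
        simp only [smul_add, smul_smul, inv_mul_cancel₀ ht, one_smul, smul_zero] at h1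
        rw [zero_smul, add_zero, neg_smul]
        exact (eq_neg_of_add_eq_zero_right h1).symm
    refine ⟨a, b, c', ⟨ha, hb, by rw [QuadraticMap.polar_comm]; exact hb2, hab⟩, hc',
      by rw [QuadraticMap.polar_comm]; exact hca, by rw [QuadraticMap.polar_comm]; exact hcb, fun s t u h => ?_⟩
    by_cases hu : u = 0
    · subst hu
      rw [zero_smul, add_zero] at h
      exact ⟨(hab s t h).1, (hab s t h).2, rfl⟩
    · refine absurd ?_ hcs
      rw [Matrix.range_cons_cons_empty]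
      refine Submodule.mem_span_pair.2 ⟨-(u⁻¹ * s), -(u⁻¹ * t), ?_⟩
      have h1 := congrArg (fun y => u⁻¹ • y) h
      simp only [smul_add, smul_smul, inv_mul_cancel₀ hu, one_smul, smul_zero] at h1
      rw [eq_neg_of_add_eq_zero_right h1]
      module
  have inOm : ∀ {e w : V}, OK Q e w → ∃ t ∈ Geo.omegaGL ⇑Q, (t : Mn) = eMat Q e w := fun {e w} h =>
    ⟨_, Subgroup.mem_map_of_mem _ (sR_le_omega hnd hT (eOG_mem hnd hT h)), eOG_val h⟩
  refine isMaximalIn_intro inf_le_right (fun hle => ?_) fun M hHM hMG g hgM hgH => ?_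
  · obtain ⟨a, ha0, ha, -⟩ := quad_exists_iso hnd (k := 0) (fun i => i.elim0) (by omega)
    obtain ⟨b, hb, hb1, -, hb2, hb3, -⟩ := hk.exists_common ha ha ha0 ha0
    have hab : B a b = 0 := by rw [QuadraticMap.polar_comm]; exact hb2
    obtain ⟨t, htO, htx⟩ := inOm (e := a) (w := b) ⟨ha, hab⟩
    obtain ⟨c, e, hce⟩ := (hK _).1 (((hle htO).1 j).1 hjK)
    have hmul : ∀ y, (t : Mn) *ᵥ (j *ᵥ y) = c • ((t : Mn) *ᵥ y) + e • (j *ᵥ ((t : Mn) *ᵥ y)) := fun y => by
      have h1 := congrArg (fun A : Mn => A *ᵥ ((t : Mn) *ᵥ y)) hce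
      simp only [← Matrix.mulVec_mulVec, inv_mulVec_cancel, Matrix.add_mulVec, Matrix.smul_mulVec,
        Matrix.one_mulVec] at h1
      exact h1
    obtain ⟨y, hy, hy0, -, y1, y2, y3, y4⟩ := hk.exists_common ha hb ha0 (fun h => hb1 (h ▸ zero_mem _))
    have hy00 : y ≠ 0 := fun h => hy0 (h ▸ zero_mem _)
    obtain ⟨q1, -⟩ := hk.perp_j y1 y2
    obtain ⟨q2, -⟩ := hk.perp_j y3 y4
    have h1 := hmul y
    simp only [htx, eMat_mulVec, QuadraticMap.polar_comm _ a y, QuadraticMap.polar_comm _ b y, y1, y3,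
      QuadraticMap.polar_comm _ a (j *ᵥ y), QuadraticMap.polar_comm _ b (j *ᵥ y), q1, q2, hb, mul_zero, zero_smul,
      add_zero, sub_zero] at h1
    obtain ⟨hc, he⟩ := hk.indep0 hy00 (c := c) (e := e - 1) (by linear_combination (norm := module) -h1)
    rw [sub_eq_zero] at he
    obtain ⟨z, hz1, hz2⟩ := exists_bilin_eq_one (QuadraticMap.polarBilin Q) hnd (Submodule.span F {b}) (x := a)
      (fun hmem => by
        obtain ⟨s, hs⟩ := Submodule.mem_span_singleton.1 hmem
        have hs0 : s ≠ 0 := fun h => ha0 (by rw [← hs, h, zero_smul])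
        exact hb1 (Submodule.mem_span_pair.2 ⟨s⁻¹, 0, by
          rw [← hs, smul_smul, inv_mul_cancel₀ hs0, one_smul, zero_smul, add_zero]⟩))
    have z1 : B z a = 1 := hz1
    have z2 : B z b = 0 := hz2 b (Submodule.mem_span_singleton_self b)
    have h3 := hmul z
    rw [hc, he, zero_smul, zero_add, one_smul, htx, eMat_mulVec, eMat_mulVec,
      QuadraticMap.polar_comm _ a z, QuadraticMap.polar_comm _ b z, z1, z2, hb] at h3
    simp only [one_smul, zero_smul, sub_zero, zero_mul, Matrix.mulVec_add] at h3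
    obtain ⟨-, h4⟩ := hk.indep (hk.span_inv a) hb1 (c := -(B a (j *ᵥ z))) (e := 1)
      (Submodule.mem_span_pair.2 ⟨-(B b (j *ᵥ z)), 0, by linear_combination (norm := module) h3⟩)
    exact one_ne_zero h4
  have hMi : ∀ {k : GL ι F}, k ∈ M → ∀ x, Q ((k : Mn) *ᵥ x) = Q x := fun {k} hkM => by
    obtain ⟨k', -, rfl⟩ := Subgroup.mem_map.1 (hMG hkM)
    exact mem_isometryGroup.1 k'.2
  have hMB : ∀ {k : GL ι F}, k ∈ M → ∀ x y, B ((k : Mn) *ᵥ x) ((k : Mn) *ᵥ y) = B x y := fun {k} hkM x y =>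
    isometry_polar (hMi hkM) x y
  -- unitary transvections
  have hU : ∀ v, Q v = 0 → ∀ c : F, ∃ t ∈ M, (t : Mn) = eMat Q v (c • (j *ᵥ v)) := fun v hv c => by
    have hok : OK Q v (c • (j *ᵥ v)) := ⟨hv, by
      rw [QuadraticMap.polar_smul_right, hk.qx, hv, mul_zero, smul_zero]⟩
    obtain ⟨t, htO, htx⟩ := inOm hok
    refine ⟨t, hHM ⟨fun k => ?_, htO⟩, htx⟩
    have hcomm : ∀ y, (t : Mn) *ᵥ (j *ᵥ y) = j *ᵥ ((t : Mn) *ᵥ y) := fun y => by
      simp only [htx, eMat_mulVec, QuadraticMap.map_smul, hk.qj, hv, mul_zero, zero_mul, smul_zero, zero_smul,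
        sub_zero, Matrix.mulVec_add, Matrix.mulVec_sub, Matrix.mulVec_smul, hk.sq, QuadraticMap.polar_smul_left,
        hk.adj, QuadraticMap.polar_add_right, QuadraticMap.polar_smul_right, smul_eq_mul]
      module
    have hc' : ∀ a b : F, (t : Mn) * (a • 1 + b • j) * ((t⁻¹ : GL ι F) : Mn) = a • 1 + b • j := fun a b => by
      refine Matrix.ext_iff_mulVec.2 fun y => ?_
      obtain ⟨z, rfl⟩ : ∃ z, (t : Mn) *ᵥ z = y := ⟨_, mulVec_inv_cancel t y⟩
      simp only [← Matrix.mulVec_mulVec, inv_mulVec_cancel, Matrix.add_mulVec, Matrix.smul_mulVec,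
        Matrix.one_mulVec, Matrix.mulVec_add, Matrix.mulVec_smul, hcomm]
    refine ⟨fun hk' => ?_, fun hk' => ?_⟩
    · obtain ⟨a, b, rfl⟩ := (hK k).1 hk'
      rw [hc']; exact hk'
    · obtain ⟨a, b, hab⟩ := (hK _).1 hk'
      refine (hK k).2 ⟨a, b, ?_⟩
      have h1 := hab.trans (hc' a b).symm
      rw [Units.mul_left_inj, Units.mul_right_inj] at h1
      exact h1
  have C_map : ∀ (a : V) (ha : Q a = 0) (k : GL ι F) (hkM : k ∈ M) (b : V), b ∈ CR (M := M) ha →
      (k : Mn) *ᵥ b ∈ CR (M := M) (show Q ((k : Mn) *ᵥ a) = 0 by rw [hMi hkM]; exact ha) :=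
    fun a ha k hkM b hb => ⟨by rw [hMB hkM]; exact hb.1, fun c => by
      obtain ⟨t, ht, htx⟩ := hb.2 c
      refine ⟨k * t * k⁻¹, mul_mem (mul_mem hkM ht) (inv_mem hkM), Matrix.ext_iff_mulVec.2 fun y => ?_⟩
      obtain ⟨z, rfl⟩ : ∃ z, (k : Mn) *ᵥ z = y := ⟨_, mulVec_inv_cancel k y⟩
      rw [Units.val_mul, Units.val_mul, ← Matrix.mulVec_mulVec, ← Matrix.mulVec_mulVec, inv_mulVec_cancel, htx,
        Matrix.mulVec_mulVec, isometry_eMat (hMi hkM) a (c • b), ← Matrix.mulVec_mulVec, Matrix.mulVec_smul]⟩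
  have C_symm : ∀ (a b : V) (ha : Q a = 0) (hb : Q b = 0), b ∈ CR (M := M) ha → a ∈ CR (M := M) hb :=
    fun a b ha hb h => ⟨by rw [QuadraticMap.polar_comm]; exact h.1, fun c => by
      obtain ⟨t, ht, htx⟩ := h.2 (-c)
      refine ⟨t, ht, htx.trans (Matrix.ext_iff_mulVec.2 fun y => ?_)⟩
      simp only [eMat_mulVec, QuadraticMap.map_smul, ha, hb, QuadraticMap.polar_smul_left, smul_eq_mul, mul_zero,
        zero_mul, zero_smul, sub_zero]
      module⟩
  -- the key step
  have key : ∀ (a : V) (ha : Q a = 0), a ≠ 0 → (∃ b ∈ CR (M := M) ha, b ∉ Submodule.span F {a, j *ᵥ a}) →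
      ∀ y, B y a = 0 → B y (j *ᵥ a) = 0 → y ∈ CR (M := M) ha := by
    intro a ha ha0 ⟨b, hb, hba⟩
    set C := CR (M := M) ha with hC
    set P := QuadraticMap.polarBilin Q
    have moves : ∀ u, Q u = 0 → B u a = 0 → B u (j *ᵥ a) = 0 → ∃ k ∈ M, (∀ y, (k : Mn) *ᵥ y =
        y + B u y • (j *ᵥ u) - B (j *ᵥ u) y • u) ∧ (k : Mn) *ᵥ a = a := fun u hu hua huja => by
      obtain ⟨t, ht, htx⟩ := hU u hu 1
      have hx : ∀ y, (t : Mn) *ᵥ y = y + B u y • (j *ᵥ u) - B (j *ᵥ u) y • u := fun y => by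
        rw [htx, one_smul, eMat_mulVec, hk.qj, hu, mul_zero, zero_mul, zero_smul, sub_zero]
      refine ⟨t, ht, hx, ?_⟩
      rw [hx, hua, (hk.perp_j hua huja).1, zero_smul, zero_smul, add_zero, sub_zero]
    have stab : ∀ u, Q u = 0 → B u a = 0 → B u (j *ᵥ a) = 0 → ∀ y ∈ C,
        B u y • (j *ᵥ u) - B (j *ᵥ u) y • u ∈ C := fun u hu hua huja y hy => by
      obtain ⟨k, hkM, hx, hka⟩ := moves u hu hua huja
      obtain ⟨h1, h2⟩ := C_map a ha k hkM y hy
      simp only [hka] at h1 h2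
      have h3 : (k : Mn) *ᵥ y ∈ C := ⟨h1, h2⟩
      have h4 := C.sub_mem h3 hy
      rwa [hx, show y + B u y • (j *ᵥ u) - B (j *ᵥ u) y • u - y = B u y • (j *ᵥ u) - B (j *ᵥ u) y • u by abel] at h4
    -- singular vectors Hermitian perpendicular to `a` span that space
    have hP : ∀ u u' : V, B u a = 0 → B u (j *ᵥ a) = 0 → B u' a = 0 → B u' (j *ᵥ a) = 0 → ∀ r s : F,
        B (r • u + s • u') a = 0 ∧ B (r • u + s • u') (j *ᵥ a) = 0 := fun u u' h1 h2 h3 h4 r s => by
      simp [QuadraticMap.polar_add_left, QuadraticMap.polar_smul_left, h1, h2, h3, h4]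
    obtain ⟨l, hl, hlp⟩ := hk.exists_perp_off a a
    have hl2 : l ∉ Submodule.span F (Set.range ![a, j *ᵥ a]) := fun h => hl (Submodule.span_mono (by
      rintro _ ⟨i, rfl⟩; fin_cases i
      · exact ⟨0, rfl⟩
      · exact ⟨1, rfl⟩) h)
    obtain ⟨e₀, he₀, he₀u, he₀l, -⟩ := quad_iso_off hnd ![a, j *ᵥ a] (l₁ := l) (l₂ := l) (Or.inr ⟨rfl, by omega⟩)
      hl2 hl2
    have la : B l a = 0 := by rw [QuadraticMap.polar_comm]; exact hlp 0
    have lja : B l (j *ᵥ a) = 0 := by rw [QuadraticMap.polar_comm]; exact hlp 1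
    have span : ∀ (x : V) (T : Submodule F V), (∀ u, Q u = 0 → B u a = 0 → B u (j *ᵥ a) = 0 → u ∈ T) →
        B x a = 0 → B x (j *ᵥ a) = 0 → x ∈ T := fun x T hT h1 h2 => by
      have one : ∀ x, B x a = 0 → B x (j *ᵥ a) = 0 → B e₀ x ≠ 0 → x ∈ T := fun x h1 h2 h3 => by
        obtain ⟨r, hr⟩ : ∃ r, r = Q x / B e₀ x := ⟨_, rfl⟩
        have hm := hT ((1 : F) • x + (-r) • e₀) (by
            rw [one_smul, quad_add_smul, he₀, QuadraticMap.polar_comm _ x, hr]; field_simp; ring)
          (hP x e₀ h1 h2 (he₀u 0) (he₀u 1) _ _).1 (hP x e₀ h1 h2 (he₀u 0) (he₀u 1) _ _).2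
        have := T.add_mem hm (T.smul_mem r (hT e₀ he₀ (he₀u 0) (he₀u 1)))
        rwa [one_smul, neg_smul, add_assoc, neg_add_cancel, add_zero] at this
      by_cases h3 : B e₀ x = 0
      · have hl3 := one l la lja he₀l
        have := T.sub_mem (one (x + l) (by rw [QuadraticMap.polar_add_left, h1, la, add_zero])
          (by rw [QuadraticMap.polar_add_left, h2, lja, add_zero])
          (by rw [QuadraticMap.polar_add_right, h3, zero_add]; exact he₀l)) hl3
        rwa [add_sub_cancel_right] at this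
      · exact one x h1 h2 h3
    -- a singular vector of `C` off the line of `a`
    obtain ⟨u₀, hu₀, hu₀a, hu₀ja, hu₀n, hu₀b⟩ : ∃ u, Q u = 0 ∧ B u a = 0 ∧ B u (j *ᵥ a) = 0 ∧
        u ∉ Submodule.span F {a, j *ᵥ a} ∧ B u b ≠ 0 := by
      by_contra hno
      push Not at hno
      obtain ⟨z, hz1, hz2⟩ := exists_bilin_eq_one P hnd _ hba
      have za : B z a = 0 := hz2 a (Submodule.subset_span (by simp))
      have zja : B z (j *ᵥ a) = 0 := hz2 _ (Submodule.subset_span (by simp))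
      have hzT := span z (LinearMap.ker (P.flip b)) (fun u hu h1 h2 => ?_) za zja
      · exact one_ne_zero (hz1.symm.trans hzT)
      · show B u b = 0
        by_cases hmem : u ∈ Submodule.span F {a, j *ᵥ a}
        · have he₀n : e₀ ∉ Submodule.span F {a, j *ᵥ a} := hk.not_mem_span he₀ he₀l (hlp 0) (hlp 1)
          have e1 := hno e₀ he₀ (he₀u 0) (he₀u 1) he₀n
          have hue : B u e₀ = 0 := by
            obtain ⟨r, s, rfl⟩ := Submodule.mem_span_pair.1 hmem
            simp [QuadraticMap.polar_add_left, QuadraticMap.polar_smul_left,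
              QuadraticMap.polar_comm _ a e₀, QuadraticMap.polar_comm _ (j *ᵥ a) e₀, show B e₀ a = 0 from he₀u 0,
              show B e₀ (j *ᵥ a) = 0 from he₀u 1]
          have e2 := hno (u + e₀) (by rw [quad_add, hu, he₀, hue]; ring)
            (by rw [QuadraticMap.polar_add_left, h1, show B e₀ a = 0 from he₀u 0, add_zero])
            (by rw [QuadraticMap.polar_add_left, h2, show B e₀ (j *ᵥ a) = 0 from he₀u 1, add_zero])
            fun h => he₀n (by simpa using Submodule.sub_mem _ h hmem)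
          rw [QuadraticMap.polar_add_left, e1, add_zero] at e2
          exact e2
        · exact hno u hu h1 h2 hmem
    obtain ⟨c, hcdef⟩ : ∃ c, c = B u₀ b • (j *ᵥ u₀) - B (j *ᵥ u₀) b • u₀ := ⟨_, rfl⟩
    have hcC : c ∈ C := hcdef ▸ stab u₀ hu₀ hu₀a hu₀ja b hb
    have hQc : Q c = 0 := by
      rw [hcdef, sub_eq_add_neg, ← neg_smul, quad_add_smul, QuadraticMap.map_smul, hu₀,
        QuadraticMap.polar_smul_left, QuadraticMap.polar_comm _ (j *ᵥ u₀) u₀, hk.qx, hk.qj, hu₀]
      simp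
    obtain ⟨hju₁, hju₂⟩ := hk.perp_j hu₀a hu₀ja
    have hca : B c a = 0 ∧ B c (j *ᵥ a) = 0 := by
      rw [hcdef, sub_eq_add_neg, ← neg_smul]
      exact hP _ _ hju₁ hju₂ hu₀a hu₀ja _ _
    have hcn : c ∉ Submodule.span F {a, j *ᵥ a} := fun hmem => hu₀b
      (hk.indep (hk.span_inv a) hu₀n (c := -(B (j *ᵥ u₀) b)) (e := B u₀ b)
        (by rwa [neg_smul, add_comm, ← sub_eq_add_neg, ← hcdef])).2
    -- a partner of `c`
    have hjc : j *ᵥ c ∉ Submodule.span F (Set.range ![a, j *ᵥ a, c]) := fun hmem => by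
      obtain ⟨f, hf⟩ := (Submodule.mem_span_range_iff_exists_fun F).1 hmem
      simp only [Fin.sum_univ_three, Matrix.cons_val_zero, Matrix.cons_val_one, Matrix.cons_val_two,
        Matrix.head_cons, Matrix.tail_cons] at hf
      exact one_ne_zero (hk.indep (hk.span_inv a) hcn (c := -(f 2)) (e := 1)
        (Submodule.mem_span_pair.2 ⟨f 0, f 1, by linear_combination (norm := module) hf⟩)).2
    obtain ⟨z, hz1, hz2⟩ := exists_bilin_eq_one P hnd _ hjc
    have za : B z a = 0 := hz2 a (Submodule.subset_span ⟨0, rfl⟩)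
    have zja : B z (j *ᵥ a) = 0 := hz2 _ (Submodule.subset_span ⟨1, rfl⟩)
    have zc : B z c = 0 := hz2 c (Submodule.subset_span ⟨2, rfl⟩)
    have zjc : B z (j *ᵥ c) = 1 := hz1
    obtain ⟨f, hfdef⟩ : ∃ f, f = z + (-(Q z)) • (j *ᵥ c) := ⟨_, rfl⟩
    obtain ⟨hjc1, hjc2⟩ := hk.perp_j hca.1 hca.2
    have hQf : Q f = 0 := by rw [hfdef, quad_add_smul, hk.qj, hQc, zjc]; ring
    have hfa : B f a = 0 := by rw [hfdef, QuadraticMap.polar_add_left, QuadraticMap.polar_smul_left, za, hjc1]; simp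
    have hfja : B f (j *ᵥ a) = 0 := by
      rw [hfdef, QuadraticMap.polar_add_left, QuadraticMap.polar_smul_left, zja, hjc2]; simp
    have hcjc : B c (j *ᵥ c) = 0 := by rw [hk.qx, hQc, mul_zero]
    have hfc : B f c = 0 := by
      rw [hfdef, QuadraticMap.polar_add_left, QuadraticMap.polar_smul_left, zc,
        QuadraticMap.polar_comm _ (j *ᵥ c) c, hcjc]; simp
    have hfjc : B f (j *ᵥ c) = 1 := by
      rw [hfdef, QuadraticMap.polar_add_left, QuadraticMap.polar_smul_left, zjc, OrthAut.polar_self2, hk.qj, hQc]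
      simp
    have hjfc : B (j *ᵥ f) c = -1 := by rw [hk.adj, hfc, hfjc]; ring
    have hfC : f ∈ C := by
      have := stab f hQf hfa hfja c hcC
      rwa [hfc, hjfc, zero_smul, neg_smul, one_smul, sub_neg_eq_add, zero_add] at this
    obtain ⟨hjf1, hjf2⟩ := hk.perp_j hfa hfja
    have hjfjc : B (j *ᵥ f) (j *ᵥ c) = 0 := by
      rw [hk.adj, hfjc, hk.sq, QuadraticMap.polar_add_right, QuadraticMap.polar_smul_right,
        QuadraticMap.polar_smul_right, hfc, hfjc]; simp
    have hfjf : B f (j *ᵥ f) = 0 := by rw [hk.qx, hQf, mul_zero]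
    obtain ⟨g₁, hg₁, hQg₁⟩ : ∃ g₁ ∈ LinearMap.BilinForm.orthogonal P
        (Submodule.span F (Set.range ![a, j *ᵥ a, c, j *ᵥ c, f, j *ᵥ f])), Q g₁ ≠ 0 := by
      by_contra hno
      push Not at hno
      set S := Submodule.span F (Set.range ![a, j *ᵥ a, c, j *ᵥ c, f, j *ᵥ f]) with hS
      have hrefl : P.IsRefl := fun p q h => by
        show B q p = 0
        rw [QuadraticMap.polar_comm]; exact h
      have hle : LinearMap.BilinForm.orthogonal P S ≤ Submodule.span F {a, j *ᵥ a} := fun s hs => by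
        have hsS : s ∈ LinearMap.BilinForm.orthogonal P (LinearMap.BilinForm.orthogonal P S) := fun y hy => by
          show B y s = 0
          rw [QuadraticMap.polar, hno _ (add_mem hy hs), hno _ hy, hno _ hs]; ring
        rw [LinearMap.BilinForm.orthogonal_orthogonal hnd hrefl] at hsS
        obtain ⟨r, hr⟩ := (Submodule.mem_span_range_iff_exists_fun F).1 hsS
        simp only [Fin.sum_univ_six, Matrix.cons_val] at hr
        have ac := hca.1
        rw [QuadraticMap.polar_comm] at ac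
        have r5 : r 5 = 0 := by
          have h := hs c (Submodule.subset_span ⟨2, rfl⟩)
          change B c s = 0 at h
          rw [← hr] at h
          simp [QuadraticMap.polar_add_right, QuadraticMap.polar_smul_right, hca.1, hca.2, OrthAut.polar_self2, hQc,
            hcjc, QuadraticMap.polar_comm _ c f, hfc, QuadraticMap.polar_comm _ c (j *ᵥ f), hjfc] at h
          exact h
        have r4 : r 4 = 0 := by
          have h := hs (j *ᵥ c) (Submodule.subset_span ⟨3, rfl⟩)
          change B (j *ᵥ c) s = 0 at h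
          rw [← hr] at h
          simp [QuadraticMap.polar_add_right, QuadraticMap.polar_smul_right, hjc1, hjc2, OrthAut.polar_self2, hk.qj,
            hQc, QuadraticMap.polar_comm _ (j *ᵥ c) c, hcjc, QuadraticMap.polar_comm _ (j *ᵥ c) f, hfjc,
            QuadraticMap.polar_comm _ (j *ᵥ c) (j *ᵥ f), hjfjc] at h
          exact h
        have r3 : r 3 = 0 := by
          have h := hs f (Submodule.subset_span ⟨4, rfl⟩)
          change B f s = 0 at h
          rw [← hr] at h
          simp [QuadraticMap.polar_add_right, QuadraticMap.polar_smul_right, hfa, hfja, hfc, hfjc, OrthAut.polar_self2,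
            hQf, hfjf] at h
          exact h
        have r2 : r 2 = 0 := by
          have h := hs (j *ᵥ f) (Submodule.subset_span ⟨5, rfl⟩)
          change B (j *ᵥ f) s = 0 at h
          rw [← hr] at h
          simp [QuadraticMap.polar_add_right, QuadraticMap.polar_smul_right, hjf1, hjf2, hjfc, hjfjc,
            OrthAut.polar_self2, hk.qj, hQf, QuadraticMap.polar_comm _ (j *ᵥ f) f, hfjf] at h
          exact h
        rw [← hr, r2, r3, r4, r5]
        exact Submodule.mem_span_pair.2 ⟨r 0, r 1, by simp⟩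
      have h1 := Submodule.finrank_mono hle
      have h2 := finrank_range_le_card (R := F) ![a, j *ᵥ a, c, j *ᵥ c, f, j *ᵥ f]
      rw [Set.finrank, Fintype.card_fin, ← hS] at h2
      have h3 := (finrank_span_le_card (R := F) ({a, j *ᵥ a} : Set V)).trans (show
        ({a, j *ᵥ a} : Set V).toFinset.card ≤ 2 by
          rw [Set.toFinset_insert, Set.toFinset_singleton]; exact Finset.card_le_two)
      rw [LinearMap.BilinForm.finrank_orthogonal hnd, finrank_pi] at h1
      omega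
    have gperp : ∀ i, B (![a, j *ᵥ a, c, j *ᵥ c, f, j *ᵥ f] i) g₁ = 0 := fun i =>
      hg₁ _ (Submodule.subset_span ⟨i, rfl⟩)
    have ga : B g₁ a = 0 := by rw [QuadraticMap.polar_comm]; exact gperp 0
    have gja : B g₁ (j *ᵥ a) = 0 := by rw [QuadraticMap.polar_comm]; exact gperp 1
    have gc : B g₁ c = 0 := by rw [QuadraticMap.polar_comm]; exact gperp 2
    have gjc : B g₁ (j *ᵥ c) = 0 := by rw [QuadraticMap.polar_comm]; exact gperp 3
    have gf : B g₁ f = 0 := by rw [QuadraticMap.polar_comm]; exact gperp 4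
    have gjf : B g₁ (j *ᵥ f) = 0 := by rw [QuadraticMap.polar_comm]; exact gperp 5
    obtain ⟨w, hwdef⟩ : ∃ w, w = c + Q g₁ • (j *ᵥ f) + g₁ := ⟨_, rfl⟩
    have hQw : Q w = 0 := by
      rw [hwdef, quad_add, quad_add_smul, hQc, hk.qj, hQf, QuadraticMap.polar_comm _ c (j *ᵥ f), hjfc,
        QuadraticMap.polar_add_left, QuadraticMap.polar_smul_left, QuadraticMap.polar_comm _ c g₁, gc,
        QuadraticMap.polar_comm _ (j *ᵥ f) g₁, gjf]
      simp
    have hwa : B w a = 0 := by
      simp [hwdef, QuadraticMap.polar_add_left, QuadraticMap.polar_smul_left, hca.1, hjf1, ga]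
    have hwja : B w (j *ᵥ a) = 0 := by
      simp [hwdef, QuadraticMap.polar_add_left, QuadraticMap.polar_smul_left, hca.2, hjf2, gja]
    have hwc : B w c = -(Q g₁) := by
      simp [hwdef, QuadraticMap.polar_add_left, QuadraticMap.polar_smul_left, OrthAut.polar_self2, hQc, hjfc, gc]
    have hwjc : B w (j *ᵥ c) = 0 := by
      simp [hwdef, QuadraticMap.polar_add_left, QuadraticMap.polar_smul_left, hcjc, hjfjc, gjc]
    have hwf : B w f = 0 := by
      simp [hwdef, QuadraticMap.polar_add_left, QuadraticMap.polar_smul_left, QuadraticMap.polar_comm _ c f, hfc,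
        QuadraticMap.polar_comm _ (j *ᵥ f) f, hfjf, gf]
    have hwjf : B w (j *ᵥ f) = -1 := by
      simp [hwdef, QuadraticMap.polar_add_left, QuadraticMap.polar_smul_left, QuadraticMap.polar_comm _ c (j *ᵥ f),
        hjfc, OrthAut.polar_self2, hk.qj, hQf, gjf]
    have hwC : w ∈ C := by
      have := stab w hQw hwa hwja f hfC
      rw [hwf, show B (j *ᵥ w) f = 1 by rw [hk.adj, hwf, hwjf]; ring, zero_smul, one_smul, zero_sub] at this
      simpa using C.neg_mem this
    have hjwC : j *ᵥ w ∈ C := by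
      have := stab w hQw hwa hwja c hcC
      rw [hwc, hk.adj, hwc, hwjc, sub_zero] at this
      have h2 := C.add_mem this (C.smul_mem (α * -(Q g₁)) hwC)
      rw [sub_add_cancel] at h2
      exact (C.smul_mem_iff (neg_ne_zero.2 hQg₁)).1 h2
    -- spreading one line of the extension
    have line : ∀ u v, u ∈ C → j *ᵥ u ∈ C → Q v = 0 → B v a = 0 → B v (j *ᵥ a) = 0 →
        ¬ (B v u = 0 ∧ B (j *ᵥ v) u = 0) → v ∈ C ∧ j *ᵥ v ∈ C := fun u v hu hju hv hva hvja hne => by
      have t1 := stab v hv hva hvja u hu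
      have t2 := stab v hv hva hvja _ hju
      obtain ⟨m, hm⟩ : ∃ m, m = B v u := ⟨_, rfl⟩
      obtain ⟨n, hn⟩ : ∃ n, n = B (j *ᵥ v) u := ⟨_, rfl⟩
      have e1 : B v (j *ᵥ u) = α * m - n := by rw [hm, hn, hk.adj]; ring
      have e2 : B (j *ᵥ v) (j *ᵥ u) = -γ * m := by
        rw [hk.adj, e1, hk.sq, QuadraticMap.polar_add_right, QuadraticMap.polar_smul_right,
          QuadraticMap.polar_smul_right, e1, ← hm, smul_eq_mul, smul_eq_mul]
        ring
      have hD : γ * m * m + n * (α * m - n) ≠ 0 := fun h => by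
        rcases eq_or_ne m 0 with hm0 | hm0
        · refine hne ⟨hm ▸ hm0, hn ▸ ?_⟩
          rw [hm0] at h
          exact mul_self_eq_zero.1 (by linear_combination -h)
        · exact hk.nroot (n / m) (by field_simp; linear_combination -h)
      rw [← hm, ← hn] at t1
      rw [e1, e2] at t2
      constructor
      · refine (C.smul_mem_iff hD).1 ?_
        have := C.sub_mem (C.smul_mem m t2) (C.smul_mem (α * m - n) t1)
        rwa [show m • ((α * m - n) • (j *ᵥ v) - (-γ * m) • v) - (α * m - n) • (m • (j *ᵥ v) - n • v) =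
          (γ * m * m + n * (α * m - n)) • v by module] at this
      · refine (C.smul_mem_iff hD).1 ?_
        have := C.add_mem (C.smul_mem (γ * m) t1) (C.smul_mem n t2)
        rwa [show (γ * m) • (m • (j *ᵥ v) - n • v) + n • ((α * m - n) • (j *ᵥ v) - (-γ * m) • v) =
          (γ * m * m + n * (α * m - n)) • (j *ᵥ v) by module] at this
    have hcw : ¬ (B c w = 0 ∧ B (j *ᵥ c) w = 0) := fun h => hQg₁ (by
      have := h.1
      rw [QuadraticMap.polar_comm, hwc, neg_eq_zero] at this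
      exact this)
    obtain ⟨-, hjcC⟩ := line w c hwC hjwC hQc hca.1 hca.2 hcw
    intro y hy1 hy2
    refine span y C (fun v hv hva hvja => ?_) hy1 hy2
    by_cases h1 : B v w = 0 ∧ B (j *ᵥ v) w = 0
    swap
    · exact (line w v hwC hjwC hv hva hvja h1).1
    by_cases h2 : B v c = 0 ∧ B (j *ᵥ v) c = 0
    swap
    · exact (line c v hcC hjcC hv hva hvja h2).1
    have h3 := (line w (c + v) hwC hjwC (by rw [quad_add, hQc, hv, QuadraticMap.polar_comm, h2.1]; ring)
      (by rw [QuadraticMap.polar_add_left, hca.1, hva, add_zero])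
      (by rw [QuadraticMap.polar_add_left, hca.2, hvja, add_zero]) fun h => hcw ⟨by
        have := h.1
        rwa [QuadraticMap.polar_add_left, h1.1, add_zero] at this, by
        have := h.2
        rwa [Matrix.mulVec_add, QuadraticMap.polar_add_left, h1.2, add_zero] at this⟩).1
    have h4 := C.sub_mem h3 hcC
    rwa [add_sub_cancel_left] at h4
  -- one plane that is not a line
  obtain ⟨a₀, ha₀, ha₀0, b₀, hb₀, hb₀a⟩ : ∃ a, ∃ ha : Q a = 0, a ≠ 0 ∧
      ∃ b ∈ CR (M := M) ha, b ∉ Submodule.span F {a, j *ᵥ a} := by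
    obtain ⟨v, hv, hoff⟩ : ∃ v, Q v = 0 ∧
        (g : Mn) *ᵥ (j *ᵥ v) ∉ Submodule.span F {(g : Mn) *ᵥ v, j *ᵥ ((g : Mn) *ᵥ v)} := by
      by_contra hall
      push Not at hall
      apply hgH
      refine ⟨?_, hMG hgM⟩
      set gi := ((g⁻¹ : GL ι F) : Mn) with hgi
      set J' : Mn := (g : Mn) * j * gi with hJ'
      have line : ∀ y, Q y = 0 → ∃ c e : F, J' *ᵥ y = c • y + e • (j *ᵥ y) := fun y hy => by
        obtain ⟨v, rfl⟩ : ∃ v, (g : Mn) *ᵥ v = y := ⟨_, mulVec_inv_cancel g y⟩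
        rw [hMi hgM] at hy
        obtain ⟨c, e, hce⟩ := Submodule.mem_span_pair.1 (hall v hy)
        refine ⟨c, e, ?_⟩
        rw [hce, hJ', hgi]
        simp only [← Matrix.mulVec_mulVec, inv_mulVec_cancel]
      choose! cf ef hcf using line
      have pair : ∀ x y, Q x = 0 → Q y = 0 → B y x = 0 → x ≠ 0 → y ∉ Submodule.span F {x, j *ᵥ x} →
          cf x = cf y ∧ ef x = ef y := fun x y hx hy hxy hx0 hyx => by
        have hs : Q (x + y) = 0 := by
          rw [quad_add, hx, hy, QuadraticMap.polar_comm, hxy]; ring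
        have h1 : J' *ᵥ (x + y) = J' *ᵥ x + J' *ᵥ y := Matrix.mulVec_add _ _ _
        rw [hcf x hx, hcf y hy, hcf _ hs, Matrix.mulVec_add] at h1
        obtain ⟨e1, e2⟩ := hk.indep (hk.span_inv x) hyx (c := cf (x + y) - cf y) (e := ef (x + y) - ef y)
          (Submodule.mem_span_pair.2 ⟨cf x - cf (x + y), ef x - ef (x + y),
            by linear_combination (norm := module) -h1⟩)
        rw [sub_eq_zero] at e1 e2
        obtain ⟨e3, e4⟩ := hk.indep0 hx0 (c := cf x - cf (x + y)) (e := ef x - ef (x + y)) (by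
          rw [← e1, ← e2] at h1
          linear_combination (norm := module) -h1)
        rw [sub_eq_zero] at e3 e4
        exact ⟨e3.trans e1, e4.trans e2⟩
      obtain ⟨x₀, hx₀0, hx₀, -⟩ := quad_exists_iso hnd (k := 0) (fun i => i.elim0) (by omega)
      have hiso : ∀ y, Q y = 0 → J' *ᵥ y = cf x₀ • y + ef x₀ • (j *ᵥ y) := fun y hy => by
        rcases eq_or_ne y 0 with rfl | hy0
        · simp
        obtain ⟨z, hz, hz1, hz2, z1, -, z3, -⟩ := hk.exists_common hx₀ hy hx₀0 hy0
        obtain ⟨a1, a2⟩ := pair x₀ z hx₀ hz z1 hx₀0 hz1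
        obtain ⟨b1, b2⟩ := pair y z hy hz z3 hy0 hz2
        rw [hcf y hy, b1, ← a1, b2, ← a2]
      have hall' : J' = cf x₀ • 1 + ef x₀ • j := Matrix.ext_iff_mulVec.2 fun y => by
        rw [Matrix.add_mulVec, Matrix.smul_mulVec, Matrix.smul_mulVec, Matrix.one_mulVec]
        rcases eq_or_ne (Q y) 0 with hy | hy
        · exact hiso y hy
        have hy0 : y ∉ Submodule.span F (Set.range fun i : Fin 0 => (i.elim0 : V)) := by
          simp only [Set.range_eq_empty, Submodule.span_empty, Submodule.mem_bot]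
          exact fun h => hy (by rw [h, QuadraticMap.map_zero])
        obtain ⟨v, hv, -, hvy, -⟩ := quad_iso_off hnd (fun i : Fin 0 => i.elim0) (l₁ := y) (l₂ := y)
          (Or.inr ⟨rfl, by omega⟩) hy0 hy0
        obtain ⟨r, hr⟩ : ∃ r, r = Q y / B v y := ⟨_, rfl⟩
        have h1 := hiso (y - r • v) (by
          rw [sub_eq_add_neg, ← neg_smul, quad_add_smul, hv, QuadraticMap.polar_comm _ y, hr]
          field_simp; ring)
        rw [Matrix.mulVec_sub, Matrix.mulVec_smul, hiso v hv, Matrix.mulVec_sub, Matrix.mulVec_smul,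
          sub_eq_iff_eq_add] at h1
        rw [h1]
        module
      set c := cf x₀
      set e := ef x₀
      have gg : (g : Mn) * gi = 1 := by rw [hgi, ← Units.val_mul, mul_inv_cancel, Units.val_one]
      have gg' : gi * (g : Mn) = 1 := by rw [hgi, ← Units.val_mul, inv_mul_cancel, Units.val_one]
      have he : e ≠ 0 := fun he => by
        have h1 : j = c • 1 := by
          have h2 : gi * J' * (g : Mn) = j := by
            rw [hJ', show gi * ((g : Mn) * j * gi) * (g : Mn) = gi * (g : Mn) * j * (gi * (g : Mn)) by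
              simp only [mul_assoc], gg', one_mul, mul_one]
          rw [← h2, hall', he, zero_smul, add_zero, mul_smul_comm, mul_one, smul_mul_assoc, gg']
        have h3 := hk.sq x₀
        rw [h1, Matrix.smul_mulVec, Matrix.one_mulVec, Matrix.smul_mulVec, Matrix.one_mulVec, smul_smul, smul_smul,
          ← add_smul] at h3
        exact hk.nroot c (smul_left_injective F hx₀0 h3)
      intro k
      refine ⟨fun hk' => ?_, fun hk' => ?_⟩
      · obtain ⟨a, b, rfl⟩ := (hK k).1 hk'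
        refine (hK _).2 ⟨a + b * c, b * e, ?_⟩
        rw [← hgi, mul_add, add_mul, mul_smul_comm, smul_mul_assoc, mul_one, gg, mul_smul_comm, smul_mul_assoc,
          ← hJ', hall']
        module
      · obtain ⟨a, b, hab⟩ := (hK _).1 hk'
        rw [← hgi] at hab
        refine (hK k).2 ⟨a - b * c / e, b / e, ?_⟩
        have hkey : (g : Mn) * k * gi = (g : Mn) * ((a - b * c / e) • 1 + (b / e) • j) * gi := by
          rw [hab, mul_add, add_mul, mul_smul_comm, smul_mul_assoc, mul_one, gg, mul_smul_comm, smul_mul_assoc,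
            ← hJ', hall']
          match_scalars <;> field_simp <;> ring
        have h5 := congrArg (fun A => gi * A * (g : Mn)) hkey
        simpa only [← mul_assoc, gg', one_mul, mul_assoc _ gi (g : Mn), mul_one] using h5
    have hv0 : v ≠ 0 := fun h => hoff (by simp [h])
    exact ⟨(g : Mn) *ᵥ v, by rw [hMi hgM, hv], fun h => hv0 (gl_mulVec_injective g (by simpa using h)),
      (g : Mn) *ᵥ (j *ᵥ v), C_map v hv g hgM _ ⟨by rw [hk.qx, hv, mul_zero], hU v hv⟩, hoff⟩
  -- Hermitian perps at every point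
  have all : ∀ (x : V) (hx : Q x = 0), x ≠ 0 → ∀ y, B y x = 0 → B y (j *ᵥ x) = 0 → y ∈ CR (M := M) hx := by
    intro x hx hx0
    obtain ⟨y, hy, hy1, hy2, y1, y2, y3, y4⟩ := hk.exists_common ha₀ hx ha₀0 hx0
    have hy0 : y ≠ 0 := fun h => hy1 (h ▸ zero_mem _)
    have ha₀y := C_symm a₀ y ha₀ hy (key a₀ ha₀ ha₀0 ⟨b₀, hb₀, hb₀a⟩ y y1 y2)
    have hna : a₀ ∉ Submodule.span F {y, j *ᵥ y} := fun hmem => by
      obtain ⟨s, t, hst⟩ := Submodule.mem_span_pair.1 hmem
      refine ha₀0 ?_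
      obtain ⟨h1, h2⟩ := hk.indep (hk.span_inv a₀) hy1 (c := s) (e := t)
        (by rw [hst]; exact Submodule.subset_span (by simp))
      rw [← hst, h1, h2, zero_smul, zero_smul, add_zero]
    have hxy : B x y = 0 := by rw [QuadraticMap.polar_comm]; exact y3
    have hxjy : B x (j *ᵥ y) = 0 := by
      rw [QuadraticMap.polar_comm, hk.adj, y3, y4]; ring
    exact key x hx hx0 ⟨y, C_symm y x hy hx (key y hy hy0 ⟨a₀, ha₀y, hna⟩ x hxy hxjy), hy2⟩
  -- all Siegel elements at singular vectors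
  have full : ∀ (a : V) (ha : Q a = 0), a ≠ 0 → ∀ b, B a b = 0 → b ∈ CR (M := M) ha := by
    intro a ha ha0 b hab
    have hja : j *ᵥ a ∉ Submodule.span F (Set.range ![a]) := fun h => by
      rw [Matrix.range_cons, Matrix.range_empty, Set.union_empty] at h
      obtain ⟨s, hs⟩ := Submodule.mem_span_singleton.1 h
      exact one_ne_zero (neg_eq_zero.1 (hk.indep0 ha0 (c := s) (e := -1) (by rw [hs]; module)).2)
    obtain ⟨q, hq, hqu, hqja, -⟩ := quad_iso_off hnd ![a] (l₁ := j *ᵥ a) (l₂ := j *ᵥ a)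
      (Or.inr ⟨rfl, by omega⟩) hja hja
    obtain ⟨p, hp, hpa, hpq, p1, p2, p3, p4⟩ := hk.exists_common ha hq ha0 (fun h => hqja (by simp [h]))
    have hp0 : p ≠ 0 := fun h => hpa (h ▸ zero_mem _)
    have hqp : q ∈ CR (M := M) hp :=
      all p hp hp0 q (by rw [QuadraticMap.polar_comm]; exact p3)
        (by rw [QuadraticMap.polar_comm, hk.adj, p3, p4]; ring)
    obtain ⟨k, hkM, hkx⟩ := hqp.2 1
    rw [one_smul] at hkx
    have kx : ∀ y, (k : Mn) *ᵥ y = y + B p y • q - B q y • p := fun y => by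
      rw [hkx, eMat_mulVec, hq, zero_mul, zero_smul, sub_zero]
    have hka : (k : Mn) *ᵥ a = a := by rw [kx, p1, show B q a = 0 from hqu 0]; module
    have hnot : p ∉ Submodule.span F {a, j *ᵥ a} := hpa
    obtain ⟨w, hw1, hw2⟩ := exists_bilin_eq_one (QuadraticMap.polarBilin Q) hnd _ hnot
    have wa : B w a = 0 := hw2 a (Submodule.subset_span (by simp))
    have wja : B w (j *ᵥ a) = 0 := hw2 _ (Submodule.subset_span (by simp))
    obtain ⟨e1, e2⟩ := C_map a ha k hkM w (all a ha ha0 w wa wja)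
    simp only [hka] at e1 e2
    have hkw : (k : Mn) *ᵥ w ∈ CR (M := M) ha := ⟨e1, e2⟩
    obtain ⟨η, hη⟩ : ∃ η, η = B ((k : Mn) *ᵥ w) (j *ᵥ a) := ⟨_, rfl⟩
    have hη0 : η ≠ 0 := by
      rw [hη, kx, QuadraticMap.polar_sub_left, QuadraticMap.polar_add_left, QuadraticMap.polar_smul_left,
        QuadraticMap.polar_smul_left, wja, p2, QuadraticMap.polar_comm _ p w, show B w p = 1 from hw1, one_smul,
        smul_zero, zero_add, sub_zero]
      exact hqja
    obtain ⟨r, hr⟩ : ∃ r, r = B b (j *ᵥ a) / η := ⟨_, rfl⟩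
    have hba : B b a = 0 := by rw [QuadraticMap.polar_comm]; exact hab
    have h3 := all a ha ha0 (b - r • ((k : Mn) *ᵥ w))
      (by rw [QuadraticMap.polar_sub_left, QuadraticMap.polar_smul_left, hba,
            QuadraticMap.polar_comm _ _ a, e1, smul_zero, sub_zero])
      (by rw [QuadraticMap.polar_sub_left, QuadraticMap.polar_smul_left, ← hη, hr, smul_eq_mul,
            div_mul_cancel₀ _ hη0, sub_self])
    have h4 := (CR (M := M) ha).add_mem h3 ((CR (M := M) ha).smul_mem r hkw)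
    rwa [sub_add_cancel] at h4
  refine omegaGL_le_of_roots hnd hT fun a b hab => ?_
  obtain ⟨t, ht, htx⟩ := (full a hab.1 hab.left_ne b hab.2.2.1).2 1
  exact ⟨t, ht, by rw [htx, one_smul]⟩

/-- Normalisers of quadratic extensions acting by similitudes are maximal in `Ω`. -/
theorem orthogonal_unitary_overfield_maximal [Fintype F] (hn : 10 ≤ Fintype.card ι) (Q₀ : (ι → F) → F)
    (hQ₀ : Geo.IsNondegenerateQuadraticForm Q₀) (K : Subalgebra F Mn) (hK : Geo.IsFieldSubalgebra 2 K)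
    (hac : Geo.IsAdjointClosedFor (QuadraticMap.polar Q₀) K)
    (hnsa : ¬ Geo.IsSelfAdjointFor (QuadraticMap.polar Q₀) K)
    (hsc : ∀ k ∈ K, ∃ c : F, ∀ v : ι → F, Q₀ (k *ᵥ v) = c * Q₀ v) :
    Geo.IsMaximalIn (Geo.omegaGL Q₀) (Geo.subalgebraNormalizer K ⊓ Geo.omegaGL Q₀) := by
  classical
  obtain ⟨Qf, hQf⟩ : ∃ Qf : QuadraticForm F V, ⇑Qf = Q₀ :=
    ⟨QuadraticMap.ofPolar Q₀ (fun a x => by rw [hQ₀.smul, smul_eq_mul, sq])
      (fun x x' y => hQ₀.polar_bilinear.add_left x x' y) (fun a x y => hQ₀.polar_bilinear.smul_left a x y), rfl⟩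
  subst hQf
  have hnd : (QuadraticMap.polarBilin Qf).Nondegenerate := by
    have key : ∀ u, (∀ v, QuadraticMap.polar ⇑Qf v u = 0) → u = 0 := fun u hu => by
      by_contra h0
      obtain ⟨x, hx⟩ := (hQ₀.nondegenerate u h0).1
      exact hx (hu x)
    exact ⟨fun u hu => key u fun v => by rw [QuadraticMap.polar_comm]; exact hu v, fun u hu => key u hu⟩
  obtain ⟨i₀⟩ : Nonempty ι := Fintype.card_pos_iff.1 (by omega)
  have hone : (1 : Mn) ≠ 0 := fun h => by simpa using congrFun (congrFun h i₀) i₀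
  obtain ⟨k, hkK, hks⟩ : ∃ k ∈ K, ∀ a : F, k ≠ a • 1 := by
    by_contra hc
    push Not at hc
    have hsub : Subalgebra.toSubmodule K ≤ Submodule.span F {(1 : Mn)} := fun k hk => by
      obtain ⟨a, rfl⟩ := hc k hk
      exact Submodule.mem_span_singleton.2 ⟨a, rfl⟩
    have h1 := Submodule.finrank_mono hsub
    rw [finrank_span_singleton hone] at h1
    have h3 : finrank F (Subalgebra.toSubmodule K) = 2 := hK.finrank_eq
    omega
  have hind : ∀ a b : F, a • (1 : Mn) + b • k = 0 → a = 0 ∧ b = 0 := fun a b h => by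
    by_cases hb : b = 0
    · subst hb
      rw [zero_smul, add_zero, smul_eq_zero] at h
      exact ⟨h.resolve_right hone, rfl⟩
    · refine absurd ?_ (hks (-(b⁻¹ * a)))
      have h1 := congrArg (fun A : Mn => b⁻¹ • A) h
      simp only [smul_add, smul_smul, inv_mul_cancel₀ hb, one_smul, smul_zero] at h1
      rw [neg_smul]
      exact eq_neg_of_add_eq_zero_right h1
  have hspan : ∀ x, x ∈ K ↔ ∃ a b : F, x = a • 1 + b • k := fun x => by
    refine ⟨fun hx => ?_, fun ⟨a, b, h⟩ => h ▸ K.add_mem (K.smul_mem K.one_mem _) (K.smul_mem hkK _)⟩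
    have heq : Submodule.span F {(1 : Mn), k} = Subalgebra.toSubmodule K := by
      refine Submodule.eq_of_le_of_finrank_eq (Submodule.span_le.2 ?_) ?_
      · rintro y (rfl | rfl)
        · exact K.one_mem
        · exact hkK
      · have hli : LinearIndependent F ![(1 : Mn), k] := LinearIndependent.pair_iff.2 hind
        have h1 := finrank_span_eq_card hli
        rw [Matrix.range_cons_cons_empty, Fintype.card_fin] at h1
        exact h1.trans hK.finrank_eq.symm
    have h1 : x ∈ Submodule.span F {(1 : Mn), k} := heq ▸ hx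
    obtain ⟨a, b, hab⟩ := Submodule.mem_span_pair.1 h1
    exact ⟨a, b, hab.symm⟩
  obtain ⟨γ, α, hkk⟩ := (hspan _).1 (K.mul_mem hkK hkK)
  have hsq : ∀ x, k *ᵥ (k *ᵥ x) = α • (k *ᵥ x) + γ • x := fun x => by
    rw [Matrix.mulVec_mulVec, hkk, Matrix.add_mulVec, Matrix.smul_mulVec, Matrix.smul_mulVec, Matrix.one_mulVec,
      add_comm]
  have hroot : ∀ t : F, t * t ≠ α * t + γ := fun t ht => by
    have hne : k - t • (1 : Mn) ≠ 0 := fun h => hks t (sub_eq_zero.1 h)
    obtain ⟨y, -, hy⟩ := hK.inv (k - t • 1) (K.sub_mem hkK (K.smul_mem K.one_mem _)) hne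
    have h1 : (k + (t - α) • 1) * (k - t • 1) = 0 := by
      rw [mul_sub, add_mul, add_mul, hkk, smul_mul_assoc, mul_smul_comm, one_mul, mul_one, smul_mul_assoc, one_mul,
        show γ = t * t - α * t by linear_combination -ht]
      module
    have h3 := congrArg (fun A => A * y) h1
    simp only [mul_assoc, hy, mul_one, zero_mul] at h3
    refine hks (α - t) ?_
    rw [eq_neg_of_add_eq_zero_left h3]
    module
  obtain ⟨k', hk', hadj⟩ := hac k hkK
  obtain ⟨c, e, rfl⟩ := (hspan k').1 hk'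
  set P := QuadraticMap.polar ⇑Qf with hP
  have hadj' : ∀ u v, P (k *ᵥ u) v = c * P u v + e * P u (k *ᵥ v) := fun u v => by
    rw [hadj, Matrix.add_mulVec, Matrix.smul_mulVec, Matrix.smul_mulVec, Matrix.one_mulVec, hP,
      QuadraticMap.polar_add_right, QuadraticMap.polar_smul_right, QuadraticMap.polar_smul_right, smul_eq_mul,
      smul_eq_mul]
  have hP0 : ∀ x : V, x ≠ 0 → ∃ u, P u x ≠ 0 := fun x hx => (hQ₀.nondegenerate x hx).1
  have hone' : ∃ v : V, v ≠ 0 := ⟨Pi.single i₀ 1, fun h => by simpa using congrFun h i₀⟩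
  have symm_adj : ∀ u v, c * (1 + e) * P u v + (e * e - 1) * P u (k *ᵥ v) = 0 := fun u v => by
    have h1 := hadj' u v
    have h2 := hadj' v u
    rw [hP, QuadraticMap.polar_comm _ (k *ᵥ v) u, QuadraticMap.polar_comm _ v u,
      QuadraticMap.polar_comm _ v (k *ᵥ u)] at h2
    linear_combination -h2 - e * h1
  have kzero : ∀ p r : F, (∀ u v, p * P u v + r * P u (k *ᵥ v) = 0) → p = 0 ∧ r = 0 := fun p r h => by
    refine hind p r (Matrix.ext_iff_mulVec.2 fun v => ?_)
    rw [Matrix.zero_mulVec]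
    by_contra hne
    obtain ⟨u, hu⟩ := hP0 _ hne
    refine hu ?_
    rw [Matrix.add_mulVec, Matrix.smul_mulVec, Matrix.smul_mulVec, Matrix.one_mulVec, hP,
      QuadraticMap.polar_add_right, QuadraticMap.polar_smul_right, QuadraticMap.polar_smul_right]
    simpa using h u v
  obtain ⟨hc1, he1⟩ := kzero _ _ symm_adj
  have hminpoly : ∀ u v, (c * c + e * e * γ - α * c - γ) * P u v + (2 * c * e + e * e * α - α * e) * P u (k *ᵥ v) = 0 :=
    fun u v => by
    have h1 := congrArg (fun y => P y v) (hsq u)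
    simp only [hP, QuadraticMap.polar_add_left, QuadraticMap.polar_smul_left, smul_eq_mul] at h1
    rw [← hP, hadj', hadj', hadj', hsq, hP, QuadraticMap.polar_add_right, QuadraticMap.polar_smul_right,
      QuadraticMap.polar_smul_right, ← hP, smul_eq_mul, smul_eq_mul] at h1
    linear_combination h1
  obtain ⟨hm1, hm2⟩ := kzero _ _ hminpoly
  have he : e * e = 1 := by linear_combination he1
  have hcc : c * (c - α) = 0 := by linear_combination hm1 - γ * he
  have he0 : e ≠ 0 := fun h => by rw [h, mul_zero] at he; exact zero_ne_one he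
  have h5 : 2 * c + e * α - α = 0 :=
    (mul_eq_zero.1 (show e * (2 * c + e * α - α) = 0 by linear_combination hm2)).resolve_left he0
  have selfadj : c = 0 → e = 1 → False := fun h1 h2 => hnsa fun x hx u v => by
    obtain ⟨a, b, rfl⟩ := (hspan x).1 hx
    have h3 := hadj' u v
    rw [h1, h2] at h3
    simp only [hP] at h3
    simp only [hP, Matrix.add_mulVec, Matrix.smul_mulVec, Matrix.one_mulVec, QuadraticMap.polar_add_left,
      QuadraticMap.polar_add_right, QuadraticMap.polar_smul_left, QuadraticMap.polar_smul_right, h3, smul_eq_mul]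
    ring
  have hcα : c = α ∧ e = -1 := by
    rcases mul_self_eq_one_iff.1 he with h1 | h1
    · subst h1
      have h2c : 2 * c = 0 := by linear_combination hc1
      by_cases h2 : (2 : F) = 0
      · refine ⟨?_, by linear_combination h2⟩
        rcases mul_eq_zero.1 hcc with h | h
        · exact absurd rfl (fun _ : (1 : F) = 1 => selfadj h rfl)
        · exact sub_eq_zero.1 h
      · exact absurd rfl (fun _ : (1 : F) = 1 => selfadj ((mul_eq_zero.1 h2c).resolve_left h2) rfl)
    · refine ⟨?_, h1⟩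
      subst h1
      by_cases h2 : (2 : F) = 0
      · rcases mul_eq_zero.1 hcc with h | h
        · exact absurd rfl (fun _ : (1 : F) = 1 => selfadj h (by linear_combination -h2))
        · exact sub_eq_zero.1 h
      · exact sub_eq_zero.1 ((mul_eq_zero.1 (show 2 * (c - α) = 0 by linear_combination h5)).resolve_left h2)
  obtain ⟨rfl, rfl⟩ := hcα
  have hkB : ∀ u v, P (k *ᵥ u) (k *ᵥ v) = -γ * P u v := fun u v => by
    rw [hadj', hsq, hP, QuadraticMap.polar_add_right, QuadraticMap.polar_smul_right, QuadraticMap.polar_smul_right,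
      smul_eq_mul, smul_eq_mul]
    ring
  obtain ⟨v₀, hv₀⟩ := hone'
  obtain ⟨u₀, hu₀⟩ := hP0 v₀ hv₀
  have hqj : ∀ x, Qf (k *ᵥ x) = -γ * Qf x := by
    obtain ⟨r, hr⟩ := hsc k hkK
    have h1 : P (k *ᵥ u₀) (k *ᵥ v₀) = r * P u₀ v₀ := by
      simp only [hP, QuadraticMap.polar, ← Matrix.mulVec_add, hr]; ring
    rw [hkB] at h1
    intro x
    rw [hr, mul_right_cancel₀ hu₀ h1.symm]
  have hqx : ∀ x, QuadraticMap.polar ⇑Qf x (k *ᵥ x) = c * Qf x := by
    obtain ⟨r, hr⟩ := hsc (1 + k) (K.add_mem K.one_mem hkK)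
    have h1 : ∀ x, P x (k *ᵥ x) = (r - 1 + γ) * Qf x := fun x => by
      have h2 := hr x
      rw [Matrix.add_mulVec, Matrix.one_mulVec, quad_add, hqj] at h2
      rw [hP]
      linear_combination h2
    have h2 := h1 (u₀ + v₀)
    rw [Matrix.mulVec_add, hP, QuadraticMap.polar_add_left, QuadraticMap.polar_add_right,
      QuadraticMap.polar_add_right, quad_add, ← hP, h1, h1] at h2
    have h3 := hadj' u₀ v₀
    rw [hP, QuadraticMap.polar_comm _ (k *ᵥ u₀) v₀, ← hP] at h3
    have h4 : r - 1 + γ = c := mul_right_cancel₀ hu₀ (by linear_combination -h2 + h3)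
    intro x
    rw [← h4]; exact h1 x
  refine KJ.maximal (α := c) (γ := γ) ⟨hsq, hroot, fun x y => ?_, hqj, hqx, hnd, hn⟩ K hspan
  rw [← hP, hadj']; ring

end Cfsg.Agent.Classical.MaxTv
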