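import Cfsg.Agent.Lib.Classical.MaxOrthWreath

/-!
Stabilisers of orthogonal decompositions into isometric spaces of dimension at least three are maximal in
odd characteristic.
-/

set_option autoImplicit false
set_option linter.unusedSectionVars false
set_option quotPrecheck false

namespace Cfsg.Agent.Classical.MaxTv

open Matrix Module OrthAut

variable {F : Type*} [Field F] [Fintype F] {ι : Type} [Fintype ι] [DecidableEq ι] {Q : QuadraticForm F (ι → F)}

local notation "V" => (ι → F)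
local notation "Mn" => Matrix ι ι F
local notation "B" => QuadraticMap.polar ⇑Q

namespace OWr

variable {M : Subgroup (GL ι F)} {t k : ℕ} {D : Fin t → Submodule F (ι → F)}
  {p : Fin t → ((ι → F) →ₗ[F] (ι → F))} (hW : OWr Q M D p k)
include hW

theorem block_inj {z : V} (hz : z ≠ 0) {a b : Fin t} (ha : z ∈ D a) (hb : z ∈ D b) : a = b := by
  by_contra hab
  exact hz (by rw [← hW.proj.self a z ha, hW.proj.other a b hab z hb])

/-- An element of a tight overgroup moves a summand to a summand, or has rank at most one everywhere. -/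
theorem rank_one (hT : Tight Q M D) {h : GL ι F} (hh : h ∈ M) (i : Fin t)
    (hi : ¬ ∃ j, ∀ z ∈ D i, (h : Mn) *ᵥ z ∈ D j) (a : Fin t) :
    ∃ e : V, ∀ z ∈ D i, p a ((h : Mn) *ᵥ z) ∈ Submodule.span F {e} := by
  have h2 := hW.two
  have hk := hW.three
  have hd : 3 ≤ finrank F (D i) := by rw [hW.dim]; exact hk
  obtain ⟨f, hf⟩ : ∃ f : V →ₗ[F] V, f = (p a).comp (Matrix.toLin' (h : Mn)) := ⟨_, rfl⟩
  have hfa : ∀ z, f z = p a ((h : Mn) *ᵥ z) := fun z => by rw [hf, LinearMap.comp_apply, Matrix.toLin'_apply]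
  have hmv : ∀ q ∈ D i, q ≠ 0 → ∀ hQ : Q q = 0, ∀ z ∈ D i, B q z = 0 →
      (h : Mn) *ᵥ z ∈ CR (M := M) (show Q ((h : Mn) *ᵥ q) = 0 by rw [hW.iso h hh, hQ]) :=
    fun q hq _ hQ z hz hqz => hW.cr_map hh hQ _ (hW.cr_block hq hQ hz hqz)
  -- spread points
  have spread : ∀ q ∈ D i, q ≠ 0 → Q q = 0 → (∀ j, (h : Mn) *ᵥ q ∉ D j) → ∀ z ∈ D i, B q z = 0 →
      f z ∈ Submodule.span F {f q} := by
    intro q hq hq0 hQ hout z hz hqz
    rw [hfa, hfa]
    refine hW.line hT _ hout (fun h3 => ?_) (hmv q hq hq0 hQ z hz hqz) a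
    obtain ⟨q', hq', hQ', hqq, c, hc, hQc, hqc, hq'c⟩ := (hW.ndD i).exists_frame hd hq hq0 hQ
    refine ⟨(h : Mn) *ᵥ c, hmv q hq hq0 hQ c hc hqc, by rw [hW.iso h hh]; exact hQc, fun y hy => ?_⟩
    obtain ⟨y', rfl⟩ : ∃ y', (h : Mn) *ᵥ y' = y := ⟨_, mulVec_inv_cancel h y⟩
    have hy' : y' ∈ CR (M := M) hQ := by
      have h1 := hW.cr_map (inv_mem hh) _ (show Q (((h⁻¹ : GL ι F) : Mn) *ᵥ ((h : Mn) *ᵥ q)) = 0 by
        rw [inv_mulVec_cancel]; exact hQ) hy
      simpa only [inv_mulVec_cancel] using h1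
    have hy'D : y' ∈ D i := hT i q hq hq0 hQ y' hy'
    have hspan : Submodule.span F {q, c} = D i ⊓ LinearMap.ker (QuadraticMap.polarBilin Q q) := by
      refine Submodule.eq_of_le_of_finrank_le (Submodule.span_le.2 ?_) ?_
      · rintro w (rfl | rfl)
        exacts [⟨hq, show B w w = 0 by rw [polar_self2, hQ, mul_zero]⟩, ⟨hc, hqc⟩]
      · have hli : LinearIndependent F ![q, c] := li2 fun c₁ c₂ e => by
          have h1 := congrArg (B c) e
          rw [polar_lin_right, QuadraticMap.polar_comm _ c q, hqc, polar_self2, QuadraticMap.polar_zero_right,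
            mul_zero, zero_add] at h1
          have hc₂ := (mul_eq_zero.1 h1).resolve_right (mul_ne_zero h2 hQc)
          rw [hc₂, zero_smul, add_zero, smul_eq_zero] at e
          exact ⟨e.resolve_right hq0, hc₂⟩
        have hd2 := finrank_span_eq_card hli
        rw [Matrix.range_cons_cons_empty, Fintype.card_fin] at hd2
        rw [hd2]
        have hlt : D i ⊓ LinearMap.ker (QuadraticMap.polarBilin Q q) < D i :=
          lt_of_le_of_ne inf_le_left fun e => one_ne_zero (hqq.symm.trans (show B q q' = 0 from (e.symm ▸ hq').2))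
        have := Submodule.finrank_lt_finrank_of_lt hlt
        rw [hW.dim i] at this
        omega
    obtain ⟨r, s, hrs⟩ := Submodule.mem_span_pair.1
      (hspan.symm ▸ (show y' ∈ D i ⊓ LinearMap.ker (QuadraticMap.polarBilin Q q) from ⟨hy'D, hy'.1⟩))
    exact ⟨r, s, by rw [← hrs, Matrix.mulVec_add, Matrix.mulVec_smul, Matrix.mulVec_smul]⟩
  -- points going into a summand
  have single : ∀ q ∈ D i, q ≠ 0 → Q q = 0 → ∀ b, (h : Mn) *ᵥ q ∈ D b → ∀ z ∈ D i, B q z = 0 →
      (h : Mn) *ᵥ z ∈ D b :=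
    fun q hq hq0 hQ b hb z hz hqz =>
      hT b _ hb (fun e => hq0 (gl_mulVec_injective h (e.trans (Matrix.mulVec_zero _).symm))) _ _
        (hmv q hq hq0 hQ z hz hqz)
  obtain ⟨q₀, hq₀, hq₀0, hQ₀, huniq⟩ : ∃ q₀ ∈ D i, q₀ ≠ 0 ∧ Q q₀ = 0 ∧
      ∀ q ∈ D i, q ≠ 0 → Q q = 0 → q ∉ Submodule.span F {q₀} → ∀ j, (h : Mn) *ᵥ q ∉ D j := by
    obtain ⟨s, hs, hs0, hQs⟩ := exists_singular_in (Q := Q) (W := D i) (fun w hw hw0 => hW.ndD i w hw hw0) hd
    by_cases hone : ∃ q ∈ D i, q ≠ 0 ∧ Q q = 0 ∧ ∃ j, (h : Mn) *ᵥ q ∈ D j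
    · obtain ⟨q₁, hq₁, hq₁0, hQ₁, b, hb⟩ := hone
      refine ⟨q₁, hq₁, hq₁0, hQ₁, fun q hq hq0 hQ hnot j hj => hi ⟨b, fun z hz => ?_⟩⟩
      -- a common vector
      obtain ⟨w, hw, hw0⟩ := Submodule.exists_mem_ne_zero_of_ne_bot
        (p := D i ⊓ LinearMap.ker (QuadraticMap.polarBilin Q q₁) ⊓ LinearMap.ker (QuadraticMap.polarBilin Q q))
        fun e => by
          have h1 := finrank_le_inf_ker_add_one (D i) (QuadraticMap.polarBilin Q q₁)
          have h1' := finrank_le_inf_ker_add_one (D i ⊓ LinearMap.ker (QuadraticMap.polarBilin Q q₁))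
            (QuadraticMap.polarBilin Q q)
          rw [e, finrank_bot] at h1'; omega
      obtain rfl : b = j := hW.block_inj (fun e => hw0 (gl_mulVec_injective h (e.trans (Matrix.mulVec_zero _).symm)))
        (single q₁ hq₁ hq₁0 hQ₁ b hb w hw.1.1 hw.1.2) (single q hq hq0 hQ j hj w hw.1.1 hw.2)
      -- the two hyperplanes span
      obtain ⟨e, he, hqe, hq₁e⟩ : ∃ e ∈ D i, B q e = 0 ∧ B q₁ e ≠ 0 := by
        by_contra hc
        push Not at hc
        have hmem := (hW.ndD i).mem_span_of_perp hq₁ hq fun c hc' h' => by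
          rw [QuadraticMap.polar_comm]; exact hc c hc' (by rw [QuadraticMap.polar_comm]; exact h')
        obtain ⟨r, hr⟩ := Submodule.mem_span_singleton.1 hmem
        refine hnot (Submodule.mem_span_singleton.2 ⟨r⁻¹, ?_⟩)
        rw [← hr, inv_smul_smul₀]
        exact fun h0 => hq₁0 (by rw [← hr, h0, zero_smul])
      have h1 := single q₁ hq₁ hq₁0 hQ₁ b hb (z - (B q₁ z / B q₁ e) • e)
        ((D i).sub_mem hz ((D i).smul_mem _ he)) (by
          rw [QuadraticMap.polar_sub_right, QuadraticMap.polar_smul_right, smul_eq_mul, div_mul_cancel₀ _ hq₁e,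
            sub_self])
      have h2' := (D b).add_mem h1 ((D b).smul_mem (B q₁ z / B q₁ e) (single q hq hq0 hQ b hj e he hqe))
      rwa [← Matrix.mulVec_smul, ← Matrix.mulVec_add, sub_add_cancel] at h2'
    · push Not at hone
      exact ⟨s, hs, hs0, hQs, fun q hq hq0 hQ _ => hone q hq hq0 hQ⟩
  obtain ⟨q₁, hq₁, hQ₁, h01, c, hc, hQc, h0c, h1c⟩ := (hW.ndD i).exists_frame hd hq₀ hq₀0 hQ₀
  have h00 : B q₀ q₀ = 0 := by rw [polar_self2, hQ₀, mul_zero]
  have h11 : B q₁ q₁ = 0 := by rw [polar_self2, hQ₁, mul_zero]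
  have hpt : ∀ r : F, ∀ z ∈ D i, B (q₁ + r • c - (r * r * Q c) • q₀) z = 0 →
      f z ∈ Submodule.span F {f (q₁ + r • c - (r * r * Q c) • q₀)} := by
    intro r
    have hm : q₁ + r • c - (r * r * Q c) • q₀ ∈ D i :=
      (D i).sub_mem ((D i).add_mem hq₁ ((D i).smul_mem _ hc)) ((D i).smul_mem _ hq₀)
    have hB : B q₀ (q₁ + r • c - (r * r * Q c) • q₀) = 1 := by
      rw [QuadraticMap.polar_sub_right, QuadraticMap.polar_add_right, QuadraticMap.polar_smul_right,
        QuadraticMap.polar_smul_right, h01, h0c, h00, smul_zero, smul_zero, add_zero, sub_zero]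
    have hns : q₁ + r • c - (r * r * Q c) • q₀ ∉ Submodule.span F {q₀} := fun hmem => by
      obtain ⟨s, hs⟩ := Submodule.mem_span_singleton.1 hmem
      rw [← hs, QuadraticMap.polar_smul_right, h00, smul_zero] at hB
      exact zero_ne_one hB
    have hn0 : q₁ + r • c - (r * r * Q c) • q₀ ≠ 0 := fun e => hns (by rw [e]; exact zero_mem _)
    have hQr : Q (q₁ + r • c - (r * r * Q c) • q₀) = 0 := by
      rw [sub_eq_add_neg, ← neg_smul, quad_add_smul Q, quad_add, QuadraticMap.map_smul,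
        QuadraticMap.polar_smul_right, QuadraticMap.polar_add_left, QuadraticMap.polar_smul_left, hQ₁, hQ₀, h1c,
        QuadraticMap.polar_comm _ q₁ q₀, h01, QuadraticMap.polar_comm _ c q₀, h0c]
      simp only [smul_eq_mul]
      ring
    exact fun z hz hrz => spread _ hm hn0 hQr (huniq _ hm hn0 hQr hns) z hz hrz
  have h0 : ∀ z ∈ D i, B q₁ z = 0 → f z ∈ Submodule.span F {f q₁} := fun z hz hz1 => by
    have := hpt 0 z hz (by simpa using hz1)
    simpa using this
  by_cases hdep : ∃ e, f q₀ ∈ Submodule.span F {e} ∧ f q₁ ∈ Submodule.span F {e}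
  · obtain ⟨e, he₀, he₁⟩ := hdep
    refine ⟨e, fun z hz => ?_⟩
    have h1 := h0 (z - B q₁ z • q₀) ((D i).sub_mem hz ((D i).smul_mem _ hq₀)) (by
      rw [QuadraticMap.polar_sub_right, QuadraticMap.polar_smul_right, QuadraticMap.polar_comm _ q₁ q₀, h01,
        smul_eq_mul, mul_one, sub_self])
    have h2' := Submodule.add_mem _ ((Submodule.span_singleton_le_iff_mem _ _).2 he₁ h1)
      (Submodule.smul_mem _ (B q₁ z) he₀)
    rwa [← map_smul f, ← map_add f, sub_add_cancel, hfa] at h2'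
  · exfalso
    push Not at hdep
    have hind : ∀ r s : F, r • f q₀ + s • f q₁ = 0 → r = 0 ∧ s = 0 := fun r s e => by
      by_cases hs : s = 0
      · subst hs
        rw [zero_smul, add_zero, smul_eq_zero] at e
        refine ⟨e.resolve_right fun h0' => ?_, rfl⟩
        exact hdep (f q₁) (by rw [h0']; exact zero_mem _) (Submodule.mem_span_singleton_self _)
      · exact absurd (Submodule.mem_span_singleton.2 ⟨-(s⁻¹ * r), by
          rw [neg_smul, mul_smul, eq_neg_of_add_eq_zero_left e, smul_neg, neg_neg, inv_smul_smul₀ hs]⟩)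
          (hdep (f q₀) (Submodule.mem_span_singleton_self _))
    obtain ⟨γ, hγ⟩ := Submodule.mem_span_singleton.1 (h0 c hc (by rw [h1c]))
    have heq : ∀ r : F, r ≠ 0 → 2 + r * γ = 0 := fun r hr => by
      obtain ⟨δ, hδ⟩ := Submodule.mem_span_singleton.1 (hpt r (c - (2 * r * Q c) • q₀)
        ((D i).sub_mem hc ((D i).smul_mem _ hq₀)) (by
          simp only [QuadraticMap.polar_sub_left, QuadraticMap.polar_sub_right, QuadraticMap.polar_add_left,
            QuadraticMap.polar_smul_left, QuadraticMap.polar_smul_right, h1c, QuadraticMap.polar_comm _ q₁ q₀, h01,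
            h0c, QuadraticMap.polar_comm _ c q₀, h00, polar_self2 c, smul_eq_mul]
          ring))
      simp only [map_sub, map_add, map_smul, ← hγ] at hδ
      obtain ⟨e1, e2⟩ := hind (-(δ * (r * r * Q c)) + 2 * r * Q c) (δ * (1 + r * γ) - γ) (by
        linear_combination (norm := module) hδ)
      have : r * Q c * (2 + r * γ) = 0 := by linear_combination (1 + r * γ) * e1 + r * r * Q c * e2
      exact (mul_eq_zero.1 this).resolve_left (mul_ne_zero hr hQc)
    exact mul_ne_zero h2 h2 (by linear_combination heq 1 one_ne_zero + heq (-1) (neg_ne_zero.2 one_ne_zero))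

/-- A proper overgroup is not tight. -/
theorem not_tight (hm : ∀ i j, finrank F (D i) = finrank F (D j)) (hne : ∀ i, D i ≠ ⊥) {g : GL ι F} (hg : g ∈ M)
    (hgD : g ∉ Geo.decompositionStabilizer D) : ¬ Tight Q M D := fun hT => by
  have h2 := hW.two
  have hk := hW.three
  obtain ⟨i, x, hx, a', b', hab', ha', hb'⟩ := hW.proj.exists_spread hm hne hgD
  have hi : ¬ ∃ j, ∀ z ∈ D i, (g : Mn) *ᵥ z ∈ D j := by
    rintro ⟨j, hj⟩
    rcases eq_or_ne a' j with rfl | hne'
    · exact hb' (hW.proj.other _ _ (Ne.symm hab') _ (hj x hx))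
    · exact ha' (hW.proj.other _ _ hne' _ (hj x hx))
  obtain ⟨e₀, he₀⟩ := hW.rank_one hT hg i hi a'
  obtain ⟨r₀, hr₀⟩ := Submodule.mem_span_singleton.1 (he₀ x hx)
  obtain ⟨e, he⟩ : ∃ e, e = p a' ((g : Mn) *ᵥ x) := ⟨_, rfl⟩
  have hspan : ∀ z ∈ D i, p a' ((g : Mn) *ᵥ z) ∈ Submodule.span F {e} := fun z hz => by
    obtain ⟨r, hr⟩ := Submodule.mem_span_singleton.1 (he₀ z hz)
    refine Submodule.mem_span_singleton.2 ⟨r / r₀, ?_⟩
    have : r₀ ≠ 0 := fun h => ha' (by rw [← hr₀, h, zero_smul])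
    rw [← hr, he, ← hr₀, smul_smul, div_mul_cancel₀ _ this]
  have heD : e ∈ D a' := he ▸ hW.proj.mem a' _
  have he0 : e ≠ 0 := he ▸ ha'
  have hdA : 3 ≤ finrank F (D a') := by rw [hW.dim]; exact hk
  obtain ⟨q, hq, hQ, hqe⟩ := (hW.ndD a').exists_sing_pair hdA heD he0
  have hq0 : q ≠ 0 := fun h => hqe (by rw [h, QuadraticMap.polar_zero_left])
  obtain ⟨q', -, -, -, c, hc, hQc, hqc, -⟩ := (hW.ndD a').exists_frame hdA hq hq0 hQ
  obtain ⟨u, hu, hux⟩ := hW.roots a' q hq c hc hQ hqc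
  have uz : ∀ z, (u : Mn) *ᵥ z = z + B q z • c - B c z • q - (Q c * B q z) • q := fun z => by
    rw [hux, eMat_mulVec]
  have hqz : ∀ z, B q z = B q (p a' z) := fun z => hW.polar_proj hq z
  have hcz : ∀ z, B c z = B c (p a' z) := fun z => hW.polar_proj hc z
  obtain ⟨d, hd⟩ : ∃ d, d = B q e • c - B c e • q - (Q c * B q e) • q := ⟨_, rfl⟩
  have hde : d ∉ Submodule.span F {e} := fun hmem => by
    obtain ⟨r, hr⟩ := Submodule.mem_span_singleton.1 hmem
    have h1 := congrArg (B q) hr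
    rw [hd, QuadraticMap.polar_smul_right] at h1
    simp [QuadraticMap.polar_sub_right, QuadraticMap.polar_smul_right, polar_self2, hQ, hqc] at h1
    rw [h1.resolve_right hqe, zero_smul, hd] at hr
    have h3 := congrArg (B c) hr
    simp [QuadraticMap.polar_sub_right, QuadraticMap.polar_smul_right, polar_self2,
      QuadraticMap.polar_comm _ c q, hqc] at h3
    rcases h3 with h3 | h3 | h3
    exacts [hqe h3, h2 h3, hQc h3]
  set h := g⁻¹ * u * g with hh
  have hhM : h ∈ M := mul_mem (mul_mem (inv_mem hg) hu) hg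
  obtain ⟨w, hw⟩ : ∃ w, w = ((g⁻¹ : GL ι F) : Mn) *ᵥ d := ⟨_, rfl⟩
  have hhz : ∀ z ∈ D i, ∀ μ : F, p a' ((g : Mn) *ᵥ z) = μ • e → (h : Mn) *ᵥ z = z + μ • w := by
    intro z hz μ hμ
    rw [hh, Units.val_mul, Units.val_mul, ← Matrix.mulVec_mulVec, ← Matrix.mulVec_mulVec, uz, hqz, hcz, hμ,
      QuadraticMap.polar_smul_right, QuadraticMap.polar_smul_right,
      show (g : Mn) *ᵥ z + (μ • B q e) • c - (μ • B c e) • q - (Q c * (μ • B q e)) • q = (g : Mn) *ᵥ z + μ • d by
        rw [hd]; simp only [smul_eq_mul]; module,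
      Matrix.mulVec_add, inv_mulVec_cancel, Matrix.mulVec_smul, ← hw]
  have hxw : (h : Mn) *ᵥ x = x + w := by rw [hhz x hx 1 (by rw [one_smul, he]), one_smul]
  -- two vectors killed by the projection
  obtain ⟨K, hK⟩ : ∃ K, K = D i ⊓ LinearMap.ker ((p a').comp (Matrix.toLin' (g : Mn))) := ⟨_, rfl⟩
  have hKmem : ∀ z, z ∈ K ↔ z ∈ D i ∧ p a' ((g : Mn) *ᵥ z) = 0 := fun z => by
    rw [hK, Submodule.mem_inf, LinearMap.mem_ker, LinearMap.comp_apply, Matrix.toLin'_apply]
  have hfix : ∀ z ∈ K, (h : Mn) *ᵥ z = z := fun z hz => by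
    rw [hhz z ((hKmem z).1 hz).1 0 (by rw [zero_smul]; exact ((hKmem z).1 hz).2), zero_smul, add_zero]
  have hKdim : 2 ≤ finrank F K := by
    have hle : D i ≤ K ⊔ Submodule.span F {x} := fun z hz => by
      obtain ⟨r, hr⟩ := Submodule.mem_span_singleton.1 (hspan z hz)
      rw [← sub_add_cancel z (r • x)]
      refine Submodule.add_mem_sup ((hKmem _).2 ⟨(D i).sub_mem hz ((D i).smul_mem _ hx), ?_⟩)
        (Submodule.smul_mem _ _ (Submodule.mem_span_singleton_self _))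
      rw [Matrix.mulVec_sub, Matrix.mulVec_smul, map_sub, map_smul, ← he, hr, sub_self]
    have h1 := (Submodule.finrank_mono hle).trans (Submodule.finrank_add_le_finrank_add_finrank _ _)
    have h1' : finrank F (Submodule.span F {x}) ≤ 1 := by
      simpa using finrank_span_le_card ({x} : Set V)
    rw [hW.dim i] at h1
    omega
  obtain ⟨z₁, hz₁, hz₁0⟩ := Submodule.exists_mem_ne_zero_of_ne_bot (p := K) fun e' => by
    rw [e', finrank_bot] at hKdim; omega
  by_cases hblock : ∃ j, ∀ z ∈ D i, (h : Mn) *ᵥ z ∈ D j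
  · obtain ⟨j, hj⟩ := hblock
    have h1 := hj z₁ ((hKmem z₁).1 hz₁).1
    rw [hfix z₁ hz₁] at h1
    obtain rfl := hW.block_inj hz₁0 ((hKmem z₁).1 hz₁).1 h1
    have hwD : w ∈ D i := by
      have := (D i).sub_mem (hj x hx) hx
      rwa [hxw, add_sub_cancel_left] at this
    have hgw : (g : Mn) *ᵥ w = d := by rw [hw, mulVec_inv_cancel]
    have hdD : d ∈ D a' := by
      rw [hd]
      exact sub_mem (sub_mem ((D a').smul_mem _ hc) ((D a').smul_mem _ hq)) ((D a').smul_mem _ hq)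
    have := hspan w hwD
    rw [hgw, hW.proj.self a' d hdD] at this
    exact hde this
  · obtain ⟨e', he'⟩ := hW.rank_one hT hhM i hblock i
    have hle : K ≤ Submodule.span F {e'} := fun z hz => by
      have := he' z ((hKmem z).1 hz).1
      rwa [hfix z hz, hW.proj.self i z ((hKmem z).1 hz).1] at this
    have h1 := (Submodule.finrank_mono hle).trans (finrank_span_le_card ({e'} : Set V))
    simp at h1
    omega

/-- A parameter outside the summand gives a whole summand of parameters. -/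
theorem fill {a : Fin t} {q : V} (hq : q ∈ D a) (hQ : Q q = 0) {v : V} (hv : v ∈ CR (M := M) hQ) {b : Fin t}
    (hba : b ≠ a) (hvb : p b v ≠ 0) : ∀ z ∈ D b, z ∈ CR (M := M) hQ := by
  set R := CR (M := M) hQ
  have hd : 3 ≤ finrank F (D b) := by rw [hW.dim]; exact hW.three
  have hperp : ∀ c ∈ D b, B c q = 0 := fun c hc => hW.orth b a hba c hc q hq
  obtain ⟨s, hs, hQs, hsv⟩ := (hW.ndD b).exists_sing_pair hd (hW.proj.mem b v) hvb
  rw [← hW.polar_proj hs] at hsv
  have hs0 : s ≠ 0 := fun h => hsv (by rw [h, QuadraticMap.polar_zero_left])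
  obtain ⟨s', hs', hQs', hss, c, hc, hQc, hsc, hs'c⟩ := (hW.ndD b).exists_frame hd hs hs0 hQs
  have hsR : s ∈ R := hW.sing_of_move hQ hv hs hc hQs hsc (hperp s hs) (hperp c hc) (Or.inl ⟨hQc, hsv⟩)
  have hperpR : ∀ c' ∈ D b, B s c' = 0 → c' ∈ R := fun c' hc' hsc' => by
    have h1 := R.add_mem (hW.move hQ hv hs hc' hQs hsc' (hperp s hs) (hperp c' hc'))
      (R.smul_mem (B c' v + Q c' * B s v) hsR)
    rw [show B s v • c' - B c' v • s - (Q c' * B s v) • s + (B c' v + Q c' * B s v) • s = B s v • c' by module] at h1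
    exact (R.smul_mem_iff hsv).1 h1
  have hcR := hperpR c hc hsc
  have hs'R : s' ∈ R := hW.sing_of_move hQ hcR hs' hc hQs' hs'c (hperp s' hs') (hperp c hc)
    (Or.inr ⟨hs'c, by rw [polar_self2]; exact mul_ne_zero hW.two hQc⟩)
  intro z hz
  have h1 := R.add_mem (hperpR (z - B s z • s') ((D b).sub_mem hz ((D b).smul_mem _ hs')) (by
    rw [QuadraticMap.polar_sub_right, QuadraticMap.polar_smul_right, hss, smul_eq_mul, mul_one, sub_self]))
    (R.smul_mem (B s z) hs'R)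
  rwa [sub_add_cancel] at h1

end OWr

/-- Every singular vector of the first summand has the second summand among its parameters. -/
def Link (Q : QuadraticForm F (ι → F)) (M : Subgroup (GL ι F)) {t : ℕ} (D : Fin t → Submodule F (ι → F))
    (a b : Fin t) : Prop :=
  a ≠ b ∧ ∀ q ∈ D a, ∀ h : Q q = 0, q ≠ 0 → ∀ z ∈ D b, z ∈ CR (M := M) h

namespace OWr

variable {M : Subgroup (GL ι F)} {t k : ℕ} {D : Fin t → Submodule F (ι → F)}
  {p : Fin t → ((ι → F) →ₗ[F] (ι → F))} (hW : OWr Q M D p k)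
include hW

theorem link_back {a b : Fin t} (hab : a ≠ b) {q : V} (hq : q ∈ D a) (hQ : Q q = 0) (hq0 : q ≠ 0)
    (h : ∀ z ∈ D b, z ∈ CR (M := M) hQ) : Link Q M D b a :=
  ⟨Ne.symm hab, fun s hs hQs _ => hW.fill hs hQs (v := q) (OSub.mem_CR_swap hQs hQ (h s hs)) hab
    (by rw [hW.proj.self a q hq]; exact hq0)⟩

theorem link_symm {a b : Fin t} (h : Link Q M D a b) : Link Q M D b a := by
  obtain ⟨q, hq, hq0, hQ⟩ := exists_singular_in (Q := Q) (W := D a) (fun w hw hw0 => hW.ndD a w hw hw0)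
    (by rw [hW.dim]; exact hW.three)
  exact hW.link_back h.1 hq hQ hq0 fun z hz => h.2 q hq hQ hq0 z hz

theorem link_all (hT : ¬ Tight Q M D)
    (hswap : ∀ a b : Fin t, a ≠ b → ∃ u ∈ M, ∀ i, ∀ z ∈ D i, (u : Mn) *ᵥ z ∈ D (Equiv.swap a b i)) :
    ∀ a b, a ≠ b → Link Q M D a b := by
  obtain ⟨i, q, hq, hq0, hQ, v, hv, hvD⟩ : ∃ i, ∃ q ∈ D i, q ≠ 0 ∧ ∃ h : Q q = 0, ∃ v ∈ CR (M := M) h, v ∉ D i := by
    by_contra hc
    refine hT fun i a ha ha0 hQa v hv => ?_
    by_contra hvn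
    exact hc ⟨i, a, ha, ha0, hQa, v, hv, hvn⟩
  obtain ⟨j, hji, hvj⟩ : ∃ j, j ≠ i ∧ p j v ≠ 0 := by
    by_contra hc
    push Not at hc
    exact hvD (hW.proj.mem_of_forall hc)
  have h0 := hW.link_back (Ne.symm hji) hq hQ hq0 (hW.fill hq hQ hv hji hvj)
  have hperm : ∀ a b, Link Q M D a b → ∀ c d, c ≠ d → Link Q M D (Equiv.swap c d a) (Equiv.swap c d b) :=
    fun a b h c d hcd => by
    obtain ⟨u, hu, hud⟩ := hswap c d hcd
    refine ⟨fun e => h.1 ((Equiv.swap c d).injective e), fun s hs hQs hs0 z hz => ?_⟩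
    have hback : ∀ i, ∀ z ∈ D (Equiv.swap c d i), ∃ z' ∈ D i, (u : Mn) *ᵥ z' = z := fun i z hz => by
      have : (D i).map (Matrix.toLin' (u : Mn)) = D (Equiv.swap c d i) := by
        refine Submodule.eq_of_le_of_finrank_eq ?_ ?_
        · rintro _ ⟨w, hw, rfl⟩
          rw [Matrix.toLin'_apply]
          exact hud i w hw
        · rw [(Submodule.equivMapOfInjective _ (fun a b h => gl_mulVec_injective u (by
            simpa [Matrix.toLin'_apply] using h)) (D i)).finrank_eq.symm, hW.dim, hW.dim]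
      rw [← this] at hz
      obtain ⟨z', hz', e⟩ := hz
      exact ⟨z', hz', by rw [← e, Matrix.toLin'_apply]⟩
    obtain ⟨s', hs', rfl⟩ := hback a s hs
    obtain ⟨z', hz', rfl⟩ := hback b z hz
    have hQs' : Q s' = 0 := by rw [← hW.iso u hu, hQs]
    exact hW.cr_map hu hQs' hQs (h.2 s' hs' hQs' (fun e => hs0 (by rw [e, Matrix.mulVec_zero])) z' hz')
  have hA : ∀ c, c ≠ j → Link Q M D j c := fun c hc => by
    rcases eq_or_ne c i with rfl | hci
    · exact h0
    · have := hperm j i h0 i c (Ne.symm hci)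
      rwa [Equiv.swap_apply_left, Equiv.swap_apply_of_ne_of_ne hji (Ne.symm hc)] at this
  intro c d hcd
  rcases eq_or_ne c j with rfl | hcj
  · exact hA d (Ne.symm hcd)
  rcases eq_or_ne d j with rfl | hdj
  · exact hW.link_symm (hA c hcj)
  have := hperm j d (hA d hdj) j c (Ne.symm hcj)
  rwa [Equiv.swap_apply_left, Equiv.swap_apply_of_ne_of_ne hdj (Ne.symm hcd)] at this

theorem full_of_links (hL : ∀ a b, a ≠ b → Link Q M D a b) {y : V} (hy : Q y = 0) : Full Q M y := by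
  classical
  have hblock : ∀ a, ∀ q ∈ D a, Q q = 0 → q ≠ 0 → Full Q M q := fun a q hq hQ hq0 b hb => by
    have hmem : b ∈ CR (M := M) hQ := by
      rw [← hW.proj.sum b]
      refine Submodule.sum_mem _ fun j _ => ?_
      rcases eq_or_ne a j with rfl | hj
      · exact hW.cr_block hq hQ (hW.proj.mem a b) (by rw [← hW.polar_proj hq]; exact hb)
      · exact (hL a j hj).2 q hq hQ hq0 _ (hW.proj.mem j b)
    obtain ⟨t, ht, htx⟩ := hmem.2 1
    exact ⟨t, ht, by rw [htx, one_smul]⟩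
  by_cases hy0 : y = 0
  · subst hy0; exact full_zero
  obtain ⟨a, ha⟩ : ∃ a, p a y ≠ 0 := by
    by_contra hc
    push Not at hc
    exact hy0 (hW.proj.ext fun a => by rw [hc a, map_zero])
  obtain ⟨q, hq, hQ, hqy⟩ := (hW.ndD a).exists_sing_pair (by rw [hW.dim]; exact hW.three) (hW.proj.mem a y) ha
  rw [← hW.polar_proj hq] at hqy
  have hq0 : q ≠ 0 := fun h => hqy (by rw [h, QuadraticMap.polar_zero_left])
  obtain ⟨q', hq', hQ', hqq⟩ := (hW.ndD a).exists_partner hq hq0 hQ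
  obtain ⟨tgt, htgt⟩ : ∃ tgt, tgt = B q y • q' := ⟨_, rfl⟩
  have htgt0 : tgt ≠ 0 := htgt ▸ smul_ne_zero hqy fun h => one_ne_zero (hqq.symm.trans (by
    rw [h, QuadraticMap.polar_zero_right]))
  have hQt : Q tgt = 0 := by rw [htgt, QuadraticMap.map_smul, hQ', smul_zero]
  have hqt : B q tgt = B q y := by rw [htgt, QuadraticMap.polar_smul_right, hqq, smul_eq_mul, mul_one]
  obtain ⟨b, hbdef⟩ : ∃ b, b = (B q y)⁻¹ • (tgt - y) := ⟨_, rfl⟩
  have hqb : B q b = 0 := by
    rw [hbdef, QuadraticMap.polar_smul_right, QuadraticMap.polar_sub_right, hqt, sub_self, smul_zero]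
  obtain ⟨u, hu, hux⟩ := hblock a q hq hQ hq0 b hqb
  have huy : (u : Mn) *ᵥ y = tgt := by
    have e1 : B b y = (B q y)⁻¹ * B tgt y := by
      rw [hbdef, QuadraticMap.polar_smul_left, QuadraticMap.polar_sub_left, polar_self2, hy, mul_zero, sub_zero,
        smul_eq_mul]
    have e2 : Q b * B q y = -((B q y)⁻¹ * B tgt y) := by
      rw [hbdef, QuadraticMap.map_smul, sub_eq_add_neg, quad_add, QuadraticMap.map_neg, hQt, hy,
        QuadraticMap.polar_neg_right, smul_eq_mul]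
      field_simp
      ring
    rw [hux, eMat_mulVec, e1, e2, hbdef, smul_inv_smul₀ hqy]
    module
  have := full_map hW.iso (hblock a tgt (htgt ▸ (D a).smul_mem _ hq') hQt htgt0) (inv_mem hu)
  rwa [← huy, inv_mulVec_cancel] at this

end OWr

theorem two_ne_zero_of_card_odd (hodd : Odd (Fintype.card F)) : (2 : F) ≠ 0 := fun h => by
  haveI := CharTwo.of_one_ne_zero_of_two_eq_zero one_ne_zero h
  exact Nat.not_even_iff_odd.2 hodd (Nat.even_iff.2 (FiniteField.even_card_of_char_two (ringChar.eq F 2)))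

theorem mem_omegaGL_of {g : isometryGroup F ⇑Q} (h : g ∈ Omega F ⇑Q) : (g : GL ι F) ∈ Geo.omegaGL ⇑Q :=
  Subgroup.mem_map_of_mem _ h

set_option maxHeartbeats 1000000 in
/-- Stabilisers of orthogonal decompositions into spaces of dimension at least three are maximal. -/
theorem orthogonal_wreath_maximal (Q₀ : (ι → F) → F) (hQ₀ : Geo.IsNondegenerateQuadraticForm Q₀)
    (hodd : Odd (Fintype.card F)) (hn : 7 ≤ Fintype.card ι) {t : ℕ} (k : ℕ) (hk : 3 ≤ k)
    (D : Fin t → Submodule F (ι → F)) (hD : Geo.IsOrthogonalMDecomposition Q₀ k D)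
    (hex : ¬ (Fintype.card F = 3 ∧ k = 3)) :
    Geo.IsMaximalIn (Geo.omegaGL Q₀) (Geo.decompositionStabilizer D ⊓ Geo.omegaGL Q₀) := by
  classical
  obtain ⟨Q, hQ⟩ := exists_form hQ₀
  subst hQ
  obtain ⟨⟨⟨ht, hk0, hdim, hind, htop⟩, hnd₀, horth⟩, hiso⟩ := hD
  have hnd := nd_of_isNondegenerateQuadraticForm hQ₀
  have hT : Tri Q := AschOrthTwo.tri_of_card hnd hn
  have h2 : (2 : F) ≠ 0 := two_ne_zero_of_card_odd hodd
  have hG : GenQ F ι := genQ_odd hnd h2
  obtain ⟨p, hp⟩ := exists_proj hind htop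
  have hne : ∀ i, D i ≠ ⊥ := fun i e => by have := hdim i; rw [e, finrank_bot] at this; omega
  have hm : ∀ i j, finrank F (D i) = finrank F (D j) := fun i j => by rw [hdim, hdim]
  have hndD : ∀ i, NdQ Q (D i) := fun i => ndQ_of_isNondegenerateOn (hnd₀ i)
  have inOm : ∀ {e w : V}, OK Q e w → ∃ s ∈ Geo.omegaGL ⇑Q, (s : Mn) = eMat Q e w := fun {e w} h =>
    ⟨_, mem_omegaGL_of (sR_le_omega hnd hT (eOG_mem hnd hT h)), eOG_val h⟩
  have hrefl : ∀ a, ∀ v ∈ D a, ∀ hv : Q v ≠ 0, ∀ i, ∀ z ∈ D i, ogVal (OrthAut.refl hv) *ᵥ z ∈ D i := by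
    intro a v hv hQv i z hz
    rw [refl_apply]
    rcases eq_or_ne i a with rfl | hia
    · exact sub_mem hz ((D i).smul_mem _ hv)
    · rw [horth a i (Ne.symm hia) v hv z hz, mul_zero, zero_smul, sub_zero]; exact hz
  refine isMaximalIn_intro inf_le_right (fun hle => ?_) fun M hHM hMK g hgM hgH => ?_
  · -- an element outside
    obtain ⟨a, b, hab⟩ : ∃ a b : Fin t, a ≠ b := ⟨⟨0, by omega⟩, ⟨1, by omega⟩, by simp⟩
    obtain ⟨q, hq, hq0, hQq⟩ := exists_singular_in (Q := Q) (W := D a) (fun w hw hw0 => hndD a w hw hw0)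
      (by rw [hdim]; exact hk)
    obtain ⟨s, hs, hs0, hQs⟩ := exists_singular_in (Q := Q) (W := D b) (fun w hw hw0 => hndD b w hw hw0)
      (by rw [hdim]; exact hk)
    obtain ⟨x, hx, hQx, hqx⟩ := (hndD a).exists_partner hq hq0 hQq
    obtain ⟨u, hu, hux⟩ := inOm (e := q) (w := s) ⟨hQq, horth a b hab q hq s hs⟩
    obtain ⟨τ, hτ⟩ := (hle hu).1
    have hmem : (u : Mn) *ᵥ x ∈ D (τ a) := by
      rw [← hτ a]; exact ⟨x, hx, Matrix.toLin'_apply _ _⟩
    rw [hux, eMat_mulVec, hqx, horth b a (Ne.symm hab) s hs x hx, hQs, one_smul, zero_mul, zero_smul, sub_zero,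
      sub_zero] at hmem
    rcases eq_or_ne (τ a) a with e | e
    · rw [e] at hmem
      have h1 := hp.other b a (Ne.symm hab) _ hmem
      rw [map_add, hp.other b a (Ne.symm hab) x hx, hp.self b s hs, zero_add] at h1
      exact hs0 h1
    · have h1 := hp.other a (τ a) (Ne.symm e) _ hmem
      rw [map_add, hp.self a x hx, hp.other a b hab s hs, add_zero] at h1
      exact one_ne_zero (hqx.symm.trans (by rw [h1, QuadraticMap.polar_zero_right]))
  have hiso' : ∀ h ∈ M, ∀ x, Q ((h : Mn) *ᵥ x) = Q x := fun h hh => isometry_of_mem_omegaGL (hMK hh)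
  have hW : OWr Q M D p k :=
    { two := h2
      proj := hp
      orth := horth
      ndD := hndD
      dim := hdim
      three := hk
      five := fun h3 => by
        have h1 : 2 ≤ Fintype.card F := Fintype.one_lt_card
        obtain ⟨r, hr⟩ := hodd
        have : Fintype.card F ≠ 3 := fun e => hex ⟨e, h3⟩
        omega
      roots := fun i a ha b hb hQa hab => by
        obtain ⟨s, hs, hsx⟩ := inOm (e := a) (w := b) ⟨hQa, hab⟩
        refine ⟨s, hHM ⟨hp.mem_stabilizer hm id (fun j z hz => ?_) hne, hs⟩, hsx⟩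
        rw [hsx, eMat_mulVec]
        rcases eq_or_ne j i with rfl | hji
        · exact sub_mem (sub_mem (add_mem hz ((D j).smul_mem _ hb)) ((D j).smul_mem _ ha)) ((D j).smul_mem _ ha)
        · rw [horth i j (Ne.symm hji) a ha z hz, horth i j (Ne.symm hji) b hb z hz]
          simpa using hz
      pairs := fun i v hv w hw hQv hQw he => by
        refine hHM ⟨hp.mem_stabilizer hm id (fun j z hz => ?_) hne, mem_omegaGL_of (refl_pair_mem hnd hT hQv hQw he)⟩
        show ogVal (OrthAut.refl hQv * OrthAut.refl hQw) *ᵥ z ∈ D j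
        rw [ogVal_mul, ← Matrix.mulVec_mulVec]
        exact hrefl i v hv hQv j _ (hrefl i w hw hQw j z hz)
      iso := hiso' }
  have hswap : ∀ a b : Fin t, a ≠ b → ∃ u ∈ M, ∀ i, ∀ z ∈ D i, (u : Mn) *ᵥ z ∈ D (Equiv.swap a b i) := by
    intro a b hab
    obtain ⟨e, he⟩ := hiso a b
    obtain ⟨e', he'⟩ := hiso b a
    have hmk : ∀ {a₁ b₁ : Fin t} (iso₁ : D a₁ ≃ₗ[F] D b₁), (∀ w : D a₁, Q ((iso₁ w : D b₁) : V) = Q (w : V)) →
        ∃ L : V →ₗ[F] V, (∀ x ∈ D a₁, L x ∈ D b₁) ∧ ∀ x ∈ D a₁, ∀ y ∈ D a₁, (QuadraticMap.polar ⇑Q) (L x) (L y) = (QuadraticMap.polar ⇑Q) x y := by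
      intro a₁ b₁ iso₁ he
      obtain ⟨L, hLdef⟩ : ∃ L : V →ₗ[F] V,
          L = (D b₁).subtype.comp (iso₁.toLinearMap.comp ((p a₁).codRestrict (D a₁) fun x => hp.mem a₁ x)) := ⟨_, rfl⟩
      have hLe : ∀ x : D a₁, L (x : V) = ((iso₁ x : D b₁) : V) := fun x => by
        rw [hLdef]
        show ((iso₁ ⟨p a₁ x, hp.mem a₁ x⟩ : D b₁) : V) = _
        congr 2
        exact Subtype.ext (hp.self a₁ _ x.2)
      refine ⟨L, fun x hx => hLe ⟨x, hx⟩ ▸ (iso₁ ⟨x, hx⟩).2, fun x hx y hy => ?_⟩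
      have hQL : ∀ z ∈ D a₁, Q (L z) = Q z := fun z hz => by rw [hLe ⟨z, hz⟩, he]
      rw [QuadraticMap.polar, QuadraticMap.polar, ← map_add, hQL _ ((D a₁).add_mem hx hy), hQL x hx, hQL y hy]
    obtain ⟨L, hL, hLf⟩ := hmk e he
    obtain ⟨L', hL', hLf'⟩ := hmk e' he'
    have hs : Sesq (RingEquiv.refl F) (QuadraticMap.polar ⇑Q) :=
      { add_left := fun x y v => QuadraticMap.polar_add_left Q x y v
        smul_left := fun c x v => by rw [QuadraticMap.polar_smul_left, smul_eq_mul]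
        add_right := fun v x y => QuadraticMap.polar_add_right Q v x y
        smul_right := fun c v x => by rw [QuadraticMap.polar_smul_right, smul_eq_mul, RingEquiv.refl_apply]
        eq_zero := fun w hw => hnd.2 w hw
        refl := fun v w h => by rw [QuadraticMap.polar_comm]; exact h }
    obtain ⟨u, hu, huD⟩ := hp.exists_swap hs horth hab L L' hL hL' hLf hLf'
    have huQ : ∀ z, Q ((u : Mn) *ᵥ z) = Q z := fun z => by
      have := hu z z
      rw [polar_self2, polar_self2] at this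
      exact mul_left_cancel₀ h2 this
    obtain ⟨U, hU⟩ : ∃ U : isometryGroup F ⇑Q, U = ⟨u, mem_isometryGroup.2 huQ⟩ := ⟨_, rfl⟩
    obtain ⟨C, hCD, hC⟩ : ∃ C : isometryGroup F ⇑Q, (∀ i, ∀ z ∈ D i, ogVal C *ᵥ z ∈ D i) ∧ C * U ∈ Omega F ⇑Q := by
      obtain ⟨ε, hε⟩ := FiniteField.exists_nonsquare (F := F) (fun hc => h2 (by
        haveI := ringChar.of_eq hc; exact CharTwo.two_eq_zero))
      have hε0 : ε ≠ 0 := fun h => hε (h ▸ IsSquare.zero)
      have h2d : 2 ≤ finrank F (D a) := by rw [hdim]; omega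
      obtain ⟨v₁, hv₁, hQv₁⟩ := exists_value_in (Q := Q) hnd h2 (hndD a) h2d 1
      obtain ⟨v₂, hv₂, hQv₂⟩ := exists_value_in (Q := Q) hnd h2 (hndD a) h2d ε
      have hv₁0 : Q v₁ ≠ 0 := by rw [hQv₁]; exact one_ne_zero
      have hv₂0 : Q v₂ ≠ 0 := by rw [hQv₂]; exact hε0
      have key : ∀ x : ℤˣ × ℤˣ, ∃ C : isometryGroup F ⇑Q, (∀ i, ∀ z ∈ D i, ogVal C *ᵥ z ∈ D i) ∧
          invHom hnd hG C = x := by
        rintro ⟨x, y⟩
        rcases Int.units_eq_one_or x with rfl | rfl <;> rcases Int.units_eq_one_or y with rfl | rfl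
        · exact ⟨1, fun i z hz => by rwa [ogVal_one, Matrix.one_mulVec], map_one _⟩
        · refine ⟨OrthAut.refl hv₁0 * OrthAut.refl hv₂0, fun i z hz => ?_, ?_⟩
          · rw [ogVal_mul, ← Matrix.mulVec_mulVec]
            exact hrefl a v₁ hv₁ hv₁0 i _ (hrefl a v₂ hv₂ hv₂0 i z hz)
          · rw [map_mul, invHom_refl, invHom_refl, hQv₁, hQv₂, sqSign_of_isSquare IsSquare.one, sqSign_of_not hε]
            rfl
        · exact ⟨OrthAut.refl hv₁0, hrefl a v₁ hv₁ hv₁0,
            by rw [invHom_refl, hQv₁, sqSign_of_isSquare IsSquare.one]⟩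
        · exact ⟨OrthAut.refl hv₂0, hrefl a v₂ hv₂ hv₂0, by rw [invHom_refl, hQv₂, sqSign_of_not hε]⟩
      obtain ⟨C, hC1, hC2⟩ := key (invHom hnd hG U)⁻¹
      exact ⟨C, hC1, by rw [omega_eq_ker hnd hG, MonoidHom.mem_ker, map_mul, hC2, inv_mul_cancel]⟩
    have hcu : ∀ i, ∀ z ∈ D i, (((C * U : isometryGroup F ⇑Q) : GL ι F) : Mn) *ᵥ z ∈ D (Equiv.swap a b i) :=
      fun i z hz => by
      show ogVal (C * U) *ᵥ z ∈ _
      rw [ogVal_mul, ← Matrix.mulVec_mulVec]
      refine hCD _ _ ?_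
      rw [hU]
      exact huD i z hz
    exact ⟨_, hHM ⟨hp.mem_stabilizer hm _ hcu hne, mem_omegaGL_of hC⟩, hcu⟩
  have hL := hW.link_all (hW.not_tight hm hne hgM fun h => hgH ⟨h, hMK hgM⟩) hswap
  exact omegaGL_le_of_roots hnd hT fun a b hab => hW.full_of_links hL hab.1 b hab.2.2.1

end Cfsg.Agent.Classical.MaxTv
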