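import Cfsg.Agent.Lib.Classical.MaxReflBig
import Cfsg.Agent.Lib.Classical.MaxOrthWreathMain

/-!
The overgroups of the stabiliser of an orthogonal decomposition fit the reflection-closure set-up, and the
stabiliser is proper.
-/

set_option autoImplicit false
set_option linter.unusedSectionVars false
set_option quotPrecheck false

namespace Cfsg.Agent.Classical.MaxTv

open Matrix Module OrthAut

variable {F : Type*} [Field F] [Fintype F] {ι : Type} [Fintype ι] [DecidableEq ι] {Q : QuadraticForm F (ι → F)}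

local notation "V" => (ι → F)
local notation "Mn" => Matrix ι ι F
local notation "B" => QuadraticMap.polar ⇑Q

theorem quad_sum_proj {t : ℕ} {D : Fin t → Submodule F (ι → F)} {p : Fin t → ((ι → F) →ₗ[F] (ι → F))}
    (hp : IsProj D p) (horth : ∀ i j, i ≠ j → ∀ x ∈ D i, ∀ y ∈ D j, B x y = 0) (x : V) :
    Q x = ∑ i, Q (p i x) := by
  classical
  have key : ∀ s : Finset (Fin t), Q (∑ i ∈ s, p i x) = ∑ i ∈ s, Q (p i x) := by
    intro s
    induction s using Finset.induction_on with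
    | empty => simp
    | insert a s ha ih =>
      rw [Finset.sum_insert ha, Finset.sum_insert ha, quad_add, ih,
        show B (p a x) (∑ i ∈ s, p i x) = 0 from ?_, add_zero]
      rw [← QuadraticMap.polarBilin_apply_apply, map_sum]
      exact Finset.sum_eq_zero fun j hj => horth a j (fun e => ha (e ▸ hj)) _ (hp.mem a x) _ (hp.mem j x)
  conv_lhs => rw [← hp.sum x, key Finset.univ]

/-- An isometry exchanging two summands, for the quadratic form. -/
theorem exists_swap_quad {t : ℕ} {D : Fin t → Submodule F (ι → F)} {p : Fin t → ((ι → F) →ₗ[F] (ι → F))}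
    (hp : IsProj D p) (horth : ∀ i j, i ≠ j → ∀ x ∈ D i, ∀ y ∈ D j, B x y = 0) {a b : Fin t} (hab : a ≠ b)
    (L L' : V →ₗ[F] V) (hL : ∀ x ∈ D a, L x ∈ D b) (hL' : ∀ x ∈ D b, L' x ∈ D a)
    (hLq : ∀ x ∈ D a, Q (L x) = Q x) (hLq' : ∀ x ∈ D b, Q (L' x) = Q x) (hnd : (QuadraticMap.polarBilin Q).Nondegenerate) :
    ∃ g : isometryGroup F ⇑Q, ∀ i, ∀ x ∈ D i, ogVal g *ᵥ x ∈ D (Equiv.swap a b i) := by
  let S : V →ₗ[F] V := LinearMap.id - p a - p b + L.comp (p a) + L'.comp (p b)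
  have hS : ∀ i, ∀ x ∈ D i, S x = if i = a then L x else if i = b then L' x else x := fun i x hx => by
    show x - p a x - p b x + L (p a x) + L' (p b x) = _
    split_ifs with h1 h2
    · subst h1; rw [hp.self i x hx, hp.other b i (Ne.symm hab) x hx, map_zero]; abel
    · subst h2; rw [hp.self i x hx, hp.other a i hab x hx, map_zero]; abel
    · rw [hp.other a i (Ne.symm h1) x hx, hp.other b i (Ne.symm h2) x hx, map_zero, map_zero]; abel
  have hSmem : ∀ i, ∀ x ∈ D i, S x ∈ D (Equiv.swap a b i) := fun i x hx => by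
    rw [hS i x hx]
    split_ifs with h1 h2
    · subst h1; rw [Equiv.swap_apply_left]; exact hL x hx
    · subst h2; rw [Equiv.swap_apply_right]; exact hL' x hx
    · rw [Equiv.swap_apply_of_ne_of_ne h1 h2]; exact hx
  have hSp : ∀ x i, p (Equiv.swap a b i) (S x) = S (p i x) := fun x i => by
    conv_lhs => rw [← hp.sum x]
    rw [map_sum, map_sum, Finset.sum_eq_single i]
    · exact hp.self _ _ (hSmem i _ (hp.mem i x))
    · exact fun j _ hj => hp.other _ _ (fun e => hj ((Equiv.swap a b).injective e).symm) _ (hSmem j _ (hp.mem j x))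
    · simp
  have hSq : ∀ x, Q (S x) = Q x := fun x => by
    rw [quad_sum_proj hp horth (S x), ← Equiv.sum_comp (Equiv.swap a b), quad_sum_proj hp horth x]
    refine Finset.sum_congr rfl fun i _ => ?_
    rw [hSp, hS i _ (hp.mem i x)]
    split_ifs with h1 h2
    · subst h1; exact hLq _ (hp.mem _ x)
    · subst h2; exact hLq' _ (hp.mem _ x)
    · rfl
  have hSB : ∀ x y, B (S x) (S y) = B x y := fun x y => by
    rw [QuadraticMap.polar, QuadraticMap.polar, ← map_add, hSq, hSq, hSq]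
  have hSinj : Function.Injective S := fun x y e => sub_eq_zero.1 (hnd.2 _ fun z => by
    show B z (x - y) = 0
    rw [← hSB, map_sub, e, sub_self, QuadraticMap.polar_zero_right])
  obtain ⟨g, hg⟩ := exists_gl_of_injective S hSinj
  refine ⟨⟨g, mem_isometryGroup.2 fun z => by rw [hg, hSq]⟩, fun i x hx => ?_⟩
  show (g : Mn) *ᵥ x ∈ _
  rw [hg]; exact hSmem i x hx

/-- The reflection-closure set-up of an overgroup. -/
theorem exists_rwr (hnd : (QuadraticMap.polarBilin Q).Nondegenerate) (hG : GenQ F ι) {t k : ℕ} (hk : 2 ≤ k)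
    {D : Fin t → Submodule F (ι → F)} (hD : Geo.IsOrthogonalMDecomposition ⇑Q k D) {M : Subgroup (GL ι F)}
    (hHM : Geo.decompositionStabilizer D ⊓ Geo.omegaGL ⇑Q ≤ M) (hMK : M ≤ Geo.omegaGL ⇑Q) :
    ∃ p, RWr Q M D p k := by
  classical
  obtain ⟨⟨⟨ht, hk0, hdim, hind, htop⟩, hnd₀, horth⟩, hiso⟩ := hD
  obtain ⟨p, hp⟩ := exists_proj hind htop
  have hne : ∀ i, D i ≠ ⊥ := fun i e => by have := hdim i; rw [e, finrank_bot] at this; omega
  have hm : ∀ i j, finrank F (D i) = finrank F (D j) := fun i j => by rw [hdim, hdim]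
  have hndD : ∀ i, NdQ Q (D i) := fun i => ndQ_of_isNondegenerateOn (hnd₀ i)
  have hrefl : ∀ a, ∀ v ∈ D a, ∀ hv : Q v ≠ 0, ∀ i, ∀ z ∈ D i, ogVal (OrthAut.refl hv) *ᵥ z ∈ D i := by
    intro a v hv hQv i z hz
    rw [refl_apply]
    rcases eq_or_ne i a with rfl | hia
    · exact sub_mem hz ((D i).smul_mem _ hv)
    · rw [horth a i (Ne.symm hia) v hv z hz, mul_zero, zero_smul, sub_zero]; exact hz
  refine ⟨p, ⟨hnd, hG, hp, horth, hndD, hdim, hk, hMK,
    fun g hg hgD => hHM ⟨hgD, mem_omegaGL_of hg⟩, fun a b hab => ?_⟩⟩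
  have hmk : ∀ {a₁ b₁ : Fin t}, Geo.AreIsometricFor ⇑Q (D a₁) (D b₁) →
      ∃ L : V →ₗ[F] V, (∀ x ∈ D a₁, L x ∈ D b₁) ∧ ∀ x ∈ D a₁, Q (L x) = Q x := by
    rintro a₁ b₁ ⟨iso₁, he⟩
    obtain ⟨L, hLdef⟩ : ∃ L : V →ₗ[F] V,
        L = (D b₁).subtype.comp (iso₁.toLinearMap.comp ((p a₁).codRestrict (D a₁) fun x => hp.mem a₁ x)) := ⟨_, rfl⟩
    have hLe : ∀ x : D a₁, L (x : V) = ((iso₁ x : D b₁) : V) := fun x => by
      rw [hLdef]
      show ((iso₁ ⟨p a₁ x, hp.mem a₁ x⟩ : D b₁) : V) = _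
      congr 2
      exact Subtype.ext (hp.self a₁ _ x.2)
    exact ⟨L, fun x hx => hLe ⟨x, hx⟩ ▸ (iso₁ ⟨x, hx⟩).2, fun x hx => by rw [hLe ⟨x, hx⟩, he]⟩
  obtain ⟨L, hL, hLq⟩ := hmk (hiso a b)
  obtain ⟨L', hL', hLq'⟩ := hmk (hiso b a)
  obtain ⟨U, hU⟩ := exists_swap_quad hp horth hab L L' hL hL' hLq hLq' hnd
  obtain ⟨C, hCD, hC⟩ : ∃ C : isometryGroup F ⇑Q, (∀ i, ∀ z ∈ D i, ogVal C *ᵥ z ∈ D i) ∧ C * U ∈ Omega F ⇑Q := by
    obtain ⟨v₀, hv₀, hQv₀⟩ := (hndD a).exists_aniso (hne a)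
    have one : ∀ i, ∀ z ∈ D i, ogVal (1 : isometryGroup F ⇑Q) *ᵥ z ∈ D i := fun i z hz => by
      rwa [ogVal_one, Matrix.one_mulVec]
    by_cases h2 : (2 : F) = 0
    · have hsp : ∀ g : isometryGroup F ⇑Q, invHom hnd hG g = (dick g, 1) := fun g => by
        rw [invHom_apply, spin_two hnd h2]
      rcases Int.units_eq_one_or (dick U) with e | e
      · exact ⟨1, one, by rw [omega_eq_ker hnd hG, MonoidHom.mem_ker, one_mul, hsp, e]; rfl⟩
      · refine ⟨OrthAut.refl hQv₀, hrefl a v₀ hv₀ hQv₀, ?_⟩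
        rw [omega_eq_ker hnd hG, MonoidHom.mem_ker, map_mul, hsp, hsp, dick_refl hnd, e]
        rfl
    obtain ⟨ε, hε⟩ := FiniteField.exists_nonsquare (F := F) (fun hc => h2 (by
      haveI := ringChar.of_eq hc; exact CharTwo.two_eq_zero))
    have hε0 : ε ≠ 0 := fun h => hε (h ▸ IsSquare.zero)
    have h2d : 2 ≤ finrank F (D a) := by rw [hdim]; omega
    obtain ⟨v₁, hv₁, hQv₁⟩ := exists_value_in (Q := Q) hnd h2 (hndD a) h2d 1
    obtain ⟨v₂, hv₂, hQv₂⟩ := exists_value_in (Q := Q) hnd h2 (hndD a) h2d ε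
    have hv₁0 : Q v₁ ≠ 0 := by rw [hQv₁]; exact one_ne_zero
    have hv₂0 : Q v₂ ≠ 0 := by rw [hQv₂]; exact hε0
    have key : ∀ x : ℤˣ × ℤˣ, ∃ C : isometryGroup F ⇑Q, (∀ i, ∀ z ∈ D i, ogVal C *ᵥ z ∈ D i) ∧
        invHom hnd hG C = x := by
      rintro ⟨x, y⟩
      rcases Int.units_eq_one_or x with rfl | rfl <;> rcases Int.units_eq_one_or y with rfl | rfl
      · exact ⟨1, one, map_one _⟩
      · refine ⟨OrthAut.refl hv₁0 * OrthAut.refl hv₂0, fun i z hz => ?_, ?_⟩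
        · rw [ogVal_mul, ← Matrix.mulVec_mulVec]
          exact hrefl a v₁ hv₁ hv₁0 i _ (hrefl a v₂ hv₂ hv₂0 i z hz)
        · rw [map_mul, invHom_refl, invHom_refl, hQv₁, hQv₂, sqSign_of_isSquare IsSquare.one, sqSign_of_not hε]
          rfl
      · exact ⟨OrthAut.refl hv₁0, hrefl a v₁ hv₁ hv₁0,
          by rw [invHom_refl, hQv₁, sqSign_of_isSquare IsSquare.one]⟩
      · exact ⟨OrthAut.refl hv₂0, hrefl a v₂ hv₂ hv₂0, by rw [invHom_refl, hQv₂, sqSign_of_not hε]⟩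
    obtain ⟨C, hC1, hC2⟩ := key (invHom hnd hG U)⁻¹
    exact ⟨C, hC1, by rw [omega_eq_ker hnd hG, MonoidHom.mem_ker, map_mul, hC2, inv_mul_cancel]⟩
  have hcu : ∀ i, ∀ z ∈ D i, (((C * U : isometryGroup F ⇑Q) : GL ι F) : Mn) *ᵥ z ∈ D (Equiv.swap a b i) :=
    fun i z hz => by
    show ogVal (C * U) *ᵥ z ∈ _
    rw [ogVal_mul, ← Matrix.mulVec_mulVec]
    exact hCD _ _ (hU i z hz)
  exact ⟨_, hHM ⟨hp.mem_stabilizer hm _ hcu hne, mem_omegaGL_of hC⟩, hcu⟩

/-- The stabiliser of an orthogonal decomposition is a proper subgroup of `Ω`. -/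
theorem wreath_lt (hnd : (QuadraticMap.polarBilin Q).Nondegenerate) (hG : GenQ F ι) {t k : ℕ} (hk : 2 ≤ k)
    (ht : 3 ≤ t) {D : Fin t → Submodule F (ι → F)} (hD : Geo.IsOrthogonalMDecomposition ⇑Q k D) :
    Geo.decompositionStabilizer D ⊓ Geo.omegaGL ⇑Q < Geo.omegaGL ⇑Q := by
  classical
  refine lt_of_le_of_ne inf_le_right fun heq => ?_
  obtain ⟨p, hW⟩ := exists_rwr hnd hG hk hD le_rfl inf_le_right
  obtain ⟨a, b, c, hab, hac, hbc⟩ : ∃ a b c : Fin t, a ≠ b ∧ a ≠ c ∧ b ≠ c :=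
    ⟨⟨0, by omega⟩, ⟨1, by omega⟩, ⟨2, by omega⟩, by simp, by simp, by simp⟩
  obtain ⟨x, hx, hQx⟩ := hW.exists_aniso a
  obtain ⟨y, hy, hQy⟩ := hW.value_block hx b
  obtain ⟨w, hw, hQw⟩ := hW.value_block hx c
  have fin : ∀ z z' : V, Q z ≠ 0 → z' ∈ D a → Q z' = Q z → ∀ q ∈ D b, p a z ≠ 0 →
      B z q ≠ 0 → (q - ((Q z)⁻¹ * B z q) • p b z ≠ 0 ∨ p c z ≠ 0) → False := by
    intro z z' hz hz' hQz' q hq hza hB hor
    have hz'0 : Q z' ≠ 0 := hQz' ▸ hz
    have hu : ((OrthAut.refl hz * OrthAut.refl hz'0 : isometryGroup F ⇑Q) : GL ι F) ∈ Geo.decompositionStabilizer D :=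
      ((le_of_eq heq.symm) (mem_omegaGL_of (hW.mem_omega_pair hz hz'0 (by rw [hQz'])))).1
    obtain ⟨σ, hσ⟩ := hu
    have h1 : ogVal (OrthAut.refl hz * OrthAut.refl hz'0) *ᵥ q ∈ D (σ b) := by
      rw [← hσ b]; exact ⟨q, hq, Matrix.toLin'_apply _ _⟩
    rw [ogVal_mul, ← Matrix.mulVec_mulVec, refl_apply hz'0, hW.orth a b hab z' hz' q hq, mul_zero, zero_smul, sub_zero,
      refl_apply] at h1
    have hβ : (Q z)⁻¹ * B z q ≠ 0 := mul_ne_zero (inv_ne_zero hz) hB
    have hσb : σ b = a := by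
      by_contra hne
      have h2 := hW.proj.other a (σ b) (Ne.symm hne) _ h1
      rw [map_sub, map_smul, hW.proj.other a b hab q hq, zero_sub, neg_eq_zero, smul_eq_zero] at h2
      exact hza (h2.resolve_left hβ)
    rw [hσb] at h1
    rcases hor with h | h
    · refine h ?_
      have h2 := hW.proj.other b a (Ne.symm hab) _ h1
      rwa [map_sub, map_smul, hW.proj.self b q hq] at h2
    · have h2 := hW.proj.other c a (Ne.symm hac) _ h1
      rw [map_sub, map_smul, hW.proj.other c b (Ne.symm hbc) q hq, zero_sub, neg_eq_zero, smul_eq_zero] at h2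
      exact h (h2.resolve_left hβ)
  have hx0 : x ≠ 0 := fun e => hQx (by rw [e, QuadraticMap.map_zero])
  have hy0 : y ≠ 0 := fun e => hQx (by rw [← hQy, e, QuadraticMap.map_zero])
  have hw0 : w ≠ 0 := fun e => hQx (by rw [← hQw, e, QuadraticMap.map_zero])
  have hxy : B x y = 0 := hW.orth a b hab x hx y hy
  have hxw : B x w = 0 := hW.orth a c hac x hx w hw
  have hyw : B y w = 0 := hW.orth b c hbc y hy w hw
  by_cases h2 : (2 : F) = 0
  · obtain ⟨q, hq, hqy⟩ := hW.ndD b y hy hy0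
    have hQz : Q (x + y + w) = Q x := by
      rw [quad_add, quad_add, hQy, hQw, hxy, QuadraticMap.polar_add_left, hxw, hyw, add_zero, add_zero, add_zero]
      linear_combination Q x * h2
    refine fin (x + y + w) x (by rw [hQz]; exact hQx) hx hQz.symm q hq ?_ ?_ (Or.inr ?_)
    · rwa [map_add, map_add, hW.proj.self a x hx, hW.proj.other a b hab y hy, hW.proj.other a c hac w hw, add_zero,
        add_zero]
    · rwa [QuadraticMap.polar_add_left, QuadraticMap.polar_add_left, hW.orth a b hab x hx q hq,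
        hW.orth c b (Ne.symm hbc) w hw q hq, zero_add, add_zero]
    · rwa [map_add, map_add, hW.proj.self c w hw, hW.proj.other c a (Ne.symm hac) x hx,
        hW.proj.other c b (Ne.symm hbc) y hy, zero_add, zero_add]
  · have hQz : Q (x + y) = 2 * Q x := by rw [quad_add, hQy, hxy, add_zero]; ring
    have hz0 : Q (x + y) ≠ 0 := hQz ▸ mul_ne_zero h2 hQx
    obtain ⟨z', hz', hQz'⟩ := exists_value_in (Q := Q) hnd h2 (hW.ndD a) (by rw [hW.dim]; exact hk) (Q (x + y))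
    obtain ⟨u, hu, hu0⟩ := Submodule.exists_mem_ne_zero_of_ne_bot
      (p := D b ⊓ LinearMap.ker (QuadraticMap.polarBilin Q y)) fun e => by
        have := finrank_le_inf_ker_add_one (D b) (QuadraticMap.polarBilin Q y)
        rw [e, finrank_bot, hW.dim] at this; omega
    have hB : B (x + y) (y + u) = 2 * Q x := by
      rw [QuadraticMap.polar_add_left, QuadraticMap.polar_add_right, QuadraticMap.polar_add_right, hxy,
        hW.orth a b hab x hx u hu.1, polar_self2, show B y u = 0 from hu.2, hQy]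
      ring
    refine fin (x + y) z' hz0 hz' hQz' (y + u) (add_mem hy hu.1) ?_ (by rw [hB]; exact mul_ne_zero h2 hQx) (Or.inl ?_)
    · rwa [map_add, hW.proj.self a x hx, hW.proj.other a b hab y hy, add_zero]
    · rwa [hB, hQz, map_add, hW.proj.self b y hy, hW.proj.other b a (Ne.symm hab) x hx, zero_add,
        inv_mul_cancel₀ (mul_ne_zero h2 hQx), one_smul, add_sub_cancel_left]

/-- Stabilisers of orthogonal decompositions into summands of dimension at least four, characteristic two. -/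
theorem orthogonal_wreath_big_two (hnd : (QuadraticMap.polarBilin Q).Nondegenerate) (hG : GenQ F ι)
    (h2 : (2 : F) = 0) {t k : ℕ} (hk : 4 ≤ k) (ht : 3 ≤ t) {D : Fin t → Submodule F (ι → F)}
    (hD : Geo.IsOrthogonalMDecomposition ⇑Q k D)
    (hex : ¬ (k = 4 ∧ Fintype.card F = 2 ∧ ∀ i, Geo.IsPlusTypeOn ⇑Q (D i))) :
    Geo.IsMaximalIn (Geo.omegaGL ⇑Q) (Geo.decompositionStabilizer D ⊓ Geo.omegaGL ⇑Q) := by
  classical
  refine ⟨wreath_lt hnd hG (by omega) ht hD, fun M hHM hMK => ?_⟩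
  obtain ⟨p, hW⟩ := exists_rwr hnd hG (by omega) hD hHM hMK
  by_cases hle : M ≤ Geo.decompositionStabilizer D
  · exact Or.inl (le_antisymm (le_inf hle hMK) hHM)
  obtain ⟨g, hg, hgD⟩ := SetLike.not_le_iff_exists.1 hle
  refine Or.inr (le_antisymm hMK (hW.full_big h2 hk ?_ hg hgD ⟨0, by omega⟩))
  intro hk4 hq i U hU hQU
  by_contra hcon
  refine hex ⟨hk4, hq, fun l => ?_⟩
  have hUd : finrank F U = 2 := by
    have := isotropic_le_half (hW.ndD i) hU fun u hu v hv => by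
      rw [QuadraticMap.polar, hQU _ (add_mem hu hv), hQU _ hu, hQU _ hv, sub_zero, sub_zero]
    rw [hW.dim i] at this
    omega
  obtain ⟨e, he⟩ := hD.isometric i l
  refine ⟨((U.comap (D i).subtype).map e.toLinearMap).map (D l).subtype, Submodule.map_subtype_le _ _, ?_, ?_⟩
  · rintro _ ⟨w, ⟨v, hv, rfl⟩, rfl⟩
    show Q ((e v : D l) : V) = 0
    rw [he]; exact hQU _ hv
  · rw [Submodule.finrank_map_subtype_eq, LinearEquiv.finrank_map_eq, (Submodule.comapSubtypeEquivOfLe hU).finrank_eq,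
      hUd, hW.dim l, hk4]

end Cfsg.Agent.Classical.MaxTv
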