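import Cfsg.Agent.Lib.Classical.MaxReflBase

/-!
Summands of dimension two: values, lines of one class, and the failure of tightness.
-/

set_option autoImplicit false
set_option linter.unusedSectionVars false
set_option quotPrecheck false

namespace Cfsg.Agent.Classical.MaxTv

open Matrix Module OrthAut

variable {F : Type*} [Field F] [Fintype F] {ι : Type} [Fintype ι] [DecidableEq ι] {Q : QuadraticForm F (ι → F)}

local notation "V" => (ι → F)
local notation "Mn" => Matrix ι ι F
local notation "B" => QuadraticMap.polar ⇑Q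

theorem isSquare_of_two (h2 : (2 : F) = 0) (c : F) : IsSquare c := by
  haveI := CharTwo.of_one_ne_zero_of_two_eq_zero one_ne_zero h2
  exact FiniteField.isSquare_of_char_two (ringChar.eq F 2) c

theorem card_odd_of_two (h2 : (2 : F) ≠ 0) : Fintype.card F % 2 = 1 := by
  refine FiniteField.odd_card_of_char_ne_two fun hc => h2 ?_
  haveI := ringChar.of_eq hc
  exact CharTwo.two_eq_zero

theorem sqSign_eq_of_square {a b : F} (ha : a ≠ 0) (hb : b ≠ 0) (h : IsSquare (a * b)) : sqSign a = sqSign b := by
  have h1 := sqSign_of_isSquare h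
  rw [sqSign_mul ha hb] at h1
  rwa [mul_eq_one_iff_eq_inv, Int.units_inv_eq_self] at h1

theorem isSquare_mul_of_sqSign {a b : F} (ha : a ≠ 0) (hb : b ≠ 0) (h : sqSign a = sqSign b) : IsSquare (a * b) := by
  by_contra hn
  have h1 := sqSign_of_not hn
  rw [sqSign_mul ha hb, h, Int.units_mul_self] at h1
  exact absurd h1 (by decide)

/-- A class is closed under products with squares. -/
theorem sqSign_mul_sq {a c : F} (hc : c ≠ 0) (ha : a ≠ 0) : sqSign (a * (c * c)) = sqSign a := by
  rw [mul_comm]; exact sqSign_smul_sq hc ha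

/-- Two perpendicular vectors of a summand scaled to one class. -/
theorem plane_param {x u : V} {e m : F} (hQu : Q u = e * Q x) (hxu : B x u = 0) (hden : 1 + e * (m * m) ≠ 0) :
    Q (((1 - e * (m * m)) / (1 + e * (m * m))) • x + (2 * m / (1 + e * (m * m))) • u) = Q x := by
  rw [quad_lin, hQu, hxu]
  generalize hd : 1 + e * (m * m) = d at hden
  field_simp
  linear_combination Q x * (1 + e * (m * m) + d) * hd

namespace RWr

variable {M : Subgroup (GL ι F)} {t k : ℕ} {D : Fin t → Submodule F (ι → F)}
  {p : Fin t → ((ι → F) →ₗ[F] (ι → F))} (hW : RWr Q M D p k)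
include hW

/-- Every non-zero value is taken in a summand. -/
theorem exists_value (a : Fin t) {v : F} (hv : v ≠ 0) : ∃ x ∈ D a, Q x = v := by
  by_cases h2 : (2 : F) = 0
  · obtain ⟨x, hx, hQx⟩ := hW.exists_aniso a
    obtain ⟨r, hr⟩ := isSquare_of_two h2 (v / Q x)
    exact ⟨r • x, (D a).smul_mem _ hx, by
      rw [QuadraticMap.map_smul, smul_eq_mul, ← hr, div_mul_cancel₀ _ hQx]⟩
  · exact exists_value_in (Q := Q) hW.nd h2 (hW.ndD a) (by rw [hW.dim]; exact hW.two) v

variable (hk : k = 2) (hgood : 7 ≤ Fintype.card F ∨ ((∀ a, ∀ z ∈ D a, z ≠ 0 → Q z ≠ 0) ∧ Fintype.card F ≠ 3))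
include hk hgood

/-- A second line of one class in a summand. -/
theorem line3 {a : Fin t} {x : V} (hx : x ∈ D a) (hQx : Q x ≠ 0) :
    ∃ z ∈ D a, Q z ≠ 0 ∧ sqSign (Q z) = sqSign (Q x) ∧ B z x ≠ 0 ∧ z ∉ Submodule.span F {x} := by
  classical
  have hx0 : x ≠ 0 := fun e => hQx (by rw [e, QuadraticMap.map_zero])
  by_cases h2 : (2 : F) = 0
  · obtain ⟨u, hu, hxu⟩ := hW.ndD a x hx hx0
    have key : ∀ r : F, Q (u + r • x) ≠ 0 →
        ∃ z ∈ D a, Q z ≠ 0 ∧ sqSign (Q z) = sqSign (Q x) ∧ B z x ≠ 0 ∧ z ∉ Submodule.span F {x} := fun r hr => by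
      have hB : B (u + r • x) x ≠ 0 := by
        rw [QuadraticMap.polar_add_left, QuadraticMap.polar_smul_left, polar_self2, h2, zero_mul, smul_zero, add_zero,
          QuadraticMap.polar_comm]
        exact hxu
      refine ⟨u + r • x, add_mem hu ((D a).smul_mem _ hx), hr, ?_, hB, fun h => ?_⟩
      · rw [sqSign_of_isSquare (isSquare_of_two h2 _), sqSign_of_isSquare (isSquare_of_two h2 _)]
      · obtain ⟨c, hc⟩ := Submodule.mem_span_singleton.1 h
        rw [← hc, QuadraticMap.polar_smul_left, polar_self2, h2, zero_mul, smul_zero] at hB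
        exact hB rfl
    rcases hgood with h7 | ⟨han, -⟩
    · by_contra hcon
      have h1 := card_roots_le_two (a := Q u) (b := B u x) (c := Q x) (Or.inr (Or.inr hQx)) Finset.univ
      have hall : (Finset.univ : Finset F).filter (fun r => Q u + B u x * r + Q x * (r * r) = 0) = Finset.univ :=
        Finset.filter_true_of_mem fun r _ => by
          by_contra hne
          refine hcon (key r fun e => hne ?_)
          rw [quad_add, QuadraticMap.map_smul, QuadraticMap.polar_smul_right, smul_eq_mul, smul_eq_mul] at e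
          linear_combination e
      rw [hall, Finset.card_univ] at h1
      omega
    · refine key 0 ?_
      rw [zero_smul, add_zero]
      exact han a u hu fun e => hxu (by rw [e, QuadraticMap.polar_zero_right])
  obtain ⟨u, hu, hQu, hxu⟩ := exists_perp_aniso (hW.ndD a) ((hW.dim a).trans hk) hx hQx
  obtain ⟨e, he⟩ : ∃ e, e = Q u / Q x := ⟨_, rfl⟩
  have hQu' : Q u = e * Q x := by rw [he, div_mul_cancel₀ _ hQx]
  have he0 : e ≠ 0 := he ▸ div_ne_zero hQu hQx
  obtain ⟨m, hm0, hm1, hm2⟩ : ∃ m : F, m ≠ 0 ∧ 1 - e * (m * m) ≠ 0 ∧ 1 + e * (m * m) ≠ 0 := by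
    rcases Nat.lt_or_ge (Fintype.card F) 7 with h7 | h7
    · obtain ⟨han, h3⟩ := hgood.resolve_left (not_le.2 h7)
      have hodd := card_odd_of_two h2
      have h1 : 1 < Fintype.card F := Fintype.one_lt_card
      have hne : ∀ s : F, s • x + u ≠ 0 := fun s hs => hQu' ▸ hQu |> fun _ => by
        have hB := congrArg (B u) hs
        rw [QuadraticMap.polar_add_right, QuadraticMap.polar_smul_right, QuadraticMap.polar_comm _ u x, hxu,
          smul_zero, zero_add, polar_self2, QuadraticMap.polar_zero_right] at hB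
        exact mul_ne_zero h2 hQu hB
      have hQs : ∀ s : F, (s * s + e) * Q x ≠ 0 := fun s h0 =>
        han a _ (add_mem ((D a).smul_mem s hx) hu) (hne s) (by
          rw [quad_add, QuadraticMap.map_smul, QuadraticMap.polar_smul_left, hxu, hQu', smul_zero, smul_eq_mul,
            add_zero]
          linear_combination h0)
      refine ⟨1, one_ne_zero, fun h => ?_, fun h => hQs 1 (by linear_combination Q x * h)⟩
      obtain ⟨s, hs⟩ : IsSquare (-1 : F) := FiniteField.isSquare_neg_one_iff.2 (by omega)
      exact hQs s (by linear_combination -Q x * h - Q x * hs)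
    · by_contra hcon
      push Not at hcon
      have h1 := card_roots_le_two (a := (1 : F)) (b := 0) (c := -e) (Or.inl one_ne_zero) Finset.univ
      have h3 := card_roots_le_two (a := (1 : F)) (b := 0) (c := e) (Or.inl one_ne_zero) Finset.univ
      have h4 : (Finset.univ : Finset F) ⊆ {0} ∪ (Finset.univ.filter fun m : F => 1 + 0 * m + -e * (m * m) = 0) ∪
          (Finset.univ.filter fun m : F => 1 + 0 * m + e * (m * m) = 0) := fun m _ => by
        simp only [Finset.mem_union, Finset.mem_singleton, Finset.mem_filter, Finset.mem_univ, true_and]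
        by_cases hm : m = 0
        · exact Or.inl (Or.inl hm)
        by_cases hm' : 1 - e * (m * m) = 0
        · exact Or.inl (Or.inr (by linear_combination hm'))
        · exact Or.inr (by linear_combination hcon m hm hm')
      have h5 := Finset.card_le_card h4
      rw [Finset.card_univ] at h5
      have h8 := h5.trans ((Finset.card_union_le _ _).trans (add_le_add (Finset.card_union_le _ _) le_rfl))
      simp only [Finset.card_singleton] at h8
      omega
  obtain ⟨z, hz⟩ : ∃ z, z = ((1 - e * (m * m)) / (1 + e * (m * m))) • x + (2 * m / (1 + e * (m * m))) • u := ⟨_, rfl⟩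
  have hQz : Q z = Q x := hz ▸ plane_param hQu' hxu hm2
  refine ⟨z, hz ▸ add_mem ((D a).smul_mem _ hx) ((D a).smul_mem _ hu), hQz ▸ hQx, by rw [hQz], ?_, fun h => ?_⟩
  · rw [hz, polar_lin_left, polar_self2, QuadraticMap.polar_comm _ u x, hxu, mul_zero, add_zero]
    exact mul_ne_zero (div_ne_zero hm1 hm2) (mul_ne_zero h2 hQx)
  · obtain ⟨c, hc⟩ := Submodule.mem_span_singleton.1 h
    have h9 := congrArg (B u) hc
    rw [hz, QuadraticMap.polar_smul_right, polar_lin_right, QuadraticMap.polar_comm _ u x, hxu, smul_zero, mul_zero,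
      zero_add, polar_self2] at h9
    exact mul_ne_zero (div_ne_zero (mul_ne_zero h2 hm0) hm2) (mul_ne_zero h2 hQu) h9.symm

theorem conn_two : Conn Q D := fun a x hx hQx => by
  obtain ⟨z, hz, hQz, hzs, hzx, hzn⟩ := hW.line3 hk hgood hx hQx
  refine ⟨fun y hy hQy hys => ?_, fun v hv => ?_⟩
  · have hy0 : y ≠ 0 := fun e => hQy (by rw [e, QuadraticMap.map_zero])
    by_cases hzy : B z y = 0
    swap
    · exact ⟨z, hz, hQz, hzs, hzx, hzy⟩
    by_cases h2 : (2 : F) = 0
    · -- a third line
      have hx0 : x ≠ 0 := fun e => hQx (by rw [e, QuadraticMap.map_zero])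
      obtain ⟨r, hr0, hr⟩ : ∃ r : F, r ≠ 0 ∧ Q (x + r • z) ≠ 0 := by
        classical
        rcases hgood with h7 | ⟨han, -⟩
        · by_contra hcon
          push Not at hcon
          have h1 := card_roots_le_two (a := Q x) (b := B x z) (c := Q z) (Or.inl hQx) Finset.univ
          have hsub : (Finset.univ : Finset F) ⊆
              {0} ∪ (Finset.univ.filter fun r : F => Q x + B x z * r + Q z * (r * r) = 0) := fun r _ => by
            simp only [Finset.mem_union, Finset.mem_singleton, Finset.mem_filter, Finset.mem_univ, true_and]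
            by_cases hr : r = 0
            · exact Or.inl hr
            · refine Or.inr ?_
              have e := hcon r hr
              rw [quad_add, QuadraticMap.map_smul, QuadraticMap.polar_smul_right, smul_eq_mul, smul_eq_mul] at e
              linear_combination e
          have h3 := (Finset.card_le_card hsub).trans ((Finset.card_union_le _ _).trans (add_le_add le_rfl h1))
          rw [Finset.card_univ, Finset.card_singleton] at h3
          omega
        · refine ⟨1, one_ne_zero, han a _ (add_mem hx ((D a).smul_mem _ hz)) fun e => hzn ?_⟩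
          exact Submodule.mem_span_singleton.2 ⟨-1, by
            rw [neg_smul, one_smul]
            rw [one_smul] at e
            exact neg_eq_of_add_eq_zero_right e⟩
      refine ⟨x + r • z, add_mem hx ((D a).smul_mem _ hz), hr, by
        rw [sqSign_of_isSquare (isSquare_of_two h2 _), sqSign_of_isSquare (isSquare_of_two h2 _)], ?_, ?_⟩
      · rw [QuadraticMap.polar_add_left, QuadraticMap.polar_smul_left, polar_self2, h2, zero_mul, zero_add, smul_eq_mul]
        exact mul_ne_zero hr0 hzx
      · obtain ⟨c, d, hcd⟩ := plane_span ((hW.dim a).trans hk) hx hz hx0 hzn hy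
        have hc : c = 0 := by
          rw [hcd, QuadraticMap.polar_add_right, QuadraticMap.polar_smul_right, QuadraticMap.polar_smul_right,
            polar_self2 z, h2, zero_mul, smul_zero, add_zero, smul_eq_mul] at hzy
          exact (mul_eq_zero.1 hzy).resolve_right hzx
        rw [hc, zero_smul, zero_add] at hcd
        rw [hcd, QuadraticMap.polar_smul_right, QuadraticMap.polar_add_left, QuadraticMap.polar_smul_left,
          polar_self2 z, h2, zero_mul, smul_zero, add_zero, smul_eq_mul, QuadraticMap.polar_comm _ x z]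
        exact mul_ne_zero (fun hd => hy0 (by rw [hcd, hd, zero_smul])) hzx
    · refine ⟨y, hy, hQy, hys, fun hyx => ?_, by rw [polar_self2]; exact mul_ne_zero h2 hQy⟩
      have hx0 : x ≠ 0 := fun e => hQx (by rw [e, QuadraticMap.map_zero])
      obtain ⟨r, s, hrs⟩ := plane_span ((hW.dim a).trans hk) hx hz hx0 hzn hy
      have hzz : B z y = 0 := hzy
      -- perpendicular to two independent vectors
      obtain ⟨u, hu, hyu⟩ := hW.ndD a y hy hy0
      obtain ⟨r', s', hrs'⟩ := plane_span ((hW.dim a).trans hk) hx hz hx0 hzn hu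
      refine hyu ?_
      rw [hrs', polar_lin_right, hyx, QuadraticMap.polar_comm _ y z, hzz, mul_zero, mul_zero, add_zero]
  · have hx0 : x ≠ 0 := fun e => hQx (by rw [e, QuadraticMap.map_zero])
    obtain ⟨r, s, rfl⟩ := plane_span ((hW.dim a).trans hk) hx hz hx0 hzn hv
    exact add_mem (Submodule.smul_mem _ _ (Submodule.subset_span ⟨hx, hQx, rfl⟩))
      (Submodule.smul_mem _ _ (Submodule.subset_span ⟨hz, hQz, hzs⟩))

theorem rot_two (i : Fin t) (w : V) (h0 : p i w = 0) : Rot Q (D i) w := by
  obtain ⟨x, hx, hQx⟩ := hW.exists_aniso i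
  obtain ⟨z, hz, hQz, hzs, hzx, hzn⟩ := hW.line3 hk hgood hx hQx
  exact ⟨z, hz, x, hx, hQz, hQx, hzs, hzx, hzn, by rw [hW.polar_proj hz, h0, QuadraticMap.polar_zero_right],
    by rw [hW.polar_proj hx, h0, QuadraticMap.polar_zero_right]⟩

/-- A proper overgroup relates a vector outside the summands. -/
theorem exists_incl_outside (ht : 4 ≤ t) {g : GL ι F} (hg : g ∈ M) (hgD : g ∉ Geo.decompositionStabilizer D) :
    ∃ z, InCl Q M D z ∧ ∀ i, z ∉ D i := by
  by_contra hcon
  push Not at hcon
  exact hW.not_tight_two (hW.conn_two hk hgood) (fun v hv => hcon v hv) hk ht (hW.rot_two hk hgood)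
    (hgood.elim Or.inr fun h => Or.inl h.1) hg hgD

end RWr

end Cfsg.Agent.Classical.MaxTv
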