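import Cfsg.Agent.Lib.Classical.MaxOrthRefMove
import Cfsg.Agent.Lib.Classical.MaxOrthRefOdd
import Cfsg.Agent.Lib.Classical.MaxOrthRefMerge
import Cfsg.Agent.Lib.Classical.MaxReflSetup
import Cfsg.Agent.Lib.Classical.MaxReflTwo
import Cfsg.Agent.Lib.Classical.MaxOrthUnit

/-!
Maximality of stabilisers of orthogonal decompositions into summands of dimension two, and into two summands in
characteristic two.
-/

set_option autoImplicit false
set_option linter.unusedSectionVars false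
set_option quotPrecheck false

namespace Cfsg.Agent.Classical.OrthRef

open Matrix Module OrthAut
open MaxTv (IsProj NdQ RWr)

variable {F : Type*} [Field F] [Fintype F] {ι : Type} [Fintype ι] [DecidableEq ι] {Q : QuadraticForm F (ι → F)}

local notation "V" => (ι → F)
local notation "Mn" => Matrix ι ι F
local notation "B" => QuadraticMap.polar ⇑Q

omit [DecidableEq ι] in
/-- Dimensions of an orthogonal decomposition. -/
theorem dim_total {t k : ℕ} {D : Fin t → Submodule F (ι → F)} {p : Fin t → ((ι → F) →ₗ[F] (ι → F))}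
    (hp : IsProj D p) (hdim : ∀ i, finrank F (D i) = k) : Fintype.card ι = t * k := by
  classical
  let e : (ι → F) ≃ₗ[F] (∀ i, D i) :=
    LinearEquiv.ofLinear (LinearMap.pi fun i => (p i).codRestrict (D i) fun x => hp.mem i x)
      (∑ i, (D i).subtype.comp (LinearMap.proj i))
      (LinearMap.ext fun y => funext fun i => Subtype.ext (by
        simp only [LinearMap.comp_apply, LinearMap.pi_apply, LinearMap.codRestrict_apply, LinearMap.sum_apply,
          map_sum, LinearMap.id_apply, LinearMap.proj_apply, Submodule.coe_subtype, Submodule.coe_sum]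
        rw [Finset.sum_eq_single i (fun j _ hj => hp.other i j (Ne.symm hj) _ (y j).2) (by simp)]
        exact hp.self i _ (y i).2))
      (LinearMap.ext fun x => by simp [LinearMap.sum_apply, hp.sum])
  have h := e.finrank_eq
  rw [Module.finrank_pi, Module.finrank_pi_fintype] at h
  simpa [hdim] using h

/-- All vectors of value one related gives the Siegel elements. -/
theorem roots_of_full (hnd : (QuadraticMap.polarBilin Q).Nondegenerate) (hT : Tri Q) {M : Subgroup (GL ι F)}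
    (hall : ∀ y z, Q y = 1 → Q z = 1 → PairMem Q M y z) {a b : ι → F} (h : TS Q a b) :
    ∃ g ∈ M, (g : Mn) = eMat Q a b := by
  obtain ⟨f, hfa, hfb⟩ := exists_polar2 hnd h.2.2.2 1 0
  obtain ⟨f', hf'⟩ : ∃ f', f' = f + (-Q f) • a := ⟨_, rfl⟩
  have P : Pair Q a f' := by
    rw [hf']
    exact ⟨h.1, by rw [quad_add_smul, h.1, QuadraticMap.polar_comm, hfa]; ring,
      by rw [QuadraticMap.polar_add_right, hfa, QuadraticMap.polar_smul_right, polar_self' h.1]; simp⟩
  have hbp : Perp Q a f' b := by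
    rw [hf']
    exact ⟨h.2.2.1, by
      rw [QuadraticMap.polar_add_left, QuadraticMap.polar_comm _ f b, hfb, QuadraticMap.polar_smul_left, h.2.2.1]
      simp⟩
  obtain ⟨b', Pb, hb'⟩ := OrthAut.exists_partner hnd P hbp h.right_ne h.2.1
  obtain ⟨u, hu0, hu, hu1, hu2⟩ := exists_singular_perp2 hnd hT P Pb hbp hb'
  obtain ⟨u', Pu, hu1', hu2'⟩ := OrthAut.exists_partner2 hnd P Pb hbp hb' hu1 hu2 hu0 hu
  have aniso : ∀ w, B a w = 0 → Q w = 1 → ∃ g ∈ M, (g : Mn) = eMat Q a w := by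
    intro w haw hw
    have hQs : Q (w + Q w • a) = 1 := by
      rw [quad_add_smul, h.1, QuadraticMap.polar_comm _ w a, haw, hw]; ring
    have hw0 : Q w ≠ 0 := by rw [hw]; exact one_ne_zero
    have hs0 : Q (w + Q w • a) ≠ 0 := by rw [hQs]; exact one_ne_zero
    obtain ⟨g, hg, e⟩ := hall w _ hw hQs
    refine ⟨g, hg, Matrix.ext_iff_mulVec.2 fun z => ?_⟩
    rw [eMat_eq_refl h.1 haw hw0 hs0, e, ogVal_mul, ← Matrix.mulVec_mulVec, OrthAut.refl_apply,
      OrthAut.refl_apply, rf_apply, rf_apply, mul_comm (B w _), mul_comm (B (w + Q w • a) z)]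
  have hz : B a (u + u') = 0 := by rw [QuadraticMap.polar_add_right, hu1.1, hu1'.1, add_zero]
  have hQz : Q (u + u') = 1 := by rw [quad_add, Pu.1, Pu.2.1, Pu.2.2]; simp
  have hbz : B a (b + (u + u')) = 0 := by rw [QuadraticMap.polar_add_right, h.2.2.1, hz, add_zero]
  have hQbz : Q (b + (u + u')) = 1 := by
    rw [quad_add b, h.2.1, hQz, QuadraticMap.polar_add_right, hu2.1, hu2'.1]; simp
  obtain ⟨g₁, hg₁, e₁⟩ := aniso _ hbz hQbz
  obtain ⟨g₂, hg₂, e₂⟩ := aniso (-(u + u')) (by rw [QuadraticMap.polar_neg_right, hz, neg_zero])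
    (by rw [QuadraticMap.map_neg, hQz])
  refine ⟨g₁ * g₂, mul_mem hg₁ hg₂, ?_⟩
  rw [Units.val_mul, e₁, e₂, eMat_mul ⟨h.1, hbz⟩ ⟨h.1, by rw [QuadraticMap.polar_neg_right, hz, neg_zero]⟩,
    add_neg_cancel_right]

/-- Siegel elements of a multiple of the form. -/
theorem eMat_scale {r : F} (hr : r ≠ 0) {a b : ι → F} (hb : Q b = 0) :
    eMat (r • Q) a (r⁻¹ • b) = eMat Q a b := by
  refine Matrix.ext_iff_mulVec.2 fun x => ?_
  rw [eMat_mulVec, eMat_mulVec, QuadraticMap.map_smul, QuadraticMap.smul_apply, hb, QuadraticMap.coeFn_smul]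
  simp only [show ∀ u v : V, QuadraticMap.polar (r • ⇑Q) u v = r * B u v from
    fun u v => QuadraticMap.polar_smul _ _ _ _, QuadraticMap.polar_smul_left, smul_eq_mul, mul_zero, zero_mul,
    smul_smul, zero_smul, sub_zero]
  match_scalars <;> field_simp

theorem ts_scale {r : F} (hr : r ≠ 0) {a b : ι → F} (h : TS Q a b) : TS (r • Q) a (r⁻¹ • b) := by
  refine ⟨?_, ?_, ?_, fun s t e => ?_⟩
  · rw [QuadraticMap.smul_apply, h.1, smul_zero]
  · rw [QuadraticMap.smul_apply, QuadraticMap.map_smul, h.2.1, smul_zero, smul_zero]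
  · rw [QuadraticMap.coeFn_smul, QuadraticMap.polar_smul, QuadraticMap.polar_smul_right, h.2.2.1, smul_zero,
      smul_zero]
  · rw [smul_smul] at e
    obtain ⟨e1, e2⟩ := h.2.2.2 _ _ e
    exact ⟨e1, (mul_eq_zero.1 e2).resolve_right (inv_ne_zero hr)⟩

theorem tri_scale {r : F} (hr : r ≠ 0) (hT : Tri Q) : Tri (r • Q) := by
  obtain ⟨a, b, c, h, hc, hac, hbc, hind⟩ := hT
  refine ⟨a, r⁻¹ • b, c, ts_scale hr h, ?_, ?_, ?_, fun s t u e => ?_⟩
  · rw [QuadraticMap.smul_apply, hc, smul_zero]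
  · rw [QuadraticMap.coeFn_smul, QuadraticMap.polar_smul, hac, smul_zero]
  · rw [QuadraticMap.coeFn_smul, QuadraticMap.polar_smul, QuadraticMap.polar_smul_left, hbc, smul_zero, smul_zero]
  · rw [smul_smul] at e
    obtain ⟨e1, e2, e3⟩ := hind _ _ _ e
    exact ⟨e1, (mul_eq_zero.1 e2).resolve_right (inv_ne_zero hr), e3⟩

namespace Ctx

variable {M : Subgroup (GL ι F)} {t k : ℕ} {D : Fin t → Submodule F (ι → F)}
  {p : Fin t → ((ι → F) →ₗ[F] (ι → F))} (hC : Ctx Q M D p k)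
include hC

/-- An overgroup moving the decomposition contains all Siegel elements. -/
theorem roots (hk : k = 2) (hT : Tri Q)
    (hmv : ∃ x : V, Q x ≠ 0 ∧ (∀ b, x ∉ D b) ∧ ∃ a, ∃ w ∈ D a, Q w = Q x ∧ PairMem Q M x w)
    {a b : V} (h : TS Q a b) : ∃ g ∈ M, (g : Mn) = eMat Q a b := by
  classical
  obtain ⟨x, hQx, hnb, i, w, hw, hQw, hxw⟩ := hmv
  obtain ⟨c, hc⟩ : ∃ c, c = (Q x)⁻¹ := ⟨_, rfl⟩
  have hc0 : c ≠ 0 := hc ▸ inv_ne_zero hQx
  have hC1 := hC.scale hc0
  have hm : Mem (c • Q) M D x :=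
    ⟨by rw [QuadraticMap.smul_apply, smul_eq_mul, hc, inv_mul_cancel₀ hQx], i, w, hw,
      by rw [QuadraticMap.smul_apply, hQw, smul_eq_mul, hc, inv_mul_cancel₀ hQx], (PairMem.scale hc0).2 hxw⟩
  obtain ⟨r, hr, hfull⟩ : ∃ r : F, r ≠ 0 ∧ ∀ y, (r • Q) y = 1 → Mem (r • Q) M D y := by
    by_cases hq : Fintype.card F = 2
    · exact ⟨c, hc0, hC1.merge_binary hk hq hm hnb⟩
    obtain ⟨u, hu, hunb, e, he⟩ : ∃ u, Mem (c • Q) M D u ∧ (∀ b, u ∉ D b) ∧ ∃ e, Wit (c • Q) D e u := by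
      by_cases h2 : (2 : F) = 0
      · exact ⟨x, hm, hnb, i, hC1.wit_two h2 i x⟩
      · exact hC1.exists_witness hk h2 hm hnb
    have hne : ¬ (k = 2 ∧ Fintype.card F = 2) := fun h => hq h.2
    obtain ⟨r', hr', W, hW, a', b', hab, ha, hb, hs⟩ := hC1.exists_two_member hu hunb he hne
    have hC2 := hC1.scale hr'
    refine ⟨r' * c, mul_ne_zero hr' hc0, ?_⟩
    rw [← smul_smul]
    have hpair := hC2.pair_full hne hab hW ha hb hs
    exact hC2.merge hk hq fun i j hij => fun m hm hs' => hC2.all_pairs hab hpair hij hm hs'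
  have hC3 := hC.scale hr
  have hnd3 : (QuadraticMap.polarBilin (r • Q)).Nondegenerate :=
    ⟨fun x hx => hC3.nd_all hx, fun x hx => hC3.nd_all fun z => by rw [QuadraticMap.polar_comm]; exact hx z⟩
  obtain ⟨g', hg', e'⟩ := roots_of_full hnd3 (tri_scale hr hT)
    (fun y z hy hz => hC3.pair_of_mem (hfull y hy) (hfull z hz)) (ts_scale hr h)
  exact ⟨g', hg', e'.trans (eMat_scale hr h.2.1)⟩

end Ctx

/-- The data of an overgroup. -/
theorem ctx_of_rwr {M : Subgroup (GL ι F)} {t : ℕ} {D : Fin t → Submodule F (ι → F)}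
    {p : Fin t → ((ι → F) →ₗ[F] (ι → F))} (hW : RWr Q M D p 2) (ht : 5 ≤ t)
    (hiso : ∀ a b, Geo.AreIsometricFor ⇑Q (D a) (D b)) (h3 : Fintype.card F ≠ 3)
    (hpl : (∀ i, Geo.IsPlusTypeOn ⇑Q (D i)) → 7 ≤ Fintype.card F) : Ctx Q M D p 2 where
  proj := hW.proj
  orth := hW.orth
  nd := hW.ndD
  dim := hW.dim
  tge := by omega
  shape := Or.inl ⟨rfl, ht⟩
  card_three := fun _ => h3
  plus := fun _ i z hz hQz hz0 => hpl fun l => by
    obtain ⟨e, he⟩ := hiso i l
    refine ⟨Submodule.span F {((e ⟨z, hz⟩ : D l) : V)}, ?_, ?_, ?_⟩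
    · rw [Submodule.span_singleton_le_iff_mem]; exact (e ⟨z, hz⟩).2
    · intro u hu
      obtain ⟨c, rfl⟩ := Submodule.mem_span_singleton.1 hu
      rw [QuadraticMap.map_smul, he, show Q ((⟨z, hz⟩ : D i) : V) = 0 from hQz, smul_zero]
    · rw [finrank_span_singleton, hW.dim l]
      intro h0
      have h0' : (e ⟨z, hz⟩ : D l) = 0 := Subtype.ext h0
      exact hz0 (congrArg Subtype.val ((LinearEquiv.map_eq_zero_iff e).1 h0'))
  two := fun _ h => absurd h (by omega)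
  iso := fun h hh z => hW.iso hh z
  pairs := fun a b v hv w hw hQv hQw => by
    obtain ⟨h1, h2, hM⟩ := hW.rel_block hv hw hQv (hQw.trans_ne hQv) (by rw [hQw])
    refine ⟨_, hM, fun z => ?_⟩
    show ogVal (OrthAut.refl h1 * OrthAut.refl h2) *ᵥ z = _
    rw [ogVal_mul, ← Matrix.mulVec_mulVec, OrthAut.refl_apply, OrthAut.refl_apply, rf_apply, rf_apply,
      mul_comm (B v _), mul_comm (B w z)]
  swap := hW.swap
  isom := fun a b => by
    obtain ⟨e, he⟩ := hiso a b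
    refine ⟨(D b).subtype.comp (e.toLinearMap.comp ((p a).codRestrict (D a) fun x => hW.proj.mem a x)),
      fun z hz => ?_⟩
    have hz' : ((p a).codRestrict (D a) fun x => hW.proj.mem a x) z = ⟨z, hz⟩ := Subtype.ext (hW.proj.self a z hz)
    simp only [LinearMap.comp_apply, hz', Submodule.coe_subtype, LinearEquiv.coe_coe]
    exact ⟨(e ⟨z, hz⟩).2, he ⟨z, hz⟩⟩

/-- A proper overgroup of the stabiliser of few planes pairs a spread vector with one of a plane. -/
theorem moved_small {M : Subgroup (GL ι F)} {t : ℕ} {D : Fin t → Submodule F (ι → F)}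
    {p : Fin t → ((ι → F) →ₗ[F] (ι → F))} (hW : RWr Q M D p 2) (hiso : ∀ a b, Geo.AreIsometricFor ⇑Q (D a) (D b))
    (h3 : Fintype.card F ≠ 3) (h7 : (∀ i, Geo.IsPlusTypeOn ⇑Q (D i)) → 7 ≤ Fintype.card F) (ht : 4 ≤ t)
    {g : GL ι F} (hg : g ∈ M) (hgD : g ∉ Geo.decompositionStabilizer D) :
    ∃ x : V, Q x ≠ 0 ∧ (∀ b, x ∉ D b) ∧ ∃ a, ∃ w ∈ D a, Q w = Q x ∧ PairMem Q M x w := by
  classical
  have hgood : 7 ≤ Fintype.card F ∨ ((∀ i, ∀ x ∈ D i, Q x = 0 → x = 0) ∧ Fintype.card F ≠ 3) := by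
    by_cases hh : ∀ i, ∀ x ∈ D i, Q x = 0 → x = 0
    · exact Or.inr ⟨hh, h3⟩
    push Not at hh
    obtain ⟨i, z, hz, hQz, hz0⟩ := hh
    refine Or.inl (h7 fun l => ?_)
    obtain ⟨e, he⟩ := hiso i l
    refine ⟨Submodule.span F {((e ⟨z, hz⟩ : D l) : V)}, ?_, ?_, ?_⟩
    · rw [Submodule.span_singleton_le_iff_mem]; exact (e ⟨z, hz⟩).2
    · intro u hu
      obtain ⟨c, rfl⟩ := Submodule.mem_span_singleton.1 hu
      rw [QuadraticMap.map_smul, he, show Q ((⟨z, hz⟩ : D i) : V) = 0 from hQz, smul_zero]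
    · rw [finrank_span_singleton, hW.dim l]
      intro h0
      have h0' : (e ⟨z, hz⟩ : D l) = 0 := Subtype.ext h0
      exact hz0 (congrArg Subtype.val ((LinearEquiv.map_eq_zero_iff e).1 h0'))
  obtain ⟨v, ⟨i, x, hx, hsq, hQx, hQv, hM⟩, hvD⟩ := hW.exists_incl_outside rfl (hgood.imp_right (And.imp_left fun h i x hx h0 e => h0 (h i x hx e))) ht hg hgD
  have hs : IsSquare (Q x * Q v) := MaxTv.isSquare_mul_of_sqSign hQx hQv hsq
  obtain ⟨r, hr⟩ := hs
  have hr0 : r ≠ 0 := fun h => mul_ne_zero hQx hQv (by rw [hr, h, mul_zero])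
  obtain ⟨w, hw⟩ : ∃ w, w = (r / Q x) • x := ⟨_, rfl⟩
  have hQw : Q w = Q v := by
    rw [hw, QuadraticMap.map_smul, smul_eq_mul]
    field_simp
    linear_combination -hr
  refine ⟨v, hQv, hvD, i, w, hw ▸ (D i).smul_mem _ hx, hQw, ?_⟩
  have hQw0 : Q w ≠ 0 := hQw ▸ hQv
  refine ⟨_, inv_mem hM, fun z => ?_⟩
  rw [← InvMemClass.coe_inv, _root_.mul_inv_rev,
    inv_eq_of_mul_eq_one_right (OrthAut.refl_mul_self hQv), inv_eq_of_mul_eq_one_right (OrthAut.refl_mul_self hQx)]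
  show ogVal (OrthAut.refl hQv * OrthAut.refl hQx) *ᵥ z = _
  rw [ogVal_mul, ← Matrix.mulVec_mulVec, OrthAut.refl_apply hQv, OrthAut.refl_apply hQx, rf_apply, rf_apply, hw,
    QuadraticMap.map_smul, QuadraticMap.polar_smul_left]
  simp only [smul_eq_mul, sub_eq_add_neg, QuadraticMap.polar_add_right, QuadraticMap.polar_neg_right,
    QuadraticMap.polar_smul_right]
  have e : (r / Q x * (r / Q x) * Q x)⁻¹ = (Q x / r) * (Q x / r) * (Q x)⁻¹ := by field_simp
  rw [e]
  match_scalars <;> field_simp <;> ring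

/-- Stabilisers of orthogonal decompositions into planes are maximal. -/
theorem orthogonal_wreath_two_maximal (Q₀ : (ι → F) → F) (hQ₀ : Geo.IsNondegenerateQuadraticForm Q₀)
    (hn : 10 ≤ Fintype.card ι) {t : ℕ} (D : Fin t → Submodule F (ι → F))
    (hD : Geo.IsOrthogonalMDecomposition Q₀ 2 D) (h3 : Fintype.card F ≠ 3)
    (hpl : (∀ i, Geo.IsPlusTypeOn Q₀ (D i)) → Fintype.card F ≠ 2 ∧ Fintype.card F ≠ 4 ∧ Fintype.card F ≠ 5) :
    Geo.IsMaximalIn (Geo.omegaGL Q₀) (Geo.decompositionStabilizer D ⊓ Geo.omegaGL Q₀) := by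
  classical
  obtain ⟨Q, rfl⟩ := MaxTv.exists_form hQ₀
  have hnd := MaxTv.nd_of_isNondegenerateQuadraticForm hQ₀
  have hT : Tri Q := AschOrthTwo.tri_of_card hnd (by omega)
  have hG : GenQ F ι := genQ_of_card (Or.inr (by omega))
  obtain ⟨⟨⟨-, -, hdim, hind, htop⟩, -, -⟩, hiso⟩ := id hD
  obtain ⟨p₀, hp₀⟩ := MaxTv.exists_proj hind htop
  have htot := dim_total hp₀ hdim
  have h7 : (∀ i, Geo.IsPlusTypeOn ⇑Q (D i)) → 7 ≤ Fintype.card F := fun h => by
    obtain ⟨a, b, c⟩ := hpl h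
    have h1 := Fintype.one_lt_card (α := F)
    rcases Nat.lt_or_ge (Fintype.card F) 7 with hlt | hge
    swap; · exact hge
    have h6 : Fintype.card F = 6 := by omega
    obtain ⟨q, hq⟩ := CharP.exists F
    obtain ⟨n, hqp, hcard⟩ := FiniteField.card F q
    have : IsPrimePow 6 := h6 ▸ hcard ▸ (hqp.isPrimePow.pow n.ne_zero)
    rw [isPrimePow_iff_unique_prime_dvd] at this
    obtain ⟨r, -, hr⟩ := this
    have e2 := hr 2 ⟨Nat.prime_two, by norm_num⟩
    have e3 := hr 3 ⟨Nat.prime_three, by norm_num⟩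
    omega
  refine ⟨MaxTv.wreath_lt hnd hG le_rfl (by omega) hD, fun M hHM hMK => ?_⟩
  obtain ⟨p, hW⟩ := MaxTv.exists_rwr hnd hG le_rfl hD hHM hMK
  by_cases hle : M ≤ Geo.decompositionStabilizer D
  · exact Or.inl (le_antisymm (le_inf hle hMK) hHM)
  obtain ⟨g, hg, hgD⟩ := SetLike.not_le_iff_exists.1 hle
  have hC := ctx_of_rwr hW (by omega) hiso h3 h7
  have hmv : ∃ x : V, Q x ≠ 0 ∧ (∀ b, x ∉ D b) ∧ ∃ a, ∃ w ∈ D a, Q w = Q x ∧ PairMem Q M x w := by
    by_cases ht6 : 6 ≤ t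
    · exact hC.exists_moved (fun _ => ht6) hg hgD
    exact moved_small hW hiso h3 h7 (by omega) hg hgD
  exact Or.inr (le_antisymm hMK (MaxTv.omegaGL_le_of_roots hnd hT fun a b h => hC.roots rfl hT hmv h))

/-- Stabilisers of decompositions into summands of dimension at least four, characteristic two, any number of them. -/
theorem orthogonal_wreath_even_maximal (Q₀ : (ι → F) → F) (hQ₀ : Geo.IsNondegenerateQuadraticForm Q₀)
    (hn : 5 ≤ Fintype.card ι) (heven : Even (Fintype.card F)) {t k : ℕ} (hk : 4 ≤ k)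
    (D : Fin t → Submodule F (ι → F)) (hD : Geo.IsOrthogonalMDecomposition Q₀ k D)
    (hex : ¬ (k = 4 ∧ Fintype.card F = 2 ∧ ∀ i, Geo.IsPlusTypeOn Q₀ (D i))) :
    Geo.IsMaximalIn (Geo.omegaGL Q₀) (Geo.decompositionStabilizer D ⊓ Geo.omegaGL Q₀) := by
  classical
  obtain ⟨Q, rfl⟩ := MaxTv.exists_form hQ₀
  have hnd := MaxTv.nd_of_isNondegenerateQuadraticForm hQ₀
  have hG : GenQ F ι := genQ_of_card (Or.inr (by omega))
  have h2 : (2 : F) = 0 := by
    obtain ⟨q, hq⟩ := CharP.exists F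
    obtain ⟨n, hqp, hcard⟩ := FiniteField.card F q
    have : q = 2 := (Nat.prime_dvd_prime_iff_eq Nat.prime_two hqp).1
      (Nat.prime_two.dvd_of_dvd_pow (hcard ▸ heven.two_dvd)) |>.symm
    subst this
    exact CharP.cast_eq_zero F 2
  rcases Nat.lt_or_ge t 3 with ht | ht
  swap
  · exact MaxTv.orthogonal_wreath_big_two hnd hG h2 hk ht hD hex
  -- two summands
  refine ⟨lt_of_le_of_ne inf_le_right fun heq => ?_, fun M hHM hMK => ?_⟩
  · obtain ⟨p, hW⟩ := MaxTv.exists_rwr hnd hG (by omega) hD le_rfl inf_le_right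
    have ht2 : 2 ≤ t := hD.decomp.decomp.two_le
    obtain ⟨a, b, hab⟩ : ∃ a b : Fin t, a ≠ b := ⟨⟨0, by omega⟩, ⟨1, by omega⟩, by simp⟩
    obtain ⟨x, hx, hQx⟩ := hW.exists_aniso a
    obtain ⟨q₀, hq₀, hq₀0⟩ := Submodule.exists_mem_ne_zero_of_ne_bot (hW.ne_bot b)
    obtain ⟨y, hy, hBy, hQy⟩ := MaxTv.exists_pair_value h2 (hW.ndD b) (hW.four_le h2 hk b) hq₀ hq₀0 0
    have hy0 : y ≠ 0 := fun e => one_ne_zero (α := F) (by rw [← hBy, e, QuadraticMap.polar_zero_right])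
    obtain ⟨q, hq, hyq⟩ := hW.ndD b y hy hy0
    have hx0 : x ≠ 0 := fun e => hQx (by rw [e, QuadraticMap.map_zero])
    have hQz : Q (x + y) = Q x := by
      rw [OrthAut.quad_add, hQy, hW.orth a b hab x hx y hy, add_zero, add_zero]
    have hz : Q (x + y) ≠ 0 := by rw [hQz]; exact hQx
    obtain ⟨σ, hσ⟩ := ((le_of_eq heq.symm) (MaxTv.mem_omegaGL_of (hW.mem_omega_pair hz hQx (by rw [hQz])))).1
    have h1 : ogVal (OrthAut.refl hz * OrthAut.refl hQx) *ᵥ q ∈ D (σ b) := by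
      rw [← hσ b]; exact ⟨q, hq, Matrix.toLin'_apply _ _⟩
    rw [ogVal_mul, ← Matrix.mulVec_mulVec, OrthAut.refl_apply hQx, hW.orth a b hab x hx q hq, mul_zero, zero_smul,
      sub_zero, OrthAut.refl_apply, QuadraticMap.polar_add_left, hW.orth a b hab x hx q hq, zero_add, smul_add] at h1
    have hβ : (Q (x + y))⁻¹ * QuadraticMap.polar ⇑Q y q ≠ 0 := mul_ne_zero (inv_ne_zero hz) hyq
    rcases eq_or_ne (σ b) a with e | e
    · rw [e] at h1
      have h4 := hW.proj.other b a (Ne.symm hab) _ h1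
      rw [map_sub, map_add, map_smul, map_smul, hW.proj.self b q hq, hW.proj.other b a (Ne.symm hab) x hx, smul_zero,
        hW.proj.self b y hy, zero_add, sub_eq_zero] at h4
      refine hyq ?_
      rw [h4, QuadraticMap.polar_smul_right, OrthAut.polar_self2, hQy, mul_zero, smul_zero]
    · have h4 := hW.proj.other a (σ b) (Ne.symm e) _ h1
      rw [map_sub, map_add, map_smul, map_smul, hW.proj.other a b hab q hq, hW.proj.self a x hx,
        hW.proj.other a b hab y hy, smul_zero, add_zero, zero_sub, neg_eq_zero, smul_eq_zero] at h4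
      exact hx0 (h4.resolve_left hβ)
  · obtain ⟨p, hW⟩ := MaxTv.exists_rwr hnd hG (by omega) hD hHM hMK
    by_cases hle : M ≤ Geo.decompositionStabilizer D
    · exact Or.inl (le_antisymm (le_inf hle hMK) hHM)
    obtain ⟨g, hg, hgD⟩ := SetLike.not_le_iff_exists.1 hle
    have ht2 : 2 ≤ t := hD.decomp.decomp.two_le
    refine Or.inr (le_antisymm hMK (hW.full_big h2 hk ?_ hg hgD ⟨0, by omega⟩))
    intro hk4 hq i U hU hQU
    by_contra hcon
    refine hex ⟨hk4, hq, fun l => ?_⟩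
    have hUd : finrank F U = 2 := by
      have := MaxTv.isotropic_le_half (hW.ndD i) hU fun u hu v hv => by
        rw [QuadraticMap.polar, hQU _ (add_mem hu hv), hQU _ hu, hQU _ hv, sub_zero, sub_zero]
      rw [hW.dim i] at this
      omega
    obtain ⟨e, he⟩ := hD.isometric i l
    refine ⟨((U.comap (D i).subtype).map e.toLinearMap).map (D l).subtype, Submodule.map_subtype_le _ _, ?_, ?_⟩
    · rintro _ ⟨w, ⟨v, hv, rfl⟩, rfl⟩
      show Q ((e v : D l) : V) = 0
      rw [he]; exact hQU _ hv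
    · rw [Submodule.finrank_map_subtype_eq, LinearEquiv.finrank_map_eq, (Submodule.comapSubtypeEquivOfLe hU).finrank_eq,
        hUd, hW.dim l, hk4]

end Cfsg.Agent.Classical.OrthRef
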