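import Cfsg.Agent.Lib.Classical.MaxHermitian
import Cfsg.Agent.Lib.Classical.MaxOrthRefBase
import Mathlib.NumberTheory.LegendreSymbol.QuadraticChar.Basic

/-!
An overgroup moving the summands pairs a spread vector with a vector of a summand.
-/

set_option autoImplicit false
set_option linter.unusedSectionVars false
set_option quotPrecheck false

namespace Cfsg.Agent.Classical.OrthRef

open Matrix Module
open MaxTv (IsProj gl_mulVec_injective inv_mulVec_cancel mulVec_inv_cancel)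

variable {F : Type*} [Field F] [Fintype F] {ι : Type} [Fintype ι] [DecidableEq ι] {Q : QuadraticForm F (ι → F)}

local notation "V" => (ι → F)
local notation "Mn" => Matrix ι ι F
local notation "B" => QuadraticMap.polar ⇑Q

/-- Only vectors of summands are paired with vectors of summands. -/
def Closed (Q : QuadraticForm F (ι → F)) (M : Subgroup (GL ι F)) {t : ℕ} (D : Fin t → Submodule F (ι → F)) : Prop :=
  ∀ x : ι → F, Q x ≠ 0 → ∀ a, ∀ w ∈ D a, Q w = Q x → PairMem Q M x w → ∃ b, x ∈ D b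

namespace Ctx

variable {M : Subgroup (GL ι F)} {t k : ℕ} {D : Fin t → Submodule F (ι → F)}
  {p : Fin t → ((ι → F) →ₗ[F] (ι → F))} (hC : Ctx Q M D p k)
include hC

theorem char_two_of_four (hk : k ≠ 2) : (2 : F) = 0 ∧ 4 ≤ k := by
  rcases hC.shape with h | h
  · exact absurd h.1 hk
  · exact ⟨h.2, h.1⟩

/-- Two singular lines of a plane. -/
theorem sing_three (hk : k = 2) {a : Fin t} {s s' z : V} (hs : s ∈ D a) (hs' : s' ∈ D a) (hz : z ∈ D a)
    (h : Q s = 0) (h' : Q s' = 0) (hz0 : Q z = 0) (hne : s ≠ 0) (hd : ∀ c : F, s' ≠ c • s) :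
    (∃ c : F, z = c • s) ∨ ∃ c : F, z = c • s' := by
  have hind : LinearIndependent F ![s, s'] := (LinearIndependent.pair_iff' hne).2 fun c e => hd c e.symm
  have hspan : Submodule.span F {s, s'} = D a := by
    refine Submodule.eq_of_le_of_finrank_le (Submodule.span_le.2 ?_) ?_
    · rintro w (rfl | rfl) <;> assumption
    · have := finrank_span_eq_card hind
      rw [Matrix.range_cons_cons_empty, Fintype.card_fin] at this
      rw [this, hC.dim, hk]
  obtain ⟨x, y, rfl⟩ := Submodule.mem_span_pair.1 (hspan.symm ▸ hz : z ∈ Submodule.span F {s, s'})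
  have hB : B s s' ≠ 0 := fun e => hne (perp_pair (Q := Q) (by rw [hC.dim, hk]) (hC.nd a) hs hs' hind hs
    (by rw [polar_diag, h, mul_zero]) (by rw [QuadraticMap.polar_comm, e]))
  rw [quad_add_smul', QuadraticMap.map_smul, h, h', QuadraticMap.polar_smul_left, smul_eq_mul, smul_eq_mul] at hz0
  simp only [mul_zero, zero_add] at hz0
  rcases mul_eq_zero.1 hz0 with e | e
  · exact Or.inl ⟨x, by rw [e, zero_smul, add_zero]⟩
  · exact Or.inr ⟨y, by rw [(mul_eq_zero.1 e).resolve_right hB, zero_smul, zero_add]⟩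

/-- A third vector of a class in a summand of dimension two. -/
theorem third_two (hk : k = 2) {a : Fin t} {v : V} (hv : v ∈ D a) (hQ : Q v ≠ 0) (u : V) :
    ∃ v' ∈ D a, Q v' = Q v ∧ (∀ c : F, v' ≠ c • v) ∧ ∀ c : F, v' ≠ c • u := by
  classical
  have hD : finrank F (D a) = 2 := by rw [hC.dim, hk]
  obtain ⟨N, l, hlD, hlQ, hlinj, hN, hN'⟩ := exists_lines hD (hC.nd a)
  have hv0 : v ≠ 0 := fun e => hQ (by rw [e, QuadraticMap.map_zero])
  by_contra hc
  push Not at hc
  let I : Finset V := Finset.univ.image fun i => rf Q (l i) v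
  have hI : I.card = N := by
    rw [Finset.card_image_of_injective _ fun i j h => hlinj i j (dep_of_rf_eq hD (hC.nd a) (hlD i) (hlD j)
      (hlQ i) (hlQ j) hv hv0 h), Finset.card_univ, Fintype.card_fin]
  -- each line holds at most two vectors of the value
  have hline : ∀ z : V, ∃ T : Finset V, (∀ c : F, Q (c • z) = Q v → c • z ∈ T) ∧ T.card ≤ 2 ∧
      ((2 : F) = 0 → T.card ≤ 1) := by
    intro z
    by_cases h : ∃ c : F, Q (c • z) = Q v
    · obtain ⟨c₀, hc₀⟩ := h
      refine ⟨{c₀ • z, -(c₀ • z)}, fun c hc' => ?_, Finset.card_le_two, fun h2 => ?_⟩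
      · have hQz : Q z ≠ 0 := fun e => hQ (by rw [← hc₀, QuadraticMap.map_smul, e, smul_zero])
        rw [← hc₀, QuadraticMap.map_smul, QuadraticMap.map_smul, smul_eq_mul, smul_eq_mul] at hc'
        rcases mul_self_eq_mul_self_iff.1 (mul_right_cancel₀ hQz hc') with e | e
        · rw [e]; simp
        · rw [e, neg_smul]; simp
      · have : -(c₀ • z) = c₀ • z := by
          have e : (2 : F) • (c₀ • z) = 0 := by rw [h2, zero_smul]
          rw [two_smul] at e
          exact (eq_neg_of_add_eq_zero_left e).symm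
        rw [this, Finset.pair_eq_singleton]
        exact Finset.card_singleton _ |>.le
    · exact ⟨∅, fun c hc' => absurd ⟨c, hc'⟩ h, by simp, fun _ => by simp⟩
  obtain ⟨T₁, hT₁, hT₁2, hT₁1⟩ := hline v
  obtain ⟨T₂, hT₂, hT₂2, hT₂1⟩ := hline u
  have hsub : I ⊆ T₁ ∪ T₂ := fun z hz => by
    obtain ⟨i, -, rfl⟩ := Finset.mem_image.1 hz
    have hQz := quad_rf (Q := Q) (l i) v
    have hzD : rf Q (l i) v ∈ D a := by rw [rf_apply]; exact (D a).sub_mem hv ((D a).smul_mem _ (hlD i))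
    by_cases hd : ∀ c : F, rf Q (l i) v ≠ c • v
    · obtain ⟨c, hc'⟩ := hc _ hzD hQz hd
      rw [hc'] at hQz ⊢
      exact Finset.mem_union_right _ (hT₂ c hQz)
    · push Not at hd
      obtain ⟨c, hc'⟩ := hd
      rw [hc'] at hQz ⊢
      exact Finset.mem_union_left _ (hT₁ c hQz)
  have hle := (Finset.card_le_card hsub).trans (Finset.card_union_le _ _)
  rw [hI] at hle
  have h1 := Fintype.one_lt_card (α := F)
  have h3 := hC.card_three hk
  by_cases hiso : ∀ z ∈ D a, Q z = 0 → z = 0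
  · have hN1 := hN' hiso
    by_cases h2 : (2 : F) = 0
    · have := hT₁1 h2
      have := hT₂1 h2
      omega
    · have : Fintype.card F ≠ 2 := fun e => h2 (by
        have := FiniteField.cast_card_eq_zero F
        rw [e] at this
        exact_mod_cast this)
      omega
  · push Not at hiso
    obtain ⟨z, hz, hQz, hz0⟩ := hiso
    have := hC.plus hk a z hz hQz hz0
    omega

/-- The anisotropic vectors of a summand of dimension at least four span it. -/
theorem aniso_span (hk : 4 ≤ k) (h2 : (2 : F) = 0) (a : Fin t) {W : Submodule F V}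
    (hW : ∀ v ∈ D a, Q v ≠ 0 → v ∈ W) : D a ≤ W := by
  intro y hy
  by_contra hyW
  obtain ⟨v, hv, hQv⟩ := hC.exists_aniso a
  have key : ∀ z ∈ D a, z ∉ W → Q z = 0 ∧ ∀ w ∈ D a, w ∈ W → B z w = -Q w := fun z hz hzW => by
    have h0 : ∀ z ∈ D a, z ∉ W → Q z = 0 := fun z hz hzW => by_contra fun h => hzW (hW z hz h)
    refine ⟨h0 z hz hzW, fun w hw hwW => ?_⟩
    have h := h0 (z + w) ((D a).add_mem hz hw) fun e => hzW (by simpa using W.sub_mem e hwW)
    rw [QuadraticMap.map_add (f := Q), h0 z hz hzW, zero_add] at h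
    exact eq_neg_of_add_eq_zero_right h
  have hlin : ∀ w ∈ D a, w ∈ W → ∀ w' ∈ D a, w' ∈ W → B w w' = 0 := fun w hw hwW w' hw' hwW' => by
    have h := (key y hy hyW).2 _ ((D a).add_mem hw hw') (W.add_mem hwW hwW')
    rw [QuadraticMap.polar_add_right, (key y hy hyW).2 w hw hwW, (key y hy hyW).2 w' hw' hwW',
      QuadraticMap.map_add (f := Q)] at h
    linear_combination h
  have hcos : ∀ z ∈ D a, z ∉ W → z - y ∈ W := fun z hz hzW => by
    by_contra h
    have e1 := (key _ ((D a).sub_mem hz hy) h).2 v hv (hW v hv hQv)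
    rw [QuadraticMap.polar_sub_left, (key z hz hzW).2 v hv (hW v hv hQv),
      (key y hy hyW).2 v hv (hW v hv hQv)] at e1
    exact hQv (by linear_combination e1)
  -- a kernel vector
  obtain ⟨n, hn, hn0⟩ := Submodule.exists_mem_ne_zero_of_ne_bot
    (p := D a ⊓ W ⊓ LinearMap.ker (QuadraticMap.polarBilin Q y)) fun e => by
      let f : (D a ⊓ W : Submodule F V) →ₗ[F] F := (QuadraticMap.polarBilin Q y).comp (D a ⊓ W).subtype
      have hinj : Function.Injective f := by
        rw [← LinearMap.ker_eq_bot, LinearMap.ker_eq_bot']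
        intro z hz
        have : (z : V) ∈ D a ⊓ W ⊓ LinearMap.ker (QuadraticMap.polarBilin Q y) := ⟨z.2, hz⟩
        rw [e, Submodule.mem_bot] at this
        exact Subtype.ext this
      have h1 := LinearMap.finrank_le_finrank_of_injective hinj
      rw [finrank_self] at h1
      have hle : D a ≤ (D a ⊓ W) ⊔ Submodule.span F {y} := fun z hz => by
        by_cases hzW : z ∈ W
        · exact Submodule.mem_sup_left ⟨hz, hzW⟩
        · rw [← sub_add_cancel z y]
          exact Submodule.add_mem_sup ⟨(D a).sub_mem hz hy, hcos z hz hzW⟩ (Submodule.mem_span_singleton_self y)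
      have h3 := (Submodule.finrank_mono hle).trans (Submodule.finrank_add_le_finrank_add_finrank _ _)
      have h4 : finrank F (Submodule.span F {y}) ≤ 1 := by simpa using finrank_span_le_card ({y} : Set V)
      rw [hC.dim] at h3
      omega
  obtain ⟨z, hz, hnz⟩ := hC.nd a n hn.1.1 hn0
  refine hnz ?_
  by_cases hzW : z ∈ W
  · exact hlin n hn.1.1 hn.1.2 z hz hzW
  · rw [show z = (z - y) + y by abel, QuadraticMap.polar_add_right,
      hlin n hn.1.1 hn.1.2 _ ((D a).sub_mem hz hy) (hcos z hz hzW), QuadraticMap.polar_comm,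
      show B y n = 0 from hn.2, add_zero]

/-- Three vectors of different summands do not lie in a plane. -/
theorem indep_three {S : Submodule F V} (hS : finrank F S ≤ 2) {i j l : Fin t} (hij : i ≠ j) (hil : i ≠ l)
    (hjl : j ≠ l) {x y z : V} (hx : x ∈ D i) (hy : y ∈ D j) (hz : z ∈ D l) (hx0 : x ≠ 0) (hy0 : y ≠ 0)
    (hz0 : z ≠ 0) (hxS : x ∈ S) (hyS : y ∈ S) (hzS : z ∈ S) : False := by
  have hind : LinearIndependent F ![(⟨x, hxS⟩ : S), ⟨y, hyS⟩, ⟨z, hzS⟩] := by
    rw [Fintype.linearIndependent_iff]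
    intro c hc
    have e : c 0 • x + c 1 • y + c 2 • z = 0 := by
      simpa [Fin.sum_univ_three] using congrArg Subtype.val hc
    have e0 := congrArg (p i) e
    have e1 := congrArg (p j) e
    have e2 := congrArg (p l) e
    simp only [map_add, map_smul, map_zero, hC.proj.self i x hx, hC.proj.other i j hij y hy,
      hC.proj.other i l hil z hz, smul_zero, add_zero] at e0
    simp only [map_add, map_smul, map_zero, hC.proj.self j y hy, hC.proj.other j i (Ne.symm hij) x hx,
      hC.proj.other j l hjl z hz, smul_zero, add_zero, zero_add] at e1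
    simp only [map_add, map_smul, map_zero, hC.proj.self l z hz, hC.proj.other l i (Ne.symm hil) x hx,
      hC.proj.other l j (Ne.symm hjl) y hy, smul_zero, zero_add] at e2
    intro m
    fin_cases m
    exacts [(smul_eq_zero.1 e0).resolve_right hx0, (smul_eq_zero.1 e1).resolve_right hy0,
      (smul_eq_zero.1 e2).resolve_right hz0]
  have := hind.fintype_card_le_finrank
  rw [Fintype.card_fin] at this
  omega

theorem mulVec_sum (h : GL ι F) (x : V) : (h : Mn) *ᵥ x = ∑ i, (h : Mn) *ᵥ p i x := by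
  conv_lhs => rw [← hC.proj.sum x]
  rw [← Matrix.toLin'_apply (h : Mn), map_sum]
  simp [Matrix.toLin'_apply]

theorem map_block {h : GL ι F} {σ : Equiv.Perm (Fin t)}
    (hσ : ∀ i, (D i).map (Matrix.toLin' (h : Mn)) = D (σ i)) {i : Fin t} {z : V} (hz : z ∈ D i) :
    (h : Mn) *ᵥ z ∈ D (σ i) := by
  rw [← hσ i]; exact ⟨z, hz, Matrix.toLin'_apply _ _⟩

theorem proj_map {h : GL ι F} {σ : Equiv.Perm (Fin t)} (hσ : ∀ i, (D i).map (Matrix.toLin' (h : Mn)) = D (σ i))
    (i : Fin t) (x : V) : p (σ i) ((h : Mn) *ᵥ x) = (h : Mn) *ᵥ p i x := by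
  rw [hC.mulVec_sum h x, map_sum, Finset.sum_eq_single i]
  · exact hC.proj.self _ _ (hC.map_block hσ (hC.proj.mem i x))
  · exact fun j _ hj => hC.proj.other _ _ (fun e => hj (σ.injective e).symm) _ (hC.map_block hσ (hC.proj.mem j x))
  · simp

/-- A product of two reflections in the stabiliser has small support. -/
theorem span_supp {h : GL ι F} (hh : h ∈ Geo.decompositionStabilizer D) {x y : V}
    (e : ∀ z, (h : Mn) *ᵥ z = rf Q x (rf Q y z)) (hQ : Q x ≠ 0) (hxy : Q y = Q x) (hd : ∀ c : F, y ≠ c • x) :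
    ((∀ i, p i x ∈ Submodule.span F {x, y}) ∧ ∀ i, p i y ∈ Submodule.span F {x, y}) ∨
      (k = 2 ∧ ∃ f f', ∀ i, i ≠ f → i ≠ f' → p i x = 0 ∧ p i y = 0) := by
  obtain ⟨σ, hσ⟩ := hh
  obtain ⟨S, hS⟩ : ∃ S, S = Submodule.span F {x, y} := ⟨_, rfl⟩
  rw [← hS]
  have hin : ∀ z, (h : Mn) *ᵥ z - z ∈ S := fun z => by
    rw [hS, e, rf_apply, rf_apply, Submodule.mem_span_pair]
    exact ⟨-(B x (z - (B y z * (Q y)⁻¹) • y) * (Q x)⁻¹), -(B y z * (Q y)⁻¹), by module⟩
  -- separating vectors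
  have sep : ∀ x y : V, (∀ c : F, x ≠ c • y) → ∃ z, B y z = 0 ∧ B x z ≠ 0 := by
    intro x y hd
    by_contra hc
    push Not at hc
    by_cases hy : ∀ z, B y z = 0
    · exact hd 0 (by rw [zero_smul]; exact hC.nd_all fun z => hc z (hy z))
    push Not at hy
    obtain ⟨z₁, hz₁⟩ := hy
    refine hd (B x z₁ / B y z₁) (sub_eq_zero.1 (hC.nd_all fun z => ?_))
    have h1 := hc (z - (B y z / B y z₁) • z₁) (by
      rw [QuadraticMap.polar_sub_right, QuadraticMap.polar_smul_right, smul_eq_mul, div_mul_cancel₀ _ hz₁, sub_self])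
    rw [QuadraticMap.polar_sub_right, QuadraticMap.polar_smul_right, smul_eq_mul] at h1
    rw [QuadraticMap.polar_sub_left, QuadraticMap.polar_smul_left, smul_eq_mul]
    linear_combination h1
  have hd' : ∀ c : F, x ≠ c • y := fun c e' => by
    rcases eq_or_ne c 0 with rfl | hc
    · exact hQ (by rw [e', zero_smul, QuadraticMap.map_zero])
    · exact hd c⁻¹ (by rw [e', inv_smul_smul₀ hc])
  have hQy : Q y ≠ 0 := hxy ▸ hQ
  obtain ⟨zx, hzx⟩ : ∃ zx, (h : Mn) *ᵥ zx - zx = x := by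
    obtain ⟨z, hyz, hxz⟩ := sep x y hd'
    refine ⟨(-(Q x / B x z)) • z, ?_⟩
    rw [e, rf_perp (v := y) (by rw [QuadraticMap.polar_smul_right, hyz, smul_zero]), rf_apply,
      QuadraticMap.polar_smul_right, smul_eq_mul]
    field_simp
    module
  obtain ⟨zy, hzy⟩ : ∃ zy, (h : Mn) *ᵥ zy - zy = y := by
    obtain ⟨z, hxz, hyz⟩ := sep y x hd
    obtain ⟨a, ha⟩ : ∃ a, a = -(Q y / B y z) := ⟨_, rfl⟩
    have h1 : rf Q y (a • z) = a • z + y := by
      rw [rf_apply, QuadraticMap.polar_smul_right, smul_eq_mul, ha]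
      field_simp
      module
    refine ⟨a • z + (B x y * (Q x)⁻¹) • zx, ?_⟩
    have h2 : (h : Mn) *ᵥ (a • z) - a • z = y - (B x y * (Q x)⁻¹) • x := by
      rw [e, h1, map_add, rf_perp (v := x) (by rw [QuadraticMap.polar_smul_right, hxz, smul_zero]), rf_apply]
      module
    rw [Matrix.mulVec_add, Matrix.mulVec_smul _ (B x y * (Q x)⁻¹), add_sub_add_comm, h2, ← smul_sub, hzx,
      sub_add_cancel]
  by_cases hfix : ∀ f, σ f = f
  · refine Or.inl ⟨fun i => ?_, fun i => ?_⟩
    · have := hin (p i zx)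
      rwa [← hC.proj_map hσ, hfix i, ← map_sub, hzx] at this
    · have := hin (p i zy)
      rwa [← hC.proj_map hσ, hfix i, ← map_sub, hzy] at this
  push Not at hfix
  obtain ⟨f, hf⟩ := hfix
  let L : D f →ₗ[F] S := (((Matrix.toLin' (h : Mn)) - LinearMap.id).comp (D f).subtype).codRestrict S fun z => by
    simpa [Matrix.toLin'_apply] using hin z
  have hL : ∀ z : D f, (L z : V) = (h : Mn) *ᵥ (z : V) - z := fun z => by simp [L, Matrix.toLin'_apply]
  have hinj : Function.Injective L := by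
    rw [← LinearMap.ker_eq_bot, LinearMap.ker_eq_bot']
    intro z hz
    have h1 := hL z
    rw [hz] at h1
    have h2 := congrArg (p f) h1
    rw [Submodule.coe_zero, map_zero, map_sub, hC.proj.other f (σ f) (Ne.symm hf) _ (hC.map_block hσ z.2),
      hC.proj.self f _ z.2, zero_sub] at h2
    exact Subtype.ext (neg_eq_zero.1 h2.symm)
  have hS2 : finrank F S ≤ 2 := by
    rw [hS]
    classical
    exact (finrank_span_le_card ({x, y} : Set V)).trans (by
      rw [Set.toFinset_insert, Set.toFinset_singleton]; exact Finset.card_le_two)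
  have h1 := LinearMap.finrank_le_finrank_of_injective hinj
  rw [hC.dim] at h1
  have hk2 := hC.k_two_le
  refine Or.inr ⟨by omega, f, σ f, ?_⟩
  have hrange : LinearMap.range L = ⊤ := by
    refine Submodule.eq_top_of_finrank_eq (le_antisymm (Submodule.finrank_le _) ?_)
    rw [LinearMap.finrank_range_of_inj hinj, hC.dim]
    omega
  intro i hif hiσ
  have hout : ∀ w ∈ S, p i w = 0 := fun w hw => by
    obtain ⟨z, hz⟩ := LinearMap.range_eq_top.1 hrange ⟨w, hw⟩
    have h2 := hL z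
    rw [hz] at h2
    rw [show w = (h : Mn) *ᵥ (z : V) - z from h2, map_sub,
      hC.proj.other i (σ f) hiσ _ (hC.map_block hσ z.2), hC.proj.other i f hif _ z.2, sub_zero]
  exact ⟨hout x (hS ▸ Submodule.subset_span (by simp)), hout y (hS ▸ Submodule.subset_span (by simp))⟩

theorem two_linear {a : Fin t} {v v' : V} (h : ∃ z ∈ D a, B v z ≠ 0) (h' : ∃ z ∈ D a, B v' z ≠ 0) :
    ∃ z ∈ D a, B v z ≠ 0 ∧ B v' z ≠ 0 := by
  obtain ⟨z, hz, e⟩ := h
  obtain ⟨z', hz', e'⟩ := h'
  by_cases c : B v' z = 0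
  · by_cases c' : B v z' = 0
    · exact ⟨z + z', (D a).add_mem hz hz', by rwa [QuadraticMap.polar_add_right, c', add_zero],
        by rwa [QuadraticMap.polar_add_right, c, zero_add]⟩
    · exact ⟨z', hz', c', e'⟩
  · exact ⟨z, hz, e, c⟩

theorem ndI {a : Fin t} {v : V} (hv : v ∈ D a) (hQ : Q v ≠ 0) : ∃ z ∈ D a, B v z ≠ 0 :=
  hC.nd a v hv fun e => hQ (by rw [e, QuadraticMap.map_zero])

/-- Two perpendicular vectors of a class have a common neighbour of the class. -/
theorem common {a : Fin t} {v v' : V} (hv : v ∈ D a) (hv' : v' ∈ D a) (hQ : Q v ≠ 0) (hQ' : Q v' ≠ 0)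
    (hb : B v v' = 0) (hd : ∀ c : F, v' ≠ c • v) :
    ∃ z ∈ D a, Q z ≠ 0 ∧ IsSquare (Q v * Q z) ∧ B v z ≠ 0 ∧ B v' z ≠ 0 := by
  have hv0 : v ≠ 0 := fun e => hQ (by rw [e, QuadraticMap.map_zero])
  have hv0' : v' ≠ 0 := fun e => hQ' (by rw [e, QuadraticMap.map_zero])
  by_cases hk : k = 2
  · obtain ⟨z, hz, hQz, hd1, hd2⟩ := hC.third_two hk hv hQ v'
    refine ⟨z, hz, hQz ▸ hQ, ⟨Q v, by rw [hQz]⟩, fun e => hv0 ?_, fun e => hv0' ?_⟩
    · exact perp_pair (Q := Q) (by rw [hC.dim, hk]) (hC.nd a) hv' hz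
        ((LinearIndependent.pair_iff' hv0').2 fun c e' => hd2 c e'.symm) hv
        (by rw [QuadraticMap.polar_comm, hb]) (by rw [QuadraticMap.polar_comm, e])
    · exact perp_pair (Q := Q) (by rw [hC.dim, hk]) (hC.nd a) hv hz
        ((LinearIndependent.pair_iff' hv0).2 fun c e' => hd1 c e'.symm) hv' hb (by rw [QuadraticMap.polar_comm, e])
  obtain ⟨h2, hk4⟩ := hC.char_two_of_four hk
  haveI := CharTwo.of_one_ne_zero_of_two_eq_zero one_ne_zero h2
  have hsq : ∀ r : F, IsSquare r := FiniteField.isSquare_of_char_two (ringChar.eq F 2)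
  suffices ∃ z ∈ D a, Q z ≠ 0 ∧ B v z ≠ 0 ∧ B v' z ≠ 0 by
    obtain ⟨z, hz, h1, h2', h3⟩ := this
    exact ⟨z, hz, h1, hsq _, h2', h3⟩
  obtain ⟨z, hz, hz1, hz2⟩ := hC.two_linear (hC.ndI hv hQ) (hC.ndI hv' hQ')
  by_contra hno
  push Not at hno
  have hQz : Q z = 0 := by_contra fun h => hz2 (hno z hz h hz1)
  have hvv : B v v = 0 := by rw [polar_diag, h2, zero_mul]
  have hvv' : B v' v' = 0 := by rw [polar_diag, h2, zero_mul]
  by_cases hq : ∃ c : F, c ≠ 0 ∧ c * Q v + B v z ≠ 0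
  · obtain ⟨c, hc, hc'⟩ := hq
    have hQ1 : Q (z + c • v) ≠ 0 := by
      rw [quad_add_smul', hQz, QuadraticMap.polar_comm _ z v,
        show 0 + c * c * Q v + c * B v z = c * (c * Q v + B v z) by ring]
      exact mul_ne_zero hc hc'
    refine hz2 ?_
    have := hno _ ((D a).add_mem hz ((D a).smul_mem _ hv)) hQ1 (by
      rwa [QuadraticMap.polar_add_right, QuadraticMap.polar_smul_right, hvv, smul_zero, add_zero])
    rwa [QuadraticMap.polar_add_right, QuadraticMap.polar_smul_right, QuadraticMap.polar_comm _ v' v, hb,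
      smul_zero, add_zero] at this
  push Not at hq
  have hone : ∀ c : F, c ≠ 0 → c = 1 := fun c hc =>
    mul_right_cancel₀ hQ (by linear_combination hq c hc - hq 1 one_ne_zero)
  have hq2 : Fintype.card F = 2 := by
    classical
    have : (Finset.univ : Finset F) = {0, 1} := by
      ext c; simp only [Finset.mem_univ, Finset.mem_insert, Finset.mem_singleton, true_iff]
      exact (em (c = 0)).imp_right (hone c)
    rw [← Finset.card_univ, this, Finset.card_pair zero_ne_one]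
  obtain ⟨P, hP⟩ : ∃ P, P = D a ⊓ LinearMap.ker (QuadraticMap.polarBilin Q v) ⊓
    LinearMap.ker (QuadraticMap.polarBilin Q v') := ⟨_, rfl⟩
  have hPm : ∀ n, n ∈ P ↔ (n ∈ D a ∧ B v n = 0) ∧ B v' n = 0 := fun n => by rw [hP]; exact Iff.rfl
  have hPQ : ∀ n ∈ P, Q n = -B z n := fun n hn => by
    obtain ⟨⟨hn1, hn2⟩, hn3⟩ := (hPm n).1 hn
    by_contra h
    refine hz2 ?_
    have := hno (z + n) ((D a).add_mem hz hn1) (fun e => h (by
      rw [QuadraticMap.map_add (f := Q), hQz, zero_add] at e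
      linear_combination e)) (by rwa [QuadraticMap.polar_add_right, hn2, add_zero])
    rwa [QuadraticMap.polar_add_right, hn3, add_zero] at this
  have hPiso : ∀ n ∈ P, ∀ n' ∈ P, B n n' = 0 := fun n hn n' hn' => by
    have h := hPQ _ (P.add_mem hn hn')
    rw [QuadraticMap.map_add (f := Q), hPQ n hn, hPQ n' hn', QuadraticMap.polar_add_right] at h
    linear_combination h
  obtain ⟨w, hw, hw1, hw2⟩ : ∃ w ∈ D a, B v w = 1 ∧ B v' w = 0 := by
    by_contra hc
    push Not at hc
    have hall : ∀ y ∈ D a, B v' y = 0 → B v y = 0 := fun y hy h0 => by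
      by_contra h1
      exact hc ((B v y)⁻¹ • y) ((D a).smul_mem _ hy)
        (by rw [QuadraticMap.polar_smul_right, smul_eq_mul, inv_mul_cancel₀ h1])
        (by rw [QuadraticMap.polar_smul_right, h0, smul_zero])
    refine hd (B v' z / B v z) (sub_eq_zero.1 ?_)
    by_contra h0
    obtain ⟨y, hy, hy0⟩ := hC.nd a _ ((D a).sub_mem hv' ((D a).smul_mem _ hv)) h0
    refine hy0 ?_
    have h1 := hall (y - (B v' y / B v' z) • z) ((D a).sub_mem hy ((D a).smul_mem _ hz)) (by
      rw [QuadraticMap.polar_sub_right, QuadraticMap.polar_smul_right, smul_eq_mul, div_mul_cancel₀ _ hz2, sub_self])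
    rw [QuadraticMap.polar_sub_right, QuadraticMap.polar_smul_right, smul_eq_mul] at h1
    rw [QuadraticMap.polar_sub_left, QuadraticMap.polar_smul_left, smul_eq_mul]
    field_simp at h1 ⊢
    linear_combination -h1
  have hdim : finrank F P ≤ 2 := by
    let φ : P →ₗ[F] F × F :=
      (((QuadraticMap.polarBilin Q z).prod (QuadraticMap.polarBilin Q w))).comp P.subtype
    have hinj : Function.Injective φ := by
      rw [← LinearMap.ker_eq_bot, LinearMap.ker_eq_bot']
      intro n hn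
      obtain ⟨e1, e2⟩ := Prod.mk_eq_zero.1 hn
      by_contra h0
      obtain ⟨⟨hn1, -⟩, -⟩ := (hPm _).1 n.2
      obtain ⟨y, hy, hy0⟩ := hC.nd a _ hn1 (fun e => h0 (Subtype.ext e))
      refine hy0 ?_
      obtain ⟨α, hα⟩ : ∃ α, α = B v' y / B v' z := ⟨_, rfl⟩
      obtain ⟨β, hβ⟩ : ∃ β, β = B v y - α * B v z := ⟨_, rfl⟩
      have hy' : y - α • z - β • w ∈ P := (hPm _).2 ⟨⟨(D a).sub_mem ((D a).sub_mem hy ((D a).smul_mem _ hz))
        ((D a).smul_mem _ hw), by
          simp only [QuadraticMap.polar_sub_right, QuadraticMap.polar_smul_right, smul_eq_mul, hw1, hβ]; ring⟩, by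
          simp only [QuadraticMap.polar_sub_right, QuadraticMap.polar_smul_right, smul_eq_mul, hw2, hα]
          field_simp; ring⟩
      have := hPiso _ n.2 _ hy'
      rw [QuadraticMap.polar_sub_right, QuadraticMap.polar_sub_right, QuadraticMap.polar_smul_right,
        QuadraticMap.polar_smul_right, QuadraticMap.polar_comm _ (n : V) z, QuadraticMap.polar_comm _ (n : V) w] at this
      have e1' : B z (n : V) = 0 := e1
      have e2' : B w (n : V) = 0 := e2
      rw [e1', e2', smul_zero, smul_zero, sub_zero, sub_zero] at this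
      exact this
    have h := LinearMap.finrank_le_finrank_of_injective hinj
    rwa [finrank_prod, finrank_self] at h
  have hdim' : k ≤ finrank F P + 2 := by
    have h1 := MaxTv.finrank_le_inf_ker_add_one (D a) (QuadraticMap.polarBilin Q v)
    have h2 := MaxTv.finrank_le_inf_ker_add_one (D a ⊓ LinearMap.ker (QuadraticMap.polarBilin Q v))
      (QuadraticMap.polarBilin Q v')
    rw [← hP] at h2
    rw [hC.dim] at h1
    omega
  have hv1 : ∀ y, Q y ≠ 0 → Q y = 1 := fun y hy => hone _ hy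
  have hx0 : Q (v + v') = 0 := by
    rw [QuadraticMap.map_add (f := Q), hv1 v hQ, hv1 v' hQ', hb, add_zero, one_add_one_eq_two, h2]
  have hxz : B (v + v') z = 0 := by
    rw [QuadraticMap.polar_add_left, hone _ hz1, hone _ hz2, one_add_one_eq_two, h2]
  rcases hC.two hq2 (by omega) a _ ((D a).add_mem hv hv') z hz hx0 hQz hxz with e | e | e
  · exact hd 1 (by
      rw [one_smul]
      have h' := eq_neg_of_add_eq_zero_right e
      rw [h', ← neg_one_smul F v, show (-1 : F) = 1 by linear_combination -h2, one_smul])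
  · exact hz1 (by rw [e, QuadraticMap.polar_zero_right])
  · exact hz1 (by rw [← e, QuadraticMap.polar_add_right, hvv, hb, add_zero])

theorem ne_bot (i : Fin t) : D i ≠ ⊥ := fun e => by
  have h := hC.dim i
  rw [e, finrank_bot] at h
  have := hC.k_two_le
  omega

theorem dim_eq (i j : Fin t) : finrank F (D i) = finrank F (D j) := by rw [hC.dim, hC.dim]

/-- Under closedness an element keeping one anisotropic vector in a summand permutes the summands. -/
theorem block_map (hN : Closed Q M D) {h : GL ι F} (hh : h ∈ M) {a b : Fin t} {v : V} (hv : v ∈ D a)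
    (hQ : Q v ≠ 0) (hb : (h : Mn) *ᵥ v ∈ D b) : h ∈ Geo.decompositionStabilizer D := by
  have one : ∀ i, ∀ v' ∈ D i, Q v' ≠ 0 → IsSquare (Q v * Q v') → ∃ c, (h : Mn) *ᵥ v' ∈ D c := by
    intro i v' hv' hQ' hsq
    obtain ⟨r, hr⟩ := hsq
    have hr0 : r ≠ 0 := fun e => mul_ne_zero hQ hQ' (by rw [hr, e, mul_zero])
    have hc : r / Q v ≠ 0 := div_ne_zero hr0 hQ
    refine hN _ (by rwa [hC.iso h hh]) b ((r / Q v) • ((h : Mn) *ᵥ v)) ((D b).smul_mem _ hb) ?_ ?_
    · rw [QuadraticMap.map_smul, smul_eq_mul, hC.iso h hh, hC.iso h hh]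
      field_simp
      linear_combination -hr
    · exact ((PairMem.smul_left hc).2 (hC.pair_map (hC.pairs_class hv hv' hQ hQ' ⟨r, hr⟩) hh)).symm
  have hτ : ∀ i, ∃ c, ∀ z ∈ D i, (h : Mn) *ᵥ z ∈ D c := by
    intro i
    obtain ⟨u, hu, hQu⟩ := hC.repr_val i (Q v)
    have hQu0 : Q u ≠ 0 := hQu ▸ hQ
    have hu0 : u ≠ 0 := fun e => hQu0 (by rw [e, QuadraticMap.map_zero])
    obtain ⟨f, hf⟩ := one i u hu hQu0 ⟨Q v, by rw [hQu]⟩
    have sameblock : ∀ y ∈ D i, ∀ y' ∈ D i, ∀ c c', (h : Mn) *ᵥ y ∈ D c → (h : Mn) *ᵥ y' ∈ D c' →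
        B y y' ≠ 0 → c = c' := fun y _ y' _ c c' hc hc' hne => by
      by_contra hcc
      exact hne (by rw [← hC.polar_iso hh, hC.orth c c' hcc _ hc _ hc'])
    have two : ∀ v' ∈ D i, Q v' ≠ 0 → IsSquare (Q v * Q v') → (h : Mn) *ᵥ v' ∈ D f := by
      intro v' hv' hQ' hsq
      by_cases hd : ∀ c : F, v' ≠ c • u
      · obtain ⟨c, hc⟩ := one i v' hv' hQ' hsq
        by_cases hne : B u v' = 0
        · obtain ⟨z, hz, hQz, hsqz, h1, h2⟩ := hC.common hu hv' hQu0 hQ' hne hd
          obtain ⟨c', hc'⟩ := one i z hz hQz (hQu ▸ hsqz)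
          rw [sameblock u hu z hz f c' hf hc' h1, ← sameblock v' hv' z hz c c' hc hc' h2]
          exact hc
        · rw [sameblock u hu v' hv' f c hf hc hne]; exact hc
      · push Not at hd
        obtain ⟨c, rfl⟩ := hd
        rw [Matrix.mulVec_smul]
        exact (D f).smul_mem _ hf
    refine ⟨f, fun z hz => ?_⟩
    by_cases hk : k = 2
    · obtain ⟨v', hv', hQv', hd, -⟩ := hC.third_two hk hu hQu0 u
      have hspan : Submodule.span F {u, v'} = D i := by
        refine Submodule.eq_of_le_of_finrank_le (Submodule.span_le.2 ?_) ?_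
        · rintro w (rfl | rfl) <;> assumption
        · have := finrank_span_eq_card ((LinearIndependent.pair_iff' hu0).2 fun c e => hd c e.symm)
          rw [Matrix.range_cons_cons_empty, Fintype.card_fin] at this
          rw [this, hC.dim, hk]
      obtain ⟨x, y, rfl⟩ := Submodule.mem_span_pair.1 (hspan.symm ▸ hz : z ∈ Submodule.span F {u, v'})
      rw [Matrix.mulVec_add, Matrix.mulVec_smul, Matrix.mulVec_smul]
      exact (D f).add_mem ((D f).smul_mem _ hf)
        ((D f).smul_mem _ (two v' hv' (hQv' ▸ hQu0) ⟨Q v, by rw [hQv', hQu]⟩))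
    · obtain ⟨h2, hk4⟩ := hC.char_two_of_four hk
      haveI := CharTwo.of_one_ne_zero_of_two_eq_zero one_ne_zero h2
      have := hC.aniso_span hk4 h2 i (W := (D f).comap (Matrix.toLin' (h : Mn))) (fun w hw hQw => by
        rw [Submodule.mem_comap, Matrix.toLin'_apply]
        exact two w hw hQw (FiniteField.isSquare_of_char_two (ringChar.eq F 2) _)) hz
      rwa [Submodule.mem_comap, Matrix.toLin'_apply] at this
  choose τ hτ using hτ
  exact hC.proj.mem_stabilizer hC.dim_eq τ hτ hC.ne_bot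

/-- Outside the stabiliser no anisotropic vector of a summand goes into a summand. -/
theorem not_block (hN : Closed Q M D) {g : GL ι F} (hg : g ∈ M) (hgD : g ∉ Geo.decompositionStabilizer D)
    {a : Fin t} {v : V} (hv : v ∈ D a) (hQ : Q v ≠ 0) (b : Fin t) : (g : Mn) *ᵥ v ∉ D b :=
  fun h => hgD (hC.block_map hN hg hv hQ h)

/-- Paired vectors fixing an anisotropic vector of a summand. -/
theorem pair_fix (hN : Closed Q M D) {x y : V} (hp : PairMem Q M x y) {e : Fin t} {z : V} (hz : z ∈ D e)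
    (hQz : Q z ≠ 0) (hx : B x z = 0) (hy : B y z = 0) :
    ∃ h ∈ Geo.decompositionStabilizer D, ∀ w, (h : Mn) *ᵥ w = rf Q x (rf Q y w) := by
  obtain ⟨h, hh, e'⟩ := hp
  refine ⟨h, hC.block_map hN hh hz hQz (b := e) ?_, e'⟩
  rw [e', rf_perp hy, rf_perp hx]
  exact hz

theorem img_pair {g : GL ι F} (hg : g ∈ M) {a b : Fin t} {v w : V} (hv : v ∈ D a) (hw : w ∈ D b) (hQ : Q v ≠ 0)
    (he : Q w = Q v) : PairMem Q M ((g : Mn) *ᵥ v) ((g : Mn) *ᵥ w) :=
  hC.pair_map (hC.pairs a b v hv w hw hQ he) hg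

theorem img_indep {g : GL ι F} {v w : V} (hd : ∀ c : F, w ≠ c • v) (c : F) :
    (g : Mn) *ᵥ w ≠ c • ((g : Mn) *ᵥ v) := by
  rw [← Matrix.mulVec_smul]
  exact fun e => hd c (gl_mulVec_injective g e)

theorem finrank_pair (x y : V) : finrank F (Submodule.span F ({x, y} : Set V)) ≤ 2 := by
  classical
  exact (finrank_span_le_card ({x, y} : Set V)).trans (by
    rw [Set.toFinset_insert, Set.toFinset_singleton]; exact Finset.card_le_two)

/-- The vector of a spread vector in the stabiliser case. -/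
theorem supp_two {h : GL ι F} (hh : h ∈ Geo.decompositionStabilizer D) {x y : V}
    (e : ∀ z, (h : Mn) *ᵥ z = rf Q x (rf Q y z)) (hQ : Q x ≠ 0) (hxy : Q y = Q x) (hd : ∀ c : F, y ≠ c • x)
    {f f' : Fin t} (hff : f ≠ f') (hf : p f x ≠ 0) (hf' : p f' x ≠ 0) :
    ∀ i, i ≠ f → i ≠ f' → p i x = 0 ∧ p i y = 0 := by
  intro i hif hif'
  rcases hC.span_supp hh e hQ hxy hd with ⟨h1, h2⟩ | ⟨-, g, g', hgg⟩
  · constructor <;> by_contra h0
    exacts [hC.indep_three (hC.finrank_pair x y) hff (Ne.symm hif) (Ne.symm hif') (hC.proj.mem f x)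
      (hC.proj.mem f' x) (hC.proj.mem i x) hf hf' h0 (h1 f) (h1 f') (h1 i),
      hC.indep_three (hC.finrank_pair x y) hff (Ne.symm hif) (Ne.symm hif') (hC.proj.mem f x)
      (hC.proj.mem f' x) (hC.proj.mem i y) hf hf' h0 (h1 f) (h1 f') (h2 i)]
  · have hfg : f = g ∨ f = g' := by
      by_contra h; push Not at h; exact hf (hgg f h.1 h.2).1
    have hfg' : f' = g ∨ f' = g' := by
      by_contra h; push Not at h; exact hf' (hgg f' h.1 h.2).1
    refine hgg i ?_ ?_ <;> rintro rfl <;> rcases hfg with rfl | rfl <;> rcases hfg' with rfl | rfl <;>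
      first | exact hff rfl | exact hif rfl | exact hif' rfl

theorem exists_two {x : V} (hx : ∀ b, x ∉ D b) : ∃ f f', f ≠ f' ∧ p f x ≠ 0 ∧ p f' x ≠ 0 := by
  by_contra hc
  push Not at hc
  by_cases h : ∃ f, p f x ≠ 0
  · obtain ⟨f, hf⟩ := h
    exact hx f (hC.proj.mem_of_forall fun j hj => hc f j (Ne.symm hj) hf)
  · push Not at h
    exact hx ⟨0, by have := hC.tge; omega⟩ (hC.proj.mem_of_forall fun j _ => h j)

/-- Closedness contradicts a moving element when the summands have dimension at least four. -/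
theorem open_four (hN : Closed Q M D) {g : GL ι F} (hg : g ∈ M) (hgD : g ∉ Geo.decompositionStabilizer D)
    (hk : 4 ≤ k) (h2 : (2 : F) = 0) : False := by
  haveI := CharTwo.of_one_ne_zero_of_two_eq_zero one_ne_zero h2
  have hsq : ∀ r : F, IsSquare r := FiniteField.isSquare_of_char_two (ringChar.eq F 2)
  let e0 : Fin t := ⟨0, by have := hC.tge; omega⟩
  let e1 : Fin t := ⟨1, by have := hC.tge; omega⟩
  obtain ⟨z, hz, hQz⟩ := hC.exists_aniso e0
  obtain ⟨U, hUdef⟩ : ∃ U : Fin t → Submodule F V, ∀ i,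
      U i = D i ⊓ LinearMap.ker ((QuadraticMap.polarBilin Q z).comp (Matrix.toLin' (g : Mn))) := ⟨_, fun _ => rfl⟩
  have hUm : ∀ i w, w ∈ U i ↔ w ∈ D i ∧ B z ((g : Mn) *ᵥ w) = 0 := fun i w => by
    rw [hUdef, Submodule.mem_inf, LinearMap.mem_ker, LinearMap.comp_apply, Matrix.toLin'_apply]; rfl
  have hUdim : ∀ i, 3 ≤ finrank F (U i) := fun i => by
    have h1 := MaxTv.finrank_le_inf_ker_add_one (D i)
      ((QuadraticMap.polarBilin Q z).comp (Matrix.toLin' (g : Mn)))
    rw [← hUdef, hC.dim] at h1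
    omega
  -- anisotropic vectors and a second one
  have hUa : ∀ i, ∃ v ∈ U i, Q v ≠ 0 := fun i => by
    by_contra hc
    push Not at hc
    have hle : D i ≤ U i := hC.aniso_span hk h2 i fun v hv hQv => by
      obtain ⟨a, ha⟩ : ∃ a, a = B z ((g : Mn) *ᵥ v) := ⟨_, rfl⟩
      refine (hUm i v).2 ⟨hv, ?_⟩
      by_contra h0
      have hiso : ∀ w ∈ U i, ∀ w' ∈ U i, B w w' = 0 := fun w hw w' hw' => by
        rw [QuadraticMap.polar, hc _ ((U i).add_mem hw hw'), hc w hw, hc w' hw', sub_zero, sub_zero]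
      obtain ⟨n, hn, hn0⟩ := Submodule.exists_mem_ne_zero_of_ne_bot
        (p := U i ⊓ LinearMap.ker (QuadraticMap.polarBilin Q v)) fun e => by
          have h1 := MaxTv.finrank_le_inf_ker_add_one (U i) (QuadraticMap.polarBilin Q v)
          rw [e, finrank_bot] at h1
          have := hUdim i
          omega
      obtain ⟨y, hy, hny⟩ := hC.nd i n ((hUm i n).1 hn.1).1 hn0
      obtain ⟨r, hr⟩ : ∃ r, r = B z ((g : Mn) *ᵥ y) / B z ((g : Mn) *ᵥ v) := ⟨_, rfl⟩
      have hy' : y - r • v ∈ U i := (hUm i _).2 ⟨(D i).sub_mem hy ((D i).smul_mem _ hv), by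
        rw [Matrix.mulVec_sub, Matrix.mulVec_smul, QuadraticMap.polar_sub_right, QuadraticMap.polar_smul_right,
          smul_eq_mul, hr, div_mul_cancel₀ _ h0, sub_self]⟩
      refine hny ?_
      rw [show y = (y - r • v) + r • v by abel, QuadraticMap.polar_add_right, QuadraticMap.polar_smul_right,
        hiso n hn.1 _ hy', QuadraticMap.polar_comm _ n v, show B v n = 0 from hn.2, smul_zero, add_zero]
    obtain ⟨v, hv, hQv⟩ := hC.exists_aniso i
    exact hQv (hc v (hle hv))
  obtain ⟨v, hv, hQv⟩ := hUa e0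
  obtain ⟨hvD, hvz⟩ := (hUm e0 v).1 hv
  have hv0 : v ≠ 0 := fun e => hQv (by rw [e, QuadraticMap.map_zero])
  obtain ⟨v', hv', hQv', hd'⟩ : ∃ v' ∈ U e0, Q v' ≠ 0 ∧ ∀ c : F, v' ≠ c • v := by
    by_contra hc
    push Not at hc
    obtain ⟨y, hy, hyn⟩ : ∃ y ∈ U e0, y ∉ Submodule.span F ({v} : Set V) := by
      by_contra h
      push Not at h
      have h1 := Submodule.finrank_mono (show U e0 ≤ Submodule.span F ({v} : Set V) from h)
      rw [finrank_span_singleton hv0] at h1
      have := hUdim e0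
      omega
    obtain ⟨y', hy', hyn'⟩ : ∃ y' ∈ U e0, y' ∉ Submodule.span F ({v, y} : Set V) := by
      by_contra h
      push Not at h
      have h1 := Submodule.finrank_mono (show U e0 ≤ Submodule.span F ({v, y} : Set V) from h)
      have := hC.finrank_pair v y
      have := hUdim e0
      omega
    have key : ∀ w ∈ U e0, w ∉ Submodule.span F ({v} : Set V) → B w v = -Q v := fun w hw hwn => by
      have h0 : ∀ w ∈ U e0, w ∉ Submodule.span F ({v} : Set V) → Q w = 0 := fun w hw hwn => by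
        by_contra hQw
        obtain ⟨c, rfl⟩ := hc w hw hQw
        exact hwn (Submodule.smul_mem _ _ (Submodule.mem_span_singleton_self v))
      have h := h0 (w + v) ((U e0).add_mem hw hv) fun e => hwn (by
        simpa using Submodule.sub_mem _ e (Submodule.mem_span_singleton_self v))
      rw [QuadraticMap.map_add (f := Q), h0 w hw hwn, zero_add] at h
      exact eq_neg_of_add_eq_zero_right h
    have hsub : Submodule.span F ({v} : Set V) ≤ Submodule.span F ({v, y} : Set V) :=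
      Submodule.span_mono (by simp)
    have e3 := key (y + y') ((U e0).add_mem hy hy') fun e => hyn' (by
      have := Submodule.sub_mem _ (hsub e) (Submodule.subset_span (show y ∈ ({v, y} : Set V) by simp))
      simpa using this)
    rw [QuadraticMap.polar_add_left, key y hy hyn, key y' hy' fun e => hyn' (hsub e)] at e3
    exact hQv (by linear_combination -e3)
  obtain ⟨w, hw, hQw⟩ := hUa e1
  obtain ⟨x, hx⟩ : ∃ x, x = (g : Mn) *ᵥ v := ⟨_, rfl⟩
  obtain ⟨f, f', hff, hf, hf'⟩ := hC.exists_two (x := x) fun b => hx ▸ hC.not_block hN hg hgD hvD hQv b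
  -- every image lies in the plane of the two components
  have hP : ∀ {i : Fin t} {y : V}, y ∈ U i → Q y ≠ 0 → (∀ c : F, y ≠ c • v) →
      (g : Mn) *ᵥ y ∈ Submodule.span F {p f x, p f' x} ∧ x ∈ Submodule.span F {p f x, p f' x} := by
    intro i y hy hQy hdy
    obtain ⟨r, hr⟩ := hsq (Q v * (Q y)⁻¹)
    have hr0 : r ≠ 0 := fun e => mul_ne_zero hQv (inv_ne_zero hQy) (by rw [hr, e, mul_zero])
    have hQr : Q (r • y) = Q v := by
      rw [QuadraticMap.map_smul, smul_eq_mul, ← hr, inv_mul_cancel_right₀ hQy]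
    obtain ⟨hyD, hyz⟩ := (hUm i y).1 hy
    obtain ⟨h, hh, he⟩ := hC.pair_fix hN (hC.img_pair hg hvD ((D i).smul_mem r hyD) hQv hQr) hz hQz
      (by rw [QuadraticMap.polar_comm]; exact hvz)
      (by rw [QuadraticMap.polar_comm, Matrix.mulVec_smul, QuadraticMap.polar_smul_right, hyz, smul_zero])
    have hQx : Q x ≠ 0 := by rw [hx, hC.iso g hg]; exact hQv
    rw [← hx] at he
    have hxy : Q ((g : Mn) *ᵥ (r • y)) = Q x := by rw [hx, hC.iso g hg, hC.iso g hg, hQr]
    have hdxy : ∀ c : F, (g : Mn) *ᵥ (r • y) ≠ c • x := fun c => hx ▸ hC.img_indep (fun c e => hdy (r⁻¹ * c) (by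
      rw [mul_smul, ← e, inv_smul_smul₀ hr0])) c
    rcases hC.span_supp hh he hQx hxy hdxy with ⟨h1, -⟩ | ⟨hk2, -⟩
    · have hind : LinearIndependent F ![p f x, p f' x] := (LinearIndependent.pair_iff' hf).2 fun c e => by
        have h' := congrArg (p f') e
        rw [map_smul, hC.proj.other f' f (Ne.symm hff) _ (hC.proj.mem f x), smul_zero,
          hC.proj.self f' _ (hC.proj.mem f' x)] at h'
        exact hf' h'.symm
      have heq : Submodule.span F {p f x, p f' x} = Submodule.span F {x, (g : Mn) *ᵥ (r • y)} := by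
        refine Submodule.eq_of_le_of_finrank_le (Submodule.span_le.2 ?_) ?_
        · rintro u (rfl | rfl)
          exacts [h1 f, h1 f']
        · have := finrank_span_eq_card hind
          rw [Matrix.range_cons_cons_empty, Fintype.card_fin] at this
          rw [this]
          exact hC.finrank_pair _ _
      refine ⟨?_, heq ▸ Submodule.subset_span (by simp)⟩
      have : (g : Mn) *ᵥ (r • y) ∈ Submodule.span F {p f x, p f' x} := heq ▸ Submodule.subset_span (by simp)
      rw [Matrix.mulVec_smul] at this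
      exact (Submodule.smul_mem_iff _ hr0).1 this
    · omega
  have hwv : ∀ c : F, w ≠ c • v := fun c e => by
    have hne : e1 ≠ e0 := by simp [e0, e1]
    exact hQw (by
      rw [← hC.proj.self e1 w ((hUm e1 w).1 hw).1, e, map_smul, hC.proj.other e1 e0 hne v hvD, smul_zero,
        QuadraticMap.map_zero])
  obtain ⟨S, hS⟩ : ∃ S : Submodule F V, S = (Submodule.span F {p f x, p f' x}).comap (Matrix.toLin' (g : Mn)) :=
    ⟨_, rfl⟩
  have hmem : v ∈ S ∧ v' ∈ S ∧ w ∈ S := by
    rw [hS]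
    simp only [Submodule.mem_comap, Matrix.toLin'_apply]
    exact ⟨hx ▸ (hP hw hQw hwv).2, (hP hv' hQv' hd').1, (hP hw hQw hwv).1⟩
  have hSdim : finrank F S ≤ 2 := by
    have hle : S.map (Matrix.toLin' (g : Mn)) ≤ Submodule.span F {p f x, p f' x} := by
      rw [hS]; exact Submodule.map_comap_le _ _
    rw [(Submodule.equivMapOfInjective (Matrix.toLin' (g : Mn)) (fun a b h => gl_mulVec_injective g (by
      simpa [Matrix.toLin'_apply] using h)) S).finrank_eq]
    exact (Submodule.finrank_mono hle).trans (hC.finrank_pair _ _)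
  have hind : LinearIndependent F ![(⟨v, hmem.1⟩ : S), ⟨v', hmem.2.1⟩, ⟨w, hmem.2.2⟩] := by
    rw [Fintype.linearIndependent_iff]
    intro c hc
    have e : c 0 • v + c 1 • v' + c 2 • w = 0 := by
      simpa [Fin.sum_univ_three] using congrArg Subtype.val hc
    have hne : e1 ≠ e0 := by simp [e0, e1]
    have h2' := congrArg (p e1) e
    rw [map_add, map_add, map_smul, map_smul, map_smul, map_zero, hC.proj.other e1 e0 hne v hvD,
      hC.proj.other e1 e0 hne v' ((hUm e0 v').1 hv').1, hC.proj.self e1 w ((hUm e1 w).1 hw).1, smul_zero,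
      smul_zero, zero_add, zero_add, smul_eq_zero] at h2'
    have hc2 := h2'.resolve_right fun e' => hQw (by rw [e', QuadraticMap.map_zero])
    rw [hc2, zero_smul, add_zero] at e
    have h01 := LinearIndependent.pair_iff.1 ((LinearIndependent.pair_iff' hv0).2 fun c e' => hd' c e'.symm) _ _ e
    intro m
    fin_cases m
    exacts [h01.1, h01.2, hc2]
  have := hind.fintype_card_le_finrank
  rw [Fintype.card_fin] at this
  omega

theorem ind_pair {x y : V} (hx : x ≠ 0) (hd : ∀ c : F, y ≠ c • x) : LinearIndependent F ![x, y] :=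
  (LinearIndependent.pair_iff' hx).2 fun c e => hd c e.symm

/-- In a plane the perpendicular of an anisotropic vector is anisotropic. -/
theorem aniso_of_perp (hk : k = 2) {e : Fin t} {y z : V} (hy : y ∈ D e) (hz : z ∈ D e) (hQy : Q y ≠ 0)
    (hz0 : z ≠ 0) (h : B y z = 0) : Q z ≠ 0 := fun hQz => by
  refine hz0 (perp_pair (Q := Q) (by rw [hC.dim, hk]) (hC.nd e) hy hz
    (ind_pair hC (fun e => hQy (by rw [e, QuadraticMap.map_zero])) fun c hc => ?_) hz h (by rw [polar_diag, hQz, mul_zero]))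
  rcases eq_or_ne c 0 with rfl | hc0
  · exact hz0 (by rw [hc, zero_smul])
  · exact hQy ((mul_eq_zero.1 (show c * c * Q y = 0 by
      rw [← smul_eq_mul, ← QuadraticMap.map_smul, ← hc, hQz])).resolve_left (mul_ne_zero hc0 hc0))

theorem fix_vec (hk : k = 2) {e : Fin t} {y : V} (hy : y ∈ D e) (h : y = 0 ∨ Q y ≠ 0) :
    ∃ z ∈ D e, Q z ≠ 0 ∧ B y z = 0 := by
  rcases h with rfl | h
  · obtain ⟨z, hz, hQz⟩ := hC.exists_aniso e
    exact ⟨z, hz, hQz, by simp⟩
  · obtain ⟨z, hz, hz0, hyz⟩ := hC.exists_perp e y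
    exact ⟨z, hz, hC.aniso_of_perp hk hy hz h hz0 hyz, hyz⟩

/-- A singular vector of a plane meets no anisotropic perpendicular. -/
theorem sing_polar (hk : k = 2) {e : Fin t} {s z : V} (hs : s ∈ D e) (hs0 : s ≠ 0) (hQs : Q s = 0) (hz : z ∈ D e)
    (hQz : Q z ≠ 0) : B s z ≠ 0 := fun h =>
  hC.aniso_of_perp hk hz hs hQz hs0 (by rw [QuadraticMap.polar_comm]; exact h) hQs

/-- An element of the stabiliser scaling a singular vector of a plane. -/
theorem exists_scale (hk : k = 2) {e : Fin t} {s : V} (hs : s ∈ D e) (hs0 : s ≠ 0) (hQs : Q s = 0) :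
    ∃ v ∈ D e, ∃ v' ∈ D e, Q v ≠ 0 ∧ Q v' = Q v ∧ ∃ c : F, c ≠ 0 ∧ rf Q v (rf Q v' s) = s + c • s := by
  obtain ⟨v, hv, hQv⟩ := hC.exists_aniso e
  obtain ⟨v', hv', hQv', hd, -⟩ := hC.third_two hk hv hQv v
  have hv0 : v ≠ 0 := fun e => hQv (by rw [e, QuadraticMap.map_zero])
  have hQv0 : Q v' ≠ 0 := hQv' ▸ hQv
  have hin : ∀ w ∈ D e, ∀ y ∈ D e, rf Q w y ∈ D e := fun w hw y hy => by
    rw [rf_apply]; exact (D e).sub_mem hy ((D e).smul_mem _ hw)
  have hne : ∀ w ∈ D e, Q w ≠ 0 → ∀ y ∈ D e, y ≠ 0 → Q y = 0 → ∀ c : F, rf Q w y ≠ c • y := fun w hw hQw y hy hy0 hQy c hc => by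
    have hb := hC.sing_polar hk hy hy0 hQy hw hQw
    have h1 := congrArg (B y) hc
    rw [rf_apply, QuadraticMap.polar_sub_right, QuadraticMap.polar_smul_right, QuadraticMap.polar_smul_right,
      polar_diag, hQy, mul_zero, smul_zero, zero_sub, neg_eq_zero, smul_eq_mul, QuadraticMap.polar_comm _ w y] at h1
    exact mul_ne_zero (mul_ne_zero hb (inv_ne_zero hQw)) hb h1
  obtain ⟨s', hs'⟩ : ∃ s', s' = rf Q v' s := ⟨_, rfl⟩
  have hs'D : s' ∈ D e := hs' ▸ hin v' hv' s hs
  have hQs' : Q s' = 0 := by rw [hs', quad_rf, hQs]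
  have hs'0 : s' ≠ 0 := fun h => hs0 (rf_injective (Q := Q) v' (by rw [← hs', h, map_zero]))
  rcases hC.sing_three hk hs hs'D (hin v hv s' hs'D) hQs hQs' (by rw [quad_rf, hQs']) hs0
    (fun c h => hne v' hv' hQv0 s hs hs0 hQs c (hs' ▸ h)) with ⟨c, hc⟩ | ⟨c, hc⟩
  · refine ⟨v, hv, v', hv', hQv, hQv', c - 1, fun h => ?_, by rw [← hs', hc]; module⟩
    have h1 : c = 1 := sub_eq_zero.1 h
    rw [h1, one_smul] at hc
    have h2 : rf Q v' s = rf Q v s := by rw [← hs', ← rf_rf (Q := Q) v s', hc]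
    obtain ⟨r, hr⟩ := dep_of_rf_eq (by rw [hC.dim, hk]) (hC.nd e) hv hv' hQv hQv0 hs hs0 h2.symm
    exact hd r hr
  · exact absurd hc (hne v hv hQv s' hs'D hs'0 hQs' c)

/-- A vanishing component and a singular component on the same summand are incompatible. -/
theorem root_case (hN : Closed Q M D) (hk : k = 2) {x y : V} (hp : PairMem Q M x y) (hQ : Q x ≠ 0)
    (hxy : Q y = Q x) {e : Fin t} (hx : p e x = 0) (hy0 : p e y ≠ 0) (hys : Q (p e y) = 0) (hyn : ∀ b, y ∉ D b) :
    False := by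
  have ht : 5 ≤ t := hC.shape.elim (fun h => h.2) fun h => by omega
  have hQy : Q y ≠ 0 := hxy ▸ hQ
  obtain ⟨σ₀, hσ₀⟩ : ∃ s, s = p e y := ⟨_, rfl⟩
  rw [← hσ₀] at hy0 hys
  have hσ₀D : σ₀ ∈ D e := hσ₀ ▸ hC.proj.mem e y
  obtain ⟨v, hv, v', hv', hQv, hQv', c, hc, hρ⟩ := hC.exists_scale hk hσ₀D hy0 hys
  obtain ⟨m, hm, hmρ⟩ := hC.pairs e e v hv v' hv' hQv hQv'
  obtain ⟨σ, hσ⟩ : ∃ σ, σ = c • σ₀ := ⟨_, rfl⟩
  have hσD : σ ∈ D e := hσ ▸ (D e).smul_mem _ hσ₀D
  have hσ0 : σ ≠ 0 := hσ ▸ smul_ne_zero hc hy0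
  have hQσ : Q σ = 0 := by rw [hσ, QuadraticMap.map_smul, hys, smul_zero]
  -- the moved partner
  have hfix : ∀ w ∈ D e, B w x = 0 := fun w hw => by rw [hC.polar_proj hw, hx, QuadraticMap.polar_zero_right]
  have hmx : (m : Mn) *ᵥ x = x := by rw [hmρ, rf_perp (hfix v' hv'), rf_perp (hfix v hv)]
  obtain ⟨rest, hrest⟩ : ∃ r, r = y - σ₀ := ⟨_, rfl⟩
  have hrp : ∀ w ∈ D e, B w rest = 0 := fun w hw => by
    rw [hrest, QuadraticMap.polar_sub_right, hC.polar_proj hw y, ← hσ₀, sub_self]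
  have hmy : (m : Mn) *ᵥ y = y + σ := by
    rw [hmρ, show y = σ₀ + rest by rw [hrest]; abel, map_add, map_add, rf_perp (hrp v' hv'), rf_perp (hrp v hv),
      hρ, hσ]
    abel
  have hp' : PairMem Q M (y + σ) y := by
    have := hC.pair_map hp hm
    rw [hmx, hmy] at this
    exact this.symm.trans hp
  have hσy : B σ y = 0 := by
    rw [hC.polar_proj hσD, ← hσ₀, hσ, QuadraticMap.polar_smul_left, polar_diag, hys, mul_zero, smul_zero]
  have hQy' : Q (y + σ) = Q y := by
    rw [QuadraticMap.map_add (f := Q), hQσ, QuadraticMap.polar_comm _ y σ, hσy, add_zero, add_zero]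
  have hrval : ∀ z, rf Q (y + σ) (rf Q y z) = z - (B σ z * (Q y)⁻¹) • y -
      (B σ z * (Q y)⁻¹ - B y z * (Q y)⁻¹) • σ := fun z => by
    have hb : B (y + σ) y = 2 * Q y := by
      rw [QuadraticMap.polar_add_left, hσy, add_zero, polar_diag]
    rw [rf_apply (y + σ), hQy', rf_apply, QuadraticMap.polar_sub_right, QuadraticMap.polar_smul_right, hb,
      QuadraticMap.polar_add_left, smul_eq_mul]
    match_scalars <;> field_simp <;> ring
  obtain ⟨z, hz, hQz⟩ := hC.exists_aniso e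
  obtain ⟨f, f', hff, hf, hf'⟩ := hC.exists_two hyn
  obtain ⟨r, hr, hre⟩ := hp'
  have hrout : ∀ j, (r : Mn) *ᵥ z ∉ D j := fun j hj => by
    rw [hre, hrval] at hj
    have hb := hC.sing_polar hk hσD hσ0 hQσ hz hQz
    have hcoef : B σ z * (Q y)⁻¹ ≠ 0 := mul_ne_zero hb (inv_ne_zero hQy)
    obtain ⟨g, hge, hg⟩ : ∃ g, g ≠ e ∧ p g y ≠ 0 := by
      rcases eq_or_ne f e with rfl | h
      · exact ⟨f', Ne.symm hff, hf'⟩
      · exact ⟨f, h, hf⟩
    have hgj : g = j := by
      by_contra hgj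
      have h := hC.proj.other g j hgj _ hj
      rw [map_sub, map_sub, map_smul, map_smul, hC.proj.other g e hge z hz, hC.proj.other g e hge σ hσD, smul_zero,
        sub_zero, zero_sub, neg_eq_zero] at h
      exact smul_ne_zero hcoef hg h
    have h := hC.proj.other e j (fun h => hge (hgj.trans h.symm)) _ hj
    rw [map_sub, map_sub, map_smul, map_smul, hC.proj.self e z hz, hC.proj.self e σ hσD, ← hσ₀, hσ, smul_smul,
      sub_sub, ← add_smul, sub_eq_zero] at h
    exact hQz (by rw [h, QuadraticMap.map_smul, hys, smul_zero])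
  by_cases hex : ∃ b, b ≠ e ∧ (p b y = 0 ∨ Q (p b y) ≠ 0)
  · obtain ⟨b, hbe, hb⟩ := hex
    obtain ⟨w, hw, hQw, hyw⟩ := hC.fix_vec hk (hC.proj.mem b y) hb
    have h1 : B y w = 0 := by rw [QuadraticMap.polar_comm, hC.polar_proj hw, QuadraticMap.polar_comm, hyw]
    obtain ⟨τ, hτ⟩ := hC.block_map hN hr hw hQw (b := b) (by
      rw [hre, rf_perp h1, rf_perp (by rw [QuadraticMap.polar_add_left, h1, hC.orth e b (Ne.symm hbe) σ hσD w hw,
        add_zero])]
      exact hw)
    exact hrout (τ e) (hC.map_block hτ hz)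
  push Not at hex
  haveI : Nontrivial (Fin t) := Fin.nontrivial_iff_two_le.2 (by omega)
  obtain ⟨b, hbe⟩ : ∃ b : Fin t, b ≠ e := exists_ne e
  obtain ⟨d, hd⟩ : ∃ d : Fin t, d ∉ ({e, b} : Finset (Fin t)) := by
    by_contra hc
    push Not at hc
    have h1 := (Finset.card_le_card (show Finset.univ ⊆ ({e, b} : Finset (Fin t)) from fun i _ => hc i)).trans
      Finset.card_le_two
    rw [Finset.card_univ, Fintype.card_fin] at h1
    omega
  obtain ⟨d', hd'⟩ : ∃ d' : Fin t, d' ∉ ({e, b, d} : Finset (Fin t)) := by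
    by_contra hc
    push Not at hc
    have h1 := (Finset.card_le_card (show Finset.univ ⊆ ({e, b, d} : Finset (Fin t)) from fun i _ => hc i)).trans
      Finset.card_le_three
    rw [Finset.card_univ, Fintype.card_fin] at h1
    omega
  simp only [Finset.mem_insert, Finset.mem_singleton, not_or] at hd hd'
  obtain ⟨u, hu, hQu⟩ := hC.exists_aniso b
  obtain ⟨w, hw, hQw⟩ := hC.repr_val d (Q u)
  have himg : ∀ {j : Fin t} {z : V}, j ≠ e → z ∈ D j → (r : Mn) *ᵥ z = z + (B y z * (Q y)⁻¹) • σ := fun {j z} hje hz => by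
    rw [hre, hrval, hC.orth e j (Ne.symm hje) σ hσD z hz]
    simp
  have hb0 : ∀ {j : Fin t} {z : V}, j ≠ e → z ∈ D j → Q z ≠ 0 → B y z * (Q y)⁻¹ ≠ 0 := fun {j z} hje hz hQz => by
    refine mul_ne_zero ?_ (inv_ne_zero hQy)
    rw [QuadraticMap.polar_comm, hC.polar_proj hz, QuadraticMap.polar_comm]
    exact hC.sing_polar hk (hC.proj.mem j y) (hex j hje).1 (hex j hje).2 hz hQz
  obtain ⟨g', hg'⟩ := hC.exists_aniso d'
  have hu0 : u ≠ 0 := fun h => hQu (by rw [h, QuadraticMap.map_zero])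
  have hw0 : w ≠ 0 := fun h => hQu (by rw [← hQw, h, QuadraticMap.map_zero])
  obtain ⟨h, hh, he⟩ := hC.pair_fix hN (hC.pair_map (hC.pairs b d u hu w hw hQu hQw) hr) (e := d') hg'.1 hg'.2
    (by rw [himg hbe hu, QuadraticMap.polar_add_left, QuadraticMap.polar_smul_left,
      hC.orth b d' (Ne.symm hd'.2.1) u hu g' hg'.1, hC.orth e d' (Ne.symm hd'.1) σ hσD g' hg'.1, smul_zero, add_zero])
    (by rw [himg hd.1 hw, QuadraticMap.polar_add_left, QuadraticMap.polar_smul_left,
      hC.orth d d' (Ne.symm hd'.2.2) w hw g' hg'.1, hC.orth e d' (Ne.symm hd'.1) σ hσD g' hg'.1, smul_zero, add_zero])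
  have hrd : ∀ a : F, (r : Mn) *ᵥ w ≠ a • ((r : Mn) *ᵥ u) := hC.img_indep fun a e => hw0 (by
    rw [← hC.proj.self d w hw, e, map_smul, hC.proj.other d b hd.2 u hu, smul_zero])
  have h1 := hC.supp_two hh he (by rw [hC.iso r hr]; exact hQu) (by rw [hC.iso r hr, hC.iso r hr, hQw]) hrd hbe
    (by rw [himg hbe hu, map_add, map_smul, hC.proj.self b u hu, hC.proj.other b e hbe σ hσD, smul_zero, add_zero]
        exact hu0)
    (by rw [himg hbe hu, map_add, map_smul, hC.proj.other e b (Ne.symm hbe) u hu, hC.proj.self e σ hσD, zero_add]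
        exact smul_ne_zero (hb0 hbe hu hQu) hσ0) d hd.2 hd.1
  rw [himg hd.1 hw, map_add, map_smul, hC.proj.self d w hw, hC.proj.other d e hd.1 σ hσD, smul_zero, add_zero] at h1
  exact hw0 h1.2

/-- Outside the stabiliser images of anisotropic block vectors have no vanishing component. -/
theorem no_zero (hN : Closed Q M D) (hk : k = 2) {g : GL ι F} (hg : g ∈ M)
    (hgD : g ∉ Geo.decompositionStabilizer D) {i : Fin t} {v : V} (hv : v ∈ D i) (hQ : Q v ≠ 0) (e : Fin t) :
    p e ((g : Mn) *ᵥ v) ≠ 0 := by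
  intro h0
  have ht : 5 ≤ t := hC.shape.elim (fun h => h.2) fun h => by omega
  have hout : ∀ b, (g : Mn) *ᵥ v ∉ D b := hC.not_block hN hg hgD hv hQ
  obtain ⟨f, f', hff, hf, hf'⟩ := hC.exists_two hout
  have key : ∀ {e : Fin t}, p e ((g : Mn) *ᵥ v) = 0 → ∀ {j : Fin t} {w : V}, w ∈ D j → Q w = Q v →
      (∀ c : F, w ≠ c • v) → ∀ l, l ≠ f → l ≠ f' → p l ((g : Mn) *ᵥ v) = 0 ∧ p l ((g : Mn) *ᵥ w) = 0 := by
    intro e he j w hw hQw hd
    by_cases hs : p e ((g : Mn) *ᵥ w) ≠ 0 ∧ Q (p e ((g : Mn) *ᵥ w)) = 0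
    · exact (hC.root_case hN hk (hC.img_pair hg hv hw hQ hQw) (by rwa [hC.iso g hg])
        (by rw [hC.iso g hg, hC.iso g hg, hQw]) he hs.1 hs.2
        (hC.not_block hN hg hgD hw (hQw ▸ hQ))).elim
    · obtain ⟨z, hz, hQz, hyz⟩ := hC.fix_vec hk (hC.proj.mem e ((g : Mn) *ᵥ w))
        ((em (p e ((g : Mn) *ᵥ w) = 0)).imp_right fun h hq => hs ⟨h, hq⟩)
      obtain ⟨h, hh, he'⟩ := hC.pair_fix hN (hC.img_pair hg hv hw hQ hQw) hz hQz
        (by rw [QuadraticMap.polar_comm, hC.polar_proj hz, he, QuadraticMap.polar_zero_right])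
        (by rw [QuadraticMap.polar_comm, hC.polar_proj hz, QuadraticMap.polar_comm, hyz])
      exact hC.supp_two hh he' (by rwa [hC.iso g hg]) (by rw [hC.iso g hg, hC.iso g hg, hQw]) (hC.img_indep hd)
        hff hf hf'
  obtain ⟨d, hd⟩ : ∃ d : Fin t, d ∉ ({f, f'} : Finset (Fin t)) := by
    by_contra hc
    push Not at hc
    have h1 := (Finset.card_le_card (show Finset.univ ⊆ ({f, f'} : Finset (Fin t)) from fun i _ => hc i)).trans
      Finset.card_le_two
    rw [Finset.card_univ, Fintype.card_fin] at h1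
    omega
  simp only [Finset.mem_insert, Finset.mem_singleton, not_or] at hd
  obtain ⟨v₁, hv₁, hQv₁, hd₁, -⟩ := hC.third_two hk hv hQ v
  have hdv : p d ((g : Mn) *ᵥ v) = 0 := (key h0 hv₁ hQv₁ hd₁ d hd.1 hd.2).1
  have hall : ∀ j, ∀ z ∈ D j, p d ((g : Mn) *ᵥ z) = 0 := by
    intro j
    have one : ∀ w ∈ D j, Q w = Q v → p d ((g : Mn) *ᵥ w) = 0 := fun w hw hQw => by
      by_cases hd' : ∀ c : F, w ≠ c • v
      · exact (key h0 hw hQw hd' d hd.1 hd.2).2
      · push Not at hd'
        obtain ⟨c, rfl⟩ := hd'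
        rw [Matrix.mulVec_smul, map_smul, hdv, smul_zero]
    obtain ⟨u, hu, hQu⟩ := hC.repr_val j (Q v)
    obtain ⟨u', hu', hQu', hdu, -⟩ := hC.third_two hk hu (hQu ▸ hQ) u
    have hspan : Submodule.span F {u, u'} = D j := by
      refine Submodule.eq_of_le_of_finrank_le (Submodule.span_le.2 ?_) ?_
      · rintro w (rfl | rfl) <;> assumption
      · have := finrank_span_eq_card (ind_pair hC (fun e => hQ (by rw [← hQu, e, QuadraticMap.map_zero])) hdu)
        rw [Matrix.range_cons_cons_empty, Fintype.card_fin] at this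
        rw [this, hC.dim, hk]
    intro z hz
    obtain ⟨a, b, rfl⟩ := Submodule.mem_span_pair.1 (hspan.symm ▸ hz : z ∈ Submodule.span F {u, u'})
    rw [Matrix.mulVec_add, Matrix.mulVec_smul, Matrix.mulVec_smul, map_add, map_smul, map_smul, one u hu hQu,
      one u' hu' (hQu'.trans hQu), smul_zero, smul_zero, add_zero]
  obtain ⟨z, hz, hQz⟩ := hC.exists_aniso d
  refine hQz ?_
  rw [show z = 0 from ?_, QuadraticMap.map_zero]
  rw [← hC.proj.self d z hz, ← mulVec_inv_cancel g z, hC.mulVec_sum g, map_sum]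
  exact Finset.sum_eq_zero fun j _ => hall j _ (hC.proj.mem j _)

/-- Closedness contradicts a moving element for planes. -/
theorem open_two (hN : Closed Q M D) (hk : k = 2) (ht6 : 6 ≤ t) {g : GL ι F} (hg : g ∈ M)
    (hgD : g ∉ Geo.decompositionStabilizer D) : False := by
  classical
  have ht : 5 ≤ t := hC.shape.elim (fun h => h.2) fun h => by omega
  let e : Fin t := ⟨0, by omega⟩
  have hD : finrank F (D e) = 2 := by rw [hC.dim, hk]
  -- kernel vectors of the entries and their images are singular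
  have hker : ∀ {j : Fin t} {s : V}, s ∈ D j → s ≠ 0 → p e ((g : Mn) *ᵥ s) = 0 →
      Q s = 0 ∧ ∀ z ∈ D j, Q (p e ((g : Mn) *ᵥ z)) = 0 := by
    intro j s hs hs0 hs1
    have hQs : Q s = 0 := by_contra fun h => hC.no_zero hN hk hg hgD hs h e hs1
    obtain ⟨y, hy, hQy⟩ := hC.exists_aniso j
    obtain ⟨η, hη⟩ : ∃ η, η = p e ((g : Mn) *ᵥ y) := ⟨_, rfl⟩
    have hη0 : η ≠ 0 := hη ▸ hC.no_zero hN hk hg hgD hy hQy e
    have hspan : Submodule.span F {y, s} = D j := by
      refine Submodule.eq_of_le_of_finrank_le (Submodule.span_le.2 ?_) ?_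
      · rintro w (rfl | rfl) <;> assumption
      · have := finrank_span_eq_card (ind_pair hC (x := y) (fun e => hQy (by rw [e, QuadraticMap.map_zero]))
          (y := s) fun c hc => by
            rcases eq_or_ne c 0 with rfl | hc0
            · exact hs0 (by rw [hc, zero_smul])
            · exact hQy ((mul_eq_zero.1 (show c * c * Q y = 0 by
                rw [← smul_eq_mul, ← QuadraticMap.map_smul, ← hc, hQs])).resolve_left (mul_ne_zero hc0 hc0)))
        rw [Matrix.range_cons_cons_empty, Fintype.card_fin] at this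
        rw [this, hC.dim, hk]
    have himg : ∀ z ∈ D j, ∃ a : F, p e ((g : Mn) *ᵥ z) = a • η := fun z hz => by
      obtain ⟨a, b, rfl⟩ := Submodule.mem_span_pair.1 (hspan.symm ▸ hz : z ∈ Submodule.span F {y, s})
      exact ⟨a, by rw [Matrix.mulVec_add, Matrix.mulVec_smul, Matrix.mulVec_smul, map_add, map_smul, map_smul, hs1,
        smul_zero, add_zero, hη]⟩
    have hQη : Q η = 0 := by
      by_contra h
      obtain ⟨n, hn, hQn, hηn⟩ := hC.fix_vec hk (hη ▸ hC.proj.mem e _ : η ∈ D e) (Or.inr h)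
      refine hC.no_zero hN hk (inv_mem hg) (fun h' => hgD (by simpa using inv_mem h')) hn hQn j ?_
      by_contra h0
      obtain ⟨w, hw, hw0⟩ := hC.nd j _ (hC.proj.mem j _) h0
      refine hw0 ?_
      obtain ⟨a, ha⟩ := himg w hw
      rw [QuadraticMap.polar_comm, ← hC.polar_proj hw, ← hC.polar_iso hg, mulVec_inv_cancel,
        QuadraticMap.polar_comm, hC.polar_proj hn, ha, QuadraticMap.polar_smul_right, QuadraticMap.polar_comm, hηn,
        smul_zero]
    exact ⟨hQs, fun z hz => by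
      obtain ⟨a, ha⟩ := himg z hz
      rw [ha, QuadraticMap.map_smul, hQη, smul_zero]⟩
  let A : Finset (Fin t) := Finset.univ.filter fun j => ∃ s ∈ D j, s ≠ 0 ∧ p e ((g : Mn) *ᵥ s) = 0
  have hA : A.card ≤ 2 := by
    by_contra hlt
    obtain ⟨i, hi, j, hj, l, hl, hij, hil, hjl⟩ := Finset.two_lt_card.1 (not_le.1 hlt)
    have himg : ∀ i ∈ A, ∀ z ∈ D i, Q (p e ((g : Mn) *ᵥ z)) = 0 := fun i hi => by
      obtain ⟨s, hs, hs0, hs1⟩ := (Finset.mem_filter.1 hi).2
      exact (hker hs hs0 hs1).2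
    -- a shared image line is impossible
    have shared : ∀ i ∈ A, ∀ j ∈ A, i ≠ j → ∀ yi ∈ D i, Q yi ≠ 0 → ∀ yj ∈ D j, Q yj ≠ 0 →
        ∀ c : F, p e ((g : Mn) *ᵥ yj) ≠ c • p e ((g : Mn) *ᵥ yi) := by
      intro i hi j hj hij yi hyi hQyi yj hyj hQyj c hc
      obtain ⟨σ, hσ⟩ : ∃ s, s = p e ((g : Mn) *ᵥ yi) := ⟨_, rfl⟩
      rw [← hσ] at hc
      have hσ0 : σ ≠ 0 := hσ ▸ hC.no_zero hN hk hg hgD hyi hQyi e
      have hσD : σ ∈ D e := hσ ▸ hC.proj.mem e _
      have hQσ : Q σ = 0 := hσ ▸ himg i hi yi hyi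
      obtain ⟨v, hv, v', hv', hQv, hQv', a, ha, hρ⟩ := hC.exists_scale hk hσD hσ0 hQσ
      obtain ⟨m, hm, hmρ⟩ := hC.pairs e e v hv v' hv' hQv hQv'
      have hc0 : c ≠ 0 := fun h => hC.no_zero hN hk hg hgD hyj hQyj e (by rw [hc, h, zero_smul])
      obtain ⟨τ, hτ⟩ : ∃ τ, τ = (c * a) • (((g⁻¹ : GL ι F) : Mn) *ᵥ σ) := ⟨_, rfl⟩
      have hθ : ((g⁻¹ * m * g : GL ι F) : Mn) *ᵥ yj = yj + τ := by
        rw [Units.val_mul, Units.val_mul, ← Matrix.mulVec_mulVec, ← Matrix.mulVec_mulVec]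
        obtain ⟨R, hR⟩ : ∃ R, R = (g : Mn) *ᵥ yj - c • σ := ⟨_, rfl⟩
        have hR' : ∀ w ∈ D e, B w R = 0 := fun w hw => by
          rw [hR, QuadraticMap.polar_sub_right, hC.polar_proj hw ((g : Mn) *ᵥ yj), hc, sub_self]
        have hgy : (g : Mn) *ᵥ yj = c • σ + R := by rw [hR]; abel
        have hmg : (m : Mn) *ᵥ ((g : Mn) *ᵥ yj) = (g : Mn) *ᵥ yj + (c * a) • σ := by
          rw [hmρ, hgy, map_add, map_add, rf_perp (hR' v' hv'), rf_perp (hR' v hv), map_smul, map_smul, hρ]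
          module
        rw [hmg, Matrix.mulVec_add, inv_mulVec_cancel, Matrix.mulVec_smul, hτ]
      have hτi : ∀ i' ∈ A, (∀ z ∈ D i', ∃ b : F, p e ((g : Mn) *ᵥ z) = b • σ) → p i' τ = 0 := fun i' _ hb => by
        by_contra h0
        obtain ⟨w, hw, hw0⟩ := hC.nd i' _ (hC.proj.mem i' _) h0
        refine hw0 ?_
        obtain ⟨b, hb'⟩ := hb w hw
        rw [QuadraticMap.polar_comm, ← hC.polar_proj hw, hτ, QuadraticMap.polar_smul_right, ← hC.polar_iso hg,
          mulVec_inv_cancel, QuadraticMap.polar_comm, hC.polar_proj hσD, hb', QuadraticMap.polar_smul_right,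
          polar_diag, hQσ, mul_zero, smul_zero, smul_zero]
      have hline : ∀ i' ∈ A, ∀ y ∈ D i', Q y ≠ 0 → ∀ b : F, p e ((g : Mn) *ᵥ y) = b • σ →
          ∀ z ∈ D i', ∃ b : F, p e ((g : Mn) *ᵥ z) = b • σ := fun i' hi' y hy hQy b hb z hz => by
        obtain ⟨s, hs, hs0, hs1⟩ := (Finset.mem_filter.1 hi').2
        have hspan : Submodule.span F {y, s} = D i' := by
          refine Submodule.eq_of_le_of_finrank_le (Submodule.span_le.2 ?_) ?_
          · rintro w (rfl | rfl) <;> assumption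
          · have := finrank_span_eq_card (ind_pair hC (x := y) (fun e => hQy (by rw [e, QuadraticMap.map_zero]))
              (y := s) fun r hr => by
                rcases eq_or_ne r 0 with rfl | hr0
                · exact hs0 (by rw [hr, zero_smul])
                · exact hC.no_zero hN hk hg hgD hy hQy e (by
                    have := hs1
                    rw [hr, Matrix.mulVec_smul, map_smul, smul_eq_zero] at this
                    exact this.resolve_left hr0))
            rw [Matrix.range_cons_cons_empty, Fintype.card_fin] at this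
            rw [this, hC.dim, hk]
        obtain ⟨r, r', rfl⟩ := Submodule.mem_span_pair.1 (hspan.symm ▸ hz : z ∈ Submodule.span F {y, s})
        exact ⟨r * b, by rw [Matrix.mulVec_add, Matrix.mulVec_smul, Matrix.mulVec_smul, map_add, map_smul, map_smul,
          hs1, hb, smul_zero, add_zero, smul_smul]⟩
      have hτi0 : p i τ = 0 := hτi i hi (hline i hi yi hyi hQyi 1 (by rw [one_smul, hσ]))
      have hτj0 : p j τ = 0 := hτi j hj (hline j hj yj hyj hQyj c hc)
      have hτ0 : τ ≠ 0 := by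
        rw [hτ]
        exact smul_ne_zero (mul_ne_zero hc0 ha) fun h => hσ0 (gl_mulVec_injective g⁻¹
          (h.trans (Matrix.mulVec_zero _).symm))
      have hθM : g⁻¹ * m * g ∈ M := mul_mem (mul_mem (inv_mem hg) hm) hg
      have hθD : g⁻¹ * m * g ∉ Geo.decompositionStabilizer D := by
        rintro ⟨σ', hσ'⟩
        have hj' := hC.map_block hσ' hyj
        rw [hθ] at hj'
        have hjj : j = σ' j := by
          by_contra h
          have := hC.proj.other j (σ' j) h _ hj'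
          rw [map_add, hC.proj.self j yj hyj, hτj0, add_zero] at this
          exact hQyj (by rw [this, QuadraticMap.map_zero])
        rw [← hjj] at hj'
        have hτD : τ ∈ D j := by simpa using (D j).sub_mem hj' hyj
        exact hτ0 (by rw [← hC.proj.self j τ hτD, hτj0])
      refine hC.no_zero hN hk hθM hθD hyj hQyj i ?_
      rw [hθ, map_add, hτi0, hC.proj.other i j hij yj hyj, add_zero]
    obtain ⟨yi, hyi, hQi⟩ := hC.exists_aniso i
    obtain ⟨yj, hyj, hQj⟩ := hC.exists_aniso j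
    obtain ⟨yl, hyl, hQl⟩ := hC.exists_aniso l
    rcases hC.sing_three hk (hC.proj.mem e _) (hC.proj.mem e _) (hC.proj.mem e _) (himg i hi yi hyi)
        (himg j hj yj hyj) (himg l hl yl hyl) (hC.no_zero hN hk hg hgD hyi hQi e)
        (shared i hi j hj hij yi hyi hQi yj hyj hQj) with ⟨c, hc⟩ | ⟨c, hc⟩
    · exact shared i hi l hl hil yi hyi hQi yl hyl hQl c hc
    · exact shared j hj l hl hjl yj hyj hQj yl hyl hQl c hc
  obtain ⟨T, hT, hTc⟩ : ∃ T ⊆ Finset.univ \ A, T.card = 4 := Finset.exists_subset_card_eq (by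
    rw [Finset.card_sdiff_of_subset (Finset.subset_univ _), Finset.card_univ, Fintype.card_fin]
    omega)
  have hinj : ∀ j ∈ T, ∀ s ∈ D j, p e ((g : Mn) *ᵥ s) = 0 → s = 0 := fun j hj s hs h => by
    by_contra h0
    exact (Finset.mem_sdiff.1 (hT hj)).2 (Finset.mem_filter.2 ⟨Finset.mem_univ _, s, hs, h0, h⟩)
  obtain ⟨N, l, hlD, hlQ, hlinj, hN1, hN'⟩ := exists_lines hD (hC.nd e)
  let Bad : Fin N → Fin t → Prop := fun a j => ∀ z ∈ D j, (∃ c : F, p e ((g : Mn) *ᵥ z) = c • l a) → Q z = 0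
  have hpre : ∀ a, ∀ j ∈ T, ∃ z ∈ D j, z ≠ 0 ∧ ∃ c : F, p e ((g : Mn) *ᵥ z) = c • l a := fun a j hj => by
    let L : D j →ₗ[F] D e := (((p e).comp (Matrix.toLin' (g : Mn))).comp (D j).subtype).codRestrict (D e)
      fun z => hC.proj.mem e _
    have hL : Function.Injective L := by
      rw [← LinearMap.ker_eq_bot, LinearMap.ker_eq_bot']
      intro z hz
      have := congrArg Subtype.val hz
      exact Subtype.ext (hinj j hj z z.2 (by simpa [L] using this))
    obtain ⟨z, hz⟩ := (LinearMap.injective_iff_surjective_of_finrank_eq_finrank (by rw [hC.dim, hC.dim])).1 hL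
      ⟨l a, hlD a⟩
    refine ⟨z, z.2, fun h0 => hlQ a ?_, 1, by simpa [L] using congrArg Subtype.val hz⟩
    have h' := congrArg Subtype.val hz
    rw [show z = 0 from Subtype.ext h0, map_zero] at h'
    rw [show l a = 0 from h'.symm, QuadraticMap.map_zero]
  have hsame : ∀ j ∈ T, ∀ {a b : Fin N}, Bad a j → Bad b j → ∀ z ∈ D j, ∀ w ∈ D j,
      z ≠ 0 → w ≠ 0 → (∃ c : F, p e ((g : Mn) *ᵥ z) = c • l a) → (∃ c : F, p e ((g : Mn) *ᵥ w) = c • l b) →
      (∃ r : F, w = r • z) → a = b := by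
    rintro j hj a b - - z hz w hw hz0 hw0 ⟨c, hc⟩ ⟨c', hc'⟩ ⟨r, rfl⟩
    refine hlinj a b ⟨(c')⁻¹ * (r * c), ?_⟩
    have hc'0 : c' ≠ 0 := fun h => hw0 (hinj j hj _ hw (by rw [hc', h, zero_smul]))
    rw [Matrix.mulVec_smul, map_smul, hc, smul_smul] at hc'
    rw [mul_smul, hc', inv_smul_smul₀ hc'0]
  have hbad : ∀ j ∈ T, (Finset.univ.filter fun a => Bad a j).card ≤ 2 := fun j hj => by
    by_contra hlt
    obtain ⟨a, ha, b, hb, c, hc, hab, hac, hbc⟩ := Finset.two_lt_card.1 (not_le.1 hlt)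
    simp only [Finset.mem_filter, Finset.mem_univ, true_and] at ha hb hc
    obtain ⟨za, hza, hza0, ea⟩ := hpre a j hj
    obtain ⟨zb, hzb, hzb0, eb⟩ := hpre b j hj
    obtain ⟨zc, hzc, hzc0, ec⟩ := hpre c j hj
    rcases hC.sing_three hk hza hzb hzc (ha za hza ea) (hb zb hzb eb) (hc zc hzc ec) hza0
      (fun r hr => hab (hsame j hj ha hb za hza zb hzb hza0 hzb0 ea eb ⟨r, hr⟩)) with ⟨r, hr⟩ | ⟨r, hr⟩
    · exact hac (hsame j hj ha hc za hza zc hzc hza0 hzc0 ea ec ⟨r, hr⟩)
    · exact hbc (hsame j hj hb hc zb hzb zc hzc hzb0 hzc0 eb ec ⟨r, hr⟩)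
  obtain ⟨a, haT⟩ : ∃ a : Fin N, (T.filter fun j => Bad a j).card ≤ 1 := by
    have hq := Fintype.one_lt_card (α := F)
    have h3 := hC.card_three hk
    by_cases hiso : ∀ j, ∀ z ∈ D j, Q z = 0 → z = 0
    · refine ⟨⟨0, by omega⟩, le_of_eq_of_le (Finset.card_eq_zero.2 (Finset.filter_eq_empty_iff.2 fun j hj hB => ?_))
        zero_le_one⟩
      obtain ⟨z, hz, hz0, ez⟩ := hpre ⟨0, by omega⟩ j hj
      exact hz0 (hiso j z hz (hB z hz ez))
    push Not at hiso
    obtain ⟨j, z, hz, hQz, hz0⟩ := hiso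
    have h7 := hC.plus hk j z hz hQz hz0
    by_contra hc
    push Not at hc
    have h1 : ∑ a : Fin N, (T.filter fun j => Bad a j).card = ∑ j ∈ T, (Finset.univ.filter fun a => Bad a j).card := by
      simp only [Finset.card_filter]
      exact Finset.sum_comm
    have h2 : N * 2 ≤ ∑ a : Fin N, (T.filter fun j => Bad a j).card := by
      calc N * 2 = ∑ _a : Fin N, 2 := by simp
        _ ≤ _ := Finset.sum_le_sum fun a _ => hc a
    have h4 : ∑ j ∈ T, (Finset.univ.filter fun a => Bad a j).card ≤ T.card * 2 := by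
      calc _ ≤ ∑ _j ∈ T, 2 := Finset.sum_le_sum hbad
        _ = _ := by simp
    omega
  have hgood : 3 ≤ (T.filter fun j => ¬ Bad a j).card := by
    have := Finset.card_filter_add_card_filter_not (s := T) (fun j => Bad a j)
    omega
  obtain ⟨j₁, hj₁, j₂, hj₂, j₃, hj₃, h12, h13, h23⟩ := Finset.two_lt_card.1 hgood
  have get : ∀ j ∈ T.filter (fun j => ¬ Bad a j), ∃ z ∈ D j, Q z ≠ 0 ∧ ∃ c : F, p e ((g : Mn) *ᵥ z) = c • l a :=
    fun j hj => by
    have h := (Finset.mem_filter.1 hj).2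
    simp only [Bad] at h
    push Not at h
    obtain ⟨z, hz, hc, hQz⟩ := h
    exact ⟨z, hz, hQz, hc⟩
  obtain ⟨z₁, hz₁, hQ₁, e₁⟩ := get j₁ hj₁
  obtain ⟨z₂, hz₂, hQ₂, e₂⟩ := get j₂ hj₂
  obtain ⟨z₃, hz₃, hQ₃, e₃⟩ := get j₃ hj₃
  have final : ∀ {i j : Fin t} {z w : V}, i ≠ j → z ∈ D i → w ∈ D j → Q z ≠ 0 → Q w ≠ 0 →
      (∃ c : F, p e ((g : Mn) *ᵥ z) = c • l a) → (∃ c : F, p e ((g : Mn) *ᵥ w) = c • l a) →
      ¬ IsSquare (Q z * Q w) := by
    rintro i j z w hij hz hw hQz hQw ⟨cz, hcz⟩ ⟨cw, hcw⟩ ⟨r, hr⟩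
    have hr0 : r ≠ 0 := fun h => mul_ne_zero hQz hQw (by rw [hr, h, mul_zero])
    obtain ⟨w', hw'⟩ : ∃ w', w' = (r / Q w) • w := ⟨_, rfl⟩
    have hwD : w' ∈ D j := hw' ▸ (D j).smul_mem _ hw
    have hQw' : Q w' = Q z := by
      rw [hw', QuadraticMap.map_smul, smul_eq_mul]
      field_simp
      linear_combination -hr
    obtain ⟨n, hn, hQn, hln⟩ := hC.fix_vec hk (hlD a) (Or.inr (hlQ a))
    have hperp : ∀ (x : V) (c : F), p e x = c • l a → B x n = 0 := fun x c h => by
      rw [QuadraticMap.polar_comm, hC.polar_proj hn, h, QuadraticMap.polar_smul_right, QuadraticMap.polar_comm, hln,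
        smul_zero]
    obtain ⟨h, hh, he⟩ := hC.pair_fix hN (hC.img_pair hg hz hwD hQz hQw') hn hQn (hperp _ cz hcz)
      (hperp _ (r / Q w * cw) (by rw [hw', Matrix.mulVec_smul, map_smul, hcw, smul_smul]))
    obtain ⟨f, f', hff, hf, hf'⟩ := hC.exists_two (hC.not_block hN hg hgD hz hQz)
    obtain ⟨d, hd⟩ : ∃ d : Fin t, d ∉ ({f, f'} : Finset (Fin t)) := by
      by_contra hc
      push Not at hc
      have h1 := (Finset.card_le_card (show Finset.univ ⊆ ({f, f'} : Finset (Fin t)) from fun i _ => hc i)).trans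
        Finset.card_le_two
      rw [Finset.card_univ, Fintype.card_fin] at h1
      omega
    simp only [Finset.mem_insert, Finset.mem_singleton, not_or] at hd
    refine hC.no_zero hN hk hg hgD hz hQz d (hC.supp_two hh he (by rwa [hC.iso g hg])
      (by rw [hC.iso g hg, hC.iso g hg, hQw']) (hC.img_indep fun c hc => hQz ?_) hff hf hf' d hd.1 hd.2).1
    have := congrArg (p j) hc
    rw [hC.proj.self j _ hwD, map_smul, hC.proj.other j i (Ne.symm hij) z hz, smul_zero] at this
    rw [← hQw', this, QuadraticMap.map_zero]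
  have n12 := final h12 hz₁ hz₂ hQ₁ hQ₂ e₁ e₂
  have n13 := final h13 hz₁ hz₃ hQ₁ hQ₃ e₁ e₃
  have n23 := final h23 hz₂ hz₃ hQ₂ hQ₃ e₂ e₃
  have h2 : (2 : F) ≠ 0 := fun h => n12 (by
    haveI := CharTwo.of_one_ne_zero_of_two_eq_zero one_ne_zero h
    exact FiniteField.isSquare_of_char_two (ringChar.eq F 2) _)
  have hp' := quadraticChar_neg_one_iff_not_isSquare.2 n12
  have hq' := quadraticChar_neg_one_iff_not_isSquare.2 n13
  have hr' := quadraticChar_neg_one_iff_not_isSquare.2 n23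
  have : quadraticChar F (Q z₁ * Q z₁) * quadraticChar F (Q z₂ * Q z₂) * quadraticChar F (Q z₃ * Q z₃) = -1 := by
    rw [map_mul] at hp' hq' hr'
    rw [map_mul, map_mul, map_mul]
    calc _ = (quadraticChar F (Q z₁) * quadraticChar F (Q z₂)) * (quadraticChar F (Q z₁) * quadraticChar F (Q z₃)) *
          (quadraticChar F (Q z₂) * quadraticChar F (Q z₃)) := by ring
      _ = _ := by rw [hp', hq', hr']; norm_num
  rw [quadraticChar_sq_one' hQ₁ |> fun h => (by rw [← sq] : quadraticChar F (Q z₁ * Q z₁) = quadraticChar F (Q z₁ ^ 2)).trans h] at this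
  rw [show quadraticChar F (Q z₂ * Q z₂) = 1 by rw [← sq]; exact quadraticChar_sq_one' hQ₂,
    show quadraticChar F (Q z₃ * Q z₃) = 1 by rw [← sq]; exact quadraticChar_sq_one' hQ₃] at this
  norm_num at this

/-- An element outside the stabiliser yields a spread vector paired with a vector of a summand. -/
theorem exists_moved (ht6 : k = 2 → 6 ≤ t) {g : GL ι F} (hg : g ∈ M) (hgD : g ∉ Geo.decompositionStabilizer D) :
    ∃ x : V, Q x ≠ 0 ∧ (∀ b, x ∉ D b) ∧ ∃ a, ∃ w ∈ D a, Q w = Q x ∧ PairMem Q M x w := by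
  by_contra hc
  push Not at hc
  have hN : Closed Q M D := fun x hQx a w hw hQw hp => by
    by_contra hn
    push Not at hn
    exact hc x hQx hn a w hw hQw hp
  by_cases hk : k = 2
  · exact hC.open_two hN hk (ht6 hk) hg hgD
  · obtain ⟨h2, hk4⟩ := hC.char_two_of_four hk
    exact hC.open_four hN hg hgD hk4 h2

end Ctx

end Cfsg.Agent.Classical.OrthRef
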