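import Cfsg.Agent.Lib.Classical.MaxOrthRefArith
import Cfsg.Agent.Lib.Classical.MaxOrthRefBasic

/-!
A reflection-closed set of unit vectors in a three-dimensional space that is invariant under the
reflections of a plane and contains a vector off the plane holds all unit vectors (odd characteristic).
The proof compares two bounds for the order of the stabiliser of the set.
-/

set_option autoImplicit false
set_option linter.unusedSectionVars false
set_option quotPrecheck false

namespace Cfsg.Agent.Classical.OrthRef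

open Module

variable {F W : Type*} [Field F] [AddCommGroup W] [Module F W] {Q : QuadraticForm F W}

local notation "B" => QuadraticMap.polar ⇑Q

/-- The isometries preserving a set. -/
def stabSet (Q : QuadraticForm F W) (S : W → Prop) : Subgroup (W ≃ₗ[F] W) where
  carrier := {g | (∀ z, Q (g z) = Q z) ∧ ∀ z, S (g z) ↔ S z}
  one_mem' := ⟨fun _ => rfl, fun _ => Iff.rfl⟩
  mul_mem' := fun {g h} hg hh => ⟨fun z => (hg.1 (h z)).trans (hh.1 z), fun z => (hg.2 (h z)).trans (hh.2 z)⟩
  inv_mem' := fun {g} hg => ⟨fun z => by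
    conv_rhs => rw [← g.apply_symm_apply z, hg.1]
    rfl, fun z => by
    conv_rhs => rw [← g.apply_symm_apply z, hg.2]
    rfl⟩

theorem mul_apply' (g h : W ≃ₗ[F] W) (z : W) : (g * h) z = g (h z) := rfl

theorem inv_apply_self (g : W ≃ₗ[F] W) (z : W) : g⁻¹ (g z) = z := g.symm_apply_apply z

theorem apply_inv_self (g : W ≃ₗ[F] W) (z : W) : g (g⁻¹ z) = z := g.apply_symm_apply z

theorem mem_stabSet {S : W → Prop} {g : W ≃ₗ[F] W} :
    g ∈ stabSet Q S ↔ (∀ z, Q (g z) = Q z) ∧ ∀ z, S (g z) ↔ S z := Iff.rfl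

theorem polar_stab {S : W → Prop} {g : W ≃ₗ[F] W} (hg : g ∈ stabSet Q S) (x y : W) : B (g x) (g y) = B x y :=
  polar_of_quad (g := g.toLinearMap) hg.1 x y

variable [Fintype F] [DecidableEq F] [FiniteDimensional F W]

/-- A three-dimensional space as a frame of a hyperbolic pair and a perpendicular vector. -/
structure Frame (Q : QuadraticForm F W) (q₀ q₁ m : W) (μ : F) : Prop where
  h0 : Q q₀ = 0
  h1 : Q q₁ = 0
  h01 : QuadraticMap.polar ⇑Q q₀ q₁ = 1
  hm : Q m = μ
  hμ : μ ≠ 0
  two : (2 : F) ≠ 0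
  h0m : QuadraticMap.polar ⇑Q q₀ m = 0
  h1m : QuadraticMap.polar ⇑Q q₁ m = 0
  decomp : ∀ z, z = QuadraticMap.polar ⇑Q q₁ z • q₀ + QuadraticMap.polar ⇑Q q₀ z • q₁ +
    (QuadraticMap.polar ⇑Q m z / (2 * μ)) • m

namespace Frame

variable {q₀ q₁ m : W} {μ : F} (hf : Frame Q q₀ q₁ m μ)
include hf

theorem quad (A p C : F) : Q (A • q₀ + p • q₁ + C • m) = A * p + C * C * μ := by
  rw [quad_add_smul', quad_add_smul', QuadraticMap.map_smul, QuadraticMap.polar_add_left,
    QuadraticMap.polar_smul_left, QuadraticMap.polar_smul_left, QuadraticMap.polar_smul_left, hf.h0, hf.h1,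
    hf.h01, hf.hm, hf.h0m, hf.h1m]
  simp [mul_comm]

theorem polar0 (A p C : F) : B q₀ (A • q₀ + p • q₁ + C • m) = p := by
  simp [QuadraticMap.polar_add_right, QuadraticMap.polar_smul_right, polar_diag, hf.h0, hf.h01, hf.h0m]

theorem polar1 (A p C : F) : B q₁ (A • q₀ + p • q₁ + C • m) = A := by
  simp [QuadraticMap.polar_add_right, QuadraticMap.polar_smul_right, polar_diag, hf.h1,
    QuadraticMap.polar_comm _ q₁ q₀, hf.h01, hf.h1m]

theorem polarm (A p C : F) : B m (A • q₀ + p • q₁ + C • m) = 2 * μ * C := by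
  simp [QuadraticMap.polar_add_right, QuadraticMap.polar_smul_right, polar_diag, hf.hm,
    QuadraticMap.polar_comm _ m q₀, QuadraticMap.polar_comm _ m q₁, hf.h0m, hf.h1m]
  ring

theorem ext {z z' : W} (e0 : B q₀ z = B q₀ z') (e1 : B q₁ z = B q₁ z') (em : B m z = B m z') : z = z' := by
  rw [hf.decomp z, hf.decomp z', e0, e1, em]

theorem quad_eq (z : W) : Q z = B q₁ z * B q₀ z + (B m z / (2 * μ)) * (B m z / (2 * μ)) * μ := by
  conv_lhs => rw [hf.decomp z, hf.quad]

/-- A singular vector perpendicular to `q₀` is a multiple of it. -/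
theorem sing_perp {z : W} (hz : Q z = 0) (h : B q₀ z = 0) : z = B q₁ z • q₀ := by
  have hC : B m z / (2 * μ) = 0 := by
    have := hf.quad_eq z
    rw [hz, h, mul_zero, zero_add] at this
    exact mul_self_eq_zero.1 ((mul_eq_zero.1 this.symm).resolve_right hf.hμ)
  conv_lhs => rw [hf.decomp z, h, hC]
  simp

variable {S : W → Prop}

/-- The stabiliser of `q₀` is small unless it contains every root element. -/
theorem card_stab_lt (hK : ¬ ∀ t : F, ∃ g ∈ stabSet Q S, g q₀ = q₀ ∧ g m = m + t • q₀) :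
    Nat.card (stabSet Q S) < 2 * Fintype.card F * (Fintype.card F + 1) := by
  classical
  haveI : Finite W := Module.finite_of_finite F
  haveI : Finite (W ≃ₗ[F] W) := Finite.of_injective (fun g => (g : W → W)) DFunLike.coe_injective
  obtain ⟨K, hKdef⟩ : ∃ K : Subgroup (W ≃ₗ[F] W), K = stabSet Q S := ⟨_, rfl⟩
  rw [← hKdef] at hK ⊢
  have hiso : ∀ g ∈ K, ∀ z, Q (g z) = Q z := fun g hg => (hKdef ▸ hg : g ∈ stabSet Q S).1
  have hpol : ∀ g ∈ K, ∀ x y, B (g x) (g y) = B x y := fun g hg => polar_stab (hKdef ▸ hg : g ∈ stabSet Q S)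
  letI : Fintype K := Fintype.ofFinite _
  rw [Nat.card_eq_fintype_card]
  -- root parameters
  let U : Finset F := Finset.univ.filter fun t => ∃ g ∈ K, g q₀ = q₀ ∧ g m = m + t • q₀
  have hU0 : (0 : F) ∈ U := Finset.mem_filter.2 ⟨Finset.mem_univ _, 1, K.one_mem, rfl, by rw [zero_smul, add_zero]; rfl⟩
  have hUsub : ∀ x ∈ U, ∀ y ∈ U, x - y ∈ U := fun x hx y hy => by
    obtain ⟨g, hg, g0, gm⟩ := (Finset.mem_filter.1 hx).2
    obtain ⟨h, hh, h0, hm'⟩ := (Finset.mem_filter.1 hy).2
    refine Finset.mem_filter.2 ⟨Finset.mem_univ _, g * h⁻¹, K.mul_mem hg (K.inv_mem hh), ?_, ?_⟩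
    · rw [mul_apply']; conv_lhs => rw [← h0, inv_apply_self, g0]
    · have e : h⁻¹ m = m - y • q₀ := h.injective (by
        rw [apply_inv_self, map_sub, map_smul, hm', h0]; module)
      rw [mul_apply', e, map_sub, map_smul, gm, g0]; module
  -- scalars at `q₀`
  let C : Finset F := Finset.univ.filter fun c => ∃ g ∈ K, g q₀ = c • q₀
  have hq0 : q₀ ≠ 0 := fun e => one_ne_zero (hf.h01.symm.trans (by rw [e, QuadraticMap.polar_zero_left]))
  have hC0 : (0 : F) ∉ C := fun h => by
    obtain ⟨g, -, hg⟩ := (Finset.mem_filter.1 h).2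
    rw [zero_smul, LinearEquiv.map_eq_zero_iff] at hg
    exact hq0 hg
  have hCU : ∀ c ∈ C, ∀ u ∈ U, c * u ∈ U := fun c hc u hu => by
    obtain ⟨g, hg, g0⟩ := (Finset.mem_filter.1 hc).2
    obtain ⟨n, hn, n0, nm⟩ := (Finset.mem_filter.1 hu).2
    have hc0 : c ≠ 0 := fun e => hC0 (e ▸ hc)
    have hgi : g⁻¹ q₀ = c⁻¹ • q₀ := g.injective (by
      rw [apply_inv_self, map_smul, g0, inv_smul_smul₀ hc0])
    -- the image of `m`
    have ha : B q₀ (g m) = 0 := by
      have := hpol g hg q₀ m
      rw [g0, QuadraticMap.polar_smul_left, hf.h0m, smul_eq_mul] at this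
      exact (mul_eq_zero.1 this).resolve_left hc0
    obtain ⟨d, hd⟩ : ∃ d, d = B m (g m) / (2 * μ) := ⟨_, rfl⟩
    obtain ⟨a, ha'⟩ : ∃ a, a = B q₁ (g m) := ⟨_, rfl⟩
    have hgm : g m = a • q₀ + d • m := by
      conv_lhs => rw [hf.decomp (g m), ha, ← ha', ← hd, zero_smul, add_zero]
    have hd2 : d * d = 1 := by
      have := hiso g hg m
      rw [hgm, show a • q₀ + d • m = a • q₀ + (0 : F) • q₁ + d • m by simp, hf.quad, hf.hm,
        mul_zero, zero_add] at this
      exact mul_right_cancel₀ hf.hμ (by rw [this, one_mul])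
    have hw : g⁻¹ m = d⁻¹ • (m - (a * c⁻¹) • q₀) := g.injective (by
      rw [apply_inv_self, map_smul, map_sub, map_smul, g0, hgm, smul_smul, inv_mul_cancel_right₀ hc0,
        add_sub_cancel_left, inv_smul_smul₀ (left_ne_zero_of_mul_eq_one hd2)])
    have hconj : g * n * g⁻¹ ∈ K := K.mul_mem (K.mul_mem hg hn) (K.inv_mem hg)
    have key : c * (d⁻¹ * u) ∈ U := by
      refine Finset.mem_filter.2 ⟨Finset.mem_univ _, g * n * g⁻¹, hconj, ?_, ?_⟩
      · rw [mul_apply', mul_apply', hgi, map_smul, n0, map_smul, g0, inv_smul_smul₀ hc0]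
      · have e : n (g⁻¹ m) = g⁻¹ m + (d⁻¹ * u) • q₀ := by
          rw [hw, map_smul, map_sub, map_smul, nm, n0]; module
        rw [mul_apply', mul_apply', e, map_add, apply_inv_self, map_smul, g0, smul_smul, mul_comm]
    rcases mul_self_eq_one_iff.1 hd2 with e | e
    · simpa [e] using key
    · have := hUsub 0 hU0 _ key
      simpa [e] using this
  have hUne : U ≠ Finset.univ := fun e => hK fun t =>
    (Finset.mem_filter.1 (show t ∈ U by rw [e]; exact Finset.mem_univ t)).2
  have hsmall := card_mul_le hU0 hUsub hC0 hCU hUne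
  have hUpos : 0 < U.card := Finset.card_pos.2 ⟨0, hU0⟩
  -- the point stabiliser
  let St : Finset K := Finset.univ.filter fun g : K => (g : W ≃ₗ[F] W) q₀ = q₀
  have hSt : St.card ≤ 2 * U.card := by
    let π : K → F × F := fun g => (B q₁ ((g : W ≃ₗ[F] W) m), B m ((g : W ≃ₗ[F] W) m))
    have hinj : Set.InjOn π ↑St := by
      intro g hg g' hg' e
      simp only [St, Finset.coe_filter, Finset.mem_univ, true_and, Set.mem_setOf_eq] at hg hg'
      obtain ⟨e1, em⟩ := Prod.ext_iff.1 e
      have hh : ∀ g : K, (g : W ≃ₗ[F] W) q₀ = q₀ → B q₀ ((g : W ≃ₗ[F] W) m) = 0 ∧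
          B q₀ ((g : W ≃ₗ[F] W) q₁) = 1 ∧ B ((g : W ≃ₗ[F] W) m) ((g : W ≃ₗ[F] W) q₁) = 0 := fun g hg => by
        refine ⟨?_, ?_, ?_⟩
        · conv_lhs => rw [← hg]
          rw [hpol _ g.2, hf.h0m]
        · conv_lhs => rw [← hg]
          rw [hpol _ g.2, hf.h01]
        · rw [hpol _ g.2, QuadraticMap.polar_comm, hf.h1m]
      obtain ⟨a1, a2, a3⟩ := hh g hg
      obtain ⟨b1, b2, b3⟩ := hh g' hg'
      have em' : (g : W ≃ₗ[F] W) m = (g' : W ≃ₗ[F] W) m := hf.ext (a1.trans b1.symm) e1 em
      set y := (g : W ≃ₗ[F] W) m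
      have hε : B m y ≠ 0 := fun h => hf.hμ (by
        have := hiso _ g.2 m
        rw [hf.quad_eq y, a1, h, hf.hm] at this
        simpa using this.symm)
      have hlin : ∀ z, B y z = B m y / (2 * μ) * B m z + B q₁ y * B q₀ z := fun z => by
        conv_lhs => rw [hf.decomp y, a1]
        simp [QuadraticMap.polar_add_left, QuadraticMap.polar_smul_left]
        ring
      have em1 : B m ((g : W ≃ₗ[F] W) q₁) = B m ((g' : W ≃ₗ[F] W) q₁) := by
        rw [← em'] at b3
        rw [hlin, a2] at a3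
        rw [hlin, b2] at b3
        exact mul_left_cancel₀ (div_ne_zero hε (mul_ne_zero hf.two hf.hμ))
          (by linear_combination a3 - b3)
      have e11 : B q₁ ((g : W ≃ₗ[F] W) q₁) = B q₁ ((g' : W ≃ₗ[F] W) q₁) := by
        have u1 := hiso _ g.2 q₁
        have u2 := hiso _ g'.2 q₁
        rw [hf.quad_eq, a2, mul_one] at u1
        rw [hf.quad_eq, b2, mul_one, ← em1] at u2
        linear_combination u1 - u2
      refine Subtype.ext (LinearEquiv.ext fun z => ?_)
      rw [hf.decomp z]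
      simp only [map_add, map_smul, hg, hg', hf.ext (a2.trans b2.symm) e11 em1]
      rw [show (g : W ≃ₗ[F] W) m = (g' : W ≃ₗ[F] W) m from em']
    rw [← Finset.card_image_of_injOn hinj]
    have hval : ∀ x ∈ St.image π, (x.2 = 2 * μ ∧ x.1 ∈ U) ∨ x.2 = -(2 * μ) := by
      intro x hx
      obtain ⟨g, hg, rfl⟩ := Finset.mem_image.1 hx
      simp only [St, Finset.mem_filter, Finset.mem_univ, true_and] at hg
      have h0 : B q₀ ((g : W ≃ₗ[F] W) m) = 0 := by
        conv_lhs => rw [← hg]
        rw [hpol _ g.2, hf.h0m]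
      have hq := hiso _ g.2 m
      rw [hf.quad_eq, h0, mul_zero, zero_add, hf.hm] at hq
      have h2μ : (2 : F) * μ ≠ 0 := mul_ne_zero hf.two hf.hμ
      rcases mul_self_eq_one_iff.1 (mul_right_cancel₀ hf.hμ (hq.trans (one_mul μ).symm)) with e | e
      · left
        have e' : B m ((g : W ≃ₗ[F] W) m) = 2 * μ := by rw [div_eq_one_iff_eq h2μ] at e; exact e
        refine ⟨e', Finset.mem_filter.2 ⟨Finset.mem_univ _, _, g.2, hg, ?_⟩⟩
        show (g : W ≃ₗ[F] W) m = m + B q₁ ((g : W ≃ₗ[F] W) m) • q₀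
        conv_lhs => rw [hf.decomp ((g : W ≃ₗ[F] W) m), h0, e', div_self h2μ]
        module
      · right
        rw [div_eq_iff h2μ] at e
        exact e.trans (neg_one_mul _)
    by_cases hneg : ∃ x ∈ St.image π, x.2 = -(2 * μ)
    · obtain ⟨x₀, hx₀, hx₀2⟩ := hneg
      obtain ⟨g₀, hg₀, rfl⟩ := Finset.mem_image.1 hx₀
      simp only [St, Finset.mem_filter, Finset.mem_univ, true_and] at hg₀
      have hsub : St.image π ⊆ (U ×ˢ {2 * μ}) ∪ (U.image (fun t => B q₁ ((g₀ : W ≃ₗ[F] W) m) - t) ×ˢ {-(2 * μ)}) := by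
        intro x hx
        rcases hval x hx with ⟨e, hU⟩ | e
        · exact Finset.mem_union_left _ (Finset.mem_product.2 ⟨hU, Finset.mem_singleton.2 e⟩)
        · refine Finset.mem_union_right _ (Finset.mem_product.2 ⟨Finset.mem_image.2 ⟨_, ?_, sub_sub_cancel _ x.1⟩,
            Finset.mem_singleton.2 e⟩)
          obtain ⟨g, hg, rfl⟩ := Finset.mem_image.1 hx
          simp only [St, Finset.mem_filter, Finset.mem_univ, true_and] at hg
          have h2μ : (2 : F) * μ ≠ 0 := mul_ne_zero hf.two hf.hμ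
          have form : ∀ k : K, (k : W ≃ₗ[F] W) q₀ = q₀ → B m ((k : W ≃ₗ[F] W) m) = -(2 * μ) →
              (k : W ≃ₗ[F] W) m = B q₁ ((k : W ≃ₗ[F] W) m) • q₀ - m := fun k hk hk2 => by
            have h0 : B q₀ ((k : W ≃ₗ[F] W) m) = 0 := by
              conv_lhs => rw [← hk]
              rw [hpol _ k.2, hf.h0m]
            conv_lhs => rw [hf.decomp ((k : W ≃ₗ[F] W) m), h0, hk2, neg_div, div_self h2μ]
            module
          refine Finset.mem_filter.2 ⟨Finset.mem_univ _, _, K.mul_mem g.2 g₀.2, ?_, ?_⟩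
          · rw [mul_apply', hg₀, hg]
          · show _ = m + (B q₁ ((g₀ : W ≃ₗ[F] W) m) - B q₁ ((g : W ≃ₗ[F] W) m)) • q₀
            obtain ⟨b, hb⟩ : ∃ b, b = B q₁ ((g : W ≃ₗ[F] W) m) := ⟨_, rfl⟩
            obtain ⟨b₀, hb₀⟩ : ∃ b, b = B q₁ ((g₀ : W ≃ₗ[F] W) m) := ⟨_, rfl⟩
            rw [← hb₀, ← hb, mul_apply', form g₀ hg₀ hx₀2, ← hb₀, map_sub, map_smul, hg, form g hg e, ← hb]
            module
      refine ((Finset.card_le_card hsub).trans (Finset.card_union_le _ _)).trans ?_
      rw [Finset.card_product, Finset.card_product, Finset.card_singleton, Finset.card_singleton, mul_one, mul_one]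
      have := Finset.card_image_le (s := U) (f := fun t => B q₁ ((g₀ : W ≃ₗ[F] W) m) - t)
      omega
    · push Not at hneg
      have hsub : St.image π ⊆ U ×ˢ {2 * μ} := fun x hx => by
        rcases hval x hx with ⟨e, hU⟩ | e
        · exact Finset.mem_product.2 ⟨hU, Finset.mem_singleton.2 e⟩
        · exact absurd e (hneg x hx)
      have := Finset.card_le_card hsub
      rw [Finset.card_product, Finset.card_singleton] at this
      omega
  -- the orbit
  let orb : Finset W := Finset.univ.image fun g : K => (g : W ≃ₗ[F] W) q₀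
  let key : W → Option F := fun z => if B q₀ z = 0 then none else some (B m z / B q₀ z)
  have hsing : ∀ z ∈ orb, Q z = 0 ∧ z ≠ 0 := by
    intro z hz
    obtain ⟨g, -, rfl⟩ := Finset.mem_image.1 hz
    exact ⟨by rw [hiso _ g.2, hf.h0], fun e => hq0 (LinearEquiv.map_eq_zero_iff _ |>.1 e)⟩
  have horb : orb.card ≤ C.card * (Fintype.card F + 1) := by
    have h := Finset.card_le_mul_card_image (f := key) orb C.card fun o _ => ?_
    · exact h.trans (Nat.mul_le_mul_left _ (by
        have := (orb.image key).card_le_univ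
        rwa [Fintype.card_option] at this))
    rcases (orb.filter fun z => key z = o).eq_empty_or_nonempty with he | ⟨z₀, hz₀⟩
    · rw [he]; simp
    obtain ⟨hz₀o, hz₀k⟩ := Finset.mem_filter.1 hz₀
    have hsub : (orb.filter fun z => key z = o) ⊆ C.image (· • z₀) := by
      intro z hz
      obtain ⟨hzo, hzk⟩ := Finset.mem_filter.1 hz
      obtain ⟨hQz, hz0⟩ := hsing z hzo
      obtain ⟨hQz₀, hz₀0⟩ := hsing z₀ hz₀o
      obtain ⟨r, hr⟩ : ∃ r : F, z = r • z₀ := by
        have hk := hzk.trans hz₀k.symm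
        simp only [key] at hk
        split_ifs at hk with a b
        · refine ⟨B q₁ z / B q₁ z₀, ?_⟩
          have e := hf.sing_perp hQz a
          have e₀ := hf.sing_perp hQz₀ b
          have hne : B q₁ z₀ ≠ 0 := fun h => hz₀0 (by rw [e₀, h, zero_smul])
          obtain ⟨c₁, hc₁⟩ : ∃ c, c = B q₁ z := ⟨_, rfl⟩
          obtain ⟨c₀, hc₀⟩ : ∃ c, c = B q₁ z₀ := ⟨_, rfl⟩
          rw [← hc₁] at e ⊢
          rw [← hc₀] at e₀ hne ⊢
          rw [e, e₀, smul_smul, div_mul_cancel₀ _ hne]
        · refine ⟨B q₀ z / B q₀ z₀, hf.ext ?_ ?_ ?_⟩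
          · rw [QuadraticMap.polar_smul_right, smul_eq_mul, div_mul_cancel₀ _ ‹_›]
          · have u := hf.quad_eq z
            have u₀ := hf.quad_eq z₀
            rw [hQz] at u; rw [hQz₀] at u₀
            rw [QuadraticMap.polar_smul_right, smul_eq_mul]
            have hk' := Option.some.inj hk
            rw [div_eq_div_iff ‹_› ‹_›] at hk'
            have h4 : (2 * μ) * (2 * μ) ≠ 0 := mul_ne_zero (mul_ne_zero hf.two hf.hμ) (mul_ne_zero hf.two hf.hμ)
            field_simp [hf.two, hf.hμ] at u u₀ ⊢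
            have hgoal : (B q₁ z * B q₀ z₀ - B q₁ z₀ * B q₀ z) * (B q₀ z * B q₀ z₀ * (4 * μ)) = 0 := by
              linear_combination (-(B q₀ z₀) ^ 2) * u + (B q₀ z) ^ 2 * u₀ -
                (B m z * B q₀ z₀ + B m z₀ * B q₀ z) * hk'
            have h4' : (4 : F) ≠ 0 := by
              rw [show (4 : F) = 2 * 2 by norm_num]; exact mul_ne_zero hf.two hf.two
            have := (mul_eq_zero.1 hgoal).resolve_right
              (mul_ne_zero (mul_ne_zero ‹_› ‹_›) (mul_ne_zero h4' hf.hμ))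
            linear_combination this
          · have hk' := Option.some.inj hk
            rw [div_eq_div_iff ‹_› ‹_›] at hk'
            rw [QuadraticMap.polar_smul_right, smul_eq_mul]
            field_simp
            linear_combination hk'
      obtain ⟨g, -, hg⟩ := Finset.mem_image.1 hzo
      obtain ⟨g₀, -, hg₀⟩ := Finset.mem_image.1 hz₀o
      refine Finset.mem_image.2 ⟨r, Finset.mem_filter.2 ⟨Finset.mem_univ _, _, K.mul_mem (K.inv_mem g₀.2) g.2, ?_⟩,
        hr.symm⟩
      rw [mul_apply', hg, hr, map_smul, ← hg₀, inv_apply_self]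
    exact (Finset.card_le_card hsub).trans Finset.card_image_le
  have hfib := Finset.card_le_mul_card_image (f := fun g : K => (g : W ≃ₗ[F] W) q₀) Finset.univ St.card
    fun z hz => ?_
  · calc Fintype.card K ≤ St.card * orb.card := hfib
      _ ≤ 2 * U.card * (C.card * (Fintype.card F + 1)) := Nat.mul_le_mul hSt horb
      _ = 2 * (U.card * C.card) * (Fintype.card F + 1) := by ring
      _ < _ := Nat.mul_lt_mul_of_pos_right (by omega) (by omega)
  · obtain ⟨g₀, -, rfl⟩ := Finset.mem_image.1 hz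
    refine Finset.card_le_card_of_injOn (fun g => g₀⁻¹ * g) (fun g hg => ?_) (mul_right_injective _).injOn
    simp only [Finset.coe_filter, Finset.mem_univ, true_and, Set.mem_setOf_eq] at hg
    simp only [St, Finset.coe_filter, Finset.mem_univ, true_and, Set.mem_setOf_eq]
    show (g₀ : W ≃ₗ[F] W)⁻¹ ((g : W ≃ₗ[F] W) q₀) = q₀
    rw [hg, inv_apply_self]

end Frame


/-- Every singular vector begins a frame. -/
theorem exists_frame (h2 : (2 : F) ≠ 0) (h3 : finrank F W = 3) (hnd : ∀ w : W, w ≠ 0 → ∃ z, B w z ≠ 0)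
    {q₀ q₁ : W} (h0 : Q q₀ = 0) (h1 : Q q₁ = 0) (h01 : B q₀ q₁ = 1) : ∃ m μ, Frame Q q₀ q₁ m μ := by
  let φ : W →ₗ[F] F × F := (QuadraticMap.polarBilin Q q₀).prod (QuadraticMap.polarBilin Q q₁)
  have hφ : ∀ z, φ z = (B q₀ z, B q₁ z) := fun z => rfl
  have d0 : B q₀ q₀ = 0 := by rw [polar_diag, h0, mul_zero]
  have d1 : B q₁ q₁ = 0 := by rw [polar_diag, h1, mul_zero]
  have d10 : B q₁ q₀ = 1 := by rw [QuadraticMap.polar_comm]; exact h01
  have hsurj : Function.Surjective φ := fun ⟨a, b⟩ => ⟨b • q₀ + a • q₁, by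
    simp [hφ, QuadraticMap.polar_add_right, QuadraticMap.polar_smul_right, d0, d1, h01, d10]⟩
  have hker : finrank F (LinearMap.ker φ) = 1 := by
    have h := φ.finrank_range_add_finrank_ker
    rw [LinearMap.range_eq_top.2 hsurj, finrank_top, finrank_prod, finrank_self, h3] at h
    omega
  obtain ⟨⟨m, hm⟩, hm0, hgen⟩ := finrank_eq_one_iff'.1 hker
  have hmk : B q₀ m = 0 ∧ B q₁ m = 0 := by
    have := LinearMap.mem_ker.1 hm
    rw [hφ, Prod.mk_eq_zero] at this
    exact this
  have hin : ∀ z, ∃ c : F, z = B q₁ z • q₀ + B q₀ z • q₁ + c • m := fun z => by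
    obtain ⟨c, hc⟩ := hgen ⟨z - B q₁ z • q₀ - B q₀ z • q₁, LinearMap.mem_ker.2 (by
      rw [hφ, Prod.mk_eq_zero]
      simp [QuadraticMap.polar_sub_right, QuadraticMap.polar_smul_right, d0, d1, h01, d10])⟩
    exact ⟨c, by
      have := congrArg Subtype.val hc
      simp only [Submodule.coe_smul] at this
      rw [this]; module⟩
  have hμ : Q m ≠ 0 := fun hμ0 => by
    obtain ⟨z, hz⟩ := hnd m fun e => hm0 (Subtype.ext e)
    obtain ⟨c, hc⟩ := hin z
    refine hz ?_
    rw [hc]
    simp [QuadraticMap.polar_add_right, QuadraticMap.polar_smul_right, QuadraticMap.polar_comm _ m q₀,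
      QuadraticMap.polar_comm _ m q₁, hmk.1, hmk.2, polar_diag, hμ0]
  refine ⟨m, Q m, h0, h1, h01, rfl, hμ, h2, hmk.1, hmk.2, fun z => ?_⟩
  obtain ⟨c, hc⟩ := hin z
  have : B m z / (2 * Q m) = c := by
    rw [div_eq_iff (mul_ne_zero h2 hμ), hc]
    simp [QuadraticMap.polar_add_right, QuadraticMap.polar_smul_right, QuadraticMap.polar_comm _ m q₀,
      QuadraticMap.polar_comm _ m q₁, hmk.1, hmk.2, polar_diag]
  rw [this]
  exact hc

/-- The root elements at `q₀` are transitive on unit vectors pairing equally with `q₀`. -/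
theorem Frame.move {q₀ q₁ m : W} {μ : F} (hf : Frame Q q₀ q₁ m μ) {S : W → Prop}
    (hall : ∀ t : F, ∃ g ∈ stabSet Q S, g q₀ = q₀ ∧ g m = m + t • q₀) {y y' : W}
    (hQ : Q y = Q y') (he : B q₀ y = B q₀ y') (hp : B q₀ y ≠ 0) : ∃ g ∈ stabSet Q S, g y = y' := by
  obtain ⟨g, hg, g0, gm⟩ := hall ((B m y - B m y') / B q₀ y)
  refine ⟨g, hg, ?_⟩
  have e0 : B q₀ (g y) = B q₀ y' := by
    conv_lhs => rw [← g0]
    rw [polar_stab hg, he]
  have em : B m (g y) = B m y' := by
    have h := polar_stab hg m y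
    rw [gm, QuadraticMap.polar_add_left, QuadraticMap.polar_smul_left, e0, ← he, smul_eq_mul,
      div_mul_cancel₀ _ hp] at h
    linear_combination h
  refine hf.ext e0 ?_ em
  have u1 := hf.quad_eq (g y)
  have u2 := hf.quad_eq y'
  rw [hg.1, hQ, e0, em] at u1
  rw [u2] at u1
  have : B q₀ y' ≠ 0 := he ▸ hp
  exact mul_right_cancel₀ this (add_right_cancel u1).symm

/-- A plane `D` with its perpendicular axis `R`, and a set closed under its own reflections and the
reflections of `D`. -/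
structure Axis (Q : QuadraticForm F W) (D : Submodule F W) (R : W) (S : W → Prop) : Prop where
  two : (2 : F) ≠ 0
  dim : finrank F W = 3
  dimD : finrank F D = 2
  nd : ∀ w ∈ D, w ≠ 0 → ∃ z ∈ D, QuadraticMap.polar ⇑Q w z ≠ 0
  perp : ∀ v ∈ D, QuadraticMap.polar ⇑Q R v = 0
  aniso : Q R ≠ 0
  neg : ∀ z, S z → S (-z)
  cls : ∀ w z, Q w = 1 → S w → S z → S (rf Q w z)
  blk : ∀ v ∈ D, Q v ≠ 0 → ∀ z, S z → S (rf Q v z)

namespace Axis

variable {D : Submodule F W} {R : W} {S : W → Prop} (hA : Axis Q D R S)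
include hA

theorem perp' {v : W} (hv : v ∈ D) : B v R = 0 := by rw [QuadraticMap.polar_comm]; exact hA.perp v hv

theorem notMem : R ∉ D := fun h => hA.aniso (by
  have := hA.perp R h
  rw [polar_diag] at this
  exact (mul_eq_zero.1 this).resolve_left hA.two)

theorem split (z : W) : ∃ d ∈ D, ∃ c : F, z = d + c • R := by
  have htop : D ⊔ Submodule.span F {R} = ⊤ := by
    refine Submodule.eq_top_of_finrank_eq ?_
    have hlt : D < D ⊔ Submodule.span F {R} := lt_of_le_of_ne le_sup_left fun e => hA.notMem (by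
      rw [e]; exact Submodule.mem_sup_right (Submodule.mem_span_singleton_self R))
    have h' := Submodule.finrank_lt_finrank_of_lt hlt
    have h'' := Submodule.finrank_le (D ⊔ Submodule.span F {R})
    have := hA.dim
    have := hA.dimD
    omega
  obtain ⟨d, hd, e, he, hz⟩ := Submodule.mem_sup.1 (show z ∈ D ⊔ Submodule.span F {R} by rw [htop]; trivial)
  obtain ⟨c, rfl⟩ := Submodule.mem_span_singleton.1 he
  exact ⟨d, hd, c, hz.symm⟩

theorem ndW {w : W} (hw : w ≠ 0) : ∃ z, B w z ≠ 0 := by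
  obtain ⟨d, hd, c, rfl⟩ := hA.split w
  by_cases hd0 : d = 0
  · subst hd0
    rw [zero_add] at hw ⊢
    refine ⟨R, ?_⟩
    rw [QuadraticMap.polar_smul_left, polar_diag, smul_eq_mul]
    exact mul_ne_zero (fun e => hw (by rw [e, zero_smul])) (mul_ne_zero hA.two hA.aniso)
  · obtain ⟨z, hz, hdz⟩ := hA.nd d hd hd0
    refine ⟨z, ?_⟩
    rw [QuadraticMap.polar_add_left, QuadraticMap.polar_smul_left, hA.perp z hz]
    simpa using hdz

theorem rfK {v : W} (hv : ∀ z, S z → S (rf Q v z)) : rfE Q v ∈ stabSet Q S :=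
  ⟨fun z => quad_rf v z, fun z => ⟨fun h => by simpa [rfE_apply, rf_rf] using hv _ h, hv z⟩⟩

theorem negK : LinearEquiv.neg F ∈ stabSet Q S :=
  ⟨fun z => by simp, fun z => ⟨fun h => by simpa using hA.neg _ h, fun h => by simpa using hA.neg z h⟩⟩

theorem blkK {v : W} (hv : v ∈ D) (hQv : Q v ≠ 0) : rfE Q v ∈ stabSet Q S := hA.rfK (hA.blk v hv hQv)

/-- Every vector has a non-zero perpendicular in the plane. -/
theorem exists_perp_in (v : W) : ∃ p ∈ D, p ≠ 0 ∧ B v p = 0 := by
  obtain ⟨e, he, f, hf, hind, -⟩ := exists_basis_plane hA.dimD hA.nd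
  by_cases hf0 : B v f = 0
  · exact ⟨f, hf, hind.ne_zero 1, hf0⟩
  · refine ⟨B v f • e - B v e • f, D.sub_mem (D.smul_mem _ he) (D.smul_mem _ hf), fun h' => ?_, by
      simp [QuadraticMap.polar_sub_right, QuadraticMap.polar_smul_right]; ring⟩
    exact hf0 (LinearIndependent.pair_iff.1 hind (B v f) (-B v e) (by rw [neg_smul, ← sub_eq_add_neg, h'])).1

/-- Every non-zero value is taken on the plane. -/
theorem repr_value (c : F) : ∃ v ∈ D, Q v = c := by
  obtain ⟨N, l, hlD, hlQ, -, hN, -⟩ := exists_lines hA.dimD hA.nd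
  have h1 := Fintype.one_lt_card (α := F)
  let i : Fin N := ⟨0, by omega⟩
  obtain ⟨p, hp, hp0, hlp⟩ := hA.exists_perp_in (l i)
  have hQp : Q p ≠ 0 := fun h => by
    have hind : LinearIndependent F ![l i, p] := LinearIndependent.pair_iff.2 fun a b hab => by
      have := congrArg (B (l i)) hab
      rw [QuadraticMap.polar_add_right, QuadraticMap.polar_smul_right, QuadraticMap.polar_smul_right, hlp,
        QuadraticMap.polar_zero_right, smul_zero, add_zero, smul_eq_mul, polar_diag] at this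
      have ha := (mul_eq_zero.1 this).resolve_right (mul_ne_zero hA.two (hlQ i))
      rw [ha, zero_smul, zero_add, smul_eq_zero] at hab
      exact ⟨ha, hab.resolve_right hp0⟩
    exact hp0 (perp_pair hA.dimD hA.nd (hlD i) hp hind hp hlp (by rw [polar_diag, h, mul_zero]))
  have hodd : Fintype.card F % 2 = 1 := FiniteField.odd_card_of_char_ne_two (not_char_two hA.two)
  obtain ⟨a, b, hab⟩ := FiniteField.exists_root_sum_quadratic (f := Polynomial.C (Q (l i)) * Polynomial.X ^ 2)
    (g := Polynomial.C (Q p) * Polynomial.X ^ 2 - Polynomial.C c) (Polynomial.degree_C_mul_X_pow 2 (hlQ i))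
    (by rw [Polynomial.degree_sub_C] <;> rw [Polynomial.degree_C_mul_X_pow 2 hQp] <;> norm_num) hodd
  simp only [Polynomial.eval_mul, Polynomial.eval_C, Polynomial.eval_pow, Polynomial.eval_X,
    Polynomial.eval_sub] at hab
  refine ⟨a • l i + b • p, D.add_mem (D.smul_mem _ (hlD i)) (D.smul_mem _ hp), ?_⟩
  rw [quad_add_smul', QuadraticMap.map_smul, QuadraticMap.polar_smul_left, hlp, smul_eq_mul, smul_eq_mul]
  linear_combination hab

/-- A vector of the set off the plane gives an element moving the axis. -/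
theorem moved {N : ℕ} (l : Fin N → W) (hlD : ∀ i, l i ∈ D) (hlQ : ∀ i, Q (l i) ≠ 0)
    (hlinj : ∀ i j, (∃ c : F, l j = c • l i) → i = j) (hN5 : 5 ≤ N) {x : W} {s : F} (hx : x ∈ D) (hx0 : x ≠ 0)
    (hs : s ≠ 0) (hu : S (x + s • R)) (hQu : Q (x + s • R) = 1) :
    ∃ k ∈ stabSet Q S, ∃ xD ∈ D, ∃ c : F, k R = xD + c • R ∧ xD ≠ 0 ∧ c ≠ 0 := by
  classical
  obtain ⟨u, hudef⟩ : ∃ u, u = x + s • R := ⟨_, rfl⟩
  rw [← hudef] at hu hQu
  have h2 := hA.two
  have hR := hA.perp
  have hRD : ∀ v ∈ D, B v R = 0 := fun v hv => hA.perp' hv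
  have hQR := hA.aniso
  have hD := hA.dimD
  have hnd := hA.nd
  have huK : rfE Q u ∈ stabSet Q S := hA.rfK fun z hz => hA.cls u z hQu hu hz
  let i₀ : Fin N := ⟨0, by omega⟩
  let rot : Fin N → (W ≃ₗ[F] W) := fun i => rfE Q (l i) * rfE Q (l i₀)
  have hrotK : ∀ i, rot i ∈ stabSet Q S :=
    fun i => Subgroup.mul_mem _ (hA.blkK (hlD i) (hlQ i)) (hA.blkK (hlD i₀) (hlQ i₀))
  have hrfD : ∀ i, ∀ z ∈ D, rf Q (l i) z ∈ D := fun i z hz => by
    rw [rf_apply]; exact D.sub_mem hz (D.smul_mem _ (hlD i))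
  have hrotD : ∀ i, ∀ z ∈ D, rot i z ∈ D := fun i z hz => hrfD i _ (hrfD i₀ z hz)
  have hrotinj : ∀ i j (z : W), z ∈ D → z ≠ 0 → rot i z = rot j z → i = j := fun i j z hz hz0 h => by
    have h' : rf Q (l i) (rf Q (l i₀) z) = rf Q (l j) (rf Q (l i₀) z) := h
    exact hlinj i j (dep_of_rf_eq hD hnd (hlD i) (hlD j) (hlQ i) (hlQ j) (hrfD _ z hz)
      (fun e => hz0 (rf_injective (Q := Q) (l i₀) (e.trans (map_zero _).symm))) h')
  obtain ⟨β, hβ⟩ : ∃ β, β = B u R := ⟨_, rfl⟩
  have hβ0 : β ≠ 0 := by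
    rw [hβ, hudef, QuadraticMap.polar_add_left, QuadraticMap.polar_smul_left, hRD x hx, polar_diag, zero_add,
      smul_eq_mul]
    exact mul_ne_zero hs (mul_ne_zero h2 hQR)
  have huR : rfE Q u R = (-β) • x + (1 - β * s) • R := by
    rw [rfE_apply, rf_one hQu, ← hβ, hudef]; module
  by_cases hcz : 1 - β * s = 0
  · have hQx : Q x ≠ 0 := fun h => by
      have h1 : s * s * Q R = 1 := by
        rw [hudef, quad_add_smul', hRD x hx, h] at hQu
        simpa using hQu
      have h3' : β = s * (2 * Q R) := by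
        rw [hβ, hudef, QuadraticMap.polar_add_left, QuadraticMap.polar_smul_left, hRD x hx, polar_diag, zero_add,
          smul_eq_mul]
      exact one_ne_zero (α := F) (by linear_combination -hcz - s * h3' - 2 * h1)
    have hxx : B x x ≠ 0 := by rw [polar_diag]; exact mul_ne_zero h2 hQx
    obtain ⟨p, hp, hp0, hxp⟩ := hA.exists_perp_in x
    have hcover : ∀ z ∈ D, ∃ a b : F, z = a • x + b • p := by
      intro z hz
      have hind' : LinearIndependent F ![x, p] := LinearIndependent.pair_iff.2 fun a b hab => by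
        have := congrArg (B x) hab
        rw [QuadraticMap.polar_add_right, QuadraticMap.polar_smul_right, QuadraticMap.polar_smul_right, hxp,
          QuadraticMap.polar_zero_right, smul_zero, add_zero, smul_eq_mul] at this
        have ha := (mul_eq_zero.1 this).resolve_right hxx
        rw [ha, zero_smul, zero_add, smul_eq_zero] at hab
        exact ⟨ha, hab.resolve_right hp0⟩
      have hsp : Submodule.span F {x, p} = D := by
        refine Submodule.eq_of_le_of_finrank_le (Submodule.span_le.2 ?_) ?_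
        · rintro w (rfl | rfl) <;> assumption
        · have := finrank_span_eq_card hind'
          rw [Matrix.range_cons_cons_empty, Fintype.card_fin] at this
          rw [this, hD]
      obtain ⟨a, b, h⟩ := Submodule.mem_span_pair.1 (hsp.symm ▸ hz : z ∈ Submodule.span F {x, p})
      exact ⟨a, b, h.symm⟩
    obtain ⟨i, hi1, hi2⟩ : ∃ i, B x (rot i x) ≠ 0 ∧ ∀ a : F, rot i x ≠ a • x := by
      by_contra hno
      push Not at hno
      have hval : ∀ i, (∃ a : F, (a = 1 ∨ a = -1) ∧ rot i x = a • x) ∨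
          ∃ b : F, b * b * Q p = Q x ∧ rot i x = b • p := by
        intro i
        obtain ⟨a, b, hz⟩ := hcover _ (hrotD i x hx)
        have hQz : Q (rot i x) = Q x := (hrotK i).1 x
        by_cases hB : B x (rot i x) = 0
        · right
          rw [hz, QuadraticMap.polar_add_right, QuadraticMap.polar_smul_right, QuadraticMap.polar_smul_right,
            hxp, smul_zero, add_zero, smul_eq_mul] at hB
          rw [(mul_eq_zero.1 hB).resolve_right hxx, zero_smul, zero_add] at hz
          exact ⟨b, by rw [← hQz, hz, QuadraticMap.map_smul, smul_eq_mul], hz⟩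
        · left
          obtain ⟨a', ha'⟩ := hno i hB
          rw [ha', QuadraticMap.map_smul, smul_eq_mul] at hQz
          exact ⟨a', mul_self_eq_one_iff.1 (mul_right_cancel₀ hQx (by rw [hQz, one_mul])), ha'⟩
      let good : Finset W := {x, -x} ∪ (Finset.univ.filter fun b : F => b * b * Q p = Q x).image (· • p)
      have hsub : Finset.univ.image (fun i => rot i x) ⊆ good := by
        intro z hz
        obtain ⟨i, -, rfl⟩ := Finset.mem_image.1 hz
        rcases hval i with ⟨a, ha | ha, e'⟩ | ⟨b, hb, e'⟩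
        · exact Finset.mem_union_left _ (by rw [e', ha, one_smul]; simp)
        · exact Finset.mem_union_left _ (by rw [e', ha, neg_one_smul]; simp)
        · exact Finset.mem_union_right _ (Finset.mem_image.2 ⟨b, Finset.mem_filter.2 ⟨Finset.mem_univ _, hb⟩, e'.symm⟩)
      have hb2 : (Finset.univ.filter fun b : F => b * b * Q p = Q x).card ≤ 2 := by
        rcases (Finset.univ.filter fun b : F => b * b * Q p = Q x).eq_empty_or_nonempty with h | ⟨b₀, hb₀⟩
        · rw [h]; simp
        · refine (Finset.card_le_card (t := {b₀, -b₀}) fun b hb => ?_).trans Finset.card_le_two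
          have h1 := (Finset.mem_filter.1 hb).2
          have h1' := (Finset.mem_filter.1 hb₀).2
          have hQp : Q p ≠ 0 := fun e => hQx (by rw [← h1', e, mul_zero])
          rcases mul_self_eq_mul_self_iff.1 (mul_right_cancel₀ hQp (h1.trans h1'.symm)) with e' | e' <;> simp [e']
      have hc1 := Finset.card_le_card hsub
      rw [Finset.card_image_of_injective _ (fun i j h => hrotinj i j x hx hx0 h), Finset.card_univ,
        Fintype.card_fin] at hc1
      have hc2 : good.card ≤ 2 + 2 := (Finset.card_union_le _ _).trans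
        (Nat.add_le_add Finset.card_le_two (Finset.card_image_le.trans hb2))
      omega
    refine ⟨rfE Q u * rot i * rfE Q u, Subgroup.mul_mem _ (Subgroup.mul_mem _ huK (hrotK i)) huK,
      (-β) • (rot i x - B x (rot i x) • x), D.smul_mem _ (D.sub_mem (hrotD i x hx) (D.smul_mem _ hx)),
      β * B x (rot i x) * s, ?_, ?_, mul_ne_zero (mul_ne_zero hβ0 hi1) hs⟩
    · rw [mul_apply', mul_apply', huR, hcz, zero_smul, add_zero, map_smul, map_smul, rfE_apply, rf_one hQu]
      have hux : B u (rot i x) = B x (rot i x) := by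
        rw [hudef, QuadraticMap.polar_add_left, QuadraticMap.polar_smul_left, hR _ (hrotD i x hx), smul_zero,
          add_zero]
      rw [hux, hudef]; module
    · exact smul_ne_zero (neg_ne_zero.2 hβ0) (sub_ne_zero.2 (hi2 _))
  · exact ⟨rfE Q u, huK, (-β) • x, D.smul_mem _ hx, 1 - β * s, huR, smul_ne_zero (neg_ne_zero.2 hβ0) hx0, hcz⟩

/-- The stabiliser has many elements. -/
theorem many {N : ℕ} (l : Fin N → W) (hlD : ∀ i, l i ∈ D) (hlQ : ∀ i, Q (l i) ≠ 0)
    (hlinj : ∀ i j, (∃ c : F, l j = c • l i) → i = j) (hN5 : 5 ≤ N)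
    {k : W ≃ₗ[F] W} (hk : k ∈ stabSet Q S) {xD : W} {c : F} (hxD : xD ∈ D) (hkR : k R = xD + c • R)
    (hxD0 : xD ≠ 0) (hc : c ≠ 0) : 4 * N * (N + 1) ≤ Nat.card (stabSet Q S) := by
  classical
  have h2 := hA.two
  have hD := hA.dimD
  have hnd := hA.nd
  have hRmem := hA.notMem
  have negK := hA.negK
  have hlK : ∀ i, rfE Q (l i) ∈ stabSet Q S := fun i => hA.blkK (hlD i) (hlQ i)
  let i₀ : Fin N := ⟨0, by omega⟩
  let rot : Fin N → (W ≃ₗ[F] W) := fun i => rfE Q (l i) * rfE Q (l i₀)
  have hrotK : ∀ i, rot i ∈ stabSet Q S := fun i => Subgroup.mul_mem _ (hlK i) (hlK i₀)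
  have hrfD : ∀ i, ∀ z ∈ D, rf Q (l i) z ∈ D := fun i z hz => by
    rw [rf_apply]; exact D.sub_mem hz (D.smul_mem _ (hlD i))
  have hrfR : ∀ i, rf Q (l i) R = R := fun i => rf_perp (hA.perp' (hlD i))
  have hrotD : ∀ i, ∀ z ∈ D, rot i z ∈ D := fun i z hz => hrfD i _ (hrfD i₀ z hz)
  have hrotR : ∀ i, rot i R = R := fun i => by
    show rf Q (l i) (rf Q (l i₀) R) = R
    rw [hrfR, hrfR]
  have hrotinj : ∀ i j (z : W), z ∈ D → z ≠ 0 → rot i z = rot j z → i = j := fun i j z hz hz0 h => by
    have h' : rf Q (l i) (rf Q (l i₀) z) = rf Q (l j) (rf Q (l i₀) z) := h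
    exact hlinj i j (dep_of_rf_eq hD hnd (hlD i) (hlD j) (hlQ i) (hlQ j) (hrfD _ z hz)
      (fun e => hz0 (rf_injective (Q := Q) (l i₀) (e.trans (map_zero _).symm))) h')
  haveI : Finite W := Module.finite_of_finite F
  haveI : Finite (W ≃ₗ[F] W) := Finite.of_injective (fun g => (g : W → W)) DFunLike.coe_injective
  let sg : Bool → (W ≃ₗ[F] W) := fun e => if e then LinearEquiv.neg F else 1
  let pt : Fin N × Bool → (W ≃ₗ[F] W) := fun p => if p.2 then rfE Q (l p.1) else rot p.1
  let cs : Option (Fin N) → (W ≃ₗ[F] W) := fun o => o.elim 1 fun j => rot j * k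
  have hsgK : ∀ e, sg e ∈ stabSet Q S := fun e => by cases e <;> simp [sg, negK, Subgroup.one_mem]
  have hptK : ∀ p, pt p ∈ stabSet Q S := fun p => by
    show (if p.2 then rfE Q (l p.1) else rot p.1) ∈ _
    split_ifs
    exacts [hlK _, hrotK _]
  have hcsK : ∀ o, cs o ∈ stabSet Q S := fun o => by
    cases o with
    | none => exact Subgroup.one_mem _
    | some j => exact Subgroup.mul_mem _ (hrotK j) hk
  let Φ : Option (Fin N) × (Fin N × Bool) × Bool → stabSet Q S :=
    fun a => ⟨cs a.1 * pt a.2.1 * sg a.2.2,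
      Subgroup.mul_mem _ (Subgroup.mul_mem _ (hcsK _) (hptK _)) (hsgK _)⟩
  have hsgv : ∀ e z, sg e z = (if e then (-1 : F) else 1) • z := fun e z => by
    cases e <;> simp [sg]
  have hptR : ∀ p, pt p R = R := fun p => by
    show (if p.2 then rfE Q (l p.1) else rot p.1) R = R
    split_ifs
    exacts [hrfR _, hrotR _]
  have hinj : Function.Injective Φ := by
    rintro ⟨o, p, e⟩ ⟨o', p', e'⟩ h
    have h' : cs o * pt p * sg e = cs o' * pt p' * sg e' := congrArg Subtype.val h
    obtain ⟨ε, hε⟩ : ∃ ε, ε = (if e then (-1 : F) else 1) := ⟨_, rfl⟩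
    obtain ⟨ε', hε'⟩ : ∃ ε', ε' = (if e' then (-1 : F) else 1) := ⟨_, rfl⟩
    have hε0 : ε ≠ 0 := by rw [hε]; cases e <;> simp
    have hε0' : ε' ≠ 0 := by rw [hε']; cases e' <;> simp
    have hev : ∀ z, ε • cs o (pt p z) = ε' • cs o' (pt p' z) := fun z => by
      have := congrArg (fun g : W ≃ₗ[F] W => g z) h'
      simpa only [mul_apply', hsgv, map_smul, ← hε, ← hε'] using this
    have hcsR : ∀ o, cs o R = o.elim R fun j => rot j xD + c • R := fun o => by
      cases o with
      | none => rfl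
      | some j =>
        show rot j (k R) = _
        rw [hkR, map_add, map_smul, hrotR]; rfl
    have hR' := hev R
    rw [hptR, hptR, hcsR, hcsR] at hR'
    have part : ∀ d ∈ D, ∀ d' ∈ D, ∀ a a' : F, d + a • R = d' + a' • R → d = d' ∧ a = a' := by
      intro d hd d' hd' a a' he
      have e1 : (a - a') • R ∈ D := by
        rw [show (a - a') • R = d' - d by linear_combination (norm := module) he]
        exact D.sub_mem hd' hd
      have : a = a' := by
        by_contra hne
        exact hRmem ((D.smul_mem_iff (sub_ne_zero.2 hne)).1 e1)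
      subst this
      exact ⟨add_right_cancel he, rfl⟩
    have hoo : o = o' ∧ ε = ε' := by
      cases o with
      | none => cases o' with
        | none =>
          refine ⟨rfl, ?_⟩
          exact (part 0 D.zero_mem 0 D.zero_mem ε ε' (by simpa using hR')).2
        | some j' =>
          have := (part 0 D.zero_mem _ (D.smul_mem ε' (hrotD j' xD hxD)) ε (ε' * c) (by
            simp only [Option.elim] at hR'
            rw [zero_add, hR']; module)).1
          exact absurd (smul_eq_zero.1 this.symm) (by simp [hε0', hxD0])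
      | some j => cases o' with
        | none =>
          have := (part _ (D.smul_mem ε (hrotD j xD hxD)) 0 D.zero_mem (ε * c) ε' (by
            simp only [Option.elim] at hR'
            rw [zero_add, ← hR']; module)).1
          exact absurd (smul_eq_zero.1 this) (by simp [hε0, hxD0])
        | some j' =>
          obtain ⟨e1, e2⟩ := part _ (D.smul_mem ε (hrotD j xD hxD)) _ (D.smul_mem ε' (hrotD j' xD hxD))
            (ε * c) (ε' * c) (by
            simp only [Option.elim] at hR'
            linear_combination (norm := module) hR')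
          have e3 := mul_right_cancel₀ hc e2
          subst e3
          exact ⟨congrArg some (hrotinj j j' xD hxD hxD0 (smul_right_injective W hε0 e1)), rfl⟩
    obtain ⟨rfl, hee⟩ := hoo
    have hb : e = e' := by
      rw [hε, hε'] at hee
      have hne : (-1 : F) ≠ 1 := fun h => h2 (by linear_combination -h)
      rcases e with _ | _ <;> rcases e' with _ | _
      · rfl
      · exact absurd (by simpa using hee.symm) hne
      · exact absurd (by simpa using hee) hne
      · rfl
    subst hb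
    have hp : ∀ z, pt p z = pt p' z := fun z => by
      have := hev z
      rw [← hee] at this
      exact (cs o).injective (smul_right_injective W hε0 this)
    obtain ⟨i, b⟩ := p
    obtain ⟨i', b'⟩ := p'
    have hmix : ∀ i i', (∀ z, rfE Q (l i) z = rot i' z) → False := fun i i' h => by
      obtain ⟨q, hqD, hq0, hlq⟩ := hA.exists_perp_in (l i)
      have e1 : q = rf Q (l i') (rf Q (l i₀) q) := by
        conv_lhs => rw [← rf_perp (Q := Q) hlq]
        exact h q
      have e2 : rf Q (l i') q = rf Q (l i₀) q := by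
        conv_lhs => rw [e1]
        rw [rf_rf]
      have e3 := hlinj _ _ (dep_of_rf_eq hD hnd (hlD i') (hlD i₀) (hlQ i') (hlQ i₀) hqD hq0 e2)
      have e4 : rf Q (l i) (l i) = l i := by
        refine (h (l i)).trans ?_
        show rf Q (l i') (rf Q (l i₀) (l i)) = l i
        rw [e3, rf_rf]
      rw [rf_self (hlQ i), neg_eq_iff_add_eq_zero, ← two_smul F, smul_eq_zero] at e4
      exact hlQ i (by rw [e4.resolve_left h2, QuadraticMap.map_zero])
    cases b <;> cases b'
    · have := hrotinj i i' xD hxD hxD0 (hp xD)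
      subst this; rfl
    · exact (hmix i' i fun z => (hp z).symm).elim
    · exact (hmix i i' hp).elim
    · have := hlinj i i' (dep_of_rf_eq hD hnd (hlD i) (hlD i') (hlQ i) (hlQ i') hxD hxD0 (hp xD))
      subst this; rfl
  have := Nat.card_le_card_of_injective Φ hinj
  have e : Nat.card (Option (Fin N) × (Fin N × Bool) × Bool) = (N + 1) * (N * 2 * 2) := by
    simp [Nat.card_eq_fintype_card, Finite.card_option]
  rw [e] at this
  nlinarith

end Axis

/-- Unit vectors of a plane and one vector off it give every unit vector of the space. -/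
theorem space_full {D : Submodule F W} {R : W} {S : W → Prop} (hA : Axis Q D R S) (h5 : 5 ≤ Fintype.card F)
    (hq : 7 ≤ Fintype.card F ∨ ∀ z ∈ D, Q z = 0 → z = 0) {x : W} {s : F} (hx : x ∈ D) (hx0 : x ≠ 0)
    (hs : s ≠ 0) (hu : S (x + s • R)) (hQu : Q (x + s • R) = 1) : ∀ y, Q y = 1 → S y := by
  classical
  have h2 := hA.two
  obtain ⟨N, l, hlD, hlQ, hlinj, hN, hN'⟩ := exists_lines hA.dimD hA.nd
  have hN5 : 5 ≤ N := by
    rcases hq with hq | hq
    · omega
    · rw [hN' hq]; omega
  obtain ⟨k, hk, xD, hxD, c, hkR, hxD0, hc⟩ := hA.moved l hlD hlQ hlinj hN5 hx hx0 hs hu hQu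
  have hmany := hA.many l hlD hlQ hlinj hN5 hk hxD hkR hxD0 hc
  -- root elements
  have hroots : ∀ {q₀ q₁ m : W} {μ : F}, Frame Q q₀ q₁ m μ →
      ∀ t : F, ∃ g ∈ stabSet Q S, g q₀ = q₀ ∧ g m = m + t • q₀ := fun {q₀ q₁ m μ} hf => by
    by_contra hno
    have h := hf.card_stab_lt hno
    rcases hq with hq | hq
    · obtain ⟨r, hr⟩ : ∃ r, Fintype.card F = r + 1 := ⟨Fintype.card F - 1, by omega⟩
      have h' : 4 * r * (r + 1) ≤ 4 * N * (N + 1) := by gcongr <;> omega
      rw [hr] at h
      nlinarith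
    · rw [hN' hq] at hmany
      nlinarith
  -- a frame
  obtain ⟨q₀, q₁, hq₀, hq₁, h01⟩ : ∃ q₀ q₁ : W, Q q₀ = 0 ∧ Q q₁ = 0 ∧ B q₀ q₁ = 1 := by
    obtain ⟨v, hv, hQv⟩ := hA.repr_value (-Q R)
    have hvR := hA.perp' hv
    have hz : ∀ e : F, e * e = 1 → Q (v + e • R) = 0 := fun e he => by
      rw [quad_add_smul', hvR, hQv, he]; ring
    refine ⟨v + R, (-(4 * Q R))⁻¹ • (v + (-1 : F) • R), by simpa using hz 1 (one_mul 1), ?_, ?_⟩
    · rw [QuadraticMap.map_smul, hz (-1) (by ring), smul_zero]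
    · rw [QuadraticMap.polar_smul_right, QuadraticMap.polar_add_left, QuadraticMap.polar_add_right,
        QuadraticMap.polar_add_right, QuadraticMap.polar_smul_right, QuadraticMap.polar_smul_right, hvR,
        QuadraticMap.polar_comm _ R v, hvR, polar_diag, polar_diag, hQv]
      simp only [smul_eq_mul, mul_zero, zero_add, add_zero]
      have h4 : (4 : F) ≠ 0 := by rw [show (4 : F) = 2 * 2 by norm_num]; exact mul_ne_zero h2 h2
      field_simp [hA.aniso]
      ring
  obtain ⟨m, μ, hf⟩ := exists_frame h2 hA.dim (fun w hw => hA.ndW hw) hq₀ hq₁ h01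
  have hf' : Frame Q q₁ q₀ m μ :=
    { h0 := hq₁, h1 := hq₀, h01 := by rw [QuadraticMap.polar_comm]; exact h01, hm := hf.hm, hμ := hf.hμ
      two := h2, h0m := hf.h1m, h1m := hf.h0m
      decomp := fun z => (hf.decomp z).trans (by abel) }
  -- orbits
  obtain ⟨Rel, hRel⟩ : ∃ Rel : W → W → Prop, ∀ y y', Rel y y' ↔ ∃ g ∈ stabSet Q S, g y = y' :=
    ⟨_, fun _ _ => Iff.rfl⟩
  have hsymm : ∀ {y y'}, Rel y y' → Rel y' y := fun {y y'} h => by
    obtain ⟨g, hg, rfl⟩ := (hRel _ _).1 h
    exact (hRel _ _).2 ⟨g⁻¹, Subgroup.inv_mem _ hg, inv_apply_self g y⟩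
  have htrans : ∀ {y y' y''}, Rel y y' → Rel y' y'' → Rel y y'' := fun {y y' y''} h h' => by
    obtain ⟨g, hg, rfl⟩ := (hRel _ _).1 h
    obtain ⟨g', hg', rfl⟩ := (hRel _ _).1 h'
    exact (hRel _ _).2 ⟨g' * g, Subgroup.mul_mem _ hg' hg, rfl⟩
  have mv : ∀ {y y'}, Q y = Q y' → B q₀ y = B q₀ y' → B q₀ y ≠ 0 → Rel y y' := fun a b d =>
    (hRel _ _).2 (hf.move (hroots hf) a b d)
  have mv' : ∀ {y y'}, Q y = Q y' → B q₁ y = B q₁ y' → B q₁ y ≠ 0 → Rel y y' := fun a b d =>
    (hRel _ _).2 (hf'.move (hroots hf') a b d)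
  obtain ⟨y0, hy0⟩ : ∃ y0 : F → W, ∀ p, y0 p = p⁻¹ • q₀ + p • q₁ + (0 : F) • m := ⟨_, fun _ => rfl⟩
  have y0Q : ∀ p : F, p ≠ 0 → Q (y0 p) = 1 := fun p hp => by rw [hy0, hf.quad]; field_simp; ring
  have y0p : ∀ p, B q₀ (y0 p) = p := fun p => by rw [hy0, hf.polar0]
  have y0A : ∀ p, B q₁ (y0 p) = p⁻¹ := fun p => by rw [hy0, hf.polar1]
  -- the multipliers
  let T : Finset F := Finset.univ.filter fun r => r ≠ 0 ∧ ∀ p : F, p ≠ 0 → Rel (y0 p) (y0 (p * r))
  have hT : ∀ {r}, r ∈ T ↔ r ≠ 0 ∧ ∀ p : F, p ≠ 0 → Rel (y0 p) (y0 (p * r)) := fun {r} => by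
    simp only [T, Finset.mem_filter, Finset.mem_univ, true_and]
  have hTmul : ∀ a ∈ T, ∀ b ∈ T, a * b ∈ T := fun a ha b hb => by
    refine hT.2 ⟨mul_ne_zero (hT.1 ha).1 (hT.1 hb).1, fun p hp => htrans ((hT.1 ha).2 p hp) ?_⟩
    rw [← mul_assoc]
    exact (hT.1 hb).2 _ (mul_ne_zero hp (hT.1 ha).1)
  have hTinv : ∀ a ∈ T, a⁻¹ ∈ T := fun a ha => by
    refine hT.2 ⟨inv_ne_zero (hT.1 ha).1, fun p hp => hsymm ?_⟩
    have := (hT.1 ha).2 (p * a⁻¹) (mul_ne_zero hp (inv_ne_zero (hT.1 ha).1))
    rwa [inv_mul_cancel_right₀ (hT.1 ha).1] at this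
  have hfT : ∀ C : F, 1 - μ * (C * C) ≠ 0 → 1 - μ * (C * C) ∈ T := fun C hC => by
    have key : ∀ p : F, p ≠ 0 → Rel (y0 p) (y0 (p / (1 - μ * (C * C)))) := fun p hp => by
      obtain ⟨y, hy⟩ : ∃ y, y = ((1 - μ * (C * C)) / p) • q₀ + p • q₁ + C • m := ⟨_, rfl⟩
      have hyQ : Q y = 1 := by rw [hy, hf.quad]; field_simp; ring
      have hyA : B q₁ y = (1 - μ * (C * C)) / p := by rw [hy, hf.polar1]
      refine htrans (y' := y) (mv ((y0Q p hp).trans hyQ.symm) ?_ (by rw [y0p]; exact hp))
        (mv' (hyQ.trans (y0Q _ (div_ne_zero hp hC)).symm) ?_ (by rw [hyA]; exact div_ne_zero hC hp))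
      · rw [y0p, hy, hf.polar0]
      · rw [hyA, y0A, inv_div]
    have := hTinv ((1 - μ * (C * C))⁻¹) (hT.2 ⟨inv_ne_zero hC, fun p hp => by
      rw [← div_eq_mul_inv]; exact key p hp⟩)
    rwa [inv_inv] at this
  have hTall : ∀ r : F, r ≠ 0 → r ∈ T := by
    let I : Finset F := Finset.univ.image fun C : F => 1 - μ * (C * C)
    have hI : Fintype.card F + 1 ≤ 2 * I.card := by
      have hfib := Finset.card_le_mul_card_image (f := fun C : F => 1 - μ * (C * C)) Finset.univ 2 fun a ha => ?_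
      · rw [Finset.card_univ] at hfib
        have hodd : Fintype.card F % 2 = 1 := FiniteField.odd_card_of_char_ne_two (not_char_two h2)
        show _ ≤ 2 * (Finset.univ.image _).card
        omega
      · obtain ⟨C₀, -, rfl⟩ := Finset.mem_image.1 ha
        refine (Finset.card_le_card (t := {C₀, -C₀}) fun C hC => ?_).trans Finset.card_le_two
        have := (Finset.mem_filter.1 hC).2
        rcases mul_self_eq_mul_self_iff.1 (mul_left_cancel₀ hf.hμ (sub_right_inj.1 this)) with e | e <;> simp [e]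
    have hIT : I.erase 0 ⊆ T := fun a ha => by
      obtain ⟨h0, ha⟩ := Finset.mem_erase.1 ha
      obtain ⟨C, -, rfl⟩ := Finset.mem_image.1 ha
      exact hfT C h0
    have hT0 : T ⊆ Finset.univ.erase 0 := fun a ha => Finset.mem_erase.2 ⟨(hT.1 ha).1, Finset.mem_univ _⟩
    by_contra hno
    push Not at hno
    obtain ⟨r, hr, hrT⟩ := hno
    have hdis : Disjoint T (T.image (r * ·)) := Finset.disjoint_left.2 fun a ha hb => by
      obtain ⟨b, hb', rfl⟩ := Finset.mem_image.1 hb
      refine hrT ?_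
      have := hTmul _ ha _ (hTinv b hb')
      rwa [mul_inv_cancel_right₀ (hT.1 hb').1] at this
    have hcard : 2 * T.card + 1 ≤ Fintype.card F := by
      have h' := Finset.card_le_card (show T ∪ T.image (r * ·) ⊆ Finset.univ.erase 0 from Finset.union_subset hT0
        fun a ha => by
          obtain ⟨b, hb, rfl⟩ := Finset.mem_image.1 ha
          exact Finset.mem_erase.2 ⟨mul_ne_zero hr (hT.1 hb).1, Finset.mem_univ _⟩)
      rw [Finset.card_union_of_disjoint hdis, Finset.card_image_of_injective _ (mul_right_injective₀ hr),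
        Finset.card_erase_of_mem (Finset.mem_univ _), Finset.card_univ] at h'
      omega
    have h0I : (0 : F) ∈ I := by
      by_contra h0
      have := Finset.card_le_card hIT
      rw [Finset.erase_eq_of_notMem h0] at this
      omega
    have hIE : I.card - 1 = (I.erase 0).card := (Finset.card_erase_of_mem h0I).symm
    have hTI : I.erase 0 = T := Finset.eq_of_subset_of_card_le hIT (by omega)
    have hIins : I = insert 0 T := by rw [← hTI, Finset.insert_erase h0I]
    have hTc : T.card = (I.erase 0).card := by rw [hTI]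
    -- the sum of the multipliers vanishes
    have hsum0 : ∑ a ∈ T, a = 0 := by
      obtain ⟨a, ha, ha1⟩ : ∃ a ∈ T, a ≠ 1 := Finset.exists_mem_ne (by omega) 1
      have : ∑ b ∈ T, b = a * ∑ b ∈ T, b := by
        rw [Finset.mul_sum]
        refine Finset.sum_nbij' (fun b => a⁻¹ * b) (fun b => a * b) (fun b hb => hTmul _ (hTinv a ha) _ hb)
          (fun b hb => hTmul _ ha _ hb) (fun b _ => mul_inv_cancel_left₀ (hT.1 ha).1 b)
          (fun b _ => inv_mul_cancel_left₀ (hT.1 ha).1 b) (fun b _ => (mul_inv_cancel_left₀ (hT.1 ha).1 b).symm)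
      exact (mul_eq_zero.1 (show (1 - a) * ∑ b ∈ T, b = 0 by linear_combination this)).resolve_left
        (sub_ne_zero.2 (Ne.symm ha1))
    obtain ⟨C, -, hC⟩ := Finset.mem_image.1 h0I
    have hC0 : C ≠ 0 := fun e => by rw [e] at hC; simp at hC
    have hμsq : μ = C⁻¹ * C⁻¹ := by
      field_simp
      linear_combination -hC
    -- squares are the multipliers, so `x ↦ 1 - x` permutes the squares with zero
    let Sq : Finset F := Finset.univ.image fun z : F => z * z
    have hISq : I = Sq.image (fun z => 1 - z) := by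
      ext a
      simp only [I, Sq, Finset.mem_image, Finset.mem_univ, true_and]
      constructor
      · rintro ⟨z, rfl⟩
        exact ⟨_, ⟨C⁻¹ * z, rfl⟩, by rw [hμsq]; ring⟩
      · rintro ⟨_, ⟨z, rfl⟩, rfl⟩
        exact ⟨C * z, by rw [hμsq]; field_simp⟩
    have hsqT : ∀ z : F, z ≠ 0 → z * z ∈ T := fun z hz => by
      by_contra hzT
      have hz' : z ∉ T := fun h => hzT (hTmul z h z h)
      have hd' : Disjoint T (T.image (z * ·)) := Finset.disjoint_left.2 fun a ha hb => by
        obtain ⟨b, hb', rfl⟩ := Finset.mem_image.1 hb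
        refine hz' ?_
        have := hTmul _ ha _ (hTinv b hb')
        rwa [mul_inv_cancel_right₀ (hT.1 hb').1] at this
      have hU := Finset.eq_of_subset_of_card_le (show T ∪ T.image (z * ·) ⊆ Finset.univ.erase 0 from
        Finset.union_subset hT0 fun a ha => by
          obtain ⟨b, hb, rfl⟩ := Finset.mem_image.1 ha
          exact Finset.mem_erase.2 ⟨mul_ne_zero hz (hT.1 hb).1, Finset.mem_univ _⟩) (by
        rw [Finset.card_union_of_disjoint hd', Finset.card_image_of_injective _ (mul_right_injective₀ hz),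
          Finset.card_erase_of_mem (Finset.mem_univ _), Finset.card_univ]
        omega)
      have : z * z ∈ T ∪ T.image (z * ·) := by
        rw [hU]; exact Finset.mem_erase.2 ⟨mul_ne_zero hz hz, Finset.mem_univ _⟩
      rcases Finset.mem_union.1 this with h | h
      · exact hzT h
      · obtain ⟨b, hb, e⟩ := Finset.mem_image.1 h
        exact hz' (mul_left_cancel₀ hz e ▸ hb)
    have hSq : Sq = insert 0 T := by
      refine Finset.eq_of_subset_of_card_le (fun a ha => ?_) ?_
      · obtain ⟨z, -, rfl⟩ := Finset.mem_image.1 ha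
        by_cases hz : z = 0
        · simp [hz]
        · exact Finset.mem_insert_of_mem (hsqT z hz)
      · have : I.card = Sq.card := by
          rw [hISq, Finset.card_image_of_injective _ sub_right_injective]
        rw [← hIins]; omega
    have hsumI : ∑ a ∈ I, a = 0 := by
      rw [hIins, Finset.sum_insert_zero]; · exact hsum0
      rfl
    have hsumSq : ∑ a ∈ Sq, a = 0 := by rw [hSq, ← hIins]; exact hsumI
    have hcast : ((I.card : ℕ) : F) = 0 := by
      have e : ∑ a ∈ I, a = (Sq.card : F) - ∑ a ∈ Sq, a := by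
        rw [hISq, Finset.sum_image (sub_right_injective.injOn), Finset.sum_sub_distrib, Finset.sum_const,
          nsmul_eq_mul, mul_one]
      rw [hsumI, hsumSq, sub_zero] at e
      rw [hIins, ← hSq]; exact e.symm
    have hIcard : 2 * I.card = Fintype.card F + 1 := by omega
    have := congrArg (fun n : ℕ => (n : F)) hIcard
    simp only [Nat.cast_mul, Nat.cast_add, Nat.cast_one, FiniteField.cast_card_eq_zero, hcast, mul_zero,
      zero_add] at this
    exact zero_ne_one this
  -- every unit vector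
  have hall : ∀ y, Q y = 1 → Rel y (y0 1) := by
    have key : ∀ y, Q y = 1 → B q₀ y ≠ 0 → Rel y (y0 1) := fun y hy hp => by
      refine htrans (mv (y' := y0 (B q₀ y)) (hy.trans (y0Q _ hp).symm) (y0p _).symm hp) (hsymm ?_)
      have := (hT.1 (hTall _ hp)).2 1 one_ne_zero
      rwa [one_mul] at this
    intro y hy
    by_cases hp : B q₀ y = 0
    · have hyq := hf.quad_eq y
      rw [hy, hp, mul_zero, zero_add] at hyq
      have hm0 : B m y ≠ 0 := fun e => by rw [e] at hyq; simp at hyq
      by_cases hA' : B q₁ y = 0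
      · obtain ⟨g, hg, g1, gm⟩ := hroots hf' 1
        refine htrans ((hRel _ _).2 ⟨g, hg, rfl⟩) (key (g y) (by rw [hg.1, hy]) ?_)
        have e : g y = (B m y / (2 * μ)) • (m + q₁) := by
          conv_lhs => rw [hf.decomp y, hp, hA']
          simp [map_add, map_smul, gm]
        rw [e, QuadraticMap.polar_smul_right, QuadraticMap.polar_add_right, hf.h0m, h01, smul_eq_mul]
        simpa [hf.hμ, h2] using hm0
      · refine htrans (mv' (y' := y0 (B q₁ y)⁻¹) (hy.trans (y0Q _ (inv_ne_zero hA')).symm) (by rw [y0A, inv_inv])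
          hA') (key _ (y0Q _ (inv_ne_zero hA')) (by rw [y0p]; exact inv_ne_zero hA'))
    · exact key y hy hp
  intro y hy
  obtain ⟨g, hg, hgy⟩ := (hRel _ _).1 (htrans (hall _ hQu) (hsymm (hall y hy)))
  rw [← hgy]
  exact (hg.2 _).2 hu

end Cfsg.Agent.Classical.OrthRef
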