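import Cfsg.Agent.Lib.Classical.MaxOrthRefTwo
import Cfsg.Agent.Lib.Classical.MaxOrthRefSpace
import Cfsg.Agent.Lib.Classical.MaxOrthRefArith

/-!
A member on two summands gives every unit vector on the two summands.
-/

set_option autoImplicit false
set_option linter.unusedSectionVars false
set_option quotPrecheck false

namespace Cfsg.Agent.Classical.OrthRef

open Matrix Module
open MaxTv (IsProj)

variable {F : Type*} [Field F] [Fintype F] {ι : Type} [Fintype ι] [DecidableEq ι] {Q : QuadraticForm F (ι → F)}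

local notation "V" => (ι → F)
local notation "B" => QuadraticMap.polar ⇑Q

/-- All unit vectors of two given values on two summands are members. -/
def Lev (Q : QuadraticForm F (ι → F)) (M : Subgroup (GL ι F)) {t : ℕ} (D : Fin t → Submodule F (ι → F))
    (a b : Fin t) (α : F) : Prop :=
  ∀ x ∈ D a, ∀ z ∈ D b, x ≠ 0 → z ≠ 0 → Q x = α → Q z = 1 - α → Mem Q M D (x + z)

namespace Ctx

variable {M : Subgroup (GL ι F)} {t k : ℕ} {D : Fin t → Submodule F (ι → F)}
  {p : Fin t → ((ι → F) →ₗ[F] (ι → F))} (hC : Ctx Q M D p k)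
include hC

/-- Block reflections at two summands preserve the members on them. -/
theorem blk_two {a b c : Fin t} (hc : c = a ∨ c = b) {x z v : V} (hx : x ∈ D a) (hz : z ∈ D b)
    (hm : Mem Q M D (x + z)) (hv : v ∈ D c) (hv0 : Q v ≠ 0) : Mem Q M D (rf Q v (x + z)) := by
  rcases hC.shape with ⟨-, ht⟩ | ⟨-, h2⟩
  · obtain ⟨e, he⟩ : ∃ e : Fin t, e ∉ ({a, b} : Finset (Fin t)) := by
      by_contra hc
      push Not at hc
      have h1 := (Finset.card_le_card (show Finset.univ ⊆ ({a, b} : Finset (Fin t)) from fun i _ => hc i)).trans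
        Finset.card_le_two
      rw [Finset.card_univ, Fintype.card_fin] at h1
      omega
    simp only [Finset.mem_insert, Finset.mem_singleton, not_or] at he
    exact hC.blk_wit hm hv hv0 (hC.wit_zero (e := e) (by
      rw [map_add, hC.proj.other e a he.1 x hx, hC.proj.other e b he.2 z hz, add_zero]))
  · exact hC.blk_wit hm hv hv0 (hC.wit_two h2 c _)

theorem rf_left {a b : Fin t} (hab : a ≠ b) {x z v : V} (hx : x ∈ D a) (hz : z ∈ D b) (hm : Mem Q M D (x + z))
    (hv : v ∈ D a) (hv0 : Q v ≠ 0) : Mem Q M D (rf Q v x + z) := by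
  have h := hC.blk_two (Or.inl rfl) hx hz hm hv hv0
  rwa [map_add, rf_perp (hC.orth a b hab v hv z hz)] at h

/-- Vectors of one value in a summand are equivalent. -/
theorem orbit {a b : Fin t} (hab : a ≠ b) {x x' z : V} (hx : x ∈ D a) (hx' : x' ∈ D a) (hx0 : x ≠ 0)
    (hx0' : x' ≠ 0) (hQ : Q x' = Q x) (hz : z ∈ D b) (hm : Mem Q M D (x + z)) : Mem Q M D (x' + z) := by
  have one : ∀ {y y' : V}, y ∈ D a → y' ∈ D a → Q y' = Q y → Q (y - y') ≠ 0 → Mem Q M D (y + z) →
      Mem Q M D (y' + z) := fun {y y'} hy hy' he hne hm => by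
    have hB : B (y - y') y = Q (y - y') := by
      rw [QuadraticMap.polar_sub_left, polar_diag, sub_eq_add_neg y y', QuadraticMap.map_add (f := Q),
        QuadraticMap.map_neg, QuadraticMap.polar_neg_right, QuadraticMap.polar_comm _ y' y, he]
      ring
    have h := hC.rf_left hab hy hz hm ((D a).sub_mem hy hy') hne
    rwa [rf_apply, hB, mul_inv_cancel₀ hne, one_smul, sub_sub_cancel] at h
  by_cases hd : Q (x - x') = 0
  swap
  · exact one hx hx' hQ hd hm
  have hsub : ∀ y y' : V, Q y' = Q y → Q (y - y') = 2 * Q y - B y y' := fun y y' he => by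
    rw [sub_eq_add_neg y y', QuadraticMap.map_add (f := Q), QuadraticMap.map_neg, QuadraticMap.polar_neg_right, he]
    ring
  rw [hsub x x' hQ] at hd
  by_cases hodd : (2 : F) ≠ 0 ∧ Q x ≠ 0
  · obtain ⟨h2, hα⟩ := hodd
    have hn : Mem Q M D (-x + z) := by
      have := hC.rf_left hab hx hz hm hx hα
      rwa [rf_self hα] at this
    refine one ((D a).neg_mem hx) hx' (by rw [QuadraticMap.map_neg, hQ]) ?_ hn
    rw [hsub _ _ (by rw [QuadraticMap.map_neg, hQ]), QuadraticMap.map_neg, QuadraticMap.polar_neg_left]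
    intro h
    exact mul_ne_zero (mul_ne_zero h2 h2) hα (by linear_combination hd + h)
  have h2α : 2 * Q x = 0 := by
    rcases not_and_or.1 hodd with h | h <;> push Not at h <;> rw [h] <;> ring
  have hb : B x x' = 0 := by linear_combination h2α - hd
  -- a middle vector
  suffices ∃ y, (y ∈ D a ∧ Q y = Q x ∧ B x y ≠ 0 ∧ B x' y ≠ 0) ∨ x' = x by
    obtain ⟨y, hy⟩ := this
    rcases hy with ⟨hy, hQy, h1, h2⟩ | h
    · refine one hy hx' (hQ.trans hQy.symm) ?_ (one hx hy hQy ?_ hm)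
      · rw [hsub y x' (hQ.trans hQy.symm), hQy, h2α, zero_sub, QuadraticMap.polar_comm _ y x']
        exact neg_ne_zero.2 h2
      · rw [hsub x y hQy, h2α, zero_sub]
        exact neg_ne_zero.2 h1
    · rwa [h]
  by_cases hk : k = 2
  · by_cases hα : Q x = 0
    · obtain ⟨z₀, hz₀, hxz⟩ := hC.nd a x hx hx0
      obtain ⟨c, hc⟩ : ∃ c : F, x' = c • x := by
        by_contra hne
        push Not at hne
        exact hx0 (perp_pair (Q := Q) (by rw [hC.dim, hk]) (hC.nd a) hx hx' (ind_pair hC hx0 hne) hx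
          (by rw [polar_diag, hα, mul_zero]) (by rw [QuadraticMap.polar_comm, hb]))
      have hc0 : c ≠ 0 := fun e => hx0' (by rw [hc, e, zero_smul])
      refine ⟨z₀ + (-(Q z₀ / B x z₀)) • x, Or.inl ⟨(D a).add_mem hz₀ ((D a).smul_mem _ hx), ?_, ?_, ?_⟩⟩
      · rw [quad_add_smul', hα, QuadraticMap.polar_comm _ z₀ x]
        field_simp
        ring
      · rwa [QuadraticMap.polar_add_right, QuadraticMap.polar_smul_right, polar_diag, hα, mul_zero, smul_zero, add_zero]
      · rw [hc, QuadraticMap.polar_smul_left, QuadraticMap.polar_add_right, QuadraticMap.polar_smul_right, polar_diag,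
          hα, mul_zero, smul_zero, add_zero]
        exact smul_ne_zero hc0 hxz
    · refine ⟨x, Or.inr ?_⟩
      have h2 : (2 : F) = 0 := (mul_eq_zero.1 h2α).resolve_right hα
      obtain ⟨c, hc⟩ : ∃ c : F, x' = c • x := by
        by_contra hne
        push Not at hne
        exact hx0 (perp_pair (Q := Q) (by rw [hC.dim, hk]) (hC.nd a) hx hx' (ind_pair hC hx0 hne) hx
          (by rw [polar_diag, h2, zero_mul]) (by rw [QuadraticMap.polar_comm, hb]))
      rw [hc, QuadraticMap.map_smul, smul_eq_mul] at hQ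
      have hcc : c * c = 1 := mul_right_cancel₀ hα (hQ.trans (one_mul _).symm)
      have hc1 : c = 1 := by
        rcases mul_self_eq_one_iff.1 hcc with e | e
        · exact e
        · rw [e]; linear_combination -h2
      rw [hc, hc1, one_smul]
  obtain ⟨h2, hk4⟩ := hC.char_two_of_four hk
  by_cases hxx : x' = x
  · exact ⟨x, Or.inr hxx⟩
  obtain ⟨w, hw, hw1, hw2⟩ := hC.two_linear (hC.nd a x hx hx0) (hC.nd a x' hx' hx0')
  by_cases hα : Q x = 0
  · by_cases hQw : Q w = 0
    · exact ⟨w, Or.inl ⟨hw, by rw [hQw, hα], hw1, hw2⟩⟩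
    · refine ⟨x + (-(B x w / Q w)) • w, Or.inl ⟨(D a).add_mem hx ((D a).smul_mem _ hw), ?_, ?_, ?_⟩⟩
      · rw [quad_add_smul', hα]; field_simp; ring
      · rw [QuadraticMap.polar_add_right, QuadraticMap.polar_smul_right, polar_diag, h2, zero_mul, zero_add]
        exact smul_ne_zero (neg_ne_zero.2 (div_ne_zero hw1 hQw)) hw1
      · rw [QuadraticMap.polar_add_right, QuadraticMap.polar_smul_right, QuadraticMap.polar_comm _ x' x, hb, zero_add]
        exact smul_ne_zero (neg_ne_zero.2 (div_ne_zero hw1 hQw)) hw2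
  have scaled : ∀ y ∈ D a, Q y ≠ 0 → B x y ≠ 0 → B x' y ≠ 0 →
      ∃ y', (y' ∈ D a ∧ Q y' = Q x ∧ B x y' ≠ 0 ∧ B x' y' ≠ 0) ∨ x' = x := fun y hy hQy h1 h2' => by
    obtain ⟨r, hr⟩ := sq_two h2 (Q x * (Q y)⁻¹)
    have hr0 : r ≠ 0 := fun e => mul_ne_zero hα (inv_ne_zero hQy) (by rw [hr, e, mul_zero])
    exact ⟨r • y, Or.inl ⟨(D a).smul_mem _ hy, by
      rw [QuadraticMap.map_smul, smul_eq_mul, ← hr, inv_mul_cancel_right₀ hQy],
      by rw [QuadraticMap.polar_smul_right]; exact smul_ne_zero hr0 h1,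
      by rw [QuadraticMap.polar_smul_right]; exact smul_ne_zero hr0 h2'⟩⟩
  by_cases hQw : Q w = 0
  · obtain ⟨z₁, hz₁, h3, -, h4, h5⟩ := hC.common hx hx' hα (hQ ▸ hα) hb fun c hc => hxx (by
      rw [hc, QuadraticMap.map_smul, smul_eq_mul] at hQ
      have hcc : c * c = 1 := mul_right_cancel₀ hα (hQ.trans (one_mul _).symm)
      rcases mul_self_eq_one_iff.1 hcc with e | e
      · rw [hc, e, one_smul]
      · rw [hc, e, show (-1 : F) = 1 by linear_combination -h2, one_smul])
    exact scaled z₁ hz₁ h3 h4 h5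
  · exact scaled w hw hQw hw1 hw2

theorem lev_of {a b : Fin t} (hab : a ≠ b) {x z : V} (hx : x ∈ D a) (hz : z ∈ D b) (hx0 : x ≠ 0) (hz0 : z ≠ 0)
    (hm : Mem Q M D (x + z)) : Lev Q M D a b (Q x) := fun x' hx' z' hz' hx0' hz0' e e' => by
  have hQz : Q z = 1 - Q x := by
    have h := hm.1
    rw [QuadraticMap.map_add (f := Q), hC.orth a b hab x hx z hz, add_zero] at h
    linear_combination h
  have h1 := hC.orbit hab hx hx' hx0 hx0' e hz hm
  rw [add_comm] at h1 ⊢
  exact hC.orbit (Ne.symm hab) hz hz' hz0 hz0' (e'.trans hQz.symm) hx' h1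

theorem lev_symm {a b : Fin t} {α : F} (h : Lev Q M D a b α) : Lev Q M D b a (1 - α) :=
  fun x hx z hz hx0 hz0 e e' => by
    rw [add_comm]
    exact h z hz x hx hz0 hx0 (by rw [e', sub_sub_cancel]) e

/-- Realising a level. -/
theorem lev_mem {a b : Fin t} {α : F} (h : Lev Q M D a b α) (ha : ∃ x ∈ D a, x ≠ 0 ∧ Q x = α)
    (hb : ∃ z ∈ D b, z ≠ 0 ∧ Q z = 1 - α) :
    ∃ x ∈ D a, ∃ z ∈ D b, x ≠ 0 ∧ z ≠ 0 ∧ Q x = α ∧ Q z = 1 - α ∧ Mem Q M D (x + z) := by
  obtain ⟨x, hx, hx0, e⟩ := ha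
  obtain ⟨z, hz, hz0, e'⟩ := hb
  exact ⟨x, hx, z, hz, hx0, hz0, e, e', h x hx z hz hx0 hz0 e e'⟩

theorem exists_ne {a : Fin t} {c : F} (hc : c ≠ 0) : ∃ x ∈ D a, x ≠ 0 ∧ Q x = c := by
  obtain ⟨x, hx, e⟩ := hC.repr_val a c
  exact ⟨x, hx, fun h => hc (by rw [← e, h, QuadraticMap.map_zero]), e⟩

/-- The move by a unit vector of the first summand, in characteristic two. -/
theorem step_two (h2 : (2 : F) = 0) {a b : Fin t} (hab : a ≠ b) {x z y : V} (hx : x ∈ D a) (hz : z ∈ D b)
    (hz0 : z ≠ 0) (hm : Mem Q M D (x + z)) (hy : y ∈ D a) (hQy : Q y = 1) (hne : B x y ≠ 0) :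
    Lev Q M D a b (1 + B x y * B x y * Q z) := by
  have h := hC.mem_rf hm (hC.mem_block hy hQy)
  rw [rf_one hm.1, QuadraticMap.polar_add_left, hC.orth b a (Ne.symm hab) z hz y hy, add_zero,
    show y - B x y • (x + z) = (y - B x y • x) + (-(B x y)) • z by module] at h
  have hxD : y - B x y • x ∈ D a := (D a).sub_mem hy ((D a).smul_mem _ hx)
  have hx0 : y - B x y • x ≠ 0 := fun e => hne (by
    rw [sub_eq_zero.1 e, QuadraticMap.polar_smul_right, polar_diag, h2, zero_mul, smul_zero])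
  have hQz : Q x + Q z = 1 := by
    have h' := hm.1
    rwa [QuadraticMap.map_add (f := Q), hC.orth a b hab x hx z hz, add_zero] at h'
  have e : Q (y - B x y • x) = 1 + B x y * B x y * Q z := by
    rw [sub_eq_add_neg, ← neg_smul, quad_add_smul', hQy, QuadraticMap.polar_comm _ y x]
    linear_combination B x y * B x y * hQz - B x y * B x y * Q z * h2
  rw [← e]
  exact hC.lev_of hab hxD ((D b).smul_mem _ hz) hx0 (smul_ne_zero (neg_ne_zero.2 hne) hz0) h

/-- Singular first components give everything, in characteristic two. -/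
theorem all_of_zero (h2 : (2 : F) = 0) {a b : Fin t} (hab : a ≠ b) (hq : 4 ≤ Fintype.card F ∨ 4 ≤ k)
    {x : V} (hx : x ∈ D a) (hx0 : x ≠ 0) (hQx : Q x = 0) (h0 : Lev Q M D a b 0) :
    ∀ α, α ≠ 1 → Lev Q M D a b α := by
  intro α hα
  obtain ⟨z, hz, hz0, hQz⟩ := hC.exists_ne (a := b) (one_ne_zero (α := F))
  have hm := h0 x hx z hz hx0 hz0 hQx (by rw [hQz, sub_zero])
  obtain ⟨l, hl⟩ := sq_two h2 (1 - α)
  have hl0 : l ≠ 0 := fun e => hα (by
    rw [e, mul_zero, sub_eq_zero] at hl; exact hl.symm)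
  obtain ⟨f, hf, hxf⟩ := hC.nd a x hx hx0
  obtain ⟨y, hy, hQy, hxy⟩ : ∃ y ∈ D a, Q y = 1 ∧ B x y = l := by
    refine ⟨(l / B x f) • f + ((1 - l / B x f * (l / B x f) * Q f) / l) • x,
      (D a).add_mem ((D a).smul_mem _ hf) ((D a).smul_mem _ hx), ?_, ?_⟩
    · rw [quad_add_smul', QuadraticMap.map_smul, QuadraticMap.polar_smul_left, hQx, QuadraticMap.polar_comm _ f x,
        smul_eq_mul, smul_eq_mul]
      field_simp
      ring
    · rw [QuadraticMap.polar_add_right, QuadraticMap.polar_smul_right, QuadraticMap.polar_smul_right, polar_diag,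
        hQx, smul_eq_mul, smul_eq_mul, div_mul_cancel₀ _ hxf]
      ring
  have h := hC.step_two h2 hab hx hz hz0 hm hy hQy (hxy ▸ hl0)
  rwa [hxy, hQz, mul_one, ← hl, show 1 + (1 - α) = α by linear_combination (1 - α) * h2] at h

/-- Planes of minus type in characteristic two. -/
theorem minus_two (h2 : (2 : F) = 0) (hk : k = 2) (h4 : 4 ≤ Fintype.card F) {a b : Fin t} (hab : a ≠ b)
    (hiso : ∀ c, ∀ z ∈ D c, Q z = 0 → z = 0) {x z : V} (hx : x ∈ D a) (hz : z ∈ D b) (hx0 : x ≠ 0) (hz0 : z ≠ 0)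
    (hm : Mem Q M D (x + z)) : ∀ α, α ≠ 0 → α ≠ 1 → Lev Q M D a b α := by
  classical
  have hodd : ∀ w : F, -w = w := fun w => by linear_combination -w * h2
  -- the index two subgroup
  let L : Finset F := Finset.univ.image fun r => r * r + r
  have hLm : ∀ {e}, e ∈ L ↔ ∃ r : F, r * r + r = e := fun {e} => by simp [L]
  have hL0 : (0 : F) ∈ L := hLm.2 ⟨0, by ring⟩
  have hLsub : ∀ u ∈ L, ∀ v ∈ L, u - v ∈ L := fun u hu v hv => by
    obtain ⟨r, rfl⟩ := hLm.1 hu
    obtain ⟨s, rfl⟩ := hLm.1 hv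
    exact hLm.2 ⟨r + s, by linear_combination (s * s + r * s + s) * h2⟩
  have hfib : ∀ c : F, (Finset.univ.filter fun r : F => r * r + r = c).card ≤ 2 := fun c => by
    rcases (Finset.univ.filter fun r : F => r * r + r = c).eq_empty_or_nonempty with e | ⟨r₀, hr₀⟩
    · rw [e]; simp
    · refine (Finset.card_le_card (t := {r₀, r₀ + 1}) fun r hr => ?_).trans Finset.card_le_two
      have e' : (r - r₀) * (r + r₀ + 1) = 0 := by
        linear_combination (Finset.mem_filter.1 hr).2 - (Finset.mem_filter.1 hr₀).2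
      rcases mul_eq_zero.1 e' with e | e
      · simp [sub_eq_zero.1 e]
      · simp [show r = r₀ + 1 by linear_combination e - (r₀ + 1) * h2]
  have hLlow : Fintype.card F ≤ 2 * L.card := by
    have h := Finset.card_le_mul_card_image (f := fun r : F => r * r + r) Finset.univ 2 fun c _ => hfib c
    rwa [Finset.card_univ] at h
  have hLne : L ≠ Finset.univ := fun e => by
    have hinj : Function.Injective fun r : F => r * r + r := Finite.injective_iff_surjective.2 fun c =>
      hLm.1 (by rw [e]; exact Finset.mem_univ c)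
    exact zero_ne_one (hinj (a₁ := (0 : F)) (a₂ := 1) (by simp only; linear_combination -h2))
  have hLhi : 2 * L.card ≤ Fintype.card F := by
    have := card_mul_le hL0 hLsub (C := {1}) (by simp) (by simp) hLne
    simp only [Finset.card_singleton, mul_one] at this
    omega
  have hcoset : ∀ u v, u ∉ L → v ∉ L → u + v ∈ L := fun u v hu hv => by
    by_contra huv
    have key : ∀ w ∈ L, ∀ s, s ∉ L → s + w ∉ L := fun w hw s hs h => hs (by simpa using hLsub _ h w hw)
    have d1 : Disjoint L (L.image (u + ·)) := Finset.disjoint_right.2 fun y hy => by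
      obtain ⟨w, hw, rfl⟩ := Finset.mem_image.1 hy
      exact key w hw u hu
    have d2 : v ∉ L ∪ L.image (u + ·) := fun h => by
      rcases Finset.mem_union.1 h with h | h
      · exact hv h
      · obtain ⟨w, hw, rfl⟩ := Finset.mem_image.1 h
        refine huv ?_
        rw [show u + (u + w) = w by linear_combination u * h2]
        exact hw
    have := Finset.card_le_univ (insert v (L ∪ L.image (u + ·)))
    rw [Finset.card_insert_of_notMem d2, Finset.card_union_of_disjoint d1,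
      Finset.card_image_of_injective _ (add_right_injective u)] at this
    omega
  have next' : ∀ {x z : V}, x ∈ D a → z ∈ D b → x ≠ 0 → z ≠ 0 → Mem Q M D (x + z) → ∀ e, e ∉ L →
      Lev Q M D a b (1 + Q x * (1 + Q x) / e) := by
    intro x z hx hz hx0 hz0 hm e he
    have hα : Q x ≠ 0 := fun h => hx0 (hiso a x hx h)
    have he0 : e ≠ 0 := fun h => he (h ▸ hL0)
    obtain ⟨g, hg, hxg⟩ := hC.nd a x hx hx0
    obtain ⟨f, hf⟩ : ∃ f, f = (B x g)⁻¹ • g := ⟨_, rfl⟩
    have hfD : f ∈ D a := hf ▸ (D a).smul_mem _ hg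
    have hxf : B x f = 1 := by rw [hf, QuadraticMap.polar_smul_right, smul_eq_mul, inv_mul_cancel₀ hxg]
    have hxx : B x x = 0 := by rw [polar_diag, h2, zero_mul]
    have hε : Q x * Q f ∉ L := fun h => by
      obtain ⟨r, hr⟩ := hLm.1 h
      have h0 := hiso a ((r / Q x) • x + (1 : F) • f) ((D a).add_mem ((D a).smul_mem _ hx) ((D a).smul_mem _ hfD)) (by
        rw [quad_add_smul', QuadraticMap.map_smul, QuadraticMap.polar_smul_left, hxf, smul_eq_mul, smul_eq_mul]
        field_simp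
        linear_combination hr + Q x * Q f * h2)
      have := congrArg (B x) h0
      rw [QuadraticMap.polar_add_right, QuadraticMap.polar_smul_right, QuadraticMap.polar_smul_right, hxx, hxf,
        QuadraticMap.polar_zero_right, smul_zero, zero_add, one_smul] at this
      exact one_ne_zero this
    obtain ⟨r, hr⟩ := hLm.1 (hcoset e _ he hε)
    obtain ⟨l, hl⟩ := sq_two h2 (Q x / e)
    have hl0 : l ≠ 0 := fun h => div_ne_zero hα he0 (by rw [hl, h, mul_zero])
    obtain ⟨y, hy⟩ : ∃ y, y = (l * r / Q x) • x + l • f := ⟨_, rfl⟩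
    have hyD : y ∈ D a := hy ▸ (D a).add_mem ((D a).smul_mem _ hx) ((D a).smul_mem _ hfD)
    have hle : l * l * e = Q x := by rw [← hl, div_mul_cancel₀ _ he0]
    have hQy : Q y = 1 := by
      rw [hy, quad_add_smul', QuadraticMap.map_smul, QuadraticMap.polar_smul_left, hxf, smul_eq_mul, smul_eq_mul]
      field_simp
      linear_combination (l * l) * hr + hle + Q x * Q f * l * l * h2
    have hxy : B x y = l := by
      rw [hy, QuadraticMap.polar_add_right, QuadraticMap.polar_smul_right, QuadraticMap.polar_smul_right, hxx, hxf,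
        smul_zero, zero_add, smul_eq_mul, mul_one]
    have h := hC.step_two h2 hab hx hz hz0 hm hyD hQy (hxy ▸ hl0)
    have hQz : Q z = 1 + Q x := by
      have h' := hm.1
      rw [QuadraticMap.map_add (f := Q), hC.orth a b hab x hx z hz, add_zero] at h'
      linear_combination h' - Q x * h2
    rwa [hxy, hQz, ← hl, div_mul_eq_mul_div] at h
  have hα : Q x ≠ 0 := fun h => hx0 (hiso a x hx h)
  have hQz : Q z ≠ 0 := fun h => hz0 (hiso b z hz h)
  obtain ⟨π, hπ⟩ : ∃ π, π = Q x * (1 + Q x) := ⟨_, rfl⟩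
  have hsum : Q x + Q z = 1 := by
    have h' := hm.1
    rwa [QuadraticMap.map_add (f := Q), hC.orth a b hab x hx z hz, add_zero] at h'
  have hπ0 : π ≠ 0 := hπ ▸ mul_ne_zero hα fun e => hQz (by linear_combination hsum - e + h2)
  have hπL : π ∈ L := hLm.2 ⟨Q x, by rw [hπ]; ring⟩
  intro α hα0 hα1
  obtain ⟨x', hx'⟩ : ∃ x', x' = 1 + α := ⟨_, rfl⟩
  have hx'0 : x' ≠ 0 := fun e => hα1 (by linear_combination -hx' + e - h2)
  have hx'1 : x' ≠ 1 := fun e => hα0 (by linear_combination -hx' + e)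
  -- a middle level
  obtain ⟨e, he, heL⟩ : ∃ e, e ∉ L ∧ (1 + π / e) * (1 + (1 + π / e)) / x' ∉ L := by
    by_contra hc
    push Not at hc
    obtain ⟨t₀, ht₀, ht₀'⟩ : ∃ t₀ ∈ L, t₀ / x' ∉ L := by
      by_contra hcc
      push Not at hcc
      have := card_mul_le hL0 hLsub (C := {1, x'⁻¹}) (by simp [Ne.symm, hx'0]) (fun c hc u hu => by
        simp only [Finset.mem_insert, Finset.mem_singleton] at hc
        rcases hc with rfl | rfl
        · rwa [one_mul]
        · rw [mul_comm, ← div_eq_mul_inv]; exact hcc u hu) hLne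
      rw [Finset.card_pair (fun h => hx'1 (inv_eq_one.1 h.symm))] at this
      omega
    let I : Finset F := L.filter fun v => v / x' ∈ L
    have hI : 2 * I.card ≤ L.card := by
      have hsub : I ∪ I.image (· + t₀) ⊆ L := Finset.union_subset (Finset.filter_subset _ _) fun v hv => by
        obtain ⟨w, hw, rfl⟩ := Finset.mem_image.1 hv
        have := hLsub _ (Finset.mem_filter.1 hw).1 _ (hLsub _ hL0 _ ht₀)
        simpa using this
      have hd : Disjoint I (I.image (· + t₀)) := Finset.disjoint_right.2 fun v hv hvI => by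
        obtain ⟨w, hw, rfl⟩ := Finset.mem_image.1 hv
        refine ht₀' ?_
        have := hLsub _ (Finset.mem_filter.1 hvI).2 _ (Finset.mem_filter.1 hw).2
        rwa [← sub_div, add_sub_cancel_left] at this
      have := Finset.card_le_card hsub
      rw [Finset.card_union_of_disjoint hd, Finset.card_image_of_injective _ (add_left_injective t₀)] at this
      omega
    let E : Finset F := Finset.univ.filter fun e => e ∉ L
    have hE : E.card + L.card = Fintype.card F := by
      have h := Finset.card_filter_add_card_filter_not (s := (Finset.univ : Finset F)) (fun e => e ∈ L)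
      rw [Finset.filter_univ_mem, Finset.card_univ] at h
      simp only [E]
      omega
    have hmap : E.image (fun e => (1 + π / e) * (1 + (1 + π / e))) ⊆ I.erase 0 := fun v hv => by
      obtain ⟨e, he, rfl⟩ := Finset.mem_image.1 hv
      have he' := (Finset.mem_filter.1 he).2
      have he0 : e ≠ 0 := fun h => he' (h ▸ hL0)
      refine Finset.mem_erase.2 ⟨mul_ne_zero (fun h => he' ?_) (fun h => ?_),
        Finset.mem_filter.2 ⟨hLm.2 ⟨1 + π / e, by ring⟩, hc e he'⟩⟩
      · have : e = π := by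
          field_simp at h
          linear_combination h - π * h2
        rwa [this]
      · exact div_ne_zero hπ0 he0 (by linear_combination h - h2)
    have hfibE := Finset.card_le_mul_card_image (f := fun e => (1 + π / e) * (1 + (1 + π / e))) E 2 fun c _ => by
      refine le_trans ?_ (hfib c)
      refine Finset.card_le_card_of_injOn (fun e => 1 + π / e) (fun e he => ?_) fun e he e' he' heq => ?_
      · rw [Finset.mem_coe, Finset.mem_filter] at he ⊢
        exact ⟨Finset.mem_univ _, by rw [← he.2]; ring⟩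
      · rw [Finset.mem_coe, Finset.mem_filter] at he he'
        have e1 : π / e = π / e' := add_left_cancel heq
        have n1 : e ≠ 0 := fun h => (Finset.mem_filter.1 he.1).2 (h ▸ hL0)
        have n2 : e' ≠ 0 := fun h => (Finset.mem_filter.1 he'.1).2 (h ▸ hL0)
        field_simp at e1
        exact e1.symm
    have h1 := Finset.card_le_card hmap
    have h0I : (0 : F) ∈ I := Finset.mem_filter.2 ⟨hL0, by rw [zero_div]; exact hL0⟩
    rw [Finset.card_erase_of_mem h0I] at h1
    omega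
  have h1 := next' hx hz hx0 hz0 hm e he
  rw [← hπ] at h1
  obtain ⟨α₁, hα₁⟩ : ∃ α₁, α₁ = 1 + π / e := ⟨_, rfl⟩
  rw [← hα₁] at h1 heL
  have he0 : e ≠ 0 := fun h => he (h ▸ hL0)
  have hα₁0 : α₁ ≠ 0 := fun h => he (by
    rw [h] at hα₁
    have : e = π := by field_simp at hα₁; linear_combination -hα₁ - π * h2
    rwa [this])
  have hα₁1 : 1 - α₁ ≠ 0 := fun h => div_ne_zero hπ0 he0 (by linear_combination -h - hα₁)
  obtain ⟨x₁, hx₁, z₁, hz₁, hx₁0, hz₁0, e₁, -, hm₁⟩ := hC.lev_mem h1 (hC.exists_ne hα₁0) (hC.exists_ne hα₁1)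
  have h2' := next' hx₁ hz₁ hx₁0 hz₁0 hm₁ (α₁ * (1 + α₁) / x') heL
  rw [e₁] at h2'
  have hne : α₁ * (1 + α₁) ≠ 0 := mul_ne_zero hα₁0 fun h => hα₁1 (by linear_combination h - α₁ * h2)
  rwa [div_div_cancel₀ hne, hx', ← add_assoc, one_add_one_eq_two, h2, zero_add] at h2'

/-- Isometric summands have singular vectors together. -/
theorem iso_all (h : ∀ z ∈ D (⟨0, by have := hC.tge; omega⟩ : Fin t), Q z = 0 → z = 0) :
    ∀ c, ∀ z ∈ D c, Q z = 0 → z = 0 := by
  intro c z hz hQz
  obtain ⟨L, hL⟩ := hC.isom c ⟨0, by have := hC.tge; omega⟩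
  by_contra hz0
  obtain ⟨w, hw, hzw⟩ := hC.nd c z hz hz0
  refine hzw ?_
  have h0 : L z = 0 := h _ (hL z hz).1 ((hL z hz).2.trans hQz)
  have e := (hL _ ((D c).add_mem hz hw)).2
  rw [map_add, h0, zero_add, (hL w hw).2] at e
  rw [QuadraticMap.polar, ← e, hQz]
  ring

/-- All levels but one from a member, in characteristic two. -/
theorem side_two (h2 : (2 : F) = 0) (hne : ¬ (k = 2 ∧ Fintype.card F = 2)) {a b : Fin t} (hab : a ≠ b) {x z : V}
    (hx : x ∈ D a) (hz : z ∈ D b) (hx0 : x ≠ 0) (hz0 : z ≠ 0) (hm : Mem Q M D (x + z)) (hQz : Q z ≠ 0) :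
    ∀ α, α ≠ 1 → Lev Q M D a b α := by
  by_cases hk : k = 2
  swap
  · obtain ⟨-, hk4⟩ := hC.char_two_of_four hk
    intro α hα
    obtain ⟨l, hl⟩ := sq_two h2 ((1 - α) / Q z)
    have hl0 : l ≠ 0 := fun e => div_ne_zero (sub_ne_zero.2 (Ne.symm hα)) hQz (by rw [hl, e, mul_zero])
    obtain ⟨y, hy, hQy, hxy⟩ := hC.hyper hk4 h2 hx hx0 1 l hl0
    have h := hC.step_two h2 hab hx hz hz0 hm hy hQy (hxy ▸ hl0)
    rwa [hxy, ← hl, div_mul_cancel₀ _ hQz, show 1 + (1 - α) = α by linear_combination (1 - α) * h2] at h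
  have h4 : 4 ≤ Fintype.card F := by
    have := Fintype.one_lt_card (α := F)
    have := hC.card_three hk
    have := fun h => hne ⟨hk, h⟩
    omega
  have hQx0 : Q x + Q z = 1 := by
    have h' := hm.1
    rwa [QuadraticMap.map_add (f := Q), hC.orth a b hab x hx z hz, add_zero] at h'
  by_cases hQx : Q x = 0
  · refine hC.all_of_zero h2 hab (Or.inl h4) hx hx0 hQx ?_
    rw [← hQx]
    exact hC.lev_of hab hx hz hx0 hz0 hm
  by_cases hiso : ∀ c, ∀ w ∈ D c, Q w = 0 → w = 0
  · intro α hα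
    by_cases hα0 : α = 0
    · intro x' hx' z' _ hx'0 _ e _
      exact absurd (hiso a x' hx' (e.trans hα0)) hx'0
    · exact hC.minus_two h2 hk h4 hab hiso hx hz hx0 hz0 hm α hα0 hα
  obtain ⟨s, hs, hs0, hQs⟩ : ∃ s ∈ D a, s ≠ 0 ∧ Q s = 0 := by
    push Not at hiso
    obtain ⟨c, w, hw, hQw, hw0⟩ := hiso
    by_contra hc
    push Not at hc
    obtain ⟨L, hL⟩ := hC.isom c a
    obtain ⟨v, hv, hwv⟩ := hC.nd c w hw hw0
    have h0 : L w = 0 := by_contra fun h => hc _ (hL w hw).1 h ((hL w hw).2.trans hQw)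
    have e := (hL _ ((D c).add_mem hw hv)).2
    rw [map_add, h0, zero_add, (hL v hv).2] at e
    exact hwv (by rw [QuadraticMap.polar, ← e, hQw]; ring)
  obtain ⟨g, hg, hxg⟩ := hC.nd a x hx hx0
  obtain ⟨f, hf⟩ : ∃ f, f = (B x g)⁻¹ • g := ⟨_, rfl⟩
  have hfD : f ∈ D a := hf ▸ (D a).smul_mem _ hg
  have hxf : B x f = 1 := by rw [hf, QuadraticMap.polar_smul_right, smul_eq_mul, inv_mul_cancel₀ hxg]
  have hxx : B x x = 0 := by rw [polar_diag, h2, zero_mul]
  have hspan : Submodule.span F {x, f} = D a := by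
    refine Submodule.eq_of_le_of_finrank_le (Submodule.span_le.2 ?_) ?_
    · rintro w (rfl | rfl) <;> assumption
    · have := finrank_span_eq_card (ind_pair hC (y := f) hx0 fun c hc => one_ne_zero (α := F) (by
        rw [← hxf, hc, QuadraticMap.polar_smul_right, hxx, smul_zero]))
      rw [Matrix.range_cons_cons_empty, Fintype.card_fin] at this
      rw [this, hC.dim, hk]
  obtain ⟨c₁, c₂, hc⟩ := Submodule.mem_span_pair.1 (hspan.symm ▸ hs : s ∈ Submodule.span F {x, f})
  rw [← hc, quad_add_smul', QuadraticMap.map_smul, QuadraticMap.polar_smul_left, hxf, smul_eq_mul, smul_eq_mul] at hQs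
  have hc2 : c₂ ≠ 0 := fun e => by
    rw [e] at hQs hc
    have : c₁ * c₁ * Q x = 0 := by linear_combination hQs
    rcases mul_eq_zero.1 this with h | h
    · exact hs0 (by rw [← hc, mul_self_eq_zero.1 h]; simp)
    · exact hQx h
  obtain ⟨l, hl⟩ := sq_two h2 ((Q z)⁻¹)
  have hl0 : l ≠ 0 := fun e => inv_ne_zero hQz (by rw [hl, e, mul_zero])
  obtain ⟨y, hy⟩ : ∃ y, y = (l * (1 + c₁ / c₂)) • x + l • f := ⟨_, rfl⟩
  have hyD : y ∈ D a := hy ▸ (D a).add_mem ((D a).smul_mem _ hx) ((D a).smul_mem _ hfD)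
  have hQy : Q y = 1 := by
    rw [hy, quad_add_smul', QuadraticMap.map_smul, QuadraticMap.polar_smul_left, hxf, smul_eq_mul, smul_eq_mul]
    have e1 : l * l * Q z = 1 := by rw [← hl, inv_mul_cancel₀ hQz]
    field_simp
    linear_combination (l * l) * hQs + c₂ * c₂ * e1 + c₂ * c₂ * l * l * hQx0 - l * l * c₂ * c₂ * Q z * h2 +
      l * l * c₁ * c₂ * Q x * h2 + l * l * c₂ * c₂ * h2
  have hxy : B x y = l := by
    rw [hy, QuadraticMap.polar_add_right, QuadraticMap.polar_smul_right, QuadraticMap.polar_smul_right, hxx, hxf,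
      smul_zero, zero_add, smul_eq_mul, mul_one]
  have h := hC.step_two h2 hab hx hz hz0 hm hyD hQy (hxy ▸ hl0)
  rw [hxy, ← hl, inv_mul_cancel₀ hQz, one_add_one_eq_two, h2] at h
  exact hC.all_of_zero h2 hab (Or.inl h4) hs (by exact hs0) (by
    rw [← hc, quad_add_smul', QuadraticMap.map_smul, QuadraticMap.polar_smul_left, hxf, smul_eq_mul, smul_eq_mul]
    exact hQs) h

/-- Over two elements the level zero gives the level one. -/
theorem flip_zero (h2 : (2 : F) = 0) (hk : 4 ≤ k) (hq : Fintype.card F = 2) {a b : Fin t} (hab : a ≠ b)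
    (h : Lev Q M D a b 0) : Lev Q M D a b 1 := by
  obtain ⟨z, hz, hz0, hQz⟩ := hC.exists_ne (a := b) (one_ne_zero (α := F))
  obtain ⟨x₀, hx₀, hx₀0, -⟩ := hC.exists_ne (a := a) (one_ne_zero (α := F))
  obtain ⟨x, hx, hQx, hxB⟩ := hC.hyper hk h2 hx₀ hx₀0 0 1 one_ne_zero
  have hx0 : x ≠ 0 := fun e => zero_ne_one (α := F) (by rw [← hxB, e, QuadraticMap.polar_zero_right])
  obtain ⟨x', hx', hQx', hxx'⟩ := hC.hyper hk h2 hx hx0 0 1 one_ne_zero
  have hx0' : x' ≠ 0 := fun e => zero_ne_one (α := F) (by rw [← hxx', e, QuadraticMap.polar_zero_right])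
  obtain ⟨z₂, hz₂, hQz₂, hzz₂⟩ := hC.hyper hk h2 hz hz0 1 1 one_ne_zero
  obtain ⟨n, hn, hn0, hQn, hzn, -⟩ := hC.sing_perp_two hk h2 hq hz hz₂ hzz₂ hQz hQz₂
  have hQzn : Q (z + n) = 1 := by rw [QuadraticMap.map_add (f := Q), hQz, hQn, hzn, add_zero, add_zero]
  have hzn0 : z + n ≠ 0 := fun e => zero_ne_one (α := F) (by rw [← hQzn, e, QuadraticMap.map_zero])
  have m1 := h x hx z hz hx0 hz0 hQx (by rw [hQz, sub_zero])
  have m2 := h x' hx' (z + n) ((D b).add_mem hz hn) hx0' hzn0 hQx' (by rw [hQzn, sub_zero])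
  have hm := hC.mem_sub m1 m2 (by
    rw [QuadraticMap.polar_add_left, QuadraticMap.polar_add_right, QuadraticMap.polar_add_right,
      QuadraticMap.polar_comm _ x' x, hxx', hC.orth a b hab x' hx' z hz,
      hC.orth b a (Ne.symm hab) _ ((D b).add_mem hz hn) x hx, QuadraticMap.polar_comm _ (z + n) z,
      QuadraticMap.polar_add_right, hzn, polar_diag, h2, zero_mul]
    ring)
  rw [show x + z - (x' + (z + n)) = (x - x') + (-n) by abel] at hm
  have hxd : Q (x - x') = 1 := by
    rw [sub_eq_add_neg, QuadraticMap.map_add (f := Q), QuadraticMap.map_neg, hQx, hQx', QuadraticMap.polar_neg_right,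
      hxx']
    linear_combination -h2
  rw [← hxd]
  exact hC.lev_of hab ((D a).sub_mem hx hx') ((D b).neg_mem hn)
    (fun e => zero_ne_one (α := F) (by rw [← hxd, e, QuadraticMap.map_zero])) (neg_ne_zero.2 hn0) hm

/-- All levels, in characteristic two. -/
theorem lev_two (h2 : (2 : F) = 0) (hne : ¬ (k = 2 ∧ Fintype.card F = 2)) {a b : Fin t} (hab : a ≠ b) {x z : V}
    (hx : x ∈ D a) (hz : z ∈ D b) (hx0 : x ≠ 0) (hz0 : z ≠ 0) (hm : Mem Q M D (x + z)) : ∀ α, Lev Q M D a b α := by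
  have hsum : Q x + Q z = 1 := by
    have h' := hm.1
    rwa [QuadraticMap.map_add (f := Q), hC.orth a b hab x hx z hz, add_zero] at h'
  by_cases hq : ∃ δ : F, δ ≠ 0 ∧ δ ≠ 1
  · obtain ⟨δ, hδ0, hδ1⟩ := hq
    have hmid : Lev Q M D a b δ := by
      by_cases hQz : Q z = 0
      · have h := hC.side_two h2 hne (Ne.symm hab) hz hx hz0 hx0 (by rwa [add_comm])
          (fun e => one_ne_zero (α := F) (by linear_combination -hsum + e + hQz))
        have := hC.lev_symm (h (1 - δ) (fun e => hδ0 (by linear_combination -e)))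
        rwa [sub_sub_cancel] at this
      · exact hC.side_two h2 hne hab hx hz hx0 hz0 hm hQz δ hδ1
    obtain ⟨x', hx', z', hz', hx0', hz0', eX, eZ, hm'⟩ :=
      hC.lev_mem hmid (hC.exists_ne hδ0) (hC.exists_ne (sub_ne_zero.2 (Ne.symm hδ1)))
    intro α
    by_cases hα : α = 1
    · have := hC.lev_symm (hC.side_two h2 hne (Ne.symm hab) hz' hx' hz0' hx0' (by rwa [add_comm]) (eX ▸ hδ0) 0 zero_ne_one)
      rwa [sub_zero, ← hα] at this
    · exact hC.side_two h2 hne hab hx' hz' hx0' hz0' hm' (eZ ▸ sub_ne_zero.2 (Ne.symm hδ1)) α hα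
  push Not at hq
  have hq2 : Fintype.card F = 2 := by
    classical
    have : (Finset.univ : Finset F) = {0, 1} := by
      ext c; simp only [Finset.mem_univ, Finset.mem_insert, Finset.mem_singleton, true_iff]
      exact (em (c = 0)).imp_right (hq c)
    rw [← Finset.card_univ, this, Finset.card_pair zero_ne_one]
  have hk4 : 4 ≤ k := (hC.char_two_of_four fun h => hne ⟨h, hq2⟩).2
  have h01 : Lev Q M D a b 0 ∧ Lev Q M D a b 1 := by
    have h := hC.lev_of hab hx hz hx0 hz0 hm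
    by_cases hQx : Q x = 0
    · rw [hQx] at h
      exact ⟨h, hC.flip_zero h2 hk4 hq2 hab h⟩
    · rw [hq _ hQx] at h
      have h' := hC.lev_symm h
      rw [sub_self] at h'
      have := hC.lev_symm (hC.flip_zero h2 hk4 hq2 (Ne.symm hab) h')
      rw [sub_self] at this
      exact ⟨this, h⟩
  intro α
  rcases em (α = 0) with e | e
  · exact e ▸ h01.1
  · exact (hq α e) ▸ h01.2

/-- A plane and a further axis, in odd characteristic. -/
theorem axis_full [DecidableEq F] (hk : k = 2) (h2 : (2 : F) ≠ 0) {a b : Fin t} (hab : a ≠ b) {x z : V}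
    (hx : x ∈ D a) (hz : z ∈ D b) (hx0 : x ≠ 0) (hQz : Q z ≠ 0) (hm : Mem Q M D (x + z)) :
    ∀ y ∈ D a, ∀ c : F, Q (y + c • z) = 1 → Mem Q M D (y + c • z) := by
  have hz0 : z ≠ 0 := fun e => hQz (by rw [e, QuadraticMap.map_zero])
  let W : Submodule F V := D a ⊔ Submodule.span F {z}
  have hzW : z ∈ W := Submodule.mem_sup_right (Submodule.mem_span_singleton_self z)
  have haW : D a ≤ W := le_sup_left
  have hsplit : ∀ w ∈ W, ∃ y ∈ D a, ∃ c : F, w = y + c • z := fun w hw => by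
    obtain ⟨y, hy, u, hu, rfl⟩ := Submodule.mem_sup.1 hw
    obtain ⟨c, rfl⟩ := Submodule.mem_span_singleton.1 hu
    exact ⟨y, hy, c, rfl⟩
  have hWdim : finrank F W = 3 := by
    have h1 := Submodule.finrank_sup_add_finrank_inf_eq (D a) (Submodule.span F {z})
    have h2' : D a ⊓ Submodule.span F {z} = ⊥ := by
      rw [Submodule.eq_bot_iff]
      rintro w ⟨hw1, hw2⟩
      obtain ⟨c, rfl⟩ := Submodule.mem_span_singleton.1 hw2
      rw [← hC.proj.self a _ hw1, map_smul, hC.proj.other a b hab z hz, smul_zero]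
    rw [h2', finrank_bot, add_zero, finrank_span_singleton hz0, hC.dim, hk] at h1
    exact h1
  let QW : QuadraticForm F W := Q.comp W.subtype
  have hB : ∀ u v : W, QuadraticMap.polar ⇑QW u v = B (u : V) (v : V) := fun u v => rfl
  have hrf : ∀ u v : W, ((rf QW u v : W) : V) = rf Q (u : V) (v : V) := fun u v => by
    rw [rf_apply, rf_apply, hB, Submodule.coe_sub, Submodule.coe_smul]
    rfl
  have hA : Axis QW ((D a).comap W.subtype) (⟨z, hzW⟩ : W) (fun w : W => Mem Q M D (w : V)) :=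
    { two := h2
      dim := hWdim
      dimD := by rw [(Submodule.comapSubtypeEquivOfLe haW).finrank_eq, hC.dim, hk]
      nd := fun w hw hw0 => by
        obtain ⟨v, hv, hwv⟩ := hC.nd a (w : V) hw fun e => hw0 (Subtype.ext e)
        exact ⟨⟨v, haW hv⟩, hv, by rw [hB]; exact hwv⟩
      perp := fun v hv => by rw [hB]; exact hC.orth b a (Ne.symm hab) z hz _ hv
      aniso := hQz
      neg := fun w hw => by rw [Submodule.coe_neg]; exact hC.mem_neg hw
      cls := fun u v _ hu hv => by rw [hrf]; exact hC.mem_rf hu hv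
      blk := fun v hv hv0 w hw => by
        rw [hrf]
        obtain ⟨y, hy, c, e⟩ := hsplit w w.2
        rw [e] at hw ⊢
        exact hC.blk_two (Or.inl rfl) hy ((D b).smul_mem c hz) hw hv hv0 }
  have hodd := FiniteField.odd_card_of_char_ne_two (not_char_two h2)
  have h5 : 5 ≤ Fintype.card F := by
    have := hC.card_three hk
    have := Fintype.one_lt_card (α := F)
    omega
  have hq : 7 ≤ Fintype.card F ∨ ∀ w ∈ (D a).comap W.subtype, QW w = 0 → w = 0 := by
    by_cases hiso : ∀ w ∈ D a, Q w = 0 → w = 0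
    · exact Or.inr fun w hw hQw => Subtype.ext (hiso _ hw hQw)
    · push Not at hiso
      obtain ⟨w, hw, hQw, hw0⟩ := hiso
      exact Or.inl (hC.plus hk a w hw hQw hw0)
  intro y hy c hQy
  have e1 : x + (1 : F) • z = x + z := by rw [one_smul]
  exact space_full hA h5 hq (x := ⟨x, haW hx⟩) (s := 1) hx (fun e => hx0 (congrArg Subtype.val e)) one_ne_zero
    (show Mem Q M D (x + (1 : F) • z) by rw [e1]; exact hm) (show Q (x + (1 : F) • z) = 1 by rw [e1]; exact hm.1)
    ⟨y + c • z, W.add_mem (haW hy) (W.smul_mem c hzW)⟩ hQy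

/-- Levels sharing the class of the second value. -/
theorem lev_class [DecidableEq F] (hk : k = 2) (h2 : (2 : F) ≠ 0) {a b : Fin t} (hab : a ≠ b) {α α' : F}
    (hβ : α ≠ 1) (hα : ∃ x ∈ D a, x ≠ 0 ∧ Q x = α) (h : Lev Q M D a b α) (hsq : IsSquare ((1 - α) * (1 - α')))
    (hα'1 : α' ≠ 1) : Lev Q M D a b α' := by
  obtain ⟨x, hx, z, hz, hx0, hz0, ex, ez, hm⟩ := hC.lev_mem h hα (hC.exists_ne (sub_ne_zero.2 (Ne.symm hβ)))
  obtain ⟨r, hr⟩ := hsq
  have hβ0 : 1 - α ≠ 0 := sub_ne_zero.2 (Ne.symm hβ)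
  have hr0 : r ≠ 0 := fun e => mul_ne_zero hβ0 (sub_ne_zero.2 (Ne.symm hα'1)) (by rw [hr, e, mul_zero])
  intro x' hx' z' hz' hx0' hz0' ex' ez'
  have hQz : Q ((r / (1 - α)) • z) = 1 - α' := by
    rw [QuadraticMap.map_smul, smul_eq_mul, ez]
    field_simp
    linear_combination -hr
  have hm' := hC.axis_full hk h2 hab hx hz hx0 (ez ▸ hβ0) hm x' hx' (r / (1 - α)) (by
    rw [QuadraticMap.map_add (f := Q), ex', hQz, hC.orth a b hab x' hx' _ ((D b).smul_mem _ hz), add_zero,
      add_sub_cancel])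
  have := hC.lev_of hab hx' ((D b).smul_mem _ hz) hx0' (smul_ne_zero (div_ne_zero hr0 hβ0) hz0) hm'
  rw [ex'] at this
  exact this x' hx' z' hz' hx0' hz0' ex' ez'

/-- All levels, in odd characteristic. -/
theorem lev_odd (hk : k = 2) (h2 : (2 : F) ≠ 0) {a b : Fin t} (hab : a ≠ b) {x z : V} (hx : x ∈ D a) (hz : z ∈ D b)
    (hx0 : x ≠ 0) (hz0 : z ≠ 0) (hm : Mem Q M D (x + z)) : ∀ α, Lev Q M D a b α := by
  classical
  have hodd := FiniteField.odd_card_of_char_ne_two (not_char_two h2)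
  have h3 := hC.card_three hk
  have h1c := Fintype.one_lt_card (α := F)
  have hsq : ∀ {u v : F}, u ≠ 0 → v ≠ 0 → quadraticChar F u = quadraticChar F v → IsSquare (u * v) :=
    fun {u v} hu hv e => (chi_one_iff (mul_ne_zero hu hv)).1 (by rw [map_mul, e, chi_mul_self hv])
  have C : ∀ {α α' : F}, α ≠ 0 → α ≠ 1 → α' ≠ 1 → Lev Q M D a b α →
      quadraticChar F (1 - α) = quadraticChar F (1 - α') → Lev Q M D a b α' := fun {α α'} h0 h1 h1' h e =>
    hC.lev_class hk h2 hab h1 (hC.exists_ne h0) h (hsq (sub_ne_zero.2 (Ne.symm h1)) (sub_ne_zero.2 (Ne.symm h1')) e) h1'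
  have R : ∀ {α α' : F}, α ≠ 0 → α ≠ 1 → α' ≠ 0 → Lev Q M D a b α →
      quadraticChar F α = quadraticChar F α' → Lev Q M D a b α' := fun {α α'} h0 h1 h0' h e => by
    have := hC.lev_symm (hC.lev_class hk h2 (Ne.symm hab) (α := 1 - α) (α' := 1 - α') (by simpa using h0)
      (hC.exists_ne (sub_ne_zero.2 (Ne.symm h1))) (hC.lev_symm h)
      (by rw [sub_sub_cancel, sub_sub_cancel]; exact hsq h0 h0' e) (by simpa using h0'))
    rwa [sub_sub_cancel] at this
  have ex : ∀ r k : ℤ, (r = 1 ∨ r = -1) → (k = 1 ∨ k = -1) → ¬ (r = 1 ∧ k = 1) →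
      ∃ α : F, α ∈ cls r k := fun r k hr hk' hrk => by
    rcases (show Fintype.card F = 5 ∨ 7 ≤ Fintype.card F by omega) with h | h
    · exact cls_nonempty_five h2 hr hk' h hrk
    · exact cls_nonempty h2 hr hk' h
  obtain ⟨α₁, hα₁0, hα₁1, hα₁⟩ : ∃ α : F, α ≠ 0 ∧ α ≠ 1 ∧ Lev Q M D a b α := by
    have h := hC.lev_of hab hx hz hx0 hz0 hm
    have hsum : Q x + Q z = 1 := by
      have h' := hm.1
      rwa [QuadraticMap.map_add (f := Q), hC.orth a b hab x hx z hz, add_zero] at h'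
    by_cases h0 : Q x = 0
    · obtain ⟨α, hα⟩ := ex (-1) 1 (Or.inr rfl) (Or.inl rfl) (by norm_num)
      obtain ⟨a0, a1, -, ac⟩ := mem_cls.1 hα
      rw [h0] at h
      exact ⟨α, a0, a1, hC.lev_class hk h2 hab zero_ne_one ⟨x, hx, hx0, h0⟩ h
        (by rw [sub_zero, one_mul]; exact (chi_one_iff (sub_ne_zero.2 (Ne.symm a1))).1 ac) a1⟩
    by_cases h1 : Q x = 1
    · obtain ⟨α, hα⟩ := ex 1 (-1) (Or.inl rfl) (Or.inr rfl) (by norm_num)
      obtain ⟨a0, a1, ac, -⟩ := mem_cls.1 hα
      rw [h1] at h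
      have h' := hC.lev_symm h
      rw [sub_self] at h'
      have hz' : Q z = 0 := by linear_combination hsum - h1
      have := hC.lev_symm (hC.lev_class hk h2 (Ne.symm hab) zero_ne_one ⟨z, hz, hz0, hz'⟩ h' (α' := 1 - α)
        (by rw [sub_zero, one_mul, sub_sub_cancel]; exact (chi_one_iff a0).1 ac) (by simpa using a0))
      rw [sub_sub_cancel] at this
      exact ⟨α, a0, a1, this⟩
    · exact ⟨Q x, h0, h1, h⟩
  obtain ⟨pm, hpm⟩ := ex 1 (-1) (Or.inl rfl) (Or.inr rfl) (by norm_num)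
  obtain ⟨mp, hmp⟩ := ex (-1) 1 (Or.inr rfl) (Or.inl rfl) (by norm_num)
  obtain ⟨mm, hmm⟩ := ex (-1) (-1) (Or.inr rfl) (Or.inr rfl) (by norm_num)
  obtain ⟨p0, p1, pr, pk⟩ := mem_cls.1 hpm
  obtain ⟨m0, m1, mr, mk⟩ := mem_cls.1 hmp
  obtain ⟨n0, n1, nr, nk⟩ := mem_cls.1 hmm
  have both : Lev Q M D a b pm ∧ Lev Q M D a b mp := by
    rcases chi_cases hα₁0 with e | e
    · have hp := R hα₁0 hα₁1 p0 hα₁ (e.trans pr.symm)
      exact ⟨hp, R n0 n1 m0 (C p0 p1 n1 hp (pk.trans nk.symm)) (nr.trans mr.symm)⟩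
    · have hn := R hα₁0 hα₁1 n0 hα₁ (e.trans nr.symm)
      exact ⟨C n0 n1 p1 hn (nk.trans pk.symm), R n0 n1 m0 hn (nr.trans mr.symm)⟩
  intro α
  by_cases hα1 : α = 1
  · exact R p0 p1 (hα1 ▸ one_ne_zero) both.1 (by rw [pr, hα1, map_one])
  rcases chi_cases (sub_ne_zero.2 (Ne.symm hα1)) with e | e
  · exact C m0 m1 hα1 both.2 (mk.trans e.symm)
  · exact C p0 p1 hα1 both.1 (pk.trans e.symm)

/-- A member on two summands gives every unit vector on them. -/
theorem pair_full (hne : ¬ (k = 2 ∧ Fintype.card F = 2)) {a b : Fin t} (hab : a ≠ b) {u : V} (hu : Mem Q M D u)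
    (ha : p a u ≠ 0) (hb : p b u ≠ 0) (hs : ∀ i, i ≠ a → i ≠ b → p i u = 0) :
    ∀ y, Q y = 1 → (∀ i, i ≠ a → i ≠ b → p i y = 0) → Mem Q M D y := by
  have hm : Mem Q M D (p a u + p b u) := by rwa [← hC.eq_add_of_supp hab hs]
  have hall : ∀ α, Lev Q M D a b α := by
    by_cases h2 : (2 : F) = 0
    · exact hC.lev_two h2 hne hab (hC.proj.mem a u) (hC.proj.mem b u) ha hb hm
    · rcases hC.shape with ⟨hk, -⟩ | ⟨-, h⟩
      · exact hC.lev_odd hk h2 hab (hC.proj.mem a u) (hC.proj.mem b u) ha hb hm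
      · exact absurd h h2
  intro y hy hys
  have e := hC.eq_add_of_supp hab hys
  rw [e] at hy ⊢
  by_cases hya : p a y = 0
  · rw [hya, zero_add] at hy ⊢
    exact hC.mem_block (hC.proj.mem b y) hy
  by_cases hyb : p b y = 0
  · rw [hyb, add_zero] at hy ⊢
    exact hC.mem_block (hC.proj.mem a y) hy
  refine hall _ _ (hC.proj.mem a y) _ (hC.proj.mem b y) hya hyb rfl ?_
  rw [QuadraticMap.map_add (f := Q), hC.orth a b hab _ (hC.proj.mem a y) _ (hC.proj.mem b y), add_zero] at hy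
  linear_combination hy

end Ctx

end Cfsg.Agent.Classical.OrthRef
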