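import Cfsg.Agent.Lib.Classical.MaxOrthRefMove

/-!
From a spread member with a witness to a member supported on two summands.
-/

set_option autoImplicit false
set_option linter.unusedSectionVars false
set_option quotPrecheck false

namespace Cfsg.Agent.Classical.OrthRef

open Matrix Module
open MaxTv (IsProj gl_mulVec_injective inv_mulVec_cancel mulVec_inv_cancel)

variable {F : Type*} [Field F] [Fintype F] {ι : Type} [Fintype ι] [DecidableEq ι] {Q : QuadraticForm F (ι → F)}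

local notation "V" => (ι → F)
local notation "Mn" => Matrix ι ι F
local notation "B" => QuadraticMap.polar ⇑Q

/-- Two components. -/
def Two {t : ℕ} (p : Fin t → ((ι → F) →ₗ[F] (ι → F))) (u : ι → F) : Prop :=
  ∃ a b, a ≠ b ∧ p a u ≠ 0 ∧ p b u ≠ 0 ∧ ∀ i, i ≠ a → i ≠ b → p i u = 0

/-- Every value class has a perpendicular vector in the summand. -/
def Wit (Q : QuadraticForm F (ι → F)) {t : ℕ} (D : Fin t → Submodule F (ι → F)) (e : Fin t) (u : ι → F) : Prop :=
  ∀ r : F, r ≠ 0 → IsSquare r ∨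
    ∃ w ∈ D e, QuadraticMap.polar ⇑Q w u = 0 ∧ Q w ≠ 0 ∧ IsSquare (r * Q w)

namespace Ctx

variable {M : Subgroup (GL ι F)} {t k : ℕ} {D : Fin t → Submodule F (ι → F)}
  {p : Fin t → ((ι → F) →ₗ[F] (ι → F))} (hC : Ctx Q M D p k)
include hC

omit hC in
theorem sq_two (h2 : (2 : F) = 0) (r : F) : IsSquare r := by
  haveI := CharTwo.of_one_ne_zero_of_two_eq_zero one_ne_zero h2
  exact FiniteField.isSquare_of_char_two (ringChar.eq F 2) r

/-- A vector without a component somewhere has a witness there. -/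
theorem wit_zero {e : Fin t} {u : V} (h : p e u = 0) : Wit Q D e u := fun r hr => by
  obtain ⟨w, hw, hQw⟩ := hC.repr_val e r
  exact Or.inr ⟨w, hw, by rw [hC.polar_proj hw, h, QuadraticMap.polar_zero_right], hQw ▸ hr, ⟨r, by rw [hQw]⟩⟩

/-- A nondegenerate summand of dimension at least four has a second pair of the hyperbolic plane. -/
theorem exists_outside (hk : 4 ≤ k) {a : Fin t} {x y : V} (hx : x ∈ D a) (hy : y ∈ D a) (hxy : B x y = 1)
    (hxx : B x x = 0) (hyy : B y y = 0) :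
    ∃ n ∈ D a, Q n ≠ 0 ∧ B x n = 0 ∧ B y n = 0 := by
  by_contra hc
  push Not at hc
  obtain ⟨P, hP⟩ : ∃ P, P = D a ⊓ LinearMap.ker (QuadraticMap.polarBilin Q x) ⊓
    LinearMap.ker (QuadraticMap.polarBilin Q y) := ⟨_, rfl⟩
  have hPm : ∀ n, n ∈ P ↔ (n ∈ D a ∧ B x n = 0) ∧ B y n = 0 := fun n => by rw [hP]; exact Iff.rfl
  have hQP : ∀ n ∈ P, Q n = 0 := fun n hn => by
    obtain ⟨⟨h1, h2⟩, h3⟩ := (hPm n).1 hn
    by_contra h
    exact hc n h1 h h2 h3
  obtain ⟨n, hn, hn0⟩ := Submodule.exists_mem_ne_zero_of_ne_bot (p := P) fun e => by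
    have h1 := MaxTv.finrank_le_inf_ker_add_one (D a) (QuadraticMap.polarBilin Q x)
    have h2 := MaxTv.finrank_le_inf_ker_add_one (D a ⊓ LinearMap.ker (QuadraticMap.polarBilin Q x))
      (QuadraticMap.polarBilin Q y)
    rw [← hP, e, finrank_bot] at h2
    rw [hC.dim] at h1
    omega
  obtain ⟨⟨hnD, hnx⟩, hny⟩ := (hPm n).1 hn
  obtain ⟨z, hz, hnz⟩ := hC.nd a n hnD hn0
  refine hnz ?_
  have hz' : z - B y z • x - B x z • y ∈ P := (hPm _).2 ⟨⟨(D a).sub_mem ((D a).sub_mem hz ((D a).smul_mem _ hx))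
    ((D a).smul_mem _ hy), by simp [QuadraticMap.polar_sub_right, QuadraticMap.polar_smul_right, hxx, hxy]⟩, by
    simp [QuadraticMap.polar_sub_right, QuadraticMap.polar_smul_right, hyy, QuadraticMap.polar_comm _ y x, hxy]⟩
  have h : B n (z - B y z • x - B x z • y) = 0 := by
    rw [QuadraticMap.polar, hQP _ (P.add_mem hn hz'), hQP n hn, hQP _ hz', sub_zero, sub_zero]
  simpa [QuadraticMap.polar_sub_right, QuadraticMap.polar_smul_right, QuadraticMap.polar_comm _ n x, hnx,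
    QuadraticMap.polar_comm _ n y, hny] using h

/-- In dimension at least four an affine hyperplane of a summand meets every value. -/
theorem hyper (hk : 4 ≤ k) (h2 : (2 : F) = 0) {a : Fin t} {x : V} (hx : x ∈ D a) (hx0 : x ≠ 0) (γ τ : F)
    (hτ : τ ≠ 0) : ∃ y ∈ D a, Q y = γ ∧ B x y = τ := by
  obtain ⟨z, hz, hxz⟩ := hC.nd a x hx hx0
  obtain ⟨y, hy⟩ : ∃ y, y = (B x z)⁻¹ • z := ⟨_, rfl⟩
  have hyD : y ∈ D a := hy ▸ (D a).smul_mem _ hz
  have hxy : B x y = 1 := by rw [hy, QuadraticMap.polar_smul_right, smul_eq_mul, inv_mul_cancel₀ hxz]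
  have hself : ∀ v : V, B v v = 0 := fun v => by rw [polar_diag, h2, zero_mul]
  obtain ⟨n, hn, hQn, hxn, hyn⟩ := hC.exists_outside hk hx hyD hxy (hself x) (hself y)
  obtain ⟨r, hr⟩ := sq_two h2 ((γ - τ * τ * Q y) * (Q n)⁻¹)
  refine ⟨τ • y + r • n, (D a).add_mem ((D a).smul_mem _ hyD) ((D a).smul_mem _ hn), ?_, ?_⟩
  · rw [quad_add_smul', QuadraticMap.map_smul, QuadraticMap.polar_smul_left, hyn, smul_zero, ← hr, smul_eq_mul,
      mul_zero, inv_mul_cancel_right₀ hQn]
    ring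
  · rw [QuadraticMap.polar_add_right, QuadraticMap.polar_smul_right, QuadraticMap.polar_smul_right, hxy, hxn,
      smul_zero, add_zero, smul_eq_mul, mul_one]

/-- Over two elements a hyperbolic pair of unit vectors has a singular perpendicular. -/
theorem sing_perp_two (hk : 4 ≤ k) (h2 : (2 : F) = 0) (hq : Fintype.card F = 2) {a : Fin t} {x y : V}
    (hx : x ∈ D a) (hy : y ∈ D a) (hxy : B x y = 1) (hQx : Q x = 1) (hQy : Q y = 1) :
    ∃ n ∈ D a, n ≠ 0 ∧ Q n = 0 ∧ B x n = 0 ∧ B y n = 0 := by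
  have hone : ∀ c : F, c ≠ 0 → c = 1 := fun c hc => by
    have := FiniteField.pow_card_sub_one_eq_one c hc
    rwa [hq, pow_one] at this
  have hself : ∀ v : V, B v v = 0 := fun v => by rw [polar_diag, h2, zero_mul]
  obtain ⟨n, hn, hQn, hxn, hyn⟩ := hC.exists_outside hk hx hy hxy (hself x) (hself y)
  obtain ⟨z, hz, hnz⟩ := hC.nd a n hn fun e => hQn (by rw [e, QuadraticMap.map_zero])
  obtain ⟨n', hn'⟩ : ∃ n', n' = z - B y z • x - B x z • y := ⟨_, rfl⟩
  have hn'D : n' ∈ D a := hn' ▸ (D a).sub_mem ((D a).sub_mem hz ((D a).smul_mem _ hx)) ((D a).smul_mem _ hy)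
  have hxn' : B x n' = 0 := by
    simp [hn', QuadraticMap.polar_sub_right, QuadraticMap.polar_smul_right, hself, hxy]
  have hyn' : B y n' = 0 := by
    simp [hn', QuadraticMap.polar_sub_right, QuadraticMap.polar_smul_right, hself,
      QuadraticMap.polar_comm _ y x, hxy]
  have hnn' : B n n' = 1 := by
    refine hone _ ?_
    simpa [hn', QuadraticMap.polar_sub_right, QuadraticMap.polar_smul_right, QuadraticMap.polar_comm _ n x, hxn,
      QuadraticMap.polar_comm _ n y, hyn] using hnz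
  by_contra hc
  push Not at hc
  have hval : ∀ v ∈ D a, v ≠ 0 → B x v = 0 → B y v = 0 → Q v = 1 := fun v hv hv0 h h' => hone _ fun e => hc v hv hv0 e h h'
  have hn0' : n' ≠ 0 := fun e => one_ne_zero (hnn'.symm.trans (by rw [e, QuadraticMap.polar_zero_right]))
  rcases le_or_gt k 4 with hk4 | hk5
  · have eA : Q (x + n) = 0 := by
      rw [QuadraticMap.map_add (f := Q), hQx, hone _ hQn, hxn, add_zero, one_add_one_eq_two, h2]
    have eB : Q (y + n') = 0 := by
      rw [QuadraticMap.map_add (f := Q), hQy, hval n' hn'D hn0' hxn' hyn', hyn', add_zero, one_add_one_eq_two, h2]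
    have eC : B (x + n) (y + n') = 0 := by
      rw [QuadraticMap.polar_add_left, QuadraticMap.polar_add_right, QuadraticMap.polar_add_right, hxy, hxn',
        QuadraticMap.polar_comm _ n y, hyn, hnn', add_zero, zero_add, one_add_one_eq_two, h2]
    rcases hC.two hq (by omega) a _ ((D a).add_mem hx hn) _ ((D a).add_mem hy hn'D) eA eB eC with e | e | e
    · have := congrArg (B y) e
      rw [QuadraticMap.polar_add_right, hyn, add_zero, QuadraticMap.polar_comm, hxy, QuadraticMap.polar_zero_right] at this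
      exact one_ne_zero this
    · have := congrArg (B x) e
      rw [QuadraticMap.polar_add_right, hxn', add_zero, hxy, QuadraticMap.polar_zero_right] at this
      exact one_ne_zero this
    · have := congrArg (B x) e
      rw [QuadraticMap.polar_add_right, QuadraticMap.polar_add_right, hxn, hxn', hxy, hself, add_zero, add_zero] at this
      exact zero_ne_one this
  · obtain ⟨m, hm, hm0⟩ := Submodule.exists_mem_ne_zero_of_ne_bot
      (p := D a ⊓ LinearMap.ker (QuadraticMap.polarBilin Q x) ⊓ LinearMap.ker (QuadraticMap.polarBilin Q y) ⊓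
        LinearMap.ker (QuadraticMap.polarBilin Q n) ⊓ LinearMap.ker (QuadraticMap.polarBilin Q n')) fun e => by
      have e1 := MaxTv.finrank_le_inf_ker_add_one (D a) (QuadraticMap.polarBilin Q x)
      have e2 := MaxTv.finrank_le_inf_ker_add_one (D a ⊓ LinearMap.ker (QuadraticMap.polarBilin Q x))
        (QuadraticMap.polarBilin Q y)
      have e3 := MaxTv.finrank_le_inf_ker_add_one (D a ⊓ LinearMap.ker (QuadraticMap.polarBilin Q x) ⊓
        LinearMap.ker (QuadraticMap.polarBilin Q y)) (QuadraticMap.polarBilin Q n)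
      have e4 := MaxTv.finrank_le_inf_ker_add_one (D a ⊓ LinearMap.ker (QuadraticMap.polarBilin Q x) ⊓
        LinearMap.ker (QuadraticMap.polarBilin Q y) ⊓ LinearMap.ker (QuadraticMap.polarBilin Q n))
        (QuadraticMap.polarBilin Q n')
      rw [e, finrank_bot] at e4
      rw [hC.dim] at e1
      omega
    obtain ⟨⟨⟨⟨hmD, hxm⟩, hym⟩, hnm⟩, hn'm⟩ := hm
    have hQm := hval m hmD hm0 hxm hym
    have hsum : Q (n + m) = 0 := by
      rw [QuadraticMap.map_add (f := Q), hone _ hQn, hQm, show B n m = 0 from hnm, add_zero, one_add_one_eq_two, h2]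
    exact hc (n + m) ((D a).add_mem hn hmD) (fun e => one_ne_zero (hnn'.symm.trans (by
        rw [eq_neg_of_add_eq_zero_left e, QuadraticMap.polar_neg_left, QuadraticMap.polar_comm,
          show B n' m = 0 from hn'm, neg_zero]))) hsum
      (by rw [QuadraticMap.polar_add_right, hxn, show B x m = 0 from hxm, add_zero])
      (by rw [QuadraticMap.polar_add_right, hyn, show B y m = 0 from hym, add_zero])

/-- A line of a plane holds at most two vectors of a value. -/
theorem line_conic (hk : k = 2) {a : Fin t} {x y₁ y₂ y₃ : V} {γ τ : F} (hx : x ∈ D a) (hx0 : x ≠ 0)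
    (h₁ : y₁ ∈ D a) (h₂ : y₂ ∈ D a) (h₃ : y₃ ∈ D a) (q₁ : Q y₁ = γ) (q₂ : Q y₂ = γ) (q₃ : Q y₃ = γ)
    (b₁ : B x y₁ = τ) (b₂ : B x y₂ = τ) (b₃ : B x y₃ = τ) (hne : γ ≠ 0 ∨ τ ≠ 0) : y₁ = y₂ ∨ y₁ = y₃ ∨ y₂ = y₃ := by
  by_contra hc
  push Not at hc
  obtain ⟨h12, h13, h23⟩ := hc
  obtain ⟨n, hn⟩ : ∃ n, n = y₂ - y₁ := ⟨_, rfl⟩
  have hn0 : n ≠ 0 := hn ▸ sub_ne_zero.2 (Ne.symm h12)
  have hnD : n ∈ D a := hn ▸ (D a).sub_mem h₂ h₁
  have hxn : B x n = 0 := by rw [hn, QuadraticMap.polar_sub_right, b₂, b₁, sub_self]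
  obtain ⟨r, hr⟩ : ∃ r : F, y₃ - y₁ = r • n := by
    by_contra hnr
    push Not at hnr
    exact hx0 (perp_pair (Q := Q) (by rw [hC.dim, hk]) (hC.nd a) hnD ((D a).sub_mem h₃ h₁) (ind_pair hC hn0 hnr) hx
      (by rw [QuadraticMap.polar_comm, hxn])
      (by rw [QuadraticMap.polar_comm, QuadraticMap.polar_sub_right, b₃, b₁, sub_self]))
  have e2 : y₂ = y₁ + (1 : F) • n := by rw [hn, one_smul, add_sub_cancel]
  have e3 : y₃ = y₁ + r • n := by rw [← hr, add_sub_cancel]
  have hr1 : r - 1 ≠ 0 := fun h => h23 (by rw [e2, e3, sub_eq_zero.1 h])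
  have hr0 : r ≠ 0 := fun h => h13 (by rw [e3, h, zero_smul, add_zero])
  rw [e2, quad_add_smul', q₁] at q₂
  rw [e3, quad_add_smul', q₁] at q₃
  have hQn : r * (r - 1) * Q n = 0 := by linear_combination q₃ - r * q₂
  have hQn0 : Q n = 0 := (mul_eq_zero.1 hQn).resolve_left (mul_ne_zero hr0 hr1)
  have hb : B y₁ n = 0 := by rw [hQn0] at q₂; linear_combination q₂
  by_cases hd : ∀ c : F, y₁ ≠ c • n
  · exact hn0 (perp_pair (Q := Q) (by rw [hC.dim, hk]) (hC.nd a) hnD h₁ (ind_pair hC hn0 hd) hnD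
      (by rw [polar_diag, hQn0, mul_zero]) hb)
  · push Not at hd
    obtain ⟨c, hc⟩ := hd
    rcases hne with h | h
    · exact h (by rw [← q₁, hc, QuadraticMap.map_smul, hQn0, smul_zero])
    · exact h (by rw [← b₁, hc, QuadraticMap.polar_smul_right, hxn, smul_zero])

theorem wit_two (h2 : (2 : F) = 0) (e : Fin t) (u : V) : Wit Q D e u := fun r _ => Or.inl (sq_two h2 r)

theorem blk_wit {z : V} (hz : Mem Q M D z) {a e : Fin t} {v : V} (hv : v ∈ D a) (hv0 : Q v ≠ 0) (he : Wit Q D e z) :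
    Mem Q M D (rf Q v z) :=
  hC.mem_blk hz hv hv0 ((he _ hv0).imp_right fun ⟨w, hw, h⟩ => ⟨e, w, hw, h⟩)

theorem wit_rf {a e : Fin t} {v z : V} (hv : v ∈ D a) (hea : e ≠ a) (he : Wit Q D e z) :
    Wit Q D e (rf Q v z) := fun r hr => (he r hr).imp_right fun ⟨w, hw, h, h'⟩ => ⟨w, hw, by
  rw [← polar_rf_left, rf_perp (hC.orth a e (Ne.symm hea) v hv w hw)]; exact h, h'⟩

/-- Removing two block components preserves membership. -/
theorem mem_move {u : V} (hu : Mem Q M D u) {a b e : Fin t} (hab : a ≠ b) {d d' : V} (hd : d ∈ D a)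
    (hd' : d' ∈ D b) (hQd : Q d ≠ 0) (hQd' : Q d' ≠ 0) (hB : B d u = Q d) (hB' : B d' u = Q d')
    (he : Wit Q D e u) (hside : (2 : F) = 0 ∨ e ≠ a) : Mem Q M D (u - d - d') := by
  have h1 : rf Q d u = u - d := by rw [rf_apply, hB, mul_inv_cancel₀ hQd, one_smul]
  have m1 := hC.blk_wit hu hd hQd he
  have w1 : Wit Q D e (rf Q d u) := hside.elim (fun h => hC.wit_two h e _) fun h => hC.wit_rf hd h he
  have h2 : rf Q d' (u - d) = u - d - d' := by
    rw [rf_apply, QuadraticMap.polar_sub_right, hC.orth b a (Ne.symm hab) d' hd' d hd, sub_zero, hB',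
      mul_inv_cancel₀ hQd', one_smul]
  have := hC.blk_wit m1 hd' hQd' w1
  rwa [h1, h2] at this

/-- Two moves with values summing to one leave a member on two summands. -/
theorem two_diff {u : V} (hu : Mem Q M D u) {a b e : Fin t} (hab : a ≠ b) {d d' : V} (hd : d ∈ D a)
    (hd' : d' ∈ D b) (hQd : Q d ≠ 0) (hQd' : Q d' ≠ 0) (hB : B d u = Q d) (hB' : B d' u = Q d')
    (he : Wit Q D e u) (hside : (2 : F) = 0 ∨ e ≠ a) (hsum : Q d + Q d' = 1) :
    ∃ r : F, r ≠ 0 ∧ ∃ W, Mem (r • Q) M D W ∧ Two p W := by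
  have hm := hC.mem_move hu hab hd hd' hQd hQd' hB hB' he hside
  have h := hC.mem_sub hu hm (by
    rw [QuadraticMap.polar_sub_left, QuadraticMap.polar_sub_left, hB, hB', polar_diag, hu.1]
    linear_combination -hsum)
  rw [show u - (u - d - d') = d + d' by abel] at h
  refine ⟨1, one_ne_zero, d + d', by rwa [one_smul], a, b, hab, ?_, ?_, fun i hia hib => by
    rw [map_add, hC.proj.other i a hia d hd, hC.proj.other i b hib d' hd', add_zero]⟩
  · rw [map_add, hC.proj.self a d hd, hC.proj.other a b hab d' hd', add_zero]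
    exact fun e => hQd (by rw [e, QuadraticMap.map_zero])
  · rw [map_add, hC.proj.other b a (Ne.symm hab) d hd, hC.proj.self b d' hd', zero_add]
    exact fun e => hQd' (by rw [e, QuadraticMap.map_zero])

/-- The image of a block vector under two reflections of members. -/
theorem two_image {u : V} (hu : Mem Q M D u) {a b e : Fin t} (hab : a ≠ b) {d d' : V} (hd : d ∈ D a)
    (hd' : d' ∈ D b) (hQd : Q d ≠ 0) (hQd' : Q d' ≠ 0) (hB : B d u = Q d) (hB' : B d' u = Q d')
    (he : Wit Q D e u) (hside : (2 : F) = 0 ∨ (e ≠ a ∧ e ≠ b)) {w : V} (hw : w ∈ D a) (hQw : Q w ≠ 0)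
    (hrel : (Q d + Q d') * B w u = (Q d + Q d' - 1) * B w d) (hne : B w u ≠ B w d)
    (hW : w + (B w u - B w d) • d ≠ 0) :
    ∃ r : F, r ≠ 0 ∧ ∃ W, Mem (r • Q) M D W ∧ Two p W := by
  obtain ⟨u', hu'⟩ : ∃ u', u' = u - d - d' := ⟨_, rfl⟩
  have hm : Mem Q M D u' := hu' ▸ hC.mem_move hu hab hd hd' hQd hQd' hB hB' he (hside.imp_right And.left)
  obtain ⟨b', hb'⟩ : ∃ b', b' = B w u - B w d := ⟨_, rfl⟩
  have hwd' : B w d' = 0 := hC.orth a b hab w hw d' hd'
  have hu'w : B u' w = b' := by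
    rw [hb', hu', QuadraticMap.polar_sub_left, QuadraticMap.polar_sub_left, QuadraticMap.polar_comm _ u w,
      QuadraticMap.polar_comm _ d w, QuadraticMap.polar_comm _ d' w, hwd', sub_zero]
  have hT : rf Q u (rf Q u' w) = w + b' • (d + d') := by
    have e1 : B u u' = 2 - (Q d + Q d') := by
      rw [hu', QuadraticMap.polar_sub_right, QuadraticMap.polar_sub_right, polar_diag, hu.1,
        QuadraticMap.polar_comm _ u d, hB, QuadraticMap.polar_comm _ u d', hB']
      ring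
    have e2 : B u (w - b' • u') = -b' := by
      rw [QuadraticMap.polar_sub_right, QuadraticMap.polar_smul_right, e1, QuadraticMap.polar_comm _ u w, smul_eq_mul,
        hb']
      linear_combination hrel
    rw [rf_one hm.1, hu'w, rf_one hu.1, e2, hu']
    module
  obtain ⟨W, hWdef⟩ : ∃ W, W = w + b' • (d + d') := ⟨_, rfl⟩
  rw [← hWdef] at hT
  have hQW : Q W = Q w := by rw [← hT, quad_rf, quad_rf]
  have hTwo : ∀ s : F, s ≠ 0 → Two p (s • W) := fun s hs => by
    refine ⟨a, b, hab, ?_, ?_, fun i hia hib => ?_⟩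
    · rw [map_smul, hWdef, map_add, map_smul, map_add, hC.proj.self a w hw, hC.proj.self a d hd,
        hC.proj.other a b hab d' hd', add_zero]
      exact smul_ne_zero hs (hb' ▸ hW)
    · rw [map_smul, hWdef, map_add, map_smul, map_add, hC.proj.other b a (Ne.symm hab) w hw,
        hC.proj.other b a (Ne.symm hab) d hd, hC.proj.self b d' hd', zero_add, zero_add]
      exact smul_ne_zero hs (smul_ne_zero (hb' ▸ sub_ne_zero.2 hne) fun h => hQd' (by rw [h, QuadraticMap.map_zero]))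
    · rw [map_smul, hWdef, map_add, map_smul, map_add, hC.proj.other i a hia w hw, hC.proj.other i a hia d hd,
        hC.proj.other i b hib d' hd', zero_add, add_zero, smul_zero, smul_zero]
  rcases em (IsSquare (Q w)) with ⟨s, hs⟩ | hns
  · have hs0 : s ≠ 0 := fun h => hQw (by rw [hs, h, mul_zero])
    have h1 := hC.mem_rf hu (hC.mem_rf hm (hC.mem_block ((D a).smul_mem s⁻¹ hw) (by
      rw [QuadraticMap.map_smul, smul_eq_mul, hs]; field_simp)))
    rw [map_smul, map_smul, hT] at h1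
    exact ⟨1, one_ne_zero, _, by rw [one_smul]; exact h1, hTwo _ (inv_ne_zero hs0)⟩
  · rcases hside with h2 | ⟨hea, heb⟩
    · exact absurd (sq_two h2 _) hns
    obtain ⟨w₀, hw₀, hw₀u, hQw₀, hsq⟩ := (he _ hQw).resolve_left hns
    obtain ⟨g, hg, hge⟩ := hC.pair_of_mem hu hm
    have hfix : (g : Mn) *ᵥ w₀ = w₀ := by
      rw [hge, rf_perp (v := u') ?_, rf_perp (v := u) (by rw [QuadraticMap.polar_comm]; exact hw₀u)]
      rw [hu', QuadraticMap.polar_comm, QuadraticMap.polar_sub_right, QuadraticMap.polar_sub_right, hw₀u,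
        hC.orth e a hea w₀ hw₀ d hd, hC.orth e b heb w₀ hw₀ d' hd', sub_zero, sub_zero]
    have hp := hC.pair_map (hC.pairs_class hw hw₀ hQw hQw₀ hsq) hg
    rw [hfix, hge, hT] at hp
    obtain ⟨s, hs⟩ := hsq
    have hs0 : s ≠ 0 := fun h => mul_ne_zero hQw hQw₀ (by rw [hs, h, mul_zero])
    refine ⟨(Q w)⁻¹, inv_ne_zero hQw, W, ⟨?_, e, (s / Q w₀) • w₀, (D e).smul_mem _ hw₀, ?_, ?_⟩, ?_⟩
    · show (Q w)⁻¹ * Q W = 1
      rw [hQW, inv_mul_cancel₀ hQw]
    · show (Q w)⁻¹ * Q ((s / Q w₀) • w₀) = 1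
      rw [QuadraticMap.map_smul, smul_eq_mul]
      field_simp
      linear_combination -hs
    · exact (PairMem.scale (inv_ne_zero hQw)).2 ((PairMem.smul_left (div_ne_zero hs0 hQw₀)).2 hp.symm).symm
    · simpa using hTwo 1 one_ne_zero

/-- Lines of a plane with at most five exceptions. -/
theorem line_count (hk : k = 2) {a : Fin t} {x : V} (hx : x ∈ D a) (hx0 : x ≠ 0) {N : ℕ} (l : Fin N → V)
    (hlD : ∀ i, l i ∈ D a) (hlQ : ∀ i, Q (l i) ≠ 0) (hlinj : ∀ i j, (∃ c : F, l j = c • l i) → i = j)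
    (γ : F) (hγ : γ ≠ 0) : ∀ s : Finset (Fin N),
      (∀ i ∈ s, B (l i) x * B (l i) x / Q (l i) = γ) → s.card ≤ 2 := by
  intro s hs
  by_contra hlt
  obtain ⟨i, hi, j, hj, l', hl', hij, hil, hjl⟩ := Finset.two_lt_card.1 (not_le.1 hlt)
  let y : Fin N → V := fun i => (B (l i) x / Q (l i)) • l i
  have hyv : ∀ i ∈ s, Q (y i) = γ ∧ B x (y i) = γ := fun i hi => by
    refine ⟨?_, ?_⟩
    · rw [QuadraticMap.map_smul, smul_eq_mul, ← hs i hi]
      have := hlQ i
      field_simp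
    · rw [QuadraticMap.polar_smul_right, smul_eq_mul, QuadraticMap.polar_comm _ x, ← hs i hi]
      ring
  have hinj : ∀ i ∈ s, ∀ j ∈ s, y i = y j → i = j := fun i hi j hj h => by
    have h0 : ∀ i ∈ s, B (l i) x / Q (l i) ≠ 0 := fun i hi e => hγ (by
      rw [← hs i hi, show B (l i) x * B (l i) x / Q (l i) = B (l i) x * (B (l i) x / Q (l i)) by ring, e, mul_zero])
    refine hlinj i j ⟨(B (l j) x / Q (l j))⁻¹ * (B (l i) x / Q (l i)), ?_⟩
    rw [mul_smul, show (B (l i) x / Q (l i)) • l i = y j from h, inv_smul_smul₀ (h0 j hj)]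
  rcases hC.line_conic hk hx hx0 ((D a).smul_mem _ (hlD i)) ((D a).smul_mem _ (hlD j)) ((D a).smul_mem _ (hlD l'))
    (hyv i hi).1 (hyv j hj).1 (hyv l' hl').1 (hyv i hi).2 (hyv j hj).2 (hyv l' hl').2 (Or.inl hγ) with h | h | h
  exacts [hij (hinj i hi j hj h), hil (hinj i hi l' hl' h), hjl (hinj j hj l' hl' h)]

theorem line_count' [DecidableEq F] {a : Fin t} {x : V} {N : ℕ} (l : Fin N → V) (hlinj : ∀ i j, (∃ c : F, l j = c • l i) → i = j)
    (hlD : ∀ i, l i ∈ D a) (hlQ : ∀ i, Q (l i) ≠ 0) (hk : k = 2) (hx : x ∈ D a) (hx0 : x ≠ 0) :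
    (Finset.univ.filter fun i => B (l i) x = 0).card ≤ 1 := by
  rw [Finset.card_le_one]
  intro i hi j hj
  refine hlinj i j ?_
  by_contra hne
  push Not at hne
  exact hx0 (perp_pair (Q := Q) (by rw [hC.dim, hk]) (hC.nd a) (hlD i) (hlD j)
    (ind_pair hC (fun e => hlQ i (by rw [e, QuadraticMap.map_zero])) hne) hx (Finset.mem_filter.1 hi).2
    (Finset.mem_filter.1 hj).2)

theorem two_of_plane (hk : k = 2) (h4 : 4 ≤ Fintype.card F) {u : V} (hu : Mem Q M D u) {a b e : Fin t}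
    (hab : a ≠ b) (ha : p a u ≠ 0) (hb : p b u ≠ 0) (he : Wit Q D e u)
    (hside : (2 : F) = 0 ∨ (e ≠ a ∧ e ≠ b)) : ∃ r : F, r ≠ 0 ∧ ∃ W, Mem (r • Q) M D W ∧ Two p W := by
  classical
  obtain ⟨x, hx⟩ : ∃ x, x = p a u := ⟨_, rfl⟩
  rw [← hx] at ha
  have hxD : x ∈ D a := hx ▸ hC.proj.mem a u
  have hBu : ∀ v ∈ D a, B v u = B v x := fun v hv => hx ▸ hC.polar_proj hv u
  obtain ⟨N, l, hlD, hlQ, hlinj, hN, hN'⟩ := exists_lines (by rw [hC.dim, hk]) (hC.nd a)
  obtain ⟨N', l', hlD', hlQ', hlinj', hM, hM'⟩ := exists_lines (by rw [hC.dim, hk]) (hC.nd b)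
  have hN5 : 5 ≤ N := by
    by_cases hiso : ∀ z ∈ D a, Q z = 0 → z = 0
    · rw [hN' hiso]; omega
    · push Not at hiso
      obtain ⟨z, hz, hQz, hz0⟩ := hiso
      have := hC.plus hk a z hz hQz hz0
      omega
  obtain ⟨i, hi0, hiv, hix⟩ : ∃ i, B (l i) u ≠ 0 ∧ B (l i) x * B (l i) x / Q (l i) ≠ 1 ∧ ∀ c : F, l i ≠ c • x := by
    by_contra hc
    push Not at hc
    let S1 := Finset.univ.filter fun i => B (l i) x = 0
    let S2 := Finset.univ.filter fun i => B (l i) x * B (l i) x / Q (l i) = 1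
    let S3 := Finset.univ.filter fun i => ∃ c : F, l i = c • x
    have hsub : (Finset.univ : Finset (Fin N)) ⊆ S1 ∪ S2 ∪ S3 := fun i _ => by
      simp only [S1, S2, S3, Finset.mem_union, Finset.mem_filter, Finset.mem_univ, true_and]
      by_cases h1 : B (l i) x = 0
      · exact Or.inl (Or.inl h1)
      by_cases h2 : B (l i) x * B (l i) x / Q (l i) = 1
      · exact Or.inl (Or.inr h2)
      · exact Or.inr (hc i (by rwa [hBu _ (hlD i)]) h2)
    have c1 : S1.card ≤ 1 := hC.line_count' l hlinj hlD hlQ hk hxD ha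
    have c2 : S2.card ≤ 2 := hC.line_count hk hxD ha l hlD hlQ hlinj 1 one_ne_zero S2
      fun i hi => (Finset.mem_filter.1 hi).2
    have c3 : S3.card ≤ 1 := Finset.card_le_one.2 fun i hi j hj => by
      obtain ⟨c, hc⟩ := (Finset.mem_filter.1 hi).2
      obtain ⟨c', hc'⟩ := (Finset.mem_filter.1 hj).2
      refine hlinj i j ⟨c' / c, ?_⟩
      have hc0 : c ≠ 0 := fun h => hlQ i (by rw [hc, h, zero_smul, QuadraticMap.map_zero])
      rw [hc, hc', smul_smul, div_mul_cancel₀ _ hc0]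
    have := (Finset.card_le_card hsub).trans ((Finset.card_union_le _ _).trans
      (Nat.add_le_add_right (Finset.card_union_le _ _) _))
    rw [Finset.card_univ, Fintype.card_fin] at this
    omega
  obtain ⟨d, hd⟩ : ∃ d, d = (B (l i) u / Q (l i)) • l i := ⟨_, rfl⟩
  have hdD : d ∈ D a := hd ▸ (D a).smul_mem _ (hlD i)
  have hQd : Q d = B (l i) u * B (l i) u / Q (l i) := by
    rw [hd, QuadraticMap.map_smul, smul_eq_mul]; have := hlQ i; field_simp
  have hBd : B d u = Q d := by rw [hQd, hd, QuadraticMap.polar_smul_left, smul_eq_mul]; ring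
  have hQd0 : Q d ≠ 0 := hQd ▸ div_ne_zero (mul_ne_zero hi0 hi0) (hlQ i)
  have hd1 : Q d ≠ 1 := by rw [hQd, hBu _ (hlD i)]; exact hiv
  have hind : LinearIndependent F ![x, d] := ind_pair hC ha fun c hc => hix ((B (l i) u / Q (l i))⁻¹ * c) (by
    rw [mul_smul, ← hc, hd, inv_smul_smul₀ (div_ne_zero hi0 (hlQ i))])
  obtain ⟨m, hm⟩ : ∃ m : F → V, ∀ σ, m σ = σ • x - (σ - 1) • d := ⟨_, fun _ => rfl⟩
  have hmD : ∀ σ, m σ ∈ D a := fun σ => by rw [hm]; exact (D a).sub_mem ((D a).smul_mem _ hxD) ((D a).smul_mem _ hdD)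
  have hm0 : ∀ σ, m σ ≠ 0 := fun σ h => by
    rw [hm, sub_eq_add_neg, ← neg_smul] at h
    obtain ⟨h1, h2⟩ := LinearIndependent.pair_iff.1 hind _ _ h
    rw [h1] at h2; simp at h2
  have hQm : ∀ σ, Q (m σ) = σ * σ * Q x - (σ - 1) * Q d := fun σ => by
    rw [hm, sub_eq_add_neg, ← neg_smul, quad_add_smul', QuadraticMap.map_smul, QuadraticMap.polar_smul_left,
      QuadraticMap.polar_comm _ x d, ← hBu d hdD, hBd, smul_eq_mul, smul_eq_mul]
    ring
  -- the second move
  obtain ⟨j, hj0, hj⟩ : ∃ j, B (l' j) u ≠ 0 ∧ (Q d + B (l' j) u * B (l' j) u / Q (l' j) = 1 ∨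
      Q (m (Q d + B (l' j) u * B (l' j) u / Q (l' j))) ≠ 0) := by
    obtain ⟨z, hz⟩ : ∃ z, z = p b u := ⟨_, rfl⟩
    rw [← hz] at hb
    have hzD : z ∈ D b := hz ▸ hC.proj.mem b u
    have hBz : ∀ j, B (l' j) u = B (l' j) z := fun j => hz ▸ hC.polar_proj (hlD' j) u
    have c1 := hC.line_count' l' hlinj' hlD' hlQ' hk hzD hb
    by_cases hiso : ∀ y ∈ D a, Q y = 0 → y = 0
    · obtain ⟨j, hj⟩ : ∃ j, B (l' j) z ≠ 0 := by
        by_contra hc
        push Not at hc
        rw [Finset.filter_true_of_mem fun j _ => hc j, Finset.card_univ, Fintype.card_fin] at c1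
        have := Fintype.one_lt_card (α := F)
        omega
      exact ⟨j, by rwa [hBz], Or.inr fun h => hm0 _ (hiso _ (hmD _) h)⟩
    push Not at hiso
    obtain ⟨y, hy, hQy, hy0⟩ := hiso
    have h7 := hC.plus hk a y hy hQy hy0
    by_contra hc
    push Not at hc
    let R : Finset F := Finset.univ.filter fun σ => σ ≠ 1 ∧ Q (m σ) = 0
    have hR : R.card ≤ 2 := by
      by_contra hlt
      obtain ⟨σ, hσ, σ', hσ', σ'', hσ'', e1, e2, e3⟩ := Finset.two_lt_card.1 (not_le.1 hlt)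
      simp only [R, Finset.mem_filter, Finset.mem_univ, true_and, hQm] at hσ hσ' hσ''
      have a1 : (σ - σ') * ((σ + σ') * Q x - Q d) = 0 := by linear_combination hσ.2 - hσ'.2
      have a2 : (σ - σ'') * ((σ + σ'') * Q x - Q d) = 0 := by linear_combination hσ.2 - hσ''.2
      have b1 := (mul_eq_zero.1 a1).resolve_left (sub_ne_zero.2 e1)
      have b2 := (mul_eq_zero.1 a2).resolve_left (sub_ne_zero.2 e2)
      have a3 : (σ' - σ'') * Q x = 0 := by linear_combination b1 - b2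
      have hx0 := (mul_eq_zero.1 a3).resolve_left (sub_ne_zero.2 e3)
      rw [hx0] at hσ
      have : (σ - 1) * Q d = 0 := by linear_combination -hσ.2
      exact hσ.1 (sub_eq_zero.1 ((mul_eq_zero.1 this).resolve_right hQd0))
    let S : F → Finset (Fin N') := fun σ => Finset.univ.filter fun j =>
      B (l' j) z ≠ 0 ∧ B (l' j) z * B (l' j) z / Q (l' j) = σ - Q d
    have hS : ∀ σ ∈ R, (S σ).card ≤ 2 := fun σ _ => by
      by_cases h0 : σ - Q d = 0
      · have : S σ = ∅ := Finset.filter_eq_empty_iff.2 fun j _ h => by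
          rw [h0] at h
          exact div_ne_zero (mul_ne_zero h.1 h.1) (hlQ' j) h.2
        rw [this]; simp
      · exact hC.line_count hk hzD hb l' hlD' hlQ' hlinj' _ h0 _ fun j hj => (Finset.mem_filter.1 hj).2.2
    have hcov : (Finset.univ : Finset (Fin N')) ⊆ (Finset.univ.filter fun j => B (l' j) z = 0) ∪ R.biUnion S := by
      intro j _
      by_cases h : B (l' j) z = 0
      · exact Finset.mem_union_left _ (Finset.mem_filter.2 ⟨Finset.mem_univ _, h⟩)
      · obtain ⟨h1, h2⟩ := hc j (by rwa [hBz])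
        refine Finset.mem_union_right _ (Finset.mem_biUnion.2 ⟨_, Finset.mem_filter.2 ⟨Finset.mem_univ _, h1, h2⟩, ?_⟩)
        simp only [S, Finset.mem_filter, Finset.mem_univ, true_and, ← hBz, add_sub_cancel_left, and_true]
        rwa [hBz]
    have := (Finset.card_le_card hcov).trans ((Finset.card_union_le _ _).trans
      (Nat.add_le_add c1 ((Finset.card_biUnion_le).trans ((Finset.sum_le_sum hS).trans (le_of_eq (Finset.sum_const _))))))
    rw [Finset.card_univ, Fintype.card_fin, smul_eq_mul] at this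
    have : R.card * 2 ≤ 4 := by omega
    omega
  obtain ⟨d', hd'⟩ : ∃ d', d' = (B (l' j) u / Q (l' j)) • l' j := ⟨_, rfl⟩
  have hdD' : d' ∈ D b := hd' ▸ (D b).smul_mem _ (hlD' j)
  have hQd' : Q d' = B (l' j) u * B (l' j) u / Q (l' j) := by
    rw [hd', QuadraticMap.map_smul, smul_eq_mul]; have := hlQ' j; field_simp
  have hBd' : B d' u = Q d' := by rw [hQd', hd', QuadraticMap.polar_smul_left, smul_eq_mul]; ring
  have hQd0' : Q d' ≠ 0 := hQd' ▸ div_ne_zero (mul_ne_zero hj0 hj0) (hlQ' j)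
  rw [← hQd'] at hj
  by_cases hsum : Q d + Q d' = 1
  · exact hC.two_diff hu hab hdD hdD' hQd0 hQd0' hBd hBd' he (hside.imp_right And.left) hsum
  replace hj := hj.resolve_left hsum
  obtain ⟨w, hw, hw0, hmw⟩ := hC.exists_perp a (m (Q d + Q d'))
  have hQw := hC.aniso_of_perp hk (hmD _) hw hj hw0 hmw
  have hrel : (Q d + Q d') * B w x = (Q d + Q d' - 1) * B w d := by
    rw [hm, QuadraticMap.polar_comm, QuadraticMap.polar_sub_right, QuadraticMap.polar_smul_right,
      QuadraticMap.polar_smul_right, smul_eq_mul, smul_eq_mul, sub_eq_zero] at hmw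
    exact hmw
  have hne : B w x ≠ B w d := fun h => by
    rw [h] at hrel
    have h0 : B w d = 0 := by linear_combination hrel
    refine hw0 (perp_pair (Q := Q) (by rw [hC.dim, hk]) (hC.nd a) hxD hdD hind hw ?_ ?_) <;>
      rw [QuadraticMap.polar_comm]
    exacts [h.trans h0, h0]
  refine hC.two_image hu hab hdD hdD' hQd0 hQd0' hBd hBd' he hside hw hQw (by rwa [hBu w hw]) (by rwa [hBu w hw]) ?_
  rw [hBu w hw]
  intro h
  obtain ⟨b', hb'⟩ : ∃ b', b' = B w x - B w d := ⟨_, rfl⟩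
  rw [← hb'] at h
  have hwd : w = (-b') • d := by rw [neg_smul]; exact eq_neg_of_add_eq_zero_left h
  have e1 : B w x = -b' * Q d := by
    rw [hwd, QuadraticMap.polar_smul_left, smul_eq_mul, ← hBu d hdD, hBd]
  have e2 : B w d = -b' * (2 * Q d) := by rw [hwd, QuadraticMap.polar_smul_left, smul_eq_mul, polar_diag]
  have hb0 : b' ≠ 0 := hb' ▸ sub_ne_zero.2 hne
  refine hd1 (mul_left_cancel₀ hb0 ?_)
  linear_combination -hb' - e1 + e2

/-- A spread member of a large decomposition gives a member on two summands. -/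
theorem exists_two_member {u : V} (hu : Mem Q M D u) (hnb : ∀ b, u ∉ D b) {e : Fin t} (he : Wit Q D e u)
    (hne : ¬ (k = 2 ∧ Fintype.card F = 2)) : ∃ r : F, r ≠ 0 ∧ ∃ W, Mem (r • Q) M D W ∧ Two p W := by
  classical
  by_cases h3 : ∃ a b c, a ≠ b ∧ a ≠ c ∧ b ≠ c ∧ p a u ≠ 0 ∧ p b u ≠ 0 ∧ p c u ≠ 0
  swap
  · obtain ⟨f, f', hff, hf, hf'⟩ := hC.exists_two hnb
    refine ⟨1, one_ne_zero, u, by rwa [one_smul], f, f', hff, hf, hf', fun i hif hif' => ?_⟩
    by_contra h
    exact h3 ⟨f, f', i, hff, Ne.symm hif, Ne.symm hif', hf, hf', h⟩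
  obtain ⟨a, b, c, hab, hac, hbc, ha, hb, hc⟩ := h3
  by_cases hk : k = 2
  · have h4 : 4 ≤ Fintype.card F := by
      have := Fintype.one_lt_card (α := F)
      have := hC.card_three hk
      have := fun h => hne ⟨hk, h⟩
      omega
    rcases eq_or_ne e a with rfl | hea
    · exact hC.two_of_plane hk h4 hu hbc hb hc he (Or.inr ⟨hab, hac⟩)
    rcases eq_or_ne e b with rfl | heb
    · exact hC.two_of_plane hk h4 hu hac ha hc he (Or.inr ⟨Ne.symm hab, hbc⟩)
    exact hC.two_of_plane hk h4 hu hab ha hb he (Or.inr ⟨hea, heb⟩)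
  obtain ⟨h2, hk4⟩ := hC.char_two_of_four hk
  have hBu : ∀ {a : Fin t} {v : V}, v ∈ D a → B v u = B (p a u) v := fun {a v} hv => by
    rw [hC.polar_proj hv, QuadraticMap.polar_comm]
  by_cases hq : ∃ δ : F, δ ≠ 0 ∧ δ ≠ 1
  · obtain ⟨δ, h0, h1⟩ := hq
    obtain ⟨d, hd, hQd, hBd⟩ := hC.hyper hk4 h2 (hC.proj.mem a u) ha δ δ h0
    obtain ⟨d', hd', hQd', hBd'⟩ := hC.hyper hk4 h2 (hC.proj.mem b u) hb (1 - δ) (1 - δ) (sub_ne_zero.2 (Ne.symm h1))
    exact hC.two_diff hu hab hd hd' (hQd ▸ h0) (hQd' ▸ sub_ne_zero.2 (Ne.symm h1)) (by rw [hBu hd, hBd, hQd])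
      (by rw [hBu hd', hBd', hQd']) he (Or.inl h2) (by rw [hQd, hQd']; ring)
  push Not at hq
  have hq2 : Fintype.card F = 2 := by
    have : (Finset.univ : Finset F) = {0, 1} := by
      ext c; simp only [Finset.mem_univ, Finset.mem_insert, Finset.mem_singleton, true_iff]
      exact (em (c = 0)).imp_right (hq c)
    rw [← Finset.card_univ, this, Finset.card_pair zero_ne_one]
  obtain ⟨a', ha'⟩ : ∃ a', Q (p a' u) = 1 := by
    by_contra hcon
    push Not at hcon
    have h := hC.quad_sum u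
    rw [hu.1, Finset.sum_eq_zero fun i _ => by_contra fun h0 => hcon i (hq _ h0)] at h
    exact one_ne_zero h
  obtain ⟨b', hb', hub'⟩ : ∃ b', b' ≠ a' ∧ p b' u ≠ 0 := by
    rcases eq_or_ne a a' with rfl | h
    exacts [⟨b, Ne.symm hab, hb⟩, ⟨a, h, ha⟩]
  have hua : p a' u ≠ 0 := fun h => by rw [h, QuadraticMap.map_zero] at ha'; exact zero_ne_one ha'
  obtain ⟨d, hd, hQd, hBd⟩ := hC.hyper hk4 h2 (hC.proj.mem a' u) hua 1 1 one_ne_zero
  obtain ⟨d', hd', hQd', hBd'⟩ := hC.hyper hk4 h2 (hC.proj.mem b' u) hub' 1 1 one_ne_zero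
  obtain ⟨n, hn, hn0, hQn, hun, hdn⟩ := hC.sing_perp_two hk4 h2 hq2 (hC.proj.mem a' u) hd hBd ha' hQd
  have hwu : B (d + n) u = 1 := by
    rw [hBu ((D a').add_mem hd hn), QuadraticMap.polar_add_right, hBd, hun, add_zero]
  have hwd : B (d + n) d = 0 := by
    rw [QuadraticMap.polar_add_left, polar_diag, h2, zero_mul, zero_add, QuadraticMap.polar_comm, hdn]
  refine hC.two_image hu (Ne.symm hb') hd hd' (hQd ▸ one_ne_zero) (hQd' ▸ one_ne_zero) (by rw [hBu hd, hBd, hQd])
    (by rw [hBu hd', hBd', hQd']) he (Or.inl h2) ((D a').add_mem hd hn) ?_ ?_ (by rw [hwu, hwd]; exact one_ne_zero) ?_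
  · rw [QuadraticMap.map_add (f := Q), hQd, hQn, hdn, add_zero, add_zero]; exact one_ne_zero
  · rw [hQd, hQd', hwu, hwd, one_add_one_eq_two, h2, zero_mul, mul_zero]
  · rw [hwu, hwd, sub_zero, one_smul]
    intro h
    apply hn0
    have h' : (2 : F) • d + n = 0 := by rw [two_smul]; linear_combination (norm := module) h
    rwa [h2, zero_smul, zero_add] at h'

end Ctx

end Cfsg.Agent.Classical.OrthRef
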