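import Cfsg.Agent.Lib.Classical.MaxOrthPair

/-!
Overgroups of the stabiliser of a non-degenerate subspace in an orthogonal group, in every characteristic.
-/

set_option autoImplicit false
set_option linter.unusedSectionVars false
set_option quotPrecheck false

namespace Cfsg.Agent.Classical.MaxTv

open Matrix Module OrthAut

variable {F : Type*} [Field F] [Finite F] {ι : Type} [Fintype ι] [DecidableEq ι] {Q : QuadraticForm F (ι → F)}

local notation "V" => (ι → F)
local notation "Mn" => Matrix ι ι F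
local notation "B" => QuadraticMap.polar ⇑Q

/-- Non-degeneracy on a subspace. -/
def NdQ (Q : QuadraticForm F (ι → F)) (T : Submodule F (ι → F)) : Prop :=
  ∀ w ∈ T, w ≠ 0 → ∃ x ∈ T, QuadraticMap.polar ⇑Q w x ≠ 0

theorem ndQ_of_isNondegenerateOn {T : Submodule F V} (h : Geo.IsNondegenerateOn (QuadraticMap.polar ⇑Q) T) :
    NdQ Q T := fun w hw hw0 => (h w hw hw0).2

/-- A singular vector outside the radical, with a partner. -/
theorem exists_hyp_in {T : Submodule F V}
    (h : finrank F (T ⊓ LinearMap.BilinForm.orthogonal (QuadraticMap.polarBilin Q) T : Submodule F V) + 3 ≤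
      finrank F T) :
    ∃ e ∈ T, e ∉ LinearMap.BilinForm.orthogonal (QuadraticMap.polarBilin Q) T ∧ e ≠ 0 ∧ Q e = 0 ∧
      ∃ z ∈ T, B e z ≠ 0 := by
  set P := QuadraticMap.polarBilin Q with hP
  obtain ⟨C, hC⟩ := Submodule.exists_isCompl (T ⊓ LinearMap.BilinForm.orthogonal P T)
  have hnd : ∀ w ∈ T ⊓ C, w ≠ 0 → ∃ y ∈ T ⊓ C, P w y ≠ 0 := fun w hw hw0 => by
    by_contra hc
    push Not at hc
    have hwR : w ∈ T ⊓ LinearMap.BilinForm.orthogonal P T := ⟨hw.1, fun y hy => by
      obtain ⟨r, hr, c, hcC, rfl⟩ := Submodule.mem_sup.1 (hC.sup_eq_top ▸ Submodule.mem_top :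
        y ∈ (T ⊓ LinearMap.BilinForm.orthogonal P T) ⊔ C)
      show P (r + c) w = 0
      have hrw : P r w = 0 := by
        rw [hP, QuadraticMap.polarBilin_apply_apply, QuadraticMap.polar_comm]; exact hr.2 w hw.1
      rw [map_add, LinearMap.add_apply, hrw, zero_add, hP, QuadraticMap.polarBilin_apply_apply,
        QuadraticMap.polar_comm]
      refine hc c ⟨?_, hcC⟩
      have := T.sub_mem hy hr.1
      rwa [add_sub_cancel_left] at this⟩
    exact hw0 ((Submodule.mem_bot F).1 (hC.inf_eq_bot ▸ ⟨hwR, hw.2⟩))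
  have hd : 3 ≤ finrank F (T ⊓ C : Submodule F V) := by
    have h1 := Submodule.finrank_sup_add_finrank_inf_eq T C
    have h2 := Submodule.finrank_add_eq_of_isCompl hC
    have h3 := Submodule.finrank_le (T ⊔ C)
    omega
  obtain ⟨e, he, he0, hQe⟩ := exists_singular_in Q hnd hd
  obtain ⟨z, hz, hez⟩ := hnd e he he0
  exact ⟨e, he.1, fun hmem => hez (by
    rw [hP, QuadraticMap.polarBilin_apply_apply, QuadraticMap.polar_comm]; exact hmem z hz.1), he0, hQe, z, hz.1, hez⟩

/-- A singular vector of `T` pairing with `y`. -/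
theorem exists_sing_pairing {T : Submodule F V}
    (h : finrank F (T ⊓ LinearMap.BilinForm.orthogonal (QuadraticMap.polarBilin Q) T : Submodule F V) + 3 ≤
      finrank F T) {y : V} (hy : ∃ z ∈ T, B z y ≠ 0) : ∃ p ∈ T, Q p = 0 ∧ B p y ≠ 0 := by
  obtain ⟨e, he, -, -, hQe, z₀, hz₀, hez⟩ := exists_hyp_in h
  by_cases hey : B e y ≠ 0
  · exact ⟨e, he, hQe, hey⟩
  push Not at hey
  obtain ⟨z, hz, h1, h2⟩ := exists_both ((QuadraticMap.polarBilin Q) e) ((QuadraticMap.polarBilin Q).flip y)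
    ⟨z₀, hz₀, hez⟩ hy
  have h1' : B e z ≠ 0 := h1
  refine ⟨z + (-(Q z) / B e z) • e, T.add_mem hz (T.smul_mem _ he), ?_, ?_⟩
  · rw [quad_add, QuadraticMap.map_smul, hQe, QuadraticMap.polar_smul_right, QuadraticMap.polar_comm _ z e,
      smul_eq_mul, smul_eq_mul, div_mul_cancel₀ _ h1', mul_zero, add_zero, add_neg_cancel]
  · rw [QuadraticMap.polar_add_left, QuadraticMap.polar_smul_left, hey, smul_zero, add_zero]
    exact h2

/-- An overgroup of the stabiliser of the decomposition `W ⊕ U`. -/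
structure OSub (Q : QuadraticForm F (ι → F)) (M : Subgroup (GL ι F)) (W U : Submodule F (ι → F)) : Prop where
  nd : (QuadraticMap.polarBilin Q).Nondegenerate
  top : W ⊔ U = ⊤
  orth : ∀ w ∈ W, ∀ u ∈ U, QuadraticMap.polar ⇑Q w u = 0
  ndW : NdQ Q W
  ndU : NdQ Q U
  rootsW : ∀ a ∈ W, ∀ b ∈ W, Q a = 0 → QuadraticMap.polar ⇑Q a b = 0 →
    ∃ t ∈ M, (t : Matrix ι ι F) = eMat Q a b
  rootsU : ∀ a ∈ U, ∀ b ∈ U, Q a = 0 → QuadraticMap.polar ⇑Q a b = 0 →
    ∃ t ∈ M, (t : Matrix ι ι F) = eMat Q a b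
  iso : ∀ k ∈ M, ∀ x, Q ((k : Matrix ι ι F) *ᵥ x) = Q x
  dimW : 3 ≤ finrank F W

/-- Small summands must be irreducible for the stabiliser of a point of the other one. -/
def SmallIrr (Q : QuadraticForm F (ι → F)) (M : Subgroup (GL ι F)) (W U : Submodule F (ι → F)) : Prop :=
  finrank F U ≤ 2 → ∀ a ∈ W, Q a = 0 → ∀ R ≤ U, R ≠ ⊥ →
    (∀ t ∈ M, (t : Matrix ι ι F) *ᵥ a = a → (∀ u ∈ U, (t : Matrix ι ι F) *ᵥ u ∈ U) →
      ∀ r ∈ R, (t : Matrix ι ι F) *ᵥ r ∈ R) → R = U

/-- Scaling preserves full points. -/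
theorem full_smul_of {M : Subgroup (GL ι F)} {x : V} {c : F} (hc : c ≠ 0) (h : Full Q M x) :
    Full Q M (c • x) := by
  intro b hb
  rw [QuadraticMap.polar_smul_left, smul_eq_mul] at hb
  obtain ⟨t, ht, htx⟩ := h (c • b) (by
    rw [QuadraticMap.polar_smul_right, (mul_eq_zero.1 hb).resolve_left hc, smul_zero])
  refine ⟨t, ht, ?_⟩
  rw [htx]
  refine Matrix.ext_iff_mulVec.2 fun z => ?_
  rw [eMat_mulVec, eMat_mulVec]
  simp only [QuadraticMap.polar_smul_left, QuadraticMap.map_smul, smul_eq_mul, smul_smul]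
  ring_nf

/-- Two four-spaces in characteristic two, the first of plus and the second of minus type. -/
structure Four (Q : QuadraticForm F (ι → F)) (W U : Submodule F (ι → F)) : Prop where
  two : (2 : F) = 0
  dimW : finrank F W = 4
  dimU : finrank F U = 4
  plus : ∃ a ∈ W, ∃ b ∈ W, Q a = 0 ∧ Q b = 0 ∧ QuadraticMap.polar ⇑Q a b = 0 ∧ a ≠ 0 ∧
    b ∉ Submodule.span F {a}
  minus : ∀ a ∈ U, ∀ b ∈ U, Q a = 0 → Q b = 0 → QuadraticMap.polar ⇑Q a b = 0 → a ≠ 0 →
    b ∈ Submodule.span F {a}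

namespace OSub

variable {M : Subgroup (GL ι F)} {W U : Submodule F (ι → F)} (hp : OSub Q M W U)
include hp

theorem symm (h : 3 ≤ finrank F U) : OSub Q M U W where
  nd := hp.nd
  top := by rw [sup_comm, hp.top]
  orth u hu w hw := by rw [QuadraticMap.polar_comm]; exact hp.orth w hw u hu
  ndW := hp.ndU
  ndU := hp.ndW
  rootsW := hp.rootsU
  rootsU := hp.rootsW
  iso := hp.iso
  dimW := h

theorem inf_bot : W ⊓ U = ⊥ := (Submodule.eq_bot_iff _).2 fun x hx => by
  by_contra h0
  obtain ⟨y, hy, hxy⟩ := hp.ndU x hx.2 h0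
  exact hxy (hp.orth x hx.1 y hy)

theorem finrank_add : finrank F W + finrank F U = Fintype.card ι := by
  have h := Submodule.finrank_sup_add_finrank_inf_eq W U
  rw [hp.top, hp.inf_bot, finrank_bot, finrank_top, finrank_pi, add_zero] at h
  exact h.symm

/-- The radical of a subspace of `W` is small. -/
theorem radical_le {T : Submodule F V} (hT : T ≤ W) :
    finrank F (T ⊓ LinearMap.BilinForm.orthogonal (QuadraticMap.polarBilin Q) T : Submodule F V) +
      finrank F T ≤ finrank F W := by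
  have hle : T ⊓ LinearMap.BilinForm.orthogonal (QuadraticMap.polarBilin Q) T ≤
      LinearMap.BilinForm.orthogonal (QuadraticMap.polarBilin Q) (T ⊔ U) := by
    intro r hr y hy
    obtain ⟨t, ht, u, hu, rfl⟩ := Submodule.mem_sup.1 hy
    show B (t + u) r = 0
    have h1 : B t r = 0 := hr.2 t ht
    rw [QuadraticMap.polar_add_left, h1, zero_add, QuadraticMap.polar_comm]
    exact hp.orth r (hT hr.1) u hu
  have h1 := Submodule.finrank_mono hle
  rw [LinearMap.BilinForm.finrank_orthogonal hp.nd, finrank_pi] at h1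
  have h2 := Submodule.finrank_sup_add_finrank_inf_eq T U
  have h3 : T ⊓ U = ⊥ := le_bot_iff.1 (hp.inf_bot ▸ inf_le_inf_right U hT)
  rw [h3, finrank_bot, add_zero] at h2
  have := hp.finrank_add
  have := Submodule.finrank_le (T ⊔ U)
  rw [finrank_pi] at this
  omega

theorem finrank_cut (φ : V →ₗ[F] F) {T : Submodule F V} : finrank F T ≤ finrank F (T ⊓ LinearMap.ker φ : Submodule F V) + 1 :=
  finrank_le_inf_ker_add_one T φ

theorem decomp (x : V) : ∃ u ∈ W, ∃ v ∈ U, u + v = x :=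
  Submodule.mem_sup.1 (hp.top ▸ Submodule.mem_top : x ∈ W ⊔ U)

theorem radW : finrank F (W ⊓ LinearMap.BilinForm.orthogonal (QuadraticMap.polarBilin Q) W : Submodule F V) + 3 ≤
    finrank F W := by
  have := hp.radical_le (le_refl W)
  have := hp.dimW
  omega

/-- A singular vector of `W` pairing to one. -/
theorem exists_sing_one {y : V} (hy : y ∈ W) (hy0 : y ≠ 0) : ∃ p ∈ W, Q p = 0 ∧ B p y = 1 := by
  obtain ⟨z, hz, hzy⟩ := hp.ndW y hy hy0
  obtain ⟨p, hpW, hp0, hpy⟩ := exists_sing_pairing hp.radW (y := y)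
    ⟨z, hz, by rw [QuadraticMap.polar_comm]; exact hzy⟩
  exact ⟨(B p y)⁻¹ • p, W.smul_mem _ hpW, by rw [QuadraticMap.map_smul, hp0, smul_zero],
    by rw [QuadraticMap.polar_smul_left, smul_eq_mul, inv_mul_cancel₀ hpy]⟩

/-- The moves by the root elements of `W`. -/
theorem move {x : V} (hx : Q x = 0) {y : V} (hy : y ∈ CR (M := M) hx) {p c : V} (hpW : p ∈ W) (hc : c ∈ W)
    (hp0 : Q p = 0) (hpc : B p c = 0) (hpx : B p x = 0) (hcx : B c x = 0) :
    B p y • c - B c y • p - (Q c * B p y) • p ∈ CR (M := M) hx := by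
  obtain ⟨k, hk, hkx⟩ := hp.rootsW p hpW c hc hp0 hpc
  have kx : ∀ z, (k : Mn) *ᵥ z = z + B p z • c - B c z • p - (Q c * B p z) • p := fun z => by rw [hkx, eMat_mulVec]
  have hfix : (k : Mn) *ᵥ x = x := by rw [kx, hpx, hcx]; module
  have h3 : (k : Mn) *ᵥ y ∈ CR (M := M) hx := by
    refine ⟨?_, fun r => ?_⟩
    · have := hy.1
      rw [← isometry_polar (hp.iso k hk), hfix] at this
      exact this
    · obtain ⟨t, ht, htx⟩ := hy.2 r
      refine ⟨k * t * k⁻¹, mul_mem (mul_mem hk ht) (inv_mem hk), Matrix.ext_iff_mulVec.2 fun z => ?_⟩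
      obtain ⟨z', rfl⟩ : ∃ z', (k : Mn) *ᵥ z' = z := ⟨_, mulVec_inv_cancel k z⟩
      conv_rhs => rw [← hfix]
      rw [Units.val_mul, Units.val_mul, ← Matrix.mulVec_mulVec, ← Matrix.mulVec_mulVec, inv_mulVec_cancel, htx,
        Matrix.mulVec_mulVec, isometry_eMat (hp.iso k hk), ← Matrix.mulVec_mulVec, Matrix.mulVec_smul]
  have h4 := (CR (M := M) hx).sub_mem h3 hy
  rwa [kx, show y + B p y • c - B c y • p - (Q c * B p y) • p - y =
    B p y • c - B c y • p - (Q c * B p y) • p by abel] at h4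

/-- Inside a summand of dimension at least three one parameter gives all. -/
theorem spread {x : V} (hx : Q x = 0) (hxU : ∀ w ∈ W, B w x = 0) {y : V} (hy : y ∈ CR (M := M) hx)
    (hyW : y ∈ W) (hy0 : y ≠ 0) : ∀ w ∈ W, w ∈ CR (M := M) hx := by
  set R := CR (M := M) hx
  obtain ⟨z, hz, hzy⟩ := hp.ndW y hyW hy0
  obtain ⟨p, hpW, hp0, hpy⟩ := exists_sing_pairing hp.radW (y := y)
    ⟨z, hz, by rw [QuadraticMap.polar_comm]; exact hzy⟩
  set T := W ⊓ LinearMap.ker (QuadraticMap.polarBilin Q p) with hT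
  have hpne : p ≠ 0 := fun h => hpy (by rw [h]; simp)
  -- the combinations
  let L : V → V := fun c => B p y • c - B c y • p
  have hmv : ∀ c ∈ T, L c - (Q c * B p y) • p ∈ R := fun c hc =>
    hp.move hx hy hpW hc.1 hp0 hc.2 (hxU p hpW) (hxU c hc.1)
  have hscale : ∀ c ∈ T, ∀ t : F, (t * (1 - t) * (Q c * B p y)) • p ∈ R := fun c hc t => by
    have h1 := R.smul_mem t (hmv c hc)
    have h2 := hmv (t • c) (T.smul_mem t hc)
    have h3 := R.sub_mem h2 h1
    convert h3 using 1
    simp only [L, QuadraticMap.polar_smul_left, QuadraticMap.map_smul, smul_eq_mul]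
    module
  obtain ⟨c₀, hc₀, hQc₀⟩ : ∃ c ∈ T, Q c ≠ 0 := by
    by_contra hc
    push Not at hc
    have hle : T ≤ T ⊓ LinearMap.BilinForm.orthogonal (QuadraticMap.polarBilin Q) T := fun r hr =>
      ⟨hr, fun s hs => polar_zero_of_sing hc hs hr⟩
    have h1 := Submodule.finrank_mono hle
    have h2 := hp.radical_le (T := T) inf_le_left
    have h3 := finrank_le_inf_ker_add_one W (QuadraticMap.polarBilin Q p)
    rw [← hT] at h3
    have := hp.dimW
    omega
  have hpR : p ∈ R := by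
    by_cases h : ∃ t : F, t * (1 - t) ≠ 0
    · obtain ⟨t, ht⟩ := h
      exact (R.smul_mem_iff (mul_ne_zero ht (mul_ne_zero hQc₀ hpy))).1 (hscale c₀ hc₀ t)
    push Not at h
    have hF : ∀ t : F, t ≠ 0 → t = 1 := fun t ht =>
      (sub_eq_zero.1 ((mul_eq_zero.1 (h t)).resolve_left ht)).symm
    have h11 : (1 : F) + 1 = 0 := by
      by_contra hne
      have := hF _ hne
      exact one_ne_zero (left_eq_add.1 this.symm)
    -- two parameters with pairing one
    obtain ⟨a, ha, b, hb, hab⟩ : ∃ a ∈ T, ∃ b ∈ T, B a b ≠ 0 := by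
      by_contra hc
      push Not at hc
      have hle : T ≤ T ⊓ LinearMap.BilinForm.orthogonal (QuadraticMap.polarBilin Q) T := fun r hr =>
        ⟨hr, fun s hs => hc s hs r hr⟩
      have h1 := Submodule.finrank_mono hle
      have h2 := hp.radical_le (T := T) inf_le_left
      have h3 := finrank_le_inf_ker_add_one W (QuadraticMap.polarBilin Q p)
      rw [← hT] at h3
      have := hp.dimW
      omega
    have h3 := R.sub_mem (R.sub_mem (hmv (a + b) (T.add_mem ha hb)) (hmv a ha)) (hmv b hb)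
    have e : L (a + b) - (Q (a + b) * B p y) • p - (L a - (Q a * B p y) • p) - (L b - (Q b * B p y) • p) =
        -(B a b * B p y) • p := by
      simp only [L, QuadraticMap.polar_add_left, quad_add]
      module
    rw [e] at h3
    exact (R.smul_mem_iff (neg_ne_zero.2 (mul_ne_zero hab hpy))).1 h3
  have hTR : ∀ c ∈ T, c ∈ R := fun c hc => by
    have h1 := R.add_mem (hmv c hc) (R.smul_mem (B c y + Q c * B p y) hpR)
    rw [show L c - (Q c * B p y) • p + (B c y + Q c * B p y) • p = B p y • c by simp only [L]; module] at h1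
    exact (R.smul_mem_iff hpy).1 h1
  intro w hw
  have h1 := hTR (w - (B p w / B p y) • y) ⟨W.sub_mem hw (W.smul_mem _ hyW), by
    rw [SetLike.mem_coe, LinearMap.mem_ker, map_sub, map_smul]
    show B p w - (B p w / B p y) * B p y = 0
    rw [div_mul_cancel₀ _ hpy, sub_self]⟩
  have h2 := R.add_mem h1 (R.smul_mem (B p w / B p y) hy)
  rwa [sub_add_cancel] at h2

/-- A parameter outside `W` gives all of them. -/
theorem upgrade (hirr : SmallIrr Q M W U) {a : V} (ha : a ∈ W) (ha0 : Q a = 0) {d : V}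
    (hd : d ∈ CR (M := M) ha0) (hdW : d ∉ W) : Full Q M a := by
  set R := CR (M := M) ha0
  have hW : ∀ b ∈ W, B a b = 0 → b ∈ R := fun b hb hab => ⟨hab, fun r =>
    hp.rootsW a ha (r • b) (W.smul_mem r hb) ha0 (by rw [QuadraticMap.polar_smul_right, hab, smul_zero])⟩
  obtain ⟨d₁, h₁, d₂, h₂, rfl⟩ := hp.decomp d
  have hd₂ : d₂ ≠ 0 := fun h => hdW (by rw [h, add_zero]; exact h₁)
  have hd₁ : B a d₁ = 0 := by
    have := hd.1
    rwa [QuadraticMap.polar_add_right, hp.orth a ha d₂ h₂, add_zero] at this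
  have hd₂R : d₂ ∈ R := by
    have := R.sub_mem hd (hW d₁ h₁ hd₁)
    rwa [add_sub_cancel_left] at this
  have hUR : ∀ u ∈ U, u ∈ R := by
    by_cases h3 : 3 ≤ finrank F U
    · exact (hp.symm h3).spread ha0 (fun w hw => by rw [QuadraticMap.polar_comm]; exact hp.orth a ha w hw) hd₂R h₂ hd₂
    have hRU : U ⊓ R = U := hirr (by omega) a ha ha0 (U ⊓ R) inf_le_left
      (fun h => hd₂ ((Submodule.mem_bot F).1 (h ▸ ⟨h₂, hd₂R⟩))) fun t ht hta htU r hr => ⟨htU r hr.1, ⟨?_, fun c => ?_⟩⟩
    · exact fun u hu => (hRU.ge hu).2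
    · have := hr.2.1
      rw [← isometry_polar (hp.iso t ht), hta] at this
      exact this
    · obtain ⟨s, hs, hsx⟩ := hr.2.2 c
      refine ⟨t * s * t⁻¹, mul_mem (mul_mem ht hs) (inv_mem ht), Matrix.ext_iff_mulVec.2 fun z => ?_⟩
      obtain ⟨z', rfl⟩ : ∃ z', (t : Mn) *ᵥ z' = z := ⟨_, mulVec_inv_cancel t z⟩
      conv_rhs => rw [← hta]
      rw [Units.val_mul, Units.val_mul, ← Matrix.mulVec_mulVec, ← Matrix.mulVec_mulVec, inv_mulVec_cancel, hsx,
        Matrix.mulVec_mulVec, isometry_eMat (hp.iso t ht), ← Matrix.mulVec_mulVec, Matrix.mulVec_smul]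
  intro b hb
  obtain ⟨b₁, e₁, b₂, e₂, rfl⟩ := hp.decomp b
  rw [QuadraticMap.polar_add_right, hp.orth a ha b₂ e₂, add_zero] at hb
  obtain ⟨t, ht, htx⟩ := (R.add_mem (hW b₁ e₁ hb) (hUR b₂ e₂)).2 1
  exact ⟨t, ht, by rw [htx, one_smul]⟩

omit hp in
theorem mem_CR_swap {a x : V} (ha : Q a = 0) (hx : Q x = 0) (h : a ∈ CR (M := M) hx) : x ∈ CR (M := M) ha := by
  refine ⟨by rw [QuadraticMap.polar_comm]; exact h.1, fun r => ?_⟩
  obtain ⟨t, ht, htx⟩ := h.2 (-r)
  refine ⟨t, ht, ?_⟩
  rw [htx, neg_smul, eMat_swap hx (by rw [QuadraticMap.map_smul, ha, smul_zero]), eMat_smul_left]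

omit hp in
theorem mem_CR_of_full {a : V} (ha : Q a = 0) (h : Full Q M a) {b : V} (hb : B a b = 0) : b ∈ CR (M := M) ha :=
  ⟨hb, fun r => h (r • b) (by rw [QuadraticMap.polar_smul_right, hb, smul_zero])⟩

/-- The parameters of a point of `W` are carried along by `M`. -/
theorem cr_conj {g : GL ι F} (hg : g ∈ M) {p b : V} (hp' : p ∈ W) (hb : b ∈ W) (hQp : Q p = 0) (hpb : B p b = 0)
    {x : V} (hgx : (g : Mn) *ᵥ p = x) (hx : Q x = 0) : (g : Mn) *ᵥ b ∈ CR (M := M) hx := by
  subst hgx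
  refine ⟨by rw [isometry_polar (hp.iso g hg)]; exact hpb, fun r => ?_⟩
  obtain ⟨t, ht, htx⟩ := hp.rootsW p hp' (r • b) (W.smul_mem r hb) hQp
    (by rw [QuadraticMap.polar_smul_right, hpb, smul_zero])
  refine ⟨g * t * g⁻¹, mul_mem (mul_mem hg ht) (inv_mem hg), Matrix.ext_iff_mulVec.2 fun z => ?_⟩
  obtain ⟨z', rfl⟩ : ∃ z', (g : Mn) *ᵥ z' = z := ⟨_, mulVec_inv_cancel g z⟩
  rw [Units.val_mul, Units.val_mul, ← Matrix.mulVec_mulVec, ← Matrix.mulVec_mulVec, inv_mulVec_cancel, htx,
    Matrix.mulVec_mulVec, isometry_eMat (hp.iso g hg), ← Matrix.mulVec_mulVec, Matrix.mulVec_smul]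

/-- A full point makes all points of `W` full. -/
theorem full_W {a : V} (ha : a ∈ W) (ha0 : a ≠ 0) (hQa : Q a = 0) (h : Full Q M a) :
    ∀ y ∈ W, Q y = 0 → Full Q M y := by
  -- move a full point to any point pairing with it
  have step : ∀ a ∈ W, Q a = 0 → Full Q M a → ∀ y ∈ W, Q y = 0 → B a y ≠ 0 → Full Q M y := by
    intro a ha hQa h y hy hQy hay
    have hya : B y a ≠ 0 := by rw [QuadraticMap.polar_comm]; exact hay
    set T := W ⊓ LinearMap.ker ((QuadraticMap.polarBilin Q) a) ⊓ LinearMap.ker ((QuadraticMap.polarBilin Q) y) with hT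
    obtain ⟨w, hw, hQw⟩ : ∃ w ∈ T, Q w ≠ 0 := by
      by_contra hc
      push Not at hc
      have hle : T ≤ T ⊓ LinearMap.BilinForm.orthogonal (QuadraticMap.polarBilin Q) T := fun r hr =>
        ⟨hr, fun s hs => polar_zero_of_sing hc hs hr⟩
      have h1 := Submodule.finrank_mono hle
      have d1 := finrank_le_inf_ker_add_one W ((QuadraticMap.polarBilin Q) a)
      have d2 := finrank_le_inf_ker_add_one (W ⊓ LinearMap.ker ((QuadraticMap.polarBilin Q) a))
        ((QuadraticMap.polarBilin Q) y)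
      rw [← hT] at d2
      have hrad : ∀ r ∈ T, r = 0 := fun r hr => by
        by_contra hr0
        obtain ⟨s, hs, hrs⟩ := hp.ndW r hr.1.1 hr0
        obtain ⟨s', hs'⟩ : ∃ s', s' = s - (B y s / B y a) • a - (B a s / B a y) • y := ⟨_, rfl⟩
        have hsT : s' ∈ T := by
          refine ⟨⟨hs' ▸ W.sub_mem (W.sub_mem hs (W.smul_mem _ ha)) (W.smul_mem _ hy), ?_⟩, ?_⟩
          · show B a s' = 0
            rw [hs', QuadraticMap.polar_sub_right, QuadraticMap.polar_sub_right, QuadraticMap.polar_smul_right,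
              QuadraticMap.polar_smul_right, OrthAut.polar_self' hQa, smul_zero, sub_zero, smul_eq_mul,
              div_mul_cancel₀ _ hay, sub_self]
          · show B y s' = 0
            rw [hs', QuadraticMap.polar_sub_right, QuadraticMap.polar_sub_right, QuadraticMap.polar_smul_right,
              QuadraticMap.polar_smul_right, OrthAut.polar_self' hQy, smul_zero, sub_zero, smul_eq_mul,
              div_mul_cancel₀ _ hya, sub_self]
        have h5 : B r s' = 0 := polar_zero_of_sing hc hr hsT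
        rw [hs', QuadraticMap.polar_sub_right, QuadraticMap.polar_sub_right, QuadraticMap.polar_smul_right,
          QuadraticMap.polar_smul_right, QuadraticMap.polar_comm _ r a, show B a r = 0 from hr.1.2,
          QuadraticMap.polar_comm _ r y, show B y r = 0 from hr.2, smul_zero, sub_zero, smul_zero, sub_zero] at h5
        exact hrs h5
      rw [(Submodule.eq_bot_iff T).2 hrad, finrank_bot] at d2
      have := hp.dimW
      omega
    -- a point pairing with both
    have hwa : B a w = 0 := hw.1.2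
    have hwy : B y w = 0 := hw.2
    obtain ⟨k, hk⟩ : ∃ k, k = -Q w / B a y := ⟨_, rfl⟩
    obtain ⟨p, hpdef⟩ : ∃ p, p = a + k • y + w := ⟨_, rfl⟩
    have hpW : p ∈ W := hpdef ▸ W.add_mem (W.add_mem ha (W.smul_mem _ hy)) hw.1.1
    have hQp : Q p = 0 := by
      rw [hpdef, quad_add, quad_add, hQa, QuadraticMap.map_smul, hQy, QuadraticMap.polar_smul_right,
        QuadraticMap.polar_add_left, hwa, QuadraticMap.polar_smul_left, hwy]
      simp only [smul_eq_mul, mul_zero, add_zero, zero_add]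
      rw [hk, div_mul_cancel₀ _ hay, neg_add_cancel]
    have hpa : B p a = k * B a y := by
      rw [hpdef, QuadraticMap.polar_add_left, QuadraticMap.polar_add_left, OrthAut.polar_self' hQa,
        QuadraticMap.polar_smul_left, QuadraticMap.polar_comm _ w a, hwa, smul_eq_mul, QuadraticMap.polar_comm _ y a]
      ring
    have hk0 : k ≠ 0 := hk ▸ div_ne_zero (neg_ne_zero.2 hQw) hay
    have hpy : B p y = B a y := by
      rw [hpdef, QuadraticMap.polar_add_left, QuadraticMap.polar_add_left, QuadraticMap.polar_smul_left,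
        OrthAut.polar_self' hQy, QuadraticMap.polar_comm _ w y, hwy, smul_zero, add_zero, add_zero]
    obtain ⟨f, hf⟩ : ∃ f, f = (k * B a y)⁻¹ • a := ⟨_, rfl⟩
    obtain ⟨r, hr⟩ : ∃ r, r = (B a y)⁻¹ • y := ⟨_, rfl⟩
    have hpf : B p f = 1 := by
      rw [hf, QuadraticMap.polar_smul_right, smul_eq_mul, hpa, inv_mul_cancel₀ (mul_ne_zero hk0 hay)]
    have hpr : B p r = 1 := by rw [hr, QuadraticMap.polar_smul_right, smul_eq_mul, hpy, inv_mul_cancel₀ hay]
    have hQf : Q f = 0 := by rw [hf, QuadraticMap.map_smul, hQa, smul_zero]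
    have hQr : Q r = 0 := by rw [hr, QuadraticMap.map_smul, hQy, smul_zero]
    obtain ⟨s, hs, hsx⟩ := hp.rootsW p hpW (r - f) (W.sub_mem (hr ▸ W.smul_mem _ hy) (hf ▸ W.smul_mem _ ha)) hQp
      (by rw [QuadraticMap.polar_sub_right, hpr, hpf, sub_self])
    have himg : (s : Mn) *ᵥ f = r := by
      have hb : B (r - f) f + Q (r - f) = 0 := by
        have h1 : Q (f + (r - f)) = Q r := by rw [add_sub_cancel]
        rw [quad_add, hQf, hQr, zero_add, QuadraticMap.polar_comm] at h1
        linear_combination h1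
      rw [hsx, eMat_mulVec, hpf, one_smul, mul_one, sub_sub, ← add_smul, hb, zero_smul, sub_zero, add_sub_cancel]
    have h2 := full_map hp.iso (show Full Q M f from hf ▸ (full_smul_of (inv_ne_zero (mul_ne_zero hk0 hay)) h)) hs
    rw [himg, hr] at h2
    have h3 := full_smul_of hay h2
    rwa [smul_inv_smul₀ hay] at h3
  intro y hy hQy
  rcases eq_or_ne y 0 with rfl | hy0
  · exact full_zero
  obtain ⟨c₁, h₁, hQ₁, e₁⟩ := hp.exists_sing_one ha ha0
  obtain ⟨c₂, h₂, hQ₂, e₂⟩ := hp.exists_sing_one hy hy0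
  have n1 : B a c₁ ≠ 0 := by rw [QuadraticMap.polar_comm, e₁]; exact one_ne_zero
  have n2 : B c₂ y ≠ 0 := by rw [e₂]; exact one_ne_zero
  by_cases f : B c₁ c₂ = 0
  swap
  · exact step c₂ h₂ hQ₂ (step c₁ h₁ hQ₁ (step a ha hQa h c₁ h₁ hQ₁ n1) c₂ h₂ hQ₂ f) y hy hQy n2
  by_cases f2 : B a c₂ = 0
  swap
  · exact step c₂ h₂ hQ₂ (step a ha hQa h c₂ h₂ hQ₂ f2) y hy hQy n2
  by_cases f1 : B c₁ y = 0
  swap
  · exact step c₁ h₁ hQ₁ (step a ha hQa h c₁ h₁ hQ₁ n1) y hy hQy f1
  have hQc : Q (c₁ + c₂) = 0 := by rw [quad_add, hQ₁, hQ₂, f, add_zero, add_zero]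
  exact step _ (W.add_mem h₁ h₂) hQc (step a ha hQa h _ (W.add_mem h₁ h₂) hQc
    (by rw [QuadraticMap.polar_add_right, f2, add_zero]; exact n1)) y hy hQy
    (by rw [QuadraticMap.polar_add_left, f1, zero_add]; exact n2)

theorem full_all (hirr' : SmallIrr Q M U W) (hW : ∀ y ∈ W, Q y = 0 → Full Q M y) {x : V} (hx : Q x = 0) :
    Full Q M x := by
  obtain ⟨u, hu, v, hv, rfl⟩ := hp.decomp x
  rcases eq_or_ne v 0 with rfl | hv0
  · rw [add_zero] at hx ⊢; exact hW u hu hx
  rcases eq_or_ne u 0 with rfl | hu0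
  · rw [zero_add] at hx ⊢
    by_cases h3 : 3 ≤ finrank F U
    · obtain ⟨a, ha, -, ha0, hQa, -⟩ := exists_hyp_in hp.radW
      refine (hp.symm h3).upgrade hirr' hv hx (mem_CR_swap hx hQa (mem_CR_of_full hQa (hW a ha hQa)
        (hp.orth a ha v hv))) fun hmem => ha0 ?_
      have h2 : a ∈ W ⊓ U := ⟨ha, hmem⟩
      rw [hp.inf_bot] at h2
      exact h2
    · -- a short singular vector: move it off the summand
      obtain ⟨a, ha, -, ha0, hQa, z, hz, haz⟩ := exists_hyp_in hp.radW
      obtain ⟨b, hb, hvb⟩ := hp.ndU v hv hv0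
      obtain ⟨k, hk, hkx⟩ := hW a ha hQa b (hp.orth a ha b hb)
      have hkv : (k : Mn) *ᵥ v = (-(B b v)) • a + v := by
        rw [hkx, eMat_mulVec, hp.orth a ha v hv]; module
      have hbv : B b v ≠ 0 := by rw [QuadraticMap.polar_comm]; exact hvb
      have hmove : Full Q M ((k : Mn) *ᵥ v) := by
        rw [hkv]
        obtain ⟨f, hf, hQf, hfa⟩ := hp.exists_sing_one (W.smul_mem (-(B b v)) ha)
          (smul_ne_zero (neg_ne_zero.2 hbv) ha0)
        obtain ⟨f', hf', hQf', hff'⟩ := hp.exists_sing_one hf (fun h0 => by rw [h0] at hfa; simp at hfa)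
        obtain ⟨s, hs, hsx⟩ := hW f hf hQf ((-(B b v)) • a + v - f') (by
          rw [QuadraticMap.polar_sub_right, QuadraticMap.polar_add_right, hfa, hp.orth f hf v hv, add_zero,
            QuadraticMap.polar_comm _ f f', hff', sub_self])
        have := full_map hp.iso (hW f' hf' hQf') hs
        convert this using 1
        rw [hsx, eMat_mulVec, QuadraticMap.polar_comm _ f f', hff', one_smul]
        have hQv : Q ((-(B b v)) • a + v) = 0 := by
          rw [quad_add, QuadraticMap.map_smul, hQa, hx, QuadraticMap.polar_smul_left, hp.orth a ha v hv]; simp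
        have e1 : Q ((-(B b v)) • a + v - f') = -B ((-(B b v)) • a + v) f' := by
          rw [sub_eq_add_neg, quad_add, hQv, QuadraticMap.map_neg, hQf', QuadraticMap.polar_neg_right]; ring
        have e2 : B ((-(B b v)) • a + v - f') f' = B ((-(B b v)) • a + v) f' := by
          rw [QuadraticMap.polar_sub_left, polar_self2, hQf', mul_zero, sub_zero]
        rw [e1, e2]; module
      have := full_map hp.iso hmove (inv_mem hk)
      rwa [inv_mulVec_cancel] at this
  obtain ⟨a, ha, hQa, hau⟩ := hp.exists_sing_one hu hu0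
  obtain ⟨f, hf, hQf, hfa⟩ := hp.exists_sing_one ha (fun h => by rw [h] at hau; simp at hau)
  obtain ⟨s, hs, hsx⟩ := hW a ha hQa (u + v - f) (by
    rw [QuadraticMap.polar_sub_right, QuadraticMap.polar_add_right, hau, hp.orth a ha v hv, add_zero,
      QuadraticMap.polar_comm _ a f, hfa, sub_self])
  have := full_map hp.iso (hW f hf hQf) hs
  convert this using 1
  rw [hsx, eMat_mulVec, QuadraticMap.polar_comm _ a f, hfa, one_smul]
  have e1 : Q (u + v - f) = -B (u + v) f := by
    rw [sub_eq_add_neg, quad_add, hx, QuadraticMap.map_neg, hQf, QuadraticMap.polar_neg_right]; ring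
  have e2 : B (u + v - f) f = B (u + v) f := by rw [QuadraticMap.polar_sub_left, polar_self2, hQf, mul_zero, sub_zero]
  rw [e1, e2]; module

omit hp in
/-- A symmetric pair of four-spaces in characteristic two, one of plus and one of minus type. -/
theorem four_symm_irr (hf : Four Q W U) : SmallIrr Q M U W := fun h => absurd h (by rw [hf.dimW]; omega)

/-- A singular vector of `U` among the parameters of a mixed point gives a full point of `W`. -/
theorem full_of_mem_U (hf : Four Q W U) {u v : V} (hu : u ∈ W) (hu0 : u ≠ 0) (hv : v ∈ U) (hx : Q (u + v) = 0)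
    {q : V} (hq : q ∈ U) (hq0 : q ≠ 0) (hQq : Q q = 0) (hqx : q ∈ CR (M := M) hx) :
    ∃ a ∈ W, a ≠ 0 ∧ Q a = 0 ∧ Full Q M a := by
  have hU := hp.symm (by rw [hf.dimU]; norm_num)
  have hirr : SmallIrr Q M U W := four_symm_irr hf
  have hirr' : SmallIrr Q M W U := fun h => absurd h (by rw [hf.dimU]; omega)
  have hfull := hU.upgrade hirr hq hQq (mem_CR_swap hQq hx hqx) fun hmem => hu0 (by
    have h2 : u ∈ W ⊓ U := ⟨hu, by simpa using U.sub_mem hmem hv⟩
    rw [hp.inf_bot] at h2
    exact h2)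
  obtain ⟨a, ha, -, ha0, hQa, -⟩ := exists_hyp_in hp.radW
  exact ⟨a, ha, ha0, hQa, hU.full_all hirr' (hU.full_W hq hq0 hQq hfull) hQa⟩

/-- A singular vector of `W` among the parameters of a mixed point gives a full point. -/
theorem full_of_mem_W (hf : Four Q W U) {u v : V} (hu : u ∈ W) (hv : v ∈ U) (hv0 : v ≠ 0) (hx : Q (u + v) = 0)
    {a : V} (ha : a ∈ W) (ha0 : a ≠ 0) (hQa : Q a = 0) (hax : a ∈ CR (M := M) hx) :
    ∃ a ∈ W, a ≠ 0 ∧ Q a = 0 ∧ Full Q M a := by
  refine ⟨a, ha, ha0, hQa, hp.upgrade (fun h => absurd h (by rw [hf.dimU]; omega)) ha hQa (mem_CR_swap hQa hx hax)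
    fun hmem => hv0 ?_⟩
  have h2 : v ∈ W ⊓ U := ⟨by simpa using W.sub_mem hmem hu, hv⟩
  rw [hp.inf_bot] at h2
  exact h2

/-- In characteristic two a singular vector perpendicular to a parameter and to the part of the point is one. -/
theorem mem_of_perp (h2 : (2 : F) = 0) {u v : V} (hu : u ∈ W) (hv : v ∈ U) (hx : Q (u + v) = 0) {y₁ y₂ : V}
    (hy₁ : y₁ ∈ W) (hy₂ : y₂ ∈ U) (hy : y₁ + y₂ ∈ CR (M := M) hx) (huy : B u y₁ ≠ 0) {p : V} (hp' : p ∈ W)
    (hQp : Q p = 0) (hpu : B p u = 0) (hpy : B p y₁ = 0) : p ∈ CR (M := M) hx := by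
  have hW : ∀ w ∈ W, B w (u + v) = B w u ∧ B w (y₁ + y₂) = B w y₁ := fun w hw => by
    rw [QuadraticMap.polar_add_right, QuadraticMap.polar_add_right, hp.orth w hw v hv, hp.orth w hw y₂ hy₂]
    simp
  have h := hp.move hx hy hp' hu hQp hpu (by rw [(hW p hp').1, hpu])
    (by rw [(hW u hu).1, polar_self2, h2, zero_mul])
  rw [(hW p hp').2, hpy, (hW u hu).2, zero_smul, zero_sub, mul_zero, zero_smul, sub_zero, ← neg_smul] at h
  exact ((CR (M := M) hx).smul_mem_iff (neg_ne_zero.2 huy)).1 h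

/-- The basis of a plus type four-space through an anisotropic vector, characteristic two. -/
theorem four_basis (hf : Four Q W U) {u : V} (hu : u ∈ W) (hQu : Q u ≠ 0) :
    ∃ a ∈ W, ∃ b ∈ W, ∃ s ∈ W, Q a = 0 ∧ Q b = 0 ∧ Q s = 0 ∧ B a b = 1 ∧ B u s = 1 ∧ B u a = 0 ∧ B u b = 0 ∧
      B a s = 0 ∧ B b s = 0 ∧ ∀ w ∈ W, w = B b w • a + B a w • b + B s w • u + B u w • s := by
  have h2 := hf.two
  have huu : B u u = 0 := by rw [polar_self2, h2, zero_mul]
  obtain ⟨e₁, he₁, e₂, he₂, hQ₁, hQ₂, h12, he₁0, hind⟩ := hf.plus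
  have hli : ∀ s t : F, s • e₁ + t • e₂ = 0 → s = 0 ∧ t = 0 := fun s t h => by
    have ht : t = 0 := by
      by_contra ht
      refine hind (Submodule.mem_span_singleton.2 ⟨-(t⁻¹ * s), ?_⟩)
      rw [neg_smul, mul_smul, ← smul_neg, inv_smul_eq_iff₀ ht, neg_eq_iff_add_eq_zero, h]
    rw [ht, zero_smul, add_zero, smul_eq_zero] at h
    exact ⟨h.resolve_right he₁0, ht⟩
  have hpair : B u e₁ ≠ 0 ∨ B u e₂ ≠ 0 := by
    by_contra hc
    push Not at hc
    set T := Submodule.span F {e₁, e₂} ⊔ Submodule.span F {u} with hT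
    have hTW : T ≤ W := sup_le (Submodule.span_le.2 (by simp [Set.insert_subset_iff, he₁, he₂]))
      ((Submodule.span_singleton_le_iff_mem u W).2 hu)
    have hpol : ∀ r ∈ T, ∀ t ∈ T, B t r = 0 := by
      intro r hr t ht
      obtain ⟨r', hr', k, hk, rfl⟩ := Submodule.mem_sup.1 hr
      obtain ⟨t', ht', l, hl, rfl⟩ := Submodule.mem_sup.1 ht
      obtain ⟨k, rfl⟩ := Submodule.mem_span_singleton.1 hk
      obtain ⟨l, rfl⟩ := Submodule.mem_span_singleton.1 hl
      obtain ⟨α, β, rfl⟩ := Submodule.mem_span_pair.1 hr'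
      obtain ⟨γ, δ, rfl⟩ := Submodule.mem_span_pair.1 ht'
      simp [QuadraticMap.polar_add_left, QuadraticMap.polar_add_right, QuadraticMap.polar_smul_left,
        QuadraticMap.polar_smul_right, polar_self2, h2, h12, QuadraticMap.polar_comm _ e₂ e₁, hc.1, hc.2,
        QuadraticMap.polar_comm _ e₁ u, QuadraticMap.polar_comm _ e₂ u]
    have h1 := Submodule.finrank_mono (show T ≤ T ⊓ LinearMap.BilinForm.orthogonal (QuadraticMap.polarBilin Q) T from
      fun r hr => ⟨hr, fun t ht => hpol r hr t ht⟩)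
    have h3 := hp.radical_le hTW
    have hu' : u ∉ Submodule.span F {e₁, e₂} := fun hm => by
      obtain ⟨α, β, rfl⟩ := Submodule.mem_span_pair.1 hm
      refine hQu ?_
      rw [quad_add, QuadraticMap.map_smul, QuadraticMap.map_smul, hQ₁, hQ₂, QuadraticMap.polar_smul_left,
        QuadraticMap.polar_smul_right, h12]
      simp
    have hfr : finrank F (Submodule.span F ({e₁, e₂} : Set V)) = 2 := by
      have hl : LinearIndependent F ![e₁, e₂] := LinearIndependent.pair_iff.2 hli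
      have := finrank_span_eq_card hl
      rwa [Matrix.range_cons_cons_empty, Fintype.card_fin] at this
    rw [hT, Submodule.finrank_sup_span_singleton hu', hfr, ← hT] at h3
    rw [hT, Submodule.finrank_sup_span_singleton hu', hfr, ← hT] at h1
    rw [hf.dimW] at h3
    omega
  obtain ⟨a, haW, ha0, hQa, hua, s, hsW, hQs, hus, has⟩ : ∃ a ∈ W, a ≠ 0 ∧ Q a = 0 ∧ B u a = 0 ∧
      ∃ s ∈ W, Q s = 0 ∧ B u s = 1 ∧ B a s = 0 := by
    have hsing : ∀ α β : F, Q (α • e₁ + β • e₂) = 0 := fun α β => by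
      rw [quad_add, QuadraticMap.map_smul, QuadraticMap.map_smul, hQ₁, hQ₂, QuadraticMap.polar_smul_left,
        QuadraticMap.polar_smul_right, h12]
      simp
    have hperp : ∀ α β γ δ : F, B (α • e₁ + β • e₂) (γ • e₁ + δ • e₂) = 0 := fun α β γ δ => by
      simp [QuadraticMap.polar_add_left, QuadraticMap.polar_add_right, QuadraticMap.polar_smul_left,
        QuadraticMap.polar_smul_right, polar_self2, h2, h12, QuadraticMap.polar_comm _ e₂ e₁]
    obtain ⟨γ, δ, hγδ⟩ : ∃ γ δ : F, γ * B u e₁ + δ * B u e₂ = 1 := by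
      rcases hpair with h | h
      · exact ⟨(B u e₁)⁻¹, 0, by rw [inv_mul_cancel₀ h, zero_mul, add_zero]⟩
      · exact ⟨0, (B u e₂)⁻¹, by rw [inv_mul_cancel₀ h, zero_mul, zero_add]⟩
    refine ⟨B u e₂ • e₁ + (-(B u e₁)) • e₂, W.add_mem (W.smul_mem _ he₁) (W.smul_mem _ he₂), fun h => ?_,
      hsing _ _, ?_, γ • e₁ + δ • e₂, W.add_mem (W.smul_mem _ he₁) (W.smul_mem _ he₂), hsing _ _, ?_, hperp _ _ _ _⟩
    · obtain ⟨h3, h4⟩ := hli _ _ h
      exact hpair.elim (fun k => k (neg_eq_zero.1 h4)) fun k => k h3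
    · rw [QuadraticMap.polar_add_right, QuadraticMap.polar_smul_right, QuadraticMap.polar_smul_right, smul_eq_mul,
        smul_eq_mul]
      ring
    · rw [QuadraticMap.polar_add_right, QuadraticMap.polar_smul_right, QuadraticMap.polar_smul_right, smul_eq_mul,
        smul_eq_mul, hγδ]
  obtain ⟨b, hbW, hab, hub, hbs, hQb⟩ : ∃ b ∈ W, B a b = 1 ∧ B u b = 0 ∧ B b s = 0 ∧ Q b = 0 := by
    obtain ⟨z, hz, haz⟩ := hp.ndW a haW ha0
    obtain ⟨z', hz'⟩ : ∃ z', z' = (B a z)⁻¹ • z := ⟨_, rfl⟩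
    have haz' : B a z' = 1 := by rw [hz', QuadraticMap.polar_smul_right, smul_eq_mul, inv_mul_cancel₀ haz]
    have hzW : z' ∈ W := hz' ▸ W.smul_mem _ hz
    obtain ⟨w, hw⟩ : ∃ w, w = z' - B u z' • s - B s z' • u := ⟨_, rfl⟩
    have haw : B a w = 1 := by
      rw [hw, QuadraticMap.polar_sub_right, QuadraticMap.polar_sub_right, QuadraticMap.polar_smul_right,
        QuadraticMap.polar_smul_right, haz', has, QuadraticMap.polar_comm _ a u, hua]
      simp
    have huw : B u w = 0 := by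
      rw [hw, QuadraticMap.polar_sub_right, QuadraticMap.polar_sub_right, QuadraticMap.polar_smul_right,
        QuadraticMap.polar_smul_right, hus, huu]
      simp
    have hws : B w s = 0 := by
      rw [QuadraticMap.polar_comm, hw, QuadraticMap.polar_sub_right, QuadraticMap.polar_sub_right,
        QuadraticMap.polar_smul_right, QuadraticMap.polar_smul_right, QuadraticMap.polar_comm _ s u, hus,
        polar_self2, hQs]
      simp
    have hwW : w ∈ W := hw ▸ W.sub_mem (W.sub_mem hzW (W.smul_mem _ hsW)) (W.smul_mem _ hu)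
    refine ⟨w + Q w • a, W.add_mem hwW (W.smul_mem _ haW), ?_, ?_, ?_, ?_⟩
    · rw [QuadraticMap.polar_add_right, QuadraticMap.polar_smul_right, haw, polar_self2, hQa]; simp
    · rw [QuadraticMap.polar_add_right, QuadraticMap.polar_smul_right, huw, hua]; simp
    · rw [QuadraticMap.polar_add_left, QuadraticMap.polar_smul_left, hws, has]; simp
    · rw [quad_add, QuadraticMap.map_smul, QuadraticMap.polar_smul_right, hQa, QuadraticMap.polar_comm _ w a, haw]
      simp only [smul_eq_mul, mul_zero, add_zero, mul_one]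
      linear_combination Q w * h2
  refine ⟨a, haW, b, hbW, s, hsW, hQa, hQb, hQs, hab, hus, hua, hub, has, hbs, fun w hw => ?_⟩
  let L : W →ₗ[F] (Fin 4 → F) := LinearMap.pi fun i => ((QuadraticMap.polarBilin Q) (![b, a, s, u] i)).comp W.subtype
  have hsurj : Function.Surjective L := fun f => by
    refine ⟨⟨f 0 • a + f 1 • b + f 2 • u + f 3 • s,
      W.add_mem (W.add_mem (W.add_mem (W.smul_mem _ haW) (W.smul_mem _ hbW)) (W.smul_mem _ hu)) (W.smul_mem _ hsW)⟩,
      funext fun i => ?_⟩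
    fin_cases i <;>
      simp [L, QuadraticMap.polar_add_right, QuadraticMap.polar_smul_right, polar_self2, h2, hQa, hQb, hQs, hab,
        hus, hua, hub, has, hbs, QuadraticMap.polar_comm _ b a, QuadraticMap.polar_comm _ b u,
        QuadraticMap.polar_comm _ a u, QuadraticMap.polar_comm _ s a, QuadraticMap.polar_comm _ s b,
        QuadraticMap.polar_comm _ s u]
  have hinj := (LinearMap.injective_iff_surjective_of_finrank_eq_finrank
    (by rw [hf.dimW, Module.finrank_fin_fun]) (f := L)).2 hsurj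
  have key := @hinj ⟨w, hw⟩ ⟨B b w • a + B a w • b + B s w • u + B u w • s,
    W.add_mem (W.add_mem (W.add_mem (W.smul_mem _ haW) (W.smul_mem _ hbW)) (W.smul_mem _ hu)) (W.smul_mem _ hsW)⟩
    (funext fun i => by
      fin_cases i <;>
        simp [L, QuadraticMap.polar_add_right, QuadraticMap.polar_smul_right, polar_self2, h2, hQa, hQb, hQs, hab,
          hus, hua, hub, has, hbs, QuadraticMap.polar_comm _ b a, QuadraticMap.polar_comm _ b u,
          QuadraticMap.polar_comm _ a u, QuadraticMap.polar_comm _ s a, QuadraticMap.polar_comm _ s b,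
          QuadraticMap.polar_comm _ s u])
  exact congrArg Subtype.val key

/-- A parameter at a mixed point with anisotropic part: four-spaces in characteristic two. -/
theorem find_four (hf : Four Q W U) {u v : V} (hu : u ∈ W) (hu0 : u ≠ 0) (hv : v ∈ U) (hv0 : v ≠ 0)
    (hx : Q (u + v) = 0) {y₁ y₂ : V} (hy₁ : y₁ ∈ W) (hy₂ : y₂ ∈ U) (hy : y₁ + y₂ ∈ CR (M := M) hx)
    (hne : y₁ ∉ Submodule.span F {u}) (hQu : Q u ≠ 0) : ∃ a ∈ W, a ≠ 0 ∧ Q a = 0 ∧ Full Q M a := by
  classical
  have h2 := hf.two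
  haveI : CharP F 2 := CharTwo.of_one_ne_zero_of_two_eq_zero one_ne_zero h2
  have hself : ∀ z, B z z = 0 := fun z => by rw [polar_self2, h2, zero_mul]
  obtain ⟨a, haW, b, hbW, s, hsW, hQa, hQb, hQs, hab, hus, hua, hub, has, hbs, hdec⟩ := hp.four_basis hf hu hQu
  have hWx : ∀ w ∈ W, B w (u + v) = B w u := fun w hw => by
    rw [QuadraticMap.polar_add_right, hp.orth w hw v hv, add_zero]
  have hWy : ∀ w ∈ W, B w (y₁ + y₂) = B w y₁ := fun w hw => by
    rw [QuadraticMap.polar_add_right, hp.orth w hw y₂ hy₂, add_zero]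
  obtain ⟨k, hk⟩ : ∃ k, k * k * Q u = 1 := by
    obtain ⟨r, hr⟩ := FiniteField.isSquare_of_char_two (ringChar.eq F 2) (Q u)⁻¹
    exact ⟨r, by rw [← hr, inv_mul_cancel₀ hQu]⟩
  obtain ⟨c, hc⟩ : ∃ c, c = a + b + k • u := ⟨_, rfl⟩
  have hcW : c ∈ W := hc ▸ W.add_mem (W.add_mem haW hbW) (W.smul_mem _ hu)
  have hQc : Q c = 0 := by
    rw [hc, quad_add, quad_add, hQa, hQb, QuadraticMap.map_smul, QuadraticMap.polar_smul_right, hab,
      QuadraticMap.polar_add_left, QuadraticMap.polar_comm _ a u, QuadraticMap.polar_comm _ b u, hua, hub]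
    simp only [smul_eq_mul, zero_add, add_zero, mul_zero]
    linear_combination hk + h2
  have huc : B u c = 0 := by
    rw [hc, QuadraticMap.polar_add_right, QuadraticMap.polar_add_right, QuadraticMap.polar_smul_right, hua, hub,
      hself]
    simp
  have hmv : ∀ p ∈ W, Q p = 0 → B u p = 0 → ∀ t : F,
      (t * B p y₁) • u - (t * B u y₁) • p - (t * t * Q u * B p y₁) • p ∈ CR (M := M) hx := fun p hpW hQp hup t => by
    have hpu : B p u = 0 := by rw [QuadraticMap.polar_comm]; exact hup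
    have h := hp.move hx hy hpW (W.smul_mem t hu) hQp (by rw [QuadraticMap.polar_smul_right, hpu, smul_zero])
      (by rw [hWx p hpW, hpu]) (by rw [QuadraticMap.polar_smul_left, hWx u hu, hself, smul_zero])
    rw [hWy p hpW, QuadraticMap.polar_smul_left, hWy u hu, QuadraticMap.map_smul, smul_eq_mul, smul_eq_mul,
      smul_smul, mul_comm _ t] at h
    exact h
  have hy₁d := hdec y₁ hy₁
  obtain ⟨p, hpW, hQp, hup, hpy⟩ : ∃ p ∈ W, Q p = 0 ∧ B u p = 0 ∧ B p y₁ ≠ 0 := by
    by_contra hcon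
    push Not at hcon
    have e0 := hcon a haW hQa hua
    have e1 := hcon b hbW hQb hub
    have e2 := hcon c hcW hQc huc
    rw [hc, QuadraticMap.polar_add_left, QuadraticMap.polar_add_left, QuadraticMap.polar_smul_left, e0, e1, zero_add,
      zero_add, smul_eq_mul, mul_eq_zero] at e2
    have e3 := e2.resolve_left fun h => one_ne_zero (by rw [← hk, h, zero_mul, zero_mul] : (1 : F) = 0)
    refine hne (Submodule.mem_span_singleton.2 ⟨B s y₁, ?_⟩)
    conv_rhs => rw [hy₁d, e0, e1, e3]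
    simp
  have hp0 : p ≠ 0 := fun h => hpy (by rw [h, QuadraticMap.polar_zero_left])
  by_cases htwo : ∃ t : F, t * (1 - t) ≠ 0
  · -- a further scalar
    obtain ⟨t, ht⟩ := htwo
    refine hp.full_of_mem_W hf hu hv hv0 hx hpW hp0 hQp ?_
    have k1 := (CR (M := M) hx).smul_mem t (hmv p hpW hQp hup 1)
    have k2 := hmv p hpW hQp hup t
    have k3 := (CR (M := M) hx).sub_mem k2 k1
    rw [show (t * B p y₁) • u - (t * B u y₁) • p - (t * t * Q u * B p y₁) • p -
        t • ((1 * B p y₁) • u - (1 * B u y₁) • p - (1 * 1 * Q u * B p y₁) • p) =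
        (t * (1 - t) * (Q u * B p y₁)) • p by module] at k3
    exact ((CR (M := M) hx).smul_mem_iff (mul_ne_zero ht (mul_ne_zero hQu hpy))).1 k3
  -- the field has two elements
  push Not at htwo
  have hF : ∀ t : F, t ≠ 0 → t = 1 := fun t ht =>
    (sub_eq_zero.1 ((mul_eq_zero.1 (htwo t)).resolve_left ht)).symm
  have hQu1 : Q u = 1 := hF _ hQu
  have hk1 : k = 1 := hF _ fun h => one_ne_zero (by rw [← hk, h, zero_mul, zero_mul] : (1 : F) = 0)
  rw [hk1, one_smul] at hc
  have hxu : B (u + v) u = 0 := by rw [QuadraticMap.polar_comm, hWx u hu, hself]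
  have hxa : ∀ w ∈ W, B (u + v) w = B u w := fun w hw => by
    rw [QuadraticMap.polar_comm, hWx w hw, QuadraticMap.polar_comm]
  by_cases hγ : B u y₁ = 0
  · -- the parameters fill the anisotropic plane
    obtain ⟨r, hr, hrdef⟩ : ∃ r ∈ CR (M := M) hx, r = u + b := by
      have hget : ∀ q ∈ W, Q q = 0 → B u q = 0 → B q y₁ ≠ 0 → u + q ∈ CR (M := M) hx := fun q hq hQq huq hqy => by
        have h := hmv q hq hQq huq 1
        rw [hγ, hQu1, hF _ hqy] at h
        convert h using 1
        match_scalars <;> first | ring1 | linear_combination h2 | linear_combination -h2 | linear_combination 2 * h2 |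
          linear_combination -2 * h2
      refine ⟨u + b, ?_, rfl⟩
      by_cases hb1 : B b y₁ = 0
      · have ha1 : B a y₁ ≠ 0 := fun h => hne (Submodule.mem_span_singleton.2 ⟨B s y₁, by
          conv_rhs => rw [hy₁d, h, hb1, hγ]
          simp⟩)
        have hc1 : B c y₁ ≠ 0 := by
          rw [hc, QuadraticMap.polar_add_left, QuadraticMap.polar_add_left, hb1, hγ, add_zero, add_zero]
          exact ha1
        have h := (CR (M := M) hx).add_mem (hget a haW hQa hua ha1) (hget c hcW hQc huc hc1)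
        have hadd : ∀ z : V, z + z = 0 := fun z => by rw [← two_smul F z, h2, zero_smul]
        rw [show u + a + (u + c) = (u + u) + (a + a) + (u + b) by rw [hc]; abel, hadd, hadd, zero_add, zero_add] at h
        exact h
      · exact hget b hbW hQb hub hb1
    obtain ⟨t, ht, htx⟩ := hr.2 1
    rw [one_smul, hrdef] at htx
    have hQr : Q (u + b) = 1 := by rw [quad_add, hQu1, hQb, hub]; ring
    have hra : B (u + b) a = 1 := by
      rw [QuadraticMap.polar_add_left, hua, QuadraticMap.polar_comm _ b a, hab, zero_add]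
    have hta : (t : Mn) *ᵥ a = u + a + v := by
      rw [htx, eMat_mulVec, hQr, hra, hxa a haW, hua]
      match_scalars <;> first | ring1 | linear_combination h2 | linear_combination -h2 | linear_combination 2 * h2 |
          linear_combination -2 * h2
    have hts : (t : Mn) *ᵥ s = s + (u + b) := by
      rw [htx, eMat_mulVec, hQr, hxa s hsW, QuadraticMap.polar_add_left Q u b s, hbs, hus]
      match_scalars <;> first | ring1 | linear_combination h2 | linear_combination -h2 | linear_combination 2 * h2 |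
          linear_combination -2 * h2
    have hx' : Q (u + a + v) = 0 := by rw [← hta, hp.iso t ht, hQa]
    have hmem := hp.cr_conj ht haW hsW hQa has hta hx'
    rw [hts] at hmem
    have hw0 : s + (u + b) ≠ 0 := fun h => by
      have e := congrArg (fun z => B u z) h
      simp only [QuadraticMap.polar_add_right, hus, hself, hub, QuadraticMap.polar_zero_right, add_zero] at e
      exact one_ne_zero e
    refine hp.full_of_mem_W hf (W.add_mem hu haW) hv hv0 hx' (W.add_mem hsW (W.add_mem hu hbW)) hw0 ?_ hmem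
    rw [quad_add, hQr, hQs, QuadraticMap.polar_add_right, QuadraticMap.polar_comm _ s u, hus,
      QuadraticMap.polar_comm _ s b, hbs]
    linear_combination h2
  by_cases hper : ∃ q ∈ W, q ≠ 0 ∧ Q q = 0 ∧ B u q = 0 ∧ B q y₁ = 0
  · obtain ⟨q, hq, hq0, hQq, huq, hqy⟩ := hper
    exact hp.full_of_mem_W hf hu hv hv0 hx hq hq0 hQq (hp.mem_of_perp h2 hu hv hx hy₁ hy₂ hy hγ hq hQq
      (by rw [QuadraticMap.polar_comm]; exact huq) hqy)
  push Not at hper
  have hγ1 : B u y₁ = 1 := hF _ hγ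
  have hay : B a y₁ = 1 := hF _ (hper a haW (fun h => by rw [h] at hab; simp at hab) hQa hua)
  have hby : B b y₁ = 1 := hF _ (hper b hbW (fun h => by rw [h] at hab; simp at hab) hQb hub)
  obtain ⟨l, hl⟩ : ∃ l, l = B s y₁ := ⟨_, rfl⟩
  rw [hay, hby, hγ1, ← hl, one_smul, one_smul, one_smul] at hy₁d
  have hll : l * l = l := by rcases eq_or_ne l 0 with h | h <;> simp [h, hF]
  have hQy₁ : Q y₁ = 1 := by
    rw [hy₁d, quad_add, quad_add, quad_add, hQa, hQb, hQs, hab, QuadraticMap.map_smul, hQu1,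
      QuadraticMap.polar_add_left, QuadraticMap.polar_add_left, QuadraticMap.polar_add_left,
      QuadraticMap.polar_smul_left, QuadraticMap.polar_smul_right, QuadraticMap.polar_smul_right,
      QuadraticMap.polar_comm _ a u, QuadraticMap.polar_comm _ b u, hua, hub, has, hbs, hus]
    simp only [smul_eq_mul]
    linear_combination hll + l * h2
  have hQv : Q v = 1 := by
    have h := hx
    rw [quad_add, hp.orth u hu v hv, hQu1] at h
    linear_combination h - h2
  have hvy : B v y₂ = 1 := by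
    have h : B (u + v) (y₁ + y₂) = 0 := hy.1
    rw [QuadraticMap.polar_add_left, hWy u hu, QuadraticMap.polar_add_right,
      QuadraticMap.polar_comm _ v y₁, hp.orth y₁ hy₁ v hv, hγ1] at h
    linear_combination h - h2
  by_cases hQy₂ : Q y₂ = 0
  · -- one more step
    have hQy : Q (y₁ + y₂) = 1 := by rw [quad_add, hQy₁, hQy₂, hp.orth y₁ hy₁ y₂ hy₂]; ring
    obtain ⟨t, ht, htx⟩ := hy.2 1
    rw [one_smul] at htx
    obtain ⟨d, hd⟩ : ∃ d, d = s + l • u := ⟨_, rfl⟩
    have hdW : d ∈ W := hd ▸ W.add_mem hsW (W.smul_mem _ hu)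
    have had : B a d = 0 := by
      rw [hd, QuadraticMap.polar_add_right, QuadraticMap.polar_smul_right, has, QuadraticMap.polar_comm _ a u, hua]
      simp
    have hta : (t : Mn) *ᵥ a = u + a + v := by
      rw [htx, eMat_mulVec, hQy, hxa a haW, hua, QuadraticMap.polar_comm _ (y₁ + y₂) a, hWy a haW, hay]
      match_scalars <;> first | ring1 | linear_combination h2 | linear_combination -h2 | linear_combination 2 * h2 |
          linear_combination -2 * h2
    have htd : (t : Mn) *ᵥ d = c + (y₂ + v) := by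
      have e1 : B (u + v) d = 1 := by
        rw [hxa d hdW, hd, QuadraticMap.polar_add_right, QuadraticMap.polar_smul_right, hus, hself, smul_zero,
          add_zero]
      have e2 : B (y₁ + y₂) d = 0 := by
        rw [QuadraticMap.polar_comm, hWy d hdW, hd, QuadraticMap.polar_add_left, QuadraticMap.polar_smul_left,
          ← hl, hγ1, smul_eq_mul]
        linear_combination l * h2
      rw [htx, eMat_mulVec, hQy, e1, e2, hc, hd]
      conv_lhs => rw [hy₁d]
      match_scalars <;> first | ring1 | linear_combination h2 | linear_combination -h2 | linear_combination l * h2 |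
        linear_combination -l * h2 | linear_combination (l - 1) * h2 | linear_combination (l + 1) * h2 |
        linear_combination (-l - 1) * h2 | linear_combination (1 - l) * h2 | linear_combination 2 * h2 |
        linear_combination -2 * h2
    have hx' : Q (u + a + v) = 0 := by rw [← hta, hp.iso t ht, hQa]
    have hmem := hp.cr_conj ht haW hdW hQa had hta hx'
    rw [htd] at hmem
    have hQp' : Q (s + b) = 0 := by
      rw [quad_add, hQs, hQb, QuadraticMap.polar_comm _ s b, hbs]; ring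
    have hpu' : B (s + b) (u + a) = 0 := by
      rw [QuadraticMap.polar_comm, QuadraticMap.polar_add_left, QuadraticMap.polar_add_right,
        QuadraticMap.polar_add_right, hus, hub, has, hab]
      linear_combination h2
    have hpy' : B (s + b) c = 0 := by
      rw [hc, QuadraticMap.polar_comm, QuadraticMap.polar_add_left, QuadraticMap.polar_add_left,
        QuadraticMap.polar_add_right, QuadraticMap.polar_add_right, QuadraticMap.polar_add_right, has, hab, hbs,
        hself, hus, hub]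
      linear_combination h2
    have huy' : B (u + a) c ≠ 0 := by
      rw [hc, QuadraticMap.polar_add_left, QuadraticMap.polar_add_right, QuadraticMap.polar_add_right,
        QuadraticMap.polar_add_right, QuadraticMap.polar_add_right, hua, hub, hself, hself, hab,
        QuadraticMap.polar_comm _ a u, hua]
      simp
    have hp0' : s + b ≠ 0 := fun h => by
      have e := congrArg (fun z => B u z) h
      simp only [QuadraticMap.polar_add_right, hus, hub, QuadraticMap.polar_zero_right, add_zero] at e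
      exact one_ne_zero e
    exact hp.full_of_mem_W hf (W.add_mem hu haW) hv hv0 hx' (W.add_mem hsW hbW) hp0' hQp'
      (hp.mem_of_perp h2 (W.add_mem hu haW) hv hx' hcW (U.add_mem hy₂ hv) hmem huy' (W.add_mem hsW hbW) hQp'
        hpu' hpy')
  -- the other summand
  have hQy₂1 : Q y₂ = 1 := hF _ hQy₂
  have hU := hp.symm (by rw [hf.dimU]; norm_num)
  by_cases hq : ∃ q ∈ U, q ≠ 0 ∧ Q q = 0 ∧ B q v = 0 ∧ B q y₂ = 0
  · obtain ⟨q, hqU, hq0, hQq, hqv, hqy⟩ := hq
    refine hp.full_of_mem_U hf hu hu0 hv hx hqU hq0 hQq ?_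
    have hUW : ∀ w ∈ U, ∀ z ∈ W, B w z = 0 := fun w hw z hz => by
      rw [QuadraticMap.polar_comm]; exact hp.orth z hz w hw
    have e1 : ∀ w ∈ U, B w (u + v) = B w v := fun w hw => by
      rw [QuadraticMap.polar_add_right, hUW w hw u hu, zero_add]
    have e2 : ∀ w ∈ U, B w (y₁ + y₂) = B w y₂ := fun w hw => by
      rw [QuadraticMap.polar_add_right, hUW w hw y₁ hy₁, zero_add]
    have h := hU.move hx hy hqU hv hQq hqv (by rw [e1 q hqU, hqv]) (by rw [e1 v hv, hself])
    rw [e2 q hqU, hqy, e2 v hv, hvy, zero_smul, one_smul, mul_zero, zero_smul, sub_zero, zero_sub] at h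
    exact (Submodule.neg_mem_iff _).1 h
  exfalso
  push Not at hq
  obtain ⟨g, ⟨⟨hgU, hgv⟩, hgy⟩, hg0⟩ := Submodule.exists_mem_ne_zero_of_ne_bot
    (p := U ⊓ LinearMap.ker ((QuadraticMap.polarBilin Q) v) ⊓ LinearMap.ker ((QuadraticMap.polarBilin Q) y₂))
    fun h => by
      have d1 := finrank_le_inf_ker_add_one U ((QuadraticMap.polarBilin Q) v)
      have d2 := finrank_le_inf_ker_add_one (U ⊓ LinearMap.ker ((QuadraticMap.polarBilin Q) v))
        ((QuadraticMap.polarBilin Q) y₂)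
      rw [h, finrank_bot] at d2
      rw [hf.dimU] at d1
      omega
  replace hgv : B g v = 0 := by rw [QuadraticMap.polar_comm]; exact hgv
  replace hgy : B g y₂ = 0 := by rw [QuadraticMap.polar_comm]; exact hgy
  have hQg : Q g = 1 := hF _ fun h => hq g hgU hg0 h hgv hgy
  obtain ⟨g', hg'U, hgg'⟩ := hp.ndU g hgU hg0
  obtain ⟨m, hm⟩ : ∃ m, m = g' + B v g' • y₂ + B y₂ g' • v := ⟨_, rfl⟩
  have hmU : m ∈ U := hm ▸ U.add_mem (U.add_mem hg'U (U.smul_mem _ hy₂)) (U.smul_mem _ hv)
  have hgm : B g m = 1 := by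
    rw [hm, QuadraticMap.polar_add_right, QuadraticMap.polar_add_right, QuadraticMap.polar_smul_right,
      QuadraticMap.polar_smul_right, hgv, hgy, hF _ hgg']
    simp
  have hvm : B v m = 0 := by
    rw [hm, QuadraticMap.polar_add_right, QuadraticMap.polar_add_right, QuadraticMap.polar_smul_right,
      QuadraticMap.polar_smul_right, hvy, hself, smul_eq_mul, smul_eq_mul]
    linear_combination B v g' * h2
  have hym : B y₂ m = 0 := by
    rw [hm, QuadraticMap.polar_add_right, QuadraticMap.polar_add_right, QuadraticMap.polar_smul_right,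
      QuadraticMap.polar_smul_right, QuadraticMap.polar_comm _ y₂ v, hvy, hself, smul_eq_mul, smul_eq_mul]
    linear_combination B y₂ g' * h2
  have hQm : Q m = 1 := hF _ fun h => hq m hmU (fun h0 => by rw [h0] at hgm; simp at hgm) h
    (by rw [QuadraticMap.polar_comm]; exact hvm) (by rw [QuadraticMap.polar_comm]; exact hym)
  have key := hf.minus (g + v) (U.add_mem hgU hv) (m + y₂) (U.add_mem hmU hy₂)
    (by rw [quad_add, hQg, hQv, hgv]; linear_combination h2)
    (by rw [quad_add, hQm, hQy₂1, QuadraticMap.polar_comm _ m y₂, hym]; linear_combination h2)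
    (by
      rw [QuadraticMap.polar_add_left, QuadraticMap.polar_add_right, QuadraticMap.polar_add_right, hgm, hgy, hvm, hvy]
      linear_combination h2)
    (fun h => by
      have e := congrArg (fun z => B z y₂) h
      simp only [QuadraticMap.polar_add_left, hgy, hvy, QuadraticMap.polar_zero_left, zero_add] at e
      exact one_ne_zero e)
  obtain ⟨e, he⟩ := Submodule.mem_span_singleton.1 key
  have h := congrArg (fun z => B v z) he
  simp only [QuadraticMap.polar_smul_right, QuadraticMap.polar_add_right, hself, QuadraticMap.polar_comm _ v g, hgv,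
    hvm, hvy, smul_eq_mul, add_zero, mul_zero, zero_add] at h
  exact zero_ne_one h

/-- A parameter at a mixed point outside the line of its part in `W` gives a full point. -/
theorem find (hirr : SmallIrr Q M W U) (hw : 5 ≤ finrank F W ∨ ((2 : F) ≠ 0 ∧ 4 ≤ finrank F W) ∨ Four Q W U) {u v : V}
    (hu : u ∈ W) (hu0 : u ≠ 0) (hv : v ∈ U) (hv0 : v ≠ 0) (hx : Q (u + v) = 0) {y₁ y₂ : V} (hy₁ : y₁ ∈ W)
    (hy₂ : y₂ ∈ U) (hy : y₁ + y₂ ∈ CR (M := M) hx) (hne : y₁ ∉ Submodule.span F {u}) :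
    ∃ a ∈ W, a ≠ 0 ∧ Q a = 0 ∧ Full Q M a := by
  have hx0 : ∀ w ∈ W, B u w = 0 → B w (u + v) = 0 := fun w hw h => by
    rw [QuadraticMap.polar_add_right, hp.orth w hw v hv, add_zero, QuadraticMap.polar_comm, h]
  have hyW : ∀ w ∈ W, B w (y₁ + y₂) = B w y₁ := fun w hw => by
    rw [QuadraticMap.polar_add_right, hp.orth w hw y₂ hy₂, add_zero]
  by_cases hfq : Four Q W U ∧ Q u ≠ 0
  · exact hp.find_four hfq.1 hu hu0 hv hv0 hx hy₁ hy₂ hy hne hfq.2
  suffices H : ∃ a ∈ W, a ≠ 0 ∧ Q a = 0 ∧ a ∈ CR (M := M) hx by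
    obtain ⟨a, ha, ha0, hQa, h⟩ := H
    refine ⟨a, ha, ha0, hQa, hp.upgrade hirr ha hQa (mem_CR_swap hQa hx h) fun hmem => hv0 ?_⟩
    have h2 : v ∈ W ⊓ U := ⟨by simpa using W.sub_mem hmem hu, hv⟩
    rw [hp.inf_bot] at h2
    exact h2
  -- some vector of `W` perpendicular to `u` pairs with the parameter
  obtain ⟨z, hzW, hzu, hzy⟩ : ∃ z ∈ W, B u z = 0 ∧ B z y₁ ≠ 0 := by
    obtain ⟨z, hz1, hz2⟩ := exists_bilin_eq_one (QuadraticMap.polarBilin Q) hp.nd _ hne
    obtain ⟨z₁, hz₁, z₂, hz₂, rfl⟩ := hp.decomp z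
    have e : ∀ w ∈ W, (QuadraticMap.polarBilin Q) (z₁ + z₂) w = B z₁ w := fun w hw => by
      rw [QuadraticMap.polarBilin_apply_apply, QuadraticMap.polar_add_left, QuadraticMap.polar_comm _ z₂,
        hp.orth w hw z₂ hz₂, add_zero]
    refine ⟨z₁, hz₁, ?_, ?_⟩
    · rw [QuadraticMap.polar_comm, ← e u hu]; exact hz2 u (Submodule.mem_span_singleton_self u)
    · rw [← e y₁ hy₁, hz1]; exact one_ne_zero
  by_cases hQu : Q u = 0
  · refine ⟨u, hu, hu0, hQu, ?_⟩
    have huu : B u u = 0 := by rw [polar_self2, hQu, mul_zero]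
    have hmv : ∀ c ∈ W, B u c = 0 →
        B u y₁ • c - B c y₁ • u - (Q c * B u y₁) • u ∈ CR (M := M) hx := fun c hc huc => by
      have h := hp.move hx hy hu hc hQu huc (hx0 u hu huu) (hx0 c hc huc)
      rwa [hyW u hu, hyW c hc] at h
    by_cases huy : B u y₁ = 0
    · have h := hmv z hzW hzu
      rw [huy, zero_smul, zero_sub, mul_zero, zero_smul, sub_zero] at h
      exact ((CR (M := M) hx).smul_mem_iff (neg_ne_zero.2 hzy)).1 (by rwa [neg_smul])
    · -- an anisotropic parameter gives the line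
      obtain ⟨c, hcW, hcu, hQc⟩ : ∃ c ∈ W, B u c = 0 ∧ Q c ≠ 0 := by
        by_contra hc
        push Not at hc
        set T := W ⊓ LinearMap.ker (QuadraticMap.polarBilin Q u) with hT
        have hle : T ≤ T ⊓ LinearMap.BilinForm.orthogonal (QuadraticMap.polarBilin Q) T := fun r hr =>
          ⟨hr, fun s hs => polar_zero_of_sing (show ∀ w ∈ T, Q w = 0 from fun w hw => hc w hw.1 hw.2) hs hr⟩
        have h1 := Submodule.finrank_mono hle
        have h2 := hp.radical_le (T := T) inf_le_left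
        have h3 := finrank_le_inf_ker_add_one W (QuadraticMap.polarBilin Q u)
        rw [← hT] at h3
        have := hp.dimW
        omega
      by_cases ht : ∃ t : F, t * (1 - t) ≠ 0
      · obtain ⟨t, ht⟩ := ht
        have k1 := (CR (M := M) hx).smul_mem t (hmv c hcW hcu)
        have k2 := hmv (t • c) (W.smul_mem t hcW) (by rw [QuadraticMap.polar_smul_right, hcu, smul_zero])
        have k3 := (CR (M := M) hx).sub_mem k2 k1
        rw [QuadraticMap.polar_smul_left, QuadraticMap.map_smul, smul_eq_mul, smul_eq_mul,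
          show B u y₁ • t • c - (t * B c y₁) • u - (t * t * Q c * B u y₁) • u -
            t • (B u y₁ • c - B c y₁ • u - (Q c * B u y₁) • u) = (t * (1 - t) * (Q c * B u y₁)) • u by module] at k3
        exact ((CR (M := M) hx).smul_mem_iff (mul_ne_zero ht (mul_ne_zero hQc huy))).1 k3
      -- two elements only
      push Not at ht
      obtain ⟨c', hc'W, hc'u, hcc⟩ : ∃ c' ∈ W, B u c' = 0 ∧ ∃ d ∈ W, B u d = 0 ∧ B c' d ≠ 0 := by
        by_contra hc
        push Not at hc
        set T := W ⊓ LinearMap.ker (QuadraticMap.polarBilin Q u) with hT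
        have hle : T ≤ T ⊓ LinearMap.BilinForm.orthogonal (QuadraticMap.polarBilin Q) T := fun r hr =>
          ⟨hr, fun s hs => hc s hs.1 hs.2 r hr.1 hr.2⟩
        have h1 := Submodule.finrank_mono hle
        have h2 := hp.radical_le (T := T) inf_le_left
        have h3 := finrank_le_inf_ker_add_one W (QuadraticMap.polarBilin Q u)
        rw [← hT] at h3
        have := hp.dimW
        omega
      obtain ⟨d, hdW, hdu, hcd⟩ := hcc
      have k := (CR (M := M) hx).sub_mem ((CR (M := M) hx).sub_mem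
        (hmv (c' + d) (W.add_mem hc'W hdW) (by rw [QuadraticMap.polar_add_right, hc'u, hdu, add_zero]))
        (hmv c' hc'W hc'u)) (hmv d hdW hdu)
      rw [quad_add, QuadraticMap.polar_add_left,
        show B u y₁ • (c' + d) - (B c' y₁ + B d y₁) • u - ((Q c' + Q d + B c' d) * B u y₁) • u -
          (B u y₁ • c' - B c' y₁ • u - (Q c' * B u y₁) • u) - (B u y₁ • d - B d y₁ • u - (Q d * B u y₁) • u) =
          (-(B c' d * B u y₁)) • u by module] at k
      exact ((CR (M := M) hx).smul_mem_iff (neg_ne_zero.2 (mul_ne_zero hcd huy))).1 k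
  replace hw : 5 ≤ finrank F W ∨ (2 : F) ≠ 0 ∧ 4 ≤ finrank F W :=
    hw.imp_right fun h => h.resolve_right fun hf => hfq ⟨hf, hQu⟩
  -- the vectors of `W` perpendicular to `u`
  set T := W ⊓ LinearMap.ker ((QuadraticMap.polarBilin Q) u) with hT
  have hTd := finrank_le_inf_ker_add_one W ((QuadraticMap.polarBilin Q) u)
  rw [← hT] at hTd
  have hTr : finrank F (T ⊓ LinearMap.BilinForm.orthogonal (QuadraticMap.polarBilin Q) T : Submodule F V) + 3 ≤
      finrank F T := by
    rcases hw with hw | ⟨h2, hw⟩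
    · have := hp.radical_le (T := T) inf_le_left
      omega
    suffices hbot : T ⊓ LinearMap.BilinForm.orthogonal (QuadraticMap.polarBilin Q) T = ⊥ by
      rw [hbot, finrank_bot]; omega
    refine (Submodule.eq_bot_iff _).2 fun r hr => ?_
    by_contra hr0
    obtain ⟨s, hs, hrs⟩ := hp.ndW r hr.1.1 hr0
    have hs' : s - (B u s / B u u) • u ∈ T := by
      refine ⟨W.sub_mem hs (W.smul_mem _ hu), ?_⟩
      show B u (s - (B u s / B u u) • u) = 0
      rw [QuadraticMap.polar_sub_right, QuadraticMap.polar_smul_right, smul_eq_mul,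
        div_mul_cancel₀ _ (by rw [polar_self2]; exact mul_ne_zero h2 hQu), sub_self]
    have h : B (s - (B u s / B u u) • u) r = 0 := hr.2 _ hs'
    rw [QuadraticMap.polar_sub_left, QuadraticMap.polar_smul_left, show B u r = 0 from hr.1.2, smul_zero, sub_zero,
      QuadraticMap.polar_comm] at h
    exact hrs h
  obtain ⟨p, hpT, hp0, hpy⟩ := exists_sing_pairing (Q := Q) (T := T) (y := y₁) hTr ⟨z, ⟨hzW, hzu⟩, hzy⟩
  have hp0' : p ≠ 0 := fun h => hpy (by rw [h, QuadraticMap.polar_zero_left])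
  set T' := T ⊓ LinearMap.ker ((QuadraticMap.polarBilin Q) p) with hT'
  have hTd' := finrank_le_inf_ker_add_one T ((QuadraticMap.polarBilin Q) p)
  rw [← hT'] at hTd'
  have hpu : B p (u + v) = 0 := hx0 p hpT.1 hpT.2
  have hmv : ∀ c ∈ T', B p y₁ • c - B c y₁ • p - (Q c * B p y₁) • p ∈ CR (M := M) hx := fun c hc => by
    have h := hp.move hx hy hpT.1 hc.1.1 hp0 hc.2 hpu (hx0 c hc.1.1 hc.1.2)
    rwa [hyW p hpT.1, hyW c hc.1.1] at h
  by_cases haniso : ∃ c ∈ T', Q c ≠ 0 ∧ ∃ t : F, t * (1 - t) ≠ 0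
  · obtain ⟨c, hc, hQc, t, ht⟩ := haniso
    refine ⟨p, hpT.1, hp0', hp0, ?_⟩
    have k1 := (CR (M := M) hx).smul_mem t (hmv c hc)
    have k2 := hmv (t • c) (T'.smul_mem t hc)
    have k3 := (CR (M := M) hx).sub_mem k2 k1
    rw [QuadraticMap.polar_smul_left, QuadraticMap.map_smul, smul_eq_mul, smul_eq_mul,
      show B p y₁ • t • c - (t * B c y₁) • p - (t * t * Q c * B p y₁) • p -
        t • (B p y₁ • c - B c y₁ • p - (Q c * B p y₁) • p) = (t * (1 - t) * (Q c * B p y₁)) • p by module] at k3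
    exact ((CR (M := M) hx).smul_mem_iff (mul_ne_zero ht (mul_ne_zero hQc hpy))).1 k3
  push Not at haniso
  by_cases hsing : ∀ c ∈ T', Q c = 0
  · exfalso
    -- a totally singular space with `u`
    have hle : T' ≤ (T' ⊔ Submodule.span F {u}) ⊓
        LinearMap.BilinForm.orthogonal (QuadraticMap.polarBilin Q) (T' ⊔ Submodule.span F {u}) := fun r hr => by
      refine ⟨Submodule.mem_sup_left hr, fun s hs => ?_⟩
      obtain ⟨a, ha, b, hb, rfl⟩ := Submodule.mem_sup.1 hs
      obtain ⟨k, rfl⟩ := Submodule.mem_span_singleton.1 hb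
      show B (a + k • u) r = 0
      rw [QuadraticMap.polar_add_left, polar_zero_of_sing hsing ha hr, QuadraticMap.polar_smul_left,
        show B u r = 0 from hr.1.2, smul_zero, add_zero]
    have h1 := Submodule.finrank_mono hle
    have h2 := hp.radical_le (T := T' ⊔ Submodule.span F {u})
      (sup_le (inf_le_left.trans inf_le_left) ((Submodule.span_singleton_le_iff_mem u W).2 hu))
    rw [Submodule.finrank_sup_span_singleton (fun h => hQu (hsing u h))] at h2
    have := hp.dimW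
    omega
  push Not at hsing
  obtain ⟨c, hc, hQc⟩ := hsing
  have ht := haniso c hc hQc
  -- the field has two elements
  have h5 : 5 ≤ finrank F W := hw.resolve_right fun h => h.1 (by
    have e : (-1 : F) * (1 - (-1)) = 0 := ht (-1)
    linear_combination -e)
  obtain ⟨a, ha, b, hb, hab⟩ : ∃ a ∈ T', ∃ b ∈ T', B a b ≠ 0 := by
    by_contra hcon
    push Not at hcon
    have hle : T' ≤ T' ⊓ LinearMap.BilinForm.orthogonal (QuadraticMap.polarBilin Q) T' := fun r hr =>
      ⟨hr, fun s hs => hcon s hs r hr⟩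
    have h1 := Submodule.finrank_mono hle
    have h2 := hp.radical_le (T := T') (inf_le_left.trans inf_le_left)
    omega
  refine ⟨p, hpT.1, hp0', hp0, ?_⟩
  have k := (CR (M := M) hx).sub_mem ((CR (M := M) hx).sub_mem (hmv (a + b) (T'.add_mem ha hb)) (hmv a ha)) (hmv b hb)
  rw [quad_add, QuadraticMap.polar_add_left,
    show B p y₁ • (a + b) - (B a y₁ + B b y₁) • p - ((Q a + Q b + B a b) * B p y₁) • p -
      (B p y₁ • a - B a y₁ • p - (Q a * B p y₁) • p) - (B p y₁ • b - B b y₁ • p - (Q b * B p y₁) • p) =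
      (-(B a b * B p y₁)) • p by module] at k
  exact ((CR (M := M) hx).smul_mem_iff (neg_ne_zero.2 (mul_ne_zero hab hpy))).1 k

theorem exists_full (hirr : SmallIrr Q M W U) (hw : 5 ≤ finrank F W ∨ ((2 : F) ≠ 0 ∧ 4 ≤ finrank F W) ∨ Four Q W U)
    {g : GL ι F} (hg : g ∈ M) (hgW : ¬ ∀ w ∈ W, (g : Mn) *ᵥ w ∈ W)
    (hgU : ¬ ∀ w ∈ W, (g : Mn) *ᵥ w ∈ U) : ∃ a ∈ W, a ≠ 0 ∧ Q a = 0 ∧ Full Q M a := by
  have hsum := hp.finrank_add
  -- singular vectors span
  have hspan : ∀ S : Submodule F V, (∀ a ∈ W, Q a = 0 → (g : Mn) *ᵥ a ∈ S) → ∀ w ∈ W, (g : Mn) *ᵥ w ∈ S := by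
    intro S hS w hw
    by_contra hcon
    have hlt : W ⊓ S.comap (Matrix.toLin' (g : Mn)) < W := lt_of_le_of_ne inf_le_left fun e => hcon (by
      have : w ∈ W ⊓ S.comap (Matrix.toLin' (g : Mn)) := e.symm ▸ hw
      simpa using this.2)
    have hrank := Submodule.finrank_lt_finrank_of_lt hlt
    set T := W ⊓ S.comap (Matrix.toLin' (g : Mn)) with hTdef
    -- a functional on `W` vanishing on `T`
    have hperp : finrank F (LinearMap.BilinForm.orthogonal (QuadraticMap.polarBilin Q) (T ⊔ U)) ≠ 0 := by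
      rw [LinearMap.BilinForm.finrank_orthogonal hp.nd, finrank_pi]
      have h2 := Submodule.finrank_add_le_finrank_add_finrank T U
      omega
    obtain ⟨z, hz, hz0⟩ := Submodule.exists_mem_ne_zero_of_ne_bot
      (fun h => hperp (by rw [h, finrank_bot]) : LinearMap.BilinForm.orthogonal (QuadraticMap.polarBilin Q) (T ⊔ U) ≠ ⊥)
    obtain ⟨z₁, hz₁, z₂, hz₂, rfl⟩ := hp.decomp z
    have hz₂0 : z₂ = 0 := by
      by_contra h0
      obtain ⟨y, hy, hyz⟩ := hp.ndU z₂ hz₂ h0
      have h := hz y (Submodule.mem_sup_right hy)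
      change B y (z₁ + z₂) = 0 at h
      rw [QuadraticMap.polar_add_right, QuadraticMap.polar_comm, hp.orth z₁ hz₁ y hy, zero_add,
        QuadraticMap.polar_comm] at h
      exact hyz h
    subst hz₂0
    rw [add_zero] at hz hz0
    obtain ⟨p, hpW, hp0, hpz⟩ := hp.exists_sing_one hz₁ hz0
    have hmem : p ∈ T := ⟨hpW, by
      show Matrix.toLin' (g : Mn) p ∈ S
      rw [Matrix.toLin'_apply]; exact hS p hpW hp0⟩
    have h := hz p (Submodule.mem_sup_left hmem)
    change B p z₁ = 0 at h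
    exact one_ne_zero (hpz.symm.trans h)
  obtain ⟨a₀, ha₀, hQa₀, hga₀⟩ : ∃ a ∈ W, Q a = 0 ∧ (g : Mn) *ᵥ a ∉ W := by
    by_contra hc
    push Not at hc
    exact hgW (hspan W hc)
  by_cases hmix : ∃ a ∈ W, Q a = 0 ∧ (g : Mn) *ᵥ a ∉ W ∧ (g : Mn) *ᵥ a ∉ U
  · obtain ⟨p, hpW, hp0, hnW, hnU⟩ := hmix
    obtain ⟨u, hu, v, hv, huv⟩ := hp.decomp ((g : Mn) *ᵥ p)
    have hu0 : u ≠ 0 := fun h => hnU (by rw [← huv, h, zero_add]; exact hv)
    have hv0 : v ≠ 0 := fun h => hnW (by rw [← huv, h, add_zero]; exact hu)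
    have hx : Q (u + v) = 0 := by rw [huv, hp.iso g hg, hp0]
    by_contra hcon
    push Not at hcon
    obtain ⟨gl, hgl⟩ : ∃ gl : V →ₗ[F] V, gl = Matrix.toLin' (g : Mn) := ⟨_, rfl⟩
    have hgla : ∀ z, gl z = (g : Mn) *ᵥ z := fun z => by rw [hgl, Matrix.toLin'_apply]
    set X := (W ⊓ LinearMap.ker ((QuadraticMap.polarBilin Q) p)).map gl with hXdef
    have hX : ∀ y ∈ X, y ∈ CR (M := M) hx := by
      rintro _ ⟨b, ⟨hb, hbp⟩, rfl⟩
      rw [hgla]
      exact hp.cr_conj hg hpW hb hp0 hbp huv.symm hx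
    have hXU : X ≤ Submodule.span F {u} ⊔ U := fun y hy => by
      obtain ⟨y₁, e₁, y₂, e₂, rfl⟩ := hp.decomp y
      refine Submodule.add_mem_sup ?_ e₂
      by_contra hne
      obtain ⟨a, ha, ha0, hQa, hf⟩ := hp.find hirr hw hu hu0 hv hv0 hx e₁ e₂ (hX _ hy) hne
      exact hcon a ha ha0 hQa hf
    have hinj : Function.Injective gl := fun a b h => gl_mulVec_injective g (by simpa [hgla] using h)
    have hd := finrank_le_inf_ker_add_one W ((QuadraticMap.polarBilin Q) p)
    rw [(Submodule.equivMapOfInjective gl hinj (W ⊓ LinearMap.ker ((QuadraticMap.polarBilin Q) p))).finrank_eq,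
      ← hXdef] at hd
    -- a pure parameter off the line of `v`
    obtain ⟨b, hb, hbv⟩ : ∃ b ∈ X ⊓ U, b ∉ Submodule.span F {v} := by
      by_contra hc
      push Not at hc
      have h1 := Submodule.finrank_mono (show X ⊓ U ≤ Submodule.span F {v} from hc)
      have h2 := Submodule.finrank_sup_add_finrank_inf_eq X U
      have h3 := Submodule.finrank_mono (show X ⊔ U ≤ Submodule.span F {u} ⊔ U from sup_le hXU le_sup_right)
      have h4 := Submodule.finrank_add_le_finrank_add_finrank (Submodule.span F {u}) U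
      rw [finrank_span_singleton hu0] at h4
      rw [finrank_span_singleton hv0] at h1
      have h5 : 4 ≤ finrank F W := by
        rcases hw with h | ⟨-, h⟩ | h
        exacts [by omega, h, h.dimW.ge]
      omega
    have hbC := hX b hb.1
    have hbx : B (u + v) b = 0 := hbC.1
    obtain ⟨t, ht, htx⟩ := hbC.2 1
    rw [one_smul] at htx
    obtain ⟨a, ha, hQa, hau⟩ := hp.exists_sing_one hu hu0
    -- the image of a point of `W`
    have hxa : B (u + v) a = 1 := by
      rw [QuadraticMap.polar_add_left, QuadraticMap.polar_comm _ u a, hau, QuadraticMap.polar_comm _ v a,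
        hp.orth a ha v hv, add_zero]
    have hba : B b a = 0 := by rw [QuadraticMap.polar_comm]; exact hp.orth a ha b hb.2
    obtain ⟨z, hzdef⟩ : ∃ z, z = (t : Mn) *ᵥ a := ⟨_, rfl⟩
    have hz : (a - Q b • u) + (b - Q b • v) = z := by
      rw [hzdef, htx, eMat_mulVec, hxa, hba]; module
    have hQz : Q ((a - Q b • u) + (b - Q b • v)) = 0 := by rw [hz, hzdef, hp.iso t ht, hQa]
    have huz0 : a - Q b • u ≠ 0 := fun h => by
      rw [sub_eq_zero] at h
      have h1 : Q b * B u u = 1 := by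
        have := hau
        rw [h, QuadraticMap.polar_smul_left, smul_eq_mul] at this
        exact this
      have h2 : Q b * (Q b * Q u) = 0 := by
        have := hQa
        rw [h, QuadraticMap.map_smul, smul_eq_mul] at this
        linear_combination this
      rw [polar_self2] at h1
      exact one_ne_zero (show (1 : F) = 0 by
        rcases mul_eq_zero.1 h2 with e | e
        · rw [← h1, e, zero_mul]
        · rw [← h1]; linear_combination 2 * e)
    have hvz0 : b - Q b • v ≠ 0 := fun h => hbv (Submodule.mem_span_singleton.2 ⟨Q b, (sub_eq_zero.1 h).symm⟩)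
    -- a parameter there
    set S := W ⊓ LinearMap.ker ((QuadraticMap.polarBilin Q) a) ⊓ LinearMap.ker ((QuadraticMap.polarBilin Q) u)
      with hS
    obtain ⟨c, hcS, hcne⟩ : ∃ c ∈ S, c ∉ Submodule.span F {a - Q b • u} := by
      by_contra hc
      push Not at hc
      have h1 := Submodule.finrank_mono (show S ≤ Submodule.span F {a - Q b • u} from hc)
      rw [finrank_span_singleton huz0] at h1
      have d1 := finrank_le_inf_ker_add_one W ((QuadraticMap.polarBilin Q) a)
      have d2 := finrank_le_inf_ker_add_one (W ⊓ LinearMap.ker ((QuadraticMap.polarBilin Q) a))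
        ((QuadraticMap.polarBilin Q) u)
      rw [← hS] at d2
      have h5 : 4 ≤ finrank F W := by
        rcases hw with h | ⟨-, h⟩ | h
        exacts [by omega, h, h.dimW.ge]
      omega
    have htc : (t : Mn) *ᵥ c = c := by
      have e1 : B (u + v) c = 0 := by
        rw [QuadraticMap.polar_add_left, show B u c = 0 from hcS.2, QuadraticMap.polar_comm,
          hp.orth c hcS.1.1 v hv, add_zero]
      have e2 : B b c = 0 := by rw [QuadraticMap.polar_comm]; exact hp.orth c hcS.1.1 b hb.2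
      rw [htx, eMat_mulVec, e1, e2]; module
    have hcC := hp.cr_conj ht ha hcS.1.1 hQa hcS.1.2 (hzdef ▸ hz.symm : _ = (a - Q b • u) + (b - Q b • v)) hQz
    rw [htc] at hcC
    obtain ⟨a', h1, h2, h3, h4⟩ := hp.find hirr hw (W.sub_mem ha (W.smul_mem _ hu)) huz0
      (U.sub_mem hb.2 (U.smul_mem _ hv)) hvz0 hQz hcS.1.1 (zero_mem U) (by rwa [add_zero]) hcne
    exact hcon a' h1 h2 h3 h4
  push Not at hmix
  exfalso
  -- every singular vector of `W` is carried into `W` or into `U`, and not all into one of them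
  have hgaU := hmix a₀ ha₀ hQa₀ hga₀
  refine hgU (hspan U fun a ha hQa => ?_)
  by_contra hgaU'
  have hgaW : (g : Mn) *ᵥ a ∈ W := by
    by_contra h
    exact hgaU' (hmix a ha hQa h)
  have hab : B a₀ a = 0 := by
    rw [← isometry_polar (hp.iso g hg), QuadraticMap.polar_comm]
    exact hp.orth _ hgaW _ hgaU
  have hQs : Q (a₀ + a) = 0 := by rw [quad_add, hQa₀, hQa, hab, add_zero, add_zero]
  by_cases hW' : (g : Mn) *ᵥ (a₀ + a) ∈ W
  · rw [Matrix.mulVec_add] at hW'
    exact hga₀ (by simpa using W.sub_mem hW' hgaW)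
  · have hU' := hmix _ (W.add_mem ha₀ ha) hQs hW'
    rw [Matrix.mulVec_add] at hU'
    exact hgaU' (by simpa using U.sub_mem hU' hgaU)

end OSub

/-- Three singular orthogonal vectors in a non-degenerate subspace. -/
theorem tri_of_ndQ {Qf : QuadraticForm F V} (hnd : (QuadraticMap.polarBilin Qf).Nondegenerate) {W : Submodule F V}
    (hW' : NdQ Qf W) (h7 : 7 ≤ finrank F W) : Tri Qf := by
  have rad : ∀ T ≤ W, finrank F (T ⊓ LinearMap.BilinForm.orthogonal (QuadraticMap.polarBilin Qf) T : Submodule F V) +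
      finrank F T ≤ finrank F W := fun T hT => by
    set P := QuadraticMap.polarBilin Qf
    set U := LinearMap.BilinForm.orthogonal P W
    have hinf : W ⊓ U = ⊥ := (Submodule.eq_bot_iff _).2 fun x hx => by
      by_contra h0
      obtain ⟨y, hy, hxy⟩ := hW' x hx.1 h0
      exact hxy (by rw [QuadraticMap.polar_comm]; exact hx.2 y hy)
    have hle : T ⊓ LinearMap.BilinForm.orthogonal P T ≤ LinearMap.BilinForm.orthogonal P (T ⊔ U) := by
      intro r hr y hy
      obtain ⟨t, ht, u, hu, rfl⟩ := Submodule.mem_sup.1 hy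
      show QuadraticMap.polar ⇑Qf (t + u) r = 0
      have h1 : QuadraticMap.polar ⇑Qf t r = 0 := hr.2 t ht
      rw [QuadraticMap.polar_add_left, h1, zero_add, QuadraticMap.polar_comm]
      exact hu r (hT hr.1)
    have h1 := Submodule.finrank_mono hle
    rw [LinearMap.BilinForm.finrank_orthogonal hnd, finrank_pi] at h1
    have h2 := Submodule.finrank_sup_add_finrank_inf_eq T U
    rw [show T ⊓ U = ⊥ from le_bot_iff.1 (hinf ▸ inf_le_inf_right U hT), finrank_bot, add_zero] at h2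
    have hU : finrank F U = Fintype.card ι - finrank F W := by
      rw [LinearMap.BilinForm.finrank_orthogonal hnd, finrank_pi]
    have h6 := Submodule.finrank_le (T ⊔ U)
    rw [finrank_pi] at h6
    have h7' := Submodule.finrank_le W
    rw [finrank_pi] at h7'
    omega
  obtain ⟨e₁, he₁, -, he₁0, hQ1, -⟩ := exists_hyp_in (Q := Qf) (T := W) (by have := rad W le_rfl; omega)
  set T₁ := W ⊓ LinearMap.ker ((QuadraticMap.polarBilin Qf) e₁) with hT₁
  have d1 := finrank_le_inf_ker_add_one W ((QuadraticMap.polarBilin Qf) e₁)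
  rw [← hT₁] at d1
  obtain ⟨e₂, he₂, -, he₂0, hQ2, z₂, hz₂, h2z⟩ := exists_hyp_in (Q := Qf) (T := T₁)
    (by have := rad T₁ inf_le_left; omega)
  set T₂ := T₁ ⊓ LinearMap.ker ((QuadraticMap.polarBilin Qf) e₂) with hT₂
  have d2 := finrank_le_inf_ker_add_one T₁ ((QuadraticMap.polarBilin Qf) e₂)
  rw [← hT₂] at d2
  obtain ⟨e₃, he₃, -, he₃0, hQ3, z₃, hz₃, h3z⟩ := exists_hyp_in (Q := Qf) (T := T₂)
    (by have := rad T₂ (inf_le_left.trans inf_le_left); omega)
  have h12 : QuadraticMap.polar ⇑Qf e₁ e₂ = 0 := he₂.2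
  have li : ∀ s t r : F, s • e₁ + t • e₂ + r • e₃ = 0 → s = 0 ∧ t = 0 ∧ r = 0 := fun s t r h => by
    have hr : r = 0 := by
      have h1 := congrArg (fun x => QuadraticMap.polar ⇑Qf x z₃) h
      simp only [QuadraticMap.polar_add_left, QuadraticMap.polar_smul_left,
        show QuadraticMap.polar ⇑Qf e₁ z₃ = 0 from hz₃.1.2, show QuadraticMap.polar ⇑Qf e₂ z₃ = 0 from hz₃.2,
        smul_zero, zero_add, QuadraticMap.polar_zero_left, smul_eq_mul] at h1
      simp only [mul_zero, zero_add] at h1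
      exact (mul_eq_zero.1 h1).resolve_right h3z
    rw [hr, zero_smul, add_zero] at h
    have ht : t = 0 := by
      have h1 := congrArg (fun x => QuadraticMap.polar ⇑Qf x z₂) h
      simp only [QuadraticMap.polar_add_left, QuadraticMap.polar_smul_left,
        show QuadraticMap.polar ⇑Qf e₁ z₂ = 0 from hz₂.2,
        smul_zero, zero_add, QuadraticMap.polar_zero_left, smul_eq_mul] at h1
      simp only [mul_zero, zero_add] at h1
      exact (mul_eq_zero.1 h1).resolve_right h2z
    rw [ht, zero_smul, add_zero, smul_eq_zero] at h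
    exact ⟨h.resolve_right he₁0, ht, hr⟩
  refine ⟨e₁, e₂, e₃, ⟨hQ1, hQ2, h12, fun s t h => ?_⟩, hQ3, he₃.1.2, he₃.2, li⟩
  obtain ⟨h1, h2, -⟩ := li s t 0 (by rw [zero_smul, add_zero]; exact h)
  exact ⟨h1, h2⟩

/-- Three singular orthogonal vectors in dimension at least seven. -/
theorem tri_top {Qf : QuadraticForm F V} (hnd : (QuadraticMap.polarBilin Qf).Nondegenerate)
    (h7 : 7 ≤ Fintype.card ι) : Tri Qf :=
  tri_of_ndQ hnd (W := ⊤) (fun w _ hw0 => by
    by_contra hno
    push Not at hno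
    exact hw0 (hnd.1 w fun y => hno y trivial)) (by rw [finrank_top, Module.finrank_pi]; exact h7)

/-- Stabilisers of non-degenerate subspaces are maximal in `Ω`, including a pair of four-spaces in even characteristic. -/
theorem orthogonal_subspace_maximal_gen [Fintype F] (Q₀ : (ι → F) → F) (hQ₀ : Geo.IsNondegenerateQuadraticForm Q₀)
    (W U : Submodule F V) (S : Subgroup (GL ι F)) (htop : W ⊔ U = ⊤)
    (horth : ∀ w ∈ W, ∀ u ∈ U, QuadraticMap.polar Q₀ w u = 0)
    (hndW : Geo.IsNondegenerateOn (QuadraticMap.polar Q₀) W) (hndU : Geo.IsNondegenerateOn (QuadraticMap.polar Q₀) U)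
    (hw : 5 ≤ finrank F W ∨ ((2 : F) ≠ 0 ∧ 4 ≤ finrank F W) ∨
      ∀ (Q : QuadraticForm F V), ⇑Q = Q₀ → Four Q W U) (hdims : 7 ≤ finrank F W + finrank F U)
    (hS : S ≤ Geo.omegaGL Q₀)
    (hmem : ∀ t ∈ Geo.omegaGL Q₀, (∀ w ∈ W, (t : Mn) *ᵥ w ∈ W) → (∀ u ∈ U, (t : Mn) *ᵥ u ∈ U) → t ∈ S)
    (hproper : ¬ Geo.omegaGL Q₀ ≤ S)
    (hout : ∀ g ∈ Geo.omegaGL Q₀, g ∉ S →
      ¬ (∀ w ∈ W, (g : Mn) *ᵥ w ∈ W) ∧ ¬ ∀ w ∈ W, (g : Mn) *ᵥ w ∈ U)
    (hirr : ∀ (Q : QuadraticForm F V), ⇑Q = Q₀ → ∀ M, S ≤ M → SmallIrr Q M W U)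
    (hirr' : ∀ (Q : QuadraticForm F V), ⇑Q = Q₀ → ∀ M, S ≤ M → SmallIrr Q M U W) :
    Geo.IsMaximalIn (Geo.omegaGL Q₀) S := by
  classical
  obtain ⟨Qf, hQf⟩ : ∃ Qf : QuadraticForm F V, ⇑Qf = Q₀ :=
    ⟨QuadraticMap.ofPolar Q₀ (fun a x => by rw [hQ₀.smul, smul_eq_mul, sq])
      (fun x x' y => hQ₀.polar_bilinear.add_left x x' y) (fun a x y => hQ₀.polar_bilinear.smul_left a x y), rfl⟩
  subst hQf
  have hnd : (QuadraticMap.polarBilin Qf).Nondegenerate := by
    have key : ∀ u, (∀ v, QuadraticMap.polar ⇑Qf v u = 0) → u = 0 := fun u hu => by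
      by_contra h0
      obtain ⟨x, hx⟩ := (hQ₀.nondegenerate u h0).1
      exact hx (hu x)
    exact ⟨fun u hu => key u fun v => by rw [QuadraticMap.polar_comm]; exact hu v, fun u hu => key u hu⟩
  refine isMaximalIn_intro hS hproper fun M hSM hMG g hgM hgS => ?_
  have hMi : ∀ k ∈ M, ∀ x, Qf ((k : Mn) *ᵥ x) = Qf x := fun k hkM => by
    obtain ⟨k', -, rfl⟩ := Subgroup.mem_map.1 (hMG hkM)
    exact mem_isometryGroup.1 k'.2
  have hW' := ndQ_of_isNondegenerateOn hndW
  -- three singular orthogonal vectors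
  have hT : Tri Qf := tri_top hnd (by
    have h1 := Submodule.finrank_sup_add_finrank_inf_eq W U
    have hinf : W ⊓ U = ⊥ := (Submodule.eq_bot_iff _).2 fun x hx => by
      by_contra h0
      obtain ⟨y, hy, hxy⟩ := hW' x hx.1 h0
      exact hxy (by rw [QuadraticMap.polar_comm]; exact horth y hy x hx.2)
    rw [htop, hinf, finrank_bot, finrank_top, finrank_pi] at h1
    omega)
  have inOm : ∀ {e w : V}, OK Qf e w → ∃ t ∈ Geo.omegaGL ⇑Qf, (t : Mn) = eMat Qf e w := fun {e w} h =>
    ⟨_, Subgroup.mem_map_of_mem _ (sR_le_omega hnd hT (eOG_mem hnd hT h)), eOG_val h⟩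
  have hroots : ∀ (A A' : Submodule F V), (∀ a ∈ A, ∀ c ∈ A', QuadraticMap.polar ⇑Qf a c = 0) →
      (A = W ∧ A' = U ∨ A = U ∧ A' = W) → ∀ a ∈ A, ∀ b ∈ A, Qf a = 0 → QuadraticMap.polar ⇑Qf a b = 0 →
      ∃ t ∈ M, (t : Mn) = eMat Qf a b := by
    intro A A' hAA hsel a ha b hb hQa hab
    obtain ⟨t, ht, htx⟩ := inOm (e := a) (w := b) ⟨hQa, hab⟩
    have hA : ∀ y ∈ A, (t : Mn) *ᵥ y ∈ A := fun y hy => by
      rw [htx, eMat_mulVec]
      exact sub_mem (sub_mem (add_mem hy (A.smul_mem _ hb)) (A.smul_mem _ ha)) (A.smul_mem _ ha)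
    have hA' : ∀ y ∈ A', (t : Mn) *ᵥ y ∈ A' := fun y hy => by
      rw [htx, eMat_mulVec, hAA a ha y hy, hAA b hb y hy]
      simpa using hy
    rcases hsel with ⟨rfl, rfl⟩ | ⟨rfl, rfl⟩
    · exact ⟨t, hSM (hmem t ht hA hA'), htx⟩
    · exact ⟨t, hSM (hmem t ht hA' hA), htx⟩
  have hp : OSub Qf M W U :=
    { nd := hnd
      top := htop
      orth := horth
      ndW := hW'
      ndU := ndQ_of_isNondegenerateOn hndU
      rootsW := hroots W U horth (Or.inl ⟨rfl, rfl⟩)
      rootsU := hroots U W (fun a ha c hc => by rw [QuadraticMap.polar_comm]; exact horth c hc a ha)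
        (Or.inr ⟨rfl, rfl⟩)
      iso := hMi
      dimW := by
        rcases hw with h | ⟨-, h⟩ | h
        exacts [by omega, by omega, by rw [(h Qf rfl).dimW]; norm_num] }
  obtain ⟨hgW, hgU⟩ := hout g (hMG hgM) hgS
  have h1 := hirr Qf rfl M hSM
  have h2 := hirr' Qf rfl M hSM
  obtain ⟨a, ha, ha0, hQa, hfull⟩ := hp.exists_full h1 (hw.imp_right fun h => h.imp_right fun h => h Qf rfl) hgM hgW hgU
  have hWfull := hp.full_W ha ha0 hQa hfull
  exact omegaGL_le_of_roots hnd hT fun a b hab => hp.full_all h2 hWfull hab.1 b hab.2.2.1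


/-- Stabilisers of non-degenerate subspaces are maximal in `Ω`. -/
theorem orthogonal_subspace_maximal [Fintype F] (Q₀ : (ι → F) → F) (hQ₀ : Geo.IsNondegenerateQuadraticForm Q₀)
    (W U : Submodule F V) (S : Subgroup (GL ι F)) (htop : W ⊔ U = ⊤)
    (horth : ∀ w ∈ W, ∀ u ∈ U, QuadraticMap.polar Q₀ w u = 0)
    (hndW : Geo.IsNondegenerateOn (QuadraticMap.polar Q₀) W) (hndU : Geo.IsNondegenerateOn (QuadraticMap.polar Q₀) U)
    (hw : 5 ≤ finrank F W ∨ (2 : F) ≠ 0 ∧ 4 ≤ finrank F W) (hdims : 7 ≤ finrank F W + finrank F U)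
    (hS : S ≤ Geo.omegaGL Q₀)
    (hmem : ∀ t ∈ Geo.omegaGL Q₀, (∀ w ∈ W, (t : Mn) *ᵥ w ∈ W) → (∀ u ∈ U, (t : Mn) *ᵥ u ∈ U) → t ∈ S)
    (hproper : ¬ Geo.omegaGL Q₀ ≤ S)
    (hout : ∀ g ∈ Geo.omegaGL Q₀, g ∉ S →
      ¬ (∀ w ∈ W, (g : Mn) *ᵥ w ∈ W) ∧ ¬ ∀ w ∈ W, (g : Mn) *ᵥ w ∈ U)
    (hirr : ∀ (Q : QuadraticForm F V), ⇑Q = Q₀ → ∀ M, S ≤ M → SmallIrr Q M W U)
    (hirr' : ∀ (Q : QuadraticForm F V), ⇑Q = Q₀ → ∀ M, S ≤ M → SmallIrr Q M U W) :
    Geo.IsMaximalIn (Geo.omegaGL Q₀) S :=
  orthogonal_subspace_maximal_gen Q₀ hQ₀ W U S htop horth hndW hndU (hw.imp_right Or.inl) hdims hS hmem hproper hout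
    hirr hirr'

end Cfsg.Agent.Classical.MaxTv
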