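import Cfsg.Agent.Lib.Classical.MaxOrthSubMinus
import Cfsg.Agent.Lib.Classical.AschEvenType

/-!
Stabilisers of non-degenerate four-spaces are maximal in orthogonal groups of minus type in dimension eight over a
field of characteristic two.
-/

set_option autoImplicit false
set_option linter.unusedSectionVars false
set_option quotPrecheck false

namespace Cfsg.Agent.Classical.MaxTv

open Matrix Module OrthAut

variable {F : Type*} [Field F] [Fintype F] {ι : Type} [Fintype ι] [DecidableEq ι] {Q : QuadraticForm F (ι → F)}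

local notation "V" => (ι → F)
local notation "Mn" => Matrix ι ι F
local notation "B" => QuadraticMap.polar ⇑Q

/-- The two four-spaces of a minus type space of dimension eight. -/
theorem four_of_plus {W U : Submodule F V} (h2 : (2 : F) = 0) (hW4 : finrank F W = 4) (hU4 : finrank F U = 4)
    (hW : Geo.IsPlusTypeOn (⇑Q) W) (hU : ¬ Geo.IsPlusTypeOn (⇑Q) U) : Four Q W U := by
  refine ⟨h2, hW4, hU4, ?_, fun a ha b hb hQa hQb hab ha0 => ?_⟩
  · obtain ⟨T, hTW, hT, hTd⟩ := hW
    have hT2 : finrank F T = 2 := by omega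
    obtain ⟨a, ha, ha0⟩ := Submodule.exists_mem_ne_zero_of_ne_bot (p := T)
      (fun h => by rw [h, finrank_bot] at hT2; omega)
    obtain ⟨b, hb, hab⟩ : ∃ b ∈ T, b ∉ Submodule.span F {a} := by
      by_contra hc
      push Not at hc
      have := Submodule.finrank_mono (show T ≤ Submodule.span F {a} from hc)
      rw [finrank_span_singleton ha0] at this
      omega
    exact ⟨a, hTW ha, b, hTW hb, hT a ha, hT b hb, polar_zero_of_sing hT ha hb, ha0, hab⟩
  · by_contra hne
    refine hU ⟨Submodule.span F {a} ⊔ Submodule.span F {b},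
      sup_le ((Submodule.span_singleton_le_iff_mem a U).2 ha) ((Submodule.span_singleton_le_iff_mem b U).2 hb), ?_, ?_⟩
    · intro w hw
      obtain ⟨p, hp, q, hq, rfl⟩ := Submodule.mem_sup.1 hw
      obtain ⟨s, rfl⟩ := Submodule.mem_span_singleton.1 hp
      obtain ⟨t, rfl⟩ := Submodule.mem_span_singleton.1 hq
      rw [quad_add, QuadraticMap.map_smul, QuadraticMap.map_smul, hQa, hQb, QuadraticMap.polar_smul_left,
        QuadraticMap.polar_smul_right, hab]
      simp
    · rw [Submodule.finrank_sup_span_singleton hne, finrank_span_singleton ha0, hU4]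

/-- The perpendicular summand of a non-degenerate subspace. -/
theorem exists_perp (hnd : (QuadraticMap.polarBilin Q).Nondegenerate) {W : Submodule F V} (hW' : NdQ Q W) :
    ∃ U : Submodule F V, W ⊔ U = ⊤ ∧ W ⊓ U = ⊥ ∧ (∀ w ∈ W, ∀ u ∈ U, B w u = 0) ∧ (∀ u ∈ U, ∀ w ∈ W, B u w = 0) ∧
      Geo.IsNondegenerateOn (QuadraticMap.polar ⇑Q) U ∧ finrank F W + finrank F U = Fintype.card ι := by
  set U := LinearMap.BilinForm.orthogonal (QuadraticMap.polarBilin Q) W with hUdef
  have hWU : ∀ w ∈ W, ∀ u ∈ U, B w u = 0 := fun w hw u hu => hu w hw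
  have hUW : ∀ u ∈ U, ∀ w ∈ W, B u w = 0 := fun u hu w hw => by
    rw [QuadraticMap.polar_comm]; exact hWU w hw u hu
  have hinf : W ⊓ U = ⊥ := (Submodule.eq_bot_iff _).2 fun x hx => by
    by_contra h0
    obtain ⟨y, hy, hxy⟩ := hW' x hx.1 h0
    exact hxy (by rw [QuadraticMap.polar_comm]; exact hWU y hy x hx.2)
  have hsum : finrank F W + finrank F U = Fintype.card ι := by
    have h1 : finrank F U = Fintype.card ι - finrank F W := by
      rw [LinearMap.BilinForm.finrank_orthogonal hnd, finrank_pi]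
    have h2 := Submodule.finrank_le W
    rw [finrank_pi] at h2
    omega
  have htop : W ⊔ U = ⊤ := Submodule.eq_top_of_finrank_eq (by
    have h := Submodule.finrank_sup_add_finrank_inf_eq W U
    rw [hinf, finrank_bot] at h
    rw [finrank_pi]; omega)
  refine ⟨U, htop, hinf, hWU, hUW, fun u hu hu0 => ?_, hsum⟩
  obtain ⟨x, hx⟩ : ∃ x, B x u ≠ 0 := by
    by_contra hc; push Not at hc; exact hu0 (hnd.2 u hc)
  obtain ⟨a, ha, b, hb, rfl⟩ := Submodule.mem_sup.1 (htop ▸ Submodule.mem_top : x ∈ W ⊔ U)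
  rw [QuadraticMap.polar_add_left, hWU a ha u hu, zero_add] at hx
  exact ⟨⟨b, hb, hx⟩, b, hb, by rw [QuadraticMap.polar_comm]; exact hx⟩

/-- Stabilisers of small non-degenerate subspaces are maximal. -/
theorem nondeg_small_maximal (Q₀ : V → F) (hQ : Geo.IsNondegenerateQuadraticForm Q₀) (hn : 7 ≤ Fintype.card ι)
    (W : Submodule F V) (hW0 : W ≠ ⊥) (hW : Geo.IsNondegenerateOn (QuadraticMap.polar Q₀) W)
    (hd : finrank F W + 5 ≤ Fintype.card ι) (hlt : 2 * finrank F W < Fintype.card ι)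
    (hex : finrank F W = 2 → Fintype.card F ≤ 3 → ∀ z ∈ W, Q₀ z = 0 → z = 0) :
    Geo.IsMaximalIn (Geo.omegaGL Q₀) (Geo.subspaceStabilizer W ⊓ Geo.omegaGL Q₀) := by
  obtain ⟨Qf, rfl⟩ := exists_form hQ
  have hW' := ndQ_of_isNondegenerateOn hW
  obtain ⟨U, htop, -, hWU, hUW, hU, hsum⟩ := exists_perp (nd_of_isNondegenerateQuadraticForm hQ) hW'
  exact nondeg_big_maximal hQ U W (by rw [sup_comm, htop]) hUW hU hW hW0 (Or.inl (by omega)) (by omega) (by omega)
    hex (fun h => absurd h (by omega)) _ inf_le_right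
    fun t ht => ⟨fun h => perp_stable htop hWU hW' (isometry_of_mem_omegaGL ht) ((mem_subspaceStabilizer_iff W t).1 h.1),
      fun h => ⟨(mem_subspaceStabilizer_iff W t).2 (perp_stable (by rw [sup_comm, htop]) hUW
        (ndQ_of_isNondegenerateOn hU) (isometry_of_mem_omegaGL ht) h), ht⟩⟩

/-- Stabilisers of non-degenerate four-spaces are maximal. -/
theorem nondeg_four_even_maximal (Q₀ : V → F) (hQ : Geo.IsNondegenerateQuadraticForm Q₀)
    (hn : Fintype.card ι = 8) (h2 : (2 : F) = 0) (hminus : ¬ Geo.IsPlusTypeOn Q₀ ⊤) (W : Submodule F V)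
    (hW4 : finrank F W = 4) (hW : Geo.IsNondegenerateOn (QuadraticMap.polar Q₀) W) :
    Geo.IsMaximalIn (Geo.omegaGL Q₀) (Geo.subspaceStabilizer W ⊓ Geo.omegaGL Q₀) := by
  obtain ⟨Qf, rfl⟩ := exists_form hQ
  have hnd := nd_of_isNondegenerateQuadraticForm hQ
  have hW' := ndQ_of_isNondegenerateOn hW
  obtain ⟨U, htop, hinf, hWU, hUW, hU, hsum⟩ := exists_perp hnd hW'
  have hU4 : finrank F U = 4 := by omega
  have hbot : ∀ {S : Submodule F V}, finrank F S = 4 → S ≠ ⊥ := fun h e => by rw [e, finrank_bot] at h; omega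
  have hswap : ∀ {A C : Submodule F V}, NdQ Qf A → (∀ a ∈ A, ∀ c ∈ C, QuadraticMap.polar (⇑Qf) a c = 0) →
      finrank F A = 4 → ∀ g ∈ Geo.omegaGL ⇑Qf, ¬ ∀ a ∈ A, (g : Mn) *ᵥ a ∈ C := fun hA hAC h4 g hg h =>
    hminus (plusType_of_swap hA hAC (by rw [h4]; decide) (by rw [h4, hn]) (isometry_of_mem_omegaGL hg) h)
  have htype : Geo.IsPlusTypeOn (⇑Qf) W ∧ ¬ Geo.IsPlusTypeOn (⇑Qf) U ∨
      Geo.IsPlusTypeOn (⇑Qf) U ∧ ¬ Geo.IsPlusTypeOn (⇑Qf) W := by
    have h := ((show EvenType.Split Qf W U from ⟨htop, hinf, hWU⟩).plus_iff hnd (a := 1) (b := 1)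
      (by rw [hW4]) (by rw [hU4]))
    rw [EvenType.plus_top_iff, EvenType.plus_res_iff, EvenType.plus_res_iff] at h
    tauto
  rcases htype with ⟨hp, hm⟩ | ⟨hp, hm⟩
  · exact nondeg_big_maximal_gen hQ W U htop hWU hW hU (hbot hU4) (Or.inr (Or.inr (four_of_plus h2 hW4 hU4 hp hm)))
      (by omega) (by omega) (fun h => by omega) (fun _ => hswap hW' hWU hW4) _ inf_le_right
      fun t ht => ⟨fun h => (mem_subspaceStabilizer_iff W t).1 h.1, fun h => ⟨(mem_subspaceStabilizer_iff W t).2 h, ht⟩⟩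
  · exact nondeg_big_maximal_gen hQ U W (by rw [sup_comm, htop]) hUW hU hW (hbot hW4)
      (Or.inr (Or.inr (four_of_plus h2 hU4 hW4 hp hm))) (by omega) (by omega) (fun h => by omega)
      (fun _ => hswap (ndQ_of_isNondegenerateOn hU) hUW hU4) _ inf_le_right
      fun t ht => ⟨fun h => perp_stable htop hWU hW' (isometry_of_mem_omegaGL ht) ((mem_subspaceStabilizer_iff W t).1 h.1),
        fun h => ⟨(mem_subspaceStabilizer_iff W t).2 (perp_stable (by rw [sup_comm, htop]) hUW
          (ndQ_of_isNondegenerateOn hU) (isometry_of_mem_omegaGL ht) h), ht⟩⟩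

end Cfsg.Agent.Classical.MaxTv
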