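import Cfsg.Agent.Lib.Classical.MaxOrthSubfieldData
import Cfsg.Agent.Lib.Classical.MaxInvol
import Cfsg.Agent.Lib.Classical.MaxRationalInvol
import Cfsg.Agent.Lib.Classical.NormalForms

/-!
Subfield subgroups are maximal in orthogonal groups of dimension at least twelve, dimension ten, and odd dimension at least seven.

An element outside gives, through pairs of involutions, an element intertwining two rational involutions;
this yields a non-rational singular point with a parameter perpendicular to a rational one.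
-/

set_option autoImplicit false
set_option linter.unusedSectionVars false
set_option quotPrecheck false

namespace Cfsg.Agent.Classical.MaxTv

open Matrix Module OrthAut

variable {F : Type*} [Field F] [Fintype F] {ι : Type} [Fintype ι] [DecidableEq ι] {F₀ : Subfield F}
  {P : GL ι F} {Q : QuadraticForm F (ι → F)} {Q₀ : QuadraticForm F₀ (ι → F₀)} {M : Subgroup (GL ι F)}

local notation "V" => (ι → F)
local notation "W₀" => (ι → F₀)
local notation "Mn" => Matrix ι ι F
local notation "B" => QuadraticMap.polar ⇑Q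
local notation "B₀" => QuadraticMap.polar ⇑Q₀
local notation "e" => emb F₀ P

/-- `z` is `u ↦ u + f u` on rational vectors. -/
def RMap (P : GL ι F) (z : GL ι F) (f : (ι → F₀) →ₗ[F₀] (ι → F₀)) : Prop :=
  ∀ u, (z : Matrix ι ι F) *ᵥ emb F₀ P u = emb F₀ P (u + f u)

/-- `z - 1` has values in the span of `k` vectors. -/
def Mv (z : GL ι F) (k : ℕ) : Prop :=
  ∃ l : Fin k → ι → F, ∀ x, (z : Matrix ι ι F) *ᵥ x - x ∈ Submodule.span F (Set.range l)

/-- Dimension eight, odd degree, minus the identity outside `Ω`. -/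
structure Eight (Q : QuadraticForm F (ι → F)) (n : ℕ) : Prop where
  card : Fintype.card ι = 8
  odd : Odd n
  neg : (-1 : GL ι F) ∉ Geo.omegaGL ⇑Q

theorem ext_emb {a b : GL ι F} (P : GL ι F) (F₀ : Subfield F)
    (h : ∀ u : ι → F₀, (a : Mn) *ᵥ emb F₀ P u = (b : Mn) *ᵥ emb F₀ P u) : a = b := by
  refine Units.ext (Matrix.ext_iff_mulVec.2 fun x => ?_)
  rw [eq_sum_emb P F₀ x, Matrix.mulVec_sum, Matrix.mulVec_sum]
  simp only [Matrix.mulVec_smul, h]

theorem RMap.ratMap {z : GL ι F} {f : W₀ →ₗ[F₀] W₀} (h : RMap P z f) : RatMap F₀ P z := fun x hx => by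
  obtain ⟨u, rfl⟩ := exists_emb hx
  rw [h]; exact rat_emb _

theorem exists_rmap {z : GL ι F} (h : RatMap F₀ P z) : ∃ f : W₀ →ₗ[F₀] W₀, RMap P z f := by
  have h' : ∀ u, ∃ v, emb F₀ P v = (z : Mn) *ᵥ emb F₀ P u := fun u => exists_emb (h _ (rat_emb u))
  choose v hv using h'
  refine ⟨{ toFun := fun u => v u - u, map_add' := fun a b => ?_, map_smul' := fun c a => ?_ }, fun u => ?_⟩
  · refine emb_injective (P := P) ?_
    simp only [emb_sub, emb_add, hv, Matrix.mulVec_add]; abel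
  · refine emb_injective (P := P) ?_
    simp only [emb_sub, emb_smul, hv, Matrix.mulVec_smul, RingHom.id_apply, smul_sub]
  · show _ = emb F₀ P (u + (v u - u))
    rw [show u + (v u - u) = v u by abel]; exact (hv u).symm

theorem RMap.mul {a b : GL ι F} {f g : W₀ →ₗ[F₀] W₀} (ha : RMap P a f) (hb : RMap P b g) :
    RMap P (a * b) (f + g + f.comp g) := fun u => by
  rw [Units.val_mul, ← Matrix.mulVec_mulVec, hb, ha, map_add]
  congr 1
  simp only [LinearMap.add_apply, LinearMap.comp_apply]; abel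

theorem RMap.invol {z : GL ι F} {f : W₀ →ₗ[F₀] W₀} (h : RMap P z f) (hz : z * z = 1) (u : W₀) :
    f (f u) + (2 : F₀) • f u = 0 := by
  have h1 := h.mul h u
  rw [hz, Units.val_one, Matrix.one_mulVec] at h1
  have h2 := emb_injective h1
  simp only [LinearMap.add_apply, LinearMap.comp_apply] at h2
  rw [two_smul]
  linear_combination (norm := abel) -h2

theorem RMap.mv {z : GL ι F} {f : W₀ →ₗ[F₀] W₀} (h : RMap P z f) {k : ℕ} (l : Fin k → W₀)
    (hl : ∀ u, f u ∈ Submodule.span F₀ (Set.range l)) : Mv z k := by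
  refine ⟨fun i => emb F₀ P (l i), fun x => ?_⟩
  have hmem : ∀ w ∈ Submodule.span F₀ (Set.range l),
      emb F₀ P w ∈ Submodule.span F (Set.range fun i => emb F₀ P (l i)) := fun w hw => by
    refine Submodule.span_induction (fun y hy => ?_) ?_ ?_ ?_ hw
    · obtain ⟨i, rfl⟩ := hy; exact Submodule.subset_span ⟨i, rfl⟩
    · rw [emb_zero]; exact zero_mem _
    · intro a b _ _ ha hb; rw [emb_add]; exact add_mem ha hb
    · intro c a _ ha; rw [emb_smul]; exact Submodule.smul_mem _ _ ha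
  rw [eq_sum_emb P F₀ x, Matrix.mulVec_sum, ← Finset.sum_sub_distrib]
  refine Submodule.sum_mem _ fun i _ => ?_
  rw [Matrix.mulVec_smul, ← smul_sub, h, emb_add, add_sub_cancel_left]
  exact Submodule.smul_mem _ _ (hmem _ (hl _))

theorem RMap.rank_le {z : GL ι F} {f : W₀ →ₗ[F₀] W₀} (h : RMap P z f) {k : ℕ} (hk : Mv z k) :
    finrank F₀ (LinearMap.range f) ≤ k := by
  obtain ⟨l, hl⟩ := hk
  obtain ⟨b⟩ : Nonempty (Module.Basis (Fin (finrank F₀ (LinearMap.range f))) F₀ (LinearMap.range f)) :=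
    ⟨Module.finBasis F₀ (LinearMap.range f)⟩
  have hb : LinearIndependent F₀ fun i => (b i : W₀) :=
    LinearIndependent.map' b.linearIndependent (LinearMap.range f).subtype (Submodule.ker_subtype _)
  have hli : LinearIndependent F fun i => emb F₀ P (b i : W₀) := li_emb hb
  have hsub : Submodule.span F (Set.range fun i => emb F₀ P (b i : W₀)) ≤ Submodule.span F (Set.range l) := by
    refine Submodule.span_le.2 ?_
    rintro _ ⟨i, rfl⟩
    obtain ⟨u, hu⟩ := (b i).2
    have := hl (emb F₀ P u)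
    rw [h, emb_add, add_sub_cancel_left, hu] at this
    exact this
  have h1 := Submodule.finrank_mono hsub
  rw [finrank_span_eq_card hli, Fintype.card_fin] at h1
  have h2 := finrank_range_le_card (R := F) l
  rw [Set.finrank, Fintype.card_fin] at h2
  omega

theorem RMap.mv_rank {z : GL ι F} {f : W₀ →ₗ[F₀] W₀} (h : RMap P z f) :
    Mv z (finrank F₀ (LinearMap.range f)) := by
  let b := Module.finBasis F₀ (LinearMap.range f)
  refine h.mv (fun i => (b i : W₀)) fun u => ?_
  rw [show f u = ((⟨f u, ⟨u, rfl⟩⟩ : LinearMap.range f) : W₀) from rfl, ← b.sum_repr ⟨f u, ⟨u, rfl⟩⟩,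
    Submodule.coe_sum]
  exact Submodule.sum_mem _ fun i _ => Submodule.smul_mem _ _ (Submodule.subset_span ⟨i, rfl⟩)

theorem Mv.mono {z : GL ι F} {j k : ℕ} (h : Mv z j) (hjk : j ≤ k) : Mv z k := by
  obtain ⟨l, hl⟩ := h
  refine ⟨fun i => if hi : (i : ℕ) < j then l ⟨i, hi⟩ else 0, fun x => Submodule.span_mono ?_ (hl x)⟩
  rintro _ ⟨i, rfl⟩
  exact ⟨Fin.castLE hjk i, by simp⟩

theorem Mv.conj {z : GL ι F} {k : ℕ} (h : Mv z k) (g : GL ι F) : Mv (g * z * g⁻¹) k := by
  obtain ⟨l, hl⟩ := h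
  refine ⟨fun i => (g : Mn) *ᵥ l i, fun x => ?_⟩
  obtain ⟨y, rfl⟩ : ∃ y, (g : Mn) *ᵥ y = x := ⟨_, mulVec_inv_cancel g x⟩
  rw [Units.val_mul, Units.val_mul, ← Matrix.mulVec_mulVec, ← Matrix.mulVec_mulVec, inv_mulVec_cancel,
    ← Matrix.mulVec_sub]
  have h1 := Submodule.mem_map_of_mem (f := Matrix.toLin' (g : Mn)) (hl y)
  rw [Submodule.map_span, ← Set.range_comp, Matrix.toLin'_apply] at h1
  exact h1

theorem Mv.of_mem_zpowers {a b z : GL ι F} {i j : ℕ} (ha : Mv a i) (hb : Mv b j)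
    (hz : z ∈ Subgroup.zpowers (a * b)) : Mv z (i + j) := by
  obtain ⟨l, hl⟩ := ha
  obtain ⟨l', hl'⟩ := hb
  let S : Submodule F V := Submodule.span F (Set.range (Fin.append l l'))
  have h1 : Submodule.span F (Set.range l) ≤ S := Submodule.span_mono (by
    rintro _ ⟨x, rfl⟩; exact ⟨Fin.castAdd j x, Fin.append_left _ _ _⟩)
  have h2 : Submodule.span F (Set.range l') ≤ S := Submodule.span_mono (by
    rintro _ ⟨x, rfl⟩; exact ⟨Fin.natAdd i x, Fin.append_right _ _ _⟩)
  let H : Subgroup (GL ι F) :=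
    { carrier := {h | ∀ x, (h : Mn) *ᵥ x - x ∈ S}
      mul_mem' := fun {p q} hp hq x => by
        rw [Units.val_mul, ← Matrix.mulVec_mulVec]
        simpa using S.add_mem (hp ((q : Mn) *ᵥ x)) (hq x)
      one_mem' := fun x => by simp
      inv_mem' := fun {p} hp x => by
        have := S.neg_mem (hp (((p⁻¹ : GL ι F) : Mn) *ᵥ x))
        rwa [mulVec_inv_cancel, neg_sub] at this }
  exact ⟨Fin.append l l', (Subgroup.zpowers_le.2 (show a * b ∈ H from
    mul_mem (show a ∈ H from fun x => h1 (hl x)) (show b ∈ H from fun x => h2 (hl' x)))) hz⟩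

/-- A singular vector in a subspace of dimension three, or two with a radical. -/
theorem sing_in {K : Type*} [Field K] [Finite K] {Qk : QuadraticForm K (ι → K)} {T : Submodule K (ι → K)}
    (h : 3 ≤ finrank K T ∨ (2 ≤ finrank K T ∧
      ∃ y ∈ T, y ≠ 0 ∧ ∀ t ∈ T, QuadraticMap.polar ⇑Qk y t = 0)) : ∃ r ∈ T, r ≠ 0 ∧ Qk r = 0 := by
  by_cases hnd : ∀ w ∈ T, w ≠ 0 → ∃ u ∈ T, QuadraticMap.polarBilin Qk w u ≠ 0
  · rcases h with h | ⟨-, y, hy, hy0, hyT⟩
    · exact exists_singular_in Qk hnd h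
    · obtain ⟨u, hu, hu'⟩ := hnd y hy hy0
      exact absurd (hyT u hu) hu'
  push Not at hnd
  obtain ⟨y, hy, hy0, hyT⟩ := hnd
  by_cases hQy : Qk y = 0
  · exact ⟨y, hy, hy0, hQy⟩
  have h2 : (2 : K) = 0 := by
    have := hyT y hy
    rw [polarBilin_self] at this
    exact (mul_eq_zero.1 this).resolve_right hQy
  have : CharP K 2 := CharTwo.of_one_ne_zero_of_two_eq_zero one_ne_zero h2
  obtain ⟨x, hx, hxy⟩ : ∃ x ∈ T, x ∉ Submodule.span K {y} := by
    by_contra hc
    push Not at hc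
    have h1 := Submodule.finrank_mono (s := T) hc
    rw [finrank_span_singleton hy0] at h1
    omega
  have := Fintype.ofFinite K
  obtain ⟨a, ha⟩ := FiniteField.isSquare_of_char_two (ringChar.eq K 2) (Qk x / Qk y)
  refine ⟨x + a • y, T.add_mem hx (T.smul_mem _ hy), fun h0 => hxy ?_, ?_⟩
  · rw [eq_neg_of_add_eq_zero_left h0]
    exact Submodule.neg_mem _ (Submodule.smul_mem _ _ (Submodule.mem_span_singleton_self y))
  · have h0 : QuadraticMap.polar ⇑Qk x y = 0 := by rw [QuadraticMap.polar_comm]; exact hyT x hx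
    rw [quad_add_smul', QuadraticMap.polarBilin_apply_apply, h0, mul_zero, add_zero, ← ha,
      div_mul_cancel₀ _ hQy]
    linear_combination Qk x * h2

/-- An involution with small displacement in the subfield subgroup is rational. -/
theorem ratMap_of_invol {r : ℕ} (hr : r.Prime) (hcard : Fintype.card F = Nat.card F₀ ^ r) {z : GL ι F}
    (hzH : z ∈ Geo.subfieldSubgroup F₀ P) (hzz : z * z = 1) {k : ℕ} (hk : Mv z k)
    (hkn : (2 * k < Fintype.card ι ∨ (Fintype.card ι % 4 = 2 ∧ (z : Mn).det = 1)) ∨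
      (Odd (Fintype.card ι) ∧ (2 : F) ≠ 0)) : RatMap F₀ P z := by
  obtain ⟨a, ha, h⟩ := exists_of_mem_subfieldSubgroup hzH
  suffices haF : a ∈ F₀ by
    intro x hx
    have := (h x hx).smul (inv_mem haF)
    rwa [smul_smul, inv_mul_cancel₀ ha, one_smul] at this
  obtain ⟨i₀⟩ : Nonempty ι := Fintype.card_pos_iff.1 (by
    rcases hkn with (h' | ⟨h', -⟩) | ⟨⟨m, hm⟩, -⟩ <;> omega)
  have hsq : a * a ∈ F₀ := by
    have h2 := h _ (h _ (rat_single i₀)) i₀
    rw [Matrix.mulVec_smul (z : Mn), smul_smul, Matrix.mulVec_mulVec, ← Units.val_mul, hzz, Units.val_one,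
      Matrix.one_mulVec, Matrix.mulVec_smul, inv_mulVec_cancel, Pi.smul_apply, Pi.single_eq_same, smul_eq_mul,
      mul_one] at h2
    exact h2
  by_contra haF
  by_cases h2 : ringChar F = 2
  · have : CharP F 2 := ringChar.of_eq h2
    obtain ⟨c, hc⟩ := FiniteField.isSquare_of_char_two (F := F₀) (ringChar.eq F₀ 2) (⟨a * a, hsq⟩ : F₀)
    have hc' : a * a = (c : F) * (c : F) := congrArg Subtype.val hc
    have h1 : (a - c) * (a - c) = 0 := by
      linear_combination hc' + ((c : F) * c - a * c) * (CharTwo.two_eq_zero : (2 : F) = 0)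
    rw [sub_eq_zero.1 (mul_self_eq_zero.1 h1)] at haF
    exact haF c.2
  have h2' : (2 : F) ≠ 0 := Ring.two_ne_zero h2
  obtain ⟨p, hcp⟩ := CharP.exists F
  have hp : Fact p.Prime := ⟨CharP.char_is_prime F p⟩
  obtain ⟨j, -, hj⟩ := FiniteField.card F p
  obtain ⟨i, -, hi⟩ := (Nat.dvd_prime_pow hp.out).1 (show Nat.card F₀ ∣ p ^ (j : ℕ) from
    hj ▸ hcard ▸ dvd_pow_self _ hr.ne_zero)
  let τ : F →+* F := iterateFrobenius F p i
  have := Fintype.ofFinite F₀
  have hτF : ∀ b ∈ F₀, τ b = b := fun b hb => by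
    show iterateFrobenius F p i b = b
    rw [iterateFrobenius_def, ← hi]
    have := congrArg Subtype.val (FiniteField.pow_card (⟨b, hb⟩ : F₀))
    rw [SubmonoidClass.coe_pow] at this
    rwa [Nat.card_eq_fintype_card]
  have hτfix : ∀ b, τ b = b → b ∈ F₀ := fun b hb => by
    classical
    by_contra hb0
    have hroots : ∀ c ∈ (insert b (Finset.univ.map ⟨Subtype.val, Subtype.val_injective⟩ : Finset F)),
        c ∈ (Polynomial.X ^ (p ^ i) - Polynomial.X : Polynomial F).roots.toFinset := fun c hc => by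
      have hne : (Polynomial.X ^ (p ^ i) - Polynomial.X : Polynomial F) ≠ 0 :=
        FiniteField.X_pow_card_sub_X_ne_zero F (by rw [← hi]; exact Finite.one_lt_card)
      simp only [Multiset.mem_toFinset, Polynomial.mem_roots hne, Polynomial.IsRoot, Polynomial.eval_sub,
        Polynomial.eval_pow, Polynomial.eval_X, sub_eq_zero]
      rw [← iterateFrobenius_def (R := F)]
      rcases Finset.mem_insert.1 hc with h | hc'
      · rw [h]; exact hb
      · obtain ⟨d, -, hd'⟩ := Finset.mem_map.1 hc'; rw [← hd']; exact hτF _ d.2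
    have h3 := (Finset.card_le_card hroots).trans (Multiset.toFinset_card_le _)
    have h4 := h3.trans (Polynomial.card_roots' _)
    rw [FiniteField.X_pow_card_sub_X_natDegree_eq F (by rw [← hi]; exact Finite.one_lt_card),
      Finset.card_insert_of_notMem (fun hmem => by
        obtain ⟨d, -, hd'⟩ := Finset.mem_map.1 hmem
        exact hb0 (hd' ▸ d.2)), Finset.card_map, Finset.card_univ,
      ← Nat.card_eq_fintype_card, hi] at h4
    omega
  have hτa : τ a = -a := by
    have h1 := hτF _ hsq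
    rw [map_mul] at h1
    rcases mul_self_eq_mul_self_iff.1 h1 with h3 | h3
    · exact absurd (hτfix a h3) haF
    · exact h3
  obtain ⟨A, hA⟩ := exists_subfield_matrix a h
  set C : Mn := ((P⁻¹ : GL ι F) : Mn) * (z : Mn) * (P : Mn) with hC
  have hCC : ∀ i' j', τ (C i' j') = -C i' j' := fun i' j' => by
    have h1 : a * C i' j' = (A i' j' : F) := (congrFun (congrFun hA i') j').symm
    have h3 := congrArg τ h1
    rw [map_mul, hτa, hτF _ (A i' j').2, ← h1, neg_mul] at h3
    exact mul_left_cancel₀ ha (by linear_combination -h3)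
  have hτC' : ∀ y : V, C *ᵥ y = -y → C *ᵥ (fun i => τ (y i)) = fun i => τ (y i) := fun y hy => by
    funext i'
    have h1 : τ ((C *ᵥ y) i') = -τ (y i') := by rw [hy, Pi.neg_apply, map_neg]
    rw [RingHom.map_mulVec] at h1
    have h3 : (C.map τ) = -C := Matrix.ext fun a' b' => by rw [Matrix.neg_apply, Matrix.map_apply, hCC]
    rw [h3, Matrix.neg_mulVec, Pi.neg_apply, neg_inj] at h1
    exact h1
  have hτC : ∀ y : V, C *ᵥ y = y → C *ᵥ (fun i => τ (y i)) = -fun i => τ (y i) := fun y hy => by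
    funext i'
    have h1 : τ ((C *ᵥ y) i') = τ (y i') := by rw [hy]
    rw [RingHom.map_mulVec] at h1
    rw [Pi.neg_apply, ← h1, ← Pi.neg_apply, ← Matrix.neg_mulVec]
    congr 1
    refine Matrix.ext fun a' b' => ?_
    rw [Matrix.neg_apply, Matrix.map_apply, hCC, neg_neg]
  let W := LinearMap.ker (Matrix.toLin' (C - 1))
  let W' := LinearMap.ker (Matrix.toLin' (C + 1))
  have hW : ∀ y, y ∈ W ↔ C *ᵥ y = y := fun y => by simp [W, Matrix.sub_mulVec, sub_eq_zero]
  have hW' : ∀ y, y ∈ W' ↔ C *ᵥ y = -y := fun y => by simp [W', Matrix.add_mulVec, add_eq_zero_iff_eq_neg]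
  let Φ : W → W' := fun y => ⟨fun i => τ (y.1 i), (hW' _).2 (hτC _ ((hW _).1 y.2))⟩
  have hΦ : Function.Injective Φ := fun y y' e' => Subtype.ext (funext fun i =>
    τ.injective (congrFun (congrArg Subtype.val e') i))
  have hle := Nat.card_le_card_of_injective Φ hΦ
  have e1 : Nat.card W = Nat.card F ^ finrank F W := Module.natCard_eq_pow_finrank
  have e2 : Nat.card W' = Nat.card F ^ finrank F W' := Module.natCard_eq_pow_finrank
  rw [e1, e2] at hle
  have hle' := (Nat.pow_le_pow_iff_right Finite.one_lt_card).1 hle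
  let Φ' : W' → W := fun y => ⟨fun i => τ (y.1 i), (hW _).2 (hτC' _ ((hW' _).1 y.2))⟩
  have hΦ' : Function.Injective Φ' := fun y y' e' => Subtype.ext (funext fun i =>
    τ.injective (congrFun (congrArg Subtype.val e') i))
  have hge := Nat.card_le_card_of_injective Φ' hΦ'
  rw [e1, e2] at hge
  have hge' := (Nat.pow_le_pow_iff_right Finite.one_lt_card).1 hge
  have hCC2 : ∀ y : V, C *ᵥ (C *ᵥ y) = y := fun y => by
    simp only [hC, ← Matrix.mulVec_mulVec]
    rw [mulVec_inv_cancel, Matrix.mulVec_mulVec _ (z : Mn) (z : Mn), ← Units.val_mul, hzz, Units.val_one,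
      Matrix.one_mulVec, inv_mulVec_cancel]
  have htop : ∀ y : V, y ∈ W ⊔ W' := fun y => by
    have h1 : y + C *ᵥ y ∈ W := (hW _).2 (by rw [Matrix.mulVec_add, hCC2, add_comm])
    have h3 : y - C *ᵥ y ∈ W' := (hW' _).2 (by rw [Matrix.mulVec_sub, hCC2, neg_sub])
    have h4 := Submodule.smul_mem _ (2 : F)⁻¹ (Submodule.add_mem _ (Submodule.mem_sup_left (T := W') h1)
      (Submodule.mem_sup_right (S := W) h3))
    rwa [show y + C *ᵥ y + (y - C *ᵥ y) = (2 : F) • y by module, smul_smul, inv_mul_cancel₀ h2', one_smul] at h4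
  have hdisj : W ⊓ W' = ⊥ := (Submodule.eq_bot_iff _).2 fun y hy => by
    have h1 := (hW y).1 hy.1
    rw [(hW' y).1 hy.2] at h1
    funext i
    have h3 := congrFun h1 i
    rw [Pi.neg_apply] at h3
    exact (mul_eq_zero.1 (show (2 : F) * y i = 0 by linear_combination -h3)).resolve_left h2'
  have h4 := Submodule.finrank_sup_add_finrank_inf_eq W W'
  have h5 := Submodule.finrank_le (W ⊔ W')
  rw [Module.finrank_pi] at h5
  rw [hdisj, finrank_bot] at h4
  have h6 : Fintype.card ι ≤ finrank F W + k := by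
    obtain ⟨l, hl⟩ := hk
    have h7 := (Matrix.toLin' (C - 1)).finrank_range_add_finrank_ker
    rw [finrank_pi] at h7
    have h8 : LinearMap.range (Matrix.toLin' (C - 1)) ≤
        Submodule.span F (Set.range fun i => ((P⁻¹ : GL ι F) : Mn) *ᵥ l i) := by
      rintro _ ⟨y, rfl⟩
      have h9 := Submodule.mem_map_of_mem (f := Matrix.toLin' ((P⁻¹ : GL ι F) : Mn)) (hl ((P : Mn) *ᵥ y))
      rw [Submodule.map_span, ← Set.range_comp, Matrix.toLin'_apply, Matrix.mulVec_sub, inv_mulVec_cancel] at h9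
      rw [Matrix.toLin'_apply, Matrix.sub_mulVec, Matrix.one_mulVec, hC, ← Matrix.mulVec_mulVec,
        ← Matrix.mulVec_mulVec]
      exact h9
    have h10 := Submodule.finrank_mono h8
    have h11 := finrank_range_le_card (R := F) fun i => ((P⁻¹ : GL ι F) : Mn) *ᵥ l i
    rw [Set.finrank, Fintype.card_fin] at h11
    show Fintype.card ι ≤ finrank F (LinearMap.ker (Matrix.toLin' (C - 1))) + k
    omega
  rcases hkn with (hkn | ⟨hmod, hdet⟩) | ⟨⟨m, hm⟩, -⟩
  · omega
  · have htop' : W ⊔ W' = ⊤ := eq_top_iff.2 fun y _ => htop y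
    rw [htop', finrank_top, Module.finrank_pi] at h4
    let E := Submodule.prodEquivOfIsCompl W W' (IsCompl.of_eq hdisj htop')
    have hconj : Matrix.toLin' C = E.toLinearMap ∘ₗ
        (LinearMap.prodMap (LinearMap.id : W →ₗ[F] W) ((-1 : F) • (LinearMap.id : W' →ₗ[F] W'))) ∘ₗ
          E.symm.toLinearMap := by
      refine LinearMap.ext fun y => ?_
      obtain ⟨⟨u, v⟩, rfl⟩ := E.surjective y
      simp [E, (hW u.1).1 u.2, (hW' v.1).1 v.2, Matrix.mulVec_add]
    have hdC : (Matrix.toLin' C).det = 1 := by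
      rw [LinearMap.det_toLin', hC, Matrix.det_mul, Matrix.det_mul, hdet, mul_one, ← Matrix.det_mul,
        ← Units.val_mul, inv_mul_cancel, Units.val_one, Matrix.det_one]
    rw [hconj, LinearMap.det_conj, LinearMap.det_prodMap, LinearMap.det_id, one_mul, LinearMap.det_smul,
      LinearMap.det_id, mul_one] at hdC
    have hev : Even (finrank F W') := by
      by_contra hodd
      rw [(Nat.not_even_iff_odd.1 hodd).neg_one_pow] at hdC
      exact h2' (by linear_combination -hdC)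
    rw [Nat.even_iff] at hev
    omega
  rw [show W ⊔ W' = ⊤ from eq_top_iff.2 fun y _ => htop y, finrank_top, Module.finrank_pi] at h4
  omega

/-- An involution in the subfield subgroup is rational when the degree is odd. -/
theorem ratMap_of_odd {r : ℕ} (hodd : Odd r) (hcard : Fintype.card F = Nat.card F₀ ^ r) {z : GL ι F}
    (hzH : z ∈ Geo.subfieldSubgroup F₀ P) (hzz : z * z = 1) : RatMap F₀ P z := by
  obtain ⟨a, ha, h⟩ := exists_of_mem_subfieldSubgroup hzH
  intro x hx
  rcases isEmpty_or_nonempty ι with hι | ⟨⟨i₀⟩⟩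
  · intro i; exact hι.elim i
  revert x
  suffices haF : a ∈ F₀ by
    intro x hx
    have := (h x hx).smul (inv_mem haF)
    rwa [smul_smul, inv_mul_cancel₀ ha, one_smul] at this
  have hsq : a * a ∈ F₀ := by
    have h2 := h _ (h _ (rat_single i₀)) i₀
    rw [Matrix.mulVec_smul (z : Mn), smul_smul, Matrix.mulVec_mulVec, ← Units.val_mul, hzz, Units.val_one,
      Matrix.one_mulVec, Matrix.mulVec_smul, inv_mulVec_cancel, Pi.smul_apply, Pi.single_eq_same, smul_eq_mul,
      mul_one] at h2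
    exact h2
  have hrank : finrank F₀ F = r := by
    refine Nat.pow_right_injective (Finite.one_lt_card (α := F₀)) ?_
    show Nat.card F₀ ^ finrank F₀ F = Nat.card F₀ ^ r
    rw [← Module.natCard_eq_pow_finrank, ← hcard, Nat.card_eq_fintype_card]
  have hint : IsIntegral F₀ a := Algebra.IsIntegral.isIntegral a
  have hle : (minpoly F₀ a).natDegree ≤ 2 := by
    have := Polynomial.natDegree_le_of_dvd (minpoly.dvd F₀ a (p := Polynomial.X ^ 2 - Polynomial.C ⟨a * a, hsq⟩)
      (by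
        simp only [map_sub, map_pow, map_mul, Polynomial.aeval_X, Polynomial.aeval_C, sq, sub_eq_zero]
        rfl))
      (Polynomial.X_pow_sub_C_ne_zero (by norm_num) _)
    rwa [Polynomial.natDegree_X_pow_sub_C] at this
  have hdvd := minpoly.degree_dvd hint (K := F₀) (L := F)
  rw [hrank] at hdvd
  have hone : (minpoly F₀ a).natDegree = 1 := by
    have := minpoly.natDegree_pos hint
    by_contra hne
    have he : (minpoly F₀ a).natDegree = 2 := by omega
    rw [he] at hdvd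
    exact (Nat.not_even_iff_odd.2 hodd) (even_iff_two_dvd.2 hdvd)
  obtain ⟨c, hc⟩ := minpoly.natDegree_eq_one_iff.1 hone
  exact hc ▸ c.2

theorem Mv.le_fixSp {z : GL ι F} {k : ℕ} (h : Mv z k) : Fintype.card ι ≤ finrank F (fixSp z) + k := by
  obtain ⟨l, hl⟩ := h
  have h1 := (Matrix.toLin' ((z : Mn) - 1)).finrank_range_add_finrank_ker
  rw [finrank_pi] at h1
  have h2 := Submodule.finrank_mono (show LinearMap.range (Matrix.toLin' ((z : Mn) - 1)) ≤
      Submodule.span F (Set.range l) by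
    rintro _ ⟨y, rfl⟩
    rw [Matrix.toLin'_apply, Matrix.sub_mulVec, Matrix.one_mulVec]
    exact hl y)
  have h3 := finrank_range_le_card (R := F) l
  rw [Set.finrank, Fintype.card_fin] at h3
  show Fintype.card ι ≤ finrank F (LinearMap.ker (Matrix.toLin' ((z : Mn) - 1))) + k
  omega

/-- An involution of `M ≤ Ω` in the subfield subgroup is rational, in the sizes we use; in dimension twelve it has
to be a power of a product of a rational and a further element, with small displacements. -/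
theorem ratMap_of_invol_mem {r : ℕ} (hr : r.Prime) (hcard : Fintype.card F = Nat.card F₀ ^ r) {z : GL ι F}
    (hle : M ≤ Geo.omegaGL ⇑Q) (hzM : z ∈ M)
    (hzH : z ∈ Geo.subfieldSubgroup F₀ P) (hzz : z * z = 1) {k : ℕ} (hk : Mv z k) (hk6 : k ≤ 6)
    (hsize : (12 ≤ Fintype.card ι ∨ Fintype.card ι = 10) ∨ (Odd (Fintype.card ι) ∧ (2 : F) ≠ 0))
    {a b : GL ι F} (ha : RatMap F₀ P a) (ha1 : a ≠ 1) {i j : ℕ} (hai : Mv a i) (hbj : Mv b j) (hij : i + j ≤ 6)
    (hz : z ∈ Subgroup.zpowers (a * b) ∨ z ∈ Subgroup.zpowers (b * a)) :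
    RatMap F₀ P z := by
  by_cases h12 : Fintype.card ι = 12
  · haveI : Nonempty ι := Fintype.card_pos_iff.1 (by omega)
    refine ratMap_of_involution' hr hcard hzH hzz (Or.inl ⟨a, fixSp a ⊓ fixSp b, ha,
      le_inf ?_ inf_le_left, ?_⟩)
    · rcases hz with h | h
      · exact inf_fixSp_le_of_mem_zpowers h
      · rw [inf_comm]; exact inf_fixSp_le_of_mem_zpowers h
    · have h1 := hai.le_fixSp
      have h2 := hbj.le_fixSp
      have h3 := Submodule.finrank_sup_add_finrank_inf_eq (fixSp a) (fixSp b)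
      have h4 := Submodule.finrank_le (fixSp a ⊔ fixSp b)
      have h5 : finrank F (fixSp a) ≠ Fintype.card ι := fun h => ha1 (Units.ext (Matrix.ext_iff_mulVec.2 fun x => by
        rw [Units.val_one, Matrix.one_mulVec]
        refine mem_fixSp.1 ?_
        rw [Submodule.eq_top_of_finrank_eq (h.trans (finrank_pi F).symm)]
        trivial))
      have h6 := Submodule.finrank_le (fixSp a)
      rw [finrank_pi] at h4 h6
      omega
  refine ratMap_of_invol hr hcard hzH hzz hk (hsize.imp_left fun h => ?_)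
  rcases h with h | h
  · exact Or.inl (by omega)
  · refine Or.inr ⟨by omega, ?_⟩
    obtain ⟨x, hx, rfl⟩ := hle hzM
    exact OrthAut.det_omega hx

theorem two_ne_sub {K : Type*} [Field K] {K₀ : Subfield K} (h2 : (2 : K₀) ≠ 0) : (2 : K) ≠ 0 := fun h =>
  h2 (Subtype.ext h)

namespace OFData

variable (hd : OFData P Q Q₀ M)
include hd

section Adj

variable {z : GL ι F} {f : (ι → F₀) →ₗ[F₀] (ι → F₀)} (hzM : z ∈ M) (hz : RMap P z f)
include hzM hz

theorem rmap_iso (u w : W₀) : B₀ (u + f u) (w + f w) = B₀ u w := by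
  have h := isometry_polar (hd.iso z hzM) (e u) (e w)
  rw [hz, hz, hd.pol, hd.pol] at h
  exact Subtype.ext h

theorem fix_orth (u : W₀) {t : W₀} (ht : f t = 0) : B₀ (f u) t = 0 := by
  have h := hd.rmap_iso hzM hz u t
  rw [ht, add_zero, QuadraticMap.polar_add_left] at h
  linear_combination h

theorem adj (hzz : z * z = 1) (u w : W₀) : B₀ (f u) w = B₀ u (f w) := by
  have h := hd.rmap_iso hzM hz (u + f u) w
  rw [show u + f u + f (u + f u) = u by
    rw [map_add]
    have h1 := hz.invol hzz u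
    rw [two_smul] at h1
    linear_combination (norm := abel) h1, QuadraticMap.polar_add_left, QuadraticMap.polar_add_right] at h
  linear_combination -h

theorem fix_rad (hzz : z * z = 1) (h2 : (2 : F₀) ≠ 0) :
    ∀ y ∈ LinearMap.ker f, (∀ t ∈ LinearMap.ker f, B₀ y t = 0) → y = 0 := by
  intro y hy h
  refine hd.nd₀.1 y fun x => ?_
  have hx : x + x + f x ∈ LinearMap.ker f := by
    rw [LinearMap.mem_ker, map_add, map_add]
    have h1 := hz.invol hzz x
    rw [two_smul] at h1
    linear_combination (norm := abel) h1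
  have h1 := h _ hx
  rw [QuadraticMap.polar_add_right, QuadraticMap.polar_add_right, QuadraticMap.polar_comm _ y (f x),
    hd.fix_orth hzM hz x (LinearMap.mem_ker.1 hy), add_zero, ← two_mul] at h1
  exact (mul_eq_zero.1 h1).resolve_left h2

theorem ker_dim {k : ℕ} (hk : Mv z k) : Fintype.card ι ≤ finrank F₀ (LinearMap.ker f) + k := by
  have h1 := f.finrank_range_add_finrank_ker
  rw [finrank_pi] at h1
  have := hz.rank_le hk
  omega

/-- Elements of `Ω` do not move a single line. -/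
theorem two_le_rank (hle : M ≤ Geo.omegaGL ⇑Q) (hz1 : z ≠ 1) : 2 ≤ finrank F₀ (LinearMap.range f) := by
  by_contra hlt
  obtain ⟨x, hx⟩ : ∃ x, f x ≠ 0 := by
    by_contra hc
    push Not at hc
    exact hz1 (ext_emb P F₀ fun u => by rw [hz, hc, add_zero, Units.val_one, Matrix.one_mulVec])
  have hle1 : LinearMap.range f ≤ Submodule.span F₀ {f x} := by
    refine le_of_eq (Submodule.eq_of_le_of_finrank_le ?_ ?_).symm
    · rw [Submodule.span_singleton_le_iff_mem]; exact ⟨x, rfl⟩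
    · rw [finrank_span_singleton hx]; omega
  have hnd := hd.nd
  have hT : Tri Q := by
    refine tri_of_ndQ hnd (W := ⊤) (fun w _ hw => ?_) (by rw [finrank_top, finrank_pi]; have := hd.dim; omega)
    by_contra hc
    push Not at hc
    exact hw (hnd.1 w fun y => hc y Submodule.mem_top)
  obtain ⟨o, ho, hoz⟩ := Subgroup.mem_map.1 (hle hzM)
  have hd1 : dick o = 1 := Abelianization.commutator_subset_ker (dickHom hnd hT) ho
  have hval : ∀ y, ogVal o *ᵥ y = (z : Mn) *ᵥ y := fun y => by rw [← hoz]; rfl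
  have hrange : LinearMap.range (moveLin o) = Submodule.span F {e (f x)} := by
    refine le_antisymm ?_ ?_
    · obtain ⟨l, hl⟩ := hz.mv (fun _ : Fin 1 => f x) fun u => Submodule.span_mono (by simp) (hle1 ⟨u, rfl⟩)
      rintro _ ⟨y, rfl⟩
      rw [moveLin_apply, hval, eq_sum_emb P F₀ y, Matrix.mulVec_sum, ← Finset.sum_sub_distrib]
      refine Submodule.sum_mem _ fun i _ => ?_
      rw [Matrix.mulVec_smul, ← smul_sub, hz, emb_add, add_sub_cancel_left]
      obtain ⟨c, hc⟩ := Submodule.mem_span_singleton.1 (hle1 ⟨_, rfl⟩ : f (Pi.single i 1) ∈ _)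
      rw [← hc, emb_smul]
      exact Submodule.smul_mem _ _ (Submodule.smul_mem _ _ (Submodule.mem_span_singleton_self _))
    · rw [Submodule.span_singleton_le_iff_mem]
      exact ⟨e x, by rw [moveLin_apply, hval, hz, emb_add, add_sub_cancel_left]⟩
  have h3 := LinearMap.finrank_range_add_finrank_ker (moveLin o)
  rw [hrange, finrank_span_singleton (fun h0 => hx (emb_injective (P := P) (by rw [h0, emb_zero]))),
    finrank_pi] at h3
  rw [dick, show fixSub o = LinearMap.ker (moveLin o) from rfl, ← h3,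
    show 1 + finrank F (LinearMap.ker (moveLin o)) + finrank F (LinearMap.ker (moveLin o)) =
      2 * finrank F (LinearMap.ker (moveLin o)) + 1 by ring, pow_succ, pow_mul, Int.units_sq, one_pow] at hd1
  exact absurd hd1 (by decide)

/-- An involution of `Ω` moves a space of even dimension. -/
theorem even_rank (hle : M ≤ Geo.omegaGL ⇑Q) : Even (finrank F₀ (LinearMap.range f)) := by
  have hnd := hd.nd
  have hT : Tri Q := by
    refine tri_of_ndQ hnd (W := ⊤) (fun w _ hw => ?_) (by rw [finrank_top, finrank_pi]; have := hd.dim; omega)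
    by_contra hc
    push Not at hc
    exact hw (hnd.1 w fun y => hc y Submodule.mem_top)
  obtain ⟨o, ho, hoz⟩ := Subgroup.mem_map.1 (hle hzM)
  have hd1 : dick o = 1 := Abelianization.commutator_subset_ker (dickHom hnd hT) ho
  have hval : ∀ y, ogVal o *ᵥ y = (z : Mn) *ᵥ y := fun y => by rw [← hoz]; rfl
  have h1 : finrank F (LinearMap.range (moveLin o)) ≤ finrank F₀ (LinearMap.range f) := by
    obtain ⟨l, hl⟩ := hz.mv_rank
    refine (Submodule.finrank_mono (show LinearMap.range (moveLin o) ≤ Submodule.span F (Set.range l) by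
      rintro _ ⟨y, rfl⟩
      rw [moveLin_apply, hval]
      exact hl y)).trans ((finrank_range_le_card (R := F) l).trans (by rw [Fintype.card_fin]))
  have h2 : finrank F₀ (LinearMap.range f) ≤ finrank F (LinearMap.range (moveLin o)) := by
    let b := Module.finBasis F (LinearMap.range (moveLin o))
    refine hz.rank_le ⟨fun i => (b i : V), fun x => ?_⟩
    have hx : (z : Mn) *ᵥ x - x ∈ LinearMap.range (moveLin o) := ⟨x, by rw [moveLin_apply, hval]⟩
    rw [show (z : Mn) *ᵥ x - x = ((⟨_, hx⟩ : LinearMap.range (moveLin o)) : V) from rfl, ← b.sum_repr ⟨_, hx⟩,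
      Submodule.coe_sum]
    exact Submodule.sum_mem _ fun i _ => Submodule.smul_mem _ _ (Submodule.subset_span ⟨i, rfl⟩)
  have h3 := LinearMap.finrank_range_add_finrank_ker (moveLin o)
  rw [le_antisymm h1 h2, finrank_pi] at h3
  rw [dick, show fixSub o = LinearMap.ker (moveLin o) from rfl, ← h3, neg_one_pow_eq_one_iff_even (by decide)] at hd1
  obtain ⟨m, hm⟩ := hd1
  exact ⟨m - finrank F (LinearMap.ker (moveLin o)), by omega⟩

/-- The moved space of an involution is non-degenerate. -/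
theorem range_nd (hzz : z * z = 1) (h2 : (2 : F₀) ≠ 0) :
    ∀ y ∈ LinearMap.range f, y ≠ 0 → ∃ u ∈ LinearMap.range f, B₀ y u ≠ 0 := by
  intro y hy hy0
  by_contra hc
  push Not at hc
  obtain ⟨x, rfl⟩ := hy
  refine hy0 (hd.nd₀.1 _ fun u => ?_)
  have hu : u + u + f u ∈ LinearMap.ker f := by
    rw [LinearMap.mem_ker, map_add, map_add]
    have h1 := hz.invol hzz u
    rw [two_smul] at h1
    linear_combination (norm := abel) h1
  have h1 := hd.fix_orth hzM hz x (LinearMap.mem_ker.1 hu)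
  rw [QuadraticMap.polar_add_right, QuadraticMap.polar_add_right, hc (f u) ⟨u, rfl⟩, add_zero, ← two_mul] at h1
  exact (mul_eq_zero.1 h1).resolve_left h2

end Adj

/-- An element carrying a big rational space into the perpendicular space of a rational singular vector gives a new
parameter. -/
theorem newRoot_of_perp {g : GL ι F} (hg : g ∈ M) (hgH : g ∉ Geo.subfieldSubgroup F₀ P) {T : Submodule F₀ W₀}
    (hdim : 3 ≤ finrank F₀ T)
    (hrad : (∀ y ∈ T, (∀ t ∈ T, B₀ y t = 0) → y = 0) ∨ Fintype.card ι + 2 < 2 * finrank F₀ T)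
    {r : W₀} (hr0 : r ≠ 0) (hQr : Q₀ r = 0) (horth : ∀ y ∈ T, B (e r) ((g : Mn) *ᵥ e y) = 0) :
    NewRoot P Q Q₀ M := by
  have hgi := hd.iso g hg
  have hroot : ∀ x u, Q₀ x = 0 → B₀ x u = 0 → InE Q M ((g : Mn) *ᵥ e x) ((g : Mn) *ᵥ e u) := fun x u hx hu =>
    (hd.roots x u ⟨hx, hu⟩).conj hg hgi
  have hgB : ∀ x y : W₀, B ((g : Mn) *ᵥ e x) ((g : Mn) *ᵥ e y) = (B₀ x y : F) := fun x y => by
    rw [isometry_polar hgi, hd.pol]
  have hgQ : ∀ x, Q₀ x = 0 → Q ((g : Mn) *ᵥ e x) = 0 := fun x hx => by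
    rw [hgi, hd.val, hx, ZeroMemClass.coe_zero]
  have hpair : ∀ x ∈ T, x ≠ 0 → ∃ u ∈ T, ∃ u' ∈ T, B₀ x u = 0 ∧ B₀ x u' = 0 ∧ B₀ u' u ≠ 0 := by
    intro x hxT hx0
    by_contra hc
    push Not at hc
    set T' := T ⊓ LinearMap.ker (QuadraticMap.polarBilin Q₀ x) with hT'
    have hiso : ∀ u ∈ T', ∀ u' ∈ T', B₀ u' u = 0 := fun u hu u' hu' => hc u hu.1 u' hu'.1 hu.2 hu'.2
    have h1 := finrank_le_inf_ker_add_one T (QuadraticMap.polarBilin Q₀ x)
    rw [← hT'] at h1
    rcases hrad with hrad | hrad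
    · obtain ⟨y, hyT, hxy⟩ : ∃ y ∈ T, B₀ x y ≠ 0 := by
        by_contra hc'
        push Not at hc'
        exact hx0 (hrad x hxT hc')
      have h2 := finrank_le_inf_ker_add_one T' (QuadraticMap.polarBilin Q₀ y)
      have h3 : T' ⊓ LinearMap.ker (QuadraticMap.polarBilin Q₀ y) = ⊥ := (Submodule.eq_bot_iff _).2 fun u hu => by
        refine hrad u hu.1.1 fun t ht => ?_
        have h4 := hiso u hu.1 (t - (B₀ x t / B₀ x y) • y) ⟨T.sub_mem ht (T.smul_mem _ hyT), by
          show B₀ x (t - (B₀ x t / B₀ x y) • y) = 0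
          rw [QuadraticMap.polar_sub_right, QuadraticMap.polar_smul_right, smul_eq_mul,
            div_mul_cancel₀ _ hxy, sub_self]⟩
        rw [QuadraticMap.polar_sub_left, QuadraticMap.polar_smul_left, show B₀ y u = 0 from hu.2, smul_zero,
          sub_zero, QuadraticMap.polar_comm] at h4
        exact h4
      rw [h3, finrank_bot] at h2
      omega
    · have h2 := finrank_inf_orth_le hd.nd₀ T'
      rw [inf_eq_left.2 (fun u hu u' hu' => hiso u hu u' hu')] at h2
      omega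
  by_cases hA : ∃ x ∈ T, Q₀ x = 0 ∧ ¬ RatLine F₀ P ((g : Mn) *ᵥ e x)
  · obtain ⟨x, hxT, hx, hnl⟩ := hA
    have hx0 : x ≠ 0 := fun h0 => hnl ⟨0, 0, Rat.zero, by rw [h0, emb_zero, Matrix.mulVec_zero, smul_zero]⟩
    obtain ⟨u, hu, u', hu', hxu, hxu', huu⟩ := hpair x hxT hx0
    exact hd.newRoot_of_point (hgQ x hx) hnl hr0 hQr (horth x hxT) (y := (g : Mn) *ᵥ e u)
      (y' := (g : Mn) *ᵥ e u') (by rw [hgB, hxu, ZeroMemClass.coe_zero])
      (by rw [hgB, hxu', ZeroMemClass.coe_zero]) (horth u hu) (horth u' hu') (hroot x u hx hxu)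
      (hroot x u' hx hxu') (by rw [hgB]; exact fun h0 => huu (Subtype.ext h0))
  · push Not at hA
    have hrad' : finrank F₀ (T ⊓ LinearMap.BilinForm.orthogonal (QuadraticMap.polarBilin Q₀) T :
        Submodule F₀ W₀) + 3 ≤ finrank F₀ T := by
      rcases hrad with hrad | hrad
      · rw [show T ⊓ LinearMap.BilinForm.orthogonal (QuadraticMap.polarBilin Q₀) T = ⊥ from
          (Submodule.eq_bot_iff _).2 fun y hy => hrad y hy.1 fun t ht => by
            rw [QuadraticMap.polar_comm]; exact hy.2 t ht, finrank_bot]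
        omega
      · have := finrank_inf_orth_le hd.nd₀ T
        omega
    obtain ⟨w, hwT, -, -, hw, z, hzT, hwz⟩ := exists_hyp_in hrad'
    set w' := z + (-(Q₀ z) / B₀ w z) • w with hw'def
    have hw'T : w' ∈ T := T.add_mem hzT (T.smul_mem _ hwT)
    have hw' : Q₀ w' = 0 := by
      rw [hw'def, quad_add_smul, hw, QuadraticMap.polar_comm _ z w, mul_zero, add_zero,
        div_mul_cancel₀ _ hwz, add_neg_cancel]
    have hww' : B₀ w w' ≠ 0 := by
      rw [hw'def, QuadraticMap.polar_add_right, QuadraticMap.polar_smul_right, polar_self' hw, smul_zero, add_zero]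
      exact hwz
    have hw0 : w ≠ 0 := fun h0 => hww' (by rw [h0, QuadraticMap.polar_zero_left])
    have hw'0 : w' ≠ 0 := fun h0 => hww' (by rw [h0, QuadraticMap.polar_zero_right])
    by_contra hno
    have key : ∀ w ∈ T, Q₀ w = 0 → w ≠ 0 → ∃ a : F, ∃ r, a ≠ 0 ∧ (g : Mn) *ᵥ e w = a • e r ∧
        ∀ b, B₀ w b = 0 → ∃ u, ∃ c : F, a • ((g : Mn) *ᵥ e b) = e u + c • e r := by
      intro w hwT hw hw0
      obtain ⟨a, _, hv, hgw⟩ := hA w hwT hw
      obtain ⟨r, rfl⟩ := exists_emb hv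
      have har : a • e r ≠ 0 := fun h0 => hw0 (emb_injective (P := P) (gl_mulVec_injective g (by
        show (g : Mn) *ᵥ e w = (g : Mn) *ᵥ e 0
        rw [hgw, h0, emb_zero, Matrix.mulVec_zero])))
      obtain ⟨ha0, hr0⟩ := smul_ne_zero_iff.1 har
      refine ⟨a, r, ha0, hgw, fun b hb => ?_⟩
      by_contra hc
      push Not at hc
      have hI := hroot w b hw hb
      rw [hgw, InE.smul_left] at hI
      refine hno ⟨r, a • ((g : Mn) *ᵥ e b), fun h0 => hr0 (by rw [h0, emb_zero]), ?_, ?_, hI, hc⟩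
      · have h3 := hgQ w hw
        rw [hgw, QuadraticMap.map_smul, hd.val, smul_eq_mul] at h3
        exact Subtype.ext ((mul_eq_zero.1 h3).resolve_left (mul_ne_zero ha0 ha0))
      · have h3 := hgB w b
        rw [hgw, QuadraticMap.polar_smul_left, smul_eq_mul, hb, ZeroMemClass.coe_zero] at h3
        rw [QuadraticMap.polar_smul_right, smul_eq_mul]
        exact h3
    obtain ⟨a, r, ha0, hgw, hka⟩ := key w hwT hw hw0
    obtain ⟨a', r', ha'0, hgw', hka'⟩ := key w' hw'T hw' hw'0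
    have haa : a * a' * (B₀ r r' : F) = B₀ w w' := by
      rw [← hgB w w', hgw, hgw', QuadraticMap.polar_smul_left, QuadraticMap.polar_smul_right, hd.pol, smul_eq_mul,
        smul_eq_mul, mul_assoc]
    have hrr : (B₀ r r' : F) ≠ 0 := fun h0 => hww' (Subtype.ext (by rw [← haa, h0, mul_zero]; rfl))
    have haaF : a * a' ∈ F₀ := by
      rw [eq_div_of_mul_eq hrr haa]
      exact div_mem (SetLike.coe_mem _) (SetLike.coe_mem _)
    -- a rational image on the vectors perpendicular to both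
    have hboth : ∀ (a₁ : F) (r₁ : W₀) (a₂ : F) (r₂ : W₀) (w₁ w₂ b : W₀), a₂ ≠ 0 → (B₀ r₁ r₂ : F) ≠ 0 →
        (g : Mn) *ᵥ e w₂ = a₂ • e r₂ → B₀ w₂ b = 0 →
        (∃ u, ∃ c : F, a₁ • ((g : Mn) *ᵥ e b) = e u + c • e r₁) → ∃ u, a₁ • ((g : Mn) *ᵥ e b) = e u := by
      intro a₁ r₁ a₂ r₂ w₁ w₂ b ha₂ h12 hg₂ hb2 ⟨u, c, hu⟩
      have h3 : B ((g : Mn) *ᵥ e w₂) (a₁ • ((g : Mn) *ᵥ e b)) = 0 := by
        rw [QuadraticMap.polar_smul_right, hgB, hb2, ZeroMemClass.coe_zero, smul_zero]
      rw [hu, hg₂, QuadraticMap.polar_smul_left, smul_eq_mul, mul_eq_zero, or_iff_right ha₂,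
        QuadraticMap.polar_add_right, QuadraticMap.polar_smul_right, hd.pol, hd.pol, QuadraticMap.polar_comm _ r₂ r₁,
        smul_eq_mul] at h3
      have hc : c ∈ F₀ := by
        rw [show c = -((B₀ r₂ u : F₀) : F) / (B₀ r₁ r₂ : F) by field_simp; linear_combination h3]
        exact div_mem (neg_mem (SetLike.coe_mem _)) (SetLike.coe_mem _)
      exact ⟨u + (⟨c, hc⟩ : F₀) • r₁, by rw [hu, emb_add, emb_smul]⟩
    have hra : ∀ b, B₀ w b = 0 → B₀ w' b = 0 → ∃ u, a • ((g : Mn) *ᵥ e b) = e u := fun b h1 h3 =>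
      hboth a r a' r' w w' b ha'0 hrr hgw' h3 (hka b h1)
    have hra' : ∀ b, B₀ w b = 0 → B₀ w' b = 0 → ∃ u, a' • ((g : Mn) *ᵥ e b) = e u := fun b h1 h3 =>
      hboth a' r' a r w' w b ha0 (by rw [QuadraticMap.polar_comm]; exact hrr) hgw h1 (hka' b h3)
    obtain ⟨b₀, ⟨hb1, hb2⟩, -, hb0, -⟩ := exists_hyp_in (hd.rad_two (a := w) (b := w'))
    obtain ⟨u, hu⟩ := hra b₀ hb1 hb2
    obtain ⟨u', hu'⟩ := hra' b₀ hb1 hb2
    have hu0 : u ≠ 0 := fun h0 => hb0 (emb_injective (P := P) (gl_mulVec_injective g (by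
      show (g : Mn) *ᵥ e b₀ = (g : Mn) *ᵥ e 0
      rw [h0, emb_zero, smul_eq_zero, or_iff_right ha0] at hu
      rw [hu, emb_zero, Matrix.mulVec_zero])))
    obtain ⟨s, hs⟩ := hd.partner hu0
    have hdiv : a' / a ∈ F₀ := by
      have h3 := hd.pol u' s
      rw [← hu', show a' • ((g : Mn) *ᵥ e b₀) = (a' / a) • (a • ((g : Mn) *ᵥ e b₀)) by
        rw [smul_smul, div_mul_cancel₀ _ ha0], hu, QuadraticMap.polar_smul_left, hd.pol, hs, OneMemClass.coe_one,
        smul_eq_mul, mul_one] at h3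
      rw [h3]; exact SetLike.coe_mem _
    have ha2 : a * a ∈ F₀ := by
      rw [show a * a = a * a' / (a' / a) by field_simp]
      exact div_mem haaF hdiv
    refine hgH (mem_subfieldSubgroup_of ha0 fun v hv => ?_)
    obtain ⟨x, rfl⟩ := exists_emb hv
    set α := B₀ w' x / B₀ w w' with hα
    set β := B₀ w x / B₀ w w' with hβ
    obtain ⟨y, hy⟩ := hra (x - α • w - β • w')
      (by rw [QuadraticMap.polar_sub_right, QuadraticMap.polar_sub_right, QuadraticMap.polar_smul_right,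
        QuadraticMap.polar_smul_right, polar_self' hw, smul_zero, sub_zero, smul_eq_mul, hβ,
        div_mul_cancel₀ _ hww', sub_self])
      (by rw [QuadraticMap.polar_sub_right, QuadraticMap.polar_sub_right, QuadraticMap.polar_smul_right,
        QuadraticMap.polar_smul_right, polar_self' hw', smul_zero, sub_zero, smul_eq_mul, hα,
        QuadraticMap.polar_comm _ w' w, div_mul_cancel₀ _ hww', sub_self])
    have hx : a • ((g : Mn) *ᵥ e x) = e y + (α : F) • (a * a) • e r + (β : F) • (a * a') • e r' := by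
      rw [← hy, ← smul_smul a a, ← smul_smul a a', ← hgw, ← hgw', emb_sub, emb_sub, emb_smul, emb_smul,
        Matrix.mulVec_sub, Matrix.mulVec_sub, Matrix.mulVec_smul, Matrix.mulVec_smul]
      module
    rw [hx]
    exact ((rat_emb y).add (((rat_emb r).smul ha2).smul α.2)).add (((rat_emb r').smul haaF).smul β.2)

/-- An element intertwining two rational maps gives a new parameter. -/
theorem newRoot_of_intertwine {g t₁ t₂ : GL ι F} {f₁ f₂ : W₀ →ₗ[F₀] W₀} (hg : g ∈ M)
    (hgH : g ∉ Geo.subfieldSubgroup F₀ P) (h₁ : RMap P t₁ f₁) (h₂ : RMap P t₂ f₂) (ht₂ : t₂ ∈ M)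
    (hcomm : g * t₁ = t₂ * g) (hdim : 3 ≤ finrank F₀ (LinearMap.ker f₁))
    (hrad : (∀ y ∈ LinearMap.ker f₁, (∀ t ∈ LinearMap.ker f₁, B₀ y t = 0) → y = 0) ∨
      Fintype.card ι + 2 < 2 * finrank F₀ (LinearMap.ker f₁))
    (hr : ∃ r ∈ LinearMap.range f₂, r ≠ 0 ∧ Q₀ r = 0) : NewRoot P Q Q₀ M := by
  obtain ⟨r, ⟨w, rfl⟩, hr0, hQr⟩ := hr
  refine hd.newRoot_of_perp hg hgH hdim hrad hr0 hQr fun y hy => ?_
  have hfix : (t₂ : Mn) *ᵥ ((g : Mn) *ᵥ e y) = (g : Mn) *ᵥ e y := by
    rw [Matrix.mulVec_mulVec, ← Units.val_mul, ← hcomm, Units.val_mul, ← Matrix.mulVec_mulVec, h₁,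
      LinearMap.mem_ker.1 hy, add_zero]
  have h3 := isometry_polar (hd.iso t₂ ht₂) (e w) ((g : Mn) *ᵥ e y)
  rw [hfix, h₂, emb_add, QuadraticMap.polar_add_left] at h3
  linear_combination h3

/-- A pair of commuting reflections of the same value, in `M`. -/
theorem exists_pairInv {a b : W₀} (hab : B₀ a b = 0) (ha : Q₀ a ≠ 0) (hb : Q₀ b = Q₀ a) :
    ∃ t ∈ M, ∃ f : W₀ →ₗ[F₀] W₀, RMap P t f ∧ t * t = 1 ∧
      ∀ u, f u = -(((Q₀ a)⁻¹ * B₀ a u) • a) - ((Q₀ a)⁻¹ * B₀ b u) • b := by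
  have hb0 : Q₀ b ≠ 0 := by rw [hb]; exact ha
  have := Fintype.ofFinite F₀
  obtain ⟨t, ht, htx⟩ := hd.lift (g := OrthAut.refl ha * OrthAut.refl hb0)
    (omega_eq_sR_all hd.nd₀ hd.tri₀ ▸ refl_pair_mem hd.nd₀ hd.tri₀ ha hb0 hb)
  have hval : ∀ u, ogVal (OrthAut.refl ha * OrthAut.refl hb0) *ᵥ u =
      u + (-(((Q₀ a)⁻¹ * B₀ a u) • a) - ((Q₀ a)⁻¹ * B₀ b u) • b) := fun u => by
    rw [ogVal_mul, ← Matrix.mulVec_mulVec, refl_apply, refl_apply, QuadraticMap.polar_sub_right,
      QuadraticMap.polar_smul_right, hab, hb, smul_zero, sub_zero]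
    abel
  let f : W₀ →ₗ[F₀] W₀ := -(LinearMap.smulRight ((Q₀ a)⁻¹ • QuadraticMap.polarBilin Q₀ a) a) -
    LinearMap.smulRight ((Q₀ a)⁻¹ • QuadraticMap.polarBilin Q₀ b) b
  have hf : RMap P t f := fun u => by rw [htx, hval]; rfl
  refine ⟨t, ht, f, hf, ?_, fun u => rfl⟩
  refine ext_emb P F₀ fun u => ?_
  rw [Units.val_mul, ← Matrix.mulVec_mulVec, htx, htx, Matrix.mulVec_mulVec, ← ogVal_mul, Units.val_one,
    Matrix.one_mulVec]
  have hcomm : OrthAut.refl hb0 * OrthAut.refl ha = OrthAut.refl ha * OrthAut.refl hb0 := by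
    have hfix : ogVal (OrthAut.refl ha) *ᵥ b = b := by rw [refl_apply, hab, mul_zero, zero_smul, sub_zero]
    have h1 := OrthAut.refl_conj (OrthAut.refl ha) hb0 (by rw [hfix]; exact hb0)
    rw [mul_inv_eq_iff_eq_mul, OrthAut.refl_congr (v := b) hb0 (w := ogVal (OrthAut.refl ha) *ᵥ b) (by rw [hfix]; exact hb0)
      (c := 1) (by rw [hfix, one_smul]) |>.symm] at h1
    exact h1.symm
  rw [show OrthAut.refl ha * OrthAut.refl hb0 * (OrthAut.refl ha * OrthAut.refl hb0) = 1 by
    rw [mul_assoc, ← mul_assoc (OrthAut.refl hb0), hcomm, mul_assoc (OrthAut.refl ha) (OrthAut.refl hb0) (OrthAut.refl hb0), refl_mul_self,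
      mul_one, refl_mul_self], ogVal_one, Matrix.one_mulVec]

/-- Orthogonal vectors of value one half in a non-degenerate subspace of odd characteristic. -/
theorem exists_units (h2 : (2 : F₀) ≠ 0) (j : ℕ) :
    ∀ T : Submodule F₀ W₀, (∀ w ∈ T, w ≠ 0 → ∃ u ∈ T, B₀ w u ≠ 0) → j + 1 ≤ finrank F₀ T →
      ∃ a : Fin j → W₀, (∀ i, a i ∈ T ∧ B₀ (a i) (a i) = 1) ∧ ∀ i i', i ≠ i' → B₀ (a i) (a i') = 0 := by
  induction j with
  | zero => exact fun T _ _ => ⟨Fin.elim0, fun i => i.elim0, fun i => i.elim0⟩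
  | succ j ih =>
    intro T hT hdim
    obtain ⟨v, hv, hvv⟩ := exists_norm_one_in (QuadraticMap.polarBilin Q₀) h2 (polarBilin_isSymm Q₀) hT (by omega)
    have hvv0 : QuadraticMap.polarBilin Q₀ v v ≠ 0 := by rw [hvv]; exact one_ne_zero
    have hd' := finrank_inf_orth (QuadraticMap.polarBilin Q₀) hv hvv0
    obtain ⟨a, ha, horth⟩ := ih _ (nondeg_inf_ker (QuadraticMap.polarBilin Q₀) (polarBilin_isSymm Q₀) hT hv hvv0)
      (by omega)
    refine ⟨Fin.cons v a, fun i => ?_, fun i i' hne => ?_⟩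
    · refine Fin.cases ⟨hv, hvv⟩ (fun i => ?_) i
      rw [Fin.cons_succ]; exact ⟨(ha i).1.1, (ha i).2⟩
    · revert hne
      refine Fin.cases ?_ (fun i => ?_) i <;> refine Fin.cases ?_ (fun i' => ?_) i' <;> intro hne
      · exact absurd rfl hne
      · rw [Fin.cons_zero, Fin.cons_succ]; exact (ha i').1.2
      · rw [Fin.cons_zero, Fin.cons_succ, QuadraticMap.polar_comm]; exact (ha i).1.2
      · rw [Fin.cons_succ, Fin.cons_succ]; exact horth i i' fun h => hne (by rw [h])

/-- Two and four orthogonal half-unit vectors give two involutions. -/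
theorem exists_two_four (h2 : (2 : F₀) ≠ 0) {a : Fin 4 → W₀} (ha : ∀ i, B₀ (a i) (a i) = 1)
    (horth : ∀ i i', i ≠ i' → B₀ (a i) (a i') = 0) :
    ∃ t ∈ M, ∃ f : W₀ →ₗ[F₀] W₀, ∃ t' ∈ M, ∃ f' : W₀ →ₗ[F₀] W₀, RMap P t f ∧ RMap P t' f' ∧ t * t = 1 ∧
      t' * t' = 1 ∧ Mv t 2 ∧ Mv t' 4 ∧ (∀ i, f' (a i) = (-2 : F₀) • a i) ∧
      f (a 0) = (-2 : F₀) • a 0 ∧ f (a 1) = (-2 : F₀) • a 1 ∧
      (∀ u, (∀ i, B₀ (a i) u = 0) → f' u = 0) ∧ (∀ u, B₀ (a 0) u = 0 → B₀ (a 1) u = 0 → f u = 0) ∧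
      (∀ u, f' u ∈ Submodule.span F₀ (Set.range a)) ∧ ∀ u, f u ∈ Submodule.span F₀ {a 0, a 1} := by
  have hQa : ∀ i, (2 : F₀) * Q₀ (a i) = 1 := fun i => by rw [← polar_self2, ha]
  have hq : ∀ i, Q₀ (a i) ≠ 0 := fun i h0 => zero_ne_one (by rw [← hQa i, h0, mul_zero])
  have heq : ∀ i j, Q₀ (a i) = Q₀ (a j) := fun i j => mul_left_cancel₀ h2 ((hQa i).trans (hQa j).symm)
  have hinv : ∀ i, (Q₀ (a i))⁻¹ = 2 := fun i => inv_eq_of_mul_eq_one_left (hQa i)
  obtain ⟨t, ht, f, hf, htt, hfx⟩ := hd.exists_pairInv (horth 0 1 (by decide)) (hq 0) (heq 1 0)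
  obtain ⟨s, hs, k, hk, hss, hkx⟩ := hd.exists_pairInv (horth 2 3 (by decide)) (hq 2) (heq 3 2)
  simp only [hinv] at hfx hkx
  have hcomm : t * s = s * t := ext_emb P F₀ fun u => by
    rw [(hf.mul hk) u, (hk.mul hf) u]
    congr 1
    simp only [LinearMap.add_apply, LinearMap.comp_apply, hfx, hkx]
    simp [QuadraticMap.polar_sub_right, QuadraticMap.polar_smul_right, horth]
    abel
  have hf' : RMap P (t * s) (f + k) := fun u => by
    rw [(hf.mul hk) u]
    congr 1
    simp only [LinearMap.add_apply, LinearMap.comp_apply, hfx, hkx]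
    simp [QuadraticMap.polar_sub_right, QuadraticMap.polar_smul_right, horth]
  have hspan : ∀ u, f u ∈ Submodule.span F₀ {a 0, a 1} := fun u => by
    rw [hfx]
    exact Submodule.sub_mem _ (Submodule.neg_mem _ (Submodule.smul_mem _ _ (Submodule.subset_span (by simp))))
      (Submodule.smul_mem _ _ (Submodule.subset_span (by simp)))
  have hspan' : ∀ u, (f + k) u ∈ Submodule.span F₀ (Set.range a) := fun u => by
    rw [LinearMap.add_apply]
    refine Submodule.add_mem _ (Submodule.span_mono (by simp [Set.insert_subset_iff]) (hspan u)) ?_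
    rw [hkx]
    exact Submodule.sub_mem _ (Submodule.neg_mem _ (Submodule.smul_mem _ _ (Submodule.subset_span ⟨2, rfl⟩)))
      (Submodule.smul_mem _ _ (Submodule.subset_span ⟨3, rfl⟩))
  refine ⟨t, ht, f, t * s, mul_mem ht hs, f + k, hf, hf', htt, ?_, hf.mv ![a 0, a 1] (fun u => ?_),
    hf'.mv a hspan', fun i => ?_, ?_, ?_, fun u hu => ?_, fun u h0 h1 => ?_, hspan', hspan⟩
  · rw [show t * s * (t * s) = t * (s * t) * s by group, ← hcomm, ← mul_assoc, htt, one_mul, hss]
  · rw [Matrix.range_cons_cons_empty]; exact hspan u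
  · rw [LinearMap.add_apply, hfx, hkx]
    fin_cases i <;> simp [ha, horth]
  · rw [hfx, ha, QuadraticMap.polar_comm _ (a 1), horth 0 1 (by decide)]; module
  · rw [hfx, ha, horth 0 1 (by decide)]; module
  · rw [LinearMap.add_apply, hfx, hkx, hu, hu, hu, hu]; simp
  · rw [hfx, h0, h1]; simp

/-- Three independent vectors span a space with a singular vector. -/
theorem sing_three {f : W₀ →ₗ[F₀] W₀} (x : Fin 3 → W₀) (hx : ∀ i, x i ∈ LinearMap.range f)
    (hli : LinearIndependent F₀ x) : ∃ r ∈ LinearMap.range f, r ≠ 0 ∧ Q₀ r = 0 := by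
  refine sing_in (Or.inl ?_)
  have h := Submodule.finrank_mono (show Submodule.span F₀ (Set.range x) ≤ LinearMap.range f from
    Submodule.span_le.2 (by rintro _ ⟨i, rfl⟩; exact hx i))
  rwa [finrank_span_eq_card hli, Fintype.card_fin] at h

theorem li_units {a : Fin 4 → W₀} (ha : ∀ i, B₀ (a i) (a i) = 1)
    (horth : ∀ i i', i ≠ i' → B₀ (a i) (a i') = 0) : LinearIndependent F₀ fun i : Fin 3 => a (Fin.castSucc i) :=
  linearIndependent_of_orth _ (fun i => QuadraticMap.polarBilin Q₀ (a (Fin.castSucc i)))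
    (fun i j hij => horth _ _ fun h => hij (Fin.castSucc_injective _ h))
    fun i => by rw [QuadraticMap.polarBilin_apply_apply, ha]; exact one_ne_zero

/-- Intertwining two rational involutions moving planes. -/
theorem newRoot_stage {n : ℕ} (hn : n.Prime) (hcard : Fintype.card F = Nat.card F₀ ^ n)
    (hsize : ((12 ≤ Fintype.card ι ∨ Fintype.card ι = 10) ∨ Odd (Fintype.card ι)) ∨ Eight Q n)
    (hle : M ≤ Geo.omegaGL ⇑Q) (h2 : (2 : F₀) ≠ 0) {g z z' : GL ι F} {fz fz' : W₀ →ₗ[F₀] W₀} (hg : g ∈ M)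
    (hgH : g ∉ Geo.subfieldSubgroup F₀ P) (hz : RMap P z fz) (hz' : RMap P z' fz') (hzM : z ∈ M)
    (hz'M : z' ∈ M) (hzz : z * z = 1) (hz'z' : z' * z' = 1) (hz1 : z ≠ 1) (hz'1 : z' ≠ 1)
    (hmv : Mv z 2) (hmv' : Mv z' 2) (hcomm : g * z' = z * g) : NewRoot P Q Q₀ M := by
  have hdim := hd.dim
  have h2' : (2 : F₀) ≠ 0 := h2
  have h2F : (2 : F) ≠ 0 := two_ne_sub h2
  have hnd : ∀ {w : GL ι F} {fw : W₀ →ₗ[F₀] W₀}, w ∈ M → RMap P w fw → w * w = 1 →
      ∀ y ∈ LinearMap.ker fw, y ≠ 0 → ∃ u ∈ LinearMap.ker fw, B₀ y u ≠ 0 := fun hw hfw hww y hy hy0 => by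
    by_contra hc
    push Not at hc
    exact hy0 (hd.fix_rad hw hfw hww h2 y hy hc)
  obtain ⟨a, ha, horth⟩ := hd.exists_units h2 4 _ (hnd hzM hz hzz) (by have := hd.ker_dim hzM hz hmv; omega)
  obtain ⟨b, hb, horth'⟩ := hd.exists_units h2 4 _ (hnd hz'M hz' hz'z') (by have := hd.ker_dim hz'M hz' hmv'; omega)
  obtain ⟨-, -, -, t, htM, ft, -, ht, -, htt, -, hmt, hta, -, -, htperp, -, htspan, -⟩ :=
    hd.exists_two_four h2 (fun i => (ha i).2) horth
  obtain ⟨t₀, ht₀M, f₀, -, -, -, ht₀, -, ht₀t₀, -, hm₀, -, -, h₀a, h₀b, -, h₀perp, -, -⟩ :=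
    hd.exists_two_four h2 (fun i => (hb i).2) horth'
  have hm2 : (-2 : F₀) ≠ 0 := neg_ne_zero.2 h2
  have hrange : ∀ {fw : W₀ →ₗ[F₀] W₀} {x : W₀}, fw x = (-2 : F₀) • x → x ∈ LinearMap.range fw := fun {fw x} h =>
    ⟨(-2 : F₀)⁻¹ • x, by rw [map_smul, h, smul_smul, inv_mul_cancel₀ hm2, one_smul]⟩
  have hzt : z * t = t * z := ext_emb P F₀ fun u => by
    rw [(hz.mul ht) u, (ht.mul hz) u]
    congr 1
    have e1 : fz (ft u) = 0 := by
      refine Submodule.span_induction (p := fun x _ => fz x = 0) ?_ (map_zero _) ?_ ?_ (htspan u)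
      · rintro _ ⟨i, rfl⟩; exact (ha i).1
      · intro x y _ _ hx hy; rw [map_add, hx, hy, add_zero]
      · intro c x _ hx; rw [map_smul, hx, smul_zero]
    have e2 : ft (fz u) = 0 := htperp _ fun i => by
      rw [QuadraticMap.polar_comm]; exact hd.fix_orth hzM hz u (ha i).1
    simp only [LinearMap.add_apply, LinearMap.comp_apply, e1, e2]; abel
  have hz'₀ : z' * t₀ = t₀ * z' := ext_emb P F₀ fun u => by
    rw [(hz'.mul ht₀) u, (ht₀.mul hz') u]
    congr 1
    have e1 : ∀ x, f₀ (fz' x) = 0 := fun x => h₀perp _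
      (by rw [QuadraticMap.polar_comm]; exact hd.fix_orth hz'M hz' x (hb 0).1)
      (by rw [QuadraticMap.polar_comm]; exact hd.fix_orth hz'M hz' x (hb 1).1)
    have e2 : fz' (f₀ u) = 0 := hd.nd₀.1 _ fun y => by
      rw [QuadraticMap.polarBilin_apply_apply, hd.adj hz'M hz' hz'z', hd.adj ht₀M ht₀ ht₀t₀, e1]
      exact QuadraticMap.polar_zero_right Q₀ u
    simp only [LinearMap.add_apply, LinearMap.comp_apply, e1, e2]; abel
  set u₀ := g * t₀ * g⁻¹ with hu₀
  have hu₀M : u₀ ∈ M := mul_mem (mul_mem hg ht₀M) (inv_mem hg)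
  have hu₀u₀ : u₀ * u₀ = 1 := by rw [hu₀, conj_mul, ht₀t₀, mul_one, mul_inv_cancel]
  have hgz : g * z' * g⁻¹ = z := by rw [hcomm, mul_inv_cancel_right]
  have hzu₀ : z * u₀ = u₀ * z := by rw [← hgz, hu₀, conj_mul, conj_mul, hz'₀]
  have hnc : ∀ k : GL ι F, k * t * k⁻¹ ≠ u₀ := fun k hk => by
    have h1 : t = k⁻¹ * g * t₀ * (k⁻¹ * g)⁻¹ := by
      rw [show k⁻¹ * g * t₀ * (k⁻¹ * g)⁻¹ = k⁻¹ * u₀ * k by rw [hu₀]; group, ← hk]; group
    have h2 : Mv t 2 := h1 ▸ hm₀.conj _
    have h3 := Submodule.finrank_mono (show Submodule.span F₀ (Set.range fun i : Fin 3 => a (Fin.castSucc i)) ≤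
      LinearMap.range ft from Submodule.span_le.2 (by rintro _ ⟨i, rfl⟩; exact hrange (hta _)))
    rw [finrank_span_eq_card (hd.li_units (fun i => (ha i).2) horth), Fintype.card_fin] at h3
    have := ht.rank_le h2
    omega
  obtain ⟨⟨k, hk⟩⟩ | ⟨w, hw, hww, hw1, hwt, hwu⟩ := conj_or_central htt hu₀u₀ (fun h => hnc 1 (by simpa using h))
  · exact absurd hk (hnc k)
  have hwM : w ∈ M := Subgroup.zpowers_le.2 (mul_mem htM hu₀M) hw
  have hmw : Mv w 6 := hmt.of_mem_zpowers (hm₀.conj g) hw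
  have hwz : w * z = z * w := Subgroup.mem_centralizer_singleton_iff.1
    (Subgroup.zpowers_le.2 (show t * u₀ ∈ Subgroup.centralizer {z} from
      mul_mem (Subgroup.mem_centralizer_singleton_iff.2 hzt.symm)
        (Subgroup.mem_centralizer_singleton_iff.2 hzu₀.symm)) hw)
  by_cases hwH : w ∈ Geo.subfieldSubgroup F₀ P
  swap
  · exact hd.newRoot_of_intertwine hwM hwH ht ht htM hwt (by have := hd.ker_dim htM ht hmt; omega)
      (Or.inl (hd.fix_rad htM ht htt h2))
      (hd.sing_three _ (fun i => hrange (hta _)) (hd.li_units (fun i => (ha i).2) horth))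
  set w' := g⁻¹ * w * g with hw'
  have hgw : g * w' = w * g := by rw [hw']; group
  have hw'M : w' ∈ M := mul_mem (mul_mem (inv_mem hg) hwM) hg
  have hw'w' : w' * w' = 1 := by
    rw [show w' * w' = g⁻¹ * (w * w) * g by rw [hw']; group, hww]; group
  have hmw' : Mv w' 6 := by
    have := hmw.conj g⁻¹
    rwa [inv_inv, ← hw'] at this
  have hw't₀ : w' * t₀ = t₀ * w' := by
    rw [show w' * t₀ = g⁻¹ * (w * u₀) * g by rw [hw', hu₀]; group, hwu, hw', hu₀]; group
  have hw'z' : w' * z' = z' * w' := by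
    rw [show w' * z' = g⁻¹ * (w * z) * g by rw [hw', ← hgz]; group, hwz, hw', ← hgz]; group
  by_cases hw'H : w' ∈ Geo.subfieldSubgroup F₀ P
  swap
  · have h3 : z' * t₀ ∈ M := mul_mem hz'M ht₀M
    have h33 : z' * t₀ * (z' * t₀) = 1 := by
      rw [show z' * t₀ * (z' * t₀) = z' * (t₀ * z') * t₀ by simp only [mul_assoc], ← hz'₀, ← mul_assoc, hz'z', one_mul, ht₀t₀]
    have hmv3 : Mv (z' * t₀) 4 := hmv'.of_mem_zpowers hm₀ (Subgroup.mem_zpowers _)
    obtain ⟨x, hx⟩ : ∃ x, fz' x ≠ 0 := by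
      by_contra hc
      push Not at hc
      exact hz'1 (ext_emb P F₀ fun u => by rw [hz', hc, add_zero, Units.val_one, Matrix.one_mulVec])
    have hm0 : B₀ (b 0) (fz' x) = 0 := by rw [QuadraticMap.polar_comm]; exact hd.fix_orth hz'M hz' x (hb 0).1
    have hm1 : B₀ (b 1) (fz' x) = 0 := by rw [QuadraticMap.polar_comm]; exact hd.fix_orth hz'M hz' x (hb 1).1
    have hzm : fz' (fz' x) = (-2 : F₀) • fz' x := by
      rw [neg_smul]; exact eq_neg_of_add_eq_zero_left (hz'.invol hz'z' x)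
    refine hd.newRoot_of_intertwine hw'M hw'H (hz'.mul ht₀) (hz'.mul ht₀) h3
      (by rw [← mul_assoc, hw'z', mul_assoc, hw't₀, ← mul_assoc])
      (by have := hd.ker_dim h3 (hz'.mul ht₀) hmv3; omega)
      (Or.inl (hd.fix_rad h3 (hz'.mul ht₀) h33 h2))
      (hd.sing_three ![b 0, b 1, fz' x] (fun i => hrange ?_) ?_)
    · fin_cases i <;>
        simp [h₀a, h₀b, LinearMap.mem_ker.1 (hb 0).1, LinearMap.mem_ker.1 (hb 1).1, hzm, h₀perp _ hm0 hm1]
    · refine Fintype.linearIndependent_iff.2 fun c hc => ?_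
      rw [Fin.sum_univ_three] at hc
      simp only [Matrix.cons_val_zero, Matrix.cons_val_one, Matrix.cons_val_two, Matrix.head_cons,
        Matrix.tail_cons] at hc
      have e0 := congrArg (B₀ (b 0)) hc
      have e1 := congrArg (B₀ (b 1)) hc
      simp [QuadraticMap.polar_add_right, QuadraticMap.polar_smul_right, (hb 0).2, (hb 1).2,
        horth' 0 1 (by decide), horth' 1 0 (by decide), hm0, hm1] at e0 e1
      rw [e0, e1, zero_smul, zero_smul, zero_add, zero_add, smul_eq_zero] at hc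
      intro i
      fin_cases i
      exacts [e0, e1, hc.resolve_right hx]
  have ht1 : t ≠ 1 := fun h1 => False.elim (by
    have h4 := ht (a 0)
    rw [h1, Units.val_one, Matrix.one_mulVec, show ft (a 0) = ft (a (Fin.castSucc 0)) from rfl, hta] at h4
    have h5 := emb_injective h4
    rw [left_eq_add, smul_eq_zero] at h5
    exact absurd ((ha 0).2.symm.trans (by rw [show a 0 = a (Fin.castSucc 0) from rfl, h5.resolve_left hm2,
      QuadraticMap.polar_zero_left])) one_ne_zero)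
  have ht₀1 : t₀ ≠ 1 := fun h1 => by
    have h4 := ht₀ (b 0)
    rw [h1, Units.val_one, Matrix.one_mulVec, h₀a] at h4
    have h5 := emb_injective h4
    rw [left_eq_add, smul_eq_zero] at h5
    exact one_ne_zero ((hb 0).2.symm.trans (by rw [h5.resolve_left hm2, QuadraticMap.polar_zero_left]))
  obtain ⟨fw, hfw⟩ := exists_rmap (hsize.elim (fun hs => ratMap_of_invol_mem hn hcard hle hwM hwH hww hmw le_rfl
    (hs.imp_right fun h => ⟨h, h2F⟩) ht.ratMap ht1 hmt (hm₀.conj g) le_rfl (Or.inl hw))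
    fun h8 => ratMap_of_odd h8.odd hcard hwH hww)
  obtain ⟨fw', hfw'⟩ := exists_rmap (hsize.elim (fun hs => ratMap_of_invol_mem hn hcard hle hw'M hw'H hw'w' hmw' le_rfl
    (hs.imp_right fun h => ⟨h, h2F⟩) ht₀.ratMap ht₀1 hm₀ (hmt.conj g⁻¹) le_rfl (Or.inr (by
      obtain ⟨l, hl⟩ := Subgroup.mem_zpowers_iff.1 hw
      refine Subgroup.mem_zpowers_iff.2 ⟨l, ?_⟩
      rw [show g⁻¹ * t * g⁻¹⁻¹ * t₀ = g⁻¹ * (t * u₀) * g⁻¹⁻¹ by rw [hu₀]; group, conj_zpow, hl, hw', inv_inv])))
    fun h8 => ratMap_of_odd h8.odd hcard hw'H hw'w')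
  have hwfix : ∀ x, fw (fz x) = 0 := fun x => by
    let St : Subgroup (GL ι F) :=
      { carrier := {h | (h : Mn) *ᵥ e (fz x) = e (fz x)}
        mul_mem' := fun {p q} hp hq => by
          show ((p * q : GL ι F) : Mn) *ᵥ e (fz x) = e (fz x)
          rw [Units.val_mul, ← Matrix.mulVec_mulVec, hq, hp]
        one_mem' := by simp
        inv_mem' := fun {p} hp => by
          show ((p⁻¹ : GL ι F) : Mn) *ᵥ e (fz x) = e (fz x)
          conv_lhs => rw [← hp]
          exact inv_mulVec_cancel p _ }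
    have hu : u₀ ∈ St := by
      show (u₀ : Mn) *ᵥ e (fz x) = e (fz x)
      -- transport through `g`
      have hcalc : ∀ y : V, (t₀ : Mn) *ᵥ ((z' : Mn) *ᵥ y - y) = (z' : Mn) *ᵥ y - y := fun y => by
        rw [eq_sum_emb P F₀ y, Matrix.mulVec_sum, ← Finset.sum_sub_distrib, Matrix.mulVec_sum]
        refine Finset.sum_congr rfl fun i _ => ?_
        rw [Matrix.mulVec_smul, ← smul_sub, hz', emb_add, add_sub_cancel_left, Matrix.mulVec_smul, ht₀, h₀perp _
          (by rw [QuadraticMap.polar_comm]; exact hd.fix_orth hz'M hz' _ (hb 0).1)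
          (by rw [QuadraticMap.polar_comm]; exact hd.fix_orth hz'M hz' _ (hb 1).1), add_zero]
      have he : e (fz x) = (g : Mn) *ᵥ ((z' : Mn) *ᵥ (((g⁻¹ : GL ι F) : Mn) *ᵥ e x) -
          ((g⁻¹ : GL ι F) : Mn) *ᵥ e x) := by
        rw [Matrix.mulVec_sub, mulVec_inv_cancel, Matrix.mulVec_mulVec, ← Units.val_mul, Matrix.mulVec_mulVec,
          ← Units.val_mul, hgz, hz, emb_add, add_sub_cancel_left]
      rw [he, hu₀, Units.val_mul, Units.val_mul, ← Matrix.mulVec_mulVec, ← Matrix.mulVec_mulVec,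
        inv_mulVec_cancel, hcalc]
    have ht' : t ∈ St := by
      show (t : Mn) *ᵥ e (fz x) = e (fz x)
      rw [ht, htperp _ fun i => by rw [QuadraticMap.polar_comm]; exact hd.fix_orth hzM hz x (ha i).1, add_zero]
    have := (Subgroup.zpowers_le.2 (mul_mem ht' hu)) hw
    change (w : Mn) *ᵥ e (fz x) = e (fz x) at this
    rw [hfw] at this
    simpa using emb_injective this
  by_cases hbig : 3 ≤ finrank F₀ (LinearMap.range fw)
  · have h6 := hfw.rank_le hmw
    have hmw'r : Mv w' (finrank F₀ (LinearMap.range fw)) := by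
      have := hfw.mv_rank.conj g⁻¹
      rwa [inv_inv, ← hw'] at this
    have h7 := Submodule.finrank_mono (show LinearMap.range fz ≤ LinearMap.ker fw from by
      rintro _ ⟨x, rfl⟩; exact LinearMap.mem_ker.2 (hwfix x))
    have h8 := fw.finrank_range_add_finrank_ker
    rw [finrank_pi] at h8
    have h9 := hd.two_le_rank hzM hz hle hz1
    obtain ⟨m, hm⟩ := hd.even_rank hwM hfw hle
    refine hd.newRoot_of_intertwine hg hgH hfw' hfw hwM hgw ?_ (Or.inl (hd.fix_rad hw'M hfw' hw'w' h2))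
      (sing_in (Or.inl hbig))
    have := hd.ker_dim hw'M hfw' hmw'r
    rcases hsize with (h | ⟨l, hl⟩) | h8
    · omega
    · omega
    have := h8.card
    by_contra hlt
    have h11 : finrank F₀ (LinearMap.range fw) = 6 := by omega
    -- then `z * w` is minus the identity
    refine h8.neg (hle ?_)
    suffices heq : z * w = -1 from heq ▸ mul_mem hzM hwM
    refine ext_emb P F₀ fun u => ?_
    have hker : LinearMap.range fz = LinearMap.ker fw :=
      Submodule.eq_of_le_of_finrank_le (by rintro _ ⟨x, rfl⟩; exact LinearMap.mem_ker.2 (hwfix x)) (by omega)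
    obtain ⟨x, hx⟩ : fw u + (2 : F₀) • u ∈ LinearMap.range fz := by
      rw [hker, LinearMap.mem_ker, map_add, map_smul]
      exact hfw.invol hww u
    have h12 : fz (fw u) = 0 := by
      refine hd.nd₀.1 _ fun v => ?_
      rw [QuadraticMap.polarBilin_apply_apply, hd.adj hzM hz hzz, hd.adj hwM hfw hww, hwfix,
        QuadraticMap.polar_zero_right]
    have h13 : fz (fw u + (2 : F₀) • u) = -((2 : F₀) • (fw u + (2 : F₀) • u)) := by
      rw [← hx]; exact eq_neg_of_add_eq_zero_left (hz.invol hzz x)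
    rw [map_add, map_smul, h12, zero_add, smul_add] at h13
    have h14 : fz u = -fw u - (2 : F₀) • u := by
      have e1 : (2 : F₀) • fz u = (2 : F₀) • (-fw u - (2 : F₀) • u) := by
        rw [h13]; module
      have e2 := congrArg ((2 : F₀)⁻¹ • ·) e1
      simpa [smul_smul, inv_mul_cancel₀ h2'] using e2
    rw [(hz.mul hfw) u, Units.val_neg, Units.val_one, Matrix.neg_mulVec, Matrix.one_mulVec,
      ← neg_one_smul F (e u), ← OneMemClass.coe_one F₀, ← NegMemClass.coe_neg, ← emb_smul]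
    congr 1
    simp only [LinearMap.add_apply, LinearMap.comp_apply, h12, h14]
    module
  replace hmw : Mv w 2 := hfw.mv_rank.mono (by omega)
  replace hmw' : Mv w' 2 := by
    have := hmw.conj g⁻¹
    rwa [inv_inv, ← hw'] at this
  have h3 : z * w ∈ M := mul_mem hzM hwM
  have h3' : z' * w' ∈ M := mul_mem hz'M hw'M
  have h33 : z' * w' * (z' * w') = 1 := by
    calc z' * w' * (z' * w') = z' * (w' * z') * w' := by simp only [mul_assoc]
      _ = z' * (z' * w') * w' := by rw [hw'z']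
      _ = z' * z' * (w' * w') := by simp only [mul_assoc]
      _ = 1 := by rw [hz'z', hw'w', one_mul]
  refine hd.newRoot_of_intertwine hg hgH (hz'.mul hfw') (hz.mul hfw) h3
    (by rw [← mul_assoc, hcomm, mul_assoc, hgw, ← mul_assoc])
    (by have := hd.ker_dim h3' (hz'.mul hfw') (hmv'.of_mem_zpowers hmw' (Subgroup.mem_zpowers _)); omega)
    (Or.inl (hd.fix_rad h3' (hz'.mul hfw') h33 h2)) ?_
  -- the moved space contains the plane of `z` and a vector of `w`
  obtain ⟨y, hy⟩ : ∃ y, fw y ≠ 0 := by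
    by_contra hc
    push Not at hc
    exact hw1 (ext_emb P F₀ fun u => by rw [hfw, hc, add_zero, Units.val_one, Matrix.one_mulVec])
  have hzy : fz (fw y) = 0 := by
    refine hd.nd₀.1 _ fun u => ?_
    rw [QuadraticMap.polarBilin_apply_apply, hd.adj hzM hz hzz, hd.adj hwM hfw hww, hwfix,
      QuadraticMap.polar_zero_right]
  set f₃ := fz + fw + fz.comp fw with hf₃
  have hmem : ∀ x, fz x ∈ LinearMap.range f₃ := fun x => hrange (by
    simp only [hf₃, LinearMap.add_apply, LinearMap.comp_apply, hwfix, map_zero, add_zero]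
    rw [neg_smul]; exact eq_neg_of_add_eq_zero_left (hz.invol hzz x))
  have hmemy : fw y ∈ LinearMap.range f₃ := hrange (by
    simp only [hf₃, LinearMap.add_apply, LinearMap.comp_apply, hzy, zero_add]
    rw [eq_neg_of_add_eq_zero_left (hfw.invol hww y), map_neg, map_smul, hzy, smul_zero, neg_zero, add_zero,
      neg_smul])
  refine sing_in (Or.inl ?_)
  have hnot : fw y ∉ LinearMap.range fz := fun ⟨x, hx⟩ => hy (by
    have h4 := hz.invol hzz x
    rw [hx, hzy, zero_add] at h4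
    exact (smul_eq_zero.1 h4).resolve_left h2')
  have h4 := Submodule.finrank_mono (show LinearMap.range fz ⊔ Submodule.span F₀ {fw y} ≤ LinearMap.range f₃ from
    sup_le (by rintro _ ⟨x, rfl⟩; exact hmem x) ((Submodule.span_singleton_le_iff_mem _ _).2 hmemy))
  rw [Submodule.finrank_sup_span_singleton hnot] at h4
  have := hd.two_le_rank hzM hz hle hz1
  omega

set_option maxHeartbeats 1600000 in
/-- Intertwining two rational involutions fixing lines only, in dimension seven. -/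
theorem newRoot_six {n : ℕ} (hn : n.Prime) (hcard : Fintype.card F = Nat.card F₀ ^ n)
    (h7 : Fintype.card ι = 7) (hle : M ≤ Geo.omegaGL ⇑Q) (h2 : (2 : F₀) ≠ 0) {g z z' : GL ι F}
    {fz fz' : W₀ →ₗ[F₀] W₀} (hg : g ∈ M) (hgH : g ∉ Geo.subfieldSubgroup F₀ P) (hz : RMap P z fz)
    (hz' : RMap P z' fz') (hzM : z ∈ M) (hz'M : z' ∈ M) (hzz : z * z = 1) (hz'z' : z' * z' = 1)
    (hk : finrank F₀ (LinearMap.ker fz) = 1) (hk' : finrank F₀ (LinearMap.ker fz') = 1)
    (hcomm : g * z' = z * g) : NewRoot P Q Q₀ M := by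
  have hsize : ((12 ≤ Fintype.card ι ∨ Fintype.card ι = 10) ∨ Odd (Fintype.card ι)) ∨ Eight Q n :=
    Or.inl (Or.inr (by rw [h7]; decide))
  have h2F : (2 : F) ≠ 0 := two_ne_sub h2
  have hm2 : (-2 : F₀) ≠ 0 := neg_ne_zero.2 h2
  have hrange : ∀ {fw : W₀ →ₗ[F₀] W₀} {x : W₀}, fw x = (-2 : F₀) • x → x ∈ LinearMap.range fw := fun {fw x} h =>
    ⟨(-2 : F₀)⁻¹ • x, by rw [map_smul, h, smul_smul, inv_mul_cancel₀ hm2, one_smul]⟩
  obtain ⟨⟨v, hv⟩, hv0, hvall⟩ := finrank_eq_one_iff'.1 hk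
  replace hv0 : v ≠ 0 := fun h => hv0 (Subtype.ext h)
  have hfv : fz v = 0 := LinearMap.mem_ker.1 hv
  replace hvall : ∀ x, fz x = 0 → ∃ c : F₀, x = c • v := fun x hx =>
    (hvall ⟨x, LinearMap.mem_ker.2 hx⟩).imp fun c hc => (congrArg Subtype.val hc).symm
  obtain ⟨ν, hν⟩ : ∃ ν, B₀ v v = ν := ⟨_, rfl⟩
  have hν0 : ν ≠ 0 := fun h0 => hv0 (hd.fix_rad hzM hz hzz h2 v hv fun t ht => by
    obtain ⟨c, rfl⟩ := hvall t (LinearMap.mem_ker.1 ht)
    rw [QuadraticMap.polar_smul_right, hν, h0, smul_zero])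
  -- a frame whose span holds `v`
  have hnd1 : ∀ w ∈ LinearMap.range fz, w ≠ 0 → ∃ u ∈ LinearMap.range fz, B₀ w u ≠ 0 := hd.range_nd hzM hz hzz h2
  have hr6 : finrank F₀ (LinearMap.range fz) = 6 := by
    have := fz.finrank_range_add_finrank_ker
    rw [finrank_pi] at this
    omega
  obtain ⟨u, hu, horu⟩ := hd.exists_units h2 4 _ hnd1 (by omega)
  have huv : ∀ i, B₀ (u i) v = 0 := fun i => by
    obtain ⟨x, hx⟩ := (hu i).1
    rw [← hx]; exact hd.fix_orth hzM hz x hfv
  obtain ⟨α, β, hαβ⟩ : ∃ α β : F₀, α * α + β * β = ν := by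
    have hr2 : ringChar F₀ ≠ 2 := fun hc => by
      have : CharP F₀ 2 := ringChar.of_eq hc
      exact h2 CharTwo.two_eq_zero
    have := Fintype.ofFinite F₀
    obtain ⟨a, b, hab⟩ := FiniteField.exists_root_sum_quadratic
      (f := (Polynomial.X : Polynomial F₀) ^ 2) (g := Polynomial.X ^ 2 - Polynomial.C ν)
      (Polynomial.degree_X_pow 2) (Polynomial.degree_X_pow_sub_C (by decide) ν) (FiniteField.odd_card_of_char_ne_two hr2)
    simp only [Polynomial.eval_pow, Polynomial.eval_X, Polynomial.eval_sub, Polynomial.eval_C] at hab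
    exact ⟨a, b, by linear_combination hab⟩
  set c := α • u 0 + β • u 1 with hc
  have hcv : B₀ c v = 0 := by simp [hc, QuadraticMap.polar_add_left, QuadraticMap.polar_smul_left, huv]
  have hcc : B₀ c c = ν := by
    simp only [hc, QuadraticMap.polar_add_left, QuadraticMap.polar_smul_left, QuadraticMap.polar_add_right,
      QuadraticMap.polar_smul_right, (hu 0).2, (hu 1).2, horu 0 1 (by decide), horu 1 0 (by decide), smul_eq_mul]
    linear_combination hαβ
  have hvc : B₀ v c = 0 := by rw [QuadraticMap.polar_comm, hcv]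
  have hc' : ∀ i, i ≠ 0 → i ≠ 1 → B₀ c (u i) = 0 := fun i h0 h1 => by
    simp [hc, QuadraticMap.polar_add_left, QuadraticMap.polar_smul_left, horu 0 i h0.symm, horu 1 i h1.symm]
  let a : Fin 4 → W₀ := ![ν⁻¹ • (α • v + β • c), ν⁻¹ • (β • v - α • c), u 2, u 3]
  have ha : ∀ i, B₀ (a i) (a i) = 1 := fun i => by
    fin_cases i
    · show B₀ (ν⁻¹ • (α • v + β • c)) (ν⁻¹ • (α • v + β • c)) = 1
      simp only [QuadraticMap.polar_add_left, QuadraticMap.polar_smul_left, QuadraticMap.polar_add_right,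
        QuadraticMap.polar_smul_right, hν, hcc, hvc, hcv, smul_eq_mul]
      field_simp
      linear_combination ν * hαβ
    · show B₀ (ν⁻¹ • (β • v - α • c)) (ν⁻¹ • (β • v - α • c)) = 1
      simp only [QuadraticMap.polar_sub_left, QuadraticMap.polar_smul_left, QuadraticMap.polar_sub_right,
        QuadraticMap.polar_smul_right, hν, hcc, hvc, hcv, smul_eq_mul]
      field_simp
      linear_combination ν * hαβ
    · exact (hu 2).2
    · exact (hu 3).2
  have hcu : ∀ i, i ≠ 0 → i ≠ 1 → B₀ (u i) c = 0 := fun i h0 h1 => by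
    rw [QuadraticMap.polar_comm, hc' i h0 h1]
  have hvu : ∀ i, B₀ v (u i) = 0 := fun i => by rw [QuadraticMap.polar_comm, huv]
  have hora : ∀ i i', i ≠ i' → B₀ (a i) (a i') = 0 := fun i i' hne => by
    fin_cases i <;> fin_cases i' <;> first
      | exact absurd rfl hne
      | (simp [a, QuadraticMap.polar_add_left, QuadraticMap.polar_smul_left, QuadraticMap.polar_add_right,
          QuadraticMap.polar_smul_right, QuadraticMap.polar_sub_left, QuadraticMap.polar_sub_right, hν, hcc, hvc, hcv,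
          huv, hvu, hc' 2 (by decide) (by decide), hc' 3 (by decide) (by decide), hcu 2 (by decide) (by decide),
          hcu 3 (by decide) (by decide), horu 2 3 (by decide), horu 3 2 (by decide), Matrix.vecHead, Matrix.vecTail] <;>
          ring_nf <;> simp)
  obtain ⟨-, -, -, t, htM, ft, -, ht, -, htt, -, hmt, hta, -, -, -, -, -, -⟩ :=
    hd.exists_two_four h2 ha hora
  have hav : v = α • a 0 + β • a 1 := by
    have h1 : α • a 0 + β • a 1 = (ν⁻¹ * (α * α + β * β)) • v := by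
      simp only [a, Matrix.cons_val_zero, Matrix.cons_val_one]
      module
    rw [h1, hαβ, inv_mul_cancel₀ hν0, one_smul]
  have hftv : ft v = (-2 : F₀) • v := by
    rw [hav, map_add, map_smul, map_smul, hta, hta]; module
  have htv : (t : Mn) *ᵥ e v = -e v := by
    rw [ht, hftv, emb_add, emb_smul, show ((-2 : F₀) : F) = -2 from rfl]
    module
  have hzt : z * t = t * z := ext_emb P F₀ fun x => by
    rw [(hz.mul ht) x, (ht.mul hz) x]
    congr 1
    simp only [LinearMap.add_apply, LinearMap.comp_apply]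
    have hker : ∀ y, ∃ l : F₀, fz y + (2 : F₀) • y = l • v ∧ l * ν = 2 * B₀ y v := fun y => by
      obtain ⟨l, hl⟩ := hvall (fz y + (2 : F₀) • y) (by rw [map_add, map_smul]; exact hz.invol hzz y)
      refine ⟨l, hl, ?_⟩
      have h3 := congrArg (fun x => B₀ x v) hl
      simp only [QuadraticMap.polar_add_left, QuadraticMap.polar_smul_left, hd.fix_orth hzM hz y hfv, hν,
        zero_add, smul_eq_mul] at h3
      exact h3.symm
    obtain ⟨l, hl, hlν⟩ := hker (ft x)
    obtain ⟨l', hl', hl'ν⟩ := hker x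
    have hll : l = -2 * l' := mul_right_cancel₀ hν0 (by
      rw [hlν, hd.adj htM ht htt, hftv, QuadraticMap.polar_smul_right, smul_eq_mul]
      linear_combination 2 * hl'ν)
    rw [eq_sub_of_add_eq hl, eq_sub_of_add_eq hl', map_sub, map_smul, map_smul, hftv, hll]
    module
  have hnd2 : ∀ w ∈ LinearMap.range fz', w ≠ 0 → ∃ u ∈ LinearMap.range fz', B₀ w u ≠ 0 :=
    hd.range_nd hz'M hz' hz'z' h2
  have hr6' : finrank F₀ (LinearMap.range fz') = 6 := by
    have := fz'.finrank_range_add_finrank_ker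
    rw [finrank_pi] at this
    omega
  obtain ⟨b, hb, horb⟩ := hd.exists_units h2 5 _ hnd2 (by omega)
  have hfb : ∀ i, fz' (b i) = (-2 : F₀) • b i := fun i => by
    obtain ⟨x, hx⟩ := (hb i).1
    have h3 := hz'.invol hz'z' x
    rw [hx] at h3
    rw [neg_smul]; exact eq_neg_of_add_eq_zero_left h3
  obtain ⟨t₀, ht₀M, f₀, -, -, -, ht₀, -, ht₀t₀, -, hm₀, -, -, h₀a, h₀b, -, h₀perp, -, h₀span⟩ :=
    hd.exists_two_four h2 (a := fun i => b (Fin.castSucc i)) (fun i => (hb _).2)
      (fun i i' h => horb _ _ fun h' => h (Fin.castSucc_injective _ h'))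
  have hfix₀ : ∀ x, fz' x = 0 → f₀ x = 0 := fun x hx => h₀perp x
    (by obtain ⟨y, hy⟩ := (hb (Fin.castSucc 0)).1; rw [← hy]; exact hd.fix_orth hz'M hz' y hx)
    (by obtain ⟨y, hy⟩ := (hb (Fin.castSucc 1)).1; rw [← hy]; exact hd.fix_orth hz'M hz' y hx)
  have hA : ∀ x, fz' (f₀ x) = (-2 : F₀) • f₀ x := fun x => by
    refine Submodule.span_induction (p := fun y _ => fz' y = (-2 : F₀) • y) ?_ (by rw [map_zero, smul_zero]) ?_ ?_
      (h₀span x)
    · rintro y (rfl | rfl) <;> exact hfb _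
    · intro x y _ _ hx hy; rw [map_add, hx, hy, smul_add]
    · intro c x _ hx; rw [map_smul, hx, smul_comm]
  have hB : ∀ x, f₀ (fz' x) = (-2 : F₀) • f₀ x := fun x => by
    have h3 := hfix₀ (fz' x + (2 : F₀) • x) (by rw [map_add, map_smul]; exact hz'.invol hz'z' x)
    rw [map_add, map_smul] at h3
    rw [neg_smul]; exact eq_neg_of_add_eq_zero_left h3
  have hz'₀ : z' * t₀ = t₀ * z' := ext_emb P F₀ fun x => by
    rw [(hz'.mul ht₀) x, (ht₀.mul hz') x]
    congr 1
    simp only [LinearMap.add_apply, LinearMap.comp_apply, hA, hB]; abel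
  set u₀ := g * t₀ * g⁻¹ with hu₀
  have hu₀M : u₀ ∈ M := mul_mem (mul_mem hg ht₀M) (inv_mem hg)
  have hu₀u₀ : u₀ * u₀ = 1 := by rw [hu₀, conj_mul, ht₀t₀, mul_one, mul_inv_cancel]
  have hgz : g * z' * g⁻¹ = z := by rw [hcomm, mul_inv_cancel_right]
  have hzu₀ : z * u₀ = u₀ * z := by rw [← hgz, hu₀, conj_mul, conj_mul, hz'₀]
  have hnc : ∀ k : GL ι F, k * t * k⁻¹ ≠ u₀ := fun k hk => by
    have h1 : t = k⁻¹ * g * t₀ * (k⁻¹ * g)⁻¹ := by
      rw [show k⁻¹ * g * t₀ * (k⁻¹ * g)⁻¹ = k⁻¹ * u₀ * k by rw [hu₀]; group, ← hk]; group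
    have h2 : Mv t 2 := h1 ▸ hm₀.conj _
    have h3 := Submodule.finrank_mono (show Submodule.span F₀ (Set.range fun i : Fin 3 => a (Fin.castSucc i)) ≤
      LinearMap.range ft from Submodule.span_le.2 (by rintro _ ⟨i, rfl⟩; exact hrange (hta _)))
    rw [finrank_span_eq_card (hd.li_units ha hora), Fintype.card_fin] at h3
    have := ht.rank_le h2
    omega
  obtain ⟨⟨k, hk⟩⟩ | ⟨w, hw, hww, hw1, hwt, hwu⟩ := conj_or_central htt hu₀u₀ (fun h => hnc 1 (by simpa using h))
  · exact absurd hk (hnc k)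
  have hwM : w ∈ M := Subgroup.zpowers_le.2 (mul_mem htM hu₀M) hw
  have hmw : Mv w 6 := hmt.of_mem_zpowers (hm₀.conj g) hw
  have hwz : w * z = z * w := Subgroup.mem_centralizer_singleton_iff.1
    (Subgroup.zpowers_le.2 (show t * u₀ ∈ Subgroup.centralizer {z} from
      mul_mem (Subgroup.mem_centralizer_singleton_iff.2 hzt.symm)
        (Subgroup.mem_centralizer_singleton_iff.2 hzu₀.symm)) hw)
  have hwne : w ≠ z := fun hwz' => by
    have hker : ∀ {h : GL ι F} {k : ℕ}, Mv h k →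
        Fintype.card ι ≤ finrank F (LinearMap.ker (Matrix.toLin' ((h : Mn) - 1))) + k := fun {h k} hh => by
      obtain ⟨l, hl⟩ := hh
      have h3 := (Matrix.toLin' ((h : Mn) - 1)).finrank_range_add_finrank_ker
      rw [finrank_pi] at h3
      have h4 := Submodule.finrank_mono (show LinearMap.range (Matrix.toLin' ((h : Mn) - 1)) ≤
          Submodule.span F (Set.range l) by
        rintro _ ⟨y, rfl⟩
        rw [Matrix.toLin'_apply, Matrix.sub_mulVec, Matrix.one_mulVec]
        exact hl y)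
      have h5 := finrank_range_le_card (R := F) l
      rw [Set.finrank, Fintype.card_fin] at h5
      omega
    have h3 := hker hmt
    have h4 := hker (hm₀.conj g)
    rw [← hu₀] at h4
    have h5 := Submodule.finrank_sup_add_finrank_inf_eq (LinearMap.ker (Matrix.toLin' ((t : Mn) - 1)))
      (LinearMap.ker (Matrix.toLin' ((u₀ : Mn) - 1)))
    have h6 := Submodule.finrank_le (LinearMap.ker (Matrix.toLin' ((t : Mn) - 1)) ⊔
      LinearMap.ker (Matrix.toLin' ((u₀ : Mn) - 1)))
    rw [finrank_pi] at h6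
    obtain ⟨y, hy, hy0⟩ := Submodule.exists_mem_ne_zero_of_ne_bot (p :=
      LinearMap.ker (Matrix.toLin' ((t : Mn) - 1)) ⊓ LinearMap.ker (Matrix.toLin' ((u₀ : Mn) - 1)))
      (fun h0 => by rw [h0, finrank_bot] at h5; omega)
    simp only [Submodule.mem_inf, LinearMap.mem_ker, Matrix.toLin'_apply, Matrix.sub_mulVec, Matrix.one_mulVec,
      sub_eq_zero] at hy
    let St : Subgroup (GL ι F) :=
      { carrier := {h | (h : Mn) *ᵥ y = y}
        mul_mem' := fun {p q} hp hq => by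
          show ((p * q : GL ι F) : Mn) *ᵥ y = y
          rw [Units.val_mul, ← Matrix.mulVec_mulVec, hq, hp]
        one_mem' := by simp
        inv_mem' := fun {p} hp => by
          show ((p⁻¹ : GL ι F) : Mn) *ᵥ y = y
          conv_lhs => rw [← hp]
          exact inv_mulVec_cancel p _ }
    have hzy : (z : Mn) *ᵥ y = y :=
      hwz' ▸ ((Subgroup.zpowers_le.2 (mul_mem (show t ∈ St from hy.1) (show u₀ ∈ St from hy.2))) hw : w ∈ St)
    have hyv : B y (e v) = 0 := by
      have h7 := isometry_polar (hd.iso t htM) y (e v)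
      rw [hy.1, htv, QuadraticMap.polar_neg_right] at h7
      exact (mul_eq_zero.1 (show (2 : F) * B y (e v) = 0 by linear_combination -h7)).resolve_left h2F
    have hyr : ∀ x, B y (e (fz x)) = 0 := fun x => by
      have h7 := isometry_polar (hd.iso z hzM) y (e x)
      rw [hzy, hz, emb_add, QuadraticMap.polar_add_right] at h7
      linear_combination h7
    refine hy0 (hd.perp_all fun x => ?_)
    obtain ⟨l, hl⟩ := hvall (fz x + (2 : F₀) • x) (by rw [map_add, map_smul]; exact hz.invol hzz x)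
    have h8 := congrArg (fun r => B y (e r)) hl
    simp only [emb_add, emb_smul, QuadraticMap.polar_add_right, QuadraticMap.polar_smul_right, hyr, hyv,
      smul_zero, zero_add, smul_eq_mul, mul_eq_zero] at h8
    rw [mul_zero] at h8
    exact (mul_eq_zero.1 h8).resolve_left h2F
  by_cases hwH : w ∈ Geo.subfieldSubgroup F₀ P
  swap
  · exact hd.newRoot_of_intertwine hwM hwH ht ht htM hwt (by have := hd.ker_dim htM ht hmt; omega)
      (Or.inl (hd.fix_rad htM ht htt h2))
      (hd.sing_three _ (fun i => hrange (hta _)) (hd.li_units ha hora))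
  set w' := g⁻¹ * w * g with hw'
  have hgw : g * w' = w * g := by rw [hw']; group
  have hw'M : w' ∈ M := mul_mem (mul_mem (inv_mem hg) hwM) hg
  have hw'w' : w' * w' = 1 := by
    rw [show w' * w' = g⁻¹ * (w * w) * g by rw [hw']; group, hww]; group
  have hmw' : Mv w' 6 := by
    have := hmw.conj g⁻¹
    rwa [inv_inv, ← hw'] at this
  have hw't₀ : w' * t₀ = t₀ * w' := by
    rw [show w' * t₀ = g⁻¹ * (w * u₀) * g by rw [hw', hu₀]; group, hwu, hw', hu₀]; group
  have hw'z' : w' * z' = z' * w' := by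
    rw [show w' * z' = g⁻¹ * (w * z) * g by rw [hw', ← hgz]; group, hwz, hw', ← hgz]; group
  by_cases hw'H : w' ∈ Geo.subfieldSubgroup F₀ P
  swap
  · have h3 : z' * t₀ ∈ M := mul_mem hz'M ht₀M
    have h33 : z' * t₀ * (z' * t₀) = 1 := by
      rw [show z' * t₀ * (z' * t₀) = z' * (t₀ * z') * t₀ by simp only [mul_assoc], ← hz'₀, ← mul_assoc, hz'z',
        one_mul, ht₀t₀]
    have hf3 : ∀ x, (fz' + f₀ + fz'.comp f₀) x = fz' x - f₀ x := fun x => by
      simp only [LinearMap.add_apply, LinearMap.comp_apply, hA]; module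
    have horb' : ∀ i : Fin 5, 2 ≤ (i : ℕ) → (fz' + f₀ + fz'.comp f₀) (b i) = (-2 : F₀) • b i := fun i hi => by
      rw [hf3, hfb, h₀perp _ (horb _ _ fun h => by rw [← h] at hi; simp at hi)
        (horb _ _ fun h => by rw [← h] at hi; simp at hi), sub_zero]
    refine hd.newRoot_of_intertwine hw'M hw'H (hz'.mul ht₀) (hz'.mul ht₀) h3
      (by rw [← mul_assoc, hw'z', mul_assoc, hw't₀, ← mul_assoc]) ?_
      (Or.inl (hd.fix_rad h3 (hz'.mul ht₀) h33 h2))
      (hd.sing_three (fun i : Fin 3 => b (Fin.natAdd 2 i)) (fun i => hrange (horb' _ (by simp))) ?_)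
    · obtain ⟨⟨v', hv'⟩, hv'0, -⟩ := finrank_eq_one_iff'.1 hk'
      replace hv'0 : v' ≠ 0 := fun h => hv'0 (Subtype.ext h)
      have hlt : LinearMap.ker fz' < LinearMap.ker (fz' + f₀ + fz'.comp f₀) := by
        refine lt_of_le_of_ne (fun x hx => ?_) fun heq => ?_
        · rw [LinearMap.mem_ker, hf3, LinearMap.mem_ker.1 hx, hfix₀ x (LinearMap.mem_ker.1 hx), sub_zero]
        · have h4 : b (Fin.castSucc 0) ∈ LinearMap.ker fz' := by
            rw [heq, LinearMap.mem_ker, hf3, hfb, h₀a, sub_self]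
          rw [LinearMap.mem_ker, hfb, smul_eq_zero, or_iff_right hm2] at h4
          exact one_ne_zero ((hb (Fin.castSucc 0)).2.symm.trans (by rw [h4, QuadraticMap.polar_zero_left]))
      have h5 := Submodule.finrank_mono (show LinearMap.ker fz' ⊔ Submodule.span F₀ {b 0, b 1} ≤
          LinearMap.ker (fz' + f₀ + fz'.comp f₀) from sup_le hlt.le (Submodule.span_le.2 (by
        rintro y (rfl | rfl) <;> rw [SetLike.mem_coe, LinearMap.mem_ker, hf3, hfb]
        · rw [show b 0 = b (Fin.castSucc 0) from rfl, h₀a, sub_self]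
        · rw [show b 1 = b (Fin.castSucc 1) from rfl, h₀b, sub_self])))
      have hli : LinearIndependent F₀ ![v', b 0, b 1] := by
        have hv'b : ∀ i, B₀ (b i) v' = 0 := fun i => by
          obtain ⟨y, hy⟩ := (hb i).1
          rw [← hy]; exact hd.fix_orth hz'M hz' y (LinearMap.mem_ker.1 hv')
        refine Fintype.linearIndependent_iff.2 fun c hc => ?_
        rw [Fin.sum_univ_three] at hc
        simp only [Matrix.cons_val_zero, Matrix.cons_val_one, Matrix.cons_val_two, Matrix.head_cons,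
          Matrix.tail_cons] at hc
        have e0 := congrArg (B₀ (b 0)) hc
        have e1 := congrArg (B₀ (b 1)) hc
        simp [QuadraticMap.polar_add_right, QuadraticMap.polar_smul_right, (hb 0).2, (hb 1).2,
          horb 0 1 (by decide), horb 1 0 (by decide), hv'b] at e0 e1
        rw [e0, e1, zero_smul, zero_smul, add_zero, add_zero, smul_eq_zero] at hc
        intro i
        fin_cases i
        exacts [hc.resolve_right hv'0, e0, e1]
      have h6 := Submodule.finrank_mono (show Submodule.span F₀ (Set.range ![v', b 0, b 1]) ≤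
          LinearMap.ker fz' ⊔ Submodule.span F₀ {b 0, b 1} from Submodule.span_le.2 (by
        rintro _ ⟨i, rfl⟩
        fin_cases i
        · exact Submodule.mem_sup_left hv'
        · exact Submodule.mem_sup_right (Submodule.subset_span (by simp [Matrix.vecHead, Matrix.vecTail]))
        · exact Submodule.mem_sup_right (Submodule.subset_span (by simp [Matrix.vecHead, Matrix.vecTail]))))
      rw [finrank_span_eq_card hli, Fintype.card_fin] at h6
      omega
    · exact linearIndependent_of_orth _ (fun i => QuadraticMap.polarBilin Q₀ (b (Fin.natAdd 2 i)))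
        (fun i j hij => horb _ _ fun h => hij (Fin.natAdd_injective _ _ h))
        fun i => by rw [QuadraticMap.polarBilin_apply_apply, (hb _).2]; exact one_ne_zero
  obtain ⟨fw, hfw⟩ := exists_rmap (ratMap_of_invol hn hcard hwH hww hmw (Or.inr ⟨by rw [h7]; decide, h2F⟩))
  obtain ⟨fw', hfw'⟩ := exists_rmap (ratMap_of_invol hn hcard hw'H hw'w' hmw' (Or.inr ⟨by rw [h7]; decide, h2F⟩))
  have hw'1 : w' ≠ 1 := fun h => hw1 (by rw [h, mul_one] at hgw; exact mul_eq_right.1 hgw.symm)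
  have hmwr : Mv w' (finrank F₀ (LinearMap.range fw)) := by
    have := hfw.mv_rank.conj g⁻¹
    rwa [inv_inv, ← hw'] at this
  by_cases hsmall : finrank F₀ (LinearMap.range fw) ≤ 2
  · exact hd.newRoot_stage hn hcard hsize hle h2 hg hgH hfw hfw' hwM hw'M hww hw'w' hw1 hw'1
      (hfw.mv_rank.mono hsmall) (hmwr.mono hsmall) hgw
  by_cases hmid : finrank F₀ (LinearMap.range fw) ≤ 4
  · exact hd.newRoot_of_intertwine hg hgH hfw' hfw hwM hgw (by have := hd.ker_dim hw'M hfw' hmwr; omega)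
      (Or.inl (hd.fix_rad hw'M hfw' hw'w' h2)) (sing_in (Or.inl (by omega)))
  have hkw : finrank F₀ (LinearMap.ker fw) = 1 := by
    obtain ⟨m, hm⟩ := hd.even_rank hwM hfw hle
    have := fw.finrank_range_add_finrank_ker
    rw [finrank_pi] at this
    have := hfw.rank_le hmw
    omega
  obtain ⟨⟨v₂, hv₂⟩, hv₂0, hv₂all⟩ := finrank_eq_one_iff'.1 hkw
  replace hv₂all : ∀ x, fw x = 0 → ∃ c : F₀, x = c • v₂ := fun x hx =>
    (hv₂all ⟨x, LinearMap.mem_ker.2 hx⟩).imp fun c hc => (congrArg Subtype.val hc).symm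
  have hm4 : Mv (z * w) 2 := (hz.mul hfw).mv ![v, v₂] fun x => by
    obtain ⟨l, hl⟩ := hvall (fz (x + fw x) + (2 : F₀) • (x + fw x))
      (by rw [map_add, map_smul]; exact hz.invol hzz _)
    obtain ⟨l', hl'⟩ := hv₂all (fw x + (2 : F₀) • x) (by rw [map_add, map_smul]; exact hfw.invol hww x)
    rw [Matrix.range_cons_cons_empty, Submodule.mem_span_pair]
    refine ⟨l, -l', ?_⟩
    rw [neg_smul, ← hl, ← hl']
    simp only [LinearMap.add_apply, LinearMap.comp_apply, map_add]
    module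
  have hm4' : Mv (z' * w') 2 := by
    have := hm4.conj g⁻¹
    rwa [inv_inv, show g⁻¹ * (z * w) * g = z' * w' by rw [← hgz, hw']; group] at this
  have h3 : z * w ∈ M := mul_mem hzM hwM
  have h3' : z' * w' ∈ M := mul_mem hz'M hw'M
  have h44 : z * w * (z * w) = 1 := by
    calc z * w * (z * w) = z * (w * z) * w := by simp only [mul_assoc]
      _ = z * (z * w) * w := by rw [hwz]
      _ = z * z * (w * w) := by simp only [mul_assoc]
      _ = 1 := by rw [hzz, hww, one_mul]
  have h44' : z' * w' * (z' * w') = 1 := by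
    calc z' * w' * (z' * w') = z' * (w' * z') * w' := by simp only [mul_assoc]
      _ = z' * (z' * w') * w' := by rw [hw'z']
      _ = z' * z' * (w' * w') := by simp only [mul_assoc]
      _ = 1 := by rw [hz'z', hw'w', one_mul]
  have h41 : z * w ≠ 1 := fun h => hwne (mul_left_cancel (h.trans hzz.symm))
  refine hd.newRoot_stage hn hcard hsize hle h2 hg hgH (hz.mul hfw) (hz'.mul hfw') h3 h3' h44 h44' h41
    (fun h => h41 ?_) hm4 hm4' (by rw [← mul_assoc, hcomm, mul_assoc, hgw, ← mul_assoc])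
  rw [show z * w = g * (z' * w') * g⁻¹ by rw [← hgz, hw']; group, h, mul_one, mul_inv_cancel]

/-- In characteristic two, if `z` in `⟨a * b⟩` moves a space of rank four, then `a` and `b` commute. -/
theorem comm_of_full_move {a b z : GL ι F} {fz : W₀ →ₗ[F₀] W₀} (ha : a ∈ M) (hb : b ∈ M) (haa : a * a = 1)
    (hbb : b * b = 1) (hma : Mv a 2) (hmb : Mv b 2) (hz : z ∈ Subgroup.zpowers (a * b)) (hzM : z ∈ M)
    (hzz : z * z = 1) (hfz : RMap P z fz) (h2 : (2 : F₀) = 0) (hrk : 4 ≤ finrank F₀ (LinearMap.range fz)) :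
    a * b = b * a := by
  obtain ⟨la, hla⟩ := hma
  obtain ⟨lb, hlb⟩ := hmb
  let S : Submodule F V := Submodule.span F (Set.range (Fin.append la lb))
  have h1 : Submodule.span F (Set.range la) ≤ S := Submodule.span_mono (by
    rintro _ ⟨x, rfl⟩; exact ⟨Fin.castAdd 2 x, Fin.append_left _ _ _⟩)
  have h2' : Submodule.span F (Set.range lb) ≤ S := Submodule.span_mono (by
    rintro _ ⟨x, rfl⟩; exact ⟨Fin.natAdd 2 x, Fin.append_right _ _ _⟩)
  let H : Subgroup (GL ι F) :=
    { carrier := {h | ∀ x, (h : Mn) *ᵥ x - x ∈ S}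
      mul_mem' := fun {p q} hp hq x => by
        rw [Units.val_mul, ← Matrix.mulVec_mulVec]
        simpa using S.add_mem (hp ((q : Mn) *ᵥ x)) (hq x)
      one_mem' := fun x => by simp
      inv_mem' := fun {p} hp x => by
        have := S.neg_mem (hp (((p⁻¹ : GL ι F) : Mn) *ᵥ x))
        rwa [mulVec_inv_cancel, neg_sub] at this }
  have hzS : ∀ x, (z : Mn) *ᵥ x - x ∈ S := (Subgroup.zpowers_le.2 (show a * b ∈ H from
    mul_mem (show a ∈ H from fun x => h1 (hla x)) (show b ∈ H from fun x => h2' (hlb x)))) hz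
  let bb := Module.finBasis F₀ (LinearMap.range fz)
  have hli : LinearIndependent F fun i => emb F₀ P (bb i : W₀) :=
    li_emb (LinearIndependent.map' bb.linearIndependent (LinearMap.range fz).subtype (Submodule.ker_subtype _))
  let E : Submodule F V := Submodule.span F (Set.range fun i => emb F₀ P (bb i : W₀))
  have hE : E ≤ S := Submodule.span_le.2 (by
    rintro _ ⟨i, rfl⟩
    obtain ⟨u, hu⟩ := (bb i).2
    have := hzS (emb F₀ P u)
    rwa [hfz, emb_add, add_sub_cancel_left, hu] at this)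
  have hSE : S ≤ E := (Submodule.eq_of_le_of_finrank_le hE (by
    have h3 := finrank_range_le_card (R := F) (Fin.append la lb)
    rw [Set.finrank, Fintype.card_fin] at h3
    rw [finrank_span_eq_card hli, Fintype.card_fin]
    exact le_trans h3 (by omega))).ge
  have hiso : ∀ x ∈ E, ∀ y ∈ E, B x y = 0 := by
    intro x hx y hy
    have key : ∀ i, ∀ y ∈ E, B (emb F₀ P (bb i : W₀)) y = 0 := fun i y hy => by
      refine Submodule.span_induction (p := fun y _ => B (emb F₀ P (bb i : W₀)) y = 0) ?_ ?_ ?_ ?_ hy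
      · rintro _ ⟨j, rfl⟩
        obtain ⟨u, hu⟩ := (bb i).2
        obtain ⟨w, hw⟩ := (bb j).2
        rw [hd.pol, ← hu, hd.fix_orth hzM hfz u (show fz (bb j : W₀) = 0 by
          rw [← hw]
          have h5 := hfz.invol hzz w
          rwa [h2, zero_smul, add_zero] at h5), ZeroMemClass.coe_zero]
      · exact QuadraticMap.polar_zero_right Q _
      · intro u w _ _ hu hw; rw [QuadraticMap.polar_add_right, hu, hw, add_zero]
      · intro c u _ hu; rw [QuadraticMap.polar_smul_right, hu, smul_zero]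
    refine Submodule.span_induction (p := fun x _ => B x y = 0) ?_ ?_ ?_ ?_ hx
    · rintro _ ⟨i, rfl⟩; exact key i y hy
    · exact QuadraticMap.polar_zero_left Q _
    · intro u w _ _ hu hw; rw [QuadraticMap.polar_add_left, hu, hw, add_zero]
    · intro c u _ hu; rw [QuadraticMap.polar_smul_left, hu, smul_zero]
  have hfix : ∀ {c : GL ι F}, c ∈ M → c * c = 1 → (∀ x, (c : Mn) *ᵥ x - x ∈ E) →
      ∀ d ∈ E, (c : Mn) *ᵥ d = d := fun {c} hc hcc hcE d hd' => by
    refine sub_eq_zero.1 (hd.nd.1 _ fun y => ?_)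
    have h3 := isometry_polar (hd.iso c hc) d ((c : Mn) *ᵥ y)
    rw [Matrix.mulVec_mulVec y (c : Mn) (c : Mn), ← Units.val_mul, hcc, Units.val_one, Matrix.one_mulVec] at h3
    have h4 := hiso d hd' _ (hcE y)
    rw [QuadraticMap.polar_sub_right] at h4
    rw [QuadraticMap.polarBilin_apply_apply, QuadraticMap.polar_sub_left, h3]
    exact h4
  refine Units.ext (Matrix.ext_iff_mulVec.2 fun x => ?_)
  have hA : ∀ x, (a : Mn) *ᵥ x - x ∈ E := fun x => hSE (h1 (hla x))
  have hB : ∀ x, (b : Mn) *ᵥ x - x ∈ E := fun x => hSE (h2' (hlb x))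
  have e1 := hfix ha haa hA _ (hB x)
  have e2 := hfix hb hbb hB _ (hA x)
  rw [Matrix.mulVec_sub] at e1 e2
  simp only [Units.val_mul, ← Matrix.mulVec_mulVec]
  linear_combination (norm := abel) e1 - e2

/-- An element outside the subfield subgroup gives a new parameter in dimension eight, odd characteristic. -/
theorem newRoot_eight {n : ℕ} (hn : n.Prime) (hcard : Fintype.card F = Nat.card F₀ ^ n) (h8 : Eight Q n)
    (hle : M ≤ Geo.omegaGL ⇑Q) (h2 : (2 : F₀) ≠ 0) {g : GL ι F} (hg : g ∈ M)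
    (hgH : g ∉ Geo.subfieldSubgroup F₀ P) : NewRoot P Q Q₀ M := by
  have hι := h8.card
  have hm2 : (-2 : F₀) ≠ 0 := neg_ne_zero.2 h2
  have hrange : ∀ {fw : W₀ →ₗ[F₀] W₀} {x : W₀}, fw x = (-2 : F₀) • x → x ∈ LinearMap.range fw := fun {fw x} h =>
    ⟨(-2 : F₀)⁻¹ • x, by rw [map_smul, h, smul_smul, inv_mul_cancel₀ hm2, one_smul]⟩
  obtain ⟨a, ha, horth⟩ := hd.exists_units h2 7 ⊤ (fun w _ hw => by
    by_contra hc
    push Not at hc
    exact hw (hd.nd₀.1 w fun y => hc y Submodule.mem_top)) (by rw [finrank_top, finrank_pi, hι])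
  -- the rational four-space
  obtain ⟨-, -, -, t, htM, f, -, hf, -, htt, -, hmt, hta, -, -, htperp, -, htspan, -⟩ :=
    hd.exists_two_four h2 (a := fun i : Fin 4 => a (Fin.castLE (by norm_num) i)) (fun i => (ha _).2)
      (fun i i' hne => horth _ _ fun h => hne (Fin.castLE_injective _ h))
  have hli4 := hd.li_units (a := fun i : Fin 4 => a (Fin.castLE (by norm_num) i)) (fun i => (ha _).2)
    (fun i i' hne => horth _ _ fun h => hne (Fin.castLE_injective _ h))
  have ht3 : 3 ≤ finrank F₀ (LinearMap.range f) := by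
    have h3 := Submodule.finrank_mono (show Submodule.span F₀ (Set.range fun i : Fin 3 =>
        a (Fin.castLE (show 4 ≤ 7 by norm_num) (Fin.castSucc i))) ≤ LinearMap.range f from
      Submodule.span_le.2 (by rintro _ ⟨i, rfl⟩; exact hrange (hta _)))
    rwa [finrank_span_eq_card hli4, Fintype.card_fin] at h3
  have hkt : 4 ≤ finrank F₀ (LinearMap.ker f) := by have := hd.ker_dim htM hf hmt; omega
  obtain ⟨u, hu⟩ : ∃ u, u = g * t * g⁻¹ := ⟨_, rfl⟩
  have huM : u ∈ M := hu ▸ mul_mem (mul_mem hg htM) (inv_mem hg)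
  by_contra hno
  -- a rational plane fixed by the conjugate, inside the fixed space of any rational plane
  have plane : ∀ b₀ b₁, B₀ b₀ b₀ = 1 → B₀ b₁ b₁ = 1 → B₀ b₀ b₁ = 0 → ∃ K : Submodule F₀ W₀,
      finrank F₀ K = 2 ∧ ∀ x ∈ K, B₀ b₀ x = 0 ∧ (u : Mn) *ᵥ e x = e x := by
    intro b₀ b₁ h00 h11 h01
    have hq : ∀ b : W₀, B₀ b b = 1 → (2 : F₀) * Q₀ b = 1 := fun b hb => by rw [← polar_self2, hb]
    have hq0 : Q₀ b₀ ≠ 0 := fun h0 => zero_ne_one (by rw [← hq _ h00, h0, mul_zero])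
    obtain ⟨t', ht'M, f', hf', ht't', hfx⟩ := hd.exists_pairInv h01 hq0
      (mul_left_cancel₀ h2 ((hq _ h11).trans (hq _ h00).symm))
    have hinv : (Q₀ b₀)⁻¹ = 2 := inv_eq_of_mul_eq_one_left (hq _ h00)
    simp only [hinv] at hfx
    have hmt' : Mv t' 2 := hf'.mv ![b₀, b₁] fun x => by
      rw [Matrix.range_cons_cons_empty, hfx]
      exact Submodule.sub_mem _ (Submodule.neg_mem _ (Submodule.smul_mem _ _ (Submodule.subset_span (by simp))))
        (Submodule.smul_mem _ _ (Submodule.subset_span (by simp)))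
    have hfb : f' b₀ = (-2 : F₀) • b₀ := by
      rw [hfx, h00, QuadraticMap.polar_comm _ b₁, h01]; module
    have ht'1 : t' ≠ 1 := fun h1 => by
      have h4 := hf' b₀
      rw [h1, Units.val_one, Matrix.one_mulVec, hfb] at h4
      have h5 := emb_injective h4
      rw [left_eq_add, smul_eq_zero, or_iff_right hm2] at h5
      exact hq0 (by rw [h5, QuadraticMap.map_zero])
    have huu : u * u = 1 := by rw [hu, conj_mul, htt, mul_one, mul_inv_cancel]
    have hmu : Mv u 4 := hu ▸ hmt.conj g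
    have hnc : ∀ k : GL ι F, k * t' * k⁻¹ ≠ u := fun k hk => by
      have h1 : t = g⁻¹ * k * t' * (g⁻¹ * k)⁻¹ := by
        rw [show g⁻¹ * k * t' * (g⁻¹ * k)⁻¹ = g⁻¹ * (k * t' * k⁻¹) * g by group, hk, hu]; group
      have := hf.rank_le (h1 ▸ hmt'.conj _ : Mv t 2)
      omega
    obtain ⟨⟨k, hk⟩⟩ | ⟨z, hz, hzz, hz1, hzt', hzu⟩ := conj_or_central ht't' huu (fun h => hnc 1 (by simpa using h))
    · exact absurd hk (hnc k)
    have hzM : z ∈ M := Subgroup.zpowers_le.2 (mul_mem ht'M huM) hz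
    have hmz : Mv z 6 := hmt'.of_mem_zpowers hmu hz
    by_cases hzH : z ∈ Geo.subfieldSubgroup F₀ P
    swap
    · exact absurd (hd.newRoot_stage hn hcard (Or.inr h8) hle h2 hzM hzH hf' hf' ht'M ht'M ht't' ht't' ht'1 ht'1
        hmt' hmt' hzt') hno
    obtain ⟨z', hz'⟩ : ∃ z', z' = g⁻¹ * z * g := ⟨_, rfl⟩
    have hgz : g * z' = z * g := by rw [hz']; group
    have hz'M : z' ∈ M := hz' ▸ mul_mem (mul_mem (inv_mem hg) hzM) hg
    have hz't : z' * t = t * z' := by
      rw [show z' * t = g⁻¹ * (z * u) * g by rw [hz', hu]; group, hzu, hz', hu]; group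
    by_cases hz'H : z' ∈ Geo.subfieldSubgroup F₀ P
    swap
    · exact absurd (hd.newRoot_of_intertwine hz'M hz'H hf hf htM hz't (by omega)
        (Or.inl (hd.fix_rad htM hf htt h2)) (sing_in (Or.inl ht3))) hno
    have hz'z' : z' * z' = 1 := by
      rw [show z' * z' = g⁻¹ * (z * z) * g by rw [hz']; group, hzz]; group
    obtain ⟨fz, hfz⟩ := exists_rmap (ratMap_of_odd h8.odd hcard hzH hzz)
    obtain ⟨fz', hfz'⟩ := exists_rmap (ratMap_of_odd h8.odd hcard hz'H hz'z')
    have hmz'r : Mv z' (finrank F₀ (LinearMap.range fz)) := by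
      have := hfz.mv_rank.conj g⁻¹
      rwa [inv_inv, ← hz'] at this
    have hr2 := hd.two_le_rank hzM hfz hle hz1
    obtain ⟨m, hm⟩ := hd.even_rank hzM hfz hle
    have hr6 := hfz.rank_le hmz
    by_cases hsmall : finrank F₀ (LinearMap.range fz) ≤ 2
    · refine absurd (hd.newRoot_stage hn hcard (Or.inr h8) hle h2 hg hgH hfz hfz' hzM hz'M hzz hz'z' hz1
        (fun h1 => hz1 ?_) (hfz.mv_rank.mono hsmall) (hmz'r.mono hsmall) hgz) hno
      rw [h1, mul_one] at hgz
      exact mul_eq_right.1 hgz.symm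
    by_cases hmid : finrank F₀ (LinearMap.range fz) ≤ 4
    · exact absurd (hd.newRoot_of_intertwine hg hgH hfz' hfz hzM hgz
        (by have := hd.ker_dim hz'M hfz' hmz'r; omega) (Or.inl (hd.fix_rad hz'M hfz' hz'z' h2))
        (sing_in (Or.inl (by omega)))) hno
    -- the fixed plane of `z` is fixed by both factors
    have hk2 : finrank F₀ (LinearMap.ker fz) = 2 := by
      have := fz.finrank_range_add_finrank_ker
      rw [finrank_pi] at this
      omega
    have hfix2 : finrank F (fixSp z) ≤ 2 := by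
      have h3 := (Matrix.toLin' ((z : Mn) - 1)).finrank_range_add_finrank_ker
      rw [finrank_pi] at h3
      let bz := Module.finBasis F (LinearMap.range (Matrix.toLin' ((z : Mn) - 1)))
      have h4 := hfz.rank_le (k := finrank F (LinearMap.range (Matrix.toLin' ((z : Mn) - 1))))
        ⟨fun i => (bz i : V), fun x => by
          have hx : (z : Mn) *ᵥ x - x ∈ LinearMap.range (Matrix.toLin' ((z : Mn) - 1)) :=
            ⟨x, by rw [Matrix.toLin'_apply, Matrix.sub_mulVec, Matrix.one_mulVec]⟩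
          rw [show (z : Mn) *ᵥ x - x = ((⟨_, hx⟩ : LinearMap.range (Matrix.toLin' ((z : Mn) - 1))) : V) from rfl,
            ← bz.sum_repr ⟨_, hx⟩, Submodule.coe_sum]
          exact Submodule.sum_mem _ fun i _ => Submodule.smul_mem _ _ (Submodule.subset_span ⟨i, rfl⟩)⟩
      show finrank F (LinearMap.ker (Matrix.toLin' ((z : Mn) - 1))) ≤ 2
      omega
    have heq : fixSp t' ⊓ fixSp u = fixSp z := by
      refine Submodule.eq_of_le_of_finrank_le (inf_fixSp_le_of_mem_zpowers hz) ?_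
      have h1 := hmt'.le_fixSp
      have h2' := hmu.le_fixSp
      have h3 := Submodule.finrank_sup_add_finrank_inf_eq (fixSp t') (fixSp u)
      have h4 := Submodule.finrank_le (fixSp t' ⊔ fixSp u)
      rw [finrank_pi] at h4
      omega
    refine ⟨LinearMap.ker fz, hk2, fun x hx => ?_⟩
    have hxz : e x ∈ fixSp t' ⊓ fixSp u := by
      rw [heq, mem_fixSp, hfz, LinearMap.mem_ker.1 hx, add_zero]
    refine ⟨?_, mem_fixSp.1 hxz.2⟩
    have h5 := mem_fixSp.1 hxz.1
    rw [hf'] at h5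
    have hfx0 : f' x = 0 := by
      have := emb_injective h5
      rwa [add_eq_left] at this
    have h6 := hd.fix_orth ht'M hf' b₀ hfx0
    rw [hfb, QuadraticMap.polar_smul_left, smul_eq_mul, mul_eq_zero] at h6
    exact h6.resolve_left hm2
  -- two choices fill three dimensions
  obtain ⟨K, hK, hKu⟩ := plane (a 0) (a 1) (ha 0).2 (ha 1).2 (horth 0 1 (by decide))
  obtain ⟨i, k, hk, hik⟩ : ∃ i, ∃ k ∈ K, B₀ (a i) k ≠ 0 := by
    by_contra hc
    push Not at hc
    have h1 := Submodule.finrank_mono (show K ≤ LinearMap.BilinForm.orthogonal (QuadraticMap.polarBilin Q₀)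
      (Submodule.span F₀ (Set.range a)) from fun x hx y hy => by
        refine Submodule.span_induction (p := fun y _ => B₀ y x = 0) ?_ (QuadraticMap.polar_zero_left Q₀ x) ?_ ?_ hy
        · rintro _ ⟨j, rfl⟩; exact hc j x hx
        · intro p q _ _ hp hq; rw [QuadraticMap.polar_add_left, hp, hq, add_zero]
        · intro c p _ hp; rw [QuadraticMap.polar_smul_left, hp, smul_zero])
    have hli7 : LinearIndependent F₀ a :=
      linearIndependent_of_orth _ (fun j => QuadraticMap.polarBilin Q₀ (a j)) (fun j l hjl => horth _ _ hjl)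
        fun j => by rw [QuadraticMap.polarBilin_apply_apply, (ha j).2]; exact one_ne_zero
    rw [LinearMap.BilinForm.finrank_orthogonal hd.nd₀, finrank_pi, finrank_span_eq_card hli7, Fintype.card_fin,
      hK, hι] at h1
    omega
  obtain ⟨j, hji⟩ := exists_ne i
  obtain ⟨K', hK', hK'u⟩ := plane (a i) (a j) (ha i).2 (ha j).2 (horth i j hji.symm)
  have hkK' : k ∉ K' := fun h => hik (hK'u k h).1
  have hU : ∀ x ∈ K' ⊔ Submodule.span F₀ {k}, (u : Mn) *ᵥ e x = e x := fun x hx => by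
    obtain ⟨p, hp, q, hq, rfl⟩ := Submodule.mem_sup.1 hx
    obtain ⟨c, rfl⟩ := Submodule.mem_span_singleton.1 hq
    rw [emb_add, emb_smul, Matrix.mulVec_add, Matrix.mulVec_smul, (hK'u p hp).2, (hKu k hk).2]
  obtain ⟨r, hrS, hr0, hQr⟩ := sing_in (Qk := Q₀) (T := K' ⊔ Submodule.span F₀ {k})
    (Or.inl (by rw [Submodule.finrank_sup_span_singleton hkK', hK']))
  refine hno (hd.newRoot_of_perp hg hgH (T := LinearMap.range f) ht3 (Or.inl fun y hy h0 => ?_) hr0 hQr ?_)
  · by_contra hy0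
    obtain ⟨x, hx, hxy⟩ := hd.range_nd htM hf htt h2 y hy hy0
    exact hxy (h0 x hx)
  rintro _ ⟨x, rfl⟩
  have h2F : (2 : F) ≠ 0 := two_ne_sub h2
  have h7 := isometry_polar (hd.iso u huM) (e r) ((g : Mn) *ᵥ e x)
  rw [hU r hrS, hu, Matrix.mulVec_mulVec (e x) _ (g : Mn), ← Units.val_mul,
    show g * t * g⁻¹ * g = g * t by group, Units.val_mul, ← Matrix.mulVec_mulVec, hf, emb_add, Matrix.mulVec_add,
    QuadraticMap.polar_add_right] at h7
  linear_combination h7

/-- An element outside the subfield subgroup gives a new parameter. -/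
theorem newRoot {n : ℕ} (hn : n.Prime) (hcard : Fintype.card F = Nat.card F₀ ^ n)
    (hsize : ((12 ≤ Fintype.card ι ∨ Fintype.card ι = 10) ∨ (Odd (Fintype.card ι) ∧ (2 : F) ≠ 0)) ∨
      (Fintype.card ι = 8 ∧ Odd n ∧ ((2 : F) ≠ 0 → (-1 : GL ι F) ∉ Geo.omegaGL ⇑Q)))
    (hle : M ≤ Geo.omegaGL ⇑Q) {g : GL ι F} (hg : g ∈ M) (hgH : g ∉ Geo.subfieldSubgroup F₀ P) :
    NewRoot P Q Q₀ M := by
  have hdim := hd.dim
  have key : ∀ {t t' : GL ι F}, t ∈ M → t' ∈ M → t * t = 1 → t' * t' = 1 → (∀ k ∈ M, k * t' * k⁻¹ ≠ g * t * g⁻¹) →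
      ∀ {i j : ℕ}, Mv t i → Mv t' j → ∃ z ∈ M, z * z = 1 ∧ z ≠ 1 ∧ z * t' = t' * z ∧
        (g⁻¹ * z * g) * t = t * (g⁻¹ * z * g) ∧ Mv z (j + i) ∧ z ∈ Subgroup.zpowers (t' * (g * t * g⁻¹)) := by
    intro t t' ht ht' htt ht't' hnc i j hi hj
    have huM : g * t * g⁻¹ ∈ M := mul_mem (mul_mem hg ht) (inv_mem hg)
    have huu : g * t * g⁻¹ * (g * t * g⁻¹) = 1 := by rw [conj_mul, htt, mul_one, mul_inv_cancel]
    obtain ⟨⟨k, hk⟩⟩ | ⟨z, hz, hzz, hz1, hzt', hzu⟩ :=
      conj_or_central (t := (⟨t', ht'⟩ : M)) (u := ⟨g * t * g⁻¹, huM⟩) (Subtype.ext ht't') (Subtype.ext huu)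
        (fun h => hnc 1 (one_mem M) (by simpa using congrArg Subtype.val h))
    · exact absurd (congrArg Subtype.val hk) (hnc k k.2)
    replace hz : (z : GL ι F) ∈ Subgroup.zpowers (t' * (g * t * g⁻¹)) := by
      obtain ⟨i, rfl⟩ := Subgroup.mem_zpowers_iff.1 hz
      exact Subgroup.mem_zpowers_iff.2 ⟨i, by simp⟩
    replace hzz : (z : GL ι F) * z = 1 := congrArg Subtype.val hzz
    replace hz1 : (z : GL ι F) ≠ 1 := fun h => hz1 (Subtype.ext h)
    replace hzt' : (z : GL ι F) * t' = t' * z := congrArg Subtype.val hzt'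
    replace hzu : (z : GL ι F) * (g * t * g⁻¹) = g * t * g⁻¹ * z := congrArg Subtype.val hzu
    refine ⟨z, z.2, hzz, hz1, hzt', ?_,
      hj.of_mem_zpowers (hi.conj g) hz, hz⟩
    rw [show g⁻¹ * z * g * t = g⁻¹ * (z * (g * t * g⁻¹)) * g by group, hzu]; group
  by_cases h2 : (2 : F₀) = 0
  · have h13 : (12 ≤ Fintype.card ι ∨ Fintype.card ι = 10) ∨ (Fintype.card ι = 8 ∧ Odd n) :=
      hsize.imp (fun h => h.resolve_right fun h => h.2 (congrArg Subtype.val h2)) fun h => ⟨h.1, h.2.1⟩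
    have : CharP F₀ 2 := CharTwo.of_one_ne_zero_of_two_eq_zero one_ne_zero h2
    obtain ⟨c, d, -, hcd, -⟩ := hd.tri₀
    obtain ⟨a, b, hab, hqa, hqb, hli⟩ : ∃ a b, B₀ a b = 0 ∧ Q₀ a ≠ 0 ∧ Q₀ b = Q₀ a ∧
        ∀ s t : F₀, s • a + t • b = 0 → s = 0 ∧ t = 0 := by
      obtain ⟨x, y, Pxy⟩ := exists_basePair hd.nd₀ hd.tri₀
      set a := x + y with ha'
      have hqa : Q₀ a ≠ 0 := by rw [ha', quad_add, Pxy.1, Pxy.2.1, Pxy.2.2]; simp
      obtain ⟨b₀, hb₀, hne⟩ : ∃ b₀ ∈ LinearMap.ker (QuadraticMap.polarBilin Q₀ a), b₀ ∉ Submodule.span F₀ {a} := by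
        by_contra hc
        push Not at hc
        have h1 := Submodule.finrank_mono (s := LinearMap.ker (QuadraticMap.polarBilin Q₀ a)) hc
        have h3 := card_le_finrank_ker_add_one (QuadraticMap.polarBilin Q₀ a)
        rw [finrank_span_singleton (fun h0 => hqa (by rw [h0, QuadraticMap.map_zero]))] at h1
        omega
      replace hb₀ : B₀ a b₀ = 0 := hb₀
      have haa : B₀ a a = 0 := by rw [polar_self2, h2, zero_mul]
      obtain ⟨b₁, h1, h3, h4⟩ : ∃ b₁, B₀ a b₁ = 0 ∧ b₁ ∉ Submodule.span F₀ {a} ∧ Q₀ b₁ ≠ 0 := by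
        by_cases hq : Q₀ b₀ = 0
        · refine ⟨b₀ + a, by rw [QuadraticMap.polar_add_right, hb₀, haa, add_zero], fun hmem => hne ?_, ?_⟩
          · have := Submodule.sub_mem _ hmem (Submodule.mem_span_singleton_self a)
            rwa [add_sub_cancel_right] at this
          · rw [quad_add, hq, QuadraticMap.polar_comm _ b₀, hb₀, zero_add, add_zero]; exact hqa
        · exact ⟨b₀, hb₀, hne, hq⟩
      obtain ⟨q, hq⟩ := FiniteField.isSquare_of_char_two (ringChar.eq F₀ 2) (Q₀ a / Q₀ b₁)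
      have hq0 : q ≠ 0 := fun h0 => div_ne_zero hqa h4 (by rw [hq, h0, mul_zero])
      refine ⟨a, q • b₁, by rw [QuadraticMap.polar_smul_right, h1, smul_zero], hqa, by
        rw [QuadraticMap.map_smul, smul_eq_mul, ← hq, div_mul_cancel₀ _ h4], fun s t hst => ?_⟩
      by_cases ht : t = 0
      · rw [ht, zero_smul, add_zero, smul_eq_zero] at hst
        exact ⟨hst.resolve_right fun h0 => hqa (by rw [h0, QuadraticMap.map_zero]), ht⟩
      · exfalso
        refine h3 (Submodule.mem_span_singleton.2 ⟨-((t * q)⁻¹ * s), ?_⟩)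
        have h5 := congrArg ((t * q)⁻¹ • ·) hst
        simp only [smul_add, smul_smul, smul_zero] at h5
        rw [inv_mul_cancel₀ (mul_ne_zero ht hq0), one_smul] at h5
        linear_combination (norm := module) -h5
    obtain ⟨t, htM, f, hf, htt, hfx⟩ := hd.exists_pairInv hab hqa hqb
    obtain ⟨t', ht'M, ht'x⟩ := hd.lift (root_mem_sR hcd)
    let f' : W₀ →ₗ[F₀] W₀ := LinearMap.smulRight (QuadraticMap.polarBilin Q₀ c) d -
      LinearMap.smulRight (QuadraticMap.polarBilin Q₀ d) c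
    have hf' : RMap P t' f' := fun u => by
      rw [ht'x, eOG_val, eMat_mulVec, hcd.2.1, zero_mul, zero_smul, sub_zero, add_sub_assoc]; rfl
    have hf'x : ∀ u, f' u = B₀ c u • d - B₀ d u • c := fun u => rfl
    have hneg : ∀ x : W₀, -x = x := fun x => by rw [← neg_one_smul F₀ x, CharTwo.neg_eq, one_smul]
    have ht't' : t' * t' = 1 := ext_emb P F₀ fun u => by
      rw [(hf'.mul hf') u, Units.val_one, Matrix.one_mulVec]
      congr 1
      simp only [LinearMap.add_apply, LinearMap.comp_apply, hf'x]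
      simp [QuadraticMap.polar_sub_right, QuadraticMap.polar_smul_right, hcd.2.2.1, QuadraticMap.polar_comm _ d c,
        polar_self2, h2]
      rw [← two_smul F₀, h2, zero_smul]
    have hmt : Mv t 2 := hf.mv ![a, b] fun u => by
      rw [Matrix.range_cons_cons_empty, hfx]
      exact Submodule.sub_mem _ (Submodule.neg_mem _ (Submodule.smul_mem _ _ (Submodule.subset_span (by simp))))
        (Submodule.smul_mem _ _ (Submodule.subset_span (by simp)))
    have hmt' : Mv t' 2 := hf'.mv ![c, d] fun u => by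
      rw [Matrix.range_cons_cons_empty, hf'x]
      exact Submodule.sub_mem _ (Submodule.smul_mem _ _ (Submodule.subset_span (by simp)))
        (Submodule.smul_mem _ _ (Submodule.subset_span (by simp)))
    have hQmove : ∀ x, Q ((t' : Mn) *ᵥ x - x) = 0 := fun x => by
      obtain ⟨T, hT, hTx⟩ := hd.roots c d hcd.ok
      have heq : t' = T := ext_emb P F₀ fun u => by
        rw [ht'x, eOG_val, hTx, eMat_mulVec, eMat_mulVec]
        simp only [hd.pol, hd.val, emb_add, emb_sub, emb_smul, MulMemClass.coe_mul]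
      rw [heq, hTx, eMat_mulVec, hd.val, hcd.2.1, ZeroMemClass.coe_zero, zero_mul, zero_smul, sub_zero,
        add_sub_assoc, add_sub_cancel_left, sub_eq_add_neg, ← neg_smul, quad_lin]
      simp [hd.val, hd.pol, hcd.1, hcd.2.1, hcd.2.2.1, show B₀ d c = 0 by rw [QuadraticMap.polar_comm, hcd.2.2.1]]
    have hnc : ∀ k ∈ M, k * t' * k⁻¹ ≠ g * t * g⁻¹ := fun k hkM hk => by
      have hK : g⁻¹ * k ∈ M := mul_mem (inv_mem hg) hkM
      have ht : t = (g⁻¹ * k) * t' * (g⁻¹ * k)⁻¹ := by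
        rw [show g⁻¹ * k * t' * (g⁻¹ * k)⁻¹ = g⁻¹ * (k * t' * k⁻¹) * g by group, hk]; group
      obtain ⟨s, h1, h3⟩ := exists_polar2 hd.nd₀ hli (Q₀ a) 0
      have hmove : (t : Mn) *ᵥ e s - e s = e a := by
        rw [hf, emb_add, add_sub_cancel_left, hfx, h1, h3, inv_mul_cancel₀ hqa, one_smul, mul_zero, zero_smul,
          sub_zero, hneg]
      obtain ⟨y, hy⟩ : ∃ y, ((g⁻¹ * k : GL ι F) : Mn) *ᵥ y = e s := ⟨_, mulVec_inv_cancel _ _⟩
      rw [ht, Units.val_mul, Units.val_mul, ← Matrix.mulVec_mulVec, ← Matrix.mulVec_mulVec, ← hy,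
        inv_mulVec_cancel, ← Matrix.mulVec_sub] at hmove
      have h4 := congrArg ⇑Q hmove
      rw [hd.iso _ hK, hQmove, hd.val] at h4
      exact hqa (Subtype.ext h4.symm)
    obtain ⟨z, hzM, hzz, hz1, hzt', hz't, hmz, hzp⟩ := key htM ht'M htt ht't' hnc hmt hmt'
    have hkert' := hd.ker_dim ht'M hf' hmt'
    have hkert := hd.ker_dim htM hf hmt
    by_cases hzH : z ∈ Geo.subfieldSubgroup F₀ P
    swap
    · refine hd.newRoot_of_intertwine hzM hzH hf' hf' ht'M hzt' (by omega) (Or.inr (by omega)) ⟨c, ?_, hcd.left_ne, hcd.1⟩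
      obtain ⟨s, h1, h3⟩ := exists_polar2 hd.nd₀ hcd.2.2.2 0 1
      exact ⟨s, by rw [hf'x, h1, h3, zero_smul, one_smul, zero_sub, hneg]⟩
    set z' := g⁻¹ * z * g with hz'
    have hz'M : z' ∈ M := mul_mem (mul_mem (inv_mem hg) hzM) hg
    have hmz' : Mv z' (2 + 2) := by
      have := hmz.conj g⁻¹
      rwa [inv_inv, ← hz'] at this
    by_cases hz'H : z' ∈ Geo.subfieldSubgroup F₀ P
    swap
    · refine hd.newRoot_of_intertwine hz'M hz'H hf hf htM hz't (by omega) (Or.inr (by omega)) ⟨a + b, ?_, ?_, ?_⟩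
      · obtain ⟨s, h1, h3⟩ := exists_polar2 hd.nd₀ hli (Q₀ a) (Q₀ a)
        exact ⟨s, by rw [hfx, h1, h3, inv_mul_cancel₀ hqa, one_smul, one_smul, hneg, sub_eq_add_neg, hneg]⟩
      · exact fun h0 => one_ne_zero (hli 1 1 (by rw [one_smul, one_smul, h0])).1
      · rw [quad_add, hqb, hab, add_zero, ← two_mul, h2, zero_mul]
    have hz'z' : z' * z' = 1 := by
      rw [show z' * z' = g⁻¹ * (z * z) * g by rw [hz']; group, hzz]; group
    obtain ⟨fz, hfz⟩ := exists_rmap (h13.elim (fun h => ratMap_of_invol hn hcard hzH hzz hmz (Or.inl (Or.inl (by omega))))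
      fun h => ratMap_of_odd h.2 hcard hzH hzz)
    obtain ⟨fz', hfz'⟩ := exists_rmap (h13.elim
      (fun h => ratMap_of_invol hn hcard hz'H hz'z' hmz' (Or.inl (Or.inl (by omega))))
      fun h => ratMap_of_odd h.2 hcard hz'H hz'z')
    have hrk := hd.two_le_rank hzM hfz hle hz1
    obtain ⟨m₀, hm₀⟩ := hd.even_rank hzM hfz hle
    by_cases hr4 : 4 ≤ finrank F₀ (LinearMap.range fz)
    · -- then `g t g⁻¹` commutes with `t'`, so it is rational itself
      have huM : g * t * g⁻¹ ∈ M := mul_mem (mul_mem hg htM) (inv_mem hg)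
      have huu : g * t * g⁻¹ * (g * t * g⁻¹) = 1 := by rw [conj_mul, htt, mul_one, mul_inv_cancel]
      have hc := hd.comm_of_full_move ht'M huM ht't' huu hmt' (hmt.conj g) hzp hzM hzz hfz h2 hr4
      have hzeq : z = t' * (g * t * g⁻¹) := by
        obtain ⟨i, hi⟩ := Subgroup.mem_zpowers_iff.1 hzp
        have hsq : t' * (g * t * g⁻¹) * (t' * (g * t * g⁻¹)) = 1 := by
          calc _ = t' * ((g * t * g⁻¹) * t') * (g * t * g⁻¹) := by simp only [mul_assoc]
            _ = t' * (t' * (g * t * g⁻¹)) * (g * t * g⁻¹) := by rw [hc]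
            _ = t' * t' * ((g * t * g⁻¹) * (g * t * g⁻¹)) := by simp only [mul_assoc]
            _ = 1 := by rw [ht't', huu, one_mul]
        rcases Int.even_or_odd' i with ⟨j, rfl | rfl⟩
        · rw [_root_.zpow_mul, zpow_ofNat, sq, hsq, _root_.one_zpow] at hi
          exact absurd hi.symm hz1
        · rw [_root_.zpow_add, _root_.zpow_mul, zpow_ofNat, sq, hsq, _root_.one_zpow, one_mul, _root_.zpow_one] at hi
          exact hi.symm
      have hueq : g * t * g⁻¹ = t' * z := by rw [hzeq, ← mul_assoc, ht't', one_mul]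
      have hfu := hf'.mul hfz
      rw [← hueq] at hfu
      have hu1 : g * t * g⁻¹ ≠ 1 := fun h1 => by
        have h3 : t = 1 := by
          rw [show t = g⁻¹ * (g * t * g⁻¹) * g by group, h1]; group
        obtain ⟨s, hs1, hs3⟩ := exists_polar2 hd.nd₀ hli (Q₀ a) 0
        have h4 := hf s
        rw [h3, Units.val_one, Matrix.one_mulVec, hfx, hs1, hs3, inv_mul_cancel₀ hqa, one_smul, mul_zero, zero_smul,
          sub_zero, hneg] at h4
        have h5 := emb_injective h4
        rw [left_eq_add] at h5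
        exact hqa (by rw [h5, QuadraticMap.map_zero])
      refine hd.newRoot_of_intertwine hg hgH hf hfu huM (by group) (by omega) (Or.inr (by omega)) ?_
      obtain ⟨y, hy⟩ : ∃ y, (f' + fz + f'.comp fz) y ≠ 0 := by
        by_contra hc
        push Not at hc
        exact hu1 (ext_emb P F₀ fun u => by rw [hfu, hc, add_zero, Units.val_one, Matrix.one_mulVec])
      refine sing_in (Or.inr ⟨hd.two_le_rank huM hfu hle hu1, _, ⟨y, rfl⟩, hy, ?_⟩)
      rintro _ ⟨x, rfl⟩
      have h5 := hfu.invol huu x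
      rw [h2, zero_smul, add_zero] at h5
      exact hd.fix_orth huM hfu y h5
    have hmz'r : Mv z' (finrank F₀ (LinearMap.range fz)) := by
      have := hfz.mv_rank.conj g⁻¹
      rwa [inv_inv, ← hz'] at this
    have hk' := hd.ker_dim hz'M hfz' hmz'r
    refine hd.newRoot_of_intertwine hg hgH hfz' hfz hzM (by rw [hz']; group) (by omega) (Or.inr (by omega)) ?_
    obtain ⟨y, hy⟩ : ∃ y, fz y ≠ 0 := by
      by_contra hc
      push Not at hc
      exact hz1 (ext_emb P F₀ fun u => by rw [hfz, hc, add_zero, Units.val_one, Matrix.one_mulVec])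
    refine sing_in (Or.inr ⟨hrk, fz y, ⟨y, rfl⟩, hy, ?_⟩)
    rintro _ ⟨x, rfl⟩
    have h5 := hfz.invol hzz x
    rw [h2, zero_smul, add_zero] at h5
    exact hd.fix_orth hzM hfz y h5
  · rcases hsize with hsize | ⟨h8, hno, hneg⟩
    swap
    · exact hd.newRoot_eight hn hcard ⟨h8, hno, hneg (two_ne_sub h2)⟩ hle h2 hg hgH
    have hsize' : ((12 ≤ Fintype.card ι ∨ Fintype.card ι = 10) ∨ Odd (Fintype.card ι)) ∨ Eight Q n :=
      Or.inl (hsize.imp_right And.left)
    obtain ⟨a, ha, horth⟩ := hd.exists_units h2 4 ⊤ (fun w _ hw => by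
      by_contra hc
      push Not at hc
      exact hw (hd.nd₀.1 w fun y => hc y Submodule.mem_top)) (by rw [finrank_top, finrank_pi]; omega)
    obtain ⟨t, htM, f, t', ht'M, f', hf, hf', htt, ht't', hmt, hmt', hf'a, hfa, -, -, -, -, -⟩ :=
      hd.exists_two_four h2 (fun i => (ha i).2) horth
    have hm2 : (-2 : F₀) ≠ 0 := neg_ne_zero.2 h2
    have hrange : ∀ {fw : W₀ →ₗ[F₀] W₀} {x : W₀}, fw x = (-2 : F₀) • x → x ∈ LinearMap.range fw := fun {fw x} h =>
      ⟨(-2 : F₀)⁻¹ • x, by rw [map_smul, h, smul_smul, inv_mul_cancel₀ hm2, one_smul]⟩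
    have hrk' : 3 ≤ finrank F₀ (LinearMap.range f') := by
      have h3 := Submodule.finrank_mono (show Submodule.span F₀ (Set.range fun i : Fin 3 => a (Fin.castSucc i)) ≤
        LinearMap.range f' from Submodule.span_le.2 (by rintro _ ⟨i, rfl⟩; exact hrange (hf'a _)))
      rwa [finrank_span_eq_card (hd.li_units (fun i => (ha i).2) horth), Fintype.card_fin] at h3
    have hnc : ∀ k ∈ M, k * t' * k⁻¹ ≠ g * t * g⁻¹ := fun k _ hk => by
      have h1 : t' = k⁻¹ * g * t * (k⁻¹ * g)⁻¹ := by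
        rw [show k⁻¹ * g * t * (k⁻¹ * g)⁻¹ = k⁻¹ * (g * t * g⁻¹) * k by group, ← hk]; group
      have := hf'.rank_le (h1 ▸ hmt.conj _ : Mv t' 2)
      omega
    obtain ⟨z, hzM, hzz, hz1, hzt', hz't, hmz, hzp⟩ := key htM ht'M htt ht't' hnc hmt hmt'
    by_cases hzH : z ∈ Geo.subfieldSubgroup F₀ P
    swap
    · exact hd.newRoot_of_intertwine hzM hzH hf' hf' ht'M hzt' (by have := hd.ker_dim ht'M hf' hmt'; omega)
        (Or.inl (hd.fix_rad ht'M hf' ht't' h2)) (sing_in (Or.inl hrk'))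
    set z' := g⁻¹ * z * g with hz'
    have hz'M : z' ∈ M := mul_mem (mul_mem (inv_mem hg) hzM) hg
    have ht1 : t ≠ 1 := fun h1 => by
      have h4 := hf (a 0)
      rw [h1, Units.val_one, Matrix.one_mulVec, hfa] at h4
      have h5 := emb_injective h4
      rw [left_eq_add, smul_eq_zero] at h5
      exact one_ne_zero (((ha 0).2).symm.trans (by rw [h5.resolve_left hm2, QuadraticMap.polar_zero_left]))
    by_cases hz'H : z' ∈ Geo.subfieldSubgroup F₀ P
    swap
    · exact hd.newRoot_stage hn hcard hsize' hle h2 hz'M hz'H hf hf htM htM htt htt ht1 ht1 hmt hmt hz't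
    have hz'z' : z' * z' = 1 := by
      rw [show z' * z' = g⁻¹ * (z * z) * g by rw [hz']; group, hzz]; group
    have hmz' : Mv z' (4 + 2) := by
      have := hmz.conj g⁻¹
      rwa [inv_inv, ← hz'] at this
    obtain ⟨fz, hfz⟩ := exists_rmap (ratMap_of_invol_mem hn hcard hle hzM hzH hzz hmz le_rfl
      hsize hf'.ratMap (fun h1 => by
        have h4 := hf' (a (Fin.castSucc 0))
        rw [h1, Units.val_one, Matrix.one_mulVec, hf'a] at h4
        have h5 := emb_injective h4
        rw [left_eq_add, smul_eq_zero] at h5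
        exact one_ne_zero ((ha _).2.symm.trans (by rw [h5.resolve_left hm2, QuadraticMap.polar_zero_left])))
      hmt' (hmt.conj g) le_rfl (Or.inl hzp))
    obtain ⟨fz', hfz'⟩ := exists_rmap (ratMap_of_invol_mem hn hcard hle hz'M hz'H hz'z' hmz' le_rfl
      hsize hf.ratMap ht1 hmt (hmt'.conj g⁻¹) le_rfl (Or.inr (by
        obtain ⟨l, hl⟩ := Subgroup.mem_zpowers_iff.1 hzp
        refine Subgroup.mem_zpowers_iff.2 ⟨l, ?_⟩
        rw [show g⁻¹ * t' * g⁻¹⁻¹ * t = g⁻¹ * (t' * (g * t * g⁻¹)) * g⁻¹⁻¹ by group, conj_zpow, hl, hz', inv_inv])))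
    have hgz : g * z' = z * g := by rw [hz']; group
    by_cases hsmall : finrank F₀ (LinearMap.range fz) ≤ 2
    · have hmz2 : Mv z 2 := by
        obtain ⟨l, hl⟩ : ∃ l : Fin 2 → W₀, LinearMap.range fz ≤ Submodule.span F₀ (Set.range l) := by
          let b := Module.finBasis F₀ (LinearMap.range fz)
          refine ⟨fun i => if hi : (i : ℕ) < finrank F₀ (LinearMap.range fz) then (b ⟨i, hi⟩ : W₀) else 0,
            fun x hx => ?_⟩
          rw [show x = ((⟨x, hx⟩ : LinearMap.range fz) : W₀) from rfl, ← b.sum_repr ⟨x, hx⟩, Submodule.coe_sum]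
          refine Submodule.sum_mem _ fun i _ => Submodule.smul_mem _ _ ?_
          exact Submodule.subset_span ⟨Fin.castLE hsmall i, by simp⟩
        exact hfz.mv l fun u => hl ⟨u, rfl⟩
      have hz'1 : z' ≠ 1 := fun h1 => hz1 (by
        rw [h1, mul_one] at hgz
        exact mul_eq_right.1 hgz.symm)
      have hmz'2 : Mv z' 2 := by
        have := hmz2.conj g⁻¹
        rwa [inv_inv, ← hz'] at this
      exact hd.newRoot_stage hn hcard hsize' hle h2 hg hgH hfz hfz' hzM hz'M hzz hz'z' hz1 hz'1 hmz2 hmz'2 hgz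
    · have hmz'r : Mv z' (finrank F₀ (LinearMap.range fz)) := by
        have := hfz.mv_rank.conj g⁻¹
        rwa [inv_inv, ← hz'] at this
      have hk' := hd.ker_dim hz'M hfz' hmz'r
      by_cases hmid : finrank F₀ (LinearMap.range fz) + 3 ≤ Fintype.card ι
      · exact hd.newRoot_of_intertwine hg hgH hfz' hfz hzM hgz (by omega)
          (Or.inl (hd.fix_rad hz'M hfz' hz'z' h2)) (sing_in (Or.inl (by omega)))
      obtain ⟨m, hm⟩ := hd.even_rank hzM hfz hle
      have h6 := hfz.rank_le hmz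
      have h7 : Fintype.card ι = 7 := by rcases hsize with h | ⟨⟨l, hl⟩, -⟩ <;> omega
      have hmzr : Mv z (finrank F₀ (LinearMap.range fz')) := by
        have := hfz'.mv_rank.conj g
        rwa [show g * z' * g⁻¹ = z by rw [hgz, mul_inv_cancel_right]] at this
      have h8 := hfz.rank_le hmzr
      have h9 := hfz'.rank_le hmz'r
      have h10 := fz.finrank_range_add_finrank_ker
      have h11 := fz'.finrank_range_add_finrank_ker
      rw [finrank_pi] at h10 h11
      exact hd.newRoot_six hn hcard h7 hle h2 hg hgH hfz hfz' hzM hz'M hzz hz'z' (by omega) (by omega) hgz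

end OFData

/-- Equal isometry groups have equal `Ω`. -/
theorem omegaGL_congr {G : Type*} [Group G] (I J : Subgroup G) (h : I = J) :
    (commutator I).map I.subtype = (commutator J).map J.subtype := by subst h; rfl

/-- Subfield subgroups are maximal in `Ω`, dimension eight included. -/
theorem orthogonal_subfield_maximal_gen {n : ℕ} (Q₁ : V → F)
    (hι : ((12 ≤ Fintype.card ι ∨ Fintype.card ι = 10) ∨ (Odd (Fintype.card ι) ∧ (2 : F) ≠ 0 ∧ 7 ≤ Fintype.card ι)) ∨
      (Fintype.card ι = 8 ∧ Odd n ∧ ((2 : F) ≠ 0 → (-1 : GL ι F) ∉ Geo.omegaGL Q₁)))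
    (hQ : Geo.IsNondegenerateQuadraticForm Q₁) (hn : n.Prime) (F₀ : Subfield F)
    (hcard : Fintype.card F = Nat.card F₀ ^ n) (P : GL ι F) {ζ : F} (hζ : ζ ≠ 0)
    (hP : Geo.IsQuadFormRationalStructure (fun v => ζ * Q₁ v) F₀ P) :
    Geo.IsMaximalIn (Geo.omegaGL Q₁) (Geo.subfieldSubgroup F₀ P ⊓ Geo.omegaGL Q₁) := by
  have hι7 : 7 ≤ Fintype.card ι := by rcases hι with ((h | h) | h) | h <;> omega
  obtain ⟨Qf, hQf⟩ : ∃ Qf : QuadraticForm F V, ⇑Qf = Q₁ :=
    ⟨QuadraticMap.ofPolar Q₁ (fun a x => by rw [hQ.smul, smul_eq_mul, sq])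
      (fun x x' y => hQ.polar_bilinear.add_left x x' y) (fun a x y => hQ.polar_bilinear.smul_left a x y), rfl⟩
  subst hQf
  set Qz : QuadraticForm F V := ζ • Qf with hQz
  have hval : ∀ v, Qz v = ζ * Qf v := fun v => rfl
  have homega : Geo.omegaGL ⇑Qz = Geo.omegaGL ⇑Qf := omegaGL_congr _ _ (Subgroup.ext fun g => by
    simp only [mem_isometryGroup, hval, mul_right_inj' hζ])
  rw [← homega]
  have hnd₁ := nd_of_isNondegenerateQuadraticForm hQ
  have hpol : ∀ x y, QuadraticMap.polar ⇑Qz x y = ζ * QuadraticMap.polar ⇑Qf x y := fun x y => by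
    simp only [QuadraticMap.polar, hval]; ring
  have hnd : (QuadraticMap.polarBilin Qz).Nondegenerate :=
    ⟨fun u hu => hnd₁.1 u fun v => (mul_eq_zero.1 ((hpol u v).symm.trans (hu v))).resolve_left hζ,
      fun u hu => hnd₁.2 u fun v => (mul_eq_zero.1 ((hpol v u).symm.trans (hu v))).resolve_left hζ⟩
  let Q₀ : QuadraticForm F₀ (ι → F₀) := QuadraticMap.ofPolar
    (fun u => ⟨Qz (emb F₀ P u), hP (fun i => (u i : F)) fun i => (u i).2⟩)
    (fun a x => Subtype.ext (by
      show Qz (emb F₀ P (a • x)) = ((a : F) * a) * Qz (emb F₀ P x)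
      rw [emb_smul, QuadraticMap.map_smul, smul_eq_mul]))
    (fun x x' y => Subtype.ext (by
      simp only [QuadraticMap.polar, emb_add, AddMemClass.coe_add, AddSubgroupClass.coe_sub]
      exact QuadraticMap.polar_add_left Qz (emb F₀ P x) (emb F₀ P x') (emb F₀ P y)))
    (fun a x y => Subtype.ext (by
      simp only [QuadraticMap.polar, emb_add, emb_smul, AddSubgroupClass.coe_sub, smul_eq_mul, MulMemClass.coe_mul]
      exact QuadraticMap.polar_smul_left Qz (a : F) (emb F₀ P x) (emb F₀ P y)))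
  have hT : Tri Qz := by
    refine tri_of_ndQ hnd (W := ⊤) (fun w _ hw => ?_) (by rw [finrank_top, finrank_pi]; omega)
    by_contra hc
    push Not at hc
    exact hw (hnd.1 w fun y => hc y Submodule.mem_top)
  have hdata : ∀ M : Subgroup (GL ι F), Geo.subfieldSubgroup F₀ P ⊓ Geo.omegaGL ⇑Qz ≤ M →
      M ≤ Geo.omegaGL ⇑Qz → OFData P Qz Q₀ M := fun M hle hMle => by
    refine ⟨hι7, hnd, fun u => rfl, fun a b hab => ?_, fun k hk => isometry_of_mem_omegaGL (hMle hk)⟩
    have hpol' : ∀ x y, QuadraticMap.polar ⇑Qz (emb F₀ P x) (emb F₀ P y) =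
        ((QuadraticMap.polar ⇑Q₀ x y : F₀) : F) := fun x y => by
      simp only [QuadraticMap.polar, ← emb_add, AddSubgroupClass.coe_sub]; rfl
    have hQ₀ : ∀ x, Qz (emb F₀ P x) = ((Q₀ x : F₀) : F) := fun x => rfl
    have hOK : OK Qz (emb F₀ P a) (emb F₀ P b) :=
      ⟨by rw [hQ₀, hab.1, ZeroMemClass.coe_zero], by rw [hpol', hab.2, ZeroMemClass.coe_zero]⟩
    refine ⟨_, hle ⟨mem_subfieldSubgroup_of one_ne_zero fun x hx => ?_,
      Subgroup.mem_map_of_mem _ (sR_le_omega hnd hT (eOG_mem hnd hT hOK))⟩, eOG_val hOK⟩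
    obtain ⟨u, rfl⟩ := exists_emb hx
    rw [one_smul]
    show Rat F₀ P (eMat Qz (emb F₀ P a) (emb F₀ P b) *ᵥ emb F₀ P u)
    rw [eMat_mulVec, hpol', hpol', hQ₀]
    exact (((rat_emb u).add ((rat_emb b).smul (SetLike.coe_mem _))).sub ((rat_emb a).smul (SetLike.coe_mem _))).sub
      ((rat_emb a).smul (mul_mem (SetLike.coe_mem _) (SetLike.coe_mem _)))
  refine isMaximalIn_intro inf_le_right (fun hle => ?_) fun M hHM hMK g hgM hgH => ?_
  · have hd := hdata _ inf_le_right le_rfl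
    obtain ⟨s, hs⟩ : ∃ s : F, s ∉ F₀ := by
      by_contra hc
      push Not at hc
      have h1 : Nat.card F₀ = Fintype.card F := by
        rw [← Nat.card_eq_fintype_card]
        exact Nat.card_congr ⟨Subtype.val, fun x => ⟨x, hc x⟩, fun _ => rfl, fun _ => rfl⟩
      have h2 := hn.two_le
      have h3 : 1 < Fintype.card F := Fintype.one_lt_card
      rw [h1] at hcard
      have h4 := Nat.pow_le_pow_right h3.le h2
      rw [← hcard, sq] at h4
      have := Nat.le_of_mul_le_mul_left (h4.trans (Nat.mul_one _).ge) (by omega)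
      omega
    obtain ⟨r, b, -, hrb, -⟩ := hd.tri₀
    obtain ⟨q, hq1, hq2⟩ := exists_polar2 hd.nd₀ hrb.2.2.2 1 0
    obtain ⟨q', hq'⟩ := hd.partner hrb.right_ne
    have hok : OK Qz (emb F₀ P r) (s • emb F₀ P b) := hd.ts_ok hrb s
    obtain ⟨a, ha, h⟩ := exists_of_mem_subfieldSubgroup
      (hle (Subgroup.mem_map_of_mem _ (sR_le_omega hnd hT (eOG_mem hnd hT hok)))).1
    have hval' : ∀ x, Rat F₀ P (emb F₀ P x) → Rat F₀ P (a • (eMat Qz (emb F₀ P r) (s • emb F₀ P b) *ᵥ emb F₀ P x)) :=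
      fun x hx => h _ hx
    have hpair : ∀ c : F, ∀ x y, QuadraticMap.polar ⇑Q₀ x y = 1 → Rat F₀ P (c • emb F₀ P x) → c ∈ F₀ :=
      fun c x y hxy hc => by
        obtain ⟨u, hu⟩ := exists_emb hc
        have h1 := hd.pol u y
        rw [hu, QuadraticMap.polar_smul_left, hd.pol, hxy, OneMemClass.coe_one, smul_eq_mul, mul_one] at h1
        exact h1 ▸ (QuadraticMap.polar ⇑Q₀ u y).2
    have hrq : QuadraticMap.polar ⇑Q₀ r q = 1 := hq1
    have h1 := hval' r (rat_emb r)
    rw [eMat_mulVec, hd.pol, QuadraticMap.polar_smul_left, hd.pol, polar_self' hrb.1,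
      QuadraticMap.polar_comm _ b r, hrb.2.2.1] at h1
    simp at h1
    have haF := hpair a r q hrq h1
    have h2 := hval' q (rat_emb q)
    rw [eMat_mulVec, hd.pol, hrq, QuadraticMap.polar_smul_left, hd.pol, hq2, QuadraticMap.map_smul, hd.val,
      hrb.2.1] at h2
    simp at h2
    have h3 := h2.sub ((rat_emb q).smul haF)
    rw [add_sub_cancel_left, smul_smul] at h3
    have h4 := hpair _ b q' hq' h3
    exact hs (by have := div_mem h4 haF; rwa [mul_div_cancel_left₀ _ ha] at this)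
  have hd := hdata M hHM hMK
  have hfull := hd.full_all (hd.sc_all hn hcard
    (hd.newRoot hn hcard (hι.imp (fun h => h.imp_right fun h => ⟨h.1, h.2.1⟩) fun h =>
      ⟨h.1, h.2.1, fun h2 hm => h.2.2 h2 (homega ▸ hm)⟩) hMK hgM fun h => hgH ⟨h, hMK hgM⟩))
  intro x hx
  obtain ⟨k, hk, rfl⟩ := Subgroup.mem_map.1 hx
  rw [omega_eq_sR_all hnd hT] at hk
  show (k : GL ι F) ∈ M
  refine Subgroup.closure_induction (p := fun (k : isometryGroup F ⇑Qz) _ => (k : GL ι F) ∈ M) ?_ ?_ ?_ ?_ hk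
  · rintro y ⟨a, b, h, hy⟩
    obtain ⟨t, ht, htx⟩ := hfull a h.1 b h.2.2.1
    rwa [show (y : GL ι F) = t from Units.ext (hy.trans htx.symm)]
  · exact one_mem M
  · intro a b _ _ ha hb; exact mul_mem ha hb
  · intro a _ ha; exact inv_mem ha


/-- Subfield subgroups are maximal in `Ω`. -/
theorem orthogonal_subfield_maximal (hι : (12 ≤ Fintype.card ι ∨ Fintype.card ι = 10) ∨ (Odd (Fintype.card ι) ∧ (2 : F) ≠ 0 ∧ 7 ≤ Fintype.card ι)) (Q₁ : V → F)
    (hQ : Geo.IsNondegenerateQuadraticForm Q₁) {n : ℕ} (hn : n.Prime) (F₀ : Subfield F)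
    (hcard : Fintype.card F = Nat.card F₀ ^ n) (P : GL ι F) {ζ : F} (hζ : ζ ≠ 0)
    (hP : Geo.IsQuadFormRationalStructure (fun v => ζ * Q₁ v) F₀ P) :
    Geo.IsMaximalIn (Geo.omegaGL Q₁) (Geo.subfieldSubgroup F₀ P ⊓ Geo.omegaGL Q₁) :=
  orthogonal_subfield_maximal_gen Q₁ (Or.inl hι) hQ hn F₀ hcard P hζ hP

end Cfsg.Agent.Classical.MaxTv
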