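import Cfsg.Agent.Lib.Classical.MaxUnitSubfieldData
import Cfsg.Agent.Lib.Classical.MaxOrthSubMain

/-!
A quadratic space over a subfield inside one over a bigger field: the rational Siegel elements and one
further parameter generate `Ω`.
-/

set_option autoImplicit false
set_option linter.unusedSectionVars false
set_option quotPrecheck false

namespace Cfsg.Agent.Classical.MaxTv

open Matrix Module OrthAut

variable {F : Type*} [Field F] [Fintype F] {ι : Type} [Fintype ι] [DecidableEq ι] {F₀ : Subfield F}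
  {P : GL ι F} {Q : QuadraticForm F (ι → F)} {Q₀ : QuadraticForm F₀ (ι → F₀)} {M : Subgroup (GL ι F)}

local notation "V" => (ι → F)
local notation "W₀" => (ι → F₀)
local notation "Mn" => Matrix ι ι F
local notation "B" => QuadraticMap.polar ⇑Q
local notation "B₀" => QuadraticMap.polar ⇑Q₀
local notation "e" => emb F₀ P

/-- A Siegel element in `M`. -/
def InE (Q : QuadraticForm F (ι → F)) (M : Subgroup (GL ι F)) (a b : ι → F) : Prop :=
  ∃ t ∈ M, (t : Matrix ι ι F) = eMat Q a b

theorem InE.zero (a : V) : InE Q M a 0 := ⟨1, one_mem M, by rw [eMat_zero]; rfl⟩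

theorem InE.add {a w w' : V} (ha : OK Q a w) (ha' : OK Q a w') (h : InE Q M a w) (h' : InE Q M a w') :
    InE Q M a (w + w') := by
  obtain ⟨t, ht, htx⟩ := h
  obtain ⟨s, hs, hsx⟩ := h'
  exact ⟨t * s, mul_mem ht hs, by rw [Units.val_mul, htx, hsx, eMat_mul ha ha']⟩

theorem InE.neg {a w : V} (ha : OK Q a w) (h : InE Q M a w) : InE Q M a (-w) := by
  obtain ⟨t, ht, htx⟩ := h
  refine ⟨t⁻¹, inv_mem ht, ?_⟩
  refine Units.inv_eq_of_mul_eq_one_right ?_
  rw [htx, eMat_mul ha (by simpa using ha.smul (-1)), add_neg_cancel, eMat_zero]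

theorem InE.sub {a w w' : V} (ha : OK Q a w) (ha' : OK Q a w') (h : InE Q M a w) (h' : InE Q M a w') :
    InE Q M a (w - w') := by
  rw [sub_eq_add_neg]
  exact InE.add ha (by simpa using ha'.smul (-1)) h (InE.neg ha' h')

theorem InE.add_self {a w : V} {t : F} (ha : OK Q a w) : InE Q M a (w + t • a) ↔ InE Q M a w := by
  rw [InE, InE, eMat_add_self ha]

theorem InE.smul_left {a w : V} {c : F} : InE Q M (c • a) w ↔ InE Q M a (c • w) := by
  rw [InE, InE, eMat_smul_left]

theorem InE.swap {a b : V} (ha : Q a = 0) (hb : Q b = 0) (h : InE Q M a (-b)) : InE Q M b a := by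
  rwa [InE, ← eMat_swap ha hb]

theorem InE.conj {a w : V} {k : GL ι F} (hk : k ∈ M) (hiso : ∀ x, Q ((k : Mn) *ᵥ x) = Q x) (h : InE Q M a w) :
    InE Q M ((k : Mn) *ᵥ a) ((k : Mn) *ᵥ w) := by
  obtain ⟨t, ht, htx⟩ := h
  refine ⟨k * t * k⁻¹, mul_mem (mul_mem hk ht) (inv_mem hk), Matrix.ext_iff_mulVec.2 fun y => ?_⟩
  obtain ⟨z, rfl⟩ : ∃ z, (k : Mn) *ᵥ z = y := ⟨_, mulVec_inv_cancel k y⟩
  rw [Units.val_mul, Units.val_mul, ← Matrix.mulVec_mulVec, ← Matrix.mulVec_mulVec, inv_mulVec_cancel, htx,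
    Matrix.mulVec_mulVec, isometry_eMat hiso, ← Matrix.mulVec_mulVec]

/-- A rational quadratic space with its Siegel elements in `M`. -/
structure OFData (P : GL ι F) (Q : QuadraticForm F (ι → F)) (Q₀ : QuadraticForm F₀ (ι → F₀))
    (M : Subgroup (GL ι F)) : Prop where
  dim : 7 ≤ Fintype.card ι
  nd : (QuadraticMap.polarBilin Q).Nondegenerate
  val : ∀ u, Q (emb F₀ P u) = (Q₀ u : F)
  roots : ∀ a b, OK Q₀ a b → InE Q M (emb F₀ P a) (emb F₀ P b)
  iso : ∀ k ∈ M, ∀ x, Q ((k : Matrix ι ι F) *ᵥ x) = Q x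

/-- A parameter beyond the rational ones at a rational point. -/
def NewRoot (P : GL ι F) (Q : QuadraticForm F (ι → F)) (Q₀ : QuadraticForm F₀ (ι → F₀))
    (M : Subgroup (GL ι F)) : Prop :=
  ∃ r p, r ≠ 0 ∧ Q₀ r = 0 ∧ QuadraticMap.polar ⇑Q (emb F₀ P r) p = 0 ∧ InE Q M (emb F₀ P r) p ∧
    ∀ u, ∀ c : F, p ≠ emb F₀ P u + c • emb F₀ P r

/-- Linear independence goes up. -/
theorem li_emb {κ : Type} [Fintype κ] {l : κ → ι → F₀} (h : LinearIndependent F₀ l) :
    LinearIndependent F fun i => emb F₀ P (l i) := by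
  classical
  refine Fintype.linearIndependent_iff.2 fun c hc => ?_
  by_contra hne
  push Not at hne
  obtain ⟨i, hi⟩ := hne
  let A : Matrix ι κ F₀ := fun a b => l b a
  have h1 : A.map F₀.subtype *ᵥ c = 0 := by
    refine gl_mulVec_injective P ?_
    show (P : Mn) *ᵥ (A.map F₀.subtype *ᵥ c) = (P : Mn) *ᵥ 0
    rw [Matrix.mulVec_zero, ← hc, show A.map F₀.subtype *ᵥ c = ∑ j, c j • fun a => (l j a : F) by
      funext a
      simp only [Matrix.mulVec, dotProduct, Finset.sum_apply, Pi.smul_apply, smul_eq_mul]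
      exact Finset.sum_congr rfl fun j _ => mul_comm _ _]
    simp only [Matrix.mulVec_sum, Matrix.mulVec_smul, emb]
  obtain ⟨y, hy0, hy⟩ := exists_rational_ker A (x := c) (fun h0 => hi (congrFun h0 i)) h1
  refine hy0 (funext fun j => Fintype.linearIndependent_iff.1 h y ?_ j)
  rw [← hy]
  funext a; simp [A, Matrix.mulVec, dotProduct, Finset.sum_apply, mul_comm]

theorem finrank_inf_orth_le {K : Type*} [Field K] {Qk : QuadraticForm K (ι → K)}
    (hQ : (QuadraticMap.polarBilin Qk).Nondegenerate) (T : Submodule K (ι → K)) :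
    finrank K (T ⊓ LinearMap.BilinForm.orthogonal (QuadraticMap.polarBilin Qk) T : Submodule K (ι → K)) +
      finrank K T ≤ Fintype.card ι := by
  have h1 := Submodule.finrank_mono
    (inf_le_right : T ⊓ LinearMap.BilinForm.orthogonal (QuadraticMap.polarBilin Qk) T ≤ _)
  rw [LinearMap.BilinForm.finrank_orthogonal hQ, finrank_pi] at h1
  have h2 := Submodule.finrank_le T
  rw [finrank_pi] at h2
  omega

/-- Singular vectors span. -/
theorem sing_span {K : Type*} [Field K] [Finite K] {Qk : QuadraticForm K (ι → K)} {T : Submodule K (ι → K)}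
    (h : finrank K (T ⊓ LinearMap.BilinForm.orthogonal (QuadraticMap.polarBilin Qk) T : Submodule K (ι → K)) + 3 ≤
      finrank K T) : T ≤ Submodule.span K {x | x ∈ T ∧ Qk x = 0} := by
  obtain ⟨a, ha, -, -, hQa, z, hz, haz⟩ := exists_hyp_in h
  have haS : a ∈ Submodule.span K {x | x ∈ T ∧ Qk x = 0} := Submodule.subset_span ⟨ha, hQa⟩
  have key : ∀ x ∈ T, QuadraticMap.polar ⇑Qk a x ≠ 0 → x ∈ Submodule.span K {x | x ∈ T ∧ Qk x = 0} := by
    intro x hx hax
    have h1 : x + (-(Qk x) / QuadraticMap.polar ⇑Qk a x) • a ∈ Submodule.span K {x | x ∈ T ∧ Qk x = 0} :=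
      Submodule.subset_span ⟨T.add_mem hx (T.smul_mem _ ha), by
        rw [QuadraticMap.map_add ⇑Qk, QuadraticMap.map_smul, hQa, QuadraticMap.polar_smul_right,
          QuadraticMap.polar_comm _ x a, smul_zero, add_zero, smul_eq_mul, div_mul_cancel₀ _ hax, add_neg_cancel]⟩
    have h2 := Submodule.sub_mem _ h1 (Submodule.smul_mem _ (-(Qk x) / QuadraticMap.polar ⇑Qk a x) haS)
    rwa [add_sub_cancel_right] at h2
  intro x hx
  by_cases hax : QuadraticMap.polar ⇑Qk a x = 0
  · have h2 := Submodule.sub_mem _ (key (x + z) (T.add_mem hx hz) (by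
      rw [QuadraticMap.polar_add_right, hax, zero_add]; exact haz)) (key z hz haz)
    rwa [add_sub_cancel_right] at h2
  · exact key x hx hax

namespace OFData

variable (hd : OFData P Q Q₀ M)
include hd

theorem pol (u v : W₀) : B (e u) (e v) = (B₀ u v : F) := by
  simp only [QuadraticMap.polar, ← emb_add, hd.val, AddSubgroupClass.coe_sub]

theorem perp_all {x : V} (h : ∀ u, B x (e u) = 0) : x = 0 := hd.nd.1 x fun y => by
  rw [eq_sum_emb P F₀ y, map_sum]
  refine Finset.sum_eq_zero fun i _ => ?_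
  rw [map_smul, QuadraticMap.polarBilin_apply_apply, h, smul_zero]

theorem nd₀ : (QuadraticMap.polarBilin Q₀).Nondegenerate := by
  have key : ∀ u, (∀ v, B₀ u v = 0) → u = 0 := fun u hu =>
    emb_injective (P := P) (by
      rw [emb_zero]; exact hd.perp_all fun v => by rw [hd.pol, hu, ZeroMemClass.coe_zero])
  exact ⟨fun u hu => key u hu, fun u hu => key u fun v => by rw [QuadraticMap.polar_comm]; exact hu v⟩

theorem rad_two {a b : W₀} :
    finrank F₀ (LinearMap.ker (QuadraticMap.polarBilin Q₀ a) ⊓ LinearMap.ker (QuadraticMap.polarBilin Q₀ b) ⊓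
      LinearMap.BilinForm.orthogonal (QuadraticMap.polarBilin Q₀)
        (LinearMap.ker (QuadraticMap.polarBilin Q₀ a) ⊓ LinearMap.ker (QuadraticMap.polarBilin Q₀ b)) :
          Submodule F₀ W₀) + 3 ≤
      finrank F₀ (LinearMap.ker (QuadraticMap.polarBilin Q₀ a) ⊓ LinearMap.ker (QuadraticMap.polarBilin Q₀ b) :
          Submodule F₀ W₀) := by
  have h1 := finrank_inf_orth_le hd.nd₀ (LinearMap.ker (QuadraticMap.polarBilin Q₀ a) ⊓
    LinearMap.ker (QuadraticMap.polarBilin Q₀ b))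
  have h2 := finrank_le_inf_ker_add_one (LinearMap.ker (QuadraticMap.polarBilin Q₀ a)) (QuadraticMap.polarBilin Q₀ b)
  have h3 := card_le_finrank_ker_add_one (QuadraticMap.polarBilin Q₀ a)
  have := hd.dim
  omega

theorem tri₀ : Tri Q₀ := by
  refine tri_of_ndQ hd.nd₀ (W := ⊤) (fun w _ hw => ?_) (by rw [finrank_top, finrank_pi]; have := hd.dim; omega)
  by_contra hc
  push Not at hc
  exact hw (hd.nd₀.1 w fun y => hc y Submodule.mem_top)

theorem span_perp (a : W₀) :
    LinearMap.ker (QuadraticMap.polarBilin Q₀ a) ≤ Submodule.span F₀ {x | B₀ a x = 0 ∧ Q₀ x = 0} := by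
  have h := sing_span (hd.rad_two (a := a) (b := a))
  rw [inf_idem] at h
  refine h.trans (Submodule.span_mono fun x hx => ⟨?_, hx.2⟩)
  exact hx.1

theorem span_top (x : W₀) : x ∈ Submodule.span F₀ {x | Q₀ x = 0} := by
  have h := sing_span (Qk := Q₀) (T := ⊤) (by
    have h1 := finrank_inf_orth_le hd.nd₀ (⊤ : Submodule F₀ W₀)
    rw [finrank_top, finrank_pi] at h1 ⊢
    have := hd.dim
    omega)
  exact Submodule.span_mono (fun x hx => hx.2) (h Submodule.mem_top)

theorem partner {r : W₀} (hr0 : r ≠ 0) : ∃ s, B₀ r s = 1 :=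
  OrthAut.exists_polar1 hd.nd₀ hr0 1

/-- Orthogonal to the rational perp of `r` means a multiple of `r`. -/
theorem perp_one {r : W₀} (hr0 : r ≠ 0) {x : V} (h : ∀ b, B₀ r b = 0 → B x (e b) = 0) :
    ∃ c : F, x = c • e r := by
  obtain ⟨s, hs⟩ := hd.partner hr0
  refine ⟨B x (e s), sub_eq_zero.1 (hd.perp_all fun u => ?_)⟩
  have h1 := h (u - B₀ r u • s) (by
    rw [QuadraticMap.polar_sub_right, QuadraticMap.polar_smul_right, hs, smul_eq_mul, mul_one, sub_self])
  rw [emb_sub, emb_smul, QuadraticMap.polar_sub_right, QuadraticMap.polar_smul_right, smul_eq_mul,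
    sub_eq_zero] at h1
  rw [QuadraticMap.polar_sub_left, QuadraticMap.polar_smul_left, hd.pol, h1, smul_eq_mul]
  ring

theorem perp_two {z r : W₀} (hli : ∀ s t : F₀, s • z + t • r = 0 → s = 0 ∧ t = 0) {x : V}
    (h : ∀ b, B₀ z b = 0 → B₀ r b = 0 → B x (e b) = 0) : ∃ c d : F, x = c • e z + d • e r := by
  obtain ⟨s, h1, h2⟩ := exists_polar2 hd.nd₀ hli 1 0
  obtain ⟨t, h3, h4⟩ := exists_polar2 hd.nd₀ hli 0 1
  refine ⟨B x (e s), B x (e t), sub_eq_zero.1 (hd.perp_all fun u => ?_)⟩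
  have h5 := h (u - B₀ z u • s - B₀ r u • t)
    (by simp only [QuadraticMap.polar_sub_right, QuadraticMap.polar_smul_right, h1, h3, smul_eq_mul]; ring)
    (by simp only [QuadraticMap.polar_sub_right, QuadraticMap.polar_smul_right, h2, h4, smul_eq_mul]; ring)
  simp only [emb_sub, emb_smul, QuadraticMap.polar_sub_right, QuadraticMap.polar_smul_right, smul_eq_mul] at h5
  simp only [QuadraticMap.polar_sub_left, QuadraticMap.polar_add_left, QuadraticMap.polar_smul_left, hd.pol,
    smul_eq_mul]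
  linear_combination h5

/-- An isometry mapping the rational singular lines to rational lines is in the subfield subgroup. -/
theorem mem_of_lines {g : GL ι F} (hg : ∀ x, Q ((g : Mn) *ᵥ x) = Q x)
    (h : ∀ x, Q₀ x = 0 → RatLine F₀ P ((g : Mn) *ᵥ e x)) : g ∈ Geo.subfieldSubgroup F₀ P := by
  have hcoef : ∀ x, Q₀ x = 0 → x ≠ 0 → ∃ a : F, a ≠ 0 ∧ ∃ u, (g : Mn) *ᵥ e x = a • e u := fun x hx hx0 => by
    obtain ⟨a, _, hv, hga⟩ := h x hx
    obtain ⟨u, rfl⟩ := exists_emb hv
    refine ⟨a, fun ha => hx0 (emb_injective (P := P) (gl_mulVec_injective g ?_)), u, hga⟩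
    show (g : Mn) *ᵥ e x = (g : Mn) *ᵥ e 0
    rw [hga, ha, zero_smul, emb_zero, Matrix.mulVec_zero]
  choose! a ha u hu using hcoef
  have hab : ∀ x y, Q₀ x = 0 → Q₀ y = 0 → B₀ x y ≠ 0 → a x * a y ∈ F₀ := fun x y hx hy hxy => by
    have hx0 : x ≠ 0 := fun h0 => hxy (by rw [h0, QuadraticMap.polar_zero_left])
    have hy0 : y ≠ 0 := fun h0 => hxy (by rw [h0, QuadraticMap.polar_zero_right])
    have h1 := isometry_polar hg (e x) (e y)
    rw [hu x hx hx0, hu y hy hy0, QuadraticMap.polar_smul_left, QuadraticMap.polar_smul_right, hd.pol, hd.pol,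
      smul_eq_mul, smul_eq_mul, ← mul_assoc] at h1
    have hxy' : (B₀ x y : F) ≠ 0 := fun h0 => hxy (Subtype.ext h0)
    rw [eq_div_of_mul_eq (fun h0 => hxy' (by rw [← h1, h0, mul_zero])) h1]
    exact div_mem (B₀ x y).2 (B₀ (u x) (u y)).2
  have hthird : ∀ x y : W₀, x ≠ 0 → y ≠ 0 → ∃ w, Q₀ w = 0 ∧ B₀ w x ≠ 0 ∧ B₀ w y ≠ 0 := fun x y hx hy => by
    obtain ⟨w, hw, -, h1, h2⟩ := quad_iso_off hd.nd₀ (![] : Fin 0 → W₀) (l₁ := x) (l₂ := y)
      (Or.inl (by have := hd.dim; omega)) (by simpa using hx) (by simpa using hy)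
    exact ⟨w, hw, h1, h2⟩
  have hsq : ∀ x, Q₀ x = 0 → x ≠ 0 → a x * a x ∈ F₀ := fun x hx hx0 => by
    obtain ⟨y, hy, hyx, -⟩ := hthird x x hx0 hx0
    have hy0 : y ≠ 0 := fun h0 => hyx (by rw [h0, QuadraticMap.polar_zero_left])
    obtain ⟨z, hz, hzx, hzy⟩ := hthird x y hx0 hy0
    have hz0 : z ≠ 0 := fun h0 => hzx (by rw [h0, QuadraticMap.polar_zero_left])
    rw [show a x * a x = a y * a x * (a z * a x) / (a z * a y) by
      have := ha y hy hy0; have := ha z hz hz0; field_simp]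
    exact div_mem (mul_mem (hab y x hy hx hyx) (hab z x hz hx hzx)) (hab z y hz hy hzy)
  have hrel : ∀ x y, Q₀ x = 0 → Q₀ y = 0 → x ≠ 0 → y ≠ 0 → a y / a x ∈ F₀ := fun x y hx hy hx0 hy0 => by
    obtain ⟨w, hw, hwx, hwy⟩ := hthird x y hx0 hy0
    have hw0 : w ≠ 0 := fun h0 => hwx (by rw [h0, QuadraticMap.polar_zero_left])
    rw [show a y / a x = a w * a y / (a w * a w) * (a w * a x / (a x * a x)) by
      have := ha x hx hx0; have := ha w hw hw0; field_simp]
    exact mul_mem (div_mem (hab w y hw hy hwy) (hsq w hw hw0)) (div_mem (hab w x hw hx hwx) (hsq x hx hx0))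
  obtain ⟨x₀, y₀, P₀⟩ := exists_basePair hd.nd₀ hd.tri₀
  refine mem_subfieldSubgroup_of (inv_ne_zero (ha x₀ P₀.1 P₀.ne)) fun v hv => ?_
  obtain ⟨x, rfl⟩ := exists_emb hv
  refine Submodule.span_induction (p := fun x _ => Rat F₀ P ((a x₀)⁻¹ • ((g : Mn) *ᵥ e x))) ?_ ?_ ?_ ?_
    (hd.span_top x)
  · intro y hy
    by_cases hy0 : y = 0
    · rw [hy0, emb_zero, Matrix.mulVec_zero, smul_zero]; exact Rat.zero
    rw [hu y hy hy0, smul_smul, inv_mul_eq_div]
    exact (rat_emb _).smul (hrel x₀ y P₀.1 hy P₀.ne hy0)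
  · rw [emb_zero, Matrix.mulVec_zero, smul_zero]; exact Rat.zero
  · intro x y _ _ hx hy; rw [emb_add, Matrix.mulVec_add, smul_add]; exact hx.add hy
  · intro c x _ hx; rw [emb_smul, Matrix.mulVec_smul, smul_comm]; exact hx.smul c.2

/-- Rational isometries from `Ω` lift into `M`. -/
theorem lift {g : isometryGroup F₀ ⇑Q₀} (hg : g ∈ sR Q₀) :
    ∃ T ∈ M, ∀ u, (T : Mn) *ᵥ e u = e (ogVal g *ᵥ u) := by
  refine Subgroup.closure_induction (p := fun g _ => ∃ T ∈ M, ∀ u, (T : Mn) *ᵥ e u = e (ogVal g *ᵥ u)) ?_ ?_ ?_ ?_ hg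
  · rintro x ⟨a, b, h, hx⟩
    obtain ⟨T, hT, hTx⟩ := hd.roots a b h.ok
    refine ⟨T, hT, fun u => ?_⟩
    simp only [hx, hTx, eMat_mulVec, hd.pol, hd.val, emb_add, emb_sub, emb_smul, MulMemClass.coe_mul]
  · exact ⟨1, one_mem M, fun u => by simp⟩
  · rintro a b _ _ ⟨S, hS, hSx⟩ ⟨T, hT, hTx⟩
    exact ⟨S * T, mul_mem hS hT, fun u => by
      rw [Units.val_mul, ← Matrix.mulVec_mulVec, hTx, hSx, ogVal_mul, Matrix.mulVec_mulVec]⟩
  · rintro a _ ⟨T, hT, hTx⟩
    refine ⟨T⁻¹, inv_mem hT, fun u => ?_⟩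
    conv_lhs => rw [← ogVal_cancel_inv a u, ← hTx, inv_mulVec_cancel]

/-- The commutator of two Siegel elements. -/
theorem comm {v b y y' : V} (hv : Q v = 0) (hb : Q b = 0) (hvb : B v b = 0) (hy : B v y = 0) (hyb : B b y = 0)
    (hy' : B v y' = 0) (hy'b : B b y' = 0) (h : InE Q M v y) (h' : InE Q M b y') :
    InE Q M v (B y' y • b) := by
  obtain ⟨k, hk, hkx⟩ := id h'
  have h1 := h.conj hk (hd.iso k hk)
  rw [hkx, eMat_mulVec, eMat_mulVec, QuadraticMap.polar_comm _ b v, hvb, hyb,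
    QuadraticMap.polar_comm _ y' v, hy'] at h1
  simp only [zero_smul, mul_zero, add_zero, sub_zero, zero_add] at h1
  have h2 := InE.sub ⟨hv, hy⟩ ⟨hv, by simp [QuadraticMap.polar_sub_right, hy, QuadraticMap.polar_smul_right, hvb]⟩
    h h1
  rwa [sub_sub_cancel] at h2

/-- A non-rational point with two parameters gives a new parameter at a rational point. -/
theorem newRoot_of_point {v : V} (hv : Q v = 0) (hnl : ¬ RatLine F₀ P v) {r : W₀} (hr0 : r ≠ 0)
    (hr : Q₀ r = 0) (hrv : B (e r) v = 0) {y y' : V} (hy : B v y = 0) (hy' : B v y' = 0)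
    (hry : B (e r) y = 0) (hry' : B (e r) y' = 0) (hI : InE Q M v y) (hI' : InE Q M v y')
    (hyy : B y' y ≠ 0) : NewRoot P Q Q₀ M := by
  have hQr : Q (e r) = 0 := by rw [hd.val, hr, ZeroMemClass.coe_zero]
  obtain ⟨c, hrc, hcv⟩ : ∃ c, B₀ r c = 0 ∧ B v (e c) ≠ 0 := by
    by_contra hc
    push Not at hc
    obtain ⟨k, hk⟩ := hd.perp_one hr0 hc
    exact hnl ⟨k, e r, rat_emb r, hk⟩
  have hrc' : B (e r) (e c) = 0 := by rw [hd.pol, hrc, ZeroMemClass.coe_zero]
  set l := B (e c) v with hl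
  have hl0 : l ≠ 0 := by rw [hl, QuadraticMap.polar_comm]; exact hcv
  obtain ⟨R, hR, hRx⟩ := hd.roots r c ⟨hr, hrc⟩
  have h1 := hI'.conj hR (hd.iso R hR)
  rw [hRx, eMat_mulVec, eMat_mulVec, hrv, hry'] at h1
  simp only [zero_smul, mul_zero, add_zero, sub_zero, ← hl] at h1
  set μ := B (e c) y'
  have h2 := hd.comm hv (b := v - l • e r) (by
      rw [sub_eq_add_neg, ← neg_smul, quad_add_smul, hv, hQr, QuadraticMap.polar_comm _ v, hrv]; ring)
    (by rw [QuadraticMap.polar_sub_right, QuadraticMap.polar_smul_right, QuadraticMap.polar_comm _ v (e r), hrv,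
      polar_self' hv]; simp)
    hy
    (by rw [QuadraticMap.polar_sub_left, QuadraticMap.polar_smul_left, hy, hry]; simp)
    (by rw [QuadraticMap.polar_sub_right, QuadraticMap.polar_smul_right, hy', QuadraticMap.polar_comm _ v, hrv]; simp)
    (by simp [QuadraticMap.polar_sub_left, QuadraticMap.polar_sub_right, QuadraticMap.polar_smul_left,
      QuadraticMap.polar_smul_right, hy', hry', QuadraticMap.polar_comm _ v (e r), hrv, polar_self' hQr])
    hI h1
  rw [QuadraticMap.polar_sub_left, QuadraticMap.polar_smul_left, hry, smul_zero, sub_zero,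
    show B y' y • (v - l • e r) = -((B y' y * l) • e r) + B y' y • v by module,
    InE.add_self ⟨hv, by simp [QuadraticMap.polar_smul_right, QuadraticMap.polar_comm _ v (e r), hrv]⟩] at h2
  have h3 := InE.swap hv (by rw [QuadraticMap.map_smul, hQr, smul_zero]) h2
  rw [InE.smul_left] at h3
  by_cases hnew : ∀ u, ∀ d : F, (B y' y * l) • v ≠ e u + d • e r
  · exact ⟨r, _, hr0, hr, by rw [QuadraticMap.polar_smul_right, hrv, smul_zero], h3, hnew⟩
  push Not at hnew
  obtain ⟨z, d, hz⟩ := hnew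
  set k := B y' y * l with hk
  have hk0 : k ≠ 0 := mul_ne_zero hyy hl0
  have hve : v = k⁻¹ • (e z + d • e r) := by rw [← hz, smul_smul, inv_mul_cancel₀ hk0, one_smul]
  have hzr : B₀ r z = 0 := by
    have h4 : B (e r) (k • v) = 0 := by rw [QuadraticMap.polar_smul_right, hrv, smul_zero]
    rw [hz, QuadraticMap.polar_add_right, QuadraticMap.polar_smul_right, polar_self' hQr, smul_zero,
      add_zero, hd.pol] at h4
    exact Subtype.ext h4
  have hQz : Q₀ z = 0 := by
    have h4 : Q (k • v) = 0 := by rw [QuadraticMap.map_smul, hv, smul_zero]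
    rw [hz, quad_add_smul, hQr, QuadraticMap.polar_comm _ (e z), hd.pol, hzr, hd.val] at h4
    simp at h4
    exact h4
  have hli : ∀ s t : F₀, s • z + t • r = 0 → s = 0 ∧ t = 0 := fun s t hst => by
    by_cases hs : s = 0
    · rw [hs, zero_smul, zero_add, smul_eq_zero] at hst
      exact ⟨hs, hst.resolve_right hr0⟩
    · exfalso
      have hzr' : z = (-(s⁻¹ * t)) • r := by
        have h5 := congrArg (s⁻¹ • ·) hst
        simp only [smul_add, smul_smul, inv_mul_cancel₀ hs, one_smul, smul_zero] at h5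
        linear_combination (norm := module) h5
      exact hnl ⟨k⁻¹ * (((-(s⁻¹ * t) : F₀) : F) + d), e r, rat_emb r, by
        rw [hve, hzr', emb_smul]; module⟩
  have hd0 : d ∉ F₀ := fun hd' => hnl ⟨k⁻¹, e z + d • e r, (rat_emb z).add ((rat_emb r).smul hd'), hve⟩
  have hQz' : Q (e z) = 0 := by rw [hd.val, hQz, ZeroMemClass.coe_zero]
  have hzr' : B (e r) (e z) = 0 := by rw [hd.pol, hzr, ZeroMemClass.coe_zero]
  have hzy : ∀ x : V, B v x = 0 → B (e r) x = 0 → B (e z) x = 0 := fun x hvx hrx => by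
    rw [hve, QuadraticMap.polar_smul_left, QuadraticMap.polar_add_left, QuadraticMap.polar_smul_left, hrx,
      smul_zero, add_zero, smul_eq_mul] at hvx
    exact (mul_eq_zero.1 hvx).resolve_left (inv_ne_zero hk0)
  obtain ⟨w, hzw, hrw, hyw⟩ : ∃ w, B₀ z w = 0 ∧ B₀ r w = 0 ∧ B y (e w) ≠ 0 := by
    by_contra hc
    push Not at hc
    obtain ⟨s, t, hst⟩ := hd.perp_two hli fun b hb hb' => hc b hb hb'
    exact hyy (by simp [hst, QuadraticMap.polar_add_right, QuadraticMap.polar_smul_right,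
      QuadraticMap.polar_comm _ y', hzy y' hy' hry', hry'])
  have hzw' : B (e z) (e w) = 0 := by rw [hd.pol, hzw, ZeroMemClass.coe_zero]
  have hrw' : B (e r) (e w) = 0 := by rw [hd.pol, hrw, ZeroMemClass.coe_zero]
  have hvw : B v (e w) = 0 := by
    simp [hve, QuadraticMap.polar_smul_left, QuadraticMap.polar_add_left, hzw', hrw']
  have hrel : ∀ q : F, q ∉ F₀ → ∀ u, ∀ c : F, q • e z ≠ e u + c • e r := fun q hq u c h => by
    obtain ⟨s, h1, h2⟩ := exists_polar2 hd.nd₀ hli 1 0
    have h4 := congrArg (fun x => B x (e s)) h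
    simp only [QuadraticMap.polar_smul_left, QuadraticMap.polar_add_left, hd.pol, h1, h2, smul_eq_mul,
      ZeroMemClass.coe_zero, OneMemClass.coe_one, mul_one, mul_zero, add_zero] at h4
    exact hq (h4 ▸ (B₀ u s).2)
  set κ := B y (e w) with hκ
  by_cases hA : κ * k⁻¹ ∈ F₀
  · refine ⟨r, (d * (κ * k⁻¹)) • e z, hr0, hr, by rw [QuadraticMap.polar_smul_right, hzr', smul_zero], ?_,
      hrel _ fun hmem => hd0 ?_⟩
    · have h4 := hd.comm hv hQz' (by
          rw [hve, QuadraticMap.polar_smul_left, QuadraticMap.polar_add_left, QuadraticMap.polar_smul_left, hzr',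
            polar_self' hQz']; simp)
        hy (hzy y hy hry) hvw hzw' hI (hd.roots z w ⟨hQz, hzw⟩)
      rw [QuadraticMap.polar_comm _ (e w) y, ← hκ, hve, InE.smul_left, smul_smul, mul_comm k⁻¹,
        ← neg_neg ((κ * k⁻¹) • e z)] at h4
      have h5 := InE.swap (by rw [quad_add_smul, hQz', hQr, QuadraticMap.polar_comm _ (e z), hzr']; ring)
        (by rw [QuadraticMap.map_neg, QuadraticMap.map_smul, hQz', smul_zero]) h4
      rw [← neg_smul, InE.smul_left, smul_add, smul_smul, add_comm, InE.add_self ⟨hQz', by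
        rw [QuadraticMap.polar_smul_right, QuadraticMap.polar_comm, hzr', smul_zero]⟩] at h5
      rw [show (-(κ * k⁻¹) * d) • e r = -((d * (κ * k⁻¹)) • e r) by module] at h5
      have h6 := InE.swap hQz' (by rw [QuadraticMap.map_smul, hQr, smul_zero]) h5
      rwa [InE.smul_left] at h6
    · have hne : κ * k⁻¹ ≠ 0 := mul_ne_zero hyw (inv_ne_zero hk0)
      have := div_mem hmem hA
      rwa [mul_div_cancel_right₀ _ hne] at this
  · refine ⟨r, (κ * k⁻¹) • e z, hr0, hr, by rw [QuadraticMap.polar_smul_right, hzr', smul_zero], ?_, hrel _ hA⟩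
    have h4 := hd.comm hQr hv hrv hrw' hvw hry hy (hd.roots r w ⟨hr, hrw⟩) hI
    rw [← hκ, hve, smul_smul, smul_add, smul_smul,
      InE.add_self ⟨hQr, by rw [QuadraticMap.polar_smul_right, hzr', smul_zero]⟩] at h4
    exact h4

/-- All rational Siegel elements in the multiples `s`. -/
def Sc (_ : OFData P Q Q₀ M) (s : F) : Prop :=
  ∀ a b, TS Q₀ a b → InE Q M (emb F₀ P a) (s • emb F₀ P b)

theorem ts_ok {a b : W₀} (h : TS Q₀ a b) (s : F) : OK Q (e a) (s • e b) :=
  ⟨by rw [hd.val, h.1, ZeroMemClass.coe_zero],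
    by rw [QuadraticMap.polar_smul_right, hd.pol, h.2.2.1, ZeroMemClass.coe_zero, smul_zero]⟩

/-- A new parameter gives every parameter. -/
theorem sc_all {n : ℕ} (hn : n.Prime) (hcard : Fintype.card F = Nat.card F₀ ^ n) (h : NewRoot P Q Q₀ M) :
    ∀ s, hd.Sc s := by
  obtain ⟨r, p, hr0, hr, hrp, hI, hnew⟩ := h
  have hQr : Q (e r) = 0 := by rw [hd.val, hr, ZeroMemClass.coe_zero]
  obtain ⟨b, hrb, hb, hbp⟩ : ∃ b, B₀ r b = 0 ∧ Q₀ b = 0 ∧ B (e b) p ∉ F₀ := by
    by_contra hc
    push Not at hc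
    have hperp : ∀ x, B₀ r x = 0 → B (e x) p ∈ F₀ := fun x hx => by
      refine Submodule.span_induction (p := fun x _ => B (e x) p ∈ F₀) (fun y hy => hc y hy.1 hy.2) ?_ ?_ ?_
        (hd.span_perp r (show x ∈ LinearMap.ker (QuadraticMap.polarBilin Q₀ r) from hx))
      · rw [emb_zero, QuadraticMap.polar_zero_left]; exact zero_mem _
      · intro x y _ _ hx hy; rw [emb_add, QuadraticMap.polar_add_left]; exact add_mem hx hy
      · intro c x _ hx; rw [emb_smul, QuadraticMap.polar_smul_left]; exact mul_mem c.2 hx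
    obtain ⟨s, hs⟩ := hd.partner hr0
    have hpr : ∀ x, B₀ r (x - B₀ r x • s) = 0 := fun x => by
      rw [QuadraticMap.polar_sub_right, QuadraticMap.polar_smul_right, hs, smul_eq_mul, mul_one, sub_self]
    let f : W₀ →ₗ[F₀] F₀ :=
      { toFun := fun x => ⟨B (e (x - B₀ r x • s)) p, hperp _ (hpr x)⟩
        map_add' := fun x y => Subtype.ext (by
          simp only [QuadraticMap.polar_add_right, emb_sub, emb_add, emb_smul, QuadraticMap.polar_sub_left,
            QuadraticMap.polar_add_left, QuadraticMap.polar_smul_left, AddMemClass.coe_add, smul_eq_mul]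
          ring)
        map_smul' := fun c x => Subtype.ext (by
          simp only [QuadraticMap.polar_smul_right, emb_sub, emb_smul, QuadraticMap.polar_sub_left,
            QuadraticMap.polar_smul_left, MulMemClass.coe_mul, smul_eq_mul, RingHom.id_apply]
          ring) }
    set u := (LinearMap.BilinForm.toDual (QuadraticMap.polarBilin Q₀) hd.nd₀).symm f with hu
    have hu' : ∀ x, B₀ u x = f x := fun x => LinearMap.BilinForm.apply_toDual_symm_apply (hB := hd.nd₀) f x
    obtain ⟨c, hc'⟩ := hd.perp_one hr0 (x := p - e u) fun x hx => by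
      rw [QuadraticMap.polar_sub_left, hd.pol, hu', QuadraticMap.polar_comm]
      show B (e x) p - B (e (x - B₀ r x • s)) p = 0
      rw [hx, zero_smul, sub_zero, sub_self]
    exact hnew u c (by rw [← hc']; abel)
  have hbr : ∀ c : F₀, b ≠ c • r := fun c hc => hbp (by
    rw [hc, emb_smul, QuadraticMap.polar_smul_left, hrp, smul_zero]; exact zero_mem _)
  have hts : TS Q₀ r b := ⟨hr, hb, hrb, fun s t hst => by
    by_cases ht : t = 0
    · rw [ht, zero_smul, add_zero, smul_eq_zero] at hst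
      exact ⟨hst.resolve_right hr0, ht⟩
    · exfalso
      refine hbr (-(t⁻¹ * s)) ?_
      have h5 := congrArg (t⁻¹ • ·) hst
      simp only [smul_add, smul_smul, inv_mul_cancel₀ ht, one_smul, smul_zero] at h5
      linear_combination (norm := module) h5⟩
  obtain ⟨c, c', hrc, hbc, hrc', hbc', hcc⟩ :
      ∃ c c', B₀ r c = 0 ∧ B₀ b c = 0 ∧ B₀ r c' = 0 ∧ B₀ b c' = 0 ∧ B₀ c' c = 1 := by
    obtain ⟨a, ⟨ha, ha'⟩, -, -, -, z, ⟨hz, hz'⟩, haz⟩ := exists_hyp_in (hd.rad_two (a := r) (b := b))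
    refine ⟨z, (B₀ a z)⁻¹ • a, hz, hz', ?_, ?_, ?_⟩
    · rw [QuadraticMap.polar_smul_right, show B₀ r a = 0 from ha, smul_zero]
    · rw [QuadraticMap.polar_smul_right, show B₀ b a = 0 from ha', smul_zero]
    · rw [QuadraticMap.polar_smul_left, smul_eq_mul, inv_mul_cancel₀ haz]
  have hzero : ∀ {x y : W₀}, B₀ x y = 0 → B (e x) (e y) = 0 := fun h0 => by
    rw [hd.pol, h0, ZeroMemClass.coe_zero]
  have hQb : Q (e b) = 0 := by rw [hd.val, hb, ZeroMemClass.coe_zero]
  have step : ∀ {x : V} (z : W₀), B₀ r z = 0 → B₀ b z = 0 → B (e r) x = 0 → InE Q M (e r) x →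
      InE Q M (e r) (B (e b) x • e z - B (e z) x • e b - (Q (e z) * B (e b) x) • e b) ∧
      B (e r) (B (e b) x • e z - B (e z) x • e b - (Q (e z) * B (e b) x) • e b) = 0 := by
    intro x z hrz hbz hrx hx
    obtain ⟨R, hR, hRx⟩ := hd.roots b z ⟨hb, hbz⟩
    have h1 := hx.conj hR (hd.iso R hR)
    rw [hRx, eMat_mulVec, eMat_mulVec] at h1
    simp only [QuadraticMap.polar_comm _ (e b) (e r), QuadraticMap.polar_comm _ (e z) (e r), hzero hrb, hzero hrz,
      zero_smul, mul_zero, add_zero, sub_zero] at h1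
    have hp : B (e r) (B (e b) x • e z - B (e z) x • e b - (Q (e z) * B (e b) x) • e b) = 0 := by
      simp [QuadraticMap.polar_sub_right, QuadraticMap.polar_smul_right, hzero hrb, hzero hrz]
    have h2 := InE.sub ⟨hQr, by
      simp [QuadraticMap.polar_sub_right, QuadraticMap.polar_add_right, QuadraticMap.polar_smul_right, hzero hrb,
        hzero hrz, hrx]⟩ ⟨hQr, hrx⟩ h1 hx
    refine ⟨?_, hp⟩
    convert h2 using 1
    abel
  obtain ⟨h1, h1'⟩ := step c hrc hbc hrp hI
  obtain ⟨h2, h2'⟩ := step c' hrc' hbc' h1' h1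
  set β := B (e b) p
  have e1 : B (e b) (β • e c - B (e c) p • e b - (Q (e c) * β) • e b) = 0 := by
    simp [QuadraticMap.polar_sub_right, QuadraticMap.polar_smul_right, hzero hbc, polar_self' hQb]
  have e2 : B (e c') (β • e c - B (e c) p • e b - (Q (e c) * β) • e b) = β := by
    simp [QuadraticMap.polar_sub_right, QuadraticMap.polar_smul_right, QuadraticMap.polar_comm _ (e c') (e b),
      hzero hbc', hd.pol c' c, hcc]
  rw [e1, e2] at h2
  simp only [zero_smul, mul_zero, sub_zero, zero_sub] at h2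
  have hβ : InE Q M (e r) (β • e b) := by
    have h3 := InE.neg (hd.ts_ok hts (-β) |> fun h => by simpa using h) h2
    rwa [neg_neg] at h3
  have hScβ : hd.Sc β := fun a' b' h' => by
    obtain ⟨g, hg, hga, k, hgb⟩ := exists_move_TS hd.nd₀ hd.tri₀ hts h'
    obtain ⟨T, hT, hTx⟩ := hd.lift hg
    have h3 := hβ.conj hT (hd.iso T hT)
    rw [Matrix.mulVec_smul, hTx, hTx, hga, hgb, emb_add, emb_smul, smul_add, smul_smul,
      InE.add_self (hd.ts_ok h' β)] at h3
    exact h3
  have hadd : ∀ s t, hd.Sc s → hd.Sc t → hd.Sc (s + t) := fun s t hs ht a b h => by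
    rw [add_smul]; exact InE.add (hd.ts_ok h s) (hd.ts_ok h t) (hs a b h) (ht a b h)
  have hF : ∀ s ∈ F₀, hd.Sc s := fun s hs a b h => by
    have h3 := hd.roots a ((⟨s, hs⟩ : F₀) • b) (h.ok.smul _)
    rwa [emb_smul] at h3
  have hmul : ∀ s t, hd.Sc s → hd.Sc t → hd.Sc (s * t) := by
    intro s t hs ht a f h
    obtain ⟨b', ⟨hab, hfb⟩, -, -, hQb', z, ⟨haz, hfz⟩, hbz⟩ := exists_hyp_in (hd.rad_two (a := a) (b := f))
    replace hab : B₀ a b' = 0 := hab
    replace hfb : B₀ f b' = 0 := hfb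
    replace haz : B₀ a z = 0 := haz
    replace hfz : B₀ f z = 0 := hfz
    set d := (B₀ b' z)⁻¹ • (z + (-(Q₀ z) / B₀ b' z) • b') with hdd
    have hQd : Q₀ d = 0 := by
      rw [hdd, QuadraticMap.map_smul, quad_add_smul, hQb', QuadraticMap.polar_comm _ z b', mul_zero, add_zero,
        div_mul_cancel₀ _ hbz, add_neg_cancel, smul_zero]
    have hbd : B₀ b' d = 1 := by
      rw [hdd, QuadraticMap.polar_smul_right, QuadraticMap.polar_add_right, QuadraticMap.polar_smul_right,
        polar_self' hQb', smul_zero, add_zero, smul_eq_mul, inv_mul_cancel₀ hbz]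
    have had : B₀ a d = 0 := by
      simp [hdd, QuadraticMap.polar_smul_right, QuadraticMap.polar_add_right, hab, haz]
    have hfd : B₀ f d = 0 := by
      simp [hdd, QuadraticMap.polar_smul_right, QuadraticMap.polar_add_right, hfb, hfz]
    have hts1 : TS Q₀ a b' := ⟨h.1, hQb', hab, fun u w huw => by
      have h4 := congrArg (fun x => B₀ x d) huw
      simp [QuadraticMap.polar_add_left, QuadraticMap.polar_smul_left, had, hbd] at h4
      rw [h4, zero_smul, add_zero, smul_eq_zero] at huw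
      exact ⟨huw.resolve_right h.left_ne, h4⟩⟩
    have hts2 : TS Q₀ d f := ⟨hQd, h.2.1, by rw [QuadraticMap.polar_comm, hfd], fun u w huw => by
      have h4 := congrArg (fun x => B₀ b' x) huw
      simp [QuadraticMap.polar_add_right, QuadraticMap.polar_smul_right, hbd,
        QuadraticMap.polar_comm _ b' f, hfb] at h4
      rw [h4, zero_smul, zero_add, smul_eq_zero] at huw
      exact ⟨h4, huw.resolve_right h.right_ne⟩⟩
    obtain ⟨R, hR, hRx⟩ := ht d f hts2
    have h3 := (hs a b' hts1).conj hR (hd.iso R hR)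
    have hz1 : B (e d) (e a) = 0 := hzero (by rw [QuadraticMap.polar_comm, had])
    have hz2 : B (t • e f) (e a) = 0 := by
      rw [QuadraticMap.polar_smul_left, hzero (by rw [QuadraticMap.polar_comm, h.2.2.1]), smul_zero]
    have hz3 : B (e d) (s • e b') = s := by
      rw [QuadraticMap.polar_smul_right, hd.pol, QuadraticMap.polar_comm _ d b', hbd, OneMemClass.coe_one,
        smul_eq_mul, mul_one]
    have hz4 : B (t • e f) (s • e b') = 0 := by
      rw [QuadraticMap.polar_smul_left, QuadraticMap.polar_smul_right, hzero hfb, smul_zero, smul_zero]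
    have hz5 : Q (t • e f) = 0 := by rw [QuadraticMap.map_smul, hd.val, h.2.1, ZeroMemClass.coe_zero, smul_zero]
    rw [hRx, eMat_mulVec, eMat_mulVec, hz1, hz2, hz3, hz4, hz5] at h3
    simp only [zero_smul, zero_mul, add_zero, sub_zero, smul_smul] at h3
    have h4 := InE.sub ⟨(hd.ts_ok h 1).1, by
      rw [QuadraticMap.polar_add_right, (hd.ts_ok hts1 s).2, (hd.ts_ok h (s * t)).2, add_zero]⟩
      (hd.ts_ok hts1 s) h3 (hs a b' hts1)
    rwa [add_sub_cancel_left] at h4
  have hrank : finrank F₀ F = n := by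
    refine Nat.pow_right_injective (Finite.one_lt_card (α := F₀)) ?_
    show Nat.card F₀ ^ finrank F₀ F = Nat.card F₀ ^ n
    rw [← Module.natCard_eq_pow_finrank, ← hcard, Nat.card_eq_fintype_card]
  have hne : IntermediateField.adjoin F₀ ({β} : Set F) ≠ ⊥ := fun h0 => by
    have h1 : β ∈ IntermediateField.adjoin F₀ ({β} : Set F) := IntermediateField.subset_adjoin F₀ _ rfl
    rw [h0, IntermediateField.mem_bot] at h1
    obtain ⟨x, hx⟩ := h1
    exact hbp (hx ▸ x.2)
  have : IsSimpleOrder (IntermediateField F₀ F) :=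
    IntermediateField.isSimpleOrder_of_finrank_prime (F := F₀) (E := F) (hrank ▸ hn)
  have htop := (IsSimpleOrder.eq_bot_or_eq_top _).resolve_left hne
  have halg : IsAlgebraic F₀ β := Algebra.IsAlgebraic.isAlgebraic β
  have hsub := IntermediateField.adjoin_simple_toSubalgebra_of_isAlgebraic halg
  rw [htop, IntermediateField.top_toSubalgebra] at hsub
  intro s
  have hmem : s ∈ Algebra.adjoin F₀ ({β} : Set F) := by rw [← hsub]; exact Algebra.mem_top
  induction hmem using Algebra.adjoin_induction with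
  | mem x hx => rw [Set.mem_singleton_iff.1 hx]; exact hScβ
  | algebraMap x => exact hF _ x.2
  | add x y _ _ hx hy => exact hadd _ _ hx hy
  | mul x y _ _ hx hy => exact hmul _ _ hx hy

/-- With every parameter, every singular point is full. -/
theorem full_all (hS : ∀ s, hd.Sc s) : ∀ v, Q v = 0 → Full Q M v := by
  have hrat : ∀ a, Q₀ a = 0 → a ≠ 0 → Full Q M (e a) := fun a ha ha0 y hy => by
    have hQa : Q (e a) = 0 := by rw [hd.val, ha, ZeroMemClass.coe_zero]
    have hok : ∀ x, B₀ a x = 0 → ∀ s : F, OK Q (e a) (s • e x) := fun x hx s =>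
      ⟨hQa, by rw [QuadraticMap.polar_smul_right, hd.pol, hx, ZeroMemClass.coe_zero, smul_zero]⟩
    have hx : ∀ x, B₀ a x = 0 → ∀ s, InE Q M (e a) (s • e x) := fun x hx => by
      refine (Submodule.span_induction (p := fun x _ => B₀ a x = 0 ∧ ∀ s : F, InE Q M (e a) (s • e x)) ?_ ?_ ?_ ?_
        (hd.span_perp a (show x ∈ LinearMap.ker (QuadraticMap.polarBilin Q₀ a) from hx))).2
      · intro y hy
        refine ⟨hy.1, fun s => ?_⟩
        by_cases hdep : ∃ c : F₀, y = c • a
        · obtain ⟨c, rfl⟩ := hdep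
          rw [emb_smul, smul_smul, ← zero_add ((s * (c : F)) • e a), InE.add_self (OK.zero hQa)]
          exact InE.zero _
        · refine hS s a y ⟨ha, hy.2, hy.1, fun u w huw => ?_⟩
          by_cases hw : w = 0
          · rw [hw, zero_smul, add_zero, smul_eq_zero] at huw
            exact ⟨huw.resolve_right ha0, hw⟩
          · exfalso
            refine hdep ⟨-(w⁻¹ * u), ?_⟩
            have h5 := congrArg (w⁻¹ • ·) huw
            simp only [smul_add, smul_smul, inv_mul_cancel₀ hw, one_smul, smul_zero] at h5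
            linear_combination (norm := module) h5
      · refine ⟨QuadraticMap.polar_zero_right Q₀ a, fun s => ?_⟩
        rw [emb_zero, smul_zero]; exact InE.zero _
      · rintro x y - - ⟨hx, hx'⟩ ⟨hy, hy'⟩
        refine ⟨by rw [QuadraticMap.polar_add_right, hx, hy, add_zero], fun s => ?_⟩
        rw [emb_add, smul_add]
        exact InE.add (hok x hx s) (hok y hy s) (hx' s) (hy' s)
      · rintro c x - ⟨hx, hx'⟩
        refine ⟨by rw [QuadraticMap.polar_smul_right, hx, smul_zero], fun s => ?_⟩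
        rw [emb_smul, smul_smul]; exact hx' _
    obtain ⟨s, hs⟩ := hd.partner ha0
    have hdec : ∀ i, B₀ a (Pi.single i 1 - B₀ a (Pi.single i 1) • s) = 0 := fun i => by
      rw [QuadraticMap.polar_sub_right, QuadraticMap.polar_smul_right, hs, smul_eq_mul, mul_one, sub_self]
    set c := fun i => (((P⁻¹ : GL ι F) : Mn) *ᵥ y) i
    have hy' : y = ∑ i, c i • e (Pi.single i 1 - B₀ a (Pi.single i 1) • s) := by
      have h0 : ∑ i, c i * (B₀ a (Pi.single i 1) : F) = 0 := by
        rw [← hy, eq_sum_emb P F₀ y]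
        show _ = QuadraticMap.polarBilin Q (e a) _
        rw [map_sum]
        refine Finset.sum_congr rfl fun i _ => ?_
        rw [map_smul, smul_eq_mul, QuadraticMap.polarBilin_apply_apply, hd.pol]
      simp only [emb_sub, emb_smul, smul_sub, smul_smul, Finset.sum_sub_distrib, ← Finset.sum_smul, h0,
        zero_smul, sub_zero]
      exact eq_sum_emb P F₀ y
    have hI : B (e a) y = 0 ∧ InE Q M (e a) y := by
      rw [hy']
      refine Finset.sum_induction _ (fun y => B (e a) y = 0 ∧ InE Q M (e a) y)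
        (fun x y hx hy => ⟨by rw [QuadraticMap.polar_add_right, hx.1, hy.1, add_zero],
          InE.add ⟨hQa, hx.1⟩ ⟨hQa, hy.1⟩ hx.2 hy.2⟩)
        ⟨QuadraticMap.polar_zero_right Q (e a), InE.zero _⟩ fun i _ => ⟨(hok _ (hdec i) _).2, hx _ (hdec i) _⟩
    exact hI.2
  intro v hv
  rcases eq_or_ne v 0 with rfl | hv0
  · exact full_zero
  obtain ⟨r, hr, hrv⟩ : ∃ r, Q₀ r = 0 ∧ B v (e r) ≠ 0 := by
    by_contra hc
    push Not at hc
    refine hv0 (hd.perp_all fun u => ?_)
    refine Submodule.span_induction (p := fun x _ => B v (e x) = 0) (fun x hx => hc x hx) ?_ ?_ ?_ (hd.span_top u)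
    · rw [emb_zero, QuadraticMap.polar_zero_right]
    · intro x y _ _ hx hy; rw [emb_add, QuadraticMap.polar_add_right, hx, hy, add_zero]
    · intro c x _ hx; rw [emb_smul, QuadraticMap.polar_smul_right, hx, smul_zero]
  have hr0 : r ≠ 0 := fun h0 => hrv (by rw [h0, emb_zero, QuadraticMap.polar_zero_right])
  obtain ⟨s, hs, hrs⟩ := OrthAut.exists_pair hd.nd₀ hr0 hr
  have hs0 : s ≠ 0 := fun h0 => by simp [h0] at hrs
  have hQr : Q (e r) = 0 := by rw [hd.val, hr, ZeroMemClass.coe_zero]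
  have hrs' : B (e r) (e s) = 1 := by rw [hd.pol, hrs, OneMemClass.coe_one]
  set k := (B v (e r))⁻¹ with hk
  have hrk : B (e r) (k • v) = 1 := by
    rw [QuadraticMap.polar_smul_right, QuadraticMap.polar_comm, smul_eq_mul, hk, inv_mul_cancel₀ hrv]
  have hry : B (e r) (k • v - e s) = 0 := by rw [QuadraticMap.polar_sub_right, hrk, hrs', sub_self]
  obtain ⟨T, hT, hTx⟩ := hrat r hr hr0 _ hry
  have hTs : (T : Mn) *ᵥ e s = k • v := by
    rw [hTx, eMat_mulVec, hrs', sub_eq_add_neg (k • v) (e s), ← neg_one_smul F (e s), quad_add_smul,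
      QuadraticMap.polar_add_left, QuadraticMap.polar_smul_left, QuadraticMap.polar_smul_left,
      polar_self' (by rw [hd.val, hs, ZeroMemClass.coe_zero] : Q (e s) = 0), QuadraticMap.map_smul, hv,
      (by rw [hd.val, hs, ZeroMemClass.coe_zero] : Q (e s) = 0)]
    simp only [smul_eq_mul, one_smul, mul_zero, add_zero, neg_smul, one_mul]
    module
  have h1 := full_map hd.iso (hrat s hs hs0) hT
  rw [hTs] at h1
  intro b hb
  obtain ⟨t, ht, htx⟩ := h1 (k⁻¹ • b) (by
    rw [QuadraticMap.polar_smul_left, QuadraticMap.polar_smul_right, hb, smul_zero, smul_zero])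
  refine ⟨t, ht, ?_⟩
  rw [htx, eMat_smul_left, smul_smul, mul_inv_cancel₀ (inv_ne_zero hrv), one_smul]

end OFData

end Cfsg.Agent.Classical.MaxTv
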