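import Cfsg.Agent.Lib.Classical.MaxLinWreath
import Mathlib.LinearAlgebra.Transvection.Basic

/-!
Groups containing the group of `E`-linear maps of determinant one, for an extension field `E` of prime degree:
an element not preserving `E`-lines leads to a transvection, and a transvection to the whole special linear group.
-/

set_option autoImplicit false
set_option linter.unusedSectionVars false

namespace Cfsg.Agent.Classical.Overfield

open Matrix Module MaxTv

variable {F : Type*} [Field F] {ι : Type} [Fintype ι] [DecidableEq ι]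
variable {E : Type*} [Field E] [Algebra F E] [Module E (ι → F)] [IsScalarTower F E (ι → F)]

local notation "V" => (ι → F)
local notation "Mn" => Matrix ι ι F

/-- The linear map `1 + L` lies in the group. -/
def In (M : Subgroup (GL ι F)) (L : (ι → F) →ₗ[F] (ι → F)) : Prop :=
  ∃ g ∈ M, ∀ x, (g : Mn) *ᵥ x = x + L x

variable {M : Subgroup (GL ι F)} {L L' : (ι → F) →ₗ[F] (ι → F)}

theorem In.zero : In M 0 := ⟨1, one_mem M, fun x => by simp⟩

theorem In.add (h : In M L) (h' : In M L') (h0 : ∀ x, L (L' x) = 0) : In M (L + L') := by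
  obtain ⟨g, hg, hgx⟩ := h
  obtain ⟨k, hk, hkx⟩ := h'
  refine ⟨g * k, mul_mem hg hk, fun x => ?_⟩
  rw [Units.val_mul, ← Matrix.mulVec_mulVec, hkx, hgx, map_add, h0, LinearMap.add_apply]
  abel

theorem In.neg (h : In M L) (h0 : ∀ x, L (L x) = 0) : In M (-L) := by
  obtain ⟨g, hg, hgx⟩ := h
  refine ⟨g⁻¹, inv_mem hg, fun x => gl_mulVec_injective g ?_⟩
  show (g : Mn) *ᵥ _ = (g : Mn) *ᵥ _
  rw [mulVec_inv_cancel, hgx, map_add, LinearMap.neg_apply, map_neg, h0]
  abel

theorem In.sub (h : In M L) (h' : In M L') (h0 : ∀ x, L (L' x) = 0) (h1 : ∀ x, L' (L' x) = 0) :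
    In M (L - L') := by
  rw [sub_eq_add_neg]
  exact h.add (h'.neg h1) fun x => by rw [LinearMap.neg_apply, map_neg, h0, neg_zero]

/-- Conjugation of endomorphisms. -/
def conjL (g : GL ι F) (L : (ι → F) →ₗ[F] (ι → F)) : (ι → F) →ₗ[F] (ι → F) :=
  (Matrix.toLin' (g : Mn)).comp (L.comp (Matrix.toLin' ((g⁻¹ : GL ι F) : Mn)))

theorem conjL_apply (g : GL ι F) (L : (ι → F) →ₗ[F] (ι → F)) (x : V) :
    conjL g L x = (g : Mn) *ᵥ L (((g⁻¹ : GL ι F) : Mn) *ᵥ x) := by
  simp [conjL]

theorem In.conj (h : In M L) {g : GL ι F} (hg : g ∈ M) : In M (conjL g L) := by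
  obtain ⟨k, hk, hkx⟩ := h
  refine ⟨g * k * g⁻¹, mul_mem (mul_mem hg hk) (inv_mem hg), fun x => ?_⟩
  rw [Units.val_mul, Units.val_mul, ← Matrix.mulVec_mulVec, ← Matrix.mulVec_mulVec, hkx, Matrix.mulVec_add,
    mulVec_inv_cancel, conjL_apply]

/-- Conjugation by `1 + Y`. -/
theorem In.sandwich {X Y : (ι → F) →ₗ[F] (ι → F)} (hX : In M X) (hY : In M Y) (hY2 : ∀ x, Y (Y x) = 0) :
    In M ((LinearMap.id + Y).comp (X.comp (LinearMap.id - Y))) := by
  obtain ⟨k, hk, hkx⟩ := hY
  obtain ⟨g, hg, hgx⟩ := hX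
  refine ⟨k * g * k⁻¹, mul_mem (mul_mem hk hg) (inv_mem hk), fun x => ?_⟩
  have hinv : ((k⁻¹ : GL ι F) : Mn) *ᵥ x = x - Y x := gl_mulVec_injective k (by
    show (k : Mn) *ᵥ _ = (k : Mn) *ᵥ _
    rw [mulVec_inv_cancel, hkx, map_sub, hY2]; abel)
  rw [Units.val_mul, Units.val_mul, ← Matrix.mulVec_mulVec, ← Matrix.mulVec_mulVec, hinv, hgx, hkx]
  simp only [LinearMap.comp_apply, LinearMap.add_apply, LinearMap.sub_apply, LinearMap.id_apply, map_add, map_sub,
    hY2]
  abel

theorem InT.toIn {v φ : V} (h : InT M v φ) (L : (ι → F) →ₗ[F] (ι → F)) (hL : ∀ x, L x = (φ ⬝ᵥ x) • v) :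
    In M L :=
  h.imp fun _ hg => ⟨hg.1, fun x => by rw [hg.2, hL]⟩

/-- A map of rank one gives a transvection. -/
theorem In.toInT {w : V} (h : In M L) (hw : w ≠ 0) (him : ∀ x, ∃ a : F, L x = a • w) (h2 : ∀ x, L (L x) = 0)
    {z : V} (hz : L z ≠ 0) : ∃ φ : V, φ ≠ 0 ∧ φ ⬝ᵥ w = 0 ∧ InT M w φ := by
  choose a ha using him
  let aL : (ι → F) →ₗ[F] F :=
    { toFun := a
      map_add' := fun x y => smul_left_injective F hw (by
        show a (x + y) • w = (a x + a y) • w
        rw [← ha, map_add, add_smul, ← ha, ← ha])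
      map_smul' := fun c x => smul_left_injective F hw (by
        show a (c • x) • w = (c * a x) • w
        rw [← ha, map_smul, ha, smul_smul]) }
  obtain ⟨φ, hφ⟩ := exists_dot aL
  have hLφ : ∀ x, L x = (φ ⬝ᵥ x) • w := fun x => by rw [hφ]; exact ha x
  refine ⟨φ, fun e => hz (by rw [hLφ, e, zero_dotProduct, zero_smul]), ?_, ?_⟩
  · by_contra hne
    refine hz ?_
    have h1 := h2 z
    rw [hLφ z, map_smul, hLφ w, smul_smul, smul_eq_zero, mul_eq_zero] at h1
    rw [hLφ]
    rcases h1 with (h1 | h1) | h1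
    · rw [h1, zero_smul]
    · exact absurd h1 hne
    · exact absurd h1 hw
  · obtain ⟨g, hg, hgx⟩ := h
    exact ⟨g, hg, fun x => by rw [hgx, hLφ]⟩

/-- The group contains every `E`-linear map of determinant one. -/
structure Ovf (M : Subgroup (GL ι F)) (E : Type*) [Field E] [Algebra F E] [Module E (ι → F)]
    [IsScalarTower F E (ι → F)] : Prop where
  mem : ∀ L : (ι → F) →ₗ[E] (ι → F), Algebra.norm F (LinearMap.det L) = 1 →
    ∃ g ∈ M, ∀ x, (g : Mn) *ᵥ x = L x

/-- A linear functional over the extension with prescribed value, killing a subspace. -/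
theorem exists_func (W : Submodule E (ι → F)) {x : V} (hx : x ∉ W) (c : E) :
    ∃ θ : (ι → F) →ₗ[E] E, θ x = c ∧ ∀ w ∈ W, θ w = 0 := by
  obtain ⟨f, hf, hfW⟩ := Submodule.exists_le_ker_of_notMem hx
  refine ⟨(c * (f x)⁻¹) • f, ?_, fun w hw => ?_⟩
  · rw [LinearMap.smul_apply, smul_eq_mul, mul_assoc, inv_mul_cancel₀ hf, mul_one]
  · rw [LinearMap.smul_apply, LinearMap.mem_ker.1 (hfW hw), smul_zero]

/-- The map `x ↦ θ(x) • v`. -/
def rk (θ : (ι → F) →ₗ[E] E) (v : ι → F) : (ι → F) →ₗ[F] (ι → F) := (θ.smulRight v).restrictScalars F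

theorem rk_apply (θ : (ι → F) →ₗ[E] E) (v x : V) : rk θ v x = θ x • v := rfl

section
variable (hM : Ovf M E)
include hM

theorem Ovf.inTv (θ : (ι → F) →ₗ[E] E) (v : V) (h : θ v = 0) : In M (rk θ v) := by
  haveI : Module.Finite E (ι → F) := Module.Finite.of_restrictScalars_finite F E _
  obtain ⟨g, hg, hgx⟩ := hM.mem (LinearMap.transvection θ v) (by
    rw [LinearMap.transvection.det, h, add_zero, map_one])
  exact ⟨g, hg, fun x => by rw [hgx, LinearMap.transvection.apply, rk_apply]⟩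

theorem Ovf.inHom (θ : (ι → F) →ₗ[E] E) (v : V) (h : Algebra.norm F (1 + θ v) = 1) :
    ∃ g ∈ M, ∀ x, (g : Mn) *ᵥ x = x + θ x • v := by
  haveI : Module.Finite E (ι → F) := Module.Finite.of_restrictScalars_finite F E _
  obtain ⟨g, hg, hgx⟩ := hM.mem (LinearMap.transvection θ v) (by rw [LinearMap.transvection.det, h])
  exact ⟨g, hg, fun x => by rw [hgx, LinearMap.transvection.apply]⟩

/-- The special linear group over the extension is transitive on non-zero vectors. -/
theorem Ovf.transitive (h2 : 2 ≤ finrank E (ι → F)) {v w : V} (hv : v ≠ 0) (hw : w ≠ 0) :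
    ∃ g ∈ M, (g : Mn) *ᵥ v = w ∧ ∀ (k : E) x, (g : Mn) *ᵥ (k • x) = k • ((g : Mn) *ᵥ x) := by
  have step : ∀ {v w : V}, w ∉ (E ∙ v) → v ≠ 0 →
      ∃ g ∈ M, (g : Mn) *ᵥ v = w ∧ ∀ (k : E) x, (g : Mn) *ᵥ (k • x) = k • ((g : Mn) *ᵥ x) := by
    intro v w hvw hv
    have hnot : v ∉ (E ∙ (w - v)) := fun h => by
      obtain ⟨a, ha⟩ := Submodule.mem_span_singleton.1 h
      rcases eq_or_ne a 0 with rfl | ha0
      · rw [zero_smul] at ha; exact hv ha.symm
      refine hvw (Submodule.mem_span_singleton.2 ⟨a⁻¹ + 1, ?_⟩)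
      rw [add_smul, one_smul]
      nth_rewrite 1 [← ha]
      rw [smul_smul, inv_mul_cancel₀ ha0, one_smul]; abel
    obtain ⟨θ, hθ1, hθ0⟩ := exists_func _ hnot 1
    obtain ⟨g, hg, hgx⟩ := hM.inTv θ (w - v) (hθ0 _ (Submodule.mem_span_singleton_self _))
    exact ⟨g, hg, by rw [hgx, rk_apply, hθ1, one_smul, add_sub_cancel],
      fun k x => by rw [hgx, hgx, rk_apply, rk_apply, map_smul, smul_eq_mul, mul_smul, smul_add]⟩
  by_cases hvw : w ∈ (E ∙ v)
  · obtain ⟨u, hu⟩ : ∃ u, u ∉ (E ∙ v) := by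
      by_contra hc
      push Not at hc
      have h1 := finrank_span_singleton (K := E) hv
      rw [Submodule.eq_top_iff'.2 hc, finrank_top] at h1
      omega
    have hu0 : u ≠ 0 := fun e => hu (e ▸ zero_mem _)
    have hwu : w ∉ (E ∙ u) := fun h => by
      obtain ⟨a, ha⟩ := Submodule.mem_span_singleton.1 h
      rcases eq_or_ne a 0 with rfl | ha0
      · rw [zero_smul] at ha; exact hw ha.symm
      refine hu ?_
      rw [← ha] at hvw
      simpa [smul_smul, inv_mul_cancel₀ ha0] using Submodule.smul_mem _ a⁻¹ hvw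
    obtain ⟨g₁, hg₁, h1, h1'⟩ := step hu hv
    obtain ⟨g₂, hg₂, h3, h3'⟩ := step hwu hu0
    exact ⟨g₂ * g₁, mul_mem hg₂ hg₁, by rw [Units.val_mul, ← Matrix.mulVec_mulVec, h1, h3],
      fun k x => by simp only [Units.val_mul, ← Matrix.mulVec_mulVec, h1', h3']⟩
  · exact step hvw hv

end

variable [Fintype F] [Fintype E]

/-- The units of norm one generate the extension. -/
theorem normOne_generate (hE : 2 ≤ finrank F E) (S : E → Prop)
    (hadd : ∀ a b, S a → S b → S (a + b)) (hmul : ∀ a b, S a → S b → S (a * b))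
    (hu : ∀ u : E, Algebra.norm F u = 1 → S (u - 1)) : ∀ k, S k := by
  classical
  set N : Eˣ →* Fˣ := Units.map (Algebra.norm F) with hN
  set q := Fintype.card F with hq
  set r := finrank F E with hr
  have hq2 : 1 < q := Fintype.one_lt_card
  have hcard : Fintype.card E = q ^ r := Module.card_eq_pow_finrank
  have hker : q ^ (r - 1) < Nat.card N.ker := by
    have h1 := N.ker.card_mul_index
    rw [Subgroup.index_ker, Nat.card_units, Nat.card_eq_fintype_card (α := E), hcard] at h1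
    have h3 : Nat.card N.range ≤ q - 1 := by
      have := Nat.le_of_dvd (by rw [Nat.card_units, Nat.card_eq_fintype_card]; omega)
        (Subgroup.card_subgroup_dvd_card N.range)
      rwa [Nat.card_units, Nat.card_eq_fintype_card (α := F)] at this
    by_contra hle
    push Not at hle
    have h5 : Nat.card N.ker * Nat.card N.range ≤ q ^ (r - 1) * (q - 1) := Nat.mul_le_mul hle h3
    have h6 : q ^ r = q ^ (r - 1) * q := by rw [← pow_succ, Nat.sub_add_cancel (by omega)]
    have h7 : 2 ≤ q ^ (r - 1) := le_trans hq2 (Nat.le_self_pow (by omega) q)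
    have h8 : q ^ (r - 1) * q = q ^ (r - 1) * (q - 1) + q ^ (r - 1) := by
      rw [← mul_add_one, Nat.sub_add_cancel (by omega)]
    omega
  obtain ⟨u, hu1⟩ : ∃ u : N.ker, ((u : Eˣ) : E) ≠ 1 := by
    by_contra hc
    push Not at hc
    have : Nat.card N.ker = 1 := Nat.card_eq_one_iff_unique.2
      ⟨⟨fun a b => Subtype.ext (Units.ext ((hc a).trans (hc b).symm))⟩, ⟨1⟩⟩
    have h7 : 1 ≤ q ^ (r - 1) := Nat.one_le_pow _ _ (by omega)
    omega
  have hNu : ∀ u : N.ker, Algebra.norm F ((u : Eˣ) : E) = 1 := fun u => by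
    have := congrArg Units.val (MonoidHom.mem_ker.1 u.2)
    simpa [hN] using this
  set e := ((u : Eˣ) : E) - 1
  have he : S e := hu _ (hNu u)
  have hpow : ∀ m, S (e ^ (m + 1)) := fun m => by
    induction m with
    | zero => simpa using he
    | succ m ih => rw [pow_succ]; exact hmul _ _ ih he
  have h1 : S 1 := by
    have hc : Fintype.card E - 2 + 1 = Fintype.card E - 1 := by
      have : 1 < Fintype.card E := Fintype.one_lt_card
      omega
    have := hpow (Fintype.card E - 2)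
    rwa [hc, FiniteField.pow_card_sub_one_eq_one e (sub_ne_zero.2 hu1)] at this
  obtain ⟨p, hp⟩ := CharP.exists E
  haveI := hp
  have hp1 : p.Prime := CharP.char_is_prime E p
  have hnat : ∀ m : ℕ, S ((m + 1 : ℕ) : E) := fun m => by
    induction m with
    | zero => simpa using h1
    | succ m ih => rw [Nat.cast_add, Nat.cast_one]; exact hadd _ _ ih h1
  have h0 : S 0 := by
    have := hnat (p - 1)
    rwa [Nat.sub_add_cancel hp1.one_le, CharP.cast_eq_zero] at this
  have hneg1 : S (-1) := by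
    have := hnat (p - 2)
    rwa [show p - 2 + 1 = p - 1 by have := hp1.two_le; omega, Nat.cast_sub hp1.one_le, CharP.cast_eq_zero,
      Nat.cast_one, zero_sub] at this
  let R : Subring E :=
    { carrier := {k | S k}
      mul_mem' := fun {a b} ha hb => hmul a b ha hb
      one_mem' := h1
      add_mem' := fun {a b} ha hb => hadd a b ha hb
      zero_mem' := h0
      neg_mem' := fun {a} ha => by
        have := hmul _ _ hneg1 ha
        rwa [neg_one_mul] at this }
  let R' : Subfield E := { R with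
    inv_mem' := fun x hx => by
      rcases eq_or_ne x 0 with rfl | hx0
      · rw [_root_.inv_zero]; exact R.zero_mem
      have h3 : x ^ (Fintype.card E - 2) ∈ R := pow_mem hx _
      have h4 : x⁻¹ = x ^ (Fintype.card E - 2) := inv_eq_of_mul_eq_one_right (by
        rw [← pow_succ', show Fintype.card E - 2 + 1 = Fintype.card E - 1 by
          have : 1 < Fintype.card E := Fintype.one_lt_card
          omega]
        exact FiniteField.pow_card_sub_one_eq_one x hx0)
      show x⁻¹ ∈ R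
      rw [h4]
      exact h3 }
  have hmem : ∀ u : N.ker, ((u : Eˣ) : E) ∈ R' := fun u => by
    have := hadd _ _ (hu _ (hNu u)) h1
    rwa [sub_add_cancel] at this
  have hle : Nat.card N.ker ≤ Fintype.card R' := by
    rw [← Nat.card_eq_fintype_card]
    refine Nat.card_le_card_of_injective (fun u : N.ker => (⟨_, hmem u⟩ : R')) fun a b h => ?_
    exact Subtype.ext (Units.ext (congrArg Subtype.val h))
  intro k
  by_contra hk
  have hj : Fintype.card E = Fintype.card R' ^ finrank R' E := Module.card_eq_pow_finrank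
  have hj2 : 2 ≤ finrank R' E := by
    by_contra hlt
    push Not at hlt
    have h3 : Fintype.card E ≤ Fintype.card R' := by
      rw [hj]
      calc Fintype.card R' ^ finrank R' E ≤ Fintype.card R' ^ 1 :=
            Nat.pow_le_pow_right Fintype.card_pos (by omega)
        _ = _ := pow_one _
    have h4 : Function.Bijective (Subtype.val : R' → E) := (Fintype.bijective_iff_injective_and_card _).2
      ⟨Subtype.val_injective, le_antisymm (Fintype.card_le_of_injective _ Subtype.val_injective) h3⟩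
    obtain ⟨⟨y, hy⟩, rfl⟩ := h4.2 k
    exact hk hy
  have h5 : Fintype.card R' ^ 2 ≤ q ^ r := by
    rw [← hcard, hj]; exact Nat.pow_le_pow_right Fintype.card_pos hj2
  have h6 : (q ^ (r - 1)) ^ 2 < Fintype.card R' ^ 2 := Nat.pow_lt_pow_left (lt_of_lt_of_le hker hle) two_ne_zero
  rw [← pow_mul] at h6
  have h7 : q ^ r ≤ q ^ ((r - 1) * 2) := Nat.pow_le_pow_right (by omega) (by omega)
  omega

/-- In prime degree an element outside the base field generates. -/
theorem generate_of_not_base (hr : (finrank F E).Prime) {s : E} (hs : ∀ a : F, s ≠ algebraMap F E a)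
    (S : E → Prop) (hadd : ∀ a b, S a → S b → S (a + b)) (hmul : ∀ a b, S a → S b → S (a * b))
    (halg : ∀ a : F, S (algebraMap F E a)) (hS : S s) : ∀ k, S k := by
  haveI := Subalgebra.isSimpleOrder_of_finrank_prime F E hr
  let A : Subalgebra F E :=
    { carrier := {k | S k}
      mul_mem' := fun {a b} ha hb => hmul a b ha hb
      one_mem' := by have := halg 1; rwa [map_one] at this
      add_mem' := fun {a b} ha hb => hadd a b ha hb
      zero_mem' := by have := halg 0; rwa [map_zero] at this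
      algebraMap_mem' := halg }
  rcases IsSimpleOrder.eq_bot_or_eq_top A with h | h
  · have : s ∈ A := hS
    rw [h, Algebra.mem_bot] at this
    obtain ⟨a, ha⟩ := this
    exact absurd ha.symm (hs a)
  · exact fun k => show k ∈ A from h ▸ Algebra.mem_top

/-- The transvection functionals at a centre. -/
theorem Ovf.ann (hM : Ovf M E) (hE : 2 ≤ finrank F E) {v φ : V} (hv : v ≠ 0) (hφ : φ ≠ 0) (hφv : φ ⬝ᵥ v = 0)
    (h : InT M v φ) {ψ : V} (hψ : ∀ k : E, ψ ⬝ᵥ (k • v) = 0) : InT M v ψ := by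
  classical
  let Φ : V → Prop := fun χ => χ ⬝ᵥ v = 0 ∧ InT M v χ
  have hadd : ∀ a b, Φ a → Φ b → Φ (a + b) := fun a b ha hb =>
    ⟨by rw [add_dotProduct, ha.1, hb.1, add_zero], ha.2.add_right hb.2 ha.1⟩
  have hneg : ∀ a, Φ a → Φ (-a) := fun a ha => ⟨by rw [neg_dotProduct, ha.1, neg_zero], ha.2.neg ha.1⟩
  have hmove : ∀ (g : GL ι F), g ∈ M → (g : Mn) *ᵥ v = v → ∀ χ, Φ χ → Φ (χ ᵥ* (g : Mn) - χ) :=
      fun g hg hgv χ hχ => by
    rw [sub_eq_add_neg]
    refine hadd _ _ ⟨?_, ?_⟩ (hneg _ hχ)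
    · rw [← Matrix.dotProduct_mulVec, hgv, hχ.1]
    · have := hχ.2.conj (inv_mem hg)
      rwa [inv_inv, show ((g⁻¹ : GL ι F) : Mn) *ᵥ v = v by
        nth_rewrite 1 [← hgv]; rw [inv_mulVec_cancel]] at this
  have hfull : ∀ θ : (ι → F) →ₗ[E] E, θ v = 0 → θ ≠ 0 → ∀ l : E →ₗ[F] F, ∀ χ : V, (∀ x, χ ⬝ᵥ x = l (θ x)) →
      Φ χ := by
    intro θ hθv hθ l χ hχ
    obtain ⟨e, he⟩ : ∃ e, θ e = 1 := by
      obtain ⟨x, hx⟩ : ∃ x, θ x ≠ 0 := by
        by_contra hc; push Not at hc; exact hθ (LinearMap.ext hc)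
      exact ⟨(θ x)⁻¹ • x, by rw [map_smul, smul_eq_mul, inv_mul_cancel₀ hx]⟩
    -- a vector on whose line some functional of `Φ` is non-zero, with all multiples along `θ`
    obtain ⟨u, χ₀, hχ₀, hu⟩ : ∃ (u : V) (χ₀ : V), Φ χ₀ ∧ θ u = 1 ∧ ∃ k : E, χ₀ ⬝ᵥ (k • u) ≠ 0 := by
      obtain ⟨z, hz⟩ : ∃ z, φ ⬝ᵥ z ≠ 0 := by
        by_contra hc; push Not at hc; exact hφ (dotProduct_eq _ _ fun x => by rw [hc, zero_dotProduct])
      by_cases hez : ∃ k : E, φ ⬝ᵥ (k • e) ≠ 0
      · exact ⟨e, φ, ⟨hφv, h⟩, he, hez⟩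
      push Not at hez
      refine ⟨e + (z - θ z • e), φ, ⟨hφv, h⟩, by simp [he], 1, ?_⟩
      rw [one_smul, dotProduct_add, dotProduct_sub, hez]
      have h1 := hez 1
      rw [one_smul] at h1
      rw [h1]; simpa using hz
    have hgen : ∀ k : E, ∀ χ₁ : V, Φ χ₁ → ∀ χ₂ : V, (∀ x, χ₂ ⬝ᵥ x = χ₁ ⬝ᵥ ((k * θ x) • u)) → Φ χ₂ := by
      refine normOne_generate hE _ (fun a b ha hb χ₁ h1 χ₂ h2 => ?_) (fun a b ha hb χ₁ h1 χ₂ h2 => ?_)
        fun w hw χ₁ h1 χ₂ h2 => ?_
      · obtain ⟨φa, hφa⟩ := exists_dot ((dotProductBilin F F χ₁).comp (rk θ (a • u)))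
        obtain ⟨φb, hφb⟩ := exists_dot ((dotProductBilin F F χ₁).comp (rk θ (b • u)))
        have e2 : χ₂ = φa + φb := dotProduct_eq _ _ fun x => by
          rw [h2, add_dotProduct, hφa, hφb]
          simp only [LinearMap.comp_apply, rk_apply, dotProductBilin_apply_apply, smul_smul, mul_comm (θ x)]
          rw [← dotProduct_add, ← add_smul, add_mul]
        rw [e2]
        exact hadd _ _ (ha χ₁ h1 φa fun x => by rw [hφa]; simp [rk_apply, smul_smul, mul_comm])
          (hb χ₁ h1 φb fun x => by rw [hφb]; simp [rk_apply, smul_smul, mul_comm])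
      · obtain ⟨φa, hφa⟩ := exists_dot ((dotProductBilin F F χ₁).comp (rk θ (a • u)))
        refine hb φa (ha χ₁ h1 φa fun x => by rw [hφa]; simp [rk_apply, smul_smul, mul_comm]) χ₂ fun x => ?_
        rw [h2, hφa]
        simp only [LinearMap.comp_apply, rk_apply, dotProductBilin_apply_apply, map_smul, hu.1, smul_eq_mul,
          smul_smul]
        congr 2
        ring
      · obtain ⟨g, hg, hgx⟩ := hM.inHom θ ((w - 1) • u) (by
          rw [map_smul, hu.1, smul_eq_mul, mul_one, add_sub_cancel, hw])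
        have := hmove g hg (by rw [hgx, hθv, zero_smul, add_zero]) χ₁ h1
        convert this using 1
        refine dotProduct_eq _ _ fun x => ?_
        rw [h2, sub_dotProduct, ← Matrix.dotProduct_mulVec, hgx, dotProduct_add, add_sub_cancel_left, smul_smul,
          mul_comm]
    obtain ⟨k₁, hk₁⟩ := hu.2
    let lam : E →ₗ[F] F := (dotProductBilin F F χ₀).comp ((LinearMap.toSpanSingleton E (ι → F) u).restrictScalars F)
    let T : E →ₗ[F] (E →ₗ[F] F) := (LinearMap.mul F E).compr₂ lam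
    have hT : Function.Injective T := fun a b hab => by
      by_contra hne
      refine hk₁ ?_
      have h1 : lam ((a - b) * ((a - b)⁻¹ * k₁)) = 0 := by
        have := LinearMap.congr_fun hab ((a - b)⁻¹ * k₁)
        simp only [T, LinearMap.compr₂_apply, LinearMap.mul_apply_apply] at this
        rw [sub_mul, map_sub, this, sub_self]
      rw [← mul_assoc, mul_inv_cancel₀ (sub_ne_zero.2 hne), one_mul] at h1
      simpa [lam] using h1
    obtain ⟨k, hk⟩ := (LinearMap.injective_iff_surjective_of_finrank_eq_finrank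
      (show finrank F E = finrank F (E →ₗ[F] F) from Subspace.dual_finrank_eq.symm)).1 hT l
    refine hgen k χ₀ hχ₀ χ fun x => ?_
    rw [hχ, ← hk]
    simp [T, lam]
  -- every functional killing the line is one of these
  obtain ⟨l₀, hl₀⟩ : ∃ l : E →ₗ[F] F, l 1 = 1 := by
    obtain ⟨l, hl, -⟩ := Submodule.exists_le_ker_of_notMem (K := F) (p := ⊥) (v := (1 : E)) (by simp)
    exact ⟨(l 1)⁻¹ • l, by rw [LinearMap.smul_apply, smul_eq_mul, inv_mul_cancel₀ hl]⟩
  let Θ : ((ι → F) →ₗ[E] E) →ₗ[F] ((ι → F) →ₗ[F] F) :=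
    { toFun := fun θ => l₀.comp (θ.restrictScalars F)
      map_add' := fun a b => by ext; simp
      map_smul' := fun a b => by ext; simp }
  have hΘinj : Function.Injective Θ := fun a b hab => LinearMap.ext fun x => by
    by_contra hne
    have h1 := LinearMap.congr_fun hab ((a x - b x)⁻¹ • x)
    simp only [Θ, LinearMap.coe_mk, AddHom.coe_mk, LinearMap.comp_apply, LinearMap.restrictScalars_apply,
      map_smul] at h1
    rw [← sub_eq_zero, ← map_sub, ← smul_sub, smul_eq_mul, inv_mul_cancel₀ (sub_ne_zero.2 hne), hl₀] at h1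
    exact one_ne_zero h1
  have hdim : finrank F ((ι → F) →ₗ[E] E) = finrank F ((ι → F) →ₗ[F] F) := by
    rw [Subspace.dual_finrank_eq, ← Module.finrank_mul_finrank F E ((ι → F) →ₗ[E] E), Subspace.dual_finrank_eq,
      Module.finrank_mul_finrank]
  obtain ⟨θ, hθ⟩ := (LinearMap.injective_iff_surjective_of_finrank_eq_finrank hdim).1 hΘinj
    (dotProductBilin F F ψ)
  have hθ' : ∀ x, ψ ⬝ᵥ x = l₀ (θ x) := fun x => (LinearMap.congr_fun hθ x).symm
  have hθv : θ v = 0 := by
    by_contra hne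
    have := hψ (θ v)⁻¹
    rw [hθ', map_smul, smul_eq_mul, inv_mul_cancel₀ hne, hl₀] at this
    exact one_ne_zero this
  by_cases hθ0 : θ = 0
  · rw [show ψ = 0 from dotProduct_eq _ _ fun x => by rw [hθ', hθ0]; simp]
    exact InT.zero_right _
  exact (hfull θ hθv hθ0 l₀ ψ hθ').2

/-- With a transvection and an element not preserving lines the group contains `SL`. -/
theorem Ovf.le_of_transvection (hM : Ovf M E) (hr : (finrank F E).Prime) (h2 : 2 ≤ finrank E (ι → F))
    {g : GL ι F} (hg : g ∈ M) {a : V} {k₀ : E}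
    (hline : (g : Mn) *ᵥ (k₀ • a) ∉ (E ∙ ((g : Mn) *ᵥ a)))
    {v φ : V} (hv : v ≠ 0) (hφ : φ ≠ 0) (hφv : φ ⬝ᵥ v = 0) (h : InT M v φ) :
    Geo.specialLinear ι F ≤ M := by
  classical
  have hE := hr.two_le
  have ha : a ≠ 0 := fun e => hline (by rw [e, smul_zero, Matrix.mulVec_zero]; exact zero_mem _)
  -- transvections with any centre killing the line
  have hAnn : ∀ w : V, ∀ ψ : V, (∀ k : E, ψ ⬝ᵥ (k • w) = 0) → InT M w ψ := by
    intro w ψ hψ
    rcases eq_or_ne w 0 with rfl | hw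
    · exact InT.zero_left _
    obtain ⟨m, hm, hmv, -⟩ := hM.transitive h2 hv hw
    have h1 := h.conj hm
    rw [hmv] at h1
    refine hM.ann hE hw ?_ ?_ h1 hψ
    · intro e
      refine hφ (dotProduct_eq _ _ fun x => ?_)
      rw [← vecMul_inv_dot m φ x, e, zero_dotProduct, zero_dotProduct]
    · rw [← hmv, vecMul_inv_dot, hφv]
  -- the multipliers preserved by all elements
  have hEF : ∀ d : E, (∀ m ∈ M, ∀ w : V, (m : Mn) *ᵥ (d • w) ∈ (E ∙ ((m : Mn) *ᵥ w))) →
      ∃ c : F, d = algebraMap F E c := by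
    intro d hd
    by_contra hc
    push Not at hc
    refine hline ?_
    refine generate_of_not_base hr hc (fun d => ∀ m ∈ M, ∀ w : V, (m : Mn) *ᵥ (d • w) ∈ (E ∙ ((m : Mn) *ᵥ w)))
      (fun b c hb hc m hm w => ?_) (fun b c hb hc m hm w => ?_) (fun c m _ w => ?_) hd k₀ g hg a
    · rw [add_smul, Matrix.mulVec_add]; exact add_mem (hb m hm w) (hc m hm w)
    · rw [mul_smul]
      refine (Submodule.span_singleton_le_iff_mem _ _).2 (hc m hm w) (hb m hm (c • w))
    · rw [algebraMap_smul, Matrix.mulVec_smul, ← algebraMap_smul (A := E)]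
      exact Submodule.smul_mem _ _ (Submodule.mem_span_singleton_self _)
  refine specialLinear_le fun w ψ hψ => ?_
  rcases eq_or_ne w 0 with rfl | hw
  · exact InT.zero_left _
  -- functionals at `w` form the annihilator of `F w`
  let S : Set V := {χ | ∃ m ∈ M, ∃ w₀ : V, (m : Mn) *ᵥ w₀ = w ∧ ∀ k : E, χ ⬝ᵥ ((m : Mn) *ᵥ (k • w₀)) = 0}
  have hS0 : ∀ χ ∈ S, χ ⬝ᵥ w = 0 := by
    rintro χ ⟨m, hm, w₀, rfl, hχ⟩
    simpa using hχ 1
  have hSsmul : ∀ (c : F), ∀ χ ∈ S, c • χ ∈ S := by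
    rintro c χ ⟨m, hm, w₀, hw₀, hχ⟩
    exact ⟨m, hm, w₀, hw₀, fun k => by rw [smul_dotProduct, hχ, smul_zero]⟩
  have hSin : ∀ χ ∈ S, InT M w χ := by
    rintro χ ⟨m, hm, w₀, rfl, hχ⟩
    have h1 := (hAnn w₀ (χ ᵥ* (m : Mn)) fun k => by rw [← Matrix.dotProduct_mulVec]; exact hχ k).conj hm
    rwa [Matrix.vecMul_vecMul, ← Units.val_mul, mul_inv_cancel, Units.val_one, Matrix.vecMul_one] at h1
  have hspan : ∀ χ ∈ Submodule.span F S, χ ⬝ᵥ w = 0 ∧ ∀ c : F, InT M w (c • χ) := by
    intro χ hχ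
    induction hχ using Submodule.span_induction with
    | mem x hx => exact ⟨hS0 x hx, fun c => hSin _ (hSsmul c x hx)⟩
    | zero => exact ⟨zero_dotProduct _, fun c => by rw [smul_zero]; exact InT.zero_right _⟩
    | add x y _ _ hx hy =>
      exact ⟨by rw [add_dotProduct, hx.1, hy.1, add_zero],
        fun c => by rw [smul_add]; exact (hx.2 c).add_right (hy.2 c) (by rw [smul_dotProduct, hx.1, smul_zero])⟩
    | smul c x _ hx =>
      exact ⟨by rw [smul_dotProduct, hx.1, smul_zero], fun c' => by rw [smul_smul]; exact hx.2 _⟩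
  suffices hψS : ψ ∈ Submodule.span F S by
    have := (hspan ψ hψS).2 1
    rwa [one_smul] at this
  by_contra hψS
  obtain ⟨f, hf, hfS⟩ := Submodule.exists_le_ker_of_notMem hψS
  obtain ⟨x, hx⟩ : ∃ x : V, ∀ χ, χ ⬝ᵥ x = f χ := by
    obtain ⟨x, hx⟩ := exists_dot f
    exact ⟨x, fun χ => by rw [dotProduct_comm, hx]⟩
  have hxS : ∀ χ ∈ S, χ ⬝ᵥ x = 0 := fun χ hχ => by
    rw [hx]; exact hfS (Submodule.subset_span hχ)
  obtain ⟨d, rfl⟩ : ∃ d : E, d • w = x := by
    refine Submodule.mem_span_singleton.1 ?_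
    by_contra hxw
    obtain ⟨χ, hχ1, hχ0⟩ := exists_dot_one (S := (E ∙ w).restrictScalars F) hxw
    exact one_ne_zero (hχ1.symm.trans (hxS χ ⟨1, one_mem M, w, by simp, fun k => by
      rw [Units.val_one, Matrix.one_mulVec]
      exact hχ0 _ (Submodule.smul_mem (E ∙ w) k (Submodule.mem_span_singleton_self w))⟩))
  obtain ⟨c, rfl⟩ : ∃ c : F, d = algebraMap F E c := by
    refine hEF d fun m hm z => ?_
    rcases eq_or_ne z 0 with rfl | hz
    · rw [smul_zero, Matrix.mulVec_zero]; exact zero_mem _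
    obtain ⟨σ, hσ, hσz, hσl⟩ := hM.transitive h2 hz hw
    have hkey : ((m * σ⁻¹ : GL ι F) : Mn) *ᵥ (d • w) ∈ (E ∙ ((m * σ⁻¹ : GL ι F) : Mn) *ᵥ w) := by
      set n := m * σ⁻¹ with hn
      set w₀ := (n : Mn) *ᵥ w with hw₀
      by_contra hmem
      obtain ⟨χ, hχ1, hχ0⟩ := exists_dot_one (S := (E ∙ w₀).restrictScalars F) hmem
      have h3 := hxS (χ ᵥ* (n : Mn)) ⟨n⁻¹, inv_mem (mul_mem hm (inv_mem hσ)), w₀, inv_mulVec_cancel n w,
        fun k => by
          rw [← Matrix.dotProduct_mulVec, mulVec_inv_cancel]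
          exact hχ0 _ (Submodule.smul_mem (E ∙ w₀) k (Submodule.mem_span_singleton_self _))⟩
      rw [← Matrix.dotProduct_mulVec, hχ1] at h3
      exact one_ne_zero h3
    rw [← hσz, ← hσl] at hkey
    simp only [Units.val_mul, ← Matrix.mulVec_mulVec, inv_mulVec_cancel] at hkey
    exact hkey
  refine hf ?_
  rw [← hx, algebraMap_smul, dotProduct_smul, hψ, smul_zero]

end Cfsg.Agent.Classical.Overfield
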