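import Cfsg.Agent.Lib.Classical.MaxOverfieldMain

/-! The normaliser of a field of composite degree lies in the normaliser of a subfield. -/

set_option autoImplicit false
set_option linter.unusedSectionVars false

namespace Cfsg.Agent.OverfieldComposite

open Matrix Module Cfsg.Agent.Classical Cfsg.Agent.Classical.Overfield

variable {F : Type*} [Field F] [Fintype F] {ι : Type} [Fintype ι] [DecidableEq ι]
  {r : ℕ} {K : Subalgebra F (Matrix ι ι F)}

theorem sub_field (hK : Geo.IsFieldSubalgebra r K) {s : ℕ} (hs : s.Prime) (hsr : s ∣ r) (hr : 0 < r) :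
    ∃ L : Subalgebra F (Matrix ι ι F), Geo.IsFieldSubalgebra s L ∧ L ≤ K ∧
      Geo.subalgebraNormalizer K ≤ Geo.subalgebraNormalizer L := by
  classical
  haveI : Nontrivial ↥K := by
    haveI : Module.Finite F ↥K := Module.finite_of_finrank_pos (by rw [hK.finrank_eq]; exact hr)
    exact Module.nontrivial_of_finrank_pos (R := F) (by rw [hK.finrank_eq]; exact hr)
  letI : CommRing ↥K := { (inferInstance : Ring ↥K) with
    mul_comm := fun a b => Subtype.ext (hK.comm _ a.2 _ b.2) }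
  have hfield : IsField ↥K :=
    { exists_pair_ne := exists_pair_ne _
      mul_comm := mul_comm
      mul_inv_cancel := fun {a} ha => by
        obtain ⟨y, hy, hay⟩ := hK.inv _ a.2 fun h => ha (Subtype.ext h)
        exact ⟨⟨y, hy⟩, Subtype.ext hay⟩ }
  letI : Field ↥K := hfield.toField
  haveI : Fintype ↥K := Fintype.ofFinite _
  obtain ⟨p, hp⟩ := CharP.exists F
  haveI := hp
  obtain ⟨f, hpp, hf⟩ := FiniteField.card F p
  haveI : Fact p.Prime := ⟨hpp⟩
  haveI : CharP ↥K p := charP_of_injective_algebraMap (algebraMap F ↥K).injective p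
  set Q := Fintype.card F ^ s with hQ
  have hQp : Q = p ^ ((f : ℕ) * s) := by rw [hQ, hf, ← pow_mul]
  have hQ2 : 2 ≤ Q := (Fintype.one_lt_card (α := F)).trans_le (Nat.le_self_pow hs.ne_zero _)
  let φ : ↥K →+* ↥K := iterateFrobenius ↥K p ((f : ℕ) * s)
  have hφ : ∀ k, φ k = k ^ Q := fun k => by rw [hQp]; exact iterateFrobenius_def p _ k
  let L : Subalgebra F (Matrix ι ι F) :=
    { carrier := {A | A ∈ K ∧ A ^ Q = A}
      mul_mem' := fun {a b} ha hb => ⟨K.mul_mem ha.1 hb.1, by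
        rw [(show Commute a b from hK.comm _ ha.1 _ hb.1).mul_pow, ha.2, hb.2]⟩
      add_mem' := fun {a b} ha hb => ⟨K.add_mem ha.1 hb.1, by
        have h := congrArg Subtype.val (map_add φ ⟨a, ha.1⟩ ⟨b, hb.1⟩)
        simp only [hφ, SubmonoidClass.coe_pow, AddMemClass.coe_add] at h
        rw [h, ha.2, hb.2]⟩
      algebraMap_mem' := fun c => ⟨K.algebraMap_mem c, by rw [← map_pow, hQ, FiniteField.pow_card_pow]⟩ }
  have hLmem : ∀ A, A ∈ L ↔ A ∈ K ∧ A ^ Q = A := fun A => Iff.rfl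
  have hcardK : Fintype.card ↥K = Fintype.card F ^ r := by
    rw [Module.card_eq_pow_finrank (K := F), hK.finrank_eq]
  have hcard : Nat.card ↥L = Q := by
    have h1 : Nat.card ↥L = Nat.card {k : ↥K // k ^ Q = k} := Nat.card_congr
      { toFun := fun A => ⟨⟨A.1, A.2.1⟩, Subtype.ext (by simpa using A.2.2)⟩
        invFun := fun k => ⟨k.1.1, k.1.2, by simpa using congrArg Subtype.val k.2⟩
        left_inv := fun A => rfl
        right_inv := fun k => rfl }
    have hdvd : Q - 1 ∣ Fintype.card F ^ r - 1 := by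
      obtain ⟨t, rfl⟩ := hsr
      rw [pow_mul, hQ]
      simpa using Nat.sub_dvd_pow_sub_pow (Fintype.card F ^ s) 1 t
    have hK' : Nat.card (powMonoidHom (Q - 1) : (↥K)ˣ →* (↥K)ˣ).ker = Q - 1 := by
      rw [IsCyclic.card_powMonoidHom_ker, Nat.card_units, Nat.card_eq_fintype_card, hcardK,
        Nat.gcd_eq_right hdvd]
    let g : Option (powMonoidHom (Q - 1) : (↥K)ˣ →* (↥K)ˣ).ker → {k : ↥K // k ^ Q = k} := fun o => o.elim
      ⟨0, zero_pow (by omega)⟩ fun u => ⟨(u.1 : ↥K), by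
        have h1 : (u.1 : ↥K) ^ (Q - 1) = 1 := congrArg Units.val (show u.1 ^ (Q - 1) = 1 from u.2)
        calc (u.1 : ↥K) ^ Q = (u.1 : ↥K) ^ (Q - 1 + 1) := by rw [Nat.sub_add_cancel (by omega : 1 ≤ Q)]
          _ = u.1 := by rw [pow_succ, h1, one_mul]⟩
    have hb : Function.Bijective g := by
      constructor
      · rintro (_ | a) (_ | b) e
        · rfl
        · exact absurd (congrArg Subtype.val e).symm b.1.ne_zero
        · exact absurd (congrArg Subtype.val e) a.1.ne_zero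
        · exact congrArg some (Subtype.ext (Units.ext (congrArg Subtype.val e :)))
      · rintro ⟨c, hc⟩
        by_cases h0 : c = 0
        · exact ⟨none, Subtype.ext h0.symm⟩
        · refine ⟨some ⟨Units.mk0 c h0, MonoidHom.mem_ker.2 (Units.ext ?_)⟩, rfl⟩
          show c ^ (Q - 1) = 1
          refine mul_right_cancel₀ h0 ?_
          rw [← pow_succ, show Q - 1 + 1 = Q by omega, one_mul, hc]
    rw [h1, ← Nat.card_congr (Equiv.ofBijective g hb), Finite.card_option, hK']
    omega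
  refine ⟨L, ⟨fun x hx y hy => hK.comm x hx.1 y hy.1, fun x hx hx0 => ?_, ?_⟩, fun A hA => hA.1, ?_⟩
  · obtain ⟨y, hy, hxy⟩ := hK.inv x hx.1 hx0
    refine ⟨y, ⟨hy, ?_⟩, hxy⟩
    have h := congrArg (· ^ Q) hxy
    simp only [(show Commute x y from hK.comm _ hx.1 _ hy).mul_pow, hx.2, one_pow] at h
    have hyx : y * x = 1 := by rw [hK.comm _ hy _ hx.1]; exact hxy
    exact (left_inv_eq_right_inv hyx h).symm
  · have h := hcard
    rw [Module.natCard_eq_pow_finrank (K := F), Nat.card_eq_fintype_card] at h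
    exact Nat.pow_right_injective (Fintype.one_lt_card (α := F)) h
  · intro g hg
    intro A
    have hpow : ∀ B : Matrix ι ι F, ((g : Matrix ι ι F) * B * ((g⁻¹ : GL ι F) : Matrix ι ι F)) ^ Q =
        (g : Matrix ι ι F) * B ^ Q * ((g⁻¹ : GL ι F) : Matrix ι ι F) := fun B => Units.conj_pow g B Q
    rw [hLmem, hLmem, ← hg A, hpow]
    refine and_congr_right fun _ => ⟨fun h => by rw [h], fun h => ?_⟩
    have h2 := congrArg (fun M => ((g⁻¹ : GL ι F) : Matrix ι ι F) * M * (g : Matrix ι ι F)) h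
    simpa [mul_assoc] using h2

theorem exists_witness {s : ℕ} {L : Subalgebra F (Matrix ι ι F)} (hs : s.Prime) (hsr : s < r)
    (hr : r < Fintype.card ι) (hrn : r ∣ Fintype.card ι) (hK : Geo.IsFieldSubalgebra r K)
    (hL : Geo.IsFieldSubalgebra s L) (hLK : L ≤ K) :
    ∃ g : GL ι F, g ∈ Geo.specialLinear ι F ∧ g ∈ Geo.subalgebraNormalizer L ∧
      g ∉ Geo.subalgebraNormalizer K := by
  classical
  haveI : Nontrivial ↥L := by
    haveI : Module.Finite F ↥L := Module.finite_of_finrank_pos (by rw [hL.finrank_eq]; exact hs.pos)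
    exact Module.nontrivial_of_finrank_pos (R := F) (by rw [hL.finrank_eq]; exact hs.pos)
  letI : CommRing ↥L := { (inferInstance : Ring ↥L) with
    mul_comm := fun a b => Subtype.ext (hL.comm _ a.2 _ b.2) }
  have hfield : IsField ↥L :=
    { exists_pair_ne := exists_pair_ne _
      mul_comm := mul_comm
      mul_inv_cancel := fun {a} ha => by
        obtain ⟨y, hy, hay⟩ := hL.inv _ a.2 fun h => ha (Subtype.ext h)
        exact ⟨⟨y, hy⟩, Subtype.ext hay⟩ }
  letI : Field ↥L := hfield.toField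
  have hsm : ∀ (k : ↥L) (x : ι → F), k • x = (k : Matrix ι ι F) *ᵥ x := fun _ _ => rfl
  haveI : IsScalarTower F ↥L (ι → F) := ⟨fun a k x => by
    rw [hsm, hsm, show ((a • k : ↥L) : Matrix ι ι F) = a • (k : Matrix ι ι F) from rfl, Matrix.smul_mulVec]⟩
  haveI : Fintype ↥L := Fintype.ofFinite _
  have hdesc : Describes L ↥L := fun A => ⟨fun hA => ⟨⟨A, hA⟩, fun x => (hsm ⟨A, hA⟩ x).symm⟩,
    fun ⟨k, hk⟩ => by
      have : A = (k : Matrix ι ι F) := Matrix.ext_iff_mulVec.2 fun x => (hk x).trans (hsm k x)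
      rw [this]; exact k.2⟩
  haveI : Module.Finite ↥L (ι → F) := Module.Finite.of_restrictScalars_finite F ↥L _
  have h2 : 2 ≤ finrank ↥L (ι → F) := by
    have h := Module.finrank_mul_finrank F ↥L (ι → F)
    rw [hL.finrank_eq, Module.finrank_fintype_fun_eq_card] at h
    by_contra hc
    push Not at hc
    interval_cases hf : finrank ↥L (ι → F) <;> omega
  obtain ⟨a, ha⟩ : ∃ a : ι → F, a ≠ 0 := by
    obtain ⟨i⟩ : Nonempty ι := Fintype.card_pos_iff.1 (by omega)
    exact ⟨Pi.single i 1, by simp⟩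
  -- multiples of `a` under `K`
  let eva : ↥K →ₗ[F] (ι → F) :=
    { toFun := fun k => (k : Matrix ι ι F) *ᵥ a
      map_add' := fun x y => by simp [Matrix.add_mulVec]
      map_smul' := fun c x => by simp [Matrix.smul_mulVec] }
  haveI : Module.Finite F ↥K := Module.finite_of_finrank_pos (by rw [hK.finrank_eq]; omega)
  obtain ⟨u, hu⟩ : ∃ u, u ∉ LinearMap.range eva := by
    by_contra! hc
    have h1 := LinearMap.finrank_range_le eva
    rw [LinearMap.range_eq_top.2 fun x => hc x, finrank_top, Module.finrank_fintype_fun_eq_card,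
      hK.finrank_eq] at h1
    omega
  obtain ⟨k, hk, hkL⟩ : ∃ k ∈ K, k ∉ L := by
    by_contra! hc
    have := Submodule.finrank_mono (show K.toSubmodule ≤ L.toSubmodule from hc)
    have hKr : finrank F K.toSubmodule = r := hK.finrank_eq
    have hLs : finrank F L.toSubmodule = s := hL.finrank_eq
    omega
  have hinj : ∀ {x : Matrix ι ι F}, x ∈ K → x *ᵥ a = 0 → x = 0 := fun {x} hx h => by
    by_contra hx0
    obtain ⟨y, hy, hxy⟩ := hK.inv x hx hx0
    have := congrArg (y *ᵥ ·) h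
    simp only [Matrix.mulVec_mulVec, ← hK.comm x hx y hy, hxy, Matrix.one_mulVec, Matrix.mulVec_zero] at this
    exact ha this
  have hka : k *ᵥ a ∉ Submodule.span ↥L ({a, u} : Set (ι → F)) := fun h => by
    obtain ⟨x, y, hxy⟩ := Submodule.mem_span_pair.1 h
    rw [hsm, hsm] at hxy
    rcases eq_or_ne y 0 with rfl | hy
    · rw [ZeroMemClass.coe_zero, Matrix.zero_mulVec, add_zero] at hxy
      have := hinj (K.sub_mem hk (hLK x.2)) (by rw [Matrix.sub_mulVec, hxy, sub_self])
      exact hkL (sub_eq_zero.1 this ▸ x.2)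
    · obtain ⟨z, hz, hyz⟩ := hL.inv _ y.2 fun e => hy (Subtype.ext e)
      refine hu ⟨⟨z * (k - x), K.mul_mem (hLK hz) (K.sub_mem hk (hLK x.2))⟩, ?_⟩
      show (z * (k - (x : Matrix ι ι F))) *ᵥ a = u
      rw [← Matrix.mulVec_mulVec, Matrix.sub_mulVec, ← hxy, add_sub_cancel_left, Matrix.mulVec_mulVec,
        hL.comm _ hz _ y.2, hyz, Matrix.one_mulVec]
  obtain ⟨θ, hθk, hθ⟩ := exists_func (Submodule.span ↥L ({a, u} : Set (ι → F))) hka 1
  have hθa : θ a = 0 := hθ _ (Submodule.subset_span (Set.mem_insert _ _))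
  have hθu : θ u = 0 := hθ _ (Submodule.subset_span (Set.mem_insert_of_mem _ rfl))
  have hd : LinearMap.det (LinearMap.transvection θ u) = 1 := by
    rw [LinearMap.transvection.det, hθu, add_zero]
  obtain ⟨g, hg, hgd, hgx⟩ := exists_of_linear hdesc h2 (LinearMap.transvection θ u)
    (by rw [hd, map_one]; exact one_ne_zero)
  refine ⟨g, MonoidHom.mem_ker.2 (Units.ext (by
    rw [Matrix.GeneralLinearGroup.val_det_apply, hgd, hd, map_one]; rfl)), hg, fun hn => hu ?_⟩
  set k' := (g : Matrix ι ι F) * k * ((g⁻¹ : GL ι F) : Matrix ι ι F) with hk'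
  have hk'K : k' ∈ K := (hn k).1 hk
  have h1 : k' *ᵥ ((g : Matrix ι ι F) *ᵥ a) = (g : Matrix ι ι F) *ᵥ (k *ᵥ a) := by
    rw [hk', Matrix.mulVec_mulVec, Matrix.mulVec_mulVec, mul_assoc ((g : Matrix ι ι F) * k),
      Units.inv_mul, mul_one]
  rw [hgx, hgx, LinearMap.transvection.apply, LinearMap.transvection.apply, hθa, hθk, zero_smul,
    add_zero, one_smul] at h1
  refine ⟨⟨k' - k, K.sub_mem hk'K hk⟩, ?_⟩
  show (k' - k) *ᵥ a = u
  rw [Matrix.sub_mulVec, h1, add_sub_cancel_left]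

theorem not_maximal (hr1 : 1 < r) (hrp : ¬ r.Prime) (hrn : r ∣ Fintype.card ι) (hlt : r < Fintype.card ι)
    (hK : Geo.IsFieldSubalgebra r K) :
    ¬ IsCoatom (Geo.subalgebraNormalizer K) ∧
      ¬ Geo.IsMaximalIn (Geo.specialLinear ι F) (Geo.subalgebraNormalizer K ⊓ Geo.specialLinear ι F) := by
  have hs : r.minFac.Prime := Nat.minFac_prime (by omega)
  have hsr : r.minFac < r := (Nat.not_prime_iff_minFac_lt hr1).1 hrp
  obtain ⟨L, hL, hLK, hle⟩ := sub_field hK hs r.minFac_dvd (by omega)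
  obtain ⟨g, hgS, hgL, hgK⟩ := exists_witness hs hsr hlt hrn hK hL hLK
  obtain ⟨hc, hm⟩ := fieldSubalgebra_maximal hs (by omega) hL
  refine ⟨fun h => hc.1 (h.2 _ (lt_of_le_of_ne hle fun e => hgK (e ▸ hgL))), fun h => ?_⟩
  rcases h.2 _ (inf_le_inf_right _ hle) inf_le_right with e | e
  · exact hgK ((e ▸ (⟨hgL, hgS⟩ : g ∈ Geo.subalgebraNormalizer L ⊓ Geo.specialLinear ι F)) :
      g ∈ Geo.subalgebraNormalizer K ⊓ Geo.specialLinear ι F).1
  · exact hm.1.ne e

end Cfsg.Agent.OverfieldComposite
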