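import Cfsg.Agent.Lib.Classical.MaxOverfield

/-!
A group containing the `E`-linear maps of determinant one and an element not preserving `E`-lines contains a
transvection: two lines and their images meet in hyperplanes of each other, and commutators of root elements on
such a pair of planes drop the rank to one.
-/

set_option autoImplicit false
set_option linter.unusedSectionVars false

namespace Cfsg.Agent.Classical.Overfield

open Matrix Module MaxTv

variable {F : Type*} [Field F] {ι : Type} [Fintype ι] [DecidableEq ι]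
variable {E : Type*} [Field E] [Algebra F E] [Module E (ι → F)] [IsScalarTower F E (ι → F)]

local notation "V" => (ι → F)
local notation "Mn" => Matrix ι ι F

/-- The multiples of a vector. -/
def lineMap (c : ι → F) : E →ₗ[F] (ι → F) := (LinearMap.toSpanSingleton E (ι → F) c).restrictScalars F

theorem lineMap_apply (c : V) (k : E) : lineMap c k = k • c := rfl

theorem lineMap_injective {c : V} (hc : c ≠ 0) : Function.Injective (lineMap (E := E) c) :=
  smul_left_injective E hc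

theorem mem_line {c x : V} : x ∈ LinearMap.range (lineMap (E := E) c) ↔ x ∈ (E ∙ c) := by
  rw [Submodule.mem_span_singleton, LinearMap.mem_range]; rfl

/-- The part of the line of `b` carried by `g` into the line of `c`. -/
def meet (g : GL ι F) (b c : ι → F) : Submodule F E :=
  (LinearMap.range (lineMap (E := E) c)).comap ((Matrix.toLin' (g : Mn)).comp (lineMap b))

theorem mem_meet {g : GL ι F} {b c : V} {k : E} : k ∈ meet g b c ↔ (g : Mn) *ᵥ (k • b) ∈ (E ∙ c) := by
  rw [meet, Submodule.mem_comap, mem_line, LinearMap.comp_apply, Matrix.toLin'_apply, lineMap_apply]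

theorem finrank_meet_symm {g : GL ι F} {b c : V} (hb : b ≠ 0) (hc : c ≠ 0) :
    finrank F (meet (E := E) g⁻¹ c b) = finrank F (meet (E := E) g b c) := by
  set ψ : E →ₗ[F] V := (Matrix.toLin' (g : Mn)).comp (lineMap b) with hψ
  set φ : E →ₗ[F] V := lineMap c with hφ
  have h1 : meet (E := E) g⁻¹ c b = (LinearMap.range ψ).comap φ := by
    ext k
    rw [mem_meet, Submodule.mem_comap, LinearMap.mem_range, Submodule.mem_span_singleton]
    refine exists_congr fun j => ?_
    rw [hψ, hφ, LinearMap.comp_apply, Matrix.toLin'_apply, lineMap_apply, lineMap_apply]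
    constructor
    · intro h; rw [h, mulVec_inv_cancel]
    · intro h; rw [← h, inv_mulVec_cancel]
  have hψi : Function.Injective ψ := fun x y h => lineMap_injective hb (gl_mulVec_injective g (by
    simpa [hψ, Matrix.toLin'_apply] using h))
  have hφi : Function.Injective φ := lineMap_injective hc
  rw [h1, ← (Submodule.equivMapOfInjective φ hφi _).finrank_eq.symm]
  rw [show (meet (E := E) g b c) = (LinearMap.range φ).comap ψ from rfl,
    (Submodule.equivMapOfInjective ψ hψi ((LinearMap.range φ).comap ψ)).finrank_eq,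
    Submodule.map_comap_eq, Submodule.map_comap_eq, inf_comm]

/-- A line and the image of another line meet in a hyperplane of each. -/
structure Pair (M : Subgroup (GL ι F)) (E : Type*) [Field E] [Algebra F E] [Module E (ι → F)]
    [IsScalarTower F E (ι → F)] where
  g : GL ι F
  hg : g ∈ M
  b : ι → F
  c : ι → F
  hb : b ≠ 0
  hc : c ≠ 0
  k₁ : E
  t₁ : E
  i₀ : E
  out₁ : (g : Matrix ι ι F) *ᵥ (k₁ • b) ∉ (E ∙ c)
  split₁ : ∀ k : E, ∃ a : F, (g : Matrix ι ι F) *ᵥ ((k - a • k₁) • b) ∈ (E ∙ c)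
  out₂ : ((g⁻¹ : GL ι F) : Matrix ι ι F) *ᵥ (t₁ • c) ∉ (E ∙ b)
  split₂ : ∀ t : E, ∃ a : F, ((g⁻¹ : GL ι F) : Matrix ι ι F) *ᵥ ((t - a • t₁) • c) ∈ (E ∙ b)
  hi₀ : (g : Matrix ι ι F) *ᵥ (i₀ • b) ∈ (E ∙ c)
  hi₀0 : i₀ ≠ 0
  two : 3 ≤ finrank F E → ∀ i : E, ∃ j : E, (g : Matrix ι ι F) *ᵥ (j • b) ∈ (E ∙ c) ∧ ∀ a : F, j ≠ a • i

variable [Fintype F] [Fintype E] {M : Subgroup (GL ι F)}

theorem exists_pair (hM : Ovf M E) (hr : (finrank F E).Prime) {g₀ : GL ι F} (hg₀ : g₀ ∈ M) {a : V}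
    {k₀ : E} (hline : (g₀ : Mn) *ᵥ (k₀ • a) ∉ (E ∙ ((g₀ : Mn) *ᵥ a))) : Nonempty (Pair M E) := by
  classical
  have ha : a ≠ 0 := fun e => hline (by rw [e, smul_zero, Matrix.mulVec_zero]; exact zero_mem _)
  let T := {x : GL ι F × V × V // x.1 ∈ M ∧ x.2.1 ≠ 0 ∧ x.2.2 ≠ 0 ∧
    meet (E := E) x.1 x.2.1 x.2.2 ≠ ⊥ ∧ meet (E := E) x.1 x.2.1 x.2.2 ≠ ⊤}
  haveI : Nonempty T := by
    refine ⟨⟨(g₀, a, (g₀ : Mn) *ᵥ a), hg₀, ha, fun e => ha (gl_mulVec_injective g₀ (by simpa using e)), ?_,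
      fun e => hline (mem_meet.1 (e ▸ Submodule.mem_top))⟩⟩
    intro e
    have h1 : (1 : E) ∈ meet (E := E) g₀ a ((g₀ : Mn) *ᵥ a) := mem_meet.2 (by
      rw [one_smul]; exact Submodule.mem_span_singleton_self _)
    rw [e, Submodule.mem_bot] at h1
    exact one_ne_zero h1
  obtain ⟨⟨⟨g, b, c⟩, hg, hb, hc, hbot, htop⟩, hmax⟩ :=
    Finite.exists_max fun x : T => finrank F (meet (E := E) x.1.1 x.1.2.1 x.1.2.2)
  have hnb : ∀ s : E, (∀ a : F, s ≠ a • 1) → ∀ a : F, s ≠ algebraMap F E a := fun s hs a e =>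
    hs a (by rw [e, Algebra.algebraMap_eq_smul_one])
  -- a maximal meet is a hyperplane
  have key : ∀ (g : GL ι F) (b c : V), g ∈ M → b ≠ 0 → c ≠ 0 → meet (E := E) g b c ≠ ⊥ →
      meet (E := E) g b c ≠ ⊤ →
      (∀ x : T, finrank F (meet (E := E) x.1.1 x.1.2.1 x.1.2.2) ≤ finrank F (meet (E := E) g b c)) →
      ∀ k₁ k : E, k₁ ∉ meet g b c → ∃ a : F, k - a • k₁ ∈ meet g b c := by
    intro g b c hg hb hc hbot htop hmax k₁ k₂ hk₁
    by_contra hk₂
    push Not at hk₂
    set x := (g : Mn) *ᵥ (k₁ • b) with hx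
    set y := (g : Mn) *ᵥ (k₂ • b) with hy
    have hxc : x ∉ (E ∙ c) := fun h => hk₁ (mem_meet.2 h)
    obtain ⟨θ, hθx, hθc, hs⟩ : ∃ θ : (ι → F) →ₗ[E] E, θ x = 1 ∧ θ c = 0 ∧ ∀ a : F, θ y ≠ a • 1 := by
      obtain ⟨θ₁, h1, h0⟩ := exists_func (E ∙ c) hxc 1
      by_cases hy' : y ∈ Submodule.span E ({c, x} : Set V)
      · obtain ⟨s, t, hst⟩ := Submodule.mem_span_pair.1 hy'
        refine ⟨θ₁, h1, h0 c (Submodule.mem_span_singleton_self _), fun a e => ?_⟩
        rw [← hst, map_add, map_smul, map_smul, h1, h0 c (Submodule.mem_span_singleton_self _), smul_zero,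
          zero_add, smul_eq_mul, mul_one] at e
        refine hk₂ a (mem_meet.2 ?_)
        rw [sub_smul, smul_assoc, Matrix.mulVec_sub, Matrix.mulVec_smul, ← hy, ← hx, ← hst, e, smul_assoc,
          one_smul, add_sub_cancel_right]
        exact Submodule.smul_mem _ _ (Submodule.mem_span_singleton_self _)
      · obtain ⟨s, hs⟩ : ∃ s : E, ∀ a : F, s ≠ a • 1 := by
          by_contra hcon
          push Not at hcon
          have hle : (⊤ : Submodule F E) ≤ (F ∙ (1 : E)) := fun s _ => by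
            obtain ⟨a, ha⟩ := hcon s
            exact Submodule.mem_span_singleton.2 ⟨a, ha.symm⟩
          have := Submodule.finrank_mono hle
          rw [finrank_top, finrank_span_singleton (one_ne_zero (α := E))] at this
          exact absurd hr.two_le (by omega)
        obtain ⟨θ₂, g1, g0⟩ := exists_func _ hy' 1
        refine ⟨θ₁ + (s - θ₁ y) • θ₂, ?_, ?_, ?_⟩
        · rw [LinearMap.add_apply, LinearMap.smul_apply, h1,
            g0 x (Submodule.subset_span (Set.mem_insert_of_mem _ rfl)), smul_zero, add_zero]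
        · rw [LinearMap.add_apply, LinearMap.smul_apply, h0 c (Submodule.mem_span_singleton_self _),
            g0 c (Submodule.subset_span (Set.mem_insert _ _)), smul_zero, add_zero]
        · rw [LinearMap.add_apply, LinearMap.smul_apply, g1, smul_eq_mul, mul_one, add_sub_cancel]
          exact hs
    have hθline : ∀ z ∈ (E ∙ c), θ z = 0 := fun z hz => by
      obtain ⟨t, rfl⟩ := Submodule.mem_span_singleton.1 hz
      rw [map_smul, hθc, smul_zero]
    let J : Set E := {t | ((g⁻¹ : GL ι F) : Mn) *ᵥ (t • c) ∈ (E ∙ b)}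
    have hJmem : ∀ t, t ∈ J ↔ ((g⁻¹ : GL ι F) : Mn) *ᵥ (t • c) ∈ (E ∙ b) := fun t => Iff.rfl
    have hmul : ∀ t ∈ J, θ y * t ∈ J := by
      intro t ht
      obtain ⟨i, hi⟩ := Submodule.mem_span_singleton.1 ht
      have hgi : (g : Mn) *ᵥ (i • b) = t • c := by rw [hi, mulVec_inv_cancel]
      have he : t • c ∈ (E ∙ c) := Submodule.smul_mem _ _ (Submodule.mem_span_singleton_self _)
      obtain ⟨h, hh, hhx⟩ := hM.inTv θ (t • c) (hθline _ he)
      set g' := g⁻¹ * h * g with hg'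
      have hg'M : g' ∈ M := mul_mem (mul_mem (inv_mem hg) hh) hg
      have hg'x : ∀ k : E, (g' : Mn) *ᵥ (k • b) =
          k • b + ((g⁻¹ : GL ι F) : Mn) *ᵥ (θ ((g : Mn) *ᵥ (k • b)) • (t • c)) := fun k => by
        rw [hg', Units.val_mul, Units.val_mul, ← Matrix.mulVec_mulVec, ← Matrix.mulVec_mulVec, hhx, rk_apply,
          Matrix.mulVec_add, inv_mulVec_cancel]
      have hb' : ∀ k : E, k • b ∈ (E ∙ b) :=
        fun k => Submodule.smul_mem _ _ (Submodule.mem_span_singleton_self _)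
      have hle : meet (E := E) g b c ≤ meet g' b b := fun k hk => mem_meet.2 (by
        rw [hg'x, hθline _ (mem_meet.1 hk), zero_smul, Matrix.mulVec_zero, add_zero]; exact hb' k)
      have hk₁' : k₁ ∈ meet (E := E) g' b b := mem_meet.2 (by
        rw [hg'x, ← hx, hθx, one_smul]; exact add_mem (hb' _) ht)
      have htop' : meet (E := E) g' b b = ⊤ := by
        by_contra hne
        have hlt : meet (E := E) g b c < meet g' b b := lt_of_le_of_ne hle fun e => hk₁ (e ▸ hk₁')
        have h1 := Submodule.finrank_lt_finrank_of_lt hlt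
        have h2 := hmax ⟨(g', b, b), hg'M, hb, hb, fun e => hbot (le_bot_iff.1 (e ▸ hle)), hne⟩
        simp only at h2
        omega
      have h3 := mem_meet.1 (show k₂ ∈ meet (E := E) g' b b from htop' ▸ Submodule.mem_top)
      rw [hg'x, ← hy] at h3
      have h4 := Submodule.sub_mem _ h3 (hb' k₂)
      rw [add_sub_cancel_left, smul_smul] at h4
      exact (hJmem _).2 h4
    obtain ⟨i, hi, hi0⟩ := Submodule.exists_mem_ne_zero_of_ne_bot hbot
    obtain ⟨t, ht⟩ := Submodule.mem_span_singleton.1 (mem_meet.1 hi)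
    have htJ : t ∈ J := by
      rw [hJmem, ht, inv_mulVec_cancel]
      exact Submodule.smul_mem _ _ (Submodule.mem_span_singleton_self _)
    have ht0 : t ≠ 0 := fun e => by
      rw [e, zero_smul] at ht
      have := gl_mulVec_injective g (ht.symm.trans (Matrix.mulVec_zero _).symm)
      exact hi0 ((smul_eq_zero.1 this).resolve_right hb)
    have hall : ∀ z : E, ∀ u ∈ J, z * u ∈ J := by
      refine generate_of_not_base hr (hnb _ hs) _ (fun p q hp hq u hu => ?_) (fun p q hp hq u hu => ?_)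
        (fun p u hu => ?_) hmul
      · have := Submodule.add_mem _ ((hJmem _).1 (hp u hu)) ((hJmem _).1 (hq u hu))
        rw [← Matrix.mulVec_add, ← add_smul, ← add_mul] at this
        exact (hJmem _).2 this
      · rw [mul_assoc]; exact hp _ (hq u hu)
      · rw [hJmem, ← Algebra.smul_def, smul_assoc, Matrix.mulVec_smul, ← algebraMap_smul (A := E)]
        exact Submodule.smul_mem _ _ ((hJmem _).1 hu)
    have hJ : ∀ u : E, ((g⁻¹ : GL ι F) : Mn) *ᵥ (u • c) ∈ (E ∙ b) := fun u => by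
      have := hall (u * t⁻¹) t htJ
      rwa [mul_assoc, inv_mul_cancel₀ ht0, mul_one] at this
    refine htop ?_
    apply Submodule.eq_top_of_finrank_eq
    rw [← finrank_meet_symm hb hc, show meet (E := E) g⁻¹ c b = ⊤ from
      eq_top_iff.2 fun u _ => mem_meet.2 (hJ u), finrank_top]
  obtain ⟨k₁, hk₁⟩ : ∃ k₁, k₁ ∉ meet (E := E) g b c := by
    by_contra hcon; push Not at hcon; exact htop (eq_top_iff.2 fun u _ => hcon u)
  have hsymm := finrank_meet_symm (E := E) (g := g) hb hc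
  have hbot' : meet (E := E) g⁻¹ c b ≠ ⊥ := fun e => by
    rw [e, finrank_bot] at hsymm
    exact hbot (Submodule.finrank_eq_zero.1 hsymm.symm)
  have htop' : meet (E := E) g⁻¹ c b ≠ ⊤ := fun e => by
    rw [e, finrank_top] at hsymm
    exact htop (Submodule.eq_top_of_finrank_eq hsymm.symm)
  obtain ⟨t₁, ht₁⟩ : ∃ t₁, t₁ ∉ meet (E := E) g⁻¹ c b := by
    by_contra hcon; push Not at hcon; exact htop' (eq_top_iff.2 fun u _ => hcon u)
  obtain ⟨i₀, hi₀, hi₀0⟩ := Submodule.exists_mem_ne_zero_of_ne_bot hbot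
  have s1 := key g b c hg hb hc hbot htop hmax
  refine ⟨{ g := g, hg := hg, b := b, c := c, hb := hb, hc := hc, k₁ := k₁, t₁ := t₁, i₀ := i₀,
            out₁ := fun h => hk₁ (mem_meet.2 h), out₂ := fun h => ht₁ (mem_meet.2 h),
            hi₀ := mem_meet.1 hi₀, hi₀0 := hi₀0,
            split₁ := fun k => (s1 k₁ k hk₁).imp fun _ => mem_meet.1,
            split₂ := fun t => (key g⁻¹ c b (inv_mem hg) hc hb hbot' htop' (fun x => hsymm ▸ hmax x) t₁ t ht₁).imp
              fun _ => mem_meet.1,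
            two := fun h3 i => ?_ }⟩
  by_contra hcon
  push Not at hcon
  have hle : meet (E := E) g b c ≤ (F ∙ i) := fun j hj => by
    obtain ⟨a, ha⟩ := hcon j (mem_meet.1 hj)
    exact Submodule.mem_span_singleton.2 ⟨a, ha.symm⟩
  have h1 : (⊤ : Submodule F E) ≤ (F ∙ i) ⊔ (F ∙ k₁) := fun k _ => by
    obtain ⟨a, ha⟩ := s1 k₁ k hk₁
    exact Submodule.mem_sup.2 ⟨_, hle ha, _, Submodule.smul_mem _ a (Submodule.mem_span_singleton_self _),
      sub_add_cancel _ _⟩
  have h2 := Submodule.finrank_mono h1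
  rw [finrank_top] at h2
  have h4 := Submodule.finrank_add_le_finrank_add_finrank (F ∙ i) (F ∙ k₁)
  have h5 : finrank F (F ∙ i) ≤ 1 := le_trans (finrank_span_le_card ({i} : Set E)) (by simp)
  have h6 : finrank F (F ∙ k₁) ≤ 1 := le_trans (finrank_span_le_card ({k₁} : Set E)) (by simp)
  omega

/-- Multiplication by a scalar of the extension. -/
def sm (k : E) : (ι → F) →ₗ[F] (ι → F) := (LinearMap.lsmul E (ι → F) k).restrictScalars F

theorem sm_apply (k : E) (x : V) : sm k x = k • x := rfl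

namespace Pair

variable (P : Pair M E)
include P

theorem e_ne : (P.g : Mn) *ᵥ (P.i₀ • P.b) ≠ 0 := fun h => P.hi₀0 (by
  have := gl_mulVec_injective P.g (h.trans (Matrix.mulVec_zero _).symm)
  exact (smul_eq_zero.1 this).resolve_right P.hb)

/-- The root elements of the moved line. -/
theorem inY (hM : Ovf M E) {θ : (ι → F) →ₗ[E] E} (hθb : θ P.b = 0) (k : E) :
    In M (conjL P.g (rk θ (k • P.b))) :=
  (hM.inTv θ _ (by rw [map_smul, hθb, smul_zero])).conj P.hg

theorem sub_mem_b {x : V} (hx : x ∈ (E ∙ P.c)) :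
    ∃ a : F, ((P.g⁻¹ : GL ι F) : Mn) *ᵥ x - a • (((P.g⁻¹ : GL ι F) : Mn) *ᵥ (P.t₁ • P.c)) ∈ (E ∙ P.b) := by
  obtain ⟨t, rfl⟩ := Submodule.mem_span_singleton.1 hx
  obtain ⟨a, ha⟩ := P.split₂ t
  exact ⟨a, by rwa [sub_smul, smul_assoc, Matrix.mulVec_sub, Matrix.mulVec_smul] at ha⟩

theorem sub_mem_c (k : E) :
    ∃ a : F, (P.g : Mn) *ᵥ (k • P.b) - a • ((P.g : Mn) *ᵥ (P.k₁ • P.b)) ∈ (E ∙ P.c) := by
  obtain ⟨a, ha⟩ := P.split₁ k
  exact ⟨a, by rwa [sub_smul, smul_assoc, Matrix.mulVec_sub, Matrix.mulVec_smul] at ha⟩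

/-- In dimension at least three a commutator of two root elements is a transvection. -/
theorem transvection_of_three (hM : Ovf M E) (h3 : 3 ≤ finrank E (ι → F)) :
    ∃ v φ : V, v ≠ 0 ∧ φ ≠ 0 ∧ φ ⬝ᵥ v = 0 ∧ InT M v φ := by
  classical
  haveI : Module.Finite E (ι → F) := Module.Finite.of_restrictScalars_finite F E _
  set gi := ((P.g⁻¹ : GL ι F) : Mn) with hgi
  set z := gi *ᵥ (P.t₁ • P.c)
  obtain ⟨u, hu⟩ : ∃ u, u ∉ Submodule.span E ({P.b, z} : Set V) := by
    by_contra hcon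
    push Not at hcon
    have h1 := finrank_span_finset_le_card (R := E) ({P.b, z} : Finset V)
    rw [Set.finrank, Finset.coe_pair, Submodule.eq_top_iff'.2 hcon, finrank_top] at h1
    have := Finset.card_le_two (a := P.b) (b := z)
    omega
  obtain ⟨θ', hθ'u, hθ'⟩ := exists_func _ hu 1
  have hθ'b : θ' P.b = 0 := hθ' _ (Submodule.subset_span (Set.mem_insert _ _))
  have hθ'line : ∀ x ∈ (E ∙ P.b), θ' x = 0 := fun x hx => by
    obtain ⟨t, rfl⟩ := Submodule.mem_span_singleton.1 hx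
    rw [map_smul, hθ'b, smul_zero]
  set x₀ := (P.g : Mn) *ᵥ (P.k₁ • P.b) with hx₀
  obtain ⟨θ, hθx, hθ⟩ := exists_func (E ∙ P.c) P.out₁ 1
  set Y := conjL P.g (rk θ' (P.k₁ • P.b)) with hY
  have hYin : In M Y := P.inY hM hθ'b _
  have hYx : ∀ x, Y x = (P.g : Mn) *ᵥ ((θ' (gi *ᵥ x) * P.k₁) • P.b) := fun x => by
    rw [hY, conjL_apply, rk_apply, smul_smul]
  have hYc : ∀ x ∈ (E ∙ P.c), Y x = 0 := fun x hx => by
    obtain ⟨a, ha⟩ := P.sub_mem_b hx
    have h1 := hθ'line _ ha
    rw [map_sub, LinearMap.map_smul_of_tower, hθ' z (Submodule.subset_span (Set.mem_insert_of_mem _ rfl)),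
      smul_zero, sub_zero] at h1
    rw [hYx, h1, zero_mul, zero_smul, Matrix.mulVec_zero]
  have hY2 : ∀ x, Y (Y x) = 0 := fun x => by
    rw [hYx x, hYx, inv_mulVec_cancel, map_smul, hθ'b, smul_zero, zero_mul, zero_smul, Matrix.mulVec_zero]
  set N := rk θ P.c
  have hθc : θ P.c = 0 := hθ _ (Submodule.mem_span_singleton_self _)
  have hNin : In M N := hM.inTv θ P.c hθc
  have hN2 : ∀ x, N (N x) = 0 := fun x => by
    simp only [N, rk_apply, map_smul, hθc, smul_zero, zero_smul]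
  have hYN : ∀ x, Y (N x) = 0 := fun x =>
    hYc _ (Submodule.smul_mem _ _ (Submodule.mem_span_singleton_self _))
  have hZ : In M (N.comp Y) := by
    have h1 := hYin.sandwich hNin hN2
    have h2 := h1.add (hYin.neg hY2) fun x => by simp [hY2, hYN]
    convert h2 using 1
    refine LinearMap.ext fun x => ?_
    simp only [LinearMap.comp_apply, LinearMap.add_apply, LinearMap.sub_apply, LinearMap.id_apply,
      LinearMap.neg_apply, map_sub, map_neg, hY2, hYN, map_zero]
    abel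
  have hθY : ∀ x, ∃ a : F, θ (Y x) = algebraMap F E a := fun x => by
    obtain ⟨a, ha⟩ := P.sub_mem_c (θ' (gi *ᵥ x) * P.k₁)
    refine ⟨a, ?_⟩
    have h1 := hθ _ ha
    rw [map_sub, LinearMap.map_smul_of_tower, ← hx₀, hθx, sub_eq_zero, ← Algebra.algebraMap_eq_smul_one] at h1
    rw [hYx, h1]
  have hz : (N.comp Y) ((P.g : Mn) *ᵥ u) ≠ 0 := by
    rw [LinearMap.comp_apply, hYx, inv_mulVec_cancel, hθ'u, one_mul]
    simp only [N, rk_apply, hθx, one_smul]
    exact P.hc
  obtain ⟨φ, hφ0, hφv, hφ⟩ := hZ.toInT P.hc (fun x => by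
      obtain ⟨a, ha⟩ := hθY x
      exact ⟨a, by simp [N, rk_apply, ha]⟩)
    (fun x => by simp only [LinearMap.comp_apply, hYN, map_zero]) hz
  exact ⟨P.c, φ, P.hc, hφ0, hφv, hφ⟩

/-- The root elements of a fixed line in dimension two. -/
def Bl (M : Subgroup (GL ι F)) (c : ι → F) (L : (ι → F) →ₗ[F] (ι → F)) : Prop :=
  In M L ∧ (∀ x, L x ∈ (E ∙ c)) ∧ ∀ x ∈ (E ∙ c), L x = 0

/-- In dimension two a second difference of root elements is a transvection. -/
theorem transvection_of_two (hM : Ovf M E) (h2 : finrank E (ι → F) = 2) (hr : 2 ≤ finrank F E)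
    (hex : 3 ≤ Fintype.card F ∨ 3 ≤ finrank F E) :
    ∃ v φ : V, v ≠ 0 ∧ φ ≠ 0 ∧ φ ⬝ᵥ v = 0 ∧ InT M v φ := by
  classical
  haveI : Module.Finite E (ι → F) := Module.Finite.of_restrictScalars_finite F E _
  set x₀ := (P.g : Mn) *ᵥ (P.k₁ • P.b) with hx₀
  set e := (P.g : Mn) *ᵥ (P.i₀ • P.b) with he
  set p₀ := P.t₁ • P.c with hp₀
  set gi := ((P.g⁻¹ : GL ι F) : Mn) with hgi
  have hcm : ∀ k : E, k • P.c ∈ (E ∙ P.c) :=
    fun k => Submodule.smul_mem _ _ (Submodule.mem_span_singleton_self _)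
  have hspan : ∀ x, ∃ α β : E, x = α • P.c + β • x₀ := fun x => by
    have hli : LinearIndependent E ![P.c, x₀] := (LinearIndependent.pair_iff' P.hc).2 fun t h =>
      P.out₁ (Submodule.mem_span_singleton.2 ⟨t, h⟩)
    have htop : Submodule.span E (Set.range ![P.c, x₀]) = ⊤ :=
      hli.span_eq_top_of_card_eq_finrank (by rw [Fintype.card_fin, h2])
    have hx : x ∈ Submodule.span E (Set.range ![P.c, x₀]) := htop ▸ Submodule.mem_top
    rw [Matrix.range_cons_cons_empty] at hx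
    obtain ⟨α, β, hab⟩ := Submodule.mem_span_pair.1 hx
    exact ⟨α, β, hab.symm⟩
  obtain ⟨θ, hθx, hθ⟩ := exists_func (E ∙ P.c) P.out₁ 1
  have hx₀c : P.c ∉ (E ∙ x₀) := fun h => by
    obtain ⟨s, hs⟩ := Submodule.mem_span_singleton.1 h
    have hs0 : s ≠ 0 := fun e0 => P.hc (by rw [← hs, e0, zero_smul])
    exact P.out₁ (Submodule.mem_span_singleton.2 ⟨s⁻¹, by rw [← hs, smul_smul, inv_mul_cancel₀ hs0, one_smul]⟩)
  obtain ⟨θ₁, hθ₁c, hθ₁⟩ := exists_func (E ∙ x₀) hx₀c 1
  have hBadd : ∀ {L L' : V →ₗ[F] V}, Bl (E := E) M P.c L → Bl (E := E) M P.c L' →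
      Bl (E := E) M P.c (L + L') := fun {L L'} h h' =>
    ⟨h.1.add h'.1 fun x => h.2.2 _ (h'.2.1 x), fun x => add_mem (h.2.1 x) (h'.2.1 x),
      fun x hx => by rw [LinearMap.add_apply, h.2.2 x hx, h'.2.2 x hx, add_zero]⟩
  have hBneg : ∀ {L : V →ₗ[F] V}, Bl (E := E) M P.c L → Bl (E := E) M P.c (-L) := fun {L} h =>
    ⟨h.1.neg fun x => h.2.2 _ (h.2.1 x), fun x => neg_mem (h.2.1 x),
      fun x hx => by rw [LinearMap.neg_apply, h.2.2 x hx, neg_zero]⟩
  have hBsub : ∀ {L L' : V →ₗ[F] V}, Bl (E := E) M P.c L → Bl (E := E) M P.c L' →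
      Bl (E := E) M P.c (L - L') := fun {L L'} h h' => by rw [sub_eq_add_neg]; exact hBadd h (hBneg h')
  have hBleft : ∀ (k : E) (L : V →ₗ[F] V), Bl (E := E) M P.c L → Bl (E := E) M P.c ((sm k).comp L) := by
    refine normOne_generate hr _ (fun a b ha hb L hL => ?_) (fun a b ha hb L hL => ?_) fun u hu L hL => ?_
    · convert hBadd (ha L hL) (hb L hL) using 1
      exact LinearMap.ext fun x => by simp [sm_apply, add_smul]
    · convert ha _ (hb L hL) using 1
      exact LinearMap.ext fun x => by simp [sm_apply, mul_smul]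
    · obtain ⟨g, hg, hgx⟩ := hM.inHom θ₁ ((u - 1) • P.c) (by
        rw [map_smul, hθ₁c, smul_eq_mul, mul_one, add_sub_cancel, hu])
      have hconj : conjL g L = (sm u).comp L := LinearMap.ext fun x => by
        obtain ⟨y, rfl⟩ : ∃ y, x = (g : Mn) *ᵥ y := ⟨_, (mulVec_inv_cancel g x).symm⟩
        rw [conjL_apply, inv_mulVec_cancel, LinearMap.comp_apply, hgx, hgx y, sm_apply, map_add]
        simp only [smul_smul]
        rw [hL.2.2 _ (hcm _), add_zero]
        obtain ⟨t, ht⟩ := Submodule.mem_span_singleton.1 (hL.2.1 y)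
        rw [← ht, map_smul, hθ₁c, smul_eq_mul, mul_one]
        module
      have h1 : Bl (E := E) M P.c ((sm u).comp L) := ⟨hconj ▸ hL.1.conj hg,
        fun x => Submodule.smul_mem _ _ (hL.2.1 x), fun x hx => by
          rw [LinearMap.comp_apply, hL.2.2 x hx, map_zero]⟩
      convert hBsub h1 hL using 1
      exact LinearMap.ext fun x => by simp [sm_apply, sub_smul]
  have hBright : ∀ (k : E) (L : V →ₗ[F] V), Bl (E := E) M P.c L → Bl (E := E) M P.c (L.comp (sm k)) := by
    refine normOne_generate hr _ (fun a b ha hb L hL => ?_) (fun a b ha hb L hL => ?_) fun u hu L hL => ?_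
    · convert hBadd (ha L hL) (hb L hL) using 1
      exact LinearMap.ext fun x => by simp [sm_apply, add_smul]
    · convert hb _ (ha L hL) using 1
      exact LinearMap.ext fun x => by simp [sm_apply, mul_smul]
    · obtain ⟨g, hg, hgx⟩ := hM.inHom θ ((u - 1) • x₀) (by
        rw [map_smul, hθx, smul_eq_mul, mul_one, add_sub_cancel, hu])
      have hLgy : ∀ y, L ((g : Mn) *ᵥ y) = L (u • y) := fun y => by
        obtain ⟨α, β, rfl⟩ := hspan y
        rw [hgx, map_add θ, map_smul, map_smul, hθ _ (Submodule.mem_span_singleton_self _), hθx]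
        have e1 : α • P.c + β • x₀ + (α • (0 : E) + β • (1 : E)) • (u - 1) • x₀ =
            ((1 - u) * α) • P.c + u • (α • P.c + β • x₀) := by
          simp only [smul_eq_mul, mul_zero, zero_add, mul_one]; module
        rw [e1, map_add, hL.2.2 _ (hcm _), zero_add]
      have hconj : conjL g⁻¹ L = L.comp (sm u) := LinearMap.ext fun x => by
        rw [conjL_apply, inv_inv, LinearMap.comp_apply, sm_apply, hLgy]
        refine gl_mulVec_injective g ?_
        show (g : Mn) *ᵥ _ = (g : Mn) *ᵥ _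
        rw [mulVec_inv_cancel, hgx, hθ _ (hL.2.1 _), zero_smul, add_zero]
      have h1 : Bl (E := E) M P.c (L.comp (sm u)) := ⟨hconj ▸ hL.1.conj (inv_mem hg),
        fun x => hL.2.1 _, fun x hx => hL.2.2 _ (Submodule.smul_mem _ _ hx)⟩
      convert hBsub h1 hL using 1
      exact LinearMap.ext fun x => by simp [sm_apply, sub_smul]
  obtain ⟨θ', hθ'p, hθ'⟩ := exists_func (E ∙ P.b) P.out₂ 1
  set Y := conjL P.g (rk θ' (P.i₀ • P.b)) with hY
  have hθ'b : θ' P.b = 0 := hθ' _ (Submodule.mem_span_singleton_self _)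
  have hYin : ∀ a : F, In M (a • Y) := fun a => by
    convert P.inY hM hθ'b (a • P.i₀) using 1
    exact LinearMap.ext fun x => by
      simp [hY, conjL_apply, rk_apply, smul_assoc, Matrix.mulVec_smul, smul_comm _ a]
  have hYx : ∀ x, Y x = (P.g : Mn) *ᵥ ((θ' (gi *ᵥ x) * P.i₀) • P.b) := fun x => by
    rw [hY, conjL_apply, rk_apply, smul_smul]
  have hY2 : ∀ x, Y (Y x) = 0 := fun x => by
    rw [hYx x, hYx, inv_mulVec_cancel, map_smul, hθ'b, smul_zero, zero_mul, zero_smul, Matrix.mulVec_zero]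
  have hYp : Y p₀ = e := by rw [hYx, hθ'p, one_mul]
  have hYc : ∀ x ∈ (E ∙ P.c), ∃ a : F, Y x = a • e := fun x hx => by
    obtain ⟨a, ha⟩ := P.sub_mem_b hx
    have h1 := hθ' _ ha
    rw [map_sub, LinearMap.map_smul_of_tower, hθ'p, sub_eq_zero] at h1
    exact ⟨a, by rw [hYx, h1, smul_mul_assoc, one_mul, smul_assoc, Matrix.mulVec_smul]⟩
  have hYI : ∀ j : E, Y ((P.g : Mn) *ᵥ (j • P.b)) = 0 := fun j => by
    rw [hYx, inv_mulVec_cancel, map_smul, hθ'b, smul_zero, zero_mul, zero_smul, Matrix.mulVec_zero]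
  have hYout : ∀ x, ∃ a : F, ∃ w ∈ (E ∙ P.c), Y x = a • x₀ + w := fun x => by
    obtain ⟨a, ha⟩ := P.sub_mem_c (θ' (gi *ᵥ x) * P.i₀)
    exact ⟨a, _, ha, by rw [hYx, ← hx₀, add_sub_cancel]⟩
  have hec : e ∈ (E ∙ P.c) := P.hi₀
  have hYY : ∀ x ∈ (E ∙ P.c), Y x ∈ (E ∙ P.c) := fun x hx => by
    obtain ⟨a, ha⟩ := hYc x hx
    rw [ha, ← algebraMap_smul E a]
    exact Submodule.smul_mem _ _ hec
  have hNB : ∀ t : E, Bl (E := E) M P.c (rk θ (t • P.c)) := fun t =>
    ⟨hM.inTv θ _ (hθ _ (hcm t)), fun x => Submodule.smul_mem _ _ (hcm t),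
      fun x hx => by rw [rk_apply, hθ x hx, zero_smul]⟩
  have hX : ∀ (a : F) (L : V →ₗ[F] V), Bl (E := E) M P.c L →
      Bl (E := E) M P.c ((LinearMap.id + a • Y).comp (L.comp (LinearMap.id - a • Y)) - L) := by
    intro a L hL
    refine hBsub ⟨hL.1.sandwich (hYin a) (fun x => by simp [hY2]), fun x => ?_, fun x hx => ?_⟩ hL
    · simp only [LinearMap.comp_apply, LinearMap.add_apply, LinearMap.id_apply, LinearMap.smul_apply]
      refine add_mem (hL.2.1 _) ?_
      rw [← algebraMap_smul E a]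
      exact Submodule.smul_mem _ _ (hYY _ (hL.2.1 _))
    · have hm : x - a • Y x ∈ (E ∙ P.c) := by
        rw [← algebraMap_smul E a (Y x)]
        exact sub_mem hx (Submodule.smul_mem _ _ (hYY _ hx))
      simp only [LinearMap.comp_apply, LinearMap.add_apply, LinearMap.id_apply, LinearMap.smul_apply,
        LinearMap.sub_apply, hL.2.2 _ hm, map_zero, smul_zero, add_zero]
  have hθ'g : ∃ z, Y z = x₀ := ⟨(P.g : Mn) *ᵥ ((P.k₁ * P.i₀⁻¹) • (gi *ᵥ p₀)), by
    rw [hYx, inv_mulVec_cancel, map_smul, hθ'p, smul_eq_mul, mul_one, mul_assoc, inv_mul_cancel₀ P.hi₀0,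
      mul_one]⟩
  obtain ⟨z, hz⟩ := hθ'g
  have he0 : e ≠ 0 := P.e_ne
  by_cases h3 : 3 ≤ finrank F E
  · obtain ⟨j, hj, hji⟩ := P.two h3 P.i₀
    set e₂ := (P.g : Mn) *ᵥ (j • P.b) with he₂
    obtain ⟨t₂, ht₂⟩ := Submodule.mem_span_singleton.1 hj
    set N := rk θ (t₂ • P.c) with hN
    have hNY : ∀ x, ∃ a : F, N (Y x) = a • e₂ := fun x => by
      obtain ⟨a, w, hw, h⟩ := hYout x
      exact ⟨a, by rw [h, hN, rk_apply, map_add, LinearMap.map_smul_of_tower, hθx, hθ w hw, add_zero, smul_assoc,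
        one_smul, ht₂]⟩
    have hYe₂ : Y e₂ = 0 := hYI j
    set f := (LinearMap.id + (1 : F) • Y).comp (N.comp (LinearMap.id - (1 : F) • Y)) - N with hf
    have hfB : Bl (E := E) M P.c f := hX 1 N (hNB t₂)
    have hfx : ∀ x, f x = Y (N x) - N (Y x) := fun x => by
      obtain ⟨a, ha⟩ := hNY x
      simp only [hf, LinearMap.sub_apply, LinearMap.comp_apply, LinearMap.add_apply, LinearMap.id_apply,
        one_smul, map_sub]
      rw [ha, map_smul, hYe₂, smul_zero]
      abel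
    have hYf : ∀ x, Y (f x) = 0 := fun x => by
      obtain ⟨a, ha⟩ := hYc (N x) ((hNB t₂).2.1 x)
      obtain ⟨a', ha'⟩ := hNY x
      rw [hfx, map_sub, ha, ha', map_smul, map_smul, hYe₂, show Y e = 0 from hYI P.i₀]
      simp
    have ht₂0 : t₂ ≠ 0 := fun h0 => by
      rw [h0, zero_smul] at ht₂
      have h1 := gl_mulVec_injective P.g (ht₂.symm.trans (Matrix.mulVec_zero _).symm)
      exact hji 0 (by rw [zero_smul]; exact (smul_eq_zero.1 h1).resolve_right P.hb)
    set s := P.t₁ * t₂⁻¹ with hs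
    have hfs : f (s • x₀) ≠ 0 := fun h0 => by
      have hNs : N (s • x₀) = p₀ := by
        rw [hN, rk_apply, map_smul, hθx, smul_eq_mul, mul_one, smul_smul, hs, mul_assoc, inv_mul_cancel₀ ht₂0,
          mul_one]
      obtain ⟨a, ha⟩ := hNY (s • x₀)
      rw [hfx, hNs, hYp, ha, sub_eq_zero, he, he₂, ← Matrix.mulVec_smul, ← smul_assoc] at h0
      have h1 := smul_left_injective E P.hb (gl_mulVec_injective P.g h0)
      rcases eq_or_ne a 0 with rfl | ha0
      · rw [zero_smul] at h1; exact P.hi₀0 h1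
      · exact hji a⁻¹ (by rw [h1, smul_smul, inv_mul_cancel₀ ha0, one_smul])
    set f' := f.comp (sm s) with hf'
    have hf'B : Bl (E := E) M P.c f' := hBright s f hfB
    have hYf' : ∀ x, Y (f' x) = 0 := fun x => hYf _
    have hGin := hX 1 f' hf'B
    set G := (LinearMap.id + (1 : F) • Y).comp (f'.comp (LinearMap.id - (1 : F) • Y)) - f' with hG
    have hGx : ∀ x, G x = -f' (Y x) := fun x => by
      simp only [hG, LinearMap.sub_apply, LinearMap.comp_apply, LinearMap.add_apply, LinearMap.id_apply,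
        one_smul, map_sub, hYf']
      abel
    have hw : f' x₀ ≠ 0 := by rw [hf', LinearMap.comp_apply, sm_apply]; exact hfs
    obtain ⟨φ, hφ0, hφv, hφ⟩ := hGin.1.toInT hw (fun x => by
        obtain ⟨a, w, hw', h⟩ := hYout x
        exact ⟨-a, by rw [hGx, h, map_add, map_smul, hf'B.2.2 w hw', add_zero, neg_smul]⟩)
      (fun x => hGin.2.2 _ (hGin.2.1 x)) (z := z) (by rw [hGx, hz]; exact neg_ne_zero.2 hw)
    exact ⟨_, φ, hw, hφ0, hφv, hφ⟩
  · have hq : 3 ≤ Fintype.card F := hex.resolve_right h3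
    obtain ⟨ν, hν0, hν1⟩ : ∃ ν : F, ν ≠ 0 ∧ ν ≠ 1 := by
      by_contra hc
      push Not at hc
      have : (Finset.univ : Finset F) ⊆ {0, 1} := fun x _ => by
        by_cases hx : x = 0 <;> simp [hx, hc x]
      have := (Finset.card_le_card this).trans Finset.card_le_two
      rw [Finset.card_univ] at this
      omega
    set N := rk θ p₀ with hN
    have hNB' : Bl (E := E) M P.c N := hNB P.t₁
    set X : F → (V →ₗ[F] V) := fun a => (LinearMap.id + a • Y).comp (N.comp (LinearMap.id - a • Y)) - N with hXd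
    have hXB : ∀ a, Bl (E := E) M P.c (X a) := fun a => hX a N hNB'
    have hG : Bl (E := E) M P.c ((sm (algebraMap F E ν)).comp (X 1) - X ν) := hBsub (hBleft _ _ (hXB 1)) (hXB ν)
    set G := (sm (algebraMap F E ν)).comp (X 1) - X ν with hGd
    have hGx : ∀ x, G x = (ν * (ν - 1)) • Y (N (Y x)) := fun x => by
      simp only [hGd, hXd, LinearMap.sub_apply, LinearMap.comp_apply, LinearMap.add_apply, LinearMap.id_apply,
        LinearMap.smul_apply, sm_apply, algebraMap_smul, map_sub, map_smul]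
      module
    obtain ⟨φ, hφ0, hφv, hφ⟩ := hG.1.toInT he0 (fun x => by
        obtain ⟨a, ha⟩ := hYc (N (Y x)) (hNB'.2.1 _)
        exact ⟨ν * (ν - 1) * a, by rw [hGx, ha, smul_smul]⟩)
      (fun x => hG.2.2 _ (hG.2.1 x)) (z := z) (by
        rw [hGx, hz, hN, rk_apply, hθx, one_smul, hYp]
        exact smul_ne_zero (mul_ne_zero hν0 (sub_ne_zero.2 hν1)) he0)
    exact ⟨_, φ, he0, hφ0, hφv, hφ⟩

end Pair

end Cfsg.Agent.Classical.Overfield
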