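import Cfsg.Agent.Lib.Classical.MaxOverfieldRoot

/-!
The smallest case of the overfield argument: two dimensions over the field of four elements inside four
dimensions over the prime field. Here a short word in root elements and the swap is a transvection.
-/

set_option autoImplicit false
set_option linter.unusedSectionVars false

namespace Cfsg.Agent.Classical.Overfield

open Matrix Module MaxTv

variable {F : Type*} [Field F] {ι : Type} [Fintype ι] [DecidableEq ι]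
variable {E : Type*} [Field E] [Algebra F E] [Module E (ι → F)] [IsScalarTower F E (ι → F)]
variable [Fintype F] [Fintype E] {M : Subgroup (GL ι F)}

local notation "V" => (ι → F)
local notation "Mn" => Matrix ι ι F

theorem Pair.transvection_of_four (P : Pair M E) (hM : Ovf M E) (h2 : finrank E (ι → F) = 2)
    (hr : finrank F E = 2) (hq : Fintype.card F = 2) :
    ∃ v φ : V, v ≠ 0 ∧ φ ≠ 0 ∧ φ ⬝ᵥ v = 0 ∧ InT M v φ := by
  classical
  haveI : Module.Finite E (ι → F) := Module.Finite.of_restrictScalars_finite F E _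
  -- arithmetic of the two fields
  have hF : ∀ a : F, a = 0 ∨ a = 1 := fun a => by
    by_contra hc
    push Not at hc
    have : ({a, 0, 1} : Finset F).card = 3 := Finset.card_eq_three.2 ⟨a, 0, 1, hc.1, hc.2, zero_ne_one, rfl⟩
    have := Finset.card_le_univ ({a, 0, 1} : Finset F)
    omega
  have h11 : (1 : F) + 1 = 0 := by
    rcases hF (1 + 1) with h | h
    · exact h
    · exact absurd (by linear_combination h : (1 : F) = 0) one_ne_zero
  have hvv : ∀ x : V, x + x = 0 := fun x => by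
    funext i
    show x i + x i = 0
    linear_combination x i * h11
  have hE4 : Fintype.card E = 4 := by rw [Module.card_eq_pow_finrank (K := F), hr, hq]; norm_num
  have hEE : ∀ s : E, s + s = 0 := fun s => by
    have : (algebraMap F E) (1 + 1) = 0 := by rw [h11, map_zero]
    rw [map_add, map_one] at this
    linear_combination s * this
  have hsq : ∀ s : E, s ≠ 0 → s ≠ 1 → s * s = s + 1 := fun s h0 h1 => by
    have h3 : s ^ 3 = 1 := by
      have := FiniteField.pow_card_sub_one_eq_one s h0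
      rwa [hE4] at this
    have h4 : s * s + s + 1 = 0 := (mul_eq_zero.1 (show (s - 1) * (s * s + s + 1) = 0 by
      linear_combination h3)).resolve_left (sub_ne_zero.2 h1)
    linear_combination h4 - hEE (s + 1)
  have hnorm : ∀ s : E, s ≠ 0 → Algebra.norm F s = 1 := fun s h0 =>
    (hF _).resolve_left (Algebra.norm_ne_zero_iff.2 h0)
  obtain ⟨ω, hω0, hω1⟩ : ∃ ω : E, ω ≠ 0 ∧ ω ≠ 1 := by
    by_contra hc
    push Not at hc
    have : (Finset.univ : Finset E) ⊆ {0, 1} := fun x _ => by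
      by_cases hx : x = 0 <;> simp [hx, hc x]
    have := (Finset.card_le_card this).trans Finset.card_le_two
    rw [Finset.card_univ] at this
    omega
  have hω := hsq ω hω0 hω1
  have hEall : ∀ s : E, s = 0 ∨ s = 1 ∨ s = ω ∨ s = ω + 1 := fun s => by
    by_cases h0 : s = 0
    · exact Or.inl h0
    by_cases h1 : s = 1
    · exact Or.inr (Or.inl h1)
    have h := hsq s h0 h1
    rcases mul_eq_zero.1 (show (s - ω) * (s - (ω + 1)) = 0 by
      linear_combination h + hω + hEE (1 - s * ω + ω)) with h' | h'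
    · exact Or.inr (Or.inr (Or.inl (sub_eq_zero.1 h')))
    · exact Or.inr (Or.inr (Or.inr (sub_eq_zero.1 h')))
  -- the vectors
  set x₀ := (P.g : Mn) *ᵥ (P.k₁ • P.b) with hx₀
  set e := (P.g : Mn) *ᵥ (P.i₀ • P.b) with he
  set gi := ((P.g⁻¹ : GL ι F) : Mn) with hgi
  have he0 : e ≠ 0 := P.e_ne
  obtain ⟨t₀, ht₀⟩ := Submodule.mem_span_singleton.1 (show e ∈ (E ∙ P.c) from P.hi₀)
  have ht₀0 : t₀ ≠ 0 := fun h => he0 (by rw [← ht₀, h, zero_smul])
  have hline : ∀ x ∈ (E ∙ P.c), ∃ s : E, x = s • e := fun x hx => by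
    obtain ⟨s, rfl⟩ := Submodule.mem_span_singleton.1 hx
    exact ⟨s * t₀⁻¹, by rw [← ht₀, smul_smul, mul_assoc, inv_mul_cancel₀ ht₀0, mul_one]⟩
  have hec : ∀ s : E, s • e ∈ (E ∙ P.c) := fun s => Submodule.smul_mem _ _ P.hi₀
  set p₀ := ω • e with hp₀
  have hωp : ω • p₀ = e + p₀ := by rw [hp₀, smul_smul, hω, add_smul, one_smul, add_comm]
  have hout : gi *ᵥ p₀ ∉ (E ∙ P.b) := fun h => P.out₂ (by
    have hib : gi *ᵥ e ∈ (E ∙ P.b) := by
      rw [he, hgi, inv_mulVec_cancel]; exact Submodule.smul_mem _ _ (Submodule.mem_span_singleton_self _)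
    obtain ⟨s, hs⟩ := hline _ (Submodule.smul_mem _ P.t₁ (Submodule.mem_span_singleton_self P.c))
    rw [hs]
    rcases hEall s with rfl | rfl | rfl | rfl
    · rw [zero_smul, Matrix.mulVec_zero]; exact zero_mem _
    · rw [one_smul]; exact hib
    · exact h
    · rw [add_smul, one_smul, Matrix.mulVec_add]; exact add_mem h hib)
  obtain ⟨θ', hθ'p, hθ'⟩ := exists_func (E ∙ P.b) hout 1
  have hθ'b : θ' P.b = 0 := hθ' _ (Submodule.mem_span_singleton_self _)
  obtain ⟨θ, hθx, hθ⟩ := exists_func (E ∙ P.c) P.out₁ 1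
  have hθe : θ e = 0 := hθ _ P.hi₀
  have hθp : θ p₀ = 0 := hθ _ (hec ω)
  have hx₀e : e ∉ (E ∙ x₀) := fun h => by
    obtain ⟨s, hs⟩ := Submodule.mem_span_singleton.1 h
    have hs0 : s ≠ 0 := fun e0 => he0 (by rw [← hs, e0, zero_smul])
    refine P.out₁ ?_
    have := Submodule.smul_mem (E ∙ P.c) s⁻¹ P.hi₀
    rwa [← he, ← hs, smul_smul, inv_mul_cancel₀ hs0, one_smul] at this
  obtain ⟨θ₁, hθ₁e, hθ₁⟩ := exists_func (E ∙ x₀) hx₀e 1
  have hθ₁x : θ₁ x₀ = 0 := hθ₁ _ (Submodule.mem_span_singleton_self _)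
  have hspan : ∀ x, ∃ α β : E, x = α • e + β • x₀ := fun x => by
    have hli : LinearIndependent E ![e, x₀] := (LinearIndependent.pair_iff' he0).2 fun t h =>
      P.out₁ (by rw [← hx₀, ← h]; exact hec t)
    have htop : Submodule.span E (Set.range ![e, x₀]) = ⊤ :=
      hli.span_eq_top_of_card_eq_finrank (by rw [Fintype.card_fin, h2])
    have hx : x ∈ Submodule.span E (Set.range ![e, x₀]) := htop ▸ Submodule.mem_top
    rw [Matrix.range_cons_cons_empty] at hx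
    obtain ⟨α, β, hab⟩ := Submodule.mem_span_pair.1 hx
    exact ⟨α, β, hab.symm⟩
  set t := P.k₁ * P.i₀⁻¹ with ht
  have hti : t * P.i₀ = P.k₁ := by rw [ht, mul_assoc, inv_mul_cancel₀ P.hi₀0, mul_one]
  have ht01 : t ≠ 0 ∧ t ≠ 1 := by
    refine ⟨fun h => P.out₁ ?_, fun h => P.out₁ ?_⟩
    · rw [← hti, h, zero_mul, zero_smul, Matrix.mulVec_zero]
      exact zero_mem _
    · rw [← hti, h, one_mul]
      exact P.hi₀
  -- root elements
  obtain ⟨gC, hgC, hC⟩ := P.inY hM hθ'b P.i₀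
  obtain ⟨gD, hgD, hD⟩ := P.inY hM hθ'b P.k₁
  obtain ⟨gB, hgB, hB⟩ := hM.inTv θ p₀ hθp
  have hCx : ∀ x, (gC : Mn) *ᵥ x = x + (P.g : Mn) *ᵥ ((θ' (gi *ᵥ x) * P.i₀) • P.b) := fun x => by
    rw [hC, conjL_apply, rk_apply, smul_smul]
  have hDx : ∀ x, (gD : Mn) *ᵥ x = x + (P.g : Mn) *ᵥ ((θ' (gi *ᵥ x) * P.k₁) • P.b) := fun x => by
    rw [hD, conjL_apply, rk_apply, smul_smul]
  have hθ'e : θ' (gi *ᵥ e) = 0 := by rw [he, hgi, inv_mulVec_cancel, map_smul, hθ'b, smul_zero]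
  have hθ'x : θ' (gi *ᵥ x₀) = 0 := by rw [hx₀, hgi, inv_mulVec_cancel, map_smul, hθ'b, smul_zero]
  obtain ⟨y, hy', hyθ⟩ : ∃ y, θ' (gi *ᵥ y) = t ∧ θ y = ω := by
    set y₁ := (P.g : Mn) *ᵥ (t • (gi *ᵥ p₀)) with hy₁
    have h1 : θ' (gi *ᵥ y₁) = t := by
      rw [hy₁, hgi, inv_mulVec_cancel, map_smul, ← hgi, hθ'p, smul_eq_mul, mul_one]
    have hker : ∀ x, θ x = 0 → ∃ α : E, x = α • e := fun x hx => by
      obtain ⟨α, β, rfl⟩ := hspan x
      rw [map_add, map_smul, map_smul, hθe, hθx, smul_zero, zero_add, smul_eq_mul, mul_one] at hx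
      exact ⟨α, by rw [hx, zero_smul, add_zero]⟩
    have himg : ∀ α : E, θ' (gi *ᵥ (α • e)) = 0 ∨ θ' (gi *ᵥ (α • e)) = 1 := fun α => by
      rcases hEall α with rfl | rfl | rfl | rfl
      · exact Or.inl (by rw [zero_smul, Matrix.mulVec_zero, map_zero])
      · exact Or.inl (by rw [one_smul, hθ'e])
      · exact Or.inr hθ'p
      · exact Or.inr (by rw [add_smul, one_smul, Matrix.mulVec_add, map_add, hθ'e, hθ'p, add_zero])
    rcases hEall (θ y₁) with h | h | h | h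
    · obtain ⟨α, hα⟩ := hker _ h
      rw [hα] at h1
      rcases himg α with h' | h'
      · exact absurd (h1.symm.trans h') ht01.1
      · exact absurd (h1.symm.trans h') ht01.2
    · obtain ⟨α, hα⟩ := hker (y₁ - x₀) (by rw [map_sub, h, hθx, sub_self])
      have h5 : θ' (gi *ᵥ (α • e)) = t := by rw [← hα, Matrix.mulVec_sub, map_sub, h1, hθ'x, sub_zero]
      rcases himg α with h' | h'
      · exact absurd (h5.symm.trans h') ht01.1
      · exact absurd (h5.symm.trans h') ht01.2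
    · exact ⟨y₁, h1, h⟩
    · exact ⟨y₁ + x₀, by rw [Matrix.mulVec_add, map_add, h1, hθ'x, add_zero],
        by rw [map_add, h, hθx]; linear_combination hEE 1⟩
  obtain ⟨p, hp, hpx⟩ : ∃ p, (p = 0 ∨ p = e ∨ p = p₀ ∨ p = e + p₀) ∧ ω • x₀ = y + p := by
    obtain ⟨α, β, hαβ⟩ := hspan (ω • x₀ - y)
    have h1 := congrArg θ hαβ
    rw [map_sub, map_smul, hθx, hyθ, map_add, map_smul, map_smul, hθe, hθx, smul_zero, zero_add, smul_eq_mul,
      mul_one, sub_self, smul_eq_mul, mul_one] at h1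
    rw [← h1, zero_smul, add_zero] at hαβ
    refine ⟨α • e, ?_, by rw [← hαβ, add_sub_cancel]⟩
    rcases hEall α with rfl | rfl | rfl | rfl
    · exact Or.inl (zero_smul _ _)
    · exact Or.inr (Or.inl (one_smul _ _))
    · exact Or.inr (Or.inr (Or.inl rfl))
    · exact Or.inr (Or.inr (Or.inr (by rw [add_smul, one_smul, add_comm])))
  have hy : y = ω • x₀ + p := by rw [hpx, add_assoc, hvv, add_zero]
  -- the extension-linear elements
  obtain ⟨gW, hgW, hW⟩ := hM.inHom θ₁ ((ω + 1) • e) (by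
    rw [map_smul, hθ₁e, smul_eq_mul, mul_one, show 1 + (ω + 1) = ω by linear_combination hEE 1]
    exact hnorm ω hω0)
  obtain ⟨gV, hgV, hV⟩ := hM.inHom θ ((ω + 1) • x₀) (by
    rw [map_smul, hθx, smul_eq_mul, mul_one, show 1 + (ω + 1) = ω by linear_combination hEE 1]
    exact hnorm ω hω0)
  obtain ⟨gS, hgS, hS⟩ := hM.inHom (θ₁ + θ) (e + x₀) (by
    rw [show (1 : E) + (θ₁ + θ) (e + x₀) = 1 by
      rw [LinearMap.add_apply, map_add θ₁, map_add θ, hθ₁e, hθe, hθ₁x, hθx, add_zero, zero_add]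
      linear_combination hEE 1, map_one])
  have hθ₁p : θ₁ p₀ = ω := by rw [hp₀, map_smul, hθ₁e, smul_eq_mul, mul_one]
  have hωe : (ω + 1) • e = e + p₀ := by rw [add_smul, one_smul, add_comm]
  -- the tables
  have Ce : (gC : Mn) *ᵥ e = e := by rw [hCx, hθ'e]; simp
  have Cp : (gC : Mn) *ᵥ p₀ = p₀ + e := by rw [hCx, hθ'p, one_mul]
  have Cx : (gC : Mn) *ᵥ x₀ = x₀ := by rw [hCx, hθ'x]; simp
  have Cy : (gC : Mn) *ᵥ y = y + x₀ := by rw [hCx, hy', hti]
  have De : (gD : Mn) *ᵥ e = e := by rw [hDx, hθ'e]; simp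
  have Dp : (gD : Mn) *ᵥ p₀ = p₀ + x₀ := by rw [hDx, hθ'p, one_mul]
  have Dx : (gD : Mn) *ᵥ x₀ = x₀ := by rw [hDx, hθ'x]; simp
  have Dy : (gD : Mn) *ᵥ y = y + (x₀ + e) := by
    rw [hDx, hy', show t * P.k₁ = P.k₁ + P.i₀ by
      rw [← hti, ← mul_assoc, hsq t ht01.1 ht01.2, add_mul, one_mul], add_smul, Matrix.mulVec_add]
  have Be : (gB : Mn) *ᵥ e = e := by rw [hB, rk_apply, hθe, zero_smul, add_zero]
  have Bp : (gB : Mn) *ᵥ p₀ = p₀ := by rw [hB, rk_apply, hθp, zero_smul, add_zero]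
  have Bx : (gB : Mn) *ᵥ x₀ = x₀ + p₀ := by rw [hB, rk_apply, hθx, one_smul]
  have By' : (gB : Mn) *ᵥ y = y + (e + p₀) := by rw [hB, rk_apply, hyθ, hωp]
  have We : (gW : Mn) *ᵥ e = p₀ := by
    rw [hW, hθ₁e, one_smul, hωe, ← add_assoc, hvv, zero_add]
  have Wp : (gW : Mn) *ᵥ p₀ = e + p₀ := by
    rw [hW, hθ₁p, hωe, smul_add, ← hp₀, hωp, ← add_assoc, hvv, zero_add]
  have Wx : (gW : Mn) *ᵥ x₀ = x₀ := by rw [hW, hθ₁x, zero_smul, add_zero]
  have Ve : (gV : Mn) *ᵥ e = e := by rw [hV, hθe, zero_smul, add_zero]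
  have Vp : (gV : Mn) *ᵥ p₀ = p₀ := by rw [hV, hθp, zero_smul, add_zero]
  have Vx : (gV : Mn) *ᵥ x₀ = y + p := by
    rw [hV, hθx, one_smul, add_smul, one_smul, hpx, add_comm x₀, add_assoc, hvv, add_zero]
  have Vy : (gV : Mn) *ᵥ y = y + x₀ := by
    rw [hV, hyθ, smul_smul, show ω * (ω + 1) = 1 by linear_combination hω + hEE ω, one_smul]
  have Se : (gS : Mn) *ᵥ e = x₀ := by
    rw [hS, LinearMap.add_apply, hθ₁e, hθe, add_zero, one_smul, ← add_assoc, hvv, zero_add]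
  have Sp : (gS : Mn) *ᵥ p₀ = y + p := by
    rw [hS, LinearMap.add_apply, hθ₁p, hθp, add_zero, smul_add, ← hp₀, hpx, ← add_assoc, hvv, zero_add]
  have Sx : (gS : Mn) *ᵥ x₀ = e := by
    rw [hS, LinearMap.add_apply, hθ₁x, hθx, zero_add, one_smul, add_comm e, ← add_assoc, hvv, zero_add]
  have hSω : (gS : Mn) *ᵥ (ω • x₀) = p₀ := by
    rw [hS, LinearMap.add_apply, map_smul, map_smul, hθ₁x, hθx, smul_zero, zero_add, smul_eq_mul, mul_one,
      smul_add, ← hp₀, add_comm p₀, ← add_assoc, hvv, zero_add]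
  have hWω : (gW : Mn) *ᵥ (ω • x₀) = ω • x₀ := by rw [hW, map_smul, hθ₁x, smul_zero, zero_smul, add_zero]
  have hbasis : ∀ x : V, ∃ a b c d : F, x = a • e + b • p₀ + c • x₀ + d • y := by
    intro x
    obtain ⟨α, β, rfl⟩ := hspan x
    have h1 : ∀ α : E, ∃ a b : F, α = a • (1 : E) + b • ω := fun α => by
      rcases hEall α with rfl | rfl | rfl | rfl
      · exact ⟨0, 0, by simp⟩
      · exact ⟨1, 0, by simp⟩
      · exact ⟨0, 1, by simp⟩
      · exact ⟨1, 1, by simp [add_comm]⟩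
    obtain ⟨a, b, rfl⟩ := h1 α
    obtain ⟨c, d, rfl⟩ := h1 β
    have hp2 : ∃ a' b' : F, p = a' • e + b' • p₀ := by
      rcases hp with h | h | h | h <;> subst h
      · exact ⟨0, 0, by simp⟩
      · exact ⟨1, 0, by simp⟩
      · exact ⟨0, 1, by simp⟩
      · exact ⟨1, 1, by simp⟩
    obtain ⟨a', b', hab⟩ := hp2
    refine ⟨a + d * a', b + d * b', c, d, ?_⟩
    rw [add_smul (a • (1 : E)), add_smul (c • (1 : E)), smul_assoc, smul_assoc, smul_assoc, smul_assoc,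
      one_smul, one_smul, hpx, hab, ← hp₀]
    module
  -- conclude from the values of a word on the four vectors
  have finish : ∀ (w : GL ι F) (v : V) (β γ δ : F), w ∈ M → v ≠ 0 → (β ≠ 0 ∨ γ ≠ 0) →
      (w : Mn) *ᵥ v = v → (w : Mn) *ᵥ e = e → (w : Mn) *ᵥ p₀ = p₀ + β • v →
      (w : Mn) *ᵥ x₀ = x₀ + γ • v → (w : Mn) *ᵥ y = y + δ • v →
      ∃ v φ : V, v ≠ 0 ∧ φ ≠ 0 ∧ φ ⬝ᵥ v = 0 ∧ InT M v φ := by
    intro w v β γ δ hw hv hβγ wv we wp wx wy
    set L : V →ₗ[F] V := Matrix.toLin' (w : Mn) - LinearMap.id with hL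
    have hLx : ∀ x, L x = (w : Mn) *ᵥ x - x := fun x => by simp [hL]
    have him : ∀ x, ∃ a : F, L x = a • v := fun x => by
      obtain ⟨a, b, c, d, rfl⟩ := hbasis x
      refine ⟨b * β + c * γ + d * δ, ?_⟩
      rw [hLx]
      simp only [Matrix.mulVec_add, Matrix.mulVec_smul, we, wp, wx, wy]
      module
    have hin : In M L := ⟨w, hw, fun x => by rw [hLx, add_sub_cancel]⟩
    have hne : ∃ z, L z ≠ 0 := by
      rcases hβγ with h | h
      · exact ⟨p₀, by rw [hLx, wp, add_sub_cancel_left]; exact smul_ne_zero h hv⟩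
      · exact ⟨x₀, by rw [hLx, wx, add_sub_cancel_left]; exact smul_ne_zero h hv⟩
    obtain ⟨z, hz⟩ := hne
    obtain ⟨φ, hφ0, hφv, hφ⟩ := hin.toInT hv him (fun x => by
      obtain ⟨a, ha⟩ := him x
      rw [ha, map_smul, hLx, wv, sub_self, smul_zero]) hz
    exact ⟨v, φ, hv, hφ0, hφv, hφ⟩
  have Sy : (gS : Mn) *ᵥ y = p₀ + (gS : Mn) *ᵥ p := by rw [hy, Matrix.mulVec_add, hSω]
  have Wy : (gW : Mn) *ᵥ y = y + (p + (gW : Mn) *ᵥ p) := by
    rw [hy, Matrix.mulVec_add, hWω, add_assoc (ω • x₀), ← add_assoc p, hvv, zero_add]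
  have hvv2 : ∀ x z : V, x + (x + z) = z := fun x z => by rw [← add_assoc, hvv, zero_add]
  have key8 : p = 0 ∨ p = e → ∃ v φ : V, v ≠ 0 ∧ φ ≠ 0 ∧ φ ⬝ᵥ v = 0 ∧ InT M v φ := fun h => by
    refine finish (gB * gD * gW * gV * gC * gD * gB * gS) (e + x₀) 1 0 1
      (mul_mem (mul_mem (mul_mem (mul_mem (mul_mem (mul_mem (mul_mem hgB hgD) hgW) hgV) hgC) hgD) hgB) hgS)
      (fun h0 => hx₀e (Submodule.mem_span_singleton.2 ⟨1, by
        rw [one_smul]; linear_combination (norm := module) hvv x₀ - h0⟩)) (Or.inl one_ne_zero) ?_ ?_ ?_ ?_ ?_ <;>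
    rcases h with h | h <;> subst h <;>
    simp only [Units.val_mul, ← Matrix.mulVec_mulVec, Matrix.mulVec_add, Matrix.mulVec_zero, Se, Sp, Sx, Sy, Be,
      Bp, Bx, By', De, Dp, Dx, Dy, Ce, Cp, Cx, Cy, We, Wp, Wx, Wy, Ve, Vp, Vx, Vy, one_smul, zero_smul,
      add_zero, zero_add] <;>
    simp [add_assoc, add_comm, add_left_comm, hvv, hvv2]
  have key4 : p = p₀ ∨ p = e + p₀ → ∃ v φ : V, v ≠ 0 ∧ φ ≠ 0 ∧ φ ⬝ᵥ v = 0 ∧ InT M v φ := fun h => by
    refine finish (gC * gV * gC * gV) e 0 1 0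
      (mul_mem (mul_mem (mul_mem hgC hgV) hgC) hgV) he0 (Or.inr one_ne_zero) ?_ ?_ ?_ ?_ ?_ <;>
    rcases h with h | h <;> subst h <;>
    simp only [Units.val_mul, ← Matrix.mulVec_mulVec, Matrix.mulVec_add, Ce, Cp, Cx, Cy, Ve, Vp, Vx, Vy,
      one_smul, zero_smul, add_zero] <;>
    simp [add_assoc, add_comm, add_left_comm, hvv, hvv2]
  rcases hp with h | h | h | h
  exacts [key8 (Or.inl h), key8 (Or.inr h), key4 (Or.inl h), key4 (Or.inr h)]

end Cfsg.Agent.Classical.Overfield
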