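import Cfsg.Agent.Lib.Classical.MaxReflClosure

/-!
A proper overgroup of the stabiliser of an orthogonal decomposition relates a vector outside the summands to
the vectors of the summands.
-/

set_option autoImplicit false
set_option linter.unusedSectionVars false
set_option quotPrecheck false

namespace Cfsg.Agent.Classical.MaxTv

open Matrix Module OrthAut

variable {F : Type*} [Field F] [Fintype F] {ι : Type} [Fintype ι] [DecidableEq ι] {Q : QuadraticForm F (ι → F)}

local notation "V" => (ι → F)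
local notation "Mn" => Matrix ι ι F
local notation "B" => QuadraticMap.polar ⇑Q
local notation "OG" => isometryGroup F ⇑Q

/-- Two reflections of one class in a summand, perpendicular to `w`, whose product is not an involution. -/
def Rot (Q : QuadraticForm F (ι → F)) (W : Submodule F (ι → F)) (w : ι → F) : Prop :=
  ∃ x ∈ W, ∃ y ∈ W, Q x ≠ 0 ∧ Q y ≠ 0 ∧ sqSign (Q x) = sqSign (Q y) ∧ QuadraticMap.polar ⇑Q x y ≠ 0 ∧
    x ∉ Submodule.span F {y} ∧ QuadraticMap.polar ⇑Q x w = 0 ∧ QuadraticMap.polar ⇑Q y w = 0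

/-- A nondegenerate plane is spanned by two independent vectors. -/
theorem plane_span {W : Submodule F (ι → F)} (hd : finrank F W = 2) {u w : V} (hu : u ∈ W) (hw : w ∈ W)
    (hu0 : u ≠ 0) (hnot : w ∉ Submodule.span F {u}) {z : V} (hz : z ∈ W) : ∃ r s : F, z = r • u + s • w := by
  have hli : LinearIndependent F ![u, w] := li2 fun r s e => by
    by_cases hs : s = 0
    · subst hs
      rw [zero_smul, add_zero, smul_eq_zero] at e
      exact ⟨e.resolve_right hu0, rfl⟩
    · refine absurd (Submodule.mem_span_singleton.2 ⟨-(s⁻¹ * r), ?_⟩) hnot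
      rw [neg_smul, mul_smul, eq_neg_of_add_eq_zero_left e, smul_neg, neg_neg, inv_smul_smul₀ hs]
  have hspan : Submodule.span F {u, w} = W := by
    refine Submodule.eq_of_le_of_finrank_le (Submodule.span_le.2 ?_) ?_
    · rintro _ (rfl | rfl)
      exacts [hu, hw]
    · have hd2 := finrank_span_eq_card hli
      rw [Matrix.range_cons_cons_empty, Fintype.card_fin] at hd2
      rw [hd2, hd]
  obtain ⟨r, s, e⟩ := Submodule.mem_span_pair.1 (hspan.symm ▸ hz)
  exact ⟨r, s, e.symm⟩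

/-- An anisotropic vector of a non-degenerate plane has an anisotropic perpendicular one in it. -/
theorem exists_perp_aniso {W : Submodule F (ι → F)} (hW : NdQ Q W) (hd : finrank F W = 2) {w : V} (hw : w ∈ W)
    (hQw : Q w ≠ 0) : ∃ u ∈ W, Q u ≠ 0 ∧ B w u = 0 := by
  obtain ⟨u, hu, hu0⟩ := Submodule.exists_mem_ne_zero_of_ne_bot
    (p := W ⊓ LinearMap.ker (QuadraticMap.polarBilin Q w)) fun e => by
      have := finrank_le_inf_ker_add_one W (QuadraticMap.polarBilin Q w)
      rw [e, finrank_bot, hd] at this; omega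
  refine ⟨u, hu.1, fun hQu => ?_, hu.2⟩
  have hnot : w ∉ Submodule.span F {u} := fun h => by
    obtain ⟨r, rfl⟩ := Submodule.mem_span_singleton.1 h
    rw [QuadraticMap.map_smul, hQu, smul_zero] at hQw
    exact hQw rfl
  obtain ⟨z, hz, huz⟩ := hW u hu.1 hu0
  obtain ⟨r, s, rfl⟩ := plane_span hd hu.1 hw hu0 hnot hz
  refine huz ?_
  rw [polar_lin_right, polar_self2, hQu, mul_zero, mul_zero, QuadraticMap.polar_comm _ u w,
    show B w u = 0 from hu.2, mul_zero, add_zero]

/-- The singular vectors of a non-degenerate plane perpendicular to a singular one. -/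
theorem perp_sing {W : Submodule F (ι → F)} (hW : NdQ Q W) (hd : finrank F W = 2) {e : V} (he : e ∈ W) (he0 : e ≠ 0)
    (hQe : Q e = 0) {c : V} (hc : c ∈ W) (hec : B e c = 0) : c ∈ Submodule.span F {e} := by
  by_contra hnot
  obtain ⟨z, hz, hez⟩ := hW e he he0
  obtain ⟨r, s, rfl⟩ := plane_span hd he hc he0 hnot hz
  exact hez (by rw [polar_lin_right, polar_self2, hQe, hec, mul_zero, mul_zero, mul_zero, add_zero])

/-- The product of two non-perpendicular independent reflections is no involution. -/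
theorem refl_pair_sq_ne {x y : V} (hx : Q x ≠ 0) (hy : Q y ≠ 0) (hxy : B x y ≠ 0)
    (hind : x ∉ Submodule.span F {y}) : refl hx * refl hy * (refl hx * refl hy) ≠ 1 := by
  intro h
  obtain ⟨β, hβ⟩ : ∃ β, β = (Q x)⁻¹ * B x y := ⟨_, rfl⟩
  have hβ0 : β ≠ 0 := hβ ▸ mul_ne_zero (inv_ne_zero hx) hxy
  have hu : Q (ogVal (refl hx) *ᵥ y) ≠ 0 := by rw [ogVal_quad]; exact hy
  have h1 : refl hu = refl hy := by
    rw [← refl_conj (refl hx) hy hu, refl_inv]
    have := congrArg (· * refl hy) h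
    simp only [one_mul, mul_assoc, refl_mul_self, mul_one] at this
    rw [mul_assoc]
    exact this
  have h2 : ogVal (refl hu) *ᵥ y = ogVal (refl hy) *ᵥ y := by rw [h1]
  rw [refl_apply hu, refl_apply hy, ogVal_quad, polar_self2 y, show (Q y)⁻¹ * (2 * Q y) = 2 by field_simp,
    refl_apply hx, ← hβ] at h2
  obtain ⟨γ, hγ⟩ : ∃ γ, γ = (Q y)⁻¹ * B (y - β • x) y := ⟨_, rfl⟩
  rw [← hγ] at h2
  have h3 : (γ * β) • x = (γ - 2) • y := by linear_combination (norm := module) h2
  have hγ0 : γ = 0 := by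
    by_contra hne
    refine hind (Submodule.mem_span_singleton.2 ⟨(γ * β)⁻¹ * (γ - 2), ?_⟩)
    rw [mul_smul, ← h3, inv_smul_smul₀ (mul_ne_zero hne hβ0)]
  have hy0 : y ≠ 0 := fun e => hy (by rw [e, QuadraticMap.map_zero])
  rw [hγ0, zero_mul, zero_smul, zero_sub, eq_comm, smul_eq_zero, neg_eq_zero] at h3
  have h4 : B (y - β • x) y = 0 := (mul_eq_zero.1 (hγ.symm.trans hγ0)).resolve_left (inv_ne_zero hy)
  rw [QuadraticMap.polar_sub_left, QuadraticMap.polar_smul_left, polar_self2, h3.resolve_right hy0, zero_mul,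
    zero_sub, neg_eq_zero, smul_eq_mul] at h4
  exact mul_ne_zero hβ0 hxy h4

/-- A quadratic expression with a non-zero coefficient has at most two zeros. -/
theorem card_roots_le_two [DecidableEq F] {a b c : F} (h : a ≠ 0 ∨ b ≠ 0 ∨ c ≠ 0) (s : Finset F) :
    (s.filter fun x => a + b * x + c * (x * x) = 0).card ≤ 2 := by
  by_contra hcon
  obtain ⟨x, y, z, hx, hy, hz, hxy, hxz, hyz⟩ := Finset.two_lt_card_iff.1 (not_le.1 hcon)
  rw [Finset.mem_filter] at hx hy hz
  have e1 : b + c * (x + y) = 0 := (mul_eq_zero.1 (show (x - y) * (b + c * (x + y)) = 0 by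
    linear_combination hx.2 - hy.2)).resolve_left (sub_ne_zero.2 hxy)
  have e2 : b + c * (x + z) = 0 := (mul_eq_zero.1 (show (x - z) * (b + c * (x + z)) = 0 by
    linear_combination hx.2 - hz.2)).resolve_left (sub_ne_zero.2 hxz)
  have hc : c = 0 := (mul_eq_zero.1 (show (y - z) * c = 0 by linear_combination e1 - e2)).resolve_left
    (sub_ne_zero.2 hyz)
  subst hc
  have hb : b = 0 := by linear_combination e1
  subst hb
  have ha : a = 0 := by linear_combination hx.2
  exact (h.resolve_left (fun h' => h' ha)).elim (fun h' => h' rfl) fun h' => h' rfl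

/-- Perpendicular pairs in a non-degenerate plane have one class of products. -/
theorem perp_sign {W : Submodule F (ι → F)} (hd : finrank F W = 2) {w u w' u' : V} (hw : w ∈ W) (hu : u ∈ W)
    (hw' : w' ∈ W) (hu' : u' ∈ W) (hQw : Q w ≠ 0) (hQu : Q u ≠ 0) (hQw' : Q w' ≠ 0) (hQu' : Q u' ≠ 0)
    (h : B w u = 0) (h' : B w' u' = 0) : sqSign (Q w) * sqSign (Q u) = sqSign (Q w') * sqSign (Q u') := by
  by_cases h2 : (2 : F) = 0
  · haveI := CharTwo.of_one_ne_zero_of_two_eq_zero one_ne_zero h2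
    have : ∀ c : F, sqSign c = 1 := fun c =>
      sqSign_of_isSquare (FiniteField.isSquare_of_char_two (ringChar.eq F 2) c)
    simp [this]
  have hw0 : w ≠ 0 := fun e => hQw (by rw [e, QuadraticMap.map_zero])
  have hnot : u ∉ Submodule.span F {w} := fun hm => by
    obtain ⟨c, rfl⟩ := Submodule.mem_span_singleton.1 hm
    rw [QuadraticMap.polar_smul_right, polar_self2, smul_eq_mul] at h
    rcases mul_eq_zero.1 h with e | e
    · exact hQu (by rw [e, zero_smul, QuadraticMap.map_zero])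
    · exact mul_ne_zero h2 hQw e
  obtain ⟨α, β, rfl⟩ := plane_span hd hw hu hw0 hnot hw'
  obtain ⟨γ, δ, rfl⟩ := plane_span hd hw hu hw0 hnot hu'
  rw [quad_lin, h] at hQw' hQu' ⊢
  rw [quad_lin, h]
  simp only [polar_lin_left, polar_lin_right, polar_self2, QuadraticMap.polar_comm _ u w, h] at h'
  rw [← sqSign_mul hQw hQu, ← sqSign_mul hQw' hQu']
  have h0 : α * γ * Q w + β * δ * Q u = 0 :=
    (mul_eq_zero.1 (show (2 : F) * (α * γ * Q w + β * δ * Q u) = 0 by linear_combination h')).resolve_left h2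
  have key : (α * α * Q w + β * β * Q u + α * β * 0) * (γ * γ * Q w + δ * δ * Q u + γ * δ * 0) =
      (α * δ - β * γ) * (α * δ - β * γ) * (Q w * Q u) := by
    linear_combination (α * γ * Q w + β * δ * Q u) * h0
  rw [key, sqSign_smul_sq ?_ (mul_ne_zero hQw hQu)]
  intro e
  refine mul_ne_zero hQw' hQu' ?_
  rw [key, e, mul_zero, zero_mul]

namespace RWr

variable {M : Subgroup (GL ι F)} {t k : ℕ} {D : Fin t → Submodule F (ι → F)}
  {p : Fin t → ((ι → F) →ₗ[F] (ι → F))} (hW : RWr Q M D p k) (hC : Conn Q D) (hT : ClTight Q M D)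
include hW

theorem exists_aniso (a : Fin t) : ∃ x ∈ D a, Q x ≠ 0 := (hW.ndD a).exists_aniso (hW.ne_bot a)

include hC hT

/-- A pull back of a rotation of a summand that preserves the decomposition. -/
theorem rot_back {m : GL ι F} (hm : m ∈ M) {i : Fin t} {x y : V} (hx : x ∈ D i) (hy : y ∈ D i) (hQx : Q x ≠ 0)
    (hQy : Q y ≠ 0) (hxy : B x y ≠ 0) (hind : x ∉ Submodule.span F {y})
    (hg : m⁻¹ * ((refl hQx * refl hQy : OG) : GL ι F) * m ∈ Geo.decompositionStabilizer D) :
    m ∈ Geo.decompositionStabilizer D := by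
  obtain ⟨g, hgdef⟩ : ∃ g, g = m⁻¹ * ((refl hQx * refl hQy : OG) : GL ι F) * m := ⟨_, rfl⟩
  rw [← hgdef] at hg
  obtain ⟨W, hWdef⟩ : ∃ W, W = Submodule.span F {((m⁻¹ : GL ι F) : Mn) *ᵥ x, ((m⁻¹ : GL ι F) : Mn) *ᵥ y} := ⟨_, rfl⟩
  have hgW : ∀ z, (g : Mn) *ᵥ z - z ∈ W := fun z => by rw [hgdef, hWdef]; exact hW.conj_pair_disp hQx hQy z
  have hWd : finrank F W ≤ 2 := by
    classical
    rw [hWdef]
    refine (finrank_span_le_card _).trans ?_
    rw [Set.toFinset_insert, Set.toFinset_singleton]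
    exact Finset.card_le_two
  have hpres : ∀ j, ∀ z ∈ D j, (g : Mn) *ᵥ z ∈ D j := by
    rcases hW.moved hg hWd hgW with h | ⟨h, -⟩
    · exact h
    · exfalso
      refine refl_pair_sq_ne hQx hQy hxy hind (Subtype.ext ?_)
      rw [hgdef, show ∀ a b : GL ι F, a⁻¹ * b * a * (a⁻¹ * b * a) = a⁻¹ * (b * b) * a from
        fun a b => by group, mul_assoc, inv_mul_eq_one] at h
      rw [Subgroup.coe_mul, OneMemClass.coe_one]
      exact mul_right_cancel (h.symm.trans (one_mul m).symm)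
  obtain ⟨z, hz, hyz, hxz⟩ : ∃ z ∈ D i, B y z = 0 ∧ B x z ≠ 0 := by
    by_contra hcon
    push Not at hcon
    exact hind ((hW.ndD i).mem_span_of_perp hx hy fun c hc hcy => by
      rw [QuadraticMap.polar_comm]; exact hcon c hc (by rw [QuadraticMap.polar_comm]; exact hcy))
  obtain ⟨z₀, hz₀⟩ : ∃ z₀, z₀ = -((Q x)⁻¹ * B x z)⁻¹ • ((m⁻¹ : GL ι F) : Mn) *ᵥ z := ⟨_, rfl⟩
  have hw : (g : Mn) *ᵥ z₀ - z₀ = ((m⁻¹ : GL ι F) : Mn) *ᵥ x := by
    have hc : (Q x)⁻¹ * B x z ≠ 0 := mul_ne_zero (inv_ne_zero hQx) hxz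
    rw [hz₀, Matrix.mulVec_smul, hgdef, hW.conj_pair_apply, mulVec_inv_cancel, refl_apply hQy, hyz, mul_zero,
      zero_smul, sub_zero, refl_apply hQx, Matrix.mulVec_sub, Matrix.mulVec_smul, ← smul_sub,
      sub_sub_cancel_left, smul_neg, neg_smul, neg_neg, inv_smul_smul₀ hc]
  have hQw : Q (((m⁻¹ : GL ι F) : Mn) *ᵥ x) ≠ 0 := by rw [hW.iso (inv_mem hm)]; exact hQx
  obtain ⟨j, -, hj⟩ : ∃ j ∈ (Finset.univ : Finset (Fin t)), Q (p j (((m⁻¹ : GL ι F) : Mn) *ᵥ x)) ≠ 0 :=
    Finset.exists_ne_zero_of_sum_ne_zero (by rw [← hW.quad_sum]; exact hQw)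
  refine hW.key hC hT hm (hW.proj.mem j _) hj (b₀ := i) ?_
  have hmW : W ≤ (D i).comap (Matrix.toLin' (m : Mn)) := by
    rw [hWdef, Submodule.span_le]
    rintro _ (rfl | rfl) <;> simp only [SetLike.mem_coe, Submodule.mem_comap, Matrix.toLin'_apply, mulVec_inv_cancel]
    exacts [hx, hy]
  have hpj : p j (((m⁻¹ : GL ι F) : Mn) *ᵥ x) ∈ W := by
    rw [← hw, map_sub, hW.proj_comm hpres]
    exact hgW _
  simpa [Matrix.toLin'_apply] using hmW hpj

/-- An element with a rotation fixing the image of an anisotropic vector of a summand. -/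
theorem stab_of_rot {m : GL ι F} (hm : m ∈ M) {a i : Fin t} {v : V} (hv : v ∈ D a) (hQv : Q v ≠ 0)
    (hR : Rot Q (D i) ((m : Mn) *ᵥ v)) : m ∈ Geo.decompositionStabilizer D := by
  obtain ⟨x, hx, y, hy, hQx, hQy, hs, hxy, hind, hxv, hyv⟩ := hR
  refine hW.rot_back hC hT hm hx hy hQx hQy hxy hind
    (hW.key hC hT (hW.conj_pair_mem hm hx hy hQx hQy hs) hv hQv (b₀ := a) ?_)
  rw [hW.conj_pair_apply, refl_apply hQy, hyv, mul_zero, zero_smul, sub_zero, refl_apply, hxv, mul_zero, zero_smul,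
    sub_zero, inv_mulVec_cancel]
  exact hv

section Two

variable (hk : k = 2) (ht : 4 ≤ t) (hR : ∀ i, ∀ w, p i w = 0 → Rot Q (D i) w)
include hk ht hR

omit hk ht in
theorem stab_of_zero_aniso {m : GL ι F} (hm : m ∈ M) {a i : Fin t} {v : V} (hv : v ∈ D a) (hQv : Q v ≠ 0)
    (h0 : p i ((m : Mn) *ᵥ v) = 0) : m ∈ Geo.decompositionStabilizer D :=
  hW.stab_of_rot hC hT hm hv hQv (hR i _ h0)

/-- An element fixing a non-zero vector of a summand preserves the decomposition. -/
theorem stab_of_fix {m : GL ι F} (hm : m ∈ M) {a : Fin t} {e : V} (he : e ∈ D a) (he0 : e ≠ 0)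
    (hme : (m : Mn) *ᵥ e = e) : m ∈ Geo.decompositionStabilizer D := by
  by_cases hQe : Q e = 0
  swap
  · exact hW.key hC hT hm he hQe (b₀ := a) (by rw [hme]; exact he)
  have hd : finrank F (D a) = 2 := (hW.dim a).trans hk
  obtain ⟨x, hx, y, hy, hQx, hQy, hs, hxy, hind, -, -⟩ := hR a 0 (map_zero _)
  obtain ⟨f, hf, hQf, hef⟩ := (hW.ndD a).exists_partner he he0 hQe
  have hline : ∀ u ∈ D a, Q u = 0 → u ∈ Submodule.span F {e} ∨ u ∈ Submodule.span F {f} := by
    intro u hu hQu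
    obtain ⟨r, s, rfl⟩ := plane_span hd he hf he0 (fun h => by
      obtain ⟨c, rfl⟩ := Submodule.mem_span_singleton.1 h
      rw [QuadraticMap.polar_smul_right, polar_self2, hQe, mul_zero, smul_zero] at hef
      exact zero_ne_one hef) hu
    rw [quad_lin, hQe, hQf, hef] at hQu
    rcases mul_eq_zero.1 (show r * s = 0 by linear_combination hQu) with h | h
    · right; rw [h, zero_smul, zero_add]; exact Submodule.smul_mem _ _ (Submodule.mem_span_singleton_self f)
    · left; rw [h, zero_smul, add_zero]; exact Submodule.smul_mem _ _ (Submodule.mem_span_singleton_self e)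
  have hswap : ∀ v ∈ D a, ∀ (hv : Q v ≠ 0), ∀ u ∈ D a, u ≠ 0 → Q u = 0 →
      ogVal (refl hv) *ᵥ u ∉ Submodule.span F {u} := by
    intro v hvD hv u hu hu0 hQu hmem
    rw [refl_apply] at hmem
    have hBu : B v u ≠ 0 := fun h => by
      obtain ⟨c, rfl⟩ := Submodule.mem_span_singleton.1
        (perp_sing (hW.ndD a) hd hu hu0 hQu hvD (by rw [QuadraticMap.polar_comm]; exact h))
      exact hv (by rw [QuadraticMap.map_smul, hQu, smul_zero])
    have hvu : ((Q v)⁻¹ * B v u) • v ∈ Submodule.span F {u} := by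
      have := Submodule.sub_mem _ (Submodule.mem_span_singleton_self u) hmem
      rwa [sub_sub_cancel] at this
    obtain ⟨c, hc⟩ := Submodule.mem_span_singleton.1 ((Submodule.smul_mem_iff _ (mul_ne_zero (inv_ne_zero hv) hBu)).1 hvu)
    exact hv (by rw [← hc, QuadraticMap.map_smul, hQu, smul_zero])
  obtain ⟨τ, hτ⟩ : ∃ τ, τ = refl hQx * refl hQy := ⟨_, rfl⟩
  have hτa : ∀ z ∈ D a, ogVal τ *ᵥ z ∈ D a := fun z hz => by
    rw [hτ, ogVal_mul, ← Matrix.mulVec_mulVec]; exact hW.refl_block hx hQx a (hW.refl_block hy hQy a hz)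
  obtain ⟨lam, hlam⟩ : ∃ lam : F, ogVal τ *ᵥ e = lam • e := by
    have h1 : ogVal (refl hQy) *ᵥ e ∈ D a := hW.refl_block hy hQy a he
    have h10 : ogVal (refl hQy) *ᵥ e ≠ 0 := fun h => hswap y hy hQy e he he0 hQe (by rw [h]; exact zero_mem _)
    rcases hline _ h1 (by rw [ogVal_quad]; exact hQe) with h | h
    · exact absurd h (hswap y hy hQy e he he0 hQe)
    rcases hline _ (hτa e he) (by rw [ogVal_quad]; exact hQe) with h' | h'
    · obtain ⟨c, hc⟩ := Submodule.mem_span_singleton.1 h'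
      exact ⟨c, hc.symm⟩
    · exfalso
      refine hswap x hx hQx _ h1 h10 (by rw [ogVal_quad]; exact hQe) ?_
      obtain ⟨c, hc⟩ := Submodule.mem_span_singleton.1 h
      have hc0 : c ≠ 0 := fun h0 => h10 (by rw [← hc, h0, zero_smul])
      obtain ⟨c', hc'⟩ := Submodule.mem_span_singleton.1 h'
      refine Submodule.mem_span_singleton.2 ⟨c' * c⁻¹, ?_⟩
      rw [hτ, ogVal_mul, ← Matrix.mulVec_mulVec] at hc'
      rw [← hc', ← hc, smul_smul, mul_assoc, inv_mul_cancel₀ hc0, mul_one]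
  have hlam1 : lam ≠ 1 := fun h1 => by
    rw [h1, one_smul] at hlam
    refine refl_pair_sq_ne hQx hQy hxy hind ?_
    rw [← hτ]
    have hτf : ogVal τ *ᵥ f = f := by
      have hB : B e (ogVal τ *ᵥ f) = 1 := by
        have := isometry_polar (ogVal_quad τ) e f
        rwa [hlam, hef] at this
      rcases hline _ (hτa f hf) (by rw [ogVal_quad]; exact hQf) with h | h <;>
        obtain ⟨c, hc⟩ := Submodule.mem_span_singleton.1 h <;>
        rw [← hc, QuadraticMap.polar_smul_right, smul_eq_mul] at hB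
      · rw [polar_self2, hQe, mul_zero, mul_zero] at hB; exact absurd hB zero_ne_one
      · rw [hef, mul_one] at hB; rw [← hc, hB, one_smul]
    have hfix : ∀ z, ogVal τ *ᵥ z = z := fun z => by
      conv_lhs => rw [← hW.proj.sum z]
      rw [Matrix.mulVec_sum]
      conv_rhs => rw [← hW.proj.sum z]
      refine Finset.sum_congr rfl fun i _ => ?_
      rcases eq_or_ne i a with rfl | hia
      · obtain ⟨r, s, hrs⟩ := plane_span hd he hf he0 (fun h => by
          obtain ⟨c, rfl⟩ := Submodule.mem_span_singleton.1 h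
          rw [QuadraticMap.polar_smul_right, polar_self2, hQe, mul_zero, smul_zero] at hef
          exact zero_ne_one hef) (hW.proj.mem i z)
        rw [hrs, Matrix.mulVec_add, Matrix.mulVec_smul, Matrix.mulVec_smul, hlam, hτf]
      · rw [hτ, ogVal_mul, ← Matrix.mulVec_mulVec, refl_apply hQy, hW.orth a i (Ne.symm hia) y hy _ (hW.proj.mem i z),
          mul_zero, zero_smul, sub_zero, refl_apply, hW.orth a i (Ne.symm hia) x hx _ (hW.proj.mem i z),
          mul_zero, zero_smul, sub_zero]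
    have hτ1 : τ = 1 := ogVal_ext (Matrix.ext_iff_mulVec.2 fun z => by rw [hfix, ogVal_one, Matrix.one_mulVec])
    rw [hτ1, one_mul]
  -- the conjugate of the rotation
  obtain ⟨h, hhdef⟩ : ∃ h, h = m * ((τ : OG) : GL ι F) * m⁻¹ := ⟨_, rfl⟩
  have hhM : h ∈ M := hhdef ▸ mul_mem (mul_mem hm (hτ ▸ (hW.rel_block hx hy hQx hQy hs).2.2)) (inv_mem hm)
  obtain ⟨l, hla⟩ : ∃ l : Fin t, l ≠ a := Fintype.exists_ne_of_one_lt_card (by simp; omega) a
  obtain ⟨q, hq, hQq⟩ := hW.exists_aniso l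
  obtain ⟨i, hia, hil⟩ : ∃ i : Fin t, i ≠ a ∧ i ≠ l := by
    obtain ⟨i, hi⟩ := Finset.exists_mem_notMem_of_card_lt_card (s := ({a, l} : Finset (Fin t))) (t := Finset.univ)
      (lt_of_le_of_lt Finset.card_le_two (by simp; omega))
    exact ⟨i, by simpa using hi.2⟩
  -- the component of the pre-image
  obtain ⟨c, hc⟩ : ∃ c, c = p a (((m⁻¹ : GL ι F) : Mn) *ᵥ q) := ⟨_, rfl⟩
  have hcD : c ∈ D a := hc ▸ hW.proj.mem a _
  have hec : B e c = 0 := by
    rw [hc, ← hW.polar_proj he]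
    have := isometry_polar (hW.iso hm) e (((m⁻¹ : GL ι F) : Mn) *ᵥ q)
    rw [hme, mulVec_inv_cancel] at this
    rw [← this, hW.orth a l (Ne.symm hla) e he q hq]
  obtain ⟨ν, hν⟩ := Submodule.mem_span_singleton.1 (perp_sing (hW.ndD a) hd he he0 hQe hcD hec)
  have hhq : (h : Mn) *ᵥ q = q + (ν * (lam - 1)) • e := by
    have hoff : ∀ z, ogVal τ *ᵥ z = z + (ogVal τ *ᵥ p a z - p a z) := fun z => by
      have h1 : ogVal τ *ᵥ (z - p a z) = z - p a z := by
        rw [hτ, ogVal_mul, ← Matrix.mulVec_mulVec, refl_apply hQy, QuadraticMap.polar_sub_right,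
          hW.polar_proj hy, hW.polar_proj hy (p a z), hW.proj.self a _ (hW.proj.mem a z), sub_self, mul_zero,
          zero_smul, sub_zero, refl_apply, QuadraticMap.polar_sub_right, hW.polar_proj hx,
          hW.polar_proj hx (p a z), hW.proj.self a _ (hW.proj.mem a z), sub_self, mul_zero, zero_smul, sub_zero]
      rw [Matrix.mulVec_sub, sub_eq_iff_eq_add] at h1
      rw [h1]; abel
    rw [hhdef, Units.val_mul, Units.val_mul, ← Matrix.mulVec_mulVec, ← Matrix.mulVec_mulVec]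
    show (m : Mn) *ᵥ (ogVal τ *ᵥ _) = _
    rw [hoff, ← hc, ← hν, Matrix.mulVec_smul, hlam, smul_smul, ← sub_smul, show ν * lam - ν = ν * (lam - 1) by ring,
      Matrix.mulVec_add, Matrix.mulVec_smul, mulVec_inv_cancel, hme]
  have hh : h ∈ Geo.decompositionStabilizer D := hW.stab_of_zero_aniso hC hT hR hhM hq hQq (i := i) (by
    rw [hhq, map_add, map_smul, hW.proj.other i l hil q hq, hW.proj.other i a hia e he, smul_zero, add_zero])
  have hν0 : ν = 0 := by
    by_contra hne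
    obtain ⟨σ, hσ⟩ := hh
    have h1 : (h : Mn) *ᵥ q ∈ D (σ l) := by rw [← hσ l]; exact ⟨q, hq, Matrix.toLin'_apply _ _⟩
    rw [hhq] at h1
    have hμ : ν * (lam - 1) ≠ 0 := mul_ne_zero hne (sub_ne_zero.2 hlam1)
    rcases eq_or_ne (σ l) l with e' | e'
    · rw [e'] at h1
      have h2 := hW.proj.other a l (Ne.symm hla) _ h1
      rw [map_add, map_smul, hW.proj.other a l (Ne.symm hla) q hq, hW.proj.self a e he, zero_add, smul_eq_zero] at h2
      exact he0 (h2.resolve_left hμ)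
    · have h2 := hW.proj.other l (σ l) (Ne.symm e') _ h1
      rw [map_add, map_smul, hW.proj.self l q hq, hW.proj.other l a hla e he, smul_zero, add_zero] at h2
      exact hQq (by rw [h2, QuadraticMap.map_zero])
  have : m⁻¹ ∈ Geo.decompositionStabilizer D := hW.stab_of_zero_aniso hC hT hR (inv_mem hm) hq hQq (i := a)
    (by rw [← hc, ← hν, hν0, zero_smul])
  exact (Subgroup.inv_mem_iff _).1 this

/-- An element sending a non-zero vector of a summand to a vector with a zero component. -/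
theorem stab_of_zero {m : GL ι F} (hm : m ∈ M) {a i : Fin t} {z : V} (hz : z ∈ D a) (hz0 : z ≠ 0)
    (h0 : p i ((m : Mn) *ᵥ z) = 0) : m ∈ Geo.decompositionStabilizer D := by
  obtain ⟨x, hx, y, hy, hQx, hQy, hs, hxy, hind, hxw, hyw⟩ := hR i _ h0
  refine hW.rot_back hC hT hm hx hy hQx hQy hxy hind
    (hW.stab_of_fix hC hT hk ht hR (hW.conj_pair_mem hm hx hy hQx hQy hs) hz hz0 ?_)
  rw [hW.conj_pair_apply, refl_apply hQy, hyw, mul_zero, zero_smul, sub_zero, refl_apply, hxw, mul_zero, zero_smul,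
    sub_zero, inv_mulVec_cancel]

/-- A proper overgroup is not tight: summands of dimension two. -/
theorem not_tight_two (hbig : (∀ a, ∀ z ∈ D a, z ≠ 0 → Q z ≠ 0) ∨ 7 ≤ Fintype.card F) {g : GL ι F} (hg : g ∈ M)
    (hgD : g ∉ Geo.decompositionStabilizer D) : False := by
  classical
  have hne : ∀ a i, ∀ z ∈ D a, z ≠ 0 → p i ((g : Mn) *ᵥ z) ≠ 0 := fun a i z hz hz0 h0 =>
    hgD (hW.stab_of_zero hC hT hk ht hR hg hz hz0 h0)
  obtain ⟨f, hf⟩ : ∃ f : Fin 4 → Fin t, f = Fin.castLE ht := ⟨_, rfl⟩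
  have hfi : Function.Injective f := hf ▸ Fin.castLE_injective ht
  obtain ⟨a, -⟩ : ∃ a : Fin t, a = f 0 := ⟨_, rfl⟩
  obtain ⟨x, hx, hQx⟩ := hW.exists_aniso a
  obtain ⟨y, hy, hQy, hxy⟩ := exists_perp_aniso (hW.ndD a) ((hW.dim a).trans hk) hx hQx
  -- a vector with three anisotropic components
  obtain ⟨v, hv, hQv, S, hS, hSv⟩ : ∃ v ∈ D a, Q v ≠ 0 ∧ ∃ S : Finset (Fin 4), 3 ≤ S.card ∧
      ∀ j ∈ S, Q (p (f j) ((g : Mn) *ᵥ v)) ≠ 0 := by
    rcases hbig with hb | hq
    · exact ⟨x, hx, hQx, Finset.univ, by simp, fun j _ => hb _ _ (hW.proj.mem _ _)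
        (hne a _ x hx fun e => hQx (by rw [e, QuadraticMap.map_zero]))⟩
    obtain ⟨e, he, he0, hexy⟩ : ∃ e ∈ D a, e ≠ 0 ∧ e ∉ Submodule.span F {x} := by
      by_contra hcon
      push Not at hcon
      have hle : D a ≤ Submodule.span F {x} := fun z hz => by
        rcases eq_or_ne z 0 with rfl | hz0
        exacts [zero_mem _, hcon z hz hz0]
      have := (Submodule.finrank_mono hle).trans (finrank_span_le_card ({x} : Set V))
      rw [hW.dim a, hk] at this
      simp at this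
    obtain ⟨L, hL⟩ : ∃ L : Fin 4 → F → F, ∀ j s, L j s = Q (p (f j) ((g : Mn) *ᵥ (e + s • x))) :=
      ⟨fun j s => Q (p (f j) ((g : Mn) *ᵥ (e + s • x))), fun _ _ => rfl⟩
    obtain ⟨T, hT'⟩ : ∃ T, T = (Finset.univ : Finset F).filter fun s => Q (e + s • x) ≠ 0 := ⟨_, rfl⟩
    have hTc : Fintype.card F ≤ T.card + 2 := by
      have h1 := card_roots_le_two (a := Q e) (b := B e x) (c := Q x) (Or.inr (Or.inr hQx)) Finset.univ
      have h2 := Finset.card_filter_add_card_filter_not (s := (Finset.univ : Finset F)) (fun s => Q (e + s • x) ≠ 0)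
      rw [← hT', Finset.card_univ] at h2
      have h3 : ((Finset.univ : Finset F).filter fun s => ¬ Q (e + s • x) ≠ 0).card ≤ 2 := by
        refine le_trans (Finset.card_le_card fun s hs => ?_) h1
        rw [Finset.mem_filter] at hs ⊢
        have h4 : Q (e + s • x) = 0 := not_not.1 hs.2
        rw [quad_add, QuadraticMap.map_smul, QuadraticMap.polar_smul_right, smul_eq_mul, smul_eq_mul] at h4
        exact ⟨hs.1, by linear_combination h4⟩
      omega
    have hroot : ∀ j, (T.filter fun s => L j s = 0).card ≤ 2 := by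
      intro j
      obtain ⟨e', he'⟩ : ∃ e', e' = p (f j) ((g : Mn) *ᵥ e) := ⟨_, rfl⟩
      obtain ⟨x', hx'⟩ : ∃ x', x' = p (f j) ((g : Mn) *ᵥ x) := ⟨_, rfl⟩
      have hLs : ∀ s, L j s = Q e' + B e' x' * s + Q x' * (s * s) := fun s => by
        rw [hL, Matrix.mulVec_add, Matrix.mulVec_smul, map_add, map_smul, ← he', ← hx', quad_add,
          QuadraticMap.map_smul, QuadraticMap.polar_smul_right, smul_eq_mul, smul_eq_mul]
        ring
      simp only [hLs]
      refine card_roots_le_two ?_ T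
      by_contra hz
      push Not at hz
      obtain ⟨hz1, hz2, hz3⟩ := hz
      have hx'0 : x' ≠ 0 := hx' ▸ hne a _ x hx fun e => hQx (by rw [e, QuadraticMap.map_zero])
      have hx'D : x' ∈ D (f j) := hx' ▸ hW.proj.mem _ _
      obtain ⟨c, hc⟩ := Submodule.mem_span_singleton.1 (perp_sing (hW.ndD _) ((hW.dim _).trans hk) hx'D hx'0 hz3
        (he' ▸ hW.proj.mem _ _ : e' ∈ D (f j)) (by rw [QuadraticMap.polar_comm]; exact hz2))
      refine hne a (f j) (e - c • x) (sub_mem he ((D a).smul_mem _ hx)) (sub_ne_zero.2 fun h => hexy ?_) ?_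
      · exact Submodule.mem_span_singleton.2 ⟨c, h.symm⟩
      · rw [Matrix.mulVec_sub, Matrix.mulVec_smul, map_sub, map_smul, ← he', ← hx', hc, sub_self]
    obtain ⟨s, hs, hgood⟩ : ∃ s ∈ T, ((Finset.univ : Finset (Fin 4)).filter fun j => L j s = 0).card ≤ 1 := by
      by_contra hcon
      push Not at hcon
      have h1 : T.card * 2 ≤ ∑ s ∈ T, ((Finset.univ : Finset (Fin 4)).filter fun j => L j s = 0).card := by
        rw [← smul_eq_mul]
        exact T.card_nsmul_le_sum _ 2 fun s hs => hcon s hs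
      have h2 : ∑ s ∈ T, ((Finset.univ : Finset (Fin 4)).filter fun j => L j s = 0).card =
          ∑ j : Fin 4, (T.filter fun s => L j s = 0).card := by
        simp only [Finset.card_filter]
        exact Finset.sum_comm
      have h3 : ∑ j : Fin 4, (T.filter fun s => L j s = 0).card ≤ 8 :=
        (Finset.sum_le_card_nsmul Finset.univ _ 2 fun j _ => hroot j).trans (by simp)
      omega
    rw [hT'] at hs
    refine ⟨e + s • x, add_mem he ((D a).smul_mem _ hx), (Finset.mem_filter.1 hs).2,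
      (Finset.univ : Finset (Fin 4)).filter fun j => L j s ≠ 0, ?_, fun j hj => ?_⟩
    · have := Finset.card_filter_add_card_filter_not (s := (Finset.univ : Finset (Fin 4))) (fun j => L j s ≠ 0)
      simp only [not_not, Finset.card_univ, Fintype.card_fin] at this
      omega
    · rw [← hL]; exact (Finset.mem_filter.1 hj).2
  -- two of them of one class
  obtain ⟨j₁, hj₁, j₂, hj₂, hj12, hj⟩ := Finset.exists_ne_map_eq_of_card_lt_of_maps_to (s := S)
    (t := (Finset.univ : Finset ℤˣ)) (f := fun j => sqSign (Q (p (f j) ((g : Mn) *ᵥ v))))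
    (by simp; omega) (fun j _ => Finset.mem_univ _)
  obtain ⟨i, hi⟩ : ∃ i, i = f j₁ := ⟨_, rfl⟩
  obtain ⟨l, hl⟩ : ∃ l, l = f j₂ := ⟨_, rfl⟩
  have hil : i ≠ l := fun e => hj12 (hfi (hi.symm.trans (e.trans hl)))
  have hQi : Q (p i ((g : Mn) *ᵥ v)) ≠ 0 := hi ▸ hSv j₁ hj₁
  have hQl : Q (p l ((g : Mn) *ᵥ v)) ≠ 0 := hl ▸ hSv j₂ hj₂
  replace hj : sqSign (Q (p i ((g : Mn) *ᵥ v))) = sqSign (Q (p l ((g : Mn) *ᵥ v))) := by rw [hi, hl]; exact hj
  obtain ⟨u, hu, hQu, hwu⟩ := exists_perp_aniso (hW.ndD i) ((hW.dim i).trans hk) (hW.proj.mem i _) hQi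
  obtain ⟨u', hu', hQu', hwu'⟩ := exists_perp_aniso (hW.ndD l) ((hW.dim l).trans hk) (hW.proj.mem l _) hQl
  have hs : sqSign (Q u) = sqSign (Q u') := by
    obtain ⟨m, hm, hmd⟩ := hW.swap i l hil
    have hmi : ∀ z ∈ D i, (m : Mn) *ᵥ z ∈ D l := fun z hz => by simpa using hmd i z hz
    have h1 := perp_sign (Q := Q) ((hW.dim l).trans hk) (hmi _ (hW.proj.mem i _)) (hmi u hu) (hW.proj.mem l _) hu'
      (by rw [hW.iso hm]; exact hQi) (by rw [hW.iso hm]; exact hQu) hQl hQu'
      (by rw [isometry_polar (hW.iso hm)]; exact hwu) hwu'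
    rwa [hW.iso hm, hW.iso hm, hj, mul_right_inj] at h1
  have hum : B u ((g : Mn) *ᵥ v) = 0 := by rw [hW.polar_proj hu, QuadraticMap.polar_comm]; exact hwu
  have hum' : B u' ((g : Mn) *ᵥ v) = 0 := by rw [hW.polar_proj hu', QuadraticMap.polar_comm]; exact hwu'
  obtain ⟨k', hk'⟩ : ∃ k', k' = g⁻¹ * ((OrthAut.refl hQu * OrthAut.refl hQu' : OG) : GL ι F) * g := ⟨_, rfl⟩
  obtain ⟨W, hWdef⟩ : ∃ W, W = Submodule.span F {((g⁻¹ : GL ι F) : Mn) *ᵥ u, ((g⁻¹ : GL ι F) : Mn) *ᵥ u'} :=
    ⟨_, rfl⟩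
  have hgW : ∀ z, (k' : Mn) *ᵥ z - z ∈ W := fun z => by rw [hk', hWdef]; exact hW.conj_pair_disp hQu hQu' z
  have hWd : finrank F W ≤ 2 := by
    rw [hWdef]
    refine (finrank_span_le_card _).trans ?_
    rw [Set.toFinset_insert, Set.toFinset_singleton]
    exact Finset.card_le_two
  have hk's : k' ∈ Geo.decompositionStabilizer D := by
    refine hW.key hC hT (hk' ▸ hW.conj_pair_mem hg hu hu' hQu hQu' hs) hv hQv (b₀ := a) ?_
    rw [hk', hW.conj_pair_apply, refl_apply hQu', hum', mul_zero, zero_smul, sub_zero, refl_apply, hum, mul_zero,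
      zero_smul, sub_zero, inv_mulVec_cancel]
    exact hv
  obtain ⟨w, hw⟩ : ∃ w, w = ((g⁻¹ : GL ι F) : Mn) *ᵥ u := ⟨_, rfl⟩
  have hwW : w ∈ W := hw ▸ hWdef ▸ Submodule.subset_span (by simp)
  obtain ⟨j, hjw⟩ : ∃ j, p j w = 0 := by
    rcases hW.moved hk's hWd hgW with hpres | ⟨-, b, c, -, hWbc⟩
    · -- three components in a plane
      obtain ⟨z, hz⟩ : ∃ z, z = -((Q u)⁻¹ * B u u)⁻¹ • ((g⁻¹ : GL ι F) : Mn) *ᵥ u := ⟨_, rfl⟩
      by_contra hcon
      push Not at hcon
      obtain ⟨z', hz', hz'u⟩ := (hW.ndD i) u hu fun e => hQu (by rw [e, QuadraticMap.map_zero])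
      have hc : (Q u)⁻¹ * B u z' ≠ 0 := mul_ne_zero (inv_ne_zero hQu) hz'u
      have hkz : (k' : Mn) *ᵥ (-((Q u)⁻¹ * B u z')⁻¹ • ((g⁻¹ : GL ι F) : Mn) *ᵥ z') -
          -((Q u)⁻¹ * B u z')⁻¹ • ((g⁻¹ : GL ι F) : Mn) *ᵥ z' = w := by
        rw [Matrix.mulVec_smul, hk', hW.conj_pair_apply, mulVec_inv_cancel, refl_apply hQu',
          hW.orth l i (Ne.symm hil) u' hu' z' hz', mul_zero, zero_smul, sub_zero, refl_apply hQu, Matrix.mulVec_sub,
          Matrix.mulVec_smul, ← smul_sub, sub_sub_cancel_left, smul_neg, neg_smul, neg_neg, inv_smul_smul₀ hc, hw]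
      have hpW : ∀ b, p b w ∈ W := fun b => by
        rw [← hkz, map_sub, hW.proj_comm hpres]; exact hgW _
      let b₃ : Fin 3 → Fin t := fun r => f (Fin.castSucc r)
      have hb₃ : Function.Injective b₃ := hfi.comp (Fin.castSucc_injective _)
      have hli : LinearIndependent F fun r : Fin 3 => (⟨p (b₃ r) w, hpW _⟩ : W) := by
        refine Fintype.linearIndependent_iff.2 fun c hc' r => ?_
        have h1 : ∑ r, c r • p (b₃ r) w = 0 := by simpa using congrArg Subtype.val hc'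
        have h2 := congrArg (p (b₃ r)) h1
        rw [map_sum, map_zero, Finset.sum_eq_single r] at h2
        · rw [map_smul, hW.proj.self _ _ (hW.proj.mem _ _), smul_eq_zero] at h2
          exact h2.resolve_right (hcon _)
        · intro r' _ hr'
          rw [map_smul, hW.proj.other _ _ (fun e => hr' (hb₃ e).symm) _ (hW.proj.mem _ _), smul_zero]
        · simp
      have := hli.fintype_card_le_finrank
      rw [Fintype.card_fin] at this
      omega
    · obtain ⟨j, hj⟩ := Finset.exists_mem_notMem_of_card_lt_card (s := ({b, c} : Finset (Fin t)))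
        (t := Finset.univ) (lt_of_le_of_lt Finset.card_le_two (by simp; omega))
      have hjb : j ≠ b ∧ j ≠ c := by simpa using hj.2
      obtain ⟨x₁, hx₁, y₁, hy₁, e⟩ := Submodule.mem_sup.1 (hWbc hwW)
      exact ⟨j, by rw [← e, map_add, hW.proj.other j b hjb.1 x₁ hx₁, hW.proj.other j c hjb.2 y₁ hy₁, add_zero]⟩
  refine hgD ((Subgroup.inv_mem_iff _).1 (hW.stab_of_zero hC hT hk ht hR (inv_mem hg) hu
    (fun e => hQu (by rw [e, QuadraticMap.map_zero])) (i := j) ?_))
  rw [← hw]; exact hjw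

end Two

/-- A proper overgroup is not tight: every vector has a perpendicular rotation in a summand. -/
theorem not_tight_big (hR : ∀ i w, Rot Q (D i) w) {g : GL ι F} (hg : g ∈ M) (i : Fin t)
    (hgD : g ∉ Geo.decompositionStabilizer D) : False := by
  obtain ⟨v, hv, hQv⟩ := hW.exists_aniso i
  exact hgD (hW.stab_of_rot hC hT hg hv hQv (hR i _))

end RWr

end Cfsg.Agent.Classical.MaxTv
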