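import Cfsg.Agent.Lib.Classical.MaxReflBase

/-!
Characteristic two, summands of dimension at least four: one related vector outside the summands relates all.
-/

set_option autoImplicit false
set_option linter.unusedSectionVars false
set_option quotPrecheck false

namespace Cfsg.Agent.Classical.MaxTv

open Matrix Module OrthAut

variable {F : Type*} [Field F] [Fintype F] {ι : Type} [Fintype ι] [DecidableEq ι] {Q : QuadraticForm F (ι → F)}

local notation "V" => (ι → F)
local notation "Mn" => Matrix ι ι F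
local notation "B" => QuadraticMap.polar ⇑Q

section CharTwoBlocks

variable (h2 : (2 : F) = 0)
include h2

theorem polar_self_zero (x : V) : B x x = 0 := by rw [polar_self2, h2, zero_mul]

theorem add_self_two (x : V) : x + x = 0 := by
  have : (2 : F) • x = 0 := by rw [h2, zero_smul]
  rwa [two_smul] at this

theorem exists_sq_two (c : F) : ∃ r, r * r = c := by
  haveI := CharTwo.of_one_ne_zero_of_two_eq_zero one_ne_zero h2
  obtain ⟨r, hr⟩ := FiniteField.isSquare_of_char_two (ringChar.eq F 2) c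
  exact ⟨r, hr.symm⟩

theorem sqSign_two (c : F) : sqSign c = 1 := by
  obtain ⟨r, hr⟩ := exists_sq_two h2 c
  exact sqSign_of_isSquare ⟨r, hr.symm⟩

omit h2 in
/-- A totally isotropic subspace of a non-degenerate one has at most half its dimension. -/
theorem isotropic_le_half {W U : Submodule F (ι → F)} (hW : NdQ Q W) (hU : U ≤ W)
    (h : ∀ u ∈ U, ∀ v ∈ U, B u v = 0) : 2 * finrank F U ≤ finrank F W := by
  obtain ⟨U', hU'⟩ : ∃ U', U' = U.comap W.subtype := ⟨_, rfl⟩
  obtain ⟨φ, hφ⟩ : ∃ φ : U →ₗ[F] Module.Dual F W,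
      φ = (LinearMap.lcomp F F W.subtype).comp ((QuadraticMap.polarBilin Q).comp U.subtype) := ⟨_, rfl⟩
  have hφv : ∀ (u : U) (w : W), φ u w = B (u : V) w := fun u w => by rw [hφ]; rfl
  have hinj : Function.Injective φ := (injective_iff_map_eq_zero φ).2 fun u hu => by
    by_contra h0
    obtain ⟨z, hz, hne⟩ := hW u (hU u.2) fun e => h0 (Subtype.ext e)
    exact hne (by rw [← hφv u ⟨z, hz⟩, hu]; rfl)
  have hle : LinearMap.range φ ≤ U'.dualAnnihilator := by
    rintro _ ⟨u, rfl⟩
    rw [Submodule.mem_dualAnnihilator]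
    intro w hw
    rw [hU'] at hw
    rw [hφv]
    exact h u u.2 w hw
  have h1 := Submodule.finrank_mono hle
  rw [LinearMap.finrank_range_of_inj hinj] at h1
  have h3 := Subspace.finrank_add_finrank_dualAnnihilator_eq U'
  have h4 : finrank F U' = finrank F U := by
    rw [hU']; exact (Submodule.comapSubtypeEquivOfLe hU).finrank_eq
  omega

variable {W : Submodule F (ι → F)} (hW : NdQ Q W) (hd : 4 ≤ finrank F W)
include hW hd

theorem exists_aniso_perp (w : V) : ∃ x ∈ W, Q x ≠ 0 ∧ B w x = 0 := by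
  by_contra hcon
  push Not at hcon
  have h1 := finrank_le_inf_ker_add_one W (QuadraticMap.polarBilin Q w)
  have h3 := isotropic_le_half hW (inf_le_left : W ⊓ LinearMap.ker (QuadraticMap.polarBilin Q w) ≤ W) fun u hu v hv => by
    have key : ∀ z ∈ W ⊓ LinearMap.ker (QuadraticMap.polarBilin Q w), Q z = 0 := fun z hz =>
      by_contra fun hne => hcon z hz.1 hne hz.2
    rw [QuadraticMap.polar, key _ (add_mem hu hv), key _ hu, key _ hv, sub_zero, sub_zero]
  omega

/-- Every value is taken against a prescribed pairing. -/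
theorem exists_pair_value {z : V} (hz : z ∈ W) (hz0 : z ≠ 0) (v : F) : ∃ x ∈ W, B z x = 1 ∧ Q x = v := by
  obtain ⟨y, hy, hzy⟩ := hW z hz hz0
  obtain ⟨x₀, hx₀⟩ : ∃ x₀, x₀ = (B z y)⁻¹ • y := ⟨_, rfl⟩
  have hx₀W : x₀ ∈ W := hx₀ ▸ W.smul_mem _ hy
  have hzx : B z x₀ = 1 := by rw [hx₀, QuadraticMap.polar_smul_right, smul_eq_mul, inv_mul_cancel₀ hzy]
  obtain ⟨U, hU⟩ : ∃ U, U = W ⊓ LinearMap.ker (QuadraticMap.polarBilin Q z) ⊓ LinearMap.ker (QuadraticMap.polarBilin Q x₀) :=
    ⟨_, rfl⟩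
  have hmem : ∀ u, u ∈ U → u ∈ W ∧ B z u = 0 ∧ B x₀ u = 0 := fun u hu => by
    rw [hU] at hu; exact ⟨hu.1.1, hu.1.2, hu.2⟩
  have hUnd : NdQ Q U := fun w hw hw0 => by
    obtain ⟨hwW, hzw, hxw⟩ := hmem w hw
    obtain ⟨y', hy', hwy⟩ := hW w hwW hw0
    refine ⟨y' - B x₀ y' • z - B z y' • x₀, ?_, ?_⟩
    · rw [hU]
      refine ⟨⟨sub_mem (sub_mem hy' (W.smul_mem _ hz)) (W.smul_mem _ hx₀W), ?_⟩, ?_⟩
      · show B z _ = 0
        simp [QuadraticMap.polar_sub_right, QuadraticMap.polar_smul_right, polar_self_zero h2, hzx]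
      · show B x₀ _ = 0
        simp [QuadraticMap.polar_sub_right, QuadraticMap.polar_smul_right, polar_self_zero h2,
          QuadraticMap.polar_comm _ x₀ z, hzx]
    · simpa [QuadraticMap.polar_sub_right, QuadraticMap.polar_smul_right, QuadraticMap.polar_comm _ w z, hzw,
        QuadraticMap.polar_comm _ w x₀, hxw] using hwy
  have hUne : U ≠ ⊥ := fun e => by
    have h1 := finrank_le_inf_ker_add_one W (QuadraticMap.polarBilin Q z)
    have h1' := finrank_le_inf_ker_add_one (W ⊓ LinearMap.ker (QuadraticMap.polarBilin Q z)) (QuadraticMap.polarBilin Q x₀)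
    rw [← hU, e, finrank_bot] at h1'
    omega
  obtain ⟨u, hu, hQu⟩ := hUnd.exists_aniso hUne
  obtain ⟨r, hr⟩ := exists_sq_two h2 ((v - Q x₀) / Q u)
  obtain ⟨huW, hzu, hxu⟩ := hmem u hu
  refine ⟨x₀ + r • u, add_mem hx₀W (W.smul_mem _ huW), ?_, ?_⟩
  · rw [QuadraticMap.polar_add_right, QuadraticMap.polar_smul_right, hzx, hzu, smul_zero, add_zero]
  · rw [quad_add, QuadraticMap.map_smul, QuadraticMap.polar_smul_right, hxu, smul_zero, add_zero, smul_eq_mul, hr,
      div_mul_cancel₀ _ hQu, add_sub_cancel]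

variable (hplus : finrank F W = 4 → Fintype.card F = 2 →
  ∀ U ≤ W, (∀ u ∈ U, Q u = 0) → finrank F U ≤ 1)
include hplus

/-- An anisotropic vector pairing with two given vectors. -/
theorem exists_common {a b : V} (ha : a ∈ W) (hb : b ∈ W) (ha0 : a ≠ 0) (hb0 : b ≠ 0) :
    ∃ x ∈ W, Q x ≠ 0 ∧ B x a ≠ 0 ∧ B x b ≠ 0 := by
  by_cases hab : b ∈ Submodule.span F {a}
  · obtain ⟨c, rfl⟩ := Submodule.mem_span_singleton.1 hab
    obtain ⟨x, hx, hax, hQx⟩ := exists_pair_value h2 hW hd ha ha0 1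
    refine ⟨x, hx, by rw [hQx]; exact one_ne_zero, by rw [QuadraticMap.polar_comm, hax]; exact one_ne_zero, ?_⟩
    rw [QuadraticMap.polar_smul_right, QuadraticMap.polar_comm, hax, smul_eq_mul, mul_one]
    exact fun h => hb0 (by rw [h, zero_smul])
  by_cases hba : a ∈ Submodule.span F {b}
  · obtain ⟨c, rfl⟩ := Submodule.mem_span_singleton.1 hba
    exact absurd (Submodule.mem_span_singleton.2 ⟨c⁻¹, by rw [inv_smul_smul₀ fun h => ha0 (by rw [h, zero_smul])]⟩) hab
  obtain ⟨c₁, hc₁, hc₁a, hc₁b⟩ : ∃ c ∈ W, B c a = 0 ∧ B c b ≠ 0 := by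
    by_contra hcon
    push Not at hcon
    exact hab (hW.mem_span_of_perp hb ha hcon)
  obtain ⟨c₂, hc₂, hc₂b, hc₂a⟩ : ∃ c ∈ W, B c b = 0 ∧ B c a ≠ 0 := by
    by_contra hcon
    push Not at hcon
    exact hba (hW.mem_span_of_perp ha hb hcon)
  obtain ⟨x₀, hx₀⟩ : ∃ x₀, x₀ = (B c₂ a)⁻¹ • c₂ + (B c₁ b)⁻¹ • c₁ := ⟨_, rfl⟩
  have hx₀W : x₀ ∈ W := hx₀ ▸ add_mem (W.smul_mem _ hc₂) (W.smul_mem _ hc₁)
  have hxa : B x₀ a = 1 := by
    rw [hx₀, QuadraticMap.polar_add_left, QuadraticMap.polar_smul_left, QuadraticMap.polar_smul_left, hc₁a, smul_zero,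
      add_zero, smul_eq_mul, inv_mul_cancel₀ hc₂a]
  have hxb : B x₀ b = 1 := by
    rw [hx₀, QuadraticMap.polar_add_left, QuadraticMap.polar_smul_left, QuadraticMap.polar_smul_left, hc₂b, smul_zero,
      zero_add, smul_eq_mul, inv_mul_cancel₀ hc₁b]
  by_contra hcon
  push Not at hcon
  obtain ⟨U, hU⟩ : ∃ U, U = W ⊓ LinearMap.ker (QuadraticMap.polarBilin Q a) ⊓ LinearMap.ker (QuadraticMap.polarBilin Q b) :=
    ⟨_, rfl⟩
  have hUd : finrank F W ≤ finrank F U + 2 := by
    have h1 := finrank_le_inf_ker_add_one W (QuadraticMap.polarBilin Q a)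
    have h1' := finrank_le_inf_ker_add_one (W ⊓ LinearMap.ker (QuadraticMap.polarBilin Q a)) (QuadraticMap.polarBilin Q b)
    rw [← hU] at h1'
    omega
  have hmem : ∀ u, u ∈ U → u ∈ W ∧ B u a = 0 ∧ B u b = 0 := fun u hu => by
    rw [hU] at hu
    exact ⟨hu.1.1, by rw [QuadraticMap.polar_comm]; exact hu.1.2, by rw [QuadraticMap.polar_comm]; exact hu.2⟩
  have hall : ∀ r : F, r ≠ 0 → ∀ u ∈ U, Q (r • x₀ + u) = 0 := fun r hr u hu => by
    by_contra hne
    obtain ⟨huW, hua, hub⟩ := hmem u hu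
    refine absurd (hcon _ (add_mem (W.smul_mem r hx₀W) huW) hne ?_) ?_
    · rw [QuadraticMap.polar_add_left, QuadraticMap.polar_smul_left, hxa, hua, add_zero, smul_eq_mul, mul_one]
      exact hr
    · rw [QuadraticMap.polar_add_left, QuadraticMap.polar_smul_left, hxb, hub, add_zero, smul_eq_mul, mul_one]
      exact hr
  have hQ₀ : Q x₀ = 0 := by
    have := hall 1 one_ne_zero 0 U.zero_mem
    rwa [one_smul, add_zero] at this
  have hlin : ∀ u ∈ U, ∀ r : F, r ≠ 0 → Q u + r * B x₀ u = 0 := fun u hu r hr => by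
    have := hall r hr u hu
    rwa [quad_add, QuadraticMap.map_smul, hQ₀, smul_zero, zero_add, QuadraticMap.polar_smul_left, smul_eq_mul] at this
  have hiso : ∀ u ∈ U, ∀ v ∈ U, B u v = 0 := fun u hu v hv => by
    have e1 := hlin _ (add_mem hu hv) 1 one_ne_zero
    rw [quad_add, QuadraticMap.polar_add_right] at e1
    linear_combination e1 - hlin u hu 1 one_ne_zero - hlin v hv 1 one_ne_zero
  obtain ⟨T, hTdef⟩ : ∃ T, T = U ⊓ LinearMap.ker (QuadraticMap.polarBilin Q x₀) := ⟨_, rfl⟩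
  have hT1 : finrank F U ≤ finrank F T + 1 := hTdef ▸ finrank_le_inf_ker_add_one U _
  have hTx : ∀ v ∈ T ⊔ Submodule.span F {x₀}, Q v = 0 := fun v hv => by
    obtain ⟨u, hu, y, hy, rfl⟩ := Submodule.mem_sup.1 hv
    obtain ⟨r, rfl⟩ := Submodule.mem_span_singleton.1 hy
    rw [hTdef] at hu
    have hux : B x₀ u = 0 := hu.2
    have hQu : Q u = 0 := by
      have := hlin u hu.1 1 one_ne_zero
      rwa [hux, mul_zero, add_zero] at this
    rw [quad_add, hQu, QuadraticMap.map_smul, hQ₀, QuadraticMap.polar_smul_right, QuadraticMap.polar_comm _ u x₀, hux,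
      smul_zero, smul_zero, add_zero, add_zero]
  have hdis : T ⊓ Submodule.span F {x₀} = ⊥ := by
    rw [eq_bot_iff]
    rintro v ⟨hv, hv'⟩
    obtain ⟨r, rfl⟩ := Submodule.mem_span_singleton.1 hv'
    rw [hTdef] at hv
    have := (hmem _ hv.1).2.1
    rw [QuadraticMap.polar_smul_left, hxa, smul_eq_mul, mul_one] at this
    simp [this]
  have hTd : finrank F (T ⊔ Submodule.span F {x₀} : Submodule F V) = finrank F T + 1 := by
    have h0 : x₀ ≠ 0 := fun e => by rw [e, QuadraticMap.polar_zero_left] at hxa; exact zero_ne_one hxa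
    have := Submodule.finrank_sup_add_finrank_inf_eq T (Submodule.span F {x₀})
    rw [hdis, finrank_bot, finrank_span_singleton h0] at this
    omega
  have hTW : T ⊔ Submodule.span F {x₀} ≤ W := sup_le
    (fun v hv => by rw [hTdef] at hv; exact (hmem v hv.1).1) ((Submodule.span_singleton_le_iff_mem _ _).2 hx₀W)
  have hbound := isotropic_le_half hW hTW fun u hu v hv => by
    rw [QuadraticMap.polar, hTx _ (add_mem hu hv), hTx _ hu, hTx _ hv, sub_zero, sub_zero]
  by_cases hq : Fintype.card F = 2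
  · rcases Nat.eq_or_lt_of_le hd with h4 | h4
    · have := hplus h4.symm hq _ hTW hTx; omega
    · have h3 := isotropic_le_half hW (U := U) (fun v hv => (hmem v hv).1) hiso
      omega
  · obtain ⟨r, hr0, hr1⟩ := (genQ_of_card (ι := ι) (Or.inl hq)).elim id fun h => by
      by_contra hcon'
      push Not at hcon'
      refine hq (le_antisymm ?_ Fintype.one_lt_card)
      classical
      have hsub : (Finset.univ : Finset F) ⊆ {0, 1} := fun x _ => by
        by_cases hx : x = 0 <;> simp [hx, hcon' x]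
      exact (Finset.card_le_card hsub).trans Finset.card_le_two
    have hUx : ∀ u ∈ U, B x₀ u = 0 := fun u hu =>
      (mul_eq_zero.1 (show (r - 1) * B x₀ u = 0 by linear_combination hlin u hu r hr0 - hlin u hu 1 one_ne_zero)).resolve_left
        (sub_ne_zero.2 hr1)
    have : T = U := by
      rw [hTdef]; exact inf_eq_left.2 fun u hu => hUx u hu
    rw [this] at hbound hTd
    omega

/-- Two non-perpendicular anisotropic vectors perpendicular to a given one. -/
theorem exists_rot (w : V) : Rot Q W w := by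
  classical
  obtain ⟨W₁, hW₁⟩ : ∃ W₁, W₁ = W ⊓ LinearMap.ker (QuadraticMap.polarBilin Q w) := ⟨_, rfl⟩
  have hW₁d : finrank F W ≤ finrank F W₁ + 1 := hW₁ ▸ finrank_le_inf_ker_add_one W _
  have hmem : ∀ x, x ∈ W₁ → x ∈ W ∧ B x w = 0 := fun x hx => by
    rw [hW₁] at hx; exact ⟨hx.1, by rw [QuadraticMap.polar_comm]; exact hx.2⟩
  have fin : ∀ x ∈ W₁, ∀ y ∈ W₁, Q x ≠ 0 → Q y ≠ 0 → B x y ≠ 0 → Rot Q W w := fun x hx y hy hQx hQy hxy =>
    ⟨x, (hmem x hx).1, y, (hmem y hy).1, hQx, hQy, by rw [sqSign_two h2, sqSign_two h2], hxy, fun h => by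
      obtain ⟨c, rfl⟩ := Submodule.mem_span_singleton.1 h
      exact hxy (by rw [QuadraticMap.polar_smul_left, polar_self_zero h2, smul_zero]), (hmem x hx).2, (hmem y hy).2⟩
  obtain ⟨x', hx', y', hy', hxy⟩ : ∃ x ∈ W₁, ∃ y ∈ W₁, B x y ≠ 0 := by
    by_contra hcon
    push Not at hcon
    have := isotropic_le_half hW (fun v hv => (hmem v hv).1) hcon
    omega
  obtain ⟨Z, hZ⟩ : ∃ Z, Z = W₁ ⊓ LinearMap.ker (QuadraticMap.polarBilin Q x') ⊓ LinearMap.ker (QuadraticMap.polarBilin Q y') :=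
    ⟨_, rfl⟩
  by_cases hz : ∃ z ∈ Z, Q z ≠ 0
  · obtain ⟨z, hz, hQz⟩ := hz
    rw [hZ] at hz
    have hxz : B x' z = 0 := hz.1.2
    have hyz : B y' z = 0 := hz.2
    obtain ⟨μ, hμ⟩ : ∃ μ : F, Q (x' + μ • z) ≠ 0 := by
      by_cases h : Q x' = 0
      · exact ⟨1, by rw [one_smul, quad_add, h, hxz, zero_add, add_zero]; exact hQz⟩
      · exact ⟨0, by rwa [zero_smul, add_zero]⟩
    obtain ⟨ν, hν⟩ : ∃ ν : F, Q (y' + ν • z) ≠ 0 := by
      by_cases h : Q y' = 0
      · exact ⟨1, by rw [one_smul, quad_add, h, hyz, zero_add, add_zero]; exact hQz⟩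
      · exact ⟨0, by rwa [zero_smul, add_zero]⟩
    refine fin _ (add_mem hx' (W₁.smul_mem _ hz.1.1)) _ (add_mem hy' (W₁.smul_mem _ hz.1.1)) hμ hν ?_
    simpa [QuadraticMap.polar_add_left, QuadraticMap.polar_add_right, QuadraticMap.polar_smul_left,
      QuadraticMap.polar_smul_right, hxz, QuadraticMap.polar_comm _ z y', hyz, polar_self_zero h2] using hxy
  push Not at hz
  by_cases hxy2 : Q x' ≠ 0 ∧ Q y' ≠ 0
  · exact fin _ hx' _ hy' hxy2.1 hxy2.2 hxy
  -- a singular vector of the pair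
  obtain ⟨s, hs, hsZ⟩ : ∃ s ∈ W₁, Q s = 0 ∧ (s ≠ 0 ∧ s ∉ Z ∧ ∀ z ∈ Z, B s z = 0) := by
    have hxZ : x' ∉ Z := fun h => by
      rw [hZ] at h
      exact hxy (by rw [QuadraticMap.polar_comm]; exact h.2)
    have hyZ : y' ∉ Z := fun h => by rw [hZ] at h; exact hxy h.1.2
    rcases not_and_or.1 hxy2 with h | h
    · exact ⟨x', hx', not_not.1 h, fun e => hxy (by rw [e, QuadraticMap.polar_zero_left]), hxZ,
        fun z hz' => by rw [hZ] at hz'; exact hz'.1.2⟩
    · exact ⟨y', hy', not_not.1 h, fun e => hxy (by rw [e, QuadraticMap.polar_zero_right]), hyZ,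
        fun z hz' => by rw [hZ] at hz'; exact hz'.2⟩
  obtain ⟨hQs, hs0, hsZ', hsperp⟩ := hsZ
  have hS : ∀ v ∈ Z ⊔ Submodule.span F {s}, Q v = 0 := fun v hv => by
    obtain ⟨u, hu, y, hy, rfl⟩ := Submodule.mem_sup.1 hv
    obtain ⟨r, rfl⟩ := Submodule.mem_span_singleton.1 hy
    rw [quad_add, hz u hu, QuadraticMap.map_smul, hQs, QuadraticMap.polar_smul_right, QuadraticMap.polar_comm _ u s,
      hsperp u hu, smul_zero, smul_zero, add_zero, add_zero]
  have hSW : Z ⊔ Submodule.span F {s} ≤ W := sup_le (fun v hv => by rw [hZ] at hv; exact (hmem v hv.1.1).1)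
    ((Submodule.span_singleton_le_iff_mem _ _).2 (hmem s hs).1)
  have hSd : finrank F (Z ⊔ Submodule.span F {s} : Submodule F V) = finrank F Z + 1 := by
    have := Submodule.finrank_sup_add_finrank_inf_eq Z (Submodule.span F {s})
    rw [show Z ⊓ Submodule.span F {s} = ⊥ from eq_bot_iff.2 fun v ⟨hv, hv'⟩ => by
      obtain ⟨r, rfl⟩ := Submodule.mem_span_singleton.1 hv'
      rcases eq_or_ne r 0 with rfl | hr
      · simp
      · exact absurd ((Z.smul_mem_iff hr).1 hv) hsZ', finrank_bot, finrank_span_singleton hs0] at this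
    omega
  have hbound := isotropic_le_half hW hSW fun u hu v hv => by
    rw [QuadraticMap.polar, hS _ (add_mem hu hv), hS _ hu, hS _ hv, sub_zero, sub_zero]
  have hZd : finrank F W₁ ≤ finrank F Z + 2 := by
    have h1 := finrank_le_inf_ker_add_one W₁ (QuadraticMap.polarBilin Q x')
    have h1' := finrank_le_inf_ker_add_one (W₁ ⊓ LinearMap.ker (QuadraticMap.polarBilin Q x')) (QuadraticMap.polarBilin Q y')
    rw [← hZ] at h1'
    omega
  have h4 : finrank F W = 4 := by omega
  by_cases hq : Fintype.card F = 2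
  · have := hplus h4 hq _ hSW hS; omega
  -- a field of at least four elements
  obtain ⟨T, hT⟩ : ∃ T, T = (Finset.univ : Finset F).filter fun c => ¬ Q x' + B x' y' * c + Q y' * (c * c) = 0 := ⟨_, rfl⟩
  have hcard : 4 ≤ Fintype.card F := by
    haveI := CharTwo.of_one_ne_zero_of_two_eq_zero one_ne_zero h2
    have h1 : Fintype.card F % 2 = 0 := FiniteField.even_card_of_char_two (ringChar.eq F 2)
    have h3 : 1 < Fintype.card F := Fintype.one_lt_card
    omega
  have hT2 : 1 < T.card := by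
    have h1 := card_roots_le_two (a := Q x') (b := B x' y') (c := Q y') (Or.inr (Or.inl hxy)) Finset.univ
    have h3 := Finset.card_filter_add_card_filter_not (s := (Finset.univ : Finset F))
      (fun c => Q x' + B x' y' * c + Q y' * (c * c) = 0)
    rw [← hT, Finset.card_univ] at h3
    omega
  obtain ⟨c, hc, d, hd', hcd⟩ := Finset.one_lt_card.1 hT2
  have hv : ∀ c ∈ T, Q (x' + c • y') ≠ 0 := fun c hc => by
    rw [hT, Finset.mem_filter] at hc
    rw [quad_add, QuadraticMap.map_smul, QuadraticMap.polar_smul_right, smul_eq_mul, smul_eq_mul]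
    intro e
    exact hc.2 (by linear_combination e)
  refine fin _ (add_mem hx' (W₁.smul_mem c hy')) _ (add_mem hx' (W₁.smul_mem d hy')) (hv c hc) (hv d hd') ?_
  simp only [QuadraticMap.polar_add_left, QuadraticMap.polar_add_right, QuadraticMap.polar_smul_left,
    QuadraticMap.polar_smul_right, polar_self_zero h2, QuadraticMap.polar_comm _ y' x', smul_eq_mul, mul_zero]
  intro e
  refine mul_ne_zero (sub_ne_zero.2 hcd) hxy ?_
  linear_combination e - d * B x' y' * h2

end CharTwoBlocks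

namespace RWr

variable {M : Subgroup (GL ι F)} {t k : ℕ} {D : Fin t → Submodule F (ι → F)}
  {p : Fin t → ((ι → F) →ₗ[F] (ι → F))} (hW : RWr Q M D p k) (h2 : (2 : F) = 0) (hk : 4 ≤ k)
  (hplus : k = 4 → Fintype.card F = 2 → ∀ i, ∀ U ≤ D i, (∀ u ∈ U, Q u = 0) → finrank F U ≤ 1)
include hW h2 hk hplus

omit hplus in
theorem four_le (i : Fin t) : 4 ≤ finrank F (D i) := (hW.dim i).symm ▸ hk

omit h2 hk in
theorem plus_block (i : Fin t) : finrank F (D i) = 4 → Fintype.card F = 2 →
    ∀ U ≤ D i, (∀ u ∈ U, Q u = 0) → finrank F U ≤ 1 := fun h hq => hplus ((hW.dim i).symm.trans h) hq i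

theorem conn_big : Conn Q D := fun a x hx hQx => by
  refine ⟨fun y hy hQy _ => ?_, fun z hz => ?_⟩
  · obtain ⟨u, hu, hQu, hux, huy⟩ := exists_common h2 (hW.ndD a) (hW.four_le h2 hk a) (hW.plus_block hplus a) hx hy
      (fun e => hQx (by rw [e, QuadraticMap.map_zero])) fun e => hQy (by rw [e, QuadraticMap.map_zero])
    exact ⟨u, hu, hQu, by rw [sqSign_two h2, sqSign_two h2], hux, huy⟩
  · have mem : ∀ w ∈ D a, Q w ≠ 0 →
        w ∈ Submodule.span F {z | z ∈ D a ∧ Q z ≠ 0 ∧ sqSign (Q z) = sqSign (Q x)} := fun w hw hQw =>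
      Submodule.subset_span ⟨hw, hQw, by rw [sqSign_two h2, sqSign_two h2]⟩
    by_cases hQz : Q z = 0
    · obtain ⟨u, hu, hQu, hzu⟩ := exists_aniso_perp h2 (hW.ndD a) (hW.four_le h2 hk a) z
      rw [show z = (z + u) - u by abel]
      exact sub_mem (mem _ (add_mem hz hu) (by rw [quad_add, hQz, hzu, zero_add, add_zero]; exact hQu)) (mem u hu hQu)
    · exact mem z hz hQz

theorem rot_big (i : Fin t) (w : V) : Rot Q (D i) w :=
  exists_rot h2 (hW.ndD i) (hW.four_le h2 hk i) (hW.plus_block hplus i) w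

omit hplus in
/-- A reflection of one component. -/
theorem incl_refl_comp {z : V} (hz : InCl Q M D z) {i : Fin t} {x : V} (hx : x ∈ D i) (hQx : Q x ≠ 0)
    {j : Fin t} (hji : j ≠ i) : InCl Q M D (z - ((Q x)⁻¹ * B x z) • x) := by
  obtain ⟨y, hy, hQy, hzy⟩ := exists_aniso_perp h2 (hW.ndD j) (hW.four_le h2 hk j) z
  have hm := (hW.rel_block hx hy hQx hQy (by rw [sqSign_two h2, sqSign_two h2])).2.2
  have hmd : ∀ l, ∀ u ∈ D l, (((OrthAut.refl hQx * OrthAut.refl hQy : isometryGroup F ⇑Q) : GL ι F) : Mn) *ᵥ u ∈ D (id l) :=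
    fun l u hu => by
    show ogVal (OrthAut.refl hQx * OrthAut.refl hQy) *ᵥ u ∈ D l
    rw [ogVal_mul, ← Matrix.mulVec_mulVec]
    exact hW.refl_block hx hQx l (hW.refl_block hy hQy l hu)
  have := hW.incl_stab hm id hmd hz
  change InCl Q M D (ogVal (OrthAut.refl hQx * OrthAut.refl hQy) *ᵥ z) at this
  rwa [ogVal_mul, ← Matrix.mulVec_mulVec, refl_apply hQy, QuadraticMap.polar_comm _ y z, hzy, mul_zero, zero_smul,
    sub_zero, refl_apply] at this

/-- A component may be replaced by any of the same value. -/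
theorem incl_reach {z : V} (hz : InCl Q M D z) {i : Fin t} {b : V} (hb : b ∈ D i) (hb0 : b ≠ 0) (ha0 : p i z ≠ 0)
    (hQb : Q b = Q (p i z)) {j : Fin t} (hji : j ≠ i) : InCl Q M D (z - p i z + b) := by
  have key : ∀ z, InCl Q M D z → ∀ b ∈ D i, Q b = Q (p i z) → B (p i z) b ≠ 0 → InCl Q M D (z - p i z + b) := by
    intro z hz b hb hQb hab
    obtain ⟨x, hx⟩ : ∃ x, x = p i z + b := ⟨_, rfl⟩
    have hxD : x ∈ D i := hx ▸ add_mem (hW.proj.mem i z) hb
    have hQx : Q x = B (p i z) b := by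
      rw [hx, quad_add, hQb]; linear_combination Q (p i z) * h2
    have := hW.incl_refl_comp h2 hk hz hxD (hQx ▸ hab) hji
    have hBx : B x z = B (p i z) b := by
      rw [hW.polar_proj hxD, hx, QuadraticMap.polar_add_left, polar_self_zero h2, zero_add, QuadraticMap.polar_comm]
    rw [hBx, hQx, inv_mul_cancel₀ hab, one_smul, hx] at this
    rwa [show z - p i z + b = z - (p i z + b) + (b + b) by abel, add_self_two h2, add_zero]
  by_cases hab : B (p i z) b = 0
  swap
  · exact key z hz b hb hQb hab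
  obtain ⟨x, hx, hQx, hxa, hxb⟩ := exists_common h2 (hW.ndD i) (hW.four_le h2 hk i) (hW.plus_block hplus i)
    (hW.proj.mem i z) hb ha0 hb0
  have h1 := hW.incl_refl_comp h2 hk hz hx hQx hji
  obtain ⟨z', hz'⟩ : ∃ z', z' = z - ((Q x)⁻¹ * B x z) • x := ⟨_, rfl⟩
  rw [← hz'] at h1
  have hpz : p i z' = p i z - ((Q x)⁻¹ * B x z) • x := by rw [hz', map_sub, map_smul, hW.proj.self i x hx]
  have hQ' : Q (p i z') = Q (p i z) := by
    rw [hpz, show B x z = B x (p i z) from hW.polar_proj hx z, ← refl_apply hQx, ogVal_quad]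
  have h3 := key z' h1 b hb (hQb.trans hQ'.symm) (by
    rw [hpz, QuadraticMap.polar_sub_left, QuadraticMap.polar_smul_left, hab, zero_sub, neg_ne_zero, smul_eq_mul,
      hW.polar_proj hx z]
    exact mul_ne_zero (mul_ne_zero (inv_ne_zero hQx) hxa) hxb)
  rwa [show z - p i z + b = z' - p i z' + b by rw [hpz, hz']; abel]

/-- A related vector outside the summands relates every anisotropic vector of value one. -/
theorem incl_all {z₀ : V} (hz₀ : InCl Q M D z₀) (hnb : ∀ i, z₀ ∉ D i) {v : V} (hv : Q v ≠ 0) : InCl Q M D v := by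
  classical
  -- normalise
  have hQ0 := hW.incl_ne hz₀
  obtain ⟨c₀, hc₀⟩ := exists_sq_two h2 (Q z₀)⁻¹
  have hc₀0 : c₀ ≠ 0 := fun e => inv_ne_zero hQ0 (by rw [← hc₀, e, mul_zero])
  obtain ⟨z, hz⟩ : ∃ z, z = c₀ • z₀ := ⟨_, rfl⟩
  have hzI : InCl Q M D z := hz ▸ hW.incl_smul hz₀ hc₀0
  have hQz : Q z = 1 := by rw [hz, QuadraticMap.map_smul, smul_eq_mul, hc₀, inv_mul_cancel₀ hQ0]
  obtain ⟨j, -, hQj⟩ : ∃ j ∈ (Finset.univ : Finset (Fin t)), Q (p j z) ≠ 0 :=
    Finset.exists_ne_zero_of_sum_ne_zero (by rw [← hW.quad_sum, hQz]; exact one_ne_zero)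
  obtain ⟨i, hij, hi⟩ : ∃ i, i ≠ j ∧ p i z ≠ 0 := by
    by_contra hcon
    push Not at hcon
    exact hnb j ((Submodule.smul_mem_iff _ hc₀0).1 (hz ▸ hW.proj.mem_of_forall hcon))
  -- a vector with two components
  obtain ⟨x, hx, hzx, hQx⟩ := exists_pair_value h2 (hW.ndD i) (hW.four_le h2 hk i) (hW.proj.mem i z) hi 1
  have hQx0 : Q x ≠ 0 := by rw [hQx]; exact one_ne_zero
  have hxi : B x z = 1 := by rw [hW.polar_proj hx, QuadraticMap.polar_comm]; exact hzx
  have h1 := hW.incl_refl_comp h2 hk hzI hx hQx0 (Ne.symm hij)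
  rw [hQx, inv_one, one_mul, hxi, one_smul] at h1
  have hzj : p j z ≠ 0 := fun e => hQj (by rw [e, QuadraticMap.map_zero])
  obtain ⟨u, hu, hu0, hBu, huj⟩ : ∃ u ∈ D j, u ≠ 0 ∧ B (p j z) u = 0 ∧ u ∉ Submodule.span F {p j z} := by
    obtain ⟨U, hU⟩ : ∃ U, U = D j ⊓ LinearMap.ker (QuadraticMap.polarBilin Q (p j z)) := ⟨_, rfl⟩
    have h3 : finrank F (D j) ≤ finrank F U + 1 := hU ▸ finrank_le_inf_ker_add_one _ _
    by_contra hcon
    push Not at hcon
    have hle : U ≤ Submodule.span F {p j z} := fun w hw => by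
      rw [hU] at hw
      rcases eq_or_ne w 0 with rfl | hw0
      exacts [zero_mem _, hcon w hw.1 hw0 hw.2]
    have h4 := (Submodule.finrank_mono hle).trans (finrank_span_le_card ({p j z} : Set V))
    have h5 := hW.four_le h2 hk j
    simp at h4
    omega
  obtain ⟨r, hr⟩ := exists_sq_two h2 (Q u / Q (p j z))
  obtain ⟨d, hd⟩ : ∃ d, d = u + r • p j z := ⟨_, rfl⟩
  have hdD : d ∈ D j := hd ▸ add_mem hu ((D j).smul_mem _ (hW.proj.mem j z))
  have hd0 : d ≠ 0 := fun e => huj (Submodule.mem_span_singleton.2 ⟨-r, by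
    rw [hd] at e; rw [neg_smul, eq_neg_of_add_eq_zero_left e]⟩)
  have hQd : Q d = 0 := by
    rw [hd, quad_add, QuadraticMap.map_smul, QuadraticMap.polar_smul_right, QuadraticMap.polar_comm _ u (p j z), hBu,
      smul_zero, add_zero, smul_eq_mul, hr, div_mul_cancel₀ _ hQj]
    linear_combination Q u * h2
  have hBd : B (p j z) d = 0 := by
    rw [hd, QuadraticMap.polar_add_right, QuadraticMap.polar_smul_right, hBu, polar_self_zero h2, smul_zero, add_zero]
  have hpj1 : p j (z - x) = p j z := by rw [map_sub, hW.proj.other j i (Ne.symm hij) x hx, sub_zero]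
  have hb0 : p j z + d ≠ 0 := fun e => hQj (by
    rw [show p j z = -d from eq_neg_of_add_eq_zero_left e, QuadraticMap.map_neg, hQd])
  have h3 := hW.incl_reach h2 hk hplus h1 (i := j) (b := p j z + d) (add_mem (hW.proj.mem j z) hdD) hb0
    (by rw [hpj1]; exact hzj) (by rw [hpj1, quad_add, hQd, hBd, add_zero, add_zero]) hij
  rw [hpj1] at h3
  have hw : InCl Q M D (x + d) := by
    have := hW.incl_step hzI h3 (by rw [sqSign_two h2, sqSign_two h2])
    have hB : B z (z - x - p j z + (p j z + d)) = 1 := by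
      rw [show z - x - p j z + (p j z + d) = z - x + d by abel, QuadraticMap.polar_add_right,
        QuadraticMap.polar_sub_right, polar_self_zero h2, QuadraticMap.polar_comm _ z x, hxi,
        QuadraticMap.polar_comm _ z d, hW.polar_proj hdD, QuadraticMap.polar_comm _ d, hBd, add_zero]
      linear_combination (-1 : F) * h2
    rw [hB, hQz, inv_one, one_mul, one_smul, show z - x - p j z + (p j z + d) - z = -x + d by abel,
      show -x = x from neg_eq_of_add_eq_zero_left (add_self_two h2 x)] at this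
    exact this
  -- every vector with these two components
  have hx0 : x ≠ 0 := fun e => hQx0 (by rw [e, QuadraticMap.map_zero])
  have hxd : B x d = 0 := hW.orth i j hij x hx d hdD
  have hQw : Q (x + d) = 1 := by rw [quad_add, hQx, hQd, hxd, add_zero, add_zero]
  have two_ij : ∀ a ∈ D i, ∀ b ∈ D j, a ≠ 0 → b ≠ 0 → Q a ≠ 0 → Q (a + b) = 1 → InCl Q M D (a + b) := by
    intro a ha b hb ha0 hb0 hQa hab
    have hQab : Q a + Q b = 1 := by rwa [quad_add, hW.orth i j hij a ha b hb, add_zero] at hab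
    obtain ⟨y, hy, hdy, hQy⟩ := exists_pair_value h2 (hW.ndD j) (hW.four_le h2 hk j) hdD hd0 (Q a)⁻¹
    have hwy : B (x + d) y = 1 := by
      rw [QuadraticMap.polar_add_left, hW.orth i j hij x hx y hy, hdy, zero_add]
    have h4 := hW.incl_step hw (hW.incl_block hy (by rw [hQy]; exact inv_ne_zero hQa))
      (by rw [sqSign_two h2, sqSign_two h2])
    rw [hQw, inv_one, one_mul, hwy, one_smul] at h4
    obtain ⟨r, hr⟩ := exists_sq_two h2 (Q a)
    have hr0 : r ≠ 0 := fun e => hQa (by rw [← hr, e, mul_zero])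
    have h5 := hW.incl_smul h4 hr0
    obtain ⟨w', hw'⟩ : ∃ w', w' = r • (y - (x + d)) := ⟨_, rfl⟩
    rw [← hw'] at h5
    have hpi : p i w' = -(r • x) := by
      rw [hw', map_smul, map_sub, map_add, hW.proj.other i j hij y hy, hW.proj.self i x hx,
        hW.proj.other i j hij d hdD, add_zero, zero_sub, smul_neg]
    have hpj : p j w' = r • (y - d) := by
      rw [hw', map_smul, map_sub, map_add, hW.proj.self j y hy, hW.proj.other j i (Ne.symm hij) x hx,
        hW.proj.self j d hdD, zero_add]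
    have hyd : y - d ≠ 0 := fun e => by
      rw [sub_eq_zero.1 e, polar_self_zero h2] at hdy; exact zero_ne_one hdy
    have hQi : Q (p i w') = Q a := by
      rw [hpi, QuadraticMap.map_neg, QuadraticMap.map_smul, hQx, smul_eq_mul, hr, mul_one]
    have h6 := hW.incl_reach h2 hk hplus h5 (i := i) ha ha0 (by rw [hpi]; exact neg_ne_zero.2 (smul_ne_zero hr0 hx0))
      hQi.symm (Ne.symm hij)
    obtain ⟨w'', hw''⟩ : ∃ w'', w'' = w' - p i w' + a := ⟨_, rfl⟩
    rw [← hw''] at h6
    have hpj' : p j w'' = r • (y - d) := by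
      rw [hw'', map_add, map_sub, hW.proj.comp, if_neg (Ne.symm hij), hW.proj.other j i (Ne.symm hij) a ha, sub_zero,
        add_zero, hpj]
    have h7 := hW.incl_reach h2 hk hplus h6 (i := j) hb hb0 (by rw [hpj']; exact smul_ne_zero hr0 hyd) (by
      have hinv := mul_inv_cancel₀ hQa
      rw [hpj', QuadraticMap.map_smul, smul_eq_mul, sub_eq_add_neg y d, quad_add, QuadraticMap.map_neg, hQd, hQy,
        QuadraticMap.polar_neg_right, QuadraticMap.polar_comm _ y d, hdy, hr]
      linear_combination hQab - hinv) hij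
    rwa [hpj', show w'' - r • (y - d) + b = a + b by
      rw [hw'', hpi, hw', smul_sub, smul_sub, smul_add]; abel] at h7
  -- every pair of summands
  have hperm : ∀ a b c d : Fin t, c ≠ d →
      (∀ u ∈ D a, ∀ w ∈ D b, u ≠ 0 → w ≠ 0 → Q u ≠ 0 → Q (u + w) = 1 → InCl Q M D (u + w)) →
      ∀ u ∈ D (Equiv.swap c d a), ∀ w ∈ D (Equiv.swap c d b), u ≠ 0 → w ≠ 0 → Q u ≠ 0 → Q (u + w) = 1 →
        InCl Q M D (u + w) := by
    intro a b c d hcd h u hu w hw hu0 hw0 hQu huw
    obtain ⟨m, hm, hmd⟩ := hW.swap c d hcd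
    have hback : ∀ l, ∀ z ∈ D (Equiv.swap c d l), ∃ z' ∈ D l, (m : Mn) *ᵥ z' = z := fun l z hz => by
      have : (D l).map (Matrix.toLin' (m : Mn)) = D (Equiv.swap c d l) := by
        refine Submodule.eq_of_le_of_finrank_eq ?_ ?_
        · rintro _ ⟨z', hz', rfl⟩
          rw [Matrix.toLin'_apply]
          exact hmd l z' hz'
        · rw [(Submodule.equivMapOfInjective _ (fun a b h => gl_mulVec_injective m (by
            simpa [Matrix.toLin'_apply] using h)) (D l)).finrank_eq.symm, hW.dim_eq]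
      rw [← this] at hz
      obtain ⟨z', hz', e⟩ := hz
      exact ⟨z', hz', by rw [← e, Matrix.toLin'_apply]⟩
    obtain ⟨u', hu', rfl⟩ := hback a u hu
    obtain ⟨w', hw', rfl⟩ := hback b w hw
    rw [← Matrix.mulVec_add]
    refine hW.incl_stab hm (Equiv.swap c d) hmd (h u' hu' w' hw' (fun e => hu0 (by rw [e, Matrix.mulVec_zero]))
      (fun e => hw0 (by rw [e, Matrix.mulVec_zero])) (by rwa [hW.iso hm] at hQu) ?_)
    rwa [← Matrix.mulVec_add, hW.iso hm] at huw
  have two : ∀ a b : Fin t, a ≠ b → ∀ u ∈ D a, ∀ w ∈ D b, u ≠ 0 → w ≠ 0 → Q u ≠ 0 → Q (u + w) = 1 →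
      InCl Q M D (u + w) := by
    have hA : ∀ b, b ≠ i → ∀ u ∈ D i, ∀ w ∈ D b, u ≠ 0 → w ≠ 0 → Q u ≠ 0 → Q (u + w) = 1 → InCl Q M D (u + w) := by
      intro b hb
      rcases eq_or_ne j b with rfl | hjb
      · exact two_ij
      · have := hperm i j j b hjb two_ij
        rwa [Equiv.swap_apply_left, Equiv.swap_apply_of_ne_of_ne hij (Ne.symm hb)] at this
    intro a b hab
    rcases eq_or_ne a i with rfl | hai
    · exact hA b (Ne.symm hab)
    · have hs : Equiv.swap i a b ≠ i := fun e => hab (by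
        have := congrArg (Equiv.swap i a) e
        rwa [Equiv.swap_apply_self, Equiv.swap_apply_left, eq_comm] at this)
      have := hperm i _ i a (Ne.symm hai) (hA _ hs)
      rwa [Equiv.swap_apply_left, Equiv.swap_apply_self] at this
  have two' : ∀ a b : Fin t, a ≠ b → ∀ u ∈ D a, ∀ w ∈ D b, u ≠ 0 → w ≠ 0 → Q (u + w) = 1 → InCl Q M D (u + w) := by
    intro a b hab u hu w hw hu0 hw0 huw
    by_cases hQu : Q u = 0
    · rw [add_comm]
      refine two b a (Ne.symm hab) w hw u hu hw0 hu0 ?_ (by rwa [add_comm])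
      rw [quad_add, hQu, hW.orth a b hab u hu w hw, zero_add, add_zero] at huw
      rw [huw]; exact one_ne_zero
    · exact two a b hab u hu w hw hu0 hw0 hQu huw
  -- induction on the support
  suffices h : ∀ n, ∀ v, Q v = 1 → (Finset.univ.filter fun l => p l v ≠ 0).card ≤ n → InCl Q M D v by
    obtain ⟨r, hr⟩ := exists_sq_two h2 (Q v)⁻¹
    have hr0 : r ≠ 0 := fun e => inv_ne_zero hv (by rw [← hr, e, mul_zero])
    have := hW.incl_smul (h _ (r • v) (by rw [QuadraticMap.map_smul, smul_eq_mul, hr, inv_mul_cancel₀ hv]) le_rfl)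
      (inv_ne_zero hr0)
    rwa [inv_smul_smul₀ hr0] at this
  intro n
  induction n with
  | zero =>
    intro v hv hn
    exfalso
    have : v = 0 := hW.proj.ext fun l => by
      by_contra hne
      rw [map_zero] at hne
      have hmem : l ∈ Finset.univ.filter fun l => p l v ≠ 0 := by simp [hne]
      rw [Finset.card_eq_zero.1 (Nat.le_zero.1 hn)] at hmem
      simp at hmem
    rw [this, QuadraticMap.map_zero] at hv
    exact zero_ne_one hv
  | succ n ih =>
    intro v hv hn
    obtain ⟨a, ha⟩ : ∃ a, p a v ≠ 0 := by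
      by_contra hcon
      push Not at hcon
      rw [hW.proj.ext (fun l => (hcon l).trans (map_zero _).symm) (y := 0), QuadraticMap.map_zero] at hv
      exact zero_ne_one hv
    by_cases hb : ∃ b, b ≠ a ∧ p b v ≠ 0
    swap
    · push Not at hb
      exact hW.incl_block (hW.proj.mem_of_forall hb) (by rw [hv]; exact one_ne_zero)
    obtain ⟨b, hba, hb⟩ := hb
    by_cases hc : ∃ c, c ≠ a ∧ c ≠ b ∧ p c v ≠ 0
    swap
    · push Not at hc
      have e : v = p a v + p b v := hW.proj.ext fun l => by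
        rw [map_add, hW.proj.comp, hW.proj.comp]
        split_ifs with e1 e2 e2
        · exact absurd (e2.symm.trans e1) hba
        · subst e1; rw [add_zero]
        · subst e2; rw [zero_add]
        · rw [add_zero]; exact hc l e1 e2
      rw [e]
      exact two' a b (Ne.symm hba) _ (hW.proj.mem a v) _ (hW.proj.mem b v) ha hb (by rw [← e]; exact hv)
    obtain ⟨y, hy, hby, hQy⟩ := exists_pair_value h2 (hW.ndD b) (hW.four_le h2 hk b) (hW.proj.mem b v) hb
      (1 + Q (p a v))
    have hy0 : y ≠ 0 := fun e => by rw [e, QuadraticMap.polar_zero_right] at hby; exact zero_ne_one hby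
    obtain ⟨x', hx'⟩ : ∃ x', x' = p a v + y := ⟨_, rfl⟩
    have hQx' : Q x' = 1 := by
      rw [hx', quad_add, hQy, hW.orth a b (Ne.symm hba) _ (hW.proj.mem a v) y hy, add_zero]
      linear_combination Q (p a v) * h2
    have hxI : InCl Q M D x' := hx' ▸ two' a b (Ne.symm hba) _ (hW.proj.mem a v) y hy ha hy0 (hx' ▸ hQx')
    have hBxv : B x' v = 1 := by
      rw [hx', QuadraticMap.polar_add_left, hW.polar_proj (hW.proj.mem a v) v, polar_self_zero h2, hW.polar_proj hy,
        QuadraticMap.polar_comm _ y, hby, zero_add]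
    have hv' : InCl Q M D (v - x') := by
      refine ih _ ?_ ?_
      · rw [sub_eq_add_neg, quad_add, QuadraticMap.map_neg, hv, hQx', QuadraticMap.polar_neg_right,
          QuadraticMap.polar_comm _ v x', hBxv]
        linear_combination (0 : F) * h2
      · have hpa : p a (v - x') = 0 := by
          rw [map_sub, hx', map_add, hW.proj.self a _ (hW.proj.mem a v), hW.proj.other a b (Ne.symm hba) y hy,
            add_zero, sub_self]
        refine Nat.le_of_lt_succ (lt_of_lt_of_le (Finset.card_lt_card ?_) hn)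
        rw [Finset.ssubset_iff_of_subset (fun l hl => ?_)]
        · exact ⟨a, by simp [ha], fun h => (Finset.mem_filter.1 h).2 hpa⟩
        · simp only [Finset.mem_filter, Finset.mem_univ, true_and] at hl ⊢
          rcases eq_or_ne l b with rfl | hlb
          · exact hb
          rcases eq_or_ne l a with rfl | hla
          · exact ha
          rwa [map_sub, hx', map_add, hW.proj.other l a hla _ (hW.proj.mem a v), hW.proj.other l b hlb y hy, add_zero,
            sub_zero] at hl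
    have := hW.incl_step hxI hv' (by rw [sqSign_two h2, sqSign_two h2])
    rwa [QuadraticMap.polar_sub_right, hBxv, polar_self_zero h2, hQx', inv_one, one_mul, sub_zero, one_smul,
      sub_sub, add_self_two h2, sub_zero] at this

/-- A proper overgroup is everything. -/
theorem full_big {g : GL ι F} (hg : g ∈ M) (hgD : g ∉ Geo.decompositionStabilizer D) (i : Fin t) :
    Geo.omegaGL ⇑Q ≤ M := by
  have hT : ¬ ClTight Q M D := fun hT =>
    hW.not_tight_big (hW.conn_big h2 hk hplus) hT (hW.rot_big h2 hk hplus) hg i hgD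
  obtain ⟨z, hz, hnb⟩ : ∃ z, InCl Q M D z ∧ ∀ i, z ∉ D i := by
    by_contra hcon
    push Not at hcon
    exact hT fun v hv => hcon v hv
  exact omegaGL_le_of_pairs hW.nd hW.gen fun v w hv hw hs =>
    (hW.incl_rel (hW.incl_all h2 hk hplus hz hnb hv) (hW.incl_all h2 hk hplus hz hnb hw) hs).2.2

end RWr

end Cfsg.Agent.Classical.MaxTv
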