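import Cfsg.Agent.Lib.Classical.MaxOrthWreath

/-!
Overgroups of the stabiliser of an orthogonal decomposition, seen through the pairs of reflections they contain:
the closure of the anisotropic vectors of the summands, and when an element must preserve the decomposition.
-/

set_option autoImplicit false
set_option linter.unusedSectionVars false
set_option quotPrecheck false

namespace Cfsg.Agent.Classical.MaxTv

open Matrix Module OrthAut

variable {F : Type*} [Field F] [Fintype F] {ι : Type} [Fintype ι] [DecidableEq ι] {Q : QuadraticForm F (ι → F)}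

local notation "V" => (ι → F)
local notation "Mn" => Matrix ι ι F
local notation "B" => QuadraticMap.polar ⇑Q
local notation "OG" => isometryGroup F ⇑Q

/-- Two anisotropic vectors whose reflections multiply into `M`. -/
def Rel (Q : QuadraticForm F (ι → F)) (M : Subgroup (GL ι F)) (v w : ι → F) : Prop :=
  ∃ (hv : Q v ≠ 0) (hw : Q w ≠ 0), ((refl hv * refl hw : isometryGroup F ⇑Q) : GL ι F) ∈ M

/-- An anisotropic vector related to an anisotropic vector of a summand. -/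
def InCl (Q : QuadraticForm F (ι → F)) (M : Subgroup (GL ι F)) {t : ℕ} (D : Fin t → Submodule F (ι → F))
    (v : ι → F) : Prop :=
  ∃ i, ∃ x ∈ D i, sqSign (Q x) = sqSign (Q v) ∧ Rel Q M x v

/-- Only vectors of the summands are related to them. -/
def ClTight (Q : QuadraticForm F (ι → F)) (M : Subgroup (GL ι F)) {t : ℕ} (D : Fin t → Submodule F (ι → F)) : Prop :=
  ∀ v, InCl Q M D v → ∃ i, v ∈ D i

/-- Any two vectors of a class in a summand have a common non-perpendicular one in it, and the class spans. -/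
def Conn (Q : QuadraticForm F (ι → F)) {t : ℕ} (D : Fin t → Submodule F (ι → F)) : Prop :=
  ∀ a, ∀ x ∈ D a, Q x ≠ 0 →
    (∀ y ∈ D a, Q y ≠ 0 → sqSign (Q y) = sqSign (Q x) → ∃ z ∈ D a, Q z ≠ 0 ∧ sqSign (Q z) = sqSign (Q x) ∧
      QuadraticMap.polar ⇑Q z x ≠ 0 ∧ QuadraticMap.polar ⇑Q z y ≠ 0) ∧
    D a ≤ Submodule.span F {z | z ∈ D a ∧ Q z ≠ 0 ∧ sqSign (Q z) = sqSign (Q x)}

/-- An overgroup of the stabiliser of a decomposition into isometric non-degenerate summands. -/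
structure RWr (Q : QuadraticForm F (ι → F)) (M : Subgroup (GL ι F)) {t : ℕ} (D : Fin t → Submodule F (ι → F))
    (p : Fin t → ((ι → F) →ₗ[F] (ι → F))) (k : ℕ) : Prop where
  nd : (QuadraticMap.polarBilin Q).Nondegenerate
  gen : GenQ F ι
  proj : IsProj D p
  orth : ∀ i j, i ≠ j → ∀ x ∈ D i, ∀ y ∈ D j, QuadraticMap.polar ⇑Q x y = 0
  ndD : ∀ i, NdQ Q (D i)
  dim : ∀ i, finrank F (D i) = k
  two : 2 ≤ k
  le : M ≤ Geo.omegaGL ⇑Q
  stab : ∀ g ∈ Omega F ⇑Q, (g : GL ι F) ∈ Geo.decompositionStabilizer D → (g : GL ι F) ∈ M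
  swap : ∀ a b : Fin t, a ≠ b → ∃ u ∈ M, ∀ i, ∀ z ∈ D i, (u : Matrix ι ι F) *ᵥ z ∈ D (Equiv.swap a b i)

theorem refl_inv {v : V} (hv : Q v ≠ 0) : (refl hv)⁻¹ = refl hv := inv_eq_of_mul_eq_one_right (refl_mul_self hv)

/-- A conjugate of a reflection pair. -/
theorem pair_conj (g : OG) {v w : V} (hv : Q v ≠ 0) (hw : Q w ≠ 0) :
    g * (refl hv * refl hw) * g⁻¹ = refl (v := ogVal g *ᵥ v) (by rw [ogVal_quad]; exact hv) *
      refl (v := ogVal g *ᵥ w) (by rw [ogVal_quad]; exact hw) := by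
  rw [← refl_conj g hv, ← refl_conj g hw]
  group

/-- `Ω` is generated by the pairs of reflections of one class. -/
theorem omegaGL_le_of_pairs (hQ : (QuadraticMap.polarBilin Q).Nondegenerate) (hG : GenQ F ι)
    {M : Subgroup (GL ι F)}
    (h : ∀ v w, ∀ (hv : Q v ≠ 0) (hw : Q w ≠ 0), sqSign (Q v) = sqSign (Q w) →
      ((refl hv * refl hw : OG) : GL ι F) ∈ M) :
    Geo.omegaGL ⇑Q ≤ M := by
  obtain ⟨S, hS⟩ : ∃ S : Set OG, S = {g | ∃ v w, ∃ (hv : Q v ≠ 0) (hw : Q w ≠ 0), sqSign (Q v) = sqSign (Q w) ∧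
      g = refl hv * refl hw} := ⟨_, rfl⟩
  obtain ⟨P, hP⟩ : ∃ P, P = Subgroup.closure S := ⟨_, rfl⟩
  have hPM : ∀ g ∈ P, (g : GL ι F) ∈ M := by
    intro g hg
    rw [hP] at hg
    refine (Subgroup.closure_le (M.comap (isometryGroup F ⇑Q).subtype)).2 ?_ hg
    rw [hS]
    rintro _ ⟨v, w, hv, hw, hvw, rfl⟩
    exact h v w hv hw hvw
  have hN : P.Normal := ⟨fun g hg x => by
    rw [hP] at hg ⊢
    induction hg using Subgroup.closure_induction with
    | mem g hg =>
      refine Subgroup.subset_closure ?_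
      rw [hS] at hg ⊢
      obtain ⟨v, w, hv, hw, hvw, rfl⟩ := hg
      exact ⟨_, _, _, _, by rw [ogVal_quad, ogVal_quad]; exact hvw, pair_conj x hv hw⟩
    | one => simp
    | mul a b _ _ ha hb =>
      have := mul_mem ha hb
      rwa [show x * a * x⁻¹ * (x * b * x⁻¹) = x * (a * b) * x⁻¹ by group] at this
    | inv a _ ha =>
      have := inv_mem ha
      rwa [show (x * a * x⁻¹)⁻¹ = x * a⁻¹ * x⁻¹ by group] at this⟩
  have key : ∀ g x : OG, g * x * g⁻¹ * x⁻¹ ∈ P := by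
    intro g x
    have hx : x ∈ reflGroup Q := by rw [reflGroup_eq_top_gen hQ hG]; trivial
    induction hx using Subgroup.closure_induction generalizing g with
    | mem x hx =>
      obtain ⟨v, hv, rfl⟩ := hx
      rw [refl_conj g hv (by rw [ogVal_quad]; exact hv), refl_inv, hP]
      refine Subgroup.subset_closure ?_
      rw [hS]
      exact ⟨_, _, _, _, by rw [ogVal_quad], rfl⟩
    | one => simp
    | mul a b _ _ ha hb =>
      have h2 := hN.conj_mem _ (hb g) a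
      have := mul_mem (ha g) h2
      rwa [show g * a * g⁻¹ * a⁻¹ * (a * (g * b * g⁻¹ * b⁻¹) * a⁻¹) = g * (a * b) * g⁻¹ * (a * b)⁻¹ by group] at this
    | inv a _ ha =>
      have := hN.conj_mem _ (inv_mem (ha g)) a⁻¹
      rwa [show a⁻¹ * (g * a * g⁻¹ * a⁻¹)⁻¹ * a⁻¹⁻¹ = g * a⁻¹ * g⁻¹ * a⁻¹⁻¹ by group] at this
  rintro _ ⟨g, hg, rfl⟩
  refine hPM g ?_
  have : Omega F ⇑Q ≤ P := by
    rw [Omega, commutator_def, Subgroup.commutator_le]
    intro a _ b _
    rw [commutatorElement_def]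
    exact key a b
  exact this hg

theorem Rel.rfl' {M : Subgroup (GL ι F)} {v : V} (hv : Q v ≠ 0) : Rel Q M v v :=
  ⟨hv, hv, by rw [refl_mul_self]; exact one_mem M⟩

theorem Rel.symm {M : Subgroup (GL ι F)} {v w : V} (h : Rel Q M v w) : Rel Q M w v := by
  obtain ⟨hv, hw, hm⟩ := h
  refine ⟨hw, hv, ?_⟩
  rw [show refl hw * refl hv = (refl hv * refl hw)⁻¹ by rw [_root_.mul_inv_rev, refl_inv, refl_inv]]
  exact inv_mem hm

theorem Rel.trans {M : Subgroup (GL ι F)} {u v w : V} (h : Rel Q M u v) (h' : Rel Q M v w) : Rel Q M u w := by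
  obtain ⟨hu, hv, hm⟩ := h
  obtain ⟨hv', hw, hm'⟩ := h'
  refine ⟨hu, hw, ?_⟩
  have := mul_mem hm hm'
  rw [← Subgroup.coe_mul, mul_assoc, ← mul_assoc (refl hv), refl_mul_self, one_mul] at this
  exact this

theorem Rel.smul {M : Subgroup (GL ι F)} {v : V} (hv : Q v ≠ 0) {c : F} (hc : c ≠ 0) : Rel Q M v (c • v) := by
  have hw : Q (c • v) ≠ 0 := by rw [QuadraticMap.map_smul, smul_eq_mul]; exact mul_ne_zero (mul_ne_zero hc hc) hv
  exact ⟨hv, hw, by rw [← refl_congr hv hw rfl, refl_mul_self]; exact one_mem M⟩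

theorem Rel.ne_left {M : Subgroup (GL ι F)} {v w : V} (h : Rel Q M v w) : Q v ≠ 0 := h.1

theorem Rel.ne_right {M : Subgroup (GL ι F)} {v w : V} (h : Rel Q M v w) : Q w ≠ 0 := h.2.1

/-- The image of a vector under the reflection in a related vector is related. -/
theorem Rel.step {M : Subgroup (GL ι F)} {a b : V} (h : Rel Q M a b) :
    Rel Q M (ogVal (refl h.1) *ᵥ b) b := by
  obtain ⟨ha, hb, hm⟩ := h
  refine ⟨by rw [ogVal_quad]; exact hb, hb, ?_⟩
  rw [← refl_conj (refl ha) hb (by rw [ogVal_quad]; exact hb), refl_inv]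
  have := mul_mem hm hm
  rwa [← Subgroup.coe_mul, ← mul_assoc] at this

theorem sqSign_smul_sq {c x : F} (hc : c ≠ 0) (hx : x ≠ 0) : sqSign (c * c * x) = sqSign x := by
  rw [sqSign_mul (mul_ne_zero hc hc) hx, sqSign_of_isSquare ⟨c, rfl⟩, one_mul]

namespace RWr

variable {M : Subgroup (GL ι F)} {t k : ℕ} {D : Fin t → Submodule F (ι → F)}
  {p : Fin t → ((ι → F) →ₗ[F] (ι → F))} (hW : RWr Q M D p k)
include hW

theorem iso {m : GL ι F} (hm : m ∈ M) (x : V) : Q ((m : Mn) *ᵥ x) = Q x := isometry_of_mem_omegaGL (hW.le hm) x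

theorem polar_proj {a : Fin t} {c : V} (hc : c ∈ D a) (x : V) : B c x = B c (p a x) := by
  conv_lhs => rw [← hW.proj.sum x]
  rw [← QuadraticMap.polarBilin_apply_apply, map_sum]
  exact Finset.sum_eq_single a (fun j _ hj => hW.orth a j (Ne.symm hj) c hc _ (hW.proj.mem j x)) (by simp)

theorem dim_eq (i j : Fin t) : finrank F (D i) = finrank F (D j) := by rw [hW.dim, hW.dim]

theorem ne_bot (i : Fin t) : D i ≠ ⊥ := fun e => by
  have h1 := hW.dim i
  have h2 := hW.two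
  rw [e, finrank_bot] at h1
  omega

theorem mem_stab {g : GL ι F} (τ : Fin t → Fin t) (h : ∀ i, ∀ x ∈ D i, (g : Mn) *ᵥ x ∈ D (τ i)) :
    g ∈ Geo.decompositionStabilizer D :=
  hW.proj.mem_stabilizer hW.dim_eq τ h hW.ne_bot

theorem block_unique {a b : Fin t} {x : V} (hx : x ≠ 0) (ha : x ∈ D a) (hb : x ∈ D b) : a = b := by
  by_contra hab
  exact hx (by rw [← hW.proj.self a x ha, hW.proj.other a b hab x hb])

/-- The reflection in a vector of a summand preserves every summand. -/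
theorem refl_block {a : Fin t} {v : V} (hv : v ∈ D a) (hQv : Q v ≠ 0) (i : Fin t) {z : V} (hz : z ∈ D i) :
    ogVal (refl hQv) *ᵥ z ∈ D i := by
  rw [refl_apply]
  rcases eq_or_ne i a with rfl | hia
  · exact sub_mem hz ((D i).smul_mem _ hv)
  · rw [hW.orth a i (Ne.symm hia) v hv z hz, mul_zero, zero_smul, sub_zero]; exact hz

theorem mem_omega_pair {v w : V} (hv : Q v ≠ 0) (hw : Q w ≠ 0) (h : sqSign (Q v) = sqSign (Q w)) :
    refl hv * refl hw ∈ Omega F ⇑Q := by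
  rw [omega_eq_ker hW.nd hW.gen, MonoidHom.mem_ker, map_mul, invHom_refl, invHom_refl, h]
  ext <;> simp [Int.units_mul_self]

theorem mem_of_invHom {g : OG} (h : invHom hW.nd hW.gen g = 1) (τ : Fin t → Fin t)
    (hτ : ∀ i, ∀ z ∈ D i, ogVal g *ᵥ z ∈ D (τ i)) : (g : GL ι F) ∈ M :=
  hW.stab g (by rw [omega_eq_ker hW.nd hW.gen]; exact h) (hW.mem_stab τ hτ)

/-- Vectors of summands of one class are related. -/
theorem rel_block {i j : Fin t} {x y : V} (hx : x ∈ D i) (hy : y ∈ D j) (hQx : Q x ≠ 0) (hQy : Q y ≠ 0)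
    (h : sqSign (Q x) = sqSign (Q y)) : Rel Q M x y := by
  refine ⟨hQx, hQy, hW.stab _ (hW.mem_omega_pair hQx hQy h) (hW.mem_stab id fun l z hz => ?_)⟩
  show ogVal (refl hQx * refl hQy) *ᵥ z ∈ D l
  rw [ogVal_mul, ← Matrix.mulVec_mulVec]
  exact hW.refl_block hx hQx l (hW.refl_block hy hQy l hz)

theorem incl_block {i : Fin t} {x : V} (hx : x ∈ D i) (hQx : Q x ≠ 0) : InCl Q M D x :=
  ⟨i, x, hx, rfl, Rel.rfl' hQx⟩

theorem incl_ne {v : V} (h : InCl Q M D v) : Q v ≠ 0 := by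
  obtain ⟨i, x, -, -, hr⟩ := h
  exact hr.ne_right

theorem incl_rel {u v : V} (hu : InCl Q M D u) (hv : InCl Q M D v) (h : sqSign (Q u) = sqSign (Q v)) :
    Rel Q M u v := by
  obtain ⟨i, x, hx, hxu, hru⟩ := hu
  obtain ⟨j, y, hy, hyv, hrv⟩ := hv
  exact hru.symm.trans ((hW.rel_block hx hy hru.ne_left hrv.ne_left (by rw [hxu, hyv, h])).trans hrv)

theorem incl_of_rel {u v : V} (hu : InCl Q M D u) (h : Rel Q M u v) (hs : sqSign (Q u) = sqSign (Q v)) :
    InCl Q M D v := by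
  obtain ⟨i, x, hx, hxu, hr⟩ := hu
  exact ⟨i, x, hx, hxu.trans hs, hr.trans h⟩

theorem incl_smul {v : V} (hv : InCl Q M D v) {c : F} (hc : c ≠ 0) : InCl Q M D (c • v) :=
  hW.incl_of_rel hv (Rel.smul (hW.incl_ne hv) hc) (by
    rw [QuadraticMap.map_smul, smul_eq_mul, sqSign_smul_sq hc (hW.incl_ne hv)])

/-- The reflection in a related vector keeps the class. -/
theorem incl_step {u v : V} (hu : InCl Q M D u) (hv : InCl Q M D v) (h : sqSign (Q u) = sqSign (Q v)) :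
    InCl Q M D (v - ((Q u)⁻¹ * B u v) • u) := by
  have hr := (hW.incl_rel hu hv h).step
  rw [refl_apply] at hr
  refine hW.incl_of_rel hv hr.symm ?_
  rw [← refl_apply (hW.incl_ne hu), ogVal_quad]

theorem rel_map {m : GL ι F} (hm : m ∈ M) {a b : V} (h : Rel Q M a b) :
    Rel Q M ((m : Mn) *ᵥ a) ((m : Mn) *ᵥ b) := by
  obtain ⟨g, -, rfl⟩ := Subgroup.mem_map.1 (hW.le hm)
  obtain ⟨ha, hb, hmm⟩ := h
  show Rel Q M (ogVal g *ᵥ a) (ogVal g *ᵥ b)
  refine ⟨by rw [ogVal_quad]; exact ha, by rw [ogVal_quad]; exact hb, ?_⟩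
  rw [← pair_conj g ha hb, Subgroup.coe_mul, Subgroup.coe_mul, Subgroup.coe_inv]
  exact mul_mem (mul_mem hm hmm) (inv_mem hm)

/-- An element sending one vector of a summand into the closure keeps the closure of that class. -/
theorem incl_map {m : GL ι F} (hm : m ∈ M) {i : Fin t} {x : V} (hx : x ∈ D i) (hQx : Q x ≠ 0)
    (hmx : InCl Q M D ((m : Mn) *ᵥ x)) {v : V} (hv : InCl Q M D v) (hs : sqSign (Q x) = sqSign (Q v)) :
    InCl Q M D ((m : Mn) *ᵥ v) :=
  hW.incl_of_rel hmx (hW.rel_map hm (hW.incl_rel (hW.incl_block hx hQx) hv hs)) (by rw [hW.iso hm, hW.iso hm, hs])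

/-- The stabiliser of the decomposition keeps the closure. -/
theorem incl_stab {m : GL ι F} (hm : m ∈ M) (τ : Fin t → Fin t) (hτ : ∀ i, ∀ z ∈ D i, (m : Mn) *ᵥ z ∈ D (τ i))
    {v : V} (hv : InCl Q M D v) : InCl Q M D ((m : Mn) *ᵥ v) := by
  have hv' := hv
  obtain ⟨i, x, hx, hxv, hr⟩ := hv'
  exact hW.incl_map hm hx hr.ne_left (hW.incl_block (hτ i x hx) (by rw [hW.iso hm]; exact hr.ne_left)) hv hxv

/-- A value taken in one summand is taken in all of them. -/
theorem value_block {i : Fin t} {x : V} (hx : x ∈ D i) (a : Fin t) : ∃ y ∈ D a, Q y = Q x := by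
  rcases eq_or_ne i a with rfl | hia
  · exact ⟨x, hx, rfl⟩
  · obtain ⟨u, hu, hud⟩ := hW.swap i a hia
    exact ⟨(u : Mn) *ᵥ x, by simpa using hud i x hx, hW.iso hu x⟩

theorem quad_sum (x : V) : Q x = ∑ i, Q (p i x) := by
  classical
  have key : ∀ s : Finset (Fin t), Q (∑ i ∈ s, p i x) = ∑ i ∈ s, Q (p i x) := by
    intro s
    induction s using Finset.induction_on with
    | empty => simp
    | insert a s ha ih =>
      rw [Finset.sum_insert ha, Finset.sum_insert ha, quad_add, ih,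
        show B (p a x) (∑ i ∈ s, p i x) = 0 from ?_, add_zero]
      rw [← QuadraticMap.polarBilin_apply_apply, map_sum]
      exact Finset.sum_eq_zero fun j hj =>
        hW.orth a j (fun e => ha (e ▸ hj)) _ (hW.proj.mem a x) _ (hW.proj.mem j x)
  conv_lhs => rw [← hW.proj.sum x, key Finset.univ]

/-- In a tight overgroup, an element sending a vector of a summand into a summand preserves the decomposition. -/
theorem key (hC : Conn Q D) (hT : ClTight Q M D) {m : GL ι F} (hm : m ∈ M) {a₀ : Fin t} {x₀ : V} (hx₀ : x₀ ∈ D a₀)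
    (hQ₀ : Q x₀ ≠ 0) {b₀ : Fin t} (hb₀ : (m : Mn) *ᵥ x₀ ∈ D b₀) : m ∈ Geo.decompositionStabilizer D := by
  have himg : ∀ a, ∀ x ∈ D a, Q x ≠ 0 → sqSign (Q x) = sqSign (Q x₀) → ∃ b, (m : Mn) *ᵥ x ∈ D b :=
    fun a x hx hQx hs =>
    hT _ (hW.incl_map hm hx₀ hQ₀ (hW.incl_block hb₀ (by rw [hW.iso hm]; exact hQ₀)) (hW.incl_block hx hQx) hs.symm)
  have hτ : ∀ a, ∃ b, ∀ z ∈ D a, (m : Mn) *ᵥ z ∈ D b := by
    intro a
    obtain ⟨xa, hxa, hQa⟩ := hW.value_block hx₀ a
    have hQa0 : Q xa ≠ 0 := hQa ▸ hQ₀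
    obtain ⟨b, hb⟩ := himg a xa hxa hQa0 (by rw [hQa])
    obtain ⟨hconn, hspan⟩ := hC a xa hxa hQa0
    have hnb : ∀ u w : V, B u w ≠ 0 → ∀ b b', (m : Mn) *ᵥ u ∈ D b → (m : Mn) *ᵥ w ∈ D b' → b = b' := by
      intro u w huw b b' hu hw
      by_contra hne
      exact huw (by rw [← isometry_polar (hW.iso hm)]; exact hW.orth b b' hne _ hu _ hw)
    refine ⟨b, fun z hz => ?_⟩
    have hsub : D a ≤ (D b).comap (Matrix.toLin' (m : Mn)) := by
      refine hspan.trans (Submodule.span_le.2 fun y ⟨hy, hQy, hys⟩ => ?_)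
      obtain ⟨w, hw, hQw, hws, hwx, hwy⟩ := hconn y hy hQy hys
      obtain ⟨b', hb'⟩ := himg a w hw hQw (by rw [hws, hQa])
      obtain ⟨b'', hb''⟩ := himg a y hy hQy (by rw [hys, hQa])
      obtain rfl := hnb w xa hwx _ _ hb' hb
      obtain rfl := hnb w y hwy _ _ hb' hb''
      rw [SetLike.mem_coe, Submodule.mem_comap, Matrix.toLin'_apply]
      exact hb''
    simpa [Matrix.toLin'_apply] using hsub hz
  choose τ hτ using hτ
  exact hW.mem_stab τ hτ

/-- The displacement of an element preserving every summand commutes with the projections. -/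
theorem proj_comm {g : GL ι F} (h : ∀ i, ∀ z ∈ D i, (g : Mn) *ᵥ z ∈ D i) (j : Fin t) (z : V) :
    p j ((g : Mn) *ᵥ z) = (g : Mn) *ᵥ p j z := by
  conv_lhs => rw [← hW.proj.sum z]
  rw [Matrix.mulVec_sum, map_sum, Finset.sum_eq_single j]
  · exact hW.proj.self j _ (h j _ (hW.proj.mem j z))
  · exact fun i _ hi => hW.proj.other j i (Ne.symm hi) _ (h i _ (hW.proj.mem i z))
  · simp

/-- A permutation of the summands with displacements in a subspace of dimension at most two. -/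
theorem moved {g : GL ι F} (hg : g ∈ Geo.decompositionStabilizer D) {W : Submodule F (ι → F)}
    (hWd : finrank F W ≤ 2) (hgW : ∀ z, (g : Mn) *ᵥ z - z ∈ W) :
    (∀ i, ∀ z ∈ D i, (g : Mn) *ᵥ z ∈ D i) ∨
      (g * g = 1 ∧ ∃ a b, a ≠ b ∧ W ≤ D a ⊔ D b) := by
  obtain ⟨σ, hσ⟩ := hg
  have hmem : ∀ i, ∀ z ∈ D i, (g : Mn) *ᵥ z ∈ D (σ i) := fun i z hz => by
    rw [← hσ i]; exact ⟨z, hz, Matrix.toLin'_apply _ _⟩
  by_cases hid : ∀ i, σ i = i
  · left; intro i z hz; have := hmem i z hz; rwa [hid i] at this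
  right
  push Not at hid
  obtain ⟨a, ha⟩ := hid
  have hinj : ∀ z ∈ D a, (g : Mn) *ᵥ z - z = 0 → z = 0 := fun z hz e => by
    by_contra h0
    exact ha (hW.block_unique h0 (sub_eq_zero.1 e ▸ hmem a z hz) hz).symm.symm
  let L : D a →ₗ[F] W := LinearMap.codRestrict W
    ((Matrix.toLin' (g : Mn)).comp (D a).subtype - (D a).subtype) fun z => by simpa using hgW z
  have hL : ∀ z : D a, (L z : V) = (g : Mn) *ᵥ (z : V) - z := fun z => by simp [L]
  have hLi : Function.Injective L := (injective_iff_map_eq_zero L).2 fun z e =>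
    Subtype.ext (hinj z z.2 (by rw [← hL, e]; rfl))
  have hLs : Function.Surjective L := by
    have h1 := LinearMap.finrank_le_finrank_of_injective hLi
    rw [hW.dim] at h1
    have h2 := hW.two
    exact ((LinearMap.injective_iff_surjective_of_finrank_eq_finrank (by rw [hW.dim]; omega)).1 hLi)
  have hsurj : ∀ w ∈ W, ∃ z ∈ D a, w = (g : Mn) *ᵥ z - z := fun w hw => by
    obtain ⟨z, hz⟩ := hLs ⟨w, hw⟩
    exact ⟨z, z.2, by rw [← hL, hz]⟩
  have hWab : W ≤ D a ⊔ D (σ a) := fun w hw => by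
    obtain ⟨z, hz, rfl⟩ := hsurj w hw
    exact sub_mem (Submodule.mem_sup_right (hmem a z hz)) (Submodule.mem_sup_left hz)
  have hp : ∀ j, j ≠ a → j ≠ σ a → ∀ w ∈ W, p j w = 0 := fun j hja hjb w hw => by
    obtain ⟨x, hx, y, hy, rfl⟩ := Submodule.mem_sup.1 (hWab hw)
    rw [map_add, hW.proj.other j a hja x hx, hW.proj.other j (σ a) hjb y hy, add_zero]
  refine ⟨?_, a, σ a, Ne.symm ha, hWab⟩
  have hca : σ (σ a) = a := by
    by_contra hne
    obtain ⟨y, hy, hy0⟩ := Submodule.exists_mem_ne_zero_of_ne_bot (hW.ne_bot (σ a))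
    have hbc : σ (σ a) ≠ σ a := fun e' => ha (σ.injective e')
    have h1 := hp (σ (σ a)) hne hbc _ (hgW y)
    rw [map_sub, hW.proj.self _ _ (hmem _ y hy), hW.proj.other _ (σ a) hbc y hy, sub_zero] at h1
    exact hy0 (gl_mulVec_injective g (h1.trans (Matrix.mulVec_zero _).symm))
  have hfst : ∀ z ∈ D a, (g : Mn) *ᵥ ((g : Mn) *ᵥ z) = z := by
    intro z hz
    obtain ⟨z', hz', e⟩ := hsurj _ (hgW ((g : Mn) *ᵥ z))
    have h1 := hmem (σ a) _ (hmem a z hz)
    rw [hca] at h1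
    have h2 := congrArg (p a) e
    rw [map_sub, map_sub, hW.proj.self a _ h1, hW.proj.other a (σ a) (Ne.symm ha) _ (hmem a z hz),
      hW.proj.other a (σ a) (Ne.symm ha) _ (hmem a z' hz'), hW.proj.self a z' hz', sub_zero, zero_sub] at h2
    have h3 := congrArg (p (σ a)) e
    rw [map_sub, map_sub, hW.proj.other (σ a) a ha _ h1, hW.proj.self (σ a) _ (hmem a z hz),
      hW.proj.self (σ a) _ (hmem a z' hz'), hW.proj.other (σ a) a ha z' hz', sub_zero, zero_sub] at h3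
    have h4 : (g : Mn) *ᵥ z' = (g : Mn) *ᵥ (-z) := by rw [Matrix.mulVec_neg, ← h3]
    rw [h2, gl_mulVec_injective g h4, neg_neg]
  have hinv : ∀ i, ∀ z ∈ D i, (g : Mn) *ᵥ ((g : Mn) *ᵥ z) = z := by
    intro i z hz
    rcases eq_or_ne i a with rfl | hia
    · exact hfst z hz
    rcases eq_or_ne i (σ a) with rfl | hib
    · rw [← hσ a] at hz
      obtain ⟨w, hw, rfl⟩ := hz
      rw [Matrix.toLin'_apply, hfst w hw]
    have hσi : σ i = i := by
      by_contra hne
      obtain ⟨y, hy, hy0⟩ := Submodule.exists_mem_ne_zero_of_ne_bot (hW.ne_bot i)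
      have h1 := hp i hia hib _ (hgW y)
      rw [map_sub, hW.proj.other i (σ i) (Ne.symm hne) _ (hmem i y hy), hW.proj.self i y hy, zero_sub,
        neg_eq_zero] at h1
      exact hy0 h1
    have hfix : (g : Mn) *ᵥ z = z := by
      have h1 := hp i hia hib _ (hgW z)
      have hyi := hmem i z hz
      rw [hσi] at hyi
      rwa [map_sub, hW.proj.self i _ hyi, hW.proj.self i z hz, sub_eq_zero] at h1
    rw [hfix, hfix]
  refine Units.ext (Matrix.ext_iff_mulVec.2 fun z => ?_)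
  rw [Units.val_mul, ← Matrix.mulVec_mulVec, Units.val_one, Matrix.one_mulVec]
  conv_lhs => rw [← hW.proj.sum z]
  rw [Matrix.mulVec_sum, Matrix.mulVec_sum]
  conv_rhs => rw [← hW.proj.sum z]
  exact Finset.sum_congr rfl fun i _ => hinv i _ (hW.proj.mem i z)

/-- The action of a conjugate of a reflection pair. -/
theorem conj_pair_apply {m : GL ι F} {x y : V} (hQx : Q x ≠ 0) (hQy : Q y ≠ 0) (z : V) :
    ((m⁻¹ * ((refl hQx * refl hQy : OG) : GL ι F) * m : GL ι F) : Mn) *ᵥ z =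
      ((m⁻¹ : GL ι F) : Mn) *ᵥ (ogVal (refl hQx) *ᵥ (ogVal (refl hQy) *ᵥ ((m : Mn) *ᵥ z))) := by
  rw [Units.val_mul, Units.val_mul, ← Matrix.mulVec_mulVec, ← Matrix.mulVec_mulVec]
  congr 1
  show ogVal (refl hQx * refl hQy) *ᵥ ((m : Mn) *ᵥ z) = _
  rw [ogVal_mul, ← Matrix.mulVec_mulVec]

/-- The displacements of a conjugate of a reflection pair. -/
theorem conj_pair_disp {m : GL ι F} {x y : V} (hQx : Q x ≠ 0) (hQy : Q y ≠ 0) (z : V) :
    ((m⁻¹ * ((refl hQx * refl hQy : OG) : GL ι F) * m : GL ι F) : Mn) *ᵥ z - z ∈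
      Submodule.span F {((m⁻¹ : GL ι F) : Mn) *ᵥ x, ((m⁻¹ : GL ι F) : Mn) *ᵥ y} := by
  rw [hW.conj_pair_apply, refl_apply, refl_apply, Matrix.mulVec_sub, Matrix.mulVec_sub, inv_mulVec_cancel,
    Matrix.mulVec_smul, Matrix.mulVec_smul, show ∀ a b : V, z - a - b - z = -a + -b from fun a b => by abel]
  exact add_mem (neg_mem (Submodule.smul_mem _ _ (Submodule.subset_span (by simp))))
    (neg_mem (Submodule.smul_mem _ _ (Submodule.subset_span (by simp))))

/-- A conjugate of a reflection pair lying in `M`. -/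
theorem conj_pair_mem {m : GL ι F} (hm : m ∈ M) {i j : Fin t} {x y : V} (hx : x ∈ D i) (hy : y ∈ D j)
    (hQx : Q x ≠ 0) (hQy : Q y ≠ 0) (hs : sqSign (Q x) = sqSign (Q y)) :
    m⁻¹ * ((refl hQx * refl hQy : OG) : GL ι F) * m ∈ M :=
  mul_mem (mul_mem (inv_mem hm) (hW.rel_block hx hy hQx hQy hs).2.2) hm

end RWr

end Cfsg.Agent.Classical.MaxTv
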