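import Cfsg.Agent.Lib.Classical.DicksonTorusMax

/-!
Trace-zero matrices of order two under mutual conjugation: a set containing a torus pencil and one matrix
outside it contains all of its class.
-/

set_option autoImplicit false
set_option linter.unusedSectionVars false

namespace Cfsg.Agent.Dickson

open Matrix Cfsg.Agent.Grp.SL2 Cfsg.Agent.PSL2Spec

variable {F : Type*} [Field F] [Fintype F]

local notation "M₂" => Matrix (Fin 2) (Fin 2) F
local notation "SL₂" => Matrix.SpecialLinearGroup (Fin 2) F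
local notation "PSL₂" => Matrix.ProjectiveSpecialLinearGroup (Fin 2) F

theorem trzero_sq {M : M₂} (h : M.trace = 0) : M * M = (-M.det) • (1 : M₂) := by
  rw [Matrix.trace_fin_two] at h
  rw [Matrix.det_fin_two]
  ext i j
  fin_cases i <;> fin_cases j <;> simp [Matrix.mul_apply, Fin.sum_univ_two]
  · linear_combination M 0 0 * h
  · linear_combination M 0 1 * h
  · linear_combination M 1 0 * h
  · linear_combination M 1 1 * h

theorem trzero_anti {M N : M₂} (hM : M.trace = 0) (hN : N.trace = 0) :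
    N * M = (M * N).trace • (1 : M₂) - M * N := by
  rw [Matrix.trace_fin_two] at hM hN
  simp only [Matrix.trace_fin_two]
  ext i j
  fin_cases i <;> fin_cases j <;> simp [Matrix.mul_apply, Fin.sum_univ_two]
  · linear_combination N 0 0 * hM + (-M 1 1) * hN
  · linear_combination N 0 1 * hM + M 0 1 * hN
  · linear_combination N 1 0 * hM + M 1 0 * hN
  · linear_combination N 1 1 * hM - M 0 0 * hN

/-- A set of invertible trace-zero matrices of one class, closed under scalars and mutual conjugation. -/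
structure ConjSet (S : Matrix (Fin 2) (Fin 2) F → Prop) (d : F) : Prop where
  tr0 : ∀ M, S M → M.trace = 0
  det0 : ∀ M, S M → M.det ≠ 0
  d0 : d ≠ 0
  cls : ∀ M, S M → IsSquare (d * M.det)
  smul : ∀ M, S M → ∀ c : F, c ≠ 0 → S (c • M)
  conj : ∀ M N, S M → S N → S (M * N * M)

namespace ConjSet

variable {S : Matrix (Fin 2) (Fin 2) F → Prop} {d : F} (hS : ConjSet S d)
include hS

theorem smul_iff {c : F} (hc : c ≠ 0) (M : M₂) : S (c • M) ↔ S M :=
  ⟨fun h => by
    have := hS.smul _ h c⁻¹ (inv_ne_zero hc)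
    rwa [inv_smul_smul₀ hc] at this, fun h => hS.smul _ h c hc⟩

theorem conj_iff {M : M₂} (hM : S M) (N : M₂) : S (M * N * M) ↔ S N := by
  refine ⟨fun h => ?_, hS.conj M N hM⟩
  have := hS.conj M _ hM h
  rw [show M * (M * N * M) * M = (M * M) * N * (M * M) by simp only [Matrix.mul_assoc], trzero_sq (hS.tr0 M hM),
    Matrix.smul_mul, Matrix.one_mul, Matrix.mul_smul, Matrix.mul_one, smul_smul] at this
  exact (hS.smul_iff (mul_ne_zero (neg_ne_zero.2 (hS.det0 M hM)) (neg_ne_zero.2 (hS.det0 M hM))) N).1 this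

/-- The stabiliser of the set. -/
def stabilizer (_hS : ConjSet S d) : Subgroup SL₂ where
  carrier := {A | ∀ N, S ((A : M₂) * N * ((A⁻¹ : SL₂) : M₂)) ↔ S N}
  one_mem' := fun N => by simp
  mul_mem' {A B} hA hB := fun N => by
    have e : ((A * B : SL₂) : M₂) * N * (((A * B)⁻¹ : SL₂) : M₂) =
        (A : M₂) * ((B : M₂) * N * ((B⁻¹ : SL₂) : M₂)) * ((A⁻¹ : SL₂) : M₂) := by
      rw [_root_.mul_inv_rev, Matrix.SpecialLinearGroup.coe_mul, Matrix.SpecialLinearGroup.coe_mul]
      simp only [Matrix.mul_assoc]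
    rw [e, hA, hB]
  inv_mem' {A} hA := fun N => by
    rw [← hA (((A⁻¹ : SL₂) : M₂) * N * (((A⁻¹)⁻¹ : SL₂) : M₂)), inv_inv,
      show (A : M₂) * (((A⁻¹ : SL₂) : M₂) * N * (A : M₂)) * ((A⁻¹ : SL₂) : M₂) =
        ((A * A⁻¹ : SL₂) : M₂) * N * ((A * A⁻¹ : SL₂) : M₂) by
        simp only [Matrix.SpecialLinearGroup.coe_mul, Matrix.mul_assoc],
      mul_inv_cancel, Matrix.SpecialLinearGroup.coe_one, Matrix.one_mul, Matrix.mul_one]

theorem mem_stabilizer {A : SL₂} :
    A ∈ hS.stabilizer ↔ ∀ N, S ((A : M₂) * N * ((A⁻¹ : SL₂) : M₂)) ↔ S N := Iff.rfl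

theorem pair_inv {A : SL₂} {M N : M₂} (hM : M.trace = 0) (hN : N.trace = 0) {s : F} (hA : (A : M₂) = s • (M * N)) :
    ((A⁻¹ : SL₂) : M₂) = s • (N * M) := by
  have hdet : s * s * (M.det * N.det) = 1 := by
    have := A.2
    rw [hA, Matrix.det_smul, Matrix.det_mul, Fintype.card_fin] at this
    linear_combination this
  have h1 : (A : M₂) * (s • (N * M)) = 1 := by
    rw [hA, Matrix.smul_mul, Matrix.mul_smul, smul_smul, show M * N * (N * M) = M * (N * N) * M by
      simp only [Matrix.mul_assoc], trzero_sq hN, Matrix.mul_smul, Matrix.mul_one, Matrix.smul_mul, trzero_sq hM,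
      smul_smul, smul_smul, show s * s * -N.det * -M.det = 1 by linear_combination hdet, one_smul]
  have h2 : ((A⁻¹ : SL₂) : M₂) * (A : M₂) = 1 := by
    rw [← Matrix.SpecialLinearGroup.coe_mul, inv_mul_cancel, Matrix.SpecialLinearGroup.coe_one]
  calc ((A⁻¹ : SL₂) : M₂) = ((A⁻¹ : SL₂) : M₂) * ((A : M₂) * (s • (N * M))) := by rw [h1, Matrix.mul_one]
    _ = s • (N * M) := by rw [← Matrix.mul_assoc, h2, Matrix.one_mul]

theorem pair_mem {A : SL₂} {M N : M₂} (hM : S M) (hN : S N) {s : F} (hA : (A : M₂) = s • (M * N)) :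
    A ∈ hS.stabilizer := fun L => by
  have hs : s ≠ 0 := fun h => by
    have := A.2
    rw [hA, h, zero_smul, Matrix.det_zero] at this
    exact zero_ne_one this
  rw [hS.pair_inv (hS.tr0 M hM) (hS.tr0 N hN) hA, hA, Matrix.smul_mul, Matrix.smul_mul, Matrix.mul_smul, smul_smul,
    hS.smul_iff (mul_ne_zero hs hs), show M * N * L * (N * M) = M * (N * L * N) * M by simp only [Matrix.mul_assoc],
    hS.conj_iff hM, hS.conj_iff hN]

theorem scalar_mem {A : SL₂} (h : IsScalar A) : A ∈ hS.stabilizer := by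
  rcases h with rfl | rfl
  · exact one_mem _
  · intro N
    rw [show ((-1 : SL₂))⁻¹ = -1 from inv_eq_of_mul_eq_one_right (by simp),
      Matrix.SpecialLinearGroup.coe_neg, Matrix.SpecialLinearGroup.coe_one]
    simp

theorem exists_pair {M N : M₂} (hM : S M) (hN : S N) : ∃ A ∈ hS.stabilizer, ∃ s : F, (A : M₂) = s • (M * N) := by
  obtain ⟨a, ha⟩ := hS.cls M hM
  obtain ⟨b, hb⟩ := hS.cls N hN
  obtain ⟨r, hr, hr0⟩ : ∃ r : F, r * r = M.det * N.det ∧ r ≠ 0 := by
    have hr : a * b / d * (a * b / d) = M.det * N.det := by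
      rw [div_mul_div_comm, div_eq_iff (mul_ne_zero hS.d0 hS.d0)]
      linear_combination -(d * N.det) * ha - a * a * hb
    exact ⟨_, hr, fun h => mul_ne_zero (hS.det0 M hM) (hS.det0 N hN) (by rw [← hr, h, zero_mul])⟩
  have hdet : (r⁻¹ • (M * N)).det = 1 := by
    rw [Matrix.det_smul, Matrix.det_mul, Fintype.card_fin, ← hr]
    field_simp
  exact ⟨⟨r⁻¹ • (M * N), hdet⟩, hS.pair_mem hM hN rfl, r⁻¹, rfl⟩

/-- A stabiliser with a large torus and an element outside its normaliser is everything. -/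
theorem stabilizer_eq_top (hq : ((2 : F) = 0 ∧ 4 ≤ Fintype.card F) ∨ 13 ≤ Fintype.card F) {X Y Z : M₂} (hX : S X)
    (hY : S Y) (hZ : S Z) (ht : (X * Y).trace ≠ 0) (hgram : (X * Y).trace ^ 2 ≠ 4 * (X.det * Y.det))
    (hpen : ∀ a b : F, (a • X + b • Y).det ≠ 0 → IsSquare (d * (a • X + b • Y).det) → S (a • X + b • Y))
    (hZout : ¬ ∃ a b : F, Z = a • X + b • Y) (hZp : (Z * X).trace ≠ 0 ∨ (Z * Y).trace ≠ 0) :
    hS.stabilizer = ⊤ := by
  classical
  obtain ⟨p, hpc⟩ := CharP.exists F
  obtain ⟨e, hp, hcard⟩ := FiniteField.card F p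
  haveI : Fact p.Prime := ⟨hp⟩
  haveI := finite_pgl (F := F)
  have h4 : 4 ≤ Fintype.card F := by rcases hq with ⟨-, h⟩ | h <;> omega
  set D := pslData (F := F) p
  obtain ⟨G, hG, s, hGs⟩ := hS.exists_pair hX hY
  obtain ⟨A, hA, r, hAr⟩ := hS.exists_pair hX hZ
  have hX0 := hS.det0 X hX
  have hs : s ≠ 0 := fun h => by
    have := G.2; rw [hGs, h, zero_smul, Matrix.det_zero] at this; exact zero_ne_one this
  have hr : r ≠ 0 := fun h => by
    have := A.2; rw [hAr, h, zero_smul, Matrix.det_zero] at this; exact zero_ne_one this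
  have hsd : s * s * (X.det * Y.det) = 1 := by
    have := G.2
    rw [hGs, Matrix.det_smul, Matrix.det_mul, Fintype.card_fin] at this
    linear_combination this
  have htr : tr G = s * (X * Y).trace := by
    simp only [tr, hGs, Matrix.trace_fin_two, Matrix.smul_apply, smul_eq_mul]; ring
  have ht4 : tr G ^ 2 ≠ 4 := fun h => hgram (by
    rw [htr] at h
    linear_combination X.det * Y.det * h - (X * Y).trace ^ 2 * hsd)
  have hns : ¬ IsScalar G := fun h => ht4 (tr_scalar h)
  have hsemi : IsSemi G := ⟨hns, ht4⟩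
  obtain ⟨a, ha⟩ : ∃ a, a = (proj G : PSL₂) := ⟨_, rfl⟩
  have ha1 : a ≠ 1 := fun h => hns (proj_one_iff.mp (ha ▸ h))
  have hap : a ^ p ≠ 1 := fun h => ht4 ((pow_eq_one_iff p hns).mp (ha ▸ h))
  -- two independent matrices
  have hind : ∀ u v : F, u • X + v • Y = 0 → u = 0 ∧ v = 0 := fun u v h => by
    have hv : v = 0 := by
      by_contra hv
      refine hgram ?_
      have hYX : Y = (-(v⁻¹ * u)) • X := by
        rw [neg_smul, mul_smul, eq_neg_of_add_eq_zero_left h, smul_neg, neg_neg, inv_smul_smul₀ hv]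
      rw [hYX, Matrix.mul_smul, trzero_sq (hS.tr0 X hX), Matrix.det_smul, Fintype.card_fin, smul_smul, Matrix.trace_smul,
        Matrix.trace_one, Fintype.card_fin, smul_eq_mul]
      push_cast
      ring
    subst hv
    rw [zero_smul, add_zero, smul_eq_zero] at h
    exact ⟨h.resolve_right fun e => hX0 (by rw [e, Matrix.det_zero]), rfl⟩
  -- the torus lies in the stabiliser
  obtain ⟨K, hK⟩ : ∃ K : Subgroup PSL₂, K = hS.stabilizer.map proj := ⟨_, rfl⟩
  have hmemK : ∀ {g : SL₂}, proj g ∈ K → g ∈ hS.stabilizer := by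
    intro g hg
    rw [hK] at hg
    obtain ⟨g', hg', e⟩ := hg
    rcases proj_eq_iff.mp e with rfl | rfl
    · exact hg'
    · rw [← neg_one_mul]; exact mul_mem (hS.scalar_mem (Or.inr rfl)) hg'
  have htor : tor a ≤ K := by
    intro b hb
    obtain ⟨y, rfl⟩ := proj_surjective b
    rw [ha, mem_tor_iff] at hb
    obtain ⟨α, β, hy⟩ := exists_linear hns hb.symm
    obtain ⟨N, hN⟩ : ∃ N, N = (α * s) • Y + (β * (-X.det)⁻¹) • X := ⟨_, rfl⟩
    have hyN : (y : M₂) = (1 : F) • (X * N) := by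
      rw [hy, hGs, one_smul, hN, Matrix.mul_add, Matrix.mul_smul, Matrix.mul_smul, trzero_sq (hS.tr0 X hX), smul_smul,
        smul_smul, mul_assoc β, inv_mul_cancel₀ (neg_ne_zero.2 hX0), mul_one]
    have hdet : X.det * N.det = 1 := by
      have := y.2
      rwa [hyN, one_smul, Matrix.det_mul] at this
    have hN0 : N.det ≠ 0 := fun h => by rw [h, mul_zero] at hdet; exact zero_ne_one hdet
    obtain ⟨w, hw⟩ := hS.cls X hX
    have hNsq : IsSquare (d * N.det) := ⟨w * N.det, by
      linear_combination N.det * N.det * hw - d * N.det * hdet⟩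
    have hcomm : N = (β * (-X.det)⁻¹) • X + (α * s) • Y := by rw [hN, add_comm]
    have hSN : S N := by
      rw [hcomm] at hN0 hNsq ⊢
      exact hpen _ _ hN0 hNsq
    rw [hK]
    exact ⟨y, hS.pair_mem hX hSN hyN, rfl⟩
  obtain ⟨g, hg1, hgp, ho, htg⟩ := exists_generator p ha1 hap
  have hgT : g ∈ tor a := htg ▸ D.self g
  have hgK : g ∈ K := htor hgT
  have hbound : ∀ n : ℕ, 0 < n → g ^ n = 1 → Nat.card (tor a) ≤ n := fun n hn h =>
    ho ▸ Nat.le_of_dvd hn (orderOf_dvd_of_pow_eq_one h)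
  have hq2 : ∀ j : ℕ, 0 < j → (Fintype.card F - 1) / del F ≤ Nat.card (tor a) := fun _ _ => by
    rcases card_tor_semi p ha1 hap with h | h <;> rw [h]
    exact Nat.div_le_div_right (by omega)
  have hsize := hq2 1 one_pos
  -- the element outside
  have hAK : (proj A : PSL₂) ∈ K := hK ▸ ⟨A, hA, rfl⟩
  have hcommAG : ¬ Commute A G := fun hc => by
    obtain ⟨α, β, hy⟩ := exists_linear hns hc.symm
    refine hZout ⟨β * (-X.det)⁻¹ * r⁻¹, α * s * r⁻¹, ?_⟩
    have h1 : X * (A : M₂) = (r * -X.det) • Z := by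
      rw [hAr, Matrix.mul_smul, ← Matrix.mul_assoc, trzero_sq (hS.tr0 X hX), Matrix.smul_mul, Matrix.one_mul, smul_smul]
    simp only [hy, hGs, Matrix.mul_add, Matrix.mul_smul, ← Matrix.mul_assoc, trzero_sq (hS.tr0 X hX),
      Matrix.smul_mul, Matrix.one_mul, Matrix.mul_one] at h1
    have h2 := congrArg (fun M => (r * -X.det)⁻¹ • M) h1
    rw [inv_smul_smul₀ (mul_ne_zero hr (neg_ne_zero.2 hX0))] at h2
    rw [← h2]
    match_scalars <;> field_simp
  have hXG : X * (G : M₂) = ((G⁻¹ : SL₂) : M₂) * X := by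
    rw [hS.pair_inv (hS.tr0 X hX) (hS.tr0 Y hY) hGs, hGs, Matrix.mul_smul, Matrix.smul_mul, ← Matrix.mul_assoc,
      Matrix.mul_assoc Y, trzero_sq (hS.tr0 X hX), Matrix.smul_mul, Matrix.one_mul, Matrix.mul_smul, Matrix.mul_one]
  -- exceptions
  by_contra hne
  have hK1 : K ≠ ⊤ := fun h => hne (eq_top_iff.2 fun y _ => hmemK (h ▸ Subgroup.mem_top _))
  obtain ⟨M, hM, hKM⟩ := (eq_top_or_exists_le_coatom K).resolve_left hK1
  have hgM : g ∈ M := hKM hgK
  have hp2q : p = 2 → Even (Fintype.card F) := fun h => by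
    rw [hcard, h]; exact (Nat.even_pow).2 ⟨even_two, e.ne_zero⟩
  have hsmall : ∀ n, 0 < n → n ≤ 2 → g ^ n ≠ 1 := fun n hn hn2 h => by
    have := hbound n hn h
    rcases hq with ⟨h20, hq4⟩ | hq13
    · have : del F = 1 := by
        haveI := CharTwo.of_one_ne_zero_of_two_eq_zero one_ne_zero h20
        have := FiniteField.even_card_of_char_two (ringChar.eq F 2)
        rcases del_cases F with ⟨hd, -⟩ | ⟨-, ho⟩
        · exact hd
        · exact absurd (Nat.even_iff.2 this) (Nat.not_even_iff_odd.2 ho)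
      rw [this, Nat.div_one] at hsize
      omega
    · have h2d : (Fintype.card F - 1) / 2 ≤ (Fintype.card F - 1) / del F :=
        Nat.div_le_div_left two_del_le.2 two_del_le.1
      omega
  cases coatom_cases p h4 hM with
  | torus b hb hbp h =>
    have hgb : g ∈ tor b := by
      by_contra hn
      have := (D.semi_flip hb hbp ((D.mem_normalizer_iff hb).mp (h ▸ hgM)) hn).1
      exact hsmall 2 two_pos le_rfl ((pow_two g).trans this)
    have hba : tor a = tor b := by rw [← htg]; exact D.same hb hgb hg1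
    have hA' : (proj A : PSL₂) ∈ Subgroup.normalizer (tor a : Set PSL₂) := by
      rw [hba, ← h]; exact hKM hAK
    have h1 := (D.mem_normalizer_iff ha1).mp hA'
    change _ ∈ tor a at h1
    rw [ha, conj_mem_tor_iff] at h1
    rcases commute_inv_cases hsemi h1.symm (tr_conj A G) with e | e
    · exact hcommAG ((mul_inv_eq_iff_eq_mul (G := SL₂)).mp e)
    · -- the third matrix commutes with the torus
      have h2 : (A : M₂) * G = ((G⁻¹ : SL₂) : M₂) * A := by
        have := congrArg Subtype.val ((mul_inv_eq_iff_eq_mul (G := SL₂)).mp e)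
        rwa [Matrix.SpecialLinearGroup.coe_mul, Matrix.SpecialLinearGroup.coe_mul] at this
      have h3 : Z * (G : M₂) = (G : M₂) * Z := by
        have e1 : X * ((A : M₂) * G) = (r * -X.det) • (Z * G) := by
          rw [hAr, Matrix.smul_mul, Matrix.mul_smul, ← Matrix.mul_assoc, ← Matrix.mul_assoc,
            trzero_sq (hS.tr0 X hX), Matrix.smul_mul, Matrix.one_mul, Matrix.smul_mul, smul_smul]
        have hXG' : X * ((G⁻¹ : SL₂) : M₂) = (G : M₂) * X := by
          rw [hS.pair_inv (hS.tr0 X hX) (hS.tr0 Y hY) hGs, hGs, Matrix.mul_smul, Matrix.smul_mul, Matrix.mul_assoc]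
        have e2 : X * (((G⁻¹ : SL₂) : M₂) * A) = (r * -X.det) • ((G : M₂) * Z) := by
          rw [← Matrix.mul_assoc, hXG', Matrix.mul_assoc, hAr, Matrix.mul_smul, ← Matrix.mul_assoc X,
            trzero_sq (hS.tr0 X hX), Matrix.smul_mul, Matrix.one_mul, smul_smul, Matrix.mul_smul]
        rw [h2, e2] at e1
        exact (smul_right_injective _ (mul_ne_zero hr (neg_ne_zero.2 hX0)) e1).symm
      rw [hGs, Matrix.mul_smul, Matrix.smul_mul] at h3
      have h4' := smul_right_injective _ hs h3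
      have h5 : (Z * X).trace • Y = (Z * Y).trace • X := by
        have a1 := trzero_anti (hS.tr0 Z hZ) (hS.tr0 X hX)
        have a2 := trzero_anti (hS.tr0 Z hZ) (hS.tr0 Y hY)
        have e1 : X * Y * Z = (Z * Y).trace • X - X * Z * Y := by
          rw [Matrix.mul_assoc, a2, Matrix.mul_sub, Matrix.mul_smul, Matrix.mul_one, ← Matrix.mul_assoc]
        have e2 : X * Z * Y = (Z * X).trace • Y - Z * X * Y := by
          rw [a1, Matrix.sub_mul, Matrix.smul_mul, Matrix.one_mul]
        rw [e1, e2, ← Matrix.mul_assoc] at h4'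
        linear_combination (norm := abel_nf) h4'
      obtain ⟨h6, h7⟩ := hind (-(Z * Y).trace) (Z * X).trace (by rw [h5, neg_smul, neg_add_cancel])
      exact hZp.elim (fun h => h h7) fun h => h (neg_eq_zero.1 h6)
  | borel b hb hbp h =>
    obtain ⟨P, hP, hbP⟩ := uni_frame p hb hbp
    obtain ⟨v, hv⟩ : ∃ v : Fin 2 → F, v = P *ᵥ ![1, 0] := ⟨_, rfl⟩
    have hv0 : v ≠ 0 := fun h0 => by
      have := congrArg (fun w => P⁻¹ *ᵥ w) (hv.symm.trans h0)
      simp only [Matrix.mulVec_mulVec, Matrix.nonsing_inv_mul _ hP, Matrix.one_mulVec, Matrix.mulVec_zero] at this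
      exact one_ne_zero (congrFun this 0)
    have heig : ∀ y ∈ hS.stabilizer, ∃ c : F, (y : M₂) *ᵥ v = c • v := by
      intro y hy
      have h1 : proj y ∈ M := hKM (hK ▸ ⟨y, hy, rfl⟩)
      have h2 := (D.mem_normalizer_iff hb).mp (h ▸ h1)
      change _ ∈ tor b at h2
      rw [hbP, conj_mem_tor_iff] at h2
      obtain ⟨y', rfl⟩ : ∃ y' : SL₂, Grp.SL2.conjHom P hP y' = y := ⟨⟨P⁻¹ * y * P, by
          rw [Matrix.det_mul, Matrix.det_mul, y.2, mul_one, Matrix.det_nonsing_inv, Ring.inverse_mul_cancel _ hP]⟩,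
        Subtype.ext (by
          show P * (P⁻¹ * (y : M₂) * P) * P⁻¹ = y
          rw [← Matrix.mul_assoc, ← Matrix.mul_assoc, Matrix.mul_nonsing_inv _ hP, Matrix.one_mul,
            Matrix.mul_assoc, Matrix.mul_nonsing_inv _ hP, Matrix.mul_one])⟩
      rw [← map_inv, ← map_mul, ← map_mul] at h2
      have h3 : Commute (y' * up (1 : F) * y'⁻¹) (up 1) := conjHom_injective P hP (by
        simp only [map_mul, map_inv] at h2 ⊢; exact h2)
      have h10 : (y' : M₂) 1 0 = 0 := by
        have h5 := (commute_up_one_iff.mp h3).1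
        simp only [Matrix.SpecialLinearGroup.coe_mul, Matrix.SpecialLinearGroup.coe_inv, Matrix.adjugate_fin_two] at h5
        simp [up, Matrix.mul_apply, Fin.sum_univ_two] at h5
        exact mul_self_eq_zero.mp (by linear_combination -h5)
      refine ⟨(y' : M₂) 0 0, ?_⟩
      rw [conjHom_coe, hv, Matrix.mulVec_mulVec, Matrix.mul_assoc, Matrix.nonsing_inv_mul _ hP, Matrix.mul_one,
        ← Matrix.mulVec_mulVec, ← Matrix.mulVec_smul]
      congr 1
      funext i
      fin_cases i <;> simp [Matrix.mulVec, dotProduct, Fin.sum_univ_two, h10]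
    obtain ⟨w, hw⟩ : ∃ w, w = X *ᵥ v := ⟨_, rfl⟩
    have hXX : ∀ u : Fin 2 → F, X *ᵥ (X *ᵥ u) = (-X.det) • u := fun u => by
      rw [Matrix.mulVec_mulVec, trzero_sq (hS.tr0 X hX), Matrix.smul_mulVec, Matrix.one_mulVec]
    have heigw : ∀ y ∈ hS.stabilizer, ∃ c : F, (y : M₂) *ᵥ w = c • w := by
      intro y hy
      obtain ⟨y', hy'⟩ : ∃ y' : SL₂, (y' : M₂) = (-X.det)⁻¹ • (X * y * X) := ⟨⟨_, by
        rw [Matrix.det_smul, Matrix.det_mul, Matrix.det_mul, y.2, Fintype.card_fin, mul_one]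
        field_simp⟩, rfl⟩
      have hy'mem : y' ∈ hS.stabilizer := by
        intro N
        have hinv : ((y'⁻¹ : SL₂) : M₂) = (-X.det)⁻¹ • (X * ((y⁻¹ : SL₂) : M₂) * X) := by
          have h2 : (y' : M₂) * ((-X.det)⁻¹ • (X * ((y⁻¹ : SL₂) : M₂) * X)) = 1 := by
            rw [hy', Matrix.smul_mul, Matrix.mul_smul, smul_smul,
              show X * (y : M₂) * X * (X * ((y⁻¹ : SL₂) : M₂) * X) = X * (y : M₂) * (X * X) * ((y⁻¹ : SL₂) : M₂) * X by
                simp only [Matrix.mul_assoc],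
              trzero_sq (hS.tr0 X hX), Matrix.mul_smul, Matrix.mul_one, Matrix.smul_mul, Matrix.smul_mul,
              Matrix.mul_assoc X, ← Matrix.SpecialLinearGroup.coe_mul, mul_inv_cancel,
              Matrix.SpecialLinearGroup.coe_one, Matrix.mul_one, trzero_sq (hS.tr0 X hX), smul_smul, smul_smul,
              show (-X.det)⁻¹ * (-X.det)⁻¹ * (-X.det) * -X.det = 1 by field_simp, one_smul]
          calc ((y'⁻¹ : SL₂) : M₂) = ((y'⁻¹ : SL₂) : M₂) * ((y' : M₂) * _) := by rw [h2, Matrix.mul_one]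
            _ = _ := by
              rw [← Matrix.mul_assoc, ← Matrix.SpecialLinearGroup.coe_mul, inv_mul_cancel,
                Matrix.SpecialLinearGroup.coe_one, Matrix.one_mul]
        rw [hy', hinv, Matrix.smul_mul, Matrix.smul_mul, Matrix.mul_smul, smul_smul,
          hS.smul_iff (mul_ne_zero (inv_ne_zero (neg_ne_zero.2 hX0)) (inv_ne_zero (neg_ne_zero.2 hX0))),
          show X * (y : M₂) * X * N * (X * ((y⁻¹ : SL₂) : M₂) * X) =
            X * ((y : M₂) * (X * N * X) * ((y⁻¹ : SL₂) : M₂)) * X by simp only [Matrix.mul_assoc],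
          hS.conj_iff hX, hy, hS.conj_iff hX]
      obtain ⟨c, hc⟩ := heig y' hy'mem
      rw [hy', Matrix.smul_mulVec, ← Matrix.mulVec_mulVec, ← Matrix.mulVec_mulVec, ← hw] at hc
      refine ⟨c, ?_⟩
      have h2 := congrArg (fun u => X *ᵥ u) hc
      simp only [Matrix.mulVec_smul, hXX, ← hw, smul_smul,
        inv_mul_cancel₀ (neg_ne_zero.2 hX0), one_smul] at h2
      exact h2
    obtain ⟨ν, hν⟩ := heig G hG
    obtain ⟨ν', hν'⟩ := heigw G hG
    by_cases hdep : ∃ μ : F, w = μ • v
    · obtain ⟨μ, hμ⟩ := hdep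
      have hμ0 : μ ≠ 0 := fun h0 => by
        have := hXX v
        rw [← hw, hμ, h0, zero_smul, Matrix.mulVec_zero] at this
        exact hv0 ((smul_eq_zero.1 this.symm).resolve_left (neg_ne_zero.2 hX0))
      have h1 : ((G⁻¹ : SL₂) : M₂) *ᵥ w = ν • w := by
        rw [hw, Matrix.mulVec_mulVec, ← hXG, ← Matrix.mulVec_mulVec, hν, Matrix.mulVec_smul]
      rw [hμ, Matrix.mulVec_smul, smul_comm] at h1
      have h2 := congrArg (fun u => (G : M₂) *ᵥ u) (smul_right_injective _ hμ0 h1)
      simp only [Matrix.mulVec_mulVec, Matrix.mulVec_smul, hν, smul_smul] at h2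
      rw [← Matrix.SpecialLinearGroup.coe_mul, mul_inv_cancel, Matrix.SpecialLinearGroup.coe_one,
        Matrix.one_mulVec] at h2
      have hνν : ν * ν = 1 := by
        by_contra hne'
        refine hv0 ?_
        have h6 : (ν * ν - 1) • v = 0 := by rw [sub_smul, ← h2, one_smul, sub_self]
        exact (smul_eq_zero.1 h6).resolve_left (sub_ne_zero.2 hne')
      have hd0 : ((G : M₂) - ν • 1).det = 0 := Matrix.exists_mulVec_eq_zero_iff.mp ⟨v, hv0, by
        rw [Matrix.sub_mulVec, Matrix.smul_mulVec, Matrix.one_mulVec, hν, sub_self]⟩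
      have hdG := det_eq G
      rw [Matrix.det_fin_two] at hd0
      simp at hd0
      refine ht4 ?_
      unfold tr
      have hnt : ν * ((G : M₂) 0 0 + (G : M₂) 1 1) = 2 := by linear_combination -hd0 + hdG + hνν
      linear_combination (ν * ((G : M₂) 0 0 + (G : M₂) 1 1) + 2) * hnt -
        ((G : M₂) 0 0 + (G : M₂) 1 1) ^ 2 * hνν
    · refine hcommAG ?_
      obtain ⟨α, hα⟩ := heig A hA
      obtain ⟨α', hα'⟩ := heigw A hA
      have hli : LinearIndependent F ![v, w] := by
        rw [LinearIndependent.pair_iff]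
        intro u u' he
        have hu' : u' = 0 := by
          by_contra hu
          refine hdep ⟨-(u'⁻¹ * u), ?_⟩
          rw [neg_smul, mul_smul, eq_neg_of_add_eq_zero_left he, smul_neg, neg_neg, inv_smul_smul₀ hu]
        subst hu'
        rw [zero_smul, add_zero, smul_eq_zero] at he
        exact ⟨he.resolve_right hv0, rfl⟩
      have hspan : Submodule.span F (Set.range ![v, w]) = ⊤ :=
        hli.span_eq_top_of_card_eq_finrank (by simp)
      refine Subtype.ext ?_
      show (A : M₂) * G = (G : M₂) * A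
      refine Matrix.ext_iff_mulVec.2 fun u => ?_
      have hu : u ∈ Submodule.span F (Set.range ![v, w]) := hspan ▸ Submodule.mem_top
      rw [Matrix.range_cons_cons_empty, Submodule.mem_span_pair] at hu
      obtain ⟨u1, u2, rfl⟩ := hu
      simp only [← Matrix.mulVec_mulVec, Matrix.mulVec_add, Matrix.mulVec_smul, hν, hν', hα, hα', smul_smul]
      congr 2 <;> ring
  | alt4 hq' h8 h10 iso =>
    obtain ⟨eM⟩ := iso
    have hpw : ∀ n : ℕ, eM ⟨g, hgM⟩ ^ n = 1 → g ^ n = 1 := fun n h => by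
      have := congrArg (fun z : M => (z : PSL₂)) (eM.injective (a₁ := (⟨g, hgM⟩ : M) ^ n) (a₂ := 1) (by rw [map_pow, h, map_one]))
      simpa using this
    have hodd : Fintype.card F % 2 = 1 := by rw [hq']; omega
    have h13 : 13 ≤ Fintype.card F := by
      rcases hq with ⟨h20, -⟩ | h
      · haveI := CharTwo.of_one_ne_zero_of_two_eq_zero one_ne_zero h20
        have := FiniteField.even_card_of_char_two (ringChar.eq F 2); omega
      · exact h
    have h2d : (Fintype.card F - 1) / 2 ≤ (Fintype.card F - 1) / del F :=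
      Nat.div_le_div_left two_del_le.2 two_del_le.1
    rcases orders_alt_four (eM ⟨g, hgM⟩) with h | h
    · have := hbound 3 (by omega) (hpw 3 h); omega
    · have := hbound 2 two_pos (hpw 2 h); omega
  | perm4 hq' h8 iso =>
    obtain ⟨eM⟩ := iso
    have hpw : ∀ n : ℕ, eM ⟨g, hgM⟩ ^ n = 1 → g ^ n = 1 := fun n h => by
      have := congrArg (fun z : M => (z : PSL₂)) (eM.injective (a₁ := (⟨g, hgM⟩ : M) ^ n) (a₂ := 1) (by rw [map_pow, h, map_one]))
      simpa using this
    have h13 : 13 ≤ Fintype.card F := by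
      rcases hq with ⟨h20, -⟩ | h
      · haveI := CharTwo.of_one_ne_zero_of_two_eq_zero one_ne_zero h20
        have := FiniteField.even_card_of_char_two (ringChar.eq F 2); omega
      · exact h
    have h2d : (Fintype.card F - 1) / 2 ≤ (Fintype.card F - 1) / del F :=
      Nat.div_le_div_left two_del_le.2 two_del_le.1
    rcases orders_perm_four (eM ⟨g, hgM⟩) with h | h
    · have := hbound 4 (by omega) (hpw 4 h); omega
    · have := hbound 3 (by omega) (hpw 3 h); omega
  | alt5 hq' h10 iso =>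
    obtain ⟨eM⟩ := iso
    have hpw : ∀ n : ℕ, eM ⟨g, hgM⟩ ^ n = 1 → g ^ n = 1 := fun n h => by
      have := congrArg (fun z : M => (z : PSL₂)) (eM.injective (a₁ := (⟨g, hgM⟩ : M) ^ n) (a₂ := 1) (by rw [map_pow, h, map_one]))
      simpa using this
    have h13 : 13 ≤ Fintype.card F := by
      rcases hq with ⟨h20, -⟩ | h
      · haveI := CharTwo.of_one_ne_zero_of_two_eq_zero one_ne_zero h20
        have := FiniteField.even_card_of_char_two (ringChar.eq F 2); omega
      · exact h
    have h2d : (Fintype.card F - 1) / 2 ≤ (Fintype.card F - 1) / del F :=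
      Nat.div_le_div_left two_del_le.2 two_del_le.1
    rcases orders_alt_five (eM ⟨g, hgM⟩) with h | h | h
    · have := hbound 5 (by omega) (hpw 5 h); omega
    · have := hbound 3 (by omega) (hpw 3 h); omega
    · have := hbound 2 two_pos (hpw 2 h); omega
  | subfield L m x hm hc h3 h =>
    have h1 := orderOf_le_sfOver L (h ▸ hgM)
    have hk2 : Nat.card L * Nat.card L ≤ Fintype.card F := by
      rw [← hc, ← sq]; exact Nat.pow_le_pow_right (by omega) hm.two_le
    rw [ho] at h1
    by_cases h20 : (2 : F) = 0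
    · haveI := CharTwo.of_one_ne_zero_of_two_eq_zero one_ne_zero h20
      have hev := FiniteField.even_card_of_char_two (ringChar.eq F 2)
      have : del F = 1 := by
        rcases del_cases F with ⟨hd, -⟩ | ⟨-, ho'⟩
        · exact hd
        · exact absurd (Nat.even_iff.2 hev) (Nat.not_even_iff_odd.2 ho')
      rw [this, Nat.div_one] at hsize
      nlinarith [Nat.sub_add_cancel (show 1 ≤ Fintype.card F by omega)]
    · have h13 : 13 ≤ Fintype.card F := hq.resolve_left fun h => h20 h.1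
      have h2d : (Fintype.card F - 1) / 2 ≤ (Fintype.card F - 1) / del F :=
        Nat.div_le_div_left two_del_le.2 two_del_le.1
      rcases Nat.lt_or_ge (Nat.card L) 4 with hk | hk
      · omega
      · have hk4 : 4 * Nat.card L ≤ Fintype.card F := le_trans (Nat.mul_le_mul_right _ hk) hk2
        omega

/-- Every matrix of the class is in the set. -/
theorem of_stabilizer_eq_top (htop : hS.stabilizer = ⊤) {X : M₂} (hX : S X) (hXns : ∀ c : F, X ≠ c • 1) {N : M₂}
    (hN : N.trace = 0) (hN0 : N.det ≠ 0) (hNns : ∀ c : F, N ≠ c • 1) (hsq : IsSquare (d * N.det)) : S N := by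
  classical
  -- a scalar adjusting the determinant
  obtain ⟨a, ha⟩ := hS.cls X hX
  obtain ⟨b, hb⟩ := hsq
  have hX0 := hS.det0 X hX
  have hd0 := hS.d0
  have ha0 : a ≠ 0 := fun h => mul_ne_zero hd0 hX0 (by rw [ha, h, zero_mul])
  have hb0 : b ≠ 0 := fun h => mul_ne_zero hd0 hN0 (by rw [hb, h, zero_mul])
  obtain ⟨N', hN'⟩ : ∃ N', N' = (a / b) • N := ⟨_, rfl⟩
  have hdetN' : N'.det = X.det := by
    rw [hN', Matrix.det_smul, Fintype.card_fin]
    rw [div_pow, div_mul_eq_mul_div, div_eq_iff (pow_ne_zero 2 hb0)]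
    refine mul_left_cancel₀ hd0 ?_
    linear_combination a ^ 2 * hb - b ^ 2 * ha
  -- both are conjugate to the companion matrix
  have comp : ∀ M : M₂, M.trace = 0 → (∀ c : F, M ≠ c • 1) → M.det = X.det →
      ∃ A : SL₂, M * (A : M₂) = (A : M₂) * !![0, -X.det; 1, 0] := by
    intro M hM hns hdet
    rw [Matrix.trace_fin_two] at hM
    rw [Matrix.det_fin_two] at hdet
    obtain ⟨u, v, hδ⟩ : ∃ u v : F, u * (M 1 0 * u + M 1 1 * v) - v * (M 0 0 * u + M 0 1 * v) ≠ 0 := by
      by_contra hcon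
      push Not at hcon
      have e1 := hcon 1 0
      have e2 := hcon 0 1
      have e3 := hcon 1 1
      simp at e1 e2 e3
      refine hns (M 0 0) ?_
      ext i j
      fin_cases i <;> fin_cases j <;> simp
      · exact e2
      · exact e1
      · linear_combination e3 - e1 + e2
    obtain ⟨δ, hδdef⟩ : ∃ δ, δ = u * (M 1 0 * u + M 1 1 * v) - v * (M 0 0 * u + M 0 1 * v) := ⟨_, rfl⟩
    rw [← hδdef] at hδ
    obtain ⟨α, β, hαβ⟩ : ∃ α β : F, α * α + β * β * X.det = δ⁻¹ := by
      by_cases h2 : (2 : F) = 0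
      · haveI := CharTwo.of_one_ne_zero_of_two_eq_zero one_ne_zero h2
        obtain ⟨r, hr⟩ := FiniteField.isSquare_of_char_two (ringChar.eq F 2) δ⁻¹
        exact ⟨r, 0, by rw [hr]; ring⟩
      · have hodd : Fintype.card F % 2 = 1 := by
          refine FiniteField.odd_card_of_char_ne_two fun hc => h2 ?_
          haveI := ringChar.of_eq hc
          exact CharTwo.two_eq_zero
        obtain ⟨α, β, h⟩ := FiniteField.exists_root_sum_quadratic (f := Polynomial.X ^ 2)
          (g := Polynomial.C X.det * Polynomial.X ^ 2 - Polynomial.C δ⁻¹)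
          (by rw [Polynomial.degree_X_pow]; rfl)
          (by
            rw [Polynomial.degree_sub_eq_left_of_degree_lt]
            · rw [Polynomial.degree_C_mul_X_pow _ hX0]; rfl
            · rw [Polynomial.degree_C_mul_X_pow _ hX0]
              exact lt_of_le_of_lt Polynomial.degree_C_le (by decide)) hodd
        simp at h
        exact ⟨α, β, by linear_combination h⟩
    refine ⟨⟨!![u, M 0 0 * u + M 0 1 * v; v, M 1 0 * u + M 1 1 * v] * !![α, -X.det * β; β, α], ?_⟩, ?_⟩
    · rw [Matrix.det_mul, Matrix.det_fin_two_of, Matrix.det_fin_two_of]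
      have hi : δ * δ⁻¹ = 1 := mul_inv_cancel₀ hδ
      linear_combination δ * hαβ - (α * α + β * β * X.det) * hδdef + hi
    · ext i j
      fin_cases i <;> fin_cases j <;> simp [Matrix.mul_apply, Fin.sum_univ_two]
      · linear_combination u * β * M 0 0 * hM - u * β * hdet + v * β * M 0 1 * hM
      · linear_combination u * α * M 0 0 * hM - u * α * hdet + v * α * M 0 1 * hM
      · linear_combination u * β * M 1 0 * hM - v * β * hdet + v * β * M 1 1 * hM
      · linear_combination u * α * M 1 0 * hM - v * α * hdet + v * α * M 1 1 * hM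
  obtain ⟨A, hA⟩ := comp X (hS.tr0 X hX) hXns rfl
  obtain ⟨A', hA'⟩ := comp N' (by rw [hN', Matrix.trace_smul, hN, smul_zero]) (fun c h => hNns (b / a * c) (by
    rw [mul_smul, ← h, hN', smul_smul, div_mul_div_comm, mul_comm a b, div_self (mul_ne_zero hb0 ha0), one_smul]))
    hdetN'
  have hmem : A' * A⁻¹ ∈ hS.stabilizer := htop ▸ Subgroup.mem_top _
  have h1 := (hmem X).2 hX
  have hinv : ∀ B : SL₂, (B : M₂) * ((B⁻¹ : SL₂) : M₂) = 1 ∧ ((B⁻¹ : SL₂) : M₂) * (B : M₂) = 1 := fun B =>
    ⟨by rw [← Matrix.SpecialLinearGroup.coe_mul, mul_inv_cancel, Matrix.SpecialLinearGroup.coe_one],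
     by rw [← Matrix.SpecialLinearGroup.coe_mul, inv_mul_cancel, Matrix.SpecialLinearGroup.coe_one]⟩
  have h2 : ((A' * A⁻¹ : SL₂) : M₂) * X * (((A' * A⁻¹)⁻¹ : SL₂) : M₂) = N' := by
    rw [_root_.mul_inv_rev, inv_inv, Matrix.SpecialLinearGroup.coe_mul, Matrix.SpecialLinearGroup.coe_mul]
    calc (A' : M₂) * ((A⁻¹ : SL₂) : M₂) * X * ((A : M₂) * ((A'⁻¹ : SL₂) : M₂))
        = (A' : M₂) * ((A⁻¹ : SL₂) : M₂) * (X * (A : M₂)) * ((A'⁻¹ : SL₂) : M₂) := by simp only [Matrix.mul_assoc]
      _ = (A' : M₂) * (((A⁻¹ : SL₂) : M₂) * (A : M₂)) * !![0, -X.det; 1, 0] * ((A'⁻¹ : SL₂) : M₂) := by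
          rw [hA]; simp only [Matrix.mul_assoc]
      _ = (N' * (A' : M₂)) * ((A'⁻¹ : SL₂) : M₂) := by rw [(hinv A).2, Matrix.mul_one, hA']
      _ = N' := by rw [Matrix.mul_assoc, (hinv A').1, Matrix.mul_one]
  rw [h2, hN'] at h1
  exact (hS.smul_iff (div_ne_zero ha0 hb0) N).1 h1

end ConjSet

end Cfsg.Agent.Dickson
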