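import Cfsg.Agent.Lib.Classical.MaxSympWreath
import Cfsg.Agent.Lib.Classical.Witt
import Cfsg.Agent.Lib.Classical.NormalForms

/-!
In characteristic two the orthogonal groups are maximal in the symplectic groups.
-/

set_option autoImplicit false
set_option linter.unusedSectionVars false

namespace Cfsg.Agent.Classical.MaxTv

open Matrix Module

variable {F : Type*} [Field F] {m : ℕ}

local notation "V" => (Fin m ⊕ Fin m → F)
local notation "Mn" => Matrix (Fin m ⊕ Fin m) (Fin m ⊕ Fin m) F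
local notation "B" => sympForm m F

theorem symplectic_orthogonal_maximal [Fintype F] (hm : 2 ≤ m) (heven : ¬ Odd (Fintype.card F))
    (Q : (Fin m ⊕ Fin m → F) → F) (hQ : Geo.IsNondegenerateQuadraticForm Q)
    (hpol : ∀ u v, QuadraticMap.polar Q u v = sympForm m F u v) :
    Geo.IsMaximalIn (spGL m F) (Geo.quadSimilarityGroup Q ⊓ spGL m F) := by
  have hs : Sesq (RingEquiv.refl F) (sympForm m F) := sesq_sympForm
  have hchar : ringChar F = 2 := by
    by_contra h
    exact heven (Nat.odd_iff.2 (FiniteField.odd_card_of_char_ne_two h))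
  have : CharP F 2 := ringChar.of_eq hchar
  let Qf : QuadraticForm F V := QuadraticMap.ofPolar Q (fun a x => by rw [hQ.smul, smul_eq_mul, sq])
    (fun x x' y => hQ.polar_bilinear.add_left x x' y) (fun a x y => hQ.polar_bilinear.smul_left a x y)
  have hQf : ∀ x, Qf x = Q x := fun x => rfl
  have hfQ : ∀ x y, QuadraticMap.polarBilin Qf x y = B x y := fun x y => hpol x y
  have hadd : ∀ x y, Q (x + y) = Q x + Q y + B x y := fun x y => by
    rw [← hpol x y, QuadraticMap.polar]; ring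
  have hne2 : ∀ a : F, -a = a := CharTwo.neg_eq
  have hsym : ∀ x y, B x y = B y x := fun x y => by rw [sympForm_swap, hne2]
  have hnd : (QuadraticMap.polarBilin Qf).Nondegenerate :=
    ⟨fun x h => hs.eq_zero x fun y => hs.refl _ _ (by rw [← hfQ]; exact h y),
      fun x h => hs.eq_zero x fun y => by rw [← hfQ]; exact h y⟩
  -- singular vectors
  obtain ⟨s, hs0, hQs⟩ : ∃ s, s ≠ 0 ∧ Q s = 0 := by
    obtain ⟨s, -, hs0, hQs⟩ := exists_singular_in Qf (W := ⊤)
      (fun w _ hw => by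
        obtain ⟨u, hu⟩ := exists_sympForm_eq_one hw
        exact ⟨u, trivial, by rw [hfQ, hu]; exact one_ne_zero⟩)
      (by rw [finrank_top, Module.finrank_pi, Fintype.card_sum, Fintype.card_fin]; omega)
    exact ⟨s, hs0, hQs⟩
  have hsing : ∀ w, w ≠ 0 → ∃ y, Q y = 0 ∧ B y w ≠ 0 := fun w hw => by
    by_cases h : B s w ≠ 0
    · exact ⟨s, hQs, h⟩
    push Not at h
    obtain ⟨a, ha⟩ := hs.exists_left hw
    obtain ⟨b, hb⟩ := hs.exists_left hs0
    obtain ⟨x, -, hx1, hx2⟩ := exists_both (S := ⊤) (hs.lin w) (hs.lin s) ⟨a, trivial, ha⟩ ⟨b, trivial, hb⟩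
    rw [Sesq.lin_apply] at hx1 hx2
    refine ⟨x + (-(Q x) / B x s) • s, ?_, ?_⟩
    · rw [hadd, hQ.smul, hQs, sympForm_smul_right, div_mul_cancel₀ _ hx2]; ring
    · rw [sympForm_add_left, sympForm_smul_left, h, mul_zero, add_zero]; exact hx1
  refine isMaximalIn_intro inf_le_right (fun hle => ?_) fun M hHM hMK g hgM hgH => ?_
  · obtain ⟨g, hg, hgx⟩ := exists_sp_tv s 1
    obtain ⟨x, hx⟩ := hs.exists_one hs0
    obtain ⟨c, hc⟩ := (hle hg).1
    have h0 := hc s
    have h1 := hc x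
    rw [hgx, one_mul, hx, one_smul, hadd, hQs, hx, add_zero] at h1
    obtain ⟨u, hu⟩ := hsing s hs0
    have hu1 := mem_spGL.1 hg u s
    obtain ⟨c', hc'⟩ : ∃ c' : F, c' = (c : F) := ⟨_, rfl⟩
    have hp : ∀ a b, B ((g : Mn) *ᵥ a) ((g : Mn) *ᵥ b) = (c : F) * B a b := fun a b => by
      have := hc (a + b)
      rw [Matrix.mulVec_add, hadd, hadd, hc a, hc b] at this
      linear_combination this
    have hc1 : (c : F) = 1 := by
      have := hp x s
      rw [mem_spGL.1 hg, hx] at this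
      simpa using this.symm
    rw [hc1, one_mul] at h1
    exact one_ne_zero (by linear_combination h1 : (1 : F) = 0)
  have hgs := mem_spGL.1 (hMK hgM)
  let hasC : V → F → Prop := fun v c => InT M v (fn (sympForm m F) (c • v))
  have hOtv : ∀ v, Q v ≠ 0 → hasC v (Q v)⁻¹ := fun v hv => by
    obtain ⟨T, hTs, hTx⟩ := exists_sp_tv v (Q v)⁻¹
    refine ⟨T, hHM ⟨⟨1, fun x => ?_⟩, hTs⟩, fun x => by rw [hTx, fn_dot hs, sympForm_smul_right]⟩
    rw [hTx, hadd, hQ.smul, sympForm_smul_right, Units.val_one, one_mul]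
    field_simp
    linear_combination (B x v ^ 2) * (CharTwo.add_self_eq_zero (1 : F))
  have hconj : ∀ v c T, T ∈ M → (∀ a b, B ((T : Mn) *ᵥ a) ((T : Mn) *ᵥ b) = B a b) → hasC v c →
      hasC ((T : Mn) *ᵥ v) c := fun v c T hT hTs h => by
    have := InT.fn_conj hs h hT hTs
    rwa [Matrix.mulVec_smul] at this
  -- transitivity of the orthogonal group
  have htrans : ∀ v w, v ≠ 0 → w ≠ 0 → Q v = Q w → ∃ T ∈ M, T ∈ spGL m F ∧ (T : Mn) *ᵥ v = w := by
    intro v w hv hw hvw
    let e := LinearEquiv.toSpanNonzeroSingleton F V v hv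
    let ψ : (F ∙ v) →ₗ[F] V := (LinearMap.toSpanSingleton F V w).comp e.symm.toLinearMap
    have hψ : ∀ a : F, ψ (e a) = a • w := fun a => by simp [ψ]
    obtain ⟨L, hL, hLv⟩ := witt_quadratic Qf hnd (F ∙ v) ψ
      (fun x y h => by
        obtain ⟨a, rfl⟩ := e.surjective x
        obtain ⟨b, rfl⟩ := e.surjective y
        rw [hψ, hψ] at h
        rw [smul_left_injective F hw h])
      (fun x => by
        obtain ⟨a, rfl⟩ := e.surjective x
        rw [hψ, hQf, hQf]
        show Q (a • w) = Q (a • v)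
        rw [hQ.smul, hQ.smul, hvw])
    obtain ⟨T, hT⟩ := exists_gl_of_injective L.toLinearMap L.injective
    have hTL : ∀ x, (T : Mn) *ᵥ x = L x := hT
    have hTQ : ∀ x, Q ((T : Mn) *ᵥ x) = Q x := fun x => by rw [hTL, ← hQf, hL, hQf]
    have hTs : T ∈ spGL m F := mem_spGL.2 fun x y => by
      rw [← hpol, ← hpol, QuadraticMap.polar, QuadraticMap.polar, ← Matrix.mulVec_add, hTQ, hTQ, hTQ]
    refine ⟨T, hHM ⟨⟨1, fun x => by rw [hTQ, Units.val_one, one_mul]⟩, hTs⟩, hTs, ?_⟩
    rw [hTL]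
    have := hLv (e 1)
    rw [hψ, one_smul] at this
    simpa [e] using this
  obtain ⟨y, c, hy, hy0, hc, hyc⟩ : ∃ y c, Q y = 0 ∧ y ≠ 0 ∧ c ≠ 0 ∧ hasC y c := by
    by_contra hcon
    push Not at hcon
    refine hgH ⟨⟨1, ?_⟩, hMK hgM⟩
    set gi : Mn := ((g⁻¹ : GL (Fin m ⊕ Fin m) F) : Mn) with hgi
    have hgs' : ∀ a b, B (gi *ᵥ a) (gi *ᵥ b) = B a b :=
      mem_spGL.1 (inv_mem (hMK hgM))
    have hz : ∀ y, Q y = 0 → Q (gi *ᵥ y) = 0 := fun y hy => by
      rcases eq_or_ne y 0 with rfl | hy0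
      · rw [Matrix.mulVec_zero]; exact hy
      by_contra h
      have := hconj _ _ g hgM hgs (hOtv _ h)
      rw [hgi, mulVec_inv_cancel] at this
      exact hcon y _ hy hy0 (inv_ne_zero h) this
    -- the difference of the two forms is the square of a functional
    choose rt hrt using fun a : F => (FiniteField.isSquare_of_char_two hchar a)
    have hsq : Function.Injective fun a : F => a * a := fun a b h => by
      have : (a - b) * (a - b) = 0 := by
        rw [CharTwo.sub_eq_add]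
        linear_combination h + (a * b + b * b) * CharTwo.add_self_eq_zero (1 : F)
      exact sub_eq_zero.1 (mul_self_eq_zero.1 this)
    let D : V →ₗ[F] F :=
      { toFun := fun x => rt (Q (gi *ᵥ x) - Q x)
        map_add' := fun a b => hsq (by
          show rt _ * rt _ = (rt _ + rt _) * (rt _ + rt _)
          rw [← hrt, CharTwo.add_mul_self, ← hrt, ← hrt, Matrix.mulVec_add, hadd, hadd, hgs']; ring)
        map_smul' := fun k a => hsq (by
          show rt _ * rt _ = (k * rt _) * (k * rt _)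
          rw [mul_mul_mul_comm, ← hrt, ← hrt, Matrix.mulVec_smul, hQ.smul, hQ.smul]; ring) }
    have hD : ∀ x, D x = 0 := fun x => by
      obtain ⟨φ, hφ⟩ := exists_dot D
      obtain ⟨w, hw⟩ := fn_surjective hs φ
      have hw' : ∀ z, D z = B z w := fun z => by rw [← hφ, ← hw, fn_dot hs]
      by_contra hne
      have hw0 : w ≠ 0 := fun e => hne (by rw [hw', e, hs.zero_right])
      obtain ⟨y, hy, hyw⟩ := hsing w hw0
      refine hyw ?_
      rw [← hw']
      refine hsq ?_
      show rt _ * rt _ = 0 * 0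
      rw [← hrt, hz y hy, hy, sub_zero, mul_zero]
    intro v
    have h1 := hrt (Q (gi *ᵥ ((g : Mn) *ᵥ v)) - Q ((g : Mn) *ᵥ v))
    rw [show rt (Q (gi *ᵥ ((g : Mn) *ᵥ v)) - Q ((g : Mn) *ᵥ v)) = 0 from hD ((g : Mn) *ᵥ v), mul_zero,
      sub_eq_zero, hgi, inv_mulVec_cancel] at h1
    rw [Units.val_one, one_mul, ← h1]
  have hsingPt : ∀ v, Q v = 0 → Pt M v := fun v hv d => by
    rcases eq_or_ne v 0 with rfl | hv0
    · exact InT.zero_left _
    obtain ⟨k, hk⟩ := FiniteField.isSquare_of_char_two hchar (c / d)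
    rcases eq_or_ne d 0 with rfl | hd
    · rw [zero_smul, fn_zero hs]; exact InT.zero_right _
    have hk0 : k ≠ 0 := fun e => by rw [e, mul_zero, div_eq_zero_iff] at hk; exact hk.elim hc hd
    have hq : Q (k⁻¹ • v) = 0 := by rw [hQ.smul, hv, mul_zero]
    obtain ⟨T, hTM, hTs, hTy⟩ := htrans y (k⁻¹ • v) hy0 (smul_ne_zero (inv_ne_zero hk0) hv0) (by rw [hy, hq])
    have h := hconj _ _ T hTM (mem_spGL.1 hTs) hyc
    rw [hTy] at h
    have h2 := h.smul_left k hk0
    rw [fn_smul hs, fn_smul hs, RingEquiv.refl_apply, RingEquiv.refl_apply, smul_smul k k⁻¹,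
      mul_inv_cancel₀ hk0, one_smul, smul_smul, smul_smul] at h2
    rw [fn_smul hs, RingEquiv.refl_apply]
    rwa [show k⁻¹ * c * k⁻¹ = d by field_simp; field_simp at hk; linear_combination hk] at h2
  refine spGL_le fun v => ?_
  by_cases hv : Q v = 0
  · exact hsingPt v hv
  have hv0 : v ≠ 0 := fun e => hv (by rw [e, ← hQf, map_zero])
  obtain ⟨x, hx, hxs⟩ := hsing s hs0
  set x' := (Q v / B s x) • x with hx'
  have hB : B s x' = Q v := by
    rw [hx', sympForm_smul_right, div_mul_cancel₀ _ (by rw [hsym]; exact hxs)]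
  have hQ' : Q x' = 0 := by rw [hx', hQ.smul, hx, mul_zero]
  have hP : Pt M (s + x') := (hsingPt s hQs).add (hsingPt x' hQ') (by rw [hB]; exact hv)
  have hQsx : Q (s + x') = Q v := by rw [hadd, hQs, hQ', hB, zero_add, zero_add]
  obtain ⟨T, hTM, hTs, hT⟩ := htrans (s + x') v (fun e => hv (by rw [← hQsx, e, ← hQf, map_zero])) hv0 hQsx
  exact hT ▸ hP.map hTM hTs

end Cfsg.Agent.Classical.MaxTv
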