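import Cfsg.Agent.Lib.Classical.MaxSympSubfieldEven
import Cfsg.Agent.Lib.Classical.DicksonGeneration

/-!
Subfield subgroups of symplectic groups are maximal in every dimension from six on, from four on for odd `q`.

In odd characteristic, a point off the rational lines with the coefficients of the ground field either has a
rational vector orthogonal to it, or makes with some rational point a plane on which Dickson's theorem gives all
of `SL(2)`; the exceptional `SL(2, 5)` inside `SL(2, 9)` cannot occur in that case, the field being too small.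
-/

set_option autoImplicit false
set_option linter.unusedSectionVars false

namespace Cfsg.Agent.Classical.MaxTv

open Matrix Module
open Cfsg.Agent.Grp.SL2 (up low)

variable {F : Type*} [Field F] {m : ℕ}

local notation "V" => (Fin m ⊕ Fin m → F)
local notation "Mn" => Matrix (Fin m ⊕ Fin m) (Fin m ⊕ Fin m) F
local notation "B" => sympForm m F
local notation "SL₂" => Matrix.SpecialLinearGroup (Fin 2) F

/-- Conjugation by a diagonal matrix. -/
def diagConj {d : F} (hd : d ≠ 0) : SL₂ →* SL₂ where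
  toFun A := ⟨!![A.1 0 0, d * A.1 0 1; A.1 1 0 / d, A.1 1 1], by
    have h := A.2
    rw [Matrix.det_fin_two] at h
    rw [Matrix.det_fin_two_of]
    field_simp
    linear_combination h⟩
  map_one' := Subtype.ext (by ext i j; fin_cases i <;> fin_cases j <;> simp)
  map_mul' A C := Subtype.ext (by
    show (!![(A.1 * C.1) 0 0, d * (A.1 * C.1) 0 1; (A.1 * C.1) 1 0 / d, (A.1 * C.1) 1 1] : Matrix (Fin 2) (Fin 2) F) =
      !![A.1 0 0, d * A.1 0 1; A.1 1 0 / d, A.1 1 1] * !![C.1 0 0, d * C.1 0 1; C.1 1 0 / d, C.1 1 1]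
    ext i j
    fin_cases i <;> fin_cases j <;> simp [Matrix.mul_apply, Fin.sum_univ_two] <;> field_simp)

theorem diagConj_val {d : F} (hd : d ≠ 0) (A : SL₂) :
    (diagConj hd A).1 = !![A.1 0 0, d * A.1 0 1; A.1 1 0 / d, A.1 1 1] := rfl

variable {M : Subgroup (GL (Fin m ⊕ Fin m) F)} {F₀ : Subfield F} {P : GL (Fin m ⊕ Fin m) F} {ζ : F}

namespace SubfieldData

variable (hd : SubfieldData F₀ P ζ M)
include hd

/-- A rational point and a point with a coefficient outside the ground field on its plane. -/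
theorem all_of_plane_odd [Fintype F] {p : ℕ} [Fact p.Prime] [CharP F p] (h2 : (2 : F) ≠ 0) {n : ℕ} (hn : n.Prime)
    (hcard : Fintype.card F = Nat.card F₀ ^ n) {w z : V} (hw : Rat F₀ P w) (hz : HasC M z ζ) {l : F}
    (hl : ζ * B w z = l) (hl2 : l ^ 2 ∉ F₀) (hbig : p = 3 → Fintype.card F ≠ 9) :
    ∀ u, Rat F₀ P u → ∀ c, HasC M u c := by
  have hl0 : l ≠ 0 := fun e => hl2 (by rw [e]; simp)
  have hB : B w z ≠ 0 := fun e => hl0 (by rw [← hl, e, mul_zero])
  have hw0 : w ≠ 0 := fun e => hB (by rw [e, sesq_sympForm.zero_left])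
  have hζ := hd.ne_zero
  obtain ⟨f, hf⟩ : ∃ f, f = (B w z)⁻¹ • z := ⟨_, rfl⟩
  have hef : B w f = 1 := by rw [hf, sympForm_smul_right, inv_mul_cancel₀ hB]
  let D : ∀ d : F, d ≠ 0 → Subgroup SL₂ := fun d hd0 => (planeSub M hef).comap (diagConj hd0)
  have eu : ∀ (d : F) (hd0 : d ≠ 0) (t : F) (x : V),
      plDisp w f (diagConj hd0 (up t)).1 x = qMap w (-(d * t)) x := fun d hd0 t x => by
    rw [plDisp, diagConj_val]; simp [qMap, up, sympForm_swap w x]
  have el : ∀ (d : F) (hd0 : d ≠ 0) (t : F) (x : V),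
      plDisp w f (diagConj hd0 (low t)).1 x = qMap f (t / d) x := fun d hd0 t x => by
    rw [plDisp, diagConj_val]; simp [qMap, low]
  have hup : ∀ (d : F) (hd0 : d ≠ 0) (t : F), up t ∈ D d hd0 ↔ HasC M w (-(d * t)) := fun d hd0 t =>
    ⟨fun h => InN.congr h (eu d hd0 t), fun h => InN.congr h fun x => (eu d hd0 t x).symm⟩
  have hlow : ∀ (d : F) (hd0 : d ≠ 0) (t : F), t / d = l ^ 2 / ζ → low t ∈ D d hd0 := fun d hd0 t ht => by
    refine InN.congr (HasC.unscale (v := z) (a := (B w z)⁻¹) (c := t / d) ?_) fun x => ?_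
    · rw [show t / d * (B w z)⁻¹ ^ 2 = ζ by rw [ht, ← hl]; field_simp]
      exact hz
    · rw [← hf]; exact (el d hd0 t x).symm
  have hk : -(l ^ 2) ∉ F₀ := fun h => hl2 (by simpa using neg_mem h)
  suffices hall : ∀ c, HasC M w c by
    intro u hu c
    rcases eq_or_ne u 0 with rfl | hu0
    · exact ⟨1, one_mem M, fun x => by simp [qMap]⟩
    obtain ⟨T, hT, -, hTw⟩ := hd.exists_trans hw hu hw0 hu0
    simpa [hTw] using (hall c).map hT (hd.iso hT)
  by_cases hμ : ∃ μ ∈ F₀, ∀ i : ℕ, μ ≠ i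
  · obtain ⟨μ, hμ, hμn⟩ := hμ
    have hζ' : -ζ ≠ 0 := neg_ne_zero.2 hζ
    have hb : ∀ b ∈ F₀, up b ∈ D (-ζ) hζ' := fun b hb => (hup _ _ _).2 (by
      rw [neg_mul, neg_neg]; exact hd.hasC_rat hw hb)
    have htop : D (-ζ) hζ' = ⊤ := by
      refine Cfsg.Agent.Grp.UpperLower.eq_top p _ (k := -(l ^ 2)) (neg_ne_zero.2 (pow_ne_zero _ hl0))
        (hb 1 (one_mem _)) (hb μ hμ) hμn (hlow _ _ _ (by rw [neg_div_neg_eq])) fun L hL => ?_
      have h1 := fun b hb' => hL b (hb b hb')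
      refine subfield_top_of_mem hn hcard (fun b hb' => ?_) (by simpa using h1 1 (one_mem _)) hk
      have := div_mem (h1 b hb') (h1 1 (one_mem _))
      rwa [one_mul, mul_div_assoc, div_self (neg_ne_zero.2 (pow_ne_zero _ hl0)), mul_one] at this
    intro c
    have := (hup _ hζ' (c / ζ)).1 (htop ▸ Subgroup.mem_top _)
    rwa [neg_mul, neg_neg, mul_div_cancel₀ _ hζ] at this
  · push Not at hμ
    have hd0 : ζ / l ^ 2 ≠ 0 := div_ne_zero hζ (pow_ne_zero _ hl0)
    have hgen : Subfield.closure ({-(l ^ 2)} : Set F) = ⊤ := by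
      refine subfield_top_of_mem hn hcard (fun b hb => ?_) (Subfield.subset_closure (Set.mem_singleton _)) hk
      obtain ⟨i, rfl⟩ := hμ b hb
      exact natCast_mem _ i
    have hle : Subgroup.closure ({low 1, up (-(l ^ 2))} : Set SL₂) ≤ D _ hd0 := by
      rw [Subgroup.closure_le]
      rintro _ (rfl | rfl)
      · exact hlow _ _ _ (one_div_div _ _)
      · refine (hup _ _ _).2 ?_
        rw [show -(ζ / l ^ 2 * -(l ^ 2)) = ζ * 1 by field_simp]
        exact hd.hasC_rat hw (one_mem _)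
    rcases Dickson.Gen.classify (p := p) h2 (neg_ne_zero.2 (pow_ne_zero _ hl0)) hgen with h | ⟨hp3, he, -⟩
    · intro c
      obtain ⟨g, hg, hge⟩ : (Cfsg.Agent.PSL2Spec.proj (up (-(c / 2) / (ζ / l ^ 2)) : SL₂)) ∈
          (Subgroup.closure ({low 1, up (-(l ^ 2))} : Set SL₂)).map Cfsg.Agent.PSL2Spec.proj := h ▸ Subgroup.mem_top _
      have hgg : g * g = up (-(c / 2) / (ζ / l ^ 2) + -(c / 2) / (ζ / l ^ 2)) := by
        rw [← Cfsg.Agent.Grp.SL2.up_mul]
        rcases Cfsg.Agent.Dickson.proj_eq_iff.mp hge with e | e <;> rw [e] <;> simp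
      have := (hup _ hd0 _).1 (hgg ▸ hle (mul_mem hg hg))
      rwa [show -(ζ / l ^ 2 * (-(c / 2) / (ζ / l ^ 2) + -(c / 2) / (ζ / l ^ 2))) = c by field_simp; ring] at this
    · subst hp3
      exact absurd (Dickson.Gen.card_eq_nine hgen he) (hbig rfl)

/-- A point off the rational lines spreads all coefficients, in odd characteristic. -/
theorem all_coef_odd [Fintype F] (h2 : (2 : F) ≠ 0) {n : ℕ} (hn : n.Prime)
    (hcard : Fintype.card F = Nat.card F₀ ^ n) {v : V} (hv : ∀ b ∈ F₀, HasC M v (ζ * b))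
    (hnl : ¬ RatLine F₀ P v) : ∀ u, Rat F₀ P u → ∀ c, HasC M u c := by
  classical
  have h3 := hd.dim
  by_cases hr : ∃ r, Rat F₀ P r ∧ r ≠ 0 ∧ B v r = 0
  · obtain ⟨r, hr, hr0, hvr⟩ := hr
    exact hd.all_coef_of_point (Or.inr h2) hn hcard hv hnl hr hr0 hvr
  push Not at hr
  obtain ⟨w, hw, hk⟩ : ∃ w, Rat F₀ P w ∧ (ζ * B w v) ^ 2 ∉ F₀ := by
    by_contra hc
    push Not at hc
    obtain ⟨i⟩ : Nonempty (Fin m ⊕ Fin m) := ⟨Sum.inl ⟨0, by omega⟩⟩
    obtain ⟨a, ha⟩ : ∃ a, a = ζ * B ((P : Mn) *ᵥ Pi.single i 1) v := ⟨_, rfl⟩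
    have hi0 : ((P : Mn) *ᵥ Pi.single i 1) ≠ 0 := fun e => by
      have := congrFun (gl_mulVec_injective P
        (show (P : Mn) *ᵥ (Pi.single i (1 : F) : V) = (P : Mn) *ᵥ 0 by rw [Matrix.mulVec_zero]; exact e)) i
      simp at this
    have ha0 : a ≠ 0 := ha ▸ mul_ne_zero hd.ne_zero fun e =>
      hr _ (rat_single i) hi0 (sesq_sympForm.refl _ _ e)
    refine hnl ⟨a⁻¹, a • v, hd.rat_of_form fun u hu => ?_, by rw [smul_smul, inv_mul_cancel₀ ha0, one_smul]⟩
    have h1 := sub_mem (sub_mem (hc _ (hu.add (rat_single i))) (hc u hu)) (hc _ (rat_single (P := P) i))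
    have h2F : (2 : F) ∈ F₀ := by exact_mod_cast natCast_mem F₀ 2
    have h4 := div_mem h1 h2F
    rw [sympForm_add_left, mul_add, ← ha] at h4
    rw [sympForm_smul_right]
    convert h4 using 1
    field_simp
    ring
  obtain ⟨p, hp⟩ := CharP.exists F
  have : Fact p.Prime := ⟨CharP.char_is_prime F p⟩
  refine hd.all_of_plane_odd (p := p) h2 hn hcard hw (by simpa using hv 1 (one_mem _)) rfl hk fun _ h9 => ?_
  let φ : (Fin m ⊕ Fin m → F₀) → F := fun y => B v ((P : Mn) *ᵥ fun j => (y j : F))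
  have hφ : Function.Injective φ := fun a b hab => by
    by_contra hne
    refine hr _ (rat_of_coe (P := P) (a - b)) (fun e => hne ?_) ?_
    · funext j
      refine Subtype.ext ?_
      have := congrFun (gl_mulVec_injective P (show (P : Mn) *ᵥ (fun j => ((a - b) j : F)) = (P : Mn) *ᵥ 0 by
        rw [Matrix.mulVec_zero]; exact e)) j
      exact sub_eq_zero.1 this
    · rw [show (fun j => ((a - b) j : F)) = (fun j => (a j : F)) - fun j => (b j : F) from rfl, Matrix.mulVec_sub,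
        sympForm_sub_right]
      exact sub_eq_zero.2 hab
  have h4 := Nat.card_le_card_of_injective φ hφ
  rw [Nat.card_fun, Nat.card_eq_fintype_card (α := F), h9, Nat.card_sum, Nat.card_fin] at h4
  have h5 : 2 ^ 4 ≤ Nat.card F₀ ^ (m + m) :=
    (Nat.pow_le_pow_left Finite.one_lt_card 4).trans (Nat.pow_le_pow_right Finite.card_pos (by omega))
  omega

end SubfieldData

/-- Subfield subgroups are maximal in `Sp` from dimension four on, in odd characteristic. -/
theorem symplectic_subfield_maximal_odd [Fintype F] (hm : 2 ≤ m) (h2 : (2 : F) ≠ 0) (F₀ : Subfield F) (n : ℕ)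
    (hn : n.Prime) (hcard : Fintype.card F = Nat.card F₀ ^ n) (P : GL (Fin m ⊕ Fin m) F) (ζ : F) (hζ : ζ ≠ 0)
    (hP : Geo.IsFormRationalStructure (sympForm m F) F₀ ζ P) :
    Geo.IsMaximalIn (spGL m F) (Geo.subfieldSubgroup F₀ P ⊓ spGL m F) := by
  have hrat : ∀ x y, Rat F₀ P x → Rat F₀ P y → ζ * B x y ∈ F₀ := fun x y hx hy => by
    have := hP _ _ hx hy
    rwa [mulVec_inv_cancel, mulVec_inv_cancel] at this
  obtain ⟨c₀, hc₀⟩ : ∃ c₀ : F, c₀ ∉ F₀ := by
    by_contra hc
    push Not at hc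
    have h1 : Nat.card F₀ = Fintype.card F := by
      rw [← Nat.card_eq_fintype_card]
      exact Nat.card_congr ⟨Subtype.val, fun x => ⟨x, hc x⟩, fun _ => rfl, fun _ => rfl⟩
    rw [h1] at hcard
    have := Nat.pow_right_injective (Fintype.one_lt_card (α := F)) ((pow_one _).trans hcard)
    exact hn.one_lt.ne this
  refine isMaximalIn_intro inf_le_right (fun hle => not_spGL_le_subfield (by omega) hc₀
    (⟨hζ, hrat, fun h hh _ => hh, le_rfl, by omega⟩ : SubfieldData F₀ P ζ (spGL m F)) hle)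
    fun M hHM hMK g hgM hgH => ?_
  have hd : SubfieldData F₀ P ζ M := ⟨hζ, hrat,
    fun h hh hr => hHM ⟨mem_subfieldSubgroup_of one_ne_zero fun x hx => by rw [one_smul]; exact hr x hx, hh⟩,
    hMK, by omega⟩
  have hne : Nonempty (Fin m ⊕ Fin m) := ⟨Sum.inl ⟨0, by omega⟩⟩
  obtain ⟨x, hx, hxl⟩ : ∃ x, Rat F₀ P x ∧ ¬ RatLine F₀ P ((g : Mn) *ᵥ x) := by
    by_contra hc
    push Not at hc
    obtain ⟨a, ha, h⟩ := exists_scalar_of_lines hc
    exact hgH ⟨mem_subfieldSubgroup_of ha h, hMK hgM⟩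
  exact hd.spGL_le_of_rat (hd.all_coef_odd h2 hn hcard
    (fun b hb => (hd.hasC_rat hx hb).map hgM (hd.iso hgM)) hxl)

/-- Subfield subgroups are maximal in `Sp` from dimension six on. -/
theorem symplectic_subfield_maximal_three [Fintype F] (hm : 3 ≤ m) (F₀ : Subfield F) (n : ℕ)
    (hn : n.Prime) (hcard : Fintype.card F = Nat.card F₀ ^ n) (P : GL (Fin m ⊕ Fin m) F) (ζ : F) (hζ : ζ ≠ 0)
    (hP : Geo.IsFormRationalStructure (sympForm m F) F₀ ζ P) :
    Geo.IsMaximalIn (spGL m F) (Geo.subfieldSubgroup F₀ P ⊓ spGL m F) := by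
  by_cases h2 : (2 : F) = 0
  · have : CharP F 2 := (CharP.charP_iff_prime_eq_zero Nat.prime_two).2 (by exact_mod_cast h2)
    exact symplectic_subfield_maximal_even (by omega) F₀ n hn hcard P ζ hζ hP
  exact symplectic_subfield_maximal_odd (by omega) h2 F₀ n hn hcard P ζ hζ hP

end Cfsg.Agent.Classical.MaxTv
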