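import Cfsg.Agent.Lib.Classical.MaxSympWreath
import Cfsg.Agent.Lib.Classical.MaxQuadratic
import Cfsg.Agent.Lib.Classical.MaxRational

/-!
Unitary groups over the quadratic extension are maximal in symplectic groups of odd characteristic.

An overgroup element moves an isotropic vector to an anisotropic `a`, so the overgroup has pairs of transvections
at `a` and `b`. A relation of two conjugate pairs (or, over the field with three elements, a quotient of three of
them) leaves one transvection with anisotropic centre, whose conjugates give all the others.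
-/

set_option autoImplicit false
set_option linter.unusedSectionVars false

namespace Cfsg.Agent.Classical.MaxTv

open Matrix Module

variable {F : Type*} [Field F] {m : ℕ}

local notation "V" => (Fin m ⊕ Fin m → F)
local notation "Mn" => Matrix (Fin m ⊕ Fin m) (Fin m ⊕ Fin m) F
local notation "W" => sympForm m F

/-- A skew square root of a non-square. -/
structure CJ (J : Matrix (Fin m ⊕ Fin m) (Fin m ⊕ Fin m) F) (δ : F) : Prop where
  sq : ∀ x, J *ᵥ (J *ᵥ x) = δ • x
  nsq : ∀ a : F, a * a ≠ δ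
  anti : ∀ x y, W (J *ᵥ x) y = -W x (J *ᵥ y)
  two : (2 : F) ≠ 0
  dim : 3 ≤ m

variable {J : Matrix (Fin m ⊕ Fin m) (Fin m ⊕ Fin m) F} {δ : F} {M : Subgroup (GL (Fin m ⊕ Fin m) F)}

namespace CJ

variable (hj : CJ J δ)
include hj

theorem delta_ne : δ ≠ 0 := fun h => hj.nsq 0 (by rw [h, mul_zero])

theorem indep {S : Submodule F V} (hS : ∀ x ∈ S, J *ᵥ x ∈ S) {y : V} (hy : y ∉ S) {c e : F}
    (h : c • y + e • (J *ᵥ y) ∈ S) : c = 0 ∧ e = 0 := by
  have h1 := S.sub_mem (S.smul_mem c h) (S.smul_mem e (hS _ h))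
  rw [Matrix.mulVec_add, Matrix.mulVec_smul, Matrix.mulVec_smul, hj.sq,
    show c • (c • y + e • (J *ᵥ y)) - e • (c • (J *ᵥ y) + e • δ • y) = (c * c - δ * (e * e)) • y by module] at h1
  have h2 : c * c - δ * (e * e) = 0 := by_contra fun hne => hy ((S.smul_mem_iff hne).1 h1)
  by_cases he : e = 0
  · subst he
    exact ⟨mul_self_eq_zero.1 (by linear_combination h2), rfl⟩
  · exact absurd (show c / e * (c / e) = δ by field_simp; linear_combination h2) (hj.nsq _)

theorem indep0 {y : V} (hy : y ≠ 0) {c e : F} (h : c • y + e • (J *ᵥ y) = 0) : c = 0 ∧ e = 0 :=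
  hj.indep (S := ⊥) (fun x hx => by rw [(Submodule.mem_bot F).1 hx, Matrix.mulVec_zero]; exact zero_mem _)
    (by simpa using hy) (by rw [h]; exact zero_mem _)

theorem span_inv (x : V) : ∀ z ∈ Submodule.span F {x, J *ᵥ x}, J *ᵥ z ∈ Submodule.span F {x, J *ᵥ x} := by
  intro z hz
  obtain ⟨a, b, rfl⟩ := Submodule.mem_span_pair.1 hz
  exact Submodule.mem_span_pair.2 ⟨b * δ, a, by
    rw [Matrix.mulVec_add, Matrix.mulVec_smul, Matrix.mulVec_smul, hj.sq]; module⟩

theorem beta_symm (x y : V) : W x (J *ᵥ y) = W y (J *ᵥ x) := by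
  rw [sympForm_swap y, hj.anti, neg_neg]

theorem beta_JJ (x y : V) : W (J *ᵥ x) (J *ᵥ y) = -δ * W x y := by
  rw [hj.anti, hj.sq, sympForm_smul_right]; ring

theorem iso_J {x : V} (hx : W x (J *ᵥ x) = 0) : W (J *ᵥ x) (J *ᵥ (J *ᵥ x)) = 0 := by
  rw [hj.sq, sympForm_smul_right, sympForm_swap, hx, neg_zero, mul_zero]

theorem exists_form [Finite F] : ∃ Q : QuadraticForm F V, (∀ x, Q x = W x (J *ᵥ x)) ∧
    (∀ x y, QuadraticMap.polar ⇑Q x y = 2 * W x (J *ᵥ y)) ∧ (QuadraticMap.polarBilin Q).Nondegenerate := by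
  let B : LinearMap.BilinForm F V := (sympB m F).comp LinearMap.id (Matrix.mulVecLin J)
  have hB : ∀ x y, B x y = W x (J *ᵥ y) := fun x y => sympB_apply _ _
  refine ⟨B.toQuadraticMap, fun x => hB x x, fun x y => ?_, ?_⟩
  · rw [LinearMap.BilinMap.polar_toQuadraticMap, hB, hB, hj.beta_symm y x]; ring
  · have key : ∀ u, (∀ v, QuadraticMap.polarBilin B.toQuadraticMap u v = 0) → u = 0 := fun u hu => by
      by_contra h0
      obtain ⟨v, hv⟩ := exists_sympForm_eq_one h0
      have h1 := hu (J *ᵥ v)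
      rw [QuadraticMap.polarBilin_apply_apply, LinearMap.BilinMap.polar_toQuadraticMap, hB, hB,
        hj.beta_symm _ u, hj.sq, sympForm_smul_right, hv, mul_one] at h1
      exact mul_ne_zero hj.two hj.delta_ne (by linear_combination h1)
    exact ⟨key, fun u hu => key u fun v => by
      rw [QuadraticMap.polarBilin_apply_apply, QuadraticMap.polar_comm]; exact hu v⟩

/-- Singular vectors perpendicular to a few vectors. -/
theorem exists_iso [Finite F] {k : ℕ} (u : Fin k → V) (hk : k + 3 ≤ 2 * m) :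
    ∃ v, v ≠ 0 ∧ W v (J *ᵥ v) = 0 ∧ ∀ i, W v (J *ᵥ u i) = 0 := by
  obtain ⟨Q, hQ, hQB, hnd⟩ := hj.exists_form
  set L := LinearMap.pi fun i => QuadraticMap.polarBilin Q (u i) with hL
  have hdim : 3 ≤ finrank F (LinearMap.ker L) := by
    have h1 := L.finrank_range_add_finrank_ker
    have h2 := Submodule.finrank_le (LinearMap.range L)
    rw [finrank_pi, Fintype.card_fin] at h2
    rw [finrank_pi, Fintype.card_sum, Fintype.card_fin] at h1
    omega
  obtain ⟨z, hz, hz0, hQz⟩ : ∃ z ∈ LinearMap.ker L, z ≠ 0 ∧ Q z = 0 := by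
    by_cases hrad : ∀ z ∈ LinearMap.ker L, z ≠ 0 → ∃ w ∈ LinearMap.ker L, QuadraticMap.polarBilin Q z w ≠ 0
    · exact exists_singular_in Q hrad hdim
    push Not at hrad
    obtain ⟨z, hz, hz0, hzW⟩ := hrad
    refine ⟨z, hz, hz0, ?_⟩
    have h1 := hzW z hz
    rw [QuadraticMap.polarBilin_apply_apply, hQB, ← hQ] at h1
    exact (mul_eq_zero.1 h1).resolve_left hj.two
  refine ⟨z, hz0, by rw [← hQ, hQz], fun i => ?_⟩
  have h1 := congrFun (LinearMap.mem_ker.1 hz) i
  simp only [hL, LinearMap.pi_apply, Pi.zero_apply, QuadraticMap.polarBilin_apply_apply, hQB] at h1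
  rw [hj.beta_symm]
  exact (mul_eq_zero.1 h1).resolve_left hj.two

theorem quad_add (x y : V) : W (x + y) (J *ᵥ (x + y)) = W x (J *ᵥ x) + 2 * W x (J *ᵥ y) + W y (J *ᵥ y) := by
  rw [Matrix.mulVec_add, sympForm_add_left, sympForm_add_right, sympForm_add_right, hj.beta_symm y x]; ring

theorem quad_smul (a : F) (x : V) : W (a • x) (J *ᵥ (a • x)) = a * a * W x (J *ᵥ x) := by
  rw [Matrix.mulVec_smul, sympForm_smul_left, sympForm_smul_right]; ring

theorem quad_sub (x y : V) : W (x - y) (J *ᵥ (x - y)) = W x (J *ᵥ x) - 2 * W x (J *ᵥ y) + W y (J *ᵥ y) := by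
  rw [sub_eq_add_neg, ← neg_one_smul F y, hj.quad_add, hj.quad_smul, Matrix.mulVec_smul, sympForm_smul_right]; ring

theorem quad_rot (u w : F) (z : V) : W (u • z + w • (J *ᵥ z)) (J *ᵥ (u • z + w • (J *ᵥ z))) =
    (u * u - δ * (w * w)) * W z (J *ᵥ z) := by
  rw [hj.quad_add, hj.quad_smul, hj.quad_smul, Matrix.mulVec_smul, sympForm_smul_left, sympForm_smul_right, hj.sq,
    sympForm_smul_right, sympForm_self, sympForm_smul_right, hj.anti]
  ring

theorem one_sub_delta : (1 : F) - δ ≠ 0 := fun h => hj.nsq 1 (by linear_combination h)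

/-- Norms from `F(J)` take every value. -/
theorem exists_norm [Finite F] {z : F} (hz : z ≠ 0) (d : F) : ∃ u w : F, u * u - z * (w * w) = d := by
  have := Fintype.ofFinite F
  have h2 : ringChar F ≠ 2 := fun h => hj.two (by
    have := ringChar.of_eq h
    exact CharP.cast_eq_zero F 2)
  obtain ⟨u, w, h⟩ := FiniteField.exists_root_sum_quadratic (R := F)
      (f := Polynomial.X ^ 2 - Polynomial.C d) (g := Polynomial.C (-z) * Polynomial.X ^ 2)
      (Polynomial.degree_X_pow_sub_C (by norm_num) d)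
      (Polynomial.degree_C_mul_X_pow 2 (neg_ne_zero.2 hz)) (FiniteField.odd_card_of_char_ne_two h2)
  simp only [Polynomial.eval_sub, Polynomial.eval_pow, Polynomial.eval_X, Polynomial.eval_C, Polynomial.eval_mul] at h
  exact ⟨u, w, by linear_combination h⟩

theorem exists_dual {e : V} (he : e ≠ 0) : ∃ f, W e (J *ᵥ f) = 1 := by
  obtain ⟨f, hf⟩ := exists_sympForm_eq_one he
  refine ⟨δ⁻¹ • (J *ᵥ f), ?_⟩
  rw [Matrix.mulVec_smul, hj.sq, smul_smul, inv_mul_cancel₀ hj.delta_ne, one_smul, hf]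

/-- Every vector has an isotropic vector in general position. -/
theorem exists_iso_split [Finite F] {x : V} (hx : x ≠ 0) :
    ∃ v, W v (J *ᵥ v) = 0 ∧ W x v ≠ 0 ∧ W x (J *ᵥ v) ≠ 0 := by
  obtain ⟨v, hv, hxv⟩ : ∃ v, W v (J *ᵥ v) = 0 ∧ W x v ≠ 0 := by
    obtain ⟨e, he0, he, -⟩ := hj.exists_iso (k := 0) (fun i => i.elim0) (by have := hj.dim; omega)
    by_contra hcon
    push Not at hcon
    obtain ⟨f, hf⟩ := hj.exists_dual he0
    have off : ∀ z, W e (J *ᵥ z) ≠ 0 → W x z = 0 := fun z hz => by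
      have h1 := hcon (z - (W z (J *ᵥ z) / (2 * W e (J *ᵥ z))) • e) (by
        rw [hj.quad_sub, hj.quad_smul, he, Matrix.mulVec_smul, sympForm_smul_right, hj.beta_symm z e]
        have := hj.two
        field_simp
        ring)
      rwa [sesq_sympForm.sub_right, sympForm_smul_right, hcon e he, mul_zero, sub_zero] at h1
    obtain ⟨y, hy⟩ := exists_sympForm_eq_one hx
    by_cases h : W e (J *ᵥ y) = 0
    · have h1 := off (y + f) (by rw [Matrix.mulVec_add, sympForm_add_right, h, hf, zero_add]; exact one_ne_zero)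
      rw [sympForm_add_right, hy, off f (by rw [hf]; exact one_ne_zero), add_zero] at h1
      exact one_ne_zero h1
    · exact one_ne_zero (hy.symm.trans (off y h))
  by_cases h : W x (J *ᵥ v) = 0
  · refine ⟨v + J *ᵥ v, ?_, ?_, ?_⟩
    · rw [hj.quad_add, hj.iso_J hv, hv, hj.sq, sympForm_smul_right, sympForm_self]; ring
    · rwa [sympForm_add_right, h, add_zero]
    · rw [Matrix.mulVec_add, sympForm_add_right, h, zero_add, hj.sq, sympForm_smul_right]
      exact mul_ne_zero hj.delta_ne hxv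
  · exact ⟨v, hv, hxv, h⟩

/-- Unitary quasi-reflections. -/
theorem exists_rot {d : V} (hd : W d (J *ᵥ d) ≠ 0) {s t : F} (hst : s * s - δ * (t * t) = 1) :
    ∃ R ∈ spGL m F, (∀ y, (R : Mn) *ᵥ (J *ᵥ y) = J *ᵥ ((R : Mn) *ᵥ y)) ∧ ∀ y, (R : Mn) *ᵥ y =
      y + (((s - 1) * W y (J *ᵥ d) - t * δ * W y d) / W d (J *ᵥ d)) • d +
        ((t * W y (J *ᵥ d) - (s - 1) * W y d) / W d (J *ᵥ d)) • (J *ᵥ d) := by
  let B := sympB m F
  let L : V →ₗ[F] V := LinearMap.id +
    (W d (J *ᵥ d))⁻¹ • ((((s - 1) • B.flip (J *ᵥ d) - (t * δ) • B.flip d)).smulRight d +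
      ((t • B.flip (J *ᵥ d) - (s - 1) • B.flip d)).smulRight (J *ᵥ d))
  have hL : ∀ y, L y = y + (((s - 1) * W y (J *ᵥ d) - t * δ * W y d) / W d (J *ᵥ d)) • d +
      ((t * W y (J *ᵥ d) - (s - 1) * W y d) / W d (J *ᵥ d)) • (J *ᵥ d) := fun y => by
    simp [L, B, sympB_apply, div_eq_inv_mul, smul_smul, add_assoc]
  have hiso : ∀ a b, W (L a) (L b) = W a b := fun a b => by
    simp only [hL, sympForm_add_left, sympForm_add_right, sympForm_smul_left, sympForm_smul_right, sympForm_self,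
      sympForm_swap d b, sympForm_swap (J *ᵥ d) b, sympForm_swap (J *ᵥ d) d]
    field_simp
    linear_combination (-(W a (J *ᵥ d) * W b d - W a d * W b (J *ᵥ d)) * W d (J *ᵥ d)) * hst
  obtain ⟨R, hR⟩ := exists_gl_of_injective L fun a b hab => by
    refine sub_eq_zero.1 (sesq_sympForm.eq_zero _ fun z => ?_)
    have h0 : W (L (a - b)) (L z) = 0 := by rw [map_sub, hab, sub_self, sesq_sympForm.zero_left]
    rw [hiso] at h0
    exact sesq_sympForm.refl _ _ h0
  refine ⟨R, mem_spGL.2 fun a b => by rw [hR, hR, hiso], fun y => ?_, fun y => by rw [hR, hL]⟩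
  rw [hR, hR, hL, hL]
  simp only [Matrix.mulVec_add, Matrix.mulVec_smul, hj.sq, hj.anti, sympForm_smul_right]
  match_scalars <;> field_simp <;> ring

/-- A quasi-reflection moving `x` to a vector of the same norm. -/
theorem exists_rot_map {x z : V} (hxz : W x (J *ᵥ x) = W z (J *ᵥ z)) (hd : W (x - z) (J *ᵥ (x - z)) ≠ 0) :
    ∃ R ∈ spGL m F, (∀ y, (R : Mn) *ᵥ (J *ᵥ y) = J *ᵥ ((R : Mn) *ᵥ y)) ∧ (R : Mn) *ᵥ x = z ∧
      ∀ y, W y (x - z) = 0 → W y (J *ᵥ (x - z)) = 0 → (R : Mn) *ᵥ y = y := by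
  obtain ⟨d, hd'⟩ : ∃ d, d = x - z := ⟨_, rfl⟩
  rw [← hd'] at hd ⊢
  obtain ⟨p, hp⟩ : ∃ p, p = W x (J *ᵥ d) := ⟨_, rfl⟩
  obtain ⟨r, hr⟩ : ∃ r, r = W x d := ⟨_, rfl⟩
  have hD : W d (J *ᵥ d) = 2 * p := by
    rw [hp, hd', hj.quad_sub, Matrix.mulVec_sub, sesq_sympForm.sub_right, ← hxz]; ring
  have hp0 : p ≠ 0 := fun h => hd (by rw [hD, h, mul_zero])
  have hden : p * p - δ * (r * r) ≠ 0 := fun h => by
    rcases eq_or_ne r 0 with hr0 | hr0
    · rw [hr0, mul_zero, mul_zero, sub_zero] at h; exact hp0 (mul_self_eq_zero.1 h)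
    · exact hj.nsq (p / r) (by field_simp; linear_combination h)
  obtain ⟨E, hE⟩ : ∃ E, E = p * p - δ * (r * r) := ⟨_, rfl⟩
  rw [← hE] at hden
  obtain ⟨R, hRs, hRJ, hR⟩ := hj.exists_rot hd (s := 1 - 2 * p * p / E) (t := -(2 * p * r) / E)
    (by field_simp; linear_combination (-4 * p * p) * hE)
  refine ⟨R, hRs, hRJ, ?_, fun y h1 h2 => by rw [hR, h1, h2]; simp⟩
  have hzd : z = x - d := by rw [hd', sub_sub_cancel]
  have := hj.two
  rw [hR, hzd, ← hp, ← hr, hD]
  match_scalars <;> field_simp <;> first | (ring; done) | linear_combination (2 : F) * hE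

end CJ

/-- Two pairs of transvections through `a` give a transvection at `a`. -/
theorem inN_weight {a b b' : V} {k k' x : F} (hab : W a b = 0) (hab' : W a b' = 0) (hbb : W b b' ≠ 0)
    (h : ∀ c : F, InN M fun y => (c * W y b) • b + (c * k * W y a) • a)
    (h' : ∀ c : F, InN M fun y => (c * W y b') • b' + (c * k' * W y a) • a)
    (hx : x ≠ 0) (hw : 2 * k * (x * x) + k' ≠ 0) (h4 : (4 : F) ≠ 0) :
    ∃ c : F, c ≠ 0 ∧ InN M fun y => (c * W y a) • a := by
  obtain ⟨ω, hω⟩ : ∃ ω, ω = W b b' := ⟨_, rfl⟩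
  have hω0 : ω ≠ 0 := hω ▸ hbb
  obtain ⟨t, ht⟩ : ∃ t, t = x / ω := ⟨_, rfl⟩
  obtain ⟨s, hs⟩ : ∃ s, s = 1 / (x * ω) := ⟨_, rfl⟩
  have hst : s * t * (ω * ω) = 1 := by rw [ht, hs]; field_simp
  obtain ⟨l, hl⟩ : ∃ l, l = 2 * k * t + k' * s := ⟨_, rfl⟩
  have hl0 : l ≠ 0 := by
    rw [hl, show 2 * k * t + k' * s = (2 * k * (x * x) + k') / (x * ω) by rw [ht, hs]; field_simp]
    exact div_ne_zero hw (mul_ne_zero hx hω0)
  obtain ⟨U₁, hU₁, e₁⟩ := h t
  obtain ⟨U₂, hU₂, e₂⟩ := h' s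
  have ba : W b a = 0 := by rw [sympForm_swap, hab, neg_zero]
  have b'a : W b' a = 0 := by rw [sympForm_swap, hab', neg_zero]
  have b'b : W b' b = -ω := by rw [hω, sympForm_swap]
  have e3 : ∀ y, ((U₁ * U₂ * U₁ : GL (Fin m ⊕ Fin m) F) : Mn) *ᵥ y = y + (t * W y b - W y b' / ω) • b +
      (s * W y b' + W y b / ω) • b' + (l * W y a) • a := fun y => by
    simp only [Units.val_mul, ← Matrix.mulVec_mulVec, e₁, e₂, sympForm_add_left, sympForm_smul_left, sympForm_self,
      hab, hab', ba, b'a, b'b, ← hω, mul_zero, add_zero]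
    match_scalars <;> field_simp
    · linear_combination (-(W y b * t * ω) - W y b') * hst
    · rw [hl]; ring
    · linear_combination (W y b) * hst
  refine ⟨4 * l, mul_ne_zero h4 hl0, _, pow_mem (mul_mem (mul_mem hU₁ hU₂) hU₁) 4, fun y => ?_⟩
  obtain ⟨T, hT⟩ : ∃ T, T = U₁ * U₂ * U₁ := ⟨_, rfl⟩
  have e2 : ∀ y, ((T * T : GL (Fin m ⊕ Fin m) F) : Mn) *ᵥ y =
      y + (-2 * W y b' / ω) • b + (2 * W y b / ω) • b' + (2 * l * W y a) • a := fun y => by
    simp only [hT, Units.val_mul (U₁ * U₂ * U₁), ← Matrix.mulVec_mulVec, e3, sympForm_add_left, sympForm_smul_left,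
      sympForm_self, hab, hab', ba, b'a, b'b, ← hω, mul_zero, add_zero]
    match_scalars <;> field_simp
    · linear_combination (-W y b') * hst
    · linear_combination (W y b) * hst
    · ring
  rw [← hT, show T ^ 4 = T * T * (T * T) by rw [pow_succ, pow_three]; simp only [mul_assoc], Units.val_mul (T * T),
    ← Matrix.mulVec_mulVec, e2, e2]
  simp only [sympForm_add_left, sympForm_smul_left, sympForm_self, hab, hab', ba, b'a, b'b, ← hω, mul_zero, add_zero]
  match_scalars <;> field_simp <;> ring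

/-- Two short root elements through `a` with non-orthogonal ends give a transvection at `a`. -/
theorem inN_heis {a p p' : V} (hap : W a p = 0) (hap' : W a p' = 0) (hpp : W p p' ≠ 0) (h2 : (2 : F) ≠ 0)
    (h : ∀ c : F, InN M fun y => c • (W y a • p + W y p • a))
    (h' : ∀ c : F, InN M fun y => c • (W y a • p' + W y p' • a)) :
    ∃ c : F, c ≠ 0 ∧ InN M fun y => (c * W y a) • a := by
  obtain ⟨S₁, hS₁, e₁⟩ := h 1
  obtain ⟨S₂, hS₂, e₂⟩ := h' 1
  obtain ⟨S₃, hS₃, e₃⟩ := h (-1)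
  obtain ⟨S₄, hS₄, e₄⟩ := h' (-1)
  have pa : W p a = 0 := by rw [sympForm_swap, hap, neg_zero]
  have p'a : W p' a = 0 := by rw [sympForm_swap, hap', neg_zero]
  refine ⟨-2 * W p p', mul_ne_zero (neg_ne_zero.2 h2) hpp, S₁ * S₂ * S₃ * S₄,
    mul_mem (mul_mem (mul_mem hS₁ hS₂) hS₃) hS₄, fun y => ?_⟩
  simp only [Units.val_mul, ← Matrix.mulVec_mulVec, e₁, e₂, e₃, e₄, sympForm_add_left, sympForm_smul_left,
    sympForm_self, hap, hap', pa, p'a, sympForm_swap p' p, one_smul, mul_zero, add_zero]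
  match_scalars <;> ring

theorem inN_conj {N N' : V → V} (h : InN M N) {g : GL (Fin m ⊕ Fin m) F} (hg : g ∈ M)
    (hN : ∀ z, N' ((g : Mn) *ᵥ z) = (g : Mn) *ᵥ N z) : InN M N' := by
  obtain ⟨t, ht, htx⟩ := h
  refine ⟨g * t * g⁻¹, mul_mem (mul_mem hg ht) (inv_mem hg), fun y => ?_⟩
  obtain ⟨z, rfl⟩ : ∃ z, (g : Mn) *ᵥ z = y := ⟨_, mulVec_inv_cancel g y⟩
  rw [Units.val_mul, Units.val_mul, ← Matrix.mulVec_mulVec, ← Matrix.mulVec_mulVec, inv_mulVec_cancel, htx,
    Matrix.mulVec_add, hN]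

/-- A transvection from a point pair which is not perpendicular for the symmetric form, `δ = -1`. -/
theorem CJ.one_of_skew (hj : CJ J δ) (hMi : ∀ {k : GL (Fin m ⊕ Fin m) F}, k ∈ M → ∀ a b, W ((k : Mn) *ᵥ a) ((k : Mn) *ᵥ b) = W a b)
    (hmem : ∀ {R : GL (Fin m ⊕ Fin m) F}, R ∈ spGL m F →
      (∀ y, (R : Mn) *ᵥ (J *ᵥ y) = J *ᵥ ((R : Mn) *ᵥ y)) → R ∈ M)
    {a b d : V} (hA : W a (J *ᵥ a) ≠ 0) (hab : W a b = 0) (hr : W b (J *ᵥ a) ≠ 0)
    (h : ∀ c : F, InN M fun y => (c * W y b) • b + (c * W y a) • a)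
    (hd : W d (J *ᵥ d) ≠ 0) (hda : W a d = 0) (hdJa : W a (J *ᵥ d) = 0) (hbd : W b d ≠ 0 ∨ W b (J *ᵥ d) ≠ 0) :
    ∃ c : F, c ≠ 0 ∧ InN M fun y => (c * W y a) • a := by
  have h2 := hj.two
  obtain ⟨r, hr'⟩ : ∃ r, r = W b (J *ᵥ a) / W a (J *ᵥ a) := ⟨_, rfl⟩
  have hr0 : r ≠ 0 := hr' ▸ div_ne_zero hr hA
  obtain ⟨p, hp⟩ : ∃ p, p = b - r • a := ⟨_, rfl⟩
  obtain ⟨R, hRs, hRJ, hR⟩ := hj.exists_rot hA (s := -1) (t := 0) (by ring)
  have hRa : (R : Mn) *ᵥ a = -a := by
    rw [hR, sympForm_self]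
    match_scalars <;> field_simp <;> ring
  have hRb : (R : Mn) *ᵥ b = p - r • a := by
    rw [hR, show W b a = 0 by rw [sympForm_swap, hab, neg_zero], hp, hr']
    match_scalars <;> field_simp <;> ring
  have hbp : b = p + r • a := by rw [hp, sub_add_cancel]
  have pa : W p a = 0 := by
    rw [hp, sesq_sympForm.sub_left, sympForm_smul_left, sympForm_self, sympForm_swap, hab]; ring
  have ap : W a p = 0 := by rw [sympForm_swap, pa, neg_zero]
  have hS : ∀ c : F, InN M fun y => c • (W y a • p + W y p • a) := fun c => by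
    obtain ⟨t₁, ht₁, e₁⟩ := h (c / (2 * r))
    obtain ⟨t₂, ht₂, e₂⟩ : InN M fun y => (-(c / (2 * r)) * W y (p - r • a)) • (p - r • a) +
        (-(c / (2 * r)) * W y a) • a := by
      refine inN_conj (h (-(c / (2 * r)))) (hmem hRs hRJ) fun z => ?_
      have i1 : W ((R : Mn) *ᵥ z) (p - r • a) = W z b := by rw [← hRb, hMi (hmem hRs hRJ)]
      have i2 : W ((R : Mn) *ᵥ z) a = -W z a := by
        have := hMi (hmem hRs hRJ) z a
        rw [hRa, ← neg_one_smul F a, sympForm_smul_right] at this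
        linear_combination -this
      rw [i1, i2, Matrix.mulVec_add, Matrix.mulVec_smul, Matrix.mulVec_smul, hRa, hRb]
      module
    refine ⟨t₁ * t₂, mul_mem ht₁ ht₂, fun y => ?_⟩
    rw [Units.val_mul, ← Matrix.mulVec_mulVec, e₂, e₁, hbp]
    simp only [sympForm_add_left, sympForm_add_right, sympForm_smul_left, sympForm_smul_right,
      sesq_sympForm.sub_left, sesq_sympForm.sub_right, sympForm_self, ap, pa, mul_zero, add_zero, sub_zero]
    match_scalars <;> field_simp <;> ring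
  have hδ1 := hj.one_sub_delta
  obtain ⟨T, hTs, hTJ, hT⟩ := hj.exists_rot hd (s := (1 + δ) / (1 - δ)) (t := 2 / (1 - δ))
    (by field_simp; ring)
  have hTa : (T : Mn) *ᵥ a = a := by rw [hT, hda, hdJa]; simp
  refine inN_heis ap (p' := (T : Mn) *ᵥ p) ?_ ?_ h2 hS fun c => inN_conj (hS c) (hmem hTs hTJ) fun z => ?_
  · rw [← hTa, hMi (hmem hTs hTJ), ap]
  · have hpd : W p d = W b d := by rw [hp, sesq_sympForm.sub_left, sympForm_smul_left, hda, mul_zero, sub_zero]
    have hpJd : W p (J *ᵥ d) = W b (J *ᵥ d) := by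
      rw [hp, sesq_sympForm.sub_left, sympForm_smul_left, hdJa, mul_zero, sub_zero]
    rw [hT, sympForm_add_right, sympForm_add_right, sympForm_smul_right, sympForm_smul_right, sympForm_self,
      hpd, hpJd, zero_add]
    intro he
    have h1 : 2 * (W b (J *ᵥ d) * W b (J *ᵥ d) - δ * (W b d * W b d)) = 0 := by
      field_simp at he
      linear_combination he
    rw [mul_eq_zero, or_iff_right h2] at h1
    rcases eq_or_ne (W b d) 0 with h0 | h0
    · rw [h0, mul_zero, mul_zero, sub_zero] at h1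
      exact (hbd.resolve_left (not_not.2 h0)) (mul_self_eq_zero.1 h1)
    · exact hj.nsq (W b (J *ᵥ d) / W b d) (by field_simp; linear_combination h1)
  · conv_lhs => rw [← hTa, hMi (hmem hTs hTJ), hMi (hmem hTs hTJ)]
    rw [Matrix.mulVec_smul, Matrix.mulVec_add, Matrix.mulVec_smul, Matrix.mulVec_smul, hTa]

/-- Unitary groups are maximal in symplectic groups. -/
theorem CJ.maximal [Finite F] (hj : CJ J δ) (K : Subalgebra F (Matrix (Fin m ⊕ Fin m) (Fin m ⊕ Fin m) F))
    (hK : ∀ k, k ∈ K ↔ ∃ a b : F, k = a • 1 + b • J) :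
    Geo.IsMaximalIn (spGL m F) (Geo.subalgebraNormalizer K ⊓ spGL m F) := by
  classical
  have hdim := hj.dim
  have h2 := hj.two
  have hδ := hj.delta_ne
  have hδ1 := hj.one_sub_delta
  have h4 : (4 : F) ≠ 0 := by rw [show (4 : F) = 2 * 2 by norm_num]; exact mul_ne_zero h2 h2
  have hJK : J ∈ K := (hK J).2 ⟨0, 1, by simp⟩
  refine isMaximalIn_intro inf_le_right (fun hle => ?_) fun M hHM hMG g hgM hgH => spGL_le fun x => ?_
  · obtain ⟨v, hv0, -⟩ := hj.exists_iso (k := 0) (fun i => i.elim0) (by omega)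
    obtain ⟨t, hts, htx⟩ := exists_sp_tv v (1 : F)
    obtain ⟨c, e, hce⟩ := (hK _).1 (((hle hts).1 J).1 hJK)
    have hmul : ∀ y, (t : Mn) *ᵥ (J *ᵥ y) = c • ((t : Mn) *ᵥ y) + e • (J *ᵥ ((t : Mn) *ᵥ y)) := fun y => by
      have h1 := congrArg (fun A : Mn => A *ᵥ ((t : Mn) *ᵥ y)) hce
      simp only [← Matrix.mulVec_mulVec, inv_mulVec_cancel, Matrix.add_mulVec, Matrix.smul_mulVec,
        Matrix.one_mulVec] at h1
      exact h1
    obtain ⟨y, hy0, -, hy⟩ := hj.exists_iso (k := 2) ![v, J *ᵥ v] (by omega)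
    have y1 : W y (J *ᵥ v) = 0 := hy 0
    have y2 : W y v = 0 := by
      have h : W y (J *ᵥ (J *ᵥ v)) = 0 := hy 1
      rw [hj.sq, sympForm_smul_right] at h
      exact (mul_eq_zero.1 h).resolve_left hδ
    have h1 := hmul y
    rw [htx, htx, y2, hj.anti, y1, neg_zero, mul_zero, zero_smul, add_zero, add_zero] at h1
    obtain ⟨hc, he⟩ := hj.indep0 hy0 (c := c) (e := e - 1) (by rw [sub_smul, one_smul]; linear_combination (norm := module) -h1)
    rw [sub_eq_zero] at he
    obtain ⟨z, hz⟩ := exists_sympForm_eq_one hv0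
    have h3 := hmul z
    have hz1 : W z v = -1 := by rw [sympForm_swap, hz]
    rw [htx, htx, hc, he, zero_smul, zero_add, one_smul, Matrix.mulVec_add, Matrix.mulVec_smul, hz1,
      add_right_inj] at h3
    have h4 := (hj.indep0 hv0 (c := 1 * W (J *ᵥ z) v) (e := -(1 * -1))
      (by rw [neg_smul]; linear_combination (norm := module) h3)).2
    simp at h4
  have hMi : ∀ {k : GL (Fin m ⊕ Fin m) F}, k ∈ M → ∀ a b, W ((k : Mn) *ᵥ a) ((k : Mn) *ᵥ b) = W a b :=
    fun hk => mem_spGL.1 (hMG hk)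
  have memH : ∀ {t : GL (Fin m ⊕ Fin m) F}, t ∈ spGL m F →
      (∀ y, (t : Mn) *ᵥ (J *ᵥ y) = J *ᵥ ((t : Mn) *ᵥ y)) → t ∈ M := fun {t} hts htJ => by
    refine hHM ⟨fun k => ?_, hts⟩
    have hcomm : ∀ a b : F, (t : Mn) * (a • 1 + b • J) * ((t⁻¹ : GL (Fin m ⊕ Fin m) F) : Mn) = a • 1 + b • J :=
      fun a b => by
      refine Matrix.ext_iff_mulVec.2 fun y => ?_
      obtain ⟨z, rfl⟩ : ∃ z, (t : Mn) *ᵥ z = y := ⟨_, mulVec_inv_cancel t y⟩
      simp only [← Matrix.mulVec_mulVec, inv_mulVec_cancel, Matrix.add_mulVec, Matrix.smul_mulVec,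
        Matrix.one_mulVec, Matrix.mulVec_add, Matrix.mulVec_smul, htJ]
    refine ⟨fun hk => ?_, fun hk => ?_⟩
    · obtain ⟨a, b, rfl⟩ := (hK k).1 hk
      rw [hcomm]; exact hk
    · obtain ⟨a, b, hab⟩ := (hK _).1 hk
      refine (hK k).2 ⟨a, b, ?_⟩
      have h1 := hab.trans (hcomm a b).symm
      rw [Units.mul_left_inj, Units.mul_right_inj] at h1
      exact h1
  -- an isotropic vector whose image is not isotropic
  obtain ⟨a₀, ha₀, hA⟩ : ∃ a, W a (J *ᵥ a) = 0 ∧ W ((g : Mn) *ᵥ a) (J *ᵥ ((g : Mn) *ᵥ a)) ≠ 0 := by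
    by_contra hall
    push Not at hall
    apply hgH
    refine ⟨?_, hMG hgM⟩
    obtain ⟨e, he0, he, -⟩ := hj.exists_iso (k := 0) (fun i => i.elim0) (by omega)
    obtain ⟨f₀, hf₀⟩ := hj.exists_dual he0
    obtain ⟨f, hf, hef⟩ : ∃ f, W f (J *ᵥ f) = 0 ∧ W e (J *ᵥ f) = 1 := by
      refine ⟨f₀ - (W f₀ (J *ᵥ f₀) / 2) • e, ?_, ?_⟩
      · rw [hj.quad_sub, hj.quad_smul, he, Matrix.mulVec_smul, sympForm_smul_right, hj.beta_symm f₀ e, hf₀]
        field_simp; ring
      · rw [Matrix.mulVec_sub, Matrix.mulVec_smul, sesq_sympForm.sub_right, sympForm_smul_right, he, hf₀, mul_zero,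
          sub_zero]
    let Φ : V → V → F := fun x y => W ((g : Mn) *ᵥ x) (J *ᵥ ((g : Mn) *ᵥ y))
    have Φa : ∀ x y z, Φ (x + y) z = Φ x z + Φ y z := fun x y z => by
      simp only [Φ, Matrix.mulVec_add, sympForm_add_left]
    have Φs : ∀ (t : F) x z, Φ (t • x) z = t * Φ x z := fun t x z => by
      simp only [Φ, Matrix.mulVec_smul, sympForm_smul_left]
    have Φc : ∀ x y, Φ x y = Φ y x := fun x y => hj.beta_symm _ _
    have Φa' : ∀ x y z, Φ z (x + y) = Φ z x + Φ z y := fun x y z => by rw [Φc, Φa, Φc x, Φc y]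
    have Φs' : ∀ (t : F) x z, Φ z (t • x) = t * Φ z x := fun t x z => by rw [Φc, Φs, Φc x]
    have Φ0 : ∀ x, W x (J *ᵥ x) = 0 → Φ x x = 0 := hall
    have hsing : ∀ u z, W u (J *ᵥ u) = 0 → W z (J *ᵥ z) = 0 → W u (J *ᵥ z) = 0 → Φ u z = 0 := fun u z hu hz huz => by
      have h1 := Φ0 (u + z) (by rw [hj.quad_add, hu, hz, huz]; ring)
      rw [Φa, Φa', Φa', Φ0 u hu, Φ0 z hz, Φc z u] at h1
      exact (mul_eq_zero.1 (show (2 : F) * Φ u z = 0 by linear_combination h1)).resolve_left h2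
    obtain ⟨c, hc⟩ : ∃ c, c = Φ e f := ⟨_, rfl⟩
    have hperp : ∀ z, W e (J *ᵥ z) = 0 → W f (J *ᵥ z) = 0 →
        Φ e z = 0 ∧ Φ f z = 0 ∧ Φ z z = c * W z (J *ᵥ z) := fun z he' hf' => by
      by_cases hz : W z (J *ᵥ z) = 0
      · exact ⟨hsing e z he hz he', hsing f z hf hz hf', by rw [Φ0 z hz, hz, mul_zero]⟩
      obtain ⟨y, hy, hey, hfy, hzy⟩ : ∃ y, W y (J *ᵥ y) = 0 ∧ W e (J *ᵥ y) = 0 ∧ W f (J *ᵥ y) = 0 ∧
          W z (J *ᵥ y) ≠ 0 := by
        obtain ⟨y₀, hy₀0, hy₀, hy₀p⟩ := hj.exists_iso (k := 2) ![e, f] (by omega)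
        have ye : W e (J *ᵥ y₀) = 0 := by rw [hj.beta_symm]; exact hy₀p 0
        have yf : W f (J *ᵥ y₀) = 0 := by rw [hj.beta_symm]; exact hy₀p 1
        by_cases hzy₀ : W z (J *ᵥ y₀) = 0
        · obtain ⟨g₀, hg₀⟩ := hj.exists_dual hy₀0
          obtain ⟨g₁, hg₁⟩ : ∃ g₁, g₁ = g₀ - W f (J *ᵥ g₀) • e - W e (J *ᵥ g₀) • f := ⟨_, rfl⟩
          have g1e : W e (J *ᵥ g₁) = 0 := by
            rw [hg₁]; simp only [Matrix.mulVec_sub, Matrix.mulVec_smul, sesq_sympForm.sub_right, sympForm_smul_right,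
              he, hef]; ring
          have g1f : W f (J *ᵥ g₁) = 0 := by
            rw [hg₁]; simp only [Matrix.mulVec_sub, Matrix.mulVec_smul, sesq_sympForm.sub_right, sympForm_smul_right,
              hf, hj.beta_symm f e, hef]; ring
          have g1y : W y₀ (J *ᵥ g₁) = 1 := by
            rw [hg₁]; simp only [Matrix.mulVec_sub, Matrix.mulVec_smul, sesq_sympForm.sub_right, sympForm_smul_right,
              hj.beta_symm y₀ e, hj.beta_symm y₀ f, ye, yf, hg₀]; ring
          obtain ⟨g₂, hg₂⟩ : ∃ g₂, g₂ = g₁ - (W g₁ (J *ᵥ g₁) / 2) • y₀ := ⟨_, rfl⟩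
          have g2 : W g₂ (J *ᵥ g₂) = 0 := by
            rw [hg₂, hj.quad_sub, hj.quad_smul, hy₀, Matrix.mulVec_smul, sympForm_smul_right, hj.beta_symm g₁ y₀,
              g1y]
            field_simp; ring
          have g2y : W y₀ (J *ᵥ g₂) = 1 := by
            rw [hg₂, Matrix.mulVec_sub, Matrix.mulVec_smul, sesq_sympForm.sub_right, sympForm_smul_right, hy₀, g1y,
              mul_zero, sub_zero]
          have g2e : W e (J *ᵥ g₂) = 0 := by
            rw [hg₂, Matrix.mulVec_sub, Matrix.mulVec_smul, sesq_sympForm.sub_right, sympForm_smul_right, ye, g1e,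
              mul_zero, sub_zero]
          have g2f : W f (J *ᵥ g₂) = 0 := by
            rw [hg₂, Matrix.mulVec_sub, Matrix.mulVec_smul, sesq_sympForm.sub_right, sympForm_smul_right, yf, g1f,
              mul_zero, sub_zero]
          by_cases hzg : W z (J *ᵥ g₂) = 0
          · refine ⟨y₀ + (-(W z (J *ᵥ z)) / 2) • g₂ + z, ?_, ?_, ?_, ?_⟩
            · rw [hj.quad_add, hj.quad_add, hj.quad_smul, hy₀, g2, Matrix.mulVec_smul, sympForm_smul_right, g2y,
                sympForm_add_left, sympForm_smul_left, hj.beta_symm y₀ z, hj.beta_symm g₂ z, hzy₀, hzg]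
              field_simp; ring
            · simp only [Matrix.mulVec_add, Matrix.mulVec_smul, sympForm_add_right, sympForm_smul_right, ye, g2e,
                he', mul_zero, add_zero]
            · simp only [Matrix.mulVec_add, Matrix.mulVec_smul, sympForm_add_right, sympForm_smul_right, yf, g2f,
                hf', mul_zero, add_zero]
            · simp only [Matrix.mulVec_add, Matrix.mulVec_smul, sympForm_add_right, sympForm_smul_right, hzy₀, hzg,
                mul_zero, add_zero, zero_add]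
              exact hz
          · exact ⟨g₂, g2, g2e, g2f, hzg⟩
        · exact ⟨y₀, hy₀, ye, yf, hzy₀⟩
      obtain ⟨t, ht⟩ : ∃ t, t = -(W z (J *ᵥ z)) / (2 * W z (J *ᵥ y)) := ⟨_, rfl⟩
      have hzt : W (z + t • y) (J *ᵥ (z + t • y)) = 0 := by
        rw [hj.quad_add, hj.quad_smul, hy, Matrix.mulVec_smul, sympForm_smul_right, ht]; field_simp; ring
      have lin : ∀ u, W u (J *ᵥ u) = 0 → W u (J *ᵥ z) = 0 → W u (J *ᵥ y) = 0 → Φ u z = 0 := fun u hu h1 h3 => by
        have h5 := hsing u (z + t • y) hu hzt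
          (by rw [Matrix.mulVec_add, Matrix.mulVec_smul, sympForm_add_right, sympForm_smul_right, h1, h3]; ring)
        rwa [Φa', Φs', hsing u y hu hy h3, mul_zero, add_zero] at h5
      have e1 := lin e he he' hey
      have e2 := lin f hf hf' hfy
      refine ⟨e1, e2, ?_⟩
      have h5 := Φ0 (e + (-(W z (J *ᵥ z)) / 2) • f + z) (by
        rw [hj.quad_add, hj.quad_add, hj.quad_smul, he, hf, Matrix.mulVec_smul, sympForm_smul_right, hef,
          sympForm_add_left, sympForm_smul_left, he', hf']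
        field_simp; ring)
      simp only [Φa, Φa', Φs, Φs', Φc z e, Φc z f, Φc f e, e1, e2, Φ0 e he, Φ0 f hf, ← hc] at h5
      field_simp at h5
      exact sub_eq_zero.1 ((mul_eq_zero.1
        (show (4 : F) * (Φ z z - c * W z (J *ᵥ z)) = 0 by linear_combination h5)).resolve_left h4)
    have hsim : ∀ x, Φ x x = c * W x (J *ᵥ x) := fun x => by
      obtain ⟨α, hα⟩ : ∃ α, α = W f (J *ᵥ x) := ⟨_, rfl⟩
      obtain ⟨β, hβ⟩ : ∃ β, β = W e (J *ᵥ x) := ⟨_, rfl⟩
      obtain ⟨z, hz⟩ : ∃ z, z = x - α • e - β • f := ⟨_, rfl⟩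
      have hfe : W f (J *ᵥ e) = 1 := by rw [hj.beta_symm, hef]
      have ze : W e (J *ᵥ z) = 0 := by
        rw [hz]; simp only [Matrix.mulVec_sub, Matrix.mulVec_smul, sesq_sympForm.sub_right, sympForm_smul_right, he,
          hef, ← hβ]; ring
      have zf : W f (J *ᵥ z) = 0 := by
        rw [hz]; simp only [Matrix.mulVec_sub, Matrix.mulVec_smul, sesq_sympForm.sub_right, sympForm_smul_right, hf,
          hfe, ← hα]; ring
      obtain ⟨e1, e2, e3⟩ := hperp z ze zf
      have hx : x = α • e + β • f + z := by rw [hz]; module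
      rw [hx]
      simp only [Φa, Φa', Φs, Φs', Φc z e, Φc z f, Φc f e, e1, e2, e3, Φ0 e he, Φ0 f hf, ← hc]
      simp only [Matrix.mulVec_add, Matrix.mulVec_smul, sympForm_add_left, sympForm_add_right, sympForm_smul_left,
        sympForm_smul_right, he, hf, hef, hfe, ze, zf, hj.beta_symm z e, hj.beta_symm z f]
      ring
    have hcomm : ∀ y, J *ᵥ ((g : Mn) *ᵥ y) = (g : Mn) *ᵥ (c • (J *ᵥ y)) := fun y => by
      refine sub_eq_zero.1 (sesq_sympForm.eq_zero _ fun x => ?_)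
      obtain ⟨x, rfl⟩ : ∃ z, (g : Mn) *ᵥ z = x := ⟨_, mulVec_inv_cancel g x⟩
      rw [sesq_sympForm.sub_right, hMi hgM, sympForm_smul_right]
      have h1 := hsim (x + y)
      rw [Φa, Φa', Φa', hsim x, hsim y, Φc y x, hj.quad_add] at h1
      exact (mul_eq_zero.1 (show (2 : F) * (Φ x y - c * W x (J *ᵥ y)) = 0 by linear_combination h1)).resolve_left h2
    have hc0 : c ≠ 0 := fun hc0 => he0 (by
      have h1 := congrArg (fun u => J *ᵥ u) (hcomm e)
      simp only [hj.sq, hc0, zero_smul, Matrix.mulVec_zero, smul_eq_zero, hδ, false_or] at h1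
      exact gl_mulVec_injective g (by simpa using h1))
    have conj : ∀ a b : F, (g : Mn) * (a • 1 + b • J) * ((g⁻¹ : GL (Fin m ⊕ Fin m) F) : Mn) =
        a • 1 + (b / c) • J := fun a b => by
      refine Matrix.ext_iff_mulVec.2 fun y => ?_
      obtain ⟨z, rfl⟩ : ∃ z, (g : Mn) *ᵥ z = y := ⟨_, mulVec_inv_cancel g y⟩
      simp only [← Matrix.mulVec_mulVec, inv_mulVec_cancel, Matrix.add_mulVec, Matrix.smul_mulVec,
        Matrix.one_mulVec, Matrix.mulVec_add, Matrix.mulVec_smul, hcomm, smul_smul, div_mul_cancel₀ _ hc0]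
    intro k
    refine ⟨fun hk => ?_, fun hk => ?_⟩
    · obtain ⟨a, b, rfl⟩ := (hK k).1 hk
      rw [conj]; exact (hK _).2 ⟨_, _, rfl⟩
    · obtain ⟨a, b, hab⟩ := (hK _).1 hk
      refine (hK k).2 ⟨a, b * c, ?_⟩
      have h0 := conj a (b * c)
      rw [mul_div_cancel_right₀ _ hc0] at h0
      have h1 := hab.trans h0.symm
      rw [Units.mul_left_inj, Units.mul_right_inj] at h1
      exact h1
  -- a pair of transvections
  obtain ⟨a, ha⟩ : ∃ a, a = (g : Mn) *ᵥ a₀ := ⟨_, rfl⟩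
  obtain ⟨b, hb⟩ : ∃ b, b = (g : Mn) *ᵥ (J *ᵥ a₀) := ⟨_, rfl⟩
  rw [← ha] at hA
  have hab : W a b = 0 := by rw [ha, hb, hMi hgM, ha₀]
  have ba : W b a = 0 := by rw [sympForm_swap, hab, neg_zero]
  have hqa : ∀ c : F, InN M fun y => (c * W y b) • b + (c * -δ * W y a) • a := fun c => by
    obtain ⟨t, hts, htJ, htx⟩ : ∃ t ∈ spGL m F, (∀ y, (t : Mn) *ᵥ (J *ᵥ y) = J *ᵥ ((t : Mn) *ᵥ y)) ∧
        ∀ y, (t : Mn) *ᵥ y = y + (c * W y (J *ᵥ a₀)) • (J *ᵥ a₀) + (c * -δ * W y a₀) • a₀ := by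
      obtain ⟨t₁, h₁, e₁⟩ := exists_sp_tv (J *ᵥ a₀) c
      obtain ⟨t₂, h₂, e₂⟩ := exists_sp_tv a₀ (c * -δ)
      have o2 : W (J *ᵥ a₀) a₀ = 0 := by rw [hj.anti, ha₀, neg_zero]
      have e : ∀ y, ((t₁ * t₂ : GL (Fin m ⊕ Fin m) F) : Mn) *ᵥ y =
          y + (c * W y (J *ᵥ a₀)) • (J *ᵥ a₀) + (c * -δ * W y a₀) • a₀ := fun y => by
        rw [Units.val_mul, ← Matrix.mulVec_mulVec, e₁, e₂]
        simp only [sympForm_add_left, sympForm_smul_left, ha₀, mul_zero, add_zero]
        module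
      refine ⟨t₁ * t₂, mul_mem h₁ h₂, fun y => ?_, e⟩
      rw [e, e]
      simp only [Matrix.mulVec_add, Matrix.mulVec_smul, hj.sq, hj.anti, sympForm_smul_right]
      module
    refine inN_conj ⟨t, memH hts htJ, fun y => by rw [htx, add_assoc]⟩ hgM fun z => ?_
    rw [Matrix.mulVec_add, Matrix.mulVec_smul, Matrix.mulVec_smul, ← ha, ← hb, ha, hb, hMi hgM, hMi hgM]
  obtain ⟨r, hr⟩ : ∃ r, r = W b (J *ᵥ a) / W a (J *ᵥ a) := ⟨_, rfl⟩
  have hbne : ∀ s : F, b ≠ s • a := fun s hs => by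
    have ha0 : a₀ ≠ 0 := fun h => hA (by rw [ha, h, Matrix.mulVec_zero, sesq_sympForm.zero_left])
    have h1 : (g : Mn) *ᵥ (J *ᵥ a₀) = (g : Mn) *ᵥ (s • a₀) := by rw [← hb, hs, ha, Matrix.mulVec_smul]
    exact one_ne_zero (neg_eq_zero.1 (hj.indep0 ha0 (c := s) (e := -1)
      (by rw [gl_mulVec_injective g h1, neg_one_smul, add_neg_cancel])).2)
  obtain ⟨d, hd, hda, hdJa, hbd⟩ : ∃ d, W d (J *ᵥ d) ≠ 0 ∧ W a d = 0 ∧ W a (J *ᵥ d) = 0 ∧
      (W b d ≠ 0 ∨ W b (J *ᵥ d) ≠ 0) := by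
    obtain ⟨p, hp⟩ : ∃ p, p = b - r • a := ⟨_, rfl⟩
    have pa : W a p = 0 := by rw [hp, sesq_sympForm.sub_right, sympForm_smul_right, hab, sympForm_self]; ring
    have pJa : W a (J *ᵥ p) = 0 := by
      rw [hp, Matrix.mulVec_sub, Matrix.mulVec_smul, sesq_sympForm.sub_right, sympForm_smul_right, hr,
        hj.beta_symm a b]
      field_simp; ring
    have hbp : b = p + r • a := by rw [hp, sub_add_cancel]
    by_cases hpp : W p (J *ᵥ p) = 0
    · obtain ⟨f₀, hf₀⟩ := hj.exists_dual (e := p) fun h => hbne r (by rw [hbp, h, zero_add])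
      obtain ⟨f, hf⟩ : ∃ f, f = f₀ - (W f₀ (J *ᵥ a) / W a (J *ᵥ a)) • a + (W f₀ a / W a (J *ᵥ a)) • (J *ᵥ a) :=
        ⟨_, rfl⟩
      have fa : W a f = 0 := by
        rw [hf, sympForm_add_right, sesq_sympForm.sub_right, sympForm_smul_right, sympForm_smul_right, sympForm_self,
          sympForm_swap f₀ a]
        field_simp; ring
      have fJa : W a (J *ᵥ f) = 0 := by
        rw [hf, Matrix.mulVec_add, Matrix.mulVec_sub, Matrix.mulVec_smul, Matrix.mulVec_smul, hj.sq,
          sympForm_add_right, sesq_sympForm.sub_right, sympForm_smul_right, sympForm_smul_right, sympForm_smul_right,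
          sympForm_self, hj.beta_symm a f₀]
        field_simp; ring
      have fp : W p (J *ᵥ f) = 1 := by
        rw [hf, Matrix.mulVec_add, Matrix.mulVec_sub, Matrix.mulVec_smul, Matrix.mulVec_smul, hj.sq,
          sympForm_add_right, sesq_sympForm.sub_right, sympForm_smul_right, sympForm_smul_right, sympForm_smul_right,
          hj.beta_symm p a, pJa, sympForm_swap p a, pa, hf₀]
        ring
      have fb : W b (J *ᵥ f) = 1 := by rw [hbp, sympForm_add_left, sympForm_smul_left, fp, fJa]; ring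
      by_cases hff : W f (J *ᵥ f) = 0
      · refine ⟨p + f, ?_, by rw [sympForm_add_right, pa, fa, add_zero],
          by rw [Matrix.mulVec_add, sympForm_add_right, pJa, fJa, add_zero], Or.inr ?_⟩
        · rw [hj.quad_add, hpp, hff, fp, zero_add, add_zero, mul_one]; exact h2
        · rw [Matrix.mulVec_add, sympForm_add_right, fb, hbp, sympForm_add_left, sympForm_smul_left, hpp, pJa]
          simp
      · exact ⟨f, hff, fa, fJa, Or.inr (by rw [fb]; exact one_ne_zero)⟩
    · refine ⟨p, hpp, pa, pJa, Or.inr ?_⟩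
      rw [hbp, sympForm_add_left, sympForm_smul_left, pJa, mul_zero, add_zero]
      exact hpp
  obtain ⟨a₁, ha₁, c₀, hc₀, hone⟩ : ∃ a₁, W a₁ (J *ᵥ a₁) ≠ 0 ∧
      ∃ c : F, c ≠ 0 ∧ InN M fun y => (c * W y a₁) • a₁ := by
    by_cases hx : ∃ x : F, x ≠ 0 ∧ 2 * (x * x) + 1 ≠ 0
    · obtain ⟨x, hx0, hx⟩ := hx
      obtain ⟨R, hRs, hRJ, hR⟩ := hj.exists_rot hd (s := (1 + δ) / (1 - δ)) (t := 2 / (1 - δ))
        (by field_simp; ring)
      have hRa : (R : Mn) *ᵥ a = a := by rw [hR, hda, hdJa]; simp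
      refine ⟨a, hA, inN_weight (b' := (R : Mn) *ᵥ b) (k := -δ) (k' := -δ) (x := x) hab ?_ ?_ hqa ?_ hx0 ?_ h4⟩
      · rw [← hRa, hMi (memH hRs hRJ), hab]
      · rw [hR, sympForm_add_right, sympForm_add_right, sympForm_smul_right, sympForm_smul_right, sympForm_self,
          zero_add]
        intro he
        have h1 : 2 * (W b (J *ᵥ d) * W b (J *ᵥ d) - δ * (W b d * W b d)) = 0 := by
          field_simp at he
          linear_combination he
        rw [mul_eq_zero, or_iff_right h2] at h1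
        rcases eq_or_ne (W b d) 0 with h0 | h0
        · rw [h0, mul_zero, mul_zero, sub_zero] at h1
          exact (hbd.resolve_left (not_not.2 h0)) (mul_self_eq_zero.1 h1)
        · exact hj.nsq (W b (J *ᵥ d) / W b d) (by field_simp; linear_combination h1)
      · intro c
        refine inN_conj (hqa c) (memH hRs hRJ) fun z => ?_
        conv_lhs => rw [← hRa, hMi (memH hRs hRJ), hMi (memH hRs hRJ)]
        rw [Matrix.mulVec_add, Matrix.mulVec_smul, Matrix.mulVec_smul, hRa]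
      · rw [show 2 * -δ * (x * x) + -δ = -δ * (2 * (x * x) + 1) by ring]
        exact mul_ne_zero (neg_ne_zero.2 hδ) hx
    push Not at hx
    have h3 : (3 : F) = 0 := by linear_combination hx 1 one_ne_zero
    have hsq1 : ∀ x : F, x ≠ 0 → x * x = 1 := fun x hx' => by linear_combination (-1 : F) * hx x hx' + (x * x) * h3
    have hδ3 : δ = -1 := (mul_self_eq_one_iff.1 (hsq1 δ hδ)).resolve_left fun h => hδ1 (by rw [h, sub_self])
    have hq : ∀ c : F, InN M fun y => (c * W y b) • b + (c * W y a) • a := fun c =>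
      (hqa c).congr fun y => by rw [hδ3, neg_neg, mul_one]
    by_cases hr0 : W b (J *ᵥ a) = 0
    swap
    · exact ⟨a, hA, hj.one_of_skew hMi memH hA hab hr0 hq hd hda hdJa hbd⟩
    by_cases hB : W b (J *ᵥ b) = 0
    · have hA' : W (a + b) (J *ᵥ (a + b)) = W a (J *ᵥ a) := by
        rw [hj.quad_add, hj.beta_symm a b, hr0, hB]; ring
      refine ⟨a + b, by rw [hA']; exact hA, ?_⟩
      obtain ⟨f₀, hf₀⟩ := hj.exists_dual (e := b) fun h => hbne 0 (by rw [h, zero_smul])
      obtain ⟨e, he⟩ : ∃ e, e = a - b := ⟨_, rfl⟩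
      obtain ⟨f, hf⟩ : ∃ f, f = f₀ - (W f₀ (J *ᵥ (a + b)) / W a (J *ᵥ a)) • (a + b) +
          (W f₀ (a + b) / W a (J *ᵥ a)) • (J *ᵥ (a + b)) := ⟨_, rfl⟩
      have fa : W (a + b) f = 0 := by
        rw [hf, sympForm_add_right, sesq_sympForm.sub_right, sympForm_smul_right, sympForm_smul_right, sympForm_self,
          hA', sympForm_swap f₀ (a + b)]
        field_simp; ring
      have fJa : W (a + b) (J *ᵥ f) = 0 := by
        rw [hf, Matrix.mulVec_add _ (_ - _), Matrix.mulVec_sub, Matrix.mulVec_smul, Matrix.mulVec_smul, hj.sq,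
          sympForm_add_right, sesq_sympForm.sub_right, sympForm_smul_right, sympForm_smul_right, sympForm_smul_right,
          sympForm_self, hA', hj.beta_symm (a + b) f₀]
        field_simp; ring
      obtain ⟨p, hp⟩ : ∃ p, p = e - (a + b) := ⟨_, rfl⟩
      have pe : W e (J *ᵥ (a + b)) = W a (J *ᵥ a) := by
        rw [he, Matrix.mulVec_add, sesq_sympForm.sub_left, sympForm_add_right, sympForm_add_right, hB,
          hj.beta_symm a b, hr0]; ring
      have hab2 : W (a + b) e = 0 := by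
        rw [he, sesq_sympForm.sub_right, sympForm_add_left, sympForm_add_left, sympForm_self, sympForm_self, hab,
          ba]; ring
      have pa : W (a + b) p = 0 := by rw [hp, sesq_sympForm.sub_right, hab2, sympForm_self, sub_zero]
      have pJa : W (a + b) (J *ᵥ p) = 0 := by
        rw [hp, Matrix.mulVec_sub, sesq_sympForm.sub_right, hA', hj.beta_symm (a + b) e, pe, sub_self]
      have hp' : p = (-2 : F) • b := by rw [hp, he]; module
      have fp : W p (J *ᵥ f) = -2 := by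
        rw [hf, Matrix.mulVec_add _ (_ - _), Matrix.mulVec_sub, Matrix.mulVec_smul, Matrix.mulVec_smul, hj.sq,
          sympForm_add_right, sesq_sympForm.sub_right, sympForm_smul_right, sympForm_smul_right, sympForm_smul_right,
          hj.beta_symm p (a + b), pJa, sympForm_swap p (a + b), pa, hp', sympForm_smul_left, hf₀]
        ring
      obtain ⟨d, hd, hda, hdJa, hbd⟩ : ∃ d, W d (J *ᵥ d) ≠ 0 ∧ W (a + b) d = 0 ∧ W (a + b) (J *ᵥ d) = 0 ∧
          (W e d ≠ 0 ∨ W e (J *ᵥ d) ≠ 0) := by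
        have hpp : W p (J *ᵥ p) = 0 := by rw [hp', hj.quad_smul, hB, mul_zero]
        have hep : e = p + (a + b) := by rw [hp, sub_add_cancel]
        by_cases hff : W f (J *ᵥ f) = 0
        · refine ⟨p + f, ?_, by rw [sympForm_add_right, pa, fa, add_zero],
            by rw [Matrix.mulVec_add, sympForm_add_right, pJa, fJa, add_zero], Or.inr ?_⟩
          · rw [hj.quad_add, hpp, hff, fp]; simpa using mul_ne_zero h2 h2
          · rw [Matrix.mulVec_add _ p, sympForm_add_right, hep, sympForm_add_left p, sympForm_add_left p, hpp, pJa, fJa,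
              fp]
            simpa using h2
        · exact ⟨f, hff, fa, fJa, Or.inr (by rw [hep, sympForm_add_left, fJa, fp]; simpa using h2)⟩
      refine hj.one_of_skew hMi memH (b := e) (by rw [hA']; exact hA) hab2 (by rw [pe]; exact hA) (fun c => ?_)
        hd hda hdJa hbd
      refine (hq (2 * c)).congr fun y => ?_
      simp only [he, sympForm_add_right, sesq_sympForm.sub_right]
      match_scalars <;> ring
    -- `a`, `b` orthogonal and anisotropic
    obtain ⟨f, hf0, hfp⟩ : ∃ f : V, f ≠ 0 ∧ W a f = 0 ∧ W a (J *ᵥ f) = 0 ∧ W b f = 0 ∧ W b (J *ᵥ f) = 0 := by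
      obtain ⟨B, hB'⟩ : ∃ B : LinearMap.BilinForm F V, ∀ x y, B x y = W x y := ⟨sympB m F, fun x y => sympB_apply x y⟩
      let L : V →ₗ[F] (Fin 4 → F) := LinearMap.pi ![B a, (B a).comp (Matrix.mulVecLin J), B b,
        (B b).comp (Matrix.mulVecLin J)]
      have h1 := L.finrank_range_add_finrank_ker
      have h3 := Submodule.finrank_le (LinearMap.range L)
      rw [finrank_pi, Fintype.card_fin] at h3
      rw [finrank_pi, Fintype.card_sum, Fintype.card_fin] at h1
      obtain ⟨f, hf, hf0⟩ := Submodule.exists_mem_ne_zero_of_ne_bot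
        (fun h : LinearMap.ker L = ⊥ => by rw [h, finrank_bot] at h1; omega)
      have hf' := fun i => congrFun (LinearMap.mem_ker.1 hf) i
      exact ⟨f, hf0, by simpa [L, hB'] using hf' 0, by simpa [L, hB'] using hf' 1, by simpa [L, hB'] using hf' 2,
        by simpa [L, hB'] using hf' 3⟩
    obtain ⟨z, ⟨za, zJa, zb, zJb⟩, hz⟩ : ∃ z : V, (W a z = 0 ∧ W a (J *ᵥ z) = 0 ∧ W b z = 0 ∧ W b (J *ᵥ z) = 0) ∧
        W z (J *ᵥ z) ≠ 0 := by
      by_contra hcon
      push Not at hcon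
      obtain ⟨y, hy⟩ := hj.exists_dual hf0
      obtain ⟨y', hy'⟩ : ∃ y', y' = y - (W y (J *ᵥ a) / W a (J *ᵥ a)) • a + (W y a / W a (J *ᵥ a)) • (J *ᵥ a) -
          (W y (J *ᵥ b) / W b (J *ᵥ b)) • b + (W y b / W b (J *ᵥ b)) • (J *ᵥ b) := ⟨_, rfl⟩
      have aJb : W a (J *ᵥ b) = 0 := by rw [hj.beta_symm, hr0]
      have hyp : W a y' = 0 ∧ W a (J *ᵥ y') = 0 ∧ W b y' = 0 ∧ W b (J *ᵥ y') = 0 := by
        rw [hy']
        simp only [Matrix.mulVec_add, Matrix.mulVec_sub, Matrix.mulVec_smul, hj.sq, sympForm_add_right,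
          sesq_sympForm.sub_right, sympForm_smul_right, sympForm_self, hab, ba, hr0, aJb, hj.beta_symm a y,
          hj.beta_symm b y, sympForm_swap y a, sympForm_swap y b]
        refine ⟨?_, ?_, ?_, ?_⟩ <;> field_simp <;> ring
      have h1 := hcon (f + y') ⟨by rw [sympForm_add_right, hfp.1, hyp.1, add_zero],
        by rw [Matrix.mulVec_add, sympForm_add_right, hfp.2.1, hyp.2.1, add_zero],
        by rw [sympForm_add_right, hfp.2.2.1, hyp.2.2.1, add_zero],
        by rw [Matrix.mulVec_add, sympForm_add_right, hfp.2.2.2, hyp.2.2.2, add_zero]⟩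
      have fa0 : W f a = 0 := by rw [sympForm_swap, hfp.1, neg_zero]
      have fb0 : W f b = 0 := by rw [sympForm_swap, hfp.2.2.1, neg_zero]
      rw [hj.quad_add, hcon f hfp, hcon y' hyp, hy'] at h1
      simp only [Matrix.mulVec_add, Matrix.mulVec_sub, Matrix.mulVec_smul, hj.sq, sympForm_add_right,
          sesq_sympForm.sub_right, sympForm_smul_right, hy, hj.beta_symm f a, hj.beta_symm f b,
          fa0, fb0, hfp] at h1
      exact h2 (by linear_combination h1)
    obtain ⟨u, w, huw⟩ := hj.exists_norm hδ (W a (J *ᵥ a) / W z (J *ᵥ z))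
    obtain ⟨e, he⟩ : ∃ e, e = u • z + w • (J *ᵥ z) := ⟨_, rfl⟩
    have hee : W e (J *ᵥ e) = W a (J *ᵥ a) := by rw [he, hj.quad_rot, huw, div_mul_cancel₀ _ hz]
    have ea : W a e = 0 := by rw [he, sympForm_add_right, sympForm_smul_right, sympForm_smul_right, za, zJa]; ring
    have eJa : W a (J *ᵥ e) = 0 := by
      rw [he]; simp only [Matrix.mulVec_add, Matrix.mulVec_smul, hj.sq, sympForm_add_right, sympForm_smul_right, za, zJa]
      ring
    have eb : W b e = 0 := by rw [he, sympForm_add_right, sympForm_smul_right, sympForm_smul_right, zb, zJb]; ring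
    have eJb : W b (J *ᵥ e) = 0 := by
      rw [he]; simp only [Matrix.mulVec_add, Matrix.mulVec_smul, hj.sq, sympForm_add_right, sympForm_smul_right, zb, zJb]
      ring
    obtain ⟨R, hRs, hRJ, hRa, hRf⟩ := hj.exists_rot_map hee.symm
      (by rw [hj.quad_sub, eJa, hee, mul_zero, sub_zero, ← two_mul]; exact mul_ne_zero h2 hA)
    have hRb : (R : Mn) *ᵥ b = b := hRf b (by rw [sesq_sympForm.sub_right, ba, eb, sub_zero])
      (by rw [Matrix.mulVec_sub, sesq_sympForm.sub_right, hr0, eJb, sub_zero])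
    have hquot : ∀ c : F, InN M fun y => (c * W y a) • a + (-c * W y e) • e := fun c => by
      obtain ⟨t₁, ht₁, e₁⟩ := hq c
      obtain ⟨t₂, ht₂, e₂⟩ : InN M fun y => (-c * W y b) • b + (-c * W y e) • e := by
        refine inN_conj (hq (-c)) (memH hRs hRJ) fun y => ?_
        conv_lhs => rw [← hRa, ← hRb, hMi (memH hRs hRJ), hMi (memH hRs hRJ)]
        rw [Matrix.mulVec_add, Matrix.mulVec_smul, Matrix.mulVec_smul, hRa, hRb]
      refine ⟨t₁ * t₂, mul_mem ht₁ ht₂, fun y => ?_⟩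
      rw [Units.val_mul, ← Matrix.mulVec_mulVec, e₂, e₁]
      simp only [sympForm_add_left, sympForm_smul_left, sympForm_self, ba, sympForm_swap e b, eb,
        sympForm_swap e a, ea, neg_zero, mul_zero, add_zero]
      module
    obtain ⟨z, hzz, za, zJa, hbz, ze⟩ : ∃ z, W z (J *ᵥ z) = W a (J *ᵥ a) ∧ W a z = 0 ∧ W a (J *ᵥ z) = 0 ∧
        W b z ≠ 0 ∧ W e (J *ᵥ z) = 0 := by
      have aJb : W a (J *ᵥ b) = 0 := by rw [hj.beta_symm, hr0]
      rcases mul_self_eq_one_iff.1 (hsq1 _ (div_ne_zero hB hA)) with h | h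
      · refine ⟨J *ᵥ b, ?_, aJb, by rw [hj.sq, sympForm_smul_right, hab, mul_zero], hB,
          by rw [hj.sq, sympForm_smul_right, sympForm_swap, eb]; ring⟩
        rw [hj.sq, sympForm_smul_right, hj.anti, hδ3]
        rw [div_eq_one_iff_eq hA] at h
        linear_combination h
      · refine ⟨b + J *ᵥ b, ?_, by rw [sympForm_add_right, hab, aJb, add_zero], ?_, ?_, ?_⟩
        · rw [hj.quad_add, hj.sq, sympForm_smul_right, sympForm_smul_right, sympForm_self, hj.anti, hδ3]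
          rw [div_eq_iff hA] at h
          linear_combination (2 : F) * h - W a (J *ᵥ a) * h3
        · rw [Matrix.mulVec_add, sympForm_add_right, aJb, hj.sq, sympForm_smul_right, hab]; ring
        · rw [sympForm_add_right, sympForm_self, zero_add]; exact hB
        · rw [Matrix.mulVec_add, sympForm_add_right, hj.beta_symm e b, eJb, hj.sq, sympForm_smul_right,
            sympForm_swap, eb]; ring
    obtain ⟨S, hSs, hSJ, hSe, hSf⟩ := hj.exists_rot_map (x := e) (z := z) (hee.trans hzz.symm)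
      (by rw [hj.quad_sub, ze, hee, hzz, mul_zero, sub_zero, ← two_mul]; exact mul_ne_zero h2 hA)
    have hSa : (S : Mn) *ᵥ a = a := hSf a (by rw [sesq_sympForm.sub_right, ea, za, sub_zero])
      (by rw [Matrix.mulVec_sub, sesq_sympForm.sub_right, eJa, zJa, sub_zero])
    refine ⟨a, hA, inN_weight (b' := z) (k := 1) (k' := -1) (x := 1) hab za hbz
      (fun c => (hq c).congr fun y => by rw [mul_one]) (fun c => ?_) one_ne_zero
      (by rw [show (2 : F) * 1 * (1 * 1) + -1 = 1 by ring]; exact one_ne_zero) h4⟩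
    refine inN_conj (hquot (-c)) (memH hSs hSJ) fun y => ?_
    conv_lhs => rw [← hSa, ← hSe, hMi (memH hSs hSJ), hMi (memH hSs hSJ)]
    rw [Matrix.mulVec_add, Matrix.mulVec_smul, Matrix.mulVec_smul, hSa, hSe]
    module
  -- all vectors of the norm of `a₁`
  have orbit : ∀ y, W y (J *ᵥ y) = W a₁ (J *ᵥ a₁) → InN M fun z => (c₀ * W z y) • y := by
    intro y hy
    have key : ∀ y', W y' (J *ᵥ y') = W a₁ (J *ᵥ a₁) → W (a₁ - y') (J *ᵥ (a₁ - y')) ≠ 0 →
        InN M fun z => (c₀ * W z y') • y' := fun y' hy' hne => by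
      obtain ⟨R, hRs, hRJ, hRa, -⟩ := hj.exists_rot_map hy'.symm hne
      refine inN_conj hone (memH hRs hRJ) fun z => ?_
      conv_lhs => rw [← hRa, hMi (memH hRs hRJ)]
      rw [Matrix.mulVec_smul, hRa]
    by_cases hne : W (a₁ - y) (J *ᵥ (a₁ - y)) = 0
    · have hy' : W (-y) (J *ᵥ (-y)) = W a₁ (J *ᵥ a₁) := by rw [← neg_one_smul F y, hj.quad_smul, hy]; ring
      refine (key (-y) hy' fun h => ha₁ ?_).congr fun z => ?_
      · rw [sub_neg_eq_add, hj.quad_add] at h
        rw [hj.quad_sub] at hne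
        exact (mul_eq_zero.1 (show (4 : F) * W a₁ (J *ᵥ a₁) = 0 by linear_combination h + hne - 2 * hy)).resolve_left h4
      · rw [← neg_one_smul F y, sympForm_smul_right]; module
    · exact key y hy hne
  have hall : ∀ p, W p (J *ᵥ p) = 0 → Pt M p := fun p hp c => by
    obtain ⟨Q, hQ, hQB, hnd⟩ := hj.exists_form
    obtain ⟨z, hz, hz0⟩ := exists_anisotropic_ker hnd
      ![QuadraticMap.polarBilin Q p, QuadraticMap.polarBilin Q (J *ᵥ p)]
      (by rw [Fintype.card_sum, Fintype.card_fin]; omega)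
    have zp : W p (J *ᵥ z) = 0 := by
      have := hz 0
      simp only [Matrix.cons_val_zero, QuadraticMap.polarBilin_apply_apply, hQB] at this
      exact (mul_eq_zero.1 this).resolve_left h2
    have zp' : W p z = 0 := by
      have := hz 1
      simp only [Matrix.cons_val_one, Matrix.cons_val_zero, QuadraticMap.polarBilin_apply_apply, hQB] at this
      rw [hj.beta_JJ] at this
      simpa [h2, hδ] using this
    rw [hQ] at hz0
    obtain ⟨u, w, huw⟩ := hj.exists_norm hδ (W a₁ (J *ᵥ a₁) / W z (J *ᵥ z))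
    obtain ⟨e, he⟩ : ∃ e, e = u • z + w • (J *ᵥ z) := ⟨_, rfl⟩
    have hee : W e (J *ᵥ e) = W a₁ (J *ᵥ a₁) := by rw [he, hj.quad_rot, huw, div_mul_cancel₀ _ hz0]
    have ep : W e p = 0 := by
      rw [he, sympForm_add_left, sympForm_smul_left, sympForm_smul_left, hj.anti, hj.beta_symm z p,
        sympForm_swap z p, zp, zp']; ring
    have eJp : W e (J *ᵥ p) = 0 := by
      rw [he, sympForm_add_left, sympForm_smul_left, sympForm_smul_left, hj.anti, hj.sq, sympForm_smul_right,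
        hj.beta_symm z p, sympForm_swap z p, zp, zp']; ring
    have hsh : ∀ s : F, W (e + s • p) (J *ᵥ (e + s • p)) = W a₁ (J *ᵥ a₁) := fun s => by
      rw [hj.quad_add, hj.quad_smul, hp, Matrix.mulVec_smul, sympForm_smul_right, eJp, hee]; ring
    have sq' : ∀ s : F, InN M fun y => (2 * c₀ * (s * s) * W y p) • p := fun s => by
      obtain ⟨t₁, ht₁, e₁⟩ := orbit _ (hsh s)
      obtain ⟨t₂, ht₂, e₂⟩ := orbit _ (hsh (-s))
      obtain ⟨t₃, ht₃, e₃⟩ := orbit _ hee
      refine ⟨t₁ * t₂ * (t₃ * t₃)⁻¹, mul_mem (mul_mem ht₁ ht₂) (inv_mem (mul_mem ht₃ ht₃)), fun y => ?_⟩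
      obtain ⟨y, rfl⟩ : ∃ z, ((t₃ * t₃ : GL (Fin m ⊕ Fin m) F) : Mn) *ᵥ z = y := ⟨_, mulVec_inv_cancel _ y⟩
      rw [Units.val_mul (t₁ * t₂), ← Matrix.mulVec_mulVec, inv_mulVec_cancel, Units.val_mul, Units.val_mul,
        ← Matrix.mulVec_mulVec, ← Matrix.mulVec_mulVec, e₁, e₂, e₃, e₃]
      simp only [sympForm_add_left, sympForm_add_right, sympForm_smul_left, sympForm_smul_right, sympForm_self, ep,
        sympForm_swap p e, mul_zero, add_zero, neg_zero]
      module
    obtain ⟨u, w, huw⟩ := hj.exists_norm (z := (-1 : F)) (neg_ne_zero.2 one_ne_zero) (c / (2 * c₀))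
    obtain ⟨t₁, ht₁, e₁⟩ := sq' u
    obtain ⟨t₂, ht₂, e₂⟩ := sq' w
    refine ⟨t₁ * t₂, mul_mem ht₁ ht₂, fun y => ?_⟩
    rw [Units.val_mul, ← Matrix.mulVec_mulVec, e₂, e₁, fn_dot sesq_sympForm, sympForm_smul_right]
    simp only [sympForm_add_left, sympForm_smul_left, sympForm_self, mul_zero, add_zero]
    have hcc : c = (u * u + w * w) * (2 * c₀) := by
      rw [show u * u + w * w = c / (2 * c₀) by linear_combination huw, div_mul_cancel₀ _ (mul_ne_zero h2 hc₀)]
    rw [hcc]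
    module
  by_cases hx : W x (J *ᵥ x) = 0
  · exact hall x hx
  obtain ⟨v, hv, hxv, hxJv⟩ := hj.exists_iso_split (x := x) fun h => hx (by rw [h, sesq_sympForm.zero_left])
  obtain ⟨k, hk⟩ : ∃ k, k = W x (J *ᵥ x) / (2 * W x (J *ᵥ v)) := ⟨_, rfl⟩
  have hp : W (x - k • v) (J *ᵥ (x - k • v)) = 0 := by
    rw [hj.quad_sub, hj.quad_smul, hv, Matrix.mulVec_smul, sympForm_smul_right, hk]; field_simp; ring
  have hkv : W (k • v) (J *ᵥ (k • v)) = 0 := by rw [hj.quad_smul, hv, mul_zero]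
  have := (hall _ hp).add (hall _ hkv) (by
    rw [sesq_sympForm.sub_left, sympForm_smul_left, sympForm_smul_right, sympForm_smul_right, sympForm_self,
      mul_zero, mul_zero, sub_zero]
    exact mul_ne_zero (hk ▸ div_ne_zero hx (mul_ne_zero h2 hxJv)) hxv)
  rwa [sub_add_cancel] at this

/-- Normalisers of quadratic extensions with Hermitian trace forms are maximal in `Sp`. -/
theorem symplectic_unitary_overfield_maximal [Fintype F] (hm : 3 ≤ m) (h2 : (2 : F) ≠ 0)
    (K : Subalgebra F (Matrix (Fin m ⊕ Fin m) (Fin m ⊕ Fin m) F)) (hK : Geo.IsFieldSubalgebra 2 K)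
    (hac : Geo.IsAdjointClosedFor (sympForm m F) K) (hnsa : ¬ Geo.IsSelfAdjointFor (sympForm m F) K) :
    Geo.IsMaximalIn (spGL m F) (Geo.subalgebraNormalizer K ⊓ spGL m F) := by
  classical
  have hone : (1 : Mn) ≠ 0 := fun h => by
    have := congrFun (congrFun h (Sum.inl ⟨0, by omega⟩)) (Sum.inl ⟨0, by omega⟩)
    simp at this
  obtain ⟨k, hkK, hks⟩ : ∃ k ∈ K, ∀ a : F, k ≠ a • 1 := by
    by_contra hc
    push Not at hc
    have hsub : Subalgebra.toSubmodule K ≤ Submodule.span F {(1 : Mn)} := fun k hk => by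
      obtain ⟨a, rfl⟩ := hc k hk
      exact Submodule.mem_span_singleton.2 ⟨a, rfl⟩
    have h1 := Submodule.finrank_mono hsub
    rw [finrank_span_singleton hone] at h1
    have h3 : finrank F (Subalgebra.toSubmodule K) = 2 := hK.finrank_eq
    omega
  have hind : ∀ a b : F, a • (1 : Mn) + b • k = 0 → a = 0 ∧ b = 0 := fun a b h => by
    by_cases hb : b = 0
    · subst hb
      rw [zero_smul, add_zero, smul_eq_zero] at h
      exact ⟨h.resolve_right hone, rfl⟩
    · refine absurd ?_ (hks (-(b⁻¹ * a)))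
      have h1 := congrArg (fun A : Mn => b⁻¹ • A) h
      simp only [smul_add, smul_smul, inv_mul_cancel₀ hb, one_smul, smul_zero] at h1
      rw [neg_smul]
      exact eq_neg_of_add_eq_zero_right h1
  have hspan : ∀ x ∈ K, ∃ a b : F, x = a • 1 + b • k := fun x hx => by
    have heq : Submodule.span F {(1 : Mn), k} = Subalgebra.toSubmodule K := by
      refine Submodule.eq_of_le_of_finrank_eq (Submodule.span_le.2 ?_) ?_
      · rintro y (rfl | rfl)
        · exact K.one_mem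
        · exact hkK
      · have hli : LinearIndependent F ![(1 : Mn), k] := LinearIndependent.pair_iff.2 hind
        have h1 := finrank_span_eq_card hli
        rw [Matrix.range_cons_cons_empty, Fintype.card_fin] at h1
        exact h1.trans hK.finrank_eq.symm
    have h1 : x ∈ Submodule.span F {(1 : Mn), k} := heq ▸ hx
    obtain ⟨a, b, hab⟩ := Submodule.mem_span_pair.1 h1
    exact ⟨a, b, hab.symm⟩
  obtain ⟨α, γ, hkk⟩ : ∃ α γ : F, k * k = γ • 1 + α • k := by
    obtain ⟨a, b, h⟩ := hspan _ (K.mul_mem hkK hkK)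
    exact ⟨b, a, h⟩
  obtain ⟨J, hJ⟩ : ∃ J, J = k - (α / 2) • (1 : Mn) := ⟨_, rfl⟩
  have hJK : J ∈ K := hJ ▸ K.sub_mem hkK (K.smul_mem K.one_mem _)
  obtain ⟨δ, hδ⟩ : ∃ δ, δ = γ + α * α / 4 := ⟨_, rfl⟩
  have h4 : (4 : F) ≠ 0 := by rw [show (4 : F) = 2 * 2 by norm_num]; exact mul_ne_zero h2 h2
  have hJJ : J * J = δ • (1 : Mn) := by
    rw [hJ, sub_mul, mul_sub, mul_sub, hkk, hδ, smul_mul_assoc, mul_smul_comm, smul_mul_assoc, one_mul, mul_one]
    simp only [mul_smul_comm, mul_one]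
    match_scalars <;> field_simp <;> ring
  have hJs : ∀ a : F, J ≠ a • 1 := fun a h => hks (a + α / 2) (by
    rw [add_smul, ← h, hJ, sub_add_cancel])
  have hnsq : ∀ a : F, a * a ≠ δ := fun a ha => by
    obtain ⟨y, -, hy⟩ := hK.inv (J - a • 1) (K.sub_mem hJK (K.smul_mem K.one_mem _))
      (fun h => hJs a (sub_eq_zero.1 h))
    refine hJs (-a) ?_
    have h1 : (J + a • 1) * (J - a • 1) = 0 := by
      rw [mul_sub, add_mul, add_mul, hJJ, ← ha, smul_mul_assoc, mul_smul_comm, one_mul, mul_one, smul_mul_assoc,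
        one_mul]
      module
    have h3 := congrArg (fun A => A * y) h1
    simp only [mul_assoc, hy, mul_one, zero_mul] at h3
    rw [neg_smul]; exact eq_neg_of_add_eq_zero_left h3
  have hKJ : ∀ x, x ∈ K ↔ ∃ a b : F, x = a • 1 + b • J := fun x => by
    refine ⟨fun hx => ?_, fun ⟨a, b, h⟩ => h ▸ K.add_mem (K.smul_mem K.one_mem _) (K.smul_mem hJK _)⟩
    obtain ⟨a, b, rfl⟩ := hspan x hx
    exact ⟨a + b * (α / 2), b, by rw [hJ]; module⟩
  have hanti : ∀ x y, W (J *ᵥ x) y = -W x (J *ᵥ y) := by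
    obtain ⟨j, hj, hja⟩ := hac J hJK
    obtain ⟨c, e, rfl⟩ := (hKJ j).1 hj
    have hja' : ∀ u v, W (J *ᵥ u) v = c * W u v + e * W u (J *ᵥ v) := fun u v => by
      rw [hja, Matrix.add_mulVec, Matrix.smul_mulVec, Matrix.smul_mulVec, Matrix.one_mulVec, sympForm_add_right,
        sympForm_smul_right, sympForm_smul_right]
    have hself : ∀ u v, W (J *ᵥ (J *ᵥ u)) v = δ * W u v := fun u v => by
      rw [Matrix.mulVec_mulVec, hJJ, Matrix.smul_mulVec, Matrix.one_mulVec, sympForm_smul_left]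
    have key : ∀ u v, (c * c + e * e * δ - δ) * W u v + 2 * c * e * W u (J *ᵥ v) = 0 := fun u v => by
      have h1 := hself u v
      rw [hja', hja', hja', Matrix.mulVec_mulVec, hJJ, Matrix.smul_mulVec, Matrix.one_mulVec,
        sympForm_smul_right] at h1
      linear_combination h1
    have hce : c * e = 0 := by
      by_contra hne
      have h2ce : 2 * c * e ≠ 0 := by rw [mul_assoc]; exact mul_ne_zero h2 hne
      refine hJs (-((c * c + e * e * δ - δ) / (2 * c * e))) (Matrix.ext_iff_mulVec.2 fun v => ?_)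
      rw [Matrix.smul_mulVec, Matrix.one_mulVec]
      refine sub_eq_zero.1 (sesq_sympForm.eq_zero _ fun u => ?_)
      rw [sesq_sympForm.sub_right, sympForm_smul_right]
      have hce0 : c ≠ 0 ∧ e ≠ 0 := mul_ne_zero_iff.1 hne
      have := hce0.1
      have := hce0.2
      field_simp
      linear_combination key u v
    have hcd : c * c + e * e * δ - δ = 0 := by
      by_contra hne
      refine hone (Matrix.ext_iff_mulVec.2 fun v => ?_)
      rw [Matrix.one_mulVec, Matrix.zero_mulVec]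
      refine sesq_sympForm.eq_zero _ fun u => ?_
      have := key u v
      rw [show 2 * c * e = 2 * (c * e) by ring, hce, mul_zero, zero_mul, add_zero, mul_eq_zero] at this
      exact this.resolve_left hne
    rcases mul_eq_zero.1 hce with hc | he
    · subst hc
      rcases mul_self_eq_one_iff.1 (mul_right_cancel₀ (fun h : δ = 0 => hnsq 0 (by rw [h, mul_zero]))
        (show e * e * δ = 1 * δ by linear_combination hcd)) with he | he
      · subst he
        refine absurd (fun x hx u v => ?_) hnsa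
        obtain ⟨a, b, rfl⟩ := (hKJ x).1 hx
        simp only [Matrix.add_mulVec, Matrix.smul_mulVec, Matrix.one_mulVec, sympForm_add_left, sympForm_add_right,
          sympForm_smul_left, sympForm_smul_right, hja']
        ring
      · subst he
        intro x y; rw [hja']; ring
    · subst he
      exact absurd (by linear_combination hcd) (hnsq c)
  exact CJ.maximal ⟨fun x => by rw [Matrix.mulVec_mulVec, hJJ, Matrix.smul_mulVec, Matrix.one_mulVec],
    hnsq, hanti, h2, hm⟩ K hKJ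

end Cfsg.Agent.Classical.MaxTv
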