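import Cfsg.Agent.Lib.Classical.MaxOverfield
import Cfsg.Agent.Lib.Classical.MaxLinearSubspace
import Cfsg.Prelude.Def_GeometricClasses

/-!
Tensor decompositions with two factors: slices, root elements and elements of product shape.
-/

set_option autoImplicit false
set_option linter.unusedSectionVars false

open scoped Kronecker

namespace Cfsg.Agent.Classical.TensorMax

open Matrix Module MaxTv Overfield

variable {F : Type*} [Field F] {α β : Type} [Fintype α] [DecidableEq α] [Fintype β] [DecidableEq β]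

local notation "V" => (α × β → F)
local notation "Mn" => Matrix (α × β) (α × β) F

/-- The pure tensor of two vectors. -/
def tmul (x : α → F) (y : β → F) : α × β → F := fun p => x p.1 * y p.2

/-- Tensors with a fixed second factor. -/
def fac (y : β → F) : (α → F) →ₗ[F] (α × β → F) where
  toFun x := tmul x y
  map_add' a b := funext fun p => add_mul _ _ _
  map_smul' c a := funext fun p => mul_assoc _ _ _

/-- Contraction of the second factor. -/
def slice (φ : β → F) : (α × β → F) →ₗ[F] (α → F) where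
  toFun t i := ∑ j, t (i, j) * φ j
  map_add' s t := funext fun i => by simp [add_mul, Finset.sum_add_distrib]
  map_smul' c t := funext fun i => by simp [Finset.mul_sum, mul_assoc]

/-- Contraction of the first factor. -/
def lslice (ξ : α → F) : (α × β → F) →ₗ[F] (β → F) where
  toFun t j := ∑ i, ξ i * t (i, j)
  map_add' s t := funext fun i => by simp [mul_add, Finset.sum_add_distrib]
  map_smul' c t := funext fun i => by simp [Finset.mul_sum, mul_left_comm]

theorem fac_apply (x : α → F) (y : β → F) : fac y x = tmul x y := rfl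

theorem tmul_add_left (x x' : α → F) (y : β → F) : tmul (x + x') y = tmul x y + tmul x' y := (fac y).map_add _ _

theorem tmul_smul_left (c : F) (x : α → F) (y : β → F) : tmul (c • x) y = c • tmul x y := (fac y).map_smul _ _

theorem tmul_sub_left (x x' : α → F) (y : β → F) : tmul (x - x') y = tmul x y - tmul x' y := (fac y).map_sub _ _

theorem tmul_zero_left (y : β → F) : tmul (0 : α → F) y = 0 := (fac y).map_zero

theorem tmul_add_right (x : α → F) (y y' : β → F) : tmul x (y + y') = tmul x y + tmul x y' :=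
  funext fun _ => mul_add _ _ _

theorem tmul_sub_right (x : α → F) (y y' : β → F) : tmul x (y - y') = tmul x y - tmul x y' :=
  funext fun _ => mul_sub _ _ _

theorem tmul_smul_right (c : F) (x : α → F) (y : β → F) : tmul x (c • y) = c • tmul x y :=
  funext fun _ => mul_left_comm _ _ _

theorem tmul_zero_right (x : α → F) : tmul x (0 : β → F) = 0 := funext fun _ => mul_zero _

theorem slice_tmul (φ y : β → F) (x : α → F) : slice φ (tmul x y) = (φ ⬝ᵥ y) • x := by
  funext i
  show ∑ j, x i * y j * φ j = (φ ⬝ᵥ y) * x i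
  rw [dotProduct, Finset.sum_mul]
  exact Finset.sum_congr rfl fun j _ => by ring

theorem lslice_tmul (ξ x : α → F) (y : β → F) : lslice ξ (tmul x y) = (ξ ⬝ᵥ x) • y := by
  funext j
  show ∑ i, ξ i * (x i * y j) = (ξ ⬝ᵥ x) * y j
  rw [dotProduct, Finset.sum_mul]
  exact Finset.sum_congr rfl fun j _ => by ring

theorem slice_add (φ ψ : β → F) (t : V) : slice (φ + ψ) t = slice φ t + slice ψ t := by
  funext i
  show ∑ j, t (i, j) * (φ j + ψ j) = ∑ j, t (i, j) * φ j + ∑ j, t (i, j) * ψ j
  simp [mul_add, Finset.sum_add_distrib]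

theorem slice_smul (c : F) (φ : β → F) (t : V) : slice (c • φ) t = c • slice φ t := by
  funext i
  show ∑ j, t (i, j) * (c * φ j) = c * ∑ j, t (i, j) * φ j
  simp [Finset.mul_sum, mul_left_comm]

theorem exists_dual {δ : Type} [Fintype δ] [DecidableEq δ] {z : δ → F} (hz : z ≠ 0) :
    ∃ ψ : δ → F, ψ ⬝ᵥ z = 1 := by
  obtain ⟨j, hj⟩ := Function.ne_iff.1 hz
  exact ⟨Pi.single j (z j)⁻¹, by rw [single_dotProduct, inv_mul_cancel₀ hj]⟩

theorem fac_injective {y : β → F} (hy : y ≠ 0) : Function.Injective (fac (α := α) y) := by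
  obtain ⟨ψ, hψ⟩ := exists_dual hy
  intro a b h
  have := congrArg (slice ψ) h
  rwa [fac_apply, fac_apply, slice_tmul, slice_tmul, hψ, one_smul, one_smul] at this

theorem tmul_ne_zero {x : α → F} {y : β → F} (hx : x ≠ 0) (hy : y ≠ 0) : tmul x y ≠ 0 := fun h =>
  hx (fac_injective hy (h.trans (fac (α := α) y).map_zero.symm))

theorem finrank_range_fac {y : β → F} (hy : y ≠ 0) :
    finrank F (LinearMap.range (fac (α := α) y)) = Fintype.card α := by
  rw [LinearMap.finrank_range_of_inj (fac_injective hy), Module.finrank_fintype_fun_eq_card]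

/-- A tensor killed by all functionals killing `z` is a multiple of `z`. -/
theorem eq_tmul_of_slices {t : V} {z : β → F} {ψ : β → F} (hψ : ψ ⬝ᵥ z = 1)
    (h : ∀ φ : β → F, φ ⬝ᵥ z = 0 → slice φ t = 0) : t = tmul (slice ψ t) z := by
  funext ⟨i, j⟩
  have h1 := congrFun (h (Pi.single j 1 - z j • ψ) (by
    rw [sub_dotProduct, smul_dotProduct, hψ, single_dotProduct]; simp)) i
  rw [sub_eq_add_neg, ← neg_smul, slice_add, slice_smul] at h1
  simp only [Pi.add_apply, Pi.smul_apply, smul_eq_mul, Pi.zero_apply] at h1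
  have h2 : slice (Pi.single j 1 : β → F) t i = t (i, j) := by
    show ∑ k, t (i, k) * (Pi.single j (1 : F) : β → F) k = t (i, j)
    rw [Finset.sum_eq_single j] <;> simp +contextual
  rw [h2] at h1
  show t (i, j) = slice ψ t i * z j
  linear_combination h1

theorem sum_tmul_basis (t : V) :
    t = ∑ p : α × β, t p • tmul (Pi.single p.1 (1 : F)) (Pi.single p.2 1) := by
  funext q
  rw [Finset.sum_apply, Finset.sum_eq_single q]
  · simp [tmul]
  · rintro ⟨a, b⟩ - hne
    obtain ⟨a', b'⟩ := q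
    simp only [Pi.smul_apply, smul_eq_mul, tmul]
    by_cases ha : a' = a
    · have : b' ≠ b := fun e => hne (by rw [ha, e])
      rw [Pi.single_eq_of_ne this]; ring
    · rw [Pi.single_eq_of_ne ha]; ring
  · simp

theorem ext_tmul {L L' : V →ₗ[F] V} (h : ∀ x y, L (tmul x y) = L' (tmul x y)) : L = L' :=
  LinearMap.ext fun t => by rw [sum_tmul_basis t]; simp only [map_sum, map_smul, h]

/-- Invertible matrices of product shape. -/
def IsKron (g : GL (α × β) F) : Prop :=
  ∃ (A : GL α F) (B : GL β F), (g : Mn) = (A : Matrix α α F) ⊗ₖ (B : Matrix β β F)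

theorem kronecker_mulVec (A : Matrix α α F) (B : Matrix β β F) (x : α → F) (y : β → F) :
    (A ⊗ₖ B) *ᵥ tmul x y = tmul (A *ᵥ x) (B *ᵥ y) := by
  funext ⟨i, j⟩
  simp only [Matrix.mulVec, dotProduct, tmul, Matrix.kroneckerMap_apply, Fintype.sum_prod_type]
  rw [Finset.sum_mul_sum]
  exact Finset.sum_congr rfl fun k _ => Finset.sum_congr rfl fun l _ => by ring

theorem isKron_of_apply {g : GL (α × β) F} (A : GL α F) (B : GL β F)
    (h : ∀ x y, (g : Mn) *ᵥ tmul x y = tmul ((A : Matrix α α F) *ᵥ x) ((B : Matrix β β F) *ᵥ y)) :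
    IsKron g := by
  refine ⟨A, B, Matrix.ext_iff_mulVec.2 fun t => ?_⟩
  rw [← Matrix.toLin'_apply, ← Matrix.toLin'_apply]
  exact LinearMap.congr_fun (ext_tmul fun x y => by
    rw [Matrix.toLin'_apply, Matrix.toLin'_apply, h, kronecker_mulVec]) t

theorem IsKron.inv {g : GL (α × β) F} (h : IsKron g) : IsKron g⁻¹ := by
  obtain ⟨A, B, h⟩ := h
  refine isKron_of_apply A⁻¹ B⁻¹ fun x y => gl_mulVec_injective g ?_
  show (g : Mn) *ᵥ _ = (g : Mn) *ᵥ _
  rw [mulVec_inv_cancel, h, kronecker_mulVec, mulVec_inv_cancel, mulVec_inv_cancel]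

/-- The line of `y` goes into a single line. -/
def IsLine (g : GL (α × β) F) (y : β → F) : Prop :=
  ∃ z : β → F, ∀ x : α → F, ∃ x', (g : Mn) *ᵥ tmul x y = tmul x' z

theorem IsKron.isLine {g : GL (α × β) F} (h : IsKron g) (y : β → F) : IsLine g y := by
  obtain ⟨A, B, h⟩ := h
  exact ⟨(B : Matrix β β F) *ᵥ y, fun x => ⟨_, by rw [h, kronecker_mulVec]⟩⟩

theorem IsLine.target_ne [Nonempty α] {g : GL (α × β) F} {y z : β → F} (hy : y ≠ 0)
    (h : ∀ x : α → F, ∃ x', (g : Mn) *ᵥ tmul x y = tmul x' z) : z ≠ 0 := by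
  rintro rfl
  obtain ⟨i⟩ := ‹Nonempty α›
  obtain ⟨x', hx'⟩ := h (Pi.single i 1)
  rw [tmul_zero_right] at hx'
  exact tmul_ne_zero (by simp) hy (gl_mulVec_injective g (hx'.trans (Matrix.mulVec_zero _).symm))

/-- All lines to lines: product shape. -/
theorem isKron_of_lines [Fintype F] [Nonempty α] [Nonempty β] {g : GL (α × β) F}
    (h : ∀ y : β → F, y ≠ 0 → IsLine g y) : IsKron g := by
  classical
  obtain ⟨i₀⟩ := ‹Nonempty α›
  obtain ⟨j₀⟩ := ‹Nonempty β›
  set x₀ : α → F := Pi.single i₀ 1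
  set y₀ : β → F := Pi.single j₀ 1
  have hx₀ : x₀ ≠ 0 := by simp [x₀]
  have hy₀ : y₀ ≠ 0 := by simp [y₀]
  obtain ⟨z₀, hz₀⟩ := h y₀ hy₀
  obtain ⟨ψ₀, hψ₀⟩ := exists_dual (IsLine.target_ne hy₀ hz₀)
  let A : (α → F) →ₗ[F] (α → F) := (slice ψ₀).comp ((Matrix.toLin' (g : Mn)).comp (fac y₀))
  have hA : ∀ x, (g : Mn) *ᵥ tmul x y₀ = tmul (A x) z₀ := fun x => by
    obtain ⟨x', hx'⟩ := hz₀ x
    have : A x = x' := by
      show slice ψ₀ (Matrix.toLin' (g : Mn) (tmul x y₀)) = x'
      rw [Matrix.toLin'_apply, hx', slice_tmul, hψ₀, one_smul]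
    rw [this, hx']
  have hAi : Function.Injective A := fun a b e => fac_injective hy₀ (gl_mulVec_injective g (by
    show (g : Mn) *ᵥ tmul a y₀ = (g : Mn) *ᵥ tmul b y₀
    rw [hA, hA, e]))
  obtain ⟨ξ, hξ⟩ := exists_dual (show A x₀ ≠ 0 from fun e => hx₀ (hAi (e.trans A.map_zero.symm)))
  let B : (β → F) →ₗ[F] (β → F) := (lslice ξ).comp ((Matrix.toLin' (g : Mn)).comp
    { toFun := fun y => tmul x₀ y
      map_add' := tmul_add_right x₀
      map_smul' := fun c y => by rw [RingHom.id_apply]; exact tmul_smul_right c x₀ y })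
  have key : ∀ y, ∃ z, ∀ x, (g : Mn) *ᵥ tmul x y = tmul (A x) z := by
    intro y
    by_cases hy : ∃ c : F, y = c • y₀
    · obtain ⟨c, rfl⟩ := hy
      exact ⟨c • z₀, fun x => by rw [tmul_smul_right, Matrix.mulVec_smul, hA, tmul_smul_right]⟩
    push Not at hy
    have hy0 : y ≠ 0 := fun e => hy 0 (by rw [e, zero_smul])
    obtain ⟨z, hz⟩ := h y hy0
    choose G hG using hz
    have hGi : Function.Injective G := fun a b e => fac_injective hy0 (gl_mulVec_injective g (by
      show (g : Mn) *ᵥ tmul a y = (g : Mn) *ᵥ tmul b y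
      rw [hG, hG, e]))
    have hind : ∀ c : F, z₀ ≠ c • z := by
      intro c e
      obtain ⟨x, hx⟩ := (Finite.injective_iff_surjective.1 hGi) (c • A x₀)
      have h1 : tmul x y = tmul x₀ y₀ := gl_mulVec_injective g (by
        show (g : Mn) *ᵥ tmul x y = (g : Mn) *ᵥ tmul x₀ y₀
        rw [hG, hx, hA, e, tmul_smul_left, tmul_smul_right])
      have h2 := congrArg (lslice (Pi.single i₀ (1 : F))) h1
      rw [lslice_tmul, lslice_tmul] at h2
      simp [x₀] at h2
      rcases eq_or_ne (x i₀) 0 with h0 | h0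
      · rw [h0, zero_smul] at h2; exact hy₀ h2.symm
      · exact hy (x i₀)⁻¹ (by rw [← h2, smul_smul, inv_mul_cancel₀ h0, one_smul])
    have hys : y₀ + y ≠ 0 := fun e => hy (-1) (by rw [neg_one_smul]; exact eq_neg_of_add_eq_zero_right e)
    obtain ⟨z', hz'⟩ := h _ hys
    choose G' hG' using hz'
    have hz0 : z ≠ 0 := IsLine.target_ne hy0 fun x => ⟨G x, hG x⟩
    have hzs : z ∉ (F ∙ z₀) := fun hm => by
      obtain ⟨c, hc⟩ := Submodule.mem_span_singleton.1 hm
      have hc0 : c ≠ 0 := fun e => hz0 (by rw [← hc, e, zero_smul])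
      exact hind c⁻¹ (by rw [← hc, smul_smul, inv_mul_cancel₀ hc0, one_smul])
    have hz₀s : z₀ ∉ (F ∙ z) := fun hm => by
      obtain ⟨c, hc⟩ := Submodule.mem_span_singleton.1 hm
      exact hind c hc.symm
    obtain ⟨χ, hχ, hχ0⟩ := exists_dot_one hzs
    obtain ⟨χ', hχ', hχ'0⟩ := exists_dot_one hz₀s
    have hsum : ∀ x, tmul (G' x) z' = tmul (A x) z₀ + tmul (G x) z := fun x => by
      rw [← hG', tmul_add_right, Matrix.mulVec_add, hA, hG]
    have e1 : ∀ x, G x = (χ ⬝ᵥ z') • G' x := fun x => by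
      have := congrArg (slice χ) (hsum x)
      rw [map_add, slice_tmul, slice_tmul, slice_tmul, hχ, hχ0 z₀ (Submodule.mem_span_singleton_self _)] at this
      simpa using this.symm
    have e2 : ∀ x, A x = (χ' ⬝ᵥ z') • G' x := fun x => by
      have := congrArg (slice χ') (hsum x)
      rw [map_add, slice_tmul, slice_tmul, slice_tmul, hχ', hχ'0 z (Submodule.mem_span_singleton_self _)] at this
      simpa using this.symm
    have hc : χ' ⬝ᵥ z' ≠ 0 := fun e => hx₀ (hAi (by rw [e2 x₀, e, zero_smul, map_zero]))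
    refine ⟨((χ ⬝ᵥ z') / (χ' ⬝ᵥ z')) • z, fun x => ?_⟩
    rw [hG, tmul_smul_right, ← tmul_smul_left, e1, e2, smul_smul, div_mul_cancel₀ _ hc]
  have hB : ∀ x y, (g : Mn) *ᵥ tmul x y = tmul (A x) (B y) := fun x y => by
    obtain ⟨z, hz⟩ := key y
    have : B y = z := by
      show lslice ξ (Matrix.toLin' (g : Mn) (tmul x₀ y)) = z
      rw [Matrix.toLin'_apply, hz, lslice_tmul, hξ, one_smul]
    rw [this, hz]
  have hBi : Function.Injective B := by
    refine (injective_iff_map_eq_zero B).2 fun y e => ?_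
    by_contra hy
    have h1 := hB x₀ y
    rw [e, tmul_zero_right] at h1
    exact tmul_ne_zero hx₀ hy (gl_mulVec_injective g (h1.trans (Matrix.mulVec_zero _).symm))
  obtain ⟨A', hA'⟩ := exists_gl_of_injective A hAi
  obtain ⟨B', hB'⟩ := exists_gl_of_injective B hBi
  exact isKron_of_apply A' B' fun x y => by rw [hA', hB', hB]

/-- A product-shaped element close to the identity only moves the second factor. -/
theorem IsKron.root [Nonempty α] (hab : Fintype.card α < Fintype.card β) {f : GL (α × β) F} (hf : IsKron f)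
    (hne : f ≠ 1) {W : Submodule F (α × β → F)} (hW : finrank F W ≤ Fintype.card α)
    (him : ∀ t, (f : Mn) *ᵥ t - t ∈ W) : ∃ v : β → F, v ≠ 0 ∧ W = LinearMap.range (fac v) := by
  classical
  obtain ⟨A, B, h⟩ := hf
  have hsc : ∀ x : α → F, ∃ c : F, (A : Matrix α α F) *ᵥ x = c • x := by
    intro x
    by_contra hcon
    push Not at hcon
    have hx : x ≠ 0 := fun e => hcon 0 (by rw [e, Matrix.mulVec_zero, smul_zero])
    obtain ⟨ξ, hξ1, hξ0⟩ := exists_dot_one (show (A : Matrix α α F) *ᵥ x ∉ (F ∙ x) from fun hm => by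
      obtain ⟨c, hc⟩ := Submodule.mem_span_singleton.1 hm; exact hcon c hc.symm)
    let L : (β → F) →ₗ[F] W :=
      { toFun := fun y => ⟨(f : Mn) *ᵥ tmul x y - tmul x y, him _⟩
        map_add' := fun a b => Subtype.ext (by simp [tmul_add_right, Matrix.mulVec_add]; abel)
        map_smul' := fun c a => Subtype.ext (by simp [tmul_smul_right, Matrix.mulVec_smul, smul_sub]) }
    have hL : Function.Injective L := by
      refine (injective_iff_map_eq_zero L).2 fun y hy => ?_
      have h1 : (f : Mn) *ᵥ tmul x y - tmul x y = 0 := congrArg Subtype.val hy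
      rw [h, kronecker_mulVec] at h1
      have h2 := congrArg (lslice ξ) h1
      rw [map_sub, lslice_tmul, lslice_tmul, hξ1, hξ0 x (Submodule.mem_span_singleton_self _), one_smul,
        zero_smul, sub_zero, map_zero] at h2
      exact gl_mulVec_injective B (h2.trans (Matrix.mulVec_zero _).symm)
    have := LinearMap.finrank_le_finrank_of_injective hL
    rw [Module.finrank_fintype_fun_eq_card] at this
    omega
  choose c hc using hsc
  obtain ⟨i₀⟩ := ‹Nonempty α›
  set x₀ : α → F := Pi.single i₀ 1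
  have hconst : ∀ x : α → F, (A : Matrix α α F) *ᵥ x = c x₀ • x := by
    have hs : ∀ i, c (Pi.single i (1 : F)) = c x₀ := fun i => by
      by_cases hi : i = i₀
      · rw [hi]
      have h1 := hc (Pi.single i (1 : F) + x₀)
      rw [Matrix.mulVec_add, hc, hc] at h1
      have h2 := congrFun h1 i
      have h3 := congrFun h1 i₀
      simp [x₀, Ne.symm hi, hi] at h2 h3
      rw [h2, h3]
    intro x
    conv_lhs => rw [← Finset.univ_sum_single x]
    conv_rhs => rw [← Finset.univ_sum_single x]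
    rw [Matrix.mulVec_sum, Finset.smul_sum]
    refine Finset.sum_congr rfl fun i _ => ?_
    rw [show (Pi.single i (x i) : α → F) = x i • Pi.single i 1 by rw [← Pi.single_smul, smul_eq_mul, mul_one],
      Matrix.mulVec_smul, hc, hs, smul_comm]
  obtain ⟨y, hy⟩ : ∃ y, c x₀ • ((B : Matrix β β F) *ᵥ y) - y ≠ 0 := by
    by_contra hcon
    push Not at hcon
    refine hne (Units.ext (Matrix.ext_iff_mulVec.2 fun t => ?_))
    rw [Units.val_one, ← Matrix.toLin'_apply, Matrix.one_mulVec]
    refine LinearMap.congr_fun (f := Matrix.toLin' (f : Mn)) (g := LinearMap.id) (ext_tmul fun x y => ?_) t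
    rw [Matrix.toLin'_apply, h, kronecker_mulVec, hconst, tmul_smul_left, ← tmul_smul_right,
      sub_eq_zero.1 (hcon y), LinearMap.id_apply]
  refine ⟨_, hy, (Submodule.eq_of_le_of_finrank_le (fun t ht => ?_) ?_).symm⟩
  · obtain ⟨x, hx⟩ := LinearMap.mem_range.1 ht
    rw [← hx, fac_apply, tmul_sub_right, tmul_smul_right, ← tmul_smul_left, ← hconst, ← kronecker_mulVec, ← h]
    exact him _
  · rw [finrank_range_fac hy]; exact hW

/-- The root map. -/
def rootMap (v φ : β → F) (D : (α → F) →ₗ[F] (α → F)) : (α × β → F) →ₗ[F] (α × β → F) :=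
  (fac v).comp (D.comp (slice φ))

theorem rootMap_apply (v φ : β → F) (D : (α → F) →ₗ[F] (α → F)) (t : V) :
    rootMap v φ D t = tmul (D (slice φ t)) v := rfl

theorem rootMap_sq {v φ : β → F} (hv : φ ⬝ᵥ v = 0) (D D' : (α → F) →ₗ[F] (α → F)) (t : V) :
    rootMap v φ D (rootMap v φ D' t) = 0 := by
  rw [rootMap_apply, rootMap_apply, slice_tmul, hv, zero_smul, map_zero, tmul_zero_left]

/-- An overgroup of the stabiliser inside the special linear group. -/
structure Ctx (M : Subgroup (GL (α × β) F)) : Prop where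
  le : M ≤ Geo.specialLinear (α × β) F
  mem : ∀ g, IsKron g → g ∈ Geo.specialLinear (α × β) F → g ∈ M

variable {M : Subgroup (GL (α × β) F)}

theorem Ctx.of_det (hM : Ctx M) {g : GL (α × β) F} (A : GL α F) (B : GL β F)
    (h : ∀ x y, (g : Mn) *ᵥ tmul x y = tmul ((A : Matrix α α F) *ᵥ x) ((B : Matrix β β F) *ᵥ y))
    (hd : (g : Mn).det = 1) : g ∈ M :=
  hM.mem g (isKron_of_apply A B h) (MonoidHom.mem_ker.2 (Units.ext hd))

/-- Pairs of special linear maps act. -/
theorem Ctx.exists_pair (hM : Ctx M) (A : GL α F) (B : GL β F) (hA : (A : Matrix α α F).det = 1)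
    (hB : (B : Matrix β β F).det = 1) : ∃ g ∈ M, ∀ x y,
      (g : Mn) *ᵥ tmul x y = tmul ((A : Matrix α α F) *ᵥ x) ((B : Matrix β β F) *ᵥ y) := by
  have hd : ((A : Matrix α α F) ⊗ₖ (B : Matrix β β F)).det = 1 := by
    rw [Matrix.det_kronecker, hA, hB, one_pow, one_pow, one_mul]
  refine ⟨Matrix.GeneralLinearGroup.mkOfDetNeZero _ (hd ▸ one_ne_zero), ?_, fun x y => kronecker_mulVec _ _ x y⟩
  exact hM.of_det A B (fun x y => kronecker_mulVec _ _ x y) hd

/-- The root elements of the second factor. -/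
theorem Ctx.exists_root (hM : Ctx M) {v φ : β → F} (hv : φ ⬝ᵥ v = 0) : ∃ g ∈ M, IsKron g ∧
    ∀ t, (g : Mn) *ᵥ t = t + rootMap v φ LinearMap.id t := by
  obtain ⟨B, hB⟩ := MaxTv.exists_tv hv
  have hBd : (B : Matrix β β F).det = 1 := congrArg Units.val (MonoidHom.mem_ker.1 (MaxTv.det_tv hB hv))
  obtain ⟨g, hg, hgx⟩ := hM.exists_pair 1 B (by simp) hBd
  refine ⟨g, hg, isKron_of_apply 1 B hgx, fun t => ?_⟩
  rw [← Matrix.toLin'_apply]
  refine LinearMap.congr_fun (f := Matrix.toLin' (g : Mn)) (g := LinearMap.id + rootMap v φ LinearMap.id)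
    (ext_tmul fun x y => ?_) t
  rw [Matrix.toLin'_apply, hgx, LinearMap.add_apply, LinearMap.id_apply, rootMap_apply, slice_tmul,
    LinearMap.id_apply, Units.val_one, Matrix.one_mulVec, hB, tmul_add_right, tmul_smul_right, tmul_smul_left]

theorem Ctx.inRoot (hM : Ctx M) {v φ : β → F} (hv : φ ⬝ᵥ v = 0) :
    In M (rootMap (α := α) v φ LinearMap.id) := by
  obtain ⟨g, hg, -, hgx⟩ := hM.exists_root hv
  exact ⟨g, hg, hgx⟩

end Cfsg.Agent.Classical.TensorMax
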