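import Cfsg.Agent.Lib.Classical.MaxTensorCore

/-!
An algebra of linear maps invariant under all symplectic transvections and not made of scalars contains every
rank-one map.
-/

set_option autoImplicit false
set_option linter.unusedSectionVars false

namespace Cfsg.Agent.Classical.TensorMax

open Matrix Module MaxTv

variable {F : Type*} [Field F] [Fintype F] {α : Type} [Fintype α] [DecidableEq α]

local notation "Ea" => ((α → F) →ₗ[F] (α → F))

/-- The rank-one map. -/
def rk1 (x γ : α → F) : Ea where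
  toFun y := (γ ⬝ᵥ y) • x
  map_add' a b := by rw [dotProduct_add, add_smul]
  map_smul' c a := by rw [dotProduct_smul, smul_eq_mul, mul_smul, RingHom.id_apply]

theorem rk1_apply (x γ y : α → F) : rk1 x γ y = (γ ⬝ᵥ y) • x := rfl

theorem rk1_smul_left (c : F) (x γ : α → F) : rk1 (c • x) γ = c • rk1 x γ :=
  LinearMap.ext fun y => smul_comm _ _ _

theorem rk1_smul_right (c : F) (x γ : α → F) : rk1 x (c • γ) = c • rk1 x γ := LinearMap.ext fun y => by
  rw [rk1_apply, LinearMap.smul_apply, rk1_apply, smul_dotProduct, smul_eq_mul, mul_smul]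

theorem rk1_sub_right (x γ δ : α → F) : rk1 x (γ - δ) = rk1 x γ - rk1 x δ := LinearMap.ext fun y => by
  rw [rk1_apply, LinearMap.sub_apply, rk1_apply, rk1_apply, sub_dotProduct, sub_smul]

/-- An alternating nondegenerate form given by a linear map. -/
structure Alt (j : (α → F) →ₗ[F] (α → F)) : Prop where
  self : ∀ u, j u ⬝ᵥ u = 0
  inj : Function.Injective j

/-- The properties of the set of coefficients. -/
structure Alg (j : (α → F) →ₗ[F] (α → F)) (P : Ea → Prop) : Prop where
  one : P LinearMap.id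
  add : ∀ {A B}, P A → P B → P (A + B)
  smul : ∀ {A} (c : F), P A → P (c • A)
  mul : ∀ {A B}, P A → P B → P (A.comp B)
  conj : ∀ {A} (x : α → F) (t : F), P A →
    P ((LinearMap.id + t • rk1 x (j x)).comp (A.comp (LinearMap.id - t • rk1 x (j x))))

variable {j : (α → F) →ₗ[F] (α → F)}

section
variable (hj : Alt j)
include hj

theorem Alt.skew (u v : α → F) : j v ⬝ᵥ u = -(j u ⬝ᵥ v) := by
  have h := hj.self (u + v)
  rw [map_add, add_dotProduct, dotProduct_add, dotProduct_add, hj.self, hj.self, zero_add, add_zero] at h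
  exact eq_neg_of_add_eq_zero_right h

theorem Alt.surj (χ : α → F) : ∃ u, j u = χ := LinearMap.surjective_of_injective hj.inj χ

/-- A vector with prescribed products. -/
theorem Alt.pick {u : α → F} {S : Submodule F (α → F)} (hu : u ∉ S) :
    ∃ w, j u ⬝ᵥ w = 1 ∧ ∀ s ∈ S, j s ⬝ᵥ w = 0 := by
  obtain ⟨χ, h1, h0⟩ := exists_dot_one hu
  obtain ⟨w, hw⟩ := hj.surj (-χ)
  refine ⟨w, ?_, fun s hs => ?_⟩
  · rw [hj.skew w u, hw, neg_dotProduct, h1, neg_neg]
  · rw [hj.skew w s, hw, neg_dotProduct, h0 s hs, neg_neg]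

variable {P : ((α → F) →ₗ[F] (α → F)) → Prop} (hP : Alg j P)
include hP

theorem Alg.sub {A B : Ea} (h : P A) (h' : P B) : P (A - B) := by
  rw [sub_eq_add_neg, ← neg_one_smul F B]
  exact hP.add h (hP.smul _ h')

/-- The difference of a conjugate and the element. -/
theorem Alg.diff {X : Ea} (hX : P X) (x : α → F) (t : F) :
    P (t • ((rk1 x (j x)).comp X - X.comp (rk1 x (j x))) - (t * t * (j x ⬝ᵥ X x)) • rk1 x (j x)) := by
  convert Alg.sub hj hP (hP.conj x t hX) hX using 1
  refine LinearMap.ext fun v => ?_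
  simp only [LinearMap.sub_apply, LinearMap.smul_apply, LinearMap.comp_apply, LinearMap.add_apply,
    LinearMap.id_apply, rk1_apply, map_sub, map_smul, dotProduct_sub, dotProduct_smul, smul_eq_mul]
  module

/-- Some rank-one map occurs. -/
theorem exists_rk1 (hq : 4 ≤ Fintype.card α ∨ 3 ≤ Fintype.card F) {D : Ea} (hD : P D)
    (hns : ∀ c : F, D ≠ c • LinearMap.id) : ∃ x γ : α → F, x ≠ 0 ∧ γ ≠ 0 ∧ P (rk1 x γ) := by
  classical
  obtain ⟨x, hx⟩ : ∃ x, D x ∉ (F ∙ x) := by
    by_contra hcon
    push Not at hcon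
    choose c hc using fun x => Submodule.mem_span_singleton.1 (hcon x)
    refine hns (c 0) ?_
    rcases isEmpty_or_nonempty α with h | ⟨⟨i₀⟩⟩
    · exact LinearMap.ext fun y => funext fun i => isEmptyElim i
    have hs : ∀ i, c (Pi.single i (1 : F)) = c (Pi.single i₀ 1) := fun i => by
      by_cases hi : i = i₀
      · rw [hi]
      have h1 := hc (Pi.single i (1 : F) + Pi.single i₀ 1)
      rw [map_add, ← hc, ← hc (Pi.single i₀ 1)] at h1
      have h2 := congrFun h1 i
      have h3 := congrFun h1 i₀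
      simp [Ne.symm hi, hi] at h2 h3
      rw [← h2, ← h3]
    refine absurd (LinearMap.ext fun y => ?_) (hns (c (Pi.single i₀ 1)))
    rw [← Finset.univ_sum_single y, map_sum, map_sum]
    refine Finset.sum_congr rfl fun i _ => ?_
    rw [show (Pi.single i (y i) : α → F) = y i • Pi.single i 1 by rw [← Pi.single_smul, smul_eq_mul, mul_one],
      map_smul, ← hc, hs, map_smul, LinearMap.smul_apply, LinearMap.id_apply]
  by_cases hc : ∃ X, P X ∧ ∃ x, j x ⬝ᵥ X x ≠ 0
  · obtain ⟨X, hX, x, hXx⟩ := hc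
    have hx0 : x ≠ 0 := fun e => hXx (by rw [e, map_zero, zero_dotProduct])
    have hjx : j x ≠ 0 := fun e => hXx (by rw [e, zero_dotProduct])
    by_cases h3 : 3 ≤ Fintype.card F
    · obtain ⟨s, hs0, hs1⟩ : ∃ s : F, s ≠ 0 ∧ s ≠ 1 := by
        by_contra hcon
        push Not at hcon
        have : (Finset.univ : Finset F) ⊆ {0, 1} := fun s _ => by
          rcases eq_or_ne s 0 with h | h
          · simp [h]
          · simp [hcon s h]
        have := Finset.card_le_card this
        rw [Finset.card_univ] at this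
        have := Finset.card_le_two (a := (0 : F)) (b := 1)
        omega
      refine ⟨x, j x, hx0, hjx, ?_⟩
      have h1 := hP.smul ((1 - s) * (j x ⬝ᵥ X x))⁻¹
        (Alg.sub hj hP (hP.smul s⁻¹ (Alg.diff hj hP hX x s)) (Alg.diff hj hP hX x 1))
      convert h1 using 1
      refine LinearMap.ext fun y => ?_
      have h1s : (1 - s) ≠ 0 := sub_ne_zero.2 (Ne.symm hs1)
      simp only [LinearMap.sub_apply, LinearMap.smul_apply, LinearMap.comp_apply, rk1_apply, smul_sub, smul_smul]
      match_scalars <;> field_simp <;> ring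
    -- the field with two elements
    have ha4 : 4 ≤ Fintype.card α := hq.resolve_right h3
    have hone : ∀ a : F, a ≠ 0 → a = 1 := fun a ha => by
      by_contra h
      have := Finset.card_le_univ ({0, 1, a} : Finset F)
      rw [Finset.card_insert_of_notMem (by simp [Ne.symm ha]), Finset.card_insert_of_notMem (by simp [Ne.symm h]),
        Finset.card_singleton] at this
      omega
    have htwo : (1 : F) + 1 = 0 := by
      by_contra h
      simpa using hone _ h
    have hneg : ∀ v : α → F, -v = v := fun v => funext fun i => by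
      show -v i = v i
      linear_combination (-v i) * htwo
    have c1 : j x ⬝ᵥ X x = 1 := hone _ hXx
    have cx : j (X x) ⬝ᵥ x = 1 := by rw [hj.skew, c1]; linear_combination -htwo
    set E := (rk1 x (j x)).comp X - X.comp (rk1 x (j x)) - rk1 x (j x) with hE
    have hEP : P E := by
      have := Alg.diff hj hP hX x 1
      rwa [one_smul, one_mul, one_mul, c1, one_smul] at this
    have hEv : ∀ v, E v = (j x ⬝ᵥ X v + j x ⬝ᵥ v) • x + (j x ⬝ᵥ v) • X x := fun v => by
      simp only [hE, LinearMap.sub_apply, LinearMap.comp_apply, rk1_apply, map_smul]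
      simp only [sub_eq_add_neg, hneg]
      module
    by_cases he : j x ⬝ᵥ X (X x) = 1
    · obtain ⟨w, hw0, hwx, hwX⟩ := exists_perp2 (β := α) (by omega) x (X x)
      obtain ⟨w', hw'⟩ := hj.surj w
      have hw'0 : w' ≠ 0 := fun e => hw0 (by rw [← hw', e, map_zero])
      have hw'x : j x ⬝ᵥ w' = 0 := by rw [hj.skew, hw', hwx, neg_zero]
      have hw'X : j (X x) ⬝ᵥ w' = 0 := by rw [hj.skew, hw', hwX, neg_zero]
      have hw'm : w' ∉ Submodule.span F ({x, X x} : Set (α → F)) := fun hm => hw'0 (by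
        obtain ⟨s, r, rfl⟩ := Submodule.mem_span_pair.1 hm
        rw [dotProduct_add, dotProduct_smul, dotProduct_smul, hj.self, c1, smul_eq_mul, smul_eq_mul, mul_zero,
          zero_add, mul_one] at hw'x
        rw [dotProduct_add, dotProduct_smul, dotProduct_smul, hj.self, cx, smul_eq_mul, smul_eq_mul, mul_zero,
          add_zero, mul_one] at hw'X
        rw [hw'x, hw'X, zero_smul, zero_smul, add_zero])
      by_cases hw : ∃ t, j x ⬝ᵥ t = 0 ∧ j (X x) ⬝ᵥ t = 0 ∧ j x ⬝ᵥ X t ≠ 0
      · obtain ⟨t, htx, htX, ht⟩ := hw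
        have hEt : E t = x := by rw [hEv, htx, add_zero, zero_smul, add_zero, hone _ ht, one_smul]
        refine ⟨x, j t, hx0, fun e => ht ?_, ?_⟩
        · rw [hj.inj (e.trans j.map_zero.symm), map_zero, dotProduct_zero]
        have h0t : j t ⬝ᵥ x = 0 := by rw [hj.skew, htx, neg_zero]
        have h1t : j t ⬝ᵥ X x = 0 := by rw [hj.skew, htX, neg_zero]
        convert Alg.diff hj hP hEP t 1 using 1
        refine LinearMap.ext fun v => ?_
        simp only [LinearMap.sub_apply, LinearMap.smul_apply, LinearMap.comp_apply, rk1_apply, map_smul, hEt,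
          hEv v, dotProduct_add, dotProduct_smul, h0t, h1t, smul_eq_mul, mul_zero, add_zero, zero_smul, zero_sub,
          sub_zero, one_smul, hneg]
      push Not at hw
      have hperpX : ∀ t, j x ⬝ᵥ t = 0 → j (X x) ⬝ᵥ t = 0 → j x ⬝ᵥ X t = 0 := hw
      have hEw : E w' = 0 := by rw [hEv, hperpX w' hw'x hw'X, hw'x, add_zero, zero_smul, zero_smul, add_zero]
      set u := X x + w' with hu
      have hEX : E (X x) = X x := by
        rw [hEv, c1, he, htwo, zero_smul, zero_add, one_smul]
      have hEu : E u = X x := by rw [hu, map_add, hEX, hEw, add_zero]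
      have hux : j u ⬝ᵥ x = 1 := by
        rw [hu, map_add, add_dotProduct, cx, hj.skew x w', hw'x, neg_zero, add_zero]
      have huX : j u ⬝ᵥ X x = 0 := by
        rw [hu, map_add, add_dotProduct, hj.self, hj.skew (X x) w', hw'X, neg_zero, add_zero]
      have hdot : ∀ v, (fun i => j x ⬝ᵥ X (Pi.single i 1)) ⬝ᵥ v = j x ⬝ᵥ X v := fun v => by
        conv_rhs => rw [← Finset.univ_sum_single v]
        rw [map_sum, dotProduct_sum]
        refine Finset.sum_congr rfl fun i _ => ?_
        rw [show (Pi.single i (v i) : α → F) = v i • Pi.single i 1 by rw [← Pi.single_smul, smul_eq_mul, mul_one],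
          map_smul, dotProduct_smul, smul_eq_mul, mul_comm]
      refine ⟨X x, (fun i => j x ⬝ᵥ X (Pi.single i 1)) + j x + j u, fun e => hXx (by rw [e, dotProduct_zero]),
        fun e => ?_, ?_⟩
      · -- the functional is non-zero on a vector orthogonal to the plane
        obtain ⟨t, ht1, ht0⟩ := hj.pick hw'm
        have htx : j x ⬝ᵥ t = 0 := ht0 _ (Submodule.subset_span (Set.mem_insert _ _))
        have htX : j (X x) ⬝ᵥ t = 0 := ht0 _ (Submodule.subset_span (Set.mem_insert_of_mem _ rfl))
        have hut : j u ⬝ᵥ t = 1 := by rw [hu, map_add, add_dotProduct, htX, ht1, zero_add]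
        have h0 : j x ⬝ᵥ X t = 0 := hperpX t htx htX
        have := congrArg (· ⬝ᵥ t) e
        simp only [add_dotProduct, hdot, h0, htx, hut, zero_add, zero_dotProduct] at this
        exact one_ne_zero this
      · convert hP.mul hEP (Alg.diff hj hP hEP u 1) using 1
        refine LinearMap.ext fun v => ?_
        simp only [LinearMap.sub_apply, LinearMap.smul_apply, LinearMap.comp_apply, rk1_apply, map_sub, map_smul,
          hEu, hEX, huX, add_dotProduct, mul_zero, zero_smul, sub_zero, one_smul, map_zero]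
        rw [hEv v, dotProduct_add, dotProduct_smul, dotProduct_smul, hux, huX]
        simp only [smul_eq_mul, mul_one, mul_zero, add_zero, sub_eq_add_neg, hneg]
        rw [← add_smul]
        congr 1
        rw [hdot]
    · -- the square differs by a transvection
      refine ⟨x, j x, hx0, hjx, ?_⟩
      have he0 : j x ⬝ᵥ X (X x) = 0 := by_contra fun h => he (hone _ h)
      convert Alg.sub hj hP (hP.mul hEP hEP) hEP using 1
      refine LinearMap.ext fun v => ?_
      simp only [LinearMap.sub_apply, LinearMap.comp_apply, rk1_apply, hEv, map_add, map_smul, dotProduct_add,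
        dotProduct_smul, hj.self, c1, he0, smul_eq_mul, mul_zero, mul_one, add_zero, zero_add]
      simp only [sub_eq_add_neg, hneg]
      have h2 : (2 : F) = 0 := by linear_combination htwo
      have h4 : (4 : F) = 0 := by linear_combination 2 * htwo
      match_scalars <;> (ring_nf; simp [h2, h4, show (3 : F) = 1 from by linear_combination h2])
  -- all coefficients are self-adjoint, so they commute
  push Not at hc
  exfalso
  have hsa : ∀ X, P X → ∀ u v, j u ⬝ᵥ X v = j (X u) ⬝ᵥ v := fun X hX u v => by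
    have h := hc X hX (u + v)
    rw [map_add, map_add, add_dotProduct, dotProduct_add, dotProduct_add, hc X hX u, hc X hX v, zero_add,
      add_zero] at h
    rw [hj.skew v (X u), eq_neg_of_add_eq_zero_left h]
  have hcomm : ∀ X Y, P X → P Y → ∀ v, X (Y v) = Y (X v) := fun X Y hX hY v => by
    refine sub_eq_zero.1 (hj.inj ?_)
    rw [map_zero]
    refine dotProduct_eq_zero_iff.1 fun w => ?_
    rw [map_sub, sub_dotProduct, sub_eq_zero]
    have h1 := hsa _ (hP.mul hX hY) v w
    simp only [LinearMap.comp_apply] at h1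
    rw [← h1, hsa X hX, hsa Y hY]
  have hX2 : ∀ x v, (j x ⬝ᵥ D (D v)) • x + (j x ⬝ᵥ v) • D (D x) = (2 : F) • (j x ⬝ᵥ D v) • D x := fun x v => by
    have h := hcomm D _ hD (Alg.diff hj hP hD x 1) v
    rw [hc D hD x] at h
    simp only [LinearMap.sub_apply, LinearMap.smul_apply, LinearMap.comp_apply, rk1_apply, map_sub, map_smul,
      mul_zero, zero_smul, sub_zero, one_smul] at h
    linear_combination (norm := module) -h
  have hxD : x ∉ (F ∙ D x) := fun hm => by
    obtain ⟨r, hr⟩ := Submodule.mem_span_singleton.1 hm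
    rcases eq_or_ne r 0 with rfl | hr0
    · rw [zero_smul] at hr; exact hx (by rw [← hr, map_zero]; exact zero_mem _)
    · exact hx (Submodule.mem_span_singleton.2 ⟨r⁻¹, by
        conv_lhs => rw [← hr]
        rw [smul_smul, inv_mul_cancel₀ hr0, one_smul]⟩)
  obtain ⟨v, hv1, hv0⟩ := hj.pick hx
  have hvx : j x ⬝ᵥ v = 0 := hv0 x (Submodule.mem_span_singleton_self x)
  have htwo : (2 : F) = 0 := by
    by_contra h2
    have h := hX2 x v
    rw [hsa D hD x v, hv1, one_smul, hvx, zero_smul, add_zero] at h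
    exact hx (Submodule.mem_span_singleton.2 ⟨(2 : F)⁻¹ * (j x ⬝ᵥ D (D v)), by
      rw [mul_smul, h, smul_smul, inv_mul_cancel₀ h2, one_smul]⟩)
  obtain ⟨t, ht1, -⟩ := hj.pick hxD
  have hd : ∃ d : F, D (D x) = d • x := ⟨-(j x ⬝ᵥ D (D t)), by
    have h := hX2 x t
    rw [ht1, one_smul, htwo, zero_smul] at h
    rw [neg_smul]; exact eq_neg_of_add_eq_zero_right h⟩
  obtain ⟨d, hd⟩ := hd
  have hneg : ∀ w : α → F, -w = w := fun w => funext fun i => by
    show -w i = w i
    linear_combination (-w i) * htwo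
  have hs1 : ∀ a b, j a ⬝ᵥ b = j b ⬝ᵥ a := fun a b => by
    rw [hj.skew b a]; linear_combination (-(j b ⬝ᵥ a)) * htwo
  have hE : ∀ y, ∀ w, ((1 : F) • ((rk1 y (j y)).comp D - D.comp (rk1 y (j y))) -
      (1 * 1 * (j y ⬝ᵥ D y)) • rk1 y (j y)) w = (j (D y) ⬝ᵥ w) • y + (j y ⬝ᵥ w) • D y := fun y w => by
    rw [hc D hD y]
    simp only [LinearMap.sub_apply, LinearMap.smul_apply, LinearMap.comp_apply, rk1_apply, map_smul, mul_zero,
      zero_smul, sub_zero, one_smul, hsa D hD y w]
    simp only [sub_eq_add_neg, hneg]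
  have e2 : j (D x) ⬝ᵥ D v = 0 := by rw [hsa D hD, hd, map_smul, smul_dotProduct, hvx, smul_zero]
  have e3 : j x ⬝ᵥ D v = 1 := by rw [hsa D hD, hv1]
  have hvm : v ∉ Submodule.span F ({D v, x, D x} : Set (α → F)) := fun hm => by
    obtain ⟨a, z, hz, hvz⟩ := Submodule.mem_span_insert.1 hm
    obtain ⟨b, c, rfl⟩ := Submodule.mem_span_pair.1 hz
    have h1 : j x ⬝ᵥ v = a := by
      rw [hvz, dotProduct_add, dotProduct_smul, dotProduct_add, dotProduct_smul, dotProduct_smul, e3, hj.self,
        hc D hD x, smul_zero, smul_zero, add_zero, add_zero, smul_eq_mul, mul_one]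
    rw [hvx] at h1
    have h2 : j (D x) ⬝ᵥ v = 0 := by
      rw [hvz, ← h1, zero_smul, zero_add, dotProduct_add, dotProduct_smul, dotProduct_smul, hj.self, hs1,
        hc D hD x, smul_zero, smul_zero, add_zero]
    exact one_ne_zero (hv1.symm.trans h2)
  obtain ⟨u, hu1, hu0⟩ := hj.pick hvm
  have u2 : j (D v) ⬝ᵥ u = 0 := hu0 _ (Submodule.subset_span (by simp))
  have u3 : j x ⬝ᵥ u = 0 := hu0 _ (Submodule.subset_span (by simp))
  have u4 : j (D x) ⬝ᵥ u = 0 := hu0 _ (Submodule.subset_span (by simp))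
  have h := hcomm _ _ (Alg.diff hj hP hD x 1) (Alg.diff hj hP hD v 1) u
  rw [hE x u, u3, u4, zero_smul, zero_smul, add_zero, map_zero, hE v u, u2, hu1, zero_smul, zero_add,
    map_smul, hE x (D v), e2, e3, zero_smul, zero_add, one_smul, one_smul] at h
  exact hx (by rw [h]; exact zero_mem _)

theorem transvection_of_rk1 {x γ : α → F} (hx : x ≠ 0) (hγ : γ ≠ 0) (h : P (rk1 x γ)) : P (rk1 x (j x)) := by
  by_cases hγj : γ ∈ (F ∙ j x)
  · obtain ⟨c, rfl⟩ := Submodule.mem_span_singleton.1 hγj
    have hc : c ≠ 0 := fun e => hγ (by rw [e, zero_smul])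
    have := hP.smul c⁻¹ h
    rwa [← rk1_smul_right, smul_smul, inv_mul_cancel₀ hc, one_smul] at this
  have key : ∀ z, j x ⬝ᵥ z = 0 → γ ⬝ᵥ z ≠ 0 → P (rk1 x (j z)) := fun z hzx hz => by
    have hxz : j z ⬝ᵥ x = 0 := by rw [hj.skew, hzx, neg_zero]
    convert hP.smul (-(γ ⬝ᵥ z)⁻¹) (Alg.diff hj hP h z 1) using 1
    refine LinearMap.ext fun v => ?_
    simp only [LinearMap.sub_apply, LinearMap.smul_apply, LinearMap.comp_apply, rk1_apply, map_smul,
      dotProduct_smul, hxz, smul_eq_mul, mul_zero, zero_smul, zero_sub, sub_zero, one_mul, smul_zero]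
    rw [one_smul, neg_smul, smul_neg, neg_neg, smul_smul, smul_smul]
    conv_lhs => rw [← one_smul F x]
    rw [smul_smul]
    congr 1
    field_simp
  by_cases hgx : γ ⬝ᵥ x ≠ 0
  · exact key x (hj.self x) hgx
  push Not at hgx
  obtain ⟨z, hz1, hz0⟩ := exists_dot_one hγj
  have hzx : j x ⬝ᵥ z = 0 := by rw [dotProduct_comm]; exact hz0 _ (Submodule.mem_span_singleton_self _)
  rw [dotProduct_comm] at hz1
  have h1 := key z hzx (by rw [hz1]; exact one_ne_zero)
  have h2 := key (x + z) (by rw [dotProduct_add, hj.self, hzx, add_zero])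
    (by rw [dotProduct_add, hgx, hz1, zero_add]; exact one_ne_zero)
  have := Alg.sub hj hP h2 h1
  rwa [← rk1_sub_right, map_add, add_sub_cancel_right] at this

theorem transvection_move {x y : α → F} (hxy : j x ⬝ᵥ y ≠ 0) (h : P (rk1 x (j x))) : P (rk1 y (j y)) := by
  have hyx : j y ⬝ᵥ x ≠ 0 := by rw [hj.skew]; exact neg_ne_zero.2 hxy
  convert hP.conj (y - x) ((j y ⬝ᵥ x)⁻¹) h using 1
  refine LinearMap.ext fun v => ?_
  simp only [LinearMap.comp_apply, LinearMap.add_apply, LinearMap.sub_apply, LinearMap.id_apply,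
    LinearMap.smul_apply, rk1_apply, map_smul, map_sub, sub_dotProduct, dotProduct_sub, dotProduct_smul,
    smul_eq_mul, hj.self, hj.skew y x, sub_zero, zero_sub]
  match_scalars <;> field_simp <;> ring

/-- Every rank-one map occurs. -/
theorem rk1_all (hq : 4 ≤ Fintype.card α ∨ 3 ≤ Fintype.card F) {D : Ea} (hD : P D)
    (hns : ∀ c : F, D ≠ c • LinearMap.id) (y δ : α → F) : P (rk1 y δ) := by
  obtain ⟨x, γ, hx, hγ, hxγ⟩ := exists_rk1 hj hP hq hD hns
  have hT : ∀ y, y ≠ 0 → P (rk1 y (j y)) := by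
    intro y hy
    by_cases hxy : j x ⬝ᵥ y ≠ 0
    · exact transvection_move hj hP hxy (transvection_of_rk1 hj hP hx hγ hxγ)
    have hne : ∀ u : α → F, u ≠ 0 → ∃ w, j u ⬝ᵥ w ≠ 0 := fun u hu => by
      obtain ⟨w, hw, -⟩ := hj.pick (S := ⊥) (fun h => hu ((Submodule.mem_bot F).1 h))
      exact ⟨w, by rw [hw]; exact one_ne_zero⟩
    obtain ⟨a, ha⟩ := hne x hx
    obtain ⟨b, hb⟩ := hne y hy
    obtain ⟨w, -, h1, h2⟩ := exists_both (S := (⊤ : Submodule F (α → F)))
      ({ toFun := fun v => j x ⬝ᵥ v, map_add' := fun a b => dotProduct_add _ a b,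
         map_smul' := fun c a => dotProduct_smul c _ a } : (α → F) →ₗ[F] F)
      ({ toFun := fun v => j y ⬝ᵥ v, map_add' := fun a b => dotProduct_add _ a b,
         map_smul' := fun c a => dotProduct_smul c _ a } : (α → F) →ₗ[F] F)
      ⟨a, Submodule.mem_top, ha⟩ ⟨b, Submodule.mem_top, hb⟩
    refine transvection_move hj hP (x := w) ?_ (transvection_move hj hP h1 (transvection_of_rk1 hj hP hx hγ hxγ))
    rw [hj.skew]; exact neg_ne_zero.2 h2
  rcases eq_or_ne y 0 with rfl | hy
  · convert hP.smul (0 : F) hP.one using 1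
    exact LinearMap.ext fun v => by rw [rk1_apply, smul_zero, zero_smul, LinearMap.zero_apply]
  obtain ⟨z, rfl⟩ := hj.surj δ
  have key : ∀ z, j y ⬝ᵥ z ≠ 0 → P (rk1 y (j z)) := fun z hz => by
    have hz0 : z ≠ 0 := fun e => hz (by rw [e, dotProduct_zero])
    convert hP.smul (j y ⬝ᵥ z)⁻¹ (hP.mul (hT y hy) (hT z hz0)) using 1
    refine LinearMap.ext fun v => ?_
    simp only [LinearMap.smul_apply, LinearMap.comp_apply, rk1_apply, map_smul, smul_smul]
    congr 1
    field_simp
  by_cases hz : j y ⬝ᵥ z ≠ 0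
  · exact key z hz
  push Not at hz
  obtain ⟨w, hw, -⟩ := hj.pick (S := ⊥) (fun h => hy ((Submodule.mem_bot F).1 h))
  have h1 := key w (by rw [hw]; exact one_ne_zero)
  have h2 := key (z + w) (by rw [dotProduct_add, hz, hw, zero_add]; exact one_ne_zero)
  have := Alg.sub hj hP h2 h1
  rwa [← rk1_sub_right, map_add, add_sub_cancel_right] at this

end

end Cfsg.Agent.Classical.TensorMax
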