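import Cfsg.Agent.Lib.Classical.MaxTensor

/-!
An element outside the stabiliser of a tensor decomposition leads to a non-scalar root element.
-/

set_option autoImplicit false
set_option linter.unusedSectionVars false

namespace Cfsg.Agent.Classical.TensorMax

open Matrix Module MaxTv Overfield
open scoped Kronecker

variable {F : Type*} [Field F] [Fintype F] {α β : Type} [Fintype α] [DecidableEq α] [Fintype β] [DecidableEq β]
variable [Nonempty α] {M : Subgroup (GL (α × β) F)}

local notation "V" => (α × β → F)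
local notation "Mn" => Matrix (α × β) (α × β) F

/-- A root element with a non-scalar coefficient lies in the group. -/
def Rich (M : Subgroup (GL (α × β) F)) : Prop :=
  ∃ (v φ : β → F) (D : (α → F) →ₗ[F] (α → F)), v ≠ 0 ∧ φ ≠ 0 ∧ φ ⬝ᵥ v = 0 ∧
    (∀ c : F, D ≠ c • LinearMap.id) ∧ In M (rootMap v φ D)

theorem exists_perp2 (hb : 3 ≤ Fintype.card β) (u v : β → F) :
    ∃ φ : β → F, φ ≠ 0 ∧ φ ⬝ᵥ u = 0 ∧ φ ⬝ᵥ v = 0 := by
  by_contra hcon
  push Not at hcon
  let L : (β → F) →ₗ[F] F × F :=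
    { toFun := fun φ => (φ ⬝ᵥ u, φ ⬝ᵥ v)
      map_add' := fun a b => by simp [add_dotProduct]
      map_smul' := fun c a => by simp }
  have hL : Function.Injective L := (injective_iff_map_eq_zero L).2 fun φ hφ => by
    by_contra h
    exact hcon φ h (congrArg Prod.fst hφ) (congrArg Prod.snd hφ)
  have := LinearMap.finrank_le_finrank_of_injective hL
  rw [Module.finrank_fintype_fun_eq_card, Module.finrank_prod, finrank_self] at this
  omega

theorem finrank_range_image (g : GL (α × β) F) {w : β → F} (hw : w ≠ 0) :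
    finrank F (LinearMap.range ((Matrix.toLin' (g : Mn)).comp (fac (α := α) w))) = Fintype.card α := by
  rw [LinearMap.finrank_range_of_inj, Module.finrank_fintype_fun_eq_card]
  intro a b h
  exact fac_injective hw (gl_mulVec_injective g (by
    simpa [Matrix.toLin'_apply, fac_apply] using h))

theorem isLine_of_range {g : GL (α × β) F} {w v : β → F}
    (h : LinearMap.range ((Matrix.toLin' (g : Mn)).comp (fac (α := α) w)) = LinearMap.range (fac v)) :
    IsLine g w := by
  refine ⟨v, fun x => ?_⟩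
  have h1 : (g : Mn) *ᵥ tmul x w ∈ LinearMap.range ((Matrix.toLin' (g : Mn)).comp (fac (α := α) w)) :=
    ⟨x, by simp [Matrix.toLin'_apply, fac_apply]⟩
  rw [h] at h1
  obtain ⟨x', hx'⟩ := h1
  exact ⟨x', hx'.symm⟩

section
variable (hM : Ctx M) (hab : Fintype.card α < Fintype.card β) (hb : 3 ≤ Fintype.card β)
include hM hab hb

/-- The conjugate of a root element is of product shape only if it moves a line to a line. -/
theorem isLine_of_root_kron {g : GL (α × β) F} {w φ : β → F} (hw : w ≠ 0) (hφ : φ ≠ 0) (hφw : φ ⬝ᵥ w = 0)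
    {S : GL (α × β) F} (hS : ∀ t, (S : Mn) *ᵥ t = t + rootMap w φ LinearMap.id t)
    (hf : IsKron (g * S * g⁻¹)) : IsLine g w := by
  classical
  have hne : g * S * g⁻¹ ≠ 1 := by
    intro e
    have hS1 : S = 1 := by
      have := congrArg (fun z => g⁻¹ * z * g) e
      simpa [mul_assoc] using this
    obtain ⟨j, hj⟩ := Function.ne_iff.1 hφ
    obtain ⟨i⟩ := ‹Nonempty α›
    have h1 := hS (tmul (Pi.single i 1) (Pi.single j 1))
    rw [hS1, Units.val_one, Matrix.one_mulVec, rootMap_apply, slice_tmul, dotProduct_single, mul_one,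
      LinearMap.id_apply, left_eq_add] at h1
    exact tmul_ne_zero (smul_ne_zero hj (by simp)) hw h1
  obtain ⟨v, -, hv⟩ := hf.root hab hne (finrank_range_image g hw).le fun t => ⟨slice φ
    (((g⁻¹ : GL (α × β) F) : Mn) *ᵥ t), by
      rw [Units.val_mul, Units.val_mul, ← Matrix.mulVec_mulVec, ← Matrix.mulVec_mulVec, hS, Matrix.mulVec_add,
        mulVec_inv_cancel, add_sub_cancel_left]
      rfl⟩
  exact isLine_of_range hv

/-- An element fixing a line of tensors pointwise. -/
theorem rich_of_fix {f : GL (α × β) F} (hf : f ∈ M) (hfk : ¬ IsKron f) {z : β → F} (hz : z ≠ 0)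
    (hfix : ∀ x : α → F, (f : Mn) *ᵥ tmul x z = tmul x z) : Rich M := by
  classical
  by_contra hR
  obtain ⟨ψ, hψ⟩ := exists_dual hz
  set fi := ((f⁻¹ : GL (α × β) F) : Mn) with hfi
  have hfix' : ∀ x : α → F, fi *ᵥ tmul x z = tmul x z := fun x => by
    conv_lhs => rw [← hfix x, hfi, inv_mulVec_cancel]
  -- a map into the line killing it gives scalar coefficients
  have extract : ∀ T : V →ₗ[F] (α → F), (∀ x, T (tmul x z) = 0) → In M ((fac z).comp T) →
      ∀ b : β → F, ∃ μ : F, ∀ x, T (tmul x b) = μ • x := by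
    intro T hT hin b
    by_contra hcon
    push Not at hcon
    obtain ⟨φ, hφ0, hφz, hφb⟩ := exists_perp2 hb z b
    obtain ⟨B, hB, -, hBx⟩ := hM.exists_root (v := b) (φ := φ) hφb
    have hBi : ∀ t, ((B⁻¹ : GL (α × β) F) : Mn) *ᵥ t = t - rootMap b φ LinearMap.id t := fun t =>
      gl_mulVec_injective B (by
        show (B : Mn) *ᵥ _ = (B : Mn) *ᵥ _
        rw [mulVec_inv_cancel, hBx, map_sub, rootMap_sq hφb, sub_zero, sub_add_cancel])
    have hc := (hin.conj hB).sub hin
      (fun t => by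
        rw [conjL_apply]
        have h0 : ((fac z).comp T) (((B⁻¹ : GL (α × β) F) : Mn) *ᵥ ((fac z).comp T t)) = 0 := by
          rw [hBi]
          simp only [LinearMap.comp_apply, fac_apply, rootMap_apply, LinearMap.id_apply, slice_tmul, hφz,
            zero_smul, tmul_zero_left, sub_zero, hT]
        rw [h0, Matrix.mulVec_zero])
      (fun t => by simp only [LinearMap.comp_apply, fac_apply, hT, tmul_zero_left])
    refine hR ⟨z, φ, -(T.comp (fac b)), hz, hφ0, hφz, fun c hc' => ?_, ?_⟩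
    · obtain ⟨x, hx⟩ := hcon (-c)
      refine hx ?_
      have := LinearMap.congr_fun hc' x
      rw [LinearMap.neg_apply, LinearMap.comp_apply, fac_apply, LinearMap.smul_apply, LinearMap.id_apply,
        neg_eq_iff_eq_neg] at this
      rw [this, neg_smul]
    · convert hc using 1
      refine LinearMap.ext fun t => ?_
      rw [rootMap_apply, LinearMap.sub_apply, conjL_apply, hBi]
      simp only [LinearMap.comp_apply, fac_apply, rootMap_apply, LinearMap.id_apply, map_sub,
        LinearMap.neg_apply]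
      simp only [hBx, rootMap_apply, LinearMap.id_apply, map_sub, slice_tmul, hφz, zero_smul, sub_zero,
        tmul_zero_left, add_zero, sub_sub_cancel_left]
      rw [← fac_apply (-_), map_neg, fac_apply]
  -- modulo the line the element acts on the second factor only
  have hstep : ∀ φ : β → F, φ ⬝ᵥ z = 0 → ∀ b : β → F, ∃ μ : F, ∀ x,
      slice φ (fi *ᵥ tmul x b) = μ • x := by
    intro φ hφ b
    obtain ⟨S, hS, -, hSx⟩ := hM.exists_root (α := α) (v := z) (φ := φ) hφ
    have hin0 : In M (conjL f (rootMap z φ LinearMap.id)) := In.conj ⟨S, hS, hSx⟩ hf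
    have hin := hin0.sub (hM.inRoot hφ)
      (fun t => by
        rw [rootMap_apply, conjL_apply, hfix', rootMap_apply, slice_tmul, hφ, zero_smul, map_zero,
          tmul_zero_left, Matrix.mulVec_zero])
      (fun t => rootMap_sq hφ _ _ _)
    obtain ⟨μ, hμ⟩ := extract ((slice φ).comp (Matrix.toLin' fi) - slice φ)
      (fun x => by rw [LinearMap.sub_apply, LinearMap.comp_apply, Matrix.toLin'_apply, hfix', sub_self])
      (by
        convert hin using 1
        refine LinearMap.ext fun t => ?_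
        simp only [LinearMap.comp_apply, LinearMap.sub_apply, conjL_apply, rootMap_apply, LinearMap.id_apply,
          fac_apply, Matrix.toLin'_apply, hfix, tmul_sub_left]
        rfl) b
    refine ⟨μ + φ ⬝ᵥ b, fun x => ?_⟩
    have := hμ x
    rw [LinearMap.sub_apply, LinearMap.comp_apply, Matrix.toLin'_apply, slice_tmul, sub_eq_iff_eq_add] at this
    rw [this, add_smul]
  obtain ⟨i₀⟩ := ‹Nonempty α›
  set x₀ : α → F := Pi.single i₀ 1
  set ξ : α → F := Pi.single i₀ 1
  have hξ : ξ ⬝ᵥ x₀ = 1 := by simp [ξ, x₀]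
  let G : (β → F) →ₗ[F] (β → F) := (lslice ξ).comp ((Matrix.toLin' fi).comp
    { toFun := fun y => tmul x₀ y
      map_add' := tmul_add_right x₀
      map_smul' := fun c y => by rw [RingHom.id_apply]; exact tmul_smul_right c x₀ y })
  have hsl : ∀ (φ : β → F) (t : V), φ ⬝ᵥ lslice ξ t = ξ ⬝ᵥ slice φ t := fun φ t => by
    show ∑ j, φ j * ∑ i, ξ i * t (i, j) = ∑ i, ξ i * ∑ j, t (i, j) * φ j
    simp only [Finset.mul_sum]
    rw [Finset.sum_comm]
    exact Finset.sum_congr rfl fun i _ => Finset.sum_congr rfl fun j _ => by ring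
  have hdec : ∀ x y, fi *ᵥ tmul x y = tmul x (G y) +
      tmul (slice ψ (fi *ᵥ tmul x y - tmul x (G y))) z := fun x y => by
    rw [← eq_tmul_of_slices hψ (t := fi *ᵥ tmul x y - tmul x (G y)), add_sub_cancel]
    intro φ hφ
    obtain ⟨μ, hμ⟩ := hstep φ hφ y
    have hG : φ ⬝ᵥ G y = μ := by
      show φ ⬝ᵥ lslice ξ (Matrix.toLin' fi (tmul x₀ y)) = μ
      rw [Matrix.toLin'_apply, hsl, hμ, dotProduct_smul, hξ, smul_eq_mul, mul_one]
    rw [map_sub, hμ, slice_tmul, hG, sub_self]
  have hGz : G z = z := by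
    show lslice ξ (Matrix.toLin' fi (tmul x₀ z)) = z
    rw [Matrix.toLin'_apply, hfix', lslice_tmul, hξ, one_smul]
  have hGi : Function.Injective G := by
    refine (injective_iff_map_eq_zero G).2 fun y hy => ?_
    have h1 := hdec x₀ y
    rw [hy, tmul_zero_right, zero_add, sub_zero] at h1
    have h2 := congrArg (fun t => (f : Mn) *ᵥ t) h1
    simp only [hfi, mulVec_inv_cancel, hfix] at h2
    have h3 := congrArg (lslice ξ) h2
    rw [lslice_tmul, lslice_tmul, hξ, one_smul] at h3
    rw [h3, map_smul, hGz] at hy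
    rw [h3, hy]
  obtain ⟨Gg, hGg⟩ := exists_gl_of_injective G hGi
  set Km : GL (α × β) F := Matrix.GeneralLinearGroup.mkOfDetNeZero
    ((1 : Matrix α α F) ⊗ₖ (Gg : Matrix β β F)) (by
      rw [Matrix.det_kronecker, Matrix.det_one, one_pow, one_mul]
      exact pow_ne_zero _ (Matrix.GeneralLinearGroup.det Gg).ne_zero) with hKm
  have hKx : ∀ x y, (Km : Mn) *ᵥ tmul x y = tmul x (G y) := fun x y => by
    show ((1 : Matrix α α F) ⊗ₖ (Gg : Matrix β β F)) *ᵥ tmul x y = _
    rw [kronecker_mulVec, Matrix.one_mulVec, hGg]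
  -- the quotient of the two is unipotent
  set T : V →ₗ[F] (α → F) := (slice ψ).comp (Matrix.toLin' (fi * ((Km⁻¹ : GL (α × β) F) : Mn)) - LinearMap.id)
    with hT
  have hT0 : ∀ t, fi *ᵥ (((Km⁻¹ : GL (α × β) F) : Mn) *ᵥ t) = t + tmul (T t) z := fun t => by
    refine LinearMap.congr_fun (f := Matrix.toLin' (fi * ((Km⁻¹ : GL (α × β) F) : Mn)))
      (g := LinearMap.id + (fac z).comp T) (ext_tmul fun x y => ?_) t |> fun h => by
        simpa [Matrix.mulVec_mulVec, fac_apply] using h
    obtain ⟨y', rfl⟩ : ∃ y', y = G y' :=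
      (Finite.injective_iff_surjective.1 hGi y).imp fun _ h => h.symm
    have hk : ((Km⁻¹ : GL (α × β) F) : Mn) *ᵥ tmul x (G y') = tmul x y' := by
      rw [← hKx, inv_mulVec_cancel]
    simp only [LinearMap.add_apply, LinearMap.id_apply, LinearMap.comp_apply, fac_apply, hT, LinearMap.sub_apply,
      Matrix.toLin'_apply, ← Matrix.mulVec_mulVec, hk]
    exact hdec x y'
  have hTz : ∀ x, T (tmul x z) = 0 := fun x => by
    have hk : ((Km⁻¹ : GL (α × β) F) : Mn) *ᵥ tmul x z = tmul x z := by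
      conv_lhs => rw [← hGz, ← hKx, inv_mulVec_cancel]
    rw [hT, LinearMap.comp_apply, LinearMap.sub_apply, LinearMap.id_apply, Matrix.toLin'_apply,
      ← Matrix.mulVec_mulVec, hk, hfix', sub_self, map_zero]
  have hsq : ∀ t, (fac z).comp T ((fac z).comp T t) = 0 := fun t => by
    show tmul (T (tmul (T t) z)) z = 0
    rw [hTz, tmul_zero_left]
  have hdet : ((f⁻¹ * Km⁻¹ : GL (α × β) F) : Mn).det = 1 := by
    have h1 : ((f⁻¹ * Km⁻¹ : GL (α × β) F) : Mn) - 1 = LinearMap.toMatrix' ((fac z).comp T) := by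
      refine Matrix.ext_iff_mulVec.2 fun t => ?_
      rw [Matrix.sub_mulVec, LinearMap.toMatrix'_mulVec, Units.val_mul, ← Matrix.mulVec_mulVec, ← hfi, hT0,
        Matrix.one_mulVec, add_sub_cancel_left]
      rfl
    rw [show ((f⁻¹ * Km⁻¹ : GL (α × β) F) : Mn) = 1 + ((LinearMap.toMatrix' (fac z) : Matrix (α × β) α F) *
        (LinearMap.toMatrix' T : Matrix α (α × β) F)) by
      rw [← LinearMap.toMatrix'_comp, ← h1]; abel, Matrix.det_one_add_mul_comm, ← LinearMap.toMatrix'_comp,
      show T.comp (fac z) = 0 from LinearMap.ext hTz, map_zero, add_zero, Matrix.det_one]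
  have hKM : Km ∈ M := hM.mem _ (isKron_of_apply 1 Gg fun x y => by
    rw [hKx, Units.val_one, Matrix.one_mulVec, hGg]) (MonoidHom.mem_ker.2 (Units.ext (by
      rw [Matrix.GeneralLinearGroup.val_det_apply]
      rw [Units.val_mul, Matrix.det_mul] at hdet
      have hfd : ((f⁻¹ : GL (α × β) F) : Mn).det = 1 :=
        congrArg Units.val (MonoidHom.mem_ker.1 (hM.le (inv_mem hf)))
      rw [hfd, one_mul] at hdet
      have h3 : (Km : Mn).det * ((Km⁻¹ : GL (α × β) F) : Mn).det = 1 := by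
        rw [← Matrix.det_mul, ← Units.val_mul, mul_inv_cancel, Units.val_one, Matrix.det_one]
      rw [hdet, mul_one] at h3
      exact h3)))
  have hin : In M ((fac z).comp T) := ⟨f⁻¹ * Km⁻¹, mul_mem (inv_mem hf) (inv_mem hKM), fun t => by
    rw [Units.val_mul, ← Matrix.mulVec_mulVec, ← hfi, hT0]; rfl⟩
  choose μ hμ using fun b => extract T hTz hin b
  refine hfk ?_
  have hk : IsKron (f⁻¹ * Km⁻¹) := by
    let C : (β → F) →ₗ[F] (β → F) :=
      { toFun := fun b => b + μ b • z
        map_add' := fun a b => by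
          have : μ (a + b) = μ a + μ b := smul_left_injective F (show x₀ ≠ 0 by simp [x₀]) (by
            show μ (a + b) • x₀ = (μ a + μ b) • x₀
            rw [add_smul, ← hμ, ← hμ, ← hμ, tmul_add_right, map_add])
          rw [this]; module
        map_smul' := fun c a => by
          have : μ (c • a) = c * μ a := smul_left_injective F (show x₀ ≠ 0 by simp [x₀]) (by
            show μ (c • a) • x₀ = (c * μ a) • x₀
            rw [mul_smul, ← hμ, ← hμ, tmul_smul_right, map_smul])
          rw [this, RingHom.id_apply]; module }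
    have hμz : μ z = 0 := by
      have := hμ z x₀
      rw [hTz, eq_comm, smul_eq_zero] at this
      exact this.resolve_right (by simp [x₀])
    have hCi : Function.Injective C := by
      refine (injective_iff_map_eq_zero C).2 fun b hb' => ?_
      have hb1 : b = -(μ b • z) := eq_neg_of_add_eq_zero_left hb'
      have : μ b = 0 := by
        have h1 := hμ b x₀
        rw [hb1, ← neg_smul, tmul_smul_right, map_smul, hTz, smul_zero, neg_smul, ← hb1, eq_comm,
          smul_eq_zero] at h1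
        exact h1.resolve_right (by simp [x₀])
      rw [hb1, this, zero_smul, neg_zero]
    obtain ⟨Cg, hCg⟩ := exists_gl_of_injective C hCi
    refine isKron_of_apply 1 Cg fun x y => ?_
    rw [Units.val_mul, ← Matrix.mulVec_mulVec, ← hfi, hT0, Units.val_one, Matrix.one_mulVec, hCg, hμ]
    show _ = tmul x (y + μ y • z)
    rw [tmul_add_right, tmul_smul_right, tmul_smul_left]
  obtain ⟨A, B, hAB⟩ := hk.inv
  refine isKron_of_apply A ((Gg⁻¹ : GL β F) * B) fun x y => ?_
  have h1 : (f : Mn) = ((Km⁻¹ : GL (α × β) F) : Mn) * ((f⁻¹ * Km⁻¹)⁻¹ : GL (α × β) F) := by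
    rw [← Units.val_mul]; congr 1; group
  rw [h1, ← Matrix.mulVec_mulVec, hAB, kronecker_mulVec]
  refine gl_mulVec_injective Km ?_
  show (Km : Mn) *ᵥ _ = (Km : Mn) *ᵥ _
  rw [mulVec_inv_cancel, hKx, ← hGg, Units.val_mul, ← Matrix.mulVec_mulVec, mulVec_inv_cancel]

/-- A line moved to a line by an element outside gives a root element. -/
theorem rich_of_line [Nonempty β] {g : GL (α × β) F} (hg : g ∈ M) (hgk : ¬ IsKron g) {y : β → F} (hy : y ≠ 0)
    (hl : IsLine g y) : Rich M := by
  classical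
  by_contra hR
  obtain ⟨z, hz⟩ := hl
  have hz0 : z ≠ 0 := IsLine.target_ne hy hz
  choose G hG using hz
  have hGs : Function.Surjective G := by
    refine Finite.injective_iff_surjective.1 fun a b e => fac_injective hy (gl_mulVec_injective g ?_)
    show (g : Mn) *ᵥ tmul a y = (g : Mn) *ᵥ tmul b y
    rw [hG, hG, e]
  refine hgk (isKron_of_lines fun v hv => ?_)
  obtain ⟨φ, hφ, hφy, hφv⟩ := exists_perp2 hb y v
  obtain ⟨S, hS, -, hSx⟩ := hM.exists_root (α := α) (v := v) (φ := φ) hφv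
  refine isLine_of_root_kron hM hab hb hv hφ hφv hSx ?_
  by_contra hk
  refine hR (rich_of_fix hM hab hb (mul_mem (mul_mem hg hS) (inv_mem hg)) hk hz0 fun x => ?_)
  obtain ⟨x', rfl⟩ := hGs x
  rw [Units.val_mul, Units.val_mul, ← Matrix.mulVec_mulVec, ← Matrix.mulVec_mulVec, ← hG, inv_mulVec_cancel,
    hSx, rootMap_apply, slice_tmul, hφy, zero_smul, map_zero, tmul_zero_left, add_zero]

/-- Some moved line avoids a functional: then there is a root element. -/
theorem rich_of_proper [Nonempty β] (hNL : ∀ g ∈ M, ¬ IsKron g → ∀ y : β → F, y ≠ 0 → ¬ IsLine g y)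
    {g : GL (α × β) F} (hg : g ∈ M) (hgk : ¬ IsKron g) {w φ : β → F} (hw : w ≠ 0) (hφ : φ ≠ 0)
    (h0 : ∀ x : α → F, slice φ ((g : Mn) *ᵥ tmul x w) = 0) : Rich M := by
  classical
  by_contra hR
  set gi := ((g⁻¹ : GL (α × β) F) : Mn) with hgi
  have hkill : ∀ v ψ : β → F, φ ⬝ᵥ v = 0 → ψ ⬝ᵥ w = 0 → ∀ x : α → F, slice ψ (gi *ᵥ tmul x v) = 0 := by
    intro v ψ hv hψ
    set N := conjL g (rootMap w ψ LinearMap.id)
    have hN : In M N := (hM.inRoot hψ).conj hg
    have hNx : ∀ t, N t = (g : Mn) *ᵥ tmul (slice ψ (gi *ᵥ t)) w := fun t => by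
      show conjL g _ t = _
      rw [conjL_apply, rootMap_apply, LinearMap.id_apply]
    have hN2 : ∀ t, N (N t) = 0 := fun t => by
      rw [hNx t, hNx, hgi, inv_mulVec_cancel, slice_tmul, hψ, zero_smul, tmul_zero_left, Matrix.mulVec_zero]
    set S := rootMap (α := α) v φ LinearMap.id with hSd
    have hS : In M S := hM.inRoot hv
    have hSN : ∀ t, S (N t) = 0 := fun t => by
      rw [hNx, hSd, rootMap_apply, LinearMap.id_apply, h0, tmul_zero_left]
    set Z : (α → F) →ₗ[F] V := N.comp (fac v) with hZ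
    have hZφ : ∀ x, slice φ (Z x) = 0 := fun x => by
      rw [hZ, LinearMap.comp_apply, hNx, h0]
    clear_value Z
    have hin : In M (Z.comp (slice φ)) := by
      have h1 := hS.sandwich hN hN2
      have h2 := h1.sub hS (fun t => by
        simp only [LinearMap.comp_apply, LinearMap.add_apply, LinearMap.sub_apply, LinearMap.id_apply, map_sub,
          hSN, sub_zero]
        rw [show S (S t) = 0 from rootMap_sq hv _ _ _, map_zero, add_zero])
        (fun t => rootMap_sq hv _ _ _)
      convert h2 using 1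
      refine LinearMap.ext fun t => ?_
      simp only [LinearMap.comp_apply, LinearMap.add_apply, LinearMap.sub_apply, LinearMap.id_apply, map_sub,
        hSN, sub_zero, add_sub_cancel_left]
      rw [hZ, LinearMap.comp_apply, hSd, rootMap_apply, LinearMap.id_apply, fac_apply]
    have hscal : ∀ χ : β → F, ∃ μ : F, ∀ x, slice χ (Z x) = μ • x := by
      intro χ
      by_contra hcon
      push Not at hcon
      obtain ⟨b, hb0, hbφ, hbχ⟩ := exists_perp2 hb φ χ
      rw [dotProduct_comm] at hbφ hbχ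
      obtain ⟨B, hB, -, hBx⟩ := hM.exists_root (α := α) (v := b) (φ := χ) hbχ
      have hBi : ∀ t, ((B⁻¹ : GL (α × β) F) : Mn) *ᵥ t = t - rootMap b χ LinearMap.id t := fun t =>
        gl_mulVec_injective B (by
          show (B : Mn) *ᵥ _ = (B : Mn) *ᵥ _
          rw [mulVec_inv_cancel, hBx, map_sub, rootMap_sq hbχ, sub_zero, sub_add_cancel])
      have hBφ : ∀ t, slice φ (((B⁻¹ : GL (α × β) F) : Mn) *ᵥ t) = slice φ t := fun t => by
        rw [hBi, map_sub, rootMap_apply, slice_tmul, hbφ, zero_smul, sub_zero]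
      have h3 := (hin.conj hB).sub hin
        (fun t => by
          rw [conjL_apply, LinearMap.comp_apply, hBφ, LinearMap.comp_apply, hZφ, map_zero, Matrix.mulVec_zero])
        (fun t => by rw [LinearMap.comp_apply, LinearMap.comp_apply, hZφ, map_zero])
      refine hR ⟨b, φ, (slice χ).comp Z, hb0, hφ, hbφ, fun c hc => ?_, ?_⟩
      · obtain ⟨x, hx⟩ := hcon c
        exact hx (LinearMap.congr_fun hc x)
      · convert h3 using 1
        refine LinearMap.ext fun t => ?_
        rw [LinearMap.sub_apply, conjL_apply, LinearMap.comp_apply Z, hBφ, hBx, rootMap_apply, rootMap_apply,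
          LinearMap.id_apply, LinearMap.comp_apply, LinearMap.comp_apply, add_sub_cancel_left]
    choose μ hμ using fun j : β => hscal (Pi.single j 1)
    have hZx : ∀ x, Z x = tmul x μ := fun x => by
      funext ⟨i, j⟩
      have h1 := congrFun (hμ j x) i
      show Z x (i, j) = x i * μ j
      rw [mul_comm, show μ j * x i = (μ j • x) i from rfl, ← h1]
      show Z x (i, j) = ∑ k, Z x (i, k) * (Pi.single j (1 : F) : β → F) k
      rw [Finset.sum_eq_single j] <;> simp +contextual
    intro x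
    by_contra hne
    have hμ0 : μ ≠ 0 := fun e => by
      have h1 := hZx x
      rw [e, tmul_zero_right, hZ, LinearMap.comp_apply, fac_apply, hNx] at h1
      exact tmul_ne_zero hne hw (gl_mulVec_injective g (h1.trans (Matrix.mulVec_zero _).symm))
    refine hNL g hg hgk w hw (isLine_of_range (v := μ) (Submodule.eq_of_le_of_finrank_le ?_ ?_).symm)
    · rintro t ⟨x', rfl⟩
      refine ⟨slice ψ (gi *ᵥ tmul x' v), ?_⟩
      rw [LinearMap.comp_apply, Matrix.toLin'_apply, fac_apply, fac_apply, ← hNx, ← hZx, hZ, LinearMap.comp_apply, fac_apply]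
    · rw [finrank_range_image g hw, finrank_range_fac hμ0]
  obtain ⟨v, hv0, hv, -⟩ := exists_perp2 hb φ φ
  rw [dotProduct_comm] at hv
  obtain ⟨ψ₁, hψ₁⟩ := exists_dual hw
  refine hNL g⁻¹ (inv_mem hg) (fun h => hgk (by simpa using h.inv)) v hv0 ⟨w, fun x =>
    ⟨slice ψ₁ (gi *ᵥ tmul x v), eq_tmul_of_slices hψ₁ fun χ hχ => hkill v χ hv hχ x⟩⟩

/-- An element outside gives a root element. -/
theorem rich_of_not_kron [Nonempty β] {g₀ : GL (α × β) F} (hg₀ : g₀ ∈ M) (hgk₀ : ¬ IsKron g₀) : Rich M := by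
  classical
  by_contra hR
  have hNL : ∀ g ∈ M, ¬ IsKron g → ∀ y : β → F, y ≠ 0 → ¬ IsLine g y :=
    fun g hg hgk y hy hl => hR (rich_of_line hM hab hb hg hgk hy hl)
  let fixSp : GL (α × β) F → (β → F) → Submodule F (α → F) := fun g w =>
    LinearMap.ker ((Matrix.toLin' (g : Mn)).comp (fac w) - fac w)
  have hfixSp : ∀ g w x, x ∈ fixSp g w ↔ (g : Mn) *ᵥ tmul x w = tmul x w := fun g w x => by
    simp only [fixSp, LinearMap.mem_ker, LinearMap.sub_apply, LinearMap.comp_apply, Matrix.toLin'_apply,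
      fac_apply, sub_eq_zero]
  let T := {p : GL (α × β) F × (β → F) // p.1 ∈ M ∧ ¬ IsKron p.1 ∧ p.2 ≠ 0 ∧ fixSp p.1 p.2 ≠ ⊥}
  obtain ⟨i₀⟩ := ‹Nonempty α›
  obtain ⟨j₀⟩ := ‹Nonempty β›
  set x₁ : α → F := Pi.single i₀ 1
  set w₁ : β → F := Pi.single j₀ 1
  have hx₁ : x₁ ≠ 0 := by simp [x₁]
  have hw₁ : w₁ ≠ 0 := by simp [w₁]
  obtain ⟨ψ, hψ0, hψw, -⟩ := exists_perp2 hb w₁ w₁
  set N := conjL g₀ (rootMap w₁ ψ LinearMap.id) with hNd
  obtain ⟨S, hS, -, hSx⟩ := hM.exists_root (α := α) (v := w₁) (φ := ψ) hψw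
  set m := g₀ * S * g₀⁻¹ with hm
  have hmM : m ∈ M := mul_mem (mul_mem hg₀ hS) (inv_mem hg₀)
  have hmk : ¬ IsKron m := fun h =>
    hNL g₀ hg₀ hgk₀ w₁ hw₁ (isLine_of_root_kron hM hab hb hw₁ hψ0 hψw hSx h)
  have hmx : ∀ t, (m : Mn) *ᵥ t = t + (g₀ : Mn) *ᵥ tmul (slice ψ (((g₀⁻¹ : GL _ F) : Mn) *ᵥ t)) w₁ :=
    fun t => by
      rw [hm, Units.val_mul, Units.val_mul, ← Matrix.mulVec_mulVec, ← Matrix.mulVec_mulVec, hSx,
        Matrix.mulVec_add, mulVec_inv_cancel, rootMap_apply, LinearMap.id_apply]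
  haveI : Nonempty T := by
    let L : (β → F) →ₗ[F] (α → F) := (slice ψ).comp ((Matrix.toLin' ((g₀⁻¹ : GL _ F) : Mn)).comp
      { toFun := fun y => tmul x₁ y
        map_add' := tmul_add_right x₁
        map_smul' := fun c y => by rw [RingHom.id_apply]; exact tmul_smul_right c x₁ y })
    obtain ⟨v, hv0, hv⟩ : ∃ v, v ≠ 0 ∧ L v = 0 := by
      by_contra hcon
      push Not at hcon
      have := LinearMap.finrank_le_finrank_of_injective (f := L) ((injective_iff_map_eq_zero L).2 fun y hy => by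
        by_contra hy0; exact hcon y hy0 hy)
      rw [Module.finrank_fintype_fun_eq_card, Module.finrank_fintype_fun_eq_card] at this
      omega
    refine ⟨⟨(m, v), hmM, hmk, hv0, fun e => hx₁ ?_⟩⟩
    rw [← Submodule.mem_bot F, ← e, hfixSp, hmx]
    have : slice ψ (((g₀⁻¹ : GL _ F) : Mn) *ᵥ tmul x₁ v) = 0 := hv
    rw [this, tmul_zero_left, Matrix.mulVec_zero, add_zero]
  haveI : Finite T := Subtype.finite
  obtain ⟨⟨⟨g, w⟩, hg, hgk, hw, hbot⟩, hmax⟩ :=
    Finite.exists_max fun p : T => finrank F (fixSp p.1.1 p.1.2)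
  obtain ⟨x₀, hx₀⟩ : ∃ x₀, x₀ ∉ fixSp g w := by
    by_contra hcon
    push Not at hcon
    exact hNL g hg hgk w hw ⟨w, fun x => ⟨x, (hfixSp g w x).1 (hcon x)⟩⟩
  -- a kernel of the root element contains the moved line
  have hA : ∀ (g : GL (α × β) F), g ∈ M → ¬ IsKron g →
      (∀ p : T, finrank F (fixSp p.1.1 p.1.2) ≤ finrank F (fixSp g w)) → fixSp g w ≠ ⊥ → x₀ ∉ fixSp g w →
      ∀ φ : β → F, φ ≠ 0 → φ ⬝ᵥ w = 0 → slice φ ((g : Mn) *ᵥ tmul x₀ w) = 0 → Rich M := by
    intro g hg hgk hmax hbot hx₀ φ hφ hφw hφx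
    refine rich_of_proper hM hab hb hNL hg hgk hw hφ fun x => ?_
    by_contra hne
    have hinv : ∀ b : β → F, φ ⬝ᵥ b = 0 → tmul (slice φ ((g : Mn) *ᵥ tmul x w)) b ∈
        LinearMap.range ((Matrix.toLin' (g : Mn)).comp (fac (α := α) w)) := by
      intro b hb'
      obtain ⟨h, hh, -, hhx⟩ := hM.exists_root (α := α) (v := b) (φ := φ) hb'
      have hhw : ∀ x, (h : Mn) *ᵥ tmul x w = tmul x w := fun x => by
        rw [hhx, rootMap_apply, slice_tmul, hφw, zero_smul, map_zero, tmul_zero_left, add_zero]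
      have hhwi : ∀ x, ((h⁻¹ : GL _ F) : Mn) *ᵥ tmul x w = tmul x w := fun x => by
        conv_lhs => rw [← hhw x, inv_mulVec_cancel]
      set g' := g⁻¹ * h * g * h⁻¹ with hg'
      have hg'x : ∀ x, (g' : Mn) *ᵥ tmul x w =
          ((g⁻¹ : GL _ F) : Mn) *ᵥ ((h : Mn) *ᵥ ((g : Mn) *ᵥ tmul x w)) := fun x => by
        rw [hg', Units.val_mul, Units.val_mul, Units.val_mul, ← Matrix.mulVec_mulVec, ← Matrix.mulVec_mulVec,
          ← Matrix.mulVec_mulVec, hhwi]
      have hg'M : g' ∈ M := mul_mem (mul_mem (mul_mem (inv_mem hg) hh) hg) (inv_mem hh)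
      have hx₀' : (g' : Mn) *ᵥ tmul x₀ w = tmul x₀ w := by
        rw [hg'x, hhx, rootMap_apply, hφx, map_zero, tmul_zero_left, add_zero, inv_mulVec_cancel]
      have hk : IsKron g' := by
        by_contra hk
        have hle : fixSp g w < fixSp g' w := by
          refine lt_of_le_of_ne (fun y hy => ?_) fun e => hx₀ (e ▸ (hfixSp g' w x₀).2 hx₀')
          rw [hfixSp] at hy ⊢
          rw [hg'x, hy, hhw, ← hy, inv_mulVec_cancel, hy]
        have h1 : finrank F (fixSp g' w) ≤ finrank F (fixSp g w) :=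
          hmax ⟨(g', w), hg'M, hk, hw, fun e => not_lt_bot (e ▸ hle)⟩
        exact absurd (Submodule.finrank_lt_finrank_of_lt hle) (by omega)
      obtain ⟨z, hz⟩ := hk.isLine w
      obtain ⟨x', hx'⟩ := hz x₀
      have hx00 : x₀ ≠ 0 := fun e => hx₀ (e ▸ zero_mem _)
      obtain ⟨c, hc⟩ : ∃ c : F, z = c • w := by
        obtain ⟨ξ, hξ⟩ := exists_dual hx00
        have h2 := congrArg (lslice ξ) (hx₀'.symm.trans hx')
        rw [lslice_tmul, lslice_tmul, hξ, one_smul] at h2
        refine ⟨(ξ ⬝ᵥ x')⁻¹, ?_⟩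
        rw [h2, smul_smul, inv_mul_cancel₀, one_smul]
        intro e
        rw [e, zero_smul] at h2
        exact hw h2
      obtain ⟨y, hy⟩ := hz x
      refine ⟨c • y - x, ?_⟩
      rw [hg'x] at hy
      have h3 := congrArg (fun t => (g : Mn) *ᵥ t) hy
      simp only [mulVec_inv_cancel, hc, tmul_smul_right, ← tmul_smul_left, hhx, rootMap_apply,
        LinearMap.id_apply] at h3
      rw [LinearMap.comp_apply, map_sub, map_sub, Matrix.toLin'_apply, Matrix.toLin'_apply, fac_apply, fac_apply,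
        ← h3, add_sub_cancel_left]
    set y₀ := slice φ ((g : Mn) *ᵥ tmul x w) with hy₀
    let K : Submodule F (β → F) :=
      { carrier := {b | φ ⬝ᵥ b = 0}
        add_mem' := fun {a b} ha hb' => by simp only [Set.mem_setOf_eq] at ha hb' ⊢; rw [dotProduct_add, ha, hb', add_zero]
        zero_mem' := dotProduct_zero φ
        smul_mem' := fun c a ha => by simp only [Set.mem_setOf_eq] at ha ⊢; rw [dotProduct_smul, ha, smul_zero] }
    have hKdim : Fintype.card α ≤ finrank F K := by
      let L : (β → F) →ₗ[F] F :=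
        { toFun := fun b => φ ⬝ᵥ b
          map_add' := fun a b => dotProduct_add φ a b
          map_smul' := fun c a => dotProduct_smul c φ a }
      have hKL : K = LinearMap.ker L := SetLike.ext fun b => Iff.rfl
      have h1 := L.finrank_range_add_finrank_ker
      have h2 := Submodule.finrank_le (LinearMap.range L)
      rw [finrank_self] at h2
      rw [Module.finrank_fintype_fun_eq_card] at h1
      rw [hKL]; omega
    let J : K →ₗ[F] V :=
      { toFun := fun b => tmul y₀ b.1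
        map_add' := fun a b => tmul_add_right y₀ a.1 b.1
        map_smul' := fun c a => by rw [RingHom.id_apply]; exact tmul_smul_right c y₀ a.1 }
    have hJ : Function.Injective J := (injective_iff_map_eq_zero J).2 fun b hb' => Subtype.ext (by
      by_contra hb0
      exact tmul_ne_zero hne hb0 hb')
    have heq : LinearMap.range J = LinearMap.range ((Matrix.toLin' (g : Mn)).comp (fac (α := α) w)) := by
      refine Submodule.eq_of_le_of_finrank_le (fun t ht => ?_) ?_
      · obtain ⟨b, rfl⟩ := LinearMap.mem_range.1 ht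
        exact hinv b.1 b.2
      · rw [finrank_range_image g hw, LinearMap.finrank_range_of_inj hJ]; exact hKdim
    have h4 : (g : Mn) *ᵥ tmul x w ∈ LinearMap.range J :=
      heq ▸ ⟨x, by rw [LinearMap.comp_apply, Matrix.toLin'_apply, fac_apply]⟩
    obtain ⟨b, hb'⟩ := h4
    refine hne ?_
    rw [hy₀, ← hb']
    show slice φ (tmul y₀ b.1) = 0
    rw [slice_tmul, b.2, zero_smul]
  set u₀ := (g : Mn) *ᵥ tmul x₀ w - tmul x₀ w
  by_cases hH : ∃ φ : β → F, φ ≠ 0 ∧ φ ⬝ᵥ w = 0 ∧ slice φ ((g : Mn) *ᵥ tmul x₀ w) = 0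
  · obtain ⟨φ, h1, h2, h3⟩ := hH
    exact hR (hA g hg hgk hmax hbot hx₀ φ h1 h2 h3)
  push Not at hH
  -- otherwise a commutator has an image of rank one
  obtain ⟨a, ha, ha0⟩ := Submodule.exists_mem_ne_zero_of_ne_bot hbot
  let Φ : (β → F) →ₗ[F] (α → F) × F :=
    { toFun := fun φ => (slice φ ((g : Mn) *ᵥ tmul x₀ w), φ ⬝ᵥ w)
      map_add' := fun a b => Prod.ext (slice_add a b _) (add_dotProduct a b w)
      map_smul' := fun c a => Prod.ext (slice_smul c a _) (smul_dotProduct c a w) }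
  have hΦ : Function.Injective Φ := (injective_iff_map_eq_zero Φ).2 fun φ hφ => by
    by_contra h
    exact hH φ h (congrArg Prod.snd hφ) (congrArg Prod.fst hφ)
  obtain ⟨φ, hφ⟩ : ∃ φ, Φ φ = (a, 0) := by
    have h1 : LinearMap.range Φ = ⊤ := by
      refine Submodule.eq_top_of_finrank_eq ?_
      have h2 := Submodule.finrank_le (LinearMap.range Φ)
      rw [LinearMap.finrank_range_of_inj hΦ, Module.finrank_prod, Module.finrank_fintype_fun_eq_card,
        Module.finrank_fintype_fun_eq_card, finrank_self] at *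
      omega
    exact LinearMap.mem_range.1 (show (a, (0 : F)) ∈ LinearMap.range Φ from h1 ▸ Submodule.mem_top)
  have hφa : slice φ ((g : Mn) *ᵥ tmul x₀ w) = a := congrArg Prod.fst hφ
  have hφw : φ ⬝ᵥ w = 0 := congrArg Prod.snd hφ
  have hφ0 : φ ≠ 0 := fun e => ha0 (by
    rw [← hφa, e, ← zero_smul F (0 : β → F), slice_smul, zero_smul])
  obtain ⟨R, hR', -, hRx⟩ := hM.exists_root (α := α) (v := w) (φ := φ) hφw
  have hRw : ∀ x, (R : Mn) *ᵥ tmul x w = tmul x w := fun x => by
    rw [hRx, rootMap_apply, slice_tmul, hφw, zero_smul, map_zero, tmul_zero_left, add_zero]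
  have hRi : ∀ t, ((R⁻¹ : GL _ F) : Mn) *ᵥ t = t - rootMap w φ LinearMap.id t := fun t =>
    gl_mulVec_injective R (by
      show (R : Mn) *ᵥ _ = (R : Mn) *ᵥ _
      rw [mulVec_inv_cancel, hRx, map_sub, rootMap_sq hφw, sub_zero, sub_add_cancel])
  set c := g⁻¹ * R⁻¹ * g * R with hc
  have hcx : ∀ x, (c : Mn) *ᵥ tmul x w =
      tmul x w - ((g⁻¹ : GL _ F) : Mn) *ᵥ tmul (slice φ ((g : Mn) *ᵥ tmul x w)) w := fun x => by
    rw [hc, Units.val_mul, Units.val_mul, Units.val_mul, ← Matrix.mulVec_mulVec, ← Matrix.mulVec_mulVec,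
      ← Matrix.mulVec_mulVec, hRw, hRi, Matrix.mulVec_sub, inv_mulVec_cancel, rootMap_apply, LinearMap.id_apply]
  have hgiw : ∀ y ∈ fixSp g w, ((g⁻¹ : GL _ F) : Mn) *ᵥ tmul y w = tmul y w := fun y hy => by
    conv_lhs => rw [← (hfixSp g w y).1 hy, inv_mulVec_cancel]
  have hcM : c ∈ M := mul_mem (mul_mem (mul_mem (inv_mem hg) (inv_mem hR')) hg) hR'
  have hck : ¬ IsKron c := by
    intro hk
    obtain ⟨A, B, hcAB⟩ := hk
    obtain ⟨R₁, hR₁, hR₁k, hR₁x⟩ := hM.exists_root (α := α) (v := w) (φ := φ) hφw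
    obtain ⟨A₁, B₁, hR1AB⟩ := hR₁k
    have hRR : R₁ = R := Units.ext (Matrix.ext_iff_mulVec.2 fun t => by rw [hR₁x, hRx])
    refine hNL g⁻¹ (inv_mem hg) (fun h => hgk (by simpa using h.inv)) w hw
      (isLine_of_root_kron hM hab hb hw hφ0 hφw hRx ?_)
    have h5 : g⁻¹ * R * g⁻¹⁻¹ = R * c⁻¹ := by rw [hc]; group
    rw [h5]
    refine isKron_of_apply (A₁ * A⁻¹) (B₁ * B⁻¹) fun x y => ?_
    have h6 : ((c⁻¹ : GL _ F) : Mn) *ᵥ tmul x y =
        tmul (((A⁻¹ : GL α F) : Matrix α α F) *ᵥ x) (((B⁻¹ : GL β F) : Matrix β β F) *ᵥ y) :=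
      gl_mulVec_injective c (by
        show (c : Mn) *ᵥ _ = (c : Mn) *ᵥ _
        rw [mulVec_inv_cancel, hcAB, kronecker_mulVec, mulVec_inv_cancel, mulVec_inv_cancel])
    rw [Units.val_mul, Units.val_mul, Units.val_mul, ← Matrix.mulVec_mulVec, h6, ← hRR, hR1AB, kronecker_mulVec,
      Matrix.mulVec_mulVec, Matrix.mulVec_mulVec]
  have hle : fixSp g w ≤ fixSp c w := fun y hy => by
    rw [hfixSp] at hy ⊢
    rw [hcx, hy, slice_tmul, hφw, zero_smul, tmul_zero_left, Matrix.mulVec_zero, sub_zero]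
  have hc0 : x₀ ∉ fixSp c w := fun h => by
    rw [hfixSp, hcx, hφa, hgiw a ha, sub_eq_self] at h
    exact tmul_ne_zero ha0 hw h
  have hbotc : fixSp c w ≠ ⊥ := fun e => hbot (le_bot_iff.1 (e ▸ hle))
  refine hR (hA c hcM hck (fun p => (hmax p).trans (Submodule.finrank_mono hle)) hbotc hc0 φ hφ0 hφw ?_)
  rw [hcx, hφa, hgiw a ha, map_sub, slice_tmul, slice_tmul, hφw, zero_smul, zero_smul, sub_zero]

end

end Cfsg.Agent.Classical.TensorMax
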