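import Cfsg.Agent.Lib.Classical.MaxTensorFormCore

/-!
The coefficients of pair elements form an algebra, the same on every pair.
-/

set_option autoImplicit false
set_option linter.unusedSectionVars false

namespace Cfsg.Agent.Classical.TensorMax

open Matrix Module MaxTv Overfield

variable {F : Type*} [Field F] [Fintype F] {α β : Type} [Fintype α] [DecidableEq α] [Fintype β] [DecidableEq β]

local notation "V" => (α × β → F)
local notation "Mn" => Matrix (α × β) (α × β) F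
local notation "Ea" => ((α → F) →ₗ[F] (α → F))

variable {M : Subgroup (GL (α × β) F)} {J : (β → F) → (β → F)} {σ : F ≃+* F} {ε κ τ : F}

/-- The coefficient occurs on every orthogonal pair. -/
def PCoef (M : Subgroup (GL (α × β) F)) (J : (β → F) → (β → F)) (A : Ea) : Prop :=
  ∀ z y : β → F, Flag J z y → InP M J z y A

theorem tmul_neg_left (x : α → F) (y : β → F) : tmul (-x) y = -tmul x y := (fac y).map_neg x

theorem InP.zero {z b : β → F} : InP M J z b (0 : Ea) := ⟨0, by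
  convert In.zero (M := M) using 1
  exact LinearMap.ext fun t => by simp [rootMap_apply, tmul_zero_left]⟩

section
variable (hJ : Frm M J σ ε κ τ)
include hJ

theorem InP.add {z b : β → F} {A B : Ea} (hf : Flag J z b) (hA : InP M J z b A) (hB : InP M J z b B) :
    InP M J z b (A + B) := by
  obtain ⟨A', hA⟩ := hA
  obtain ⟨B', hB⟩ := hB
  refine ⟨A' + B', ?_⟩
  have hbz := symm_zero hJ hf.zb
  convert hA.add hB (fun t => ?_) using 1
  · rw [rootMap_add, rootMap_add]; abel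
  · simp only [LinearMap.add_apply, rootMap_apply, map_add, slice_tmul, hf.zz, hf.bb, hf.zb, hbz, zero_smul,
      map_zero, tmul_zero_left, add_zero]

theorem InP.id {z b : β → F} (hz : J z ⬝ᵥ z = 0) (hb : J b ⬝ᵥ b = 0) (h : J z ⬝ᵥ b = 0) :
    InP M J z b (LinearMap.id : Ea) := ⟨κ • LinearMap.id, by rw [← rootMap_smul]; exact hJ.pair z b hz hb h⟩

/-- The product rule. -/
theorem InP.prod {z b c y : β → F} {A B : Ea} (hA : InP M J z b A) (hB : InP M J c y B) (hzz : J z ⬝ᵥ z = 0)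
    (hbb : J b ⬝ᵥ b = 0) (hcc : J c ⬝ᵥ c = 0) (hyy : J y ⬝ᵥ y = 0) (hzb : J z ⬝ᵥ b = 0) (hzc : J z ⬝ᵥ c = 0)
    (hzy : J z ⬝ᵥ y = 0) (hby : J b ⬝ᵥ y = 0) (hcy : J c ⬝ᵥ y = 0) (hbc : J b ⬝ᵥ c = 1) :
    InP M J z y (A.comp B) := by
  obtain ⟨A', hA⟩ := hA
  obtain ⟨B', hB⟩ := hB
  refine ⟨(-ε) • B'.comp A', ?_⟩
  have hcb : J c ⬝ᵥ b = ε := by rw [hJ.refl b c, hbc, map_one, mul_one]
  have hbz := symm_zero hJ hzb
  have hcz := symm_zero hJ hzc
  have hyz := symm_zero hJ hzy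
  have hyb := symm_zero hJ hby
  have hyc := symm_zero hJ hcy
  set P := rootMap z (J b) A + rootMap b (J z) A' with hP
  set Q := rootMap c (J y) B + rootMap y (J c) B' with hQ
  have hPP : ∀ t, P (P t) = 0 := fun t => by
    simp only [hP, LinearMap.add_apply, rootMap_apply, map_add, slice_tmul, hzz, hbb, hzb, hbz, zero_smul,
      map_zero, tmul_zero_left, add_zero]
  have hQQ : ∀ t, Q (Q t) = 0 := fun t => by
    simp only [hQ, LinearMap.add_apply, rootMap_apply, map_add, slice_tmul, hcc, hyy, hcy, hyc, zero_smul,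
      map_zero, tmul_zero_left, add_zero]
  have hPQP : ∀ t, P (Q (P t)) = 0 := fun t => by
    simp only [hP, hQ, LinearMap.add_apply, rootMap_apply, map_add, map_smul, slice_tmul, hzz, hbb, hzb, hbz,
      hyz, hyb, hcz, hcb, hzy, hby, zero_smul, smul_zero, map_zero, tmul_zero_left, add_zero, zero_add,
      tmul_smul_left]
  have hQPQ : ∀ t, Q (P (Q t)) = 0 := fun t => by
    simp only [hP, hQ, LinearMap.add_apply, rootMap_apply, map_add, map_smul, slice_tmul, hcc, hyy, hcy, hyc,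
      hzc, hbc, hzy, hby, hyz, hyb, hcz, one_smul, zero_smul, smul_zero, map_zero, tmul_zero_left, add_zero, zero_add]
  have h := In.commCube hB hA hPP (fun t => by rw [hQQ]) hPQP (fun t => by rw [hQQ, map_zero, map_zero])
    (fun t => by rw [hQQ, map_zero])
  convert h using 1
  refine LinearMap.ext fun t => ?_
  simp only [LinearMap.add_apply, LinearMap.sub_apply, LinearMap.comp_apply, hQPQ, add_zero]
  simp only [hP, hQ, LinearMap.add_apply, LinearMap.smul_apply, LinearMap.comp_apply, rootMap_apply, map_add,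
    map_smul, slice_tmul, hbc, hcb, hby, hzc, hzy, hyz, hyb, hcz, one_smul, zero_smul, map_zero, tmul_zero_left,
    add_zero, zero_add, tmul_smul_left, neg_smul, tmul_neg_left]
  abel

theorem mem_span_swap {z b d : β → F} (hb : b ∉ (F ∙ z)) (h : b ∈ Submodule.span F ({z, d} : Set (β → F))) :
    d ∈ Submodule.span F ({z, b} : Set (β → F)) := by
  obtain ⟨s, r, hsr⟩ := Submodule.mem_span_pair.1 h
  have hr : r ≠ 0 := fun e => hb (by
    rw [← hsr, e, zero_smul, add_zero]; exact Submodule.smul_mem _ _ (Submodule.mem_span_singleton_self z))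
  exact Submodule.mem_span_pair.2 ⟨-(r⁻¹ * s), r⁻¹, by
    rw [← hsr, smul_add, smul_smul, smul_smul, inv_mul_cancel₀ hr, one_smul, neg_smul]; abel⟩

theorem flag_scale {z y : β → F} (hf : Flag J z y) {c : F} (hc : c ≠ 0) : Flag J (c • z) y where
  zz := by rw [hJ.J_smul, smul_dotProduct, dotProduct_smul, hf.zz, smul_zero, smul_zero]
  bb := hf.bb
  zb := by rw [hJ.J_smul, smul_dotProduct, hf.zb, smul_zero]
  ind := by rw [Submodule.span_singleton_smul_eq (IsUnit.mk0 c hc)]; exact hf.ind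
  z0 := smul_ne_zero hc hf.z0

theorem moveR {z b y : β → F} {A : Ea} (h : InP M J z b A) (hb : Flag J z b) (hy : Flag J z y)
    (hby : J b ⬝ᵥ y = 0) (hnot : b ∉ Submodule.span F ({z, y} : Set (β → F))) : InP M J z y A := by
  obtain ⟨c, hcc, hbc, hzc, hyc⟩ := hJ.dual z y b hb.zz hy.bb hb.bb hy.zb (symm_zero hJ hb.zb) hby hnot
  have := InP.prod hJ h (InP.id hJ hcc hy.bb (symm_zero hJ hyc)) hb.zz hb.bb hcc hy.bb hb.zb hzc hy.zb hby
    (symm_zero hJ hyc) hbc
  rwa [LinearMap.comp_id] at this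

theorem moveL {z c y : β → F} {B : Ea} (h : InP M J c y B) (hc : Flag J c y) (hz : Flag J z y)
    (hzc : J z ⬝ᵥ c = 0) (hnot : c ∉ Submodule.span F ({z, y} : Set (β → F))) : InP M J z y B := by
  obtain ⟨b₀, hbb, hcb, hzb, hyb⟩ := hJ.dual z y c hz.zz hz.bb hc.zz hz.zb (symm_zero hJ hzc) hc.zb hnot
  obtain ⟨s, hs⟩ : ∃ s, σ s = ε⁻¹ := σ.surjective _
  have hbc : J (s • b₀) ⬝ᵥ c = 1 := by
    rw [hJ.J_smul, smul_dotProduct, hJ.refl c b₀, hcb, map_one, mul_one, hs, smul_eq_mul, inv_mul_cancel₀ hJ.eps]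
  have hbb' : J (s • b₀) ⬝ᵥ (s • b₀) = 0 := by
    rw [hJ.J_smul, smul_dotProduct, dotProduct_smul, hbb, smul_zero, smul_zero]
  have hzb' : J z ⬝ᵥ (s • b₀) = 0 := by rw [dotProduct_smul, hzb, smul_zero]
  have hyb' : J y ⬝ᵥ (s • b₀) = 0 := by rw [dotProduct_smul, hyb, smul_zero]
  have := InP.prod hJ (InP.id hJ hz.zz hbb' hzb') h hz.zz hbb' hc.zz hz.bb hzb' hzc hz.zb (symm_zero hJ hyb')
    hc.zb hbc
  rwa [LinearMap.id_comp] at this

theorem moveR' {z b y : β → F} {A : Ea} (h : InP M J z b A) (hb : Flag J z b) (hy : Flag J z y) :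
    InP M J z y A := by
  obtain ⟨d, hdd, hzd, hbd, hyd, hd1, hd2⟩ := hJ.mid z b y
  have hfd : Flag J z d := ⟨hb.zz, hdd, hzd, fun h => hd1 (Submodule.span_mono (by simp) h), hb.z0⟩
  exact moveR hJ (moveR hJ h hb hfd hbd fun hm => hd1 (mem_span_swap hJ hb.ind hm)) hfd hy
    (symm_zero hJ hyd) hd2

theorem moveL' {z c y : β → F} {B : Ea} (h : InP M J c y B) (hc : Flag J c y) (hz : Flag J z y) :
    InP M J z y B := by
  obtain ⟨d, hdd, hyd, hcd, hzd, hd1, hd2⟩ := hJ.mid y c z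
  have hfd : Flag J y d := ⟨hc.bb, hdd, hyd, fun h => hd1 (Submodule.span_mono (by simp) h), hc.of_swap hJ |>.z0⟩
  rw [Set.pair_comm] at hd2
  refine moveL hJ (moveL hJ h hc (hfd.of_swap hJ) (symm_zero hJ hcd) fun hm => hd1 ?_) (hfd.of_swap hJ) hz hzd hd2
  rw [Set.pair_comm] at hm
  exact mem_span_swap hJ (hc.of_swap hJ).ind hm

theorem pCoef_of_inP {z b : β → F} {A : Ea} (h : InP M J z b A) (hb : Flag J z b) : PCoef M J A := by
  intro z' y' hy'
  obtain ⟨d, hdd, hzd, hz'd, -, hd1, -⟩ := hJ.mid z z' b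
  have h1 : Flag J z d := ⟨hb.zz, hdd, hzd, fun h => hd1 (Submodule.span_mono (by simp) h), hb.z0⟩
  have h2 : Flag J z' d := ⟨hy'.zz, hdd, hz'd, fun h => hd1 (Submodule.span_mono (by simp) h), hy'.z0⟩
  exact moveR' hJ (moveL' hJ (moveR' hJ h hb h1) h1 h2) h2 hy'

theorem PCoef.one : PCoef M J (LinearMap.id : Ea) := fun _ _ h => InP.id hJ h.zz h.bb h.zb

theorem PCoef.add {A B : Ea} (h : PCoef M J A) (h' : PCoef M J B) : PCoef M J (A + B) := fun z y hf =>
  InP.add hJ hf (h z y hf) (h' z y hf)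

theorem PCoef.smul {A : Ea} (h : PCoef M J A) (c : F) : PCoef M J (c • A) := fun z y hf => by
  rcases eq_or_ne c 0 with rfl | hc
  · rw [zero_smul]; exact InP.zero
  obtain ⟨A', hA⟩ := h _ _ (flag_scale hJ hf hc)
  refine ⟨σ c • A', ?_⟩
  rwa [rootMap_smul_left, hJ.J_smul, rootMap_smul_right] at hA

theorem PCoef.sub {A B : Ea} (h : PCoef M J A) (h' : PCoef M J B) : PCoef M J (A - B) := by
  rw [sub_eq_add_neg, ← neg_one_smul F B]
  exact h.add hJ (h'.smul hJ _)

theorem PCoef.mul {A B : Ea} (h : PCoef M J A) (h' : PCoef M J B) : PCoef M J (A.comp B) := fun z y hf => by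
  obtain ⟨d, hdd, hzd, hyd, -, hd1, -⟩ := hJ.mid z y y
  have hdy := symm_zero hJ hyd
  obtain ⟨c, hcc, hdc, hzc, hyc⟩ := hJ.dual z y d hf.zz hf.bb hdd hf.zb (symm_zero hJ hzd) hdy hd1
  have h1 : Flag J z d := ⟨hf.zz, hdd, hzd, fun h => hd1 (Submodule.span_mono (by simp) h), hf.z0⟩
  have h2 : Flag J c y := ⟨hcc, hf.bb, symm_zero hJ hyc, fun hm => by
      obtain ⟨k, rfl⟩ := Submodule.mem_span_singleton.1 hm
      rw [dotProduct_smul, hdc, smul_eq_mul, mul_one] at hdy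
      exact hf.ind (by rw [hdy, zero_smul]; exact zero_mem _),
    fun e => by rw [e, dotProduct_zero] at hdc; exact zero_ne_one hdc⟩
  exact InP.prod hJ (h _ _ h1) (h' _ _ h2) hf.zz hdd hcc hf.bb hzd hzc hf.zb hdy (symm_zero hJ hyc) hdc

theorem PCoef.conj [Nonempty α] {D : Ea} (h : PCoef M J D) (A : GL α F) {g : GL (α × β) F} (hg : g ∈ M)
    (hgx : ∀ x y, (g : Mn) *ᵥ tmul x y = tmul ((A : Matrix α α F) *ᵥ x) y) :
    PCoef M J ((Matrix.toLin' (A : Matrix α α F)).comp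
      (D.comp (Matrix.toLin' ((A⁻¹ : GL α F) : Matrix α α F)))) := fun z y hf => by
  obtain ⟨D', hD⟩ := h z y hf
  refine ⟨(Matrix.toLin' (A : Matrix α α F)).comp (D'.comp (Matrix.toLin' ((A⁻¹ : GL α F) : Matrix α α F))), ?_⟩
  have hgi : ∀ φ t, slice φ (((g⁻¹ : GL (α × β) F) : Mn) *ᵥ t) =
      ((A⁻¹ : GL α F) : Matrix α α F) *ᵥ slice φ t := fun φ t => by
    refine LinearMap.congr_fun (f := (slice φ).comp (Matrix.toLin' ((g⁻¹ : GL (α × β) F) : Mn)))
      (g := (Matrix.toLin' ((A⁻¹ : GL α F) : Matrix α α F)).comp (slice φ)) (ext_tmul' fun x w => ?_) t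
    have h1 : ((g⁻¹ : GL (α × β) F) : Mn) *ᵥ tmul x w = tmul (((A⁻¹ : GL α F) : Matrix α α F) *ᵥ x) w :=
      gl_mulVec_injective g (by
        show (g : Mn) *ᵥ _ = (g : Mn) *ᵥ _
        rw [mulVec_inv_cancel, hgx, mulVec_inv_cancel])
    simp only [LinearMap.comp_apply, Matrix.toLin'_apply, h1, slice_tmul, Matrix.mulVec_smul]
  convert hD.conj hg using 1
  refine LinearMap.ext fun t => ?_
  rw [conjL_apply]
  simp only [LinearMap.add_apply, rootMap_apply, LinearMap.comp_apply, Matrix.toLin'_apply, Matrix.mulVec_add, hgx,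
    hgi]

end

end Cfsg.Agent.Classical.TensorMax
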