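import Cfsg.Agent.Lib.Classical.MaxTensorForm

/-!
An overgroup of the product of two isometry groups is either of product shape or has a non-scalar pair element.
-/

set_option autoImplicit false
set_option linter.unusedSectionVars false

namespace Cfsg.Agent.Classical.TensorMax

open Matrix Module MaxTv Overfield
open scoped Kronecker

variable {F : Type*} [Field F] [Fintype F] {α β : Type} [Fintype α] [DecidableEq α] [Fintype β] [DecidableEq β]
variable [Nonempty α]

local notation "V" => (α × β → F)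
local notation "Mn" => Matrix (α × β) (α × β) F
local notation "Ea" => ((α → F) →ₗ[F] (α → F))

variable {M : Subgroup (GL (α × β) F)} {J : (β → F) → (β → F)} {σ : F ≃+* F} {ε κ τ : F}

/-- Only scalar coefficients occur. -/
def Scal (M : Subgroup (GL (α × β) F)) (J : (β → F) → (β → F)) : Prop :=
  ∀ (z y : β → F) (A : Ea), Flag J z y → InP M J z y A → ∃ μ : F, ∀ x, A x = μ • x

/-- A tensor acting as a scalar in the first factor. -/
def ScalAt (L : V →ₗ[F] (α → F)) (y : β → F) : Prop := ∃ μ : F, ∀ x : α → F, L (tmul x y) = μ • x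

theorem ScalAt.add {L : V →ₗ[F] (α → F)} {y y' : β → F} (h : ScalAt L y) (h' : ScalAt L y') :
    ScalAt L (y + y') := by
  obtain ⟨μ, hμ⟩ := h
  obtain ⟨μ', hμ'⟩ := h'
  exact ⟨μ + μ', fun x => by rw [tmul_add_right, map_add, hμ, hμ', add_smul]⟩

theorem ext_tmul' {L L' : V →ₗ[F] (α → F)} (h : ∀ x y, L (tmul x y) = L' (tmul x y)) : L = L' :=
  LinearMap.ext fun t => by rw [sum_tmul_basis t]; simp only [map_sum, map_smul, h]

theorem dot_lslice (ξ : α → F) (φ : β → F) (t : V) : φ ⬝ᵥ lslice ξ t = ξ ⬝ᵥ slice φ t := by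
  show ∑ j, φ j * ∑ i, ξ i * t (i, j) = ∑ i, ξ i * ∑ j, t (i, j) * φ j
  simp only [Finset.mul_sum]
  rw [Finset.sum_comm]
  exact Finset.sum_congr rfl fun i _ => Finset.sum_congr rfl fun j _ => by ring

section
variable (hJ : Frm M J σ ε κ τ)
include hJ

theorem exists_J (χ : β → F) : ∃ u, J u = χ := by
  refine Finite.injective_iff_surjective.1 (fun u v h => ?_) χ
  have h1 : J (u + (-1 : F) • v) = 0 := by
    rw [hJ.J_add, hJ.J_smul, map_neg, map_one, h, neg_one_smul, add_neg_cancel]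
  have h2 := hJ.J_inj _ h1
  rw [neg_one_smul] at h2
  exact add_neg_eq_zero.1 h2

/-- Coefficients of an element of the flag group are scalar on all orthogonal vectors. -/
theorem scalAt_upMap (hS : Scal M J) {z : β → F} (hzz : J z ⬝ᵥ z = 0) (hz0 : z ≠ 0) {T : V →ₗ[F] (α → F)}
    {Tp : (α → F) →ₗ[F] V} {C : Ea} (hTz : ∀ x, T (tmul x z) = 0) (hTp : ∀ x, slice (J z) (Tp x) = 0)
    (h : In M (upMap J z T Tp C)) {y : β → F} (hy : J z ⬝ᵥ y = 0) : ScalAt T y := by
  let p : Submodule F (β → F) :=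
    { carrier := {y | ScalAt T y}
      add_mem' := fun h h' => h.add h'
      zero_mem' := ⟨0, fun x => by rw [tmul_zero_right, map_zero, zero_smul]⟩
      smul_mem' := fun c y h => by
        obtain ⟨μ, hμ⟩ := h
        exact ⟨c * μ, fun x => by rw [tmul_smul_right, map_smul, hμ, mul_smul]⟩ }
  refine hJ.perpSpan z hzz p (fun y hyy hzy => ?_) y hy
  by_cases hm : y ∈ (F ∙ z)
  · obtain ⟨c, rfl⟩ := Submodule.mem_span_singleton.1 hm
    exact ⟨0, fun x => by rw [tmul_smul_right, map_smul, hTz, smul_zero, zero_smul]⟩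
  · have hf : Flag J z y := ⟨hzz, hyy, hzy, hm, hz0⟩
    obtain ⟨μ, hμ⟩ := hS z y _ hf (isolate hJ hTz hTp h hf)
    refine ⟨κ⁻¹ * μ, fun x => ?_⟩
    rw [mul_smul, ← hμ, LinearMap.smul_apply, LinearMap.comp_apply, fac_apply, smul_smul,
      inv_mul_cancel₀ hJ.kappa, one_smul]

/-- The adjoint of an exact line. -/
theorem adj_line {f : GL (α × β) F} (hf : f ∈ M) {y y' : β → F}
    (h : ∀ x : α → F, (f : Mn) *ᵥ tmul x y = tmul x y') (t : V) :
    slice (J y) (((f⁻¹ : GL (α × β) F) : Mn) *ᵥ t) = slice (J y') t := by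
  refine LinearMap.congr_fun (f := (slice (J y)).comp (Matrix.toLin' ((f⁻¹ : GL (α × β) F) : Mn)))
    (g := slice (J y')) ?_ t
  refine LinearMap.ext fun t => ?_
  rw [sum_tmul_basis t]
  simp only [map_sum, map_smul, LinearMap.comp_apply, Matrix.toLin'_apply]
  refine Finset.sum_congr rfl fun p _ => ?_
  congr 1
  rw [hJ.adj f hf y _ (J (Pi.single p.2 1) ⬝ᵥ y') (fun x => by rw [h, slice_tmul]) (Pi.single p.1 1), slice_tmul,
    ← hJ.refl]

/-- An element fixing the line of an isotropic vector pointwise, on the orthogonal vectors. -/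
theorem fix_perp (hS : Scal M J) {f : GL (α × β) F} (hf : f ∈ M) {z : β → F} (hzz : J z ⬝ᵥ z = 0)
    (hz0 : z ≠ 0) (hfix : ∀ x : α → F, (f : Mn) *ᵥ tmul x z = tmul x z) {y : β → F} (hy : J z ⬝ᵥ y = 0) :
    ∃ y', J z ⬝ᵥ y' = 0 ∧ ∀ x : α → F, (f : Mn) *ᵥ tmul x y = tmul x y' := by
  classical
  obtain ⟨ψ, hψ⟩ := exists_dual hz0
  obtain ⟨i₀⟩ := ‹Nonempty α›
  set x₀ : α → F := Pi.single i₀ 1
  have hx₀ : x₀ ⬝ᵥ x₀ = 1 := by simp [x₀]
  have hfixi : ∀ x : α → F, ((f⁻¹ : GL (α × β) F) : Mn) *ᵥ tmul x z = tmul x z := fun x => by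
    conv_lhs => rw [← hfix x, inv_mulVec_cancel]
  -- the inverse has scalar slices
  have step : ∀ f : GL (α × β) F, f ∈ M → (∀ x : α → F, (f : Mn) *ᵥ tmul x z = tmul x z) → ∀ u y,
      J z ⬝ᵥ u = 0 → J z ⬝ᵥ y = 0 → ScalAt ((slice (J u)).comp (Matrix.toLin' (f : Mn))) y := by
    intro f hf hfix u y hu hy
    have hfixi : ∀ x : α → F, ((f⁻¹ : GL (α × β) F) : Mn) *ᵥ tmul x z = tmul x z := fun x => by
      conv_lhs => rw [← hfix x, inv_mulVec_cancel]
    have hadj : ∀ t, slice (J z) ((f : Mn) *ᵥ t) = slice (J z) t := fun t => by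
      have := adj_line hJ (inv_mem hf) hfixi t
      rwa [inv_inv] at this
    let p : Submodule F (β → F) :=
      { carrier := {u | ScalAt ((slice (J u)).comp (Matrix.toLin' (f : Mn))) y}
        add_mem' := fun {u v} h h' => by
          obtain ⟨μ, hμ⟩ := h
          obtain ⟨μ', hμ'⟩ := h'
          refine ⟨μ + μ', fun x => ?_⟩
          simp only [LinearMap.comp_apply] at hμ hμ' ⊢
          rw [hJ.J_add, slice_add, hμ, hμ', add_smul]
        zero_mem' := ⟨0, fun x => by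
          rw [LinearMap.comp_apply, J_zero hJ, ← zero_smul F (0 : β → F), slice_smul, zero_smul, zero_smul]⟩
        smul_mem' := fun c u h => by
          obtain ⟨μ, hμ⟩ := h
          refine ⟨σ c * μ, fun x => ?_⟩
          simp only [LinearMap.comp_apply] at hμ ⊢
          rw [hJ.J_smul, slice_smul, hμ, mul_smul] }
    refine hJ.perpSpan z hzz p (fun u huu hzu => ?_) u hu
    by_cases hm : u ∈ (F ∙ z)
    · obtain ⟨c, rfl⟩ := Submodule.mem_span_singleton.1 hm
      exact ⟨0, fun x => by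
        rw [LinearMap.comp_apply, Matrix.toLin'_apply, hJ.J_smul, slice_smul, hadj, slice_tmul, hy, zero_smul,
          smul_zero]⟩
    have huz := symm_zero hJ hzu
    refine scalAt_upMap hJ hS hzz hz0
      (Tp := κ • (Matrix.toLin' ((f⁻¹ : GL (α × β) F) : Mn)).comp (fac u)) (C := 0)
      (fun x => by rw [LinearMap.comp_apply, Matrix.toLin'_apply, hfix, slice_tmul, huz, zero_smul])
      (fun x => by
        rw [LinearMap.smul_apply, map_smul, LinearMap.comp_apply, Matrix.toLin'_apply,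
          show slice (J z) (((f⁻¹ : GL (α × β) F) : Mn) *ᵥ fac u x) = slice (J z) (fac u x) from
            adj_line hJ hf hfix _, fac_apply, slice_tmul, hzu, zero_smul, smul_zero])
      ?_ hy
    convert (hJ.pair z u hzz huu hzu).conj (inv_mem hf) using 1
    refine LinearMap.ext fun t => ?_
    rw [conjL_apply, inv_inv]
    simp only [upMap, LinearMap.add_apply, LinearMap.smul_apply, LinearMap.comp_apply, rootMap_apply, fac_apply,
      Matrix.toLin'_apply, LinearMap.id_apply, LinearMap.zero_apply, tmul_zero_left, add_zero, Matrix.mulVec_add,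
      Matrix.mulVec_smul, hfixi, hadj]
  -- the image of an orthogonal vector modulo the line
  have hdec : ∀ y, J z ⬝ᵥ y = 0 → ∃ (y' : β → F) (S : Ea), J z ⬝ᵥ y' = 0 ∧
      ∀ x, (f : Mn) *ᵥ tmul x y = tmul x y' + tmul (S x) z := by
    intro y hy
    set y' := lslice x₀ ((f : Mn) *ᵥ tmul x₀ y)
    have hy' : ∀ u, J z ⬝ᵥ u = 0 → ∀ x, slice (J u) ((f : Mn) *ᵥ tmul x y) = (J u ⬝ᵥ y') • x := by
      intro u hu x
      obtain ⟨μ, hμ⟩ := step f hf hfix u y hu hy
      simp only [LinearMap.comp_apply, Matrix.toLin'_apply] at hμ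
      have : J u ⬝ᵥ y' = μ := by rw [dot_lslice, hμ, dotProduct_smul, hx₀, smul_eq_mul, mul_one]
      rw [hμ, this]
    have hzy' : J z ⬝ᵥ y' = 0 := by
      have h1 := adj_line hJ (inv_mem hf) hfixi (tmul x₀ y)
      rw [inv_inv, slice_tmul, hy, zero_smul] at h1
      rw [dot_lslice, h1, dotProduct_zero]
    refine ⟨y', (slice ψ).comp ((Matrix.toLin' (f : Mn)).comp (fac y) - fac y'), hzy', fun x => ?_⟩
    have := eq_tmul_of_slices hψ (t := (f : Mn) *ᵥ tmul x y - tmul x y') fun φ hφ => by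
      obtain ⟨u, rfl⟩ := exists_J hJ φ
      rw [map_sub, hy' u (symm_zero hJ hφ), slice_tmul, sub_self]
    simp only [LinearMap.comp_apply, LinearMap.sub_apply, Matrix.toLin'_apply, fac_apply]
    rw [← this, add_sub_cancel]
  let p : Submodule F (β → F) :=
    { carrier := {y | ∃ y', ∀ x : α → F, (f : Mn) *ᵥ tmul x y = tmul x y'}
      add_mem' := fun {a b} ha hb => by
        obtain ⟨a', ha⟩ := ha
        obtain ⟨b', hb⟩ := hb
        exact ⟨a' + b', fun x => by rw [tmul_add_right, Matrix.mulVec_add, ha, hb, tmul_add_right]⟩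
      zero_mem' := ⟨0, fun x => by rw [tmul_zero_right, Matrix.mulVec_zero]⟩
      smul_mem' := fun c a ha => by
        obtain ⟨a', ha⟩ := ha
        exact ⟨c • a', fun x => by rw [tmul_smul_right, Matrix.mulVec_smul, ha, tmul_smul_right]⟩ }
  have hp : y ∈ p := by
    refine hJ.perpSpan z hzz p (fun y hyy hzy => ?_) y hy
    by_cases hm : y ∈ (F ∙ z)
    · obtain ⟨c, rfl⟩ := Submodule.mem_span_singleton.1 hm
      exact ⟨c • z, fun x => by rw [tmul_smul_right, Matrix.mulVec_smul, hfix]⟩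
    obtain ⟨y', S, hzy', hS'⟩ := hdec y hzy
    have hyz := symm_zero hJ hzy
    have hy'z := symm_zero hJ hzy'
    have hyi : ∀ t, J z ⬝ᵥ t = 0 → ∀ x, slice (J y) (((f⁻¹ : GL (α × β) F) : Mn) *ᵥ tmul x t) =
        (J y' ⬝ᵥ t) • x := fun t ht x => by
      rw [hJ.adj f hf y t (J t ⬝ᵥ y') (fun x => by
        rw [hS', map_add, slice_tmul, slice_tmul, symm_zero hJ ht, zero_smul, add_zero]) x, ← hJ.refl]
    have hy'y' : J y' ⬝ᵥ y' = 0 := by
      have h1 := hyi y' hzy' x₀
      have h2 : ((f⁻¹ : GL (α × β) F) : Mn) *ᵥ tmul x₀ y' = tmul x₀ y - tmul (S x₀) z :=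
        gl_mulVec_injective f (by
          show (f : Mn) *ᵥ _ = (f : Mn) *ᵥ _
          rw [mulVec_inv_cancel, Matrix.mulVec_sub, hS', hfix, add_sub_cancel_right])
      rw [h2, map_sub, slice_tmul, slice_tmul, hyy, hyz, zero_smul, zero_smul, sub_zero, eq_comm,
        smul_eq_zero] at h1
      exact h1.resolve_right (by simp [x₀])
    have hy'm : y' ∉ (F ∙ z) := fun hm' => by
      obtain ⟨d, rfl⟩ := Submodule.mem_span_singleton.1 hm'
      obtain ⟨χ, hχ, hχ0⟩ := exists_dot_one hm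
      have h3 : tmul x₀ y = tmul (d • x₀ + S x₀) z := gl_mulVec_injective f (by
        show (f : Mn) *ᵥ _ = (f : Mn) *ᵥ _
        rw [hS', hfix, tmul_add_left, tmul_smul_left, tmul_smul_right])
      have h4 := congrArg (slice χ) h3
      rw [slice_tmul, slice_tmul, hχ, hχ0 z (Submodule.mem_span_singleton_self z), one_smul, zero_smul] at h4
      simpa [x₀] using congrFun h4 i₀
    obtain ⟨v₀, hv₀⟩ := exists_dual (fun e => hz0 (hJ.J_inj z e))
    rw [dotProduct_comm] at hv₀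
    set D : V →ₗ[F] (α → F) :=
      (slice (J y)).comp (Matrix.toLin' ((f⁻¹ : GL (α × β) F) : Mn)) - slice (J y') with hD
    set S' : Ea := D.comp (fac v₀) with hS'd
    have hDS : ∀ t, slice (J y) (((f⁻¹ : GL (α × β) F) : Mn) *ᵥ t) =
        slice (J y') t + S' (slice (J z) t) := fun t => by
      have h1 : D = S'.comp (slice (J z)) := ext_tmul' fun x w => by
        have hw : J z ⬝ᵥ (w - (J z ⬝ᵥ w) • v₀) = 0 := by
          rw [dotProduct_sub, dotProduct_smul, hv₀, smul_eq_mul, mul_one, sub_self]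
        have h0 : D (tmul x (w - (J z ⬝ᵥ w) • v₀)) = 0 := by
          rw [hD, LinearMap.sub_apply, LinearMap.comp_apply, Matrix.toLin'_apply, hyi _ hw, slice_tmul, sub_self]
        rw [LinearMap.comp_apply, slice_tmul, map_smul, hS'd, LinearMap.comp_apply, fac_apply, ← map_smul,
          ← tmul_smul_right]
        rw [tmul_sub_right, map_sub, sub_eq_zero] at h0
        exact h0
      have h2 := LinearMap.congr_fun h1 t
      rw [hD, LinearMap.sub_apply, LinearMap.comp_apply, Matrix.toLin'_apply, LinearMap.comp_apply,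
        sub_eq_iff_eq_add'] at h2
      exact h2
    obtain ⟨g₁, hg₁, -, hg₁x⟩ := hJ.root y hyy
    obtain ⟨g₂, hg₂, -, hg₂x⟩ := hJ.root y' hy'y'
    have hX := ((show In M (rootMap (τ • y) (J y) LinearMap.id) from ⟨g₁, hg₁, hg₁x⟩).conj hf).sub
      (show In M (rootMap (τ • y') (J y') LinearMap.id) from ⟨g₂, hg₂, hg₂x⟩)
      (fun t => by
        simp only [conjL_apply, rootMap_apply, hDS, LinearMap.id_apply, tmul_smul_right, ← tmul_smul_left,
          slice_tmul, hy'y', hzy', zero_smul, map_zero, add_zero, tmul_zero_left, smul_zero, Matrix.mulVec_zero])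
      (fun t => by
        simp only [rootMap_apply, LinearMap.id_apply, tmul_smul_right, ← tmul_smul_left, slice_tmul, hy'y',
          zero_smul, smul_zero, tmul_zero_left])
    have hne : y' ∉ Submodule.span F ({z, z} : Set (β → F)) := by simpa using hy'm
    obtain ⟨c, -, hyc, hzc, -⟩ := hJ.dual z z y' hzz hzz hy'y' hzz hy'z hy'z hne
    obtain ⟨μ, hμ⟩ := scalAt_upMap hJ hS hzz hz0 (T := (τ • S).comp (slice (J y'))) (Tp := (fac y').comp (τ • S'))
      (C := (τ • S).comp S') (fun x => by rw [LinearMap.comp_apply, slice_tmul, hy'z, zero_smul, map_zero])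
      (fun x => by rw [LinearMap.comp_apply, fac_apply, slice_tmul, hzy', zero_smul])
      (by
        convert hX using 1
        refine LinearMap.ext fun t => ?_
        simp only [upMap, LinearMap.add_apply, LinearMap.sub_apply, LinearMap.smul_apply, LinearMap.comp_apply,
          conjL_apply, rootMap_apply, fac_apply, hDS, LinearMap.id_apply, tmul_add_left, Matrix.mulVec_add, map_add,
          tmul_smul_right, tmul_smul_left, Matrix.mulVec_smul, hS', smul_add]
        abel) hzc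
    refine ⟨y' + (τ⁻¹ * μ) • z, fun x => ?_⟩
    have h5 := hμ x
    rw [LinearMap.comp_apply, slice_tmul, hyc, one_smul, LinearMap.smul_apply] at h5
    rw [hS', tmul_add_right, tmul_smul_right, ← tmul_smul_left (τ⁻¹ * μ), mul_smul, ← h5, smul_smul,
      inv_mul_cancel₀ hJ.tau, one_smul]
  obtain ⟨y', hy'⟩ := hp
  refine ⟨y', ?_, hy'⟩
  have h1 := adj_line hJ (inv_mem hf) hfixi (tmul x₀ y)
  rw [inv_inv, hy', slice_tmul, slice_tmul, hy, zero_smul, smul_eq_zero] at h1
  exact h1.resolve_right (by simp [x₀])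

/-- An element fixing the line of an isotropic vector pointwise has product shape. -/
theorem kron_of_fix [Nonempty β] (hS : Scal M J) {f : GL (α × β) F} (hf : f ∈ M) {z : β → F}
    (hzz : J z ⬝ᵥ z = 0) (hz0 : z ≠ 0) (hfix : ∀ x : α → F, (f : Mn) *ᵥ tmul x z = tmul x z) : IsKron f := by
  classical
  let p : Submodule F (β → F) :=
    { carrier := {y | ∃ y', ∀ x : α → F, (f : Mn) *ᵥ tmul x y = tmul x y'}
      add_mem' := fun {a b} ha hb => by
        obtain ⟨a', ha⟩ := ha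
        obtain ⟨b', hb⟩ := hb
        exact ⟨a' + b', fun x => by rw [tmul_add_right, Matrix.mulVec_add, ha, hb, tmul_add_right]⟩
      zero_mem' := ⟨0, fun x => by rw [tmul_zero_right, Matrix.mulVec_zero]⟩
      smul_mem' := fun c a ha => by
        obtain ⟨a', ha⟩ := ha
        exact ⟨c • a', fun x => by rw [tmul_smul_right, Matrix.mulVec_smul, ha, tmul_smul_right]⟩ }
  refine isKron_of_lines fun y _ => ?_
  suffices hy : y ∈ p by
    obtain ⟨y', hy'⟩ := hy
    exact ⟨y', fun x => ⟨x, hy' x⟩⟩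
  refine hJ.topSpan p (fun v hvv => ?_) y
  by_cases hzv : J z ⬝ᵥ v = 0
  · obtain ⟨v', -, hv'⟩ := fix_perp hJ hS hf hzz hz0 hfix hzv
    exact ⟨v', hv'⟩
  obtain ⟨w, hww, hzw, hvw, -, hwm, -⟩ := hJ.mid z v v
  obtain ⟨w', hzw', hw'⟩ := fix_perp hJ hS hf hzz hz0 hfix hzw
  have hw0 : w ≠ 0 := fun e => hwm (e ▸ zero_mem _)
  obtain ⟨i₀⟩ := ‹Nonempty α›
  have hw'0 : w' ≠ 0 := IsLine.target_ne hw0 fun x => ⟨x, hw' x⟩
  obtain ⟨R, hR, -, hRx⟩ := hJ.root v hvv
  have hw'w' : J w' ⬝ᵥ w' = 0 := hJ.line_iso f hf w w' hww fun x => ⟨x, hw' x⟩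
  have hf2 : f * R * f⁻¹ ∈ M := mul_mem (mul_mem hf hR) (inv_mem hf)
  have hfix2 : ∀ x : α → F, ((f * R * f⁻¹ : GL (α × β) F) : Mn) *ᵥ tmul x w' = tmul x w' := fun x => by
    rw [Units.val_mul, Units.val_mul, ← Matrix.mulVec_mulVec, ← Matrix.mulVec_mulVec, ← hw', inv_mulVec_cancel,
      hRx, rootMap_apply, slice_tmul, hvw, zero_smul, map_zero, tmul_zero_left, add_zero]
  obtain ⟨z', -, hz'⟩ := fix_perp hJ hS hf2 hw'w' hw'0 hfix2 (symm_zero hJ hzw')
  have hvz : J v ⬝ᵥ z ≠ 0 := fun e => hzv (symm_zero hJ e)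
  refine ⟨(τ * (J v ⬝ᵥ z))⁻¹ • (z' - z), fun x => ?_⟩
  have hfixi : ((f⁻¹ : GL (α × β) F) : Mn) *ᵥ tmul x z = tmul x z := by
    conv_lhs => rw [← hfix x, inv_mulVec_cancel]
  have h1 := hz' x
  rw [Units.val_mul, Units.val_mul, ← Matrix.mulVec_mulVec, ← Matrix.mulVec_mulVec, hfixi, hRx, Matrix.mulVec_add,
    hfix, rootMap_apply, slice_tmul, LinearMap.id_apply, tmul_smul_right, tmul_smul_left, smul_smul,
    Matrix.mulVec_smul, ← eq_sub_iff_add_eq', ← tmul_sub_right] at h1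
  rw [tmul_smul_right, ← h1, smul_smul, inv_mul_cancel₀ (mul_ne_zero hJ.tau hvz), one_smul]

variable (hab : Fintype.card α < Fintype.card β)
include hab

/-- The conjugate of a root element has product shape only if a line goes to a line. -/
theorem isLine_of_conj_root {g : GL (α × β) F} {v : β → F} (hv : v ≠ 0) (hvv : J v ⬝ᵥ v = 0)
    {R : GL (α × β) F} (hR : ∀ t, (R : Mn) *ᵥ t = t + rootMap (α := α) (τ • v) (J v) LinearMap.id t)
    (hk : IsKron (g * R * g⁻¹)) : IsLine g v := by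
  classical
  have hne : g * R * g⁻¹ ≠ 1 := by
    intro e
    have hR1 : R = 1 := by
      have := congrArg (fun z => g⁻¹ * z * g) e
      simpa [mul_assoc] using this
    obtain ⟨i⟩ := ‹Nonempty α›
    obtain ⟨u, hu⟩ := exists_dual (fun e => hv (hJ.J_inj v e))
    rw [dotProduct_comm] at hu
    have h1 := hR (tmul (Pi.single i 1) u)
    rw [hR1, Units.val_one, Matrix.one_mulVec, rootMap_apply, slice_tmul, hu, one_smul, LinearMap.id_apply,
      left_eq_add] at h1
    exact tmul_ne_zero (by simp) (smul_ne_zero hJ.tau hv) h1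
  obtain ⟨w, -, hw⟩ := hk.root hab hne (finrank_range_image g hv).le fun t =>
    ⟨τ • slice (J v) (((g⁻¹ : GL (α × β) F) : Mn) *ᵥ t), by
      rw [Units.val_mul, Units.val_mul, ← Matrix.mulVec_mulVec, ← Matrix.mulVec_mulVec, hR, Matrix.mulVec_add,
        mulVec_inv_cancel, add_sub_cancel_left, rootMap_apply, LinearMap.id_apply, tmul_smul_right,
        ← tmul_smul_left]
      rfl⟩
  exact isLine_of_range hw

/-- A line moved to a line forces product shape. -/
theorem kron_of_line [Nonempty β] (hS : Scal M J) {g : GL (α × β) F} (hg : g ∈ M) {y : β → F} (hy0 : y ≠ 0)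
    (hyy : J y ⬝ᵥ y = 0) (hl : IsLine g y) {v : β → F} (hvv : J v ⬝ᵥ v = 0) (hv : v ≠ 0)
    (hvy : J v ⬝ᵥ y = 0) : IsLine g v := by
  obtain ⟨z, hz⟩ := hl
  have hz0 : z ≠ 0 := IsLine.target_ne hy0 hz
  have hzz := hJ.line_iso g hg y z hyy hz
  choose G hG using hz
  have hGs : Function.Surjective G := by
    refine Finite.injective_iff_surjective.1 fun a b e => fac_injective hy0 (gl_mulVec_injective g ?_)
    show (g : Mn) *ᵥ tmul a y = (g : Mn) *ᵥ tmul b y
    rw [hG, hG, e]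
  obtain ⟨R, hR, -, hRx⟩ := hJ.root v hvv
  refine isLine_of_conj_root hJ hab hv hvv hRx (kron_of_fix hJ hS (mul_mem (mul_mem hg hR) (inv_mem hg)) hzz hz0
    fun x => ?_)
  obtain ⟨x', rfl⟩ := hGs x
  rw [Units.val_mul, Units.val_mul, ← Matrix.mulVec_mulVec, ← Matrix.mulVec_mulVec, ← hG, inv_mulVec_cancel,
    hRx, rootMap_apply, slice_tmul, hvy, zero_smul, map_zero, tmul_zero_left, add_zero]

/-- Every element maps every isotropic line of tensors to a line. -/
theorem isLine_of_scal [Nonempty β] (hS : Scal M J) (haniso : ∀ g ∈ M, ∀ w, J w ⬝ᵥ w ≠ 0 →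
    (∀ x : α → F, (g : Mn) *ᵥ tmul x w = tmul x w) → IsKron g)
    (hiso : ∀ g ∈ M, (∀ v, v ≠ 0 → J v ⬝ᵥ v = 0 → IsLine g v) → IsKron g) {g₀ : GL (α × β) F} (hg₀ : g₀ ∈ M) {v : β → F}
    (hv : v ≠ 0) (hvv : J v ⬝ᵥ v = 0) : IsLine g₀ v := by
  classical
  by_contra hno₀
  -- no isotropic line goes to a line unless all do
  have hNL : ∀ g ∈ M, ¬ IsKron g → ∀ y, y ≠ 0 → J y ⬝ᵥ y = 0 → ∀ v, v ≠ 0 → J v ⬝ᵥ v = 0 →
      IsLine g y → IsLine g v := by
    intro g hg _ y hy hyy v hv hvv hl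
    obtain ⟨d, hdd, hyd, hvd, -, hdm, -⟩ := hJ.mid y v v
    have hd0 : d ≠ 0 := fun e => hdm (e ▸ zero_mem _)
    exact kron_of_line hJ hab hS hg hd0 hdd (kron_of_line hJ hab hS hg hy hyy hl hdd hd0 (symm_zero hJ hyd))
      hvv hv hvd
  have hgk₀ : ¬ IsKron g₀ := fun h => hno₀ (h.isLine v)
  let fixSp : GL (α × β) F → (β → F) → Submodule F (α → F) := fun g w =>
    LinearMap.ker ((Matrix.toLin' (g : Mn)).comp (fac w) - fac w)
  have hfixSp : ∀ g w x, x ∈ fixSp g w ↔ (g : Mn) *ᵥ tmul x w = tmul x w := fun g w x => by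
    simp only [fixSp, LinearMap.mem_ker, LinearMap.sub_apply, LinearMap.comp_apply, Matrix.toLin'_apply,
      fac_apply, sub_eq_zero]
  -- elements without lines, up to product shape
  let NoLine : GL (α × β) F → Prop := fun g => ∀ y, y ≠ 0 → J y ⬝ᵥ y = 0 → ¬ IsLine g y
  have hnl : ∀ g ∈ M, ¬ IsKron g → NoLine g := by
    intro g hg hgk y hy hyy hl
    have hall : ∀ v, v ≠ 0 → J v ⬝ᵥ v = 0 → IsLine g v := fun v hv hvv => hNL g hg hgk y hy hyy v hv hvv hl
    exact hgk (hiso g hg hall)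
  let T := {p : GL (α × β) F × (β → F) // p.1 ∈ M ∧ ¬ IsKron p.1 ∧ p.2 ≠ 0 ∧ fixSp p.1 p.2 ≠ ⊥}
  obtain ⟨R, hR, -, hRx⟩ := hJ.root v hvv
  have hmM : g₀ * R * g₀⁻¹ ∈ M := mul_mem (mul_mem hg₀ hR) (inv_mem hg₀)
  have hmk : ¬ IsKron (g₀ * R * g₀⁻¹) := fun h => hno₀ (isLine_of_conj_root hJ hab hv hvv hRx h)
  haveI : Nonempty T := by
    obtain ⟨i₀⟩ := ‹Nonempty α›
    set x₁ : α → F := Pi.single i₀ 1
    let L : (β → F) →ₗ[F] (α → F) := (slice (J v)).comp ((Matrix.toLin' ((g₀⁻¹ : GL _ F) : Mn)).comp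
      { toFun := fun y => tmul x₁ y
        map_add' := tmul_add_right x₁
        map_smul' := fun c y => by rw [RingHom.id_apply]; exact tmul_smul_right c x₁ y })
    obtain ⟨w, hw0, hw⟩ : ∃ w, w ≠ 0 ∧ L w = 0 := by
      by_contra hcon
      push Not at hcon
      have := LinearMap.finrank_le_finrank_of_injective (f := L) ((injective_iff_map_eq_zero L).2 fun y hy => by
        by_contra hy0; exact hcon y hy0 hy)
      rw [Module.finrank_fintype_fun_eq_card, Module.finrank_fintype_fun_eq_card] at this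
      omega
    refine ⟨⟨(g₀ * R * g₀⁻¹, w), hmM, hmk, hw0, fun e => (show x₁ ≠ 0 by simp [x₁]) ?_⟩⟩
    rw [← Submodule.mem_bot F, ← e, hfixSp, Units.val_mul, Units.val_mul, ← Matrix.mulVec_mulVec,
      ← Matrix.mulVec_mulVec, hRx, Matrix.mulVec_add, mulVec_inv_cancel, rootMap_apply,
      show slice (J v) (((g₀⁻¹ : GL _ F) : Mn) *ᵥ tmul x₁ w) = 0 from hw, map_zero, tmul_zero_left,
      Matrix.mulVec_zero, add_zero]
  haveI : Finite T := Subtype.finite
  obtain ⟨⟨⟨g, w⟩, hg, hgk, hw, hbot⟩, hmax⟩ :=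
    Finite.exists_max fun p : T => finrank F (fixSp p.1.1 p.1.2)
  by_cases htop : fixSp g w = ⊤
  · by_cases hww : J w ⬝ᵥ w = 0
    · exact hgk (kron_of_fix hJ hS hg hww hw fun x => (hfixSp g w x).1 (htop ▸ Submodule.mem_top))
    · exact hgk (haniso g hg w hww fun x => (hfixSp g w x).1 (htop ▸ Submodule.mem_top))
  obtain ⟨x₀, -, hx₀⟩ := SetLike.exists_of_lt (lt_top_iff_ne_top.2 htop)
  obtain ⟨b, hb0, hbb, hbw, hbx⟩ := hJ.avoid ((g : Mn) *ᵥ tmul x₀ w) w
  obtain ⟨h, hh, hhk, hhx⟩ := hJ.root b hbb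
  have hhw : ∀ x, (h : Mn) *ᵥ tmul x w = tmul x w := fun x => by
    rw [hhx, rootMap_apply, slice_tmul, hbw, zero_smul, map_zero, tmul_zero_left, add_zero]
  have hhwi : ∀ x, ((h⁻¹ : GL _ F) : Mn) *ᵥ tmul x w = tmul x w := fun x => by
    conv_lhs => rw [← hhw x, inv_mulVec_cancel]
  set g' := g⁻¹ * h * g * h⁻¹ with hg'
  have hg'x : ∀ x, (g' : Mn) *ᵥ tmul x w =
      ((g⁻¹ : GL _ F) : Mn) *ᵥ ((h : Mn) *ᵥ ((g : Mn) *ᵥ tmul x w)) := fun x => by
    rw [hg', Units.val_mul, Units.val_mul, Units.val_mul, ← Matrix.mulVec_mulVec, ← Matrix.mulVec_mulVec,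
      ← Matrix.mulVec_mulVec, hhwi]
  have hg'M : g' ∈ M := mul_mem (mul_mem (mul_mem (inv_mem hg) hh) hg) (inv_mem hh)
  have hk' : ¬ IsKron g' := fun hk => hnl g⁻¹ (inv_mem hg) (fun h => hgk (by simpa using h.inv)) b hb0 hbb
    (isLine_of_conj_root hJ hab hb0 hbb hhx (by
      rw [inv_inv, show g⁻¹ * h * g = g' * h by rw [hg', inv_mul_cancel_right]]
      exact hk.mul hhk))
  have hle : fixSp g w < fixSp g' w := by
    refine lt_of_le_of_ne (fun y hy => ?_) fun e => hx₀ (e ▸ ?_)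
    · rw [hfixSp] at hy ⊢
      rw [hg'x, hy, hhw, ← hy, inv_mulVec_cancel, hy]
    · rw [hfixSp, hg'x, hhx, rootMap_apply, hbx, map_zero, tmul_zero_left, add_zero, inv_mulVec_cancel]
  have h1 : finrank F (fixSp g' w) ≤ finrank F (fixSp g w) :=
    hmax ⟨(g', w), hg'M, hk', hw, fun e => not_lt_bot (e ▸ hle)⟩
  exact absurd (Submodule.finrank_lt_finrank_of_lt hle) (by omega)

end

end Cfsg.Agent.Classical.TensorMax
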