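import Cfsg.Agent.Lib.Classical.MaxUnitGen
import Cfsg.Agent.Lib.Classical.MaxTensorRootForm

/-!
Tensor products of two Hermitian spaces: isometries of determinant one, Eichler maps, moving isotropic vectors.
-/

set_option autoImplicit false
set_option linter.unusedSectionVars false

namespace Cfsg.Agent.Classical.TensorHerm

open Matrix Module MaxTv
open scoped Kronecker

variable {F : Type*} [Field F] [Fintype F] {ι : Type} [Fintype ι] [DecidableEq ι]

local notation "V" => (ι → F)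
local notation "Mn" => Matrix ι ι F

/-- The isometries of determinant one. -/
def isoSL (f : (ι → F) → (ι → F) → F) : Subgroup (GL ι F) where
  carrier := {g | (∀ x y, f ((g : Mn) *ᵥ x) ((g : Mn) *ᵥ y) = f x y) ∧ g ∈ Geo.specialLinear ι F}
  mul_mem' {g h} hg hh := ⟨fun x y => by
    rw [Units.val_mul, ← Matrix.mulVec_mulVec, ← Matrix.mulVec_mulVec, hg.1, hh.1], mul_mem hg.2 hh.2⟩
  one_mem' := ⟨fun x y => by simp, one_mem _⟩
  inv_mem' {g} hg := ⟨fun x y => by
    conv_rhs => rw [← mulVec_inv_cancel g x, ← mulVec_inv_cancel g y, hg.1], inv_mem hg.2⟩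

theorem mem_isoSL {f : V → V → F} {g : GL ι F} : g ∈ isoSL f ↔
    (∀ x y, f ((g : Mn) *ᵥ x) ((g : Mn) *ᵥ y) = f x y) ∧ g ∈ Geo.specialLinear ι F := Iff.rfl

/-- A matrix with nilpotent difference from one has determinant one. -/
theorem det_of_cube {g : GL ι F} (h : ∀ x, ((g : Mn) - 1) *ᵥ (((g : Mn) - 1) *ᵥ (((g : Mn) - 1) *ᵥ x)) = 0) :
    g ∈ Geo.specialLinear ι F := by
  obtain ⟨p, hp⟩ := CharP.exists F
  haveI := hp
  haveI : Fact p.Prime := ⟨(CharP.char_is_prime_or_zero F p).resolve_right (CharP.char_ne_zero_of_finite F p)⟩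
  rcases isEmpty_or_nonempty ι with hι | hι
  · exact MonoidHom.mem_ker.2 (Units.ext Matrix.det_isEmpty)
  have h3 : ((g : Mn) - 1) ^ 3 = 0 := Matrix.ext_iff_mulVec.2 fun x => by
    rw [pow_succ, pow_two, ← Matrix.mulVec_mulVec, ← Matrix.mulVec_mulVec, h, Matrix.zero_mulVec]
  have h4 : ((g : Mn) - 1) ^ p ^ 2 = 0 := by
    refine pow_eq_zero_of_le ?_ h3
    have := Nat.pow_le_pow_left (Fact.out (p := p.Prime)).two_le 2
    omega
  rw [sub_pow_char_pow_of_commute (p := p) (h := Commute.one_right _), one_pow, sub_eq_zero] at h4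
  refine MonoidHom.mem_ker.2 (Units.ext ?_)
  show (g : Mn).det = 1
  have h5 := congrArg Matrix.det h4
  rw [Matrix.det_pow, Matrix.det_one] at h5
  exact iterateFrobenius_inj F p 2 (by simpa [iterateFrobenius_def] using h5)

variable {σ : F ≃+* F} {f : (ι → F) → (ι → F) → F} (hs : Herm σ f)
include hs

/-- Eichler maps at an isotropic vector. -/
theorem exists_eich {a u : V} {l : F} (ha : f a a = 0) (hu : f u a = 0) (hl : l + σ l = -f u u) :
    ∃ g ∈ isoSL f, ∀ x, (g : Mn) *ᵥ x = x + f x a • u - f x u • a + (l * f x a) • a := by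
  have hau : f a u = 0 := hs.refl _ _ hu
  let L : V →ₗ[F] V :=
    { toFun := fun x => x + f x a • u - f x u • a + (l * f x a) • a
      map_add' := fun x y => by simp only [hs.add_left, mul_add, add_smul]; abel
      map_smul' := fun c x => by
        simp only [hs.smul_left, RingHom.id_apply, smul_add, smul_sub, smul_smul, mul_left_comm] }
  have hiso : ∀ x y, f (L x) (L y) = f x y := fun x y => by
    simp only [L, LinearMap.coe_mk, AddHom.coe_mk, hs.add_left, hs.add_right, hs.smul_left, hs.smul_right,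
      hs.toSesq.sub_left, hs.toSesq.sub_right, ha, hu, hau]
    rw [hs.herm u y, hs.herm a y]
    simp only [map_mul]
    linear_combination (f x a * σ (f y a)) * hl
  obtain ⟨g, hg⟩ := exists_gl_of_injective L fun x y hxy => sub_eq_zero.1 (hs.eq_zero _ fun z => hs.refl _ _ (by
    rw [← hiso, map_sub, hxy, sub_self, hs.toSesq.zero_left]))
  refine ⟨g, ⟨fun x y => by rw [hg, hg, hiso], det_of_cube fun x => ?_⟩, fun x => by rw [hg]; rfl⟩
  have hN : ∀ x, ((g : Mn) - 1) *ᵥ x = f x a • u - f x u • a + (l * f x a) • a := fun x => by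
    rw [Matrix.sub_mulVec, Matrix.one_mulVec, hg]
    simp only [L, LinearMap.coe_mk, AddHom.coe_mk]
    abel
  simp only [hN, hs.add_left, hs.smul_left, hs.toSesq.sub_left, ha, hu, hau, mul_zero, sub_zero, zero_smul,
    add_zero, zero_sub]
  rw [← neg_smul, hs.smul_left, hs.smul_left, ha, hau]
  simp

theorem exists_move_skew {z v : V} (hz : f z z = 0) (hv : f v v = 0) (ha : f z v + σ (f z v) = 0)
    (h0 : f z v ≠ 0) : ∃ g ∈ isoSL f, (g : Mn) *ᵥ z = v := by
  have hd : f (v - z) (v - z) = 0 := by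
    rw [hs.toSesq.sub_left, hs.toSesq.sub_right, hs.toSesq.sub_right, hv, hz, hs.herm v z]
    linear_combination -ha
  have ha' : σ (f z v) = -f z v := eq_neg_of_add_eq_zero_right ha
  obtain ⟨g, hg, hgx⟩ := exists_eich hs (u := 0) (l := (f z v)⁻¹) hd (hs.toSesq.zero_left _) (by
    rw [hs.toSesq.zero_left, neg_zero, map_inv₀, ha', inv_neg, add_neg_cancel])
  refine ⟨g, hg, ?_⟩
  rw [hgx, hs.toSesq.sub_right, hz, sub_zero, hs.toSesq.zero_right, zero_smul, smul_zero, add_zero, sub_zero,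
    inv_mul_cancel₀ h0, one_smul, add_sub_cancel]

/-- An isotropic vector with prescribed products. -/
theorem exists_partner {z : V} (hz : f z z = 0) (hz0 : z ≠ 0) : ∃ u, f u u = 0 ∧ f u z = 1 := by
  obtain ⟨x, hx⟩ := hs.toSesq.exists_one hz0
  obtain ⟨l, hl⟩ := hs.exists_trace_eq (a := -f x x) (by rw [map_neg, hs.self_fixed])
  refine ⟨x + l • z, ?_, by rw [hs.add_left, hs.smul_left, hz, hx, mul_zero, add_zero]⟩
  simp only [hs.add_left, hs.add_right, hs.smul_left, hs.smul_right, hz, hx, hs.herm z x, map_one]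
  linear_combination hl

theorem exists_scale {z : V} (hz : f z z = 0) (hz0 : z ≠ 0) {r : F} (hr : σ r = r) (hr0 : r ≠ 0) :
    ∃ g ∈ isoSL f, (g : Mn) *ᵥ z = r • z := by
  obtain ⟨τ, hτ, hτs⟩ := hs.exists_skew
  obtain ⟨u, hu, huz⟩ := exists_partner hs hz hz0
  have huu : f (τ • u) (τ • u) = 0 := by rw [hs.smul_left, hs.smul_right, hu, mul_zero, mul_zero]
  have h1 : f z (τ • u) = σ τ := by rw [hs.smul_right, hs.herm z u, huz, map_one, mul_one]
  have h2 : f (τ • u) (r • z) = τ * r := by rw [hs.smul_left, hs.smul_right, huz, hr, mul_one]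
  obtain ⟨g₁, hg₁, h1'⟩ := exists_move_skew hs hz huu (by rw [h1, hs.invol, add_comm, hτs])
    (by rw [h1]; exact (map_ne_zero σ).2 hτ)
  obtain ⟨g₂, hg₂, h2'⟩ := exists_move_skew hs huu (v := r • z)
    (by rw [hs.smul_left, hs.smul_right, hz, mul_zero, mul_zero])
    (by rw [h2, map_mul, hr, ← add_mul, hτs, zero_mul]) (by rw [h2]; exact mul_ne_zero hτ hr0)
  exact ⟨g₂ * g₁, mul_mem hg₂ hg₁, by rw [Units.val_mul, ← Matrix.mulVec_mulVec, h1', h2']⟩

/-- Isotropic lines are moved to each other. -/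
theorem exists_move {z v : V} (hz : f z z = 0) (hz0 : z ≠ 0) (hv : f v v = 0) (hv0 : v ≠ 0) :
    ∃ g ∈ isoSL f, ∃ c : F, c ≠ 0 ∧ (g : Mn) *ᵥ z = c • v := by
  have step : ∀ z v : V, f z z = 0 → f v v = 0 → f z v ≠ 0 →
      ∃ g ∈ isoSL f, ∃ c : F, c ≠ 0 ∧ (g : Mn) *ᵥ z = c • v := by
    intro z v hz hv h
    obtain ⟨τ, hτ, hτs⟩ := hs.exists_skew
    have hσ : f z (σ (τ / f z v) • v) = τ := by rw [hs.smul_right, hs.invol, div_mul_cancel₀ _ h]
    obtain ⟨g, hg, hgz⟩ := exists_move_skew hs hz (v := σ (τ / f z v) • v)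
      (by rw [hs.smul_left, hs.smul_right, hv, mul_zero, mul_zero]) (by rw [hσ, hτs]) (by rw [hσ]; exact hτ)
    exact ⟨g, hg, _, (map_ne_zero σ).2 (div_ne_zero hτ h), hgz⟩
  by_cases h : f z v ≠ 0
  · exact step z v hz hv h
  push Not at h
  have hvz : f v z = 0 := hs.refl _ _ h
  by_cases hdep : ∃ c : F, v = c • z
  · obtain ⟨c, rfl⟩ := hdep
    have hc : c ≠ 0 := fun e => hv0 (by rw [e, zero_smul])
    exact ⟨1, one_mem _, c⁻¹, inv_ne_zero hc, by rw [Units.val_one, Matrix.one_mulVec, smul_smul,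
      inv_mul_cancel₀ hc, one_smul]⟩
  obtain ⟨y, hyz, hyv⟩ : ∃ y, f y z = 0 ∧ f y v ≠ 0 := by
    by_contra hc
    push Not at hc
    exact hdep (hs.toSesq.eq_smul_of_ker hz0 hc)
  obtain ⟨u, hu, huz⟩ := exists_partner hs hz hz0
  obtain ⟨x, hxz, hxv⟩ : ∃ x, f x z = 1 ∧ f x v ≠ 0 := by
    by_cases huv : f u v = 0
    · exact ⟨u + y, by rw [hs.add_left, huz, hyz, add_zero], by rw [hs.add_left, huv, zero_add]; exact hyv⟩
    · exact ⟨u, huz, huv⟩
  obtain ⟨l, hl⟩ := hs.exists_trace_eq (a := -f x x) (by rw [map_neg, hs.self_fixed])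
  have hww : f (x + l • z) (x + l • z) = 0 := by
    simp only [hs.add_left, hs.add_right, hs.smul_left, hs.smul_right, hz, hxz, hs.herm z x, map_one]
    linear_combination hl
  have hwz : f (x + l • z) z = 1 := by rw [hs.add_left, hs.smul_left, hz, hxz, mul_zero, add_zero]
  obtain ⟨g₁, hg₁, c₁, hc₁, h1⟩ := step z _ hz hww (fun e => one_ne_zero (hwz.symm.trans (hs.refl _ _ e)))
  obtain ⟨g₂, hg₂, c₂, hc₂, h2⟩ := step _ v hww hv (by rw [hs.add_left, hs.smul_left, h, mul_zero, add_zero]; exact hxv)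
  exact ⟨g₂ * g₁, mul_mem hg₂ hg₁, c₁ * c₂, mul_ne_zero hc₁ hc₂, by
    rw [Units.val_mul, ← Matrix.mulVec_mulVec, h1, Matrix.mulVec_smul, h2, smul_smul]⟩

/-- Isotropic vectors of a subspace with a hyperbolic pair span it. -/
theorem mem_of_iso {S p : Submodule F V} {b c : V} (hb : b ∈ S) (hc : c ∈ S) (hbb : f b b = 0) (hcc : f c c = 0)
    (hcb : f c b = 1) (hp : ∀ v ∈ S, f v v = 0 → v ∈ p) {x : V} (hx : x ∈ S) : x ∈ p := by
  obtain ⟨β₀, hβ⟩ : ∃ r, r = f x c := ⟨_, rfl⟩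
  obtain ⟨γ, hγ⟩ : ∃ r, r = f x b := ⟨_, rfl⟩
  have hbc : f b c = 1 := by rw [hs.herm, hcb, map_one]
  obtain ⟨x', hx'⟩ : ∃ x', x' = x - β₀ • b - γ • c := ⟨_, rfl⟩
  have h1 : f x' b = 0 := by
    rw [hx', hs.toSesq.sub_left, hs.toSesq.sub_left, hs.smul_left, hs.smul_left, hbb, hcb, hγ]; ring
  have h2 : f x' c = 0 := by
    rw [hx', hs.toSesq.sub_left, hs.toSesq.sub_left, hs.smul_left, hs.smul_left, hbc, hcc, hβ]; ring
  obtain ⟨l, hl⟩ := hs.exists_trace_eq (a := -f x' x') (by rw [map_neg, hs.self_fixed])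
  have hbp := hp b hb hbb
  have hcp := hp c hc hcc
  have hx'S : x' ∈ S := hx' ▸ sub_mem (sub_mem hx (S.smul_mem _ hb)) (S.smul_mem _ hc)
  have hv : x' + b + l • c ∈ p := hp _ (add_mem (add_mem hx'S hb) (S.smul_mem _ hc)) (by
    simp only [hs.add_left, hs.add_right, hs.smul_left, hs.smul_right, hbb, hcc, hbc, hcb, h1, h2,
      hs.refl _ _ h1, hs.refl _ _ h2]
    linear_combination hl)
  have e : x = (x' + b + l • c) - b - l • c + β₀ • b + γ • c := by rw [hx']; abel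
  rw [e]
  exact add_mem (add_mem (sub_mem (sub_mem hv hbp) (p.smul_mem _ hcp)) (p.smul_mem _ hbp)) (p.smul_mem _ hcp)

/-- A hyperbolic pair orthogonal to given vectors, by dimension. -/
theorem exists_pair_perp {W : Submodule F V} (hW : 2 ≤ finrank F W)
    (hsplit : ∀ x, ∃ w ∈ W, ∀ y ∈ W, f (x - w) y = 0) :
    ∃ b ∈ W, ∃ c ∈ W, f b b = 0 ∧ f c c = 0 ∧ f c b = 1 := by
  obtain ⟨b, hb, hb0, hbb⟩ := hs.exists_iso hW
  obtain ⟨x, hx⟩ := hs.toSesq.exists_one hb0
  obtain ⟨w, hw, hwy⟩ := hsplit x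
  have hwb : f w b = 1 := by rw [← hx]; have := hwy b hb; rw [hs.toSesq.sub_left, sub_eq_zero] at this; exact this.symm
  obtain ⟨l, hl⟩ := hs.exists_trace_eq (a := -f w w) (by rw [map_neg, hs.self_fixed])
  refine ⟨b, hb, w + l • b, add_mem hw (W.smul_mem _ hb), hbb, ?_,
    by rw [hs.add_left, hs.smul_left, hbb, hwb, mul_zero, add_zero]⟩
  simp only [hs.add_left, hs.add_right, hs.smul_left, hs.smul_right, hbb, hwb, hs.herm b w, map_one]
  linear_combination hl

/-- The vectors orthogonal to a hyperbolic pair. -/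
def perp2 (u z : V) : Submodule F V where
  carrier := {x | f x u = 0 ∧ f x z = 0}
  add_mem' := fun h h' => ⟨by rw [hs.add_left, h.1, h'.1, add_zero], by rw [hs.add_left, h.2, h'.2, add_zero]⟩
  zero_mem' := ⟨hs.toSesq.zero_left _, hs.toSesq.zero_left _⟩
  smul_mem' := fun c x h => ⟨by rw [hs.smul_left, h.1, mul_zero], by rw [hs.smul_left, h.2, mul_zero]⟩

theorem finrank_perp2 (u z : V) : Fintype.card ι ≤ finrank F (perp2 hs u z) + 2 := by
  have h1 := card_le_finrank_ker_add_one (hs.toSesq.lin u)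
  have h2 := finrank_le_inf_ker_add_one (LinearMap.ker (hs.toSesq.lin u)) (hs.toSesq.lin z)
  have e : LinearMap.ker (hs.toSesq.lin u) ⊓ LinearMap.ker (hs.toSesq.lin z) = perp2 hs u z := by
    ext x
    simp only [Submodule.mem_inf, LinearMap.mem_ker, hs.toSesq.lin_apply]
    rfl
  rw [e] at h2
  omega

theorem perp2_split {u z : V} (hu : f u u = 0) (hz : f z z = 0) (huz : f u z = 1) (x : V) :
    ∃ w ∈ perp2 hs u z, ∀ y ∈ perp2 hs u z, f (x - w) y = 0 := by
  have hzu : f z u = 1 := by rw [hs.herm, huz, map_one]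
  refine ⟨x - f x z • u - f x u • z, ⟨?_, ?_⟩, fun y hy => ?_⟩
  · rw [hs.toSesq.sub_left, hs.toSesq.sub_left, hs.smul_left, hs.smul_left, hu, hzu]; ring
  · rw [hs.toSesq.sub_left, hs.toSesq.sub_left, hs.smul_left, hs.smul_left, hz, huz]; ring
  · rw [show x - (x - f x z • u - f x u • z) = f x z • u + f x u • z by abel, hs.add_left, hs.smul_left,
      hs.smul_left, hs.refl _ _ hy.1, hs.refl _ _ hy.2, mul_zero, mul_zero, add_zero]

/-- An anisotropic vector orthogonal to a hyperbolic pair. -/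
theorem exists_aniso_perp (hn : 3 ≤ Fintype.card ι) {u z : V} (hu : f u u = 0) (hz : f z z = 0) (huz : f u z = 1) :
    ∃ w, f w u = 0 ∧ f w z = 0 ∧ f w w ≠ 0 := by
  obtain ⟨w, hw, hww⟩ := hs.exists_aniso_of_nd (T := perp2 hs u z) (fun w hw hw0 => by
    obtain ⟨x, hx⟩ := hs.toSesq.exists_one hw0
    obtain ⟨w', hw', hxw⟩ := perp2_split hs hu hz huz x
    refine ⟨w', hw', ?_⟩
    have := hxw w hw
    rw [hs.toSesq.sub_left, hx, sub_eq_zero] at this
    rw [← this]; exact one_ne_zero) fun e => by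
    have := finrank_perp2 hs u z
    rw [e, finrank_bot] at this
    omega
  exact ⟨w, hw.1, hw.2, hww⟩

/-- Every fixed value is taken orthogonally to a hyperbolic pair. -/
theorem exists_value_perp (hn : 3 ≤ Fintype.card ι) {u z : V} (hu : f u u = 0) (hz : f z z = 0) (huz : f u z = 1)
    {t : F} (ht : σ t = t) : ∃ w, f w u = 0 ∧ f w z = 0 ∧ f w w = t := by
  obtain ⟨w, hwu, hwz, hww⟩ := exists_aniso_perp hs hn hu hz huz
  obtain ⟨c, hc⟩ := hs.exists_norm (t := t / f w w) (by rw [map_div₀, ht, hs.self_fixed])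
  refine ⟨c • w, by rw [hs.smul_left, hwu, mul_zero], by rw [hs.smul_left, hwz, mul_zero], ?_⟩
  rw [hs.smul_left, hs.smul_right, ← mul_assoc, hc, div_mul_cancel₀ _ hww]

/-- Two orthogonal independent isotropic vectors. -/
theorem exists_flag (hn : 4 ≤ Fintype.card ι) {z : V} (hz : f z z = 0) (hz0 : z ≠ 0) :
    ∃ u b c : V, f u u = 0 ∧ f u z = 1 ∧ f b b = 0 ∧ f c c = 0 ∧ f c b = 1 ∧ f b z = 0 ∧ f c z = 0 ∧
      f b u = 0 ∧ f c u = 0 := by
  obtain ⟨u, hu, huz⟩ := exists_partner hs hz hz0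
  obtain ⟨b, hb, c, hc, hbb, hcc, hcb⟩ := exists_pair_perp hs (W := perp2 hs u z)
    (by have := finrank_perp2 hs u z; omega) (perp2_split hs hu hz huz)
  exact ⟨u, b, c, hu, huz, hbb, hcc, hcb, hb.2, hc.2, hb.1, hc.1⟩

theorem mem_of_iso_perp (hn : 4 ≤ Fintype.card ι) {z : V} (hz : f z z = 0) (hz0 : z ≠ 0) {p : Submodule F V}
    (hp : ∀ v, f v z = 0 → f v v = 0 → v ∈ p) {x : V} (hx : f x z = 0) : x ∈ p := by
  obtain ⟨u, b, c, -, -, hbb, hcc, hcb, hbz, hcz, -, -⟩ := exists_flag hs hn hz hz0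
  exact mem_of_iso hs (S := LinearMap.ker (hs.toSesq.lin z))
    (LinearMap.mem_ker.2 (by rw [hs.toSesq.lin_apply, hbz])) (LinearMap.mem_ker.2 (by rw [hs.toSesq.lin_apply, hcz]))
    hbb hcc hcb (fun v hv => hp v (by rw [← hs.toSesq.lin_apply]; exact LinearMap.mem_ker.1 hv))
    (LinearMap.mem_ker.2 (by rw [hs.toSesq.lin_apply, hx]))

theorem exists_hyp (hn : 2 ≤ Fintype.card ι) : ∃ b c : V, f b b = 0 ∧ f c c = 0 ∧ f c b = 1 := by
  obtain ⟨b, -, hb0, hbb⟩ := hs.exists_iso (S := ⊤) (by rw [finrank_top, Module.finrank_pi]; omega)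
  obtain ⟨c, hcc, hcb⟩ := exists_partner hs hbb hb0
  exact ⟨b, c, hbb, hcc, hcb⟩

theorem mem_of_iso_all (hn : 2 ≤ Fintype.card ι) {p : Submodule F V} (hp : ∀ v, f v v = 0 → v ∈ p) (x : V) :
    x ∈ p := by
  obtain ⟨b, c, hbb, hcc, hcb⟩ := exists_hyp hs hn
  exact mem_of_iso hs (S := ⊤) trivial trivial hbb hcc hcb (fun v _ => hp v) trivial

end Cfsg.Agent.Classical.TensorHerm
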