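import Cfsg.Agent.Lib.Classical.MaxTensorHermScal
import Cfsg.Agent.Lib.Classical.MaxUnitary

/-!
A transvection group at a pure isotropic tensor gives all isometries of determinant one.
-/

set_option autoImplicit false
set_option linter.unusedSectionVars false

namespace Cfsg.Agent.Classical.TensorHerm

open Matrix Module MaxTv TensorMax Overfield
open scoped Kronecker
open Cfsg.Agent.Classical.TensorRoot (kg kg_apply kg_isKron)

variable {F : Type*} [Field F] [Fintype F]

section InR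

variable {ι : Type} [Fintype ι] [DecidableEq ι]

local notation "Mi" => Matrix ι ι F

/-- An Eichler map with vector `u` at `v` is in `M`. -/
def InR (σ : F ≃+* F) (h : (ι → F) → (ι → F) → F) (M : Subgroup (GL ι F)) (v u : ι → F) : Prop :=
  h u v = 0 ∧ ∃ l : F, l + σ l = -h u u ∧
    ∃ g ∈ M, ∀ x, (g : Mi) *ᵥ x = x + h x v • u - h x u • v + (l * h x v) • v

variable {σ : F ≃+* F} {h : (ι → F) → (ι → F) → F} {M : Subgroup (GL ι F)} {v : ι → F}
variable (hs : Herm σ h) (hv : h v v = 0)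
include hs hv

theorem InR.zero : InR σ h M v 0 :=
  ⟨hs.toSesq.zero_left _, 0, by simp [hs.toSesq.zero_left], 1, one_mem M, fun x => by simp [hs.toSesq.zero_right]⟩

theorem InR.add {u u' : ι → F} (hu : InR σ h M v u) (hu' : InR σ h M v u') : InR σ h M v (u + u') := by
  obtain ⟨huv, l, hl, g, hg, hgx⟩ := hu
  obtain ⟨huv', l', hl', g', hg', hgx'⟩ := hu'
  refine ⟨by rw [hs.add_left, huv, huv', add_zero], l + l' - h u' u, ?_, g * g', mul_mem hg hg', fun x => ?_⟩
  · rw [map_sub, map_add, hs.add_left, hs.add_right, hs.add_right, ← hs.herm u u']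
    linear_combination hl + hl'
  · rw [Units.val_mul, ← Matrix.mulVec_mulVec, hgx', hgx]
    simp only [hs.add_left, hs.add_right, hs.toSesq.sub_left, hs.smul_left, huv', hv, hs.refl _ _ huv, mul_zero,
      add_zero, sub_zero]
    module

theorem InR.neg {u : ι → F} (hu : InR σ h M v u) : InR σ h M v (-u) := by
  obtain ⟨huv, l, hl, g, hg, hgx⟩ := hu
  have e : -u = (-1 : F) • u := (neg_one_smul F u).symm
  refine ⟨by rw [e, hs.smul_left, huv, mul_zero], σ l, ?_, g⁻¹, inv_mem hg, fun x => gl_mulVec_injective g ?_⟩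
  · rw [hs.invol, e, hs.smul_left, hs.smul_right, map_neg, map_one]
    linear_combination hl
  · show (g : Mi) *ᵥ _ = (g : Mi) *ᵥ _
    rw [mulVec_inv_cancel, hgx, e]
    simp only [hs.add_left, hs.toSesq.sub_left, hs.smul_left, hs.smul_right, map_neg, map_one, huv, hv,
      hs.refl _ _ huv, mul_zero, add_zero, sub_zero]
    match_scalars
    all_goals first
      | ring1
      | linear_combination h x v * hl
      | linear_combination (-h x v) * hl

theorem InR.map {u : ι → F} (hu : InR σ h M v u) {g : GL ι F} (hg : g ∈ M)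
    (hgi : ∀ x y, h ((g : Mi) *ᵥ x) ((g : Mi) *ᵥ y) = h x y) (hgv : (g : Mi) *ᵥ v = v) :
    InR σ h M v ((g : Mi) *ᵥ u) := by
  obtain ⟨huv, l, hl, k, hk, hkx⟩ := hu
  refine ⟨by conv_lhs => arg 2; rw [← hgv]
             rw [hgi, huv], l, by rw [hgi, hl], g * k * g⁻¹, mul_mem (mul_mem hg hk) (inv_mem hg), fun x => ?_⟩
  obtain ⟨x', rfl⟩ : ∃ x', (g : Mi) *ᵥ x' = x := ⟨_, mulVec_inv_cancel g x⟩
  have e : h ((g : Mi) *ᵥ x') v = h x' v := by conv_lhs => rw [← hgv, hgi]
  rw [Units.val_mul, Units.val_mul, ← Matrix.mulVec_mulVec, ← Matrix.mulVec_mulVec, inv_mulVec_cancel, hkx, e,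
    hgi, Matrix.mulVec_add, Matrix.mulVec_sub, Matrix.mulVec_add, Matrix.mulVec_smul, Matrix.mulVec_smul,
    Matrix.mulVec_smul, hgv]

/-- The vectors all of whose multiples give Eichler maps. -/
def rSub : Submodule F (ι → F) where
  carrier := {u | ∀ s : F, InR σ h M v (s • u)}
  add_mem' := fun {a b} ha hb s => by rw [smul_add]; exact (ha s).add hs hv (hb s)
  zero_mem' := fun s => by rw [smul_zero]; exact InR.zero hs hv
  smul_mem' := fun c a ha s => by rw [smul_smul]; exact ha _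

theorem mem_rSub {u : ι → F} : u ∈ rSub (M := M) hs hv ↔ ∀ s : F, InR σ h M v (s • u) := Iff.rfl

/-- Three transvections give an Eichler map. -/
theorem rSub_of_upt {u : ι → F} (huu : h u u = 0) (huv : h u v = 0) (hPv : UPt σ h M v) (hPu : UPt σ h M u)
    (hP : ∀ s : F, UPt σ h M (v + s • u)) : u ∈ rSub (M := M) hs hv := by
  intro r
  obtain ⟨τ, hτ, hτs⟩ := hs.exists_skew
  obtain ⟨t₁, h₁, e₁⟩ := hP (r / τ) τ hτs
  obtain ⟨t₂, h₂, e₂⟩ := hPv (-τ) (by rw [map_neg, ← neg_add, hτs, neg_zero])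
  obtain ⟨t₃, h₃, e₃⟩ := hPu.smul hs (r / τ) (-τ) (by rw [map_neg, ← neg_add, hτs, neg_zero])
  refine ⟨by rw [hs.smul_left, huv, mul_zero], 0, by simp [hs.smul_left, hs.smul_right, huu],
    t₁ * (t₂ * t₃), mul_mem h₁ (mul_mem h₂ h₃), fun x => ?_⟩
  have hσ : σ τ = -τ := eq_neg_of_add_eq_zero_right hτs
  have hvu := hs.refl _ _ huv
  rw [Units.val_mul, Units.val_mul, ← Matrix.mulVec_mulVec, ← Matrix.mulVec_mulVec, e₃, e₂, e₁]
  simp only [hs.add_left, hs.add_right, hs.smul_left, hs.smul_right, huu, huv, hvu, hv, mul_zero, add_zero,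
    map_div₀, hσ]
  match_scalars <;> field_simp <;> ring

/-- Transvections fixing `v` extend the set. -/
theorem rSub_absorb {u w : ι → F} (hu : u ∈ rSub (M := M) hs hv) (hw : UPt σ h M w) (hww : h w w = 0)
    (hwv : h w v = 0) (hne : h u w ≠ 0) : w ∈ rSub (M := M) hs hv := by
  intro r
  obtain ⟨τ, hτ, hτs⟩ := hs.exists_skew
  obtain ⟨t, ht, htx⟩ := hw τ hτs
  have hti := isometry_tv hs.toSesq hww (hs.tv_cond hτs w) htx
  have htv : (t : Mi) *ᵥ v = v := by rw [htx, hs.refl _ _ hwv, mul_zero, zero_smul, add_zero]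
  have h1 := (hu (r / (τ * h u w))).map hs hv ht hti htv
  have h2 := h1.add hs hv ((hu (r / (τ * h u w))).neg hs hv)
  rwa [htx, hs.smul_left, add_assoc, add_comm (_ • w), ← add_assoc, add_neg_cancel, zero_add,
    show τ * (r / (τ * h u w) * h u w) = r by field_simp] at h2

end InR

variable {α β : Type} [Fintype α] [DecidableEq α] [Fintype β] [DecidableEq β]

local notation "V" => (α × β → F)
local notation "Mn" => Matrix (α × β) (α × β) F

variable {σ : F ≃+* F} {fA : (α → F) → (α → F) → F} {fB : (β → F) → (β → F) → F}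
  {f : (α × β → F) → (α × β → F) → F} {M : Subgroup (GL (α × β) F)}

section pre

variable (hO : Pre σ fA fB f M)
include hO

theorem Pre.pure_iso_right (x : α → F) {z : β → F} (hz : fB z z = 0) : f (tmul x z) (tmul x z) = 0 := by
  rw [hO.ten, hz, mul_zero]

theorem Pre.pure_iso_left {a : α → F} (ha : fA a a = 0) (y : β → F) : f (tmul a y) (tmul a y) = 0 := by
  rw [hO.ten, ha, zero_mul]

/-- All Eichler maps at a doubly isotropic tensor. -/
theorem Pre.rSub_all (hP : ∀ a z, fA a a = 0 → fB z z = 0 → UPt σ f M (tmul a z))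
    (hcase : 4 ≤ Fintype.card β ∨ ∀ a y, fA a a = 0 → UPt σ f M (tmul a y)) {a : α → F} {z : β → F}
    (haa : fA a a = 0) (ha0 : a ≠ 0) (hz : fB z z = 0) (hz0 : z ≠ 0) {t : V} (ht : f t (tmul a z) = 0) :
    t ∈ rSub (M := M) hO.hV (hO.pure_iso_right a hz) := by
  classical
  have hA := hO.hA
  have hB := hO.hB
  obtain ⟨R, hR⟩ : ∃ R, R = rSub (M := M) hO.hV (hO.pure_iso_right a hz) := ⟨_, rfl⟩
  rw [← hR]
  obtain ⟨a₁, ha₁, ha₁a⟩ := exists_partner hA haa ha0
  have haa₁ : fA a a₁ = 1 := by rw [hA.herm, ha₁a, map_one]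
  -- the first factor times the orthogonal space
  have haz : ∀ y, fB y y = 0 → fB y z = 0 → tmul a y ∈ R := fun y hy hyz => by
    rw [hR]
    refine rSub_of_upt hO.hV _ (hO.pure_iso_left haa y) (by rw [hO.ten, haa, zero_mul]) (hP a z haa hz)
      (hP a y haa hy) fun s => ?_
    rw [← tmul_smul_right, ← tmul_add_right]
    refine hP a _ haa ?_
    simp only [hB.add_left, hB.add_right, hB.smul_left, hB.smul_right, hz, hy, hyz, hB.refl _ _ hyz, mul_zero,
      add_zero]
  have hnon : 4 ≤ Fintype.card β → ∀ a', fA a' a' = 0 → fA a a' ≠ 0 → ∀ y, fB y y = 0 → fB y z = 0 → (∀ c : F, y ≠ c • z) →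
      tmul a' y ∈ R := by
    intro h4 a' ha' hne y hy hyz hind
    obtain ⟨y', hy', hy'z, hy'y⟩ : ∃ y', fB y' y' = 0 ∧ fB y' z = 0 ∧ fB y' y ≠ 0 := by
      by_contra hc
      push Not at hc
      obtain ⟨c, hc'⟩ := hB.toSesq.eq_smul_of_ker hz0 (w := y) fun x hx => by
        have := mem_of_iso_perp hB h4 hz hz0 (p := LinearMap.ker (hB.toSesq.lin y))
          (fun v hv hvv => LinearMap.mem_ker.2 (by rw [hB.toSesq.lin_apply]; exact hc v hvv hv)) hx
        rwa [LinearMap.mem_ker, hB.toSesq.lin_apply] at this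
      exact hind c hc'
    rw [hR]
    refine rSub_absorb hO.hV _ (u := tmul a y') (hR ▸ haz y' hy' hy'z) (hP a' y ha' hy)
      (hO.pure_iso_left ha' y) (by rw [hO.ten, hyz, mul_zero]) ?_
    rw [hO.ten]
    exact mul_ne_zero hne hy'y
  have hall₁ : 4 ≤ Fintype.card β → ∀ a', fA a' a' = 0 → ∀ y, fB y y = 0 → fB y z = 0 → (∀ c : F, y ≠ c • z) → tmul a' y ∈ R := by
    intro h4 a' ha' y hy hyz hind
    by_cases hne : fA a a' = 0
    · obtain ⟨l, hl0, hl⟩ := hA.exists_coef (r := fA a₁ a')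
      have h1 := hnon h4 (a' + l • a₁) (hA.add_smul_iso ha' ha₁ hl) (by
        rw [hA.add_right, hA.smul_right, hne, haa₁, mul_one, zero_add]
        exact (map_ne_zero σ).2 hl0) y hy hyz hind
      have h2 := hnon h4 a₁ ha₁ (by rw [haa₁]; exact one_ne_zero) y hy hyz hind
      have := R.sub_mem h1 (R.smul_mem l h2)
      rwa [tmul_add_left, tmul_smul_left, add_sub_cancel_right] at this
    · exact hnon h4 a' ha' hne y hy hyz hind
  have hperp : ∀ x y, fB y z = 0 → tmul x y ∈ R := by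
    intro x y hy
    refine mem_of_iso_all hA hO.ha (p := R.comap (fac y)) (fun a' ha' => ?_) x
    rcases hcase with h4 | hline
    swap
    · have haR : ∀ w, fB w z = 0 → tmul a w ∈ R := fun w hwz => by
        rw [hR]
        refine rSub_of_upt hO.hV _ (hO.pure_iso_left haa w) (by rw [hO.ten, haa, zero_mul]) (hP a z haa hz)
          (hline a w haa) fun s => ?_
        rw [← tmul_smul_right, ← tmul_add_right]
        exact hline a _ haa
      have hnon' : ∀ a', fA a' a' = 0 → fA a a' ≠ 0 → tmul a' y ∈ R := fun a' ha' hne => by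
        by_cases hy0 : y = 0
        · rw [hy0, tmul_zero_right]; exact R.zero_mem
        by_cases hex : ∃ v, fB v z = 0 ∧ fB v y ≠ 0
        · obtain ⟨v, hvz, hvy⟩ := hex
          rw [hR]
          refine rSub_absorb hO.hV _ (u := tmul a v) (hR ▸ haR v hvz) (hline a' y ha') (hO.pure_iso_left ha' y)
            (by rw [hO.ten, hy, mul_zero]) ?_
          rw [hO.ten]
          exact mul_ne_zero hne hvy
        push Not at hex
        obtain ⟨c, rfl⟩ := hB.toSesq.eq_smul_of_ker hz0 hex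
        obtain ⟨z₁, hz₁, hz₁z⟩ := exists_partner hB hz hz0
        obtain ⟨w, hw1, hwz, hww⟩ := exists_aniso_perp hB hO.hb hz₁ hz hz₁z
        have hind : ∀ v, fB v z = 0 → fB v w ≠ 0 → tmul a' v ∈ R := fun v hvz hvw => by
          rw [hR]
          refine rSub_absorb hO.hV _ (u := tmul a w) (hR ▸ haR w hwz) (hline a' v ha') (hO.pure_iso_left ha' v)
            (by rw [hO.ten, hvz, mul_zero]) ?_
          rw [hO.ten]
          exact mul_ne_zero hne fun e => hvw (hB.refl _ _ e)
        have h1 := hind (c • z + w) (by rw [hB.add_left, hB.smul_left, hz, hwz, mul_zero, add_zero]) (by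
          rw [hB.add_left, hB.smul_left, hB.refl _ _ hwz, mul_zero, zero_add]; exact hww)
        have h2 := R.sub_mem h1 (hind w hwz hww)
        rwa [← tmul_sub_right, add_sub_cancel_right] at h2
      show tmul a' y ∈ R
      by_cases hne : fA a a' = 0
      · obtain ⟨l, hl0, hl⟩ := hA.exists_coef (r := fA a₁ a')
        have h1 := hnon' (a' + l • a₁) (hA.add_smul_iso ha' ha₁ hl) (by
          rw [hA.add_right, hA.smul_right, hne, haa₁, mul_one, zero_add]
          exact (map_ne_zero σ).2 hl0)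
        have h2 := hnon' a₁ ha₁ (by rw [haa₁]; exact one_ne_zero)
        have := R.sub_mem h1 (R.smul_mem l h2)
        rwa [tmul_add_left, tmul_smul_left, add_sub_cancel_right] at this
      · exact hnon' a' ha' hne
    let facL : (β → F) →ₗ[F] V :=
      { toFun := fun y => tmul a' y
        map_add' := tmul_add_right a'
        map_smul' := fun c y => tmul_smul_right c a' y }
    refine mem_of_iso_perp hB h4 hz hz0 (p := R.comap facL) (fun w hwz hww => ?_) hy
    show tmul a' w ∈ R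
    by_cases hdep : ∃ c : F, w = c • z
    · obtain ⟨c, rfl⟩ := hdep
      obtain ⟨u, b, cc, -, huz, hbb, -, hcb, hbz, -, hbu, -⟩ := exists_flag hB h4 hz hz0
      have hzu : fB z u = 1 := by rw [hB.herm, huz, map_one]
      have hbi : ∀ d : F, b ≠ d • z := fun d e => by
        have h0 := hbu
        rw [e, hB.smul_left, hzu, mul_one] at h0
        rw [e, h0, zero_smul, hB.toSesq.zero_right] at hcb
        exact one_ne_zero hcb.symm
      have hzb : fB z b = 0 := hB.refl _ _ hbz
      have h1 := hall₁ h4 a' ha' (z + b) (by rw [hB.add_left, hB.add_right, hB.add_right, hz, hbb, hbz, hzb]; ring)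
        (by rw [hB.add_left, hz, hbz, add_zero]) fun d e => hbi (d - 1) (by
          rw [sub_smul, one_smul, ← e, add_sub_cancel_left])
      have h2 := R.smul_mem c (R.sub_mem h1 (hall₁ h4 a' ha' b hbb hbz hbi))
      rw [← tmul_sub_right, add_sub_cancel_right] at h2
      rwa [tmul_smul_right]
    · push Not at hdep
      exact hall₁ h4 a' ha' w hww hwz hdep
  -- the isotropic vector times the second factor
  obtain ⟨z₁, hz₁, hz₁z⟩ := exists_partner hB hz hz0
  have hzz₁ : fB z z₁ = 1 := by rw [hB.herm, hz₁z, map_one]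
  have haz₁ : tmul a z₁ ∈ R := by
    rw [hR]
    refine rSub_absorb hO.hV _ (u := tmul a₁ z) (hR ▸ hperp a₁ z hz) (hP a z₁ haa hz₁) (hO.pure_iso_left haa z₁)
      (by rw [hO.ten, haa, zero_mul]) ?_
    rw [hO.ten, ha₁a, hzz₁, one_mul]
    exact one_ne_zero
  -- orthogonal vectors times the partner
  have hx₁ : ∀ x, fA x a = 0 → tmul x z₁ ∈ R := by
    intro x hx
    obtain ⟨x', hx'⟩ : ∃ x', x' = x - fA x a₁ • a := ⟨_, rfl⟩
    have hx'a : fA x' a = 0 := by rw [hx', hA.toSesq.sub_left, hA.smul_left, hx, haa, mul_zero, sub_zero]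
    have hx'1 : fA x' a₁ = 0 := by rw [hx', hA.toSesq.sub_left, hA.smul_left, haa₁, mul_one, sub_self]
    obtain ⟨l, hl0, hl⟩ : ∃ l, l ≠ 0 ∧ l + σ l = -fA x' x' := by
      obtain ⟨l, hl⟩ := hA.exists_trace_eq (a := -fA x' x') (by rw [map_neg, hA.self_fixed])
      obtain ⟨τ, hτ, hτs⟩ := hA.exists_skew
      rcases eq_or_ne l 0 with rfl | h0
      · exact ⟨τ, hτ, by rw [hτs, ← hl, map_zero, add_zero]⟩
      · exact ⟨l, h0, hl⟩
    obtain ⟨τ, hτ, hτs⟩ := hA.exists_skew
    have hσl : σ l ≠ 0 := (map_ne_zero σ).2 hl0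
    obtain ⟨μ, hμ⟩ : ∃ μ, μ = σ (τ / σ l) := ⟨_, rfl⟩
    have hμ0 : μ ≠ 0 := hμ ▸ (map_ne_zero σ).2 (div_ne_zero hτ hσl)
    obtain ⟨y, hy1, hyz, hyy⟩ := exists_value_perp hB hO.hb hz₁ hz hz₁z (t := -(μ + σ μ))
      (by rw [map_neg, map_add, hB.invol, add_comm])
    obtain ⟨a₂, ha₂⟩ : ∃ a₂, a₂ = a₁ + x' + l • a := ⟨_, rfl⟩
    obtain ⟨y₂, hy₂⟩ : ∃ y₂, y₂ = z₁ + y + μ • z := ⟨_, rfl⟩
    have ha₂a₂ : fA a₂ a₂ = 0 := by
      rw [ha₂]
      simp only [hA.add_left, hA.add_right, hA.smul_left, hA.smul_right, haa, ha₁, ha₁a, haa₁, hx'a, hx'1,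
        hA.refl _ _ hx'a, hA.refl _ _ hx'1]
      linear_combination hl
    have hy₂y₂ : fB y₂ y₂ = 0 := by
      rw [hy₂]
      simp only [hB.add_left, hB.add_right, hB.smul_left, hB.smul_right, hz, hz₁, hz₁z, hzz₁, hyz, hy1,
        hB.refl _ _ hyz, hB.refl _ _ hy1, hyy]
      ring
    have hk : fA a₁ a₂ = σ l := by
      rw [ha₂, hA.add_right, hA.add_right, hA.smul_right, ha₁, hA.refl _ _ hx'1, ha₁a]; ring
    have hl₂ : fB z₁ y₂ = σ μ := by
      rw [hy₂, hB.add_right, hB.add_right, hB.smul_right, hz₁, hB.refl _ _ hy1, hz₁z]; ring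
    have hprod : σ l * σ μ = τ := by rw [hμ, hB.invol, mul_div_cancel₀ _ hσl]
    have hwts : f (tmul a₁ z₁) (tmul a₂ y₂) = τ := by rw [hO.ten, hk, hl₂, hprod]
    have hc' : -τ⁻¹ + σ (-τ⁻¹) = 0 := by
      rw [map_neg, map_inv₀, eq_neg_of_add_eq_zero_right hτs, inv_neg, neg_neg, neg_add_cancel]
    have hw := (hP a₁ z₁ ha₁ hz₁).add_smul hO.hV (hP a₂ y₂ ha₂a₂ hy₂y₂) (hO.pure_iso_right a₂ hy₂y₂) hc'
    rw [hwts, neg_mul, inv_mul_cancel₀ hτ, neg_one_smul, ← sub_eq_add_neg] at hw
    have ha₂a : fA a₂ a = 1 := by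
      rw [ha₂, hA.add_left, hA.add_left, hA.smul_left, haa, ha₁a, hx'a]; ring
    have hy₂z : fB y₂ z = 1 := by
      rw [hy₂, hB.add_left, hB.add_left, hB.smul_left, hz, hz₁z, hyz]; ring
    have hmem : tmul a₁ z₁ - tmul a₂ y₂ ∈ R := by
      rw [hR]
      refine rSub_absorb hO.hV _ (u := tmul a z₁) (hR ▸ haz₁) hw ?_ ?_ ?_
      · simp only [hO.hV.toSesq.sub_left, hO.hV.toSesq.sub_right, hO.pure_iso_right a₁ hz₁,
          hO.pure_iso_right a₂ hy₂y₂, hO.hV.herm (tmul a₂ y₂) (tmul a₁ z₁), hwts]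
        linear_combination -hτs
      · rw [hO.hV.toSesq.sub_left, hO.ten, hO.ten, ha₁a, hz₁z, ha₂a, hy₂z, sub_self]
      · rw [hO.hV.toSesq.sub_right, hO.ten, hO.ten, hz₁, haa₁, hA.herm a a₂, ha₂a, map_one, hl₂, one_mul, one_mul,
          zero_sub]
        exact neg_ne_zero.2 ((map_ne_zero σ).2 hμ0)
    have h2 : tmul a₂ (y + μ • z) ∈ R := hperp a₂ _ (by rw [hB.add_left, hB.smul_left, hyz, hz, mul_zero, add_zero])
    have h3 := R.neg_mem (R.add_mem hmem h2)
    have e : tmul x z₁ = -(tmul a₁ z₁ - tmul a₂ y₂ + tmul a₂ (y + μ • z)) + (fA x a₁ - l) • tmul a z₁ := by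
      rw [hy₂, ha₂, hx']
      simp only [tmul_add_left, tmul_add_right, tmul_sub_left, tmul_smul_left, tmul_smul_right]
      module
    rw [e]
    exact R.add_mem h3 (R.smul_mem _ haz₁)
  -- decomposition
  obtain ⟨w, hw⟩ : ∃ w, w = t - tmul (sl fB z t) z₁ := ⟨_, rfl⟩
  have hwR : w ∈ R := by
    let π : V →ₗ[F] V := LinearMap.id - (fac z₁).comp (sl fB z)
    have hπ : ∀ s, π s ∈ R := fun s => by
      rw [sum_tmul_basis s, map_sum]
      refine R.sum_mem fun p _ => ?_
      rw [map_smul]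
      refine R.smul_mem _ ?_
      simp only [π, LinearMap.sub_apply, LinearMap.id_apply, LinearMap.comp_apply, fac_apply, hO.sl_tmul]
      rw [tmul_smul_left, ← tmul_smul_right, ← tmul_sub_right]
      exact hperp _ _ (by rw [hB.toSesq.sub_left, hB.smul_left, hz₁z, mul_one, sub_self])
    rw [hw]
    exact hπ t
  rw [show t = w + tmul (sl fB z t) z₁ by rw [hw, sub_add_cancel]]
  exact R.add_mem hwR (hx₁ _ (by rw [← hO.f_sl, ht]))

/-- The transvection groups at all doubly isotropic tensors give all isometries of determinant one. -/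
theorem Pre.full_of_upt (hP : ∀ a z, fA a a = 0 → fB z z = 0 → UPt σ f M (tmul a z))
    (hcase : 4 ≤ Fintype.card β ∨ ∀ a y, fA a a = 0 → UPt σ f M (tmul a y)) : isoSL f ≤ M := by
  classical
  have hA := hO.hA
  have hB := hO.hB
  have hV := hO.hV
  refine fun g hg => mem_of_isometry hV (fun t htt => ?_) ?_ hg.1 hg.2
  · rcases eq_or_ne t 0 with rfl | ht0
    · exact UPt.zero hV
    obtain ⟨a', z', ha', hz', hne⟩ : ∃ a' z', fA a' a' = 0 ∧ fB z' z' = 0 ∧ f t (tmul a' z') ≠ 0 := by
      by_contra hc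
      push Not at hc
      refine ht0 (hV.eq_zero _ fun s => hV.refl _ _ ?_)
      have key : ∀ x y, f t (tmul x y) = 0 := by
        intro x y
        refine mem_of_iso_all hA hO.ha
          (p := { carrier := {x | f t (tmul x y) = 0}
                  add_mem' := fun h h' => by
                    simp only [Set.mem_setOf_eq] at h h' ⊢
                    rw [tmul_add_left, hV.add_right, h, h', add_zero]
                  zero_mem' := by simp only [Set.mem_setOf_eq]; rw [tmul_zero_left, hV.toSesq.zero_right]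
                  smul_mem' := fun c x h => by
                    simp only [Set.mem_setOf_eq] at h ⊢
                    rw [tmul_smul_left, hV.smul_right, h, mul_zero] }) (fun a'' ha'' => ?_) x
        refine mem_of_iso_all hB (by have := hO.hb; omega)
          (p := { carrier := {y | f t (tmul a'' y) = 0}
                  add_mem' := fun h h' => by
                    simp only [Set.mem_setOf_eq] at h h' ⊢
                    rw [tmul_add_right, hV.add_right, h, h', add_zero]
                  zero_mem' := by simp only [Set.mem_setOf_eq]; rw [tmul_zero_right, hV.toSesq.zero_right]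
                  smul_mem' := fun c x h => by
                    simp only [Set.mem_setOf_eq] at h ⊢
                    rw [tmul_smul_right, hV.smul_right, h, mul_zero] }) (fun z'' hz'' => hc a'' z'' ha'' hz'') y
      rw [hV.herm]
      suffices h0 : hV.toSesq.lin t = 0 by
        have := LinearMap.congr_fun h0 s
        rw [hV.toSesq.lin_apply, LinearMap.zero_apply] at this
        rw [this, map_zero]
      exact ext_pure fun x y => by rw [hV.toSesq.lin_apply, hV.herm, key, map_zero, LinearMap.zero_apply]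
    have ha'0 : a' ≠ 0 := fun e => hne (by rw [e, tmul_zero_left, hV.toSesq.zero_right])
    have hz'0 : z' ≠ 0 := fun e => hne (by rw [e, tmul_zero_right, hV.toSesq.zero_right])
    obtain ⟨a₁, ha₁, ha₁a⟩ := exists_partner hA ha' ha'0
    obtain ⟨z₁, hz₁, hz₁z⟩ := exists_partner hB hz' hz'0
    obtain ⟨s, hs⟩ : ∃ s, s = f t (tmul a' z') := ⟨_, rfl⟩
    rw [← hs] at hne
    obtain ⟨v', hv'⟩ : ∃ v', v' = s • tmul a₁ z₁ := ⟨_, rfl⟩
    have hv'v : f v' (tmul a' z') = s := by rw [hv', hV.smul_left, hO.ten, ha₁a, hz₁z, mul_one, mul_one]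
    have hv'P : UPt σ f M v' := hv' ▸ (hP _ _ ha₁ hz₁).smul hV s
    have hv'v' : f v' v' = 0 := by
      rw [hv', hV.smul_left, hV.smul_right, hO.pure_iso_right a₁ hz₁, mul_zero, mul_zero]
    obtain ⟨u, hu⟩ : ∃ u, u = s⁻¹ • (v' - t) := ⟨_, rfl⟩
    have huv : f u (tmul a' z') = 0 := by rw [hu, hV.smul_left, hV.toSesq.sub_left, hv'v, ← hs, sub_self, mul_zero]
    obtain ⟨-, l, hl, g, hg, hgx⟩ := hO.rSub_all hP hcase
      ha' ha'0 hz' hz'0 huv 1
    rw [one_smul] at hl hgx
    obtain ⟨T, hT, hTx⟩ := hP a' z' ha' hz' (f t v' / (s * σ s) - l) (by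
      have hσs : σ s ≠ 0 := (map_ne_zero σ).2 hne
      have e : f u u = -((f t v' + σ (f t v')) / (s * σ s)) := by
        rw [hu]
        simp only [hV.smul_left, hV.smul_right, hV.toSesq.sub_left, hV.toSesq.sub_right, hv'v', htt,
          hV.herm v' t, map_inv₀]
        field_simp
        ring
      rw [e, neg_neg] at hl
      rw [map_sub, map_div₀, map_mul, hV.invol, mul_comm (σ s) s, add_div] at *
      linear_combination -hl)
    have hv0 : f (tmul a' z') (tmul a' z') = 0 := hO.pure_iso_right a' hz'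
    have hgt : ((T * g : GL (α × β) F) : Mn) *ᵥ t = v' := by
      have hσs : σ s ≠ 0 := (map_ne_zero σ).2 hne
      rw [Units.val_mul, ← Matrix.mulVec_mulVec, hTx, hgx, ← hs]
      simp only [hV.add_left, hV.toSesq.sub_left, hV.smul_left, ← hs, huv, hv0]
      rw [hu]
      simp only [hV.smul_right, hV.toSesq.sub_right, htt, map_inv₀]
      match_scalars <;> field_simp <;> ring
    have hTg : T * g ∈ M := mul_mem hT hg
    have h1 := hv'P.map hV (inv_mem hTg) (hO.iso (inv_mem hTg))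
    rwa [← hgt, inv_mulVec_cancel] at h1
  · have h1 := hO.ha
    have h2 := hO.hb
    rw [Fintype.card_prod]
    calc 5 ≤ 2 * 3 := by norm_num
      _ ≤ _ := Nat.mul_le_mul h1 h2

end pre

variable (hO : Ovr σ fA fB f M)
include hO

/-- A transvection group at one doubly isotropic tensor gives one at all of them. -/
theorem Ovr.upt_pure {a : α → F} {z : β → F} (haa : fA a a = 0) (ha0 : a ≠ 0) (hz : fB z z = 0) (hz0 : z ≠ 0)
    (hP : UPt σ f M (tmul a z)) {a' : α → F} {z' : β → F} (ha' : fA a' a' = 0) (hz' : fB z' z' = 0) :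
    UPt σ f M (tmul a' z') := by
  rcases eq_or_ne a' 0 with rfl | ha'0
  · rw [tmul_zero_left]; exact UPt.zero hO.hV
  rcases eq_or_ne z' 0 with rfl | hz'0
  · rw [tmul_zero_right]; exact UPt.zero hO.hV
  obtain ⟨A, hA, c, hc, hAa⟩ := exists_move hO.hA haa ha0 ha' ha'0
  obtain ⟨B, hB, d, hd, hBz⟩ := exists_move hO.hB hz hz0 hz' hz'0
  have h1 := hP.map hO.hV (hO.kA hA) (hO.iso (hO.kA hA))
  have h2 := (h1.map hO.hV (hO.kB hB) (hO.iso (hO.kB hB))).smul hO.hV (c * d)⁻¹
  rwa [kg_apply, kg_apply, Units.val_one, Units.val_one, Matrix.one_mulVec, Matrix.one_mulVec, hAa, hBz,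
    tmul_smul_left, tmul_smul_right, smul_smul, smul_smul, mul_assoc, inv_mul_cancel₀ (mul_ne_zero hc hd),
    one_smul] at h2

/-- The transvection groups at all isotropic vectors. -/
theorem Ovr.full (hcase : 4 ≤ Fintype.card β ∨ ∀ a z, fA a a = 0 → a ≠ 0 → fB z z = 0 → z ≠ 0 →
    UPt σ f M (tmul a z) → ∀ a' y, fA a' a' = 0 → UPt σ f M (tmul a' y)) {a : α → F} {z : β → F} (haa : fA a a = 0) (ha0 : a ≠ 0) (hz : fB z z = 0) (hz0 : z ≠ 0)
    (hP₀ : UPt σ f M (tmul a z)) : isoSL f ≤ M :=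
  hO.toPre.full_of_upt (fun _ _ ha' hz' => hO.upt_pure haa ha0 hz hz0 hP₀ ha' hz')
    (hcase.imp_right fun h => h a z haa ha0 hz hz0 hP₀)

end Cfsg.Agent.Classical.TensorHerm
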