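import Cfsg.Agent.Lib.Classical.MaxTensorHermScal

/-!
A non-scalar root coefficient yields a transvection at a pure isotropic tensor.
-/

set_option autoImplicit false
set_option linter.unusedSectionVars false

namespace Cfsg.Agent.Classical.TensorHerm

open Matrix Module MaxTv TensorMax Overfield
open scoped Kronecker
open Cfsg.Agent.Classical.TensorRoot (kg kg_apply kg_isKron)

variable {F : Type*} [Field F] [Fintype F] {α β : Type} [Fintype α] [DecidableEq α] [Fintype β] [DecidableEq β]

local notation "V" => (α × β → F)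
local notation "Mn" => Matrix (α × β) (α × β) F
local notation "Ma" => Matrix α α F
local notation "Mb" => Matrix β β F
local notation "Ea" => ((α → F) →ₗ[F] (α → F))

section forms

variable {ι : Type} [Fintype ι] [DecidableEq ι] {σ : F ≃+* F} {h : (ι → F) → (ι → F) → F}

/-- A skew map with vanishing values at all isotropic vectors is scalar. -/
theorem scalar_of_iso (hs : Herm σ h) (hn : 2 ≤ Fintype.card ι) (D : (ι → F) →ₗ[F] (ι → F))
    (hskew : ∀ x y, h (D x) y + h x (D y) = 0) (hiso : ∀ a, h a a = 0 → h (D a) a = 0) :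
    ∃ k : F, ∀ x, D x = k • x := by
  obtain ⟨a, b, haa, hbb, hba⟩ := exists_hyp hs hn
  have hab : h a b = 1 := by rw [hs.herm, hba, map_one]
  have hflip : ∀ x y, h (D x) y = -σ (h (D y) x) := fun x y => by
    rw [eq_neg_of_add_eq_zero_left (hskew x y), hs.herm x (D y)]
  obtain ⟨τ, hτ, hτs⟩ := hs.exists_skew
  obtain ⟨z₀, hz₀⟩ := hs.exists_trace
  obtain ⟨k, hk⟩ : ∃ k, k = h (D a) b := ⟨_, rfl⟩
  have hab' : h (D b) a = k := by
    have h1 := hiso (a + τ • b) (by
      simp only [hs.add_left, hs.add_right, hs.smul_left, hs.smul_right, haa, hbb, hab, hba]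
      linear_combination hτs)
    simp only [map_add, map_smul, hs.add_left, hs.add_right, hs.smul_left, hs.smul_right, hiso a haa, hiso b hbb,
      ← hk] at h1
    have : τ * (h (D b) a - k) = 0 := by linear_combination h1 - k * hτs
    exact sub_eq_zero.1 ((mul_eq_zero.1 this).resolve_left hτ)
  have hperp : ∀ a b : ι → F, h a a = 0 → h b b = 0 → h a b = 1 → h b a = 1 →
      ∀ x, h x a = 0 → h x b = 0 → h (D x) b = 0 := by
    intro a b haa hbb hab hba x hxa hxb
    by_contra hu
    obtain ⟨s, hs'⟩ : ∃ s, s = z₀ / h (D x) b := ⟨_, rfl⟩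
    obtain ⟨l, hl⟩ := hs.exists_trace_eq (a := -h (s • x) (s • x)) (by rw [map_neg, hs.self_fixed])
    have hxa' := hs.refl _ _ hxa
    have hxb' := hs.refl _ _ hxb
    have key : ∀ l : F, l + σ l = -h (s • x) (s • x) → h (D (a + s • x + l • b)) (a + s • x + l • b) = 0 :=
      fun l hl => hiso _ (by
        simp only [hs.add_left, hs.add_right, hs.smul_left, hs.smul_right, haa, hbb, hab, hba, hxa, hxb, hxa',
          hxb'] at hl ⊢
        linear_combination hl)
    have h1 := key l hl
    have h2 := key (l + τ) (by rw [map_add]; linear_combination hl + hτs)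
    have hab2 : h (D b) a = h (D a) b := by
      have h3 := hiso (a + τ • b) (by
        simp only [hs.add_left, hs.add_right, hs.smul_left, hs.smul_right, haa, hbb, hab, hba]
        linear_combination hτs)
      simp only [map_add, map_smul, hs.add_left, hs.add_right, hs.smul_left, hs.smul_right, hiso a haa,
        hiso b hbb] at h3
      have : τ * (h (D b) a - h (D a) b) = 0 := by linear_combination h3 - h (D a) b * hτs
      exact sub_eq_zero.1 ((mul_eq_zero.1 this).resolve_left hτ)
    simp only [map_add, map_smul, hs.add_left, hs.add_right, hs.smul_left, hs.smul_right, hiso a haa,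
      hiso b hbb, hab2, hflip b x] at h1 h2
    have h4 : τ * (σ s * σ (h (D x) b) + s * h (D x) b) = 0 := by
      linear_combination h1 - h2 + (h (D a) b + s * h (D x) b) * hτs
    rw [← map_mul, hs', div_mul_cancel₀ _ hu, add_comm] at h4
    exact hz₀ ((mul_eq_zero.1 h4).resolve_left hτ)
  refine ⟨k, ?_⟩
  have hdiag : ∀ x, h x a = 0 → h x b = 0 → h (D x) x = k * h x x := by
    intro x hxa hxb
    have hDb := hperp a b haa hbb hab hba x hxa hxb
    have hDa := hperp b a hbb haa hba hab x hxb hxa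
    obtain ⟨l, hl⟩ := hs.exists_trace_eq (a := -h x x) (by rw [map_neg, hs.self_fixed])
    have h1 := hiso (a + x + l • b) (by
      simp only [hs.add_left, hs.add_right, hs.smul_left, hs.smul_right, haa, hbb, hab, hba, hxa, hxb,
        hs.refl _ _ hxa, hs.refl _ _ hxb]
      linear_combination hl)
    simp only [map_add, map_smul, hs.add_left, hs.add_right, hs.smul_left, hs.smul_right, hiso a haa, hiso b hbb,
      ← hk, hab', hDa, hDb, hflip a x, hflip b x, map_zero] at h1
    linear_combination h1 - k * hl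
  intro x
  refine sub_eq_zero.1 (hs.eq_zero _ fun y => hs.refl _ _ ?_)
  rw [hs.toSesq.sub_left, hs.smul_left, sub_eq_zero]
  have hkk : k + σ k = 0 := by
    rw [hk]
    nth_rw 2 [hflip a b]
    rw [map_neg, hs.invol, hab', ← hk, add_neg_cancel]
  have hperp2 : ∀ x y, h x a = 0 → h x b = 0 → h y a = 0 → h y b = 0 → h (D x) y = k * h x y := by
    intro x y hxa hxb hya hyb
    obtain ⟨c, hc⟩ := hs.exists_moved
    have e : ∀ c : F, σ c * (h (D x) y - k * h x y) + c * (h (D y) x - k * h y x) = 0 := fun c => by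
      have h1 := hdiag (x + c • y) (by rw [hs.add_left, hs.smul_left, hxa, hya, mul_zero, add_zero])
        (by rw [hs.add_left, hs.smul_left, hxb, hyb, mul_zero, add_zero])
      simp only [map_add, map_smul, hs.add_left, hs.add_right, hs.smul_left, hs.smul_right, hdiag x hxa hxb,
        hdiag y hya hyb] at h1
      linear_combination h1
    have e1 := e 1
    rw [map_one, one_mul, one_mul] at e1
    have : (σ c - c) * (h (D x) y - k * h x y) = 0 := by linear_combination e c - c * e1
    exact sub_eq_zero.1 ((mul_eq_zero.1 this).resolve_left (sub_ne_zero.2 hc))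
  have dec : ∀ x, ∃ x', x = h x b • a + h x a • b + x' ∧ h x' a = 0 ∧ h x' b = 0 := fun x =>
    ⟨x - h x b • a - h x a • b, by abel,
      by rw [hs.toSesq.sub_left, hs.toSesq.sub_left, hs.smul_left, hs.smul_left, haa, hba]; ring,
      by rw [hs.toSesq.sub_left, hs.toSesq.sub_left, hs.smul_left, hs.smul_left, hab, hbb]; ring⟩
  obtain ⟨x', ex, hxa, hxb⟩ := dec x
  obtain ⟨y', ey, hya, hyb⟩ := dec y
  have hDxb := hperp a b haa hbb hab hba x' hxa hxb
  have hDxa := hperp b a hbb haa hba hab x' hxb hxa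
  have hDyb := hperp a b haa hbb hab hba y' hya hyb
  have hDya := hperp b a hbb haa hba hab y' hyb hya
  rw [ex, ey]
  simp only [map_add, map_smul, hs.add_left, hs.add_right, hs.smul_left, hs.smul_right, hiso a haa, hiso b hbb,
    ← hk, hab', hDxa, hDxb, hflip a y', hflip b y', hDya, hDyb, hperp2 x' y' hxa hxb hya hyb, haa, hbb, hab, hba,
    hxa, hxb, hs.refl _ _ hya, hs.refl _ _ hyb, map_zero]
  ring

end forms

variable {σ : F ≃+* F} {fA : (α → F) → (α → F) → F} {fB : (β → F) → (β → F) → F}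
  {f : (α × β → F) → (α × β → F) → F} {M : Subgroup (GL (α × β) F)}

/-- Maps to the first factor agreeing on pure tensors are equal. -/
theorem ext_first {L L' : V →ₗ[F] (α → F)} (h : ∀ x y, L (tmul x y) = L' (tmul x y)) : L = L' :=
  LinearMap.ext fun t => by rw [sum_tmul_basis t]; simp only [map_sum, map_smul, h]

section pre

variable (hO : Pre σ fA fB f M)
include hO

theorem Pre.root_sq {z : β → F} (hz : fB z z = 0) : fn fB z ⬝ᵥ z = 0 := by rw [fn_dot hO.hB.toSesq, hz]

theorem Pre.coef_add {z : β → F} (hz : fB z z = 0) {D D' : Ea} (h : In M (rootMap z (fn fB z) D))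
    (h' : In M (rootMap z (fn fB z) D')) : In M (rootMap z (fn fB z) (D + D')) := by
  rw [rootMap_add]
  exact h.add h' fun t => rootMap_sq (hO.root_sq hz) _ _ _

theorem Pre.coef_sub {z : β → F} (hz : fB z z = 0) {D D' : Ea} (h : In M (rootMap z (fn fB z) D))
    (h' : In M (rootMap z (fn fB z) D')) : In M (rootMap z (fn fB z) (D - D')) := by
  have := h.sub h' (fun t => rootMap_sq (hO.root_sq hz) _ _ _) (fun t => rootMap_sq (hO.root_sq hz) _ _ _)
  convert this using 1
  exact LinearMap.ext fun t => by simp only [rootMap_apply, LinearMap.sub_apply, tmul_sub_left]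

theorem Pre.coef_skew {z : β → F} (hz : fB z z = 0) (hz0 : z ≠ 0) {D : Ea} (h : In M (rootMap z (fn fB z) D))
    (x x' : α → F) : fA (D x) x' + fA x (D x') = 0 := by
  obtain ⟨g, hg, hgx⟩ := h
  obtain ⟨u, hu', hu⟩ := exists_partner hO.hB hz hz0
  have hzu : fB z u = 1 := by rw [hO.hB.herm, hu, map_one]
  have := hO.iso hg (tmul x u) (tmul x' u)
  rw [hgx, hgx, rootMap_apply, rootMap_apply, slice_tmul, slice_tmul, fn_dot hO.hB.toSesq, hu, one_smul, one_smul,
    hO.hV.add_left, hO.hV.add_right, hO.hV.add_right, hO.ten, hO.ten, hO.ten, hO.ten, hu, hu', hz, hzu] at this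
  linear_combination this

theorem Pre.coef_scale {z : β → F} (hz : fB z z = 0) (hz0 : z ≠ 0) {D : Ea}
    (h : In M (rootMap z (fn fB z) D)) {r : F} (hr : σ r = r) : In M (rootMap z (fn fB z) ((r * r) • D)) := by
  rcases eq_or_ne r 0 with rfl | hr0
  · rw [mul_zero, zero_smul]
    convert In.zero (M := M) using 1
    exact LinearMap.ext fun t => by simp [rootMap_apply, tmul_zero_left]
  obtain ⟨B, hB, hBz⟩ := exists_scale hO.hB hz hz0 hr hr0
  convert h.conj (hO.kB hB) using 1
  refine LinearMap.ext fun t => ?_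
  obtain ⟨s, rfl⟩ : ∃ s, (kg (1 : GL α F) B : Mn) *ᵥ s = t := ⟨_, mulVec_inv_cancel _ t⟩
  rw [conjL_apply, inv_mulVec_cancel, rootMap_apply, rootMap_apply, kg_apply, Units.val_one, Matrix.one_mulVec, hBz]
  have hsl : slice (fn fB z) ((kg (1 : GL α F) B : Mn) *ᵥ s) = r⁻¹ • slice (fn fB z) s := by
    refine LinearMap.congr_fun (f := (slice (fn fB z)).comp (Matrix.toLin' (kg (1 : GL α F) B : Mn)))
      (g := r⁻¹ • slice (fn fB z)) (ext_first fun x y => ?_) s
    simp only [LinearMap.comp_apply, LinearMap.smul_apply, Matrix.toLin'_apply, kg_apply, Units.val_one,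
      Matrix.one_mulVec, slice_tmul, fn_dot hO.hB.toSesq, smul_smul]
    congr 1
    have e := hB.1 y z
    rw [hBz, hO.hB.smul_right, hr] at e
    rw [← e, inv_mul_cancel_left₀ hr0]
  simp only [hsl, map_smul, LinearMap.smul_apply, smul_smul, tmul_smul_left, tmul_smul_right]
  congr 1
  field_simp

theorem Pre.coef_fixed {z : β → F} (hz : fB z z = 0) (hz0 : z ≠ 0) {D : Ea}
    (h : In M (rootMap z (fn fB z) D)) {s : F} (hs : σ s = s) : In M (rootMap z (fn fB z) (s • D)) := by
  by_cases h2 : (2 : F) = 0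
  · haveI : CharP F 2 := CharTwo.of_one_ne_zero_of_two_eq_zero one_ne_zero h2
    haveI : Fact (Nat.Prime 2) := ⟨Nat.prime_two⟩
    obtain ⟨r, hr⟩ := Finite.surjective_of_injective (frobenius_inj F 2) s
    simp only [frobenius_def] at hr
    have hσ : σ r = r := frobenius_inj F 2 (by rw [frobenius_def, frobenius_def, ← map_pow, hr, hs])
    rw [← hr, pow_two]
    exact hO.coef_scale hz hz0 h hσ
  · have e : s • D = ((s + 1) / 2 * ((s + 1) / 2)) • D - ((s - 1) / 2 * ((s - 1) / 2)) • D := by
      match_scalars; field_simp; ring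
    rw [e]
    refine hO.coef_sub hz (hO.coef_scale hz hz0 h ?_) (hO.coef_scale hz hz0 h ?_) <;>
      simp only [map_div₀, map_add, map_sub, map_one, map_ofNat, hs]

theorem Pre.coef_conj_of {z : β → F} {D : Ea} (h : In M (rootMap z (fn fB z) D)) {A : GL α F} (hm : kg A (1 : GL β F) ∈ M) :
    In M (rootMap z (fn fB z) ((Matrix.toLin' (A : Ma)).comp (D.comp (Matrix.toLin' ((A⁻¹ : GL α F) : Ma))))) := by
  convert h.conj hm using 1
  refine LinearMap.ext fun t => ?_
  obtain ⟨s, rfl⟩ : ∃ s, (kg A (1 : GL β F) : Mn) *ᵥ s = t := ⟨_, mulVec_inv_cancel _ t⟩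
  rw [conjL_apply, inv_mulVec_cancel, rootMap_apply, rootMap_apply, kg_apply, Units.val_one, Matrix.one_mulVec]
  have hsl : slice (fn fB z) ((kg A (1 : GL β F) : Mn) *ᵥ s) = (A : Ma) *ᵥ slice (fn fB z) s := by
    refine LinearMap.congr_fun (f := (slice (fn fB z)).comp (Matrix.toLin' (kg A (1 : GL β F) : Mn)))
      (g := (Matrix.toLin' (A : Ma)).comp (slice (fn fB z))) (ext_first fun x y => ?_) s
    simp only [LinearMap.comp_apply, Matrix.toLin'_apply, kg_apply, Units.val_one, Matrix.one_mulVec, slice_tmul,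
      Matrix.mulVec_smul]
  simp only [hsl, LinearMap.comp_apply, Matrix.toLin'_apply, inv_mulVec_cancel]

end pre

variable (hO : Ovr σ fA fB f M)
include hO

theorem Ovr.coef_conj {z : β → F} {D : Ea} (h : In M (rootMap z (fn fB z) D)) {A : GL α F} (hA : A ∈ isoSL fA) :
    In M (rootMap z (fn fB z) ((Matrix.toLin' (A : Ma)).comp (D.comp (Matrix.toLin' ((A⁻¹ : GL α F) : Ma))))) :=
  hO.toPre.coef_conj_of h (hO.kA hA)

/-- A non-scalar coefficient gives a transvection at a pure isotropic tensor. -/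
theorem Ovr.exists_upt (hq : (∃ r : F, σ r = r ∧ r ≠ 0 ∧ r ≠ 1) ∨ 3 ≤ Fintype.card α) (hns : ¬ Scal fB M) :
    ∃ a z, fA a a = 0 ∧ a ≠ 0 ∧ fB z z = 0 ∧ z ≠ 0 ∧ UPt σ f M (tmul a z) := by
  classical
  have hA := hO.hA
  unfold Scal at hns
  push Not at hns
  obtain ⟨z, hz, hz0, D, hD, hnsc⟩ := hns
  have hskew := hO.coef_skew hz hz0 hD
  obtain ⟨a, haa, hμ⟩ : ∃ a, fA a a = 0 ∧ fA (D a) a ≠ 0 := by
    by_contra hc
    push Not at hc
    obtain ⟨k, hk⟩ := scalar_of_iso hA hO.ha D hskew hc
    obtain ⟨x, hx⟩ := hnsc k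
    exact hx (hk x)
  obtain ⟨μ, hμd⟩ : ∃ μ, μ = fA (D a) a := ⟨_, rfl⟩
  rw [← hμd] at hμ
  have ha0 : a ≠ 0 := fun e => hμ (by rw [hμd, e, map_zero, hA.toSesq.zero_left])
  have hDflip : ∀ x, fA (D x) a = -fA x (D a) := fun x => eq_neg_of_add_eq_zero_left (hskew x a)
  have hμs : μ + σ μ = 0 := by
    have := hskew a a
    rwa [hA.herm a (D a), ← hμd] at this
  suffices hP : ∃ c : F, c ≠ 0 ∧ In M (rootMap z (fn fB z) (c • (hA.toSesq.lin a).smulRight a)) by
    obtain ⟨c, hc0, hc⟩ := hP
    refine ⟨a, z, haa, ha0, hz, hz0, fun c' hc' => ?_⟩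
    have hcs : c + σ c = 0 := by
      obtain ⟨b, -, hb⟩ := exists_partner hA haa ha0
      have := hO.coef_skew hz hz0 hc b b
      simp only [LinearMap.smul_apply, LinearMap.smulRight_apply, hA.toSesq.lin_apply, hb, one_smul, hA.smul_left,
        hA.smul_right, hA.herm a b, map_one, mul_one] at this
      exact this
    have := hO.coef_fixed hz hz0 hc (s := c' / c) (by
      rw [map_div₀, eq_neg_of_add_eq_zero_right hc', eq_neg_of_add_eq_zero_right hcs, neg_div_neg_eq])
    obtain ⟨g, hg, hgx⟩ := this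
    refine ⟨g, hg, fun t => ?_⟩
    rw [hgx, rootMap_apply, hO.f_sl]
    simp only [LinearMap.smul_apply, LinearMap.smulRight_apply, hA.toSesq.lin_apply, smul_smul, tmul_smul_left, sl]
    congr 2
    field_simp
  have hY : ∀ (A : GL α F) (x : α → F) (l : F), (∀ x, (A : Ma) *ᵥ x = x + (l * fA x a) • a) →
      ((A⁻¹ : GL α F) : Ma) *ᵥ x = x - (l * fA x a) • a := fun A x l hA' => gl_mulVec_injective A (by
    show (A : Ma) *ᵥ _ = (A : Ma) *ᵥ _
    rw [mulVec_inv_cancel, hA', hA.toSesq.sub_left, hA.smul_left, haa, mul_zero, sub_zero, sub_add_cancel])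
  -- the difference of a conjugate
  have hG : ∀ c : F, c + σ c = 0 → ∀ G : Ea,
      (∀ x, G x = -(c * fA x (D a)) • a - (c * fA x a) • D a - (c * c * μ * fA x a) • a) →
      In M (rootMap z (fn fB z) G) := by
    intro c hc G hGx
    obtain ⟨A, hA', hAx⟩ := exists_eich hA (u := 0) (l := c) haa (hA.toSesq.zero_left _)
      (by rw [hA.toSesq.zero_left, neg_zero, hc])
    have hAx' : ∀ x, (A : Ma) *ᵥ x = x + (c * fA x a) • a := fun x => by
      rw [hAx, hA.toSesq.zero_right, zero_smul, smul_zero, add_zero, sub_zero]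
    have := hO.coef_sub hz (hO.coef_conj hD hA') hD
    convert this using 2
    refine LinearMap.ext fun x => ?_
    simp only [LinearMap.sub_apply, LinearMap.comp_apply, Matrix.toLin'_apply, hY A x c hAx', hAx', map_sub,
      map_smul, hA.toSesq.sub_left, hA.smul_left, ← hμd, hDflip, hGx]
    module
  let P : Ea := (hA.toSesq.lin a).smulRight a
  let E : Ea := (hA.toSesq.lin (D a)).smulRight a + (hA.toSesq.lin a).smulRight (D a)
  by_cases hr : ∃ r : F, σ r = r ∧ r ≠ 0 ∧ r ≠ 1
  · obtain ⟨r, hrs, hr0, hr1⟩ := hr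
    obtain ⟨τ, hτ, hτs⟩ := hA.exists_skew
    have h1 := hG τ hτs (-τ • E - (τ * τ * μ) • P) fun x => by
      simp only [E, P, LinearMap.sub_apply, LinearMap.smul_apply, LinearMap.add_apply, LinearMap.smulRight_apply,
        hA.toSesq.lin_apply]
      module
    have h2 := hG (r * τ) (by rw [map_mul, hrs, ← mul_add, hτs, mul_zero])
      (-(r * τ) • E - (r * τ * (r * τ) * μ) • P) fun x => by
      simp only [E, P, LinearMap.sub_apply, LinearMap.smul_apply, LinearMap.add_apply, LinearMap.smulRight_apply,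
        hA.toSesq.lin_apply]
      module
    refine ⟨(r * r - r) * (τ * τ * μ), mul_ne_zero (fun e => ?_) (mul_ne_zero (mul_ne_zero hτ hτ) hμ), ?_⟩
    · have : r * (r - 1) = 0 := by linear_combination e
      exact hr1 (sub_eq_zero.1 ((mul_eq_zero.1 this).resolve_left hr0))
    · have := hO.coef_sub hz (hO.coef_fixed hz hz0 h1 hrs) h2
      convert this using 2
      module
  -- the field of two elements
  push Not at hr
  have h3 : 3 ≤ Fintype.card α := hq.resolve_left fun ⟨r, hrs, hr0, hr1⟩ => hr1 (hr r hrs hr0)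
  have h2 : (1 : F) + 1 = 0 := by
    by_contra hc
    exact one_ne_zero (add_eq_left.1 (hr (1 + 1) (by rw [map_add, map_one]) hc) : (1 : F) = 0)
  have hμ1 : μ = 1 := hr μ (by linear_combination hμs - μ * h2) hμ
  obtain ⟨b, hb⟩ : ∃ b, b = D a := ⟨_, rfl⟩
  rw [← hb] at hμd
  have hba : fA b a = 1 := by rw [← hμd, hμ1]
  have hab : fA a b = 1 := by rw [hA.herm, hba, map_one]
  have h1 := hG 1 (by rw [map_one, h2]) (-(E + P)) fun x => by
    simp only [E, P, LinearMap.neg_apply, LinearMap.add_apply, LinearMap.smulRight_apply, hA.toSesq.lin_apply, hμ1]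
    module
  -- a third direction
  obtain ⟨v, hvb, hva, hvv⟩ : ∃ v, fA v b = 0 ∧ fA v a = 0 ∧ fA v v ≠ 0 := by
    obtain ⟨l, hl⟩ := hA.exists_trace_eq (a := -fA b b) (by rw [map_neg, hA.self_fixed])
    have hb'b' : fA (b + l • a) (b + l • a) = 0 := by
      simp only [hA.add_left, hA.add_right, hA.smul_left, hA.smul_right, haa, hab, hba]
      linear_combination hl
    have hb'a : fA (b + l • a) a = 1 := by rw [hA.add_left, hA.smul_left, haa, hba, mul_zero, add_zero]
    have hsp := perp2_split hA hb'b' haa hb'a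
    obtain ⟨v, hv, hvv⟩ := hA.exists_aniso_of_nd (T := perp2 hA (b + l • a) a) (fun w hw hw0 => by
      obtain ⟨x, hx⟩ := hA.toSesq.exists_one hw0
      obtain ⟨w', hw', hxw⟩ := hsp x
      refine ⟨w', hw', ?_⟩
      have := hxw w hw
      rw [hA.toSesq.sub_left, hx, sub_eq_zero] at this
      rw [← this]; exact one_ne_zero) fun e => by
      have := finrank_perp2 hA (b + l • a) a
      rw [e, finrank_bot] at this
      omega
    refine ⟨v, ?_, hv.2, hvv⟩
    have := hv.1
    rwa [hA.add_right, hA.smul_right, hv.2, mul_zero, add_zero] at this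
  let Q : F → Ea := fun κ => σ κ • (hA.toSesq.lin v).smulRight a + κ • (hA.toSesq.lin a).smulRight v -
    (κ * σ κ * fA v v) • P
  have hQ : ∀ κ, In M (rootMap z (fn fB z) (-Q κ)) := by
    intro κ
    obtain ⟨l, hl⟩ := hA.exists_trace_eq (a := -fA (κ • v) (κ • v)) (by rw [map_neg, hA.self_fixed])
    obtain ⟨A, hA', hAx⟩ := exists_eich hA (u := κ • v) haa (by rw [hA.smul_left, hva, mul_zero]) hl
    have hAb : (A : Ma) *ᵥ b = b + κ • v + l • a := by
      rw [hAx, hba, hA.smul_right, hA.refl _ _ hvb, mul_zero, zero_smul, one_smul, sub_zero, mul_one]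
    have hAa : (A : Ma) *ᵥ a = a := by
      rw [hAx, haa, hA.smul_right, hA.refl _ _ hva, mul_zero, zero_smul, zero_smul, mul_zero, zero_smul, add_zero,
        sub_zero, add_zero]
    have hinv : ∀ x w, fA (((A⁻¹ : GL α F) : Ma) *ᵥ x) w = fA x ((A : Ma) *ᵥ w) := fun x w => by
      rw [← hA'.1, mulVec_inv_cancel]
    have := hO.coef_sub hz (hO.coef_conj h1 hA') h1
    convert this using 2
    refine LinearMap.ext fun x => ?_
    rw [hA.smul_left, hA.smul_right] at hl
    simp only [Q, E, P, LinearMap.sub_apply, LinearMap.add_apply, LinearMap.neg_apply, LinearMap.comp_apply,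
      LinearMap.smul_apply, LinearMap.smulRight_apply, hA.toSesq.lin_apply, Matrix.toLin'_apply, Matrix.mulVec_neg,
      Matrix.mulVec_add, Matrix.mulVec_smul, hinv, ← hb, hAa, hAb, hA.add_right, hA.smul_right]
    match_scalars
    all_goals first
      | ring1
      | linear_combination fA x a * hl
      | linear_combination (-fA x a) * hl
  obtain ⟨z₀, hz₀⟩ := hA.exists_trace
  have hfix : σ ((z₀ + σ z₀) * fA v v) = (z₀ + σ z₀) * fA v v := by
    rw [map_mul, map_add, hA.invol, hA.self_fixed, add_comm]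
  refine ⟨(z₀ + σ z₀) * fA v v, mul_ne_zero hz₀ hvv, ?_⟩
  have := hO.coef_sub hz (hO.coef_sub hz (hQ (z₀ + 1)) (hQ z₀)) (hQ 1)
  convert this using 2
  simp only [Q, map_add, map_one, P]
  module

end Cfsg.Agent.Classical.TensorHerm
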