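import Cfsg.Agent.Lib.Classical.DicksonGeneration
import Cfsg.Agent.Lib.Classical.MaxDecomp
import Mathlib.LinearAlgebra.Matrix.Charpoly.Coeff
import Mathlib.GroupTheory.PGroup

/-!
Two quadratic unipotent isometries of a non-degenerate bilinear form generate a `p`-group, or their group has an
involution commuting with both.
-/

set_option autoImplicit false
set_option linter.unusedSectionVars false

namespace Cfsg.Agent.Classical.QuadPair

open Matrix Module MaxTv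

variable {F : Type*} [Field F] [Fintype F] {ι : Type} [Fintype ι] [DecidableEq ι]

local notation "Mn" => Matrix ι ι F

/-- A pair of quadratic unipotent isometries of a non-degenerate bilinear form. -/
structure Pair (Wf : (ι → F) →+ (ι → F) →+ F) (t t' : GL ι F) : Prop where
  two : (2 : F) ≠ 0
  nd : ∀ x, (∀ y, Wf x y = 0) → x = 0
  symm : ∀ x y, Wf x y = 0 → Wf y x = 0
  iso : ∀ x y, Wf ((t : Matrix ι ι F) *ᵥ x) ((t : Matrix ι ι F) *ᵥ y) = Wf x y
  iso' : ∀ x y, Wf ((t' : Matrix ι ι F) *ᵥ x) ((t' : Matrix ι ι F) *ᵥ y) = Wf x y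
  sq : ((t : Matrix ι ι F) - 1) * ((t : Matrix ι ι F) - 1) = 0
  sq' : ((t' : Matrix ι ι F) - 1) * ((t' : Matrix ι ι F) - 1) = 0

/-- `A'` is adjoint to `A`. -/
def Adj (Wf : (ι → F) →+ (ι → F) →+ F) (A A' : Matrix ι ι F) : Prop :=
  ∀ x y, Wf (A *ᵥ x) y = Wf x (A' *ᵥ y)

variable {Wf : (ι → F) →+ (ι → F) →+ F}

theorem Adj.add {A A' B B' : Mn} (h : Adj Wf A A') (h' : Adj Wf B B') : Adj Wf (A + B) (A' + B') := fun x y => by
  rw [Matrix.add_mulVec, Matrix.add_mulVec, map_add, map_add, AddMonoidHom.add_apply, h, h']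

theorem Adj.neg {A A' : Mn} (h : Adj Wf A A') : Adj Wf (-A) (-A') := fun x y => by
  rw [Matrix.neg_mulVec, Matrix.neg_mulVec, map_neg, map_neg, AddMonoidHom.neg_apply, h]

theorem Adj.mul {A A' B B' : Mn} (h : Adj Wf A A') (h' : Adj Wf B B') : Adj Wf (A * B) (B' * A') := fun x y => by
  rw [← Matrix.mulVec_mulVec, ← Matrix.mulVec_mulVec, h, h']

theorem Adj.one : Adj Wf (1 : Mn) 1 := fun x y => by simp

theorem Adj.zero : Adj Wf (0 : Mn) 0 := fun x y => by simp

theorem adj_sub_one {t : GL ι F} (hiso : ∀ x y, Wf ((t : Mn) *ᵥ x) ((t : Mn) *ᵥ y) = Wf x y)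
    (hsq : ((t : Mn) - 1) * ((t : Mn) - 1) = 0) : Adj Wf ((t : Mn) - 1) (-((t : Mn) - 1)) := by
  obtain ⟨N, hN⟩ : ∃ N, N = (t : Mn) - 1 := ⟨_, rfl⟩
  have ht : (t : Mn) = 1 + N := by rw [hN]; abel
  rw [← hN]
  rw [← hN] at hsq
  intro x y
  have h1 := hiso x y
  have h2 := hiso x (N *ᵥ y)
  rw [ht, Matrix.add_mulVec, Matrix.add_mulVec, Matrix.one_mulVec, Matrix.one_mulVec] at h1 h2
  rw [Matrix.mulVec_mulVec, hsq, Matrix.zero_mulVec, add_zero] at h2
  simp only [map_add, AddMonoidHom.add_apply] at h1 h2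
  rw [Matrix.neg_mulVec, map_neg]
  linear_combination h1 - h2

variable {t t' : GL ι F}

/-- The central element of the algebra of a pair. -/
def kk (t t' : GL ι F) : Matrix ι ι F :=
  ((t : Matrix ι ι F) - 1) * ((t' : Matrix ι ι F) - 1) + ((t' : Matrix ι ι F) - 1) * ((t : Matrix ι ι F) - 1)

/-- The scalars of the algebra of a pair. -/
def Sc (t t' : GL ι F) : Subring (Matrix ι ι F) := Subring.closure {kk t t'}

/-- The elements of the group of a pair, in the algebra. -/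
def Form (t t' : GL ι F) (g : Matrix ι ι F) : Prop :=
  ∃ q₀ ∈ Sc t t', ∃ q₁ ∈ Sc t t', ∃ q₂ ∈ Sc t t', ∃ q₃ ∈ Sc t t',
    g = 1 + (kk t t' * q₀ + q₁ * ((t : Matrix ι ι F) - 1) + q₂ * ((t' : Matrix ι ι F) - 1) +
      q₃ * (((t : Matrix ι ι F) - 1) * ((t' : Matrix ι ι F) - 1)))

variable (h : Pair Wf t t')
include h

theorem Pair.comm_kk : Commute (kk t t') ((t : Mn) - 1) ∧ Commute (kk t t') ((t' : Mn) - 1) := by
  obtain ⟨N, hN⟩ : ∃ N, N = (t : Mn) - 1 := ⟨_, rfl⟩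
  obtain ⟨N', hN'⟩ : ∃ N', N' = (t' : Mn) - 1 := ⟨_, rfl⟩
  rw [kk, ← hN, ← hN']
  have e := h.sq; rw [← hN] at e
  have e' := h.sq'; rw [← hN'] at e'
  constructor
  · show (N * N' + N' * N) * N = N * (N * N' + N' * N)
    rw [add_mul, mul_add, mul_assoc N' N N, e, mul_zero, add_zero, ← mul_assoc N N N', e, zero_mul, zero_add,
      mul_assoc]
  · show (N * N' + N' * N) * N' = N' * (N * N' + N' * N)
    rw [add_mul, mul_add, mul_assoc N N' N', e', mul_zero, zero_add, ← mul_assoc N' N' N, e', zero_mul, add_zero,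
      mul_assoc]

theorem Pair.sc_comm {q : Mn} (hq : q ∈ Sc t t') : Commute q ((t : Mn) - 1) ∧ Commute q ((t' : Mn) - 1) ∧
    ∀ r ∈ Sc t t', Commute q r := by
  have hle : Sc t t' ≤ Subring.centralizer {(t : Mn) - 1, (t' : Mn) - 1, kk t t'} := by
    refine Subring.closure_le.2 ?_
    rintro _ rfl
    rw [SetLike.mem_coe, Subring.mem_centralizer_iff]
    rintro g (rfl | rfl | rfl)
    · exact h.comm_kk.1.eq.symm
    · exact h.comm_kk.2.eq.symm
    · rfl
  have hc := Subring.mem_centralizer_iff.1 (hle hq)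
  refine ⟨(hc _ (by simp)).symm, (hc _ (by simp)).symm, fun r hr => ?_⟩
  have hle' : Sc t t' ≤ Subring.centralizer {q} := by
    refine Subring.closure_le.2 ?_
    rintro _ rfl
    rw [SetLike.mem_coe, Subring.mem_centralizer_iff]
    rintro g rfl
    exact (hc _ (by simp)).symm
  exact (Subring.mem_centralizer_iff.1 (hle' hr) q rfl)

theorem Pair.sc_adj {q : Mn} (hq : q ∈ Sc t t') : Adj Wf q q := by
  have hN := adj_sub_one h.iso h.sq
  have hN' := adj_sub_one h.iso' h.sq'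
  have hk : Adj Wf (kk t t') (kk t t') := by
    have := (hN.mul hN').add (hN'.mul hN)
    rw [neg_mul_neg, neg_mul_neg, add_comm (((t' : Mn) - 1) * ((t : Mn) - 1))] at this
    exact this
  induction hq using Subring.closure_induction with
  | mem x hx => rw [Set.mem_singleton_iff.1 hx]; exact hk
  | zero => exact Adj.zero
  | one => exact Adj.one
  | add x y _ _ hx hy => exact hx.add hy
  | neg x _ hx => exact hx.neg
  | mul x y hx' hy' hx hy =>
    have := hx.mul hy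
    rwa [← ((h.sc_comm hx').2.2 y hy').eq] at this

theorem Pair.form_mul {g g' : Mn} (hg : Form t t' g) (hg' : Form t t' g') : Form t t' (g * g') := by
  obtain ⟨a₀, ha₀, a₁, ha₁, a₂, ha₂, a₃, ha₃, rfl⟩ := hg
  obtain ⟨b₀, hb₀, b₁, hb₁, b₂, hb₂, b₃, hb₃, rfl⟩ := hg'
  obtain ⟨N, hN⟩ : ∃ N, N = (t : Mn) - 1 := ⟨_, rfl⟩
  obtain ⟨N', hN'⟩ : ∃ N', N' = (t' : Mn) - 1 := ⟨_, rfl⟩
  obtain ⟨K, hK⟩ : ∃ K, K = kk t t' := ⟨_, rfl⟩
  have e := h.sq; rw [← hN] at e
  have e' := h.sq'; rw [← hN'] at e'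
  have hKe : N' * N = K - N * N' := by rw [hK, kk, ← hN, ← hN']; abel
  have cK : ∀ q, q ∈ Sc t t' → Commute q K := fun q hq =>
    hK ▸ (h.sc_comm hq).2.2 _ (Subring.subset_closure (Set.mem_singleton _))
  have hKm : K ∈ Sc t t' := hK ▸ Subring.subset_closure (Set.mem_singleton _)
  have cN : ∀ q, q ∈ Sc t t' → Commute N q := fun q hq => hN ▸ (h.sc_comm hq).1.symm
  have cN' : ∀ q, q ∈ Sc t t' → Commute N' q := fun q hq => hN' ▸ (h.sc_comm hq).2.1.symm
  have cNN : ∀ q, q ∈ Sc t t' → Commute (N * N') q := fun q hq => (cN q hq).mul_left (cN' q hq)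
  have r1 : N' * (N * N') = K * N' := by
    rw [← mul_assoc, hKe, sub_mul, mul_assoc N N' N', e', mul_zero, sub_zero]
  have r2 : N * N' * N = K * N := by
    rw [mul_assoc, hKe, mul_sub, ← mul_assoc N N N', e, zero_mul, sub_zero, (cN K hKm).eq]
  have r3 : N * N' * (N * N') = K * (N * N') := by rw [mul_assoc N N', r1, ← mul_assoc, (cN K hKm).eq, mul_assoc]
  -- products of monomials
  have mv : ∀ (X : Mn) q Y, q ∈ Sc t t' → Commute X q → X * (q * Y) = q * (X * Y) := fun X q Y _ hc => by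
    rw [← mul_assoc, hc.eq, mul_assoc]
  refine ⟨a₀ + b₀ + K * a₀ * b₀ + a₂ * b₁, ?_, a₁ + b₁ + K * a₀ * b₁ + a₁ * (K * b₀) + a₃ * b₁ * K, ?_,
    a₂ + b₂ + K * a₀ * b₂ + a₂ * (K * b₀) + a₂ * b₃ * K, ?_,
    a₃ + b₃ + K * a₀ * b₃ + a₁ * b₂ - a₂ * b₁ + a₃ * (K * b₀) + a₃ * b₃ * K, ?_, ?_⟩
  · exact add_mem (add_mem (add_mem ha₀ hb₀) (mul_mem (mul_mem hKm ha₀) hb₀)) (mul_mem ha₂ hb₁)
  · exact add_mem (add_mem (add_mem (add_mem ha₁ hb₁) (mul_mem (mul_mem hKm ha₀) hb₁)) (mul_mem ha₁ (mul_mem hKm hb₀)))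
      (mul_mem (mul_mem ha₃ hb₁) hKm)
  · exact add_mem (add_mem (add_mem (add_mem ha₂ hb₂) (mul_mem (mul_mem hKm ha₀) hb₂)) (mul_mem ha₂ (mul_mem hKm hb₀)))
      (mul_mem (mul_mem ha₂ hb₃) hKm)
  · exact add_mem (add_mem (sub_mem (add_mem (add_mem (add_mem ha₃ hb₃) (mul_mem (mul_mem hKm ha₀) hb₃))
      (mul_mem ha₁ hb₂)) (mul_mem ha₂ hb₁)) (mul_mem ha₃ (mul_mem hKm hb₀))) (mul_mem (mul_mem ha₃ hb₃) hKm)
  rw [← hN, ← hN', ← hK]
  simp only [mul_add, add_mul, one_mul, mul_one, mul_assoc,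
    mv N _ _ hKm (cN K hKm), mv N _ _ hb₀ (cN b₀ hb₀), mv N _ _ hb₁ (cN b₁ hb₁), mv N _ _ hb₂ (cN b₂ hb₂),
    mv N _ _ hb₃ (cN b₃ hb₃), mv N' _ _ hKm (cN' K hKm), mv N' _ _ hb₀ (cN' b₀ hb₀), mv N' _ _ hb₁ (cN' b₁ hb₁),
    mv N' _ _ hb₂ (cN' b₂ hb₂), mv N' _ _ hb₃ (cN' b₃ hb₃), sub_mul]
  rw [← mul_assoc N N N', e, e']
  simp only [zero_mul, mul_zero, add_zero, (cN b₀ hb₀).eq, (cN' b₀ hb₀).eq]
  have r2' : N * (N' * N) = K * N := by rw [← mul_assoc, r2]
  have r3' : N * (N' * (N * N')) = K * (N * N') := by rw [← mul_assoc, r3]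
  rw [r3', r2', r1, hKe]
  simp only [mul_sub, mul_assoc, mv N b₀ _ hb₀ (cN b₀ hb₀), mv a₀ K _ hKm (cK a₀ ha₀), mv a₁ K _ hKm (cK a₁ ha₁),
    mv a₂ K _ hKm (cK a₂ ha₂), mv a₃ K _ hKm (cK a₃ ha₃), mv b₀ K _ hKm (cK b₀ hb₀), mv b₁ K _ hKm (cK b₁ hb₁),
    mv b₂ K _ hKm (cK b₂ hb₂), mv b₃ K _ hKm (cK b₃ hb₃), (cK b₁ hb₁).eq, (cK b₀ hb₀).eq]
  abel

theorem Pair.form_mem {g : GL ι F} (hg : g ∈ Subgroup.closure ({t, t'} : Set (GL ι F))) : Form t t' (g : Mn) := by
  have hone : Form t t' (1 : Mn) := ⟨0, zero_mem _, 0, zero_mem _, 0, zero_mem _, 0, zero_mem _, by simp⟩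
  have hpow : ∀ (g : GL ι F) (n : ℕ), Form t t' (g : Mn) → Form t t' ((g ^ n : GL ι F) : Mn) := by
    intro g n hg
    induction n with
    | zero => simpa using hone
    | succ n ih => rw [pow_succ, Units.val_mul]; exact h.form_mul ih hg
  induction hg using Subgroup.closure_induction with
  | mem x hx =>
    rcases hx with rfl | rfl
    · exact ⟨0, zero_mem _, 1, one_mem _, 0, zero_mem _, 0, zero_mem _, by simp⟩
    · exact ⟨0, zero_mem _, 0, zero_mem _, 1, one_mem _, 0, zero_mem _, by simp⟩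
  | one => simpa using hone
  | mul x y _ _ hx hy => rw [Units.val_mul]; exact h.form_mul hx hy
  | inv x _ hx =>
    have hfo : IsOfFinOrder x := isOfFinOrder_of_finite x
    obtain ⟨n, hn⟩ := Submonoid.mem_powers_iff _ _ |>.1 (by
      rw [hfo.mem_powers_iff_mem_zpowers]; exact inv_mem (Subgroup.mem_zpowers x) : x⁻¹ ∈ Submonoid.powers x)
    rw [← hn]
    exact hpow x n hx

theorem Pair.isometry_mem {g : GL ι F} (hg : g ∈ Subgroup.closure ({t, t'} : Set (GL ι F))) (x y : ι → F) :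
    Wf ((g : Mn) *ᵥ x) ((g : Mn) *ᵥ y) = Wf x y := by
  induction hg using Subgroup.closure_induction generalizing x y with
  | mem z hz =>
    rcases hz with rfl | rfl
    exacts [h.iso x y, h.iso' x y]
  | one => simp
  | mul z w _ _ hz hw => rw [Units.val_mul, ← Matrix.mulVec_mulVec, ← Matrix.mulVec_mulVec, hz, hw]
  | inv z _ hz =>
    conv_rhs => rw [← mulVec_inv_cancel z x, ← mulVec_inv_cancel z y, hz]

/-- An involution of the group is central. -/
theorem Pair.central {z : GL ι F} (hz : z ∈ Subgroup.closure ({t, t'} : Set (GL ι F))) (hz2 : z * z = 1) :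
    z * t = t * z ∧ z * t' = t' * z := by
  obtain ⟨q₀, hq₀, q₁, hq₁, q₂, hq₂, q₃, hq₃, e⟩ := h.form_mem hz
  have hN := adj_sub_one h.iso h.sq
  have hN' := adj_sub_one h.iso' h.sq'
  have hsc : ∀ {A A' : Mn} {q}, q ∈ Sc t t' → Commute q A' → Adj Wf A A' → Adj Wf (q * A) (q * A') :=
    fun {A A' q} hq hc hA => by
      have := (h.sc_adj hq).mul hA
      rwa [← hc.eq] at this
  have hKm : kk t t' ∈ Sc t t' := Subring.subset_closure (Set.mem_singleton _)
  obtain ⟨c1, c2, -⟩ := h.sc_comm hq₁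
  obtain ⟨d1, d2, -⟩ := h.sc_comm hq₂
  obtain ⟨f1, f2, -⟩ := h.sc_comm hq₃
  have hA : Adj Wf (z : Mn) (1 + (kk t t' * q₀ + q₁ * -((t : Mn) - 1) + q₂ * -((t' : Mn) - 1) +
      q₃ * (-((t' : Mn) - 1) * -((t : Mn) - 1)))) := by
    rw [e]
    exact Adj.one.add (((h.sc_adj (mul_mem hKm hq₀)).add (hsc hq₁ c1.neg_right hN)).add
      (hsc hq₂ d2.neg_right hN') |>.add (hsc hq₃ (f2.neg_right.mul_right f1.neg_right) (hN.mul hN')))
  have hzz : Adj Wf (z : Mn) (z : Mn) := fun x y => by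
    rw [← h.isometry_mem hz x ((z : Mn) *ᵥ y), Matrix.mulVec_mulVec, ← Units.val_mul, hz2, Units.val_one,
      Matrix.one_mulVec]
  have heq : (z : Mn) = 1 + (kk t t' * q₀ + q₁ * -((t : Mn) - 1) + q₂ * -((t' : Mn) - 1) +
      q₃ * (-((t' : Mn) - 1) * -((t : Mn) - 1))) := by
    refine Matrix.ext_iff_mulVec.2 fun y => sub_eq_zero.1 (h.nd _ fun x => h.symm _ _ ?_)
    rw [map_sub, ← hzz, hA, sub_self]
  have h2z : (2 : F) • (z : Mn) ∈ Sc t t' := by
    have : (2 : F) • (z : Mn) = (2 : Mn) + ((kk t t' * q₀ + kk t t' * q₀) + q₃ * kk t t') := by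
      rw [two_smul]
      nth_rw 2 [heq]
      rw [e, neg_mul_neg, kk, mul_neg, mul_neg, mul_add q₃, ← one_add_one_eq_two]
      abel
    rw [this]
    exact add_mem (by rw [← one_add_one_eq_two]; exact add_mem (one_mem _) (one_mem _))
      (add_mem (add_mem (mul_mem hKm hq₀) (mul_mem hKm hq₀)) (mul_mem hq₃ hKm))
  obtain ⟨g1, g2, -⟩ := h.sc_comm h2z
  have hcom : ∀ {u : GL ι F}, Commute ((2 : F) • (z : Mn)) ((u : Mn) - 1) → z * u = u * z := by
    intro u hu
    refine Units.ext (smul_right_injective Mn h.two ?_)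
    show (2 : F) • (((z * u : GL ι F)) : Mn) = (2 : F) • (((u * z : GL ι F)) : Mn)
    have := hu.eq
    rw [mul_sub, sub_mul, mul_one, one_mul, sub_left_inj] at this
    rw [Units.val_mul, Units.val_mul, ← smul_mul_assoc, this, mul_smul_comm]
  exact ⟨hcom g1, hcom g2⟩

/-- Nilpotent scalar: a `p`-group. -/
theorem Pair.isPGroup [Nonempty ι] {p : ℕ} [Fact p.Prime] [CharP F p] (hnil : IsNilpotent (kk t t')) :
    IsPGroup p (Subgroup.closure ({t, t'} : Set (GL ι F))) := by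
  intro ⟨g, hg⟩
  obtain ⟨q₀, hq₀, q₁, hq₁, q₂, hq₂, q₃, hq₃, e⟩ := h.form_mem hg
  obtain ⟨n, hn⟩ := hnil
  obtain ⟨X, hX⟩ : ∃ X, X = (g : Mn) - 1 := ⟨_, rfl⟩
  have hXf : Form t t' (1 + X) := by rw [hX, add_sub_cancel]; exact h.form_mem hg
  -- the square lies in the ideal of `k`
  obtain ⟨N, hN⟩ : ∃ N, N = (t : Mn) - 1 := ⟨_, rfl⟩
  obtain ⟨N', hN'⟩ : ∃ N', N' = (t' : Mn) - 1 := ⟨_, rfl⟩
  have hKm : kk t t' ∈ Sc t t' := Subring.subset_closure (Set.mem_singleton _)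
  have hcX : Commute (kk t t') X := by
    rw [hX, e, add_sub_cancel_left]
    have hk := h.sc_comm hKm
    exact ((((hk.2.2 _ (mul_mem hKm hq₀)).add_right ((hk.2.2 _ hq₁).mul_right hk.1)).add_right
      ((hk.2.2 _ hq₂).mul_right hk.2.1)).add_right ((hk.2.2 _ hq₃).mul_right (hk.1.mul_right hk.2.1)))
  obtain ⟨Y, hY, hYc⟩ : ∃ Y, X * X = kk t t' * Y ∧ Commute (kk t t') Y := by
    obtain ⟨u, hu⟩ : ∃ u, u = q₁ * N + q₂ * N' + q₃ * (N * N') := ⟨_, rfl⟩
    have e0 := h.sq; rw [← hN] at e0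
    have e0' := h.sq'; rw [← hN'] at e0'
    have hK : N * N' + N' * N = kk t t' := by rw [kk, hN, hN']
    have hKe : N' * N = kk t t' - N * N' := by rw [← hK]; abel
    have cN : ∀ q, q ∈ Sc t t' → Commute N q := fun q hq => hN ▸ (h.sc_comm hq).1.symm
    have cN' : ∀ q, q ∈ Sc t t' → Commute N' q := fun q hq => hN' ▸ (h.sc_comm hq).2.1.symm
    have cq : ∀ q r, q ∈ Sc t t' → r ∈ Sc t t' → Commute q r := fun q r hq hr => (h.sc_comm hq).2.2 r hr
    have hK' : kk t t' ∈ Sc t t' := hKm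
    have mv : ∀ (X : Mn) q Z, Commute X q → X * (q * Z) = q * (X * Z) := fun X q Z hc => by
      rw [← mul_assoc, hc.eq, mul_assoc]
    have huu : u * u = kk t t' * (q₁ * q₂ + (q₁ * q₃) * N + (q₂ * q₃) * N' + (q₃ * q₃) * (N * N')) := by
      rw [hu]
      simp only [mul_add, add_mul, mul_assoc, mv N _ _ (cN q₁ hq₁), mv N _ _ (cN q₂ hq₂), mv N _ _ (cN q₃ hq₃),
        mv N' _ _ (cN' q₁ hq₁), mv N' _ _ (cN' q₂ hq₂), mv N' _ _ (cN' q₃ hq₃)]
      rw [← mul_assoc N N N', e0, e0']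
      have r1 : N' * (N * N') = kk t t' * N' := by
        rw [← mul_assoc, hKe, sub_mul, mul_assoc N N' N', e0', mul_zero, sub_zero]
      have r2 : N * (N' * N) = kk t t' * N := by
        rw [hKe, mul_sub, ← mul_assoc N N N', e0, zero_mul, sub_zero, (cN _ hK').eq]
      have r3 : N * (N' * (N * N')) = kk t t' * (N * N') := by
        rw [r1, ← mul_assoc, (cN _ hK').eq, mul_assoc]
      rw [r3, r2, r1, hKe]
      simp only [mul_zero, zero_mul, add_zero, zero_add, mul_sub, mul_assoc,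
        mv (kk t t') q₁ _ (cq _ _ hK' hq₁), mv (kk t t') q₂ _ (cq _ _ hK' hq₂),
        mv (kk t t') q₃ _ (cq _ _ hK' hq₃), (cq _ _ hK' hq₁).eq, (cq _ _ hK' hq₂).eq,
        mv q₂ q₁ _ (cq _ _ hq₂ hq₁), mv q₃ q₁ _ (cq _ _ hq₃ hq₁), mv q₃ q₂ _ (cq _ _ hq₃ hq₂)]
      abel
    have hXu : X = kk t t' * q₀ + u := by rw [hX, e, add_sub_cancel_left, hu, hN, hN']; abel
    have huc : Commute (kk t t') u := by
      have := hcX.sub_right ((cq _ _ hK' (mul_mem hK' hq₀)))
      rwa [hXu, add_sub_cancel_left] at this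
    refine ⟨q₀ * (kk t t' * q₀ + u) + u * q₀ + (q₁ * q₂ + (q₁ * q₃) * N + (q₂ * q₃) * N' + (q₃ * q₃) * (N * N')),
      ?_, ?_⟩
    · rw [hXu, mul_add (kk t t') (q₀ * _ + u * q₀) _, ← huu, mul_add (kk t t') (q₀ * _) (u * q₀),
        ← mul_assoc (kk t t') u q₀, huc.eq, mul_assoc u, ← mul_assoc, add_mul (kk t t' * q₀) u _, mul_add u]
      abel
    · have cw : Commute (kk t t') N ∧ Commute (kk t t') N' := ⟨(cN _ hK').symm, (cN' _ hK').symm⟩
      have cc : ∀ q, q ∈ Sc t t' → Commute (kk t t') q := fun q hq => cq _ _ hK' hq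
      exact (((cc _ hq₀).mul_right ((cc _ (mul_mem hK' hq₀)).add_right huc)).add_right
        (huc.mul_right (cc _ hq₀))).add_right
        ((((cc _ (mul_mem hq₁ hq₂)).add_right ((cc _ (mul_mem hq₁ hq₃)).mul_right cw.1)).add_right
          ((cc _ (mul_mem hq₂ hq₃)).mul_right cw.2)).add_right
          ((cc _ (mul_mem hq₃ hq₃)).mul_right (cw.1.mul_right cw.2)))
  have hX2 : X ^ (2 * n) = 0 := by rw [pow_mul, pow_two, hY, hYc.mul_pow, hn, zero_mul]
  refine ⟨2 * n, Subtype.ext (Units.ext ?_)⟩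
  show (((⟨g, hg⟩ : Subgroup.closure ({t, t'} : Set (GL ι F))) ^ p ^ (2 * n) : _) : GL ι F).val = _
  rw [Subgroup.coe_pow, Units.val_pow_eq_pow_val]
  have hle : 2 * n ≤ p ^ (2 * n) := (Nat.lt_pow_self (Fact.out (p := p.Prime)).one_lt).le
  have h0 : X ^ (p ^ (2 * n)) = 0 := pow_eq_zero_of_le hle hX2
  rw [hX, sub_pow_char_pow_of_commute (p := p) (h := Commute.one_right _), one_pow, sub_eq_zero] at h0
  exact h0

/-- A non-nilpotent scalar: even order. -/
theorem Pair.even_card (hnil : ¬ IsNilpotent (kk t t')) :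
    2 ∣ Nat.card (Subgroup.closure ({t, t'} : Set (GL ι F))) := by
  classical
  obtain ⟨N, hN⟩ : ∃ N, N = (t : Mn) - 1 := ⟨_, rfl⟩
  obtain ⟨N', hN'⟩ : ∃ N', N' = (t' : Mn) - 1 := ⟨_, rfl⟩
  obtain ⟨p, hp⟩ := CharP.exists F
  haveI := hp
  haveI : Fact p.Prime := ⟨(CharP.char_is_prime_or_zero F p).resolve_right (CharP.char_ne_zero_of_finite F p)⟩
  let P := (kk t t').charpoly
  let E := P.SplittingField
  haveI : Finite E := Module.finite_of_finite F
  letI : Fintype E := Fintype.ofFinite E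
  haveI : CharP E p := charP_of_injective_algebraMap (algebraMap F E).injective p
  let f : Mn →+* Matrix ι ι E := (algebraMap F E).mapMatrix
  obtain ⟨μ, hμ, hμ0⟩ : ∃ μ : E, (P.map (algebraMap F E)).IsRoot μ ∧ μ ≠ 0 := by
    by_contra hc
    push Not at hc
    have hs := Polynomial.SplittingField.splits P
    have hroots : ∀ μ ∈ (P.map (algebraMap F E)).roots, μ = 0 := fun μ hμ => hc μ (Polynomial.mem_roots'.1 hμ).2
    have hPm : (P.map (algebraMap F E)).Monic := (Matrix.charpoly_monic _).map _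
    have heq := hs.eq_prod_roots
    rw [hPm.leadingCoeff, Polynomial.C_1, one_mul, Multiset.eq_replicate_card.2 hroots,
      Multiset.map_replicate, Multiset.prod_replicate, map_zero, sub_zero] at heq
    refine hnil ⟨Multiset.card (P.map (algebraMap F E)).roots, ?_⟩
    have hcard : P = Polynomial.X ^ (Multiset.card (P.map (algebraMap F E)).roots) :=
      Polynomial.map_injective _ (algebraMap F E).injective (by rw [Polynomial.map_pow, Polynomial.map_X]; exact heq)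
    have := Matrix.aeval_self_charpoly (kk t t')
    rwa [show (kk t t').charpoly = P from rfl, hcard, map_pow, Polynomial.aeval_X] at this
  obtain ⟨v, hv0, hv⟩ : ∃ v : ι → E, v ≠ 0 ∧ f (kk t t') *ᵥ v = μ • v := by
    have hdet : (Matrix.scalar ι μ - f (kk t t')).det = 0 := by
      rw [← Matrix.eval_charpoly]
      show ((kk t t').map (algebraMap F E)).charpoly.eval μ = 0
      rw [Matrix.charpoly_map]
      exact hμ
    obtain ⟨v, hv0, hv⟩ := Matrix.exists_mulVec_eq_zero_iff.2 hdet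
    refine ⟨v, hv0, ?_⟩
    rw [Matrix.sub_mulVec, sub_eq_zero] at hv
    rw [← hv]
    funext i
    simp [Matrix.scalar_apply, Matrix.mulVec_diagonal]
  have fN : f N * f N = 0 := by rw [← map_mul, hN, h.sq, map_zero]
  have fN' : f N' * f N' = 0 := by rw [← map_mul, hN', h.sq', map_zero]
  have fK : f (kk t t') = f N * f N' + f N' * f N := by rw [kk, hN, hN', map_add, map_mul, map_mul]
  have fKN : f (kk t t') * f N = f N * f (kk t t') := by rw [← map_mul, hN, h.comm_kk.1.eq, map_mul]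
  have fKN' : f (kk t t') * f N' = f N' * f (kk t t') := by rw [← map_mul, hN', h.comm_kk.2.eq, map_mul]
  obtain ⟨w, hw0, hwN, hwk⟩ : ∃ w : ι → E, w ≠ 0 ∧ f N *ᵥ w = 0 ∧ f (kk t t') *ᵥ w = μ • w := by
    by_cases h1 : f N *ᵥ (f N' *ᵥ v) = 0
    · refine ⟨f N *ᵥ v, fun h0 => smul_ne_zero hμ0 hv0 ?_, ?_, ?_⟩
      · rw [← hv, fK, Matrix.add_mulVec, ← Matrix.mulVec_mulVec, ← Matrix.mulVec_mulVec, h1, h0,
          Matrix.mulVec_zero, add_zero]
      · rw [Matrix.mulVec_mulVec, fN, Matrix.zero_mulVec]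
      · rw [Matrix.mulVec_mulVec, fKN, ← Matrix.mulVec_mulVec, hv, Matrix.mulVec_smul]
    · refine ⟨_, h1, by rw [Matrix.mulVec_mulVec, fN, Matrix.zero_mulVec], ?_⟩
      rw [Matrix.mulVec_mulVec, fKN, ← Matrix.mulVec_mulVec, Matrix.mulVec_mulVec (M := f (kk t t')), fKN',
        ← Matrix.mulVec_mulVec, hv, Matrix.mulVec_smul, Matrix.mulVec_smul]
  obtain ⟨w', hw'⟩ : ∃ w', w' = f N' *ᵥ w := ⟨_, rfl⟩
  have hNw' : f N *ᵥ w' = μ • w := by
    rw [← hwk, fK, Matrix.add_mulVec, ← Matrix.mulVec_mulVec, ← Matrix.mulVec_mulVec, hwN, Matrix.mulVec_zero,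
      add_zero, hw']
  have hN'w' : f N' *ᵥ w' = 0 := by rw [hw', Matrix.mulVec_mulVec, fN', Matrix.zero_mulVec]
  -- the subfield generated by the eigenvalue
  let K : Subfield E := Subfield.closure {μ}
  have hμK : μ ∈ K := Subfield.subset_closure rfl
  let lam : K := ⟨μ, hμK⟩
  letI : Fintype K := Fintype.ofFinite K
  haveI : CharP K p := RingHom.charP K.subtype Subtype.val_injective p
  have hgen : Subfield.closure ({lam} : Set K) = ⊤ := by
    refine top_le_iff.1 fun x _ => ?_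
    have := RingHom.map_field_closure K.subtype ({lam} : Set K)
    rw [Set.image_singleton] at this
    have hx : (x : E) ∈ (Subfield.closure ({lam} : Set K)).map K.subtype := by rw [this]; exact x.2
    obtain ⟨z, hz, hzx⟩ := hx
    rwa [← Subtype.ext hzx]
  let J : (Fin 2 → K) → (ι → E) := fun x => (x 0 : E) • w + (x 1 : E) • w'
  have hinter : ∀ g₂ ∈ Subgroup.closure ({Cfsg.Agent.Grp.SL2.low 1, Cfsg.Agent.Grp.SL2.up lam} :
      Set (Matrix.SpecialLinearGroup (Fin 2) K)), ∃ g ∈ Subgroup.closure ({t, t'} : Set (GL ι F)), ∀ x,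
        f (g : Mn) *ᵥ J x = J ((g₂ : Matrix (Fin 2) (Fin 2) K) *ᵥ x) := by
    intro g₂ hg₂
    induction hg₂ using Subgroup.closure_induction with
    | mem y hy =>
      rcases hy with rfl | rfl
      · refine ⟨t', Subgroup.subset_closure (by simp), fun x => ?_⟩
        rw [show (t' : Mn) = 1 + N' by rw [hN']; abel, map_add, map_one, Matrix.add_mulVec, Matrix.one_mulVec]
        simp only [J, Cfsg.Agent.Grp.SL2.low, Matrix.mulVec_add, Matrix.mulVec_smul, ← hw', hN'w', smul_zero, add_zero,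
          Matrix.mulVec, dotProduct, Fin.sum_univ_two]
        simp
        module
      · refine ⟨t, Subgroup.subset_closure (by simp), fun x => ?_⟩
        rw [show (t : Mn) = 1 + N by rw [hN]; abel, map_add, map_one, Matrix.add_mulVec, Matrix.one_mulVec]
        simp only [J, Cfsg.Agent.Grp.SL2.up, Matrix.mulVec_add, Matrix.mulVec_smul, hwN, hNw', smul_zero, zero_add,
          Matrix.mulVec, dotProduct, Fin.sum_univ_two]
        simp [lam]
        module
    | one => exact ⟨1, one_mem _, fun x => by simp⟩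
    | mul y z _ _ hy hz =>
      obtain ⟨g, hg, e1⟩ := hy
      obtain ⟨g', hg', e2⟩ := hz
      refine ⟨g * g', mul_mem hg hg', fun x => ?_⟩
      rw [Units.val_mul, map_mul, ← Matrix.mulVec_mulVec, e2, e1, Matrix.SpecialLinearGroup.coe_mul,
        Matrix.mulVec_mulVec]
    | inv y _ hy =>
      obtain ⟨g, hg, e1⟩ := hy
      refine ⟨g⁻¹, inv_mem hg, fun x => ?_⟩
      have := e1 ((((y⁻¹ : Matrix.SpecialLinearGroup (Fin 2) K)) : Matrix (Fin 2) (Fin 2) K) *ᵥ x)
      rw [Matrix.mulVec_mulVec _ (y : Matrix (Fin 2) (Fin 2) K), ← Matrix.SpecialLinearGroup.coe_mul,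
        mul_inv_cancel, Matrix.SpecialLinearGroup.coe_one, Matrix.one_mulVec] at this
      rw [← this, Matrix.mulVec_mulVec, ← map_mul, ← Units.val_mul, inv_mul_cancel, Units.val_one, map_one,
        Matrix.one_mulVec]
  have h2K : (2 : K) ≠ 0 := fun h0 => h.two ((algebraMap F E).injective (by
    have := congrArg K.subtype h0
    rw [map_ofNat, map_zero] at this
    rw [map_ofNat, map_zero]
    exact this))
  have hlam : lam ≠ 0 := fun h0 => hμ0 (congrArg Subtype.val h0)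
  have hev : 2 ∣ Nat.card ((Subgroup.closure ({Cfsg.Agent.Grp.SL2.low 1, Cfsg.Agent.Grp.SL2.up lam} :
      Set (Matrix.SpecialLinearGroup (Fin 2) K))).map Cfsg.Agent.PSL2Spec.proj) := by
    rcases Dickson.Gen.classify (p := p) h2K hlam hgen with ht | ⟨-, -, ht⟩
    · rw [ht, Subgroup.card_top]; exact Dickson.Gen.even_card_psl h2K
    · rw [ht]; norm_num
  obtain ⟨g, hg, hgJ⟩ := hinter _ (Dickson.Gen.neg_one_mem h2K hev)
  have hJw : J ![1, 0] = w := by simp [J]
  have hgw : f (g : Mn) *ᵥ w = -w := by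
    rw [← hJw, hgJ, Matrix.SpecialLinearGroup.coe_neg, Matrix.SpecialLinearGroup.coe_one, Matrix.neg_mulVec,
      Matrix.one_mulVec]
    simp [J]
  have hpow : ∀ n : ℕ, f ((g ^ n : GL ι F) : Mn) *ᵥ w = (-1 : E) ^ n • w := by
    intro n
    induction n with
    | zero => simp
    | succ n ih => rw [pow_succ, Units.val_mul, map_mul, ← Matrix.mulVec_mulVec, hgw, Matrix.mulVec_neg, ih,
        pow_succ, mul_neg_one, neg_smul]
  have hev' : 2 ∣ orderOf g := by
    by_contra ho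
    have h1 := hpow (orderOf g)
    rw [pow_orderOf_eq_one, Units.val_one, map_one, Matrix.one_mulVec,
      (Nat.odd_iff.2 (Nat.two_dvd_ne_zero.1 ho)).neg_one_pow, neg_one_smul] at h1
    have h2E : (2 : E) ≠ 0 := fun h0 => h2K (K.subtype.injective (by rw [map_ofNat, map_zero]; exact h0))
    have : (2 : E) • w = 0 := by rw [two_smul]; nth_rw 1 [h1]; exact neg_add_cancel w
    exact hw0 ((smul_eq_zero.1 this).resolve_left h2E)
  exact hev'.trans (Subgroup.orderOf_dvd_natCard _ hg)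

/-- An involution commuting with both, or a `p`-group. -/
theorem Pair.dichotomy [Nonempty ι] {p : ℕ} [Fact p.Prime] [CharP F p] :
    (∃ z ∈ Subgroup.closure ({t, t'} : Set (GL ι F)), z ≠ 1 ∧ z * z = 1 ∧ z * t = t * z ∧ z * t' = t' * z) ∨
      IsPGroup p (Subgroup.closure ({t, t'} : Set (GL ι F))) := by
  by_cases hnil : IsNilpotent (kk t t')
  · exact Or.inr (h.isPGroup hnil)
  · haveI : Fact (Nat.Prime 2) := ⟨Nat.prime_two⟩
    obtain ⟨z, hz⟩ := exists_prime_orderOf_dvd_card' 2 (h.even_card hnil)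
    have hz2 : (z : GL ι F) * z = 1 := by
      have := pow_orderOf_eq_one z
      rw [hz, pow_two] at this
      exact congrArg Subtype.val this
    have hz1 : (z : GL ι F) ≠ 1 := fun e => by
      rw [show z = 1 from Subtype.ext e, orderOf_one] at hz; omega
    exact Or.inl ⟨z, z.2, hz1, hz2, h.central z.2 hz2⟩

end Cfsg.Agent.Classical.QuadPair
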