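import Cfsg.Agent.Lib.Classical.MaxTensorHermStab
import Cfsg.Agent.Lib.Classical.MaxTensorHermRank
import Cfsg.Agent.Lib.Classical.MaxTensorHermFull
import Cfsg.Agent.Lib.Classical.QuadraticPairEven
import Mathlib.GroupTheory.Nilpotent

/-!
A proper overgroup of the product of two unitary groups consists of elements of product shape.
-/

set_option autoImplicit false
set_option linter.unusedSectionVars false

namespace Cfsg.Agent.Classical.TensorHerm

open Matrix Module MaxTv TensorMax Overfield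
open scoped Kronecker
open Cfsg.Agent.Classical.TensorRoot (kg kg_apply kg_isKron)

variable {F : Type*} [Field F] [Fintype F] {α β : Type} [Fintype α] [DecidableEq α] [Fintype β] [DecidableEq β]

local notation "V" => (α × β → F)
local notation "Mn" => Matrix (α × β) (α × β) F
local notation "Ma" => Matrix α α F
local notation "Mb" => Matrix β β F

variable {σ : F ≃+* F} {fA : (α → F) → (α → F) → F} {fB : (β → F) → (β → F) → F}
  {f : (α × β → F) → (α × β → F) → F} {M : Subgroup (GL (α × β) F)}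

theorem neg_tmul (x : α → F) (w : β → F) : tmul (-x) w = -tmul x w := (fac w).map_neg x

/-- A subgroup containing the elements of product shape of `M` and closed under fusion of root elements. -/
structure Tgt (fB : (β → F) → (β → F) → F) (M L : Subgroup (GL (α × β) F)) : Prop where
  kron : ∀ g ∈ M, IsKron g → g ∈ L
  conj : ∀ {g X : GL (α × β) F} {z : β → F} {c : F}, g ∈ M → X ∈ M → fB z z = 0 → z ≠ 0 → c ≠ 0 →
    (∀ t, (X : Mn) *ᵥ t = t + c • tmul (sl fB z t) z) → g * X * g⁻¹ ∈ L → g ∈ L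

section target

variable (hO : Pre σ fA fB f M) {L : Subgroup (GL (α × β) F)}
include hO

/-- A moved line orthogonal to another line: in the target. -/
theorem Pre.orth_mem (hS : Scal2 fB f M) (hL : Tgt fB M L) {g : GL (α × β) F} (hg : g ∈ M) {z b : β → F}
    (hz : fB z z = 0) (hz0 : z ≠ 0) (hb : fB b b = 0) (hb0 : b ≠ 0)
    (horth : ∀ x, sl fB b ((g : Mn) *ᵥ tmul x z) = 0) : g ∈ L := by
  obtain ⟨τ, hτ, hτs⟩ := hO.hB.exists_skew
  obtain ⟨X, hXM, -, hX⟩ := hO.exists_root hz hτs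
  exact hL.conj hg hXM hz hz0 hτ hX (hL.kron _ (mul_mem (mul_mem hg hXM) (inv_mem hg))
    (hO.orth_comm hS hg hz hb hb0 hτ hτs hXM hX horth))

/-- Elements commuting with an involution of the second factor are of product shape, in characteristic two. -/
theorem Pre.invol_mem (hS : Scal2 fB f M) (hL : Tgt fB M L) (h2 : (2 : F) = 0) {i : GL (α × β) F} {T : Mb} (hi : i ∈ M) (hi1 : i ≠ 1)
    (hi2 : i * i = 1) (hiT : ∀ x y, (i : Mn) *ᵥ tmul x y = tmul x (T *ᵥ y)) {m : GL (α × β) F} (hm : m ∈ M)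
    (hcom : m * i = i * m) : m ∈ L := by
  have hneg : ∀ {n : Type} (v : n → F), v + v = 0 := fun v => by rw [← two_smul F v, h2, zero_smul]
  obtain ⟨a₁, a₂, -, -, ha₁₂⟩ := exists_hyp hO.hA hO.ha
  have ha₁0 : a₁ ≠ 0 := fun e => one_ne_zero (by rw [← ha₁₂, e, hO.hA.toSesq.zero_right])
  obtain ⟨ξ, hξ⟩ := exists_dual ha₁0
  have hTT : ∀ y, T *ᵥ (T *ᵥ y) = y := fun y => by
    have := congrArg (fun g : GL (α × β) F => lslice ξ ((g : Mn) *ᵥ tmul a₁ y)) hi2
    simp only [Units.val_mul, ← Matrix.mulVec_mulVec, hiT, Units.val_one, Matrix.one_mulVec, lslice_tmul, hξ,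
      one_smul] at this
    exact this
  have hTiso : ∀ y w, fB (T *ᵥ y) (T *ᵥ w) = fB y w := fun y w => by
    have := hO.iso hi (tmul a₂ y) (tmul a₁ w)
    rwa [hiT, hiT, hO.ten, hO.ten, ha₁₂, one_mul, one_mul] at this
  obtain ⟨N, hN⟩ : ∃ N, N = T - 1 := ⟨_, rfl⟩
  have hNy : ∀ y, N *ᵥ y = T *ᵥ y - y := fun y => by rw [hN, Matrix.sub_mulVec, Matrix.one_mulVec]
  have hNN : ∀ y, N *ᵥ (N *ᵥ y) = 0 := fun y => by
    rw [hNy, hNy, Matrix.mulVec_sub, hTT,
      show y - T *ᵥ y - (T *ᵥ y - y) = (y + y) - (T *ᵥ y + T *ᵥ y) by abel, hneg, hneg, sub_zero]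
  obtain ⟨y₀, hy₀⟩ : ∃ y, N *ᵥ y ≠ 0 := by
    by_contra hc
    push Not at hc
    refine hi1 (Units.ext (Matrix.ext_iff_mulVec.2 fun t => ?_))
    rw [← Matrix.toLin'_apply, ← Matrix.toLin'_apply]
    refine LinearMap.congr_fun (ext_tmul fun x y => ?_) t
    rw [Matrix.toLin'_apply, Matrix.toLin'_apply, hiT, Units.val_one, Matrix.one_mulVec,
      sub_eq_zero.1 ((hNy y).symm.trans (hc y))]
  have hNadj : ∀ y w, fB (N *ᵥ y) w = fB y (N *ᵥ w) := fun y w => by
    have := hTiso y (T *ᵥ w)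
    rw [hTT] at this
    rw [hNy, hNy, hO.hB.toSesq.sub_left, hO.hB.toSesq.sub_right, this]
  have hzz : fB (N *ᵥ y₀) (N *ᵥ y₀) = 0 := by rw [hNadj, hNN, hO.hB.toSesq.zero_right]
  refine hO.orth_mem hS hL hm hzz hy₀ hzz hy₀ fun x => ?_
  have e1 : tmul x (N *ᵥ y₀) = (i : Mn) *ᵥ tmul x y₀ - tmul x y₀ := by rw [hiT, hNy, tmul_sub_right]
  have e2 : (m : Mn) *ᵥ ((i : Mn) *ᵥ tmul x y₀) = (i : Mn) *ᵥ ((m : Mn) *ᵥ tmul x y₀) := by
    rw [Matrix.mulVec_mulVec, ← Units.val_mul, hcom, Units.val_mul, ← Matrix.mulVec_mulVec]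
  have hker : (sl fB (N *ᵥ y₀)).comp (Matrix.toLin' (i : Mn) - LinearMap.id) = 0 := ext_first fun x' w => by
    simp only [LinearMap.comp_apply, LinearMap.sub_apply, LinearMap.id_apply, Matrix.toLin'_apply, hiT, map_sub,
      hO.sl_tmul, LinearMap.zero_apply]
    rw [← sub_smul, ← hO.hB.toSesq.sub_left, ← hNy, hNadj, hNN, hO.hB.toSesq.zero_right, zero_smul]
  rw [e1, Matrix.mulVec_sub, e2]
  have := LinearMap.congr_fun hker ((m : Mn) *ᵥ tmul x y₀)
  simpa only [LinearMap.comp_apply, LinearMap.sub_apply, LinearMap.id_apply, Matrix.toLin'_apply,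
    LinearMap.zero_apply] using this

/-- In odd characteristic the displacements of a quadratic element outside the target lie over a hyperbolic
plane through a given singular vector. -/
theorem Pre.odd_plane (hS : Scal2 fB f M) (hL : Tgt fB M L) (h2 : (2 : F) ≠ 0) {d : GL (α × β) F} (hdM : d ∈ M)
    (hdk : d ∉ L) (hdsq : ((d : Mn) - 1) * ((d : Mn) - 1) = 0)
    (hrk : finrank F (LinearMap.range (Matrix.toLin' (d : Mn) - LinearMap.id)) ≤ Fintype.card α) {z : β → F}
    (hzz : fB z z = 0) (hz0 : z ≠ 0) :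
    ∃ up : β → F, fB up z = 1 ∧ ∀ t, ∃ p q : α → F, (d : Mn) *ᵥ t - t = tmul p z + tmul q up := by
  classical
  have hs := hO.hB
  obtain ⟨i₀⟩ : Nonempty α := Fintype.card_pos_iff.1 (by have := hO.ha; omega)
  obtain ⟨j₀⟩ : Nonempty β := Fintype.card_pos_iff.1 (by have := hO.hb; omega)
  haveI : Nonempty (α × β) := ⟨(i₀, j₀)⟩
  obtain ⟨u, -, huz⟩ := exists_partner hs hzz hz0
  obtain ⟨τ, hτ, hτs⟩ := hs.exists_skew
  obtain ⟨X, hXM, hXk, hX⟩ := hO.exists_root hzz hτs
  have hXsq : ((X : Mn) - 1) * ((X : Mn) - 1) = 0 := Matrix.ext_iff_mulVec.2 fun t => by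
    rw [← Matrix.mulVec_mulVec, Matrix.sub_mulVec, Matrix.one_mulVec, Matrix.sub_mulVec, Matrix.one_mulVec,
      hX, add_sub_cancel_left, hX, add_sub_cancel_left, map_smul, hO.sl_tmul, hzz, zero_smul, smul_zero,
      tmul_zero_left, smul_zero, Matrix.zero_mulVec]
  obtain ⟨p, hp⟩ := CharP.exists F
  haveI := hp
  haveI : Fact p.Prime := ⟨(CharP.char_is_prime_or_zero F p).resolve_right (CharP.char_ne_zero_of_finite F p)⟩
  let Wf : V →+ V →+ F := AddMonoidHom.mk' (fun x => AddMonoidHom.mk' (fun y => f x y) (fun a b => hO.hV.add_right x a b))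
    (fun a b => AddMonoidHom.ext fun y => hO.hV.add_left a b y)
  have hP : QuadPair.Pair Wf X d :=
    { two := h2
      nd := fun x hx => hO.hV.eq_zero x fun y => hO.hV.refl _ _ (hx y)
      symm := fun x y h => hO.hV.refl x y h
      iso := fun x y => hO.iso hXM x y
      iso' := fun x y => hO.iso hdM x y
      sq := hXsq
      sq' := hdsq }
  have hQM : Subgroup.closure ({X, d} : Set (GL (α × β) F)) ≤ M :=
    (Subgroup.closure_le _).2 (by rintro _ (rfl | rfl); exacts [hXM, hdM])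
  rcases hP.dichotomy (p := p) with ⟨ζ, hζQ, hζ1, hζ2, hζX, hζd⟩ | hpg
  swap
  · let Q := Subgroup.closure ({X, d} : Set (GL (α × β) F))
    haveI : Group.IsNilpotent Q := hpg.isNilpotent
    let L' : Subgroup Q := L.comap Q.subtype
    have hd' : d ∈ Q := Subgroup.subset_closure (by simp)
    have hX' : X ∈ Q := Subgroup.subset_closure (by simp)
    have hL' : L' < ⊤ := lt_top_iff_ne_top.2 fun h => hdk (h ▸ Subgroup.mem_top (⟨d, hd'⟩ : Q) : (⟨d, hd'⟩ : Q) ∈ L')
    obtain ⟨n, hnN, hnL⟩ := SetLike.exists_of_lt (normalizerCondition_of_isNilpotent L' hL')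
    exact absurd (hL.conj (hQM n.2) hXM hzz hz0 hτ hX
      (((Subgroup.mem_normalizer_iff.1 hnN) ⟨X, hX'⟩).1 (hL.kron _ hXM hXk))) hnL
  have hζM := hQM hζQ
  obtain ⟨A₀, B₀, hAB⟩ := hO.comm_kron hS hζM hzz hz0 hτ hX hζX
  have hζap : ∀ x y, (ζ : Mn) *ᵥ tmul x y = tmul ((A₀ : Ma) *ᵥ x) ((B₀ : Mb) *ᵥ y) := fun x y => by
    rw [hAB, kronecker_mulVec]
  have hzu : fB z u = 1 := by rw [hs.herm, huz, map_one]
  have hζz : ∀ x, (ζ : Mn) *ᵥ tmul x z = tmul (sl fB z ((ζ : Mn) *ᵥ tmul x u)) z := fun x => by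
    have h := congrArg (fun w : GL (α × β) F => (w : Mn) *ᵥ tmul x u) hζX
    simp only [Units.val_mul, ← Matrix.mulVec_mulVec, hX, Matrix.mulVec_add, Matrix.mulVec_smul, hO.sl_tmul, huz,
      one_smul] at h
    exact smul_right_injective _ hτ (add_left_cancel h)
  -- normalise the second factor at `z`
  obtain ⟨x₁, hx₁⟩ : ∃ x₁ : α → F, (A₀ : Ma) *ᵥ x₁ ≠ 0 := ⟨Pi.single i₀ 1, fun h0 => by
    have := gl_mulVec_injective A₀ (h0.trans (Matrix.mulVec_zero _).symm)
    simpa using congrFun this i₀⟩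
  obtain ⟨ξ₁, hξ₁⟩ := exists_dual hx₁
  obtain ⟨θ, hθ⟩ : ∃ θ, (B₀ : Mb) *ᵥ z = θ • z := by
    have h := congrArg (lslice ξ₁) (hζz x₁)
    rw [hζap, lslice_tmul, lslice_tmul, hξ₁, one_smul] at h
    exact ⟨_, h⟩
  have hθ0 : θ ≠ 0 := fun e => hz0 (gl_mulVec_injective B₀ (by
    show (B₀ : Mb) *ᵥ z = (B₀ : Mb) *ᵥ 0
    rw [hθ, e, zero_smul, Matrix.mulVec_zero]))
  obtain ⟨y, hy⟩ : ∃ y : (α → F) →ₗ[F] (α → F), y = θ • Matrix.toLin' (A₀ : Ma) := ⟨_, rfl⟩
  obtain ⟨T, hT⟩ : ∃ T : (β → F) →ₗ[F] (β → F), T = θ⁻¹ • Matrix.toLin' (B₀ : Mb) := ⟨_, rfl⟩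
  have hap : ∀ x w, (ζ : Mn) *ᵥ tmul x w = tmul (y x) (T w) := fun x w => by
    rw [hζap, hy, hT, LinearMap.smul_apply, LinearMap.smul_apply, Matrix.toLin'_apply, Matrix.toLin'_apply,
      tmul_smul_left, tmul_smul_right, smul_smul, mul_inv_cancel₀ hθ0, one_smul]
  have hTz : T z = z := by
    rw [hT, LinearMap.smul_apply, Matrix.toLin'_apply, hθ, smul_smul, inv_mul_cancel₀ hθ0, one_smul]
  obtain ⟨ψ, hψ⟩ := exists_dual hz0
  have hyy : ∀ x, y (y x) = x := fun x => by
    have := congrArg (fun w : GL (α × β) F => slice ψ ((w : Mn) *ᵥ tmul x z)) hζ2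
    simp only [Units.val_mul, ← Matrix.mulVec_mulVec, hap, hTz, Units.val_one, Matrix.one_mulVec, slice_tmul, hψ,
      one_smul] at this
    exact this
  obtain ⟨a₁, a₂, -, -, ha₁₂⟩ := exists_hyp hO.hA hO.ha
  have ha₁0 : a₁ ≠ 0 := fun e => one_ne_zero (by rw [← ha₁₂, e, hO.hA.toSesq.zero_right])
  obtain ⟨ξ, hξ⟩ := exists_dual ha₁0
  have hTT : ∀ w, T (T w) = w := fun w => by
    have := congrArg (fun v : GL (α × β) F => lslice ξ ((v : Mn) *ᵥ tmul a₁ w)) hζ2
    simp only [Units.val_mul, ← Matrix.mulVec_mulVec, hap, hyy, Units.val_one, Matrix.one_mulVec, lslice_tmul, hξ,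
      one_smul] at this
    exact this
  have hslz : ∀ x, sl fB z ((ζ : Mn) *ᵥ tmul x u) = y x := fun x => by
    have h := congrArg (slice ψ) (hζz x)
    rw [hap, hTz, slice_tmul, slice_tmul, hψ, one_smul, one_smul] at h
    exact h.symm
  have hTu : fB (T u) z = 1 := by
    have h := hslz (y a₁)
    rw [hap, hO.sl_tmul, hyy] at h
    by_contra hne
    exact ha₁0 ((smul_eq_zero.1 (show (fB (T u) z - 1) • a₁ = 0 by rw [sub_smul, one_smul, h, sub_self])).resolve_left
      (sub_ne_zero.2 hne))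
  have hsl : ∀ t, sl fB z ((ζ : Mn) *ᵥ t) = y (sl fB z t) := fun t => hO.eq_of_fA fun x => by
    have h1 : (ζ : Mn) *ᵥ tmul (y x) z = tmul x z := by rw [hap, hyy, hTz]
    rw [← hO.f_sl]
    conv_lhs => rw [← h1]
    rw [hO.iso hζM, hO.f_sl]
    obtain ⟨a, ha⟩ : ∃ a, a = sl fB z t := ⟨_, rfl⟩
    rw [← ha]
    have h2' := hO.iso hζM (tmul a u) (tmul (y x) z)
    rw [h1, hap, hO.ten, hO.ten, hTu, huz, mul_one, mul_one] at h2'
    exact h2'.symm
  -- the eigenspace
  obtain ⟨up, hup⟩ : ∃ up, up = (2 : F)⁻¹ • (u + T u) := ⟨_, rfl⟩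
  have hupT : T up = up := by rw [hup, map_smul, map_add, hTT, add_comm u]
  have hupz : fB up z = 1 := by rw [hup, hs.smul_left, hs.add_left, huz, hTu]; field_simp; norm_num
  let Am : Submodule F (α → F) := LinearMap.ker (y + LinearMap.id)
  have hAm : ∀ x, x ∈ Am ↔ y x = -x := fun x => by
    simp only [Am, LinearMap.mem_ker, LinearMap.add_apply, LinearMap.id_apply, add_eq_zero_iff_eq_neg]
  let E : Submodule F V := LinearMap.ker (Matrix.toLin' (ζ : Mn) + LinearMap.id)
  have hE : ∀ t, t ∈ E ↔ (ζ : Mn) *ᵥ t = -t := fun t => by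
    simp only [E, LinearMap.mem_ker, LinearMap.add_apply, Matrix.toLin'_apply, LinearMap.id_apply,
      add_eq_zero_iff_eq_neg]
  have hEne : ∃ t ∈ E, t ≠ 0 := by
    by_contra hc
    push Not at hc
    refine hζ1 (Units.ext (Matrix.ext_iff_mulVec.2 fun x => ?_))
    have := hc ((ζ : Mn) *ᵥ x - x) ((hE _).2 (by
      rw [Matrix.mulVec_sub, Matrix.mulVec_mulVec, ← Units.val_mul, hζ2, Units.val_one, Matrix.one_mulVec, neg_sub]))
    rw [sub_eq_zero.1 this, Units.val_one, Matrix.one_mulVec]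
  let N : E →ₗ[F] (α → F) := (sl fB z).domRestrict E
  let N' : E →ₗ[F] V := (Matrix.toLin' (d : Mn) - LinearMap.id).domRestrict E
  have hN'a : ∀ x : E, N' x = (d : Mn) *ᵥ (x : V) - x := fun x => rfl
  have hcommon : LinearMap.ker N ⊓ LinearMap.ker N' = ⊥ := by
    rw [eq_bot_iff]
    rintro ⟨x, hx⟩ ⟨h1, h1'⟩
    have e1 : (X : Mn) *ᵥ x = x := by
      rw [hX, show sl fB z x = 0 from LinearMap.mem_ker.1 h1, tmul_zero_left, smul_zero, add_zero]
    have e2 : (d : Mn) *ᵥ x = x := sub_eq_zero.1 ((hN'a ⟨x, hx⟩).symm.trans (LinearMap.mem_ker.1 h1'))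
    have e3' : ∀ w ∈ Subgroup.closure ({X, d} : Set (GL (α × β) F)), (w : Mn) *ᵥ x = x := by
      intro w hw
      induction hw using Subgroup.closure_induction with
      | mem w hw => rcases hw with rfl | rfl; exacts [e1, e2]
      | one => simp
      | mul w w' _ _ h h' => rw [Units.val_mul, ← Matrix.mulVec_mulVec, h', h]
      | inv w _ h =>
        conv_lhs => rw [← h]
        rw [inv_mulVec_cancel]
    have e3 := e3' _ hζQ
    rw [(hE x).1 hx] at e3
    have : (2 : F) • x = 0 := by rw [two_smul]; nth_rw 1 [← e3]; exact neg_add_cancel x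
    exact Subtype.ext ((smul_eq_zero.1 this).resolve_left h2)
  have hNsq : LinearMap.range N' ≤ (LinearMap.ker N').map E.subtype := by
    rintro _ ⟨x, rfl⟩
    have hm : N' x ∈ E := by
      rw [hN'a, hE, Matrix.mulVec_sub, Matrix.mulVec_mulVec, ← Units.val_mul, hζd, Units.val_mul,
        ← Matrix.mulVec_mulVec, (hE _).1 x.2, Matrix.mulVec_neg, sub_neg_eq_add, neg_sub, neg_add_eq_sub]
    refine ⟨⟨_, hm⟩, LinearMap.mem_ker.2 ?_, rfl⟩
    rw [hN'a]
    show (d : Mn) *ᵥ N' x - N' x = 0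
    rw [hN'a]
    have := congrArg (fun A : Mn => A *ᵥ (x : V)) hdsq
    simp only [← Matrix.mulVec_mulVec, Matrix.sub_mulVec, Matrix.one_mulVec, Matrix.zero_mulVec] at this
    exact this
  have hNA : LinearMap.range N ≤ Am := by
    rintro _ ⟨x, rfl⟩
    rw [hAm]
    show y (sl fB z (x : V)) = -sl fB z (x : V)
    rw [← hsl, (hE _).1 x.2, map_neg]
  have hdimE : finrank F E ≤ 2 * finrank F Am := by
    have r1 := LinearMap.finrank_range_add_finrank_ker N
    have r2 := LinearMap.finrank_range_add_finrank_ker N'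
    have r3 := Submodule.finrank_sup_add_finrank_inf_eq (LinearMap.ker N) (LinearMap.ker N')
    rw [hcommon, finrank_bot] at r3
    have r4 := Submodule.finrank_le (LinearMap.ker N ⊔ LinearMap.ker N')
    have r5 := (Submodule.finrank_mono hNsq).trans_eq
      (LinearEquiv.finrank_eq (Submodule.equivMapOfInjective _ E.injective_subtype (LinearMap.ker N')).symm)
    have r6 := Submodule.finrank_mono hNA
    omega
  let J : (Am × Am) →ₗ[F] E := ((fac z).comp Am.subtype).coprod ((fac up).comp Am.subtype) |>.codRestrict E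
    fun p => (hE _).2 (by
      show (ζ : Mn) *ᵥ (tmul p.1.1 z + tmul p.2.1 up) = -(tmul p.1.1 z + tmul p.2.1 up)
      rw [Matrix.mulVec_add, hap, hap, hTz, hupT, (hAm _).1 p.1.2, (hAm _).1 p.2.2, neg_tmul, neg_tmul,
        neg_add])
  have hJ : ∀ p, (J p : V) = tmul p.1.1 z + tmul p.2.1 up := fun p => rfl
  have hzup : fB z up = 1 := by rw [hs.herm, hupz, map_one]
  have hJi : Function.Injective J := by
    rw [injective_iff_map_eq_zero]
    rintro ⟨x, x'⟩ h
    have h' : tmul x.1 z + tmul x'.1 up = 0 := congrArg Subtype.val h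
    have e1 := congrArg (sl fB z) h'
    simp only [map_add, hO.sl_tmul, hzz, hupz, zero_smul, one_smul, zero_add, map_zero] at e1
    have e2 := congrArg (sl fB up) h'
    simp only [map_add, hO.sl_tmul, hzup, e1, one_smul, smul_zero, add_zero, map_zero] at e2
    exact Prod.ext (Subtype.ext e2) (Subtype.ext e1)
  have hJs : LinearMap.range J = ⊤ := Submodule.eq_top_of_finrank_eq (by
    have := LinearMap.finrank_le_finrank_of_injective hJi
    rw [LinearMap.finrank_range_of_inj hJi, Module.finrank_prod] at *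
    omega)
  have hspan : ∀ x w, x ≠ 0 → tmul x w ∈ E → ∃ a b : F, w = a • z + b • up := by
    intro x w hx h
    obtain ⟨p, hp⟩ := LinearMap.range_eq_top.1 hJs ⟨tmul x w, h⟩
    have hp' : tmul p.1.1 z + tmul p.2.1 up = tmul x w := congrArg Subtype.val hp
    obtain ⟨η, hη⟩ := exists_dual hx
    have := congrArg (lslice η) hp'
    rw [map_add, lslice_tmul, lslice_tmul, lslice_tmul, hη, one_smul] at this
    exact ⟨_, _, this.symm⟩
  obtain ⟨xm, hxm, hxm0⟩ : ∃ x ∈ Am, x ≠ 0 := by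
    by_contra hc
    push Not at hc
    have hb : Am = ⊥ := (Submodule.eq_bot_iff _).2 hc
    rw [hb, finrank_bot] at hdimE
    obtain ⟨t, ht, ht0⟩ := hEne
    have := Submodule.finrank_eq_zero.1 (le_antisymm hdimE (Nat.zero_le _))
    rw [this] at ht
    exact ht0 ((Submodule.mem_bot F).1 ht)
  obtain ⟨w₀, hw₀⟩ : ∃ w₀, w₀ ∉ Submodule.span F ({z, up} : Set (β → F)) := by
    by_contra hc
    push Not at hc
    have h3 := Submodule.finrank_mono (show (⊤ : Submodule F (β → F)) ≤ Submodule.span F {z, up} from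
      fun w _ => hc w)
    have h4 := finrank_range_le_card (R := F) ![z, up]
    rw [Set.finrank, Matrix.range_cons_cons_empty, Fintype.card_fin] at h4
    rw [finrank_top, Module.finrank_fintype_fun_eq_card] at h3
    have := hO.hb
    omega
  obtain ⟨wm, hwm⟩ : ∃ wm, wm = w₀ - T w₀ := ⟨_, rfl⟩
  have hTwm : T wm = -wm := by rw [hwm, map_sub, hTT, neg_sub]
  have hwm0 : wm ≠ 0 := by
    intro e
    have hfix : T w₀ = w₀ := (sub_eq_zero.1 (hwm ▸ e)).symm
    obtain ⟨a, b, hab⟩ := hspan xm w₀ hxm0 ((hE _).2 (by rw [hap, hfix, (hAm _).1 hxm, neg_tmul]))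
    exact hw₀ (hab ▸ Submodule.mem_span_pair.2 ⟨a, b, rfl⟩)
  have hAall : ∀ x, y x = -x := fun x => by
    by_contra hx
    have hx0 : x + y x ≠ 0 := fun e => hx (eq_neg_of_add_eq_zero_right e)
    obtain ⟨a, b, hab⟩ := hspan (x + y x) wm hx0 ((hE _).2 (by
      rw [hap, map_add, hyy, hTwm, add_comm (y x),
        show ∀ (p : α → F) (q : β → F), tmul p (-q) = -tmul p q from fun p q => by
          rw [← neg_one_smul F q, tmul_smul_right, neg_one_smul]]))
    have h1 := congrArg T hab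
    rw [map_add, map_smul, map_smul, hTz, hupT, ← hab, hTwm] at h1
    have h2' : (2 : F) • wm = 0 := by rw [two_smul]; nth_rw 1 [← h1]; exact neg_add_cancel wm
    exact hwm0 ((smul_eq_zero.1 h2').resolve_left h2)
  -- the displacements lie in the eigenspace
  have hAt : Am = ⊤ := Submodule.eq_top_iff'.2 fun x => (hAm x).2 (hAall x)
  have hEdim : finrank F E = 2 * Fintype.card α := by
    rw [← finrank_top F E, ← hJs, LinearMap.finrank_range_of_inj hJi, Module.finrank_prod, hAt, finrank_top,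
      Module.finrank_fintype_fun_eq_card, two_mul]
  have hsub : LinearMap.range N' ≤ LinearMap.range (Matrix.toLin' (d : Mn) - LinearMap.id) := by
    rintro _ ⟨x, rfl⟩
    exact ⟨(x : V), rfl⟩
  have heq : LinearMap.range N' = LinearMap.range (Matrix.toLin' (d : Mn) - LinearMap.id) := by
    refine Submodule.eq_of_le_of_finrank_le hsub (hrk.trans ?_)
    have r1 := LinearMap.finrank_range_add_finrank_ker N
    have r2 := LinearMap.finrank_range_add_finrank_ker N'
    have r3 := Submodule.finrank_sup_add_finrank_inf_eq (LinearMap.ker N) (LinearMap.ker N')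
    rw [hcommon, finrank_bot] at r3
    have r4 := Submodule.finrank_le (LinearMap.ker N ⊔ LinearMap.ker N')
    have r5 := (Submodule.finrank_le (LinearMap.range N)).trans_eq (Module.finrank_fintype_fun_eq_card F)
    omega
  refine ⟨up, hupz, fun t => ?_⟩
  obtain ⟨y, hy, hye⟩ := hNsq (show (d : Mn) *ᵥ t - t ∈ LinearMap.range N' by rw [heq]; exact ⟨t, rfl⟩)
  obtain ⟨p, hp⟩ := LinearMap.range_eq_top.1 hJs y
  exact ⟨p.1.1, p.2.1, by rw [← hye, ← hp]; rfl⟩

/-- The case of odd characteristic. -/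
theorem Pre.all_mem_odd (hS : Scal2 fB f M) (hL : Tgt fB M L) (h2 : (2 : F) ≠ 0)
    {g : GL (α × β) F} (hg : g ∈ M) : g ∈ L := by
  classical
  by_contra hgk
  have hs := hO.hB
  obtain ⟨z, u, hzz, -, huz⟩ := exists_hyp hs (by have := hO.hb; omega)
  have hz0 : z ≠ 0 := fun e => one_ne_zero (by rw [← huz, e, hs.toSesq.zero_right])
  obtain ⟨τ, hτ, hτs⟩ := hs.exists_skew
  obtain ⟨X, hXM, -, hX⟩ := hO.exists_root hzz hτs
  obtain ⟨d, hd⟩ : ∃ d, d = g * X * g⁻¹ := ⟨_, rfl⟩
  have hdM : d ∈ M := hd ▸ mul_mem (mul_mem hg hXM) (inv_mem hg)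
  have hdk : d ∉ L := fun h => hgk (hL.conj hg hXM hzz hz0 hτ hX (hd ▸ h))
  have hdt : ∀ t, (d : Mn) *ᵥ t - t =
      (g : Mn) *ᵥ tmul (τ • sl fB z (((g⁻¹ : GL (α × β) F) : Mn) *ᵥ t)) z := fun t => by
    rw [hd, Units.val_mul, Units.val_mul, ← Matrix.mulVec_mulVec, ← Matrix.mulVec_mulVec, hX, Matrix.mulVec_add,
      mulVec_inv_cancel, add_sub_cancel_left, tmul_smul_left]
  have hdsq : ((d : Mn) - 1) * ((d : Mn) - 1) = 0 := Matrix.ext_iff_mulVec.2 fun t => by
    simp only [← Matrix.mulVec_mulVec, Matrix.sub_mulVec, Matrix.one_mulVec, Matrix.zero_mulVec]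
    rw [hdt ((d : Mn) *ᵥ t - t), hdt t, inv_mulVec_cancel, hO.sl_tmul, hzz, zero_smul, smul_zero, tmul_zero_left,
      Matrix.mulVec_zero]
  have hrk : finrank F (LinearMap.range (Matrix.toLin' (d : Mn) - LinearMap.id)) ≤ Fintype.card α := by
    refine (Submodule.finrank_mono (t := LinearMap.range ((Matrix.toLin' (g : Mn)).comp (fac z))) ?_).trans
      ((LinearMap.finrank_range_le _).trans (Module.finrank_fintype_fun_eq_card F).le)
    rintro _ ⟨t, rfl⟩
    exact ⟨τ • sl fB z (((g⁻¹ : GL (α × β) F) : Mn) *ᵥ t), (hdt t).symm⟩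
  obtain ⟨up, -, h1⟩ := hO.odd_plane hS hL h2 hdM hdk hdsq hrk hzz hz0
  -- a second plane, not in the first
  obtain ⟨z', hz', hz'P⟩ : ∃ z', fB z' z' = 0 ∧ z' ∉ Submodule.span F ({z, up} : Set (β → F)) := by
    by_contra hc
    push Not at hc
    have h3 := Submodule.finrank_mono (show (⊤ : Submodule F (β → F)) ≤ Submodule.span F {z, up} from
      fun w _ => mem_of_iso_all hs (by have := hO.hb; omega) hc w)
    have h4 := finrank_range_le_card (R := F) ![z, up]
    rw [Set.finrank, Matrix.range_cons_cons_empty, Fintype.card_fin] at h4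
    rw [finrank_top, Module.finrank_fintype_fun_eq_card] at h3
    have := hO.hb
    omega
  have hz'0 : z' ≠ 0 := fun e => hz'P (by rw [e]; exact Submodule.zero_mem _)
  obtain ⟨up', -, h1'⟩ := hO.odd_plane hS hL h2 hdM hdk hdsq hrk hz' hz'0
  obtain ⟨φ, hφ, hφ0⟩ := exists_dot_one hz'P
  refine hgk (hL.kron g hg (hO.line_kron hS hg hzz hz0 (v := up' - (φ ⬝ᵥ up') • z') fun x => ?_))
  obtain ⟨t, ht⟩ : ∃ t, (d : Mn) *ᵥ t - t = (g : Mn) *ᵥ tmul x z := ⟨(g : Mn) *ᵥ tmul (τ⁻¹ • x) u, by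
    rw [hdt, inv_mulVec_cancel, hO.sl_tmul, huz, one_smul, smul_smul, mul_inv_cancel₀ hτ, one_smul]⟩
  obtain ⟨p, q, hpq⟩ := h1 t
  obtain ⟨p', q', hpq'⟩ := h1' t
  refine ⟨q', ?_⟩
  have e := congrArg (slice φ) (hpq.symm.trans hpq')
  rw [map_add, map_add, slice_tmul, slice_tmul, slice_tmul, slice_tmul, hφ0 z (Submodule.subset_span (by simp)),
    hφ0 up (Submodule.subset_span (by simp)), hφ, zero_smul, zero_smul, add_zero, one_smul, eq_comm] at e
  rw [← ht, hpq', eq_neg_of_add_eq_zero_left e, tmul_sub_right, tmul_smul_right, neg_tmul, tmul_smul_left]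
  abel

end target

section kron

variable (hO : Ovr σ fA fB f M)
include hO

/-- The elements of product shape. -/
def kronSub (F : Type*) [Field F] [Fintype F] (α β : Type) [Fintype α] [DecidableEq α] [Fintype β] [DecidableEq β] :
    Subgroup (GL (α × β) F) where
  carrier := {g | IsKron g}
  mul_mem' h h' := IsKron.mul h h'
  one_mem' := isKron_of_apply 1 1 fun x y => by simp
  inv_mem' h := h.inv

theorem Ovr.tgt (hS : Scal fB M) : Tgt fB M (kronSub F α β) :=
  ⟨fun _ _ h => h, fun hg _ hz hz0 hc hX h => hO.conj_kron hS hg hz hz0 hc hX h⟩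

/-- A root element conjugated by an element of product shape acts on the second factor only. -/
theorem Ovr.pure_of_conj {X k : GL (α × β) F} {z : β → F} {c : F}
    (hX : ∀ t, (X : Mn) *ᵥ t = t + c • tmul (sl fB z t) z) (hk : IsKron k) :
    ∃ T : Mb, ∀ x y, ((k * X * k⁻¹ : GL (α × β) F) : Mn) *ᵥ tmul x y = tmul x (T *ᵥ y) := by
  obtain ⟨A, B, hAB⟩ := hk
  refine ⟨LinearMap.toMatrix' ((Matrix.toLin' (B : Mb)).comp ((LinearMap.id +
    (c • hO.hB.toSesq.lin z).smulRight z).comp (Matrix.toLin' ((B⁻¹ : GL β F) : Mb)))), fun x y => ?_⟩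
  have hki : ((k⁻¹ : GL (α × β) F) : Mn) *ᵥ tmul x y =
      tmul (((A⁻¹ : GL α F) : Ma) *ᵥ x) (((B⁻¹ : GL β F) : Mb) *ᵥ y) := gl_mulVec_injective k (by
    show (k : Mn) *ᵥ _ = (k : Mn) *ᵥ _
    rw [mulVec_inv_cancel, hAB, kronecker_mulVec, mulVec_inv_cancel, mulVec_inv_cancel])
  rw [LinearMap.toMatrix'_mulVec, Units.val_mul, Units.val_mul, ← Matrix.mulVec_mulVec, ← Matrix.mulVec_mulVec, hki,
    hX, hO.sl_tmul, hAB]
  simp only [LinearMap.comp_apply, LinearMap.add_apply, LinearMap.id_apply, LinearMap.smulRight_apply,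
    LinearMap.smul_apply, Matrix.toLin'_apply, hO.hB.toSesq.lin_apply, smul_eq_mul, Matrix.mulVec_add,
    Matrix.mulVec_smul, kronecker_mulVec, tmul_add_right, tmul_smul_left, tmul_smul_right, mulVec_inv_cancel,
    smul_smul]

/-- Elements commuting with an involution of the second factor are of product shape, in characteristic two. -/
theorem Ovr.invol_kron (hS : Scal fB M) (h2 : (2 : F) = 0) {i : GL (α × β) F} {T : Mb} (hi : i ∈ M) (hi1 : i ≠ 1)
    (hi2 : i * i = 1) (hiT : ∀ x y, (i : Mn) *ᵥ tmul x y = tmul x (T *ᵥ y)) {m : GL (α × β) F} (hm : m ∈ M)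
    (hcom : m * i = i * m) : IsKron m :=
  hO.toPre.invol_mem (hO.scal2 hS) (hO.tgt hS) h2 hi hi1 hi2 hiT hm hcom

/-- The case of characteristic two. -/
theorem Ovr.all_kron_even (h4 : 4 ≤ Fintype.card β) (hS : Scal fB M) (h2 : (2 : F) = 0) {g : GL (α × β) F} (hg : g ∈ M) : IsKron g := by
  classical
  by_contra hgk
  have hs := hO.hB
  have hneg : ∀ v : V, v + v = 0 := fun v => by rw [← two_smul F v, h2, zero_smul]
  obtain ⟨i₀⟩ : Nonempty α := Fintype.card_pos_iff.1 (by have := hO.ha; omega)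
  obtain ⟨z, b', hzz, -, hbz'⟩ := exists_hyp hs (by have := hO.hb; omega)
  have hz0 : z ≠ 0 := fun e => one_ne_zero (by rw [← hbz', e, hs.toSesq.zero_right])
  obtain ⟨u, b, c, -, huz, hbb, -, hcb, hbz, hcz, hbu, -⟩ := exists_flag hs h4 hzz hz0
  obtain ⟨τ, hτ, hτs⟩ := hs.exists_skew
  obtain ⟨X, hXM, hXk, hX⟩ := hO.exists_root hzz hτs
  have hXX : X * X = 1 := Units.ext (Matrix.ext_iff_mulVec.2 fun t => by
    rw [Units.val_mul, ← Matrix.mulVec_mulVec, hX, hX, map_add, map_smul, hO.sl_tmul, hzz, zero_smul, smul_zero,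
      add_zero, add_assoc, hneg, add_zero, Units.val_one, Matrix.one_mulVec])
  have hX1 : X ≠ 1 := fun e => by
    have := hX (tmul (Pi.single i₀ 1) u)
    rw [e, Units.val_one, Matrix.one_mulVec, hO.sl_tmul, huz, one_smul, left_eq_add] at this
    exact smul_ne_zero hτ (tmul_ne_zero (by simp) hz0) this
  obtain ⟨d, hd⟩ : ∃ d, d = g * X * g⁻¹ := ⟨_, rfl⟩
  have hdM : d ∈ M := hd ▸ mul_mem (mul_mem hg hXM) (inv_mem hg)
  have hdd : d * d = 1 := by
    rw [hd, show g * X * g⁻¹ * (g * X * g⁻¹) = g * (X * X) * g⁻¹ by group, hXX, mul_one, mul_inv_cancel]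
  have hdk : ¬ IsKron d := fun h => hgk (hO.conj_kron hS hg hzz hz0 hτ hX (hd ▸ h))
  -- involutions of the plane `z, b` lie in every conjugate
  suffices H : ∀ (l : F) (Y : GL (α × β) F), l + σ l = 0 → Y ∈ M →
      (∀ t, (Y : Mn) *ᵥ t = t + tmul (sl fB z t) b - tmul (sl fB b t) z + l • tmul (sl fB z t) z) →
      IsKron (g⁻¹ * Y * g) by
    have hzb : fB z b = 0 := hs.refl _ _ hbz
    obtain ⟨Y₁, hY₁, hY₁k, hY₁x⟩ := hO.exists_eichB (l := τ) hzz hbz (by rw [hτs, hbb, neg_zero])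
    obtain ⟨Y₂, hY₂, hY₂k, hY₂x⟩ := hO.exists_eichB (l := 0) hzz hbz (by rw [map_zero, add_zero, hbb, neg_zero])
    have hprod : Y₁ * Y₂ = X := Units.ext (Matrix.ext_iff_mulVec.2 fun t => by
      rw [Units.val_mul, ← Matrix.mulVec_mulVec, hY₁x, hY₂x, hX]
      simp only [map_add, map_sub, map_smul, hO.sl_tmul, hzz, hbb, hbz, hzb, zero_smul, smul_zero, add_zero,
        sub_zero]
      rw [show t + tmul (sl fB z t) b - tmul (sl fB b t) z + tmul (sl fB z t) b - tmul (sl fB b t) z +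
          τ • tmul (sl fB z t) z =
        t + ((tmul (sl fB z t) b + tmul (sl fB z t) b) - (tmul (sl fB b t) z + tmul (sl fB b t) z) +
          τ • tmul (sl fB z t) z) by abel, hneg, hneg, sub_zero, zero_add])
    have h := IsKron.mul (H τ Y₁ hτs hY₁ hY₁x) (H 0 Y₂ (by rw [map_zero, add_zero]) hY₂ hY₂x)
    rw [show g⁻¹ * Y₁ * g * (g⁻¹ * Y₂ * g) = g⁻¹ * (Y₁ * Y₂) * g by group, hprod] at h
    have := (hO.conj_kron hS (inv_mem hg) hzz hz0 hτ hX (by rwa [inv_inv])).inv
    rw [inv_inv] at this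
    exact hgk this
  intro l Y hl hYM hY
  have hzb : fB z b = 0 := hs.refl _ _ hbz
  have hslY : ∀ t, sl fB z ((Y : Mn) *ᵥ t) = sl fB z t ∧ sl fB b ((Y : Mn) *ᵥ t) = sl fB b t := fun t => by
    constructor <;> (rw [hY]; simp only [map_add, map_sub, map_smul, hO.sl_tmul, hzz, hbb, hbz, hzb, zero_smul,
      smul_zero, add_zero, sub_zero])
  have hY2 : Y * Y = 1 := Units.ext (Matrix.ext_iff_mulVec.2 fun t => by
    rw [Units.val_mul, ← Matrix.mulVec_mulVec, hY, (hslY t).1, (hslY t).2, hY, Units.val_one, Matrix.one_mulVec,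
      show t + tmul (sl fB z t) b - tmul (sl fB b t) z + l • tmul (sl fB z t) z + tmul (sl fB z t) b -
          tmul (sl fB b t) z + l • tmul (sl fB z t) z =
        t + ((tmul (sl fB z t) b + tmul (sl fB z t) b) - (tmul (sl fB b t) z + tmul (sl fB b t) z) +
          (l • tmul (sl fB z t) z + l • tmul (sl fB z t) z)) by abel,
      hneg, hneg, hneg, sub_zero, add_zero, add_zero])
  have hYpure : ∃ T : Mb, ∀ x y, (Y : Mn) *ᵥ tmul x y = tmul x (T *ᵥ y) :=
    ⟨LinearMap.toMatrix' (LinearMap.id + (hs.toSesq.lin z).smulRight b - (hs.toSesq.lin b).smulRight z +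
      (l • hs.toSesq.lin z).smulRight z), fun x y => by
      rw [hY, LinearMap.toMatrix'_mulVec, hO.sl_tmul, hO.sl_tmul]
      simp only [LinearMap.add_apply, LinearMap.sub_apply, LinearMap.id_apply, LinearMap.smulRight_apply,
        LinearMap.smul_apply, hs.toSesq.lin_apply, smul_eq_mul, tmul_add_right, tmul_sub_right, tmul_smul_left,
        tmul_smul_right, smul_smul]⟩
  have hY1 : Y ≠ 1 := fun e => by
    have h := hY (tmul (Pi.single i₀ 1) c)
    rw [e, Units.val_one, Matrix.one_mulVec, hO.sl_tmul, hO.sl_tmul, hcb, hcz, zero_smul, tmul_zero_left,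
      tmul_zero_left, smul_zero, add_zero, add_zero, one_smul, eq_sub_iff_add_eq, add_eq_left] at h
    exact tmul_ne_zero (by simp) hz0 h
  -- `Y` is not conjugate to a root element
  have hnconj : ∀ k ∈ M, k * X * k⁻¹ ≠ Y := by
    intro k hk e
    let L : (α → F) →ₗ[F] V := (Matrix.toLin' (k : Mn)).comp (fac z)
    have hsub : ∀ t, (Y : Mn) *ᵥ t - t ∈ LinearMap.range L := fun t =>
      ⟨τ • sl fB z (((k⁻¹ : GL (α × β) F) : Mn) *ᵥ t), by
        rw [← e, Units.val_mul, Units.val_mul, ← Matrix.mulVec_mulVec, ← Matrix.mulVec_mulVec, hX, Matrix.mulVec_add,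
          mulVec_inv_cancel, add_sub_cancel_left, map_smul, LinearMap.comp_apply, fac_apply, Matrix.toLin'_apply,
          Matrix.mulVec_smul]⟩
    let J : (α → F) × (α → F) →ₗ[F] V := (fac b).coprod (fac z)
    have hJ : LinearMap.range J ≤ LinearMap.range L := by
      rintro _ ⟨⟨x, x'⟩, rfl⟩
      have h1 := hsub (tmul x u)
      have h2' := hsub (tmul x' c)
      rw [hY, hO.sl_tmul, hO.sl_tmul, huz, one_smul] at h1
      rw [hY, hO.sl_tmul, hO.sl_tmul, hcz, hcb, zero_smul, tmul_zero_left, tmul_zero_left, smul_zero, add_zero,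
        add_zero, one_smul] at h2'
      have hub : fB u b = 0 := hs.refl _ _ hbu
      rw [hub, zero_smul, tmul_zero_left, sub_zero] at h1
      have h3 := Submodule.sub_mem _ h1 (Submodule.smul_mem _ l (hsub (tmul x c)))
      have h4 := hsub (tmul x c)
      rw [hY, hO.sl_tmul, hO.sl_tmul, hcz, hcb, zero_smul, tmul_zero_left, tmul_zero_left, smul_zero, add_zero,
        add_zero, one_smul] at h4
      have e1 : J (x, x') = (tmul x u + tmul x b + l • tmul x z - tmul x u) +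
          l • (tmul x c - tmul x z - tmul x c) - (tmul x' c - tmul x' z - tmul x' c) := by
        simp only [J, LinearMap.coprod_apply, fac_apply]; module
      rw [e1]
      exact Submodule.sub_mem _ (Submodule.add_mem _ h1 (Submodule.smul_mem _ l h4)) h2'
    have hJi : Function.Injective J := by
      rw [injective_iff_map_eq_zero]
      rintro ⟨x, x'⟩ h
      have h' : tmul x b + tmul x' z = 0 := by simpa [J, fac_apply] using h
      have e1 := congrArg (sl fB c) h'
      have e2 := congrArg (sl fB u) h'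
      have hbc : fB b c = 1 := by rw [hs.herm, hcb, map_one]
      have hzu : fB z u = 1 := by rw [hs.herm, huz, map_one]
      have hzc : fB z c = 0 := hs.refl _ _ hcz
      simp only [map_add, map_zero, hO.sl_tmul, hbc, hzc, hbu, hzu, one_smul, zero_smul, zero_add, add_zero]
        at e1 e2
      exact Prod.ext e1 e2
    have h1 := (Submodule.finrank_mono hJ).trans (LinearMap.finrank_range_le L)
    rw [LinearMap.finrank_range_of_inj hJi, Module.finrank_prod, Module.finrank_fintype_fun_eq_card] at h1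
    have := hO.ha
    omega
  obtain ⟨T, hT⟩ := hYpure
  have hCY : ∀ m ∈ M, m * Y = Y * m → IsKron m := fun m hm h => hO.invol_kron hS h2 hYM hY1 hY2 hT hm h
  -- the dihedral group
  obtain ⟨w, hw⟩ : ∃ w, w = d * Y := ⟨_, rfl⟩
  have hwM : w ∈ M := hw ▸ mul_mem hdM hYM
  have hdw : d * w = w⁻¹ * d := by
    rw [hw, _root_.mul_inv_rev, inv_eq_of_mul_eq_one_right hdd, inv_eq_of_mul_eq_one_right hY2, ← mul_assoc, hdd,
      one_mul, mul_assoc, hdd, mul_one]
  have hdpow : ∀ j : ℕ, d * w ^ j = (w ^ j)⁻¹ * d := by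
    intro j
    induction j with
    | zero => simp
    | succ j ih => rw [pow_succ, ← mul_assoc, ih, mul_assoc, hdw, ← mul_assoc, ← _root_.mul_inv_rev, ← pow_succ',
        pow_succ]
  have hsq : ∀ j : ℕ, w ^ j * d * (w ^ j)⁻¹ = w ^ (2 * j) * d := fun j => by
    have h := hdpow j
    have : d * (w ^ j)⁻¹ = w ^ j * d := by
      rw [mul_inv_eq_iff_eq_mul, mul_assoc, h, mul_inv_cancel_left]
    rw [mul_assoc, this, ← mul_assoc, ← pow_add, two_mul]
  have hwY : w * Y = d := by rw [hw, mul_assoc, hY2, mul_one]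
  obtain ⟨m, hm⟩ : ∃ m, m = orderOf w := ⟨_, rfl⟩
  have hmpos : 0 < m := hm ▸ orderOf_pos w
  rcases Nat.even_or_odd' m with ⟨n, rfl | rfl⟩
  · obtain ⟨i, hi⟩ : ∃ i, i = w ^ n := ⟨_, rfl⟩
    have hiM : i ∈ M := hi ▸ pow_mem hwM n
    have hii : i * i = 1 := by rw [hi, ← pow_add, ← two_mul, hm, pow_orderOf_eq_one]
    have hi1 : i ≠ 1 := by
      rw [hi]
      exact pow_ne_one_of_lt_orderOf (by omega) (by omega)
    have hid : d * i = i * d := by rw [hi, hdpow, ← hi, inv_eq_of_mul_eq_one_right hii]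
    have hiw : w * i = i * w := by rw [hi, ← pow_succ', ← pow_succ]
    have hiY : i * Y = Y * i := by
      have e : Y = d * w := by rw [hw, ← mul_assoc, hdd, one_mul]
      rw [e, ← mul_assoc, ← hid, mul_assoc, ← hiw, mul_assoc]
    rcases Nat.even_or_odd' n with ⟨j, rfl | rfl⟩
    · -- `i d` is conjugate to `d`
      have e1 : (w ^ j * g) * X * (w ^ j * g)⁻¹ = i * d := by
        rw [hi, ← hsq, hd, _root_.mul_inv_rev]; group
      have h1 : g⁻¹ * (i * d) * g * X = X * (g⁻¹ * (i * d) * g) := by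
        have hX' : X = g⁻¹ * d * g := by rw [hd]; group
        rw [hX']
        calc g⁻¹ * (i * d) * g * (g⁻¹ * d * g) = g⁻¹ * (i * d * d) * g := by group
          _ = g⁻¹ * (d * (i * d)) * g := by rw [← mul_assoc d i d, hid]
          _ = g⁻¹ * d * g * (g⁻¹ * (i * d) * g) := by group
      have h1k : IsKron (g⁻¹ * (i * d) * g) := hO.comm_kron hS
        (mul_mem (mul_mem (inv_mem hg) (mul_mem hiM hdM)) hg) hzz hz0 hτ hX h1
      have hkM : g⁻¹ * (w ^ j * g) ∈ M := mul_mem (inv_mem hg) (mul_mem (pow_mem hwM j) hg)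
      have e2 : (g⁻¹ * (w ^ j * g)) * X * (g⁻¹ * (w ^ j * g))⁻¹ = g⁻¹ * (i * d) * g := by
        rw [← e1]; group
      have hkk := hO.conj_kron hS hkM hzz hz0 hτ hX (e2 ▸ h1k)
      obtain ⟨T₁, hT₁⟩ := hO.pure_of_conj hX hkk
      obtain ⟨T₂, hT₂⟩ := hO.pure_of_conj hX (k := 1) (isKron_of_apply 1 1 fun x y => by simp)
      rw [inv_one, mul_one, one_mul] at hT₂
      rw [e2] at hT₁
      have hgi : g⁻¹ * i * g = g⁻¹ * (i * d) * g * X := by
        have hX' : X = g⁻¹ * d * g := by rw [hd]; group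
        rw [hX', show g⁻¹ * (i * d) * g * (g⁻¹ * d * g) = g⁻¹ * i * (d * d) * g by group, hdd, mul_one]
      refine hO.invol_kron hS h2 (i := g⁻¹ * i * g) (T := T₁ * T₂) (mul_mem (mul_mem (inv_mem hg) hiM) hg)
        (fun e => hi1 ?_) ?_ (fun x y => ?_) (mul_mem (mul_mem (inv_mem hg) hYM) hg) ?_
      · have := congrArg (fun x => g * x * g⁻¹) e
        simpa [mul_assoc] using this
      · rw [show g⁻¹ * i * g * (g⁻¹ * i * g) = g⁻¹ * (i * i) * g by group, hii, mul_one, inv_mul_cancel]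
      · rw [hgi, Units.val_mul, ← Matrix.mulVec_mulVec, hT₂, hT₁, Matrix.mulVec_mulVec]
      · rw [show g⁻¹ * Y * g * (g⁻¹ * i * g) = g⁻¹ * (Y * i) * g by group, ← hiY]; group
    · -- `i Y` is conjugate to `d`
      exfalso
      have e1 : (w ^ j * g) * X * (w ^ j * g)⁻¹ = i * Y := by
        rw [hi, pow_succ, mul_assoc (w ^ (2 * j)) w Y, hwY, ← hsq, hd, _root_.mul_inv_rev]; group
      have hkM : w ^ j * g ∈ M := mul_mem (pow_mem hwM j) hg
      have h1k : IsKron (i * Y) := hCY _ (mul_mem hiM hYM) (by rw [mul_assoc, hY2, mul_one, ← mul_assoc, ← hiY,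
        mul_assoc, hY2, mul_one])
      have hkk := hO.conj_kron hS hkM hzz hz0 hτ hX (e1 ▸ h1k)
      obtain ⟨T₁, hT₁⟩ := hO.pure_of_conj hX hkk
      rw [e1] at hT₁
      refine hdk (hO.invol_kron hS h2 (T := T₁ * T) hiM hi1 hii (fun x y => ?_) hdM hid)
      rw [show i = i * Y * Y by rw [mul_assoc, hY2, mul_one], Units.val_mul, ← Matrix.mulVec_mulVec, hT, hT₁,
        Matrix.mulVec_mulVec]
  · exfalso
    refine hnconj (w ^ n * g) (mul_mem (pow_mem hwM n) hg) ?_
    rw [_root_.mul_inv_rev, show w ^ n * g * X * (g⁻¹ * (w ^ n)⁻¹) = w ^ n * (g * X * g⁻¹) * (w ^ n)⁻¹ by group,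
      ← hd, hsq]
    have e : w ^ (2 * n) * w = 1 := by rw [← pow_succ, hm, pow_orderOf_eq_one]
    rw [eq_inv_of_mul_eq_one_left e, hw, _root_.mul_inv_rev, inv_eq_of_mul_eq_one_right hdd,
      inv_eq_of_mul_eq_one_right hY2, mul_assoc, hdd, mul_one]

/-- The case of odd characteristic. -/
theorem Ovr.all_kron_odd (hS : Scal fB M) (h2 : (2 : F) ≠ 0) {g : GL (α × β) F}
    (hg : g ∈ M) : IsKron g :=
  hO.toPre.all_mem_odd (hO.scal2 hS) (hO.tgt hS) h2 hg

/-- An overgroup of the product consists of elements of product shape or is the whole group. -/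
theorem Ovr.dichotomy (h4 : 4 ≤ Fintype.card β) (hq : (∃ r : F, σ r = r ∧ r ≠ 0 ∧ r ≠ 1) ∨ 3 ≤ Fintype.card α) :
    (∀ g ∈ M, IsKron g) ∨ isoSL f ≤ M := by
  by_cases hS : Scal fB M
  · left
    intro g hg
    by_cases h2 : (2 : F) = 0
    · exact hO.all_kron_even h4 hS h2 hg
    · exact hO.all_kron_odd hS h2 hg
  · obtain ⟨a, z, haa, ha0, hz, hz0, hP⟩ := hO.exists_upt hq hS
    exact Or.inr (hO.full (Or.inl h4) haa ha0 hz hz0 hP)

end kron

end Cfsg.Agent.Classical.TensorHerm
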