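import Cfsg.Agent.Lib.Classical.MaxTensorHermBase
import Cfsg.Agent.Lib.Classical.MaxTensorFormCore

/-!
Groups of isometries of a tensor product containing the second factor, all of whose root coefficients are scalar:
radical elements, also twisted by elements of product shape.
-/

set_option autoImplicit false
set_option linter.unusedSectionVars false

namespace Cfsg.Agent.Classical.TensorHerm

open Matrix Module MaxTv TensorMax Overfield
open scoped Kronecker
open Cfsg.Agent.Classical.TensorRoot (kg kg_apply kg_isKron)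

variable {F : Type*} [Field F] [Fintype F] {α β : Type} [Fintype α] [DecidableEq α] [Fintype β] [DecidableEq β]

local notation "V" => (α × β → F)
local notation "Mn" => Matrix (α × β) (α × β) F
local notation "Ma" => Matrix α α F
local notation "Mb" => Matrix β β F
local notation "Ea" => ((α → F) →ₗ[F] (α → F))

/-- The coefficient vector of `t` against `u`. -/
def sl (fB : (β → F) → (β → F) → F) (u : β → F) : (α × β → F) →ₗ[F] (α → F) := slice (fn fB u)

/-- A group of isometries of a tensor product of two unitary spaces containing the second factor. -/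
structure Pre (σ : F ≃+* F) (fA : (α → F) → (α → F) → F) (fB : (β → F) → (β → F) → F)
    (f : (α × β → F) → (α × β → F) → F) (M : Subgroup (GL (α × β) F)) : Prop where
  hA : Herm σ fA
  hB : Herm σ fB
  hV : Herm σ f
  ten : ∀ x x' y y', f (tmul x y) (tmul x' y') = fA x x' * fB y y'
  le : M ≤ isoSL f
  kB : ∀ {B : GL β F}, B ∈ isoSL fB → kg (1 : GL α F) B ∈ M
  ha : 2 ≤ Fintype.card α
  hb : 3 ≤ Fintype.card β

/-- An overgroup of the product of two unitary groups. -/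
structure Ovr (σ : F ≃+* F) (fA : (α → F) → (α → F) → F) (fB : (β → F) → (β → F) → F)
    (f : (α × β → F) → (α × β → F) → F) (M : Subgroup (GL (α × β) F)) : Prop extends Pre σ fA fB f M where
  mem : ∀ g ∈ isoSL f, IsKron g → g ∈ M
  hab : Fintype.card α < Fintype.card β

/-- The root elements of `M` have scalar coefficients. -/
def Scal (fB : (β → F) → (β → F) → F) (M : Subgroup (GL (α × β) F)) : Prop :=
  ∀ z, fB z z = 0 → z ≠ 0 → ∀ D : Ea, In M (rootMap z (fn fB z) D) → ∃ μ : F, ∀ x, D x = μ • x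

/-- An isometry which is in `M` up to a Kronecker factor, isometric in the second component. -/
def Tw (fB : (β → F) → (β → F) → F) (f : (α × β → F) → (α × β → F) → F) (M : Subgroup (GL (α × β) F))
    (g : GL (α × β) F) : Prop :=
  (∀ s t, f ((g : Mn) *ᵥ s) ((g : Mn) *ᵥ t) = f s t) ∧
    ∃ (A : GL α F) (B : GL β F), (∀ y y', fB ((B : Mb) *ᵥ y) ((B : Mb) *ᵥ y') = fB y y') ∧ kg A B * g ∈ M

/-- The root elements which are in `M` up to a Kronecker factor have scalar coefficients. -/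
def Scal2 (fB : (β → F) → (β → F) → F) (f : (α × β → F) → (α × β → F) → F) (M : Subgroup (GL (α × β) F)) : Prop :=
  ∀ z, fB z z = 0 → z ≠ 0 → ∀ (D : Ea) (g : GL (α × β) F),
    (∀ t, (g : Mn) *ᵥ t = t + rootMap z (fn fB z) D t) → Tw fB f M g → ∃ μ : F, ∀ x, D x = μ • x

theorem kg_mul_kg (A A' : GL α F) (B B' : GL β F) : kg A B * kg A' B' = kg (A * A') (B * B') :=
  Units.ext (by
    show ((A : Ma) ⊗ₖ (B : Mb)) * ((A' : Ma) ⊗ₖ (B' : Mb)) = _
    rw [← Matrix.mul_kronecker_mul]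
    rfl)

theorem kg_inv' (A : GL α F) (B : GL β F) : (kg A B)⁻¹ = kg A⁻¹ B⁻¹ :=
  inv_eq_of_mul_eq_one_right (by
    rw [kg_mul_kg, mul_inv_cancel, mul_inv_cancel]
    exact Units.ext (by
      show ((1 : GL α F) : Ma) ⊗ₖ ((1 : GL β F) : Mb) = 1
      simp))

/-- Trivial on `α ⊗ z` and modulo it on the orthogonal space. -/
structure Rad (fB : (β → F) → (β → F) → F) (g : GL (α × β) F) (z : β → F) : Prop where
  fix : ∀ x, (g : Mn) *ᵥ tmul x z = tmul x z
  act : ∀ t, sl fB z t = 0 → ∃ x, (g : Mn) *ᵥ t - t = tmul x z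

variable {σ : F ≃+* F} {fA : (α → F) → (α → F) → F} {fB : (β → F) → (β → F) → F}
  {f : (α × β → F) → (α × β → F) → F} {M : Subgroup (GL (α × β) F)}

/-- Functionals agreeing on pure tensors are equal. -/
theorem ext_pure {L L' : V →ₗ[F] F} (h : ∀ x y, L (tmul x y) = L' (tmul x y)) : L = L' :=
  LinearMap.ext fun t => by rw [sum_tmul_basis t, map_sum, map_sum]; simp only [map_smul, h]

/-- Products of similitudes with inverse multipliers are isometries. -/
theorem iso_kg (hV : Herm σ f) (ten : ∀ x x' y y', f (tmul x y) (tmul x' y') = fA x x' * fB y y')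
    {A : GL α F} {B : GL β F} {μ ν : F} (hμν : μ * ν = 1)
    (hA : ∀ x x', fA ((A : Ma) *ᵥ x) ((A : Ma) *ᵥ x') = μ * fA x x')
    (hB : ∀ y y', fB ((B : Mb) *ᵥ y) ((B : Mb) *ᵥ y') = ν * fB y y') (s t : V) :
    f ((kg A B : Mn) *ᵥ s) ((kg A B : Mn) *ᵥ t) = f s t := by
  have hpure : ∀ s x y, f ((kg A B : Mn) *ᵥ s) ((kg A B : Mn) *ᵥ tmul x y) = f s (tmul x y) := fun s x y => by
    have h : (hV.toSesq.lin ((kg A B : Mn) *ᵥ tmul x y)).comp (Matrix.toLin' (kg A B : Mn)) =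
        hV.toSesq.lin (tmul x y) := ext_pure fun a b => by
      simp only [LinearMap.comp_apply, Matrix.toLin'_apply, hV.toSesq.lin_apply, kg_apply, ten, hA, hB]
      linear_combination (fA a x * fB b y) * hμν
    have := LinearMap.congr_fun h s
    rwa [LinearMap.comp_apply, hV.toSesq.lin_apply, hV.toSesq.lin_apply, Matrix.toLin'_apply] at this
  have h : (hV.toSesq.lin ((kg A B : Mn) *ᵥ s)).comp (Matrix.toLin' (kg A B : Mn)) = hV.toSesq.lin s :=
    ext_pure fun a b => by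
      simp only [LinearMap.comp_apply, Matrix.toLin'_apply, hV.toSesq.lin_apply]
      rw [hV.herm _ ((kg A B : Mn) *ᵥ s), hpure, ← hV.herm]
  have := LinearMap.congr_fun h t
  rw [LinearMap.comp_apply, hV.toSesq.lin_apply, hV.toSesq.lin_apply, Matrix.toLin'_apply] at this
  rw [hV.herm, this, ← hV.herm]

variable (hO : Pre σ fA fB f M)
include hO

theorem Pre.sl_tmul (u : β → F) (x : α → F) (y : β → F) : sl fB u (tmul x y) = fB y u • x := by
  rw [sl, slice_tmul, fn_dot hO.hB.toSesq]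

theorem Pre.sl_smul (c : F) (u : β → F) (t : V) : sl fB (c • u) t = σ c • sl fB u t := by
  rw [sl, sl, fn_smul hO.hB.toSesq, slice_smul]

theorem Pre.f_sl (t : V) (x : α → F) (u : β → F) : f t (tmul x u) = fA (sl fB u t) x := by
  have h : hO.hV.toSesq.lin (tmul x u) = (hO.hA.toSesq.lin x).comp (sl fB u) :=
    ext_pure fun a b => by
      simp only [LinearMap.comp_apply, hO.hV.toSesq.lin_apply, hO.hA.toSesq.lin_apply, hO.ten, hO.sl_tmul,
        hO.hA.smul_left, mul_comm]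
  have := LinearMap.congr_fun h t
  rwa [LinearMap.comp_apply, hO.hV.toSesq.lin_apply, hO.hA.toSesq.lin_apply] at this

theorem Pre.eq_of_fA {a b : α → F} (h : ∀ x, fA a x = fA b x) : a = b :=
  sub_eq_zero.1 (hO.hA.eq_zero _ fun x => hO.hA.refl _ _ (by rw [hO.hA.toSesq.sub_left, h, sub_self]))

theorem Pre.iso {g : GL (α × β) F} (hg : g ∈ M) (s t : V) : f ((g : Mn) *ᵥ s) ((g : Mn) *ᵥ t) = f s t :=
  (hO.le hg).1 s t

theorem Pre.kg_iso {A : GL α F} {B : GL β F} {μ ν : F} (hμν : μ * ν = 1)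
    (hA : ∀ x x', fA ((A : Ma) *ᵥ x) ((A : Ma) *ᵥ x') = μ * fA x x')
    (hB : ∀ y y', fB ((B : Mb) *ᵥ y) ((B : Mb) *ᵥ y') = ν * fB y y') (s t : V) :
    f ((kg A B : Mn) *ᵥ s) ((kg A B : Mn) *ᵥ t) = f s t :=
  iso_kg hO.hV hO.ten hμν hA hB s t

theorem Pre.tw_self {g : GL (α × β) F} (hg : g ∈ M) : Tw fB f M g :=
  ⟨hO.iso hg, 1, 1, fun y y' => by simp, by
    rwa [show kg (1 : GL α F) (1 : GL β F) = 1 from Units.ext (by
      show ((1 : GL α F) : Ma) ⊗ₖ ((1 : GL β F) : Mb) = 1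
      simp), one_mul]⟩

theorem Pre.scal_of_scal2 (hS : Scal2 fB f M) : Scal fB M := fun z hz hz0 D ⟨g, hg, hgx⟩ =>
  hS z hz hz0 D g hgx (hO.tw_self hg)

/-- Eichler maps of the second factor, with their components. -/
theorem Pre.exists_eichE {z y : β → F} {l : F} (hz : fB z z = 0) (hy : fB y z = 0) (hl : l + σ l = -fB y y) :
    ∃ B ∈ isoSL fB, ∃ e : GL (α × β) F, e = kg (1 : GL α F) B ∧ ∀ t, (e : Mn) *ᵥ t =
      t + tmul (sl fB z t) y - tmul (sl fB y t) z + l • tmul (sl fB z t) z := by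
  obtain ⟨B, hB, hBx⟩ := exists_eich hO.hB hz hy hl
  refine ⟨B, hB, kg 1 B, rfl, fun t => ?_⟩
  let L : V →ₗ[F] V := LinearMap.id + (fac y).comp (sl fB z) - (fac z).comp (sl fB y) + l • (fac z).comp (sl fB z)
  have h : Matrix.toLin' (kg (1 : GL α F) B : Mn) = L := ext_tmul fun x w => by
    simp only [L, Matrix.toLin'_apply, kg_apply, Units.val_one, Matrix.one_mulVec, hBx, LinearMap.add_apply,
      LinearMap.sub_apply, LinearMap.smul_apply, LinearMap.comp_apply, LinearMap.id_apply, fac_apply, hO.sl_tmul,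
      tmul_add_right, tmul_sub_right, tmul_smul_right, tmul_smul_left, smul_smul]
  have := LinearMap.congr_fun h t
  simpa only [L, Matrix.toLin'_apply, LinearMap.add_apply, LinearMap.sub_apply, LinearMap.smul_apply,
    LinearMap.comp_apply, LinearMap.id_apply, fac_apply] using this

/-- Eichler maps of the second factor. -/
theorem Pre.exists_eichB {z y : β → F} {l : F} (hz : fB z z = 0) (hy : fB y z = 0) (hl : l + σ l = -fB y y) :
    ∃ e ∈ M, IsKron e ∧ ∀ t, (e : Mn) *ᵥ t =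
      t + tmul (sl fB z t) y - tmul (sl fB y t) z + l • tmul (sl fB z t) z := by
  obtain ⟨B, hB, e, rfl, hex⟩ := hO.exists_eichE hz hy hl
  exact ⟨_, hO.kB hB, kg_isKron _ _, hex⟩

/-- Root elements of the second factor. -/
theorem Pre.exists_root {z : β → F} {c : F} (hz : fB z z = 0) (hc : c + σ c = 0) :
    ∃ g ∈ M, IsKron g ∧ ∀ t, (g : Mn) *ᵥ t = t + c • tmul (sl fB z t) z := by
  obtain ⟨e, he, hek, hex⟩ := hO.exists_eichB (y := 0) hz (hO.hB.toSesq.zero_left _)
    (by rw [hc, hO.hB.toSesq.zero_left, neg_zero])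
  refine ⟨e, he, hek, fun t => ?_⟩
  rw [hex, sl, sl, fn_zero hO.hB.toSesq, tmul_zero_right, add_zero,
    show slice (0 : β → F) t = 0 by rw [← zero_smul F (0 : β → F), slice_smul, zero_smul], tmul_zero_left, sub_zero]

theorem Rad.sl_eq {g : GL (α × β) F} {z : β → F} (h : Rad fB g z)
    (hg : ∀ s t, f ((g : Mn) *ᵥ s) ((g : Mn) *ᵥ t) = f s t) (t : V) :
    sl fB z ((g : Mn) *ᵥ t) = sl fB z t :=
  hO.eq_of_fA fun x => by
    rw [← hO.f_sl, ← hO.f_sl]
    conv_lhs => rw [← h.fix x]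
    exact hg _ _

/-- Twisting is unchanged by the second factor on the right. -/
theorem Tw.mul_right {g e : GL (α × β) F} (h : Tw fB f M g) (he : e ∈ M) : Tw fB f M (g * e) := by
  obtain ⟨hi, A, B, hB, hm⟩ := h
  exact ⟨fun s t => by rw [Units.val_mul, ← Matrix.mulVec_mulVec, ← Matrix.mulVec_mulVec, hi, hO.iso he],
    A, B, hB, by rw [← mul_assoc]; exact mul_mem hm he⟩

/-- The twisted commutator with an element of the second factor. -/
theorem Pre.comm_mem {g : GL (α × β) F} {A : GL α F} {B E : GL β F}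
    (hB : ∀ y y', fB ((B : Mb) *ᵥ y) ((B : Mb) *ᵥ y') = fB y y') (hm : kg A B * g ∈ M) (hE : E ∈ isoSL fB) :
    kg A B * (g * kg 1 E * (kg 1 E * g)⁻¹) * (kg A B)⁻¹ ∈ M := by
  have hB' : B * E * B⁻¹ ∈ isoSL fB := by
    refine ⟨fun y y' => ?_, (MonoidHom.normal_ker _).conj_mem E hE.2 B⟩
    obtain ⟨y, rfl⟩ : ∃ x, (B : Mb) *ᵥ x = y := ⟨_, mulVec_inv_cancel _ y⟩
    obtain ⟨y', rfl⟩ : ∃ x, (B : Mb) *ᵥ x = y' := ⟨_, mulVec_inv_cancel _ y'⟩
    simp only [Units.val_mul, ← Matrix.mulVec_mulVec, inv_mulVec_cancel, hB, hE.1]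
  have hc : kg A B * kg 1 E * (kg A B)⁻¹ = kg 1 (B * E * B⁻¹) := by
    rw [kg_inv', kg_mul_kg, kg_mul_kg, mul_one, mul_inv_cancel]
  rw [show kg A B * (g * kg 1 E * (kg 1 E * g)⁻¹) * (kg A B)⁻¹ =
      kg A B * g * kg 1 E * (kg A B * g)⁻¹ * (kg A B * kg 1 E * (kg A B)⁻¹)⁻¹ by group, hc]
  exact mul_mem (mul_mem (mul_mem hm (hO.kB hE)) (inv_mem hm)) (inv_mem (hO.kB hB'))

/-- Conjugating a root map by an element of product shape. -/
theorem Pre.root_conj {c : GL (α × β) F} {A : GL α F} {B : GL β F}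
    (hB : ∀ y y', fB ((B : Mb) *ᵥ y) ((B : Mb) *ᵥ y') = fB y y') {z : β → F} {D : Ea}
    (hc : ∀ t, (c : Mn) *ᵥ t = t + rootMap z (fn fB z) D t) (t : V) :
    ((kg A B * c * (kg A B)⁻¹ : GL (α × β) F) : Mn) *ᵥ t = t + rootMap ((B : Mb) *ᵥ z) (fn fB ((B : Mb) *ᵥ z))
      ((Matrix.toLin' (A : Ma)).comp (D.comp (Matrix.toLin' ((A⁻¹ : GL α F) : Ma)))) t := by
  obtain ⟨s, rfl⟩ : ∃ s, (kg A B : Mn) *ᵥ s = t := ⟨_, mulVec_inv_cancel _ t⟩
  have hsl : slice (fn fB ((B : Mb) *ᵥ z)) ((kg A B : Mn) *ᵥ s) = (A : Ma) *ᵥ slice (fn fB z) s := by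
    conv_lhs => rw [sum_tmul_basis s]
    conv_rhs => rw [sum_tmul_basis s]
    simp only [Matrix.mulVec_sum, Matrix.mulVec_smul, map_sum, map_smul, kg_apply, slice_tmul,
      fn_dot hO.hB.toSesq, hB]
  rw [Units.val_mul, Units.val_mul, ← Matrix.mulVec_mulVec, ← Matrix.mulVec_mulVec, inv_mulVec_cancel, hc,
    Matrix.mulVec_add, rootMap_apply, rootMap_apply, kg_apply, hsl]
  simp only [LinearMap.comp_apply, Matrix.toLin'_apply, inv_mulVec_cancel]

/-- Twisted root maps with scalar coefficients. -/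
theorem Pre.scal_conj (hS : Scal fB M) {c : GL (α × β) F} {A : GL α F} {B : GL β F}
    (hB : ∀ y y', fB ((B : Mb) *ᵥ y) ((B : Mb) *ᵥ y') = fB y y') (hm : kg A B * c * (kg A B)⁻¹ ∈ M) {z : β → F}
    (hz : fB z z = 0) (hz0 : z ≠ 0) {D : Ea} (hc : ∀ t, (c : Mn) *ᵥ t = t + rootMap z (fn fB z) D t) :
    ∃ μ : F, ∀ x, D x = μ • x := by
  obtain ⟨μ, hμ⟩ := hS ((B : Mb) *ᵥ z) (by rw [hB, hz]) (fun e => hz0 (gl_mulVec_injective B (by
    show (B : Mb) *ᵥ z = (B : Mb) *ᵥ 0
    rw [e, Matrix.mulVec_zero]))) _ ⟨_, hm, hO.root_conj hB hc⟩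
  refine ⟨μ, fun x => gl_mulVec_injective A ?_⟩
  show (A : Ma) *ᵥ D x = (A : Ma) *ᵥ (μ • x)
  have h1 := hμ ((A : Ma) *ᵥ x)
  simp only [LinearMap.comp_apply, Matrix.toLin'_apply, inv_mulVec_cancel] at h1
  rw [h1, Matrix.mulVec_smul]

/-- The middle part of a radical element is scalar. -/
theorem Rad.scal (hS : Scal fB M) {g : GL (α × β) F} {z : β → F} (h : Rad fB g z) (hg : Tw fB f M g)
    (hz : fB z z = 0) (hz0 : z ≠ 0)
    {u : β → F} (hu : fB u z = 1) {y : β → F} (hy : fB y z = 0) :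
    ∃ μ : F, ∀ x, sl fB u ((g : Mn) *ᵥ tmul x y - tmul x y) = μ • x := by
  have hs := hO.hB
  have hzu : fB z u = 1 := by rw [hs.herm, hu, map_one]
  have hzy : fB z y = 0 := hs.refl _ _ hy
  have hT : ∀ t, sl fB z t = 0 → (g : Mn) *ᵥ t = t + tmul (sl fB u ((g : Mn) *ᵥ t - t)) z := fun t ht => by
    obtain ⟨X, hX⟩ := h.act t ht
    rw [hX, hO.sl_tmul, hzu, one_smul, ← hX, add_sub_cancel]
  suffices key : ∀ c : F, ∃ μ : F, ∀ x, c • sl fB u ((g : Mn) *ᵥ tmul x y - tmul x y) +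
      σ c • sl fB y ((g : Mn) *ᵥ tmul x u - tmul x u) = μ • x by
    obtain ⟨c, hc⟩ := hs.exists_moved
    obtain ⟨μ₁, h1⟩ := key 1
    obtain ⟨μ₂, h2⟩ := key c
    refine ⟨(c - σ c)⁻¹ * (μ₂ - σ c * μ₁), fun x => ?_⟩
    have e1 := h1 x
    rw [one_smul, map_one, one_smul] at e1
    rw [mul_smul, sub_smul, mul_smul, ← h2 x, ← e1, smul_add,
      show ∀ A B : α → F, c • A + σ c • B - (σ c • A + σ c • B) = (c - σ c) • A from fun A B => by module,
      smul_smul, inv_mul_cancel₀ (sub_ne_zero.2 (Ne.symm hc)), one_smul]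
  intro c
  have hcy : fB (c • y) z = 0 := by rw [hs.smul_left, hy, mul_zero]
  obtain ⟨l, hl⟩ := hs.exists_trace_eq (a := -fB (c • y) (c • y)) (by rw [map_neg, hs.self_fixed])
  obtain ⟨E, hE, e, he', hex⟩ := hO.exists_eichE hz hcy hl
  obtain ⟨k, hk⟩ : ∃ k, k = g * e * (e * g)⁻¹ := ⟨_, rfl⟩
  obtain ⟨hgi, A₁, B₁, hB₁, hm⟩ := hg
  have hkM : kg A₁ B₁ * k * (kg A₁ B₁)⁻¹ ∈ M := by
    rw [hk, he']
    exact hO.comm_mem hB₁ hm hE
  have hke : ∀ t, (k : Mn) *ᵥ ((e : Mn) *ᵥ ((g : Mn) *ᵥ t)) = (g : Mn) *ᵥ ((e : Mn) *ᵥ t) := fun t => by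
    rw [hk, Units.val_mul, ← Matrix.mulVec_mulVec, Matrix.mulVec_mulVec (v := t) (M := (e : Mn)), ← Units.val_mul,
      inv_mulVec_cancel, Units.val_mul, ← Matrix.mulVec_mulVec]
  have hsle : ∀ t, sl fB z ((e : Mn) *ᵥ t) = sl fB z t := fun t => by
    rw [hex]
    simp only [map_add, map_sub, map_smul, hO.sl_tmul, hcy, hz, zero_smul, smul_zero, add_zero, sub_zero]
  have hfixp : ∀ t, sl fB z t = 0 → (k : Mn) *ᵥ t = t := fun t ht => by
    obtain ⟨t', rfl⟩ : ∃ t', (e : Mn) *ᵥ ((g : Mn) *ᵥ t') = t :=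
      ⟨((g⁻¹ : GL _ F) : Mn) *ᵥ (((e⁻¹ : GL _ F) : Mn) *ᵥ t), by rw [mulVec_inv_cancel, mulVec_inv_cancel]⟩
    rw [hsle, h.sl_eq hO hgi] at ht
    rw [hke, hex, hex, h.sl_eq hO hgi, ht]
    simp only [tmul_zero_left, smul_zero, add_zero, Matrix.mulVec_sub, h.fix]
    rw [hT t' ht, map_add, hO.sl_tmul, hs.smul_right, hzy, mul_zero, zero_smul, add_zero]
  let D : Ea := c • (sl fB u).comp ((Matrix.toLin' (g : Mn) - LinearMap.id).comp (fac y)) +
    σ c • (sl fB y).comp ((Matrix.toLin' (g : Mn) - LinearMap.id).comp (fac u))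
  have hD : ∀ t, (k : Mn) *ᵥ t = t + rootMap z (fn fB z) D t := by
    intro t
    obtain ⟨x, hx⟩ : ∃ x, x = sl fB z t := ⟨_, rfl⟩
    have hP : (k : Mn) *ᵥ tmul x u - tmul x u = tmul (D x) z := by
      obtain ⟨r, hr⟩ : ∃ r, r = (e : Mn) *ᵥ ((g : Mn) *ᵥ tmul x u) - tmul x u := ⟨_, rfl⟩
      have hr0 : sl fB z r = 0 := by
        rw [hr, map_sub, hsle, h.sl_eq hO hgi, sub_self]
      have e1 : (k : Mn) *ᵥ tmul x u + r = (g : Mn) *ᵥ ((e : Mn) *ᵥ tmul x u) := by
        rw [← hfixp r hr0, ← Matrix.mulVec_add, hr, add_sub_cancel, hke]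
      rw [eq_sub_of_add_eq e1, hr, hex, hex, h.sl_eq hO hgi, hO.sl_tmul, hu, one_smul, Matrix.mulVec_add,
        Matrix.mulVec_sub, Matrix.mulVec_add, Matrix.mulVec_smul, h.fix, h.fix, hT (tmul x (c • y))
          (by rw [hO.sl_tmul, hcy, zero_smul])]
      simp only [D, LinearMap.add_apply, LinearMap.smul_apply, LinearMap.sub_apply, LinearMap.comp_apply,
        LinearMap.id_apply, Matrix.toLin'_apply, fac_apply, map_sub, hO.sl_tmul, hO.sl_smul, hs.smul_right, tmul_smul_right,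
        Matrix.mulVec_smul, ← smul_sub, map_smul, tmul_add_left, tmul_sub_left, tmul_smul_left]
      module
    have hfx := hfixp (t - tmul x u) (by rw [map_sub, hO.sl_tmul, hu, one_smul, hx, sub_self])
    rw [Matrix.mulVec_sub] at hfx
    rw [rootMap_apply, show slice (fn fB z) t = x from hx.symm, ← hP]
    linear_combination (norm := abel) hfx
  obtain ⟨μ, hμ⟩ := hO.scal_conj hS hB₁ hkM hz hz0 hD
  refine ⟨μ, fun x => ?_⟩
  rw [← hμ x]
  rfl

/-- Radical elements are of product shape. -/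
theorem Rad.kron (hS : Scal2 fB f M) {g : GL (α × β) F} {z : β → F} (h : Rad fB g z) (hg : Tw fB f M g) (hz : fB z z = 0) (hz0 : z ≠ 0) :
    IsKron g := by
  classical
  have hs := hO.hB
  obtain ⟨u, -, hu⟩ := exists_partner hs hz hz0
  have hzu : fB z u = 1 := by rw [hs.herm, hu, map_one]
  obtain ⟨x₀, hx₀⟩ : ∃ x₀ : α → F, x₀ ≠ 0 := by
    obtain ⟨i⟩ : Nonempty α := Fintype.card_pos_iff.1 (by have := hO.ha; omega)
    exact ⟨Pi.single i 1, by simp⟩
  obtain ⟨ξ, hξ⟩ := exists_dual hx₀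
  let L : (β → F) →ₗ[F] F :=
    { toFun := fun y => ξ ⬝ᵥ sl fB u ((g : Mn) *ᵥ tmul x₀ y - tmul x₀ y)
      map_add' := fun a b => by
        rw [tmul_add_right, Matrix.mulVec_add, add_sub_add_comm, map_add, dotProduct_add]
      map_smul' := fun c a => by
        rw [tmul_smul_right, Matrix.mulVec_smul, ← smul_sub, map_smul, dotProduct_smul, RingHom.id_apply] }
  obtain ⟨y₀, hy₀⟩ := fn_surjective hs.toSesq (fun j => L (Pi.single j 1))
  have hL : ∀ y, L y = fB y y₀ := fun y => by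
    rw [← fn_dot hs.toSesq, hy₀]
    conv_lhs => rw [← Finset.univ_sum_single y, map_sum]
    refine Finset.sum_congr rfl fun j _ => ?_
    rw [show (Pi.single j (y j) : β → F) = y j • Pi.single j 1 by rw [← Pi.single_smul, smul_eq_mul, mul_one],
      map_smul, smul_eq_mul, mul_comm]
  have hy₀z : fB y₀ z = 0 := hs.refl _ _ (by
    rw [← hL]
    show ξ ⬝ᵥ sl fB u _ = 0
    rw [h.fix, sub_self, map_zero, dotProduct_zero])
  obtain ⟨l, hl⟩ := hs.exists_trace_eq (a := -fB y₀ y₀) (by rw [map_neg, hs.self_fixed])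
  obtain ⟨e, he, hek, hex⟩ := hO.exists_eichB hz hy₀z hl
  obtain ⟨g', hg'⟩ : ∃ g', g' = g * e := ⟨_, rfl⟩
  have hg'T : Tw fB f M g' := hg' ▸ hg.mul_right hO he
  have hpure : ∀ x y, fB y z = 0 → (g' : Mn) *ᵥ tmul x y = tmul x y := fun x y hy => by
    obtain ⟨μ, hμ⟩ := h.scal hO (hO.scal_of_scal2 hS) hg hz hz0 hu hy
    obtain ⟨X, hX⟩ := h.act (tmul x y) (by rw [hO.sl_tmul, hy, zero_smul])
    have hμy : μ = fB y y₀ := by
      rw [← hL]
      show μ = ξ ⬝ᵥ sl fB u _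
      rw [hμ, dotProduct_smul, hξ, smul_eq_mul, mul_one]
    have hX' : X = μ • x := by
      have := congrArg (sl fB u) hX
      rw [hO.sl_tmul, hzu, one_smul, hμ] at this
      exact this.symm
    rw [hg', Units.val_mul, ← Matrix.mulVec_mulVec, hex, hO.sl_tmul, hO.sl_tmul, hy, zero_smul, tmul_zero_left,
      add_zero, tmul_zero_left, smul_zero, add_zero, Matrix.mulVec_sub, h.fix, eq_add_of_sub_eq hX, hX', hμy]
    abel
  have hfix : ∀ t, sl fB z t = 0 → (g' : Mn) *ᵥ t = t := fun t ht => by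
    let π : V →ₗ[F] V := LinearMap.id - (fac u).comp (sl fB z)
    have e1 : (Matrix.toLin' (g' : Mn)).comp π = π := ext_tmul fun x y => by
      have : π (tmul x y) = tmul x (y - fB y z • u) := by
        simp only [π, LinearMap.sub_apply, LinearMap.id_apply, LinearMap.comp_apply, hO.sl_tmul, fac_apply,
          tmul_sub_right, tmul_smul_left, tmul_smul_right]
      rw [LinearMap.comp_apply, Matrix.toLin'_apply, this, hpure _ _ (by
        rw [hs.toSesq.sub_left, hs.smul_left, hu, mul_one, sub_self])]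
    have := LinearMap.congr_fun e1 t
    simpa [π, ht, tmul_zero_left] using this
  let D : Ea := (sl fB u).comp ((Matrix.toLin' (g' : Mn) - LinearMap.id).comp (fac u))
  have hD' : ∀ x, (g' : Mn) *ᵥ tmul x u - tmul x u = tmul (D x) z := fun x => by
    have hψ : fn fB u ⬝ᵥ z = 1 := by rw [fn_dot hs.toSesq, hzu]
    refine eq_tmul_of_slices hψ fun φ hφ => ?_
    obtain ⟨w, rfl⟩ := fn_surjective hs.toSesq φ
    rw [fn_dot hs.toSesq] at hφ
    refine hO.hA.eq_zero _ fun x' => hO.hA.refl _ _ ?_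
    have hw : (g' : Mn) *ᵥ tmul x' w = tmul x' w := hpure _ _ (hs.refl _ _ hφ)
    show fA (sl fB w _) x' = 0
    rw [← hO.f_sl, hO.hV.toSesq.sub_left]
    conv_lhs => arg 1; rw [← hw]
    rw [hg'T.1, sub_self]
  have hDin : ∀ t, (g' : Mn) *ᵥ t = t + rootMap z (fn fB z) D t := fun t => by
    have h1 := hfix (t - tmul (sl fB z t) u) (by rw [map_sub, hO.sl_tmul, hu, one_smul, sub_self])
    rw [Matrix.mulVec_sub] at h1
    rw [rootMap_apply, show slice (fn fB z) t = sl fB z t from rfl, ← hD']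
    linear_combination (norm := abel) h1
  obtain ⟨μ, hμ⟩ := hS z hz hz0 D g' hDin hg'T
  obtain ⟨B, hB⟩ := exists_gl_of_injective (LinearMap.id + (μ • hs.toSesq.lin z).smulRight z) fun a b hab => by
    have hl' := congrArg (hs.toSesq.lin z) hab
    simp only [LinearMap.add_apply, LinearMap.id_apply, LinearMap.smulRight_apply, LinearMap.smul_apply,
      hs.toSesq.lin_apply, hs.add_left, hs.smul_left, hz, smul_eq_mul, mul_zero, add_zero] at hl' hab
    rw [hl'] at hab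
    exact add_right_cancel hab
  have hg'k : IsKron g' := isKron_of_apply 1 B fun x y => by
    have h1 := hfix (tmul x y - tmul (fB y z • x) u) (by
      rw [map_sub, hO.sl_tmul, hO.sl_tmul, hu, one_smul, sub_self])
    rw [Matrix.mulVec_sub] at h1
    rw [Units.val_one, Matrix.one_mulVec, hB]
    simp only [LinearMap.add_apply, LinearMap.id_apply, LinearMap.smulRight_apply, LinearMap.smul_apply,
      hs.toSesq.lin_apply, tmul_add_right, tmul_smul_right, smul_eq_mul]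
    have h2 := hD' (fB y z • x)
    rw [hμ, smul_smul] at h2
    simp only [tmul_smul_left] at h1 h2
    rw [eq_add_of_sub_eq h1, eq_add_of_sub_eq h2]
    module
  have := IsKron.mul hg'k hek.inv
  rwa [hg', mul_inv_cancel_right] at this

omit hO in
/-- An overgroup from the membership of all products of isometries. -/
theorem Ovr.of_mem (hA : Herm σ fA) (hB : Herm σ fB) (hV : Herm σ f)
    (ten : ∀ x x' y y', f (tmul x y) (tmul x' y') = fA x x' * fB y y') (le : M ≤ isoSL f)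
    (mem : ∀ g ∈ isoSL f, IsKron g → g ∈ M) (ha : 2 ≤ Fintype.card α) (hb : 3 ≤ Fintype.card β)
    (hab : Fintype.card α < Fintype.card β) : Ovr σ fA fB f M where
  hA := hA
  hB := hB
  hV := hV
  ten := ten
  le := le
  mem := mem
  ha := ha
  hb := hb
  hab := hab
  kB {B} hB' := mem _ ⟨iso_kg hV ten (one_mul 1) (fun x x' => by simp) (fun y y' => by rw [hB'.1, one_mul]),
    MonoidHom.mem_ker.2 (Units.ext (by
      show (((1 : GL α F) : Ma) ⊗ₖ (B : Mb)).det = 1
      rw [Matrix.det_kronecker, Units.val_one, Matrix.det_one, one_pow, one_mul,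
        show (B : Mb).det = 1 from congrArg Units.val (MonoidHom.mem_ker.1 hB'.2), one_pow]))⟩ (kg_isKron _ _)

omit hO in
theorem Ovr.kA (hO : Ovr σ fA fB f M) {A : GL α F} (hA : A ∈ isoSL fA) : kg A (1 : GL β F) ∈ M :=
  hO.mem _ ⟨hO.kg_iso (one_mul 1) (fun x x' => by rw [hA.1, one_mul]) (fun y y' => by simp),
    MonoidHom.mem_ker.2 (Units.ext (by
      show ((A : Ma) ⊗ₖ ((1 : GL β F) : Mb)).det = 1
      rw [Matrix.det_kronecker, Units.val_one, Matrix.det_one, one_pow, mul_one,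
        show (A : Ma).det = 1 from congrArg Units.val (MonoidHom.mem_ker.1 hA.2), one_pow]))⟩ (kg_isKron _ _)

omit hO in
/-- With all products of isometries, twisted elements are in the group. -/
theorem Ovr.scal2 (hO : Ovr σ fA fB f M) (hS : Scal fB M) : Scal2 fB f M := by
  intro z hz hz0 D g hg ⟨hgi, A, B, hB, hm⟩
  refine hS z hz hz0 D ⟨g, ?_, hg⟩
  have hK : kg A B ∈ M := by
    refine hO.mem _ ⟨fun s t => ?_, ?_⟩ (kg_isKron _ _)
    · obtain ⟨s', rfl⟩ : ∃ s', (g : Mn) *ᵥ s' = s := ⟨_, mulVec_inv_cancel _ s⟩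
      obtain ⟨t', rfl⟩ : ∃ t', (g : Mn) *ᵥ t' = t := ⟨_, mulVec_inv_cancel _ t⟩
      rw [Matrix.mulVec_mulVec, Matrix.mulVec_mulVec, ← Units.val_mul, hO.iso hm, hgi]
    · have hgd : g ∈ Geo.specialLinear (α × β) F := det_of_cube fun t => by
        have hN : ∀ t, ((g : Mn) - 1) *ᵥ t = rootMap z (fn fB z) D t := fun t => by
          rw [Matrix.sub_mulVec, Matrix.one_mulVec, hg, add_sub_cancel_left]
        rw [hN, hN, hN, rootMap_sq (by rw [fn_dot hO.hB.toSesq, hz])]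
      have := mul_mem (hO.le hm).2 (inv_mem hgd)
      rwa [mul_inv_cancel_right] at this
  have := mul_mem (inv_mem hK) hm
  rwa [inv_mul_cancel_left] at this

end Cfsg.Agent.Classical.TensorHerm
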