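import Cfsg.Agent.Lib.Classical.MaxTensorHermScal

/-!
With scalar root coefficients: stabilisers of singular lines of tensors are of product shape, and fusion of root
elements is controlled for the overgroups of the whole product.
-/

set_option autoImplicit false
set_option linter.unusedSectionVars false

namespace Cfsg.Agent.Classical.TensorHerm

open Matrix Module MaxTv TensorMax Overfield
open scoped Kronecker
open Cfsg.Agent.Classical.TensorRoot (kg kg_apply kg_isKron)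

variable {F : Type*} [Field F] [Fintype F] {α β : Type} [Fintype α] [DecidableEq α] [Fintype β] [DecidableEq β]

local notation "V" => (α × β → F)
local notation "Mn" => Matrix (α × β) (α × β) F
local notation "Ma" => Matrix α α F
local notation "Mb" => Matrix β β F
local notation "Ea" => ((α → F) →ₗ[F] (α → F))

variable {σ : F ≃+* F} {fA : (α → F) → (α → F) → F} {fB : (β → F) → (β → F) → F}
  {f : (α × β → F) → (α × β → F) → F} {M : Subgroup (GL (α × β) F)}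

theorem dot_slice (ξ : α → F) (φ : β → F) (t : V) : φ ⬝ᵥ lslice ξ t = ξ ⬝ᵥ slice φ t := by
  show ∑ j, φ j * ∑ i, ξ i * t (i, j) = ∑ i, ξ i * ∑ j, t (i, j) * φ j
  simp only [Finset.mul_sum]
  rw [Finset.sum_comm]
  exact Finset.sum_congr rfl fun i _ => Finset.sum_congr rfl fun j _ => by ring

section line

variable (hO : Pre σ fA fB f M)
include hO

/-- The orthogonal space of a stable line of tensors is stable. -/
theorem Pre.sl_stab {g : GL (α × β) F} (hg : g ∈ M) {z : β → F} {G : GL α F}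
    (hG : ∀ x, (g : Mn) *ᵥ tmul x z = tmul ((G : Ma) *ᵥ x) z) (t : V) (x : α → F) :
    fA (sl fB z ((g : Mn) *ᵥ t)) x = fA (sl fB z t) (((G⁻¹ : GL α F) : Ma) *ᵥ x) := by
  rw [← hO.f_sl, ← hO.f_sl]
  conv_lhs => arg 2; rw [← mulVec_inv_cancel G x, ← hG]
  rw [hO.iso hg]

theorem Pre.sl_stab_zero {g : GL (α × β) F} (hg : g ∈ M) {z : β → F} {G : GL α F}
    (hG : ∀ x, (g : Mn) *ᵥ tmul x z = tmul ((G : Ma) *ᵥ x) z) {t : V} (ht : sl fB z t = 0) :
    sl fB z ((g : Mn) *ᵥ t) = 0 :=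
  hO.eq_of_fA fun x => by rw [hO.sl_stab hg hG, ht, hO.hA.toSesq.zero_left, hO.hA.toSesq.zero_left]

variable (hS : Scal2 fB f M)
include hS

/-- The middle part of a stabiliser of a line is of product shape. -/
theorem Pre.stab_scal {g : GL (α × β) F} (hg : g ∈ M) {z : β → F} (hz : fB z z = 0) (hz0 : z ≠ 0) {G : GL α F}
    (hG : ∀ x, (g : Mn) *ᵥ tmul x z = tmul ((G : Ma) *ᵥ x) z) {y w : β → F} (hy : fB y z = 0) (hw : fB w z = 0) :
    ∃ ν : F, ∀ x, sl fB y ((g : Mn) *ᵥ tmul x w) = ν • ((G : Ma) *ᵥ x) := by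
  have hs := hO.hB
  obtain ⟨u, -, hu⟩ := exists_partner hs hz hz0
  have hzu : fB z u = 1 := by rw [hs.herm, hu, map_one]
  have hGi : ∀ x, ((g⁻¹ : GL (α × β) F) : Mn) *ᵥ tmul x z = tmul (((G⁻¹ : GL α F) : Ma) *ᵥ x) z := fun x =>
    gl_mulVec_injective g (by
      show (g : Mn) *ᵥ _ = (g : Mn) *ᵥ _
      rw [mulVec_inv_cancel, hG, mulVec_inv_cancel])
  obtain ⟨l, hl⟩ := hs.exists_trace_eq (a := -fB y y) (by rw [map_neg, hs.self_fixed])
  obtain ⟨e, he, -, hex⟩ := hO.exists_eichB hz hy hl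
  have hzy : fB z y = 0 := hs.refl _ _ hy
  have hk : g⁻¹ * e * g ∈ M := mul_mem (mul_mem (inv_mem hg) he) hg
  have hkz : ∀ t, sl fB z t = 0 → ((g⁻¹ * e * g : GL (α × β) F) : Mn) *ᵥ t =
      t + tmul (-(((G⁻¹ : GL α F) : Ma) *ᵥ sl fB y ((g : Mn) *ᵥ t))) z := fun t ht => by
    rw [Units.val_mul, Units.val_mul, ← Matrix.mulVec_mulVec, ← Matrix.mulVec_mulVec, hex,
      hO.sl_stab_zero hg hG ht]
    simp only [tmul_zero_left, smul_zero, add_zero, Matrix.mulVec_sub, inv_mulVec_cancel, hGi]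
    rw [show -(((G⁻¹ : GL α F) : Ma) *ᵥ sl fB y ((g : Mn) *ᵥ t)) =
      (0 : α → F) - ((G⁻¹ : GL α F) : Ma) *ᵥ sl fB y ((g : Mn) *ᵥ t) by abel, tmul_sub_left, tmul_zero_left]
    abel
  have hrad : Rad fB (g⁻¹ * e * g) z := by
    refine ⟨fun x => ?_, fun t ht => ⟨_, by rw [hkz t ht, add_sub_cancel_left]⟩⟩
    rw [hkz _ (by rw [hO.sl_tmul, hz, zero_smul]), hG, hO.sl_tmul, hzy, zero_smul, Matrix.mulVec_zero, neg_zero,
      tmul_zero_left, add_zero]
  obtain ⟨μ, hμ⟩ := hrad.scal hO (hO.scal_of_scal2 hS) (hO.tw_self hk) hz hz0 hu hw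
  refine ⟨-μ, fun x => ?_⟩
  have h1 := hμ x
  rw [hkz _ (by rw [hO.sl_tmul, hw, zero_smul]), add_sub_cancel_left, hO.sl_tmul, hzu, one_smul] at h1
  rw [neg_smul, ← Matrix.mulVec_smul, ← h1, Matrix.mulVec_neg, mulVec_inv_cancel, neg_neg]

/-- Stabilisers of singular lines of tensors are of product shape. -/
theorem Pre.stab_kron {g : GL (α × β) F} (hg : g ∈ M) {z : β → F} (hz : fB z z = 0) (hz0 : z ≠ 0)
    (hline : ∀ x, ∃ x', (g : Mn) *ᵥ tmul x z = tmul x' z) : IsKron g := by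
  classical
  have hs := hO.hB
  have hA := hO.hA
  obtain ⟨u, hu', hu⟩ := exists_partner hs hz hz0
  have hzu : fB z u = 1 := by rw [hs.herm, hu, map_one]
  have hψ : fn fB u ⬝ᵥ z = 1 := by rw [fn_dot hs.toSesq, hzu]
  choose G₀ hG₀ using hline
  have hG₀' : ∀ x, G₀ x = slice (fn fB u) ((g : Mn) *ᵥ tmul x z) := fun x => by
    rw [hG₀, slice_tmul, hψ, one_smul]
  obtain ⟨G, hGx⟩ := exists_gl_of_injective ((slice (fn fB u)).comp ((Matrix.toLin' (g : Mn)).comp (fac z)))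
    fun a b hab => fac_injective hz0 (gl_mulVec_injective g (by
      simp only [LinearMap.comp_apply, Matrix.toLin'_apply, fac_apply, ← hG₀'] at hab
      show (g : Mn) *ᵥ tmul a z = (g : Mn) *ᵥ tmul b z
      rw [hG₀, hG₀, hab]))
  have hG : ∀ x, (g : Mn) *ᵥ tmul x z = tmul ((G : Ma) *ᵥ x) z := fun x => by
    rw [hGx, LinearMap.comp_apply, LinearMap.comp_apply, fac_apply, Matrix.toLin'_apply, ← hG₀', hG₀]
  obtain ⟨i⟩ : Nonempty α := Fintype.card_pos_iff.1 (by have := hO.ha; omega)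
  obtain ⟨x₀, hx₀⟩ : ∃ x₀ : α → F, (G : Ma) *ᵥ x₀ ≠ 0 := ⟨Pi.single i 1, fun h0 => by
    have := gl_mulVec_injective G (h0.trans (Matrix.mulVec_zero _).symm)
    simpa using congrFun this i⟩
  obtain ⟨ξ, hξ⟩ := exists_dual hx₀
  -- the middle map
  let K : (β → F) →ₗ[F] (β → F) :=
    { toFun := fun w => lslice ξ ((g : Mn) *ᵥ tmul x₀ w)
      map_add' := fun a b => by rw [tmul_add_right, Matrix.mulVec_add, map_add]
      map_smul' := fun c a => by rw [tmul_smul_right, Matrix.mulVec_smul, map_smul, RingHom.id_apply] }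
  have hKz : ∀ w, fB w z = 0 → fB (K w) z = 0 := fun w hw => by
    rw [← fn_dot hs.toSesq]
    show fn fB z ⬝ᵥ lslice ξ _ = 0
    rw [dot_slice]
    show ξ ⬝ᵥ sl fB z _ = 0
    rw [hO.sl_stab_zero hg hG (by rw [hO.sl_tmul, hw, zero_smul]), dotProduct_zero]
  have hmid : ∀ x w, fB w z = 0 →
      ∃ X, (g : Mn) *ᵥ tmul x w - tmul ((G : Ma) *ᵥ x) (K w) = tmul X z := fun x w hw => by
    refine ⟨_, eq_tmul_of_slices hψ fun φ hφ => ?_⟩
    obtain ⟨y, rfl⟩ := fn_surjective hs.toSesq φ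
    rw [fn_dot hs.toSesq] at hφ
    obtain ⟨ν, hν⟩ := hO.stab_scal hS hg hz hz0 hG (hs.refl _ _ hφ) hw
    have hK : fn fB y ⬝ᵥ K w = ν := by
      show fn fB y ⬝ᵥ lslice ξ _ = ν
      rw [dot_slice]
      show ξ ⬝ᵥ sl fB y _ = ν
      rw [hν, dotProduct_smul, hξ, smul_eq_mul, mul_one]
    rw [map_sub, slice_tmul, hK]
    show sl fB y _ - _ = 0
    rw [hν, sub_self]
  have hmid_iso : ∀ x x' w w', fB w z = 0 → fB w' z = 0 →
      fA ((G : Ma) *ᵥ x) ((G : Ma) *ᵥ x') * fB (K w) (K w') = fA x x' * fB w w' := fun x x' w w' hw hw' => by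
    obtain ⟨X, hX⟩ := hmid x w hw
    obtain ⟨X', hX'⟩ := hmid x' w' hw'
    have := hO.iso hg (tmul x w) (tmul x' w')
    rw [eq_add_of_sub_eq hX, eq_add_of_sub_eq hX', hO.ten, hO.hV.add_left, hO.hV.add_right, hO.hV.add_right,
      hO.ten, hO.ten, hO.ten, hO.ten, hz, hKz w hw, hs.refl _ _ (hKz w' hw'), mul_zero, mul_zero, mul_zero,
      zero_add, zero_add] at this
    simpa using this
  -- the multiplier
  obtain ⟨w₁, hw₁, hn₁⟩ : ∃ w, fB w z = 0 ∧ fB w w ≠ 0 := by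
    obtain ⟨w, -, hwz, hww⟩ := exists_aniso_perp hs hO.hb hu' hz hu
    exact ⟨w, hwz, hww⟩
  obtain ⟨a₁, a₂, -, -, ha₁₂⟩ := exists_hyp hA hO.ha
  have hk₁ : fB (K w₁) (K w₁) ≠ 0 := fun h0 => hn₁ (by
    have := hmid_iso a₂ a₁ w₁ w₁ hw₁ hw₁
    rw [h0, mul_zero, ha₁₂, one_mul] at this
    exact this.symm)
  obtain ⟨μ, hμ⟩ : ∃ μ, μ = fB w₁ w₁ / fB (K w₁) (K w₁) := ⟨_, rfl⟩
  have hμ0 : μ ≠ 0 := hμ ▸ div_ne_zero hn₁ hk₁
  have hGiso : ∀ x x', fA ((G : Ma) *ᵥ x) ((G : Ma) *ᵥ x') = μ * fA x x' := fun x x' => by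
    rw [hμ, div_mul_eq_mul_div, eq_div_iff hk₁, hmid_iso x x' w₁ w₁ hw₁ hw₁, mul_comm]
  have hKiso : ∀ w w', fB w z = 0 → fB w' z = 0 → μ * fB (K w) (K w') = fB w w' := fun w w' hw hw' => by
    have := hmid_iso a₂ a₁ w w' hw hw'
    rwa [hGiso, ha₁₂, mul_one, one_mul] at this
  obtain ⟨ν, hν⟩ := hs.exists_norm (t := μ) (by rw [hμ, map_div₀, hs.self_fixed, hs.self_fixed])
  have hν0 : ν ≠ 0 := fun e => hμ0 (by rw [← hν, e, zero_mul])
  obtain ⟨A, hAx⟩ := exists_gl_of_injective (ν⁻¹ • Matrix.toLin' (G : Ma)) fun x x' h => gl_mulVec_injective G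
    (smul_right_injective _ (inv_ne_zero hν0) (by simpa [Matrix.toLin'_apply] using h))
  have hA' : ∀ x, (A : Ma) *ᵥ x = ν⁻¹ • (G : Ma) *ᵥ x := fun x => by
    rw [hAx, LinearMap.smul_apply, Matrix.toLin'_apply]
  have hAiso : ∀ x x', fA ((A : Ma) *ᵥ x) ((A : Ma) *ᵥ x') = 1 * fA x x' := fun x x' => by
    rw [hA', hA', hA.smul_left, hA.smul_right, hGiso, ← hν, map_inv₀]
    have : σ ν ≠ 0 := (map_ne_zero σ).2 hν0
    field_simp
  -- the second factor
  let pp : (β → F) →ₗ[F] (β → F) :=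
    LinearMap.id - (hs.toSesq.lin z).smulRight u - (hs.toSesq.lin u).smulRight z
  have hpp : ∀ y, pp y = y - fB y z • u - fB y u • z := fun y => rfl
  have hppz : ∀ y, fB (pp y) z = 0 := fun y => by
    rw [hpp, hs.toSesq.sub_left, hs.toSesq.sub_left, hs.smul_left, hs.smul_left, hu, hz]; ring
  have hppu : ∀ y, fB (pp y) u = 0 := fun y => by
    rw [hpp, hs.toSesq.sub_left, hs.toSesq.sub_left, hs.smul_left, hs.smul_left, hu', hzu]; ring
  let R : (β → F) →ₗ[F] (β → F) := K.comp pp - ((hs.toSesq.lin u).comp (K.comp pp)).smulRight z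
  have hR : ∀ y, R y = K (pp y) - fB (K (pp y)) u • z := fun y => rfl
  have hRz : ∀ y, fB (R y) z = 0 := fun y => by
    rw [hR, hs.toSesq.sub_left, hs.smul_left, hz, hKz _ (hppz y), mul_zero, sub_zero]
  have hRu : ∀ y, fB (R y) u = 0 := fun y => by
    rw [hR, hs.toSesq.sub_left, hs.smul_left, hzu, mul_one, sub_self]
  have hRR : ∀ y y', μ * fB (R y) (R y') = fB (pp y) (pp y') := fun y y' => by
    rw [← hKiso _ _ (hppz y) (hppz y'), hR, hR]
    simp only [hs.toSesq.sub_left, hs.toSesq.sub_right, hs.smul_left, hs.smul_right, hz, hKz _ (hppz y),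
      hs.refl _ _ (hKz _ (hppz y')), mul_zero, sub_zero]
  let BL : (β → F) →ₗ[F] (β → F) :=
    (hs.toSesq.lin z).smulRight ((σ ν)⁻¹ • u) + (hs.toSesq.lin u).smulRight (ν • z) + ν • R
  have hBL : ∀ y, BL y = fB y z • (σ ν)⁻¹ • u + fB y u • ν • z + ν • R y := fun y => rfl
  have hBiso : ∀ y y', fB (BL y) (BL y') = 1 * fB y y' := fun y y' => by
    have e : ∀ y, y = fB y z • u + fB y u • z + pp y := fun y => by rw [hpp]; abel
    rw [one_mul]
    conv_rhs => rw [e y, e y']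
    rw [hBL, hBL]
    have hσν : σ ν ≠ 0 := (map_ne_zero σ).2 hν0
    simp only [hs.add_left, hs.add_right, hs.smul_left, hs.smul_right, map_inv₀, hs.invol, hz, hu', hu, hzu,
      hppz, hppu, hs.refl _ _ (hppz _), hs.refl _ _ (hppu _), hRz, hRu, hs.refl _ _ (hRz _), hs.refl _ _ (hRu _),
      ← hRR, ← hν, mul_zero, mul_one, add_zero, zero_add]
    field_simp
  obtain ⟨B, hB⟩ := exists_gl_of_injective BL fun a b hab => sub_eq_zero.1 (hs.eq_zero _ fun y => hs.refl _ _ (by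
    have := hBiso (a - b) y
    rw [map_sub, hab, sub_self, hs.toSesq.zero_left, one_mul] at this
    exact this.symm))
  obtain ⟨k, hk⟩ : ∃ k, k = kg A B := ⟨_, rfl⟩
  have hkiso : ∀ s t, f ((k : Mn) *ᵥ s) ((k : Mn) *ᵥ t) = f s t :=
    hk ▸ hO.kg_iso (one_mul 1) hAiso (fun y y' => by rw [hB, hB, hBiso])
  have hBz : BL z = ν • z := by
    rw [hBL, hz, hzu, hR, show pp z = 0 by rw [hpp, hz, hzu]; simp, map_zero, hs.toSesq.zero_left]
    simp
  have hkz : ∀ x, (k : Mn) *ᵥ tmul x z = tmul ((G : Ma) *ᵥ x) z := fun x => by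
    rw [hk, kg_apply, hA', hB, hBz, tmul_smul_left, tmul_smul_right, smul_smul, inv_mul_cancel₀ hν0, one_smul]
  have hkmid : ∀ x y, fB y z = 0 → ∃ X, (g : Mn) *ᵥ tmul x y - (k : Mn) *ᵥ tmul x y = tmul X z := fun x y hy => by
    obtain ⟨X, hX⟩ := hmid x (pp y) (hppz y)
    have ey : y = fB y u • z + pp y := by rw [hpp, hy]; simp
    refine ⟨X + fB (K (pp y)) u • (G : Ma) *ᵥ x, ?_⟩
    rw [hk, kg_apply, hA', hB, hBL, hy, hR]
    conv_lhs => arg 1; rw [ey, tmul_add_right, tmul_smul_right, Matrix.mulVec_add, Matrix.mulVec_smul, hG,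
      eq_add_of_sub_eq hX]
    simp only [zero_smul, zero_add, smul_sub, tmul_add_right, tmul_sub_right, tmul_smul_right, tmul_smul_left,
      tmul_add_left, smul_smul, smul_add]
    match_scalars <;> field_simp <;> ring
  obtain ⟨h, hh⟩ : ∃ h, h = k⁻¹ * g := ⟨_, rfl⟩
  have hhfix : ∀ x, (h : Mn) *ᵥ tmul x z = tmul x z := fun x => by
    rw [hh, Units.val_mul, ← Matrix.mulVec_mulVec, hG, ← hkz, inv_mulVec_cancel]
  have hkiz : ∀ X, ∃ X', ((k⁻¹ : GL (α × β) F) : Mn) *ᵥ tmul X z = tmul X' z := fun X =>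
    ⟨_, gl_mulVec_injective k (by
      show (k : Mn) *ᵥ _ = (k : Mn) *ᵥ _
      rw [mulVec_inv_cancel, hkz, mulVec_inv_cancel G X])⟩
  have hhact : ∀ t, sl fB z t = 0 → ∃ x, (h : Mn) *ᵥ t - t = tmul x z := by
    let π : V →ₗ[F] V := LinearMap.id - (fac u).comp (sl fB z)
    let N : V →ₗ[F] V := (Matrix.toLin' (h : Mn) - LinearMap.id).comp π
    let S : Submodule F V := (LinearMap.range (fac z)).comap N
    have hall : ∀ t, t ∈ S := fun t => by
      rw [sum_tmul_basis t]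
      refine S.sum_mem fun p _ => S.smul_mem _ ?_
      obtain ⟨y, hy⟩ : ∃ y, y = (Pi.single p.2 1 : β → F) - fB (Pi.single p.2 1) z • u := ⟨_, rfl⟩
      have e : π (tmul (Pi.single p.1 1) (Pi.single p.2 1)) = tmul (Pi.single p.1 1) y := by
        simp only [π, hy, LinearMap.sub_apply, LinearMap.id_apply, LinearMap.comp_apply, hO.sl_tmul, fac_apply,
          tmul_sub_right, tmul_smul_left, tmul_smul_right]
      have hyz : fB y z = 0 := by rw [hy, hs.toSesq.sub_left, hs.smul_left, hu, mul_one, sub_self]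
      obtain ⟨X, hX⟩ := hkmid (Pi.single p.1 1) y hyz
      obtain ⟨X', hX'⟩ := hkiz X
      show N _ ∈ LinearMap.range (fac z)
      refine ⟨X', ?_⟩
      rw [LinearMap.comp_apply, e, fac_apply, LinearMap.sub_apply, LinearMap.id_apply, Matrix.toLin'_apply, hh,
        Units.val_mul, ← Matrix.mulVec_mulVec, eq_add_of_sub_eq hX, Matrix.mulVec_add, hX', inv_mulVec_cancel,
        add_sub_cancel_right]
    intro t ht
    obtain ⟨X, hX⟩ := hall t
    refine ⟨X, ?_⟩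
    rw [fac_apply] at hX
    rw [hX]
    simp [N, π, ht, tmul_zero_left]
  have hhiso : ∀ s t, f ((h : Mn) *ᵥ s) ((h : Mn) *ᵥ t) = f s t := fun s t => by
    rw [← hkiso, hh, Units.val_mul, ← Matrix.mulVec_mulVec, ← Matrix.mulVec_mulVec, mulVec_inv_cancel,
      mulVec_inv_cancel, hO.iso hg]
  have hhsl : ∀ t, sl fB z ((h : Mn) *ᵥ t) = sl fB z t := fun t => hO.eq_of_fA fun x => by
    rw [← hO.f_sl, ← hO.f_sl]
    conv_lhs => rw [← hhfix x]
    exact hhiso _ _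
  have hkk : IsKron k := hk ▸ kg_isKron _ _
  have hhk := Rad.kron hO hS ⟨hhfix, hhact⟩ ⟨hhiso, A, B, fun y y' => by rw [hB, hB, hBiso, one_mul], by
    rw [← hk, hh, mul_inv_cancel_left]; exact hg⟩ hz hz0
  have := IsKron.mul hkk hhk
  rwa [hh, mul_inv_cancel_left] at this

/-- A singular line of tensors mapped to a line: product shape. -/
theorem Pre.line_kron {g : GL (α × β) F} (hg : g ∈ M) {z v : β → F} (hz : fB z z = 0) (hz0 : z ≠ 0)
    (hline : ∀ x, ∃ x', (g : Mn) *ᵥ tmul x z = tmul x' v) : IsKron g := by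
  obtain ⟨a₁, a₂, -, -, ha₁₂⟩ := exists_hyp hO.hA hO.ha
  obtain ⟨x₁, hx₁⟩ := hline a₁
  have ha₁0 : a₁ ≠ 0 := fun e => one_ne_zero (by rw [← ha₁₂, e, hO.hA.toSesq.zero_right])
  have hne : tmul x₁ v ≠ 0 := fun e => tmul_ne_zero ha₁0 hz0 (gl_mulVec_injective g (by
    show (g : Mn) *ᵥ _ = (g : Mn) *ᵥ _
    rw [hx₁, e, Matrix.mulVec_zero]))
  have hv0 : v ≠ 0 := fun e => hne (by rw [e, tmul_zero_right])
  have hx₁0 : x₁ ≠ 0 := fun e => hne (by rw [e, tmul_zero_left])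
  choose G hG using hline
  have hGs : Function.Surjective G := Finite.injective_iff_surjective.1 fun a b e =>
    fac_injective hz0 (gl_mulVec_injective g (by
      show (g : Mn) *ᵥ tmul a z = (g : Mn) *ᵥ tmul b z
      rw [hG, hG, e]))
  have hvv : fB v v = 0 := by
    by_contra hvv
    refine hx₁0 (hO.hA.eq_zero _ fun y => ?_)
    obtain ⟨a, rfl⟩ := hGs y
    have := hO.iso hg (tmul a z) (tmul a₁ z)
    rw [hG, hx₁, hO.ten, hO.ten, hz, mul_zero, mul_eq_zero] at this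
    exact this.resolve_right hvv
  obtain ⟨T, hT, c, -, hTv⟩ := exists_move hO.hB hvv hv0 hz hz0
  have hk := hO.kB hT
  have hk' : IsKron (kg (1 : GL α F) T * g) := hO.stab_kron hS (mul_mem hk hg) hz hz0 fun x => ⟨c • G x, by
    rw [Units.val_mul, ← Matrix.mulVec_mulVec, hG, kg_apply, hTv, Units.val_one, Matrix.one_mulVec,
      tmul_smul_right, tmul_smul_left]⟩
  have := IsKron.mul (kg_isKron (1 : GL α F) T).inv hk'
  rwa [inv_mul_cancel_left] at this

/-- Elements commuting with a root element are of product shape. -/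
theorem Pre.comm_kron {g X : GL (α × β) F} (hg : g ∈ M) {z : β → F} {c : F} (hz : fB z z = 0) (hz0 : z ≠ 0)
    (hc : c ≠ 0) (hX : ∀ t, (X : Mn) *ᵥ t = t + c • tmul (sl fB z t) z) (hcom : g * X = X * g) : IsKron g := by
  obtain ⟨u, -, hu⟩ := exists_partner hO.hB hz hz0
  refine hO.line_kron hS hg hz hz0 (v := z) fun x => ⟨sl fB z ((g : Mn) *ᵥ tmul x u), ?_⟩
  have h := congrArg (fun w : GL (α × β) F => (w : Mn) *ᵥ tmul x u) hcom
  simp only [Units.val_mul, ← Matrix.mulVec_mulVec, hX, Matrix.mulVec_add, Matrix.mulVec_smul, hO.sl_tmul, hu,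
    one_smul] at h
  exact smul_right_injective _ hc (add_left_cancel h)

/-- A root element conjugated by an element moving a line orthogonally to another line. -/
theorem Pre.orth_comm {g X : GL (α × β) F} (hg : g ∈ M) {z b : β → F} {τ : F} (hz : fB z z = 0)
    (hb : fB b b = 0) (hb0 : b ≠ 0) (hτ : τ ≠ 0) (hτs : τ + σ τ = 0) (hXM : X ∈ M)
    (hX : ∀ t, (X : Mn) *ᵥ t = t + τ • tmul (sl fB z t) z)
    (horth : ∀ x, sl fB b ((g : Mn) *ᵥ tmul x z) = 0) : IsKron (g * X * g⁻¹) := by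
  obtain ⟨Y, -, -, hY⟩ := hO.exists_root hb hτs
  refine hO.comm_kron hS (mul_mem (mul_mem hg hXM) (inv_mem hg)) hb hb0 hτ hY ?_
  refine Units.ext (Matrix.ext_iff_mulVec.2 fun t => ?_)
  have hd : ∀ t, ((g * X * g⁻¹ : GL (α × β) F) : Mn) *ᵥ t =
      t + τ • (g : Mn) *ᵥ tmul (sl fB z (((g⁻¹ : GL (α × β) F) : Mn) *ᵥ t)) z := fun t => by
    rw [Units.val_mul, Units.val_mul, ← Matrix.mulVec_mulVec, ← Matrix.mulVec_mulVec, hX, Matrix.mulVec_add,
      mulVec_inv_cancel, Matrix.mulVec_smul]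
  have hzb : ∀ x, sl fB z (((g⁻¹ : GL (α × β) F) : Mn) *ᵥ tmul x b) = 0 := fun x => hO.eq_of_fA fun x' => by
    rw [← hO.f_sl, ← hO.iso hg, mulVec_inv_cancel, hO.hV.herm, hO.f_sl, horth, hO.hA.toSesq.zero_left, map_zero,
      hO.hA.toSesq.zero_left]
  rw [Units.val_mul (g * X * g⁻¹) Y, Units.val_mul Y (g * X * g⁻¹), ← Matrix.mulVec_mulVec, ← Matrix.mulVec_mulVec,
    hY, hd, hd, hY, Matrix.mulVec_add, map_add, Matrix.mulVec_smul, map_smul, hzb, smul_zero, add_zero, map_add,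
    map_smul, horth, smul_zero, add_zero]
  abel

end line

section kron

variable (hO : Ovr σ fA fB f M) (hS : Scal fB M)
include hO hS

/-- A singular line of tensors mapped to a line: product shape. -/
theorem Ovr.line_kron {g : GL (α × β) F} (hg : g ∈ M) {z v : β → F} (hz : fB z z = 0) (hz0 : z ≠ 0)
    (hline : ∀ x, ∃ x', (g : Mn) *ᵥ tmul x z = tmul x' v) : IsKron g :=
  hO.toPre.line_kron (hO.scal2 hS) hg hz hz0 hline

/-- Stabilisers of singular lines of tensors are of product shape. -/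
theorem Ovr.stab_kron {g : GL (α × β) F} (hg : g ∈ M) {z : β → F} (hz : fB z z = 0) (hz0 : z ≠ 0)
    (hline : ∀ x, ∃ x', (g : Mn) *ᵥ tmul x z = tmul x' z) : IsKron g :=
  hO.toPre.stab_kron (hO.scal2 hS) hg hz hz0 hline

/-- Elements commuting with a root element are of product shape. -/
theorem Ovr.comm_kron {g X : GL (α × β) F} (hg : g ∈ M) {z : β → F} {c : F} (hz : fB z z = 0) (hz0 : z ≠ 0)
    (hc : c ≠ 0) (hX : ∀ t, (X : Mn) *ᵥ t = t + c • tmul (sl fB z t) z) (hcom : g * X = X * g) : IsKron g :=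
  hO.toPre.comm_kron (hO.scal2 hS) hg hz hz0 hc hX hcom

/-- Fusion of root elements. -/
theorem Ovr.conj_kron {g X : GL (α × β) F} (hg : g ∈ M) {z : β → F} {c : F} (hz : fB z z = 0) (hz0 : z ≠ 0)
    (hc : c ≠ 0) (hX : ∀ t, (X : Mn) *ᵥ t = t + c • tmul (sl fB z t) z) (hk : IsKron (g * X * g⁻¹)) :
    IsKron g := by
  classical
  haveI : Nonempty α := Fintype.card_pos_iff.1 (by have := hO.ha; omega)
  obtain ⟨u, -, hu⟩ := exists_partner hO.hB hz hz0
  have hne : g * X * g⁻¹ ≠ 1 := fun e => by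
    have hX1 : X = 1 := by
      have := congrArg (fun w => g⁻¹ * w * g) e
      simpa [mul_assoc] using this
    obtain ⟨i⟩ := ‹Nonempty α›
    have h := hX (tmul (Pi.single i 1) u)
    rw [hX1, Units.val_one, Matrix.one_mulVec, hO.sl_tmul, hu, one_smul, left_eq_add] at h
    exact smul_ne_zero hc (tmul_ne_zero (by simp) hz0) h
  let L : (α → F) →ₗ[F] V := (Matrix.toLin' (g : Mn)).comp (fac z)
  obtain ⟨v, -, hv⟩ := hk.root hO.hab hne (W := LinearMap.range L)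
    ((LinearMap.finrank_range_le L).trans (Module.finrank_fintype_fun_eq_card F).le) fun t =>
    ⟨c • sl fB z (((g⁻¹ : GL (α × β) F) : Mn) *ᵥ t), by
      rw [Units.val_mul, Units.val_mul, ← Matrix.mulVec_mulVec, ← Matrix.mulVec_mulVec, hX, Matrix.mulVec_add,
        mulVec_inv_cancel, add_sub_cancel_left, map_smul, LinearMap.comp_apply, fac_apply, Matrix.toLin'_apply,
        Matrix.mulVec_smul]⟩
  refine hO.toPre.line_kron (hO.scal2 hS) hg hz hz0 (v := v) fun x => ?_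
  obtain ⟨x', hx'⟩ := hv.le (LinearMap.mem_range_self L x)
  exact ⟨x', hx'.symm⟩

/-- A moved line orthogonal to another line: product shape. -/
theorem Ovr.orth_kron {g : GL (α × β) F} (hg : g ∈ M) {z b : β → F} (hz : fB z z = 0) (hz0 : z ≠ 0)
    (hb : fB b b = 0) (hb0 : b ≠ 0) (horth : ∀ x, sl fB b ((g : Mn) *ᵥ tmul x z) = 0) : IsKron g := by
  obtain ⟨τ, hτ, hτs⟩ := hO.hB.exists_skew
  obtain ⟨X, hXM, -, hX⟩ := hO.exists_root hz hτs
  exact hO.conj_kron hS hg hz hz0 hτ hX (hO.toPre.orth_comm (hO.scal2 hS) hg hz hb hb0 hτ hτs hXM hX horth)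

end kron

end Cfsg.Agent.Classical.TensorHerm
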