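import Cfsg.Agent.Lib.Classical.MaxTensorHermThreeOps

/-!
An overgroup of the product of a unitary plane and a unitary three-space with scalar root coefficients consists
of elements of product shape, over fields with more than two fixed elements.
-/

set_option autoImplicit false
set_option linter.unusedSectionVars false

namespace Cfsg.Agent.Classical.TensorHerm

open Matrix Module MaxTv TensorMax
open scoped Kronecker

variable {F : Type*} [Field F] [Fintype F] {α β : Type} [Fintype α] [DecidableEq α] [Fintype β] [DecidableEq β]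

local notation "V" => (α × β → F)
local notation "Mn" => Matrix (α × β) (α × β) F
local notation "Ea" => ((α → F) →ₗ[F] (α → F))

variable {σ : F ≃+* F} {fA : (α → F) → (α → F) → F} {fB : (β → F) → (β → F) → F}
  {f : (α × β → F) → (α × β → F) → F} {M : Subgroup (GL (α × β) F)}

variable (hO : Ovr σ fA fB f M) (hS : Scal fB M)
include hO hS

/-- A displaced element with image in two lines is trivial. -/
theorem Ovr.lines_trivial (hα : Fintype.card α = 2) {g C : GL (α × β) F} (hg : g ∈ M) {z : β → F}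
    (hz : fB z z = 0) (hz0 : z ≠ 0) {a y₀ xa : α → F} (haa : fA a a = 0) (hxa : co fB z g xa = a) (ha0 : a ≠ 0)
    (hC : IsKron C)
    (him : ∀ t, ∃ c d : F, (C : Mn) *ᵥ t - t = c • tmul a z + d • (g : Mn) *ᵥ tmul y₀ z) : C = 1 := by
  classical
  by_contra hC1
  haveI : Nonempty α := Fintype.card_pos_iff.1 (by omega)
  obtain ⟨W, hW⟩ : ∃ W : Submodule F V, W = Submodule.span F {tmul a z, (g : Mn) *ᵥ tmul y₀ z} := ⟨_, rfl⟩
  have hW2 : finrank F W ≤ Fintype.card α := by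
    have h4 := finrank_range_le_card (R := F) ![tmul a z, (g : Mn) *ᵥ tmul y₀ z]
    rw [Set.finrank, Matrix.range_cons_cons_empty, Fintype.card_fin, ← hW] at h4
    omega
  obtain ⟨v, hv0, hWv⟩ := hC.root hO.hab hC1 hW2 fun t => by
    obtain ⟨c, d, e⟩ := him t
    rw [e, hW]
    exact Submodule.mem_span_pair.2 ⟨c, d, rfl⟩
  obtain ⟨x', hx'⟩ : tmul a z ∈ LinearMap.range (fac v) :=
    hWv ▸ hW ▸ Submodule.subset_span (Set.mem_insert _ _)
  obtain ⟨ξ, hξ⟩ := exists_dual ha0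
  have hzv : z = (ξ ⬝ᵥ x') • v := by
    have := congrArg (lslice ξ) hx'
    rwa [fac_apply, lslice_tmul, lslice_tmul, hξ, one_smul, eq_comm] at this
  have hc0 : ξ ⬝ᵥ x' ≠ 0 := fun e => hz0 (by rw [hzv, e, zero_smul])
  obtain ⟨x'', hx''⟩ : (g : Mn) *ᵥ tmul y₀ z ∈ LinearMap.range (fac v) :=
    hWv ▸ hW ▸ Submodule.subset_span (Set.mem_insert_of_mem _ rfl)
  obtain ⟨y₁, hy₁⟩ : ∃ y₁, (g : Mn) *ᵥ tmul y₀ z = tmul y₁ z := by
    refine ⟨(ξ ⬝ᵥ x')⁻¹ • x'', ?_⟩
    rw [← hx'', fac_apply, hzv, tmul_smul_right, tmul_smul_left, smul_smul, mul_inv_cancel₀ hc0, one_smul]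
  have hay : fA y₁ a = 0 := hO.hA.refl _ _ (by
    rw [← hxa, co_apply, ← hO.f_sl, ← hy₁, hO.iso hg, hO.ten, hz, mul_zero])
  obtain ⟨μ, hμ⟩ := perp_iso hO.hA hα haa ha0 hay
  have hle : W ≤ F ∙ tmul a z := by
    rw [hW, Submodule.span_le]
    rintro w (rfl | rfl)
    · exact Submodule.mem_span_singleton_self _
    · rw [hy₁, hμ, tmul_smul_left]
      exact Submodule.smul_mem _ μ (Submodule.mem_span_singleton_self _)
  have := Submodule.finrank_mono hle
  rw [hWv, finrank_range_fac hv0, hα, finrank_span_singleton (tmul_ne_zero ha0 hz0)] at this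
  omega

/-- Commutation with the root element. -/
theorem Ovr.kron_of_comm {z : β → F} (hz : fB z z = 0) (hz0 : z ≠ 0) {τ : F} (hτ : τ ≠ 0) {X C : GL (α × β) F}
    (hC : C ∈ M) (hX : ∀ t, (X : Mn) *ᵥ t = t + (1 : F) • rA fB τ z t)
    (h : ∀ t, (C : Mn) *ᵥ rA fB τ z t = rA fB τ z ((C : Mn) *ᵥ t)) : IsKron C := by
  refine hO.comm_kron hS hC hz hz0 hτ (X := X) (fun t => by rw [hX, one_smul, rA_apply]) ?_
  refine Units.ext (Matrix.ext_iff_mulVec.2 fun t => ?_)
  rw [Units.val_mul C X, Units.val_mul X C, ← Matrix.mulVec_mulVec, ← Matrix.mulVec_mulVec, hX, hX,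
    Matrix.mulVec_add, Matrix.mulVec_smul, h]

/-- Vanishing coefficient. -/
theorem Ovr.kron_zero (hα : Fintype.card α = 2) {g : GL (α × β) F} (hg : g ∈ M) {z : β → F} (hz : fB z z = 0)
    (hz0 : z ≠ 0) {τ : F} (hτ : τ ≠ 0) (hτs : τ + σ τ = 0) (hD : ∀ x, dop fB τ z g x = 0)
    (hD' : ∀ x, co fB z g⁻¹ (co fB z g x) = 0) : IsKron g := by
  classical
  by_cases hΦ : ∀ x, co fB z g x = 0
  · exact hO.orth_kron hS hg hz hz0 hz hz0 hΦ
  push Not at hΦ
  obtain ⟨xa, hxa⟩ := hΦ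
  obtain ⟨a, ha⟩ : ∃ a, a = co fB z g xa := ⟨_, rfl⟩
  rw [← ha] at hxa
  have haa : fA a a = 0 := by
    nth_rw 1 [ha]
    rw [hO.co_adj hg, ha, hD', hO.hA.toSesq.zero_right]
  have hrange : ∀ y, ∃ c : F, co fB z g y = c • a := fun y => perp_iso hO.hA hα haa hxa (by
    rw [ha, hO.co_adj hg, hD', hO.hA.toSesq.zero_right])
  obtain ⟨k, hk0, hk⟩ : ∃ k, k ≠ 0 ∧ co fB z g k = 0 := by
    by_contra hc
    push Not at hc
    have hinj : Function.Injective (co fB z g) := (injective_iff_map_eq_zero _).2 fun x hx => by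
      by_contra h0; exact hc x h0 hx
    obtain ⟨b, -, hb⟩ := exists_partner hO.hA haa hxa
    obtain ⟨y, hy⟩ := Finite.injective_iff_surjective.1 hinj b
    obtain ⟨c, hc'⟩ := hrange y
    rw [← hy, hc', hO.hA.smul_left, haa, mul_zero] at hb
    exact zero_ne_one hb
  obtain ⟨y₀, -, -, hy₀⟩ := perp_line hO.hA hα hk0
  have hrange' : ∀ y, ∃ c : F, co fB z g⁻¹ y = c • y₀ := fun y => hy₀ _ (by
    have := hO.co_adj (inv_mem hg) z y k
    rw [inv_inv] at this
    rw [this, hk, hO.hA.toSesq.zero_right])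
  obtain ⟨X, hX, hXt, -⟩ := hO.exists_rX hz hτs g (map_one σ)
  obtain ⟨X', hX', hXt', -⟩ := hO.exists_rX hz hτs g (s := -1) (by rw [map_neg, map_one])
  obtain ⟨d, hd, hdt, -⟩ := hO.exists_rD hz hτs hg (map_one σ)
  obtain ⟨d', hd', hdt', -⟩ := hO.exists_rD hz hτs hg (s := -1) (by rw [map_neg, map_one])
  obtain ⟨A, hA⟩ : ∃ A : V →ₗ[F] V, A = rA fB τ z := ⟨_, rfl⟩
  obtain ⟨B, hB⟩ : ∃ B : V →ₗ[F] V, B = rB fB τ z g := ⟨_, rfl⟩
  have hAA : ∀ t, A (A t) = 0 := fun t => by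
    rw [hA, rA_apply fB τ z t, map_smul, hO.rA_pure hz, smul_zero]
  have hBB : ∀ t, B (B t) = 0 := fun t => by rw [hB, hO.rB_rB hz]
  have hABA : ∀ t, A (B (A t)) = 0 := fun t => by
    rw [hA, hB, rA_apply fB τ z t, map_smul, map_smul, hO.rA_rB, hD, tmul_zero_left, smul_zero]
  have hC : ∀ t, ((d * X * (d' * X') : GL (α × β) F) : Mn) *ᵥ t = t + B (A t) - A (B t) - B (A (B t)) := fun t => by
    simp only [Units.val_mul, ← Matrix.mulVec_mulVec, hXt, hXt', hdt, hdt', ← hA, ← hB, one_smul, neg_one_smul,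
      map_add, map_neg, map_sub, map_zero, hAA, hBB, hABA, neg_zero, add_zero, zero_add, sub_zero]
    abel
  have hCk : IsKron (d * X * (d' * X')) := hO.kron_of_comm hS hz hz0 hτ (mul_mem (mul_mem hd hX) (mul_mem hd' hX'))
    hXt fun t => by
      simp only [← hA, hC, map_add, map_sub, hAA, hABA, map_zero, add_zero, sub_zero]
  have hBpure : ∀ p, ∃ c : F, B (tmul p z) = c • (g : Mn) *ᵥ tmul y₀ z := fun p => by
    obtain ⟨c, hc⟩ := hrange' p
    exact ⟨τ * c, by rw [hB, hO.rB_pure, hc, tmul_smul_left, Matrix.mulVec_smul, smul_smul]⟩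
  have hC1 := hO.lines_trivial hS hα hg hz hz0 haa ha.symm hxa hCk (y₀ := y₀) fun t => by
    obtain ⟨c₁, h1⟩ := hBpure (τ • sl fB z t)
    obtain ⟨c₂, h2⟩ := hBpure (τ • sl fB z (B t))
    obtain ⟨c₃, h3⟩ := hrange (τ • sl fB z (((g⁻¹ : GL (α × β) F) : Mn) *ᵥ t))
    refine ⟨-(τ * c₃), c₁ - c₂, ?_⟩
    rw [hC, show A t = tmul (τ • sl fB z t) z by rw [hA, rA_apply, tmul_smul_left], h1,
      show A (B t) = tmul (τ • sl fB z (B t)) z by rw [hA, rA_apply, tmul_smul_left], h2,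
      show sl fB z (B t) = c₃ • a by
        rw [← h3, co_apply, hB, rB_apply, rA_apply, tmul_smul_left, Matrix.mulVec_smul],
      tmul_smul_left, tmul_smul_left]
    module
  -- the root element commutes with the conjugate
  have hdk : IsKron d := hO.kron_of_comm hS hz hz0 hτ hd hXt fun t => by
    have h1 : ∀ t, B (A t) - A (B t) - B (A (B t)) = 0 := fun t => by
      have := hC t
      rw [hC1, Units.val_one, Matrix.one_mulVec] at this
      linear_combination (norm := abel) (-1 : ℤ) • this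
    have h2 : ∀ t, B (A (B t)) = 0 := fun t => by
      have := congrArg B (h1 t)
      simp only [map_sub, hBB, map_zero, zero_sub, sub_zero, neg_eq_zero] at this
      exact this
    have h3 : B (A t) = A (B t) := by
      have := h1 t
      rwa [h2, sub_zero, sub_eq_zero] at this
    rw [hdt, hdt, ← hA, ← hB, one_smul, one_smul, map_add, h3]
  obtain ⟨X₁, -, -, hX₁⟩ := hO.exists_root hz hτs
  refine hO.conj_kron hS hg hz hz0 hτ hX₁ ?_
  have : g * X₁ * g⁻¹ = d := Units.ext (Matrix.ext_iff_mulVec.2 fun t => by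
    rw [Units.val_mul, Units.val_mul, ← Matrix.mulVec_mulVec, ← Matrix.mulVec_mulVec, hX₁, Matrix.mulVec_add,
      mulVec_inv_cancel, hdt, one_smul, rB_apply, rA_apply])
  rwa [this]

/-- A nilpotent coefficient. -/
theorem Ovr.nil_false (hα : Fintype.card α = 2) {g : GL (α × β) F} (hg : g ∈ M) {z : β → F} (hz : fB z z = 0)
    (hz0 : z ≠ 0) {τ : F} (hτ : τ ≠ 0) (hτs : τ + σ τ = 0) (hns : ∀ c : F, ∃ x, dop fB τ z g x ≠ c • x)
    (hDD : ∀ x, dop fB τ z g (dop fB τ z g x) = 0) : False := by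
  classical
  obtain ⟨D, hDdef⟩ : ∃ D, D = dop fB τ z g := ⟨_, rfl⟩
  rw [← hDdef] at hns hDD
  obtain ⟨A, hA⟩ : ∃ A : V →ₗ[F] V, A = rA fB τ z := ⟨_, rfl⟩
  obtain ⟨B, hB⟩ : ∃ B : V →ₗ[F] V, B = rB fB τ z g := ⟨_, rfl⟩
  by_cases h2 : (2 : F) = 0
  swap
  · -- the coefficient of a conjugate root element
    obtain ⟨d₀, hd₀, hdt₀, -⟩ := hO.exists_rD hz hτs hg (map_one σ)
    obtain ⟨Xe, hXe, hXte, -⟩ := hO.exists_rX hz hτs g (s := -4) (by rw [map_neg, map_ofNat])
    obtain ⟨Xf, hXf, hXtf, -⟩ := hO.exists_rX hz hτs g (map_one σ)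
    obtain ⟨d₂, hd₂, hdt₂, -⟩ := hO.exists_rD hz hτs hg (s := -2) (by rw [map_neg, map_ofNat])
    obtain ⟨k, hk⟩ : ∃ k, k = d₂ * (Xf * (d₀ * (Xe * d₀))) := ⟨_, rfl⟩
    have hkM : k ∈ M := hk ▸ mul_mem hd₂ (mul_mem hXf (mul_mem hd₀ (mul_mem hXe hd₀)))
    obtain ⟨a, ha⟩ : ∃ a : Ea, a = LinearMap.id - (2 : F) • D := ⟨_, rfl⟩
    have hkz : ∀ x, (k : Mn) *ᵥ tmul x z = tmul (a x) z := fun x => by
      have e0 : tmul x z = tmul x z + rB fB τ z g (tmul (0 : α → F) z) := by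
        rw [tmul_zero_left, map_zero, add_zero]
      conv_lhs => rw [e0]
      simp only [hk, Units.val_mul, ← Matrix.mulVec_mulVec, hO.step_D hz hdt₀, hO.step_X hz hXte,
        hO.step_X hz hXtf, hO.step_D hz hdt₂, ← hDdef, map_add, map_smul, map_zero, hDD, smul_zero, add_zero,
        zero_add, one_smul]
      rw [show (x + (-4 : F) • D x + (D x + D x) : α → F) = a x by
        rw [ha, LinearMap.sub_apply, LinearMap.id_apply, LinearMap.smul_apply]; module]
      rw [show (x + (x + (-4 : F) • D x) + (-2 : F) • a x : α → F) = 0 by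
        rw [ha, LinearMap.sub_apply, LinearMap.id_apply, LinearMap.smul_apply]; module]
      rw [tmul_zero_left, map_zero, add_zero]
    have hsa : ∀ x y, fA (a x) y = fA x (a y) := fun x y => by
      simp only [ha, LinearMap.sub_apply, LinearMap.id_apply, LinearMap.smul_apply, hO.hA.toSesq.sub_left,
        hO.hA.toSesq.sub_right, hO.hA.smul_left, hO.hA.smul_right, hDdef, hO.dop_adj hg hτs, map_ofNat]
    obtain ⟨X, hX, -, hXt⟩ := hO.exists_root hz hτs
    have hslk : ∀ t, sl fB z (((k⁻¹ : GL (α × β) F) : Mn) *ᵥ t) = a (sl fB z t) := fun t =>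
      hO.eq_of_fA fun x => by
        rw [hsa, ← hO.f_sl, ← hO.f_sl, ← hkz, ← hO.iso hkM, mulVec_inv_cancel]
    obtain ⟨μ, hμ⟩ := hS z hz hz0 (τ • a.comp a) ⟨k * X * k⁻¹, mul_mem (mul_mem hkM hX) (inv_mem hkM), fun t => by
      rw [rootMap_apply, LinearMap.smul_apply, LinearMap.comp_apply, Units.val_mul, Units.val_mul,
        ← Matrix.mulVec_mulVec, ← Matrix.mulVec_mulVec, hXt, Matrix.mulVec_add, mulVec_inv_cancel,
        Matrix.mulVec_smul, hkz, hslk, tmul_smul_left]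
      rfl⟩
    obtain ⟨x, hx⟩ := hns ((1 - μ / τ) / 4)
    apply hx
    have h4 : (4 : F) ≠ 0 := by
      rw [show (4 : F) = 2 * 2 by norm_num]; exact mul_ne_zero h2 h2
    have h := hμ x
    rw [LinearMap.smul_apply, LinearMap.comp_apply, ha, LinearMap.sub_apply, LinearMap.id_apply, LinearMap.smul_apply,
      LinearMap.sub_apply, LinearMap.id_apply, LinearMap.smul_apply, map_sub, map_smul, hDD, smul_zero, sub_zero] at h
    refine smul_right_injective _ (mul_ne_zero hτ h4) ?_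
    show (τ * 4) • D x = (τ * 4) • ((1 - μ / τ) / 4) • x
    rw [smul_smul, show τ * 4 * ((1 - μ / τ) / 4) = τ - μ by field_simp]
    linear_combination (norm := module) -h
  -- characteristic two
  obtain ⟨X, hX, hXt, -⟩ := hO.exists_rX hz hτs g (map_one σ)
  obtain ⟨d, hd, hdt, -⟩ := hO.exists_rD hz hτs hg (map_one σ)
  have hAA : ∀ t, A (A t) = 0 := fun t => by
    rw [hA, rA_apply fB τ z t, map_smul, hO.rA_pure hz, smul_zero]
  have hBB : ∀ t, B (B t) = 0 := fun t => by rw [hB, hO.rB_rB hz]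
  have hneg : ∀ v : V, v + v = 0 := fun v => by rw [← two_smul F v, h2, zero_smul]
  -- the two lines
  have hΦ : ¬ Function.Injective (co fB z g) := fun hi => by
    have hs' := Finite.injective_iff_surjective.1 hi
    have hi' : Function.Injective (co fB z g⁻¹) := (injective_iff_map_eq_zero _).2 fun y hy =>
      hO.hA.eq_zero _ fun x => by
        obtain ⟨w, rfl⟩ := hs' x
        rw [hO.co_adj hg, hy, hO.hA.toSesq.zero_right]
    obtain ⟨x, hx⟩ := hns 0
    rw [zero_smul] at hx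
    have hDi : Function.Injective D := (injective_iff_map_eq_zero _).2 fun y hy => hi' (by
      rw [hDdef, dop_apply] at hy
      rw [map_zero]
      exact hi (((smul_eq_zero.1 hy).resolve_left (mul_ne_zero hτ hτ)).trans (map_zero _).symm))
    exact hx (hDi ((hDD x).trans (map_zero D).symm))
  have hΨ : ¬ Function.Injective (co fB z g⁻¹) := fun hi => by
    have hs' := Finite.injective_iff_surjective.1 hi
    refine hΦ ((injective_iff_map_eq_zero _).2 fun y hy => hO.hA.eq_zero _ fun x => ?_)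
    obtain ⟨w, rfl⟩ := hs' x
    apply hO.hA.refl
    rw [← hO.co_adj hg, hy, hO.hA.toSesq.zero_left]
  rw [injective_iff_map_eq_zero] at hΦ hΨ
  push Not at hΦ hΨ
  obtain ⟨k, hk, hk0⟩ := hΦ
  obtain ⟨k', hk', hk'0⟩ := hΨ
  obtain ⟨a, ha0, -, hline⟩ := perp_line hO.hA hα hk'0
  obtain ⟨y₀, -, -, hline'⟩ := perp_line hO.hA hα hk0
  have hrange : ∀ y, ∃ c : F, co fB z g y = c • a := fun y => hline _ (by
    rw [hO.co_adj hg, hk', hO.hA.toSesq.zero_right])
  have hrange' : ∀ y, ∃ c : F, co fB z g⁻¹ y = c • y₀ := fun y => hline' _ (by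
    have := hO.co_adj (inv_mem hg) z y k
    rw [inv_inv] at this
    rw [this, hk, hO.hA.toSesq.zero_right])
  obtain ⟨x₁, hx₁⟩ := hns 0
  rw [zero_smul] at hx₁
  obtain ⟨c₀, hc₀⟩ := hrange (co fB z g⁻¹ x₁)
  have hc00 : c₀ ≠ 0 := fun e => hx₁ (by rw [hDdef, dop_apply, hc₀, e, zero_smul, smul_zero])
  obtain ⟨xa, hxa⟩ : ∃ xa, co fB z g xa = a :=
    ⟨c₀⁻¹ • co fB z g⁻¹ x₁, by rw [map_smul, hc₀, smul_smul, inv_mul_cancel₀ hc00, one_smul]⟩
  have hDa : D a = 0 := by
    have := hDD x₁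
    rw [show D x₁ = (τ * τ * c₀) • a by rw [hDdef, dop_apply, hc₀, smul_smul], map_smul, smul_eq_zero] at this
    exact this.resolve_left (mul_ne_zero (mul_ne_zero hτ hτ) hc00)
  have hΨa : co fB z g⁻¹ a = 0 := by
    obtain ⟨c, hc⟩ := hrange' a
    rcases eq_or_ne c 0 with rfl | hc0
    · rw [hc, zero_smul]
    exfalso
    have h1 : co fB z g y₀ = 0 := by
      rw [hDdef, dop_apply, hc, map_smul, smul_eq_zero, smul_eq_zero] at hDa
      exact (hDa.resolve_left (mul_ne_zero hτ hτ)).resolve_left hc0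
    obtain ⟨c', hc'⟩ := hrange' x₁
    rw [hc', map_smul, h1, smul_zero, eq_comm, smul_eq_zero] at hc₀
    exact hc₀.elim hc00 ha0
  have haa : fA a a = 0 := by
    nth_rw 1 [← hxa]
    rw [hO.co_adj hg, hΨa, hO.hA.toSesq.zero_right]
  have hBpure : ∀ p, ∃ c : F, B (tmul p z) = c • (g : Mn) *ᵥ tmul y₀ z := fun p => by
    obtain ⟨c, hc⟩ := hrange' p
    exact ⟨τ * c, by rw [hB, hO.rB_pure, hc, tmul_smul_left, Matrix.mulVec_smul, smul_smul]⟩
  have hAB : ∀ t, ∃ c : F, A (B t) = c • tmul a z := fun t => by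
    obtain ⟨c, hc⟩ := hrange (τ • sl fB z (((g⁻¹ : GL (α × β) F) : Mn) *ᵥ t))
    refine ⟨τ * c, ?_⟩
    rw [hA, rA_apply, hB, rB_apply, rA_apply, show sl fB z ((g : Mn) *ᵥ τ • tmul (sl fB z
      (((g⁻¹ : GL (α × β) F) : Mn) *ᵥ t)) z) = c • a by rw [← hc, co_apply, tmul_smul_left],
      tmul_smul_left, smul_smul]
  have hBAB : ∀ t, B (A (B t)) = 0 := fun t => by
    obtain ⟨c, hc⟩ := hAB t
    rw [hc, map_smul, hB, hO.rB_pure, hΨa, tmul_zero_left, Matrix.mulVec_zero, smul_zero, smul_zero]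
  obtain ⟨C, hC⟩ : ∃ C, C = X * (d * (X * d)) := ⟨_, rfl⟩
  have hCt : ∀ t, (C : Mn) *ᵥ t = t + A (B t) + B (A t) + A (B (A t)) := fun t => by
    simp only [hC, Units.val_mul, ← Matrix.mulVec_mulVec, hXt, hdt, ← hA, ← hB, one_smul, map_add, map_zero, hAA,
      hBB, hBAB, add_zero, zero_add]
    linear_combination (norm := abel) hneg (A t) + hneg (B t) + hneg (A (B t))
  have hCk : IsKron C := hO.kron_of_comm hS hz hz0 hτ (hC ▸ mul_mem hX (mul_mem hd (mul_mem hX hd))) hXt fun t => by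
    simp only [← hA, hCt, map_add, hAA, map_zero, add_zero, zero_add]
  have hC1 := hO.lines_trivial hS hα hg hz hz0 haa hxa ha0 hCk (y₀ := y₀) fun t => by
    obtain ⟨c₁, h1⟩ := hBpure (τ • sl fB z t)
    obtain ⟨c₂, h2'⟩ := hAB t
    obtain ⟨c₃, h3⟩ := hAB (A t)
    refine ⟨c₂ + c₃, c₁, ?_⟩
    rw [hCt, h2', h3, show A t = tmul (τ • sl fB z t) z by rw [hA, rA_apply, tmul_smul_left], h1]
    module
  obtain ⟨x, hx⟩ := hns 0
  apply hx
  rw [zero_smul]
  have := hCt (tmul x z)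
  rw [hC1, Units.val_one, Matrix.one_mulVec, hA, hO.rA_pure hz, hB, hO.rA_rB, map_zero, map_zero, add_zero,
    add_zero, left_eq_add, ← hDdef] at this
  exact fac_injective hz0 (this.trans (fac z).map_zero.symm)

/-- A coefficient which is not scalar does not occur. -/
theorem Ovr.nonscalar_false (hα : Fintype.card α = 2) (hβ : Fintype.card β = 3) {r : F} (hr : σ r = r) (hr0 : r ≠ 0)
    (hr1 : r ≠ 1) {g : GL (α × β) F} (hg : g ∈ M) {z u g₁ : β → F} (hF : Frame fB z u g₁) {τ : F} (hτ : τ ≠ 0)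
    (hτs : τ + σ τ = 0) (hns : ∀ c : F, ∃ x, dop fB τ z g x ≠ c • x) : False := by
  classical
  have hz := hF.zz
  have hz0 : z ≠ 0 := fun e => one_ne_zero (α := F) (by rw [← hF.uz, e, hO.hB.toSesq.zero_right])
  obtain ⟨D, hDdef⟩ : ∃ D, D = dop fB τ z g := ⟨_, rfl⟩
  obtain ⟨t, m, hq, hind⟩ := exists_quad hO.hA hα (dop fB τ z g) hns
  obtain ⟨ht, hm⟩ := quad_fixed hO.hA hα hq hind (hO.dop_adj hg hτs z)
  rw [← hDdef] at hq hns
  rcases eq_or_ne m 0 with rfl | hm0
  · simp only [zero_smul, add_zero] at hq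
    rcases eq_or_ne t 0 with rfl | ht0
    · exact hO.nil_false hS hα hg hz hz0 hτ hτs (hDdef ▸ hns) (fun x => by rw [← hDdef, hq, zero_smul])
    -- two eigenvalues
    obtain ⟨d₀, hd₀, hdt₀, hm₀⟩ := hO.exists_rD hz hτs hg (s := r - 1) (by rw [map_sub, hr, map_one])
    obtain ⟨Xe, hXe, hXte, hme⟩ := hO.exists_rX hz hτs g (s := -(r * r) / (t * (r - 1))) (by
      rw [map_div₀, map_neg, map_mul, map_mul, map_sub, map_one, hr, ht])
    obtain ⟨d₁, hd₁, hdt₁, hm₁⟩ := hO.exists_rD hz hτs hg (map_one σ)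
    obtain ⟨Xf, hXf, hXtf, hmf⟩ := hO.exists_rX hz hτs g (s := -1 / t) (by rw [map_div₀, map_neg, map_one, ht])
    obtain ⟨d₂, hd₂, hdt₂, hm₂⟩ := hO.exists_rD hz hτs hg (s := -r) (by rw [map_neg, hr])
    obtain ⟨k, hk⟩ : ∃ k, k = d₂ * (Xf * (d₁ * (Xe * d₀))) := ⟨_, rfl⟩
    obtain ⟨a, ha⟩ : ∃ a : Ea, a = LinearMap.id - (r / t) • D := ⟨_, rfl⟩
    have hr1' : r - 1 ≠ 0 := sub_ne_zero.2 hr1
    have hkz : ∀ x, (k : Mn) *ᵥ tmul x z = tmul (a x) z := fun x => by
      have e0 : tmul x z = tmul x z + rB fB τ z g (tmul (0 : α → F) z) := by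
        rw [tmul_zero_left, map_zero, add_zero]
      conv_lhs => rw [e0]
      simp only [hk, Units.val_mul, ← Matrix.mulVec_mulVec, hO.step_D hz hdt₀, hO.step_X hz hXte,
        hO.step_D hz hdt₁, hO.step_X hz hXtf, hO.step_D hz hdt₂, ← hDdef, ha, LinearMap.sub_apply,
        LinearMap.id_apply, LinearMap.smul_apply, map_add, map_smul, map_zero, hq, smul_zero, add_zero, zero_add]
      conv_rhs => rw [← add_zero (tmul _ z), ← map_zero (rB fB τ z g), ← tmul_zero_left z]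
      congr 2
      · match_scalars <;> field_simp <;> ring
      · congr 1
        match_scalars <;> field_simp <;> ring
    obtain ⟨T, hTz, hkT, hTp⟩ := hO.middle hS (hk ▸ mul_mem hd₂ (mul_mem hXf (mul_mem hd₁ (mul_mem hXe hd₀)))) hz
      hz0 hkz
    obtain ⟨ν, hν⟩ : ∃ ν, ν = fB (T g₁) g₁ := ⟨_, rfl⟩
    have heig : ∀ (x : α → F) (θ : F), x ≠ 0 → ν • a x = θ • x → θ = 1 := fun x θ hx hθ => by
      obtain ⟨qq, -, h1, h2⟩ := hO.mid_move hS hβ hF (hk ▸ mul_mem hd₂ (mul_mem hXf (mul_mem hd₁ (mul_mem hXe hd₀))))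
        (hk ▸ hm₂.mul (hmf.mul (hm₁.mul (hme.mul hm₀)))) hTz hkT hTp x
      rw [← hν] at h1 h2
      rw [← h1, map_sub, map_smul, smul_sub, hθ, smul_smul ν ν, ← sub_eq_zero] at h2
      have h3 : ((θ - 1) * (θ - 1)) • x = 0 := by
        rw [← h2, ← smul_smul ν ν, ← map_smul a ν, hθ, map_smul, smul_comm ν θ, hθ]
        module
      exact sub_eq_zero.1 (mul_self_eq_zero.1 ((smul_eq_zero.1 h3).resolve_right hx))
    obtain ⟨x', hx'⟩ := hns 0
    rw [zero_smul] at hx'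
    have e1 := heig (D x') (ν * (1 - r)) hx' (by
      rw [ha, LinearMap.sub_apply, LinearMap.id_apply, LinearMap.smul_apply, hq, smul_smul,
        div_mul_cancel₀ _ ht0]
      module)
    obtain ⟨x₀, hx₀, hDx₀⟩ : ∃ x₀, x₀ ≠ 0 ∧ D x₀ = 0 := by
      obtain ⟨x, hx⟩ := hns t
      exact ⟨D x - t • x, sub_ne_zero.2 hx, by rw [map_sub, map_smul, hq, sub_self]⟩
    have e2 := heig x₀ ν hx₀ (by rw [ha, LinearMap.sub_apply, LinearMap.id_apply, LinearMap.smul_apply, hDx₀,
      smul_zero, sub_zero])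
    rw [e2, one_mul] at e1
    exact hr0 (by linear_combination -e1)
  -- an invertible coefficient
  obtain ⟨φ, hφ, hφ0, hφ1⟩ : ∃ φ, σ φ = φ ∧ φ ≠ 0 ∧ 1 + t * φ ≠ 0 := by
    rcases eq_or_ne t 0 with rfl | ht0
    · exact ⟨1, map_one σ, one_ne_zero, by rw [zero_mul, add_zero]; exact one_ne_zero⟩
    · exact ⟨-r / t, by rw [map_div₀, map_neg, hr, ht], div_ne_zero (neg_ne_zero.2 hr0) ht0,
        by rw [mul_div_cancel₀ _ ht0, ← sub_eq_add_neg]; exact sub_ne_zero.2 (Ne.symm hr1)⟩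
  obtain ⟨d₀, hd₀, hdt₀, hm₀⟩ := hO.exists_rD hz hτs hg (s := -1) (by rw [map_neg, map_one])
  obtain ⟨Xe, hXe, hXte, hme⟩ := hO.exists_rX hz hτs g (s := -(1 + t * φ) / (m * φ)) (by
    rw [map_div₀, map_neg, map_add, map_mul, map_mul, map_one, ht, hm, hφ])
  obtain ⟨d₁, hd₁, hdt₁, hm₁⟩ := hO.exists_rD hz hτs hg (map_one σ)
  obtain ⟨Xf, hXf, hXtf, hmf⟩ := hO.exists_rX hz hτs g (s := -φ / (1 + t * φ)) (by
    rw [map_div₀, map_neg, map_add, map_mul, map_one, ht, hφ])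
  obtain ⟨d₂, hd₂, hdt₂, hm₂⟩ := hO.exists_rD hz hτs hg (s := -1 - t * φ) (by
    rw [map_sub, map_neg, map_mul, map_one, ht, hφ])
  obtain ⟨k, hk⟩ : ∃ k, k = d₂ * (Xf * (d₁ * (Xe * d₀))) := ⟨_, rfl⟩
  obtain ⟨a, ha⟩ : ∃ a : Ea, a = (1 / (m * φ)) • D := ⟨_, rfl⟩
  have hφ1' : 1 + φ * t ≠ 0 := by rwa [mul_comm]
  have hkz : ∀ x, (k : Mn) *ᵥ tmul x z = tmul (a x) z := fun x => by
    have e0 : tmul x z = tmul x z + rB fB τ z g (tmul (0 : α → F) z) := by
      rw [tmul_zero_left, map_zero, add_zero]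
    conv_lhs => rw [e0]
    simp only [hk, Units.val_mul, ← Matrix.mulVec_mulVec, hO.step_D hz hdt₀, hO.step_X hz hXte,
      hO.step_D hz hdt₁, hO.step_X hz hXtf, hO.step_D hz hdt₂, ← hDdef, ha, LinearMap.smul_apply, map_add,
      map_smul, map_zero, hq, smul_zero, add_zero, zero_add]
    conv_rhs => rw [← add_zero (tmul _ z), ← map_zero (rB fB τ z g), ← tmul_zero_left z]
    congr 2
    · match_scalars <;> field_simp <;> ring
    · congr 1
      match_scalars <;> field_simp <;> ring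
  have hkM : k ∈ M := hk ▸ mul_mem hd₂ (mul_mem hXf (mul_mem hd₁ (mul_mem hXe hd₀)))
  obtain ⟨T, hTz, hkT, hTp⟩ := hO.middle hS hkM hz hz0 hkz
  have hΦ : Function.Injective (co fB z g) := Finite.injective_iff_surjective.2 fun y => by
    refine ⟨(τ * τ) • co fB z g⁻¹ (m⁻¹ • (D y - t • y)), ?_⟩
    rw [map_smul, ← dop_apply, ← hDdef, map_smul, map_sub, map_smul, hq, add_sub_cancel_left, smul_smul,
      inv_mul_cancel₀ hm0, one_smul]
  obtain ⟨ν, hν⟩ : ∃ ν, ν = fB (T g₁) g₁ := ⟨_, rfl⟩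
  obtain ⟨c, hc⟩ : ∃ c, c = ν / (m * φ) := ⟨_, rfl⟩
  have hsc : ∀ x, c • D x = x := fun x => by
    obtain ⟨qq, h0, h1, -⟩ := hO.mid_move hS hβ hF hkM (hk ▸ hm₂.mul (hmf.mul (hm₁.mul (hme.mul hm₀)))) hTz hkT hTp x
    rw [hΦ (h0.trans (map_zero _).symm), tmul_zero_left, Matrix.mulVec_zero, map_zero, sub_eq_zero, ha,
      LinearMap.smul_apply, smul_smul, ← hν, ← div_eq_mul_one_div, ← hc] at h1
    exact h1
  have hc0 : c ≠ 0 := fun e => by
    obtain ⟨x, hx⟩ := hns 0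
    have := hsc x
    rw [e, zero_smul] at this
    exact hx (by rw [← this, map_zero, smul_zero])
  obtain ⟨x, hx⟩ := hns c⁻¹
  exact hx (smul_right_injective _ hc0 (by
    show c • D x = c • c⁻¹ • x
    rw [hsc, smul_smul, mul_inv_cancel₀ hc0, one_smul]))

/-- Three words when the fixed field has three elements. -/
theorem Ovr.three_false {z u g₁ : β → F} (hF : Frame fB z u g₁) {τ : F} (hττ : τ * τ = -1) (hτs : τ + σ τ = 0)
    (h3 : (3 : F) = 0) {N : Ea} (hns : ∀ c : F, ∃ x, N x ≠ c • x) {ρ : F} (hρ : ρ = 0 ∨ ρ = 1 ∨ ρ = -1)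
    (hN : ∀ x, N (N x) = ρ • x) {R : V →ₗ[F] V} (hRz : ∀ p, R (tmul p z) = τ • (tmul (N p) z + tmul p u))
    (hRW : ∀ p, R (tmul (N p) z + tmul p u) = 0) (hRg : ∀ x, R (tmul x g₁) = 0)
    (hRM : ∀ s : F, σ s = s → ∃ d ∈ M, ∀ t, (d : Mn) *ᵥ t = t + s • R t) : False := by
  classical
  have hz := hF.zz
  have hz0 : z ≠ 0 := fun e => one_ne_zero (α := F) (by rw [← hF.uz, e, hO.hB.toSesq.zero_right])
  have hτ : τ ≠ 0 := fun e => one_ne_zero (α := F) (by rw [e, zero_mul] at hττ; linear_combination hττ)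
  have hzu : fB z u = 1 := by rw [hO.hB.herm, hF.uz, map_one]
  have hzg : fB z g₁ = 0 := hO.hB.refl _ _ hF.gz
  obtain ⟨X, hX, -, hXt⟩ := hO.exists_root hz hτs
  obtain ⟨Y, hY, -, hYt⟩ := hO.exists_root hF.uu hτs
  obtain ⟨dp, hdp, hdpt⟩ := hRM 1 (map_one σ)
  obtain ⟨dm, hdm, hdmt⟩ := hRM (-1) (by rw [map_neg, map_one])
  have hRu : ∀ q, R (tmul q u) = -(τ • (tmul (N (N q)) z + tmul (N q) u)) := fun q => by
    have := hRW q
    rw [map_add, hRz] at this
    exact eq_neg_of_add_eq_zero_right this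
  have hR : ∀ p q, R (tmul p z + tmul q u) = τ • (tmul (N (p - N q)) z + tmul (p - N q) u) := fun p q => by
    rw [map_add, hRz, hRu, map_sub, tmul_sub_left, tmul_sub_left]
    module
  have sX : ∀ p q, (X : Mn) *ᵥ (tmul p z + tmul q u) = tmul (p + τ • q) z + tmul q u := fun p q => by
    rw [hXt, map_add, hO.sl_tmul, hO.sl_tmul, hz, hF.uz, zero_smul, one_smul, zero_add, tmul_add_left, tmul_smul_left]
    abel
  have sY : ∀ p q, (Y : Mn) *ᵥ (tmul p z + tmul q u) = tmul p z + tmul (q + τ • p) u := fun p q => by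
    rw [hYt, map_add, hO.sl_tmul, hO.sl_tmul, hzu, hF.uu, zero_smul, one_smul, add_zero, tmul_add_left, tmul_smul_left]
    abel
  have sP : ∀ p q, (dp : Mn) *ᵥ (tmul p z + tmul q u) =
      tmul (p + τ • N (p - N q)) z + tmul (q + τ • (p - N q)) u := fun p q => by
    rw [hdpt, hR, one_smul, tmul_add_left, tmul_add_left, tmul_smul_left, tmul_smul_left]
    module
  have sM : ∀ p q, (dm : Mn) *ᵥ (tmul p z + tmul q u) =
      tmul (p - τ • N (p - N q)) z + tmul (q - τ • (p - N q)) u := fun p q => by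
    rw [hdmt, hR]
    simp only [tmul_sub_left, tmul_smul_left]
    module
  have gX : ∀ x, (X : Mn) *ᵥ tmul x g₁ = tmul x g₁ := fun x => by
    rw [hXt, hO.sl_tmul, hF.gz, zero_smul, tmul_zero_left, smul_zero, add_zero]
  have gY : ∀ x, (Y : Mn) *ᵥ tmul x g₁ = tmul x g₁ := fun x => by
    rw [hYt, hO.sl_tmul, hF.gu, zero_smul, tmul_zero_left, smul_zero, add_zero]
  have gP : ∀ x, (dp : Mn) *ᵥ tmul x g₁ = tmul x g₁ := fun x => by rw [hdpt, hRg, smul_zero, add_zero]
  have gM : ∀ x, (dm : Mn) *ᵥ tmul x g₁ = tmul x g₁ := fun x => by rw [hdmt, hRg, smul_zero, add_zero]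
  -- an element which stabilises the plane at `z` and fixes the middle is scalar on it
  have fin : ∀ k ∈ M, ∀ e c : F, e ≠ 0 → (∀ x, (k : Mn) *ᵥ tmul x g₁ = tmul x g₁) →
      (∀ x, (k : Mn) *ᵥ tmul x z = tmul (c • x + e • N x) z) → False := by
    intro k hk e c he hkg hkz
    obtain ⟨T, -, hkT, -⟩ := hO.middle hS hk hz hz0 (a := c • LinearMap.id + e • N) fun x => by
      rw [hkz, LinearMap.add_apply, LinearMap.smul_apply, LinearMap.smul_apply, LinearMap.id_apply]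
    obtain ⟨ν, hν⟩ : ∃ ν, ν = fB (T g₁) g₁ := ⟨_, rfl⟩
    have h : ∀ x, ν • (c • x + e • N x) = x := fun x => by
      have h1 := congrArg (sl fB g₁) ((hkT x g₁).symm.trans (hkg x))
      rwa [hO.sl_tmul, hO.sl_tmul, hF.gg, one_smul, LinearMap.add_apply, LinearMap.smul_apply, LinearMap.smul_apply,
        LinearMap.id_apply, ← hν] at h1
    have hν0 : ν ≠ 0 := fun e' => by
      obtain ⟨x, hx⟩ := hns 0
      have := h x
      rw [e', zero_smul] at this
      exact hx (by rw [← this, map_zero, smul_zero])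
    obtain ⟨x, hx⟩ := hns ((1 / ν - c) / e)
    refine hx (smul_right_injective _ (mul_ne_zero hν0 he) ?_)
    show (ν * e) • N x = (ν * e) • ((1 / ν - c) / e) • x
    rw [smul_smul, show ν * e * ((1 / ν - c) / e) = 1 - ν * c by field_simp]
    linear_combination (norm := module) h x
  have e0 : ∀ x, tmul x z = tmul x z + tmul (0 : α → F) u := fun x => by rw [tmul_zero_left, add_zero]
  rcases hρ with rfl | rfl | rfl
  · refine fin (Y * (dp * Y)) (mul_mem hY (mul_mem hdp hY)) τ 1 hτ (fun x => by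
      simp only [Units.val_mul, ← Matrix.mulVec_mulVec, gY, gP]) fun x => ?_
    conv_lhs => rw [e0 x]
    conv_rhs => rw [← add_zero (tmul _ z), ← tmul_zero_left u]
    simp only [Units.val_mul, ← Matrix.mulVec_mulVec, sY, sP, map_add, map_sub, map_smul, map_zero, hN]
    congr 2 <;>
    match_scalars <;>
      first
        | ring1
        | linear_combination hττ
        | linear_combination -hττ
        | linear_combination τ * h3
        | linear_combination τ * hττ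
        | linear_combination (-τ) * hττ
        | linear_combination τ * h3 - hττ
        | linear_combination τ * h3 + hττ
  · refine fin (Y * (dm * Y)) (mul_mem hY (mul_mem hdm hY)) (-τ) 0 (neg_ne_zero.2 hτ) (fun x => by
      simp only [Units.val_mul, ← Matrix.mulVec_mulVec, gY, gM]) fun x => ?_
    conv_lhs => rw [e0 x]
    conv_rhs => rw [← add_zero (tmul _ z), ← tmul_zero_left u]
    simp only [Units.val_mul, ← Matrix.mulVec_mulVec, sY, sM, map_add, map_sub, map_smul, map_zero, hN]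
    congr 2 <;>
    match_scalars <;>
      first
        | ring1
        | linear_combination hττ
        | linear_combination -hττ
        | linear_combination τ * hττ
        | linear_combination (-τ) * hττ
  · refine fin (Y * (dp * (X * (Y * dp)))) (mul_mem hY (mul_mem hdp (mul_mem hX (mul_mem hY hdp)))) τ 0 hτ (fun x => by
      simp only [Units.val_mul, ← Matrix.mulVec_mulVec, gY, gP, gX]) fun x => ?_
    conv_lhs => rw [e0 x]
    conv_rhs => rw [← add_zero (tmul _ z), ← tmul_zero_left u]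
    simp only [Units.val_mul, ← Matrix.mulVec_mulVec, sY, sP, sX, map_add, map_sub, map_smul, map_zero, hN]
    congr 2 <;>
    match_scalars <;>
      first
        | ring1
        | linear_combination (-(τ * τ) + 4) * hττ - h3
        | linear_combination (4 * τ) * hττ - τ * h3
        | linear_combination (-(τ * τ * τ) + 7 * τ) * hττ - τ * h3
        | linear_combination (5 * (τ * τ) - 3) * hττ + h3

/-- A scalar coefficient. -/
theorem Ovr.kron_scalar (hβ : Fintype.card β = 3) (hα : Fintype.card α = 2) {r : F} (hr : σ r = r) (hr0 : r ≠ 0)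
    (hr1 : r ≠ 1) {g : GL (α × β) F} (hg : g ∈ M) {z u g₁ : β → F} (hF : Frame fB z u g₁) {τ δ : F}
    (hτ : τ ≠ 0) (hτs : τ + σ τ = 0) (hδ : δ ≠ 0) (hD : ∀ x, dop fB τ z g x = δ • x) : IsKron g := by
  classical
  have hs := hO.hB
  have hA := hO.hA
  have hz := hF.zz
  have hz0 : z ≠ 0 := fun e => one_ne_zero (α := F) (by rw [← hF.uz, e, hs.toSesq.zero_right])
  have hzu : fB z u = 1 := by rw [hs.herm, hF.uz, map_one]
  have hzg : fB z g₁ = 0 := hs.refl _ _ hF.gz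
  have hug : fB u g₁ = 0 := hs.refl _ _ hF.gu
  obtain ⟨a₁, a₂, -, -, h12⟩ := exists_hyp hA hO.ha
  have hσδ : σ δ = δ := by
    have h := hO.dop_adj hg hτs z a₂ a₁
    rw [hD, hD, hA.smul_left, hA.smul_right, h12, mul_one, mul_one] at h
    exact h.symm
  have hΦs : Function.Surjective (co fB z g) := fun y => ⟨(τ * τ / δ) • co fB z g⁻¹ y, by
    rw [map_smul, div_eq_inv_mul, mul_smul, ← dop_apply, hD, smul_smul, inv_mul_cancel₀ hδ, one_smul]⟩
  have hΦi : Function.Injective (co fB z g) := Finite.injective_iff_surjective.2 hΦs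
  have hΨs : Function.Surjective (co fB z g⁻¹) := Finite.injective_iff_surjective.1
    ((injective_iff_map_eq_zero _).2 fun y hy => hA.eq_zero _ fun x => by
      obtain ⟨w, rfl⟩ := hΦs x
      rw [hO.co_adj hg, hy, hA.toSesq.zero_right])
  obtain ⟨l, hlf, hl0, hl1, hl⟩ : ∃ l, σ l = l ∧ l ≠ 0 ∧ l ≠ 1 ∧
      (l ≠ -1 ∨ (l = -1 ∧ ∀ s, σ s = s → s = 0 ∨ s = 1 ∨ s = -1)) := by
    by_cases h : ∃ s, σ s = s ∧ s ≠ 0 ∧ s ≠ 1 ∧ s ≠ -1
    · obtain ⟨s, h1, h2, h3, h4⟩ := h
      exact ⟨s, h1, h2, h3, Or.inl h4⟩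
    · push Not at h
      exact ⟨-1, by rw [map_neg, map_one], neg_ne_zero.2 one_ne_zero, fun e => hr1 ((h r hr hr0 hr1).trans e),
        Or.inr ⟨rfl, fun s hs => or_iff_not_imp_left.2 fun h0 => or_iff_not_imp_left.2 fun h1 => h s hs h0 h1⟩⟩
  obtain ⟨d₀, hd₀, hdt₀, hm₀⟩ := hO.exists_rD hz hτs hg (s := -l) (by rw [map_neg, hlf])
  obtain ⟨Xe, hXe, hXte, hme⟩ := hO.exists_rX hz hτs g (s := (1 - l) / (l * δ)) (by
    rw [map_div₀, map_sub, map_mul, map_one, hlf, hσδ])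
  obtain ⟨d₁, hd₁, hdt₁, hm₁⟩ := hO.exists_rD hz hτs hg (map_one σ)
  obtain ⟨Xf, hXf, hXtf, hmf⟩ := hO.exists_rX hz hτs g (s := -((1 - l) / δ)) (by
    rw [map_neg, map_div₀, map_sub, map_one, hlf, hσδ])
  obtain ⟨k, hk⟩ : ∃ k, k = Xf * (d₁ * (Xe * d₀)) := ⟨_, rfl⟩
  have hkM : k ∈ M := hk ▸ mul_mem hXf (mul_mem hd₁ (mul_mem hXe hd₀))
  have hkv : ∀ p q : α → F, (k : Mn) *ᵥ (tmul p z + rB fB τ z g (tmul q z)) =
      tmul (l • p) z + rB fB τ z g (tmul (l⁻¹ • q) z) := fun p q => by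
    simp only [hk, Units.val_mul, ← Matrix.mulVec_mulVec, hO.step_D hz hdt₀, hO.step_X hz hXte,
      hO.step_D hz hdt₁, hO.step_X hz hXtf, hD]
    congr 2
    · match_scalars <;> field_simp <;> ring
    · congr 1
      match_scalars <;> field_simp <;> ring
  have hkz : ∀ x, (k : Mn) *ᵥ tmul x z = tmul ((l • LinearMap.id : Ea) x) z := fun x => by
    have h := hkv x 0
    rwa [tmul_zero_left, map_zero, add_zero, smul_zero, tmul_zero_left, map_zero, add_zero] at h
  obtain ⟨T, hTz, hkT, hTp⟩ := hO.middle hS hkM hz hz0 hkz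
  have hνl : fB (T g₁) g₁ * l = 1 := by
    obtain ⟨i⟩ : Nonempty α := Fintype.card_pos_iff.1 (by omega)
    obtain ⟨q, h0, h1, -⟩ := hO.mid_move hS hβ hF hkM (hk ▸ hmf.mul (hm₁.mul (hme.mul hm₀))) hTz hkT hTp
      (Pi.single i 1)
    rw [hΦi (h0.trans (map_zero _).symm), tmul_zero_left, Matrix.mulVec_zero, map_zero, sub_eq_zero,
      LinearMap.smul_apply, LinearMap.id_apply, smul_smul] at h1
    simpa using congrFun h1 i
  -- the eigenspace
  obtain ⟨e₁, he₁⟩ : ∃ e₁, e₁ = l * fB (T g₁) u := ⟨_, rfl⟩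
  obtain ⟨b₁, hb₁⟩ : ∃ b₁, b₁ = l * fB (T u) u := ⟨_, rfl⟩
  obtain ⟨c₁, hc₁⟩ : ∃ c₁, c₁ = l * fB (T u) g₁ := ⟨_, rfl⟩
  have hkg : ∀ q, (k : Mn) *ᵥ tmul q g₁ = e₁ • tmul q z + tmul q g₁ := fun q => by
    rw [hkT, frame_dec hs hβ hz hF.uu hF.uz hF.gz hF.gu hF.gg (T g₁), hTp _ hF.gz, LinearMap.smul_apply,
      LinearMap.id_apply, tmul_smul_left, tmul_add_right, tmul_add_right, tmul_smul_right, tmul_smul_right,
      tmul_smul_right, he₁]
    match_scalars
    all_goals first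
      | ring1
      | linear_combination hνl
      | linear_combination -hνl
  have hsys : ∀ y, let w := (g : Mn) *ᵥ tmul y z
      sl fB g₁ w + c₁ • sl fB z w = l⁻¹ • sl fB g₁ w ∧
      l • sl fB u w + e₁ • sl fB g₁ w + b₁ • sl fB z w = l⁻¹ • sl fB u w := by
    intro y w
    obtain ⟨x, hx⟩ := hΨs (τ⁻¹ • y)
    have hw : w = rB fB τ z g (tmul x z) := by
      rw [hO.rB_pure, hx, tmul_smul_left, Matrix.mulVec_smul, smul_smul, mul_inv_cancel₀ hτ, one_smul]
    have hfix : (k : Mn) *ᵥ w = l⁻¹ • w := by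
      have h := hkv 0 x
      rwa [tmul_zero_left, zero_add, smul_zero, tmul_zero_left, zero_add, tmul_smul_left, map_smul, ← hw] at h
    obtain ⟨ε, hε⟩ : ∃ ε, ε = l * fB (T u) z := ⟨_, rfl⟩
    have hku : ∀ q, (k : Mn) *ᵥ tmul q u = b₁ • tmul q z + c₁ • tmul q g₁ + ε • tmul q u := fun q => by
      rw [hkT, frame_dec hs hβ hz hF.uu hF.uz hF.gz hF.gu hF.gg (T u), LinearMap.smul_apply, LinearMap.id_apply,
        tmul_smul_left, tmul_add_right, tmul_add_right, tmul_smul_right, tmul_smul_right, tmul_smul_right, hb₁,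
        hc₁, hε]
      module
    have hdec := hO.tensor_dec hβ hF w
    have e := hfix
    conv_lhs at e => rw [hdec, Matrix.mulVec_add, Matrix.mulVec_add, hkg, hku, hkz, LinearMap.smul_apply,
      LinearMap.id_apply]
    have eg := congrArg (sl fB g₁) e
    have eu := congrArg (sl fB u) e
    simp only [map_add, map_smul, hO.sl_tmul, hzg, hug, hF.gg, hzu, hF.gu, hF.uu, zero_smul, one_smul, smul_zero,
      add_zero, zero_add] at eg eu
    exact ⟨eg, eu⟩
  have hμ1 : l⁻¹ - 1 ≠ 0 := sub_ne_zero.2 fun e => hl1 (inv_eq_one.1 e)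
  obtain ⟨Q, hQ⟩ : ∃ Q, Q = c₁ / (l⁻¹ - 1) := ⟨_, rfl⟩
  have hgQ : ∀ y, sl fB g₁ ((g : Mn) *ᵥ tmul y z) = Q • sl fB z ((g : Mn) *ᵥ tmul y z) := fun y => by
    refine smul_right_injective _ hμ1 ?_
    show (l⁻¹ - 1) • _ = (l⁻¹ - 1) • Q • _
    rw [smul_smul, hQ, mul_div_cancel₀ _ hμ1]
    linear_combination (norm := module) -(hsys y).1
  rcases hl with hl | ⟨rfl, hsmall⟩
  · have hμl : l⁻¹ - l ≠ 0 := sub_ne_zero.2 fun e => by
      have h : (l - 1) * (l + 1) = 0 := by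
        have := congrArg (· * l) e
        simp only [inv_mul_cancel₀ hl0] at this
        linear_combination -this
      rcases mul_eq_zero.1 h with h | h
      · exact hl1 (sub_eq_zero.1 h)
      · exact hl (eq_neg_of_add_eq_zero_left h)
    obtain ⟨P, hP⟩ : ∃ P, P = (e₁ * Q + b₁) / (l⁻¹ - l) := ⟨_, rfl⟩
    refine hO.line_kron hS hg hz hz0 (v := P • z + Q • g₁ + u) fun y => ⟨sl fB z ((g : Mn) *ᵥ tmul y z), ?_⟩
    have hp : sl fB u ((g : Mn) *ᵥ tmul y z) = P • sl fB z ((g : Mn) *ᵥ tmul y z) := by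
      refine smul_right_injective _ hμl ?_
      show (l⁻¹ - l) • _ = (l⁻¹ - l) • P • _
      have h := (hsys y).2
      rw [hgQ] at h
      rw [smul_smul, hP, mul_div_cancel₀ _ hμl]
      linear_combination (norm := module) -h
    conv_lhs => rw [hO.tensor_dec hβ hF ((g : Mn) *ᵥ tmul y z), hp, hgQ]
    rw [tmul_add_right, tmul_add_right, tmul_smul_right, tmul_smul_right, tmul_smul_left, tmul_smul_left]
  -- three fixed elements
  have h2 : (2 : F) ≠ 0 := fun e => hl1 (by linear_combination -e)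
  have h3 : (3 : F) = 0 := by
    rcases hsmall 2 (map_ofNat σ 2) with e | e | e
    · exact absurd e h2
    · exact absurd (by linear_combination e) (one_ne_zero (α := F))
    · linear_combination e
  have hστ : σ τ = -τ := eq_neg_of_add_eq_zero_right hτs
  have hττ : τ * τ = -1 := by
    rcases hsmall (τ * τ) (by rw [map_mul, hστ, neg_mul_neg]) with e | e | e
    · exact absurd (mul_self_eq_zero.1 e) hτ
    · exfalso
      have h2' : (τ - 1) * (τ + 1) = 0 := by linear_combination e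
      rcases mul_eq_zero.1 h2' with h | h
      · rw [sub_eq_zero.1 h, map_one] at hτs; exact h2 (by linear_combination hτs)
      · rw [eq_neg_of_add_eq_zero_left h, map_neg, map_one] at hτs; exact h2 (by linear_combination -hτs)
    · exact e
  have hδδ : δ * δ = 1 := by
    rcases hsmall δ hσδ with e | e | e
    · exact absurd e hδ
    · rw [e, one_mul]
    · rw [e, neg_mul_neg, one_mul]
  -- an isotropic vector in the plane
  obtain ⟨κ, hκ⟩ := hs.exists_trace_eq (a := -(Q * σ Q)) (by rw [map_neg, map_mul, hs.invol, mul_comm])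
  obtain ⟨u₂, hu₂⟩ : ∃ u₂, u₂ = Q • g₁ + u + κ • z := ⟨_, rfl⟩
  obtain ⟨g₂, hg₂⟩ : ∃ g₂, g₂ = g₁ - σ Q • z := ⟨_, rfl⟩
  have hgu := hF.gu
  have hgz := hF.gz
  have huu := hF.uu
  have huz := hF.uz
  have hgg := hF.gg
  have hu₂z : fB u₂ z = 1 := by
    rw [hu₂, hs.add_left, hs.add_left, hs.smul_left, hs.smul_left, hgz, huz, hz]; ring
  have hu₂u₂ : fB u₂ u₂ = 0 := by
    simp only [hu₂, hs.add_left, hs.add_right, hs.smul_left, hs.smul_right, hgg, hgu, hug, hgz, hzg, huu, huz,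
      hzu, hz]
    linear_combination hκ
  have hg₂z : fB g₂ z = 0 := by rw [hg₂, hs.toSesq.sub_left, hs.smul_left, hgz, hz]; ring
  have hg₂u₂ : fB g₂ u₂ = 0 := by
    simp only [hg₂, hu₂, hs.toSesq.sub_left, hs.add_right, hs.smul_left, hs.smul_right, hgg, hgu, hgz, hzg, hzu, hz]
    ring
  have hg₂g₂ : fB g₂ g₂ = 1 := by
    simp only [hg₂, hs.toSesq.sub_left, hs.toSesq.sub_right, hs.smul_left, hs.smul_right, hgg, hgz, hzg, hz]
    ring
  obtain ⟨E, hE⟩ : ∃ E : (α → F) ≃ₗ[F] (α → F), E = LinearEquiv.ofBijective (co fB z g) ⟨hΦi, hΦs⟩ := ⟨_, rfl⟩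
  obtain ⟨W, hW⟩ : ∃ W : (α → F) →ₗ[F] V, W = (Matrix.toLin' (g : Mn)).comp ((fac z).comp E.symm.toLinearMap) :=
    ⟨_, rfl⟩
  obtain ⟨N, hN⟩ : ∃ N : Ea, N = (sl fB u₂).comp W := ⟨_, rfl⟩
  have hWx : ∀ x, W x = (g : Mn) *ᵥ tmul (E.symm x) z := fun x => by rw [hW]; rfl
  have hEx : ∀ x, co fB z g (E.symm x) = x := fun x => by
    conv_rhs => rw [← E.apply_symm_apply x]
    rw [hE]; rfl
  have hWN : ∀ x, W x = tmul (N x) z + tmul x u₂ := fun x => by
    have hzu₂ : fB z u₂ = 1 := by rw [hs.herm, hu₂z, map_one]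
    have e1 : W x = tmul (sl fB u (W x) - κ • x) z + tmul x u₂ := by
      conv_lhs => rw [hO.tensor_dec hβ hF (W x), hWx, hgQ, ← co_apply, hEx, ← hWx]
      rw [hu₂, tmul_sub_left, tmul_add_right, tmul_add_right, tmul_smul_left, tmul_smul_left, tmul_smul_right,
        tmul_smul_right]
      abel
    have e2 : N x = sl fB u (W x) - κ • x := by
      rw [hN, LinearMap.comp_apply]
      conv_lhs => rw [e1]
      rw [map_add, hO.sl_tmul, hO.sl_tmul, hzu₂, hu₂u₂, one_smul, zero_smul, add_zero]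
    rw [e2]; exact e1
  by_cases hNs : ∃ c : F, ∀ x, N x = c • x
  · obtain ⟨c, hc⟩ := hNs
    refine hO.line_kron hS hg hz hz0 (v := c • z + u₂) fun y => ⟨co fB z g y, ?_⟩
    have h := hWN (co fB z g y)
    rw [hWx, show E.symm (co fB z g y) = y by rw [LinearEquiv.symm_apply_eq, hE]; rfl, hc, tmul_smul_left] at h
    rw [h, tmul_add_right, tmul_smul_right]
  push Not at hNs
  exfalso
  have hskew : ∀ x y, fA (N x) y + fA x (N y) = 0 := fun x y => by
    have h := hO.iso hg (tmul (E.symm x) z) (tmul (E.symm y) z)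
    rw [← hWx, ← hWx, hWN, hWN, hO.ten, hz, mul_zero] at h
    simp only [hO.hV.add_left, hO.hV.add_right, hO.ten, hz, hu₂z, hu₂u₂, hs.herm z u₂, map_one] at h
    linear_combination h
  obtain ⟨t, m, hq, hind⟩ := exists_quad hA hα N hNs
  have hflip : ∀ x y, fA (N x) y = -fA x (N y) := fun x y => eq_neg_of_add_eq_zero_left (hskew x y)
  have htm : t + σ t = 0 ∧ m - σ m = 0 := by
    refine hind _ _ fun x => hA.eq_zero _ fun y => hA.refl _ _ ?_
    have e : fA (N (N x)) y = fA x (N (N y)) := by rw [hflip, hflip, neg_neg]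
    rw [hq, hq, hA.add_left, hA.add_right, hA.smul_left, hA.smul_left, hA.smul_right, hA.smul_right] at e
    rw [hA.add_left, hA.smul_left, hA.smul_left]
    linear_combination e - σ t * hskew x y + σ t * hskew x y - σ t * 0 + σ t * (hskew x y)
  have hσt : σ t = -t := eq_neg_of_add_eq_zero_right htm.1
  obtain ⟨N', hN'⟩ : ∃ N' : Ea, N' = N + t • LinearMap.id := ⟨_, rfl⟩
  obtain ⟨u₃, hu₃⟩ : ∃ u₃, u₃ = u₂ - t • z := ⟨_, rfl⟩
  have hN'x : ∀ x, N' x = N x + t • x := fun x => by rw [hN']; rfl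
  have hWN' : ∀ x, W x = tmul (N' x) z + tmul x u₃ := fun x => by
    rw [hWN, hN'x, hu₃, tmul_add_left, tmul_sub_right, tmul_smul_left, tmul_smul_right]; abel
  have hρ : ∀ x, N' (N' x) = (m + t * t) • x + (3 * t) • N x := fun x => by
    rw [hN'x, hN'x, map_add, map_smul, hq]; module
  have hρ' : ∀ x, N' (N' x) = (m + t * t) • x := fun x => by rw [hρ, h3, zero_mul, zero_smul, add_zero]
  have hρs := hsmall (m + t * t) (by rw [map_add, map_mul, hσt, ← sub_eq_zero.1 htm.2]; ring)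
  have hF' : Frame fB z u₃ g₂ := by
    refine ⟨hz, ?_, ?_, hg₂z, ?_, hg₂g₂⟩
    · simp only [hu₃, hs.toSesq.sub_left, hs.toSesq.sub_right, hs.smul_left, hs.smul_right, hu₂u₂, hu₂z,
        hs.herm z u₂, map_one, hz]
      linear_combination -htm.1
    · rw [hu₃, hs.toSesq.sub_left, hs.smul_left, hu₂z, hz, mul_zero, sub_zero]
    · rw [hu₃, hs.toSesq.sub_right, hs.smul_right, hg₂u₂, hg₂z, mul_zero, sub_zero]
  refine hO.three_false hS hF' hττ hτs h3 (fun c => ?_) hρs hρ' (R := (-δ) • rB fB τ z g) (fun p => ?_) (fun p => ?_)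
    (fun x => ?_) fun s hss => ?_
  · obtain ⟨x, hx⟩ := hNs (c - t)
    exact ⟨x, fun e => hx (by rw [hN'x] at e; linear_combination (norm := module) e)⟩
  · have e : E.symm p = (τ * τ / δ) • co fB z g⁻¹ p := by
      apply hΦi
      rw [hEx, map_smul, div_eq_inv_mul, mul_smul, ← dop_apply, hD, smul_smul, inv_mul_cancel₀ hδ, one_smul]
    have hΨ : co fB z g⁻¹ p = (δ / (τ * τ)) • E.symm p := by
      rw [e, smul_smul, div_mul_div_cancel₀ (mul_ne_zero hτ hτ), div_self hδ, one_smul]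
    rw [LinearMap.smul_apply, hO.rB_pure, hΨ, tmul_smul_left, Matrix.mulVec_smul, ← hWx, hWN', smul_smul, smul_smul]
    congr 1
    rw [hττ]
    linear_combination τ * hδδ
  · rw [← hWN', hWx, LinearMap.smul_apply, hO.rB_image hz, smul_zero]
  · have h0 : sl fB z (((g⁻¹ : GL (α × β) F) : Mn) *ᵥ tmul x g₂) = 0 := hO.eq_of_fA fun y => by
      rw [← hO.f_sl, ← hO.iso hg, mulVec_inv_cancel, hA.toSesq.zero_left]
      have hy := hWN (co fB z g y)
      rw [hWx, show E.symm (co fB z g y) = y by rw [LinearEquiv.symm_apply_eq, hE]; rfl] at hy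
      rw [hy, hO.hV.add_right, hO.ten, hO.ten, hg₂z, hg₂u₂, mul_zero, mul_zero, add_zero]
    rw [LinearMap.smul_apply, rB_apply, rA_apply, h0, tmul_zero_left, smul_zero, Matrix.mulVec_zero, smul_zero]
  · obtain ⟨d, hd, hdt, -⟩ := hO.exists_rD hz hτs hg (s := -(s * δ)) (by rw [map_neg, map_mul, hss, hσδ])
    exact ⟨d, hd, fun v => by rw [hdt, LinearMap.smul_apply, smul_smul, neg_mul_eq_mul_neg]⟩

/-- An overgroup with scalar root coefficients consists of elements of product shape. -/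
theorem Ovr.all_kron_three (hα : Fintype.card α = 2) (hβ : Fintype.card β = 3) {r : F} (hr : σ r = r) (hr0 : r ≠ 0)
    (hr1 : r ≠ 1) {g : GL (α × β) F} (hg : g ∈ M) : IsKron g := by
  classical
  have hs := hO.hB
  obtain ⟨z, u, hz, hu, huz⟩ := exists_hyp hs (by omega)
  have hz0 : z ≠ 0 := fun e => one_ne_zero (α := F) (by rw [← huz, e, hs.toSesq.zero_right])
  obtain ⟨g₁, hgu, hgz, hgg⟩ := exists_value_perp hs hO.hb hu hz huz (t := 1) (map_one σ)
  have hF : Frame fB z u g₁ := ⟨hz, hu, huz, hgz, hgu, hgg⟩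
  obtain ⟨τ, hτ, hτs⟩ := hs.exists_skew
  by_cases hsc : ∃ δ : F, ∀ x, dop fB τ z g x = δ • x
  · obtain ⟨δ, hδ⟩ := hsc
    rcases eq_or_ne δ 0 with rfl | hδ0
    · simp only [zero_smul] at hδ
      by_cases hD' : ∀ x, co fB z g⁻¹ (co fB z g x) = 0
      · exact hO.kron_zero hS hα hg hz hz0 hτ hτs hδ hD'
      push Not at hD'
      obtain ⟨x, hx⟩ := hD'
      exfalso
      refine hO.nonscalar_false hS hα hβ hr hr0 hr1 (inv_mem hg) hF hτ hτs fun c => ?_
      by_contra hc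
      push Not at hc
      obtain ⟨i⟩ : Nonempty α := Fintype.card_pos_iff.1 (by omega)
      have hΦΨ : ∀ y, co fB z g (co fB z g⁻¹ y) = 0 := fun y => by
        have h := hδ y
        rw [dop_apply, smul_eq_zero] at h
        exact h.resolve_left (mul_ne_zero hτ hτ)
      have hcc : (c * c) • x = 0 := by
        rw [← smul_smul, ← hc x, ← map_smul, ← hc, dop_apply, dop_apply]
        simp only [inv_inv, map_smul, hΦΨ, map_zero, smul_zero]
      have hx0 : x ≠ 0 := fun e => hx (by rw [e, map_zero, map_zero])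
      have hc0 := mul_self_eq_zero.1 ((smul_eq_zero.1 hcc).resolve_right hx0)
      have h := hc x
      rw [hc0, zero_smul, dop_apply, inv_inv, smul_eq_zero] at h
      exact hx (h.resolve_left (mul_ne_zero hτ hτ))
    · exact hO.kron_scalar hS hβ hα hr hr0 hr1 hg hF hτ hτs hδ0 hδ
  · push Not at hsc
    exact (hO.nonscalar_false hS hα hβ hr hr0 hr1 hg hF hτ hτs hsc).elim

omit hS in
/-- An overgroup of the product consists of elements of product shape or is the whole group. -/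
theorem Ovr.dichotomy_three (hα : Fintype.card α = 2) (hβ : Fintype.card β = 3) {r : F} (hr : σ r = r) (hr0 : r ≠ 0)
    (hr1 : r ≠ 1) : (∀ g ∈ M, IsKron g) ∨ isoSL f ≤ M := by
  by_cases hS : Scal fB M
  · exact Or.inl fun g hg => hO.all_kron_three hS hα hβ hr hr0 hr1 hg
  · obtain ⟨a, z, haa, ha0, hz, hz0, hP⟩ := hO.exists_upt (Or.inl ⟨r, hr, hr0, hr1⟩) hS
    exact Or.inr (hO.full (Or.inr (hO.line_all hr hr0 hr1)) haa ha0 hz hz0 hP)

end Cfsg.Agent.Classical.TensorHerm
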