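import Cfsg.Agent.Lib.Classical.MaxTensorHermDich

/-!
The product of a unitary plane and a unitary space, over fields with more than two fixed elements: lines of a
transvection group, frames of a space of dimension three, and maps of a plane.
-/

set_option autoImplicit false
set_option linter.unusedSectionVars false

namespace Cfsg.Agent.Classical.TensorHerm

open Matrix Module MaxTv TensorMax
open scoped Kronecker

variable {F : Type*} [Field F] [Fintype F] {α β : Type} [Fintype α] [DecidableEq α] [Fintype β] [DecidableEq β]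

local notation "V" => (α × β → F)
local notation "Mn" => Matrix (α × β) (α × β) F
local notation "Ma" => Matrix α α F
local notation "Mb" => Matrix β β F

section plane

variable {σ : F ≃+* F} {h : (α → F) → (α → F) → F} (hs : Herm σ h) (hα : Fintype.card α = 2)
include hs hα

/-- In a plane the vectors orthogonal to a non-zero one form a line. -/
theorem perp_line {k : α → F} (hk : k ≠ 0) :
    ∃ e : α → F, e ≠ 0 ∧ h e k = 0 ∧ ∀ v, h v k = 0 → ∃ c : F, v = c • e := by
  have h1 := card_le_finrank_ker_add_one (hs.toSesq.lin k)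
  have h2 : finrank F (LinearMap.ker (hs.toSesq.lin k)) < 2 := by
    have := Submodule.finrank_lt (s := LinearMap.ker (hs.toSesq.lin k)) fun e => by
      obtain ⟨x, hx⟩ := hs.toSesq.exists_one hk
      have : x ∈ LinearMap.ker (hs.toSesq.lin k) := e ▸ Submodule.mem_top
      rw [LinearMap.mem_ker, hs.toSesq.lin_apply, hx] at this
      exact one_ne_zero this
    rwa [Module.finrank_fintype_fun_eq_card, hα] at this
  obtain ⟨⟨e, he⟩, he0, hall⟩ := finrank_eq_one_iff'.1
    (show finrank F (LinearMap.ker (hs.toSesq.lin k)) = 1 by omega)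
  refine ⟨e, fun e' => he0 (Subtype.ext e'), by simpa using he, fun v hv => ?_⟩
  obtain ⟨c, hc⟩ := hall ⟨v, by simpa using hv⟩
  exact ⟨c, (congrArg Subtype.val hc).symm⟩

/-- Orthogonal to an isotropic vector means proportional to it. -/
theorem perp_iso {a v : α → F} (ha : h a a = 0) (ha0 : a ≠ 0) (hv : h v a = 0) : ∃ c : F, v = c • a := by
  obtain ⟨e, -, -, hall⟩ := perp_line hs hα ha0
  obtain ⟨c, hc⟩ := hall a ha
  obtain ⟨d, hd⟩ := hall v hv
  have hc0 : c ≠ 0 := fun e' => ha0 (by rw [hc, e', zero_smul])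
  exact ⟨d / c, by rw [hc, smul_smul, div_mul_cancel₀ _ hc0, hd]⟩

/-- A map of a plane which is not scalar satisfies a quadratic equation. -/
theorem exists_quad (D : (α → F) →ₗ[F] (α → F)) (hns : ∀ c : F, ∃ x, D x ≠ c • x) :
    ∃ t m : F, (∀ x, D (D x) = t • D x + m • x) ∧ ∀ u v : F, (∀ x, u • D x + v • x = 0) → u = 0 ∧ v = 0 := by
  classical
  have hind : ∀ u v : F, (∀ x, u • D x + v • x = 0) → u = 0 ∧ v = 0 := fun u v huv => by
    have hu : u = 0 := by
      by_contra hu
      obtain ⟨x, hx⟩ := hns (-(v / u))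
      refine hx (smul_right_injective _ hu ?_)
      show u • D x = u • -(v / u) • x
      rw [smul_smul, mul_neg, mul_div_cancel₀ _ hu, neg_smul, eq_neg_iff_add_eq_zero]
      exact huv x
    refine ⟨hu, ?_⟩
    obtain ⟨i⟩ : Nonempty α := Fintype.card_pos_iff.1 (by omega)
    have := congrFun (huv (Pi.single i 1)) i
    simpa [hu] using this
  -- a vector which is not an eigenvector
  obtain ⟨x₀, hx₀⟩ : ∃ x₀, ∀ c : F, D x₀ ≠ c • x₀ := by
    by_contra hc
    push Not at hc
    choose c hc using hc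
    obtain ⟨a, b, -, -, hab⟩ := exists_hyp hs (by omega)
    have ha0 : a ≠ 0 := fun e => one_ne_zero (α := F) (by rw [← hab, e, hs.toSesq.zero_right])
    obtain ⟨x, hx⟩ := hns (c a)
    apply hx
    by_cases hdep : ∃ k : F, x = k • a
    · obtain ⟨k, rfl⟩ := hdep
      rw [map_smul, hc a, smul_smul, smul_smul, mul_comm]
    · push Not at hdep
      have e1 := hc (x + a)
      rw [map_add, hc x, hc a] at e1
      have e2 : (c x - c (x + a)) • x = (c (x + a) - c a) • a := by
        rw [sub_smul, sub_smul]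
        linear_combination (norm := module) e1
      rcases eq_or_ne (c x - c (x + a)) 0 with h0 | h0
      · rw [h0, zero_smul, eq_comm, smul_eq_zero] at e2
        rw [hc x, sub_eq_zero.1 h0, sub_eq_zero.1 (e2.resolve_right ha0)]
      · exact absurd (by rw [mul_smul, ← e2, smul_smul, inv_mul_cancel₀ h0, one_smul])
          (hdep ((c x - c (x + a))⁻¹ * (c (x + a) - c a)))
  have hli : LinearIndependent F ![x₀, D x₀] := by
    rw [LinearIndependent.pair_iff]
    intro s t hst
    rcases eq_or_ne t 0 with rfl | ht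
    · rw [zero_smul, add_zero, smul_eq_zero] at hst
      exact ⟨hst.resolve_right fun e => hx₀ 0 (by rw [e, map_zero, smul_zero]), rfl⟩
    · exact absurd (smul_right_injective _ ht (show t • D x₀ = t • (-(s / t)) • x₀ by
        rw [smul_smul, mul_neg, mul_div_cancel₀ _ ht, neg_smul, eq_neg_iff_add_eq_zero, add_comm, hst]))
        (hx₀ _)
  have hspan := hli.span_eq_top_of_card_eq_finrank (by rw [Module.finrank_fintype_fun_eq_card, hα, Fintype.card_fin])
  have hdec : ∀ x, ∃ s t : F, x = s • x₀ + t • D x₀ := fun x => by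
    have : x ∈ Submodule.span F (Set.range ![x₀, D x₀]) := hspan ▸ Submodule.mem_top
    rw [Matrix.range_cons_cons_empty, Submodule.mem_span_pair] at this
    obtain ⟨s, t, e⟩ := this
    exact ⟨s, t, e.symm⟩
  obtain ⟨m, t, hm⟩ := hdec (D (D x₀))
  refine ⟨t, m, fun x => ?_, hind⟩
  obtain ⟨s, r, rfl⟩ := hdec x
  simp only [map_add, map_smul, hm]
  module

/-- The coefficients of the equation of a self-adjoint map are fixed. -/
theorem quad_fixed {D : (α → F) →ₗ[F] (α → F)} {t m : F} (hq : ∀ x, D (D x) = t • D x + m • x)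
    (hind : ∀ u v : F, (∀ x, u • D x + v • x = 0) → u = 0 ∧ v = 0) (hadj : ∀ x y, h (D x) y = h x (D y)) :
    σ t = t ∧ σ m = m := by
  have h1 := hind (t - σ t) (m - σ m) fun x => hs.eq_zero _ fun y => hs.refl _ _ (by
    have e : h (D (D x)) y = h x (D (D y)) := by rw [hadj, hadj]
    rw [hq, hq, hs.add_left, hs.add_right, hs.smul_left, hs.smul_left, hs.smul_right, hs.smul_right, ← hadj] at e
    rw [hs.add_left, hs.smul_left, hs.smul_left]
    linear_combination e)
  exact ⟨(sub_eq_zero.1 h1.1).symm, (sub_eq_zero.1 h1.2).symm⟩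

end plane

section frame

variable {σ : F ≃+* F} {h : (β → F) → (β → F) → F} (hs : Herm σ h) (hβ : Fintype.card β = 3)
include hs hβ

/-- An orthogonal frame of a three-space: a hyperbolic pair and a unit vector. -/
theorem frame_dec {z u g : β → F} (hz : h z z = 0) (hu : h u u = 0) (huz : h u z = 1) (hgz : h g z = 0)
    (hgu : h g u = 0) (hgg : h g g = 1) (y : β → F) : y = h y u • z + h y g • g + h y z • u := by
  have hzu : h z u = 1 := by rw [hs.herm, huz, map_one]
  have hli : LinearIndependent F ![z, g, u] := by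
    rw [Fintype.linearIndependent_iff]
    intro c hc
    rw [Fin.sum_univ_three] at hc
    simp only [Matrix.cons_val_zero, Matrix.cons_val_one, Matrix.cons_val_two, Matrix.tail_cons, Matrix.head_cons] at hc
    have e1 := congrArg (fun x => h x u) hc
    have e2 := congrArg (fun x => h x g) hc
    have e3 := congrArg (fun x => h x z) hc
    simp only [hs.add_left, hs.smul_left, hs.toSesq.zero_left, hzu, hgu, hu, hs.refl _ _ hgz, hgg,
      hs.refl _ _ hgu, hz, hgz, huz, mul_zero, mul_one, add_zero, zero_add] at e1 e2 e3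
    intro i
    fin_cases i <;> assumption
  have hspan := hli.span_eq_top_of_card_eq_finrank (by rw [Module.finrank_fintype_fun_eq_card, hβ, Fintype.card_fin])
  have hd : ∀ x, h (y - (h y u • z + h y g • g + h y z • u)) x = 0 := fun x => by
    have hx : x ∈ Submodule.span F (Set.range ![z, g, u]) := hspan ▸ Submodule.mem_top
    induction hx using Submodule.span_induction with
    | mem v hv =>
      obtain ⟨i, rfl⟩ := hv
      fin_cases i <;>
        simp [hs.toSesq.sub_left, hs.add_left, hs.smul_left, hz, hu, huz, hzu, hgz, hgu, hgg, hs.refl _ _ hgz,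
          hs.refl _ _ hgu]
    | zero => exact hs.toSesq.zero_right _
    | add v w _ _ hv hw => rw [hs.add_right, hv, hw, add_zero]
    | smul c v _ hv => rw [hs.smul_right, hv, mul_zero]
  exact sub_eq_zero.1 (hs.eq_zero _ fun x => hs.refl _ _ (hd x))

end frame

variable {σ : F ≃+* F} {fA : (α → F) → (α → F) → F} {fB : (β → F) → (β → F) → F}
  {f : (α × β → F) → (α × β → F) → F} {M : Subgroup (GL (α × β) F)}

variable (hO : Pre σ fA fB f M)
include hO

/-- Transvection groups at two lines of isotropic tensors over a hyperbolic pair give one at every tensor over the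
first vector. -/
theorem Pre.line_of {r : F} (hr : σ r = r) (hr0 : r ≠ 0) (hr1 : r ≠ 1) {x x₁ : α → F} (hxx : fA x x = 0)
    (hx₁ : fA x₁ x₁ = 0) (hx₁x : fA x₁ x = 1) (hP₀ : ∀ z, fB z z = 0 → UPt σ f M (tmul x z))
    (hP₁ : ∀ z, fB z z = 0 → UPt σ f M (tmul x₁ z)) (Y : β → F) : UPt σ f M (tmul x Y) := by
  classical
  have hA := hO.hA
  have hB := hO.hB
  by_cases hY : fB Y Y = 0
  · exact hP₀ Y hY
  have hxx₁ : fA x x₁ = 1 := by rw [hA.herm, hx₁x, map_one]
  obtain ⟨l, hl⟩ := hB.exists_trace_eq (a := (-1 : F)) (by rw [map_neg, map_one])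
  have hl0 : l ≠ 0 := fun e => by rw [e, map_zero, add_zero] at hl; exact one_ne_zero (by linear_combination hl)
  have hσl0 : σ l ≠ 0 := (map_ne_zero σ).2 hl0
  obtain ⟨τ, hτ, hτs⟩ := hB.exists_skew
  have hστ : σ τ = -τ := eq_neg_of_add_eq_zero_right hτs
  obtain ⟨s, hs⟩ : ∃ s, s = -(r * τ) / l := ⟨_, rfl⟩
  obtain ⟨T, hT⟩ : ∃ T, T = τ * (1 - r) := ⟨_, rfl⟩
  have hs0 : s ≠ 0 := hs ▸ div_ne_zero (neg_ne_zero.2 (mul_ne_zero hr0 hτ)) hl0
  have hT0 : T ≠ 0 := hT ▸ mul_ne_zero hτ (sub_ne_zero.2 (Ne.symm hr1))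
  have hσT : σ T = -T := by rw [hT, map_mul, map_sub, map_one, hr, hστ, neg_mul]
  obtain ⟨ν, hν⟩ : ∃ ν, ν = -(r * (τ * τ)) / (l * σ l) := ⟨_, rfl⟩
  have hν0 : ν ≠ 0 := hν ▸ div_ne_zero (neg_ne_zero.2 (mul_ne_zero hr0 (mul_ne_zero hτ hτ))) (mul_ne_zero hl0 hσl0)
  have hσν : σ ν = ν := by
    rw [hν, map_div₀, map_neg, map_mul, map_mul, map_mul, hr, hB.invol, hστ, neg_mul_neg, mul_comm (σ l)]
  obtain ⟨κ, hκ⟩ := hB.exists_norm (t := ν / fB Y Y) (by rw [map_div₀, hσν, hB.self_fixed])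
  have hκ0 : κ ≠ 0 := fun e => by rw [e, zero_mul, eq_comm, div_eq_zero_iff] at hκ; exact hκ.elim hν0 hY
  obtain ⟨Y', hY'⟩ : ∃ Y', Y' = κ • Y := ⟨_, rfl⟩
  have hYν : fB Y' Y' = ν := by rw [hY', hB.smul_left, hB.smul_right, ← mul_assoc, hκ, div_mul_cancel₀ _ hY]
  -- an isotropic vector with prescribed product
  obtain ⟨e, he, hYe⟩ : ∃ e, fB e e = 0 ∧ fB Y' e = T := by
    obtain ⟨e₀, he₀, hne⟩ : ∃ e₀, fB e₀ e₀ = 0 ∧ fB Y' e₀ ≠ 0 := by
      by_contra hc
      push Not at hc
      have h0 : Y' = 0 := hB.eq_zero _ fun v => by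
        have := mem_of_iso_all hB (by have := hO.hb; omega) (p := LinearMap.ker (hB.toSesq.lin Y'))
          (fun e he => LinearMap.mem_ker.2 (by rw [hB.toSesq.lin_apply]; exact hB.refl _ _ (hc e he))) v
        rw [LinearMap.mem_ker, hB.toSesq.lin_apply] at this
        first | exact this | exact hB.refl _ _ this
      rw [h0, hB.toSesq.zero_left] at hYν
      exact hν0 hYν.symm
    refine ⟨σ (T / fB Y' e₀) • e₀, by rw [hB.smul_left, hB.smul_right, he₀, mul_zero, mul_zero], ?_⟩
    rw [hB.smul_right, hB.invol, div_mul_cancel₀ _ hne]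
  have heY : fB e Y' = -T := by rw [hB.herm, hYe, hσT]
  -- a vector orthogonal to the plane
  obtain ⟨k, hk, hkk⟩ := hB.exists_aniso_of_nd (T := perp2 hB Y' e) (fun w hw hw0 => by
      obtain ⟨v, hv⟩ := hB.toSesq.exists_one hw0
      obtain ⟨A, hA'⟩ : ∃ A, A = fB v e / T := ⟨_, rfl⟩
      obtain ⟨B, hB'⟩ : ∃ B, B = (fB v Y' - A * ν) / -T := ⟨_, rfl⟩
      refine ⟨v - A • Y' - B • e, ⟨?_, ?_⟩, ?_⟩
      · rw [hB.toSesq.sub_left, hB.toSesq.sub_left, hB.smul_left, hB.smul_left, hYν, heY, hB',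
          div_mul_cancel₀ _ (neg_ne_zero.2 hT0)]
        ring
      · rw [hB.toSesq.sub_left, hB.toSesq.sub_left, hB.smul_left, hB.smul_left, hYe, he, hA',
          div_mul_cancel₀ _ hT0]
        ring
      · rw [hB.toSesq.sub_left, hB.toSesq.sub_left, hB.smul_left, hB.smul_left, hB.refl _ _ hw.1,
          hB.refl _ _ hw.2, hv]
        simp) fun e' => by
    have := finrank_perp2 hB Y' e
    rw [e', finrank_bot] at this
    have := hO.hb
    omega
  -- the partner
  obtain ⟨f', hf', hf'e, hYf'⟩ : ∃ f', fB f' f' = 0 ∧ fB f' e = 1 ∧ fB Y' f' = s := by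
    obtain ⟨A, hA'⟩ : ∃ A, A = 1 / T := ⟨_, rfl⟩
    obtain ⟨B, hB'⟩ : ∃ B, B = σ ((s - σ A * ν) / T) := ⟨_, rfl⟩
    obtain ⟨C, hC⟩ := hB.exists_norm (t := -fB (A • Y' + B • e) (A • Y' + B • e) / fB k k)
      (by rw [map_div₀, map_neg, hB.self_fixed, hB.self_fixed])
    rw [eq_div_iff hkk] at hC
    have hkY : fB Y' k = 0 := hB.refl _ _ hk.1
    have hke : fB e k = 0 := hB.refl _ _ hk.2
    refine ⟨A • Y' + B • e + C • k, ?_, ?_, ?_⟩
    · have h1 : fB (A • Y' + B • e) k = 0 := by rw [hB.add_left, hB.smul_left, hB.smul_left, hkY, hke]; ring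
      obtain ⟨W, hW⟩ : ∃ W, W = A • Y' + B • e := ⟨_, rfl⟩
      rw [← hW] at h1 hC ⊢
      rw [hB.add_left, hB.add_right, hB.add_right, hB.smul_left, hB.smul_left, hB.smul_right, hB.smul_right,
        h1, hB.refl _ _ h1]
      linear_combination hC
    · rw [hB.add_left, hB.add_left, hB.smul_left, hB.smul_left, hB.smul_left, hYe, he, hk.2, hA',
        div_mul_cancel₀ _ hT0]
      ring
    · rw [hB.add_right, hB.add_right, hB.smul_right, hB.smul_right, hB.smul_right, hYν, hYe, hkY, hB', hB.invol,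
        div_mul_cancel₀ _ hT0]
      ring
  have hef' : fB e f' = 1 := by rw [hB.herm, hf'e, map_one]
  have hf'Y : fB f' Y' = σ s := by rw [hB.herm, hYf']
  obtain ⟨z₂, hz₂⟩ : ∃ z₂, z₂ = s⁻¹ • (Y' - τ • f') := ⟨_, rfl⟩
  have hσs : σ s = r * τ / σ l := by rw [hs, map_div₀, map_neg, map_mul, hr, hστ]; ring
  have hl₂ : σ l + l = -1 := by rw [add_comm]; exact hl
  have hz₂e : fB z₂ e = l := by
    rw [hz₂, hB.smul_left, hB.toSesq.sub_left, hB.smul_left, hYe, hf'e, hT, hs]
    field_simp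
    ring
  have hz₂z₂ : fB z₂ z₂ = 0 := by
    rw [hz₂, hB.smul_left, hB.smul_right, hB.toSesq.sub_left, hB.toSesq.sub_right, hB.toSesq.sub_right, hB.smul_left,
      hB.smul_left, hB.smul_right, hB.smul_right, hYν, hYf', hf'Y, hf', hστ]
    have : ν + τ * s - τ * σ s = 0 := by
      rw [hσs, hs, hν]
      field_simp
      linear_combination (-(r * τ * τ)) * hl₂
    linear_combination (s⁻¹ * σ s⁻¹) * this
  have hf'z₂ : fB f' z₂ = 1 := by
    rw [hz₂, hB.smul_right, hB.toSesq.sub_right, hB.smul_right, hf', hf'Y, map_inv₀, mul_zero, sub_zero,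
      inv_mul_cancel₀ ((map_ne_zero σ).2 hs0)]
  have hez₂ : fB e z₂ = σ l := by rw [hB.herm, hz₂e]
  have h1 := (hP₁ e he).add_smul hO.hV (hP₀ f' hf') (hO.pure_iso_right x hf') hτs
  rw [hO.ten, hx₁x, hef', mul_one, mul_one] at h1
  obtain ⟨c₂, hc₂⟩ : ∃ c₂, c₂ = -(r * τ) / (l * σ l) := ⟨_, rfl⟩
  have hc₂s : c₂ + σ c₂ = 0 := by
    rw [hc₂, map_div₀, map_neg, map_mul, map_mul, hr, hB.invol, hστ, mul_comm (σ l)]; ring
  have h2 := h1.add_smul hO.hV (hP₀ z₂ hz₂z₂) (hO.pure_iso_right x hz₂z₂) hc₂s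
  rw [hO.hV.add_left, hO.hV.smul_left, hO.ten, hO.ten, hx₁x, hxx, hez₂, zero_mul, mul_zero, add_zero, one_mul,
    show c₂ * σ l = s by rw [hc₂, hs]; field_simp] at h2
  have h3 := h2.add_smul hO.hV (hP₁ e he) (hO.pure_iso_right x₁ he) (c := -T⁻¹) (by
    rw [map_neg, map_inv₀, hσT, inv_neg, neg_neg, neg_add_cancel])
  rw [hO.hV.add_left, hO.hV.add_left, hO.hV.smul_left, hO.hV.smul_left, hO.ten, hO.ten, hO.ten, hx₁, hxx₁, hf'e,
    hz₂e, zero_mul, zero_add, one_mul, one_mul] at h3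
  have hTe : -T⁻¹ * (τ * 1 + s * l) = -1 := by
    rw [show τ * 1 + s * l = T by rw [hs, hT, div_mul_cancel₀ _ hl0]; ring, neg_mul, inv_mul_cancel₀ hT0]
  rw [hTe] at h3
  have h4 := h3.smul hO.hV κ⁻¹
  convert h4 using 1
  have e3 : Y' = τ • f' + s • z₂ := by rw [hz₂, smul_smul, mul_inv_cancel₀ hs0, one_smul, add_sub_cancel]
  have e4 : tmul x Y' = κ • tmul x Y := by rw [hY', tmul_smul_right]
  rw [e3, tmul_add_right, tmul_smul_right, tmul_smul_right] at e4
  rw [show tmul x₁ e + τ • tmul x f' + s • tmul x z₂ + (-1 : F) • tmul x₁ e = τ • tmul x f' + s • tmul x z₂ by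
    module, e4, smul_smul, inv_mul_cancel₀ hκ0, one_smul]

omit hO in
/-- A doubly isotropic transvection group gives one at every tensor with an isotropic first factor. -/
theorem Ovr.line_all (hO : Ovr σ fA fB f M) {r : F} (hr : σ r = r) (hr0 : r ≠ 0) (hr1 : r ≠ 1) (a : α → F)
    (z : β → F) (haa : fA a a = 0) (ha0 : a ≠ 0) (hz : fB z z = 0) (hz0 : z ≠ 0) (hP₀ : UPt σ f M (tmul a z))
    (x : α → F) (Y : β → F) (hxx : fA x x = 0) : UPt σ f M (tmul x Y) := by
  rcases eq_or_ne x 0 with rfl | hx0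
  · rw [tmul_zero_left]; exact UPt.zero hO.hV
  obtain ⟨x₁, hx₁, hx₁x⟩ := exists_partner hO.hA hxx hx0
  exact hO.toPre.line_of hr hr0 hr1 hxx hx₁ hx₁x (fun _ hz' => hO.upt_pure haa ha0 hz hz0 hP₀ hxx hz')
    (fun _ hz' => hO.upt_pure haa ha0 hz hz0 hP₀ hx₁ hz') Y

end Cfsg.Agent.Classical.TensorHerm
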