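import Cfsg.Agent.Lib.Classical.MaxTensorHermThreeBase

/-!
A pair of root elements of the product of a unitary plane and a unitary three-space.
-/

set_option autoImplicit false
set_option linter.unusedSectionVars false

namespace Cfsg.Agent.Classical.TensorHerm

open Matrix Module MaxTv TensorMax
open scoped Kronecker

variable {F : Type*} [Field F] [Fintype F] {α β : Type} [Fintype α] [DecidableEq α] [Fintype β] [DecidableEq β]

local notation "V" => (α × β → F)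
local notation "Mn" => Matrix (α × β) (α × β) F
local notation "Ma" => Matrix α α F
local notation "Mb" => Matrix β β F
local notation "Ea" => ((α → F) →ₗ[F] (α → F))

/-- The nilpotent part of a root element at `z`. -/
def rA (fB : (β → F) → (β → F) → F) (τ : F) (z : β → F) : (α × β → F) →ₗ[F] (α × β → F) :=
  τ • (fac z).comp (sl fB z)

/-- The nilpotent part of the conjugate root element. -/
def rB (fB : (β → F) → (β → F) → F) (τ : F) (z : β → F) (g : GL (α × β) F) :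
    (α × β → F) →ₗ[F] (α × β → F) :=
  (Matrix.toLin' (g : Mn)).comp ((rA fB τ z).comp (Matrix.toLin' ((g⁻¹ : GL (α × β) F) : Mn)))

/-- The component of the image of `α ⊗ z` against `z`. -/
def co (fB : (β → F) → (β → F) → F) (z : β → F) (g : GL (α × β) F) : (α → F) →ₗ[F] (α → F) :=
  (sl fB z).comp ((Matrix.toLin' (g : Mn)).comp (fac z))

/-- The coefficient of the two root elements. -/
def dop (fB : (β → F) → (β → F) → F) (τ : F) (z : β → F) (g : GL (α × β) F) : (α → F) →ₗ[F] (α → F) :=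
  (τ * τ) • (co fB z g).comp (co fB z g⁻¹)

/-- A frame of the second space. -/
structure Frame (fB : (β → F) → (β → F) → F) (z u g₁ : β → F) : Prop where
  zz : fB z z = 0
  uu : fB u u = 0
  uz : fB u z = 1
  gz : fB g₁ z = 0
  gu : fB g₁ u = 0
  gg : fB g₁ g₁ = 1

/-- Displacements in the span of the two planes, fixing their common orthogonal space. -/
structure Mov (fB : (β → F) → (β → F) → F) (τ : F) (z : β → F) (g k : GL (α × β) F) : Prop where
  im : ∀ t, ∃ p q : α → F, (k : Mn) *ᵥ t - t = tmul p z + (g : Mn) *ᵥ tmul q z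
  fix : ∀ t, rA fB τ z t = 0 → rB fB τ z g t = 0 → (k : Mn) *ᵥ t = t

theorem co_apply (fB : (β → F) → (β → F) → F) (z : β → F) (g : GL (α × β) F) (x : α → F) :
    co fB z g x = sl fB z ((g : Mn) *ᵥ tmul x z) := rfl

theorem rB_apply (fB : (β → F) → (β → F) → F) (τ : F) (z : β → F) (g : GL (α × β) F) (t : V) :
    rB fB τ z g t = (g : Mn) *ᵥ rA fB τ z (((g⁻¹ : GL (α × β) F) : Mn) *ᵥ t) := rfl

theorem rA_apply (fB : (β → F) → (β → F) → F) (τ : F) (z : β → F) (t : V) :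
    rA fB τ z t = τ • tmul (sl fB z t) z := rfl

theorem dop_apply (fB : (β → F) → (β → F) → F) (τ : F) (z : β → F) (g : GL (α × β) F) (x : α → F) :
    dop fB τ z g x = (τ * τ) • co fB z g (co fB z g⁻¹ x) := rfl

theorem Mov.mul {fB : (β → F) → (β → F) → F} {τ : F} {z : β → F} {g k k' : GL (α × β) F}
    (h : Mov fB τ z g k) (h' : Mov fB τ z g k') : Mov fB τ z g (k * k') := by
  refine ⟨fun t => ?_, fun t ha hb => by rw [Units.val_mul, ← Matrix.mulVec_mulVec, h'.fix t ha hb, h.fix t ha hb]⟩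
  obtain ⟨p, q, hpq⟩ := h.im ((k' : Mn) *ᵥ t)
  obtain ⟨p', q', hpq'⟩ := h'.im t
  refine ⟨p + p', q + q', ?_⟩
  rw [Units.val_mul, ← Matrix.mulVec_mulVec, tmul_add_left, tmul_add_left, Matrix.mulVec_add,
    ← sub_add_sub_cancel _ ((k' : Mn) *ᵥ t) t, hpq, hpq']
  abel

variable {σ : F ≃+* F} {fA : (α → F) → (α → F) → F} {fB : (β → F) → (β → F) → F}
  {f : (α × β → F) → (α × β → F) → F} {M : Subgroup (GL (α × β) F)}

variable (hO : Ovr σ fA fB f M)
include hO

theorem Ovr.co_adj {g : GL (α × β) F} (hg : g ∈ M) (z : β → F) (x y : α → F) :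
    fA (co fB z g x) y = fA x (co fB z g⁻¹ y) := by
  rw [co_apply, co_apply, ← hO.f_sl]
  rw [show fA x (sl fB z (((g⁻¹ : GL (α × β) F) : Mn) *ᵥ tmul y z)) =
    σ (fA (sl fB z (((g⁻¹ : GL (α × β) F) : Mn) *ᵥ tmul y z)) x) from hO.hA.herm _ _, ← hO.f_sl, ← hO.hV.herm]
  conv_lhs => arg 2; rw [← mulVec_inv_cancel g (tmul y z)]
  rw [hO.iso hg]

theorem Ovr.dop_adj {g : GL (α × β) F} (hg : g ∈ M) {τ : F} (hτ : τ + σ τ = 0) (z : β → F) (x y : α → F) :
    fA (dop fB τ z g x) y = fA x (dop fB τ z g y) := by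
  rw [dop_apply, dop_apply, hO.hA.smul_left, hO.hA.smul_right, hO.co_adj hg, map_mul,
    eq_neg_of_add_eq_zero_right hτ, neg_mul_neg]
  congr 1
  have := hO.co_adj (inv_mem hg) z x (co fB z g⁻¹ y)
  rwa [inv_inv] at this

theorem Ovr.rA_pure {z : β → F} (hz : fB z z = 0) (τ : F) (p : α → F) : rA fB τ z (tmul p z) = 0 := by
  rw [rA_apply, hO.sl_tmul, hz, zero_smul, tmul_zero_left, smul_zero]

theorem Ovr.rB_pure {z : β → F} (τ : F) (g : GL (α × β) F) (p : α → F) :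
    rB fB τ z g (tmul p z) = τ • (g : Mn) *ᵥ tmul (co fB z g⁻¹ p) z := by
  rw [rB_apply, rA_apply, Matrix.mulVec_smul]; rfl

theorem Ovr.rA_rB {z : β → F} (τ : F) (g : GL (α × β) F) (p : α → F) :
    rA fB τ z (rB fB τ z g (tmul p z)) = tmul (dop fB τ z g p) z := by
  rw [rA_apply, hO.rB_pure, map_smul, tmul_smul_left, smul_smul, dop_apply, tmul_smul_left]; rfl

theorem Ovr.rB_image {z : β → F} (hz : fB z z = 0) (τ : F) (g : GL (α × β) F) (p : α → F) :
    rB fB τ z g ((g : Mn) *ᵥ tmul p z) = 0 := by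
  rw [rB_apply, inv_mulVec_cancel, hO.rA_pure hz, Matrix.mulVec_zero]

theorem Ovr.rB_rB {z : β → F} (hz : fB z z = 0) (τ : F) (g : GL (α × β) F) (t : V) :
    rB fB τ z g (rB fB τ z g t) = 0 := by
  rw [rB_apply fB τ z g t, rA_apply, Matrix.mulVec_smul, map_smul, hO.rB_image hz, smul_zero]

theorem Ovr.exists_rX {z : β → F} (hz : fB z z = 0) {τ : F} (hτ : τ + σ τ = 0) (g : GL (α × β) F) {s : F}
    (hs : σ s = s) : ∃ X ∈ M, (∀ t, (X : Mn) *ᵥ t = t + s • rA fB τ z t) ∧ Mov fB τ z g X := by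
  obtain ⟨X, hX, -, hXt⟩ := hO.exists_root (c := s * τ) hz (by rw [map_mul, hs, ← mul_add, hτ, mul_zero])
  have h : ∀ t, (X : Mn) *ᵥ t = t + s • rA fB τ z t := fun t => by rw [hXt, rA_apply, smul_smul]
  refine ⟨X, hX, h, fun t => ⟨s • τ • sl fB z t, 0, ?_⟩, fun t ha _ => by rw [h, ha, smul_zero, add_zero]⟩
  rw [h, add_sub_cancel_left, tmul_zero_left, Matrix.mulVec_zero, add_zero, rA_apply, tmul_smul_left, tmul_smul_left]

theorem Ovr.exists_rD {z : β → F} (hz : fB z z = 0) {τ : F} (hτ : τ + σ τ = 0) {g : GL (α × β) F} (hg : g ∈ M)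
    {s : F} (hs : σ s = s) : ∃ d ∈ M, (∀ t, (d : Mn) *ᵥ t = t + s • rB fB τ z g t) ∧ Mov fB τ z g d := by
  obtain ⟨X, hX, hXt, -⟩ := hO.exists_rX hz hτ g hs
  have h : ∀ t, ((g * X * g⁻¹ : GL (α × β) F) : Mn) *ᵥ t = t + s • rB fB τ z g t := fun t => by
    rw [Units.val_mul, Units.val_mul, ← Matrix.mulVec_mulVec, ← Matrix.mulVec_mulVec, hXt, Matrix.mulVec_add,
      mulVec_inv_cancel, Matrix.mulVec_smul]
    rfl
  refine ⟨g * X * g⁻¹, mul_mem (mul_mem hg hX) (inv_mem hg), h,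
    fun t => ⟨0, s • τ • sl fB z (((g⁻¹ : GL (α × β) F) : Mn) *ᵥ t), ?_⟩,
    fun t _ hb => by rw [h, hb, smul_zero, add_zero]⟩
  rw [h, add_sub_cancel_left, tmul_zero_left, zero_add, rB_apply, rA_apply, tmul_smul_left, tmul_smul_left,
    Matrix.mulVec_smul, Matrix.mulVec_smul, Matrix.mulVec_smul]

/-- The step of a root element at `z`. -/
theorem Ovr.step_X {z : β → F} (hz : fB z z = 0) {τ : F} {g X : GL (α × β) F} {s : F}
    (hX : ∀ t, (X : Mn) *ᵥ t = t + s • rA fB τ z t) (p l : α → F) :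
    (X : Mn) *ᵥ (tmul p z + rB fB τ z g (tmul l z)) =
      tmul (p + s • dop fB τ z g l) z + rB fB τ z g (tmul l z) := by
  rw [hX, map_add, hO.rA_pure hz, hO.rA_rB, zero_add, tmul_add_left, tmul_smul_left]
  abel

/-- The step of a conjugate root element. -/
theorem Ovr.step_D {z : β → F} (hz : fB z z = 0) {τ : F} {g d : GL (α × β) F} {s : F}
    (hd : ∀ t, (d : Mn) *ᵥ t = t + s • rB fB τ z g t) (p l : α → F) :
    (d : Mn) *ᵥ (tmul p z + rB fB τ z g (tmul l z)) = tmul p z + rB fB τ z g (tmul (l + s • p) z) := by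
  rw [hd, map_add, hO.rB_rB hz, add_zero, tmul_add_left, tmul_smul_left, map_add, map_smul]
  abel

/-- Decomposition of a tensor along a frame. -/
theorem Ovr.tensor_dec (hβ : Fintype.card β = 3) {z u g₁ : β → F} (hF : Frame fB z u g₁) (t : V) :
    t = tmul (sl fB u t) z + tmul (sl fB g₁ t) g₁ + tmul (sl fB z t) u := by
  let L : V →ₗ[F] V := (fac z).comp (sl fB u) + (fac g₁).comp (sl fB g₁) + (fac u).comp (sl fB z)
  have h : LinearMap.id = L := ext_tmul fun x y => by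
    simp only [L, LinearMap.id_apply, LinearMap.add_apply, LinearMap.comp_apply, fac_apply, hO.sl_tmul,
      tmul_smul_left]
    conv_lhs => rw [frame_dec hO.hB hβ hF.zz hF.uu hF.uz hF.gz hF.gu hF.gg y, tmul_add_right, tmul_add_right,
      tmul_smul_right, tmul_smul_right, tmul_smul_right]
  exact LinearMap.congr_fun h t

variable (hS : Scal fB M)
include hS

/-- An element stabilising the plane at `z` is of product shape, with prescribed first factor. -/
theorem Ovr.middle {k : GL (α × β) F} (hk : k ∈ M) {z : β → F} (hz : fB z z = 0) (hz0 : z ≠ 0) {a : Ea}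
    (ha : ∀ x, (k : Mn) *ᵥ tmul x z = tmul (a x) z) :
    ∃ T : (β → F) →ₗ[F] (β → F), T z = z ∧ (∀ x y, (k : Mn) *ᵥ tmul x y = tmul (a x) (T y)) ∧
      ∀ y, fB y z = 0 → fB (T y) z = 0 := by
  obtain ⟨A, B, hAB⟩ := hO.stab_kron hS hk hz hz0 fun x => ⟨a x, ha x⟩
  have hap : ∀ x y, (k : Mn) *ᵥ tmul x y = tmul ((A : Ma) *ᵥ x) ((B : Mb) *ᵥ y) := fun x y => by
    rw [hAB, kronecker_mulVec]
  obtain ⟨i⟩ : Nonempty α := Fintype.card_pos_iff.1 (by have := hO.ha; omega)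
  obtain ⟨ξ, hξ⟩ := exists_dual (show (A : Ma) *ᵥ Pi.single i 1 ≠ 0 from fun h0 => by
    have := gl_mulVec_injective A (h0.trans (Matrix.mulVec_zero _).symm)
    simpa using congrFun this i)
  obtain ⟨θ, hθ⟩ : ∃ θ, θ = ξ ⬝ᵥ a (Pi.single i 1) := ⟨_, rfl⟩
  have hBz : (B : Mb) *ᵥ z = θ • z := by
    have h := congrArg (lslice ξ) ((hap (Pi.single i 1) z).symm.trans (ha _))
    rwa [lslice_tmul, lslice_tmul, hξ, one_smul, ← hθ] at h
  have hθ0 : θ ≠ 0 := fun e => hz0 (gl_mulVec_injective B (by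
    show (B : Mb) *ᵥ z = (B : Mb) *ᵥ 0
    rw [hBz, e, zero_smul, Matrix.mulVec_zero]))
  have haA : ∀ x, a x = θ • (A : Ma) *ᵥ x := fun x => fac_injective hz0 (by
    show tmul (a x) z = tmul _ z
    rw [← ha, hap, hBz, tmul_smul_right, tmul_smul_left])
  obtain ⟨T, hT⟩ : ∃ T : (β → F) →ₗ[F] (β → F), T = θ⁻¹ • Matrix.toLin' (B : Mb) := ⟨_, rfl⟩
  have hTy : ∀ y, T y = θ⁻¹ • (B : Mb) *ᵥ y := fun y => by rw [hT, LinearMap.smul_apply, Matrix.toLin'_apply]
  have hkT : ∀ x y, (k : Mn) *ᵥ tmul x y = tmul (a x) (T y) := fun x y => by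
    rw [hap, haA, hTy, tmul_smul_left, tmul_smul_right, smul_smul, mul_inv_cancel₀ hθ0, one_smul]
  have hTz : T z = z := by rw [hTy, hBz, smul_smul, inv_mul_cancel₀ hθ0, one_smul]
  refine ⟨T, hTz, hkT, fun y hy => ?_⟩
  obtain ⟨a₁, a₂, -, -, h12⟩ := exists_hyp hO.hA hO.ha
  have has : Function.Surjective a := Finite.injective_iff_surjective.1 fun x x' e =>
    gl_mulVec_injective A (smul_right_injective _ hθ0 (by
      show θ • (A : Ma) *ᵥ x = θ • (A : Ma) *ᵥ x'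
      rw [← haA, ← haA, e]))
  obtain ⟨x, hx⟩ := has a₂
  obtain ⟨x', hx'⟩ := has a₁
  have h := hO.iso hk (tmul x y) (tmul x' z)
  rwa [hkT, hkT, hTz, hO.ten, hO.ten, hx, hx', h12, one_mul, hy, mul_zero] at h

/-- The action on the middle of a displaced element stabilising the plane at `z`. -/
theorem Ovr.mid_move (hβ : Fintype.card β = 3) {z u g₁ : β → F} (hF : Frame fB z u g₁) {τ : F} {g k : GL (α × β) F}
    (hk : k ∈ M) (hMk : Mov fB τ z g k) {a : Ea} {T : (β → F) →ₗ[F] (β → F)} (hTz : T z = z)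
    (hkT : ∀ x y, (k : Mn) *ᵥ tmul x y = tmul (a x) (T y)) (hTp : ∀ y, fB y z = 0 → fB (T y) z = 0)
    (x : α → F) :
    ∃ q, co fB z g q = 0 ∧ fB (T g₁) g₁ • a x - x = sl fB g₁ ((g : Mn) *ᵥ tmul q z) ∧
      fB (T g₁) g₁ • a (sl fB g₁ ((g : Mn) *ᵥ tmul q z)) = sl fB g₁ ((g : Mn) *ᵥ tmul q z) := by
  obtain ⟨p, q, hpq⟩ := hMk.im (tmul x g₁)
  have hzg : fB z g₁ = 0 := hO.hB.refl _ _ hF.gz
  have e1 := congrArg (sl fB z) hpq
  rw [map_sub, map_add, hkT, hO.sl_tmul, hO.sl_tmul, hO.sl_tmul, hTp _ hF.gz, hF.gz, hF.zz, zero_smul, zero_smul,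
    zero_smul, sub_zero, zero_add] at e1
  have e2 := congrArg (sl fB g₁) hpq
  rw [map_sub, map_add, hkT, hO.sl_tmul, hO.sl_tmul, hO.sl_tmul, hF.gg, hzg, one_smul, zero_smul, zero_add] at e2
  refine ⟨q, e1.symm, e2, ?_⟩
  obtain ⟨w, hw⟩ : ∃ w, w = (g : Mn) *ᵥ tmul q z := ⟨_, rfl⟩
  rw [← hw]
  have hw0 : sl fB z w = 0 := hw ▸ e1.symm
  have hfix : (k : Mn) *ᵥ w = w := hMk.fix w (by rw [rA_apply, hw0, tmul_zero_left, smul_zero])
    (hw ▸ hO.rB_image hF.zz τ g q)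
  have e3 := congrArg (sl fB g₁) hfix
  conv_lhs at e3 => rw [hO.tensor_dec hβ hF w, hw0, tmul_zero_left, add_zero, Matrix.mulVec_add, hkT, hkT, hTz,
    map_add, hO.sl_tmul, hO.sl_tmul, hzg, zero_smul, zero_add]
  exact e3

end Cfsg.Agent.Classical.TensorHerm
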