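import Cfsg.Agent.Lib.Classical.MaxTensorCore

/-!
The stabiliser of a tensor decomposition with two factors is maximal in the special linear group.
-/

set_option autoImplicit false
set_option linter.unusedSectionVars false

open scoped Kronecker

namespace Cfsg.Agent.Classical.TensorMax

open Matrix Module MaxTv Overfield

theorem In.comm {F : Type*} [Field F] {ι : Type} [Fintype ι] [DecidableEq ι] {M : Subgroup (GL ι F)}
    {X Y : (ι → F) →ₗ[F] (ι → F)} (hX : In M X) (hY : In M Y) (hX2 : ∀ t, X (X t) = 0) (hY2 : ∀ t, Y (Y t) = 0)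
    (hYX : ∀ t, Y (X t) = 0) : In M (X.comp Y) := by
  have h := (hY.sandwich hX hX2).sub hY (fun t => by
    simp only [LinearMap.comp_apply, LinearMap.add_apply, LinearMap.sub_apply, LinearMap.id_apply, map_sub, hYX,
      hY2, sub_zero, map_zero, add_zero]) hY2
  convert h using 1
  refine LinearMap.ext fun t => ?_
  simp only [LinearMap.comp_apply, LinearMap.add_apply, LinearMap.sub_apply, LinearMap.id_apply, map_sub, hYX,
    sub_zero, add_sub_cancel_left]

variable {F : Type*} [Field F] [Fintype F] {α β : Type} [Fintype α] [DecidableEq α] [Fintype β] [DecidableEq β]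
variable {M : Subgroup (GL (α × β) F)}

local notation "V" => (α × β → F)
local notation "Mn" => Matrix (α × β) (α × β) F
local notation "Ea" => ((α → F) →ₗ[F] (α → F))

theorem rootMap_zero_left (φ : β → F) (D : Ea) : rootMap (0 : β → F) φ D = 0 :=
  LinearMap.ext fun _ => tmul_zero_right _

theorem rootMap_zero_right (v : β → F) (D : Ea) : rootMap v (0 : β → F) D = 0 := LinearMap.ext fun t => by
  rw [rootMap_apply, ← zero_smul F (0 : β → F), slice_smul, zero_smul, map_zero, tmul_zero_left,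
    LinearMap.zero_apply]

theorem rootMap_comp (v φ v' φ' : β → F) (D D' : Ea) :
    (rootMap v φ D).comp (rootMap v' φ' D') = rootMap v φ' ((φ ⬝ᵥ v') • D.comp D') := LinearMap.ext fun t => by
  rw [LinearMap.comp_apply, rootMap_apply, rootMap_apply, rootMap_apply, slice_tmul, map_smul,
    LinearMap.smul_apply, LinearMap.comp_apply]

theorem rootMap_comp_zero {v φ v' φ' : β → F} (h : φ ⬝ᵥ v' = 0) (D D' : Ea) (t : V) :
    rootMap v φ D (rootMap v' φ' D' t) = 0 := by
  rw [rootMap_apply, rootMap_apply, slice_tmul, h, zero_smul, map_zero, tmul_zero_left]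

theorem In.rootMul {v φ v' φ' : β → F} {D D' : Ea} (hX : In M (rootMap v φ D)) (hY : In M (rootMap v' φ' D'))
    (hv : φ ⬝ᵥ v = 0) (hv' : φ' ⬝ᵥ v' = 0) (h : φ' ⬝ᵥ v = 0) (h1 : φ ⬝ᵥ v' = 1) :
    In M (rootMap v φ' (D.comp D')) := by
  have := In.comm hX hY (fun t => rootMap_sq hv _ _ t) (fun t => rootMap_sq hv' _ _ t)
    (fun t => rootMap_comp_zero h _ _ t)
  rwa [rootMap_comp, h1, one_smul] at this

/-- The coefficients occurring in root elements everywhere. -/
def Coef (M : Subgroup (GL (α × β) F)) (D : Ea) : Prop :=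
  ∀ v φ : β → F, φ ⬝ᵥ v = 0 → In M (rootMap v φ D)

section
variable (hM : Ctx M) (hb : 3 ≤ Fintype.card β)
include hM hb

theorem exists_perp_one {φ' v : β → F} {φ : β → F} (hφv : φ ⬝ᵥ v = 0) (hnot : φ ∉ (F ∙ φ')) :
    ∃ v' : β → F, φ ⬝ᵥ v' = 1 ∧ φ' ⬝ᵥ v' = 0 := by
  obtain ⟨v', h1, h0⟩ := exists_dot_one hnot
  exact ⟨v', by rwa [dotProduct_comm], by rw [dotProduct_comm]; exact h0 _ (Submodule.mem_span_singleton_self _)⟩

theorem move_right {v φ φ' : β → F} {D : Ea} (h : In M (rootMap v φ D)) (hv : φ ⬝ᵥ v = 0)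
    (hv' : φ' ⬝ᵥ v = 0) (hnot : φ ∉ (F ∙ φ')) : In M (rootMap v φ' D) := by
  obtain ⟨v', h1, h0⟩ := exists_perp_one hM hb hv hnot
  have := In.rootMul h (hM.inRoot (α := α) h0) hv h0 hv' h1
  rwa [LinearMap.comp_id] at this

theorem move_left {v v' φ' : β → F} {D : Ea} (h : In M (rootMap v' φ' D)) (hv' : φ' ⬝ᵥ v' = 0)
    (hv : φ' ⬝ᵥ v = 0) (hnot : v' ∉ (F ∙ v)) : In M (rootMap v φ' D) := by
  obtain ⟨φ, h1, h0⟩ := exists_dot_one hnot
  have h00 : φ ⬝ᵥ v = 0 := h0 _ (Submodule.mem_span_singleton_self _)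
  have := In.rootMul (hM.inRoot (α := α) h00) h h00 hv' hv h1
  rwa [LinearMap.id_comp] at this

theorem exists_perp_indep {v φ : β → F} (hφ : φ ≠ 0) :
    ∃ φ'' : β → F, φ'' ⬝ᵥ v = 0 ∧ φ ∉ (F ∙ φ'') ∧ φ'' ∉ (F ∙ φ) := by
  obtain ⟨j, hj⟩ := Function.ne_iff.1 hφ
  obtain ⟨φ'', hne, h1, h2⟩ := exists_perp2 hb v (Pi.single j 1)
  rw [dotProduct_single, mul_one] at h2
  have hnot : φ'' ∉ (F ∙ φ) := fun h => by
    obtain ⟨c, rfl⟩ := Submodule.mem_span_singleton.1 h
    rcases eq_or_ne c 0 with rfl | hc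
    · exact hne (zero_smul _ _)
    · exact mul_ne_zero hc hj h2
  refine ⟨φ'', h1, fun h => hnot ?_, hnot⟩
  obtain ⟨c, hc⟩ := Submodule.mem_span_singleton.1 h
  have hc0 : c ≠ 0 := fun e => hφ (by rw [← hc, e, zero_smul])
  exact Submodule.mem_span_singleton.2 ⟨c⁻¹, by rw [← hc, smul_smul, inv_mul_cancel₀ hc0, one_smul]⟩

theorem move_right' {v φ φ' : β → F} {D : Ea} (h : In M (rootMap v φ D)) (hφ : φ ≠ 0) (hv : φ ⬝ᵥ v = 0)
    (hv' : φ' ⬝ᵥ v = 0) : In M (rootMap v φ' D) := by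
  by_cases hnot : φ ∈ (F ∙ φ')
  · rcases eq_or_ne φ' 0 with rfl | hφ'
    · rw [rootMap_zero_right]; exact In.zero
    obtain ⟨φ'', h1, h2, h3⟩ := exists_perp_indep hM hb (v := v) hφ
    refine move_right hM hb (move_right hM hb h hv h1 h2) h1 hv' fun h4 => h3 ?_
    obtain ⟨c, hc⟩ := Submodule.mem_span_singleton.1 hnot
    obtain ⟨d, hd⟩ := Submodule.mem_span_singleton.1 h4
    have hc0 : c ≠ 0 := fun e => hφ (by rw [← hc, e, zero_smul])
    exact Submodule.mem_span_singleton.2 ⟨d * c⁻¹, by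
      rw [← hc, ← hd, smul_smul, mul_assoc, inv_mul_cancel₀ hc0, mul_one]⟩
  · exact move_right hM hb h hv hv' hnot

theorem move_left' {v v' φ : β → F} {D : Ea} (h : In M (rootMap v φ D)) (hne : v ≠ 0) (hv : φ ⬝ᵥ v = 0)
    (hv' : φ ⬝ᵥ v' = 0) : In M (rootMap v' φ D) := by
  by_cases hnot : v ∈ (F ∙ v')
  · rcases eq_or_ne v' 0 with rfl | hv'0
    · rw [rootMap_zero_left]; exact In.zero
    obtain ⟨v'', h1, h2, h3⟩ := exists_perp_indep hM hb (v := φ) hne
    rw [dotProduct_comm] at h1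
    refine move_left hM hb (move_left hM hb h hv h1 h2) h1 hv' fun h4 => h3 ?_
    obtain ⟨c, hc⟩ := Submodule.mem_span_singleton.1 hnot
    obtain ⟨d, hd⟩ := Submodule.mem_span_singleton.1 h4
    have hc0 : c ≠ 0 := fun e => hne (by rw [← hc, e, zero_smul])
    exact Submodule.mem_span_singleton.2 ⟨d * c⁻¹, by
      rw [← hc, ← hd, smul_smul, mul_assoc, inv_mul_cancel₀ hc0, mul_one]⟩
  · exact move_left hM hb h hv hv' hnot

theorem coef_of_in {v φ : β → F} {D : Ea} (h : In M (rootMap v φ D)) (hv0 : v ≠ 0) (hφ : φ ≠ 0)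
    (hv : φ ⬝ᵥ v = 0) : Coef M D := by
  intro v' φ' hv'
  rcases eq_or_ne v' 0 with rfl | hv'0
  · rw [rootMap_zero_left]; exact In.zero
  obtain ⟨φ'', hne, h1, h2⟩ := exists_perp2 hb v v'
  exact move_right' hM hb (move_left' hM hb (move_right' hM hb h hφ hv h1) hv0 h1 h2) hne h2 hv'

theorem Coef.add {D D' : Ea} (h : Coef M D) (h' : Coef M D') : Coef M (D + D') := fun v φ hv => by
  have := (h v φ hv).add (h' v φ hv) fun t => rootMap_sq hv _ _ t
  rwa [show rootMap v φ (D + D') = rootMap v φ D + rootMap v φ D' from LinearMap.ext fun t => by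
    simp only [rootMap_apply, LinearMap.add_apply, tmul_add_left]]

theorem Coef.smul {D : Ea} (h : Coef M D) (c : F) : Coef M (c • D) := fun v φ hv => by
  have := h (c • v) φ (by rw [dotProduct_smul, hv, smul_zero])
  rwa [show rootMap v φ (c • D) = rootMap (c • v) φ D from LinearMap.ext fun t => by
    simp only [rootMap_apply, LinearMap.smul_apply, tmul_smul_left, tmul_smul_right]]

theorem Coef.sub {D D' : Ea} (h : Coef M D) (h' : Coef M D') : Coef M (D - D') := by
  rw [sub_eq_add_neg, ← neg_one_smul F D']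
  exact h.add hM hb (h'.smul hM hb _)

theorem Coef.mul {D D' : Ea} (h : Coef M D) (h' : Coef M D') : Coef M (D.comp D') := fun v φ' hv => by
  rcases eq_or_ne φ' 0 with rfl | hφ'
  · rw [rootMap_zero_right]; exact In.zero
  obtain ⟨φ, h1, -, h3⟩ := exists_perp_indep hM hb (v := v) hφ'
  obtain ⟨v', h4, h5⟩ := exists_perp_one hM hb h1 h3
  exact In.rootMul (h v φ h1) (h' v' φ' h5) h1 h5 hv h4

theorem Coef.conj {D : Ea} (h : Coef M D) (A : GL α F) (hA : (A : Matrix α α F).det = 1) :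
    Coef M ((Matrix.toLin' (A : Matrix α α F)).comp
      (D.comp (Matrix.toLin' ((A⁻¹ : GL α F) : Matrix α α F)))) := fun v φ hv => by
  obtain ⟨g, hg, hgx⟩ := hM.exists_pair A 1 hA (by simp)
  have hgi : ∀ t, slice φ (((g⁻¹ : GL (α × β) F) : Mn) *ᵥ t) =
      ((A⁻¹ : GL α F) : Matrix α α F) *ᵥ slice φ t := fun t => by
    rw [← Matrix.toLin'_apply, ← Matrix.toLin'_apply ((A⁻¹ : GL α F) : Matrix α α F)]
    refine LinearMap.congr_fun (f := (slice φ).comp (Matrix.toLin' ((g⁻¹ : GL (α × β) F) : Mn)))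
      (g := (Matrix.toLin' ((A⁻¹ : GL α F) : Matrix α α F)).comp (slice φ)) ?_ t
    refine LinearMap.ext fun s => ?_
    obtain ⟨u, rfl⟩ : ∃ u, s = (g : Mn) *ᵥ u :=
      ⟨((g⁻¹ : GL (α × β) F) : Mn) *ᵥ s, (mulVec_inv_cancel g s).symm⟩
    simp only [LinearMap.comp_apply, Matrix.toLin'_apply, inv_mulVec_cancel]
    conv_rhs => rw [← Matrix.toLin'_apply]
    refine LinearMap.congr_fun (f := slice φ) (g := (Matrix.toLin' ((A⁻¹ : GL α F) : Matrix α α F)).comp
      ((slice φ).comp (Matrix.toLin' (g : Mn)))) (LinearMap.ext fun w => ?_) u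
    rw [sum_tmul_basis w]
    simp only [map_sum, map_smul, LinearMap.comp_apply, Matrix.toLin'_apply, hgx, slice_tmul, Units.val_one,
      Matrix.one_mulVec, inv_mulVec_cancel]
  have h1 := (h v φ hv).conj hg
  convert h1 using 1
  refine LinearMap.ext fun t => ?_
  rw [conjL_apply, rootMap_apply, rootMap_apply, hgi, hgx, Units.val_one, Matrix.one_mulVec]
  simp only [LinearMap.comp_apply, Matrix.toLin'_apply]

/-- The rank-one map. -/
def rank1 (x γ : α → F) : Ea where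
  toFun y := (γ ⬝ᵥ y) • x
  map_add' a b := by rw [dotProduct_add, add_smul]
  map_smul' c a := by rw [dotProduct_smul, smul_eq_mul, mul_smul, RingHom.id_apply]

theorem Coef.conj_tv {D : Ea} (h : Coef M D) {x γ : α → F} (hγ : γ ⬝ᵥ x = 0) :
    Coef M ((LinearMap.id + rank1 x γ).comp (D.comp (LinearMap.id - rank1 x γ))) := by
  obtain ⟨A, hA⟩ := MaxTv.exists_tv hγ
  have hd : (A : Matrix α α F).det = 1 := congrArg Units.val (MonoidHom.mem_ker.1 (MaxTv.det_tv hA hγ))
  have hAi : ∀ y, ((A⁻¹ : GL α F) : Matrix α α F) *ᵥ y = y - (γ ⬝ᵥ y) • x := fun y =>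
    gl_mulVec_injective A (by
      show (A : Matrix α α F) *ᵥ _ = (A : Matrix α α F) *ᵥ _
      rw [mulVec_inv_cancel, hA, dotProduct_sub, dotProduct_smul, hγ, smul_zero, sub_zero, sub_add_cancel])
  convert h.conj hM hb A hd using 1
  refine LinearMap.ext fun y => ?_
  simp only [LinearMap.comp_apply, Matrix.toLin'_apply, hA, hAi]
  rfl

/-- A rank-one nilpotent coefficient. -/
theorem exists_rank_one [Nonempty α] (hab : Fintype.card α < Fintype.card β)
    (hq : 3 ≤ Fintype.card α ∨ 3 ≤ Fintype.card F) {g : GL (α × β) F} (hg : g ∈ M) (hgk : ¬ IsKron g) :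
    ∃ x γ : α → F, x ≠ 0 ∧ γ ≠ 0 ∧ γ ⬝ᵥ x = 0 ∧ Coef M (rank1 x γ) := by
  classical
  haveI : Nonempty β := Fintype.card_pos_iff.1 (by omega)
  obtain ⟨v, φ, D, hv, hφ, hφv, hD, hin⟩ := rich_of_not_kron hM hab hb hg hgk
  have hDc : Coef M D := coef_of_in hM hb hin hv hφ hφv
  obtain ⟨x, hx⟩ : ∃ x, D x ∉ (F ∙ x) := by
    by_contra hcon
    push Not at hcon
    choose c hc using fun x => Submodule.mem_span_singleton.1 (hcon x)
    obtain ⟨i₀⟩ := ‹Nonempty α›
    have hs : ∀ i, c (Pi.single i (1 : F)) = c (Pi.single i₀ 1) := fun i => by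
      by_cases hi : i = i₀
      · rw [hi]
      have h1 := hc (Pi.single i (1 : F) + Pi.single i₀ 1)
      rw [map_add, ← hc, ← hc (Pi.single i₀ 1)] at h1
      have h2 := congrFun h1 i
      have h3 := congrFun h1 i₀
      simp [Ne.symm hi, hi] at h2 h3
      rw [← h2, ← h3]
    refine hD (c (Pi.single i₀ 1)) (LinearMap.ext fun y => ?_)
    rw [← Finset.univ_sum_single y, map_sum, map_sum]
    refine Finset.sum_congr rfl fun i _ => ?_
    rw [show (Pi.single i (y i) : α → F) = y i • Pi.single i 1 by rw [← Pi.single_smul, smul_eq_mul, mul_one],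
      map_smul, ← hc, hs, map_smul, LinearMap.smul_apply, LinearMap.id_apply]
  have hx0 : x ≠ 0 := fun e => hx (by rw [e, map_zero]; exact zero_mem _)
  obtain ⟨γ, hγ1, hγ0⟩ := exists_dot_one hx
  have hγx : γ ⬝ᵥ x = 0 := hγ0 _ (Submodule.mem_span_singleton_self _)
  have hγne : γ ≠ 0 := fun e => by simp [e] at hγ1
  set T := rank1 x γ with hT
  have hTa : ∀ y, T y = (γ ⬝ᵥ y) • x := fun y => rfl
  have htg : ∀ t : F, γ ⬝ᵥ (t • x) = 0 := fun t => by rw [dotProduct_smul, hγx, smul_zero]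
  have hdiff : ∀ t : F, Coef M (t • (T.comp D - D.comp T) - (t * t) • T) := fun t => by
    have h1 := (hDc.conj_tv hM hb (htg t)).sub hM hb hDc
    convert h1 using 1
    refine LinearMap.ext fun y => ?_
    simp only [LinearMap.sub_apply, LinearMap.smul_apply, LinearMap.comp_apply, LinearMap.add_apply,
      LinearMap.id_apply, hTa, show ∀ y, rank1 (t • x) γ y = (γ ⬝ᵥ y) • (t • x) from fun y => rfl, map_sub,
      map_smul, dotProduct_sub, dotProduct_smul, hγ1, smul_eq_mul]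
    module
  by_cases h3 : 3 ≤ Fintype.card F
  · obtain ⟨s, hs0, hs1⟩ : ∃ s : F, s ≠ 0 ∧ s ≠ 1 := by
      by_contra hcon
      push Not at hcon
      have : (Finset.univ : Finset F) ⊆ {0, 1} := fun s _ => by
        rcases eq_or_ne s 0 with h | h
        · simp [h]
        · simp [hcon s h]
      have := Finset.card_le_card this
      rw [Finset.card_univ] at this
      have := Finset.card_le_two (a := (0 : F)) (b := 1)
      omega
    refine ⟨x, γ, hx0, hγne, hγx, ?_⟩
    have h1 := ((hdiff s).smul hM hb s⁻¹).sub hM hb (hdiff 1)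
    have h2 := h1.smul hM hb (1 - s)⁻¹
    convert h2 using 1
    refine LinearMap.ext fun y => ?_
    have h1s : (1 - s) ≠ 0 := sub_ne_zero.2 (Ne.symm hs1)
    simp only [LinearMap.sub_apply, LinearMap.smul_apply, LinearMap.comp_apply, hTa, ← hT, smul_sub, smul_smul]
    match_scalars <;> field_simp <;> ring
  · have ha3 : 3 ≤ Fintype.card α := hq.resolve_right h3
    obtain ⟨δ, hδ0, hδx, hδD⟩ := exists_perp2 (β := α) ha3 x (D x)
    refine ⟨x, δ, hx0, hδ0, hδx, ?_⟩
    have h1 := hdiff 1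
    have h2 := (h1.sub hM hb (h1.conj_tv hM hb hδx))
    convert h2 using 1
    refine LinearMap.ext fun y => ?_
    simp only [LinearMap.sub_apply, LinearMap.smul_apply, LinearMap.comp_apply, LinearMap.add_apply,
      LinearMap.id_apply, hTa, show ∀ y, rank1 x δ y = (δ ⬝ᵥ y) • x from fun y => rfl, map_sub, map_smul,
      dotProduct_sub, dotProduct_smul, hγx, hδx, hδD, hγ1, smul_eq_mul]
    module

/-- All coefficients occur. -/
theorem coef_all {x γ : α → F} (hx : x ≠ 0) (hγ : γ ≠ 0) (hγx : γ ⬝ᵥ x = 0) (hc : Coef M (rank1 x γ))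
    (y δ : α → F) : Coef M (rank1 y δ) := by
  have hsm : ∀ {y δ : α → F}, Coef M (rank1 y δ) → ∀ c : F, Coef M (rank1 (c • y) δ) := fun {y δ} h c => by
    convert h.smul hM hb c using 1
    exact LinearMap.ext fun z => smul_comm _ _ _
  have hsm' : ∀ {y δ : α → F}, Coef M (rank1 y δ) → ∀ c : F, Coef M (rank1 y (c • δ)) := fun {y δ} h c => by
    convert h.smul hM hb c using 1
    exact LinearMap.ext fun z => by
      show ((c • δ) ⬝ᵥ z) • y = c • ((δ ⬝ᵥ z) • y)
      rw [smul_dotProduct, smul_eq_mul, mul_smul]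
  have hadd : ∀ {y δ δ' : α → F}, Coef M (rank1 y δ) → Coef M (rank1 y δ') → Coef M (rank1 y (δ + δ')) :=
    fun {y δ δ'} h h' => by
      convert h.add hM hb h' using 1
      exact LinearMap.ext fun z => by
        show ((δ + δ') ⬝ᵥ z) • y = (δ ⬝ᵥ z) • y + (δ' ⬝ᵥ z) • y
        rw [add_dotProduct, add_smul]
  have hconj : ∀ {y δ w ε : α → F}, Coef M (rank1 y δ) → ε ⬝ᵥ w = 0 →
      Coef M (rank1 (y + (ε ⬝ᵥ y) • w) (δ - (δ ⬝ᵥ w) • ε)) := fun {y δ w ε} h hw => by
    convert h.conj_tv hM hb hw using 1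
    refine LinearMap.ext fun z => ?_
    show ((δ - (δ ⬝ᵥ w) • ε) ⬝ᵥ z) • (y + (ε ⬝ᵥ y) • w) =
      (δ ⬝ᵥ (z - (ε ⬝ᵥ z) • w)) • y + (ε ⬝ᵥ ((δ ⬝ᵥ (z - (ε ⬝ᵥ z) • w)) • y)) • w
    simp only [sub_dotProduct, smul_dotProduct, dotProduct_sub, dotProduct_smul, smul_eq_mul]
    module
  -- every vector occurs
  have hP : ∀ y : α → F, y ≠ 0 → ∃ δ : α → F, δ ≠ 0 ∧ δ ⬝ᵥ y = 0 ∧ Coef M (rank1 y δ) := by
    intro y hy
    by_cases hm : y ∈ (F ∙ x)
    · obtain ⟨c, rfl⟩ := Submodule.mem_span_singleton.1 hm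
      exact ⟨γ, hγ, by rw [dotProduct_smul, hγx, smul_zero], hsm hc c⟩
    have hm' : x ∉ (F ∙ (y - x)) := fun h => hm (by
      obtain ⟨c, hc⟩ := Submodule.mem_span_singleton.1 h
      refine Submodule.mem_span_singleton.2 ⟨c⁻¹ + 1, ?_⟩
      have hc0 : c ≠ 0 := fun e => hx (by rw [← hc, e, zero_smul])
      rw [add_smul, one_smul]
      nth_rewrite 1 [← hc]
      rw [smul_smul, inv_mul_cancel₀ hc0, one_smul, sub_add_cancel])
    obtain ⟨ε, hε1, hε0⟩ := exists_dot_one hm'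
    have hw : ε ⬝ᵥ (y - x) = 0 := hε0 _ (Submodule.mem_span_singleton_self _)
    refine ⟨γ - (γ ⬝ᵥ (y - x)) • ε, fun e => hγ ?_, ?_, ?_⟩
    · have h1 : γ ⬝ᵥ x = (γ ⬝ᵥ (y - x)) * 1 := by
        conv_lhs => rw [sub_eq_zero.1 e, smul_dotProduct, hε1, smul_eq_mul]
      rw [hγx, mul_one] at h1
      rw [sub_eq_zero.1 e, ← h1, zero_smul]
    · rw [dotProduct_sub] at hw
      simp only [sub_dotProduct, smul_dotProduct, dotProduct_sub, hγx, smul_eq_mul, sub_zero]
      linear_combination -(γ ⬝ᵥ y) * (sub_eq_zero.1 hw) - (γ ⬝ᵥ y) * hε1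
    · have := hconj hc hw
      rwa [hε1, one_smul, add_sub_cancel] at this
  rcases eq_or_ne y 0 with rfl | hy
  · convert (hc.smul hM hb (0 : F)) using 1
    exact LinearMap.ext fun z => by
      show (δ ⬝ᵥ z) • (0 : α → F) = (0 : F) • rank1 x γ z
      rw [smul_zero, zero_smul]
  -- functionals killing y
  have hperp : ∀ {y : α → F}, y ≠ 0 → ∀ δ : α → F, δ ⬝ᵥ y = 0 → Coef M (rank1 y δ) := by
    intro y hy δ hδ
    obtain ⟨δ₀, hδ₀, hδ₀y, hc₀⟩ := hP y hy
    by_cases hm : δ₀ ∈ (F ∙ δ)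
    · obtain ⟨c, hc⟩ := Submodule.mem_span_singleton.1 hm
      have hc0 : c ≠ 0 := fun e => hδ₀ (by rw [← hc, e, zero_smul])
      have := hsm' hc₀ c⁻¹
      rwa [← hc, smul_smul, inv_mul_cancel₀ hc0, one_smul] at this
    obtain ⟨z, hz1, hz0⟩ := exists_dot_one hm
    rw [dotProduct_comm] at hz1
    have hz : δ ⬝ᵥ z = 0 := by rw [dotProduct_comm]; exact hz0 _ (Submodule.mem_span_singleton_self _)
    have h1 := hconj hc₀ hz
    rw [hδ, zero_smul, add_zero, hz1, one_smul] at h1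
    have h2 := hadd hc₀ (hsm' h1 (-1))
    rwa [show δ₀ + (-1 : F) • (δ₀ - δ) = δ by module] at h2
  obtain ⟨δ₁, hδ₁, hδ₁y, -⟩ := hP y hy
  obtain ⟨z, hz⟩ := exists_dual hδ₁
  rw [dotProduct_comm] at hz
  have hzy : y ∉ (F ∙ z) := fun h => by
    obtain ⟨c, rfl⟩ := Submodule.mem_span_singleton.1 h
    rw [dotProduct_smul, hz, smul_eq_mul, mul_one] at hδ₁y
    exact hy (by rw [hδ₁y, zero_smul])
  obtain ⟨ε, hε1, hε0⟩ := exists_dot_one hzy
  have hz0 : z ≠ 0 := fun e => by simp [e] at hz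
  have hyε : Coef M (rank1 y ε) := by
    convert (hperp hy δ₁ hδ₁y).mul hM hb (hperp hz0 ε (hε0 _ (Submodule.mem_span_singleton_self _))) using 1
    exact LinearMap.ext fun w => by
      show (ε ⬝ᵥ w) • y = (δ₁ ⬝ᵥ ((ε ⬝ᵥ w) • z)) • y
      rw [dotProduct_smul, hz, smul_eq_mul, mul_one]
  have h1 := hperp hy (δ - (δ ⬝ᵥ y) • ε) (by rw [sub_dotProduct, smul_dotProduct, hε1, smul_eq_mul, mul_one, sub_self])
  have h2 := hadd (hsm' hyε (δ ⬝ᵥ y)) h1
  rwa [add_sub_cancel] at h2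

theorem specialLinear_le_of_not_kron [Nonempty α] (hab : Fintype.card α < Fintype.card β)
    (hq : 3 ≤ Fintype.card α ∨ 3 ≤ Fintype.card F) {g : GL (α × β) F} (hg : g ∈ M) (hgk : ¬ IsKron g) :
    Geo.specialLinear (α × β) F ≤ M := by
  classical
  obtain ⟨x, γ, hx, hγ, hγx, hc⟩ := exists_rank_one hM hb hab hq hg hgk
  have hall := coef_all hM hb hx hγ hγx hc
  -- elementary maps
  let E : α × β → α × β → F → (V →ₗ[F] V) := fun a b c =>
    rootMap (Pi.single a.2 (1 : F)) (Pi.single b.2 1) (rank1 (Pi.single a.1 c) (Pi.single b.1 1))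
  have hEa : ∀ a b c t, E a b c t = t b • (Pi.single a c : V) := fun a b c t => by
    funext ⟨i, k⟩
    show ((Pi.single b.1 (1 : F) : α → F) ⬝ᵥ slice (Pi.single b.2 1) t) * (Pi.single a.1 c : α → F) i *
      (Pi.single a.2 (1 : F) : β → F) k = t b * (Pi.single a c : V) (i, k)
    rw [single_dotProduct, one_mul]
    have h1 : slice (Pi.single b.2 (1 : F)) t b.1 = t b := by
      show ∑ l, t (b.1, l) * (Pi.single b.2 (1 : F) : β → F) l = t b
      rw [Finset.sum_eq_single b.2] <;> simp +contextual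
    rw [h1]
    obtain ⟨a1, a2⟩ := a
    simp only [Pi.single_apply, Prod.mk.injEq]
    by_cases e1 : i = a1 <;> by_cases e2 : k = a2 <;> simp [e1, e2]
  have hE : ∀ a b, a.2 ≠ b.2 → ∀ c, In M (E a b c) := fun a b h c =>
    hall _ _ _ _ (by simp [h])
  have hE' : ∀ a b, a ≠ b → ∀ c, In M (E a b c) := fun a b h c => by
    by_cases h2 : a.2 = b.2
    · obtain ⟨m, hm⟩ : ∃ m, m ≠ a.2 := Fintype.exists_ne_of_one_lt_card (by omega) _
      have na : (a.1, m) ≠ a := fun e => hm (congrArg Prod.snd e)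
      have nb : b ≠ (a.1, m) := fun e => hm (by rw [h2, e])
      have h1 := In.comm (hE a (a.1, m) (Ne.symm hm) c) (hE (a.1, m) b (h2 ▸ hm) 1)
        (fun t => by rw [hEa, hEa]; simp [Pi.single_eq_of_ne na])
        (fun t => by rw [hEa, hEa]; simp [Pi.single_eq_of_ne nb])
        (fun t => by rw [hEa, hEa]; simp [Pi.single_eq_of_ne (Ne.symm h)])
      convert h1 using 1
      refine LinearMap.ext fun t => ?_
      rw [LinearMap.comp_apply, hEa, hEa, hEa]
      simp
    · exact hE a b h2 c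
  intro u hu
  have hle : (⊤ : Subgroup (Matrix.SpecialLinearGroup (α × β) F)) ≤
      M.comap Matrix.SpecialLinearGroup.toGL := by
    rw [← SL_closure_transvections, Subgroup.closure_le]
    rintro _ ⟨⟨i, l, hil, c⟩, rfl⟩
    obtain ⟨k, hk, hkx⟩ := hE' i l hil c
    show Matrix.SpecialLinearGroup.toGL _ ∈ M
    convert hk using 1
    refine Units.ext (Matrix.ext_iff_mulVec.2 fun t => ?_)
    rw [hkx, hEa]
    show Matrix.transvection i l c *ᵥ t = _
    funext a
    simp [Matrix.transvection, Matrix.add_mulVec, Matrix.single_mulVec_eq, Pi.single_apply]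
    split_ifs <;> ring
  have hdet : (u : Mn).det = 1 := congrArg Units.val (MonoidHom.mem_ker.1 hu)
  obtain ⟨w, hw⟩ : ∃ w : Matrix.SpecialLinearGroup (α × β) F, (w : Mn) = u := ⟨⟨(u : Mn), hdet⟩, rfl⟩
  have h1 : Matrix.SpecialLinearGroup.toGL w ∈ M := hle (Subgroup.mem_top w)
  exact (show Matrix.SpecialLinearGroup.toGL w = u from Units.ext hw) ▸ h1

end

/-- There is a transvection not of product shape. -/
theorem exists_not_kron (ha : 2 ≤ Fintype.card α) (hab : Fintype.card α < Fintype.card β) :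
    ∃ g : GL (α × β) F, g ∈ Geo.specialLinear (α × β) F ∧ ¬ IsKron g := by
  classical
  haveI : Nonempty α := Fintype.card_pos_iff.1 (by omega)
  obtain ⟨i, j, hij⟩ := Fintype.exists_pair_of_one_lt_card (α := α) (by omega)
  obtain ⟨k, l, -⟩ := Fintype.exists_pair_of_one_lt_card (α := β) (by omega)
  have h0 : (Pi.single (j, k) (1 : F) : V) ⬝ᵥ Pi.single (i, k) 1 = 0 := by simp [Ne.symm hij]
  obtain ⟨g, hg⟩ := MaxTv.exists_tv h0
  refine ⟨g, MaxTv.det_tv hg h0, fun hk => ?_⟩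
  have hne : g ≠ 1 := by
    intro e
    have := hg (Pi.single (j, k) 1)
    rw [e, Units.val_one, Matrix.one_mulVec, single_dotProduct, one_mul, Pi.single_eq_same, one_smul,
      left_eq_add] at this
    simpa using congrFun this (i, k)
  have h1 := finrank_span_singleton (K := F) (show (Pi.single (i, k) (1 : F) : V) ≠ 0 by simp)
  obtain ⟨v, hv, hW⟩ := hk.root hab hne (W := (F ∙ (Pi.single (i, k) (1 : F) : V))) (by omega) fun t => by
    rw [hg, add_sub_cancel_left]
    exact Submodule.smul_mem _ _ (Submodule.mem_span_singleton_self _)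
  rw [hW, finrank_range_fac hv] at h1
  omega

/-- Maximality of the stabiliser of a decomposition in two tensor factors of different dimensions. -/
theorem tensor_maximal (ha : 2 ≤ Fintype.card α) (hab : Fintype.card α < Fintype.card β)
    (hq : 3 ≤ Fintype.card α ∨ 3 ≤ Fintype.card F) (H : Subgroup (GL (α × β) F))
    (hH : ∀ g, g ∈ H ↔ IsKron g ∧ g ∈ Geo.specialLinear (α × β) F) :
    Geo.IsMaximalIn (Geo.specialLinear (α × β) F) H := by
  haveI : Nonempty α := Fintype.card_pos_iff.1 (by omega)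
  refine MaxTv.isMaximalIn_intro (fun g hg => ((hH g).1 hg).2) ?_ fun M hHM hMK g hg hgH => ?_
  · obtain ⟨g, hg, hgk⟩ := exists_not_kron (F := F) ha hab
    exact fun h => hgk ((hH g).1 (h hg)).1
  · exact specialLinear_le_of_not_kron ⟨hMK, fun k hk hk' => hHM ((hH k).2 ⟨hk, hk'⟩)⟩ (by omega) hab hq hg
      fun hk => hgH ((hH g).2 ⟨hk, hMK hg⟩)

end Cfsg.Agent.Classical.TensorMax
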