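import Cfsg.Agent.Lib.Classical.MaxTensorOrthCent

/-!
An overgroup of `O₃ ⊗ O₄⁻` without root elements on a line permutes the half turns, hence consists of products.
-/

set_option autoImplicit false
set_option linter.unusedSectionVars false

namespace Cfsg.Agent.Classical.TensorOrth

open Matrix Module MaxTv TensorMax Overfield
open scoped Kronecker
open Cfsg.Agent.Classical.TensorRoot (kg kg_apply kg_isKron)

variable {F : Type*} [Field F] [Fintype F] {α β : Type} [Fintype α] [DecidableEq α] [Fintype β] [DecidableEq β]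

local notation "V" => (α × β → F)
local notation "Mn" => Matrix (α × β) (α × β) F
local notation "Ma" => Matrix α α F
local notation "Mb" => Matrix β β F

/-- The plane orthogonal to `a` is hyperbolic. -/
def Hyp (fA : (α → F) → (α → F) → F) (a : α → F) : Prop := ∃ w, w ≠ 0 ∧ fA w a = 0 ∧ fA w w = 0

variable {fA : (α → F) → (α → F) → F} {fB : (β → F) → (β → F) → F}
  {f : (α × β → F) → (α × β → F) → F} {G M : Subgroup (GL (α × β) F)}

variable (hO : Ovr fA fB f G M) (h4 : Fintype.card β = 4) (h3 : Fintype.card α = 3)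
include hO h4 h3

/-- Both kinds of anisotropic vectors occur. -/
theorem Ovr.exists_other (a : α → F) : ∃ a', fA a' a' ≠ 0 ∧ (Hyp fA a' ↔ ¬ Hyp fA a) := by
  classical
  have hA := hO.hA
  have h2 := hO.two
  obtain ⟨b, c, hbb, hcc, hcb⟩ := hA.exists_hyp h2 (by omega)
  have hbc : fA b c = 1 := by rw [hA.symm, hcb]
  obtain ⟨e, he, hee⟩ := hA.exists_aniso h2 (hA.ndOn_perp2 hcc hbb hcb)
    (Submodule.exists_mem_ne_zero_of_ne_bot fun e => by
      have := hA.finrank_perp2 c b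
      rw [e, finrank_bot] at *; omega)
  have hec : fA e c = 0 := he.1
  have heb : fA e b = 0 := he.2
  by_cases ha : Hyp fA a
  swap
  · refine ⟨e, hee, iff_of_true ⟨b, fun h => one_ne_zero (by rw [← hbc, h, hA.zero_left]), ?_, hbb⟩ ha⟩
    rw [hA.symm, heb]
  obtain ⟨ν, hν⟩ := FiniteField.exists_nonsquare (F := F) (fun h => h2 (by
    haveI := ringChar.of_eq h; exact CharTwo.two_eq_zero))
  obtain ⟨l, hl⟩ : ∃ l, l = fA e e * ν / 2 := ⟨_, rfl⟩
  have hν0 : ν ≠ 0 := fun h => hν (h ▸ IsSquare.zero)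
  have hl0 : l ≠ 0 := hl ▸ div_ne_zero (mul_ne_zero hee hν0) h2
  refine ⟨b + l • c, ?_, iff_of_false ?_ (fun h => h ha)⟩
  · simp only [hA.add_left, hA.add_right, hA.smul_left, hA.smul_right, hbb, hcc, hbc, hcb, mul_zero, mul_one,
      add_zero, zero_add]
    rw [← two_mul]
    exact mul_ne_zero h2 hl0
  rintro ⟨w, hw0, hwa, hww⟩
  obtain ⟨r, hr⟩ : ∃ r, r = w - fA w c • b - fA w b • c := ⟨_, rfl⟩
  obtain ⟨s, hs⟩ : ∃ s, s = fA w c := ⟨_, rfl⟩
  obtain ⟨t, ht⟩ : ∃ t, t = fA w b := ⟨_, rfl⟩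
  rw [← hs, ← ht] at hr
  have hrb : fA r b = 0 := by
    rw [hr, hA.sub_left, hA.sub_left, hA.smul_left, hA.smul_left, hbb, hcb, ← ht]; ring
  have hrc : fA r c = 0 := by
    rw [hr, hA.sub_left, hA.sub_left, hA.smul_left, hA.smul_left, hbc, hcc, ← hs]; ring
  obtain ⟨k, hk⟩ : ∃ k, k = fA r e / fA e e := ⟨_, rfl⟩
  -- the orthogonal of the hyperbolic plane is a line
  have hre : r = k • e := by
    have hli : LinearIndependent F ![b, c, e] := by
      refine Fintype.linearIndependent_iff.2 fun g hg i => ?_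
      rw [Fin.sum_univ_three] at hg
      have k0 := congrArg (fun v => fA v c) hg
      have k1 := congrArg (fun v => fA v b) hg
      have k2 := congrArg (fun v => fA v e) hg
      simp only [Matrix.cons_val_zero, Matrix.cons_val_one, Matrix.cons_val, hA.add_left, hA.smul_left,
        hA.zero_left, hbb, hcc, hbc, hcb, hec, heb, hA.symm b e, hA.symm c e, mul_zero, mul_one, add_zero,
        zero_add] at k0 k1 k2
      fin_cases i
      exacts [k0, k1, (mul_eq_zero.1 k2).resolve_right hee]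
    have htop : Submodule.span F (Set.range ![b, c, e]) = ⊤ :=
      hli.span_eq_top_of_card_eq_finrank' (by rw [Fintype.card_fin, Module.finrank_fintype_fun_eq_card, h3])
    obtain ⟨g, hg⟩ := (Submodule.mem_span_range_iff_exists_fun F).1 (htop ▸ Submodule.mem_top : r ∈ _)
    rw [Fin.sum_univ_three] at hg
    simp only [Matrix.cons_val_zero, Matrix.cons_val_one, Matrix.cons_val] at hg
    have k0 := congrArg (fun v => fA v c) hg
    have k1 := congrArg (fun v => fA v b) hg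
    have k2 := congrArg (fun v => fA v e) hg
    simp only [hA.add_left, hA.smul_left, hbb, hcc, hbc, hcb, hec, heb, hA.symm b e, hA.symm c e, hrb, hrc,
      mul_zero, mul_one, add_zero, zero_add] at k0 k1 k2
    rw [← hg, k0, k1, zero_smul, zero_smul, zero_add, zero_add, hk, ← k2, mul_div_cancel_right₀ _ hee]
  have hw : w = k • e + s • b + t • c := by rw [← hre, hr]; abel
  rw [hw] at hww hwa
  simp only [hA.add_left, hA.add_right, hA.smul_left, hA.smul_right, hbb, hcc, hbc, hcb, hec, heb, hA.symm b e,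
    hA.symm c e] at hww hwa
  have ht' : t = -(l * s) := by linear_combination hwa
  subst ht'
  have h1 : k * k * fA e e = fA e e * ν * (s * s) := by
    have : fA e e * ν = 2 * l := by rw [hl]; field_simp
    rw [this]
    linear_combination hww
  rcases eq_or_ne s 0 with h0 | h0
  · rw [h0, mul_zero, mul_zero, mul_eq_zero, mul_self_eq_zero] at h1
    exact hw0 (by rw [hw, h0, h1.resolve_right hee]; simp)
  · exact hν ⟨k / s, by field_simp; linear_combination -mul_left_cancel₀ hee (show fA e e * (k * k) = fA e e * (ν * (s * s)) by linear_combination h1)⟩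

/-- Half turns with orthogonal axes commute. -/
theorem IsRm.commute {g g' : GL (α × β) F} {a c : α → F} (h : IsRm fA g a) (h' : IsRm fA g' c)
    (hac : fA a c = 0) : g * g' = g' * g :=
  ext_kron fun x y => by
    rw [Units.val_mul, Units.val_mul, ← Matrix.mulVec_mulVec, ← Matrix.mulVec_mulVec, h'.apply_tmul hO,
      h.apply_tmul hO, h.apply_tmul hO, h'.apply_tmul hO]
    simp only [hO.hA.sub_left, hO.hA.smul_left, hac, hO.hA.symm c a, mul_zero, zero_sub]
    congr 1
    module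

variable (hN : NoRoot fB M) (hH : Half fA G)
include hN hH

/-- A conjugate of a half turn commuting with a half turn is a half turn. -/
theorem Ovr.conj_half {R S g : GL (α × β) F} {a b : α → F} (hR : IsRm fA R a) (ha : fA a a ≠ 0) (hS : IsRm fA S b)
    (hb : fA b b ≠ 0) (hSM : S ∈ M) (hg : g ∈ M) (hc : g * S * g⁻¹ * R = R * (g * S * g⁻¹)) :
    ∃ c, fA c c ≠ 0 ∧ IsRm fA (g * S * g⁻¹) c := by
  have hx : g * S * g⁻¹ ∈ M := mul_mem (mul_mem hg hSM) (inv_mem hg)
  refine hO.invol_shape h4 h3 hx (hO.cent_half hN h4 h3 hR ha hx hc) ?_ ?_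
  · rw [show g * S * g⁻¹ * (g * S * g⁻¹) = g * (S * S) * g⁻¹ by group, hS.sq hO hb, mul_one, mul_inv_cancel]
  · rw [rank_sub_one_of_semiconj _ (S : Mn) g (by rw [← Units.val_mul, ← Units.val_mul, inv_mul_cancel_right]),
      hS.rank hO h4 h3 hb]

/-- Half turns with planes of different types are not conjugate. -/
theorem Ovr.not_conj {R R' g : GL (α × β) F} {a a' : α → F} (hR : IsRm fA R a) (ha : fA a a ≠ 0)
    (hR' : IsRm fA R' a') (ha' : fA a' a' ≠ 0) (hA1 : Hyp fA a) (hA2 : ¬ Hyp fA a') (hg : g ∈ M) :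
    g * R * g⁻¹ ≠ R' := by
  classical
  intro hconj
  have hA := hO.hA
  choose rm hrmM hrm using fun c : {c : α → F // fA c c ≠ 0} => hO.exists_rm h4 hH c.2
  -- a chosen axis for every half turn
  let ax : GL (α × β) F → (α → F) := fun x => if h : ∃ c, fA c c ≠ 0 ∧ IsRm fA x c then h.choose else 0
  have hax : ∀ {x : GL (α × β) F} {c : α → F}, fA c c ≠ 0 → IsRm fA x c →
      fA (ax x) (ax x) ≠ 0 ∧ IsRm fA x (ax x) := fun {x c} h1 h2 => by
    have h : ∃ c, fA c c ≠ 0 ∧ IsRm fA x c := ⟨c, h1, h2⟩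
    simp only [ax, dif_pos h]
    exact h.choose_spec
  let E : (α → F) → Type _ := fun b => {c : α → F // fA c b = 0 ∧ fA c c ≠ 0}
  have key : ∀ c : E a', fA (ax (g⁻¹ * rm ⟨c.1, c.2.2⟩ * g)) a = 0 ∧
      fA (ax (g⁻¹ * rm ⟨c.1, c.2.2⟩ * g)) (ax (g⁻¹ * rm ⟨c.1, c.2.2⟩ * g)) ≠ 0 ∧
      IsRm fA (g⁻¹ * rm ⟨c.1, c.2.2⟩ * g) (ax (g⁻¹ * rm ⟨c.1, c.2.2⟩ * g)) := by
    rintro ⟨c, hca, hcc⟩
    obtain ⟨x, hx⟩ : ∃ x, x = rm ⟨c, hcc⟩ := ⟨_, rfl⟩
    have hxc : IsRm fA x c := hx ▸ hrm ⟨c, hcc⟩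
    obtain ⟨y, hy⟩ : ∃ y, y = g⁻¹ * x * g := ⟨_, rfl⟩
    have hxR : x * R' = R' * x := hxc.commute hO h4 h3 hR' hca
    have hyR : y * R = R * y := by
      have : R = g⁻¹ * R' * g := by rw [← hconj]; group
      rw [this, hy, show g⁻¹ * x * g * (g⁻¹ * R' * g) = g⁻¹ * (x * R') * g by group, hxR]
      group
    have hy' : y = g⁻¹ * x * g⁻¹⁻¹ := by rw [inv_inv, hy]
    obtain ⟨d₀, hd₀, hd₀y⟩ := hO.conj_half h4 h3 hN hH hR ha hxc hcc (hx ▸ hrmM _) (inv_mem hg) (hy' ▸ hyR)
    rw [← hy'] at hd₀y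
    obtain ⟨hdd, hdy⟩ := hax hd₀ hd₀y
    show fA (ax (g⁻¹ * rm ⟨c, hcc⟩ * g)) a = 0 ∧ _
    rw [← hx, ← hy]
    refine ⟨?_, hdd, hdy⟩
    rcases hR.comm_axis hO h4 hdy ha hdd hyR.symm with ⟨k, hk⟩ | h
    · exfalso
      have hk0 : k ≠ 0 := fun e => hdd (by rw [hk, e, zero_smul, hA.zero_left])
      have hya := hdy.smul hO (inv_ne_zero hk0)
      rw [hk, inv_smul_smul₀ hk0] at hya
      have hyR' : y = R := hya.unique hR
      have hxR' : x = R' := by rw [← hconj, ← hyR', hy]; group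
      obtain ⟨l, hl⟩ := hR'.line hO h4 (hxR' ▸ hxc) hcc
      rw [hl, hA.smul_left, mul_eq_zero] at hca
      exact hcc (by rw [hl, hca.resolve_right ha', zero_smul, hA.zero_left])
    · exact h
  obtain ⟨κ, hκ⟩ : ∃ κ : E a' → F, ∀ c, κ c = fA c.1 (ax (rm ⟨c.1, c.2.2⟩)) /
      fA (ax (rm ⟨c.1, c.2.2⟩)) (ax (rm ⟨c.1, c.2.2⟩)) := ⟨_, fun _ => rfl⟩
  have hc : ∀ c : E a', c.1 = κ c • ax (rm ⟨c.1, c.2.2⟩) ∧ κ c ≠ 0 := fun c => by
    obtain ⟨h1, h2⟩ := hax c.2.2 (hrm ⟨c.1, c.2.2⟩)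
    obtain ⟨k, hk⟩ := h2.line hO h4 (hrm ⟨c.1, c.2.2⟩) c.2.2
    have e : κ c = k := by
      rw [hκ]
      obtain ⟨m, hm⟩ : ∃ m, m = ax (rm ⟨c.1, c.2.2⟩) := ⟨_, rfl⟩
      rw [← hm] at hk h1 ⊢
      rw [hk, hA.smul_left, mul_div_cancel_right₀ _ h1]
    exact ⟨e.symm ▸ hk, fun h => c.2.2 (by rw [hk, ← e, h, zero_smul, hA.zero_left])⟩
  let ι : E a' → E a := fun c => ⟨κ c • ax (g⁻¹ * rm ⟨c.1, c.2.2⟩ * g), by
    rw [hA.smul_left, (key c).1, mul_zero], by
    rw [hA.smul_left, hA.smul_right]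
    exact mul_ne_zero (hc c).2 (mul_ne_zero (hc c).2 (key c).2.1)⟩
  have hι : Function.Injective ι := fun c c' e => by
    have e1 : κ c • ax (g⁻¹ * rm ⟨c.1, c.2.2⟩ * g) = κ c' • ax (g⁻¹ * rm ⟨c'.1, c'.2.2⟩ * g) :=
      congrArg Subtype.val e
    have h1 := (key c).2.2.smul hO (hc c).2
    rw [e1] at h1
    have hy := h1.unique ((key c').2.2.smul hO (hc c').2)
    have hx : rm ⟨c.1, c.2.2⟩ = rm ⟨c'.1, c'.2.2⟩ := mul_left_cancel (mul_right_cancel hy)
    rw [hy] at e1
    have hκe : κ c = κ c' := smul_left_injective F (fun h => (key c').2.1 (by rw [h, hA.zero_left])) e1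
    exact Subtype.ext (by rw [(hc c).1, (hc c').1, hκe, hx])
  -- counting
  have hplane : ∀ b, fA b b ≠ 0 → Nat.card (LinearMap.ker (hA.lin b)) = Nat.card F ^ 2 := fun b hb => by
    rw [Module.natCard_eq_pow_finrank (K := F)]
    congr 1
    have h1 := LinearMap.finrank_range_add_finrank_ker (hA.lin b)
    have h2 : finrank F (LinearMap.range (hA.lin b)) = 1 := by
      rw [LinearMap.range_eq_top.2 fun r => ⟨(r / fA b b) • b, by
        rw [Sym.lin_apply, hA.smul_left, div_mul_cancel₀ _ hb]⟩, finrank_top, Module.finrank_self]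
    rw [Module.finrank_fintype_fun_eq_card, h3] at h1
    omega
  haveI : Fintype (E a) := Fintype.ofFinite _
  haveI : Fintype (E a') := Fintype.ofFinite _
  have hle : Nat.card (E a') ≤ Nat.card (E a) := Nat.card_le_card_of_injective ι hι
  have hbig : Nat.card (LinearMap.ker (hA.lin a')) ≤ Nat.card (E a') + 1 := by
    rw [← Finite.card_option]
    refine Nat.card_le_card_of_injective (fun v => if h : v.1 = 0 then none else some ⟨v.1, v.2, fun hv =>
      hA2 ⟨v.1, h, v.2, hv⟩⟩) fun v v' e => ?_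
    dsimp only at e
    split_ifs at e with h h'
    · exact Subtype.ext (h.trans h'.symm)
    · exact Subtype.ext (congrArg (fun o : Option (E a') => o.elim 0 Subtype.val) e)
  obtain ⟨w, hw0, hwa, hww⟩ := hA1
  have hsmall : Nat.card (E a) + 2 ≤ Nat.card (LinearMap.ker (hA.lin a)) := by
    rw [← Finite.card_option.trans (congrArg (· + 1) Finite.card_option)]
    refine Nat.card_le_card_of_injective (fun o : Option (Option (E a)) => match o with
      | none => (0 : LinearMap.ker (hA.lin a))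
      | some none => ⟨w, hwa⟩
      | some (some c) => ⟨c.1, c.2.1⟩) fun o o' e => ?_
    have e' := congrArg Subtype.val e
    rcases o with _ | _ | c <;> rcases o' with _ | _ | c' <;> dsimp at e'
    all_goals first
      | rfl
      | exact congrArg (fun c => some (some c)) (Subtype.ext e')
      | exact absurd e'.symm hw0
      | exact absurd e' hw0
      | exact absurd (show fA c.1 c.1 = 0 by rw [e', hA.zero_left]) c.2.2
      | exact absurd (show fA c'.1 c'.1 = 0 by rw [← e', hA.zero_left]) c'.2.2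
      | exact absurd (show fA c.1 c.1 = 0 by rw [e', hww]) c.2.2
      | exact absurd (show fA c'.1 c'.1 = 0 by rw [← e', hww]) c'.2.2
  have e := hplane a ha
  have e' := hplane a' ha'
  omega

/-- Conjugates of half turns are half turns. -/
theorem Ovr.move_half {R g : GL (α × β) F} {a : α → F} (hR : IsRm fA R a) (ha : fA a a ≠ 0) (hRM : R ∈ M)
    (hg : g ∈ M) : ∃ c, fA c c ≠ 0 ∧ IsRm fA (g * R * g⁻¹) c := by
  classical
  have hA := hO.hA
  obtain ⟨a', ha', hiff⟩ := hO.exists_other h4 h3 a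
  obtain ⟨R', hR'M, hR'⟩ := hO.exists_rm h4 hH ha'
  obtain ⟨j, hj⟩ : ∃ j, j = g * R * g⁻¹ := ⟨_, rfl⟩
  rw [← hj]
  have hjM : j ∈ M := hj ▸ mul_mem (mul_mem hg hRM) (inv_mem hg)
  have hjj : j * j = 1 := by
    rw [hj, show g * R * g⁻¹ * (g * R * g⁻¹) = g * (R * R) * g⁻¹ by group, hR.sq hO ha, mul_one, mul_inv_cancel]
  have hcl : ∀ k ∈ Subgroup.closure ({R', j} : Set (GL (α × β) F)), k ∈ M :=
    (Subgroup.closure_le M).2 (by rintro _ (rfl | rfl); exacts [hR'M, hjM])
  have hnc : ∀ k ∈ Subgroup.closure ({R', j} : Set (GL (α × β) F)), k * R' * k⁻¹ ≠ j := fun k hk e => by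
    by_cases h : Hyp fA a
    · refine hO.not_conj h4 h3 hN hH hR ha hR' ha' h (fun h' => (hiff.1 h') h) (mul_mem (inv_mem (hcl k hk)) hg) ?_
      rw [show k⁻¹ * g * R * (k⁻¹ * g)⁻¹ = k⁻¹ * (g * R * g⁻¹) * k by group, ← hj, ← e]
      group
    · refine hO.not_conj h4 h3 hN hH hR' ha' hR ha (hiff.2 h) h (mul_mem (inv_mem hg) (hcl k hk)) ?_
      rw [show g⁻¹ * k * R' * (g⁻¹ * k)⁻¹ = g⁻¹ * (k * R' * k⁻¹) * g by group, e, hj]
      group
  obtain ⟨z, hz, hz1, hzR, hzj, k, hk, hk'⟩ := exists_central_invol (hR'.sq hO ha') hjj hnc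
  have hRz : ∃ c, fA c c ≠ 0 ∧ IsRm fA (R' * z) c := by
    have hcomm : R' * z * R' = R' * (R' * z) := by rw [mul_assoc, hzR]
    rcases hk' with e | e
    · rw [e] at hcomm ⊢
      exact hO.conj_half h4 h3 hN hH hR' ha' hR' ha' hR'M (hcl k hk) hcomm
    · rw [hj, show k * (g * R * g⁻¹) * k⁻¹ = k * g * R * (k * g)⁻¹ by group] at e
      rw [e] at hcomm ⊢
      exact hO.conj_half h4 h3 hN hH hR' ha' hR ha hRM (mul_mem (hcl k hk) hg) hcomm
  obtain ⟨c, hcc, hc⟩ := hRz
  rcases hR'.comm_axis hO h4 hc ha' hcc (by rw [mul_assoc, hzR]) with ⟨l, hl⟩ | hca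
  · exfalso
    have hl0 : l ≠ 0 := fun e => hcc (by rw [hl, e, zero_smul, hA.zero_left])
    have h1 := hc.smul hO (inv_ne_zero hl0)
    rw [hl, inv_smul_smul₀ hl0] at h1
    exact hz1 (mul_left_cancel ((h1.unique hR').trans (mul_one R').symm))
  obtain ⟨d, hd, hdc, hdd⟩ := hO.exists_third h4 h3 ha' hcc (by rw [hA.symm, hca])
  obtain ⟨D, hDM, hD⟩ := hO.exists_rm h4 hH hdd
  have hzD : z = D := by
    rw [← hR'.mul_eq hO h4 h3 hc hD ha' hcc hdd (by rw [hA.symm, hca]) hd hdc, ← mul_assoc, hR'.sq hO ha', one_mul]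
  subst hj
  exact hO.conj_half h4 h3 hN hH hD hdd hR ha hRM hg (hzD ▸ hzj.symm)

/-- Without root elements on a line the overgroup of `O₃ ⊗ O₄⁻` consists of products. -/
theorem Ovr.all_kron_four {g : GL (α × β) F} (hg : g ∈ M) : IsKron g := by
  classical
  have hA := hO.hA
  have hs := hO.hB
  have h2 := hO.two
  obtain ⟨b, c, hbb, hcc, hcb⟩ := hA.exists_hyp h2 (by omega)
  have hbc : fA b c = 1 := by rw [hA.symm, hcb]
  obtain ⟨e, he, hee⟩ := hA.exists_aniso h2 (hA.ndOn_perp2 hcc hbb hcb)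
    (Submodule.exists_mem_ne_zero_of_ne_bot fun e => by
      have := hA.finrank_perp2 c b
      rw [e, finrank_bot] at *; omega)
  have hec : fA e c = 0 := he.1
  have heb : fA e b = 0 := he.2
  obtain ⟨a, ha⟩ : ∃ a : Fin 3 → (α → F), a = ![e, b + c, b - c] := ⟨_, rfl⟩
  have hn : ∀ i, fA (a i) (a i) ≠ 0 := by
    intro i
    fin_cases i <;> simp [ha, hA.add_left, hA.add_right, hA.sub_left, hA.sub_right, hbb, hcc, hbc, hcb, hee]
    · intro h; exact h2 (by linear_combination h)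
    · intro h; exact h2 (by linear_combination -h)
  have hperp : ∀ i j, i ≠ j → fA (a i) (a j) = 0 := by
    intro i j hij
    fin_cases i <;> fin_cases j <;> first
      | exact absurd rfl hij
      | simp [ha, hA.add_left, hA.add_right, hA.sub_left, hA.sub_right, hbb, hcc, hbc, hcb, hec, heb,
          hA.symm b e, hA.symm c e]
  choose R hRM hR using fun i => hO.exists_rm h4 hH (hn i)
  choose c' hc'n hc' using fun i => hO.move_half h4 h3 hN hH (hR i) (hn i) (hRM i) hg
  have hmap : ∀ {x : GL (α × β) F} {u v : α → F}, IsRm fA x u → IsRm fA (g * x * g⁻¹) v → fA u u ≠ 0 → ∀ y,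
      (g : Mn) *ᵥ tmul u y = tmul v ((fA v v)⁻¹ • la fA v ((g : Mn) *ᵥ tmul u y)) := fun {x u v} hx hv hu y =>
    hv.eq_of_fix hO (by
      rw [Units.val_mul, Units.val_mul, ← Matrix.mulVec_mulVec, ← Matrix.mulVec_mulVec, inv_mulVec_cancel,
        hx.self hO hu])
  obtain ⟨Q, hQ⟩ : ∃ Q : Fin 3 → (β → F) → (β → F), ∀ i y,
      (g : Mn) *ᵥ tmul (a i) y = tmul (c' i) (Q i y) := ⟨_, fun i y => hmap (hR i) (hc' i) (hn i) y⟩
  have hQne : ∀ i y, y ≠ 0 → Q i y ≠ 0 := fun i y hy h => by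
    have := hQ i y
    rw [h, tmul_zero_right] at this
    exact tmul_ne_zero (fun e => hn i (by rw [e, hA.zero_left])) hy
      (gl_mulVec_injective g (this.trans (Matrix.mulVec_zero _).symm))
  have hc'perp : ∀ i j, i ≠ j → fA (c' i) (c' j) = 0 := fun i j hij => by
    have hcomm := (hR i).commute hO h4 h3 (hR j) (hperp i j hij)
    have h1 : g * R i * g⁻¹ * (g * R j * g⁻¹) = g * R j * g⁻¹ * (g * R i * g⁻¹) := by
      rw [show g * R i * g⁻¹ * (g * R j * g⁻¹) = g * (R i * R j) * g⁻¹ by group, hcomm]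
      group
    rcases (hc' j).comm_axis hO h4 (hc' i) (hc'n j) (hc'n i) h1.symm with ⟨k, hk⟩ | h
    · exfalso
      have hk0 : k ≠ 0 := fun e => hc'n i (by rw [hk, e, zero_smul, hA.zero_left])
      have h3' := (hc' i).smul hO (inv_ne_zero hk0)
      rw [hk, inv_smul_smul₀ hk0] at h3'
      have hij' : R i = R j := mul_left_cancel (mul_right_cancel (h3'.unique (hc' j)))
      obtain ⟨l, hl⟩ := (hR j).line hO h4 (hij' ▸ hR i) (hn i)
      have := hperp i j hij
      rw [hl, hA.smul_left, mul_eq_zero] at this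
      exact hn i (by rw [hl, this.resolve_right (hn j), zero_smul, hA.zero_left])
    · exact h
  obtain ⟨y₀, hy₀⟩ := hO.exists_ne_zero h4
  have hlink : ∀ i, i ≠ 0 → ∃ k : F, ∀ y, Q i y = k • Q 0 y := by
    intro i hi
    obtain ⟨t, ht, ht'⟩ : ∃ t : F, t ≠ 0 ∧ fA (a 0) (a 0) + t * t * fA (a i) (a i) ≠ 0 := by
      by_contra hcon
      push Not at hcon
      have h1 := hcon 1 one_ne_zero
      have hsq : ∀ t : F, t = 0 ∨ t = 1 ∨ t = -1 := fun t => by
        rcases eq_or_ne t 0 with h | h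
        · exact Or.inl h
        · right
          have h' := hcon t h
          rcases mul_eq_zero.1 (show (t * t - 1) * fA (a i) (a i) = 0 by linear_combination h' - h1) with h'' | h''
          · exact (mul_self_eq_one_iff.1 (sub_eq_zero.1 h''))
          · exact absurd h'' (hn i)
      refine hO.hex ⟨?_, h3⟩
      have hle : Fintype.card F ≤ 3 := by
        rw [← Finset.card_univ]
        refine (Finset.card_le_card (t := ({0, 1, -1} : Finset F)) fun t _ => ?_).trans Finset.card_le_three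
        simpa using hsq t
      have h11 : (1 : F) ≠ -1 := fun e => h2 (by linear_combination e)
      have hge : 3 ≤ Fintype.card F := by
        have : ({0, 1, -1} : Finset F).card = 3 := by simp [h11]
        exact this ▸ Finset.card_le_univ _
      omega
    obtain ⟨u, hu⟩ : ∃ u, u = a 0 + t • a i := ⟨_, rfl⟩
    have hun : fA u u ≠ 0 := by
      simp only [hu, hA.add_left, hA.add_right, hA.smul_left, hA.smul_right, hperp 0 i (Ne.symm hi), hperp i 0 hi,
        mul_zero, add_zero, zero_add, ← mul_assoc]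
      exact ht'
    obtain ⟨Ru, hRuM, hRu⟩ := hO.exists_rm h4 hH hun
    obtain ⟨v, hvn, hv⟩ := hO.move_half h4 h3 hN hH hRu hun hRuM hg
    obtain ⟨W, hW⟩ : ∃ W : (β → F) → (β → F), ∀ y, (g : Mn) *ᵥ tmul u y = tmul v (W y) :=
      ⟨_, fun y => hmap hRu hv hun y⟩
    have hsum : ∀ y, tmul (c' 0) (Q 0 y) + t • tmul (c' i) (Q i y) = tmul v (W y) := fun y => by
      rw [← hW, hu, tmul_add_left, tmul_smul_left, Matrix.mulVec_add, Matrix.mulVec_smul, hQ, hQ]
    have h0 : ∀ y, fA (c' 0) (c' 0) • Q 0 y = fA v (c' 0) • W y := fun y => by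
      have := congrArg (la fA (c' 0)) (hsum y)
      rwa [map_add, map_smul, hO.la_tmul, hO.la_tmul, hO.la_tmul, hc'perp i 0 hi, zero_smul, smul_zero,
        add_zero] at this
    have hi' : ∀ y, (t * fA (c' i) (c' i)) • Q i y = fA v (c' i) • W y := fun y => by
      have := congrArg (la fA (c' i)) (hsum y)
      rwa [map_add, map_smul, hO.la_tmul, hO.la_tmul, hO.la_tmul, hc'perp 0 i (Ne.symm hi), zero_smul, zero_add,
        smul_smul] at this
    have hv0 : fA v (c' 0) ≠ 0 := fun h => by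
      have := h0 y₀
      rw [h, zero_smul, smul_eq_zero] at this
      exact this.elim (hc'n 0) (hQne 0 y₀ hy₀)
    refine ⟨(t * fA (c' i) (c' i))⁻¹ * fA v (c' i) * ((fA v (c' 0))⁻¹ * fA (c' 0) (c' 0)), fun y => ?_⟩
    have hti : t * fA (c' i) (c' i) ≠ 0 := mul_ne_zero ht (hc'n i)
    rw [mul_assoc, ← smul_smul, ← smul_smul, ← smul_smul, h0, inv_smul_smul₀ hv0, ← hi', inv_smul_smul₀ hti]
  choose k hk using hlink
  obtain ⟨K, hK⟩ : ∃ K : Fin 3 → F, ∀ i y, Q i y = K i • Q 0 y :=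
    ⟨fun i => if h : i = 0 then 1 else k i h, fun i y => by
      dsimp only
      split_ifs with h
      · rw [h, one_smul]
      · exact hk i h y⟩
  let P₀ : (α → F) →ₗ[F] (α → F) :=
    ∑ i, ((fA (a i) (a i))⁻¹ * K i) • (hA.lin (a i)).smulRight (c' i)
  have hP₀ : ∀ x y, (g : Mn) *ᵥ tmul x y = tmul (P₀ x) (Q 0 y) := fun x y => by
    conv_lhs => rw [hO.orth_basis h4 h3 (hn 0) (hn 1) (hn 2) (hperp 0 1 (by decide)) (hperp 0 2 (by decide))
      (hperp 1 2 (by decide)) x]
    simp only [P₀, LinearMap.add_apply, Fin.sum_univ_three, LinearMap.smul_apply, LinearMap.smulRight_apply,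
      Sym.lin_apply, tmul_add_left, tmul_smul_left, Matrix.mulVec_add, Matrix.mulVec_smul, hQ, hK 1 y, hK 2 y,
      tmul_smul_right, smul_smul]
    rw [show K 0 = 1 by
      have := hK 0 y₀
      nth_rw 1 [← one_smul F (Q 0 y₀)] at this
      exact (smul_left_injective F (hQne 0 y₀ hy₀) this).symm]
    match_scalars <;> ring
  obtain ⟨ψ, hψ⟩ := TensorMax.exists_dual (hQne 0 y₀ hy₀)
  obtain ⟨P, hP⟩ := exists_gl_of_injective P₀ fun x x' e => fac_injective hy₀ (gl_mulVec_injective g (by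
    show (g : Mn) *ᵥ tmul x y₀ = (g : Mn) *ᵥ tmul x' y₀
    rw [hP₀, hP₀, e]))
  obtain ⟨ξ, hξ⟩ := TensorMax.exists_dual (show P₀ (a 0) ≠ 0 from fun h => by
    have := hP₀ (a 0) y₀
    rw [h, tmul_zero_left] at this
    exact tmul_ne_zero (fun e => hn 0 (by rw [e, hA.zero_left])) hy₀
      (gl_mulVec_injective g (this.trans (Matrix.mulVec_zero _).symm)))
  let L : (β → F) →ₗ[F] (β → F) := (lslice ξ).comp ((Matrix.toLin' (g : Mn)).comp
    ((LinearMap.mk₂ F (fun (u : α → F) (w : β → F) => tmul u w) tmul_add_left tmul_smul_left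
      tmul_add_right (fun k u w => tmul_smul_right k u w)) (a 0)))
  have hL : ∀ y, L y = Q 0 y := fun y => by
    show lslice ξ ((g : Mn) *ᵥ tmul (a 0) y) = _
    rw [hP₀, lslice_tmul, hξ, one_smul]
  obtain ⟨B, hB⟩ := exists_gl_of_injective L fun y y' e => by
    rw [hL, hL] at e
    have h1 := gl_mulVec_injective g (show (g : Mn) *ᵥ tmul (a 0) y = (g : Mn) *ᵥ tmul (a 0) y' by rw [hP₀, hP₀, e])
    obtain ⟨η, hη⟩ := TensorMax.exists_dual (show a 0 ≠ 0 from fun e => hn 0 (by rw [e, hA.zero_left]))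
    have h3' := congrArg (lslice η) h1
    rwa [lslice_tmul, lslice_tmul, hη, one_smul, one_smul] at h3'
  exact isKron_of_apply P B fun x y => by rw [hP, hB, hL, hP₀]

end Cfsg.Agent.Classical.TensorOrth
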