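import Cfsg.Agent.Lib.Classical.MaxTensorOrthPlane

/-!
A root element on one singular line of the second factor gives every Siegel map of the product space.
-/

set_option autoImplicit false
set_option linter.unusedSectionVars false

namespace Cfsg.Agent.Classical.TensorOrth

open Matrix Module MaxTv TensorMax Overfield
open scoped Kronecker
open Cfsg.Agent.Classical.TensorRoot (kg kg_apply kg_isKron)

variable {F : Type*} [Field F] [Fintype F]

section Vec

variable {ι : Type} [Fintype ι] [DecidableEq ι] {h : (ι → F) → (ι → F) → F} (hs : Sym h)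

local notation "Mi" => Matrix ι ι F

theorem cj_wd {g : GL ι F} (hg : g ∈ iso h) (a c : ι → F) :
    cj g (wd a c hs) = wd ((g : Mi) *ᵥ a) ((g : Mi) *ᵥ c) hs := LinearMap.ext fun x => by
  obtain ⟨x', rfl⟩ : ∃ x', (g : Mi) *ᵥ x' = x := ⟨_, mulVec_inv_cancel g x⟩
  rw [cj_apply, inv_mulVec_cancel, wd_apply hs, wd_apply hs, hg, hg, Matrix.mulVec_sub, Matrix.mulVec_smul,
    Matrix.mulVec_smul]

/-- All Siegel maps at `v` are in `M`. -/
def FullAt (h : (ι → F) → (ι → F) → F) (M : Subgroup (GL ι F)) (v : ι → F) : Prop :=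
  ∀ t, h t v = 0 → ∃ g ∈ M, IsSieg h g v t

include hs

theorem FullAt.smul {M : Subgroup (GL ι F)} {v : ι → F} (hv : FullAt h M v) (c : F) : FullAt h M (c • v) := by
  intro t ht
  rcases eq_or_ne c 0 with rfl | hc
  · exact ⟨1, one_mem M, fun x => by simp [hs.zero_right]⟩
  rw [hs.smul_right, mul_eq_zero] at ht
  obtain ⟨g, hg, hgx⟩ := hv (c • t) (by rw [hs.smul_left, ht.resolve_left hc, mul_zero])
  refine ⟨g, hg, fun x => ?_⟩
  rw [hgx]
  simp only [hs.smul_left, hs.smul_right, smul_smul]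
  module

theorem FullAt.map {M : Subgroup (GL ι F)} {v : ι → F} (hv : FullAt h M v) {g : GL ι F} (hg : g ∈ M)
    (hgi : g ∈ iso h) : FullAt h M ((g : Mi) *ᵥ v) := by
  intro t ht
  obtain ⟨t', rfl⟩ : ∃ t', (g : Mi) *ᵥ t' = t := ⟨_, mulVec_inv_cancel g t⟩
  rw [hgi] at ht
  obtain ⟨k, hk, hkx⟩ := hv t' ht
  refine ⟨g * k * g⁻¹, mul_mem (mul_mem hg hk) (inv_mem hg), fun x => ?_⟩
  obtain ⟨x', rfl⟩ : ∃ x', (g : Mi) *ᵥ x' = x := ⟨_, mulVec_inv_cancel g x⟩
  rw [Units.val_mul, Units.val_mul, ← Matrix.mulVec_mulVec, ← Matrix.mulVec_mulVec, inv_mulVec_cancel, hkx,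
    hgi, hgi, hgi, Matrix.mulVec_sub, Matrix.mulVec_sub, Matrix.mulVec_add, Matrix.mulVec_smul, Matrix.mulVec_smul,
    Matrix.mulVec_smul]

theorem FullAt.step (h2 : (2 : F) ≠ 0) {M : Subgroup (GL ι F)} (hM : M ≤ iso h) {x₀ P Q : ι → F}
    (hx : FullAt h M x₀) (hP : FullAt h M P) (hPP : h P P = 0) (hQQ : h Q Q = 0)
    (hP0 : h P x₀ ≠ 0) (hQ0 : h Q x₀ ≠ 0) : FullAt h M Q := by
  obtain ⟨r, hr⟩ : ∃ r, r = h P x₀ := ⟨_, rfl⟩
  obtain ⟨Q', hQ'⟩ : ∃ Q', Q' = (r / h Q x₀) • Q := ⟨_, rfl⟩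
  obtain ⟨w, hw⟩ : ∃ w, w = r⁻¹ • (Q' - P) := ⟨_, rfl⟩
  have hQ'x : h Q' x₀ = r := by rw [hQ', hs.smul_left, div_mul_cancel₀ _ hQ0]
  have hwx : h w x₀ = 0 := by rw [hw, hs.smul_left, hs.sub_left, hQ'x, ← hr, sub_self, mul_zero]
  obtain ⟨g, hg, hgx⟩ := hx w hwx
  have hgP : (g : Mi) *ᵥ P = Q' := by
    have hQ'Q' : h Q' Q' = 0 := by rw [hQ', hs.smul_left, hs.smul_right, hQQ, mul_zero, mul_zero]
    have hr0 : r ≠ 0 := hr ▸ hP0
    rw [hgx, ← hr, hw]
    simp only [hs.smul_left, hs.smul_right, hs.sub_left, hs.sub_right, hPP, hQ'Q', hs.symm Q' P]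
    match_scalars <;> field_simp <;> ring
  have hQf := (hP.map hs hg (hM hg)).smul hs (h Q x₀ / r)
  have hr0 : r ≠ 0 := hr ▸ hP0
  rwa [hgP, hQ', smul_smul, show h Q x₀ / r * (r / h Q x₀) = 1 by field_simp, one_smul] at hQf

end Vec

variable {α β : Type} [Fintype α] [DecidableEq α] [Fintype β] [DecidableEq β]

local notation "V" => (α × β → F)
local notation "Mn" => Matrix (α × β) (α × β) F
local notation "Ma" => Matrix α α F
local notation "Mb" => Matrix β β F
local notation "Ea" => ((α → F) →ₗ[F] (α → F))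

variable {fA : (α → F) → (α → F) → F} {fB : (β → F) → (β → F) → F}
  {f : (α × β → F) → (α × β → F) → F} {G M : Subgroup (GL (α × β) F)}

/-- What is used to pass from one root element to all Siegel maps: the overgroup holds the Siegel maps of both
factors. -/
structure Ovr0 (fA : (α → F) → (α → F) → F) (fB : (β → F) → (β → F) → F)
    (f : (α × β → F) → (α × β → F) → F) (M : Subgroup (GL (α × β) F)) : Prop where
  two : (2 : F) ≠ 0
  hA : Sym fA
  hB : Sym fB
  hV : Sym f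
  ten : ∀ x x' y y', f (tmul x y) (tmul x' y') = fA x x' * fB y y'
  isoLe : M ≤ iso f
  ha : 3 ≤ Fintype.card α
  hb : 3 ≤ Fintype.card β
  kA : ∀ {h : GL α F}, h ∈ siegGrp fA → kg h (1 : GL β F) ∈ M
  exists_eichB : ∀ {z y : β → F}, fB z z = 0 → fB y z = 0 → ∃ e ∈ M, IsKron e ∧ IsEich fB e z y

theorem Ovr.weak (hO : Ovr fA fB f G M) : Ovr0 fA fB f M :=
  ⟨hO.two, hO.hA, hO.hB, hO.hV, hO.ten, hO.le.trans hO.gIso, hO.ha, hO.hb, hO.kA, hO.exists_eichB⟩

variable (hO : Ovr0 fA fB f M)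
include hO

theorem Ovr0.sl_tmul (u : β → F) (x : α → F) (y : β → F) : sl fB u (tmul x y) = fB y u • x := by
  rw [sl, slice_tmul, fn_dot hO.hB.sesq]

theorem Ovr0.sl_smul (c : F) (u : β → F) (t : V) : sl fB (c • u) t = c • sl fB u t := by
  rw [sl, sl, fn_smul hO.hB.sesq, RingEquiv.refl_apply, slice_smul]

theorem Ovr0.f_sl (t : V) (x : α → F) (u : β → F) : f t (tmul x u) = fA (sl fB u t) x := by
  have h : hO.hV.lin (tmul x u) = (hO.hA.lin x).comp (sl fB u) :=
    ext_pure fun a b => by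
      simp only [LinearMap.comp_apply, Sym.lin_apply, hO.ten, hO.sl_tmul, hO.hA.smul_left, mul_comm]
  have := LinearMap.congr_fun h t
  rwa [LinearMap.comp_apply, Sym.lin_apply, Sym.lin_apply] at this

theorem Ovr0.isoM {g : GL (α × β) F} (hg : g ∈ M) (s t : V) : f ((g : Mn) *ᵥ s) ((g : Mn) *ᵥ t) = f s t :=
  hO.isoLe hg s t

theorem Ovr0.eich_fix_tmul {e : GL (α × β) F} {z y w : β → F} (he : IsEich fB e z y) (h1 : fB w z = 0)
    (h1' : fB w y = 0) (x : α → F) : (e : Mn) *ᵥ tmul x w = tmul x w := by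
  rw [he, hO.sl_tmul, hO.sl_tmul, h1, h1']; simp [tmul_zero_left]

theorem Ovr0.kB {B : GL β F} (hB : B ∈ siegGrp fB) : kg (1 : GL α F) B ∈ M := by
  induction hB using Subgroup.closure_induction with
  | mem B hB =>
    obtain ⟨a, w, ha, hw, hs⟩ := hB
    obtain ⟨e, he, -, hex⟩ := hO.exists_eichB ha hw
    rw [show kg (1 : GL α F) B = e from ext_kron fun x y => by
      rw [kg_apply, Units.val_one, Matrix.one_mulVec, hs y, hex, hO.sl_tmul, hO.sl_tmul]
      simp only [tmul_add_right, tmul_sub_right, tmul_smul_right, tmul_smul_left, smul_smul]]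
    exact he
  | one =>
    rw [show kg (1 : GL α F) (1 : GL β F) = 1 from ext_kron fun x y => by rw [kg_apply]; simp]
    exact one_mem M
  | mul a b _ _ ha hb =>
    rw [show kg (1 : GL α F) (a * b) = kg 1 a * kg 1 b from ext_kron fun x y => by
      simp only [Units.val_mul, ← Matrix.mulVec_mulVec, kg_apply, Units.val_one, Matrix.one_mulVec]]
    exact mul_mem ha hb
  | inv a _ ha =>
    rw [show kg (1 : GL α F) a⁻¹ = (kg 1 a)⁻¹ from eq_inv_of_mul_eq_one_right (ext_kron fun x y => by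
      rw [Units.val_mul, ← Matrix.mulVec_mulVec, kg_apply, kg_apply]; simp [mulVec_inv_cancel])]
    exact inv_mem ha

/-- An element of `M` acting on one line by a root map. -/
def RootAt (fB : (β → F) → (β → F) → F) (M : Subgroup (GL (α × β) F)) (z : β → F)
    (D : (α → F) →ₗ[F] (α → F)) : Prop :=
  ∃ g ∈ M, ∀ t, (g : Mn) *ᵥ t = t + tmul (D (sl fB z t)) z

theorem Ovr0.root_move_by {z : β → F} {D : Ea} (hD : RootAt fB M z D) {B : GL β F} (hB : B ∈ siegGrp fB) :
    RootAt fB M ((B : Mb) *ᵥ z) D := by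
  obtain ⟨z', hBz⟩ : ∃ z', (B : Mb) *ᵥ z = z' := ⟨_, rfl⟩
  rw [hBz]
  obtain ⟨g, hg, hgx⟩ := hD
  have hk := hO.kB hB
  refine ⟨kg (1 : GL α F) B * g * (kg (1 : GL α F) B)⁻¹, mul_mem (mul_mem hk hg) (inv_mem hk), fun t => ?_⟩
  obtain ⟨s, rfl⟩ : ∃ s, (kg (1 : GL α F) B : Mn) *ᵥ s = t := ⟨_, mulVec_inv_cancel _ t⟩
  have hsl : sl fB z' ((kg (1 : GL α F) B : Mn) *ᵥ s) = sl fB z s := hO.hA.eq_of_forall fun x => by
    have hx : tmul x z' = (kg (1 : GL α F) B : Mn) *ᵥ tmul x z := by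
      rw [kg_apply, hBz, Units.val_one, Matrix.one_mulVec]
    rw [← hO.f_sl, hx, hO.isoM hk, hO.f_sl]
  rw [Units.val_mul, Units.val_mul, ← Matrix.mulVec_mulVec, ← Matrix.mulVec_mulVec, inv_mulVec_cancel, hgx,
    Matrix.mulVec_add, kg_apply, hBz, hsl, Units.val_one, Matrix.one_mulVec]

theorem Ovr0.root_move (h4 : 4 ≤ Fintype.card β) {z z' : β → F} {D : Ea} (hD : RootAt fB M z D) (hz : fB z z = 0)
    (hz0 : z ≠ 0) (hz' : fB z' z' = 0) (hz'0 : z' ≠ 0) : RootAt fB M z' D := by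
  obtain ⟨B, hB, hBz⟩ := hO.hB.exists_move hO.two h4 hz0 hz hz'0 hz'
  exact hBz ▸ hO.root_move_by hD hB

theorem Ovr0.root_cj {z : β → F} {D : Ea} (hD : RootAt fB M z D) {h : GL α F} (hh : h ∈ siegGrp fA) :
    RootAt fB M z (cj h D) := by
  obtain ⟨g, hg, hgx⟩ := hD
  have hk := hO.kA hh
  refine ⟨kg h (1 : GL β F) * g * (kg h (1 : GL β F))⁻¹, mul_mem (mul_mem hk hg) (inv_mem hk), fun t => ?_⟩
  obtain ⟨s, rfl⟩ : ∃ s, (kg h (1 : GL β F) : Mn) *ᵥ s = t := ⟨_, mulVec_inv_cancel _ t⟩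
  have hsl : sl fB z ((kg h (1 : GL β F) : Mn) *ᵥ s) = (h : Ma) *ᵥ sl fB z s := by
    have e : (sl fB z).comp (Matrix.toLin' (kg h (1 : GL β F) : Mn)) = (Matrix.toLin' (h : Ma)).comp (sl fB z) :=
      ext_pure fun x y => by
        simp only [LinearMap.comp_apply, Matrix.toLin'_apply, kg_apply, Units.val_one, Matrix.one_mulVec,
          hO.sl_tmul, Matrix.mulVec_smul]
    exact LinearMap.congr_fun e s
  rw [Units.val_mul, Units.val_mul, ← Matrix.mulVec_mulVec, ← Matrix.mulVec_mulVec, inv_mulVec_cancel, hgx,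
    Matrix.mulVec_add, kg_apply, hsl, cj_apply, inv_mulVec_cancel, Units.val_one, Matrix.one_mulVec]

theorem Ovr0.root_add {z : β → F} {D D' : Ea} (hD : RootAt fB M z D) (hD' : RootAt fB M z D')
    (hz : fB z z = 0) : RootAt fB M z (D + D') := by
  obtain ⟨g, hg, hgx⟩ := hD
  obtain ⟨g', hg', hgx'⟩ := hD'
  refine ⟨g * g', mul_mem hg hg', fun t => ?_⟩
  rw [Units.val_mul, ← Matrix.mulVec_mulVec, hgx', hgx, map_add, hO.sl_tmul, hz, zero_smul, add_zero,
    LinearMap.add_apply, tmul_add_left]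
  abel

theorem Ovr0.root_smul (h4 : 4 ≤ Fintype.card β) {z : β → F} {D : Ea} (hD : RootAt fB M z D) (hz : fB z z = 0) (hz0 : z ≠ 0) (c : F) :
    RootAt fB M z (c • D) := by
  have hzero : RootAt fB M z (0 : Ea) := ⟨1, one_mem M, fun t => by simp [tmul_zero_left]⟩
  have hsq : ∀ x : F, RootAt fB M z ((x * x) • D) := fun x => by
    rcases eq_or_ne x 0 with rfl | hx
    · rwa [mul_zero, zero_smul]
    obtain ⟨g, hg, hgx⟩ := hO.root_move h4 hD hz hz0 (z' := x • z)
      (by rw [hO.hB.smul_left, hO.hB.smul_right, hz, mul_zero, mul_zero]) (smul_ne_zero hx hz0)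
    refine ⟨g, hg, fun t => ?_⟩
    rw [hgx, hO.sl_smul, map_smul, tmul_smul_left, tmul_smul_right, LinearMap.smul_apply, tmul_smul_left, smul_smul]
  obtain ⟨x, y, hxy⟩ := exists_sq_sq hO.two (one_ne_zero (α := F)) one_ne_zero (-c)
  have : c = x * x + y * y := by linear_combination -hxy
  rw [this, add_smul]
  exact hO.root_add (hsq x) (hsq y) hz

theorem Ovr0.root_skew {z : β → F} {D : Ea} (hD : RootAt fB M z D) (hz : fB z z = 0) (hz0 : z ≠ 0) (x y : α → F) :
    fA (D x) y = -fA x (D y) := by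
  obtain ⟨u, huu, hu⟩ := hO.hB.exists_partner hO.two hz hz0
  obtain ⟨g, hg, hgx⟩ := hD
  have h1 := hO.isoM hg (tmul x u) (tmul y u)
  rw [hgx, hgx, hO.sl_tmul, hO.sl_tmul, hu, one_smul, one_smul, hO.hV.add_left, hO.hV.add_right, hO.hV.add_right,
    hO.ten, hO.ten, hO.ten, hO.ten, huu, hu, hz, hO.hB.symm z u, hu] at h1
  linear_combination h1

/-- From any root element: enough elementary root elements. -/
theorem Ovr0.exists_roots (h4 : 4 ≤ Fintype.card β) (hN : ¬ NoRoot fB M)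
    (hA4 : Fintype.card α = 4 → ∀ a c, ¬ TSP fA a c) :
    ∃ a d e : α → F, fA a a = 0 ∧ fA d d = 0 ∧ fA d a = 1 ∧ e ∈ hO.hA.perp2 d a ∧ fA e e ≠ 0 ∧
      ∀ b ∈ hO.hA.perp2 d a, ∀ z, fB z z = 0 → z ≠ 0 →
        RootAt fB M z (wd a b hO.hA) ∧ RootAt fB M z (wd d b hO.hA) := by
  classical
  have hA := hO.hA
  have h2 := hO.two
  rw [NoRoot] at hN
  push Not at hN
  obtain ⟨z, hz, hz0, D₀, hD₀, x₀, hx₀⟩ := hN
  obtain ⟨g₀, hg₀, hg₀x⟩ := hD₀
  have hR₀ : RootAt fB M z D₀ := ⟨g₀, hg₀, fun t => by rw [hg₀x, rootMap_apply]; rfl⟩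
  let S : Submodule F Ea :=
    { carrier := {D | RootAt fB M z D}
      add_mem' := fun h h' => hO.root_add h h' hz
      zero_mem' := ⟨1, one_mem M, fun t => by simp [tmul_zero_left]⟩
      smul_mem' := fun c D h => hO.root_smul h4 h hz hz0 c }
  obtain ⟨a, d, c, haa, hdd, hda, hc, hc0, hcS⟩ := exists_wd hA h2 hO.ha (T := S) hR₀
    (fun e => hx₀ (by rw [e]; rfl)) (fun D hD => hO.root_skew hD hz hz0) fun g hg D hD => hO.root_cj hD hg
  have had : fA a d = 1 := by rw [hA.symm, hda]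
  have hinv : ∀ g ∈ siegGrp fA, ∀ D ∈ S, cj g D ∈ S := fun g hg D hD => hO.root_cj hD hg
  -- conjugating by Siegel maps at `d`
  have hd1 : ∀ c b, c ∈ hA.perp2 d a → wd a c hA ∈ S → b ∈ hA.perp2 d a →
      wd a c hA + wd b c hA - (fA b b / 2) • wd d c hA - fA c b • wd a d hA - fA c b • wd b d hA ∈ S := by
    intro c b hc hcS hb
    have hbd : fA b d = 0 := hb.1
    have hba : fA b a = 0 := hb.2
    have hcd : fA c d = 0 := hc.1
    obtain ⟨g, hgi, hg⟩ := hA.exists_sieg h2 hdd hbd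
    have h1 := hinv g (Subgroup.subset_closure ⟨d, b, hdd, hbd, hg⟩) _ hcS
    rw [cj_wd hA hgi, hg, hg, had, hcd, hA.symm a b, hba] at h1
    convert h1 using 1
    refine LinearMap.ext fun x => ?_
    simp only [LinearMap.add_apply, LinearMap.sub_apply, LinearMap.smul_apply, wd_apply hA, hA.add_right,
      hA.sub_right, hA.smul_right, zero_smul, mul_zero, sub_zero, add_zero, one_smul, mul_one]
    module
  have hneg : ∀ b c : α → F, wd (-b) c hA = -wd b c hA := fun b c => LinearMap.ext fun x => by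
    rw [LinearMap.neg_apply, wd_apply hA, wd_apply hA, hA.neg_right]; module
  have hbc : ∀ c b, c ∈ hA.perp2 d a → wd a c hA ∈ S → b ∈ hA.perp2 d a → fA c b = 0 → wd b c hA ∈ S := by
    intro c b hc hcS hb hcb
    have p := hd1 c b hc hcS hb
    have q := hd1 c (-b) hc hcS (neg_mem hb)
    rw [hA.neg_right, hA.neg_right, hA.neg_left, neg_neg, hneg, hcb, neg_zero] at q
    rw [hcb] at p
    have := S.smul_mem (2 : F)⁻¹ (S.sub_mem p q)
    convert this using 1
    match_scalars <;> field_simp <;> ring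
  -- closed under orthogonal vectors
  have hclose : ∀ c b, c ∈ hA.perp2 d a → c ≠ 0 → wd a c hA ∈ S → b ∈ hA.perp2 d a → fA c b = 0 → wd a b hA ∈ S := by
    intro c b hc hc0 hcS hb hcb
    obtain ⟨y, hy, hcy⟩ := hA.ndOn_perp2 hdd haa hda c hc hc0
    obtain ⟨g, hgi, hg⟩ := hA.exists_sieg h2 haa (w := y) hy.2
    have h1 := hinv g (Subgroup.subset_closure ⟨a, y, haa, hy.2, hg⟩) _ (hbc c b hc hcS hb hcb)
    rw [cj_wd hA hgi, hg, hg, (show fA b a = 0 from hb.2), (show fA c a = 0 from hc.2)] at h1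
    have h3 := S.smul_mem (fA c y)⁻¹
      (S.add_mem (S.sub_mem h1 (hbc c b hc hcS hb hcb)) (S.smul_mem (fA b y) hcS))
    convert h3 using 1
    refine LinearMap.ext fun x => ?_
    simp only [LinearMap.add_apply, LinearMap.sub_apply, LinearMap.smul_apply, wd_apply hA, hA.sub_right,
      hA.smul_right, zero_smul, mul_zero, sub_zero, add_zero]
    match_scalars <;> field_simp <;> ring
  obtain ⟨e, he, hee, heS⟩ : ∃ e ∈ hA.perp2 d a, fA e e ≠ 0 ∧ wd a e hA ∈ S := by
    by_cases hcc : fA c c = 0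
    swap
    · exact ⟨c, hc, hcc, hcS⟩
    obtain ⟨y, hy, hcy⟩ := hA.ndOn_perp2 hdd haa hda c hc hc0
    obtain ⟨y₁, hy₁, hcy₁⟩ : ∃ y₁ ∈ hA.perp2 d a, fA c y₁ = 1 :=
      ⟨(fA c y)⁻¹ • y, Submodule.smul_mem _ _ hy, by rw [hA.smul_right, inv_mul_cancel₀ hcy]⟩
    obtain ⟨b, hb, hcb, hby, hb0⟩ : ∃ b ∈ hA.perp2 d a, fA c b = 0 ∧ fA b y₁ = 0 ∧ b ≠ 0 := by
      have h1 := hA.finrank_perp2 d a
      have h3 := finrank_le_inf_ker_add_one (hA.perp2 d a) (hA.lin c)
      have h4 := finrank_le_inf_ker_add_one (hA.perp2 d a ⊓ LinearMap.ker (hA.lin c)) (hA.lin y₁)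
      by_cases h5 : 5 ≤ Fintype.card α
      · obtain ⟨b, hb, hb0⟩ := Submodule.exists_mem_ne_zero_of_ne_bot
          (p := hA.perp2 d a ⊓ LinearMap.ker (hA.lin c) ⊓ LinearMap.ker (hA.lin y₁)) fun h => by
            rw [h, finrank_bot] at h4; omega
        exact ⟨b, hb.1.1, by rw [hA.symm]; exact hb.1.2, hb.2, hb0⟩
      exfalso
      have hind : ∀ s t : F, s • a + t • c = 0 → s = 0 ∧ t = 0 := fun s t h => by
        have h1 := congrArg (fun v => fA v d) h
        simp only [hA.add_left, hA.smul_left, hA.zero_left, had, (show fA c d = 0 from hc.1)] at h1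
        obtain rfl : s = 0 := by linear_combination h1
        rw [zero_smul, zero_add] at h
        exact ⟨rfl, (smul_eq_zero.1 h).resolve_right hc0⟩
      by_cases h4' : Fintype.card α = 4
      · exact hA4 h4' a c ⟨haa, hcc, by rw [hA.symm]; exact hc.2, hind⟩
      · -- dimension three: the middle space is a line
        have hcard : Fintype.card α = 3 := by have := hO.ha; omega
        have hli : LinearIndependent F ![a, d, c, y₁] := by
          refine Fintype.linearIndependent_iff.2 fun g hg i => ?_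
          rw [Fin.sum_univ_four] at hg
          have k1 := congrArg (fun v => fA v d) hg
          have k2 := congrArg (fun v => fA v a) hg
          have k3 := congrArg (fun v => fA v c) hg
          have k4 := congrArg (fun v => fA v y₁) hg
          simp only [Matrix.cons_val_zero, Matrix.cons_val_one, Matrix.cons_val, hA.add_left, hA.smul_left,
            hA.zero_left, had, hda, haa, hdd, hcc, hcy₁, hA.symm y₁ c, (show fA c d = 0 from hc.1),
            (show fA c a = 0 from hc.2), (show fA y₁ d = 0 from hy₁.1), (show fA y₁ a = 0 from hy₁.2),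
            hA.symm a c, hA.symm d c, hA.symm a y₁, hA.symm d y₁] at k1 k2 k3 k4
          have e0 : g 0 = 0 := by linear_combination k1
          have e1 : g 1 = 0 := by linear_combination k2
          have e3 : g 3 = 0 := by linear_combination k3
          have e2 : g 2 = 0 := by linear_combination k4 - fA y₁ y₁ * e3
          fin_cases i <;> assumption
        have := hli.fintype_card_le_finrank
        rw [Fintype.card_fin, Module.finrank_fintype_fun_eq_card] at this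
        omega
    by_cases hbb : fA b b = 0
    swap
    · exact ⟨b, hb, hbb, hclose c b hc hc0 hcS hb hcb⟩
    obtain ⟨y', hy', hby'⟩ := hA.ndOn_perp2 hdd haa hda b hb hb0
    obtain ⟨y₂, hy₂⟩ : ∃ y₂, y₂ = y' - fA c y' • y₁ := ⟨_, rfl⟩
    have hy₂W : y₂ ∈ hA.perp2 d a := hy₂ ▸ sub_mem hy' (Submodule.smul_mem _ _ hy₁)
    have hcy₂ : fA c y₂ = 0 := by rw [hy₂, hA.sub_right, hA.smul_right, hcy₁, mul_one, sub_self]
    have hby₂ : fA b y₂ ≠ 0 := by rw [hy₂, hA.sub_right, hA.smul_right, hby, mul_zero, sub_zero]; exact hby'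
    by_cases hy22 : fA y₂ y₂ = 0
    · refine ⟨b + y₂, add_mem hb hy₂W, ?_, hclose c _ hc hc0 hcS (add_mem hb hy₂W) (by
        rw [hA.add_right, hcb, hcy₂, add_zero])⟩
      rw [hA.add_left, hA.add_right, hA.add_right, hbb, hy22, hA.symm y₂ b, zero_add, add_zero, ← two_mul]
      exact mul_ne_zero h2 hby₂
    · exact ⟨y₂, hy₂W, hy22, hclose c _ hc hc0 hcS hy₂W hcy₂⟩
  have hall : ∀ b ∈ hA.perp2 d a, wd a b hA ∈ S := fun b hb => by
    have he0 : e ≠ 0 := fun h => hee (by rw [h, hA.zero_left])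
    obtain ⟨b', hb'⟩ : ∃ b', b' = b - (fA e b / fA e e) • e := ⟨_, rfl⟩
    have h1 := S.add_mem (hclose e b' he he0 heS (hb' ▸ sub_mem hb (Submodule.smul_mem _ _ he)) (by
      rw [hb', hA.sub_right, hA.smul_right, div_mul_cancel₀ _ hee, sub_self])) (S.smul_mem (fA e b / fA e e) heS)
    convert h1 using 1
    rw [hb']
    refine LinearMap.ext fun x => ?_
    simp only [LinearMap.add_apply, LinearMap.smul_apply, wd_apply hA, hA.sub_right, hA.smul_right]
    module
  have haniso : ∀ c ∈ hA.perp2 d a, fA c c ≠ 0 → wd d c hA ∈ S := fun c hc hcc => by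
    have p := hd1 c c hc (hall c hc) hc
    have q := hd1 c (-c) hc (hall c hc) (neg_mem hc)
    rw [hA.neg_right, hA.neg_right, hA.neg_left, neg_neg, hneg, hneg] at q
    have h3 := S.smul_mem (fA c c)⁻¹ (S.sub_mem (S.add_mem p q) (S.smul_mem (2 : F) (hall c hc)))
    convert h3 using 1
    refine LinearMap.ext fun x => ?_
    simp only [LinearMap.add_apply, LinearMap.sub_apply, LinearMap.smul_apply, LinearMap.neg_apply, wd_apply hA]
    match_scalars <;> field_simp <;> ring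
  have hall' : ∀ b ∈ hA.perp2 d a, wd d b hA ∈ S := fun b hb => by
    by_cases hbb : fA b b = 0
    swap
    · exact haniso b hb hbb
    -- a singular vector is a combination of anisotropic ones
    obtain ⟨t, ht, ht'⟩ : ∃ t : F, t ≠ 0 ∧ fA (b + t • e) (b + t • e) ≠ 0 := by
      by_contra hc
      push Not at hc
      have k1 := hc 1 one_ne_zero
      have k2 := hc (-1) (neg_ne_zero.2 one_ne_zero)
      simp only [hA.add_left, hA.add_right, hA.smul_left, hA.smul_right, hbb, hA.symm e b] at k1 k2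
      exact hee ((mul_eq_zero.1 (show (2 : F) * fA e e = 0 by linear_combination k1 + k2)).resolve_left h2)
    have h1 := S.sub_mem (haniso _ (add_mem hb (Submodule.smul_mem _ _ he)) ht') (S.smul_mem t (haniso e he hee))
    convert h1 using 1
    refine LinearMap.ext fun x => ?_
    simp only [LinearMap.sub_apply, LinearMap.smul_apply, wd_apply hA, hA.add_right, hA.smul_right]
    module
  exact ⟨a, d, e, haa, hdd, hda, he, hee, fun b hb z' hz' hz'0 =>
    ⟨hO.root_move h4 (hall b hb) hz hz0 hz' hz'0, hO.root_move h4 (hall' b hb) hz hz0 hz' hz'0⟩⟩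

/-- From any root element: enough elementary root elements, for two three-dimensional factors. -/
theorem Ovr0.exists_roots_three (hb3 : Fintype.card β = 3) (ha3 : Fintype.card α = 3) (hN : ¬ NoRoot fB M) :
    ∃ a d e : α → F, fA a a = 0 ∧ fA d d = 0 ∧ fA d a = 1 ∧ e ∈ hO.hA.perp2 d a ∧ fA e e ≠ 0 ∧
      ∀ b ∈ hO.hA.perp2 d a, ∀ z, fB z z = 0 → z ≠ 0 →
        RootAt fB M z (wd a b hO.hA) ∧ RootAt fB M z (wd d b hO.hA) := by
  classical
  have hA := hO.hA
  have h2 := hO.two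
  rw [NoRoot] at hN
  push Not at hN
  obtain ⟨z, hz, hz0, D₀, hD₀, x₀, hx₀⟩ := hN
  obtain ⟨g₀, hg₀, hg₀x⟩ := hD₀
  have hR₀ : RootAt fB M z D₀ := ⟨g₀, hg₀, fun t => by rw [hg₀x, rootMap_apply]; rfl⟩
  let S : AddSubgroup Ea :=
    { carrier := {D | RootAt fB M z D}
      add_mem' := fun h h' => hO.root_add h h' hz
      zero_mem' := ⟨1, one_mem M, fun t => by simp [tmul_zero_left]⟩
      neg_mem' := fun {D} ⟨g, hg, hgx⟩ => ⟨g⁻¹, inv_mem hg, fun t => gl_mulVec_injective g (by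
        show (g : Mn) *ᵥ _ = (g : Mn) *ᵥ _
        rw [mulVec_inv_cancel, hgx, map_add, hO.sl_tmul, hz, zero_smul, add_zero, LinearMap.neg_apply, neg_tmul]
        abel)⟩ }
  obtain ⟨a, d, haa, hdd, hda⟩ := hA.exists_hyp h2 hO.ha
  have had : fA a d = 1 := by rw [hA.symm, hda]
  have hinv : ∀ g ∈ siegGrp fA, ∀ D ∈ S, cj g D ∈ S := fun g hg D hD => hO.root_cj hD hg
  haveI : Fintype {w : α → F // fA w a = 0} := Fintype.ofFinite _
  choose k hki hk using fun i : {w : α → F // fA w a = 0} => hA.exists_sieg h2 haa i.2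
  have hmem : ∀ i, k i ∈ siegGrp fA := fun i => Subgroup.subset_closure ⟨a, i.1, haa, i.2, hk i⟩
  obtain ⟨D, hDS, hD0, hDf⟩ := exists_killed_add (T := S) hR₀ (fun e => hx₀ (by rw [e]; rfl))
    (fun i => cj (k i) - 1) (fun i j => cj_sieg_commute hA h2 (hk i) (hk j) haa i.2 j.2)
    (fun i R hR => by
      rw [LinearMap.sub_apply, Module.End.one_apply]
      exact sub_mem (hinv _ (hmem i) R hR) hR)
    (fun i => isNilpotent_cj_sub_one (hA.sieg_cube h2 (hk i) haa i.2) (sieg_inv_cube hA h2 (hk i) haa i.2))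
  obtain ⟨c, hc, hDeq⟩ := wd_of_fixed hA h2 hO.ha haa hdd hda (fun x y => hO.root_skew hDS hz hz0 x y)
    fun b g hb hg => by
      rw [hA.sieg_unique hg (hk ⟨b, hb⟩)]
      have := hDf ⟨b, hb⟩
      rwa [LinearMap.sub_apply, Module.End.one_apply, sub_eq_zero] at this
  obtain ⟨e, he, hee⟩ := hA.exists_aniso h2 (hA.ndOn_perp2 hdd haa hda)
    (Submodule.exists_mem_ne_zero_of_ne_bot fun h => by
      have := hA.finrank_perp2 d a
      rw [h, finrank_bot] at *; omega)
  have hce : c = ((fA e e)⁻¹ * fA c e) • e := by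
    have := hA.three_basis ha3 haa hdd hda he.1 he.2 hee c
    rwa [(show fA c d = 0 from hc.1), (show fA c a = 0 from hc.2), zero_smul, zero_smul, zero_add, zero_add] at this
  have hc0 : c ≠ 0 := fun h0 => hD0 (by
    rw [hDeq, h0]
    ext x
    simp [wd_apply, hA.zero_right])
  have hcc : fA c c ≠ 0 := by
    rw [hce, hA.smul_left, hA.smul_right]
    refine mul_ne_zero ?_ (mul_ne_zero ?_ hee) <;>
      exact fun e0 => hc0 (by rw [hce, e0, zero_smul])
  -- conjugation by the Siegel maps at the partner: all multiples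
  have step : ∀ p q : α → F, fA p p = 0 → fA q q = 0 → fA p q = 1 → fA c q = 0 →
      fA c p = 0 → wd p c hA ∈ S → ∀ r : F, r • wd q c hA ∈ S := by
    intro p q hpp hqq hpq hcq hcp hW r
    have hqp : fA q p = 1 := by rw [hA.symm, hpq]
    have hφ : ∀ t : F, wd p c hA - (t * fA c c) • wd p q hA + (t * t * fA c c / 2) • wd q c hA ∈ S := by
      intro t
      obtain ⟨g, hgi, hg⟩ := hA.exists_sieg h2 hqq (w := t • c) (by rw [hA.smul_left, hcq, mul_zero])
      have h1 := hinv g (Subgroup.subset_closure ⟨q, t • c, hqq, by rw [hA.smul_left, hcq, mul_zero], hg⟩) _ hW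
      rw [cj_wd hA hgi, hg, hg] at h1
      convert h1 using 1
      refine LinearMap.ext fun x => ?_
      simp only [LinearMap.add_apply, LinearMap.sub_apply, LinearMap.smul_apply, wd_apply hA, hA.add_right,
        hA.sub_right, hA.smul_right, hA.smul_left, hpq, hcq, hA.symm p c, hcp, mul_zero, zero_smul, sub_zero,
        add_zero, one_smul, mul_one, smul_smul]
      match_scalars <;> field_simp <;> ring
    have h1 := sub_mem (sub_mem (hφ (1 + r / fA c c)) (hφ 1)) (sub_mem (hφ (r / fA c c)) (hφ 0))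
    convert h1 using 1
    refine LinearMap.ext fun x => ?_
    simp only [LinearMap.add_apply, LinearMap.sub_apply, LinearMap.smul_apply]
    match_scalars <;> field_simp <;> ring
  have hdc : ∀ r : F, r • wd d c hA ∈ S := step a d haa hdd had hc.1 hc.2 (hDeq ▸ hDS)
  have hac : ∀ r : F, r • wd a c hA ∈ S := step d a hdd haa hda hc.2 hc.1 (by simpa using hdc 1)
  refine ⟨a, d, c, haa, hdd, hda, hc, hcc, fun b hb z' hz' hz'0 => ?_⟩
  obtain ⟨B, hB, l, hl, hBz⟩ := hO.hB.exists_move_line h2 hb3 hz0 hz hz'0 hz'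
  obtain ⟨s, hbs⟩ : ∃ s : F, b = s • c := ⟨(fA c c)⁻¹ * fA b c, by
    have := hA.three_basis ha3 haa hdd hda hc.1 hc.2 hcc b
    rwa [(show fA b d = 0 from hb.1), (show fA b a = 0 from hb.2), zero_smul, zero_smul, zero_add, zero_add] at this⟩
  have key : ∀ p : α → F, (∀ r : F, r • wd p c hA ∈ S) → RootAt fB M z' (wd p b hA) := fun p hp => by
    obtain ⟨g, hg, hgx⟩ := hO.root_move_by (hp (s / (l * l))) hB
    refine ⟨g, hg, fun t => ?_⟩
    rw [hgx, hBz, hO.sl_smul, map_smul, LinearMap.smul_apply, tmul_smul_left, tmul_smul_left, tmul_smul_right,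
      smul_smul, smul_smul, show wd p b hA (sl fB z' t) = s • wd p c hA (sl fB z' t) from by
        simp only [hbs, wd_apply hA, hA.smul_right]; module, tmul_smul_left]
    congr 2
    field_simp
  exact ⟨key a hac, key d hdc⟩

/-- The vectors which give Siegel maps of `M` at `v`. -/
def SR (f : (α × β → F) → (α × β → F) → F) (M : Subgroup (GL (α × β) F)) (v t : α × β → F) : Prop :=
  f t v = 0 ∧ ∀ l : F, ∃ g ∈ M, IsSieg f g v (l • t)

omit hO in
theorem SR.move {v : V} {g : GL (α × β) F} (hg : g ∈ M) (hgi : M ≤ iso f) (hgv : (g : Mn) *ᵥ v = v) {t : V}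
    (ht : SR f M v t) : SR f M v ((g : Mn) *ᵥ t) := by
  refine ⟨?_, fun l => ?_⟩
  · conv_lhs => arg 2; rw [← hgv]
    rw [hgi hg, ht.1]
  obtain ⟨k, hk, hkx⟩ := ht.2 l
  refine ⟨g * k * g⁻¹, mul_mem (mul_mem hg hk) (inv_mem hg), fun x => ?_⟩
  obtain ⟨x', rfl⟩ : ∃ x', (g : Mn) *ᵥ x' = x := ⟨_, mulVec_inv_cancel g x⟩
  have e1 : f ((g : Mn) *ᵥ x') v = f x' v := by conv_lhs => rw [← hgv, hgi hg]
  rw [Units.val_mul, Units.val_mul, ← Matrix.mulVec_mulVec, ← Matrix.mulVec_mulVec, inv_mulVec_cancel, hkx,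
    ← Matrix.mulVec_smul, e1, hgi hg, hgi hg, Matrix.mulVec_sub, Matrix.mulVec_sub, Matrix.mulVec_add,
    Matrix.mulVec_smul, Matrix.mulVec_smul, Matrix.mulVec_smul, Matrix.mulVec_smul, hgv]

/-- First part of the space of Siegel vectors at a doubly singular tensor. -/
theorem Ovr0.base_line {a d e : α → F} (haa : fA a a = 0) (hdd : fA d d = 0) (hda : fA d a = 1)
    (he : e ∈ hO.hA.perp2 d a) (hee : fA e e ≠ 0)
    (hR : ∀ b ∈ hO.hA.perp2 d a, ∀ z, fB z z = 0 → z ≠ 0 →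
      RootAt fB M z (wd a b hO.hA) ∧ RootAt fB M z (wd d b hO.hA))
    {z : β → F} (hz : fB z z = 0) (hz0 : z ≠ 0) :
    ∃ R : Submodule F V, (∀ t, t ∈ R ↔ SR f M (tmul a z) t) ∧
      (∀ c ∈ hO.hA.perp2 d a, tmul c z ∈ R) ∧ ∀ y, tmul a y ∈ R := by
  classical
  have hA := hO.hA
  have hs := hO.hB
  have hV := hO.hV
  have h2 := hO.two
  have had : fA a d = 1 := by rw [hA.symm, hda]
  have hea : fA e a = 0 := he.2
  have hed : fA e d = 0 := he.1
  obtain ⟨v, hv⟩ : ∃ v, v = tmul a z := ⟨_, rfl⟩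
  rw [← hv]
  have hvv : f v v = 0 := by rw [hv, hO.ten, haa, zero_mul]
  have hEmul : ∀ s t : V, f s v = 0 → f t v = 0 → (∃ g ∈ M, IsSieg f g v s) → (∃ g ∈ M, IsSieg f g v t) →
      ∃ g ∈ M, IsSieg f g v (s + t) := by
    rintro s t hs' ht' ⟨g, hg, hgx⟩ ⟨g', hg', hgx'⟩
    obtain ⟨k, -, hk⟩ := hV.exists_sieg h2 hvv (w := s + t) (by rw [hV.add_left, hs', ht', add_zero])
    exact ⟨k, hV.sieg_mul h2 hgx hgx' hk hvv hs' ht' ▸ mul_mem hg hg', hk⟩
  let R : Submodule F V :=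
    { carrier := {t | f t v = 0 ∧ ∀ l : F, ∃ g ∈ M, IsSieg f g v (l • t)}
      add_mem' := fun {s t} hs' ht' => ⟨by rw [hV.add_left, hs'.1, ht'.1, add_zero], fun l => by
        rw [smul_add]
        exact hEmul _ _ (by rw [hV.smul_left, hs'.1, mul_zero]) (by rw [hV.smul_left, ht'.1, mul_zero])
          (hs'.2 l) (ht'.2 l)⟩
      zero_mem' := ⟨hV.zero_left _, fun l => ⟨1, one_mem M, fun x => by simp [hV.zero_right, hV.zero_left]⟩⟩
      smul_mem' := fun c t ht => ⟨by rw [hV.smul_left, ht.1, mul_zero], fun l => by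
        rw [smul_smul]; exact ht.2 _⟩ }
  have habs : ∀ (g : GL (α × β) F), g ∈ M → (g : Mn) *ᵥ v = v → ∀ t ∈ R, (g : Mn) *ᵥ t ∈ R := by
    intro g hg hgv t ht
    refine ⟨?_, fun l => ?_⟩
    · conv_lhs => arg 2; rw [← hgv]
      rw [hO.isoM hg, ht.1]
    obtain ⟨k, hk, hkx⟩ := ht.2 l
    refine ⟨g * k * g⁻¹, mul_mem (mul_mem hg hk) (inv_mem hg), fun x => ?_⟩
    obtain ⟨x', rfl⟩ : ∃ x', (g : Mn) *ᵥ x' = x := ⟨_, mulVec_inv_cancel g x⟩
    have e1 : f ((g : Mn) *ᵥ x') v = f x' v := by conv_lhs => rw [← hgv, hO.isoM hg]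
    rw [Units.val_mul, Units.val_mul, ← Matrix.mulVec_mulVec, ← Matrix.mulVec_mulVec, inv_mulVec_cancel, hkx,
      ← Matrix.mulVec_smul, e1, hO.isoM hg, hO.isoM hg, Matrix.mulVec_sub, Matrix.mulVec_sub, Matrix.mulVec_add,
      Matrix.mulVec_smul, Matrix.mulVec_smul, Matrix.mulVec_smul, Matrix.mulVec_smul, hgv]
  -- what a root element adds
  have hroot : ∀ (y : β → F) (D : Ea), RootAt fB M y D → D (sl fB y v) = 0 →
      ∀ t ∈ R, tmul (D (sl fB y t)) y ∈ R := by
    rintro y D ⟨g, hg, hgx⟩ hDv t ht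
    have h1 := habs g hg (by rw [hgx, hDv, tmul_zero_left, add_zero]) t ht
    rw [hgx] at h1
    simpa using R.sub_mem h1 ht
  have hvR : v ∈ R := ⟨hvv, fun l => ⟨1, one_mem M, fun x => by
    rw [Units.val_one, Matrix.one_mulVec, hV.smul_right, hV.smul_left, hV.smul_right, hvv]
    simp only [mul_zero, zero_div, zero_mul, zero_smul, sub_zero]
    module⟩⟩
  have hcz : ∀ c ∈ hA.perp2 d a, tmul c z ∈ R := fun c hc => by
    refine ⟨by rw [hv, hO.ten, hz, mul_zero], fun l => ?_⟩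
    obtain ⟨g, hg, hgx⟩ := (hR (l • c) (Submodule.smul_mem _ _ hc) z hz hz0).1
    refine ⟨g, hg, fun x => ?_⟩
    rw [hgx, wd_apply hA, hV.smul_left, hV.smul_right, hV.smul_right, hO.ten, hz, hv, hO.f_sl, hO.f_sl, hA.smul_right]
    simp only [mul_zero, zero_div, zero_mul, zero_smul, sub_zero, tmul_sub_left, tmul_smul_left, smul_smul]
    module
  obtain ⟨u₀, hu₀u, hu₀⟩ := hs.exists_partner h2 hz hz0
  -- the vector `a`
  have hau : ∀ u, fB u u = 0 → fB u z = 1 → tmul a u ∈ R := fun u huu hu => by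
    have hzu : fB z u = 1 := by rw [hs.symm, hu]
    have hu0 : u ≠ 0 := fun h => one_ne_zero (by rw [← hu, h, hs.zero_left])
    have h1 := hroot u _ (hR e he u huu hu0).1 (by
      rw [hv, hO.sl_tmul, hzu, one_smul, wd_apply hA, haa, hA.symm a e, hea, zero_smul, zero_smul, sub_zero])
      _ (hcz e he)
    rw [hO.sl_tmul, hzu, one_smul, wd_apply hA, hea, zero_smul, zero_sub, neg_tmul, tmul_smul_left] at h1
    exact (Submodule.smul_mem_iff _ hee).1 (neg_mem_iff.1 h1)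
  have ha : ∀ y, tmul a y ∈ R := fun y => by
    have hz' : tmul a z ∈ R := hv ▸ hvR
    have hperp : ∀ w, fB w z = 0 → fB w u₀ = 0 → tmul a w ∈ R := fun w hw hw' => by
      have k : ∀ s : F, s * s = 1 → tmul a (u₀ + s • w + (-(fB w w / 2)) • z) ∈ R := fun s hs' => by
        refine hau _ ?_ (by rw [hs.add_left, hs.add_left, hs.smul_left, hs.smul_left, hu₀, hw, hz]; ring)
        simp only [hs.add_left, hs.add_right, hs.smul_left, hs.smul_right, hu₀u, hu₀, hw, hw', hz, hs.symm z u₀,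
          hs.symm u₀ w, hs.symm z w]
        field_simp
        linear_combination (4 * fB w w) * hs'
      have := R.smul_mem (2 : F)⁻¹ (R.sub_mem (k 1 (one_mul 1)) (k (-1) (by norm_num)))
      convert this using 1
      simp only [tmul_add_right, tmul_smul_right]
      match_scalars <;> field_simp <;> ring
    have hzu : fB z u₀ = 1 := by rw [hs.symm, hu₀]
    obtain ⟨w, hw⟩ : ∃ w, w = y - fB y z • u₀ - fB y u₀ • z := ⟨_, rfl⟩
    have hm := R.add_mem (R.add_mem (hperp w (by rw [hw]; simp only [hs.sub_left, hs.smul_left, hu₀, hz]; ring)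
      (by rw [hw]; simp only [hs.sub_left, hs.smul_left, hu₀u, hzu]; ring))
      (R.smul_mem (fB y z) (hau u₀ hu₀u hu₀))) (R.smul_mem (fB y u₀) hz')
    convert hm using 1
    rw [hw, tmul_sub_right, tmul_sub_right, tmul_smul_right, tmul_smul_right]
    abel
  exact ⟨R, fun t => Iff.rfl, hcz, ha⟩

/-- The middle part of the partner line. -/
theorem Ovr0.mid_line {a d e : α → F} (haa : fA a a = 0) (hdd : fA d d = 0) (hda : fA d a = 1)
    (he : e ∈ hO.hA.perp2 d a) (hee : fA e e ≠ 0)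
    (hR : ∀ b ∈ hO.hA.perp2 d a, ∀ z, fB z z = 0 → z ≠ 0 →
      RootAt fB M z (wd a b hO.hA) ∧ RootAt fB M z (wd d b hO.hA))
    {z : β → F} (hz : fB z z = 0) (hz0 : z ≠ 0) {u w : β → F}
    (huu : fB u u = 0) (hu : fB u z = 1) (hwz : fB w z = 0) (hwu : fB w u = 0) :
    SR f M (tmul a z) (tmul d w) := by
  have hA := hO.hA
  have hV := hO.hV
  have hs := hO.hB
  have had : fA a d = 1 := by rw [hA.symm, hda]
  obtain ⟨R, hRm, -, ha⟩ := hO.base_line haa hdd hda he hee hR hz hz0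
  obtain ⟨R', hR'm, -, hd⟩ := hO.base_line (a := d) (d := a) hdd haa had (e := e)
    (hA.mem_perp2.2 ⟨he.2, he.1⟩) hee (fun b hb z' hz' hz'0 =>
      (hR b (hA.mem_perp2.2 ⟨hb.2, hb.1⟩) z' hz' hz'0).symm) hz hz0
  obtain ⟨g, hg, hgx⟩ := ((hR'm _).1 (hd w)).2 1
  rw [one_smul] at hgx
  have hgv : (g : Mn) *ᵥ tmul a z = tmul a z := by
    rw [hgx, hO.ten a, hO.ten a, hz, hs.symm z w, hwz]
    simp
  have h1 := SR.move hg (hO.isoLe) hgv ((hRm _).1 (ha u))
  rw [hgx, hO.ten a, hO.ten a, hO.ten d, had, hdd, hu, hs.symm u w, hwu] at h1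
  simp only [mul_one, mul_zero, zero_mul, zero_div, one_smul, zero_smul, sub_zero] at h1
  exact (hRm _).1 (by simpa using R.sub_mem ((hRm _).2 h1) (ha u))

/-- All Siegel maps at a doubly singular tensor. -/
theorem Ovr0.fullAt_pure {a d e : α → F} (haa : fA a a = 0) (hdd : fA d d = 0) (hda : fA d a = 1)
    (he : e ∈ hO.hA.perp2 d a) (hee : fA e e ≠ 0)
    (hR : ∀ b ∈ hO.hA.perp2 d a, ∀ z, fB z z = 0 → z ≠ 0 →
      RootAt fB M z (wd a b hO.hA) ∧ RootAt fB M z (wd d b hO.hA))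
    {z : β → F} (hz : fB z z = 0) (hz0 : z ≠ 0) : FullAt f M (tmul a z) := by
  classical
  have hA := hO.hA
  have hs := hO.hB
  have hV := hO.hV
  have h2 := hO.two
  have hMi : M ≤ iso f := hO.isoLe
  have had : fA a d = 1 := by rw [hA.symm, hda]
  have hea : fA e a = 0 := he.2
  have he' : e ∈ hA.perp2 a d := hA.mem_perp2.2 ⟨he.2, he.1⟩
  have hR' : ∀ b ∈ hA.perp2 a d, ∀ z', fB z' z' = 0 → z' ≠ 0 →
      RootAt fB M z' (wd d b hA) ∧ RootAt fB M z' (wd a b hA) := fun b hb z' hz' hz'0 =>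
    (hR b (hA.mem_perp2.2 ⟨hb.2, hb.1⟩) z' hz' hz'0).symm
  obtain ⟨R, hRm, hcz, ha⟩ := hO.base_line haa hdd hda he hee hR hz hz0
  obtain ⟨R', hR'm, -, hd'⟩ := hO.base_line (a := d) (d := a) hdd haa had he' hee hR' hz hz0
  obtain ⟨v, hv⟩ : ∃ v, v = tmul a z := ⟨_, rfl⟩
  rw [← hv] at hRm ⊢
  have hvv : f v v = 0 := by rw [hv, hO.ten, haa, zero_mul]
  have habs : ∀ (g : GL (α × β) F), g ∈ M → (g : Mn) *ᵥ v = v → ∀ t ∈ R, (g : Mn) *ᵥ t ∈ R :=
    fun g hg hgv t ht => (hRm _).2 (SR.move hg hMi hgv ((hRm _).1 ht))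
  obtain ⟨u₀, hu₀u, hu₀⟩ := hs.exists_partner h2 hz hz0
  have hzu : fB z u₀ = 1 := by rw [hs.symm, hu₀]
  have hu0 : u₀ ≠ 0 := fun h => one_ne_zero (by rw [← hu₀, h, hs.zero_left])
  -- the partner line
  have hdw : ∀ w, fB w z = 0 → fB w u₀ = 0 → tmul d w ∈ R := fun w h1 h1' =>
    (hRm _).2 (hv ▸ hO.mid_line haa hdd hda he hee hR hz hz0 hu₀u hu₀ h1 h1')
  have hdz : tmul d z ∈ R := by
    obtain ⟨w, hw, hww⟩ := hs.exists_aniso h2 (hs.ndOn_perp2 hu₀u hz hu₀)
      (Submodule.exists_mem_ne_zero_of_ne_bot fun h => by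
        have := hs.finrank_perp2 u₀ z
        have := hO.hb
        rw [h, finrank_bot] at *; omega)
    have hwu : fB w u₀ = 0 := hw.1
    have hwz : fB w z = 0 := hw.2
    have haw : tmul a w ∈ R' := (hR'm _).2 (hO.mid_line hdd haa had he' hee hR' hz hz0 hu₀u hu₀ hwz hwu)
    obtain ⟨g, hg, hgx⟩ := ((hR'm _).1 (R'.add_mem (hd' w) haw)).2 1
    rw [one_smul] at hgx
    have hgv : (g : Mn) *ᵥ v = v := by
      rw [hgx, hv, hV.add_right, hO.ten a, hO.ten a, hO.ten a, hz, hs.symm z w, hwz, haa]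
      simp
    have h1 := habs g hg hgv _ (ha u₀)
    rw [hgx] at h1
    simp only [hV.add_left, hV.add_right, hO.ten, hdd, haa, had, hda, hu₀, hs.symm u₀ w, hwu, mul_one, mul_zero,
      one_mul, zero_mul, add_zero, zero_add, zero_smul, sub_zero, one_smul] at h1
    have h3 := R.sub_mem (R.add_mem (ha u₀) (R.add_mem (hdw w hwz hwu) (ha w))) h1
    rw [sub_sub_cancel] at h3
    refine (Submodule.smul_mem_iff _ ?_).1 h3
    exact div_ne_zero (by rw [← two_mul]; exact mul_ne_zero h2 hww) h2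
  have hd : ∀ y, fB y z = 0 → tmul d y ∈ R := fun y hy => by
    have h1 := R.add_mem (hdw (y - fB y u₀ • z) (by rw [hs.sub_left, hs.smul_left, hy, hz, mul_zero, sub_zero])
      (by rw [hs.sub_left, hs.smul_left, hzu, mul_one, sub_self])) (R.smul_mem (fB y u₀) hdz)
    rwa [← tmul_smul_right, ← tmul_add_right, sub_add_cancel] at h1
  -- the middle vectors
  have hb : ∀ b ∈ hA.perp2 d a, ∀ y, tmul b y ∈ R := fun b hb y => by
    obtain ⟨g, hg, hgx⟩ := (hR b hb u₀ hu₀u hu0).1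
    have h0 := habs g hg (by
      rw [hgx, hv, hO.sl_tmul, hzu, one_smul, wd_apply hA, haa, hA.symm a b, (show fA b a = 0 from hb.2),
        zero_smul, zero_smul, sub_zero, tmul_zero_left, add_zero]) _ hdz
    rw [hgx, hO.sl_tmul, hzu, one_smul, wd_apply hA, hda, one_smul, hA.symm d b, (show fA b d = 0 from hb.1),
      zero_smul, sub_zero] at h0
    have hbu : tmul b u₀ ∈ R := by simpa using R.sub_mem h0 hdz
    have hbw : ∀ w, fB w z = 0 → fB w u₀ = 0 → tmul b w ∈ R := fun w h1 h1' => by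
      obtain ⟨k, hk, -, hkx⟩ := hO.exists_eichB hz h1
      have h3 := habs k hk (by rw [hv, hO.eich_fix_tmul hkx hz (by rw [hs.symm, h1])]) _ hbu
      rw [hkx, hO.sl_tmul, hO.sl_tmul, hu₀, hs.symm u₀ w, h1', one_smul, zero_smul, tmul_zero_left, sub_zero] at h3
      have h4 := R.add_mem (R.sub_mem h3 hbu) (R.smul_mem (fB w w / 2) (hcz b hb))
      convert h4 using 1
      abel
    have h1 := R.add_mem (R.add_mem (hbw (y - fB y z • u₀ - fB y u₀ • z)
      (by simp only [hs.sub_left, hs.smul_left, hu₀, hz]; ring)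
      (by simp only [hs.sub_left, hs.smul_left, hu₀u, hzu]; ring))
      (R.smul_mem (fB y z) hbu)) (R.smul_mem (fB y u₀) (hcz b hb))
    convert h1 using 1
    rw [tmul_sub_right, tmul_sub_right, tmul_smul_right, tmul_smul_right]
    abel
  intro t ht
  suffices htR : t ∈ R by simpa using ((hRm t).1 htR).2 1
  let Lt : V →ₗ[F] (β → F) := lslice (fn fA a)
  have hLt : ∀ x y, Lt (tmul x y) = fA x a • y := fun x y => by
    show lslice (fn fA a) _ = _
    rw [lslice_tmul, fn_dot hA.sesq]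
  let π : V →ₗ[F] V := LinearMap.id -
    ({ toFun := fun y => tmul d y
       map_add' := tmul_add_right d
       map_smul' := fun c y => tmul_smul_right c d y } : (β → F) →ₗ[F] V).comp Lt
  have hπ : ∀ s, π s ∈ R := fun s => by
    rw [sum_tmul_basis s, map_sum]
    refine R.sum_mem fun p _ => ?_
    rw [map_smul]
    refine R.smul_mem _ ?_
    obtain ⟨x, hx⟩ : ∃ x : α → F, x = Pi.single p.1 1 := ⟨_, rfl⟩
    rw [← hx]
    have e1 : π (tmul x (Pi.single p.2 1)) = tmul (x - fA x a • d - fA x d • a) (Pi.single p.2 1) +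
        fA x d • tmul a (Pi.single p.2 1) := by
      show tmul x _ - tmul d (Lt (tmul x _)) = _
      rw [hLt, tmul_smul_right, tmul_sub_left, tmul_sub_left, tmul_smul_left, tmul_smul_left]
      abel
    rw [e1]
    refine R.add_mem (hb _ (hA.mem_perp2.2 ⟨?_, ?_⟩) _) (R.smul_mem _ (ha _))
    · simp only [hA.sub_left, hA.smul_left, hdd, had]; ring
    · simp only [hA.sub_left, hA.smul_left, hda, haa]; ring
  have hLz : fB (Lt t) z = 0 := by
    have e1 : (hs.lin z).comp Lt = (hA.lin a).comp (sl fB z) := ext_pure fun x y => by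
      rw [LinearMap.comp_apply, LinearMap.comp_apply, hLt, hO.sl_tmul, Sym.lin_apply, Sym.lin_apply, hs.smul_left,
        hA.smul_left, mul_comm]
    have := LinearMap.congr_fun e1 t
    rw [LinearMap.comp_apply, LinearMap.comp_apply, Sym.lin_apply, Sym.lin_apply] at this
    rw [this, ← hO.f_sl, ← hv, ht]
  have := R.add_mem (hπ t) (hd _ hLz)
  convert this using 1
  show t = t - tmul d (Lt t) + tmul d (Lt t)
  rw [sub_add_cancel]

/-- A root element on a line gives every Siegel map. -/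
theorem Ovr0.full (hN : ¬ NoRoot fB M) (hA4 : Fintype.card α = 4 → ∀ a c, ¬ TSP fA a c)
    (h33 : Fintype.card β = 3 → Fintype.card α = 3)
    {v : V} (hv : f v v = 0) : FullAt f M v := by
  classical
  have hA := hO.hA
  have hs := hO.hB
  have hV := hO.hV
  have hMi : M ≤ iso f := hO.isoLe
  obtain ⟨a, d, e, haa, hdd, hda, he, hee, hR⟩ := (by
    by_cases h4 : 4 ≤ Fintype.card β
    · exact hO.exists_roots h4 hN hA4
    · have h3 : Fintype.card β = 3 := by have := hO.hb; omega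
      exact hO.exists_roots_three h3 (h33 h3) hN :
    ∃ a d e : α → F, fA a a = 0 ∧ fA d d = 0 ∧ fA d a = 1 ∧ e ∈ hO.hA.perp2 d a ∧ fA e e ≠ 0 ∧
      ∀ b ∈ hO.hA.perp2 d a, ∀ z, fB z z = 0 → z ≠ 0 →
        RootAt fB M z (wd a b hO.hA) ∧ RootAt fB M z (wd d b hO.hA))
  have had : fA a d = 1 := by rw [hA.symm, hda]
  obtain ⟨z, u, hz, huu, hu⟩ := hs.exists_hyp hO.two (by have := hO.hb; omega)
  have hz0 : z ≠ 0 := fun h => one_ne_zero (by rw [← hu, h, hs.zero_right])
  have hu0 : u ≠ 0 := fun h => one_ne_zero (by rw [← hu, h, hs.zero_left])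
  have h1 := hO.fullAt_pure haa hdd hda he hee hR hz hz0
  have h1' : FullAt f M (tmul d u) := hO.fullAt_pure hdd haa had (e := e)
    (hA.mem_perp2.2 ⟨he.2, he.1⟩) hee (fun b hb z' hz' hz'0 =>
      (hR b (hA.mem_perp2.2 ⟨hb.2, hb.1⟩) z' hz' hz'0).symm) huu hu0
  obtain ⟨p, hp⟩ : ∃ p, p = tmul a z := ⟨_, rfl⟩
  obtain ⟨q, hq⟩ : ∃ q, q = tmul d u := ⟨_, rfl⟩
  rw [← hp] at h1
  rw [← hq] at h1'
  have hpp : f p p = 0 := by rw [hp, hO.ten, haa, zero_mul]
  have hqq : f q q = 0 := by rw [hq, hO.ten, hdd, zero_mul]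
  have hqp : f q p ≠ 0 := by rw [hp, hq, hO.ten, hda, hu, mul_one]; exact one_ne_zero
  have key : ∀ x, f x x = 0 → f x p ≠ 0 → FullAt f M x := fun x hx hxp =>
    FullAt.step hV hO.two hMi h1 h1' hqq hx hqp hxp
  by_cases hvp : f v p = 0
  swap
  · exact key v hv hvp
  rcases eq_or_ne v 0 with rfl | hv0
  · intro t _; exact ⟨1, one_mem M, fun x => by simp [hV.zero_right]⟩
  by_cases hdep : ∃ c : F, v = c • p
  · obtain ⟨c, rfl⟩ := hdep
    exact h1.smul hV c
  obtain ⟨y₀, hy₁, hy₂⟩ := OrthAut.exists_polar2 (hV.quad_nondeg hO.two) (a := v) (b := p) (fun s t h => by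
    rcases eq_or_ne s 0 with rfl | hs0
    · rw [zero_smul, zero_add] at h
      exact ⟨rfl, (smul_eq_zero.1 h).resolve_right fun h0 => hqp (by rw [h0, hV.zero_right])⟩
    · refine absurd ⟨-t / s, ?_⟩ hdep
      linear_combination (norm := skip) s⁻¹ • h
      match_scalars <;> field_simp <;> ring) 1 1
  rw [hV.quad_polar hO.two, hV.symm] at hy₁ hy₂
  obtain ⟨y, hy⟩ : ∃ y, y = y₀ + (-(f y₀ y₀ / 2)) • p := ⟨_, rfl⟩
  have hyy : f y y = 0 := by
    simp only [hy, hV.add_left, hV.add_right, hV.smul_left, hV.smul_right, hpp, hy₂, hV.symm p y₀]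
    have := hO.two
    field_simp
    ring
  have hyp : f y p = 1 := by rw [hy, hV.add_left, hV.smul_left, hpp, hy₂, mul_zero, add_zero]
  have hyv : f y v = 1 := by rw [hy, hV.add_left, hV.smul_left, hV.symm p v, hvp, hy₁, mul_zero, add_zero]
  exact FullAt.step hV hO.two hMi (key y hyy (by rw [hyp]; exact one_ne_zero)) h1 hpp hv
    (by rw [hV.symm, hyp]; exact one_ne_zero) (by rw [hV.symm, hyv]; exact one_ne_zero)

omit hO in
theorem Ovr.kB (hO : Ovr fA fB f G M) {B : GL β F} (hB : B ∈ siegGrp fB) : kg (1 : GL α F) B ∈ M :=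
  hO.weak.kB hB

omit hO in
/-- A root element on a line gives every Siegel map. -/
theorem Ovr.full (hO : Ovr fA fB f G M) (hN : ¬ NoRoot fB M) (hA4 : Fintype.card α = 4 → ∀ a c, ¬ TSP fA a c)
    (h33 : Fintype.card β = 3 → Fintype.card α = 3)
    {v : V} (hv : f v v = 0) : FullAt f M v :=
  hO.weak.full hN hA4 h33 hv

end Cfsg.Agent.Classical.TensorOrth
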