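import Cfsg.Agent.Lib.Classical.MaxTensorOrthPair
import Cfsg.Agent.Lib.Classical.MaxTensorOrthFull
import Cfsg.Agent.Lib.Classical.MaxTensorOrthFour
import Cfsg.Agent.Lib.Classical.MaxTensorGram
import Cfsg.Agent.Lib.Classical.MaxOrthSubMinus
import Cfsg.Agent.Lib.Classical.MaxOrthSubMain
import Cfsg.Agent.Lib.Classical.MaxOrthWreathMain
import Cfsg.Agent.Lib.Classical.AschMain

/-!
Stabilisers of tensor products of two orthogonal spaces of different dimensions are maximal in `Ω`.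
-/

set_option autoImplicit false
set_option linter.unusedSectionVars false

namespace Cfsg.Agent.Classical.TensorOrth

open Matrix Module MaxTv TensorMax
open scoped Kronecker

variable {F : Type*} [Field F] [Fintype F]

theorem sym_of_symmetricForm {k : ℕ} {f : (Fin k → F) → (Fin k → F) → F} (hf : Geo.IsSymmetricForm f) {c : F}
    (hc : c ≠ 0) : Sym (fun x y => c * f x y) where
  add_left x y v := by rw [hf.bilinear.add_left, mul_add]
  smul_left a x v := by rw [hf.bilinear.smul_left]; ring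
  symm x y := by rw [hf.symm]
  eq_zero w hw := by
    by_contra h
    obtain ⟨⟨x, hx⟩, -⟩ := hf.nondegenerate w h
    exact hx ((mul_eq_zero.1 (hw x)).resolve_left hc)

variable {ι : Type} [Fintype ι] [DecidableEq ι]

/-- A product of reflections in pairwise orthogonal vectors. -/
theorem exists_refl_prod {Q : QuadraticForm F (ι → F)} (hnd : (QuadraticMap.polarBilin Q).Nondegenerate)
    (hG : OrthAut.GenQ F ι) :
    ∀ (m : ℕ) (p : Fin m → (ι → F)), (∀ i, Q (p i) ≠ 0) →
      (∀ i j, i ≠ j → QuadraticMap.polar (⇑Q) (p i) (p j) = 0) →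
      ∃ g : isometryGroup F ⇑Q, OrthAut.invHom hnd hG g = ((-1) ^ m, ∏ i, OrthAut.sqSign (Q (p i))) ∧
        ∀ x, OrthAut.ogVal g *ᵥ x = x - ∑ i, ((Q (p i))⁻¹ * QuadraticMap.polar (⇑Q) (p i) x) • p i := by
  intro m
  induction m with
  | zero => exact fun p _ _ => ⟨1, by simp [Prod.ext_iff], fun x => by simp [OrthAut.ogVal_one]⟩
  | succ m ih =>
    intro p hp hperp
    obtain ⟨g, hg, hgx⟩ := ih (fun i => p i.succ) (fun i => hp _)
      (fun i j h => hperp _ _ fun e => h (Fin.succ_inj.1 e))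
    refine ⟨g * OrthAut.refl (hp 0), ?_, fun x => ?_⟩
    · rw [map_mul, hg, OrthAut.invHom_refl, Prod.mk_mul_mk, Fin.prod_univ_succ, pow_succ, mul_comm (OrthAut.sqSign _)]
    · rw [OrthAut.ogVal_mul, ← Matrix.mulVec_mulVec, OrthAut.refl_apply, hgx, Fin.sum_univ_succ, sub_sub]
      congr 2
      refine Finset.sum_congr rfl fun i _ => ?_
      rw [QuadraticMap.polar_sub_right, QuadraticMap.polar_smul_right,
        hperp i.succ 0 (Fin.succ_ne_zero i), smul_zero, sub_zero]

/-- The stabiliser of a tensor product of two orthogonal spaces is maximal. -/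
theorem orth_tensor_maximal (Q₀ : (ι → F) → F) (hQ₀ : Geo.IsNondegenerateQuadraticForm Q₀)
    (hodd : Odd (Fintype.card F)) {n₁ n₂ : ℕ} (h1 : 3 ≤ n₁) (h12 : n₁ < n₂) (h4n : 4 ≤ n₂)
    (hex : ¬ (Fintype.card F = 3 ∧ n₁ = 3)) (e : ι ≃ Fin n₁ × Fin n₂) (P : GL ι F)
    (f₁ : (Fin n₁ → F) → (Fin n₁ → F) → F) (f₂ : (Fin n₂ → F) → (Fin n₂ → F) → F)
    (hf₁ : Geo.IsSymmetricForm f₁) (hf₂ : Geo.IsSymmetricForm f₂)
    (hA4 : n₁ = 4 → ∀ a c, ¬ TSP f₁ a c) (hB4 : n₂ = 4 → ∀ a c, ¬ TSP f₂ a c)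
    (hT : Geo.IsTensorFormStructure id (QuadraticMap.polar Q₀) f₁ f₂ e P) :
    Geo.IsMaximalIn (Geo.omegaGL Q₀) (Geo.tensorProductSubgroup n₁ n₂ e P ⊓ Geo.omegaGL Q₀) := by
  classical
  obtain ⟨Q, rfl⟩ := MaxTv.exists_form hQ₀
  have h2 : (2 : F) ≠ 0 := MaxTv.two_ne_zero_of_card_odd hodd
  have hnd := MaxTv.nd_of_isNondegenerateQuadraticForm hQ₀
  obtain ⟨c, hc, hT⟩ := hT
  set ψ : GL (Fin n₁ × Fin n₂) F ≃* GL ι F := (Geo.glReindex e.symm).trans (MulAut.conj P) with hψ
  set E := coordEquiv e P with hE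
  have hcompat : ∀ g t, (ψ g : Matrix ι ι F) *ᵥ E t =
      E ((g : Matrix (Fin n₁ × Fin n₂) (Fin n₁ × Fin n₂) F) *ᵥ t) := fun g t => coord_compat e P g t
  obtain ⟨f, hf⟩ : ∃ f : (Fin n₁ × Fin n₂ → F) → (Fin n₁ × Fin n₂ → F) → F,
      ∀ x y, f x y = QuadraticMap.polar ⇑Q (E x) (E y) := ⟨_, fun _ _ => rfl⟩
  have hV : Sym f :=
    { add_left := fun x y v => by rw [hf, hf, hf, map_add, QuadraticMap.polar_add_left]
      smul_left := fun a x v => by rw [hf, hf, map_smul, QuadraticMap.polar_smul_left, smul_eq_mul]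
      symm := fun x y => by rw [hf, hf, QuadraticMap.polar_comm]
      eq_zero := fun w hw => E.injective ((OrthAut.eq_zero_of_polar hnd fun z => by
        rw [QuadraticMap.polar_comm, ← E.apply_symm_apply z, ← hf, hw]).trans E.map_zero.symm) }
  have hA := sym_of_symmetricForm hf₁ hc
  have hB : Sym f₂ := by simpa using sym_of_symmetricForm hf₂ (one_ne_zero (α := F))
  have hten : ∀ x x' y y', f (tmul x y) (tmul x' y') = (c * f₁ x x') * f₂ y y' := fun x x' y y' => by
    rw [hf, hE, coordEquiv_apply, coordEquiv_apply, hT, formOfGram_tmul hf₁.bilinear hf₂.bilinear,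
      gramMap_dot hf₁.bilinear, gramMap_dot hf₂.bilinear, one_mul]
  have hQf : ∀ s, f s s = 2 * Q (E s) := fun s => by rw [hf, QuadraticMap.polar_self, nsmul_eq_mul]; rfl
  set G : Subgroup (GL (Fin n₁ × Fin n₂) F) := (Geo.omegaGL ⇑Q).comap ψ.toMonoidHom with hG
  have hsq : ∀ g ∈ iso f, g * g ∈ G := fun g hg => by
    have hk : ψ g ∈ isometryGroup F ⇑Q := mem_isometryGroup.2 fun x => by
      obtain ⟨s, rfl⟩ := E.surjective x
      apply mul_left_cancel₀ h2
      rw [hcompat, ← hQf, ← hQf]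
      exact hg s s
    have hk2 : (⟨ψ g, hk⟩ : isometryGroup F ⇑Q) * ⟨ψ g, hk⟩ ∈ Omega F ⇑Q := by
      rw [OrthAut.omega_eq_ker hnd (OrthAut.genQ_odd hnd h2), MonoidHom.mem_ker, map_mul]
      exact Prod.ext (Int.units_mul_self _) (Int.units_mul_self _)
    show ψ (g * g) ∈ Geo.omegaGL ⇑Q
    rw [map_mul]
    exact MaxTv.mem_omegaGL_of hk2
  have hGi : G ≤ iso f := fun g hg s t => by
    have h : ∀ x, Q ((ψ g : Matrix ι ι F) *ᵥ x) = Q x := MaxTv.isometry_of_mem_omegaGL hg
    rw [hf, hf, ← hcompat, ← hcompat, QuadraticMap.polar, QuadraticMap.polar, ← Matrix.mulVec_add, h, h, h]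
  have hH : ∀ k : GL (Fin n₁ × Fin n₂) F, ψ k ∈ Geo.tensorProductSubgroup n₁ n₂ e P ↔ IsKron k := fun k => by
    constructor
    · rintro ⟨g, ⟨k', hk', rfl⟩, hg⟩
      have : ψ k' = ψ k := hg
      exact ψ.injective this ▸ hk'
    · intro hk
      exact ⟨_, ⟨k, hk, rfl⟩, rfl⟩
  haveI : Nonempty (Fin n₁) := ⟨⟨0, by omega⟩⟩
  refine MaxTv.isMaximalIn_intro (fun g hg => hg.2) ?_ fun M hHM hMK g hg hgH => ?_
  · intro hle
    obtain ⟨a, d, haa, hdd, hda⟩ := hA.exists_hyp h2 (by rw [Fintype.card_fin]; exact h1)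
    obtain ⟨z, u, hzz, huu, huz⟩ := hB.exists_hyp h2 (by rw [Fintype.card_fin]; omega)
    obtain ⟨w, hw, hw0⟩ : ∃ w ∈ hA.perp2 a d, w ≠ 0 := Submodule.exists_mem_ne_zero_of_ne_bot fun h => by
      have := hA.finrank_perp2 a d
      rw [h, finrank_bot, Fintype.card_fin] at this
      omega
    rw [hA.mem_perp2] at hw
    obtain ⟨v, hv⟩ : ∃ v, v = tmul a z := ⟨_, rfl⟩
    obtain ⟨t, ht⟩ : ∃ t, t = tmul w z := ⟨_, rfl⟩
    have hvv : f v v = 0 := by rw [hv, hten, haa, zero_mul]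
    have htv : f t v = 0 := by rw [hv, ht, hten, hzz, mul_zero]
    have htt : f t t = 0 := by rw [ht, hten, hzz, mul_zero]
    have hvt : f v t = 0 := by rw [hV.symm, htv]
    obtain ⟨g, hgi, hgx⟩ := hV.exists_sieg h2 hvv htv
    have hgx' : ∀ x, (g : Matrix (Fin n₁ × Fin n₂) (Fin n₁ × Fin n₂) F) *ᵥ x = x + f x v • t - f x t • v :=
      fun x => by rw [hgx, htt, zero_div, zero_mul, zero_smul, sub_zero]
    have hgG : g ∈ G := mem_of_cube hsq h2 hgi fun x => by
      have hd : ∀ y : Fin n₁ × Fin n₂ → F, ((g : Matrix (Fin n₁ × Fin n₂) (Fin n₁ × Fin n₂) F) - 1) *ᵥ y =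
          f y v • t - f y t • v := fun y => by
        rw [Matrix.sub_mulVec, Matrix.one_mulVec, hgx']
        abel
      rw [hd x, hd (f x v • t - f x t • v)]
      simp [hV.sub_left, hV.smul_left, hvv, htv, hvt, htt]
    have hk : IsKron g := (hH g).1 (hle hgG).1
    have hne : g ≠ 1 := fun e0 => by
      have h := hgx' (tmul d u)
      rw [e0, Units.val_one, Matrix.one_mulVec, hv, ht, hten, hten, hda, huz, hA.symm d w, hw.2, zero_mul,
        zero_smul, sub_zero, mul_one, one_smul, left_eq_add] at h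
      exact tmul_ne_zero hw0 (fun hz0 => one_ne_zero (by rw [← huz, hz0, hB.zero_right])) h
    have hdim : finrank F ((F ∙ v) ⊔ (F ∙ t) : Submodule F (Fin n₁ × Fin n₂ → F)) ≤ 2 := by
      refine (Submodule.finrank_add_le_finrank_add_finrank _ _).trans ?_
      have := finrank_span_le_card (R := F) ({v} : Set (Fin n₁ × Fin n₂ → F))
      have := finrank_span_le_card (R := F) ({t} : Set (Fin n₁ × Fin n₂ → F))
      simp only [Set.toFinset_singleton, Finset.card_singleton] at *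
      omega
    obtain ⟨y, hy, hW⟩ := hk.root (by rw [Fintype.card_fin, Fintype.card_fin]; exact h12) hne
      (hdim.trans (by rw [Fintype.card_fin]; omega)) fun x => by
        rw [hgx', add_sub_assoc, add_sub_cancel_left]
        exact sub_mem (Submodule.mem_sup_right (Submodule.smul_mem _ _ (Submodule.mem_span_singleton_self _)))
          (Submodule.mem_sup_left (Submodule.smul_mem _ _ (Submodule.mem_span_singleton_self _)))
    rw [hW, finrank_range_fac hy, Fintype.card_fin] at hdim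
    omega
  · have hO : Ovr (fun x y => c * f₁ x y) f₂ f G (M.comap ψ.toMonoidHom) :=
      { two := h2
        hA := hA
        hB := hB
        hV := hV
        ten := hten
        sq := hsq
        gIso := hGi
        le := fun k hk => hMK hk
        mem := fun k hk hkk => hHM ⟨(hH k).2 hkk, hk⟩
        ha := by rw [Fintype.card_fin]; exact h1
        hb := by rw [Fintype.card_fin]; omega
        hB4 := fun h a c => hB4 (by rwa [Fintype.card_fin] at h) a c
        hex := by rw [Fintype.card_fin]; exact hex }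
    by_cases hN : NoRoot f₂ (M.comap ψ.toMonoidHom)
    · obtain ⟨k, rfl⟩ := ψ.surjective g
      suffices hk : IsKron k from absurd ⟨(hH k).2 hk, hMK hg⟩ hgH
      by_cases h5 : 5 ≤ n₂
      · exact hO.all_kron hN (Or.inl (by rw [Fintype.card_fin, Fintype.card_fin]; exact h12)) (by rw [Fintype.card_fin]; exact h5) (show k ∈ M.comap ψ.toMonoidHom from hg)
      obtain rfl : n₂ = 4 := by omega
      obtain rfl : n₁ = 3 := by omega
      refine hO.all_kron_four (Fintype.card_fin 4) (Fintype.card_fin 3) hN (fun a ha => ?_) hg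
      -- two reflections of the first factor times a basis of the second
      obtain ⟨e₁, he₁, hn₁⟩ := hA.exists_aniso h2 (hA.ndOn_inf_ker hA.ndOn_top trivial ha)
        (Submodule.exists_mem_ne_zero_of_ne_bot fun e => by
          have := finrank_le_inf_ker_add_one (⊤ : Submodule F (Fin 3 → F)) (hA.lin a)
          rw [e, finrank_bot, finrank_top, Module.finrank_fin_fun] at this
          omega)
      have h1a : c * f₁ e₁ a = 0 := he₁.2
      obtain ⟨e₂, he₂a, he₂, hn₂⟩ := hO.exists_third (Fintype.card_fin 4) (Fintype.card_fin 3) ha hn₁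
        (by rw [hA.symm]; exact h1a)
      obtain ⟨y₁, hy₁, hm₁⟩ := hB.exists_aniso h2 hB.ndOn_top ⟨Pi.single 0 1, trivial, by simp⟩
      have hd₁ := finrank_le_inf_ker_add_one (⊤ : Submodule F (Fin 4 → F)) (hB.lin y₁)
      rw [finrank_top, Module.finrank_fin_fun] at hd₁
      have hW₁ := hB.ndOn_inf_ker hB.ndOn_top hy₁ hm₁
      obtain ⟨y₂, hy₂, hm₂⟩ := hB.exists_aniso h2 hW₁ (Submodule.exists_mem_ne_zero_of_ne_bot fun e => by
        rw [e, finrank_bot] at hd₁; omega)
      have hd₂ := finrank_le_inf_ker_add_one (⊤ ⊓ LinearMap.ker (hB.lin y₁)) (hB.lin y₂)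
      have hW₂ := hB.ndOn_inf_ker hW₁ hy₂ hm₂
      obtain ⟨y₃, hy₃, hm₃⟩ := hB.exists_aniso h2 hW₂ (Submodule.exists_mem_ne_zero_of_ne_bot fun e => by
        rw [e, finrank_bot] at hd₂; omega)
      have hd₃ := finrank_le_inf_ker_add_one (⊤ ⊓ LinearMap.ker (hB.lin y₁) ⊓ LinearMap.ker (hB.lin y₂)) (hB.lin y₃)
      obtain ⟨y₄, hy₄, hm₄⟩ := hB.exists_aniso h2 (hB.ndOn_inf_ker hW₂ hy₃ hm₃)
        (Submodule.exists_mem_ne_zero_of_ne_bot fun e => by rw [e, finrank_bot] at hd₃; omega)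
      have h21 : f₂ y₂ y₁ = 0 := hy₂.2
      have h31 : f₂ y₃ y₁ = 0 := hy₃.1.2
      have h32 : f₂ y₃ y₂ = 0 := hy₃.2
      have h41 : f₂ y₄ y₁ = 0 := hy₄.1.1.2
      have h42 : f₂ y₄ y₂ = 0 := hy₄.1.2
      have h43 : f₂ y₄ y₃ = 0 := hy₄.2
      obtain ⟨p, hp⟩ : ∃ p : Fin 8 → (ι → F), p = ![E (tmul e₁ y₁), E (tmul e₁ y₂), E (tmul e₁ y₃), E (tmul e₁ y₄),
          E (tmul e₂ y₁), E (tmul e₂ y₂), E (tmul e₂ y₃), E (tmul e₂ y₄)] := ⟨_, rfl⟩
      have hQp : ∀ x y, Q (E (tmul x y)) = (c * f₁ x x) * f₂ y y / 2 := fun x y => by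
        rw [eq_div_iff h2, mul_comm (Q _), ← hQf, hten]
      have hpne : ∀ i, Q (p i) ≠ 0 := by
        intro i
        fin_cases i <;> simp [hp, hQp, h2, hn₁, hn₂, hm₁, hm₂, hm₃, hm₄] <;>
          exact ⟨⟨hc, fun e => hn₁ (by rw [e, mul_zero])⟩, by assumption⟩
      have hpperp : ∀ i j, i ≠ j → QuadraticMap.polar ⇑Q (p i) (p j) = 0 := by
        intro i j hij
        fin_cases i <;> fin_cases j <;> first
          | exact absurd rfl hij
          | (simp only [hp]; dsimp; rw [← hf, hten];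
             simp [hA.symm e₁ e₂, he₂, hB.symm y₁ y₂, hB.symm y₁ y₃, hB.symm y₁ y₄, hB.symm y₂ y₃, hB.symm y₂ y₄,
               hB.symm y₃ y₄, h21, h31, h32, h41, h42, h43])
      obtain ⟨g₀, hg₀, hg₀x⟩ := exists_refl_prod hnd (OrthAut.genQ_odd hnd h2) 8 p hpne hpperp
      have hprod : ∏ i, OrthAut.sqSign (Q (p i)) = 1 := by
        have hsplit : ∀ x y, c * f₁ x x ≠ 0 → f₂ y y ≠ 0 → OrthAut.sqSign (Q (E (tmul x y))) =
            OrthAut.sqSign (c * f₁ x x) * OrthAut.sqSign (f₂ y y / 2) := fun x y hx hy => by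
          rw [hQp, mul_div_assoc, OrthAut.sqSign_mul hx (div_ne_zero hy h2)]
        simp only [hp, Fin.prod_univ_eight]
        dsimp
        rw [hsplit _ _ hn₁ hm₁, hsplit _ _ hn₁ hm₂, hsplit _ _ hn₁ hm₃, hsplit _ _ hn₁ hm₄, hsplit _ _ hn₂ hm₁,
          hsplit _ _ hn₂ hm₂, hsplit _ _ hn₂ hm₃, hsplit _ _ hn₂ hm₄]
        rcases Int.units_eq_one_or (OrthAut.sqSign (c * f₁ e₁ e₁)) with h | h <;>
          rcases Int.units_eq_one_or (OrthAut.sqSign (c * f₁ e₂ e₂)) with h' | h' <;>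
          rcases Int.units_eq_one_or (OrthAut.sqSign (f₂ y₁ y₁ / 2)) with i1 | i1 <;>
          rcases Int.units_eq_one_or (OrthAut.sqSign (f₂ y₂ y₂ / 2)) with i2 | i2 <;>
          rcases Int.units_eq_one_or (OrthAut.sqSign (f₂ y₃ y₃ / 2)) with i3 | i3 <;>
          rcases Int.units_eq_one_or (OrthAut.sqSign (f₂ y₄ y₄ / 2)) with i4 | i4 <;>
          simp [h, h', i1, i2, i3, i4]
      obtain ⟨k₀, hk₀⟩ : ∃ k₀, ψ k₀ = (g₀ : GL ι F) := ψ.surjective _
      refine ⟨k₀, show ψ k₀ ∈ Geo.omegaGL ⇑Q from ?_, fun t => ?_⟩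
      · rw [hk₀]
        refine MaxTv.mem_omegaGL_of ?_
        rw [OrthAut.omega_eq_ker hnd (OrthAut.genQ_odd hnd h2), MonoidHom.mem_ker, hg₀, hprod]
        exact Prod.ext (Even.neg_one_pow (by decide)) rfl
      refine LinearMap.congr_fun (f := Matrix.toLin' (k₀ : Matrix (Fin 3 × Fin 4) (Fin 3 × Fin 4) F))
        (g := (2 / (c * f₁ a a)) • (((LinearMap.mk₂ F (fun (u : Fin 3 → F) (w : Fin 4 → F) => tmul u w)
          tmul_add_left tmul_smul_left tmul_add_right (fun k u w => tmul_smul_right k u w)) a).comp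
            (la (fun x y => c * f₁ x y) a)) - LinearMap.id) (ext_pure fun x w => E.injective ?_) t
      simp only [Matrix.toLin'_apply, LinearMap.sub_apply, LinearMap.smul_apply, LinearMap.comp_apply,
        LinearMap.mk₂_apply, LinearMap.id_apply, hO.la_tmul]
      rw [← hcompat, hk₀]
      show OrthAut.ogVal g₀ *ᵥ _ = _
      rw [hg₀x, Fin.sum_univ_eight]
      simp only [hp]
      dsimp
      simp only [← hf, hten, hQp, map_sub, map_smul, tmul_smul_right, smul_smul]
      have hsumB : w = (f₂ w y₁ / f₂ y₁ y₁) • y₁ + (f₂ w y₂ / f₂ y₂ y₂) • y₂ + (f₂ w y₃ / f₂ y₃ y₃) • y₃ +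
          (f₂ w y₄ / f₂ y₄ y₄) • y₄ := by
        have hli : LinearIndependent F ![y₁, y₂, y₃, y₄] := by
          refine Fintype.linearIndependent_iff.2 fun g hg i => ?_
          rw [Fin.sum_univ_four] at hg
          have l1 := congrArg (fun v => f₂ v y₁) hg
          have l2 := congrArg (fun v => f₂ v y₂) hg
          have l3 := congrArg (fun v => f₂ v y₃) hg
          have l4 := congrArg (fun v => f₂ v y₄) hg
          simp only [Matrix.cons_val_zero, Matrix.cons_val_one, Matrix.cons_val, hB.add_left, hB.smul_left,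
            hB.zero_left, hB.symm y₁ y₂, hB.symm y₁ y₃, hB.symm y₁ y₄, hB.symm y₂ y₃, hB.symm y₂ y₄,
            hB.symm y₃ y₄, h21, h31, h32, h41, h42, h43, mul_zero, add_zero, zero_add] at l1 l2 l3 l4
          fin_cases i
          exacts [(mul_eq_zero.1 l1).resolve_right hm₁, (mul_eq_zero.1 l2).resolve_right hm₂,
            (mul_eq_zero.1 l3).resolve_right hm₃, (mul_eq_zero.1 l4).resolve_right hm₄]
        obtain ⟨g, hg⟩ := (Submodule.mem_span_range_iff_exists_fun F).1
          ((hli.span_eq_top_of_card_eq_finrank' (by rw [Fintype.card_fin, Module.finrank_fin_fun])) ▸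
            Submodule.mem_top : w ∈ _)
        rw [Fin.sum_univ_four] at hg
        simp only [Matrix.cons_val_zero, Matrix.cons_val_one, Matrix.cons_val] at hg
        rw [← hg]
        simp only [hB.add_left, hB.smul_left, hB.symm y₁ y₂, hB.symm y₁ y₃, hB.symm y₁ y₄, hB.symm y₂ y₃,
          hB.symm y₂ y₄, hB.symm y₃ y₄, h21, h31, h32, h41, h42, h43, mul_zero, add_zero, zero_add,
          mul_div_cancel_right₀ _ hm₁, mul_div_cancel_right₀ _ hm₂, mul_div_cancel_right₀ _ hm₃,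
          mul_div_cancel_right₀ _ hm₄]
      have hsumA := hO.orth_basis (Fintype.card_fin 4) (Fintype.card_fin 3) ha hn₁ hn₂ (by rw [hA.symm]; exact h1a)
        (by rw [hA.symm]; exact he₂a) (by rw [hA.symm]; exact he₂) x
      obtain ⟨⟨A₀, A₁, A₂⟩, hAA⟩ : ∃ A : F × F × F, A = (c * f₁ x a, c * f₁ x e₁, c * f₁ x e₂) := ⟨_, rfl⟩
      obtain ⟨⟨B₁, B₂, B₃, B₄⟩, hBB⟩ : ∃ B : F × F × F × F, B = (f₂ w y₁, f₂ w y₂, f₂ w y₃, f₂ w y₄) := ⟨_, rfl⟩
      simp only [Prod.mk.injEq] at hAA hBB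
      rw [hA.symm e₁ x, hA.symm e₂ x, hB.symm y₁ w, hB.symm y₂ w, hB.symm y₃ w, hB.symm y₄ w]
      rw [← hAA.1, ← hAA.2.1, ← hAA.2.2] at hsumA ⊢
      rw [← hBB.1, ← hBB.2.1, ← hBB.2.2.1, ← hBB.2.2.2] at hsumB ⊢
      rw [hsumA, hsumB]
      simp only [tmul_add_left, tmul_add_right, tmul_smul_left, tmul_smul_right, map_add, map_smul]
      match_scalars <;> field_simp <;> ring
    have hn : 4 ≤ Fintype.card ι := by
      rw [Fintype.card_congr e, Fintype.card_prod, Fintype.card_fin, Fintype.card_fin]; nlinarith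
    rintro _ ⟨k, hk, rfl⟩
    rw [SetLike.mem_coe, OrthAut.omega_eq_eR hnd h2 hn (OrthAut.exists_singular_three hnd h2 (by omega))] at hk
    induction hk using Subgroup.closure_induction with
    | one => exact M.one_mem
    | mul a b _ _ ha hb => rw [map_mul]; exact M.mul_mem ha hb
    | inv a _ ha => rw [map_inv]; exact M.inv_mem ha
    | mem k hk =>
      obtain ⟨x₀, w, h, hk'⟩ := hk
      obtain ⟨v, hv⟩ := E.surjective x₀
      obtain ⟨t, ht⟩ := E.surjective w
      subst hv ht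
      have hvv : f v v = 0 := by rw [hQf, h.1, mul_zero]
      obtain ⟨g', hg', hgx⟩ := hO.full hN (fun h4 a b p => hA4 (by rw [Fintype.card_fin] at h4; exact h4) a b
          ⟨(mul_eq_zero.1 p.iso₁).resolve_left hc, (mul_eq_zero.1 p.iso₂).resolve_left hc,
            (mul_eq_zero.1 p.orth).resolve_left hc, p.ind⟩) (fun h => by rw [Fintype.card_fin] at h; omega) hvv t
        (by rw [hf, QuadraticMap.polar_comm]; exact h.2)
      have heq : ((isometryGroup F ⇑Q).subtype k : GL ι F) = ψ g' := Units.ext (Matrix.ext_iff_mulVec.2 fun x => by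
        obtain ⟨s, rfl⟩ := E.surjective x
        show OrthAut.ogVal k *ᵥ _ = _
        rw [hk', OrthAut.eMat_mulVec, hcompat, hgx, map_sub, map_sub, map_add, map_smul, map_smul, map_smul, hf,
          hf, hQf, mul_div_cancel_left₀ _ h2, QuadraticMap.polar_comm _ (E v), QuadraticMap.polar_comm _ (E t)])
      rw [heq]
      exact hg'

/-- The two factors may be exchanged. -/
theorem tensorProductSubgroup_swap {n₁ n₂ : ℕ} (e : ι ≃ Fin n₁ × Fin n₂) (P : GL ι F) :
    Geo.tensorProductSubgroup n₂ n₁ (e.trans (Equiv.prodComm _ _)) P = Geo.tensorProductSubgroup n₁ n₂ e P := by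
  refine le_antisymm ((Asch.tensor_swap _ P).trans (le_of_eq ?_)) (Asch.tensor_swap e P)
  congr 1

/-- The form structure with the two factors exchanged. -/
theorem tensorFormStructure_swap {n₁ n₂ : ℕ} {g : (ι → F) → (ι → F) → F} {f₁ : (Fin n₁ → F) → (Fin n₁ → F) → F}
    {f₂ : (Fin n₂ → F) → (Fin n₂ → F) → F} {e : ι ≃ Fin n₁ × Fin n₂} {P : GL ι F}
    (hT : Geo.IsTensorFormStructure id g f₁ f₂ e P) :
    Geo.IsTensorFormStructure id g f₂ f₁ (e.trans (Equiv.prodComm _ _)) P := by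
  obtain ⟨c, hc, hT⟩ := hT
  refine ⟨c, hc, fun x y => ?_⟩
  have h := hT (x ∘ Prod.swap) (y ∘ Prod.swap)
  refine h.trans ?_
  congr 1
  unfold Geo.formOfGram
  refine Fintype.sum_equiv (Equiv.prodComm _ _) _ _ fun a => ?_
  refine Fintype.sum_equiv (Equiv.prodComm _ _) _ _ fun b => ?_
  simp [Matrix.kroneckerMap_apply, mul_comm (Geo.gramMatrix f₁ a.1 b.1)]

/-- A four-dimensional space of minus type has no totally singular plane. -/
theorem not_tsp_of_not_plus {k : ℕ} {h : (Fin k → F) → (Fin k → F) → F} (hh : Geo.IsSymmetricForm h)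
    (hm : ¬ Geo.IsPlusTypeOn (fun v : Fin k → F => h v v) ⊤) (hk : k = 4) (a c : Fin k → F) : ¬ TSP h a c := by
  intro p
  have hli : LinearIndependent F ![a, c] := LinearIndependent.pair_iff.2 p.ind
  refine hm ⟨Submodule.span F (Set.range ![a, c]), le_top, fun w hw => ?_, ?_⟩
  · obtain ⟨s, rfl⟩ := (Submodule.mem_span_range_iff_exists_fun F).1 hw
    simp only [Fin.sum_univ_two, Matrix.cons_val_zero, Matrix.cons_val_one, hh.bilinear.add_left,
      hh.bilinear.add_right, hh.bilinear.smul_left, hh.bilinear.smul_right, hh.symm c a, p.iso₁, p.iso₂, p.orth,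
      mul_zero, add_zero]
  · rw [finrank_span_eq_card hli, finrank_top, Module.finrank_pi, Fintype.card_fin, Fintype.card_fin, hk]

end Cfsg.Agent.Classical.TensorOrth
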