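import Cfsg.Agent.Lib.Classical.MaxTensorOrthHalf
import Cfsg.Agent.Lib.Grp.CoprimeAbelian

/-!
Centralisers of half turns in overgroups of `O₃ ⊗ O₄⁻` without root elements on a line.
-/

set_option autoImplicit false
set_option linter.unusedSectionVars false

namespace Cfsg.Agent.Classical.TensorOrth

open Matrix Module MaxTv TensorMax Overfield
open scoped Kronecker
open Cfsg.Agent.Classical.TensorRoot (kg kg_apply kg_isKron)

variable {F : Type*} [Field F] [Fintype F] {α β : Type} [Fintype α] [DecidableEq α] [Fintype β] [DecidableEq β]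

local notation "V" => (α × β → F)
local notation "Mn" => Matrix (α × β) (α × β) F
local notation "Ma" => Matrix α α F
local notation "Mb" => Matrix β β F

/-- `g` is `1 ⊗` the Siegel map at `z` of `w`. -/
def IsEl (fB : (β → F) → (β → F) → F) (g : GL (α × β) F) (z w : β → F) : Prop :=
  ∀ x y, (g : Mn) *ᵥ tmul x y = tmul x (y + fB y z • w - fB y w • z - (fB w w / 2 * fB y z) • z)

theorem kg_mul (A A' : GL α F) (B B' : GL β F) : kg (A * A') (B * B') = kg A B * kg A' B' :=
  ext_kron fun x y => by simp only [Units.val_mul, ← Matrix.mulVec_mulVec, kg_apply]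

theorem kg_one : kg (1 : GL α F) (1 : GL β F) = 1 := ext_kron fun x y => by simp [kg_apply]

theorem kg_pow (A : GL α F) (B : GL β F) (n : ℕ) : kg (A ^ n) (B ^ n) = kg A B ^ n := by
  induction n with
  | zero => simp [kg_one]
  | succ n ih => rw [pow_succ, pow_succ, pow_succ, ← ih, ← kg_mul]

variable {fA : (α → F) → (α → F) → F} {fB : (β → F) → (β → F) → F}
  {f : (α × β → F) → (α × β → F) → F} {G M : Subgroup (GL (α × β) F)}

variable (hO : Ovr fA fB f G M)
include hO

/-- The middle plane is anisotropic. -/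
theorem Ovr.aniso_middle (h4 : Fintype.card β = 4) {z u w : β → F} (hz : fB z z = 0) (hu : fB u z = 1)
    (hwu : fB w u = 0) (hwz : fB w z = 0) (hww : fB w w = 0) : w = 0 := by
  have hs := hO.hB
  by_contra hw0
  refine hO.hB4 h4 z w ⟨hz, hww, by rw [hs.symm, hwz], fun s t hst => ?_⟩
  have k := congrArg (fun v => fB v u) hst
  simp only [hs.add_left, hs.smul_left, hs.zero_left, hs.symm z u, hu, hwu, mul_zero, add_zero, mul_one] at k
  rw [k, zero_smul, zero_add] at hst
  exact ⟨k, (smul_eq_zero.1 hst).resolve_right hw0⟩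

theorem Ovr.exists_el {z w : β → F} (hz : fB z z = 0) (hw : fB w z = 0) : ∃ g ∈ M, IsEl fB g z w := by
  obtain ⟨e, he, -, hex⟩ := hO.exists_eichB hz hw
  refine ⟨e, he, fun x y => ?_⟩
  rw [hex, hO.sl_tmul, hO.sl_tmul]
  simp only [tmul_add_right, tmul_sub_right, tmul_smul_right, tmul_smul_left, smul_smul]

theorem IsEl.mul {g g' : GL (α × β) F} {z w w' : β → F} (h : IsEl fB g z w) (h' : IsEl fB g' z w')
    (hz : fB z z = 0) (hw : fB w z = 0) (hw' : fB w' z = 0) : IsEl fB (g * g') z (w + w') := by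
  intro x y
  have hs := hO.hB
  have := hO.two
  rw [Units.val_mul, ← Matrix.mulVec_mulVec, h', h]
  congr 1
  simp only [hs.add_left, hs.add_right, hs.sub_left, hs.smul_left, hz, hw, hw', hs.symm z w, hs.symm w' w]
  match_scalars <;> field_simp <;> ring

omit hO in
theorem IsEl.unique {g g' : GL (α × β) F} {z w : β → F} (h : IsEl fB g z w) (h' : IsEl fB g' z w) : g = g' :=
  ext_kron fun x y => by rw [h, h']

theorem IsEl.zero {g : GL (α × β) F} {z : β → F} (h : IsEl fB g z 0) : g = 1 :=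
  ext_kron fun x y => by
    rw [h, hO.hB.zero_left, hO.hB.zero_right]; simp

theorem IsEl.eq_zero {g : GL (α × β) F} {z w u : β → F} (h : IsEl fB g z w) (hg : g = 1) (hu : fB u z = 1)
    (hwu : fB w u = 0) (hwz : fB w z = 0) (hz : fB z z = 0) (h4 : Fintype.card β = 4) : w = 0 := by
  have hs := hO.hB
  obtain ⟨i⟩ := hO.nonempty
  refine hO.aniso_middle h4 hz hu hwu hwz ?_
  have h1 := h (Pi.single i 1) u
  rw [hg, Units.val_one, Matrix.one_mulVec, hu, hs.symm u w, hwu] at h1
  obtain ⟨ξ, hξ⟩ := TensorMax.exists_dual (show (Pi.single i (1 : F) : α → F) ≠ 0 by simp)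
  have h3 := congrArg (fun t => fB (lslice ξ t) w) h1
  simp only [lslice_tmul, hξ, one_smul, zero_smul, sub_zero, hs.add_left, hs.sub_left, hs.smul_left,
    hs.symm z w, hwz, mul_zero] at h3
  linear_combination -h3

/-- The Siegel maps at a singular point of the second factor form a non-cyclic abelian `p`-group. -/
theorem Ovr.exists_unipotent (h4 : Fintype.card β = 4) {p : ℕ} [Fact p.Prime] [CharP F p] {z u : β → F}
    (hz : fB z z = 0) (huu : fB u u = 0) (hu : fB u z = 1) :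
    ∃ U : Subgroup (GL (α × β) F), U ≤ M ∧ IsMulCommutative U ∧ ¬ IsCyclic U ∧ IsPGroup p U ∧
      ∀ g ∈ U, ∃ w, fB w z = 0 ∧ fB w u = 0 ∧ IsEl fB g z w := by
  classical
  have hs := hO.hB
  obtain ⟨W, hW⟩ : ∃ W, W = hs.perp2 u z := ⟨_, rfl⟩
  have hWm : ∀ w, w ∈ W ↔ fB w u = 0 ∧ fB w z = 0 := fun w => by rw [hW]; rfl
  choose E hEM hE using fun w : W => hO.exists_el hz ((hWm w).1 w.2).2
  have hEadd : ∀ w w' : W, E (w + w') = E w * E w' := fun w w' =>
    IsEl.unique (hE _) ((hE w).mul hO (hE w') hz ((hWm w).1 w.2).2 ((hWm w').1 w'.2).2)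
  let φ : Multiplicative W →* GL (α × β) F :=
    MonoidHom.mk' (fun w => E w.toAdd) fun w w' => hEadd _ _
  have hφi : Function.Injective φ := by
    rw [injective_iff_map_eq_one]
    intro w hw
    have := (hE w.toAdd).eq_zero hO hw hu ((hWm _).1 w.toAdd.2).1 ((hWm _).1 w.toAdd.2).2 hz h4
    exact congrArg Multiplicative.ofAdd (show w.toAdd = 0 from Subtype.ext this)
  have hp : IsPGroup p (Multiplicative W) := fun w => ⟨1, by
    rw [pow_one]
    refine congrArg Multiplicative.ofAdd (show p • w.toAdd = 0 from ?_)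
    rw [← Nat.cast_smul_eq_nsmul F, CharP.cast_eq_zero, zero_smul]⟩
  refine ⟨φ.range, ?_, ⟨⟨?_⟩⟩, ?_, hp.of_surjective φ.rangeRestrict φ.rangeRestrict_surjective, ?_⟩
  · rintro _ ⟨w, rfl⟩
    exact hEM _
  · rintro ⟨_, a, rfl⟩ ⟨_, b, rfl⟩
    exact Subtype.ext (by rw [Subgroup.coe_mul, Subgroup.coe_mul, ← map_mul φ, ← map_mul φ, mul_comm])
  · intro hc
    haveI : IsCyclic (Multiplicative W) :=
      isCyclic_of_injective φ.rangeRestrict fun a b e => hφi (congrArg Subtype.val e)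
    obtain ⟨g, hg⟩ := IsCyclic.exists_generator (α := Multiplicative W)
    have hle : Nat.card W ≤ p := by
      have h1 : Nat.card (Multiplicative W) = orderOf g := (orderOf_eq_card_of_forall_mem_zpowers hg).symm
      obtain ⟨k, hk⟩ := hp g
      calc Nat.card W = orderOf g := h1
        _ ≤ p := orderOf_le_of_pow_eq_one (Fact.out : p.Prime).pos (congrArg Multiplicative.ofAdd
          (show p • g.toAdd = 0 by rw [← Nat.cast_smul_eq_nsmul F, CharP.cast_eq_zero, zero_smul]))
    have hd : 2 ≤ finrank F W := by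
      have := hs.finrank_perp2 u z
      rw [hW]; omega
    rw [Module.natCard_eq_pow_finrank (K := F)] at hle
    have hq : p ≤ Nat.card F := by
      obtain ⟨n, -, hn⟩ := FiniteField.card F p
      rw [Nat.card_eq_fintype_card, hn]
      exact Nat.le_self_pow n.ne_zero p
    have h2p := (Fact.out : p.Prime).two_le
    have : Nat.card F ^ 2 ≤ p := (Nat.pow_le_pow_right (Nat.card_pos) hd).trans hle
    nlinarith
  · rintro _ ⟨w, rfl⟩
    exact ⟨_, ((hWm _).1 w.toAdd.2).2, ((hWm _).1 w.toAdd.2).1, hE _⟩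

variable (hN : NoRoot fB M)
include hN

/-- Elements commuting with an anisotropic Siegel map of the second factor are products. -/
theorem Ovr.cent_kron {x g : GL (α × β) F} (hx : x ∈ M) {z w : β → F} (hz : fB z z = 0) (hz0 : z ≠ 0)
    (hw : fB w z = 0) (hww : fB w w ≠ 0) (hg : IsEl fB g z w) (hc : x * g = g * x) : IsKron x := by
  have hs := hO.hB
  have h2 := hO.two
  obtain ⟨u, huu, hu⟩ := hs.exists_partner h2 hz hz0
  let N : V →ₗ[F] V := Matrix.toLin' (g : Mn) - LinearMap.id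
  have hN2 : N.comp N = (-fB w w) • (fac z).comp (sl fB z) := ext_pure fun a y => by
    simp only [N, LinearMap.comp_apply, LinearMap.sub_apply, LinearMap.id_apply, Matrix.toLin'_apply, hg a,
      LinearMap.smul_apply, fac_apply, hO.sl_tmul, map_sub, hs.add_left, hs.sub_left, hs.smul_left, hz, hw,
      hs.symm z w, Matrix.mulVec_sub, Matrix.mulVec_add, Matrix.mulVec_smul, tmul_add_right, tmul_sub_right,
      tmul_smul_right, tmul_smul_left]
    match_scalars <;> field_simp <;> ring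
  have hxN : ∀ t, (x : Mn) *ᵥ N t = N ((x : Mn) *ᵥ t) := fun t => by
    simp only [N, LinearMap.sub_apply, LinearMap.id_apply, Matrix.toLin'_apply, Matrix.mulVec_sub,
      Matrix.mulVec_mulVec, ← Units.val_mul, hc]
  refine hO.line_kron hN hx hz hz0 (v := z) fun a => ⟨sl fB z ((x : Mn) *ᵥ tmul a u), ?_⟩
  have h1 := congrArg (fun t => (x : Mn) *ᵥ t) (LinearMap.congr_fun hN2 (tmul a u))
  have h3 := LinearMap.congr_fun hN2 ((x : Mn) *ᵥ tmul a u)
  simp only [LinearMap.comp_apply, LinearMap.smul_apply, fac_apply, hO.sl_tmul, hu, one_smul, hxN,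
    Matrix.mulVec_smul] at h1 h3
  rw [h3] at h1
  exact (smul_right_injective _ (neg_ne_zero.2 hww) h1).symm

omit hN in
/-- A product fixing `a ⊗ β` acts on the first factor alone. -/
theorem Ovr.fix_shape {x : GL (α × β) F} (hx : x ∈ M) (hk : IsKron x) {a : α → F} (ha : a ≠ 0)
    (hfix : ∀ y, (x : Mn) *ᵥ tmul a y = tmul a y) :
    ∃ P : Ma, P *ᵥ a = a ∧ (∀ u v, (x : Mn) *ᵥ tmul u v = tmul (P *ᵥ u) v) ∧
      ∀ u u', fA (P *ᵥ u) (P *ᵥ u') = fA u u' := by
  obtain ⟨A, B, hAB⟩ := hk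
  have hap : ∀ u v, (x : Mn) *ᵥ tmul u v = tmul ((A : Ma) *ᵥ u) ((B : Mb) *ᵥ v) := fun u v => by
    rw [hAB, kronecker_mulVec]
  have hAa : (A : Ma) *ᵥ a ≠ 0 := fun e => ha (gl_mulVec_injective A (e.trans (Matrix.mulVec_zero _).symm))
  obtain ⟨ξ, hξ⟩ := TensorMax.exists_dual hAa
  obtain ⟨c, hc⟩ : ∃ c, c = ξ ⬝ᵥ a := ⟨_, rfl⟩
  have hB : ∀ v, (B : Mb) *ᵥ v = c • v := fun v => by
    have h1 := congrArg (lslice ξ) (hfix v)
    rw [hap, lslice_tmul, lslice_tmul, hξ, one_smul, ← hc] at h1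
    exact h1
  have hxP : ∀ u v, (x : Mn) *ᵥ tmul u v = tmul ((c • (A : Ma)) *ᵥ u) v := fun u v => by
    rw [hap, hB, Matrix.smul_mulVec, tmul_smul_left, tmul_smul_right]
  obtain ⟨w, -, hww⟩ : ∃ w ∈ (⊤ : Submodule F (β → F)), fB w w ≠ 0 := by
    obtain ⟨j⟩ : Nonempty β := Fintype.card_pos_iff.1 (by have := hO.hb; omega)
    exact hO.hB.exists_aniso hO.two hO.hB.ndOn_top ⟨Pi.single j 1, trivial, by simp⟩
  have hw0 : w ≠ 0 := fun e => hww (by rw [e, hO.hB.zero_left])
  refine ⟨c • (A : Ma), fac_injective hw0 ((hxP a w).symm.trans (hfix w)), hxP, fun u u' => ?_⟩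
  have h1 := hO.isoM hx (tmul u w) (tmul u' w)
  rw [hxP, hxP, hO.ten, hO.ten] at h1
  exact mul_right_cancel₀ hww h1

omit hN in
/-- A `p`-element of the orthogonal group of three variables fixing an anisotropic vector is one. -/
theorem Ovr.fix_unipotent (h3 : Fintype.card α = 3) {p : ℕ} [Fact p.Prime] [CharP F p] {P : Ma} (hp : P ^ p = 1)
    {a : α → F} (ha : fA a a ≠ 0) (hPa : P *ᵥ a = a) (hP : ∀ u u', fA (P *ᵥ u) (P *ᵥ u') = fA u u') : P = 1 := by
  have hA := hO.hA
  have h2 := hO.two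
  haveI : Nonempty α := hO.nonempty
  obtain ⟨N, hN⟩ : ∃ N : Ma, N = P - 1 := ⟨_, rfl⟩
  have hNp : N ^ p = 0 := by
    rw [hN, sub_pow_char_of_commute (p := p) (h := Commute.one_right _), one_pow, hp, sub_self]
  have hNa : N *ᵥ a = 0 := by rw [hN, Matrix.sub_mulVec, Matrix.one_mulVec, hPa, sub_self]
  have hP' : ∀ v, P *ᵥ v = v + N *ᵥ v := fun v => by
    rw [hN, Matrix.sub_mulVec, Matrix.one_mulVec, add_sub_cancel]
  suffices hker : ∀ v, N *ᵥ (N *ᵥ v) = 0 → N *ᵥ v = 0 by
    have hall : ∀ k, (∀ v, (N ^ (k + 1)) *ᵥ v = 0) → ∀ v, N *ᵥ v = 0 := by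
      intro k
      induction k with
      | zero => intro h v; simpa using h v
      | succ k ih =>
        intro h
        refine ih fun v => ?_
        rw [pow_succ', ← Matrix.mulVec_mulVec]
        refine hker _ ?_
        rw [Matrix.mulVec_mulVec, Matrix.mulVec_mulVec, ← pow_two, ← pow_add,
          show 2 + k = k + 1 + 1 by omega]
        exact h v
    have hp1 := (Fact.out : p.Prime).pos
    have h0 := hall (p - 1) (fun v => by rw [Nat.sub_add_cancel hp1, hNp, Matrix.zero_mulVec])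
    exact sub_eq_zero.1 (hN ▸ Matrix.ext_iff_mulVec.2 fun v => by rw [h0, Matrix.zero_mulVec])
  intro v hv
  obtain ⟨w, hw⟩ : ∃ w, w = v - (fA v a / fA a a) • a := ⟨_, rfl⟩
  obtain ⟨l, hl⟩ : ∃ l, l = N *ᵥ v := ⟨_, rfl⟩
  have hNw : N *ᵥ w = l := by rw [hw, Matrix.mulVec_sub, Matrix.mulVec_smul, hNa, smul_zero, sub_zero, hl]
  rw [← hl] at hv ⊢
  have hwa : fA w a = 0 := by rw [hw, hA.sub_left, hA.smul_left, div_mul_cancel₀ _ ha, sub_self]
  have hla : fA l a = 0 := by
    have h1 := hP w a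
    rw [hP', hPa, hNw, hA.add_left] at h1
    linear_combination h1
  have hll : fA l l = 0 := by
    have h1 := hP w l
    rw [hP', hP', hNw, hv, add_zero, hA.add_left] at h1
    linear_combination h1
  have hlw : fA l w = 0 := by
    have h1 := hP w w
    rw [hP', hNw, hA.add_left, hA.add_right, hA.add_right, hll, hA.symm w l, add_zero] at h1
    exact (mul_eq_zero.1 (show (2 : F) * fA l w = 0 by linear_combination h1)).resolve_left h2
  by_contra hl0
  have hli : LinearIndependent F ![a, w, l] := by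
    refine Fintype.linearIndependent_iff.2 fun g hg i => ?_
    rw [Fin.sum_univ_three] at hg
    simp only [Matrix.cons_val_zero, Matrix.cons_val_one, Matrix.cons_val] at hg
    have k1 := congrArg (fun t => N *ᵥ t) hg
    simp only [Matrix.mulVec_add, Matrix.mulVec_smul, hNa, hNw, hv, smul_zero, zero_add, add_zero,
      Matrix.mulVec_zero, smul_eq_zero, hl0, or_false] at k1
    have k0 := congrArg (fun t => fA t a) hg
    simp only [hA.add_left, hA.smul_left, hA.zero_left, k1, hla, mul_zero, zero_mul, add_zero] at k0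
    have e0 := (mul_eq_zero.1 k0).resolve_right ha
    rw [e0, k1, zero_smul, zero_smul, zero_add, zero_add] at hg
    fin_cases i
    exacts [e0, k1, (smul_eq_zero.1 hg).resolve_right hl0]
  refine hl0 (hA.eq_zero l fun t => ?_)
  have htop : Submodule.span F (Set.range ![a, w, l]) = ⊤ :=
    hli.span_eq_top_of_card_eq_finrank' (by rw [Fintype.card_fin, Module.finrank_fintype_fun_eq_card, h3])
  obtain ⟨g, hg⟩ := (Submodule.mem_span_range_iff_exists_fun F).1 (htop ▸ Submodule.mem_top : t ∈ _)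
  rw [← hg, Fin.sum_univ_three]
  simp only [Matrix.cons_val_zero, Matrix.cons_val_one, Matrix.cons_val, hA.add_left, hA.smul_left, hll,
    hA.symm a l, hla, hA.symm w l, hlw, mul_zero, add_zero]

/-- The centraliser of a half turn consists of products. -/
theorem Ovr.cent_half (h4 : Fintype.card β = 4) (h3 : Fintype.card α = 3) {R : GL (α × β) F} {a : α → F}
    (hR : IsRm fA R a) (ha : fA a a ≠ 0) {g : GL (α × β) F} (hg : g ∈ M) (hc : g * R = R * g) : IsKron g := by
  classical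
  have hs := hO.hB
  have h2 := hO.two
  have ha0 : a ≠ 0 := fun e => ha (by rw [e, hO.hA.zero_left])
  obtain ⟨p, hp⟩ := CharP.exists F
  haveI := hp
  haveI : Fact p.Prime := ⟨(CharP.char_is_prime_or_zero F p).resolve_right (CharP.char_ne_zero_of_finite F p)⟩
  let X : Subgroup (GL (α × β) F) :=
    { carrier := {x | x ∈ M ∧ x * R = R * x ∧ ∀ y, (x : Mn) *ᵥ tmul a y = tmul a y}
      mul_mem' := fun {x x'} h h' => ⟨mul_mem h.1 h'.1, (Commute.mul_left h.2.1 h'.2.1 : Commute (x * x') R),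
        fun y => by rw [Units.val_mul, ← Matrix.mulVec_mulVec, h'.2.2, h.2.2]⟩
      one_mem' := ⟨one_mem M, by rw [one_mul, mul_one], fun y => by simp⟩
      inv_mem' := fun {x} h => ⟨inv_mem h.1, (Commute.inv_left h.2.1 : Commute x⁻¹ R), fun y => by
        conv_lhs => rw [← h.2.2 y, inv_mulVec_cancel]⟩ }
  obtain ⟨z, u, hz, huu, hu⟩ := hs.exists_hyp h2 (by omega)
  have hz0 : z ≠ 0 := fun e => one_ne_zero (by rw [← hu, e, hs.zero_right])
  obtain ⟨U, hUM, hUc, hUn, hUp, hUel⟩ := hO.exists_unipotent h4 (p := p) hz huu hu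
  haveI := hUc
  have hUR : ∀ e ∈ U, Commute e R := fun e he => by
    obtain ⟨w, -, -, hel⟩ := hUel e he
    refine ext_kron fun x y => ?_
    rw [Units.val_mul, Units.val_mul, ← Matrix.mulVec_mulVec, ← Matrix.mulVec_mulVec, hR.apply_tmul hO, hel, hel,
      hR.apply_tmul hO]
  have hUX : U ≤ Subgroup.normalizer (X : Set (GL (α × β) F)) := by
    have key : ∀ e ∈ U, ∀ x ∈ X, e * x * e⁻¹ ∈ X := fun e he x hx => by
      refine ⟨mul_mem (mul_mem (hUM he) hx.1) (inv_mem (hUM he)),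
        (((hUR e he).mul_left hx.2.1).mul_left (hUR e he).inv_left : Commute (e * x * e⁻¹) R), fun y => ?_⟩
      obtain ⟨w, -, -, hel⟩ := hUel _ (inv_mem he)
      rw [Units.val_mul, Units.val_mul, ← Matrix.mulVec_mulVec, ← Matrix.mulVec_mulVec, hel, hx.2.2, ← hel,
        mulVec_inv_cancel]
    intro e he
    rw [Subgroup.mem_normalizer_iff]
    exact fun x => ⟨key e he x, fun hx => by simpa [mul_assoc] using key _ (inv_mem he) _ hx⟩
  have haniso : ∀ e ∈ U, e ≠ 1 → ∀ x ∈ X, x * e = e * x → IsKron x := fun e he he1 x hx hxe => by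
    obtain ⟨w, hwz, hwu, hel⟩ := hUel e he
    refine hO.cent_kron hN hx.1 hz hz0 hwz (fun h => he1 ?_) hel hxe
    have := hO.aniso_middle h4 hz hu hwu hwz h
    subst this
    exact hel.zero hO
  have hunip : ∀ x ∈ X, IsKron x → x ^ p = 1 → x = 1 := fun x hx hxk hxp => by
    obtain ⟨P, hPa, hxP, hPi⟩ := hO.fix_shape hx.1 hxk ha0 hx.2.2
    obtain ⟨y, hy⟩ := hO.exists_ne_zero h4
    have hpow : ∀ n, ∀ v, ((x ^ n : GL (α × β) F) : Mn) *ᵥ tmul v y = tmul ((P ^ n) *ᵥ v) y := by
      intro n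
      induction n with
      | zero => intro v; simp
      | succ n ih =>
        intro v
        rw [pow_succ', Units.val_mul, ← Matrix.mulVec_mulVec, ih, hxP, Matrix.mulVec_mulVec, ← pow_succ']
    have hPp : P ^ p = 1 := Matrix.ext_iff_mulVec.2 fun v => fac_injective hy (by
      show tmul _ y = tmul _ y
      rw [← hpow, hxp, Units.val_one, Matrix.one_mulVec, Matrix.one_mulVec])
    have hP1 := hO.fix_unipotent h3 hPp ha hPa hPi
    exact ext_kron fun v w => by rw [hxP, hP1, Units.val_one, Matrix.one_mulVec, Matrix.one_mulVec]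
  have hXp : ¬ p ∣ Nat.card X := fun hd => by
    obtain ⟨x, hx, hx1, hxp, hxc⟩ := exists_comm_of_prime_dvd hUp hUX hd
    obtain ⟨e, he, he1⟩ : ∃ e ∈ U, e ≠ 1 := by
      by_contra h
      push Not at h
      rw [(Subgroup.eq_bot_iff_forall U).2 h] at hUn
      exact hUn inferInstance
    exact hx1 (hunip x hx (haniso e he he1 x hx (hxc e he).symm) hxp)
  have hcop : (Nat.card U).Coprime (Nat.card X) := by
    obtain ⟨n, hn⟩ := IsPGroup.iff_card.1 hUp
    rw [hn]
    exact Nat.Coprime.pow_left n ((Fact.out : p.Prime).coprime_iff_not_dvd.2 hXp)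
  have hXk : ∀ x ∈ X, IsKron x := by
    let Kr : Subgroup (GL (α × β) F) :=
      { carrier := {x | IsKron x}
        mul_mem' := fun h h' => IsKron.mul h h'
        one_mem' := kg_one (α := α) (β := β) (F := F) ▸ kg_isKron _ _
        inv_mem' := fun h => h.inv }
    intro x hx
    have hle : X ≤ Kr := by
      rw [← Grp.generated_by_centralizers U X hUn hUX hcop]
      refine iSup₂_le fun e he => ?_
      rintro x ⟨hx, hxe⟩
      exact haniso e he.1 he.2 x hx (Subgroup.mem_centralizer_iff.1 hxe e rfl).symm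
    exact hle hx
  -- the action on `a ⊗ β`
  have hga : ∀ y, (g : Mn) *ᵥ tmul a y = tmul a ((fA a a)⁻¹ • la fA a ((g : Mn) *ᵥ tmul a y)) := fun y =>
    hR.eq_of_fix hO (by
      rw [Matrix.mulVec_mulVec, ← Units.val_mul, ← hc, Units.val_mul, ← Matrix.mulVec_mulVec, hR.self hO ha])
  let L : (β → F) →ₗ[F] (β → F) := (fA a a)⁻¹ • (la fA a).comp ((Matrix.toLin' (g : Mn)).comp
    ((LinearMap.mk₂ F (fun (u : α → F) (w : β → F) => tmul u w) tmul_add_left tmul_smul_left
      tmul_add_right (fun k u w => tmul_smul_right k u w)) a))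
  have hL : ∀ y, (g : Mn) *ᵥ tmul a y = tmul a (L y) := hga
  obtain ⟨Q, hQ⟩ := exists_gl_of_injective L fun y y' e => by
    have h1 := gl_mulVec_injective g (show (g : Mn) *ᵥ tmul a y = (g : Mn) *ᵥ tmul a y' by rw [hL, hL, e])
    obtain ⟨ξ, hξ⟩ := TensorMax.exists_dual ha0
    have h3' := congrArg (lslice ξ) h1
    rwa [lslice_tmul, lslice_tmul, hξ, one_smul, one_smul] at h3'
  have hgQ : ∀ y, (g : Mn) *ᵥ tmul a y = tmul a ((Q : Mb) *ᵥ y) := fun y => by rw [hQ, hL]
  have hQi : ∀ y y', fB ((Q : Mb) *ᵥ y) ((Q : Mb) *ᵥ y') = fB y y' := fun y y' => by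
    have h1 := hO.isoM hg (tmul a y) (tmul a y')
    rw [hgQ, hgQ, hO.ten, hO.ten] at h1
    exact mul_left_cancel₀ ha h1
  have hRkg : ∀ B : GL β F, kg (1 : GL α F) B * R = R * kg (1 : GL α F) B := fun B => ext_kron fun x y => by
    simp only [Units.val_mul, ← Matrix.mulVec_mulVec, kg_apply, hR.apply_tmul hO, Units.val_one, Matrix.one_mulVec]
  -- normalising the second factor
  have hnorm : ∀ B ∈ siegGrp fB, g * kg (1 : GL α F) B = kg (1 : GL α F) (Q * B * Q⁻¹) * g := by
    intro B hB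
    induction hB using Subgroup.closure_induction with
    | mem B hB =>
      obtain ⟨c, w, hcc, hwc, hBx⟩ := hB
      have hB' : IsSieg fB (Q * B * Q⁻¹) ((Q : Mb) *ᵥ c) ((Q : Mb) *ᵥ w) := fun y => by
        obtain ⟨y', rfl⟩ : ∃ y', (Q : Mb) *ᵥ y' = y := ⟨_, mulVec_inv_cancel Q y⟩
        rw [Units.val_mul, Units.val_mul, ← Matrix.mulVec_mulVec, ← Matrix.mulVec_mulVec, inv_mulVec_cancel, hBx,
          Matrix.mulVec_sub, Matrix.mulVec_sub, Matrix.mulVec_add, Matrix.mulVec_smul, Matrix.mulVec_smul,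
          Matrix.mulVec_smul, hQi, hQi, hQi]
      have hBm : B ∈ siegGrp fB := Subgroup.subset_closure ⟨c, w, hcc, hwc, hBx⟩
      have hB'm : Q * B * Q⁻¹ ∈ siegGrp fB := Subgroup.subset_closure
        ⟨_, _, by rw [hQi, hcc], by rw [hQi, hwc], hB'⟩
      obtain ⟨b, hb⟩ : ∃ b, b = kg (1 : GL α F) B := ⟨_, rfl⟩
      obtain ⟨b', hb'⟩ : ∃ b', b' = kg (1 : GL α F) (Q * B * Q⁻¹) := ⟨_, rfl⟩
      have hbM : b ∈ M := hb ▸ hO.kB hBm
      have hb'M : b' ∈ M := hb' ▸ hO.kB hB'm
      rw [← hb, ← hb']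
      obtain ⟨x, hx⟩ : ∃ x, x = g * b * g⁻¹ * b'⁻¹ := ⟨_, rfl⟩
      have hbR : Commute b R := hb ▸ hRkg B
      have hb'R : Commute b' R := hb' ▸ hRkg _
      have hxX : x ∈ X := by
        refine ⟨hx ▸ mul_mem (mul_mem (mul_mem hg hbM) (inv_mem hg)) (inv_mem hb'M),
          (hx ▸ ((((show Commute g R from hc).mul_left hbR).mul_left (show Commute g R from hc).inv_left).mul_left
            hb'R.inv_left) : Commute x R), fun y => ?_⟩
        obtain ⟨y', rfl⟩ : ∃ y', ((Q * B * Q⁻¹ : GL β F) : Mb) *ᵥ y' = y := ⟨_, mulVec_inv_cancel _ y⟩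
        have e1 : (b' : Mn) *ᵥ tmul a y' = tmul a (((Q * B * Q⁻¹ : GL β F) : Mb) *ᵥ y') := by
          rw [hb', kg_apply, Units.val_one, Matrix.one_mulVec]
        have e2 : ((g⁻¹ : GL (α × β) F) : Mn) *ᵥ tmul a y' = tmul a (((Q⁻¹ : GL β F) : Mb) *ᵥ y') := by
          apply gl_mulVec_injective g
          show (g : Mn) *ᵥ _ = (g : Mn) *ᵥ _
          rw [mulVec_inv_cancel, hgQ, mulVec_inv_cancel]
        rw [hx, Units.val_mul, Units.val_mul, Units.val_mul, ← Matrix.mulVec_mulVec, ← Matrix.mulVec_mulVec,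
          ← Matrix.mulVec_mulVec, ← e1, inv_mulVec_cancel, e2, hb, kg_apply, Units.val_one, Matrix.one_mulVec, hgQ,
          e1, Units.val_mul, Units.val_mul, ← Matrix.mulVec_mulVec, ← Matrix.mulVec_mulVec]
      have hxk := hXk x hxX
      obtain ⟨P, -, hxP, -⟩ := hO.fix_shape hxX.1 hxk ha0 hxX.2.2
      have hxb : Commute x b' := by
        refine ext_kron fun v y => ?_
        simp only [hb', Units.val_mul, ← Matrix.mulVec_mulVec, kg_apply, hxP, Units.val_one, Matrix.one_mulVec]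
      have hBp : ∀ {B : GL β F} {c w : β → F}, fB c c = 0 → fB w c = 0 → IsSieg fB B c w → B ^ p = 1 :=
        fun {B c w} h1 h1' hBs => pow_char_eq_one h2 (Matrix.ext_iff_mulVec.2 fun v => by
          rw [pow_succ, pow_two, ← Matrix.mulVec_mulVec, ← Matrix.mulVec_mulVec, hs.sieg_cube h2 hBs h1 h1',
            Matrix.zero_mulVec])
      have hbp : b ^ p = 1 := by
        rw [hb, ← kg_pow, one_pow, hBp hcc hwc hBx, kg_one]
      have hb'p : b' ^ p = 1 := by
        rw [hb', ← kg_pow, one_pow, hBp (by rw [hQi, hcc]) (by rw [hQi, hwc]) hB', kg_one]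
      have hxp : x ^ p = 1 := by
        have e : x * b' = g * b * g⁻¹ := by rw [hx, inv_mul_cancel_right]
        have h1 := congrArg (· ^ p) e
        simp only [hxb.mul_pow, conj_pow, hbp, hb'p, mul_one, mul_inv_cancel] at h1
        exact h1
      have := hunip x hxX hxk hxp
      rw [hx, mul_inv_eq_one, mul_inv_eq_iff_eq_mul] at this
      exact this
    | one =>
      rw [mul_one Q, mul_inv_cancel, kg_one, mul_one, one_mul]
    | mul B B' _ _ hB hB' =>
      have e : Q * (B * B') * Q⁻¹ = (Q * B * Q⁻¹) * (Q * B' * Q⁻¹) := by group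
      rw [e, show kg (1 : GL α F) (B * B') = kg 1 B * kg 1 B' by rw [← kg_mul, one_mul],
        show kg (1 : GL α F) ((Q * B * Q⁻¹) * (Q * B' * Q⁻¹)) = kg 1 (Q * B * Q⁻¹) * kg 1 (Q * B' * Q⁻¹) by
          rw [← kg_mul, one_mul], ← mul_assoc, hB, mul_assoc, hB', ← mul_assoc]
    | inv B _ hB =>
      have e : Q * B⁻¹ * Q⁻¹ = (Q * B * Q⁻¹)⁻¹ := by group
      have hinv : ∀ C : GL β F, kg (1 : GL α F) C⁻¹ = (kg 1 C)⁻¹ := fun C =>
        eq_inv_of_mul_eq_one_right (by rw [← kg_mul, one_mul, mul_inv_cancel, kg_one])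
      rw [e, hinv, hinv, eq_inv_mul_iff_mul_eq, ← mul_assoc, ← hB, mul_inv_cancel_right]
  -- the element is a product
  obtain ⟨k, hk⟩ : ∃ k, k = kg (1 : GL α F) Q⁻¹ * g := ⟨_, rfl⟩
  have hkcomm : ∀ B ∈ siegGrp fB, ∀ x y, (k : Mn) *ᵥ tmul x ((B : Mb) *ᵥ y) =
      (kg (1 : GL α F) B : Mn) *ᵥ ((k : Mn) *ᵥ tmul x y) := fun B hB x y => by
    have e : k * kg (1 : GL α F) B = kg 1 B * k := by
      rw [hk, mul_assoc, hnorm B hB, ← mul_assoc, ← kg_mul, one_mul, ← mul_assoc (kg 1 B), ← kg_mul, one_mul]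
      congr 2
      group
    rw [Matrix.mulVec_mulVec, ← Units.val_mul, ← e, Units.val_mul, ← Matrix.mulVec_mulVec, kg_apply, Units.val_one,
      Matrix.one_mulVec]
  have hlk : ∀ (B : GL β F) ξ t, lslice ξ ((kg (1 : GL α F) B : Mn) *ᵥ t) = (B : Mb) *ᵥ lslice ξ t := fun B ξ t => by
    refine LinearMap.congr_fun (f := (lslice ξ).comp (Matrix.toLin' (kg (1 : GL α F) B : Mn)))
      (g := (Matrix.toLin' (B : Mb)).comp (lslice ξ)) (ext_pure fun x y => ?_) t
    simp only [LinearMap.comp_apply, Matrix.toLin'_apply, kg_apply, lslice_tmul, Matrix.mulVec_smul, Units.val_one,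
      Matrix.one_mulVec]
  have hsc : ∀ (x : α → F) (i : α), ∃ c : F, ∀ y j, ((k : Mn) *ᵥ tmul x y) (i, j) = c * y j := by
    intro x i
    let T : (β → F) →ₗ[F] (β → F) :=
      (lslice (Pi.single i 1)).comp ((Matrix.toLin' (k : Mn)).comp
        ((LinearMap.mk₂ F (fun (u : α → F) (w : β → F) => tmul u w) tmul_add_left tmul_smul_left
          tmul_add_right (fun k u w => tmul_smul_right k u w)) x))
    have hT : ∀ y, T y = lslice (Pi.single i 1) ((k : Mn) *ᵥ tmul x y) := fun y => rfl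
    obtain ⟨c, hc'⟩ := scalar_of_sieg_comm hs h2 (by omega) T fun B hB y => by
      rw [hT, hT, hkcomm B hB, hlk]
    refine ⟨c, fun y j => ?_⟩
    have := congrFun (hc' y) j
    simpa [hT, lslice, Pi.single_apply] using this
  choose C hC using hsc
  have hkP : ∀ x y, (k : Mn) *ᵥ tmul x y = tmul (fun i => C x i) y := fun x y => funext fun q => hC x q.1 y q.2
  obtain ⟨y₀, hy₀⟩ := hO.exists_ne_zero h4
  obtain ⟨ψ, hψ⟩ := TensorMax.exists_dual hy₀
  obtain ⟨P, hP⟩ := exists_gl_of_injective ((slice ψ).comp ((Matrix.toLin' (k : Mn)).comp (fac y₀))) fun v v' e => by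
    simp only [LinearMap.comp_apply, Matrix.toLin'_apply, fac_apply, hkP, slice_tmul, hψ, one_smul] at e
    exact fac_injective hy₀ (gl_mulVec_injective k (by
      show (k : Mn) *ᵥ tmul v y₀ = (k : Mn) *ᵥ tmul v' y₀
      rw [hkP, hkP, e]))
  refine isKron_of_apply P Q fun x y => ?_
  have e1 : g = kg (1 : GL α F) Q * k := by rw [hk, ← mul_assoc, ← kg_mul, one_mul, mul_inv_cancel, kg_one, one_mul]
  rw [e1, Units.val_mul, ← Matrix.mulVec_mulVec, hkP, kg_apply, Units.val_one, Matrix.one_mulVec, hP,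
    LinearMap.comp_apply, LinearMap.comp_apply, fac_apply, Matrix.toLin'_apply, hkP, slice_tmul, hψ, one_smul]

end Cfsg.Agent.Classical.TensorOrth
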