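import Cfsg.Agent.Lib.Classical.MaxTensorOrthBase
import Mathlib.RingTheory.Nilpotent.Lemmas

/-!
Endomorphisms of an orthogonal space under conjugation by Siegel maps: a commuting family of self-adjoint maps
closed under conjugation is scalar, and an invariant space of skew maps contains one of rank two.
-/

set_option autoImplicit false
set_option linter.unusedSectionVars false

namespace Cfsg.Agent.Classical.TensorOrth

open Matrix Module MaxTv

/-- A commuting family of nilpotent operators fixes something outside `K` modulo `K`. -/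
theorem exists_fixed_mod {k X B : Type*} [Field k] [AddCommGroup X] [Module k X] [Fintype B]
    {T K : Submodule k X} {S₀ : X} (hS : S₀ ∈ T) (hS' : S₀ ∉ K) (op : B → Module.End k X)
    (hcomm : ∀ i j, Commute (op i) (op j)) (hT : ∀ i, ∀ S ∈ T, op i S ∈ T) (hK : ∀ i, ∀ S ∈ K, op i S ∈ K)
    (hnil : ∀ i, IsNilpotent (op i)) : ∃ S ∈ T, S ∉ K ∧ ∀ i, op i S ∈ K := by
  classical
  suffices key : ∀ s : Finset B, ∃ S ∈ T, S ∉ K ∧ ∀ i ∈ s, op i S ∈ K by
    obtain ⟨S, h1, h2, h3⟩ := key Finset.univ
    exact ⟨S, h1, h2, fun i => h3 i (Finset.mem_univ i)⟩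
  intro s
  induction s using Finset.induction_on with
  | empty => exact ⟨S₀, hS, hS', fun i hi => absurd hi (Finset.notMem_empty i)⟩
  | insert i s _ ih =>
    obtain ⟨S, h1, h2, h3⟩ := ih
    obtain ⟨N, hN⟩ := hnil i
    have hex : ∃ m, (op i ^ m) S ∈ K := ⟨N, by rw [hN]; exact K.zero_mem⟩
    obtain ⟨m, hm⟩ : ∃ m, Nat.find hex = m + 1 := Nat.exists_eq_succ_of_ne_zero fun h0 => h2 (by
      have := Nat.find_spec hex
      rwa [h0, pow_zero] at this)
    refine ⟨(op i ^ m) S, ?_, Nat.find_min hex (by omega), fun j hj => ?_⟩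
    · clear hm
      induction m with
      | zero => rwa [pow_zero]
      | succ m ihm => rw [pow_succ', Module.End.mul_apply]; exact hT i _ ihm
    rcases Finset.mem_insert.1 hj with rfl | hj
    · have := Nat.find_spec hex
      rwa [hm, pow_succ', Module.End.mul_apply] at this
    · rw [← Module.End.mul_apply, ((hcomm j i).pow_right m).eq, Module.End.mul_apply]
      have hmap : ∀ (m : ℕ), ∀ S ∈ K, (op i ^ m) S ∈ K := fun m => by
        induction m with
        | zero => intro S hS; rwa [pow_zero]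
        | succ m ihm => intro S hS; rw [pow_succ', Module.End.mul_apply]; exact hK i _ (ihm S hS)
      exact hmap m _ (h3 j hj)

variable {F : Type*} [Field F] [Fintype F] {ι : Type} [Fintype ι] [DecidableEq ι]

local notation "V" => (ι → F)
local notation "Mn" => Matrix ι ι F
local notation "Ea" => ((ι → F) →ₗ[F] (ι → F))

/-- Conjugation of an endomorphism. -/
noncomputable def cj (g : GL ι F) : Module.End F ((ι → F) →ₗ[F] (ι → F)) :=
  LinearMap.mulLeft F (Matrix.toLin' (g : Mn) : Module.End F V) *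
    LinearMap.mulRight F (Matrix.toLin' ((g⁻¹ : GL ι F) : Mn) : Module.End F V)

theorem cj_apply (g : GL ι F) (T : Ea) (x : V) :
    cj g T x = (g : Mn) *ᵥ T (((g⁻¹ : GL ι F) : Mn) *ᵥ x) := rfl

theorem cj_mul (g h : GL ι F) (T : Ea) : cj (g * h) T = cj g (cj h T) := LinearMap.ext fun x => by
  rw [cj_apply, cj_apply, cj_apply, Units.val_mul, _root_.mul_inv_rev, Units.val_mul, Matrix.mulVec_mulVec,
    Matrix.mulVec_mulVec]

theorem cj_one (T : Ea) : cj (1 : GL ι F) T = T := LinearMap.ext fun x => by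
  rw [cj_apply]; simp

theorem cj_id (g : GL ι F) : cj g (LinearMap.id : Ea) = LinearMap.id := LinearMap.ext fun x => by
  rw [cj_apply, LinearMap.id_apply, LinearMap.id_apply, mulVec_inv_cancel]

theorem isNilpotent_cj_sub_one {g : GL ι F} (h : ∀ x, ((g : Mn) - 1) *ᵥ (((g : Mn) - 1) *ᵥ (((g : Mn) - 1) *ᵥ x)) = 0)
    (h' : ∀ x, (((g⁻¹ : GL ι F) : Mn) - 1) *ᵥ ((((g⁻¹ : GL ι F) : Mn) - 1) *ᵥ
      ((((g⁻¹ : GL ι F) : Mn) - 1) *ᵥ x)) = 0) :
    IsNilpotent (cj g - 1) := by
  obtain ⟨G, hG⟩ : ∃ G : Module.End F V, G = Matrix.toLin' (g : Mn) := ⟨_, rfl⟩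
  obtain ⟨H, hH⟩ : ∃ H : Module.End F V, H = Matrix.toLin' ((g⁻¹ : GL ι F) : Mn) := ⟨_, rfl⟩
  have e : cj g - 1 = LinearMap.mulLeft F (G - 1) * LinearMap.mulRight F H + LinearMap.mulRight F (H - 1) := by
    rw [hG, hH]
    refine LinearMap.ext fun T => LinearMap.ext fun x => ?_
    simp [cj, Module.End.mul_apply, mul_sub, sub_mul, Matrix.mulVec_mulVec]
  have nil : ∀ k : GL ι F, (∀ x, ((k : Mn) - 1) *ᵥ (((k : Mn) - 1) *ᵥ (((k : Mn) - 1) *ᵥ x)) = 0) →
      IsNilpotent ((Matrix.toLin' (k : Mn) : Module.End F V) - 1) := fun k hk => ⟨3, by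
    have h3 : ((k : Mn) - 1) ^ 3 = 0 := Matrix.ext_iff_mulVec.2 fun x => by
      rw [pow_succ, pow_two, ← Matrix.mulVec_mulVec, ← Matrix.mulVec_mulVec, hk, Matrix.zero_mulVec]
    have := congrArg (Matrix.toLinAlgEquiv' (R := F) (n := ι)) h3
    rwa [map_pow, map_sub, map_one, map_zero] at this⟩
  have n1 : IsNilpotent (G - 1) := hG ▸ nil g h
  have n2 : IsNilpotent (H - 1) := hH ▸ nil g⁻¹ h'
  have hl : IsNilpotent (LinearMap.mulLeft F (G - 1)) := by
    obtain ⟨k, hk⟩ := n1
    exact ⟨k, by rw [LinearMap.pow_mulLeft, hk, LinearMap.mulLeft_zero_eq_zero]⟩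
  have hr : IsNilpotent (LinearMap.mulRight F (H - 1)) := by
    obtain ⟨k, hk⟩ := n2
    exact ⟨k, by rw [LinearMap.pow_mulRight, hk, LinearMap.mulRight_zero_eq_zero]⟩
  have c1 : Commute (LinearMap.mulLeft F (G - 1)) (LinearMap.mulRight F H) :=
    LinearMap.commute_mulLeft_right _ _
  have c2 : Commute (LinearMap.mulLeft F (G - 1) * LinearMap.mulRight F H) (LinearMap.mulRight F (H - 1)) := by
    refine (LinearMap.commute_mulLeft_right _ _).mul_left ?_
    refine LinearMap.ext fun T => ?_
    show (T * (H - 1)) * H = (T * H) * (H - 1)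
    rw [mul_assoc, mul_assoc]
    congr 1
    rw [sub_mul, mul_sub, one_mul, mul_one]
  rw [e]
  exact c2.isNilpotent_add (c1.isNilpotent_mul_right hl) hr

variable {f : (ι → F) → (ι → F) → F} (hs : Sym f) (h2 : (2 : F) ≠ 0)
include hs h2

theorem cj_sieg_commute {g g' : GL ι F} {a w w' : V} (hg : IsSieg f g a w) (hg' : IsSieg f g' a w')
    (ha : f a a = 0) (hw : f w a = 0) (hw' : f w' a = 0) : Commute (cj g - 1) (cj g' - 1) := by
  have h := hs.sieg_commute h2 hg hg' ha hw hw'
  have : Commute (cj g) (cj g') := LinearMap.ext fun T => by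
    rw [Module.End.mul_apply, Module.End.mul_apply, ← cj_mul, ← cj_mul, h]
  refine LinearMap.ext fun T => ?_
  simp only [Module.End.mul_apply, LinearMap.sub_apply, Module.End.one_apply, map_sub]
  rw [← Module.End.mul_apply, this.eq, Module.End.mul_apply]
  abel

omit h2 in
theorem cj_adj {g : GL ι F} (hg : g ∈ iso f) {T : Ea} (hT : ∀ x y, f (T x) y = f x (T y)) (x y : V) :
    f (cj g T x) y = f x (cj g T y) := by
  conv_lhs => rw [cj_apply, ← mulVec_inv_cancel g y, hg, hT]
  conv_rhs => rw [cj_apply, ← mulVec_inv_cancel g x, hg]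

theorem sieg_inv_cube {g : GL ι F} {a w : V} (hg : IsSieg f g a w) (ha : f a a = 0) (hw : f w a = 0) (x : V) :
    (((g⁻¹ : GL ι F) : Mn) - 1) *ᵥ ((((g⁻¹ : GL ι F) : Mn) - 1) *ᵥ ((((g⁻¹ : GL ι F) : Mn) - 1) *ᵥ x)) = 0 := by
  have hw' : f (-w) a = 0 := by rw [hs.neg_left, hw, neg_zero]
  obtain ⟨k, -, hk⟩ := hs.exists_sieg h2 ha hw'
  have e : g⁻¹ = k := inv_eq_of_mul_eq_one_right (hs.sieg_mul h2 hg hk (fun x => by
    rw [add_neg_cancel, hs.zero_right, hs.zero_left, smul_zero, zero_smul, zero_div, zero_mul, zero_smul,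
      Units.val_one, Matrix.one_mulVec, add_zero, sub_zero, sub_zero]) ha hw hw')
  rw [e]
  exact hs.sieg_cube h2 hk ha hw' x

/-- Stepping from the fixed vectors of all Siegel maps at one point. -/
theorem exists_sieg_fixed {a : V} (ha : f a a = 0) {T K : Submodule F ((ι → F) →ₗ[F] (ι → F))} {S₀ : Ea}
    (hS : S₀ ∈ T) (hS' : S₀ ∉ K) (hT : ∀ g ∈ siegGrp f, ∀ S ∈ T, cj g S ∈ T)
    (hK : ∀ g ∈ siegGrp f, ∀ S ∈ K, cj g S ∈ K) :
    ∃ S ∈ T, S ∉ K ∧ ∀ w g, f w a = 0 → IsSieg f g a w → cj g S - S ∈ K := by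
  classical
  haveI : Fintype {w : V // f w a = 0} := Fintype.ofFinite _
  choose g hgi hg using fun i : {w : V // f w a = 0} => hs.exists_sieg h2 ha i.2
  have hmem : ∀ i, g i ∈ siegGrp f := fun i => Subgroup.subset_closure ⟨a, i.1, ha, i.2, hg i⟩
  obtain ⟨S, h1, h3, h4⟩ := exists_fixed_mod hS hS' (fun i => cj (g i) - 1)
    (fun i j => cj_sieg_commute hs h2 (hg i) (hg j) ha i.2 j.2)
    (fun i S hS => by rw [LinearMap.sub_apply, Module.End.one_apply]; exact sub_mem (hT _ (hmem i) S hS) hS)
    (fun i S hS => by rw [LinearMap.sub_apply, Module.End.one_apply]; exact sub_mem (hK _ (hmem i) S hS) hS)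
    (fun i => isNilpotent_cj_sub_one (hs.sieg_cube h2 (hg i) ha i.2) (sieg_inv_cube hs h2 (hg i) ha i.2))
  refine ⟨S, h1, h3, fun w k hw hk => ?_⟩
  rw [show k = g ⟨w, hw⟩ from hs.sieg_unique hk (hg ⟨w, hw⟩)]
  exact h4 ⟨w, hw⟩

/-- A self-adjoint map fixed by all Siegel maps at `a` modulo scalars. -/
theorem fixed_shape (hn : 3 ≤ Fintype.card ι) (hex : ¬ (Fintype.card F = 3 ∧ Fintype.card ι = 3)) {a d : V}
    (haa : f a a = 0) (hdd : f d d = 0) (hda : f d a = 1) {S : Ea} (hsS : ∀ x y, f (S x) y = f x (S y))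
    (hS : ∀ w g, f w a = 0 → IsSieg f g a w → cj g S - S ∈ F ∙ (LinearMap.id : Ea)) :
    ∃ α δ : F, ∀ x, S x = α • x + (δ * f x a) • a := by
  have had : f a d = 1 := by rw [hs.symm, hda]
  -- the equations given by a Siegel map at `a`
  have key : ∀ b, f b a = 0 → ∃ μ : F, ∀ x,
      S x + f (S x) a • b - f (S x) b • a - (f b b / 2 * f (S x) a) • a =
        S x + f x a • S b - f x b • S a - (f b b / 2 * f x a) • S a +
          μ • (x + f x a • b - f x b • a - (f b b / 2 * f x a) • a) := by
    intro b hb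
    obtain ⟨g, -, hg⟩ := hs.exists_sieg h2 haa hb
    obtain ⟨μ, hμ⟩ := Submodule.mem_span_singleton.1 (hS b g hb hg)
    refine ⟨μ, fun x => ?_⟩
    have h1 := LinearMap.congr_fun hμ ((g : Mn) *ᵥ x)
    rw [LinearMap.smul_apply, LinearMap.id_apply, LinearMap.sub_apply, cj_apply, inv_mulVec_cancel] at h1
    rw [hg, hg] at h1
    simp only [map_add, map_sub, map_smul] at h1
    linear_combination (norm := module) -h1
  obtain ⟨v, hv⟩ : ∃ v, v = S a := ⟨_, rfl⟩
  -- `a` goes to a vector orthogonal to it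
  have hW0 : NdOn f (hs.perp2 d a) := hs.ndOn_perp2 hdd haa hda
  have hd0 := hs.finrank_perp2 d a
  obtain ⟨e, he, hee⟩ := hs.exists_aniso h2 hW0 (Submodule.exists_mem_ne_zero_of_ne_bot fun h => by
    rw [h, finrank_bot] at hd0; omega)
  have hed : f e d = 0 := he.1
  have hea : f e a = 0 := he.2
  have hva : f v a = 0 := by
    obtain ⟨μ, hμ⟩ := key e hea
    have h1 := congrArg (fun t => f t e) (hμ a)
    simp only [hs.add_left, hs.sub_left, hs.smul_left, haa, hs.symm a e, hea, ← hv] at h1
    refine (mul_eq_zero.1 (show f v a * f e e = 0 from ?_)).resolve_right hee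
    linear_combination h1
  -- the main relation
  have main : ∀ b c, f b a = 0 → f c a = 0 → ∃ t : F, f c v • b + f c b • v + f b v • c = t • a := by
    intro b c hb hc
    obtain ⟨μ, hμ⟩ := key b hb
    obtain ⟨μ', hμ'⟩ : ∃ r, r = μ := ⟨_, rfl⟩
    have hμv : μ = -f b v := by
      have h1 := congrArg (fun t => f t d) (hμ a)
      simp only [hs.add_left, hs.sub_left, hs.smul_left, haa, hs.symm a b, hb, ← hv, hva, had] at h1
      rw [hs.symm b v]
      linear_combination -h1
    have h1 := hμ c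
    rw [hc, show f (S c) a = f c v by rw [hv, hsS]] at h1
    refine ⟨f (S c) b + f b b / 2 * f c v + f b v * f c b, ?_⟩
    rw [hμv, ← hv] at h1
    linear_combination (norm := module) h1
  have hW0a : ∀ x ∈ hs.perp2 d a, f x a = 0 := fun x hx => hx.2
  obtain ⟨t₀, ht₀⟩ := main e e hea hea
  obtain ⟨r, hr⟩ : ∃ r, r = -(2 * f e v) / f e e := ⟨_, rfl⟩
  have hve : v = r • e + (t₀ / f e e) • a := by
    have : v = (f e e)⁻¹ • (t₀ • a - (2 * f e v) • e) := by
      rw [← ht₀, show f e v • e + f e e • v + f e v • e - (2 * f e v) • e = f e e • v by module, smul_smul,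
        inv_mul_cancel₀ hee, one_smul]
    rw [this, hr]
    match_scalars <;> field_simp
  have hr0 : r = 0 := by
    by_cases h4 : 4 ≤ Fintype.card ι
    · obtain ⟨e', he', hee'⟩ := hs.exists_aniso h2 (hs.ndOn_inf_ker hW0 he hee)
        (Submodule.exists_mem_ne_zero_of_ne_bot fun h => by
          have := finrank_le_inf_ker_add_one (hs.perp2 d a) (hs.lin e)
          rw [h, finrank_bot] at this; omega)
      have he'e : f e' e = 0 := he'.2
      obtain ⟨t₁, ht₁⟩ := main e' e' he'.1.2 he'.1.2
      have h1 := congrArg (fun t => f t e) ht₁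
      simp only [hs.add_left, hs.smul_left, he'e, hve, hs.symm a e, hea, hs.add_right, hs.smul_right,
        (show f e' a = 0 from he'.1.2)] at h1
      refine (mul_eq_zero.1 (show r * (f e' e' * f e e) = 0 from ?_)).resolve_right (mul_ne_zero hee' hee)
      linear_combination h1
    · have hcard : Fintype.card ι = 3 := by omega
      obtain ⟨x₀, hx₀, hx₁⟩ : ∃ x : F, x * x * x ≠ x ∧ x ≠ 0 := by
        classical
        by_contra hc
        push Not at hc
        refine hex ⟨?_, hcard⟩
        have hall : ∀ x : F, x = 0 ∨ x = 1 ∨ x = -1 := fun x => by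
          by_cases hx : x * x * x = x
          · rcases eq_or_ne x 0 with h0 | h0
            · exact Or.inl h0
            · right
              have h1 : (x - 1) * (x + 1) = 0 := mul_left_cancel₀ h0 (by linear_combination hx)
              rcases mul_eq_zero.1 h1 with h | h
              · exact Or.inl (sub_eq_zero.1 h)
              · exact Or.inr (eq_neg_of_add_eq_zero_left h)
          · exact Or.inl (hc x hx)
        have hsub : (Finset.univ : Finset F) ⊆ {0, 1, -1} := fun x _ => by
          simp only [Finset.mem_insert, Finset.mem_singleton]; exact hall x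
        have hle : Fintype.card F ≤ 3 := (Finset.card_le_card hsub).trans Finset.card_le_three
        have hge : 3 ≤ Fintype.card F := by
          have : ({0, 1, -1} : Finset F).card = 3 := by
            have h1 : (1 : F) ≠ -1 := fun e => h2 (by linear_combination e)
            simp [h1]
          exact this ▸ Finset.card_le_univ _
        omega
      -- the equation at the partner is linear on one side and cubic on the other
      have heq : ∀ t : F, -(2 * t * f (S d) e) = t * t * t * (f e e / 2 * f e v) := fun t => by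
        have hb : f (t • e) a = 0 := by rw [hs.smul_left, hea, mul_zero]
        obtain ⟨μ, hμ⟩ := key (t • e) hb
        have hμv : μ = -(t * f e v) := by
          have h1 := congrArg (fun y => f y d) (hμ a)
          simp only [hs.add_left, hs.sub_left, hs.smul_left, hs.smul_right, haa, hs.symm a e, hea, ← hv, hva,
            had] at h1
          rw [hs.symm e v]
          linear_combination -h1
        have h1 := congrArg (fun y => f y d) (hμ d)
        have hde : f d e = 0 := by rw [hs.symm]; exact hed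
        simp only [hs.add_left, hs.sub_left, hs.smul_left, hs.smul_right, hdd, hda, hde, had, hed, hμv, map_smul,
          ← hv, hsS d a, hsS e d, hs.symm e (S d), hs.symm d v] at h1
        linear_combination h1
      have h1 := heq 1
      have h3 := heq x₀
      have hev : f e v = 0 := by
        have : (x₀ * x₀ * x₀ - x₀) * (f e e / 2 * f e v) = 0 := by linear_combination x₀ * h1 - h3
        rcases mul_eq_zero.1 this with h | h
        · exact absurd (sub_eq_zero.1 h) hx₀
        · exact (mul_eq_zero.1 h).resolve_left (div_ne_zero hee h2)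
      rw [hr, hev, mul_zero, neg_zero, zero_div]
  obtain ⟨α, hα⟩ : ∃ α, α = t₀ / f e e := ⟨_, rfl⟩
  have hva' : S a = α • a := by rw [← hv, hve, hr0, zero_smul, zero_add, hα]
  -- the Siegel maps commute with `S`
  have key' : ∀ b, f b a = 0 → ∀ x,
      f (S x) a • b - f (S x) b • a - (f b b / 2 * f (S x) a) • a =
        f x a • S b - (f x b * α) • a - (f b b / 2 * f x a * α) • a := by
    intro b hb x
    obtain ⟨μ, hμ⟩ := key b hb
    have hμ0 : μ = 0 := by
      have h1 := congrArg (fun y => f y d) (hμ a)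
      simp only [hs.add_left, hs.sub_left, hs.smul_left, haa, hs.symm a b, hb, hva', had] at h1
      linear_combination -h1
    have h1 := hμ x
    rw [hμ0, hva'] at h1
    linear_combination (norm := module) h1
  obtain ⟨δ, hδ⟩ : ∃ δ, δ = f (S d) d - α * f d d := ⟨_, rfl⟩
  have hperp : ∀ b c, f b a = 0 → f c a = 0 → f (S c) b = α * f c b := fun b c hb hc => by
    have h1 := congrArg (fun y => f y d) (key' b hb c)
    simp only [hs.sub_left, hs.smul_left, had, hc, hsS c a, hva', hs.smul_right] at h1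
    linear_combination -h1
  have hdb : ∀ b ∈ hs.perp2 d a, f (S d) b = 0 := fun b hb => by
    have h1 := congrArg (fun y => f y d) (key' b hb.2 d)
    simp only [hs.sub_left, hs.smul_left, had, hda, hsS d a, hva', hs.smul_right, hs.symm d b, (show f b d = 0 from hb.1),
      hsS b d, hs.symm b (S d)] at h1
    have : (2 : F) * f (S d) b = 0 := by linear_combination -h1
    exact (mul_eq_zero.1 this).resolve_left h2
  have hR : ∀ x, S x = α • x + (δ * f x a) • a := fun x => by
    refine hs.eq_of_forall fun y => ?_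
    obtain ⟨x', hx'⟩ : ∃ x', x' = x - f x a • d := ⟨_, rfl⟩
    obtain ⟨y', hy'⟩ : ∃ y', y' = y - f y a • d := ⟨_, rfl⟩
    have hxa : f x' a = 0 := by rw [hx', hs.sub_left, hs.smul_left, hda, mul_one, sub_self]
    have hya : f y' a = 0 := by rw [hy', hs.sub_left, hs.smul_left, hda, mul_one, sub_self]
    have hperp' : ∀ z, f z a = 0 → f (S d) z = α * f d z := fun z hz => by
      have hz' : z - f z d • a ∈ hs.perp2 d a := hs.mem_perp2.2
        ⟨by rw [hs.sub_left, hs.smul_left, had, mul_one, sub_self], by rw [hs.sub_left, hs.smul_left, haa, hz]; ring⟩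
      have h1 := hdb _ hz'
      rw [hs.sub_right, hs.smul_right, hsS d a, hva', hs.smul_right, hda] at h1
      rw [hs.symm d z]
      linear_combination h1
    rw [show x = x' + f x a • d by rw [hx', sub_add_cancel], show y = y' + f y a • d by rw [hy', sub_add_cancel]]
    simp only [map_add, map_smul, hs.add_left, hs.add_right, hs.smul_left, hs.smul_right, hperp _ _ hya hxa,
      hperp' _ hya, hsS x' d, hs.symm x' (S d), hperp' _ hxa, hδ, hda, hxa, hs.symm a y', hya, had]
    rw [hs.symm d x']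
    ring
  exact ⟨α, δ, hR⟩

/-- Self-adjoint maps commuting with all their conjugates are scalar. -/
theorem scalar_of_comm_cj (hn : 3 ≤ Fintype.card ι) (hex : ¬ (Fintype.card F = 3 ∧ Fintype.card ι = 3)) {T : Ea}
    (hsa : ∀ x y, f (T x) y = f x (T y)) (hcomm : ∀ g ∈ siegGrp f, ∀ x, T (cj g T x) = cj g T (T x)) :
    ∃ μ : F, ∀ x, T x = μ • x := by
  obtain ⟨W, hW⟩ : ∃ W : Submodule F Ea,
      W = Submodule.span F (insert LinearMap.id ((fun g => cj g T) '' (siegGrp f : Set (GL ι F)))) := ⟨_, rfl⟩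
  have hTW : T ∈ W := hW ▸ Submodule.subset_span (Or.inr ⟨1, one_mem _, cj_one T⟩)
  have hWinv : ∀ g ∈ siegGrp f, ∀ S ∈ W, cj g S ∈ W := by
    intro g hg S hS
    subst hW
    induction hS using Submodule.span_induction with
    | mem x hx =>
      rcases hx with rfl | ⟨h, hh, rfl⟩
      · rw [cj_id]; exact Submodule.subset_span (Or.inl rfl)
      · exact Submodule.subset_span (Or.inr ⟨g * h, mul_mem hg hh, cj_mul g h T⟩)
    | zero => rw [map_zero]; exact zero_mem _
    | add x y _ _ hx hy => rw [map_add]; exact add_mem hx hy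
    | smul c x _ hx => rw [map_smul]; exact Submodule.smul_mem _ _ hx
  have hWsa : ∀ S ∈ W, ∀ x y, f (S x) y = f x (S y) := by
    intro S hS
    subst hW
    induction hS using Submodule.span_induction with
    | mem x hx =>
      rcases hx with rfl | ⟨h, hh, rfl⟩
      · exact fun x y => rfl
      · exact cj_adj hs (hs.siegGrp_le h2 hh) hsa
    | zero => exact fun x y => by rw [LinearMap.zero_apply, LinearMap.zero_apply, hs.zero_left, hs.zero_right]
    | add a b _ _ ha hb =>
      exact fun x y => by rw [LinearMap.add_apply, LinearMap.add_apply, hs.add_left, hs.add_right, ha, hb]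
    | smul c a _ ha =>
      exact fun x y => by rw [LinearMap.smul_apply, LinearMap.smul_apply, hs.smul_left, hs.smul_right, ha]
  have hWc : ∀ S ∈ W, ∀ S' ∈ W, ∀ x, S (S' x) = S' (S x) := by
    subst hW
    intro S hS S' hS'
    induction hS using Submodule.span_induction with
    | zero => intro x; simp
    | add a b _ _ ha hb => intro x; rw [LinearMap.add_apply, LinearMap.add_apply, ha, hb, map_add]
    | smul c a _ ha => intro x; rw [LinearMap.smul_apply, LinearMap.smul_apply, ha, map_smul]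
    | mem y hy =>
      rcases hy with rfl | ⟨h, hh, rfl⟩
      · intro x; rfl
      induction hS' using Submodule.span_induction with
      | zero => intro x; simp
      | add a b _ _ ha hb => intro x; rw [LinearMap.add_apply, LinearMap.add_apply, map_add, ha, hb]
      | smul c a _ ha => intro x; rw [LinearMap.smul_apply, LinearMap.smul_apply, map_smul, ha]
      | mem z hz =>
        rcases hz with rfl | ⟨g, hg, rfl⟩
        · intro x; rfl
        intro x
        obtain ⟨x', rfl⟩ : ∃ x', (h : Mn) *ᵥ x' = x := ⟨_, mulVec_inv_cancel h x⟩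
        have e : cj g T = cj h (cj (h⁻¹ * g) T) := by rw [← cj_mul, mul_inv_cancel_left]
        rw [show (fun g => cj g T) g = cj g T from rfl, show (fun g => cj g T) h = cj h T from rfl, e]
        simp only [cj_apply h, inv_mulVec_cancel]
        rw [hcomm _ (mul_mem (inv_mem hh) hg)]
  by_contra hcon
  have hTn : T ∉ F ∙ (LinearMap.id : Ea) := fun h => by
    obtain ⟨c, hc⟩ := Submodule.mem_span_singleton.1 h
    exact hcon ⟨c, fun x => by rw [← hc]; rfl⟩
  obtain ⟨a, d, haa, hdd, hda⟩ := hs.exists_hyp h2 hn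
  have had : f a d = 1 := by rw [hs.symm, hda]
  obtain ⟨S, hSW, hSn, hS⟩ := exists_sieg_fixed hs h2 haa hTW hTn hWinv fun g _ S hS => by
    obtain ⟨c, rfl⟩ := Submodule.mem_span_singleton.1 hS
    rw [map_smul, cj_id]
    exact Submodule.smul_mem _ _ (Submodule.mem_span_singleton_self _)
  have hsS := hWsa S hSW
  obtain ⟨α, δ, hR⟩ := fixed_shape hs h2 hn hex haa hdd hda hsS hS
  have hW0 : NdOn f (hs.perp2 d a) := hs.ndOn_perp2 hdd haa hda
  obtain ⟨e, he, hee⟩ := hs.exists_aniso h2 hW0 (Submodule.exists_mem_ne_zero_of_ne_bot fun h => by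
    have := hs.finrank_perp2 d a
    rw [h, finrank_bot] at this; omega)
  have hed : f e d = 0 := he.1
  have hea : f e a = 0 := he.2
  have hδ0 : δ ≠ 0 := fun h0 => hSn (Submodule.mem_span_singleton.2 ⟨α, LinearMap.ext fun x => by
    rw [hR x, h0, zero_mul, zero_smul, add_zero]; rfl⟩)
  -- a conjugate not commuting with it
  obtain ⟨g, -, hg⟩ := hs.exists_sieg h2 hdd (w := e) hed
  have hga : (g : Mn) *ᵥ a = a + e - (f e e / 2) • d := by
    rw [hg, had, hs.symm a e, hea, zero_smul, sub_zero, one_smul, mul_one]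
  obtain ⟨a', ha'⟩ : ∃ a', a' = (g : Mn) *ᵥ a := ⟨_, rfl⟩
  have hgi : g ∈ iso f := hs.siegGrp_le h2 (Subgroup.subset_closure ⟨d, e, hdd, hed, hg⟩)
  have hne : f a' a ≠ 0 := by
    rw [ha', hga, hs.sub_left, hs.add_left, hs.smul_left, haa, hea, hda, zero_add, zero_sub, mul_one, neg_ne_zero]
    exact div_ne_zero hee h2
  have hS' : ∀ x, cj g S x = α • x + (δ * f x a') • a' := fun x => by
    obtain ⟨x', rfl⟩ : ∃ x', (g : Mn) *ᵥ x' = x := ⟨_, mulVec_inv_cancel g x⟩
    rw [cj_apply, inv_mulVec_cancel, hR, ha', hgi, Matrix.mulVec_add, Matrix.mulVec_smul, Matrix.mulVec_smul]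
  have h1 := congrArg (fun y => f y d) (hWc S hSW _ (hWinv g (Subgroup.subset_closure ⟨d, e, hdd, hed, hg⟩) S hSW) a)
  simp only [hS', hR, map_add, map_smul, hs.add_left, hs.smul_left, haa, hs.symm a a'] at h1
  refine mul_ne_zero (mul_ne_zero hδ0 hδ0) (mul_ne_zero hne hne) ?_
  simp only [had] at h1
  linear_combination h1

/-- The elementary skew map of two vectors. -/
def wd (a c : ι → F) (hs : Sym f) : (ι → F) →ₗ[F] (ι → F) :=
  (hs.lin a).smulRight c - (hs.lin c).smulRight a

omit h2 in
theorem wd_apply (a c x : V) : wd a c hs x = f x a • c - f x c • a := rfl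

/-- A skew map fixed by all Siegel maps at `a` is elementary. -/
theorem wd_of_fixed (hn : 3 ≤ Fintype.card ι) {a d : V} (haa : f a a = 0) (hdd : f d d = 0) (hda : f d a = 1)
    {D : Ea} (hsk : ∀ x y, f (D x) y = -f x (D y))
    (hfix : ∀ b g, f b a = 0 → IsSieg f g a b → cj g D = D) : ∃ c ∈ hs.perp2 d a, D = wd a c hs := by
  have had : f a d = 1 := by rw [hs.symm, hda]
  have hdiag : ∀ x, f (D x) x = 0 := fun x => by
    have h1 := hsk x x
    rw [hs.symm x (D x)] at h1
    exact (mul_eq_zero.1 (show (2 : F) * f (D x) x = 0 by linear_combination h1)).resolve_left h2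
  have key : ∀ b, f b a = 0 → ∀ x,
      f (D x) a • b - f (D x) b • a - (f b b / 2 * f (D x) a) • a =
        f x a • D b - f x b • D a - (f b b / 2 * f x a) • D a := by
    intro b hb x
    obtain ⟨g, -, hg⟩ := hs.exists_sieg h2 haa hb
    have h1 := LinearMap.congr_fun (sub_eq_zero.2 (hfix b g hb hg)) ((g : Mn) *ᵥ x)
    rw [LinearMap.sub_apply, cj_apply, inv_mulVec_cancel, LinearMap.zero_apply, hg, hg] at h1
    simp only [map_add, map_sub, map_smul] at h1
    linear_combination (norm := module) h1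
  have hW0 : NdOn f (hs.perp2 d a) := hs.ndOn_perp2 hdd haa hda
  have hd0 := hs.finrank_perp2 d a
  obtain ⟨e, he, hee⟩ := hs.exists_aniso h2 hW0 (Submodule.exists_mem_ne_zero_of_ne_bot fun h => by
    rw [h, finrank_bot] at hd0; omega)
  have hed : f e d = 0 := he.1
  have hea : f e a = 0 := he.2
  have hDa0 : ∀ b, f b a = 0 → f (D a) b = 0 := fun b hb => by
    have h1 := congrArg (fun y => f y d) (key b hb a)
    simp only [hs.sub_left, hs.smul_left, had, haa, hdiag, hs.symm a b, hb] at h1
    linear_combination -h1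
  obtain ⟨α, hα⟩ : ∃ α, α = f (D a) d := ⟨_, rfl⟩
  have hperp : ∀ b c, f b a = 0 → f c a = 0 → f (D c) b = α * f c b := fun b c hb hc => by
    have h1 := congrArg (fun y => f y d) (key b hb c)
    simp only [hs.sub_left, hs.smul_left, had, hc, hsk c a, hs.symm c (D a), hDa0 c hc, ← hα] at h1
    linear_combination -h1
  have hα0 : α = 0 := by
    have h1 := hperp e e hea hea
    rw [hdiag] at h1
    exact (mul_eq_zero.1 h1.symm).resolve_right hee
  have hda0 : f (D d) a = 0 := by rw [hsk, hs.symm, ← hα, hα0, neg_zero]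
  obtain ⟨c, hc⟩ : ∃ c, c = D d := ⟨_, rfl⟩
  have hDa : D a = 0 := hs.eq_of_forall fun y => by
    have h1 : f (D a) (y - f y a • d) = 0 :=
      hDa0 _ (by rw [hs.sub_left, hs.smul_left, hda, mul_one, sub_self])
    rw [hs.sub_right, hs.smul_right, ← hα, hα0, mul_zero, sub_zero] at h1
    rw [h1, hs.zero_left]
  have hDeq : D = wd a c hs := LinearMap.ext fun x => hs.eq_of_forall fun y => by
    rw [wd_apply]
    obtain ⟨x', hx'⟩ : ∃ x', x' = x - f x a • d := ⟨_, rfl⟩
    obtain ⟨y', hy'⟩ : ∃ y', y' = y - f y a • d := ⟨_, rfl⟩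
    have hxa : f x' a = 0 := by rw [hx', hs.sub_left, hs.smul_left, hda, mul_one, sub_self]
    have hya : f y' a = 0 := by rw [hy', hs.sub_left, hs.smul_left, hda, mul_one, sub_self]
    rw [show x = x' + f x a • d by rw [hx', sub_add_cancel], show y = y' + f y a • d by rw [hy', sub_add_cancel]]
    simp only [map_add, map_smul, hs.add_left, hs.add_right, hs.sub_left, hs.smul_left, hs.smul_right,
      hperp _ _ hya hxa, hα0, hsk x' d, hda, hxa, hs.symm a y', hya, had, hc, hdiag, hs.symm x' (D d),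
      hs.symm d (D d)]
    ring
  exact ⟨c, hs.mem_perp2.2 ⟨hc ▸ hdiag d, hc ▸ hda0⟩, hDeq⟩

omit hs h2 in
/-- A finite commuting family of nilpotent operators kills a non-zero element of an invariant additive group. -/
theorem exists_killed_add {k X B : Type*} [Field k] [AddCommGroup X] [Module k X] [Fintype B]
    {T : AddSubgroup X} {S₀ : X} (hS : S₀ ∈ T) (hS' : S₀ ≠ 0) (op : B → Module.End k X)
    (hcomm : ∀ i j, Commute (op i) (op j)) (hT : ∀ i, ∀ S ∈ T, op i S ∈ T)
    (hnil : ∀ i, IsNilpotent (op i)) : ∃ S ∈ T, S ≠ 0 ∧ ∀ i, op i S = 0 := by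
  classical
  suffices key : ∀ s : Finset B, ∃ S ∈ T, S ≠ 0 ∧ ∀ i ∈ s, op i S = 0 by
    obtain ⟨S, h1, h2, h3⟩ := key Finset.univ
    exact ⟨S, h1, h2, fun i => h3 i (Finset.mem_univ i)⟩
  intro s
  induction s using Finset.induction_on with
  | empty => exact ⟨S₀, hS, hS', fun i hi => absurd hi (Finset.notMem_empty i)⟩
  | insert i s _ ih =>
    obtain ⟨S, h1, h2, h3⟩ := ih
    obtain ⟨N, hN⟩ := hnil i
    have hex : ∃ m, (op i ^ m) S = 0 := ⟨N, by rw [hN]; rfl⟩
    obtain ⟨m, hm⟩ : ∃ m, Nat.find hex = m + 1 := Nat.exists_eq_succ_of_ne_zero fun h0 => h2 (by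
      have := Nat.find_spec hex
      rwa [h0, pow_zero] at this)
    refine ⟨(op i ^ m) S, ?_, Nat.find_min hex (by omega), fun j hj => ?_⟩
    · clear hm
      induction m with
      | zero => rwa [pow_zero]
      | succ m ihm => rw [pow_succ', Module.End.mul_apply]; exact hT i _ ihm
    rcases Finset.mem_insert.1 hj with rfl | hj
    · have := Nat.find_spec hex
      rwa [hm, pow_succ', Module.End.mul_apply] at this
    · rw [← Module.End.mul_apply, ((hcomm j i).pow_right m).eq, Module.End.mul_apply, h3 j hj, map_zero]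

/-- An invariant space of skew maps contains an elementary one. -/
theorem exists_wd (hn : 3 ≤ Fintype.card ι) {T : Submodule F ((ι → F) →ₗ[F] (ι → F))} {D₀ : Ea} (hD : D₀ ∈ T)
    (hD0 : D₀ ≠ 0) (hskew : ∀ D ∈ T, ∀ x y, f (D x) y = -f x (D y)) (hT : ∀ g ∈ siegGrp f, ∀ S ∈ T, cj g S ∈ T) :
    ∃ a d c : V, f a a = 0 ∧ f d d = 0 ∧ f d a = 1 ∧ c ∈ hs.perp2 d a ∧ c ≠ 0 ∧ wd a c hs ∈ T := by
  obtain ⟨a, d, haa, hdd, hda⟩ := hs.exists_hyp h2 hn
  have had : f a d = 1 := by rw [hs.symm, hda]
  obtain ⟨D, hDT, hDn, hfix⟩ := exists_sieg_fixed hs h2 haa (K := ⊥) hD (by simpa using hD0) hT fun g _ S hS => by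
    rw [Submodule.mem_bot] at hS ⊢; rw [hS, map_zero]
  obtain ⟨c, hc, hDeq⟩ := wd_of_fixed hs h2 hn haa hdd hda (hskew D hDT) fun b g hb hg =>
    sub_eq_zero.1 ((Submodule.mem_bot F).1 (hfix b g hb hg))
  exact ⟨a, d, c, haa, hdd, hda, hc, fun h0 => hDn (by
    rw [Submodule.mem_bot, hDeq, h0]
    ext x
    simp [wd_apply, hs.zero_right]), hDeq ▸ hDT⟩

end Cfsg.Agent.Classical.TensorOrth
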