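import Cfsg.Agent.Lib.Classical.MaxTensorOrthBase
import Mathlib.GroupTheory.Sylow

/-!
Auxiliary facts for overgroups of `O₃ ⊗ O₄⁻`: fixed points of `p`-groups on normalised subgroups, commuting and
conjugate involutions, rank of `T ⊗ T' - 1` for involutions, linear maps commuting with all Siegel maps.
-/

set_option autoImplicit false
set_option linter.unusedSectionVars false

namespace Cfsg.Agent.Classical.TensorOrth

open Matrix Module MaxTv
open scoped Kronecker

section Groups

variable {G : Type*} [Group G]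

/-- A `p`-group normalising a subgroup of order divisible by `p` centralises an element of order `p` of it. -/
theorem exists_comm_of_prime_dvd [Finite G] {p : ℕ} [Fact p.Prime] {X U : Subgroup G} (hU : IsPGroup p U)
    (hn : U ≤ Subgroup.normalizer (X : Set G)) (hp : p ∣ Nat.card X) :
    ∃ x ∈ X, x ≠ 1 ∧ x ^ p = 1 ∧ ∀ u ∈ U, u * x = x * u := by
  classical
  let H : Subgroup G := X ⊔ U
  have hXH : X ≤ H := le_sup_left
  have hUH : U ≤ H := le_sup_right
  haveI hN : (X.subgroupOf H).Normal :=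
    Subgroup.normal_subgroupOf_of_le_normalizer (sup_le Subgroup.le_normalizer hn)
  obtain ⟨S, hS⟩ := (hU.comap_subtype (K := H)).exists_le_sylow
  have hne : ((X.subgroupOf H).subgroupOf (S : Subgroup H)) ≠ ⊥ := by
    intro hb
    let q : (S : Subgroup H) →* H ⧸ X.subgroupOf H :=
      (QuotientGroup.mk' (X.subgroupOf H)).comp (S : Subgroup H).subtype
    have hq : Function.Injective q := by
      rw [injective_iff_map_eq_one]
      intro s hs
      have : s ∈ (X.subgroupOf H).subgroupOf (S : Subgroup H) :=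
        Subgroup.mem_subgroupOf.2 ((QuotientGroup.eq_one_iff (s : H)).1 hs)
      rwa [hb, Subgroup.mem_bot] at this
    obtain ⟨k, hk⟩ := Subgroup.card_dvd_of_injective q hq
    have hX : Nat.card (X.subgroupOf H) = Nat.card X := Nat.card_congr (Subgroup.subgroupOfEquivOfLe hXH).toEquiv
    have h1 := Subgroup.card_eq_card_quotient_mul_card_subgroup (X.subgroupOf H)
    obtain ⟨r, hr⟩ := hp
    have h3 := (S : Subgroup H).card_mul_index
    have : (S : Subgroup H).index = k * (p * r) := by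
      apply Nat.eq_of_mul_eq_mul_left (Nat.card_pos (α := (S : Subgroup H)))
      rw [h3, h1, hk, hX, hr, mul_assoc]
    exact S.not_dvd_index ⟨k * r, by rw [this]; ring⟩
  haveI hN' : ((X.subgroupOf H).subgroupOf (S : Subgroup H)).Normal := hN.subgroupOf _
  set N := (X.subgroupOf H).subgroupOf (S : Subgroup H) with hNdef
  have hNp : IsPGroup p N := S.isPGroup'.to_subgroup N
  obtain ⟨n, hcard⟩ := IsPGroup.iff_card.mp hNp
  have hpN : p ∣ Nat.card N := hcard ▸ dvd_pow_self p fun h0 => hne (Subgroup.card_eq_one.mp (by rw [hcard, h0, pow_zero]))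
  let _ : MulAction (S : Subgroup H) N :=
    { smul := fun s x => ⟨s * x * s⁻¹, hN'.conj_mem _ x.2 s⟩
      one_smul := fun x => Subtype.ext (show (1 : (S : Subgroup H)) * x * _ = x by simp)
      mul_smul := fun s t x => Subtype.ext (show s * t * x * (s * t)⁻¹ = s * (t * x * t⁻¹) * s⁻¹ by group) }
  obtain ⟨x, hx, hx1⟩ := S.isPGroup'.exists_fixed_point_of_prime_dvd_card_of_fixed_point N hpN (a := 1)
    fun s => Subtype.ext (show s * ((1 : N) : (S : Subgroup H)) * s⁻¹ = ((1 : N) : (S : Subgroup H)) by simp)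
  obtain ⟨k, hk⟩ := hNp x
  have hx' : x ≠ 1 := fun e => hx1 e.symm
  have ho : p ∣ orderOf x := by
    obtain ⟨i, -, hi⟩ := (Nat.dvd_prime_pow Fact.out).1 (orderOf_dvd_of_pow_eq_one hk)
    rw [hi]
    exact dvd_pow_self p fun h0 => hx' (orderOf_eq_one_iff.1 (by rw [hi, h0, pow_zero]))
  obtain ⟨m, hm⟩ := ho
  have hy : orderOf (x ^ m) = p := by
    have hm0 : m ≠ 0 := by rintro rfl; exact (orderOf_pos x).ne' (by rw [hm, mul_zero])
    rw [orderOf_pow' x hm0, hm, Nat.gcd_mul_left_left, Nat.mul_div_cancel _ (Nat.pos_of_ne_zero hm0)]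
  refine ⟨(((x ^ m : N) : (S : Subgroup H)) : H), (x ^ m : N).2, fun e => ?_, ?_, fun u hu => ?_⟩
  · have : (x ^ m : N) = 1 := Subtype.ext (Subtype.ext (Subtype.ext e))
    rw [this, orderOf_one] at hy
    exact (Fact.out : p.Prime).one_lt.ne hy
  · have h := pow_orderOf_eq_one (x ^ m)
    rw [hy] at h
    exact congrArg (fun y : N => (((y : (S : Subgroup H)) : H) : G)) h
  · obtain ⟨s, hs⟩ : ∃ s : (S : Subgroup H), ((s : H) : G) = u := ⟨⟨⟨u, hUH hu⟩, hS hu⟩, rfl⟩
    have h1 : s * (x : (S : Subgroup H)) * s⁻¹ = x := congrArg Subtype.val (hx s)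
    have h2 : Commute s ((x : (S : Subgroup H))) := mul_inv_eq_iff_eq_mul.1 h1
    rw [← hs]
    exact congrArg (fun y : (S : Subgroup H) => ((y : H) : G)) (h2.pow_right m).eq

theorem invol_pow_inv {r j : G} (hr : r * r = 1) (hj : j * j = 1) (k : ℕ) :
    r * (r * j) ^ k * r = ((r * j) ^ k)⁻¹ := by
  induction k with
  | zero => simp [hr]
  | succ k ih =>
    have hri : r⁻¹ = r := inv_eq_of_mul_eq_one_right hr
    have hji : j⁻¹ = j := inv_eq_of_mul_eq_one_right hj
    rw [pow_succ, show r * ((r * j) ^ k * (r * j)) * r = (r * (r * j) ^ k * r) * (r * (r * j) * r) by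
      rw [show r * (r * j) ^ k * r * (r * (r * j) * r) = r * (r * j) ^ k * (r * r) * (r * j) * r by group, hr]
      group, ih, ← pow_succ, pow_succ', _root_.mul_inv_rev, _root_.mul_inv_rev, hri, hji, ← mul_assoc r r j, hr,
      one_mul]

/-- Two non-conjugate involutions `r`, `j` commute with a third, `z`, and `r z` is conjugate to one of them. -/
theorem exists_central_invol [Finite G] {r j : G} (hr : r * r = 1) (hj : j * j = 1)
    (hnc : ∀ g : G, g ∈ Subgroup.closure {r, j} → g * r * g⁻¹ ≠ j) :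
    ∃ z ∈ Subgroup.closure ({r, j} : Set G), z ≠ 1 ∧ z * r = r * z ∧ z * j = j * z ∧
      ∃ g ∈ Subgroup.closure ({r, j} : Set G), r * z = g * r * g⁻¹ ∨ r * z = g * j * g⁻¹ := by
  have hm : ∀ k : ℕ, (r * j) ^ k ∈ Subgroup.closure ({r, j} : Set G) := fun k =>
    pow_mem (mul_mem (Subgroup.subset_closure (by simp)) (Subgroup.subset_closure (by simp))) k
  have hro : ∀ k : ℕ, r * (r * j) ^ k = ((r * j) ^ k)⁻¹ * r := fun k => by
    rw [← invol_pow_inv hr hj k, mul_assoc (r * (r * j) ^ k), hr, mul_one]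
  rcases Nat.even_or_odd' (orderOf (r * j)) with ⟨m, hm' | hm'⟩
  · obtain ⟨z, hz⟩ : ∃ z, z = (r * j) ^ m := ⟨_, rfl⟩
    have hpos := orderOf_pos (r * j)
    have hzz : z * z = 1 := by rw [hz, ← pow_add, ← two_mul, ← hm', pow_orderOf_eq_one]
    have hzr : z * r = r * z := by
      rw [hz, hro, ← hz, inv_eq_of_mul_eq_one_right hzz]
    have hzp : Commute z (r * j) := hz ▸ Commute.pow_self _ _
    refine ⟨z, hz ▸ hm m, fun e => ?_, hzr, ?_, ?_⟩
    · exact pow_ne_one_of_lt_orderOf (by omega) (by omega) (hz.symm.trans e)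
    · have h1 : z * (r * (r * j)) = r * (r * j) * z := by
        rw [← mul_assoc, hzr, mul_assoc, hzp.eq, ← mul_assoc]
      rwa [← mul_assoc r r j, hr, one_mul] at h1
    · rcases Nat.even_or_odd' m with ⟨k, hk | hk⟩
      · refine ⟨((r * j) ^ k)⁻¹, inv_mem (hm k), Or.inl ?_⟩
        rw [hz, hk, two_mul, pow_add, inv_inv, ← mul_assoc, hro]
      · refine ⟨((r * j) ^ k)⁻¹, inv_mem (hm k), Or.inr ?_⟩
        rw [hz, hk, two_mul, pow_succ, pow_add, inv_inv, mul_assoc ((r * j) ^ k), (Commute.pow_self (r * j) k).eq,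
          ← mul_assoc r, hro, mul_assoc _ r (r * j * (r * j) ^ k), ← mul_assoc r (r * j), ← mul_assoc r r j, hr,
          one_mul, ← mul_assoc]
  · refine absurd ?_ (hnc ((r * j) ^ m) (hm m))
    have h1 : (r * j) ^ m * (r * j) ^ m * (r * j) = 1 := by
      rw [← pow_add, ← pow_succ, ← two_mul, ← hm', pow_orderOf_eq_one]
    have h2 : r * ((r * j) ^ m)⁻¹ = (r * j) ^ m * r := by
      rw [mul_inv_eq_iff_eq_mul, mul_assoc, hro, mul_inv_cancel_left]
    rw [mul_assoc, h2, ← mul_assoc]
    have h3 : (r * j) ^ m * (r * j) ^ m = (r * j)⁻¹ := eq_inv_of_mul_eq_one_left h1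
    rw [h3, _root_.mul_inv_rev, inv_eq_of_mul_eq_one_right hr, inv_eq_of_mul_eq_one_right hj, mul_assoc, hr, mul_one]

end Groups

variable {F : Type*} [Field F]

section Diag

variable {n : Type} [Fintype n] [DecidableEq n]

/-- Involutions are diagonalisable away from characteristic two. -/
theorem exists_diag_invol (h2 : (2 : F) ≠ 0) {T : Matrix n n F} (hT : T * T = 1) :
    ∃ (S : GL n F) (ε : n → F), (∀ i, ε i = 1 ∨ ε i = -1) ∧
      T * (S : Matrix n n F) = (S : Matrix n n F) * diagonal ε := by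
  classical
  let L : (n → F) →ₗ[F] (n → F) := Matrix.toLin' T
  have hLL : ∀ x, L (L x) = x := fun x => by
    simp only [L, Matrix.toLin'_apply, Matrix.mulVec_mulVec, hT, Matrix.one_mulVec]
  let P : Submodule F (n → F) := LinearMap.ker (L - LinearMap.id)
  let Q : Submodule F (n → F) := LinearMap.ker (L + LinearMap.id)
  have hP : ∀ x, x ∈ P ↔ L x = x := fun x => by simp [P, sub_eq_zero]
  have hQ : ∀ x, x ∈ Q ↔ L x = -x := fun x => by simp [Q, add_eq_zero_iff_eq_neg]
  have hc : IsCompl P Q := by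
    refine ⟨disjoint_iff_inf_le.2 fun x hx => ?_, codisjoint_iff_le_sup.2 fun x _ => ?_⟩
    · rw [Submodule.mem_bot]
      have h1 := (hP x).1 hx.1
      rw [(hQ x).1 hx.2, eq_comm, eq_neg_iff_add_eq_zero, ← two_smul F] at h1
      exact (smul_eq_zero.1 h1).resolve_left h2
    · have e : x = (2 : F)⁻¹ • (x + L x) + (2 : F)⁻¹ • (x - L x) := by
        rw [← smul_add, show x + L x + (x - L x) = (2 : F) • x by rw [two_smul]; abel, smul_smul,
          inv_mul_cancel₀ h2, one_smul]
      rw [e]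
      refine Submodule.add_mem_sup ((hP _).2 ?_) ((hQ _).2 ?_)
      · rw [map_smul, map_add, hLL, add_comm]
      · rw [map_smul, map_sub, hLL, ← smul_neg, neg_sub]
  let b₀ := ((Module.finBasis F P).prod (Module.finBasis F Q)).map (Submodule.prodEquivOfIsCompl P Q hc)
  have hcard : Fintype.card (Fin (finrank F P) ⊕ Fin (finrank F Q)) = Fintype.card n := by
    rw [← Module.finrank_eq_card_basis b₀, Module.finrank_fintype_fun_eq_card]
  let b := b₀.reindex (Fintype.equivOfCardEq hcard)
  have hb : ∀ i, ∃ ε : F, (ε = 1 ∨ ε = -1) ∧ L (b i) = ε • b i := by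
    intro i
    rw [Basis.reindex_apply]
    rcases (Fintype.equivOfCardEq hcard).symm i with j | j
    · refine ⟨1, Or.inl rfl, ?_⟩
      rw [one_smul]
      simpa [b₀] using (hP _).1 (Module.finBasis F P j).2
    · refine ⟨-1, Or.inr rfl, ?_⟩
      rw [neg_one_smul]
      simpa [b₀] using (hQ _).1 (Module.finBasis F Q j).2
  choose ε hε hLb using hb
  let S₀ : (n → F) →ₗ[F] (n → F) := (b.equivFun.symm : (n → F) →ₗ[F] (n → F))
  obtain ⟨S, hS⟩ := exists_gl_of_injective S₀ b.equivFun.symm.injective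
  refine ⟨S, ε, hε, Matrix.ext_iff_mulVec.2 fun x => ?_⟩
  rw [← Matrix.mulVec_mulVec, ← Matrix.mulVec_mulVec, hS, hS]
  show L (S₀ x) = _
  simp only [S₀, LinearEquiv.coe_coe, Basis.equivFun_symm_apply, map_sum, map_smul, hLb]
  refine Finset.sum_congr rfl fun i _ => ?_
  rw [smul_smul, Matrix.mulVec_diagonal, mul_comm]

end Diag

/-- The number of pairs of signs with product not one. -/
theorem card_prod_ne {a b : Type} [Fintype a] [Fintype b] [DecidableEq F] (h2 : (2 : F) ≠ 0) {ε : a → F} {δ : b → F}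
    (hε : ∀ i, ε i = 1 ∨ ε i = -1) (hδ : ∀ i, δ i = 1 ∨ δ i = -1) :
    Fintype.card {q : a × b // ε q.1 * δ q.2 ≠ 1} =
      (Finset.univ.filter fun i => ε i = 1).card *
          (Fintype.card b - (Finset.univ.filter fun j => δ j = 1).card) +
        (Fintype.card a - (Finset.univ.filter fun i => ε i = 1).card) *
          (Finset.univ.filter fun j => δ j = 1).card := by
  classical
  have h1 : (1 : F) ≠ -1 := fun e => h2 (by linear_combination e)
  rw [← Finset.card_compl, ← Finset.card_compl, ← Finset.card_product, ← Finset.card_product,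
    ← Finset.card_union_of_disjoint ?_, Fintype.card_subtype]
  · congr 1
    ext ⟨i, j⟩
    rcases hε i with hi | hi <;> rcases hδ j with hj | hj <;> simp [hi, hj, h1, h1.symm]
  · rw [Finset.disjoint_left]
    rintro ⟨i, j⟩ hq hq'
    simp only [Finset.mem_product, Finset.mem_filter, Finset.mem_compl, Finset.mem_univ, true_and] at hq hq'
    exact hq'.1 hq.1

section Comm

variable [Fintype F] {ι : Type} [Fintype ι] [DecidableEq ι] {h : (ι → F) → (ι → F) → F}

/-- Linear maps commuting with all Siegel maps are scalar. -/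
theorem scalar_of_sieg_comm (hs : Sym h) (h2 : (2 : F) ≠ 0) (hn : 4 ≤ Fintype.card ι) (T : (ι → F) →ₗ[F] (ι → F))
    (hT : ∀ g ∈ siegGrp h, ∀ x, T ((g : Matrix ι ι F) *ᵥ x) = (g : Matrix ι ι F) *ᵥ T x) :
    ∃ μ : F, ∀ x, T x = μ • x := by
  have hline : ∀ z, h z z = 0 → z ≠ 0 → ∃ c : F, T z = c • z := by
    intro z hz hz0
    obtain ⟨u, huu, hu⟩ := hs.exists_partner h2 hz hz0
    have hfix : ∀ y, h y z = 0 →
        h (T z) z • y - h (T z) y • z - (h y y / 2 * h (T z) z) • z = 0 := fun y hy => by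
      obtain ⟨g, -, hg⟩ := hs.exists_sieg h2 hz hy
      have h1 := hT g (Subgroup.subset_closure ⟨z, y, hz, hy, hg⟩) z
      rw [hs.IsSieg_fix hg hz (by rw [hs.symm, hy]), hg] at h1
      linear_combination (norm := abel) -h1
    obtain ⟨y, hy, hyy⟩ := hs.exists_aniso h2 (hs.ndOn_perp2 huu hz hu)
      (Submodule.exists_mem_ne_zero_of_ne_bot fun e => by
        have := hs.finrank_perp2 u z
        rw [e, finrank_bot] at *; omega)
    have h0 : h (T z) z = 0 := by
      have h1 := congrArg (fun v => h v y) (hfix y hy.2)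
      simp only [hs.sub_left, hs.smul_left, hs.zero_left, hs.symm z y, (show h y z = 0 from hy.2), mul_zero,
        sub_zero] at h1
      exact (mul_eq_zero.1 h1).resolve_right hyy
    refine hs.sesq.eq_smul_of_ker hz0 fun x hx => ?_
    have h1 := congrArg (fun v => h v u) (hfix x hx)
    simp only [h0, hs.sub_left, hs.smul_left, hs.zero_left, hs.symm z u, hu, zero_mul, mul_zero, mul_one, zero_sub,
      sub_zero, neg_eq_zero] at h1
    rw [hs.symm, h1]
  obtain ⟨z, c, hz, -, hcz⟩ := hs.exists_hyp h2 (by omega)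
  have hz0 : z ≠ 0 := fun e => one_ne_zero (by rw [← hcz, e, hs.zero_right])
  obtain ⟨μ, hμ⟩ := hline z hz hz0
  let p : Submodule F (ι → F) := LinearMap.ker (T - μ • LinearMap.id)
  refine ⟨μ, fun x => ?_⟩
  have : x ∈ p := hs.mem_of_iso_all h2 (by omega) (fun v hv => by
    rcases eq_or_ne v 0 with rfl | hv0
    · exact p.zero_mem
    obtain ⟨g, hg, hgv⟩ := hs.exists_move h2 hn hz0 hz hv0 hv
    show T v - μ • v = 0
    rw [← hgv, hT g hg, hμ, Matrix.mulVec_smul, sub_self]) x
  exact sub_eq_zero.1 this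

end Comm

end Cfsg.Agent.Classical.TensorOrth
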