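import Cfsg.Agent.Lib.Classical.MaxTensorOrthFull
import Cfsg.Agent.Lib.Classical.MaxTensorOrthHelp

/-!
Half turns `s_a ⊗ 1` of the first factor and product-shaped involutions in overgroups of `O₃ ⊗ O₄⁻`.
-/

set_option autoImplicit false
set_option linter.unusedSectionVars false

namespace Cfsg.Agent.Classical.TensorOrth

open Matrix Module MaxTv TensorMax Overfield
open scoped Kronecker
open Cfsg.Agent.Classical.TensorRoot (kg kg_apply kg_isKron)

variable {F : Type*} [Field F] [Fintype F] {α β : Type} [Fintype α] [DecidableEq α] [Fintype β] [DecidableEq β]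

local notation "V" => (α × β → F)
local notation "Mn" => Matrix (α × β) (α × β) F
local notation "Ma" => Matrix α α F
local notation "Mb" => Matrix β β F

/-- The coefficient vector in the second factor against `a`. -/
def la (fA : (α → F) → (α → F) → F) (a : α → F) : (α × β → F) →ₗ[F] (β → F) := lslice (fn fA a)

/-- `x` is the half turn about `a` on the first factor. -/
def IsRm (fA : (α → F) → (α → F) → F) (x : GL (α × β) F) (a : α → F) : Prop :=
  ∀ t, (x : Mn) *ᵥ t = (2 / fA a a) • tmul a (la fA a t) - t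

/-- Every half turn of the first factor is in `G`. -/
def Half (fA : (α → F) → (α → F) → F) (G : Subgroup (GL (α × β) F)) : Prop :=
  ∀ a, fA a a ≠ 0 → ∃ g ∈ G, IsRm fA g a

theorem rank_sub_one_of_semiconj {n : Type} [Fintype n] [DecidableEq n] (T D : Matrix n n F) (S : GL n F)
    (h : T * (S : Matrix n n F) = (S : Matrix n n F) * D) : (T - 1).rank = (D - 1).rank := by
  have hdet : IsUnit (S : Matrix n n F).det := (Matrix.isUnit_iff_isUnit_det _).1 S.isUnit
  rw [← Matrix.rank_mul_eq_left_of_isUnit_det (S : Matrix n n F) (T - 1) hdet, sub_mul, h, one_mul,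
    show (S : Matrix n n F) * D - S = (S : Matrix n n F) * (D - 1) by rw [mul_sub, mul_one],
    Matrix.rank_mul_eq_right_of_isUnit_det _ _ hdet]

theorem rank_diag_sub_one {n : Type} [Fintype n] [DecidableEq n] [DecidableEq F] (ε : n → F) :
    (diagonal ε - 1 : Matrix n n F).rank = Fintype.card {i // ε i ≠ 1} := by
  classical
  rw [← Matrix.diagonal_one, Matrix.diagonal_sub, Matrix.rank_diagonal]
  exact Fintype.card_congr (Equiv.subtypeEquivRight fun i => by rw [sub_ne_zero])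

/-- The rank of `T ⊗ T' - 1` for two diagonalised involutions. -/
theorem rank_kron_sub_one [DecidableEq F] {T : Ma} {T' : Mb} {S : GL α F} {S' : GL β F} {ε : α → F} {δ : β → F}
    (h : T * (S : Ma) = (S : Ma) * diagonal ε) (h' : T' * (S' : Mb) = (S' : Mb) * diagonal δ) :
    (T ⊗ₖ T' - 1 : Mn).rank = Fintype.card {q : α × β // ε q.1 * δ q.2 ≠ 1} := by
  rw [rank_sub_one_of_semiconj _ (diagonal ε ⊗ₖ diagonal δ) (kg S S') (by
    show T ⊗ₖ T' * ((S : Ma) ⊗ₖ (S' : Mb)) = ((S : Ma) ⊗ₖ (S' : Mb)) * (diagonal ε ⊗ₖ diagonal δ)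
    rw [← Matrix.mul_kronecker_mul, ← Matrix.mul_kronecker_mul, h, h']), Matrix.diagonal_kronecker_diagonal]
  exact rank_diag_sub_one _

variable {fA : (α → F) → (α → F) → F} {fB : (β → F) → (β → F) → F}
  {f : (α × β → F) → (α × β → F) → F} {G M : Subgroup (GL (α × β) F)}

variable (hO : Ovr fA fB f G M)
include hO

theorem Ovr.la_tmul (a x : α → F) (y : β → F) : la fA a (tmul x y) = fA x a • y := by
  rw [la, lslice_tmul, fn_dot hO.hA.sesq]

theorem IsRm.apply_tmul {g : GL (α × β) F} {a : α → F} (h : IsRm fA g a) (x : α → F) (y : β → F) :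
    (g : Mn) *ᵥ tmul x y = tmul ((2 / fA a a * fA x a) • a - x) y := by
  rw [h, hO.la_tmul, tmul_smul_right, smul_smul, tmul_sub_left, tmul_smul_left]

omit hO in
theorem IsRm.unique {g g' : GL (α × β) F} {a : α → F} (h : IsRm fA g a) (h' : IsRm fA g' a) : g = g' :=
  Units.ext (Matrix.ext_iff_mulVec.2 fun t => by rw [h, h'])

theorem IsRm.self {g : GL (α × β) F} {a : α → F} (h : IsRm fA g a) (ha : fA a a ≠ 0) (y : β → F) :
    (g : Mn) *ᵥ tmul a y = tmul a y := by
  rw [h.apply_tmul hO, div_mul_cancel₀ _ ha, two_smul, add_sub_cancel_right]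

theorem IsRm.perp {g : GL (α × β) F} {a : α → F} (h : IsRm fA g a) {x : α → F} (hx : fA x a = 0) (y : β → F) :
    (g : Mn) *ᵥ tmul x y = -tmul x y := by
  rw [h.apply_tmul hO, hx, mul_zero, zero_smul, zero_sub, neg_tmul]

theorem IsRm.sq {g : GL (α × β) F} {a : α → F} (h : IsRm fA g a) (ha : fA a a ≠ 0) : g * g = 1 :=
  ext_kron fun x y => by
    rw [Units.val_mul, ← Matrix.mulVec_mulVec, h.apply_tmul hO, h.apply_tmul hO, Units.val_one,
      Matrix.one_mulVec, hO.hA.sub_left, hO.hA.smul_left]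
    congr 1
    match_scalars <;> field_simp <;> ring

/-- A vector fixed by the half turn about `a` lies in `a ⊗ β`. -/
theorem IsRm.eq_of_fix {g : GL (α × β) F} {a : α → F} (h : IsRm fA g a) {t : V} (ht : (g : Mn) *ᵥ t = t) :
    t = tmul a ((fA a a)⁻¹ • la fA a t) := by
  have h2 := hO.two
  have h1 : (2 / fA a a) • tmul a (la fA a t) = (2 : F) • t := by
    rw [two_smul]
    nth_rw 2 [← ht]
    rw [h]
    abel
  rw [tmul_smul_right]
  refine smul_right_injective _ h2 ?_
  show (2 : F) • t = (2 : F) • _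
  rw [← h1, smul_smul, div_eq_mul_inv]

theorem IsRm.smul {g : GL (α × β) F} {a : α → F} (h : IsRm fA g a) {c : F} (hc : c ≠ 0) :
    IsRm fA g (c • a) := fun t => by
  rw [h]
  have e : la fA (c • a) t = c • la fA a t := by
    rw [la, la, fn_smul hO.hA.sesq, RingEquiv.refl_apply]
    funext j
    show ∑ i, (c • fn fA a) i * t (i, j) = c * ∑ i, fn fA a i * t (i, j)
    rw [Finset.mul_sum]
    exact Finset.sum_congr rfl fun i _ => by rw [Pi.smul_apply, smul_eq_mul, mul_assoc]
  rw [e, hO.hA.smul_left, hO.hA.smul_right, tmul_smul_left, tmul_smul_right, smul_smul, smul_smul]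
  congr 2
  field_simp

variable (h4 : Fintype.card β = 4)
include h4

theorem Ovr.exists_ne_zero : ∃ y : β → F, y ≠ 0 := by
  obtain ⟨j⟩ : Nonempty β := Fintype.card_pos_iff.1 (by omega)
  exact ⟨Pi.single j 1, by simp⟩

theorem IsRm.line {g : GL (α × β) F} {a c : α → F} (h : IsRm fA g a) (h' : IsRm fA g c) (hc : fA c c ≠ 0) :
    ∃ k : F, c = k • a := by
  obtain ⟨y, hy⟩ := hO.exists_ne_zero h4
  have h1 := h.eq_of_fix hO (h'.self hO hc y)
  rw [hO.la_tmul, smul_smul, tmul_smul_right, ← tmul_smul_left] at h1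
  exact ⟨_, fac_injective hy h1⟩

/-- Commuting half turns have orthogonal or equal axes. -/
theorem IsRm.comm_axis {g g' : GL (α × β) F} {a c : α → F} (h : IsRm fA g a) (h' : IsRm fA g' c)
    (ha : fA a a ≠ 0) (hc : fA c c ≠ 0) (hcm : g * g' = g' * g) : (∃ k : F, c = k • a) ∨ fA c a = 0 := by
  obtain ⟨y, hy⟩ := hO.exists_ne_zero h4
  by_cases hca : fA c a = 0
  · exact Or.inr hca
  have h1 := congrArg (fun u : GL (α × β) F => (u : Mn) *ᵥ tmul c y) hcm
  simp only [Units.val_mul, ← Matrix.mulVec_mulVec, h'.self hO hc, h.apply_tmul hO] at h1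
  have h3 := h'.eq_of_fix hO h1.symm
  rw [hO.la_tmul, smul_smul, tmul_smul_right, ← tmul_smul_left] at h3
  have h5 := fac_injective hy h3
  obtain ⟨k, hk⟩ : ∃ k, k = 2 / fA a a * fA c a := ⟨_, rfl⟩
  obtain ⟨l, hl⟩ : ∃ l, l = (fA c c)⁻¹ * fA ((2 / fA a a * fA c a) • a - c) c := ⟨_, rfl⟩
  rw [← hl, ← hk] at h5
  have hk0 : k ≠ 0 := hk ▸ mul_ne_zero (div_ne_zero hO.two ha) hca
  have h7 : k • a = (l + 1) • c := by rw [add_smul, one_smul, ← h5, sub_add_cancel]
  rcases eq_or_ne (l + 1) 0 with h0 | h0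
  · rw [h0, zero_smul, smul_eq_zero] at h7
    exact absurd (by rw [h7.resolve_left hk0, hO.hA.zero_left]) ha
  · exact Or.inl ⟨(l + 1)⁻¹ * k, by rw [← smul_smul, h7, inv_smul_smul₀ h0]⟩

/-- The half turn as a Kronecker product. -/
theorem IsRm.isKron {g : GL (α × β) F} {a : α → F} (h : IsRm fA g a) (ha : fA a a ≠ 0) : IsKron g := by
  have hA := hO.hA
  let L : (α → F) →ₗ[F] (α → F) := (2 / fA a a) • (hA.lin a).smulRight a - LinearMap.id
  have hL : ∀ x, L x = (2 / fA a a * fA x a) • a - x := fun x => by simp [L, Sym.lin_apply, smul_smul]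
  obtain ⟨y, hy⟩ := hO.exists_ne_zero h4
  obtain ⟨A, hA'⟩ := exists_gl_of_injective L fun x x' e => fac_injective hy (gl_mulVec_injective g (by
    show (g : Mn) *ᵥ tmul x y = (g : Mn) *ᵥ tmul x' y
    rw [h.apply_tmul hO, h.apply_tmul hO, ← hL, ← hL, e]))
  exact isKron_of_apply A 1 fun x w => by
    rw [h.apply_tmul hO, hA', hL, Units.val_one, Matrix.one_mulVec]

theorem Ovr.exists_rm (hH : Half fA G) {a : α → F} (ha : fA a a ≠ 0) : ∃ g ∈ M, IsRm fA g a := by
  obtain ⟨g, hg, hgx⟩ := hH a ha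
  exact ⟨g, hO.mem g hg (hgx.isKron hO h4 ha), hgx⟩

variable (h3 : Fintype.card α = 3)
include h3

/-- An element of the first factor with fixed line `a` negating its orthogonal plane. -/
theorem rank_half [DecidableEq F] {P : Ma} {a : α → F} (ha : fA a a ≠ 0) (hPa : P *ᵥ a = a)
    (hP : ∀ x, fA x a = 0 → P *ᵥ x = -x) : (P - 1).rank = 2 := by
  have hA := hO.hA
  have hker : LinearMap.ker (P - 1).mulVecLin = F ∙ a := by
    refine le_antisymm (fun x hx => ?_) ((Submodule.span_singleton_le_iff_mem _ _).2 ?_)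
    · rw [LinearMap.mem_ker, Matrix.mulVecLin_apply, Matrix.sub_mulVec, Matrix.one_mulVec, sub_eq_zero] at hx
      obtain ⟨c, hc⟩ : ∃ c, c = fA x a / fA a a := ⟨_, rfl⟩
      have hxa : fA (x - c • a) a = 0 := by
        rw [hA.sub_left, hA.smul_left, hc, div_mul_cancel₀ _ ha, sub_self]
      have h1 := hP _ hxa
      rw [Matrix.mulVec_sub, hx, Matrix.mulVec_smul, hPa, eq_neg_iff_add_eq_zero, ← two_smul F] at h1
      rw [sub_eq_zero.1 ((smul_eq_zero.1 h1).resolve_left hO.two)]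
      exact Submodule.smul_mem _ _ (Submodule.mem_span_singleton_self _)
    · rw [LinearMap.mem_ker, Matrix.mulVecLin_apply, Matrix.sub_mulVec, Matrix.one_mulVec, hPa, sub_self]
  have h1 := LinearMap.finrank_range_add_finrank_ker (P - 1).mulVecLin
  rw [hker, finrank_span_singleton (fun e => ha (by rw [e, hA.zero_left])), Module.finrank_fintype_fun_eq_card, h3]
    at h1
  show finrank F (LinearMap.range (P - 1).mulVecLin) = 2
  omega

/-- The rank of a half turn minus one. -/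
theorem IsRm.rank {g : GL (α × β) F} {a : α → F} (h : IsRm fA g a) (ha : fA a a ≠ 0) :
    ((g : Mn) - 1).rank = 8 := by
  classical
  have h2 := hO.two
  obtain ⟨A, B, hAB⟩ := h.isKron hO h4 ha
  have hap : ∀ x y, (g : Mn) *ᵥ tmul x y = tmul ((A : Ma) *ᵥ x) ((B : Mb) *ᵥ y) := fun x y => by
    rw [hAB, kronecker_mulVec]
  obtain ⟨P, hP⟩ : ∃ P : Ma, P = LinearMap.toMatrix' ((2 / fA a a) • (hO.hA.lin a).smulRight a - LinearMap.id) :=
    ⟨_, rfl⟩
  have hPx : ∀ x, P *ᵥ x = (2 / fA a a * fA x a) • a - x := fun x => by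
    rw [hP, LinearMap.toMatrix'_mulVec]; simp [Sym.lin_apply, smul_smul]
  have hg : (g : Mn) = P ⊗ₖ (1 : Mb) := by
    refine Matrix.ext_iff_mulVec.2 fun t => ?_
    exact LinearMap.congr_fun (f := Matrix.toLin' (g : Mn)) (g := Matrix.toLin' (P ⊗ₖ (1 : Mb)))
      (ext_pure fun x y => by
        rw [Matrix.toLin'_apply, Matrix.toLin'_apply, h.apply_tmul hO, kronecker_mulVec, hPx, Matrix.one_mulVec]) t
  have hPP : P * P = 1 := Matrix.ext_iff_mulVec.2 fun x => by
    rw [← Matrix.mulVec_mulVec, hPx, hPx, hO.hA.sub_left, hO.hA.smul_left, Matrix.one_mulVec]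
    match_scalars <;> field_simp <;> ring
  obtain ⟨S, ε, hε, hS⟩ := exists_diag_invol h2 hPP
  have h1 : (P - 1).rank = 2 := rank_half hO h4 h3 ha (by rw [hPx, div_mul_cancel₀ _ ha, two_smul, add_sub_cancel_right])
    fun x hx => by rw [hPx, hx, mul_zero, zero_smul, zero_sub]
  rw [rank_sub_one_of_semiconj _ _ S hS, rank_diag_sub_one] at h1
  rw [hg, rank_kron_sub_one hS (δ := fun _ => (1 : F)) (S' := 1) (by simp),
    card_prod_ne h2 hε fun _ => Or.inl rfl]
  have e : Fintype.card {i // ε i ≠ 1} = Fintype.card α - (Finset.univ.filter fun i => ε i = 1).card := by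
    rw [Fintype.card_subtype, ← Finset.card_compl]
    congr 1
    ext i
    simp
  rw [Finset.filter_true_of_mem (fun i _ => rfl), Finset.card_univ, h4, ← e, h1, Nat.sub_self, mul_zero, zero_add]

/-- Three pairwise orthogonal anisotropic vectors are a basis. -/
theorem Ovr.orth_basis {a b c : α → F} (ha : fA a a ≠ 0) (hb : fA b b ≠ 0) (hc : fA c c ≠ 0) (hab : fA a b = 0)
    (hac : fA a c = 0) (hbc : fA b c = 0) (x : α → F) :
    x = (fA x a / fA a a) • a + (fA x b / fA b b) • b + (fA x c / fA c c) • c := by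
  have hA := hO.hA
  have hli : LinearIndependent F ![a, b, c] := by
    refine Fintype.linearIndependent_iff.2 fun g hg i => ?_
    rw [Fin.sum_univ_three] at hg
    have k0 := congrArg (fun v => fA v a) hg
    have k1 := congrArg (fun v => fA v b) hg
    have k2 := congrArg (fun v => fA v c) hg
    simp only [Matrix.cons_val_zero, Matrix.cons_val_one, Matrix.cons_val, hA.add_left, hA.smul_left,
      hA.zero_left, hab, hac, hbc, hA.symm b a, hA.symm c a, hA.symm c b, mul_zero, add_zero, zero_add] at k0 k1 k2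
    fin_cases i
    exacts [(mul_eq_zero.1 k0).resolve_right ha, (mul_eq_zero.1 k1).resolve_right hb,
      (mul_eq_zero.1 k2).resolve_right hc]
  have htop : Submodule.span F (Set.range ![a, b, c]) = ⊤ :=
    hli.span_eq_top_of_card_eq_finrank' (by rw [Fintype.card_fin, Module.finrank_fintype_fun_eq_card, h3])
  obtain ⟨g, hg⟩ := (Submodule.mem_span_range_iff_exists_fun F).1 (htop ▸ Submodule.mem_top : x ∈ _)
  rw [Fin.sum_univ_three] at hg
  simp only [Matrix.cons_val_zero, Matrix.cons_val_one, Matrix.cons_val] at hg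
  rw [← hg]
  simp only [hA.add_left, hA.smul_left, hab, hac, hbc, hA.symm b a, hA.symm c a, hA.symm c b, mul_zero, add_zero,
    zero_add, mul_div_cancel_right₀ _ ha, mul_div_cancel_right₀ _ hb, mul_div_cancel_right₀ _ hc]

/-- Completing two orthogonal anisotropic vectors. -/
theorem Ovr.exists_third {a b : α → F} (ha : fA a a ≠ 0) (hb : fA b b ≠ 0) (hab : fA a b = 0) :
    ∃ d, fA d a = 0 ∧ fA d b = 0 ∧ fA d d ≠ 0 := by
  have hA := hO.hA
  obtain ⟨w, hw, hw0⟩ := Submodule.exists_mem_ne_zero_of_ne_bot (p := hA.perp2 a b) fun e => by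
    have := hA.finrank_perp2 a b
    rw [e, finrank_bot] at *; omega
  refine ⟨w, hw.1, hw.2, fun hww => hw0 (hA.eq_zero w fun x => ?_)⟩
  obtain ⟨x', hx'⟩ : ∃ x', x' = x - (fA x a / fA a a) • a - (fA x b / fA b b) • b := ⟨_, rfl⟩
  have h1 : fA w a = 0 := hw.1
  have h1' : fA w b = 0 := hw.2
  have hba : fA b a = 0 := by rw [hA.symm, hab]
  have hxa : fA x' a = 0 := by
    rw [hx', hA.sub_left, hA.sub_left, hA.smul_left, hA.smul_left, hba, div_mul_cancel₀ _ ha]; ring
  have hxb : fA x' b = 0 := by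
    rw [hx', hA.sub_left, hA.sub_left, hA.smul_left, hA.smul_left, hab, div_mul_cancel₀ _ hb]; ring
  have hxw : fA x w = fA x' w := by
    rw [hx', hA.sub_left, hA.sub_left, hA.smul_left, hA.smul_left, hA.symm a w, hA.symm b w, h1, h1']; ring
  by_contra hne
  rw [hxw] at hne
  have hmem : x' + (-(fA x' x') / (2 * fA x' w)) • w ∈ hA.perp2 a b := hA.mem_perp2.2
    ⟨by rw [hA.add_left, hA.smul_left, hxa, h1]; ring, by rw [hA.add_left, hA.smul_left, hxb, h1']; ring⟩
  have hli : LinearIndependent F ![a, b, w, x'] := by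
    refine Fintype.linearIndependent_iff.2 fun g hg i => ?_
    rw [Fin.sum_univ_four] at hg
    have k0 := congrArg (fun v => fA v a) hg
    have k1 := congrArg (fun v => fA v b) hg
    have k2 := congrArg (fun v => fA v w) hg
    have k3 := congrArg (fun v => fA v x') hg
    simp only [Matrix.cons_val_zero, Matrix.cons_val_one, Matrix.cons_val, hA.add_left, hA.smul_left,
      hA.zero_left, hab, hba, h1, h1', hxa, hxb, hww, hA.symm a w, hA.symm b w, hA.symm a x', hA.symm b x',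
      hA.symm w x', mul_zero, add_zero, zero_add] at k0 k1 k2 k3
    have e0 := (mul_eq_zero.1 k0).resolve_right ha
    have e1 := (mul_eq_zero.1 k1).resolve_right hb
    have e3 := (mul_eq_zero.1 k2).resolve_right hne
    rw [e3, zero_mul, add_zero] at k3
    fin_cases i
    exacts [e0, e1, (mul_eq_zero.1 k3).resolve_right hne, e3]
  have := hli.fintype_card_le_finrank
  rw [Fintype.card_fin, Module.finrank_fintype_fun_eq_card, h3] at this
  omega

/-- The product of two half turns with orthogonal axes is a half turn. -/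
theorem IsRm.mul_eq {g g' g'' : GL (α × β) F} {a c d : α → F} (h : IsRm fA g a) (h' : IsRm fA g' c)
    (h'' : IsRm fA g'' d) (ha : fA a a ≠ 0) (hc : fA c c ≠ 0) (hd : fA d d ≠ 0) (hac : fA a c = 0)
    (hda : fA d a = 0) (hdc : fA d c = 0) : g * g' = g'' := by
  have hA := hO.hA
  have hca : fA c a = 0 := by rw [hA.symm, hac]
  refine ext_kron fun x y => ?_
  rw [Units.val_mul, ← Matrix.mulVec_mulVec]
  conv_lhs => rw [hO.orth_basis h4 h3 ha hc hd hac (by rw [hA.symm, hda]) (by rw [hA.symm, hdc]) x]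
  conv_rhs => rw [hO.orth_basis h4 h3 ha hc hd hac (by rw [hA.symm, hda]) (by rw [hA.symm, hdc]) x]
  simp only [tmul_add_left, tmul_smul_left, Matrix.mulVec_add, Matrix.mulVec_smul, Matrix.mulVec_neg,
    h.self hO ha, h.perp hO hca, h.perp hO hda, h'.self hO hc, h'.perp hO hac, h'.perp hO hdc, h''.self hO hd,
    h''.perp hO (show fA a d = 0 by rw [hA.symm, hda]), h''.perp hO (show fA c d = 0 by rw [hA.symm, hdc])]
  module

/-- A product-shaped isometric involution of the rank of a half turn is one. -/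
theorem Ovr.invol_shape {x : GL (α × β) F} (hx : x ∈ M) (hk : IsKron x) (hxx : x * x = 1)
    (hr : ((x : Mn) - 1).rank = 8) : ∃ c, fA c c ≠ 0 ∧ IsRm fA x c := by
  classical
  have h2 := hO.two
  have hA := hO.hA
  have hs := hO.hB
  obtain ⟨A, B, hAB⟩ := hk
  obtain ⟨i⟩ := hO.nonempty
  obtain ⟨j⟩ : Nonempty β := Fintype.card_pos_iff.1 (by omega)
  have hap : ∀ u v, (x : Mn) *ᵥ tmul u v = tmul ((A : Ma) *ᵥ u) ((B : Mb) *ᵥ v) := fun u v => by
    rw [hAB, kronecker_mulVec]
  have hsq : ∀ u v, tmul ((A : Ma) *ᵥ ((A : Ma) *ᵥ u)) ((B : Mb) *ᵥ ((B : Mb) *ᵥ v)) = tmul u v := fun u v => by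
    rw [← hap, ← hap, Matrix.mulVec_mulVec, ← Units.val_mul, hxx, Units.val_one, Matrix.one_mulVec]
  -- the squares are scalar
  obtain ⟨y₀, hy₀⟩ : ∃ y₀ : β → F, y₀ = Pi.single j 1 := ⟨_, rfl⟩
  have hy₀0 : y₀ ≠ 0 := hy₀ ▸ by simp
  obtain ⟨μ, hμ⟩ : ∃ μ : F, ∀ u, (A : Ma) *ᵥ ((A : Ma) *ᵥ u) = μ • u := by
    refine scalar_of_lines ((A : Ma) * (A : Ma)) (fun u => ?_) |>.imp fun l hl u => by
      rw [Matrix.mulVec_mulVec, hl]
    obtain ⟨φ, hφ⟩ := TensorMax.exists_dual (show (B : Mb) *ᵥ ((B : Mb) *ᵥ y₀) ≠ 0 from fun e => hy₀0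
      (gl_mulVec_injective B (gl_mulVec_injective B (e.trans (by simp)))))
    refine ⟨φ ⬝ᵥ y₀, ?_⟩
    have h1 := congrArg (slice φ) (hsq u y₀)
    rw [slice_tmul, slice_tmul, hφ, one_smul] at h1
    rw [← Matrix.mulVec_mulVec, h1]
  have hμ0 : μ ≠ 0 := fun e => by
    have h1 := hsq (Pi.single i 1) y₀
    rw [hμ, e, zero_smul, tmul_zero_left] at h1
    exact tmul_ne_zero (by simp) hy₀0 h1.symm
  obtain ⟨c, hc⟩ : ∃ c : F, c * c = μ := by
    have hm : (A : Ma) * (A : Ma) = μ • 1 := Matrix.ext_iff_mulVec.2 fun u => by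
      rw [← Matrix.mulVec_mulVec, hμ, Matrix.smul_mulVec, Matrix.one_mulVec]
    have hd := congrArg Matrix.det hm
    rw [Matrix.det_mul, Matrix.det_smul, Matrix.det_one, h3, mul_one] at hd
    exact ⟨(A : Ma).det / μ, by rw [div_mul_div_comm, hd]; field_simp⟩
  have hc0 : c ≠ 0 := fun e => hμ0 (by rw [← hc, e, zero_mul])
  obtain ⟨P, hP⟩ : ∃ P : Ma, P = c⁻¹ • (A : Ma) := ⟨_, rfl⟩
  obtain ⟨Q, hQ⟩ : ∃ Q : Mb, Q = c • (B : Mb) := ⟨_, rfl⟩
  have hxPQ : (x : Mn) = P ⊗ₖ Q := by
    rw [hP, hQ, Matrix.smul_kronecker, Matrix.kronecker_smul, smul_smul, inv_mul_cancel₀ hc0, one_smul, hAB]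
  have hPx : ∀ u v, (x : Mn) *ᵥ tmul u v = tmul (P *ᵥ u) (Q *ᵥ v) := fun u v => by rw [hxPQ, kronecker_mulVec]
  have hPP : P * P = 1 := Matrix.ext_iff_mulVec.2 fun u => by
    simp only [hP, ← Matrix.mulVec_mulVec, Matrix.smul_mulVec, Matrix.mulVec_smul, hμ, smul_smul,
      Matrix.one_mulVec]
    rw [← hc, show c⁻¹ * (c⁻¹ * (c * c)) = 1 by field_simp, one_smul]
  have hQQ : Q * Q = 1 := Matrix.ext_iff_mulVec.2 fun v => by
    obtain ⟨ξ, hξ⟩ := TensorMax.exists_dual (show (Pi.single i (1 : F) : α → F) ≠ 0 by simp)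
    have h1 := congrArg (fun u : GL (α × β) F => (u : Mn) *ᵥ tmul (Pi.single i (1 : F)) v) hxx
    simp only [Units.val_mul, Units.val_one, ← Matrix.mulVec_mulVec, hPx, Matrix.one_mulVec] at h1
    rw [Matrix.mulVec_mulVec _ P P, hPP, Matrix.one_mulVec] at h1
    have h3' := congrArg (lslice ξ) h1
    rw [lslice_tmul, lslice_tmul, hξ, one_smul, one_smul] at h3'
    rw [← Matrix.mulVec_mulVec, h3', Matrix.one_mulVec]
  obtain ⟨S, ε, hε, hS⟩ := exists_diag_invol h2 hPP
  obtain ⟨S', δ, hδ, hS'⟩ := exists_diag_invol h2 hQQ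
  rw [hxPQ, rank_kron_sub_one hS hS', card_prod_ne h2 hε hδ, h3, h4] at hr
  have ha3 : (Finset.univ.filter fun i => ε i = 1).card ≤ 3 := h3 ▸ Finset.card_le_univ _
  have hb4 : (Finset.univ.filter fun j => δ j = 1).card ≤ 4 := h4 ▸ Finset.card_le_univ _
  obtain ⟨n, hn⟩ : ∃ n, n = (Finset.univ.filter fun i => ε i = 1).card := ⟨_, rfl⟩
  obtain ⟨m, hm⟩ : ∃ m, m = (Finset.univ.filter fun j => δ j = 1).card := ⟨_, rfl⟩
  rw [← hn, ← hm] at hr
  rw [← hn] at ha3
  rw [← hm] at hb4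
  have hcases : (n = 1 ∧ m = 4) ∨ (n = 2 ∧ m = 0) := by
    interval_cases n <;> interval_cases m <;> omega
  -- normalise the second factor to one
  obtain ⟨σ, hσ, hσQ, hn1⟩ : ∃ σ : F, σ * σ = 1 ∧ Q = σ • 1 ∧
      (Finset.univ.filter fun i => σ * ε i = 1).card = 1 := by
    have hQd : ∀ τ : F, (∀ q, δ q = τ) → Q = τ • 1 := fun τ hτ => by
      refine S'.isUnit.mul_left_injective ?_
      show Q * (S' : Mb) = τ • 1 * (S' : Mb)
      rw [hS', Matrix.smul_mul, one_mul, show δ = fun _ => τ from funext hτ, ← Matrix.smul_one_eq_diagonal,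
        Matrix.mul_smul, mul_one]
    rcases hcases with ⟨hn', hm4⟩ | ⟨hn', hm0⟩
    · refine ⟨1, one_mul 1, hQd 1 fun q => ?_, by simp only [one_mul]; omega⟩
      have hall := Finset.eq_univ_of_card _ (hm.symm.trans (hm4.trans h4.symm))
      have hq := Finset.mem_univ q
      rw [← hall, Finset.mem_filter] at hq
      exact hq.2
    · refine ⟨-1, by ring, hQd (-1) fun q => (hδ q).resolve_left fun e => ?_, ?_⟩
      · have h0 := Finset.card_eq_zero.1 (hm.symm.trans hm0)
        exact Finset.notMem_empty q (h0 ▸ Finset.mem_filter.2 ⟨Finset.mem_univ q, e⟩)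
      · have e : (Finset.univ.filter fun i => -1 * ε i = 1) = (Finset.univ.filter fun i => ε i = 1)ᶜ := by
          ext q
          have h11 : (-1 : F) ≠ 1 := fun e => h2 (by linear_combination -e)
          rcases hε q with hq | hq <;> simp [hq, h11, h11.symm]
        rw [e, Finset.card_compl, h3, ← hn, hn']
  obtain ⟨P', hP'⟩ : ∃ P' : Ma, P' = σ • P := ⟨_, rfl⟩
  have hxP : ∀ u v, (x : Mn) *ᵥ tmul u v = tmul (P' *ᵥ u) v := fun u v => by
    rw [hPx, hσQ, hP', Matrix.smul_mulVec, Matrix.smul_mulVec, Matrix.one_mulVec, tmul_smul_right,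
      tmul_smul_left]
  -- the fixed line
  obtain ⟨q, hq⟩ := Finset.card_eq_one.1 hn1
  obtain ⟨a, ha⟩ : ∃ a : α → F, a = (S : Ma) *ᵥ Pi.single q 1 := ⟨_, rfl⟩
  have hPS : ∀ v : α → F, P' *ᵥ ((S : Ma) *ᵥ v) = (S : Ma) *ᵥ fun r => σ * ε r * v r := fun v => by
    rw [hP', Matrix.smul_mulVec, Matrix.mulVec_mulVec, hS, ← Matrix.mulVec_mulVec, ← Matrix.mulVec_smul]
    congr 1
    funext r
    rw [Pi.smul_apply, Matrix.mulVec_diagonal, smul_eq_mul, mul_assoc]
  have hcol : ∀ r, P' *ᵥ ((S : Ma) *ᵥ Pi.single r 1) = (σ * ε r) • ((S : Ma) *ᵥ Pi.single r 1) := fun r => by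
    rw [hPS, ← Matrix.mulVec_smul]
    congr 1
    funext k
    rcases eq_or_ne k r with rfl | hk <;> simp [*]
  have hsq1 : ∀ r, r ≠ q → σ * ε r = -1 := fun r hr' => by
    have hne : σ * ε r ≠ 1 := fun e => hr' (Finset.mem_singleton.1 (hq ▸ Finset.mem_filter.2 ⟨Finset.mem_univ r, e⟩))
    rcases hε r with e | e <;> rw [e] at hne ⊢
    · rw [mul_one] at hne ⊢
      exact (mul_self_eq_one_iff.1 hσ).resolve_left hne
    · have : σ ≠ -1 := fun e' => hne (by rw [e']; ring)
      rw [(mul_self_eq_one_iff.1 hσ).resolve_right this, one_mul]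
  have hPa : P' *ᵥ a = a := by
    have h1 : σ * ε q = 1 := (Finset.mem_filter.1 (hq ▸ Finset.mem_singleton_self q : q ∈ _)).2
    rw [ha, hcol, h1, one_smul]
  have hiso : ∀ u u', fA (P' *ᵥ u) (P' *ᵥ u') = fA u u' := fun u u' => by
    obtain ⟨w, -, hww⟩ := hs.exists_aniso h2 hs.ndOn_top ⟨y₀, trivial, hy₀0⟩
    have h1 := hO.isoM hx (tmul u w) (tmul u' w)
    rw [hxP, hxP, hO.ten, hO.ten] at h1
    exact mul_right_cancel₀ hww h1
  have hneg : ∀ r, r ≠ q → fA ((S : Ma) *ᵥ Pi.single r 1) a = 0 := fun r hr' => by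
    have h1 := hiso ((S : Ma) *ᵥ Pi.single r 1) a
    rw [hPa, hcol, hsq1 r hr', hA.smul_left] at h1
    exact (mul_eq_zero.1 (show (2 : F) * fA ((S : Ma) *ᵥ Pi.single r 1) a = 0 by linear_combination -h1)).resolve_left h2
  have hdecomp : ∀ u, ∃ v : α → F, u = (S : Ma) *ᵥ v := fun u => ⟨_, (mulVec_inv_cancel S u).symm⟩
  have hpair : ∀ v : α → F, fA ((S : Ma) *ᵥ v) a = v q * fA a a := fun v => by
    conv_lhs => rw [← Finset.univ_sum_single v, Matrix.mulVec_sum]
    show hA.lin a (∑ r, _) = _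
    rw [map_sum, Finset.sum_eq_single q (fun r _ hr' => ?_) (fun h => absurd (Finset.mem_univ q) h)]
    · rw [show (Pi.single q (v q) : α → F) = v q • Pi.single q 1 by rw [← Pi.single_smul, smul_eq_mul, mul_one],
        Matrix.mulVec_smul, ← ha, Sym.lin_apply, hA.smul_left]
    · rw [show (Pi.single r (v r) : α → F) = v r • Pi.single r 1 by rw [← Pi.single_smul, smul_eq_mul, mul_one],
        Matrix.mulVec_smul, Sym.lin_apply, hA.smul_left, hneg r hr', mul_zero]
  have haa : fA a a ≠ 0 := fun e => by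
    have : a = 0 := hA.eq_zero a fun u => by
      obtain ⟨v, rfl⟩ := hdecomp u
      rw [hpair, e, mul_zero]
    rw [ha] at this
    simpa using congrFun (gl_mulVec_injective S (this.trans (Matrix.mulVec_zero _).symm)) q
  have hperp : ∀ u, fA u a = 0 → P' *ᵥ u = -u := fun u hu => by
    obtain ⟨v, rfl⟩ := hdecomp u
    rw [hpair] at hu
    have hvq := (mul_eq_zero.1 hu).resolve_right haa
    rw [hPS, ← Matrix.mulVec_neg]
    congr 1
    funext r
    rcases eq_or_ne r q with rfl | hr'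
    · simp [hvq]
    · rw [hsq1 r hr', neg_one_mul]; rfl
  have hformula : ∀ u, P' *ᵥ u = (2 / fA a a * fA u a) • a - u := fun u => by
    obtain ⟨k, hk⟩ : ∃ k, k = fA u a / fA a a := ⟨_, rfl⟩
    have h1 := hperp (u - k • a) (by rw [hA.sub_left, hA.smul_left, hk, div_mul_cancel₀ _ haa, sub_self])
    rw [Matrix.mulVec_sub, Matrix.mulVec_smul, hPa, sub_eq_iff_eq_add] at h1
    rw [h1, show 2 / fA a a * fA u a = 2 * k by rw [hk]; ring]
    module
  refine ⟨a, haa, fun t => ?_⟩
  refine LinearMap.congr_fun (f := Matrix.toLin' (x : Mn))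
    (g := (2 / fA a a) • (((LinearMap.mk₂ F (fun (u : α → F) (w : β → F) => tmul u w) tmul_add_left tmul_smul_left
      tmul_add_right (fun k u w => tmul_smul_right k u w)) a).comp (la fA a)) - LinearMap.id)
    (ext_pure fun u w => ?_) t
  simp only [Matrix.toLin'_apply, LinearMap.sub_apply, LinearMap.smul_apply, LinearMap.comp_apply,
    LinearMap.mk₂_apply, LinearMap.id_apply, hO.la_tmul, hxP, hformula, tmul_smul_right, smul_smul,
    tmul_smul_left, tmul_sub_left]

end Cfsg.Agent.Classical.TensorOrth
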