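import Cfsg.Agent.Lib.Classical.MaxTensorOrthPlane
import Cfsg.Agent.Lib.Classical.QuadraticPairEven
import Mathlib.GroupTheory.Nilpotent
import Mathlib.LinearAlgebra.Dual.Lemmas

/-!
Pairs of conjugate long root elements: an overgroup without root elements on a line consists of products.
-/

set_option autoImplicit false
set_option linter.unusedSectionVars false

namespace Cfsg.Agent.Classical.TensorOrth

open Matrix Module MaxTv TensorMax Overfield
open scoped Kronecker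
open Cfsg.Agent.Classical.TensorRoot (kg kg_apply kg_isKron)

variable {F : Type*} [Field F] [Fintype F] {α β : Type} [Fintype α] [DecidableEq α] [Fintype β] [DecidableEq β]

local notation "V" => (α × β → F)
local notation "Mn" => Matrix (α × β) (α × β) F
local notation "Ma" => Matrix α α F
local notation "Mb" => Matrix β β F

variable {fA : (α → F) → (α → F) → F} {fB : (β → F) → (β → F) → F}
  {f : (α × β → F) → (α × β → F) → F} {G M : Subgroup (GL (α × β) F)}

variable (hO : Ovr fA fB f G M)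
include hO

/-- Two vectors spanning a plane give an injective pair of insertions. -/
theorem Ovr.coprod_injective {z₁ z₂ : β → F} (p : TSP fB z₁ z₂) :
    Function.Injective ((fac (α := α) z₁).coprod (fac z₂)) := by
  have hs := hO.hB
  obtain ⟨u₁, u₂, -, -, -, a11, a12, a21, a22⟩ := p.dual hs hO.two
  refine (injective_iff_map_eq_zero _).2 fun s hs' => ?_
  have h1 : tmul s.1 z₁ + tmul s.2 z₂ = 0 := hs'
  have k1 := congrArg (sl fB u₁) h1
  have k2 := congrArg (sl fB u₂) h1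
  simp only [map_add, hO.sl_tmul, hs.symm z₁ u₁, a11, hs.symm z₂ u₁, a12, hs.symm z₁ u₂, a21, hs.symm z₂ u₂,
    a22, one_smul, zero_smul, add_zero, zero_add, map_zero] at k1 k2
  exact Prod.ext k1 k2

variable (hN : NoRoot fB M)
include hN

/-- A conjugate long root element outside the product moves tensors into `α ⊗ S` for a four-dimensional `S`. -/
theorem Ovr.pair_struct (hab : Fintype.card α < Fintype.card β ∨ Fintype.card β = 3) {d X : GL (α × β) F} (hdM : d ∈ M) (hdk : ¬ IsKron d)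
    (hdsq : ((d : Mn) - 1) * ((d : Mn) - 1) = 0)
    (hdrk : finrank F (LinearMap.range (Matrix.toLin' (d : Mn) - LinearMap.id)) ≤ 2 * Fintype.card α)
    {z₁ z₂ : β → F} (p : TSP fB z₁ z₂) (hXM : X ∈ M) (hXk : IsKron X) (hX : IsEich fB X z₁ z₂) :
    ∃ S : Submodule F (β → F), z₁ ∈ S ∧ z₂ ∈ S ∧ finrank F S ≤ 4 ∧
      ∀ t y, (∀ s ∈ S, fB s y = 0) → sl fB y ((d : Mn) *ᵥ t - t) = 0 := by
  classical
  have hs := hO.hB
  have hA := hO.hA
  obtain ⟨i₀⟩ := hO.nonempty
  obtain ⟨j₀⟩ : Nonempty β := Fintype.card_pos_iff.1 (by have := hO.hb; omega)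
  haveI : Nonempty (α × β) := ⟨(i₀, j₀)⟩
  obtain ⟨u₁, u₂, e1, e2, e12, a11, a12, a21, a22⟩ := p.dual hs hO.two
  have hz21 : fB z₂ z₁ = 0 := by rw [hs.symm]; exact p.orth
  have hXd : ∀ t, (X : Mn) *ᵥ t - t = tmul (sl fB z₁ t) z₂ - tmul (sl fB z₂ t) z₁ := fun t => by
    rw [hX, p.iso₂, zero_div, zero_smul, sub_zero]; abel
  have hXsq : ((X : Mn) - 1) * ((X : Mn) - 1) = 0 := Matrix.ext_iff_mulVec.2 fun t => by
    rw [← Matrix.mulVec_mulVec, Matrix.sub_mulVec, Matrix.one_mulVec, Matrix.sub_mulVec, Matrix.one_mulVec,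
      hXd, hXd, Matrix.zero_mulVec]
    simp [map_sub, hO.sl_tmul, p.iso₁, p.iso₂, p.orth, hz21, tmul_zero_left]
  obtain ⟨pc, hpc⟩ := CharP.exists F
  haveI := hpc
  haveI : Fact pc.Prime := ⟨(CharP.char_is_prime_or_zero F pc).resolve_right (CharP.char_ne_zero_of_finite F pc)⟩
  let Wf : V →+ V →+ F := AddMonoidHom.mk' (fun x => AddMonoidHom.mk' (fun y => f x y)
    (fun a b => hO.hV.add_right x a b)) (fun a b => AddMonoidHom.ext fun y => hO.hV.add_left a b y)
  have hP : QuadPair.Pair Wf X d :=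
    { two := hO.two
      nd := fun x hx => hO.hV.eq_zero x fun y => (hO.hV.symm y x).trans (hx y)
      symm := fun x y h => (hO.hV.symm y x).trans h
      iso := fun x y => hO.isoM hXM x y
      iso' := fun x y => hO.isoM hdM x y
      sq := hXsq
      sq' := hdsq }
  have hQM : Subgroup.closure ({X, d} : Set (GL (α × β) F)) ≤ M :=
    (Subgroup.closure_le _).2 (by rintro _ (rfl | rfl); exacts [hXM, hdM])
  rcases hP.dichotomy (p := pc) with ⟨ζ, hζQ, hζ1, hζ2, hζX, hζd⟩ | hpg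
  swap
  · exfalso
    let Q := Subgroup.closure ({X, d} : Set (GL (α × β) F))
    haveI : Group.IsNilpotent Q := hpg.isNilpotent
    let L : Subgroup Q :=
      { carrier := {q | IsKron (q : GL (α × β) F)}
        mul_mem' := fun h h' => IsKron.mul h h'
        one_mem' := isKron_of_apply 1 1 fun x y => by simp
        inv_mem' := fun h => h.inv }
    have hd' : d ∈ Q := Subgroup.subset_closure (by simp)
    have hX' : X ∈ Q := Subgroup.subset_closure (by simp)
    have hL : L < ⊤ := lt_top_iff_ne_top.2 fun h => hdk (h ▸ Subgroup.mem_top (⟨d, hd'⟩ : Q) : (⟨d, hd'⟩ : Q) ∈ L)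
    obtain ⟨n, hnN, hnL⟩ := SetLike.exists_of_lt (normalizerCondition_of_isNilpotent L hL)
    exact hnL (hO.conj_kron hN hab (hQM n.2) p hX (((Subgroup.mem_normalizer_iff.1 hnN) ⟨X, hX'⟩).1 hXk))
  have hζM := hQM hζQ
  obtain ⟨A₀, B₀, hAB⟩ := hO.comm_kron hN hab hζM p hX hXk hζX
  have hζap : ∀ x y, (ζ : Mn) *ᵥ tmul x y = tmul ((A₀ : Ma) *ᵥ x) ((B₀ : Mb) *ᵥ y) := fun x y => by
    rw [hAB, kronecker_mulVec]
  -- the eigenspace
  let E : Submodule F V := LinearMap.ker (Matrix.toLin' (ζ : Mn) + LinearMap.id)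
  have hE : ∀ t, t ∈ E ↔ (ζ : Mn) *ᵥ t = -t := fun t => by
    simp only [E, LinearMap.mem_ker, LinearMap.add_apply, Matrix.toLin'_apply, LinearMap.id_apply,
      add_eq_zero_iff_eq_neg]
  let N : E →ₗ[F] V := (Matrix.toLin' (X : Mn) - LinearMap.id).domRestrict E
  let N' : E →ₗ[F] V := (Matrix.toLin' (d : Mn) - LinearMap.id).domRestrict E
  have hNa : ∀ x : E, N x = (X : Mn) *ᵥ (x : V) - x := fun x => rfl
  have hN'a : ∀ x : E, N' x = (d : Mn) *ᵥ (x : V) - x := fun x => rfl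
  have hstab : ∀ (k : GL (α × β) F), ζ * k = k * ζ → ∀ x : E, (k : Mn) *ᵥ (x : V) - x ∈ E := fun k hk x => by
    rw [hE, Matrix.mulVec_sub, Matrix.mulVec_mulVec, ← Units.val_mul, hk, Units.val_mul,
      ← Matrix.mulVec_mulVec, (hE _).1 x.2, Matrix.mulVec_neg, sub_neg_eq_add, neg_sub, neg_add_eq_sub]
  have hsqr : ∀ (k : GL (α × β) F), ((k : Mn) - 1) * ((k : Mn) - 1) = 0 → ∀ x : V,
      (k : Mn) *ᵥ ((k : Mn) *ᵥ x - x) - ((k : Mn) *ᵥ x - x) = 0 := fun k hk x => by
    have := congrArg (fun A : Mn => A *ᵥ x) hk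
    simpa only [← Matrix.mulVec_mulVec, Matrix.sub_mulVec, Matrix.one_mulVec, Matrix.zero_mulVec] using this
  have hcommon : LinearMap.ker N ⊓ LinearMap.ker N' = ⊥ := by
    rw [eq_bot_iff]
    rintro ⟨x, hx⟩ ⟨h1, h1'⟩
    have e1' : (X : Mn) *ᵥ x = x := sub_eq_zero.1 ((hNa ⟨x, hx⟩).symm.trans (LinearMap.mem_ker.1 h1))
    have e2' : (d : Mn) *ᵥ x = x := sub_eq_zero.1 ((hN'a ⟨x, hx⟩).symm.trans (LinearMap.mem_ker.1 h1'))
    have e3' : ∀ w ∈ Subgroup.closure ({X, d} : Set (GL (α × β) F)), (w : Mn) *ᵥ x = x := by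
      intro w hw
      induction hw using Subgroup.closure_induction with
      | mem w hw => rcases hw with rfl | rfl; exacts [e1', e2']
      | one => simp
      | mul w w' _ _ h h' => rw [Units.val_mul, ← Matrix.mulVec_mulVec, h', h]
      | inv w _ h =>
        conv_lhs => rw [← h]
        rw [inv_mulVec_cancel]
    have e3 := e3' _ hζQ
    rw [(hE x).1 hx] at e3
    have : (2 : F) • x = 0 := by rw [two_smul]; nth_rw 1 [← e3]; exact neg_add_cancel x
    exact Subtype.ext ((smul_eq_zero.1 this).resolve_left hO.two)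
  have hNr : LinearMap.range N ≤ (LinearMap.ker N).map E.subtype := by
    rintro _ ⟨x, rfl⟩
    exact ⟨⟨_, hstab X hζX x⟩, LinearMap.mem_ker.2 ((hNa _).trans (hsqr X hXsq x)), rfl⟩
  have hN'r : LinearMap.range N' ≤ (LinearMap.ker N').map E.subtype := by
    rintro _ ⟨x, rfl⟩
    exact ⟨⟨_, hstab d hζd x⟩, LinearMap.mem_ker.2 ((hN'a _).trans (hsqr d hdsq x)), rfl⟩
  have r1 := LinearMap.finrank_range_add_finrank_ker N
  have r2 := LinearMap.finrank_range_add_finrank_ker N'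
  have r3 := Submodule.finrank_sup_add_finrank_inf_eq (LinearMap.ker N) (LinearMap.ker N')
  rw [hcommon, finrank_bot] at r3
  have r4 := Submodule.finrank_le (LinearMap.ker N ⊔ LinearMap.ker N')
  have hkmap := fun (P : Submodule F E) =>
    (LinearEquiv.finrank_eq (Submodule.equivMapOfInjective _ E.injective_subtype P)).symm
  have r5 := (Submodule.finrank_mono hNr).trans_eq (hkmap (LinearMap.ker N))
  have r6 := (Submodule.finrank_mono hN'r).trans_eq (hkmap (LinearMap.ker N'))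
  have hNeq : LinearMap.range N = (LinearMap.ker N).map E.subtype :=
    Submodule.eq_of_le_of_finrank_le hNr (by rw [hkmap]; omega)
  have hfixE : ∀ t ∈ E, (X : Mn) *ᵥ t = t → ∃ a b, t = tmul a z₁ + tmul b z₂ := fun t ht hfix => by
    have hm : t ∈ (LinearMap.ker N).map E.subtype :=
      ⟨⟨t, ht⟩, LinearMap.mem_ker.2 ((hNa _).trans (by rw [hfix, sub_self])), rfl⟩
    rw [← hNeq] at hm
    obtain ⟨s, rfl⟩ := hm
    exact ⟨-sl fB z₂ (s : V), sl fB z₁ (s : V), by rw [hNa, hXd, neg_tmul]; abel⟩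
  -- the first factor is scalar
  obtain ⟨w, hw₁, hw₂, hww⟩ := hO.exists_perp_plane p e1 e2 e12 a11 a12 a21 a22
  obtain ⟨r, hr⟩ : ∃ r, r = fB ((B₀ : Mb) *ᵥ w) w := ⟨_, rfl⟩
  have hAscal : ∀ x, r • (A₀ : Ma) *ᵥ x = fB w w • x := fun x => by
    have hXw : (X : Mn) *ᵥ tmul x w = tmul x w := hO.eich_fix_tmul hX hw₁ hw₂ x
    obtain ⟨a, b, hab⟩ := hfixE (tmul x w - (ζ : Mn) *ᵥ tmul x w) ((hE _).2 (by
        rw [Matrix.mulVec_sub, Matrix.mulVec_mulVec, ← Units.val_mul, hζ2, Units.val_one, Matrix.one_mulVec,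
          neg_sub]))
      (by rw [Matrix.mulVec_sub, hXw, Matrix.mulVec_mulVec, ← Units.val_mul, ← hζX, Units.val_mul,
        ← Matrix.mulVec_mulVec, hXw])
    have h1 := congrArg (sl fB w) hab
    rw [map_sub, map_add, hζap, hO.sl_tmul, hO.sl_tmul, hO.sl_tmul, hO.sl_tmul, ← hr, hs.symm z₁ w, hw₁,
      hs.symm z₂ w, hw₂, zero_smul, zero_smul, add_zero, sub_eq_zero] at h1
    exact h1.symm
  have hr0 : r ≠ 0 := fun e0 => by
    have := hAscal (Pi.single i₀ 1)
    rw [e0, zero_smul, eq_comm, smul_eq_zero] at this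
    simpa using congrFun (this.resolve_left hww) i₀
  obtain ⟨T, hT⟩ : ∃ T : (β → F) →ₗ[F] (β → F), T = (fB w w / r) • Matrix.toLin' (B₀ : Mb) := ⟨_, rfl⟩
  have hap : ∀ x y, (ζ : Mn) *ᵥ tmul x y = tmul x (T y) := fun x y => by
    rw [hζap, hT, LinearMap.smul_apply, Matrix.toLin'_apply, tmul_smul_right, ← tmul_smul_left]
    congr 1
    rw [div_eq_inv_mul, ← smul_smul, ← hAscal, smul_smul, inv_mul_cancel₀ hr0, one_smul]
  obtain ⟨xe, hxe⟩ : ∃ x : α → F, x ≠ 0 := ⟨Pi.single i₀ 1, by simp⟩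
  have hinj : ∀ y y' : β → F, tmul xe y = tmul xe y' → y = y' := fun y y' h => by
    obtain ⟨ξ, hξ⟩ := exists_dual hxe
    have := congrArg (lslice ξ) h
    rwa [lslice_tmul, lslice_tmul, hξ, one_smul, one_smul] at this
  have hTT : ∀ y, T (T y) = y := fun y => hinj _ _ (by
    rw [← hap, ← hap, Matrix.mulVec_mulVec, ← Units.val_mul, hζ2, Units.val_one, Matrix.one_mulVec])
  have hTi : ∀ y y', fB (T y) (T y') = fB y y' := fun y y' => by
    obtain ⟨a₁, a₂, -, -, ha⟩ := hA.exists_hyp hO.two hO.ha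
    have := hO.isoM hζM (tmul a₂ y) (tmul a₁ y')
    rwa [hap, hap, hO.ten, hO.ten, ha, one_mul, one_mul] at this
  have hTs : ∀ y y', fB (T y) y' = fB y (T y') := fun y y' => by rw [← hTi (T y) y', hTT]
  let bz : (β → F) →ₗ[F] (β → F) := (hs.lin z₁).smulRight z₂ - (hs.lin z₂).smulRight z₁
  have hbz : ∀ y, bz y = fB y z₁ • z₂ - fB y z₂ • z₁ := fun y => rfl
  have hXb : ∀ x y, (X : Mn) *ᵥ tmul x y - tmul x y = tmul x (bz y) := fun x y => by
    rw [hXd, hO.sl_tmul, hO.sl_tmul, hbz, tmul_sub_right, tmul_smul_left, tmul_smul_left, tmul_smul_right,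
      tmul_smul_right]
  have hbT : ∀ y, bz (T y) = T (bz y) := fun y => hinj _ _ (by
    rw [← hXb, ← hap, ← hap, ← hXb, Matrix.mulVec_sub, Matrix.mulVec_mulVec, ← Units.val_mul, ← hζX,
      Units.val_mul, ← Matrix.mulVec_mulVec])
  have hz1b : z₁ = bz (-u₂) := by
    rw [hbz, hs.neg_left, hs.neg_left, a21, a22]; simp
  have hz2b : z₂ = bz u₁ := by rw [hbz, a11, a12]; simp
  let S : Submodule F (β → F) := LinearMap.ker (T + LinearMap.id)
  have hS : ∀ y, y ∈ S ↔ T y = -y := fun y => by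
    simp only [S, LinearMap.mem_ker, LinearMap.add_apply, LinearMap.id_apply, add_eq_zero_iff_eq_neg]
  have hbS : ∀ s ∈ S, bz s ∈ S := fun s hs' => by rw [hS, ← hbT, (hS s).1 hs', map_neg]
  have hneg : ∀ y, T (y - T y) = -(y - T y) := fun y => by rw [map_sub, hTT, neg_sub]
  -- the plane is inverted
  have hplane : T z₁ = -z₁ ∧ T z₂ = -z₂ := by
    by_contra hc
    obtain ⟨l, hl, hlne⟩ : ∃ l, (∃ v, l = bz v) ∧ T l ≠ -l := by
      by_cases h : T z₁ = -z₁
      · exact ⟨z₂, ⟨_, hz2b⟩, fun h' => hc ⟨h, h'⟩⟩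
      · exact ⟨z₁, ⟨_, hz1b⟩, h⟩
    obtain ⟨v, rfl⟩ := hl
    obtain ⟨zp, hzp⟩ : ∃ zp, zp = bz v + T (bz v) := ⟨_, rfl⟩
    have hzp0 : zp ≠ 0 := fun e0 => hlne (eq_neg_of_add_eq_zero_right (hzp ▸ e0))
    have hTzp : T zp = zp := by rw [hzp, map_add, hTT, add_comm]
    obtain ⟨c₁, d₁, hzpL⟩ : ∃ c₁ d₁ : F, zp = c₁ • z₁ + d₁ • z₂ := by
      have : zp = bz (v + T v) := by rw [hzp, map_add, hbT]
      exact ⟨_, _, by rw [this, hbz, sub_eq_add_neg, ← neg_smul, add_comm]⟩
    have hsome : ∃ z, z ≠ 0 ∧ T z = -z ∧ ∃ a b : F, z = a • z₁ + b • z₂ := by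
      by_contra hno
      push Not at hno
      have hL : ∀ y, T (bz y) = bz y := fun y => by
        by_contra hne
        have h1 : bz y - T (bz y) = bz (y - T y) := by rw [map_sub, hbT]
        refine hno _ (sub_ne_zero.2 (Ne.symm hne)) (hneg _) (-fB (y - T y) z₂) (fB (y - T y) z₁) ?_
        rw [h1, hbz, sub_eq_add_neg, ← neg_smul, add_comm]
      have hzero : ∀ x : E, N x = 0 := fun x => by
        have h1 := (hE _).1 (hstab X hζX x)
        rw [← hNa, hNa, hXd, Matrix.mulVec_sub, hap, hap, show T z₂ = z₂ by rw [hz2b, hL],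
          show T z₁ = z₁ by rw [hz1b, hL]] at h1
        rw [hNa, hXd]
        have : (2 : F) • (tmul (sl fB z₁ (x : V)) z₂ - tmul (sl fB z₂ (x : V)) z₁) = 0 := by
          rw [two_smul]; nth_rw 1 [h1]; exact neg_add_cancel _
        exact (smul_eq_zero.1 this).resolve_left hO.two
      have hbot : E = ⊥ := Submodule.finrank_eq_zero.1 (by
        have h0 : LinearMap.range N = ⊥ := LinearMap.range_eq_bot.2 (LinearMap.ext hzero)
        rw [h0, finrank_bot] at r1 r5
        have : finrank F ((LinearMap.ker N).map E.subtype) = 0 := by rw [← hNeq, h0, finrank_bot]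
        rw [hkmap] at this
        omega)
      refine hζ1 (Units.ext (Matrix.ext_iff_mulVec.2 fun t => ?_))
      have hm : (ζ : Mn) *ᵥ t - t ∈ E := (hE _).2 (by
        rw [Matrix.mulVec_sub, Matrix.mulVec_mulVec, ← Units.val_mul, hζ2, Units.val_one, Matrix.one_mulVec,
          neg_sub])
      rw [hbot, Submodule.mem_bot, sub_eq_zero] at hm
      rw [hm, Units.val_one, Matrix.one_mulVec]
    obtain ⟨z, hz0, hTz, a, b, hzL⟩ := hsome
    refine hz0 (hs.eq_zero _ fun y => ?_)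
    have hm : ∀ s ∈ S, fB s z = 0 := fun s hs' => by
      have e0 : fB s z • zp - fB s zp • z = (a * d₁ - b * c₁) • bz s := by
        rw [hbz, hzL, hzpL]
        simp only [hs.add_right, hs.smul_right]
        module
      have h1 := congrArg T e0
      rw [map_sub, map_smul, map_smul, map_smul, hTzp, hTz, (hS _).1 (hbS s hs'), smul_neg (a * d₁ - b * c₁),
        ← e0] at h1
      have h3 : ((2 : F) * fB s z) • zp = 0 := by linear_combination (norm := module) h1
      exact (mul_eq_zero.1 ((smul_eq_zero.1 h3).resolve_right hzp0)).resolve_left hO.two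
    have h1 := hm _ ((hS _).2 (hneg y))
    rw [hs.sub_left, hTs, hTz, hs.neg_right, sub_neg_eq_add, ← two_mul] at h1
    exact (mul_eq_zero.1 h1).resolve_left hO.two
  have hz₁S : z₁ ∈ S := (hS _).2 hplane.1
  have hz₂S : z₂ ∈ S := (hS _).2 hplane.2
  refine ⟨S, hz₁S, hz₂S, ?_, ?_⟩
  · let R : S →ₗ[F] (β → F) := bz.domRestrict S
    have h1 := LinearMap.finrank_range_add_finrank_ker R
    have hspan : finrank F (Submodule.span F ({z₁, z₂} : Set (β → F))) ≤ 2 := by
      have := finrank_range_le_card (R := F) ![z₁, z₂]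
      rwa [Set.finrank, Matrix.range_cons_cons_empty, Fintype.card_fin] at this
    have h3 : LinearMap.range R ≤ Submodule.span F ({z₁, z₂} : Set (β → F)) := by
      rintro _ ⟨s, rfl⟩
      exact Submodule.mem_span_pair.2 ⟨-fB (s : β → F) z₂, fB (s : β → F) z₁, by
        show _ = bz s
        rw [hbz, neg_smul, neg_add_eq_sub]⟩
    have h4 : (LinearMap.ker R).map S.subtype ≤ Submodule.span F ({z₁, z₂} : Set (β → F)) := by
      rintro _ ⟨s, hs', rfl⟩
      have h0 : fB (s : β → F) z₁ • z₂ - fB (s : β → F) z₂ • z₁ = 0 := LinearMap.mem_ker.1 hs'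
      rw [sub_eq_add_neg, ← neg_smul, add_comm] at h0
      obtain ⟨k1, k2⟩ := p.ind _ _ h0
      obtain ⟨a, b, hab⟩ := hfixE (tmul xe (s : β → F)) ((hE _).2 (by rw [hap, (hS _).1 s.2, tmul_neg]))
        (hO.eich_fix_tmul hX k2 (neg_eq_zero.1 k1) _)
      obtain ⟨ξ, hξ⟩ := exists_dual hxe
      have := congrArg (lslice ξ) hab
      rw [map_add, lslice_tmul, lslice_tmul, lslice_tmul, hξ, one_smul] at this
      exact Submodule.mem_span_pair.2 ⟨_, _, this.symm⟩
    have h5 := (LinearEquiv.finrank_eq (Submodule.equivMapOfInjective _ S.injective_subtype (LinearMap.ker R))).trans_le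
      (Submodule.finrank_mono h4)
    have h6 := Submodule.finrank_mono h3
    omega
  -- the range of `d - 1`
  have hLE : LinearMap.range ((fac (α := α) z₁).coprod (fac z₂)) ≤ (LinearMap.ker N).map E.subtype := by
    rintro _ ⟨⟨a, b⟩, rfl⟩
    refine ⟨⟨tmul a z₁ + tmul b z₂, (hE _).2 (by
      rw [Matrix.mulVec_add, hap, hap, hplane.1, hplane.2, tmul_neg, tmul_neg, neg_add])⟩,
      LinearMap.mem_ker.2 ((hNa _).trans ?_), rfl⟩
    show (X : Mn) *ᵥ (tmul a z₁ + tmul b z₂) - (tmul a z₁ + tmul b z₂) = 0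
    rw [hXd]
    simp [hO.sl_tmul, p.iso₁, p.iso₂, p.orth, hz21, tmul_zero_left]
  have h2n := Submodule.finrank_mono hLE
  rw [hkmap, LinearMap.finrank_range_of_inj (hO.coprod_injective p), Module.finrank_prod,
    Module.finrank_fintype_fun_eq_card] at h2n
  have hD : LinearMap.range N' = LinearMap.range (Matrix.toLin' (d : Mn) - LinearMap.id) :=
    Submodule.eq_of_le_of_finrank_le (by rintro _ ⟨x, rfl⟩; exact ⟨x, rfl⟩) (by omega)
  intro t y hy
  have hdt : (d : Mn) *ᵥ t - t ∈ LinearMap.range N' := by rw [hD]; exact ⟨t, rfl⟩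
  obtain ⟨x, hx, hxe'⟩ := hN'r hdt
  have hTy : T y = y := hs.eq_of_forall fun v => by
    have h1 := hy _ ((hS _).2 (hneg v))
    rw [hs.sub_left, hTs, sub_eq_zero, hs.symm v y] at h1
    rw [h1, hs.symm]
  have hslT : (sl fB y).comp (Matrix.toLin' (ζ : Mn)) = sl fB y := ext_pure fun a b => by
    rw [LinearMap.comp_apply, Matrix.toLin'_apply, hap, hO.sl_tmul, hO.sl_tmul, hTs, hTy]
  have h1 := LinearMap.congr_fun hslT ((d : Mn) *ᵥ t - t)
  rw [LinearMap.comp_apply, Matrix.toLin'_apply, ← hxe', Submodule.coe_subtype, (hE _).1 x.2, map_neg] at h1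
  have h3 : (2 : F) • sl fB y (x : V) = 0 := by rw [two_smul]; nth_rw 1 [← h1]; exact neg_add_cancel _
  rw [← hxe']
  exact (smul_eq_zero.1 h3).resolve_left hO.two

/-- Without root elements on a line the overgroup consists of products. -/
theorem Ovr.all_kron (hab : Fintype.card α < Fintype.card β ∨ Fintype.card β = 3) (h5 : 5 ≤ Fintype.card β) {g : GL (α × β) F} (hg : g ∈ M) : IsKron g := by
  classical
  by_contra hgk
  have hs := hO.hB
  have hA := hO.hA
  obtain ⟨z₁, c, hz₁, -, hcz⟩ := hs.exists_hyp hO.two (by have := hO.hb; omega)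
  have hz₁0 : z₁ ≠ 0 := fun e => one_ne_zero (by rw [← hcz, e, hs.zero_right])
  obtain ⟨z₂, p⟩ := hO.exists_plane h5 hz₁ hz₁0
  have hz21 : fB z₂ z₁ = 0 := by rw [hs.symm]; exact p.orth
  obtain ⟨u₁, u₂, e1, e2, e12, a11, a12, a21, a22⟩ := p.dual hs hO.two
  obtain ⟨X, hXM, hXk, hX⟩ := hO.exists_eichB hz₁ hz21
  obtain ⟨d, hd⟩ : ∃ d, d = g * X * g⁻¹ := ⟨_, rfl⟩
  have hdM : d ∈ M := hd ▸ mul_mem (mul_mem hg hXM) (inv_mem hg)
  have hdk : ¬ IsKron d := fun h => hgk (hO.conj_kron hN hab hg p hX (hd ▸ h))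
  obtain ⟨Φ, hΦ⟩ : ∃ Φ : (α → F) × (α → F) →ₗ[F] V,
      Φ = (Matrix.toLin' (g : Mn)).comp ((fac (α := α) z₁).coprod (fac z₂)) := ⟨_, rfl⟩
  have hΦa : ∀ a b, Φ (a, b) = (g : Mn) *ᵥ (tmul a z₁ + tmul b z₂) := fun a b => by rw [hΦ]; rfl
  have hdsub : ∀ s, (d : Mn) *ᵥ ((g : Mn) *ᵥ s) - (g : Mn) *ᵥ s = Φ (-sl fB z₂ s, sl fB z₁ s) := fun s => by
    rw [hΦa, hd, Units.val_mul, Units.val_mul, ← Matrix.mulVec_mulVec, ← Matrix.mulVec_mulVec, inv_mulVec_cancel,
      ← Matrix.mulVec_sub, hX, p.iso₂, zero_div, zero_smul, sub_zero, neg_tmul]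
    congr 1
    abel
  have hrange : LinearMap.range (Matrix.toLin' (d : Mn) - LinearMap.id) = LinearMap.range Φ := by
    apply le_antisymm
    · rintro _ ⟨t, rfl⟩
      obtain ⟨s, rfl⟩ : ∃ s, (g : Mn) *ᵥ s = t := ⟨_, mulVec_inv_cancel g t⟩
      exact ⟨_, (hdsub s).symm⟩
    · rintro _ ⟨⟨a, b⟩, rfl⟩
      refine ⟨(g : Mn) *ᵥ (tmul b u₁ - tmul a u₂), ?_⟩
      rw [LinearMap.sub_apply, Matrix.toLin'_apply, LinearMap.id_apply, hdsub]
      simp only [map_sub, hO.sl_tmul, a11, a12, a21, a22, one_smul, zero_smul, sub_zero, zero_sub, neg_neg]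
  have hΦi : Function.Injective Φ := fun a b h => by
    rw [hΦ] at h
    exact hO.coprod_injective p (gl_mulVec_injective g h)
  have hU : finrank F (LinearMap.range Φ) = 2 * Fintype.card α := by
    rw [LinearMap.finrank_range_of_inj hΦi, Module.finrank_prod, Module.finrank_fintype_fun_eq_card]; ring
  have hUU : ∀ s t, f (Φ s) (Φ t) = 0 := fun ⟨a, b⟩ ⟨a', b'⟩ => by
    rw [hΦa, hΦa, hO.isoM hg]
    simp only [hO.hV.add_left, hO.hV.add_right, hO.ten, p.iso₁, p.iso₂, p.orth, hz21, mul_zero, add_zero]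
  have hdsq : ((d : Mn) - 1) * ((d : Mn) - 1) = 0 := Matrix.ext_iff_mulVec.2 fun t => by
    obtain ⟨s, rfl⟩ : ∃ s, (g : Mn) *ᵥ s = t := ⟨_, mulVec_inv_cancel g t⟩
    rw [← Matrix.mulVec_mulVec, Matrix.sub_mulVec, Matrix.one_mulVec, Matrix.sub_mulVec, Matrix.one_mulVec,
      hdsub, hΦa, hdsub, hΦa, Matrix.zero_mulVec]
    simp [hO.sl_tmul, p.iso₁, p.iso₂, p.orth, hz21, tmul_zero_left]
  have hdrk : finrank F (LinearMap.range (Matrix.toLin' (d : Mn) - LinearMap.id)) ≤ 2 * Fintype.card α := by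
    rw [hrange, hU]
  obtain ⟨S₁, -, -, hS₁4, hS₁⟩ := hO.pair_struct hN hab hdM hdk hdsq hdrk p hXM hXk hX
  obtain ⟨n, hn, hnn, hnS⟩ : ∃ n : β → F, n ≠ 0 ∧ fB n n = 0 ∧ n ∉ S₁ := by
    by_contra hc
    push Not at hc
    have htop : ∀ x, x ∈ S₁ := fun x => hs.mem_of_iso_all hO.two (by have := hO.hb; omega) (fun v hv => by
      rcases eq_or_ne v 0 with rfl | h0
      · exact S₁.zero_mem
      · exact hc v h0 hv) x
    have := Submodule.finrank_mono (show (⊤ : Submodule F (β → F)) ≤ S₁ from fun x _ => htop x)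
    rw [finrank_top, Module.finrank_fintype_fun_eq_card] at this
    have := hO.hb
    omega
  obtain ⟨n', q⟩ := hO.exists_plane h5 hnn hn
  obtain ⟨X', hX'M, hX'k, hX'⟩ := hO.exists_eichB hnn (y := n') (by rw [hs.symm]; exact q.orth)
  obtain ⟨S₂, hnS₂, -, hS₂4, hS₂⟩ := hO.pair_struct hN hab hdM hdk hdsq hdrk q hX'M hX'k hX'
  obtain ⟨I, hI⟩ : ∃ I, I = S₁ ⊓ S₂ := ⟨_, rfl⟩
  have hI3 : finrank F I ≤ 3 := by
    have hlt : I < S₂ := lt_of_le_of_ne (hI ▸ inf_le_right) fun h => hnS (by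
      have : n ∈ S₁ ⊓ S₂ := hI ▸ h.symm ▸ hnS₂
      exact this.1)
    have := Submodule.finrank_lt_finrank_of_lt hlt
    omega
  have hmemS : ∀ (S : Submodule F (β → F)), (∀ t y, (∀ s ∈ S, fB s y = 0) → sl fB y ((d : Mn) *ᵥ t - t) = 0) →
      ∀ t ξ, lslice ξ ((d : Mn) *ᵥ t - t) ∈ S := fun S hSS t ξ => by
    by_contra hne
    obtain ⟨φ, hφ1, hφ0⟩ := exists_dot_one hne
    obtain ⟨y, rfl⟩ := fn_surjective hs.sesq φ
    have h0 := hSS t y fun s hs' => by rw [← fn_dot hs.sesq]; exact hφ0 s hs'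
    rw [slice_lslice] at hφ1
    change ξ ⬝ᵥ sl fB y _ = 1 at hφ1
    rw [h0, dotProduct_zero] at hφ1
    exact zero_ne_one hφ1
  let P : Submodule F V :=
    { carrier := {t | ∀ ξ : α → F, lslice ξ t ∈ I}
      add_mem' := fun ha hb ξ => by rw [map_add]; exact I.add_mem (ha ξ) (hb ξ)
      zero_mem' := fun ξ => by rw [map_zero]; exact I.zero_mem
      smul_mem' := fun c a ha ξ => by rw [map_smul]; exact I.smul_mem c (ha ξ) }
  have hUP : LinearMap.range Φ ≤ P := by
    rintro t ht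
    rw [← hrange] at ht
    obtain ⟨s, rfl⟩ := ht
    intro ξ
    rw [hI]
    exact ⟨hmemS S₁ hS₁ s ξ, hmemS S₂ hS₂ s ξ⟩
  have hPsl : ∀ t ∈ P, ∀ y, (∀ i ∈ I, fB i y = 0) → sl fB y t = 0 := fun t ht y hy => by
    funext i
    have h1 := slice_lslice (Pi.single i 1) (fn fB y) t
    rw [fn_dot hs.sesq, hy _ (ht _), single_dotProduct, one_mul] at h1
    exact h1.symm
  -- no singular vector orthogonal to the intersection
  have hnone : ∀ v, v ≠ 0 → fB v v = 0 → ¬ ∀ i ∈ I, fB i v = 0 := fun v hv0 hvv hperp => hdk (by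
    refine hO.line_kron hN hdM hvv hv0 (v := v) fun x => ⟨x, sub_eq_zero.1 (hO.hV.eq_zero _ fun s => ?_)⟩
    obtain ⟨s', rfl⟩ : ∃ s', (d : Mn) *ᵥ s' = s := ⟨_, mulVec_inv_cancel d s⟩
    have h0 : f ((d : Mn) *ᵥ s' - s') (tmul x v) = 0 := by
      rw [hO.f_sl, hPsl _ (hUP (hrange ▸ ⟨s', rfl⟩)) v hperp, hA.zero_left]
    rw [hO.hV.sub_left] at h0
    rw [hO.hV.sub_right, hO.isoM hdM]
    linear_combination -h0)
  have hInd : ∀ w ∈ I, (∀ i ∈ I, fB i w = 0) → w = 0 := fun w hw hperp => by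
    by_contra hw0
    exact hnone w hw0 (hperp w hw) hperp
  have hPnd : ∀ t ∈ P, (∀ s ∈ P, f s t = 0) → t = 0 := fun t ht hperp => by
    have h1 : ∀ ξ : α → F, lslice ξ t = 0 := fun ξ => hInd _ (ht ξ) fun i hi => by
      have h0 : sl fB i t = 0 := hA.eq_of_forall fun x => by
        rw [hA.zero_left, ← hO.f_sl, hO.hV.symm]
        exact hperp (tmul x i) fun η => by rw [lslice_tmul]; exact I.smul_mem _ hi
      rw [hs.symm, ← fn_dot hs.sesq, slice_lslice]
      show ξ ⬝ᵥ sl fB i t = 0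
      rw [h0, dotProduct_zero]
    funext q
    have := congrFun (h1 (Pi.single q.1 1)) q.2
    simpa [lslice, Pi.single_apply] using this
  let B' : LinearMap.range Φ →ₗ[F] Module.Dual F P :=
    LinearMap.mk₂ F (fun u s => f (u : V) (s : V)) (fun a b s => hO.hV.add_left _ _ _)
      (fun c a s => hO.hV.smul_left _ _ _) (fun a s s' => hO.hV.add_right _ _ _)
      (fun c a s => hO.hV.smul_right _ _ _)
  have hB'i : Function.Injective B' := by
    refine (injective_iff_map_eq_zero B').2 fun u hu => Subtype.ext (hPnd _ (hUP u.2) fun s hs' => ?_)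
    rw [hO.hV.symm]
    exact LinearMap.congr_fun hu ⟨s, hs'⟩
  let U' : Submodule F P := (LinearMap.range Φ).comap P.subtype
  have hle : LinearMap.range B' ≤ U'.dualAnnihilator := by
    rintro _ ⟨u, rfl⟩
    rw [Submodule.mem_dualAnnihilator]
    intro s hs'
    obtain ⟨a, ha⟩ := u.2
    obtain ⟨b, hb⟩ := (hs' : (s : V) ∈ LinearMap.range Φ)
    show f (u : V) (s : V) = 0
    rw [← ha, show (s : V) = Φ b from hb.symm, hUU]
  have k1 := Submodule.finrank_mono hle
  rw [LinearMap.finrank_range_of_inj hB'i, hU] at k1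
  have k2 := Subspace.finrank_add_finrank_dualAnnihilator_eq U'
  have k3 : finrank F U' = 2 * Fintype.card α := by
    rw [← hU]
    exact LinearEquiv.finrank_eq (Submodule.comapSubtypeEquivOfLe hUP)
  have k4 : finrank F P ≤ Fintype.card α * 3 := by
    let Ψ : P →ₗ[F] (α → I) :=
      { toFun := fun t i => ⟨lslice (Pi.single i 1) (t : V), t.2 _⟩
        map_add' := fun a b => funext fun i => Subtype.ext (map_add _ _ _)
        map_smul' := fun c a => funext fun i => Subtype.ext (map_smul _ _ _) }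
    have hΨ : Function.Injective Ψ := by
      refine (injective_iff_map_eq_zero Ψ).2 fun t ht => Subtype.ext (funext fun q => ?_)
      have := congrFun (congrArg Subtype.val (congrFun ht q.1)) q.2
      simpa [Ψ, lslice, Pi.single_apply] using this
    refine (LinearMap.finrank_le_finrank_of_injective hΨ).trans ?_
    rw [Module.finrank_pi_fintype, Finset.sum_const, Finset.card_univ, smul_eq_mul]
    exact Nat.mul_le_mul_left _ hI3
  have := hO.ha
  omega

end Cfsg.Agent.Classical.TensorOrth
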