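import Cfsg.Agent.Lib.Classical.MaxTensorOrthConj
import Cfsg.Agent.Lib.Classical.MaxTensorMain

/-!
Overgroups of `O(A) ⊗ O(B)` without root elements supported on a single line of `B`: radical elements are Siegel maps.
-/

set_option autoImplicit false
set_option linter.unusedSectionVars false

namespace Cfsg.Agent.Classical.TensorOrth

open Matrix Module MaxTv TensorMax Overfield
open scoped Kronecker
open Cfsg.Agent.Classical.TensorRoot (kg kg_apply kg_isKron)

variable {F : Type*} [Field F] [Fintype F] {α β : Type} [Fintype α] [DecidableEq α] [Fintype β] [DecidableEq β]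

local notation "V" => (α × β → F)
local notation "Mn" => Matrix (α × β) (α × β) F
local notation "Ma" => Matrix α α F
local notation "Mb" => Matrix β β F
local notation "Ea" => ((α → F) →ₗ[F] (α → F))

/-- The coefficient vector against `u`. -/
def sl (fB : (β → F) → (β → F) → F) (u : β → F) : (α × β → F) →ₗ[F] (α → F) := slice (fn fB u)

/-- An overgroup of the product of two orthogonal groups inside `G`, which contains all squares of isometries. -/
structure Ovr (fA : (α → F) → (α → F) → F) (fB : (β → F) → (β → F) → F)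
    (f : (α × β → F) → (α × β → F) → F) (G M : Subgroup (GL (α × β) F)) : Prop where
  two : (2 : F) ≠ 0
  hA : Sym fA
  hB : Sym fB
  hV : Sym f
  ten : ∀ x x' y y', f (tmul x y) (tmul x' y') = fA x x' * fB y y'
  sq : ∀ g ∈ iso f, g * g ∈ G
  gIso : G ≤ iso f
  le : M ≤ G
  mem : ∀ g ∈ G, IsKron g → g ∈ M
  ha : 3 ≤ Fintype.card α
  hb : 3 ≤ Fintype.card β
  hB4 : Fintype.card β = 4 → ∀ z z', ¬ TSP fB z z'
  hex : ¬ (Fintype.card F = 3 ∧ Fintype.card α = 3)

/-- No element of `M` other than one is supported on a single singular line of the second factor. -/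
def NoRoot (fB : (β → F) → (β → F) → F) (M : Subgroup (GL (α × β) F)) : Prop :=
  ∀ z, fB z z = 0 → z ≠ 0 → ∀ D : Ea, In M (rootMap z (fn fB z) D) → ∀ x, D x = 0

/-- `g` is a Siegel map of the second factor. -/
def IsEich (fB : (β → F) → (β → F) → F) (g : GL (α × β) F) (z y : β → F) : Prop :=
  ∀ t, (g : Mn) *ᵥ t = t + tmul (sl fB z t) y - tmul (sl fB y t) z - (fB y y / 2) • tmul (sl fB z t) z

/-- Trivial on `α ⊗ z` and modulo it on the orthogonal space. -/
structure Rad (fB : (β → F) → (β → F) → F) (g : GL (α × β) F) (z : β → F) : Prop where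
  fix : ∀ x, (g : Mn) *ᵥ tmul x z = tmul x z
  act : ∀ t, sl fB z t = 0 → ∃ x, (g : Mn) *ᵥ t - t = tmul x z

variable {fA : (α → F) → (α → F) → F} {fB : (β → F) → (β → F) → F}
  {f : (α × β → F) → (α × β → F) → F} {G M : Subgroup (GL (α × β) F)}

theorem ext_pure {X : Type*} [AddCommGroup X] [Module F X] {L L' : V →ₗ[F] X}
    (h : ∀ x y, L (tmul x y) = L' (tmul x y)) : L = L' :=
  LinearMap.ext fun t => by rw [sum_tmul_basis t, map_sum, map_sum]; simp only [map_smul, h]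

theorem ext_kron {g h : GL (α × β) F} (H : ∀ x y, (g : Mn) *ᵥ tmul x y = (h : Mn) *ᵥ tmul x y) : g = h := by
  refine Units.ext (Matrix.ext_iff_mulVec.2 fun t => ?_)
  exact LinearMap.congr_fun (f := Matrix.toLin' (g : Mn)) (g := Matrix.toLin' (h : Mn)) (ext_pure H) t

/-- `exists_fixed_mod` for pairs. -/
theorem exists_fixed_mod_pair {k X I : Type*} [Field k] [AddCommGroup X] [Module k X] [Fintype I]
    {T K : Submodule k (X × X)} {S₀ : X × X} (hS : S₀ ∈ T) (hS' : S₀ ∉ K) (op : I → Module.End k X)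
    (hcomm : ∀ i j, Commute (op i) (op j)) (hT : ∀ i, ∀ S ∈ T, (op i S.1, op i S.2) ∈ T)
    (hK : ∀ i, ∀ S ∈ K, (op i S.1, op i S.2) ∈ K) (hnil : ∀ i, IsNilpotent (op i)) :
    ∃ S ∈ T, S ∉ K ∧ ∀ i, (op i S.1, op i S.2) ∈ K := by
  have hpow : ∀ (u : Module.End k X) (n : ℕ) (S : X × X),
      ((u.prodMap u : Module.End k (X × X)) ^ n) S = ((u ^ n) S.1, (u ^ n) S.2) := by
    intro u n
    induction n with
    | zero => intro S; rfl
    | succ n ih => intro S; rw [pow_succ', pow_succ', Module.End.mul_apply, ih]; rfl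
  exact exists_fixed_mod hS hS' (fun i => (op i).prodMap (op i))
    (fun i j => LinearMap.ext fun S => Prod.ext (LinearMap.congr_fun (hcomm i j) S.1)
      (LinearMap.congr_fun (hcomm i j) S.2))
    hT hK fun i => by
      obtain ⟨N, hN⟩ := hnil i
      exact ⟨N, LinearMap.ext fun S => by rw [hpow, hN]; rfl⟩

/-- An invariant space of pairs of self-adjoint maps with a symmetric anisotropic pairing consists of scalars. -/
theorem pair_scalar (hA : Sym fA) (h2 : (2 : F) ≠ 0) (hn : 3 ≤ Fintype.card α)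
    (hex : ¬ (Fintype.card F = 3 ∧ Fintype.card α = 3)) (T : Submodule F (Ea × Ea))
    (hTsa : ∀ S ∈ T, (∀ x x', fA (S.1 x) x' = fA x (S.1 x')) ∧ (∀ x x', fA (S.2 x) x' = fA x (S.2 x')))
    (hTinv : ∀ k ∈ siegGrp fA, ∀ S ∈ T, (cj k).prodMap (cj k) S ∈ T) (c d' : F)
    (haniso : ∀ δ₁ δ₂ : F, c * (δ₁ * δ₁) + d' * (δ₂ * δ₂) = 0 → δ₁ = 0 ∧ δ₂ = 0)
    (hPr : ∀ S ∈ T, ∀ S' ∈ T, ∀ x x', c * fA (S.1 x) (S'.1 x') + d' * fA (S.2 x) (S'.2 x') =
      c * fA (S'.1 x) (S.1 x') + d' * fA (S'.2 x) (S.2 x')) :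
    ∀ S ∈ T, ∃ c₁ c₂ : F, S.1 = c₁ • LinearMap.id ∧ S.2 = c₂ • LinearMap.id := by
  classical
  intro S₀ hS₀
  let op : GL α F → Module.End F (Ea × Ea) := fun k => (cj k).prodMap (cj k)
  have hopa : ∀ k S, op k S = (cj k S.1, cj k S.2) := fun k S => rfl
  let K₀ : Submodule F (Ea × Ea) := (F ∙ (LinearMap.id : Ea)).prod (F ∙ (LinearMap.id : Ea))
  suffices h : S₀ ∈ K₀ by
    obtain ⟨h1, h1'⟩ := Submodule.mem_prod.1 h
    obtain ⟨c₁, hc₁⟩ := Submodule.mem_span_singleton.1 h1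
    obtain ⟨c₂, hc₂⟩ := Submodule.mem_span_singleton.1 h1'
    exact ⟨c₁, c₂, hc₁.symm, hc₂.symm⟩
  by_contra hS₀'
  obtain ⟨a, d, haa, hdd, hda⟩ := hA.exists_hyp h2 hn
  haveI : Fintype {w : α → F // fA w a = 0} := Fintype.ofFinite _
  choose k hki hk using fun i : {w : α → F // fA w a = 0} => hA.exists_sieg h2 haa i.2
  have hmem : ∀ i, k i ∈ siegGrp fA := fun i => Subgroup.subset_closure ⟨a, i.1, haa, i.2, hk i⟩
  have hK₀ : ∀ k : GL α F, ∀ S ∈ K₀, op k S ∈ K₀ := by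
    intro k S hS
    have hinv : ∀ R : Ea, R ∈ F ∙ (LinearMap.id : Ea) → cj k R ∈ F ∙ (LinearMap.id : Ea) := fun R hR => by
      obtain ⟨c, rfl⟩ := Submodule.mem_span_singleton.1 hR
      rw [LinearMap.map_smul, cj_id]
      exact hR
    rw [hopa]
    exact Submodule.mem_prod.2 ⟨hinv _ (Submodule.mem_prod.1 hS).1, hinv _ (Submodule.mem_prod.1 hS).2⟩
  obtain ⟨S, hS, hSn, hSf⟩ := exists_fixed_mod_pair hS₀ hS₀' (fun i => cj (k i) - 1)
    (fun i j => cj_sieg_commute hA h2 (hk i) (hk j) haa i.2 j.2)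
    (fun i S hS => by
      rw [LinearMap.sub_apply, LinearMap.sub_apply, Module.End.one_apply, Module.End.one_apply, ← Prod.mk_sub_mk]
      have h1 := hTinv _ (hmem i) S hS
      rw [LinearMap.prodMap_apply] at h1
      exact T.sub_mem h1 hS)
    (fun i S hS => by
      rw [LinearMap.sub_apply, LinearMap.sub_apply, Module.End.one_apply, Module.End.one_apply, ← Prod.mk_sub_mk]
      have h1 := hK₀ (k i) S hS
      rw [hopa] at h1
      exact K₀.sub_mem h1 hS)
    (fun i => isNilpotent_cj_sub_one (hA.sieg_cube h2 (hk i) haa i.2) (sieg_inv_cube hA h2 (hk i) haa i.2))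
  obtain ⟨hsa₁, hsa₂⟩ := hTsa S hS
  obtain ⟨μ₁, δ₁, hR₁⟩ := fixed_shape hA h2 hn hex haa hdd hda hsa₁ fun w g hw hg' => by
    rw [hA.sieg_unique hg' (hk ⟨w, hw⟩)]
    have h1 := (Submodule.mem_prod.1 (hSf ⟨w, hw⟩)).1
    rwa [LinearMap.sub_apply, Module.End.one_apply] at h1
  obtain ⟨μ₂, δ₂, hR₂⟩ := fixed_shape hA h2 hn hex haa hdd hda hsa₂ fun w g hw hg' => by
    rw [hA.sieg_unique hg' (hk ⟨w, hw⟩)]
    have h1 := (Submodule.mem_prod.1 (hSf ⟨w, hw⟩)).2
    rwa [LinearMap.sub_apply, Module.End.one_apply] at h1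
  obtain ⟨e, he, hee⟩ := hA.exists_aniso h2 (hA.ndOn_perp2 hdd haa hda)
    (Submodule.exists_mem_ne_zero_of_ne_bot fun e => by
      have := hA.finrank_perp2 d a
      have := hn
      rw [e, finrank_bot] at *; omega)
  have had : fA a d = 1 := by rw [hA.symm, hda]
  obtain ⟨q, hqi, hq⟩ := hA.exists_sieg h2 hdd (w := e) he.1
  have hqm : q ∈ siegGrp fA := Subgroup.subset_closure ⟨d, e, hdd, he.1, hq⟩
  obtain ⟨a', ha'⟩ : ∃ a', a' = (q : Ma) *ᵥ a := ⟨_, rfl⟩
  have hne : fA a' a ≠ 0 := by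
    rw [ha', hq, had, hA.symm a e, (show fA e a = 0 from he.2), zero_smul, sub_zero, one_smul, mul_one,
      hA.sub_left, hA.add_left, hA.smul_left, haa, (show fA e a = 0 from he.2), hda, zero_add, zero_sub,
      mul_one, neg_ne_zero]
    exact div_ne_zero hee h2
  have hq₁ : ∀ x, cj q S.1 x = μ₁ • x + (δ₁ * fA x a') • a' := fun x => by
    obtain ⟨x', rfl⟩ : ∃ x', (q : Ma) *ᵥ x' = x := ⟨_, mulVec_inv_cancel q x⟩
    rw [cj_apply, inv_mulVec_cancel, hR₁, ha', hqi, Matrix.mulVec_add, Matrix.mulVec_smul, Matrix.mulVec_smul]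
  have hq₂ : ∀ x, cj q S.2 x = μ₂ • x + (δ₂ * fA x a') • a' := fun x => by
    obtain ⟨x', rfl⟩ : ∃ x', (q : Ma) *ᵥ x' = x := ⟨_, mulVec_inv_cancel q x⟩
    rw [cj_apply, inv_mulVec_cancel, hR₂, ha', hqi, Matrix.mulVec_add, Matrix.mulVec_smul, Matrix.mulVec_smul]
  have key := hPr S hS _ (hTinv q hqm S hS) d a
  rw [show (cj q).prodMap (cj q) S = (cj q S.1, cj q S.2) from rfl] at key
  simp only [hq₁, hq₂, hR₁, hR₂, hA.add_left, hA.add_right, hA.smul_left, hA.smul_right, haa, hda,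
    hA.symm a a'] at key
  have hzero : (c * (δ₁ * δ₁) + d' * (δ₂ * δ₂)) * (fA a' a * fA a' a) = 0 := by
    linear_combination key
  obtain ⟨k1, k2⟩ := haniso _ _ ((mul_eq_zero.1 hzero).resolve_right (mul_ne_zero hne hne))
  refine hSn (Submodule.mem_prod.2 ⟨Submodule.mem_span_singleton.2 ⟨μ₁, LinearMap.ext fun x => ?_⟩,
    Submodule.mem_span_singleton.2 ⟨μ₂, LinearMap.ext fun x => ?_⟩⟩)
  · rw [hR₁, k1, zero_mul, zero_smul, add_zero]; rfl
  · rw [hR₂, k2, zero_mul, zero_smul, add_zero]; rfl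

variable (hO : Ovr fA fB f G M)
include hO

theorem Ovr.nonempty : Nonempty α := Fintype.card_pos_iff.1 (by have := hO.ha; omega)

theorem Ovr.sl_tmul (u : β → F) (x : α → F) (y : β → F) : sl fB u (tmul x y) = fB y u • x := by
  rw [sl, slice_tmul, fn_dot hO.hB.sesq]

theorem Ovr.sl_zero (t : V) : sl fB (0 : β → F) t = 0 := by
  rw [sl, fn_zero hO.hB.sesq, ← zero_smul F (0 : β → F), slice_smul, zero_smul]

theorem Ovr.sl_neg (u : β → F) (t : V) : sl fB (-u) t = -sl fB u t := by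
  rw [sl, sl, ← neg_one_smul F u, fn_smul hO.hB.sesq, RingEquiv.refl_apply, slice_smul, neg_one_smul]

theorem Ovr.sl_smul (c : F) (u : β → F) (t : V) : sl fB (c • u) t = c • sl fB u t := by
  rw [sl, sl, fn_smul hO.hB.sesq, RingEquiv.refl_apply, slice_smul]

theorem Ovr.sl_add (u v : β → F) (t : V) : sl fB (u + v) t = sl fB u t + sl fB v t := by
  rw [sl, sl, sl, fn_add hO.hB.sesq, slice_add]

theorem Ovr.f_sl (t : V) (x : α → F) (u : β → F) : f t (tmul x u) = fA (sl fB u t) x := by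
  have h : hO.hV.lin (tmul x u) = (hO.hA.lin x).comp (sl fB u) :=
    ext_pure fun a b => by
      simp only [LinearMap.comp_apply, Sym.lin_apply, hO.ten, hO.sl_tmul, hO.hA.smul_left, mul_comm]
  have := LinearMap.congr_fun h t
  rwa [LinearMap.comp_apply, Sym.lin_apply, Sym.lin_apply] at this

theorem Ovr.f_sl' (t : V) (x : α → F) (u : β → F) : f (tmul x u) t = fA x (sl fB u t) := by
  rw [hO.hV.symm, hO.f_sl, hO.hA.symm]

theorem Ovr.isoM {g : GL (α × β) F} (hg : g ∈ M) (s t : V) : f ((g : Mn) *ᵥ s) ((g : Mn) *ᵥ t) = f s t :=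
  hO.gIso (hO.le hg) s t

theorem Ovr.kg_iso {A : GL α F} {B : GL β F} {μ ν : F} (hμν : μ * ν = 1)
    (hA : ∀ x x', fA ((A : Ma) *ᵥ x) ((A : Ma) *ᵥ x') = μ * fA x x')
    (hB : ∀ y y', fB ((B : Mb) *ᵥ y) ((B : Mb) *ᵥ y') = ν * fB y y') : kg A B ∈ iso f := by
  have hpure : ∀ s x y, f ((kg A B : Mn) *ᵥ s) ((kg A B : Mn) *ᵥ tmul x y) = f s (tmul x y) := fun s x y => by
    have h : (hO.hV.lin ((kg A B : Mn) *ᵥ tmul x y)).comp (Matrix.toLin' (kg A B : Mn)) =
        hO.hV.lin (tmul x y) := ext_pure fun a b => by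
      simp only [LinearMap.comp_apply, Matrix.toLin'_apply, Sym.lin_apply, kg_apply, hO.ten, hA, hB]
      linear_combination (fA a x * fB b y) * hμν
    have := LinearMap.congr_fun h s
    rwa [LinearMap.comp_apply, Sym.lin_apply, Sym.lin_apply, Matrix.toLin'_apply] at this
  intro s t
  have h : (hO.hV.lin ((kg A B : Mn) *ᵥ s)).comp (Matrix.toLin' (kg A B : Mn)) = hO.hV.lin s :=
    ext_pure fun a b => by
      simp only [LinearMap.comp_apply, Matrix.toLin'_apply, Sym.lin_apply]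
      rw [hO.hV.symm _ ((kg A B : Mn) *ᵥ s), hpure, hO.hV.symm]
  have := LinearMap.congr_fun h t
  rw [LinearMap.comp_apply, Sym.lin_apply, Sym.lin_apply, Matrix.toLin'_apply] at this
  rw [hO.hV.symm, this, hO.hV.symm]

/-- Siegel maps of the first factor. -/
theorem Ovr.kA {h : GL α F} (hh : h ∈ siegGrp fA) : kg h (1 : GL β F) ∈ M := by
  induction hh using Subgroup.closure_induction with
  | mem h hh =>
    obtain ⟨a, w, ha, hw, hs⟩ := hh
    have hiso : h ∈ iso fA := hO.hA.siegGrp_le hO.two (Subgroup.subset_closure ⟨a, w, ha, hw, hs⟩)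
    have hk : kg h (1 : GL β F) ∈ iso f := hO.kg_iso (one_mul 1) (fun x x' => by rw [hiso, one_mul])
      (fun y y' => by simp)
    refine hO.mem _ (mem_of_cube hO.sq hO.two hk fun t => ?_) (kg_isKron _ _)
    let N : V →ₗ[F] V := Matrix.toLin' ((kg h (1 : GL β F) : Mn) - 1)
    have hN : ∀ x y, N (tmul x y) = tmul (((h : Ma) - 1) *ᵥ x) y := fun x y => by
      simp only [N, Matrix.toLin'_apply, Matrix.sub_mulVec, kg_apply, Units.val_one, Matrix.one_mulVec,
        tmul_sub_left]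
    have h3 : N.comp (N.comp N) = 0 := ext_pure fun x y => by
      simp only [LinearMap.comp_apply, hN, hO.hA.sieg_cube hO.two hs ha hw, tmul_zero_left, LinearMap.zero_apply]
    exact LinearMap.congr_fun h3 t
  | one =>
    rw [show kg (1 : GL α F) (1 : GL β F) = 1 from ext_kron fun x y => by rw [kg_apply]; simp]
    exact one_mem M
  | mul a b _ _ ha hb =>
    rw [show kg (a * b) (1 : GL β F) = kg a 1 * kg b 1 from ext_kron fun x y => by
      simp only [Units.val_mul, ← Matrix.mulVec_mulVec, kg_apply, Units.val_one, Matrix.one_mulVec]]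
    exact mul_mem ha hb
  | inv a _ ha =>
    rw [show kg a⁻¹ (1 : GL β F) = (kg a 1)⁻¹ from eq_inv_of_mul_eq_one_right (ext_kron fun x y => by
      rw [Units.val_mul, ← Matrix.mulVec_mulVec, kg_apply, kg_apply]; simp [mulVec_inv_cancel])]
    exact inv_mem ha

/-- Siegel maps of the second factor. -/
theorem Ovr.exists_eichB {z y : β → F} (hz : fB z z = 0) (hy : fB y z = 0) :
    ∃ e ∈ M, IsKron e ∧ IsEich fB e z y := by
  obtain ⟨B, hB, hBx⟩ := hO.hB.exists_sieg hO.two hz hy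
  have hk : kg (1 : GL α F) B ∈ iso f := hO.kg_iso (one_mul 1) (fun x x' => by simp)
    (fun u u' => by rw [hB, one_mul])
  refine ⟨_, hO.mem _ (mem_of_cube hO.sq hO.two hk fun t => ?_) (kg_isKron _ _), kg_isKron _ _, fun t => ?_⟩
  · let N : V →ₗ[F] V := Matrix.toLin' ((kg (1 : GL α F) B : Mn) - 1)
    have hN : ∀ x w, N (tmul x w) = tmul x (((B : Mb) - 1) *ᵥ w) := fun x w => by
      simp only [N, Matrix.toLin'_apply, Matrix.sub_mulVec, kg_apply, Units.val_one, Matrix.one_mulVec,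
        tmul_sub_right]
    have h3 : N.comp (N.comp N) = 0 := ext_pure fun x w => by
      simp only [LinearMap.comp_apply, hN, hO.hB.sieg_cube hO.two hBx hz hy, tmul_zero_right, LinearMap.zero_apply]
    exact LinearMap.congr_fun h3 t
  let L : V →ₗ[F] V := LinearMap.id + (fac y).comp (sl fB z) - (fac z).comp (sl fB y) -
    (fB y y / 2) • (fac z).comp (sl fB z)
  have h : Matrix.toLin' (kg (1 : GL α F) B : Mn) = L := ext_tmul fun x w => by
    simp only [L, Matrix.toLin'_apply, kg_apply, Units.val_one, Matrix.one_mulVec, hBx w, LinearMap.add_apply,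
      LinearMap.sub_apply, LinearMap.smul_apply, LinearMap.comp_apply, LinearMap.id_apply, fac_apply, hO.sl_tmul,
      tmul_add_right, tmul_sub_right, tmul_smul_right, tmul_smul_left, smul_smul]
  have := LinearMap.congr_fun h t
  simpa only [L, Matrix.toLin'_apply, LinearMap.add_apply, LinearMap.sub_apply, LinearMap.smul_apply,
    LinearMap.comp_apply, LinearMap.id_apply, fac_apply] using this

theorem Ovr.eich_fix {e : GL (α × β) F} {z y : β → F} (he : IsEich fB e z y) {t : V} (h1 : sl fB z t = 0)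
    (h1' : sl fB y t = 0) : (e : Mn) *ᵥ t = t := by
  rw [he, h1, h1']; simp [tmul_zero_left]

theorem Ovr.eich_fix_tmul {e : GL (α × β) F} {z y w : β → F} (he : IsEich fB e z y) (h1 : fB w z = 0)
    (h1' : fB w y = 0) (x : α → F) : (e : Mn) *ᵥ tmul x w = tmul x w :=
  hO.eich_fix he (by rw [hO.sl_tmul, h1, zero_smul]) (by rw [hO.sl_tmul, h1', zero_smul])

theorem Ovr.eich_perp {e : GL (α × β) F} {z y : β → F} (he : IsEich fB e z y) {t : V} (h : sl fB z t = 0) :
    (e : Mn) *ᵥ t = t - tmul (sl fB y t) z := by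
  rw [he, h]; simp [tmul_zero_left]

theorem Ovr.eich_cancel {e e' : GL (α × β) F} {z y : β → F} (hz : fB z z = 0) (hy : fB y z = 0)
    (he : IsEich fB e z y) (he' : IsEich fB e' z (-y)) : e * e' = 1 := by
  refine ext_kron fun x w => ?_
  rw [Units.val_mul, ← Matrix.mulVec_mulVec, he', he, Units.val_one, Matrix.one_mulVec]
  simp only [hO.sl_neg, map_add, map_sub, map_smul, hO.sl_tmul, hO.hB.neg_left, hO.hB.neg_right, hz, hy,
    hO.hB.symm z y, tmul_smul_left, tmul_add_left, tmul_sub_left, neg_neg, zero_smul, smul_zero, smul_neg]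
  have hn : ∀ (a : α → F) (b : β → F), tmul (-a) b = -tmul a b := fun a b => (fac b).map_neg a
  have hn' : ∀ (a : α → F) (b : β → F), tmul a (-b) = -tmul a b := fun a b => by
    rw [← neg_one_smul F b, tmul_smul_right, neg_one_smul]
  simp only [hn, hn', tmul_smul_left]
  have := hO.two
  match_scalars <;> field_simp <;> ring

theorem Ovr.sl_eq {g : GL (α × β) F} (hg : g ∈ M) {z : β → F} (h : ∀ x, (g : Mn) *ᵥ tmul x z = tmul x z) (t : V) :
    sl fB z ((g : Mn) *ᵥ t) = sl fB z t :=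
  hO.hA.eq_of_forall fun x => by
    rw [← hO.f_sl, ← hO.f_sl]
    conv_lhs => rw [← h x]
    exact hO.isoM hg _ _

theorem Rad.conj {g k : GL (α × β) F} {z : β → F} (h : Rad fB g z) (hk : k ∈ M)
    (hkz : ∀ x, ∃ x', (k : Mn) *ᵥ tmul x z = tmul x' z) :
    Rad fB (k * g * k⁻¹) z := by
  have hki : ∀ x, ∃ x', (k : Mn) *ᵥ tmul x' z = tmul x z := by
    intro x
    rcases eq_or_ne z 0 with rfl | hz0
    · exact ⟨0, by rw [tmul_zero_right, tmul_zero_right, Matrix.mulVec_zero]⟩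
    choose K hK using hkz
    obtain ⟨x', rfl⟩ := (Finite.injective_iff_surjective.1 fun a b e => fac_injective hz0 (gl_mulVec_injective k (by
      show (k : Mn) *ᵥ tmul a z = (k : Mn) *ᵥ tmul b z
      rw [hK, hK, e])) : Function.Surjective K) x
    exact ⟨x', hK x'⟩
  constructor
  · intro x
    obtain ⟨x', hx'⟩ := hki x
    rw [← hx', Units.val_mul, Units.val_mul, ← Matrix.mulVec_mulVec, ← Matrix.mulVec_mulVec, inv_mulVec_cancel, h.fix]
  · intro t ht
    have ht' : sl fB z (((k⁻¹ : GL (α × β) F) : Mn) *ᵥ t) = 0 := hO.hA.eq_of_forall fun x => by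
      obtain ⟨x', hx'⟩ := hkz x
      rw [← hO.f_sl, ← hO.isoM hk, mulVec_inv_cancel, hx', hO.f_sl, ht, hO.hA.zero_left, hO.hA.zero_left]
    obtain ⟨X, hX⟩ := h.act _ ht'
    obtain ⟨X', hX'⟩ := hkz X
    refine ⟨X', ?_⟩
    rw [← hX', ← hX, Units.val_mul, Units.val_mul, ← Matrix.mulVec_mulVec, ← Matrix.mulVec_mulVec,
      Matrix.mulVec_sub, mulVec_inv_cancel]

variable (hN : NoRoot fB M)
include hN

/-- The commutator of two radical elements vanishes. -/
theorem Rad.pair {g h : GL (α × β) F} {z : β → F} (hg : Rad fB g z) (hgM : g ∈ M) (hh : Rad fB h z) (hhM : h ∈ M)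
    (hz : fB z z = 0) (hz0 : z ≠ 0) {u : β → F} (hu : fB u z = 1) (x x' : α → F) :
    f ((g : Mn) *ᵥ tmul x u - tmul x u) ((h : Mn) *ᵥ tmul x' u - tmul x' u) =
      f ((h : Mn) *ᵥ tmul x u - tmul x u) ((g : Mn) *ᵥ tmul x' u - tmul x' u) := by
  have hs := hO.hB
  have hzu : fB z u = 1 := by rw [hs.symm, hu]
  have hT : ∀ {g : GL (α × β) F}, Rad fB g z → ∀ t, sl fB z t = 0 →
      (g : Mn) *ᵥ t = t + tmul (sl fB u ((g : Mn) *ᵥ t - t)) z := fun {g} hg t ht => by
    obtain ⟨X, hX⟩ := hg.act t ht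
    rw [hX, hO.sl_tmul, hzu, one_smul, ← hX, add_sub_cancel]
  have hr : ∀ {g : GL (α × β) F}, Rad fB g z → g ∈ M → ∀ x, sl fB z ((g : Mn) *ᵥ tmul x u - tmul x u) = 0 :=
    fun {g} hg hgM x => by rw [map_sub, hO.sl_eq hgM hg.fix, sub_self]
  obtain ⟨k, hk⟩ : ∃ k, k = g * h * (h * g)⁻¹ := ⟨_, rfl⟩
  have hkM : k ∈ M := hk ▸ mul_mem (mul_mem hgM hhM) (inv_mem (mul_mem hhM hgM))
  have hke : ∀ t, (k : Mn) *ᵥ ((h : Mn) *ᵥ ((g : Mn) *ᵥ t)) = (g : Mn) *ᵥ ((h : Mn) *ᵥ t) := fun t => by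
    rw [hk, Units.val_mul, ← Matrix.mulVec_mulVec, Matrix.mulVec_mulVec (v := t) (M := (h : Mn)), ← Units.val_mul,
      inv_mulVec_cancel, Units.val_mul, ← Matrix.mulVec_mulVec]
  have hfixp : ∀ t, sl fB z t = 0 → (k : Mn) *ᵥ t = t := fun t ht => by
    obtain ⟨t', rfl⟩ : ∃ t', (h : Mn) *ᵥ ((g : Mn) *ᵥ t') = t :=
      ⟨((g⁻¹ : GL _ F) : Mn) *ᵥ (((h⁻¹ : GL _ F) : Mn) *ᵥ t), by rw [mulVec_inv_cancel, mulVec_inv_cancel]⟩
    rw [hO.sl_eq hhM hh.fix, hO.sl_eq hgM hg.fix] at ht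
    obtain ⟨X, hX⟩ := hg.act t' ht
    obtain ⟨Y, hY⟩ := hh.act t' ht
    rw [hke, eq_add_of_sub_eq hX, eq_add_of_sub_eq hY, Matrix.mulVec_add, Matrix.mulVec_add, hg.fix, hh.fix,
      eq_add_of_sub_eq hX, eq_add_of_sub_eq hY]
    abel
  let D : Ea := (sl fB u).comp ((Matrix.toLin' (g : Mn)).comp ((Matrix.toLin' (h : Mn)).comp (fac u)) -
    (Matrix.toLin' (h : Mn)).comp ((Matrix.toLin' (g : Mn)).comp (fac u)))
  have hdiff : ∀ x, (g : Mn) *ᵥ ((h : Mn) *ᵥ tmul x u) - (h : Mn) *ᵥ ((g : Mn) *ᵥ tmul x u) =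
      ((g : Mn) *ᵥ ((h : Mn) *ᵥ tmul x u - tmul x u) - ((h : Mn) *ᵥ tmul x u - tmul x u)) -
      ((h : Mn) *ᵥ ((g : Mn) *ᵥ tmul x u - tmul x u) - ((g : Mn) *ᵥ tmul x u - tmul x u)) := fun x => by
    simp only [Matrix.mulVec_sub]; abel
  have hD : ∀ x, (g : Mn) *ᵥ ((h : Mn) *ᵥ tmul x u) - (h : Mn) *ᵥ ((g : Mn) *ᵥ tmul x u) = tmul (D x) z := by
    intro x
    obtain ⟨X₁, h1⟩ := hg.act _ (hr hh hhM x)
    obtain ⟨X₂, h1'⟩ := hh.act _ (hr hg hgM x)
    have e : (g : Mn) *ᵥ ((h : Mn) *ᵥ tmul x u) - (h : Mn) *ᵥ ((g : Mn) *ᵥ tmul x u) = tmul (X₁ - X₂) z := by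
      rw [hdiff, h1, h1', tmul_sub_left]
    have : D x = sl fB u ((g : Mn) *ᵥ ((h : Mn) *ᵥ tmul x u) - (h : Mn) *ᵥ ((g : Mn) *ᵥ tmul x u)) := rfl
    rw [this, e, hO.sl_tmul, hzu, one_smul]
  have hDin : In M (rootMap z (fn fB z) D) := by
    refine ⟨k, hkM, fun t => ?_⟩
    obtain ⟨a, ha⟩ : ∃ a, a = sl fB z t := ⟨_, rfl⟩
    have hP : (k : Mn) *ᵥ tmul a u - tmul a u = tmul (D a) z := by
      obtain ⟨r, hr'⟩ : ∃ r, r = (h : Mn) *ᵥ ((g : Mn) *ᵥ tmul a u) - tmul a u := ⟨_, rfl⟩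
      have hr0 : sl fB z r = 0 := by
        rw [hr', map_sub, hO.sl_eq hhM hh.fix, hO.sl_eq hgM hg.fix, sub_self]
      have e1 : (k : Mn) *ᵥ tmul a u + r = (g : Mn) *ᵥ ((h : Mn) *ᵥ tmul a u) := by
        rw [← hfixp r hr0, ← Matrix.mulVec_add, hr', add_sub_cancel, hke]
      rw [← hD, eq_sub_of_add_eq e1, hr']
      abel
    have hfx := hfixp (t - tmul a u) (by rw [map_sub, hO.sl_tmul, hu, one_smul, ha, sub_self])
    rw [Matrix.mulVec_sub] at hfx
    rw [rootMap_apply, show slice (fn fB z) t = a from ha.symm, ← hP]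
    linear_combination (norm := abel) hfx
  have hrel : ∀ {g : GL (α × β) F}, Rad fB g z → g ∈ M → ∀ t, sl fB z t = 0 →
      f ((g : Mn) *ᵥ t - t) (tmul x' u) = -f t ((g : Mn) *ᵥ tmul x' u - tmul x' u) := fun {g} hg hgM t ht => by
    obtain ⟨X, hX⟩ := hg.act t ht
    have e1 : f ((g : Mn) *ᵥ t - t) ((g : Mn) *ᵥ tmul x' u - tmul x' u) = 0 := by
      rw [hX, hO.f_sl', hr hg hgM, hO.hA.zero_right]
    have e2 := hO.isoM hgM t (tmul x' u)
    rw [hO.hV.sub_left, hO.hV.sub_right, hO.hV.sub_right] at e1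
    rw [hO.hV.sub_left, hO.hV.sub_right]
    linear_combination e2 - e1
  have h0 : f (tmul (D x) z) (tmul x' u) = 0 := by
    rw [hN z hz hz0 D hDin x, tmul_zero_left, hO.hV.zero_left]
  rw [← hD, hdiff, hO.hV.sub_left, hrel hg hgM _ (hr hh hhM x), hrel hh hhM _ (hr hg hgM x)] at h0
  linear_combination h0

omit hN in
/-- In dimension four a hyperbolic pair and two orthogonal anisotropic vectors orthogonal to it span. -/
theorem Ovr.four_basis (h4 : Fintype.card β = 4) {z u y₁ y₂ : β → F} (hz : fB z z = 0) (huu : fB u u = 0)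
    (hu : fB u z = 1) (h1 : y₁ ∈ hO.hB.perp2 u z) (h2 : y₂ ∈ hO.hB.perp2 u z) (h12 : fB y₁ y₂ = 0)
    (n1 : fB y₁ y₁ ≠ 0) (n2 : fB y₂ y₂ ≠ 0) {d : β → F} (dz : fB d z = 0) (du : fB d u = 0)
    (d1 : fB d y₁ = 0) (d2 : fB d y₂ = 0) : d = 0 := by
  have hs := hO.hB
  have h1u : fB y₁ u = 0 := h1.1
  have h1z : fB y₁ z = 0 := h1.2
  have h2u : fB y₂ u = 0 := h2.1
  have h2z : fB y₂ z = 0 := h2.2
  have hli : LinearIndependent F ![z, u, y₁, y₂] := by
    refine Fintype.linearIndependent_iff.2 fun g hg i => ?_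
    rw [Fin.sum_univ_four] at hg
    have k0 := congrArg (fun v => fB v u) hg
    have k1 := congrArg (fun v => fB v z) hg
    have k2 := congrArg (fun v => fB v y₁) hg
    have k3 := congrArg (fun v => fB v y₂) hg
    simp only [Matrix.cons_val_zero, Matrix.cons_val_one, Matrix.cons_val, hs.add_left, hs.smul_left,
      hs.zero_left, hz, huu, hu, hs.symm z u, h1u, h1z, h2u, h2z, hs.symm z y₁, hs.symm u y₁, hs.symm z y₂,
      hs.symm u y₂, h12, hs.symm y₂ y₁, mul_zero, mul_one, add_zero, zero_add] at k0 k1 k2 k3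
    fin_cases i
    exacts [k0, k1, (mul_eq_zero.1 k2).resolve_right n1, (mul_eq_zero.1 k3).resolve_right n2]
  have htop : Submodule.span F (Set.range ![z, u, y₁, y₂]) = ⊤ :=
    hli.span_eq_top_of_card_eq_finrank' (by rw [Fintype.card_fin, Module.finrank_fintype_fun_eq_card, h4])
  refine hs.eq_zero _ fun x => ?_
  have hx : x ∈ Submodule.span F (Set.range ![z, u, y₁, y₂]) := htop ▸ trivial
  induction hx using Submodule.span_induction with
  | mem v hv =>
    obtain ⟨i, rfl⟩ := hv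
    fin_cases i <;> simp [hs.symm z d, hs.symm u d, hs.symm y₁ d, hs.symm y₂ d, dz, du, d1, d2]
  | zero => exact hs.zero_left d
  | add a b _ _ ha hb => rw [hs.add_left, ha, hb, add_zero]
  | smul c a _ ha => rw [hs.smul_left, ha, mul_zero]

/-- The middle part of a radical element is scalar when the middle space is an anisotropic plane. -/
theorem Rad.scal_four {g : GL (α × β) F} {z : β → F} (h : Rad fB g z) (hg : g ∈ M) (h4 : Fintype.card β = 4)
    (hz : fB z z = 0) (hz0 : z ≠ 0) {u : β → F} (huu : fB u u = 0) (hu : fB u z = 1) {y : β → F}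
    (hy : fB y z = 0) : ∃ μ : F, ∀ x, sl fB y ((g : Mn) *ᵥ tmul x u - tmul x u) = μ • x := by
  classical
  have hs := hO.hB
  have hA := hO.hA
  have h2 := hO.two
  have hzu : fB z u = 1 := by rw [hs.symm, hu]
  have hW := hs.ndOn_perp2 huu hz hu
  have hdim := hs.finrank_perp2 u z
  have haW : ∀ w ∈ hs.perp2 u z, fB w w = 0 → w = 0 := fun w hw hww => by
    by_contra hw0
    refine hO.hB4 h4 z w ⟨hz, hww, by rw [hs.symm]; exact hw.2, fun s t hst => ?_⟩
    have k := congrArg (fun v => fB v u) hst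
    simp only [hs.add_left, hs.smul_left, hs.zero_left, hzu, (show fB w u = 0 from hw.1), mul_zero,
      add_zero, mul_one] at k
    rw [k, zero_smul, zero_add] at hst
    exact ⟨k, (smul_eq_zero.1 hst).resolve_right hw0⟩
  obtain ⟨y₁, hy₁, hn₁⟩ := hs.exists_aniso h2 hW
    (Submodule.exists_mem_ne_zero_of_ne_bot fun e => by rw [e, finrank_bot] at hdim; omega)
  obtain ⟨y₂, hy₂, hn₂⟩ := hs.exists_aniso h2 (hs.ndOn_inf_ker hW hy₁ hn₁)
    (Submodule.exists_mem_ne_zero_of_ne_bot fun e => by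
      have := finrank_le_inf_ker_add_one (hs.perp2 u z) (hs.lin y₁)
      rw [e, finrank_bot] at this; omega)
  have h21 : fB y₂ y₁ = 0 := hy₂.2
  replace hy₂ : y₂ ∈ hs.perp2 u z := hy₂.1
  have h12 : fB y₁ y₂ = 0 := by rw [hs.symm, h21]
  obtain ⟨a₁, a1z, a1u⟩ : ∃ _ : True, fB y₁ z = 0 ∧ fB y₁ u = 0 := ⟨trivial, hy₁.2, hy₁.1⟩
  obtain ⟨a₂, a2z, a2u⟩ : ∃ _ : True, fB y₂ z = 0 ∧ fB y₂ u = 0 := ⟨trivial, hy₂.2, hy₂.1⟩
  -- coordinates of a vector orthogonal to the line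
  have hdec : ∀ t : V, sl fB z t = 0 → t = (fB y₁ y₁)⁻¹ • tmul (sl fB y₁ t) y₁ +
      (fB y₂ y₂)⁻¹ • tmul (sl fB y₂ t) y₂ + tmul (sl fB u t) z := by
    intro t ht
    let L : V →ₗ[F] V := LinearMap.id - (fB y₁ y₁)⁻¹ • (fac y₁).comp (sl fB y₁) -
      (fB y₂ y₂)⁻¹ • (fac y₂).comp (sl fB y₂) - (fac z).comp (sl fB u) - (fac u).comp (sl fB z)
    have hL : L = 0 := ext_pure fun x w => by
      have e : w - ((fB y₁ y₁)⁻¹ * fB w y₁) • y₁ - ((fB y₂ y₂)⁻¹ * fB w y₂) • y₂ - fB w u • z - fB w z • u = 0 := by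
        refine hO.four_basis h4 hz huu hu hy₁ hy₂ h12 hn₁ hn₂ ?_ ?_ ?_ ?_
        all_goals simp only [hs.sub_left, hs.smul_left, hz, huu, hu, hzu, a1z, a1u, a2z, a2u, hs.symm z y₁,
          hs.symm u y₁, hs.symm z y₂, hs.symm u y₂, h12, h21]
        all_goals field_simp
        all_goals ring
      have e' := congrArg (tmul x) e
      rw [tmul_zero_right] at e'
      simp only [L, LinearMap.sub_apply, LinearMap.smul_apply, LinearMap.comp_apply, LinearMap.id_apply, fac_apply,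
        hO.sl_tmul, tmul_smul_left, smul_smul, LinearMap.zero_apply]
      simpa only [tmul_sub_right, tmul_smul_right] using e'
    have := LinearMap.congr_fun hL t
    simp only [L, LinearMap.sub_apply, LinearMap.smul_apply, LinearMap.comp_apply, LinearMap.id_apply, fac_apply,
      ht, tmul_zero_left, sub_zero, LinearMap.zero_apply] at this
    linear_combination (norm := abel) this
  -- the two middle maps
  let C : (β → F) → GL (α × β) F → Ea := fun w k =>
    (sl fB w).comp ((Matrix.toLin' (k : Mn) - LinearMap.id).comp (fac u))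
  have hC : ∀ w k x, C w k x = sl fB w ((k : Mn) *ᵥ tmul x u - tmul x u) := fun w k x => rfl
  let Pr : Ea × Ea → Ea × Ea → Prop := fun S S' => ∀ x x',
    (fB y₁ y₁)⁻¹ * fA (S.1 x) (S'.1 x') + (fB y₂ y₂)⁻¹ * fA (S.2 x) (S'.2 x') =
      (fB y₁ y₁)⁻¹ * fA (S'.1 x) (S.1 x') + (fB y₂ y₂)⁻¹ * fA (S'.2 x) (S.2 x')
  have hpair : ∀ {k k' : GL (α × β) F}, Rad fB k z → k ∈ M → Rad fB k' z → k' ∈ M →
      Pr (C y₁ k, C y₂ k) (C y₁ k', C y₂ k') := by
    intro k k' hk hkM hk' hk'M x x'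
    have hr : ∀ {k : GL (α × β) F}, Rad fB k z → k ∈ M → ∀ x, sl fB z ((k : Mn) *ᵥ tmul x u - tmul x u) = 0 :=
      fun {k} hk hkM x => by rw [map_sub, hO.sl_eq hkM hk.fix, sub_self]
    have hform : ∀ s t : V, sl fB z s = 0 → sl fB z t = 0 → f s t =
        (fB y₁ y₁)⁻¹ * fA (sl fB y₁ s) (sl fB y₁ t) + (fB y₂ y₂)⁻¹ * fA (sl fB y₂ s) (sl fB y₂ t) := by
      intro s t hs' ht
      conv_lhs => rw [hdec t ht]
      rw [hO.hV.add_right, hO.hV.add_right, hO.hV.smul_right, hO.hV.smul_right, hO.f_sl, hO.f_sl, hO.f_sl, hs',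
        hA.zero_left, add_zero]
    have := hk.pair hO hN hkM hk' hk'M hz hz0 hu x x'
    rw [hform _ _ (hr hk hkM x) (hr hk' hk'M x'), hform _ _ (hr hk' hk'M x) (hr hk hkM x')] at this
    simp only [hC]
    exact this
  obtain ⟨T, hT⟩ : ∃ T : Submodule F (Ea × Ea),
      T = Submodule.span F ((fun k => (C y₁ k, C y₂ k)) '' {k | k ∈ M ∧ Rad fB k z}) := ⟨_, rfl⟩
  have hgT : (C y₁ g, C y₂ g) ∈ T := hT ▸ Submodule.subset_span ⟨g, ⟨hg, h⟩, rfl⟩
  -- self-adjoint
  have heich : ∀ w, fB w z = 0 → fB w u = 0 → ∃ e, e ∈ M ∧ Rad fB e z ∧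
      ∀ x v, fB v z = 0 → fB v u = 0 → C v e x = fB w v • x := by
    intro w hwz hwu
    obtain ⟨e, he, -, hex⟩ := hO.exists_eichB hz hwz
    refine ⟨e, he, ⟨hO.eich_fix_tmul hex hz (by rw [hs.symm, hwz]), fun t ht => ⟨-sl fB w t, by
      rw [hO.eich_perp hex ht, show ∀ a : α → F, tmul (-a) z = -tmul a z from fun a => (fac z).map_neg a]
      abel⟩⟩, fun x v hvz hvu => ?_⟩
    rw [hC, hex, hO.sl_tmul, hO.sl_tmul, hu, hs.symm u w, hwu, one_smul, zero_smul, tmul_zero_left, sub_zero,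
      map_sub, map_sub, map_add, map_smul, hO.sl_tmul, hO.sl_tmul, hs.symm u v, hvu,
      hO.sl_tmul, hs.symm z v, hvz]
    simp
  have hTsa : ∀ S ∈ T, (∀ x x', fA (S.1 x) x' = fA x (S.1 x')) ∧ (∀ x x', fA (S.2 x) x' = fA x (S.2 x')) := by
    intro S hS
    subst hT
    induction hS using Submodule.span_induction with
    | mem S hS =>
      obtain ⟨k, ⟨hkM, hk⟩, rfl⟩ := hS
      obtain ⟨e₁, he₁, hR₁, hc₁⟩ := heich y₁ a1z a1u
      obtain ⟨e₂, he₂, hR₂, hc₂⟩ := heich y₂ a2z a2u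
      refine ⟨fun x x' => ?_, fun x x' => ?_⟩
      · have := hpair hk hkM hR₁ he₁ x x'
        simp only [hc₁ _ _ a1z a1u, hc₁ _ _ a2z a2u, h12, zero_smul, hA.zero_left, hA.zero_right, mul_zero,
          add_zero, hA.smul_left, hA.smul_right, ← mul_assoc, inv_mul_cancel₀ hn₁, one_mul] at this
        exact this
      · have := hpair hk hkM hR₂ he₂ x x'
        simp only [hc₂ _ _ a1z a1u, hc₂ _ _ a2z a2u, h21, zero_smul, hA.zero_left, hA.zero_right, mul_zero,
          zero_add, hA.smul_left, hA.smul_right, ← mul_assoc, inv_mul_cancel₀ hn₂, one_mul] at this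
        exact this
    | zero => simp [hA.zero_left, hA.zero_right]
    | add a b _ _ ha hb =>
      exact ⟨fun x x' => by simp only [Prod.fst_add, LinearMap.add_apply, hA.add_left, hA.add_right, ha.1, hb.1],
        fun x x' => by simp only [Prod.snd_add, LinearMap.add_apply, hA.add_left, hA.add_right, ha.2, hb.2]⟩
    | smul c a _ ha =>
      exact ⟨fun x x' => by simp only [Prod.smul_fst, LinearMap.smul_apply, hA.smul_left, hA.smul_right, ha.1],
        fun x x' => by simp only [Prod.smul_snd, LinearMap.smul_apply, hA.smul_left, hA.smul_right, ha.2]⟩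
  have hTPr : ∀ S ∈ T, ∀ S' ∈ T, Pr S S' := by
    subst hT
    intro S hS S' hS'
    induction hS using Submodule.span_induction with
    | zero => intro x x'; simp [hA.zero_left, hA.zero_right]
    | add a b _ _ ha hb =>
      intro x x'
      simp only [Prod.fst_add, Prod.snd_add, LinearMap.add_apply, hA.add_left, hA.add_right]
      linear_combination ha x x' + hb x x'
    | smul c a _ ha =>
      intro x x'
      simp only [Prod.smul_fst, Prod.smul_snd, LinearMap.smul_apply, hA.smul_left, hA.smul_right]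
      linear_combination c * ha x x'
    | mem S hS =>
      induction hS' using Submodule.span_induction with
      | zero => intro x x'; simp [hA.zero_left, hA.zero_right]
      | add a b _ _ ha hb =>
        intro x x'
        simp only [Prod.fst_add, Prod.snd_add, LinearMap.add_apply, hA.add_left, hA.add_right]
        linear_combination ha x x' + hb x x'
      | smul c a _ ha =>
        intro x x'
        simp only [Prod.smul_fst, Prod.smul_snd, LinearMap.smul_apply, hA.smul_left, hA.smul_right]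
        linear_combination c * ha x x'
      | mem S' hS' =>
        obtain ⟨k, ⟨hkM, hk⟩, rfl⟩ := hS
        obtain ⟨k', ⟨hk'M, hk'⟩, rfl⟩ := hS'
        exact hpair hk hkM hk' hk'M
  -- invariant under the first factor
  have hTinv : ∀ k ∈ siegGrp fA, ∀ S ∈ T, (cj k).prodMap (cj k) S ∈ T := by
    intro k hk S hS
    subst hT
    induction hS using Submodule.span_induction with
    | mem S hS =>
      obtain ⟨k', ⟨hk'M, hk'⟩, rfl⟩ := hS
      obtain ⟨K, hK⟩ : ∃ K, K = kg k (1 : GL β F) := ⟨_, rfl⟩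
      have hKM : K ∈ M := hK ▸ hO.kA hk
      have hKx : ∀ x w, (K : Mn) *ᵥ tmul x w = tmul ((k : Ma) *ᵥ x) w := fun x w => by
        rw [hK, kg_apply, Units.val_one, Matrix.one_mulVec]
      refine Submodule.subset_span ⟨K * k' * K⁻¹, ⟨mul_mem (mul_mem hKM hk'M) (inv_mem hKM),
        Rad.conj hO hk' hKM fun a => ⟨_, hKx a z⟩⟩, ?_⟩
      have e : ∀ w, C w (K * k' * K⁻¹) = cj k (C w k') := fun w => LinearMap.ext fun x => by
        obtain ⟨x', rfl⟩ : ∃ x', (k : Ma) *ᵥ x' = x := ⟨_, mulVec_inv_cancel k x⟩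
        rw [cj_apply, inv_mulVec_cancel, hC, hC, ← hKx x', Units.val_mul, Units.val_mul, ← Matrix.mulVec_mulVec,
          ← Matrix.mulVec_mulVec, inv_mulVec_cancel, ← Matrix.mulVec_sub]
        have e2 : (sl fB w).comp (Matrix.toLin' (K : Mn)) = (Matrix.toLin' (k : Ma)).comp (sl fB w) :=
          ext_pure fun a b => by
            simp only [LinearMap.comp_apply, Matrix.toLin'_apply, hKx, hO.sl_tmul, Matrix.mulVec_smul]
        exact LinearMap.congr_fun e2 _
      exact Prod.ext (e y₁) (e y₂)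
    | zero => rw [map_zero]; exact zero_mem _
    | add a b _ _ ha hb => rw [map_add]; exact add_mem ha hb
    | smul c a _ ha => rw [map_smul]; exact Submodule.smul_mem _ _ ha
  obtain ⟨c₁, c₂, hc₁, hc₂⟩ := pair_scalar hA h2 hO.ha hO.hex T hTsa hTinv (fB y₁ y₁)⁻¹ (fB y₂ y₂)⁻¹
    (fun δ₁ δ₂ hδ => by
      have hw := haW (((fB y₁ y₁)⁻¹ * δ₁) • y₁ + ((fB y₂ y₂)⁻¹ * δ₂) • y₂)
        (add_mem (Submodule.smul_mem _ _ hy₁) (Submodule.smul_mem _ _ hy₂)) (by
          simp only [hs.add_left, hs.add_right, hs.smul_left, hs.smul_right, h12, h21]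
          linear_combination (norm := skip) hδ
          field_simp
          ring)
      have k1 := congrArg (fun v => fB v y₁) hw
      have k2 := congrArg (fun v => fB v y₂) hw
      simp only [hs.add_left, hs.smul_left, hs.zero_left, h12, h21, mul_zero, add_zero, zero_add] at k1 k2
      rw [inv_mul_eq_div, div_mul_cancel₀ _ hn₁] at k1
      rw [inv_mul_eq_div, div_mul_cancel₀ _ hn₂] at k2
      exact ⟨k1, k2⟩) hTPr _ hgT
  obtain ⟨r, hr⟩ : ∃ r, r = y - ((fB y₁ y₁)⁻¹ * fB y y₁) • y₁ - ((fB y₂ y₂)⁻¹ * fB y y₂) • y₂ - fB y u • z :=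
    ⟨_, rfl⟩
  have hr0 : r = 0 := by
    refine hO.four_basis h4 hz huu hu hy₁ hy₂ h12 hn₁ hn₂ ?_ ?_ ?_ ?_
    all_goals simp only [hr, hs.sub_left, hs.smul_left, hz, hu, hzu, hy, a1z, a1u, a2z, a2u, hs.symm z y₁,
      hs.symm z y₂, h12, h21]
    all_goals field_simp
    all_goals ring
  refine ⟨(fB y₁ y₁)⁻¹ * fB y y₁ * c₁ + (fB y₂ y₂)⁻¹ * fB y y₂ * c₂, fun x => ?_⟩
  have ey : y = ((fB y₁ y₁)⁻¹ * fB y y₁) • y₁ + ((fB y₂ y₂)⁻¹ * fB y y₂) • y₂ + fB y u • z := by
    rw [hr] at hr0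
    linear_combination (norm := abel) hr0
  conv_lhs => rw [ey]
  rw [hO.sl_add, hO.sl_add, hO.sl_smul, hO.sl_smul, hO.sl_smul, ← hC, ← hC, show C y₁ g = c₁ • LinearMap.id from hc₁, show C y₂ g = c₂ • LinearMap.id from hc₂,
    map_sub (sl fB z), hO.sl_eq hg h.fix, sub_self, smul_zero, add_zero, LinearMap.smul_apply,
    LinearMap.smul_apply, LinearMap.id_apply]
  module

/-- The middle part of a radical element is scalar when the middle space is a line. -/
theorem Rad.scal_three {g : GL (α × β) F} {z : β → F} (h : Rad fB g z) (hg : g ∈ M) (h3 : Fintype.card β = 3)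
    (hz : fB z z = 0) (hz0 : z ≠ 0) {u : β → F} (huu : fB u u = 0) (hu : fB u z = 1) {y : β → F}
    (hy : fB y z = 0) : ∃ μ : F, ∀ x, sl fB y ((g : Mn) *ᵥ tmul x u - tmul x u) = μ • x := by
  classical
  have hs := hO.hB
  have hA := hO.hA
  obtain ⟨c, hc, hcc⟩ := hs.exists_aniso hO.two (hs.ndOn_perp2 huu hz hu)
    (Submodule.exists_mem_ne_zero_of_ne_bot fun e => by
      have := hs.finrank_perp2 u z
      rw [e, finrank_bot] at *; omega)
  have hcu : fB c u = 0 := hc.1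
  have hcz : fB c z = 0 := hc.2
  have hdec : ∀ t : V, sl fB z t = 0 →
      t = (fB c c)⁻¹ • tmul (sl fB c t) c + tmul (sl fB u t) z := by
    intro t ht
    let L : V →ₗ[F] V := LinearMap.id - (fB c c)⁻¹ • (fac c).comp (sl fB c) -
      (fac z).comp (sl fB u) - (fac u).comp (sl fB z)
    have hL : L = 0 := ext_pure fun x w => by
      have e := congrArg (tmul x) (hO.hB.three_basis h3 hz huu hu hcu hcz hcc w)
      simp only [L, LinearMap.sub_apply, LinearMap.smul_apply, LinearMap.comp_apply, LinearMap.id_apply, fac_apply,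
        hO.sl_tmul, tmul_smul_left, smul_smul, LinearMap.zero_apply]
      simp only [tmul_add_right, tmul_smul_right] at e
      linear_combination (norm := module) e
    have := LinearMap.congr_fun hL t
    simp only [L, LinearMap.sub_apply, LinearMap.smul_apply, LinearMap.comp_apply, LinearMap.id_apply, fac_apply,
      ht, tmul_zero_left, sub_zero, LinearMap.zero_apply] at this
    linear_combination (norm := module) this
  let C : GL (α × β) F → Ea := fun k => (sl fB c).comp ((Matrix.toLin' (k : Mn) - LinearMap.id).comp (fac u))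
  have hC : ∀ k x, C k x = sl fB c ((k : Mn) *ᵥ tmul x u - tmul x u) := fun k x => rfl
  have hrz : ∀ {k : GL (α × β) F}, Rad fB k z → k ∈ M → ∀ x, sl fB z ((k : Mn) *ᵥ tmul x u - tmul x u) = 0 :=
    fun {k} hk hkM x => by rw [map_sub, hO.sl_eq hkM hk.fix, sub_self]
  have hpair : ∀ {k k' : GL (α × β) F}, Rad fB k z → k ∈ M → Rad fB k' z → k' ∈ M →
      ∀ x x', fA (C k x) (C k' x') = fA (C k' x) (C k x') := by
    intro k k' hk hkM hk' hk'M x x'
    have hform : ∀ s t : V, sl fB z s = 0 → sl fB z t = 0 →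
        f s t = (fB c c)⁻¹ * fA (sl fB c s) (sl fB c t) := by
      intro s t hs' ht
      conv_lhs => rw [hdec t ht]
      rw [hO.hV.add_right, hO.hV.smul_right, hO.f_sl, hO.f_sl, hs', hA.zero_left, add_zero]
    have := hk.pair hO hN hkM hk' hk'M hz hz0 hu x x'
    rw [hform _ _ (hrz hk hkM x) (hrz hk' hk'M x'), hform _ _ (hrz hk' hk'M x) (hrz hk hkM x')] at this
    exact mul_left_cancel₀ (inv_ne_zero hcc) this
  obtain ⟨e, he, -, hex⟩ := hO.exists_eichB hz hcz
  have heR : Rad fB e z := ⟨hO.eich_fix_tmul hex hz (by rw [hs.symm, hcz]), fun t ht => ⟨-sl fB c t, by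
    rw [hO.eich_perp hex ht, show ∀ a : α → F, tmul (-a) z = -tmul a z from fun a => (fac z).map_neg a]
    abel⟩⟩
  have heC : ∀ x, C e x = fB c c • x := fun x => by
    rw [hC, hex, hO.sl_tmul, hO.sl_tmul, hu, hs.symm u c, hcu, one_smul, zero_smul, tmul_zero_left, sub_zero,
      map_sub, map_sub, map_add, map_smul, hO.sl_tmul, hO.sl_tmul, hO.sl_tmul, hs.symm u c, hcu, hs.symm z c, hcz]
    simp
  have hsa : ∀ {k : GL (α × β) F}, Rad fB k z → k ∈ M → ∀ x x', fA (C k x) x' = fA x (C k x') := by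
    intro k hk hkM x x'
    have := hpair hk hkM heR he x x'
    rw [heC, heC, hA.smul_right, hA.smul_left] at this
    exact mul_left_cancel₀ hcc this
  obtain ⟨μ, hμ⟩ := scalar_of_comm_cj hA hO.two hO.ha hO.hex (hsa h hg) fun k hk x => by
    obtain ⟨K, hK⟩ : ∃ K, K = kg k (1 : GL β F) := ⟨_, rfl⟩
    have hKM : K ∈ M := hK ▸ hO.kA hk
    have hKx : ∀ x w, (K : Mn) *ᵥ tmul x w = tmul ((k : Ma) *ᵥ x) w := fun x w => by
      rw [hK, kg_apply, Units.val_one, Matrix.one_mulVec]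
    have hR := Rad.conj hO h hKM fun a => ⟨_, hKx a z⟩
    have hM' : K * g * K⁻¹ ∈ M := mul_mem (mul_mem hKM hg) (inv_mem hKM)
    have hCK : C (K * g * K⁻¹) = cj k (C g) := LinearMap.ext fun x => by
      obtain ⟨x', rfl⟩ : ∃ x', (k : Ma) *ᵥ x' = x := ⟨_, mulVec_inv_cancel k x⟩
      rw [cj_apply, inv_mulVec_cancel, hC, hC, ← hKx x', Units.val_mul, Units.val_mul, ← Matrix.mulVec_mulVec,
        ← Matrix.mulVec_mulVec, inv_mulVec_cancel, ← Matrix.mulVec_sub]
      have e2 : (sl fB c).comp (Matrix.toLin' (K : Mn)) = (Matrix.toLin' (k : Ma)).comp (sl fB c) :=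
        ext_pure fun a b => by
          simp only [LinearMap.comp_apply, Matrix.toLin'_apply, hKx, hO.sl_tmul, Matrix.mulVec_smul]
      exact LinearMap.congr_fun e2 _
    refine hA.eq_of_forall fun x' => ?_
    have e1 := hsa h hg (C (K * g * K⁻¹) x) x'
    have e2 := hsa hR hM' (C g x) x'
    rw [← hCK, e1, e2]
    exact (hpair h hg hR hM' x x').symm
  have hyc : y = fB y u • z + ((fB c c)⁻¹ * fB y c) • c := by
    have := hO.hB.three_basis h3 hz huu hu hcu hcz hcc y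
    rwa [hy, zero_smul, add_zero] at this
  refine ⟨(fB c c)⁻¹ * fB y c * μ, fun x => ?_⟩
  conv_lhs => rw [hyc]
  rw [hO.sl_add, hO.sl_smul, hO.sl_smul, hrz h hg, smul_zero, zero_add, ← hC, hμ, smul_smul]

/-- The middle part of a radical element is scalar. -/
theorem Rad.scal {g : GL (α × β) F} {z : β → F} (h : Rad fB g z) (hg : g ∈ M) (hz : fB z z = 0) (hz0 : z ≠ 0)
    {u : β → F} (huu : fB u u = 0) (hu : fB u z = 1) {y : β → F} (hy : fB y z = 0) :
    ∃ μ : F, ∀ x, sl fB y ((g : Mn) *ᵥ tmul x u - tmul x u) = μ • x := by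
  by_cases h3 : Fintype.card β = 3
  · exact h.scal_three hO hN hg h3 hz hz0 huu hu hy
  by_cases h4 : Fintype.card β = 4
  · exact h.scal_four hO hN hg h4 hz hz0 huu hu hy
  have hb5 : 5 ≤ Fintype.card β := by have := hO.hb; omega
  have hs := hO.hB
  have hzu : fB z u = 1 := by rw [hs.symm, hu]
  obtain ⟨r, hr⟩ : ∃ r : (α → F) →ₗ[F] V, r = (Matrix.toLin' (g : Mn) - LinearMap.id).comp (fac u) := ⟨_, rfl⟩
  have hrx : ∀ x, r x = (g : Mn) *ᵥ tmul x u - tmul x u := fun x => by rw [hr]; rfl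
  simp only [← hrx]
  have hrz : ∀ x, sl fB z (r x) = 0 := fun x => by rw [hrx, map_sub, hO.sl_eq hg h.fix, sub_self]
  -- singular vectors of the middle space
  have hsing : ∀ b, fB b b = 0 → fB b u = 0 → fB b z = 0 → ∃ μ : F, ∀ x, sl fB b (r x) = μ • x := by
    intro b hbb hbu hbz
    rcases eq_or_ne b 0 with rfl | hb0
    · exact ⟨0, fun x => by rw [hO.sl_zero, zero_smul]⟩
    obtain ⟨C, hC⟩ : ∃ C : Ea, C = (sl fB b).comp r := ⟨_, rfl⟩
    have hCx : ∀ x, C x = sl fB b (r x) := fun x => by rw [hC]; rfl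
    simp only [← hCx]
    -- self-adjoint
    have hsa : ∀ x x', fA (C x) x' = fA x (C x') := by
      intro x x'
      obtain ⟨e, he, -, hex⟩ := hO.exists_eichB hz hbz
      have hre : ∀ x, (e : Mn) *ᵥ tmul x u - tmul x u = tmul x b := fun x => by
        rw [hex, hO.sl_tmul, hO.sl_tmul, hu, hs.symm u b, hbu, hbb]
        simp [tmul_zero_left]
      have := h.pair hO hN hg ⟨hO.eich_fix_tmul hex hz (by rw [hs.symm, hbz]), fun t ht => ⟨-sl fB b t, by
        rw [hO.eich_perp hex ht, show ∀ a : α → F, tmul (-a) z = -tmul a z from fun a => (fac z).map_neg a]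
        abel⟩⟩ he hz hz0 hu x x'
      rw [hre, hre, ← hrx, ← hrx, hO.f_sl, hO.f_sl', ← hCx, ← hCx] at this
      exact this
    refine scalar_of_comm_cj hO.hA hO.two hO.ha hO.hex hsa fun k hk x => hO.hA.eq_of_forall fun x' => ?_
    -- an anisotropic vector orthogonal to `z`, `u`, `b`
    obtain ⟨c, hcW, hcb, hcc⟩ : ∃ c ∈ hs.perp2 u z, fB c b = 0 ∧ fB c c ≠ 0 := by
      have hW := hs.ndOn_perp2 huu hz hu
      have hbW : b ∈ hs.perp2 u z := ⟨hbu, hbz⟩
      obtain ⟨y, hy, hby⟩ := hW b hbW hb0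
      obtain ⟨d, hd, hdb⟩ : ∃ d ∈ hs.perp2 u z, fB d b = 1 :=
        ⟨(fB b y)⁻¹ • y, Submodule.smul_mem _ _ hy, by rw [hs.smul_left, hs.symm y b, inv_mul_cancel₀ hby]⟩
      by_contra hc
      push Not at hc
      obtain ⟨d', hd'⟩ : ∃ d', d' = d + (-(fB d d / 2)) • b := ⟨_, rfl⟩
      have hd'W : d' ∈ hs.perp2 u z := hd' ▸ add_mem hd (Submodule.smul_mem _ _ hbW)
      have hd'b : fB d' b = 1 := by rw [hd', hs.add_left, hs.smul_left, hdb, hbb, mul_zero, add_zero]
      obtain ⟨w, hw, hwb, hwd, hw0⟩ : ∃ w ∈ hs.perp2 u z, fB w b = 0 ∧ fB w d' = 0 ∧ w ≠ 0 := by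
        have h1 := finrank_le_inf_ker_add_one (hs.perp2 u z) (hs.lin b)
        have h3 := finrank_le_inf_ker_add_one (hs.perp2 u z ⊓ LinearMap.ker (hs.lin b)) (hs.lin d')
        obtain ⟨w, hw, hw0⟩ := Submodule.exists_mem_ne_zero_of_ne_bot
          (p := hs.perp2 u z ⊓ LinearMap.ker (hs.lin b) ⊓ LinearMap.ker (hs.lin d')) fun h => by
            have := hs.finrank_perp2 u z
            have := hO.hb
            rw [h, finrank_bot] at h3
            omega
        exact ⟨w, hw.1.1, hw.1.2, hw.2, hw0⟩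
      obtain ⟨v, hv, hwv⟩ := hW w hw hw0
      obtain ⟨v', hv'⟩ : ∃ v', v' = v - fB v b • d' := ⟨_, rfl⟩
      have h1 : fB v' b = 0 := by rw [hv', hs.sub_left, hs.smul_left, hd'b, mul_one, sub_self]
      have hv'W : v' ∈ hs.perp2 u z := hv' ▸ sub_mem hv (Submodule.smul_mem _ _ hd'W)
      have h4 := hc _ (add_mem hw hv'W) (by rw [hs.add_left, hwb, h1, add_zero])
      rw [hs.add_left, hs.add_right, hs.add_right, hc w hw hwb, hc v' hv'W h1, hs.symm v' w, zero_add, add_zero,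
        hv', hs.sub_right, hs.smul_right, hwd, mul_zero, sub_zero] at h4
      exact hwv ((mul_eq_zero.1 ((two_mul _).trans h4)).resolve_left hO.two)
    have hcu : fB c u = 0 := hcW.1
    have hcz : fB c z = 0 := hcW.2
    obtain ⟨e₁, he₁, -, hex₁⟩ := hO.exists_eichB hbb hcb
    obtain ⟨e₂, he₂, -, hex₂⟩ := hO.exists_eichB hbb (y := -c) (by rw [hs.neg_left, hcb, neg_zero])
    have hK := hO.kA hk
    -- the conjugates
    have conjr : ∀ e ∈ M, (∀ x, (e : Mn) *ᵥ tmul x z = tmul x z) → (∀ x, (e : Mn) *ᵥ tmul x u = tmul x u) →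
        f (r x) ((kg k (1 : GL β F) : Mn) *ᵥ ((e : Mn) *ᵥ r (((k⁻¹ : GL α F) : Ma) *ᵥ x'))) =
          f ((kg k (1 : GL β F) : Mn) *ᵥ ((e : Mn) *ᵥ r (((k⁻¹ : GL α F) : Ma) *ᵥ x))) (r x') := by
      intro e he hez heu
      obtain ⟨K, hK'⟩ : ∃ K, K = kg k (1 : GL β F) * e := ⟨_, rfl⟩
      have hKM : K ∈ M := hK' ▸ mul_mem hK he
      have hKz : ∀ a, (K : Mn) *ᵥ tmul a z = tmul ((k : Ma) *ᵥ a) z := fun a => by
        rw [hK', Units.val_mul, ← Matrix.mulVec_mulVec, hez, kg_apply, Units.val_one, Matrix.one_mulVec]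
      have hKu : ∀ a, (K : Mn) *ᵥ tmul (((k⁻¹ : GL α F) : Ma) *ᵥ a) u = tmul a u := fun a => by
        rw [hK', Units.val_mul, ← Matrix.mulVec_mulVec, heu, kg_apply, Units.val_one, Matrix.one_mulVec,
          mulVec_inv_cancel]
      have hrK : ∀ a, ((K * g * K⁻¹ : GL _ F) : Mn) *ᵥ tmul a u - tmul a u =
          (kg k (1 : GL β F) : Mn) *ᵥ ((e : Mn) *ᵥ r (((k⁻¹ : GL α F) : Ma) *ᵥ a)) := fun a => by
        rw [Matrix.mulVec_mulVec, ← Units.val_mul, ← hK', hrx, Matrix.mulVec_sub, hKu]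
        nth_rw 1 [← hKu a]
        rw [Units.val_mul, Units.val_mul, ← Matrix.mulVec_mulVec, ← Matrix.mulVec_mulVec, inv_mulVec_cancel]
      have := h.pair hO hN hg (Rad.conj hO h hKM fun a => ⟨_, hKz a⟩) (mul_mem (mul_mem hKM hg) (inv_mem hKM))
        hz hz0 hu x x'
      rw [hrK, hrK, ← hrx, ← hrx] at this
      exact this
    have hsum : ∀ t, (e₁ : Mn) *ᵥ t + (e₂ : Mn) *ᵥ t - (2 : F) • t = (-fB c c) • tmul (sl fB b t) b := by
      intro t
      rw [hex₁, hex₂, hO.sl_neg, hs.neg_left, hs.neg_right, neg_neg,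
        show ∀ a : α → F, tmul (-a) b = -tmul a b from fun a => (fac b).map_neg a,
        show ∀ a : α → F, tmul a (-c) = -tmul a c from fun a => by
          rw [← neg_one_smul F c, tmul_smul_right, neg_one_smul]]
      have := hO.two
      match_scalars <;> field_simp <;> ring
    have hz' : ∀ w, fB z w = fB w z := fun w => hs.symm z w
    have q1 := conjr e₁ he₁ (hO.eich_fix_tmul hex₁ (by rw [hz', hbz]) (by rw [hz', hcz]))
      (hO.eich_fix_tmul hex₁ (by rw [hs.symm, hbu]) (by rw [hs.symm, hcu]))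
    have q2 := conjr e₂ he₂ (hO.eich_fix_tmul hex₂ (by rw [hz', hbz]) (by rw [hz', hs.neg_left, hcz, neg_zero]))
      (hO.eich_fix_tmul hex₂ (by rw [hs.symm, hbu]) (by rw [hs.neg_right, hs.symm, hcu, neg_zero]))
    have q0 := conjr 1 (one_mem M) (fun a => by simp) (fun a => by simp)
    simp only [Units.val_one, Matrix.one_mulVec] at q0
    have hL : ∀ a, (kg k (1 : GL β F) : Mn) *ᵥ ((e₁ : Mn) *ᵥ r a) + (kg k (1 : GL β F) : Mn) *ᵥ ((e₂ : Mn) *ᵥ r a) -
        (2 : F) • ((kg k (1 : GL β F) : Mn) *ᵥ r a) = (-fB c c) • tmul ((k : Ma) *ᵥ C a) b := fun a => by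
      rw [← Matrix.mulVec_add, ← Matrix.mulVec_smul, ← Matrix.mulVec_sub, hsum, Matrix.mulVec_smul, kg_apply,
        Units.val_one, Matrix.one_mulVec, hCx]
    have key : f (r x) ((-fB c c) • tmul (cj k C x') b) = f ((-fB c c) • tmul (cj k C x) b) (r x') := by
      rw [cj_apply, cj_apply, ← hL, ← hL]
      simp only [hO.hV.sub_right, hO.hV.sub_left, hO.hV.add_right, hO.hV.add_left, hO.hV.smul_right,
        hO.hV.smul_left]
      linear_combination q1 + q2 - 2 * q0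
    rw [hO.hV.smul_right, hO.hV.smul_left] at key
    have key' := mul_left_cancel₀ (neg_ne_zero.2 hcc) key
    rw [hO.f_sl, hO.f_sl', ← hCx, ← hCx, ← cj_adj hO.hA (hO.hA.siegGrp_le hO.two hk) hsa, ← hsa] at key'
    exact key'.symm
  -- all of the middle space
  let p : Submodule F (β → F) :=
    { carrier := {y | ∃ μ : F, ∀ x, sl fB y (r x) = μ • x}
      add_mem' := fun {a b} ⟨μ, ha⟩ ⟨ν, hb⟩ => ⟨μ + ν, fun x => by rw [hO.sl_add, ha, hb, add_smul]⟩
      zero_mem' := ⟨0, fun x => by rw [hO.sl_zero, zero_smul]⟩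
      smul_mem' := fun c a ⟨μ, ha⟩ => ⟨c * μ, fun x => by rw [hO.sl_smul, ha, mul_smul]⟩ }
  show y ∈ p
  have hzp : z ∈ p := ⟨0, fun x => by rw [hrz, zero_smul]⟩
  obtain ⟨b, hb, c, hc, hbb, hcc, hcb⟩ := hs.exists_pair_in hO.two (hs.ndOn_perp2 huu hz hu)
    (by have := hs.finrank_perp2 u z; have := hO.hb; omega)
  have hW : y - fB y u • z ∈ hs.perp2 u z := hs.mem_perp2.2
    ⟨by rw [hs.sub_left, hs.smul_left, hzu, mul_one, sub_self],
      by rw [hs.sub_left, hs.smul_left, hy, hz, mul_zero, sub_zero]⟩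
  have := hs.mem_of_iso hO.two hb hc hbb hcc hcb (p := p) (fun v hv hvv => hsing v hvv hv.1 hv.2) hW
  simpa using p.add_mem this (p.smul_mem (fB y u) hzp)

/-- A radical element is a Siegel map of the second factor. -/
theorem Rad.eich {g : GL (α × β) F} {z : β → F} (h : Rad fB g z) (hg : g ∈ M) (hz : fB z z = 0) (hz0 : z ≠ 0) :
    IsKron g ∧ ∃ y, fB y z = 0 ∧ IsEich fB g z y := by
  classical
  have hs := hO.hB
  obtain ⟨u, huu, hu⟩ := hs.exists_partner hO.two hz hz0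
  have hzu : fB z u = 1 := by rw [hs.symm, hu]
  obtain ⟨x₀, hx₀⟩ : ∃ x₀ : α → F, x₀ ≠ 0 := by
    obtain ⟨i⟩ := hO.nonempty
    exact ⟨Pi.single i 1, by simp⟩
  obtain ⟨ξ, hξ⟩ := exists_dual hx₀
  let L : (β → F) →ₗ[F] F :=
    { toFun := fun y => ξ ⬝ᵥ sl fB y ((g : Mn) *ᵥ tmul x₀ u - tmul x₀ u)
      map_add' := fun a b => by rw [hO.sl_add, dotProduct_add]
      map_smul' := fun c a => by rw [hO.sl_smul, dotProduct_smul, RingHom.id_apply] }
  obtain ⟨y₀, hy₀⟩ := hs.exists_dual_vec L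
  have hy₀z : fB y₀ z = 0 := by
    rw [hs.symm, ← hy₀]
    show ξ ⬝ᵥ sl fB z _ = 0
    rw [map_sub, hO.sl_eq hg h.fix, sub_self, dotProduct_zero]
  have hy₀z' : fB (-y₀) z = 0 := by rw [hs.neg_left, hy₀z, neg_zero]
  obtain ⟨e, -, hek, hex⟩ := hO.exists_eichB hz hy₀z
  obtain ⟨e', he', -, hex'⟩ := hO.exists_eichB hz hy₀z'
  obtain ⟨g', hg'⟩ : ∃ g', g' = g * e' := ⟨_, rfl⟩
  have hg'M : g' ∈ M := hg' ▸ mul_mem hg he'
  have hfix : ∀ x, (g' : Mn) *ᵥ tmul x z = tmul x z := fun x => by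
    rw [hg', Units.val_mul, ← Matrix.mulVec_mulVec, hO.eich_fix_tmul hex' hz (by rw [hs.symm, hy₀z']), h.fix]
  have hr : ∀ x, ∃ X, (g' : Mn) *ᵥ tmul x u - tmul x u = tmul X z := fun x => by
    have hψ : fn fB u ⬝ᵥ z = 1 := by rw [fn_dot hs.sesq, hzu]
    refine ⟨_, eq_tmul_of_slices hψ fun φ hφ => ?_⟩
    obtain ⟨y, rfl⟩ := fn_surjective hs.sesq φ
    rw [fn_dot hs.sesq, hs.symm] at hφ
    show sl fB y _ = 0
    obtain ⟨μ, hμ⟩ := h.scal hO hN hg hz hz0 huu hu hφ
    have hμy : μ = fB y y₀ := by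
      rw [← hy₀]
      show μ = ξ ⬝ᵥ sl fB y _
      rw [hμ, dotProduct_smul, hξ, smul_eq_mul, mul_one]
    obtain ⟨X, hX⟩ := h.act (tmul x y₀) (by rw [hO.sl_tmul, hy₀z, zero_smul])
    rw [hg', Units.val_mul, ← Matrix.mulVec_mulVec, hex', hO.sl_tmul, hO.sl_tmul, hu, one_smul,
      show tmul x (-y₀) = -tmul x y₀ by rw [← neg_one_smul F y₀, tmul_smul_right, neg_one_smul],
      Matrix.mulVec_sub, Matrix.mulVec_sub, Matrix.mulVec_add, Matrix.mulVec_neg, Matrix.mulVec_smul, h.fix, h.fix,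
      eq_add_of_sub_eq hX]
    have e1 := hμ x
    rw [map_sub, hO.sl_tmul] at e1
    simp only [map_sub, map_add, map_neg, map_smul, hO.sl_tmul, hs.symm z y, hφ, hs.symm y₀ y, ← hμy, zero_smul,
      smul_zero, sub_zero, zero_add]
    linear_combination (norm := module) e1
  have hperp : ∀ t, sl fB z t = 0 → (g' : Mn) *ᵥ t = t := fun t ht => by
    obtain ⟨X₁, hX₁⟩ := h.act _ (show sl fB z ((e' : Mn) *ᵥ t) = 0 by
      rw [hO.sl_eq he' (hO.eich_fix_tmul hex' hz (by rw [hs.symm, hy₀z'])), ht])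
    have hX' : (g' : Mn) *ᵥ t - t = tmul (X₁ - sl fB (-y₀) t) z := by
      rw [hg', Units.val_mul, ← Matrix.mulVec_mulVec, eq_add_of_sub_eq hX₁, hO.eich_perp hex' ht, tmul_sub_left]
      abel
    have h0 : X₁ - sl fB (-y₀) t = 0 := hO.hA.eq_zero _ fun x => by
      obtain ⟨X₂, hX₂⟩ := hr x
      have h1 := hO.isoM hg'M t (tmul x u)
      rw [eq_add_of_sub_eq hX', eq_add_of_sub_eq hX₂, hO.hV.add_left, hO.hV.add_right, hO.hV.add_right,
        hO.f_sl t X₂ z, ht, hO.hA.zero_left, hO.ten, hz, mul_zero, hO.ten, hzu, mul_one, zero_add, zero_add,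
        add_eq_right] at h1
      rw [hO.hA.symm]
      exact h1
    rw [eq_add_of_sub_eq hX', h0, tmul_zero_left, zero_add]
  let D : Ea := (sl fB u).comp ((Matrix.toLin' (g' : Mn) - LinearMap.id).comp (fac u))
  have hD : In M (rootMap z (fn fB z) D) := ⟨g', hg'M, fun t => by
    have h1 := hperp (t - tmul (sl fB z t) u) (by rw [map_sub, hO.sl_tmul, hu, one_smul, sub_self])
    rw [Matrix.mulVec_sub] at h1
    obtain ⟨X, hX⟩ := hr (sl fB z t)
    have hDX : D (sl fB z t) = X := by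
      show sl fB u _ = X
      rw [LinearMap.comp_apply, LinearMap.sub_apply, LinearMap.id_apply, Matrix.toLin'_apply, fac_apply, hX,
        hO.sl_tmul, hzu, one_smul]
    rw [rootMap_apply, show slice (fn fB z) t = sl fB z t from rfl, hDX, ← hX]
    linear_combination (norm := abel) h1⟩
  have hg1 : g' = 1 := ext_kron fun x y => by
    have h1 := hperp (tmul x y - fB y z • tmul x u) (by
      rw [map_sub, map_smul, hO.sl_tmul, hO.sl_tmul, hu, one_smul, sub_self])
    obtain ⟨X, hX⟩ := hr x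
    have hX0 : X = 0 := by
      have h3 := hN z hz hz0 D hD x
      change sl fB u ((g' : Mn) *ᵥ tmul x u - tmul x u) = 0 at h3
      rwa [hX, hO.sl_tmul, hzu, one_smul] at h3
    rw [hX0, tmul_zero_left, sub_eq_zero] at hX
    rw [Matrix.mulVec_sub, Matrix.mulVec_smul, hX] at h1
    rw [Units.val_one, Matrix.one_mulVec]
    exact sub_left_injective h1
  have hge : g = e := by
    have h1 : g * e' = 1 := hg' ▸ hg1
    rw [eq_inv_of_mul_eq_one_left h1, eq_inv_of_mul_eq_one_left (hO.eich_cancel hz hy₀z hex hex')]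
  exact ⟨hge ▸ hek, y₀, hy₀z, hge ▸ hex⟩

end Cfsg.Agent.Classical.TensorOrth
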